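import Cfsg.Agent.Lib.Helper49_SylowControl
import Cfsg.Prelude.Def_SylowChains
import Mathlib.Logic.Relation
import Cfsg.Agent.S2940

/-!
helper49: an ambient-group reformulation of `Cfsg.IsFunctorRegular` (Def_SylowChains) in terms of
chains of links between Sylow subgroups, seen as subgroups of the ambient group.
-/

set_option autoImplicit false

namespace Cfsg.Agent.Lib.Helper49_FunctorRegular

open Cfsg Cfsg.Agent.Lib.Helper49_SylowControl

variable {G : Type*} [Group G]

/-- `R` is a Sylow `p`-subgroup of `M` (both subgroups of `G`), by cardinality. -/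
def IsSylIn (p : ℕ) (M R : Subgroup G) : Prop :=
  R ≤ M ∧ Nat.card ↥R = p ^ (Nat.card ↥M).factorization p

/-- One link of a chain, for the family induced by `f` in `M`. -/
def Link (p : ℕ) (f : Subgroup G → Set (Subgroup G)) (M D R R' : Subgroup G) : Prop :=
  ∃ (F : Subgroup G) (x : G), (∃ P, IsSylIn p M P ∧ F ∈ f P) ∧
    R ≤ Subgroup.normalizer (F : Set G) ∧ R' ≤ Subgroup.normalizer (F : Set G) ∧
    x ∈ M ∧ x ∈ Subgroup.normalizer (F : Set G) ∧ subgroupConjRight x R' = R ∧ D ≤ R'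

/-- Regularity of `M` for `f`, in the ambient group. -/
def Reg (p : ℕ) (f : Subgroup G → Set (Subgroup G)) (M : Subgroup G) : Prop :=
  ∀ Q R, IsSylIn p M Q → IsSylIn p M R → Q ≠ R → Q ⊓ R ≠ ⊥ →
    Relation.ReflTransGen (Link p f M (Q ⊓ R)) Q R

theorem Link.mono_D {p : ℕ} {f : Subgroup G → Set (Subgroup G)} {M D D' R R' : Subgroup G}
    (h : D' ≤ D) (hl : Link p f M D R R') : Link p f M D' R R' := by
  obtain ⟨F, x, hP, h1, h2, h3, h4, h5, h6⟩ := hl
  exact ⟨F, x, hP, h1, h2, h3, h4, h5, le_trans h h6⟩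

theorem Link.to_top {p : ℕ} {f : Subgroup G → Set (Subgroup G)} {M D R R' : Subgroup G}
    (hM : ∀ P, IsSylIn p M P → IsSylIn p ⊤ P) (hl : Link p f M D R R') : Link p f ⊤ D R R' := by
  obtain ⟨F, x, ⟨P, hP, hF⟩, h1, h2, h3, h4, h5, h6⟩ := hl
  exact ⟨F, x, ⟨P, hM P hP, hF⟩, h1, h2, Subgroup.mem_top x, h4, h5, h6⟩

theorem mem_normalizer_conjR {g y : G} {F : Subgroup G} :
    y ∈ Subgroup.normalizer ((subgroupConjRight g F : Subgroup G) : Set G) ↔
      g * y * g⁻¹ ∈ Subgroup.normalizer (F : Set G) := by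
  rw [Subgroup.mem_normalizer_iff, Subgroup.mem_normalizer_iff]
  constructor
  · intro h z
    have := h (g⁻¹ * z * g)
    rw [mem_conjR, mem_conjR] at this
    have e1 : g * (g⁻¹ * z * g) * g⁻¹ = z := by group
    have e2 : g * (y * (g⁻¹ * z * g) * y⁻¹) * g⁻¹ = g * y * g⁻¹ * z * (g * y * g⁻¹)⁻¹ := by group
    rw [e1, e2] at this
    exact this
  · intro h z
    rw [mem_conjR, mem_conjR]
    have := h (g * z * g⁻¹)
    have e2 : g * (y * z * y⁻¹) * g⁻¹ = g * y * g⁻¹ * (g * z * g⁻¹) * (g * y * g⁻¹)⁻¹ := by group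
    rw [e2]
    exact this

theorem conjR_bot (g : G) : subgroupConjRight g (⊥ : Subgroup G) = ⊥ := by
  ext y
  rw [mem_conjR, Subgroup.mem_bot, Subgroup.mem_bot]
  constructor
  · intro h
    have : y = g⁻¹ * (g * y * g⁻¹) * g := by group
    rw [this, h]; group
  · intro h; rw [h]; group

theorem conjR_top (g : G) : subgroupConjRight g (⊤ : Subgroup G) = ⊤ := by
  ext y
  rw [mem_conjR]
  simp

theorem conjR_injective (g : G) {X Y : Subgroup G}
    (h : subgroupConjRight g X = subgroupConjRight g Y) : X = Y := by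
  rw [← conjR_inv_conjR g X, ← conjR_inv_conjR g Y, h]

theorem IsSylIn.isPGroup {p : ℕ} [Fact p.Prime] {M R : Subgroup G} (h : IsSylIn p M R) :
    IsPGroup p ↥R :=
  IsPGroup.of_card h.2

theorem Link.conj {p : ℕ} [Fact p.Prime] {f : Subgroup G → Set (Subgroup G)}
    (hf : IsNormalizerFunctor p f)
    {D R R' : Subgroup G} (g : G) (hl : Link p f ⊤ D R R') :
    Link p f ⊤ (subgroupConjRight g D) (subgroupConjRight g R) (subgroupConjRight g R') := by
  obtain ⟨F, x, ⟨P, hP, hF⟩, h1, h2, _, h4, h5, h6⟩ := hl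
  refine ⟨subgroupConjRight g F, g⁻¹ * x * g, ⟨subgroupConjRight g P, ⟨le_top, ?_⟩, ?_⟩, ?_, ?_,
    Subgroup.mem_top _, ?_, ?_, conjR_mono g h6⟩
  · rw [card_conjR]; exact hP.2
  · have := (hf P hP.isPGroup).2 g⁻¹
    unfold subgroupConjRight
    rw [this]
    exact ⟨F, hF, rfl⟩
  · intro y hy
    rw [mem_normalizer_conjR]
    rw [mem_conjR] at hy
    exact h1 hy
  · intro y hy
    rw [mem_normalizer_conjR]
    rw [mem_conjR] at hy
    exact h2 hy
  · rw [mem_normalizer_conjR]
    have : g * (g⁻¹ * x * g) * g⁻¹ = x := by group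
    rw [this]; exact h4
  · rw [← conjR_mul]
    have : g * (g⁻¹ * x * g) = x * g := by group
    rw [this, conjR_mul, h5]

/-- If `M` contains a Sylow `p`-subgroup of `G`, then `|M|` and `|G|` have the same `p`-part. -/
theorem factorization_eq_of_sylow_le {p : ℕ} [Fact p.Prime] [Finite G] (S : Sylow p G)
    {M : Subgroup G} (h : (S : Subgroup G) ≤ M) :
    (Nat.card ↥M).factorization p = (Nat.card G).factorization p := by
  have hp : p.Prime := Fact.out
  apply le_antisymm
  · have hdvd : Nat.card ↥M ∣ Nat.card G := Subgroup.card_subgroup_dvd_card M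
    exact (Nat.factorization_le_iff_dvd Nat.card_pos.ne' Nat.card_pos.ne').mpr hdvd p
  · have h1 : Nat.card ↥(S : Subgroup G) ∣ Nat.card ↥M := Subgroup.card_dvd_of_le h
    rw [S.card_eq_multiplicity] at h1
    exact (hp.pow_dvd_iff_le_factorization Nat.card_pos.ne').mp h1

theorem isSylIn_top_of_sylow {p : ℕ} [Fact p.Prime] [Finite G] (S : Sylow p G) :
    IsSylIn p ⊤ (S : Subgroup G) := by
  refine ⟨le_top, ?_⟩
  rw [S.card_eq_multiplicity, Subgroup.card_top]

theorem isSylIn_of_sylow_le {p : ℕ} [Fact p.Prime] [Finite G] (S U : Sylow p G)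
    {M : Subgroup G} (h : (S : Subgroup G) ≤ M) (hU : (U : Subgroup G) ≤ M) :
    IsSylIn p M (U : Subgroup G) := by
  refine ⟨hU, ?_⟩
  rw [U.card_eq_multiplicity, factorization_eq_of_sylow_le S h]

theorem IsSylIn.to_top {p : ℕ} [Fact p.Prime] [Finite G] (S : Sylow p G)
    {M : Subgroup G} (h : (S : Subgroup G) ≤ M) {P : Subgroup G} (hP : IsSylIn p M P) :
    IsSylIn p ⊤ P := by
  refine ⟨le_top, ?_⟩
  rw [hP.2, factorization_eq_of_sylow_le S h, Subgroup.card_top]

/-- A subgroup which is a Sylow subgroup by cardinality, as a term of `Sylow p G`. -/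
noncomputable def IsSylIn.toSylow {p : ℕ} [Fact p.Prime] [Finite G] {Q : Subgroup G}
    (hQ : IsSylIn p ⊤ Q) : Sylow p G :=
  Sylow.ofCard Q (by rw [hQ.2, Subgroup.card_top])

theorem IsSylIn.coe_toSylow {p : ℕ} [Fact p.Prime] [Finite G] {Q : Subgroup G}
    (hQ : IsSylIn p ⊤ Q) : ((hQ.toSylow : Sylow p G) : Subgroup G) = Q :=
  Sylow.coe_ofCard _ _

/-- The factorization theorem in the ambient formulation: if `G = G₁G₂` with `G₁, G₂` regular and
containing the Sylow `p`-subgroup `S`, then `G` is regular. -/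
theorem reg_top_of_factorization {p : ℕ} [Fact p.Prime] [Finite G]
    {f : Subgroup G → Set (Subgroup G)} (hf : IsNormalizerFunctor p f) (S : Sylow p G)
    (G₁ G₂ : Subgroup G) (h₁ : (S : Subgroup G) ≤ G₁) (h₂ : (S : Subgroup G) ≤ G₂)
    (hprod : ∀ g : G, ∃ g₁ ∈ G₁, ∃ g₂ ∈ G₂, g = g₁ * g₂)
    (hr₁ : Reg p f G₁) (hr₂ : Reg p f G₂) : Reg p f ⊤ := by
  intro Q R hQ hR hne hbot
  obtain ⟨a, ha⟩ := exists_sylowConjR_eq S hQ.toSylow
  have haQ : subgroupConjRight a (S : Subgroup G) = Q := by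
    rw [← coe_sylowConjR, ha, hQ.coe_toSylow]
  obtain ⟨g, hg⟩ := exists_sylowConjR_eq S (sylowConjR a⁻¹ hR.toSylow)
  set R₀ : Subgroup G := subgroupConjRight a⁻¹ R with hR₀
  have hgR : subgroupConjRight g (S : Subgroup G) = R₀ := by
    rw [← coe_sylowConjR, hg, coe_sylowConjR, hR.coe_toSylow]
  have haR : subgroupConjRight a R₀ = R := conjR_conjR_inv a R
  set D₀ : Subgroup G := (S : Subgroup G) ⊓ R₀ with hD₀
  have haD : subgroupConjRight a D₀ = Q ⊓ R := by
    rw [hD₀, conjR_inf, haQ, haR]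
  have hD₀bot : D₀ ≠ ⊥ := by
    intro h
    apply hbot
    rw [← haD, h, conjR_bot]
  suffices hmain : Relation.ReflTransGen (Link p f ⊤ D₀) (S : Subgroup G) R₀ by
    have : Relation.ReflTransGen (Link p f ⊤ (subgroupConjRight a D₀))
        (subgroupConjRight a (S : Subgroup G)) (subgroupConjRight a R₀) :=
      Relation.ReflTransGen.lift (subgroupConjRight a)
        (fun _ _ h => Link.conj hf a h) _ _ hmain
    rw [haD, haQ, haR] at this
    exact this
  obtain ⟨U, hDU, hU⟩ := Cfsg.Agent.S2940.result S G₁ G₂ h₁ h₂ hprod g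
  rw [hgR] at hDU
  have hU₁ : (U : Subgroup G) ≤ G₁ := le_trans hU inf_le_left
  have hU₂ : (U : Subgroup G) ≤ subgroupConjRight g G₂ := le_trans hU inf_le_right
  -- first half of the chain
  have hchain1 : Relation.ReflTransGen (Link p f ⊤ D₀) (S : Subgroup G) (U : Subgroup G) := by
    by_cases hSU : (S : Subgroup G) = (U : Subgroup G)
    · rw [hSU]
    · have hD1 : D₀ ≤ (S : Subgroup G) ⊓ (U : Subgroup G) := le_inf inf_le_left hDU
      have hne1 : (S : Subgroup G) ⊓ (U : Subgroup G) ≠ ⊥ := by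
        intro h
        rw [h, le_bot_iff] at hD1
        exact hD₀bot hD1
      have := hr₁ _ _ (isSylIn_of_sylow_le S S h₁ h₁) (isSylIn_of_sylow_le S U h₁ hU₁) hSU hne1
      exact Relation.ReflTransGen.mono
        (fun _ _ h => (Link.mono_D hD1 h).to_top (fun P hP => hP.to_top S h₁)) _ _ this
  -- second half of the chain
  have hchain2 : Relation.ReflTransGen (Link p f ⊤ D₀) (U : Subgroup G) R₀ := by
    by_cases hUR : (U : Subgroup G) = R₀
    · rw [hUR]
    · set U' : Subgroup G := subgroupConjRight g⁻¹ (U : Subgroup G) with hU'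
      have hgU' : subgroupConjRight g U' = (U : Subgroup G) := conjR_conjR_inv g _
      have hU'₂ : U' ≤ G₂ := by
        have := conjR_mono g⁻¹ hU₂
        rwa [conjR_inv_conjR] at this
      have hU'coe : ((sylowConjR g⁻¹ U : Sylow p G) : Subgroup G) = U' := coe_sylowConjR _ _
      have hU'syl : IsSylIn p G₂ U' := by
        rw [← hU'coe]
        apply isSylIn_of_sylow_le S _ h₂
        rw [hU'coe]; exact hU'₂
      have hne' : U' ≠ (S : Subgroup G) := by
        intro h
        apply hUR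
        rw [← hgU', h, hgR]
      have hinf : subgroupConjRight g (U' ⊓ (S : Subgroup G)) = (U : Subgroup G) ⊓ R₀ := by
        rw [conjR_inf, hgU', hgR]
      have hD2 : D₀ ≤ (U : Subgroup G) ⊓ R₀ := le_inf hDU inf_le_right
      have hne2 : U' ⊓ (S : Subgroup G) ≠ ⊥ := by
        intro h
        rw [h, conjR_bot] at hinf
        rw [← hinf, le_bot_iff] at hD2
        exact hD₀bot hD2
      have h1 := hr₂ _ _ hU'syl (isSylIn_of_sylow_le S S h₂ h₂) hne' hne2
      have h2 : Relation.ReflTransGen (Link p f ⊤ (U' ⊓ (S : Subgroup G))) U' (S : Subgroup G) :=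
        Relation.ReflTransGen.mono (fun _ _ h => Link.to_top (fun P hP => hP.to_top S h₂) h) _ _ h1
      have h3 : Relation.ReflTransGen (Link p f ⊤ (subgroupConjRight g (U' ⊓ (S : Subgroup G))))
          (subgroupConjRight g U') (subgroupConjRight g (S : Subgroup G)) :=
        Relation.ReflTransGen.lift (subgroupConjRight g)
          (fun _ _ h => Link.conj hf g h) _ _ h2
      rw [hinf, hgU', hgR] at h3
      exact Relation.ReflTransGen.mono (fun _ _ h => Link.mono_D hD2 h) _ _ h3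
  exact hchain1.trans hchain2

end Cfsg.Agent.Lib.Helper49_FunctorRegular
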