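import Cfsg.Agent.Lib.Helper49_FunctorRegular

/-!
helper49: `Cfsg.IsFunctorRegular p f M` is equivalent to the ambient formulation `Reg p f M`.
-/

set_option autoImplicit false

namespace Cfsg.Agent.Lib.Helper49_FunctorRegular

open Cfsg Cfsg.Agent.Lib.Helper49_SylowControl

variable {G : Type*} [Group G]

/-- The family of subgroups of `↥M` used by `IsFunctorRegular`. -/
def famIn (p : ℕ) (f : Subgroup G → Set (Subgroup G)) (M : Subgroup G) : Set (Subgroup ↥M) :=
  (fun X : Subgroup G => X.subgroupOf M) '' functorFamily p f M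

theorem isFunctorRegular_iff (p : ℕ) (f : Subgroup G → Set (Subgroup G)) (M : Subgroup G) :
    IsFunctorRegular p f M ↔ ControlsSylowIntersections p (famIn p f M) := Iff.rfl

section

variable {p : ℕ} [Fact p.Prime] [Finite G]

theorem isSylIn_map (M : Subgroup G) (P : Sylow p ↥M) :
    IsSylIn p M ((P : Subgroup ↥M).map M.subtype) := by
  refine ⟨Subgroup.map_subtype_le _, ?_⟩
  rw [Subgroup.card_map_of_injective M.subtype_injective]
  exact P.card_eq_multiplicity

/-- A Sylow subgroup of `M` by cardinality, as a term of `Sylow p ↥M`. -/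
noncomputable def IsSylIn.toSylowIn {M R : Subgroup G} (h : IsSylIn p M R) : Sylow p ↥M :=
  Sylow.ofCard (R.subgroupOf M) (by
    rw [← h.2]
    exact Nat.card_congr (Subgroup.subgroupOfEquivOfLe h.1).toEquiv)

theorem IsSylIn.coe_toSylowIn {M R : Subgroup G} (h : IsSylIn p M R) :
    ((h.toSylowIn : Sylow p ↥M) : Subgroup ↥M) = R.subgroupOf M :=
  Sylow.coe_ofCard _ _

theorem IsSylIn.map_toSylowIn {M R : Subgroup G} (h : IsSylIn p M R) :
    ((h.toSylowIn : Sylow p ↥M) : Subgroup ↥M).map M.subtype = R := by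
  rw [h.coe_toSylowIn, Subgroup.map_subgroupOf_eq_of_le h.1]

omit [Fact p.Prime] [Finite G] in
theorem sylow_eq_of_map_eq {M : Subgroup G} {P P' : Sylow p ↥M}
    (h : (P : Subgroup ↥M).map M.subtype = (P' : Subgroup ↥M).map M.subtype) : P = P' :=
  Sylow.ext (Subgroup.map_injective M.subtype_injective h)

omit [Fact p.Prime] [Finite G] in
theorem map_subtype_conjR (M : Subgroup G) (x : ↥M) (X : Subgroup ↥M) :
    (subgroupConjRight x X).map M.subtype = subgroupConjRight (x : G) (X.map M.subtype) := by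
  ext y
  constructor
  · rintro ⟨z, hz, rfl⟩
    rw [SetLike.mem_coe, mem_conjR] at hz
    rw [mem_conjR]
    exact ⟨x * z * x⁻¹, hz, by simp⟩
  · intro hy
    rw [mem_conjR] at hy
    obtain ⟨w, hw, hw'⟩ := hy
    refine ⟨x⁻¹ * w * x, ?_, ?_⟩
    · rw [SetLike.mem_coe, mem_conjR]
      have : x * (x⁻¹ * w * x) * x⁻¹ = w := by group
      rw [this]; exact hw
    · have h1 : (w : G) = (x : G) * y * (x : G)⁻¹ := hw'
      simp only [Subgroup.subtype_apply, Subgroup.coe_mul, Subgroup.coe_inv]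
      rw [h1]; group

/-- Members of the induced family containing the Sylow subgroup `c`. -/
theorem mem_sylowMembers_of_le {f : Subgroup G → Set (Subgroup G)} {M : Subgroup G}
    (c : Sylow p ↥M) {X : Subgroup ↥M} (hX : X ∈ famIn p f M) (hc : (c : Subgroup ↥M) ≤ X) :
    X ∈ sylowMembers p (famIn p f M) (c : Subgroup ↥M) := by
  rw [mem_sylowMembers_iff]
  refine ⟨hX, ?_⟩
  rw [inf_of_le_left hc, c.card_eq_multiplicity, factorization_eq_of_sylow_le c hc]

/-- A member `X` of the induced family with `c ∩ X` Sylow in `X` contains `c`, and is the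
normalizer in `M` of some `F ∈ f P`. -/
theorem exists_of_mem_sylowMembers {f : Subgroup G → Set (Subgroup G)}
    (hf : IsNormalizerFunctor p f) {M : Subgroup G}
    (c : Sylow p ↥M) {X : Subgroup ↥M}
    (hX : X ∈ sylowMembers p (famIn p f M) (c : Subgroup ↥M)) :
    ∃ F : Subgroup G, (∃ P, IsSylIn p M P ∧ F ∈ f P) ∧
      X = (M ⊓ Subgroup.normalizer (F : Set G)).subgroupOf M ∧ (c : Subgroup ↥M) ≤ X := by
  rw [mem_sylowMembers_iff] at hX
  obtain ⟨⟨Y, ⟨P, F, hF, rfl⟩, rfl⟩, hcard⟩ := hX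
  have hPsyl := isSylIn_map M P
  refine ⟨F, ⟨_, hPsyl, hF⟩, rfl, ?_⟩
  have hFP := (hf _ hPsyl.isPGroup).1 F hF
  have hPX : (P : Subgroup ↥M) ≤ (M ⊓ Subgroup.normalizer (F : Set G)).subgroupOf M := by
    intro y hy
    rw [Subgroup.mem_subgroupOf]
    refine ⟨y.2, hFP.2 (Subgroup.le_normalizer ?_)⟩
    exact ⟨y, hy, rfl⟩
  have hfac := factorization_eq_of_sylow_le P hPX
  simp only at hcard
  rw [hfac, ← c.card_eq_multiplicity] at hcard
  have : (c : Subgroup ↥M) ⊓ (M ⊓ Subgroup.normalizer (F : Set G)).subgroupOf M =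
      (c : Subgroup ↥M) :=
    Subgroup.eq_of_le_of_card_ge inf_le_left hcard.ge
  rw [← this]
  exact inf_le_right

/-- A step of an `IsFunctorRegular` chain gives a link. -/
theorem link_of_chain_step {f : Subgroup G → Set (Subgroup G)}
    (hf : IsNormalizerFunctor p f) (M : Subgroup G)
    (c₁ c₂ : Sylow p ↥M) (X : Subgroup ↥M) (x : ↥M) (D' : Subgroup ↥M)
    (h1 : X ∈ sylowMembers p (famIn p f M) (c₁ : Subgroup ↥M))
    (h2 : X ∈ sylowMembers p (famIn p f M) (c₂ : Subgroup ↥M))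
    (hx : x ∈ X) (hconj : subgroupConjRight x (c₂ : Subgroup ↥M) = (c₁ : Subgroup ↥M))
    (hD : D' ≤ (c₂ : Subgroup ↥M) ⊓ X) :
    Link p f M (D'.map M.subtype) ((c₁ : Subgroup ↥M).map M.subtype)
      ((c₂ : Subgroup ↥M).map M.subtype) := by
  obtain ⟨F, hP, hXeq, hc₁⟩ := exists_of_mem_sylowMembers hf c₁ h1
  obtain ⟨_, _, _, hc₂⟩ := exists_of_mem_sylowMembers hf c₂ h2
  have hXN : ∀ y : ↥M, y ∈ X → (y : G) ∈ Subgroup.normalizer (F : Set G) := by
    intro y hy
    rw [hXeq, Subgroup.mem_subgroupOf] at hy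
    exact hy.2
  refine ⟨F, (x : G), hP, ?_, ?_, x.2, hXN x hx, ?_, ?_⟩
  · rintro _ ⟨y, hy, rfl⟩
    exact hXN y (hc₁ hy)
  · rintro _ ⟨y, hy, rfl⟩
    exact hXN y (hc₂ hy)
  · rw [← map_subtype_conjR, hconj]
  · exact Subgroup.map_mono (le_trans hD inf_le_left)

/-- A link gives a step of an `IsFunctorRegular` chain. -/
theorem chain_step_of_link {f : Subgroup G → Set (Subgroup G)} (M : Subgroup G)
    (c₁ c₂ : Sylow p ↥M) (D : Subgroup G)
    (hl : Link p f M D ((c₁ : Subgroup ↥M).map M.subtype) ((c₂ : Subgroup ↥M).map M.subtype)) :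
    ∃ (X : Subgroup ↥M) (x : ↥M),
      X ∈ sylowMembers p (famIn p f M) (c₁ : Subgroup ↥M) ∧
      X ∈ sylowMembers p (famIn p f M) (c₂ : Subgroup ↥M) ∧
      x ∈ X ∧ subgroupConjRight x (c₂ : Subgroup ↥M) = (c₁ : Subgroup ↥M) ∧
      ∀ y : ↥M, (y : G) ∈ D → y ∈ (c₂ : Subgroup ↥M) ⊓ X := by
  obtain ⟨F, x, ⟨P, hP, hF⟩, h1, h2, h3, h4, h5, h6⟩ := hl
  set X : Subgroup ↥M := (M ⊓ Subgroup.normalizer (F : Set G)).subgroupOf M with hX
  have hXfam : X ∈ famIn p f M := by
    refine ⟨M ⊓ Subgroup.normalizer (F : Set G), ⟨hP.toSylowIn, F, ?_, rfl⟩, rfl⟩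
    rw [hP.map_toSylowIn]; exact hF
  have hc₁ : (c₁ : Subgroup ↥M) ≤ X := by
    intro y hy
    rw [hX, Subgroup.mem_subgroupOf]
    exact ⟨y.2, h1 ⟨y, hy, rfl⟩⟩
  have hc₂ : (c₂ : Subgroup ↥M) ≤ X := by
    intro y hy
    rw [hX, Subgroup.mem_subgroupOf]
    exact ⟨y.2, h2 ⟨y, hy, rfl⟩⟩
  refine ⟨X, ⟨x, h3⟩, mem_sylowMembers_of_le c₁ hXfam hc₁, mem_sylowMembers_of_le c₂ hXfam hc₂,
    ?_, ?_, ?_⟩
  · rw [hX, Subgroup.mem_subgroupOf]
    exact ⟨h3, h4⟩
  · apply Subgroup.map_injective M.subtype_injective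
    rw [map_subtype_conjR]
    exact h5
  · intro y hy
    have hy2 : y ∈ (c₂ : Subgroup ↥M) := by
      have := h6 hy
      exact (Subgroup.mem_map_iff_mem M.subtype_injective).mp this
    exact ⟨hy2, hc₂ hy2⟩

/-- A chain as in `ControlsSylowIntersections` gives a chain of links. -/
theorem reflTransGen_of_chain {f : Subgroup G → Set (Subgroup G)}
    (hf : IsNormalizerFunctor p f) (M : Subgroup G) (D' : Subgroup ↥M) :
    ∀ (n : ℕ) (c : Fin (n + 1) → Sylow p ↥M) (X : Fin n → Subgroup ↥M) (x : Fin n → ↥M),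
      (∀ i : Fin n,
        X i ∈ sylowMembers p (famIn p f M) (c i.castSucc : Subgroup ↥M) ∧
        X i ∈ sylowMembers p (famIn p f M) (c i.succ : Subgroup ↥M) ∧
        x i ∈ X i ∧
        subgroupConjRight (x i) (c i.succ : Subgroup ↥M) = (c i.castSucc : Subgroup ↥M) ∧
        D' ≤ (c i.succ : Subgroup ↥M) ⊓ X i) →
      Relation.ReflTransGen (Link p f M (D'.map M.subtype))
        ((c 0 : Subgroup ↥M).map M.subtype) ((c (Fin.last n) : Subgroup ↥M).map M.subtype) := by
  intro n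
  induction n with
  | zero =>
    intro c X x _
    exact Relation.ReflTransGen.refl
  | succ n ih =>
    intro c X x h
    have h1 := ih (fun i => c i.castSucc) (fun i => X i.castSucc) (fun i => x i.castSucc)
      (fun i => by
        have := h i.castSucc
        rw [Fin.succ_castSucc] at this
        exact this)
    have h2 := h (Fin.last n)
    have h3 := link_of_chain_step hf M _ _ _ _ D' h2.1 h2.2.1 h2.2.2.1 h2.2.2.2.1 h2.2.2.2.2
    rw [Fin.succ_last] at h3
    exact Relation.ReflTransGen.tail h1 h3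

/-- `IsFunctorRegular` implies the ambient formulation. -/
theorem reg_of_isFunctorRegular {f : Subgroup G → Set (Subgroup G)}
    (hf : IsNormalizerFunctor p f) (M : Subgroup G) (h : IsFunctorRegular p f M) :
    Reg p f M := by
  intro Q R hQ hR hne hbot
  have hne' : hQ.toSylowIn ≠ hR.toSylowIn := by
    intro he
    apply hne
    rw [← hQ.map_toSylowIn, ← hR.map_toSylowIn, he]
  have hinf : ((hQ.toSylowIn : Sylow p ↥M) : Subgroup ↥M) ⊓
      ((hR.toSylowIn : Sylow p ↥M) : Subgroup ↥M) = (Q ⊓ R).subgroupOf M := by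
    rw [hQ.coe_toSylowIn, hR.coe_toSylowIn]
    ext y
    simp only [Subgroup.mem_inf, Subgroup.mem_subgroupOf]
  have hbot' : ((hQ.toSylowIn : Sylow p ↥M) : Subgroup ↥M) ⊓
      ((hR.toSylowIn : Sylow p ↥M) : Subgroup ↥M) ≠ ⊥ := by
    rw [hinf]
    intro hb
    apply hbot
    have := Subgroup.map_subgroupOf_eq_of_le (le_trans inf_le_left hQ.1 : Q ⊓ R ≤ M)
    rw [hb, Subgroup.map_bot] at this
    exact this.symm
  obtain ⟨n, c, X, x, hc0, hcn, hchain⟩ := h _ _ hne' hbot'
  have := reflTransGen_of_chain hf M _ n c X x hchain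
  rw [hc0, hcn, hQ.map_toSylowIn, hR.map_toSylowIn, hinf,
    Subgroup.map_subgroupOf_eq_of_le (le_trans inf_le_left hQ.1 : Q ⊓ R ≤ M)] at this
  exact this

omit [Fact p.Prime] [Finite G] in
theorem IsSylIn.of_link {f : Subgroup G → Set (Subgroup G)} {M D R R' : Subgroup G}
    (hl : Link p f M D R R') (hR' : IsSylIn p M R') : IsSylIn p M R := by
  obtain ⟨F, x, _, _, _, h3, _, h5, _⟩ := hl
  refine ⟨?_, ?_⟩
  · rw [← h5]
    intro y hy
    rw [mem_conjR] at hy
    have hy' := hR'.1 hy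
    have : y = x⁻¹ * (x * y * x⁻¹) * x := by group
    rw [this]
    exact mul_mem (mul_mem (inv_mem h3) hy') h3
  · rw [← h5, card_conjR]
    exact hR'.2

/-- A chain of links gives a chain as in `ControlsSylowIntersections`. -/
theorem chain_of_reflTransGen {f : Subgroup G → Set (Subgroup G)} (M : Subgroup G)
    (D : Subgroup G) (Q' : Sylow p ↥M) (B : Subgroup G)
    (h : Relation.ReflTransGen (Link p f M D) ((Q' : Subgroup ↥M).map M.subtype) B) :
    ∀ B' : Sylow p ↥M, (B' : Subgroup ↥M).map M.subtype = B →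
      ∃ (n : ℕ) (c : Fin (n + 1) → Sylow p ↥M) (X : Fin n → Subgroup ↥M) (x : Fin n → ↥M),
        c 0 = Q' ∧ c (Fin.last n) = B' ∧
        ∀ i : Fin n,
          X i ∈ sylowMembers p (famIn p f M) (c i.castSucc : Subgroup ↥M) ∧
          X i ∈ sylowMembers p (famIn p f M) (c i.succ : Subgroup ↥M) ∧
          x i ∈ X i ∧
          subgroupConjRight (x i) (c i.succ : Subgroup ↥M) = (c i.castSucc : Subgroup ↥M) ∧
          ∀ y : ↥M, (y : G) ∈ D → y ∈ (c i.succ : Subgroup ↥M) ⊓ X i := by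
  induction h with
  | refl =>
    intro B' hB'
    refine ⟨0, fun _ => Q', fun i => i.elim0, fun i => i.elim0, rfl, ?_, fun i => i.elim0⟩
    exact (sylow_eq_of_map_eq hB').symm
  | @tail B₁ B₂ hab hbc ih =>
    intro B' hB'
    have hB'syl : IsSylIn p M B₂ := by rw [← hB']; exact isSylIn_map M B'
    have hB₁syl : IsSylIn p M B₁ := IsSylIn.of_link hbc hB'syl
    obtain ⟨n, c, X, x, hc0, hcn, hchain⟩ := ih hB₁syl.toSylowIn hB₁syl.map_toSylowIn
    have hl : Link p f M D ((hB₁syl.toSylowIn : Subgroup ↥M).map M.subtype)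
        ((B' : Subgroup ↥M).map M.subtype) := by
      rw [hB₁syl.map_toSylowIn, hB']; exact hbc
    obtain ⟨Xn, xn, hX1, hX2, hxn, hconj, hD⟩ := chain_step_of_link M _ _ D hl
    refine ⟨n + 1, Fin.snoc (α := fun _ => Sylow p ↥M) c B',
      Fin.snoc (α := fun _ => Subgroup ↥M) X Xn, Fin.snoc (α := fun _ => ↥M) x xn, ?_, ?_, ?_⟩
    · have : (0 : Fin (n + 1 + 1)) = (0 : Fin (n + 1)).castSucc := rfl
      rw [this, Fin.snoc_castSucc]
      exact hc0
    · rw [Fin.snoc_last]
    · intro i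
      refine Fin.lastCases ?_ ?_ i
      · rw [Fin.snoc_last, Fin.snoc_castSucc, Fin.succ_last, Fin.snoc_last, Fin.snoc_last, hcn]
        exact ⟨hX1, hX2, hxn, hconj, hD⟩
      · intro j
        rw [Fin.snoc_castSucc, Fin.snoc_castSucc, Fin.succ_castSucc, Fin.snoc_castSucc,
          Fin.snoc_castSucc]
        exact hchain j

/-- The ambient formulation implies `IsFunctorRegular`. -/
theorem isFunctorRegular_of_reg {f : Subgroup G → Set (Subgroup G)}
    (M : Subgroup G) (h : Reg p f M) : IsFunctorRegular p f M := by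
  intro Q' R' hne hbot
  have hQ := isSylIn_map M Q'
  have hR := isSylIn_map M R'
  have hne' : (Q' : Subgroup ↥M).map M.subtype ≠ (R' : Subgroup ↥M).map M.subtype :=
    fun he => hne (sylow_eq_of_map_eq he)
  have hinf : (Q' : Subgroup ↥M).map M.subtype ⊓ (R' : Subgroup ↥M).map M.subtype =
      ((Q' : Subgroup ↥M) ⊓ (R' : Subgroup ↥M)).map M.subtype :=
    (Subgroup.map_inf _ _ _ M.subtype_injective).symm
  have hbot' : (Q' : Subgroup ↥M).map M.subtype ⊓ (R' : Subgroup ↥M).map M.subtype ≠ ⊥ := by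
    rw [hinf]
    intro hb
    apply hbot
    exact (Subgroup.map_eq_bot_iff_of_injective _ M.subtype_injective).mp hb
  have hch := h _ _ hQ hR hne' hbot'
  obtain ⟨n, c, X, x, hc0, hcn, hchain⟩ := chain_of_reflTransGen M _ Q' _ hch R' rfl
  refine ⟨n, c, X, x, hc0, hcn, fun i => ?_⟩
  obtain ⟨h1, h2, h3, h4, h5⟩ := hchain i
  refine ⟨h1, h2, h3, h4, ?_⟩
  intro y hy
  apply h5
  rw [hinf]
  exact ⟨y, hy, rfl⟩

end

end Cfsg.Agent.Lib.Helper49_FunctorRegular
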