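import Mathlib
import Cfsg.Agent.Lib.Helper49_FunctorRegular2

/-!
helper49: chains of Sylow subgroups linked through members of a family (ambient formulation of
`Cfsg.ControlsSylowIntersections`), and auxiliary facts on Sylow subgroups of subgroups.
-/

set_option autoImplicit false

namespace Cfsg.Agent.Lib.Helper49_Goldschmidt

open Cfsg Cfsg.Agent.Lib.Helper49_SylowControl Cfsg.Agent.Lib.Helper49_FunctorRegular

variable {G : Type*} [Group G]

/-- One link of a chain as in `ControlsSylowIntersections`, over the subgroup `D`. -/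
def GLink (p : ℕ) (𝔉 : Set (Subgroup G)) (D : Subgroup G) (S T : Sylow p G) : Prop :=
  ∃ (X : Subgroup G) (x : G), X ∈ sylowMembers p 𝔉 (S : Subgroup G) ∧
    X ∈ sylowMembers p 𝔉 (T : Subgroup G) ∧ x ∈ X ∧
    subgroupConjRight x (T : Subgroup G) = (S : Subgroup G) ∧ D ≤ (T : Subgroup G) ⊓ X

/-- Chains of links. -/
abbrev GRel (p : ℕ) (𝔉 : Set (Subgroup G)) (D : Subgroup G) : Sylow p G → Sylow p G → Prop :=
  Relation.ReflTransGen (GLink p 𝔉 D)

theorem GLink.mono_D {p : ℕ} {𝔉 : Set (Subgroup G)} {D D' : Subgroup G} {S T : Sylow p G}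
    (h : D' ≤ D) (hl : GLink p 𝔉 D S T) : GLink p 𝔉 D' S T := by
  obtain ⟨X, x, h1, h2, h3, h4, h5⟩ := hl
  exact ⟨X, x, h1, h2, h3, h4, h.trans h5⟩

theorem grel_mono {p : ℕ} {𝔉 : Set (Subgroup G)} {D D' : Subgroup G} {S T : Sylow p G}
    (h : D' ≤ D) (hr : GRel p 𝔉 D S T) : GRel p 𝔉 D' S T :=
  Relation.ReflTransGen.mono (fun _ _ hl => GLink.mono_D h hl) S T hr

/-- A chain of links gives a chain as in `ControlsSylowIntersections`. -/
theorem chain_of_grel {p : ℕ} {𝔉 : Set (Subgroup G)} (D : Subgroup G) (S : Sylow p G) :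
    ∀ T : Sylow p G, GRel p 𝔉 D S T →
      ∃ (n : ℕ) (c : Fin (n + 1) → Sylow p G) (X : Fin n → Subgroup G) (x : Fin n → G),
        c 0 = S ∧ c (Fin.last n) = T ∧
        ∀ i : Fin n,
          X i ∈ sylowMembers p 𝔉 (c i.castSucc : Subgroup G) ∧
          X i ∈ sylowMembers p 𝔉 (c i.succ : Subgroup G) ∧
          x i ∈ X i ∧
          subgroupConjRight (x i) (c i.succ : Subgroup G) = (c i.castSucc : Subgroup G) ∧
          D ≤ (c i.succ : Subgroup G) ⊓ X i := by
  intro T h
  induction h with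
  | refl =>
    exact ⟨0, fun _ => S, fun i => i.elim0, fun i => i.elim0, rfl, rfl, fun i => i.elim0⟩
  | @tail B₁ B₂ _ hbc ih =>
    obtain ⟨n, c, X, x, hc0, hcn, hchain⟩ := ih
    obtain ⟨Xn, xn, hX1, hX2, hxn, hconj, hD⟩ := hbc
    refine ⟨n + 1, Fin.snoc (α := fun _ => Sylow p G) c B₂,
      Fin.snoc (α := fun _ => Subgroup G) X Xn, Fin.snoc (α := fun _ => G) x xn, ?_, ?_, ?_⟩
    · have : (0 : Fin (n + 1 + 1)) = (0 : Fin (n + 1)).castSucc := rfl
      rw [this, Fin.snoc_castSucc]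
      exact hc0
    · rw [Fin.snoc_last]
    · intro i
      refine Fin.lastCases ?_ ?_ i
      · rw [Fin.snoc_last, Fin.snoc_castSucc, Fin.succ_last, Fin.snoc_last, Fin.snoc_last, hcn]
        exact ⟨hX1, hX2, hxn, hconj, hD⟩
      · intro j
        rw [Fin.snoc_castSucc, Fin.snoc_castSucc, Fin.succ_castSucc, Fin.snoc_castSucc,
          Fin.snoc_castSucc]
        exact hchain j

/-- Chains between all pairs give control of Sylow intersections. -/
theorem controls_of_grel {p : ℕ} (𝔉 : Set (Subgroup G))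
    (h : ∀ S T : Sylow p G, S ≠ T → (S : Subgroup G) ⊓ (T : Subgroup G) ≠ ⊥ →
      GRel p 𝔉 ((S : Subgroup G) ⊓ (T : Subgroup G)) S T) :
    ControlsSylowIntersections p 𝔉 := by
  intro S T hne hbot
  exact chain_of_grel _ S T (h S T hne hbot)

section sylow

variable {p : ℕ} [Fact p.Prime] [Finite G]

/-- A link through a member `K ∈ 𝔉` meeting `U` in a Sylow subgroup of `K`, by `x ∈ K`. -/
theorem glink_of_mem {𝔉 : Set (Subgroup G)} {D K : Subgroup G} (hK : K ∈ 𝔉) {x : G} (hx : x ∈ K)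
    (U : Sylow p G)
    (hsyl : Nat.card ↥((U : Subgroup G) ⊓ K) = p ^ (Nat.card ↥K).factorization p)
    (hD : D ≤ (U : Subgroup G) ⊓ K) : GLink p 𝔉 D (sylowConjR x U) U := by
  refine ⟨K, x, ?_, ?_, hx, ?_, hD⟩
  · rw [mem_sylowMembers_iff]
    refine ⟨hK, ?_⟩
    rw [coe_sylowConjR]
    have : subgroupConjRight x (U : Subgroup G) ⊓ K =
        subgroupConjRight x ((U : Subgroup G) ⊓ K) := by
      rw [conjR_inf, conjR_eq_self_of_mem hx]
    rw [this, card_conjR]
    exact hsyl
  · rw [mem_sylowMembers_iff]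
    exact ⟨hK, hsyl⟩
  · rw [coe_sylowConjR]

/-- Every `p`-subgroup of `M` lies in a Sylow `p`-subgroup of `M`. -/
theorem exists_isSylIn_ge {M R : Subgroup G} (hRM : R ≤ M) (hR : IsPGroup p ↥R) :
    ∃ W, IsSylIn p M W ∧ R ≤ W := by
  obtain ⟨V, hV⟩ := (hR.comap_subtype (K := M)).exists_le_sylow
  refine ⟨(V : Subgroup ↥M).map M.subtype, isSylIn_map M V, ?_⟩
  intro r hr
  exact ⟨⟨r, hRM hr⟩, hV (Subgroup.mem_subgroupOf.mpr hr), rfl⟩

/-- A `p`-subgroup of `M` has order at most that of a Sylow `p`-subgroup of `M`. -/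
theorem card_le_of_isPGroup_of_le {M R : Subgroup G} (hRM : R ≤ M) (hR : IsPGroup p ↥R) :
    Nat.card ↥R ≤ p ^ (Nat.card ↥M).factorization p := by
  have hp : p.Prime := Fact.out
  obtain ⟨j, hj⟩ := IsPGroup.iff_card.mp hR
  have hdvd : p ^ j ∣ Nat.card ↥M := hj ▸ Subgroup.card_dvd_of_le hRM
  have := (hp.pow_dvd_iff_le_factorization Nat.card_pos.ne').mp hdvd
  rw [hj]
  exact Nat.pow_le_pow_right hp.pos this

/-- A Sylow subgroup of `G` containing a Sylow subgroup `W` of `M` meets `M` in `W`. -/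
theorem inf_eq_of_isSylIn {M W : Subgroup G} (hW : IsSylIn p M W) (U : Sylow p G)
    (hWU : W ≤ (U : Subgroup G)) : (U : Subgroup G) ⊓ M = W := by
  have hle : W ≤ (U : Subgroup G) ⊓ M := le_inf hWU hW.1
  have hp : IsPGroup p ↥((U : Subgroup G) ⊓ M) := U.isPGroup'.to_le inf_le_left
  have hcard := card_le_of_isPGroup_of_le (inf_le_right : (U : Subgroup G) ⊓ M ≤ M) hp
  rw [← hW.2] at hcard
  exact (Subgroup.eq_of_le_of_card_ge hle hcard).symm

/-- Sylow subgroups of `M` are conjugate in `M`. -/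
theorem exists_conjR_eq_of_isSylIn {M W W' : Subgroup G} (hW : IsSylIn p M W)
    (hW' : IsSylIn p M W') : ∃ m ∈ M, subgroupConjRight m W' = W := by
  obtain ⟨g, hg⟩ := exists_sylowConjR_eq hW'.toSylowIn hW.toSylowIn
  refine ⟨(g : G), g.2, ?_⟩
  have h1 : ((sylowConjR g hW'.toSylowIn : Sylow p ↥M) : Subgroup ↥M).map M.subtype =
      ((hW.toSylowIn : Sylow p ↥M) : Subgroup ↥M).map M.subtype := by rw [hg]
  rw [coe_sylowConjR, map_subtype_conjR, hW'.map_toSylowIn, hW.map_toSylowIn] at h1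
  exact h1

omit [Fact p.Prime] [Finite G] in
theorem IsSylIn.conjR {M W : Subgroup G} (hW : IsSylIn p M W) {x : G} (hx : x ∈ M) :
    IsSylIn p M (subgroupConjRight x W) := by
  refine ⟨?_, ?_⟩
  · intro y hy
    rw [mem_conjR] at hy
    have hy' := hW.1 hy
    have : y = x⁻¹ * (x * y * x⁻¹) * x := by group
    rw [this]
    exact mul_mem (mul_mem (inv_mem hx) hy') hx
  · rw [card_conjR]; exact hW.2

omit [Fact p.Prime] in
/-- Every `p`-local subgroup lies in a maximal `p`-local subgroup. -/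
theorem exists_isMaximalPLocal_ge : ∀ (n : ℕ) (K : Subgroup G), IsPLocal p K →
    Nat.card G - Nat.card ↥K = n → ∃ M, IsMaximalPLocal p M ∧ K ≤ M := by
  intro n
  induction n using Nat.strong_induction_on with
  | _ n ih =>
    intro K hK hn
    by_cases h : ∀ N : Subgroup G, IsPLocal p N → K ≤ N → N = K
    · exact ⟨K, ⟨hK, h⟩, le_rfl⟩
    · push Not at h
      obtain ⟨N, hN, hKN, hne⟩ := h
      have hlt : Nat.card ↥K < Nat.card ↥N := by
        by_contra hcon
        push Not at hcon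
        exact hne (Subgroup.eq_of_le_of_card_ge hKN hcon).symm
      have hNG : Nat.card ↥N ≤ Nat.card G := Subgroup.card_le_card_group N
      obtain ⟨M, hM, hNM⟩ := ih (Nat.card G - Nat.card ↥N) (by omega) N hN rfl
      exact ⟨M, hM, hKN.trans hNM⟩

/-- Normalizers grow in `p`-groups. -/
theorem card_lt_card_inf_normalizer {D : Subgroup G} (S : Sylow p G)
    (hDS : D ≤ (S : Subgroup G)) (hne : D ≠ (S : Subgroup G)) :
    Nat.card ↥D < Nat.card ↥((S : Subgroup G) ⊓ Subgroup.normalizer (D : Set G)) := by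
  have hnil : Group.IsNilpotent ↥(S : Subgroup G) := S.isPGroup'.isNilpotent
  have hNC := Group.normalizerCondition_of_isNilpotent (G := ↥(S : Subgroup G))
  set H : Subgroup ↥(S : Subgroup G) := D.subgroupOf (S : Subgroup G) with hH
  have hHtop : H < ⊤ := by
    refine lt_top_iff_ne_top.mpr (fun h => hne (le_antisymm hDS ?_))
    rw [hH, Subgroup.subgroupOf_eq_top] at h
    exact h
  have hlt := hNC H hHtop
  have hcardH : Nat.card ↥H = Nat.card ↥D :=
    Nat.card_congr (Subgroup.subgroupOfEquivOfLe hDS).toEquiv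
  have hlt' : Nat.card ↥H < Nat.card ↥(Subgroup.normalizer (H : Set ↥(S : Subgroup G))) := by
    by_contra hcon
    push Not at hcon
    exact hlt.ne (Subgroup.eq_of_le_of_card_ge hlt.le hcon)
  have hmap : (Subgroup.normalizer (H : Set ↥(S : Subgroup G))).map (S : Subgroup G).subtype ≤
      (S : Subgroup G) ⊓ Subgroup.normalizer (D : Set G) := by
    rintro _ ⟨y, hy, rfl⟩
    refine Subgroup.mem_inf.mpr ⟨y.2, ?_⟩
    have hy' : y ∈ Subgroup.normalizer (H : Set ↥(S : Subgroup G)) := hy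
    clear hy
    rw [Subgroup.mem_normalizer_iff] at hy'
    have hy := hy'
    show (y : G) ∈ Subgroup.normalizer (D : Set G)
    rw [Subgroup.mem_normalizer_iff]
    intro g
    constructor
    · intro hg
      have := (hy ⟨g, hDS hg⟩).mp (by rw [hH, Subgroup.mem_subgroupOf]; exact hg)
      rw [hH, Subgroup.mem_subgroupOf] at this
      simpa using this
    · intro hg
      have hgS : g ∈ (S : Subgroup G) := by
        have h1 : (y : G) * g * (y : G)⁻¹ ∈ (S : Subgroup G) := hDS hg
        have : g = (y : G)⁻¹ * ((y : G) * g * (y : G)⁻¹) * (y : G) := by group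
        rw [this]
        exact mul_mem (mul_mem (inv_mem y.2) h1) y.2
      have := (hy ⟨g, hgS⟩).mpr (by
        rw [hH, Subgroup.mem_subgroupOf]
        simpa using hg)
      rw [hH, Subgroup.mem_subgroupOf] at this
      exact this
  calc Nat.card ↥D = Nat.card ↥H := hcardH.symm
    _ < Nat.card ↥(Subgroup.normalizer (H : Set ↥(S : Subgroup G))) := hlt'
    _ = Nat.card ↥((Subgroup.normalizer (H : Set ↥(S : Subgroup G))).map
          (S : Subgroup G).subtype) :=
        (Subgroup.card_map_of_injective (Subgroup.subtype_injective _)).symm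
    _ ≤ _ := Subgroup.card_le_of_le hmap

/-- If `P` is a Sylow subgroup of `M'` but not of `G`, every subgroup containing `N_G(P)` has
larger `p`-part than `M'`. -/
theorem factorization_lt_of_not_sylow {M' M'' P : Subgroup G} (hP : IsSylIn p M' P)
    (hPS : Nat.card ↥P ≠ p ^ (Nat.card G).factorization p)
    (hle : Subgroup.normalizer (P : Set G) ≤ M'') :
    (Nat.card ↥M').factorization p < (Nat.card ↥M'').factorization p := by
  have hp : p.Prime := Fact.out
  obtain ⟨S, hS⟩ := hP.isPGroup.exists_le_sylow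
  have hne : P ≠ (S : Subgroup G) := by
    intro h
    apply hPS
    rw [h, S.card_eq_multiplicity]
  have hlt := card_lt_card_inf_normalizer S hS hne
  have hRp : IsPGroup p ↥((S : Subgroup G) ⊓ Subgroup.normalizer (P : Set G)) :=
    S.isPGroup'.to_le inf_le_left
  have hcard := card_le_of_isPGroup_of_le (inf_le_right.trans hle) hRp
  rw [hP.2] at hlt
  exact (Nat.pow_lt_pow_iff_right hp.one_lt).mp (lt_of_lt_of_le hlt hcard)

/-- Sylow subgroups of a `p`-local subgroup are nontrivial. -/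
theorem ne_bot_of_isSylIn_of_isPLocal {M P : Subgroup G} (hM : IsPLocal p M)
    (hP : IsSylIn p M P) : P ≠ ⊥ := by
  have hp : p.Prime := Fact.out
  obtain ⟨Q, hQp, hQ1, rfl⟩ := hM
  intro hbot
  have hQle : Q ≤ Subgroup.normalizer (Q : Set G) := Subgroup.le_normalizer
  have h1 := card_le_of_isPGroup_of_le hQle hQp
  rw [← hP.2, hbot, Subgroup.card_bot] at h1
  exact hQ1 (Subgroup.eq_bot_of_card_le Q h1)

omit [Fact p.Prime] [Finite G] in
theorem sylow_eq_of_le {S T : Sylow p G} (h : (S : Subgroup G) ≤ (T : Subgroup G)) : S = T :=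
  Sylow.ext (S.is_maximal' T.isPGroup' h).symm

end sylow

end Cfsg.Agent.Lib.Helper49_Goldschmidt
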