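import Mathlib
import Cfsg.Agent.Lib.Helper49_Goldschmidt

/-!
helper49: Goldschmidt's conjugation family theorem for a normalizer functor `f`: the normalizers
`N_G(F)`, `F ∈ f(S)` (`S` Sylow), together with the singular maximal `p`-local subgroups control
Sylow `p`-intersections.
-/

set_option autoImplicit false

namespace Cfsg.Agent.Lib.Helper49_Goldschmidt

open Cfsg Cfsg.Agent.Lib.Helper49_SylowControl Cfsg.Agent.Lib.Helper49_FunctorRegular

variable {G : Type*} [Group G]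

/-- The outer induction hypothesis: all pairs of Sylow subgroups containing a common subgroup
larger than `D` are linked over it. -/
def Big (p : ℕ) (𝔉 : Set (Subgroup G)) (D : Subgroup G) : Prop :=
  ∀ D' : Subgroup G, Nat.card ↥D < Nat.card ↥D' → ∀ S T : Sylow p G,
    D' ≤ (S : Subgroup G) → D' ≤ (T : Subgroup G) → GRel p 𝔉 D' S T

/-- The stage claim for a subgroup `K`. -/
def St (p : ℕ) (𝔉 : Set (Subgroup G)) (D K : Subgroup G) : Prop :=
  ∀ x ∈ K, ∀ (U : Sylow p G) (R : Subgroup G), R ≤ (U : Subgroup G) → R ≤ K → D ≤ R →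
    D ≤ subgroupConjRight x R → Nat.card ↥D < Nat.card ↥R → GRel p 𝔉 D (sylowConjR x U) U

theorem st_mono {p : ℕ} {𝔉 : Set (Subgroup G)} {D K K' : Subgroup G} (h : K ≤ K')
    (hst : St p 𝔉 D K') : St p 𝔉 D K :=
  fun x hx U R hRU hRK hDR hDRx hlt => hst x (h hx) U R hRU (hRK.trans h) hDR hDRx hlt

variable {p : ℕ} [Fact p.Prime] [Finite G]

/-- Lemma A: members of the family satisfy the stage claim. -/
theorem st_of_mem {𝔉 : Set (Subgroup G)} {D K : Subgroup G} (hK : K ∈ 𝔉)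
    (hbig : Big p 𝔉 D) : St p 𝔉 D K := by
  intro x hx U R hRU hRK hDR hDRx hlt
  have hRp : IsPGroup p ↥R := U.isPGroup'.to_le hRU
  obtain ⟨W, hW, hRW⟩ := exists_isSylIn_ge hRK hRp
  obtain ⟨U', hU'⟩ := hW.isPGroup.exists_le_sylow
  have hinf : (U' : Subgroup G) ⊓ K = W := inf_eq_of_isSylIn hW U' hU'
  have h1 : GRel p 𝔉 D (sylowConjR x U) (sylowConjR x U') := by
    refine grel_mono hDRx (hbig (subgroupConjRight x R) (by rw [card_conjR]; exact hlt) _ _ ?_ ?_)
    · rw [coe_sylowConjR]; exact conjR_mono x hRU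
    · rw [coe_sylowConjR]; exact conjR_mono x (hRW.trans hU')
  have h2 : GLink p 𝔉 D (sylowConjR x U') U' :=
    glink_of_mem hK hx U' (by rw [hinf]; exact hW.2) (by rw [hinf]; exact hDR.trans hRW)
  have h3 : GRel p 𝔉 D U' U := grel_mono hDR (hbig R hlt _ _ (hRW.trans hU') hRU)
  exact Relation.ReflTransGen.trans (Relation.ReflTransGen.tail h1 h2) h3

omit [Fact p.Prime] [Finite G] in
/-- Lifting a chain of links inside `M'` to the ambient group. -/
theorem chain_lift {f : Subgroup G → Set (Subgroup G)} {𝔉 : Set (Subgroup G)}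
    {D D'' M' A : Subgroup G} (hbig : Big p 𝔉 D) (hDD'' : D ≤ D'') (hDA : D ≤ A)
    (hltA : Nat.card ↥D < Nat.card ↥A)
    (hsub : ∀ P F, IsSylIn p M' P → F ∈ f P → St p 𝔉 D (Subgroup.normalizer (F : Set G))) :
    ∀ B, Relation.ReflTransGen (Link p f M' D'') A B →
      D ≤ B ∧ Nat.card ↥B = Nat.card ↥A ∧
        ∀ UA UB : Sylow p G, A ≤ (UA : Subgroup G) → B ≤ (UB : Subgroup G) → GRel p 𝔉 D UA UB := by
  intro B h
  induction h with
  | refl =>
    exact ⟨hDA, rfl, fun UA UB hA hB => grel_mono hDA (hbig A hltA UA UB hA hB)⟩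
  | @tail B₁ B₂ _ hl ih =>
    obtain ⟨hDB₁, hcard₁, ih⟩ := ih
    obtain ⟨F, x', ⟨P, hP, hFP⟩, hB₁N, hB₂N, hx'M, hx'N, hconj, hD''B₂⟩ := hl
    have hDB₂ : D ≤ B₂ := hDD''.trans hD''B₂
    have hcard₂ : Nat.card ↥B₂ = Nat.card ↥A := by
      rw [← hcard₁, ← hconj, card_conjR]
    refine ⟨hDB₂, hcard₂, fun UA UB hA hB => ?_⟩
    have h1 : GRel p 𝔉 D UA (sylowConjR x' UB) := by
      refine ih UA (sylowConjR x' UB) hA ?_
      rw [coe_sylowConjR, ← hconj]
      exact conjR_mono x' hB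
    have h2 : GRel p 𝔉 D (sylowConjR x' UB) UB :=
      hsub P F hP hFP x' hx'N UB B₂ hB hB₂N hDB₂ (by rw [hconj]; exact hDB₁)
        (by rw [hcard₂]; exact hltA)
    exact Relation.ReflTransGen.trans h1 h2

/-- Lemma C: a regular subgroup satisfies the stage claim if the normalizers of the members of
its functor family do. -/
theorem st_of_reg {f : Subgroup G → Set (Subgroup G)} {𝔉 : Set (Subgroup G)}
    {D M' : Subgroup G} (hD : D ≠ ⊥) (hreg : Reg p f M') (hbig : Big p 𝔉 D)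
    (hsub : ∀ P F, IsSylIn p M' P → F ∈ f P → St p 𝔉 D (Subgroup.normalizer (F : Set G))) :
    St p 𝔉 D M' := by
  intro x hx U R hRU hRM hDR hDRx hlt
  have hRp : IsPGroup p ↥R := U.isPGroup'.to_le hRU
  obtain ⟨W, hW, hRW⟩ := exists_isSylIn_ge hRM hRp
  obtain ⟨U', hU'⟩ := hW.isPGroup.exists_le_sylow
  have h1 : GRel p 𝔉 D (sylowConjR x U) (sylowConjR x U') := by
    refine grel_mono hDRx (hbig (subgroupConjRight x R) (by rw [card_conjR]; exact hlt) _ _ ?_ ?_)
    · rw [coe_sylowConjR]; exact conjR_mono x hRU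
    · rw [coe_sylowConjR]; exact conjR_mono x (hRW.trans hU')
  have h3 : GRel p 𝔉 D U' U := grel_mono hDR (hbig R hlt _ _ (hRW.trans hU') hRU)
  have hWx : IsSylIn p M' (subgroupConjRight x W) := IsSylIn.conjR hW hx
  have hltW : Nat.card ↥D < Nat.card ↥W := lt_of_lt_of_le hlt (Subgroup.card_le_of_le hRW)
  have hDWx : D ≤ subgroupConjRight x W := hDRx.trans (conjR_mono x hRW)
  have hWxU' : subgroupConjRight x W ≤ ((sylowConjR x U' : Sylow p G) : Subgroup G) := by
    rw [coe_sylowConjR]; exact conjR_mono x hU'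
  have h2 : GRel p 𝔉 D (sylowConjR x U') U' := by
    by_cases hWeq : subgroupConjRight x W = W
    · refine grel_mono (hDR.trans hRW) (hbig W hltW _ _ ?_ hU')
      calc W = subgroupConjRight x W := hWeq.symm
        _ ≤ _ := hWxU'
    · have hbot : subgroupConjRight x W ⊓ W ≠ ⊥ := by
        intro hb
        apply hD
        rw [eq_bot_iff, ← hb]
        exact le_inf hDWx (hDR.trans hRW)
      have hchain := hreg _ _ hWx hW hWeq hbot
      have key := chain_lift hbig (le_inf hDWx (hDR.trans hRW)) hDWx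
        (by rw [card_conjR]; exact hltW) hsub W hchain
      exact key.2.2 (sylowConjR x U') U' hWxU' hU'
  exact Relation.ReflTransGen.trans (Relation.ReflTransGen.trans h1 h2) h3

/-- Lemma D: every maximal `p`-local subgroup satisfies the stage claim. -/
theorem st_of_isMaximalPLocal {f : Subgroup G → Set (Subgroup G)} {𝔉 : Set (Subgroup G)}
    (hf : IsNormalizerFunctor p f)
    (hf1 : ∀ P : Subgroup G, IsPGroup p ↥P → P ≠ ⊥ → ∀ F ∈ f P, F ≠ ⊥)
    (h𝓕 : ∀ (S : Sylow p G) (F : Subgroup G), F ∈ f (S : Subgroup G) →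
      Subgroup.normalizer (F : Set G) ∈ 𝔉)
    (h𝓕' : ∀ M, IsMaximalPLocal p M → ¬ IsFunctorRegular p f M → M ∈ 𝔉)
    {D : Subgroup G} (hD : D ≠ ⊥) (hbig : Big p 𝔉 D) :
    ∀ (e : ℕ) (M' : Subgroup G), IsMaximalPLocal p M' →
      (Nat.card G).factorization p - (Nat.card ↥M').factorization p = e → St p 𝔉 D M' := by
  intro e
  induction e using Nat.strong_induction_on with
  | _ e ih =>
    intro M' hM' he
    by_cases hreg : IsFunctorRegular p f M'
    · refine st_of_reg hD (Cfsg.Agent.Lib.Helper49_FunctorRegular.reg_of_isFunctorRegular hf M' hreg)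
        hbig ?_
      intro P F hP hFP
      by_cases hPS : Nat.card ↥P = p ^ (Nat.card G).factorization p
      · have hPtop : IsSylIn p ⊤ P := ⟨le_top, by rw [hPS, Subgroup.card_top]⟩
        have := h𝓕 hPtop.toSylow F (by rw [hPtop.coe_toSylow]; exact hFP)
        exact st_of_mem this hbig
      · have hPp : IsPGroup p ↥P := hP.isPGroup
        have hP1 : P ≠ ⊥ := ne_bot_of_isSylIn_of_isPLocal hM'.1 hP
        have hF1 : F ≠ ⊥ := hf1 P hPp hP1 F hFP
        have hFle := (hf P hPp).1 F hFP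
        have hFp : IsPGroup p ↥F := hPp.to_le hFle.1
        have hloc : IsPLocal p (Subgroup.normalizer (F : Set G)) := ⟨F, hFp, hF1, rfl⟩
        obtain ⟨M'', hM'', hle⟩ := exists_isMaximalPLocal_ge _ _ hloc rfl
        have hgrow : (Nat.card ↥M').factorization p < (Nat.card ↥M'').factorization p :=
          factorization_lt_of_not_sylow hP hPS (hFle.2.trans hle)
        have hle' : (Nat.card ↥M'').factorization p ≤ (Nat.card G).factorization p :=
          (Nat.factorization_le_iff_dvd Nat.card_pos.ne' Nat.card_pos.ne').mpr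
            (Subgroup.card_subgroup_dvd_card M'') p
        have := ih ((Nat.card G).factorization p - (Nat.card ↥M'').factorization p) (by omega)
          M'' hM'' rfl
        exact st_mono hle this
    · exact st_of_mem (h𝓕' M' hM' hreg) hbig

/-- The main step: linking two Sylow subgroups over a common subgroup `D`, given the claim for all
larger subgroups. -/
theorem grel_of_le {f : Subgroup G → Set (Subgroup G)} {𝔉 : Set (Subgroup G)}
    (hf : IsNormalizerFunctor p f)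
    (hf1 : ∀ P : Subgroup G, IsPGroup p ↥P → P ≠ ⊥ → ∀ F ∈ f P, F ≠ ⊥)
    (h𝓕 : ∀ (S : Sylow p G) (F : Subgroup G), F ∈ f (S : Subgroup G) →
      Subgroup.normalizer (F : Set G) ∈ 𝔉)
    (h𝓕' : ∀ M, IsMaximalPLocal p M → ¬ IsFunctorRegular p f M → M ∈ 𝔉)
    {D : Subgroup G} (hD : D ≠ ⊥) (hbig : Big p 𝔉 D) (S T : Sylow p G)
    (hDS : D ≤ (S : Subgroup G)) (hDT : D ≤ (T : Subgroup G)) : GRel p 𝔉 D S T := by
  by_cases hS : D = (S : Subgroup G)
  · have : S = T := sylow_eq_of_le (hS ▸ hDT)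
    rw [this]
  by_cases hT : D = (T : Subgroup G)
  · have : T = S := sylow_eq_of_le (hT ▸ hDS)
    rw [this]
  have hDp : IsPGroup p ↥D := S.isPGroup'.to_le hDS
  have hloc : IsPLocal p (Subgroup.normalizer (D : Set G)) := ⟨D, hDp, hD, rfl⟩
  obtain ⟨M, hM, hNM⟩ := exists_isMaximalPLocal_ge _ _ hloc rfl
  have hSt := st_of_isMaximalPLocal hf hf1 h𝓕 h𝓕' hD hbig _ M hM rfl
  set R₁ : Subgroup G := (S : Subgroup G) ⊓ Subgroup.normalizer (D : Set G) with hR₁
  set R₂ : Subgroup G := (T : Subgroup G) ⊓ Subgroup.normalizer (D : Set G) with hR₂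
  have hDR₁ : D ≤ R₁ := le_inf hDS Subgroup.le_normalizer
  have hDR₂ : D ≤ R₂ := le_inf hDT Subgroup.le_normalizer
  have hlt₁ : Nat.card ↥D < Nat.card ↥R₁ := card_lt_card_inf_normalizer S hDS hS
  have hlt₂ : Nat.card ↥D < Nat.card ↥R₂ := card_lt_card_inf_normalizer T hDT hT
  have hR₁M : R₁ ≤ M := inf_le_right.trans hNM
  have hR₂M : R₂ ≤ M := inf_le_right.trans hNM
  obtain ⟨WS, hWS, hR₁W⟩ := exists_isSylIn_ge hR₁M (S.isPGroup'.to_le inf_le_left)
  obtain ⟨WT, hWT, hR₂W⟩ := exists_isSylIn_ge hR₂M (T.isPGroup'.to_le inf_le_left)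
  obtain ⟨S₁, hS₁⟩ := hWS.isPGroup.exists_le_sylow
  obtain ⟨T₁, hT₁⟩ := hWT.isPGroup.exists_le_sylow
  obtain ⟨m, hmM, hm⟩ := exists_conjR_eq_of_isSylIn hWS hWT
  have c1 : GRel p 𝔉 D S S₁ :=
    grel_mono hDR₁ (hbig R₁ hlt₁ S S₁ inf_le_left (hR₁W.trans hS₁))
  have hltW : Nat.card ↥D < Nat.card ↥WS := lt_of_lt_of_le hlt₁ (Subgroup.card_le_of_le hR₁W)
  have c2 : GRel p 𝔉 D S₁ (sylowConjR m T₁) := by
    refine grel_mono (hDR₁.trans hR₁W) (hbig WS hltW _ _ hS₁ ?_)
    rw [coe_sylowConjR, ← hm]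
    exact conjR_mono m hT₁
  have c3 : GRel p 𝔉 D (sylowConjR m T₁) T₁ :=
    hSt m hmM T₁ WT hT₁ hWT.1 (hDR₂.trans hR₂W) (by rw [hm]; exact hDR₁.trans hR₁W)
      (lt_of_lt_of_le hlt₂ (Subgroup.card_le_of_le hR₂W))
  have c4 : GRel p 𝔉 D T₁ T :=
    grel_mono hDR₂ (hbig R₂ hlt₂ T₁ T (hR₂W.trans hT₁) inf_le_left)
  exact Relation.ReflTransGen.trans (Relation.ReflTransGen.trans
    (Relation.ReflTransGen.trans c1 c2) c3) c4

/-- All pairs of Sylow subgroups containing a common nontrivial subgroup `D` are linked over `D`. -/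
theorem grel_all {f : Subgroup G → Set (Subgroup G)} {𝔉 : Set (Subgroup G)}
    (hf : IsNormalizerFunctor p f)
    (hf1 : ∀ P : Subgroup G, IsPGroup p ↥P → P ≠ ⊥ → ∀ F ∈ f P, F ≠ ⊥)
    (h𝓕 : ∀ (S : Sylow p G) (F : Subgroup G), F ∈ f (S : Subgroup G) →
      Subgroup.normalizer (F : Set G) ∈ 𝔉)
    (h𝓕' : ∀ M, IsMaximalPLocal p M → ¬ IsFunctorRegular p f M → M ∈ 𝔉) :
    ∀ (n : ℕ) (D : Subgroup G), D ≠ ⊥ → Nat.card G - Nat.card ↥D = n →
      ∀ S T : Sylow p G, D ≤ (S : Subgroup G) → D ≤ (T : Subgroup G) → GRel p 𝔉 D S T := by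
  intro n
  induction n using Nat.strong_induction_on with
  | _ n ih =>
    intro D hD hn S T hDS hDT
    refine grel_of_le hf hf1 h𝓕 h𝓕' hD ?_ S T hDS hDT
    intro D' hlt S' T' hS' hT'
    have hD' : D' ≠ ⊥ := by
      rintro rfl
      rw [Subgroup.card_bot] at hlt
      have : 0 < Nat.card ↥D := Nat.card_pos
      omega
    have hle : Nat.card ↥D' ≤ Nat.card G := Subgroup.card_le_card_group D'
    exact ih (Nat.card G - Nat.card ↥D') (by omega) D' hD' rfl S' T' hS' hT'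

/-- Goldschmidt's theorem for a normalizer functor. -/
theorem controls_of_functor {f : Subgroup G → Set (Subgroup G)} {𝔉 : Set (Subgroup G)}
    (hf : IsNormalizerFunctor p f)
    (hf1 : ∀ P : Subgroup G, IsPGroup p ↥P → P ≠ ⊥ → ∀ F ∈ f P, F ≠ ⊥)
    (h𝓕 : ∀ (S : Sylow p G) (F : Subgroup G), F ∈ f (S : Subgroup G) →
      Subgroup.normalizer (F : Set G) ∈ 𝔉)
    (h𝓕' : ∀ M, IsMaximalPLocal p M → ¬ IsFunctorRegular p f M → M ∈ 𝔉) :
    ControlsSylowIntersections p 𝔉 := by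
  apply controls_of_grel
  intro S T _ hbot
  exact grel_all hf hf1 h𝓕 h𝓕' _ _ hbot rfl S T inf_le_left inf_le_right

end Cfsg.Agent.Lib.Helper49_Goldschmidt
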