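import Mathlib

/-!
# GROSS-GARITH (S3795 package; architect helper9) : `q^d + 1 = 2^m` with `q` an odd prime forces `d = 1`
-/

set_option autoImplicit false

namespace Cfsg.Agent.Lib.Helper5_Gross_GARITH

theorem mersenne_exp (q d m : ℕ) (hq : q.Prime) (hq2 : q ≠ 2) (hd : 1 ≤ d)
    (h : q ^ d + 1 = 2 ^ m) : d = 1 := by
  have hqodd : q % 2 = 1 := by
    rcases hq.eq_two_or_odd with h2 | h2
    · exact absurd h2 hq2
    · exact h2
  have hq3 : 3 ≤ q := by
    have := hq.two_le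
    omega
  rcases Nat.even_or_odd d with hev | hodd
  · -- `d` even : impossible
    exfalso
    obtain ⟨e, rfl⟩ := hev
    have he : 1 ≤ e := by omega
    have h1 : (q ^ e) % 2 = 1 := by
      rw [Nat.pow_mod, hqodd, one_pow]
      rfl
    have h2 : q ^ (e + e) % 4 = 1 := by
      rw [pow_add, ← sq]
      have h3 : q ^ e % 4 = 1 ∨ q ^ e % 4 = 3 := by omega
      rcases h3 with h3 | h3 <;> rw [Nat.pow_mod, h3]
    have h3 : 2 ^ m % 4 = 2 := by
      rw [← h]
      omega
    have hm : m = 1 := by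
      rcases m with _ | _ | m
      · norm_num at h3
      · rfl
      · exfalso
        rw [pow_succ, pow_succ, mul_assoc] at h3
        omega
    rw [hm, pow_one] at h
    have h4 : 1 < q ^ (e + e) := Nat.one_lt_pow (by omega) (by omega)
    omega
  · -- `d` odd
    obtain ⟨e, rfl⟩ := hodd
    have hdvd : q + 1 ∣ q ^ (2 * e + 1) + 1 := by
      have := Odd.nat_add_dvd_pow_add_pow q 1 (⟨e, rfl⟩ : Odd (2 * e + 1))
      rwa [one_pow] at this
    obtain ⟨k, hk⟩ := hdvd
    -- `k` is odd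
    have hkodd : k % 2 = 1 := by
      have h1 : ((q : ℤ) ^ 2 - 1) ∣ ((q : ℤ) ^ 2) ^ e - 1 ^ e := sub_dvd_pow_sub_pow _ _ _
      have h2 : ((q : ℤ) + 1) * ((q : ℤ) - 1) ∣ ((q : ℤ) + 1) * ((k : ℤ) - 1) := by
        have e1 : ((q : ℤ) + 1) * ((k : ℤ) - 1) = (q : ℤ) * (((q : ℤ) ^ 2) ^ e - 1 ^ e) := by
          have hk' : (q : ℤ) ^ (2 * e + 1) + 1 = ((q : ℤ) + 1) * k := by exact_mod_cast hk
          rw [one_pow, ← pow_mul]
          have : (q : ℤ) ^ (2 * e + 1) = q * q ^ (2 * e) := by rw [pow_succ]; ring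
          linear_combination (-1 : ℤ) * hk' + this
        rw [e1]
        have e2 : ((q : ℤ) + 1) * ((q : ℤ) - 1) = (q : ℤ) ^ 2 - 1 := by ring
        rw [e2]
        exact Dvd.dvd.mul_left h1 _
      have h3 : ((q : ℤ) - 1) ∣ ((k : ℤ) - 1) := by
        have hne : ((q : ℤ) + 1) ≠ 0 := by positivity
        exact (mul_dvd_mul_iff_left hne).1 h2
      have h4 : (2 : ℤ) ∣ (q : ℤ) - 1 := by omega
      have h5 : (2 : ℤ) ∣ (k : ℤ) - 1 := h4.trans h3
      omega
    have hk1 : k = 1 := by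
      have hkdvd : k ∣ 2 ^ m := ⟨q + 1, by rw [← h, hk, mul_comm]⟩
      have hcop : Nat.Coprime k (2 ^ m) := by
        apply Nat.Coprime.pow_right
        exact Nat.Coprime.symm ((Nat.Prime.coprime_iff_not_dvd Nat.prime_two).2 (by omega))
      exact Nat.Coprime.eq_one_of_dvd hcop hkdvd
    rw [hk1, mul_one] at hk
    have h6 : q ^ (2 * e + 1) = q ^ 1 := by rw [pow_one]; omega
    exact Nat.pow_right_injective hq.two_le h6

end Cfsg.Agent.Lib.Helper5_Gross_GARITH
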