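import Mathlib
import Cfsg.Agent.Lib.Helper9_GrossDefs
import Cfsg.Agent.Lib.Helper71_HHBEigen

/-!
# GROSS-GSPAN (helper8, package of helper9's S3795 plan)

Refinement of `Helper71_HHBEigen.exists_invariant_simple`: if `x ^ n = 1` with `n ≠ 0` in `K`, a simple
`Q`-subspace `U₀` with `x U₀ ≅ U₀` lies in the span of the `x`-stable simple subspaces `U' ≅ U₀`.
The proof copies helper71's (the twisted operator `T f = x ∘ f ∘ φ₀` on the equivariant maps
`U₀ → V`) and adds: `T ^ n` is a nonzero scalar (Schur), so `T` is diagonalisable.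
-/

set_option autoImplicit false

namespace Cfsg.Agent.Lib.Helper8_Gross_GSPAN

open Module Cfsg.Agent.Lib.Helper71_HHBTwist Cfsg.Agent.Lib.Helper71_HHBEigen

section GSPAN
variable {K : Type*} [Field K] {Q : Type*} [Group Q] {V : Type*} [AddCommGroup V] [Module K V]

/-- a nonzero equivariant map out of a simple subspace is injective with simple range -/
theorem equivariant_range {ρ : Representation K Q V} {U₀ : Submodule K V}
    (hU₀ : IsSimpleInv ρ U₀) (f₀ : U₀ →ₗ[K] V) (hf0 : f₀ ≠ 0)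
    (hfeq : ∀ (g : Q) (u u₁ : U₀), (u₁ : V) = ρ g u → f₀ u₁ = ρ g (f₀ u)) :
    IsSimpleInv ρ (LinearMap.range f₀) ∧ EquivIso ρ U₀ (LinearMap.range f₀) := by
  have hker : LinearMap.ker f₀ = ⊥ := by
    have h1 : (LinearMap.ker f₀).map U₀.subtype ≤ U₀ := by
      rintro _ ⟨u, _, rfl⟩
      exact u.2
    have h2 : ∀ g, ∀ v ∈ (LinearMap.ker f₀).map U₀.subtype,
        ρ g v ∈ (LinearMap.ker f₀).map U₀.subtype := by
      rintro g _ ⟨u, hu, rfl⟩
      refine ⟨⟨ρ g u, hU₀.1 g u u.2⟩, ?_, rfl⟩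
      have hu' : f₀ u = 0 := hu
      show f₀ _ = 0
      rw [hfeq g u ⟨ρ g u, hU₀.1 g u u.2⟩ rfl, hu', map_zero]
    rcases hU₀.2.2 _ h1 h2 with h3 | h3
    · rw [Submodule.eq_bot_iff]
      intro u hu
      have : (u : V) ∈ (LinearMap.ker f₀).map U₀.subtype := ⟨u, hu, rfl⟩
      rw [h3] at this
      exact Subtype.ext ((Submodule.mem_bot K).1 this)
    · exfalso
      apply hf0
      ext u
      have : (u : V) ∈ (LinearMap.ker f₀).map U₀.subtype := by rw [h3]; exact u.2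
      obtain ⟨u', hu', huu'⟩ := this
      have : u' = u := Subtype.ext huu'
      rw [this] at hu'
      exact hu'
  have hinj : Function.Injective f₀ := LinearMap.ker_eq_bot.1 hker
  refine ⟨⟨?_, ?_, ?_⟩, ?_⟩
  · rintro g _ ⟨u, rfl⟩
    exact ⟨⟨ρ g u, hU₀.1 g u u.2⟩, hfeq g u _ rfl⟩
  · intro h0
    apply hf0
    ext u
    have : f₀ u ∈ LinearMap.range f₀ := ⟨u, rfl⟩
    rw [h0] at this
    exact (Submodule.mem_bot K).1 this
  · intro U' hU' hinv
    have h1 : (U'.comap f₀).map U₀.subtype ≤ U₀ := by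
      rintro _ ⟨u, _, rfl⟩
      exact u.2
    have h2 : ∀ g, ∀ v ∈ (U'.comap f₀).map U₀.subtype, ρ g v ∈ (U'.comap f₀).map U₀.subtype := by
      rintro g _ ⟨u, hu, rfl⟩
      refine ⟨⟨ρ g u, hU₀.1 g u u.2⟩, ?_, rfl⟩
      show f₀ _ ∈ U'
      rw [hfeq g u ⟨ρ g u, hU₀.1 g u u.2⟩ rfl]
      exact hinv g _ hu
    rcases hU₀.2.2 _ h1 h2 with h3 | h3
    · left
      rw [Submodule.eq_bot_iff]
      intro v hv
      obtain ⟨u, rfl⟩ := hU' hv
      have : (u : V) ∈ (U'.comap f₀).map U₀.subtype := ⟨u, hv, rfl⟩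
      rw [h3] at this
      have hu0 : u = 0 := Subtype.ext ((Submodule.mem_bot K).1 this)
      rw [hu0, map_zero]
    · right
      apply le_antisymm hU'
      rintro _ ⟨u, rfl⟩
      have : (u : V) ∈ (U'.comap f₀).map U₀.subtype := by rw [h3]; exact u.2
      obtain ⟨u', hu', huu'⟩ := this
      have : u' = u := Subtype.ext huu'
      rw [this] at hu'
      exact hu'
  · refine ⟨LinearEquiv.ofInjective f₀ hinj, ?_⟩
    intro g u u₁ h
    show f₀ u₁ = ρ g (f₀ u)
    exact hfeq g u u₁ h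

/-- Schur's lemma on a simple invariant subspace: an equivariant endomorphism is a scalar -/
theorem schur_scalar [IsAlgClosed K] [FiniteDimensional K V] {ρ : Representation K Q V}
    {U₀ : Submodule K V} (hU₀ : IsSimpleInv ρ U₀) (ψ : U₀ →ₗ[K] U₀)
    (hψ : ∀ (g : Q) (u u₁ : U₀), (u₁ : V) = ρ g u → ((ψ u₁ : U₀) : V) = ρ g (ψ u : U₀)) :
    ∃ c : K, ∀ u : U₀, ψ u = c • u := by
  have hnt : Nontrivial U₀ := (Submodule.nontrivial_iff_ne_bot).2 hU₀.2.1
  obtain ⟨c, hc⟩ := Module.End.exists_eigenvalue (ψ : End K U₀)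
  refine ⟨c, ?_⟩
  obtain ⟨w, hw⟩ := hc.exists_hasEigenvector
  have h1 : (Module.End.eigenspace (ψ : End K U₀) c).map U₀.subtype ≤ U₀ := by
    rintro _ ⟨u, _, rfl⟩
    exact u.2
  have h2 : ∀ g, ∀ v ∈ (Module.End.eigenspace (ψ : End K U₀) c).map U₀.subtype,
      ρ g v ∈ (Module.End.eigenspace (ψ : End K U₀) c).map U₀.subtype := by
    rintro g _ ⟨u, hu, rfl⟩
    refine ⟨⟨ρ g u, hU₀.1 g u u.2⟩, ?_, rfl⟩
    have hu' : ψ u = c • u := Module.End.mem_eigenspace_iff.1 hu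
    rw [SetLike.mem_coe, Module.End.mem_eigenspace_iff]
    apply Subtype.ext
    have h3 := hψ g u ⟨ρ g u, hU₀.1 g u u.2⟩ rfl
    show ((ψ ⟨ρ g u, hU₀.1 g u u.2⟩ : U₀) : V) = c • ρ g u
    rw [h3, hu']
    show ρ g (c • (u : V)) = c • ρ g u
    rw [map_smul]
  rcases hU₀.2.2 _ h1 h2 with h3 | h3
  · exfalso
    apply hw.2
    have : (w : V) ∈ (Module.End.eigenspace (ψ : End K U₀) c).map U₀.subtype := ⟨w, hw.1, rfl⟩
    rw [h3] at this
    exact Subtype.ext ((Submodule.mem_bot K).1 this)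
  · intro u
    have : (u : V) ∈ (Module.End.eigenspace (ψ : End K U₀) c).map U₀.subtype := by rw [h3]; exact u.2
    obtain ⟨u', hu', huu'⟩ := this
    have : u' = u := Subtype.ext huu'
    rw [this] at hu'
    exact Module.End.mem_eigenspace_iff.1 hu'

theorem le_sSup_invariant_simple [IsAlgClosed K] [FiniteDimensional K V]
    (ρ : Representation K Q V) (x : V ≃ₗ[K] V) (φ : Q ≃* Q)
    (hcomp : ∀ g v, x (ρ g v) = ρ (φ g) (x v)) (n : ℕ) (hn : (n : K) ≠ 0) (hxn : x ^ n = 1)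
    (U₀ : Submodule K V) (hU₀ : IsSimpleInv ρ U₀)
    (hiso : EquivIso ρ U₀ (U₀.map (x : V →ₗ[K] V))) :
    U₀ ≤ sSup {U' : Submodule K V | IsSimpleInv ρ U' ∧ (∀ u ∈ U', x u ∈ U') ∧
      EquivIso ρ U₀ U'} := by
  classical
  obtain ⟨e, he⟩ := hiso
  have hnt : Nontrivial U₀ := (Submodule.nontrivial_iff_ne_bot).2 hU₀.2.1
  -- the twisting map `φ₀`
  have hmem : ∀ u : U₀, x.symm ((e u : U₀.map (x : V →ₗ[K] V)) : V) ∈ U₀ := by
    intro u
    obtain ⟨u', hu', hu'e⟩ := (e u).2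
    rw [← hu'e]
    show x.symm (x u') ∈ U₀
    rw [LinearEquiv.symm_apply_apply]
    exact hu'
  let φ₀ : End K U₀ :=
    LinearMap.codRestrict U₀
      ((x.symm : V →ₗ[K] V) ∘ₗ (U₀.map (x : V →ₗ[K] V)).subtype ∘ₗ
        (e : U₀ →ₗ[K] (U₀.map (x : V →ₗ[K] V)))) hmem
  have hφ₀a : ∀ u : U₀, ((φ₀ u : U₀) : V) = x.symm ((e u : U₀.map (x : V →ₗ[K] V)) : V) := by
    intro u; rfl
  have hφ₀ : ∀ (g : Q) (u u₁ : U₀), (u₁ : V) = ρ g u →
      ((φ₀ u₁ : U₀) : V) = ρ (φ.symm g) (φ₀ u : U₀) := by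
    intro g u u₁ h
    rw [hφ₀a, hφ₀a, he g u u₁ h, comp_symm hcomp]
  have hφ₀inj : Function.Injective φ₀ := by
    rw [← LinearMap.ker_eq_bot, LinearMap.ker_eq_bot']
    intro u hu
    have h1 : ((φ₀ u : U₀) : V) = 0 := by rw [hu]; rfl
    rw [hφ₀a] at h1
    have h2 : ((e u : U₀.map (x : V →ₗ[K] V)) : V) = 0 := x.symm.map_eq_zero_iff.1 h1
    have h3 : e u = 0 := Subtype.ext h2
    exact e.map_eq_zero_iff.1 h3
  have hφ₀surj : Function.Surjective φ₀ := LinearMap.surjective_of_injective hφ₀inj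
  -- powers of `x` and of `φ₀`
  have hxpow : ∀ (k : ℕ) (g : Q) (v : V), (x ^ k) (ρ g v) = ρ (φ^[k] g) ((x ^ k) v) := by
    intro k
    induction k with
    | zero => intro g v; simp
    | succ k ih =>
      intro g v
      rw [pow_succ', LinearEquiv.mul_apply, LinearEquiv.mul_apply, ih, hcomp,
        Function.iterate_succ_apply']
  have hρn : ∀ (g : Q) (v : V), ρ (φ^[n] g) v = ρ g v := by
    intro g v
    have := hxpow n g v
    rw [hxn] at this
    simpa using this.symm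
  have hφ₀pow : ∀ (k : ℕ) (g : Q) (u u₁ : U₀), (u₁ : V) = ρ g u →
      (((φ₀ ^ k) u₁ : U₀) : V) = ρ (φ.symm^[k] g) ((φ₀ ^ k) u : U₀) := by
    intro k
    induction k with
    | zero => intro g u u₁ h; simpa using h
    | succ k ih =>
      intro g u u₁ h
      rw [pow_succ', Module.End.mul_apply, Module.End.mul_apply, Function.iterate_succ_apply']
      exact hφ₀ _ _ _ (ih g u u₁ h)
  have hψcomm : ∀ (g : Q) (u u₁ : U₀), (u₁ : V) = ρ g u →
      (((φ₀ ^ n) u₁ : U₀) : V) = ρ g ((φ₀ ^ n) u : U₀) := by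
    intro g u u₁ h
    rw [hφ₀pow n g u u₁ h, ← hρn (φ.symm^[n] g)]
    have hli : Function.LeftInverse φ^[n] φ.symm^[n] :=
      Function.LeftInverse.iterate (g := φ) (f := φ.symm) φ.apply_symm_apply n
    rw [hli g]
  obtain ⟨c, hc⟩ := schur_scalar hU₀ (φ₀ ^ n) hψcomm
  have hc0 : c ≠ 0 := by
    intro h0
    obtain ⟨u, hu⟩ := exists_ne (0 : U₀)
    apply hu
    have hinjn : Function.Injective (φ₀ ^ n) := by
      rw [Module.End.coe_pow]
      exact hφ₀inj.iterate n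
    apply hinjn
    rw [hc u, h0, zero_smul, map_zero]
  -- the space of equivariant maps
  let E : Submodule K (U₀ →ₗ[K] V) :=
    { carrier := {f | ∀ (g : Q) (u u₁ : U₀), (u₁ : V) = ρ g u → f u₁ = ρ g (f u)}
      add_mem' := by
        intro a b ha hb g u u₁ h
        rw [LinearMap.add_apply, LinearMap.add_apply, ha g u u₁ h, hb g u u₁ h, map_add]
      zero_mem' := by
        intro g u u₁ _
        simp
      smul_mem' := by
        intro c a ha g u u₁ h
        rw [LinearMap.smul_apply, LinearMap.smul_apply, ha g u u₁ h, map_smul] }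
  let T₀ : (U₀ →ₗ[K] V) →ₗ[K] (U₀ →ₗ[K] V) :=
    { toFun := fun f => (x : V →ₗ[K] V) ∘ₗ f ∘ₗ φ₀
      map_add' := by intro a b; ext u; simp
      map_smul' := by intro c a; ext u; simp }
  have hT₀ : ∀ f ∈ E, T₀ f ∈ E := by
    intro f hf g u u₁ h
    show x (f (φ₀ u₁)) = ρ g (x (f (φ₀ u)))
    have h1 := hφ₀ g u u₁ h
    have h2 := hf (φ.symm g) (φ₀ u) (φ₀ u₁) h1
    rw [h2, hcomp, MulEquiv.apply_symm_apply]
  let T : End K E := T₀.restrict hT₀
  have hTa : ∀ (f : E) (u : U₀), ((T f : E) : U₀ →ₗ[K] V) u = x ((f : U₀ →ₗ[K] V) (φ₀ u)) := by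
    intro f u; rfl
  have hTpow : ∀ (k : ℕ) (f : E) (u : U₀),
      (((T ^ k) f : E) : U₀ →ₗ[K] V) u = (x ^ k) ((f : U₀ →ₗ[K] V) ((φ₀ ^ k) u)) := by
    intro k
    induction k with
    | zero => intro f u; simp
    | succ k ih =>
      intro f u
      rw [pow_succ, Module.End.mul_apply, ih, hTa, pow_succ, LinearEquiv.mul_apply, pow_succ',
        Module.End.mul_apply]
  have hTn : T ^ n = c • (1 : End K E) := by
    apply LinearMap.ext
    intro f
    apply Subtype.ext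
    apply LinearMap.ext
    intro u
    rw [hTpow n f u, hxn, hc u]
    simp
  -- `T` is diagonalisable
  have hsep : (Polynomial.X ^ n - Polynomial.C c).Separable :=
    Polynomial.separable_X_pow_sub_C c hn hc0
  have hss : T.IsSemisimple := by
    refine Module.End.isSemisimple_of_squarefree_aeval_eq_zero hsep.squarefree ?_
    simp [hTn, Algebra.algebraMap_eq_smul_one]
  have htop : ⨆ μ : K, T.eigenspace μ = ⊤ := by
    have h := Module.End.iSup_maxGenEigenspace_eq_top T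
    have : ∀ μ, T.maxGenEigenspace μ = T.eigenspace μ := fun μ =>
      hss.isFinitelySemisimple.maxGenEigenspace_eq_eigenspace μ
    simpa [this] using h
  -- every eigenvector has range in the span
  obtain ⟨S, hS⟩ : ∃ S : Submodule K V, S = sSup {U' : Submodule K V | IsSimpleInv ρ U' ∧
      (∀ u ∈ U', x u ∈ U') ∧ EquivIso ρ U₀ U'} := ⟨_, rfl⟩
  rw [← hS]
  have hall : ∀ f : E, ∀ u : U₀, (f : U₀ →ₗ[K] V) u ∈ S := by
    intro f
    have hf : f ∈ ⨆ μ : K, T.eigenspace μ := by rw [htop]; trivial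
    induction hf using Submodule.iSup_induction' with
    | mem μ f hf =>
      intro u
      by_cases hf0 : (f : U₀ →ₗ[K] V) = 0
      · rw [hf0]; exact S.zero_mem
      have hfT : T f = μ • f := Module.End.mem_eigenspace_iff.1 hf
      obtain ⟨hsimp, hisoR⟩ := equivariant_range hU₀ (f : U₀ →ₗ[K] V) hf0 f.2
      have hstab : ∀ v ∈ LinearMap.range (f : U₀ →ₗ[K] V), x v ∈ LinearMap.range (f : U₀ →ₗ[K] V) := by
        rintro _ ⟨u', rfl⟩
        obtain ⟨u₁, rfl⟩ := hφ₀surj u'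
        have h1 := congrArg (fun h : E => (h : U₀ →ₗ[K] V) u₁) hfT
        simp only [hTa] at h1
        rw [h1]
        exact Submodule.smul_mem _ _ ⟨u₁, rfl⟩
      have hle : LinearMap.range (f : U₀ →ₗ[K] V) ≤ S := by
        rw [hS]
        exact le_sSup ⟨hsimp, hstab, hisoR⟩
      exact hle ⟨u, rfl⟩
    | zero => intro u; exact S.zero_mem
    | add f₁ f₂ _ _ h1 h2 =>
      intro u
      exact S.add_mem (h1 u) (h2 u)
  have hι : U₀.subtype ∈ E := by
    intro g u u₁ h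
    exact h
  intro u hu
  exact hall ⟨U₀.subtype, hι⟩ ⟨u, hu⟩

end GSPAN

end Cfsg.Agent.Lib.Helper8_Gross_GSPAN
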