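import Mathlib
import Cfsg.Agent.Lib.Helper9_GrossDefs
import Cfsg.Agent.Lib.Helper71_ESLinear
import Cfsg.Agent.Lib.Helper71_HHBEigen
import Cfsg.Agent.Lib.Helper71_HHRep
import Cfsg.Agent.Lib.Helper64_ShultCore
import Cfsg.Agent.Lib.Helper64_ShultExc
import Cfsg.Agent.Lib.Helper64_ShultIso
import Cfsg.Agent.Lib.Helper5_Gross_GARITH
import Cfsg.Agent.Lib.Helper8_Gross_GSPAN

/-!
# GROSS-GCORE, main part (S3795 package; architect helper9): the linear core of Gross' theorem (helper63)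

The statement `gross_core_of` is GROSS-GCORE with the package GROSS-GES as an explicit hypothesis
(`hGES`); the file `Helper63_Gross_GCORE.lean` discharges it.

A finite `s`-group `E ≤ GL(V)` (`s` odd, `V` over an algebraically closed field in which `2` and `s`
are invertible) of class at most two, normalised by a fixed-point-free `x` of order dividing
`2 ^ (N + 1)` such that every element of `E` centralised by `x ^ 2 ^ N` is central in `E`: then `V` is
the sum of the `Nice` simple `E`-subspaces.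
-/

set_option autoImplicit false
set_option linter.unusedSectionVars false
set_option linter.unusedVariables false
set_option maxHeartbeats 1000000

namespace Cfsg.Agent.Lib.Helper63_Gross_GCOREaux

open Module Cfsg.Agent.Lib.Helper9_GrossDefs Cfsg.Agent.Lib.Helper71_ESLinear
  Cfsg.Agent.Lib.Helper71_HHB Cfsg.Agent.Lib.Helper71_HHBTwist
open scoped commutatorElement

universe u


section GCORE
variable {K : Type*} [Field K] {V : Type*} [AddCommGroup V] [Module K V]

open Cfsg.Agent.Lib.Helper71_HHBGroup Cfsg.Agent.Lib.Helper71_HHBInd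
  Cfsg.Agent.Lib.Helper71_HHBEigen Cfsg.Agent.Lib.Helper71_HHBCrit
  Cfsg.Agent.Lib.Helper64_ShultCore

/-- one simple `ξ`-stable subspace of the isotypic component is `Nice` -/
theorem nice_of_simple [IsAlgClosed K] [FiniteDimensional K V] (s : ℕ) [Fact s.Prime]
    (hs2 : s ≠ 2) (h2K : (2 : K) ≠ 0) (N : ℕ) (x : V ≃ₗ[K] V)
    (hx : x ^ 2 ^ (N + 1) = 1) (hfix : ∀ v : V, x v = v → v = 0)
    (E : Subgroup (V ≃ₗ[K] V)) [Finite E] (hE : IsPGroup s E)
    (hnorm : ∀ g ∈ E, x * g * x⁻¹ ∈ E) (hx' : ∀ g ∈ E, x⁻¹ * g * x ∈ E)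
    (hcl : ∀ a ∈ E, ∀ b ∈ E, ∀ c ∈ E, Commute ⁅a, b⁆ c)
    (hcent : ∀ c ∈ E, Commute (x ^ 2 ^ N) c → ∀ g ∈ E, Commute c g)
    (k : ℕ) (hkN : k ≤ N) (U' : Submodule K V) (hU' : IsSimpleInv (tautRep E) U')
    (hξU' : ∀ u ∈ U', (x ^ 2 ^ k) u ∈ U')
    (hnofix : ∀ u ∈ U', (x ^ 2 ^ k) u = u → u = 0)
    (hGES : ∀ (ρ : Representation K E U') (t : End K U') (σ : MulAut E), ESRep ρ → Irr ρ →
      ∀ m : ℕ, 1 ≤ m → t ^ (2 ^ m) = 1 → (∀ g, t * ρ g = ρ (σ g) * t) →
      (∀ j, 0 < j → j < 2 ^ m → ∀ g, (σ ^ j) g * g⁻¹ ∈ scSubgroup ρ → g ∈ scSubgroup ρ) →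
      (∃ g, g ∉ scSubgroup ρ) → (∀ u, t u = u → u = 0) →
      finrank K U' + 1 = 2 ^ m ∧
        finrank K (LinearMap.ker (t ^ (2 ^ (m - 1)) + 1)) = 2 ^ (m - 1)) :
    Nice s E (x ^ 2 ^ N) U' := by
  classical
  have hs : s.Prime := Fact.out
  obtain ⟨y, hydef⟩ : ∃ y, y = x ^ 2 ^ N := ⟨_, rfl⟩
  rw [← hydef] at hcent ⊢
  obtain ⟨ρ₁, hρ₁⟩ : ∃ ρ₁ : Representation K E V, ρ₁ = tautRep E := ⟨_, rfl⟩
  rw [← hρ₁] at hU'
  obtain ⟨ξ, hξ⟩ : ∃ ξ : V ≃ₗ[K] V, ξ = x ^ 2 ^ k := ⟨_, rfl⟩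
  rw [← hξ] at hξU' hnofix
  obtain ⟨α, hα⟩ : ∃ α : MulAut E, α = conjAut E x hnorm hx' := ⟨_, rfl⟩
  have hcompi : ∀ (i : ℕ) (g : E) (v : V),
      (x ^ i) (ρ₁ g v) = ρ₁ ((α ^ i) g) ((x ^ i) v) := by
    intro i g v
    rw [hρ₁, hα, tautRep_apply, tautRep_apply, conjAut_pow_apply]
    show (x ^ i) ((g : V ≃ₗ[K] V) v) = (x ^ i) ((g : V ≃ₗ[K] V) ((x ^ i)⁻¹ ((x ^ i) v)))
    congr 2
    exact ((x ^ i).symm_apply_apply v).symm
  have hcompξ : ∀ (g : E) (v : V), ξ (ρ₁ g v) = ρ₁ ((α ^ 2 ^ k) g) (ξ v) := by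
    rw [hξ]
    exact hcompi (2 ^ k)
  -- the restricted representation and operator
  obtain ⟨ρ, hρ⟩ : ∃ ρ : Representation K E U', ρ = subRep ρ₁ U' hU'.1 := ⟨_, rfl⟩
  have hρa : ∀ (g : E) (u : U'), ((ρ g u : U') : V) = ρ₁ g (u : V) := by
    intro g u
    rw [hρ]
    rfl
  have hirr : Irr ρ := by
    rw [hρ]
    apply irr_subRep_of_minimal
    intro M' hM'U' hM'0 hM'inv
    rcases hU'.2.2 M' hM'U' hM'inv with h | h
    · exact absurd h hM'0
    · exact h
  obtain ⟨t, ht⟩ : ∃ t : Module.End K U',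
      t = (ξ : V →ₗ[K] V).restrict (p := U') (q := U') hξU' := ⟨_, rfl⟩
  have hta : ∀ u : U', ((t u : U') : V) = ξ (u : V) := by
    intro u
    rw [ht]
    rfl
  have htpow : ∀ (j : ℕ) (u : U'), (((t ^ j) u : U') : V) = (ξ ^ j) (u : V) := by
    intro j
    induction j with
    | zero => intro u; rfl
    | succ j ih =>
      intro u
      rw [pow_succ', Module.End.mul_apply, hta, ih, pow_succ']
      rfl
  obtain ⟨m, hm⟩ : ∃ m, m = N + 1 - k := ⟨_, rfl⟩
  have hm1 : 1 ≤ m := by omega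
  have hmk : m + k = N + 1 := by omega
  have hξpow : ξ ^ 2 ^ m = 1 := by
    rw [hξ, ← pow_mul, ← pow_add, ← hx]
    congr 2
    omega
  have htp : t ^ 2 ^ m = 1 := by
    ext u
    rw [htpow, hξpow]
    rfl
  have hσ : ∀ g, t * ρ g = ρ ((α ^ 2 ^ k) g) * t := by
    intro g
    ext u
    rw [Module.End.mul_apply, Module.End.mul_apply, hta, hρa, hρa, hta]
    exact hcompξ g u
  have hαp : α ^ 2 ^ (N + 1) = 1 := by
    ext g
    rw [hα, conjAut_pow_apply, hx]
    simp
  have hαy : ∀ h : E, (α ^ 2 ^ N) h = h ↔ Commute y (h : V ≃ₗ[K] V) := by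
    intro h
    constructor
    · intro hh
      have h1 := congrArg Subtype.val hh
      rw [hα, conjAut_pow_apply, ← hydef] at h1
      show y * (h : V ≃ₗ[K] V) = h * y
      calc y * (h : V ≃ₗ[K] V) = (y * h * y⁻¹) * y := by group
        _ = h * y := by rw [h1]
    · intro hh
      apply Subtype.ext
      rw [hα, conjAut_pow_apply, ← hydef]
      have h5 : y * (h : V ≃ₗ[K] V) = h * y := hh.eq
      rw [h5]
      group
  have hc : ∀ h : E, (α ^ 2 ^ N) h = h → h ∈ Subgroup.center E := by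
    intro h hh
    rw [Subgroup.mem_center_iff]
    intro g
    have h1 := hcent h h.2 ((hαy h).1 hh) g g.2
    apply Subtype.ext
    rw [Subgroup.coe_mul, Subgroup.coe_mul]
    exact h1.eq.symm
  -- `y` preserves `U'`
  have hyξ : y = ξ ^ 2 ^ (m - 1) := by
    rw [hydef, hξ, ← pow_mul, ← pow_add]
    congr 2
    omega
  have hyU' : ∀ u ∈ U', y u ∈ U' := by
    intro u hu
    rw [hyξ]
    have := htpow (2 ^ (m - 1)) ⟨u, hu⟩
    rw [← this]
    exact ((t ^ 2 ^ (m - 1)) ⟨u, hu⟩).2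
  have hnt : Nontrivial U' := Submodule.nontrivial_iff_ne_bot.2 hU'.2.1
  set Y := scSubgroup ρ with hY
  -- centre acts by scalars
  have hZY : Subgroup.center E ≤ Y := by
    intro z hz
    apply Cfsg.Agent.Lib.Helper71_HHRep.isSc_of_commute hirr
    intro g
    rw [← map_mul, ← map_mul, (Subgroup.mem_center_iff.1 hz) g]
  have hcomm : ∀ g h : E, ⁅g, h⁆ ∈ Subgroup.center E := by
    intro g h
    rw [Subgroup.mem_center_iff]
    intro c
    have h1 := hcl g g.2 h h.2 c c.2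
    apply Subtype.ext
    rw [Subgroup.coe_mul, Subgroup.coe_mul]
    exact h1.eq.symm
  have hES : ESRep ρ := by
    constructor
    · intro g h
      obtain ⟨c, hcz⟩ := hZY (hcomm g h)
      refine ⟨c, ?_⟩
      have e : g * h = ⁅g, h⁆ * (h * g) := by
        rw [commutatorElement_def]; group
      rw [← map_mul, e, map_mul, hcz, map_mul]
      simp
    · intro g hg
      apply Cfsg.Agent.Lib.Helper71_HHRep.isSc_of_commute hirr
      intro h
      exact (hg h).eq
  have hNq := hES.card_quot hirr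
  obtain ⟨d, hd⟩ : ∃ d, d = finrank K U' := ⟨_, rfl⟩
  rw [← hd] at hNq
  have hYidx : Y.index = d ^ 2 := by
    rw [Subgroup.index_eq_card, hNq]
  -- the scalar subgroup and `ScOn`
  have hsc : ∀ g : E, g ∈ Y ↔ ScOn U' (g : V ≃ₗ[K] V) := by
    intro g
    constructor
    · rintro ⟨c, hc'⟩
      refine ⟨c, ?_⟩
      intro u hu
      have h1 := congrArg (fun f : Module.End K U' => ((f ⟨u, hu⟩ : U') : V)) hc'
      simp only [LinearMap.smul_apply, Module.End.one_apply, Submodule.coe_smul] at h1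
      rw [hρa, hρ₁] at h1
      exact h1
    · rintro ⟨c, hc'⟩
      refine ⟨c, ?_⟩
      ext u
      rw [hρa, hρ₁]
      simp only [LinearMap.smul_apply, Module.End.one_apply, Submodule.coe_smul]
      exact hc' u u.2
  have hcardY : Nat.card Y = Nat.card {g : E // ScOn U' (g : V ≃ₗ[K] V)} :=
    Nat.card_congr (Equiv.subtypeEquivRight hsc)
  refine ⟨by rw [← hρ₁]; exact hU', hyU', ?_, ?_⟩
  · rw [← hcardY, ← hd, ← hNq, mul_comm]
    exact Subgroup.card_eq_card_quotient_mul_card_subgroup Y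
  · rw [← hd]
    by_cases hne : ∃ g, g ∉ Y
    · right
      have hfixt : ∀ u : U', t u = u → u = 0 := by
        intro u hu
        apply Subtype.ext
        apply hnofix (u : V) u.2
        rw [← hta, hu]
      have hYσ : ∀ g ∈ Y, (α ^ 2 ^ k) g ∈ Y := fun g hg =>
        sigma_mem_sc (α ^ 2 ^ k) (pow_pos (by norm_num) m) htp hσ g hg
      have h2s : (2 : ℕ) ≠ s := fun h => hs2 h.symm
      have hsemi : ∀ j, 0 < j → j < 2 ^ m → ∀ g, ((α ^ 2 ^ k) ^ j) g * g⁻¹ ∈ Y → g ∈ Y := by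
        intro j hj0 hj g hg
        have e1 : (α ^ 2 ^ k) ^ j = α ^ (2 ^ k * j) := by rw [← pow_mul]
        have ha0 : 0 < 2 ^ k * j := Nat.mul_pos (pow_pos (by norm_num) k) hj0
        have ha : 2 ^ k * j < 2 ^ (N + 1) := by
          rw [← hmk, add_comm, pow_add]
          exact Nat.mul_lt_mul_of_pos_left hj (pow_pos (by norm_num) k)
        apply Cfsg.Agent.Lib.Helper64_ShultExc.mem_of_inv_mul_apply_mem 2 s h2s hE α N hαp hc
          (2 ^ k * j) ha0 ha Y _ hZY g
        · rw [← e1]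
          have := (scSubgroup_normal ρ).conj_mem _ hg g⁻¹
          simpa [mul_assoc] using this
        · rw [← e1]
          intro g' hg'
          have hpowmem : ∀ l : ℕ, ∀ g' ∈ Y, ((α ^ 2 ^ k) ^ l) g' ∈ Y := by
            intro l
            induction l with
            | zero => intro g' hg'; simpa using hg'
            | succ l ih =>
              intro g' hg'
              rw [pow_succ', MulAut.mul_apply]
              exact hYσ _ (ih g' hg')
          exact hpowmem j g' hg'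
      have hdim := hGES ρ t (α ^ 2 ^ k) hES hirr m hm1 htp hσ hsemi hne hfixt
      rw [← hd] at hdim
      obtain ⟨hd1, hker⟩ := hdim
      -- `d` is a power of `s`
      obtain ⟨a, ha⟩ := hE.index Y
      have hda : d ^ 2 = s ^ a := by rw [← hYidx, ha]
      have hdvd : d ∣ s ^ a := by rw [← hda]; exact dvd_pow_self d (by norm_num)
      obtain ⟨b, hba, hb⟩ := (Nat.dvd_prime_pow hs).1 hdvd
      have hb1 : 1 ≤ b := by
        rcases Nat.eq_zero_or_pos b with h0 | h0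
        · exfalso
          rw [h0, pow_zero] at hb
          obtain ⟨g, hg⟩ := hne
          apply hg
          have : Y = ⊤ := by
            rw [← Subgroup.index_eq_one, hYidx, hb, one_pow]
          rw [this]
          trivial
        · exact h0
      have hb' : b = 1 :=
        Cfsg.Agent.Lib.Helper5_Gross_GARITH.mersenne_exp s b m hs hs2 hb1 (by rw [← hb, hd1])
      rw [hb', pow_one] at hb
      refine ⟨hb, ?_⟩
      -- transport the kernel
      have hmap : (LinearMap.ker (t ^ (2 ^ (m - 1)) + 1)).map U'.subtype =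
          LinearMap.ker ((y : V →ₗ[K] V) + 1) ⊓ U' := by
        ext v
        constructor
        · rintro ⟨u, hu, rfl⟩
          rw [SetLike.mem_coe, LinearMap.mem_ker] at hu
          refine ⟨?_, u.2⟩
          rw [SetLike.mem_coe, LinearMap.mem_ker]
          have h1 := congrArg (Subtype.val) hu
          simp only [LinearMap.add_apply, Module.End.one_apply, Submodule.coe_add,
            ZeroMemClass.coe_zero] at h1
          rw [htpow, ← hyξ] at h1
          exact h1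
        · rintro ⟨hv1, hv2⟩
          rw [SetLike.mem_coe, LinearMap.mem_ker] at hv1
          refine ⟨⟨v, hv2⟩, ?_, rfl⟩
          rw [SetLike.mem_coe, LinearMap.mem_ker]
          apply Subtype.ext
          simp only [LinearMap.add_apply, Module.End.one_apply, Submodule.coe_add,
            ZeroMemClass.coe_zero]
          rw [htpow, ← hyξ]
          exact hv1
      rw [← hmap, Submodule.finrank_map_subtype_eq, hker, ← hb, hd1]
      have : 2 ^ m = 2 * 2 ^ (m - 1) := by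
        rw [← pow_succ']
        congr 1
        omega
      exact this.symm
    · left
      push Not at hne
      have : Y = ⊤ := by
        rw [eq_top_iff]
        intro g _
        exact hne g
      rw [this, Subgroup.index_top] at hYidx
      have : d ^ 2 = 1 := hYidx.symm
      rcases Nat.pow_eq_one.1 this with h | h
      · exact h
      · omega

theorem gross_core_of [IsAlgClosed K] [FiniteDimensional K V] (s : ℕ) [Fact s.Prime] (hs2 : s ≠ 2)
    (h2K : (2 : K) ≠ 0) (hsK : (s : K) ≠ 0) (N : ℕ) (x : V ≃ₗ[K] V)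
    (hx : x ^ 2 ^ (N + 1) = 1) (hfix : ∀ v : V, x v = v → v = 0)
    (E : Subgroup (V ≃ₗ[K] V)) [Finite E] (hE : IsPGroup s E)
    (hnorm : ∀ g ∈ E, x * g * x⁻¹ ∈ E)
    (hcl : ∀ a ∈ E, ∀ b ∈ E, ∀ c ∈ E, Commute ⁅a, b⁆ c)
    (hcent : ∀ c ∈ E, Commute (x ^ 2 ^ N) c → ∀ g ∈ E, Commute c g)
    (hGES : ∀ (U' : Submodule K V) (ρ : Representation K E U') (t : End K U') (σ : MulAut E), ESRep ρ → Irr ρ →
      ∀ m : ℕ, 1 ≤ m → t ^ (2 ^ m) = 1 → (∀ g, t * ρ g = ρ (σ g) * t) →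
      (∀ j, 0 < j → j < 2 ^ m → ∀ g, (σ ^ j) g * g⁻¹ ∈ scSubgroup ρ → g ∈ scSubgroup ρ) →
      (∃ g, g ∉ scSubgroup ρ) → (∀ u, t u = u → u = 0) →
      finrank K U' + 1 = 2 ^ m ∧
        finrank K (LinearMap.ker (t ^ (2 ^ (m - 1)) + 1)) = 2 ^ (m - 1)) :
    sSup {U : Submodule K V | Nice s E (x ^ 2 ^ N) U} = ⊤ := by
  classical
  have hs : s.Prime := Fact.out
  have hx' := inv_conj_mem_of_finite E x hnorm
  obtain ⟨ρ₁, hρ₁⟩ : ∃ ρ₁ : Representation K E V, ρ₁ = tautRep E := ⟨_, rfl⟩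
  have : NeZero (Nat.card E : K) := ⟨by
    obtain ⟨e, he⟩ := IsPGroup.iff_card.1 hE
    rw [he, Nat.cast_pow]
    exact pow_ne_zero _ hsK⟩
  obtain ⟨α, hα⟩ : ∃ α : MulAut E, α = conjAut E x hnorm hx' := ⟨_, rfl⟩
  have hcompi : ∀ (i : ℕ) (g : E) (v : V),
      (x ^ i) (ρ₁ g v) = ρ₁ ((α ^ i) g) ((x ^ i) v) := by
    intro i g v
    rw [hρ₁, hα, tautRep_apply, tautRep_apply, conjAut_pow_apply]
    show (x ^ i) ((g : V ≃ₗ[K] V) v) = (x ^ i) ((g : V ≃ₗ[K] V) ((x ^ i)⁻¹ ((x ^ i) v)))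
    congr 2
    exact ((x ^ i).symm_apply_apply v).symm
  -- every simple subspace lies in the span of the nice ones
  have key : ∀ U₀ : Submodule K V, IsSimpleInv ρ₁ U₀ →
      U₀ ≤ sSup {U : Submodule K V | Nice s E (x ^ 2 ^ N) U} := by
    intro U₀ hU₀
    obtain ⟨W, hW, hU₀W⟩ := exists_isIsoComp hU₀
    have hWi : ∀ i : ℕ, IsIsoComp ρ₁ (W.map ((x ^ i : V ≃ₗ[K] V) : V →ₗ[K] V)) :=
      fun i => hW.map (x ^ i) _ (hcompi i)
    obtain ⟨k, hkn, hkW, hkinj⟩ := orbit_structure 2 (N + 1) x hx W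
    have hind : ∀ v : Fin (2 ^ k) → V, (∀ i, v i ∈ W.map ((x : V →ₗ[K] V) ^ i.val)) →
        ∑ i, v i = 0 → ∀ i, v i = 0 := by
      intro v hv hsum i
      refine isIsoComp_indep (ρ := ρ₁)
        (fun i : Fin (2 ^ k) => W.map ((x ^ i.val : V ≃ₗ[K] V) : V →ₗ[K] V))
        (fun i => hWi i.val) ?_ v ?_ hsum i
      · intro i j hij
        exact Fin.ext (hkinj i.val j.val i.2 j.2 hij)
      · intro i
        rw [coe_pow_eq]
        exact hv i
    have hnofixW : ∀ u ∈ W, (x ^ 2 ^ k) u = u → u = 0 := by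
      intro u hu hxu
      by_contra hu0
      obtain ⟨v, hv0, hxv⟩ :=
        exists_fixed_of_orbit x (2 ^ k) (pow_pos (by norm_num) k) W hind u hu hu0 hxu
      exact hv0 (hfix v hxv)
    have hkN : k ≤ N := by
      by_contra hcon
      have hk : k = N + 1 := by omega
      obtain ⟨w, hw, hw0⟩ := Submodule.exists_mem_ne_zero_of_ne_bot hW.ne_bot
      apply hw0
      apply hnofixW w hw
      rw [hk, hx]
      rfl
    obtain ⟨ξ, hξ⟩ : ∃ ξ : V ≃ₗ[K] V, ξ = x ^ 2 ^ k := ⟨_, rfl⟩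
    have hcompξ : ∀ (g : E) (v : V), ξ (ρ₁ g v) = ρ₁ ((α ^ 2 ^ k) g) (ξ v) := by
      rw [hξ]
      exact hcompi (2 ^ k)
    have hξW : W.map (ξ : V →ₗ[K] V) = W := by
      rw [hξ]
      exact mem_stab.1 hkW
    have hξU₀ : IsSimpleInv ρ₁ (U₀.map (ξ : V →ₗ[K] V)) :=
      Cfsg.Agent.Lib.Helper71_HHBEigen.IsSimpleInv.map hU₀ ξ _ hcompξ
    have hξU₀W : U₀.map (ξ : V →ₗ[K] V) ≤ W := by
      rw [← hξW]
      exact Submodule.map_mono hU₀W
    have hiso := hW.equivIso hU₀ hξU₀ hU₀W hξU₀W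
    have hξpow : ξ ^ 2 ^ (N + 1 - k) = 1 := by
      rw [hξ, ← pow_mul, ← pow_add, ← hx]
      congr 2
      omega
    have hnK : ((2 ^ (N + 1 - k) : ℕ) : K) ≠ 0 := by
      rw [Nat.cast_pow]
      exact pow_ne_zero _ (by exact_mod_cast h2K)
    have hspan := Cfsg.Agent.Lib.Helper8_Gross_GSPAN.le_sSup_invariant_simple ρ₁ ξ (α ^ 2 ^ k) hcompξ (2 ^ (N + 1 - k)) hnK hξpow
      U₀ hU₀ hiso
    refine hspan.trans (sSup_le ?_)
    rintro U' ⟨hU', hξU', hisoU'⟩
    apply le_sSup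
    have hU'W : U' ≤ W :=
      Cfsg.Agent.Lib.Helper64_ShultIso.le_of_equivIso hW hU₀ hU' hU₀W hisoU'
    rw [hξ] at hξU'
    rw [hρ₁] at hU'
    exact nice_of_simple s hs2 h2K N x hx hfix E hE hnorm hx' hcl hcent k hkN U' hU' hξU'
      (fun u hu => hnofixW u (hU'W hu)) (hGES U')
  -- `V` is the sum of its simple subspaces
  obtain ⟨F, hF⟩ : ∃ F : Submodule K V, F = sSup {U : Submodule K V | Nice s E (x ^ 2 ^ N) U} :=
    ⟨_, rfl⟩
  rw [← hF] at key ⊢
  have hFinv : ∀ g, ∀ u ∈ F, ρ₁ g u ∈ F := by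
    intro g
    have : F ≤ F.comap (ρ₁ g) := by
      rw [hF]
      apply sSup_le
      intro U hU u hu
      rw [Submodule.mem_comap]
      apply (le_sSup hU : U ≤ _)
      have := hU.simple.1 g u hu
      rw [hρ₁]
      exact this
    exact fun u hu => this hu
  have h1 : (⊤ : Submodule (MonoidAlgebra K E) ρ₁.asModule) ≤ ofInv ρ₁ F hFinv := by
    rw [← IsSemisimpleModule.sSup_simples_eq_top (MonoidAlgebra K E) ρ₁.asModule]
    apply sSup_le
    intro m hm
    have hm' : IsSimpleModule (MonoidAlgebra K E) m := hm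
    have h2 := isSimpleInv_toSub hm'
    intro v hv
    exact key _ h2 hv
  rw [eq_top_iff]
  intro v _
  have : ρ₁.asModuleEquiv.symm v ∈ ofInv ρ₁ F hFinv := h1 trivial
  exact this

end GCORE

end Cfsg.Agent.Lib.Helper63_Gross_GCOREaux
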