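import Mathlib
import Cfsg.Agent.Lib.Helper9_GrossDefs
import Cfsg.Agent.Lib.Helper63_Gross_GCOREaux
import Cfsg.Agent.Lib.Helper20_Gross_GES

/-!
# GROSS-GCORE (S3795 package; architect helper9): the linear core of Gross' theorem (helper63)

`Helper63_Gross_GCOREaux.gross_core_of` with its hypothesis discharged by the package GROSS-GES.
-/

set_option autoImplicit false
set_option linter.unusedSectionVars false
set_option linter.unusedVariables false

namespace Cfsg.Agent.Lib.Helper63_Gross_GCORE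

open Module Cfsg.Agent.Lib.Helper9_GrossDefs Cfsg.Agent.Lib.Helper71_ESLinear
  Cfsg.Agent.Lib.Helper71_HHB Cfsg.Agent.Lib.Helper71_HHBTwist
open scoped commutatorElement

universe u

section GCORE
variable {K : Type*} [Field K] {V : Type*} [AddCommGroup V] [Module K V]

theorem gross_core [IsAlgClosed K] [FiniteDimensional K V] (s : ℕ) [Fact s.Prime] (hs2 : s ≠ 2)
    (h2K : (2 : K) ≠ 0) (hsK : (s : K) ≠ 0) (N : ℕ) (x : V ≃ₗ[K] V)
    (hx : x ^ 2 ^ (N + 1) = 1) (hfix : ∀ v : V, x v = v → v = 0)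
    (E : Subgroup (V ≃ₗ[K] V)) [Finite E] (hE : IsPGroup s E)
    (hnorm : ∀ g ∈ E, x * g * x⁻¹ ∈ E)
    (hcl : ∀ a ∈ E, ∀ b ∈ E, ∀ c ∈ E, Commute ⁅a, b⁆ c)
    (hcent : ∀ c ∈ E, Commute (x ^ 2 ^ N) c → ∀ g ∈ E, Commute c g) :
    sSup {U : Submodule K V | Nice s E (x ^ 2 ^ N) U} = ⊤ :=
  Cfsg.Agent.Lib.Helper63_Gross_GCOREaux.gross_core_of s hs2 h2K hsK N x hx hfix E hE hnorm hcl hcent
    (fun U' ρ t σ hρ hirr m hm ht hσ hsemi hne hfix' =>
      Cfsg.Agent.Lib.Helper20_Gross_GES.finrank_succ_eq_two_pow σ hρ hirr hm h2K ht hσ hsemi hne hfix')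
end GCORE

end Cfsg.Agent.Lib.Helper63_Gross_GCORE
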