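import Mathlib
import Cfsg.Agent.Lib.Helper64_ShultGrp

/-!
# Automorphisms without fixed points: general lemmas (helper64)

* `not_dvd_card_of_fpf`: a fixed-point-free automorphism of `p`-power order acts on a `p'`-group.
* `quotAut`: the automorphism induced on a quotient by an invariant normal subgroup; it is again
  fixed-point-free.
* `exists_minimal_invariant_normal`, `minimal_invariant_normal_props`: minimal invariant normal
  subgroups of a finite solvable group are elementary abelian.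
-/

set_option autoImplicit false

namespace Cfsg.Agent.Lib.Helper64_ShultAut

open Cfsg.Agent.Lib.Helper64_ShultGrp

variable {G : Type*} [Group G]

theorem not_dvd_card_of_fpf [Finite G] (p : ℕ) [Fact p.Prime] (σ : MulAut G) (j : ℕ)
    (hσ : σ ^ p ^ j = 1) (hfix : ∀ g, σ g = g → g = 1) : ¬ p ∣ Nat.card G := by
  classical
  have hp : p.Prime := Fact.out
  have := Fintype.ofFinite G
  let f : Function.End G := fun g => σ g
  have hfi : ∀ (i : ℕ) (g : G), (f ^ i) g = (σ ^ i) g := by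
    intro i
    induction i with
    | zero => intro g; rfl
    | succ i ih =>
      intro g
      have e1 : (f ^ (i + 1)) g = f ((f ^ i) g) := by
        rw [pow_succ']
        rfl
      rw [e1, ih, pow_succ', MulAut.mul_apply]
  have hf : f ^ p ^ j = 1 := by
    funext g
    rw [hfi, hσ]
    rfl
  have h1 := Equiv.Perm.card_fixedPoints_modEq (f := f) (p := p) (n := j) hf
  have h2 : Fintype.card (Function.fixedPoints f) = 1 := by
    rw [Fintype.card_eq_one_iff]
    refine ⟨⟨1, map_one σ⟩, ?_⟩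
    rintro ⟨g, hg⟩
    apply Subtype.ext
    exact hfix g hg
  rw [h2] at h1
  intro hdvd
  rw [Nat.card_eq_fintype_card] at hdvd
  have h3 : Fintype.card G ≡ 0 [MOD p] := (Nat.modEq_zero_iff_dvd).2 hdvd
  have h4 : 1 ≡ 0 [MOD p] := h1.symm.trans h3
  have h5 := (Nat.modEq_zero_iff_dvd).1 h4
  exact hp.one_lt.ne' (Nat.dvd_one.1 h5)

theorem map_eq_of_forall_mem [Finite G] (N : Subgroup G) (σ : MulAut G)
    (hN : ∀ g ∈ N, σ g ∈ N) : N.map (σ : G ≃* G).toMonoidHom = N := by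
  apply Subgroup.eq_of_le_of_card_ge
  · rintro _ ⟨g, hg, rfl⟩
    exact hN g hg
  · rw [Subgroup.card_map_of_injective]
    exact (σ : G ≃* G).injective

theorem symm_mem_of_forall_mem [Finite G] (N : Subgroup G) (σ : MulAut G)
    (hN : ∀ g ∈ N, σ g ∈ N) : ∀ g ∈ N, σ⁻¹ g ∈ N := by
  intro g hg
  have h := map_eq_of_forall_mem N σ hN
  rw [← h] at hg
  obtain ⟨g', hg', rfl⟩ := hg
  show σ⁻¹ (σ g') ∈ N
  rw [← MulAut.mul_apply, inv_mul_cancel]
  exact hg'

/-- restriction of an automorphism to an invariant subgroup -/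
def restrictAut [Finite G] (N : Subgroup G) (σ : MulAut G) (hN : ∀ g ∈ N, σ g ∈ N) : MulAut N where
  toFun x := ⟨σ x, hN x x.2⟩
  invFun x := ⟨σ⁻¹ x, symm_mem_of_forall_mem N σ hN x x.2⟩
  left_inv x := Subtype.ext (by
    show σ⁻¹ (σ x) = x
    rw [← MulAut.mul_apply, inv_mul_cancel]
    rfl)
  right_inv x := Subtype.ext (by
    show σ (σ⁻¹ x) = x
    rw [← MulAut.mul_apply, mul_inv_cancel]
    rfl)
  map_mul' a b := Subtype.ext (by
    show σ ((a : G) * b) = σ a * σ b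
    rw [map_mul])

theorem restrictAut_apply [Finite G] (N : Subgroup G) (σ : MulAut G) (hN : ∀ g ∈ N, σ g ∈ N)
    (x : N) : ((restrictAut N σ hN x : N) : G) = σ x := rfl

theorem restrictAut_pow_apply [Finite G] (N : Subgroup G) (σ : MulAut G)
    (hN : ∀ g ∈ N, σ g ∈ N) (j : ℕ) (x : N) :
    ((((restrictAut N σ hN) ^ j) x : N) : G) = (σ ^ j) x := by
  induction j generalizing x with
  | zero => simp
  | succ j ih =>
    rw [pow_succ', MulAut.mul_apply, restrictAut_apply, ih, pow_succ' σ, MulAut.mul_apply]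

section quot

variable (N : Subgroup G) [N.Normal] (σ : MulAut G)
  (hN : N.map (σ : G ≃* G).toMonoidHom = N)

/-- the automorphism induced on the quotient by an invariant normal subgroup -/
def quotAut : MulAut (G ⧸ N) := QuotientGroup.congr N N σ hN

theorem quotAut_mk (g : G) : quotAut N σ hN (g : G ⧸ N) = ((σ g : G) : G ⧸ N) := rfl

theorem quotAut_pow_mk (j : ℕ) (g : G) :
    ((quotAut N σ hN) ^ j) (g : G ⧸ N) = (((σ ^ j) g : G) : G ⧸ N) := by
  induction j generalizing g with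
  | zero => simp
  | succ j ih =>
    rw [pow_succ', MulAut.mul_apply, ih, quotAut_mk, pow_succ' σ, MulAut.mul_apply]

theorem quotAut_pow_eq_one (m : ℕ) (hσ : σ ^ m = 1) : (quotAut N σ hN) ^ m = 1 := by
  ext s
  obtain ⟨g, rfl⟩ := QuotientGroup.mk_surjective s
  rw [quotAut_pow_mk, hσ]
  rfl

theorem quotAut_pow_eq_one_of_mem (m : ℕ) (h : ∀ g, g⁻¹ * (σ ^ m) g ∈ N) :
    (quotAut N σ hN) ^ m = 1 := by
  ext s
  obtain ⟨g, rfl⟩ := QuotientGroup.mk_surjective s
  rw [quotAut_pow_mk, MulAut.one_apply, eq_comm, QuotientGroup.eq]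
  exact h g

theorem quotAut_fpf [Finite G] (p : ℕ) [Fact p.Prime] (j : ℕ) (hσ : σ ^ p ^ j = 1)
    (hfix : ∀ g, σ g = g → g = 1) : ∀ s, quotAut N σ hN s = s → s = 1 := by
  intro s hs
  obtain ⟨g, rfl⟩ := QuotientGroup.mk_surjective s
  rw [quotAut_mk, eq_comm, QuotientGroup.eq] at hs
  have hNp : ¬ p ∣ Nat.card N := fun h =>
    not_dvd_card_of_fpf p σ j hσ hfix (h.trans (Subgroup.card_subgroup_dvd_card N))
  have hNinv : ∀ n ∈ N, σ n ∈ N := by
    intro n hn
    rw [← hN]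
    exact ⟨n, hn, rfl⟩
  obtain ⟨n₀, hn₀, hfx⟩ := exists_fixed_mul p σ j hσ N hNp hNinv g hs
  have h1 := hfix _ hfx
  rw [QuotientGroup.eq_one_iff]
  have h2 : g = n₀⁻¹ := eq_inv_of_mul_eq_one_left h1
  rw [h2]
  exact N.inv_mem hn₀

end quot

section minimal

open scoped commutatorElement

theorem exists_minimal_invariant_normal [Finite G] [Nontrivial G] (σ : MulAut G) :
    ∃ N : Subgroup G, N ≠ ⊥ ∧ N.Normal ∧ (∀ g ∈ N, σ g ∈ N) ∧
      ∀ M : Subgroup G, M ≤ N → M ≠ ⊥ → M.Normal → (∀ g ∈ M, σ g ∈ M) → M = N := by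
  let S : Set (Subgroup G) := {N | N ≠ ⊥ ∧ N.Normal ∧ ∀ g ∈ N, σ g ∈ N}
  have hS : S.Nonempty := ⟨⊤, top_ne_bot, inferInstance, fun _ _ => Subgroup.mem_top _⟩
  obtain ⟨N, hNS, hNmin⟩ := wellFounded_lt.has_min S hS
  refine ⟨N, hNS.1, hNS.2.1, hNS.2.2, ?_⟩
  intro M hMN hM0 hMn hMσ
  rcases eq_or_lt_of_le hMN with h | h
  · exact h
  · exact absurd h (hNmin M ⟨hM0, hMn, hMσ⟩)

theorem minimal_invariant_normal_props [Finite G] [hsol : Group.IsSolvable G] (σ : MulAut G)
    (N : Subgroup G) (hN0 : N ≠ ⊥) (hNn : N.Normal) (hNσ : ∀ g ∈ N, σ g ∈ N)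
    (hmin : ∀ M : Subgroup G, M ≤ N → M ≠ ⊥ → M.Normal → (∀ g ∈ M, σ g ∈ M) → M = N) :
    (∀ a ∈ N, ∀ b ∈ N, a * b = b * a) ∧ ∃ r : ℕ, r.Prime ∧ ∀ a ∈ N, a ^ r = 1 := by
  classical
  have hNmap : N.map (σ : G ≃* G).toMonoidHom ≤ N := by
    rintro _ ⟨g, hg, rfl⟩
    exact hNσ g hg
  -- `N` is abelian
  have hab : ⁅N, N⁆ = ⊥ := by
    by_contra h0
    have h1 : ⁅N, N⁆ ≤ N := Subgroup.commutator_le_left N N
    have h2 : ∀ g ∈ ⁅N, N⁆, σ g ∈ ⁅N, N⁆ := by
      intro g hg
      have h3 : σ g ∈ (⁅N, N⁆).map (σ : G ≃* G).toMonoidHom := ⟨g, hg, rfl⟩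
      rw [Subgroup.map_commutator] at h3
      exact Subgroup.commutator_mono hNmap hNmap h3
    have h4 := hmin ⁅N, N⁆ h1 h0 inferInstance h2
    have hNnt : Nontrivial N := (Subgroup.nontrivial_iff_ne_bot N).2 hN0
    have h5 := Group.IsSolvable.commutator_lt_top_of_nontrivial N
    have h6 : (commutator N).map N.subtype = N := by
      rw [Subgroup.map_subtype_commutator, h4]
    have h7 : commutator N = ⊤ := by
      rw [eq_top_iff]
      intro x _
      have : (x : G) ∈ (commutator N).map N.subtype := by rw [h6]; exact x.2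
      obtain ⟨x', hx', hxx'⟩ := this
      have : x' = x := Subtype.ext hxx'
      rw [← this]
      exact hx'
    exact h5.ne h7
  have hcomm : ∀ a ∈ N, ∀ b ∈ N, a * b = b * a := by
    intro a ha b hb
    have h1 : ⁅a, b⁆ ∈ ⁅N, N⁆ := Subgroup.commutator_mem_commutator ha hb
    rw [hab, Subgroup.mem_bot] at h1
    exact (commutatorElement_eq_one_iff_mul_comm.1 h1)
  refine ⟨hcomm, ?_⟩
  -- a prime dividing `|N|`
  have hNnt : Nontrivial N := (Subgroup.nontrivial_iff_ne_bot N).2 hN0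
  have hcard : Nat.card N ≠ 1 := by
    intro h
    rw [Nat.card_eq_one_iff_unique] at h
    exact not_subsingleton N h.1
  obtain ⟨r, hr, hrdvd⟩ := Nat.exists_prime_and_dvd hcard
  refine ⟨r, hr, ?_⟩
  let Ω : Subgroup G :=
    { carrier := {x | x ∈ N ∧ x ^ r = 1}
      one_mem' := ⟨N.one_mem, one_pow r⟩
      mul_mem' := by
        rintro a b ⟨ha, ha'⟩ ⟨hb, hb'⟩
        refine ⟨N.mul_mem ha hb, ?_⟩
        rw [(show Commute a b from hcomm a ha b hb).mul_pow, ha', hb', one_mul]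
      inv_mem' := by
        rintro a ⟨ha, ha'⟩
        exact ⟨N.inv_mem ha, by rw [inv_pow, ha', inv_one]⟩ }
  have hΩN : Ω ≤ N := fun x hx => hx.1
  have hΩ0 : Ω ≠ ⊥ := by
    have : Fact r.Prime := ⟨hr⟩
    obtain ⟨x, hx⟩ := exists_prime_orderOf_dvd_card' r hrdvd
    intro h
    have h1 : (x : G) ∈ Ω := by
      refine ⟨x.2, ?_⟩
      have := pow_orderOf_eq_one x
      rw [hx] at this
      have h2 := congrArg Subtype.val this
      simpa using h2
    rw [h, Subgroup.mem_bot] at h1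
    have h2 : x = 1 := Subtype.ext h1
    rw [h2, orderOf_one] at hx
    exact hr.one_lt.ne hx
  have hΩn : Ω.Normal := by
    constructor
    intro x hx g
    refine ⟨hNn.conj_mem x hx.1 g, ?_⟩
    rw [conj_pow, hx.2]
    group
  have hΩσ : ∀ g ∈ Ω, σ g ∈ Ω := by
    intro g hg
    refine ⟨hNσ g hg.1, ?_⟩
    rw [← map_pow, hg.2, map_one]
  have h := hmin Ω hΩN hΩ0 hΩn hΩσ
  intro a ha
  rw [← h] at ha
  exact ha.2

end minimal

end Cfsg.Agent.Lib.Helper64_ShultAut
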