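import Mathlib
import Cfsg.Agent.Lib.Helper9_GrossDefs

/-!
# GROSS-GBR (helper84, package of helper9's S3795 architecture)

Functorial version of `Helper71_ModRep.exists_rep`: for an abelian group `R` of exponent `p` and
a subgroup `A`, the universal modular representations of `MulAut R` on `K ⊗ R` and of
`MulAut (R ⧸ A)` on `K ⊗ (R ⧸ A)`, the projection between them, and the numerical facts needed
for Gross' theorem.
-/

set_option autoImplicit false

namespace Cfsg.Agent.Lib.Helper84_Gross_GBR

open Module TensorProduct

universe u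

/-- base change to an extension field preserves the dimension of the kernel -/
theorem finrank_ker_baseChange {F : Type*} [Field F] (K : Type*) [Field K] [Algebra F K]
    {M N : Type*} [AddCommGroup M] [Module F M] [AddCommGroup N] [Module F N]
    (g : M →ₗ[F] N) :
    finrank K (LinearMap.ker (g.baseChange K)) = finrank F (LinearMap.ker g) := by
  have e := LinearMap.tensorKerEquiv K K g
  have h1 : finrank K (LinearMap.ker (g.baseChange K)) =
      finrank K (K ⊗[F] LinearMap.ker g) := e.finrank_eq.symm
  rw [h1, Module.finrank_baseChange]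

section general

variable (p : ℕ) [Fact p.Prime]
variable {V : Type*} [CommGroup V] [Module (ZMod p) (Additive V)]
variable {V' : Type*} [CommGroup V'] [Module (ZMod p) (Additive V')]
variable {V'' : Type*} [CommGroup V''] [Module (ZMod p) (Additive V'')]

/-- a group homomorphism between `𝔽_p`-vector spaces (written multiplicatively) as a linear map -/
noncomputable def linOf (f : V →* V') : Additive V →ₗ[ZMod p] Additive V' :=
  AddMonoidHom.toZModLinearMap p (MonoidHom.toAdditive f)

theorem linOf_apply (f : V →* V') (v : V) :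
    linOf p f (Additive.ofMul v) = Additive.ofMul (f v) := rfl

theorem linOf_id : linOf p (MonoidHom.id V) = LinearMap.id := by
  apply LinearMap.ext
  intro x
  induction x using Additive.rec with
  | ofMul v => rw [linOf_apply]; rfl

theorem linOf_comp (f : V' →* V'') (g : V →* V') :
    linOf p (f.comp g) = (linOf p f).comp (linOf p g) := by
  apply LinearMap.ext
  intro x
  induction x using Additive.rec with
  | ofMul v => rw [linOf_apply, LinearMap.comp_apply, linOf_apply, linOf_apply]; rfl

/-- the representation of `MulAut V` on `K ⊗ V` -/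
noncomputable def repOf : MulAut V →* End (AlgebraicClosure (ZMod p))
    (AlgebraicClosure (ZMod p) ⊗[ZMod p] Additive V) where
  toFun f := (linOf p f.toMonoidHom).baseChange (AlgebraicClosure (ZMod p))
  map_one' := by
    have : (1 : MulAut V).toMonoidHom = MonoidHom.id V := rfl
    rw [this, linOf_id, LinearMap.baseChange_id]; rfl
  map_mul' f g := by
    have : (f * g).toMonoidHom = f.toMonoidHom.comp g.toMonoidHom := rfl
    rw [this, linOf_comp, LinearMap.baseChange_comp]; rfl

theorem repOf_apply (f : MulAut V) :
    repOf p f = (linOf p f.toMonoidHom).baseChange (AlgebraicClosure (ZMod p)) := rfl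

theorem repOf_fixed (f : MulAut V) (hf : ∀ v, f v = v → v = 1)
    (w : AlgebraicClosure (ZMod p) ⊗[ZMod p] Additive V) (hw : repOf p f w = w) : w = 0 := by
  have hinj : Function.Injective (linOf p f.toMonoidHom - (LinearMap.id : Additive V →ₗ[ZMod p] Additive V)) := by
    rw [← LinearMap.ker_eq_bot, LinearMap.ker_eq_bot']
    intro x hx
    induction x using Additive.rec with
    | ofMul v =>
      rw [LinearMap.sub_apply, linOf_apply, LinearMap.id_apply, sub_eq_zero] at hx
      have := hf v (Additive.ofMul.injective hx)
      rw [this]; rfl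
  have hinj2 : Function.Injective
      ((linOf p f.toMonoidHom - (LinearMap.id : Additive V →ₗ[ZMod p] Additive V)).baseChange (AlgebraicClosure (ZMod p))) := by
    rw [LinearMap.baseChange_eq_ltensor]
    exact Module.Flat.lTensor_preserves_injective_linearMap _ hinj
  apply hinj2
  rw [map_zero, LinearMap.baseChange_sub, LinearMap.sub_apply, LinearMap.baseChange_id,
    LinearMap.id_apply, sub_eq_zero]
  exact hw

theorem repOf_faithful (f : MulAut V) (hf : repOf p f = 1) : f = 1 := by
  have h1 : (linOf p f.toMonoidHom).baseChange (AlgebraicClosure (ZMod p)) =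
      (LinearMap.id : Additive V →ₗ[ZMod p] Additive V).baseChange
        (AlgebraicClosure (ZMod p)) := by
    rw [LinearMap.baseChange_id]; exact hf
  have h2 : linOf p f.toMonoidHom = (LinearMap.id : Additive V →ₗ[ZMod p] Additive V) :=
    LinearMap.baseChangeHom_injective (R := ZMod p) (S := AlgebraicClosure (ZMod p))
      (M := Additive V) (N := Additive V) h1
  ext v
  have := congrArg (fun g : Additive V →ₗ[ZMod p] Additive V => g (Additive.ofMul v)) h2
  simp only [LinearMap.id_apply] at this
  exact Additive.ofMul.injective this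

theorem repOf_equivariant (φ : V →* V') (f : MulAut V) (f' : MulAut V')
    (h : ∀ v, f' (φ v) = φ (f v)) (w : AlgebraicClosure (ZMod p) ⊗[ZMod p] Additive V) :
    (linOf p φ).baseChange (AlgebraicClosure (ZMod p)) (repOf p f w) =
      repOf p f' ((linOf p φ).baseChange (AlgebraicClosure (ZMod p)) w) := by
  have hc : (linOf p φ).comp (linOf p f.toMonoidHom) =
      (linOf p f'.toMonoidHom).comp (linOf p φ) := by
    rw [← linOf_comp, ← linOf_comp]
    congr 1
    ext v
    exact (h v).symm
  have := congrArg (fun g => (g.baseChange (AlgebraicClosure (ZMod p))) w) hc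
  simp only [LinearMap.baseChange_comp, LinearMap.comp_apply] at this
  exact this

theorem pow_finrank_rep [Finite V] :
    p ^ finrank (AlgebraicClosure (ZMod p))
      (AlgebraicClosure (ZMod p) ⊗[ZMod p] Additive V) = Nat.card V := by
  have : Finite (Additive V) := inferInstanceAs (Finite V)
  have : Module.Finite (ZMod p) (Additive V) := Module.Finite.of_finite
  rw [Module.finrank_baseChange]
  have h := Module.natCard_eq_pow_finrank (K := ZMod p) (V := Additive V)
  rw [Nat.card_zmod] at h
  rw [← h]
  rfl

theorem pow_finrank_ker_rep_add_one [Finite V] (f : MulAut V) :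
    p ^ finrank (AlgebraicClosure (ZMod p)) (LinearMap.ker (repOf p f + 1)) =
      Nat.card {s : V // f s = s⁻¹} := by
  have : Finite (Additive V) := inferInstanceAs (Finite V)
  have : Module.Finite (ZMod p) (Additive V) := Module.Finite.of_finite
  have h1 : repOf p f + 1 =
      (linOf p f.toMonoidHom + (LinearMap.id : Additive V →ₗ[ZMod p] Additive V)).baseChange (AlgebraicClosure (ZMod p)) := by
    rw [LinearMap.baseChange_add, LinearMap.baseChange_id]; rfl
  rw [h1, finrank_ker_baseChange]
  have h := Module.natCard_eq_pow_finrank (K := ZMod p)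
    (V := LinearMap.ker (linOf p f.toMonoidHom + (LinearMap.id : Additive V →ₗ[ZMod p] Additive V)))
  rw [Nat.card_zmod] at h
  rw [← h]
  apply Nat.card_congr
  refine Equiv.subtypeEquiv Additive.toMul ?_
  intro x
  induction x using Additive.rec with
  | ofMul v =>
    rw [LinearMap.mem_ker, LinearMap.add_apply, linOf_apply, LinearMap.id_apply]
    show Additive.ofMul (f v * v) = 0 ↔ f v = v⁻¹
    rw [← mul_eq_one_iff_eq_inv]
    exact Iff.rfl

theorem repOf_coprime_fixed [Finite V] (P : Subgroup (MulAut V)) (hP : ¬ p ∣ Nat.card P)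
    (hfix : ∀ v : V, (∀ g ∈ P, g v = v) → v = 1)
    (w : AlgebraicClosure (ZMod p) ⊗[ZMod p] Additive V)
    (hw : ∀ g ∈ P, repOf p g w = w) : w = 0 := by
  classical
  have : Fintype P := Fintype.ofFinite P
  let S : Additive V →ₗ[ZMod p] Additive V := ∑ g : P, linOf p (g : MulAut V).toMonoidHom
  have hS : S = 0 := by
    apply LinearMap.ext
    intro x
    rw [LinearMap.zero_apply]
    have hSx : S x = ∑ g : P, linOf p (g : MulAut V).toMonoidHom x := by
      simp only [S, LinearMap.sum_apply]
    have hfixed : ∀ h ∈ P, linOf p (h : MulAut V).toMonoidHom (S x) = S x := by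
      intro h hh
      rw [hSx, map_sum]
      refine Fintype.sum_equiv (Equiv.mulLeft (⟨h, hh⟩ : P)) _ _ ?_
      intro g
      induction x using Additive.rec with
      | ofMul v => rfl
    have h1 : Additive.toMul (S x) = 1 := by
      apply hfix
      intro g hg
      have := hfixed g hg
      exact congrArg Additive.toMul this
    exact congrArg Additive.ofMul h1
  have hsum : (S.baseChange (AlgebraicClosure (ZMod p))) w = (Nat.card P) • w := by
    have h1 : S.baseChange (AlgebraicClosure (ZMod p)) =
        ∑ g : P, (repOf p (g : MulAut V) :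
          AlgebraicClosure (ZMod p) ⊗[ZMod p] Additive V →ₗ[AlgebraicClosure (ZMod p)]
            AlgebraicClosure (ZMod p) ⊗[ZMod p] Additive V) := by
      have := map_sum (LinearMap.baseChangeHom (ZMod p) (AlgebraicClosure (ZMod p))
        (Additive V) (Additive V)) (fun g : P => linOf p (g : MulAut V).toMonoidHom)
        Finset.univ
      exact this
    rw [h1, LinearMap.sum_apply]
    rw [Finset.sum_congr rfl (fun g _ => hw g.1 g.2)]
    rw [Finset.sum_const, Finset.card_univ, Nat.card_eq_fintype_card]
  rw [hS, LinearMap.baseChange_zero, LinearMap.zero_apply] at hsum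
  have hchar : CharP (AlgebraicClosure (ZMod p)) p :=
    charP_of_injective_algebraMap (algebraMap (ZMod p) (AlgebraicClosure (ZMod p))).injective p
  have hne : ((Nat.card P : ℕ) : AlgebraicClosure (ZMod p)) ≠ 0 := by
    rw [Ne, CharP.cast_eq_zero_iff (AlgebraicClosure (ZMod p)) p]
    exact hP
  rw [← Nat.cast_smul_eq_nsmul (AlgebraicClosure (ZMod p))] at hsum
  exact (smul_eq_zero.mp hsum.symm).resolve_left hne

end general

set_option warn.classDefReducibility false in
/-- the `𝔽_p`-module structure on an abelian group of exponent `p`, written additively -/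
def zmodModOf (p : ℕ) {V : Type*} [CommGroup V] (hV : ∀ v : V, v ^ p = 1) :
    Module (ZMod p) (Additive V) :=
  AddCommGroup.zmodModule (n := p) (fun x => by
    induction x using Additive.rec with
    | ofMul v => rw [← ofMul_pow, hV v, ofMul_one])

theorem exists_rep_quot (p : ℕ) [Fact p.Prime] {R : Type u} [CommGroup R] [Finite R]
    (hR : ∀ v : R, v ^ p = 1) (A : Subgroup R) :
    ∃ (W₁ : Type u) (_ : AddCommGroup W₁) (_ : Module (AlgebraicClosure (ZMod p)) W₁)
      (_ : FiniteDimensional (AlgebraicClosure (ZMod p)) W₁)
      (W₂ : Type u) (_ : AddCommGroup W₂) (_ : Module (AlgebraicClosure (ZMod p)) W₂)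
      (_ : FiniteDimensional (AlgebraicClosure (ZMod p)) W₂)
      (Φ₁ : MulAut R →* End (AlgebraicClosure (ZMod p)) W₁)
      (Φ₂ : MulAut (R ⧸ A) →* End (AlgebraicClosure (ZMod p)) W₂)
      (Pi : W₁ →ₗ[AlgebraicClosure (ZMod p)] W₂),
      Function.Surjective Pi ∧
      (∀ f : MulAut R, (∀ v, f v = v → v = 1) → ∀ w, Φ₁ f w = w → w = 0) ∧
      (∀ f : MulAut R, Φ₁ f = 1 → f = 1) ∧
      (∀ (f : MulAut R) (f' : MulAut (R ⧸ A)),
        (∀ v : R, f' (v : R ⧸ A) = ((f v : R) : R ⧸ A)) → ∀ w, Pi (Φ₁ f w) = Φ₂ f' (Pi w)) ∧
      p ^ finrank (AlgebraicClosure (ZMod p)) W₂ = A.index ∧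
      (∀ f' : MulAut (R ⧸ A),
        p ^ finrank (AlgebraicClosure (ZMod p)) (LinearMap.ker (Φ₂ f' + 1)) =
          Nat.card {s : R ⧸ A // f' s = s⁻¹}) ∧
      (∀ P : Subgroup (MulAut R), ¬ p ∣ Nat.card P → (∀ v : R, (∀ g ∈ P, g v = v) → v = 1) →
        ∀ w, (∀ g ∈ P, Φ₁ g w = w) → w = 0) := by
  classical
  have hRA : ∀ v : R ⧸ A, v ^ p = 1 := by
    intro v
    induction v using QuotientGroup.induction_on with
    | H v => rw [← QuotientGroup.mk_pow, hR]; rfl
  let _ : Module (ZMod p) (Additive R) := zmodModOf p hR
  let _ : Module (ZMod p) (Additive (R ⧸ A)) := zmodModOf p hRA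
  have hfinR : Module.Finite (ZMod p) (Additive R) := by
    have : _root_.Finite (Additive R) := inferInstanceAs (_root_.Finite R)
    exact Module.Finite.of_finite
  have hfinRA : Module.Finite (ZMod p) (Additive (R ⧸ A)) := by
    have : _root_.Finite (Additive (R ⧸ A)) := inferInstanceAs (_root_.Finite (R ⧸ A))
    exact Module.Finite.of_finite
  refine ⟨AlgebraicClosure (ZMod p) ⊗[ZMod p] Additive R, inferInstance, inferInstance,
    inferInstance, AlgebraicClosure (ZMod p) ⊗[ZMod p] Additive (R ⧸ A), inferInstance,
    inferInstance, inferInstance, repOf p, repOf p,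
    (linOf p (QuotientGroup.mk' A)).baseChange (AlgebraicClosure (ZMod p)),
    ?_, ?_, ?_, ?_, ?_, ?_, ?_⟩
  · apply LinearMap.baseChange_surjective
    intro x
    induction x using Additive.rec with
    | ofMul v =>
      obtain ⟨r, rfl⟩ := QuotientGroup.mk'_surjective A v
      exact ⟨Additive.ofMul r, rfl⟩
  · exact fun f hf w hw => repOf_fixed p f hf w hw
  · exact fun f hf => repOf_faithful p f hf
  · intro f f' h w
    exact repOf_equivariant p (QuotientGroup.mk' A) f f' h w
  · rw [pow_finrank_rep]
    rfl
  · exact fun f' => pow_finrank_ker_rep_add_one p f'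
  · exact fun P hP hfix w hw => repOf_coprime_fixed p P hP hfix w hw

end Cfsg.Agent.Lib.Helper84_Gross_GBR
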