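import Mathlib
import Cfsg.Agent.Lib.Helper9_GrossDefs

/-!
# GROSS-GRATIO (helper8, package of helper9's S3795 plan)

Dimension ratio for a sum of simple subspaces under an equivariant surjection.  Pure linear algebra.
-/

set_option autoImplicit false

namespace Cfsg.Agent.Lib.Helper8_Gross_GRATIO

open Module

section GRATIO
variable {K : Type*} [Field K] {W₁ : Type*} [AddCommGroup W₁] [Module K W₁]
  {W₂ : Type*} [AddCommGroup W₂] [Module K W₂]

/-- finrank of the image of a submodule on which the map is injective -/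
theorem finrank_map_of_disjoint_ker [FiniteDimensional K W₁] (f : W₁ →ₗ[K] W₂)
    (U : Submodule K W₁) (h : LinearMap.ker f ⊓ U = ⊥) :
    finrank K (U.map f) = finrank K U := by
  have hinj : Function.Injective (f.domRestrict U) := by
    rw [← LinearMap.ker_eq_bot, LinearMap.ker_eq_bot']
    intro u hu
    have h1 : (u : W₁) ∈ LinearMap.ker f ⊓ U := ⟨hu, u.2⟩
    rw [h] at h1
    exact Subtype.ext ((Submodule.mem_bot K).1 h1)
  have h2 := LinearMap.finrank_range_of_inj hinj
  rw [LinearMap.range_domRestrict] at h2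
  exact h2

/-- for disjoint `y`-stable `T`, `S`: `ker (y+1) ⊓ (T ⊔ S) = (ker ⊓ T) ⊔ (ker ⊓ S)` -/
theorem ker_inf_sup (y : W₂ →ₗ[K] W₂) (T S : Submodule K W₂) (hTS : T ⊓ S = ⊥)
    (hT : ∀ w ∈ T, y w ∈ T) (hS : ∀ w ∈ S, y w ∈ S) :
    LinearMap.ker (y + 1) ⊓ (T ⊔ S) = (LinearMap.ker (y + 1) ⊓ T) ⊔ (LinearMap.ker (y + 1) ⊓ S) := by
  apply le_antisymm
  · rintro w ⟨hwk, hw⟩
    obtain ⟨t, ht, s, hs, rfl⟩ := Submodule.mem_sup.1 hw
    have hk : y (t + s) + (t + s) = 0 := by
      have : (y + 1) (t + s) = 0 := hwk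
      simpa using this
    have h1 : y t + t ∈ T := T.add_mem (hT t ht) ht
    have h2 : y s + s ∈ S := S.add_mem (hS s hs) hs
    have h3 : y t + t = -(y s + s) := by
      rw [map_add] at hk
      have : (y t + t) + (y s + s) = 0 := by rw [← hk]; abel
      exact eq_neg_of_add_eq_zero_left this
    have h4 : y t + t ∈ T ⊓ S := ⟨h1, by rw [h3]; exact S.neg_mem h2⟩
    rw [hTS] at h4
    have h5 : y t + t = 0 := (Submodule.mem_bot K).1 h4
    have h6 : y s + s = 0 := by
      rw [h5] at h3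
      have := neg_eq_zero.1 h3.symm
      exact this
    refine Submodule.add_mem_sup ⟨?_, ht⟩ ⟨?_, hs⟩
    · show (y + 1) t = 0
      simpa using h5
    · show (y + 1) s = 0
      simpa using h6
  · exact sup_le (inf_le_inf_left _ le_sup_left) (inf_le_inf_left _ le_sup_right)

theorem ratio_of_nice [FiniteDimensional K W₁] [FiniteDimensional K W₂]
    {ι : Type*} (g₁ : ι → W₁ →ₗ[K] W₁) (g₂ : ι → W₂ →ₗ[K] W₂)
    (y₁ : W₁ →ₗ[K] W₁) (y₂ : W₂ →ₗ[K] W₂) (Pi : W₁ →ₗ[K] W₂) (hPi : Function.Surjective Pi)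
    (hg : ∀ i w, Pi (g₁ i w) = g₂ i (Pi w)) (hy : ∀ w, Pi (y₁ w) = y₂ (Pi w))
    (q : ℕ) (𝒰 : Set (Submodule K W₁)) (htop : sSup 𝒰 = ⊤)
    (h𝒰 : ∀ U ∈ 𝒰, (∀ i, ∀ u ∈ U, g₁ i u ∈ U) ∧
      (∀ U' : Submodule K W₁, U' ≤ U → (∀ i, ∀ u ∈ U', g₁ i u ∈ U') → U' = ⊥ ∨ U' = U) ∧
      (∀ u ∈ U, y₁ u ∈ U) ∧ finrank K U = q ∧
      2 * finrank K ↥(LinearMap.ker (y₁ + 1) ⊓ U) = q + 1) :
    (q + 1) * finrank K W₂ = 2 * q * finrank K (LinearMap.ker (y₂ + 1)) := by
  -- the induction over good subspaces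
  have key : ∀ T : Submodule K W₂, (∀ i, ∀ w ∈ T, g₂ i w ∈ T) → (∀ w ∈ T, y₂ w ∈ T) →
      (q + 1) * finrank K T = 2 * q * finrank K ↥(LinearMap.ker (y₂ + 1) ⊓ T) →
      (q + 1) * finrank K W₂ = 2 * q * finrank K (LinearMap.ker (y₂ + 1)) := by
    intro T
    induction T using WellFoundedGT.induction with
    | ind T ih =>
      intro hTg hTy hTr
      by_cases hT : T = ⊤
      · subst hT
        rw [finrank_top, inf_top_eq] at hTr
        exact hTr
      -- some `U ∈ 𝒰` with `Pi U ⊄ T`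
      have hex : ∃ U ∈ 𝒰, ¬ U.map Pi ≤ T := by
        by_contra hcon
        apply hT
        rw [eq_top_iff]
        intro w _
        obtain ⟨v, rfl⟩ := hPi w
        have hv : v ∈ sSup 𝒰 := by rw [htop]; trivial
        have hle : sSup 𝒰 ≤ T.comap Pi := by
          apply sSup_le
          intro U hU
          by_contra hUT
          apply hcon
          refine ⟨U, hU, ?_⟩
          intro hmap
          exact hUT (Submodule.map_le_iff_le_comap.1 hmap)
        exact hle hv
      obtain ⟨U, hU𝒰, hUT⟩ := hex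
      obtain ⟨hUg, hUsimp, hUy, hUq, hUk⟩ := h𝒰 U hU𝒰
      -- `U ⊓ comap Pi T = ⊥`
      have h2 : U ⊓ T.comap Pi = ⊥ := by
        rcases hUsimp (U ⊓ T.comap Pi) inf_le_left
          (fun i u hu => ⟨hUg i u hu.1, by
            show Pi (g₁ i u) ∈ T
            rw [hg]; exact hTg i _ hu.2⟩) with h | h
        · exact h
        · exfalso
          apply hUT
          rw [Submodule.map_le_iff_le_comap]
          intro u hu
          rw [← h] at hu
          exact hu.2
      have h1 : LinearMap.ker Pi ⊓ U = ⊥ := by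
        rw [eq_bot_iff, ← h2]
        rintro u ⟨huk, huU⟩
        refine ⟨huU, ?_⟩
        show Pi u ∈ T
        have : Pi u = 0 := huk
        rw [this]; exact T.zero_mem
      obtain ⟨S, hS⟩ : ∃ S : Submodule K W₂, S = U.map Pi := ⟨_, rfl⟩
      have hTS : T ⊓ S = ⊥ := by
        rw [eq_bot_iff]
        rintro w ⟨hwT, hwS⟩
        rw [hS] at hwS
        obtain ⟨u, hu, rfl⟩ := hwS
        have : u ∈ U ⊓ T.comap Pi := ⟨hu, hwT⟩
        rw [h2] at this
        rw [(Submodule.mem_bot K).1 this, map_zero]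
        exact Submodule.zero_mem _
      have hSg : ∀ i, ∀ w ∈ S, g₂ i w ∈ S := by
        intro i w hw
        rw [hS] at hw ⊢
        obtain ⟨u, hu, rfl⟩ := hw
        exact ⟨g₁ i u, hUg i u hu, hg i u⟩
      have hSy : ∀ w ∈ S, y₂ w ∈ S := by
        intro w hw
        rw [hS] at hw ⊢
        obtain ⟨u, hu, rfl⟩ := hw
        exact ⟨y₁ u, hUy u hu, hy u⟩
      have hSq : finrank K S = q := by
        rw [hS, finrank_map_of_disjoint_ker Pi U h1, hUq]
      -- the `-1`-eigenspace on `S`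
      have hSk0 : LinearMap.ker (y₂ + 1) ⊓ S = (LinearMap.ker (y₁ + 1) ⊓ U).map Pi := by
        apply le_antisymm
        · rintro w ⟨hwk, hwS⟩
          rw [hS] at hwS
          obtain ⟨u, hu, rfl⟩ := hwS
          have h3 : y₂ (Pi u) + Pi u = 0 := by
            have : (y₂ + 1) (Pi u) = 0 := hwk
            simpa using this
          have h4 : Pi (y₁ u + u) = 0 := by rw [map_add, hy, h3]
          have h5 : y₁ u + u ∈ LinearMap.ker Pi ⊓ U := ⟨h4, U.add_mem (hUy u hu) hu⟩
          rw [h1] at h5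
          have h6 : y₁ u + u = 0 := (Submodule.mem_bot K).1 h5
          refine ⟨u, ⟨?_, hu⟩, rfl⟩
          show (y₁ + 1) u = 0
          simpa using h6
        · rintro _ ⟨u, ⟨huk, hu⟩, rfl⟩
          refine ⟨?_, by rw [hS]; exact ⟨u, hu, rfl⟩⟩
          show (y₂ + 1) (Pi u) = 0
          have h3 : y₁ u + u = 0 := by
            have : (y₁ + 1) u = 0 := huk
            simpa using this
          have : y₂ (Pi u) + Pi u = 0 := by rw [← hy, ← map_add, h3, map_zero]
          simpa using this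
      have hSk : 2 * finrank K ↥(LinearMap.ker (y₂ + 1) ⊓ S) = q + 1 := by
        rw [hSk0, finrank_map_of_disjoint_ker Pi _ (by
          rw [eq_bot_iff, ← h1]
          exact inf_le_inf_left _ inf_le_right), hUk]
      -- the bigger good subspace
      have hlt : T < T ⊔ S := by
        refine lt_of_le_of_ne le_sup_left ?_
        intro h
        apply hUT
        rw [← hS, h]
        exact le_sup_right
      have hrank : finrank K ↥(T ⊔ S) = finrank K T + finrank K S := by
        have := Submodule.finrank_sup_add_finrank_inf_eq T S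
        rw [hTS, finrank_bot, add_zero] at this
        exact this
      have hkrank : finrank K ↥(LinearMap.ker (y₂ + 1) ⊓ (T ⊔ S)) =
          finrank K ↥(LinearMap.ker (y₂ + 1) ⊓ T) + finrank K ↥(LinearMap.ker (y₂ + 1) ⊓ S) := by
        rw [ker_inf_sup y₂ T S hTS hTy hSy]
        have := Submodule.finrank_sup_add_finrank_inf_eq (LinearMap.ker (y₂ + 1) ⊓ T)
          (LinearMap.ker (y₂ + 1) ⊓ S)
        have hbot : (LinearMap.ker (y₂ + 1) ⊓ T) ⊓ (LinearMap.ker (y₂ + 1) ⊓ S) = ⊥ := by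
          rw [eq_bot_iff, ← hTS]
          exact inf_le_inf inf_le_right inf_le_right
        rw [hbot, finrank_bot, add_zero] at this
        exact this
      refine ih (T ⊔ S) hlt ?_ ?_ ?_
      · intro i w hw
        obtain ⟨t, ht, s, hs, rfl⟩ := Submodule.mem_sup.1 hw
        rw [map_add]
        exact Submodule.add_mem_sup (hTg i t ht) (hSg i s hs)
      · intro w hw
        obtain ⟨t, ht, s, hs, rfl⟩ := Submodule.mem_sup.1 hw
        rw [map_add]
        exact Submodule.add_mem_sup (hTy t ht) (hSy s hs)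
      · rw [hrank, hkrank, hSq, mul_add, mul_add, hTr]
        congr 1
        calc (q + 1) * q = q * (q + 1) := by ring
          _ = q * (2 * finrank K ↥(LinearMap.ker (y₂ + 1) ⊓ S)) := by rw [hSk]
          _ = 2 * q * finrank K ↥(LinearMap.ker (y₂ + 1) ⊓ S) := by ring
  refine key ⊥ ?_ ?_ ?_
  · intro i w hw
    rw [(Submodule.mem_bot K).1 hw, map_zero]
    exact Submodule.zero_mem _
  · intro w hw
    rw [(Submodule.mem_bot K).1 hw, map_zero]
    exact Submodule.zero_mem _
  · rw [inf_bot_eq, finrank_bot, mul_zero, mul_zero]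

end GRATIO

end Cfsg.Agent.Lib.Helper8_Gross_GRATIO
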