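import Mathlib
import Cfsg.Agent.Lib.Helper9_GrossDefs
import Cfsg.Agent.Lib.Helper71_ModRep
import Cfsg.Agent.Lib.Helper71_ESFpf
import Cfsg.Agent.Lib.Helper71_HHBGroup
import Cfsg.Agent.Lib.Helper64_ShultAut
import Cfsg.Agent.Lib.Helper63_Gross_GCORE
import Cfsg.Agent.Lib.Helper8_Gross_GRATIO
import Cfsg.Agent.Lib.Helper84_Gross_GBR

/-!
# GROSS-GU (helper49): the upper level of Gross' theorem

`gross_upper`: `R` elementary abelian `r₁`-group, `x` a fixed-point-free automorphism with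
`x ^ 2 ^ (N+1) = 1`, `y = x ^ 2 ^ N`, a `q`-group `Q` acting on `R` through `ψ`, minimal
`x`-invariant not centralised by `y`, `C_R(Q) = 1`, `A ≤ R` invariant under `Q` and `y`,
`B / A` the inverted part of `y` on `R / A`.  Then `|R : A| ^ (q+1) = |B : A| ^ (2q)`.
-/

set_option autoImplicit false

namespace Cfsg.Agent.Lib.Helper49_Gross_GU

open Module Cfsg.Agent.Lib.Helper9_GrossDefs Cfsg.Agent.Lib.Helper71_ESLinear
  Cfsg.Agent.Lib.Helper71_HHB Cfsg.Agent.Lib.Helper71_HHBTwist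
  Cfsg.Agent.Lib.Helper71_ModRep Cfsg.Agent.Lib.Helper71_ESFpf
  Cfsg.Agent.Lib.Helper71_HHBGroup Cfsg.Agent.Lib.Helper64_ShultAut
open scoped commutatorElement
open Cfsg.Agent.Lib.Helper63_Gross_GCORE Cfsg.Agent.Lib.Helper8_Gross_GRATIO
  Cfsg.Agent.Lib.Helper84_Gross_GBR

universe u

section aux

variable {R : Type*} [CommGroup R] [Finite R]

/-- an automorphism of `R` stabilising `A` induces an automorphism of `R ⧸ A` -/
theorem exists_induced (A : Subgroup R) (f : MulAut R) (hf : ∀ a ∈ A, f a ∈ A) :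
    ∃ f' : MulAut (R ⧸ A), ∀ v : R, f' (v : R ⧸ A) = ((f v : R) : R ⧸ A) := by
  have hle : A.map f.toMonoidHom ≤ A := by
    rintro _ ⟨a, ha, rfl⟩
    exact hf a ha
  have hcard : Nat.card (A.map f.toMonoidHom) = Nat.card A :=
    Subgroup.card_map_of_injective f.injective
  have heq : A.map f.toMonoidHom = A :=
    Subgroup.eq_of_le_of_card_ge hle (by rw [hcard])
  refine ⟨QuotientGroup.congr A A f heq, fun v => ?_⟩
  exact QuotientGroup.congr_mk A A f heq v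

/-- the inverted part of an induced automorphism on `R ⧸ A` has order `|B : A|` -/
theorem card_inverted_quot (A B : Subgroup R) (y : MulAut R) (y' : MulAut (R ⧸ A))
    (hy' : ∀ v : R, y' (v : R ⧸ A) = ((y v : R) : R ⧸ A)) (hAB : A ≤ B)
    (hB : ∀ v, v ∈ B ↔ y v * v ∈ A) :
    Nat.card {s : R ⧸ A // y' s = s⁻¹} = A.relIndex B := by
  classical
  set S' : Subgroup (R ⧸ A) := B.map (QuotientGroup.mk' A) with hS'
  have hset : ∀ s : R ⧸ A, y' s = s⁻¹ ↔ s ∈ S' := by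
    intro s
    induction s using QuotientGroup.induction_on with
    | H v =>
      rw [hy' v, ← QuotientGroup.mk_inv, QuotientGroup.eq]
      have e1 : (y v)⁻¹ * v⁻¹ ∈ A ↔ y v * v ∈ A := by
        rw [← mul_inv, mul_comm]
        exact inv_mem_iff
      rw [e1, ← hB v]
      constructor
      · intro hv
        exact ⟨v, hv, rfl⟩
      · rintro ⟨w, hw, hwv⟩
        have h1 : w⁻¹ * v ∈ A := by
          rw [← QuotientGroup.eq]
          exact hwv
        have : v = w * (w⁻¹ * v) := by group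
        rw [this]
        exact B.mul_mem hw (hAB h1)
  have hcardS : Nat.card {s : R ⧸ A // y' s = s⁻¹} = Nat.card S' := by
    apply Nat.card_congr
    exact Equiv.subtypeEquivRight hset
  rw [hcardS]
  -- index computation
  have hcomap : S'.comap (QuotientGroup.mk' A) = B := by
    rw [hS', QuotientGroup.comap_map_mk']
    exact sup_eq_right.2 hAB
  have hidx : S'.index = B.index := by
    rw [← hcomap]
    exact (Subgroup.index_comap_of_surjective S' (QuotientGroup.mk'_surjective A)).symm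
  have h1 : Nat.card S' * S'.index = A.index := by
    rw [Subgroup.card_mul_index]
    rfl
  have h2 : A.relIndex B * B.index = A.index := Subgroup.relIndex_mul_index hAB
  have h3 : B.index ≠ 0 := Subgroup.index_ne_zero_of_finite
  rw [hidx] at h1
  exact Nat.eq_of_mul_eq_mul_right (Nat.pos_of_ne_zero h3) (h1.trans h2.symm)

end aux

section group

variable {G : Type*} [Group G]

/-- conjugation by a power preserves an invariant subgroup -/
theorem pow_conj_mem (P : Subgroup G) (x : G) (hx : ∀ g ∈ P, x * g * x⁻¹ ∈ P) (k : ℕ) :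
    ∀ g ∈ P, x ^ k * g * (x ^ k)⁻¹ ∈ P := by
  induction k with
  | zero => intro g hg; simpa using hg
  | succ k ih =>
    intro g hg
    have := hx _ (ih g hg)
    have e : x ^ (k + 1) * g * (x ^ (k + 1))⁻¹ = x * (x ^ k * g * (x ^ k)⁻¹) * x⁻¹ := by
      rw [pow_succ']; group
    rw [e]
    exact this

end group

/-- **GROSS-GU**: the upper level. -/
theorem gross_upper {r₁ q : ℕ} [Fact r₁.Prime] [Fact q.Prime] (hq2 : q ≠ 2) (hqr : q ≠ r₁)
    {R : Type u} [CommGroup R] [Finite R] (hR : ∀ v : R, v ^ r₁ = 1)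
    (x : MulAut R) (N : ℕ) (hx : x ^ 2 ^ (N + 1) = 1) (hfixR : ∀ v, x v = v → v = 1)
    {Q : Type*} [Group Q] [Finite Q] (hQ : IsPGroup q Q) (ψ : Q →* MulAut R) (α : MulAut Q)
    (hαψ : ∀ g, x * ψ g * x⁻¹ = ψ (α g))
    (hmoved : ∃ g, ¬ Commute (x ^ 2 ^ N) (ψ g))
    (hmin : ∀ T : Subgroup Q, (∀ g ∈ T, α g ∈ T) → T ≠ ⊤ → ∀ g ∈ T, Commute (x ^ 2 ^ N) (ψ g))
    (hPfix : ∀ v : R, (∀ g, ψ g v = v) → v = 1)
    (A : Subgroup R) (hAP : ∀ g, ∀ a ∈ A, ψ g a ∈ A) (hAy : ∀ a ∈ A, (x ^ 2 ^ N) a ∈ A)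
    (B : Subgroup R) (hB : ∀ v, v ∈ B ↔ (x ^ 2 ^ N) v * v ∈ A) :
    A.index ^ (q + 1) = (A.relIndex B) ^ (2 * q) := by
  classical
  have hr₁ : r₁.Prime := Fact.out
  have hq : q.Prime := Fact.out
  obtain ⟨y, hy⟩ : ∃ y : MulAut R, y = x ^ 2 ^ N := ⟨_, rfl⟩
  rw [← hy] at hmoved hmin hAy hB
  have hy2 : y ^ 2 = 1 := by rw [hy, ← pow_mul, ← pow_succ, hx]
  have hyinv : y⁻¹ = y := by
    rw [inv_eq_iff_mul_eq_one, ← pow_two, hy2]
  have hxy : Commute x y := by rw [hy]; exact (Commute.refl x).pow_right _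
  have hfinA : Finite (MulAut R) := Finite.of_injective (fun f : MulAut R => (f : R → R))
    (fun f g h => MulEquiv.ext (fun v => congrFun h v))
  -- `r₁` is odd
  have hr₁2 : r₁ ≠ 2 := by
    intro h2
    have hnd : ¬ 2 ∣ Nat.card R := not_dvd_card_of_fpf 2 x (N + 1) hx hfixR
    obtain ⟨g, hg⟩ := hmoved
    have hne : ∃ v : R, v ≠ 1 := by
      by_contra hcon
      push Not at hcon
      apply hg
      show y * ψ g = ψ g * y
      ext v
      rw [hcon ((y * ψ g) v), hcon ((ψ g * y) v)]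
    obtain ⟨v, hv⟩ := hne
    apply hnd
    have h3 : orderOf v = 2 := by
      apply orderOf_eq_prime _ hv
      rw [← h2]; exact hR v
    rw [← h3]
    exact orderOf_dvd_natCard v
  -- the group `P'`
  obtain ⟨P', hP'def⟩ : ∃ P' : Subgroup (MulAut R), P' = ψ.range := ⟨_, rfl⟩
  have hmemP' : ∀ f, f ∈ P' ↔ ∃ g, ψ g = f := by
    intro f; rw [hP'def]; exact MonoidHom.mem_range
  have hfinP' : Finite P' := inferInstance
  have hP' : IsPGroup q P' := by
    rw [hP'def]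
    exact hQ.of_surjective ψ.rangeRestrict ψ.rangeRestrict_surjective
  have hxP' : ∀ g ∈ P', x * g * x⁻¹ ∈ P' := by
    intro g hg
    obtain ⟨h, rfl⟩ := (hmemP' g).1 hg
    exact (hmemP' _).2 ⟨α h, (hαψ h).symm⟩
  have hyP' : ∀ g ∈ P', y * g * y⁻¹ ∈ P' := by
    rw [hy]
    exact pow_conj_mem P' x hxP' (2 ^ N)
  have hmoved' : ∃ g ∈ P', ¬ Commute y g := by
    obtain ⟨g, hg⟩ := hmoved
    exact ⟨ψ g, (hmemP' _).2 ⟨g, rfl⟩, hg⟩
  have hmin' : ∀ T ≤ P', (∀ g ∈ T, x * g * x⁻¹ ∈ T) → T ≠ P' → ∀ g ∈ T, Commute y g := by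
    intro T hT hTx hTne f hf
    obtain ⟨g, rfl⟩ := (hmemP' f).1 (hT hf)
    apply hmin (T.comap ψ) _ _ g hf
    · intro g₁ hg₁
      show ψ (α g₁) ∈ T
      rw [← hαψ g₁]
      exact hTx _ hg₁
    · intro htop
      apply hTne
      apply le_antisymm hT
      intro f₁ hf₁
      obtain ⟨g₁, rfl⟩ := (hmemP' f₁).1 hf₁
      have : g₁ ∈ T.comap ψ := by rw [htop]; exact Subgroup.mem_top g₁
      exact this
  obtain ⟨hgen, hcent⟩ := minimal_moved_props 2 q (Ne.symm hq2) x y hxy 1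
    (by rw [pow_one]; exact hy2) P' hP' hxP' hyP' hmoved' hmin'
  -- class two
  have hcl' : ∀ g h : Q, ∀ c ∈ P', Commute (ψ ⁅g, h⁆) c := by
    intro g h c hc
    have hQne : Nontrivial Q := by
      obtain ⟨g₀, hg₀⟩ := hmoved
      refine ⟨⟨g₀, 1, ?_⟩⟩
      rintro rfl
      apply hg₀
      rw [map_one]
      exact Commute.one_right _
    have hnil : Group.IsNilpotent Q := hQ.isNilpotent
    have hcomm : ∀ c₀ ∈ commutator Q, Commute y (ψ c₀) := by
      apply hmin (commutator Q)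
      · intro c₀ hc₀
        have hchar : (commutator Q).Characteristic := inferInstance
        have := (Subgroup.characteristic_iff_map_eq.1 hchar) α
        rw [← this]
        exact ⟨c₀, hc₀, rfl⟩
      · exact (Group.IsSolvable.commutator_lt_top_of_nontrivial Q).ne
    have h1 : ⁅g, h⁆ ∈ commutator Q :=
      Subgroup.commutator_mem_commutator (Subgroup.mem_top g) (Subgroup.mem_top h)
    exact hcent (ψ ⁅g, h⁆) ((hmemP' _).2 ⟨_, rfl⟩) (hcomm _ h1) c hc
  -- the representation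
  obtain ⟨W₁, _, _, _, W₂, _, _, _, Φ₁, Φ₂, Pi, hPi, hΦfix, hΦinj, hΦeq, hidx, hker, hfixP⟩ :=
    exists_rep_quot r₁ hR A
  let Ψ₁ : MulAut R →* (W₁ ≃ₗ[AlgebraicClosure (ZMod r₁)] W₁) :=
    (LinearMap.GeneralLinearGroup.generalLinearEquiv (AlgebraicClosure (ZMod r₁)) W₁).toMonoidHom.comp
      Φ₁.toHomUnits
  have hΨa : ∀ (f : MulAut R) (w : W₁), Ψ₁ f w = Φ₁ f w := fun f w => rfl
  have hΨinj : Function.Injective Ψ₁ := by
    rw [injective_iff_map_eq_one]
    intro f hf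
    apply hΦinj
    ext w
    rw [← hΨa, hf]
    rfl
  have h2K : ((2 : ℕ) : AlgebraicClosure (ZMod r₁)) ≠ 0 :=
    natCast_ne_zero_of_not_dvd r₁ 2
      (fun h => hr₁2 ((Nat.prime_dvd_prime_iff_eq hr₁ Nat.prime_two).1 h))
  have h2K' : (2 : AlgebraicClosure (ZMod r₁)) ≠ 0 := by exact_mod_cast h2K
  have hqK : (q : AlgebraicClosure (ZMod r₁)) ≠ 0 :=
    natCast_ne_zero_of_not_dvd r₁ q
      (fun h => hqr ((Nat.prime_dvd_prime_iff_eq hr₁ hq).1 h).symm)
  obtain ⟨E, hEdef⟩ : ∃ E : Subgroup (W₁ ≃ₗ[AlgebraicClosure (ZMod r₁)] W₁), E = P'.map Ψ₁ :=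
    ⟨_, rfl⟩
  have hmemE : ∀ e, e ∈ E ↔ ∃ g : Q, Ψ₁ (ψ g) = e := by
    intro e
    rw [hEdef]
    constructor
    · rintro ⟨f, hf, rfl⟩
      obtain ⟨g, rfl⟩ := (hmemP' f).1 hf
      exact ⟨g, rfl⟩
    · rintro ⟨g, rfl⟩
      exact ⟨ψ g, (hmemP' _).2 ⟨g, rfl⟩, rfl⟩
  have hfinE : Finite E := by
    have hsurj : Function.Surjective (fun g : Q => (⟨Ψ₁ (ψ g), (hmemE _).2 ⟨g, rfl⟩⟩ : E)) := by
      rintro ⟨e, he⟩
      obtain ⟨g, rfl⟩ := (hmemE e).1 he
      exact ⟨g, rfl⟩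
    exact Finite.of_surjective _ hsurj
  have hE : IsPGroup q E := by
    rw [hEdef]
    exact hP'.map Ψ₁
  have hx' : (Ψ₁ x) ^ 2 ^ (N + 1) = 1 := by rw [← map_pow, hx, map_one]
  have hy' : (Ψ₁ x) ^ 2 ^ N = Ψ₁ y := by rw [← map_pow, hy]
  have hfix' : ∀ v : W₁, Ψ₁ x v = v → v = 0 := by
    intro v hv
    apply hΦfix x hfixR
    rw [← hΨa]
    exact hv
  have hnorm : ∀ g ∈ E, Ψ₁ x * g * (Ψ₁ x)⁻¹ ∈ E := by
    intro e he
    obtain ⟨g, rfl⟩ := (hmemE e).1 he
    refine (hmemE _).2 ⟨α g, ?_⟩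
    rw [← hαψ g, map_mul, map_mul, map_inv]
  have hcl : ∀ a ∈ E, ∀ b ∈ E, ∀ c ∈ E, Commute ⁅a, b⁆ c := by
    intro a ha b hb c hc
    obtain ⟨g, rfl⟩ := (hmemE a).1 ha
    obtain ⟨h, rfl⟩ := (hmemE b).1 hb
    obtain ⟨k, rfl⟩ := (hmemE c).1 hc
    rw [← map_commutatorElement, ← map_commutatorElement]
    exact (hcl' g h (ψ k) ((hmemP' _).2 ⟨k, rfl⟩)).map Ψ₁
  have hcentE : ∀ c ∈ E, Commute ((Ψ₁ x) ^ 2 ^ N) c → ∀ g ∈ E, Commute c g := by
    intro c hc hcomm g hg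
    obtain ⟨c₀, rfl⟩ := (hmemE c).1 hc
    obtain ⟨g₀, rfl⟩ := (hmemE g).1 hg
    rw [hy'] at hcomm
    have h1 : Commute y (ψ c₀) := by
      show y * ψ c₀ = ψ c₀ * y
      apply hΨinj
      rw [map_mul, map_mul]
      exact hcomm.eq
    exact (hcent (ψ c₀) ((hmemP' _).2 ⟨c₀, rfl⟩) h1 (ψ g₀) ((hmemP' _).2 ⟨g₀, rfl⟩)).map Ψ₁
  have hcore := gross_core q hq2 h2K' hqK N (Ψ₁ x) hx' hfix' E hE hnorm hcl hcentE
  rw [hy'] at hcore
  -- `P'` is a `q`-group acting without fixed points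
  have hndvd : ¬ r₁ ∣ Nat.card P' := by
    obtain ⟨n, hn⟩ := hP'.exists_card_eq
    rw [hn]
    intro h
    exact hqr ((Nat.prime_dvd_prime_iff_eq hr₁ hq).1 (hr₁.dvd_of_dvd_pow h)).symm
  have hPfix' : ∀ v : R, (∀ g ∈ P', g v = v) → v = 1 :=
    fun v hv => hPfix v (fun g => hv (ψ g) ((hmemP' _).2 ⟨g, rfl⟩))
  have hyy : ∀ w : W₁, Ψ₁ y (Ψ₁ y w) = w := by
    intro w
    have : Ψ₁ y * Ψ₁ y = 1 := by rw [← map_mul, ← pow_two, hy2, map_one]
    rw [← LinearEquiv.mul_apply, this]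
    rfl
  -- a nice subspace is not a line
  have hnice : ∀ U : Submodule (AlgebraicClosure (ZMod r₁)) W₁, Nice q E (Ψ₁ y) U →
      finrank (AlgebraicClosure (ZMod r₁)) U = q ∧
        2 * finrank (AlgebraicClosure (ZMod r₁))
          ↥(LinearMap.ker (((Ψ₁ y : W₁ ≃ₗ[AlgebraicClosure (ZMod r₁)] W₁) :
            W₁ →ₗ[AlgebraicClosure (ZMod r₁)] W₁) + 1) ⊓ U) = q + 1 := by
    intro U hU
    rcases hU.dim with h1 | h
    · exfalso
      have hall : ∀ g : E, ScOn U (g : W₁ ≃ₗ[AlgebraicClosure (ZMod r₁)] W₁) := by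
        intro g
        by_contra hg
        have hlt := Finite.card_subtype_lt
          (p := fun g : E => ScOn U (g : W₁ ≃ₗ[AlgebraicClosure (ZMod r₁)] W₁)) hg
        have := hU.card
        rw [h1, one_pow, mul_one] at this
        omega
      obtain ⟨u₀, hu₀U, hu₀⟩ := Submodule.exists_mem_ne_zero_of_ne_bot hU.simple.2.1
      let S : Subgroup (MulAut R) :=
        { carrier := {f | ∀ u ∈ U, Ψ₁ f u = u}
          mul_mem' := by
            intro a b ha hb u hu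
            rw [map_mul, LinearEquiv.mul_apply, hb u hu, ha u hu]
          one_mem' := by
            intro u _
            rw [map_one]
            rfl
          inv_mem' := by
            intro a ha u hu
            have h1 : Ψ₁ a⁻¹ (Ψ₁ a u) = u := by
              rw [← LinearEquiv.mul_apply, ← map_mul, inv_mul_cancel, map_one]
              rfl
            rw [ha u hu] at h1
            exact h1 }
      have hS : ∀ a ∈ P', y * a * y⁻¹ * a⁻¹ ∈ S := by
        intro a ha u hu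
        have haE : Ψ₁ a ∈ E := by rw [hEdef]; exact ⟨a, ha, rfl⟩
        obtain ⟨c, hc⟩ := hall ⟨Ψ₁ a, haE⟩
        have hc' : ∀ u ∈ U, Ψ₁ a u = c • u := hc
        have hc0 : c ≠ 0 := by
          rintro rfl
          apply hu₀
          have := hc' u₀ hu₀U
          rw [zero_smul] at this
          exact (LinearEquiv.map_eq_zero_iff (Ψ₁ a)).1 this
        have hinv : Ψ₁ a⁻¹ u = c⁻¹ • u := by
          have h1 : Ψ₁ a⁻¹ (Ψ₁ a u) = u := by
            rw [← LinearEquiv.mul_apply, ← map_mul, inv_mul_cancel, map_one]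
            rfl
          rw [hc' u hu, map_smul] at h1
          exact (eq_inv_smul_iff₀ hc0).2 h1
        rw [map_mul, map_mul, map_mul, LinearEquiv.mul_apply, LinearEquiv.mul_apply,
          LinearEquiv.mul_apply, hyinv, hinv, map_smul, map_smul,
          hc' _ (hU.ystab u hu), smul_smul, inv_mul_cancel₀ hc0, one_smul]
        exact hyy u
      have hPS := hgen S hS
      have hU0 : ∀ u ∈ U, u = 0 := by
        intro u hu
        apply hfixP P' hndvd hPfix' u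
        intro g hg
        exact hPS hg u hu
      exact hU.simple.2.1 ((Submodule.eq_bot_iff U).2 hU0)
    · exact h
  -- induced automorphisms on the quotient
  have hind : ∀ g : Q, ∃ f' : MulAut (R ⧸ A),
      ∀ v : R, f' (v : R ⧸ A) = ((ψ g v : R) : R ⧸ A) :=
    fun g => exists_induced A (ψ g) (hAP g)
  choose g' hg' using hind
  obtain ⟨y'', hy''⟩ := exists_induced A y hAy
  have hΨΦ : ∀ f : MulAut R, ((Ψ₁ f : W₁ ≃ₗ[AlgebraicClosure (ZMod r₁)] W₁) :
      W₁ →ₗ[AlgebraicClosure (ZMod r₁)] W₁) = Φ₁ f := fun f => LinearMap.ext (fun w => rfl)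
  have h𝒰 : ∀ U ∈ {U : Submodule (AlgebraicClosure (ZMod r₁)) W₁ | Nice q E (Ψ₁ y) U},
      (∀ i : Q, ∀ u ∈ U, (Φ₁ (ψ i) : W₁ →ₗ[AlgebraicClosure (ZMod r₁)] W₁) u ∈ U) ∧
      (∀ U' : Submodule (AlgebraicClosure (ZMod r₁)) W₁, U' ≤ U →
        (∀ i : Q, ∀ u ∈ U', (Φ₁ (ψ i) : W₁ →ₗ[AlgebraicClosure (ZMod r₁)] W₁) u ∈ U') →
        U' = ⊥ ∨ U' = U) ∧
      (∀ u ∈ U, (Φ₁ y : W₁ →ₗ[AlgebraicClosure (ZMod r₁)] W₁) u ∈ U) ∧
      finrank (AlgebraicClosure (ZMod r₁)) U = q ∧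
      2 * finrank (AlgebraicClosure (ZMod r₁))
        ↥(LinearMap.ker ((Φ₁ y : W₁ →ₗ[AlgebraicClosure (ZMod r₁)] W₁) + 1) ⊓ U) = q + 1 := by
    intro U hU
    have hU' : Nice q E (Ψ₁ y) U := hU
    refine ⟨?_, ?_, ?_, ?_⟩
    · intro i u hu
      exact hU'.simple.1 ⟨Ψ₁ (ψ i), (hmemE _).2 ⟨i, rfl⟩⟩ u hu
    · intro U'' hle hinv
      apply hU'.simple.2.2 U'' hle
      intro g u hu
      obtain ⟨i, hi⟩ := (hmemE _).1 g.2
      have := hinv i u hu
      rw [← hΨa, hi] at this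
      exact this
    · intro u hu
      exact hU'.ystab u hu
    · have := hnice U hU'
      rw [hΨΦ y] at this
      exact this
  have hratio := ratio_of_nice (ι := Q) (fun i => Φ₁ (ψ i)) (fun i => Φ₂ (g' i))
    (Φ₁ y) (Φ₂ y'') Pi hPi
    (fun i w => hΦeq (ψ i) (g' i) (hg' i) w) (fun w => hΦeq y y'' hy'' w)
    q {U | Nice q E (Ψ₁ y) U} hcore h𝒰
  -- exponentiate
  have hAB : A ≤ B := by
    intro a ha
    rw [hB]
    exact A.mul_mem (hAy a ha) ha
  have hcardB := card_inverted_quot A B y y'' hy'' hAB hB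
  have hk := hker y''
  rw [hcardB] at hk
  rw [← hidx, ← hk, ← pow_mul, ← pow_mul]
  congr 1
  rw [mul_comm, hratio, mul_comm]

end Cfsg.Agent.Lib.Helper49_Gross_GU
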