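import Mathlib
import Cfsg.Prelude.Def_Characters
import Cfsg.Agent.Lib.Helper76_HIDefs
import Cfsg.Agent.Lib.Helper75_Clifford

/-!
# HI market (S4563 + S4564, architect helper76), package DINV:
`N_H(B)` permutes the irreducible characters of `B` lying over an `H`-invariant `θ`.
-/

set_option autoImplicit false
open scoped ComplexConjugate

namespace Cfsg.Agent.Lib.Helper49_HI_DINV

open Cfsg Cfsg.Agent.Lib.Helper76_HIDefs

section fin
variable {H : Type*} [Group H] [Finite H]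

/-- conjugation by `h⁻¹` as an automorphism of a subgroup normalized by `h` -/
def conjEquiv (B : Subgroup H) {h : H} (hh : h ∈ Subgroup.normalizer (B : Set H)) : ↥B ≃* ↥B where
  toFun y := ⟨h⁻¹ * y.1 * h, conj_mem_of_mem_normalizer hh y.2⟩
  invFun y := ⟨h * y.1 * h⁻¹, by
    have := conj_mem_of_mem_normalizer (Subgroup.inv_mem _ hh) y.2
    simpa using this⟩
  left_inv y := by
    apply Subtype.ext
    show h * (h⁻¹ * y.1 * h) * h⁻¹ = y.1
    group
  right_inv y := by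
    apply Subtype.ext
    show h⁻¹ * (h * y.1 * h⁻¹) * h = y.1
    group
  map_mul' x y := by
    apply Subtype.ext
    show h⁻¹ * (x.1 * y.1) * h = (h⁻¹ * x.1 * h) * (h⁻¹ * y.1 * h)
    group

omit [Finite H] in
theorem cj_eq_comp (B : Subgroup H) {h : H} (hh : h ∈ Subgroup.normalizer (B : Set H))
    (ν : ↥B → ℂ) : cj B h ν = fun y => ν (conjEquiv B hh y) := by
  funext y
  rw [cj_apply' hh]
  rfl

/-- DINV -/
theorem inv_over (Z B : Subgroup H) (nZ : Z.Normal) (hZB : Z ≤ B) (θ : ↥Z → ℂ)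
    (hinv : ∀ (h : H) (z : ↥Z) (hz : h * z.1 * h⁻¹ ∈ Z), θ ⟨h * z.1 * h⁻¹, hz⟩ = θ z)
    {h : H} (hh : h ∈ Subgroup.normalizer (B : Set H)) {ν : ↥B → ℂ}
    (hν : Cfsg.IsIrrCharacter ↥B ν) :
    Cfsg.IsIrrCharacter ↥B (cj B h ν) ∧ ip (rs B Z (cj B h ν)) θ = ip (rs B Z ν) θ := by
  refine ⟨?_, ?_⟩
  · rw [cj_eq_comp B hh ν]
    exact Cfsg.Agent.Lib.Helper75_Clifford.isIrrCharacter_comp_equiv (conjEquiv B hh) hν
  · -- the automorphism of `Z` induced by `h⁻¹`
    have hZn : h ∈ Subgroup.normalizer (Z : Set H) := by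
      rw [Subgroup.normalizer_eq_top_iff.mpr nZ]; exact Subgroup.mem_top h
    have h1 : rs B Z (cj B h ν) = fun z => (rs B Z ν) (conjEquiv Z hZn z) := by
      funext z
      rw [rs_apply _ _ (hZB z.2), rs_apply _ _ (hZB (conjEquiv Z hZn z).2), cj_apply' hh]
      rfl
    have h2 : θ = fun z => θ (conjEquiv Z hZn z) := by
      funext z
      have hz : h⁻¹ * z.1 * (h⁻¹)⁻¹ ∈ Z := by
        have := (conjEquiv Z hZn z).2
        simpa [conjEquiv] using this
      have := hinv h⁻¹ z hz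
      rw [← this]
      congr 1
      apply Subtype.ext
      show h⁻¹ * z.1 * (h⁻¹)⁻¹ = h⁻¹ * z.1 * h
      rw [inv_inv]
    rw [h1]
    conv_lhs => rw [h2]
    unfold ip
    exact @Cfsg.Agent.Lib.Helper75_Clifford.classInner_comp_equiv ↥Z ↥Z _ _
      (Fintype.ofFinite _) (Fintype.ofFinite _) (conjEquiv Z hZn) (rs B Z ν) θ

end fin

end Cfsg.Agent.Lib.Helper49_HI_DINV
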