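import Mathlib
import Cfsg.Agent.Lib.Helper72_IPDefs
import Cfsg.Agent.Lib.Helper80_CharComplete
import Cfsg.Agent.Lib.Helper76_GalConj

/-!
# S4463 package PKG-B1 (helper72's Isaacs-Passman market): a small nontrivial conjugacy class.
-/

set_option autoImplicit false
open Cfsg Cfsg.Agent.Lib.Helper72_IPDefs

namespace Cfsg.Agent.Lib.Helper49_IP_B1

universe u

open Cfsg.Agent.Lib.Helper80_CharComplete Cfsg.Agent.Lib.Helper80_CharBasic

/-- Sum of the squares of the degrees, in `ℕ`. -/
theorem sum_sq_charDegree {Q : Type u} [Group Q] [Finite Q] [Fintype (IrrCharacter Q)] :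
    ∑ χ : IrrCharacter Q, (charDegree (χ : Q → ℂ)) ^ 2 = Nat.card Q := by
  have h1 := sum_sq_degrees (G := Q)
  rw [finsum_eq_sum_of_fintype] at h1
  have h2 : ∑ χ : IrrCharacter Q, (χ : Q → ℂ) 1 ^ 2 =
      ((∑ χ : IrrCharacter Q, (charDegree (χ : Q → ℂ)) ^ 2 : ℕ) : ℂ) := by
    rw [Nat.cast_sum]
    refine Finset.sum_congr rfl fun χ _ => ?_
    rw [Cfsg.Agent.Lib.Helper76_GalConj.irr_one_eq_charDegree, Nat.cast_pow]
  rw [h2] at h1
  exact_mod_cast h1

theorem charDegree_oneIrr {Q : Type u} [Group Q] :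
    charDegree ((oneIrr Q : IrrCharacter Q) : Q → ℂ) = 1 := by
  unfold Cfsg.charDegree Cfsg.Agent.Lib.Helper80_CharBasic.oneIrr
  simp

theorem exists_small_class {Q : Type u} [Group Q] [Finite Q] [Nontrivial Q] {b : ℕ}
    (h : RB Q b) :
    ∃ x : Q, x ≠ 1 ∧ (Subgroup.centralizer ({x} : Set Q)).index ≤ b ^ 2 := by
  classical
  by_contra hcon
  simp only [not_exists, not_and, not_le] at hcon
  have := Fintype.ofFinite Q
  have := Fintype.ofFinite (IrrCharacter Q)
  have hN2 : 2 ≤ Nat.card Q := by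
    rw [Nat.card_eq_fintype_card]
    exact Fintype.one_lt_card
  have hk : Nat.card (IrrCharacter Q) = Fintype.card (IrrCharacter Q) := Nat.card_eq_fintype_card
  have hkpos : 1 ≤ Fintype.card (IrrCharacter Q) := Fintype.card_pos_iff.mpr ⟨oneIrr Q⟩
  -- (1) degrees
  have h1 : Nat.card Q + b ^ 2 ≤ 1 + Fintype.card (IrrCharacter Q) * b ^ 2 := by
    have e := sum_sq_charDegree (Q := Q)
    rw [← Finset.sum_erase_add _ _ (Finset.mem_univ (oneIrr Q)), charDegree_oneIrr] at e
    have e2 : ∑ χ ∈ Finset.univ.erase (oneIrr Q), (charDegree (χ : Q → ℂ)) ^ 2 ≤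
        (Finset.univ.erase (oneIrr Q)).card • b ^ 2 :=
      Finset.sum_le_card_nsmul _ _ _ (fun χ _ => Nat.pow_le_pow_left (h χ) 2)
    rw [Finset.card_erase_of_mem (Finset.mem_univ _), Finset.card_univ, smul_eq_mul] at e2
    have e3 : (Fintype.card (IrrCharacter Q) - 1) * b ^ 2 + b ^ 2 =
        Fintype.card (IrrCharacter Q) * b ^ 2 := by
      have : Fintype.card (IrrCharacter Q) = (Fintype.card (IrrCharacter Q) - 1) + 1 := by omega
      nth_rw 2 [this]
      ring
    omega
  -- (2) classes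
  have h2 : Fintype.card (IrrCharacter Q) * (b ^ 2 + 1) + 1 ≤ Nat.card Q + (b ^ 2 + 1) := by
    have e := sum_card_centralizer (G := Q)
    rw [← card_irr_eq_card_conjClasses, hk] at e
    rw [← Finset.sum_erase_add _ _ (Finset.mem_univ (1 : Q))] at e
    have hc1 : Nat.card (Subgroup.centralizer ({1} : Set Q)) = Nat.card Q := by
      have : Subgroup.centralizer ({1} : Set Q) = ⊤ := by
        ext x
        simp [Subgroup.mem_centralizer_singleton_iff]
      rw [this, Subgroup.card_top]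
    rw [hc1] at e
    have e2 : ∑ g ∈ Finset.univ.erase (1 : Q),
        Nat.card (Subgroup.centralizer ({g} : Set Q)) * (b ^ 2 + 1) ≤
        (Finset.univ.erase (1 : Q)).card • Nat.card Q := by
      refine Finset.sum_le_card_nsmul _ _ _ (fun g hg => ?_)
      have hg1 : g ≠ 1 := (Finset.mem_erase.mp hg).1
      have h3 := hcon g hg1
      have h4 := Subgroup.card_mul_index (Subgroup.centralizer ({g} : Set Q))
      calc Nat.card (Subgroup.centralizer ({g} : Set Q)) * (b ^ 2 + 1)
          ≤ Nat.card (Subgroup.centralizer ({g} : Set Q)) *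
            (Subgroup.centralizer ({g} : Set Q)).index := Nat.mul_le_mul_left _ h3
        _ = Nat.card Q := h4
    rw [Finset.card_erase_of_mem (Finset.mem_univ _), Finset.card_univ, smul_eq_mul,
      ← Finset.sum_mul, ← Nat.card_eq_fintype_card] at e2
    -- e : S + N = k * N ; e2 : S * (b^2+1) ≤ (N - 1) * N
    obtain ⟨M, hM⟩ : ∃ M, Nat.card Q = M + 1 := ⟨Nat.card Q - 1, by omega⟩
    have e4 : Nat.card Q * (Fintype.card (IrrCharacter Q) * (b ^ 2 + 1)) ≤
        Nat.card Q * ((b ^ 2 + 1) + M) := by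
      have hM' : Nat.card Q - 1 = M := by omega
      rw [hM'] at e2
      calc Nat.card Q * (Fintype.card (IrrCharacter Q) * (b ^ 2 + 1))
          = (Fintype.card (IrrCharacter Q) * Nat.card Q) * (b ^ 2 + 1) := by ring
        _ = (∑ g ∈ Finset.univ.erase (1 : Q), Nat.card (Subgroup.centralizer ({g} : Set Q)) +
              Nat.card Q) * (b ^ 2 + 1) := by rw [e]
        _ = (∑ g ∈ Finset.univ.erase (1 : Q), Nat.card (Subgroup.centralizer ({g} : Set Q))) *
              (b ^ 2 + 1) + Nat.card Q * (b ^ 2 + 1) := by ring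
        _ ≤ M * Nat.card Q + Nat.card Q * (b ^ 2 + 1) := Nat.add_le_add_right e2 _
        _ = Nat.card Q * ((b ^ 2 + 1) + M) := by ring
    have e5 := Nat.le_of_mul_le_mul_left e4 (by omega : 0 < Nat.card Q)
    omega
  -- combine
  have h3 : Fintype.card (IrrCharacter Q) ≤ 1 := by
    have e : Fintype.card (IrrCharacter Q) * (b ^ 2 + 1) =
        Fintype.card (IrrCharacter Q) * b ^ 2 + Fintype.card (IrrCharacter Q) := by ring
    omega
  have h4 : Fintype.card (IrrCharacter Q) = 1 := by omega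
  rw [h4] at h1
  omega

end Cfsg.Agent.Lib.Helper49_IP_B1
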