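import Mathlib
import Cfsg.Agent.Lib.Helper72_IPDefs
import Cfsg.Agent.Lib.Helper3_CharBurnside
import Cfsg.Agent.S4464

/-!
# S4463 package PKG-S5 (helper72's Isaacs-Passman market): all degrees at most 4 implies solvable.
-/

set_option autoImplicit false
open Cfsg Cfsg.Agent.Lib.Helper72_IPDefs

namespace Cfsg.Agent.Lib.Helper49_IP_S5

universe u

theorem solvable_aux : ∀ (n : ℕ) (G : Type u) [Group G] [Finite G], Nat.card G = n → RB G 4 →
    Group.IsSolvable G := by
  intro n
  induction n using Nat.strong_induction_on with
  | _ n ih =>
    intro G _ _ hn h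
    by_cases hex : ∃ p : ℕ, p.Prime ∧ 5 ≤ p ∧ p ∣ Nat.card G
    · obtain ⟨p, hp, hp5, hpd⟩ := hex
      obtain ⟨P, hPn, hPc, hPp, hPi⟩ := Cfsg.Agent.S4464.result (G := G) p hp
        (fun χ => lt_of_le_of_lt (h χ) (by omega))
      have := hPn
      have hPne : P ≠ ⊥ := by
        intro e
        apply hPi
        rw [e, Subgroup.index_bot]
        exact hpd
      have hcardP : 1 < Nat.card P := by
        rcases Nat.lt_or_ge 1 (Nat.card P) with h1 | h1
        · exact h1
        · exfalso
          apply hPne
          have hpos : 0 < Nat.card P := Nat.card_pos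
          have : Nat.card P = 1 := by omega
          exact Subgroup.card_eq_one.mp this
      have hmul : Nat.card G = Nat.card (G ⧸ P) * Nat.card P := Subgroup.card_eq_card_quotient_mul_card_subgroup P
      have hposq : 0 < Nat.card (G ⧸ P) := Nat.card_pos
      have hlt : Nat.card (G ⧸ P) < n := by
        rw [← hn, hmul]
        nlinarith
      have hq : Group.IsSolvable (G ⧸ P) := ih _ hlt (G ⧸ P) rfl (h.quotient P)
      have hP : Group.IsSolvable P := by
        let _ : CommGroup P :=
          { (inferInstance : Group P) with
            mul_comm := fun a b => Subtype.ext (hPc a.1 a.2 b.1 b.2) }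
        infer_instance
      exact Group.isSolvable_of_ker_le_range P.subtype (QuotientGroup.mk' P) (by simp)
    · simp only [not_exists, not_and] at hex
      refine Cfsg.Agent.Lib.Helper3_CharBurnside.isSolvable_of_two_primes 2 3 Nat.prime_two
        Nat.prime_three _ G rfl ?_
      intro r hr hdvd
      have hr5 : r < 5 := by
        by_contra hge
        exact hex r hr (by omega) hdvd
      have hr2 := hr.two_le
      interval_cases r
      · left; rfl
      · right; rfl
      · exact absurd hr (by decide)

theorem solvable_of_rb_four {G : Type u} [Group G] [Finite G] (h : RB G 4) : Group.IsSolvable G :=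
  solvable_aux _ G rfl h

end Cfsg.Agent.Lib.Helper49_IP_S5
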