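import Mathlib
import Cfsg.Agent.Lib.Helper49_J1Defs

/-!
# S4274, package RED (helper53 for helper49): the reduction to a minimal simple section

Strong induction on the order: every group `X` whose order divides `175560` and which is of smaller
order or not simple has at most one Sylow `19`-subgroup, provided no group satisfies `Hyp`.
-/

set_option autoImplicit false

namespace Cfsg.Agent.Lib.Helper53_J1_RED

open Subgroup Cfsg.Agent.Lib.Helper49_J1Defs

open scoped Pointwise

universe u

/-- `19` is prime (as an instance, local to this file). -/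
local instance fact19 : Fact (Nat.Prime 19) := ⟨by norm_num⟩

/-- A subgroup of prime order `p` which maps a subgroup `R` of order `< p` into itself by
conjugation centralizes it. -/
theorem centralizes_of_card_lt {X : Type*} [Group X] {p : ℕ} [hp : Fact p.Prime]
    (P R : Subgroup X) [Finite R] (hP : Nat.card P = p) (hR : Nat.card R < p)
    (hnorm : ∀ x ∈ P, ∀ y ∈ R, x * y * x⁻¹ ∈ R) :
    ∀ x ∈ P, ∀ y ∈ R, x * y = y * x := by
  intro x hx y hy
  by_contra hne
  have : Fact (Nat.card P).Prime := ⟨hP ▸ hp.out⟩
  have hC : Disjoint (centralizer ({y} : Set X)) P := by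
    rcases Subgroup.eq_bot_or_eq_top_of_prime_card ((centralizer ({y} : Set X)).subgroupOf P)
      with h | h
    · exact subgroupOf_eq_bot.mp h
    · exfalso
      have hle : P ≤ centralizer ({y} : Set X) := subgroupOf_eq_top.mp h
      have := mem_centralizer_iff.mp (hle hx) y (Set.mem_singleton y)
      exact hne this.symm
  have hinj : Function.Injective (fun z : P => (⟨z * y * (z : X)⁻¹, hnorm z z.2 y hy⟩ : R)) := by
    intro z w hzw
    have hzw' : (z : X) * y * (z : X)⁻¹ = (w : X) * y * (w : X)⁻¹ := by
      simpa using congrArg Subtype.val hzw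
    have hmem : (w : X)⁻¹ * z ∈ centralizer ({y} : Set X) := by
      rw [mem_centralizer_iff]
      intro h hh
      rw [Set.mem_singleton_iff] at hh
      subst hh
      have : h * ((w : X)⁻¹ * z) = (w : X)⁻¹ * ((w : X) * h * (w : X)⁻¹) * z := by group
      rw [this, ← hzw']
      group
    have hmemP : (w : X)⁻¹ * z ∈ P := P.mul_mem (P.inv_mem w.2) z.2
    have h1 : (w : X)⁻¹ * z = 1 := by
      have := (Subgroup.disjoint_def.mp hC) hmem hmemP
      exact this
    apply Subtype.ext
    have : (z : X) = w := by
      have := congrArg (fun t => (w : X) * t) h1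
      simpa using this
    exact this
  have hle : Nat.card P ≤ Nat.card R := Nat.card_le_card_of_injective _ hinj
  omega

/-- A prime power dividing `9240 = 2^3 * 3 * 5 * 7 * 11` is less than `19`. -/
theorem prime_pow_lt {r k : ℕ} (hr : r.Prime) (h : r ^ k ∣ 9240) : r ^ k < 19 := by
  rcases Nat.eq_zero_or_pos k with rfl | hk
  · norm_num
  have hr9 : r ∣ 9240 := (dvd_pow_self r hk.ne').trans h
  have h9240 : (9240 : ℕ) = 2 ^ 3 * 3 * 5 * 7 * 11 := by norm_num
  have hcases : r = 2 ∨ r = 3 ∨ r = 5 ∨ r = 7 ∨ r = 11 := by
    rw [h9240] at hr9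
    rcases (Nat.Prime.dvd_mul hr).mp hr9 with h1 | h1
    · rcases (Nat.Prime.dvd_mul hr).mp h1 with h2 | h2
      · rcases (Nat.Prime.dvd_mul hr).mp h2 with h3 | h3
        · rcases (Nat.Prime.dvd_mul hr).mp h3 with h4 | h4
          · left
            exact (Nat.prime_dvd_prime_iff_eq hr (by norm_num)).mp (hr.dvd_of_dvd_pow h4)
          · right; left
            exact (Nat.prime_dvd_prime_iff_eq hr (by norm_num)).mp h4
        · right; right; left
          exact (Nat.prime_dvd_prime_iff_eq hr (by norm_num)).mp h3
      · right; right; right; left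
        exact (Nat.prime_dvd_prime_iff_eq hr (by norm_num)).mp h2
    · right; right; right; right
      exact (Nat.prime_dvd_prime_iff_eq hr (by norm_num)).mp h1
  have hk3 : k ≤ 3 := by
    by_contra hk4
    push Not at hk4
    have h4 : r ^ 4 ∣ 9240 := (pow_dvd_pow r hk4).trans h
    rcases hcases with rfl | rfl | rfl | rfl | rfl <;> norm_num at h4
  rcases hcases with rfl | rfl | rfl | rfl | rfl <;> interval_cases k <;>
    first | (norm_num; done) | (exfalso; norm_num at h)

/-- If `19` does not divide the order, the Sylow `19`-subgroups are trivial. -/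
theorem eq_of_not_dvd {X : Type*} [Group X] [Finite X] (h : ¬ 19 ∣ Nat.card X)
    (P Q : Sylow 19 X) : P = Q := by
  have key : ∀ S : Sylow 19 X, (S : Subgroup X) = ⊥ := by
    intro S
    apply Subgroup.eq_bot_of_card_eq
    rw [S.card_eq_multiplicity, Nat.factorization_eq_zero_of_not_dvd h, pow_zero]
  exact Sylow.ext ((key P).trans (key Q).symm)

/-- In a commutative group Sylow subgroups are unique. -/
theorem eq_of_comm {X : Type*} [Group X] [Finite X] (h : IsMulCommutative X)
    (P Q : Sylow 19 X) : P = Q := by
  have : (P : Subgroup X).Normal := by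
    refine ⟨fun n hn g => ?_⟩
    have : g * n * g⁻¹ = n := by
      rw [h.is_comm.comm g n, mul_inv_cancel_right]
    rwa [this]
  obtain ⟨g, rfl⟩ := MulAction.exists_smul_eq X P Q
  exact Sylow.smul_eq_of_normal.symm

/-- Sylow `19`-subgroups lie in a normal subgroup whose quotient has order prime to `19`. -/
theorem le_of_not_dvd_quot {X : Type*} [Group X] [Finite X] (N : Subgroup X) [N.Normal]
    (h : ¬ 19 ∣ Nat.card (X ⧸ N)) (P : Sylow 19 X) : (P : Subgroup X) ≤ N := by
  intro x hx
  obtain ⟨k, hk⟩ := P.isPGroup' ⟨x, hx⟩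
  have hk' : x ^ 19 ^ k = 1 := by simpa using congrArg Subtype.val hk
  have h1 : (QuotientGroup.mk' N x) ^ 19 ^ k = 1 := by rw [← map_pow, hk', map_one]
  have h2 : (QuotientGroup.mk' N x) ^ Nat.card (X ⧸ N) = 1 := pow_card_eq_one'
  have hcop : Nat.Coprime (19 ^ k) (Nat.card (X ⧸ N)) :=
    Nat.Coprime.pow_left k ((Nat.Prime.coprime_iff_not_dvd (by norm_num)).mpr h)
  have h3 : orderOf (QuotientGroup.mk' N x) ∣ 1 := by
    have := Nat.dvd_gcd (orderOf_dvd_of_pow_eq_one h1) (orderOf_dvd_of_pow_eq_one h2)
    rwa [hcop.gcd_eq_one] at this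
  have h4 : QuotientGroup.mk' N x = 1 := orderOf_eq_one_iff.mp (Nat.dvd_one.mp h3)
  exact (QuotientGroup.eq_one_iff x).mp h4

/-- A proper subgroup has smaller order. -/
theorem card_lt_of_ne_top {X : Type*} [Group X] [Finite X] {Y : Subgroup X} (hY : Y ≠ ⊤) :
    Nat.card Y < Nat.card X :=
  lt_of_le_of_ne Y.card_le_card_group (fun h => hY (Y.card_eq_iff_eq_top.mp h))

/-- The split case: `X = P N` with `N` normal of order dividing `9240`; then `P` is normal. -/
theorem normal_of_sup_eq_top {X : Type*} [Group X] [Finite X] (N : Subgroup X) [N.Normal]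
    (hNd : Nat.card N ∣ 9240) (P : Sylow 19 X) (hcard : Nat.card P = 19)
    (h : (P : Subgroup X) ⊔ N = ⊤) : (P : Subgroup X).Normal := by
  have h19N : ¬ 19 ∣ Nat.card N := fun h => by
    have := h.trans hNd
    norm_num at this
  have hN0 : Nat.card N ≠ 0 := Nat.card_pos.ne'
  have key : ∀ r : ℕ, r.Prime → ∃ R : Subgroup X, R ≤ N ∧
      R ≤ centralizer ((P : Subgroup X) : Set X) ∧
      Nat.card R = r ^ (Nat.card N).factorization r := by
    intro r hr
    have : Fact r.Prime := ⟨hr⟩
    let f : (P : Subgroup X) →* MulAut N := (MulAut.conjNormal).comp (P : Subgroup X).subtype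
    let _ : MulAction (P : Subgroup X) (Sylow r N) := MulAction.compHom (Sylow r N) f
    have hnd : ¬ 19 ∣ Nat.card (Sylow r N) := by
      intro hd
      obtain ⟨R0⟩ : Nonempty (Sylow r N) := inferInstance
      exact h19N ((hd.trans (Sylow.card_dvd_index R0)).trans (Subgroup.index_dvd_card _))
    obtain ⟨R, hR⟩ := P.isPGroup'.nonempty_fixed_point_of_prime_not_dvd_card (Sylow r N) hnd
    have hRcard : Nat.card ((R : Subgroup N).map N.subtype) =
        r ^ (Nat.card N).factorization r := by
      rw [Subgroup.card_subtype]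
      exact R.card_eq_multiplicity
    refine ⟨(R : Subgroup N).map N.subtype, map_subtype_le _, ?_, hRcard⟩
    have hnorm : ∀ x ∈ (P : Subgroup X), ∀ y ∈ (R : Subgroup N).map N.subtype,
        x * y * x⁻¹ ∈ (R : Subgroup N).map N.subtype := by
      intro x hx y hy
      obtain ⟨y', hy', rfl⟩ := hy
      have hfix : (⟨x, hx⟩ : (P : Subgroup X)) • R = R := hR ⟨x, hx⟩
      have h1 : f ⟨x, hx⟩ • y' ∈ f ⟨x, hx⟩ • (R : Subgroup N) :=
        Subgroup.smul_mem_pointwise_smul y' _ _ hy'
      have h2 : f ⟨x, hx⟩ • (R : Subgroup N) =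
          (((⟨x, hx⟩ : (P : Subgroup X)) • R : Sylow r N) : Subgroup N) := rfl
      rw [h2, hfix] at h1
      exact ⟨_, h1, by simp [f]⟩
    have hRlt : Nat.card ((R : Subgroup N).map N.subtype) < 19 := by
      rw [hRcard]
      apply prime_pow_lt hr
      exact (Nat.ordProj_dvd _ _).trans hNd
    have hcen := centralizes_of_card_lt (P : Subgroup X) _ hcard hRlt hnorm
    intro y hy
    rw [mem_centralizer_iff]
    intro x hx
    exact hcen x hx y hy
  -- `N` centralizes `P`
  have hdvd : Nat.card N ∣ Nat.card (centralizer ((P : Subgroup X) : Set X) ⊓ N : Subgroup X) := by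
    rw [← Nat.factorization_prime_le_iff_dvd hN0 Nat.card_pos.ne']
    intro r hr
    obtain ⟨R, hRN, hRC, hRcard⟩ := key r hr
    rw [← hr.pow_dvd_iff_le_factorization Nat.card_pos.ne', ← hRcard]
    exact Subgroup.card_dvd_of_le (le_inf hRC hRN)
  have hEq : centralizer ((P : Subgroup X) : Set X) ⊓ N = N :=
    Subgroup.eq_of_le_of_card_ge inf_le_right (Nat.le_of_dvd Nat.card_pos hdvd)
  have hNC : N ≤ centralizer ((P : Subgroup X) : Set X) := by
    rw [← hEq]
    exact inf_le_left
  rw [← normalizer_eq_top_iff, eq_top_iff, ← h]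
  exact sup_le le_normalizer (hNC.trans (centralizer_le_normalizer _))

/-- The induction: a group whose order divides `175560`, and is smaller or not simple, has at most
one Sylow `19`-subgroup. -/
theorem main (hkill : ∀ (X : Type u) [Group X] [Finite X], Hyp X → False) :
    ∀ n : ℕ, ∀ (X : Type u) [Group X] [Finite X], Nat.card X = n → n ∣ 175560 →
      (n < 175560 ∨ ¬ IsSimpleGroup X) → ∀ P Q : Sylow 19 X, P = Q := by
  intro n
  induction n using Nat.strong_induction_on with
  | _ n ih =>
  intro X _ _ hn hdvd hor P Q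
  subst hn
  by_cases h19 : 19 ∣ Nat.card X
  swap
  · exact eq_of_not_dvd h19 P Q
  have hXle : Nat.card X ≤ 175560 := Nat.le_of_dvd (by norm_num) hdvd
  by_cases hs : IsSimpleGroup X
  · -- the simple case
    have hlt : Nat.card X < 175560 := by
      rcases hor with h | h
      · exact h
      · exact absurd hs h
    by_cases hc : IsMulCommutative X
    · exact eq_of_comm hc P Q
    · exfalso
      apply hkill X
      refine ⟨hs, hc, hdvd, hlt, h19, ?_⟩
      intro Y hY P Q hP hQ
      have hYlt : Nat.card Y < Nat.card X := card_lt_of_ne_top hY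
      have hYd : Nat.card Y ∣ Nat.card X := Subgroup.card_subgroup_dvd_card Y
      have := ih (Nat.card Y) hYlt Y rfl (hYd.trans hdvd) (Or.inl (by omega))
        (P.subtype hP) (Q.subtype hQ)
      exact Sylow.subtype_injective this
  · -- the non-simple case
    have hnt : Nontrivial X := by
      by_contra hnt
      rw [not_nontrivial_iff_subsingleton] at hnt
      have h1 : Nat.card X = 1 := Nat.card_of_subsingleton 1
      rw [h1] at h19
      norm_num at h19
    obtain ⟨N, hNn, hNb, hNt⟩ : ∃ N : Subgroup X, N.Normal ∧ N ≠ ⊥ ∧ N ≠ ⊤ := by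
      by_contra hcon
      push Not at hcon
      apply hs
      exact { toNontrivial := hnt
              eq_bot_or_eq_top_of_normal := fun N hN => by
                by_contra h
                push Not at h
                exact h.2 (hcon N hN h.1) }
    have hNlt : Nat.card N < Nat.card X := card_lt_of_ne_top hNt
    have hNd : Nat.card N ∣ Nat.card X := Subgroup.card_subgroup_dvd_card N
    have hQcard : Nat.card (X ⧸ N) * Nat.card N = Nat.card X :=
      (Subgroup.card_eq_card_quotient_mul_card_subgroup N).symm
    have hN1 : 1 < Nat.card N := N.one_lt_card_iff_ne_bot.mpr hNb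
    have hQpos : 0 < Nat.card (X ⧸ N) := Nat.card_pos
    have hQlt : Nat.card (X ⧸ N) < Nat.card X := by nlinarith
    have hQd : Nat.card (X ⧸ N) ∣ Nat.card X := Dvd.intro _ hQcard
    have h361 : ¬ 361 ∣ Nat.card X := fun h => by
      have := h.trans hdvd
      norm_num at this
    by_cases hN19 : 19 ∣ Nat.card N
    · -- (a) the Sylow 19-subgroups lie in `N`
      have hQ19 : ¬ 19 ∣ Nat.card (X ⧸ N) := by
        intro h
        apply h361
        rw [← hQcard]
        exact mul_dvd_mul h hN19
      have key : ∀ S : Sylow 19 X, (S : Subgroup X) ≤ N := le_of_not_dvd_quot N hQ19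
      have := ih (Nat.card N) hNlt N rfl (hNd.trans hdvd) (Or.inl (by omega))
        (P.subtype (key P)) (Q.subtype (key Q))
      exact Sylow.subtype_injective this
    · -- (b) `19` divides the order of the quotient
      have ihQ := ih (Nat.card (X ⧸ N)) hQlt (X ⧸ N) rfl (hQd.trans hdvd) (Or.inl (by omega))
      have hsurj : Function.Surjective (QuotientGroup.mk' N) := QuotientGroup.mk'_surjective N
      have hPQ : (P : Subgroup X) ⊔ N = (Q : Subgroup X) ⊔ N := by
        have := congrArg (fun S : Sylow 19 (X ⧸ N) =>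
          (S : Subgroup (X ⧸ N)).comap (QuotientGroup.mk' N))
          (ihQ (P.mapSurjective hsurj) (Q.mapSurjective hsurj))
        simpa [Sylow.coe_mapSurjective, Subgroup.comap_map_eq, QuotientGroup.ker_mk'] using this
      have hPM : (P : Subgroup X) ≤ (P : Subgroup X) ⊔ N := le_sup_left
      have hQM : (Q : Subgroup X) ≤ (P : Subgroup X) ⊔ N := hPQ ▸ le_sup_left
      by_cases hMt : (P : Subgroup X) ⊔ N = ⊤
      · -- the split case
        have hNd' : Nat.card N ∣ 9240 := by
          have h1 : Nat.card N ∣ 19 * 9240 := hNd.trans hdvd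
          exact (Nat.Coprime.dvd_of_dvd_mul_left
            ((Nat.Prime.coprime_iff_not_dvd (by norm_num)).mpr hN19).symm h1)
        have hPcard : Nat.card P = 19 := by
          have h1 : (Nat.card X).factorization 19 = 1 := by
            have hX0 : Nat.card X ≠ 0 := Nat.card_pos.ne'
            have hp : Nat.Prime 19 := by norm_num
            have hle : 1 ≤ (Nat.card X).factorization 19 :=
              (hp.pow_dvd_iff_le_factorization hX0).mp (by simpa using h19)
            have hlt2 : ¬ 2 ≤ (Nat.card X).factorization 19 := fun h2 =>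
              h361 (by simpa using (hp.pow_dvd_iff_le_factorization hX0).mpr h2)
            omega
          rw [P.card_eq_multiplicity, h1, pow_one]
        have hPn : (P : Subgroup X).Normal := normal_of_sup_eq_top N hNd' P hPcard hMt
        have := Sylow.unique_of_normal P hPn
        exact Subsingleton.elim P Q
      · have hMlt := card_lt_of_ne_top hMt
        have := ih (Nat.card ((P : Subgroup X) ⊔ N : Subgroup X)) hMlt
          ((P : Subgroup X) ⊔ N : Subgroup X) rfl
          ((Subgroup.card_subgroup_dvd_card _).trans hdvd) (Or.inl (by omega))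
          (P.subtype hPM) (Q.subtype hQM)
        exact Sylow.subtype_injective this

/-- PACKAGE RED: the reduction. -/
theorem reduce (hkill : ∀ (X : Type u) [Group X] [Finite X], Hyp X → False)
    {G : Type u} [Group G] [Finite G] (hG : Nat.card G = 175560) :
    IsSimpleGroup G ∨ ∀ P : Sylow 19 G, (P : Subgroup G).Normal := by
  by_cases hs : IsSimpleGroup G
  · exact Or.inl hs
  · right
    intro P
    have huniq := main hkill 175560 G hG dvd_rfl (Or.inr hs)
    have : Subsingleton (Sylow 19 G) := ⟨huniq⟩
    exact Sylow.normal_of_subsingleton P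

end Cfsg.Agent.Lib.Helper53_J1_RED
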