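import Mathlib
import Cfsg.Agent.Lib.Helper17_Sylow
import Cfsg.Agent.Lib.Helper49_J1Defs
import Cfsg.Agent.Lib.Helper43_J1_LOC
import Cfsg.Agent.Lib.Helper74_J1_UNQ
import Cfsg.Agent.Lib.Helper74_J1_MIX
import Cfsg.Agent.Lib.Helper82_J1_CRS
import Cfsg.Agent.Lib.Helper89_J1_CNT

/-!
# S4274 package KA (architect helper49): `|X| = 7980`, `n_19 = 210` is impossible
-/

set_option autoImplicit false

namespace Cfsg.Agent.Lib.Helper5_J1_KA

open Subgroup Cfsg.Agent.Lib.Helper49_J1Defs Cfsg.Agent.Lib.Helper43_J1_LOC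
  Cfsg.Agent.Lib.Helper74_J1_UNQ Cfsg.Agent.Lib.Helper74_J1_MIX Cfsg.Agent.Lib.Helper82_J1_CRS
  Cfsg.Agent.Lib.Helper89_J1_CNT

/-- the boolean check: all admissible pairs `(k, n)` lie in the list `L` -/
def triOK (X0 r : ℕ) (L : List (ℕ × ℕ)) : Bool :=
  (List.range r).all fun k => !(decide (k ∣ r - 1) && decide (k ≠ 1)) ||
    (List.range (X0 / r / r + 1)).all fun j =>
      !(decide (1 < r * j + 1) && decide (r * k * (r * j + 1) ∣ X0)) || L.contains (k, r * j + 1)

theorem tri_sound (X0 r : ℕ) (L : List (ℕ × ℕ)) (hX0 : 0 < X0) (hr : 2 ≤ r)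
    (hchk : triOK X0 r L = true) (k c n : ℕ) (hk : k ∣ r - 1) (hk1 : k ≠ 1) (hc : r ∣ c)
    (hmul : c * k * n = X0) (hmod : n % r = 1) (hgt : 1 < n) : (k, n) ∈ L := by
  obtain ⟨t, rfl⟩ := hc
  have hkr : k < r := by
    have : k ≤ r - 1 := Nat.le_of_dvd (by omega) hk
    omega
  have hdvd : r * k * n ∣ X0 := ⟨t, by rw [← hmul]; ring⟩
  have ht : 0 < t := by
    rcases Nat.eq_zero_or_pos t with h | h
    · subst h; simp at hmul; omega
    · exact h
  have hk0 : 0 < k := by
    rcases Nat.eq_zero_or_pos k with h | h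
    · subst h; simp at hmul; omega
    · exact h
  have hn : n ≤ X0 / r := by
    have h1 : n * r ≤ X0 := by
      rw [← hmul]
      calc n * r = r * 1 * 1 * n := by ring
        _ ≤ r * t * k * n := by gcongr <;> omega
    exact (Nat.le_div_iff_mul_le (by omega : 0 < r)).2 h1
  have hj : n / r < X0 / r / r + 1 := by
    have := Nat.div_le_div_right (c := r) hn
    omega
  have hnj : r * (n / r) + 1 = n := by
    have := Nat.div_add_mod n r
    rw [hmod] at this
    exact this
  unfold triOK at hchk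
  rw [List.all_eq_true] at hchk
  have h1 := hchk k (List.mem_range.2 hkr)
  simp only [Bool.or_eq_true, Bool.not_eq_true', Bool.and_eq_false_iff, decide_eq_false_iff_not]
    at h1
  rcases h1 with (h | h) | h1
  · exact absurd hk h
  · exact absurd hk1 h
  rw [List.all_eq_true] at h1
  have h2 := h1 (n / r) (List.mem_range.2 hj)
  rw [hnj] at h2
  simp only [Bool.or_eq_true, Bool.not_eq_true', Bool.and_eq_false_iff, decide_eq_false_iff_not,
    List.contains_iff_mem] at h2
  rcases h2 with (h | h) | h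
  · exact absurd hgt h
  · exact absurd hdvd h
  · exact h

theorem chk_7980_19 : triOK 7980 19 [(2, 210), (3, 20)] = true := by decide +kernel
theorem chk_7980_5 : triOK 7980 5 [(2, 6), (2, 21), (2, 266), (4, 21)] = true := by
  decide +kernel
theorem chk_7980_7 : triOK 7980 7 [(2, 15), (2, 57), (2, 190), (3, 190), (6, 190)] = true := by
  decide +kernel

variable {X : Type*} [Group X] [Finite X]

theorem killA (h : Hyp X) (hc : Nat.card X = 7980) (hn : Nat.card (Sylow 19 X) = 210) : False := by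
  haveI := h.simple
  have hna := h.nonab
  haveI : Fact (Nat.Prime 19) := ⟨by norm_num⟩
  haveI : Fact (Nat.Prime 5) := ⟨by norm_num⟩
  haveI : Fact (Nat.Prime 7) := ⟨by norm_num⟩
  -- the prime 19
  obtain ⟨k19, hk19, hk19', hc19, hm19, hmod19, hgt19⟩ :=
    loc (X := X) hna 19 420 (by rw [hc]) (by norm_num)
  rw [hc, hn] at hm19
  have hc19v : ccard X 19 = 19 := by
    have := tri_sound 7980 19 _ (by norm_num) (by norm_num) chk_7980_19 k19 (ccard X 19) 210
      hk19 hk19' hc19 hm19 (by norm_num) (by norm_num)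
    simp only [List.mem_cons, Prod.mk.injEq, List.not_mem_nil, or_false] at this
    rcases this with ⟨rfl, -⟩ | ⟨-, h2⟩
    · omega
    · omega
  -- the prime 5
  obtain ⟨k5, hk5, hk5', hc5, hm5, hmod5, hgt5⟩ :=
    loc (X := X) hna 5 1596 (by rw [hc]) (by norm_num)
  rw [hc] at hm5
  have h5 := tri_sound 7980 5 _ (by norm_num) (by norm_num) chk_7980_5 k5 (ccard X 5)
    (Nat.card (Sylow 5 X)) hk5 hk5' hc5 hm5 hmod5 hgt5
  simp only [List.mem_cons, Prod.mk.injEq, List.not_mem_nil, or_false] at h5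
  have huniq5 : ∀ N : ℕ, N * Nat.card (Sylow 5 X) = 7980 → 19 ∣ N → N * 210 ∣ 7980 := by
    intro N hN h19
    have := uniq_loc h 5 (by norm_num) (by rw [hc]; norm_num) N (by rw [hc]; exact hN) h19
    rwa [hn, hc] at this
  have hc5v : ccard X 5 = 15 ∧ Nat.card (Sylow 5 X) = 266 := by
    rcases h5 with ⟨rfl, h2⟩ | ⟨rfl, h2⟩ | ⟨rfl, h2⟩ | ⟨rfl, h2⟩
    · exfalso
      rw [h2] at hm5
      have hcv : ccard X 5 = 665 := by omega
      have := huniq5 1330 (by rw [h2]) (by norm_num)
      norm_num at this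
    · exfalso
      rw [h2] at hm5
      have := huniq5 380 (by rw [h2]) (by norm_num)
      norm_num at this
    · rw [h2] at hm5
      exact ⟨by omega, h2⟩
    · exfalso
      rw [h2] at hm5
      have := huniq5 380 (by rw [h2]) (by norm_num)
      norm_num at this
  obtain ⟨hc5v, hn5⟩ := hc5v
  -- the prime 7
  obtain ⟨k7, hk7, hk7', hc7, hm7, hmod7, hgt7⟩ :=
    loc (X := X) hna 7 1140 (by rw [hc]) (by norm_num)
  rw [hc] at hm7
  have h7 := tri_sound 7980 7 _ (by norm_num) (by norm_num) chk_7980_7 k7 (ccard X 7)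
    (Nat.card (Sylow 7 X)) hk7 hk7' hc7 hm7 hmod7 hgt7
  simp only [List.mem_cons, Prod.mk.injEq, List.not_mem_nil, or_false] at h7
  have huniq7 : ∀ N : ℕ, N * Nat.card (Sylow 7 X) = 7980 → 19 ∣ N → N * 210 ∣ 7980 := by
    intro N hN h19
    have := uniq_loc h 7 (by norm_num) (by rw [hc]; norm_num) N (by rw [hc]; exact hN) h19
    rwa [hn, hc] at this
  have hc7v : Nat.card (Sylow 7 X) = 190 ∧ 7 ≤ ccard X 7 ∧ ¬ 5 ∣ ccard X 7 := by
    rcases h7 with ⟨rfl, h2⟩ | ⟨rfl, h2⟩ | ⟨rfl, h2⟩ | ⟨rfl, h2⟩ | ⟨rfl, h2⟩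
    · exfalso
      rw [h2] at hm7
      have := huniq7 532 (by rw [h2]) (by norm_num)
      norm_num at this
    · exfalso
      rw [h2] at hm7
      have hcv : ccard X 7 = 70 := by omega
      have := cross (X := X) 7 5 1140 1596 (by rw [hc]) (by norm_num) (by rw [hc]) (by norm_num)
        (by rw [hcv]; norm_num)
      rw [hc5v] at this
      norm_num at this
    · rw [h2] at hm7
      have hcv : ccard X 7 = 21 := by omega
      exact ⟨h2, by omega, by rw [hcv]; norm_num⟩
    · rw [h2] at hm7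
      have hcv : ccard X 7 = 14 := by omega
      exact ⟨h2, by omega, by rw [hcv]; norm_num⟩
    · rw [h2] at hm7
      have hcv : ccard X 7 = 7 := by omega
      exact ⟨h2, by omega, by rw [hcv]; norm_num⟩
  obtain ⟨hn7, hc7ge, -⟩ := hc7v
  -- counting
  have e19 := count (X := X) 19 420 (by rw [hc]) (by norm_num)
  rw [hn, hc19v] at e19
  have e5 := count (X := X) 5 1596 (by rw [hc]) (by norm_num)
  rw [hn5, hc5v] at e5
  have e7 := count (X := X) 7 1140 (by rw [hc]) (by norm_num)
  rw [hn7] at e7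
  have h7div : 1 ≤ ccard X 7 / 7 := (Nat.one_le_div_iff (by norm_num)).2 hc7ge
  have e7' : 190 * (6 * 1) ≤ ecount X 7 :=
    le_trans (Nat.mul_le_mul_left _ (Nat.mul_le_mul_left _ h7div)) e7
  -- disjointness
  have m19_5 : ∀ g : X, 19 ∣ orderOf g → 5 ∣ orderOf g → False := fun g h1 h2 =>
    no_mix (X := X) 19 5 420 (by rw [hc]) (by norm_num) (by rw [hc19v]; norm_num) g h1 h2
  have m19_7 : ∀ g : X, 19 ∣ orderOf g → 7 ∣ orderOf g → False := fun g h1 h2 =>
    no_mix (X := X) 19 7 420 (by rw [hc]) (by norm_num) (by rw [hc19v]; norm_num) g h1 h2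
  have m5_7 : ∀ g : X, 5 ∣ orderOf g → 7 ∣ orderOf g → False := fun g h1 h2 =>
    no_mix (X := X) 5 7 1596 (by rw [hc]) (by norm_num) (by rw [hc5v]; norm_num) g h1 h2
  have hsum := sum_ecount_le (X := X) ({5, 7, 19} : Finset ℕ) (by
    intro g r hr s hs h1 h2
    simp only [Finset.mem_insert, Finset.mem_singleton] at hr hs
    rcases hr with rfl | rfl | rfl <;> rcases hs with rfl | rfl | rfl <;>
      first
        | rfl
        | exact (m19_5 g h1 h2).elim
        | exact (m19_5 g h2 h1).elim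
        | exact (m19_7 g h1 h2).elim
        | exact (m19_7 g h2 h1).elim
        | exact (m5_7 g h1 h2).elim
        | exact (m5_7 g h2 h1).elim)
  rw [Finset.sum_insert (by decide), Finset.sum_insert (by decide), Finset.sum_singleton, hc]
    at hsum
  norm_num at e19 e5 e7'
  omega

end Cfsg.Agent.Lib.Helper5_J1_KA
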