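import Mathlib
import Cfsg.Agent.Lib.Helper17_Sylow
import Cfsg.Agent.Lib.Helper49_J1Defs
import Cfsg.Agent.Lib.Helper43_J1_LOC
import Cfsg.Agent.Lib.Helper74_J1_UNQ
import Cfsg.Agent.Lib.Helper74_J1_MIX
import Cfsg.Agent.Lib.Helper82_J1_CRS
import Cfsg.Agent.Lib.Helper89_J1_CNT
import Cfsg.Agent.Lib.Helper5_J1_KA

/-!
# S4274 package KD (architect helper49): `|X| = 58520`, `n_19 = 1540` is impossible
-/

set_option autoImplicit false

namespace Cfsg.Agent.Lib.Helper5_J1_KD

open Subgroup Cfsg.Agent.Lib.Helper49_J1Defs Cfsg.Agent.Lib.Helper43_J1_LOC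
  Cfsg.Agent.Lib.Helper74_J1_UNQ Cfsg.Agent.Lib.Helper74_J1_MIX Cfsg.Agent.Lib.Helper82_J1_CRS
  Cfsg.Agent.Lib.Helper89_J1_CNT
  Cfsg.Agent.Lib.Helper5_J1_KA

theorem chk_58520_19 : triOK 58520 19 [(2, 20), (2, 77), (2, 1540)] = true := by decide +kernel
theorem chk_58520_11 : triOK 58520 11 [(2, 133), (5, 56), (5, 133), (10, 133)] = true := by
  decide +kernel
theorem chk_58520_7 : triOK 58520 7 [(2, 22), (2, 190), (2, 4180)] = true := by decide +kernel
theorem chk_58520_5 : triOK 58520 5
    [(2, 11), (2, 76), (2, 266), (2, 836), (2, 2926), (4, 11), (4, 266), (4, 2926)] = true := by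
  decide +kernel

variable {X : Type*} [Group X] [Finite X]

theorem killD (h : Hyp X) (hc : Nat.card X = 58520) (hn : Nat.card (Sylow 19 X) = 1540) :
    False := by
  haveI := h.simple
  have hna := h.nonab
  haveI : Fact (Nat.Prime 19) := ⟨by norm_num⟩
  haveI : Fact (Nat.Prime 5) := ⟨by norm_num⟩
  haveI : Fact (Nat.Prime 7) := ⟨by norm_num⟩
  haveI : Fact (Nat.Prime 11) := ⟨by norm_num⟩
  have huniq : ∀ (r : ℕ) [Fact r.Prime], r ≠ 19 → r ∣ 58520 → ∀ N : ℕ,
      N * Nat.card (Sylow r X) = 58520 → 19 ∣ N → N * 1540 ∣ 58520 := by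
    intro r _ hr hrX N hN h19
    have := uniq_loc h r hr (by rw [hc]; exact hrX) N (by rw [hc]; exact hN) h19
    rwa [hn, hc] at this
  -- the prime 19
  obtain ⟨k19, hk19, hk19', hc19, hm19, hmod19, hgt19⟩ :=
    loc (X := X) hna 19 3080 (by rw [hc]) (by norm_num)
  rw [hc, hn] at hm19
  have hc19v : ccard X 19 = 19 := by
    have := tri_sound 58520 19 _ (by norm_num) (by norm_num) chk_58520_19 k19 (ccard X 19) 1540
      hk19 hk19' hc19 hm19 (by norm_num) (by norm_num)
    simp only [List.mem_cons, Prod.mk.injEq, List.not_mem_nil, or_false] at this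
    rcases this with ⟨-, h2⟩ | ⟨-, h2⟩ | ⟨rfl, -⟩
    · omega
    · omega
    · omega
  -- the prime 11
  obtain ⟨k11, hk11, hk11', hc11, hm11, hmod11, hgt11⟩ :=
    loc (X := X) hna 11 5320 (by rw [hc]) (by norm_num)
  rw [hc] at hm11
  have h11 := tri_sound 58520 11 _ (by norm_num) (by norm_num) chk_58520_11 k11 (ccard X 11)
    (Nat.card (Sylow 11 X)) hk11 hk11' hc11 hm11 hmod11 hgt11
  simp only [List.mem_cons, Prod.mk.injEq, List.not_mem_nil, or_false] at h11
  have hc11v : Nat.card (Sylow 11 X) = 133 ∧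
      (ccard X 11 = 220 ∨ ccard X 11 = 88 ∨ ccard X 11 = 44) := by
    rcases h11 with ⟨rfl, h2⟩ | ⟨rfl, h2⟩ | ⟨rfl, h2⟩ | ⟨rfl, h2⟩
    · rw [h2] at hm11
      exact ⟨h2, Or.inl (by omega)⟩
    · exfalso
      rw [h2] at hm11
      have := huniq 11 (by norm_num) (by norm_num) 1045 (by rw [h2]) (by norm_num)
      norm_num at this
    · rw [h2] at hm11
      exact ⟨h2, Or.inr (Or.inl (by omega))⟩
    · rw [h2] at hm11
      exact ⟨h2, Or.inr (Or.inr (by omega))⟩
  obtain ⟨hn11, hc11v⟩ := hc11v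
  have h7c11 : ¬ 7 ∣ ccard X 11 := by
    rcases hc11v with h | h | h <;> rw [h] <;> norm_num
  -- the prime 7
  obtain ⟨k7, hk7, hk7', hc7, hm7, hmod7, hgt7⟩ :=
    loc (X := X) hna 7 8360 (by rw [hc]) (by norm_num)
  rw [hc] at hm7
  have h7 := tri_sound 58520 7 _ (by norm_num) (by norm_num) chk_58520_7 k7 (ccard X 7)
    (Nat.card (Sylow 7 X)) hk7 hk7' hc7 hm7 hmod7 hgt7
  simp only [List.mem_cons, Prod.mk.injEq, List.not_mem_nil, or_false] at h7
  have hc7v : Nat.card (Sylow 7 X) = 4180 ∧ ccard X 7 = 7 := by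
    rcases h7 with ⟨rfl, h2⟩ | ⟨rfl, h2⟩ | ⟨rfl, h2⟩
    · exfalso
      rw [h2] at hm7
      have := huniq 7 (by norm_num) (by norm_num) 2660 (by rw [h2]) (by norm_num)
      norm_num at this
    · exfalso
      rw [h2] at hm7
      have hcv : ccard X 7 = 154 := by omega
      exact h7c11 (cross (X := X) 7 11 8360 5320 (by rw [hc]) (by norm_num) (by rw [hc])
        (by norm_num) (by rw [hcv]; norm_num))
    · rw [h2] at hm7
      exact ⟨h2, by omega⟩
  obtain ⟨hn7, hc7v⟩ := hc7v
  -- counting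
  have e19 := count (X := X) 19 3080 (by rw [hc]) (by norm_num)
  rw [hn, hc19v] at e19
  have e7 := count (X := X) 7 8360 (by rw [hc]) (by norm_num)
  rw [hn7, hc7v] at e7
  have e11 := count (X := X) 11 5320 (by rw [hc]) (by norm_num)
  rw [hn11] at e11
  -- disjointness
  have m19_5 : ∀ g : X, 19 ∣ orderOf g → 5 ∣ orderOf g → False := fun g h1 h2 =>
    no_mix (X := X) 19 5 3080 (by rw [hc]) (by norm_num) (by rw [hc19v]; norm_num) g h1 h2
  have m19_7 : ∀ g : X, 19 ∣ orderOf g → 7 ∣ orderOf g → False := fun g h1 h2 =>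
    no_mix (X := X) 19 7 3080 (by rw [hc]) (by norm_num) (by rw [hc19v]; norm_num) g h1 h2
  have m19_11 : ∀ g : X, 19 ∣ orderOf g → 11 ∣ orderOf g → False := fun g h1 h2 =>
    no_mix (X := X) 19 11 3080 (by rw [hc]) (by norm_num) (by rw [hc19v]; norm_num) g h1 h2
  have m7_5 : ∀ g : X, 7 ∣ orderOf g → 5 ∣ orderOf g → False := fun g h1 h2 =>
    no_mix (X := X) 7 5 8360 (by rw [hc]) (by norm_num) (by rw [hc7v]; norm_num) g h1 h2
  have m7_11 : ∀ g : X, 7 ∣ orderOf g → 11 ∣ orderOf g → False := fun g h1 h2 =>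
    no_mix (X := X) 7 11 8360 (by rw [hc]) (by norm_num) (by rw [hc7v]; norm_num) g h1 h2
  rcases hc11v with hc11v | hc11v
  · -- `c_11 = 220`
    rw [hc11v] at e11
    have hsum := sum_ecount_le (X := X) ({7, 11, 19} : Finset ℕ) (by
      intro g r hr s hs h1 h2
      simp only [Finset.mem_insert, Finset.mem_singleton] at hr hs
      rcases hr with rfl | rfl | rfl <;> rcases hs with rfl | rfl | rfl <;>
        first
          | rfl
          | exact (m19_7 g h1 h2).elim
          | exact (m19_7 g h2 h1).elim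
          | exact (m19_11 g h1 h2).elim
          | exact (m19_11 g h2 h1).elim
          | exact (m7_11 g h1 h2).elim
          | exact (m7_11 g h2 h1).elim)
    rw [Finset.sum_insert (by decide), Finset.sum_insert (by decide), Finset.sum_singleton, hc]
      at hsum
    norm_num at e19 e7 e11
    omega
  · -- `c_11 ∈ {88, 44}`
    have h5c11 : ¬ 5 ∣ ccard X 11 := by
      rcases hc11v with h | h <;> rw [h] <;> norm_num
    have h11div : 4 ≤ ccard X 11 / 11 := by
      rcases hc11v with h | h <;> rw [h] <;> norm_num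
    have e11' : 133 * (10 * 4) ≤ ecount X 11 :=
      le_trans (Nat.mul_le_mul_left _ (Nat.mul_le_mul_left _ h11div)) e11
    -- the prime 5
    obtain ⟨k5, hk5, hk5', hc5, hm5, hmod5, hgt5⟩ :=
      loc (X := X) hna 5 11704 (by rw [hc]) (by norm_num)
    rw [hc] at hm5
    have h5 := tri_sound 58520 5 _ (by norm_num) (by norm_num) chk_58520_5 k5 (ccard X 5)
      (Nat.card (Sylow 5 X)) hk5 hk5' hc5 hm5 hmod5 hgt5
    simp only [List.mem_cons, Prod.mk.injEq, List.not_mem_nil, or_false] at h5
    have hcross7 : 7 ∣ ccard X 5 → False := by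
      intro hd
      have := cross (X := X) 5 7 11704 8360 (by rw [hc]) (by norm_num) (by rw [hc])
        (by norm_num) hd
      rw [hc7v] at this
      norm_num at this
    have hcross11 : 11 ∣ ccard X 5 → False := by
      intro hd
      exact h5c11 (cross (X := X) 5 11 11704 5320 (by rw [hc]) (by norm_num) (by rw [hc])
        (by norm_num) hd)
    have hc5v : Nat.card (Sylow 5 X) = 2926 ∧ 5 ≤ ccard X 5 := by
      rcases h5 with ⟨rfl, h2⟩ | ⟨rfl, h2⟩ | ⟨rfl, h2⟩ | ⟨rfl, h2⟩ | ⟨rfl, h2⟩ | ⟨rfl, h2⟩ |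
        ⟨rfl, h2⟩ | ⟨rfl, h2⟩
      · exfalso
        rw [h2] at hm5
        have := huniq 5 (by norm_num) (by norm_num) 5320 (by rw [h2]) (by norm_num)
        norm_num at this
      · exfalso
        rw [h2] at hm5
        have hcv : ccard X 5 = 385 := by omega
        exact hcross7 (by rw [hcv]; norm_num)
      · exfalso
        rw [h2] at hm5
        have hcv : ccard X 5 = 110 := by omega
        exact hcross11 (by rw [hcv]; norm_num)
      · exfalso
        rw [h2] at hm5
        have hcv : ccard X 5 = 35 := by omega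
        exact hcross7 (by rw [hcv]; norm_num)
      · rw [h2] at hm5
        exact ⟨h2, by omega⟩
      · exfalso
        rw [h2] at hm5
        have := huniq 5 (by norm_num) (by norm_num) 5320 (by rw [h2]) (by norm_num)
        norm_num at this
      · exfalso
        rw [h2] at hm5
        have hcv : ccard X 5 = 55 := by omega
        exact hcross11 (by rw [hcv]; norm_num)
      · rw [h2] at hm5
        exact ⟨h2, by omega⟩
    obtain ⟨hn5, hc5ge⟩ := hc5v
    have e5 := count (X := X) 5 11704 (by rw [hc]) (by norm_num)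
    rw [hn5] at e5
    have h5div : 1 ≤ ccard X 5 / 5 := (Nat.one_le_div_iff (by norm_num)).2 hc5ge
    have e5' : 2926 * (4 * 1) ≤ ecount X 5 :=
      le_trans (Nat.mul_le_mul_left _ (Nat.mul_le_mul_left _ h5div)) e5
    have m11_5 : ∀ g : X, 11 ∣ orderOf g → 5 ∣ orderOf g → False := fun g h1 h2 =>
      no_mix (X := X) 11 5 5320 (by rw [hc]) (by norm_num) h5c11 g h1 h2
    have hsum := sum_ecount_le (X := X) ({5, 7, 11, 19} : Finset ℕ) (by
      intro g r hr s hs h1 h2
      simp only [Finset.mem_insert, Finset.mem_singleton] at hr hs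
      rcases hr with rfl | rfl | rfl | rfl <;> rcases hs with rfl | rfl | rfl | rfl <;>
        first
          | rfl
          | exact (m19_5 g h1 h2).elim
          | exact (m19_5 g h2 h1).elim
          | exact (m19_7 g h1 h2).elim
          | exact (m19_7 g h2 h1).elim
          | exact (m19_11 g h1 h2).elim
          | exact (m19_11 g h2 h1).elim
          | exact (m7_5 g h1 h2).elim
          | exact (m7_5 g h2 h1).elim
          | exact (m7_11 g h1 h2).elim
          | exact (m7_11 g h2 h1).elim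
          | exact (m11_5 g h1 h2).elim
          | exact (m11_5 g h2 h1).elim)
    rw [Finset.sum_insert (by decide), Finset.sum_insert (by decide),
      Finset.sum_insert (by decide), Finset.sum_singleton, hc] at hsum
    norm_num at e19 e7 e11' e5'
    omega

end Cfsg.Agent.Lib.Helper5_J1_KD
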