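import Mathlib
import Cfsg.Agent.Lib.Helper17_Sylow
import Cfsg.Agent.Lib.Helper49_J1Defs
import Cfsg.Agent.Lib.Helper43_J1_LOC
import Cfsg.Agent.Lib.Helper74_J1_UNQ
import Cfsg.Agent.Lib.Helper82_J1_CCE
import Cfsg.Agent.S0111

/-!
# S4274 package KB (architect helper49): no group `X` with `Hyp X` has order `15960` and `210`
Sylow `19`-subgroups (an involution centralizing a Sylow `19`-subgroup + Thompson transfer).
Uses the landed API packages LOC (helper43), UNQ (helper74), CCE (helper82) directly.
-/

set_option autoImplicit false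

open Subgroup Cfsg.Agent.Lib.Helper49_J1Defs Cfsg.Agent.Lib.Helper17_Sylow

namespace Cfsg.Agent.Lib.Helper89_J1_KB

variable {X : Type*} [Group X] [Finite X]

omit [Finite X] in
/-- The unique involution of a cyclic group of order `4`. -/
theorem eq_sq_of_mem_zpowers (a x : X) (ha : orderOf a = 4) (hx : x ∈ zpowers a)
    (hx2 : orderOf x = 2) : x = a ^ 2 := by
  classical
  have hfin : IsOfFinOrder a := by
    rw [← orderOf_pos_iff, ha]; norm_num
  rw [← hfin.mem_powers_iff_mem_zpowers, hfin.mem_powers_iff_mem_range_orderOf, ha] at hx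
  rw [Finset.mem_image] at hx
  obtain ⟨i, hi, rfl⟩ := hx
  rw [Finset.mem_range] at hi
  interval_cases i
  · rw [pow_zero, orderOf_one] at hx2; omega
  · rw [pow_one, ha] at hx2; omega
  · rfl
  · exfalso
    have h3 : orderOf (a ^ 3) = 4 := by
      have hcop : Nat.Coprime (orderOf a) 3 := by rw [ha]; decide
      rw [hcop.orderOf_pow, ha]
    omega

omit [Finite X] in
/-- In a group all of whose elements square to `1`, everything commutes. -/
theorem commute_of_sq (S : Subgroup X) (hS : ∀ s ∈ S, s * s = 1) (s t : X) (hs : s ∈ S)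
    (ht : t ∈ S) : s * t = t * s := by
  have h1 := hS _ (S.mul_mem hs ht)
  have h2 := hS s hs
  have h3 := hS t ht
  have hsi : s⁻¹ = s := inv_eq_of_mul_eq_one_right h2
  have hti : t⁻¹ = t := inv_eq_of_mul_eq_one_right h3
  have h4 : s * t = (s * t)⁻¹ := (inv_eq_of_mul_eq_one_right h1).symm
  rw [h4, mul_inv_rev, hsi, hti]

/-- **KB**. -/
theorem killB (h : Hyp X) (hc : Nat.card X = 15960) (hn : Nat.card (Sylow 19 X) = 210) :
    False := by
  have := h.simple
  have : Fact (Nat.Prime 19) := ⟨by norm_num⟩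
  have : Fact (Nat.Prime 2) := ⟨Nat.prime_two⟩
  -- 1. local structure at 19
  have hc19 : Nat.card X = 19 * 840 := by rw [hc]
  obtain ⟨k, hk18, hk1, h19c, hprod, -, -⟩ :=
    Helper43_J1_LOC.loc h.nonab 19 840 hc19 (by norm_num)
  rw [hn, hc] at hprod
  have hc38 : ccard X 19 = 38 := by
    obtain ⟨c', hc'⟩ := h19c
    rw [hc'] at hprod ⊢
    have h1 : c' * k = 4 := by nlinarith
    have hk4 : k ∣ 4 := Dvd.intro_left _ h1
    have hk2 : k ∣ 2 := by
      have : k ∣ Nat.gcd 4 (19 - 1) := Nat.dvd_gcd hk4 hk18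
      simpa using this
    have hkle : k ≤ 2 := Nat.le_of_dvd (by norm_num) hk2
    have hkpos : 0 < k := Nat.pos_of_dvd_of_pos hk2 (by norm_num)
    have hk : k = 2 := by omega
    subst hk
    omega
  -- 2. an involution centralizing a Sylow 19-subgroup
  obtain ⟨P⟩ : Nonempty (Sylow 19 X) := inferInstance
  have hCP : Nat.card (centralizer ((P : Subgroup X) : Set X)) = 38 := by
    rw [Helper82_J1_CCE.ccard_eq 19 P, hc38]
  obtain ⟨z', hz'⟩ := exists_prime_orderOf_dvd_card' (G := ↥(centralizer ((P : Subgroup X) : Set X)))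
    2 (by rw [hCP]; norm_num)
  set z : X := z'.1 with hz
  have hz2 : orderOf z = 2 := by rw [hz, Subgroup.orderOf_coe]; exact hz'
  have hzC : z ∈ centralizer ((P : Subgroup X) : Set X) := z'.2
  have hz1 : z ≠ 1 := by
    intro h1
    rw [h1, orderOf_one] at hz2
    omega
  -- 3. `Y = C(z)`
  set Y : Subgroup X := centralizer ({z} : Set X) with hY
  have hYtop : Y ≠ ⊤ := by
    intro htop
    have hzc : z ∈ center X := by
      rw [Subgroup.mem_center_iff]
      intro g
      have hg : g ∈ Y := by rw [htop]; exact mem_top g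
      have := (Subgroup.mem_centralizer_iff.mp hg) z (Set.mem_singleton z)
      exact this.symm
    rcases (inferInstance : (center X).Normal).eq_bot_or_eq_top with hb | ht
    · rw [hb, Subgroup.mem_bot] at hzc
      exact hz1 hzc
    · apply h.nonab
      constructor
      constructor
      intro a b
      have ha : a ∈ center X := by rw [ht]; exact mem_top a
      exact ((Subgroup.mem_center_iff.mp ha) b).symm
  have hPY : (P : Subgroup X) ≤ Y := by
    intro x hx
    rw [hY, Subgroup.mem_centralizer_iff]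
    intro y hy
    rw [Set.mem_singleton_iff] at hy
    subst hy
    exact ((Subgroup.mem_centralizer_iff.mp hzC) x hx).symm
  have hPcard : Nat.card (P : Subgroup X) = 19 := by
    have hc1 : Nat.card X = 19 ^ 1 * 840 := by rw [hc]; norm_num
    have := card_sylow_eq_pow hc1 (by norm_num) P
    simpa using this
  have h19Y : 19 ∣ Nat.card Y := by
    have := Subgroup.card_dvd_of_le hPY
    rwa [hPcard] at this
  have hYdvd := Helper74_J1_UNQ.uniq_dvd h Y hYtop h19Y
  rw [hn, hc] at hYdvd
  have hY76 : Nat.card Y ∣ 76 := by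
    have : Nat.card Y * 210 ∣ 76 * 210 := by norm_num; exact hYdvd
    exact Nat.dvd_of_mul_dvd_mul_right (by norm_num) this
  have h8Y : ¬ 8 ∣ Nat.card Y := by
    intro h8
    have := Nat.dvd_trans h8 hY76
    omega
  -- conjugates of `z` have centralizers of the same order
  have h8conj : ∀ g : X, ¬ 8 ∣ Nat.card (centralizer ({g * z * g⁻¹} : Set X)) := by
    intro g
    have := card_centralizer_conj z g⁻¹
    rw [inv_inv] at this
    rw [this]
    exact h8Y
  -- 4. a Sylow 2-subgroup containing `z`
  have hpg : IsPGroup 2 (zpowers z) := by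
    apply IsPGroup.of_card (n := 1)
    rw [Nat.card_zpowers, hz2, pow_one]
  obtain ⟨S, hzS'⟩ := hpg.exists_le_sylow
  have hzS : z ∈ (S : Subgroup X) := hzS' (mem_zpowers z)
  have hScard : Nat.card (S : Subgroup X) = 8 := by
    have hc1 : Nat.card X = 2 ^ 3 * 1995 := by rw [hc]; norm_num
    have := card_sylow_eq_pow hc1 (by norm_num) S
    simpa using this
  -- a subgroup of order 8 contained in a centralizer of a conjugate of `z` is impossible
  have hnoS : ∀ g : X, ¬ (S : Subgroup X) ≤ centralizer ({g * z * g⁻¹} : Set X) := by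
    intro g hle
    apply h8conj g
    have := Subgroup.card_dvd_of_le hle
    rwa [hScard] at this
  have hnoS1 : ¬ (S : Subgroup X) ≤ Y := by
    have := hnoS 1
    simpa using this
  -- 5. an element of order 4
  have hord : ∀ s ∈ (S : Subgroup X), orderOf s ∣ 8 := by
    intro s hs
    have := orderOf_dvd_natCard (⟨s, hs⟩ : (S : Subgroup X))
    rwa [Subgroup.orderOf_mk, hScard] at this
  have hex4 : ∃ a ∈ (S : Subgroup X), orderOf a = 4 := by
    by_contra hno
    push Not at hno
    apply hnoS1
    have hsq : ∀ s ∈ (S : Subgroup X), s * s = 1 := by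
      intro s hs
      have h1 := hord s hs
      have h2 : orderOf s ∈ Nat.divisors 8 := Nat.mem_divisors.mpr ⟨h1, by norm_num⟩
      have h3 : Nat.divisors 8 = {1, 2, 4, 8} := by decide
      rw [h3] at h2
      simp only [Finset.mem_insert, Finset.mem_singleton] at h2
      rcases h2 with h2 | h2 | h2 | h2
      · rw [orderOf_eq_one_iff] at h2; rw [h2, mul_one]
      · rw [← sq, ← h2]; exact pow_orderOf_eq_one s
      · exact absurd h2 (hno s hs)
      · exfalso
        apply hno (s ^ 2) ((S : Subgroup X).pow_mem hs 2)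
        rw [orderOf_pow' s (by norm_num), h2]; norm_num
    intro s hs
    rw [hY, Subgroup.mem_centralizer_iff]
    intro y hy
    rw [Set.mem_singleton_iff] at hy
    subst hy
    exact commute_of_sq (S : Subgroup X) hsq _ _ hzS hs
  obtain ⟨a, haS, ha4⟩ := hex4
  -- 6. `Q = ⟨a⟩`
  set Q : Subgroup X := zpowers a with hQ
  have hQS : Q ≤ (S : Subgroup X) := by rw [hQ, zpowers_le]; exact haS
  have hQcard : Nat.card Q = 4 := by rw [hQ, Nat.card_zpowers, ha4]
  have hQi : Q.relIndex (S : Subgroup X) = 2 := by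
    have := card_mul_relIndex_of_le hQS
    rw [hQcard, hScard] at this
    omega
  have hQn : (Q.subgroupOf (S : Subgroup X)).Normal := Subgroup.normal_of_index_eq_two hQi
  -- `a ^ 2` is central in `S`
  have ha2 : orderOf (a ^ 2) = 2 := by
    rw [orderOf_pow' a (by norm_num), ha4]; norm_num
  have hcent : ∀ s ∈ (S : Subgroup X), s * a ^ 2 * s⁻¹ = a ^ 2 := by
    intro s hs
    have hmem : s * a ^ 2 * s⁻¹ ∈ Q := by
      have ha2Q : a ^ 2 ∈ Q := Q.pow_mem (mem_zpowers a) 2
      have := hQn.conj_mem ⟨a ^ 2, hQS ha2Q⟩ (Subgroup.mem_subgroupOf.mpr ha2Q) ⟨s, hs⟩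
      exact Subgroup.mem_subgroupOf.mp this
    apply eq_sq_of_mem_zpowers a _ ha4 hmem
    rw [orderOf_conj' (a ^ 2) s, ha2]
  have hSle : (S : Subgroup X) ≤ centralizer ({a ^ 2} : Set X) := by
    intro s hs
    rw [Subgroup.mem_centralizer_iff]
    intro y hy
    rw [Set.mem_singleton_iff] at hy
    subst hy
    have := hcent s hs
    calc a ^ 2 * s = (s * a ^ 2 * s⁻¹) * s := by rw [this]
      _ = s * a ^ 2 := by group
  -- no conjugate of `z` lies in `Q`
  have hnoconj : ∀ g : X, g * z * g⁻¹ ∉ Q := by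
    intro g hg
    have ho : orderOf (g * z * g⁻¹) = 2 := by rw [orderOf_conj' z g, hz2]
    have heq := eq_sq_of_mem_zpowers a _ ha4 hg ho
    apply hnoS g
    rw [heq]
    exact hSle
  have hzQ : z ∉ Q := by
    have := hnoconj 1
    simpa using this
  -- 7. Thompson transfer
  rcases Cfsg.Agent.S0111.result S Q hQS hQi z hz2 hzS hzQ with ⟨M, hMn, hMi, -⟩ | ⟨g, hg⟩
  · rcases hMn.eq_bot_or_eq_top with hb | ht
    · rw [hb, Subgroup.index_bot, hc] at hMi
      omega
    · rw [ht, Subgroup.index_top] at hMi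
      omega
  · exact hnoconj g hg

end Cfsg.Agent.Lib.Helper89_J1_KB
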