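import Mathlib
import Cfsg.Agent.Lib.Helper49_J1Defs
import Cfsg.Agent.Lib.Helper31_J1_N19
import Cfsg.Agent.Lib.Helper31_J1_ORD
import Cfsg.Agent.Lib.Helper5_J1_KA
import Cfsg.Agent.Lib.Helper89_J1_KB
import Cfsg.Agent.Lib.Helper28_J1_KC1
import Cfsg.Agent.Lib.Helper28_J1_KC2
import Cfsg.Agent.Lib.Helper5_J1_KD
import Cfsg.Agent.Lib.Helper53_J1_RED

/-!
# S4274: the second-layer packages of the market, re-exported (helper49).
N19, ORD (helper31, helper31), KA, KD (helper5, helper5), KB (helper89), KC1, KC2 (helper28, helper28), RED (helper53).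
-/

set_option autoImplicit false

namespace Cfsg.Agent.Lib.Helper49_J1Pk

open Subgroup Cfsg.Agent.Lib.Helper49_J1Defs

universe u

variable {X : Type*} [Group X] [Finite X]

theorem n19 (h : Hyp X) :
    Nat.card (Sylow 19 X) = 210 ∨ Nat.card (Sylow 19 X) = 1540 :=
  Cfsg.Agent.Lib.Helper31_J1_N19.n19 h

theorem ord (h : Hyp X) :
    (Nat.card (Sylow 19 X) = 210 →
      Nat.card X = 7980 ∨ Nat.card X = 15960 ∨ Nat.card X = 87780) ∧
    (Nat.card (Sylow 19 X) = 1540 → Nat.card X = 58520 ∨ Nat.card X = 87780) :=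
  Cfsg.Agent.Lib.Helper31_J1_ORD.ord h

theorem killA (h : Hyp X) (hc : Nat.card X = 7980) (hn : Nat.card (Sylow 19 X) = 210) : False :=
  Cfsg.Agent.Lib.Helper5_J1_KA.killA h hc hn

theorem killB (h : Hyp X) (hc : Nat.card X = 15960) (hn : Nat.card (Sylow 19 X) = 210) :
    False :=
  Cfsg.Agent.Lib.Helper89_J1_KB.killB h hc hn

theorem killC1 (h : Hyp X) (hc : Nat.card X = 87780) (hn : Nat.card (Sylow 19 X) = 210) :
    False :=
  Cfsg.Agent.Lib.Helper28_J1_KC1.killC1 h hc hn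

theorem killC2 (h : Hyp X) (hc : Nat.card X = 87780) (hn : Nat.card (Sylow 19 X) = 1540) :
    False :=
  Cfsg.Agent.Lib.Helper28_J1_KC2.killC2 h hc hn

theorem killD (h : Hyp X) (hc : Nat.card X = 58520) (hn : Nat.card (Sylow 19 X) = 1540) :
    False :=
  Cfsg.Agent.Lib.Helper5_J1_KD.killD h hc hn

theorem reduce (hkill : ∀ (X : Type u) [Group X] [Finite X], Hyp X → False)
    {G : Type u} [Group G] [Finite G] (hG : Nat.card G = 175560) :
    IsSimpleGroup G ∨ ∀ P : Sylow 19 G, (P : Subgroup G).Normal :=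
  Cfsg.Agent.Lib.Helper53_J1_RED.reduce hkill hG

end Cfsg.Agent.Lib.Helper49_J1Pk
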