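import Mathlib
import Cfsg.Agent.Lib.Helper49_J1Defs
import Cfsg.Agent.Lib.Helper49_J1Pk

/-!
# S4274: assembly (helper49)
-/

set_option autoImplicit false

namespace Cfsg.Agent.Lib.Helper49_J1Main

open Subgroup Cfsg.Agent.Lib.Helper49_J1Defs Cfsg.Agent.Lib.Helper49_J1Pk

universe u

theorem no_hyp (X : Type u) [Group X] [Finite X] (h : Hyp X) : False := by
  rcases n19 h with hn | hn
  · rcases (ord h).1 hn with hc | hc | hc
    · exact killA h hc hn
    · exact killB h hc hn
    · exact killC1 h hc hn
  · rcases (ord h).2 hn with hc | hc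
    · exact killD h hc hn
    · exact killC2 h hc hn

theorem main {G : Type u} [Group G] [Finite G] (hG : Nat.card G = 175560) :
    IsSimpleGroup G ∨ ∀ P : Sylow 19 G, (P : Subgroup G).Normal :=
  reduce no_hyp hG

end Cfsg.Agent.Lib.Helper49_J1Main
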