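import Cfsg.Agent.Lib.Helper49_Kn_BASIC
import Cfsg.Agent.Lib.Helper71_Kn_STEP6A
import Cfsg.Agent.Lib.Helper41_Kn_ALTPOINT
import Cfsg.Agent.Lib.Helper51_Offender

/-!
S3687 market, package STEP6B (helper49, parallel seat): the subgroup `R = C_M(K) (T ⊓ T^n)` of index `d - 1`.
-/

set_option autoImplicit false

namespace Cfsg.Agent.Lib.Helper49_Kn_STEP6B

open Cfsg Cfsg.Agent.Lib.Helper47_TW Cfsg.Agent.Lib.Helper49_KnDefs
open Cfsg.Agent.Lib.Helper49_Kn_BASIC
open scoped Pointwise

universe u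

variable {G : Type u} [Group G] [Finite G]

omit [Finite G] in
theorem exists_mul_of_mem_sup {C S : Subgroup G} (hS : S ≤ Subgroup.normalizer (C : Set G)) {x : G}
    (hx : x ∈ C ⊔ S) : ∃ c ∈ C, ∃ s ∈ S, x = c * s := by
  have h1 : x ∈ ((C ⊔ S : Subgroup G) : Set G) := hx
  rw [Subgroup.coe_mul_of_right_le_normalizer_left C S hS] at h1
  obtain ⟨c, hc, s, hs, rfl⟩ := Set.mem_mul.mp h1
  exact ⟨c, hc, s, hs, rfl⟩

/-- PACKAGE STEP6B. -/
theorem step6b {d : ℕ} {M N : Subgroup G} {g : G} (h : Sym d M N g)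
    (hX : c1 M N ⊓ c1 N M = ⊥) :
    ∃ R : Subgroup G, AS (d - 1) M R ∧ relCore M R ⊓ c1 M N = ⊥ ∧
      Nat.card (relCore M R) = d * Nat.card (c1 M N) := by
  obtain ⟨hLC, hCK, hCT, hMCT⟩ := Cfsg.Agent.Lib.Helper71_Kn_STEP6A.step6a h hX
  have hd6 := h.hd
  set T := M ⊓ N with hT
  set K := c1 M N with hK
  set L := c1 N M with hL
  set C := Subgroup.centralizer (K : Set G) ⊓ M with hC
  have hCM : C ≤ M := inf_le_right
  have hTM : T ≤ M := inf_le_left
  have hTN : T ≤ N := inf_le_right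
  -- M normalizes C
  have hMC : M ≤ Subgroup.normalizer (C : Set G) :=
    Cfsg.Agent.Lib.Helper71_Kn_STEP6Aaux.le_normalizer_cent_inf (le_normalizer_relCore M (M ⊓ N))
  -- an element of N outside T
  have hasN : AS d N T := h.asN
  obtain ⟨n, hnN, hnT⟩ : ∃ n ∈ N, n ∉ T := by
    by_contra hcon
    push Not at hcon
    have hNT : N = T := le_antisymm hcon hTN
    have h2 := hasN.2.1
    rw [← hNT] at h2
    have hpos : 0 < Nat.card N := Nat.card_pos
    nlinarith
  obtain ⟨hAS, hcore⟩ := Cfsg.Agent.Lib.Helper41_Kn_ALTPOINT.as_point hasN (by omega) hnN hnT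
  set S := T ⊓ cj n T with hS
  have hcoreL : relCore T S = L := by
    rw [hcore]
    show relCore N (M ⊓ N) = relCore N (N ⊓ M)
    rw [inf_comm]
  have hST : S ≤ T := inf_le_left
  have hSM : S ≤ M := hST.trans hTM
  have hLS : L ≤ S := by rw [← hcoreL]; exact relCore_le_right T S
  have hLT : L ≤ T := hLS.trans hST
  have hSC : S ≤ Subgroup.normalizer (C : Set G) := hSM.trans hMC
  have hTC : T ≤ Subgroup.normalizer (C : Set G) := hTM.trans hMC
  -- C ⊔ T = M
  have hCTM : C ⊔ T = M := by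
    apply le_antisymm (sup_le hCM hTM)
    intro m hm
    obtain ⟨c, hc, t, ht, rfl⟩ := hMCT m hm
    exact (C ⊔ T).mul_mem (Subgroup.mem_sup_left hc) (Subgroup.mem_sup_right ht)
  -- C ⊓ S = L
  have hCS : C ⊓ S = L := by
    apply le_antisymm
    · rw [← hCT]
      exact inf_le_inf_left C hST
    · exact le_inf hLC hLS
  -- cards
  have hcardL : Nat.card L = Nat.card K := by
    rw [hL, h.hK, card_cj]
  have e1 := Cfsg.Agent.Lib.Helper51_Offender.card_sup_mul_card_inf C T hTC
  rw [hCTM, hCT] at e1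
  have e2 := Cfsg.Agent.Lib.Helper51_Offender.card_sup_mul_card_inf C S hSC
  rw [hCS] at e2
  have hMd : Nat.card M = d * Nat.card T := h.asM.2.1
  have hTd : Nat.card T = (d - 1) * Nat.card S := hAS.2.1
  have hTf : (d - 1).factorial * Nat.card L ≤ 2 * Nat.card T := by
    have := hAS.2.2
    rwa [hcoreL] at this
  have hLpos : 0 < Nat.card L := Nat.card_pos
  have hTpos : 0 < Nat.card T := Nat.card_pos
  -- |C| = d |L|
  have hCd : Nat.card C = d * Nat.card L := by
    have : Nat.card C * Nat.card T = (d * Nat.card L) * Nat.card T := by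
      rw [← e1, hMd]; ring
    exact Nat.eq_of_mul_eq_mul_right hTpos this
  set R := C ⊔ S with hR
  have hRM : R ≤ M := sup_le hCM hSM
  -- |M| = (d-1) |R|
  have hMR : Nat.card M = (d - 1) * Nat.card R := by
    have : Nat.card M * Nat.card L = ((d - 1) * Nat.card R) * Nat.card L := by
      rw [e1, hTd]
      calc Nat.card C * ((d - 1) * Nat.card S) = (d - 1) * (Nat.card C * Nat.card S) := by ring
        _ = (d - 1) * (Nat.card R * Nat.card L) := by rw [e2]
        _ = (d - 1) * Nat.card R * Nat.card L := by ring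
    exact Nat.eq_of_mul_eq_mul_right hLpos this
  -- R ⊓ T ≤ S
  have hRT : R ⊓ T ≤ S := by
    intro y hy
    obtain ⟨c, hc, s, hs, rfl⟩ := exists_mul_of_mem_sup hSC hy.1
    have hcT : c ∈ T := by
      have : c = (c * s) * s⁻¹ := by group
      rw [this]
      exact T.mul_mem hy.2 (T.inv_mem (hST hs))
    have hcL : c ∈ L := by
      rw [← hCT]
      exact ⟨hc, hcT⟩
    exact S.mul_mem (hLS hcL) hs
  -- relCore M R = C
  have hcoreR : relCore M R = C := by
    apply le_antisymm
    · intro x hx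
      rw [mem_relCore] at hx
      obtain ⟨hxM, hxR⟩ := hx
      obtain ⟨c, hc, t, ht, rfl⟩ := hMCT x hxM
      have htL : t ∈ L := by
        rw [← hcoreL, mem_relCore]
        refine ⟨ht, fun t' ht' => hRT ⟨?_, T.mul_mem (T.mul_mem ht' ht) (T.inv_mem ht')⟩⟩
        have h1 := hxR t' (hTM ht')
        have h2 : t' * c⁻¹ * t'⁻¹ ∈ C :=
          (Subgroup.mem_normalizer_iff.mp (hTC ht') c⁻¹).mp (C.inv_mem hc)
        have e : t' * t * t'⁻¹ = (t' * c⁻¹ * t'⁻¹) * (t' * (c * t) * t'⁻¹) := by group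
        rw [e]
        exact R.mul_mem (Subgroup.mem_sup_left h2) h1
      exact C.mul_mem hc (hLC htL)
    · exact le_relCore hCM le_sup_left hMC
  refine ⟨R, ⟨hRM, hMR, ?_⟩, ?_, ?_⟩
  · rw [hcoreR]
    -- (d-1)! |C| ≤ 2 |M|
    have : (d - 1).factorial * Nat.card C * Nat.card L ≤ 2 * Nat.card M * Nat.card L := by
      calc (d - 1).factorial * Nat.card C * Nat.card L
          = Nat.card C * ((d - 1).factorial * Nat.card L) := by ring
        _ ≤ Nat.card C * (2 * Nat.card T) := Nat.mul_le_mul_left _ hTf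
        _ = 2 * (Nat.card C * Nat.card T) := by ring
        _ = 2 * (Nat.card M * Nat.card L) := by rw [e1]
        _ = 2 * Nat.card M * Nat.card L := by ring
    exact Nat.le_of_mul_le_mul_right this hLpos
  · rw [hcoreR]; exact hCK
  · rw [hcoreR, hCd, hcardL]

end Cfsg.Agent.Lib.Helper49_Kn_STEP6B
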