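import Mathlib
import Cfsg.Agent.Lib.Helper73_MGDefs

/-!
# Marggraf market (S3620), package QP-JS: the Mathlib form of the Jordan hypothesis gives `JS`.
-/

set_option autoImplicit false

namespace Cfsg.Agent.Lib.Helper49_MG_QPJS

open MulAction Equiv Cfsg.Agent.Lib.Helper73_MG
open scoped Pointwise

universe u v
variable {G : Type u} {Ω : Type v} [Group G] [MulAction G Ω]

/-- QP-JS -/
theorem js_of_pretransitive (Γ : Set Ω)
    (hJ : IsPretransitive (fixingSubgroup G Γᶜ) (SubMulAction.ofFixingSubgroup G Γᶜ)) :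
    JS G Γ := by
  intro x hx y hy
  have hx' : x ∈ SubMulAction.ofFixingSubgroup G Γᶜ := by
    rw [SubMulAction.mem_ofFixingSubgroup_iff]; simpa using hx
  have hy' : y ∈ SubMulAction.ofFixingSubgroup G Γᶜ := by
    rw [SubMulAction.mem_ofFixingSubgroup_iff]; simpa using hy
  obtain ⟨g, hg⟩ := hJ.exists_smul_eq (⟨x, hx'⟩ : SubMulAction.ofFixingSubgroup G Γᶜ) ⟨y, hy'⟩
  refine ⟨(g : G), ?_, ?_⟩
  · intro z hz
    have := (mem_fixingSubgroup_iff G).mp g.2 z hz
    exact this
  · have := congrArg (fun t : SubMulAction.ofFixingSubgroup G Γᶜ => (t : Ω)) hg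
    simp only [SubMulAction.val_smul] at this
    exact this

end Cfsg.Agent.Lib.Helper49_MG_QPJS
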