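import Mathlib
import Cfsg.Agent.Lib.Helper73_MGDefs

/-!
# Marggraf market (S3620), package QP-JSB: the translates of a block lying inside a Jordan set
form a Jordan set for the action on the block system.
-/

set_option autoImplicit false

namespace Cfsg.Agent.Lib.Helper49_MG_QPJSB

open MulAction Equiv Cfsg.Agent.Lib.Helper73_MG
open scoped Pointwise

universe u v
variable {G : Type u} {Ω : Type v} [Group G] [MulAction G Ω]

/-- QP-JSB -/
theorem js_blocks (B : Set Ω) (hB : IsBlock G B) (hBne : B.Nonempty) (Γ : Set Ω) (hΓ : JS G Γ)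
    (hun : ∀ h : G, h • B ⊆ Γ ∨ h • B ⊆ Γᶜ) :
    JS G {C : orbit G B | (C : Set Ω) ⊆ Γ} := by
  intro C₁ hC₁ C₂ hC₂
  obtain ⟨C₁, ⟨h₁, rfl⟩⟩ := C₁
  obtain ⟨C₂, ⟨h₂, rfl⟩⟩ := C₂
  simp only [Set.mem_ofPred_eq] at hC₁ hC₂
  -- pick points
  obtain ⟨b, hb⟩ := hBne
  have hx : h₁ • b ∈ h₁ • B := Set.smul_mem_smul_set hb
  have hy : h₂ • b ∈ h₂ • B := Set.smul_mem_smul_set hb
  obtain ⟨g, hgfix, hg⟩ := hΓ (h₁ • b) (hC₁ hx) (h₂ • b) (hC₂ hy)
  refine ⟨g, ?_, ?_⟩
  · -- blocks not inside Γ are fixed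
    rintro ⟨C, ⟨h, rfl⟩⟩ hC
    simp only [Set.mem_ofPred_eq] at hC
    have hsub : h • B ⊆ Γᶜ := (hun h).resolve_left hC
    apply Subtype.ext
    show g • (h • B) = h • B
    ext z
    constructor
    · rintro ⟨w, hw, rfl⟩
      have : g • w = w := hgfix w (hsub hw)
      show g • w ∈ h • B
      rw [this]; exact hw
    · intro hz
      exact ⟨z, hz, hgfix z (hsub hz)⟩
  · apply Subtype.ext
    show g • (h₁ • B) = h₂ • B
    -- both are translates of the block B and they share the point h₂ • b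
    have hB1 : IsBlock G (h₁ • B) := hB.translate h₁
    have hmem : h₂ • b ∈ g • (h₁ • B) := by
      rw [← hg]; exact Set.smul_mem_smul_set hx
    -- g • h₁ • B = (g * h₁) • B
    have e1 : g • (h₁ • B) = (g * h₁) • B := by rw [mul_smul]
    rw [e1] at hmem ⊢
    exact hB.smul_eq_smul_of_nonempty ⟨h₂ • b, hmem, hy⟩

end Cfsg.Agent.Lib.Helper49_MG_QPJSB
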