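import Mathlib
import Cfsg.Agent.Lib.Helper73_MGDefs

/-!
# Marggraf market (S3620), package QP-TRANS: quasiprimitive with a Jordan set of size > 1 is transitive.
-/

set_option autoImplicit false

namespace Cfsg.Agent.Lib.Helper49_MG_QPTRANS

open MulAction Equiv Cfsg.Agent.Lib.Helper73_MG
open scoped Pointwise

universe u v
variable {G : Type u} {Ω : Type v} [Group G] [MulAction G Ω]

/-- QP-TRANS -/
theorem qp_pretransitive
    (hqp : ∀ N : Subgroup G, N.Normal → N ≠ ⊥ → IsPretransitive N Ω)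
    (Γ : Set Ω) (h1 : 1 < Γ.ncard) (hΓ : JS G Γ) : IsPretransitive G Ω := by
  have hfin : Γ.Finite := Set.finite_of_ncard_pos (by omega)
  obtain ⟨x, y, hx, hy, hxy⟩ := (Set.one_lt_ncard_iff hfin).mp h1
  obtain ⟨g, -, hg⟩ := hΓ x hx y hy
  have hne : (⊤ : Subgroup G) ≠ ⊥ := by
    intro h
    have hg1 : g = 1 := by
      have : g ∈ (⊥ : Subgroup G) := h ▸ Subgroup.mem_top g
      simpa using this
    rw [hg1, one_smul] at hg
    exact hxy hg
  have ht := hqp ⊤ inferInstance hne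
  refine ⟨fun a b => ?_⟩
  obtain ⟨k, hk⟩ := ht.exists_smul_eq a b
  exact ⟨(k : G), hk⟩

end Cfsg.Agent.Lib.Helper49_MG_QPTRANS
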