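import Mathlib
import Cfsg.Prelude.Def_PLocal
import Cfsg.Prelude.Def_Amalgam
import Cfsg.Agent.Lib.Helper1_Cores
import Cfsg.Agent.Lib.Helper11_ZJ
import Cfsg.Agent.Lib.Helper25_OddStable
import Cfsg.Agent.Lib.Helper55_Fitting
import Cfsg.Agent.Lib.Helper71_Fitting
import Cfsg.Agent.Lib.Helper49_CharP5

/-!
# A consequence of `p`-stability in solvable groups of odd order (helper49)

`le_pCore_of_quadratic`: in a solvable group `Y` of odd order, a `p`-subgroup `Z` all of whose elements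
act quadratically on `O_p(Y)` and which centralizes `O_r(Y)` for every prime `r ≠ p` lies in `O_p(Y)`.
`le_pCoreOf_of_normalized`: the same for a subgroup `L` of an ambient group, with `Z` abelian and
normalized by `O_p(L)`.
-/

set_option autoImplicit false

namespace Cfsg.Agent.Lib.Helper49_MaxSub

open Cfsg

section Abstract

variable {Y : Type*} [Group Y] [Finite Y]

/-- a subgroup which is a `p`-group modulo its centre is nilpotent -/
theorem isNilpotent_of_pow_mem_center {p : ℕ} [Fact p.Prime] (V : Subgroup Y)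
    (h : ∀ w ∈ V, ∃ j : ℕ, w ^ (p ^ j) ∈ Subgroup.centralizer (V : Set Y)) :
    Group.IsNilpotent ↥V := by
  have hq : IsPGroup p (↥V ⧸ Subgroup.center ↥V) := by
    intro g
    obtain ⟨v, rfl⟩ := QuotientGroup.mk_surjective g
    obtain ⟨j, hj⟩ := h v v.2
    refine ⟨j, ?_⟩
    rw [← QuotientGroup.mk_pow, QuotientGroup.eq_one_iff, Subgroup.mem_center_iff]
    intro u
    apply Subtype.ext
    have h1 := Subgroup.mem_centralizer_iff.mp hj (u : Y) u.2
    simpa using h1
  have hnil : Group.IsNilpotent (↥V ⧸ Subgroup.center ↥V) := hq.isNilpotent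
  exact Subgroup.isNilpotent_of_ker_le_center (QuotientGroup.mk' (Subgroup.center ↥V))
    (by rw [QuotientGroup.ker_mk'])

theorem le_pCore_of_quadratic [Group.IsSolvable Y] (hodd : Odd (Nat.card Y)) (p : ℕ)
    [Fact p.Prime] (Z : Subgroup Y) (hZp : IsPGroup p Z)
    (hquad : ∀ z ∈ Z, ⁅⁅pCore p Y, Subgroup.zpowers z⁆, Subgroup.zpowers z⁆ = ⊥)
    (hcent : ∀ r : ℕ, r.Prime → r ≠ p → Z ≤ Subgroup.centralizer (pCore r Y : Set Y)) :
    Z ≤ pCore p Y := by
  have hPn : (pCore p Y).Normal := Cfsg.Agent.Lib.Helper1_Cores.pCore_normal p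
  have hPp : IsPGroup p (pCore p Y) := Cfsg.Agent.Lib.Helper1_Cores.pCore_isPGroup p
  obtain ⟨D, hDn, hCD, ⟨k, hk⟩, hZD⟩ :=
    Cfsg.Agent.Lib.Helper11_ZJ.stableOn_of_isPStableOn Z (pCore p Y)
      (Cfsg.Agent.Lib.Helper25_OddStable.isPStableOn hodd _ hPp)
  have hrn : ∀ r : ℕ, (pCore r Y).Normal := fun r => Cfsg.Agent.Lib.Helper1_Cores.pCore_normal r
  -- the elements centralizing all `O_r(Y)`, `r ≠ p`
  set CQ : Subgroup Y := ⨅ r : {r : Nat.Primes // (r : ℕ) ≠ p},
    Subgroup.centralizer (pCore ((r : Nat.Primes) : ℕ) Y : Set Y) with hCQ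
  have hCQn : CQ.Normal := by
    have : ∀ r : {r : Nat.Primes // (r : ℕ) ≠ p},
        (Subgroup.centralizer (pCore ((r : Nat.Primes) : ℕ) Y : Set Y)).Normal := by
      intro r
      have := hrn ((r : Nat.Primes) : ℕ)
      exact Subgroup.normal_centralizer
    exact Subgroup.normal_iInf_normal this
  -- the join of the `O_r(Y)`, `r ≠ p`
  set Q : Subgroup Y := ⨆ r : {r : Nat.Primes // (r : ℕ) ≠ p}, pCore ((r : Nat.Primes) : ℕ) Y
    with hQ
  have hQn : Q.Normal := by
    have : ∀ r : {r : Nat.Primes // (r : ℕ) ≠ p}, (pCore ((r : Nat.Primes) : ℕ) Y).Normal :=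
      fun r => hrn _
    exact Subgroup.iSup_normal _
  have hQN : Q ≤ pPrimeCore p Y := by
    refine iSup_le (fun r => ?_)
    have : Fact ((r : Nat.Primes) : ℕ).Prime := ⟨(r : Nat.Primes).2⟩
    exact Cfsg.Agent.Lib.Helper1_Cores.le_pPrimeCore (hrn _)
      (Cfsg.Agent.Lib.Helper1_Cores.pCore_card_coprime r.2)
  have hdis : Disjoint (pCore p Y) Q := by
    rw [disjoint_iff, eq_bot_iff]
    intro x hx
    have hx1 : x ∈ pCore p Y := hx.1
    have hx2 : x ∈ pPrimeCore p Y := hQN hx.2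
    have hc : (orderOf x).Coprime p := by
      have h1 : orderOf x ∣ Nat.card (pPrimeCore p Y) := by
        have h2 : orderOf (⟨x, hx2⟩ : ↥(pPrimeCore p Y)) ∣ Nat.card (pPrimeCore p Y) :=
          orderOf_dvd_natCard _
        rwa [Subgroup.orderOf_mk] at h2
      exact Nat.Coprime.coprime_dvd_left h1
        (Cfsg.Agent.Lib.Helper1_Cores.pPrimeCore_card_coprime p)
    exact Cfsg.Agent.Lib.Helper49_CharP.eq_one_of_coprime_of_mem hPp hx1 hc
  have hFle : fittingSubgroup Y ≤ pCore p Y ⊔ Q := by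
    rw [Cfsg.Agent.Lib.Helper1_Cores.fittingSubgroup_eq_iSup_pCore]
    refine iSup_le (fun r => ?_)
    by_cases hr : (r : ℕ) = p
    · rw [hr]; exact le_sup_left
    · exact le_trans (le_iSup (fun r : {r : Nat.Primes // (r : ℕ) ≠ p} =>
        pCore ((r : Nat.Primes) : ℕ) Y) ⟨r, hr⟩) le_sup_right
  set W : Subgroup Y := D ⊓ CQ with hW
  have hWn : W.Normal := Subgroup.normal_inf_normal D CQ
  have hZW : Z ≤ W := by
    refine le_inf ?_ ?_
    · intro z hz
      exact hZD z hz (hquad z hz)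
    · exact le_iInf (fun r => hcent _ (r : Nat.Primes).2 r.2)
  have hQW : Q ≤ Subgroup.centralizer (W : Set Y) := by
    refine iSup_le (fun r => ?_)
    rw [Subgroup.le_centralizer_iff]
    exact inf_le_right.trans (iInf_le _ r)
  have hWnil : Group.IsNilpotent ↥W := by
    apply isNilpotent_of_pow_mem_center (p := p)
    intro w hw
    -- `w ^ p ^ k` centralizes `O_p(Y)`
    have h1 : w ^ (p ^ k) ∈ Subgroup.centralizer (pCore p Y : Set Y) := by
      have hCn : (Subgroup.centralizer (pCore p Y : Set Y)).Normal := Subgroup.normal_centralizer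
      have hn : ((Subgroup.centralizer (pCore p Y : Set Y)).subgroupOf D).Normal :=
        Subgroup.Normal.subgroupOf hCn D
      have h2 := Subgroup.pow_index_mem
        ((Subgroup.centralizer (pCore p Y : Set Y)).subgroupOf D) (⟨w, hw.1⟩ : ↥D)
      have h3 : ((Subgroup.centralizer (pCore p Y : Set Y)).subgroupOf D).index = p ^ k := hk
      rw [h3, Subgroup.mem_subgroupOf] at h2
      simpa using h2
    have h2 : w ^ (p ^ k) ∈ CQ := CQ.pow_mem hw.2 _
    -- hence it centralizes the Fitting subgroup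
    have h3 : w ^ (p ^ k) ∈ Subgroup.centralizer (fittingSubgroup Y : Set Y) := by
      have h4 : fittingSubgroup Y ≤ Subgroup.centralizer ({w ^ (p ^ k)} : Set Y) := by
        rw [Cfsg.Agent.Lib.Helper1_Cores.fittingSubgroup_eq_iSup_pCore]
        refine iSup_le (fun r x hx => ?_)
        rw [Subgroup.mem_centralizer_singleton_iff]
        by_cases hr : (r : ℕ) = p
        · rw [hr] at hx
          exact Subgroup.mem_centralizer_iff.mp h1 x hx
        · have h5 : w ^ (p ^ k) ∈ Subgroup.centralizer (pCore (r : ℕ) Y : Set Y) :=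
            (iInf_le (fun r : {r : Nat.Primes // (r : ℕ) ≠ p} =>
              Subgroup.centralizer (pCore ((r : Nat.Primes) : ℕ) Y : Set Y)) ⟨r, hr⟩) h2
          exact Subgroup.mem_centralizer_iff.mp h5 x hx
      rw [Subgroup.mem_centralizer_iff]
      intro f hf
      exact Subgroup.mem_centralizer_singleton_iff.mp (h4 hf)
    have h4 : w ^ (p ^ k) ∈ pCore p Y ⊔ Q :=
      hFle (Cfsg.Agent.Lib.Helper55_Fitting.centralizer_fittingSubgroup_le h3)
    obtain ⟨a, ha, b, hb, hab⟩ := Subgroup.mem_sup_of_normal_left.mp h4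
    have hcomm : Commute a b := Subgroup.commute_of_normal_of_disjoint _ _ hPn hQn hdis a b ha hb
    obtain ⟨m, hm⟩ := hPp ⟨a, ha⟩
    have hm' : a ^ (p ^ m) = 1 := by
      have := congrArg Subtype.val hm
      simpa using this
    refine ⟨k + m, ?_⟩
    have h5 : w ^ (p ^ (k + m)) = b ^ (p ^ m) := by
      rw [pow_add, pow_mul, ← hab, hcomm.mul_pow, hm', one_mul]
    rw [h5]
    exact hQW (Q.pow_mem hb _)
  intro z hz
  obtain ⟨j, hj⟩ := (IsPGroup.iff_orderOf.mp hZp) ⟨z, hz⟩
  have hzo : orderOf z = p ^ j := by rw [← hj, Subgroup.orderOf_mk]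
  have h6 := Cfsg.Agent.Lib.Helper71_Fitting.mem_sylowCore_of_mem_normal_nilpotent W hWnil
    (hZW hz) hzo
  rw [Cfsg.Agent.Lib.Helper1_Cores.pCore_eq_iInf_sylow]
  exact h6

end Abstract

section Relative

variable {G : Type*} [Group G] [Finite G]

/-- In a solvable subgroup `L` of odd order, an abelian `p`-subgroup `Z` normalized by `O_p(L)` and
centralizing `O_r(L)` for every prime `r ≠ p` lies in `O_p(L)`. -/
theorem le_pCoreOf_of_normalized (p : ℕ) [Fact p.Prime] (L Z : Subgroup G)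
    (hLs : Group.IsSolvable ↥L) (hLodd : Odd (Nat.card ↥L)) (hZL : Z ≤ L) (hZp : IsPGroup p Z)
    (hZc : ∀ x ∈ Z, ∀ y ∈ Z, x * y = y * x)
    (hN : Cfsg.pCoreOf p L ≤ Subgroup.normalizer (Z : Set G))
    (hcent : ∀ r : ℕ, r.Prime → r ≠ p →
      Z ≤ Subgroup.centralizer ((Cfsg.pCoreOf r L : Subgroup G) : Set G)) :
    Z ≤ Cfsg.pCoreOf p L := by
  have h := le_pCore_of_quadratic (Y := ↥L) hLodd p (Z.subgroupOf L) hZp.comap_subtype ?_ ?_
  · intro z hz
    rw [Cfsg.Agent.Lib.Helper49_CharP.mem_pCoreOf_iff (hZL hz)]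
    exact h (Subgroup.mem_subgroupOf.mpr hz)
  · intro z hz
    apply Cfsg.Agent.Lib.Helper11_ZJ.quadratic_of_normalizes (A := Z.subgroupOf L)
      (B := pCore p ↥L)
    · intro x hx y hy
      apply Subtype.ext
      exact hZc x (Subgroup.mem_subgroupOf.mp hx) y (Subgroup.mem_subgroupOf.mp hy)
    · intro b hb
      have hb' : (b : G) ∈ Cfsg.pCoreOf p L :=
        (Cfsg.Agent.Lib.Helper49_CharP.mem_pCoreOf_iff b.2).mpr hb
      have h1 := hN hb'
      rw [Subgroup.mem_normalizer_iff] at h1 ⊢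
      intro x
      rw [Subgroup.mem_subgroupOf, Subgroup.mem_subgroupOf]
      exact h1 x
    · exact hz
  · intro r hr hrp z hz
    rw [Subgroup.mem_centralizer_iff]
    intro q hq
    apply Subtype.ext
    have hq' : (q : G) ∈ Cfsg.pCoreOf r L :=
      (Cfsg.Agent.Lib.Helper49_CharP.mem_pCoreOf_iff q.2).mpr hq
    exact Subgroup.mem_centralizer_iff.mp (hcent r hr hrp (Subgroup.mem_subgroupOf.mp hz)) q hq'

end Relative

end Cfsg.Agent.Lib.Helper49_MaxSub
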