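import Mathlib
import Cfsg.Agent.Lib.Helper38_OTDefs
import Cfsg.Agent.Lib.Helper94_OrthVec

set_option autoImplicit false
set_option linter.unusedSectionVars false
set_option linter.unusedVariables false

/-!
OTENS4 package GEN1, core (helper49): from one Siegel element `sieg (x ⊗ y) (x ⊗ w)` in `M`
(`w ⊥ y`, `w ∉ ⟨y⟩`) to all `sieg (x ⊗ y) (x ⊗ z)`, `z ⊥ y`.  The two facts of the packages
KMEM and OG that are used (`tmE P R ∈ M`, `tmE P R ∈ oG Q`) enter as hypotheses here.
-/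

namespace Cfsg.Agent.Lib.Helper49_OT_GEN1aux

open Matrix Module
open Cfsg.Agent.Lib.Helper98_ExtDefs Cfsg.Agent.Lib.Helper97_TensDefs
open Cfsg.Agent.Lib.Helper94_Herm
open Cfsg.Agent.Lib.Helper67_UT2Defs Cfsg.Agent.Lib.Helper37_UTDefs
open Cfsg.Agent.Lib.Helper37_UTPairDefs
open Cfsg.Agent.Lib.Helper94_OrthSmall Cfsg.Agent.Lib.Helper94_OrthSiegel
open Cfsg.Agent.Lib.Helper94_OrthNondeg (InZ)
open Cfsg.Agent.Lib.Helper67_T2ODefs (IsAltMap aw)
open Cfsg.Agent.Lib.Helper38_OTDefs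

/-- for an alternating form the transvections `v ↦ v + s ω(v,z) z` are isometries, all `s` -/
theorem utv_mem_uG_alt {F : Type*} [Field F] {W : Type*} [AddCommGroup W] [Module F W]
    {ω : LinearMap.BilinForm F W} (hω : ∀ x, ω x x = 0) (z : W) (s : F) : utv ω z s ∈ uG ω := by
  have hsw : ∀ u v, ω u v = - ω v u := by
    intro u v
    have h := hω (u + v)
    simp only [map_add, LinearMap.add_apply, hω, zero_add, add_zero] at h
    linear_combination h
  intro u v
  rw [utv_apply ω (hω z), utv_apply ω (hω z)]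
  simp only [map_add, map_smul, LinearMap.add_apply, LinearMap.smul_apply, smul_eq_mul, hω]
  rw [hsw z v]
  ring

/-- a vector `w` orthogonal to the whole of `y^⊥` is a multiple of `y` -/
theorem mem_span_of_orth {F : Type*} [Field F] {W : Type*} [AddCommGroup W] [Module F W]
    {ω : LinearMap.BilinForm F W} (hωN : NondegOn ω ⊤) {y w : W} (hy : y ≠ 0)
    (h : ∀ z, ω y z = 0 → ω w z = 0) : w ∈ Submodule.span F {y} := by
  obtain ⟨y', -, hy'⟩ := hωN y Submodule.mem_top hy
  rw [Submodule.mem_span_singleton]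
  refine ⟨ω w y' / ω y y', ?_⟩
  by_contra hne
  have hne' : w - (ω w y' / ω y y') • y ≠ 0 := by
    intro h0
    apply hne
    rw [sub_eq_zero] at h0
    exact h0.symm
  obtain ⟨v, -, hv⟩ := hωN _ Submodule.mem_top hne'
  apply hv
  have h1 : ω y (v - (ω y v / ω y y') • y') = 0 := by
    rw [map_sub, map_smul, smul_eq_mul]
    field_simp
    ring
  have h2 := h _ h1
  rw [map_sub, map_smul, smul_eq_mul] at h2
  rw [map_sub, LinearMap.sub_apply, map_smul, LinearMap.smul_apply, smul_eq_mul]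
  have h3 : ω w v = ω y v / ω y y' * ω w y' := by linear_combination h2
  rw [h3]
  field_simp
  ring

variable {F : Type*} [Field F] {ι κ : Type*} [Fintype ι] [Fintype κ] [DecidableEq ι]
  [DecidableEq κ]
variable {α : LinearMap.BilinForm F (ι → F)} {β : LinearMap.BilinForm F (κ → F)}
variable {Q : Matrix ι κ F → F} {M : Subgroup (Matrix ι κ F ≃ₗ[F] Matrix ι κ F)}

/-- GEN1 with the facts of KMEM and OG as hypotheses -/
theorem gen1_of [Finite F] (hB : OTBase α β Q M)
    (hmem : ∀ {P : (ι → F) ≃ₗ[F] (ι → F)} {R : (κ → F) ≃ₗ[F] (κ → F)},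
      P ∈ uG α → R ∈ uG β → tmE P R ∈ M)
    (hoG : ∀ {P : (ι → F) ≃ₗ[F] (ι → F)} {R : (κ → F) ≃ₗ[F] (κ → F)},
      P ∈ uG α → R ∈ uG β → tmE P R ∈ oG Q)
    {x : ι → F} {y w : κ → F} (hx : x ≠ 0)
    (hy : y ≠ 0) (hyw : β y w = 0) (hw : w ∉ Submodule.span F {y})
    (h : InZ Q (tf α β) M (vecMulVec x y) (vecMulVec x w)) :
    ∀ z : κ → F, β y z = 0 → InZ Q (tf α β) M (vecMulVec x y) (vecMulVec x z) := by
  have hQs := hB.hQs
  have hQp := hB.hQp
  have hu : Q (vecMulVec x y) = 0 := hB.hpure x y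
  -- Step A
  have stepA : ∀ z' : κ → F, β y z' = 0 → β w z' ≠ 0 →
      InZ Q (tf α β) M (vecMulVec x y) (vecMulVec x z') := by
    intro z' hz' hwz'
    set s : F := (β w z')⁻¹ with hs
    have hR : utv β z' s ∈ uG β := utv_mem_uG_alt hB.hβ z' s
    have h1 : (1 : (ι → F) ≃ₗ[F] (ι → F)) ∈ uG α := Subgroup.one_mem _
    have hgM := hmem h1 hR
    have hgO := hoG h1 hR
    have h2 := Cfsg.Agent.Lib.Helper94_OrthNondeg.InZ_map hQs hQp hgM hgO hu h
    rw [tmE_pure, tmE_pure, utv_fix β z' s hz', utv_apply β (hB.hβ z')] at h2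
    have h3 : (1 : (ι → F) ≃ₗ[F] (ι → F)) x = x := rfl
    rw [h3] at h2
    have h4 := Cfsg.Agent.Lib.Helper94_OrthNondeg.InZ_sub hQs hQp hu h2 h
    have h5 : vecMulVec x (w + (s * β w z') • z') - vecMulVec x w = vecMulVec x z' := by
      rw [hs, inv_mul_cancel₀ hwz', one_smul, Matrix.vecMulVec_add, add_sub_cancel_left]
    rwa [h5] at h4
  intro z hz
  by_cases hwz : β w z = 0
  · -- Step B
    have hex : ∃ z'', β y z'' = 0 ∧ β w z'' ≠ 0 := by
      by_contra hcon
      apply hw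
      apply mem_span_of_orth hB.hβN hy
      intro z'' hz''
      by_contra hne
      exact hcon ⟨z'', hz'', hne⟩
    obtain ⟨z'', hz''y, hz''w⟩ := hex
    have h1 := stepA z'' hz''y hz''w
    have h2 := stepA (z + z'') (by rw [map_add, hz, hz''y, add_zero])
      (by rw [map_add, hwz, zero_add]; exact hz''w)
    have h3 := Cfsg.Agent.Lib.Helper94_OrthNondeg.InZ_sub hQs hQp hu h2 h1
    rwa [Matrix.vecMulVec_add, add_sub_cancel_right] at h3
  · exact stepA z hz hwz

end Cfsg.Agent.Lib.Helper49_OT_GEN1aux
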