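import Mathlib

/-!
# OEXT3 package ALT3 (architect helper97)

The radical of an alternating bilinear form on a three-dimensional space has dimension 1 or 3.
-/

set_option autoImplicit false

namespace Cfsg.Agent.Lib.Helper49_OX3_ALT3

open Module

/-- ALT3: the radical of an alternating form on a three-dimensional space has dimension 1 or 3 -/
theorem alt3_radical {F W : Type*} [Field F] [AddCommGroup W] [Module F W]
    (hW : finrank F W = 3) (c : LinearMap.BilinForm F W) (hc : ∀ x, c x x = 0) :
    finrank F ↥(LinearMap.ker c) = 1 ∨ finrank F ↥(LinearMap.ker c) = 3 := by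
  have hfd : FiniteDimensional F W := Module.finite_of_finrank_pos (by omega)
  have hskew : ∀ x y, c x y = - c y x := by
    intro x y
    have h := hc (x + y)
    simp only [map_add, LinearMap.add_apply, hc, zero_add, add_zero] at h
    linear_combination h
  by_cases htop : LinearMap.ker c = ⊤
  · right
    rw [htop, finrank_top, hW]
  · left
    obtain ⟨x, hx⟩ : ∃ x, c x ≠ 0 := by
      by_contra h
      push Not at h
      apply htop
      ext z
      simp [h z]
    obtain ⟨y, hy⟩ : ∃ y, c x y ≠ 0 := by
      by_contra h
      push Not at h
      exact hx (LinearMap.ext h)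
    have hyx : c y x ≠ 0 := by
      rw [hskew y x]; exact neg_ne_zero.mpr hy
    set ψ : W →ₗ[F] F × F := (c x).prod (c y) with hψ
    have hψa : ∀ z, ψ z = (c x z, c y z) := fun z => rfl
    have hsurj : LinearMap.range ψ = ⊤ := by
      rw [eq_top_iff]
      rintro ⟨a, b⟩ -
      refine ⟨(b / c y x) • x + (a / c x y) • y, ?_⟩
      rw [hψa]
      simp only [map_add, map_smul, smul_eq_mul, hc, mul_zero, zero_add, add_zero]
      refine Prod.ext ?_ ?_
      · simp only; field_simp
      · simp only; field_simp
    have hker1 : finrank F ↥(LinearMap.ker ψ) = 1 := by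
      have h := LinearMap.finrank_range_add_finrank_ker ψ
      rw [hsurj, finrank_top, finrank_prod, finrank_self, hW] at h
      omega
    have hle : LinearMap.ker c ≤ LinearMap.ker ψ := by
      intro z hz
      rw [LinearMap.mem_ker] at hz ⊢
      rw [hψa, hskew x z, hskew y z, hz]
      simp
    have hge : LinearMap.ker ψ ≤ LinearMap.ker c := by
      intro z hz
      have hz' := hz
      rw [LinearMap.mem_ker, hψa, Prod.mk_eq_zero] at hz'
      obtain ⟨hxz, hyz⟩ := hz'
      rw [LinearMap.mem_ker]
      by_cases hz0 : z = 0
      · rw [hz0, map_zero]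
      · refine LinearMap.ext fun w => ?_
        set α : F := c y w / c y x with hα
        set β : F := c x w / c x y with hβ
        have hk : w - α • x - β • y ∈ LinearMap.ker ψ := by
          rw [LinearMap.mem_ker, hψa]
          simp only [map_sub, map_smul, smul_eq_mul, hc, mul_zero, sub_zero]
          refine Prod.ext ?_ ?_
          · simp only [Prod.fst_zero]; rw [hβ]; field_simp; ring
          · simp only [Prod.snd_zero]; rw [hα]; field_simp; ring
        have hz1 : (⟨z, hz⟩ : ↥(LinearMap.ker ψ)) ≠ 0 := by
          intro h
          exact hz0 (congrArg Subtype.val h)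
        obtain ⟨l, hl⟩ := (finrank_eq_one_iff_of_nonzero' _ hz1).mp hker1 ⟨_, hk⟩
        have hl' : l • z = w - α • x - β • y := congrArg Subtype.val hl
        have hw : w = α • x + β • y + l • z := by rw [hl']; abel
        rw [hw]
        simp only [map_add, map_smul, smul_eq_mul, hc, mul_zero, add_zero, LinearMap.zero_apply]
        rw [hskew z x, hskew z y, hxz, hyz]
        simp
    rw [le_antisymm hle hge]
    exact hker1

end Cfsg.Agent.Lib.Helper49_OX3_ALT3
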