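import Mathlib
import Cfsg.Agent.Lib.Helper62_S2490_Defs

/-!
# S2490 package S (helper49): Sylow subgroups of a normal subgroup of index prime to `p`
-/

set_option autoImplicit false

open Cfsg Cfsg.Agent.Lib.Helper62_S2490_Defs

namespace Cfsg.Agent.Lib.Helper49_S2490_S

/-- a `p`-subgroup lies in every normal subgroup of index prime to `p` -/
theorem le_of_not_dvd_index {G : Type*} [Group G] [Finite G] (R : Subgroup G) [R.Normal] {p : ℕ}
    [Fact p.Prime] (h : ¬ p ∣ R.index) (P : Subgroup G) (hP : IsPGroup p P) : P ≤ R := by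
  have hmap : IsPGroup p (P.map (QuotientGroup.mk' R)) := hP.map _
  have hdvd : Nat.card (P.map (QuotientGroup.mk' R)) ∣ R.index := by
    rw [Subgroup.index_eq_card]
    exact Subgroup.card_subgroup_dvd_card _
  have hone : Nat.card (P.map (QuotientGroup.mk' R)) = 1 := by
    rcases hmap.card_eq_or_dvd with h1 | h1
    · exact h1
    · exact absurd (h1.trans hdvd) h
  have hbot : P.map (QuotientGroup.mk' R) = ⊥ := Subgroup.card_eq_one.1 hone
  have := (Subgroup.map_eq_bot_iff P).1 hbot
  rwa [QuotientGroup.ker_mk'] at this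

/-- S2490-S. A normal subgroup of index prime to `p` has the same number of Sylow
`p`-subgroups. -/
theorem card_sylow_of_normal {G : Type*} [Group G] [Finite G] (R : Subgroup G) [R.Normal] {p : ℕ}
    [Fact p.Prime] (h : ¬ p ∣ R.index) : Nat.card (Sylow p R) = Nat.card (Sylow p G) := by
  have hle : ∀ P : Sylow p G, (P : Subgroup G) ≤ R := fun P => le_of_not_dvd_index R h P P.2
  symm
  apply Nat.card_congr
  refine Equiv.ofBijective (fun P : Sylow p G => P.subtype (hle P)) ⟨?_, ?_⟩
  · intro P Q hPQ
    exact Sylow.subtype_injective hPQ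
  · intro Q
    obtain ⟨P, hPQ⟩ := Sylow.exists_comap_subtype_eq Q
    refine ⟨P, Sylow.ext ?_⟩
    rw [Sylow.coe_subtype]
    exact hPQ

end Cfsg.Agent.Lib.Helper49_S2490_S
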