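import Mathlib
import Cfsg.Agent.Lib.Helper62_S2490_Defs

/-!
# S2490 package T1 (helper49): Burnside transfer

A group with a nontrivial Sylow subgroup central in its normalizer is not perfect.
-/

set_option autoImplicit false

open Cfsg Cfsg.Agent.Lib.Helper62_S2490_Defs

namespace Cfsg.Agent.Lib.Helper49_S2490_T1

/-- S2490-T1. Burnside transfer: a perfect group has no nontrivial Sylow subgroup
central in its normalizer. -/
theorem not_perfect_of_normalizer_le_centralizer {H : Type*} [Group H] [Finite H] {p : ℕ}
    [Fact p.Prime] (P : Sylow p H) (hP : (P : Subgroup H) ≠ ⊥)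
    (hNC : Subgroup.normalizer ((P : Subgroup H) : Set H) ≤
      Subgroup.centralizer ((P : Subgroup H) : Set H)) : commutator H ≠ ⊤ := by
  intro htop
  have hcompl := MonoidHom.ker_transferSylow_isComplement' P hNC
  have hcomm : ∀ a b : (P : Subgroup H), a * b = b * a := fun a b =>
    Subtype.ext (hNC (Subgroup.le_normalizer b.2) a a.2)
  have hle : commutator H ≤ (MonoidHom.transferSylow P hNC).ker := by
    rw [commutator_def, Subgroup.commutator_le]
    intro g₁ _ g₂ _
    rw [MonoidHom.mem_ker, map_commutatorElement, commutatorElement_def,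
      hcomm (MonoidHom.transferSylow P hNC g₁), mul_inv_cancel_right, mul_inv_cancel]
  rw [htop, top_le_iff] at hle
  rw [hle] at hcompl
  exact hP (top_disjoint.1 hcompl.disjoint)

end Cfsg.Agent.Lib.Helper49_S2490_T1
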