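import Mathlib
import Cfsg.Agent.Lib.Helper49_S2933Defs

/-!
# Helper49_S2933_RED

Package RED of S2933: from the subgroup setting to automorphisms of `↥T`.
-/

set_option autoImplicit false

open scoped commutatorElement

namespace Cfsg.Agent.Lib.Helper49_S2933_RED

variable {G : Type*} [Group G]

/-- conjugation by a normalizing element, as an automorphism of the subgroup -/
def conjAut (T : Subgroup G) (g : G) (hg : g ∈ Subgroup.normalizer (T : Set G)) : MulAut ↥T where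
  toFun x := ⟨g * x * g⁻¹, (Subgroup.mem_normalizer_iff.mp hg x).mp x.2⟩
  invFun x := ⟨g⁻¹ * x * g, (Subgroup.mem_normalizer_iff''.mp hg x).mp x.2⟩
  left_inv x := by
    apply Subtype.ext
    show g⁻¹ * (g * x * g⁻¹) * g = x
    group
  right_inv x := by
    apply Subtype.ext
    show g * (g⁻¹ * x * g) * g⁻¹ = x
    group
  map_mul' x y := by
    apply Subtype.ext
    show g * (x * y) * g⁻¹ = g * x * g⁻¹ * (g * y * g⁻¹)
    group

theorem conjAut_apply (T : Subgroup G) (g : G) (hg : g ∈ Subgroup.normalizer (T : Set G))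
    (x : ↥T) : ((conjAut T g hg x : ↥T) : G) = g * x * g⁻¹ := rfl

/-- an element of order dividing 3 normalizing a group `V` of order 4 and centralizing a
nonidentity element of `V` centralizes `V` -/
theorem centralizes_of_fix [Finite G] (V : Subgroup G) (hV : Nat.card ↥V = 4) (ρ : G)
    (hρ3 : ρ ^ 3 = 1) (hρn : ρ ∈ Subgroup.normalizer (V : Set G)) (v : G) (hv : v ∈ V)
    (hv1 : v ≠ 1) (hvρ : ρ * v * ρ⁻¹ = v) : ∀ w ∈ V, ρ * w * ρ⁻¹ = w := by
  classical
  have : Fintype ↥V := Fintype.ofFinite _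
  have : Fact (Nat.Prime 3) := ⟨Nat.prime_three⟩
  have hρ3' : ρ * ρ * ρ = 1 := by rw [← hρ3]; simp [pow_succ]
  let f : ↥V → ↥V := fun w => ⟨ρ * w * ρ⁻¹, (Subgroup.mem_normalizer_iff.mp hρn w).mp w.2⟩
  have hf : f^[3 ^ 1] = id := by
    funext w
    apply Subtype.ext
    show ρ * (ρ * (ρ * w * ρ⁻¹) * ρ⁻¹) * ρ⁻¹ = w
    calc ρ * (ρ * (ρ * (w : G) * ρ⁻¹) * ρ⁻¹) * ρ⁻¹ = (ρ * ρ * ρ) * w * (ρ * ρ * ρ)⁻¹ := by
          simp only [mul_assoc, mul_inv_rev]
      _ = w := by rw [hρ3']; simp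
  have h := Equiv.Perm.card_fixedPoints_modEq (p := 3) (n := 1) (f := f) hf
  simp only [Fintype.card_eq_nat_card] at h
  rw [hV] at h
  have hle : Nat.card (Function.fixedPoints f) ≤ 4 := by
    rw [← hV]
    exact Nat.card_le_card_of_injective (fun x => x.1) Subtype.val_injective
  have hne1 : Nat.card (Function.fixedPoints f) ≠ 1 := by
    intro h1
    rw [Nat.card_eq_one_iff_unique] at h1
    obtain ⟨hsub, -⟩ := h1
    have e3 := hsub.elim (⟨⟨1, V.one_mem⟩, by
      show f _ = _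
      apply Subtype.ext
      show ρ * 1 * ρ⁻¹ = 1
      group⟩ : Function.fixedPoints f) ⟨⟨v, hv⟩, by
      show f _ = _
      apply Subtype.ext
      exact hvρ⟩
    have e4 := congrArg (fun z : Function.fixedPoints f => ((z : ↥V) : G)) e3
    exact hv1 e4.symm
  have hcard : Nat.card (Function.fixedPoints f) = 4 := by
    have hm : 4 % 3 = Nat.card (Function.fixedPoints f) % 3 := h
    omega
  intro w hw
  by_contra hcon
  have hnot : ¬ (⟨w, hw⟩ : ↥V) ∈ Function.fixedPoints f := by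
    intro hmem
    have : f ⟨w, hw⟩ = ⟨w, hw⟩ := hmem
    exact hcon (congrArg Subtype.val this)
  have hss : Function.fixedPoints f ⊂ Set.univ :=
    (Set.ssubset_univ_iff).mpr (fun h => hnot (h ▸ Set.mem_univ _))
  have hlt := Set.ncard_lt_ncard hss (Set.toFinite _)
  rw [Set.ncard_univ, ← Nat.card_coe_set_eq, hcard, hV] at hlt
  omega

/-- **RED**. From the subgroup setting of S2933 to automorphisms of `↥T`. -/
theorem reduce {G : Type*} [Group G] [Finite G] (T V : Subgroup G) (hT : IsPGroup 2 ↥T)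
    (hVT : V ≤ T ⊓ Subgroup.centralizer (T : Set G))
    (hV : Nat.card ↥V = 4 ∧ ∀ v ∈ V, v ^ 2 = 1) (t ρ : G) (ht : orderOf t = 2)
    (hρ : orderOf ρ = 3)
    (htn : t ∈ Subgroup.normalizer (V : Set G) ⊓ Subgroup.normalizer (T : Set G))
    (hρn : ρ ∈ Subgroup.normalizer (V : Set G) ⊓ Subgroup.normalizer (T : Set G))
    (htρ : t * ρ = ρ * t) (htV : t ∈ Subgroup.centralizer (V : Set G))
    (hVρ : ⁅V, Subgroup.zpowers ρ⁆ = V)
    (hCt : T ⊓ Subgroup.centralizer ({t} : Set G) = V) :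
    ∃ r s : MulAut ↥T, (∀ x, r (r (r x)) = x) ∧ (∀ x, s (s x) = x) ∧ (∀ x, r (s x) = s (r x)) ∧
      (∀ x, s x = x → r x = x → x = 1) ∧ Nat.card {x : ↥T // s x = x} = 4 := by
  have hρ3 : ρ ^ 3 = 1 := by rw [← hρ]; exact pow_orderOf_eq_one ρ
  have ht2 : t ^ 2 = 1 := by rw [← ht]; exact pow_orderOf_eq_one t
  have hρ3' : ρ * ρ * ρ = 1 := by rw [← hρ3]; simp [pow_succ]
  have ht2' : t * t = 1 := by rw [← ht2]; simp [pow_succ]
  have hsfix : ∀ x : ↥T, conjAut T t htn.2 x = x → (x : G) ∈ V := by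
    intro x hx
    have h1 : t * (x : G) * t⁻¹ = x := congrArg Subtype.val hx
    rw [← hCt]
    refine Subgroup.mem_inf.mpr ⟨x.2, ?_⟩
    rw [Subgroup.mem_centralizer_singleton_iff]
    calc (x : G) * t = (t * x * t⁻¹) * t := by rw [h1]
      _ = t * x := by group
  refine ⟨conjAut T ρ hρn.2, conjAut T t htn.2, ?_, ?_, ?_, ?_, ?_⟩
  · intro x
    apply Subtype.ext
    show ρ * (ρ * (ρ * x * ρ⁻¹) * ρ⁻¹) * ρ⁻¹ = x
    calc ρ * (ρ * (ρ * (x : G) * ρ⁻¹) * ρ⁻¹) * ρ⁻¹ = (ρ * ρ * ρ) * x * (ρ * ρ * ρ)⁻¹ := by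
          simp only [mul_assoc, mul_inv_rev]
      _ = x := by rw [hρ3']; simp
  · intro x
    apply Subtype.ext
    show t * (t * x * t⁻¹) * t⁻¹ = x
    calc t * (t * (x : G) * t⁻¹) * t⁻¹ = (t * t) * x * (t * t)⁻¹ := by
          simp only [mul_assoc, mul_inv_rev]
      _ = x := by rw [ht2']; simp
  · intro x
    apply Subtype.ext
    show ρ * (t * x * t⁻¹) * ρ⁻¹ = t * (ρ * x * ρ⁻¹) * t⁻¹
    calc ρ * (t * (x : G) * t⁻¹) * ρ⁻¹ = (ρ * t) * x * (ρ * t)⁻¹ := by group
      _ = (t * ρ) * x * (t * ρ)⁻¹ := by rw [htρ]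
      _ = t * (ρ * x * ρ⁻¹) * t⁻¹ := by group
  · intro x hs hr
    by_contra hx1
    have hxV := hsfix x hs
    have hx1' : (x : G) ≠ 1 := fun h => hx1 (Subtype.ext h)
    have hrx : ρ * (x : G) * ρ⁻¹ = x := congrArg Subtype.val hr
    have hall := centralizes_of_fix V hV.1 ρ hρ3 hρn.1 x hxV hx1' hrx
    have hle : V ≤ Subgroup.centralizer (Subgroup.zpowers ρ : Set G) := by
      intro w hw
      rw [Subgroup.mem_centralizer_iff]
      intro h hh
      obtain ⟨k, rfl⟩ := Subgroup.mem_zpowers_iff.mp hh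
      have hc : Commute ρ w := by
        have := hall w hw
        show ρ * w = w * ρ
        calc ρ * w = (ρ * w * ρ⁻¹) * ρ := by group
          _ = w * ρ := by rw [this]
      exact (hc.zpow_left k).eq
    have hbot : ⁅V, Subgroup.zpowers ρ⁆ = ⊥ :=
      Subgroup.commutator_eq_bot_iff_le_centralizer.mpr hle
    rw [hbot] at hVρ
    have : Nat.card ↥V = 1 := by rw [← hVρ]; exact Subgroup.card_bot
    omega
  · have e : {x : ↥T // conjAut T t htn.2 x = x} ≃ ↥V :=
      { toFun := fun x => ⟨(x.1 : G), hsfix x.1 x.2⟩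
        invFun := fun v => ⟨⟨v.1, (hVT v.2).1⟩, by
          apply Subtype.ext
          show t * (v : G) * t⁻¹ = v
          have hc : (v : G) * t = t * v := (Subgroup.mem_centralizer_iff.mp htV) v v.2
          calc t * (v : G) * t⁻¹ = ((v : G) * t) * t⁻¹ := by rw [hc]
            _ = v := by group⟩
        left_inv := fun x => rfl
        right_inv := fun v => rfl }
    rw [Nat.card_congr e]
    exact hV.1

end Cfsg.Agent.Lib.Helper49_S2933_RED
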