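import Mathlib
import Cfsg.Agent.Lib.Helper49_S2933Defs
import Cfsg.Agent.Lib.Helper76_S3157Defs

/-!
# Helper50_S2933_REL

S2933, package REL: from `HypR T ρ` and canonical generators `Canon ρ x y a` to the
power-commutator relations `PC64 x (ρ x) y (ρ y) a (ρ a)` and generation of `T`.
-/

set_option autoImplicit false

open scoped commutatorElement
open Cfsg.Agent.Lib.Helper49_S2933Defs Cfsg.Agent.Lib.Helper76_S3157Defs

namespace Cfsg.Agent.Lib.Helper50_S2933_REL

variable {T : Type*} [Group T]

/-- `⁅u, v⁆ = c` with `c` central and `c * c = 1` gives `v * u = u * v * c`. -/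
theorem swap_of_comm {u v c : T} (h : ⁅u, v⁆ = c) (hc : ∀ t : T, c * t = t * c)
    (hc2 : c * c = 1) : v * u = u * v * c := by
  have h1 : u * v = c * (v * u) := by
    rw [← h, commutatorElement_def]; group
  calc v * u = c * c * (v * u) := by rw [hc2, one_mul]
    _ = c * (c * (v * u)) := by rw [mul_assoc]
    _ = c * (u * v) := by rw [← h1]
    _ = u * v * c := hc _

/-- A `ρ`-invariant subgroup has order `1`, `4`, `16` or `64`. -/
theorem card_invariant [Finite T] {ρ : MulAut T} (h : HypR T ρ) (S : Subgroup T)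
    (hS : ∀ t ∈ S, ρ t ∈ S) :
    Nat.card S = 1 ∨ Nat.card S = 4 ∨ Nat.card S = 16 ∨ Nat.card S = 64 := by
  classical
  have hdvd : Nat.card S ∣ 2 ^ 6 := by
    have := Subgroup.card_subgroup_dvd_card S
    rw [h.card] at this
    exact this
  have hmod : Nat.card S ≡ 1 [MOD 3] := by
    have _ : Fintype S := Fintype.ofFinite S
    let f : Function.End S := fun t => ⟨ρ t.1, hS t.1 t.2⟩
    have hf : f ^ 3 ^ 1 = 1 := by
      funext t
      apply Subtype.ext
      change ((f * f * f) t : T) = t
      change ρ (ρ (ρ t.1)) = t.1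
      exact h.rho3 _
    have _ : Fact (Nat.Prime 3) := ⟨by norm_num⟩
    have h1 := Equiv.Perm.card_fixedPoints_modEq (p := 3) (n := 1) hf
    have h2 : Fintype.card (Function.fixedPoints f) = 1 := by
      rw [Fintype.card_eq_one_iff]
      refine ⟨⟨1, ?_⟩, ?_⟩
      · change f 1 = 1
        apply Subtype.ext
        change ρ 1 = 1
        exact map_one ρ
      · rintro ⟨t, ht⟩
        apply Subtype.ext
        have ht' : f t = t := ht
        have h3 : ρ t.1 = t.1 := congrArg Subtype.val ht'
        have h4 := h.fpf _ h3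
        exact Subtype.ext h4
    rw [h2, ← Nat.card_eq_fintype_card] at h1
    exact h1
  obtain ⟨k, hk, hk2⟩ := (Nat.dvd_prime_pow Nat.prime_two).mp hdvd
  rw [hk2] at hmod ⊢
  interval_cases k
  · left; rfl
  · exfalso; revert hmod; decide
  · right; left; rfl
  · exfalso; revert hmod; decide
  · right; right; left; rfl
  · exfalso; revert hmod; decide
  · right; right; right; rfl

/-- If `ρ` maps a generating set into the closure, the closure is `ρ`-invariant. -/
theorem closure_invariant (ρ : MulAut T) (s : Set T)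
    (hs : ∀ t ∈ s, ρ t ∈ Subgroup.closure s) : ∀ t ∈ Subgroup.closure s, ρ t ∈ Subgroup.closure s := by
  intro t ht
  induction ht using Subgroup.closure_induction with
  | mem t ht => exact hs t ht
  | one => rw [map_one]; exact Subgroup.one_mem _
  | mul a b _ _ iha ihb => rw [map_mul]; exact Subgroup.mul_mem _ iha ihb
  | inv a _ iha => rw [map_inv]; exact Subgroup.inv_mem _ iha

theorem card_lt_of_lt [Finite T] {A B : Subgroup T} (hAB : A ≤ B) (t : T) (htB : t ∈ B)
    (htA : t ∉ A) : Nat.card A < Nat.card B := by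
  have hlt : A < B := lt_of_le_of_ne hAB (fun he => htA (he ▸ htB))
  exact Set.Finite.card_lt_card (Set.toFinite _) hlt

theorem pc64_of_canon [Finite T] {ρ : MulAut T} (h : HypR T ρ)
    (x y a : T) (hc : Canon ρ x y a) :
    PC64 x (ρ x) y (ρ y) a (ρ a) ∧
      Subgroup.closure ({x, ρ x, y, ρ y, a, ρ a} : Set T) = ⊤ := by
  obtain ⟨ha1, hx2, hxy, hy2⟩ := hc
  have haZ : a ∈ Subgroup.center T := hx2 ▸ h.sq x
  have hraZ : ρ a ∈ Subgroup.center T := h.rhoZ a haZ
  have haa : a * a = 1 := by have := h.z2 a haZ; rwa [pow_two] at this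
  have hraa : ρ a * ρ a = 1 := by rw [← map_mul, haa, map_one]
  have hac : ∀ t : T, a * t = t * a := fun t => (Subgroup.mem_center_iff.mp haZ t).symm
  have hrac : ∀ t : T, ρ a * t = t * ρ a := fun t => (Subgroup.mem_center_iff.mp hraZ t).symm
  have hcc : (a * ρ a) * (a * ρ a) = 1 := by
    calc (a * ρ a) * (a * ρ a) = a * (ρ a * a) * ρ a := by group
      _ = a * (a * ρ a) * ρ a := by rw [hrac a]
      _ = (a * a) * (ρ a * ρ a) := by group
      _ = 1 := by rw [haa, hraa, one_mul]
  have hccc : ∀ t : T, (a * ρ a) * t = t * (a * ρ a) := by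
    intro t
    rw [mul_assoc, hrac t, ← mul_assoc, hac t, mul_assoc]
  have hrra : ρ (ρ a) = a * ρ a := by
    have h1 := h.zprod a haZ
    calc ρ (ρ a) = (a * ρ a) * (a * ρ a) * ρ (ρ a) := by rw [hcc, one_mul]
      _ = (a * ρ a) * (a * ρ a * ρ (ρ a)) := by group
      _ = a * ρ a := by rw [h1, mul_one]
  have hxx : x * x = a := by rw [← pow_two]; exact hx2
  have hyy : y * y = a * ρ a := by rw [← pow_two, hy2, hrra]
  have hxrx : x * ρ x = ρ x * x := comm_rho ρ h.rho3 h.fpf x
  have hyry : y * ρ y = ρ y * y := comm_rho ρ h.rho3 h.fpf y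
  have hpc : PC64 x (ρ x) y (ρ y) a (ρ a) := by
    refine ⟨haa, hraa, hac, hrac, hxx, ?_, hyy, ?_, hxrx.symm, hyry.symm, ?_, ?_, ?_, ?_⟩
    · rw [← map_mul, hxx]
    · rw [← map_mul, hyy, ← hrra, h.rho3]
    · exact swap_of_comm hxy hac haa
    · refine swap_of_comm ?_ hccc hcc
      rw [h.comm_r, hxy, hrra]
    · refine swap_of_comm ?_ hccc hcc
      rw [h.comm_l, hxy, hrra]
    · refine swap_of_comm ?_ hrac hraa
      rw [← map_commutatorElement, hxy]
  refine ⟨hpc, ?_⟩
  -- generation
  set H : Subgroup T := Subgroup.closure ({x, ρ x, y, ρ y, a, ρ a} : Set T) with hH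
  set K : Subgroup T := Subgroup.closure ({x, ρ x, a, ρ a} : Set T) with hK
  set Z0 : Subgroup T := Subgroup.closure ({a, ρ a} : Set T) with hZ0
  have hrrx : ρ (ρ x) = (x * ρ x)⁻¹ := rho_rho ρ h.rho3 h.fpf x
  have hrry : ρ (ρ y) = (y * ρ y)⁻¹ := rho_rho ρ h.rho3 h.fpf y
  -- invariance
  have hHinv : ∀ t ∈ H, ρ t ∈ H := by
    apply closure_invariant
    intro t ht
    have mx : x ∈ H := Subgroup.subset_closure (by simp)
    have mrx : ρ x ∈ H := Subgroup.subset_closure (by simp)
    have my : y ∈ H := Subgroup.subset_closure (by simp)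
    have mry : ρ y ∈ H := Subgroup.subset_closure (by simp)
    have ma : a ∈ H := Subgroup.subset_closure (by simp)
    have mra : ρ a ∈ H := Subgroup.subset_closure (by simp)
    simp only [Set.mem_insert_iff, Set.mem_singleton_iff] at ht
    rcases ht with rfl | rfl | rfl | rfl | rfl | rfl
    · exact mrx
    · rw [hrrx]; exact H.inv_mem (H.mul_mem mx mrx)
    · exact mry
    · rw [hrry]; exact H.inv_mem (H.mul_mem my mry)
    · exact mra
    · rw [hrra]; exact H.mul_mem ma mra
  have hKinv : ∀ t ∈ K, ρ t ∈ K := by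
    apply closure_invariant
    intro t ht
    have mx : x ∈ K := Subgroup.subset_closure (by simp)
    have mrx : ρ x ∈ K := Subgroup.subset_closure (by simp)
    have ma : a ∈ K := Subgroup.subset_closure (by simp)
    have mra : ρ a ∈ K := Subgroup.subset_closure (by simp)
    simp only [Set.mem_insert_iff, Set.mem_singleton_iff] at ht
    rcases ht with rfl | rfl | rfl | rfl
    · exact mrx
    · rw [hrrx]; exact K.inv_mem (K.mul_mem mx mrx)
    · exact mra
    · rw [hrra]; exact K.mul_mem ma mra
  have hZinv : ∀ t ∈ Z0, ρ t ∈ Z0 := by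
    apply closure_invariant
    intro t ht
    have ma : a ∈ Z0 := Subgroup.subset_closure (by simp)
    have mra : ρ a ∈ Z0 := Subgroup.subset_closure (by simp)
    simp only [Set.mem_insert_iff, Set.mem_singleton_iff] at ht
    rcases ht with rfl | rfl
    · exact mra
    · rw [hrra]; exact Z0.mul_mem ma mra
  -- containments
  have hZK : Z0 ≤ K := Subgroup.closure_mono (by
    intro t ht
    simp only [Set.mem_insert_iff, Set.mem_singleton_iff] at ht ⊢
    tauto)
  have hKH : K ≤ H := Subgroup.closure_mono (by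
    intro t ht
    simp only [Set.mem_insert_iff, Set.mem_singleton_iff] at ht ⊢
    tauto)
  have hZc : Z0 ≤ Subgroup.center T := by
    rw [hZ0, Subgroup.closure_le]
    intro t ht
    simp only [Set.mem_insert_iff, Set.mem_singleton_iff] at ht
    rcases ht with rfl | rfl
    · exact haZ
    · exact hraZ
  have hxyne : x * y ≠ y * x := by
    intro he
    apply ha1
    rw [← hxy, commutatorElement_def, he]; group
  have hxZ : x ∉ Subgroup.center T := by
    intro hx
    exact hxyne ((Subgroup.mem_center_iff.mp hx y).symm)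
  have hKc : K ≤ Subgroup.centralizer ({x} : Set T) := by
    rw [hK, Subgroup.closure_le]
    intro t ht
    simp only [Set.mem_insert_iff, Set.mem_singleton_iff] at ht
    rw [SetLike.mem_coe, Subgroup.mem_centralizer_iff]
    intro u hu
    rw [Set.mem_singleton_iff] at hu
    subst hu
    rcases ht with rfl | rfl | rfl | rfl
    · rfl
    · exact hxrx
    · exact (hac u).symm
    · exact (hrac u).symm
  have hyK : y ∉ K := by
    intro hy
    have := hKc hy
    rw [Subgroup.mem_centralizer_iff] at this
    exact hxyne (this x rfl)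
  -- cardinalities
  have c1 : 1 < Nat.card Z0 := by
    have : Nat.card (⊥ : Subgroup T) < Nat.card Z0 :=
      card_lt_of_lt bot_le a (Subgroup.subset_closure (by simp)) (by
        rw [Subgroup.mem_bot]; exact ha1)
    simpa using this
  have c2 : Nat.card Z0 < Nat.card K :=
    card_lt_of_lt hZK x (Subgroup.subset_closure (by simp)) (fun hx => hxZ (hZc hx))
  have c3 : Nat.card K < Nat.card H :=
    card_lt_of_lt hKH y (Subgroup.subset_closure (by simp)) hyK
  have d1 := card_invariant h Z0 hZinv
  have d2 := card_invariant h K hKinv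
  have d3 := card_invariant h H hHinv
  have hcard : Nat.card H = Nat.card T := by
    rw [h.card]; omega
  exact Subgroup.card_eq_iff_eq_top H |>.mp hcard

end Cfsg.Agent.Lib.Helper50_S2933_REL
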