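import Mathlib
import Cfsg.Agent.Lib.Helper49_S2933Defs

/-!
# S2933-NAQ (architect helper49; formalized by helper5)

The hypotheses of the abelian case pass to the abelianization `T ⧸ T'`: `r̄³ = 1`, `r̄` is
fixed-point-free, `s̄² = 1`, they commute, and `s̄` has at most 4 fixed points.
-/

set_option autoImplicit false
set_option linter.unusedVariables false

open scoped commutatorElement
open Cfsg.Agent.Lib.Helper49_S2933Defs

namespace Cfsg.Agent.Lib.Helper5_S2933_NAQ

/-- the number of fixed points of the automorphism induced on a quotient `T ⧸ N` -/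
theorem card_fixed_quot_le {T : Type*} [Group T] [Finite T] (s : MulAut T) (m : ℕ)
    (hC : Nat.card {x : T // s x = x} ≤ m) :
    Nat.card {a : Abelianization T // s.abelianizationCongr a = a} ≤ m := by
  classical
  have hsurj : Function.Surjective (Abelianization.of : T → Abelianization T) :=
    QuotientGroup.mk_surjective
  -- the subgroup of fixed points and its preimage
  let F : Subgroup (Abelianization T) :=
    (s.abelianizationCongr.toMonoidHom).eqLocus (MonoidHom.id (Abelianization T))
  have hF : ∀ a : Abelianization T, a ∈ F ↔ s.abelianizationCongr a = a := fun a => Iff.rfl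
  let D : Subgroup T := F.comap Abelianization.of
  have hD : ∀ x : T, x ∈ D ↔ Abelianization.of (s x) = Abelianization.of x := by
    intro x
    show Abelianization.of x ∈ F ↔ _
    rw [hF, abelianizationCongr_of]
  have hcardF : Nat.card {a : Abelianization T // s.abelianizationCongr a = a} = Nat.card F :=
    Nat.card_congr (Equiv.subtypeEquivRight (fun a => (hF a).symm))
  rw [hcardF]
  -- `|D| = |F| * |T'|`
  have hidx : D.index = F.index := Subgroup.index_comap_of_surjective F hsurj
  have h1 : Nat.card D * D.index = Nat.card T := Subgroup.card_mul_index D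
  have h2 : Nat.card F * F.index = Nat.card (Abelianization T) := Subgroup.card_mul_index F
  have h3 : Nat.card T = Nat.card (Abelianization T) * Nat.card (commutator T) :=
    Subgroup.card_eq_card_quotient_mul_card_subgroup (commutator T)
  have hidx0 : 0 < F.index := Nat.pos_of_ne_zero Subgroup.index_ne_zero_of_finite
  have hA : Nat.card D = Nat.card F * Nat.card (commutator T) := by
    have h4 : Nat.card D * F.index = Nat.card F * Nat.card (commutator T) * F.index := by
      rw [← hidx, h1, h3, ← h2, ← hidx]
      ring
    exact Nat.eq_of_mul_eq_mul_right hidx0 h4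
  -- `|D| ≤ m * |T'|`
  have hB : Nat.card D ≤ m * Nat.card (commutator T) := by
    have := Fintype.ofFinite T
    have := Fintype.ofFinite D
    have := Fintype.ofFinite (commutator T)
    have hmem : ∀ x : D, (x : T)⁻¹ * s (x : T) ∈ commutator T := by
      intro x
      have h5 := (hD x).mp x.2
      rw [← Abelianization.ker_of, MonoidHom.mem_ker, map_mul, map_inv, h5, inv_mul_cancel]
    let f : D → commutator T := fun x => ⟨(x : T)⁻¹ * s (x : T), hmem x⟩
    have hfib : ∀ z ∈ (Finset.univ : Finset (commutator T)),
        ((Finset.univ : Finset D).filter (fun x => f x = z)).card ≤ m := by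
      intro z _
      by_cases hne : ((Finset.univ : Finset D).filter (fun x => f x = z)).Nonempty
      · obtain ⟨x₀, hx₀⟩ := hne
        rw [Finset.mem_filter] at hx₀
        have hz₀ : (x₀ : T)⁻¹ * s (x₀ : T) = (z : T) := congrArg Subtype.val hx₀.2
        have hcardC : (Finset.univ.filter (fun t : T => s t = t)).card ≤ m := by
          rw [← Fintype.card_subtype, ← Nat.card_eq_fintype_card]
          exact hC
        refine le_trans ?_ hcardC
        apply Finset.card_le_card_of_injOn (fun x : D => (x : T) * (x₀ : T)⁻¹)
        · intro x hx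
          rw [Finset.coe_filter] at hx
          have hz : (x : T)⁻¹ * s (x : T) = (z : T) := congrArg Subtype.val hx.2
          rw [Finset.coe_filter]
          refine ⟨Finset.mem_univ _, ?_⟩
          have e1 : s (x : T) = (x : T) * (z : T) := by rw [← hz]; group
          have e2 : s (x₀ : T) = (x₀ : T) * (z : T) := by rw [← hz₀]; group
          show s ((x : T) * (x₀ : T)⁻¹) = (x : T) * (x₀ : T)⁻¹
          rw [map_mul, map_inv, e1, e2]
          group
        · intro x _ y _ hxy
          apply Subtype.ext
          exact mul_right_cancel hxy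
      · rw [Finset.not_nonempty_iff_eq_empty] at hne
        rw [hne, Finset.card_empty]
        exact Nat.zero_le _
    have h6 := Finset.card_le_mul_card_image_of_maps_to
      (f := f) (s := (Finset.univ : Finset D)) (t := (Finset.univ : Finset (commutator T)))
      (fun a _ => Finset.mem_univ _) m hfib
    rw [Finset.card_univ, Finset.card_univ, ← Nat.card_eq_fintype_card,
      ← Nat.card_eq_fintype_card] at h6
    exact h6
  have hpos : 0 < Nat.card (commutator T) := Nat.card_pos
  rw [hA] at hB
  exact Nat.le_of_mul_le_mul_right hB hpos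

theorem quot_hyp {T : Type*} [Group T] [Finite T] (hT : IsPGroup 2 T) (r s : MulAut T)
    (h3 : ∀ x, r (r (r x)) = x) (hfp : ∀ x, r x = x → x = 1) (h2 : ∀ x, s (s x) = x)
    (hc : ∀ x, r (s x) = s (r x)) (hcl : ∀ a b : T, ⁅a, b⁆ ∈ Subgroup.center T)
    (hC : Nat.card {x : T // s x = x} ≤ 4) :
    (∀ a : Abelianization T,
      r.abelianizationCongr (r.abelianizationCongr (r.abelianizationCongr a)) = a) ∧
    (∀ a : Abelianization T, r.abelianizationCongr a = a → a = 1) ∧
    (∀ a : Abelianization T, s.abelianizationCongr (s.abelianizationCongr a) = a) ∧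
    (∀ a : Abelianization T,
      r.abelianizationCongr (s.abelianizationCongr a) =
        s.abelianizationCongr (r.abelianizationCongr a)) ∧
    Nat.card {a : Abelianization T // s.abelianizationCongr a = a} ≤ 4 := by
  have hsurj : ∀ a : Abelianization T, ∃ x : T, Abelianization.of x = a :=
    fun a => QuotientGroup.mk_surjective a
  refine ⟨?_, ?_, ?_, ?_, card_fixed_quot_le s 4 hC⟩
  · intro a
    obtain ⟨x, rfl⟩ := hsurj a
    rw [abelianizationCongr_of, abelianizationCongr_of, abelianizationCongr_of, h3]
  · intro a ha
    obtain ⟨x, rfl⟩ := hsurj a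
    have hp := prod3 r h3 hfp x
    have h1 : Abelianization.of x * Abelianization.of (r x) * Abelianization.of (r (r x)) = 1 := by
      rw [← map_mul, ← map_mul, hp, map_one]
    have h4 : Abelianization.of (r x) = Abelianization.of x := by
      rw [← abelianizationCongr_of]; exact ha
    have h5 : Abelianization.of (r (r x)) = Abelianization.of x := by
      rw [← abelianizationCongr_of, h4]; exact ha
    rw [h4, h5] at h1
    obtain ⟨k, hk⟩ := (IsPGroup.iff_orderOf.mp hT) x
    have h6 : (Abelianization.of x) ^ (2 ^ k) = 1 := by
      rw [← map_pow, ← hk, pow_orderOf_eq_one, map_one]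
    have h7 : (Abelianization.of x) ^ 3 = 1 := by
      rw [pow_succ, pow_two]; exact h1
    have h8 : orderOf (Abelianization.of x) ∣ Nat.gcd 3 (2 ^ k) :=
      Nat.dvd_gcd (orderOf_dvd_of_pow_eq_one h7) (orderOf_dvd_of_pow_eq_one h6)
    have h9 : Nat.gcd 3 (2 ^ k) = 1 := Nat.Coprime.pow_right k (by norm_num)
    rw [h9, Nat.dvd_one, orderOf_eq_one_iff] at h8
    exact h8
  · intro a
    obtain ⟨x, rfl⟩ := hsurj a
    rw [abelianizationCongr_of, abelianizationCongr_of, h2]
  · intro a
    obtain ⟨x, rfl⟩ := hsurj a
    rw [abelianizationCongr_of, abelianizationCongr_of, abelianizationCongr_of,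
      abelianizationCongr_of, hc]

end Cfsg.Agent.Lib.Helper5_S2933_NAQ
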