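import Mathlib
import Cfsg.Agent.Lib.Helper49_S2933Defs
import Cfsg.Agent.Lib.Helper76_S3157Defs
import Cfsg.Agent.S1141

/-!
# S2933 package ABG (architect helper49): an abelian 2-group with a fixed-point-free automorphism of
order 3 and at most four elements of order at most two is generated by `x` and `r x`, independently
-/

set_option autoImplicit false

open scoped commutatorElement
open Cfsg.Agent.Lib.Helper49_S2933Defs Cfsg.Agent.Lib.Helper76_S3157Defs Cfsg.Agent.S1141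
  Cfsg.Agent.Lib.Helper5_SUOrder

namespace Cfsg.Agent.Lib.Helper60_S2933_ABG

/-- rearranging a product of four commuting factors -/
theorem mul4 {A : Type*} [Group A] (hab : ∀ a b : A, a * b = b * a) (a b c d : A) :
    (a * b) * (c * d) = (a * c) * (b * d) := by
  rw [mul_assoc, ← mul_assoc b c d, hab b c, mul_assoc, ← mul_assoc]

theorem mul_pow' {A : Type*} [Group A] (hab : ∀ a b : A, a * b = b * a) (a b : A) (n : ℕ) :
    (a * b) ^ n = a ^ n * b ^ n :=
  Commute.mul_pow (show Commute a b from hab a b) n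

/-- the involution of a cyclic group of order `2 ^ (k + 1)` -/
theorem invol_unique {A : Type*} [Group A] {w : A} {k : ℕ} (hw : orderOf w = 2 ^ (k + 1)) (e : ℕ)
    (h2 : (w ^ e) ^ 2 = 1) (h1 : w ^ e ≠ 1) : w ^ e = w ^ 2 ^ k := by
  have hd : 2 ^ (k + 1) ∣ e * 2 := by
    rw [← hw]
    apply orderOf_dvd_of_pow_eq_one
    rw [pow_mul]; exact h2
  have hd' : 2 ^ k ∣ e := by
    rw [pow_succ] at hd
    exact Nat.dvd_of_mul_dvd_mul_right (by norm_num) hd
  obtain ⟨c, rfl⟩ := hd'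
  have hu2 : (w ^ 2 ^ k) ^ 2 = 1 := by
    rw [← pow_mul, ← pow_succ, ← hw]; exact pow_orderOf_eq_one w
  rw [pow_mul] at h1 ⊢
  rcases Nat.even_or_odd' c with ⟨c', rfl | rfl⟩
  · exfalso
    apply h1
    rw [pow_mul, hu2, one_pow]
  · rw [pow_succ, pow_mul, hu2, one_pow, one_mul]

theorem ab_gen {A : Type*} [Group A] [Finite A] (hab : ∀ a b : A, a * b = b * a)
    (hA : IsPGroup 2 A) (r : MulAut A) (h3 : ∀ a, r (r (r a)) = a)
    (hfp : ∀ a, r a = a → a = 1) (hΩ : Nat.card {a : A // a ^ 2 = 1} ≤ 4) :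
    ∃ (x : A) (n : ℕ), orderOf x = 2 ^ n ∧ orderOf (r x) = 2 ^ n ∧
      (∀ a : A, ∃ i j : ℕ, a = x ^ i * r x ^ j) ∧
      (∀ i j : ℕ, x ^ i * r x ^ j = 1 → x ^ i = 1 ∧ r x ^ j = 1) := by
  classical
  have : Fact (Nat.Prime 2) := ⟨Nat.prime_two⟩
  have hord : ∀ g : A, ∃ k : ℕ, orderOf g = 2 ^ k := IsPGroup.iff_orderOf.1 hA
  obtain ⟨x, hxmax⟩ := Finite.exists_max (fun a : A => orderOf a)
  obtain ⟨n, hn⟩ := hord x
  have hy : orderOf (r x) = 2 ^ n := by rw [MulEquiv.orderOf_eq, hn]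
  have hall : ∀ a : A, a ^ 2 ^ n = 1 := by
    intro a
    obtain ⟨k, hk⟩ := hord a
    have hle : 2 ^ k ≤ 2 ^ n := by rw [← hk, ← hn]; exact hxmax a
    have hkn : k ≤ n := (Nat.pow_le_pow_iff_right (by norm_num)).1 hle
    apply orderOf_dvd_iff_pow_eq_one.1
    rw [hk]
    exact pow_dvd_pow 2 hkn
  refine ⟨x, n, hn, hy, ?_⟩
  rcases Nat.eq_zero_or_pos n with rfl | hnpos
  · -- the trivial group
    have htriv : ∀ a : A, a = 1 := by
      intro a
      have := hall a
      simpa using this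
    refine ⟨fun a => ⟨0, 0, by rw [htriv a]; simp⟩, fun i j _ => ?_⟩
    rw [htriv x, map_one, one_pow, one_pow]
    exact ⟨rfl, rfl⟩
  obtain ⟨k, rfl⟩ : ∃ k, n = k + 1 := ⟨n - 1, by omega⟩
  -- the involutions
  have hz2 : (x ^ 2 ^ k) ^ 2 = 1 := by
    rw [← pow_mul, ← pow_succ]; exact hall x
  have hz1 : x ^ 2 ^ k ≠ 1 := by
    apply pow_ne_one_of_lt_orderOf (by positivity)
    rw [hn]
    exact Nat.pow_lt_pow_right (by norm_num) (Nat.lt_succ_self k)
  have hrz : r (x ^ 2 ^ k) = r x ^ 2 ^ k := map_pow r x _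
  have hrz2 : (r x ^ 2 ^ k) ^ 2 = 1 := by
    rw [← pow_mul, ← pow_succ]; exact hall (r x)
  have hrz1 : r x ^ 2 ^ k ≠ 1 := by
    rw [← hrz]
    intro h
    exact hz1 ((MulEquiv.map_eq_one_iff r).1 h)
  have hzne : x ^ 2 ^ k ≠ r x ^ 2 ^ k := by
    intro h
    apply hz1
    apply hfp
    rw [hrz, ← h]
  -- independence
  have hind : ∀ i j : ℕ, x ^ i * r x ^ j = 1 → x ^ i = 1 ∧ r x ^ j = 1 := by
    intro i j hij
    by_cases hxi : x ^ i = 1
    · refine ⟨hxi, ?_⟩
      rw [hxi, one_mul] at hij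
      exact hij
    exfalso
    obtain ⟨t, ht⟩ := hord (x ^ i)
    have htpos : 0 < t := by
      rcases Nat.eq_zero_or_pos t with rfl | h
      · exact absurd (orderOf_eq_one_iff.1 (by simpa using ht)) hxi
      · exact h
    obtain ⟨s, rfl⟩ : ∃ s, t = s + 1 := ⟨t - 1, by omega⟩
    have hw2 : ((x ^ i) ^ 2 ^ s) ^ 2 = 1 := by
      rw [← pow_mul, ← pow_succ, ← ht]; exact pow_orderOf_eq_one _
    have hw1 : (x ^ i) ^ 2 ^ s ≠ 1 := by
      apply pow_ne_one_of_lt_orderOf (by positivity)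
      rw [ht]
      exact Nat.pow_lt_pow_right (by norm_num) (Nat.lt_succ_self s)
    have e1 : (x ^ i) ^ 2 ^ s = x ^ 2 ^ k := by
      have hq : (x ^ i) ^ 2 ^ s = x ^ (i * 2 ^ s) := (pow_mul x i (2 ^ s)).symm
      rw [hq] at hw2 hw1 ⊢
      exact invol_unique hn _ hw2 hw1
    have hyj : r x ^ j = (x ^ i)⁻¹ := eq_inv_of_mul_eq_one_right hij
    have hwinv : ((x ^ i) ^ 2 ^ s)⁻¹ = (x ^ i) ^ 2 ^ s := by
      rw [inv_eq_iff_mul_eq_one, ← pow_two]; exact hw2
    have e2 : (x ^ i) ^ 2 ^ s = (r x ^ j) ^ 2 ^ s := by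
      rw [hyj, inv_pow, hwinv]
    have e3 : (r x ^ j) ^ 2 ^ s = r x ^ 2 ^ k := by
      have hw2' := hw2
      have hw1' := hw1
      have hq : (r x ^ j) ^ 2 ^ s = r x ^ (j * 2 ^ s) := (pow_mul (r x) j (2 ^ s)).symm
      rw [e2, hq] at hw2' hw1'
      rw [hq]
      exact invol_unique hy _ hw2' hw1'
    exact hzne (by rw [← e1, e2, e3])
  refine ⟨?_, hind⟩
  -- the elements of order at most two
  have hzz2 : (x ^ 2 ^ k * r x ^ 2 ^ k) ^ 2 = 1 := by
    rw [mul_pow' hab, hz2, hrz2, one_mul]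
  have hzinv : (x ^ 2 ^ k)⁻¹ = x ^ 2 ^ k := by
    rw [inv_eq_iff_mul_eq_one, ← pow_two]; exact hz2
  have hS : ∀ c : A, c ^ 2 = 1 →
      c = 1 ∨ c = x ^ 2 ^ k ∨ c = r x ^ 2 ^ k ∨ c = x ^ 2 ^ k * r x ^ 2 ^ k := by
    have : Fintype A := Fintype.ofFinite A
    let S : Finset A := {1, x ^ 2 ^ k, r x ^ 2 ^ k, x ^ 2 ^ k * r x ^ 2 ^ k}
    have hScard : S.card = 4 := by
      have n1 : (1 : A) ∉ ({x ^ 2 ^ k, r x ^ 2 ^ k, x ^ 2 ^ k * r x ^ 2 ^ k} : Finset A) := by
        simp only [Finset.mem_insert, Finset.mem_singleton, not_or]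
        refine ⟨fun h => hz1 h.symm, fun h => hrz1 h.symm, fun h => ?_⟩
        apply hzne
        rw [← hzinv]
        exact (eq_inv_of_mul_eq_one_right h.symm).symm ▸ rfl
      have n2 : x ^ 2 ^ k ∉ ({r x ^ 2 ^ k, x ^ 2 ^ k * r x ^ 2 ^ k} : Finset A) := by
        simp only [Finset.mem_insert, Finset.mem_singleton, not_or]
        refine ⟨hzne, fun h => ?_⟩
        apply hrz1
        have := mul_left_cancel (a := x ^ 2 ^ k) (b := 1) (c := r x ^ 2 ^ k) (by rw [mul_one]; exact h)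
        exact this.symm
      have n3 : r x ^ 2 ^ k ∉ ({x ^ 2 ^ k * r x ^ 2 ^ k} : Finset A) := by
        simp only [Finset.mem_singleton]
        intro h
        apply hz1
        have := mul_right_cancel (a := 1) (b := r x ^ 2 ^ k) (c := x ^ 2 ^ k) (by rw [one_mul]; exact h)
        exact this.symm
      show (insert 1 (insert (x ^ 2 ^ k) (insert (r x ^ 2 ^ k)
        ({x ^ 2 ^ k * r x ^ 2 ^ k} : Finset A)))).card = 4
      rw [Finset.card_insert_of_notMem n1, Finset.card_insert_of_notMem n2,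
        Finset.card_insert_of_notMem n3, Finset.card_singleton]
    have hsub : S ⊆ Finset.univ.filter (fun a : A => a ^ 2 = 1) := by
      intro c hc
      simp only [S, Finset.mem_insert, Finset.mem_singleton] at hc
      rw [Finset.mem_filter]
      refine ⟨Finset.mem_univ _, ?_⟩
      rcases hc with rfl | rfl | rfl | rfl
      · exact one_pow 2
      · exact hz2
      · exact hrz2
      · exact hzz2
    have hcard : (Finset.univ.filter (fun a : A => a ^ 2 = 1)).card ≤ S.card := by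
      rw [hScard, ← Fintype.card_subtype, ← Nat.card_eq_fintype_card]
      exact hΩ
    have heq := Finset.eq_of_subset_of_card_le hsub hcard
    intro c hc
    have hcS : c ∈ S := by
      rw [heq, Finset.mem_filter]
      exact ⟨Finset.mem_univ _, hc⟩
    simpa only [S, Finset.mem_insert, Finset.mem_singleton] using hcS
  -- generation
  have hgen : ∀ m : ℕ, ∀ a : A, a ^ 2 ^ m = 1 → ∃ i j : ℕ, a = x ^ i * r x ^ j := by
    intro m
    induction m with
    | zero =>
      intro a ha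
      refine ⟨0, 0, ?_⟩
      rw [pow_zero, pow_one] at ha
      rw [ha, pow_zero, pow_zero, one_mul]
    | succ m ih =>
      intro a ha
      have ha2 : (a ^ 2) ^ 2 ^ m = 1 := by
        rw [← pow_mul, ← pow_succ']; exact ha
      obtain ⟨i, j, hij⟩ := ih (a ^ 2) ha2
      have h1 : x ^ (i * 2 ^ k) * r x ^ (j * 2 ^ k) = 1 := by
        rw [pow_mul, pow_mul, ← mul_pow' hab, ← hij, ← pow_mul, ← pow_succ']
        exact hall a
      obtain ⟨hi, hj⟩ := hind _ _ h1
      have hi2 : 2 ∣ i := by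
        have hd := orderOf_dvd_of_pow_eq_one hi
        rw [hn, pow_succ, mul_comm i] at hd
        exact Nat.dvd_of_mul_dvd_mul_left (by positivity) hd
      have hj2 : 2 ∣ j := by
        have hd := orderOf_dvd_of_pow_eq_one hj
        rw [hy, pow_succ, mul_comm j] at hd
        exact Nat.dvd_of_mul_dvd_mul_left (by positivity) hd
      obtain ⟨i', rfl⟩ := hi2
      obtain ⟨j', rfl⟩ := hj2
      have hh2 : (x ^ i' * r x ^ j') ^ 2 = a ^ 2 := by
        rw [mul_pow' hab, ← pow_mul, ← pow_mul, mul_comm i', mul_comm j', hij]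
      have hc2 : (a * (x ^ i' * r x ^ j')⁻¹) ^ 2 = 1 := by
        rw [mul_pow' hab, inv_pow, hh2, mul_inv_cancel]
      have hac : a = a * (x ^ i' * r x ^ j')⁻¹ * (x ^ i' * r x ^ j') := by
        rw [inv_mul_cancel_right]
      rcases hS _ hc2 with h | h | h | h
      · refine ⟨i', j', ?_⟩
        rw [hac, h, one_mul]
      · refine ⟨2 ^ k + i', j', ?_⟩
        rw [hac, h, pow_add, mul_assoc]
      · refine ⟨i', 2 ^ k + j', ?_⟩
        rw [hac, h, pow_add, ← mul_assoc, hab (r x ^ 2 ^ k) (x ^ i'), mul_assoc]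
      · refine ⟨2 ^ k + i', 2 ^ k + j', ?_⟩
        rw [hac, h, pow_add, pow_add, mul4 hab]
  intro a
  exact hgen (k + 1) a (hall a)

end Cfsg.Agent.Lib.Helper60_S2933_ABG
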