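import Mathlib
import Cfsg.Agent.Lib.Helper49_S2933Defs
import Cfsg.Agent.Lib.Helper76_S3157Defs
import Cfsg.Agent.S1141

/-!
# S2933 package ABI (architect helper49): internal direct product of two cyclic groups of order `m`
-/

set_option autoImplicit false

open scoped commutatorElement
open Cfsg.Agent.Lib.Helper49_S2933Defs Cfsg.Agent.Lib.Helper76_S3157Defs Cfsg.Agent.S1141
  Cfsg.Agent.Lib.Helper5_SUOrder

namespace Cfsg.Agent.Lib.Helper60_S2933_ABI

theorem ab_iso {A : Type*} [Group A] (hab : ∀ a b : A, a * b = b * a) (x y : A) (m : ℕ)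
    (hm : 0 < m) (hx : orderOf x = m) (hy : orderOf y = m)
    (hgen : ∀ a : A, ∃ i j : ℕ, a = x ^ i * y ^ j)
    (hind : ∀ i j : ℕ, x ^ i * y ^ j = 1 → x ^ i = 1 ∧ y ^ j = 1) :
    Nonempty (A ≃* Multiplicative (ZMod m) × Multiplicative (ZMod m)) := by
  have : NeZero m := ⟨hm.ne'⟩
  have hxm : ∀ k : ℕ, x ^ (k % m) = x ^ k := by
    intro k
    have h := pow_mod_orderOf x k
    rwa [hx] at h
  have hym : ∀ k : ℕ, y ^ (k % m) = y ^ k := by
    intro k
    have h := pow_mod_orderOf y k
    rwa [hy] at h
  have hpx : ∀ a b : ZMod m, x ^ (a + b).val = x ^ a.val * x ^ b.val := by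
    intro a b
    rw [ZMod.val_add, ← pow_add, hxm]
  have hpy : ∀ a b : ZMod m, y ^ (a + b).val = y ^ a.val * y ^ b.val := by
    intro a b
    rw [ZMod.val_add, ← pow_add, hym]
  let φ : Multiplicative (ZMod m) × Multiplicative (ZMod m) →* A :=
    { toFun := fun q => x ^ (Multiplicative.toAdd q.1).val * y ^ (Multiplicative.toAdd q.2).val
      map_one' := by
        show x ^ (0 : ZMod m).val * y ^ (0 : ZMod m).val = 1
        rw [ZMod.val_zero, pow_zero, pow_zero, one_mul]
      map_mul' := by
        intro q q'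
        show x ^ (Multiplicative.toAdd q.1 + Multiplicative.toAdd q'.1).val *
            y ^ (Multiplicative.toAdd q.2 + Multiplicative.toAdd q'.2).val =
          x ^ (Multiplicative.toAdd q.1).val * y ^ (Multiplicative.toAdd q.2).val *
            (x ^ (Multiplicative.toAdd q'.1).val * y ^ (Multiplicative.toAdd q'.2).val)
        rw [hpx, hpy]
        generalize x ^ (Multiplicative.toAdd q.1).val = a
        generalize x ^ (Multiplicative.toAdd q'.1).val = b
        generalize y ^ (Multiplicative.toAdd q.2).val = c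
        generalize y ^ (Multiplicative.toAdd q'.2).val = d
        rw [mul_assoc, mul_assoc, ← mul_assoc b c d, hab b c, mul_assoc] }
  have hinj : Function.Injective φ := by
    rw [injective_iff_map_eq_one]
    rintro ⟨a, b⟩ h
    have h1 := hind _ _ h
    have ha : (Multiplicative.toAdd a).val = 0 := by
      have hd := orderOf_dvd_of_pow_eq_one h1.1
      rw [hx] at hd
      exact Nat.eq_zero_of_dvd_of_lt hd (ZMod.val_lt _)
    have hb : (Multiplicative.toAdd b).val = 0 := by
      have hd := orderOf_dvd_of_pow_eq_one h1.2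
      rw [hy] at hd
      exact Nat.eq_zero_of_dvd_of_lt hd (ZMod.val_lt _)
    have ha' : Multiplicative.toAdd a = 0 := (ZMod.val_eq_zero _).1 ha
    have hb' : Multiplicative.toAdd b = 0 := (ZMod.val_eq_zero _).1 hb
    apply Prod.ext
    · exact ha'
    · exact hb'
  have hsurj : Function.Surjective φ := by
    intro a
    obtain ⟨i, j, rfl⟩ := hgen a
    refine ⟨(Multiplicative.ofAdd (i : ZMod m), Multiplicative.ofAdd (j : ZMod m)), ?_⟩
    show x ^ ((i : ZMod m)).val * y ^ ((j : ZMod m)).val = x ^ i * y ^ j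
    rw [ZMod.val_natCast, ZMod.val_natCast, hxm, hym]
  exact ⟨(MulEquiv.ofBijective φ ⟨hinj, hsurj⟩).symm⟩

end Cfsg.Agent.Lib.Helper60_S2933_ABI
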