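import Mathlib
import Cfsg.Agent.Lib.Helper49_S2933Defs

/-!
# S2933 package ABD (architect helper49): the abelian dichotomy.

An abelian 2-group `A` with a fixed-point-free automorphism `r` of order 3 and a commuting
involutory automorphism `s` with at most 4 fixed points is elementary abelian of order 16, or has
at most 4 elements of order at most 2.
-/

set_option autoImplicit false
set_option linter.unusedVariables false

namespace Cfsg.Agent.Lib.Helper86_S2933_ABD

/-- the order of the domain of a homomorphism is bounded by bounds for kernel and range -/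
theorem card_le_of_hom {G H : Type*} [Group G] [Group H] [Finite G] (f : G →* H) (m n : ℕ)
    (hk : Nat.card f.ker ≤ m) (hr : Nat.card f.range ≤ n) : Nat.card G ≤ m * n := by
  have h1 := Subgroup.card_mul_index f.ker
  rw [Subgroup.index_ker] at h1
  rw [← h1]
  exact Nat.mul_le_mul hk hr

/-- a permutation of prime order `p` of a finite type with exactly one fixed point -/
theorem card_modEq_one {α : Type*} [Finite α] (p : ℕ) [Fact p.Prime] (F : Function.End α)
    (hF : F ^ p = 1) (x0 : α) (hfix : ∀ x, F x = x ↔ x = x0) :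
    Nat.card α ≡ 1 [MOD p] := by
  classical
  cases nonempty_fintype α
  have hF' : F ^ p ^ 1 = 1 := by rw [pow_one]; exact hF
  have h1 := Equiv.Perm.card_fixedPoints_modEq (p := p) (n := 1) hF'
  have h2 : Nat.card (Function.fixedPoints F) = 1 := by
    rw [Nat.card_eq_one_iff_unique]
    refine ⟨⟨?_⟩, ⟨⟨x0, (hfix x0).mpr rfl⟩⟩⟩
    rintro ⟨y, hy⟩ ⟨z, hz⟩
    apply Subtype.ext
    show y = z
    rw [(hfix y).mp hy, (hfix z).mp hz]
  rw [← Nat.card_eq_fintype_card, ← Nat.card_eq_fintype_card, h2] at h1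
  exact h1

section comm

variable {A : Type*} [CommGroup A] [Finite A]

/-- an involutory automorphism has a nontrivial fixed point on every nontrivial invariant subgroup
of a 2-group -/
theorem exists_fixed_ne_one (hA : IsPGroup 2 A) (S : Subgroup A) (hne : S ≠ ⊥) (s : MulAut A)
    (h2 : ∀ a, s (s a) = a) (hinv : ∀ a ∈ S, s a ∈ S) : ∃ x ∈ S, x ≠ 1 ∧ s x = x := by
  by_contra hcon
  push Not at hcon
  have : Fact (Nat.Prime 2) := ⟨Nat.prime_two⟩
  let F : Function.End ↥S := fun x => ⟨s x, hinv x x.2⟩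
  have h1 := card_modEq_one (α := ↥S) 2 F
    (by
      rw [pow_two]
      funext x
      apply Subtype.ext
      exact h2 x) 1
    (fun x => by
      constructor
      · intro hx
        have hx' : s (x : A) = x := congrArg Subtype.val hx
        by_contra hne1
        exact hcon x x.2 (fun h => hne1 (Subtype.ext h)) hx'
      · rintro rfl
        apply Subtype.ext
        show s ((1 : ↥S) : A) = ((1 : ↥S) : A)
        rw [Subgroup.coe_one, map_one])
  obtain ⟨k, hk⟩ := IsPGroup.iff_card.mp (hA.to_subgroup S)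
  have hk0 : k ≠ 0 := by
    rintro rfl
    apply hne
    rw [pow_zero] at hk
    exact Subgroup.card_eq_one.mp hk
  rw [hk] at h1
  have h3 : 2 ∣ 2 ^ k := dvd_pow_self 2 hk0
  unfold Nat.ModEq at h1
  omega

theorem core (hA : IsPGroup 2 A) (r s : MulAut A) (h3 : ∀ a, r (r (r a)) = a)
    (hfp : ∀ a, r a = a → a = 1) (h2 : ∀ a, s (s a) = a)
    (hC : Nat.card {a : A // s a = a} ≤ 4) :
    (Nat.card A = 16 ∧ ∀ a : A, a ^ 2 = 1) ∨ Nat.card {a : A // a ^ 2 = 1} ≤ 4 := by
  classical
  have : Fact (Nat.Prime 3) := ⟨Nat.prime_three⟩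
  -- the fixed points of `s`
  let W : Subgroup A :=
    { carrier := {a | s a = a}
      mul_mem' := by
        intro a b ha hb
        show s (a * b) = a * b
        rw [map_mul, ha, hb]
      one_mem' := map_one s
      inv_mem' := by
        intro a ha
        show s a⁻¹ = a⁻¹
        rw [map_inv, ha] }
  have hWmem : ∀ a, a ∈ W ↔ s a = a := fun a => Iff.rfl
  have hWcard : Nat.card ↥W ≤ 4 := hC
  -- the elements of order at most two
  let Ω : Subgroup A := (powMonoidHom 2 : A →* A).ker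
  have hΩmem : ∀ a, a ∈ Ω ↔ a ^ 2 = 1 := fun a => by
    show (powMonoidHom 2 : A →* A) a = 1 ↔ _
    rw [powMonoidHom_apply]
  have hΩcard : Nat.card {a : A // a ^ 2 = 1} = Nat.card ↥Ω :=
    Nat.card_congr (Equiv.subtypeEquivRight (fun a => (hΩmem a).symm))
  let M : Subgroup A := W ⊓ Ω
  have hMcard : Nat.card ↥M ≤ 4 := le_trans (Subgroup.card_le_of_le inf_le_left) hWcard
  -- the map `u ↦ u * s u`
  let δ : A →* A :=
    { toFun := fun a => a * s a
      map_one' := by simp
      map_mul' := by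
        intro a b
        simp only [map_mul]
        exact mul_mul_mul_comm a b (s a) (s b) }
  let f : ↥Ω →* A := δ.comp Ω.subtype
  have hfker : Nat.card f.ker ≤ Nat.card ↥M := by
    refine Nat.card_le_card_of_injective
      (fun x => (⟨((x : ↥Ω) : A), ?_⟩ : ↥M)) ?_
    · have hx1 : ((x : ↥Ω) : A) ^ 2 = 1 := (hΩmem _).mp (x : ↥Ω).2
      have hx2 : ((x : ↥Ω) : A) * s ((x : ↥Ω) : A) = 1 := MonoidHom.mem_ker.mp x.2
      refine ⟨?_, (x : ↥Ω).2⟩
      apply (hWmem _).mpr
      have e1 : s ((x : ↥Ω) : A) = (((x : ↥Ω) : A))⁻¹ := eq_inv_of_mul_eq_one_right hx2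
      have e2 : (((x : ↥Ω) : A))⁻¹ = ((x : ↥Ω) : A) := by
        rw [inv_eq_iff_mul_eq_one, ← pow_two]; exact hx1
      rw [e1, e2]
    · intro x y hxy
      apply Subtype.ext
      apply Subtype.ext
      have h := congrArg Subtype.val hxy
      exact h
  have hfrange : Nat.card f.range ≤ Nat.card ↥M := by
    apply Subgroup.card_le_of_le
    rintro _ ⟨u, rfl⟩
    have hu : (u : A) ^ 2 = 1 := (hΩmem _).mp u.2
    refine ⟨?_, ?_⟩
    · apply (hWmem _).mpr
      show s ((u : A) * s (u : A)) = (u : A) * s (u : A)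
      rw [map_mul, h2, mul_comm]
    · apply (hΩmem _).mpr
      show ((u : A) * s (u : A)) ^ 2 = 1
      rw [mul_pow, ← map_pow, hu, map_one, mul_one]
  have hΩle : Nat.card ↥Ω ≤ Nat.card ↥M * Nat.card ↥M := card_le_of_hom f _ _ hfker hfrange
  -- `|Ω| ≡ 1 mod 3`
  have hΩmod : Nat.card ↥Ω ≡ 1 [MOD 3] := by
    have hrΩ : ∀ x : ↥Ω, r (x : A) ∈ Ω := fun x => by
      apply (hΩmem _).mpr
      rw [← map_pow, (hΩmem _).mp x.2, map_one]
    let F : Function.End ↥Ω := fun x => ⟨r x, hrΩ x⟩
    refine card_modEq_one (α := ↥Ω) 3 F ?_ 1 ?_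
    · rw [pow_succ, pow_two]
      funext x
      apply Subtype.ext
      exact h3 x
    · intro x
      constructor
      · intro hx
        have hx' : r (x : A) = x := congrArg Subtype.val hx
        exact Subtype.ext (hfp _ hx')
      · rintro rfl
        apply Subtype.ext
        show r ((1 : ↥Ω) : A) = ((1 : ↥Ω) : A)
        rw [Subgroup.coe_one, map_one]
  obtain ⟨n, hn⟩ := IsPGroup.iff_card.mp (hA.to_subgroup Ω)
  have hM16 : Nat.card ↥M * Nat.card ↥M ≤ 16 := by nlinarith
  have hn4 : n ≤ 4 := by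
    by_contra hlt
    have : 2 ^ 5 ≤ 2 ^ n := Nat.pow_le_pow_right (by norm_num) (by omega)
    rw [hn] at hΩle
    omega
  by_cases hsmall : Nat.card ↥Ω ≤ 4
  · right
    rw [hΩcard]
    exact hsmall
  left
  have hΩ16 : Nat.card ↥Ω = 16 := by
    rw [hn] at hΩmod hsmall ⊢
    unfold Nat.ModEq at hΩmod
    revert hΩmod hsmall
    clear hn
    interval_cases n <;> norm_num
  -- `W` has exactly four elements and lies in `Ω`
  have hM4 : Nat.card ↥M = 4 := by
    rw [hΩ16] at hΩle
    have h1 : Nat.card ↥M ≤ 4 := hMcard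
    interval_cases (Nat.card ↥M) <;> omega
  have hMW : M = W := Subgroup.eq_of_le_of_card_ge inf_le_left (by rw [hM4]; exact hWcard)
  have hWΩ : W ≤ Ω := by rw [← hMW]; exact inf_le_right
  have hW4 : Nat.card ↥W = 4 := by rw [← hMW]; exact hM4
  -- the elements with square in `W`
  let U : Subgroup A := W.comap (powMonoidHom 2 : A →* A)
  have hUmem : ∀ a, a ∈ U ↔ s (a ^ 2) = a ^ 2 := fun a => by
    show (powMonoidHom 2 : A →* A) a ∈ W ↔ _
    rw [powMonoidHom_apply, hWmem]
  have hΩU : Ω ≤ U := by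
    intro a ha
    rw [hUmem, (hΩmem a).mp ha, map_one]
  let d : A →* A :=
    { toFun := fun a => a⁻¹ * s a
      map_one' := by simp
      map_mul' := by
        intro a b
        simp only [map_mul, mul_inv]
        exact mul_mul_mul_comm a⁻¹ b⁻¹ (s a) (s b) }
  let g : ↥U →* A := d.comp U.subtype
  have hgker : Nat.card g.ker ≤ 4 := by
    rw [← hW4]
    refine Nat.card_le_card_of_injective
      (fun x => (⟨((x : ↥U) : A), ?_⟩ : ↥W)) ?_
    · have hx2 : (((x : ↥U) : A))⁻¹ * s ((x : ↥U) : A) = 1 := MonoidHom.mem_ker.mp x.2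
      apply (hWmem _).mpr
      exact (inv_mul_eq_one.mp hx2).symm
    · intro x y hxy
      apply Subtype.ext
      apply Subtype.ext
      have h := congrArg Subtype.val hxy
      exact h
  have hgrange : Nat.card g.range ≤ 4 := by
    rw [← hW4]
    apply Subgroup.card_le_of_le
    rintro _ ⟨u, rfl⟩
    have hu : s ((u : A) ^ 2) = (u : A) ^ 2 := (hUmem _).mp u.2
    apply (hWmem _).mpr
    show s ((u : A)⁻¹ * s (u : A)) = (u : A)⁻¹ * s (u : A)
    rw [map_mul, h2, map_inv]
    -- (s u)⁻¹ * u = u⁻¹ * s u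
    have hu' : s (u : A) * s (u : A) = (u : A) * (u : A) := by
      rwa [map_pow, pow_two, pow_two] at hu
    rw [inv_mul_eq_iff_eq_mul, ← mul_assoc, mul_comm (s (u : A)) (u : A)⁻¹, mul_assoc, hu',
      ← mul_assoc, inv_mul_cancel, one_mul]
  have hU16 : Nat.card ↥U ≤ 4 * 4 := card_le_of_hom g _ _ hgker hgrange
  have hUΩ : Ω = U := Subgroup.eq_of_le_of_card_ge hΩU (by rw [hΩ16]; exact hU16)
  have hstar : ∀ a : A, s (a ^ 2) = a ^ 2 → a ^ 2 = 1 := by
    intro a ha
    have : a ∈ U := (hUmem a).mpr ha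
    rw [← hUΩ] at this
    exact (hΩmem a).mp this
  -- exponent two
  have hexp : ∀ a : A, a ^ 2 = 1 := by
    by_contra hcon
    push Not at hcon
    obtain ⟨b, hb⟩ := hcon
    have hne : (powMonoidHom 2 : A →* A).range ≠ ⊥ := by
      intro h
      apply hb
      have : (powMonoidHom 2 : A →* A) b ∈ (powMonoidHom 2 : A →* A).range := ⟨b, rfl⟩
      rw [h, Subgroup.mem_bot, powMonoidHom_apply] at this
      exact this
    obtain ⟨x, hx, hx1, hxs⟩ := exists_fixed_ne_one hA _ hne s h2 (by
      rintro _ ⟨a, rfl⟩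
      exact ⟨s a, by rw [powMonoidHom_apply, powMonoidHom_apply, map_pow]⟩)
    obtain ⟨a, rfl⟩ := hx
    rw [powMonoidHom_apply] at hx1 hxs
    exact hx1 (hstar a hxs)
  refine ⟨?_, hexp⟩
  have htop : Ω = ⊤ := by
    rw [eq_top_iff]
    intro a _
    exact (hΩmem a).mpr (hexp a)
  rw [← hΩ16, htop, Subgroup.card_top]

end comm

theorem ab_dichotomy {A : Type*} [Group A] [Finite A] (hab : ∀ a b : A, a * b = b * a)
    (hA : IsPGroup 2 A) (r s : MulAut A) (h3 : ∀ a, r (r (r a)) = a)
    (hfp : ∀ a, r a = a → a = 1) (h2 : ∀ a, s (s a) = a) (hc : ∀ a, r (s a) = s (r a))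
    (hC : Nat.card {a : A // s a = a} ≤ 4) :
    (Nat.card A = 16 ∧ ∀ a : A, a ^ 2 = 1) ∨ Nat.card {a : A // a ^ 2 = 1} ≤ 4 := by
  let _ : CommGroup A := { (inferInstance : Group A) with mul_comm := hab }
  exact core hA r s h3 hfp h2 hC

end Cfsg.Agent.Lib.Helper86_S2933_ABD
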