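import Mathlib
import Cfsg.Agent.Lib.Helper49_S2933Defs
import Cfsg.Agent.Lib.Helper76_S3157Defs
import Cfsg.Agent.Lib.Helper76_S3157_RHO

/-!
# S2933 package NAE (architect helper49)

`T` a finite 2-group of class at most 2 with a fixed-point-free automorphism `r` of order 3 and
`T/T'` elementary abelian of order 16: then `|T'| ≤ 4`.

Route: for `a : T` let `I a` be the image of `b ↦ ⁅a, b⁆`.  It is an `r`-invariant subgroup of order
at most 4 (the kernel contains `T'`, `a`, `r a`, `r (r a)`, i.e. four elements of `T/T'`).  Two such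
subgroups with a common nontrivial element coincide (they are `{1, c, r c, r (r c)}`).  If
`⁅x, y⁆ ≠ 1` then every `I a` equals `I x` or is contained in `I (a y) * I y = I x`.
-/

set_option autoImplicit false
set_option linter.unusedSectionVars false
set_option linter.unusedVariables false

open scoped commutatorElement
open Cfsg.Agent.Lib.Helper49_S2933Defs Cfsg.Agent.Lib.Helper76_S3157_RHO

namespace Cfsg.Agent.Lib.Helper86_S2933_NAE

/-- the four elements `1, c, R c, R (R c)` are distinct -/
theorem card_orbit_four {M : Type*} [Group M] [DecidableEq M] (R : MulAut M)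
    (h3 : ∀ x, R (R (R x)) = x) (hfp : ∀ x, R x = x → x = 1) (c : M) (hc : c ≠ 1) :
    ({1, c, R c, R (R c)} : Finset M).card = 4 := by
  have h1 : R c ≠ 1 := fun h => hc ((map_eq_one_iff R (MulEquiv.injective R)).mp h)
  have h2 : R (R c) ≠ 1 := fun h => h1 ((map_eq_one_iff R (MulEquiv.injective R)).mp h)
  have h4 : c ≠ R c := fun h => hc (hfp c h.symm)
  have h5 : c ≠ R (R c) := fun h => by
    apply h4
    have := congrArg R h
    rw [h3] at this
    exact this.symm
  have h6 : R c ≠ R (R c) := fun h => h4 (MulEquiv.injective R h)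
  rw [Finset.card_insert_of_notMem, Finset.card_insert_of_notMem, Finset.card_insert_of_notMem,
    Finset.card_singleton]
  · simpa using h6
  · simp only [Finset.mem_insert, Finset.mem_singleton, not_or]
    exact ⟨h4, h5⟩
  · simp only [Finset.mem_insert, Finset.mem_singleton, not_or]
    exact ⟨hc.symm, h1.symm, h2.symm⟩

section

variable {T : Type*} [Group T] [Finite T] (r : MulAut T)

theorem comm_inv_right (hcl : ∀ a b : T, ⁅a, b⁆ ∈ Subgroup.center T) (a c : T) :
    ⁅a, c⁻¹⁆ = ⁅a, c⁆⁻¹ := by
  have h := comm_mul_right hcl a c c⁻¹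
  rw [mul_inv_cancel, commutatorElement_one_right] at h
  exact eq_inv_of_mul_eq_one_right h.symm

theorem comm_rho_eq_one (h3 : ∀ x, r (r (r x)) = x) (hfp : ∀ x, r x = x → x = 1) (a : T) :
    ⁅a, r a⁆ = 1 :=
  commutatorElement_eq_one_iff_mul_comm.mpr (comm_rho r h3 hfp a)

theorem comm_swap (h3 : ∀ x, r (r (r x)) = x) (hfp : ∀ x, r x = x → x = 1)
    (hcl : ∀ a b : T, ⁅a, b⁆ ∈ Subgroup.center T) (a b : T) : ⁅a, r b⁆ = ⁅r a, b⁆ := by
  have h := comm_rho_eq_one r h3 hfp (a * b)
  rw [map_mul, comm_mul_left hcl, comm_mul_right hcl, comm_mul_right hcl,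
    comm_rho_eq_one r h3 hfp a, comm_rho_eq_one r h3 hfp b, one_mul, mul_one] at h
  have h' := eq_inv_of_mul_eq_one_left h
  rw [h', commutatorElement_inv]

theorem comm_rho_right (h3 : ∀ x, r (r (r x)) = x) (hfp : ∀ x, r x = x → x = 1)
    (hcl : ∀ a b : T, ⁅a, b⁆ ∈ Subgroup.center T) (a b : T) : ⁅a, r b⁆ = r (r ⁅a, b⁆) := by
  have e1 : r ⁅a, b⁆ = ⁅r a, r b⁆ := map_commutatorElement r a b
  have e2 : ⁅r a, r b⁆ = ⁅a, r (r b)⁆ := (comm_swap r h3 hfp hcl a (r b)).symm
  have e3 : r (r b) = (b * r b)⁻¹ := rho_rho r h3 hfp b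
  have e4 : r ⁅a, b⁆ = (⁅a, b⁆ * ⁅a, r b⁆)⁻¹ := by
    rw [e1, e2, e3, comm_inv_right hcl, comm_mul_right hcl]
  have e5 : r (r ⁅a, b⁆) = (⁅a, b⁆ * r ⁅a, b⁆)⁻¹ := rho_rho r h3 hfp ⁅a, b⁆
  have hc := Subgroup.mem_center_iff.mp (hcl a b) ⁅a, r b⁆
  rw [e5, e4, mul_inv_rev, inv_inv, ← hc, mul_inv_cancel_right]

/-- the homomorphism `b ↦ ⁅a, b⁆` -/
def phi (hcl : ∀ a b : T, ⁅a, b⁆ ∈ Subgroup.center T) (a : T) : T →* T where
  toFun := fun b => ⁅a, b⁆
  map_one' := commutatorElement_one_right a
  map_mul' := comm_mul_right hcl a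

/-- the image of `b ↦ ⁅a, b⁆` -/
def I (hcl : ∀ a b : T, ⁅a, b⁆ ∈ Subgroup.center T) (a : T) : Subgroup T := (phi hcl a).range

theorem mem_I (hcl : ∀ a b : T, ⁅a, b⁆ ∈ Subgroup.center T) (a c : T) :
    c ∈ I hcl a ↔ ∃ b, ⁅a, b⁆ = c := Iff.rfl

theorem rho_mem_I (h3 : ∀ x, r (r (r x)) = x) (hfp : ∀ x, r x = x → x = 1)
    (hcl : ∀ a b : T, ⁅a, b⁆ ∈ Subgroup.center T) (a c : T) (hc : c ∈ I hcl a) :
    r c ∈ I hcl a := by
  have key : ∀ c, c ∈ I hcl a → r (r c) ∈ I hcl a := by
    rintro _ ⟨b, rfl⟩
    exact ⟨r b, comm_rho_right r h3 hfp hcl a b⟩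
  have := key _ (key c hc)
  rw [h3] at this
  exact this

end

section card

variable {T : Type*} [Group T] [Finite T] (r : MulAut T)

theorem card_I_le (h3 : ∀ x, r (r (r x)) = x) (hfp : ∀ x, r x = x → x = 1)
    (hcl : ∀ a b : T, ⁅a, b⁆ ∈ Subgroup.center T)
    (hexp : ∀ a : Abelianization T, a ^ 2 = 1) (hidx : Nat.card (Abelianization T) = 16)
    (a : T) : Nat.card ↥(I hcl a) ≤ 4 := by
  classical
  by_cases ha : a ∈ commutator T
  · -- `a` is central
    have hz : a ∈ Subgroup.center T := by
      have hle : commutator T ≤ Subgroup.center T := by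
        rw [commutator_def, Subgroup.commutator_le]
        intro p _ q _
        exact hcl p q
      exact hle ha
    have hbot : I hcl a = ⊥ := by
      rw [eq_bot_iff]
      rintro _ ⟨b, rfl⟩
      rw [Subgroup.mem_bot]
      exact comm_central_left hz b
    rw [hbot, Subgroup.card_bot]
    norm_num
  · -- the induced map on the abelianization
    have hcz : commutator T ≤ Subgroup.center T := by
      rw [commutator_def, Subgroup.commutator_le]
      intro p _ q _
      exact hcl p q
    have hker : commutator T ≤ (phi hcl a).ker := by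
      intro c hc
      rw [MonoidHom.mem_ker]
      exact comm_central_right (hcz hc) a
    let ψ : Abelianization T →* T := QuotientGroup.lift (commutator T) (phi hcl a) hker
    have hψ : ∀ b : T, ψ (Abelianization.of b) = ⁅a, b⁆ := by
      intro b
      rfl
    have hsurj : ∀ x : Abelianization T, ∃ b : T, Abelianization.of b = x := by
      intro x
      exact QuotientGroup.mk_surjective x
    have hrange : ψ.range = I hcl a := by
      ext c
      constructor
      · rintro ⟨x, rfl⟩
        obtain ⟨b, rfl⟩ := hsurj x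
        exact ⟨b, (hψ b).symm⟩
      · rintro ⟨b, rfl⟩
        exact ⟨Abelianization.of b, hψ b⟩
    -- the automorphism induced on the abelianization
    let R : MulAut (Abelianization T) := r.abelianizationCongr
    have hR : ∀ b : T, R (Abelianization.of b) = Abelianization.of (r b) :=
      fun b => abelianizationCongr_of r b
    have hR3 : ∀ x, R (R (R x)) = x := by
      intro x
      obtain ⟨b, rfl⟩ := hsurj x
      rw [hR, hR, hR, h3]
    have hRfp : ∀ x, R x = x → x = 1 := by
      intro x hx
      obtain ⟨b, rfl⟩ := hsurj x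
      have h1 : Abelianization.of b * Abelianization.of (r b) * Abelianization.of (r (r b)) = 1 := by
        rw [← map_mul, ← map_mul, prod3 r h3 hfp b, map_one]
      have h2 : Abelianization.of (r b) = Abelianization.of b := by rw [← hR]; exact hx
      have h4 : Abelianization.of (r (r b)) = Abelianization.of b := by
        rw [← hR, h2, hx]
      rw [h2, h4] at h1
      have h5 := hexp (Abelianization.of b)
      rw [pow_two] at h5
      rw [h5, one_mul] at h1
      exact h1
    have hane : Abelianization.of a ≠ 1 := by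
      intro h
      apply ha
      rw [← Abelianization.ker_of]
      exact MonoidHom.mem_ker.mpr h
    have hcard4 := card_orbit_four R hR3 hRfp (Abelianization.of a) hane
    have hsub : (({1, Abelianization.of a, R (Abelianization.of a),
        R (R (Abelianization.of a))} : Finset (Abelianization T)) : Set (Abelianization T)) ⊆
        (ψ.ker : Set (Abelianization T)) := by
      intro x hx
      simp only [Finset.coe_insert, Finset.coe_singleton, Set.mem_insert_iff,
        Set.mem_singleton_iff] at hx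
      rw [SetLike.mem_coe, MonoidHom.mem_ker]
      rcases hx with rfl | rfl | rfl | rfl
      · exact map_one ψ
      · rw [hψ]; exact commutatorElement_self a
      · rw [hR, hψ]; exact comm_rho_eq_one r h3 hfp a
      · rw [hR, hR, hψ, comm_rho_right r h3 hfp hcl, comm_rho_eq_one r h3 hfp a, map_one, map_one]
    have hker4 : 4 ≤ Nat.card ↥ψ.ker := by
      have h1 := Set.ncard_le_ncard hsub (Set.toFinite _)
      rw [Set.ncard_coe_finset, hcard4] at h1
      rw [← Nat.card_coe_set_eq] at h1
      exact h1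
    have hmul := Subgroup.card_mul_index ψ.ker
    rw [Subgroup.index_ker, hidx, hrange] at hmul
    nlinarith

end card

theorem card_commutator_le {T : Type*} [Group T] [Finite T] (hT : IsPGroup 2 T) (r : MulAut T)
    (h3 : ∀ x, r (r (r x)) = x) (hfp : ∀ x, r x = x → x = 1)
    (hcl : ∀ a b : T, ⁅a, b⁆ ∈ Subgroup.center T)
    (hexp : ∀ a : Abelianization T, a ^ 2 = 1) (hidx : Nat.card (Abelianization T) = 16) :
    Nat.card (commutator T) ≤ 4 := by
  classical
  -- two subgroups `I a`, `I b` with a common nontrivial element coincide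
  have hC : ∀ a b c : T, c ≠ 1 → c ∈ I hcl a → c ∈ I hcl b → I hcl a = I hcl b := by
    intro a b c hc hca hcb
    have hcard4 := card_orbit_four r h3 hfp c hc
    have key : ∀ a : T, c ∈ I hcl a →
        ((I hcl a : Subgroup T) : Set T) = (({1, c, r c, r (r c)} : Finset T) : Set T) := by
      intro a hca
      have hsub : (({1, c, r c, r (r c)} : Finset T) : Set T) ⊆ ((I hcl a : Subgroup T) : Set T) := by
        intro x hx
        simp only [Finset.coe_insert, Finset.coe_singleton, Set.mem_insert_iff,
          Set.mem_singleton_iff] at hx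
        rw [SetLike.mem_coe]
        rcases hx with rfl | rfl | rfl | rfl
        · exact Subgroup.one_mem _
        · exact hca
        · exact rho_mem_I r h3 hfp hcl a _ hca
        · exact rho_mem_I r h3 hfp hcl a _ (rho_mem_I r h3 hfp hcl a _ hca)
      symm
      apply Set.eq_of_subset_of_ncard_le hsub _ (Set.toFinite _)
      rw [Set.ncard_coe_finset, hcard4, ← Nat.card_coe_set_eq]
      exact card_I_le r h3 hfp hcl hexp hidx a
    apply SetLike.coe_injective
    rw [key a hca, key b hcb]
  by_cases hab : ∀ a b : T, ⁅a, b⁆ = 1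
  · have hbot : commutator T = ⊥ := by
      rw [eq_bot_iff, commutator_def, Subgroup.commutator_le]
      intro p _ q _
      rw [Subgroup.mem_bot]
      exact hab p q
    rw [hbot, Subgroup.card_bot]
    norm_num
  · push Not at hab
    obtain ⟨x, y, hxy⟩ := hab
    have hyx : ⁅y, x⁆ ≠ 1 := by
      intro h
      apply hxy
      rw [← commutatorElement_inv, h, inv_one]
    -- `I y = I x`
    have hIy : I hcl y = I hcl x := by
      refine hC y x ⁅y, x⁆ hyx ⟨x, rfl⟩ ?_
      rw [← commutatorElement_inv]
      exact Subgroup.inv_mem _ ⟨y, rfl⟩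
    -- every commutator lies in `I x`
    have hall : ∀ a b : T, ⁅a, b⁆ ∈ I hcl x := by
      intro a b
      by_cases hax : ⁅a, x⁆ = 1
      · -- use `a * y`
        have h1 : ⁅a * y, x⁆ = ⁅y, x⁆ := by
          rw [comm_mul_left hcl, hax, one_mul]
        have h2 : I hcl (a * y) = I hcl x := by
          refine hC (a * y) x ⁅a * y, x⁆ (by rw [h1]; exact hyx) ⟨x, rfl⟩ ?_
          rw [← commutatorElement_inv]
          exact Subgroup.inv_mem _ ⟨a * y, rfl⟩
        have h3' : ⁅a * y, b⁆ ∈ I hcl x := by rw [← h2]; exact ⟨b, rfl⟩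
        have h4 : ⁅y, b⁆ ∈ I hcl x := by rw [← hIy]; exact ⟨b, rfl⟩
        have h5 : ⁅a, b⁆ = ⁅a * y, b⁆ * ⁅y, b⁆⁻¹ := by
          rw [comm_mul_left hcl, mul_inv_cancel_right]
        rw [h5]
        exact Subgroup.mul_mem _ h3' (Subgroup.inv_mem _ h4)
      · have h2 : I hcl a = I hcl x := by
          refine hC a x ⁅a, x⁆ hax ⟨x, rfl⟩ ?_
          rw [← commutatorElement_inv]
          exact Subgroup.inv_mem _ ⟨a, rfl⟩
        rw [← h2]
        exact ⟨b, rfl⟩
    have hle : commutator T ≤ I hcl x := by
      rw [commutator_def, Subgroup.commutator_le]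
      intro p _ q _
      exact hall p q
    exact le_trans (Subgroup.card_le_of_le hle) (card_I_le r h3 hfp hcl hexp hidx x)

end Cfsg.Agent.Lib.Helper86_S2933_NAE
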