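import Mathlib
import Cfsg.Agent.Lib.Helper49_S2933Defs
import Cfsg.Agent.Lib.Helper76_S3157Defs
import Cfsg.Agent.S1141

/-!
# Helper8_S2933_MOD: properties of the model `PS σ` over the field with 16 elements
(package MOD of S2933)
-/

set_option autoImplicit false

open scoped commutatorElement
open Cfsg.Agent.Lib.Helper49_S2933Defs Cfsg.Agent.Lib.Helper76_S3157Defs Cfsg.Agent.S1141
  Cfsg.Agent.Lib.Helper5_SUOrder

namespace Cfsg.Agent.Lib.Helper8_S2933_MOD

/-- at most four solutions of `k ^ 4 = k` in a field -/
theorem card_pow_four_le {F : Type} [Field F] [Fintype F] :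
    Nat.card {k : F // k ^ 4 = k} ≤ 4 := by
  classical
  have hne : (Polynomial.X ^ 4 - Polynomial.X : Polynomial F) ≠ 0 :=
    FiniteField.X_pow_card_sub_X_ne_zero F (by norm_num)
  have hdeg : (Polynomial.X ^ 4 - Polynomial.X : Polynomial F).natDegree = 4 :=
    FiniteField.X_pow_card_sub_X_natDegree_eq F (by norm_num)
  rw [Nat.card_eq_fintype_card, Fintype.card_subtype]
  calc (Finset.univ.filter fun k : F => k ^ 4 = k).card
      ≤ (Polynomial.X ^ 4 - Polynomial.X : Polynomial F).roots.toFinset.card := by
        apply Finset.card_le_card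
        intro k hk
        rw [Finset.mem_filter] at hk
        rw [Multiset.mem_toFinset, Polynomial.mem_roots hne]
        simp [hk.2]
    _ ≤ (Polynomial.X ^ 4 - Polynomial.X : Polynomial F).roots.card :=
        Multiset.toFinset_card_le _
    _ ≤ 4 := by
        have h := Polynomial.card_roots' (Polynomial.X ^ 4 - Polynomial.X : Polynomial F)
        rw [hdeg] at h
        exact h

/-- an element of multiplicative order three in a field with 16 elements -/
theorem exists_omega {F : Type} [Field F] [Fintype F] (hF : Fintype.card F = 16) :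
    ∃ l : F, l ^ 3 = 1 ∧ l ≠ 1 := by
  classical
  obtain ⟨g, hg⟩ := IsCyclic.exists_generator (α := Fˣ)
  have hord : orderOf g = 15 := by
    rw [orderOf_eq_card_of_forall_mem_zpowers hg, Nat.card_eq_fintype_card, Fintype.card_units, hF]
  refine ⟨((g ^ 5 : Fˣ) : F), ?_, ?_⟩
  · rw [← Units.val_pow_eq_pow_val, ← pow_mul]
    have : g ^ (5 * 3) = 1 := by
      have h := pow_orderOf_eq_one g
      rw [hord] at h
      exact h
    rw [this, Units.val_one]
  · intro h
    have h1 : g ^ 5 = 1 := Units.ext (by rw [h, Units.val_one])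
    have := orderOf_dvd_of_pow_eq_one h1
    rw [hord] at this
    omega

theorem model_props {F : Type} [Field F] [Fintype F] [CharP F 2]
    (hF : Fintype.card F = (2 ^ 2) ^ 2) [Fact (∀ x : F, powQ hF (powQ hF x) = x)] :
    Nat.card (PS (powQ hF)) = 64 ∧ (∃ a b : PS (powQ hF), a * b ≠ b * a) ∧
      ∃ r : MulAut (PS (powQ hF)), (∀ t, r (r (r t)) = t) ∧ (∀ t, r t = t → t = 1) ∧
        ∀ p : PS (powQ hF), p ^ 2 = 1 → p ∈ Subgroup.center (PS (powQ hF)) := by
  classical
  have hσ : ∀ x : F, powQ hF (powQ hF x) = x := Fact.out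
  have hF16 : Fintype.card F = 16 := by rw [hF]; norm_num
  obtain ⟨t, ht⟩ := Cfsg.Agent.Lib.Helper5_SUCenter.exists_pow_q_ne hF
  have ht' : powQ hF t ≠ t := ht
  have hu : t + powQ hF t ≠ 0 := fun h => ht' (fix_of_add_eq_zero h)
  have hτ : (t / (t + powQ hF t)) + powQ hF (t / (t + powQ hF t)) = 1 := by
    rw [map_div₀, map_add, hσ t, add_comm (powQ hF t) t, ← add_div, div_self hu]
  generalize t / (t + powQ hF t) = τ at hτ
  have hpow : ∀ x : F, powQ hF x = x ^ 4 := fun x => by
    show x ^ (2 ^ 2) = x ^ 4
    norm_num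
  refine ⟨?_, PS.exists_not_commute τ hτ t ht', ?_⟩
  · -- cardinality
    have hK4 : Nat.card (PS.K (powQ hF)) = 4 := by
      apply le_antisymm
      · have : Nat.card (PS.K (powQ hF)) = Nat.card {k : F // k ^ 4 = k} :=
          Nat.card_congr (Equiv.subtypeEquivRight fun k => by rw [hpow])
        rw [this]
        exact card_pow_four_le
      · have := card_K_ge (σ := powQ hF) hF
        simpa using this
    rw [Nat.card_congr (PS.equivProd τ hτ), Nat.card_prod, Nat.card_eq_fintype_card (α := F),
      hF16, hK4]
  · obtain ⟨l, hl3, hl1⟩ := exists_omega hF16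
    have hl0 : l ≠ 0 := by
      intro h
      rw [h] at hl3
      simp at hl3
    have hlfix : powQ hF l = l := by
      rw [hpow, pow_succ, hl3, one_mul]
    let u : Kx (powQ hF) := ⟨Units.mk0 l hl0, hlfix⟩
    have hu : ((u : Fˣ) : F) = l := rfl
    refine ⟨PS.phi u, ?_, ?_, ?_⟩
    · intro p
      rw [PS.phi_apply, PS.phi_apply, PS.phi_apply]
      apply PS.ext
      · simp only [PS.scale_b, hu]
        linear_combination p.b * hl3
      · simp only [PS.scale_c, hu]
        linear_combination (l ^ 3 + 1) * p.c * hl3
    · intro p hp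
      rw [PS.phi_apply] at hp
      have hb := congrArg PS.b hp
      have hc := congrArg PS.c hp
      rw [PS.scale_b, hu] at hb
      rw [PS.scale_c, hu] at hc
      have hb0 : p.b = 0 := by
        have : (l - 1) * p.b = 0 := by linear_combination hb
        rcases mul_eq_zero.mp this with h | h
        · exact absurd (sub_eq_zero.mp h) hl1
        · exact h
      have hl2 : l * l ≠ 1 := by
        intro h
        apply hl1
        have : l = l ^ 3 := by rw [pow_succ, sq, h, one_mul]
        rw [this, hl3]
      have hc0 : p.c = 0 := by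
        have : (l * l - 1) * p.c = 0 := by linear_combination hc
        rcases mul_eq_zero.mp this with h | h
        · exact absurd (sub_eq_zero.mp h) hl2
        · exact h
      exact PS.ext hb0 hc0
    · intro p hp
      have hp : p * p = 1 := by rw [← pow_two]; exact hp
      exact (PS.mem_center_iff τ hτ t ht' p).mpr (PS.b_eq_zero_of_mul_self p hp)

end Cfsg.Agent.Lib.Helper8_S2933_MOD
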