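import Mathlib
import Cfsg.Agent.Lib.Helper49_S2933Defs
import Cfsg.Agent.Lib.Helper82_S2115_PCB

/-!
# Helper95_S2933_UNQ

Package UNQ of S2933 (architect helper49): two groups of order 64 generated by tuples satisfying
the power-commutator relations `PC64` are isomorphic (graph trick with
`Helper82_S2115_PCB.card_closure_le`).
-/

set_option autoImplicit false

open scoped commutatorElement
open Cfsg.Agent.Lib.Helper49_S2933Defs

namespace Cfsg.Agent.Lib.Helper95_S2933_UNQ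

/-- the relations pass to the product -/
theorem pc64_prod {T₁ : Type*} {T₂ : Type*} [Group T₁] [Group T₂]
    {x₁ x₂ y₁ y₂ a₁ a₂ : T₁} {x₁' x₂' y₁' y₂' a₁' a₂' : T₂}
    (hp : PC64 x₁ x₂ y₁ y₂ a₁ a₂) (hp' : PC64 x₁' x₂' y₁' y₂' a₁' a₂') :
    PC64 ((x₁, x₁') : T₁ × T₂) (x₂, x₂') (y₁, y₁') (y₂, y₂') (a₁, a₁') (a₂, a₂') where
  a1_sq := Prod.ext hp.a1_sq hp'.a1_sq
  a2_sq := Prod.ext hp.a2_sq hp'.a2_sq
  a1_c := fun t => Prod.ext (hp.a1_c t.1) (hp'.a1_c t.2)
  a2_c := fun t => Prod.ext (hp.a2_c t.1) (hp'.a2_c t.2)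
  x1_sq := Prod.ext hp.x1_sq hp'.x1_sq
  x2_sq := Prod.ext hp.x2_sq hp'.x2_sq
  y1_sq := Prod.ext hp.y1_sq hp'.y1_sq
  y2_sq := Prod.ext hp.y2_sq hp'.y2_sq
  x12 := Prod.ext hp.x12 hp'.x12
  y12 := Prod.ext hp.y12 hp'.y12
  xy11 := Prod.ext hp.xy11 hp'.xy11
  xy12 := Prod.ext hp.xy12 hp'.xy12
  xy21 := Prod.ext hp.xy21 hp'.xy21
  xy22 := Prod.ext hp.xy22 hp'.xy22

/-- the generating sequence -/
def gseq {H : Type*} [Group H] (x₁ x₂ y₁ y₂ a₁ a₂ : H) : ℕ → H
  | 0 => x₁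
  | 1 => x₂
  | 2 => y₁
  | 3 => y₂
  | 4 => a₁
  | 5 => a₂
  | _ => 1

theorem conj_of_rel {H : Type*} [Group H] {u v c : H} (h : v * u = u * v * c) :
    u⁻¹ * v * u = v * c := by
  rw [mul_assoc, h]; group

/-- A group with a `PC64` tuple: the closure of the tuple has at most 64 elements. -/
theorem card_closure_pc64 {H : Type*} [Group H] {x₁ x₂ y₁ y₂ a₁ a₂ : H}
    (hp : PC64 x₁ x₂ y₁ y₂ a₁ a₂) :
    Finite ↥(Subgroup.closure ({x₁, x₂, y₁, y₂, a₁, a₂} : Set H)) ∧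
      Nat.card ↥(Subgroup.closure ({x₁, x₂, y₁, y₂, a₁, a₂} : Set H)) ≤ 64 := by
  classical
  set g := gseq x₁ x₂ y₁ y₂ a₁ a₂ with hg
  have hmem : ∀ (i k : ℕ), i < k → k < 6 →
      g k ∈ Subgroup.closure (g '' {k | i < k ∧ k < 6}) := fun i k h1 h2 =>
    Subgroup.subset_closure ⟨k, ⟨h1, h2⟩, rfl⟩
  have key := Cfsg.Agent.Lib.Helper82_S2115_PCB.card_closure_le 6 g (fun _ => 2)
    (fun _ _ => by norm_num) ?_ ?_
  · have himg : g '' {k | k < 6} = ({x₁, x₂, y₁, y₂, a₁, a₂} : Set H) := by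
      ext z
      constructor
      · rintro ⟨k, hk, rfl⟩
        have hk' : k < 6 := hk
        interval_cases k <;> simp [hg, gseq]
      · intro hz
        simp only [Set.mem_insert_iff, Set.mem_singleton_iff] at hz
        rcases hz with rfl | rfl | rfl | rfl | rfl | rfl
        · exact ⟨0, by norm_num, rfl⟩
        · exact ⟨1, by norm_num, rfl⟩
        · exact ⟨2, by norm_num, rfl⟩
        · exact ⟨3, by norm_num, rfl⟩
        · exact ⟨4, by norm_num, rfl⟩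
        · exact ⟨5, by norm_num, rfl⟩
    rw [himg] at key
    refine ⟨key.1, key.2.trans ?_⟩
    simp [Finset.prod_const]
  · -- powers
    intro i hi
    have g4 : ∀ j, j < 4 → g 4 ∈ Subgroup.closure (g '' {k | j < k ∧ k < 6}) := fun j hj =>
      hmem j 4 hj (by norm_num)
    have g5 : ∀ j, j < 5 → g 5 ∈ Subgroup.closure (g '' {k | j < k ∧ k < 6}) := fun j hj =>
      hmem j 5 hj (by norm_num)
    interval_cases i
    · have : g 0 ^ 2 = g 4 := by
        show x₁ ^ 2 = a₁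
        rw [pow_two, hp.x1_sq]
      rw [this]; exact g4 0 (by norm_num)
    · have : g 1 ^ 2 = g 5 := by
        show x₂ ^ 2 = a₂
        rw [pow_two, hp.x2_sq]
      rw [this]; exact g5 1 (by norm_num)
    · have : g 2 ^ 2 = g 4 * g 5 := by
        show y₁ ^ 2 = a₁ * a₂
        rw [pow_two, hp.y1_sq]
      rw [this]; exact Subgroup.mul_mem _ (g4 2 (by norm_num)) (g5 2 (by norm_num))
    · have : g 3 ^ 2 = g 4 := by
        show y₂ ^ 2 = a₁
        rw [pow_two, hp.y2_sq]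
      rw [this]; exact g4 3 (by norm_num)
    · have : g 4 ^ 2 = 1 := by
        show a₁ ^ 2 = 1
        rw [pow_two, hp.a1_sq]
      rw [this]; exact Subgroup.one_mem _
    · have : g 5 ^ 2 = 1 := by
        show a₂ ^ 2 = 1
        rw [pow_two, hp.a2_sq]
      rw [this]; exact Subgroup.one_mem _
  · -- conjugates
    intro i j hij hj
    have ha1 : ∀ u : H, u⁻¹ * a₁ * u = a₁ := fun u => by
      rw [mul_assoc, hp.a1_c u]; group
    have ha2 : ∀ u : H, u⁻¹ * a₂ * u = a₂ := fun u => by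
      rw [mul_assoc, hp.a2_c u]; group
    have hx12 : x₁⁻¹ * x₂ * x₁ = x₂ := by rw [mul_assoc, hp.x12]; group
    have hy12 : y₁⁻¹ * y₂ * y₁ = y₂ := by rw [mul_assoc, hp.y12]; group
    have h11 := conj_of_rel hp.xy11
    have h12 := conj_of_rel hp.xy12
    have h21 := conj_of_rel hp.xy21
    have h22 := conj_of_rel hp.xy22
    have mm : ∀ k, i < k → k < 6 → g k ∈ Subgroup.closure (g '' {k | i < k ∧ k < 6}) :=
      fun k h1 h2 => hmem i k h1 h2
    have hj4 : j = 4 → (g i)⁻¹ * g j * g i ∈ Subgroup.closure (g '' {k | i < k ∧ k < 6}) := by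
      rintro rfl
      have : (g i)⁻¹ * g 4 * g i = g 4 := ha1 (g i)
      rw [this]; exact mm 4 hij (by norm_num)
    have hj5 : j = 5 → (g i)⁻¹ * g j * g i ∈ Subgroup.closure (g '' {k | i < k ∧ k < 6}) := by
      rintro rfl
      have : (g i)⁻¹ * g 5 * g i = g 5 := ha2 (g i)
      rw [this]; exact mm 5 hij (by norm_num)
    by_cases h4 : j = 4
    · exact hj4 h4
    by_cases h5 : j = 5
    · exact hj5 h5
    have hj3 : j ≤ 3 := by omega
    clear hj4 hj5
    interval_cases j <;> interval_cases i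
    · -- i=0, j=1
      have : (g 0)⁻¹ * g 1 * g 0 = g 1 := hx12
      rw [this]; exact mm 1 (by norm_num) (by norm_num)
    · -- i=0, j=2
      have : (g 0)⁻¹ * g 2 * g 0 = g 2 * g 4 := h11
      rw [this]
      exact Subgroup.mul_mem _ (mm 2 (by norm_num) (by norm_num)) (mm 4 (by norm_num) (by norm_num))
    · -- i=1, j=2
      have : (g 1)⁻¹ * g 2 * g 1 = g 2 * (g 4 * g 5) := h21
      rw [this]
      exact Subgroup.mul_mem _ (mm 2 (by norm_num) (by norm_num))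
        (Subgroup.mul_mem _ (mm 4 (by norm_num) (by norm_num)) (mm 5 (by norm_num) (by norm_num)))
    · -- i=0, j=3
      have : (g 0)⁻¹ * g 3 * g 0 = g 3 * (g 4 * g 5) := h12
      rw [this]
      exact Subgroup.mul_mem _ (mm 3 (by norm_num) (by norm_num))
        (Subgroup.mul_mem _ (mm 4 (by norm_num) (by norm_num)) (mm 5 (by norm_num) (by norm_num)))
    · -- i=1, j=3
      have : (g 1)⁻¹ * g 3 * g 1 = g 3 * g 5 := h22
      rw [this]
      exact Subgroup.mul_mem _ (mm 3 (by norm_num) (by norm_num)) (mm 5 (by norm_num) (by norm_num))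
    · -- i=2, j=3
      have : (g 2)⁻¹ * g 3 * g 2 = g 3 := hy12
      rw [this]; exact mm 3 (by norm_num) (by norm_num)

/-- **UNQ**. -/
theorem iso_of_pc64 {T₁ : Type*} {T₂ : Type*} [Group T₁] [Group T₂] [Finite T₁] [Finite T₂]
    (h1 : Nat.card T₁ = 64) (h2 : Nat.card T₂ = 64)
    (x₁ x₂ y₁ y₂ a₁ a₂ : T₁) (x₁' x₂' y₁' y₂' a₁' a₂' : T₂)
    (hp : PC64 x₁ x₂ y₁ y₂ a₁ a₂) (hp' : PC64 x₁' x₂' y₁' y₂' a₁' a₂')
    (hg : Subgroup.closure ({x₁, x₂, y₁, y₂, a₁, a₂} : Set T₁) = ⊤)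
    (hg' : Subgroup.closure ({x₁', x₂', y₁', y₂', a₁', a₂'} : Set T₂) = ⊤) :
    Nonempty (T₁ ≃* T₂) := by
  classical
  set S : Set (T₁ × T₂) :=
    {((x₁, x₁') : T₁ × T₂), (x₂, x₂'), (y₁, y₁'), (y₂, y₂'), (a₁, a₁'), (a₂, a₂')} with hS
  set D : Subgroup (T₁ × T₂) := Subgroup.closure S with hD
  obtain ⟨hfin, hcard⟩ := card_closure_pc64 (pc64_prod hp hp')
  -- projections
  have hfst : D.map (MonoidHom.fst T₁ T₂) = ⊤ := by
    rw [hD, MonoidHom.map_closure, ← hg]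
    congr 1
    simp [hS, Set.image_insert_eq]
  have hsnd : D.map (MonoidHom.snd T₁ T₂) = ⊤ := by
    rw [hD, MonoidHom.map_closure, ← hg']
    congr 1
    simp [hS, Set.image_insert_eq]
  let f1 : ↥D →* T₁ := (MonoidHom.fst T₁ T₂).comp D.subtype
  let f2 : ↥D →* T₂ := (MonoidHom.snd T₁ T₂).comp D.subtype
  have hf1s : Function.Surjective f1 := by
    intro t
    have : t ∈ D.map (MonoidHom.fst T₁ T₂) := by rw [hfst]; trivial
    obtain ⟨d, hd, rfl⟩ := this
    exact ⟨⟨d, hd⟩, rfl⟩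
  have hf2s : Function.Surjective f2 := by
    intro t
    have : t ∈ D.map (MonoidHom.snd T₁ T₂) := by rw [hsnd]; trivial
    obtain ⟨d, hd, rfl⟩ := this
    exact ⟨⟨d, hd⟩, rfl⟩
  have hDcard : Nat.card ↥D = 64 := by
    apply le_antisymm hcard
    rw [← h1]
    exact Nat.card_le_card_of_surjective f1 hf1s
  have hf1b : Function.Bijective f1 := by
    rw [Nat.bijective_iff_surjective_and_card]
    exact ⟨hf1s, by rw [hDcard, h1]⟩
  have hf2b : Function.Bijective f2 := by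
    rw [Nat.bijective_iff_surjective_and_card]
    exact ⟨hf2s, by rw [hDcard, h2]⟩
  exact ⟨(MulEquiv.ofBijective f1 hf1b).symm.trans (MulEquiv.ofBijective f2 hf2b)⟩

end Cfsg.Agent.Lib.Helper95_S2933_UNQ
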