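import Mathlib
import Cfsg.Agent.Lib.Helper49_S2933Defs
import Cfsg.Agent.Lib.Helper76_S3157Defs
import Cfsg.Agent.S1141
import Cfsg.Agent.Lib.Helper49_S2933_RED
import Cfsg.Agent.Lib.Helper42_S2933_FPF
import Cfsg.Agent.Lib.Helper86_S2933_ABD
import Cfsg.Agent.Lib.Helper60_S2933_ABG
import Cfsg.Agent.Lib.Helper60_S2933_ABI
import Cfsg.Agent.Lib.Helper5_S2933_NAQ
import Cfsg.Agent.Lib.Helper42_S2933_NAR
import Cfsg.Agent.Lib.Helper86_S2933_NAE
import Cfsg.Agent.Lib.Helper5_S2933_HYP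
import Cfsg.Agent.Lib.Helper42_S2933_CAN
import Cfsg.Agent.Lib.Helper50_S2933_REL
import Cfsg.Agent.Lib.Helper95_S2933_UNQ
import Cfsg.Agent.Lib.Helper8_S2933_MOD

/-!
# Helper49_S2933Pk

Shim for S2933: the 13 packages, re-exported under one namespace with the statements the assembly
`Helper49_S2933Core` / `S2933` was written against.
-/

set_option autoImplicit false

open scoped commutatorElement
open Cfsg.Agent.Lib.Helper49_S2933Defs Cfsg.Agent.Lib.Helper76_S3157Defs Cfsg.Agent.S1141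
  Cfsg.Agent.Lib.Helper5_SUOrder

namespace Cfsg.Agent.Lib.Helper49_S2933Pk

/-- **RED** (M, ~150 l). From the subgroup setting of S2933 to automorphisms of `↥T`.
`r` = conjugation by `ρ` on `T` (`x ↦ ρ x ρ⁻¹`, well defined since `ρ ∈ N(T)`), `s` = conjugation by
`t`.  `r³ = 1`, `s² = 1` from the orders, they commute since `t ρ = ρ t`.  The fixed points of `s`
are `T ∩ C(t) = V` (4 elements).  A common fixed point `x` of `s` and `r` lies in `V` and commutes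
with `ρ`; if `x ≠ 1` then `ρ` acts on the four-group `V = {1, x, w, xw}` fixing `x`, so it fixes or
swaps `w, xw`; a swap is impossible because `ρ³ = 1`, so `ρ` centralizes `V` and `⁅V, ⟨ρ⟩⁆ = ⊥ ≠ V`
(`Subgroup.commutator_eq_bot_iff_le_centralizer`). -/
theorem reduce {G : Type*} [Group G] [Finite G] (T V : Subgroup G) (hT : IsPGroup 2 ↥T)
    (hVT : V ≤ T ⊓ Subgroup.centralizer (T : Set G))
    (hV : Nat.card ↥V = 4 ∧ ∀ v ∈ V, v ^ 2 = 1) (t ρ : G) (ht : orderOf t = 2)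
    (hρ : orderOf ρ = 3)
    (htn : t ∈ Subgroup.normalizer (V : Set G) ⊓ Subgroup.normalizer (T : Set G))
    (hρn : ρ ∈ Subgroup.normalizer (V : Set G) ⊓ Subgroup.normalizer (T : Set G))
    (htρ : t * ρ = ρ * t) (htV : t ∈ Subgroup.centralizer (V : Set G))
    (hVρ : ⁅V, Subgroup.zpowers ρ⁆ = V)
    (hCt : T ⊓ Subgroup.centralizer ({t} : Set G) = V) :
    ∃ r s : MulAut ↥T, (∀ x, r (r (r x)) = x) ∧ (∀ x, s (s x) = x) ∧ (∀ x, r (s x) = s (r x)) ∧
      (∀ x, s x = x → r x = x → x = 1) ∧ Nat.card {x : ↥T // s x = x} = 4 :=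
  Cfsg.Agent.Lib.Helper49_S2933_RED.reduce T V hT hVT hV t ρ ht hρ htn hρn htρ htV hVρ hCt

/-- **FPF** (S, ~60 l). The fixed points `C` of `r` form an `s`-invariant subgroup (they commute);
`s` acts on the 2-group `C` as a permutation of order dividing 2 whose only fixed point is `1`, so
`|C| ≡ 1 mod 2` (`Equiv.Perm.card_fixedPoints_modEq` or pair `x` with `s x`) and `|C|` is a power
of 2: `C = 1`. -/
theorem fpf_of_fix {T : Type*} [Group T] [Finite T] (hT : IsPGroup 2 T) (r s : MulAut T)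
    (h2 : ∀ x, s (s x) = x) (hc : ∀ x, r (s x) = s (r x))
    (hfix : ∀ x, s x = x → r x = x → x = 1) : ∀ x, r x = x → x = 1 :=
  Cfsg.Agent.Lib.Helper42_S2933_FPF.fpf_of_fix hT r s h2 hc hfix

/-- **ABD** (M, ~200 l). Abelian dichotomy.  `Ω = {a | a² = 1}` (a subgroup, `r`,`s`-invariant).
`δ u = u * s u` is an endomorphism of `Ω` with kernel `C_Ω(s)` and image in `C_Ω(s)`, so
`|Ω| ≤ |C(s)|² ≤ 16`; `r` is fixed-point-free on `Ω`, so `|Ω| ≡ 1 mod 3` (orbits `{u, r u, r r u}`),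
hence `|Ω| ∈ {1, 4, 16}`.  If `|Ω| ≤ 4`: right disjunct.  Otherwise `|Ω| = 16`, `W := C_A(s)` has
exactly 4 elements and `W ≤ Ω`.  Let `U = {a | a² ∈ W} ⊇ Ω`; for `a ∈ U`, `d a := a⁻¹ * s a` satisfies
`(d a)² = 1` and `s (d a) = (d a)⁻¹ = d a`, so `d : U →* W` with kernel `W`, hence `|U| ≤ 16` and
`U = Ω`: (*) `a² ∈ W → a² = 1`.  If some `b` has `b² ≠ 1`, take `a` a suitable power of `b` with
`a⁴ = 1 ≠ a²`; `S := {c² | c⁴ = 1}` is a nontrivial `s`-invariant subgroup of the 2-group, so `s` has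
a fixed point `c² ≠ 1` in it (count mod 2), `c² ∈ W`, contradicting (*).  So `A = Ω` has 16
elements. -/
theorem ab_dichotomy {A : Type*} [Group A] [Finite A] (hab : ∀ a b : A, a * b = b * a)
    (hA : IsPGroup 2 A) (r s : MulAut A) (h3 : ∀ a, r (r (r a)) = a)
    (hfp : ∀ a, r a = a → a = 1) (h2 : ∀ a, s (s a) = a) (hc : ∀ a, r (s a) = s (r a))
    (hC : Nat.card {a : A // s a = a} ≤ 4) :
    (Nat.card A = 16 ∧ ∀ a : A, a ^ 2 = 1) ∨ Nat.card {a : A // a ^ 2 = 1} ≤ 4 :=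
  Cfsg.Agent.Lib.Helper86_S2933_ABD.ab_dichotomy hab hA r s h3 hfp h2 hc hC

/-- **ABG** (M, ~200 l). Generators in the rank ≤ 2 case.  If `A = 1` take `x = 1`, `n = 0`.
Otherwise let `x` have maximal order `2^n`, `n ≥ 1`; `r x` has the same order.  If
`x^i = (r x)^j ≠ 1` the cyclic groups `⟨x⟩, ⟨r x⟩` share their unique involutions
`z = x^(2^(n-1))` and `r z`, so `r z = z`, `z = 1`: contradiction; this gives the last clause.
`H = {x^i (r x)^j}` contains the 4 elements `1, z, r z, z * r z` of order ≤ 2, i.e. ALL elements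
with `a² = 1` (`hΩ`).  By induction on the order of `a` every `a` is in `H`: `a² = x^i (r x)^j` has
order `< 2^n`, hence raising to `2^(n-1)` and independence shows `i, j` even, `a² = h²` with `h ∈ H`,
`(a h⁻¹)² = 1`, `a h⁻¹ ∈ H`. -/
theorem ab_gen {A : Type*} [Group A] [Finite A] (hab : ∀ a b : A, a * b = b * a)
    (hA : IsPGroup 2 A) (r : MulAut A) (h3 : ∀ a, r (r (r a)) = a)
    (hfp : ∀ a, r a = a → a = 1) (hΩ : Nat.card {a : A // a ^ 2 = 1} ≤ 4) :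
    ∃ (x : A) (n : ℕ), orderOf x = 2 ^ n ∧ orderOf (r x) = 2 ^ n ∧
      (∀ a : A, ∃ i j : ℕ, a = x ^ i * r x ^ j) ∧
      (∀ i j : ℕ, x ^ i * r x ^ j = 1 → x ^ i = 1 ∧ r x ^ j = 1) :=
  Cfsg.Agent.Lib.Helper60_S2933_ABG.ab_gen hab hA r h3 hfp hΩ

/-- **ABI** (S/M, ~100 l). Internal direct product of two cyclic groups of order `m`:
`(i, j) ↦ x^i * y^j` from `ZMod m × ZMod m` (use `zpow`/`ZMod.val`, or `zmultiplesHom`,
`zpowersHom`) is a bijective homomorphism. -/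
theorem ab_iso {A : Type*} [Group A] (hab : ∀ a b : A, a * b = b * a) (x y : A) (m : ℕ)
    (hm : 0 < m) (hx : orderOf x = m) (hy : orderOf y = m)
    (hgen : ∀ a : A, ∃ i j : ℕ, a = x ^ i * y ^ j)
    (hind : ∀ i j : ℕ, x ^ i * y ^ j = 1 → x ^ i = 1 ∧ y ^ j = 1) :
    Nonempty (A ≃* Multiplicative (ZMod m) × Multiplicative (ZMod m)) :=
  Cfsg.Agent.Lib.Helper60_S2933_ABI.ab_iso hab x y m hm hx hy hgen hind

/-- **NAQ** (M, ~200 l). The hypotheses pass to the abelianization `T ⧸ T'` (`T' = commutator T` is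
central by `hcl`).  `r̄ = r.abelianizationCongr` etc. (`abelianizationCongr_of`; every element of
`Abelianization T` is `Abelianization.of x`, `QuotientGroup.mk_surjective`;
`Abelianization.of x = 1 ↔ x ∈ commutator T`).  Fixed-point-freeness: if `r x ≡ x mod T'` then by
`Helper49_S2933Defs.prod3` `x³ ≡ x * r x * r (r x) = 1`, so `x³ ∈ T'`, and `x^(2^k) = 1`: `x ∈ T'`.
Fixed points of `s̄`: `D = {x | x⁻¹ * s x ∈ T'}` is a subgroup containing `T'`, and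
`x ↦ x⁻¹ * s x` is a homomorphism `D → T'` (`T'` central) with kernel `C_T(s)`, so
`|D| ≤ 4 |T'|`; the fixed points of `s̄` are `D/T'`. -/
theorem quot_hyp {T : Type*} [Group T] [Finite T] (hT : IsPGroup 2 T) (r s : MulAut T)
    (h3 : ∀ x, r (r (r x)) = x) (hfp : ∀ x, r x = x → x = 1) (h2 : ∀ x, s (s x) = x)
    (hc : ∀ x, r (s x) = s (r x)) (hcl : ∀ a b : T, ⁅a, b⁆ ∈ Subgroup.center T)
    (hC : Nat.card {x : T // s x = x} ≤ 4) :
    (∀ a : Abelianization T,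
      r.abelianizationCongr (r.abelianizationCongr (r.abelianizationCongr a)) = a) ∧
    (∀ a : Abelianization T, r.abelianizationCongr a = a → a = 1) ∧
    (∀ a : Abelianization T, s.abelianizationCongr (s.abelianizationCongr a) = a) ∧
    (∀ a : Abelianization T,
      r.abelianizationCongr (s.abelianizationCongr a) =
        s.abelianizationCongr (r.abelianizationCongr a)) ∧
    Nat.card {a : Abelianization T // s.abelianizationCongr a = a} ≤ 4 :=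
  Cfsg.Agent.Lib.Helper5_S2933_NAQ.quot_hyp hT r s h3 hfp h2 hc hcl hC

/-- **NAR** (S, ~60 l). `T = ⟨x, r x⟩ T'` with `T'` central and `x, r x` commuting: `T` is
abelian (every `a` is `x^i * (r x)^j * c`, `c ∈ commutator T ≤ center`). -/
theorem comm_of_rank_two {T : Type*} [Group T] (r : MulAut T)
    (hcl : ∀ a b : T, ⁅a, b⁆ ∈ Subgroup.center T) (x : T) (hx : x * r x = r x * x)
    (hgen : ∀ a : Abelianization T, ∃ i j : ℕ,
      a = Abelianization.of x ^ i * Abelianization.of (r x) ^ j) :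
    ∀ a b : T, a * b = b * a :=
  Cfsg.Agent.Lib.Helper42_S2933_NAR.comm_of_rank_two r hcl x hx hgen

/-- **NAE** (L, ~300 l). `T/T'` elementary abelian of order 16, class 2, `r` fixed-point-free with
`r³ = 1` ⟹ `|T'| ≤ 4`.  Write `β a b = ⁅a, b⁆` (bimultiplicative, central values:
`Helper76_S3157_RHO.comm_mul_left/right`), `β (r a) (r b) = r (β a b)`, `β a (r a) = 1`
(`Helper49_S2933Defs.comm_rho`).  Expanding `β (a b) (r (a b)) = 1` gives `β a (r b) = β (r a) b`;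
with `r (r b) = (b * r b)⁻¹` (`rho_rho`) this gives `β a (r b) = β (r a) b = r (r (β a b))`.
`r̄` is fixed-point-free on every quotient `T/N`, `N ⊇ T'` `r`-invariant (if `r x ≡ x` then
`x³ ≡ x * r x * r (r x) = 1`).  Pick `x ∉ T'`: `W = ⟨x, r x⟩ T'` has index 4 (`x̄ ≠ r x̄`).  Pick
`y ∉ W`: `⟨x, r x, y, r y⟩ T' = T` (if `r y ∈ ⟨y⟩ W` then `r̄` fixes a nontrivial element of `T/W`).
With `c = β x y`: the commutators of the generators are `1, c, r c, r (r c) = (c * r c)⁻¹`, and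
`c² = β (x²) y = 1` since `x² ∈ T'` is central.  `N = {1, c, r c, c * r c}` is a central subgroup
with `T/N` generated by pairwise commuting elements and central elements, so `T' ≤ N`. -/
theorem card_commutator_le {T : Type*} [Group T] [Finite T] (hT : IsPGroup 2 T) (r : MulAut T)
    (h3 : ∀ x, r (r (r x)) = x) (hfp : ∀ x, r x = x → x = 1)
    (hcl : ∀ a b : T, ⁅a, b⁆ ∈ Subgroup.center T)
    (hexp : ∀ a : Abelianization T, a ^ 2 = 1) (hidx : Nat.card (Abelianization T) = 16) :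
    Nat.card (commutator T) ≤ 4 :=
  Cfsg.Agent.Lib.Helper86_S2933_NAE.card_commutator_le hT r h3 hfp hcl hexp hidx

/-- **HYP** (S/M, ~120 l). A non-central involution `u` gives two non-commuting involutions.
Take `y` with `c := ⁅u, y⁆ ≠ 1`.  `u₀ = 1, u₁ = u, u₂ = ρ u, u₃ = u * ρ u` are commuting elements
of order ≤ 2 (`h.comm_r`: `⁅u, ρ u⁆ = ρ (ρ ⁅u, u⁆) = 1`) with `⁅uᵢ, y⁆ = 1, c, ρ (ρ c), ρ c`
(`h.comm_l`, `h.zprod`, `h.z2`): these are 4 distinct central elements (`ρ` is fixed-point-free),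
i.e. the whole centre (`h.cardZ`).  As `y² ∈ Z` (`h.sq`) choose `i` with `⁅uᵢ, y⁆ = y²`; then
`(y uᵢ)² = y² ⁅uᵢ, y⁆ uᵢ² = y⁴ = 1`, and `⁅u, y uᵢ⁆ = c ≠ 1`.  Take `a = u`, `b = y * uᵢ`. -/
theorem exists_noncomm_involutions {T : Type*} [Group T] [Finite T] {ρ : MulAut T}
    (h : HypR T ρ) (u : T) (hu : u ^ 2 = 1) (huZ : u ∉ Subgroup.center T) :
    ∃ a b : T, a ^ 2 = 1 ∧ b ^ 2 = 1 ∧ a * b ≠ b * a :=
  Cfsg.Agent.Lib.Helper5_S2933_HYP.exists_noncomm_involutions h u hu huZ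

/-- **CAN** (M, ~200 l). Canonical generators when all involutions are central.  Take `x ∉ Z`,
`a := x²`; `a ≠ 1` by `hell`, `a ∈ Z` (`h.sq`).  `b ↦ ⁅x, b⁆` is a homomorphism `T → Z` (class 2) whose
image `I` is nontrivial (`x ∉ Z`) and `ρ`-invariant (`h.comm_r`: `⁅x, ρ b⁆ = ρ (ρ ⁅x, b⁆)`); a
nontrivial `ρ`-invariant subgroup of `Z` contains `c, ρ c, ρ (ρ c)` (distinct, `≠ 1`), so `I = Z`
(`h.cardZ`) and there is `y₀` with `⁅x, y₀⁆ = a`.  `y₀² ∈ Z = {1, a, ρ a, ρ ρ a}`;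
`y₀² ≠ 1` by `hell` (`y₀ ∉ Z`); `y₀² ≠ a`, otherwise `(y₀ * ρ x)² = y₀² (ρ x)² ⁅ρ x, y₀⁆
= a * ρ a * ρ (ρ a) = 1` with `y₀ * ρ x ∉ Z`.  If `y₀² = ρ (ρ a)` take `y = y₀`; if `y₀² = ρ a` take
`y = y₀ * ρ x`: `y² = ρ a * ρ a * ρ (ρ a) = ρ (ρ a)` and `⁅x, y⁆ = ⁅x, y₀⁆ ⁅x, ρ x⁆ = a`. -/
theorem exists_canon {T : Type*} [Group T] [Finite T] {ρ : MulAut T} (h : HypR T ρ)
    (hell : ∀ u : T, u ^ 2 = 1 → u ∈ Subgroup.center T) : ∃ x y a : T, Canon ρ x y a :=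
  Cfsg.Agent.Lib.Helper42_S2933_CAN.exists_canon h hell

/-- **REL** (M/L, ~250 l). The relations.  With `hc : a ≠ 1 ∧ x² = a ∧ ⁅x, y⁆ = a ∧ y² = ρ (ρ a)`:
`a, ρ a` central of order 2 (`h.sq`, `h.z2`, `h.rhoZ`), `ρ (ρ a) = a * ρ a` (`h.zprod`, `h.z2`);
`(ρ x)² = ρ a`, `(ρ y)² = ρ (ρ (ρ a)) = a`; `⁅x, ρ x⁆ = ρ ρ ⁅x, x⁆ = 1` (`h.comm_r`), same for `y`;
`⁅x, ρ y⁆ = ⁅ρ x, y⁆ = ρ ρ a = a * ρ a`, `⁅ρ x, ρ y⁆ = ρ a`; translate `⁅u, v⁆ = c` (central, `c² = 1`)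
into `v * u = u * v * c`.  Generation: the closure `H` contains `Z = {1, a, ρ a, a * ρ a}` (4 = `h.cardZ`
elements), the 16 products `x^i (ρ x)^j z` and `y ∉ C_T(x)`, so `|H| > 32 / 2`... precisely
`|H| ≥ 32`, `H` is `ρ`-invariant (`ρ (ρ x) = (x * ρ x)⁻¹` by `Helper49_S2933Defs.rho_rho`), hence
`|H| ≡ 1 mod 3` (orbits of `ρ` on `H \ {1}`) and `|H| ∣ 64`: `|H| = 64`. -/
theorem pc64_of_canon {T : Type*} [Group T] [Finite T] {ρ : MulAut T} (h : HypR T ρ)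
    (x y a : T) (hc : Canon ρ x y a) :
    PC64 x (ρ x) y (ρ y) a (ρ a) ∧
      Subgroup.closure ({x, ρ x, y, ρ y, a, ρ a} : Set T) = ⊤ :=
  Cfsg.Agent.Lib.Helper50_S2933_REL.pc64_of_canon h x y a hc

/-- **UNQ** (M/L, ~250 l). Uniqueness.  Graph trick: let `D ≤ T₁ × T₂` be the closure of the six pairs
`(x₁, x₁'), (x₂, x₂'), (y₁, y₁'), (y₂, y₂'), (a₁, a₁'), (a₂, a₂')`.  The pairs satisfy the same relations
`PC64` componentwise, so they form a polycyclic generating sequence with all `r i = 2`: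
`Cfsg.Agent.Lib.Helper82_S2115_PCB.card_closure_le` (ON MAIN) gives `|D| ≤ 2^6 = 64`.  Both projections
`D → T₁`, `D → T₂` are surjective (the image of the closure is the closure of the image `= ⊤`) and
`|T₁| = |T₂| = 64 ≥ |D|`, so both are bijective; compose. -/
theorem iso_of_pc64 {T₁ : Type*} {T₂ : Type*} [Group T₁] [Group T₂] [Finite T₁] [Finite T₂]
    (h1 : Nat.card T₁ = 64) (h2 : Nat.card T₂ = 64)
    (x₁ x₂ y₁ y₂ a₁ a₂ : T₁) (x₁' x₂' y₁' y₂' a₁' a₂' : T₂)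
    (hp : PC64 x₁ x₂ y₁ y₂ a₁ a₂) (hp' : PC64 x₁' x₂' y₁' y₂' a₁' a₂')
    (hg : Subgroup.closure ({x₁, x₂, y₁, y₂, a₁, a₂} : Set T₁) = ⊤)
    (hg' : Subgroup.closure ({x₁', x₂', y₁', y₂', a₁', a₂'} : Set T₂) = ⊤) :
    Nonempty (T₁ ≃* T₂) :=
  Cfsg.Agent.Lib.Helper95_S2933_UNQ.iso_of_pc64 h1 h2 x₁ x₂ y₁ y₂ a₁ a₂ x₁' x₂' y₁' y₂' a₁' a₂' hp hp' hg hg'

/-- **MOD** (M, ~200 l). The model `PS σ` over a field with 16 elements (API: `Cfsg.Agent.S1141`,
ON MAIN).  Cardinality: `PS.equivProd τ hτ : PS σ ≃ F × PS.K σ` for a `τ` with `τ + σ τ = 1`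
(exists: see the first lines of `Cfsg.Agent.S3156.result`), `|K σ| = 4` (roots of `X^4 - X`;
`card_K_ge` gives `≥ 4`; or count `PS` directly).  Non-abelian: `PS.exists_not_commute`.
`r := PS.phi u` (`scale` by `l`: `(b, c) ↦ (l b, l² c)`) for `u : Kx σ` of order 3, i.e. `l ∈ F`,
`l^4 = l`, `l ≠ 1`, `l³ = 1` (exists since `Fˣ` is cyclic of order 15); `r³ = 1` by `scale_scale`;
fixed points: `l b = b → b = 0`, `l² c = c → c = 0`.  Involutions central: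
`PS.b_eq_zero_of_mul_self` and `PS.mem_center_iff`. -/
theorem model_props {F : Type} [Field F] [Fintype F] [CharP F 2]
    (hF : Fintype.card F = (2 ^ 2) ^ 2) [Fact (∀ x : F, powQ hF (powQ hF x) = x)] :
    Nat.card (PS (powQ hF)) = 64 ∧ (∃ a b : PS (powQ hF), a * b ≠ b * a) ∧
      ∃ r : MulAut (PS (powQ hF)), (∀ t, r (r (r t)) = t) ∧ (∀ t, r t = t → t = 1) ∧
        ∀ p : PS (powQ hF), p ^ 2 = 1 → p ∈ Subgroup.center (PS (powQ hF)) :=
  Cfsg.Agent.Lib.Helper8_S2933_MOD.model_props hF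

end Cfsg.Agent.Lib.Helper49_S2933Pk
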