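import Mathlib

/-!
S3157 package INV (architect helper76): subgroups invariant under a fixed-point-free automorphism of order
dividing 3 have order `≡ 1 mod 3`; more generally a self-map of order dividing 3 of a finite set has a
fixed point unless 3 divides the cardinality (helper63).
-/

set_option autoImplicit false

namespace Cfsg.Agent.Lib.Helper63_S3157_INV

/-- A self-map with `f ∘ f ∘ f = id` of a finite type: the cardinality is congruent mod 3 to the number
of fixed points. -/
theorem card_modEq_fixed {α : Type*} [Finite α] (f : α → α) (hf : ∀ a, f (f (f a)) = a) :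
    Nat.card α ≡ Nat.card {a : α // f a = a} [MOD 3] := by
  classical
  have := Fintype.ofFinite α
  have : Fact (Nat.Prime 3) := ⟨Nat.prime_three⟩
  obtain ⟨g, hg⟩ : ∃ g : Function.End α, g = f := ⟨f, rfl⟩
  have h3 : g ^ 3 ^ 1 = 1 := by
    rw [pow_one]
    funext a
    rw [pow_succ, pow_succ, pow_one, hg]
    exact hf a
  have h := Equiv.Perm.card_fixedPoints_modEq (f := g) (p := 3) (n := 1) h3
  rw [Nat.card_eq_fintype_card]
  refine h.trans ?_
  rw [← Nat.card_eq_fintype_card, hg]
  exact Nat.ModEq.refl _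

variable {T : Type*} [Group T]

theorem card_mod_three [Finite T] (ρ : MulAut T) (hρ3 : ∀ t : T, ρ (ρ (ρ t)) = t)
    (hfp : ∀ y : T, ρ y = y → y = 1) (H : Subgroup T) (hH : ∀ h ∈ H, ρ h ∈ H) :
    Nat.card H % 3 = 1 := by
  have h := card_modEq_fixed (α := H) (fun h => ⟨ρ h, hH h h.2⟩)
    (fun a => Subtype.ext (hρ3 a))
  have hfix : Nat.card {a : H // (⟨ρ a, hH a a.2⟩ : H) = a} = 1 := by
    rw [Nat.card_eq_one_iff_unique]
    refine ⟨⟨?_⟩, ⟨⟨1, Subtype.ext (map_one ρ)⟩⟩⟩
    rintro ⟨a, ha⟩ ⟨b, hb⟩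
    have ha1 : (a : T) = 1 := hfp _ (congrArg Subtype.val ha)
    have hb1 : (b : T) = 1 := hfp _ (congrArg Subtype.val hb)
    apply Subtype.ext
    apply Subtype.ext
    rw [ha1, hb1]
  rw [hfix] at h
  exact h

end Cfsg.Agent.Lib.Helper63_S3157_INV
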