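import Mathlib
import Cfsg.Agent.Lib.Helper76_PGroup
import Cfsg.Agent.Lib.Helper63_S3157_INV

/-!
S3157 package IDX4 (architect helper76): a finite 2-group with a fixed-point-free automorphism of order
dividing 3 never has centre of index 4 (helper63).
-/

set_option autoImplicit false

namespace Cfsg.Agent.Lib.Helper63_S3157_IDX4

open Cfsg.Agent.Lib.Helper63_S3157_INV

theorem center_index_ne_four {P : Type*} [Group P] [Finite P] (hP : IsPGroup 2 P) (ρ : MulAut P)
    (hρ3 : ∀ t : P, ρ (ρ (ρ t)) = t) (hfp : ∀ y : P, ρ y = y → y = 1) :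
    (Subgroup.center P).index ≠ 4 := by
  intro h4
  have : Fact (Nat.Prime 2) := ⟨Nat.prime_two⟩
  have h2 : Nat.card (commutator P) = 2 :=
    Cfsg.Agent.Lib.Helper76_PGroup.card_commutator_of_index_center_eq_sq 2 hP (by rw [h4]; norm_num)
  have hinv : ∀ h ∈ commutator P, ρ h ∈ commutator P := by
    intro h hh
    have hchar : (commutator P).Characteristic := inferInstance
    have := (Subgroup.characteristic_iff_map_eq.1 hchar) ρ
    rw [← this]
    exact ⟨h, hh, rfl⟩
  have h3 := card_mod_three ρ hρ3 hfp (commutator P) hinv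
  rw [h2] at h3
  norm_num at h3

end Cfsg.Agent.Lib.Helper63_S3157_IDX4
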