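import Mathlib
import Cfsg.Agent.Lib.Helper63_S3157_INV

/-!
S3157 package QUOT (architect helper76): the automorphism induced by a fixed-point-free automorphism of
order dividing 3 on the quotient by an invariant normal subgroup is again fixed-point-free of order
dividing 3 (helper63).
-/

set_option autoImplicit false

namespace Cfsg.Agent.Lib.Helper63_S3157_QUOT

open Cfsg.Agent.Lib.Helper63_S3157_INV

variable {T : Type*} [Group T]

theorem exists_quotient_aut [Finite T] (ρ : MulAut T) (hρ3 : ∀ t : T, ρ (ρ (ρ t)) = t)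
    (hfp : ∀ y : T, ρ y = y → y = 1) (N : Subgroup T) [N.Normal] (hN : ∀ h ∈ N, ρ h ∈ N) :
    ∃ ρ' : MulAut (T ⧸ N), (∀ t : T, ρ' (t : T ⧸ N) = ((ρ t : T) : T ⧸ N)) ∧
      (∀ q : T ⧸ N, ρ' (ρ' (ρ' q)) = q) ∧ (∀ q : T ⧸ N, ρ' q = q → q = 1) := by
  have hmap : N.map ((ρ : T ≃* T) : T →* T) = N := by
    apply le_antisymm
    · rintro _ ⟨h, hh, rfl⟩
      exact hN h hh
    · intro h hh
      refine ⟨ρ (ρ h), hN _ (hN h hh), ?_⟩
      exact hρ3 h
  refine ⟨QuotientGroup.congr N N ρ hmap, ?_, ?_, ?_⟩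
  · intro t
    exact QuotientGroup.congr_mk N N ρ hmap t
  · intro q
    induction q using QuotientGroup.induction_on with
    | H t =>
      rw [QuotientGroup.congr_mk, QuotientGroup.congr_mk, QuotientGroup.congr_mk, hρ3]
  · intro q
    induction q using QuotientGroup.induction_on with
    | H t =>
      intro hq
      rw [QuotientGroup.congr_mk, eq_comm, QuotientGroup.eq] at hq
      -- `hq : t⁻¹ * ρ t ∈ N`
      have hmem : ∀ n : N, t⁻¹ * ρ (t * (n : T)) ∈ N := by
        intro n
        have : t⁻¹ * ρ (t * (n : T)) = (t⁻¹ * ρ t) * ρ (n : T) := by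
          rw [map_mul, mul_assoc]
        rw [this]
        exact N.mul_mem hq (hN _ n.2)
      have hg3 : ∀ n : N, (⟨t⁻¹ * ρ (t * ((⟨t⁻¹ * ρ (t * ((⟨t⁻¹ * ρ (t * (n : T)), hmem n⟩ : N) : T)),
          hmem _⟩ : N) : T)), hmem _⟩ : N) = n := by
        intro n
        apply Subtype.ext
        show t⁻¹ * ρ (t * (t⁻¹ * ρ (t * (t⁻¹ * ρ (t * (n : T)))))) = n
        rw [mul_inv_cancel_left, mul_inv_cancel_left, hρ3, inv_mul_cancel_left]
      have hcard := card_modEq_fixed (α := N) (fun n => ⟨t⁻¹ * ρ (t * (n : T)), hmem n⟩) hg3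
      have hN1 := card_mod_three ρ hρ3 hfp N hN
      have hne : Nonempty {n : N // (⟨t⁻¹ * ρ (t * (n : T)), hmem n⟩ : N) = n} := by
        by_contra hempty
        rw [not_nonempty_iff] at hempty
        have h0 : Nat.card {n : N // (⟨t⁻¹ * ρ (t * (n : T)), hmem n⟩ : N) = n} = 0 :=
          Nat.card_of_isEmpty
        rw [h0] at hcard
        have := hcard
        unfold Nat.ModEq at this
        omega
      obtain ⟨⟨n, hn⟩⟩ := hne
      have hn' : t⁻¹ * ρ (t * (n : T)) = n := congrArg Subtype.val hn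
      have hfixed : ρ (t * (n : T)) = t * (n : T) := by
        calc ρ (t * (n : T)) = t * (t⁻¹ * ρ (t * (n : T))) := by group
          _ = t * (n : T) := by rw [hn']
      have h1 := hfp _ hfixed
      rw [QuotientGroup.eq_one_iff]
      have : t = (n : T)⁻¹ := eq_inv_of_mul_eq_one_left h1
      rw [this]
      exact N.inv_mem n.2

end Cfsg.Agent.Lib.Helper63_S3157_QUOT
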