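import Mathlib
import Cfsg.Agent.Lib.Helper44_PSLnUT
import Cfsg.Agent.Lib.Helper61_F4
import Cfsg.Agent.Lib.Helper76_PGroup
import Cfsg.Agent.Lib.Helper76_S3157Defs
import Cfsg.Agent.Lib.Helper63_S3157_INV
import Cfsg.Agent.Lib.Helper63_S3157_QUOT
import Cfsg.Agent.Lib.Helper63_S3157_IDX4

/-!
# S3157 package PK-STR (architect helper76): a nonabelian group of order `64` with a fixed-point-free
automorphism of order `3` is special of type `2^{2+4}`.
-/

set_option autoImplicit false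

open scoped commutatorElement
open Cfsg.Agent.Lib.Helper76_S3157Defs

namespace Cfsg.Agent.Lib.Helper64_S3157_STR

open Cfsg.Agent.Lib.Helper63_S3157_INV Cfsg.Agent.Lib.Helper63_S3157_QUOT
  Cfsg.Agent.Lib.Helper63_S3157_IDX4

variable {T : Type*} [Group T]

/-- the centre is invariant under automorphisms -/
theorem aut_mem_center {P : Type*} [Group P] (φ : MulAut P) (z : P) (hz : z ∈ Subgroup.center P) :
    φ z ∈ Subgroup.center P := by
  rw [Subgroup.mem_center_iff] at hz ⊢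
  intro g
  have h := hz (φ.symm g)
  have h2 := congrArg φ h
  rw [map_mul, map_mul, MulEquiv.apply_symm_apply] at h2
  exact h2

/-- a divisor of `64` which is `1` mod `3` and different from `1`, `64` is `4` or `16` -/
theorem dvd_64_cases (n : ℕ) (hd : n ∣ 64) (hm : n % 3 = 1) (h1 : n ≠ 1) (h64 : n ≠ 64) :
    n = 4 ∨ n = 16 := by
  have hle : n ≤ 64 := Nat.le_of_dvd (by norm_num) hd
  interval_cases n <;> omega

theorem dvd_16_cases (n : ℕ) (hd : n ∣ 16) (hm : n % 3 = 1) (h1 : n ≠ 1) :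
    n = 4 ∨ n = 16 := by
  have hle : n ≤ 16 := Nat.le_of_dvd (by norm_num) hd
  interval_cases n <;> omega

theorem dvd_4_cases (n : ℕ) (hd : n ∣ 4) (hm : n % 3 = 1) (h1 : n ≠ 1) : n = 4 := by
  have hle : n ≤ 4 := Nat.le_of_dvd (by norm_num) hd
  interval_cases n <;> omega

theorem structure_thm [Finite T] (hT : Nat.card T = 64) (hna : ∃ a b : T, a * b ≠ b * a)
    (ρ : MulAut T) (hρ3 : ∀ t : T, ρ (ρ (ρ t)) = t) (hfp : ∀ y : T, ρ y = y → y = 1) :
    Nat.card (Subgroup.center T) = 4 ∧ (∀ a b : T, ⁅a, b⁆ ∈ Subgroup.center T) ∧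
      (∀ a : T, a ^ 2 ∈ Subgroup.center T) ∧ (∀ z ∈ Subgroup.center T, z ^ 2 = 1) := by
  classical
  have : Fact (Nat.Prime 2) := ⟨Nat.prime_two⟩
  have hP : IsPGroup 2 T := IsPGroup.of_card (n := 6) (by rw [hT]; norm_num)
  have hnt : Nontrivial T := by
    rw [← Finite.one_lt_card_iff_nontrivial, hT]; norm_num
  set Z : Subgroup T := Subgroup.center T with hZdef
  -- step 1: `|Z| = 4`
  have hZinv : ∀ h ∈ Z, ρ h ∈ Z := fun h hh => aut_mem_center ρ h hh
  have hZmod : Nat.card Z % 3 = 1 := card_mod_three ρ hρ3 hfp Z hZinv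
  have hZdvd : Nat.card Z ∣ 64 := by rw [← hT]; exact Subgroup.card_subgroup_dvd_card Z
  have hZ1 : Nat.card Z ≠ 1 := by
    have : Nontrivial Z := hP.center_nontrivial
    have := Finite.one_lt_card (α := Z)
    omega
  have hZ64 : Nat.card Z ≠ 64 := by
    intro h
    have htop : Z = ⊤ := Subgroup.eq_top_of_card_eq Z (by rw [h, hT])
    obtain ⟨a, b, hab⟩ := hna
    apply hab
    have ha : a ∈ Z := by rw [htop]; exact Subgroup.mem_top a
    exact ((Subgroup.mem_center_iff.1 ha) b).symm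
  have hZ4 : Nat.card Z = 4 := by
    rcases dvd_64_cases _ hZdvd hZmod hZ1 hZ64 with h | h
    · exact h
    · exfalso
      have hidx := Subgroup.card_mul_index Z
      rw [h, hT] at hidx
      have : Z.index = 4 := by omega
      exact center_index_ne_four hP ρ hρ3 hfp this
  -- step 2: the quotient is commutative
  obtain ⟨ρ', hρ', hρ'3, hρ'fp⟩ := exists_quotient_aut ρ hρ3 hfp Z hZinv
  have hQcard : Nat.card (T ⧸ Z) = 16 := by
    have hidx := Subgroup.card_mul_index Z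
    rw [hZ4, hT] at hidx
    rw [← Subgroup.index_eq_card]
    omega
  have hQP : IsPGroup 2 (T ⧸ Z) := hP.to_quotient Z
  have hQnt : Nontrivial (T ⧸ Z) := by
    rw [← Finite.one_lt_card_iff_nontrivial, hQcard]; norm_num
  have hQZmod : Nat.card (Subgroup.center (T ⧸ Z)) % 3 = 1 :=
    card_mod_three ρ' hρ'3 hρ'fp _ (fun h hh => aut_mem_center ρ' h hh)
  have hQZdvd : Nat.card (Subgroup.center (T ⧸ Z)) ∣ 16 := by
    rw [← hQcard]; exact Subgroup.card_subgroup_dvd_card _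
  have hQZ1 : Nat.card (Subgroup.center (T ⧸ Z)) ≠ 1 := by
    have : Nontrivial (Subgroup.center (T ⧸ Z)) := hQP.center_nontrivial
    have := Finite.one_lt_card (α := Subgroup.center (T ⧸ Z))
    omega
  have hQZ16 : Nat.card (Subgroup.center (T ⧸ Z)) = 16 := by
    rcases dvd_16_cases _ hQZdvd hQZmod hQZ1 with h | h
    · exfalso
      have hidx := Subgroup.card_mul_index (Subgroup.center (T ⧸ Z))
      rw [h, hQcard] at hidx
      have : (Subgroup.center (T ⧸ Z)).index = 4 := by omega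
      exact center_index_ne_four hQP ρ' hρ'3 hρ'fp this
    · exact h
  have hQtop : Subgroup.center (T ⧸ Z) = ⊤ :=
    Subgroup.eq_top_of_card_eq _ (by rw [hQZ16, hQcard])
  have hcl : ∀ a b : T, ⁅a, b⁆ ∈ Z := by
    intro a b
    rw [← QuotientGroup.eq_one_iff]
    have ha : ((a : T) : T ⧸ Z) ∈ Subgroup.center (T ⧸ Z) := by
      rw [hQtop]; exact Subgroup.mem_top _
    have hcomm := (Subgroup.mem_center_iff.1 ha) (b : T ⧸ Z)
    rw [commutatorElement_def]
    rw [QuotientGroup.mk_mul, QuotientGroup.mk_mul, QuotientGroup.mk_mul, QuotientGroup.mk_inv,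
      QuotientGroup.mk_inv, ← hcomm]
    group
  -- step 3: `Z` has exponent two
  let Ω : Subgroup T :=
    { carrier := {z | z ∈ Z ∧ z ^ 2 = 1}
      one_mem' := ⟨Z.one_mem, one_pow 2⟩
      mul_mem' := by
        rintro a b ⟨ha, ha2⟩ ⟨hb, hb2⟩
        refine ⟨Z.mul_mem ha hb, ?_⟩
        have hc : Commute a b := ((Subgroup.mem_center_iff.1 ha) b).symm
        rw [hc.mul_pow, ha2, hb2, one_mul]
      inv_mem' := by
        rintro a ⟨ha, ha2⟩
        exact ⟨Z.inv_mem ha, by rw [inv_pow, ha2, inv_one]⟩ }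
  have hΩmem : ∀ z, z ∈ Ω ↔ z ∈ Z ∧ z ^ 2 = 1 := fun z => Iff.rfl
  have hΩle : Ω ≤ Z := fun z hz => hz.1
  have hΩinv : ∀ h ∈ Ω, ρ h ∈ Ω := by
    intro h hh
    exact ⟨hZinv h hh.1, by rw [← map_pow, hh.2, map_one]⟩
  have hΩmod : Nat.card Ω % 3 = 1 := card_mod_three ρ hρ3 hfp Ω hΩinv
  have hΩdvd : Nat.card Ω ∣ 4 := by rw [← hZ4]; exact Subgroup.card_dvd_of_le hΩle
  have hΩ1 : Nat.card Ω ≠ 1 := by
    obtain ⟨z, hz⟩ := exists_prime_orderOf_dvd_card' (G := Z) 2 (by rw [hZ4]; norm_num)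
    have hz2 : (z : T) ^ 2 = 1 := by
      have := pow_orderOf_eq_one z
      rw [hz] at this
      exact_mod_cast congrArg Subtype.val this
    have hz1 : (z : T) ≠ 1 := by
      intro h
      have : z = 1 := Subtype.ext h
      rw [this, orderOf_one] at hz
      norm_num at hz
    intro hcard
    have hbot : Ω = ⊥ := Subgroup.card_eq_one.1 hcard
    have : (z : T) ∈ Ω := ⟨z.2, hz2⟩
    rw [hbot, Subgroup.mem_bot] at this
    exact hz1 this
  have hΩ4 : Nat.card Ω = 4 := dvd_4_cases _ hΩdvd hΩmod hΩ1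
  have hΩZ : Ω = Z := Subgroup.eq_of_le_of_card_ge hΩle (by rw [hΩ4, hZ4])
  have hz2 : ∀ z ∈ Z, z ^ 2 = 1 := by
    intro z hz
    have : z ∈ Ω := by rw [hΩZ]; exact hz
    exact this.2
  -- step 4: squares are central
  have hsq : ∀ a : T, a ^ 2 ∈ Z := by
    intro a
    rw [Subgroup.mem_center_iff]
    intro b
    have hc := hcl a b
    have hcc : ∀ t : T, t * ⁅a, b⁆ = ⁅a, b⁆ * t := Subgroup.mem_center_iff.1 hc
    have h1 : ⁅a, b⁆ ^ 2 = 1 := hz2 _ hc
    -- `a * b = ⁅a, b⁆ * b * a`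
    have hab : a * b = ⁅a, b⁆ * (b * a) := by
      rw [commutatorElement_def]; group
    calc b * a ^ 2 = (b * a) * a := by rw [pow_two, mul_assoc]
      _ = ⁅a, b⁆ * (⁅a, b⁆ * (b * a)) * a := by
          rw [← mul_assoc, ← pow_two, h1, one_mul]
      _ = ⁅a, b⁆ * (a * b) * a := by rw [← hab]
      _ = (⁅a, b⁆ * a) * (b * a) := by simp only [mul_assoc]
      _ = (a * ⁅a, b⁆) * (b * a) := by rw [← hcc a]
      _ = a * (⁅a, b⁆ * (b * a)) := by simp only [mul_assoc]
      _ = a * (a * b) := by rw [← hab]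
      _ = a ^ 2 * b := by rw [pow_two, mul_assoc]
  exact ⟨hZ4, hcl, hsq, hz2⟩

end Cfsg.Agent.Lib.Helper64_S3157_STR
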