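import Mathlib
import Cfsg.Agent.Lib.Helper61_F4
import Cfsg.Agent.Lib.Helper76_S3157Defs
import Cfsg.Agent.Lib.Helper76_S3157_RHO

/-!
# Helper76_S3157_F4HOM

S3157, package F4HOM: from two noncommuting involutions `a₁, b₁` of `T` (and `HypR`), the three
homomorphisms `A, B, Zm : (F₄, +) → T` with `⁅A a, B b⁆ = Zm (a b)`.
-/

set_option autoImplicit false

open scoped commutatorElement
open Cfsg.Agent.Lib.Helper76_S3157Defs Cfsg.Agent.Lib.Helper76_S3157_RHO
open Cfsg.Agent.Lib.Helper61_F4

namespace Cfsg.Agent.Lib.Helper76_S3157_F4HOM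

variable {T : Type*} [Group T]

/-- `u ^ i` for `i : ZMod 2` -/
def pw (u : T) (i : ZMod 2) : T := u ^ i.val

theorem zmod2_cases (i : ZMod 2) : i = 0 ∨ i = 1 := by
  revert i; decide

@[simp] theorem pw_zero (u : T) : pw u 0 = 1 := by
  simp [pw]

@[simp] theorem pw_one (u : T) : pw u 1 = u := by
  have : (1 : ZMod 2).val = 1 := rfl
  simp [pw, this]

theorem pw_add {u : T} (hu : u * u = 1) (i j : ZMod 2) : pw u (i + j) = pw u i * pw u j := by
  rcases zmod2_cases i with rfl | rfl <;> rcases zmod2_cases j with rfl | rfl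
  · simp
  · simp
  · simp
  · have : (1 + 1 : ZMod 2) = 0 := by decide
    rw [this]; simp [hu]

theorem pw_mul (u : T) (i j : ZMod 2) : pw (pw u i) j = pw u (i * j) := by
  rcases zmod2_cases i with rfl | rfl <;> rcases zmod2_cases j with rfl | rfl <;> simp

theorem pw_mul_distrib {u v : T} (i : ZMod 2) : pw (u * v) i = pw u i * pw v i := by
  rcases zmod2_cases i with rfl | rfl <;> simp

theorem pw_mem {H : Subgroup T} {u : T} (hu : u ∈ H) (i : ZMod 2) : pw u i ∈ H :=
  H.pow_mem hu _

theorem pw_comm {u v : T} (h : u * v = v * u) (i j : ZMod 2) :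
    pw u i * pw v j = pw v j * pw u i := by
  rcases zmod2_cases i with rfl | rfl <;> rcases zmod2_cases j with rfl | rfl <;> simp [h]

theorem comm_pw_left (_hcl : ∀ a b : T, ⁅a, b⁆ ∈ Subgroup.center T) (u v : T) (i : ZMod 2) :
    ⁅pw u i, v⁆ = pw ⁅u, v⁆ i := by
  rcases zmod2_cases i with rfl | rfl <;> simp

theorem comm_pw_right (_hcl : ∀ a b : T, ⁅a, b⁆ ∈ Subgroup.center T) (u v : T) (i : ZMod 2) :
    ⁅u, pw v i⁆ = pw ⁅u, v⁆ i := by
  rcases zmod2_cases i with rfl | rfl <;> simp

/-- the homomorphism `i + j ω ↦ u ^ i * v ^ j` for commuting involutions `u`, `v` -/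
def homOf (u v : T) (hu : u * u = 1) (hv : v * v = 1) (huv : u * v = v * u) :
    Multiplicative F4 →* T where
  toFun w := pw u (F4.re (Multiplicative.toAdd w)) * pw v (F4.im (Multiplicative.toAdd w))
  map_one' := by
    have h1 : F4.re (Multiplicative.toAdd (1 : Multiplicative F4)) = 0 := rfl
    have h2 : F4.im (Multiplicative.toAdd (1 : Multiplicative F4)) = 0 := rfl
    rw [h1, h2]; simp
  map_mul' := by
    intro w w'
    have h1 : F4.re (Multiplicative.toAdd (w * w'))
        = F4.re (Multiplicative.toAdd w) + F4.re (Multiplicative.toAdd w') := rfl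
    have h2 : F4.im (Multiplicative.toAdd (w * w'))
        = F4.im (Multiplicative.toAdd w) + F4.im (Multiplicative.toAdd w') := rfl
    rw [h1, h2, pw_add hu, pw_add hv]
    have h3 := pw_comm huv (F4.re (Multiplicative.toAdd w')) (F4.im (Multiplicative.toAdd w))
    calc pw u (F4.re (Multiplicative.toAdd w)) * pw u (F4.re (Multiplicative.toAdd w'))
          * (pw v (F4.im (Multiplicative.toAdd w)) * pw v (F4.im (Multiplicative.toAdd w')))
        = pw u (F4.re (Multiplicative.toAdd w)) * (pw u (F4.re (Multiplicative.toAdd w'))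
          * pw v (F4.im (Multiplicative.toAdd w))) * pw v (F4.im (Multiplicative.toAdd w')) := by
          group
      _ = pw u (F4.re (Multiplicative.toAdd w)) * (pw v (F4.im (Multiplicative.toAdd w))
          * pw u (F4.re (Multiplicative.toAdd w'))) * pw v (F4.im (Multiplicative.toAdd w')) := by
          rw [h3]
      _ = _ := by group

theorem homOf_apply (u v : T) (hu : u * u = 1) (hv : v * v = 1) (huv : u * v = v * u) (a : F4) :
    homOf u v hu hv huv (Multiplicative.ofAdd a) = pw u (F4.re a) * pw v (F4.im a) := rfl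

theorem exists_homs {ρ : MulAut T} (h : HypR T ρ) (a₁ b₁ : T) (ha : a₁ ^ 2 = 1) (hb : b₁ ^ 2 = 1)
    (hab : ⁅a₁, b₁⁆ ≠ 1) :
    ∃ A B Zm : Multiplicative Cfsg.Agent.Lib.Helper61_F4.F4 →* T,
      (∀ (c : Multiplicative Cfsg.Agent.Lib.Helper61_F4.F4) (t : T), Zm c * t = t * Zm c) ∧
      Function.Injective Zm ∧
      ∀ a b : Cfsg.Agent.Lib.Helper61_F4.F4,
        ⁅A (Multiplicative.ofAdd a), B (Multiplicative.ofAdd b)⁆ = Zm (Multiplicative.ofAdd (a * b)) := by
  have hcl := h.cl2
  have hzz : ∀ w ∈ Subgroup.center T, w * w = 1 := by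
    intro w hw; rw [← pow_two]; exact h.z2 w hw
  have hzinv : ∀ w ∈ Subgroup.center T, w⁻¹ = w :=
    fun w hw => inv_eq_of_mul_eq_one_left (hzz w hw)
  have hcomm' : ∀ w ∈ Subgroup.center T, ∀ g : T, g * w = w * g :=
    fun w hw g => Subgroup.mem_center_iff.mp hw g
  have ha' : a₁ * a₁ = 1 := by rw [← pow_two]; exact ha
  have hb' : b₁ * b₁ = 1 := by rw [← pow_two]; exact hb
  have hρa : ρ a₁ * ρ a₁ = 1 := by rw [← map_mul, ha', map_one]
  have hρb : ρ b₁ * ρ b₁ = 1 := by rw [← map_mul, hb', map_one]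
  have haa : a₁ * ρ a₁ = ρ a₁ * a₁ := by
    rw [← commutatorElement_eq_one_iff_mul_comm, h.comm_r, commutatorElement_self, map_one,
      map_one]
  have hbb : b₁ * ρ b₁ = ρ b₁ * b₁ := by
    rw [← commutatorElement_eq_one_iff_mul_comm, h.comm_r, commutatorElement_self, map_one,
      map_one]
  set e := ⁅a₁, b₁⁆ with he
  set f := ρ (ρ e) with hf
  have heZ : e ∈ Subgroup.center T := hcl _ _
  have hρeZ : ρ e ∈ Subgroup.center T := h.rhoZ e heZ
  have hfZ : f ∈ Subgroup.center T := h.rhoZ _ hρeZ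
  have hee : e * e = 1 := hzz e heZ
  have hff : f * f = 1 := hzz f hfZ
  have hef : e * f = f * e := (hcomm' f hfZ e)
  -- ρ e = e * f
  have hρe : ρ e = e * f := by
    have h1 := h.zprod e heZ
    have h2 : e * f * ρ e = 1 := by
      rw [mul_assoc, hcomm' _ hρeZ f, ← mul_assoc]
      exact h1
    have h3 : e * f = (ρ e)⁻¹ := eq_inv_of_mul_eq_one_left h2
    rw [h3, hzinv _ hρeZ]
  have hf1 : f ≠ 1 := by
    intro h0
    apply hab
    have : ρ (ρ e) = ρ (ρ 1) := by rw [map_one, map_one]; exact h0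
    exact ρ.injective (ρ.injective this)
  have hef1 : e * f ≠ 1 := by
    intro h0
    apply hab
    rw [← hρe] at h0
    have : ρ e = ρ 1 := by rw [map_one]; exact h0
    exact ρ.injective this
  -- the three homomorphisms
  let A := homOf a₁ (ρ a₁) ha' hρa haa
  let B := homOf b₁ (ρ b₁) hb' hρb hbb
  let Zm := homOf e f hee hff hef
  -- basic commutators
  have k1 : ⁅a₁, ρ b₁⁆ = f := h.comm_r a₁ b₁
  have k2 : ⁅ρ a₁, b₁⁆ = f := h.comm_l a₁ b₁
  have k3 : ⁅ρ a₁, ρ b₁⁆ = e * f := by
    rw [← map_commutatorElement, ← he, hρe]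
  refine ⟨A, B, Zm, ?_, ?_, ?_⟩
  · intro c t
    have hc : Zm c ∈ Subgroup.center T :=
      (Subgroup.center T).mul_mem (pw_mem heZ _) (pw_mem hfZ _)
    exact (hcomm' _ hc t).symm
  · rw [injective_iff_map_eq_one]
    intro c hc
    have hc' : pw e (F4.re (Multiplicative.toAdd c)) * pw f (F4.im (Multiplicative.toAdd c)) = 1 :=
      hc
    have hcc : c = Multiplicative.ofAdd
        (F4.mk (F4.re (Multiplicative.toAdd c)) (F4.im (Multiplicative.toAdd c))) := rfl
    rcases zmod2_cases (F4.re (Multiplicative.toAdd c)) with h1 | h1 <;>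
      rcases zmod2_cases (F4.im (Multiplicative.toAdd c)) with h2 | h2 <;>
      rw [h1, h2] at hc' hcc
    · rw [hcc]; rfl
    · simp only [pw_zero, pw_one, one_mul] at hc'
      exact absurd hc' hf1
    · simp only [pw_zero, pw_one, mul_one] at hc'
      exact absurd hc' hab
    · simp only [pw_one] at hc'
      exact absurd hc' hef1
  · intro a b
    have hmul1 : F4.re (a * b) = F4.re a * F4.re b + F4.im a * F4.im b := rfl
    have hmul2 : F4.im (a * b) = F4.re a * F4.im b + F4.im a * F4.re b + F4.im a * F4.im b := rfl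
    change ⁅pw a₁ (F4.re a) * pw (ρ a₁) (F4.im a), pw b₁ (F4.re b) * pw (ρ b₁) (F4.im b)⁆
      = pw e (F4.re (a * b)) * pw f (F4.im (a * b))
    rw [hmul1, hmul2]
    generalize F4.re a = i
    generalize F4.im a = j
    generalize F4.re b = k
    generalize F4.im b = l
    rw [comm_mul_left hcl, comm_mul_right hcl, comm_mul_right hcl,
      comm_pw_left hcl, comm_pw_right hcl, pw_mul,
      comm_pw_left hcl, comm_pw_right hcl, pw_mul,
      comm_pw_left hcl, comm_pw_right hcl, pw_mul,
      comm_pw_left hcl, comm_pw_right hcl, pw_mul,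
      ← he, k1, k2, k3, pw_mul_distrib, pw_add hee, pw_add hff, pw_add hff,
      mul_comm k i, mul_comm l i, mul_comm k j, mul_comm l j]
    have c1 := hcomm' _ (pw_mem heZ (j * l)) (pw f (i * l) * pw f (j * k))
    calc pw e (i * k) * pw f (i * l) * (pw f (j * k) * (pw e (j * l) * pw f (j * l)))
        = pw e (i * k) * ((pw f (i * l) * pw f (j * k)) * pw e (j * l)) * pw f (j * l) := by group
      _ = pw e (i * k) * (pw e (j * l) * (pw f (i * l) * pw f (j * k))) * pw f (j * l) := by
          rw [c1]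
      _ = _ := by group

end Cfsg.Agent.Lib.Helper76_S3157_F4HOM
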