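import Mathlib
import Cfsg.Agent.Lib.Helper76_S3157Defs
import Cfsg.Agent.Lib.Helper76_S3157_RHO

/-!
# Helper76_S3157_SING

S3157, package SING: two noncommuting involutions of `T`, from two noncommuting involutions or
from a quaternion pair (`a₁ = ρ c₁ * c₂`, `b₁ = ρ² c₁ * c₂`).
-/

set_option autoImplicit false

open scoped commutatorElement
open Cfsg.Agent.Lib.Helper76_S3157Defs Cfsg.Agent.Lib.Helper76_S3157_RHO

namespace Cfsg.Agent.Lib.Helper76_S3157_SING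

variable {T : Type*} [Group T]

/-- `(g h)² = ⁅h, g⁆ g² h²`. -/
theorem mul_sq (g h : T) : (g * h) ^ 2 = g * ⁅h, g⁆ * g * h * h := by
  rw [commutatorElement_def, pow_two]; group

theorem exists_sing {ρ : MulAut T} (h : HypR T ρ)
    (hc : (∃ a b : T, a ^ 2 = 1 ∧ b ^ 2 = 1 ∧ a * b ≠ b * a) ∨
      (∃ t s : T, t ^ 2 = s ^ 2 ∧ ⁅t, s⁆ = t ^ 2 ∧ t ^ 2 ≠ 1)) :
    ∃ a₁ b₁ : T, a₁ ^ 2 = 1 ∧ b₁ ^ 2 = 1 ∧ ⁅a₁, b₁⁆ ≠ 1 := by
  rcases hc with ⟨a, b, ha, hb, hab⟩ | ⟨c₁, c₂, h12, hcomm, hne⟩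
  · refine ⟨a, b, ha, hb, ?_⟩
    rw [Ne, commutatorElement_eq_one_iff_mul_comm]
    exact hab
  · -- quaternion pair
    set z := c₁ ^ 2 with hz
    have hzZ : z ∈ Subgroup.center T := h.sq c₁
    have hcl := h.cl2
    have hzz : ∀ w ∈ Subgroup.center T, w * w = 1 := by
      intro w hw; rw [← pow_two]; exact h.z2 w hw
    have hzinv : ∀ w ∈ Subgroup.center T, w⁻¹ = w :=
      fun w hw => inv_eq_of_mul_eq_one_left (hzz w hw)
    have hcomm' : ∀ w ∈ Subgroup.center T, ∀ g : T, g * w = w * g :=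
      fun w hw g => Subgroup.mem_center_iff.mp hw g
    have hρz := h.rhoZ z hzZ
    have hρρz := h.rhoZ _ hρz
    have hprod := h.zprod z hzZ
    -- commutator symmetric
    have hsymm : ∀ u v : T, ⁅u, v⁆ = ⁅v, u⁆ := by
      intro u v
      rw [← commutatorElement_inv v u, hzinv _ (hcl v u)]
    have h21 : ⁅c₂, c₁⁆ = z := by rw [hsymm, hcomm]
    have hc2sq : c₂ * c₂ = z := by rw [← pow_two, ← h12]
    have hc1sq : c₁ * c₁ = z := by rw [← pow_two]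
    -- the four commutators
    have k1 : ⁅c₂, ρ c₁⁆ = ρ (ρ z) := by rw [h.comm_r, h21]
    have k2 : ⁅ρ c₁, c₂⁆ = ρ (ρ z) := by rw [h.comm_l, hcomm]
    have k3 : ⁅c₂, ρ (ρ c₁)⁆ = ρ z := by
      rw [h.comm_r, h.comm_r, h21, h.rho3]
    have k4 : ⁅ρ c₁, ρ (ρ c₁)⁆ = 1 := by
      rw [h.comm_r, commutatorElement_self, map_one, map_one]
    -- z ρz ρ²z = 1 consequences
    have p1 : ρ (ρ z) * ρ z * z = 1 := by
      rw [hcomm' z hzZ, hcomm' _ hρz, ← mul_assoc]; exact hprod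
    refine ⟨ρ c₁ * c₂, ρ (ρ c₁) * c₂, ?_, ?_, ?_⟩
    · rw [mul_sq, k1]
      have e1 : ρ c₁ * ρ (ρ z) * ρ c₁ * c₂ * c₂ = ρ (ρ z) * (ρ c₁ * ρ c₁) * (c₂ * c₂) := by
        rw [hcomm' _ hρρz (ρ c₁)]; group
      have e2 : ρ c₁ * ρ c₁ = ρ z := by rw [← map_mul, hc1sq]
      rw [e1, e2, hc2sq]
      exact p1
    · rw [mul_sq, k3]
      have e1 : ρ (ρ c₁) * ρ z * ρ (ρ c₁) * c₂ * c₂
          = ρ z * (ρ (ρ c₁) * ρ (ρ c₁)) * (c₂ * c₂) := by
        rw [hcomm' _ hρz (ρ (ρ c₁))]; group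
      have e2 : ρ (ρ c₁) * ρ (ρ c₁) = ρ (ρ z) := by rw [← map_mul, ← map_mul, hc1sq]
      rw [e1, e2, hc2sq]
      -- ρ z * ρ² z * z = 1
      rw [hcomm' _ hρρz (ρ z)]
      exact p1
    · rw [comm_mul_left hcl, comm_mul_right hcl, comm_mul_right hcl, k4, one_mul, k2,
        commutatorElement_self, mul_one, k3]
      -- ρ² z * ρ z = z ≠ 1
      intro h0
      apply hne
      have h1 : ρ (ρ z) * ρ z * z = z := by rw [h0, one_mul]
      rw [p1] at h1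
      exact h1.symm

end Cfsg.Agent.Lib.Helper76_S3157_SING
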