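import Mathlib
import Cfsg.Agent.Lib.Helper44_PSLnUT

/-!
# S3157 package HEIS (helper86, for architect helper76): generic Heisenberg recognition

If `A B Zm : (K,+) → T` are homomorphisms, `Zm` central and injective, `⁅A a, B b⁆ = Zm (a b)` and
`|T| = |K|^3`, then `T ≃* UT 3 K`.
-/

set_option autoImplicit false

open scoped commutatorElement

namespace Cfsg.Agent.Lib.Helper86_S3157_HEIS

open Cfsg.Agent.Lib.Helper44_PSLnUT Matrix

variable {T : Type*} [Group T]

/-- the matrix of an element of `UT 3 K` -/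
def mat {K : Type*} [Field K] (M : ↥(UT 3 K)) : Matrix (Fin 3) (Fin 3) K :=
  ((M : SpecialLinearGroup (Fin 3) K) : Matrix (Fin 3) (Fin 3) K)

theorem mat_mul {K : Type*} [Field K] (M N : ↥(UT 3 K)) : mat (M * N) = mat M * mat N := by
  simp [mat]

theorem mat_isUT {K : Type*} [Field K] (M : ↥(UT 3 K)) : IsUT (mat M) := M.2

theorem mat_entries {K : Type*} [Field K] (M N : ↥(UT 3 K)) :
    mat (M * N) 0 1 = mat M 0 1 + mat N 0 1 ∧ mat (M * N) 1 2 = mat M 1 2 + mat N 1 2 ∧
      mat (M * N) 0 2 = mat M 0 2 + mat N 0 2 + mat M 0 1 * mat N 1 2 := by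
  have hM := mat_isUT M
  have hN := mat_isUT N
  have m00 : mat M 0 0 = 1 := hM.2 0
  have m11 : mat M 1 1 = 1 := hM.2 1
  have n11 : mat N 1 1 = 1 := hN.2 1
  have n22 : mat N 2 2 = 1 := hN.2 2
  have m10 : mat M 1 0 = 0 := hM.1 1 0 (by decide)
  have n21 : mat N 2 1 = 0 := hN.1 2 1 (by decide)
  rw [mat_mul]
  refine ⟨?_, ?_, ?_⟩
  · rw [Matrix.mul_apply, Fin.sum_univ_three, m00, n11, n21]; ring
  · rw [Matrix.mul_apply, Fin.sum_univ_three, m10, m11, n22]; ring
  · rw [Matrix.mul_apply, Fin.sum_univ_three, m00, n22]; ring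

theorem eq_one_of_entries {K : Type*} [Field K] (M : ↥(UT 3 K)) (h01 : mat M 0 1 = 0)
    (h12 : mat M 1 2 = 0) (h02 : mat M 0 2 = 0) : M = 1 := by
  have hM := mat_isUT M
  apply Subtype.ext
  apply Subtype.ext
  show mat M = 1
  ext i j
  fin_cases i <;> fin_cases j
  · exact hM.2 0
  · exact h01
  · exact h02
  · exact hM.1 1 0 (by decide)
  · exact hM.2 1
  · exact h12
  · exact hM.1 2 0 (by decide)
  · exact hM.1 2 1 (by decide)
  · exact hM.2 2

theorem key (b b' a a' zc zc' zab : T) (hzc : ∀ t, zc * t = t * zc)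
    (_hzc' : ∀ t, zc' * t = t * zc') (hzab : ∀ t, zab * t = t * zab)
    (hs : a * b' = zab * b' * a) :
    b * a * zc * (b' * a' * zc') = b * b' * (a * a') * (zc * zc' * zab) := by
  calc b * a * zc * (b' * a' * zc')
      = b * (a * b') * (a' * zc' * zc) := by
        rw [mul_assoc (b * a) zc, hzc]; simp only [mul_assoc]
    _ = b * (zab * b' * a) * (a' * zc' * zc) := by rw [hs]
    _ = b * b' * (zab * (a * (a' * zc' * zc))) := by rw [hzab b']; simp only [mul_assoc]
    _ = b * b' * ((a * (a' * zc' * zc)) * zab) := by rw [hzab]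
    _ = b * b' * (a * a') * (zc * zc' * zab) := by rw [hzc zc']; simp only [mul_assoc]

theorem heis_recognition {K : Type*} [Field K] [Fintype K] [Finite T]
    (hT : Nat.card T = Fintype.card K ^ 3)
    (A B Zm : Multiplicative K →* T)
    (hZc : ∀ (c : Multiplicative K) (t : T), Zm c * t = t * Zm c)
    (hZinj : Function.Injective Zm)
    (hAB : ∀ a b : K, ⁅A (Multiplicative.ofAdd a), B (Multiplicative.ofAdd b)⁆
      = Zm (Multiplicative.ofAdd (a * b))) :
    Nonempty (T ≃* ↥(Cfsg.Agent.Lib.Helper44_PSLnUT.UT 3 K)) := by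
  classical
  -- the swap rule
  have swap : ∀ a b : K, A (Multiplicative.ofAdd a) * B (Multiplicative.ofAdd b)
      = Zm (Multiplicative.ofAdd (a * b)) * B (Multiplicative.ofAdd b)
        * A (Multiplicative.ofAdd a) := by
    intro a b
    rw [← hAB, commutatorElement_def]
    group
  have hZ0 : ∀ c : K, Zm (Multiplicative.ofAdd c) = 1 → c = 0 := by
    intro c hc
    have : Multiplicative.ofAdd c = (1 : Multiplicative K) := hZinj (by rw [hc, map_one])
    exact this
  have hadd : ∀ (f : Multiplicative K →* T) (a b : K),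
      f (Multiplicative.ofAdd (a + b)) = f (Multiplicative.ofAdd a) * f (Multiplicative.ofAdd b) := by
    intro f a b
    rw [ofAdd_add, map_mul]
  -- the homomorphism
  let ψ : ↥(UT 3 K) →* T :=
    { toFun := fun M => B (Multiplicative.ofAdd (mat M 1 2)) * A (Multiplicative.ofAdd (mat M 0 1))
        * Zm (Multiplicative.ofAdd (mat M 0 2))
      map_one' := by
        have h1 : mat (1 : ↥(UT 3 K)) = 1 := rfl
        simp [h1]
      map_mul' := by
        intro M N
        obtain ⟨e01, e12, e02⟩ := mat_entries M N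
        rw [e01, e12, e02, hadd, hadd, hadd, hadd]
        set b := mat M 1 2
        set a := mat M 0 1
        set c := mat M 0 2
        set b' := mat N 1 2
        set a' := mat N 0 1
        set c' := mat N 0 2
        exact (key _ _ _ _ _ _ _ (hZc _) (hZc _) (hZc _) (swap a b')).symm }
  have hψ : ∀ M : ↥(UT 3 K), ψ M = B (Multiplicative.ofAdd (mat M 1 2))
      * A (Multiplicative.ofAdd (mat M 0 1)) * Zm (Multiplicative.ofAdd (mat M 0 2)) := fun _ => rfl
  have hinj : Function.Injective ψ := by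
    rw [injective_iff_map_eq_one]
    intro M hM
    rw [hψ] at hM
    set b := mat M 1 2 with hb
    set a := mat M 0 1 with ha
    set c := mat M 0 2 with hc
    -- B b = (A a Z c)⁻¹
    have hB : B (Multiplicative.ofAdd b)
        = (A (Multiplicative.ofAdd a) * Zm (Multiplicative.ofAdd c))⁻¹ := by
      rw [eq_inv_iff_mul_eq_one, ← mul_assoc]
      exact hM
    have hAA : ∀ u v : K, A (Multiplicative.ofAdd u) * A (Multiplicative.ofAdd v)
        = A (Multiplicative.ofAdd v) * A (Multiplicative.ofAdd u) := by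
      intro u v
      rw [← map_mul A, ← map_mul A, mul_comm]
    have hb0 : b = 0 := by
      apply hZ0
      have h1 := hAB 1 b
      rw [one_mul] at h1
      rw [← h1, hB, commutatorElement_eq_one_iff_mul_comm]
      have hcomm : A (Multiplicative.ofAdd 1) * (A (Multiplicative.ofAdd a) *
          Zm (Multiplicative.ofAdd c)) = (A (Multiplicative.ofAdd a) *
          Zm (Multiplicative.ofAdd c)) * A (Multiplicative.ofAdd 1) := by
        rw [← mul_assoc, hAA 1 a, mul_assoc, mul_assoc, hZc]
      exact (Commute.inv_right (show Commute _ _ from hcomm)).eq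
    rw [hb0] at hM
    have hB0 : B (Multiplicative.ofAdd (0 : K)) = 1 := by
      rw [ofAdd_zero, map_one]
    rw [hB0, one_mul] at hM
    have hA : A (Multiplicative.ofAdd a) = (Zm (Multiplicative.ofAdd c))⁻¹ :=
      eq_inv_of_mul_eq_one_left hM
    have ha0 : a = 0 := by
      apply hZ0
      have h1 := hAB a 1
      rw [mul_one] at h1
      rw [← h1, hA, commutatorElement_eq_one_iff_mul_comm]
      have hcomm : Commute (Zm (Multiplicative.ofAdd c)) (B (Multiplicative.ofAdd 1)) := hZc _ _
      exact hcomm.inv_left.eq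
    rw [ha0] at hM
    have hA0 : A (Multiplicative.ofAdd (0 : K)) = 1 := by
      rw [ofAdd_zero, map_one]
    rw [hA0, one_mul] at hM
    have hc0 : c = 0 := hZ0 c hM
    exact eq_one_of_entries M ha0 hb0 hc0
  have hcard : Nat.card (↥(UT 3 K)) = Nat.card T := by
    rw [card_UT, hT, card_Pos, Fin.sum_univ_three]
    rfl
  have : Finite ↥(UT 3 K) := Nat.finite_of_card_ne_zero (by
    rw [hcard, hT]; exact pow_ne_zero _ Fintype.card_ne_zero)
  have hbij : Function.Bijective ψ :=
    (Nat.bijective_iff_injective_and_card ψ).mpr ⟨hinj, hcard⟩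
  exact ⟨(MulEquiv.ofBijective ψ hbij).symm⟩

end Cfsg.Agent.Lib.Helper86_S3157_HEIS
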