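import Cfsg.Agent.Lib.Helper9_LieGrp3

/-!
# The class bound for groups with a fixed-point-free automorphism of prime order (helper9)
-/

set_option autoImplicit false
set_option linter.unusedSectionVars false
set_option linter.style.haveILetI false
set_option linter.unusedSimpArgs false
set_option linter.unusedVariables false

namespace Cfsg.Agent.Lib.Helper9_LieGrp

open DirectSum Cfsg.Agent.Lib.Helper9_GrLie Cfsg.Agent.Lib.Helper9_KK
open scoped commutatorElement

universe u

variable {G : Type u} [Group G]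

/-! ### division by `p` -/

theorem card_A_dvd [Finite G] (k : ℕ) : Nat.card (A G k) ∣ Nat.card G := by
  have h1 : Nat.card (A G k) = Nat.card (Q G k) := Nat.card_congr Additive.toMul
  rw [h1]
  exact (Subgroup.card_subgroup_dvd_card (Q G k)).trans (Subgroup.card_quotient_dvd_card _)

theorem nsmul_injective_A [Finite G] {p : ℕ} (hcop : Nat.Coprime p (Nat.card G)) (k : ℕ)
    (a : A G k) (ha : p • a = 0) : a = 0 := by
  have h1 : addOrderOf a ∣ p := addOrderOf_dvd_of_nsmul_eq_zero ha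
  have h2 : addOrderOf a ∣ Nat.card G := (addOrderOf_dvd_natCard a).trans (card_A_dvd k)
  have h3 : addOrderOf a ∣ 1 := by
    have := Nat.dvd_gcd h1 h2
    rwa [Nat.Coprime.gcd_eq_one hcop] at this
  exact AddMonoid.addOrderOf_eq_one_iff.mp (Nat.dvd_one.mp h3)

/-- multiplication by `p` on a component as an equivalence -/
noncomputable def nsmulEquiv [Finite G] {p : ℕ} (hcop : Nat.Coprime p (Nat.card G)) (k : ℕ) :
    A G k ≃+ A G k :=
  AddEquiv.ofBijective (nsmulAddMonoidHom (α := A G k) p) (by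
    have hinj : Function.Injective (nsmulAddMonoidHom (α := A G k) p) := by
      rw [injective_iff_map_eq_zero]
      intro a ha
      exact nsmul_injective_A hcop k a ha
    exact Finite.injective_iff_bijective.mp hinj)

/-- division by `p` on the direct sum -/
noncomputable def Dtot [Finite G] {p : ℕ} (hcop : Nat.Coprime p (Nat.card G)) :
    (⨁ k, A G k) →+ (⨁ k, A G k) :=
  DirectSum.map (fun k => (nsmulEquiv hcop k).symm.toAddMonoidHom)

theorem Dtot_nsmul [Finite G] {p : ℕ} (hcop : Nat.Coprime p (Nat.card G)) (x : ⨁ k, A G k) :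
    Dtot hcop (p • x) = x := by
  induction x using DirectSum.induction_on with
  | zero => simp
  | of k a =>
    unfold Dtot
    rw [← map_nsmul, DirectSum.map_of]
    congr 1
    exact (nsmulEquiv hcop k).symm_apply_apply a
  | add x₁ x₂ h₁ h₂ => rw [smul_add, map_add, h₁, h₂]

/-! ### generation by the first component -/

/-- homogeneous elements of the Lie ring of `G` -/
noncomputable def ofL (k : ℕ) (g : G) (hg : g ∈ lcs G k) : LieOf G := ofc k g hg

theorem ofL_lie {i j : ℕ} {x y : G} (hx : x ∈ lcs G i) (hy : y ∈ lcs G j) :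
    ⁅ofL i x hx, ofL j y hy⁆ = ofL (i + j + 1) ⁅x, y⁆ (comm_mem hx hy) := Btot_ofc hx hy

theorem ofL_mul {k : ℕ} {g g' : G} (hg : g ∈ lcs G k) (hg' : g' ∈ lcs G k) :
    ofL k (g * g') (mul_mem hg hg') = ofL k g hg + ofL k g' hg' := ofc_mul hg hg'

theorem ofL_one (k : ℕ) : ofL k (1 : G) (one_mem _) = 0 := ofc_one k

theorem ofL_inv {k : ℕ} {g : G} (hg : g ∈ lcs G k) : ofL k g⁻¹ (inv_mem hg) = -ofL k g hg :=
  ofc_inv hg

theorem ofL_cast {k k' : ℕ} (h : k = k') {g : G} (hg : g ∈ lcs G k) :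
    ofL k g hg = ofL k' g (lcs_cast h hg) := ofc_cast h hg

/-- the additive span of the iterated brackets of length `k` -/
noncomputable def Gam (G : Type u) [Group G] (k : ℕ) : AddSubgroup (LieOf G) :=
  AddSubgroup.closure {w | ∃ l : LieOf G, ∃ ls : List (LieOf G), ls.length = k ∧ w = itb l ls}

theorem Gam_lie (k : ℕ) {w y : LieOf G} (hw : w ∈ Gam G k) : ⁅w, y⁆ ∈ Gam G (k + 1) := by
  have : Gam G k ≤ (Gam G (k + 1)).comap (adR y) := by
    apply (AddSubgroup.closure_le _).mpr
    rintro _ ⟨l, ls, hlen, rfl⟩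
    show ⁅itb l ls, y⁆ ∈ Gam G (k + 1)
    apply AddSubgroup.subset_closure
    exact ⟨l, ls ++ [y], by simp [hlen], (itb_concat l y ls).symm⟩
  exact this hw

/-- the elements of `γ_{k+1}` whose class is a sum of iterated brackets of length `k` -/
noncomputable def SGam (G : Type u) [Group G] (k : ℕ) : Subgroup G where
  carrier := {g | ∃ hg : g ∈ lcs G k, ofL k g hg ∈ Gam G k}
  one_mem' := ⟨one_mem _, by rw [ofL_one]; exact AddSubgroup.zero_mem _⟩
  mul_mem' := by
    rintro a b ⟨ha, ha'⟩ ⟨hb, hb'⟩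
    exact ⟨mul_mem ha hb, by rw [ofL_mul ha hb]; exact AddSubgroup.add_mem _ ha' hb'⟩
  inv_mem' := by
    rintro a ⟨ha, ha'⟩
    exact ⟨inv_mem ha, by rw [ofL_inv ha]; exact AddSubgroup.neg_mem _ ha'⟩

theorem mem_SGam {k : ℕ} {g : G} : g ∈ SGam G k ↔ ∃ hg : g ∈ lcs G k, ofL k g hg ∈ Gam G k :=
  Iff.rfl

theorem lcs_le_SGam : ∀ (k : ℕ), lcs G k ≤ SGam G k := by
  intro k
  induction k with
  | zero =>
    intro g hg
    exact ⟨hg, AddSubgroup.subset_closure ⟨ofL 0 g hg, [], rfl, rfl⟩⟩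
  | succ k ih =>
    have key : ∀ x ∈ lcs G k, ∀ y ∈ (⊤ : Subgroup G), ⁅x, y⁆ ∈ SGam G (k + 1) := by
      intro x hx y _
      have hy : y ∈ lcs G 0 := Subgroup.mem_top y
      obtain ⟨_, hx'⟩ := ih hx
      have h0 := comm_mem hx hy
      have hm : ⁅x, y⁆ ∈ lcs G (k + 1) := lcs_cast (show k + 0 + 1 = k + 1 by omega) h0
      have e1 : ofL (k + 1) ⁅x, y⁆ hm = ⁅ofL k x hx, ofL 0 y hy⁆ := by
        have e2 := ofL_lie hx hy
        have e3 := ofL_cast (show k + 0 + 1 = k + 1 by omega) h0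
        exact (e2.trans e3).symm
      have e4 : ⁅ofL k x hx, ofL 0 y hy⁆ ∈ Gam G (k + 1) := Gam_lie k hx'
      exact ⟨hm, e1.symm ▸ e4⟩
    exact (Subgroup.commutator_le (H₁ := lcs G k) (H₂ := ⊤) (H₃ := SGam G (k + 1))).mpr key

theorem ofL_mem_Gam (k : ℕ) (g : G) (hg : g ∈ lcs G k) : ofL k g hg ∈ Gam G k := by
  obtain ⟨_, h⟩ := lcs_le_SGam k hg
  exact h

theorem lcs_le_succ_of_itb (c : ℕ)
    (h : ∀ (l : LieOf G) (ls : List (LieOf G)), ls.length = c → itb l ls = 0) :
    lcs G c ≤ lcs G (c + 1) := by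
  intro g hg
  have h1 := ofL_mem_Gam c g hg
  have h2 : Gam G c ≤ ⊥ := by
    apply (AddSubgroup.closure_le _).mpr
    rintro _ ⟨l, ls, hlen, rfl⟩
    rw [h l ls hlen]
    exact AddSubgroup.zero_mem _
  have h3 : ofc c g hg = 0 := AddSubgroup.mem_bot.mp (h2 h1)
  have h4 : cls c g hg = 0 := by
    apply DirectSum.of_injective (β := A G) c
    rw [map_zero]
    exact h3
  exact (cls_eq_zero_iff hg).mp h4

theorem lcs_eq_bot_of_le [hnil : Group.IsNilpotent G] (c : ℕ) (h : lcs G c ≤ lcs G (c + 1)) :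
    lcs G c = ⊥ := by
  have heq : lcs G (c + 1) = lcs G c := le_antisymm (lcs_anti G (Nat.le_succ c)) h
  have hall : ∀ m, c ≤ m → lcs G m = lcs G c := by
    intro m hm
    induction m, hm using Nat.le_induction with
    | base => rfl
    | succ m hm ih => rw [lcs_succ, ih, ← lcs_succ, heq]
  obtain ⟨n, hn⟩ := Subgroup.nilpotent_iff_lowerCentralSeries.mp hnil
  rcases le_total n c with h1 | h1
  · rw [eq_bot_iff, ← hn]
    exact lcs_anti G h1
  · rw [← hall n h1]
    exact hn

/-- **The class bound**: a bound for graded systems over `ZMod p` bounds the class of a finite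
nilpotent group with a fixed-point-free automorphism of order `p`. -/
theorem lcs_eq_bot_of_fpf [Finite G] {p : ℕ} [hp : Fact p.Prime] (c : ℕ)
    (hc : ∀ (L' : Type u) [LieRing L'] (E : Sys L' p), lcT E c = ⊥)
    (φ : G ≃* G) (hfpf : ∀ g, φ g = g → g = 1) (hiter : ∀ g, (φ^[p]) g = g)
    [hnil : Group.IsNilpotent G] : (⊤ : Subgroup G).lowerCentralSeries c = ⊥ := by
  classical
  -- `p` does not divide the order of `G`
  have hcop : Nat.Coprime p (Nat.card G) := by
    haveI := Fintype.ofFinite G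
    have h1 := Equiv.Perm.card_fixedPoints_modEq (α := G) (f := (φ : G → G)) (p := p) (n := 1)
      (by
        funext g
        rw [pow_one]
        exact hiter g)
    have h2 : Function.fixedPoints (φ : G → G) = {1} := by
      ext g
      simp only [Function.mem_fixedPoints, Function.IsFixedPt, Set.mem_singleton_iff]
      exact ⟨hfpf g, fun h => by rw [h, map_one]⟩
    have h3 : Fintype.card (Function.fixedPoints (φ : G → G)) = 1 := by
      simp [h2]
    rw [h3, ← Nat.card_eq_fintype_card] at h1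
    rw [Nat.coprime_comm]
    apply (Nat.Coprime.symm _)
    rw [Nat.Prime.coprime_iff_not_dvd hp.out]
    intro hdvd
    have h4 := (Nat.modEq_zero_iff_dvd.mpr hdvd).symm.trans h1
    have h5 : 0 % p = 1 % p := h4
    rw [Nat.zero_mod, Nat.mod_eq_of_lt hp.out.one_lt] at h5
    exact absurd h5 (by norm_num)
  have key := itb_eq_zero_of_fpf (L := LieOf G) (p := p) c hc (Phi φ) (Phi_Btot φ)
    (Phi_iterate_eq φ p hiter) (Phi_fix φ hfpf) (Dtot hcop) (Dtot_nsmul hcop)
  exact lcs_eq_bot_of_le c (lcs_le_succ_of_itb c key)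

end Cfsg.Agent.Lib.Helper9_LieGrp
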