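import Mathlib
import Cfsg.Agent.Lib.Helper49_S2933Defs
import Cfsg.Agent.Lib.Helper49_S2933Pk
import Cfsg.Agent.S3779
import Cfsg.Agent.S3156
import Cfsg.Agent.Lib.Helper44_PSLnUT
import Cfsg.Agent.Lib.Helper61_F4
import Cfsg.Agent.Lib.Helper76_S3157Defs
import Cfsg.Agent.Lib.Helper64_S3157_STR
import Cfsg.Agent.Lib.Helper76_S3157_RHO
import Cfsg.Agent.Lib.Helper76_S3157_SING
import Cfsg.Agent.Lib.Helper76_S3157_F4HOM
import Cfsg.Agent.Lib.Helper86_S3157_HEIS

/-!
# Helper49_S2933Core

The abstract form of S2933: a finite 2-group `T` with commuting automorphisms `r` (`r³ = 1`) and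
`s` (`s² = 1`) without common nontrivial fixed point, `s` having exactly 4 fixed points.
-/

set_option autoImplicit false

open scoped commutatorElement
open Cfsg.Agent.Lib.Helper49_S2933Defs Cfsg.Agent.Lib.Helper49_S2933Pk
  Cfsg.Agent.Lib.Helper76_S3157Defs Cfsg.Agent.S1141 Cfsg.Agent.Lib.Helper5_SUOrder

namespace Cfsg.Agent.Lib.Helper49_S2933Core

variable {T : Type*} [Group T]

/-- `|T| ≡ 1 mod 3` for a fixed-point-free `r` with `r³ = 1`. -/
theorem card_mod_three [Finite T] (r : MulAut T) (h3 : ∀ x, r (r (r x)) = x)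
    (hfp : ∀ x, r x = x → x = 1) : Nat.card T % 3 = 1 := by
  classical
  have : Fintype T := Fintype.ofFinite T
  have : Fact (Nat.Prime 3) := ⟨Nat.prime_three⟩
  have hf : (r : T → T)^[3 ^ 1] = id := by
    funext x
    simp [Function.iterate_succ, h3]
  have h := Equiv.Perm.card_fixedPoints_modEq (p := 3) (n := 1) (f := (r : T → T)) hf
  have hfix : Fintype.card (Function.fixedPoints (r : T → T)) = 1 := by
    rw [Fintype.card_eq_one_iff]
    refine ⟨⟨1, map_one r⟩, ?_⟩
    rintro ⟨x, hx⟩
    exact Subtype.ext (hfp x hx)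
  rw [hfix] at h
  rw [Nat.card_eq_fintype_card]
  exact h

/-- class 2 from the landed S3779 -/
theorem class_two [Finite T] (r : MulAut T) (h3 : ∀ x, r (r (r x)) = x)
    (hfp : ∀ x, r x = x → x = 1) (hne : ∃ x : T, x ≠ 1) :
    ∀ a b : T, ⁅a, b⁆ ∈ Subgroup.center T := by
  have hr1 : r ^ 3 = 1 := by
    ext x
    simp [pow_succ, h3]
  have hrne : r ≠ 1 := by
    obtain ⟨x, hx⟩ := hne
    intro h
    exact hx (hfp x (by rw [h]; rfl))
  have hord : orderOf r = 3 := by
    have hd : orderOf r ∣ 3 := orderOf_dvd_of_pow_eq_one hr1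
    rcases (Nat.dvd_prime Nat.prime_three).mp hd with h | h
    · exact absurd (orderOf_eq_one_iff.mp h) hrne
    · exact h
  have hcls := (Cfsg.Agent.S3779.result Nat.prime_three r hord hfp).2.1 rfl
  intro a b
  rw [Subgroup.mem_center_iff]
  intro g
  have h1 : ⁅a, b⁆ ∈ (⊤ : Subgroup T).lowerCentralSeries 1 :=
    Subgroup.commutator_mem_commutator (Subgroup.mem_top a) (Subgroup.mem_top b)
  have h2 : ⁅⁅a, b⁆, g⁆ ∈ (⊤ : Subgroup T).lowerCentralSeries 2 :=
    Subgroup.commutator_mem_commutator h1 (Subgroup.mem_top g)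
  rw [hcls, Subgroup.mem_bot, commutatorElement_eq_one_iff_mul_comm] at h2
  exact h2.symm

theorem core [Finite T] (hT : IsPGroup 2 T) (r s : MulAut T)
    (h3 : ∀ x, r (r (r x)) = x) (h2 : ∀ x, s (s x) = x) (hc : ∀ x, r (s x) = s (r x))
    (hfix : ∀ x, s x = x → r x = x → x = 1) (hC : Nat.card {x : T // s x = x} = 4) :
    Concl T := by
  classical
  have hfp := fpf_of_fix hT r s h2 hc hfix
  have hcard4 : 4 ≤ Nat.card T := by
    rw [← hC]
    exact Nat.card_le_card_of_injective (fun x => x.1) Subtype.val_injective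
  have hne : ∃ x : T, x ≠ 1 := by
    by_contra hcon
    push Not at hcon
    have : Subsingleton T := ⟨fun a b => by rw [hcon a, hcon b]⟩
    have := Nat.card_unique (α := T)
    omega
  by_cases hab : ∀ a b : T, a * b = b * a
  · -- abelian case
    rcases ab_dichotomy hab hT r s h3 hfp h2 hc hC.le with h16 | hΩ
    · exact Or.inl h16
    · obtain ⟨x, n, hx, hy, hgen, hind⟩ := ab_gen hab hT r h3 hfp hΩ
      obtain ⟨e⟩ := ab_iso hab x (r x) (2 ^ n) (by positivity) hx hy hgen hind
      refine Or.inr (Or.inl ⟨n, ?_, ⟨e⟩⟩)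
      by_contra hn
      have hn0 : n = 0 := by omega
      subst hn0
      have h1 : Nat.card T = 1 := by
        rw [Nat.card_congr e.toEquiv]
        simp
      omega
  · -- non-abelian case
    have hna : ∃ a b : T, a * b ≠ b * a := by
      push Not at hab
      exact hab
    have hcl := class_two r h3 hfp hne
    obtain ⟨q3, qfp, q2, qc, qC⟩ := quot_hyp hT r s h3 hfp h2 hc hcl hC.le
    have habA : ∀ a b : Abelianization T, a * b = b * a := fun a b => mul_comm a b
    have hA : IsPGroup 2 (Abelianization T) := hT.to_quotient _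
    rcases ab_dichotomy habA hA r.abelianizationCongr s.abelianizationCongr q3 qfp q2 qc qC with
      h16 | hΩ
    · -- the quotient is elementary abelian of order 16
      have hT' := card_commutator_le hT r h3 hfp hcl h16.2 h16.1
      have hidx : Nat.card T = Nat.card (commutator T) * 16 := by
        rw [← h16.1]
        exact Subgroup.card_eq_card_quotient_mul_card_subgroup (commutator T) |>.trans
          (mul_comm _ _)
      have hmod := card_mod_three r h3 hfp
      have hT'1 : Nat.card (commutator T) ≠ 1 := by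
        intro h
        obtain ⟨a, b, hab'⟩ := hna
        have hbot : commutator T = ⊥ := Subgroup.card_eq_one.mp h
        have hm : ⁅a, b⁆ ∈ commutator T :=
          Subgroup.commutator_mem_commutator (Subgroup.mem_top a) (Subgroup.mem_top b)
        rw [hbot, Subgroup.mem_bot, commutatorElement_eq_one_iff_mul_comm] at hm
        exact hab' hm
      have hpos : 0 < Nat.card (commutator T) := Nat.card_pos
      have hcard : Nat.card T = 64 := by
        have : Nat.card (commutator T) = 4 := by
          interval_cases (Nat.card (commutator T)) <;> omega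
        omega
      obtain ⟨hZ, hcl', hsq, hz2⟩ :=
        Cfsg.Agent.Lib.Helper64_S3157_STR.structure_thm hcard hna r h3 hfp
      have hR : HypR T r :=
        Cfsg.Agent.Lib.Helper76_S3157_RHO.hypR_of_structure hcard hna r h3 hfp hZ hcl' hsq hz2
      by_cases hell : ∀ u : T, u ^ 2 = 1 → u ∈ Subgroup.center T
      · -- all involutions central: Sylow 2-subgroup of PSU₃(4)
        right; right; right
        obtain ⟨x, y, a, hcan⟩ := exists_canon hR hell
        obtain ⟨hpc, hgen⟩ := pc64_of_canon hR x y a hcan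
        -- the model
        let F : Type := GaloisField 2 4
        let instF : Fintype F := Fintype.ofFinite _
        have hF16 : Fintype.card F = 16 := by
          rw [← Nat.card_eq_fintype_card]
          exact (GaloisField.card 2 4 (by norm_num)).trans (by norm_num)
        have hF' : Fintype.card F = (2 ^ 2) ^ 2 := by rw [hF16]; norm_num
        have hch := charP_two (n := 2) (by norm_num) hF'
        have hσ : Fact (∀ x : F, powQ hF' (powQ hF' x) = x) := ⟨powQ_powQ hF'⟩
        obtain ⟨hM64, hMna, rM, rM3, rMfp, hMell⟩ := model_props hF'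
        have : Finite (PS (powQ hF')) := Nat.finite_of_card_ne_zero (by rw [hM64]; norm_num)
        obtain ⟨mZ, mcl, msq, mz2⟩ :=
          Cfsg.Agent.Lib.Helper64_S3157_STR.structure_thm hM64 hMna rM rM3 rMfp
        have hRM : HypR (PS (powQ hF')) rM :=
          Cfsg.Agent.Lib.Helper76_S3157_RHO.hypR_of_structure hM64 hMna rM rM3 rMfp mZ mcl msq mz2
        obtain ⟨x', y', a', hcan'⟩ := exists_canon hRM hMell
        obtain ⟨hpc', hgen'⟩ := pc64_of_canon hRM x' y' a' hcan'
        obtain ⟨e⟩ := iso_of_pc64 hcard hM64 x (r x) y (r y) a (r a) x' (rM x') y' (rM y') a'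
          (rM a') hpc hpc' hgen hgen'
        -- a trace-one element
        obtain ⟨t, ht⟩ := Cfsg.Agent.Lib.Helper5_SUCenter.exists_pow_q_ne hF'
        have ht' : powQ hF' t ≠ t := ht
        have hu : t + powQ hF' t ≠ 0 := fun h => ht' (fix_of_add_eq_zero h)
        have hτ : (t / (t + powQ hF' t)) + powQ hF' (t / (t + powQ hF' t)) = 1 := by
          rw [map_div₀, map_add, hσ.out t, add_comm (powQ hF' t) t, ← add_div, div_self hu]
        refine ⟨F, inferInstance, instF, hF16, fun P => ?_⟩
        obtain ⟨e0⟩ := Cfsg.Agent.S3156.exists_equiv_PSU hF' (by norm_num) _ hτ P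
        exact ⟨e.trans e0.symm⟩
      · -- a non-central involution: Sylow 2-subgroup of PSL₃(4)
        right; right; left
        push Not at hell
        obtain ⟨u, hu, huZ⟩ := hell
        obtain ⟨a, b, ha, hb, hab'⟩ := exists_noncomm_involutions hR u hu huZ
        obtain ⟨a₁, b₁, ha₁, hb₁, hab₁⟩ :=
          Cfsg.Agent.Lib.Helper76_S3157_SING.exists_sing hR (Or.inl ⟨a, b, ha, hb, hab'⟩)
        obtain ⟨A, B, Zm, hZc, hZinj, hAB⟩ :=
          Cfsg.Agent.Lib.Helper76_S3157_F4HOM.exists_homs hR a₁ b₁ ha₁ hb₁ hab₁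
        have hcard' : Nat.card T = Fintype.card Cfsg.Agent.Lib.Helper61_F4.F4 ^ 3 := by
          rw [hcard, Cfsg.Agent.Lib.Helper61_F4.F4.card]; norm_num
        obtain ⟨e⟩ := Cfsg.Agent.Lib.Helper86_S3157_HEIS.heis_recognition hcard' A B Zm hZc hZinj hAB
        have : Fact (Nat.Prime 2) := ⟨Nat.prime_two⟩
        obtain ⟨S, hS⟩ := Cfsg.Agent.Lib.Helper44_PSLnUT.exists_sylow_PSL (n := 3)
          (F := Cfsg.Agent.Lib.Helper61_F4.F4) (p := 2) (f := 2)
          (by rw [Cfsg.Agent.Lib.Helper61_F4.F4.card]; norm_num)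
        refine ⟨Cfsg.Agent.Lib.Helper61_F4.F4, inferInstance, inferInstance,
          Cfsg.Agent.Lib.Helper61_F4.F4.card, fun P => ?_⟩
        let φ : Cfsg.Agent.Lib.Helper44_PSLnUT.UT 3 Cfsg.Agent.Lib.Helper61_F4.F4 →*
            Matrix.ProjectiveSpecialLinearGroup (Fin 3) Cfsg.Agent.Lib.Helper61_F4.F4 :=
          (QuotientGroup.mk' (Subgroup.center
            (Matrix.SpecialLinearGroup (Fin 3) Cfsg.Agent.Lib.Helper61_F4.F4))).comp
            (Cfsg.Agent.Lib.Helper44_PSLnUT.UT 3 Cfsg.Agent.Lib.Helper61_F4.F4).subtype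
        have hφ : Function.Injective φ := by
          rintro ⟨a, ha⟩ ⟨b, hb⟩ hab
          exact Subtype.ext (Cfsg.Agent.Lib.Helper44_PSLnUT.mk_injOn a b ha hb hab)
        have hr : φ.range = Cfsg.Agent.Lib.Helper44_PSLnUT.UTbar 3 Cfsg.Agent.Lib.Helper61_F4.F4 := by
          rw [MonoidHom.range_comp, Subgroup.range_subtype]
          rfl
        have e2 : Cfsg.Agent.Lib.Helper44_PSLnUT.UT 3 Cfsg.Agent.Lib.Helper61_F4.F4 ≃* φ.range :=
          MonoidHom.ofInjective hφ
        have e3 : φ.range ≃* (S : Subgroup (Matrix.ProjectiveSpecialLinearGroup (Fin 3)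
            Cfsg.Agent.Lib.Helper61_F4.F4)) :=
          MulEquiv.subgroupCongr (by rw [hr, hS])
        have : Finite (Matrix.ProjectiveSpecialLinearGroup (Fin 3) Cfsg.Agent.Lib.Helper61_F4.F4) :=
          inferInstance
        exact ⟨((e.trans e2).trans e3).trans (Sylow.equiv S P)⟩
    · -- the quotient has rank ≤ 2: then T would be abelian
      exfalso
      obtain ⟨xb, n, -, -, hgen, -⟩ := ab_gen habA hA r.abelianizationCongr q3 qfp hΩ
      obtain ⟨x, rfl⟩ := QuotientGroup.mk_surjective xb
      have hcomm := comm_of_rank_two r hcl x (comm_rho r h3 hfp x) (by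
        intro a
        obtain ⟨i, j, hij⟩ := hgen a
        refine ⟨i, j, ?_⟩
        rw [hij]
        rfl)
      exact hab hcomm

end Cfsg.Agent.Lib.Helper49_S2933Core
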