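import Mathlib

/-!
# Helper49_S2933_ABGgen

Generation half of package ABG of S2933: an abelian group of exponent `2^n` containing two
independent elements `x, y` of order `2^n` whose products `x^i y^j` exhaust the elements of order
at most 2 is `{x^i y^j}`.
-/

set_option autoImplicit false

namespace Cfsg.Agent.Lib.Helper49_S2933_ABGgen

theorem gen_of_omega {A : Type*} [Group A] (hab : ∀ a b : A, a * b = b * a)
    (x y : A) (n : ℕ) (hn : 1 ≤ n) (hx : orderOf x = 2 ^ n) (hy : orderOf y = 2 ^ n)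
    (hexp : ∀ a : A, a ^ (2 ^ n) = 1)
    (hind : ∀ i j : ℕ, x ^ i * y ^ j = 1 → x ^ i = 1 ∧ y ^ j = 1)
    (hΩ : ∀ a : A, a ^ 2 = 1 → ∃ i j : ℕ, a = x ^ i * y ^ j) :
    ∀ a : A, ∃ i j : ℕ, a = x ^ i * y ^ j := by
  have hmp : ∀ (a b : A) (m : ℕ), (a * b) ^ m = a ^ m * b ^ m := fun a b m =>
    (show Commute a b from hab a b).mul_pow m
  have hpow2 : (2 : ℕ) ^ n = 2 * 2 ^ (n - 1) := by
    obtain ⟨m, rfl⟩ : ∃ m, n = m + 1 := ⟨n - 1, by omega⟩
    simp [pow_succ, mul_comm]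
  have heven : ∀ (z : A), orderOf z = 2 ^ n → ∀ i : ℕ, z ^ (i * 2 ^ (n - 1)) = 1 → 2 ∣ i := by
    intro z hz i hi
    have h1 : 2 ^ n ∣ i * 2 ^ (n - 1) := by rw [← hz]; exact orderOf_dvd_of_pow_eq_one hi
    rw [hpow2] at h1
    exact Nat.dvd_of_mul_dvd_mul_right (by positivity) h1
  have key : ∀ k : ℕ, 1 ≤ k → ∀ a : A, a ^ (2 ^ k) = 1 → ∃ i j : ℕ, a = x ^ i * y ^ j := by
    intro k hk
    induction k, hk using Nat.le_induction with
    | base =>
      intro a ha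
      exact hΩ a (by simpa using ha)
    | succ k hk ih =>
      intro a ha
      have h1 : (a ^ 2) ^ (2 ^ k) = 1 := by rw [← pow_mul, ← pow_succ']; exact ha
      obtain ⟨i, j, hij⟩ := ih (a ^ 2) h1
      have h2 : (a ^ 2) ^ (2 ^ (n - 1)) = 1 := by
        rw [← pow_mul, ← hpow2]; exact hexp a
      rw [hij, hmp, ← pow_mul, ← pow_mul] at h2
      obtain ⟨h3, h4⟩ := hind _ _ h2
      obtain ⟨i', rfl⟩ := heven x hx i h3
      obtain ⟨j', rfl⟩ := heven y hy j h4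
      -- a ^ 2 = (x ^ i' * y ^ j') ^ 2
      have h5 : a ^ 2 = (x ^ i' * y ^ j') ^ 2 := by
        rw [hij, hmp, ← pow_mul, ← pow_mul, mul_comm i' 2, mul_comm j' 2]
      have h6 : (a * (x ^ i' * y ^ j')⁻¹) ^ 2 = 1 := by
        rw [hmp, inv_pow, h5, mul_inv_cancel]
      obtain ⟨p, q, hpq⟩ := hΩ _ h6
      refine ⟨p + i', q + j', ?_⟩
      have h7 : a = (x ^ p * y ^ q) * (x ^ i' * y ^ j') := by
        rw [← hpq]; group
      rw [h7, pow_add, pow_add]
      calc x ^ p * y ^ q * (x ^ i' * y ^ j') = x ^ p * (y ^ q * x ^ i') * y ^ j' := by group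
        _ = x ^ p * (x ^ i' * y ^ q) * y ^ j' := by rw [hab (y ^ q) (x ^ i')]
        _ = x ^ p * x ^ i' * (y ^ q * y ^ j') := by group
  intro a
  exact key n hn a (hexp a)

end Cfsg.Agent.Lib.Helper49_S2933_ABGgen
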