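import Mathlib
import Cfsg.Prelude.Def_Characters
import Cfsg.Prelude.Def_Blocks
import Cfsg.Agent.Lib.Helper77_CentralInt

/-!
# SV-DIV: the value of a defect-zero character and the `p`-part of the centralizer

If `χ` is an irreducible character of `G` of degree `p ^ N` with `N = v_p |G|`, and `χ g = ± p ^ a`,
then `v_p |C_G(g)| ≤ a`.  Indeed the central character value `|G : C_G(g)| χ(g) / χ(1)` is an
algebraic integer and a rational number, hence an integer.
-/

set_option autoImplicit false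

namespace Cfsg.Agent.Lib.Helper49_SV_DIV

/-- A quotient of two natural numbers (up to sign) which is an algebraic integer: the denominator
divides the numerator. -/
theorem dvd_of_isIntegral_div (m d : ℕ) (hd : d ≠ 0) (ε : ℂ) (hε : ε = 1 ∨ ε = -1)
    (h : IsIntegral ℤ ((m : ℂ) * ε / (d : ℂ))) : d ∣ m := by
  have hdC : (d : ℂ) ≠ 0 := by exact_mod_cast hd
  -- reduce to the positive sign
  have h' : IsIntegral ℤ ((m : ℂ) / (d : ℂ)) := by
    rcases hε with rfl | rfl
    · simpa using h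
    · have := h.neg
      have e : -((m : ℂ) * (-1) / (d : ℂ)) = (m : ℂ) / (d : ℂ) := by ring
      rwa [e] at this
  -- the rational number `m / d` is integral over `ℤ`
  have hq : IsIntegral ℤ ((m : ℚ) / (d : ℚ)) := by
    have e : (algebraMap ℚ ℂ) ((m : ℚ) / (d : ℚ)) = (m : ℂ) / (d : ℂ) := by
      simp
    rw [← e] at h'
    exact (isIntegral_algebraMap_iff (algebraMap ℚ ℂ).injective).mp h'
  obtain ⟨z, hz⟩ := IsIntegrallyClosed.isIntegral_iff.mp hq
  have hdQ : (d : ℚ) ≠ 0 := by exact_mod_cast hd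
  have hz' : (m : ℚ) = (z : ℚ) * (d : ℚ) := by
    have : (algebraMap ℤ ℚ) z = (z : ℚ) := rfl
    rw [this] at hz
    field_simp at hz
    linarith
  have hz'' : (m : ℤ) = z * (d : ℤ) := by exact_mod_cast hz'
  have : (d : ℤ) ∣ (m : ℤ) := ⟨z, by rw [hz'']; ring⟩
  exact_mod_cast this

end Cfsg.Agent.Lib.Helper49_SV_DIV

namespace Cfsg.Agent.Lib.Helper81_StVal

open Cfsg.Agent.Lib.Helper49_SV_DIV

theorem factorization_centralizer_le {G : Type*} [Group G] [Finite G] (p : ℕ) [Fact p.Prime]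
    (χ : G → ℂ) (hχ : Cfsg.IsIrrCharacter G χ) (N : ℕ) (h1 : χ 1 = ((p ^ N : ℕ) : ℂ))
    (hN : (Nat.card G).factorization p = N) (g : G) (a : ℕ)
    (hg : χ g = ((p ^ a : ℕ) : ℂ) ∨ χ g = -((p ^ a : ℕ) : ℂ)) :
    (Nat.card (Subgroup.centralizer ({g} : Set G))).factorization p ≤ a := by
  have hp : p.Prime := Fact.out
  set C := Subgroup.centralizer ({g} : Set G) with hC
  have hint := Cfsg.Agent.Lib.Helper77_CentralInt.isIntegral_centralChar χ hχ g
  unfold Cfsg.centralChar at hint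
  rw [h1] at hint
  -- the sign
  obtain ⟨ε, hε, hχg⟩ : ∃ ε : ℂ, (ε = 1 ∨ ε = -1) ∧ χ g = ((p ^ a : ℕ) : ℂ) * ε := by
    rcases hg with h | h
    · exact ⟨1, Or.inl rfl, by rw [h, mul_one]⟩
    · exact ⟨-1, Or.inr rfl, by rw [h]; ring⟩
  rw [hχg, ← hC] at hint
  have hint' : IsIntegral ℤ (((C.index * p ^ a : ℕ) : ℂ) * ε / ((p ^ N : ℕ) : ℂ)) := by
    have e : ((C.index * p ^ a : ℕ) : ℂ) * ε / ((p ^ N : ℕ) : ℂ) =
        (C.index : ℂ) * (((p ^ a : ℕ) : ℂ) * ε) / ((p ^ N : ℕ) : ℂ) := by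
      push_cast; ring
    rw [e]; exact hint
  have hdvd : p ^ N ∣ C.index * p ^ a :=
    dvd_of_isIntegral_div _ _ (pow_ne_zero _ hp.ne_zero) ε hε hint'
  -- valuations
  have hidx : C.index ≠ 0 := Subgroup.index_ne_zero_of_finite
  have hcard : Nat.card C ≠ 0 := Nat.card_pos.ne'
  have hle : N ≤ (C.index * p ^ a).factorization p :=
    (hp.pow_dvd_iff_le_factorization (Nat.mul_ne_zero hidx (pow_ne_zero _ hp.ne_zero))).mp hdvd
  rw [Nat.factorization_mul hidx (pow_ne_zero _ hp.ne_zero), Finsupp.add_apply,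
    hp.factorization_pow, Finsupp.single_eq_same] at hle
  have hG : (Nat.card G).factorization p = (Nat.card C).factorization p + C.index.factorization p := by
    rw [← Subgroup.card_mul_index C, Nat.factorization_mul hcard hidx, Finsupp.add_apply]
  omega

end Cfsg.Agent.Lib.Helper81_StVal
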