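import Mathlib
import Cfsg.Agent.Lib.Helper49_SlimDefs
import Cfsg.Agent.Lib.Helper1_Frattini

set_option autoImplicit false
set_option linter.unusedVariables false
set_option linter.unusedSimpArgs false
set_option linter.unusedSectionVars false

/-!
# S4409 (architect helper49): auxiliary lemmas for the packages SA1 and COREEQ (helper58)
-/

namespace Cfsg.Agent.Lib.Helper58_Slim_Aux

open Subgroup Cfsg.Agent.Lib.Helper49_SlimDefs
open scoped commutatorElement

variable {S : Type*} [Group S] [Finite S]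

theorem card_lt_of_lt {K L : Subgroup S} (h : K < L) : Nat.card ↥K < Nat.card ↥L := by
  have h1 : Nat.card ↥K ≤ Nat.card ↥L := Subgroup.card_le_of_le h.le
  rcases Nat.lt_or_ge (Nat.card ↥K) (Nat.card ↥L) with h2 | h2
  · exact h2
  · exact absurd (Subgroup.eq_of_le_of_card_ge h.le h2) (ne_of_lt h)

theorem exists_mem_notMem_of_lt {K L : Subgroup S} (h : K < L) : ∃ x ∈ L, x ∉ K := by
  by_contra hcon
  push Not at hcon
  exact absurd (le_antisymm h.le hcon) (ne_of_lt h)

theorem lt_of_mem_notMem {K L : Subgroup S} (hle : K ≤ L) {x : S} (hx : x ∈ L) (hxK : x ∉ K) :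
    K < L := by
  refine lt_of_le_of_ne hle ?_
  intro h
  rw [h] at hxK
  exact hxK hx

theorem four_le_of_two_lt {B : Subgroup S} (hB : IsPGroup 2 ↥B) (h : 2 < Nat.card ↥B) :
    4 ≤ Nat.card ↥B := by
  obtain ⟨n, hn⟩ := hB.exists_card_eq
  rw [hn] at h ⊢
  have h2 : 2 ≤ n := by
    by_contra hcon
    have : n ≤ 1 := by omega
    have := Nat.pow_le_pow_right (show 0 < 2 by norm_num) this
    omega
  have := Nat.pow_le_pow_right (show 0 < 2 by norm_num) h2
  omega

theorem eight_le_of_four_lt {B : Subgroup S} (hB : IsPGroup 2 ↥B) (h : 4 < Nat.card ↥B) :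
    8 ≤ Nat.card ↥B := by
  obtain ⟨n, hn⟩ := hB.exists_card_eq
  rw [hn] at h ⊢
  have h2 : 3 ≤ n := by
    by_contra hcon
    have : n ≤ 2 := by omega
    have := Nat.pow_le_pow_right (show 0 < 2 by norm_num) this
    omega
  have := Nat.pow_le_pow_right (show 0 < 2 by norm_num) h2
  omega

theorem sixteen_le_of_eight_lt {B : Subgroup S} (hB : IsPGroup 2 ↥B) (h : 8 < Nat.card ↥B) :
    16 ≤ Nat.card ↥B := by
  obtain ⟨n, hn⟩ := hB.exists_card_eq
  rw [hn] at h ⊢
  have h2 : 4 ≤ n := by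
    by_contra hcon
    have : n ≤ 3 := by omega
    have := Nat.pow_le_pow_right (show 0 < 2 by norm_num) this
    omega
  have := Nat.pow_le_pow_right (show 0 < 2 by norm_num) h2
  omega

theorem thirtytwo_le_of_sixteen_lt {B : Subgroup S} (hB : IsPGroup 2 ↥B) (h : 16 < Nat.card ↥B) :
    32 ≤ Nat.card ↥B := by
  obtain ⟨n, hn⟩ := hB.exists_card_eq
  rw [hn] at h ⊢
  have h2 : 5 ≤ n := by
    by_contra hcon
    have : n ≤ 4 := by omega
    have := Nat.pow_le_pow_right (show 0 < 2 by norm_num) this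
    omega
  have := Nat.pow_le_pow_right (show 0 < 2 by norm_num) h2
  omega

/-- a subgroup generated by pairwise commuting elements is commutative -/
theorem isMulCommutative_closure' (s : Set S) (h : ∀ a ∈ s, ∀ b ∈ s, a * b = b * a) :
    IsMulCommutative ↥(closure s) := by
  exact Subgroup.isMulCommutative_closure h

/-- a subgroup of exponent dividing four and of order at least eight is not cyclic -/
theorem not_isCyclic_of_exp4 (B : Subgroup S) (h4 : ∀ g ∈ B, g ^ 4 = 1) (h8 : 8 ≤ Nat.card ↥B) :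
    ¬ IsCyclic ↥B := by
  intro hc
  obtain ⟨g, hg⟩ := hc.exists_generator
  have h1 : orderOf g = Nat.card ↥B := orderOf_eq_card_of_forall_mem_zpowers hg
  have h2 : g ^ 4 = 1 := by
    apply Subtype.ext
    rw [Subgroup.coe_pow]
    exact h4 g.1 g.2
  have h3 : orderOf g ≤ 4 := orderOf_le_of_pow_eq_one (by norm_num) h2
  omega

/-- squares lie in the Frattini subgroup of a `2`-group -/
theorem sq_mem_phi (Y : Subgroup S) (h2 : IsPGroup 2 ↥Y) {g : S} (hg : g ∈ Y) : g ^ 2 ∈ phi Y := by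
  have : Fact (Nat.Prime 2) := ⟨Nat.prime_two⟩
  have h := Cfsg.Agent.Lib.Helper1_Frattini.pow_mem_frattini_of_isPGroup h2 (⟨g, hg⟩ : ↥Y)
  unfold phi
  exact ⟨_, h, rfl⟩

theorem mem_zen {Y : Subgroup S} {g : S} : g ∈ zen Y ↔ g ∈ Y ∧ ∀ y ∈ Y, y * g = g * y := by
  unfold zen
  rw [Subgroup.mem_inf, Subgroup.mem_centralizer_iff]
  rfl

theorem zen_le (Y : Subgroup S) : zen Y ≤ Y := fun g hg => (mem_zen.mp hg).1

theorem comm_mem_der {Y : Subgroup S} {a b : S} (ha : a ∈ Y) (hb : b ∈ Y) : ⁅a, b⁆ ∈ der Y :=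
  Subgroup.commutator_mem_commutator ha hb

/-- `⁅w, a a'⁆ = ⁅w, a⁆ · a ⁅w, a'⁆ a⁻¹` -/
theorem comm_mul_right (w a a' : S) : ⁅w, a * a'⁆ = ⁅w, a⁆ * (a * ⁅w, a'⁆ * a⁻¹) := by
  simp only [commutatorElement_def]
  group

/-- `⁅a a', b⁆ = a ⁅a', b⁆ a⁻¹ · ⁅a, b⁆` -/
theorem comm_mul_left (a a' b : S) : ⁅a * a', b⁆ = a * ⁅a', b⁆ * a⁻¹ * ⁅a, b⁆ := by
  simp only [commutatorElement_def]
  group

/-- The commutator map `a ↦ ⁅w, a⁆` into a subgroup `T` centralized by `A` has a kernel of index at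
most `|T|`. -/
theorem card_le_mul_centralizer (A T : Subgroup S) (w : S)
    (hTc : ∀ t ∈ T, ∀ a ∈ A, a * t = t * a) (hcomm : ∀ a ∈ A, ⁅w, a⁆ ∈ T) :
    Nat.card ↥A ≤ Nat.card ↥T * Nat.card ↥(A ⊓ centralizer ({w} : Set S)) := by
  let f : ↥A →* ↥T := MonoidHom.mk' (fun a => ⟨⁅w, (a : S)⁆, hcomm a a.2⟩) (by
    intro a a'
    apply Subtype.ext
    show ⁅w, (a : S) * (a' : S)⁆ = ⁅w, (a : S)⁆ * ⁅w, (a' : S)⁆
    rw [comm_mul_right]
    congr 1
    have := hTc _ (hcomm a' a'.2) a a.2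
    rw [this, mul_inv_cancel_right])
  have h1 := Subgroup.card_mul_index f.ker
  have h2 := Subgroup.index_ker f
  have h3 : Nat.card ↥f.range ≤ Nat.card ↥T := Subgroup.card_le_card_group f.range
  have h4 : Nat.card ↥f.ker ≤ Nat.card ↥(A ⊓ centralizer ({w} : Set S)) := by
    refine Nat.card_le_card_of_injective
      (fun k : ↥f.ker => (⟨(k.1 : S), ⟨k.1.2, ?_⟩⟩ : ↥(A ⊓ centralizer ({w} : Set S)))) ?_
    · show ((k.1 : ↥A) : S) ∈ centralizer ({w} : Set S)
      rw [Subgroup.mem_centralizer_iff]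
      intro x hx
      rw [Set.mem_singleton_iff] at hx
      subst hx
      have hk : f k.1 = 1 := k.2
      have hk' : ⁅x, ((k.1 : ↥A) : S)⁆ = 1 := congrArg Subtype.val hk
      exact (commutatorElement_eq_one_iff_mul_comm.mp hk')
    · intro k k' hkk
      apply Subtype.ext
      apply Subtype.ext
      exact congrArg (fun z : ↥(A ⊓ centralizer ({w} : Set S)) => (z : S)) hkk
  calc Nat.card ↥A = Nat.card ↥f.ker * f.ker.index := h1.symm
    _ = Nat.card ↥f.ker * Nat.card ↥f.range := by rw [h2]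
    _ ≤ Nat.card ↥(A ⊓ centralizer ({w} : Set S)) * Nat.card ↥T := Nat.mul_le_mul h4 h3
    _ = Nat.card ↥T * Nat.card ↥(A ⊓ centralizer ({w} : Set S)) := Nat.mul_comm _ _

/-- if `Φ(Y) = Z(Y) = Y'` then `Y'` has exponent two -/
theorem der_exp_two (Y : Subgroup S) (h2 : IsPGroup 2 ↥Y) (hphi : phi Y = zen Y)
    (hder : der Y = zen Y) : ∀ g ∈ der Y, g ^ 2 = 1 := by
  intro g hg
  unfold der at hg
  rw [Subgroup.commutator_def] at hg
  induction hg using Subgroup.closure_induction with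
  | mem x hx =>
    obtain ⟨a, ha, b, hb, rfl⟩ := hx
    -- `⁅a, b⁆` is central, `a²` is central
    have hc : ⁅a, b⁆ ∈ zen Y := by rw [← hder]; exact comm_mem_der ha hb
    have ha2 : a ^ 2 ∈ zen Y := by rw [← hphi]; exact sq_mem_phi Y h2 ha
    have e1 : ⁅a ^ 2, b⁆ = 1 := by
      rw [commutatorElement_eq_one_iff_mul_comm]
      exact ((mem_zen.mp ha2).2 b hb).symm
    have e2 : ⁅a ^ 2, b⁆ = ⁅a, b⁆ ^ 2 := by
      rw [pow_two, comm_mul_left, pow_two]
      congr 1
      have := (mem_zen.mp hc).2 a ha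
      rw [this, mul_inv_cancel_right]
    rw [← e2, e1]
  | one => exact one_pow 2
  | mul x y hx hy hx2 hy2 =>
    have hxz : x ∈ zen Y := by
      rw [← hder]; unfold der; rw [Subgroup.commutator_def]; exact hx
    have hyY : y ∈ Y := by
      have : y ∈ zen Y := by
        rw [← hder]; unfold der; rw [Subgroup.commutator_def]; exact hy
      exact zen_le Y this
    have hcomm : Commute x y := ((mem_zen.mp hxz).2 y hyY).symm
    rw [hcomm.mul_pow, hx2, hy2, one_mul]
  | inv x hx hx2 =>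
    rw [inv_pow, hx2, inv_one]

end Cfsg.Agent.Lib.Helper58_Slim_Aux
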