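import Mathlib
import Cfsg.Agent.Lib.Helper58_Slim_Aux

set_option autoImplicit false
set_option linter.unusedVariables false
set_option linter.unusedSimpArgs false
set_option linter.unusedSectionVars false

/-!
# S4409 (architect helper49), package COREEQ: the minimal configuration with `X = [X, H]`.
-/

namespace Cfsg.Agent.Lib.Helper58_Slim_COREEQ

open Subgroup Cfsg.Agent.Lib.Helper49_SlimDefs Cfsg.Agent.Lib.Helper58_Slim_Aux
open scoped commutatorElement

variable {S : Type*} [Group S] [Finite S]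

theorem der_eq_bot_of_comm (Y : Subgroup S) (h : ∀ a ∈ Y, ∀ b ∈ Y, a * b = b * a) :
    der Y = ⊥ := by
  unfold der
  rw [Subgroup.commutator_eq_bot_iff_le_centralizer]
  intro y hy
  rw [Subgroup.mem_centralizer_iff]
  intro z hz
  exact h z hz y hy

/-- `|Z(X)| = 2`, `X' = Z(X)` and `X` not slim force `|X| ≥ 32` -/
theorem thirtytwo_le (X : Subgroup S) (hX2 : IsPGroup 2 ↥X) (hns : ¬ Slim X)
    (hder : der X = zen X) (h2c : Nat.card ↥(zen X) = 2) : 32 ≤ Nat.card ↥X := by
  unfold Slim at hns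
  push Not at hns
  obtain ⟨A, hAX, hAab, hA8, hAnc⟩ := hns
  have hAcomm : ∀ a ∈ A, ∀ b ∈ A, a * b = b * a := by
    intro a ha b hb
    have := hAab.is_comm.comm (⟨a, ha⟩ : ↥A) ⟨b, hb⟩
    exact congrArg Subtype.val this
  -- `X` is not commutative
  have hXnc : ¬ ∀ a ∈ X, ∀ b ∈ X, a * b = b * a := by
    intro hcon
    have hder0 : der X = ⊥ := der_eq_bot_of_comm X hcon
    rw [hder0] at hder
    rw [← hder, Subgroup.card_bot] at h2c
    omega
  have hle8 : 8 ≤ Nat.card ↥X := by
    rw [← hA8]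
    exact Subgroup.card_le_of_le hAX
  have hne8 : Nat.card ↥X ≠ 8 := by
    intro h8
    have hAX' : A = X := Subgroup.eq_of_le_of_card_ge hAX (by rw [h8, hA8])
    apply hXnc
    rw [← hAX']
    exact hAcomm
  have h16 : 16 ≤ Nat.card ↥X := sixteen_le_of_eight_lt hX2 (lt_of_le_of_ne hle8 (Ne.symm hne8))
  apply thirtytwo_le_of_sixteen_lt hX2
  refine lt_of_le_of_ne h16 ?_
  intro hX16
  -- `|X| = 16`
  have hAltX : A < X := by
    refine lt_of_le_of_ne hAX ?_
    intro h
    rw [h] at hA8
    omega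
  obtain ⟨w, hwX, hwA⟩ := exists_mem_notMem_of_lt hAltX
  -- `X = ⟨A, w⟩`
  obtain ⟨B, hB⟩ : ∃ B : Subgroup S, B = closure ((A : Set S) ∪ {w}) := ⟨_, rfl⟩
  have hAB : A ≤ B := by
    rw [hB]
    exact fun z hz => subset_closure (Or.inl hz)
  have hwB : w ∈ B := by
    rw [hB]
    exact subset_closure (Or.inr rfl)
  have hBX : B ≤ X := by
    rw [hB, closure_le]
    rintro z (hz | hz)
    · exact hAX hz
    · rw [Set.mem_singleton_iff] at hz
      rw [hz]
      exact hwX
  have hBcard : 16 ≤ Nat.card ↥B := by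
    apply sixteen_le_of_eight_lt (hX2.to_le hBX)
    rw [← hA8]
    exact card_lt_of_lt (lt_of_mem_notMem hAB hwB hwA)
  have hBeq : B = X := Subgroup.eq_of_le_of_card_ge hBX (by rw [← hX16]; exact hBcard)
  -- the kernel of `a ↦ ⁅w, a⁆`
  have hidx : Nat.card ↥A ≤ Nat.card ↥(zen X) * Nat.card ↥(A ⊓ centralizer ({w} : Set S)) :=
    card_le_mul_centralizer A (zen X) w (fun t ht a ha => (mem_zen.mp ht).2 a (hAX ha))
      (fun a ha => by
        rw [← hder]
        exact comm_mem_der hwX (hAX ha))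
  rw [hA8, h2c] at hidx
  have hK4 : 4 ≤ Nat.card ↥(A ⊓ centralizer ({w} : Set S)) := by omega
  -- the kernel is central in `X`
  have hKZ : A ⊓ centralizer ({w} : Set S) ≤ zen X := by
    intro k hk
    obtain ⟨hkA, hkw⟩ := Subgroup.mem_inf.mp hk
    rw [Subgroup.mem_centralizer_iff] at hkw
    have hkw' : w * k = k * w := hkw w rfl
    refine mem_zen.mpr ⟨hAX hkA, ?_⟩
    intro y hy
    rw [← hBeq, hB] at hy
    have hle : closure ((A : Set S) ∪ {w}) ≤ centralizer ({k} : Set S) := by
      rw [closure_le]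
      rintro z (hz | hz)
      · show z ∈ centralizer ({k} : Set S)
        rw [Subgroup.mem_centralizer_iff]
        intro x hx
        rw [Set.mem_singleton_iff] at hx
        rw [hx]
        exact hAcomm k hkA z hz
      · rw [Set.mem_singleton_iff] at hz
        show z ∈ centralizer ({k} : Set S)
        rw [Subgroup.mem_centralizer_iff, hz]
        intro x hx
        rw [Set.mem_singleton_iff] at hx
        rw [hx]
        exact hkw'.symm
    have := hle hy
    rw [Subgroup.mem_centralizer_iff] at this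
    exact (this k rfl).symm
  have := Subgroup.card_le_of_le hKZ
  omega

theorem core_eq (X H : Subgroup S) (h : Cfg X H) (hfull : ⁅X, H⁆ = X) (hk : KeyConcl X) :
    Concl X := by
  rcases hk with hab | ⟨hphi, hder, h2c | h4c⟩
  · exact Or.inl hab
  · exact Or.inr (Or.inl ⟨hphi, hder, h2c, thirtytwo_le X h.two h.notslim hder h2c⟩)
  · exact Or.inr (Or.inr (Or.inr ⟨hphi, hder, h4c⟩))

end Cfsg.Agent.Lib.Helper58_Slim_COREEQ
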