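import Mathlib
import Cfsg.Agent.Lib.Helper86_Slim_COP
import Cfsg.Agent.Lib.Helper47_Slim_CYC
import Cfsg.Agent.Lib.Helper43_Slim_SLIMAB
import Cfsg.Agent.Lib.Helper58_Slim_Aux

set_option autoImplicit false
set_option linter.unusedVariables false
set_option linter.unusedSimpArgs false
set_option linter.unusedSectionVars false

/-!
# S4409 (architect helper49), package SA1: the order of `[W, H]` for a slim `2`-group `W` on which the
odd-order group `H` acts non-trivially.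
-/

namespace Cfsg.Agent.Lib.Helper58_Slim_SA1

open Subgroup Cfsg.Agent.Lib.Helper49_SlimDefs Cfsg.Agent.Lib.Helper86_Slim_COP
  Cfsg.Agent.Lib.Helper47_Slim_CYC Cfsg.Agent.Lib.Helper43_Slim_SLIMAB Cfsg.Agent.Lib.Helper58_Slim_Aux
open scoped commutatorElement

variable {S : Type*} [Group S] [Finite S]

/-- a slim `2`-group of exponent dividing four has no abelian subgroup of order at least eight -/
theorem no_big_abelian (Y B : Subgroup S) (hY2 : IsPGroup 2 ↥Y) (hs : Slim Y)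
    (h4 : ∀ g ∈ Y, g ^ 4 = 1) (hBY : B ≤ Y) (hab : IsMulCommutative ↥B) (h8 : 8 ≤ Nat.card ↥B) :
    False :=
  not_slim_of_abelian Y B hBY (hY2.to_le hBY) hab
    (not_isCyclic_of_exp4 B (fun g hg => h4 g (hBY hg)) h8) h8 hs

/-- adjoining one element of `Y` to the centre of a subgroup `C ≤ Y` -/
theorem big_abelian_of_center (Y C : Subgroup S) (hY2 : IsPGroup 2 ↥Y) (hCY : C ≤ Y)
    (hz4 : 4 ≤ Nat.card ↥(zen C)) (hne : zen C ≠ C) :
    ∃ B : Subgroup S, B ≤ Y ∧ IsMulCommutative ↥B ∧ 8 ≤ Nat.card ↥B := by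
  obtain ⟨y, hyC, hyZ⟩ := exists_mem_notMem_of_lt (lt_of_le_of_ne (zen_le C) hne)
  obtain ⟨B, hB⟩ : ∃ B : Subgroup S, B = closure (((zen C : Subgroup S) : Set S) ∪ {y}) := ⟨_, rfl⟩
  have hZB : zen C ≤ B := by
    rw [hB]
    exact fun z hz => subset_closure (Or.inl hz)
  have hyB : y ∈ B := by
    rw [hB]
    exact subset_closure (Or.inr rfl)
  have hBC : B ≤ C := by
    rw [hB, closure_le]
    rintro z (hz | hz)
    · exact zen_le C hz
    · rw [Set.mem_singleton_iff] at hz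
      rw [hz]
      exact hyC
  have hab : IsMulCommutative ↥B := by
    rw [hB]
    apply isMulCommutative_closure'
    rintro a (ha | ha) b (hb | hb)
    · exact (mem_zen.mp hb).2 a (zen_le C ha)
    · rw [Set.mem_singleton_iff] at hb
      rw [hb]
      exact ((mem_zen.mp ha).2 y hyC).symm
    · rw [Set.mem_singleton_iff] at ha
      rw [ha]
      exact (mem_zen.mp hb).2 y hyC
    · rw [Set.mem_singleton_iff] at ha hb
      rw [ha, hb]
  have hlt : zen C < B := lt_of_mem_notMem hZB hyB hyZ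
  refine ⟨B, le_trans hBC hCY, hab, ?_⟩
  exact eight_le_of_four_lt (hY2.to_le (le_trans hBC hCY))
    (lt_of_le_of_lt hz4 (card_lt_of_lt hlt))

theorem der_eq_bot_of_comm (Y : Subgroup S) (h : ∀ a ∈ Y, ∀ b ∈ Y, a * b = b * a) :
    der Y = ⊥ := by
  unfold der
  rw [Subgroup.commutator_eq_bot_iff_le_centralizer]
  intro y hy
  rw [Subgroup.mem_centralizer_iff]
  intro z hz
  exact h z hz y hy

theorem card_bot_ne (n : ℕ) (hn : 2 ≤ n) : Nat.card ↥(⊥ : Subgroup S) ≠ n := by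
  rw [Subgroup.card_bot]
  omega

/-- the case `|Z| = 4` is impossible -/
theorem contra_four (Y : Subgroup S) (hY2 : IsPGroup 2 ↥Y) (hs : Slim Y) (hphi : phi Y = zen Y)
    (hder : der Y = zen Y) (h4c : Nat.card ↥(zen Y) = 4) : False := by
  have hexp := der_exp_two Y hY2 hphi hder
  have h4 : ∀ g ∈ Y, g ^ 4 = 1 := by
    intro g hg
    have h1 : g ^ 2 ∈ der Y := by
      rw [hder, ← hphi]
      exact sq_mem_phi Y hY2 hg
    have := hexp _ h1
    rw [← pow_mul] at this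
    exact this
  have hne : zen Y ≠ Y := by
    intro h
    have hder0 : der Y = ⊥ := by
      apply der_eq_bot_of_comm
      intro a ha b hb
      rw [← h] at hb
      exact (mem_zen.mp hb).2 a ha
    rw [hder0] at hder
    rw [← hder] at h4c
    exact card_bot_ne 4 (by norm_num) h4c
  obtain ⟨B, hBY, hab, h8⟩ := big_abelian_of_center Y Y hY2 le_rfl (by rw [h4c]) hne
  exact no_big_abelian Y B hY2 hs h4 hBY hab h8

/-- the case `|Z| = 2` -/
theorem card_eight_of_two (Y : Subgroup S) (hY2 : IsPGroup 2 ↥Y) (hs : Slim Y)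
    (hphi : phi Y = zen Y) (hder : der Y = zen Y) (h2c : Nat.card ↥(zen Y) = 2) :
    Nat.card ↥Y = 8 ∧ ¬ IsMulCommutative ↥Y := by
  have h4 : ∀ g ∈ Y, g ^ 4 = 1 := by
    intro g hg
    have h1 : g ^ 2 ∈ zen Y := by
      rw [← hphi]
      exact sq_mem_phi Y hY2 hg
    have h3 : (⟨g ^ 2, h1⟩ : ↥(zen Y)) ^ 2 = 1 := by
      have h7 : (⟨g ^ 2, h1⟩ : ↥(zen Y)) ^ Nat.card ↥(zen Y) = 1 := pow_card_eq_one'
      rw [h2c] at h7
      exact h7
    have h5 := congrArg Subtype.val h3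
    rw [Subgroup.coe_pow] at h5
    have h6 : (g ^ 2) ^ 2 = 1 := h5
    rw [← pow_mul] at h6
    exact h6
  have hna : ∃ a ∈ Y, ∃ b ∈ Y, a * b ≠ b * a := by
    by_contra hcon
    push Not at hcon
    have hder0 : der Y = ⊥ := der_eq_bot_of_comm Y hcon
    rw [hder0] at hder
    rw [← hder] at h2c
    exact card_bot_ne 2 (by norm_num) h2c
  obtain ⟨a, ha, b, hb, hab⟩ := hna
  have hnotcomm : ¬ IsMulCommutative ↥Y := by
    intro h
    apply hab
    have := h.is_comm.comm (⟨a, ha⟩ : ↥Y) ⟨b, hb⟩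
    exact congrArg Subtype.val this
  obtain ⟨Ca, hCa⟩ : ∃ Ca : Subgroup S, Ca = Y ⊓ centralizer ({a} : Set S) := ⟨_, rfl⟩
  have hmemCa : ∀ z : S, z ∈ Ca ↔ z ∈ Y ∧ a * z = z * a := by
    intro z
    rw [hCa, Subgroup.mem_inf, Subgroup.mem_centralizer_iff]
    constructor
    · rintro ⟨h1, h2⟩
      exact ⟨h1, h2 a rfl⟩
    · rintro ⟨h1, h2⟩
      refine ⟨h1, ?_⟩
      intro x hx
      rw [Set.mem_singleton_iff] at hx
      rw [hx]
      exact h2
  have hCaY : Ca ≤ Y := fun z hz => ((hmemCa z).mp hz).1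
  have hZCa : zen Y ≤ Ca := fun z hz =>
    (hmemCa z).mpr ⟨zen_le Y hz, (mem_zen.mp hz).2 a ha⟩
  have haCa : a ∈ Ca := (hmemCa a).mpr ⟨ha, rfl⟩
  have haZ : a ∉ zen Y := fun h => hab ((mem_zen.mp h).2 b hb).symm
  have hbCa : b ∉ Ca := fun h => hab ((hmemCa b).mp h).2
  have hlt1 : zen Y < Ca := lt_of_mem_notMem hZCa haCa haZ
  have hlt2 : Ca < Y := lt_of_mem_notMem hCaY hb hbCa
  have hc1 : 4 ≤ Nat.card ↥Ca := four_le_of_two_lt (hY2.to_le hCaY) (by
    rw [← h2c]
    exact card_lt_of_lt hlt1)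
  have hc2 : 8 ≤ Nat.card ↥Y := eight_le_of_four_lt hY2 (lt_of_le_of_lt hc1 (card_lt_of_lt hlt2))
  refine ⟨?_, hnotcomm⟩
  by_contra hne8
  have h16 : 16 ≤ Nat.card ↥Y := sixteen_le_of_eight_lt hY2 (lt_of_le_of_ne hc2 (Ne.symm hne8))
  have hidx : Nat.card ↥Y ≤ Nat.card ↥(zen Y) * Nat.card ↥(Y ⊓ centralizer ({a} : Set S)) :=
    card_le_mul_centralizer Y (zen Y) a (fun t ht y hy => (mem_zen.mp ht).2 y hy)
      (fun y hy => by
        rw [← hder]
        exact comm_mem_der ha hy)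
  rw [← hCa, h2c] at hidx
  have hCa8 : 8 ≤ Nat.card ↥Ca := by omega
  by_cases hCab : zen Ca = Ca
  · have hab' : IsMulCommutative ↥Ca := ⟨⟨fun u v => Subtype.ext (by
      have hu : (u : S) ∈ zen Ca := by
        rw [hCab]
        exact u.2
      exact ((mem_zen.mp hu).2 v v.2).symm)⟩⟩
    exact no_big_abelian Y Ca hY2 hs h4 hCaY hab' hCa8
  · have hZZ : zen Y ≤ zen Ca := fun z hz =>
      mem_zen.mpr ⟨hZCa hz, fun c hc => (mem_zen.mp hz).2 c (hCaY hc)⟩
    have haZC : a ∈ zen Ca :=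
      mem_zen.mpr ⟨haCa, fun c hc => (((hmemCa c).mp hc).2).symm⟩
    have hlt3 : zen Y < zen Ca := lt_of_mem_notMem hZZ haZC haZ
    have hz4 : 4 ≤ Nat.card ↥(zen Ca) :=
      four_le_of_two_lt (hY2.to_le (le_trans (zen_le Ca) hCaY)) (by
        rw [← h2c]
        exact card_lt_of_lt hlt3)
    obtain ⟨B, hBY, hab', h8⟩ := big_abelian_of_center Y Ca hY2 hCaY hz4 hCab
    exact no_big_abelian Y B hY2 hs h4 hBY hab' h8

theorem slimact_comm (H W : Subgroup S) (hodd : (Nat.card ↥H).Coprime 2) (h2 : IsPGroup 2 ↥W)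
    (hinv : H ≤ normalizer (W : Set S)) (hs : Slim W) (hnc : ¬ H ≤ centralizer (W : Set S))
    (hkey : KeyHyp H ⁅W, H⁆ → KeyConcl ⁅W, H⁆) :
    Nat.card ↥(⁅W, H⁆ : Subgroup S) = 4 ∨
      (Nat.card ↥(⁅W, H⁆ : Subgroup S) = 8 ∧ ¬ IsMulCommutative ↥(⁅W, H⁆ : Subgroup S)) := by
  obtain ⟨Y, hYdef⟩ : ∃ Y : Subgroup S, Y = ⁅W, H⁆ := ⟨_, rfl⟩
  rw [← hYdef] at hkey ⊢
  have hYW : Y ≤ W := by
    rw [hYdef]
    exact comm_le H W hinv
  have hY2 : IsPGroup 2 ↥Y := h2.to_le hYW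
  have hYne : Y ≠ ⊥ := by
    intro h
    rw [hYdef] at h
    exact hnc ((comm_eq_bot_iff H W).mp h)
  have hinvY : H ≤ normalizer (Y : Set S) := by
    rw [hYdef]
    exact (comm_inv H W hinv).1
  have hidem : ⁅Y, H⁆ = Y := by
    rw [hYdef]
    exact comm_idem H W hodd h2 hinv
  have hsY : Slim Y := slim_mono hYW hs
  have hKH : KeyHyp H Y :=
    ⟨hY2, hinvY, hidem, fun T hT _ => slim_mono (le_trans hT.le hYW) hs⟩
  have hncY : ¬ H ≤ centralizer (Y : Set S) := by
    intro h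
    apply hYne
    rw [← hidem]
    exact (comm_eq_bot_iff H Y).mpr h
  rcases hkey hKH with hab | ⟨hphi, hder, h2c | h4c⟩
  · left
    rcases slim_abelian Y hY2 hsY hab with hcyc | hle
    · exact absurd (centralizes_cyclic H Y hodd hY2 hcyc hinvY) hncY
    · obtain ⟨n, hn⟩ := hY2.exists_card_eq
      have hn2 : n ≤ 2 := by
        by_contra hcon
        have h3 : 3 ≤ n := by omega
        have := Nat.pow_le_pow_right (show 0 < 2 by norm_num) h3
        omega
      interval_cases n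
      · exfalso
        apply hYne
        exact Subgroup.eq_bot_of_card_eq Y (by simpa using hn)
      · exfalso
        have : Fact (Nat.Prime 2) := ⟨Nat.prime_two⟩
        have hcyc : IsCyclic ↥Y := isCyclic_of_prime_card (p := 2) (by simpa using hn)
        exact hncY (centralizes_cyclic H Y hodd hY2 hcyc hinvY)
      · simpa using hn
  · right
    exact card_eight_of_two Y hY2 hsY hphi hder h2c
  · exact (contra_four Y hY2 hsY hphi hder h4c).elim

end Cfsg.Agent.Lib.Helper58_Slim_SA1
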