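import Mathlib
import Cfsg.Prelude.Def_Transfer
import Cfsg.Prelude.Def_Solvable
import Cfsg.Agent.Lib.Helper49_SlimDefs
import Cfsg.Agent.Lib.Helper49_SlimTools
import Cfsg.Agent.Lib.Helper32_PGroup

/-!
# S4409 package CORE4 (architect helper49): the minimal configuration with `|[X,H]| = 4 < |X|`
-/

set_option autoImplicit false
set_option linter.unusedSectionVars false
set_option linter.unusedVariables false

namespace Cfsg.Agent.Lib.Helper82_Slim_CORE4

open Subgroup Cfsg.Agent.Lib.Helper49_SlimDefs Cfsg.Agent.Lib.Helper49_SlimTools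
open scoped commutatorElement

variable {S : Type*} [Group S] [Finite S]

omit [Finite S] in
/-- a subgroup normalizing two subgroups normalizes their join -/
theorem le_normalizer_sup {B M N : Subgroup S} (h1 : B ≤ normalizer (M : Set S))
    (h2 : B ≤ normalizer (N : Set S)) : B ≤ normalizer ((M ⊔ N : Subgroup S) : Set S) := by
  have key : ∀ b ∈ B, ∀ x ∈ M ⊔ N, b * x * b⁻¹ ∈ M ⊔ N := by
    intro b hb
    have hM : M ≤ (M ⊔ N).comap (MulAut.conj b).toMonoidHom := by
      intro m hm
      exact (le_sup_left : M ≤ M ⊔ N) ((mem_normalizer_iff.mp (h1 hb) m).mp hm)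
    have hN : N ≤ (M ⊔ N).comap (MulAut.conj b).toMonoidHom := by
      intro n hn
      exact (le_sup_right : N ≤ M ⊔ N) ((mem_normalizer_iff.mp (h2 hb) n).mp hn)
    intro x hx
    exact (sup_le hM hN) hx
  intro b hb
  rw [mem_normalizer_iff]
  intro x
  constructor
  · exact key b hb x
  · intro hx
    have := key b⁻¹ (B.inv_mem hb) _ hx
    have e : b⁻¹ * (b * x * b⁻¹) * b⁻¹⁻¹ = x := by group
    rwa [e] at this

omit [Finite S] in
/-- elements of the join of two elementwise commuting subgroups are products -/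
theorem mem_sup_of_commute {A B : Subgroup S} (hcomm : ∀ a ∈ A, ∀ b ∈ B, a * b = b * a) {x : S}
    (hx : x ∈ A ⊔ B) : ∃ a ∈ A, ∃ b ∈ B, x = a * b := by
  have hr := MonoidHom.noncommCoprod_range A.subtype B.subtype
    (fun a b => hcomm a.1 a.2 b.1 b.2)
  rw [A.range_subtype, B.range_subtype] at hr
  rw [← hr] at hx
  obtain ⟨⟨a, b⟩, rfl⟩ := hx
  exact ⟨a.1, a.2, b.1, b.2, rfl⟩

omit [Finite S] in
/-- the join of two commutative, elementwise commuting subgroups is commutative -/
theorem isMulCommutative_sup {A B : Subgroup S} (hA : IsMulCommutative ↥A) (hB : IsMulCommutative ↥B)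
    (hcomm : ∀ a ∈ A, ∀ b ∈ B, a * b = b * a) : IsMulCommutative ↥(A ⊔ B) := by
  rw [← le_centralizer_iff_isMulCommutative]
  have hAA : A ≤ centralizer (A : Set S) := le_centralizer_iff_isMulCommutative.mpr hA
  have hBB : B ≤ centralizer (B : Set S) := le_centralizer_iff_isMulCommutative.mpr hB
  have hAB : A ≤ centralizer (B : Set S) := by
    intro a ha
    rw [mem_centralizer_iff]
    intro b hb
    exact (hcomm a ha b hb).symm
  have hBA : B ≤ centralizer (A : Set S) := by
    intro b hb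
    rw [mem_centralizer_iff]
    intro a ha
    exact hcomm a ha b hb
  have hcent : ∀ K : Subgroup S, K ≤ centralizer (A : Set S) → K ≤ centralizer (B : Set S) →
      K ≤ centralizer ((A ⊔ B : Subgroup S) : Set S) := by
    intro K h1 h2
    rw [le_centralizer_iff]
    exact sup_le (le_centralizer_iff.mp h1) (le_centralizer_iff.mp h2)
  exact sup_le (hcent A hAA hAB) (hcent B hBA hBB)

/-- PACKAGE CORE4. -/
theorem core_four (X H : Subgroup S) (h : Cfg X H) (hlt : ⁅X, H⁆ < X)
    (h4 : Nat.card ↥(⁅X, H⁆ : Subgroup S) = 4) : Concl X := by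
  left
  obtain ⟨Q, hQ⟩ : ∃ Q : Subgroup S, Q = ⁅X, H⁆ := ⟨_, rfl⟩
  rw [← hQ] at hlt h4
  have hodd := h.odd
  have h2 := h.two
  have hinv := h.inv
  have hQX : Q ≤ X := hlt.le
  obtain ⟨hHQ, hXQ⟩ : H ≤ normalizer (Q : Set S) ∧ X ≤ normalizer (Q : Set S) := by
    rw [hQ]; exact comm_inv H X hinv
  have hidem : ⁅Q, H⁆ = Q := by rw [hQ]; exact comm_idem H X hodd h2 hinv
  have hQne : Q ≠ ⊥ := by
    intro hb
    rw [hb, Subgroup.card_bot] at h4
    omega
  have hnc : ¬ H ≤ centralizer (Q : Set S) := by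
    intro hc
    rw [← comm_eq_bot_iff, hidem] at hc
    exact hQne hc
  obtain ⟨hQncyc, hQab, hQexp, -, hQC, hQirr⟩ := irr4 H Q hodd h4 hHQ hnc
  obtain ⟨C, hC⟩ : ∃ C : Subgroup S, C = X ⊓ centralizer (H : Set S) := ⟨_, rfl⟩
  have hdec : Q ⊔ C = X := by rw [hQ, hC]; exact decomp H X hodd h2 hinv
  have hCX : C ≤ X := by rw [hC]; exact inf_le_left
  have hCH : C ≤ centralizer (H : Set S) := by rw [hC]; exact inf_le_right
  have hHC : H ≤ centralizer (C : Set S) := le_centralizer_iff.mp hCH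
  -- a nontrivial element of `Q` central in `X`
  have hnorm : (Q.subgroupOf X).Normal := (normal_subgroupOf_iff_le_normalizer hQX).2 hXQ
  have hne : Q.subgroupOf X ≠ ⊥ := by
    intro hb
    rw [subgroupOf_eq_bot] at hb
    exact hQne (disjoint_self.mp (hb.mono_right hQX))
  obtain ⟨z, hzQ, hzc, hz1⟩ :=
    Cfsg.Agent.Lib.Helper32_PGroup.exists_mem_center_of_normal h2 (Q.subgroupOf X) hne
  have hzQ' : (z : S) ∈ Q := hzQ
  have hz1' : (z : S) ≠ 1 := fun hh => hz1 (Subtype.ext hh)
  have hzX : ∀ x ∈ X, x * (z : S) = (z : S) * x := by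
    intro x hx
    have := Subgroup.mem_center_iff.mp hzc ⟨x, hx⟩
    exact congrArg Subtype.val this
  -- `C` centralizes `Q`
  have hQcC : Q ≤ centralizer (C : Set S) := by
    obtain ⟨T, hT⟩ : ∃ T : Subgroup S, T = Q ⊓ centralizer (C : Set S) := ⟨_, rfl⟩
    have hTQ : T ≤ Q := by rw [hT]; exact inf_le_left
    have hHT : H ≤ normalizer (T : Set S) := by
      rw [hT]
      intro x hx
      have h1 := hHQ hx
      have h3 : x ∈ normalizer ((centralizer (C : Set S) : Subgroup S) : Set S) :=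
        le_normalizer (hHC hx)
      rw [mem_normalizer_iff] at h1 h3 ⊢
      intro y
      rw [Subgroup.mem_inf, Subgroup.mem_inf, ← h1 y, ← h3 y]
    have hzT : (z : S) ∈ T := by
      rw [hT]
      refine Subgroup.mem_inf.mpr ⟨hzQ', ?_⟩
      rw [mem_centralizer_iff]
      intro c hc
      exact hzX c (hCX hc)
    rcases lt_or_eq_of_le hTQ with hlt' | heq
    · exfalso
      have := hQirr T hlt' hHT
      rw [this, mem_bot] at hzT
      exact hz1' hzT
    · rw [← heq, hT]; exact inf_le_right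
  have hcomm : ∀ q ∈ Q, ∀ c ∈ C, q * c = c * q := by
    intro q hq c hc
    exact ((mem_centralizer_iff.mp (hQcC hq)) c hc).symm
  have hQCbot : Q ⊓ C = ⊥ := by
    rw [eq_bot_iff, ← hQC]
    exact inf_le_inf_left Q hCH
  -- every proper subgroup of `C` is trivial
  have hCmin : ∀ C1 : Subgroup S, C1 < C → C1 = ⊥ := by
    intro C1 hC1
    by_contra hC1ne
    have hC1C : C1 ≤ C := hC1.le
    have hcomm1 : ∀ q ∈ Q, ∀ c ∈ C1, q * c = c * q := fun q hq c hc => hcomm q hq c (hC1C hc)
    -- `Q ⊔ C1` is `H`-invariant and proper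
    have hHC1 : H ≤ normalizer (C1 : Set S) :=
      (hHC.trans (centralizer_le (by exact_mod_cast hC1C))).trans (centralizer_le_normalizer _)
    have hHsup : H ≤ normalizer ((Q ⊔ C1 : Subgroup S) : Set S) := le_normalizer_sup hHQ hHC1
    have hsuple : Q ⊔ C1 ≤ X := sup_le hQX (hC1C.trans hCX)
    have hsuplt : Q ⊔ C1 < X := by
      rcases lt_or_eq_of_le hsuple with h1 | h1
      · exact h1
      · exfalso
        apply hC1.not_ge
        intro c hc
        have hcX : c ∈ Q ⊔ C1 := by rw [h1]; exact hCX hc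
        obtain ⟨q, hq, c1, hc1, hqc⟩ := mem_sup_of_commute hcomm1 hcX
        have hq' : q = c * c1⁻¹ := by rw [hqc]; group
        have hqC : q ∈ C := by rw [hq']; exact C.mul_mem hc (C.inv_mem (hC1C hc1))
        have hq1 : q ∈ Q ⊓ C := Subgroup.mem_inf.mpr ⟨hq, hqC⟩
        rw [hQCbot, mem_bot] at hq1
        rw [hqc, hq1, one_mul]
        exact hc1
    have hslim : Slim (Q ⊔ C1) := h.min _ hsuplt hHsup
    -- an involution of `C1`
    have hC1p : IsPGroup 2 ↥C1 := h2.to_le (hC1C.trans hCX)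
    have : Nontrivial ↥C1 := (Subgroup.nontrivial_iff_ne_bot C1).mpr hC1ne
    obtain ⟨n, hn0, hn⟩ := hC1p.nontrivial_iff_card.mp this
    have hdvd : 2 ∣ Nat.card ↥C1 := by rw [hn]; exact dvd_pow_self 2 (by omega)
    have : Fact (Nat.Prime 2) := ⟨Nat.prime_two⟩
    obtain ⟨c, hc⟩ := exists_prime_orderOf_dvd_card' 2 hdvd
    have hc' : orderOf (c : S) = 2 := by rw [Subgroup.orderOf_coe]; exact hc
    have hc1 : (c : S) ≠ 1 := by
      intro hh
      rw [hh, orderOf_one] at hc'
      omega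
    have hcQ : (c : S) ∉ Q := by
      intro hcq
      have : (c : S) ∈ Q ⊓ C := Subgroup.mem_inf.mpr ⟨hcq, hC1C c.2⟩
      rw [hQCbot, mem_bot] at this
      exact hc1 this
    obtain ⟨B, hB⟩ : ∃ B : Subgroup S, B = Q ⊔ zpowers (c : S) := ⟨_, rfl⟩
    have hzp : zpowers (c : S) ≤ C1 := by rw [zpowers_le]; exact c.2
    have hBle : B ≤ Q ⊔ C1 := by rw [hB]; exact sup_le_sup_left hzp Q
    have hQB : Q ≤ B := by rw [hB]; exact le_sup_left
    have hcB : (c : S) ∈ B := by rw [hB]; exact (le_sup_right : zpowers (c : S) ≤ _) (mem_zpowers _)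
    have hBp : IsPGroup 2 ↥B := h2.to_le (hBle.trans hsuple)
    have hBab : IsMulCommutative ↥B := by
      rw [hB]
      refine isMulCommutative_sup hQab ?_ ?_
      · exact ⟨⟨fun a b => (IsCyclic.commGroup (α := ↥(zpowers (c : S)))).mul_comm a b⟩⟩
      · intro q hq b hb
        exact hcomm1 q hq b (hzp hb)
    have hBnc : ¬ IsCyclic ↥B := by
      intro hcyc
      apply hQncyc
      have : IsCyclic ↥(Q.subgroupOf B) := inferInstance
      exact isCyclic_of_surjective (subgroupOfEquivOfLe hQB).toMonoidHom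
        (subgroupOfEquivOfLe hQB).surjective
    have hB8 : 8 ≤ Nat.card ↥B := by
      obtain ⟨k, hk⟩ := hBp.exists_card_eq
      have hdvd4 : 4 ∣ Nat.card ↥B := h4 ▸ Subgroup.card_dvd_of_le hQB
      have hne4 : Nat.card ↥B ≠ 4 := by
        intro h44
        have : Q = B := Subgroup.eq_of_le_of_card_ge hQB (by rw [h44, h4])
        exact hcQ (this ▸ hcB)
      rw [hk] at hdvd4 hne4 ⊢
      have hk3 : 3 ≤ k := by
        by_contra hk3
        push Not at hk3
        interval_cases k <;> omega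
      calc 8 = 2 ^ 3 := by norm_num
        _ ≤ 2 ^ k := Nat.pow_le_pow_right (by norm_num) hk3
    exact not_slim_of_abelian (Q ⊔ C1) B hBle hBp hBab hBnc hB8 hslim
  -- `C` is commutative
  have hCab : IsMulCommutative ↥C := by
    by_cases hCb : C = ⊥
    · rw [hCb]
      exact ⟨⟨fun a b => Subsingleton.elim _ _⟩⟩
    · obtain ⟨c, hcC, hc1⟩ := (Subgroup.ne_bot_iff_exists_ne_one (H := C)).mp hCb |> fun ⟨c, hc⟩ =>
        (⟨(c : S), c.2, fun hh => hc (Subtype.ext hh)⟩ : ∃ c : S, c ∈ C ∧ c ≠ 1)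
      have hzc : zpowers c ≤ C := by rw [zpowers_le]; exact hcC
      have hzeq : zpowers c = C := by
        rcases lt_or_eq_of_le hzc with h1 | h1
        · exfalso
          have := hCmin _ h1
          have hcz : c ∈ zpowers c := mem_zpowers c
          rw [this, mem_bot] at hcz
          exact hc1 hcz
        · exact h1
      rw [← hzeq]
      exact ⟨⟨fun a b => (IsCyclic.commGroup (α := ↥(zpowers c))).mul_comm a b⟩⟩
  rw [← hdec]
  exact isMulCommutative_sup hQab hCab hcomm

end Cfsg.Agent.Lib.Helper82_Slim_CORE4
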