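import Mathlib
import Cfsg.Prelude.Def_Transfer
import Cfsg.Prelude.Def_Solvable
import Cfsg.Agent.Lib.Helper49_SlimDefs

/-!
# S4409 package CORET (architect helper49): the minimal configuration when `H` centralizes `X`
-/

set_option autoImplicit false
set_option linter.unusedSectionVars false

namespace Cfsg.Agent.Lib.Helper82_Slim_CORET

open Subgroup Cfsg.Agent.Lib.Helper49_SlimDefs
open scoped commutatorElement

variable {S : Type*} [Group S] [Finite S]

/-- PACKAGE CORET. -/
theorem core_trivial (X H : Subgroup S) (h : Cfg X H) (hc : H ≤ centralizer (X : Set S)) :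
    Concl X := by
  left
  have hns := h.notslim
  unfold Slim at hns
  push Not at hns
  obtain ⟨A, hAX, hAc, hA8, hAnc⟩ := hns
  by_cases hlt : A < X
  · exfalso
    have hHA : H ≤ normalizer (A : Set S) :=
      (hc.trans (centralizer_le (by exact_mod_cast hAX))).trans (centralizer_le_normalizer _)
    exact hAnc (h.min A hlt hHA A le_rfl hAc hA8)
  · have hAX' : A = X := by
      rcases lt_or_eq_of_le hAX with h1 | h1
      · exact absurd h1 hlt
      · exact h1
    rw [← hAX']
    exact hAc

end Cfsg.Agent.Lib.Helper82_Slim_CORET
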