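import Mathlib
import Cfsg.Prelude.Def_Transfer
import Cfsg.Prelude.Def_Solvable
import Cfsg.Agent.Lib.Helper49_SlimDefs
import Cfsg.Agent.Lib.Helper1_Cores
import Cfsg.Agent.Lib.Helper55_Fitting

/-!
# S4409 market (helper49), package NORMC (helper8): in a finite solvable group `S` with `O_{2'}(S) = 1` the
Fitting subgroup is `O_2(S)`, so `C_S(O_2(S)) ≤ O_2(S)`.
-/

set_option autoImplicit false
set_option linter.unusedSectionVars false

namespace Cfsg.Agent.Lib.Helper8_Slim_NORMC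

open Subgroup Cfsg.Agent.Lib.Helper49_SlimDefs
open scoped commutatorElement

variable {S : Type*} [Group S] [Finite S]

/-- With `O_{2'}(S) = 1` the Fitting subgroup is `O_2(S)`. -/
theorem fitting_eq_pcore (hO : Cfsg.pPrimeCore 2 S = ⊥) :
    Cfsg.fittingSubgroup S = Cfsg.pCore 2 S := by
  have : Fact (Nat.Prime 2) := ⟨Nat.prime_two⟩
  apply le_antisymm
  · rw [Cfsg.Agent.Lib.Helper1_Cores.fittingSubgroup_eq_iSup_pCore]
    refine iSup_le (fun p => ?_)
    have hp : Fact (p : ℕ).Prime := ⟨p.2⟩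
    by_cases h2 : (p : ℕ) = 2
    · rw [h2]
    · have h1 : Cfsg.pCore (p : ℕ) S ≤ Cfsg.pPrimeCore 2 S :=
        Cfsg.Agent.Lib.Helper1_Cores.le_pPrimeCore
          (Cfsg.Agent.Lib.Helper1_Cores.pCore_normal (p : ℕ))
          (Cfsg.Agent.Lib.Helper1_Cores.pCore_card_coprime h2)
      rw [hO] at h1
      exact h1.trans bot_le
  · exact Cfsg.Agent.Lib.Helper1_Cores.pCore_le_fittingSubgroup 2

theorem centralizer_pcore_le [Group.IsSolvable S] (hO : Cfsg.pPrimeCore 2 S = ⊥) :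
    centralizer ((Cfsg.pCore 2 S : Subgroup S) : Set S) ≤ Cfsg.pCore 2 S := by
  rw [← fitting_eq_pcore hO]
  exact Cfsg.Agent.Lib.Helper55_Fitting.centralizer_fittingSubgroup_le

end Cfsg.Agent.Lib.Helper8_Slim_NORMC
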