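import Mathlib
import Cfsg.Agent.Lib.Helper49_SlimDefs
import Cfsg.Agent.Lib.Helper49_SlimTools
import Cfsg.Agent.Lib.Helper1_Frattini

/-!
# S4409 package KEYA: the key lemma, case `H` centralizes `Φ(Y)`.

Also some general tools (norm map for coprime action on an abelian quotient, subgroups of
index two, normalizers of centralizers) reused by package KEYB.
-/

set_option autoImplicit false

namespace Cfsg.Agent.Lib.Helper99_Slim_KEYA

open Subgroup Cfsg.Agent.Lib.Helper49_SlimDefs Cfsg.Agent.Lib.Helper49_SlimTools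
open scoped commutatorElement

variable {S : Type*} [Group S]

/-! ### small general facts -/

/-- conjugation by an element of the normalizer, as an endomorphism of the subgroup -/
def cj (Y : Subgroup S) (g : S) (hg : g ∈ normalizer (Y : Set S)) : ↥Y →* ↥Y where
  toFun y := ⟨g * y * g⁻¹, (mem_normalizer_iff.mp hg y).mp y.2⟩
  map_one' := by ext; simp
  map_mul' a b := by ext; simp [mul_assoc]

theorem cj_coe (Y : Subgroup S) (g : S) (hg : g ∈ normalizer (Y : Set S)) (y : ↥Y) :
    ((cj Y g hg y : ↥Y) : S) = g * y * g⁻¹ := rfl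

theorem conj_mem_of_mem_normalizer {Y : Subgroup S} {g : S} (hg : g ∈ normalizer (Y : Set S))
    {y : S} (hy : y ∈ Y) : g * y * g⁻¹ ∈ Y := (mem_normalizer_iff.mp hg y).mp hy

theorem conj_mem_of_mem_normalizer' {Y : Subgroup S} {g : S} (hg : g ∈ normalizer (Y : Set S))
    {y : S} (hy : y ∈ Y) : g⁻¹ * y * g ∈ Y := by
  have := conj_mem_of_mem_normalizer (inv_mem hg) hy
  simpa using this

/-- the normalizer of `Y` normalizes the centralizer of `Y` -/
theorem normalizer_le_normalizer_centralizer (Y : Subgroup S) :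
    normalizer (Y : Set S) ≤ normalizer ((centralizer (Y : Set S) : Subgroup S) : Set S) := by
  have key : ∀ g ∈ normalizer (Y : Set S), ∀ z ∈ centralizer (Y : Set S),
      g * z * g⁻¹ ∈ centralizer (Y : Set S) := by
    intro g hg z hz
    rw [mem_centralizer_iff] at hz ⊢
    intro y hy
    have h1 := hz (g⁻¹ * y * g) (conj_mem_of_mem_normalizer' hg hy)
    calc y * (g * z * g⁻¹) = g * ((g⁻¹ * y * g) * z) * g⁻¹ := by group
      _ = g * (z * (g⁻¹ * y * g)) * g⁻¹ := by rw [h1]
      _ = g * z * g⁻¹ * y := by group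
  intro g hg
  rw [mem_normalizer_iff]
  intro z
  constructor
  · exact fun hz => key g hg z hz
  · intro hz
    have := key g⁻¹ (inv_mem hg) _ hz
    simpa [mul_assoc] using this

theorem normalizer_inf_le {A B : Subgroup S} {g : S} (hA : g ∈ normalizer (A : Set S))
    (hB : g ∈ normalizer (B : Set S)) : g ∈ normalizer ((A ⊓ B : Subgroup S) : Set S) := by
  rw [mem_normalizer_iff] at hA hB ⊢
  intro z
  rw [mem_inf, mem_inf, ← hA z, ← hB z]

theorem normalizer_commutator_le {A B : Subgroup S} {g : S} (hA : g ∈ normalizer (A : Set S))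
    (hB : g ∈ normalizer (B : Set S)) : g ∈ normalizer ((⁅A, B⁆ : Subgroup S) : Set S) := by
  have key : ∀ g : S, g ∈ normalizer (A : Set S) → g ∈ normalizer (B : Set S) →
      ∀ z ∈ ⁅A, B⁆, g * z * g⁻¹ ∈ ⁅A, B⁆ := by
    intro g hA hB z hz
    have hle : ⁅A, B⁆ ≤ (⁅A, B⁆).comap (MulAut.conj g).toMonoidHom := by
      rw [commutator_le]
      intro a ha b hb
      rw [mem_comap]
      have : (MulAut.conj g).toMonoidHom ⁅a, b⁆ = ⁅g * a * g⁻¹, g * b * g⁻¹⁆ := by
        simp only [commutatorElement_def, MulEquiv.toMonoidHom_eq_coe, MonoidHom.coe_coe,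
          MulAut.conj_apply]
        group
      rw [this]
      exact commutator_mem_commutator (conj_mem_of_mem_normalizer hA ha)
        (conj_mem_of_mem_normalizer hB hb)
    have := hle hz
    simpa [mem_comap, MulAut.conj_apply] using this
  rw [mem_normalizer_iff]
  intro z
  constructor
  · exact fun hz => key g hA hB z hz
  · intro hz
    have := key g⁻¹ (inv_mem hA) (inv_mem hB) _ hz
    simpa [mul_assoc] using this

/-- `zen Y` is normalized by the normalizer of `Y` -/
theorem normalizer_le_normalizer_zen (Y : Subgroup S) :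
    normalizer (Y : Set S) ≤ normalizer ((zen Y : Subgroup S) : Set S) := fun _ hg =>
  normalizer_inf_le hg (normalizer_le_normalizer_centralizer Y hg)

theorem zen_le (Y : Subgroup S) : zen Y ≤ Y := inf_le_left

theorem zen_comm (Y : Subgroup S) : IsMulCommutative ↥(zen Y) := by
  refine ⟨⟨fun a b => ?_⟩⟩
  have ha : (a : S) ∈ centralizer (Y : Set S) := a.2.2
  have hb : (b : S) ∈ Y := b.2.1
  ext
  exact (mem_centralizer_iff.mp ha b hb).symm

theorem isMulCommutative_of_le_centralizer {Y : Subgroup S} (h : Y ≤ centralizer (Y : Set S)) :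
    IsMulCommutative ↥Y := by
  refine ⟨⟨fun a b => ?_⟩⟩
  ext
  exact (mem_centralizer_iff.mp (h a.2) b b.2).symm

theorem le_centralizer_of_isMulCommutative {Y : Subgroup S} (h : IsMulCommutative ↥Y) :
    Y ≤ centralizer (Y : Set S) := by
  intro a ha
  rw [mem_centralizer_iff]
  intro b hb
  have := h.is_comm.comm (⟨b, hb⟩ : ↥Y) ⟨a, ha⟩
  exact congrArg Subtype.val this

/-- a subgroup of relative index at most two which is invariant under `H` is everything,
if `Y = [Y, H]` -/
theorem eq_of_relIndex_le_two [Finite S] (H Y T : Subgroup S) (hinv : H ≤ normalizer (Y : Set S))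
    (hfull : ⁅Y, H⁆ = Y) (hTY : T ≤ Y) (hidx : T.relIndex Y ≤ 2)
    (hTH : H ≤ normalizer (T : Set S)) : T = Y := by
  by_contra hne
  have hlt : T < Y := lt_of_le_of_ne hTY hne
  have h2 : (T.subgroupOf Y).index = 2 := by
    have h0 : T.relIndex Y ≠ 0 := index_ne_zero_of_finite
    have h1 : T.relIndex Y ≠ 1 := by
      intro h1
      exact hne (le_antisymm hTY (relIndex_eq_one.mp h1))
    have : T.relIndex Y = 2 := by omega
    exact this
  have hcomm : ⁅Y, H⁆ ≤ T := by
    rw [commutator_le]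
    intro y hy h hh
    have hc : h * y⁻¹ * h⁻¹ ∈ Y := conj_mem_of_mem_normalizer (hinv hh) (inv_mem hy)
    have key := mul_mem_iff_of_index_two h2 (a := (⟨y, hy⟩ : ↥Y)) (b := ⟨h * y⁻¹ * h⁻¹, hc⟩)
    have e : ⁅y, h⁆ = y * (h * y⁻¹ * h⁻¹) := by rw [commutatorElement_def]; group
    rw [e]
    have : ((⟨y, hy⟩ : ↥Y) * ⟨h * y⁻¹ * h⁻¹, hc⟩ ∈ T.subgroupOf Y) := by
      rw [key]
      simp only [mem_subgroupOf]
      rw [← (mem_normalizer_iff.mp (hTH hh) y⁻¹), inv_mem_iff]
    simpa [mem_subgroupOf] using this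
  rw [hfull] at hcomm
  exact hne (le_antisymm hTY hcomm)

/-! ### the norm map -/

/-- If `Y = [Y, H]` is a `2`-group, `H` of odd order, and `M ≤ Y` contains the derived subgroup
of `Y`, then `C_Y(H) ≤ M`. -/
theorem cent_le_of_der_le [Finite S] (H Y M : Subgroup S) (hodd : (Nat.card ↥H).Coprime 2)
    (h2 : IsPGroup 2 ↥Y) (hinv : H ≤ normalizer (Y : Set S)) (hfull : ⁅Y, H⁆ = Y)
    (hder : ⁅Y, Y⁆ ≤ M) : Y ⊓ centralizer (H : Set S) ≤ M := by
  classical
  have : Fintype ↥H := Fintype.ofFinite _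
  -- `M` is normal in `Y`
  have hMn : (M.subgroupOf Y).Normal := by
    refine ⟨fun m hm y => ?_⟩
    rw [mem_subgroupOf] at hm ⊢
    have h1 : ⁅(y : S), (m : S)⁆ ∈ M := hder (commutator_mem_commutator y.2 m.2)
    have h2 : ((y * m * y⁻¹ : ↥Y) : S) = ⁅(y : S), (m : S)⁆ * m := by
      rw [commutatorElement_def]; push_cast; group
    rw [h2]
    exact M.mul_mem h1 hm
  -- the quotient is commutative
  let _ : CommGroup (↥Y ⧸ M.subgroupOf Y) :=
    { (inferInstance : Group (↥Y ⧸ M.subgroupOf Y)) with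
      mul_comm := by
        intro a b
        induction a using QuotientGroup.induction_on with | H a => ?_
        induction b using QuotientGroup.induction_on with | H b => ?_
        rw [← QuotientGroup.mk_mul, ← QuotientGroup.mk_mul, QuotientGroup.eq, mem_subgroupOf]
        have h1 : ⁅((b : S))⁻¹, ((a : S))⁻¹⁆ ∈ M :=
          hder (commutator_mem_commutator (inv_mem b.2) (inv_mem a.2))
        have h2 : (((a * b)⁻¹ * (b * a) : ↥Y) : S) = ⁅((b : S))⁻¹, ((a : S))⁻¹⁆ := by
          rw [commutatorElement_def]; push_cast; group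
        rw [h2]; exact h1 }
  -- the norm map
  let N : ↥Y →* (↥Y ⧸ M.subgroupOf Y) :=
    ∏ h : ↥H, (QuotientGroup.mk' (M.subgroupOf Y)).comp (cj Y (h : S) (hinv h.2))
  have hN : ∀ y : ↥Y, N y = ∏ h : ↥H, (QuotientGroup.mk' (M.subgroupOf Y))
      (cj Y (h : S) (hinv h.2) y) := by
    intro y
    simp only [N, MonoidHom.finsetProd_apply, MonoidHom.comp_apply]
  -- invariance
  have hNinv : ∀ (h0 : ↥H) (y : ↥Y), N (cj Y (h0 : S) (hinv h0.2) y) = N y := by
    intro h0 y
    rw [hN, hN]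
    refine Fintype.prod_equiv (Equiv.mulRight h0) _ _ (fun h => ?_)
    congr 1
    ext
    simp [cj_coe, mul_assoc]
  -- the kernel contains all commutators
  have hker : Y ≤ (N.ker).map Y.subtype := by
    conv_lhs => rw [← hfull]
    rw [commutator_le]
    intro y hy h hh
    refine ⟨⟨y, hy⟩ * cj Y h (hinv hh) (⟨y, hy⟩⁻¹), ?_, ?_⟩
    · rw [SetLike.mem_coe, MonoidHom.mem_ker, map_mul, hNinv ⟨h, hh⟩, map_inv, mul_inv_cancel]
    · simp only [Subgroup.coe_subtype, Subgroup.coe_mul, cj_coe, commutatorElement_def,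
        InvMemClass.coe_inv]
      group
  intro c hc
  obtain ⟨hcY, hcH⟩ := hc
  have hfix : ∀ h : ↥H, cj Y (h : S) (hinv h.2) ⟨c, hcY⟩ = ⟨c, hcY⟩ := by
    intro h
    ext
    rw [cj_coe]
    have := mem_centralizer_iff.mp hcH h h.2
    simp only
    rw [this]; group
  have h1 : N ⟨c, hcY⟩ = 1 := by
    obtain ⟨x, hx, hxc⟩ := hker hcY
    have : x = ⟨c, hcY⟩ := Subtype.ext hxc
    rw [← this]; exact hx
  have h3 : (QuotientGroup.mk' (M.subgroupOf Y) ⟨c, hcY⟩) ^ (Fintype.card ↥H) = 1 := by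
    rw [← h1, hN]
    simp only [hfix, Finset.prod_const, Finset.card_univ]
  obtain ⟨k, hk⟩ := h2 ⟨c, hcY⟩
  have h4 : (QuotientGroup.mk' (M.subgroupOf Y) ⟨c, hcY⟩) ^ (2 ^ k) = 1 := by
    rw [← map_pow, hk, map_one]
  have hcop : (Fintype.card ↥H).Coprime (2 ^ k) := by
    rw [← Nat.card_eq_fintype_card]
    exact Nat.Coprime.pow_right k hodd
  have h5 : QuotientGroup.mk' (M.subgroupOf Y) ⟨c, hcY⟩ = 1 := by
    have d1 := orderOf_dvd_of_pow_eq_one h3
    have d2 := orderOf_dvd_of_pow_eq_one h4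
    exact orderOf_eq_one_iff.mp (Nat.eq_one_of_dvd_coprimes hcop d1 d2)
  have h6 : (⟨c, hcY⟩ : ↥Y) ∈ M.subgroupOf Y := by
    rwa [QuotientGroup.mk'_apply, QuotientGroup.eq_one_iff] at h5
  exact h6

/-! ### Frattini facts inside `S` -/

theorem der_le_phi [Finite S] (Y : Subgroup S) (h2 : IsPGroup 2 ↥Y) : der Y ≤ phi Y := by
  rw [der_eq_map]
  exact map_mono (Cfsg.Agent.Lib.Helper1_Frattini.commutator_le_frattini_of_isPGroup h2)

theorem sq_mem_phi [Finite S] (Y : Subgroup S) (h2 : IsPGroup 2 ↥Y) (y : S) (hy : y ∈ Y) :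
    y ^ 2 ∈ phi Y := by
  refine ⟨(⟨y, hy⟩ : ↥Y) ^ 2,
    Cfsg.Agent.Lib.Helper1_Frattini.pow_mem_frattini_of_isPGroup h2 ⟨y, hy⟩, ?_⟩
  simp

theorem not_comm_of (Y : Subgroup S) (hna : ¬ IsMulCommutative ↥Y) :
    der Y ≠ ⊥ ∧ zen Y < Y := by
  constructor
  · intro h
    apply hna
    apply isMulCommutative_of_le_centralizer
    exact commutator_eq_bot_iff_le_centralizer.mp h
  · refine lt_of_le_of_ne (zen_le Y) ?_
    intro h
    apply hna
    apply isMulCommutative_of_le_centralizer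
    intro y hy
    rw [← h] at hy
    exact hy.2

/-! ### the key lemma, case A -/

theorem keyA [Finite S] (H Y : Subgroup S) (hodd : (Nat.card ↥H).Coprime 2) (h : KeyHyp H Y)
    (hc : H ≤ centralizer ((phi Y : Subgroup S) : Set S)) : KeyConcl Y := by
  by_cases hab : IsMulCommutative ↥Y
  · exact Or.inl hab
  right
  obtain ⟨hD0, hZlt⟩ := not_comm_of Y hab
  have hWY : phi Y ≤ Y := phi_le Y
  have hDW : der Y ≤ phi Y := der_le_phi Y h.two
  -- `W ≤ Z(Y)` by the three subgroups lemma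
  have hWH : ⁅phi Y, H⁆ = ⊥ := (comm_eq_bot_iff H (phi Y)).mpr hc
  have hYW : ⁅Y, phi Y⁆ ≤ phi Y := by
    rw [commutator_le]
    intro y hy w hw
    have : ⁅y, w⁆ = (y * w * y⁻¹) * w⁻¹ := by rw [commutatorElement_def]
    rw [this]
    exact mul_mem (conj_mem_of_mem_normalizer (phi_normal Y hy) hw) (inv_mem hw)
  have h1 : ⁅⁅Y, phi Y⁆, H⁆ = ⊥ := by
    rw [eq_bot_iff, ← hWH]
    exact commutator_mono hYW le_rfl
  have h2 : ⁅⁅phi Y, H⁆, Y⁆ = ⊥ := by rw [hWH, commutator_bot_left]
  have h3 : ⁅⁅H, Y⁆, phi Y⁆ = ⊥ := commutator_commutator_eq_bot_of_rotate h1 h2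
  rw [commutator_comm H Y, h.full] at h3
  have hYcW : Y ≤ centralizer ((phi Y : Subgroup S) : Set S) :=
    commutator_eq_bot_iff_le_centralizer.mp h3
  have hWcY : phi Y ≤ centralizer (Y : Set S) := by
    rw [commutator_comm] at h3
    exact commutator_eq_bot_iff_le_centralizer.mp h3
  have hWZ : phi Y ≤ zen Y := le_inf hWY hWcY
  -- `C_Y(H) ≤ W`
  have hCW : Y ⊓ centralizer (H : Set S) ≤ phi Y :=
    cent_le_of_der_le H Y (phi Y) hodd h.two h.inv h.full hDW
  have hCD : Y ⊓ centralizer (H : Set S) ≤ der Y :=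
    cent_le_of_der_le H Y (der Y) hodd h.two h.inv h.full le_rfl
  -- `W ≤ Y'`
  have hWD : phi Y ≤ der Y := by
    intro w hw
    apply hCD
    refine ⟨hWY hw, mem_centralizer_iff.mpr ?_⟩
    intro x hx
    exact (mem_centralizer_iff.mp (hc hx) w hw).symm
  have hDeq : der Y = phi Y := le_antisymm hDW hWD
  -- `Z` is slim abelian
  have hZH : H ≤ normalizer ((zen Y : Subgroup S) : Set S) :=
    h.inv.trans (normalizer_le_normalizer_zen Y)
  have hZslim : Slim (zen Y) := h.min _ hZlt hZH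
  have hZ2 : IsPGroup 2 ↥(zen Y) := h.two.to_le (zen_le Y)
  have hZab : IsMulCommutative ↥(zen Y) := zen_comm Y
  have hZalt := slim_abelian (zen Y) hZ2 hZslim hZab
  obtain ⟨k, hk⟩ := IsPGroup.exists_card_eq hZ2
  have hWne : phi Y ≠ ⊥ := by rw [← hDeq]; exact hD0
  have hZne : zen Y ≠ ⊥ := fun h0 => hWne (le_bot_iff.mp (h0 ▸ hWZ))
  -- `Z = W`
  have hZW : zen Y = phi Y := by
    by_contra hne
    have hlt : phi Y < zen Y := lt_of_le_of_ne hWZ (Ne.symm hne)
    have hnc : ¬ H ≤ centralizer ((zen Y : Subgroup S) : Set S) := by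
      intro hcz
      apply hne
      refine le_antisymm ?_ hWZ
      intro z hz
      apply hCW
      refine ⟨zen_le Y hz, mem_centralizer_iff.mpr ?_⟩
      intro x hx
      exact (mem_centralizer_iff.mp (hcz hx) z hz).symm
    have hncyc : ¬ IsCyclic ↥(zen Y) := fun hcyc =>
      hnc (centralizes_cyclic H (zen Y) hodd hZ2 hcyc hZH)
    have hle4 : Nat.card ↥(zen Y) ≤ 4 := by
      rcases hZalt with h | h
      · exact absurd h hncyc
      · exact h
    have h4 : Nat.card ↥(zen Y) = 4 := by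
      rw [hk] at hle4 ⊢
      have hk2 : k ≤ 2 := by
        by_contra hk3
        push Not at hk3
        have : 2 ^ 3 ≤ 2 ^ k := Nat.pow_le_pow_right (by norm_num) hk3
        omega
      interval_cases k
      · exfalso
        apply hncyc
        have : Nat.card ↥(zen Y) = 1 := by rw [hk]; norm_num
        have : Subsingleton ↥(zen Y) := (Nat.card_eq_one_iff_unique.mp this).1
        infer_instance
      · exfalso
        apply hncyc
        have : Nat.card ↥(zen Y) = 2 := by rw [hk]; norm_num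
        exact isCyclic_of_prime_card this
      · norm_num
    obtain ⟨-, -, -, -, -, hirr⟩ := irr4 H (zen Y) hodd h4 hZH hnc
    exact hWne (hirr (phi Y) hlt (phi_inv H Y h.inv))
  refine ⟨hZW.symm, hDeq.trans hZW.symm, ?_⟩
  -- exponent two
  have hexp : ∀ z ∈ der Y, z ^ 2 = 1 := by
    intro z hz
    have hcl : der Y = closure {g | ∃ a ∈ Y, ∃ b ∈ Y, ⁅a, b⁆ = g} := rfl
    rw [hcl] at hz
    induction hz using closure_induction with
    | mem x hx =>
      obtain ⟨a, ha, b, hb, rfl⟩ := hx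
      -- `⁅a,b⁆` is central in `Y`
      have hcz : ⁅a, b⁆ ∈ zen Y := by
        rw [hZW, ← hDeq]; exact commutator_mem_commutator ha hb
      have ha2 : a ^ 2 ∈ centralizer (Y : Set S) := hWcY (sq_mem_phi Y h.two a ha)
      have e1 : (a ^ 2) * b = b * a ^ 2 := (mem_centralizer_iff.mp ha2 b hb).symm
      have e2 : ⁅a, b⁆ * a = a * ⁅a, b⁆ := (mem_centralizer_iff.mp hcz.2 a ha).symm
      -- ⁅a,b⁆^2 = ⁅a^2,b⁆ = 1
      have e3 : ⁅a, b⁆ ^ 2 = ⁅a ^ 2, b⁆ := by
        have : ⁅a ^ 2, b⁆ = a * ⁅a, b⁆ * a⁻¹ * ⁅a, b⁆ := by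
          simp only [commutatorElement_def, pow_two]; group
        rw [this, ← e2, pow_two]; group
      rw [e3, commutatorElement_def, e1]; group
    | one => simp
    | mul x y hx hy ihx ihy =>
      have hxz : x ∈ zen Y := by rw [hZW, ← hDeq, hcl]; exact hx
      have hyY : y ∈ Y := by
        have : y ∈ der Y := by rw [hcl]; exact hy
        exact hWY (hDW this)
      have e : x * y = y * x := (mem_centralizer_iff.mp hxz.2 y hyY).symm
      rw [pow_two]
      calc x * y * (x * y) = x * (y * x) * y := by group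
        _ = x * (x * y) * y := by rw [e]
        _ = x ^ 2 * y ^ 2 := by rw [pow_two, pow_two]; group
        _ = 1 := by rw [ihx, ihy, one_mul]
    | inv x hx ihx => rw [inv_pow, ihx, inv_one]
  have hle4 : Nat.card ↥(zen Y) ≤ 4 := by
    rcases hZalt with hcyc | h
    · obtain ⟨g, hg⟩ := hcyc.exists_generator
      have hord : orderOf g = Nat.card ↥(zen Y) := orderOf_eq_card_of_forall_mem_zpowers hg
      have hg2 : g ^ 2 = 1 := by
        ext
        have : (g : S) ∈ der Y := by rw [hDeq, ← hZW]; exact g.2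
        simpa using hexp g this
      have := orderOf_le_of_pow_eq_one (by norm_num) hg2
      omega
    · exact h
  rw [hk] at hle4 ⊢
  have hk2 : k ≤ 2 := by
    by_contra hk3
    push Not at hk3
    have : 2 ^ 3 ≤ 2 ^ k := Nat.pow_le_pow_right (by norm_num) hk3
    omega
  have hk0 : k ≠ 0 := by
    rintro rfl
    apply hZne
    rw [← card_eq_one, hk]; norm_num
  interval_cases k
  · exact absurd rfl hk0
  · left; norm_num
  · right; norm_num

end Cfsg.Agent.Lib.Helper99_Slim_KEYA
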