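import Mathlib
import Cfsg.Agent.Lib.Helper49_SlimDefs
import Cfsg.Agent.Lib.Helper49_SlimTools
import Cfsg.Agent.Lib.Helper99_Slim_KEYA

/-!
# S4409 package KEYB: the key lemma, case `H` does not centralize `Φ(Y)`.
-/

set_option autoImplicit false

namespace Cfsg.Agent.Lib.Helper99_Slim_KEYB

open Subgroup Cfsg.Agent.Lib.Helper49_SlimDefs Cfsg.Agent.Lib.Helper49_SlimTools
  Cfsg.Agent.Lib.Helper99_Slim_KEYA
open scoped commutatorElement

variable {S : Type*} [Group S] [Finite S]

omit [Finite S] in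
/-- a subgroup of a cyclic subgroup is cyclic -/
theorem isCyclic_of_le' {A B : Subgroup S} (hAB : A ≤ B) (hB : IsCyclic ↥B) : IsCyclic ↥A :=
  isCyclic_of_surjective (subgroupOfEquivOfLe hAB) (subgroupOfEquivOfLe hAB).surjective

/-- `Y ≤ Φ(Y) ⊔ C` with forces `Y ≤ C` (the Frattini subgroup is nongenerating) -/
theorem le_of_le_phi_sup (Y C : Subgroup S)
    (hdec : ∀ y ∈ Y, ∃ w ∈ phi Y, ∃ c ∈ C, y = w * c) : Y ≤ C := by
  have hK : C.subgroupOf Y = ⊤ := by
    apply frattini_nongenerating
    rw [eq_top_iff]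
    intro y _
    obtain ⟨w, hw, c, hc, hyc⟩ := hdec y y.2
    obtain ⟨w', hw', rfl⟩ := hw
    have hcY : c ∈ Y := by
      have : c = (w' : S)⁻¹ * y := by
        rw [hyc]; simp
      rw [this]
      exact Y.mul_mem (inv_mem w'.2) y.2
    have hy : y = w' * ⟨c, hcY⟩ := Subtype.ext hyc
    rw [hy, sup_comm]
    exact mul_mem_sup hw' (mem_subgroupOf.mpr hc)
  intro y hy
  have : (⟨y, hy⟩ : ↥Y) ∈ C.subgroupOf Y := by rw [hK]; exact mem_top _
  exact mem_subgroupOf.mp this

theorem keyB (H Y : Subgroup S) (hodd : (Nat.card ↥H).Coprime 2) (h : KeyHyp H Y)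
    (hc : ¬ H ≤ centralizer ((phi Y : Subgroup S) : Set S)) (hW : SlimActConcl H (phi Y)) :
    KeyConcl Y := by
  obtain ⟨hWfull, h48⟩ := hW
  have hWH : H ≤ normalizer ((phi Y : Subgroup S) : Set S) := phi_inv H Y h.inv
  have hWY : phi Y ≤ Y := phi_le Y
  rcases h48 with h4 | ⟨h8, hna⟩
  · -- order 4
    obtain ⟨hncyc, hWab, hWexp, -, hWC, hirr⟩ := irr4 H (phi Y) hodd h4 hWH hc
    have hidx := index_centralizer_four Y (phi Y) h.two h4 (phi_normal Y)
    have hT : Y ⊓ centralizer ((phi Y : Subgroup S) : Set S) = Y := by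
      have hTY : Y ⊓ centralizer ((phi Y : Subgroup S) : Set S) ≤ Y := inf_le_left
      apply eq_of_relIndex_le_two H Y (Y ⊓ centralizer ((phi Y : Subgroup S) : Set S))
        h.inv h.full hTY hidx
      intro g hg
      exact normalizer_inf_le (h.inv hg) (normalizer_le_normalizer_centralizer (phi Y) (hWH hg))
    have hYcW : Y ≤ centralizer ((phi Y : Subgroup S) : Set S) := by
      intro y hy
      have hy' : y ∈ Y ⊓ centralizer ((phi Y : Subgroup S) : Set S) := by rw [hT]; exact hy
      exact hy'.2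
    have hWcY : phi Y ≤ centralizer (Y : Set S) := by
      intro w hw
      rw [mem_centralizer_iff]
      intro y hy
      exact (mem_centralizer_iff.mp (hYcW hy) w hw).symm
    have hWZ : phi Y ≤ zen Y := le_inf hWY hWcY
    by_cases hab : IsMulCommutative ↥Y
    · exact Or.inl hab
    right
    obtain ⟨hD0, hZlt⟩ := not_comm_of Y hab
    have hZH : H ≤ normalizer ((zen Y : Subgroup S) : Set S) :=
      h.inv.trans (normalizer_le_normalizer_zen Y)
    have hZslim : Slim (zen Y) := h.min _ hZlt hZH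
    have hZ2 : IsPGroup 2 ↥(zen Y) := h.two.to_le (zen_le Y)
    have hZle4 : Nat.card ↥(zen Y) ≤ 4 := by
      rcases slim_abelian (zen Y) hZ2 hZslim (zen_comm Y) with hcyc | h
      · exact absurd (isCyclic_of_le' hWZ hcyc) hncyc
      · exact h
    have hZW : phi Y = zen Y := eq_of_le_of_card_ge hWZ (by rw [h4]; exact hZle4)
    have hDW : der Y ≤ phi Y := der_le_phi Y h.two
    have hDH : H ≤ normalizer ((der Y : Subgroup S) : Set S) := fun g hg =>
      normalizer_commutator_le (h.inv hg) (h.inv hg)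
    have hDeq : der Y = phi Y := by
      by_contra hne
      exact hD0 (hirr (der Y) (lt_of_le_of_ne hDW hne) hDH)
    exact ⟨hZW, hDeq.trans hZW, Or.inr (by rw [← hZW]; exact h4)⟩
  · -- order 8: impossible
    exfalso
    obtain ⟨K, hKY, hKidx, -, hKmem⟩ := index_central_aut Y (phi Y) h.two h8 hna (phi_normal Y)
    have hzH : H ≤ normalizer ((zen (phi Y) : Subgroup S) : Set S) :=
      hWH.trans (normalizer_le_normalizer_zen (phi Y))
    have hKH : H ≤ normalizer (K : Set S) := by
      have key : ∀ g ∈ H, ∀ y ∈ K, g * y * g⁻¹ ∈ K := by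
        intro g hg y hy
        rw [hKmem] at hy ⊢
        refine ⟨conj_mem_of_mem_normalizer (h.inv hg) hy.1, fun w hw => ?_⟩
        have h1 : ⁅g⁻¹ * w * g, y⁆ ∈ zen (phi Y) :=
          hy.2 _ (conj_mem_of_mem_normalizer' (hWH hg) hw)
        have h2 : ⁅w, g * y * g⁻¹⁆ = g * ⁅g⁻¹ * w * g, y⁆ * g⁻¹ := by
          simp only [commutatorElement_def]; group
        rw [h2]
        exact conj_mem_of_mem_normalizer (hzH hg) h1
      intro g hg
      rw [mem_normalizer_iff]
      intro y
      constructor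
      · exact fun hy => key g hg y hy
      · intro hy
        have := key g⁻¹ (inv_mem hg) _ hy
        simpa [mul_assoc] using this
    have hKeq : K = Y := eq_of_relIndex_le_two H Y K h.inv h.full hKY hKidx hKH
    have hYW : Y ≤ centralizer ((phi Y : Subgroup S) : Set S) := by
      apply le_of_le_phi_sup
      intro y hy
      have hyK : y ∈ K := by rw [hKeq]; exact hy
      have h1 := central_aut_inner (phi Y) h8 hna y (phi_normal Y hy) ((hKmem y).mp hyK).2
      have h2 : phi Y ≤ normalizer ((centralizer ((phi Y : Subgroup S) : Set S) : Subgroup S) : Set S) :=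
        le_normalizer.trans (normalizer_le_normalizer_centralizer (phi Y))
      have h3 := coe_mul_of_left_le_normalizer_right (phi Y) (centralizer ((phi Y : Subgroup S) : Set S)) h2
      have h4 : y ∈ ((phi Y ⊔ centralizer ((phi Y : Subgroup S) : Set S) : Subgroup S) : Set S) := h1
      rw [h3, Set.mem_mul] at h4
      obtain ⟨w, hw, c, hc, hwc⟩ := h4
      exact ⟨w, hw, c, hc, hwc.symm⟩
    exact hna (isMulCommutative_of_le_centralizer (hWY.trans hYW))

end Cfsg.Agent.Lib.Helper99_Slim_KEYB
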