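import Mathlib
import Cfsg.Prelude.Def_Transfer
import Cfsg.Prelude.Def_Solvable
import Cfsg.Agent.Lib.Helper49_SlimDefs
import Cfsg.Agent.Lib.Helper49_SlimTools
import Cfsg.Agent.Lib.Helper99_Slim_KEYA
import Cfsg.Agent.Lib.Helper99_Slim_KEYB
import Cfsg.Agent.Lib.Helper58_Slim_SA1
import Cfsg.Agent.Lib.Helper41_Slim_SA2
import Cfsg.Agent.Lib.Helper58_Slim_COREEQ
import Cfsg.Agent.Lib.Helper82_Slim_CORET
import Cfsg.Agent.Lib.Helper82_Slim_CORE4
import Cfsg.Agent.Lib.Helper20_Slim_CORE8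
import Cfsg.Agent.Lib.Helper31_Slim_NORMH
import Cfsg.Agent.Lib.Helper8_Slim_NORMC
import Cfsg.Agent.Lib.Helper41_Slim_NORM2
import Cfsg.Agent.Lib.Helper10_Slim_NORMA
import Cfsg.Agent.Lib.Helper10_Slim_NORM3

/-!
# S4409 (layer-2 packages): re-exports of the landed market packages
KEYA (helper99), KEYB (helper99), SA1 (helper58), SA2 (helper41), COREEQ (helper58), CORET (helper82), CORE4 (helper82), CORE8 (helper20), NORMH (helper31), NORMC (helper8), NORM2 (helper41), NORMA (helper10), NORM3 (helper10).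
-/

set_option autoImplicit false

namespace Cfsg.Agent.Lib.Helper49_SlimPk

open Subgroup Cfsg.Agent.Lib.Helper49_SlimDefs
open scoped commutatorElement

variable {S : Type*} [Group S] [Finite S]

/-- PACKAGE KEYA (L, ~250 lines).  Case A of the KEY LEMMA in the header.  Tools: phi_*, three subgroups lemma `Subgroup.commutator_commutator_eq_bot_of_rotate`, fixed_quot, stable, centralizes_cyclic, slim_abelian, irr4.  If Y is abelian conclude at once.  Facts to establish in order: W := phi Y ≤ zen Y; C_Y(H) ≤ W (Y/W is abelian (frattini quotient of a p-group: `IsPGroup`/`commutator_le_frattini`...), the image of c ∈ C_Y(H) ... use fixed_quot + comm arguments, or: ⁅Y,H⁆ W = Y and Y/W abelian give Y/W = [Y/W,H]; Helper2_Coprime (abelian coprime action) commutator_inf_centralizer_eq_bot); zen Y = W; der Y ≤ W; W ≤ der Y; exponent of der Y is 2 (`⁅a,b⁆^2 = ⁅a^2,b⁆` when ⁅a,b⁆ is central; a^2 ∈ phi Y ≤ zen Y); |zen Y| ∈ {2,4} by slim_abelian. -/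
theorem keyA (H Y : Subgroup S) (hodd : (Nat.card ↥H).Coprime 2) (h : KeyHyp H Y)
    (hc : H ≤ centralizer ((phi Y : Subgroup S) : Set S)) : KeyConcl Y :=
  Cfsg.Agent.Lib.Helper99_Slim_KEYA.keyA H Y hodd h hc

/-- PACKAGE KEYB (L, ~250 lines).  Case B of the KEY LEMMA in the header, given hW : SlimActConcl H (phi Y).  |W| = 4: irr4 + index_centralizer_four (P := Y, V := W): T := Y ⊓ centralizer W is normalized by H and Y, T.relIndex Y ≤ 2; if T ≠ Y then ⁅Y,H⁆ ≤ T (H acts trivially on a quotient of order 2: for y ∈ Y, h ∈ H: h y h⁻¹ ∈ y T because y T is the only nontrivial coset) contradicting h.full; so W ≤ zen Y; zen Y (if Y nonabelian: proper, H-invariant, slim, abelian, contains the noncyclic W) = W by slim_abelian; der Y ≤ W (`commutator_le_frattini`-type fact) is H-invariant: ⊥ (Y abelian) or W (irr4).  |W| = 8: ord8_struct + index_central_aut (P := Y) + central_aut_inner: Y = W ⊔ (Y ⊓ centralizer W); Y/(Y ⊓ centralizer W) ≃ W/zen W has exponent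 2 and is abelian, so frattini ≤: W = phi Y ≤ centralizer W, W abelian: contradiction. -/
theorem keyB (H Y : Subgroup S) (hodd : (Nat.card ↥H).Coprime 2) (h : KeyHyp H Y)
    (hc : ¬ H ≤ centralizer ((phi Y : Subgroup S) : Set S)) (hW : SlimActConcl H (phi Y)) :
    KeyConcl Y :=
  Cfsg.Agent.Lib.Helper99_Slim_KEYB.keyB H Y hodd h hc hW

/-- PACKAGE SA1 (M/L, ~200 lines).  First half of SLIM GROUPS WITH OPERATORS in the header: W1 := ⁅W,H⁆ ≠ ⊥ (comm_eq_bot_iff), ⁅W1,H⁆ = W1 (comm_idem), W1 ≤ W slim (slim_mono), H normalizes W1 (comm_inv): KeyHyp H W1 holds, so hkey gives KeyConcl W1.  Abelian: not cyclic (centralizes_cyclic would give ⁅W1,H⁆ = ⊥), so |W1| ≤ 4 and noncyclic: = 4.  phi = zen = der of order 2 and |W1| ≥ 16: build the abelian noncyclic subgroup ⟨x,y,Z⟩ of order 8 (class equation: |C_{W1}(x)| = |W1|/2 because x^{W1} ⊆ x W1'), not_slim_of_abelian.  |W1| = 8: nonabelian since der = zen ≠ ⊥.  (|W1| < 8 impossible: groups of order ≤ 4 are abelian,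 but der W1 ≠ ⊥.)  phi = zen = der of order 4: zen W1 has exponent 2 (class 2, squares central) and order 4, so is not cyclic; ⟨zen, x⟩ for x ∉ zen with ... any x ∉ zen W1: ⟨zen W1, x⟩ is abelian, contains the noncyclic zen W1 properly, so has order ≥ 8 and is not cyclic: not_slim_of_abelian. -/
theorem slimact_comm (H W : Subgroup S) (hodd : (Nat.card ↥H).Coprime 2) (h2 : IsPGroup 2 ↥W)
    (hinv : H ≤ normalizer (W : Set S)) (hs : Slim W) (hnc : ¬ H ≤ centralizer (W : Set S))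
    (hkey : KeyHyp H ⁅W, H⁆ → KeyConcl ⁅W, H⁆) :
    Nat.card ↥(⁅W, H⁆ : Subgroup S) = 4 ∨
      (Nat.card ↥(⁅W, H⁆ : Subgroup S) = 8 ∧ ¬ IsMulCommutative ↥(⁅W, H⁆ : Subgroup S)) :=
  Cfsg.Agent.Lib.Helper58_Slim_SA1.slimact_comm H W hodd h2 hinv hs hnc hkey

/-- PACKAGE SA2 (L, ~250 lines).  Second half: W = W1 C with C := W ⊓ centralizer H (decomp), W1 := ⁅W,H⁆ normalized by W and H.  |W1| = 4: irr4 for W1 (H does not centralize W1: comm_idem + comm_eq_bot_iff); ⁅W1,C⁆ is H-invariant (C centralizes H) and < W1 (W is nilpotent: ⁅W1,W⁆ < W1 for 1 ≠ W1 ◁ W), so = ⊥; W1 ⊓ C = ⊥; if C ≠ ⊥ take c ∈ C of order 2: W1 ⊔ zpowers c is abelian of order 8, noncyclic: contradiction with hs.  So C = ⊥ and W = W1.  |W1| = 8: ord8_struct; ⁅W1,C⁆ ≤ zen W1; central_aut_inner: C ≤ W1 ⊔ D, D := W ⊓ centralizer W1 (adjust: central_aut_inner gives c ∈ W1 ⊔ centralizer W1, and c ∈ W); if D ≰ zen W1 pick d ∈ D, d ∉ W1 ... with d² ∈ zen W1 (D/zen W1 is a nontrivial 2-group)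 and i ∈ W1 of order 4: closure {i,d} is abelian of order 8, every element has order ≤ 4 (so it is not cyclic): contradiction with hs.  Hence D ≤ W1, C ≤ W1, W = W1. -/
theorem slimact_eq (H W : Subgroup S) (hodd : (Nat.card ↥H).Coprime 2) (h2 : IsPGroup 2 ↥W)
    (hinv : H ≤ normalizer (W : Set S)) (hs : Slim W) (hnc : ¬ H ≤ centralizer (W : Set S))
    (h48 : Nat.card ↥(⁅W, H⁆ : Subgroup S) = 4 ∨
      (Nat.card ↥(⁅W, H⁆ : Subgroup S) = 8 ∧ ¬ IsMulCommutative ↥(⁅W, H⁆ : Subgroup S))) :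
    ⁅W, H⁆ = W :=
  Cfsg.Agent.Lib.Helper41_Slim_SA2.slimact_eq H W hodd h2 hinv hs hnc h48

/-- PACKAGE COREEQ (M/L, ~200 lines).  hk : KeyConcl X.  Abelian: first alternative of Concl.  |zen X| = 4: fourth alternative.  |zen X| = 2: second alternative; need 32 ≤ |X|.  X is not slim: A ≤ X abelian noncyclic of order 8.  |X| is a power of 2, X nonabelian (der X = zen X ≠ ⊥) so |X| ≥ 8; |X| = 8 forces X = A abelian; |X| = 16: A has index 2 hence is normal; zen X ≤ A (else A ⊔ zen X = X abelian); for w ∈ X, w ∉ A the map a ↦ ⁅a,w⁆ is a homomorphism A → der X (values central) with kernel A ⊓ centralizer {w} of order ≥ 4, which is centralized by A and w, hence by X = ⟨A,w⟩: it lies in zen X of order 2: contradiction. -/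
theorem core_eq (X H : Subgroup S) (h : Cfg X H) (hfull : ⁅X, H⁆ = X) (hk : KeyConcl X) :
    Concl X :=
  Cfsg.Agent.Lib.Helper58_Slim_COREEQ.core_eq X H h hfull hk

/-- PACKAGE CORET (S/M, ~60 lines).  H centralizes X, so H normalizes every subgroup of X; h.min: every proper subgroup of X is slim.  h.notslim gives A ≤ X abelian, noncyclic, of order 8; A is not slim (itself), so A = X and X is abelian: first alternative. -/
theorem core_trivial (X H : Subgroup S) (h : Cfg X H) (hc : H ≤ centralizer (X : Set S)) :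
    Concl X :=
  Cfsg.Agent.Lib.Helper82_Slim_CORET.core_trivial X H h hc

/-- PACKAGE CORE4 (M, ~200 lines).  Q := ⁅X,H⁆ of order 4, Q < X, ⁅Q,H⁆ = Q (comm_idem), so H does not centralize Q; irr4.  C := X ⊓ centralizer H; X = Q ⊔ C (decomp); ⁅Q,C⁆ is H-invariant and < Q (nilpotency of X, Q ◁ X): = ⊥; Q ⊓ C = ⊥.  For every subgroup C1 < C: Q ⊔ C1 is H-invariant and proper (orders: |Q ⊔ C1| = 4 |C1|), hence slim; if C1 ≠ ⊥ it contains Q × ⟨involution⟩ = E8: contradiction.  So C has no proper nontrivial subgroup; C ≠ ⊥ (else X = Q is slim by h.min... Q < X anyway); X = Q ⊔ C with Q, C abelian and commuting: X abelian, first alternative. -/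
theorem core_four (X H : Subgroup S) (h : Cfg X H) (hlt : ⁅X, H⁆ < X)
    (h4 : Nat.card ↥(⁅X, H⁆ : Subgroup S) = 4) : Concl X :=
  Cfsg.Agent.Lib.Helper82_Slim_CORE4.core_four X H h hlt h4

/-- PACKAGE CORE8 (L, ~300 lines).  Q := ⁅X,H⁆ nonabelian of order 8, ⁅Q,H⁆ = Q; ord8_struct.  C := X ⊓ centralizer H, X = Q ⊔ C; for c ∈ C: ⁅Q, c⁆ ≤ zen Q (the subgroup ⁅Q, C⁆ is H-invariant and proper in Q), central_aut_inner: c ∈ Q ⊔ centralizer Q; so X = Q ⊔ D, D := X ⊓ centralizer Q, which is H-invariant; Q ⊓ D = zen Q.  ⁅D,H⁆ ≤ Q ⊓ D = zen Q is centralized by H, so ⁅D,H⁆ = ⊥ (stable): H centralizes D, every subgroup of D is H-invariant.  For zen Q ≤ D1 < D: Q ⊔ D1 is H-invariant and proper, so slim, so D1 = zen Q (else d ∈ D1 - zen Q with d² ∈ zen Q and i ∈ Q of order 4 give an abelian subgroup of order 8 of exponent 4).  D ≠ zen Q (else X = Q, but Q < X).  A 2-group D with no subgroup strictly between zen Q and D has |D : zen Q| = 2.  So |X| = 16, Q.relIndex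 X = 2; third alternative with X₀ = Q, iso from ord8_struct. -/
theorem core_eight (X H : Subgroup S) (h : Cfg X H) (hlt : ⁅X, H⁆ < X)
    (h8 : Nat.card ↥(⁅X, H⁆ : Subgroup S) = 8) (hna : ¬ IsMulCommutative ↥(⁅X, H⁆ : Subgroup S)) :
    Concl X :=
  Cfsg.Agent.Lib.Helper20_Slim_CORE8.core_eight X H h hlt h8 hna

/-- PACKAGE NORMH (S, ~40 lines).  Lib/Helper1_Hall.hall_exists with |S| = m * n, n = |X| = 2^k (Sylow.card_eq_multiplicity), m = |S| / n odd. -/
theorem exists_hall [Group.IsSolvable S] (X : Sylow 2 S) :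
    ∃ H : Subgroup S, (Nat.card ↥H).Coprime 2 ∧ Nat.card ↥H * Nat.card ↥(X : Subgroup S) = Nat.card S :=
  Cfsg.Agent.Lib.Helper31_Slim_NORMH.exists_hall X

/-- PACKAGE NORMC (M, ~120 lines).  Helper55_Fitting.centralizer_fittingSubgroup_le : C_S(F(S)) ≤ F(S) for solvable S.  With O_2'(S) = ⊥: F(S) = O_2(S): F(S) is nilpotent, its Hall 2'-subgroup (product of the odd Sylow subgroups) is characteristic in F(S) so normal in S of odd order, hence inside pPrimeCore 2 S = ⊥; so F(S) is a 2-group, F(S) ≤ pCore 2 S; and pCore 2 S is a normal nilpotent subgroup so ≤ F(S).  READY-MADE: Lib/Helper1_Cores.fittingSubgroup_eq_iSup_pCore (F(S) = ⨆ p, O_p(S)), pCore_card_coprime, le_pPrimeCore: for odd p, O_p(S) is normal of order prime to 2, so ≤ pPrimeCore 2 S = ⊥; hence F(S) = O_2(S). -/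
theorem centralizer_pcore_le [Group.IsSolvable S] (hO : Cfsg.pPrimeCore 2 S = ⊥) :
    centralizer ((Cfsg.pCore 2 S : Subgroup S) : Set S) ≤ Cfsg.pCore 2 S :=
  Cfsg.Agent.Lib.Helper8_Slim_NORMC.centralizer_pcore_le hO

/-- PACKAGE NORM2 (L, ~300 lines).  See NORMALITY in the header: R normal 2-subgroup with C_S(R) ≤ R, hsa : ⁅R,H⁆ = R and (|R| = 4 or (|R| = 8, nonabelian)); A abelian noncyclic of order 8: False.  Use index_centralizer_four (P := A, V := R), ord8_struct (H does act: ⁅R,H⁆ = R), index_central_aut (P := A ⊔ R, a 2-group since R is normal), central_aut_inner (K ≤ R ⊔ centralizer R = R). -/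
theorem pcore_slim_contra (R H : Subgroup S) (hRn : R.Normal) (hR2 : IsPGroup 2 ↥R)
    (hcen : centralizer (R : Set S) ≤ R)
    (hodd : (Nat.card ↥H).Coprime 2) (hsa : SlimActConcl H R)
    (A : Subgroup S) (hAab : IsMulCommutative ↥A) (hAnc : ¬ IsCyclic ↥A) (hA8 : Nat.card ↥A = 8) :
    False :=
  Cfsg.Agent.Lib.Helper41_Slim_NORM2.pcore_slim_contra R H hRn hR2 hcen hodd hsa A hAab hAnc hA8

/-- PACKAGE NORMA (M, ~150 lines; independent of NORMC / NORM2, which enter as the hypotheses hcen / hcontra).  R := Cfsg.pCore 2 S (normal 2-subgroup: Lib/Helper1_Cores pCore_normal, pCore_isPGroup, pCore_le_sylow), R ≤ X.  If Nat.card R = Nat.card X then X = R is normal.  Else R ⊔ H has order |R| |H| (coprime, R normal: Helper1_Cores.card_sup_eq or `Subgroup.card_mul_eq_card_subgroup_mul_card_quotient`-style) < |S|, index |X| / |R| = 2^k, so hmin applies: R is slim (a noncyclic abelian subgroup of order 8 of R lies in R ⊔ H).  H ≠ ⊥ (else S = X is a 2-group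 and R = ⊤ = X).  H does not centralize R: otherwise H ≤ centralizer R ≤ R (hcen), so H = ⊥ (odd order inside a 2-group).  hsa gives SlimActConcl H R; hcontra gives False. -/
theorem sylow_normal
    (hmin : ∀ R : Subgroup S, R ≠ ⊤ → (∃ k : ℕ, R.index = 2 ^ k) →
      ¬ ∃ A : Subgroup S, A ≤ R ∧ IsMulCommutative ↥A ∧ ¬ IsCyclic ↥A ∧ Nat.card ↥A = 8)
    (X : Sylow 2 S) (H : Subgroup S) (hodd : (Nat.card ↥H).Coprime 2)
    (hH : Nat.card ↥H * Nat.card ↥(X : Subgroup S) = Nat.card S)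
    (hcen : centralizer ((Cfsg.pCore 2 S : Subgroup S) : Set S) ≤ Cfsg.pCore 2 S)
    (hsa : ∀ W : Subgroup S, IsPGroup 2 ↥W → H ≤ normalizer (W : Set S) → Slim W →
      ¬ H ≤ centralizer (W : Set S) → SlimActConcl H W)
    (hcontra : SlimActConcl H (Cfsg.pCore 2 S) → False) :
    (X : Subgroup S).Normal :=
  Cfsg.Agent.Lib.Helper10_Slim_NORMA.sylow_normal hmin X H hodd hH hcen hsa hcontra

/-- PACKAGE NORM3 (M, ~120 lines).  X normal Sylow, |H| |X| = |S|, H odd.  two: X.isPGroup'.  inv: X normal.  notslim: the subgroup A of h8 is a 2-group, so it lies in a Sylow 2-subgroup, which is X (normal Sylow is unique): A ≤ X witnesses ¬ Slim X.  min: T < X normalized by H: R := T ⊔ H has order |T| |H| (T ⊓ H = ⊥ by coprimality; T ⊔ H = T * H since H normalizes T), index |X| / |T| = 2^k, R ≠ ⊤; hmin R gives Slim T. -/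
theorem cfg_of_normal [Group.IsSolvable S]
    (h8 : ∃ A : Subgroup S, IsMulCommutative ↥A ∧ ¬ IsCyclic ↥A ∧ Nat.card ↥A = 8)
    (hmin : ∀ R : Subgroup S, R ≠ ⊤ → (∃ k : ℕ, R.index = 2 ^ k) →
      ¬ ∃ A : Subgroup S, A ≤ R ∧ IsMulCommutative ↥A ∧ ¬ IsCyclic ↥A ∧ Nat.card ↥A = 8)
    (X : Sylow 2 S) (hXn : (X : Subgroup S).Normal) (H : Subgroup S)
    (hodd : (Nat.card ↥H).Coprime 2)
    (hH : Nat.card ↥H * Nat.card ↥(X : Subgroup S) = Nat.card S) : Cfg (X : Subgroup S) H :=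
  Cfsg.Agent.Lib.Helper10_Slim_NORM3.cfg_of_normal h8 hmin X hXn H hodd hH

end Cfsg.Agent.Lib.Helper49_SlimPk
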