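import Mathlib
import Cfsg.Prelude.Def_Transfer
import Cfsg.Prelude.Def_Solvable
import Cfsg.Agent.Lib.Helper49_SlimDefs
import Cfsg.Agent.Lib.Helper1_Cores
import Cfsg.Agent.Lib.Helper49_SlimTools
import Cfsg.Agent.Lib.Helper49_SlimPk

/-!
# S4409: assembly (helper49)
-/

set_option autoImplicit false

namespace Cfsg.Agent.Lib.Helper49_SlimMain

open Subgroup Cfsg.Agent.Lib.Helper49_SlimDefs Cfsg.Agent.Lib.Helper49_SlimTools Cfsg.Agent.Lib.Helper49_SlimPk

variable {S : Type*} [Group S] [Finite S]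

/-- A slim `2`-group with a nontrivial action of `H`, given the key lemma for `[W, H]`. -/
theorem slimact_of_key (H W : Subgroup S) (hodd : (Nat.card ↥H).Coprime 2) (h2 : IsPGroup 2 ↥W)
    (hinv : H ≤ normalizer (W : Set S)) (hs : Slim W) (hnc : ¬ H ≤ centralizer (W : Set S))
    (hkey : KeyHyp H ⁅W, H⁆ → KeyConcl ⁅W, H⁆) : SlimActConcl H W := by
  have h48 := slimact_comm H W hodd h2 hinv hs hnc hkey
  have heq := slimact_eq H W hodd h2 hinv hs hnc h48
  refine ⟨heq, ?_⟩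
  rw [heq] at h48
  exact h48

/-- The key lemma, by induction on the order. -/
theorem key_all (H : Subgroup S) (hodd : (Nat.card ↥H).Coprime 2) :
    ∀ n : ℕ, ∀ Y : Subgroup S, Nat.card ↥Y ≤ n → KeyHyp H Y → KeyConcl Y := by
  intro n
  induction n using Nat.strong_induction_on with
  | _ n ih =>
    intro Y hY hk
    by_cases hc : H ≤ centralizer ((phi Y : Subgroup S) : Set S)
    · exact keyA H Y hodd hk hc
    · have hYne : Y ≠ ⊥ := by
        rintro rfl
        apply hc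
        have h1 : phi (⊥ : Subgroup S) = ⊥ := le_bot_iff.mp (phi_le ⊥)
        rw [h1]
        intro h _ x hx
        rw [SetLike.mem_coe, Subgroup.mem_bot] at hx
        subst hx
        simp
      have hlt : phi Y < Y := phi_lt Y hYne
      have hcardlt : Nat.card ↥(phi Y) < Nat.card ↥Y := by
        by_contra hge
        exact hlt.ne (Subgroup.eq_of_le_of_card_ge hlt.le (not_lt.mp hge))
      have h2 : IsPGroup 2 ↥(phi Y) := hk.two.to_le hlt.le
      have hinv : H ≤ normalizer ((phi Y : Subgroup S) : Set S) := phi_inv H Y hk.inv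
      have hs : Slim (phi Y) := hk.min (phi Y) hlt hinv
      have hle : Nat.card ↥(⁅phi Y, H⁆ : Subgroup S) ≤ Nat.card ↥(phi Y) :=
        Subgroup.card_le_of_le (comm_le H (phi Y) hinv)
      have hsa : SlimActConcl H (phi Y) :=
        slimact_of_key H (phi Y) hodd h2 hinv hs hc
          (fun hk' => ih (Nat.card ↥(⁅phi Y, H⁆ : Subgroup S)) (by omega) _ le_rfl hk')
      exact keyB H Y hodd hk hc hsa

/-- Slim `2`-groups with operators. -/
theorem slimact (H W : Subgroup S) (hodd : (Nat.card ↥H).Coprime 2) (h2 : IsPGroup 2 ↥W)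
    (hinv : H ≤ normalizer (W : Set S)) (hs : Slim W) (hnc : ¬ H ≤ centralizer (W : Set S)) :
    SlimActConcl H W :=
  slimact_of_key H W hodd h2 hinv hs hnc (fun hk' => key_all H hodd _ _ le_rfl hk')

/-- The minimal configuration. -/
theorem core (X H : Subgroup S) (h : Cfg X H) : Concl X := by
  by_cases hc : H ≤ centralizer (X : Set S)
  · exact core_trivial X H h hc
  · have hle : ⁅X, H⁆ ≤ X := comm_le H X h.inv
    rcases hle.eq_or_lt with heq | hlt
    · have hk : KeyHyp H X := ⟨h.two, h.inv, heq, h.min⟩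
      exact core_eq X H h heq (key_all H h.odd _ X le_rfl hk)
    · have hQinv := (comm_inv H X h.inv).1
      have hQs : Slim ⁅X, H⁆ := h.min _ hlt hQinv
      have hQ2 : IsPGroup 2 ↥(⁅X, H⁆ : Subgroup S) := h.two.to_le hle
      have hQnc : ¬ H ≤ centralizer ((⁅X, H⁆ : Subgroup S) : Set S) := fun hcQ =>
        hc (stable H X ⁅X, H⁆ h.odd h.two h.inv hcQ le_rfl)
      have hsa := slimact H ⁅X, H⁆ h.odd hQ2 hQinv hQs hQnc
      rcases hsa.2 with h4 | ⟨h8, hna⟩
      · exact core_four X H h hlt h4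
      · exact core_eight X H h hlt h8 hna

/-- Translation of the internal conclusion. -/
theorem concl_trans (X : Subgroup S) (hX : IsPGroup 2 ↥X) (h : Concl X) :
    IsMulCommutative ↥X ∨
      (Cfsg.IsExtraspecial 2 ↥X ∧ 32 ≤ Nat.card ↥X) ∨
      (∃ (X₀ : Subgroup S) (k : ℕ), X₀ ≤ X ∧ X₀.relIndex X = 2 ∧
        Nonempty (↥X₀ ≃* QuaternionGroup (2 ^ (k + 1))) ∧
        X₀ ⊔ (X ⊓ Subgroup.centralizer (X₀ : Set S)) = X) ∨
      (Cfsg.IsSpecial 2 ↥X ∧ Nat.card ↥(Subgroup.center ↥X) = 4) := by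
  rcases h with h | ⟨h1, h2, h3, h4⟩ | ⟨X₀, hle, hri, hiso, hsup⟩ | ⟨h1, h2, h3⟩
  · exact Or.inl h
  · obtain ⟨hs, hc⟩ := special_of X hX h1 h2
    exact Or.inr (Or.inl ⟨⟨hs, by rw [hc, h3]⟩, h4⟩)
  · exact Or.inr (Or.inr (Or.inl ⟨X₀, 0, hle, hri, by simpa using hiso, hsup⟩))
  · obtain ⟨hs, hc⟩ := special_of X hX h1 h2
    exact Or.inr (Or.inr (Or.inr ⟨hs, by rw [hc, h3]⟩))

theorem main [Group.IsSolvable S] (hO : Cfsg.pPrimeCore 2 S = ⊥)
    (h8 : ∃ A : Subgroup S, IsMulCommutative ↥A ∧ ¬ IsCyclic ↥A ∧ Nat.card ↥A = 8)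
    (hmin : ∀ R : Subgroup S, R ≠ ⊤ → (∃ k : ℕ, R.index = 2 ^ k) →
      ¬ ∃ A : Subgroup S, A ≤ R ∧ IsMulCommutative ↥A ∧ ¬ IsCyclic ↥A ∧ Nat.card ↥A = 8)
    (X : Sylow 2 S) :
    (X : Subgroup S).Normal ∧
      (IsMulCommutative ↥X ∨
        (Cfsg.IsExtraspecial 2 ↥X ∧ 32 ≤ Nat.card ↥X) ∨
        (∃ (X₀ : Subgroup S) (k : ℕ), X₀ ≤ (X : Subgroup S) ∧ X₀.relIndex (X : Subgroup S) = 2 ∧
          Nonempty (↥X₀ ≃* QuaternionGroup (2 ^ (k + 1))) ∧ X₀ ⊔ ((X : Subgroup S) ⊓ Subgroup.centralizer (X₀ : Set S)) = (X : Subgroup S)) ∨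
        (Cfsg.IsSpecial 2 ↥X ∧ Nat.card ↥(Subgroup.center ↥X) = 4)) := by
  obtain ⟨H, hodd, hH⟩ := exists_hall X
  have hXn : (X : Subgroup S).Normal :=
    sylow_normal hmin X H hodd hH (centralizer_pcore_le hO)
      (fun W h2 hinv hs hnc => slimact H W hodd h2 hinv hs hnc)
      (fun hsa => by
        obtain ⟨A, hAab, hAnc, hA8⟩ := h8
        exact pcore_slim_contra (Cfsg.pCore 2 S) H (Cfsg.Agent.Lib.Helper1_Cores.pCore_normal 2)
          (Cfsg.Agent.Lib.Helper1_Cores.pCore_isPGroup 2) (centralizer_pcore_le hO) hodd hsa A hAab hAnc hA8)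
  have hcfg : Cfg (X : Subgroup S) H := cfg_of_normal h8 hmin X hXn H hodd hH
  exact ⟨hXn, concl_trans (X : Subgroup S) X.isPGroup' (core (X : Subgroup S) H hcfg)⟩

end Cfsg.Agent.Lib.Helper49_SlimMain
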