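import Mathlib.GroupTheory.Sylow
import Cfsg.Prelude.Def_SylowControl

/-!
helper49: basic API for `Def_SylowControl`: right conjugation of subgroups and of Sylow subgroups,
and a cardinality characterisation of `Cfsg.sylowMembers`, with its invariance under conjugation.
-/

set_option autoImplicit false

namespace Cfsg.Agent.Lib.Helper49_SylowControl

open Cfsg
open scoped Pointwise

variable {G : Type*} [Group G]

theorem mem_conjR {g : G} {X : Subgroup G} {y : G} :
    y ∈ subgroupConjRight g X ↔ g * y * g⁻¹ ∈ X := by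
  unfold subgroupConjRight
  constructor
  · rintro ⟨x, hx, rfl⟩
    simp only [MulEquiv.coe_toMonoidHom, MulAut.conj_apply, inv_inv]
    have : g * (g⁻¹ * x * g) * g⁻¹ = x := by group
    rw [this]; exact hx
  · intro h
    refine ⟨g * y * g⁻¹, h, ?_⟩
    simp only [MulEquiv.coe_toMonoidHom, MulAut.conj_apply, inv_inv]
    group

theorem conjR_one (X : Subgroup G) : subgroupConjRight 1 X = X := by
  ext y; rw [mem_conjR]; simp

theorem conjR_mul (g h : G) (X : Subgroup G) :
    subgroupConjRight (g * h) X = subgroupConjRight h (subgroupConjRight g X) := by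
  ext y
  rw [mem_conjR, mem_conjR, mem_conjR]
  have : g * h * y * (g * h)⁻¹ = g * (h * y * h⁻¹) * g⁻¹ := by group
  rw [this]

theorem conjR_inv_conjR (g : G) (X : Subgroup G) :
    subgroupConjRight g⁻¹ (subgroupConjRight g X) = X := by
  rw [← conjR_mul, mul_inv_cancel, conjR_one]

theorem conjR_conjR_inv (g : G) (X : Subgroup G) :
    subgroupConjRight g (subgroupConjRight g⁻¹ X) = X := by
  rw [← conjR_mul, inv_mul_cancel, conjR_one]

theorem conjR_mono (g : G) {X Y : Subgroup G} (h : X ≤ Y) :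
    subgroupConjRight g X ≤ subgroupConjRight g Y := by
  intro y hy
  rw [mem_conjR] at hy ⊢
  exact h hy

theorem conjR_inf (g : G) (X Y : Subgroup G) :
    subgroupConjRight g (X ⊓ Y) = subgroupConjRight g X ⊓ subgroupConjRight g Y := by
  ext y
  simp only [mem_conjR, Subgroup.mem_inf]

theorem card_conjR (g : G) (X : Subgroup G) :
    Nat.card ↥(subgroupConjRight g X) = Nat.card ↥X := by
  unfold subgroupConjRight
  exact Subgroup.card_map_of_injective (MulAut.conj g⁻¹).injective

theorem conjR_eq_self_of_mem {g : G} {X : Subgroup G} (hg : g ∈ X) :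
    subgroupConjRight g X = X := by
  ext y
  rw [mem_conjR]
  constructor
  · intro h
    have : y = g⁻¹ * (g * y * g⁻¹) * g := by group
    rw [this]
    exact mul_mem (mul_mem (inv_mem hg) h) hg
  · intro h
    exact mul_mem (mul_mem hg h) (inv_mem hg)

theorem conjR_eq_self_iff {g : G} {X : Subgroup G} :
    subgroupConjRight g X = X ↔ g ∈ Subgroup.normalizer (X : Set G) := by
  rw [Subgroup.mem_normalizer_iff]
  constructor
  · intro h y
    rw [← mem_conjR, h]
  · intro h
    ext y
    rw [mem_conjR]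
    exact (h y).symm

theorem isPGroup_conjR {p : ℕ} (g : G) {X : Subgroup G} (h : IsPGroup p ↥X) :
    IsPGroup p ↥(subgroupConjRight g X) := by
  unfold subgroupConjRight
  exact h.map _

theorem mem_conjRight_set {g : G} {A : Set G} {y : G} : y ∈ conjRight g A ↔ g * y * g⁻¹ ∈ A := by
  unfold conjRight
  constructor
  · rintro ⟨a, ha, rfl⟩
    have : g * (g⁻¹ * a * g) * g⁻¹ = a := by group
    show g * (g⁻¹ * a * g) * g⁻¹ ∈ A
    rw [this]; exact ha
  · intro h
    exact ⟨g * y * g⁻¹, h, by group⟩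

/-- The right conjugate of a Sylow subgroup. -/
def sylowConjR {p : ℕ} (g : G) (S : Sylow p G) : Sylow p G := g⁻¹ • S

theorem coe_sylowConjR {p : ℕ} (g : G) (S : Sylow p G) :
    ((sylowConjR g S : Sylow p G) : Subgroup G) = subgroupConjRight g (S : Subgroup G) := by
  unfold sylowConjR subgroupConjRight
  rw [Sylow.coe_subgroup_smul, Subgroup.pointwise_smul_def]
  rfl

theorem sylowConjR_mul {p : ℕ} (g h : G) (S : Sylow p G) :
    sylowConjR (g * h) S = sylowConjR h (sylowConjR g S) := by
  apply Sylow.ext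
  rw [coe_sylowConjR, coe_sylowConjR, coe_sylowConjR, conjR_mul]

theorem sylowConjR_one {p : ℕ} (S : Sylow p G) : sylowConjR 1 S = S := by
  apply Sylow.ext
  rw [coe_sylowConjR, conjR_one]

/-- Any two Sylow subgroups are right conjugates. -/
theorem exists_sylowConjR_eq {p : ℕ} [Fact p.Prime] [Finite G] (S T : Sylow p G) :
    ∃ g : G, sylowConjR g S = T := by
  obtain ⟨g, hg⟩ := MulAction.exists_smul_eq G S T
  exact ⟨g⁻¹, by unfold sylowConjR; rw [inv_inv]; exact hg⟩

/-- Cardinality characterisation of the members of `𝓕(Q)` for a `p`-subgroup `Q`. -/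
theorem mem_sylowMembers_iff {p : ℕ} [Fact p.Prime] [Finite G] {𝓕 : Set (Subgroup G)}
    {Q X : Subgroup G} :
    X ∈ sylowMembers p 𝓕 Q ↔
      X ∈ 𝓕 ∧ Nat.card ↥(Q ⊓ X) = p ^ (Nat.card ↥X).factorization p := by
  unfold sylowMembers
  constructor
  · rintro ⟨hX, P, hP⟩
    refine ⟨hX, ?_⟩
    rw [← hP, Subgroup.card_map_of_injective X.subtype_injective]
    exact P.card_eq_multiplicity
  · rintro ⟨hX, hcard⟩
    refine ⟨hX, ?_⟩
    have h1 : Nat.card ↥((Q ⊓ X).subgroupOf X) = p ^ (Nat.card ↥X).factorization p := by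
      rw [← hcard]
      exact Nat.card_congr (Subgroup.subgroupOfEquivOfLe (inf_le_right : Q ⊓ X ≤ X)).toEquiv
    refine ⟨Sylow.ofCard _ h1, ?_⟩
    rw [Sylow.coe_ofCard, Subgroup.map_subgroupOf_eq_of_le inf_le_right]

/-- `𝓕(Q)` is carried to `𝓕(Q^g)` by right conjugation when `𝓕` is a normal family. -/
theorem sylowMembers_conjR {p : ℕ} [Fact p.Prime] [Finite G] {𝓕 : Set (Subgroup G)}
    (h𝓕 : IsNormalSet 𝓕) {Q X : Subgroup G} (g : G)
    (hX : X ∈ sylowMembers p 𝓕 Q) :
    subgroupConjRight g X ∈ sylowMembers p 𝓕 (subgroupConjRight g Q) := by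
  rw [mem_sylowMembers_iff] at hX
  rw [mem_sylowMembers_iff]
  refine ⟨h𝓕 X hX.1 g, ?_⟩
  rw [← conjR_inf, card_conjR, card_conjR]
  exact hX.2

end Cfsg.Agent.Lib.Helper49_SylowControl
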