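import Mathlib
import Cfsg.Agent.Lib.Helper35_BG11c
import Cfsg.Agent.Lib.Helper49_BG115

/-!
# The `p`-group conjugacy lemma `TLemma` of `Helper35_BG11c` (helper49)

In a `p`-group `PG` with a central element `z` of order `p` and a non-central element `b` of order `p` such that
`⟨b, z⟩` contains every element of order dividing `p` commuting with `b`, every element of the coset `b⟨z⟩` is
conjugate to `b` under `PG`.  Derived from `Helper49_BG115.exists_transvection` inside the finite group `↥PG`.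
-/

set_option autoImplicit false

namespace Cfsg.Agent.Lib.Helper49_TLemma

open Subgroup Cfsg.Agent.Lib.Helper49_BG115 Cfsg.Agent.Lib.Helper49_Alpha2 Cfsg.Agent.Lib.Helper49_Alpha3

theorem tLemma {G : Type*} [Group G] : Cfsg.Agent.Lib.Helper35_BG11c.TLemma G := by
  intro p _ PG _ hPG z b hzP hzc hzp hz1 hbP hbp hbz hmax hnc i
  obtain ⟨y₀, hy₀P, hy₀b⟩ := hnc
  have hpp : p.Prime := Fact.out
  -- work inside the finite group `↥PG`
  set z' : ↥PG := ⟨z, hzP⟩ with hz'
  set b' : ↥PG := ⟨b, hbP⟩ with hb'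
  have hz'p : z' ^ p = 1 := Subtype.ext (by simpa using hzp)
  have hb'p : b' ^ p = 1 := Subtype.ext (by simpa using hbp)
  have hz'1 : z' ≠ 1 := fun h => hz1 (congrArg Subtype.val h)
  have hz'c : ∀ y : ↥PG, y * z' = z' * y := fun y => Subtype.ext (hzc y.1 y.2)
  have hb'z' : b' ∉ zpowers z' := by
    intro hmem
    apply hbz
    obtain ⟨k, hk⟩ := mem_zpowers_iff.mp hmem
    refine mem_zpowers_iff.mpr ⟨k, ?_⟩
    have := congrArg Subtype.val hk
    simpa using this
  have hb'1 : b' ≠ 1 := by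
    intro h
    apply hb'z'
    rw [h]
    exact one_mem _
  have hordz : orderOf z' = p := orderOf_eq_prime hz'p hz'1
  have hordb : orderOf b' = p := orderOf_eq_prime hb'p hb'1
  set Z : Subgroup ↥PG := zpowers z' with hZ
  set A : Subgroup ↥PG := zpowers b' ⊔ zpowers z' with hA
  have hZcard : Nat.card Z = p := by rw [hZ, Nat.card_zpowers, hordz]
  have hBcard : Nat.card (zpowers b') = p := by rw [Nat.card_zpowers, hordb]
  have hZA : Z ≤ A := le_sup_right
  have hbA : b' ∈ A := mem_sup_left (mem_zpowers b')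
  have hcomm : ∀ a ∈ zpowers b', ∀ c ∈ zpowers z', a * c = c * a := by
    intro a _ c hc
    obtain ⟨k, rfl⟩ := mem_zpowers_iff.mp hc
    exact ((show Commute a z' from hz'c a).zpow_right k).eq
  obtain ⟨hAc, hAe⟩ := elemAb_sup (p := p) (elemAb_zpowers hb'p).1 (elemAb_zpowers hb'p).2
    (elemAb_zpowers hz'p).1 (elemAb_zpowers hz'p).2 hcomm
  have hdisj : zpowers b' ⊓ zpowers z' = ⊥ := by
    rw [eq_bot_iff]
    intro x hx
    rw [Subgroup.mem_bot]
    by_contra hx1
    apply hb'z'
    have h1 : zpowers x = zpowers b' := zpowers_eq_of_card_prime hBcard hx.1 hx1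
    have h2 : zpowers x = zpowers z' := zpowers_eq_of_card_prime hZcard hx.2 hx1
    rw [hZ, ← h2, h1]
    exact mem_zpowers b'
  have hAcard : Nat.card A = p ^ 2 := by
    have hn : zpowers z' ≤ normalizer ((zpowers b' : Subgroup ↥PG) : Set ↥PG) := by
      refine le_trans ?_ (centralizer_le_normalizer _)
      intro c hc
      rw [mem_centralizer_iff]
      intro a ha
      exact hcomm a ha c hc
    have := Cfsg.Agent.Lib.Helper24_CoprimeHall.card_sup_of_disjoint' (zpowers z') (zpowers b') hn hdisj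
    rw [hA, this, hBcard, hZcard, sq]
  have hP : IsPGroup p ↥(⊤ : Subgroup ↥PG) := hPG.to_subgroup ⊤
  have hZc : ∀ c ∈ Z, ∀ y ∈ (⊤ : Subgroup ↥PG), y * c = c * y := by
    intro c hc y _
    obtain ⟨k, rfl⟩ := mem_zpowers_iff.mp hc
    exact ((show Commute y z' from hz'c y).zpow_right k).eq
  have hmapA : A.map PG.subtype = zpowers b ⊔ zpowers z := by
    rw [hA, Subgroup.map_sup, MonoidHom.map_zpowers, MonoidHom.map_zpowers]
    rfl
  have hAmax : ∀ x ∈ (⊤ : Subgroup ↥PG), (∀ a ∈ A, x * a = a * x) → x ^ p = 1 → x ∈ A := by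
    intro x _ hxa hxp
    have h1 : x.1 * b = b * x.1 := by simpa using congrArg Subtype.val (hxa b' hbA)
    have h2 : x.1 ^ p = 1 := by simpa using congrArg Subtype.val hxp
    have h3 := hmax x.1 x.2 h1 h2
    rw [← hmapA] at h3
    obtain ⟨a, ha, hax⟩ := h3
    have : a = x := Subtype.ext hax
    rwa [← this]
  have hnc' : ¬ ∀ a ∈ A, ∀ y ∈ (⊤ : Subgroup ↥PG), y * a = a * y := by
    intro hall
    apply hy₀b
    have := hall b' hbA ⟨y₀, hy₀P⟩ (mem_top _)
    simpa using congrArg Subtype.val this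
  obtain ⟨y, -, c, hcZ, hc1, hconj⟩ :=
    exists_transvection hP le_top hAc hAe hAcard hZA hZcard hZc hAmax hnc' hbA hb'z'
  have hZc' : zpowers c = Z := zpowers_eq_of_card_prime hZcard hcZ hc1
  have hcp : c ^ p = 1 := hAe c (hZA hcZ)
  have hzi : z' ^ i ∈ zpowers c := by rw [hZc']; exact Z.pow_mem (mem_zpowers z') i
  obtain ⟨k, hk⟩ := exists_pow_eq_of_mem_zpowers hcp hzi
  refine ⟨((y ^ k : ↥PG) : G), (y ^ k).2, ?_⟩
  have h1 := hconj k
  rw [hk] at h1
  have h2 := congrArg Subtype.val h1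
  simpa using h2.symm

end Cfsg.Agent.Lib.Helper49_TLemma
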