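import Mathlib
import Cfsg.Prelude.Def_SporadicB
import Cfsg.Prelude.Def_Solvable
import Cfsg.Prelude.Def_Local
import Cfsg.Prelude.Def_Transfer
import Cfsg.Prelude.Def_Classical

/-!
# S5559, package TT-STEP01 (helper49 for helper92's market)

The quotient `K = H / O_2(H)` of a group `H` generated by a class `E` of 3-transpositions (at least two members)
with a normal Sylow 3-subgroup of 2-power index is `P<t>`: the Sylow 3-subgroup `P` has index two, is nontrivial,
`t` (the image of `d ∈ E`) is an involution outside `P` whose conjugates generate `K` and satisfy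
`(t * t^g)^3 = 1`.
-/

set_option autoImplicit false

namespace Cfsg.Agent.Lib.Helper49_TT_STEP01

/-- A group generated by the conjugates of an element `s` with `s * s = 1` such that all products
`s * (g s g⁻¹)` square to one: `s` is central and the group is `{1, s}`. -/
theorem central_of_sq {Q : Type*} [Group Q] (s : Q) (hs : s * s = 1)
    (hgen : Subgroup.closure {x : Q | ∃ g : Q, x = g * s * g⁻¹} = ⊤)
    (hsq : ∀ g : Q, (s * (g * s * g⁻¹)) ^ 2 = 1) :
    (∀ g : Q, g * s * g⁻¹ = s) ∧ ∀ x : Q, x = 1 ∨ x = s := by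
  have hcomm : ∀ g : Q, s * (g * s * g⁻¹) = (g * s * g⁻¹) * s := by
    intro g
    set c := g * s * g⁻¹ with hc
    have hcc : c * c = 1 := by
      rw [hc]
      calc g * s * g⁻¹ * (g * s * g⁻¹) = g * (s * s) * g⁻¹ := by group
        _ = 1 := by rw [hs]; group
    have h1 : s * c * (s * c) = 1 := by rw [← pow_two]; exact hsq g
    have hsinv : s⁻¹ = s := inv_eq_of_mul_eq_one_right hs
    have hcinv : c⁻¹ = c := inv_eq_of_mul_eq_one_right hcc
    have h2 : s * c = (s * c)⁻¹ := (inv_eq_of_mul_eq_one_right h1).symm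
    rw [h2, mul_inv_rev, hsinv, hcinv]
  have hcen : ∀ x : Q, x * s = s * x := by
    intro x
    have hx : x ∈ Subgroup.closure {x : Q | ∃ g : Q, x = g * s * g⁻¹} := by rw [hgen]; trivial
    have hle : Subgroup.closure {x : Q | ∃ g : Q, x = g * s * g⁻¹} ≤ Subgroup.centralizer {s} := by
      rw [Subgroup.closure_le]
      rintro y ⟨g, rfl⟩
      rw [SetLike.mem_coe, Subgroup.mem_centralizer_iff]
      intro z hz
      rw [Set.mem_singleton_iff] at hz
      subst hz
      exact hcomm g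
    have := hle hx
    rw [Subgroup.mem_centralizer_iff] at this
    exact (this s rfl).symm
  have hconj : ∀ g : Q, g * s * g⁻¹ = s := by
    intro g
    rw [hcen g, mul_assoc, mul_inv_cancel, mul_one]
  refine ⟨hconj, ?_⟩
  have hset : {x : Q | ∃ g : Q, x = g * s * g⁻¹} = {s} := by
    ext y
    constructor
    · rintro ⟨g, rfl⟩; exact hconj g
    · intro hy; rw [Set.mem_singleton_iff] at hy; exact ⟨1, by rw [hy]; group⟩
  rw [hset] at hgen
  intro x
  have hx : x ∈ Subgroup.closure {s} := by rw [hgen]; trivial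
  rw [Subgroup.mem_closure_singleton] at hx
  obtain ⟨n, rfl⟩ := hx
  have h2 : s ^ (2 : ℤ) = 1 := by
    rw [zpow_ofNat, pow_two, hs]
  rcases Int.emod_two_eq_zero_or_one n with h | h
  · left
    have : n = 2 * (n / 2) := by omega
    rw [this, zpow_mul, h2, one_zpow]
  · right
    have : n = 2 * (n / 2) + 1 := by omega
    rw [this, zpow_add, zpow_mul, h2, one_zpow, one_mul, zpow_one]

/-- In a `2`-group an element with `x ^ 2 = 1 ∨ x ^ 3 = 1` squares to one. -/
theorem sq_of_two_group {Q : Type*} [Group Q] (hQ : IsPGroup 2 Q) (x : Q)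
    (h : x ^ 2 = 1 ∨ x ^ 3 = 1) : x ^ 2 = 1 := by
  rcases h with h | h
  · exact h
  · obtain ⟨k, hk⟩ := hQ x
    have h1 : orderOf x ∣ 3 := orderOf_dvd_of_pow_eq_one h
    have h2 : orderOf x ∣ 2 ^ k := orderOf_dvd_of_pow_eq_one hk
    have h3 : orderOf x ∣ Nat.gcd 3 (2 ^ k) := Nat.dvd_gcd h1 h2
    have h4 : Nat.gcd 3 (2 ^ k) = 1 := by
      apply Nat.Coprime.pow_right
      decide
    rw [h4, Nat.dvd_one, orderOf_eq_one_iff] at h3
    rw [h3, one_pow]

/-- In a `3`-group an element with `x ^ 2 = 1` is trivial. -/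
theorem one_of_three_group {Q : Type*} [Group Q] (P : Subgroup Q) (hP : IsPGroup 3 P) (x : Q)
    (hx : x ∈ P) (h : x ^ 2 = 1) : x = 1 := by
  obtain ⟨k, hk⟩ := hP ⟨x, hx⟩
  have hk' : x ^ 3 ^ k = 1 := by
    have := congrArg Subtype.val hk
    simpa using this
  have h1 : orderOf x ∣ 2 := orderOf_dvd_of_pow_eq_one h
  have h2 : orderOf x ∣ 3 ^ k := orderOf_dvd_of_pow_eq_one hk'
  have h3 : orderOf x ∣ Nat.gcd 2 (3 ^ k) := Nat.dvd_gcd h1 h2
  have h4 : Nat.gcd 2 (3 ^ k) = 1 := by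
    apply Nat.Coprime.pow_right
    decide
  rw [h4, Nat.dvd_one, orderOf_eq_one_iff] at h3
  exact h3

/-- (0a) a `2`-group is not generated by a class of 3-transpositions with two members. -/
theorem not_two_group {H : Type*} [Group H] {E : Set H}
    (hE : Cfsg.IsThreeTranspositionClass E) (hE2 : ∃ a ∈ E, ∃ b ∈ E, a ≠ b)
    (h2 : IsPGroup 2 H) : False := by
  obtain ⟨⟨hord, hprod⟩, ⟨d, hd, hcl⟩, hgen⟩ := hE
  have hdd : d * d = 1 := by
    have := hord d hd
    rw [← pow_two, ← this]; exact pow_orderOf_eq_one d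
  have hmem : ∀ g : H, g * d * g⁻¹ ∈ E := by
    intro g
    rw [hcl]
    exact isConj_iff.mpr ⟨g, rfl⟩
  have hsub : E = {x : H | ∃ g : H, x = g * d * g⁻¹} := by
    ext y
    constructor
    · intro hy
      rw [hcl] at hy
      obtain ⟨c, hc⟩ := isConj_iff.mp hy
      exact ⟨c, hc.symm⟩
    · rintro ⟨g, rfl⟩; exact hmem g
  have hgen' : Subgroup.closure {x : H | ∃ g : H, x = g * d * g⁻¹} = ⊤ := by rw [← hsub]; exact hgen
  have hsq : ∀ g : H, (d * (g * d * g⁻¹)) ^ 2 = 1 := fun g =>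
    sq_of_two_group h2 _ (hprod d hd _ (hmem g))
  obtain ⟨hconj, -⟩ := central_of_sq d hdd hgen' hsq
  obtain ⟨a, ha, b, hb, hab⟩ := hE2
  apply hab
  rw [hsub] at ha hb
  obtain ⟨g, rfl⟩ := ha
  obtain ⟨g', rfl⟩ := hb
  rw [hconj, hconj]

theorem step01 {H : Type*} [Group H] [Finite H] {E : Set H}
    (hE : Cfsg.IsThreeTranspositionClass E) (hE2 : ∃ a ∈ E, ∃ b ∈ E, a ≠ b)
    (h232 : ∃ P : Sylow 3 (H ⧸ Cfsg.pCore 2 H), (P : Subgroup (H ⧸ Cfsg.pCore 2 H)).Normal ∧
      ∃ k : ℕ, (P : Subgroup (H ⧸ Cfsg.pCore 2 H)).index = 2 ^ k)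
    {d : H} (hd : d ∈ E) :
    ∃ P : Subgroup (H ⧸ Cfsg.pCore 2 H), P.Normal ∧ IsPGroup 3 P ∧ P.index = 2 ∧ P ≠ ⊥ ∧
      (QuotientGroup.mk d : H ⧸ Cfsg.pCore 2 H) ∉ P ∧
      (QuotientGroup.mk d : H ⧸ Cfsg.pCore 2 H) * QuotientGroup.mk d = 1 ∧
      (∀ g : H ⧸ Cfsg.pCore 2 H,
        ((QuotientGroup.mk d : H ⧸ Cfsg.pCore 2 H) * (g * QuotientGroup.mk d * g⁻¹)) ^ 3 = 1) ∧
      Subgroup.closure {x : H ⧸ Cfsg.pCore 2 H | ∃ g : H ⧸ Cfsg.pCore 2 H,
        x = g * QuotientGroup.mk d * g⁻¹} = ⊤ := by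
  classical
  obtain ⟨P, hPn, k, hk⟩ := h232
  have hE' := hE
  obtain ⟨⟨hord, hprod⟩, ⟨d₀, hd₀, hcl₀⟩, hgen⟩ := hE
  -- `E` is the class of `d`
  have hcl : E = conjugatesOf d := by
    rw [hcl₀]
    rw [hcl₀] at hd
    exact IsConj.conjugatesOf_eq hd
  have hmem : ∀ g : H, g * d * g⁻¹ ∈ E := by
    intro g
    rw [hcl]
    exact isConj_iff.mpr ⟨g, rfl⟩
  have hsub : E = {x : H | ∃ g : H, x = g * d * g⁻¹} := by
    ext y
    constructor
    · intro hy
      rw [hcl] at hy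
      obtain ⟨c, hc⟩ := isConj_iff.mp hy
      exact ⟨c, hc.symm⟩
    · rintro ⟨g, rfl⟩; exact hmem g
  have hdd : d * d = 1 := by
    have := hord d hd
    rw [← pow_two, ← this]; exact pow_orderOf_eq_one d
  set V : Subgroup H := Cfsg.pCore 2 H with hV
  set t : H ⧸ V := QuotientGroup.mk d with ht
  have htt : t * t = 1 := by
    rw [ht, ← QuotientGroup.mk_mul, hdd, QuotientGroup.mk_one]
  -- products of conjugates
  have hprodK : ∀ g : H ⧸ V, (t * (g * t * g⁻¹)) ^ 2 = 1 ∨ (t * (g * t * g⁻¹)) ^ 3 = 1 := by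
    intro g
    obtain ⟨h, rfl⟩ := QuotientGroup.mk_surjective g
    have := hprod d hd _ (hmem h)
    have e : t * ((QuotientGroup.mk h : H ⧸ V) * t * (QuotientGroup.mk h : H ⧸ V)⁻¹) =
        QuotientGroup.mk (d * (h * d * h⁻¹)) := by
      rw [ht]; simp
    rw [e, ← QuotientGroup.mk_pow, ← QuotientGroup.mk_pow]
    rcases this with h1 | h1
    · left; rw [h1, QuotientGroup.mk_one]
    · right; rw [h1, QuotientGroup.mk_one]
  -- generation
  have hgenK : Subgroup.closure {x : H ⧸ V | ∃ g : H ⧸ V, x = g * t * g⁻¹} = ⊤ := by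
    have h1 : Subgroup.map (QuotientGroup.mk' V) (Subgroup.closure E) = ⊤ := by
      rw [hgen, ← MonoidHom.range_eq_map, MonoidHom.range_eq_top]
      exact QuotientGroup.mk'_surjective V
    rw [MonoidHom.map_closure] at h1
    rw [eq_top_iff, ← h1]
    apply Subgroup.closure_mono
    rintro _ ⟨e, he, rfl⟩
    rw [hsub] at he
    obtain ⟨g, rfl⟩ := he
    exact ⟨QuotientGroup.mk g, by simp [ht]⟩
  -- the quotient by `P`
  have : (P : Subgroup (H ⧸ V)).Normal := hPn
  set Q := (H ⧸ V) ⧸ (P : Subgroup (H ⧸ V)) with hQ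
  have hQ2 : IsPGroup 2 Q := by
    apply IsPGroup.of_card (n := k)
    rw [← hk]
    rfl
  set s : Q := QuotientGroup.mk t with hs
  have hss : s * s = 1 := by
    rw [hs, ← QuotientGroup.mk_mul, htt, QuotientGroup.mk_one]
  have hsqQ : ∀ g : Q, (s * (g * s * g⁻¹)) ^ 2 = 1 := by
    intro g
    obtain ⟨g', rfl⟩ := QuotientGroup.mk_surjective g
    apply sq_of_two_group hQ2
    have e : s * ((QuotientGroup.mk g' : Q) * s * (QuotientGroup.mk g' : Q)⁻¹) =
        QuotientGroup.mk (t * (g' * t * g'⁻¹)) := by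
      rw [hs]; simp
    rw [e, ← QuotientGroup.mk_pow, ← QuotientGroup.mk_pow]
    rcases hprodK g' with h1 | h1
    · left; rw [h1, QuotientGroup.mk_one]
    · right; rw [h1, QuotientGroup.mk_one]
  have hgenQ : Subgroup.closure {x : Q | ∃ g : Q, x = g * s * g⁻¹} = ⊤ := by
    have h1 : Subgroup.map (QuotientGroup.mk' (P : Subgroup (H ⧸ V)))
        (Subgroup.closure {x : H ⧸ V | ∃ g : H ⧸ V, x = g * t * g⁻¹}) = ⊤ := by
      rw [hgenK, ← MonoidHom.range_eq_map, MonoidHom.range_eq_top]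
      exact QuotientGroup.mk'_surjective _
    rw [MonoidHom.map_closure] at h1
    rw [eq_top_iff, ← h1]
    apply Subgroup.closure_mono
    rintro _ ⟨e, ⟨g, rfl⟩, rfl⟩
    exact ⟨QuotientGroup.mk g, by simp [hs]⟩
  obtain ⟨hconjQ, hallQ⟩ := central_of_sq s hss hgenQ hsqQ
  -- `H` is not a `2`-group
  have hnot2 : ¬ IsPGroup 2 H := fun h2 => not_two_group hE' hE2 h2
  have hV2 : IsPGroup 2 V := by
    rw [hV]
    unfold Cfsg.pCore
    exact Sylow.sSup_of_normal _ (fun _ hH => hH.2) (fun _ hH => hH.1)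
  -- if `K` is a `2`-group then so is `H`
  have hK2 : ¬ IsPGroup 2 (H ⧸ V) := by
    intro hK
    apply hnot2
    have htop : IsPGroup 2 (⊤ : Subgroup (H ⧸ V)) := by
      intro x
      obtain ⟨n, hn⟩ := hK x.1
      exact ⟨n, Subtype.ext hn⟩
    have h1 : IsPGroup 2 ((⊤ : Subgroup (H ⧸ V)).comap (QuotientGroup.mk' V)) := by
      apply IsPGroup.comap_of_ker_isPGroup htop (QuotientGroup.mk' V)
      rw [QuotientGroup.ker_mk']; exact hV2
    rw [Subgroup.comap_top] at h1
    intro x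
    obtain ⟨n, hn⟩ := h1 ⟨x, trivial⟩
    exact ⟨n, congrArg Subtype.val hn⟩
  -- `t ∉ P`
  have htP : t ∉ (P : Subgroup (H ⧸ V)) := by
    intro htP
    have hs1 : s = 1 := by
      rw [hs, QuotientGroup.eq_one_iff]; exact htP
    -- then `Q` is trivial, `P = ⊤`, `K` is a `3`-group, `t = 1`
    have hPtop : (P : Subgroup (H ⧸ V)) = ⊤ := by
      rw [eq_top_iff]
      intro x _
      have := hallQ (QuotientGroup.mk x)
      rw [hs1, or_self, QuotientGroup.eq_one_iff] at this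
      exact this
    have ht1 : t = 1 := by
      apply one_of_three_group (P : Subgroup (H ⧸ V)) P.isPGroup' t htP
      rw [pow_two, htt]
    -- all conjugates of `t` are trivial, so `K` is trivial
    have hKbot : (⊤ : Subgroup (H ⧸ V)) = ⊥ := by
      rw [← hgenK, Subgroup.closure_eq_bot_iff]
      rintro y ⟨g, rfl⟩
      rw [Set.mem_singleton_iff, ht1]; group
    apply hK2
    intro x
    refine ⟨0, ?_⟩
    have : x ∈ (⊤ : Subgroup (H ⧸ V)) := trivial
    rw [hKbot, Subgroup.mem_bot] at this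
    rw [this, one_pow]
  -- index two
  have hs1 : s ≠ 1 := by
    intro h
    apply htP
    rw [hs, QuotientGroup.eq_one_iff] at h
    exact h
  have hidx : (P : Subgroup (H ⧸ V)).index = 2 := by
    rw [Subgroup.index, ← hQ]
    rw [Nat.card_eq_two_iff]
    refine ⟨1, s, hs1.symm, ?_⟩
    ext x
    simp only [Set.mem_insert_iff, Set.mem_singleton_iff, Set.mem_univ, iff_true]
    exact hallQ x
  -- `P ≠ ⊥`
  have hPne : (P : Subgroup (H ⧸ V)) ≠ ⊥ := by
    intro hbot
    apply hK2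
    apply IsPGroup.of_card (n := 1)
    rw [pow_one, ← hidx, hbot, Subgroup.index_bot]
  -- the cube condition
  have hcube : ∀ g : H ⧸ V, (t * (g * t * g⁻¹)) ^ 3 = 1 := by
    intro g
    rcases hprodK g with h1 | h1
    · have hx : t * (g * t * g⁻¹) ∈ (P : Subgroup (H ⧸ V)) := by
        rw [← QuotientGroup.eq_one_iff]
        have e : ((t * (g * t * g⁻¹) : H ⧸ V) : Q) =
            s * ((QuotientGroup.mk g : Q) * s * (QuotientGroup.mk g : Q)⁻¹) := by
          rw [hs]; simp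
        rw [e, hconjQ, hss]
      rw [one_of_three_group (P : Subgroup (H ⧸ V)) P.isPGroup' _ hx h1, one_pow]
    · exact h1
  exact ⟨(P : Subgroup (H ⧸ V)), hPn, P.isPGroup', hidx, hPne, htP, htt, hcube, hgenK⟩

end Cfsg.Agent.Lib.Helper49_TT_STEP01
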