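import Mathlib
import Cfsg.Prelude.Def_Local
import Cfsg.Agent.S0542
import Cfsg.Agent.Lib.Helper23_CharP
import Cfsg.Agent.Lib.Helper49_CharP
import Cfsg.Agent.Lib.Helper24_CoprimeAction
import Cfsg.Agent.Lib.Helper22_QConstraint
import Cfsg.Agent.Lib.Helper22_Cores
import Cfsg.Agent.Lib.Helper23_Layer
import Cfsg.Agent.Lib.Helper49_FStarComm5

/-!
Invariant `p'`-subgroups of `p`-constrained groups (helper49).

* `core_quadratic`: `R` a `p`-group, `Q` a `p'`-group, `A` an abelian `p`-group containing `C_R(A)`,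
  acting quadratically on `R`, with `A` normalizing `Q`, `R` and `Q` normalizing `R`: then `Q`
  centralizes `R`.
* `le_pPrimeCore_of_core`: reduction of "every `A`-invariant `p'`-subgroup of a `p`-constrained group `X`
  lies in `O_{p'}(X)`" to such a core statement about an `A`-invariant Sylow `p`-subgroup of `O_{p',p}(X)`.
-/

set_option autoImplicit false

namespace Cfsg.Agent.Lib.Helper49_Transitivity

open Subgroup Cfsg
open scoped commutatorElement

theorem core_quadratic {G : Type*} [Group G] [Finite G] {p : ℕ} [Fact p.Prime] (R Q A : Subgroup G)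
    (hR : IsPGroup p R) (hQ : (Nat.card Q).Coprime p) (hA : IsPGroup p A)
    (hAc : ∀ a ∈ A, ∀ b ∈ A, a * b = b * a)
    (hQR : Q ≤ normalizer (R : Set G)) (hAR : A ≤ normalizer (R : Set G))
    (hAQ : A ≤ normalizer (Q : Set G))
    (hfull : ∀ x ∈ R, (∀ a ∈ A, x * a = a * x) → x ∈ A)
    (hquad : ∀ r ∈ R, ∀ a ∈ A, ∀ a' ∈ A, ⁅⁅r, a⁆, a'⁆ = 1) :
    ∀ x ∈ Q, ∀ r ∈ R, x * r = r * x := by
  have hp : p.Prime := Fact.out
  have hnR : ∀ g ∈ normalizer (R : Set G), ∀ r ∈ R, g * r * g⁻¹ ∈ R := fun g hg r hr =>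
    (mem_normalizer_iff.mp hg r).mp hr
  have hnR' : ∀ g ∈ normalizer (R : Set G), ∀ r ∈ R, g⁻¹ * r * g ∈ R := fun g hg r hr =>
    (mem_normalizer_iff''.mp hg r).mp hr
  -- Step 1
  have h1 : ∀ r ∈ R, ∀ a ∈ A, ⁅r, a⁆ ∈ A ⊓ R := by
    intro r hr a ha
    have hcR : ⁅r, a⁆ ∈ R := by
      rw [commutatorElement_def]
      have := hnR a (hAR ha) r⁻¹ (R.inv_mem hr)
      have e : r * a * r⁻¹ * a⁻¹ = r * (a * r⁻¹ * a⁻¹) := by group
      rw [e]; exact R.mul_mem hr this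
    refine mem_inf.mpr ⟨hfull _ hcR ?_, hcR⟩
    intro a' ha'
    have := hquad r hr a ha a' ha'
    rw [commutatorElement_eq_one_iff_commute] at this
    exact this.eq
  -- Step 2
  have hdisj : ∀ z, z ∈ Q → z ∈ R → z = 1 := by
    intro z hzQ hzR
    have hcop : (Nat.card Q).Coprime (Nat.card R) := by
      obtain ⟨n, hn⟩ := IsPGroup.iff_card.mp hR
      rw [hn]; exact Nat.Coprime.pow_right n hQ
    have hd := Subgroup.disjoint_of_coprime_natCard hcop
    have hz : z ∈ Q ⊓ R := mem_inf.mpr ⟨hzQ, hzR⟩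
    rw [hd.eq_bot] at hz
    exact mem_bot.mp hz
  have h2 : ∀ x ∈ Q, ∀ c ∈ A ⊓ R, x * c = c * x := by
    intro x hx c hc
    obtain ⟨hcA, hcR⟩ := mem_inf.mp hc
    have hz : ⁅x, c⁆ = 1 := by
      apply hdisj
      · rw [commutatorElement_def]
        have := (mem_normalizer_iff.mp (hAQ hcA) x⁻¹).mp (Q.inv_mem hx)
        have e : x * c * x⁻¹ * c⁻¹ = x * (c * x⁻¹ * c⁻¹) := by group
        rw [e]; exact Q.mul_mem hx this
      · rw [commutatorElement_def]
        exact R.mul_mem (hnR x (hQR hx) c hcR) (R.inv_mem hcR)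
    exact (commutatorElement_eq_one_iff_commute.mp hz).eq
  -- order facts
  have hordQ : ∀ y ∈ Q, (orderOf y).Coprime p := fun y hy =>
    Nat.Coprime.coprime_dvd_left (Subgroup.orderOf_dvd_natCard Q hy) hQ
  have hordR : ∀ c ∈ R, ∃ k, orderOf c = p ^ k := by
    intro c hc
    obtain ⟨k, hk⟩ := hR ⟨c, hc⟩
    have hk' : c ^ (p ^ k) = 1 := by
      have := congrArg Subtype.val hk
      simpa using this
    obtain ⟨j, -, hj⟩ := (Nat.dvd_prime_pow hp).mp (orderOf_dvd_of_pow_eq_one hk')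
    exact ⟨j, hj⟩
  -- Step 3
  have h3 : ∀ x ∈ Q, ∀ a ∈ A, ∀ r ∈ R, ⁅x, a⁆ * r = r * ⁅x, a⁆ := by
    intro x hx a ha r hr
    set s := x⁻¹ * r * x with hs
    have hsR : s ∈ R := hnR' x (hQR hx) r hr
    set c₁ := ⁅r⁻¹, a⁻¹⁆ with hc₁
    set c₂ := ⁅s⁻¹, a⁆ with hc₂
    have hc₁m : c₁ ∈ A ⊓ R := h1 _ (R.inv_mem hr) _ (A.inv_mem ha)
    have hc₂m : c₂ ∈ A ⊓ R := h1 _ (R.inv_mem hsR) _ ha
    have hx1 : x * c₁ = c₁ * x := h2 x hx c₁ hc₁m
    have hx2 : x * c₂ = c₂ * x := h2 x hx c₂ hc₂m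
    have ha1 : a * c₁ = c₁ * a := hAc a ha c₁ (mem_inf.mp hc₁m).1
    have e1 : a⁻¹ * r * a = r * c₁ := by rw [hc₁, commutatorElement_def]; group
    have hx1' : x⁻¹ * c₁ * x = c₁ := by
      calc x⁻¹ * c₁ * x = x⁻¹ * (c₁ * x) := by group
        _ = x⁻¹ * (x * c₁) := by rw [hx1]
        _ = c₁ := by group
    have e2 : x⁻¹ * (r * c₁) * x = s * c₁ := by
      calc x⁻¹ * (r * c₁) * x = (x⁻¹ * r * x) * (x⁻¹ * c₁ * x) := by group
        _ = s * c₁ := by rw [hx1']
    have ha1' : a * c₁ * a⁻¹ = c₁ := by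
      calc a * c₁ * a⁻¹ = (a * c₁) * a⁻¹ := by group
        _ = (c₁ * a) * a⁻¹ := by rw [ha1]
        _ = c₁ := by group
    have e3' : a * s * a⁻¹ = s * c₂ := by rw [hc₂, commutatorElement_def]; group
    have e3 : a * (s * c₁) * a⁻¹ = s * c₂ * c₁ := by
      calc a * (s * c₁) * a⁻¹ = (a * s * a⁻¹) * (a * c₁ * a⁻¹) := by group
        _ = s * c₂ * c₁ := by rw [e3', ha1']
    have hx1'' : x * c₁ * x⁻¹ = c₁ := by
      calc x * c₁ * x⁻¹ = (x * c₁) * x⁻¹ := by group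
        _ = (c₁ * x) * x⁻¹ := by rw [hx1]
        _ = c₁ := by group
    have hx2'' : x * c₂ * x⁻¹ = c₂ := by
      calc x * c₂ * x⁻¹ = (x * c₂) * x⁻¹ := by group
        _ = (c₂ * x) * x⁻¹ := by rw [hx2]
        _ = c₂ := by group
    have e4' : x * s * x⁻¹ = r := by rw [hs]; group
    have e4 : x * (s * c₂ * c₁) * x⁻¹ = r * (c₂ * c₁) := by
      calc x * (s * c₂ * c₁) * x⁻¹ = (x * s * x⁻¹) * (x * c₂ * x⁻¹) * (x * c₁ * x⁻¹) := by group
        _ = r * (c₂ * c₁) := by rw [e4', hx2'', hx1'', mul_assoc]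
    have hconj : ⁅x, a⁆ * r * ⁅x, a⁆⁻¹ = r * (c₂ * c₁) := by
      calc ⁅x, a⁆ * r * ⁅x, a⁆⁻¹ = x * (a * (x⁻¹ * (a⁻¹ * r * a) * x) * a⁻¹) * x⁻¹ := by
            rw [commutatorElement_def]; group
        _ = r * (c₂ * c₁) := by rw [e1, e2, e3, e4]
    have hyQ : ⁅x, a⁆ ∈ Q := by
      rw [commutatorElement_def]
      have := (mem_normalizer_iff.mp (hAQ ha) x⁻¹).mp (Q.inv_mem hx)
      have e : x * a * x⁻¹ * a⁻¹ = x * (a * x⁻¹ * a⁻¹) := by group
      rw [e]; exact Q.mul_mem hx this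
    have hcm : c₂ * c₁ ∈ A ⊓ R := (A ⊓ R).mul_mem hc₂m hc₁m
    have hcomm : Commute ⁅x, a⁆ (c₂ * c₁) := h2 _ hyQ _ hcm
    exact (Cfsg.Agent.Lib.Helper49_CharP.commute_of_coprime_of_conj_eq_mul (p := p) ⁅x, a⁆ r (c₂ * c₁)
      (hordQ _ hyQ) hconj hcomm (hordR _ (mem_inf.mp hcm).2)).eq
  -- Step 4
  have h4 : ∀ x ∈ Q ⊓ centralizer (A : Set G), ∀ r ∈ R, x * r = r * x := by
    intro x hx
    obtain ⟨hxQ, hxC⟩ := mem_inf.mp hx
    refine Cfsg.Agent.Lib.Helper23_CharP.pxq R A hR hA hAR x (hordQ x hxQ)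
      (fun q hq => hnR x (hQR hxQ) q hq) ?_ ?_
    · intro b hb
      exact ((mem_centralizer_iff.mp hxC) b hb).symm
    · intro q hq hqA
      exact h2 x hxQ q (mem_inf.mpr ⟨hfull q hq hqA, hq⟩)
  -- Step 5
  have hcopAQ : (Nat.card A).Coprime (Nat.card Q) := by
    obtain ⟨n, hn⟩ := IsPGroup.iff_card.mp hA
    rw [hn]; exact (Nat.Coprime.pow_right n hQ).symm
  have hsolv : Group.IsSolvable A ∨ Group.IsSolvable Q := by
    left
    have : Group.IsNilpotent A := hA.isNilpotent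
    infer_instance
  have hcomm : ⁅Q, A⁆ ≤ centralizer (R : Set G) := by
    rw [Subgroup.commutator_le]
    intro x hx a ha
    rw [mem_centralizer_iff]
    intro r hr
    exact (h3 x hx a ha r hr).symm
  intro k hk r hr
  obtain ⟨d, hd, c, hc, rfl⟩ :=
    Cfsg.Agent.Lib.Helper24_CoprimeAction.coprime_decomp A Q hAQ hcopAQ hsolv hk
  have hd' : d * r = r * d := ((mem_centralizer_iff.mp (hcomm hd)) r hr).symm
  have hc' : c * r = r * c := h4 c hc r hr
  calc d * c * r = d * (c * r) := by group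
    _ = d * (r * c) := by rw [hc']
    _ = (d * r) * c := by group
    _ = (r * d) * c := by rw [hd']
    _ = r * (d * c) := by group

/-- Reduction: in a `p`-constrained group `X`, an `A`-invariant `p'`-subgroup lies in `O_{p'}(X)` as soon as
`p'`-subgroups normalized by `A` and normalizing an `A`-invariant `p`-subgroup `R` (inside a common Sylow
subgroup with `A`) centralize `R`. -/
theorem le_pPrimeCore_of_core {X : Type*} [Group X] [Finite X] (p : ℕ) [Fact p.Prime]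
    (hX : IsPConstrained p X) (A : Subgroup X) (hAp : IsPGroup p A) (Q : Subgroup X)
    (hQ : (Nat.card Q).Coprime p) (hAQ : A ≤ normalizer (Q : Set X))
    (hcore : ∀ (S : Sylow p X) (R Q₁ : Subgroup X), A ≤ (S : Subgroup X) → R ≤ (S : Subgroup X) →
      (Nat.card Q₁).Coprime p → Q₁ ≤ normalizer (R : Set X) → A ≤ normalizer (R : Set X) →
      A ≤ normalizer (Q₁ : Set X) → Q₁ ≤ centralizer (R : Set X)) :
    Q ≤ pPrimeCore p X := by
  have hp : p.Prime := Fact.out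
  set N := pPrimeCore p X with hN
  set M := pPrimePCore p X with hM
  have hNcop : (Nat.card N).Coprime p := Cfsg.Agent.Lib.Helper22_Cores.pPrimeCore_coprime p
  have hNn : N.Normal := inferInstance
  have hMn : M.Normal := inferInstance
  set Q' := N ⊔ Q with hQ'
  have hQ'cop : (Nat.card Q').Coprime p := by
    have hdvd := Cfsg.Agent.Lib.Helper22_Basic.card_sup_dvd_of_le_normalizer N Q
      (by rw [normalizer_eq_top]; exact le_top)
    exact Nat.Coprime.coprime_dvd_left hdvd (Nat.Coprime.mul_left hNcop hQ)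
  have hAQ' : A ≤ normalizer (Q' : Set X) := by
    intro a ha
    have h1 : a ∈ normalizer (N : Set X) := by rw [normalizer_eq_top]; exact mem_top a
    exact Cfsg.Agent.Lib.Helper49_FStarComm.normalizer_inf_le_normalizer_sup N Q (mem_inf.mpr ⟨h1, hAQ ha⟩)
  obtain ⟨S, hAS⟩ := hAp.exists_le_sylow
  obtain ⟨P, hP⟩ := Cfsg.Agent.S0542.result p M (Subgroup.Normal.isSubnormal hMn) S
  set R := Cfsg.Agent.Lib.Helper24_CoprimeAction.sylowImage P with hR
  have hRS : R = (S : Subgroup X) ⊓ M := by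
    rw [hR]
    change (P : Subgroup M).map M.subtype = _
    rw [hP, Subgroup.subgroupOf_map_subtype]
  have hRleS : R ≤ (S : Subgroup X) := by rw [hRS]; exact inf_le_left
  have hAR : A ≤ normalizer (R : Set X) := by
    intro a ha
    rw [hRS]
    have h1 : a ∈ normalizer ((S : Subgroup X) : Set X) := le_normalizer (hAS ha)
    have h2 : a ∈ normalizer (M : Set X) := by rw [normalizer_eq_top]; exact mem_top a
    rw [mem_normalizer_iff] at h1 h2 ⊢
    intro x
    rw [mem_inf, mem_inf, ← h1 x, ← h2 x]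
  set Q₁ := Q' ⊓ normalizer (R : Set X) with hQ₁
  have hQ₁cop : (Nat.card Q₁).Coprime p :=
    Nat.Coprime.coprime_dvd_left (Subgroup.card_dvd_of_le inf_le_left) hQ'cop
  have hAQ₁ : A ≤ normalizer (Q₁ : Set X) := by
    intro a ha
    have h1 := hAQ' ha
    have h2 : a ∈ normalizer ((normalizer (R : Set X) : Subgroup X) : Set X) := le_normalizer (hAR ha)
    rw [mem_normalizer_iff] at h1 h2 ⊢
    intro x
    rw [hQ₁, mem_inf, mem_inf, ← h1 x, ← h2 x]
  have hQ₁C : Q₁ ≤ centralizer (R : Set X) :=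
    hcore S R Q₁ hAS hRleS hQ₁cop inf_le_right hAR hAQ₁
  have hQ₁M : Q₁ ≤ M := hQ₁C.trans (hX P)
  have hQ₁N : Q₁ ≤ N := by
    apply Cfsg.Agent.Lib.Helper22_QConstraint.le_pPrimeCore_of_le_pPrimePCore p hQ₁M
    intro hdvd
    have := Nat.Coprime.coprime_dvd_left hdvd hQ₁cop
    rw [Nat.coprime_self] at this
    exact hp.one_lt.ne' this
  have hMle : M ≤ N ⊔ R := by
    have := Cfsg.Agent.Lib.Helper22_QConstraint.pPrimePCore_le_sup p P
    rw [sup_comm] at this
    exact this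
  have hmain : Q' ≤ N := by
    intro g hg
    obtain ⟨κ, hκ⟩ := Cfsg.Agent.Lib.Helper24_CoprimeAction.frattini_rel P g
      (by rw [normalizer_eq_top]; exact mem_top g)
    have hκM : (κ : X) ∈ N ⊔ R := hMle κ.2
    rw [← SetLike.mem_coe, Subgroup.normal_mul, Set.mem_mul] at hκM
    obtain ⟨n, hn, r, hr, hnr⟩ := hκM
    have hrN : r ∈ normalizer (R : Set X) := le_normalizer hr
    have hh : n⁻¹ * g ∈ normalizer (R : Set X) := by
      have e : n⁻¹ * g = r * ((κ : X)⁻¹ * g) := by rw [← hnr]; group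
      rw [e]
      exact mul_mem hrN hκ
    have hh' : n⁻¹ * g ∈ Q₁ :=
      mem_inf.mpr ⟨mul_mem (inv_mem (mem_sup_left hn)) hg, hh⟩
    have e : g = n * (n⁻¹ * g) := by group
    rw [e]
    exact mul_mem hn (hQ₁N hh')
  exact le_sup_right.trans hmain

end Cfsg.Agent.Lib.Helper49_Transitivity
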