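import Mathlib
import Cfsg.Agent.S0025
import Cfsg.Agent.Lib.Helper22_BGTrans
import Cfsg.Agent.Lib.Helper22_BGTransRank
import Cfsg.Agent.Lib.Helper22_Hyperplane
import Cfsg.Agent.Lib.Helper22_Basic
import Cfsg.Agent.Lib.Helper49_FStarComm5

/-!
Thompson transitivity, signalizer style skeleton (helper49).

* `kconj_of_local`: downward induction on the order of `Q ⊓ Q'`: if any two distinct maximal `A`-invariant
  `q`-subgroups admit `K`-linked invariant `q`-subgroups meeting them in more than `Q ⊓ Q'`, then all maximal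
  `A`-invariant `q`-subgroups are `K`-conjugate.
* `local_step`: the local linking step for an abelian `p`-group `E` of rank at least `3`, given for every
  `b ∈ E#` an `E`-invariant `p'`-subgroup `θ b` containing all `E`-invariant `q`-subgroups of `C_G(b)`.
-/

set_option autoImplicit false

namespace Cfsg.Agent.Lib.Helper49_Transitivity

open Subgroup Cfsg Cfsg.Agent.Lib.Helper22_Radical Cfsg.Agent.Lib.Helper22_BGTrans
  Cfsg.Agent.Lib.Helper24_CoprimeAction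

universe u

variable {G : Type u} [Group G] [Finite G]

theorem kconj_of_local (A K : Subgroup G) (hKC : K ≤ centralizer (A : Set G)) {q : ℕ} (hq : q.Prime)
    (hloc : ∀ Q ∈ maxInvSubgroups ⊤ A {q}, ∀ Q' ∈ maxInvSubgroups ⊤ A {q}, ¬ Q ≤ Q ⊓ Q' → ¬ Q' ≤ Q ⊓ Q' →
      ∃ R R' S : Subgroup G, ∃ k ∈ K, Q ⊓ Q' ≤ R ∧ R ≤ Q ∧ ¬ R ≤ Q ⊓ Q' ∧ Q ⊓ Q' ≤ R' ∧ R' ≤ Q' ∧
        ¬ R' ≤ Q ⊓ Q' ∧ R ≤ S ∧ IsPGroup q S ∧ A ≤ normalizer (S : Set G) ∧ R' ≤ cj k S) :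
    ∀ n : ℕ, ∀ Q ∈ maxInvSubgroups ⊤ A {q}, ∀ Q' ∈ maxInvSubgroups ⊤ A {q},
      Nat.card G - Nat.card (Q ⊓ Q' : Subgroup G) = n → KConj K Q Q' := by
  intro n
  induction n using Nat.strong_induction_on with
  | _ n ih =>
    intro Q hQ Q' hQ' hn
    by_cases h1 : Q ≤ Q ⊓ Q'
    · have : Q' = Q := hQ.2 Q' hQ'.1 (h1.trans inf_le_right)
      rw [this]; exact KConj.refl _ _
    by_cases h2 : Q' ≤ Q ⊓ Q'
    · have : Q = Q' := hQ'.2 Q hQ.1 (h2.trans inf_le_left)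
      rw [this]; exact KConj.refl _ _
    obtain ⟨R, R', S, k, hk, hDR, hRQ, hRD, hDR', hRQ', hRD', hRS, hSq, hAS, hRS'⟩ :=
      hloc Q hQ Q' hQ' h1 h2
    set D := Q ⊓ Q' with hD
    obtain ⟨Q₃, hQ₃, hSQ₃⟩ := exists_max_ge hq hSq hAS
    have hkC : k ∈ centralizer (A : Set G) := hKC hk
    have hQ₃' : cj k Q₃ ∈ maxInvSubgroups ⊤ A {q} := cj_mem_max hkC hQ₃
    have hcG : ∀ E : Subgroup G, Nat.card E ≤ Nat.card G := fun E => Subgroup.card_le_card_group E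
    have hle1 : R ≤ Q ⊓ Q₃ := le_inf hRQ (hRS.trans hSQ₃)
    have hlt1 : Nat.card D < Nat.card (Q ⊓ Q₃ : Subgroup G) :=
      card_lt_card_of_lt (hDR.trans hle1) (fun h => hRD (hle1.trans h))
    have c1 : KConj K Q Q₃ :=
      ih (Nat.card G - Nat.card (Q ⊓ Q₃ : Subgroup G))
        (by have := hcG (Q ⊓ Q₃); have := hcG D; omega) Q hQ Q₃ hQ₃ rfl
    have hle2 : R' ≤ cj k Q₃ ⊓ Q' := le_inf (hRS'.trans (cj_mono hSQ₃)) hRQ'
    have hlt2 : Nat.card D < Nat.card (cj k Q₃ ⊓ Q' : Subgroup G) :=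
      card_lt_card_of_lt (hDR'.trans hle2) (fun h => hRD' (hle2.trans h))
    have c2 : KConj K (cj k Q₃) Q' :=
      ih (Nat.card G - Nat.card (cj k Q₃ ⊓ Q' : Subgroup G))
        (by have := hcG (cj k Q₃ ⊓ Q'); have := hcG D; omega) _ hQ₃' Q' hQ' rfl
    exact c1.trans (KConj.trans ⟨k, hk, rfl⟩ c2)

/-- a hyperplane of `E₀` whose fixed points on `R₀` are not inside `D` -/
theorem exists_hyperplane_not_le (p : ℕ) [Fact p.Prime] {E₀ R₀ D : Subgroup G}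
    (hEc : ∀ a ∈ E₀, ∀ b ∈ E₀, a * b = b * a) (hEp : ∀ a ∈ E₀, a ^ p = 1) (hne : ¬ R₀ ≤ D)
    (hpR : ¬ p ∣ Nat.card R₀) (hER : E₀ ≤ normalizer (R₀ : Set G)) :
    ∃ B : Subgroup G, B ≤ E₀ ∧ B.relIndex E₀ ≤ p ∧ ¬ (R₀ ⊓ centralizer (B : Set G) ≤ D) := by
  by_contra hcon
  push Not at hcon
  have h1 := Cfsg.Agent.Lib.Helper22_Hyperplane.le_iSup_centralizer_hyperplanes p E₀ R₀ hEc hEp hpR hER
  apply hne
  refine h1.trans (iSup_le ?_)
  intro B
  exact hcon B.1 B.2.1 B.2.2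

theorem local_step (p : ℕ) [Fact p.Prime] (E : Subgroup G) (hEp : IsPGroup p E)
    (hEc : ∀ a ∈ E, ∀ b ∈ E, a * b = b * a)
    (E₀ : Subgroup G) (hE₀E : E₀ ≤ E) (hE₀p : ∀ a ∈ E₀, a ^ p = 1) (hE₀card : p ^ 2 < Nat.card E₀)
    (K : Subgroup G) (hK : ∀ c ∈ centralizer (E : Set G), (orderOf c).Coprime p → c ∈ K)
    {q : ℕ} [Fact q.Prime] (hqp : q ≠ p)
    (θ : G → Subgroup G)
    (hθcop : ∀ b ∈ E, b ≠ 1 → (Nat.card (θ b)).Coprime p)
    (hθE : ∀ b ∈ E, b ≠ 1 → E ≤ normalizer (θ b : Set G))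
    (hθ : ∀ b ∈ E, b ≠ 1 → ∀ U : Subgroup G, IsPGroup q U → U ≤ centralizer ({b} : Set G) →
      E ≤ normalizer (U : Set G) → U ≤ θ b)
    (Q Q' : Subgroup G) (hQ : Q ∈ maxInvSubgroups ⊤ E {q}) (hQ' : Q' ∈ maxInvSubgroups ⊤ E {q})
    (h1 : ¬ Q ≤ Q ⊓ Q') (h2 : ¬ Q' ≤ Q ⊓ Q') :
    ∃ R R' S : Subgroup G, ∃ k ∈ K, Q ⊓ Q' ≤ R ∧ R ≤ Q ∧ ¬ R ≤ Q ⊓ Q' ∧ Q ⊓ Q' ≤ R' ∧ R' ≤ Q' ∧
        ¬ R' ≤ Q ⊓ Q' ∧ R ≤ S ∧ IsPGroup q S ∧ E ≤ normalizer (S : Set G) ∧ R' ≤ cj k S := by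
  have hp : p.Prime := Fact.out
  have hq : q.Prime := Fact.out
  obtain ⟨hQq, hEQ⟩ := (mem_invSubgroups_top hq).mp hQ.1
  obtain ⟨hQq', hEQ'⟩ := (mem_invSubgroups_top hq).mp hQ'.1
  set D := Q ⊓ Q' with hD
  have hDq : IsPGroup q D := hQq.to_inf_left
  set N := normalizer (D : Set G) with hNdef
  have hED : E ≤ N := le_normalizer_inf' hEQ hEQ'
  have hEN : E ≤ normalizer (N : Set G) := hED.trans le_normalizer
  have hDN : D ≤ N := le_normalizer
  have hg : ¬ (N ⊓ Q ≤ D) := normalizer_growth hq hQq inf_le_left h1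
  have hg' : ¬ (N ⊓ Q' ≤ D) := normalizer_growth hq hQq' inf_le_right h2
  have hER₀ : E ≤ normalizer ((N ⊓ Q : Subgroup G) : Set G) := le_normalizer_inf' hEN hEQ
  have hER₀' : E ≤ normalizer ((N ⊓ Q' : Subgroup G) : Set G) := le_normalizer_inf' hEN hEQ'
  have hR₀q : IsPGroup q (N ⊓ Q : Subgroup G) := hQq.to_inf_right
  have hR₀q' : IsPGroup q (N ⊓ Q' : Subgroup G) := hQq'.to_inf_right
  have hpq : p ≠ q := fun h => hqp h.symm
  have hndvd : ∀ Y : Subgroup G, IsPGroup q Y → ¬ p ∣ Nat.card Y := fun Y hY =>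
    Cfsg.Agent.Lib.Helper22_BGTransRank.not_dvd_card_of_isPGroup hp hq hpq hY
  have hcopq : ∀ Y : Subgroup G, IsPGroup q Y → (Nat.card Y).Coprime p := fun Y hY =>
    ((Nat.Prime.coprime_iff_not_dvd hp).mpr (hndvd Y hY)).symm
  have hE₀c : ∀ a ∈ E₀, ∀ b ∈ E₀, a * b = b * a := fun a ha b hb => hEc a (hE₀E ha) b (hE₀E hb)
  obtain ⟨B, hBE, hBidx, hB⟩ := exists_hyperplane_not_le p hE₀c hE₀p hg (hndvd _ hR₀q)
    (hE₀E.trans hER₀)
  obtain ⟨B', hBE', hBidx', hB'⟩ := exists_hyperplane_not_le p hE₀c hE₀p hg' (hndvd _ hR₀q')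
    (hE₀E.trans hER₀')
  -- the two hyperplanes meet nontrivially
  have hBB : B ⊓ B' ≠ ⊥ := by
    intro hbot
    have hidx : (B ⊓ B').relIndex E₀ ≤ p * p :=
      (Subgroup.relIndex_inf_le (H := B) (K := B') (L := E₀)).trans (Nat.mul_le_mul hBidx hBidx')
    have hc := Cfsg.Agent.Lib.Helper22_Hyperplane.card_mul_relIndex (D := B ⊓ B') (A := E₀)
      (inf_le_left.trans hBE)
    rw [hbot, Subgroup.card_bot, one_mul] at hc
    rw [hbot] at hidx
    have : p ^ 2 = p * p := sq p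
    omega
  obtain ⟨b, hb1⟩ := (Subgroup.ne_bot_iff_exists_ne_one).mp hBB
  have hbm' : (b : G) ∈ B ⊓ B' := b.2
  obtain ⟨hbB, hbB'⟩ := mem_inf.mp hbm'
  have hbne : (b : G) ≠ 1 := fun h => hb1 (Subtype.ext h)
  have hbE : (b : G) ∈ E := hE₀E (hBE hbB)
  set bb : G := (b : G) with hbb
  -- the two fixed point subgroups
  set U := (N ⊓ Q) ⊓ centralizer ({bb} : Set G) with hU
  set U' := (N ⊓ Q') ⊓ centralizer ({bb} : Set G) with hU'
  have hUD : ¬ U ≤ D := fun h => hB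
    ((inf_le_inf_left _ (centralizer_le (Set.singleton_subset_iff.mpr hbB))).trans h)
  have hUD' : ¬ U' ≤ D := fun h => hB'
    ((inf_le_inf_left _ (centralizer_le (Set.singleton_subset_iff.mpr hbB'))).trans h)
  have hECb : E ≤ centralizer ({bb} : Set G) := by
    intro e he
    rw [mem_centralizer_iff]
    intro y hy
    rw [Set.mem_singleton_iff] at hy
    subst hy
    exact hEc _ hbE e he
  have hENb : E ≤ normalizer ((centralizer ({bb} : Set G) : Subgroup G) : Set G) :=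
    hECb.trans le_normalizer
  have hEU : E ≤ normalizer (U : Set G) := le_normalizer_inf' hER₀ hENb
  have hEU' : E ≤ normalizer (U' : Set G) := le_normalizer_inf' hER₀' hENb
  have hUθ : U ≤ θ bb := hθ bb hbE hbne U hR₀q.to_inf_left inf_le_right hEU
  have hUθ' : U' ≤ θ bb := hθ bb hbE hbne U' hR₀q'.to_inf_left inf_le_right hEU'
  -- the `p'`-group `L`
  set M := θ bb ⊓ N with hM
  set L := D ⊔ M with hL
  have hMN : M ≤ normalizer (D : Set G) := inf_le_right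
  have hLcop : (Nat.card L).Coprime p := by
    have hdvd := Cfsg.Agent.Lib.Helper22_Basic.card_sup_dvd_of_le_normalizer D M hMN
    refine Nat.Coprime.coprime_dvd_left hdvd (Nat.Coprime.mul_left (hcopq D hDq) ?_)
    exact Nat.Coprime.coprime_dvd_left (Subgroup.card_dvd_of_le inf_le_left) (hθcop bb hbE hbne)
  have hEM : E ≤ normalizer (M : Set G) := le_normalizer_inf' (hθE bb hbE hbne) hEN
  have hEDn : E ≤ normalizer (D : Set G) := hED
  have hEL : E ≤ normalizer (L : Set G) := fun e he =>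
    Cfsg.Agent.Lib.Helper49_FStarComm.normalizer_inf_le_normalizer_sup D M
      (mem_inf.mpr ⟨hEDn he, hEM he⟩)
  have hcop : (Nat.card E).Coprime (Nat.card L) := by
    obtain ⟨n, hn⟩ := IsPGroup.iff_card.mp hEp
    rw [hn]; exact (Nat.Coprime.pow_right n hLcop).symm
  have hsolv : Group.IsSolvable E ∨ Group.IsSolvable L := by
    left
    have : Group.IsNilpotent E := hEp.isNilpotent
    infer_instance
  -- the two invariant `q`-subgroups of `L`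
  have hDR₀ : D ≤ N ⊓ Q := le_inf hDN inf_le_left
  have hDR₀' : D ≤ N ⊓ Q' := le_inf hDN inf_le_right
  have hDUq : IsPGroup q (D ⊔ U : Subgroup G) :=
    hR₀q.to_le (sup_le hDR₀ inf_le_left)
  have hDUq' : IsPGroup q (D ⊔ U' : Subgroup G) :=
    hR₀q'.to_le (sup_le hDR₀' inf_le_left)
  have hUM : U ≤ M := le_inf hUθ (inf_le_left.trans inf_le_left)
  have hUM' : U' ≤ M := le_inf hUθ' (inf_le_left.trans inf_le_left)
  have hDUL : D ⊔ U ≤ L := sup_le_sup_left hUM D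
  have hDUL' : D ⊔ U' ≤ L := sup_le_sup_left hUM' D
  have hEDU : E ≤ normalizer ((D ⊔ U : Subgroup G) : Set G) := fun e he =>
    Cfsg.Agent.Lib.Helper49_FStarComm.normalizer_inf_le_normalizer_sup D U
      (mem_inf.mpr ⟨hEDn he, hEU he⟩)
  have hEDU' : E ≤ normalizer ((D ⊔ U' : Subgroup G) : Set G) := fun e he =>
    Cfsg.Agent.Lib.Helper49_FStarComm.normalizer_inf_le_normalizer_sup D U'
      (mem_inf.mpr ⟨hEDn he, hEU' he⟩)
  obtain ⟨P, hRP, hEP⟩ := Cfsg.Agent.S0025.result E L hEL hcop hsolv q (D ⊔ U) hDUL hDUq hEDU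
  obtain ⟨P', hRP', hEP'⟩ := Cfsg.Agent.S0025.result E L hEL hcop hsolv q (D ⊔ U') hDUL' hDUq' hEDU'
  obtain ⟨c, hcE, hcP⟩ := invariant_sylow_conj E L hEL hcop hsolv q P P' hEP hEP'
  have hck : (c : G) ∈ K := by
    apply hK _ hcE
    exact Nat.Coprime.coprime_dvd_left (Subgroup.orderOf_dvd_natCard L c.2) hLcop
  refine ⟨D ⊔ U, D ⊔ U', sylowImage P, (c : G), hck, le_sup_left, ?_, ?_, le_sup_left, ?_, ?_, hRP,
    P.isPGroup'.map _, hEP, ?_⟩
  · exact sup_le inf_le_left (inf_le_left.trans inf_le_right)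
  · exact fun h => hUD (le_sup_right.trans h)
  · exact sup_le inf_le_right (inf_le_left.trans inf_le_right)
  · exact fun h => hUD' (le_sup_right.trans h)
  · have := sylowImage_smul P c
    rw [hcP] at this
    exact hRP'.trans (le_of_eq this)

end Cfsg.Agent.Lib.Helper49_Transitivity
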