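import Mathlib
import Cfsg.Agent.Lib.Helper49_Transitivity
import Cfsg.Agent.Lib.Helper49_Transitivity2
import Cfsg.Agent.Lib.Helper22_PConstrainedInv
import Cfsg.Agent.Lib.Helper32_Cores

/-!
Thompson transitivity: the remaining ingredients (helper49).

* `mem_piCoreOf_of_coprime`: if the abelian `p`-group `E` contains every `p`-element of `C_G(E)`, every
  `p'`-element of `C_G(E)` lies in `O_{p'}(C_G(E))`.
* `le_pPrimeCore_of_full`: invariant `p'`-subgroups of `p`-constrained groups (`p` odd: helper22's theorem;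
  `p = 2`: Sylow subgroups of class at most two).
* `triple_comm_eq_one`: class at most two kills triple commutators.
-/

set_option autoImplicit false

namespace Cfsg.Agent.Lib.Helper49_Transitivity

open Subgroup Cfsg
open scoped commutatorElement

universe u

theorem mem_piCoreOf_of_coprime {G : Type u} [Group G] [Finite G] (p : ℕ) [Fact p.Prime] (E : Subgroup G)
    (hEp : IsPGroup p E) (hEc : ∀ a ∈ E, ∀ b ∈ E, a * b = b * a)
    (hEfull : ∀ x ∈ centralizer (E : Set G), IsPGroup p (zpowers x) → x ∈ E) :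
    ∀ c ∈ centralizer (E : Set G), (orderOf c).Coprime p →
      c ∈ piCoreOf (primesNotDvd p) (centralizer (E : Set G)) := by
  have hp : p.Prime := Fact.out
  set C := centralizer (E : Set G) with hC
  have hEC : E ≤ C := by
    intro e he
    rw [mem_centralizer_iff]
    intro y hy
    exact hEc y hy e he
  set E' : Subgroup C := E.subgroupOf C with hE'
  have hcentral : ∀ e ∈ E', ∀ x : C, x * e = e * x := by
    intro e he x
    apply Subtype.ext
    have := (mem_centralizer_iff.mp x.2) (e : G) (mem_subgroupOf.mp he)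
    simp only [Subgroup.coe_mul]
    exact this.symm
  have hE'n : E'.Normal := by
    constructor
    intro e he x
    have : x * e * x⁻¹ = e := by rw [hcentral e he x]; group
    rw [this]; exact he
  have hE'p : IsPGroup p E' := hEp.comap_subtype
  obtain ⟨P, hP⟩ := hE'p.exists_le_sylow
  have hPE : (P : Subgroup C) ≤ E' := by
    intro x hx
    rw [hE', mem_subgroupOf]
    apply hEfull _ x.2
    obtain ⟨k, hk⟩ := P.isPGroup' ⟨x, hx⟩
    have hk' : (x : G) ^ (p ^ k) = 1 := by
      have := congrArg (fun z : (P : Subgroup C) => ((z : C) : G)) hk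
      simpa using this
    obtain ⟨j, -, hj⟩ := (Nat.dvd_prime_pow hp).mp (orderOf_dvd_of_pow_eq_one hk')
    apply IsPGroup.of_card (n := j)
    rw [Nat.card_zpowers, hj]
  have hPeq : (P : Subgroup C) = E' := le_antisymm hPE hP
  have hndvd : ¬ p ∣ E'.index := by rw [← hPeq]; exact P.not_dvd_index
  have hcop : (Nat.card E').Coprime E'.index := by rw [← hPeq]; exact P.card_coprime_index
  obtain ⟨H, hH⟩ := Subgroup.exists_right_complement'_of_coprime hcop
  have hHn : H.Normal := by
    constructor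
    intro h hh x
    obtain ⟨⟨e, h'⟩, hx, -⟩ := hH.existsUnique x
    have hx' : (e : C) * (h' : C) = x := hx
    have he : (e : C) ∈ E' := e.2
    have hh' : (h' : C) ∈ H := h'.2
    have e1 : x * h * x⁻¹ = (e : C) * ((h' : C) * h * (h' : C)⁻¹) * (e : C)⁻¹ := by
      rw [← hx']; group
    have e2 : (e : C) * ((h' : C) * h * (h' : C)⁻¹) * (e : C)⁻¹ = (h' : C) * h * (h' : C)⁻¹ := by
      rw [← hcentral (e : C) he ((h' : C) * h * (h' : C)⁻¹)]; group
    rw [e1, e2]
    exact H.mul_mem (H.mul_mem hh' hh) (H.inv_mem hh')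
  have hHcard : E'.index = Nat.card H := hH.symm.index_eq_card
  have hHle : H ≤ piCore (primesNotDvd p) C := by
    apply Cfsg.Agent.Lib.Helper32_Cores.le_piCore hHn
    intro r hr hrd
    refine ⟨hr, fun hrp => ?_⟩
    have : r = p := (Nat.prime_dvd_prime_iff_eq hr hp).mp hrp
    subst this
    rw [← hHcard] at hrd
    exact hndvd hrd
  intro c hc hcc
  set x : C := ⟨c, hc⟩ with hx
  have hxH : x ∈ H := by
    have h1 : orderOf (QuotientGroup.mk' H x) ∣ orderOf x := orderOf_map_dvd _ x
    have h2 : orderOf (QuotientGroup.mk' H x) ∣ Nat.card (C ⧸ H) := orderOf_dvd_natCard _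
    have h3 : Nat.card (C ⧸ H) = Nat.card E' := by
      rw [← Subgroup.index_eq_card]; exact hH.index_eq_card
    obtain ⟨n, hn⟩ := IsPGroup.iff_card.mp hE'p
    rw [h3, hn] at h2
    have h4 : orderOf x = orderOf c := (Subgroup.orderOf_coe x).symm
    rw [h4] at h1
    have h5 : (orderOf c).Coprime (p ^ n) := Nat.Coprime.pow_right n hcc
    have h6 : orderOf (QuotientGroup.mk' H x) = 1 := Nat.eq_one_of_dvd_coprimes h5 h1 h2
    rw [orderOf_eq_one_iff] at h6
    exact (QuotientGroup.eq_one_iff x).mp h6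
  exact ⟨x, hHle hxH, rfl⟩

/-- class at most two kills triple commutators -/
theorem triple_comm_eq_one {G : Type*} [Group G] (T : Subgroup G) [Group.IsNilpotent T]
    (h : Group.nilpotencyClass T ≤ 2) :
    ∀ x ∈ T, ∀ y ∈ T, ∀ z ∈ T, ⁅⁅x, y⁆, z⁆ = 1 := by
  have hbot : Subgroup.lowerCentralSeries (⊤ : Subgroup T) 2 = ⊥ :=
    Subgroup.lowerCentralSeries_eq_bot_iff_nilpotencyClass_le.mpr h
  have h2 : T.lowerCentralSeries 2 = ⊥ := by
    rw [← Subgroup.top_subtype_lowerCentralSeries, hbot, Subgroup.map_bot]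
  intro x hx y hy z hz
  have h3 : ⁅⁅x, y⁆, z⁆ ∈ T.lowerCentralSeries 2 := by
    rw [Subgroup.lowerCentralSeries_succ, Subgroup.lowerCentralSeries_succ,
      Subgroup.lowerCentralSeries_zero]
    exact Subgroup.commutator_mem_commutator (Subgroup.commutator_mem_commutator hx hy) hz
  rw [h2, mem_bot] at h3
  exact h3

/-- Invariant `p'`-subgroups of a `p`-constrained group lie in `O_{p'}`, when the abelian `p`-group `A`
contains all `p`-elements of its centralizer (and Sylow `2`-subgroups have class at most `2` when `p = 2`). -/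
theorem le_pPrimeCore_of_full {X : Type*} [Group X] [Finite X] (p : ℕ) [Fact p.Prime]
    (hX : IsPConstrained p X) (A : Subgroup X) (hAp : IsPGroup p A)
    (hAc : ∀ a ∈ A, ∀ b ∈ A, a * b = b * a)
    (hfull : ∀ x ∈ centralizer (A : Set X), (∃ k : ℕ, x ^ (p ^ k) = 1) → x ∈ A)
    (h2 : p = 2 → ∀ S : Sylow p X, ∀ x ∈ (S : Subgroup X), ∀ y ∈ (S : Subgroup X),
      ∀ z ∈ (S : Subgroup X), ⁅⁅x, y⁆, z⁆ = 1)
    (Q : Subgroup X) (hQ : (Nat.card Q).Coprime p) (hAQ : A ≤ normalizer (Q : Set X)) :
    Q ≤ pPrimeCore p X := by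
  have hp : p.Prime := Fact.out
  by_cases hp2 : p = 2
  · apply le_pPrimeCore_of_core p hX A hAp Q hQ hAQ
    intro S R Q₁ hAS hRS hQ₁ hQ₁R hAR hAQ₁
    have hRp : IsPGroup p R := S.isPGroup'.to_le hRS
    have key := core_quadratic R Q₁ A hRp hQ₁ hAp hAc hQ₁R hAR hAQ₁
      (by
        intro x hxR hxA
        apply hfull x
        · rw [mem_centralizer_iff]; intro a ha; exact (hxA a ha).symm
        · obtain ⟨k, hk⟩ := hRp ⟨x, hxR⟩
          exact ⟨k, by simpa using congrArg Subtype.val hk⟩)
      (by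
        intro r hr a ha a' ha'
        exact h2 hp2 S r (hRS hr) a (hAS ha) a' (hAS ha'))
    intro x hx
    rw [mem_centralizer_iff]
    intro r hr
    exact (key x hx r hr).symm
  · apply Cfsg.Agent.Lib.Helper22_PConstrainedInv.le_pPrimeCore_of_invariant p hp2 hX A hAp ?_ Q ?_ hAQ
    · intro x hx hox
      apply hfull x hx
      exact ⟨1, by rw [pow_one, ← hox]; exact pow_orderOf_eq_one x⟩
    · intro hdvd
      have := Nat.Coprime.coprime_dvd_left hdvd hQ
      rw [Nat.coprime_self] at this
      exact hp.one_lt.ne' this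

end Cfsg.Agent.Lib.Helper49_Transitivity
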