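import Cfsg.Agent.Lib.Helper22_U1402a
import Cfsg.Agent.Lib.Helper22_Hyperplane

/-!
# Bender-Glauberman 9.5, step (L1): from an invariant elementary abelian subgroup to two lines (helper49)
-/

set_option autoImplicit false

namespace Cfsg.Agent.Lib.Helper49_U1402Lines

open Subgroup Cfsg Cfsg.Agent.Lib.Helper22_U1402

variable {G : Type*} [Group G] [Finite G]

omit [Finite G] in
/-- a cyclic subgroup of exponent dividing the prime `s` is trivial or of order `s` -/
theorem card_of_isCyclic_of_exp {s : ℕ} (hs : s.Prime) {E : Subgroup G} (hc : IsCyclic ↥E)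
    (he : ∀ a ∈ E, a ^ s = 1) : E = ⊥ ∨ Nat.card E = s := by
  have h1 : Monoid.exponent ↥E ∣ s := by
    apply Monoid.exponent_dvd_of_forall_pow_eq_one
    intro g
    apply Subtype.ext
    rw [Subgroup.coe_pow, Subgroup.coe_one]
    exact he g.1 g.2
  rw [IsCyclic.exponent_eq_card] at h1
  rcases (Nat.dvd_prime hs).mp h1 with h | h
  · left; exact (Subgroup.card_eq_one).mp h
  · right; exact h

/-- the join of two distinct subgroups of order `s` inside a group of exponent `s` is not cyclic -/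
theorem not_isCyclic_sup {s : ℕ} (hs : s.Prime) {E₁ E₂ V : Subgroup G} (h₁ : E₁ ≤ V) (h₂ : E₂ ≤ V)
    (he : ∀ a ∈ V, a ^ s = 1) (hc₁ : Nat.card E₁ = s) (hc₂ : Nat.card E₂ = s) (hne : E₁ ≠ E₂) :
    ¬ IsCyclic ↥(E₁ ⊔ E₂) := by
  intro hc
  have hle : E₁ ⊔ E₂ ≤ V := sup_le h₁ h₂
  rcases card_of_isCyclic_of_exp hs hc (fun a ha => he a (hle ha)) with h | h
  · have : E₁ = ⊥ := eq_bot_iff.mpr (h ▸ le_sup_left)
    rw [this, Subgroup.card_bot] at hc₁
    exact hs.one_lt.ne hc₁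
  · have e1 : E₁ = E₁ ⊔ E₂ := Subgroup.eq_of_le_of_card_ge le_sup_left (by rw [h, hc₁])
    have e2 : E₂ = E₁ ⊔ E₂ := Subgroup.eq_of_le_of_card_ge le_sup_right (by rw [h, hc₂])
    exact hne (e1.trans e2.symm)

/-- **The generic step of (L1).** -/
theorem lines_of_V (p : ℕ) [hp : Fact p.Prime]
    (A : Subgroup G) (hAc : ∀ a ∈ A, ∀ b ∈ A, a * b = b * a)
    (B : Subgroup G) (hBA : B ≤ A) (hBe : IsElementaryAbelian p B) (hB3 : Nat.card B = p ^ 3)
    (H : Subgroup G) (s : ℕ) [hs : Fact s.Prime] (hsp : s ≠ p)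
    (V : Subgroup G) (hVS : V ≤ pCoreOf s H) (hAV : A ≤ normalizer (V : Set G))
    (hVe : ∀ a ∈ V, a ^ s = 1) (hVnc : ¬ IsCyclic ↥V)
    (hCy : ∀ y ∈ V, y ≠ 1 → centralizer ({y} : Set G) ≤ H)
    (hUY : ∀ Y : Subgroup G, Y ≤ V → ¬ IsCyclic ↥Y → ∀ M : Subgroup G, IsCoatom M → Y ≤ M → M = H)
    (hK : ∀ Y : Subgroup G, Y ≤ V → ¬ IsCyclic ↥Y → ∀ B0 : Subgroup G, B0 ≤ B →
      B0 ≤ centralizer (Y : Set G) → Nat.card B0 ≤ p) :
    ∃ E₁ E₂ : Subgroup G, IsLine A B H s E₁ ∧ IsLine A B H s E₂ ∧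
      ∀ M : Subgroup G, IsCoatom M → E₁ ≤ M → E₂ ≤ M → M = H := by
  have hpp : p.Prime := hp.out
  have hss : s.Prime := hs.out
  have hBc : ∀ a ∈ B, ∀ b ∈ B, a * b = b * a := fun a ha b hb => hAc a (hBA ha) b (hBA hb)
  -- `V` is an `s`-group
  have hVs : IsPGroup s V := by
    intro g
    refine ⟨1, ?_⟩
    apply Subtype.ext
    rw [pow_one, Subgroup.coe_pow, Subgroup.coe_one]
    exact hVe g.1 g.2
  have hpV : ¬ p ∣ Nat.card V := by
    obtain ⟨n, hn⟩ := IsPGroup.iff_card.mp hVs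
    rw [hn]
    intro hdvd
    exact hsp ((Nat.prime_dvd_prime_iff_eq hpp hss).mp (hpp.dvd_of_dvd_pow hdvd)).symm
  have hBV : B ≤ normalizer (V : Set G) := hBA.trans hAV
  have hgen := Cfsg.Agent.Lib.Helper22_Hyperplane.le_iSup_centralizer_hyperplanes p B V hBc hBe.2 hpV hBV
  -- hyperplanes have order at least `p ^ 2`
  have hcardB0 : ∀ B0 : Subgroup G, B0 ≤ B → B0.relIndex B ≤ p → p ^ 2 ≤ Nat.card B0 := by
    intro B0 hB0 hi
    have h1 := Cfsg.Agent.Lib.Helper22_Hyperplane.card_mul_relIndex hB0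
    rw [hB3] at h1
    by_contra hlt
    push Not at hlt
    have h2 : Nat.card B0 * B0.relIndex B < p ^ 2 * p := by
      calc Nat.card B0 * B0.relIndex B ≤ Nat.card B0 * p := Nat.mul_le_mul_left _ hi
        _ < p ^ 2 * p := Nat.mul_lt_mul_of_pos_right hlt hpp.pos
    rw [h1] at h2
    have : p ^ 2 * p = p ^ 3 := by ring
    omega
  -- the fixed points of a hyperplane form a cyclic group
  have hcyc : ∀ B0 : Subgroup G, B0 ≤ B → B0.relIndex B ≤ p →
      IsCyclic ↥(V ⊓ centralizer (B0 : Set G)) := by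
    intro B0 hB0 hi
    by_contra hnc
    have h1 : B0 ≤ centralizer ((V ⊓ centralizer (B0 : Set G) : Subgroup G) : Set G) := by
      intro b hb
      rw [mem_centralizer_iff]
      intro y hy
      exact ((mem_centralizer_iff.mp (mem_inf.mp hy).2) b hb).symm
    have h2 := hK _ inf_le_left hnc B0 hB0 h1
    have h3 := hcardB0 B0 hB0 hi
    have h4 : p < p ^ 2 := by
      calc p = p ^ 1 := (pow_one p).symm
        _ < p ^ 2 := Nat.pow_lt_pow_right hpp.one_lt (by norm_num)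
    omega
  have hcard : ∀ B0 : Subgroup G, B0 ≤ B → B0.relIndex B ≤ p →
      V ⊓ centralizer (B0 : Set G) = ⊥ ∨ Nat.card ↥(V ⊓ centralizer (B0 : Set G)) = s := by
    intro B0 hB0 hi
    exact card_of_isCyclic_of_exp hss (hcyc B0 hB0 hi) (fun a ha => hVe a (mem_inf.mp ha).1)
  -- first hyperplane with nontrivial fixed points
  have hV1 : V ≠ ⊥ := by
    rintro rfl
    exact hVnc inferInstance
  have hex1 : ∃ B1 : Subgroup G, B1 ≤ B ∧ B1.relIndex B ≤ p ∧ V ⊓ centralizer (B1 : Set G) ≠ ⊥ := by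
    by_contra hcon
    push Not at hcon
    apply hV1
    rw [eq_bot_iff]
    refine hgen.trans (iSup_le ?_)
    rintro ⟨B0, hB0, hi⟩
    rw [hcon B0 hB0 hi]
  obtain ⟨B1, hB1, hi1, hE1⟩ := hex1
  -- second hyperplane
  have hex2 : ∃ B2 : Subgroup G, B2 ≤ B ∧ B2.relIndex B ≤ p ∧
      ¬ V ⊓ centralizer (B2 : Set G) ≤ V ⊓ centralizer (B1 : Set G) := by
    by_contra hcon
    push Not at hcon
    apply hVnc
    have hle : V ≤ V ⊓ centralizer (B1 : Set G) := by
      refine hgen.trans (iSup_le ?_)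
      rintro ⟨B0, hB0, hi⟩
      exact hcon B0 hB0 hi
    have heq : V ⊓ centralizer (B1 : Set G) = V := le_antisymm inf_le_left hle
    have := hcyc B1 hB1 hi1
    rwa [heq] at this
  obtain ⟨B2, hB2, hi2, hE2⟩ := hex2
  set E₁ : Subgroup G := V ⊓ centralizer (B1 : Set G) with hE₁
  set E₂ : Subgroup G := V ⊓ centralizer (B2 : Set G) with hE₂
  have hE2ne : E₂ ≠ ⊥ := by
    intro h
    apply hE2
    rw [h]
    exact bot_le
  have hc1 : Nat.card E₁ = s := (hcard B1 hB1 hi1).resolve_left hE1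
  have hc2 : Nat.card E₂ = s := (hcard B2 hB2 hi2).resolve_left hE2ne
  have hne : E₁ ≠ E₂ := by
    intro h
    apply hE2
    rw [← h]
  have hYnc : ¬ IsCyclic ↥(E₁ ⊔ E₂) := not_isCyclic_sup hss inf_le_left inf_le_left hVe hc1 hc2 hne
  have hYV : E₁ ⊔ E₂ ≤ V := sup_le inf_le_left inf_le_left
  -- the line properties
  have hline : ∀ (B0 B0' : Subgroup G), B0 ≤ B → B0.relIndex B ≤ p → B0' ≤ B → B0'.relIndex B ≤ p →
      Nat.card ↥(V ⊓ centralizer (B0 : Set G)) = s →
      ¬ IsCyclic ↥((V ⊓ centralizer (B0 : Set G)) ⊔ (V ⊓ centralizer (B0' : Set G))) →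
      IsLine A B H s (V ⊓ centralizer (B0 : Set G)) := by
    intro B0 B0' hB0 hi0 hB0' hi0' hc hnc
    refine ⟨inf_le_left.trans hVS, hc, ?_, ?_, ?_⟩
    · intro a ha
      exact Cfsg.Agent.Lib.Helper22_Hyperplane.mem_normalizer_inf_centralizer (hAV ha)
        (fun d hd => hAc a ha d (hBA (hB0 hd)))
    · intro hBC
      have h1 : B0' ≤ centralizer (((V ⊓ centralizer (B0 : Set G)) ⊔ (V ⊓ centralizer (B0' : Set G)) :
          Subgroup G) : Set G) := by
        intro b hb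
        have hle : (V ⊓ centralizer (B0 : Set G)) ⊔ (V ⊓ centralizer (B0' : Set G)) ≤
            centralizer ({b} : Set G) := by
          apply sup_le
          · intro y hy
            rw [mem_centralizer_singleton_iff]
            exact ((mem_centralizer_iff.mp (hBC (hB0' hb))) y hy)
          · intro y hy
            rw [mem_centralizer_singleton_iff]
            exact ((mem_centralizer_iff.mp (mem_inf.mp hy).2) b hb).symm
        rw [mem_centralizer_iff]
        intro y hy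
        exact (mem_centralizer_singleton_iff.mp (hle hy))
      have h2 := hK _ (sup_le inf_le_left inf_le_left) hnc B0' hB0' h1
      have h3 := hcardB0 B0' hB0' hi0'
      have h4 : p < p ^ 2 := by
        calc p = p ^ 1 := (pow_one p).symm
          _ < p ^ 2 := Nat.pow_lt_pow_right hpp.one_lt (by norm_num)
      omega
    · have hne1 : V ⊓ centralizer (B0 : Set G) ≠ ⊥ := by
        intro h
        rw [h, Subgroup.card_bot] at hc
        exact hss.one_lt.ne hc
      obtain ⟨⟨y, hy⟩, hy1⟩ := (Subgroup.ne_bot_iff_exists_ne_one).mp hne1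
      have hy1' : y ≠ 1 := fun h => hy1 (Subtype.ext h)
      exact (centralizer_le (Set.singleton_subset_iff.mpr hy)).trans (hCy y (mem_inf.mp hy).1 hy1')
  refine ⟨E₁, E₂, hline B1 B2 hB1 hi1 hB2 hi2 hc1 hYnc, ?_, ?_⟩
  · apply hline B2 B1 hB2 hi2 hB1 hi1 hc2
    rw [sup_comm]
    exact hYnc
  · intro M hM h1 h2
    exact hUY _ hYV hYnc M hM (sup_le h1 h2)

end Cfsg.Agent.Lib.Helper49_U1402Lines
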