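import Mathlib
import Cfsg.Agent.S3335

/-!
# An explicit copy of `A₇` inside `GL₄(𝔽₂)`

Five explicit `4 × 4` matrices over `ZMod 2` satisfying the Moore presentation of `A₇`
(landed as `Cfsg.Agent.S3335.result`), giving an injective homomorphism
`alternatingGroup (Fin 7) →* GL (Fin 4) (ZMod 2)`.
-/

set_option autoImplicit false

namespace Cfsg.Agent.Lib.Helper4_A7GL4

open Matrix

/-- `4 × 4` matrices over the field with two elements -/
abbrev M4 : Type := Matrix (Fin 4) (Fin 4) (ZMod 2)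

def m0 : M4 := !![0, 1, 0, 0; 1, 1, 0, 0; 0, 0, 0, 1; 0, 0, 1, 1]
def m0i : M4 := !![1, 1, 0, 0; 1, 0, 0, 0; 0, 0, 1, 1; 0, 0, 1, 0]
def m1 : M4 := !![1, 0, 0, 0; 0, 1, 0, 0; 1, 0, 1, 0; 1, 1, 0, 1]
def m2 : M4 := !![0, 0, 1, 0; 0, 0, 1, 1; 1, 0, 0, 0; 1, 1, 0, 0]
def m3 : M4 := !![1, 0, 0, 0; 1, 1, 0, 0; 1, 0, 1, 0; 1, 1, 1, 1]
def m4 : M4 := !![0, 1, 0, 0; 1, 0, 0, 0; 0, 0, 1, 1; 0, 0, 0, 1]

/-- the five matrices and their inverses, indexed by `Fin 5` -/
def mat : Fin 5 → M4 := ![m0, m1, m2, m3, m4]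
def matInv : Fin 5 → M4 := ![m0i, m1, m2, m3, m4]

theorem mat_mul_matInv : ∀ i : Fin 5, mat i * matInv i = 1 := by decide
theorem matInv_mul_mat : ∀ i : Fin 5, matInv i * mat i = 1 := by decide

/-- the five generators as elements of `GL₄(𝔽₂)` -/
def gen (i : Fin 5) : GL (Fin 4) (ZMod 2) :=
  ⟨mat i, matInv i, mat_mul_matInv i, matInv_mul_mat i⟩

theorem mat_rel1 : ∀ i : Fin 5, i.val = 0 → mat i ^ 3 = 1 := by decide
theorem mat_rel2 : ∀ i : Fin 5, 1 ≤ i.val → mat i ^ 2 = 1 := by decide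
theorem mat_rel3 : ∀ i j : Fin 5, j.val = i.val + 1 → (mat i * mat j) ^ 3 = 1 := by decide
theorem mat_rel4 : ∀ i j : Fin 5, i.val + 1 < j.val → (mat i * mat j) ^ 2 = 1 := by decide
theorem mat_zero_ne_one : mat 0 ≠ 1 := by decide

end Cfsg.Agent.Lib.Helper4_A7GL4

namespace Cfsg.Agent.Lib.Helper4_A7GL4

open Matrix

theorem gen_rel : ∀ r ∈ Cfsg.Agent.S3335.rels 5, FreeGroup.lift gen r = 1 := by
  intro r hr
  simp only [Cfsg.Agent.S3335.rels, Set.mem_union, Set.mem_ofPred_eq] at hr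
  rcases hr with ((⟨i, hi, rfl⟩ | ⟨i, hi, rfl⟩) | ⟨i, j, hij, rfl⟩) | ⟨i, j, hij, rfl⟩
  · simp only [map_pow, FreeGroup.lift_apply_of]
    apply Units.ext
    simpa [gen] using mat_rel1 i hi
  · simp only [map_pow, FreeGroup.lift_apply_of]
    apply Units.ext
    simpa [gen] using mat_rel2 i hi
  · simp only [map_pow, map_mul, FreeGroup.lift_apply_of]
    apply Units.ext
    simpa [gen] using mat_rel3 i j hij
  · simp only [map_pow, map_mul, FreeGroup.lift_apply_of]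
    apply Units.ext
    simpa [gen] using mat_rel4 i j hij

/-- the homomorphism from the presented group -/
noncomputable def presHom : Cfsg.Agent.S3335.G 5 →* GL (Fin 4) (ZMod 2) :=
  PresentedGroup.toGroup gen_rel

theorem presHom_of (i : Fin 5) : presHom (PresentedGroup.of i) = gen i :=
  PresentedGroup.toGroup.of gen_rel

/-- an injective homomorphism `A₇ → GL₄(𝔽₂)` -/
theorem exists_injective_hom :
    ∃ φ : alternatingGroup (Fin 7) →* GL (Fin 4) (ZMod 2), Function.Injective φ := by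
  obtain ⟨e⟩ := Cfsg.Agent.S3335.main 4
  let e' : Cfsg.Agent.S3335.G 5 ≃* alternatingGroup (Fin 7) := e
  let φ : alternatingGroup (Fin 7) →* GL (Fin 4) (ZMod 2) := presHom.comp e'.symm.toMonoidHom
  refine ⟨φ, ?_⟩
  have hs : IsSimpleGroup (alternatingGroup (Fin 7)) :=
    alternatingGroup.isSimpleGroup (by simp)
  rw [← MonoidHom.ker_eq_bot_iff]
  rcases (MonoidHom.normal_ker φ).eq_bot_or_eq_top with h | h
  · exact h
  · exfalso
    have h1 : e' (PresentedGroup.of 0) ∈ φ.ker := by rw [h]; trivial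
    rw [MonoidHom.mem_ker] at h1
    have h2 : φ (e' (PresentedGroup.of 0)) = gen 0 := by
      simp [φ, presHom_of]
    rw [h2] at h1
    have h3 := congrArg Units.val h1
    exact mat_zero_ne_one h3

end Cfsg.Agent.Lib.Helper4_A7GL4
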