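import Mathlib
import Cfsg.Agent.Lib.Helper62_D72Defs

/-! S3716 package DEGSETS (helper62): the possible signed degrees `σ * φ` of a character of a perfect group
whose column is `σ • (p, q, p', q')`, from the local data `Loc` (all by `omega`). -/

set_option autoImplicit false

namespace Cfsg.Agent.Lib.Helper62_D72_DEGSETS

open Cfsg.Agent.Lib.Helper62_D72Defs

theorem deg_0001 {φ : ℕ} {σ : ℤ} (hσ : σ = 1 ∨ σ = -1) (h2 : 2 ≤ φ)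
    (h : Loc φ (σ * 0) (σ * 0) (σ * 0) (σ * 1)) :
    (σ * (φ : ℤ)) % 9 = 5 ∧ (14 ≤ σ * (φ : ℤ) ∨ σ * (φ : ℤ) ≤ -13) := by
  obtain ⟨n0p, n0m, n1p, n1m, k0p, k0m, k1p, k1m, h1, h2', h3, h4, h5, h6, h7, h8⟩ := h
  rcases hσ with rfl | rfl <;> omega

theorem deg_001m1 {φ : ℕ} {σ : ℤ} (hσ : σ = 1 ∨ σ = -1) (h2 : 2 ≤ φ)
    (h : Loc φ (σ * 0) (σ * 0) (σ * 1) (σ * (-1))) :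
    (σ * (φ : ℤ)) % 9 = 0 ∧ (18 ≤ σ * (φ : ℤ) ∨ σ * (φ : ℤ) ≤ -9) := by
  obtain ⟨n0p, n0m, n1p, n1m, k0p, k0m, k1p, k1m, h1, h2', h3, h4, h5, h6, h7, h8⟩ := h
  rcases hσ with rfl | rfl <;> omega

theorem deg_0010 {φ : ℕ} {σ : ℤ} (hσ : σ = 1 ∨ σ = -1) (h2 : 2 ≤ φ)
    (h : Loc φ (σ * 0) (σ * 0) (σ * 1) (σ * 0)) :
    (σ * (φ : ℤ)) % 9 = 5 ∧ (5 ≤ σ * (φ : ℤ) ∨ σ * (φ : ℤ) ≤ -13) := by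
  obtain ⟨n0p, n0m, n1p, n1m, k0p, k0m, k1p, k1m, h1, h2', h3, h4, h5, h6, h7, h8⟩ := h
  rcases hσ with rfl | rfl <;> omega

theorem deg_0100 {φ : ℕ} {σ : ℤ} (hσ : σ = 1 ∨ σ = -1) (h2 : 2 ≤ φ)
    (h : Loc φ (σ * 0) (σ * 1) (σ * 0) (σ * 0)) :
    (σ * (φ : ℤ)) % 9 = 5 ∧ (14 ≤ σ * (φ : ℤ) ∨ σ * (φ : ℤ) ≤ -13) := by
  obtain ⟨n0p, n0m, n1p, n1m, k0p, k0m, k1p, k1m, h1, h2', h3, h4, h5, h6, h7, h8⟩ := h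
  rcases hσ with rfl | rfl <;> omega

theorem deg_0101 {φ : ℕ} {σ : ℤ} (hσ : σ = 1 ∨ σ = -1) (h2 : 2 ≤ φ)
    (h : Loc φ (σ * 0) (σ * 1) (σ * 0) (σ * 1)) :
    (σ * (φ : ℤ)) % 9 = 1 ∧ (10 ≤ σ * (φ : ℤ) ∨ σ * (φ : ℤ) ≤ -17) := by
  obtain ⟨n0p, n0m, n1p, n1m, k0p, k0m, k1p, k1m, h1, h2', h3, h4, h5, h6, h7, h8⟩ := h
  rcases hσ with rfl | rfl <;> omega

theorem deg_0110 {φ : ℕ} {σ : ℤ} (hσ : σ = 1 ∨ σ = -1) (h2 : 2 ≤ φ)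
    (h : Loc φ (σ * 0) (σ * 1) (σ * 1) (σ * 0)) :
    (σ * (φ : ℤ)) % 9 = 1 ∧ (10 ≤ σ * (φ : ℤ) ∨ σ * (φ : ℤ) ≤ -17) := by
  obtain ⟨n0p, n0m, n1p, n1m, k0p, k0m, k1p, k1m, h1, h2', h3, h4, h5, h6, h7, h8⟩ := h
  rcases hσ with rfl | rfl <;> omega

theorem deg_0111 {φ : ℕ} {σ : ℤ} (hσ : σ = 1 ∨ σ = -1) (h2 : 2 ≤ φ)
    (h : Loc φ (σ * 0) (σ * 1) (σ * 1) (σ * 1)) :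
    (σ * (φ : ℤ)) % 9 = 6 ∧ (15 ≤ σ * (φ : ℤ) ∨ σ * (φ : ℤ) ≤ -21) := by
  obtain ⟨n0p, n0m, n1p, n1m, k0p, k0m, k1p, k1m, h1, h2', h3, h4, h5, h6, h7, h8⟩ := h
  rcases hσ with rfl | rfl <;> omega

theorem deg_1m100 {φ : ℕ} {σ : ℤ} (hσ : σ = 1 ∨ σ = -1) (h2 : 2 ≤ φ)
    (h : Loc φ (σ * 1) (σ * (-1)) (σ * 0) (σ * 0)) :
    (σ * (φ : ℤ)) % 9 = 0 ∧ (18 ≤ σ * (φ : ℤ) ∨ σ * (φ : ℤ) ≤ -9) := by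
  obtain ⟨n0p, n0m, n1p, n1m, k0p, k0m, k1p, k1m, h1, h2', h3, h4, h5, h6, h7, h8⟩ := h
  rcases hσ with rfl | rfl <;> omega

theorem deg_1000 {φ : ℕ} {σ : ℤ} (hσ : σ = 1 ∨ σ = -1) (h2 : 2 ≤ φ)
    (h : Loc φ (σ * 1) (σ * 0) (σ * 0) (σ * 0)) :
    (σ * (φ : ℤ)) % 9 = 5 ∧ (5 ≤ σ * (φ : ℤ) ∨ σ * (φ : ℤ) ≤ -13) := by
  obtain ⟨n0p, n0m, n1p, n1m, k0p, k0m, k1p, k1m, h1, h2', h3, h4, h5, h6, h7, h8⟩ := h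
  rcases hσ with rfl | rfl <;> omega

theorem deg_1001 {φ : ℕ} {σ : ℤ} (hσ : σ = 1 ∨ σ = -1) (h2 : 2 ≤ φ)
    (h : Loc φ (σ * 1) (σ * 0) (σ * 0) (σ * 1)) :
    (σ * (φ : ℤ)) % 9 = 1 ∧ (10 ≤ σ * (φ : ℤ) ∨ σ * (φ : ℤ) ≤ -17) := by
  obtain ⟨n0p, n0m, n1p, n1m, k0p, k0m, k1p, k1m, h1, h2', h3, h4, h5, h6, h7, h8⟩ := h
  rcases hσ with rfl | rfl <;> omega

theorem deg_1010 {φ : ℕ} {σ : ℤ} (hσ : σ = 1 ∨ σ = -1) (h2 : 2 ≤ φ)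
    (h : Loc φ (σ * 1) (σ * 0) (σ * 1) (σ * 0)) :
    (σ * (φ : ℤ)) % 9 = 1 ∧ (10 ≤ σ * (φ : ℤ) ∨ σ * (φ : ℤ) ≤ -17) := by
  obtain ⟨n0p, n0m, n1p, n1m, k0p, k0m, k1p, k1m, h1, h2', h3, h4, h5, h6, h7, h8⟩ := h
  rcases hσ with rfl | rfl <;> omega

theorem deg_1011 {φ : ℕ} {σ : ℤ} (hσ : σ = 1 ∨ σ = -1) (h2 : 2 ≤ φ)
    (h : Loc φ (σ * 1) (σ * 0) (σ * 1) (σ * 1)) :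
    (σ * (φ : ℤ)) % 9 = 6 ∧ (15 ≤ σ * (φ : ℤ) ∨ σ * (φ : ℤ) ≤ -21) := by
  obtain ⟨n0p, n0m, n1p, n1m, k0p, k0m, k1p, k1m, h1, h2', h3, h4, h5, h6, h7, h8⟩ := h
  rcases hσ with rfl | rfl <;> omega

theorem deg_1101 {φ : ℕ} {σ : ℤ} (hσ : σ = 1 ∨ σ = -1) (h2 : 2 ≤ φ)
    (h : Loc φ (σ * 1) (σ * 1) (σ * 0) (σ * 1)) :
    (σ * (φ : ℤ)) % 9 = 6 ∧ (15 ≤ σ * (φ : ℤ) ∨ σ * (φ : ℤ) ≤ -21) := by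
  obtain ⟨n0p, n0m, n1p, n1m, k0p, k0m, k1p, k1m, h1, h2', h3, h4, h5, h6, h7, h8⟩ := h
  rcases hσ with rfl | rfl <;> omega

theorem deg_1110 {φ : ℕ} {σ : ℤ} (hσ : σ = 1 ∨ σ = -1) (h2 : 2 ≤ φ)
    (h : Loc φ (σ * 1) (σ * 1) (σ * 1) (σ * 0)) :
    (σ * (φ : ℤ)) % 9 = 6 ∧ (15 ≤ σ * (φ : ℤ) ∨ σ * (φ : ℤ) ≤ -21) := by
  obtain ⟨n0p, n0m, n1p, n1m, k0p, k0m, k1p, k1m, h1, h2', h3, h4, h5, h6, h7, h8⟩ := h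
  rcases hσ with rfl | rfl <;> omega

theorem deg_1111 {φ : ℕ} {σ : ℤ} (hσ : σ = 1 ∨ σ = -1) (h2 : 2 ≤ φ)
    (h : Loc φ (σ * 1) (σ * 1) (σ * 1) (σ * 1)) :
    (σ * (φ : ℤ)) % 9 = 2 ∧ (11 ≤ σ * (φ : ℤ) ∨ σ * (φ : ℤ) ≤ -16) := by
  obtain ⟨n0p, n0m, n1p, n1m, k0p, k0m, k1p, k1m, h1, h2', h3, h4, h5, h6, h7, h8⟩ := h
  rcases hσ with rfl | rfl <;> omega

end Cfsg.Agent.Lib.Helper62_D72_DEGSETS
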