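import Mathlib
import Cfsg.Prelude.Def_Characters
import Cfsg.Agent.Lib.Helper80_CharBasic
import Cfsg.Agent.Lib.Helper62_D72Defs
import Cfsg.Agent.Lib.Helper62_D72_DEGSETS

/-! S3716 package TRI6 (helper4): the trichotomy for the `S6` shape `T6`. -/

set_option autoImplicit false
open scoped ComplexConjugate

namespace Cfsg.Agent.Lib.Helper4_D72_TRI6

open Cfsg Cfsg.Agent.Lib.Helper80_CharBasic Cfsg.Agent.Lib.Helper62_D72Defs
open Cfsg.Agent.Lib.Helper62_D72_DEGSETS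

theorem h4_inv_add {a b c d : ℚ} (ha : a ≠ 0) (hb : b ≠ 0) (hc : c ≠ 0) (hd : d ≠ 0)
    (hs : a + b = c + d) (h : 1 / a + 1 / b = 1 / c + 1 / d) :
    a + b = 0 ∨ a * b = c * d := by
  by_cases h0 : a + b = 0
  · exact Or.inl h0
  · right
    have h1 : 1 / a + 1 / b = (a + b) / (a * b) := by field_simp; ring
    have h2 : 1 / c + 1 / d = (c + d) / (c * d) := by field_simp; ring
    rw [h1, h2, ← hs] at h
    have hab : a * b ≠ 0 := mul_ne_zero ha hb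
    have hcd : c * d ≠ 0 := mul_ne_zero hc hd
    rw [div_eq_div_iff hab hcd] at h
    have := mul_left_cancel₀ h0 h
    linarith

theorem tri6 {g : ℕ} {σ : Fin 8 → ℤ} {φ : Fin 8 → ℕ} (h : Exp T6 g σ φ) :
    ∃ t k l : ℤ, (t % 9 = 7 ∧ (16 ≤ t ∨ t ≤ -11)) ∧ (k % 9 = 1 ∧ (10 ≤ k ∨ k ≤ -17)) ∧
      (l % 9 = 1 ∧ (10 ≤ l ∨ l ≤ -17)) ∧
      ((t - 1 - k) % 9 = 5 ∧ (5 ≤ t - 1 - k ∨ t - 1 - k ≤ -13)) ∧
      ((t - l - k) % 9 = 5 ∧ (14 ≤ t - l - k ∨ t - l - k ≤ -13)) ∧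
      1 + l ^ 2 + 2 * k ^ 2 + 2 * (t - 1 - k) ^ 2 + 2 * (t - l - k) ^ 2 + t ^ 2 ≤ (g : ℤ) ∧
      (g : ℚ) * (1 + 1 / (l : ℚ) + 2 / (k : ℚ) - 8 / (t : ℚ) - 2 / ((t - 1 - k : ℤ) : ℚ)
        - 2 / ((t - l - k : ℤ) : ℚ)) = 648 := by
  obtain ⟨hsgn, htwo, hloc, hdP, hdQ, hdP', hdQ', hsq, he1, he2, ⟨k3, he3⟩, -⟩ := h
  -- the signed degrees
  set F : Fin 8 → ℤ := fun j => σ j * (φ j : ℤ) with hF
  have hd0 := deg_0001 (hsgn 0) (htwo 0) (by simpa [T6] using hloc 0)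
  have hd1 := deg_0010 (hsgn 1) (htwo 1) (by simpa [T6] using hloc 1)
  have hd2 := deg_0100 (hsgn 2) (htwo 2) (by simpa [T6] using hloc 2)
  have hd3 := deg_0101 (hsgn 3) (htwo 3) (by simpa [T6] using hloc 3)
  have hd4 := deg_0110 (hsgn 4) (htwo 4) (by simpa [T6] using hloc 4)
  have hd5 := deg_1000 (hsgn 5) (htwo 5) (by simpa [T6] using hloc 5)
  have hd6 := deg_1001 (hsgn 6) (htwo 6) (by simpa [T6] using hloc 6)
  have hd7 := deg_1111 (hsgn 7) (htwo 7) (by simpa [T6] using hloc 7)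
  simp only [Fin.sum_univ_eight, T6, colA, colD, aOf, dOf] at hdP hdQ hdP' hdQ' hsq he1 he2 he3
  simp only [Matrix.cons_val_zero, Matrix.cons_val_one, Matrix.cons_val] at hdP hdQ hdP' hdQ' hsq he1 he2 he3
  have hsqF : ∀ j, ((φ j : ℤ)) ^ 2 = (σ j * (φ j : ℤ)) ^ 2 := by
    intro j
    rcases hsgn j with h | h <;> rw [h] <;> ring
  rw [hsqF 0, hsqF 1, hsqF 2, hsqF 3, hsqF 4, hsqF 5, hsqF 6, hsqF 7] at hsq
  clear hsqF hloc hF F
  generalize σ 0 * (φ 0 : ℤ) = f0 at *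
  generalize σ 1 * (φ 1 : ℤ) = f1 at *
  generalize σ 2 * (φ 2 : ℤ) = f2 at *
  generalize σ 3 * (φ 3 : ℤ) = f3 at *
  generalize σ 4 * (φ 4 : ℤ) = f4 at *
  generalize σ 5 * (φ 5 : ℤ) = f5 at *
  generalize σ 6 * (φ 6 : ℤ) = f6 at *
  generalize σ 7 * (φ 7 : ℤ) = f7 at *
  clear hsgn htwo
  norm_num at he1 he2 he3
  have n0 : (f0 : ℚ) ≠ 0 := by
    have : f0 ≠ 0 := by omega
    exact_mod_cast this
  have n1 : (f1 : ℚ) ≠ 0 := by
    have : f1 ≠ 0 := by omega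
    exact_mod_cast this
  have n2 : (f2 : ℚ) ≠ 0 := by
    have : f2 ≠ 0 := by omega
    exact_mod_cast this
  have n3 : (f3 : ℚ) ≠ 0 := by
    have : f3 ≠ 0 := by omega
    exact_mod_cast this
  have n4 : (f4 : ℚ) ≠ 0 := by
    have : f4 ≠ 0 := by omega
    exact_mod_cast this
  have n5 : (f5 : ℚ) ≠ 0 := by
    have : f5 ≠ 0 := by omega
    exact_mod_cast this
  have n6 : (f6 : ℚ) ≠ 0 := by
    have : f6 ≠ 0 := by omega
    exact_mod_cast this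
  have n7 : (f7 : ℚ) ≠ 0 := by
    have : f7 ≠ 0 := by omega
    exact_mod_cast this
  have hg0 : (g : ℚ) ≠ 0 := by
    intro h0
    rw [h0, zero_mul] at he1
    norm_num at he1
  -- e1 - e2
  have hρ : 1 / (f5 : ℚ) + 1 / (f2 : ℚ) = 1 / (f1 : ℚ) + 1 / (f0 : ℚ) := by
    have h12 : (g : ℚ) * (1 + (-4 / (f0 : ℚ) + -4 / (f1 : ℚ) + 2 / (f2 : ℚ) + ((f3 : ℚ))⁻¹ + ((f4 : ℚ))⁻¹ +
        2 / (f5 : ℚ) + ((f6 : ℚ))⁻¹ + 8 / (f7 : ℚ))) =
        (g : ℚ) * (1 + (2 / (f0 : ℚ) + 2 / (f1 : ℚ) + -4 / (f2 : ℚ) + ((f3 : ℚ))⁻¹ + ((f4 : ℚ))⁻¹ +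
        -4 / (f5 : ℚ) + ((f6 : ℚ))⁻¹ + 8 / (f7 : ℚ))) := by rw [he1, he2]
    have h12' := mul_left_cancel₀ hg0 h12
    have e0 : (1 : ℚ) / f0 = (f0 : ℚ)⁻¹ := one_div _
    have e1' : (1 : ℚ) / f1 = (f1 : ℚ)⁻¹ := one_div _
    have e2' : (1 : ℚ) / f2 = (f2 : ℚ)⁻¹ := one_div _
    have e5' : (1 : ℚ) / f5 = (f5 : ℚ)⁻¹ := one_div _
    simp only [div_eq_mul_inv] at h12' ⊢
    linarith
  have hsum : (f5 : ℚ) + f2 = f1 + f0 := by
    have : f5 + f2 = f1 + f0 := by omega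
    exact_mod_cast this
  rcases h4_inv_add n5 n2 n1 n0 hsum hρ with hS | hprod
  · -- S = 0 : impossible by e3
    exfalso
    have hρ0 : 1 / (f5 : ℚ) + 1 / (f2 : ℚ) = 0 := by
      have : (f2 : ℚ) = -f5 := by linarith
      rw [this]
      field_simp
      ring
    have hρ0' : 1 / (f1 : ℚ) + 1 / (f0 : ℚ) = 0 := by rw [← hρ]; exact hρ0
    have h31 : (g : ℚ) * (1 + (8 / (f0 : ℚ) + 8 / (f1 : ℚ) + -1 / (f2 : ℚ) + ((f3 : ℚ))⁻¹ + ((f4 : ℚ))⁻¹ +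
        -1 / (f5 : ℚ) + ((f6 : ℚ))⁻¹ + 8 / (f7 : ℚ))) =
        (g : ℚ) * (1 + (-4 / (f0 : ℚ) + -4 / (f1 : ℚ) + 2 / (f2 : ℚ) + ((f3 : ℚ))⁻¹ + ((f4 : ℚ))⁻¹ +
        2 / (f5 : ℚ) + ((f6 : ℚ))⁻¹ + 8 / (f7 : ℚ))) := by
      congr 1
      simp only [div_eq_mul_inv] at hρ0 hρ0' ⊢
      linarith
    rw [he3, he1] at h31
    have h3 : (3 : ℚ) * (k3 : ℚ) = 1 := by linarith
    have h3' : 3 * k3 = 1 := by exact_mod_cast h3
    omega
  · have hprodZ : f5 * f2 = f1 * f0 := by exact_mod_cast hprod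
    have hfac : (f5 - f1) * (f5 - f0) = 0 := by
      have hs : f2 = f1 + f0 - f5 := by omega
      rw [hs] at hprodZ
      nlinarith [hprodZ]
    rcases mul_eq_zero.mp hfac with h51 | h50
    · -- (α)
      have h51' : f5 = f1 := by omega
      have h20 : f2 = f0 := by omega
      have h64 : f6 = f4 := by omega
      refine ⟨-f7, f4, f3, ⟨by omega, by omega⟩, ⟨hd4.1, hd4.2⟩, ⟨hd3.1, hd3.2⟩, ?_, ?_, ?_, ?_⟩
      · have : -f7 - 1 - f4 = f5 := by omega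
        rw [this]; exact hd5
      · have : -f7 - f3 - f4 = f2 := by omega
        rw [this]; exact hd2
      · have e1 : -f7 - 1 - f4 = f5 := by omega
        have e2 : -f7 - f3 - f4 = f2 := by omega
        rw [e1, e2]
        subst h51' h20 h64
        nlinarith [hsq]
      · have e1 : -f7 - 1 - f4 = f5 := by omega
        have e2 : -f7 - f3 - f4 = f2 := by omega
        rw [e1, e2, ← he1]
        subst h51' h20 h64
        congr 1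
        push_cast
        field_simp
        ring
    · -- (β)
      exfalso
      have : f3 = 1 := by omega
      omega

end Cfsg.Agent.Lib.Helper4_D72_TRI6
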