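import Cfsg.Agent.Lib.Helper4_E8Defs
import Cfsg.Agent.Lib.Helper18_ChevData5
import Cfsg.Agent.Lib.Helper18_ChevPar

set_option autoImplicit false

/-! S5751 package BRIDGE: the abstract maximal parabolic subgroup of the (B,N)-pair of `E₈(2)` is `P_J`. -/

namespace Cfsg.Agent.Lib.Helper4_E8C_BRIDGE

open Cfsg Cfsg.Lie Cfsg.Agent.Lib.Helper4_E8Defs Cfsg.Agent.Lib.Helper18_ChevGL
  Cfsg.Agent.Lib.Helper18_ChevBNPair Cfsg.Agent.Lib.Helper18_ChevACerts

theorem rank_eq : D8.rank = 8 := rfl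

/-- Distinct nodes give distinct elements `n_i`. -/
theorem nGL_injective (i j : ℕ) (hi : i < D8.rank) (hj : j < D8.rank)
    (h : nGL (F := F2) Cfsg.Agent.Lib.Helper18_ChevDatumE8.dcert i =
      nGL (F := F2) Cfsg.Agent.Lib.Helper18_ChevDatumE8.dcert j) : i = j := by
  apply eq_of_nGL_inv_mul_mem (F := F2) Cfsg.Agent.Lib.Helper18_ChevDatumE8.dcert Cfsg.Agent.Lib.Helper18_ChevTCertE8.tcert
    acertE8 Cfsg.Agent.Lib.Helper18_ChevGCertE8.gcert i j hi hj
  rw [h, inv_mul_cancel]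
  exact Subgroup.one_mem _

/-- BRIDGE. -/
theorem parabolic_eq (P : Cfsg.BNPair ↥(D8.group F2))
    (hB : P.B = (D8.borelSubgroup F2).subgroupOf (D8.group F2))
    (hS : P.S = {n : ↥(D8.group F2) | ∃ i < D8.rank,
      ((n : GL D8.Idx F2) : Matrix D8.Idx D8.Idx F2) = D8.nMat F2 (D8.simple i) 1})
    (k : ↥(D8.group F2)) (hk : IsNk (k : GLE)) :
    k ∈ P.S ∧ P.parabolic (P.S \ {k}) = PJ.subgroupOf (D8.group F2) := by
  have hkS : k ∈ P.S := by
    rw [hS]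
    exact ⟨3, by rw [rank_eq]; omega, hk⟩
  refine ⟨hkS, ?_⟩
  have hPJ : PJ ≤ D8.group F2 :=
    Cfsg.Agent.Lib.Helper18_ChevPar.parabolic_le_group Cfsg.Agent.Lib.Helper18_ChevDatumE8.dcert J3
  have hBG : D8.borelSubgroup F2 ≤ D8.group F2 := borel_le_group Cfsg.Agent.Lib.Helper18_ChevDatumE8.dcert
  apply Subgroup.map_injective (Subgroup.subtype_injective (D8.group F2))
  rw [Subgroup.map_subgroupOf_eq_of_le hPJ]
  unfold Cfsg.BNPair.parabolic
  rw [Subgroup.map_sup, hB, Subgroup.map_subgroupOf_eq_of_le hBG, MonoidHom.map_closure]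
  unfold PJ ChevalleyDatum.parabolicSubgroup
  congr 2
  ext g
  simp only [Set.mem_image, Set.mem_sdiff, Set.mem_singleton_iff, Set.mem_ofPred_eq]
  constructor
  · rintro ⟨x, ⟨hxS, hxk⟩, rfl⟩
    rw [hS] at hxS
    obtain ⟨i, hi, hxi⟩ := hxS
    refine ⟨i, ?_, hi, hxi⟩
    show i ≠ 3
    rintro rfl
    apply hxk
    apply Subtype.ext
    apply Units.ext
    rw [hxi]
    exact hk.symm
  · rintro ⟨j, hjJ, hj, hg⟩
    have hg' : g = nGL Cfsg.Agent.Lib.Helper18_ChevDatumE8.dcert j := Units.ext (by rw [hg, nGL_coe])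
    have hgG : g ∈ D8.group F2 := by
      rw [hg']
      exact Cfsg.Agent.Lib.Helper18_ChevPar.nGL_mem_group Cfsg.Agent.Lib.Helper18_ChevDatumE8.dcert j
    refine ⟨⟨g, hgG⟩, ⟨?_, ?_⟩, rfl⟩
    · rw [hS]
      exact ⟨j, hj, hg⟩
    · intro hgk
      have h3 : (3 : ℕ) < D8.rank := by rw [rank_eq]; omega
      have hk' : (k : GLE) = nGL Cfsg.Agent.Lib.Helper18_ChevDatumE8.dcert 3 :=
        Units.ext (by rw [nGL_coe]; exact hk)
      have : j = 3 := by
        apply nGL_injective j 3 hj h3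
        rw [← hg', ← hk', ← hgk]
      exact hjJ this

end Cfsg.Agent.Lib.Helper4_E8C_BRIDGE
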