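import Cfsg.Agent.Lib.Helper4_E8Defs
import Cfsg.Agent.Lib.Helper18_ChevData5

set_option autoImplicit false

/-! S5751 package GRAD-A: the level function `lv` of `E₈` is a grading. -/

namespace Cfsg.Agent.Lib.Helper4_E8C_GRADA

open Cfsg Cfsg.Lie Cfsg.Agent.Lib.Helper18_MatTri Cfsg.Agent.Lib.Helper18_ChevTri
  Cfsg.Agent.Lib.Helper4_E8Defs Cfsg.Agent.Lib.Helper18_ChevAdd Cfsg.Agent.Lib.Helper18_ChevACerts
  Cfsg.Agent.Lib.Helper18_ChevFacts Cfsg.Agent.Lib.Helper18_ChevTorus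

/-- The weights of the level function: the fourth row of the inverse Cartan matrix of `E₈`. -/
def w3 : List ℤ := [10, 15, 20, 30, 24, 18, 12, 6]

theorem lv_eq_grL : ∀ r < 240, lv r = grL D8 w3 r := by
  decide +kernel

theorem nroots_eq : D8.nroots = 240 := rfl

theorem lv_eq_grRoot (r : ℕ) (hr : r < D8.nroots) : lv r = grRoot D8 w3 r := by
  rw [nroots_eq] at hr
  rw [← grL_eq]; exact lv_eq_grL r hr

/-- GRAD-A. -/
theorem isGrading_lv : IsGrading D8 lv := by
  have hg := isGrading_w Cfsg.Agent.Lib.Helper18_ChevDatumE8.dcert Cfsg.Agent.Lib.Helper18_ChevTCertE8.tcert w3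
  constructor
  · intro s hs
    have h1 : D8.neg s < D8.nroots := DCert.neg_lt Cfsg.Agent.Lib.Helper18_ChevDatumE8.dcert s hs
    unfold ChevalleyDatum.neg at h1
    rw [lv_eq_grRoot _ h1, lv_eq_grRoot s hs]
    exact hg.neg s hs
  · intro r s u hr hs hu km hkm
    rw [lv_eq_grRoot u hu, lv_eq_grRoot s hs, lv_eq_grRoot r hr]
    exact hg.chain r s u hr hs hu km hkm

end Cfsg.Agent.Lib.Helper4_E8C_GRADA
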