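import Cfsg.Agent.Lib.Helper18_ChevLevi

set_option autoImplicit false

/-!
Definitions for the statement S5751 (iterated cores of two conjugate maximal parabolic subgroups of `E₈(2)`).

Setting: `D8 = chevE8`, the field `F2 = ZMod 2`, the ambient group `GLE = GL D8.Idx F2`.  The fundamental root
`p₄` (index `3`, 0-based) has coefficient `6` in the highest root.  `lv r` is the coefficient of the root `r` on
`p₄` (the *level* of `r`); `J3` is the set of the other seven nodes, `PJ = P_{J3}` the corresponding maximal
parabolic subgroup, `Q j` the subgroup generated by the root subgroups `X_r`, `r` positive of level `≥ j`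
(so `Q 1 = U_{J3}` is the unipotent radical, `Q 7 = 1`), and `tco r g` a matrix entry of `g` that reads off the
parameter of `x_r(t)`.
-/

namespace Cfsg.Agent.Lib.Helper4_E8Defs

open Cfsg Cfsg.Lie Cfsg.Agent.Lib.Helper18_MatTri Cfsg.Agent.Lib.Helper18_ChevTri

/-- The datum of type `E₈`. -/
abbrev D8 : ChevalleyDatum := chevE8

/-- The field with two elements. -/
abbrev F2 : Type := ZMod 2

/-- The ambient general linear group. -/
abbrev GLE : Type := GL D8.Idx F2

/-- The level of a root: its coefficient on the fundamental root `p₄` (index `3`). For `E₈` the coroot table is the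
table of the coefficients of the roots on the fundamental roots. -/
def lv (r : ℕ) : ℤ := (D8.coroot.getD r #[]).getD 3 0

/-- The seven nodes other than `3`. -/
def J3 : Set ℕ := {i | i ≠ 3}

/-- The maximal parabolic subgroup `P_J`, `J` the complement of the node `3`. -/
def PJ : Subgroup GLE := D8.parabolicSubgroup F2 J3

/-- The root elements of the positive roots of level at least `j`. -/
def qGens (j : ℕ) : Set GLE :=
  {g | ∃ (r : ℕ) (t : F2), D8.IsPosRoot r ∧ (j : ℤ) ≤ lv r ∧ (g : Matrix D8.Idx D8.Idx F2) = D8.x F2 r t}

/-- The subgroup generated by the root subgroups of the positive roots of level at least `j`. -/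
def Q (j : ℕ) : Subgroup GLE := Subgroup.closure (qGens j)

/-- `n` is the element `n_{p₄} = n_{p₄}(1)`. -/
def IsNk (n : GLE) : Prop := (n : Matrix D8.Idx D8.Idx F2) = D8.nMat F2 (D8.simple 3) 1

/-- The least index of an odd coefficient of the coroot of `r` (`0` if there is none). -/
def oddIx (r : ℕ) : ℕ :=
  ((List.range 8).find? fun i => decide ((D8.coroot.getD r #[]).getD i 0 % 2 = 1)).getD 0

/-- The coordinate of a matrix at the root `r`: its entry in the row of `h_i`, `i = oddIx r`, and the column of
`e_{-r}`.  For `g = x_r(t)` it is `t`, for `g = x_s(t)`, `s ≠ r`, it is `0`. -/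
def tco (r : ℕ) (g : GLE) : F2 :=
  if h : D8.neg r < D8.nroots then
    (g : Matrix D8.Idx D8.Idx F2) (Sum.inl ⟨oddIx r % 8, Nat.mod_lt _ (by decide)⟩) (Sum.inr ⟨D8.neg r, h⟩)
  else 0

/-- The invertible matrices `g` such that `g - 1` raises the level by at least `j`. -/
def T (j : ℕ) : Subgroup GLE := triSubgroup (R := F2) (grIdx D8 lv) (j : ℤ) (Int.natCast_nonneg j)

/-- The positive roots of level at least `j`, in increasing order. -/
def lvRoots (j : ℕ) : List ℕ := D8.posRoots.filter fun r => decide ((j : ℤ) ≤ lv r)

end Cfsg.Agent.Lib.Helper4_E8Defs
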