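import Cfsg.Agent.Lib.Helper36_ChevSimpleAll

set_option autoImplicit false

/-! Irreducibility of the (B,N)-pair of a tabulated Chevalley group (extracted from helper36's simplicity proof). -/

namespace Cfsg.Agent.Lib.Helper4_E8Irr

open Cfsg Cfsg.Lie Cfsg.Agent.Lib.Helper36_ChevTorus Cfsg.Agent.Lib.Helper36_ChevTorusAll
  Cfsg.Agent.Lib.Helper36_ChevW0 Cfsg.Agent.Lib.Helper36_ChevW0All Cfsg.Agent.Lib.Helper36_ChevBorelAll
  Cfsg.Agent.Lib.Helper36_ChevTables Cfsg.Agent.Lib.Helper36_ChevIrr Cfsg.Agent.Lib.Helper36_ChevSimple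
  Cfsg.Agent.Lib.Helper36_ChevSimpleAll

theorem bn_irreducible_of_mem {F : Type*} [Field F] (D : ChevalleyDatum)
    (hD : D ∈ [chevG2, chevB2, chevD4, chevF4, chevE6, chevE7, chevE8])
    (P : Cfsg.BNPair ↥(D.group F)) (hB : P.B = (D.borelSubgroup F).subgroupOf (D.group F))
    (hS : P.S = {n : ↥(D.group F) | ∃ i < D.rank,
      ((n : GL D.Idx F) : Matrix D.Idx D.Idx F) = D.nMat F (D.simple i) 1}) :
    P.Irreducible := by
  have hf := facts_of_mem D hD F
  obtain ⟨tbl, off, M, hht⟩ := htOK_of_mem D hD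
  obtain ⟨rtbl, es, htbl, hes, -⟩ := irrOK_of_mem D hD
  exact bn_irreducible D F hf (chainOK_of_mem D hD) tbl off M hht (allConj_of_mem D hD F) rtbl htbl es hes P hB hS

end Cfsg.Agent.Lib.Helper4_E8Irr
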