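import Cfsg.Agent.Lib.Helper4_E8Main
import Cfsg.Agent.Lib.Helper4_E8Irr
import Cfsg.Agent.S1042
import Cfsg.Agent.S1054

set_option autoImplicit false

/-!
Assembly for S5751, part 2: transfer to the Chevalley group `E₈(2)` itself and the final statement.
-/

namespace Cfsg.Agent.Lib.Helper4_E8Final

open Cfsg Cfsg.Lie Cfsg.Agent.Lib.Helper4_E8Defs Cfsg.Agent.Lib.Helper4_E8Pk Cfsg.Agent.Lib.Helper4_E8Main
  Cfsg.Agent.Lib.Helper18_ChevGL

/-- The Chevalley group `E₈(2)` as a subgroup of the general linear group. -/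
abbrev grp : Subgroup GLE := D8.group F2

theorem hD8 : D8 ∈ [chevG2, chevB2, chevD4, chevF4, chevE6, chevE7, chevE8] := by simp [D8]

theorem PJ_le_grp : PJ ≤ grp :=
  Cfsg.Agent.Lib.Helper18_ChevPar.parabolic_le_group Cfsg.Agent.Lib.Helper18_ChevDatumE8.dcert J3

/-- Membership in the image of a restricted subgroup under an inner automorphism. -/
theorem mem_map_conj_subgroupOf (K : Subgroup GLE) (k x : ↥grp) :
    x ∈ (K.subgroupOf grp).map (MulAut.conj k).toMonoidHom ↔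
      (x : GLE) ∈ K.map (MulAut.conj (k : GLE)).toMonoidHom := by
  constructor
  · intro h
    rw [Subgroup.mem_map] at h ⊢
    obtain ⟨y, hy, hyx⟩ := h
    refine ⟨(y : GLE), Subgroup.mem_subgroupOf.mp hy, ?_⟩
    have : k * y * k⁻¹ = x := hyx
    rw [← this]
    rfl
  · intro h
    rw [Subgroup.mem_map] at h ⊢
    obtain ⟨v, hv, hvx⟩ := h
    have hvx' : (k : GLE) * v * (k : GLE)⁻¹ = (x : GLE) := hvx
    have hvg : v ∈ grp := by
      have : v = (k : GLE)⁻¹ * (x : GLE) * (k : GLE) := by rw [← hvx']; group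
      rw [this]
      exact grp.mul_mem (grp.mul_mem (grp.inv_mem k.2) x.2) k.2
    refine ⟨⟨v, hvg⟩, Subgroup.mem_subgroupOf.mpr hv, ?_⟩
    apply Subtype.ext
    show (k : GLE) * v * (k : GLE)⁻¹ = (x : GLE)
    exact hvx'

/-- Normalisers restrict. -/
theorem normalizer_subgroupOf (K L : Subgroup GLE) (h : L ≤ Subgroup.normalizer (K : Set GLE)) :
    L.subgroupOf grp ≤ Subgroup.normalizer ((K.subgroupOf grp : Subgroup ↥grp) : Set ↥grp) := by
  intro m hm
  rw [Subgroup.mem_normalizer_iff]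
  intro x
  have h1 := Subgroup.mem_normalizer_iff.mp (h (Subgroup.mem_subgroupOf.mp hm)) (x : GLE)
  rw [Subgroup.mem_subgroupOf, Subgroup.mem_subgroupOf]
  exact h1

/-- A subgroup of `E₈(2)` normalised by the restriction of `L ≤ E₈(2)` has its image normalised by `L`. -/
theorem normalizer_map_subtype (N' : Subgroup ↥grp) (L : Subgroup GLE) (hL : L ≤ grp)
    (h : L.subgroupOf grp ≤ Subgroup.normalizer (N' : Set ↥grp)) :
    L ≤ Subgroup.normalizer ((N'.map grp.subtype : Subgroup GLE) : Set GLE) := by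
  have key : ∀ p ∈ L, ∀ x ∈ N'.map grp.subtype, p * x * p⁻¹ ∈ N'.map grp.subtype := by
    intro p hp x hx
    rw [Subgroup.mem_map] at hx ⊢
    obtain ⟨y, hy, rfl⟩ := hx
    have hpm : (⟨p, hL hp⟩ : ↥grp) ∈ L.subgroupOf grp := Subgroup.mem_subgroupOf.mpr hp
    have := (Subgroup.mem_normalizer_iff.mp (h hpm) y).mp hy
    exact ⟨_, this, rfl⟩
  intro p hp
  rw [Subgroup.mem_normalizer_iff]
  intro x
  constructor
  · exact key p hp x
  · intro hx
    have := key p⁻¹ (L.inv_mem hp) _ hx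
    have e : p⁻¹ * (p * x * p⁻¹) * p⁻¹⁻¹ = x := by group
    rwa [e] at this

/-- The chain inside `E₈(2)`. -/
def R (i : ℕ) : Subgroup ↥grp := (Rs i).subgroupOf grp

/-- The pair of sequences of the statement. -/
def AB (M₁ M₂ : Subgroup ↥grp) : ℕ → Subgroup ↥grp × Subgroup ↥grp
  | 0 => (M₁, M₂)
  | i + 1 => ((((AB M₁ M₂ i).1 ⊓ (AB M₁ M₂ i).2).subgroupOf M₁).normalCore.map M₁.subtype,
      (((AB M₁ M₂ i).1 ⊓ (AB M₁ M₂ i).2).subgroupOf M₂).normalCore.map M₂.subtype)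

theorem main :
    ∃ (G : Type) (_ : Group G) (_ : Finite G) (M₁ M₂ : Subgroup G) (g : G) (A B : ℕ → Subgroup G),
      IsCoatom M₁ ∧ M₂ = M₁.map (MulAut.conj g).toMonoidHom ∧ M₁ ≠ M₂ ∧ M₁.normalCore = ⊥ ∧ A 0 = M₁ ∧ B 0 = M₂ ∧
      (∀ i, A (i + 1) = ((A i ⊓ B i).subgroupOf M₁).normalCore.map M₁.subtype) ∧
      (∀ i, B (i + 1) = ((A i ⊓ B i).subgroupOf M₂).normalCore.map M₂.subtype) ∧ A 6 = ⊥ ∧ A 5 ≠ ⊥ := by
  obtain ⟨P, hB, -, hS⟩ := Cfsg.Agent.S1042.result (F := F2) D8 hD8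
  have hirr : P.Irreducible := Cfsg.Agent.Lib.Helper4_E8Irr.bn_irreducible_of_mem D8 hD8 P hB hS
  -- the element `n_{p₄}`
  let k : ↥grp := ⟨nGL Cfsg.Agent.Lib.Helper18_ChevDatumE8.dcert 3,
    Cfsg.Agent.Lib.Helper18_ChevPar.nGL_mem_group Cfsg.Agent.Lib.Helper18_ChevDatumE8.dcert 3⟩
  have hk : IsNk (k : GLE) := nGL_coe Cfsg.Agent.Lib.Helper18_ChevDatumE8.dcert 3
  obtain ⟨hkS, hM⟩ := parabolic_eq P hB hS k hk
  have hkk : k * k = 1 := Subtype.ext (h_trivial.2.2 _ hk)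
  -- the hypotheses of the chain lemma
  have h0 : R 0 = P.parabolic (P.S \ {k}) := hM.symm
  have hnorm : ∀ i, P.parabolic (P.S \ {k}) ≤ Subgroup.normalizer (R (i + 1) : Set ↥grp) := by
    intro i
    rw [hM]
    exact normalizer_subgroupOf _ _ (Rs_norm i)
  have hle : ∀ i, R (i + 1) ≤ R i ⊓ (R i).map (MulAut.conj k).toMonoidHom := by
    intro i x hx
    have h1 := Subgroup.mem_inf.mp (Rs_le (k : GLE) hk i (Subgroup.mem_subgroupOf.mp hx))
    exact Subgroup.mem_inf.mpr ⟨Subgroup.mem_subgroupOf.mpr h1.1, (mem_map_conj_subgroupOf _ k x).mpr h1.2⟩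
  have hup : ∀ i (N : Subgroup ↥grp), N ≤ R i ⊓ (R i).map (MulAut.conj k).toMonoidHom →
      P.parabolic (P.S \ {k}) ≤ Subgroup.normalizer (N : Set ↥grp) → N ≤ R (i + 1) := by
    intro i N hN hnN
    have hN' : N.map grp.subtype ≤ Rs i ⊓ (Rs i).map (MulAut.conj (k : GLE)).toMonoidHom := by
      intro x hx
      rw [Subgroup.mem_map] at hx
      obtain ⟨y, hy, rfl⟩ := hx
      have h1 := Subgroup.mem_inf.mp (hN hy)
      exact Subgroup.mem_inf.mpr ⟨Subgroup.mem_subgroupOf.mp h1.1, (mem_map_conj_subgroupOf _ k y).mp h1.2⟩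
    have hnN' : PJ ≤ Subgroup.normalizer ((N.map grp.subtype : Subgroup GLE) : Set GLE) := by
      apply normalizer_map_subtype N PJ PJ_le_grp
      rw [← hM]
      exact hnN
    have hU : i = 0 → N.map grp.subtype ≤ D8.posUnipotent F2 := by
      rintro rfl
      have h2 : N ≤ P.B := by
        apply tits_le_B P hirr hkS N _ hnN
        rw [← h0]
        exact hN
      intro x hx
      rw [Subgroup.mem_map] at hx
      obtain ⟨y, hy, rfl⟩ := hx
      have h3 := h2 hy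
      rw [hB, Subgroup.mem_subgroupOf, h_trivial.2.1] at h3
      exact h3
    intro y hy
    exact Subgroup.mem_subgroupOf.mpr (Rs_up (k : GLE) hk i _ hN' hnN' hU (Subgroup.mem_map.mpr ⟨y, hy, rfl⟩))
  -- the two sequences
  let M₁ := P.parabolic (P.S \ {k})
  let M₂ := M₁.map (MulAut.conj k).toMonoidHom
  have hchain := chain_abs M₁ k hkk R h0 hnorm hle hup (fun i => (AB M₁ M₂ i).1) (fun i => (AB M₁ M₂ i).2)
    rfl rfl (fun _ => rfl) (fun _ => rfl)
  have hcoatom : IsCoatom M₁ := parabolic_isCoatom P hkS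
  have hsimple := (Cfsg.Agent.S1054.result (F := F2) D8 (by simp [D8])).1
  refine ⟨↥grp, inferInstance, inferInstance, M₁, M₂, k, fun i => (AB M₁ M₂ i).1, fun i => (AB M₁ M₂ i).2,
    hcoatom, rfl, parabolic_conj_ne P hkS, ?_, rfl, rfl, fun _ => rfl, fun _ => rfl, ?_, ?_⟩
  · rcases hsimple.eq_bot_or_eq_top_of_normal M₁.normalCore inferInstance with h | h
    · exact h
    · exfalso
      apply hcoatom.1
      rw [eq_top_iff, ← h]
      exact Subgroup.normalCore_le M₁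
  · show (AB M₁ M₂ 6).1 = ⊥
    rw [(hchain 6).1]
    show (Q 7).subgroupOf grp = ⊥
    rw [Q_top.1]
    exact Subgroup.bot_subgroupOf grp
  · show (AB M₁ M₂ 5).1 ≠ ⊥
    rw [(hchain 5).1]
    show (Q 6).subgroupOf grp ≠ ⊥
    intro h
    rw [Subgroup.subgroupOf_eq_bot] at h
    apply Q_top.2.1
    have hle6 : Q 6 ≤ grp := by
      have : ∀ m, Q (1 + m) ≤ Q 1 := by
        intro m
        induction m with
        | zero => exact le_refl _
        | succ m ih => exact (Q_top.2.2.2 (1 + m)).trans ih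
      exact ((this 5).trans Q_top.2.2.1).trans PJ_le_grp
    exact (disjoint_self.mp (h.mono_right hle6))

end Cfsg.Agent.Lib.Helper4_E8Final
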