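import Cfsg.Agent.Lib.Helper4_E8Tools
import Cfsg.Agent.Lib.Helper18_ChevData5
import Cfsg.Agent.Lib.Helper18_ChevPar

set_option autoImplicit false

/-!
Assembly for S5751, part 1: inside `GL`, the descending chain `R 0 = P_J`, `R (i+1) = Q (i+2)` satisfies the
hypotheses of the abstract chain lemma (except for the step from `P_J ∩ n P_J n⁻¹` to `U`, which is the (B,N)-pair
part).
-/

namespace Cfsg.Agent.Lib.Helper4_E8Main

open Cfsg Cfsg.Lie Cfsg.Agent.Lib.Helper18_MatTri Cfsg.Agent.Lib.Helper18_ChevTri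
  Cfsg.Agent.Lib.Helper4_E8Defs Cfsg.Agent.Lib.Helper4_E8Pk Cfsg.Agent.Lib.Helper18_ChevGL

theorem exists_x (r : ℕ) (t : F2) : ∃ y : GLE, (y : Matrix D8.Idx D8.Idx F2) = D8.x F2 r t :=
  ⟨xGL Cfsg.Agent.Lib.Helper18_ChevDatumE8.dcert r t, xGL_coe _ r t⟩

/-- Propagation of the vanishing of a coordinate along a translation by a Levi root. -/
theorem step_prop (j : ℕ) (hj : 1 ≤ j) (N : Subgroup GLE) (hN : N ≤ Q j)
    (hnorm : PJ ≤ Subgroup.normalizer (N : Set GLE)) :
    ∀ β r s, D8.InRootSub J3 β → D8.IsPosRoot r → lv r = j → D8.chainRoot β r 1 = some s →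
      (∀ u ∈ N, tco s u = 0) → (∀ u ∈ N, tco r u = 0) := by
  intro β r s hβ hr hlr hs hZ u hu
  obtain ⟨y, hy⟩ := exists_x β 1
  have hyP : y ∈ PJ := x_mem_PJ β hβ 1 y hy
  have hy' : y * u * y⁻¹ ∈ N := (Subgroup.mem_normalizer_iff.mp (hnorm hyP) u).mp hu
  have h1 := tco_conj_x j hj β r s hβ hr hlr hs y hy u (hN hu)
  rw [hZ _ hy', hZ u hu, zero_add] at h1
  exact h1.symm

theorem inv_eq_self (n : GLE) (hn : IsNk n) : n⁻¹ = n :=
  inv_eq_of_mul_eq_one_left (h_trivial.2.2 n hn)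

/-- The upper bound at the levels `2, …, 6`. -/
theorem up_ge_two (n : GLE) (hn : IsNk n) (j : ℕ) (hj : 2 ≤ j) (hj6 : j ≤ 6) (N : Subgroup GLE)
    (hN : N ≤ Q j ⊓ (Q j).map (MulAut.conj n).toMonoidHom)
    (hnorm : PJ ≤ Subgroup.normalizer (N : Set GLE)) : N ≤ Q (j + 1) := by
  have hNQ : N ≤ Q j := hN.trans inf_le_left
  have key := conn_ge_two j hj hj6 (fun s => ∀ u ∈ N, tco s u = 0)
    (step_prop j (by omega) N hNQ hnorm) (by
      intro b hb hlb hcb u hu
      have h2 : u ∈ (Q j).map (MulAut.conj n).toMonoidHom := (Subgroup.mem_inf.mp (hN hu)).2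
      rw [Subgroup.mem_map] at h2
      obtain ⟨v, hv, hvu⟩ := h2
      have hvu' : n * v * n⁻¹ = u := hvu
      have h3 : n * u * n⁻¹ ∈ Q j := by
        have hnn : n * n = 1 := h_trivial.2.2 n hn
        have : n * u * n⁻¹ = v := by
          rw [← hvu', inv_eq_self n hn]
          calc n * (n * v * n) * n = (n * n) * v * (n * n) := by group
            _ = v := by rw [hnn]; group
        rw [this]; exact hv
      exact tco_bad n hn j hj u (hNQ hu) h3 b hb hlb hcb)
  intro u hu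
  exact mem_Q_succ j (by omega) u (hNQ hu) (fun s hs hl => key s hs hl u hu)

/-- The upper bound at the level `1`. -/
theorem up_one (n : GLE) (hn : IsNk n) (N : Subgroup GLE)
    (hN : N ≤ Q 1 ⊓ PJ.map (MulAut.conj n).toMonoidHom)
    (hnorm : PJ ≤ Subgroup.normalizer (N : Set GLE)) : N ≤ Q 2 := by
  have hNQ : N ≤ Q 1 := hN.trans inf_le_left
  have key := conn_one (fun s => ∀ u ∈ N, tco s u = 0)
    (step_prop 1 (le_refl 1) N hNQ hnorm) (by
      intro u hu
      have h2 : u ∈ PJ.map (MulAut.conj n).toMonoidHom := (Subgroup.mem_inf.mp (hN hu)).2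
      rw [Subgroup.mem_map] at h2
      obtain ⟨v, hv, hvu⟩ := h2
      have hvu' : n * v * n⁻¹ = u := hvu
      have h3 : n * u * n⁻¹ ∈ PJ := by
        have hnn : n * n = 1 := h_trivial.2.2 n hn
        have : n * u * n⁻¹ = v := by
          rw [← hvu', inv_eq_self n hn]
          calc n * (n * v * n) * n = (n * n) * v * (n * n) := by group
            _ = v := by rw [hnn]; group
        rw [this]; exact hv
      exact tco_bad_one n hn u (hNQ hu) h3)
  intro u hu
  exact mem_Q_succ 1 (le_refl 1) u (hNQ hu) (fun s hs hl => key s hs (by exact_mod_cast hl) u hu)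

/-- The chain in `GL`. -/
def Rs : ℕ → Subgroup GLE
  | 0 => PJ
  | i + 1 => Q (i + 2)

theorem Rs_norm (i : ℕ) : PJ ≤ Subgroup.normalizer (Rs (i + 1) : Set GLE) :=
  PJ_le_normalizer_Q (i + 2) (by omega)

theorem mem_map_conj_of (n : GLE) (hn : IsNk n) (K K' : Subgroup GLE)
    (h : K.map (MulAut.conj n).toMonoidHom ≤ K') : K ≤ K'.map (MulAut.conj n).toMonoidHom := by
  intro u hu
  rw [Subgroup.mem_map]
  refine ⟨n * u * n⁻¹, h (Subgroup.mem_map.mpr ⟨u, hu, rfl⟩), ?_⟩
  have hnn : n * n = 1 := h_trivial.2.2 n hn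
  show n * (n * u * n⁻¹) * n⁻¹ = u
  rw [inv_eq_self n hn]
  calc n * (n * u * n) * n = (n * n) * u * (n * n) := by group
    _ = u := by rw [hnn]; group

theorem Rs_le (n : GLE) (hn : IsNk n) (i : ℕ) :
    Rs (i + 1) ≤ Rs i ⊓ (Rs i).map (MulAut.conj n).toMonoidHom := by
  cases i with
  | zero =>
    show Q 2 ≤ PJ ⊓ PJ.map (MulAut.conj n).toMonoidHom
    refine le_inf ((Q_top.2.2.2 1).trans Q_top.2.2.1) ?_
    apply mem_map_conj_of n hn
    exact (conj_nk_Q n hn 1 (le_refl 1)).trans Q_top.2.2.1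
  | succ i =>
    show Q (i + 3) ≤ Q (i + 2) ⊓ (Q (i + 2)).map (MulAut.conj n).toMonoidHom
    refine le_inf (Q_top.2.2.2 (i + 2)) ?_
    apply mem_map_conj_of n hn
    exact conj_nk_Q n hn (i + 2) (by omega)

theorem Rs_up (n : GLE) (hn : IsNk n) (i : ℕ) (N : Subgroup GLE)
    (hN : N ≤ Rs i ⊓ (Rs i).map (MulAut.conj n).toMonoidHom)
    (hnorm : PJ ≤ Subgroup.normalizer (N : Set GLE)) (hU : i = 0 → N ≤ D8.posUnipotent F2) :
    N ≤ Rs (i + 1) := by
  cases i with
  | zero =>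
    show N ≤ Q 2
    have h1 : N ≤ Q 1 := le_Q_one N (hU rfl) hnorm
    exact up_one n hn N (le_inf h1 (hN.trans inf_le_right)) hnorm
  | succ i =>
    show N ≤ Q (i + 3)
    by_cases h6 : i + 2 ≤ 6
    · exact up_ge_two n hn (i + 2) (by omega) h6 N hN hnorm
    · have h7 : Q (i + 2) ≤ Q 7 := by
        have : ∀ m, Q (7 + m) ≤ Q 7 := by
          intro m
          induction m with
          | zero => exact le_refl _
          | succ m ih => exact (Q_top.2.2.2 (7 + m)).trans ih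
        have e : i + 2 = 7 + (i - 5) := by omega
        rw [e]; exact this _
      have : N ≤ ⊥ := by
        rw [← Q_top.1]
        exact (hN.trans inf_le_left).trans h7
      exact this.trans bot_le

end Cfsg.Agent.Lib.Helper4_E8Main
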