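import Cfsg.Agent.Lib.Helper54_E8C_BAD1Core
import Cfsg.Agent.Lib.Helper58_E8C_PTRI
import Cfsg.Agent.Lib.Helper78_E8C_WORD
import Cfsg.Agent.Lib.Helper99_E8C_WORDT

set_option autoImplicit false

/-!
E8C market (architect helper4, statement S5751), package BAD1: if `u ∈ Q 1` and `n u n⁻¹ ∈ P_J` for `n = n_{p₄}`,
then the coordinate of `u` at `p₄` vanishes.
-/

namespace Cfsg.Agent.Lib.Helper54_E8C_BAD1

open Cfsg Cfsg.Lie Cfsg.Agent.Lib.Helper18_MatTri Cfsg.Agent.Lib.Helper18_ChevTri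
  Cfsg.Agent.Lib.Helper4_E8Defs

set_option maxHeartbeats 0 in
/-- Table facts on the root `p₄`. -/
theorem p4_facts :
    D8.IsPosRoot (D8.simple 3) ∧ lv (D8.simple 3) = 1 ∧ D8.reflectRoot 3 (D8.simple 3) = D8.neg (D8.simple 3) ∧
    D8.neg (D8.simple 3) < D8.nroots ∧ lv (D8.neg (D8.simple 3)) = -1 ∧
    ((D8.cartanSR.getD 2 #[]).getD (D8.neg (D8.simple 3)) 0) % 2 = 1 := by
  decide +kernel

set_option maxHeartbeats 0 in
/-- Table fact: the reflection in `p₄` permutes the positive roots other than `p₄`. -/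
theorem refl_pos : ∀ a < 240, D8.IsPosRoot a → a ≠ D8.simple 3 → D8.IsPosRoot (D8.reflectRoot 3 a) := by
  decide +kernel

/-- BAD1. -/
theorem tco_bad_one (n : GLE) (hn : IsNk n) (u : GLE) (hu : u ∈ Q 1) (hu' : n * u * n⁻¹ ∈ PJ) :
    tco (D8.simple 3) u = 0 := by
  obtain ⟨f1, f2, f3, f4, f5, f6⟩ := p4_facts
  have hn' : n = Cfsg.Agent.Lib.Helper18_ChevGL.nGL Cfsg.Agent.Lib.Helper18_ChevDatumE8.dcert 3 :=
    Units.ext (by rw [Cfsg.Agent.Lib.Helper18_ChevGL.nGL_coe]; exact hn)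
  exact Cfsg.Agent.Lib.Helper54_E8C_BAD1Core.tco_bad_one_core Cfsg.Agent.Lib.Helper18_ChevDatumE8.dcert
    Cfsg.Agent.Lib.Helper78_E8C_WORD.exists_word
    Cfsg.Agent.Lib.Helper99_E8C_WORDT.tco_word
    Cfsg.Agent.Lib.Helper58_E8C_PTRI.PJ_le_T
    (D8.simple 3) (D8.neg (D8.simple 3)) f1 f2 f3 f4 f5 f6 refl_pos n hn' u hu hu'

end Cfsg.Agent.Lib.Helper54_E8C_BAD1
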