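import Cfsg.Agent.Lib.Helper54_E8C_Core
import Cfsg.Agent.Lib.Helper18_ChevDatumE8

set_option autoImplicit false

/-!
E8C market (architect helper4, statement S5751), package NCONJ: `n Q(j+1) n⁻¹ ≤ Q j` for `n = n_{p₄}` and `j ≥ 1`.
-/

namespace Cfsg.Agent.Lib.Helper54_E8C_NCONJ

open Cfsg Cfsg.Lie Cfsg.Agent.Lib.Helper18_MatTri Cfsg.Agent.Lib.Helper18_ChevTri
  Cfsg.Agent.Lib.Helper4_E8Defs

set_option maxHeartbeats 0 in
/-- Table fact: the reflection in `p₄` maps a root of level `≥ 2` to a positive root, and lowers the level by at most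
one. -/
theorem refl_level : ∀ r < 240, 2 ≤ lv r →
    D8.IsPosRoot (D8.reflectRoot 3 r) ∧ lv r - 1 ≤ lv (D8.reflectRoot 3 r) := by
  decide +kernel

/-- NCONJ. -/
theorem conj_nk_Q (n : GLE) (hn : IsNk n) (j : ℕ) (hj : 1 ≤ j) :
    (Q (j + 1)).map (MulAut.conj n).toMonoidHom ≤ Q j :=
  Cfsg.Agent.Lib.Helper54_E8C_Core.conj_nk_Q_core Cfsg.Agent.Lib.Helper18_ChevDatumE8.dcert refl_level n hn j hj

end Cfsg.Agent.Lib.Helper54_E8C_NCONJ
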