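import Cfsg.Agent.Lib.Helper54_E8C_BADJCore
import Cfsg.Agent.Lib.Helper54_E8C_NCONJ
import Cfsg.Agent.Lib.Helper43_E8C_GRADB
import Cfsg.Agent.Lib.Helper4_E8C_GRADA
import Cfsg.Agent.Lib.Helper58_E8C_TADD
import Cfsg.Agent.Lib.Helper78_E8C_WORD
import Cfsg.Agent.Lib.Helper99_E8C_WORDT

set_option autoImplicit false

/-!
E8C market (architect helper4, statement S5751), package BADJ: if `u ∈ Q j` (`j ≥ 2`) and `n u n⁻¹ ∈ Q j` for
`n = n_{p₄}`, then the coordinate of `u` at every positive root `b` of level `j` with `A_{p₄,b} = 1` vanishes.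
-/

namespace Cfsg.Agent.Lib.Helper54_E8C_BADJ

open Cfsg Cfsg.Lie Cfsg.Agent.Lib.Helper18_MatTri Cfsg.Agent.Lib.Helper18_ChevTri
  Cfsg.Agent.Lib.Helper4_E8Defs

/-- Table fact (from GRAD-B): the level of the reflection in `p₄`. -/
theorem lv_reflect_three (r : ℕ) (hr : r < 240) : lv (D8.reflectRoot 3 r) = lv r - D8.cartan 3 r := by
  have h := Cfsg.Agent.Lib.Helper43_E8C_GRADB.lv_reflect 3 (by decide) r hr
  rw [if_pos rfl] at h
  exact h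

/-- QTRI (local copy): `Q j ≤ T j`. -/
theorem Q_le_T_aux (j : ℕ) (hj : 1 ≤ j) : Q j ≤ T j := by
  unfold Q
  rw [Subgroup.closure_le]
  rintro g ⟨r, t, hr, hlv, hg⟩
  show Raises _ _ _
  rw [hg]
  exact x_sub_one_raises Cfsg.Agent.Lib.Helper4_E8C_GRADA.isGrading_lv r hr.1 (j : ℤ) (by exact_mod_cast hj) hlv t

/-- BADJ. -/
theorem tco_bad (n : GLE) (hn : IsNk n) (j : ℕ) (hj : 2 ≤ j) (u : GLE) (hu : u ∈ Q j)
    (hu' : n * u * n⁻¹ ∈ Q j) (b : ℕ) (hb : D8.IsPosRoot b) (hlb : lv b = j) (hcb : D8.cartan 3 b = 1) :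
    tco b u = 0 :=
  Cfsg.Agent.Lib.Helper54_E8C_BADJCore.tco_bad_core Cfsg.Agent.Lib.Helper18_ChevDatumE8.dcert
    Cfsg.Agent.Lib.Helper78_E8C_WORD.exists_word
    Cfsg.Agent.Lib.Helper99_E8C_WORDT.tco_word
    Q_le_T_aux
    Cfsg.Agent.Lib.Helper58_E8C_TADD.tco_mul
    Cfsg.Agent.Lib.Helper54_E8C_NCONJ.refl_level lv_reflect_three n hn j hj u hu hu' b hb hlb hcb

end Cfsg.Agent.Lib.Helper54_E8C_BADJ
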