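import Cfsg.Agent.Lib.Helper54_E8C_Core
import Cfsg.Agent.Lib.Helper18_ChevDatumE8
import Cfsg.Agent.Lib.Helper18_ChevTCertE8
import Cfsg.Agent.Lib.Helper18_ChevACerts

set_option autoImplicit false

/-!
E8C market (architect helper4, statement S5751), package XPJ: the root elements of the Levi roots lie in `P_J`.
-/

namespace Cfsg.Agent.Lib.Helper54_E8C_XPJ

open Cfsg Cfsg.Lie Cfsg.Agent.Lib.Helper18_MatTri Cfsg.Agent.Lib.Helper18_ChevTri
  Cfsg.Agent.Lib.Helper4_E8Defs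

/-- XPJ.  The root elements of the Levi roots lie in `P_J`. -/
theorem x_mem_PJ (β : ℕ) (hβ : D8.InRootSub J3 β) (t : F2) (y : GLE)
    (hy : (y : Matrix D8.Idx D8.Idx F2) = D8.x F2 β t) : y ∈ PJ :=
  Cfsg.Agent.Lib.Helper54_E8C_Core.x_mem_PJ_core Cfsg.Agent.Lib.Helper18_ChevDatumE8.dcert
    Cfsg.Agent.Lib.Helper18_ChevTCertE8.tcert Cfsg.Agent.Lib.Helper18_ChevACerts.acertE8
    (Cfsg.Agent.Lib.Helper18_ChevJCerts.descent_all chevE8 (by simp)) β hβ t y hy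

end Cfsg.Agent.Lib.Helper54_E8C_XPJ
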