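import Cfsg.Prelude.Def_ChevStructure
import Cfsg.Prelude.Def_ChevE8

/-!
# S5751 package CONN1 (helper4's market `e8c_packages`), table part

Connectivity of the level 1 of `E₈` with respect to the node `3`: every positive root of level 1 is joined to the
fundamental root `p₄` by a chain of translations by roots of the Levi subsystem.  Stated on the raw tables of
`Cfsg.Lie.chevE8` (no import of the Chevalley library); `Helper5_E8C_CONN1` restates it with helper4's definitions.
-/

set_option autoImplicit false

namespace Cfsg.Agent.Lib.Helper5_E8C_CONN1Raw

open Cfsg Cfsg.Lie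

/-- the level of a root (coefficient on `p₄`), on the raw table -/
def lvRaw (r : ℕ) : ℤ := (chevE8.coroot.getD r #[]).getD 3 0

/-- the positive roots of level 1 -/
def lev1 : List ℕ := [130, 131, 132, 133, 134, 136, 137, 138, 139, 140, 142, 143, 144, 145, 146, 147, 148, 149, 150, 151, 164, 165, 166, 167, 168, 169, 170, 171, 172, 173]

theorem mem_lev1 : ∀ r < 240, chevE8.IsPosRoot r → lvRaw r = 1 → r ∈ lev1 := by
  decide +kernel

theorem inRootSub_of (β : ℕ) (h1 : β < 240) (h2 : (chevE8.coroot.getD β #[]).getD 3 0 = 0) :
    chevE8.InRootSub {i | i ≠ 3} β := by
  refine ⟨h1, ?_⟩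
  intro i _ hi
  have h3 : i = 3 := by
    by_contra h
    exact hi h
  rw [h3]
  exact h2


/-- **CONN1**, on the raw tables. -/
theorem conn_one_raw (Z : ℕ → Prop) (lvf : ℕ → ℤ) (J : Set ℕ) (hlv : ∀ r, lvf r = lvRaw r)
    (hJ : J = {i | i ≠ 3})
    (hstep : ∀ β r s, chevE8.InRootSub J β → chevE8.IsPosRoot r → lvf r = 1 →
      chevE8.chainRoot β r 1 = some s → Z s → Z r)
    (hbase : Z (chevE8.simple 3)) : ∀ r, chevE8.IsPosRoot r → lvf r = 1 → Z r := by
  subst hJ
  have hstep' : ∀ β r s, β < 240 → (chevE8.coroot.getD β #[]).getD 3 0 = 0 → chevE8.IsPosRoot r →
      lvRaw r = 1 → chevE8.chainRoot β r 1 = some s → Z s → Z r := by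
    intro β r s h1 h2 h3 h4 h5 h6
    exact hstep β r s (inRootSub_of β h1 h2) h3 (by rw [hlv]; exact h4) h5 h6
  have h130 : Z 130 := hbase
  have h131 : Z 131 := hstep' 113 131 130 (by decide +kernel) (by decide +kernel) (by decide +kernel)
    (by decide +kernel) (by decide +kernel) h130
  have h132 : Z 132 := hstep' 116 132 131 (by decide +kernel) (by decide +kernel) (by decide +kernel)
    (by decide +kernel) (by decide +kernel) h131
  have h133 : Z 133 := hstep' 118 133 132 (by decide +kernel) (by decide +kernel) (by decide +kernel)
    (by decide +kernel) (by decide +kernel) h132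
  have h134 : Z 134 := hstep' 119 134 133 (by decide +kernel) (by decide +kernel) (by decide +kernel)
    (by decide +kernel) (by decide +kernel) h133
  have h136 : Z 136 := hstep' 104 136 130 (by decide +kernel) (by decide +kernel) (by decide +kernel)
    (by decide +kernel) (by decide +kernel) h130
  have h137 : Z 137 := hstep' 104 137 131 (by decide +kernel) (by decide +kernel) (by decide +kernel)
    (by decide +kernel) (by decide +kernel) h131
  have h138 : Z 138 := hstep' 104 138 132 (by decide +kernel) (by decide +kernel) (by decide +kernel)
    (by decide +kernel) (by decide +kernel) h132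
  have h139 : Z 139 := hstep' 104 139 133 (by decide +kernel) (by decide +kernel) (by decide +kernel)
    (by decide +kernel) (by decide +kernel) h133
  have h140 : Z 140 := hstep' 104 140 134 (by decide +kernel) (by decide +kernel) (by decide +kernel)
    (by decide +kernel) (by decide +kernel) h134
  have h142 : Z 142 := hstep' 98 142 130 (by decide +kernel) (by decide +kernel) (by decide +kernel)
    (by decide +kernel) (by decide +kernel) h130
  have h143 : Z 143 := hstep' 98 143 131 (by decide +kernel) (by decide +kernel) (by decide +kernel)
    (by decide +kernel) (by decide +kernel) h131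
  have h144 : Z 144 := hstep' 98 144 132 (by decide +kernel) (by decide +kernel) (by decide +kernel)
    (by decide +kernel) (by decide +kernel) h132
  have h145 : Z 145 := hstep' 98 145 133 (by decide +kernel) (by decide +kernel) (by decide +kernel)
    (by decide +kernel) (by decide +kernel) h133
  have h146 : Z 146 := hstep' 98 146 134 (by decide +kernel) (by decide +kernel) (by decide +kernel)
    (by decide +kernel) (by decide +kernel) h134
  have h147 : Z 147 := hstep' 98 147 136 (by decide +kernel) (by decide +kernel) (by decide +kernel)
    (by decide +kernel) (by decide +kernel) h136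
  have h148 : Z 148 := hstep' 98 148 137 (by decide +kernel) (by decide +kernel) (by decide +kernel)
    (by decide +kernel) (by decide +kernel) h137
  have h149 : Z 149 := hstep' 98 149 138 (by decide +kernel) (by decide +kernel) (by decide +kernel)
    (by decide +kernel) (by decide +kernel) h138
  have h150 : Z 150 := hstep' 98 150 139 (by decide +kernel) (by decide +kernel) (by decide +kernel)
    (by decide +kernel) (by decide +kernel) h139
  have h151 : Z 151 := hstep' 98 151 140 (by decide +kernel) (by decide +kernel) (by decide +kernel)
    (by decide +kernel) (by decide +kernel) h140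
  have h164 : Z 164 := hstep' 77 164 136 (by decide +kernel) (by decide +kernel) (by decide +kernel)
    (by decide +kernel) (by decide +kernel) h136
  have h165 : Z 165 := hstep' 77 165 137 (by decide +kernel) (by decide +kernel) (by decide +kernel)
    (by decide +kernel) (by decide +kernel) h137
  have h166 : Z 166 := hstep' 77 166 138 (by decide +kernel) (by decide +kernel) (by decide +kernel)
    (by decide +kernel) (by decide +kernel) h138
  have h167 : Z 167 := hstep' 77 167 139 (by decide +kernel) (by decide +kernel) (by decide +kernel)
    (by decide +kernel) (by decide +kernel) h139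
  have h168 : Z 168 := hstep' 77 168 140 (by decide +kernel) (by decide +kernel) (by decide +kernel)
    (by decide +kernel) (by decide +kernel) h140
  have h169 : Z 169 := hstep' 77 169 147 (by decide +kernel) (by decide +kernel) (by decide +kernel)
    (by decide +kernel) (by decide +kernel) h147
  have h170 : Z 170 := hstep' 77 170 148 (by decide +kernel) (by decide +kernel) (by decide +kernel)
    (by decide +kernel) (by decide +kernel) h148
  have h171 : Z 171 := hstep' 77 171 149 (by decide +kernel) (by decide +kernel) (by decide +kernel)
    (by decide +kernel) (by decide +kernel) h149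
  have h172 : Z 172 := hstep' 77 172 150 (by decide +kernel) (by decide +kernel) (by decide +kernel)
    (by decide +kernel) (by decide +kernel) h150
  have h173 : Z 173 := hstep' 77 173 151 (by decide +kernel) (by decide +kernel) (by decide +kernel)
    (by decide +kernel) (by decide +kernel) h151
  intro r hr hl
  have hmem := mem_lev1 r hr.1 hr (by rw [← hlv]; exact hl)
  simp only [lev1, List.mem_cons, List.not_mem_nil, or_false] at hmem
  rcases hmem with rfl | rfl | rfl | rfl | rfl | rfl | rfl | rfl | rfl | rfl | rfl | rfl | rfl | rfl | rfl | rfl | rfl | rfl | rfl | rfl | rfl | rfl | rfl | rfl | rfl | rfl | rfl | rfl | rfl | rfl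
  all_goals assumption

end Cfsg.Agent.Lib.Helper5_E8C_CONN1Raw
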