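import Cfsg.Agent.Lib.Helper4_E8Defs
import Cfsg.Agent.Lib.Helper5_E8C_CONN1Raw

/-!
# S5751 package CONN1 (helper4's market `e8c_packages`)

Connectivity of the level 1 of `E₈` (node `3`), with helper4's definitions; the table part is
`Helper5_E8C_CONN1Raw.conn_one_raw`.
-/

set_option autoImplicit false

namespace Cfsg.Agent.Lib.Helper5_E8C_CONN1

open Cfsg Cfsg.Lie Cfsg.Agent.Lib.Helper18_MatTri Cfsg.Agent.Lib.Helper18_ChevTri
  Cfsg.Agent.Lib.Helper4_E8Defs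

/-- CONN1.  Connectivity of the level 1. -/
theorem conn_one (Z : ℕ → Prop)
    (hstep : ∀ β r s, D8.InRootSub J3 β → D8.IsPosRoot r → lv r = 1 → D8.chainRoot β r 1 = some s → Z s → Z r)
    (hbase : Z (D8.simple 3)) : ∀ r, D8.IsPosRoot r → lv r = 1 → Z r := by
  have h1 : ∀ r, lv r = Cfsg.Agent.Lib.Helper5_E8C_CONN1Raw.lvRaw r := by
    intro r
    unfold lv Cfsg.Agent.Lib.Helper5_E8C_CONN1Raw.lvRaw D8
    rfl
  have h2 : J3 = {i | i ≠ 3} := rfl
  exact Cfsg.Agent.Lib.Helper5_E8C_CONN1Raw.conn_one_raw Z lv J3 h1 h2 hstep hbase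

end Cfsg.Agent.Lib.Helper5_E8C_CONN1
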