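import Cfsg.Agent.Lib.Helper4_E8Defs
import Cfsg.Agent.Lib.Helper6_BNPairC
import Cfsg.Agent.Lib.Helper18_ChevDatumE8
import Cfsg.Agent.Lib.Helper18_ChevTCertE8

set_option autoImplicit false

/-!
S5751 package H2 (architect helper4): over the field with two elements the diagonal subgroup of `E₈(2)` is
trivial, `B = U`, and `n_{p₄}` is an involution.
-/

namespace Cfsg.Agent.Lib.Helper60_E8C_H2

open Cfsg Cfsg.Lie Cfsg.Agent.Lib.Helper18_MatTri Cfsg.Agent.Lib.Helper18_ChevTri
  Cfsg.Agent.Lib.Helper4_E8Defs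
open Cfsg.Agent.Lib.Helper18_ChevWeyl Cfsg.Agent.Lib.Helper18_ChevBorel Cfsg.Agent.Lib.Helper18_ChevBN
  Cfsg.Agent.Lib.Helper18_ChevGL Cfsg.Agent.Lib.Helper18_ChevTorus Cfsg.Agent.Lib.Helper18_ChevN

theorem f2_eq_one (a : F2) (ha : a ≠ 0) : a = 1 := by
  revert a
  decide

/-- H2 from the certificates of the datum. -/
theorem h_trivial_of {Ns : List NData} (c : DCert D8 Ns) (tc : TCert D8) :
    D8.diagonalSubgroup F2 = ⊥ ∧ D8.borelSubgroup F2 = D8.posUnipotent F2 ∧
      ∀ n : GLE, IsNk n → n * n = 1 := by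
  have hH : D8.diagonalSubgroup F2 = ⊥ := by
    rw [Subgroup.eq_bot_iff_forall]
    intro g hg
    obtain ⟨t, ht, hgt⟩ := exists_torus_of_mem c tc g hg
    have ht1 : t = fun _ => (1 : F2) := by
      funext i
      exact f2_eq_one (t i) (ht i)
    apply Units.ext
    rw [hgt, ht1, torusMat_one]
    rfl
  refine ⟨hH, ?_, ?_⟩
  · unfold ChevalleyDatum.borelSubgroup
    rw [hH, sup_bot_eq]
  · intro n hn
    have hn' : n = nGL c 3 := by
      apply Units.ext
      rw [nGL_coe]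
      exact hn
    have h1 := nGL_sq_mem (F := F2) c 3 (by decide)
    rw [hH, Subgroup.mem_bot] at h1
    rw [hn']
    exact h1

/-- H2.  Over the field with two elements the diagonal subgroup is trivial, `B = U`, and `n_{p_4}` is an
involution. -/
theorem h_trivial :
    D8.diagonalSubgroup F2 = ⊥ ∧ D8.borelSubgroup F2 = D8.posUnipotent F2 ∧ ∀ n : GLE, IsNk n → n * n = 1 :=
  h_trivial_of Cfsg.Agent.Lib.Helper18_ChevDatumE8.dcert Cfsg.Agent.Lib.Helper18_ChevTCertE8.tcert

end Cfsg.Agent.Lib.Helper60_E8C_H2
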