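import Cfsg.Agent.Lib.Helper4_E8Defs

set_option autoImplicit false

/-!
S5751, market E8C (architect helper4), core of the package UJ: the statements of NORM (`j = 1`), W0J, the positivity of
the levels of the positive roots and `U ∩ V = 1` enter as hypotheses.
-/

namespace Cfsg.Agent.Lib.Helper61_E8C_UJcore

open Cfsg Cfsg.Lie Cfsg.Agent.Lib.Helper18_MatTri Cfsg.Agent.Lib.Helper18_ChevTri
  Cfsg.Agent.Lib.Helper4_E8Defs Cfsg.Agent.Lib.Helper18_ChevLevi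

open scoped Pointwise

/-- The subgroup generated by the root subgroups of the positive roots of level `0`. -/
def U0 : Subgroup GLE :=
  Subgroup.closure {g | ∃ (r : ℕ) (t : F2), D8.IsPosRoot r ∧ lv r = 0 ∧
    (g : Matrix D8.Idx D8.Idx F2) = D8.x F2 r t}

theorem le_Q_one_core
    (hNORM : PJ ≤ Subgroup.normalizer (Q 1 : Set GLE))
    (hpos : ∀ r, D8.IsPosRoot r → 0 ≤ lv r)
    (hW0J : ∃ n₀ ∈ PJ, ∀ r, D8.IsPosRoot r → lv r = 0 → ∀ (t : F2) (y : GLE),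
      (y : Matrix D8.Idx D8.Idx F2) = D8.x F2 r t → n₀ * y * n₀⁻¹ ∈ D8.negUnipotent F2)
    (hUV : D8.borelSubgroup F2 ⊓ D8.negUnipotent F2 = ⊥)
    (N : Subgroup GLE) (hN : N ≤ D8.posUnipotent F2)
    (hnorm : PJ ≤ Subgroup.normalizer (N : Set GLE)) : N ≤ Q 1 := by
  have hUB : D8.posUnipotent F2 ≤ D8.borelSubgroup F2 := le_sup_left
  have hUP : D8.posUnipotent F2 ≤ PJ := hUB.trans (borel_le_parabolic J3)
  have hU0U : U0 ≤ D8.posUnipotent F2 := by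
    apply Subgroup.closure_mono
    rintro g ⟨r, t, hr, -, hg⟩
    exact ⟨r, t, hr, hg⟩
  have hQ1U : Q 1 ≤ D8.posUnipotent F2 := by
    apply Subgroup.closure_mono
    rintro g ⟨r, t, hr, -, hg⟩
    exact ⟨r, t, hr, hg⟩
  have hUle : D8.posUnipotent F2 ≤ Q 1 ⊔ U0 := by
    unfold ChevalleyDatum.posUnipotent
    rw [Subgroup.closure_le]
    rintro g ⟨r, t, hr, hg⟩
    have h0 := hpos r hr
    by_cases h1 : (1 : ℤ) ≤ lv r
    · exact (le_sup_left : Q 1 ≤ Q 1 ⊔ U0) (Subgroup.subset_closure ⟨r, t, hr, by exact_mod_cast h1, hg⟩)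
    · have h2 : lv r = 0 := by omega
      exact (le_sup_right : U0 ≤ Q 1 ⊔ U0) (Subgroup.subset_closure ⟨r, t, hr, h2, hg⟩)
  have hU0norm : U0 ≤ Subgroup.normalizer (Q 1 : Set GLE) := hU0U.trans (hUP.trans hNORM)
  have hN'norm : PJ ≤ Subgroup.normalizer ((N ⊔ Q 1 : Subgroup GLE) : Set GLE) := by
    intro g hg
    exact Subgroup.normalizer_inf_normalizer_le_normalizer_sup N (Q 1) ⟨hnorm hg, hNORM hg⟩
  have hN'U : N ⊔ Q 1 ≤ D8.posUnipotent F2 := sup_le hN hQ1U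
  obtain ⟨n₀, hn₀P, hn₀⟩ := hW0J
  have hU0V : U0 ≤ (D8.negUnipotent F2).comap (MulAut.conj n₀).toMonoidHom := by
    unfold U0
    rw [Subgroup.closure_le]
    rintro g ⟨r, t, hr, hl, hg⟩
    rw [SetLike.mem_coe, Subgroup.mem_comap, MulEquiv.coe_toMonoidHom, MulAut.conj_apply]
    exact hn₀ r hr hl t g hg
  intro u hu
  have hu' : u ∈ ((Q 1 ⊔ U0 : Subgroup GLE) : Set GLE) := hUle (hN hu)
  rw [Subgroup.coe_mul_of_right_le_normalizer_left (Q 1) U0 hU0norm] at hu'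
  obtain ⟨u₁, hu₁, u₂, hu₂, rfl⟩ := hu'
  change u₁ * u₂ ∈ N at hu
  have hu₂N' : u₂ ∈ N ⊔ Q 1 := by
    have e : u₂ = u₁⁻¹ * (u₁ * u₂) := by group
    rw [e]
    exact Subgroup.mul_mem _ (Subgroup.inv_mem _ ((le_sup_right : Q 1 ≤ N ⊔ Q 1) hu₁))
      ((le_sup_left : N ≤ N ⊔ Q 1) hu)
  have h1 : n₀ * u₂ * n₀⁻¹ ∈ N ⊔ Q 1 := (Subgroup.mem_normalizer_iff.mp (hN'norm hn₀P) u₂).mp hu₂N'
  have h2 : n₀ * u₂ * n₀⁻¹ ∈ D8.negUnipotent F2 := by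
    have h := hU0V hu₂
    rw [Subgroup.mem_comap, MulEquiv.coe_toMonoidHom, MulAut.conj_apply] at h
    exact h
  have h3 : n₀ * u₂ * n₀⁻¹ ∈ D8.borelSubgroup F2 ⊓ D8.negUnipotent F2 := ⟨hUB (hN'U h1), h2⟩
  rw [hUV, Subgroup.mem_bot] at h3
  have h4 : u₂ = 1 := by
    have e : u₂ = n₀⁻¹ * (n₀ * u₂ * n₀⁻¹) * n₀ := by group
    rw [e, h3]
    group
  rw [h4]
  show u₁ * 1 ∈ Q 1
  rw [mul_one]
  exact hu₁

end Cfsg.Agent.Lib.Helper61_E8C_UJcore
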