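import Cfsg.Agent.Lib.Helper4_E8Defs
import Cfsg.Agent.Lib.Helper18_ChevDatumE8

set_option autoImplicit false

/-!
S5751, market E8C (architect helper4), package W0J: a representative of the longest element of `W_J` in `P_J` which
conjugates the root subgroups of the positive roots of level `0` into `V`.
-/

namespace Cfsg.Agent.Lib.Helper61_E8C_W0J

open Cfsg Cfsg.Lie Cfsg.Agent.Lib.Helper18_MatTri Cfsg.Agent.Lib.Helper18_ChevTri
  Cfsg.Agent.Lib.Helper4_E8Defs Cfsg.Agent.Lib.Helper18_ChevGL Cfsg.Agent.Lib.Helper18_ChevLevi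
  Cfsg.Agent.Lib.Helper18_ChevWeyl Cfsg.Agent.Lib.Helper18_ChevN

/-- Conjugation of a root element by a product of the elements `n_i`. -/
theorem prod_conj {D : ChevalleyDatum} {Ns : List NData} (c : DCert D Ns)
    {F : Type*} [Field F] (L : List ℕ) (hL : ∀ i ∈ L, i < D.rank) :
    ∀ (r : ℕ), r < D.nroots → ∀ t : F, ∃ t' : F,
      L.foldr (fun i s => D.reflectRoot i s) r < D.nroots ∧
      (L.map (nGL (F := F) c)).prod * xGL c r t * ((L.map (nGL (F := F) c)).prod)⁻¹ =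
        xGL c (L.foldr (fun i s => D.reflectRoot i s) r) t' := by
  induction L with
  | nil =>
    intro r hr t
    exact ⟨t, hr, by simp⟩
  | cons i L ih =>
    intro r hr t
    obtain ⟨t', hlt, h⟩ := ih (fun j hj => hL j (List.mem_cons_of_mem _ hj)) r hr t
    have hi := hL i List.mem_cons_self
    refine ⟨((etaZ Ns i (L.foldr (fun i s => D.reflectRoot i s) r) : ℤ) : F) * t',
      c.reflect_lt i hi _ hlt, ?_⟩
    rw [List.map_cons, List.prod_cons, List.foldr_cons, ← nGL_conj c i hi _ hlt t', ← h]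
    group

/-- The word of the longest element of `W_J`. -/
def wd : List ℕ := [0, 2, 0, 1, 4, 5, 4, 6, 5, 4, 7, 6, 5, 4]

theorem wd_mem : ∀ i ∈ wd, i < 8 ∧ i ≠ 3 := by decide

set_option maxRecDepth 100000 in
theorem tbl : ∀ r < 240, D8.IsPosRoot r → lv r = 0 →
    D8.IsNegRoot (wd.foldr (fun i s => D8.reflectRoot i s) r) := by
  decide +kernel

/-- W0J. -/
theorem exists_w0J : ∃ n₀ ∈ PJ, ∀ r, D8.IsPosRoot r → lv r = 0 → ∀ (t : F2) (y : GLE),
    (y : Matrix D8.Idx D8.Idx F2) = D8.x F2 r t → n₀ * y * n₀⁻¹ ∈ D8.negUnipotent F2 := by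
  refine ⟨(wd.map (nGL (F := F2) Cfsg.Agent.Lib.Helper18_ChevDatumE8.dcert)).prod, ?_, ?_⟩
  · apply Subgroup.list_prod_mem
    intro g hg
    rw [List.mem_map] at hg
    obtain ⟨i, hi, rfl⟩ := hg
    exact nGL_mem_parabolic J3 Cfsg.Agent.Lib.Helper18_ChevDatumE8.dcert i (wd_mem i hi).1 (wd_mem i hi).2
  · intro r hr hlv t y hy
    rw [eq_xGL Cfsg.Agent.Lib.Helper18_ChevDatumE8.dcert hy]
    obtain ⟨t', hlt, h⟩ := prod_conj Cfsg.Agent.Lib.Helper18_ChevDatumE8.dcert wd
      (fun i hi => (wd_mem i hi).1) r hr.1 t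
    rw [h]
    apply Subgroup.subset_closure
    exact ⟨wd.foldr (fun i s => D8.reflectRoot i s) r, t', tbl r hr.1 hr hlv, xGL_coe _ _ _⟩

end Cfsg.Agent.Lib.Helper61_E8C_W0J
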