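import Cfsg.Agent.Lib.Helper4_E8Defs
import Cfsg.Agent.Lib.Helper6_BNPairC
import Cfsg.Agent.Lib.Helper18_ChevDatumE8
import Cfsg.Agent.Lib.Helper18_ChevTCertE8
import Cfsg.Agent.Lib.Helper18_ChevACerts
import Cfsg.Agent.Lib.Helper18_ChevPCertE8
import Cfsg.Agent.Lib.Helper43_E8C_GRADB
import Cfsg.Agent.Lib.Helper99_E8C_GRADA

set_option autoImplicit false

/-!
E8C market (architect helper4, statement S5751), package NORM: the maximal parabolic subgroup `P_J` normalizes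
every term `Q j` (`j ≥ 1`) of the level filtration of its unipotent radical.

The generic part (any datum, any grading that is nonnegative on the positive roots, positive only on positive
roots, and invariant under the reflections of `J`) is `parabolic_le_normalizer_lv`; the `E₈` certificates and the
table facts of GRAD-B and GRAD-A give the statement.
-/

namespace Cfsg.Agent.Lib.Helper99_E8C_NORM

open Cfsg Cfsg.Lie Cfsg.Agent.Lib.Helper18_ChevFast Cfsg.Agent.Lib.Helper18_ChevEngine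
  Cfsg.Agent.Lib.Helper18_ChevR1 Cfsg.Agent.Lib.Helper18_ChevN Cfsg.Agent.Lib.Helper18_ChevR4
  Cfsg.Agent.Lib.Helper18_ChevSimple Cfsg.Agent.Lib.Helper18_ChevSimple2 Cfsg.Agent.Lib.Helper18_ChevFacts
  Cfsg.Agent.Lib.Helper18_ChevWeyl Cfsg.Agent.Lib.Helper18_ChevDiag Cfsg.Agent.Lib.Helper18_ChevCar
  Cfsg.Agent.Lib.Helper18_ChevTorus Cfsg.Agent.Lib.Helper18_ChevGL Cfsg.Agent.Lib.Helper18_ChevComm
  Cfsg.Agent.Lib.Helper18_ChevComm2 Cfsg.Agent.Lib.Helper18_MatTri Cfsg.Agent.Lib.Helper18_ChevTri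
  Cfsg.Agent.Lib.Helper18_ChevBorel Cfsg.Agent.Lib.Helper18_ChevAdd Cfsg.Agent.Lib.Helper18_ChevUni
  Cfsg.Agent.Lib.Helper18_ChevBN Cfsg.Agent.Lib.Helper18_ChevMono Cfsg.Agent.Lib.Helper18_ChevBNPair
  Cfsg.Agent.Lib.Helper18_ChevJCerts Cfsg.Agent.Lib.Helper18_ChevLevi

section generic

variable {D : ChevalleyDatum} {Ns : List NData} {F : Type*} [Field F]
variable {wl : List ℤ} {ws : List (List ℤ)} {sc : ℤ}

/-- The root elements of the positive roots of `g`-level at least `j`. -/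
def lvGens (D : ChevalleyDatum) (F : Type*) [Field F] (g : ℕ → ℤ) (j : ℤ) : Set (GL D.Idx F) :=
  {x | ∃ (r : ℕ) (t : F), D.IsPosRoot r ∧ j ≤ g r ∧ (x : Matrix D.Idx D.Idx F) = D.x F r t}

theorem xGL_pos_mem_normalizer_lv (c : DCert D Ns) (tc : TCert D) (ac : ACert D wl ws sc) (hR2 : R2All D F)
    (g : ℕ → ℤ) (hg : IsGrading D g) (j : ℤ) (hj : 1 ≤ j)
    (hpos : ∀ r, D.IsPosRoot r → 0 ≤ g r) (hposr : ∀ r < D.nroots, 0 < g r → D.IsPosRoot r)
    (s : ℕ) (hs : D.IsPosRoot s) (t : F) :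
    xGL c s t ∈ Subgroup.normalizer (Subgroup.closure (lvGens D F g j) : Set (GL D.Idx F)) := by
  have key : ∀ (t : F), ∀ x ∈ lvGens D F g j,
      (xGL c s t)⁻¹ * x * xGL c s t ∈ Subgroup.closure (lvGens D F g j) := by
    intro t x hx
    obtain ⟨r, u, hr, hlv, hx⟩ := hx
    rw [eq_xGL c hx]
    by_cases hrs : r = s
    · subst hrs
      rw [xGL_inv, xGL_mul, xGL_mul]
      have : -t + u + t = u := by ring
      rw [this]
      exact Subgroup.subset_closure ⟨r, u, hr, hlv, rfl⟩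
    · have hneg : r ≠ D.neg s := by
        intro h
        have := neg_isNeg c tc ac s hs
        rw [← h] at this
        exact ac.not_pos_and_neg r hr this
      apply conj_mem_of_R2 c (hR2 s r hs.1 hr.1 hrs hneg)
      · intro u'
        exact Subgroup.subset_closure ⟨r, u', hr, hlv, rfl⟩
      · intro m hm a
        obtain ⟨hm1, ha, hb, hval⟩ := commTerms_grading c.rows ac.in_range hg s r hs.1 hr.1 m hm
        have hs0 := hpos s hs
        have hlvm : j ≤ g m.1 := by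
          rw [hval]
          have h1 : (1 : ℤ) ≤ (m.2.2.2 : ℤ) := by exact_mod_cast hb
          have h2 : (0 : ℤ) ≤ (m.2.2.1 : ℤ) := by positivity
          nlinarith
        exact Subgroup.subset_closure ⟨m.1, a, hposr m.1 hm1 (by omega), hlvm, rfl⟩
  apply mem_normalizer_closure
  · intro x hx
    have := key (-t) x hx
    rwa [← xGL_inv, inv_inv] at this
  · intro x hx
    exact key t x hx

theorem diagonal_le_normalizer_lv (c : DCert D Ns) (tc : TCert D) (g : ℕ → ℤ) (j : ℤ) :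
    D.diagonalSubgroup F ≤ Subgroup.normalizer (Subgroup.closure (lvGens D F g j) : Set (GL D.Idx F)) := by
  intro h hh
  have hconj : ∀ k ∈ D.diagonalSubgroup F, ∀ s ∈ lvGens D F g j,
      k * s * k⁻¹ ∈ Subgroup.closure (lvGens D F g j) := by
    intro k hk s hs
    obtain ⟨r, a, hr, hne, hs⟩ := hs
    obtain ⟨b, hb⟩ := diagonal_conj_xGL c tc k hk r hr.1 a
    rw [eq_xGL c hs, hb]
    exact Subgroup.subset_closure ⟨r, _, hr, hne, rfl⟩
  apply mem_normalizer_closure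
  · exact hconj h hh
  · intro s hs
    have := hconj h⁻¹ (Subgroup.inv_mem _ hh) s hs
    rwa [inv_inv] at this

theorem nGL_mem_normalizer_lv (c : DCert D Ns) (g : ℕ → ℤ) (j : ℤ) (hj : 1 ≤ j)
    (hposr : ∀ r < D.nroots, 0 < g r → D.IsPosRoot r) (i : ℕ) (hi : i < D.rank)
    (hrefl : ∀ r < D.nroots, g (D.reflectRoot i r) = g r) :
    nGL c i ∈ Subgroup.normalizer (Subgroup.closure (lvGens D F g j) : Set (GL D.Idx F)) := by
  apply mem_normalizer_closure
  · rintro x ⟨r, u, hr, hlv, hx⟩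
    rw [eq_xGL c hx, nGL_conj c i hi r hr.1]
    have h1 := c.reflect_lt i hi r hr.1
    have h2 : j ≤ g (D.reflectRoot i r) := by rw [hrefl r hr.1]; exact hlv
    exact Subgroup.subset_closure ⟨_, _, hposr _ h1 (by omega), h2, rfl⟩
  · rintro x ⟨r, u, hr, hlv, hx⟩
    rw [eq_xGL c hx, nGL_inv_conj c i hi r hr.1]
    have h1 := c.reflect_lt i hi r hr.1
    have h2 : j ≤ g (D.reflectRoot i r) := by rw [hrefl r hr.1]; exact hlv
    exact Subgroup.subset_closure ⟨_, _, hposr _ h1 (by omega), h2, rfl⟩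

theorem parabolic_le_normalizer_lv (c : DCert D Ns) (tc : TCert D) (ac : ACert D wl ws sc) (hR2 : R2All D F)
    (g : ℕ → ℤ) (hg : IsGrading D g) (J : Set ℕ) (j : ℤ) (hj : 1 ≤ j)
    (hpos : ∀ r, D.IsPosRoot r → 0 ≤ g r) (hposr : ∀ r < D.nroots, 0 < g r → D.IsPosRoot r)
    (hrefl : ∀ i < D.rank, i ∈ J → ∀ r < D.nroots, g (D.reflectRoot i r) = g r) :
    D.parabolicSubgroup F J ≤
      Subgroup.normalizer (Subgroup.closure (lvGens D F g j) : Set (GL D.Idx F)) := by
  unfold ChevalleyDatum.parabolicSubgroup ChevalleyDatum.borelSubgroup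
  apply sup_le
  · apply sup_le
    · unfold ChevalleyDatum.posUnipotent
      rw [Subgroup.closure_le]
      rintro x ⟨s, t, hs, hx⟩
      rw [eq_xGL c hx]
      exact xGL_pos_mem_normalizer_lv c tc ac hR2 g hg j hj hpos hposr s hs t
    · exact diagonal_le_normalizer_lv c tc g j
  · rw [Subgroup.closure_le]
    rintro x ⟨i, hiJ, hi, hx⟩
    have : x = nGL c i := Units.ext (by rw [hx, nGL_coe])
    rw [this]
    exact nGL_mem_normalizer_lv c g j hj hposr i hi (hrefl i hi hiJ)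

end generic

section final

open Cfsg.Agent.Lib.Helper4_E8Defs

theorem aux_qGens_eq (j : ℕ) : qGens j = lvGens D8 F2 lv (j : ℤ) := by
  unfold qGens lvGens
  exact Eq.refl _

/-- NORM.  `P_J` normalizes every `Q j`, `j ≥ 1`. -/
theorem PJ_le_normalizer_Q (j : ℕ) (hj : 1 ≤ j) : PJ ≤ Subgroup.normalizer (Q j : Set GLE) := by
  have hn : D8.nroots = 240 := Cfsg.Agent.Lib.Helper43_E8C_GRADB.nroots240
  have hrk : D8.rank = 8 := Cfsg.Agent.Lib.Helper43_E8C_GRADB.rank8
  have hrefl : ∀ i < D8.rank, i ∈ J3 → ∀ r < D8.nroots, lv (D8.reflectRoot i r) = lv r := by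
    intro i hi hiJ r hr
    rw [hrk] at hi
    rw [hn] at hr
    rw [Cfsg.Agent.Lib.Helper43_E8C_GRADB.mem_J3] at hiJ
    rw [Cfsg.Agent.Lib.Helper43_E8C_GRADB.lv_reflect i hi r hr, if_neg hiJ, sub_zero]
  have hposr : ∀ r < D8.nroots, 0 < lv r → D8.IsPosRoot r := by
    intro r hr h
    rw [hn] at hr
    exact Cfsg.Agent.Lib.Helper43_E8C_GRADB.pos_of_lv_pos r hr h
  have hpos : ∀ r, D8.IsPosRoot r → 0 ≤ lv r := fun r hr =>
    Cfsg.Agent.Lib.Helper43_E8C_GRADB.lv_nonneg_aux r (by rw [← hn]; exact hr.1) hr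
  have h := parabolic_le_normalizer_lv (F := F2) Cfsg.Agent.Lib.Helper18_ChevDatumE8.dcert
    Cfsg.Agent.Lib.Helper18_ChevTCertE8.tcert Cfsg.Agent.Lib.Helper18_ChevACerts.acertE8
    (Cfsg.Agent.Lib.Helper18_ChevComm2.r2_all Cfsg.Agent.Lib.Helper18_ChevDatumE8.dcert
      Cfsg.Agent.Lib.Helper18_ChevPCertE8.pcert)
    lv Cfsg.Agent.Lib.Helper99_E8C_GRADA.isGrading_lv J3 (j : ℤ) (by exact_mod_cast hj) hpos hposr hrefl
  unfold PJ Q
  rw [aux_qGens_eq]
  exact h

end final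

end Cfsg.Agent.Lib.Helper99_E8C_NORM
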