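import Cfsg.Agent.Lib.Helper4_E8Defs
import Cfsg.Agent.Lib.Helper61_E8C_UJcore
import Cfsg.Agent.Lib.Helper61_E8C_W0J
import Cfsg.Agent.Lib.Helper43_E8C_GRADB
import Cfsg.Agent.Lib.Helper99_E8C_NORM
import Cfsg.Agent.S1037

set_option autoImplicit false

/-!
E8C market (architect helper4, statement S5751), package UJ: a subgroup of the positive unipotent group of
`E₈(2)` that is normalized by the maximal parabolic `P_J` lies in the unipotent radical `Q 1`.

Thin wrapper: the argument is `Helper61_E8C_UJcore.le_Q_one_core`; its hypotheses are supplied by NORM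
(`P_J` normalizes `Q 1`), GRAD-B (the level of a simple root), W0J (the longest element of `W_J`) and S1037.
-/

namespace Cfsg.Agent.Lib.Helper61_E8C_UJ

open Cfsg Cfsg.Lie Cfsg.Agent.Lib.Helper18_MatTri Cfsg.Agent.Lib.Helper18_ChevTri
  Cfsg.Agent.Lib.Helper4_E8Defs

/-- UJ. -/
theorem le_Q_one (N : Subgroup GLE) (hN : N ≤ D8.posUnipotent F2)
    (hnorm : PJ ≤ Subgroup.normalizer (N : Set GLE)) : N ≤ Q 1 :=
  Cfsg.Agent.Lib.Helper61_E8C_UJcore.le_Q_one_core
    (Cfsg.Agent.Lib.Helper99_E8C_NORM.PJ_le_normalizer_Q 1 le_rfl)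
    Cfsg.Agent.Lib.Helper43_E8C_GRADB.lv_facts.2.2.2.2.1
    Cfsg.Agent.Lib.Helper61_E8C_W0J.exists_w0J
    (Cfsg.Agent.S1037.result (F := F2) D8 (by simp)).1 N hN hnorm

end Cfsg.Agent.Lib.Helper61_E8C_UJ
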