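import Cfsg.Agent.Lib.Helper8_E8C_TX

/-!
# S5751 package TOP (helper4's market `e8c_packages`)

`Q 7 = ⊥`, `Q 6 ≠ ⊥`, `Q 1 ≤ P_J`, and `Q` is antitone.
-/

set_option autoImplicit false

namespace Cfsg.Agent.Lib.Helper8_E8C_TOP

open Cfsg Cfsg.Lie Cfsg.Agent.Lib.Helper18_MatTri Cfsg.Agent.Lib.Helper18_ChevTri
  Cfsg.Agent.Lib.Helper4_E8Defs Cfsg.Agent.Lib.Helper18_ChevFacts Cfsg.Agent.Lib.Helper18_ChevWeyl
  Cfsg.Agent.Lib.Helper18_ChevTorus Cfsg.Agent.Lib.Helper18_ChevUni Cfsg.Agent.Lib.Helper18_ChevGL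
  Cfsg.Agent.Lib.Helper18_ChevLevi

theorem lv_le_six : ∀ r < 240, lv r ≤ 6 := by decide +kernel

theorem pos_239 : D8.IsPosRoot 239 := by decide +kernel

theorem lv_239 : lv 239 = 6 := by decide +kernel

theorem Q_top : Q 7 = ⊥ ∧ Q 6 ≠ ⊥ ∧ Q 1 ≤ PJ ∧ ∀ j, Q (j + 1) ≤ Q j := by
  have c := Cfsg.Agent.Lib.Helper18_ChevDatumE8.dcert
  refine ⟨?_, ?_, ?_, ?_⟩
  · unfold Q
    rw [Subgroup.closure_eq_bot_iff]
    rintro g ⟨r, t, hr, hlv, hg⟩
    exfalso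
    have := lv_le_six r hr.1
    have h7 : ((7 : ℕ) : ℤ) = 7 := rfl
    rw [h7] at hlv
    omega
  · intro hbot
    have hmem : xGL c 239 (1 : F2) ∈ Q 6 := by
      apply Subgroup.subset_closure
      refine ⟨239, 1, pos_239, ?_, rfl⟩
      rw [lv_239]; rfl
    rw [hbot, Subgroup.mem_bot] at hmem
    have h1 : tco 239 (xGL c 239 (1 : F2)) = 1 := by
      rw [Cfsg.Agent.Lib.Helper8_E8C_TX.tco_x 239 239 (by norm_num) (by norm_num) 1 _ rfl, if_pos rfl]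
    rw [hmem] at h1
    have hnr : D8.neg 239 < D8.nroots := DCert.neg_lt c 239 (by decide)
    unfold tco at h1
    rw [dif_pos hnr, Units.val_one, Matrix.one_apply_ne Sum.inl_ne_inr] at h1
    exact zero_ne_one h1
  · unfold Q
    rw [Subgroup.closure_le]
    rintro g ⟨r, t, hr, -, hg⟩
    rw [eq_xGL c hg]
    exact xGL_pos_mem_parabolic J3 c r hr t
  · intro j
    unfold Q
    apply Subgroup.closure_mono
    rintro g ⟨r, t, hr, hlv, hg⟩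
    refine ⟨r, t, hr, ?_, hg⟩
    push_cast at hlv ⊢
    omega

end Cfsg.Agent.Lib.Helper8_E8C_TOP
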