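import Cfsg.Agent.Lib.Helper93_E8C_Core
import Cfsg.Agent.Lib.Helper78_E8C_WORD
import Cfsg.Agent.Lib.Helper18_ChevDatumE8
import Cfsg.Agent.Lib.Helper18_ChevTCertE8
import Cfsg.Agent.Lib.Helper18_ChevACerts
import Cfsg.Agent.Lib.Helper18_ChevPCertE8

set_option autoImplicit false

/-!
Package CONJX of S5751 (architect helper4): conjugation by `x_β(1)`, `β` a root of the Levi subsystem, adds the
coordinate at `r` to the coordinate at `β + r`.
-/

namespace Cfsg.Agent.Lib.Helper93_E8C_CONJX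

open Cfsg Cfsg.Lie Cfsg.Agent.Lib.Helper18_ChevFast Cfsg.Agent.Lib.Helper18_ChevEngine
  Cfsg.Agent.Lib.Helper18_ChevR1 Cfsg.Agent.Lib.Helper18_ChevN Cfsg.Agent.Lib.Helper18_ChevR4
  Cfsg.Agent.Lib.Helper18_ChevSimple Cfsg.Agent.Lib.Helper18_ChevSimple2 Cfsg.Agent.Lib.Helper18_ChevFacts
  Cfsg.Agent.Lib.Helper18_ChevWeyl Cfsg.Agent.Lib.Helper18_ChevDiag Cfsg.Agent.Lib.Helper18_ChevCar
  Cfsg.Agent.Lib.Helper18_ChevTorus Cfsg.Agent.Lib.Helper18_ChevGL Cfsg.Agent.Lib.Helper18_ChevComm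
  Cfsg.Agent.Lib.Helper18_ChevComm2 Cfsg.Agent.Lib.Helper18_MatTri Cfsg.Agent.Lib.Helper18_ChevTri
  Cfsg.Agent.Lib.Helper18_ChevBorel Cfsg.Agent.Lib.Helper18_ChevAdd Cfsg.Agent.Lib.Helper18_ChevUni
  Cfsg.Agent.Lib.Helper4_E8Defs Cfsg.Agent.Lib.Helper93_E8C_Tab Cfsg.Agent.Lib.Helper93_E8C_Core

variable {Ns : List NData} {wl : List ℤ} {ws : List (List ℤ)} {sc : ℤ}

/-- CONJX with the certificates and the package WORD as hypotheses. -/
theorem tco_conj_x_of (c : DCert D8 Ns) (tc : TCert D8) (ac : ACert D8 wl ws sc) (hR2 : R2All D8 F2)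
    (hWORD : ∀ (j : ℕ), 1 ≤ j → ∀ u : GLE, u ∈ Q j →
      ∃ t : ℕ → F2, (u : Matrix D8.Idx D8.Idx F2) = D8.wordMat F2 ((lvRoots j).map fun r => (r, t r)))
    (j : ℕ) (hj : 1 ≤ j) (β r s : ℕ) (hβ : D8.InRootSub J3 β) (hr : D8.IsPosRoot r)
    (hlr : lv r = j) (hs : D8.chainRoot β r 1 = some s) (y : GLE)
    (hy : (y : Matrix D8.Idx D8.Idx F2) = D8.x F2 β 1) (u : GLE) (hu : u ∈ Q j) :
    tco s (y * u * y⁻¹) = tco s u + tco r u := by
  obtain ⟨t, hut⟩ := hWORD j hj u hu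
  have hu' : u = wordGL c ((lvRoots j).map fun r => (r, t r)) := eq_wordGL c hut
  have hy' : y = xGL c β 1 := eq_xGL c hy
  have hβ240 : β < 240 := lt_240 hβ.1
  have hr240 : r < 240 := lt_240 hr.1
  have hlβ := lv_of_inRootSub β hβ
  obtain ⟨-, hs', hlvs⟩ := chainRoot_grading c.rows ac.in_range (isGrading_lv_of c tc) (lt_nroots hβ240)
    (le_refl 1) hs
  have hs240 : s < 240 := lt_240 hs'
  have hlvs' : lv s = j := by rw [hlvs, hlβ, hlr]; simp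
  have hL : ∀ a ∈ lvRoots j, a < 240 ∧ (j : ℤ) ≤ lv a := lvRoots_lt j
  have hw : ∀ p ∈ (lvRoots j).map (fun r => (r, t r)), p.1 < 240 ∧ (j : ℤ) ≤ lv p.1 := by
    intro p hp
    rw [List.mem_map] at hp
    obtain ⟨a, ha, rfl⟩ := hp
    exact hL a ha
  have hj' : (1 : ℤ) ≤ (j : ℤ) := by exact_mod_cast hj
  have hw' : ∀ p ∈ (lvRoots j).map (fun r => (r, t r)), p.1 < 240 ∧ p.1 ≠ β ∧ p.1 ≠ D8.neg β := by
    intro p hp
    obtain ⟨h1, h2⟩ := hw p hp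
    refine ⟨h1, ?_, ?_⟩
    · intro h
      rw [h, hlβ] at h2
      omega
    · intro h
      rw [h, lv_neg c tc β hβ240, hlβ] at h2
      omega
  rw [hy', hu']
  rw [conj_wordGL c hR2 β hβ240 _ hw']
  rw [tco_wordGL c tc j hj s hs240 hlvs' _ (conjWord_lv c tc ac j β hβ240 hlβ _ hw)]
  rw [conjWord_sum]
  rw [tco_wordGL_map c tc j hj s hs240 hlvs' (lvRoots j) hL t]
  rw [tco_wordGL_map c tc j hj r hr240 hlr (lvRoots j) hL t]
  rw [List.map_map]
  rw [← List.sum_map_add]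
  refine congrArg List.sum (List.map_congr_left (fun a ha => ?_))
  have key : (if D8.chainRoot β a 1 = some s then t a else 0) = if a = r then t a else 0 := by
    by_cases har : a = r
    · subst har
      rw [if_pos hs, if_pos rfl]
    · rw [if_neg har, if_neg]
      intro h
      exact har (chainRoot_inj c tc ac β a r s hβ240 h hs)
  simp only [Function.comp]
  rw [key]

/-- CONJX. -/
theorem tco_conj_x (j : ℕ) (hj : 1 ≤ j) (β r s : ℕ) (hβ : D8.InRootSub J3 β) (hr : D8.IsPosRoot r)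
    (hlr : lv r = j) (hs : D8.chainRoot β r 1 = some s) (y : GLE)
    (hy : (y : Matrix D8.Idx D8.Idx F2) = D8.x F2 β 1) (u : GLE) (hu : u ∈ Q j) :
    tco s (y * u * y⁻¹) = tco s u + tco r u :=
  tco_conj_x_of Cfsg.Agent.Lib.Helper18_ChevDatumE8.dcert Cfsg.Agent.Lib.Helper18_ChevTCertE8.tcert
    Cfsg.Agent.Lib.Helper18_ChevACerts.acertE8
    (r2_all Cfsg.Agent.Lib.Helper18_ChevDatumE8.dcert Cfsg.Agent.Lib.Helper18_ChevPCertE8.pcert)
    Cfsg.Agent.Lib.Helper78_E8C_WORD.exists_word j hj β r s hβ hr hlr hs y hy u hu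

end Cfsg.Agent.Lib.Helper93_E8C_CONJX
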