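import Cfsg.Agent.Lib.Helper93_E8C_Core
import Cfsg.Agent.Lib.Helper78_E8C_WORD
import Cfsg.Agent.Lib.Helper18_ChevDatumE8
import Cfsg.Agent.Lib.Helper18_ChevTCertE8

set_option autoImplicit false

/-!
Package KER of S5751 (architect helper4): an element of `Q j` all of whose coordinates of level `j` vanish lies in
`Q (j + 1)`.
-/

namespace Cfsg.Agent.Lib.Helper93_E8C_KER

open Cfsg Cfsg.Lie Cfsg.Agent.Lib.Helper18_ChevFast Cfsg.Agent.Lib.Helper18_ChevEngine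
  Cfsg.Agent.Lib.Helper18_ChevR1 Cfsg.Agent.Lib.Helper18_ChevN Cfsg.Agent.Lib.Helper18_ChevR4
  Cfsg.Agent.Lib.Helper18_ChevSimple Cfsg.Agent.Lib.Helper18_ChevSimple2 Cfsg.Agent.Lib.Helper18_ChevFacts
  Cfsg.Agent.Lib.Helper18_ChevWeyl Cfsg.Agent.Lib.Helper18_ChevDiag Cfsg.Agent.Lib.Helper18_ChevCar
  Cfsg.Agent.Lib.Helper18_ChevTorus Cfsg.Agent.Lib.Helper18_ChevGL Cfsg.Agent.Lib.Helper18_ChevComm
  Cfsg.Agent.Lib.Helper18_ChevComm2 Cfsg.Agent.Lib.Helper18_MatTri Cfsg.Agent.Lib.Helper18_ChevTri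
  Cfsg.Agent.Lib.Helper18_ChevBorel Cfsg.Agent.Lib.Helper18_ChevAdd Cfsg.Agent.Lib.Helper18_ChevUni
  Cfsg.Agent.Lib.Helper4_E8Defs Cfsg.Agent.Lib.Helper93_E8C_Tab Cfsg.Agent.Lib.Helper93_E8C_Core

variable {Ns : List NData}

/-- The coordinate of a product over a list without repetition is the parameter. -/
theorem tco_wordGL_mem (c : DCert D8 Ns) (tc : TCert D8) (j : ℕ) (hj : 1 ≤ j) (s : ℕ) (hs : s < 240)
    (hlv : lv s = j) (L : List ℕ) (hnd : L.Nodup) (hL : ∀ r ∈ L, r < 240 ∧ (j : ℤ) ≤ lv r) (t : ℕ → F2)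
    (hsL : s ∈ L) : tco s (wordGL c (L.map fun r => (r, t r))) = t s := by
  rw [tco_wordGL_map c tc j hj s hs hlv L hL t]
  rw [sum_map_single L hnd s hsL (fun r => if r = s then t r else 0) (fun r _ hr => if_neg hr)]
  exact if_pos rfl

/-- KER with the certificates and the package WORD as hypotheses. -/
theorem mem_Q_succ_of (c : DCert D8 Ns) (tc : TCert D8)
    (hWORD : ∀ (j : ℕ), 1 ≤ j → ∀ u : GLE, u ∈ Q j →
      ∃ t : ℕ → F2, (u : Matrix D8.Idx D8.Idx F2) = D8.wordMat F2 ((lvRoots j).map fun r => (r, t r)))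
    (j : ℕ) (hj : 1 ≤ j) (u : GLE) (hu : u ∈ Q j)
    (h0 : ∀ s, D8.IsPosRoot s → lv s = j → tco s u = 0) : u ∈ Q (j + 1) := by
  obtain ⟨t, hut⟩ := hWORD j hj u hu
  have hu' : u = wordGL c ((lvRoots j).map fun r => (r, t r)) := eq_wordGL c hut
  have hL : ∀ a ∈ lvRoots j, a < 240 ∧ (j : ℤ) ≤ lv a := lvRoots_lt j
  rw [hu']
  apply wordGL_mem
  intro p hp
  rw [List.mem_map] at hp
  obtain ⟨a, ha, rfl⟩ := hp
  have hapos := ((mem_lvRoots j a).mp ha).1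
  have hale := ((mem_lvRoots j a).mp ha).2
  by_cases hlva : lv a = j
  · have h1 := h0 a hapos hlva
    rw [hu', tco_wordGL_mem c tc j hj a (hL a ha).1 hlva (lvRoots j) (lvRoots_nodup j) hL t ha] at h1
    show xGL c a (t a) ∈ Q (j + 1)
    rw [h1, xGL_zero]
    exact Subgroup.one_mem _
  · show xGL c a (t a) ∈ Q (j + 1)
    apply Subgroup.subset_closure
    refine ⟨a, t a, hapos, ?_, xGL_coe c a (t a)⟩
    push_cast
    omega

/-- KER. -/
theorem mem_Q_succ (j : ℕ) (hj : 1 ≤ j) (u : GLE) (hu : u ∈ Q j)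
    (h0 : ∀ s, D8.IsPosRoot s → lv s = j → tco s u = 0) : u ∈ Q (j + 1) :=
  mem_Q_succ_of Cfsg.Agent.Lib.Helper18_ChevDatumE8.dcert Cfsg.Agent.Lib.Helper18_ChevTCertE8.tcert
    Cfsg.Agent.Lib.Helper78_E8C_WORD.exists_word j hj u hu h0

end Cfsg.Agent.Lib.Helper93_E8C_KER
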