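import Cfsg.Agent.Lib.Helper4_E8Defs
import Cfsg.Agent.Lib.Helper6_BNPairC
import Cfsg.Agent.Lib.Helper2_E8C_ABS
import Cfsg.Agent.Lib.Helper31_E8C_BNCOATOM
import Cfsg.Agent.Lib.Helper31_E8C_BNNECONJ
import Cfsg.Agent.Lib.Helper41_E8C_BNTITS
import Cfsg.Agent.Lib.Helper60_E8C_H2
import Cfsg.Agent.Lib.Helper54_E8C_NCONJ
import Cfsg.Agent.Lib.Helper54_E8C_XPJ
import Cfsg.Agent.Lib.Helper5_E8C_CONN1
import Cfsg.Agent.Lib.Helper5_E8C_CONNJ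
import Cfsg.Agent.Lib.Helper93_E8C_KER
import Cfsg.Agent.Lib.Helper99_E8C_NORM
import Cfsg.Agent.Lib.Helper8_E8C_TOP
import Cfsg.Agent.Lib.Helper93_E8C_CONJX
import Cfsg.Agent.Lib.Helper54_E8C_BADJ
import Cfsg.Agent.Lib.Helper54_E8C_BAD1
import Cfsg.Agent.Lib.Helper61_E8C_UJ
import Cfsg.Agent.Lib.Helper4_E8C_BRIDGE

set_option autoImplicit false

/-!
S5751: the packages of the market `e8c_packages` that the assembly uses directly, re-exported under one namespace.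
-/

namespace Cfsg.Agent.Lib.Helper4_E8Pk

open Cfsg Cfsg.Lie Cfsg.Agent.Lib.Helper18_MatTri Cfsg.Agent.Lib.Helper18_ChevTri
  Cfsg.Agent.Lib.Helper4_E8Defs

/-- ABS (helper2). -/
theorem chain_abs {G : Type*} [Group G] (M : Subgroup G) (n : G) (hn : n * n = 1) (R : ℕ → Subgroup G)
    (h0 : R 0 = M)
    (hnorm : ∀ i, M ≤ Subgroup.normalizer (R (i + 1) : Set G))
    (hle : ∀ i, R (i + 1) ≤ R i ⊓ (R i).map (MulAut.conj n).toMonoidHom)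
    (hup : ∀ i (N : Subgroup G), N ≤ R i ⊓ (R i).map (MulAut.conj n).toMonoidHom →
      M ≤ Subgroup.normalizer (N : Set G) → N ≤ R (i + 1))
    (A B : ℕ → Subgroup G) (hA0 : A 0 = M) (hB0 : B 0 = M.map (MulAut.conj n).toMonoidHom)
    (hA : ∀ i, A (i + 1) = ((A i ⊓ B i).subgroupOf M).normalCore.map M.subtype)
    (hB : ∀ i, B (i + 1) = ((A i ⊓ B i).subgroupOf (M.map (MulAut.conj n).toMonoidHom)).normalCore.map
      (M.map (MulAut.conj n).toMonoidHom).subtype) :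
    ∀ i, A i = R i ∧ B i = (R i).map (MulAut.conj n).toMonoidHom :=
  Cfsg.Agent.Lib.Helper2_E8C_ABS.chain_abs M n hn R h0 hnorm hle hup A B hA0 hB0 hA hB

/-- BN-COATOM (helper31). -/
theorem parabolic_isCoatom {G : Type*} [Group G] (P : Cfsg.BNPair G) {k : G} (hk : k ∈ P.S) :
    IsCoatom (P.parabolic (P.S \ {k})) :=
  Cfsg.Agent.Lib.Helper31_E8C_BNCOATOM.parabolic_isCoatom P hk

/-- BN-NECONJ (helper31). -/
theorem parabolic_conj_ne {G : Type*} [Group G] (P : Cfsg.BNPair G) {k : G} (hk : k ∈ P.S) :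
    P.parabolic (P.S \ {k}) ≠ (P.parabolic (P.S \ {k})).map (MulAut.conj k).toMonoidHom :=
  Cfsg.Agent.Lib.Helper31_E8C_BNNECONJ.parabolic_conj_ne P hk

/-- BN-TITS (helper41, with BN-COMM by helper2). -/
theorem tits_le_B {G : Type*} [Group G] (P : Cfsg.BNPair G) (hirr : P.Irreducible) {k : G} (hk : k ∈ P.S)
    (N : Subgroup G)
    (hN : N ≤ P.parabolic (P.S \ {k}) ⊓ (P.parabolic (P.S \ {k})).map (MulAut.conj k).toMonoidHom)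
    (hnorm : P.parabolic (P.S \ {k}) ≤ Subgroup.normalizer (N : Set G)) : N ≤ P.B :=
  Cfsg.Agent.Lib.Helper41_E8C_BNTITS.tits_le_B P hirr hk N hN hnorm

/-- H2 (helper60). -/
theorem h_trivial :
    D8.diagonalSubgroup F2 = ⊥ ∧ D8.borelSubgroup F2 = D8.posUnipotent F2 ∧ ∀ n : GLE, IsNk n → n * n = 1 :=
  Cfsg.Agent.Lib.Helper60_E8C_H2.h_trivial

/-- KER (helper93). -/
theorem mem_Q_succ (j : ℕ) (hj : 1 ≤ j) (u : GLE) (hu : u ∈ Q j)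
    (h0 : ∀ s, D8.IsPosRoot s → lv s = j → tco s u = 0) : u ∈ Q (j + 1) :=
  Cfsg.Agent.Lib.Helper93_E8C_KER.mem_Q_succ j hj u hu h0

/-- NORM (helper99). -/
theorem PJ_le_normalizer_Q (j : ℕ) (hj : 1 ≤ j) : PJ ≤ Subgroup.normalizer (Q j : Set GLE) :=
  Cfsg.Agent.Lib.Helper99_E8C_NORM.PJ_le_normalizer_Q j hj

/-- NCONJ (helper54). -/
theorem conj_nk_Q (n : GLE) (hn : IsNk n) (j : ℕ) (hj : 1 ≤ j) :
    (Q (j + 1)).map (MulAut.conj n).toMonoidHom ≤ Q j :=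
  Cfsg.Agent.Lib.Helper54_E8C_NCONJ.conj_nk_Q n hn j hj

/-- TOP (helper8). -/
theorem Q_top : Q 7 = ⊥ ∧ Q 6 ≠ ⊥ ∧ Q 1 ≤ PJ ∧ ∀ j, Q (j + 1) ≤ Q j :=
  Cfsg.Agent.Lib.Helper8_E8C_TOP.Q_top

/-- XPJ (helper54). -/
theorem x_mem_PJ (β : ℕ) (hβ : D8.InRootSub J3 β) (t : F2) (y : GLE)
    (hy : (y : Matrix D8.Idx D8.Idx F2) = D8.x F2 β t) : y ∈ PJ :=
  Cfsg.Agent.Lib.Helper54_E8C_XPJ.x_mem_PJ β hβ t y hy

/-- CONJX (helper93; also helper54). -/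
theorem tco_conj_x (j : ℕ) (hj : 1 ≤ j) (β r s : ℕ) (hβ : D8.InRootSub J3 β) (hr : D8.IsPosRoot r)
    (hlr : lv r = j) (hs : D8.chainRoot β r 1 = some s) (y : GLE)
    (hy : (y : Matrix D8.Idx D8.Idx F2) = D8.x F2 β 1) (u : GLE) (hu : u ∈ Q j) :
    tco s (y * u * y⁻¹) = tco s u + tco r u :=
  Cfsg.Agent.Lib.Helper93_E8C_CONJX.tco_conj_x j hj β r s hβ hr hlr hs y hy u hu

/-- BADJ (helper54). -/
theorem tco_bad (n : GLE) (hn : IsNk n) (j : ℕ) (hj : 2 ≤ j) (u : GLE) (hu : u ∈ Q j)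
    (hu' : n * u * n⁻¹ ∈ Q j) (b : ℕ) (hb : D8.IsPosRoot b) (hlb : lv b = j) (hcb : D8.cartan 3 b = 1) :
    tco b u = 0 :=
  Cfsg.Agent.Lib.Helper54_E8C_BADJ.tco_bad n hn j hj u hu hu' b hb hlb hcb

/-- BAD1 (helper54). -/
theorem tco_bad_one (n : GLE) (hn : IsNk n) (u : GLE) (hu : u ∈ Q 1) (hu' : n * u * n⁻¹ ∈ PJ) :
    tco (D8.simple 3) u = 0 :=
  Cfsg.Agent.Lib.Helper54_E8C_BAD1.tco_bad_one n hn u hu hu'

/-- CONN1 (helper5). -/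
theorem conn_one (Z : ℕ → Prop)
    (hstep : ∀ β r s, D8.InRootSub J3 β → D8.IsPosRoot r → lv r = 1 → D8.chainRoot β r 1 = some s → Z s → Z r)
    (hbase : Z (D8.simple 3)) : ∀ r, D8.IsPosRoot r → lv r = 1 → Z r :=
  Cfsg.Agent.Lib.Helper5_E8C_CONN1.conn_one Z hstep hbase

/-- CONNJ (helper5; also landed by helper74). -/
theorem conn_ge_two (j : ℕ) (hj : 2 ≤ j) (hj6 : j ≤ 6) (Z : ℕ → Prop)
    (hstep : ∀ β r s, D8.InRootSub J3 β → D8.IsPosRoot r → lv r = j → D8.chainRoot β r 1 = some s → Z s → Z r)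
    (hbase : ∀ b, D8.IsPosRoot b → lv b = j → D8.cartan 3 b = 1 → Z b) :
    ∀ r, D8.IsPosRoot r → lv r = j → Z r :=
  Cfsg.Agent.Lib.Helper5_E8C_CONNJ.conn_ge_two j hj hj6 Z hstep hbase

/-- UJ (helper61). -/
theorem le_Q_one (N : Subgroup GLE) (hN : N ≤ D8.posUnipotent F2)
    (hnorm : PJ ≤ Subgroup.normalizer (N : Set GLE)) : N ≤ Q 1 :=
  Cfsg.Agent.Lib.Helper61_E8C_UJ.le_Q_one N hN hnorm

/-- BRIDGE (helper4). -/
theorem parabolic_eq (P : Cfsg.BNPair ↥(D8.group F2))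
    (hB : P.B = (D8.borelSubgroup F2).subgroupOf (D8.group F2))
    (hS : P.S = {n : ↥(D8.group F2) | ∃ i < D8.rank,
      ((n : GL D8.Idx F2) : Matrix D8.Idx D8.Idx F2) = D8.nMat F2 (D8.simple i) 1})
    (k : ↥(D8.group F2)) (hk : IsNk (k : GLE)) :
    k ∈ P.S ∧ P.parabolic (P.S \ {k}) = PJ.subgroupOf (D8.group F2) :=
  Cfsg.Agent.Lib.Helper4_E8C_BRIDGE.parabolic_eq P hB hS k hk

end Cfsg.Agent.Lib.Helper4_E8Pk
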