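import Mathlib
import Cfsg.Agent.Lib.Helper97_OX3Defs
import Cfsg.Agent.Lib.Helper94_OrthVec

set_option autoImplicit false
set_option linter.unusedSectionVars false
set_option linter.unusedVariables false

/-!
Market OEXT3 (helper97), package G4_DECOMP (helper4, second seat): coordinates with respect to a
frame of a four-dimensional nondegenerate quadratic space.
-/

namespace Cfsg.Agent.Lib.Helper4_OX3_G4_DECOMP

open Module Cfsg.Agent.Lib.Helper94_OrthSmall Cfsg.Agent.Lib.Helper94_OrthSiegel
  Cfsg.Agent.Lib.Helper98_ExtDefs Cfsg.Agent.Lib.Helper97_OX2Defs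
  Cfsg.Agent.Lib.Helper97_OX3Defs
open scoped commutatorElement

section GEO

variable {K V : Type*} [Field K] [AddCommGroup V] [Module K V]
  (Q : V → K) (B : LinearMap.BilinForm K V)
  (hQs : ∀ (c : K) (v : V), Q (c • v) = c * c * Q v)
  (hQp : ∀ u v : V, Q (u + v) = Q u + Q v + B u v)

include hQs hQp

/-- G4_DECOMP: coordinates with respect to a frame of a four-dimensional space -/
theorem frame_decomp [FiniteDimensional K V] (hN : B.Nondegenerate) (hm : finrank K V = 4)
    {p p' a b : V} (fr : Frame Q B p p' a b) (v : V) :
    v = B v p' • p + B v p • p' + B v b • a + B v a • b := by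
  have hsymm : ∀ x y : V, B x y = B y x := B_symm Q B hQp
  have hself : ∀ x : V, B x x = 2 * Q x := B_self Q B hQs hQp
  have hpp : B p p = 0 := by rw [hself, fr.hp, mul_zero]
  have hp'p' : B p' p' = 0 := by rw [hself, fr.hp', mul_zero]
  have haa : B a a = 0 := by rw [hself, fr.ha, mul_zero]
  have hbb : B b b = 0 := by rw [hself, fr.hb, mul_zero]
  have hp'p : B p' p = 1 := by rw [hsymm]; exact fr.hpp'
  have hba : B b a = 1 := by rw [hsymm]; exact fr.hab
  have hap : B a p = 0 := by rw [hsymm]; exact fr.hpa
  have hbp : B b p = 0 := by rw [hsymm]; exact fr.hpb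
  have hap' : B a p' = 0 := by rw [hsymm]; exact fr.hp'a
  have hbp' : B b p' = 0 := by rw [hsymm]; exact fr.hp'b
  -- the frame is linearly independent
  have hli : LinearIndependent K ![p, p', a, b] := by
    rw [Fintype.linearIndependent_iff]
    intro c hc
    simp only [Fin.sum_univ_four, Matrix.cons_val_zero, Matrix.cons_val_one,
      Matrix.cons_val_two, Matrix.cons_val_three, Matrix.head_cons, Matrix.tail_cons] at hc
    have e0 : B (c 0 • p + c 1 • p' + c 2 • a + c 3 • b) p' = 0 := by
      rw [hc]; simp
    have e1 : B (c 0 • p + c 1 • p' + c 2 • a + c 3 • b) p = 0 := by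
      rw [hc]; simp
    have e2 : B (c 0 • p + c 1 • p' + c 2 • a + c 3 • b) b = 0 := by
      rw [hc]; simp
    have e3 : B (c 0 • p + c 1 • p' + c 2 • a + c 3 • b) a = 0 := by
      rw [hc]; simp
    simp only [map_add, map_smul, LinearMap.add_apply, LinearMap.smul_apply, smul_eq_mul,
      fr.hpp', hp'p', hap', hbp', hpp, hp'p, hap, hbp, fr.hpb, fr.hp'b, fr.hab, hbb,
      fr.hpa, fr.hp'a, haa, hba, mul_zero, mul_one, add_zero, zero_add] at e0 e1 e2 e3
    intro i
    fin_cases i
    · exact e0
    · exact e1
    · exact e2
    · exact e3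
  have hspan : Submodule.span K (Set.range ![p, p', a, b]) = ⊤ :=
    hli.span_eq_top_of_card_eq_finrank' (by rw [hm]; rfl)
  -- the difference is orthogonal to everything
  set w := v - (B v p' • p + B v p • p' + B v b • a + B v a • b) with hw
  have hw0 : w = 0 := by
    apply hN.1 w
    intro x
    have hx : x ∈ Submodule.span K (Set.range ![p, p', a, b]) := by rw [hspan]; trivial
    induction hx using Submodule.span_induction with
    | mem x hx =>
      obtain ⟨i, rfl⟩ := hx
      fin_cases i
      · show B w p = 0
        rw [hw]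
        simp only [map_sub, map_add, map_smul, LinearMap.sub_apply, LinearMap.add_apply,
          LinearMap.smul_apply, smul_eq_mul, hpp, hp'p, hap, hbp, mul_zero, mul_one, add_zero,
          zero_add, sub_self]
      · show B w p' = 0
        rw [hw]
        simp only [map_sub, map_add, map_smul, LinearMap.sub_apply, LinearMap.add_apply,
          LinearMap.smul_apply, smul_eq_mul, fr.hpp', hp'p', hap', hbp', mul_zero, mul_one,
          add_zero, zero_add, sub_self]
      · show B w a = 0
        rw [hw]
        simp only [map_sub, map_add, map_smul, LinearMap.sub_apply, LinearMap.add_apply,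
          LinearMap.smul_apply, smul_eq_mul, fr.hpa, fr.hp'a, haa, hba, mul_zero, mul_one,
          add_zero, zero_add, sub_self]
      · show B w b = 0
        rw [hw]
        simp only [map_sub, map_add, map_smul, LinearMap.sub_apply, LinearMap.add_apply,
          LinearMap.smul_apply, smul_eq_mul, fr.hpb, fr.hp'b, fr.hab, hbb, mul_zero, mul_one,
          add_zero, zero_add, sub_self]
    | zero => simp
    | add x y _ _ hx hy => rw [map_add, hx, hy, add_zero]
    | smul c x _ hx => rw [map_smul, hx, smul_zero]
  rw [hw, sub_eq_zero] at hw0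
  exact hw0

end GEO

end Cfsg.Agent.Lib.Helper4_OX3_G4_DECOMP
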