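import Mathlib
import Cfsg.Agent.Lib.Helper97_OX3Defs
import Cfsg.Agent.Lib.Helper94_OrthVec
import Cfsg.Agent.Lib.Helper3_OX3_NMAP3

set_option autoImplicit false
set_option linter.unusedSectionVars false
set_option linter.unusedVariables false

/-!
Market OEXT3 (helper97), package RIG (helper4): an element `y ∈ M` stabilising a totally singular
`K`-line `L'` and not semilinear on it yields `Key` (some conjugate `y (1 + N_κ) y⁻¹` is a
non-`K`-linear element of `M ∩ U_{L'}`).  Here with KLIN as a hypothesis.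
-/

namespace Cfsg.Agent.Lib.Helper4_OX3_RIGaux

open Module Cfsg.Agent.Lib.Helper94_OrthSmall Cfsg.Agent.Lib.Helper94_OrthSiegel
  Cfsg.Agent.Lib.Helper98_ExtDefs Cfsg.Agent.Lib.Helper97_OX2Defs
  Cfsg.Agent.Lib.Helper97_OX3Defs
open scoped commutatorElement

variable {F K V : Type*} [Field F] [Field K] [Algebra F K] [AddCommGroup V] [Module F V]
  [Module K V] [IsScalarTower F K V]
variable {τ : K →ₗ[F] F} {QK : V → K} {BK : LinearMap.BilinForm K V}
variable [Finite F] [Finite K] [Module.Finite F V] [Module.Finite K V]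

theorem nmap_smul_one (κ : K) (u w x : V) :
    nmap F BK κ u w x = κ • nmap F BK 1 u w x := by
  rw [nmap_apply, nmap_apply, one_smul]

/-- RIG, with KLIN (for the line `L'`) as a hypothesis -/
theorem rig_of (C : Ctx3 τ QK BK) (M : Subgroup (V ≃ₗ[F] V)) (hM : HypO3 τ QK BK M)
    {u' w' : V} (h' : TSPair QK BK u' w')
    (klin_eq : ∀ {y : V ≃ₗ[F] V}, InU (trQ τ QK) (kln F (K := K) u' w') y → Klin K y →
      ∃ κ : K, ∀ x, y x = x + nmap F BK κ u' w' x)
    {y : V ≃ₗ[F] V} (hy : y ∈ M)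
    (hst : ∀ x ∈ kln F (K := K) u' w', y x ∈ kln F (K := K) u' w')
    (hns : ¬ ∃ σ : K →+* K, ∀ k : K, ∀ x ∈ kln F (K := K) u' w', y (k • x) = σ k • y x) :
    Key τ QK BK M := by
  classical
  by_contra hKey
  have hu := h'.1
  have hw := h'.2.1
  have huw := h'.2.2.1
  have hind := h'.2.2.2
  -- `y` maps `L'` onto `L'`
  have hmap : (kln F (K := K) u' w').map y.toLinearMap = kln F (K := K) u' w' := by
    apply Submodule.eq_of_le_of_finrank_eq
    · rintro _ ⟨x, hx, rfl⟩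
      exact hst x hx
    · exact LinearEquiv.finrank_map_eq y _
  have hinv : ∀ x ∈ kln F (K := K) u' w', y⁻¹ x ∈ kln F (K := K) u' w' := by
    intro x hx
    rw [← hmap] at hx
    obtain ⟨z, hz, rfl⟩ := hx
    have : y⁻¹ (y z) = z := Cfsg.Agent.Lib.Helper94_Symp.inv_apply_apply' y z
    rw [LinearEquiv.coe_coe, this]
    exact hz
  -- the conjugates of the `K`-Siegel elements are `K`-linear
  have hκ : ∀ κ : K, ∃ φ : K, ∀ v, y (nmap F BK κ u' w' v) = nmap F BK φ u' w' (y v) := by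
    intro κ
    have hu1 : QK (κ • u') = 0 := by rw [C.hQs, hu, mul_zero]
    have hu2 : BK (κ • u') w' = 0 := by
      rw [map_smul, LinearMap.smul_apply, huw, smul_zero]
    have hmem : y * ksieg F QK BK (κ • u') w' * y⁻¹ ∈ M :=
      M.mul_mem (M.mul_mem hy (hM.sieg_mem _ _ hu1 hu2)) (M.inv_mem hy)
    have happ : ∀ x, (y * ksieg F QK BK (κ • u') w' * y⁻¹) x
        = x + y (nmap F BK κ u' w' (y⁻¹ x)) := by
      intro x
      rw [LinearEquiv.mul_apply, LinearEquiv.mul_apply, C.ksieg_eq_nmap hu hw huw, map_add,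
        Cfsg.Agent.Lib.Helper94_Symp.apply_inv_apply']
    have hU : InU (trQ τ QK) (kln F (K := K) u' w') (y * ksieg F QK BK (κ • u') w' * y⁻¹) := by
      refine ⟨hM.le hmem, ?_, ?_⟩
      · intro x
        rw [happ, add_sub_cancel_left]
        exact hst _ ((Cfsg.Agent.Lib.Helper3_OX3_NMAP3.nmap_props3 C h' κ).2.1 _)
      · intro x hx
        rw [happ, (Cfsg.Agent.Lib.Helper3_OX3_NMAP3.nmap_props3 C h' κ).2.2.1 _ (hinv x hx), map_zero, add_zero]
    have hK : Klin K (y * ksieg F QK BK (κ • u') w' * y⁻¹) := by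
      by_contra hnK
      exact hKey ⟨u', w', h', _, hmem, hU, hnK⟩
    obtain ⟨φ, hφ⟩ := klin_eq hU hK
    refine ⟨φ, fun v => ?_⟩
    have h1 := hφ (y v)
    rw [happ, Cfsg.Agent.Lib.Helper94_Symp.inv_apply_apply'] at h1
    exact add_left_cancel h1
  choose φ hφ using hκ
  -- `u' ≠ 0`
  have hu0 : u' ≠ 0 := by
    intro h0
    have := hind 1 0 (by rw [h0, smul_zero, zero_smul, add_zero])
    exact one_ne_zero this.1
  have hyu0 : y u' ≠ 0 := by
    intro h0
    exact hu0 (y.injective (by rw [h0, map_zero]))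
  have hu'L : u' ∈ kln F (K := K) u' w' := mem_kln.mpr ⟨1, 0, by rw [one_smul, zero_smul, add_zero]⟩
  -- the basic relation
  have hbase : ∀ z ∈ kln F (K := K) u' w', ∃ t : V, y z = φ 1 • t ∧ ∀ κ : K, y (κ • z) = φ κ • t := by
    intro z hz
    obtain ⟨v, hv⟩ := (Cfsg.Agent.Lib.Helper3_OX3_NMAP3.nmap_props3 C h' (1 : K)).2.2.2.2 one_ne_zero z hz
    refine ⟨nmap F BK 1 u' w' (y v), ?_, ?_⟩
    · rw [← hv, hφ 1 v, nmap_smul_one (φ 1)]
    · intro κ
      rw [← hv, ← nmap_smul_one κ, hφ κ v, nmap_smul_one (φ κ)]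
  have hφ1 : φ 1 ≠ 0 := by
    intro h0
    obtain ⟨t, ht, _⟩ := hbase u' hu'L
    rw [h0, zero_smul] at ht
    exact hyu0 ht
  have hσ : ∀ κ : K, ∀ z ∈ kln F (K := K) u' w', y (κ • z) = (φ κ * (φ 1)⁻¹) • y z := by
    intro κ z hz
    obtain ⟨t, ht, ht2⟩ := hbase z hz
    rw [ht2 κ, ht, smul_smul, mul_assoc, inv_mul_cancel₀ hφ1, mul_one]
  have hinj : Function.Injective (fun c : K => c • y u') := smul_left_injective K hyu0
  have hkL : ∀ (k : K), k • u' ∈ kln F (K := K) u' w' := fun k =>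
    Ctx3.isKinv_kln (F := F) (K := K) u' w' k u' hu'L
  apply hns
  refine ⟨{ toFun := fun κ => φ κ * (φ 1)⁻¹
            map_one' := mul_inv_cancel₀ hφ1
            map_mul' := ?_
            map_zero' := ?_
            map_add' := ?_ }, ?_⟩
  · intro a b
    apply hinj
    show (φ (a * b) * (φ 1)⁻¹) • y u' = ((φ a * (φ 1)⁻¹) * (φ b * (φ 1)⁻¹)) • y u'
    rw [← hσ (a * b) u' hu'L, mul_smul, hσ a (b • u') (hkL b), hσ b u' hu'L, smul_smul]
  · apply hinj
    show (φ 0 * (φ 1)⁻¹) • y u' = (0 : K) • y u'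
    rw [← hσ 0 u' hu'L, zero_smul, zero_smul, map_zero]
  · intro a b
    apply hinj
    show (φ (a + b) * (φ 1)⁻¹) • y u' = ((φ a * (φ 1)⁻¹) + (φ b * (φ 1)⁻¹)) • y u'
    rw [← hσ (a + b) u' hu'L, add_smul, map_add, hσ a u' hu'L, hσ b u' hu'L, add_smul]
  · intro k x hx
    exact hσ k x hx

end Cfsg.Agent.Lib.Helper4_OX3_RIGaux
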