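import Mathlib
import Cfsg.Agent.Lib.Helper97_OX3Defs
import Cfsg.Agent.Lib.Helper94_OrthVec
import Cfsg.Agent.Lib.Helper4_OX3_RIGaux
import Cfsg.Agent.Lib.Helper4_OX3_G4_DECOMP
import Cfsg.Agent.Lib.Helper21_OX3_G4_PAIR
import Cfsg.Agent.Lib.Helper24_OX3_KLINaux

set_option autoImplicit false
set_option linter.unusedSectionVars false
set_option linter.unusedVariables false

/-!
Market OEXT3 (helper97), package RIG (helper4): an element `y ∈ M` stabilising a totally singular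
`K`-line `L'` and not semilinear on it yields `Key`.  Wrapper of `Helper4_OX3_RIGaux.rig_of` with
KLIN discharged from `Helper24_OX3_KLINaux.klin_eq_of`, G4_PAIR and G4_DECOMP.
-/

namespace Cfsg.Agent.Lib.Helper4_OX3_RIG

open Module Cfsg.Agent.Lib.Helper94_OrthSmall Cfsg.Agent.Lib.Helper94_OrthSiegel
  Cfsg.Agent.Lib.Helper98_ExtDefs Cfsg.Agent.Lib.Helper97_OX2Defs
  Cfsg.Agent.Lib.Helper97_OX3Defs
open scoped commutatorElement

variable {F K V : Type*} [Field F] [Field K] [Algebra F K] [AddCommGroup V] [Module F V]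
  [Module K V] [IsScalarTower F K V]
variable {τ : K →ₗ[F] F} {QK : V → K} {BK : LinearMap.BilinForm K V}
variable [Finite F] [Finite K] [Module.Finite F V] [Module.Finite K V]

/-- RIG: an element of `M` stabilising `L'` and not semilinear on `L'` -/
theorem rig (C : Ctx3 τ QK BK) (M : Subgroup (V ≃ₗ[F] V)) (hM : HypO3 τ QK BK M)
    {u' w' : V} (h' : TSPair QK BK u' w') {y : V ≃ₗ[F] V} (hy : y ∈ M)
    (hst : ∀ x ∈ kln F (K := K) u' w', y x ∈ kln F (K := K) u' w')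
    (hns : ¬ ∃ σ : K →+* K, ∀ k : K, ∀ x ∈ kln F (K := K) u' w', y (k • x) = σ k • y x) :
    Key τ QK BK M := by
  obtain ⟨u'', w'', fr⟩ :=
    Cfsg.Agent.Lib.Helper21_OX3_G4_PAIR.frame_of_pair QK BK C.hQs C.hQp C.hN h'
  exact Cfsg.Agent.Lib.Helper4_OX3_RIGaux.rig_of C M hM h'
    (fun hU hK => Cfsg.Agent.Lib.Helper24_OX3_KLINaux.klin_eq_of C fr
      (Cfsg.Agent.Lib.Helper4_OX3_G4_DECOMP.frame_decomp QK BK C.hQs C.hQp C.hN C.hm fr) hU hK)
    hy hst hns

end Cfsg.Agent.Lib.Helper4_OX3_RIG
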