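import Mathlib
import Cfsg.Agent.Lib.Helper98_AschDefs
import Cfsg.Agent.Lib.Helper98_AschCliff
import Cfsg.Agent.Lib.Helper23_FormDefs
import Cfsg.Agent.Lib.Helper29_Asch_PKG0
import Cfsg.Agent.Lib.Helper29_Asch_PKP1
import Cfsg.Agent.Lib.Helper29_OrthOdd_Glue
import Cfsg.Agent.Lib.Helper7_OrthOdd_OG2
import Cfsg.Agent.Lib.Helper30_AschMax
import Cfsg.Agent.Lib.Helper22_OrthEven_Basic
import Cfsg.Agent.Lib.Helper43_OrthEven_EV27

set_option autoImplicit false

/-!
# PL6 = EV54 (package of the row `Omega12^+`, helper85 / helper22 markets)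

Over the field with `3` elements a non-degenerate `3`-space `U` has an orthogonal basis of vectors of one
norm `ε`, and the vectors of `U` of norm `ε` are exactly the six multiples of the basis vectors.  Hence an
isometric orthogonal decomposition into `3`-spaces is refined by an isometric orthogonal decomposition into
lines, permuted by the isometries permuting the `3`-spaces.
-/

open Cfsg Cfsg.Geo Matrix Cfsg.Agent.Lib.Helper98_AschDefs Cfsg.Agent.Lib.Helper23_FormDefs
open scoped Kronecker MatrixGroups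

namespace Cfsg.Agent.Lib.Helper4_OrthEven_PL6

open Module Cfsg.Agent.Lib.Helper22_OrthEven_Basic Cfsg.Agent.Lib.Helper43_OrthEven_EV27

variable {ι : Type} [Fintype ι] [DecidableEq ι] {F : Type*} [Field F]

/-! ### three squares over the field with three elements -/

omit [Fintype ι] [DecidableEq ι] in
theorem sq_cases [Fintype F] (hq : Fintype.card F = 3) (a : F) :
    (a = 0 ∧ a ^ 2 = 0) ∨ (a ≠ 0 ∧ a ^ 2 = 1) := by
  rcases trichotomy hq a with h | h | h
  · left; rw [h]; exact ⟨rfl, by ring⟩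
  · right; rw [h]; exact ⟨one_ne_zero, by ring⟩
  · right; rw [h]; exact ⟨neg_ne_zero.2 one_ne_zero, by ring⟩

omit [Fintype ι] [DecidableEq ι] in
theorem one_coord [Fintype F] (hq : Fintype.card F = 3) (a b c : F) (h : a ^ 2 + b ^ 2 + c ^ 2 = 1) :
    (b = 0 ∧ c = 0) ∨ (a = 0 ∧ c = 0) ∨ (a = 0 ∧ b = 0) := by
  have h3 := three_eq_zero hq
  have h10 : (1 : F) ≠ 0 := one_ne_zero
  rcases sq_cases hq a with ⟨ha, ha2⟩ | ⟨ha, ha2⟩ <;> rcases sq_cases hq b with ⟨hb, hb2⟩ | ⟨hb, hb2⟩ <;>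
    rcases sq_cases hq c with ⟨hc, hc2⟩ | ⟨hc, hc2⟩ <;> rw [ha2, hb2, hc2] at h
  · exact absurd (by linear_combination -h) h10
  · exact Or.inr (Or.inr ⟨ha, hb⟩)
  · exact Or.inr (Or.inl ⟨ha, hc⟩)
  · exact absurd (by linear_combination h) h10
  · exact Or.inl ⟨hb, hc⟩
  · exact absurd (by linear_combination h) h10
  · exact absurd (by linear_combination h) h10
  · exact absurd (by linear_combination h3 - h) h10

/-! ### frames of a three-dimensional space -/

omit [Fintype ι] [DecidableEq ι] in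
theorem Q_three (Q : (ι → F) → F) (hQ : IsNondegenerateQuadraticForm Q) (u : Fin 3 → ι → F) (ε : F)
    (hQu : ∀ k, Q (u k) = ε) (horth : ∀ k l, k ≠ l → QuadraticMap.polar Q (u k) (u l) = 0)
    (c : Fin 3 → F) :
    Q (∑ k, c k • u k) = ε * (c 0 ^ 2 + c 1 ^ 2 + c 2 ^ 2) := by
  rw [Fin.sum_univ_three, Q_add Q, Q_add Q, hQ.smul, hQ.smul, hQ.smul, hQu, hQu, hQu,
    hQ.polar_bilinear.add_left, hQ.polar_bilinear.smul_left, hQ.polar_bilinear.smul_left,
    hQ.polar_bilinear.smul_left, hQ.polar_bilinear.smul_right, hQ.polar_bilinear.smul_right, hQ.polar_bilinear.smul_right,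
    horth 0 1 (by decide), horth 0 2 (by decide), horth 1 2 (by decide)]
  ring

omit [Fintype ι] [DecidableEq ι] in
theorem li_of_orth (Q : (ι → F) → F) (hQ : IsNondegenerateQuadraticForm Q) (h2 : (2 : F) ≠ 0)
    {κ : Type*} [Fintype κ] [DecidableEq κ] (vec : κ → ι → F) (hvec_Q : ∀ p, Q (vec p) ≠ 0)
    (hvec_orth : ∀ p p', p ≠ p' → QuadraticMap.polar Q (vec p) (vec p') = 0) :
    LinearIndependent F vec := by
  rw [Fintype.linearIndependent_iff]
  intro g hg p0
  have h1 := congrArg (polarBil Q hQ (vec p0)) hg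
  rw [map_sum, map_zero, Finset.sum_eq_single p0] at h1
  · rw [map_smul, smul_eq_mul, polarBil_apply, polar_self Q hQ] at h1
    rcases mul_eq_zero.1 h1 with h | h
    · exact h
    · exfalso
      exact (mul_ne_zero h2 (hvec_Q p0)) h
  · intro p _ hp
    rw [map_smul, smul_eq_mul, polarBil_apply, hvec_orth p0 p (Ne.symm hp), mul_zero]
  · intro h
    exact absurd (Finset.mem_univ _) h

omit [DecidableEq ι] in
/-- an orthogonal triple of vectors of one norm in a `3`-space over `F_3` spans it and contains, up to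
scalars, all vectors of that norm -/
theorem frame_of_orth [Fintype F] (hq : Fintype.card F = 3) (Q : (ι → F) → F)
    (hQ : IsNondegenerateQuadraticForm Q) (W : Submodule F (ι → F)) (hdim : finrank F W = 3)
    (ε : F) (hε : ε ≠ 0) (u : Fin 3 → ι → F) (huW : ∀ k, u k ∈ W) (hQu : ∀ k, Q (u k) = ε)
    (horth : ∀ k l, k ≠ l → QuadraticMap.polar Q (u k) (u l) = 0) :
    W = ⨆ k, Submodule.span F {u k} ∧ ∀ x ∈ W, Q x = ε → ∃ k, x ∈ Submodule.span F {u k} := by
  classical
  have h2 : (2 : F) ≠ 0 := two_ne_zero3 hq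
  have hli : LinearIndependent F u :=
    li_of_orth Q hQ h2 u (fun k => by rw [hQu]; exact hε) horth
  have hle : Submodule.span F (Set.range u) ≤ W := by
    rw [Submodule.span_le]
    rintro _ ⟨k, rfl⟩
    exact huW k
  have hW : Submodule.span F (Set.range u) = W := by
    apply Submodule.eq_of_le_of_finrank_eq hle
    rw [finrank_span_eq_card hli, hdim, Fintype.card_fin]
  refine ⟨?_, ?_⟩
  · rw [← hW, Submodule.span_range_eq_iSup]
  · intro x hx hQx
    rw [← hW] at hx
    obtain ⟨c, rfl⟩ := (Submodule.mem_span_range_iff_exists_fun F).1 hx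
    rw [Q_three Q hQ u ε hQu horth c] at hQx
    have hsum : c 0 ^ 2 + c 1 ^ 2 + c 2 ^ 2 = 1 := by
      apply mul_left_cancel₀ hε
      rw [hQx, mul_one]
    rw [Fin.sum_univ_three]
    rcases one_coord hq _ _ _ hsum with ⟨h1, h2'⟩ | ⟨h0, h2'⟩ | ⟨h0, h1⟩
    · refine ⟨0, ?_⟩
      rw [h1, h2', zero_smul, zero_smul, add_zero, add_zero]
      exact Submodule.smul_mem _ _ (Submodule.mem_span_singleton_self _)
    · refine ⟨1, ?_⟩
      rw [h0, h2', zero_smul, zero_smul, add_zero, zero_add]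
      exact Submodule.smul_mem _ _ (Submodule.mem_span_singleton_self _)
    · refine ⟨2, ?_⟩
      rw [h0, h1, zero_smul, zero_smul, zero_add, zero_add]
      exact Submodule.smul_mem _ _ (Submodule.mem_span_singleton_self _)

omit [Fintype ι] [DecidableEq ι] in
/-- passing from mixed signs to one sign -/
theorem mix [Fintype F] (hq : Fintype.card F = 3) (Q : (ι → F) → F)
    (hQ : IsNondegenerateQuadraticForm Q) (W : Submodule F (ι → F)) (δ : F) (hδ : δ ≠ 0)
    (x y z : ι → F) (hx : x ∈ W) (hy : y ∈ W) (hz : z ∈ W)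
    (hQx : Q x = δ) (hQy : Q y = δ) (hQz : Q z = -δ)
    (hxy : QuadraticMap.polar Q x y = 0) (hxz : QuadraticMap.polar Q x z = 0)
    (hyz : QuadraticMap.polar Q y z = 0) :
    ∃ (ε : F) (u : Fin 3 → ι → F), ε ≠ 0 ∧ (∀ k, u k ∈ W) ∧ (∀ k, Q (u k) = ε) ∧
      ∀ k l, k ≠ l → QuadraticMap.polar Q (u k) (u l) = 0 := by
  have h3 := three_eq_zero hq
  have hyx : QuadraticMap.polar Q y x = 0 := by rw [QuadraticMap.polar_comm]; exact hxy
  have hzx : QuadraticMap.polar Q z x = 0 := by rw [QuadraticMap.polar_comm]; exact hxz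
  have hzy : QuadraticMap.polar Q z y = 0 := by rw [QuadraticMap.polar_comm]; exact hyz
  have hpx : QuadraticMap.polar Q x x = 2 * δ := by rw [polar_self Q hQ, hQx]
  have hpy : QuadraticMap.polar Q y y = 2 * δ := by rw [polar_self Q hQ, hQy]
  have hQp : Q ((1 : F) • x + (1 : F) • y) = -δ := by
    rw [Q_comb Q hQ, hQx, hQy, hxy]
    linear_combination δ * h3
  have hQm : Q ((1 : F) • x + (-1 : F) • y) = -δ := by
    rw [Q_comb Q hQ, hQx, hQy, hxy]
    linear_combination δ * h3
  refine ⟨-δ, ![z, (1 : F) • x + (1 : F) • y, (1 : F) • x + (-1 : F) • y], neg_ne_zero.2 hδ, ?_, ?_, ?_⟩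
  · intro k
    fin_cases k
    · exact hz
    · exact W.add_mem (W.smul_mem _ hx) (W.smul_mem _ hy)
    · exact W.add_mem (W.smul_mem _ hx) (W.smul_mem _ hy)
  · intro k
    fin_cases k
    · exact hQz
    · exact hQp
    · exact hQm
  · intro k l hkl
    fin_cases k <;> fin_cases l
    · exact absurd rfl hkl
    · show QuadraticMap.polar Q z ((1 : F) • x + (1 : F) • y) = 0
      rw [hQ.polar_bilinear.add_right, hQ.polar_bilinear.smul_right, hQ.polar_bilinear.smul_right,
        hzx, hzy]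
      ring
    · show QuadraticMap.polar Q z ((1 : F) • x + (-1 : F) • y) = 0
      rw [hQ.polar_bilinear.add_right, hQ.polar_bilinear.smul_right, hQ.polar_bilinear.smul_right,
        hzx, hzy]
      ring
    · show QuadraticMap.polar Q ((1 : F) • x + (1 : F) • y) z = 0
      rw [hQ.polar_bilinear.add_left, hQ.polar_bilinear.smul_left, hQ.polar_bilinear.smul_left,
        hxz, hyz]
      ring
    · exact absurd rfl hkl
    · show QuadraticMap.polar Q ((1 : F) • x + (1 : F) • y) ((1 : F) • x + (-1 : F) • y) = 0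
      simp only [hQ.polar_bilinear.add_left, hQ.polar_bilinear.add_right,
        hQ.polar_bilinear.smul_left, hQ.polar_bilinear.smul_right, hpx, hpy, hxy, hyx]
      ring
    · show QuadraticMap.polar Q ((1 : F) • x + (-1 : F) • y) z = 0
      rw [hQ.polar_bilinear.add_left, hQ.polar_bilinear.smul_left, hQ.polar_bilinear.smul_left,
        hxz, hyz]
      ring
    · show QuadraticMap.polar Q ((1 : F) • x + (-1 : F) • y) ((1 : F) • x + (1 : F) • y) = 0
      simp only [hQ.polar_bilinear.add_left, hQ.polar_bilinear.add_right,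
        hQ.polar_bilinear.smul_left, hQ.polar_bilinear.smul_right, hpx, hpy, hxy, hyx]
      ring
    · exact absurd rfl hkl

omit [Fintype ι] [DecidableEq ι] in
/-- a non-degenerate `3`-space over `F_3` has an orthogonal basis of vectors of one norm -/
theorem exists_frame [Fintype F] (hq : Fintype.card F = 3) (Q : (ι → F) → F)
    (hQ : IsNondegenerateQuadraticForm Q) (W : Submodule F (ι → F)) (hdim : finrank F W = 3)
    (hW : IsNondegenerateOn (QuadraticMap.polar Q) W) :
    ∃ (ε : F) (u : Fin 3 → ι → F), ε ≠ 0 ∧ (∀ k, u k ∈ W) ∧ (∀ k, Q (u k) = ε) ∧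
      ∀ k l, k ≠ l → QuadraticMap.polar Q (u k) (u l) = 0 := by
  classical
  have h2 : (2 : F) ≠ 0 := two_ne_zero3 hq
  have hinv : Invertible (2 : F) := invertibleOfNonzero h2
  have hfd : FiniteDimensional F W := FiniteDimensional.of_finrank_pos (by rw [hdim]; norm_num)
  set B : LinearMap.BilinForm F W := (polarBil Q hQ).restrict W with hB
  have hBapp : ∀ a b : W, B a b = QuadraticMap.polar Q (a : ι → F) (b : ι → F) := fun a b => rfl
  have hsymm : LinearMap.IsSymm B := by
    refine ⟨fun a b => ?_⟩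
    rw [hBapp, hBapp, QuadraticMap.polar_comm]
    rfl
  obtain ⟨v, hv⟩ := LinearMap.BilinForm.exists_orthogonal_basis hsymm
  have hsep : B.SeparatingLeft := by
    intro a ha
    by_contra ha0
    obtain ⟨-, ⟨x, hx, hne⟩⟩ := hW (a : ι → F) a.2 (fun h => ha0 (Subtype.ext h))
    exact hne (ha ⟨x, hx⟩)
  have hself : ∀ i, B (v i) (v i) ≠ 0 := fun i =>
    hv.not_isOrtho_basis_self_of_separatingLeft hsep i
  have horthv : ∀ i j, i ≠ j → B (v i) (v j) = 0 := fun i j hij => hv hij
  set b : Fin 3 → ι → F := fun k => ((v (Fin.cast hdim.symm k) : W) : ι → F) with hb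
  have hbW : ∀ k, b k ∈ W := fun k => (v (Fin.cast hdim.symm k)).2
  have hbQ : ∀ k, Q (b k) ≠ 0 := by
    intro k h0
    apply hself (Fin.cast hdim.symm k)
    rw [hBapp, polar_self Q hQ]
    show 2 * Q (b k) = 0
    rw [h0, mul_zero]
  have hborth : ∀ k l, k ≠ l → QuadraticMap.polar Q (b k) (b l) = 0 := by
    intro k l hkl
    have := horthv (Fin.cast hdim.symm k) (Fin.cast hdim.symm l)
      (fun h => hkl (Fin.cast_injective _ h))
    rwa [hBapp] at this
  have hval : ∀ k, Q (b k) = 1 ∨ Q (b k) = -1 := by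
    intro k
    rcases trichotomy hq (Q (b k)) with h | h | h
    · exact absurd h (hbQ k)
    · exact Or.inl h
    · exact Or.inr h
  have h1 : (1 : F) ≠ 0 := one_ne_zero
  have hn1 : (-1 : F) ≠ 0 := neg_ne_zero.2 one_ne_zero
  have same : ∀ δ : F, δ ≠ 0 → Q (b 0) = δ → Q (b 1) = δ → Q (b 2) = δ →
      ∃ (ε : F) (u : Fin 3 → ι → F), ε ≠ 0 ∧ (∀ k, u k ∈ W) ∧ (∀ k, Q (u k) = ε) ∧
        ∀ k l, k ≠ l → QuadraticMap.polar Q (u k) (u l) = 0 := by
    intro δ hδ h0 h1' h2'
    refine ⟨δ, b, hδ, hbW, ?_, hborth⟩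
    intro k
    fin_cases k
    · exact h0
    · exact h1'
    · exact h2'
  rcases hval 0 with h0 | h0 <;> rcases hval 1 with h1' | h1' <;> rcases hval 2 with h2' | h2'
  · exact same 1 h1 h0 h1' h2'
  · exact mix hq Q hQ W 1 h1 (b 0) (b 1) (b 2) (hbW 0) (hbW 1) (hbW 2) h0 h1' h2'
      (hborth 0 1 (by decide)) (hborth 0 2 (by decide)) (hborth 1 2 (by decide))
  · exact mix hq Q hQ W 1 h1 (b 0) (b 2) (b 1) (hbW 0) (hbW 2) (hbW 1) h0 h2' h1'
      (hborth 0 2 (by decide)) (hborth 0 1 (by decide)) (hborth 2 1 (by decide))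
  · exact mix hq Q hQ W (-1) hn1 (b 1) (b 2) (b 0) (hbW 1) (hbW 2) (hbW 0) h1' h2'
      (by rw [h0, neg_neg])
      (hborth 1 2 (by decide)) (hborth 1 0 (by decide)) (hborth 2 0 (by decide))
  · exact mix hq Q hQ W 1 h1 (b 1) (b 2) (b 0) (hbW 1) (hbW 2) (hbW 0) h1' h2' h0
      (hborth 1 2 (by decide)) (hborth 1 0 (by decide)) (hborth 2 0 (by decide))
  · exact mix hq Q hQ W (-1) hn1 (b 0) (b 2) (b 1) (hbW 0) (hbW 2) (hbW 1) h0 h2'
      (by rw [h1', neg_neg])
      (hborth 0 2 (by decide)) (hborth 0 1 (by decide)) (hborth 2 1 (by decide))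
  · exact mix hq Q hQ W (-1) hn1 (b 0) (b 1) (b 2) (hbW 0) (hbW 1) (hbW 2) h0 h1'
      (by rw [h2', neg_neg])
      (hborth 0 1 (by decide)) (hborth 0 2 (by decide)) (hborth 1 2 (by decide))
  · exact same (-1) hn1 h0 h1' h2'

/-! ### PL6 -/

theorem PL6 [Fintype F] (hq : Fintype.card F = 3) (Q : (ι → F) → F) (hQ : IsNondegenerateQuadraticForm Q)
    (t t' : ℕ) (ht' : t' = 3 * t) (D : Fin t → Submodule F (ι → F)) (hD : IsOrthogonalMDecomposition Q 3 D) :
    ∃ D' : Fin t' → Submodule F (ι → F), IsOrthogonalMDecomposition Q 1 D' ∧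
      decompositionStabilizer D ⊓ isometryGroup F Q ≤ decompositionStabilizer D' := by
  classical
  have h2 : (2 : F) ≠ 0 := two_ne_zero3 hq
  have ht2 := hD.decomp.decomp.two_le
  set i₀ : Fin t := ⟨0, by omega⟩ with hi₀
  obtain ⟨ε, u, hε, huW, hQu, huorth⟩ := exists_frame hq Q hQ (D i₀)
    (hD.decomp.decomp.finrank_eq i₀) (hD.decomp.nondegenerate i₀)
  -- transport the frame to all blocks
  choose φ hφ using fun i => hD.isometric i₀ i
  have hpol : ∀ i (a b : D i₀), QuadraticMap.polar Q ((φ i a : D i) : ι → F) ((φ i b : D i) : ι → F) =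
      QuadraticMap.polar Q (a : ι → F) (b : ι → F) := by
    intro i a b
    unfold QuadraticMap.polar
    rw [← Submodule.coe_add, ← map_add, hφ, hφ, hφ, Submodule.coe_add]
  let vec : Fin t × Fin 3 → (ι → F) := fun p => ((φ p.1 ⟨u p.2, huW p.2⟩ : D p.1) : ι → F)
  have hvec_mem : ∀ p, vec p ∈ D p.1 := fun p => (φ p.1 ⟨u p.2, huW p.2⟩).2
  have hvec_Q : ∀ p, Q (vec p) = ε := by
    intro p
    show Q ((φ p.1 ⟨u p.2, huW p.2⟩ : D p.1) : ι → F) = ε
    rw [hφ]
    exact hQu p.2
  have hvec_ne : ∀ p, vec p ≠ 0 := fun p =>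
    ne_zero_of_Q_ne Q hQ (by rw [hvec_Q p]; exact hε)
  have hvec_orth : ∀ p p', p ≠ p' → QuadraticMap.polar Q (vec p) (vec p') = 0 := by
    rintro ⟨i, k⟩ ⟨i', k'⟩ hne
    by_cases hi : i = i'
    · subst hi
      have hkk : k ≠ k' := fun h => hne (by rw [h])
      show QuadraticMap.polar Q ((φ i ⟨u k, huW k⟩ : D i) : ι → F) ((φ i ⟨u k', huW k'⟩ : D i) : ι → F) = 0
      rw [hpol]
      exact huorth k k' hkk
    · exact hD.decomp.orthogonal i i' hi _ (hvec_mem (i, k)) _ (hvec_mem (i', k'))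
  have hfr := fun i => frame_of_orth hq Q hQ (D i) (hD.decomp.decomp.finrank_eq i) ε hε
    (fun k => vec (i, k)) (fun k => hvec_mem (i, k)) (fun k => hvec_Q (i, k))
    (fun k l hkl => hvec_orth (i, k) (i, l) (fun h => hkl (Prod.ext_iff.1 h).2))
  have hD_sup : ∀ i, D i = ⨆ k, Submodule.span F {vec (i, k)} := fun i => (hfr i).1
  have hcls' : ∀ i, ∀ x ∈ D i, Q x = ε → ∃ k : Fin 3, x ∈ Submodule.span F {vec (i, k)} :=
    fun i => (hfr i).2
  have hli : LinearIndependent F vec :=
    li_of_orth Q hQ h2 vec (fun p => by rw [hvec_Q]; exact hε) hvec_orth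
  have hindepL : iSupIndep fun p => Submodule.span F {vec p} := hli.iSupIndep_span_singleton
  let eqv : Fin t' ≃ Fin t × Fin 3 := Fintype.equivOfCardEq (by
    rw [Fintype.card_prod, Fintype.card_fin, Fintype.card_fin, Fintype.card_fin, ht']
    ring)
  let D' : Fin t' → Submodule F (ι → F) := fun a => Submodule.span F {vec (eqv a)}
  have hD'indep : iSupIndep D' := hindepL.comp eqv.injective
  have hD'ne : ∀ a, D' a ≠ ⊥ := fun a => by
    show Submodule.span F {vec (eqv a)} ≠ ⊥
    rw [Ne, Submodule.span_singleton_eq_bot]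
    exact hvec_ne _
  have hD'sup : iSup D' = ⊤ := by
    have h1 : iSup D' = ⨆ p, Submodule.span F {vec p} :=
      Equiv.iSup_comp (g := fun p => Submodule.span F {vec p}) eqv
    rw [h1, iSup_prod, ← hD.decomp.decomp.iSup_eq_top]
    congr 1
    funext i
    rw [hD_sup i]
  refine ⟨D', ⟨⟨⟨?_, one_pos, ?_, hD'indep, hD'sup⟩, ?_, ?_⟩, ?_⟩, ?_⟩
  · omega
  · intro a
    exact finrank_span_singleton (hvec_ne _)
  · intro a
    exact nondegenerateOn_span_singleton Q hQ h2 (by rw [hvec_Q]; exact hε)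
  · intro a b hab
    exact orth_span Q hQ (hvec_orth _ _ (fun h => hab (eqv.injective h)))
  · intro a b
    exact isometric_span Q hQ (hvec_ne _) (hvec_ne _) (by rw [hvec_Q, hvec_Q])
  · rintro g ⟨hgD, hgI⟩
    obtain ⟨σ, hσ⟩ := hgD
    have hiso : ∀ x, Q ((g : Matrix ι ι F) *ᵥ x) = Q x := fun x => hgI x x
    apply mem_stab_of_forall_exists D' hD'indep hD'ne
    intro a
    set p := eqv a with hp
    have hx_mem : Matrix.toLin' (g : Matrix ι ι F) (vec p) ∈ D (σ p.1) := by
      rw [← hσ p.1]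
      exact Submodule.mem_map_of_mem (hvec_mem p)
    have hx_Q : Q (Matrix.toLin' (g : Matrix ι ι F) (vec p)) = ε := by
      rw [Matrix.toLin'_apply, hiso, hvec_Q]
    obtain ⟨k, hk⟩ := hcls' (σ p.1) _ hx_mem hx_Q
    refine ⟨eqv.symm (σ p.1, k), ?_⟩
    show (Submodule.span F {vec (eqv a)}).map _ = Submodule.span F {vec (eqv (eqv.symm (σ p.1, k)))}
    rw [Equiv.apply_symm_apply, Submodule.map_span, Set.image_singleton, ← hp]
    obtain ⟨c, hc⟩ := Submodule.mem_span_singleton.1 hk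
    have hc0 : c ≠ 0 := by
      rintro rfl
      rw [zero_smul] at hc
      rw [← hc, Q_zero Q hQ] at hx_Q
      exact hε hx_Q.symm
    rw [← hc]
    exact Submodule.span_singleton_smul_eq (IsUnit.mk0 c hc0) _

end Cfsg.Agent.Lib.Helper4_OrthEven_PL6
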