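import Mathlib
import Cfsg.Agent.Lib.Helper4_OrthEven_PL6

set_option autoImplicit false

/-!
# EV54 (helper22's batch 5) = PL6 (helper85's market): the same statement under the second name
-/

open Cfsg Cfsg.Geo Matrix

namespace Cfsg.Agent.Lib.Helper4_OrthEven_EV54

variable {ι : Type} [Fintype ι] [DecidableEq ι] {F : Type*} [Field F]

/-- EV54: over the field with 3 elements an isometric orthogonal decomposition into 3-spaces is refined by an isometric
orthogonal decomposition into lines, preserved by the isometries preserving the first -/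
theorem EV54 [Fintype F] (hq : Fintype.card F = 3) (Q : (ι → F) → F) (hQ : IsNondegenerateQuadraticForm Q)
    (t t' : ℕ) (ht' : t' = 3 * t) (D : Fin t → Submodule F (ι → F)) (hD : IsOrthogonalMDecomposition Q 3 D) :
    ∃ D' : Fin t' → Submodule F (ι → F), IsOrthogonalMDecomposition Q 1 D' ∧
      decompositionStabilizer D ⊓ isometryGroup F Q ≤ decompositionStabilizer D' :=
  Cfsg.Agent.Lib.Helper4_OrthEven_PL6.PL6 hq Q hQ t t' ht' D hD

end Cfsg.Agent.Lib.Helper4_OrthEven_EV54
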