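import Mathlib

set_option autoImplicit false

/-!
# Products of conjugacy classes in `PSL_d(F)`, `d ≥ 3` (for S2272)

For non-scalar `A, B ∈ SL_d(F)` (`d ≥ 3`, any field) there are conjugates `B₀, B₁` of `B` with `tr (A B₀) = 0` and `tr (A B₁) = 1`:
along a transvection family `k_s = 1 + s u ⊗ α` with `α u = α (A u) = 0` the trace `tr (A k_s B k_s⁻¹)` is affine in `s` with slope
`α ((BA - AB) u)`, and a conjugate of `B` with non-zero slope always exists.
-/

namespace Cfsg.Agent.Lib.Helper4_PSLClassProd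

open Matrix

variable {F : Type*} [Field F] {n : Type*} [Fintype n] [DecidableEq n]

/-- The transvection `1 + a ⊗ α` (`α a = 0`). -/
def tv (a α : n → F) (h : α ⬝ᵥ a = 0) : Matrix.SpecialLinearGroup n F :=
  ⟨1 + vecMulVec a α, by
    rw [Matrix.vecMulVec_eq Unit, det_one_add_replicateCol_mul_replicateRow, h, add_zero]⟩

theorem coe_tv (a α : n → F) (h : α ⬝ᵥ a = 0) :
    (tv a α h : Matrix n n F) = 1 + vecMulVec a α := rfl

theorem tv_mulVec (a α : n → F) (h : α ⬝ᵥ a = 0) (v : n → F) :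
    (tv a α h : Matrix n n F) *ᵥ v = v + (α ⬝ᵥ v) • a := by
  rw [coe_tv, add_mulVec, one_mulVec, vecMulVec_mulVec]
  congr 1
  ext i
  simp [mul_comm]

theorem tv_inv (a α : n → F) (h : α ⬝ᵥ a = 0) :
    (tv a α h)⁻¹ = tv (-a) α (by rw [dotProduct_neg, h, neg_zero]) := by
  apply inv_eq_of_mul_eq_one_right
  apply Subtype.ext
  rw [Matrix.SpecialLinearGroup.coe_mul, coe_tv, coe_tv, Matrix.SpecialLinearGroup.coe_one]
  have h1 : vecMulVec (-a) α = -vecMulVec a α := by
    ext i j
    simp [vecMulVec_apply]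
  have h3 : vecMulVec a α * vecMulVec a α = 0 := by
    rw [vecMulVec_mul_vecMulVec, h, zero_smul]
    ext i j
    simp [vecMulVec_apply]
  rw [h1, add_mul, one_mul, mul_add, mul_one, mul_neg, h3]
  abel

/-- Conjugation and the action on vectors. -/
theorem conj_mulVec (C M : Matrix.SpecialLinearGroup n F) (v : n → F) :
    ((C * M * C⁻¹ : Matrix.SpecialLinearGroup n F) : Matrix n n F) *ᵥ ((C : Matrix n n F) *ᵥ v) =
      (C : Matrix n n F) *ᵥ ((M : Matrix n n F) *ᵥ v) := by
  have h1 : C * M * C⁻¹ * C = C * M := by group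
  rw [mulVec_mulVec, mulVec_mulVec, ← Matrix.SpecialLinearGroup.coe_mul, ← Matrix.SpecialLinearGroup.coe_mul, h1]

theorem mulVec_injective (C : Matrix.SpecialLinearGroup n F) {v v' : n → F}
    (h : (C : Matrix n n F) *ᵥ v = (C : Matrix n n F) *ᵥ v') : v = v' := by
  have h1 : ∀ x : n → F, ((C⁻¹ : Matrix.SpecialLinearGroup n F) : Matrix n n F) *ᵥ ((C : Matrix n n F) *ᵥ x) = x := by
    intro x
    rw [mulVec_mulVec, ← Matrix.SpecialLinearGroup.coe_mul, inv_mul_cancel, Matrix.SpecialLinearGroup.coe_one, one_mulVec]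
  rw [← h1 v, h, h1]

/-- A functional vanishing on a subspace with value `1` at a vector outside. -/
theorem exists_functional (W : Submodule F (n → F)) (y : n → F) (hy : y ∉ W) :
    ∃ α : n → F, (∀ w ∈ W, α ⬝ᵥ w = 0) ∧ α ⬝ᵥ y = 1 := by
  obtain ⟨f, hfy, hfW⟩ := Submodule.exists_dual_map_eq_bot_of_notMem hy inferInstance
  have hrep : ∀ v : n → F, (fun i => (f y)⁻¹ * f (Pi.single i 1)) ⬝ᵥ v = (f y)⁻¹ * f v := by
    intro v
    rw [LinearMap.pi_apply_eq_sum_univ f v, Finset.mul_sum]
    unfold dotProduct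
    apply Finset.sum_congr rfl
    intro i _
    have : (fun j => if i = j then (1 : F) else 0) = Pi.single i 1 := by
      ext j
      simp [Pi.single_apply, eq_comm]
    rw [this, smul_eq_mul]
    ring
  refine ⟨fun i => (f y)⁻¹ * f (Pi.single i 1), ?_, ?_⟩
  · intro w hw
    have h0 : f w = 0 := by
      have : f w ∈ Submodule.map f W := Submodule.mem_map_of_mem hw
      rw [hfW] at this
      exact (Submodule.mem_bot F).1 this
    rw [hrep, h0, mul_zero]
  · rw [hrep, inv_mul_cancel₀ hfy]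

/-- A vector outside the span of two vectors, `3 ≤ d`. -/
theorem exists_notMem_span_pair (hd : 3 ≤ Fintype.card n) (x y : n → F) :
    ∃ z : n → F, z ∉ Submodule.span F ({x, y} : Set (n → F)) := by
  by_contra h
  push Not at h
  have htop : Submodule.span F ({x, y} : Set (n → F)) = ⊤ := by
    rw [eq_top_iff]
    intro z _
    exact h z
  have h1 : Module.finrank F (Submodule.span F ({x, y} : Set (n → F))) ≤ 2 := by
    classical
    have := finrank_span_finset_le_card (R := F) ({x, y} : Finset (n → F))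
    rw [Finset.coe_pair] at this
    exact this.trans Finset.card_le_two
  rw [htop, finrank_top, Module.finrank_fintype_fun_eq_card] at h1
  omega

/-- A non-scalar matrix has a vector that is not an eigenvector. -/
theorem exists_not_eigen [Nonempty n] (M : Matrix n n F) (hM : ∀ c : F, M ≠ scalar n c) :
    ∃ u : n → F, ∀ c : F, M *ᵥ u ≠ c • u := by
  by_contra h
  push Not at h
  choose c hc using h
  have hcol : ∀ j : n, (fun i => M i j) = c (Pi.single j 1) • (Pi.single j 1 : n → F) := by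
    intro j
    rw [← hc, mulVec_single_one]
    rfl
  have hconst : ∀ i j : n, c (Pi.single i 1) = c (Pi.single j 1) := by
    intro i j
    by_cases hij : i = j
    · rw [hij]
    have h1 := hc (Pi.single i 1 + Pi.single j 1)
    rw [mulVec_add, hc, hc] at h1
    have hi := congrFun h1 i
    have hj := congrFun h1 j
    simp [hij, Ne.symm hij] at hi hj
    rw [hi, hj]
  obtain ⟨i0⟩ := (inferInstance : Nonempty n)
  apply hM (c (Pi.single i0 1))
  ext i j
  have := congrFun (hcol j) i
  rw [this, hconst j i0, scalar_apply, diagonal_apply]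
  by_cases hij : i = j
  · simp [hij]
  · simp [hij, Pi.single_apply]


/-- Moving a vector to an independent one by a transvection. -/
theorem move_indep (v u : n → F) (hind : ∀ c : F, u ≠ c • v) (hv : v ≠ 0) :
    ∃ h : Matrix.SpecialLinearGroup n F, (h : Matrix n n F) *ᵥ v = u := by
  have hv' : v ∉ Submodule.span F ({u - v} : Set (n → F)) := by
    intro hmem
    obtain ⟨c, hc⟩ := Submodule.mem_span_singleton.1 hmem
    by_cases hc0 : c = 0
    · rw [hc0, zero_smul] at hc
      exact hv hc.symm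
    · apply hind ((1 + c) / c)
      have h1 : c • u = (1 + c) • v := by
        rw [smul_sub] at hc
        have h2 : c • u = v + c • v := by
          rw [← sub_eq_iff_eq_add]
          exact hc
        rw [add_smul, one_smul, h2]
      rw [div_eq_inv_mul, ← smul_smul, ← h1, smul_smul, inv_mul_cancel₀ hc0, one_smul]
  obtain ⟨φ, hφW, hφv⟩ := exists_functional _ _ hv'
  have hφ : φ ⬝ᵥ (u - v) = 0 := hφW _ (Submodule.subset_span rfl)
  refine ⟨tv (u - v) φ hφ, ?_⟩
  rw [tv_mulVec, hφv, one_smul]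
  abel

/-- `SL_d` is transitive on non-zero vectors. -/
theorem exists_move (hd : 3 ≤ Fintype.card n) (v u : n → F) (hv : v ≠ 0) (hu : u ≠ 0) :
    ∃ h : Matrix.SpecialLinearGroup n F, (h : Matrix n n F) *ᵥ v = u := by
  by_cases hind : ∀ c : F, u ≠ c • v
  · exact move_indep v u hind hv
  · push Not at hind
    obtain ⟨c, hc⟩ := hind
    obtain ⟨z, hz⟩ := exists_notMem_span_pair hd v v
    have hzv : ∀ c' : F, z ≠ c' • v := by
      intro c' h
      apply hz
      rw [h]
      exact Submodule.smul_mem _ _ (Submodule.subset_span (by simp))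
    have hz0 : z ≠ 0 := by
      intro h
      exact hzv 0 (by rw [h, zero_smul])
    obtain ⟨h', hh'⟩ := move_indep v z hzv hv
    have huz : ∀ c' : F, u ≠ c' • z := by
      intro c' h
      have hc' : c' ≠ 0 := by
        intro h0
        rw [h0, zero_smul] at h
        exact hu h
      apply hzv (c'⁻¹ * c)
      rw [← smul_smul, ← hc, h, smul_smul, inv_mul_cancel₀ hc', one_smul]
    obtain ⟨h'', hh''⟩ := move_indep z u huz hz0
    refine ⟨h'' * h', ?_⟩
    rw [Matrix.SpecialLinearGroup.coe_mul, ← mulVec_mulVec, hh', hh'']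

/-- The trace along a transvection family. -/
theorem trace_family (A B : Matrix n n F) (u α : n → F) (h1 : α ⬝ᵥ (A *ᵥ u) = 0) (s : F) :
    trace (A * ((1 + vecMulVec (s • u) α) * B * (1 + vecMulVec (-(s • u)) α))) =
      trace (A * B) + s * (α ⬝ᵥ ((B * A - A * B) *ᵥ u)) := by
  have e1 : vecMulVec (s • u) α = s • vecMulVec u α := by
    ext i j
    simp [vecMulVec_apply, mul_assoc]
  have e2 : vecMulVec (-(s • u)) α = -(s • vecMulVec u α) := by
    ext i j
    simp [vecMulVec_apply, mul_assoc]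
  have e3 : vecMulVec u α * B * vecMulVec u α = (α ⬝ᵥ (B *ᵥ u)) • vecMulVec u α := by
    rw [vecMulVec_mul, vecMulVec_mul_vecMulVec, ← dotProduct_mulVec]
    ext i j
    simp [vecMulVec_apply]
    ring
  have expand : A * ((1 + s • vecMulVec u α) * B * (1 + -(s • vecMulVec u α))) =
      A * B + s • (A * vecMulVec u α * B) - s • (A * B * vecMulVec u α)
        - (s * s * (α ⬝ᵥ (B *ᵥ u))) • (A * vecMulVec u α) := by
    have : (1 + s • vecMulVec u α) * B * (1 + -(s • vecMulVec u α)) =
        B + s • (vecMulVec u α * B) - s • (B * vecMulVec u α)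
          - (s * s) • (vecMulVec u α * B * vecMulVec u α) := by
      simp only [add_mul, mul_add, one_mul, mul_one, smul_mul_assoc, mul_neg, mul_smul_comm, smul_smul,
        Matrix.mul_assoc, smul_add, sub_eq_add_neg, neg_add, smul_neg]
      abel
    rw [this, e3]
    simp only [mul_add, mul_sub, mul_smul_comm, smul_smul, Matrix.mul_assoc]
  rw [e1, e2, expand, trace_sub, trace_sub, trace_add, trace_smul, trace_smul, trace_smul]
  have t1 : trace (A * vecMulVec u α * B) = α ⬝ᵥ ((B * A) *ᵥ u) := by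
    rw [trace_mul_cycle, Matrix.mul_assoc, mul_vecMulVec, mul_vecMulVec, trace_vecMulVec, dotProduct_comm,
      mulVec_mulVec]
  have t2 : trace (A * B * vecMulVec u α) = α ⬝ᵥ ((A * B) *ᵥ u) := by
    rw [mul_vecMulVec, trace_vecMulVec, dotProduct_comm]
  have t3 : trace (A * vecMulVec u α) = 0 := by
    rw [mul_vecMulVec, trace_vecMulVec, dotProduct_comm, h1]
  rw [t1, t2, t3, sub_mulVec, dotProduct_sub]
  simp only [smul_eq_mul, mul_zero, sub_zero]
  ring

/-- Stage 1: a conjugate of `B` for which `u` is not an eigenvector. -/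
theorem stage1 (hd : 3 ≤ Fintype.card n) (B : Matrix.SpecialLinearGroup n F)
    (hB : ∀ c : F, (B : Matrix n n F) ≠ scalar n c) (u : n → F) (hu : u ≠ 0) :
    ∃ C : Matrix.SpecialLinearGroup n F, ∀ c : F,
      ((C * B * C⁻¹ : Matrix.SpecialLinearGroup n F) : Matrix n n F) *ᵥ u ≠ c • u := by
  have : Nonempty n := Fintype.card_pos_iff.1 (by omega)
  obtain ⟨w, hw⟩ := exists_not_eigen (B : Matrix n n F) hB
  have hw0 : w ≠ 0 := by
    intro h
    apply hw 0
    rw [h, mulVec_zero, smul_zero]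
  obtain ⟨C, hC⟩ := exists_move hd w u hw0 hu
  refine ⟨C, fun c h => hw c ?_⟩
  apply mulVec_injective C
  rw [← conj_mulVec, hC, h, mulVec_smul, hC]

/-- Stage 2: a conjugate of `B` moving `u` outside the plane `⟨u, a⟩`. -/
theorem stage2 (hd : 3 ≤ Fintype.card n) (B : Matrix.SpecialLinearGroup n F) (u a : n → F)
    (hB : ∀ c : F, (B : Matrix n n F) *ᵥ u ≠ c • u) :
    ∃ C : Matrix.SpecialLinearGroup n F,
      ((C * B * C⁻¹ : Matrix.SpecialLinearGroup n F) : Matrix n n F) *ᵥ u ∉
        Submodule.span F ({u, a} : Set (n → F)) := by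
  by_cases hmem : (B : Matrix n n F) *ᵥ u ∈ Submodule.span F ({u, a} : Set (n → F))
  swap
  · refine ⟨1, ?_⟩
    rw [one_mul, inv_one, mul_one]
    exact hmem
  obtain ⟨z, hz⟩ := exists_notMem_span_pair hd u a
  have hBz : (B : Matrix n n F) *ᵥ u ∉ Submodule.span F ({u, z} : Set (n → F)) := by
    intro h
    obtain ⟨x, y, hxy⟩ := Submodule.mem_span_pair.1 h
    by_cases hy : y = 0
    · rw [hy, zero_smul, add_zero] at hxy
      exact hB x hxy.symm
    · apply hz
      have : z = y⁻¹ • ((B : Matrix n n F) *ᵥ u - x • u) := by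
        rw [← hxy, add_sub_cancel_left, smul_smul, inv_mul_cancel₀ hy, one_smul]
      rw [this]
      exact Submodule.smul_mem _ _ (Submodule.sub_mem _ hmem
        (Submodule.smul_mem _ _ (Submodule.subset_span (by simp))))
  obtain ⟨φ, hφW, hφ1⟩ := exists_functional _ _ hBz
  have hφz : φ ⬝ᵥ z = 0 := hφW _ (Submodule.subset_span (by simp))
  have hφu : φ ⬝ᵥ u = 0 := hφW _ (Submodule.subset_span (by simp))
  refine ⟨tv z φ hφz, ?_⟩
  have hfix : (tv z φ hφz : Matrix n n F) *ᵥ u = u := by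
    rw [tv_mulVec, hφu, zero_smul, add_zero]
  have key := conj_mulVec (tv z φ hφz) B u
  rw [hfix, tv_mulVec, hφ1, one_smul] at key
  rw [key]
  intro h
  apply hz
  have := Submodule.sub_mem _ h hmem
  rwa [add_sub_cancel_left] at this

/-- Stage 3: a conjugate `B'` of `B` with `(B' A - A B') u` outside the plane `⟨u, A u⟩`. -/
theorem stage3 (A : Matrix n n F) (B : Matrix.SpecialLinearGroup n F) (u : n → F)
    (hA : ∀ c : F, A *ᵥ u ≠ c • u)
    (hB : (B : Matrix n n F) *ᵥ u ∉ Submodule.span F ({u, A *ᵥ u} : Set (n → F))) :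
    ∃ C : Matrix.SpecialLinearGroup n F,
      ((((C * B * C⁻¹ : Matrix.SpecialLinearGroup n F) : Matrix n n F) * A -
          A * ((C * B * C⁻¹ : Matrix.SpecialLinearGroup n F) : Matrix n n F)) *ᵥ u) ∉
        Submodule.span F ({u, A *ᵥ u} : Set (n → F)) := by
  by_cases hmem : (((B : Matrix n n F) * A - A * (B : Matrix n n F)) *ᵥ u) ∈
      Submodule.span F ({u, A *ᵥ u} : Set (n → F))
  swap
  · refine ⟨1, ?_⟩
    rw [one_mul, inv_one, mul_one]
    exact hmem
  have hAu : A *ᵥ u ∉ Submodule.span F ({u, (B : Matrix n n F) *ᵥ u} : Set (n → F)) := by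
    intro h
    obtain ⟨x, y, hxy⟩ := Submodule.mem_span_pair.1 h
    by_cases hy : y = 0
    · rw [hy, zero_smul, add_zero] at hxy
      exact hA x hxy.symm
    · apply hB
      have : (B : Matrix n n F) *ᵥ u = y⁻¹ • (A *ᵥ u - x • u) := by
        rw [← hxy, add_sub_cancel_left, smul_smul, inv_mul_cancel₀ hy, one_smul]
      rw [this]
      exact Submodule.smul_mem _ _ (Submodule.sub_mem _ (Submodule.subset_span (by simp))
        (Submodule.smul_mem _ _ (Submodule.subset_span (by simp))))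
  obtain ⟨ε, hεW, hε1⟩ := exists_functional _ _ hAu
  have hεu : ε ⬝ᵥ u = 0 := hεW _ (Submodule.subset_span (by simp))
  have hεB : ε ⬝ᵥ ((B : Matrix n n F) *ᵥ u) = 0 := hεW _ (Submodule.subset_span (by simp))
  refine ⟨tv u ε hεu, ?_⟩
  have hfix : (tv u ε hεu : Matrix n n F) *ᵥ u = u := by
    rw [tv_mulVec, hεu, zero_smul, add_zero]
  have k1 : ((tv u ε hεu * B * (tv u ε hεu)⁻¹ : Matrix.SpecialLinearGroup n F) : Matrix n n F) *ᵥ u =
      (B : Matrix n n F) *ᵥ u := by
    have key := conj_mulVec (tv u ε hεu) B u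
    rw [hfix] at key
    rw [key, tv_mulVec, hεB, zero_smul, add_zero]
  have k2 : ∃ c : F,
      ((tv u ε hεu * B * (tv u ε hεu)⁻¹ : Matrix.SpecialLinearGroup n F) : Matrix n n F) *ᵥ (A *ᵥ u) =
        (B : Matrix n n F) *ᵥ (A *ᵥ u) - (B : Matrix n n F) *ᵥ u + c • u := by
    have h1 : (tv u ε hεu : Matrix n n F) *ᵥ (A *ᵥ u - u) = A *ᵥ u := by
      rw [tv_mulVec, dotProduct_sub, hε1, hεu, sub_zero, one_smul]
      abel
    refine ⟨ε ⬝ᵥ ((B : Matrix n n F) *ᵥ (A *ᵥ u - u)), ?_⟩
    have key := conj_mulVec (tv u ε hεu) B (A *ᵥ u - u)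
    rw [h1] at key
    rw [key, tv_mulVec, mulVec_sub]
  obtain ⟨c, hc⟩ := k2
  rw [sub_mulVec, ← mulVec_mulVec, ← mulVec_mulVec, hc, k1]
  intro h
  apply hB
  rw [sub_mulVec, ← mulVec_mulVec, ← mulVec_mulVec] at hmem
  have e : (B : Matrix n n F) *ᵥ u =
      ((B : Matrix n n F) *ᵥ (A *ᵥ u) - A *ᵥ ((B : Matrix n n F) *ᵥ u)) + c • u -
        ((B : Matrix n n F) *ᵥ (A *ᵥ u) - (B : Matrix n n F) *ᵥ u + c • u -
          A *ᵥ ((B : Matrix n n F) *ᵥ u)) := by
    abel
  rw [e]
  exact Submodule.sub_mem _ (Submodule.add_mem _ hmem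
    (Submodule.smul_mem _ _ (Submodule.subset_span (by simp)))) h

/-- Stage 4: with `(B A - A B) u` outside the plane `⟨u, A u⟩`, every trace value is attained. -/
theorem stage4 (A : Matrix n n F) (B : Matrix.SpecialLinearGroup n F) (u : n → F)
    (hE : (((B : Matrix n n F) * A - A * (B : Matrix n n F)) *ᵥ u) ∉
      Submodule.span F ({u, A *ᵥ u} : Set (n → F))) (τ : F) :
    ∃ K : Matrix.SpecialLinearGroup n F,
      trace (A * ((K * B * K⁻¹ : Matrix.SpecialLinearGroup n F) : Matrix n n F)) = τ := by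
  obtain ⟨α, hαW, hα1⟩ := exists_functional _ _ hE
  have hαu : α ⬝ᵥ u = 0 := hαW _ (Submodule.subset_span (by simp))
  have hαA : α ⬝ᵥ (A *ᵥ u) = 0 := hαW _ (Submodule.subset_span (by simp))
  have hsu : α ⬝ᵥ ((τ - trace (A * (B : Matrix n n F))) • u) = 0 := by
    rw [dotProduct_smul, hαu, smul_zero]
  refine ⟨tv ((τ - trace (A * (B : Matrix n n F))) • u) α hsu, ?_⟩
  rw [tv_inv, Matrix.SpecialLinearGroup.coe_mul, Matrix.SpecialLinearGroup.coe_mul, coe_tv, coe_tv,
    trace_family A _ u α hαA, hα1, mul_one]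
  ring

/-- For non-scalar `A, B ∈ SL_d(F)`, `d ≥ 3`, the products `A · B^C` attain every trace value. -/
theorem exists_trace_eq (hd : 3 ≤ Fintype.card n) (A B : Matrix.SpecialLinearGroup n F)
    (hA : ∀ c : F, (A : Matrix n n F) ≠ scalar n c) (hB : ∀ c : F, (B : Matrix n n F) ≠ scalar n c)
    (τ : F) :
    ∃ C : Matrix.SpecialLinearGroup n F,
      trace ((A * (C * B * C⁻¹) : Matrix.SpecialLinearGroup n F) : Matrix n n F) = τ := by
  have : Nonempty n := Fintype.card_pos_iff.1 (by omega)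
  obtain ⟨u, hu⟩ := exists_not_eigen (A : Matrix n n F) hA
  have hu0 : u ≠ 0 := by
    intro h
    apply hu 0
    rw [h, mulVec_zero, smul_zero]
  obtain ⟨C1, h1⟩ := stage1 hd B hB u hu0
  obtain ⟨C2, h2⟩ := stage2 hd (C1 * B * C1⁻¹) u ((A : Matrix n n F) *ᵥ u) h1
  obtain ⟨C3, h3⟩ := stage3 (A : Matrix n n F) (C2 * (C1 * B * C1⁻¹) * C2⁻¹) u hu h2
  obtain ⟨K, h4⟩ := stage4 (A : Matrix n n F) (C3 * (C2 * (C1 * B * C1⁻¹) * C2⁻¹) * C3⁻¹) u h3 τ
  refine ⟨K * C3 * C2 * C1, ?_⟩
  have e : (K * C3 * C2 * C1) * B * (K * C3 * C2 * C1)⁻¹ =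
      K * (C3 * (C2 * (C1 * B * C1⁻¹) * C2⁻¹) * C3⁻¹) * K⁻¹ := by
    group
  rw [e, Matrix.SpecialLinearGroup.coe_mul]
  exact h4

/-- An element of `SL` whose matrix is scalar is central. -/
theorem mem_center_of_scalar (A : Matrix.SpecialLinearGroup n F) (c : F)
    (h : (A : Matrix n n F) = scalar n c) : A ∈ Subgroup.center (Matrix.SpecialLinearGroup n F) := by
  rw [Subgroup.mem_center_iff]
  intro B
  apply Subtype.ext
  rw [Matrix.SpecialLinearGroup.coe_mul, Matrix.SpecialLinearGroup.coe_mul, h]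
  exact (scalar_commute (n := n) c (Commute.all c) (B : Matrix n n F)).symm

/-- The trace is a class function on `SL`. -/
theorem trace_conj (G X : Matrix.SpecialLinearGroup n F) :
    trace ((G * X * G⁻¹ : Matrix.SpecialLinearGroup n F) : Matrix n n F) = trace (X : Matrix n n F) := by
  rw [Matrix.SpecialLinearGroup.coe_mul, Matrix.SpecialLinearGroup.coe_mul, trace_mul_cycle,
    ← Matrix.SpecialLinearGroup.coe_mul, inv_mul_cancel, Matrix.SpecialLinearGroup.coe_one, one_mul]

/-- Elements of `SL` of trace `0` and trace `1` are not conjugate in `PSL`. -/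
theorem not_isConj_of_trace (X0 X1 : Matrix.SpecialLinearGroup n F)
    (h0 : trace (X0 : Matrix n n F) = 0) (h1 : trace (X1 : Matrix n n F) = 1) :
    ¬ IsConj (QuotientGroup.mk X0 : Matrix.ProjectiveSpecialLinearGroup n F) (QuotientGroup.mk X1) := by
  intro hconj
  obtain ⟨c, hc⟩ := isConj_iff.1 hconj
  obtain ⟨G, rfl⟩ := QuotientGroup.mk_surjective c
  rw [← QuotientGroup.mk_inv, ← QuotientGroup.mk_mul, ← QuotientGroup.mk_mul, QuotientGroup.eq] at hc
  obtain ⟨r, _, hr⟩ := Matrix.SpecialLinearGroup.mem_center_iff.1 hc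
  have e : X1 = (G * X0 * G⁻¹) * ((G * X0 * G⁻¹)⁻¹ * X1) := by group
  have h2 : trace (X1 : Matrix n n F) = 0 := by
    rw [e, Matrix.SpecialLinearGroup.coe_mul, ← hr]
    have : ((G * X0 * G⁻¹ : Matrix.SpecialLinearGroup n F) : Matrix n n F) * scalar n r =
        r • ((G * X0 * G⁻¹ : Matrix.SpecialLinearGroup n F) : Matrix n n F) := by
      ext i j
      simp [mul_comm]
    rw [this, trace_smul, trace_conj, h0, smul_zero]
  rw [h1] at h2
  exact one_ne_zero h2

/-- S2272 for an arbitrary index type: in `PSL_d(F)`, `d ≥ 3`, a product of two non-trivial classes is never a single class. -/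
theorem psl_class_product (hd : 3 ≤ Fintype.card n) (a b : Matrix.ProjectiveSpecialLinearGroup n F)
    (ha : a ≠ 1) (hb : b ≠ 1) :
    ∃ g h : Matrix.ProjectiveSpecialLinearGroup n F,
      ¬ IsConj (a * b) (g * a * g⁻¹ * (h * b * h⁻¹)) := by
  obtain ⟨A, rfl⟩ := QuotientGroup.mk_surjective a
  obtain ⟨B, rfl⟩ := QuotientGroup.mk_surjective b
  have hA : ∀ c : F, (A : Matrix n n F) ≠ scalar n c := by
    intro c h
    apply ha
    exact (QuotientGroup.eq_one_iff A).2 (mem_center_of_scalar A c h)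
  have hB : ∀ c : F, (B : Matrix n n F) ≠ scalar n c := by
    intro c h
    apply hb
    exact (QuotientGroup.eq_one_iff B).2 (mem_center_of_scalar B c h)
  obtain ⟨C0, h0⟩ := exists_trace_eq hd A B hA hB 0
  obtain ⟨C1, h1⟩ := exists_trace_eq hd A B hA hB 1
  by_contra hall
  push Not at hall
  have k0 := hall 1 (QuotientGroup.mk C0)
  have k1 := hall 1 (QuotientGroup.mk C1)
  rw [one_mul, inv_one, mul_one, ← QuotientGroup.mk_inv, ← QuotientGroup.mk_mul, ← QuotientGroup.mk_mul,
    ← QuotientGroup.mk_mul] at k0 k1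
  exact not_isConj_of_trace _ _ h0 h1 (k0.symm.trans k1)

end Cfsg.Agent.Lib.Helper4_PSLClassProd
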