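import Mathlib
import Cfsg.Prelude.Def_Classical
import Cfsg.Agent.Lib.Helper13_Herm
import Cfsg.Agent.Lib.Helper5_SUCenter
import Cfsg.Agent.Lib.Helper44_PSLnUT
import Cfsg.Agent.Lib.Helper32_PGroup
import Cfsg.Agent.Lib.Helper88_PSLnFusDefs
import Cfsg.Agent.Lib.Helper88_PSUFusDefs

/-!
# Common tools for the S5172 packages G1, G2 (architect helper88, proof helper4)

An element of `GJ` that is upper triangular with constant diagonal `μ` is `μ • u` with `u ∈ UJ`;
matrices of the root elements `xs`, `ym`; membership of transvections in `heisShape`, `fixCols`.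
-/

set_option autoImplicit false

namespace Cfsg.Agent.Lib.Helper4_S5172_GLib

open Matrix Cfsg.Agent.Lib.Helper44_PSLnUT Cfsg.Agent.Lib.Helper88_PSLnFus
  Cfsg.Agent.Lib.Helper88_PSUFus

variable {F : Type*} [Field F]

/-! ### entries of products with matrix units -/

theorem mul_single_apply' {n : ℕ} (C : Matrix (Fin n) (Fin n) F) (a b i j : Fin n) (x : F) :
    (C * Matrix.single a b x) i j = if j = b then C i a * x else 0 := by
  by_cases h : j = b
  · subst h
    simp
  · simp [h]

theorem single_mul_apply' {n : ℕ} (C : Matrix (Fin n) (Fin n) F) (a b i j : Fin n) (x : F) :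
    (Matrix.single a b x * C) i j = if i = a then x * C b j else 0 := by
  by_cases h : i = a
  · subst h
    simp
  · simp [h]

/-! ### matrices of the root elements -/

theorem one_add_mul_one_add {n : ℕ} (A B : Matrix (Fin n) (Fin n) F) :
    (1 + A) * (1 + B) = 1 + (A + B) + A * B := by
  noncomm_ring

theorem xs_coe' {n : ℕ} {q : ℕ} {i j : Fin n} (hij : i ≠ j) (hj : j ≠ Fin.rev j) (a : F) :
    (xs q hij a).1 = 1 + (Matrix.single i j a + Matrix.single (Fin.rev j) (Fin.rev i) (-(a ^ q))) := by
  unfold xs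
  show (SpecialLinearGroup.transvection hij a).1 *
    (SpecialLinearGroup.transvection (rev_ne hij) (-(a ^ q))).1 = _
  rw [SpecialLinearGroup.transvection_coe, SpecialLinearGroup.transvection_coe,
    one_add_mul_one_add, Matrix.single_mul_single_of_ne _ _ _ _ hj, add_zero]

theorem ym_coe' {n : ℕ} {q : ℕ} {i m : Fin n} (him : i ≠ m) (hm : Fin.rev m = m) (a b : F) :
    (ym q him hm a b).1 = 1 + (Matrix.single i m a + Matrix.single m (Fin.rev i) (-(a ^ q))
      + Matrix.single i (Fin.rev i) b) := by
  unfold ym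
  show (SpecialLinearGroup.transvection him a).1 *
    (SpecialLinearGroup.transvection (ne_rev_of_mid him hm) (-(a ^ q))).1 *
    (SpecialLinearGroup.transvection (ne_rev_self_of_mid him hm) (b + a ^ (q + 1))).1 = _
  rw [SpecialLinearGroup.transvection_coe, SpecialLinearGroup.transvection_coe,
    SpecialLinearGroup.transvection_coe]
  have h1 : (Matrix.single i m a : Matrix (Fin n) (Fin n) F) * Matrix.single m (Fin.rev i) (-(a ^ q))
      = Matrix.single i (Fin.rev i) (-(a ^ (q + 1))) := by
    rw [Matrix.single_mul_single_same]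
    congr 1
    ring
  have h2 : (Matrix.single i m a : Matrix (Fin n) (Fin n) F) *
      Matrix.single i (Fin.rev i) (b + a ^ (q + 1)) = 0 :=
    Matrix.single_mul_single_of_ne _ _ _ _ (Ne.symm him) _
  have h3 : (Matrix.single m (Fin.rev i) (-(a ^ q)) : Matrix (Fin n) (Fin n) F) *
      Matrix.single i (Fin.rev i) (b + a ^ (q + 1)) = 0 :=
    Matrix.single_mul_single_of_ne _ _ _ _ (Ne.symm (ne_rev_self_of_mid him hm)) _
  have h4 : (Matrix.single i (Fin.rev i) (-(a ^ (q + 1))) : Matrix (Fin n) (Fin n) F) *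
      Matrix.single i (Fin.rev i) (b + a ^ (q + 1)) = 0 :=
    Matrix.single_mul_single_of_ne _ _ _ _ (Ne.symm (ne_rev_self_of_mid him hm)) _
  have h5 : (Matrix.single i (Fin.rev i) b : Matrix (Fin n) (Fin n) F) =
      Matrix.single i (Fin.rev i) (-(a ^ (q + 1))) + Matrix.single i (Fin.rev i) (b + a ^ (q + 1)) := by
    rw [← Matrix.single_add]
    congr 1
    ring
  rw [one_add_mul_one_add, h1, add_assoc (1 : Matrix (Fin n) (Fin n) F), one_add_mul_one_add,
    add_mul, add_mul, h2, h3, h4, h5]
  abel

/-! ### the hermitian form -/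

theorem hermJ_smul_smul {n : ℕ} (q : ℕ) (s t : F) (x y : Fin n → F) :
    hermJ n F q (s • x) (t • y) = s * t ^ q * hermJ n F q x y := by
  unfold hermJ
  rw [Finset.mul_sum]
  apply Finset.sum_congr rfl
  intro i _
  rw [Pi.smul_apply, Pi.smul_apply, smul_eq_mul, smul_eq_mul, mul_pow]
  ring

theorem hermJ_single_single {n : ℕ} (q : ℕ) (k : Fin n) :
    hermJ n F q (Pi.single k 1) (Pi.single (Fin.rev k) 1) = 1 := by
  unfold hermJ
  rw [Finset.sum_eq_single k]
  · rw [Pi.single_eq_same, Pi.single_eq_same, one_pow, one_mul]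
  · intro i _ hi
    rw [Pi.single_eq_of_ne hi, zero_mul]
  · intro h
    exact absurd (Finset.mem_univ k) h

section finite

variable [Fintype F] {q : ℕ}

/-- parameters of a root element `ym` with nonzero first parameter -/
theorem exists_ym_param (hF : Fintype.card F = q ^ 2) :
    ∃ a b : F, a ≠ 0 ∧ b + b ^ q + a ^ (q + 1) = 0 := by
  have ht : ∃ t : F, t + t ^ q ≠ 0 := by
    by_cases h2 : (1 : F) + 1 ^ q = 0
    · obtain ⟨z, hz⟩ := Cfsg.Agent.Lib.Helper5_SUCenter.exists_pow_q_ne hF
      refine ⟨z, fun h => hz ?_⟩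
      rw [one_pow] at h2
      have h3 : z ^ q = -z := eq_neg_of_add_eq_zero_right h
      have h4 : -z = z := by
        have : z + z = 0 := by
          have : z + z = z * (1 + 1) := by ring
          rw [this, h2, mul_zero]
        exact (eq_neg_of_add_eq_zero_left this).symm
      rw [h3, h4]
    · exact ⟨1, h2⟩
  obtain ⟨t, ht⟩ := ht
  have hθ : (t + t ^ q) ^ q = t + t ^ q := by
    rw [Cfsg.Agent.Lib.Helper13_Herm.add_pow_q hF, Cfsg.Agent.Lib.Helper13_Herm.pow_q_pow_q hF,
      add_comm]
  refine ⟨t + t ^ q, -((t + t ^ q) * t), ht, ?_⟩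
  rw [Cfsg.Agent.Lib.Helper13_Herm.neg_pow_q hF, mul_pow, pow_succ, hθ]
  ring

end finite

/-! ### membership of transvections in `heisShape`, `fixCols` -/

theorem transvection_mulVec {n : ℕ} {a b : Fin n} (hab : a ≠ b) (x : F) (v : Fin n → F) :
    (SpecialLinearGroup.transvection hab x).1 *ᵥ v = v + (x * v b) • (Pi.single a 1 : Fin n → F) := by
  rw [SpecialLinearGroup.transvection_coe, Matrix.add_mulVec, Matrix.one_mulVec,
    Matrix.single_mulVec]
  congr 1
  funext k
  by_cases hk : k = a
  · subst hk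
    simp
  · simp [hk]

theorem transvection_mem_fixCols {n : ℕ} {a b : Fin n} (hab : a ≠ b) (x : F) (r : ℕ)
    (hb : r ≤ b.val) : SpecialLinearGroup.transvection hab x ∈ fixCols n F r := by
  intro j hj
  rw [transvection_mulVec]
  have : (Pi.single j (1 : F) : Fin n → F) b = 0 := by
    apply Pi.single_eq_of_ne
    intro h
    rw [h] at hb
    omega
  rw [this, mul_zero, zero_smul, add_zero]

theorem transvection_mem_heisShape {n : ℕ} {a b : Fin n} (hab : a ≠ b) (x : F)
    (hb : b.val ≠ 0) (h : a.val = 0 ∨ b.val = n - 1) :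
    SpecialLinearGroup.transvection hab x ∈ heisShape n F := by
  refine ⟨?_, ?_⟩
  · rw [transvection_mulVec]
    have : e0fun n F b = 0 := by
      unfold e0fun
      rw [if_neg hb]
    rw [this, mul_zero, zero_smul, add_zero]
  · intro v hv k hk
    rw [transvection_mulVec, Pi.add_apply, Pi.smul_apply, smul_eq_mul]
    rcases h with h | h
    · have : (Pi.single a (1 : F) : Fin n → F) k = 0 := by
        apply Pi.single_eq_of_ne
        intro hka
        rw [hka] at hk
        exact hk h
      rw [this, mul_zero, add_zero]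
    · rw [hv b h, mul_zero, zero_mul, add_zero]

/-! ### the final step -/

/-- an element of `GJ` which is upper triangular with constant diagonal is a scalar times an
element of `UJ` -/
theorem scalar_mul_UJ {q : ℕ} (n : ℕ) (hn : 1 ≤ n)
    (c : SpecialLinearGroup (Fin n) F) (hc : c ∈ GJ n F q) (μ : F)
    (hup : ∀ i j : Fin n, j < i → c.1 i j = 0) (hdiag : ∀ i : Fin n, c.1 i i = μ) :
    ∃ μ : F, ∃ u ∈ UJ n F q, c.1 = μ • u.1 := by
  have hdet : c.1.det = 1 := c.2
  have hbt : Matrix.BlockTriangular c.1 (id : Fin n → Fin n) := by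
    intro i j hij
    exact hup i j hij
  rw [Matrix.det_of_isUpperTriangular hbt] at hdet
  have hμn : μ ^ n = 1 := by
    rw [← hdet]
    simp [hdiag]
  have hμ0 : μ ≠ 0 := by
    intro h
    rw [h, zero_pow (by omega)] at hμn
    exact zero_ne_one hμn
  -- the norm of `μ`
  set k0 : Fin n := ⟨0, by omega⟩ with hk0
  have hcol0 : c.1 *ᵥ (Pi.single k0 1 : Fin n → F) = μ • (Pi.single k0 1 : Fin n → F) := by
    rw [Matrix.mulVec_single_one]
    funext i
    rw [Pi.smul_apply, smul_eq_mul]
    by_cases hi : i = k0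
    · rw [hi, Pi.single_eq_same, mul_one]
      exact hdiag k0
    · rw [Pi.single_eq_of_ne hi, mul_zero]
      apply hup
      rcases Fin.lt_or_ge k0 i with h | h
      · exact h
      · exfalso
        apply hi
        apply Fin.ext
        have : i.val ≤ k0.val := h
        rw [hk0] at this
        simp only at this
        rw [hk0]
        simp only
        omega
  have hnorm : μ * μ ^ q = 1 := by
    have h1 := (mem_GJ.mp hc) (Pi.single k0 1) (Pi.single (Fin.rev k0) 1)
    rw [hermJ_single_single, hcol0] at h1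
    have h2 : hermJ n F q (μ • (Pi.single k0 1 : Fin n → F))
        (c.1 *ᵥ (Pi.single (Fin.rev k0) 1 : Fin n → F)) = μ * μ ^ q := by
      unfold hermJ
      rw [Finset.sum_eq_single k0]
      · rw [Pi.smul_apply, Pi.single_eq_same, smul_eq_mul, mul_one, Matrix.mulVec_single_one]
        show μ * (c.1 (Fin.rev k0) (Fin.rev k0)) ^ q = _
        rw [hdiag]
      · intro i _ hi
        rw [Pi.smul_apply, Pi.single_eq_of_ne hi, smul_eq_mul, mul_zero, zero_mul]
      · intro h
        exact absurd (Finset.mem_univ k0) h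
    rw [h2] at h1
    exact h1
  -- the unitriangular part
  have hA : IsUT (μ⁻¹ • c.1) := by
    refine ⟨fun i j hij => ?_, fun i => ?_⟩
    · rw [Matrix.smul_apply, hup i j hij, smul_zero]
    · rw [Matrix.smul_apply, hdiag i, smul_eq_mul, inv_mul_cancel₀ hμ0]
  set u : SpecialLinearGroup (Fin n) F := ⟨μ⁻¹ • c.1, hA.det⟩ with hu
  have hu1 : u.1 = μ⁻¹ • c.1 := rfl
  have huG : u ∈ GJ n F q := by
    rw [mem_GJ]
    intro x y
    rw [hu1, Matrix.smul_mulVec, Matrix.smul_mulVec, hermJ_smul_smul, (mem_GJ.mp hc) x y]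
    have : μ⁻¹ * μ⁻¹ ^ q = 1 := by
      rw [inv_pow, ← mul_inv, hnorm, inv_one]
    rw [this, one_mul]
  have huU : u ∈ UT n F := by
    rw [mem_UT, hu1]
    exact hA
  refine ⟨μ, u, mem_UJ.mpr ⟨huG, huU⟩, ?_⟩
  rw [hu1, smul_smul, mul_inv_cancel₀ hμ0, one_smul]


/-! ### commutation relations -/

theorem comm_of_one_add {n : ℕ} {C N : Matrix (Fin n) (Fin n) F}
    (h : C * (1 + N) = (1 + N) * C) : C * N = N * C := by
  rw [mul_add, add_mul, mul_one, one_mul] at h
  exact add_left_cancel h

theorem comm_coe {n : ℕ} {c u : SpecialLinearGroup (Fin n) F} (h : c * u = u * c) :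
    c.1 * u.1 = u.1 * c.1 := congrArg Subtype.val h

/-- a matrix commuting with `x E_{ab}`, `x ≠ 0` -/
theorem comm_single {n : ℕ} (C : Matrix (Fin n) (Fin n) F) (a b : Fin n) (x : F) (hx : x ≠ 0)
    (hN : C * Matrix.single a b x = Matrix.single a b x * C) :
    (∀ l : Fin n, l ≠ a → C l a = 0) ∧ (∀ j : Fin n, j ≠ b → C b j = 0) ∧ C a a = C b b := by
  refine ⟨fun l hl => ?_, fun j hj => ?_, ?_⟩
  · have := congrFun (congrFun hN l) b
    rw [mul_single_apply', single_mul_apply', if_pos rfl, if_neg hl] at this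
    rcases mul_eq_zero.mp this with h1 | h1
    · exact h1
    · exact absurd h1 hx
  · have := congrFun (congrFun hN a) j
    rw [mul_single_apply', single_mul_apply', if_neg hj, if_pos rfl] at this
    rcases mul_eq_zero.mp this.symm with h1 | h1
    · exact absurd h1 hx
    · exact h1
  · have := congrFun (congrFun hN a) b
    rw [mul_single_apply', single_mul_apply', if_pos rfl, if_pos rfl, mul_comm] at this
    exact mul_left_cancel₀ hx this

/-- the diagonal entry at the middle index, from the commutation with one `ym` -/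
theorem diag_of_comm_ym {n : ℕ} (C : Matrix (Fin n) (Fin n) F) (k0 k k1 : Fin n) (a x b : F)
    (ha : a ≠ 0) (h1 : k ≠ k1) (h2 : k0 ≠ k) (h3 : C k1 k = 0)
    (hN : C * (Matrix.single k0 k a + Matrix.single k k1 x + Matrix.single k0 k1 b) =
      (Matrix.single k0 k a + Matrix.single k k1 x + Matrix.single k0 k1 b) * C) :
    C k k = C k0 k0 := by
  have := congrFun (congrFun hN k0) k
  simp only [Matrix.mul_add, Matrix.add_mul, Matrix.add_apply, mul_single_apply',
    single_mul_apply', h1, h2, if_true, if_false, h3, mul_zero, add_zero] at this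
  rw [mul_comm] at this
  exact (mul_left_cancel₀ ha this).symm

end Cfsg.Agent.Lib.Helper4_S5172_GLib
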