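import Mathlib
import Cfsg.Prelude.Def_Classical
import Cfsg.Agent.Lib.Helper13_Herm
import Cfsg.Agent.Lib.Helper5_SUCenter
import Cfsg.Agent.Lib.Helper44_PSLnUT
import Cfsg.Agent.Lib.Helper32_PGroup
import Cfsg.Agent.Lib.Helper88_PSLnFusDefs
import Cfsg.Agent.Lib.Helper88_PSUFusDefs
import Cfsg.Agent.Lib.Helper4_S5172_GLib
import Cfsg.Agent.Lib.Helper63_S5172_A1
import Cfsg.Agent.Lib.Helper26_S5172_A2

/-!
# S5172 package G1 (architect helper88, proof helper4)

The centraliser in `GJ` of the radical `Q1` (stabiliser of the isotropic point `⟨e_0⟩`) consists of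
scalar multiples of elements of `UJ`.
-/

set_option autoImplicit false

namespace Cfsg.Agent.Lib.Helper4_S5172_G1

open Matrix Cfsg.Agent.Lib.Helper44_PSLnUT Cfsg.Agent.Lib.Helper88_PSLnFus
  Cfsg.Agent.Lib.Helper88_PSUFus Cfsg.Agent.Lib.Helper4_S5172_GLib
  Cfsg.Agent.Lib.Helper63_S5172_A1 Cfsg.Agent.Lib.Helper26_S5172_A2

variable {F : Type*} [Field F] [Fintype F] {q : ℕ}

/-- **G1** -/
theorem G1 (hF : Fintype.card F = q ^ 2) (n : ℕ) (hn : 4 ≤ n)
    (c : SpecialLinearGroup (Fin n) F) (hc : c ∈ GJ n F q)
    (h : ∀ u ∈ Q1 n F q, c * u = u * c) :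
    ∃ μ : F, ∃ u ∈ UJ n F q, c.1 = μ • u.1 := by
  obtain ⟨κ, hκ0, hκ⟩ := Cfsg.Agent.Lib.Helper5_SUCenter.exists_trace_zero hF
  have hrev : ∀ i : Fin n, (Fin.rev i).val = n - 1 - i.val := by
    intro i
    rw [Fin.val_rev]
    omega
  set k0 : Fin n := ⟨0, by omega⟩ with hk0
  have hk0v : k0.val = 0 := rfl
  have hk1v : (Fin.rev k0).val = n - 1 := by
    rw [hrev, hk0v]
    omega
  have h01 : k0 < Fin.rev k0 := by
    show k0.val < (Fin.rev k0).val
    rw [hk1v, hk0v]
    omega
  have hne01 : k0 ≠ Fin.rev k0 := ne_of_lt h01
  -- the corner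
  have hcorner : (∀ l : Fin n, l ≠ k0 → c.1 l k0 = 0) ∧
      (∀ j : Fin n, j ≠ Fin.rev k0 → c.1 (Fin.rev k0) j = 0) ∧
      c.1 k0 k0 = c.1 (Fin.rev k0) (Fin.rev k0) := by
    have hmem : SpecialLinearGroup.transvection hne01 κ ∈ Q1 n F q := by
      refine Subgroup.mem_inf.mpr ⟨mem_UJ.mpr ⟨A1_long hF hne01 κ hκ, transvection_mem_UT h01 κ⟩,
        transvection_mem_heisShape hne01 κ ?_ (Or.inl hk0v)⟩
      rw [hk1v]
      omega
    have hcomm := comm_coe (h _ hmem)
    rw [SpecialLinearGroup.transvection_coe] at hcomm
    exact comm_single c.1 k0 (Fin.rev k0) κ hκ0 (comm_of_one_add hcomm)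
  obtain ⟨hC0, hR0, hD0⟩ := hcorner
  -- the short root elements in the first row
  have hS : ∀ k : Fin n, 0 < k.val → k.val < n - 1 → k ≠ Fin.rev k →
      (∀ j : Fin n, j ≠ Fin.rev k0 → c.1 k j = if j = k then c.1 k0 k0 else 0) ∧
      (∀ i : Fin n, i ≠ k0 → c.1 i (Fin.rev k) =
        if i = Fin.rev k then c.1 (Fin.rev k0) (Fin.rev k0) else 0) := by
    intro k hk1 hk2 hk
    have h0k : k0 ≠ k := by
      intro e
      rw [← e, hk0v] at hk1
      omega
    have hkr : (Fin.rev k).val = n - 1 - k.val := hrev k
    have hmem : xs q h0k (1 : F) ∈ Q1 n F q := by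
      refine Subgroup.mem_inf.mpr ⟨mem_UJ.mpr ⟨A1_mem hF h0k hne01 hk 1, ?_⟩, ?_⟩
      · unfold xs
        refine Subgroup.mul_mem _ ?_ ?_
        · have hlt : k0 < k := by
            show k0.val < k.val
            rw [hk0v]
            exact hk1
          exact transvection_mem_UT hlt _
        · have hlt : Fin.rev k < Fin.rev k0 := by
            show (Fin.rev k).val < (Fin.rev k0).val
            rw [hk1v, hkr]
            omega
          exact transvection_mem_UT hlt _
      · unfold xs
        refine Subgroup.mul_mem _ ?_ ?_
        · apply transvection_mem_heisShape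
          · omega
          · exact Or.inl hk0v
        · apply transvection_mem_heisShape
          · rw [hk1v]
            omega
          · exact Or.inr hk1v
    have hcomm := comm_coe (h _ hmem)
    rw [xs_coe' h0k hk, one_pow] at hcomm
    have hN := comm_of_one_add hcomm
    have e1 : k0 ≠ Fin.rev k := by
      intro e
      have := congrArg Fin.val e
      rw [hkr, hk0v] at this
      omega
    have e2 : Fin.rev k0 ≠ k := by
      intro e
      have := congrArg Fin.val e
      rw [hk1v] at this
      omega
    refine ⟨fun j hj => ?_, fun i hi => ?_⟩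
    · have := congrFun (congrFun hN k0) j
      simp only [Matrix.mul_add, Matrix.add_mul, Matrix.add_apply, mul_single_apply',
        single_mul_apply', hj, e1, if_true, if_false, mul_one, one_mul, add_zero] at this
      rw [← this]
    · have := congrFun (congrFun hN i) (Fin.rev k0)
      simp only [Matrix.mul_add, Matrix.add_mul, Matrix.add_apply, mul_single_apply',
        single_mul_apply', hi, e2, if_true, if_false, zero_add] at this
      by_cases hik : i = Fin.rev k
      · rw [if_pos hik] at this ⊢
        have h2 := this
        rw [mul_neg, mul_one, neg_mul, one_mul, neg_inj] at h2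
        exact h2
      · rw [if_neg hik] at this ⊢
        rw [mul_neg, mul_one, neg_eq_zero] at this
        exact this
  -- upper triangular
  have hup : ∀ i j : Fin n, j < i → c.1 i j = 0 := by
    intro i j hji
    have hji' : j.val < i.val := hji
    have hilt := i.isLt
    by_cases hj0 : j = k0
    · rw [hj0]
      apply hC0
      intro e
      rw [e, hj0] at hji
      exact lt_irrefl _ hji
    have hj1 : 0 < j.val := by
      rcases Nat.eq_zero_or_pos j.val with h0 | h0
      · exact absurd (Fin.ext (h0.trans hk0v.symm)) hj0
      · exact h0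
    by_cases hi1 : i = Fin.rev k0
    · rw [hi1]
      apply hR0
      intro e
      rw [e, hi1] at hji
      exact lt_irrefl _ hji
    have hi2 : i.val < n - 1 := by
      have : i.val ≠ n - 1 := by
        intro e
        exact hi1 (Fin.ext (e.trans hk1v.symm))
      omega
    have hjne : j ≠ Fin.rev k0 := by
      intro e
      have := congrArg Fin.val e
      rw [hk1v] at this
      omega
    by_cases hir : i = Fin.rev i
    · -- `i` is the middle index, `j` is not
      have hjr : j ≠ Fin.rev j := by
        intro e
        have e1 := congrArg Fin.val hir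
        have e2 := congrArg Fin.val e
        rw [hrev] at e1 e2
        omega
      have hk : Fin.rev j ≠ Fin.rev (Fin.rev j) := by
        rw [Fin.rev_rev]
        exact Ne.symm hjr
      have hjr' : (Fin.rev j).val = n - 1 - j.val := hrev j
      have := (hS (Fin.rev j) (by omega) (by omega) hk).2 i (by
        intro e
        rw [e, hk0v] at hji'
        omega)
      rw [Fin.rev_rev, if_neg (ne_of_gt hji)] at this
      exact this
    · have := (hS i (by omega) hi2 hir).1 j hjne
      rw [if_neg (ne_of_lt hji)] at this
      exact this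
  -- constant diagonal
  have hdiag : ∀ k : Fin n, c.1 k k = c.1 k0 k0 := by
    intro k
    have hklt := k.isLt
    by_cases hk0' : k = k0
    · rw [hk0']
    by_cases hk1' : k = Fin.rev k0
    · rw [hk1', ← hD0]
    have hk1 : 0 < k.val := by
      rcases Nat.eq_zero_or_pos k.val with h0 | h0
      · exact absurd (Fin.ext (h0.trans hk0v.symm)) hk0'
      · exact h0
    have hk2 : k.val < n - 1 := by
      have : k.val ≠ n - 1 := by
        intro e
        exact hk1' (Fin.ext (e.trans hk1v.symm))
      omega
    by_cases hkr : k = Fin.rev k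
    · -- the middle index
      have hm : Fin.rev k = k := hkr.symm
      have him : k0 ≠ k := Ne.symm hk0'
      obtain ⟨a, b, ha0, hab⟩ := exists_ym_param hF
      have hmem : ym q him hm a b ∈ Q1 n F q := by
        refine Subgroup.mem_inf.mpr ⟨mem_UJ.mpr ⟨A2_mem hF him hm a b hab, ?_⟩, ?_⟩
        · unfold ym
          refine Subgroup.mul_mem _ (Subgroup.mul_mem _ ?_ ?_) ?_
          · have hlt : k0 < k := by
              show k0.val < k.val
              rw [hk0v]
              exact hk1
            exact transvection_mem_UT hlt _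
          · have hlt : k < Fin.rev k0 := by
              show k.val < (Fin.rev k0).val
              rw [hk1v]
              exact hk2
            exact transvection_mem_UT hlt _
          · exact transvection_mem_UT h01 _
        · unfold ym
          refine Subgroup.mul_mem _ (Subgroup.mul_mem _ ?_ ?_) ?_
          · apply transvection_mem_heisShape
            · omega
            · exact Or.inl hk0v
          · apply transvection_mem_heisShape
            · rw [hk1v]
              omega
            · exact Or.inr hk1v
          · apply transvection_mem_heisShape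
            · rw [hk1v]
              omega
            · exact Or.inl hk0v
      have hcomm := comm_coe (h _ hmem)
      rw [ym_coe' him hm] at hcomm
      exact diag_of_comm_ym c.1 k0 k (Fin.rev k0) a _ b ha0 hk1' him (hR0 k hk1')
        (comm_of_one_add hcomm)
    · have := (hS k hk1 hk2 hkr).1 k hk1'
      rw [if_pos rfl] at this
      exact this
  exact scalar_mul_UJ n (by omega) c hc (c.1 k0 k0) hup hdiag

end Cfsg.Agent.Lib.Helper4_S5172_G1
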