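import Mathlib
import Cfsg.Prelude.Def_Classical
import Cfsg.Agent.Lib.Helper13_Herm
import Cfsg.Agent.Lib.Helper5_SUCenter
import Cfsg.Agent.Lib.Helper44_PSLnUT
import Cfsg.Agent.Lib.Helper32_PGroup
import Cfsg.Agent.Lib.Helper88_PSLnFusDefs
import Cfsg.Agent.Lib.Helper88_PSUFusDefs
import Cfsg.Agent.Lib.Helper4_S5172_GLib
import Cfsg.Agent.Lib.Helper63_S5172_A1
import Cfsg.Agent.Lib.Helper26_S5172_A2

/-!
# S5172 package G2 (architect helper88, proof helper4)

The centraliser in `GJ` of the radical `Qr` (stabiliser of the maximal isotropic subspace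
`⟨e_0, …, e_{r-1}⟩`) consists of scalar multiples of elements of `UJ`.
-/

set_option autoImplicit false

namespace Cfsg.Agent.Lib.Helper4_S5172_G2

open Matrix Cfsg.Agent.Lib.Helper44_PSLnUT Cfsg.Agent.Lib.Helper88_PSLnFus
  Cfsg.Agent.Lib.Helper88_PSUFus Cfsg.Agent.Lib.Helper4_S5172_GLib
  Cfsg.Agent.Lib.Helper63_S5172_A1 Cfsg.Agent.Lib.Helper26_S5172_A2

variable {F : Type*} [Field F] [Fintype F] {q : ℕ}

/-- **G2** -/
theorem G2 (hF : Fintype.card F = q ^ 2) (n : ℕ) (hn : 4 ≤ n)
    (c : SpecialLinearGroup (Fin n) F) (hc : c ∈ GJ n F q)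
    (h : ∀ u ∈ Qr n F q, c * u = u * c) :
    ∃ μ : F, ∃ u ∈ UJ n F q, c.1 = μ • u.1 := by
  obtain ⟨κ, hκ0, hκ⟩ := Cfsg.Agent.Lib.Helper5_SUCenter.exists_trace_zero hF
  have hrev : ∀ i : Fin n, (Fin.rev i).val = n - 1 - i.val := by
    intro i
    rw [Fin.val_rev]
    omega
  -- the long root elements
  have hL : ∀ i : Fin n, i.val < n / 2 → (∀ l : Fin n, l ≠ i → c.1 l i = 0) ∧
      (∀ j : Fin n, j ≠ Fin.rev i → c.1 (Fin.rev i) j = 0) ∧
      c.1 i i = c.1 (Fin.rev i) (Fin.rev i) := by
    intro i hi
    have hlt : i < Fin.rev i := by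
      show i.val < (Fin.rev i).val
      rw [hrev]
      omega
    have hne : i ≠ Fin.rev i := ne_of_lt hlt
    have hmem : SpecialLinearGroup.transvection hne κ ∈ Qr n F q := by
      refine Subgroup.mem_inf.mpr ⟨mem_UJ.mpr ⟨A1_long hF hne κ hκ, transvection_mem_UT hlt κ⟩,
        transvection_mem_fixCols hne κ (n / 2) ?_⟩
      rw [hrev]
      omega
    have hcomm := comm_coe (h _ hmem)
    rw [SpecialLinearGroup.transvection_coe] at hcomm
    have hN := comm_of_one_add hcomm
    refine ⟨fun l hl => ?_, fun j hj => ?_, ?_⟩
    · have := congrFun (congrFun hN l) (Fin.rev i)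
      rw [mul_single_apply', single_mul_apply', if_pos rfl, if_neg hl] at this
      rcases mul_eq_zero.mp this with h1 | h1
      · exact h1
      · exact absurd h1 hκ0
    · have := congrFun (congrFun hN i) j
      rw [mul_single_apply', single_mul_apply', if_neg hj, if_pos rfl] at this
      rcases mul_eq_zero.mp this.symm with h1 | h1
      · exact absurd h1 hκ0
      · exact h1
    · have := congrFun (congrFun hN i) (Fin.rev i)
      rw [mul_single_apply', single_mul_apply', if_pos rfl, if_pos rfl, mul_comm] at this
      exact mul_left_cancel₀ hκ0 this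
  -- upper triangular
  have hup : ∀ i j : Fin n, j < i → c.1 i j = 0 := by
    intro i j hji
    have hji' : j.val < i.val := hji
    by_cases hj : j.val < n / 2
    · exact (hL j hj).1 i (ne_of_gt hji)
    · have hi : (Fin.rev i).val < n / 2 := by
        rw [hrev]
        omega
      have := (hL (Fin.rev i) hi).2.1 j (by rw [Fin.rev_rev]; exact ne_of_lt hji)
      rwa [Fin.rev_rev] at this
  -- constant diagonal
  set k0 : Fin n := ⟨0, by omega⟩ with hk0
  have hk0v : k0.val = 0 := rfl
  have hk0r : k0.val < n / 2 := by
    rw [hk0v]
    omega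
  have hD1 : ∀ k : Fin n, k.val < n / 2 → c.1 k k = c.1 k0 k0 := by
    intro k hk
    by_cases hkk : k = k0
    · rw [hkk]
    · have hne : k ≠ Fin.rev k0 := by
        intro e
        have := congrArg Fin.val e
        rw [hrev, hk0v] at this
        omega
      have hk' : k ≠ Fin.rev k := by
        intro e
        have := congrArg Fin.val e
        rw [hrev] at this
        omega
      have hj' : Fin.rev k0 ≠ Fin.rev (Fin.rev k0) := by
        intro e
        have := congrArg Fin.val e
        rw [Fin.rev_rev, hrev, hk0v] at this
        omega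
      have hmem : xs q hne (1 : F) ∈ Qr n F q := by
        refine Subgroup.mem_inf.mpr ⟨mem_UJ.mpr ⟨A1_mem hF hne hk' hj' 1, ?_⟩, ?_⟩
        · unfold xs
          refine Subgroup.mul_mem _ ?_ ?_
          · have hlt : k < Fin.rev k0 := by
              show k.val < (Fin.rev k0).val
              rw [hrev, hk0v]
              omega
            exact transvection_mem_UT hlt _
          · have hlt : Fin.rev (Fin.rev k0) < Fin.rev k := by
              show (Fin.rev (Fin.rev k0)).val < (Fin.rev k).val
              rw [Fin.rev_rev, hrev, hk0v]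
              omega
            exact transvection_mem_UT hlt _
        · unfold xs
          refine Subgroup.mul_mem _ ?_ ?_
          · apply transvection_mem_fixCols
            rw [hrev, hk0v]
            omega
          · apply transvection_mem_fixCols
            rw [hrev]
            omega
      have hcomm := comm_coe (h _ hmem)
      rw [xs_coe' hne hj'] at hcomm
      have hN := comm_of_one_add hcomm
      have := congrFun (congrFun hN k) (Fin.rev k0)
      have e1 : Fin.rev k0 ≠ Fin.rev k := fun e => hkk (Fin.rev_injective e).symm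
      have e2 : k ≠ Fin.rev (Fin.rev k0) := by
        rw [Fin.rev_rev]
        exact hkk
      simp only [Matrix.mul_add, Matrix.add_mul, Matrix.add_apply, mul_single_apply',
        single_mul_apply', e1, e2, if_true, if_false, mul_one, one_mul, add_zero] at this
      rw [this, ← (hL k0 hk0r).2.2]
  have hdiag : ∀ k : Fin n, c.1 k k = c.1 k0 k0 := by
    intro k
    by_cases hk : k.val < n / 2
    · exact hD1 k hk
    by_cases hk2 : (Fin.rev k).val < n / 2
    · have h1 := (hL (Fin.rev k) hk2).2.2
      rw [Fin.rev_rev] at h1
      rw [← h1]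
      exact hD1 _ hk2
    -- the middle index
    have hkr := hrev k
    have hm : Fin.rev k = k := by
      apply Fin.ext
      rw [hrev]
      omega
    have him : k0 ≠ k := by
      intro e
      rw [← e, hk0v] at hk
      omega
    obtain ⟨a, b, ha0, hab⟩ := exists_ym_param hF
    have hmem : ym q him hm a b ∈ Qr n F q := by
      refine Subgroup.mem_inf.mpr ⟨mem_UJ.mpr ⟨A2_mem hF him hm a b hab, ?_⟩, ?_⟩
      · unfold ym
        refine Subgroup.mul_mem _ (Subgroup.mul_mem _ ?_ ?_) ?_
        · have hlt : k0 < k := by
            show k0.val < k.val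
            rw [hk0v]
            omega
          exact transvection_mem_UT hlt _
        · have hlt : k < Fin.rev k0 := by
            show k.val < (Fin.rev k0).val
            rw [hrev, hk0v]
            omega
          exact transvection_mem_UT hlt _
        · have hlt : k0 < Fin.rev k0 := by
            show k0.val < (Fin.rev k0).val
            rw [hrev, hk0v]
            omega
          exact transvection_mem_UT hlt _
      · unfold ym
        refine Subgroup.mul_mem _ (Subgroup.mul_mem _ ?_ ?_) ?_
        · apply transvection_mem_fixCols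
          omega
        · apply transvection_mem_fixCols
          rw [hrev, hk0v]
          omega
        · apply transvection_mem_fixCols
          rw [hrev, hk0v]
          omega
    have hcomm := comm_coe (h _ hmem)
    rw [ym_coe' him hm] at hcomm
    have hN := comm_of_one_add hcomm
    have hkne : k ≠ Fin.rev k0 := by
      intro e
      have := congrArg Fin.val e
      rw [hrev, hk0v] at this
      omega
    have := congrFun (congrFun hN k0) k
    simp only [Matrix.mul_add, Matrix.add_mul, Matrix.add_apply, mul_single_apply',
      single_mul_apply', hkne, him, if_true, if_false, (hL k0 hk0r).2.1 k hkne, mul_zero,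
      add_zero] at this
    rw [mul_comm] at this
    exact (mul_left_cancel₀ ha0 this).symm
  exact scalar_mul_UJ n (by omega) c hc (c.1 k0 k0) hup hdiag

end Cfsg.Agent.Lib.Helper4_S5172_G2
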