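import Mathlib
import Cfsg.Prelude.Def_GeometricClasses
import Cfsg.Agent.Lib.Helper98_Decomp
import Cfsg.Agent.Lib.Helper4_SL4Mono
import Cfsg.Agent.Lib.Helper97_AschMaxC

/-!
# The monomial subgroup of `SL_4(5)` is not maximal (helper4, for S5781)

Over a field `F` with five elements the determinant-one part of the stabiliser of a decomposition of
`F^4` into four lines lies strictly between... it is properly contained in the determinant-one part
of the normaliser of the group `R = 4 ∘ 2^{1+4}` of order 64 generated by the scalars, the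
translations `X a` and the sign changes `Z b` (in an adapted basis), which is a proper subgroup of
`SL_4(F)`.  The extra element of the normaliser is the character table `k` of the Klein four-group.
-/

set_option autoImplicit false

namespace Cfsg.Agent.Lib.Helper4_SL4Five

open Matrix

/-! ### combinatorics of the Klein four-group on `Fin 4` -/

/-- addition of the Klein four-group on `Fin 4` (bitwise xor) -/
def x4 : Fin 4 → Fin 4 → Fin 4 := ![![0,1,2,3],![1,0,3,2],![2,3,0,1],![3,2,1,0]]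

/-- the bicharacter of the Klein four-group, with integer values -/
def chz : Fin 4 → Fin 4 → ℤ := ![![1,1,1,1],![1,-1,1,-1],![1,1,-1,-1],![1,-1,-1,1]]

lemma x4_zero_right : ∀ i, x4 i 0 = i := by decide
lemma x4_zero_left : ∀ i, x4 0 i = i := by decide
lemma x4_self : ∀ i, x4 i i = 0 := by decide
lemma x4_assoc : ∀ i j k, x4 (x4 i j) k = x4 i (x4 j k) := by decide
lemma x4_comm : ∀ i j, x4 i j = x4 j i := by decide
lemma x4_cancel : ∀ i a, x4 (x4 i a) a = i := by decide
lemma eq_x4_iff : ∀ i j a, i = x4 j a ↔ j = x4 i a := by decide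
lemma chz_mul_right : ∀ i j a, chz i (x4 j a) = chz i j * chz i a := by decide
lemma chz_mul_left : ∀ i j a, chz (x4 i a) j = chz i j * chz a j := by decide
lemma chz_symm : ∀ i j, chz i j = chz j i := by decide
lemma chz_sq : ∀ i j, chz i j * chz i j = 1 := by decide
lemma chz_zero_left : ∀ j, chz 0 j = 1 := by decide
lemma chz_zero_right : ∀ j, chz j 0 = 1 := by decide
lemma chz_prod : ∀ b, ∏ j, chz b j = 1 := by decide
lemma chz_orth : ∀ i j, ∑ l, chz i l * chz l j = if i = j then 4 else 0 := by decide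
lemma conj_x4 : ∀ (σ : Equiv.Perm (Fin 4)) (a : Fin 4), ∃ a', ∀ j, σ (x4 (σ.symm j) a) = x4 j a' := by
  decide

/-- the translation by `a` as a permutation -/
def xp (a : Fin 4) : Equiv.Perm (Fin 4) where
  toFun := fun j => x4 j a
  invFun := fun j => x4 j a
  left_inv := fun j => x4_cancel j a
  right_inv := fun j => x4_cancel j a

@[simp] lemma xp_apply (a j : Fin 4) : xp a j = x4 j a := rfl

/-- the character table of the Klein four-group, over the integers -/
def kz : Matrix (Fin 4) (Fin 4) ℤ := Matrix.of chz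

lemma det_kz : kz.det = 16 := by decide

variable {F : Type*} [Field F]

/-- the bicharacter with values in `F` -/
def ch (i j : Fin 4) : F := ((chz i j : ℤ) : F)

lemma ch_mul_right (i j a : Fin 4) : (ch i (x4 j a) : F) = ch i j * ch i a := by
  unfold ch; rw [chz_mul_right]; push_cast; ring

lemma ch_mul_left (i j a : Fin 4) : (ch (x4 i a) j : F) = ch i j * ch a j := by
  unfold ch; rw [chz_mul_left]; push_cast; ring

lemma ch_symm (i j : Fin 4) : (ch i j : F) = ch j i := by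
  unfold ch; rw [chz_symm]

lemma ch_sq (i j : Fin 4) : (ch i j : F) * ch i j = 1 := by
  unfold ch; rw [← Int.cast_mul, chz_sq]; simp

lemma ch_zero_left (j : Fin 4) : (ch 0 j : F) = 1 := by
  unfold ch; rw [chz_zero_left]; simp

lemma ch_zero_right (j : Fin 4) : (ch j 0 : F) = 1 := by
  unfold ch; rw [chz_zero_right]; simp

lemma ch_prod (b : Fin 4) : ∏ j, (ch b j : F) = 1 := by
  unfold ch; rw [← Int.cast_prod, chz_prod]; simp

lemma ch_ne_zero (i j : Fin 4) : (ch i j : F) ≠ 0 := by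
  intro h
  have := ch_sq (F := F) i j
  rw [h, zero_mul] at this
  exact zero_ne_one this

/-! ### monomial matrices -/

/-- the monomial matrix `e_j ↦ c j • e_(σ j)` -/
def mono (σ : Equiv.Perm (Fin 4)) (c : Fin 4 → F) : Matrix (Fin 4) (Fin 4) F :=
  fun i j => if i = σ j then c j else 0

lemma mono_mul (σ τ : Equiv.Perm (Fin 4)) (c d : Fin 4 → F) :
    mono σ c * mono τ d = mono (σ * τ) (fun j => c (τ j) * d j) := by
  ext i j
  rw [Matrix.mul_apply]
  unfold mono
  rw [Finset.sum_eq_single (τ j)]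
  · rw [if_pos rfl, Equiv.Perm.mul_apply]
    by_cases h : i = σ (τ j)
    · rw [if_pos h, if_pos h]
    · rw [if_neg h, if_neg h, zero_mul]
  · intro l _ hl
    rw [if_neg hl, mul_zero]
  · intro h; exact absurd (Finset.mem_univ _) h

lemma mono_one : mono (1 : Equiv.Perm (Fin 4)) (fun _ => (1 : F)) = 1 := by
  ext i j
  unfold mono
  rw [Matrix.one_apply]
  rfl

lemma mono_smul (a : F) (σ : Equiv.Perm (Fin 4)) (c : Fin 4 → F) :
    a • mono σ c = mono σ (fun j => a * c j) := by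
  ext i j
  rw [Matrix.smul_apply]
  unfold mono
  split_ifs <;> simp

lemma det_mono (σ : Equiv.Perm (Fin 4)) (c : Fin 4 → F) :
    (mono σ c).det = ((Equiv.Perm.sign σ : ℤ) : F) * ∏ j, c j := by
  have h : mono σ c = (σ⁻¹).permMatrix F * Matrix.diagonal c := by
    ext i j
    rw [Matrix.mul_diagonal]
    unfold mono
    rw [Equiv.Perm.permMatrix, PEquiv.toMatrix_apply]
    simp only [Equiv.toPEquiv_apply, Option.mem_def, Option.some.injEq]
    by_cases hij : i = σ j
    · rw [if_pos hij, if_pos, one_mul]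
      rw [hij]
      exact Equiv.Perm.inv_eq_iff_eq.mpr rfl
    · rw [if_neg hij, if_neg, zero_mul]
      intro h'
      apply hij
      rw [← h']
      exact ((Equiv.eq_symm_apply σ).mp rfl).symm
  rw [h, Matrix.det_mul, Matrix.det_permutation, Matrix.det_diagonal, Equiv.Perm.sign_inv]

/-! ### the generators of `R` and the extra element `k` -/

/-- the translation matrix `e_j ↦ e_(j + a)` -/
def X (a : Fin 4) : Matrix (Fin 4) (Fin 4) F := mono (xp a) (fun _ => 1)

/-- the sign change `e_j ↦ ch b j • e_j` -/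
def Z (b : Fin 4) : Matrix (Fin 4) (Fin 4) F := mono 1 (fun j => ch b j)

/-- the character table of the Klein four-group -/
def k : Matrix (Fin 4) (Fin 4) F := fun i j => ch i j

lemma xp_mul (a c : Fin 4) : xp a * xp c = xp (x4 a c) := by
  ext j
  simp only [Equiv.Perm.mul_apply, xp_apply]
  rw [x4_assoc, x4_comm c a]

lemma xp_zero : xp 0 = 1 := by
  ext j
  simp [x4_zero_right]

lemma XZ_eq (a b : Fin 4) : (X a * Z b : Matrix (Fin 4) (Fin 4) F) = mono (xp a) (fun j => ch b j) := by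
  unfold X Z
  rw [mono_mul, mul_one]
  congr 1
  funext j
  rw [one_mul]

lemma X_mul_X (a c : Fin 4) : (X a * X c : Matrix (Fin 4) (Fin 4) F) = X (x4 a c) := by
  unfold X
  rw [mono_mul, xp_mul]
  congr 1
  funext j
  rw [one_mul]

lemma Z_mul_Z (b d : Fin 4) : (Z b * Z d : Matrix (Fin 4) (Fin 4) F) = Z (x4 b d) := by
  unfold Z
  rw [mono_mul, mul_one]
  congr 1
  funext j
  rw [Equiv.Perm.one_apply, ch_mul_left]

lemma Z_mul_X (b c : Fin 4) :
    (Z b * X c : Matrix (Fin 4) (Fin 4) F) = (ch b c : F) • (X c * Z b) := by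
  rw [XZ_eq, mono_smul]
  unfold X Z
  rw [mono_mul, one_mul]
  congr 1
  funext j
  rw [xp_apply, mul_one, ch_mul_right, mul_comm]

lemma X_zero : (X 0 : Matrix (Fin 4) (Fin 4) F) = 1 := by
  unfold X
  rw [xp_zero, mono_one]

lemma Z_zero : (Z 0 : Matrix (Fin 4) (Fin 4) F) = 1 := by
  unfold Z
  rw [← mono_one]
  congr 1
  funext j
  exact ch_zero_left j

lemma k_mul_X (a : Fin 4) : (k * X a : Matrix (Fin 4) (Fin 4) F) = Z a * k := by
  ext i j
  rw [Matrix.mul_apply, Matrix.mul_apply]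
  unfold X Z mono k
  rw [Finset.sum_eq_single (x4 j a), Finset.sum_eq_single i]
  · simp only [xp_apply, Equiv.Perm.one_apply, if_true]
    rw [mul_one, ch_mul_right, ch_symm a i, mul_comm]
  · intro l _ hl
    rw [if_neg (fun h => hl (by rw [h]; rfl)), zero_mul]
  · intro h; exact absurd (Finset.mem_univ _) h
  · intro l _ hl
    rw [if_neg (fun h => hl (by rw [h]; rfl)), mul_zero]
  · intro h; exact absurd (Finset.mem_univ _) h

lemma k_mul_Z (b : Fin 4) : (k * Z b : Matrix (Fin 4) (Fin 4) F) = X b * k := by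
  ext i j
  rw [Matrix.mul_apply, Matrix.mul_apply]
  unfold X Z mono k
  rw [Finset.sum_eq_single j, Finset.sum_eq_single (x4 i b)]
  · simp only [xp_apply, Equiv.Perm.one_apply, if_true, x4_cancel]
    rw [one_mul, ch_mul_left]
  · intro l _ hl
    rw [if_neg, zero_mul]
    intro h
    apply hl
    exact ((eq_x4_iff _ _ _).1 h)
  · intro h; exact absurd (Finset.mem_univ _) h
  · intro l _ hl
    rw [if_neg (fun h => hl (by rw [h]; rfl)), mul_zero]
  · intro h; exact absurd (Finset.mem_univ _) h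

lemma k_mul_k : (k * k : Matrix (Fin 4) (Fin 4) F) = (4 : F) • 1 := by
  ext i j
  rw [Matrix.mul_apply, Matrix.smul_apply, Matrix.one_apply]
  unfold k ch
  have := chz_orth i j
  have h2 : ∑ l, ((chz i l : ℤ) : F) * ((chz l j : ℤ) : F) = ((∑ l, chz i l * chz l j : ℤ) : F) := by
    push_cast; rfl
  rw [h2, this]
  split_ifs <;> simp

lemma det_k : (k : Matrix (Fin 4) (Fin 4) F).det = 16 := by
  have h : (k : Matrix (Fin 4) (Fin 4) F) = kz.map (Int.castRingHom F) := by
    ext i j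
    rfl
  rw [h, ← RingHom.mapMatrix_apply, ← RingHom.map_det, det_kz]
  simp

lemma XZ_mul_XZ (a b c d : Fin 4) :
    (X a * Z b * (X c * Z d) : Matrix (Fin 4) (Fin 4) F) =
      (ch b c : F) • (X (x4 a c) * Z (x4 b d)) := by
  calc (X a * Z b * (X c * Z d) : Matrix (Fin 4) (Fin 4) F)
      = X a * (Z b * X c) * Z d := by simp only [Matrix.mul_assoc]
    _ = (ch b c : F) • (X a * X c * (Z b * Z d)) := by
        rw [Z_mul_X]
        simp only [Matrix.mul_smul, Matrix.smul_mul, Matrix.mul_assoc]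
    _ = (ch b c : F) • (X (x4 a c) * Z (x4 b d)) := by rw [X_mul_X, Z_mul_Z]

/-- sign patterns with an even number of minus signs are characters -/
lemma pattern (h2 : (2 : F) ≠ 0) (ν : Fin 4 → F) (h0 : ν 0 ≠ 0) (hsq : ∀ j, ν j ^ 2 = ν 0 ^ 2)
    (hprod : ∏ j, ν j = ν 0 ^ 4) : ∃ b : Fin 4, ∀ j, ν j = ν 0 * ch b j := by
  have hpm : ∀ j, ν j = ν 0 ∨ ν j = - ν 0 := fun j => sq_eq_sq_iff_eq_or_eq_neg.1 (hsq j)
  rw [Fin.prod_univ_four] at hprod
  have h04 : ν 0 ^ 4 ≠ 0 := pow_ne_zero 4 h0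
  have hbad : ∀ x : F, x = ν 0 ^ 4 → x = - ν 0 ^ 4 → False := by
    intro x hx hx'
    apply h04
    have : (2 : F) * ν 0 ^ 4 = 0 := by linear_combination hx' - hx
    exact (mul_eq_zero.1 this).resolve_left h2
  rcases hpm 1 with h1 | h1 <;> rcases hpm 2 with h2' | h2' <;> rcases hpm 3 with h3 | h3
  · refine ⟨0, fun j => ?_⟩
    fin_cases j <;> simp [ch, chz, h1, h2', h3]
  · exfalso
    apply hbad _ hprod
    rw [h1, h2', h3]; ring
  · exfalso
    apply hbad _ hprod
    rw [h1, h2', h3]; ring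
  · refine ⟨2, fun j => ?_⟩
    fin_cases j <;> simp [ch, chz, h1, h2', h3]
  · exfalso
    apply hbad _ hprod
    rw [h1, h2', h3]; ring
  · refine ⟨1, fun j => ?_⟩
    fin_cases j <;> simp [ch, chz, h1, h2', h3]
  · refine ⟨3, fun j => ?_⟩
    fin_cases j <;> simp [ch, chz, h1, h2', h3]
  · exfalso
    apply hbad _ hprod
    rw [h1, h2', h3]; ring

/-- products of pairs of signs along a translation are constant -/
lemma sgn4 (s : Fin 4 → F) (hs : ∀ l, s l * s l = 1) (hp : s 0 * s 1 * s 2 * s 3 = 1) :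
    ∀ a i j, s (x4 i a) * s i = s (x4 j a) * s j := by
  have h0 := hs 0
  have h1 := hs 1
  have h2 := hs 2
  have h3 := hs 3
  intro a i j
  fin_cases a <;> fin_cases i <;> fin_cases j <;> simp only [x4] <;>
    simp <;> grind

/-! ### the group `R` -/

/-- the group generated by the scalars, the translations and the sign changes -/
def R : Subgroup (GL (Fin 4) F) where
  carrier := {g | ∃ (lam : F) (a b : Fin 4), lam ≠ 0 ∧
    (g : Matrix (Fin 4) (Fin 4) F) = lam • (X a * Z b)}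
  mul_mem' := by
    rintro g h ⟨lam, a, b, hlam, hg⟩ ⟨mu, c, d, hmu, hh⟩
    refine ⟨lam * mu * ch b c, x4 a c, x4 b d,
      mul_ne_zero (mul_ne_zero hlam hmu) (ch_ne_zero b c), ?_⟩
    rw [Units.val_mul, hg, hh, Matrix.smul_mul, Matrix.mul_smul, XZ_mul_XZ, smul_smul, smul_smul]
  one_mem' := ⟨1, 0, 0, one_ne_zero, by rw [X_zero, Z_zero, one_smul, mul_one]; rfl⟩
  inv_mem' := by
    rintro g ⟨lam, a, b, hlam, hg⟩
    refine ⟨(lam * ch b a)⁻¹, a, b, inv_ne_zero (mul_ne_zero hlam (ch_ne_zero b a)), ?_⟩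
    apply Units.inv_eq_of_mul_eq_one_right
    rw [hg, Matrix.smul_mul, Matrix.mul_smul, XZ_mul_XZ, smul_smul, smul_smul, x4_self, x4_self,
      X_zero, Z_zero, mul_one]
    have : lam * (lam * ch b a)⁻¹ * ch b a = 1 := by
      field_simp [ch_ne_zero (F := F) b a]
    rw [this, one_smul]

lemma mem_R {g : GL (Fin 4) F} : g ∈ (R : Subgroup (GL (Fin 4) F)) ↔
    ∃ (lam : F) (a b : Fin 4), lam ≠ 0 ∧ (g : Matrix (Fin 4) (Fin 4) F) = lam • (X a * Z b) :=
  Iff.rfl

/-- elements of `R` are monomial -/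
lemma val_of_mem_R {g : GL (Fin 4) F} (hg : g ∈ (R : Subgroup (GL (Fin 4) F))) :
    ∃ (lam : F) (a b : Fin 4), lam ≠ 0 ∧
      (g : Matrix (Fin 4) (Fin 4) F) = mono (xp a) (fun j => lam * ch b j) := by
  obtain ⟨lam, a, b, hlam, hg⟩ := hg
  exact ⟨lam, a, b, hlam, by rw [hg, XZ_eq, mono_smul]⟩

/-- a monomial matrix along a translation whose coefficients have equal squares and the right
product lies in `R` -/
lemma mono_mem_R (h2 : (2 : F) ≠ 0) {g : GL (Fin 4) F} (a : Fin 4) (ν : Fin 4 → F)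
    (hg : (g : Matrix (Fin 4) (Fin 4) F) = mono (xp a) ν) (h0 : ν 0 ≠ 0)
    (hsq : ∀ j, ν j ^ 2 = ν 0 ^ 2) (hprod : ∏ j, ν j = ν 0 ^ 4) :
    g ∈ (R : Subgroup (GL (Fin 4) F)) := by
  obtain ⟨b, hb⟩ := pattern h2 ν h0 hsq hprod
  refine ⟨ν 0, a, b, h0, ?_⟩
  rw [hg, XZ_eq, mono_smul]
  congr 1
  funext j
  exact hb j

/-! ### conjugation of monomial matrices -/

lemma conj_mono {h g : GL (Fin 4) F} {σ τ : Equiv.Perm (Fin 4)} {μ c : Fin 4 → F}
    (hμ : ∀ j, μ j ≠ 0) (hh : (h : Matrix (Fin 4) (Fin 4) F) = mono σ μ)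
    (hg : (g : Matrix (Fin 4) (Fin 4) F) = mono τ c) :
    ((h * g * h⁻¹ : GL (Fin 4) F) : Matrix (Fin 4) (Fin 4) F) =
      mono (σ * τ * σ⁻¹) (fun i => μ (τ (σ⁻¹ i)) * c (σ⁻¹ i) / μ (σ⁻¹ i)) := by
  have key : (h : Matrix (Fin 4) (Fin 4) F) * (g : Matrix (Fin 4) (Fin 4) F) =
      mono (σ * τ * σ⁻¹) (fun i => μ (τ (σ⁻¹ i)) * c (σ⁻¹ i) / μ (σ⁻¹ i)) *
        (h : Matrix (Fin 4) (Fin 4) F) := by
    rw [hh, hg, mono_mul, mono_mul]
    have hperm : σ * τ * σ⁻¹ * σ = σ * τ := by group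
    rw [hperm]
    congr 1
    funext j
    have hj : σ⁻¹ (σ j) = j := Equiv.Perm.inv_eq_iff_eq.mpr rfl
    simp only [hj]
    field_simp [hμ j]
  rw [Units.val_mul, Units.val_mul, key, Matrix.mul_assoc, ← Units.val_mul, mul_inv_cancel,
    Units.val_one, Matrix.mul_one]

/-! ### the field with five elements -/

section Five

variable [Fintype F]

lemma five_eq_zero (hq : Fintype.card F = 5) : (5 : F) = 0 := by
  have := FiniteField.cast_card_eq_zero F
  rw [hq] at this
  exact_mod_cast this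

lemma two_ne_zero5 (hq : Fintype.card F = 5) : (2 : F) ≠ 0 := by
  intro h
  apply one_ne_zero (α := F)
  linear_combination five_eq_zero hq - 2 * h

lemma pow_four_eq_one (hq : Fintype.card F = 5) {a : F} (ha : a ≠ 0) : a ^ 4 = 1 := by
  have := FiniteField.pow_card_sub_one_eq_one a ha
  rwa [hq] at this

/-- monomial matrices of determinant one normalise `R` -/
theorem mono_normalizes (hq : Fintype.card F = 5) {h : GL (Fin 4) F} {σ : Equiv.Perm (Fin 4)}
    {μ : Fin 4 → F} (hμ : ∀ j, μ j ≠ 0) (hh : (h : Matrix (Fin 4) (Fin 4) F) = mono σ μ)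
    (hdet : (h : Matrix (Fin 4) (Fin 4) F).det = 1) :
    h ∈ Subgroup.normalizer ((R : Subgroup (GL (Fin 4) F)) : Set (GL (Fin 4) F)) := by
  apply Subgroup.mem_normalizer_fintype
  intro r hr
  obtain ⟨lam, a, b, hlam, hrv⟩ := val_of_mem_R hr
  have hconj := conj_mono hμ hh hrv
  obtain ⟨a', ha'⟩ := conj_x4 σ a
  have hperm : σ * xp a * σ⁻¹ = xp a' := by
    ext j
    simp only [Equiv.Perm.mul_apply, xp_apply]
    exact congrArg Fin.val (ha' j)
  rw [hperm] at hconj
  -- the signs `s l = μ l ^ 2`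
  set s : Fin 4 → F := fun l => μ l ^ 2 with hs
  have hs1 : ∀ l, s l * s l = 1 := by
    intro l
    have := pow_four_eq_one hq (hμ l)
    rw [hs]; simp only; rw [← this]; ring
  have hprodμ : (∏ j, μ j) ^ 2 = 1 := by
    rw [hh, det_mono] at hdet
    have hsign : (((Equiv.Perm.sign σ : ℤˣ) : ℤ) : F) ^ 2 = 1 := by
      rcases Int.units_eq_one_or (Equiv.Perm.sign σ) with h1 | h1 <;> rw [h1] <;> simp
    calc (∏ j, μ j) ^ 2 = ((((Equiv.Perm.sign σ : ℤˣ) : ℤ) : F) * ∏ j, μ j) ^ 2 := by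
          rw [mul_pow, hsign, one_mul]
      _ = 1 := by rw [hdet, one_pow]
  have hsp : s 0 * s 1 * s 2 * s 3 = 1 := by
    rw [← hprodμ, Fin.prod_univ_four, hs]; ring
  have hsg := sgn4 s hs1 hsp a
  set ν : Fin 4 → F := fun i => μ ((xp a) (σ⁻¹ i)) * (lam * ch b (σ⁻¹ i)) / μ (σ⁻¹ i) with hν
  have hνsq : ∀ i, ν i ^ 2 = lam ^ 2 * (s (x4 (σ⁻¹ i) a) * s (σ⁻¹ i)) := by
    intro i
    have h4 := pow_four_eq_one hq (hμ (σ⁻¹ i))
    have hc := ch_sq (F := F) b (σ⁻¹ i)
    rw [hν, hs]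
    simp only [xp_apply]
    rw [div_pow, div_eq_iff (pow_ne_zero 2 (hμ _))]
    linear_combination (μ (x4 (σ⁻¹ i) a) ^ 2 * lam ^ 2) * hc -
      (lam ^ 2 * μ (x4 (σ⁻¹ i) a) ^ 2) * h4
  have hν0 : ν 0 ≠ 0 := by
    rw [hν]
    exact div_ne_zero (mul_ne_zero (hμ _) (mul_ne_zero hlam (ch_ne_zero _ _))) (hμ _)
  refine mono_mem_R (two_ne_zero5 hq) a' ν hconj hν0 ?_ ?_
  · intro j
    rw [hνsq, hνsq, hsg (σ⁻¹ j) (σ⁻¹ 0)]
  · rw [pow_four_eq_one hq hν0, hν]
    rw [Finset.prod_div_distrib, Finset.prod_mul_distrib, Finset.prod_mul_distrib]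
    have e1 : ∏ i, μ ((xp a) (σ⁻¹ i)) = ∏ i, μ i := by
      rw [Equiv.prod_comp σ⁻¹ (fun i => μ ((xp a) i)), Equiv.prod_comp (xp a) μ]
    have e2 : ∏ i, μ (σ⁻¹ i) = ∏ i, μ i := Equiv.prod_comp σ⁻¹ μ
    have e3 : ∏ i, (ch b (σ⁻¹ i) : F) = 1 := by
      rw [Equiv.prod_comp σ⁻¹ (fun i => (ch b i : F)), ch_prod]
    have e4 : ∏ _i : Fin 4, lam = 1 := by
      rw [Finset.prod_const, Finset.card_univ, Fintype.card_fin, pow_four_eq_one hq hlam]
    rw [e1, e2, e3, e4, mul_one, mul_one]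
    exact div_self (Finset.prod_ne_zero_iff.2 (fun i _ => hμ i))

/-- the character table as an element of `GL` -/
noncomputable def kG (hq : Fintype.card F = 5) : GL (Fin 4) F where
  val := k
  inv := (4 : F) • k
  val_inv := by
    rw [Matrix.mul_smul, k_mul_k, smul_smul]
    have : (4 : F) * 4 = 1 := by linear_combination 3 * five_eq_zero hq
    rw [this, one_smul]
  inv_val := by
    rw [Matrix.smul_mul, k_mul_k, smul_smul]
    have : (4 : F) * 4 = 1 := by linear_combination 3 * five_eq_zero hq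
    rw [this, one_smul]

lemma kG_val (hq : Fintype.card F = 5) : ((kG hq : GL (Fin 4) F) : Matrix (Fin 4) (Fin 4) F) = k := rfl

lemma kG_det (hq : Fintype.card F = 5) :
    ((kG hq : GL (Fin 4) F) : Matrix (Fin 4) (Fin 4) F).det = 1 := by
  rw [kG_val, det_k]
  linear_combination 3 * five_eq_zero hq

/-- the character table normalises `R` -/
theorem k_normalizes (hq : Fintype.card F = 5) :
    kG hq ∈ Subgroup.normalizer ((R : Subgroup (GL (Fin 4) F)) : Set (GL (Fin 4) F)) := by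
  apply Subgroup.mem_normalizer_fintype
  intro r hr
  obtain ⟨lam, a, b, hlam, hrv⟩ := hr
  refine ⟨lam * ch a b, b, a, mul_ne_zero hlam (ch_ne_zero a b), ?_⟩
  have h1 : (k : Matrix (Fin 4) (Fin 4) F) * (X a * Z b) = Z a * X b * k := by
    rw [← Matrix.mul_assoc, k_mul_X, Matrix.mul_assoc, k_mul_Z, ← Matrix.mul_assoc]
  rw [Units.val_mul, Units.val_mul, kG_val, hrv, Matrix.mul_smul, h1, Matrix.smul_mul,
    Matrix.mul_assoc, ← kG_val hq, ← Units.val_mul, mul_inv_cancel, Units.val_one, Matrix.mul_one,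
    Z_mul_X, smul_smul]

/-- the sign change `Z 1` as an element of `GL` -/
noncomputable def ZG1 : GL (Fin 4) F where
  val := Z 1
  inv := Z 1
  val_inv := by rw [Z_mul_Z, x4_self, Z_zero]
  inv_val := by rw [Z_mul_Z, x4_self, Z_zero]

lemma ZG1_mem : (ZG1 : GL (Fin 4) F) ∈ (R : Subgroup (GL (Fin 4) F)) :=
  ⟨1, 0, 1, one_ne_zero, by rw [X_zero, one_smul, one_mul]; rfl⟩

/-- a transvection does not normalise `R` -/
theorem tv_not_normalizes (hq : Fintype.card F = 5) :
    (Cfsg.Agent.Lib.Helper97_AschMaxC.tvGL (0 : Fin 4) 1 (by decide) : GL (Fin 4) F) ∉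
      Subgroup.normalizer ((R : Subgroup (GL (Fin 4) F)) : Set (GL (Fin 4) F)) := by
  intro ht
  set t : GL (Fin 4) F := Cfsg.Agent.Lib.Helper97_AschMaxC.tvGL (0 : Fin 4) 1 (by decide) with htdef
  have hmem : t * ZG1 * t⁻¹ ∈ (R : Subgroup (GL (Fin 4) F)) :=
    (Subgroup.mem_normalizer_iff.1 ht ZG1).1 ZG1_mem
  obtain ⟨lam, a, b, hlam, hv⟩ := val_of_mem_R hmem
  have htv : (t : Matrix (Fin 4) (Fin 4) F) = 1 + Matrix.single 0 1 (1 : F) :=
    Cfsg.Agent.Lib.Helper97_AschMaxC.tvGL_val 0 1 (by decide)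
  have E : (t : Matrix (Fin 4) (Fin 4) F) * Z 1 =
      mono (xp a) (fun j => lam * ch b j) * (t : Matrix (Fin 4) (Fin 4) F) := by
    rw [← hv, Units.val_mul, Units.val_mul, Matrix.mul_assoc, Matrix.mul_assoc, ← Units.val_mul,
      inv_mul_cancel, Units.val_one, Matrix.mul_one]
    rfl
  rw [htv] at E
  have h2 := two_ne_zero5 hq
  have e1 := congrFun (congrFun E a) 0
  have e2 := congrFun (congrFun E 0) 1
  fin_cases a <;> fin_cases b <;>
    simp [Matrix.mul_apply, Fin.sum_univ_four, mono, Z, ch, chz, x4,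
      Matrix.single, Matrix.one_apply] at e1 e2 <;> grind


/-! ### transport to an arbitrary decomposition into four lines -/

section Transport

open Cfsg.Agent.Lib.Helper98_Decomp Cfsg.Agent.Lib.Helper4_SL4Mono Cfsg.Agent.Lib.Helper97_AschMaxC

variable {D : Fin 4 → Submodule F (Fin 4 → F)} (hD : Cfsg.Geo.IsMDecomposition 1 D)

/-- the matrix of the adapted coordinates -/
noncomputable def Cm : Matrix (Fin 4) (Fin 4) F := fun i j => cv hD i (Pi.single j 1)

/-- the matrix whose columns are the adapted basis vectors -/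
noncomputable def Pm : Matrix (Fin 4) (Fin 4) F := fun i j => bv hD j i

lemma Cm_mulVec (x : Fin 4 → F) : Cm hD *ᵥ x = fun i => cv hD i x := by
  funext i
  rw [LinearMap.pi_apply_eq_sum_univ (cv hD i) x]
  unfold Cm
  simp only [Matrix.mulVec, dotProduct, smul_eq_mul]
  apply Finset.sum_congr rfl
  intro j _
  have : (Pi.single j (1 : F) : Fin 4 → F) = fun l => if j = l then 1 else 0 := by
    funext l
    rw [Pi.single_apply]
    simp [eq_comm]
  rw [this, mul_comm]

lemma Pm_mulVec (y : Fin 4 → F) : Pm hD *ᵥ y = ∑ j, y j • bv hD j := by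
  funext i
  unfold Pm
  simp only [Matrix.mulVec, dotProduct, Finset.sum_apply, Pi.smul_apply, smul_eq_mul]
  apply Finset.sum_congr rfl
  intro j _
  rw [mul_comm]

lemma Cm_mul_Pm : Cm hD * Pm hD = 1 := by
  apply Matrix.toLin'.injective
  apply LinearMap.ext
  intro y
  rw [Matrix.toLin'_apply, Matrix.toLin'_one, LinearMap.id_apply, ← Matrix.mulVec_mulVec, Pm_mulVec,
    Cm_mulVec]
  funext i
  rw [map_sum, Finset.sum_eq_single i]
  · rw [map_smul, cv_bv, if_pos rfl, smul_eq_mul, mul_one]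
  · intro j _ hji
    rw [map_smul, cv_bv, if_neg hji, smul_zero]
  · intro h; exact absurd (Finset.mem_univ i) h

/-- the base change to the adapted coordinates, as an element of `GL` -/
noncomputable def CG : GL (Fin 4) F where
  val := Cm hD
  inv := Pm hD
  val_inv := Cm_mul_Pm hD
  inv_val := mul_eq_one_comm.1 (Cm_mul_Pm hD)

lemma conj_mulVec (g : GL (Fin 4) F) (y : Fin 4 → F) :
    ((CG hD * g * (CG hD)⁻¹ : GL (Fin 4) F) : Matrix (Fin 4) (Fin 4) F) *ᵥ y =
      Cm hD *ᵥ ((g : Matrix (Fin 4) (Fin 4) F) *ᵥ (Pm hD *ᵥ y)) := by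
  rw [Units.val_mul, Units.val_mul, ← Matrix.mulVec_mulVec, ← Matrix.mulVec_mulVec]
  rfl

lemma conj_inv_mulVec (g : GL (Fin 4) F) (y : Fin 4 → F) :
    (((CG hD)⁻¹ * g * CG hD : GL (Fin 4) F) : Matrix (Fin 4) (Fin 4) F) *ᵥ y =
      Pm hD *ᵥ ((g : Matrix (Fin 4) (Fin 4) F) *ᵥ (Cm hD *ᵥ y)) := by
  rw [Units.val_mul, Units.val_mul, ← Matrix.mulVec_mulVec, ← Matrix.mulVec_mulVec]
  rfl

lemma Pm_single (j : Fin 4) : Pm hD *ᵥ Pi.single j 1 = bv hD j := by
  rw [Pm_mulVec, Finset.sum_eq_single j]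
  · rw [Pi.single_eq_same, one_smul]
  · intro l _ hlj
    rw [Pi.single_eq_of_ne hlj, zero_smul]
  · intro h; exact absurd (Finset.mem_univ j) h

lemma Cm_bv (j : Fin 4) : Cm hD *ᵥ bv hD j = Pi.single j 1 := by
  rw [Cm_mulVec]
  funext i
  rw [cv_bv, Pi.single_apply]
  simp [eq_comm]

/-- in the adapted coordinates the elements of the stabiliser are monomial matrices -/
lemma conj_eq_mono {g : GL (Fin 4) F} (hg : g ∈ Cfsg.Geo.decompositionStabilizer D) :
    ∃ (σ : Equiv.Perm (Fin 4)) (c : Fin 4 → F), (∀ j, c j ≠ 0) ∧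
      ((CG hD * g * (CG hD)⁻¹ : GL (Fin 4) F) : Matrix (Fin 4) (Fin 4) F) = mono σ c := by
  obtain ⟨σ, c, hc0, hgb, -⟩ := mono_desc hD hg
  refine ⟨σ, c, hc0, ?_⟩
  ext i j
  have h1 : ((CG hD * g * (CG hD)⁻¹ : GL (Fin 4) F) : Matrix (Fin 4) (Fin 4) F) i j =
      (((CG hD * g * (CG hD)⁻¹ : GL (Fin 4) F) : Matrix (Fin 4) (Fin 4) F) *ᵥ Pi.single j 1) i := by
    rw [Matrix.mulVec_single_one]
    rfl
  rw [h1, conj_mulVec, Pm_single, hgb, Matrix.mulVec_smul, Cm_bv]
  unfold mono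
  rw [Pi.smul_apply, Pi.single_apply, smul_eq_mul]
  split_ifs <;> simp

include hD in
/-- over the field with five elements the determinant-one part of the stabiliser of a decomposition
of `F^4` into four lines is not maximal in `SL_4(F)` -/
theorem not_maximal_of_card_five (hq : Fintype.card F = 5) :
    ∃ K : Subgroup (GL (Fin 4) F),
      Cfsg.Geo.decompositionStabilizer D ⊓ Cfsg.Geo.specialLinear (Fin 4) F < K ∧
        K < Cfsg.Geo.specialLinear (Fin 4) F := by
  set N : Subgroup (GL (Fin 4) F) :=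
    Subgroup.normalizer ((R : Subgroup (GL (Fin 4) F)) : Set (GL (Fin 4) F)) with hN
  set K : Subgroup (GL (Fin 4) F) :=
    (N ⊓ Cfsg.Geo.specialLinear (Fin 4) F).comap (MulAut.conj (CG hD)).toMonoidHom with hK
  have hmemK : ∀ g : GL (Fin 4) F, g ∈ K ↔
      (CG hD * g * (CG hD)⁻¹ ∈ N ∧ CG hD * g * (CG hD)⁻¹ ∈ Cfsg.Geo.specialLinear (Fin 4) F) := by
    intro g
    rw [hK, Subgroup.mem_comap, Subgroup.mem_inf]
    rfl
  have hback : ∀ g : GL (Fin 4) F, CG hD * ((CG hD)⁻¹ * g * CG hD) * (CG hD)⁻¹ = g := by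
    intro g; group
  refine ⟨K, ?_, ?_⟩
  · rw [SetLike.lt_iff_le_and_exists]
    refine ⟨?_, ?_⟩
    · intro g hg
      obtain ⟨hgD, hgS⟩ := Subgroup.mem_inf.1 hg
      obtain ⟨σ, c, hc0, hval⟩ := conj_eq_mono hD hgD
      have hS : CG hD * g * (CG hD)⁻¹ ∈ Cfsg.Geo.specialLinear (Fin 4) F := conj_mem_sl _ _ hgS
      rw [hmemK]
      exact ⟨mono_normalizes hq hc0 hval ((mem_sl_iff _).1 hS), hS⟩
    · refine ⟨(CG hD)⁻¹ * kG hq * CG hD, ?_, ?_⟩
      · rw [hmemK, hback]
        exact ⟨k_normalizes hq, (mem_sl_iff _).2 (kG_det hq)⟩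
      · intro hmem
        have hv : (((CG hD)⁻¹ * kG hq * CG hD : GL (Fin 4) F) : Matrix (Fin 4) (Fin 4) F) *ᵥ bv hD 0 =
            ∑ j, bv hD j := by
          rw [conj_inv_mulVec, Cm_bv, kG_val, Matrix.mulVec_single_one, Pm_mulVec]
          apply Finset.sum_congr rfl
          intro j _
          have : (k : Matrix (Fin 4) (Fin 4) F).col 0 j = 1 := by
            show (ch j 0 : F) = 1
            exact ch_zero_right j
          rw [this, one_smul]
        have hco : ∀ i : Fin 4, co hD i 0 (∑ j, bv hD j) = 1 := by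
          intro i
          show cv hD i (∑ j, bv hD j) = 1
          rw [map_sum, Finset.sum_eq_single i]
          · rw [cv_bv, if_pos rfl]
          · intro j _ hji; rw [cv_bv, if_neg hji]
          · intro h; exact absurd (Finset.mem_univ i) h
        refine not_mem_stab hD (bv_mem hD 0) (i₁ := 1) (i₂ := 2) (j₁ := 0) (j₂ := 0) (by decide)
          ?_ ?_ (Subgroup.mem_inf.1 hmem).1
        · rw [hv, hco]; exact one_ne_zero
        · rw [hv, hco]; exact one_ne_zero
  · rw [SetLike.lt_iff_le_and_exists]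
    refine ⟨?_, ?_⟩
    · intro g hg
      rw [hmemK] at hg
      have := conj_mem_sl (CG hD)⁻¹ _ hg.2
      have e : (CG hD)⁻¹ * (CG hD * g * (CG hD)⁻¹) * ((CG hD)⁻¹)⁻¹ = g := by group
      rw [e] at this
      exact this
    · refine ⟨(CG hD)⁻¹ * tvGL (0 : Fin 4) 1 (by decide) * CG hD, ?_, ?_⟩
      · have := conj_mem_sl (CG hD)⁻¹ _ (tvGL_mem_sl (F := F) (0 : Fin 4) 1 (by decide))
        rw [inv_inv] at this
        exact this
      · intro hmem
        rw [hmemK, hback] at hmem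
        exact tv_not_normalizes hq hmem.1

end Transport

end Five

end Cfsg.Agent.Lib.Helper4_SL4Five
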