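import Mathlib
import Cfsg.Prelude.Def_GeometricClasses
import Cfsg.Agent.Lib.Helper98_Decomp

/-!
# Stabilisers of decompositions into planes over `F_2` and `F_3` (helper4, for S5781 and siblings)

For a decomposition `D` of `F^n` into `t` planes, the sum of the determinant forms of the planes (in
an adapted basis) is a symplectic form; an element of the stabiliser multiplies the `i`-th summand
by the determinant `dd i` of the block `D i → D (σ i)`, and `det g = ∏ dd i`.  Over `F_2` the
stabiliser lies in the similarity group; over `F_3` with `t = 2` its determinant-one part does.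
-/

set_option autoImplicit false

namespace Cfsg.Agent.Lib.Helper4_SL4Planes

open Matrix Cfsg.Agent.Lib.Helper98_Decomp

variable {F : Type*} [Field F] {n t : ℕ} {D : Fin t → Submodule F (Fin n → F)}
  (hD : Cfsg.Geo.IsMDecomposition 2 D)

/-- the determinant form of the plane `D i` in the adapted coordinates -/
noncomputable def br (i : Fin t) (x y : Fin n → F) : F :=
  co hD i 0 x * co hD i 1 y - co hD i 1 x * co hD i 0 y

/-- the sum of the determinant forms of the planes -/
noncomputable def altForm (x y : Fin n → F) : F := ∑ i, br hD i x y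

lemma sum_co_smul (x : Fin n → F) : ∑ i, ∑ j, co hD i j x • bas hD ⟨i, j⟩ = x := by
  conv_rhs => rw [← sum_part hD x]
  rfl

lemma ext_co {x y : Fin n → F} (h : ∀ i j, co hD i j x = co hD i j y) : x = y := by
  rw [← sum_co_smul hD x, ← sum_co_smul hD y]
  apply Finset.sum_congr rfl
  intro i _
  apply Finset.sum_congr rfl
  intro j _
  rw [h i j]

lemma br_bas_right_one (i : Fin t) (v : Fin n → F) : br hD i v (bas hD ⟨i, 1⟩) = co hD i 0 v := by
  unfold br
  have h1 : co hD i 1 (bas hD ⟨i, 1⟩) = 1 := by rw [co_bas, if_pos ⟨rfl, rfl⟩]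
  have h0 : co hD i 0 (bas hD ⟨i, 1⟩) = 0 := by rw [co_bas, if_neg (by simp)]
  rw [h1, h0]
  ring

lemma br_bas_right_zero (i : Fin t) (v : Fin n → F) :
    br hD i v (bas hD ⟨i, 0⟩) = - co hD i 1 v := by
  unfold br
  have h1 : co hD i 1 (bas hD ⟨i, 0⟩) = 0 := by rw [co_bas, if_neg (by simp)]
  have h0 : co hD i 0 (bas hD ⟨i, 0⟩) = 1 := by rw [co_bas, if_pos ⟨rfl, rfl⟩]
  rw [h1, h0]
  ring

lemma br_bas_right_ne {i k : Fin t} (hik : k ≠ i) (j : Fin 2) (v : Fin n → F) :
    br hD i v (bas hD ⟨k, j⟩) = 0 := by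
  unfold br
  rw [co_bas, co_bas, if_neg (fun h => hik h.1), if_neg (fun h => hik h.1)]
  ring

lemma br_skew (i : Fin t) (x y : Fin n → F) : br hD i x y = - br hD i y x := by
  unfold br; ring

/-- the sum of the determinant forms is a symplectic form -/
theorem isSymplecticForm_altForm : Cfsg.Geo.IsSymplecticForm (altForm hD) := by
  refine ⟨⟨?_, ?_, ?_, ?_⟩, ?_, ?_, ?_⟩
  · intro x y v
    unfold altForm br
    rw [← Finset.sum_add_distrib]
    apply Finset.sum_congr rfl
    intro i _
    rw [map_add, map_add]; ring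
  · intro c x v
    unfold altForm br
    rw [Finset.mul_sum]
    apply Finset.sum_congr rfl
    intro i _
    rw [map_smul, map_smul, smul_eq_mul, smul_eq_mul]; ring
  · intro v x y
    unfold altForm br
    rw [← Finset.sum_add_distrib]
    apply Finset.sum_congr rfl
    intro i _
    rw [map_add, map_add]; ring
  · intro c v x
    unfold altForm br
    rw [Finset.mul_sum]
    apply Finset.sum_congr rfl
    intro i _
    rw [map_smul, map_smul, smul_eq_mul, smul_eq_mul]; ring
  · intro v w
    unfold altForm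
    rw [← Finset.sum_neg_distrib]
    apply Finset.sum_congr rfl
    intro i _
    exact br_skew hD i v w
  · intro v
    unfold altForm br
    apply Finset.sum_eq_zero
    intro i _
    ring
  · intro v hv
    have : ∃ i j, co hD i j v ≠ 0 := by
      by_contra h
      push Not at h
      apply hv
      apply ext_co hD
      intro i j
      rw [h i j, map_zero]
    obtain ⟨i, j, hij⟩ := this
    have hsum : ∀ j' : Fin 2, altForm hD v (bas hD ⟨i, j'⟩) = br hD i v (bas hD ⟨i, j'⟩) := by
      intro j'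
      unfold altForm
      rw [Finset.sum_eq_single i]
      · intro k _ hki
        exact br_bas_right_ne hD (Ne.symm hki) j' v
      · intro h; exact absurd (Finset.mem_univ i) h
    have hsum' : ∀ j' : Fin 2, altForm hD (bas hD ⟨i, j'⟩) v = - br hD i v (bas hD ⟨i, j'⟩) := by
      intro j'
      rw [← hsum]
      unfold altForm
      rw [← Finset.sum_neg_distrib]
      apply Finset.sum_congr rfl
      intro k _
      exact br_skew hD k _ _
    fin_cases j
    · refine ⟨⟨bas hD ⟨i, 1⟩, ?_⟩, ⟨bas hD ⟨i, 1⟩, ?_⟩⟩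
      · rw [hsum', br_bas_right_one]
        exact neg_ne_zero.2 hij
      · rw [hsum, br_bas_right_one]
        exact hij
    · refine ⟨⟨bas hD ⟨i, 0⟩, ?_⟩, ⟨bas hD ⟨i, 0⟩, ?_⟩⟩
      · rw [hsum', br_bas_right_zero, neg_neg]
        exact hij
      · rw [hsum, br_bas_right_zero]
        exact neg_ne_zero.2 hij

/-! ### the action of the stabiliser -/

section Stab

variable {g : GL (Fin n) F} {σ : Equiv.Perm (Fin t)}
  (hσ : ∀ i, (D i).map (Matrix.toLin' (g : Matrix (Fin n) (Fin n) F)) = D (σ i))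

/-- the block of `g` from `D i` to `D (σ i)` -/
noncomputable def blk (g : GL (Fin n) F) (σ : Equiv.Perm (Fin t)) (i : Fin t) :
    Matrix (Fin 2) (Fin 2) F :=
  fun l j => co hD (σ i) l ((g : Matrix (Fin n) (Fin n) F) *ᵥ bas hD ⟨i, j⟩)

include hσ in
lemma co_mulVec_bas_ne {i k : Fin t} (hk : k ≠ σ i) (l j : Fin 2) :
    co hD k l ((g : Matrix (Fin n) (Fin n) F) *ᵥ bas hD ⟨i, j⟩) = 0 :=
  co_of_mem_ne hD (stab_mulVec_mem hσ (bas_mem hD i j)) (Ne.symm hk) l

include hσ in
lemma co_mulVec (i : Fin t) (l : Fin 2) (x : Fin n → F) :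
    co hD (σ i) l ((g : Matrix (Fin n) (Fin n) F) *ᵥ x) = ∑ j, blk hD g σ i l j * co hD i j x := by
  have hx : (g : Matrix (Fin n) (Fin n) F) *ᵥ x =
      ∑ k, ∑ j, co hD k j x • ((g : Matrix (Fin n) (Fin n) F) *ᵥ bas hD ⟨k, j⟩) := by
    conv_lhs => rw [← sum_co_smul hD x]
    rw [Matrix.mulVec_sum]
    apply Finset.sum_congr rfl
    intro k _
    rw [Matrix.mulVec_sum]
    apply Finset.sum_congr rfl
    intro j _
    rw [Matrix.mulVec_smul]
  rw [hx, map_sum, Finset.sum_eq_single i]
  · rw [map_sum]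
    apply Finset.sum_congr rfl
    intro j _
    rw [map_smul, smul_eq_mul, mul_comm]
    rfl
  · intro k _ hki
    rw [map_sum]
    apply Finset.sum_eq_zero
    intro j _
    rw [map_smul, co_mulVec_bas_ne hD hσ (fun h => hki (σ.injective h).symm), smul_zero]
  · intro h; exact absurd (Finset.mem_univ i) h

/-- the determinant of the block of `g` from `D i` to `D (σ i)` -/
noncomputable def dd (g : GL (Fin n) F) (σ : Equiv.Perm (Fin t)) (i : Fin t) : F :=
  (blk hD g σ i).det

include hσ in
lemma br_mulVec (i : Fin t) (x y : Fin n → F) :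
    br hD (σ i) ((g : Matrix (Fin n) (Fin n) F) *ᵥ x) ((g : Matrix (Fin n) (Fin n) F) *ᵥ y) =
      dd hD g σ i * br hD i x y := by
  unfold br dd
  rw [co_mulVec hD hσ, co_mulVec hD hσ, co_mulVec hD hσ, co_mulVec hD hσ, Matrix.det_fin_two]
  simp only [Fin.sum_univ_two]
  ring

include hσ in
lemma altForm_mulVec (x y : Fin n → F) :
    altForm hD ((g : Matrix (Fin n) (Fin n) F) *ᵥ x) ((g : Matrix (Fin n) (Fin n) F) *ᵥ y) =
      ∑ i, dd hD g σ i * br hD i x y := by
  unfold altForm
  rw [← Equiv.sum_comp σ]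
  apply Finset.sum_congr rfl
  intro i _
  exact br_mulVec hD hσ i x y

include hσ in
lemma dd_ne_zero (i : Fin t) : dd hD g σ i ≠ 0 := by
  intro h0
  have h1 := br_mulVec hD hσ i (bas hD ⟨i, 0⟩) (bas hD ⟨i, 1⟩)
  have h2 := br_mulVec hD (stab_inv hσ) (σ i)
    ((g : Matrix (Fin n) (Fin n) F) *ᵥ bas hD ⟨i, 0⟩) ((g : Matrix (Fin n) (Fin n) F) *ᵥ bas hD ⟨i, 1⟩)
  rw [Matrix.mulVec_mulVec, Matrix.mulVec_mulVec, ← Units.val_mul, inv_mul_cancel, Units.val_one,
    Matrix.one_mulVec, Matrix.one_mulVec, h1, h0, zero_mul, mul_zero, Equiv.symm_apply_apply,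
    br_bas_right_one, co_bas, if_pos ⟨rfl, rfl⟩] at h2
  exact one_ne_zero h2

include hσ in
/-- the determinant of `g` is the product of the determinants of its blocks -/
lemma det_eq_prod_dd : (g : Matrix (Fin n) (Fin n) F).det = ∏ i, dd hD g σ i := by
  classical
  let e : (Σ _ : Fin t, Fin 2) ≃ Fin 2 × Fin t :=
    { toFun := fun p => (p.2, p.1)
      invFun := fun p => ⟨p.2, p.1⟩
      left_inv := fun p => rfl
      right_inv := fun p => rfl }
  let b' : Module.Basis (Fin 2 × Fin t) F (Fin n → F) := (bas hD).reindex e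
  have hT : (g : Matrix (Fin n) (Fin n) F).det =
      (LinearMap.toMatrix b' b' (Matrix.toLin' (g : Matrix (Fin n) (Fin n) F))).det := by
    rw [LinearMap.det_toMatrix, LinearMap.det_toLin']
  let ρ : Equiv.Perm (Fin 2 × Fin t) := Equiv.prodCongrRight (fun _ : Fin 2 => σ⁻¹)
  have hTeq : LinearMap.toMatrix b' b' (Matrix.toLin' (g : Matrix (Fin n) (Fin n) F)) =
      (Matrix.blockDiagonal (fun i => blk hD g σ i)).submatrix ρ id := by
    ext ⟨l, k⟩ ⟨j, i⟩
    rw [LinearMap.toMatrix_apply, Matrix.submatrix_apply, Matrix.toLin'_apply]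
    have h1 : b' (j, i) = bas hD ⟨i, j⟩ := by
      simp only [b', Module.Basis.reindex_apply]
      rfl
    have h2 : ∀ x : Fin n → F, b'.repr x (l, k) = co hD k l x := by
      intro x
      simp only [b', Module.Basis.repr_reindex_apply]
      rfl
    rw [h1, h2]
    have h3 : ρ (l, k) = (l, σ⁻¹ k) := rfl
    rw [h3, id, Matrix.blockDiagonal_apply']
    by_cases hk : σ⁻¹ k = i
    · rw [if_pos hk]
      subst hk
      unfold blk
      have hk' : σ (σ⁻¹ k) = k := (Equiv.eq_symm_apply σ).mp rfl
      rw [hk']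
    · rw [if_neg hk]
      apply co_mulVec_bas_ne hD hσ
      intro h
      apply hk
      rw [h]
      exact Equiv.Perm.inv_eq_iff_eq.mpr rfl
  have hsign : (Equiv.Perm.sign ρ : ℤ) = 1 := by
    have : Equiv.Perm.sign ρ = ∏ _k : Fin 2, Equiv.Perm.sign σ⁻¹ :=
      Equiv.Perm.sign_prodCongrRight (fun _ : Fin 2 => σ⁻¹)
    rw [this, Fin.prod_univ_two]
    have := Int.units_mul_self (Equiv.Perm.sign σ⁻¹)
    rw [this]
    rfl
  rw [hT, hTeq, Matrix.det_permute, Matrix.det_blockDiagonal, hsign]
  simp only [Int.cast_one, one_mul]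
  rfl

end Stab

/-! ### `q = 2` -/

section Two

variable [Fintype F]

include hD in
/-- over the field with two elements the stabiliser of a decomposition into planes preserves the
symplectic form `altForm` -/
theorem le_similarityGroup_of_card_two (hq : Fintype.card F = 2) :
    ∃ f : (Fin n → F) → (Fin n → F) → F, Cfsg.Geo.IsSymplecticForm f ∧
      Cfsg.Geo.decompositionStabilizer D ≤ Cfsg.Geo.similarityGroup f := by
  have hone : ∀ a : F, a ≠ 0 → a = 1 := by
    intro a ha
    have := FiniteField.pow_card_sub_one_eq_one a ha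
    rw [hq] at this
    simpa using this
  refine ⟨altForm hD, isSymplecticForm_altForm hD, ?_⟩
  intro g hg
  obtain ⟨σ, hσ⟩ := hg
  refine ⟨1, fun u v => ?_⟩
  rw [Units.val_one, one_mul, altForm_mulVec hD hσ]
  unfold altForm
  apply Finset.sum_congr rfl
  intro i _
  rw [hone _ (dd_ne_zero hD hσ i), one_mul]

end Two

/-! ### `q = 3`, two planes, determinant one -/

section Three

variable [Fintype F] {D2 : Fin 2 → Submodule F (Fin n → F)} (hD2 : Cfsg.Geo.IsMDecomposition 2 D2)

include hD2 in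
/-- over the field with three elements the determinant-one part of the stabiliser of a
decomposition into two planes lies in the similarity group of the symplectic form `altForm` -/
theorem inf_sl_le_similarityGroup_of_card_three (hq : Fintype.card F = 3) :
    ∃ f : (Fin n → F) → (Fin n → F) → F, Cfsg.Geo.IsSymplecticForm f ∧
      Cfsg.Geo.decompositionStabilizer D2 ⊓ Cfsg.Geo.specialLinear (Fin n) F ≤
        Cfsg.Geo.similarityGroup f := by
  have hsq : ∀ a : F, a ≠ 0 → a * a = 1 := by
    intro a ha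
    have := FiniteField.pow_card_sub_one_eq_one a ha
    rw [hq] at this
    rw [← this]; ring
  refine ⟨altForm hD2, isSymplecticForm_altForm hD2, ?_⟩
  intro g hg
  obtain ⟨hgD, hgS⟩ := Subgroup.mem_inf.1 hg
  obtain ⟨σ, hσ⟩ := hgD
  have hdet : (g : Matrix (Fin n) (Fin n) F).det = 1 := (mem_specialLinear_iff g).1 hgS
  have hprod : dd hD2 g σ 0 * dd hD2 g σ 1 = 1 := by
    rw [← hdet, det_eq_prod_dd hD2 hσ, Fin.prod_univ_two]
  have h0 := dd_ne_zero hD2 hσ 0
  have h1 := dd_ne_zero hD2 hσ 1
  have heq : dd hD2 g σ 1 = dd hD2 g σ 0 := by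
    have := hsq _ h0
    calc dd hD2 g σ 1 = (dd hD2 g σ 0 * dd hD2 g σ 0) * dd hD2 g σ 1 := by rw [this, one_mul]
      _ = dd hD2 g σ 0 * (dd hD2 g σ 0 * dd hD2 g σ 1) := by ring
      _ = dd hD2 g σ 0 := by rw [hprod, mul_one]
  refine ⟨Units.mk0 _ h0, fun u v => ?_⟩
  rw [altForm_mulVec hD2 hσ, Units.val_mk0]
  unfold altForm
  rw [Finset.mul_sum]
  apply Finset.sum_congr rfl
  intro i _
  fin_cases i
  · rfl
  · show dd hD2 g σ 1 * _ = _
    rw [heq]

end Three

end Cfsg.Agent.Lib.Helper4_SL4Planes
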