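import Mathlib
import Cfsg.Prelude.Def_GeometricClasses
import Cfsg.Agent.S5635
import Cfsg.Agent.S5638

/-!
# Small-field exclusions in arbitrary dimension (helper97)

The non-maximality statements S5635 (decomposition stabilisers, `m = 1`, `q ≤ 4` and `m = 2`, `q = 2`) and
S5638 (tensor product `2 ⊗ n₂` over the field with two elements) with the hypothesis `13 ≤ n` replaced by
what their proofs really use (`8 ≤ t`, `3 ≤ t`, `4 ≤ n`).  The proofs are those of the landed rows.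
-/

set_option autoImplicit false

namespace Cfsg.Agent.Lib.Helper97_AschMaxQ

open Cfsg Cfsg.Agent.Lib.Helper98_Decomp Cfsg.Agent.S5635 Matrix

section One

variable {F : Type*} [Field F] [Fintype F] {n t : ℕ} {D : Fin t → Submodule F (Fin n → F)}
  (hD : Cfsg.Geo.IsMDecomposition 1 D)

include hD in
theorem case_one' (ht : 8 ≤ t) (hq : Fintype.card F ≤ 4) :
    ∃ K : Subgroup (GL (Fin n) F),
      Cfsg.Geo.decompositionStabilizer D ⊓ Cfsg.Geo.specialLinear (Fin n) F < K ∧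
        K < Cfsg.Geo.specialLinear (Fin n) F := by
  obtain ⟨I, -, hI⟩ := Finset.exists_subset_card_eq (s := (Finset.univ : Finset (Fin t))) (n := 4)
    (by rw [Finset.card_univ, Fintype.card_fin]; omega)
  obtain ⟨J, hJsub, hJ⟩ := Finset.exists_subset_card_eq (s := Iᶜ) (n := 4)
    (by rw [Finset.card_compl, Fintype.card_fin, hI]; omega)
  have hIJ : Disjoint I J := by
    rw [Finset.disjoint_left]
    intro a haI haJ
    have := hJsub haJ
    rw [Finset.mem_compl] at this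
    exact this haI
  obtain ⟨i₀, hi₀, i₁, hi₁, i₂, hi₂, h01, h02, h12⟩ := Finset.two_lt_card.mp (by rw [hI]; norm_num : 2 < I.card)
  have hneI : 1 + psiI hD I 0 (uI hD I 0) ≠ 0 := by
    rw [psiI_uI, if_pos rfl, hI]
    push_cast
    exact five_ne_zero hq
  have hneJ : 1 + psiI hD J 0 (uI hD J 0) ≠ 0 := by
    rw [psiI_uI, if_pos rfl, hJ]
    push_cast
    exact five_ne_zero hq
  refine ⟨preserver (wtF hD) ⊓ Cfsg.Geo.specialLinear (Fin n) F, ?_, ?_⟩
  · rw [SetLike.lt_iff_le_and_exists]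
    refine ⟨inf_le_inf_right _ (stab_le_preserver hD), ?_⟩
    refine ⟨r1GL (uI hD I 0) (psiI hD I 0) hneI * r1GL (uI hD J 0) (psiI hD J 0) hneJ, ?_, ?_⟩
    · refine Subgroup.mem_inf.mpr
        ⟨mul_mem (T_one_preserves hD hq I hI hneI) (T_one_preserves hD hq J hJ hneJ), ?_⟩
      rw [mem_specialLinear_iff, Units.val_mul, Matrix.det_mul, r1GL_coe, r1GL_coe, r1_det, r1_det,
        psiI_uI, psiI_uI, if_pos rfl, if_pos rfl, hI, hJ]
      push_cast
      exact twentyfive hq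
    · intro hmem
      refine not_mem_stab hD (bas_mem hD i₀ 0) (j₁ := 0) (j₂ := 0) h12 ?_ ?_ (Subgroup.mem_inf.mp hmem).1
      · rw [kv_one hD I J hIJ hneI hneJ hi₀, map_add, co_bas, co_uI, if_neg (fun h => h01 h.1),
          if_pos ⟨hi₁, rfl⟩, zero_add]
        exact one_ne_zero
      · rw [kv_one hD I J hIJ hneI hneJ hi₀, map_add, co_bas, co_uI, if_neg (fun h => h02 h.1),
          if_pos ⟨hi₂, rfl⟩, zero_add]
        exact one_ne_zero
  · rw [SetLike.lt_iff_le_and_exists]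
    refine ⟨inf_le_right, ?_⟩
    obtain ⟨h, hSL, hnot⟩ := exists_not_preserver hD h01 0
    exact ⟨h, hSL, fun hmem => hnot (Subgroup.mem_inf.mp hmem).1⟩

end One

section Two

variable {F : Type*} [Field F] [Fintype F] {n t : ℕ} {D : Fin t → Submodule F (Fin n → F)}
  (hD : Cfsg.Geo.IsMDecomposition 2 D)

include hD in
theorem case_two' (ht : 3 ≤ t) (hq : Fintype.card F = 2) :
    ∃ K : Subgroup (GL (Fin n) F),
      Cfsg.Geo.decompositionStabilizer D ⊓ Cfsg.Geo.specialLinear (Fin n) F < K ∧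
        K < Cfsg.Geo.specialLinear (Fin n) F := by
  obtain ⟨I, -, hI⟩ := Finset.exists_subset_card_eq (s := (Finset.univ : Finset (Fin t))) (n := 3)
    (by rw [Finset.card_univ, Fintype.card_fin]; omega)
  obtain ⟨i₁, hi₁, i₂, hi₂, h12⟩ := Finset.one_lt_card.mp (by rw [hI]; norm_num : 1 < I.card)
  have h01 : (0 : Fin 2) ≠ 1 := by decide
  have hpu : psiI hD I 1 (uI hD I 0) = 0 := by
    rw [psiI_uI, if_neg h01]
  have hne : 1 + psiI hD I 1 (uI hD I 0) ≠ 0 := by
    rw [hpu, add_zero]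
    exact one_ne_zero
  have hkv : ((r1GL (uI hD I 0) (psiI hD I 1) hne : GL (Fin n) F) : Matrix (Fin n) (Fin n) F) *ᵥ
      bas hD ⟨i₁, 1⟩ = bas hD ⟨i₁, 1⟩ + uI hD I 0 := by
    rw [r1GL_coe, r1_mulVec, psiI_bas, if_pos ⟨hi₁, rfl⟩, one_smul]
  refine ⟨preserver (wtF hD) ⊓ Cfsg.Geo.specialLinear (Fin n) F, ?_, ?_⟩
  · rw [SetLike.lt_iff_le_and_exists]
    refine ⟨inf_le_inf_right _ (stab_le_preserver hD), ?_⟩
    refine ⟨r1GL (uI hD I 0) (psiI hD I 1) hne, ?_, ?_⟩
    · refine Subgroup.mem_inf.mpr ⟨T_two_preserves hD hq I hI hne, ?_⟩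
      rw [mem_specialLinear_iff, r1GL_coe, r1_det, hpu, add_zero]
    · intro hmem
      refine not_mem_stab hD (bas_mem hD i₁ 1) (j₁ := 0) (j₂ := 0) h12 ?_ ?_ (Subgroup.mem_inf.mp hmem).1
      · rw [hkv, map_add, co_bas, co_uI, if_neg (fun h => h01 h.2.symm),
          if_pos ⟨hi₁, rfl⟩, zero_add]
        exact one_ne_zero
      · rw [hkv, map_add, co_bas, co_uI, if_neg (fun h => h01 h.2.symm),
          if_pos ⟨hi₂, rfl⟩, zero_add]
        exact one_ne_zero
  · rw [SetLike.lt_iff_le_and_exists]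
    refine ⟨inf_le_right, ?_⟩
    obtain ⟨h, hSL, hnot⟩ := exists_not_preserver hD h12 0
    exact ⟨h, hSL, fun hmem => hnot (Subgroup.mem_inf.mp hmem).1⟩

end Two

open Cfsg.Agent.S5638 in
theorem tensor_two' {F : Type*} [Field F] [Fintype F] (n : ℕ) (hn : 4 ≤ n) (hq : Fintype.card F = 2) (n₂ : ℕ)
    (e : Fin n ≃ Fin 2 × Fin n₂) (P : Matrix.GeneralLinearGroup (Fin n) F) :
    ∃ K : Subgroup (Matrix.GeneralLinearGroup (Fin n) F),
      Cfsg.Geo.tensorProductSubgroup 2 n₂ e P ⊓ Cfsg.Geo.specialLinear (Fin n) F < K ∧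
        K < Cfsg.Geo.specialLinear (Fin n) F := by
  have hcard : n = 2 * n₂ := by simpa using Fintype.card_congr e
  obtain ⟨k, rfl⟩ : ∃ k, n₂ = k + 2 := ⟨n₂ - 2, by omega⟩
  rw [specialLinear_eq_top hq, inf_top_eq]
  let φ : GL (Fin 2 × Fin (k + 2)) F ≃* GL (Fin n) F :=
    (Cfsg.Geo.glReindex e.symm).trans (MulAut.conj P)
  have hT : Cfsg.Geo.tensorProductSubgroup 2 (k + 2) e P
      = (Cfsg.Geo.kroneckerSubgroup 2 (k + 2) F).map φ.toMonoidHom := by
    unfold Cfsg.Geo.tensorProductSubgroup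
    rw [Subgroup.map_map]
    rfl
  obtain ⟨K', h1, h2⟩ := key hq k
  refine ⟨K'.map φ.toMonoidHom, ?_, ?_⟩
  · rw [hT]
    exact (Subgroup.map_lt_map_iff_of_injective φ.injective).2 h1
  · have htop : (⊤ : Subgroup (GL (Fin n) F)) = (⊤ : Subgroup _).map φ.toMonoidHom :=
      (Subgroup.map_top_of_surjective φ.toMonoidHom φ.surjective).symm
    rw [htop]
    exact (Subgroup.map_lt_map_iff_of_injective φ.injective).2 h2

/-- a maximal subgroup has no subgroup strictly between it and the big group -/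
lemma not_between {G : Type*} [Group G] {K H : Subgroup G} (hH : Cfsg.Geo.IsMaximalIn K H)
    (h : ∃ L : Subgroup G, H < L ∧ L < K) : False := by
  obtain ⟨L, h1, h2⟩ := h
  rcases hH.2 L h1.le h2.le with h3 | h3
  · exact h1.ne' h3
  · exact h2.ne h3

end Cfsg.Agent.Lib.Helper97_AschMaxQ
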