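import Mathlib
import Cfsg.Prelude.Def_GeometricClasses
import Cfsg.Agent.Lib.Helper97_AschMaxC
import Cfsg.Agent.Lib.Helper97_AschC6
import Cfsg.Agent.Lib.Helper97_AschMaxQ
import Cfsg.Agent.Lib.Helper30_AschMax
import Cfsg.Agent.Lib.Helper30_AschPrime

/-!
# Normal form of a maximal subgroup of `SL_n(F)` (helper97)

`MaxNormalForm n F H`: `H` is the intersection with `SL_n(F)` of a member of one of the geometric classes
(with the numerical side conditions `t * m = n`, `r ∣ n`, `n₁ * n₂ = n`, `m ^ t = n`), or is in the residual class.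
The rows S5829, S5838, S5862 are deduced from this normal form by arithmetic and the small field exclusions.
-/

set_option autoImplicit false

namespace Cfsg.Agent.Lib.Helper97_AschRows

open Cfsg Cfsg.Geo Matrix

/-- normal form of a maximal subgroup of `SL_n(F)` -/
def MaxNormalForm (n : ℕ) (F : Type*) [Field F] [Fintype F] (H : Subgroup (GL (Fin n) F)) : Prop :=
  (∃ W : Submodule F (Fin n → F), W ≠ ⊥ ∧ W ≠ ⊤ ∧ H = subspaceStabilizer W ⊓ specialLinear (Fin n) F) ∨
  (∃ (t m : ℕ) (D : Fin t → Submodule F (Fin n → F)), IsMDecomposition m D ∧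
      H = decompositionStabilizer D ⊓ specialLinear (Fin n) F) ∨
  (∃ (r : ℕ) (K : Subalgebra F (Matrix (Fin n) (Fin n) F)), r.Prime ∧ r ∣ n ∧ IsFieldSubalgebra r K ∧
      H = subalgebraNormalizer K ⊓ specialLinear (Fin n) F) ∨
  (∃ (n₁ n₂ : ℕ) (e : Fin n ≃ Fin n₁ × Fin n₂) (P : GL (Fin n) F), 2 ≤ n₁ ∧ n₁ < n₂ ∧
      H = tensorProductSubgroup n₁ n₂ e P ⊓ specialLinear (Fin n) F) ∨
  (∃ (F₀ : Subfield F) (r : ℕ) (P : GL (Fin n) F), r.Prime ∧ Fintype.card F = Nat.card F₀ ^ r ∧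
      H = subfieldSubgroup F₀ P ⊓ specialLinear (Fin n) F) ∨
  (∃ (r : ℕ) (R : Subgroup (GL (Fin n) F)), IsLinearSymplecticTypeData r R ∧
      H = subgroupNormalizer R ⊓ specialLinear (Fin n) F) ∨
  (∃ (m t : ℕ) (e : Fin n ≃ (Fin t → Fin m)) (P : GL (Fin n) F), 3 ≤ m ∧ 2 ≤ t ∧
      H = tensorWreathSubgroup m t e P ⊓ specialLinear (Fin n) F) ∨
  (∃ f : (Fin n → F) → (Fin n → F) → F, IsSymplecticForm f ∧ Even n ∧
      H = similarityGroup f ⊓ specialLinear (Fin n) F) ∨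
  (∃ (σ : F ≃+* F) (f : (Fin n → F) → (Fin n → F) → F), IsUnitaryForm σ f ∧
      H = similarityGroup f ⊓ specialLinear (Fin n) F) ∨
  (∃ Q : (Fin n → F) → F, IsNondegenerateQuadraticForm Q ∧ Odd (Fintype.card F) ∧
      H = quadSimilarityGroup Q ⊓ specialLinear (Fin n) F) ∨
  InLinearResidualClass H

variable {F : Type*} [Field F]

/-- a maximal subgroup of `SL` contained in `M` with `SL ≰ M` is `M ⊓ SL` -/
lemma eq_inf_of_maximal {n : ℕ} {H M : Subgroup (GL (Fin n) F)}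
    (hH : IsMaximalIn (specialLinear (Fin n) F) H) (hHM : H ≤ M) (hM : ¬ specialLinear (Fin n) F ≤ M) :
    H = M ⊓ specialLinear (Fin n) F := by
  rcases hH.2 (M ⊓ specialLinear (Fin n) F) (le_inf hHM hH.1.le) inf_le_right with h | h
  · exact h.symm
  · exact absurd (h ▸ inf_le_left) hM

/-- arithmetic of the tensor wreath class in dimension at most 12 -/
lemma wreath_arith {m t n : ℕ} (hm : 3 ≤ m) (ht : 2 ≤ t) (h : n = m ^ t) (hn : n ≤ 12) :
    m = 3 ∧ t = 2 ∧ n = 9 := by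
  have h1 : m ^ 2 ≤ m ^ t := Nat.pow_le_pow_right (by omega) ht
  have hm3 : m = 3 := by
    have : m ≤ 3 := by nlinarith
    omega
  subst hm3
  have ht2 : t = 2 := by
    by_contra hne
    have h3 : 3 ≤ t := by omega
    have := Nat.pow_le_pow_right (show 0 < 3 by norm_num) h3
    omega
  subst ht2
  exact ⟨rfl, rfl, by omega⟩

/-- a finite field with fewer than three elements has two -/
lemma card_eq_two_of_lt_three [Fintype F] (h : ¬ 3 ≤ Fintype.card F) : Fintype.card F = 2 := by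
  have := Fintype.one_lt_card (α := F)
  omega

section NormalForm

open Cfsg.Agent.Lib.Helper30_AschMax Cfsg.Agent.Lib.Helper30_AschPrime Cfsg.Agent.Lib.Helper98_Decomp

variable {n : ℕ}

theorem not_le_similarityGroup_symplectic (hn : 3 ≤ n)
    {f : (Fin n → F) → (Fin n → F) → F} (hf : IsSymplecticForm f) :
    ¬ specialLinear (Fin n) F ≤ similarityGroup f := by
  intro hle
  set w : Fin n → F := Pi.single ⟨0, by omega⟩ 1 with hwdef
  have hw0 : w ≠ 0 := by
    intro h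
    have := congrFun h ⟨0, by omega⟩
    simp [hwdef] at this
  obtain ⟨u, hu⟩ := (hf.nondegenerate w hw0).1
  let ψ : (Fin n → F) →ₗ[F] F :=
    { toFun := fun y => f y w
      map_add' := fun x y => hf.bilinear.add_left x y w
      map_smul' := fun c x => by simpa using hf.bilinear.smul_left c x w }
  have hex : ∃ x ∈ LinearMap.ker ψ, x ∉ Submodule.span F {w} := by
    by_contra hcon
    push Not at hcon
    have hle' : LinearMap.ker ψ ≤ Submodule.span F {w} := hcon
    have h1 := Submodule.finrank_mono hle'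
    have h2 : Module.finrank F (Submodule.span F {w}) ≤ 1 := by
      have := finrank_span_le_card (R := F) ({w} : Set (Fin n → F))
      simpa using this
    have h3 := LinearMap.finrank_range_add_finrank_ker ψ
    rw [Module.finrank_fin_fun] at h3
    have h4 : Module.finrank F (LinearMap.range ψ) ≤ 1 := by
      have := Submodule.finrank_le (LinearMap.range ψ)
      rwa [Module.finrank_self] at this
    omega
  obtain ⟨x, hxk, hxs⟩ := hex
  have hxw : f x w = 0 := hxk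
  obtain ⟨φ, hφw, hφx⟩ := exists_dual hxs
  obtain ⟨c, hc⟩ := hle (tv_mem w φ hφw)
  -- multiplier is one
  have hc1 : (c : F) = 1 := by
    have h := hc u w
    rw [tv_mulVec, tv_mulVec, hφw, zero_smul, add_zero, hf.bilinear.add_left, hf.bilinear.smul_left,
      hf.alternating, mul_zero, add_zero] at h
    have : (1 - (c : F)) * f u w = 0 := by rw [sub_mul, one_mul, ← h, sub_self]
    rcases mul_eq_zero.mp this with h0 | h0
    · exact (sub_eq_zero.mp h0).symm
    · exact absurd h0 hu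
  have h := hc x u
  rw [tv_mulVec, tv_mulVec, hφx, one_smul, hc1, one_mul, hf.bilinear.add_left, hf.bilinear.add_right,
    hf.bilinear.add_right, hf.bilinear.smul_right, hf.bilinear.smul_right, hxw, hf.alternating,
    mul_zero] at h
  have h5 : f w u = 0 := by linear_combination h
  rw [hf.skew] at h5
  exact hu (neg_eq_zero.mp h5)


/-- **normal form** of a maximal subgroup of `SL_n(F)`, `n ≥ 3`, from Aschbacher's theorem (frozen S5630 as the
hypothesis `AschHyp`) -/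
theorem maxNormalForm [Fintype F] (hn : 3 ≤ n) (hA : AschHyp n F)
    (H : Subgroup (GL (Fin n) F)) (hH : IsMaximalIn (specialLinear (Fin n) F) H) :
    MaxNormalForm n F H := by
  have hn2 : 2 ≤ n := by omega
  have hne : Nonempty (Fin n) := ⟨⟨0, by omega⟩⟩
  unfold MaxNormalForm
  rcases hA H hH.1.le (sup_scalars_ne hn hH) with ⟨M, hM, hHM⟩ | hres
  swap
  · exact Or.inr (Or.inr (Or.inr (Or.inr (Or.inr (Or.inr (Or.inr (Or.inr (Or.inr (Or.inr hres)))))))))
  have cStab : ∀ W : Submodule F (Fin n → F), W ≠ ⊥ → W ≠ ⊤ → H ≤ subspaceStabilizer W →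
      ∃ W : Submodule F (Fin n → F), W ≠ ⊥ ∧ W ≠ ⊤ ∧ H = subspaceStabilizer W ⊓ specialLinear (Fin n) F :=
    fun W h0 h1 hle => ⟨W, h0, h1, eq_inf_of_le hH hle (not_le_subspaceStabilizer W h0 h1)⟩
  rcases hM with ⟨W, hW0, hW1, rfl⟩ | ⟨W, U, hW0, hWU, -, rfl⟩ | ⟨W, U, hW0, hinf, hsup, hlt, rfl⟩ |
    ⟨t, m, D, hD, rfl⟩ | ⟨r, K, hr, hK, rfl⟩ | ⟨n₁, n₂, e, P, h1, h2, rfl⟩ |
    ⟨F₀, r, P, hr, hcard, rfl⟩ | ⟨r, R, hR, rfl⟩ | ⟨m, t, e, P, hm, ht, rfl⟩ |
    ⟨f, hf, heven, h4, rfl⟩ | ⟨σ, f, hf, h3, rfl⟩ | ⟨Q, hQ, hodd, h3, rfl⟩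
  · exact Or.inl (cStab W hW0 hW1 hHM)
  · exact Or.inl (cStab W hW0 (hWU.trans_le le_top).ne (hHM.trans inf_le_left))
  · refine Or.inl (cStab W hW0 ?_ (hHM.trans inf_le_left))
    rintro rfl
    rw [top_inf_eq] at hinf
    rw [hinf, finrank_bot] at hlt
    omega
  · exact Or.inr (Or.inl ⟨t, m, D, hD, eq_inf_of_le hH hHM (not_le_decompositionStabilizer hD)⟩)
  · exact Or.inr (Or.inr (Or.inl ⟨r, K, hr, dvd_of_isFieldSubalgebra (by omega) hK, hK,
      eq_inf_of_le hH hHM (not_le_subalgebraNormalizer hn hr.one_lt hK)⟩))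
  · exact Or.inr (Or.inr (Or.inr (Or.inl ⟨n₁, n₂, e, P, h1, h2, eq_inf_of_le hH hHM
      (Cfsg.Agent.Lib.Helper97_AschMaxC.not_sl_le_tensorProduct n₁ n₂ h1 (by omega) e P)⟩)))
  · exact Or.inr (Or.inr (Or.inr (Or.inr (Or.inl ⟨F₀, r, P, hr, hcard, eq_inf_of_le hH hHM
      (not_le_subfieldSubgroup hn2 F₀ (subfield_ne_top hr hcard) P)⟩))))
  · have hrp := hR.symplecticType.prime
    obtain ⟨p, e, hne', hmin, -⟩ := hR.field
    obtain ⟨hp, hchar, -⟩ := hmin
    have := hchar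
    exact Or.inr (Or.inr (Or.inr (Or.inr (Or.inr (Or.inl ⟨r, R, hR, eq_inf_of_le hH hHM
      (not_le_subgroupNormalizer hn hR.absIrred.1
        (not_le_of_isPGroup hn2 hp hrp hne' hR.symplecticType.pGroup))⟩)))))
  · exact Or.inr (Or.inr (Or.inr (Or.inr (Or.inr (Or.inr (Or.inl ⟨m, t, e, P, hm, ht, eq_inf_of_le hH hHM
      (Cfsg.Agent.Lib.Helper97_AschMaxC.not_sl_le_tensorWreath (by omega) ht e P)⟩))))))
  · exact Or.inr (Or.inr (Or.inr (Or.inr (Or.inr (Or.inr (Or.inr (Or.inl ⟨f, hf, heven, eq_inf_of_le hH hHM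
      (not_le_similarityGroup_symplectic hn hf)⟩)))))))
  · exact Or.inr (Or.inr (Or.inr (Or.inr (Or.inr (Or.inr (Or.inr (Or.inr (Or.inl ⟨σ, f, hf,
      eq_inf_of_le hH hHM (not_le_similarityGroup_unitary hn2 hf)⟩))))))))
  · exact Or.inr (Or.inr (Or.inr (Or.inr (Or.inr (Or.inr (Or.inr (Or.inr (Or.inr (Or.inl ⟨Q, hQ, hodd,
      eq_inf_of_le hH hHM (not_le_quadSimilarityGroup hn2 (two_ne_zero_of_odd_card hodd) hQ)⟩)))))))))

end NormalForm

end Cfsg.Agent.Lib.Helper97_AschRows
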