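import Mathlib
import Cfsg.Prelude.Def_GeometricClasses
import Cfsg.Agent.Lib.Helper97_AschRows
import Cfsg.Agent.Lib.Helper30_AschDecomp
import Cfsg.Agent.Lib.Helper4_SL4Planes
import Cfsg.Agent.Lib.Helper4_SL4Five

/-!
# The maximal subgroups of `SL_4(q)` (helper4, S5781)

The case analysis for dimension four, given the subgroup structure theorem S5630 in dimension four as
the hypothesis `AschHyp 4 F`, on top of helper97's normal form `maxNormalForm`.

* decompositions into four lines: `q ≤ 4` gives a subspace, quadratic or unitary member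
  (`Helper30_AschDecomp.decomp_small`), `q = 5` is not maximal (`Helper4_SL4Five`), there is no field
  with six elements;
* decompositions into two planes: `q = 2` and `q = 3` give a symplectic member (`Helper4_SL4Planes`);
* extension fields: the degree is `2`; tensor classes do not occur in dimension four;
* the symplectic type class: `r = 2`, the centre has order four, the field is a prime field with
  `p % 4 = 1`.
-/

set_option autoImplicit false

namespace Cfsg.Agent.Lib.Helper4_SL4Main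

open Matrix Cfsg.Geo Cfsg.Agent.Lib.Helper98_Decomp Cfsg.Agent.Lib.Helper30_AschMax
  Cfsg.Agent.Lib.Helper30_AschPrime Cfsg.Agent.Lib.Helper97_AschRows

variable {F : Type*} [Field F] [Fintype F]

/-- there is no field with six elements -/
lemma card_ne_six : Fintype.card F ≠ 6 := by
  intro h6
  obtain ⟨p, -, k, hp, hk⟩ := FiniteField.card' F
  rw [h6] at hk
  have h2 : 2 ∣ (p : ℕ) ^ (k : ℕ) := ⟨3, by rw [← hk]⟩
  have h3 : 3 ∣ (p : ℕ) ^ (k : ℕ) := ⟨2, by rw [← hk]⟩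
  have e2 := (Nat.prime_dvd_prime_iff_eq Nat.prime_two hp).1 (Nat.prime_two.dvd_of_dvd_pow h2)
  have e3 := (Nat.prime_dvd_prime_iff_eq Nat.prime_three hp).1 (Nat.prime_three.dvd_of_dvd_pow h3)
  omega

/-- **the maximal subgroups of `SL_4(q)`**, from Aschbacher's theorem in dimension four -/
theorem four_cases (hA : AschHyp 4 F)
    (H : Subgroup (GL (Fin 4) F)) (hH : IsMaximalIn (specialLinear (Fin 4) F) H) :
    (∃ W : Submodule F (Fin 4 → F), W ≠ ⊥ ∧ W ≠ ⊤ ∧ H = Cfsg.Geo.subspaceStabilizer W ⊓ Cfsg.Geo.specialLinear (Fin 4) F) ∨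
    (7 ≤ Fintype.card F ∧ ∃ D : Fin 4 → Submodule F (Fin 4 → F), Cfsg.Geo.IsMDecomposition 1 D ∧ H = Cfsg.Geo.decompositionStabilizer D ⊓ Cfsg.Geo.specialLinear (Fin 4) F) ∨
    (4 ≤ Fintype.card F ∧ ∃ D : Fin 2 → Submodule F (Fin 4 → F), Cfsg.Geo.IsMDecomposition 2 D ∧ H = Cfsg.Geo.decompositionStabilizer D ⊓ Cfsg.Geo.specialLinear (Fin 4) F) ∨
    (∃ K : Subalgebra F (Matrix (Fin 4) (Fin 4) F), Cfsg.Geo.IsFieldSubalgebra 2 K ∧ H = Cfsg.Geo.subalgebraNormalizer K ⊓ Cfsg.Geo.specialLinear (Fin 4) F) ∨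
    (∃ (F₀ : Subfield F) (r : ℕ) (P : Matrix.GeneralLinearGroup (Fin 4) F), r.Prime ∧ Fintype.card F = Nat.card F₀ ^ r ∧ H = Cfsg.Geo.subfieldSubgroup F₀ P ⊓ Cfsg.Geo.specialLinear (Fin 4) F) ∨
    (∃ (p : ℕ) (R : Subgroup (Matrix.GeneralLinearGroup (Fin 4) F)), p.Prime ∧ Fintype.card F = p ∧ p % 4 = 1 ∧ Cfsg.Geo.IsLinearSymplecticTypeData 2 R ∧ H = Cfsg.Geo.subgroupNormalizer R ⊓ Cfsg.Geo.specialLinear (Fin 4) F) ∨
    (Odd (Fintype.card F) ∧ ∃ Q : (Fin 4 → F) → F, Cfsg.Geo.IsNondegenerateQuadraticForm Q ∧ H = Cfsg.Geo.quadSimilarityGroup Q ⊓ Cfsg.Geo.specialLinear (Fin 4) F) ∨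
    (∃ f : (Fin 4 → F) → (Fin 4 → F) → F, Cfsg.Geo.IsSymplecticForm f ∧ H = Cfsg.Geo.similarityGroup f ⊓ Cfsg.Geo.specialLinear (Fin 4) F) ∨
    (∃ (σ : F ≃+* F) (f : (Fin 4 → F) → (Fin 4 → F) → F), Cfsg.Geo.IsUnitaryForm σ f ∧ H = Cfsg.Geo.similarityGroup f ⊓ Cfsg.Geo.specialLinear (Fin 4) F) ∨
    Cfsg.Geo.InLinearResidualClass H := by
  have hn : 3 ≤ 4 := by norm_num
  have hn2 : 2 ≤ 4 := by norm_num
  have hq2 : 2 ≤ Fintype.card F := Fintype.one_lt_card
  -- the recurring conclusions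
  have cStab : ∀ W : Submodule F (Fin 4 → F), W ≠ ⊥ → W ≠ ⊤ → H ≤ subspaceStabilizer W →
      ∃ W : Submodule F (Fin 4 → F), W ≠ ⊥ ∧ W ≠ ⊤ ∧ H = subspaceStabilizer W ⊓ specialLinear (Fin 4) F :=
    fun W h0 h1 hle => ⟨W, h0, h1, eq_inf_of_le hH hle (not_le_subspaceStabilizer W h0 h1)⟩
  have cQuad : ∀ Q : (Fin 4 → F) → F, Odd (Fintype.card F) → IsNondegenerateQuadraticForm Q →
      H ≤ quadSimilarityGroup Q →
      (Odd (Fintype.card F) ∧ ∃ Q : (Fin 4 → F) → F, IsNondegenerateQuadraticForm Q ∧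
        H = quadSimilarityGroup Q ⊓ specialLinear (Fin 4) F) :=
    fun Q hodd hQ hle => ⟨hodd, Q, hQ, eq_inf_of_le hH hle
      (not_le_quadSimilarityGroup hn2 (two_ne_zero_of_odd_card hodd) hQ)⟩
  have cUni : ∀ (σ : F ≃+* F) (f : (Fin 4 → F) → (Fin 4 → F) → F), IsUnitaryForm σ f →
      H ≤ similarityGroup f →
      ∃ (σ : F ≃+* F) (f : (Fin 4 → F) → (Fin 4 → F) → F), IsUnitaryForm σ f ∧
        H = similarityGroup f ⊓ specialLinear (Fin 4) F :=
    fun σ f hf hle => ⟨σ, f, hf, eq_inf_of_le hH hle (not_le_similarityGroup_unitary hn2 hf)⟩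
  have cSymp : ∀ f : (Fin 4 → F) → (Fin 4 → F) → F, IsSymplecticForm f →
      H ≤ similarityGroup f →
      ∃ f : (Fin 4 → F) → (Fin 4 → F) → F, IsSymplecticForm f ∧
        H = similarityGroup f ⊓ specialLinear (Fin 4) F :=
    fun f hf hle => ⟨f, hf, eq_inf_of_le hH hle (not_le_similarityGroup_symplectic hn hf)⟩
  rcases maxNormalForm hn hA H hH with ⟨W, hW0, hW1, hHW⟩ | ⟨t, m, D, hD, hHD⟩ | ⟨r, K, hr, hrn, hK, hHK⟩ |
    ⟨n₁, n₂, e, P, h1, h2, -⟩ | ⟨F₀, r, P, hr, hcard, hHF⟩ | ⟨r, R, hR, hHR⟩ | ⟨m, t, e, P, hm, ht, -⟩ |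
    ⟨f, hf, -, hHf⟩ | ⟨σ, f, hf, hHf⟩ | ⟨Q, hQ, hodd, hHQ⟩ | hres
  · -- subspaces
    exact Or.inl ⟨W, hW0, hW1, hHW⟩
  · -- decompositions
    have hcard := card_eq hD
    have ht2 := hD.two_le
    have hmpos := hD.pos
    have hcases : (t = 4 ∧ m = 1) ∨ (t = 2 ∧ m = 2) := by
      have ht4 : t ≤ 4 := by nlinarith
      interval_cases t <;> omega
    have hHle : H ≤ decompositionStabilizer D := hHD ▸ inf_le_left
    rcases hcases with ⟨rfl, rfl⟩ | ⟨rfl, rfl⟩
    · -- four lines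
      by_cases hq : 7 ≤ Fintype.card F
      · exact Or.inr (Or.inl ⟨hq, D, hD, hHD⟩)
      · have h6 := card_ne_six (F := F)
        by_cases hq4 : Fintype.card F ≤ 4
        · rcases Cfsg.Agent.Lib.Helper30_AschDecomp.decomp_small hD hq4 with
            ⟨W, hW0, hW1, hle⟩ | ⟨hodd, Q, hQ, hle⟩ | ⟨σ, f, hf, hle⟩
          · exact Or.inl (cStab W hW0 hW1 (hHle.trans hle))
          · exact Or.inr (Or.inr (Or.inr (Or.inr (Or.inr (Or.inr (Or.inl
              (cQuad Q hodd hQ (hHle.trans hle))))))))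
          · exact Or.inr (Or.inr (Or.inr (Or.inr (Or.inr (Or.inr (Or.inr (Or.inr (Or.inl
              (cUni σ f hf (hHle.trans hle))))))))))
        · exfalso
          have hq5 : Fintype.card F = 5 := by omega
          have hK := Cfsg.Agent.Lib.Helper4_SL4Five.not_maximal_of_card_five hD hq5
          rw [← hHD] at hK
          exact Cfsg.Agent.Lib.Helper97_AschMaxQ.not_between hH hK
    · -- two planes
      by_cases hq : 4 ≤ Fintype.card F
      · exact Or.inr (Or.inr (Or.inl ⟨hq, D, hD, hHD⟩))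
      · obtain h | h : Fintype.card F = 2 ∨ Fintype.card F = 3 := by omega
        · obtain ⟨f, hf, hle⟩ := Cfsg.Agent.Lib.Helper4_SL4Planes.le_similarityGroup_of_card_two hD h
          exact Or.inr (Or.inr (Or.inr (Or.inr (Or.inr (Or.inr (Or.inr (Or.inl
            (cSymp f hf (hHle.trans hle)))))))))
        · obtain ⟨f, hf, hle⟩ :=
            Cfsg.Agent.Lib.Helper4_SL4Planes.inf_sl_le_similarityGroup_of_card_three hD h
          rw [← hHD] at hle
          exact Or.inr (Or.inr (Or.inr (Or.inr (Or.inr (Or.inr (Or.inr (Or.inl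
            (cSymp f hf hle))))))))
  · -- extension fields
    have hr2 : r = 2 := by
      have hr4 : r ≤ 4 := Nat.le_of_dvd (by norm_num) hrn
      have := hr.two_le
      interval_cases r
      · rfl
      · omega
      · exact absurd hr (by decide)
    subst hr2
    exact Or.inr (Or.inr (Or.inr (Or.inl ⟨K, hK, hHK⟩)))
  · -- tensor products: impossible in dimension four
    exfalso
    have hc : 4 = n₁ * n₂ := by simpa using Fintype.card_congr e
    nlinarith
  · -- subfields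
    exact Or.inr (Or.inr (Or.inr (Or.inr (Or.inl ⟨F₀, r, P, hr, hcard, hHF⟩))))
  · -- symplectic type
    have hr2 : r = 2 :=
      Cfsg.Agent.Lib.Helper97_AschC6.eq_of_symplecticTypeData_of_card_eq_pow hR Nat.prime_two
        (by simp : Fintype.card (Fin 4) = 2 ^ 2)
    subst hr2
    obtain ⟨p, e, -, ⟨hp, -, hcardF, hdvd, -⟩, hcase⟩ := hR.field
    rcases hcase with ⟨hodd, -⟩ | ⟨-, he, hZ, -, -⟩ | ⟨-, -, hι, -⟩
    · exact absurd hodd (by decide)
    · subst he
      rw [pow_one] at hcardF hdvd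
      rw [hZ] at hdvd
      have hp2 := hp.two_le
      refine Or.inr (Or.inr (Or.inr (Or.inr (Or.inr (Or.inl ⟨p, R, hp, hcardF, ?_, hR, hHR⟩)))))
      omega
    · simp at hι
  · -- tensor powers: impossible in dimension four
    exfalso
    have hc : 4 = m ^ t := by simpa using Fintype.card_congr e
    have h1 : 3 ^ 2 ≤ m ^ t :=
      le_trans (Nat.pow_le_pow_left hm 2) (Nat.pow_le_pow_right (by omega) ht)
    omega
  · -- symplectic forms
    exact Or.inr (Or.inr (Or.inr (Or.inr (Or.inr (Or.inr (Or.inr (Or.inl ⟨f, hf, hHf⟩)))))))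
  · -- unitary forms
    exact Or.inr (Or.inr (Or.inr (Or.inr (Or.inr (Or.inr (Or.inr (Or.inr (Or.inl ⟨σ, f, hf, hHf⟩))))))))
  · -- quadratic forms
    exact Or.inr (Or.inr (Or.inr (Or.inr (Or.inr (Or.inr (Or.inl ⟨hodd, Q, hQ, hHQ⟩))))))
  · -- residual class
    exact Or.inr (Or.inr (Or.inr (Or.inr (Or.inr (Or.inr (Or.inr (Or.inr (Or.inr hres))))))))

end Cfsg.Agent.Lib.Helper4_SL4Main
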