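import Mathlib
import Cfsg.Prelude.Def_GeometricClasses
import Cfsg.Agent.Lib.Helper97_AschC6

/-!
# The class 6 data of `GU_4(q)` (helper4, for S5784)

A symplectic-type `r`-group acting absolutely irreducibly in dimension four with the field and order
conditions of the unitary class 6 has `r = 2`, order `64`, centre of order `4`, and the field has
`p ^ 2` elements with `p % 4 = 3`.
-/

set_option autoImplicit false

namespace Cfsg.Agent.Lib.Helper4_SU4C6

open Matrix Cfsg.Geo Cfsg.Agent.Lib.Helper97_AschC6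

variable {F : Type*} [Field F] [Fintype F]

theorem c6_data {q : ℕ} (hF : Fintype.card F = q ^ 2) {r p e k : ℕ} {R : Subgroup (GL (Fin 4) F)}
    (hR : IsSymplecticTypeGroup r R) (hirr : ActsAbsolutelyIrreducibly (matrixSet R))
    (hmin : IsMinimalFieldFor (Nat.card (Subgroup.center R)) p e F)
    (hcase : (Odd r ∧ Nat.card (Subgroup.center R) = r ∧ 1 ≤ k ∧ Nat.card R = r ^ (1 + 2 * k)) ∨
       (r = 2 ∧ e = 2 ∧ Nat.card (Subgroup.center R) = 4 ∧ Nat.card R = 2 ^ (2 + 2 * k))) :
    p.Prime ∧ q = p ∧ p % 4 = 3 ∧ r = 2 ∧ Nat.card R = 64 ∧ Nat.card (Subgroup.center R) = 4 := by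
  have hfin : Finite (GL (Fin 4) F) := inferInstance
  have hpk := Cfsg.Agent.Lib.Helper52_Asch_PK7.PK7 R (spanAlg_eq_top_of_absIrred hirr)
    (commutator_le_scalars hR hirr)
  rw [card_inf_scalars_eq_card_center hirr, Fintype.card_fin] at hpk
  have hrp := hR.prime
  obtain ⟨hp, -, hcardF, hdvd, hminimal⟩ := hmin
  rcases hcase with ⟨hodd, hZ, hk, hcard⟩ | ⟨rfl, rfl, hZ, hcard⟩
  · exfalso
    rw [hZ, hcard, pow_add, pow_one] at hpk
    have h16 : r ^ (2 * k) = 16 := by
      have := Nat.eq_of_mul_eq_mul_left hrp.pos hpk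
      omega
    have h2 : r ∣ 2 ^ 4 := by
      have : r ∣ r ^ (2 * k) := dvd_pow_self r (by omega)
      rw [h16] at this
      exact this
    have := (Nat.prime_dvd_prime_iff_eq hrp Nat.prime_two).1 (hrp.dvd_of_dvd_pow h2)
    subst this
    exact absurd hodd (by decide)
  · rw [hZ, hcard] at hpk
    have hk2 : k = 2 := by
      have h1 : (2 : ℕ) ^ (2 + 2 * k) = 2 ^ 6 := by rw [hpk]; norm_num
      have := Nat.pow_right_injective (le_refl 2) h1
      omega
    subst hk2
    rw [hZ] at hdvd hminimal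
    have hqp : q = p := by
      rw [hF] at hcardF
      exact Nat.pow_left_injective (n := 2) (by norm_num) hcardF
    have h1 := hminimal 1 (by norm_num) (by norm_num)
    rw [pow_one] at h1
    have hp2 := hp.two_le
    have hmod : p % 4 = 3 := by
      have hsq : p ^ 2 = p * p := by ring
      rw [hsq] at hdvd
      have hpp : 1 ≤ p * p := Nat.mul_pos (by omega) (by omega)
      -- `4 ∣ p * p - 1` forces `p` odd; `¬ 4 ∣ p - 1` excludes `p % 4 = 1`
      have hm : (p * p) % 4 = 1 := by omega
      have h4 : p % 4 < 4 := Nat.mod_lt _ (by norm_num)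
      rw [Nat.mul_mod] at hm
      interval_cases h : p % 4
      · omega
      · exfalso; apply h1; omega
      · omega
      · rfl
    exact ⟨hp, hqp, hmod, rfl, by rw [hcard]; norm_num, hZ⟩

end Cfsg.Agent.Lib.Helper4_SU4C6
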