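import Mathlib
import Cfsg.Prelude.Def_GeometricClasses
import Cfsg.Prelude.Def_LieClassical
import Cfsg.Agent.Lib.Helper4_SL4Five
import Cfsg.Agent.Lib.Helper13_HermBridge
import Cfsg.Agent.Lib.Helper13_HermFrames
import Cfsg.Agent.Lib.Helper97_AschMaxC

/-!
# The monomial subgroup of `SU_4(3)` is not maximal (helper4, for S5784)

Over the field `F` with nine elements the determinant-one unitary part of the stabiliser of a
decomposition of `F^4` into four mutually orthogonal nondegenerate lines (for the standard hermitian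
form) is properly contained in the determinant-one unitary part of the normaliser of the group
`R = 4 ∘ 2^{1+4}` of `Helper4_SL4Five` (in an orthonormal adapted basis), which is a proper subgroup
of `SU_4(3)`.  This is the unitary twin of `Helper4_SL4Five.not_maximal_of_card_five`: the monomial
matrices involved have entries with fourth power one in both cases.
-/

set_option autoImplicit false

namespace Cfsg.Agent.Lib.Helper4_SU4Three

open Matrix Cfsg.Geo Cfsg.Agent.Lib.Helper4_SL4Five Cfsg.Agent.Lib.Helper13_Herm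
  Cfsg.Agent.Lib.Helper13_HermBridge Cfsg.Agent.Lib.Helper13_GU

variable {F : Type*} [Field F]

/-! ### monomial matrices with entries of fourth power one normalise `R` -/

theorem mono_normalizes' [Fintype F] (h2 : (2 : F) ≠ 0) {h : GL (Fin 4) F} {σ : Equiv.Perm (Fin 4)}
    {μ : Fin 4 → F} (hμ4 : ∀ j, μ j ^ 4 = 1) (hh : (h : Matrix (Fin 4) (Fin 4) F) = mono σ μ)
    (hdet : (h : Matrix (Fin 4) (Fin 4) F).det = 1) :
    h ∈ Subgroup.normalizer ((R : Subgroup (GL (Fin 4) F)) : Set (GL (Fin 4) F)) := by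
  have hμ : ∀ j, μ j ≠ 0 := by
    intro j h0
    have := hμ4 j
    rw [h0] at this
    norm_num at this
  apply Subgroup.mem_normalizer_fintype
  intro r hr
  obtain ⟨lam, a, b, hlam, hrv⟩ := val_of_mem_R hr
  have hconj := conj_mono hμ hh hrv
  obtain ⟨a', ha'⟩ := conj_x4 σ a
  have hperm : σ * xp a * σ⁻¹ = xp a' := by
    ext j
    simp only [Equiv.Perm.mul_apply, xp_apply]
    exact congrArg Fin.val (ha' j)
  rw [hperm] at hconj
  set s : Fin 4 → F := fun l => μ l ^ 2 with hs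
  have hs1 : ∀ l, s l * s l = 1 := by
    intro l
    have := hμ4 l
    rw [hs]; simp only; rw [← this]; ring
  have hprodμ : (∏ j, μ j) ^ 2 = 1 := by
    rw [hh, det_mono] at hdet
    have hsign : (((Equiv.Perm.sign σ : ℤˣ) : ℤ) : F) ^ 2 = 1 := by
      rcases Int.units_eq_one_or (Equiv.Perm.sign σ) with h1 | h1 <;> rw [h1] <;> simp
    calc (∏ j, μ j) ^ 2 = ((((Equiv.Perm.sign σ : ℤˣ) : ℤ) : F) * ∏ j, μ j) ^ 2 := by
          rw [mul_pow, hsign, one_mul]
      _ = 1 := by rw [hdet, one_pow]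
  have hsp : s 0 * s 1 * s 2 * s 3 = 1 := by
    rw [← hprodμ, Fin.prod_univ_four, hs]; ring
  have hsg := sgn4 s hs1 hsp a
  set ν : Fin 4 → F := fun i => μ ((xp a) (σ⁻¹ i)) * (lam * ch b (σ⁻¹ i)) / μ (σ⁻¹ i) with hν
  have hνsq : ∀ i, ν i ^ 2 = lam ^ 2 * (s (x4 (σ⁻¹ i) a) * s (σ⁻¹ i)) := by
    intro i
    have h4 := hμ4 (σ⁻¹ i)
    have hc := ch_sq (F := F) b (σ⁻¹ i)
    rw [hν, hs]
    simp only [xp_apply]
    rw [div_pow, div_eq_iff (pow_ne_zero 2 (hμ _))]
    linear_combination (μ (x4 (σ⁻¹ i) a) ^ 2 * lam ^ 2) * hc -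
      (lam ^ 2 * μ (x4 (σ⁻¹ i) a) ^ 2) * h4
  have hν0 : ν 0 ≠ 0 := by
    rw [hν]
    exact div_ne_zero (mul_ne_zero (hμ _) (mul_ne_zero hlam (ch_ne_zero _ _))) (hμ _)
  refine mono_mem_R h2 a' ν hconj hν0 ?_ ?_
  · intro j
    rw [hνsq, hνsq, hsg (σ⁻¹ j) (σ⁻¹ 0)]
  · have hν04 : ν 0 ^ 4 = lam ^ 4 := by
      have h1 := hνsq 0
      have h2' := hs1 (x4 (σ⁻¹ 0) a)
      have h3 := hs1 (σ⁻¹ 0)
      calc ν 0 ^ 4 = (ν 0 ^ 2) ^ 2 := by ring
        _ = (lam ^ 2 * (s (x4 (σ⁻¹ 0) a) * s (σ⁻¹ 0))) ^ 2 := by rw [h1]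
        _ = lam ^ 4 * ((s (x4 (σ⁻¹ 0) a) * s (x4 (σ⁻¹ 0) a)) * (s (σ⁻¹ 0) * s (σ⁻¹ 0))) := by ring
        _ = lam ^ 4 := by rw [h2', h3]; ring
    rw [hν04, hν]
    rw [Finset.prod_div_distrib, Finset.prod_mul_distrib, Finset.prod_mul_distrib]
    have e1 : ∏ i, μ ((xp a) (σ⁻¹ i)) = ∏ i, μ i := by
      rw [Equiv.prod_comp σ⁻¹ (fun i => μ ((xp a) i)), Equiv.prod_comp (xp a) μ]
    have e2 : ∏ i, μ (σ⁻¹ i) = ∏ i, μ i := Equiv.prod_comp σ⁻¹ μ
    have e3 : ∏ i, (ch b (σ⁻¹ i) : F) = 1 := by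
      rw [Equiv.prod_comp σ⁻¹ (fun i => (ch b i : F)), ch_prod]
    have e4 : ∏ _i : Fin 4, lam = lam ^ 4 := by
      rw [Finset.prod_const, Finset.card_univ, Fintype.card_fin]
    rw [e1, e2, e3, e4, mul_one]
    have hne : ∏ i, μ i ≠ 0 := Finset.prod_ne_zero_iff.2 (fun i _ => hμ i)
    field_simp

/-! ### characteristic three: the character table is unitary of determinant one -/

lemma four_eq_one (h3 : (3 : F) = 0) : (4 : F) = 1 := by linear_combination h3

/-- the character table as an element of `GL`, in characteristic three -/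
noncomputable def kG3 (h3 : (3 : F) = 0) : GL (Fin 4) F where
  val := k
  inv := k
  val_inv := by rw [k_mul_k, four_eq_one h3, one_smul]
  inv_val := by rw [k_mul_k, four_eq_one h3, one_smul]

lemma kG3_val (h3 : (3 : F) = 0) :
    ((kG3 h3 : GL (Fin 4) F) : Matrix (Fin 4) (Fin 4) F) = k := rfl

lemma kG3_det (h3 : (3 : F) = 0) :
    ((kG3 h3 : GL (Fin 4) F) : Matrix (Fin 4) (Fin 4) F).det = 1 := by
  rw [kG3_val, det_k]
  linear_combination 5 * h3

theorem k_normalizes' (h3 : (3 : F) = 0) :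
    kG3 h3 ∈ Subgroup.normalizer ((R : Subgroup (GL (Fin 4) F)) : Set (GL (Fin 4) F)) := by
  rw [Subgroup.mem_normalizer_iff]
  have key : ∀ r : GL (Fin 4) F, r ∈ (R : Subgroup (GL (Fin 4) F)) →
      kG3 h3 * r * (kG3 h3)⁻¹ ∈ (R : Subgroup (GL (Fin 4) F)) := by
    intro r hr
    obtain ⟨lam, a, b, hlam, hrv⟩ := hr
    refine ⟨lam * ch a b, b, a, mul_ne_zero hlam (ch_ne_zero a b), ?_⟩
    have h1 : (k : Matrix (Fin 4) (Fin 4) F) * (X a * Z b) = Z a * X b * k := by
      rw [← Matrix.mul_assoc, k_mul_X, Matrix.mul_assoc, k_mul_Z, ← Matrix.mul_assoc]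
    rw [Units.val_mul, Units.val_mul, kG3_val, hrv, Matrix.mul_smul, h1, Matrix.smul_mul,
      Matrix.mul_assoc, ← kG3_val h3, ← Units.val_mul, mul_inv_cancel, Units.val_one, Matrix.mul_one,
      Z_mul_X, smul_smul]
  have hinv : (kG3 h3 : GL (Fin 4) F)⁻¹ = kG3 h3 := by
    apply Units.ext
    rfl
  intro r
  constructor
  · exact key r
  · intro hr
    have := key _ hr
    rw [hinv] at this hr
    have e : kG3 h3 * (kG3 h3 * r * kG3 h3) * kG3 h3 = r := by
      have hsq : (kG3 h3 : GL (Fin 4) F) * kG3 h3 = 1 := by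
        rw [← hinv]
        nth_rewrite 2 [hinv]
        rw [inv_mul_cancel]
      calc kG3 h3 * (kG3 h3 * r * kG3 h3) * kG3 h3
          = (kG3 h3 * kG3 h3) * r * (kG3 h3 * kG3 h3) := by group
        _ = r := by rw [hsq, one_mul, mul_one]
    rw [e] at this
    exact this

lemma k_transpose : (k : Matrix (Fin 4) (Fin 4) F)ᵀ = k := by
  ext i j
  exact ch_symm j i

lemma k_map_cube : (k : Matrix (Fin 4) (Fin 4) F).map (fun x => x ^ 3) = k := by
  ext i j
  show (ch i j : F) ^ 3 = ch i j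
  have := ch_sq (F := F) i j
  calc (ch i j : F) ^ 3 = (ch i j * ch i j) * ch i j := by ring
    _ = ch i j := by rw [this, one_mul]

lemma kG3_mem_GU [Fintype F] (hF : Fintype.card F = 3 ^ 2) (h3 : (3 : F) = 0) :
    kG3 h3 ∈ Cfsg.GU 4 F 3 := by
  rw [mem_GU_iff_gram hF]
  show (k : Matrix (Fin 4) (Fin 4) F)ᵀ * (k : Matrix (Fin 4) (Fin 4) F).map (fun x => x ^ 3) = 1
  rw [k_transpose, k_map_cube, k_mul_k, four_eq_one h3, one_smul]

/-! ### an element of `SU_4(3)` outside the normaliser -/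

/-- a non-monomial element of `SU_4(3)`: a block of `SU_2(3)` with all entries nonzero -/
def A0 (ω : F) : Matrix (Fin 4) (Fin 4) F :=
  !![ω, ω, 0, 0; -ω ^ 3, ω ^ 3, 0, 0; 0, 0, 1, 0; 0, 0, 0, 1]

lemma A0_gram (h3 : (3 : F) = 0) {ω : F} (hω : ω ^ 4 = -1) :
    (A0 ω)ᵀ * (A0 ω).map (fun x => x ^ 3) = 1 := by
  have h12 : ω ^ 12 = -1 := by
    calc ω ^ 12 = (ω ^ 4) ^ 3 := by ring
      _ = -1 := by rw [hω]; ring
  ext i j
  fin_cases i <;> fin_cases j <;>
    simp [A0, Matrix.mul_apply, Fin.sum_univ_four] <;>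
    ring_nf <;> (try rw [hω]) <;> (try rw [h12]) <;>
    first | ring1 | linear_combination (-1 : F) * h3

lemma A0_det (h3 : (3 : F) = 0) {ω : F} (hω : ω ^ 4 = -1) : (A0 ω).det = 1 := by
  rw [Matrix.det_succ_row_zero]
  simp [Fin.sum_univ_succ, Matrix.det_fin_three, A0, Fin.succAbove, Matrix.submatrix]
  ring_nf
  rw [hω]
  linear_combination (-1 : F) * h3

/-- the element `A0 ω` does not normalise `R` -/
theorem A0_not_normalizes [Fintype F] (h3 : (3 : F) = 0) {ω : F} (hω : ω ^ 4 = -1) {g : GL (Fin 4) F}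
    (hg : (g : Matrix (Fin 4) (Fin 4) F) = A0 ω) :
    g ∉ Subgroup.normalizer ((R : Subgroup (GL (Fin 4) F)) : Set (GL (Fin 4) F)) := by
  intro ht
  have hω0 : ω ≠ 0 := by
    rintro rfl
    norm_num at hω
  have h2 : (2 : F) ≠ 0 := by
    intro h
    apply one_ne_zero (α := F)
    linear_combination h3 - h
  have hmem : g * ZG1 * g⁻¹ ∈ (R : Subgroup (GL (Fin 4) F)) :=
    (Subgroup.mem_normalizer_iff.1 ht ZG1).1 ZG1_mem
  obtain ⟨lam, a, b, hlam, hv⟩ := val_of_mem_R hmem
  have E : (g : Matrix (Fin 4) (Fin 4) F) * Z 1 =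
      mono (xp a) (fun j => lam * ch b j) * (g : Matrix (Fin 4) (Fin 4) F) := by
    rw [← hv, Units.val_mul, Units.val_mul, Matrix.mul_assoc, Matrix.mul_assoc, ← Units.val_mul,
      inv_mul_cancel, Units.val_one, Matrix.mul_one]
    rfl
  rw [hg] at E
  have e1 := congrFun (congrFun E 2) 2
  have e2 := congrFun (congrFun E 0) 0
  have e3 := congrFun (congrFun E 0) 1
  fin_cases a <;> fin_cases b <;>
    simp [Matrix.mul_apply, Fin.sum_univ_four, mono, Z, ch, chz, x4, A0] at e1 e2 e3 <;> grind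


section Nine

open Cfsg.Agent.Lib.Helper98_Decomp Cfsg.Agent.Lib.Helper4_SL4Mono Cfsg.Agent.Lib.Helper97_AschMaxC

variable [Fintype F]

lemma three_eq_zero (hF : Fintype.card F = 3 ^ 2) : (3 : F) = 0 := by
  have := FiniteField.cast_card_eq_zero F
  rw [hF] at this
  have h9 : (3 : F) * 3 = 0 := by
    have : ((3 ^ 2 : ℕ) : F) = 3 * 3 := by norm_num
    rw [← this]
    assumption
  exact mul_self_eq_zero.1 h9

variable {D : Fin 4 → Submodule F (Fin 4 → F)}
  (hD : IsNondegenerateMDecomposition (Cfsg.hermForm 4 F 3) 1 D)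

/-- the norm of the adapted basis vector -/
noncomputable def nrm (j : Fin 4) : F :=
  Cfsg.hermForm 4 F 3 (bv hD.decomp j) (bv hD.decomp j)

omit [Fintype F] in
lemma herm_bv_ne {i j : Fin 4} (hij : i ≠ j) :
    Cfsg.hermForm 4 F 3 (bv hD.decomp i) (bv hD.decomp j) = 0 :=
  hD.orthogonal i j hij _ (bv_mem hD.decomp i) _ (bv_mem hD.decomp j)

omit [Fintype F] in
lemma nrm_ne_zero (j : Fin 4) : nrm hD j ≠ 0 := by
  obtain ⟨⟨x, hx, hne⟩, -⟩ := hD.nondegenerate j _ (bv_mem hD.decomp j) (bv_ne_zero hD.decomp j)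
  intro h0
  apply hne
  rw [eq_smul_of_mem hD.decomp hx, hermForm_smul_left]
  unfold nrm at h0
  rw [h0, mul_zero]

lemma nrm_cube (hF : Fintype.card F = 3 ^ 2) (j : Fin 4) : nrm hD j ^ 3 = nrm hD j :=
  hermForm_pow_q 4 hF _ _

/-- scalars normalising the adapted basis vectors -/
lemma exists_scal (hF : Fintype.card F = 3 ^ 2) :
    ∃ a : Fin 4 → F, ∀ j, a j ^ 4 * nrm hD j = 1 := by
  obtain ⟨ω, hω⟩ := Cfsg.Agent.Lib.Helper13_HermFrames.exists_norm_neg_one hF
  have hω4 : ω ^ 4 = -1 := by rw [← hω]; ring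
  have key : ∀ j, ∃ a : F, a ^ 4 * nrm hD j = 1 := by
    intro j
    have h0 := nrm_ne_zero hD j
    have h3 := nrm_cube hD hF j
    have hsq : nrm hD j ^ 2 = 1 := by
      have : nrm hD j * (nrm hD j ^ 2 - 1) = 0 := by linear_combination h3
      rcases mul_eq_zero.1 this with h | h
      · exact absurd h h0
      · linear_combination h
    have hfac : (nrm hD j - 1) * (nrm hD j + 1) = 0 := by linear_combination hsq
    rcases mul_eq_zero.1 hfac with h | h
    · exact ⟨1, by linear_combination h⟩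
    · exact ⟨ω, by rw [hω4]; linear_combination (-1 : F) * h⟩
  choose a ha using key
  exact ⟨a, ha⟩

/-! ### the orthonormal adapted basis -/

section Transport

variable (a : Fin 4 → F)

/-- the matrix whose columns are the normalised adapted basis vectors -/
noncomputable def Pn : Matrix (Fin 4) (Fin 4) F := fun i j => (a j • bv hD.decomp j) i

omit [Fintype F] in
lemma Pn_single (j : Fin 4) : Pn hD a *ᵥ Pi.single j 1 = a j • bv hD.decomp j := by
  rw [Matrix.mulVec_single_one]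
  rfl

omit [Fintype F] in
lemma Pn_gram (ha : ∀ j, a j ^ 4 * nrm hD j = 1) :
    (Pn hD a)ᵀ * (Pn hD a).map (fun x => x ^ 3) = 1 := by
  ext i j
  rw [Matrix.mul_apply]
  have h1 : ∑ l, (Pn hD a)ᵀ i l * ((Pn hD a).map (fun x => x ^ 3)) l j =
      Cfsg.hermForm 4 F 3 (a i • bv hD.decomp i) (a j • bv hD.decomp j) := by
    unfold Cfsg.hermForm
    rfl
  rw [h1, hermForm_smul_left, hermForm_smul_right, Matrix.one_apply]
  by_cases hij : i = j
  · subst hij
    rw [if_pos rfl]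
    have := ha i
    unfold nrm at this
    linear_combination this
  · rw [if_neg hij, herm_bv_ne hD hij, mul_zero, mul_zero]

/-- the base change to the orthonormal adapted basis, an element of `GU_4(3)` -/
noncomputable def PG (ha : ∀ j, a j ^ 4 * nrm hD j = 1) :
    GL (Fin 4) F :=
  gramGL (Pn hD a) (Pn_gram hD a ha)

lemma PG_val (ha : ∀ j, a j ^ 4 * nrm hD j = 1) :
    ((PG hD a ha : GL (Fin 4) F) : Matrix (Fin 4) (Fin 4) F) = Pn hD a := rfl

lemma PG_mem (hF : Fintype.card F = 3 ^ 2) (ha : ∀ j, a j ^ 4 * nrm hD j = 1) :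
    PG hD a ha ∈ Cfsg.GU 4 F 3 :=
  gramGL_mem hF _ _

omit [Fintype F] in
lemma mono_single (σ : Equiv.Perm (Fin 4)) (c : Fin 4 → F) (j : Fin 4) :
    mono σ c *ᵥ Pi.single j 1 = c j • Pi.single (σ j) 1 := by
  rw [Matrix.mulVec_single_one]
  funext i
  show mono σ c i j = _
  unfold mono
  rw [Pi.smul_apply, Pi.single_apply, smul_eq_mul]
  split_ifs <;> simp

/-- in the orthonormal adapted basis the elements of the stabiliser are monomial matrices -/
lemma conj_eq_mono' (ha : ∀ j, a j ^ 4 * nrm hD j = 1)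
    {g : GL (Fin 4) F} (hg : g ∈ decompositionStabilizer D) :
    ∃ (σ : Equiv.Perm (Fin 4)) (c : Fin 4 → F),
      (((PG hD a ha)⁻¹ * g * PG hD a ha : GL (Fin 4) F) : Matrix (Fin 4) (Fin 4) F) =
        mono σ c := by
  have ha0 : ∀ j, a j ≠ 0 := by
    intro j h0
    have := ha j
    rw [h0] at this
    norm_num at this
  obtain ⟨σ, c, -, hgb, -⟩ := mono_desc hD.decomp hg
  refine ⟨σ, fun j => c j * a j / a (σ j), ?_⟩
  have key : (g : Matrix (Fin 4) (Fin 4) F) * Pn hD a =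
      Pn hD a * mono σ (fun j => c j * a j / a (σ j)) := by
    ext i j
    have e1 : ((g : Matrix (Fin 4) (Fin 4) F) * Pn hD a) i j =
        (((g : Matrix (Fin 4) (Fin 4) F) * Pn hD a) *ᵥ Pi.single j 1) i := by
      rw [Matrix.mulVec_single_one]; rfl
    have e2 : (Pn hD a * mono σ (fun j => c j * a j / a (σ j))) i j =
        ((Pn hD a * mono σ (fun j => c j * a j / a (σ j))) *ᵥ Pi.single j 1) i := by
      rw [Matrix.mulVec_single_one]; rfl
    rw [e1, e2, ← Matrix.mulVec_mulVec, ← Matrix.mulVec_mulVec, Pn_single, mono_single,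
      Matrix.mulVec_smul, Matrix.mulVec_smul, hgb, Pn_single, smul_smul, smul_smul]
    field_simp [ha0 (σ j)]
  rw [Units.val_mul, Units.val_mul, Matrix.mul_assoc, PG_val, key, ← PG_val hD a ha,
    ← Matrix.mul_assoc, ← Units.val_mul, inv_mul_cancel, Units.val_one, Matrix.one_mul]

omit [Fintype F] in
lemma herm_single_self (l : Fin 4) :
    Cfsg.hermForm 4 F 3 (Pi.single l 1) (Pi.single l 1) = 1 := by
  rw [hermForm_single_left, Pi.single_eq_same, one_pow]

omit [Fintype F] in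
/-- a unitary monomial matrix has entries of norm one -/
lemma pow_four_of_mem_GU {h : GL (Fin 4) F} {σ : Equiv.Perm (Fin 4)} {c : Fin 4 → F}
    (hh : (h : Matrix (Fin 4) (Fin 4) F) = mono σ c) (hU : h ∈ Cfsg.GU 4 F 3) (j : Fin 4) :
    c j ^ 4 = 1 := by
  have := (mem_GU_iff h).1 hU (Pi.single j 1) (Pi.single j 1)
  rw [hh, mono_single, hermForm_smul_left, hermForm_smul_right, herm_single_self,
    herm_single_self] at this
  linear_combination this

end Transport

/-! ### the theorem -/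

include hD in
/-- over the field with nine elements the determinant-one unitary part of the stabiliser of a
decomposition of `F^4` into four mutually orthogonal nondegenerate lines is not maximal in
`SU_4(3)` -/
theorem not_maximal_of_q_three (hF : Fintype.card F = 3 ^ 2) :
    ∃ K : Subgroup (GL (Fin 4) F),
      decompositionStabilizer D ⊓ Cfsg.GU 4 F 3 ⊓ specialLinear (Fin 4) F < K ∧
        K < Cfsg.GU 4 F 3 ⊓ specialLinear (Fin 4) F := by
  have h3 := three_eq_zero hF
  have h2 : (2 : F) ≠ 0 := by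
    intro h
    apply one_ne_zero (α := F)
    linear_combination h3 - h
  obtain ⟨a, ha⟩ := exists_scal hD hF
  have ha0 : ∀ j, a j ≠ 0 := by
    intro j h0
    have := ha j
    rw [h0] at this
    norm_num at this
  obtain ⟨ω, hω⟩ := Cfsg.Agent.Lib.Helper13_HermFrames.exists_norm_neg_one hF
  have hω4 : ω ^ 4 = -1 := by rw [← hω]; ring
  set P : GL (Fin 4) F := PG hD a ha with hP
  have hPU : P ∈ Cfsg.GU 4 F 3 := PG_mem hD a hF ha
  set SU : Subgroup (GL (Fin 4) F) := Cfsg.GU 4 F 3 ⊓ specialLinear (Fin 4) F with hSU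
  set N : Subgroup (GL (Fin 4) F) :=
    Subgroup.normalizer ((R : Subgroup (GL (Fin 4) F)) : Set (GL (Fin 4) F)) with hN
  -- conjugation by `P` preserves `SU`
  have hconjSU : ∀ g : GL (Fin 4) F, g ∈ SU → P⁻¹ * g * P ∈ SU := by
    intro g hg
    refine Subgroup.mem_inf.2 ⟨?_, ?_⟩
    · exact mul_mem (mul_mem (inv_mem hPU) (Subgroup.mem_inf.1 hg).1) hPU
    · have := conj_mem_sl P⁻¹ g (Subgroup.mem_inf.1 hg).2
      rwa [inv_inv] at this
  have hconjSU' : ∀ g : GL (Fin 4) F, g ∈ SU → P * g * P⁻¹ ∈ SU := by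
    intro g hg
    refine Subgroup.mem_inf.2 ⟨?_, ?_⟩
    · exact mul_mem (mul_mem hPU (Subgroup.mem_inf.1 hg).1) (inv_mem hPU)
    · exact conj_mem_sl P g (Subgroup.mem_inf.1 hg).2
  set K : Subgroup (GL (Fin 4) F) := (N ⊓ SU).comap (MulAut.conj P⁻¹).toMonoidHom with hK
  have hmemK : ∀ g : GL (Fin 4) F, g ∈ K ↔ (P⁻¹ * g * P ∈ N ∧ P⁻¹ * g * P ∈ SU) := by
    intro g
    rw [hK, Subgroup.mem_comap, Subgroup.mem_inf]
    have : (MulAut.conj P⁻¹).toMonoidHom g = P⁻¹ * g * P := by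
      show P⁻¹ * g * (P⁻¹)⁻¹ = _
      rw [inv_inv]
    rw [this]
  have hback : ∀ g : GL (Fin 4) F, P⁻¹ * (P * g * P⁻¹) * P = g := by
    intro g; group
  have hback' : ∀ g : GL (Fin 4) F, P * (P⁻¹ * g * P) * P⁻¹ = g := by
    intro g; group
  refine ⟨K, ?_, ?_⟩
  · rw [SetLike.lt_iff_le_and_exists]
    refine ⟨?_, ?_⟩
    · intro g hg
      obtain ⟨hg1, hgS⟩ := Subgroup.mem_inf.1 hg
      obtain ⟨hgD, hgU⟩ := Subgroup.mem_inf.1 hg1
      have hgSU : g ∈ SU := Subgroup.mem_inf.2 ⟨hgU, hgS⟩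
      obtain ⟨σ, c, hval⟩ := conj_eq_mono' hD a ha hgD
      have hS := hconjSU g hgSU
      rw [hmemK]
      refine ⟨?_, hS⟩
      exact mono_normalizes' h2 (pow_four_of_mem_GU hval (Subgroup.mem_inf.1 hS).1) hval
        ((mem_sl_iff _).1 (Subgroup.mem_inf.1 hS).2)
    · refine ⟨P * kG3 h3 * P⁻¹, ?_, ?_⟩
      · rw [hmemK, hback]
        exact ⟨k_normalizes' h3,
          Subgroup.mem_inf.2 ⟨kG3_mem_GU hF h3, (mem_sl_iff _).2 (kG3_det h3)⟩⟩
      · intro hmem
        have hv : ((P * kG3 h3 * P⁻¹ : GL (Fin 4) F) : Matrix (Fin 4) (Fin 4) F) *ᵥ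
            (a 0 • bv hD.decomp 0) = ∑ j, a j • bv hD.decomp j := by
          rw [← Pn_single hD a 0, ← PG_val hD a ha, Matrix.mulVec_mulVec, ← Units.val_mul]
          have e : P * kG3 h3 * P⁻¹ * P = P * kG3 h3 := by group
          rw [← hP, e, Units.val_mul, ← Matrix.mulVec_mulVec, kG3_val, Matrix.mulVec_single_one]
          have hcol : (k : Matrix (Fin 4) (Fin 4) F).col 0 = ∑ j, Pi.single j 1 := by
            funext j
            show (ch j 0 : F) = _
            rw [ch_zero_right, Finset.sum_apply, Finset.sum_eq_single j]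
            · rw [Pi.single_eq_same]
            · intro l _ hlj
              rw [Pi.single_eq_of_ne (Ne.symm hlj)]
            · intro h; exact absurd (Finset.mem_univ j) h
          rw [hcol, Matrix.mulVec_sum]
          apply Finset.sum_congr rfl
          intro j _
          rw [hP, PG_val, Pn_single]
        have hco : ∀ i : Fin 4, co hD.decomp i 0 (∑ j, a j • bv hD.decomp j) = a i := by
          intro i
          show cv hD.decomp i (∑ j, a j • bv hD.decomp j) = a i
          rw [map_sum, Finset.sum_eq_single i]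
          · rw [map_smul, cv_bv, if_pos rfl, smul_eq_mul, mul_one]
          · intro j _ hji; rw [map_smul, cv_bv, if_neg hji, smul_zero]
          · intro h; exact absurd (Finset.mem_univ i) h
        refine not_mem_stab hD.decomp (Submodule.smul_mem _ (a 0) (bv_mem hD.decomp 0))
          (i₁ := 1) (i₂ := 2) (j₁ := 0) (j₂ := 0) (by decide) ?_ ?_
          (Subgroup.mem_inf.1 (Subgroup.mem_inf.1 hmem).1).1
        · rw [hv, hco]; exact ha0 1
        · rw [hv, hco]; exact ha0 2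
  · rw [SetLike.lt_iff_le_and_exists]
    refine ⟨?_, ?_⟩
    · intro g hg
      rw [hmemK] at hg
      have := hconjSU' _ hg.2
      rwa [hback'] at this
    · set gA : GL (Fin 4) F := gramGL (A0 ω) (A0_gram h3 hω4) with hgA
      have hgAU : gA ∈ Cfsg.GU 4 F 3 := gramGL_mem hF _ _
      have hgAS : gA ∈ specialLinear (Fin 4) F := (mem_sl_iff _).2 (A0_det h3 hω4)
      refine ⟨P * gA * P⁻¹, hconjSU' _ (Subgroup.mem_inf.2 ⟨hgAU, hgAS⟩), ?_⟩
      intro hmem
      rw [hmemK, hback] at hmem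
      exact A0_not_normalizes h3 hω4 (g := gA) rfl hmem.1

end Nine

end Cfsg.Agent.Lib.Helper4_SU4Three
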