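import Mathlib
import Cfsg.Prelude.Def_GeometricClasses
import Cfsg.Prelude.Def_LieClassical
import Cfsg.Agent.Lib.Helper13_Herm
import Cfsg.Agent.Lib.Helper98_Decomp
import Cfsg.Agent.Lib.Helper4_SL4Planes
import Cfsg.Agent.Lib.Helper94_SubfieldBridge

set_option autoImplicit false

/-!
S5784 package E3: for `q = 2, 3` the determinant-one part of the stabiliser in `GU_4(q)` of a pair
of complementary totally isotropic planes lies in a subfield group of symplectic type.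
-/

namespace Cfsg.Agent.Lib.Helper8_SU4_E3

open Matrix Cfsg.Geo Polynomial
open Cfsg.Agent.Lib.Helper13_Herm Cfsg.Agent.Lib.Helper98_Decomp Cfsg.Agent.Lib.Helper4_SL4Planes
  Cfsg.Agent.Lib.Helper94_SubfieldBridge

variable {F : Type*} [Field F] [Fintype F]

section field

variable {q : ℕ}

theorem q_ne_zero (hF : Fintype.card F = q ^ 2) : q ≠ 0 := by
  have := two_le_q hF
  omega

/-- the fixed field of `x ↦ x ^ q` -/
def fixF (hF : Fintype.card F = q ^ 2) : Subfield F where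
  carrier := {x | x ^ q = x}
  mul_mem' := fun {a b} (ha : a ^ q = a) (hb : b ^ q = b) =>
    show (a * b) ^ q = a * b by rw [mul_pow, ha, hb]
  one_mem' := one_pow q
  add_mem' := fun {a b} (ha : a ^ q = a) (hb : b ^ q = b) =>
    show (a + b) ^ q = a + b by rw [add_pow_q hF, ha, hb]
  zero_mem' := zero_pow (q_ne_zero hF)
  neg_mem' := fun {a} (ha : a ^ q = a) =>
    show (-a) ^ q = -a by rw [neg_pow_q hF, ha]
  inv_mem' := fun a (ha : a ^ q = a) =>
    show (a⁻¹) ^ q = a⁻¹ by rw [inv_pow, ha]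

theorem mem_fixF (hF : Fintype.card F = q ^ 2) (x : F) : x ∈ fixF hF ↔ x ^ q = x := Iff.rfl

theorem exists_not_fixed (hF : Fintype.card F = q ^ 2) : ∃ ω : F, ω ^ q ≠ ω := by
  classical
  by_contra hcon
  have hall : ∀ x : F, x ^ q = x := by
    intro x
    by_contra hx
    exact hcon ⟨x, hx⟩
  have hq1 : 1 < q := two_le_q hF
  have hp0 : (X ^ q - X : F[X]) ≠ 0 := FiniteField.X_pow_card_sub_X_ne_zero F hq1
  have hdeg : (X ^ q - X : F[X]).natDegree = q := FiniteField.X_pow_card_sub_X_natDegree_eq F hq1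
  have hsub : (Finset.univ : Finset F) ⊆ (X ^ q - X : F[X]).roots.toFinset := by
    intro y _
    rw [Multiset.mem_toFinset, mem_roots hp0, IsRoot.def, eval_sub, eval_pow, eval_X, hall y,
      sub_self]
  have h1 : Fintype.card F ≤ q := by
    calc Fintype.card F = (Finset.univ : Finset F).card := Finset.card_univ.symm
      _ ≤ (X ^ q - X : F[X]).roots.toFinset.card := Finset.card_le_card hsub
      _ ≤ Multiset.card (X ^ q - X : F[X]).roots := Multiset.toFinset_card_le _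
      _ ≤ (X ^ q - X : F[X]).natDegree := card_roots' _
      _ = q := hdeg
  rw [hF] at h1
  nlinarith

theorem exists_decomp (hF : Fintype.card F = q ^ 2) {ω : F} (hω : ω ^ q ≠ ω) (x : F) :
    ∃ a b : F, a ^ q = a ∧ b ^ q = b ∧ x = a + b * ω := by
  have hδ : ω - ω ^ q ≠ 0 := sub_ne_zero.2 (Ne.symm hω)
  have hδq : (ω - ω ^ q) ^ q = -(ω - ω ^ q) := by
    rw [sub_pow_q hF, pow_q_pow_q hF]
    ring
  obtain ⟨b, hb⟩ : ∃ b : F, b = (x - x ^ q) / (ω - ω ^ q) := ⟨_, rfl⟩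
  have hbq : b ^ q = b := by
    rw [hb, div_pow, hδq, sub_pow_q hF, pow_q_pow_q hF, div_neg, ← neg_div]
    congr 1
    ring
  have hbδ : b * (ω - ω ^ q) = x - x ^ q := by
    rw [hb, div_mul_cancel₀ _ hδ]
  refine ⟨x - b * ω, b, ?_, hbq, by ring⟩
  rw [sub_pow_q hF, mul_pow, hbq]
  linear_combination hbδ

theorem card_eq_sq (hF : Fintype.card F = q ^ 2) : Fintype.card F = Nat.card (fixF hF) ^ 2 := by
  obtain ⟨ω, hω⟩ := exists_not_fixed hF
  have hbij : Function.Bijective (fun p : fixF hF × fixF hF => (p.1 : F) + (p.2 : F) * ω) := by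
    constructor
    · rintro ⟨a, b⟩ ⟨a', b'⟩ h
      simp only at h
      by_cases hb : b = b'
      · subst hb
        have : (a : F) = a' := by
          linear_combination h
        rw [Subtype.ext this]
      · exfalso
        apply hω
        have hb' : (b : F) - b' ≠ 0 := by
          intro h0
          apply hb
          exact Subtype.ext (sub_eq_zero.1 h0)
        have hω' : ω = ((a' : F) - a) / ((b : F) - b') := by
          rw [eq_div_iff hb']
          linear_combination h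
        have hmem : ω ∈ fixF hF := by
          rw [hω']
          exact (fixF hF).div_mem ((fixF hF).sub_mem a'.2 a.2) ((fixF hF).sub_mem b.2 b'.2)
        exact hmem
    · intro x
      obtain ⟨a, b, ha, hb, hx⟩ := exists_decomp hF hω x
      exact ⟨(⟨a, ha⟩, ⟨b, hb⟩), hx.symm⟩
  rw [← Nat.card_eq_fintype_card, ← Nat.card_congr (Equiv.ofBijective _ hbij), Nat.card_prod, sq]

omit [Fintype F] in
theorem fixed_unit (hq : q = 2 ∨ q = 3) {x : F} (hx : x ^ q = x) (h0 : x ≠ 0) :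
    x = 1 ∨ x = -1 := by
  rcases hq with rfl | rfl
  · left
    have h : x * x = x * 1 := by
      rw [mul_one, ← sq, hx]
    exact mul_left_cancel₀ h0 h
  · have h : x * x ^ 2 = x * 1 := by
      rw [mul_one]
      calc x * x ^ 2 = x ^ 3 := by ring
        _ = x := hx
    have h2 : x ^ 2 = 1 := mul_left_cancel₀ h0 h
    have h3 : (x - 1) * (x + 1) = 0 := by
      linear_combination h2
    rcases mul_eq_zero.1 h3 with h4 | h4
    · left
      exact sub_eq_zero.1 h4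
    · right
      exact eq_neg_of_add_eq_zero_left h4

end field

section planes

variable {q : ℕ} {D : Fin 2 → Submodule F (Fin 4 → F)}

theorem hermForm_neg_right (hF : Fintype.card F = q ^ 2) (u v : Fin 4 → F) :
    Cfsg.hermForm 4 F q u (-v) = -Cfsg.hermForm 4 F q u v := by
  have h := hermForm_smul_right (q := q) 4 (-1 : F) u v
  rw [neg_pow_q hF, one_pow, neg_one_smul, neg_one_mul] at h
  exact h

theorem hermForm_sub_right (hF : Fintype.card F = q ^ 2) (u v w : Fin 4 → F) :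
    Cfsg.hermForm 4 F q u (v - w) = Cfsg.hermForm 4 F q u v - Cfsg.hermForm 4 F q u w := by
  rw [sub_eq_add_neg, hermForm_add_right 4 hF, hermForm_neg_right hF, sub_eq_add_neg]

theorem nondeg (hF : Fintype.card F = q ^ 2) {y : Fin 4 → F}
    (h : ∀ z, Cfsg.hermForm 4 F q z y = 0) : y = 0 := by
  funext i
  have h1 := h (Pi.single i 1)
  rw [hermForm_single_left] at h1
  exact (pow_eq_zero_iff (q_ne_zero hF)).1 h1

omit [Fintype F] in
theorem mem_eq (hD : IsMDecomposition 2 D) (i : Fin 2) {z : Fin 4 → F} (hz : z ∈ D i) :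
    z = co hD i 0 z • bas hD ⟨i, 0⟩ + co hD i 1 z • bas hD ⟨i, 1⟩ := by
  apply ext_co hD
  intro k j
  rw [map_add, map_smul, map_smul, co_bas, co_bas, smul_eq_mul, smul_eq_mul]
  by_cases hk : k = i
  · subst hk
    fin_cases j <;> simp
  · rw [co_of_mem_ne hD hz (Ne.symm hk) j, if_neg (fun h => hk h.1.symm),
      if_neg (fun h => hk h.1.symm)]
    simp

theorem pair_nondeg (hF : Fintype.card F = q ^ 2) (hD : IsMDecomposition 2 D)
    (hts : ∀ i, IsTotallySingularFor (Cfsg.hermForm 4 F q) (D i)) {i j : Fin 2} (hij : i ≠ j)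
    {y : Fin 4 → F} (hy : y ∈ D j) (h : ∀ z ∈ D i, Cfsg.hermForm 4 F q z y = 0) : y = 0 := by
  apply nondeg hF
  intro z
  have hk : ∀ k, Cfsg.hermForm 4 F q (part hD k z) y = 0 := by
    intro k
    by_cases hkj : k = j
    · subst hkj
      exact hts k _ (part_mem hD k z) _ hy
    · have hki : k = i := by
        fin_cases i <;> fin_cases j <;> fin_cases k <;> simp_all
      subst hki
      exact h _ (part_mem hD k z)
  rw [← sum_part hD z, Fin.sum_univ_two, hermForm_add_left, hk 0, hk 1, add_zero]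

theorem eq_of_pair (hF : Fintype.card F = q ^ 2) (hD : IsMDecomposition 2 D)
    (hts : ∀ i, IsTotallySingularFor (Cfsg.hermForm 4 F q) (D i)) {i j : Fin 2} (hij : i ≠ j)
    {y y' : Fin 4 → F} (hy : y ∈ D j) (hy' : y' ∈ D j)
    (h : ∀ z ∈ D i, Cfsg.hermForm 4 F q z y = Cfsg.hermForm 4 F q z y') : y = y' := by
  have h0 : y - y' = 0 := by
    apply pair_nondeg hF hD hts hij ((D j).sub_mem hy hy')
    intro z hz
    rw [hermForm_sub_right hF, h z hz, sub_self]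
  exact sub_eq_zero.1 h0

theorem exists_dual (hF : Fintype.card F = q ^ 2) (hD : IsMDecomposition 2 D)
    (hts : ∀ i, IsTotallySingularFor (Cfsg.hermForm 4 F q) (D i)) (c0 c1 : F) :
    ∃ t ∈ D 1, Cfsg.hermForm 4 F q (bas hD ⟨0, 0⟩) t = c0 ∧
      Cfsg.hermForm 4 F q (bas hD ⟨0, 1⟩) t = c1 := by
  let L : D 1 →ₗ[F] (Fin 2 → F) :=
    { toFun := fun t => fun j => Cfsg.hermForm 4 F q (t : Fin 4 → F) (bas hD ⟨0, j⟩)
      map_add' := by
        intro a b
        funext j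
        simp only [Submodule.coe_add, Pi.add_apply]
        rw [hermForm_add_left]
      map_smul' := by
        intro a b
        funext j
        simp only [Submodule.coe_smul, Pi.smul_apply, RingHom.id_apply, smul_eq_mul]
        rw [hermForm_smul_left] }
  have hL : ∀ (t : D 1) (j : Fin 2),
      L t j = Cfsg.hermForm 4 F q (t : Fin 4 → F) (bas hD ⟨0, j⟩) := fun _ _ => rfl
  have hinj : Function.Injective L := by
    rw [← LinearMap.ker_eq_bot, LinearMap.ker_eq_bot']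
    intro t ht
    have h0 : Cfsg.hermForm 4 F q (t : Fin 4 → F) (bas hD ⟨0, 0⟩) = 0 := by
      rw [← hL, ht]; rfl
    have h1 : Cfsg.hermForm 4 F q (t : Fin 4 → F) (bas hD ⟨0, 1⟩) = 0 := by
      rw [← hL, ht]; rfl
    have h2 : (t : Fin 4 → F) = 0 := by
      apply pair_nondeg hF hD hts (i := 0) (j := 1) (by decide) t.2
      intro z hz
      rw [mem_eq hD 0 hz, hermForm_add_left, hermForm_smul_left, hermForm_smul_left,
        ← hermForm_pow_q 4 hF (t : Fin 4 → F), ← hermForm_pow_q 4 hF (t : Fin 4 → F), h0, h1,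
        zero_pow (q_ne_zero hF), mul_zero, mul_zero, add_zero]
    exact Subtype.ext h2
  have hsurj : Function.Surjective L := by
    refine (LinearMap.injective_iff_surjective_of_finrank_eq_finrank ?_).1 hinj
    rw [hD.finrank_eq 1]
    simp
  obtain ⟨t, ht⟩ := hsurj ![c0 ^ q, c1 ^ q]
  refine ⟨t, t.2, ?_, ?_⟩
  · rw [← hermForm_pow_q 4 hF, ← hL, ht]
    exact pow_q_pow_q hF c0
  · rw [← hermForm_pow_q 4 hF, ← hL, ht]
    exact pow_q_pow_q hF c1

/-- a dual frame of `D 1` against the basis of `D 0` -/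
structure Frame (hD : IsMDecomposition 2 D) (q : ℕ) where
  t0 : Fin 4 → F
  t1 : Fin 4 → F
  mem0 : t0 ∈ D 1
  mem1 : t1 ∈ D 1
  h00 : Cfsg.hermForm 4 F q (bas hD ⟨0, 0⟩) t0 = 0
  h10 : Cfsg.hermForm 4 F q (bas hD ⟨0, 1⟩) t0 = -1
  h01 : Cfsg.hermForm 4 F q (bas hD ⟨0, 0⟩) t1 = 1
  h11 : Cfsg.hermForm 4 F q (bas hD ⟨0, 1⟩) t1 = 0

theorem exists_frame (hF : Fintype.card F = q ^ 2) (hD : IsMDecomposition 2 D)
    (hts : ∀ i, IsTotallySingularFor (Cfsg.hermForm 4 F q) (D i)) : Nonempty (Frame hD q) := by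
  obtain ⟨t0, m0, h00, h10⟩ := exists_dual hF hD hts 0 (-1)
  obtain ⟨t1, m1, h01, h11⟩ := exists_dual hF hD hts 1 0
  exact ⟨⟨t0, t1, m0, m1, h00, h10, h01, h11⟩⟩

end planes

section tau

variable {q : ℕ} {D : Fin 2 → Submodule F (Fin 4 → F)} {hD : IsMDecomposition 2 D}

/-- the semilinear map `D 0 → D 1` attached to the frame -/
noncomputable def tau (S : Frame hD q) (v : Fin 4 → F) : Fin 4 → F :=
  (co hD 0 0 v) ^ q • S.t0 + (co hD 0 1 v) ^ q • S.t1

omit [Fintype F] in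
theorem tau_mem (S : Frame hD q) (v : Fin 4 → F) : tau S v ∈ D 1 :=
  (D 1).add_mem ((D 1).smul_mem _ S.mem0) ((D 1).smul_mem _ S.mem1)

theorem tau_add (hF : Fintype.card F = q ^ 2) (S : Frame hD q) (v v' : Fin 4 → F) :
    tau S (v + v') = tau S v + tau S v' := by
  unfold tau
  rw [map_add, map_add, add_pow_q hF, add_pow_q hF, add_smul, add_smul]
  abel

omit [Fintype F] in
theorem tau_smul (S : Frame hD q) (c : F) (v : Fin 4 → F) : tau S (c • v) = c ^ q • tau S v := by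
  unfold tau
  rw [map_smul, map_smul, smul_eq_mul, smul_eq_mul, mul_pow, mul_pow, smul_add, smul_smul,
    smul_smul]

theorem tau_neg (hF : Fintype.card F = q ^ 2) (S : Frame hD q) (v : Fin 4 → F) :
    tau S (-v) = -tau S v := by
  have h := tau_smul S (-1 : F) v
  rw [neg_pow_q hF, one_pow, neg_one_smul, neg_one_smul] at h
  exact h

omit [Fintype F] in
theorem co0_tau (S : Frame hD q) (v : Fin 4 → F) (j : Fin 2) : co hD 0 j (tau S v) = 0 :=
  co_of_mem_ne hD (tau_mem S v) (by decide) j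

omit [Fintype F] in
theorem co1_tau (S : Frame hD q) (v : Fin 4 → F) (j : Fin 2) :
    co hD 1 j (tau S v) =
      (co hD 0 0 v) ^ q * co hD 1 j S.t0 + (co hD 0 1 v) ^ q * co hD 1 j S.t1 := by
  unfold tau
  rw [map_add, map_smul, map_smul, smul_eq_mul, smul_eq_mul]

theorem tau_e0 (hF : Fintype.card F = q ^ 2) (S : Frame hD q) : tau S (bas hD ⟨0, 0⟩) = S.t0 := by
  unfold tau
  rw [co_bas, co_bas, if_pos ⟨rfl, rfl⟩, if_neg (by simp), one_pow, zero_pow (q_ne_zero hF),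
    one_smul, zero_smul, add_zero]

theorem tau_e1 (hF : Fintype.card F = q ^ 2) (S : Frame hD q) : tau S (bas hD ⟨0, 1⟩) = S.t1 := by
  unfold tau
  rw [co_bas, co_bas, if_neg (by simp), if_pos ⟨rfl, rfl⟩, one_pow, zero_pow (q_ne_zero hF),
    one_smul, zero_smul, zero_add]

omit [Fintype F] in
theorem hf_bas (S : Frame hD q) {z : Fin 4 → F} (hz : z ∈ D 0) :
    Cfsg.hermForm 4 F q z S.t0 = -co hD 0 1 z ∧ Cfsg.hermForm 4 F q z S.t1 = co hD 0 0 z := by
  constructor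
  · conv_lhs => rw [mem_eq hD 0 hz]
    rw [hermForm_add_left, hermForm_smul_left, hermForm_smul_left, S.h00, S.h10]
    ring
  · conv_lhs => rw [mem_eq hD 0 hz]
    rw [hermForm_add_left, hermForm_smul_left, hermForm_smul_left, S.h01, S.h11]
    ring

theorem hf_tau (hF : Fintype.card F = q ^ 2) (S : Frame hD q) {z : Fin 4 → F} (hz : z ∈ D 0)
    (v : Fin 4 → F) : Cfsg.hermForm 4 F q z (tau S v) = br hD 0 z v := by
  unfold tau br
  rw [hermForm_add_right 4 hF, hermForm_smul_right, hermForm_smul_right, pow_q_pow_q hF,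
    pow_q_pow_q hF, (hf_bas S hz).1, (hf_bas S hz).2]
  ring

theorem hf_tau' (hF : Fintype.card F = q ^ 2) (S : Frame hD q) {z : Fin 4 → F} (hz : z ∈ D 0)
    (v : Fin 4 → F) : Cfsg.hermForm 4 F q (tau S v) z = (br hD 0 z v) ^ q := by
  rw [← hermForm_pow_q 4 hF z (tau S v), hf_tau hF S hz]

/-- the vectors of the rational structure -/
noncomputable def Wm (S : Frame hD q) (v : Fin 4 → F) : Fin 4 → F := v + tau S v

theorem hf_W (hF : Fintype.card F = q ^ 2)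
    (hts : ∀ i, IsTotallySingularFor (Cfsg.hermForm 4 F q) (D i)) (S : Frame hD q)
    {u u' : Fin 4 → F} (hu : u ∈ D 0) (hu' : u' ∈ D 0) :
    Cfsg.hermForm 4 F q (Wm S u) (Wm S u') = br hD 0 u u' - (br hD 0 u u') ^ q := by
  unfold Wm
  rw [hermForm_add_left, hermForm_add_right 4 hF, hermForm_add_right 4 hF, hts 0 u hu u' hu',
    hts 1 _ (tau_mem S u) _ (tau_mem S u'), hf_tau hF S hu, hf_tau' hF S hu', br_skew hD 0 u' u,
    neg_pow_q hF]
  ring

/-- the vectors of the rational structure, in coordinates -/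
noncomputable def Wv (S : Frame hD q) (x y : F) : Fin 4 → F :=
  x • bas hD ⟨0, 0⟩ + y • bas hD ⟨0, 1⟩ + (x ^ q • S.t0 + y ^ q • S.t1)

omit [Fintype F] in
theorem ev_mem (hD : IsMDecomposition 2 D) (x y : F) :
    x • bas hD ⟨0, 0⟩ + y • bas hD ⟨0, 1⟩ ∈ D 0 :=
  (D 0).add_mem ((D 0).smul_mem _ (bas_mem hD 0 0)) ((D 0).smul_mem _ (bas_mem hD 0 1))

omit [Fintype F] in
theorem co_ev0 (hD : IsMDecomposition 2 D) (x y : F) :
    co hD 0 0 (x • bas hD ⟨0, 0⟩ + y • bas hD ⟨0, 1⟩) = x := by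
  rw [map_add, map_smul, map_smul, co_bas, co_bas, if_pos ⟨rfl, rfl⟩, if_neg (by simp)]
  simp

omit [Fintype F] in
theorem co_ev1 (hD : IsMDecomposition 2 D) (x y : F) :
    co hD 0 1 (x • bas hD ⟨0, 0⟩ + y • bas hD ⟨0, 1⟩) = y := by
  rw [map_add, map_smul, map_smul, co_bas, co_bas, if_neg (by simp), if_pos ⟨rfl, rfl⟩]
  simp

omit [Fintype F] in
theorem Wm_ev (S : Frame hD q) (x y : F) :
    Wm S (x • bas hD ⟨0, 0⟩ + y • bas hD ⟨0, 1⟩) = Wv S x y := by
  unfold Wm Wv tau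
  rw [co_ev0, co_ev1]

omit [Fintype F] in
theorem Wm_eq_Wv (S : Frame hD q) {z : Fin 4 → F} (hz : z ∈ D 0) :
    Wm S z = Wv S (co hD 0 0 z) (co hD 0 1 z) := by
  have h := Wm_ev S (co hD 0 0 z) (co hD 0 1 z)
  rw [← mem_eq hD 0 hz] at h
  exact h

/-- the change of basis -/
noncomputable def Pm (S : Frame hD q) (ω : F) : Matrix (Fin 4) (Fin 4) F :=
  Matrix.of (fun i j => (![Wv S 1 0, Wv S ω 0, Wv S 0 1, Wv S 0 ω] : Fin 4 → Fin 4 → F) j i)

omit [Fintype F] in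
theorem Pm_mulVec (S : Frame hD q) (ω : F) (u : Fin 4 → F) :
    Pm S ω *ᵥ u = u 0 • Wv S 1 0 + u 1 • Wv S ω 0 + u 2 • Wv S 0 1 + u 3 • Wv S 0 ω := by
  funext i
  simp [Pm, Matrix.mulVec, dotProduct, Fin.sum_univ_four, mul_comm]

theorem Pm_mulVec' (hF : Fintype.card F = q ^ 2) (S : Frame hD q) (ω : F) (u : Fin 4 → F) :
    Pm S ω *ᵥ u = (u 0 + u 1 * ω) • bas hD ⟨0, 0⟩ + (u 2 + u 3 * ω) • bas hD ⟨0, 1⟩ +
      ((u 0 + u 1 * ω ^ q) • S.t0 + (u 2 + u 3 * ω ^ q) • S.t1) := by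
  rw [Pm_mulVec]
  unfold Wv
  rw [one_pow, zero_pow (q_ne_zero hF)]
  module

theorem Pm_rat (hF : Fintype.card F = q ^ 2) (S : Frame hD q) (ω : F) {u : Fin 4 → F}
    (hu : ∀ i, u i ^ q = u i) : Pm S ω *ᵥ u = Wv S (u 0 + u 1 * ω) (u 2 + u 3 * ω) := by
  rw [Pm_mulVec' hF]
  unfold Wv
  rw [add_pow_q hF, add_pow_q hF, mul_pow, mul_pow, hu 0, hu 1, hu 2, hu 3]

theorem lin_indep (hF : Fintype.card F = q ^ 2) (S : Frame hD q) {x y : F}
    (h : x • S.t0 + y • S.t1 = 0) : x = 0 ∧ y = 0 := by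
  have h0 : Cfsg.hermForm 4 F q (bas hD ⟨0, 0⟩) (x • S.t0 + y • S.t1) = y ^ q := by
    rw [hermForm_add_right 4 hF, hermForm_smul_right, hermForm_smul_right, S.h00, S.h01]
    ring
  have h1 : Cfsg.hermForm 4 F q (bas hD ⟨0, 1⟩) (x • S.t0 + y • S.t1) = -x ^ q := by
    rw [hermForm_add_right 4 hF, hermForm_smul_right, hermForm_smul_right, S.h10, S.h11]
    ring
  rw [h, hermForm_zero_right 4 (q_ne_zero hF)] at h0 h1
  constructor
  · exact (pow_eq_zero_iff (q_ne_zero hF)).1 (neg_eq_zero.1 h1.symm)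
  · exact (pow_eq_zero_iff (q_ne_zero hF)).1 h0.symm

theorem Pm_inj (hF : Fintype.card F = q ^ 2) (S : Frame hD q) {ω : F} (hω : ω ^ q ≠ ω) :
    Function.Injective (Pm S ω).mulVec := by
  have hker : ∀ u : Fin 4 → F, Pm S ω *ᵥ u = 0 → u = 0 := by
    intro u h
    rw [Pm_mulVec' hF] at h
    have hA0 := congrArg (co hD 0 0) h
    have hA1 := congrArg (co hD 0 1) h
    rw [map_add, co_ev0, map_add, map_smul, map_smul,
      co_of_mem_ne hD S.mem0 (by decide), co_of_mem_ne hD S.mem1 (by decide), map_zero, smul_zero,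
      smul_zero, add_zero, add_zero] at hA0
    rw [map_add, co_ev1, map_add, map_smul, map_smul,
      co_of_mem_ne hD S.mem0 (by decide), co_of_mem_ne hD S.mem1 (by decide), map_zero, smul_zero,
      smul_zero, add_zero, add_zero] at hA1
    rw [hA0, hA1, zero_smul, zero_smul, add_zero, zero_add] at h
    obtain ⟨hB0, hB1⟩ := lin_indep hF S h
    have hδ : ω - ω ^ q ≠ 0 := sub_ne_zero.2 (Ne.symm hω)
    have h1 : u 1 = 0 := by
      have : u 1 * (ω - ω ^ q) = 0 := by linear_combination hA0 - hB0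
      exact (mul_eq_zero.1 this).resolve_right hδ
    have h3 : u 3 = 0 := by
      have : u 3 * (ω - ω ^ q) = 0 := by linear_combination hA1 - hB1
      exact (mul_eq_zero.1 this).resolve_right hδ
    have h0 : u 0 = 0 := by
      rw [h1] at hA0
      linear_combination hA0
    have h2 : u 2 = 0 := by
      rw [h3] at hA1
      linear_combination hA1
    funext i
    fin_cases i
    · exact h0
    · exact h1
    · exact h2
    · exact h3
  intro u v huv
  have h := hker (u - v) (by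
    rw [Matrix.mulVec_sub]
    exact sub_eq_zero.2 huv)
  exact sub_eq_zero.1 h

end tau

section kappa

variable {q : ℕ} {D : Fin 2 → Submodule F (Fin 4 → F)} {hD : IsMDecomposition 2 D}

/-- the determinant of the dual frame -/
noncomputable def kap (S : Frame hD q) : F := br hD 1 S.t0 S.t1

omit [Fintype F] in
theorem br_smul_smul (hD : IsMDecomposition 2 D) (i : Fin 2) (c c' : F) (x y : Fin 4 → F) :
    br hD i (c • x) (c' • y) = c * c' * br hD i x y := by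
  unfold br
  rw [map_smul, map_smul, map_smul, map_smul, smul_eq_mul, smul_eq_mul, smul_eq_mul, smul_eq_mul]
  ring

omit [Fintype F] in
theorem br_neg_neg (hD : IsMDecomposition 2 D) (i : Fin 2) (x y : Fin 4 → F) :
    br hD i (-x) (-y) = br hD i x y := by
  unfold br
  rw [map_neg, map_neg, map_neg, map_neg]
  ring

theorem br_tau (hF : Fintype.card F = q ^ 2) (S : Frame hD q) (v v' : Fin 4 → F) :
    br hD 1 (tau S v) (tau S v') = kap S * (br hD 0 v v') ^ q := by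
  unfold kap
  unfold br
  rw [co1_tau, co1_tau, co1_tau, co1_tau, sub_pow_q hF, mul_pow, mul_pow]
  ring

omit [Fintype F] in
theorem eq_zero_of_co1 (hD : IsMDecomposition 2 D) {y : Fin 4 → F} (hy : y ∈ D 1)
    (h0 : co hD 1 0 y = 0) (h1 : co hD 1 1 y = 0) : y = 0 := by
  rw [mem_eq hD 1 hy, h0, h1, zero_smul, zero_smul, add_zero]

theorem kap_ne_zero (hF : Fintype.card F = q ^ 2) (S : Frame hD q) : kap S ≠ 0 := by
  intro hk
  unfold kap br at hk
  have hv1 : co hD 1 1 S.t1 • S.t0 + (-co hD 1 1 S.t0) • S.t1 = 0 := by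
    apply eq_zero_of_co1 hD ((D 1).add_mem ((D 1).smul_mem _ S.mem0) ((D 1).smul_mem _ S.mem1))
    · rw [map_add, map_smul, map_smul, smul_eq_mul, smul_eq_mul]
      linear_combination hk
    · rw [map_add, map_smul, map_smul, smul_eq_mul, smul_eq_mul]
      ring
  have hv0 : co hD 1 0 S.t1 • S.t0 + (-co hD 1 0 S.t0) • S.t1 = 0 := by
    apply eq_zero_of_co1 hD ((D 1).add_mem ((D 1).smul_mem _ S.mem0) ((D 1).smul_mem _ S.mem1))
    · rw [map_add, map_smul, map_smul, smul_eq_mul, smul_eq_mul]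
      ring
    · rw [map_add, map_smul, map_smul, smul_eq_mul, smul_eq_mul]
      linear_combination (-1 : F) * hk
  have ha1 : co hD 1 1 S.t0 = 0 := neg_eq_zero.1 (lin_indep hF S hv1).2
  have ha0 : co hD 1 0 S.t0 = 0 := neg_eq_zero.1 (lin_indep hF S hv0).2
  have ht0 : S.t0 = 0 := eq_zero_of_co1 hD S.mem0 ha0 ha1
  have h := S.h10
  rw [ht0, hermForm_zero_right 4 (q_ne_zero hF)] at h
  exact one_ne_zero (neg_eq_zero.1 h.symm)

omit [Fintype F] in
theorem cramer (S : Frame hD q) {y : Fin 4 → F} (hy : y ∈ D 1) :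
    kap S • y = br hD 1 y S.t1 • S.t0 + br hD 1 S.t0 y • S.t1 := by
  apply ext_co hD
  intro k j
  rw [map_smul, map_add, map_smul, map_smul, smul_eq_mul, smul_eq_mul, smul_eq_mul]
  by_cases hk : k = 1
  · subst hk
    unfold kap br
    revert j
    rw [Fin.forall_fin_two]
    constructor
    · ring
    · ring
  · rw [co_of_mem_ne hD hy (Ne.symm hk), co_of_mem_ne hD S.mem0 (Ne.symm hk),
      co_of_mem_ne hD S.mem1 (Ne.symm hk)]
    ring

theorem hf_D1 (hF : Fintype.card F = q ^ 2) (S : Frame hD q) {y u : Fin 4 → F} (hy : y ∈ D 1)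
    (hu : u ∈ D 0) : kap S * Cfsg.hermForm 4 F q y u = -br hD 1 y (tau S u) := by
  rw [← hermForm_smul_left, cramer S hy, hermForm_add_left, hermForm_smul_left,
    hermForm_smul_left, ← hermForm_pow_q 4 hF u S.t0, ← hermForm_pow_q 4 hF u S.t1,
    (hf_bas S hu).1, (hf_bas S hu).2, neg_pow_q hF]
  unfold br
  rw [co1_tau, co1_tau]
  ring

end kappa

section stab

variable {q : ℕ} {D : Fin 2 → Submodule F (Fin 4 → F)} {hD : IsMDecomposition 2 D}
  {g : GL (Fin 4) F} {σ : Equiv.Perm (Fin 2)}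

omit [Fintype F] in
theorem exists_preimage
    (hσ : ∀ i, (D i).map (Matrix.toLin' (g : Matrix (Fin 4) (Fin 4) F)) = D (σ i)) {i : Fin 2}
    {z : Fin 4 → F} (hz : z ∈ D (σ i)) :
    ∃ z' ∈ D i, (g : Matrix (Fin 4) (Fin 4) F) *ᵥ z' = z := by
  rw [← hσ i] at hz
  obtain ⟨z', hz', rfl⟩ := hz
  exact ⟨z', hz', by rw [Matrix.toLin'_apply]⟩

omit [Fintype F] in
theorem br_e0_e1 (hD : IsMDecomposition 2 D) : br hD 0 (bas hD ⟨0, 0⟩) (bas hD ⟨0, 1⟩) = 1 := by
  rw [br_bas_right_one, co_bas, if_pos ⟨rfl, rfl⟩]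

theorem claimA (hF : Fintype.card F = q ^ 2)
    (hts : ∀ i, IsTotallySingularFor (Cfsg.hermForm 4 F q) (D i)) (S : Frame hD q)
    (hσ : ∀ i, (D i).map (Matrix.toLin' (g : Matrix (Fin 4) (Fin 4) F)) = D (σ i))
    (hGU : ∀ u v, Cfsg.hermForm 4 F q ((g : Matrix (Fin 4) (Fin 4) F) *ᵥ u)
      ((g : Matrix (Fin 4) (Fin 4) F) *ᵥ v) = Cfsg.hermForm 4 F q u v)
    (h0 : σ 0 = 0) (h1 : σ 1 = 1) (u : Fin 4 → F) :
    (dd hD g σ 0) ^ q • ((g : Matrix (Fin 4) (Fin 4) F) *ᵥ tau S u) =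
      tau S ((g : Matrix (Fin 4) (Fin 4) F) *ᵥ u) := by
  have hgt : (g : Matrix (Fin 4) (Fin 4) F) *ᵥ tau S u ∈ D 1 := by
    have := stab_mulVec_mem hσ (tau_mem S u)
    rwa [h1] at this
  apply eq_of_pair hF hD hts (i := 0) (j := 1) (by decide) ((D 1).smul_mem _ hgt) (tau_mem S _)
  intro z hz
  have hz' : z ∈ D (σ 0) := by rw [h0]; exact hz
  obtain ⟨z', hz'm, rfl⟩ := exists_preimage hσ hz'
  rw [hermForm_smul_right, pow_q_pow_q hF, hGU, hf_tau hF S hz'm, hf_tau hF S hz]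
  have hbr := br_mulVec hD hσ 0 z' u
  rw [h0] at hbr
  rw [hbr]

theorem claimA_dd (hF : Fintype.card F = q ^ 2)
    (hts : ∀ i, IsTotallySingularFor (Cfsg.hermForm 4 F q) (D i)) (S : Frame hD q)
    (hσ : ∀ i, (D i).map (Matrix.toLin' (g : Matrix (Fin 4) (Fin 4) F)) = D (σ i))
    (hGU : ∀ u v, Cfsg.hermForm 4 F q ((g : Matrix (Fin 4) (Fin 4) F) *ᵥ u)
      ((g : Matrix (Fin 4) (Fin 4) F) *ᵥ v) = Cfsg.hermForm 4 F q u v)
    (h0 : σ 0 = 0) (h1 : σ 1 = 1) : (dd hD g σ 0) ^ q * dd hD g σ 1 = 1 := by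
  have hb := br_mulVec hD hσ 1 S.t0 S.t1
  rw [h1] at hb
  have hA0 := claimA hF hts S hσ hGU h0 h1 (bas hD ⟨0, 0⟩)
  have hA1 := claimA hF hts S hσ hGU h0 h1 (bas hD ⟨0, 1⟩)
  rw [tau_e0 hF] at hA0
  rw [tau_e1 hF] at hA1
  have h2 : br hD 1 (tau S ((g : Matrix (Fin 4) (Fin 4) F) *ᵥ bas hD ⟨0, 0⟩))
      (tau S ((g : Matrix (Fin 4) (Fin 4) F) *ᵥ bas hD ⟨0, 1⟩)) = kap S * (dd hD g σ 0) ^ q := by
    rw [br_tau hF]
    have hb0 := br_mulVec hD hσ 0 (bas hD ⟨0, 0⟩) (bas hD ⟨0, 1⟩)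
    rw [h0] at hb0
    rw [hb0, br_e0_e1, mul_one]
  rw [← hA0, ← hA1, br_smul_smul, hb] at h2
  have hk := kap_ne_zero hF S
  have hd : (dd hD g σ 0) ^ q ≠ 0 := pow_ne_zero _ (dd_ne_zero hD hσ 0)
  apply mul_left_cancel₀ (mul_ne_zero hk hd)
  unfold kap at *
  linear_combination h2

theorem claimB (hF : Fintype.card F = q ^ 2)
    (hts : ∀ i, IsTotallySingularFor (Cfsg.hermForm 4 F q) (D i)) (S : Frame hD q)
    (hσ : ∀ i, (D i).map (Matrix.toLin' (g : Matrix (Fin 4) (Fin 4) F)) = D (σ i))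
    (hGU : ∀ u v, Cfsg.hermForm 4 F q ((g : Matrix (Fin 4) (Fin 4) F) *ᵥ u)
      ((g : Matrix (Fin 4) (Fin 4) F) *ᵥ v) = Cfsg.hermForm 4 F q u v)
    (h0 : σ 0 = 1) (h1 : σ 1 = 0) {u : Fin 4 → F} (hu : u ∈ D 0) :
    (kap S * dd hD g σ 1) ^ q • ((g : Matrix (Fin 4) (Fin 4) F) *ᵥ u) =
      -tau S ((g : Matrix (Fin 4) (Fin 4) F) *ᵥ tau S u) := by
  have hgu : (g : Matrix (Fin 4) (Fin 4) F) *ᵥ u ∈ D 1 := by
    have := stab_mulVec_mem hσ hu
    rwa [h0] at this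
  apply eq_of_pair hF hD hts (i := 0) (j := 1) (by decide) ((D 1).smul_mem _ hgu)
    ((D 1).neg_mem (tau_mem S _))
  intro z hz
  have hz' : z ∈ D (σ 1) := by rw [h1]; exact hz
  obtain ⟨y, hy, rfl⟩ := exists_preimage hσ hz'
  rw [hermForm_smul_right, pow_q_pow_q hF, hGU, hermForm_neg_right hF, hf_tau hF S hz]
  have hbr := br_mulVec hD hσ 1 y (tau S u)
  rw [h1] at hbr
  rw [hbr, mul_comm (kap S), mul_assoc, hf_D1 hF S hy hu]
  ring

theorem claimB_dd (hF : Fintype.card F = q ^ 2)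
    (hts : ∀ i, IsTotallySingularFor (Cfsg.hermForm 4 F q) (D i)) (S : Frame hD q)
    (hσ : ∀ i, (D i).map (Matrix.toLin' (g : Matrix (Fin 4) (Fin 4) F)) = D (σ i))
    (hGU : ∀ u v, Cfsg.hermForm 4 F q ((g : Matrix (Fin 4) (Fin 4) F) *ᵥ u)
      ((g : Matrix (Fin 4) (Fin 4) F) *ᵥ v) = Cfsg.hermForm 4 F q u v)
    (h0 : σ 0 = 1) (h1 : σ 1 = 0) :
    (kap S * dd hD g σ 1) ^ q * dd hD g σ 0 = kap S := by
  have hb0 := br_mulVec hD hσ 0 (bas hD ⟨0, 0⟩) (bas hD ⟨0, 1⟩)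
  rw [h0, br_e0_e1, mul_one] at hb0
  have hb1 := br_mulVec hD hσ 1 S.t0 S.t1
  rw [h1] at hb1
  have hB0 := claimB hF hts S hσ hGU h0 h1 (bas_mem hD 0 0)
  have hB1 := claimB hF hts S hσ hGU h0 h1 (bas_mem hD 0 1)
  rw [tau_e0 hF] at hB0
  rw [tau_e1 hF] at hB1
  have h2 : br hD 1 (-tau S ((g : Matrix (Fin 4) (Fin 4) F) *ᵥ S.t0))
      (-tau S ((g : Matrix (Fin 4) (Fin 4) F) *ᵥ S.t1)) =
      kap S * (kap S * dd hD g σ 1) ^ q := by
    rw [br_neg_neg, br_tau hF, hb1, mul_comm (dd hD g σ 1)]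
    rfl
  rw [← hB0, ← hB1, br_smul_smul, hb0] at h2
  have hE : (kap S * dd hD g σ 1) ^ q ≠ 0 :=
    pow_ne_zero _ (mul_ne_zero (kap_ne_zero hF S) (dd_ne_zero hD hσ 1))
  apply mul_left_cancel₀ hE
  linear_combination h2

omit [Fintype F] in
theorem scale_W (S : Frame hD q) (u₁ : Fin 4 → F) {μ c : F} (hμ : μ ≠ 0) (hc : c * μ ^ q = μ) :
    u₁ + c • tau S u₁ = μ • Wm S (μ⁻¹ • u₁) := by
  unfold Wm
  rw [tau_smul, smul_add, smul_smul, smul_smul, mul_inv_cancel₀ hμ, one_smul, inv_pow]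
  have hμq : μ ^ q ≠ 0 := pow_ne_zero _ hμ
  have hcc : c = μ * (μ ^ q)⁻¹ := by
    rw [eq_mul_inv_iff_mul_eq₀ hμq]
    exact hc
  rw [← hcc]

theorem stab_main (hF : Fintype.card F = q ^ 2) (hq : q = 2 ∨ q = 3)
    (hts : ∀ i, IsTotallySingularFor (Cfsg.hermForm 4 F q) (D i)) (S : Frame hD q)
    (hσ : ∀ i, (D i).map (Matrix.toLin' (g : Matrix (Fin 4) (Fin 4) F)) = D (σ i))
    (hGU : ∀ u v, Cfsg.hermForm 4 F q ((g : Matrix (Fin 4) (Fin 4) F) *ᵥ u)
      ((g : Matrix (Fin 4) (Fin 4) F) *ᵥ v) = Cfsg.hermForm 4 F q u v)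
    (hdet : (g : Matrix (Fin 4) (Fin 4) F).det = 1) :
    ∃ c : F, (c = 1 ∨ c = -1) ∧ ∀ u ∈ D 0, ∃ u₁ ∈ D 0,
      (g : Matrix (Fin 4) (Fin 4) F) *ᵥ Wm S u = u₁ + c • tau S u₁ := by
  have hdd : dd hD g σ 0 * dd hD g σ 1 = 1 := by
    rw [← hdet, det_eq_prod_dd hD hσ, Fin.prod_univ_two]
  have h2 : ∀ k : Fin 2, k = 0 ∨ k = 1 := by decide
  have hd0 := dd_ne_zero hD hσ 0
  have hd1 := dd_ne_zero hD hσ 1
  rcases h2 (σ 0) with h0 | h0
  · have h1 : σ 1 = 1 := by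
      rcases h2 (σ 1) with h1 | h1
      · exfalso
        have := σ.injective (h1.trans h0.symm)
        exact absurd this (by decide)
      · exact h1
    have hA := claimA_dd hF hts S hσ hGU h0 h1
    have hfix : (dd hD g σ 0) ^ q = dd hD g σ 0 := by
      apply mul_right_cancel₀ hd1
      rw [hA, hdd]
    have hpm := fixed_unit hq hfix hd0
    refine ⟨(dd hD g σ 0)⁻¹, ?_, ?_⟩
    · rcases hpm with h | h
      · left; rw [h, inv_one]
      · right; rw [h, inv_neg, inv_one]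
    · intro u hu
      have hgu : (g : Matrix (Fin 4) (Fin 4) F) *ᵥ u ∈ D 0 := by
        have := stab_mulVec_mem hσ hu
        rwa [h0] at this
      refine ⟨_, hgu, ?_⟩
      unfold Wm
      rw [Matrix.mulVec_add, ← claimA hF hts S hσ hGU h0 h1 u, hfix, smul_smul,
        inv_mul_cancel₀ hd0, one_smul]
  · have h1 : σ 1 = 0 := by
      rcases h2 (σ 1) with h1 | h1
      · exact h1
      · exfalso
        have := σ.injective (h1.trans h0.symm)
        exact absurd this (by decide)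
    have hB := claimB_dd hF hts S hσ hGU h0 h1
    have hE0 : kap S * dd hD g σ 1 ≠ 0 := mul_ne_zero (kap_ne_zero hF S) hd1
    have hfix : (kap S * dd hD g σ 1) ^ q = kap S * dd hD g σ 1 := by
      have h3 : (kap S * dd hD g σ 1) ^ q * (dd hD g σ 0 * dd hD g σ 1) =
          kap S * dd hD g σ 1 := by
        rw [← mul_assoc, hB]
      rw [hdd, mul_one] at h3
      exact h3
    have hpm := fixed_unit hq hfix hE0
    refine ⟨-(kap S * dd hD g σ 1)⁻¹, ?_, ?_⟩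
    · rcases hpm with h | h
      · right; rw [h, inv_one]
      · left; rw [h, inv_neg, inv_one, neg_neg]
    · intro u hu
      have hgt : (g : Matrix (Fin 4) (Fin 4) F) *ᵥ tau S u ∈ D 0 := by
        have := stab_mulVec_mem hσ (tau_mem S u)
        rwa [h1] at this
      refine ⟨_, hgt, ?_⟩
      have hB' := claimB hF hts S hσ hGU h0 h1 hu
      rw [hfix] at hB'
      have hgu : (g : Matrix (Fin 4) (Fin 4) F) *ᵥ u =
          (-(kap S * dd hD g σ 1)⁻¹) • tau S ((g : Matrix (Fin 4) (Fin 4) F) *ᵥ tau S u) := by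
        rw [neg_smul, ← smul_neg, ← hB', smul_smul, inv_mul_cancel₀ hE0, one_smul]
      unfold Wm
      rw [Matrix.mulVec_add, hgu, add_comm]

end stab

/-- **S5784 package E3.** -/
theorem E3 {q : ℕ} (hF : Fintype.card F = q ^ 2) (hq : q = 2 ∨ q = 3)
    {D : Fin 2 → Submodule F (Fin 4 → F)} (hD : IsMDecomposition 2 D)
    (hts : ∀ i, IsTotallySingularFor (Cfsg.hermForm 4 F q) (D i)) :
    ∃ (F₀ : Subfield F) (P : GL (Fin 4) F) (ζ : F), Fintype.card F = Nat.card F₀ ^ 2 ∧ ζ ≠ 0 ∧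
      ζ + ζ ^ q = 0 ∧ IsFormRationalStructure (Cfsg.hermForm 4 F q) F₀ ζ P ∧
      (∀ u : Fin 4 → F, (∀ i, u i ∈ F₀) →
        (Cfsg.hermForm 4 F q) ((P : Matrix (Fin 4) (Fin 4) F) *ᵥ u) ((P : Matrix (Fin 4) (Fin 4) F) *ᵥ u) = 0) ∧
      decompositionStabilizer D ⊓ Cfsg.GU 4 F q ⊓ specialLinear (Fin 4) F ≤ subfieldSubgroup F₀ P := by
  obtain ⟨S⟩ := exists_frame hF hD hts
  obtain ⟨ω, hω⟩ := exists_not_fixed hF
  have hU : IsUnit (Pm S ω) := Matrix.mulVec_injective_iff_isUnit.1 (Pm_inj hF S hω)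
  obtain ⟨P, hP⟩ : ∃ P : GL (Fin 4) F, (P : Matrix (Fin 4) (Fin 4) F) = Pm S ω := ⟨hU.unit, rfl⟩
  have hζ0 : ω - ω ^ q ≠ 0 := sub_ne_zero.2 (Ne.symm hω)
  have hζq : (ω - ω ^ q) ^ q = -(ω - ω ^ q) := by
    rw [sub_pow_q hF, pow_q_pow_q hF]
    ring
  have hR1 : ∀ u : Fin 4 → F, (∀ i, u i ∈ fixF hF) →
      ∃ z ∈ D 0, (P : Matrix (Fin 4) (Fin 4) F) *ᵥ u = Wm S z := by
    intro u hu
    refine ⟨_, ev_mem hD (u 0 + u 1 * ω) (u 2 + u 3 * ω), ?_⟩
    rw [hP, Pm_rat hF S ω hu, Wm_ev]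
  have hR2 : ∀ z ∈ D 0, Wm S z ∈ ratV (fixF hF) (P : Matrix (Fin 4) (Fin 4) F) := by
    intro z hz
    obtain ⟨a, b, ha, hb, hx⟩ := exists_decomp hF hω (co hD 0 0 z)
    obtain ⟨c, d, hc, hd, hy⟩ := exists_decomp hF hω (co hD 0 1 z)
    have hu : ∀ i, (![a, b, c, d] : Fin 4 → F) i ^ q = (![a, b, c, d] : Fin 4 → F) i := by
      intro i
      fin_cases i
      · exact ha
      · exact hb
      · exact hc
      · exact hd
    refine ⟨![a, b, c, d], hu, ?_⟩
    rw [hP, Pm_rat hF S ω hu, Wm_eq_Wv S hz, hx, hy]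
    rfl
  refine ⟨fixF hF, P, ω - ω ^ q, card_eq_sq hF, hζ0, ?_, ?_, ?_, ?_⟩
  · rw [hζq]
    ring
  · intro u v hu hv
    obtain ⟨z, hz, hzu⟩ := hR1 u hu
    obtain ⟨z', hz', hzv⟩ := hR1 v hv
    rw [hzu, hzv, hf_W hF hts S hz hz', mem_fixF, mul_pow, hζq, sub_pow_q hF, pow_q_pow_q hF]
    ring
  · intro u hu
    obtain ⟨z, hz, hzu⟩ := hR1 u hu
    rw [hzu, hf_W hF hts S hz hz]
    have h0 : br hD 0 z z = 0 := by
      unfold br
      ring
    rw [h0, zero_pow (q_ne_zero hF), sub_zero]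
  · intro g hg
    have hg1 := Subgroup.mem_inf.1 hg
    have hg2 := Subgroup.mem_inf.1 hg1.1
    obtain ⟨σ, hσ⟩ := hg2.1
    have hGU : ∀ u v, Cfsg.hermForm 4 F q ((g : Matrix (Fin 4) (Fin 4) F) *ᵥ u)
        ((g : Matrix (Fin 4) (Fin 4) F) *ᵥ v) = Cfsg.hermForm 4 F q u v := hg2.2
    have hdet : (g : Matrix (Fin 4) (Fin 4) F).det = 1 := (mem_specialLinear_iff g).1 hg1.2
    obtain ⟨c, hc, hmain⟩ := stab_main hF hq hts S hσ hGU hdet
    obtain ⟨μ, hμ, hcμ⟩ : ∃ μ : F, μ ≠ 0 ∧ c * μ ^ q = μ := by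
      rcases hc with rfl | rfl
      · exact ⟨1, one_ne_zero, by rw [one_pow, mul_one]⟩
      · exact ⟨ω - ω ^ q, hζ0, by rw [hζq]; ring⟩
    rw [mem_subfieldSubgroup_iff]
    refine ⟨μ, hμ, ?_⟩
    rintro v ⟨u, hu, rfl⟩
    obtain ⟨z, hz, hzu⟩ := hR1 u hu
    obtain ⟨u₁, hu₁, hgu⟩ := hmain z hz
    refine ⟨Wm S (μ⁻¹ • u₁), hR2 _ ((D 0).smul_mem _ hu₁), ?_⟩
    rw [hzu, hgu, scale_W S u₁ hμ hcμ]

end Cfsg.Agent.Lib.Helper8_SU4_E3
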