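import Mathlib
import Cfsg.Prelude.Def_GeometricClasses
import Cfsg.Prelude.Def_LieClassical
import Cfsg.Agent.Lib.Helper39_SUAschMax
import Cfsg.Agent.Lib.Helper30_AschMax
import Cfsg.Agent.Lib.Helper97_AschMaxQ
import Cfsg.Agent.Lib.Helper98_Decomp
import Cfsg.Agent.Lib.Helper13_Herm
import Cfsg.Agent.Lib.Helper4_SU4C6
import Cfsg.Agent.Lib.Helper4_SU4Three
import Cfsg.Agent.Lib.Helper4_SUFrameTwo
import Cfsg.Agent.Lib.Helper8_SU4_E3

/-!
# The maximal subgroups of `SU_4(q)` (helper4, S5784)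

The case analysis for dimension four, given the subgroup structure theorem S5663 in dimension four as the
hypothesis `SUAschHyp 4 F q` and the exclusion facts `Excl 4 F q`, on top of helper39's `normal_form`.

* four orthogonal nondegenerate lines, `q = 3`: not maximal (`Helper4_SU4Three`);
* two orthogonal nondegenerate planes, `q = 2`: the stabiliser fixes a frame of four lines (`Helper4_SUFrameTwo`);
* two complementary totally isotropic planes, `q = 2, 3`: inside a subfield group of symplectic type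
  (`Helper8_SU4_E3`, by helper8);
* class 6: `r = 2`, order 64, `q = p`, `p % 4 = 3` (`Helper4_SU4C6`);
* extension fields, tensor products and tensor powers do not occur in dimension four.
-/

set_option autoImplicit false

namespace Cfsg.Agent.Lib.Helper4_SU4Main

open Matrix Cfsg.Geo Cfsg.Agent.Lib.Helper39_SUAschMax

variable {F : Type*} [Field F] [Fintype F] {q : ℕ}

theorem su4_cases (hF : Fintype.card F = q ^ 2) (hE : Excl 4 F q) (hA : SUAschHyp 4 F q)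
    (H : Subgroup (Matrix.GeneralLinearGroup (Fin 4) F))
    (hH : Cfsg.Geo.IsMaximalIn (Cfsg.GU 4 F q ⊓ Cfsg.Geo.specialLinear (Fin 4) F) H) :
    (∃ W : Submodule F (Fin 4 → F), W ≠ ⊥ ∧ Cfsg.Geo.IsTotallySingularFor (Cfsg.hermForm 4 F q) W ∧ H = Cfsg.Geo.subspaceStabilizer W ⊓ (Cfsg.GU 4 F q ⊓ Cfsg.Geo.specialLinear (Fin 4) F)) ∨
    (∃ W : Submodule F (Fin 4 → F), W ≠ ⊥ ∧ Cfsg.Geo.IsNondegenerateOn (Cfsg.hermForm 4 F q) W ∧ 2 * Module.finrank F W < 4 ∧ H = Cfsg.Geo.subspaceStabilizer W ⊓ (Cfsg.GU 4 F q ⊓ Cfsg.Geo.specialLinear (Fin 4) F)) ∨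
    (q ≠ 3 ∧ ∃ D : Fin 4 → Submodule F (Fin 4 → F), Cfsg.Geo.IsNondegenerateMDecomposition (Cfsg.hermForm 4 F q) 1 D ∧ H = Cfsg.Geo.decompositionStabilizer D ⊓ (Cfsg.GU 4 F q ⊓ Cfsg.Geo.specialLinear (Fin 4) F)) ∨
    (3 ≤ q ∧ ∃ D : Fin 2 → Submodule F (Fin 4 → F), Cfsg.Geo.IsNondegenerateMDecomposition (Cfsg.hermForm 4 F q) 2 D ∧ H = Cfsg.Geo.decompositionStabilizer D ⊓ (Cfsg.GU 4 F q ⊓ Cfsg.Geo.specialLinear (Fin 4) F)) ∨
    (4 ≤ q ∧ ∃ D : Fin 2 → Submodule F (Fin 4 → F), Cfsg.Geo.IsMDecomposition 2 D ∧ (∀ i, Cfsg.Geo.IsTotallySingularFor (Cfsg.hermForm 4 F q) (D i)) ∧ H = Cfsg.Geo.decompositionStabilizer D ⊓ (Cfsg.GU 4 F q ⊓ Cfsg.Geo.specialLinear (Fin 4) F)) ∨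
    (∃ (F₀ : Subfield F) (r : ℕ) (P : Matrix.GeneralLinearGroup (Fin 4) F), r.Prime ∧ Odd r ∧ Fintype.card F = Nat.card F₀ ^ r ∧ Cfsg.Geo.IsFormRationalStructure (Cfsg.hermForm 4 F q) F₀ 1 P ∧ H = Cfsg.Geo.subfieldSubgroup F₀ P ⊓ (Cfsg.GU 4 F q ⊓ Cfsg.Geo.specialLinear (Fin 4) F)) ∨
    (∃ (F₀ : Subfield F) (P : Matrix.GeneralLinearGroup (Fin 4) F) (ζ : F), Fintype.card F = Nat.card F₀ ^ 2 ∧ ζ ≠ 0 ∧ ζ + ζ ^ q = 0 ∧ Cfsg.Geo.IsFormRationalStructure (Cfsg.hermForm 4 F q) F₀ ζ P ∧ (∀ u : Fin 4 → F, (∀ i, u i ∈ F₀) → (Cfsg.hermForm 4 F q) (Matrix.mulVec (P : Matrix (Fin 4) (Fin 4) F) u) (Matrix.mulVec (P : Matrix (Fin 4) (Fin 4) F) u) = 0) ∧ H = Cfsg.Geo.subfieldSubgroup F₀ P ⊓ (Cfsg.GU 4 F q ⊓ Cfsg.Geo.specialLinear (Fin 4) F)) ∨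
    (Odd q ∧ ∃ (F₀ : Subfield F) (P : Matrix.GeneralLinearGroup (Fin 4) F), Fintype.card F = Nat.card F₀ ^ 2 ∧ Cfsg.Geo.IsFormRationalStructure (Cfsg.hermForm 4 F q) F₀ 1 P ∧ H = Cfsg.Geo.subfieldSubgroup F₀ P ⊓ (Cfsg.GU 4 F q ⊓ Cfsg.Geo.specialLinear (Fin 4) F)) ∨
    (∃ (p : ℕ) (R : Subgroup (Matrix.GeneralLinearGroup (Fin 4) F)), p.Prime ∧ q = p ∧ p % 4 = 3 ∧ Cfsg.Geo.IsSymplecticTypeGroup 2 R ∧ Cfsg.Geo.ActsAbsolutelyIrreducibly (Cfsg.Geo.matrixSet R) ∧ R ≤ Cfsg.Geo.similarityGroup (Cfsg.hermForm 4 F q) ∧ Nat.card R = 64 ∧ Nat.card (Subgroup.center R) = 4 ∧ H = Cfsg.Geo.subgroupNormalizer R ⊓ (Cfsg.GU 4 F q ⊓ Cfsg.Geo.specialLinear (Fin 4) F)) ∨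
    Cfsg.Geo.InUnitaryResidualClass H := by
  have hq2 : 2 ≤ q := Cfsg.Agent.Lib.Helper13_Herm.two_le_q hF
  rcases normal_form (by norm_num) hE hA H hH with ⟨M, hM, hHM⟩ | hres
  swap
  · exact Or.inr (Or.inr (Or.inr (Or.inr (Or.inr (Or.inr (Or.inr (Or.inr (Or.inr hres))))))))
  simp only [InUnitaryClass, InUnitaryPartialClass] at hM
  rcases hM with (⟨W, hW0, hWts, rfl⟩ | ⟨W, hW0, hWnd, hWlt, rfl⟩ | ⟨t, k, D, hD, rfl⟩ |
      ⟨k, D, hk, hD, hts, rfl⟩ | ⟨F₀, r, P, hr, hodd, hcard, hrat, rfl⟩ | ⟨F₀, P, hodd, hcard, hrat, rfl⟩ |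
      ⟨F₀, P, ζ, -, hcard, hζ0, hζ, hrat, halt, rfl⟩ | ⟨r, R, p, e, k, hR, hirr, hsim, -, hmin, hcase, rfl⟩) |
    ⟨r, K, hr, hodd, hK, -, rfl⟩ | ⟨n₁, n₂, e, P, f₁, f₂, h1, h2, -, -, -, rfl⟩ |
    ⟨k, t, e, P, f₁, hk, ht, -, -, -, rfl⟩
  · -- totally singular subspaces
    exact Or.inl ⟨W, hW0, hWts, by rw [hHM, inf_assoc]⟩
  · -- nondegenerate subspaces
    exact Or.inr (Or.inl ⟨W, hW0, hWnd, hWlt, by rw [hHM, inf_assoc]⟩)
  · -- nondegenerate decompositions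
    have hcard := Cfsg.Agent.Lib.Helper98_Decomp.card_eq hD.decomp
    have ht2 := hD.decomp.two_le
    have hkpos := hD.decomp.pos
    have hcases : (t = 4 ∧ k = 1) ∨ (t = 2 ∧ k = 2) := by
      have ht4 : t ≤ 4 := by nlinarith
      interval_cases t <;> omega
    rcases hcases with ⟨rfl, rfl⟩ | ⟨rfl, rfl⟩
    · by_cases hq3 : q = 3
      · exfalso
        subst hq3
        have hK := Cfsg.Agent.Lib.Helper4_SU4Three.not_maximal_of_q_three hD hF
        rw [← hHM] at hK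
        exact Cfsg.Agent.Lib.Helper97_AschMaxQ.not_between hH hK
      · exact Or.inr (Or.inr (Or.inl ⟨hq3, D, hD, by rw [hHM, inf_assoc]⟩))
    · by_cases hq3 : 3 ≤ q
      · exact Or.inr (Or.inr (Or.inr (Or.inl ⟨hq3, D, hD, by rw [hHM, inf_assoc]⟩)))
      · have hq : q = 2 := by omega
        subst hq
        obtain ⟨D', hD', hle⟩ : ∃ D' : Fin 4 → Submodule F (Fin 4 → F),
            IsNondegenerateMDecomposition (Cfsg.hermForm 4 F 2) 1 D' ∧
              decompositionStabilizer D ⊓ Cfsg.GU 4 F 2 ≤ decompositionStabilizer D' :=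
          Cfsg.Agent.Lib.Helper4_SUFrameTwo.refine_planes hF hD
        have hH' : H ≤ decompositionStabilizer D' ⊓ Cfsg.GU 4 F 2 := by
          rw [hHM]
          exact le_inf (inf_le_left.trans hle) (inf_le_left.trans inf_le_right)
        have := eq_inf_of_le hH hH' (hE.dec hD'.decomp)
        exact Or.inr (Or.inr (Or.inl ⟨by norm_num, D', hD', by rw [this, inf_assoc]⟩))
  · -- pairs of totally singular planes
    have hk2 : k = 2 := by omega
    subst hk2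
    by_cases hq4 : 4 ≤ q
    · exact Or.inr (Or.inr (Or.inr (Or.inr (Or.inl ⟨hq4, D, hD, hts, by rw [hHM, inf_assoc]⟩))))
    · have hq : q = 2 ∨ q = 3 := by omega
      obtain ⟨F₀, P, ζ, hcard, hζ0, hζ, hrat, halt, hle⟩ :=
        Cfsg.Agent.Lib.Helper8_SU4_E3.E3 hF hq hD hts
      have hH' : H ≤ subfieldSubgroup F₀ P ⊓ Cfsg.GU 4 F q := by
        rw [hHM]
        exact le_inf hle (inf_le_left.trans inf_le_right)
      have := eq_inf_of_le hH hH' (hE.subf F₀ (subfield_ne_top le_rfl hcard) P)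
      exact Or.inr (Or.inr (Or.inr (Or.inr (Or.inr (Or.inr (Or.inl
        ⟨F₀, P, ζ, hcard, hζ0, hζ, hrat, halt, by rw [this, inf_assoc]⟩))))))
  · -- subfields of odd prime index
    exact Or.inr (Or.inr (Or.inr (Or.inr (Or.inr (Or.inl
      ⟨F₀, r, P, hr, hodd, hcard, hrat, by rw [hHM, inf_assoc]⟩)))))
  · -- subfield of index two, orthogonal type
    exact Or.inr (Or.inr (Or.inr (Or.inr (Or.inr (Or.inr (Or.inr (Or.inl
      ⟨hodd, F₀, P, hcard, hrat, by rw [hHM, inf_assoc]⟩)))))))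
  · -- subfield of index two, symplectic type
    exact Or.inr (Or.inr (Or.inr (Or.inr (Or.inr (Or.inr (Or.inl
      ⟨F₀, P, ζ, hcard, hζ0, hζ, hrat, halt, by rw [hHM, inf_assoc]⟩))))))
  · -- symplectic type normalisers
    obtain ⟨hp, hqp, hmod, rfl, hc64, hc4⟩ := Cfsg.Agent.Lib.Helper4_SU4C6.c6_data hF hR hirr hmin hcase
    exact Or.inr (Or.inr (Or.inr (Or.inr (Or.inr (Or.inr (Or.inr (Or.inr (Or.inl
      ⟨p, R, hp, hqp, hmod, hR, hirr, hsim, hc64, hc4, by rw [hHM, inf_assoc]⟩))))))))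
  · -- extension fields: impossible in dimension four
    exfalso
    have hdvd := Cfsg.Agent.Lib.Helper30_AschMax.dvd_of_isFieldSubalgebra (by norm_num) hK
    have hr4 : r ≤ 4 := Nat.le_of_dvd (by norm_num) hdvd
    have := hr.two_le
    interval_cases r
    · exact absurd hodd (by decide)
    · omega
    · exact absurd hr (by decide)
  · -- tensor products: impossible in dimension four
    exfalso
    have hc : 4 = n₁ * n₂ := by simpa using Fintype.card_congr e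
    nlinarith
  · -- tensor powers: impossible in dimension four
    exfalso
    have hc : 4 = k ^ t := by simpa using Fintype.card_congr e
    have h1 : 3 ^ 2 ≤ k ^ t :=
      le_trans (Nat.pow_le_pow_left hk 2) (Nat.pow_le_pow_right (by omega) ht)
    omega

end Cfsg.Agent.Lib.Helper4_SU4Main
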