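import Mathlib
import Cfsg.Agent.Lib.Helper85_Sp2Defs
import Cfsg.Agent.Lib.Helper85_Sp2Basic
import Cfsg.Prelude.Def_Classical
import Cfsg.Agent.S0765
import Cfsg.Agent.Lib.Helper13_Symp
import Cfsg.Agent.Lib.Helper13_SympTrans

/-!
# Helper4_Sp2_CONC: package CONC of S2142 (the concrete `SpAct` of `Matrix.symplecticGroup (Fin m) F`)
-/

set_option autoImplicit false

namespace Cfsg.Agent.Lib.Helper4_Sp2_CONC

open Cfsg.Agent.Lib.Helper85_Sp2Defs Cfsg.Agent.Lib.Helper85_Sp2Basic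
open Cfsg.Agent.Lib.Helper13_Symp Cfsg.Agent.Lib.Helper13_SympTrans
open Matrix

variable {F : Type*} [Field F] [Fintype F]

omit [Fintype F] in
theorem toBilin_J_apply (m : ℕ) (x y : Fin m ⊕ Fin m → F) :
    Matrix.toBilin' (Matrix.J (Fin m) F) x y = Cfsg.sympForm m F x y := by
  rw [Matrix.toBilin'_apply']
  rfl

/-- the action homomorphism -/
noncomputable def rhoC (m : ℕ) :
    Matrix.symplecticGroup (Fin m) F →* AddMonoid.End (Fin m ⊕ Fin m → F) where
  toFun g := (Matrix.mulVecLin (g : Matrix (Fin m ⊕ Fin m) (Fin m ⊕ Fin m) F)).toAddMonoidHom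
  map_one' := by
    ext x : 1
    show ((1 : Matrix.symplecticGroup (Fin m) F) : Matrix (Fin m ⊕ Fin m) (Fin m ⊕ Fin m) F) *ᵥ x = x
    simp
  map_mul' g h := by
    ext x : 1
    show ((g * h : Matrix.symplecticGroup (Fin m) F) : Matrix (Fin m ⊕ Fin m) (Fin m ⊕ Fin m) F) *ᵥ x
      = (g : Matrix (Fin m ⊕ Fin m) (Fin m ⊕ Fin m) F) *ᵥ
        ((h : Matrix (Fin m ⊕ Fin m) (Fin m ⊕ Fin m) F) *ᵥ x)
    rw [Matrix.mulVec_mulVec]
    rfl

omit [Fintype F] in
theorem rhoC_apply (m : ℕ) (g : Matrix.symplecticGroup (Fin m) F) (x : Fin m ⊕ Fin m → F) :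
    rhoC m g x = (g : Matrix (Fin m ⊕ Fin m) (Fin m ⊕ Fin m) F) *ᵥ x := rfl

/-- the concrete datum -/
noncomputable def concD (hF : Fintype.card F = 2) (m : ℕ) :
    SpAct (Matrix.symplecticGroup (Fin m) F) F (Fin m ⊕ Fin m → F) where
  β := Matrix.toBilin' (Matrix.J (Fin m) F)
  ρ := rhoC m
  alt x := by rw [toBilin_J_apply, sympForm_self]
  nondeg x hx := by
    by_contra hne
    obtain ⟨w, hw⟩ := exists_sympForm_ne_zero m hne
    apply hw
    rw [← toBilin_J_apply]
    exact hx w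
  pres g x y := by
    rw [toBilin_J_apply, toBilin_J_apply, rhoC_apply, rhoC_apply]
    exact sympForm_mulVec_mulVec_of_mem m g.2 x y
  two x := by
    funext i
    exact F2_add_self hF (x i)

/-- PKG CONC: the concrete instance. -/
theorem sp_concrete (hF : Fintype.card F = 2) (m : ℕ) :
    ∃ D : SpAct (Matrix.symplecticGroup (Fin m) F) F (Fin m ⊕ Fin m → F),
      Function.Injective D.ρ ∧ D.HasTransv ∧ D.GenTransv := by
  refine ⟨concD hF m, ?_, ?_, ?_⟩
  · intro g h hgh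
    apply Subtype.ext
    apply Matrix.toLin'.injective
    apply LinearMap.ext
    intro x
    have := DFunLike.congr_fun hgh x
    exact this
  · intro u
    refine ⟨transv m u 1, fun x => ?_⟩
    show (transv m u 1 : Matrix (Fin m ⊕ Fin m) (Fin m ⊕ Fin m) F) *ᵥ x
      = x + Matrix.toBilin' (Matrix.J (Fin m) F) x u • u
    rw [transv_mulVec, toBilin_J_apply, one_mul]
  · intro K hK
    rw [eq_top_iff, ← Cfsg.Agent.S0765.result (F := F) m, Subgroup.closure_le]
    rintro A ⟨w, c, hA⟩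
    apply hK
    have hact : ∀ x, (A : Matrix (Fin m ⊕ Fin m) (Fin m ⊕ Fin m) F) *ᵥ x
        = x + (c * Cfsg.sympForm m F x w) • w := by
      intro x
      rw [hA]
      exact sympTransvection_mulVec m w c x
    rcases F2_cases hF c with rfl | rfl
    · refine ⟨0, fun x => ?_⟩
      show (A : Matrix (Fin m ⊕ Fin m) (Fin m ⊕ Fin m) F) *ᵥ x = x + _ • (0 : Fin m ⊕ Fin m → F)
      rw [hact, zero_mul, zero_smul, smul_zero]
    · refine ⟨w, fun x => ?_⟩
      show (A : Matrix (Fin m ⊕ Fin m) (Fin m ⊕ Fin m) F) *ᵥ x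
        = x + Matrix.toBilin' (Matrix.J (Fin m) F) x w • w
      rw [hact, one_mul, toBilin_J_apply]

end Cfsg.Agent.Lib.Helper4_Sp2_CONC
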