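import Mathlib
import Cfsg.Agent.Lib.Helper85_Sp2Defs
import Cfsg.Agent.Lib.Helper85_Sp2Basic

/-!
# Helper4_Sp2_TT: package TT of S2142 (2-transitivity of the symplectic group on each class of forms)
-/

set_option autoImplicit false

namespace Cfsg.Agent.Lib.Helper4_Sp2_TT

open Cfsg.Agent.Lib.Helper85_Sp2Defs Cfsg.Agent.Lib.Helper85_Sp2Basic

variable {𝒢 : Type*} {F : Type*} {U : Type*} [Group 𝒢] [Field F] [Fintype F]
  [AddCommGroup U] [Module F U] [Fintype U]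

omit [Fintype U] in
/-- an element acting as a transvection acts as an involution -/
theorem transv_inv (hF : Fintype.card F = 2) (D : SpAct 𝒢 F U) (t : 𝒢) (u : U)
    (ht : D.ActsTransv t u) (x : U) : D.ρ t⁻¹ x = x + D.β x u • u := by
  have h2 : D.ρ t (D.ρ t x) = x := by
    rw [ht, ht]
    simp only [map_add, LinearMap.add_apply, map_smul, LinearMap.smul_apply, D.alt, smul_zero,
      add_zero]
    rw [add_assoc, ← add_smul, F2_add_self hF, zero_smul, add_zero]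
  calc D.ρ t⁻¹ x = D.ρ t⁻¹ (D.ρ t (D.ρ t x)) := by rw [h2]
    _ = D.ρ t x := D.rho_inv_apply t _
    _ = _ := ht x

omit [Fintype U] in
theorem QF_smul (hF : Fintype.card F = 2) (D : SpAct 𝒢 F U) (Q : QF D.β) (a : F) (u : U) :
    Q.1 (a • u) = a * Q.1 u := by
  rcases F2_cases hF a with rfl | rfl
  · simp [QF_zero D Q]
  · simp

omit [Fintype U] in
theorem Q_transv (hF : Fintype.card F = 2) (D : SpAct 𝒢 F U) (Q : QF D.β) (u x : U) :
    Q.1 (x + D.β x u • u) = Q.1 x + D.β x u * (Q.1 u + 1) := by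
  rw [Q.2, QF_smul hF D Q, map_smul, smul_eq_mul]
  have := F2_mul_self hF (D.β x u)
  linear_combination this

/-- transitivity on a class -/
theorem trans_class (hF : Fintype.card F = 2) (D : SpAct 𝒢 F U) (htr : D.HasTransv)
    (hst : ∀ (Q Q' : QF D.β) (u : U), (∀ x, Q'.1 x = Q.1 x + D.β x u) → (SameType Q Q' ↔ Q.1 u = 0))
    (hdiff : ∀ Q Q' : QF D.β, ∃ u : U, ∀ x, Q'.1 x = Q.1 x + D.β x u)
    (Q Q' : QF D.β) (h : SameType Q Q') : ∃ g : 𝒢, D.Moves g Q Q' := by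
  obtain ⟨u, hu⟩ := hdiff Q Q'
  have hQu : Q.1 u = 0 := (hst Q Q' u hu).1 h
  obtain ⟨t, ht⟩ := htr u
  refine ⟨t, fun x => ?_⟩
  rw [transv_inv hF D t u ht, Q_transv hF D, hQu, hu x]
  ring

omit [Fintype U] in
/-- reflections in nonsingular vectors fix the form -/
theorem refl_fixes (hF : Fintype.card F = 2) (D : SpAct 𝒢 F U) (Q : QF D.β) (z : U)
    (hz : Q.1 z = 1) (t : 𝒢) (ht : D.ActsTransv t z) : D.FixesQ t Q := by
  intro x
  rw [ht, Q_transv hF D, hz, F2_add_self hF, mul_zero, add_zero]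

omit [Fintype U] in
theorem step1 (hF : Fintype.card F = 2) (D : SpAct 𝒢 F U) (htr : D.HasTransv) (Q : QF D.β)
    (a b : U) (ha : Q.1 a = 0) (hb : Q.1 b = 0) (hab : D.β a b = 1) :
    ∃ g : 𝒢, D.FixesQ g Q ∧ D.ρ g a = b := by
  obtain ⟨t, ht⟩ := htr (a + b)
  refine ⟨t, refl_fixes hF D Q (a + b) ?_ t ht, ?_⟩
  · rw [Q.2, ha, hb, hab]; simp
  · rw [ht, map_add, D.alt, hab, zero_add, one_smul, ← add_assoc, D.two a, zero_add]

omit [Fintype U] in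
/-- the isometry group of `Q` (generated by reflections) is transitive on nonzero singular vectors -/
theorem trans_sing (hF : Fintype.card F = 2) (D : SpAct 𝒢 F U) (htr : D.HasTransv) (Q : QF D.β)
    (a b : U) (ha0 : a ≠ 0) (hb0 : b ≠ 0) (ha : Q.1 a = 0) (hb : Q.1 b = 0) :
    ∃ g : 𝒢, D.FixesQ g Q ∧ D.ρ g a = b := by
  by_cases hab : a = b
  · subst hab
    refine ⟨1, fun x => ?_, D.rho_one_apply a⟩
    rw [D.rho_one_apply]
  rcases F2_cases hF (D.β a b) with h0 | h1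
  swap
  · exact step1 hF D htr Q a b ha hb h1
  -- find x₀ with β(x₀,a) = 1 = β(x₀,b)
  have hx0 : ∃ x0 : U, D.β x0 a = 1 ∧ D.β x0 b = 1 := by
    obtain ⟨x1, hx1⟩ := exists_partner hF D a ha0
    obtain ⟨x2, hx2⟩ := exists_partner hF D b hb0
    rw [beta_symm hF D] at hx1 hx2
    rcases F2_cases hF (D.β x1 b) with h | h
    swap
    · exact ⟨x1, hx1, h⟩
    rcases F2_cases hF (D.β x2 a) with h' | h'
    swap
    · exact ⟨x2, h', hx2⟩
    refine ⟨x1 + x2, ?_, ?_⟩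
    · rw [map_add, LinearMap.add_apply, hx1, h', add_zero]
    · rw [map_add, LinearMap.add_apply, h, hx2, zero_add]
  -- normalise to Q x₀ = 0
  have hx0' : ∃ x0 : U, D.β x0 a = 1 ∧ D.β x0 b = 1 ∧ Q.1 x0 = 0 := by
    obtain ⟨x0, hxa, hxb⟩ := hx0
    rcases F2_cases hF (Q.1 x0) with h | h
    · exact ⟨x0, hxa, hxb, h⟩
    · refine ⟨x0 + a, ?_, ?_, ?_⟩
      · rw [map_add, LinearMap.add_apply, hxa, D.alt, add_zero]
      · rw [map_add, LinearMap.add_apply, hxb, h0, add_zero]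
      · rw [Q.2, h, ha, hxa, add_zero, F2_add_self hF]
  obtain ⟨x0, hxa, hxb, hQx⟩ := hx0'
  have hax : D.β a x0 = 1 := by rw [beta_symm hF D]; exact hxa
  obtain ⟨g1, hg1, hg1a⟩ := step1 hF D htr Q a x0 ha hQx hax
  obtain ⟨g2, hg2, hg2a⟩ := step1 hF D htr Q x0 b hQx hb hxb
  refine ⟨g2 * g1, fun x => ?_, ?_⟩
  · rw [D.rho_mul_apply, hg2, hg1]
  · rw [D.rho_mul_apply, hg1a, hg2a]

omit [Fintype F] [Fintype U] in
/-- an isometry `g` of `Q` maps `Q + β(·,a)` to `Q + β(·, g a)` -/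
theorem moves_translate (D : SpAct 𝒢 F U) (Q : QF D.β) (g : 𝒢) (hg : D.FixesQ g Q) (a : U)
    (Q2 Q3 : QF D.β) (h2 : ∀ x, Q2.1 x = Q.1 x + D.β x a)
    (h3 : ∀ x, Q3.1 x = Q.1 x + D.β x (D.ρ g a)) : D.Moves g Q2 Q3 := by
  intro x
  rw [h3, h2]
  have h1 : Q.1 (D.ρ g⁻¹ x) = Q.1 x := by
    have := hg (D.ρ g⁻¹ x)
    rw [D.rho_apply_inv] at this
    exact this.symm
  have h4 : D.β (D.ρ g⁻¹ x) a = D.β x (D.ρ g a) := by
    have := D.pres g (D.ρ g⁻¹ x) a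
    rw [D.rho_apply_inv] at this
    exact this.symm
  rw [h1, h4]

/-- PKG TT: 2-transitivity on each class. -/
theorem two_trans (hF : Fintype.card F = 2) (D : SpAct 𝒢 F U) (htr : D.HasTransv)
    (hst : ∀ (Q Q' : QF D.β) (u : U), (∀ x, Q'.1 x = Q.1 x + D.β x u) → (SameType Q Q' ↔ Q.1 u = 0))
    (hdiff : ∀ Q Q' : QF D.β, ∃ u : U, ∀ x, Q'.1 x = Q.1 x + D.β x u)
    (Q Q1 Q' Q1' : QF D.β) (h1 : SameType Q Q1) (h2 : SameType Q Q') (h3 : SameType Q' Q1')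
    (hne : Q.1 ≠ Q1.1) (hne' : Q'.1 ≠ Q1'.1) :
    ∃ g : 𝒢, D.Moves g Q Q' ∧ D.Moves g Q1 Q1' := by
  obtain ⟨g1, hg1⟩ := trans_class hF D htr hst hdiff Q Q' h2
  obtain ⟨Q2, hQ2⟩ : ∃ Q2 : QF D.β, D.Moves g1 Q1 Q2 :=
    ⟨_, moves_smul D g1 Q1⟩
  obtain ⟨a, ha⟩ := hdiff Q' Q2
  obtain ⟨b, hb⟩ := hdiff Q' Q1'
  have hT2 : SameType Q' Q2 :=
    sameType_trans (sameType_symm h2) (sameType_trans h1 (sameType_of_moves D g1 Q1 Q2 hQ2))
  have hQa : Q'.1 a = 0 := (hst Q' Q2 a ha).1 hT2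
  have hQb : Q'.1 b = 0 := (hst Q' Q1' b hb).1 h3
  have ha0 : a ≠ 0 := by
    rintro rfl
    apply hne
    funext x
    have e1 := hg1 (D.ρ g1 x)
    have e2 := hQ2 (D.ρ g1 x)
    rw [D.rho_inv_apply] at e1 e2
    rw [← e1, ← e2, ha]
    simp
  have hb0 : b ≠ 0 := by
    rintro rfl
    apply hne'
    funext x
    rw [hb]
    simp
  obtain ⟨g2, hg2, hg2a⟩ := trans_sing hF D htr Q' a b ha0 hb0 hQa hQb
  refine ⟨g2 * g1, moves_mul D g2 g1 Q Q' Q' hg1 ((fixesQ_iff_moves D g2 Q').1 hg2),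
    moves_mul D g2 g1 Q1 Q2 Q1' hQ2 ?_⟩
  exact moves_translate D Q' g2 hg2 a Q2 Q1' ha (by rw [hg2a]; exact hb)

end Cfsg.Agent.Lib.Helper4_Sp2_TT
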