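import Mathlib
import Cfsg.Prelude.Def_LinearParabolics
import Cfsg.Agent.Lib.Helper99_StGLDefs

/-! StGL package A2b (S2425): `GL_n` is transitive on the flags of a given type. helper4, for helper99's market. -/

set_option autoImplicit false
open scoped MatrixGroups

namespace Cfsg.Agent.Lib.Helper4_StGL_A2b
open Cfsg.Agent.Lib.Helper99_StGLDefs

variable {F : Type*} [Field F]

/-- Greedy choice of a linearly independent family through subspaces of growing dimension. -/
theorem exists_greedy {V : Type*} [AddCommGroup V] [Module F V] [Module.Finite F V] (M : ℕ → Submodule F V)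
    (n : ℕ) (hM : ∀ i < n, i + 1 ≤ Module.finrank F ↥(M i)) :
    ∀ k ≤ n, ∃ b : Fin k → V, LinearIndependent F b ∧ ∀ i : Fin k, b i ∈ M i.val := by
  intro k
  induction k with
  | zero =>
    intro _
    exact ⟨Fin.elim0, linearIndependent_empty_type, fun i => i.elim0⟩
  | succ k ih =>
    intro hk
    obtain ⟨b, hb, hbM⟩ := ih (by omega)
    have hspan : Module.finrank F ↥(Submodule.span F (Set.range b)) = k := by
      rw [finrank_span_eq_card hb, Fintype.card_fin]
    have hex : ∃ x ∈ M k, x ∉ Submodule.span F (Set.range b) := by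
      by_contra hcon
      push Not at hcon
      have hle : M k ≤ Submodule.span F (Set.range b) := fun x hx => hcon x hx
      have h1 := Submodule.finrank_mono hle
      have h2 := hM k (by omega)
      omega
    obtain ⟨x, hxM, hxs⟩ := hex
    refine ⟨Fin.snoc b x, linearIndependent_finSnoc.2 ⟨hb, hxs⟩, ?_⟩
    intro i
    refine Fin.lastCases ?_ (fun j => ?_) i
    · rw [Fin.snoc_last]
      exact hxM
    · rw [Fin.snoc_castSucc]
      exact hbM j

/-- In a finite chain of subspaces, the dimension decides the order. -/
theorem le_of_finrank_le {n : ℕ} (C : Finset (Submodule F (Fin n → F)))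
    (hC : IsChain (· ≤ ·) (C : Set (Submodule F (Fin n → F)))) {W W' : Submodule F (Fin n → F)}
    (hW : W ∈ C) (hW' : W' ∈ C) (h : Module.finrank F ↥W ≤ Module.finrank F ↥W') : W ≤ W' := by
  by_cases he : W = W'
  · rw [he]
  rcases hC (Finset.mem_coe.2 hW) (Finset.mem_coe.2 hW') he with h1 | h1
  · exact h1
  · have h2 := Submodule.finrank_mono h1
    have h3 : W' = W := Submodule.eq_of_le_of_finrank_eq h1 (le_antisymm h2 h)
    rw [h3]

theorem A2b (n : ℕ) (J : Finset ℕ) (hJ : J ⊆ Finset.range (n - 1))
    (C : Finset (Submodule F (Fin n → F))) (hC : IsChain (· ≤ ·) (C : Set (Submodule F (Fin n → F))))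
    (hdim : C.image (fun W : Submodule F (Fin n → F) => Module.finrank F ↥W) = J.image (· + 1)) :
    ∃ h : GL (Fin n) F, C = J.image (fun j => (stdSub n F (j + 1)).map (linOf h)) := by
  classical
  -- the subspaces through which the basis is chosen
  let M : ℕ → Submodule F (Fin n → F) := fun i =>
    (C.filter (fun W : Submodule F (Fin n → F) => i + 1 ≤ Module.finrank F ↥W)).inf id
  have hMle : ∀ i : ℕ, ∀ W ∈ C, i + 1 ≤ Module.finrank F ↥W → M i ≤ W := by
    intro i W hW hi
    exact Finset.inf_le (f := id) (Finset.mem_filter.2 ⟨hW, hi⟩)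
  have hMdim : ∀ i < n, i + 1 ≤ Module.finrank F ↥(M i) := by
    intro i hi
    by_cases hne : (C.filter (fun W : Submodule F (Fin n → F) => i + 1 ≤ Module.finrank F ↥W)).Nonempty
    · obtain ⟨W0, hW0, hmin⟩ := Finset.exists_min_image _
        (fun W : Submodule F (Fin n → F) => Module.finrank F ↥W) hne
      have hW0C := (Finset.mem_filter.1 hW0).1
      have hle : W0 ≤ M i := by
        apply Finset.le_inf
        intro W hW
        exact le_of_finrank_le C hC hW0C (Finset.mem_filter.1 hW).1 (hmin W hW)
      exact (Finset.mem_filter.1 hW0).2.trans (Submodule.finrank_mono hle)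
    · have : M i = ⊤ := by
        show (C.filter (fun W : Submodule F (Fin n → F) => i + 1 ≤ Module.finrank F ↥W)).inf id = ⊤
        rw [Finset.not_nonempty_iff_eq_empty.1 hne, Finset.inf_empty]
      rw [this, finrank_top, Module.finrank_fintype_fun_eq_card, Fintype.card_fin]
      omega
  obtain ⟨b, hb, hbM⟩ := exists_greedy M n hMdim n le_rfl
  -- the matrix with columns `b i`
  let A : Matrix (Fin n) (Fin n) F := Matrix.of (fun r c => b c r)
  have hAcol : A.col = b := by
    ext c r
    rfl
  have hAunit : IsUnit A := Matrix.linearIndependent_cols_iff_isUnit.1 (by rw [hAcol]; exact hb)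
  let h : GL (Fin n) F := hAunit.unit
  have hhA : (h : Matrix (Fin n) (Fin n) F) = A := rfl
  have hlin : ∀ v : Fin n → F, linOf h v = ∑ c, v c • b c := by
    intro v
    ext r
    rw [Matrix.toLin'_apply, hhA]
    simp [Matrix.mulVec, dotProduct, A, mul_comm]
  have hlin_single : ∀ c : Fin n, linOf h (Pi.single c 1) = b c := by
    intro c
    rw [hlin, Finset.sum_eq_single c]
    · simp
    · intro c' _ hc'
      simp [hc']
    · intro hc
      exact absurd (Finset.mem_univ c) hc
  -- the key property
  have key : ∀ j : ℕ, ∀ W ∈ C, Module.finrank F ↥W = j + 1 →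
      (stdSub n F (j + 1)).map (linOf h) = W := by
    intro j W hW hWj
    have hjn : j + 1 ≤ n := by
      have := Submodule.finrank_le W
      rw [Module.finrank_fintype_fun_eq_card, Fintype.card_fin] at this
      omega
    -- the span of the first `j + 1` basis vectors
    have hSW : Submodule.span F (Set.range (b ∘ Fin.castLE hjn)) ≤ W := by
      rw [Submodule.span_le]
      rintro _ ⟨i, rfl⟩
      apply hMle (Fin.castLE hjn i).val W hW _ (hbM _)
      rw [hWj]
      simp only [Fin.val_castLE]
      omega
    have hSdim : Module.finrank F ↥(Submodule.span F (Set.range (b ∘ Fin.castLE hjn))) = j + 1 := by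
      rw [finrank_span_eq_card (hb.comp _ (Fin.castLE_injective hjn)), Fintype.card_fin]
    have hSeq : Submodule.span F (Set.range (b ∘ Fin.castLE hjn)) = W :=
      Submodule.eq_of_le_of_finrank_eq hSW (by rw [hSdim, hWj])
    rw [← hSeq]
    apply le_antisymm
    · rintro _ ⟨v, hv, rfl⟩
      rw [hlin]
      apply Submodule.sum_mem
      intro c _
      by_cases hc : c.val < j + 1
      · apply Submodule.smul_mem
        apply Submodule.subset_span
        exact ⟨⟨c.val, hc⟩, by simp [Fin.castLE]⟩
      · have : v c = 0 := hv c (by omega)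
        rw [this, zero_smul]
        exact Submodule.zero_mem _
    · rw [Submodule.span_le]
      rintro _ ⟨i, rfl⟩
      refine ⟨Pi.single (Fin.castLE hjn i) 1, ?_, hlin_single _⟩
      intro r hr
      have hne : r ≠ Fin.castLE hjn i := by
        intro he
        rw [he] at hr
        simp only [Fin.val_castLE] at hr
        omega
      simp [hne]
  refine ⟨h, ?_⟩
  ext W
  constructor
  · intro hW
    have h1 : Module.finrank F ↥W ∈ C.image (fun W : Submodule F (Fin n → F) => Module.finrank F ↥W) :=
      Finset.mem_image_of_mem _ hW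
    rw [hdim] at h1
    obtain ⟨j, hj, hjW⟩ := Finset.mem_image.1 h1
    exact Finset.mem_image.2 ⟨j, hj, key j W hW hjW.symm⟩
  · intro hW
    obtain ⟨j, hj, rfl⟩ := Finset.mem_image.1 hW
    have h1 : j + 1 ∈ J.image (· + 1) := Finset.mem_image_of_mem _ hj
    rw [← hdim] at h1
    obtain ⟨W, hWC, hWj⟩ := Finset.mem_image.1 h1
    rw [key j W hWC hWj]
    exact hWC

end Cfsg.Agent.Lib.Helper4_StGL_A2b
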