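import Mathlib
import Cfsg.Prelude.Def_Involutions
import Cfsg.Agent.Lib.Helper4_InvPairs

set_option autoImplicit false

namespace Cfsg.Agent.Lib.Helper4_StrEmb

open Cfsg.Agent.Lib.Helper4_InvPairs

variable {G : Type*} [Group G]

theorem mem_conj_iff (H : Subgroup G) (g x : G) :
    x ∈ H.map (MulAut.conj g).toMonoidHom ↔ g⁻¹ * x * g ∈ H := by
  constructor
  · rintro ⟨h, hh, rfl⟩
    simp only [MulEquiv.coe_toMonoidHom, MulAut.conj_apply]
    have : g⁻¹ * (g * h * g⁻¹) * g = h := by group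
    rw [this]; exact hh
  · intro h
    refine ⟨g⁻¹ * x * g, h, ?_⟩
    simp only [MulEquiv.coe_toMonoidHom, MulAut.conj_apply]
    group

/-- A subgroup of a finite group containing an involution has even order. -/
theorem even_card_of_involution_mem [Finite G] (K : Subgroup G) (s : G) (hs : orderOf s = 2)
    (hsK : s ∈ K) : Even (Nat.card K) := by
  rw [even_iff_two_dvd, ← hs, ← Subgroup.orderOf_mk s hsK]
  exact orderOf_dvd_natCard _

/-- A subgroup of even order contains an involution. -/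
theorem exists_involution_of_even [Finite G] (K : Subgroup G) (h : Even (Nat.card K)) :
    ∃ s : G, s ∈ K ∧ orderOf s = 2 := by
  obtain ⟨x, hx⟩ := exists_prime_orderOf_dvd_card' (G := K) 2 (even_iff_two_dvd.mp h)
  exact ⟨x.1, x.2, by rw [Subgroup.orderOf_coe]; exact hx⟩

/-- In a strongly embedded subgroup, whoever conjugates an involution of `H` into `H` lies in `H`. -/
theorem mem_of_conj_mem [Finite G] {H : Subgroup G} (hH : Cfsg.IsStronglyEmbedded H)
    (t : G) (ht : orderOf t = 2) (htH : t ∈ H) (g : G) (hg : g * t * g⁻¹ ∈ H) : g ∈ H := by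
  by_contra hgH
  have hodd := hH.2.2 g hgH
  have hmem : g * t * g⁻¹ ∈ H ⊓ H.map (MulAut.conj g).toMonoidHom := by
    refine ⟨hg, ?_⟩
    show g * t * g⁻¹ ∈ H.map (MulAut.conj g).toMonoidHom
    rw [mem_conj_iff]
    have : g⁻¹ * (g * t * g⁻¹) * g = t := by group
    rw [this]; exact htH
  have hord : orderOf (g * t * g⁻¹) = 2 := by
    rw [← MulAut.conj_apply, MulEquiv.orderOf_eq]; exact ht
  have := even_card_of_involution_mem _ _ hord hmem
  exact (Nat.not_even_iff_odd.mpr hodd) this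

/-- Criterion: `H` (proper, even order) is strongly embedded as soon as conjugating an
involution of `H` into `H` forces membership in `H`. -/
theorem of_mem_of_conj_mem [Finite G] {H : Subgroup G} (hH : H ≠ ⊤) (heven : Even (Nat.card H))
    (h : ∀ t : G, orderOf t = 2 → t ∈ H → ∀ g : G, g * t * g⁻¹ ∈ H → g ∈ H) :
    Cfsg.IsStronglyEmbedded H := by
  refine ⟨hH, heven, ?_⟩
  intro g hgH
  rw [← Nat.not_even_iff_odd]
  intro hev
  obtain ⟨s, hs, hsord⟩ := exists_involution_of_even _ hev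
  obtain ⟨hsH, hsg⟩ := hs
  have hsH : s ∈ H := hsH
  have hsg : s ∈ H.map (MulAut.conj g).toMonoidHom := hsg
  rw [mem_conj_iff] at hsg
  -- t = g⁻¹ s g ∈ H is an involution and g t g⁻¹ = s ∈ H
  have htord : orderOf (g⁻¹ * s * g) = 2 := by
    have : g⁻¹ * s * g = MulAut.conj g⁻¹ s := by rw [MulAut.conj_apply, inv_inv]
    rw [this, MulEquiv.orderOf_eq]; exact hsord
  apply hgH
  apply h (g⁻¹ * s * g) htord hsg g
  have : g * (g⁻¹ * s * g) * g⁻¹ = s := by group
  rw [this]; exact hsH

theorem iff_mem_of_conj_mem [Finite G] {H : Subgroup G} (hH : H ≠ ⊤) (heven : Even (Nat.card H)) :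
    Cfsg.IsStronglyEmbedded H ↔
      ∀ t : G, orderOf t = 2 → t ∈ H → ∀ g : G, g * t * g⁻¹ ∈ H → g ∈ H :=
  ⟨fun h t ht htH g hg => mem_of_conj_mem h t ht htH g hg, of_mem_of_conj_mem hH heven⟩

end Cfsg.Agent.Lib.Helper4_StrEmb
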