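import Mathlib
import Cfsg.Agent.Lib.Helper4_ThetaDefs

/-!
# S1632 market (architect helper4), package TH-POIS1

One-dimensional Poisson summation formula for Gaussians with real characteristics, in `HasSum`
form, from the functional equation of the two-variable Jacobi theta function.
-/

set_option autoImplicit false

open Complex Real Matrix Cfsg.Agent.Lib.Helper4_ThetaDefs

namespace Cfsg.Agent.Lib.Helper78_TH_POIS1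

/-- `(r z) ^ w = r ^ w * z ^ w` for a positive real `r`. -/
theorem ofReal_mul_cpow_pos {r : ℝ} (hr : 0 < r) {z : ℂ} (hz : z ≠ 0) (w : ℂ) :
    ((r : ℂ) * z) ^ w = (r : ℂ) ^ w * z ^ w := by
  have hr' : (r : ℂ) ≠ 0 := ofReal_ne_zero.mpr hr.ne'
  rw [cpow_def_of_ne_zero (mul_ne_zero hr' hz), log_ofReal_mul hr hz, ofReal_log hr.le, add_mul,
    Complex.exp_add, ← cpow_def_of_ne_zero hr', ← cpow_def_of_ne_zero hz]

/-- The complex square root of a positive real is the real square root. -/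
theorem ofReal_cpow_half {β : ℝ} (hβ : 0 < β) :
    (β : ℂ) ^ (1 / 2 : ℂ) = ((Real.sqrt β : ℝ) : ℂ) := by
  rw [Real.sqrt_eq_rpow, Complex.ofReal_cpow hβ.le]
  norm_num

theorem pois1 {β : ℝ} (hβ : 0 < β) (α γ : ℝ) {τ : ℂ} (hτ : 0 < τ.im) :
    HasSum (fun s : ℤ => (1 / (-I * τ) ^ (1 / 2 : ℂ)) * (((Real.sqrt β)⁻¹ : ℝ) : ℂ) *
        cexp (-π * I / τ * ((((s : ℝ) - γ) ^ 2 / β : ℝ) : ℂ) +
          2 * π * I * ((α * ((s : ℝ) - γ) : ℝ) : ℂ)))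
      (∑' t : ℤ, cexp (π * I * τ * ((β * ((t : ℝ) + α) ^ 2 : ℝ) : ℂ) +
          2 * π * I * ((γ * (t : ℝ) : ℝ) : ℂ))) := by
  have hτ0 : τ ≠ 0 := by
    intro h
    rw [h] at hτ
    simp at hτ
  have hβ0 : (β : ℂ) ≠ 0 := ofReal_ne_zero.mpr hβ.ne'
  obtain ⟨τ₁, hτ₁⟩ : ∃ τ₁ : ℂ, τ₁ = (β : ℂ) * τ := ⟨_, rfl⟩
  obtain ⟨z₁, hz₁⟩ : ∃ z₁ : ℂ, z₁ = τ₁ * α + γ := ⟨_, rfl⟩
  have hτ₁im : 0 < τ₁.im := by
    rw [hτ₁, im_ofReal_mul]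
    exact mul_pos hβ hτ
  have hτ₁0 : τ₁ ≠ 0 := by
    rw [hτ₁]
    exact mul_ne_zero hβ0 hτ0
  have hdual_im : 0 < (-1 / τ₁).im := by
    have h : (-1 / τ₁).im = τ₁.im / normSq τ₁ := by
      rw [neg_div, neg_im, one_div, inv_im]
      ring
    rw [h]
    exact div_pos hτ₁im (normSq_pos.mpr hτ₁0)
  -- the primal series
  have hprimal : ∀ t : ℤ, cexp (π * I * τ * ((β * ((t : ℝ) + α) ^ 2 : ℝ) : ℂ) +
      2 * π * I * ((γ * (t : ℝ) : ℝ) : ℂ)) =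
      cexp (π * I * τ₁ * α ^ 2) * jacobiTheta₂_term t z₁ τ₁ := by
    intro t
    rw [jacobiTheta₂_term, ← Complex.exp_add]
    congr 1
    rw [hz₁, hτ₁]
    push_cast
    ring
  have hsum : ∑' t : ℤ, cexp (π * I * τ * ((β * ((t : ℝ) + α) ^ 2 : ℝ) : ℂ) +
      2 * π * I * ((γ * (t : ℝ) : ℝ) : ℂ)) = cexp (π * I * τ₁ * α ^ 2) * jacobiTheta₂ z₁ τ₁ := by
    rw [tsum_congr hprimal, tsum_mul_left]
    rfl
  rw [hsum, jacobiTheta₂_functional_equation]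
  have hK : (-I * τ₁) ^ (1 / 2 : ℂ) = (-I * τ) ^ (1 / 2 : ℂ) * ((Real.sqrt β : ℝ) : ℂ) := by
    have h1 : -I * τ₁ = (β : ℂ) * (-I * τ) := by
      rw [hτ₁]
      ring
    have h2 : -I * τ ≠ 0 := mul_ne_zero (neg_ne_zero.mpr I_ne_zero) hτ0
    rw [h1, ofReal_mul_cpow_pos hβ h2, ofReal_cpow_half hβ, mul_comm]
  have hdual := (hasSum_jacobiTheta₂_term (z₁ / τ₁) hdual_im).mul_left
    (cexp (π * I * τ₁ * α ^ 2) * (1 / (-I * τ₁) ^ (1 / 2 : ℂ) * cexp (-π * I * z₁ ^ 2 / τ₁)))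
  have hterm : ∀ s : ℤ, (1 / (-I * τ) ^ (1 / 2 : ℂ)) * (((Real.sqrt β)⁻¹ : ℝ) : ℂ) *
        cexp (-π * I / τ * ((((s : ℝ) - γ) ^ 2 / β : ℝ) : ℂ) +
          2 * π * I * ((α * ((s : ℝ) - γ) : ℝ) : ℂ)) =
      cexp (π * I * τ₁ * α ^ 2) * (1 / (-I * τ₁) ^ (1 / 2 : ℂ) * cexp (-π * I * z₁ ^ 2 / τ₁)) *
        jacobiTheta₂_term s (z₁ / τ₁) (-1 / τ₁) := by
    intro s
    have hE : cexp (-π * I / τ * ((((s : ℝ) - γ) ^ 2 / β : ℝ) : ℂ) +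
          2 * π * I * ((α * ((s : ℝ) - γ) : ℝ) : ℂ)) =
        cexp (π * I * τ₁ * α ^ 2) * cexp (-π * I * z₁ ^ 2 / τ₁) *
          jacobiTheta₂_term s (z₁ / τ₁) (-1 / τ₁) := by
      rw [jacobiTheta₂_term, ← Complex.exp_add, ← Complex.exp_add]
      congr 1
      rw [hz₁, hτ₁]
      push_cast
      field_simp
      ring
    rw [hE, hK]
    push_cast
    ring
  have hfun : (fun s : ℤ => (1 / (-I * τ) ^ (1 / 2 : ℂ)) * (((Real.sqrt β)⁻¹ : ℝ) : ℂ) *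
        cexp (-π * I / τ * ((((s : ℝ) - γ) ^ 2 / β : ℝ) : ℂ) +
          2 * π * I * ((α * ((s : ℝ) - γ) : ℝ) : ℂ))) =
      fun s : ℤ => cexp (π * I * τ₁ * α ^ 2) *
        (1 / (-I * τ₁) ^ (1 / 2 : ℂ) * cexp (-π * I * z₁ ^ 2 / τ₁)) *
        jacobiTheta₂_term s (z₁ / τ₁) (-1 / τ₁) := funext hterm
  rw [hfun]
  have hval : cexp (π * I * τ₁ * α ^ 2) *
      (1 / (-I * τ₁) ^ (1 / 2 : ℂ) * cexp (-π * I * z₁ ^ 2 / τ₁) *
        jacobiTheta₂ (z₁ / τ₁) (-1 / τ₁)) =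
      cexp (π * I * τ₁ * α ^ 2) * (1 / (-I * τ₁) ^ (1 / 2 : ℂ) * cexp (-π * I * z₁ ^ 2 / τ₁)) *
        jacobiTheta₂ (z₁ / τ₁) (-1 / τ₁) := by ring
  rw [hval]
  exact hdual

end Cfsg.Agent.Lib.Helper78_TH_POIS1
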