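import Mathlib
import Cfsg.Agent.Lib.Helper4_ThetaDefs

/-!
# S1632 market (architect helper4), package TH-USUMQD

Uniform summability of the shifted Gaussian sums `∑_y exp (-κ Qd (y + c))` of the dual form of
triangular data, by induction on the data, from the one-dimensional case.
-/

set_option autoImplicit false

open Complex Real Matrix Cfsg.Agent.Lib.Helper4_ThetaDefs

namespace Cfsg.Agent.Lib.Helper78_TH_USUMQD

/-- The term of the dual Gaussian sum splits along `Fin (n+1) → ℤ ≃ ℤ × (Fin n → ℤ)`. -/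
theorem term_cons {n : ℕ} (β : ℝ) (hβ : 0 < β) (u : Fin n → ℝ) (T : TriForm n) (κ : ℝ)
    (c : Fin (n + 1) → ℝ) (y : Fin (n + 1) → ℤ) :
    Real.exp (-κ * (TriForm.cons β hβ u T).Qd (toR y + c)) =
      Real.exp (-(κ / β) * ((y 0 : ℝ) + c 0) ^ 2) *
        Real.exp (-κ * T.Qd (toR (Fin.tail y) + (Fin.tail c - ((y 0 : ℝ) + c 0) • u))) := by
  have h0 : (toR y + c) 0 = (y 0 : ℝ) + c 0 := rfl
  have ht : Fin.tail (toR y + c) = toR (Fin.tail y) + Fin.tail c := rfl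
  have hQ : (TriForm.cons β hβ u T).Qd (toR y + c) =
      ((toR y + c) 0) ^ 2 / β + T.Qd (Fin.tail (toR y + c) - (toR y + c) 0 • u) := rfl
  rw [hQ, h0, ht, ← Real.exp_add]
  congr 1
  have e : toR (Fin.tail y) + Fin.tail c - ((y 0 : ℝ) + c 0) • u =
      toR (Fin.tail y) + (Fin.tail c - ((y 0 : ℝ) + c 0) • u) := by abel
  rw [e]
  have hβ0 : β ≠ 0 := hβ.ne'
  field_simp
  ring

theorem usum_Qd (h1 : ∀ b : ℝ, 0 < b → ∃ M : ℝ, ∀ s : ℝ,
      Summable (fun t : ℤ => Real.exp (-b * ((t : ℝ) + s) ^ 2)) ∧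
      ∑' t : ℤ, Real.exp (-b * ((t : ℝ) + s) ^ 2) ≤ M)
    {n : ℕ} (T : TriForm n) {κ : ℝ} (hκ : 0 < κ) :
    ∃ M : ℝ, ∀ c : Fin n → ℝ, Summable (fun y : Fin n → ℤ => Real.exp (-κ * T.Qd (toR y + c))) ∧
      ∑' y : Fin n → ℤ, Real.exp (-κ * T.Qd (toR y + c)) ≤ M := by
  induction T with
  | nil =>
    refine ⟨1, fun c => ⟨Summable.of_finite, ?_⟩⟩
    rw [tsum_eq_single (default : Fin 0 → ℤ)
      (fun y hy => absurd (Subsingleton.elim y default) hy)]
    simp [TriForm.Qd]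
  | @cons m β hβ u T ih =>
    obtain ⟨M', hM'⟩ := ih
    obtain ⟨M₁, hM₁⟩ := h1 (κ / β) (div_pos hκ hβ)
    have hM'0 : 0 ≤ M' := by
      have := (hM' 0).2
      exact le_trans (tsum_nonneg fun y => (Real.exp_pos _).le) this
    refine ⟨M₁ * M', fun c => ?_⟩
    -- the family on `ℤ × (Fin m → ℤ)`
    set g : ℤ × (Fin m → ℤ) → ℝ := fun p =>
      Real.exp (-(κ / β) * ((p.1 : ℝ) + c 0) ^ 2) *
        Real.exp (-κ * T.Qd (toR p.2 + (Fin.tail c - ((p.1 : ℝ) + c 0) • u))) with hg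
    have hfg : (fun y : Fin (m + 1) → ℤ =>
        Real.exp (-κ * (TriForm.cons β hβ u T).Qd (toR y + c))) = g ∘ (Fin.consEquiv (fun _ : Fin (m + 1) => ℤ)).symm := by
      funext y
      rw [term_cons]
      rfl
    have hg0 : 0 ≤ g := fun p => mul_nonneg (Real.exp_pos _).le (Real.exp_pos _).le
    have hgval : ∀ (t : ℤ) (y' : Fin m → ℤ), g (t, y') =
        Real.exp (-(κ / β) * ((t : ℝ) + c 0) ^ 2) *
          Real.exp (-κ * T.Qd (toR y' + (Fin.tail c - ((t : ℝ) + c 0) • u))) := fun _ _ => rfl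
    -- inner sums
    have hin : ∀ t : ℤ, Summable (fun y' : Fin m → ℤ => g (t, y')) := by
      intro t
      simp only [hgval]
      exact (hM' (Fin.tail c - ((t : ℝ) + c 0) • u)).1.mul_left _
    have hinval : ∀ t : ℤ, ∑' y' : Fin m → ℤ, g (t, y') =
        Real.exp (-(κ / β) * ((t : ℝ) + c 0) ^ 2) *
          ∑' y' : Fin m → ℤ,
            Real.exp (-κ * T.Qd (toR y' + (Fin.tail c - ((t : ℝ) + c 0) • u))) := by
      intro t
      simp only [hgval]
      exact (hM' (Fin.tail c - ((t : ℝ) + c 0) • u)).1.tsum_mul_left _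
    have hinle : ∀ t : ℤ, ∑' y' : Fin m → ℤ, g (t, y') ≤
        Real.exp (-(κ / β) * ((t : ℝ) + c 0) ^ 2) * M' := by
      intro t
      rw [hinval t]
      exact mul_le_mul_of_nonneg_left (hM' _).2 (Real.exp_pos _).le
    have hin0 : ∀ t : ℤ, 0 ≤ ∑' y' : Fin m → ℤ, g (t, y') :=
      fun t => tsum_nonneg fun y' => hg0 (t, y')
    have hmaj : Summable (fun t : ℤ => Real.exp (-(κ / β) * ((t : ℝ) + c 0) ^ 2) * M') :=
      (hM₁ (c 0)).1.mul_right M'
    have hout : Summable (fun t : ℤ => ∑' y' : Fin m → ℤ, g (t, y')) :=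
      Summable.of_nonneg_of_le hin0 hinle hmaj
    have hgs : Summable g := (summable_prod_of_nonneg hg0).mpr ⟨hin, hout⟩
    constructor
    · rw [hfg]
      exact (Fin.consEquiv (fun _ : Fin (m + 1) => ℤ)).symm.summable_iff.mpr hgs
    · rw [hfg]
      have e1 : ∑' y : Fin (m + 1) → ℤ, (g ∘ (Fin.consEquiv (fun _ : Fin (m + 1) => ℤ)).symm) y = ∑' p, g p :=
        (Fin.consEquiv (fun _ : Fin (m + 1) => ℤ)).symm.tsum_eq g
      rw [e1, hgs.tsum_prod' hin]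
      calc ∑' t : ℤ, ∑' y' : Fin m → ℤ, g (t, y')
          ≤ ∑' t : ℤ, Real.exp (-(κ / β) * ((t : ℝ) + c 0) ^ 2) * M' :=
            hout.tsum_le_tsum hinle hmaj
        _ = (∑' t : ℤ, Real.exp (-(κ / β) * ((t : ℝ) + c 0) ^ 2)) * M' :=
            (hM₁ (c 0)).1.tsum_mul_right M'
        _ ≤ M₁ * M' := mul_le_mul_of_nonneg_right (hM₁ (c 0)).2 hM'0

end Cfsg.Agent.Lib.Helper78_TH_USUMQD
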