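import Mathlib
import Cfsg.Agent.Lib.Helper4_ThetaDefs

/-!
# S1632 market (helper4), package TH-ALG (helper8): the algebra of the induction step of the Poisson formula
for triangular data.
-/

set_option autoImplicit false

open Complex Real Matrix Cfsg.Agent.Lib.Helper4_ThetaDefs

namespace Cfsg.Agent.Lib.Helper8_TH_ALG

theorem toR_tail {n : ℕ} (x : Fin (n + 1) → ℤ) : Fin.tail (toR x) = toR (Fin.tail x) := rfl

theorem tail_add {n : ℕ} (v w : Fin (n + 1) → ℝ) : Fin.tail (v + w) = Fin.tail v + Fin.tail w := rfl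

theorem tail_sub {n : ℕ} (v w : Fin (n + 1) → ℝ) : Fin.tail (v - w) = Fin.tail v - Fin.tail w := rfl

theorem dot_succ {n : ℕ} (v w : Fin (n + 1) → ℝ) :
    v ⬝ᵥ w = v 0 * w 0 + Fin.tail v ⬝ᵥ Fin.tail w := by
  simp only [dotProduct, Fin.sum_univ_succ, Fin.tail]

theorem norm_pterm {n : ℕ} (T : TriForm n) (a c : Fin n → ℝ) (τ : ℂ) (x : Fin n → ℤ) :
    ‖T.pterm a c τ x‖ = Real.exp (-(π * τ.im) * T.Q (toR x + a)) := by
  unfold TriForm.pterm
  rw [Complex.norm_exp]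
  congr 1
  simp only [Complex.add_re, Complex.mul_re, Complex.mul_im, Complex.ofReal_re, Complex.ofReal_im,
    Complex.I_re, Complex.I_im, Complex.re_ofNat, Complex.im_ofNat]
  ring

theorem norm_dterm {n : ℕ} (T : TriForm n) (a c : Fin n → ℝ) (τ : ℂ) (y : Fin n → ℤ) :
    ‖T.dterm a c τ y‖ = Real.exp (-(π * (τ.im / Complex.normSq τ)) * T.Qd (toR y - c)) := by
  unfold TriForm.dterm
  rw [Complex.norm_exp]
  congr 1
  simp only [Complex.add_re, Complex.mul_re, Complex.mul_im, Complex.ofReal_re, Complex.ofReal_im,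
    Complex.I_re, Complex.I_im, Complex.re_ofNat, Complex.im_ofNat, Complex.div_re, Complex.div_im,
    Complex.neg_re, Complex.neg_im]
  ring

theorem pterm_cons {n : ℕ} (β : ℝ) (hβ : 0 < β) (u : Fin n → ℝ) (T : TriForm n) (a c : Fin (n + 1) → ℝ) (τ : ℂ)
    (x : Fin (n + 1) → ℤ) :
    (TriForm.cons β hβ u T).pterm a c τ x =
      cexp (π * I * τ * ((β * ((x 0 : ℝ) + (a 0 + u ⬝ᵥ (toR (Fin.tail x) + Fin.tail a))) ^ 2 : ℝ) : ℂ) +
          2 * π * I * ((c 0 * (x 0 : ℝ) : ℝ) : ℂ)) *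
        T.pterm (Fin.tail a) (Fin.tail c) τ (Fin.tail x) := by
  unfold TriForm.pterm
  rw [← Complex.exp_add]
  congr 1
  have hQ : (TriForm.cons β hβ u T).Q (toR x + a) =
      β * ((x 0 : ℝ) + (a 0 + u ⬝ᵥ (toR (Fin.tail x) + Fin.tail a))) ^ 2 +
        T.Q (toR (Fin.tail x) + Fin.tail a) := by
    show β * ((toR x + a) 0 + u ⬝ᵥ Fin.tail (toR x + a)) ^ 2 + T.Q (Fin.tail (toR x + a)) = _
    rw [tail_add, toR_tail]
    simp only [Pi.add_apply, toR]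
    ring
  have hc : c ⬝ᵥ toR x = c 0 * (x 0 : ℝ) + Fin.tail c ⬝ᵥ toR (Fin.tail x) := by
    rw [dot_succ, toR_tail]
    rfl
  rw [hQ, hc]
  push_cast
  ring

theorem pterm_shift {n : ℕ} (T : TriForm n) (a c u : Fin n → ℝ) (r : ℝ) (τ : ℂ) (x : Fin n → ℤ) :
    T.pterm a (c + r • u) τ x = cexp (2 * π * I * ((r * (u ⬝ᵥ toR x) : ℝ) : ℂ)) * T.pterm a c τ x := by
  unfold TriForm.pterm
  rw [← Complex.exp_add]
  congr 1
  have hc : (c + r • u) ⬝ᵥ toR x = c ⬝ᵥ toR x + r * (u ⬝ᵥ toR x) := by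
    rw [add_dotProduct, smul_dotProduct, smul_eq_mul]
  rw [hc]
  push_cast
  ring

theorem dterm_cons {n : ℕ} (β : ℝ) (hβ : 0 < β) (u : Fin n → ℝ) (T : TriForm n) (a c : Fin (n + 1) → ℝ) (τ : ℂ)
    (s : ℤ) (y : Fin n → ℤ) :
    (TriForm.cons β hβ u T).dterm a c τ (Fin.cons s y) =
      cexp (-π * I / τ * ((((s : ℝ) - c 0) ^ 2 / β : ℝ) : ℂ) +
          2 * π * I * (((a 0 + u ⬝ᵥ Fin.tail a) * ((s : ℝ) - c 0) : ℝ) : ℂ)) *
        T.dterm (Fin.tail a) (Fin.tail c + ((s : ℝ) - c 0) • u) τ y := by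
  unfold TriForm.dterm
  rw [← Complex.exp_add]
  congr 1
  have h0 : (toR (Fin.cons s y : Fin (n + 1) → ℤ) - c) 0 = (s : ℝ) - c 0 := by
    simp [toR]
  have htl : Fin.tail (toR (Fin.cons s y : Fin (n + 1) → ℤ) - c) = toR y - Fin.tail c := by
    rw [tail_sub, toR_tail, Fin.tail_cons]
  have hQd : (TriForm.cons β hβ u T).Qd (toR (Fin.cons s y : Fin (n + 1) → ℤ) - c) =
      ((s : ℝ) - c 0) ^ 2 / β + T.Qd (toR y - (Fin.tail c + ((s : ℝ) - c 0) • u)) := by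
    show ((toR (Fin.cons s y : Fin (n + 1) → ℤ) - c) 0) ^ 2 / β +
      T.Qd (Fin.tail (toR (Fin.cons s y : Fin (n + 1) → ℤ) - c) -
        (toR (Fin.cons s y : Fin (n + 1) → ℤ) - c) 0 • u) = _
    rw [h0, htl, sub_sub]
  have ha : a ⬝ᵥ (toR (Fin.cons s y : Fin (n + 1) → ℤ) - c) =
      a 0 * ((s : ℝ) - c 0) + Fin.tail a ⬝ᵥ (toR y - Fin.tail c) := by
    rw [dot_succ, h0, htl]
  have hb : Fin.tail a ⬝ᵥ (toR y - (Fin.tail c + ((s : ℝ) - c 0) • u)) =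
      Fin.tail a ⬝ᵥ (toR y - Fin.tail c) - ((s : ℝ) - c 0) * (u ⬝ᵥ Fin.tail a) := by
    rw [← sub_sub, dotProduct_sub, dotProduct_smul, smul_eq_mul, dotProduct_comm (Fin.tail a) u]
  rw [hQd, ha, hb]
  push_cast
  ring

end Cfsg.Agent.Lib.Helper8_TH_ALG
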