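import Mathlib
import Cfsg.Agent.Lib.Helper4_ThetaDefs

/-!
# S1632 market (helper4), package TH-G1D (helper8): one-dimensional shifted Gaussian sums are summable,
uniformly bounded in the shift.
-/

set_option autoImplicit false

open Complex Real Matrix Cfsg.Agent.Lib.Helper4_ThetaDefs

namespace Cfsg.Agent.Lib.Helper8_TH_G1D

/-- `∑ₜ exp (-c t²)` over `ℤ` is summable -/
theorem summable_gauss_int {c : ℝ} (hc : 0 < c) :
    Summable (fun t : ℤ => Real.exp (-c * (t : ℝ) ^ 2)) := by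
  have hnat : Summable (fun n : ℕ => Real.exp (-c * ((n : ℝ)) ^ 2)) := by
    refine Real.summable_exp_nat_mul_of_ge (c := -c) (by linarith) (f := fun i : ℕ => (i : ℝ) ^ 2) ?_
    intro i
    have h1 : (i : ℝ) ≤ (i : ℝ) ^ 2 := by
      rcases Nat.eq_zero_or_pos i with h | h
      · subst h; simp
      · have : (1 : ℝ) ≤ i := by exact_mod_cast h
        nlinarith
    exact h1
  rw [summable_int_iff_summable_nat_and_neg]
  refine ⟨by simpa using hnat, ?_⟩
  refine hnat.congr (fun n => ?_)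
  simp

/-- the key estimate: for `|s| ≤ 1/2` the shifted Gaussian is dominated by a centred one -/
theorem gauss_le {b : ℝ} (hb : 0 < b) {s : ℝ} (hs : |s| ≤ 1 / 2) (t : ℤ) :
    Real.exp (-b * ((t : ℝ) + s) ^ 2) ≤ Real.exp (-(b / 4) * (t : ℝ) ^ 2) := by
  apply Real.exp_le_exp.mpr
  have hs1 := abs_le.mp hs
  have key : (t : ℝ) ^ 2 / 4 ≤ ((t : ℝ) + s) ^ 2 := by
    rcases eq_or_ne t 0 with h | h
    · subst h
      simp
      positivity
    · have h1 : (1 : ℝ) ≤ |(t : ℝ)| := by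
        have : (1 : ℤ) ≤ |t| := Int.one_le_abs h
        exact_mod_cast this
      rcases le_or_gt 0 (t : ℝ) with ht | ht
      · rw [abs_of_nonneg ht] at h1
        nlinarith
      · rw [abs_of_neg ht] at h1
        nlinarith
  nlinarith

/-- TH-G1D (S/M).  One-dimensional shifted Gaussian sums are summable, uniformly bounded in the shift. -/
theorem g1d {b : ℝ} (hb : 0 < b) :
    ∃ M : ℝ, ∀ s : ℝ, Summable (fun t : ℤ => Real.exp (-b * ((t : ℝ) + s) ^ 2)) ∧
      ∑' t : ℤ, Real.exp (-b * ((t : ℝ) + s) ^ 2) ≤ M := by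
  have hg : Summable (fun t : ℤ => Real.exp (-(b / 4) * (t : ℝ) ^ 2)) :=
    summable_gauss_int (by positivity)
  refine ⟨∑' t : ℤ, Real.exp (-(b / 4) * (t : ℝ) ^ 2), fun s => ?_⟩
  -- reduce to `|s'| ≤ 1/2`
  set t₀ : ℤ := round s with ht₀
  set s' : ℝ := s - t₀ with hs'
  have hs'abs : |s'| ≤ 1 / 2 := abs_sub_round s
  have hre : (fun t : ℤ => Real.exp (-b * ((t : ℝ) + s) ^ 2)) =
      (fun t : ℤ => Real.exp (-b * ((t : ℝ) + s') ^ 2)) ∘ (Equiv.addRight t₀) := by
    funext t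
    simp only [Function.comp_apply, Equiv.coe_addRight, hs']
    push_cast
    congr 2
    ring
  have hsum' : Summable (fun t : ℤ => Real.exp (-b * ((t : ℝ) + s') ^ 2)) :=
    Summable.of_nonneg_of_le (fun t => (Real.exp_pos _).le) (fun t => gauss_le hb hs'abs t) hg
  constructor
  · rw [hre]
    exact (Equiv.summable_iff (Equiv.addRight t₀)).mpr hsum'
  · have e : ∑' t : ℤ, Real.exp (-b * ((t : ℝ) + s) ^ 2) =
        ∑' t : ℤ, Real.exp (-b * ((t : ℝ) + s') ^ 2) := by
      rw [hre]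
      exact (Equiv.addRight t₀).tsum_eq (fun t : ℤ => Real.exp (-b * ((t : ℝ) + s') ^ 2))
    rw [e]
    exact hsum'.tsum_le_tsum (fun t => gauss_le hb hs'abs t) hg

end Cfsg.Agent.Lib.Helper8_TH_G1D
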