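import Mathlib
import Cfsg.Agent.Lib.Helper4_ThetaDefs
import Cfsg.Agent.Lib.Helper8_TH_G1D
import Cfsg.Agent.Lib.Helper10_TH_USUMQ
import Cfsg.Agent.Lib.Helper78_TH_USUMQD
import Cfsg.Agent.Lib.Helper78_TH_POIS1
import Cfsg.Agent.Lib.Helper8_TH_ALG

set_option autoImplicit false

/-!
# Layer-1 tools of the theta series development (helper4, row S1632)

Restatement, under one namespace, of the packages G1D (helper8), USUMQ (helper10), USUMQD, POIS1 (helper78),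
ALG (helper8), with the one-dimensional hypothesis of USUMQ / USUMQD discharged.
-/

open Complex Real Matrix Cfsg.Agent.Lib.Helper4_ThetaDefs

namespace Cfsg.Agent.Lib.Helper4_ThetaTools

theorem g1d {b : ℝ} (hb : 0 < b) :
    ∃ M : ℝ, ∀ s : ℝ, Summable (fun t : ℤ => Real.exp (-b * ((t : ℝ) + s) ^ 2)) ∧
      ∑' t : ℤ, Real.exp (-b * ((t : ℝ) + s) ^ 2) ≤ M :=
  Cfsg.Agent.Lib.Helper8_TH_G1D.g1d hb

theorem usum_Q' {n : ℕ} (T : TriForm n) {κ : ℝ} (hκ : 0 < κ) :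
    ∃ M : ℝ, ∀ c : Fin n → ℝ, Summable (fun y : Fin n → ℤ => Real.exp (-κ * T.Q (toR y + c))) ∧
      ∑' y : Fin n → ℤ, Real.exp (-κ * T.Q (toR y + c)) ≤ M :=
  Cfsg.Agent.Lib.Helper10_TH_USUMQ.usum_Q (fun _ hb => g1d hb) T hκ

theorem usum_Qd' {n : ℕ} (T : TriForm n) {κ : ℝ} (hκ : 0 < κ) :
    ∃ M : ℝ, ∀ c : Fin n → ℝ, Summable (fun y : Fin n → ℤ => Real.exp (-κ * T.Qd (toR y + c))) ∧
      ∑' y : Fin n → ℤ, Real.exp (-κ * T.Qd (toR y + c)) ≤ M :=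
  Cfsg.Agent.Lib.Helper78_TH_USUMQD.usum_Qd (fun _ hb => g1d hb) T hκ

theorem pois1 {β : ℝ} (hβ : 0 < β) (α γ : ℝ) {τ : ℂ} (hτ : 0 < τ.im) :
    HasSum (fun s : ℤ => (1 / (-I * τ) ^ (1 / 2 : ℂ)) * (((Real.sqrt β)⁻¹ : ℝ) : ℂ) *
        cexp (-π * I / τ * ((((s : ℝ) - γ) ^ 2 / β : ℝ) : ℂ) +
          2 * π * I * ((α * ((s : ℝ) - γ) : ℝ) : ℂ)))
      (∑' t : ℤ, cexp (π * I * τ * ((β * ((t : ℝ) + α) ^ 2 : ℝ) : ℂ) +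
          2 * π * I * ((γ * (t : ℝ) : ℝ) : ℂ))) :=
  Cfsg.Agent.Lib.Helper78_TH_POIS1.pois1 hβ α γ hτ

theorem norm_pterm {n : ℕ} (T : TriForm n) (a c : Fin n → ℝ) (τ : ℂ) (x : Fin n → ℤ) :
    ‖T.pterm a c τ x‖ = Real.exp (-(π * τ.im) * T.Q (toR x + a)) :=
  Cfsg.Agent.Lib.Helper8_TH_ALG.norm_pterm T a c τ x

theorem norm_dterm {n : ℕ} (T : TriForm n) (a c : Fin n → ℝ) (τ : ℂ) (y : Fin n → ℤ) :
    ‖T.dterm a c τ y‖ = Real.exp (-(π * (τ.im / Complex.normSq τ)) * T.Qd (toR y - c)) :=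
  Cfsg.Agent.Lib.Helper8_TH_ALG.norm_dterm T a c τ y

theorem pterm_cons {n : ℕ} (β : ℝ) (hβ : 0 < β) (u : Fin n → ℝ) (T : TriForm n) (a c : Fin (n + 1) → ℝ) (τ : ℂ)
    (x : Fin (n + 1) → ℤ) :
    (TriForm.cons β hβ u T).pterm a c τ x =
      cexp (π * I * τ * ((β * ((x 0 : ℝ) + (a 0 + u ⬝ᵥ (toR (Fin.tail x) + Fin.tail a))) ^ 2 : ℝ) : ℂ) +
          2 * π * I * ((c 0 * (x 0 : ℝ) : ℝ) : ℂ)) *
        T.pterm (Fin.tail a) (Fin.tail c) τ (Fin.tail x) :=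
  Cfsg.Agent.Lib.Helper8_TH_ALG.pterm_cons β hβ u T a c τ x

theorem pterm_shift {n : ℕ} (T : TriForm n) (a c u : Fin n → ℝ) (r : ℝ) (τ : ℂ) (x : Fin n → ℤ) :
    T.pterm a (c + r • u) τ x = cexp (2 * π * I * ((r * (u ⬝ᵥ toR x) : ℝ) : ℂ)) * T.pterm a c τ x :=
  Cfsg.Agent.Lib.Helper8_TH_ALG.pterm_shift T a c u r τ x

theorem dterm_cons {n : ℕ} (β : ℝ) (hβ : 0 < β) (u : Fin n → ℝ) (T : TriForm n) (a c : Fin (n + 1) → ℝ) (τ : ℂ)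
    (s : ℤ) (y : Fin n → ℤ) :
    (TriForm.cons β hβ u T).dterm a c τ (Fin.cons s y) =
      cexp (-π * I / τ * ((((s : ℝ) - c 0) ^ 2 / β : ℝ) : ℂ) +
          2 * π * I * (((a 0 + u ⬝ᵥ Fin.tail a) * ((s : ℝ) - c 0) : ℝ) : ℂ)) *
        T.dterm (Fin.tail a) (Fin.tail c + ((s : ℝ) - c 0) • u) τ y :=
  Cfsg.Agent.Lib.Helper8_TH_ALG.dterm_cons β hβ u T a c τ s y

end Cfsg.Agent.Lib.Helper4_ThetaTools
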