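import Mathlib
import Cfsg.Agent.Lib.Helper4_ThetaDefs

/-!
# S1632 package TH-DUALGRAD (architect helper4): `Qd (grad v) = Q v` and `grad v = A *ᵥ v`
-/

set_option autoImplicit false

open Complex Real Matrix Cfsg.Agent.Lib.Helper4_ThetaDefs

namespace Cfsg.Agent.Lib.Helper55_TH_DUALGRAD

theorem Qd_grad {n : ℕ} (T : TriForm n) (v : Fin n → ℝ) : T.Qd (T.grad v) = T.Q v := by
  revert v
  induction T with
  | nil => intro v; simp only [TriForm.Qd, TriForm.Q]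
  | cons β hβ u T ih =>
    intro v
    simp only [TriForm.Qd, TriForm.grad, TriForm.Q, Fin.cons_zero, Fin.tail_cons,
      add_sub_cancel_left, ih]
    have : β ≠ 0 := ne_of_gt hβ
    field_simp

/-- the polar identity for triangular data -/
theorem grad_dotProduct {n : ℕ} (T : TriForm n) (v w : Fin n → ℝ) :
    T.grad v ⬝ᵥ w = (T.Q (v + w) - T.Q v - T.Q w) / 2 := by
  revert v w
  induction T with
  | nil => intro v w; simp [TriForm.Q, dotProduct]
  | cons β hβ u T ih =>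
    intro v w
    have htail : Fin.tail (v + w) = Fin.tail v + Fin.tail w := rfl
    have h1 : (Fin.cons (β * (v 0 + u ⬝ᵥ Fin.tail v))
        ((β * (v 0 + u ⬝ᵥ Fin.tail v)) • u + T.grad (Fin.tail v)) : Fin (_ + 1) → ℝ) ⬝ᵥ w =
        (β * (v 0 + u ⬝ᵥ Fin.tail v)) * w 0 +
          ((β * (v 0 + u ⬝ᵥ Fin.tail v)) • u + T.grad (Fin.tail v)) ⬝ᵥ Fin.tail w := by
      simp only [dotProduct, Fin.sum_univ_succ, Fin.cons_zero, Fin.cons_succ, Fin.tail]
    simp only [TriForm.grad, TriForm.Q]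
    rw [h1, htail, add_dotProduct, smul_dotProduct, ih, dotProduct_add, Pi.add_apply, smul_eq_mul]
    ring

theorem grad_eq_mulVec {n : ℕ} (T : TriForm n) (A : Matrix (Fin n) (Fin n) ℝ) (hA : A.IsSymm)
    (h : ∀ v : Fin n → ℝ, T.Q v = v ⬝ᵥ A *ᵥ v) (v : Fin n → ℝ) : T.grad v = A *ᵥ v := by
  apply dotProduct_eq
  intro w
  rw [grad_dotProduct, h, h, h]
  have hs : v ⬝ᵥ A *ᵥ w = (A *ᵥ v) ⬝ᵥ w := by
    rw [dotProduct_mulVec, ← mulVec_transpose, hA.eq]
  have hs' : w ⬝ᵥ A *ᵥ v = (A *ᵥ v) ⬝ᵥ w := dotProduct_comm _ _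
  rw [mulVec_add, add_dotProduct, dotProduct_add, dotProduct_add, hs, hs']
  ring

end Cfsg.Agent.Lib.Helper55_TH_DUALGRAD
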