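import Mathlib
import Cfsg.Agent.Lib.Helper4_ThetaDefs

/-!
# S1632 package TH-LDL (architect helper4): `exists_triForm`

Every positive definite real symmetric matrix has triangular (`LDLᵀ`) data: induction on the size with the
Schur complement.
-/

set_option autoImplicit false

open Complex Real Matrix Cfsg.Agent.Lib.Helper4_ThetaDefs

namespace Cfsg.Agent.Lib.Helper71_TH_LDL

/-- the Schur complement identity -/
theorem schur_identity {n : ℕ} (A : Matrix (Fin (n + 1)) (Fin (n + 1)) ℝ) (hA : A.IsSymm) (β : ℝ)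
    (u : Fin n → ℝ) (hβ : A 0 0 = β) (hu : ∀ k : Fin n, A 0 k.succ = β * u k)
    (v : Fin (n + 1) → ℝ) :
    v ⬝ᵥ A *ᵥ v = β * (v 0 + u ⬝ᵥ Fin.tail v) ^ 2 +
      Fin.tail v ⬝ᵥ (Matrix.of fun i j : Fin n => A i.succ j.succ - β * u i * u j) *ᵥ Fin.tail v := by
  have hsym : ∀ i : Fin n, A i.succ 0 = β * u i := fun i => by
    rw [← hu i]; exact hA.apply 0 i.succ
  simp only [dotProduct, mulVec, Fin.sum_univ_succ, Fin.tail, Matrix.of_apply, hβ, hu, hsym]
  obtain ⟨D, hD⟩ : ∃ D : ℝ, D = ∑ j : Fin n, u j * v j.succ := ⟨_, rfl⟩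
  obtain ⟨M, hM⟩ : ∃ M : ℝ, M = ∑ i : Fin n, v i.succ * ∑ j : Fin n, A i.succ j.succ * v j.succ :=
    ⟨_, rfl⟩
  have e1 : ∑ j : Fin n, β * u j * v j.succ = β * D := by
    rw [hD, Finset.mul_sum]
    apply Finset.sum_congr rfl
    intro j _
    ring
  have e2 : ∑ i : Fin n, v i.succ * (β * u i * v 0 + ∑ j : Fin n, A i.succ j.succ * v j.succ) =
      β * v 0 * D + M := by
    simp only [mul_add, Finset.sum_add_distrib]
    rw [hM, hD, Finset.mul_sum]
    congr 1
    apply Finset.sum_congr rfl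
    intro j _
    ring
  have e3 : ∑ i : Fin n, v i.succ * ∑ j : Fin n, (A i.succ j.succ - β * u i * u j) * v j.succ =
      M - β * D * D := by
    have h1 : ∀ i : Fin n, v i.succ * ∑ j : Fin n, (A i.succ j.succ - β * u i * u j) * v j.succ =
        v i.succ * ∑ j : Fin n, A i.succ j.succ * v j.succ - β * D * (u i * v i.succ) := by
      intro i
      have h2 : ∑ j : Fin n, β * u i * u j * v j.succ = β * u i * D := by
        rw [hD, Finset.mul_sum]
        apply Finset.sum_congr rfl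
        intro j _
        ring
      simp only [sub_mul, Finset.sum_sub_distrib]
      rw [h2]
      ring
    simp only [h1, Finset.sum_sub_distrib]
    rw [← Finset.mul_sum, ← hM, ← hD]
  rw [e1, e2, e3, ← hD]
  ring

/-- **TH-LDL**. -/
theorem exists_triForm {n : ℕ} (A : Matrix (Fin n) (Fin n) ℝ) (hA : A.IsSymm)
    (hpos : ∀ v : Fin n → ℝ, v ≠ 0 → 0 < v ⬝ᵥ A *ᵥ v) :
    ∃ T : TriForm n, ∀ v : Fin n → ℝ, T.Q v = v ⬝ᵥ A *ᵥ v := by
  induction n with
  | zero =>
    refine ⟨TriForm.nil, fun v => ?_⟩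
    simp [TriForm.Q, dotProduct]
  | succ n ih =>
    obtain ⟨β, hβ⟩ : ∃ β : ℝ, A 0 0 = β := ⟨_, rfl⟩
    have hβpos : 0 < β := by
      have h1 := hpos (Pi.single 0 1) (by
        intro h
        have := congrFun h 0
        simp at this)
      rw [single_one_dotProduct, mulVec_single_one] at h1
      rw [← hβ]
      exact h1
    obtain ⟨u, hu⟩ : ∃ u : Fin n → ℝ, ∀ k : Fin n, A 0 k.succ = β * u k :=
      ⟨fun k => A 0 k.succ / β, fun k => by field_simp⟩
    obtain ⟨A', hA'⟩ : ∃ A' : Matrix (Fin n) (Fin n) ℝ,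
        A' = Matrix.of fun i j : Fin n => A i.succ j.succ - β * u i * u j := ⟨_, rfl⟩
    have hid := schur_identity A hA β u hβ hu
    rw [← hA'] at hid
    have hA's : A'.IsSymm := by
      ext i j
      rw [Matrix.transpose_apply, hA', Matrix.of_apply, Matrix.of_apply, hA.apply j.succ i.succ]
      ring
    have hA'pos : ∀ w : Fin n → ℝ, w ≠ 0 → 0 < w ⬝ᵥ A' *ᵥ w := by
      intro w hw
      have hv : (Fin.cons (-(u ⬝ᵥ w)) w : Fin (n + 1) → ℝ) ≠ 0 := by
        intro h
        apply hw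
        funext i
        have := congrFun h i.succ
        simpa using this
      have h1 := hpos _ hv
      rw [hid, Fin.cons_zero, Fin.tail_cons, neg_add_cancel] at h1
      simpa using h1
    obtain ⟨T', hT'⟩ := ih A' hA's hA'pos
    refine ⟨TriForm.cons β hβpos u T', fun v => ?_⟩
    rw [hid v, ← hT']
    rfl

end Cfsg.Agent.Lib.Helper71_TH_LDL
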