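import Mathlib
import Cfsg.Agent.Lib.Helper4_ThetaDefs

set_option autoImplicit false

/-!
# TH-PDREAL (helper89, for helper4's row S1632): an integral form which is positive on `ℤⁿ \ 0` and
nonsingular is positive definite over `ℝ`
-/

open Complex Real Matrix Cfsg.Agent.Lib.Helper4_ThetaDefs

namespace Cfsg.Agent.Lib.Helper89_TH_PDREAL

/-- the real form at an integral vector -/
theorem form_intCast {n : ℕ} (B : Matrix (Fin n) (Fin n) ℤ) (x : Fin n → ℤ) :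
    (fun i => (x i : ℝ)) ⬝ᵥ (B.map (Int.cast : ℤ → ℝ)) *ᵥ (fun i => (x i : ℝ)) = (qf B x : ℝ) := by
  unfold qf
  simp only [dotProduct, mulVec, Matrix.map_apply]
  push_cast
  rfl

/-- homogeneity of a quadratic form -/
theorem form_smul {n : ℕ} (A : Matrix (Fin n) (Fin n) ℝ) (d : ℝ) (v : Fin n → ℝ) :
    (d • v) ⬝ᵥ A *ᵥ (d • v) = d ^ 2 * (v ⬝ᵥ A *ᵥ v) := by
  rw [Matrix.mulVec_smul, smul_dotProduct, dotProduct_smul]
  simp only [smul_eq_mul]
  ring

/-- the integral form is nonnegative everywhere -/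
theorem qf_nonneg {n : ℕ} (B : Matrix (Fin n) (Fin n) ℤ)
    (hpos : ∀ x : Fin n → ℤ, x ≠ 0 → 0 < qf B x) (x : Fin n → ℤ) : 0 ≤ qf B x := by
  by_cases hx : x = 0
  · subst hx
    unfold qf
    simp
  · exact (hpos x hx).le

/-- clearing denominators -/
theorem exists_clear_den {n : ℕ} (q : Fin n → ℚ) :
    ∃ d : ℕ, 0 < d ∧ ∃ x : Fin n → ℤ, ∀ i, (x i : ℝ) = (d : ℝ) * (q i : ℝ) := by
  refine ⟨∏ j, (q j).den, Finset.prod_pos fun j _ => (q j).den_pos, ?_⟩
  refine ⟨fun i => (q i).num * (((∏ j, (q j).den) / (q i).den : ℕ) : ℤ), fun i => ?_⟩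
  change (((q i).num * (((∏ j, (q j).den) / (q i).den : ℕ) : ℤ) : ℤ) : ℝ) = _
  have hdvd : (q i).den ∣ ∏ j, (q j).den := Finset.dvd_prod_of_mem _ (Finset.mem_univ i)
  obtain ⟨k, hk⟩ := hdvd
  have hden : 0 < (q i).den := (q i).den_pos
  rw [hk, Nat.mul_div_cancel_left k hden]
  have hq : ((q i : ℚ) : ℝ) = ((q i).num : ℝ) / ((q i).den : ℝ) := by
    conv_lhs => rw [← Rat.num_div_den (q i)]
    push_cast
    rfl
  rw [hq]
  push_cast
  have hne : ((q i).den : ℝ) ≠ 0 := by exact_mod_cast hden.ne'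
  field_simp

/-- nonnegativity on rational vectors -/
theorem form_rat_nonneg {n : ℕ} (B : Matrix (Fin n) (Fin n) ℤ)
    (hpos : ∀ x : Fin n → ℤ, x ≠ 0 → 0 < qf B x) (q : Fin n → ℚ) :
    0 ≤ (fun i => (q i : ℝ)) ⬝ᵥ (B.map (Int.cast : ℤ → ℝ)) *ᵥ (fun i => (q i : ℝ)) := by
  obtain ⟨d, hd, x, hx⟩ := exists_clear_den q
  have hxe : (fun i => (x i : ℝ)) = (d : ℝ) • (fun i => (q i : ℝ)) := by
    funext i
    simp [hx i]
  have h1 := form_intCast B x
  rw [hxe, form_smul] at h1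
  have h2 : (0 : ℝ) ≤ (qf B x : ℝ) := by exact_mod_cast qf_nonneg B hpos x
  have hd' : (0 : ℝ) < (d : ℝ) ^ 2 := by positivity
  rw [← h1] at h2
  exact nonneg_of_mul_nonneg_right h2 hd'

/-- nonnegativity on real vectors, by density -/
theorem form_real_nonneg {n : ℕ} (B : Matrix (Fin n) (Fin n) ℤ)
    (hpos : ∀ x : Fin n → ℤ, x ≠ 0 → 0 < qf B x) (v : Fin n → ℝ) :
    0 ≤ v ⬝ᵥ (B.map (Int.cast : ℤ → ℝ)) *ᵥ v := by
  have hdense : DenseRange (Pi.map (fun _ : Fin n => ((↑) : ℚ → ℝ))) :=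
    DenseRange.piMap fun _ => Rat.denseRange_cast
  refine hdense.induction_on (p := fun v => 0 ≤ v ⬝ᵥ (B.map (Int.cast : ℤ → ℝ)) *ᵥ v) v ?_ ?_
  · apply isClosed_le continuous_const
    unfold dotProduct mulVec dotProduct
    fun_prop
  · intro q
    exact form_rat_nonneg B hpos q

theorem posDef_real {n : ℕ} (B : Matrix (Fin n) (Fin n) ℤ) (hsymm : B.IsSymm)
    (hpos : ∀ x : Fin n → ℤ, x ≠ 0 → 0 < qf B x) (hdet : B.det ≠ 0) :
    ∀ v : Fin n → ℝ, v ≠ 0 → 0 < v ⬝ᵥ (B.map (Int.cast : ℤ → ℝ)) *ᵥ v := by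
  intro v hv
  set A : Matrix (Fin n) (Fin n) ℝ := B.map (Int.cast : ℤ → ℝ) with hA
  have hAsymm : A.IsHermitian := by
    unfold Matrix.IsHermitian
    rw [Matrix.conjTranspose_eq_transpose_of_trivial, hA, ← Matrix.transpose_map, hsymm.eq]
  have hpsd : A.PosSemidef := by
    refine Matrix.PosSemidef.of_dotProduct_mulVec_nonneg hAsymm fun x => ?_
    rw [star_trivial]
    exact form_real_nonneg B hpos x
  have hdetA : A.det ≠ 0 := by
    have h1 : A = (Int.castRingHom ℝ).mapMatrix B := by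
      rw [hA, RingHom.mapMatrix_apply]
      rfl
    rw [h1, ← RingHom.map_det]
    simpa using hdet
  rcases (form_real_nonneg B hpos v).lt_or_eq with h | h
  · exact h
  · exfalso
    have h0 : star v ⬝ᵥ A *ᵥ v = 0 := by
      rw [star_trivial]; exact h.symm
    have h1 : A *ᵥ v = 0 := (hpsd.dotProduct_mulVec_zero_iff v).mp h0
    exact hdetA (Matrix.exists_mulVec_eq_zero_iff.mp ⟨v, hv, h1⟩)

end Cfsg.Agent.Lib.Helper89_TH_PDREAL
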