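import Mathlib
import Cfsg.Agent.Lib.Helper4_ThetaDefs
import Cfsg.Agent.Lib.Helper4_ThetaTools

set_option autoImplicit false

/-!
# S1632 market (architect helper4), package TH-TRIPOISSON

Poisson summation for triangular data with real characteristics, by induction on the data.
-/

open Complex Real Matrix Cfsg.Agent.Lib.Helper4_ThetaDefs Cfsg.Agent.Lib.Helper4_ThetaTools

namespace Cfsg.Agent.Lib.Helper99_TH_TRIPOISSON

/-- the primal family is summable -/
theorem summable_pterm {n : ℕ} (T : TriForm n) (a c : Fin n → ℝ) {τ : ℂ} (hτ : 0 < τ.im) :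
    Summable (T.pterm a c τ) := by
  apply Summable.of_norm
  obtain ⟨M, hM⟩ := usum_Q' T (κ := π * τ.im) (mul_pos Real.pi_pos hτ)
  have := (hM a).1
  refine this.congr ?_
  intro x
  rw [norm_pterm]

/-- the dual family is summable -/
theorem summable_dterm {n : ℕ} (T : TriForm n) (a c : Fin n → ℝ) {τ : ℂ} (hτ : 0 < τ.im) :
    Summable (T.dterm a c τ) := by
  apply Summable.of_norm
  have hns : 0 < Complex.normSq τ := by
    apply Complex.normSq_pos.mpr
    intro h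
    rw [h] at hτ
    simp at hτ
  obtain ⟨M, hM⟩ := usum_Qd' T (κ := π * (τ.im / Complex.normSq τ)) (mul_pos Real.pi_pos (div_pos hτ hns))
  have := (hM (-c)).1
  refine this.congr ?_
  intro x
  rw [norm_dterm, sub_eq_add_neg]

/-- the norm of the one-dimensional dual factor -/
theorem norm_E (τ : ℂ) (r r' : ℝ) :
    ‖cexp (-π * I / τ * (r : ℂ) + 2 * π * I * (r' : ℂ))‖ =
      Real.exp (-(π * (τ.im / Complex.normSq τ)) * r) := by
  rw [Complex.norm_exp]
  congr 1
  simp [Complex.div_re, Complex.div_im]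
  ring

/-- sums over `Fin (n+1) → ℤ` as iterated sums, head coordinate outside -/
theorem tsum_cons_head {n : ℕ} {f : (Fin (n + 1) → ℤ) → ℂ} (hf : Summable f) :
    ∑' x, f x = ∑' (s : ℤ) (y : Fin n → ℤ), f (Fin.cons s y) := by
  rw [← (Fin.consEquiv (fun _ : Fin (n + 1) => ℤ)).tsum_eq f]
  have hs : Summable (fun p : ℤ × (Fin n → ℤ) => f (Fin.consEquiv (fun _ : Fin (n + 1) => ℤ) p)) :=
    (Fin.consEquiv (fun _ : Fin (n + 1) => ℤ)).summable_iff.mpr hf
  rw [hs.tsum_prod]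
  rfl

/-- sums over `Fin (n+1) → ℤ` as iterated sums, head coordinate inside -/
theorem tsum_cons_tail {n : ℕ} {f : (Fin (n + 1) → ℤ) → ℂ} (hf : Summable f) :
    ∑' x, f x = ∑' (y : Fin n → ℤ) (s : ℤ), f (Fin.cons s y) := by
  rw [tsum_cons_head hf]
  have hs : Summable (fun p : ℤ × (Fin n → ℤ) => f (Fin.consEquiv (fun _ : Fin (n + 1) => ℤ) p)) :=
    (Fin.consEquiv (fun _ : Fin (n + 1) => ℤ)).summable_iff.mpr hf
  exact (Summable.tsum_comm (f := fun (s : ℤ) (y : Fin n → ℤ) => f (Fin.cons s y)) hs).symm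

theorem key {n : ℕ} (T : TriForm n) {τ : ℂ} (hτ : 0 < τ.im) : ∀ (a c : Fin n → ℝ),
    ∑' x : Fin n → ℤ, T.pterm a c τ x =
      (1 / (-I * τ) ^ (1 / 2 : ℂ)) ^ n * (((Real.sqrt T.disc)⁻¹ : ℝ) : ℂ) *
        ∑' y : Fin n → ℤ, T.dterm a c τ y := by
  induction T with
  | nil =>
    intro a c
    simp [TriForm.pterm, TriForm.dterm, TriForm.Q, TriForm.Qd, TriForm.disc]
  | @cons m β hβ u T ih =>
    intro a c
    have hns : 0 < Complex.normSq τ := by
      apply Complex.normSq_pos.mpr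
      intro h
      rw [h] at hτ
      simp at hτ
    -- the family on `ℤ × (Fin m → ℤ)` after the one-dimensional Poisson formula
    obtain ⟨F, hF⟩ : ∃ F : ℤ → (Fin m → ℤ) → ℂ, F = fun (s : ℤ) (x' : Fin m → ℤ) =>
        (1 / (-I * τ) ^ (1 / 2 : ℂ)) * (((Real.sqrt β)⁻¹ : ℝ) : ℂ) *
          cexp (-π * I / τ * ((((s : ℝ) - c 0) ^ 2 / β : ℝ) : ℂ) +
            2 * π * I * (((a 0 + u ⬝ᵥ Fin.tail a) * ((s : ℝ) - c 0) : ℝ) : ℂ)) *
          T.pterm (Fin.tail a) (Fin.tail c + ((s : ℝ) - c 0) • u) τ x' := ⟨_, rfl⟩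
    -- Step 2: the inner sum over the head coordinate
    have h2 : ∀ x' : Fin m → ℤ, ∑' t : ℤ, (TriForm.cons β hβ u T).pterm a c τ (Fin.cons t x') =
        ∑' s : ℤ, F s x' := by
      intro x'
      have e1 : ∀ t : ℤ, (TriForm.cons β hβ u T).pterm a c τ (Fin.cons t x') =
          cexp (π * I * τ * ((β * ((t : ℝ) + (a 0 + u ⬝ᵥ (toR x' + Fin.tail a))) ^ 2 : ℝ) : ℂ) +
            2 * π * I * ((c 0 * (t : ℝ) : ℝ) : ℂ)) * T.pterm (Fin.tail a) (Fin.tail c) τ x' := by
        intro t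
        rw [pterm_cons]
        simp only [Fin.cons_zero, Fin.tail_cons]
      simp_rw [e1]
      rw [tsum_mul_right, ← (pois1 hβ (a 0 + u ⬝ᵥ (toR x' + Fin.tail a)) (c 0) hτ).tsum_eq,
        ← tsum_mul_right]
      congr 1
      ext s
      rw [hF]
      simp only []
      rw [pterm_shift]
      have e2 : cexp (-π * I / τ * ((((s : ℝ) - c 0) ^ 2 / β : ℝ) : ℂ) +
            2 * π * I * (((a 0 + u ⬝ᵥ (toR x' + Fin.tail a)) * ((s : ℝ) - c 0) : ℝ) : ℂ)) =
          cexp (-π * I / τ * ((((s : ℝ) - c 0) ^ 2 / β : ℝ) : ℂ) +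
            2 * π * I * (((a 0 + u ⬝ᵥ Fin.tail a) * ((s : ℝ) - c 0) : ℝ) : ℂ)) *
          cexp (2 * π * I * ((((s : ℝ) - c 0) * (u ⬝ᵥ toR x') : ℝ) : ℂ)) := by
        rw [← Complex.exp_add]
        congr 1
        rw [dotProduct_add]
        push_cast
        ring
      rw [e2]
      ring
    -- Step 3: joint summability of `F`
    have h3 : Summable (Function.uncurry F) := by
      apply Summable.of_norm
      obtain ⟨M1, hM1⟩ := g1d (b := π * (τ.im / Complex.normSq τ) / β)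
        (div_pos (mul_pos Real.pi_pos (div_pos hτ hns)) hβ)
      obtain ⟨M2, hM2⟩ := usum_Q' T (κ := π * τ.im) (mul_pos Real.pi_pos hτ)
      obtain ⟨C, hC⟩ : ∃ C : ℝ, C = ‖(1 / (-I * τ) ^ (1 / 2 : ℂ)) * (((Real.sqrt β)⁻¹ : ℝ) : ℂ)‖ :=
        ⟨_, rfl⟩
      have hC0 : 0 ≤ C := by rw [hC]; exact norm_nonneg _
      have hg : Summable (fun s : ℤ => C *
          Real.exp (-(π * (τ.im / Complex.normSq τ) / β) * ((s : ℝ) + -c 0) ^ 2)) :=
        (hM1 (-c 0)).1.mul_left _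
      have hh := (hM2 (Fin.tail a)).1
      have hgh := Summable.mul_of_nonneg hg hh
        (fun s => mul_nonneg hC0 (Real.exp_pos _).le) (fun x => (Real.exp_pos _).le)
      refine hgh.congr ?_
      rintro ⟨s, x'⟩
      rw [hF]
      simp only [Function.uncurry_apply_pair]
      rw [norm_mul, norm_mul, norm_E, norm_pterm, ← hC]
      congr 2
      congr 1
      field_simp
      ring
    -- Step 4: the inner sums over `x'`
    have h4 : ∀ s : ℤ, ∑' x' : Fin m → ℤ, F s x' =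
        (1 / (-I * τ) ^ (1 / 2 : ℂ)) ^ (m + 1) * (((Real.sqrt (TriForm.cons β hβ u T).disc)⁻¹ : ℝ) : ℂ) *
          ∑' y : Fin m → ℤ, (TriForm.cons β hβ u T).dterm a c τ (Fin.cons s y) := by
      intro s
      rw [hF]
      simp only []
      rw [tsum_mul_left, ih]
      simp_rw [dterm_cons]
      rw [tsum_mul_left]
      have hd : (TriForm.cons β hβ u T).disc = β * T.disc := rfl
      rw [hd, Real.sqrt_mul hβ.le, mul_inv]
      push_cast
      ring
    -- assemble
    rw [tsum_cons_tail (summable_pterm _ a c hτ)]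
    simp_rw [h2]
    rw [Summable.tsum_comm (f := F) h3]
    simp_rw [h4]
    rw [tsum_mul_left, ← tsum_cons_head (summable_dterm _ a c hτ)]

theorem tri_poisson {n : ℕ} (T : TriForm n) (a c : Fin n → ℝ) {τ : ℂ} (hτ : 0 < τ.im) :
    Summable (T.pterm a c τ) ∧
    HasSum (fun y : Fin n → ℤ => (1 / (-I * τ) ^ (1 / 2 : ℂ)) ^ n * (((Real.sqrt T.disc)⁻¹ : ℝ) : ℂ) *
        T.dterm a c τ y)
      (∑' x : Fin n → ℤ, T.pterm a c τ x) := by
  refine ⟨summable_pterm T a c hτ, ?_⟩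
  rw [((summable_dterm T a c hτ).mul_left _).hasSum_iff, tsum_mul_left, key T hτ a c]

end Cfsg.Agent.Lib.Helper99_TH_TRIPOISSON
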