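import Mathlib
import Cfsg.Agent.Lib.Helper4_ThetaDefs
import Cfsg.Agent.Lib.Helper4_ThetaTools
import Cfsg.Agent.Lib.Helper99_TH_TRIPOISSON
import Cfsg.Agent.Lib.Helper71_TH_LDL
import Cfsg.Agent.Lib.Helper55_TH_DUALGRAD
import Cfsg.Agent.Lib.Helper89_TH_PDREAL

set_option autoImplicit false

/-!
# The theta series of an integral positive definite unimodular form: summability and the inversion law
(helper4, row S1632; assembly of the packages TRIPOISSON (helper99), LDL (helper71), DUALGRAD (helper55),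
PDREAL (helper89) and the layer-1 tools)
-/

open Complex Real Matrix Cfsg.Agent.Lib.Helper4_ThetaDefs Cfsg.Agent.Lib.Helper4_ThetaTools
open Cfsg.Agent.Lib.Helper99_TH_TRIPOISSON (tri_poisson)
open Cfsg.Agent.Lib.Helper71_TH_LDL (exists_triForm)
open Cfsg.Agent.Lib.Helper55_TH_DUALGRAD (Qd_grad grad_eq_mulVec)
open Cfsg.Agent.Lib.Helper89_TH_PDREAL (posDef_real)

namespace Cfsg.Agent.Lib.Helper4_ThetaAsm


variable {n : ℕ}

theorem qf_cast (B : Matrix (Fin n) (Fin n) ℤ) (x : Fin n → ℤ) :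
    ((qf B x : ℤ) : ℝ) = toR x ⬝ᵥ (B.map (Int.cast : ℤ → ℝ)) *ᵥ toR x := by
  simp only [qf, dotProduct, mulVec, toR, Matrix.map_apply]
  push_cast
  rfl

theorem toR_ne_zero {x : Fin n → ℤ} (hx : x ≠ 0) : toR x ≠ 0 := by
  intro h
  apply hx
  funext i
  have := congrFun h i
  simpa [toR] using this

/-- triangular data for an integral positive definite form -/
theorem exists_tri (B : Matrix (Fin n) (Fin n) ℤ) (hsymm : B.IsSymm)
    (hpos : ∀ x : Fin n → ℤ, x ≠ 0 → 0 < qf B x) (hdet : B.det ≠ 0) :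
    ∃ T : TriForm n, (∀ v : Fin n → ℝ, T.Q v = v ⬝ᵥ (B.map (Int.cast : ℤ → ℝ)) *ᵥ v) := by
  have hA : (B.map (Int.cast : ℤ → ℝ)).IsSymm := by
    ext i j
    simp only [Matrix.transpose_apply, Matrix.map_apply]
    rw [← hsymm.apply i j]
  exact exists_triForm _ hA (posDef_real B hsymm hpos hdet)


theorem norm_thetaTerm (B : Matrix (Fin n) (Fin n) ℤ) (τ : ℂ) (x : Fin n → ℤ) :
    ‖thetaTerm B τ x‖ = Real.exp (-(π * τ.im) * (qf B x : ℝ)) := by
  rw [thetaTerm, Complex.norm_exp]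
  congr 1
  have : (π * I * τ * (qf B x : ℂ)) = ((qf B x : ℝ) : ℂ) * π * (I * τ) := by
    push_cast
    ring
  rw [this]
  simp only [Complex.mul_re, Complex.ofReal_re, Complex.ofReal_im, Complex.I_re, Complex.I_im,
    Complex.mul_im]
  ring

theorem summable_exp_qf (B : Matrix (Fin n) (Fin n) ℤ) (hsymm : B.IsSymm)
    (hpos : ∀ x : Fin n → ℤ, x ≠ 0 → 0 < qf B x) (hdet : B.det ≠ 0) {κ : ℝ} (hκ : 0 < κ) :
    Summable fun x : Fin n → ℤ => Real.exp (-κ * (qf B x : ℝ)) := by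
  obtain ⟨T, hT⟩ := exists_tri B hsymm hpos hdet
  obtain ⟨M, hM⟩ := usum_Q' T hκ
  have := (hM 0).1
  refine this.congr fun x => ?_
  rw [add_zero, hT, qf_cast]

theorem summable_thetaTerm (B : Matrix (Fin n) (Fin n) ℤ) (hsymm : B.IsSymm)
    (hpos : ∀ x : Fin n → ℤ, x ≠ 0 → 0 < qf B x) (hdet : B.det ≠ 0) {τ : ℂ} (hτ : 0 < τ.im) :
    Summable (thetaTerm B τ) := by
  apply Summable.of_norm
  simp_rw [norm_thetaTerm]
  exact summable_exp_qf B hsymm hpos hdet (mul_pos Real.pi_pos hτ)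


/-- multiplication by a unimodular integral matrix as a permutation of `ℤⁿ` -/
noncomputable def mulVecEquiv (B : Matrix (Fin n) (Fin n) ℤ) (hdet : B.det = 1) :
    (Fin n → ℤ) ≃ (Fin n → ℤ) where
  toFun x := B *ᵥ x
  invFun y := B⁻¹ *ᵥ y
  left_inv x := by
    have hu : IsUnit B.det := by rw [hdet]; exact isUnit_one
    show B⁻¹ *ᵥ (B *ᵥ x) = x
    rw [Matrix.mulVec_mulVec, Matrix.nonsing_inv_mul B hu, Matrix.one_mulVec]
  right_inv y := by
    have hu : IsUnit B.det := by rw [hdet]; exact isUnit_one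
    show B *ᵥ (B⁻¹ *ᵥ y) = y
    rw [Matrix.mulVec_mulVec, Matrix.mul_nonsing_inv B hu, Matrix.one_mulVec]

theorem toR_mulVec (B : Matrix (Fin n) (Fin n) ℤ) (x : Fin n → ℤ) :
    toR (B *ᵥ x) = (B.map (Int.cast : ℤ → ℝ)) *ᵥ toR x := by
  funext i
  simp only [toR, mulVec, dotProduct, Matrix.map_apply]
  push_cast
  rfl

theorem theta_eq_const (B : Matrix (Fin n) (Fin n) ℤ) (hsymm : B.IsSymm)
    (hpos : ∀ x : Fin n → ℤ, x ≠ 0 → 0 < qf B x) (hdet : B.det = 1) :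
    ∃ C : ℝ, ∀ τ : ℂ, 0 < τ.im →
      theta B τ = (1 / (-I * τ) ^ (1 / 2 : ℂ)) ^ n * (C : ℂ) * theta B (-1 / τ) := by
  have hdet0 : B.det ≠ 0 := by rw [hdet]; exact one_ne_zero
  obtain ⟨T, hT⟩ := exists_tri B hsymm hpos hdet0
  have hA : (B.map (Int.cast : ℤ → ℝ)).IsSymm := by
    ext i j
    simp only [Matrix.transpose_apply, Matrix.map_apply]
    rw [← hsymm.apply i j]
  refine ⟨(Real.sqrt T.disc)⁻¹, fun τ hτ => ?_⟩
  have h1 := (tri_poisson T 0 0 hτ).2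
  have hp : ∀ x : Fin n → ℤ, T.pterm 0 0 τ x = thetaTerm B τ x := by
    intro x
    simp only [TriForm.pterm, thetaTerm, add_zero, zero_dotProduct, Complex.ofReal_zero, mul_zero]
    rw [hT, ← qf_cast]
    push_cast
    rfl
  have hd : ∀ x : Fin n → ℤ, T.dterm 0 0 τ (mulVecEquiv B hdet x) = thetaTerm B (-1 / τ) x := by
    intro x
    simp only [TriForm.dterm, thetaTerm, sub_zero, zero_dotProduct, Complex.ofReal_zero, mul_zero,
      add_zero, mulVecEquiv, Equiv.coe_fn_mk]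
    rw [toR_mulVec, ← grad_eq_mulVec T _ hA hT, Qd_grad, hT, ← qf_cast]
    congr 1
    push_cast
    ring
  have h2 : ∑' x : Fin n → ℤ, T.pterm 0 0 τ x = theta B τ := by
    rw [theta]
    exact tsum_congr hp
  rw [h2] at h1
  rw [← h1.tsum_eq, tsum_mul_left]
  congr 1
  rw [theta, ← (mulVecEquiv B hdet).tsum_eq]
  exact tsum_congr hd


theorem theta_I_ne_zero (B : Matrix (Fin n) (Fin n) ℤ) (hsymm : B.IsSymm)
    (hpos : ∀ x : Fin n → ℤ, x ≠ 0 → 0 < qf B x) (hdet : B.det ≠ 0) : theta B I ≠ 0 := by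
  have hs := summable_exp_qf B hsymm hpos hdet Real.pi_pos
  have hterm : ∀ x : Fin n → ℤ, thetaTerm B I x = ((Real.exp (-π * (qf B x : ℝ)) : ℝ) : ℂ) := by
    intro x
    rw [thetaTerm]
    push_cast
    congr 1
    have : (π : ℂ) * I * I = -π := by
      rw [mul_assoc, Complex.I_mul_I]
      ring
    rw [this]
  have h1 : theta B I = ((∑' x : Fin n → ℤ, Real.exp (-π * (qf B x : ℝ)) : ℝ) : ℂ) := by
    rw [theta, Complex.ofReal_tsum]
    exact tsum_congr hterm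
  rw [h1]
  have hpos' : 0 < ∑' x : Fin n → ℤ, Real.exp (-π * (qf B x : ℝ)) :=
    hs.tsum_pos (fun x => (Real.exp_pos _).le) 0 (Real.exp_pos _)
  exact_mod_cast hpos'.ne'

theorem theta_S (B : Matrix (Fin n) (Fin n) ℤ) (hsymm : B.IsSymm)
    (hpos : ∀ x : Fin n → ℤ, x ≠ 0 → 0 < qf B x) (hdet : B.det = 1) {τ : ℂ} (hτ : 0 < τ.im) :
    theta B τ = (1 / (-I * τ) ^ (1 / 2 : ℂ)) ^ n * theta B (-1 / τ) := by
  obtain ⟨C, hC⟩ := theta_eq_const B hsymm hpos hdet
  have hdet0 : B.det ≠ 0 := by rw [hdet]; exact one_ne_zero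
  have hI := hC I (by simp)
  have h1 : (-1 : ℂ) / I = I := by
    rw [neg_div, one_div, Complex.inv_I, neg_neg]
  have h2 : (-I * I : ℂ) = 1 := by
    rw [neg_mul, Complex.I_mul_I, neg_neg]
  rw [h1, h2, Complex.one_cpow, div_one, one_pow, one_mul] at hI
  have hne := theta_I_ne_zero B hsymm hpos hdet0
  have hC1 : (C : ℂ) = 1 := by
    have : (C : ℂ) * theta B I = 1 * theta B I := by rw [one_mul]; exact hI.symm
    exact mul_right_cancel₀ hne this
  rw [hC τ hτ, hC1, mul_one]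

end Cfsg.Agent.Lib.Helper4_ThetaAsm
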