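import Mathlib
import Cfsg.Agent.Lib.Helper4_ThetaDefs

/-!
# S1632 package TH-FCOEF (architect helper4): the first q-coefficients of `(7 E₄³ + 5 E₆²)/12`
-/

set_option autoImplicit false

open Complex Real Matrix Cfsg.Agent.Lib.Helper4_ThetaDefs
open UpperHalfPlane hiding I
open ModularForm SlashInvariantForm MatrixGroups ModularFormClass EisensteinSeries

namespace Cfsg.Agent.Lib.Helper55_TH_FCOEF

/-- the comparison form `(7 E₄³ + 5 E₆²) / 12` -/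
noncomputable def compForm : ModularForm 𝒮ℒ 12 :=
  (7 / 12 : ℂ) • ModularForm.mcast (by decide) (E₄.pow 3) +
    (5 / 12 : ℂ) • ModularForm.mcast (by decide) (E₆.pow 2)

theorem sig3 : ArithmeticFunction.sigma 3 1 = 1 ∧ ArithmeticFunction.sigma 3 2 = 9 ∧
    ArithmeticFunction.sigma 3 3 = 28 ∧ ArithmeticFunction.sigma 3 4 = 73 := by
  refine ⟨?_, ?_, ?_, ?_⟩ <;> (rw [ArithmeticFunction.sigma_apply]; decide)

theorem sig5 : ArithmeticFunction.sigma 5 1 = 1 ∧ ArithmeticFunction.sigma 5 2 = 33 ∧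
    ArithmeticFunction.sigma 5 3 = 244 ∧ ArithmeticFunction.sigma 5 4 = 1057 := by
  refine ⟨?_, ?_, ?_, ?_⟩ <;> (rw [ArithmeticFunction.sigma_apply]; decide)

theorem e4c (m : ℕ) : (qExpansion 1 E₄).coeff m =
    if m = 0 then 1 else 240 * (ArithmeticFunction.sigma 3 m : ℂ) := by
  rw [E_qExpansion_coeff _ ⟨2, rfl⟩ m]
  norm_num [show bernoulli 4 = -1 / 30 by decide +kernel]

theorem e6c (m : ℕ) : (qExpansion 1 E₆).coeff m =
    if m = 0 then 1 else -504 * (ArithmeticFunction.sigma 5 m : ℂ) := by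
  rw [E_qExpansion_coeff _ ⟨3, rfl⟩ m]
  norm_num [show bernoulli 6 = 1 / 42 by decide +kernel]

theorem e4_coeffs : (qExpansion 1 E₄).coeff 0 = 1 ∧ (qExpansion 1 E₄).coeff 1 = 240 ∧
    (qExpansion 1 E₄).coeff 2 = 2160 ∧ (qExpansion 1 E₄).coeff 3 = 6720 ∧
    (qExpansion 1 E₄).coeff 4 = 17520 := by
  obtain ⟨s1, s2, s3, s4⟩ := sig3
  refine ⟨?_, ?_, ?_, ?_, ?_⟩ <;> rw [e4c]
  · simp
  · rw [s1]; norm_num
  · rw [s2]; norm_num
  · rw [s3]; norm_num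
  · rw [s4]; norm_num

theorem e6_coeffs : (qExpansion 1 E₆).coeff 0 = 1 ∧ (qExpansion 1 E₆).coeff 1 = -504 ∧
    (qExpansion 1 E₆).coeff 2 = -16632 ∧ (qExpansion 1 E₆).coeff 3 = -122976 ∧
    (qExpansion 1 E₆).coeff 4 = -532728 := by
  obtain ⟨s1, s2, s3, s4⟩ := sig5
  refine ⟨?_, ?_, ?_, ?_, ?_⟩ <;> rw [e6c]
  · simp
  · rw [s1]; norm_num
  · rw [s2]; norm_num
  · rw [s3]; norm_num
  · rw [s4]; norm_num

/-- the first five coefficients of a product of power series -/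
theorem coeff_mul5 (f g : PowerSeries ℂ) :
    (f * g).coeff 0 = f.coeff 0 * g.coeff 0 ∧
    (f * g).coeff 1 = f.coeff 0 * g.coeff 1 + f.coeff 1 * g.coeff 0 ∧
    (f * g).coeff 2 = f.coeff 0 * g.coeff 2 + f.coeff 1 * g.coeff 1 + f.coeff 2 * g.coeff 0 ∧
    (f * g).coeff 3 = f.coeff 0 * g.coeff 3 + f.coeff 1 * g.coeff 2 + f.coeff 2 * g.coeff 1 +
      f.coeff 3 * g.coeff 0 ∧
    (f * g).coeff 4 = f.coeff 0 * g.coeff 4 + f.coeff 1 * g.coeff 3 + f.coeff 2 * g.coeff 2 +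
      f.coeff 3 * g.coeff 1 + f.coeff 4 * g.coeff 0 := by
  refine ⟨?_, ?_, ?_, ?_, ?_⟩ <;>
    · rw [PowerSeries.coeff_mul]
      simp [Finset.Nat.antidiagonal_succ, -PowerSeries.coeff_zero_eq_constantCoeff]
      try ring

theorem compForm_qExpansion : qExpansion 1 compForm =
    (7 / 12 : ℂ) • (qExpansion 1 E₄ * qExpansion 1 E₄ * qExpansion 1 E₄) +
      (5 / 12 : ℂ) • (qExpansion 1 E₆ * qExpansion 1 E₆) := by
  have h1 : (⇑compForm : ℍ → ℂ) =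
      ⇑((7 / 12 : ℂ) • ModularForm.mcast (by decide : (4 : ℤ) * ((3 : ℕ) : ℤ) = 12) (E₄.pow 3)) +
        ⇑((5 / 12 : ℂ) • ModularForm.mcast (by decide : (6 : ℤ) * ((2 : ℕ) : ℤ) = 12) (E₆.pow 2)) := rfl
  rw [h1, ModularForm.qExpansion_add one_pos one_mem_strictPeriods_SL]
  have h2 : ∀ (a : ℂ) (f : ModularForm 𝒮ℒ 12), (⇑(a • f) : ℍ → ℂ) = a • ⇑f := fun a f => rfl
  rw [h2, h2, ModularForm.qExpansion_smul one_pos one_mem_strictPeriods_SL,
    ModularForm.qExpansion_smul one_pos one_mem_strictPeriods_SL, coe_mcast, coe_mcast,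
    ModularForm.qExpansion_pow one_pos one_mem_strictPeriods_SL,
    ModularForm.qExpansion_pow one_pos one_mem_strictPeriods_SL]
  rw [pow_succ, pow_succ, pow_one, pow_succ, pow_one]

theorem compForm_coeff :
    (qExpansion 1 compForm).coeff 0 = 1 ∧ (qExpansion 1 compForm).coeff 1 = 0 ∧
    (qExpansion 1 compForm).coeff 2 = 196560 ∧ (qExpansion 1 compForm).coeff 3 = 16773120 ∧
    (qExpansion 1 compForm).coeff 4 = 398034000 := by
  obtain ⟨a0, a1, a2, a3, a4⟩ := e4_coeffs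
  obtain ⟨b0, b1, b2, b3, b4⟩ := e6_coeffs
  obtain ⟨c0, c1, c2, c3, c4⟩ := coeff_mul5 (qExpansion 1 E₄) (qExpansion 1 E₄)
  simp only [a0, a1, a2, a3, a4] at c0 c1 c2 c3 c4
  obtain ⟨d0, d1, d2, d3, d4⟩ := coeff_mul5 (qExpansion 1 E₄ * qExpansion 1 E₄) (qExpansion 1 E₄)
  simp only [c0, c1, c2, c3, c4, a0, a1, a2, a3, a4] at d0 d1 d2 d3 d4
  obtain ⟨f0, f1, f2, f3, f4⟩ := coeff_mul5 (qExpansion 1 E₆) (qExpansion 1 E₆)
  simp only [b0, b1, b2, b3, b4] at f0 f1 f2 f3 f4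
  rw [compForm_qExpansion]
  refine ⟨?_, ?_, ?_, ?_, ?_⟩
  · rw [map_add, PowerSeries.coeff_smul, PowerSeries.coeff_smul, d0, f0]; norm_num
  · rw [map_add, PowerSeries.coeff_smul, PowerSeries.coeff_smul, d1, f1]; norm_num
  · rw [map_add, PowerSeries.coeff_smul, PowerSeries.coeff_smul, d2, f2]; norm_num
  · rw [map_add, PowerSeries.coeff_smul, PowerSeries.coeff_smul, d3, f3]; norm_num
  · rw [map_add, PowerSeries.coeff_smul, PowerSeries.coeff_smul, d4, f4]; norm_num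

end Cfsg.Agent.Lib.Helper55_TH_FCOEF
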