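import Mathlib
import Cfsg.Agent.Lib.Helper4_ThetaDefs

/-!
# S1632 package TH-QEXP (architect helper4): the theta series regrouped by the fibres `qf B x = 2 m`
-/

set_option autoImplicit false

open Complex Real Matrix Cfsg.Agent.Lib.Helper4_ThetaDefs

namespace Cfsg.Agent.Lib.Helper70_TH_QEXP

/-- the fibres of the quadratic form are finite -/
theorem fibre_finite {n : ℕ} (B : Matrix (Fin n) (Fin n) ℤ)
    (hsum : Summable fun x : Fin n → ℤ => Real.exp (-1 * (qf B x : ℝ))) (k : ℤ) :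
    {x : Fin n → ℤ | qf B x = k}.Finite := by
  have h1 := hsum.tendsto_cofinite_zero
  have h2 : ∀ᶠ x in Filter.cofinite,
      Real.exp (-1 * (qf B x : ℝ)) < Real.exp (-1 * (k : ℝ)) :=
    h1.eventually (gt_mem_nhds (Real.exp_pos _))
  rw [Filter.eventually_cofinite] at h2
  apply h2.subset
  intro x hx
  simp only [Set.mem_ofPred_eq] at hx ⊢
  rw [hx]
  exact lt_irrefl _

/-- the norm of a term of the theta series -/
theorem norm_thetaTerm {n : ℕ} (B : Matrix (Fin n) (Fin n) ℤ) (τ : ℂ) (x : Fin n → ℤ) :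
    ‖thetaTerm B τ x‖ = Real.exp (-(π * τ.im) * (qf B x : ℝ)) := by
  rw [thetaTerm, Complex.norm_exp]
  congr 1
  simp only [Complex.mul_re, Complex.mul_im, Complex.ofReal_re, Complex.ofReal_im, Complex.I_re,
    Complex.I_im, Complex.intCast_re, Complex.intCast_im]
  ring

/-- the theta series is summable on the upper half plane -/
theorem summable_thetaTerm {n : ℕ} (B : Matrix (Fin n) (Fin n) ℤ)
    (hsum : ∀ κ : ℝ, 0 < κ → Summable fun x : Fin n → ℤ => Real.exp (-κ * (qf B x : ℝ)))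
    {τ : ℂ} (hτ : 0 < τ.im) : Summable (thetaTerm B τ) := by
  apply Summable.of_norm
  simp_rw [norm_thetaTerm]
  exact hsum (π * τ.im) (mul_pos Real.pi_pos hτ)

theorem theta_hasSum_q {n : ℕ} (B : Matrix (Fin n) (Fin n) ℤ)
    (hnonneg : ∀ x : Fin n → ℤ, 0 ≤ qf B x) (heven : ∀ x : Fin n → ℤ, (2 : ℤ) ∣ qf B x)
    (hsum : ∀ κ : ℝ, 0 < κ → Summable fun x : Fin n → ℤ => Real.exp (-κ * (qf B x : ℝ)))
    {τ : ℂ} (hτ : 0 < τ.im) :
    HasSum (fun m : ℕ => (rep B (2 * (m : ℤ)) : ℂ) * cexp (2 * π * I * τ) ^ m) (theta B τ) := by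
  classical
  have hS : HasSum (thetaTerm B τ) (theta B τ) := (summable_thetaTerm B hsum hτ).hasSum
  -- the fibre map
  obtain ⟨f, hf⟩ : ∃ f : (Fin n → ℤ) → ℕ, ∀ x, qf B x = 2 * (f x : ℤ) := by
    refine ⟨fun x => (qf B x / 2).toNat, fun x => ?_⟩
    obtain ⟨k, hk⟩ := heven x
    have hk0 : 0 ≤ k := by have := hnonneg x; omega
    show qf B x = 2 * (((qf B x / 2).toNat : ℕ) : ℤ)
    rw [hk, Int.mul_ediv_cancel_left _ (by norm_num : (2 : ℤ) ≠ 0), Int.toNat_of_nonneg hk0]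
  have hfib : ∀ (m : ℕ) (x : Fin n → ℤ), f x = m ↔ qf B x = 2 * (m : ℤ) := by
    intro m x
    constructor
    · intro h; rw [hf x, h]
    · intro h; have := hf x; omega
  have hS' : HasSum (fun p : Σ m : ℕ, {x // f x = m} =>
      thetaTerm B τ (Equiv.sigmaFiberEquiv f p)) (theta B τ) :=
    (Equiv.sigmaFiberEquiv f).hasSum_iff.mpr hS
  refine HasSum.sigma hS' ?_
  intro m
  have hfin : Finite {x // f x = m} := by
    have h1 := fibre_finite B (hsum 1 one_pos) (2 * (m : ℤ))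
    have h2 : {x : Fin n → ℤ | f x = m} = {x | qf B x = 2 * (m : ℤ)} := by
      ext x; exact hfib m x
    rw [← h2] at h1
    exact h1
  have : Fintype {x // f x = m} := Fintype.ofFinite _
  have hval : ∀ c : {x // f x = m},
      thetaTerm B τ (Equiv.sigmaFiberEquiv f ⟨m, c⟩) = cexp (2 * π * I * τ) ^ m := by
    intro c
    show thetaTerm B τ (c : Fin n → ℤ) = cexp (2 * π * I * τ) ^ m
    rw [thetaTerm, (hfib m c).mp c.2, ← Complex.exp_nat_mul]
    congr 1
    push_cast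
    ring
  simp_rw [hval]
  have hcard : (rep B (2 * (m : ℤ)) : ℂ) * cexp (2 * π * I * τ) ^ m =
      ∑ _c : {x // f x = m}, cexp (2 * π * I * τ) ^ m := by
    rw [Finset.sum_const, Finset.card_univ, nsmul_eq_mul]
    congr 2
    rw [rep, ← Nat.card_coe_set_eq, ← Nat.card_eq_fintype_card]
    exact Nat.card_congr (Equiv.subtypeEquivRight (fun x => (hfib m x).symm))
  rw [hcard]
  exact hasSum_fintype _

end Cfsg.Agent.Lib.Helper70_TH_QEXP
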