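import Mathlib
import Cfsg.Agent.Lib.Helper4_ThetaDefs

set_option autoImplicit false

/-!
# TH-HOLO (helper89, for helper4's row S1632): the theta series is holomorphic on the upper half plane
-/

open Complex Real Matrix Cfsg.Agent.Lib.Helper4_ThetaDefs

namespace Cfsg.Agent.Lib.Helper89_TH_HOLO

/-- the norm of a term of the theta series -/
theorem norm_thetaTerm {n : ℕ} (B : Matrix (Fin n) (Fin n) ℤ) (z : ℂ) (x : Fin n → ℤ) :
    ‖thetaTerm B z x‖ = Real.exp (-(π * z.im) * (qf B x : ℝ)) := by
  unfold thetaTerm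
  rw [Complex.norm_exp]
  congr 1
  have h : ((qf B x : ℤ) : ℂ) = (((qf B x : ℤ) : ℝ) : ℂ) := by push_cast; rfl
  rw [h]
  simp only [Complex.mul_re, Complex.mul_im, Complex.ofReal_re, Complex.ofReal_im, Complex.I_re,
    Complex.I_im]
  ring

/-- each term of the theta series is entire -/
theorem differentiable_thetaTerm {n : ℕ} (B : Matrix (Fin n) (Fin n) ℤ) (x : Fin n → ℤ) :
    Differentiable ℂ (fun z : ℂ => thetaTerm B z x) := by
  unfold thetaTerm
  fun_prop

theorem theta_differentiableOn {n : ℕ} (B : Matrix (Fin n) (Fin n) ℤ)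
    (hnonneg : ∀ x : Fin n → ℤ, 0 ≤ qf B x)
    (hsum : ∀ κ : ℝ, 0 < κ → Summable fun x : Fin n → ℤ => Real.exp (-κ * (qf B x : ℝ))) :
    DifferentiableOn ℂ (theta B) {z : ℂ | 0 < z.im} := by
  intro z hz
  have hz' : 0 < z.im := hz
  set δ : ℝ := z.im / 2 with hδ
  have hδpos : 0 < δ := by positivity
  have hU : IsOpen {w : ℂ | δ < w.im} := isOpen_lt continuous_const Complex.continuous_im
  have hzU : z ∈ {w : ℂ | δ < w.im} := by
    change δ < z.im
    rw [hδ]; linarith
  have hκ : 0 < π * δ := by positivity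
  have key : DifferentiableOn ℂ (fun w : ℂ => ∑' x : Fin n → ℤ, thetaTerm B w x)
      {w : ℂ | δ < w.im} := by
    refine differentiableOn_tsum_of_summable_norm (hsum (π * δ) hκ)
      (fun x => (differentiable_thetaTerm B x).differentiableOn) hU ?_
    intro x w hw
    have hw' : δ < w.im := hw
    rw [norm_thetaTerm]
    apply Real.exp_le_exp.mpr
    have hq : (0 : ℝ) ≤ (qf B x : ℝ) := by exact_mod_cast hnonneg x
    have h1 : π * δ ≤ π * w.im := by
      apply mul_le_mul_of_nonneg_left hw'.le Real.pi_pos.le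
    nlinarith
  have : DifferentiableAt ℂ (theta B) z := by
    have := key.differentiableAt (hU.mem_nhds hzU)
    exact this
  exact this.differentiableWithinAt

end Cfsg.Agent.Lib.Helper89_TH_HOLO
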