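import Mathlib
import Cfsg.Agent.Lib.Helper4_ThetaDefs
import Cfsg.Agent.Lib.Helper4_ThetaAsm
import Cfsg.Agent.Lib.Helper89_TH_HOLO
import Cfsg.Agent.Lib.Helper70_TH_QEXP
import Cfsg.Agent.Lib.Helper10_TH_BDD
import Cfsg.Agent.Lib.Helper55_TH_FCOEF

set_option autoImplicit false

/-!
# The theta series of an even unimodular lattice of rank 24 as a modular form of weight 12 and level 1
(helper4, row S1632): modularity, q-expansion, comparison with `(7 E₄³ + 5 E₆²) / 12` by the Sturm bound,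
and the representation numbers of 4, 6, 8 when 2 is not represented.
-/

open Complex Real Matrix Cfsg.Agent.Lib.Helper4_ThetaDefs Cfsg.Agent.Lib.Helper4_ThetaAsm
open UpperHalfPlane hiding I
open ModularForm SlashInvariantForm MatrixGroups ModularFormClass EisensteinSeries
open Cfsg.Agent.Lib.Helper89_TH_HOLO (theta_differentiableOn)
open Cfsg.Agent.Lib.Helper70_TH_QEXP (theta_hasSum_q)
open Cfsg.Agent.Lib.Helper10_TH_BDD (theta_bounded)
open Cfsg.Agent.Lib.Helper55_TH_FCOEF (compForm compForm_coeff)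

namespace Cfsg.Agent.Lib.Helper4_ThetaMF


variable {B : Matrix (Fin 24) (Fin 24) ℤ}

/-- theta as a function on the upper half plane -/
noncomputable def thetaH (B : Matrix (Fin 24) (Fin 24) ℤ) : ℍ → ℂ := fun z => theta B (z : ℂ)

theorem theta_T {n : ℕ} (B : Matrix (Fin n) (Fin n) ℤ) (heven : ∀ x : Fin n → ℤ, (2 : ℤ) ∣ qf B x)
    (τ : ℂ) : theta B (τ + 1) = theta B τ := by
  rw [theta, theta]
  refine tsum_congr fun x => ?_
  rw [thetaTerm, thetaTerm]
  obtain ⟨m, hm⟩ := heven x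
  rw [hm]
  push_cast
  have : (π : ℂ) * I * (τ + 1) * (2 * (m : ℂ)) = π * I * τ * (2 * m) + m * (2 * π * I) := by ring
  rw [this, Complex.exp_add, Complex.exp_int_mul_two_pi_mul_I, mul_one]

theorem thetaH_S (hsymm : B.IsSymm) (hpos : ∀ x : Fin 24 → ℤ, x ≠ 0 → 0 < qf B x)
    (hdet : B.det = 1) : (thetaH B ∣[(12 : ℤ)] ModularGroup.S) = thetaH B := by
  ext z
  rw [SL_slash_apply, UpperHalfPlane.modular_S_smul]
  have hz : 0 < (z : ℂ).im := z.2
  have hne : (z : ℂ) ≠ 0 := ne_zero z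
  have h := theta_S B hsymm hpos hdet hz
  have hK : ((1 : ℂ) / (-I * (z : ℂ)) ^ (1 / 2 : ℂ)) ^ 24 = ((z : ℂ) ^ 12)⁻¹ := by
    rw [one_div, inv_pow]
    congr 1
    have h2 : ((-I * (z : ℂ)) ^ (1 / 2 : ℂ)) ^ 2 = -I * z := by
      rw [← Complex.cpow_nat_mul]
      simp
    have : ((-I * (z : ℂ)) ^ (1 / 2 : ℂ)) ^ 24 = (((-I * (z : ℂ)) ^ (1 / 2 : ℂ)) ^ 2) ^ 12 := by
      rw [← pow_mul]
    rw [this, h2, mul_pow]
    have hI : (-I : ℂ) ^ 12 = 1 := by
      have : (-I : ℂ) ^ 12 = ((-I) ^ 2) ^ 6 := by rw [← pow_mul]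
      rw [this, neg_sq, Complex.I_sq]
      norm_num
    rw [hI, one_mul]
  rw [ModularGroup.denom_S]
  simp only [thetaH]
  rw [h, hK]
  have : (-1 : ℂ) / (z : ℂ) = (-(z : ℂ))⁻¹ := by rw [neg_div, one_div, inv_neg]
  rw [this, _root_.zpow_neg]
  have hz12 : ((z : ℂ) ^ (12 : ℤ)) = (z : ℂ) ^ 12 := by norm_cast
  rw [hz12, mul_comm]

set_option backward.isDefEq.respectTransparency.types false in
theorem thetaH_T (heven : ∀ x : Fin 24 → ℤ, (2 : ℤ) ∣ qf B x) :
    (thetaH B ∣[(12 : ℤ)] ModularGroup.T) = thetaH B := by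
  ext z
  rw [SL_slash_apply, denom, modular_T_smul, ModularGroup.T]
  simp [thetaH]
  rw [add_comm]
  exact theta_T B heven _

/-- the hypotheses on `B` -/
structure EvenUnimodular (B : Matrix (Fin 24) (Fin 24) ℤ) : Prop where
  symm : B.IsSymm
  pos : ∀ x : Fin 24 → ℤ, x ≠ 0 → 0 < qf B x
  even : ∀ x : Fin 24 → ℤ, (2 : ℤ) ∣ qf B x
  det : B.det = 1

theorem EvenUnimodular.nonneg (h : EvenUnimodular B) (x : Fin 24 → ℤ) : 0 ≤ qf B x := by
  by_cases hx : x = 0
  · subst hx
    simp [qf]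
  · exact (h.pos x hx).le

theorem EvenUnimodular.summable (h : EvenUnimodular B) (κ : ℝ) (hκ : 0 < κ) :
    Summable fun x : Fin 24 → ℤ => Real.exp (-κ * (qf B x : ℝ)) :=
  summable_exp_qf B h.symm h.pos (by rw [h.det]; exact one_ne_zero) hκ

/-- the theta series as a modular form of weight 12 and level 1 -/
noncomputable def thetaForm (h : EvenUnimodular B) : ModularForm 𝒮ℒ 12 where
  toFun := thetaH B
  slash_action_eq' A hA := by
    obtain ⟨A, rfl⟩ := hA
    exact slash_action_generators_SL2Z (thetaH_S h.symm h.pos h.det) (thetaH_T h.even) A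
  holo' := by
    rw [UpperHalfPlane.mdifferentiable_iff]
    refine (theta_differentiableOn B h.nonneg h.summable).congr fun z hz => ?_
    simp [thetaH, ofComplex_apply_of_im_pos hz]
  bdd_at_cusps' hc := by
    rw [Subgroup.IsArithmetic.isCusp_iff_isCusp_SL2Z] at hc
    rw [OnePoint.isBoundedAt_iff_forall_SL2Z hc]
    intro γ _
    rw [slash_action_generators_SL2Z (thetaH_S h.symm h.pos h.det) (thetaH_T h.even)]
    rw [UpperHalfPlane.isBoundedAtImInfty_iff]
    obtain ⟨M, hM⟩ := theta_bounded B h.nonneg h.summable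
    exact ⟨M, 1, fun z hz => hM _ hz⟩

theorem thetaForm_apply (h : EvenUnimodular B) (z : ℍ) : thetaForm h z = theta B (z : ℂ) := rfl

theorem thetaForm_coeff (h : EvenUnimodular B) (m : ℕ) :
    (qExpansion 1 (thetaForm h)).coeff m = (rep B (2 * (m : ℤ)) : ℂ) := by
  symm
  refine ModularFormClass.qExpansion_coeff_unique (c := fun m : ℕ => (rep B (2 * (m : ℤ)) : ℂ))
    one_pos one_mem_strictPeriods_SL (f := thetaForm h) ?_ m
  intro τ
  have := theta_hasSum_q B h.nonneg h.even h.summable (τ := (τ : ℂ)) τ.2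
  rw [thetaForm_apply]
  refine this.congr_fun ?_
  intro k
  simp [Function.Periodic.qParam, smul_eq_mul]

theorem rep_zero (h : EvenUnimodular B) : rep B 0 = 1 := by
  have : {x : Fin 24 → ℤ | qf B x = 0} = {0} := by
    ext x
    simp only [Set.mem_ofPred_eq, Set.mem_singleton_iff]
    constructor
    · intro hx
      by_contra hne
      have := h.pos x hne
      omega
    · rintro rfl
      simp [qf]
  rw [rep, this, Set.ncard_singleton]

theorem thetaForm_eq (h : EvenUnimodular B) (h2 : ∀ x : Fin 24 → ℤ, qf B x ≠ 2) :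
    thetaForm h = compForm := by
  rw [← sub_eq_zero]
  apply sturm_bound_levelOne
  obtain ⟨c0, c1, -, -, -⟩ := compForm_coeff
  have hq : qExpansion 1 (⇑(thetaForm h - compForm)) =
      qExpansion 1 (thetaForm h) - qExpansion 1 compForm := by
    rw [FunLike.coe_sub]
    exact ModularForm.qExpansion_sub one_pos one_mem_strictPeriods_SL _ _
  have hr2 : rep B 2 = 0 := by
    have : {x : Fin 24 → ℤ | qf B x = 2} = ∅ := by
      ext x
      simp [h2 x]
    rw [rep, this, Set.ncard_empty]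
  have h0 : (qExpansion 1 (⇑(thetaForm h - compForm))).coeff 0 = 0 := by
    rw [hq, map_sub, thetaForm_coeff, c0]
    simp [rep_zero h]
  have h1 : (qExpansion 1 (⇑(thetaForm h - compForm))).coeff 1 = 0 := by
    rw [hq, map_sub, thetaForm_coeff, c1]
    simp [hr2]
  have hle : (2 : ℕ∞) ≤ (qExpansion 1 (⇑(thetaForm h - compForm))).order := by
    refine PowerSeries.nat_le_order _ 2 fun i hi => ?_
    interval_cases i
    · exact h0
    · exact h1
  refine lt_of_lt_of_le ?_ hle
  have : Int.toNat 12 / 12 = 1 := by decide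
  rw [this]
  norm_num

theorem main (h : EvenUnimodular B) (h2 : ∀ x : Fin 24 → ℤ, qf B x ≠ 2) :
    rep B 4 = 196560 ∧ rep B 6 = 16773120 ∧ rep B 8 = 398034000 := by
  have heq := thetaForm_eq h h2
  obtain ⟨-, -, c2, c3, c4⟩ := compForm_coeff
  rw [← heq, thetaForm_coeff] at c2 c3 c4
  norm_num at c2 c3 c4
  exact ⟨by exact_mod_cast c2, by exact_mod_cast c3, by exact_mod_cast c4⟩

end Cfsg.Agent.Lib.Helper4_ThetaMF
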