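/-
Helper library (helper4): Glauberman's Z*-theorem for arbitrary 2-elements of a group with
trivial odd core: an element `x` of a Sylow 2-subgroup `P` with `x^G ∩ P = {x}` is central.
Derived from the involution case `Cfsg.Agent.S0215.result`.
-/
import Mathlib
import Cfsg.Agent.S0215
import Cfsg.Agent.Lib.Helper35_FrobeniusNPC
import Cfsg.Agent.Lib.Helper32_Sylow
import Cfsg.Agent.Lib.Helper55_DihedralNPC
import Cfsg.Agent.Lib.Helper1_Cores
import Cfsg.Agent.Lib.Helper1_Transport

set_option autoImplicit false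

namespace Cfsg.Agent.Lib.Helper4_ZStarElt

open Cfsg.Agent.Lib.Helper35_FrobeniusNPC

universe u

/-- every normal subgroup of odd order is trivial -/
def NoOddNormal (G : Type*) [Group G] : Prop :=
  ∀ N : Subgroup G, N.Normal → Odd (Nat.card N) → N = ⊥

section basic

variable {G : Type*} [Group G] [Finite G]

/-- an isolated involution of a group with trivial odd core is central (Z*-theorem) -/
theorem center_of_isolated_involution (hO : NoOddNormal G) (P : Sylow 2 G) (u : G)
    (hu : orderOf u = 2) (huP : u ∈ P) (hiso : ∀ g : G, g * u * g⁻¹ ∈ P → g * u * g⁻¹ = u) :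
    u ∈ Subgroup.center G := by
  obtain ⟨N, hN, hNodd, hcomm⟩ := Cfsg.Agent.S0215.result P u hu huP hiso
  have hNbot := hO N hN hNodd
  rw [Subgroup.mem_center_iff]
  intro g
  have h1 := hcomm g
  rw [hNbot, Subgroup.mem_bot] at h1
  have h2 : u * g = g * u := by
    have := congrArg (fun t => t * g * u) h1
    simpa [mul_assoc] using this
  exact h2.symm

/-- a normal subgroup with a normal 2-complement, in a group with trivial odd core, is a 2-group -/
theorem card_eq_two_pow_of_normal_hasNPC (hO : NoOddNormal G) (M : Subgroup G) [M.Normal]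
    (h : HasNPC 2 ↥M) : ∃ a : ℕ, Nat.card M = 2 ^ a := by
  obtain ⟨K, hKn, hKc, a, hKi⟩ := h
  let N : Subgroup M := Cfsg.pPrimeCore 2 M
  have hKN : K ≤ N := Helper1_Cores.le_pPrimeCore hKn hKc
  have hNc : (Nat.card N).Coprime 2 := Helper1_Cores.pPrimeCore_card_coprime 2
  have hNchar : N.Characteristic := inferInstance
  have hLn : (N.map M.subtype).Normal := ConjAct.normal_of_characteristic_of_normal
  have hLodd : Odd (Nat.card (N.map M.subtype)) := by
    rw [Subgroup.card_map_of_injective M.subtype_injective]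
    exact Nat.coprime_two_right.mp hNc
  have hL := hO _ hLn hLodd
  have hNbot : N = ⊥ := (Subgroup.map_eq_bot_iff_of_injective N M.subtype_injective).mp hL
  have hKbot : K = ⊥ := le_bot_iff.mp (hNbot ▸ hKN)
  refine ⟨a, ?_⟩
  rw [← hKi, hKbot, Subgroup.index_bot]

/-- the quotient by a central subgroup of order 2 still has trivial odd core -/
theorem noOddNormal_quot (hO : NoOddNormal G) (Z : Subgroup G) [Z.Normal] (hZ2 : Nat.card Z = 2) :
    NoOddNormal (G ⧸ Z) := by
  intro Nbar hNn hNodd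
  let M : Subgroup G := Nbar.comap (QuotientGroup.mk' Z)
  have hMn : M.Normal := hNn.comap _
  have hMcard : Nat.card M = Nat.card Nbar * 2 := by
    rw [← hZ2]
    exact Cfsg.Agent.Lib.Helper1_Transport.card_comap_mk' Z Nbar
  -- Sylow 2-subgroups of `M` have order 2, hence are cyclic
  obtain ⟨Q⟩ : Nonempty (Sylow 2 M) := inferInstance
  have hQcard : Nat.card (Q : Subgroup M) = 2 := by
    have h1 := Q.card_eq_multiplicity
    rw [hMcard] at h1
    have hne : Nat.card Nbar ≠ 0 := Nat.card_pos.ne'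
    rw [Nat.factorization_mul hne (by norm_num)] at h1
    have h2 : (Nat.card Nbar).factorization 2 = 0 := by
      apply Nat.factorization_eq_zero_of_not_dvd
      exact hNodd.not_two_dvd_nat
    rw [Finsupp.add_apply, h2, Nat.Prime.factorization_self Nat.prime_two] at h1
    simpa using h1
  have hQcyc : IsCyclic (Q : Subgroup M) := by
    have : Fact (Nat.Prime 2) := ⟨Nat.prime_two⟩
    exact isCyclic_of_prime_card hQcard
  have hnpc : HasNPC 2 ↥M := Cfsg.Agent.Lib.Helper55_DihedralNPC.hasNPC_of_isCyclic_sylow Q hQcyc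
  obtain ⟨a, ha⟩ := card_eq_two_pow_of_normal_hasNPC hO M hnpc
  -- so `|Nbar|` is odd and divides a power of 2
  have h3 : Nat.card Nbar ∣ 2 ^ a := by
    rw [← ha, hMcard]
    exact dvd_mul_right _ _
  have h4 : Nat.card Nbar = 1 := by
    have hcop : (Nat.card Nbar).Coprime (2 ^ a) :=
      Nat.Coprime.pow_right a (Nat.coprime_two_right.mpr hNodd)
    exact Nat.Coprime.eq_one_of_dvd hcop h3
  exact Subgroup.eq_bot_of_card_eq Nbar h4

end basic

/-- **Z\*-theorem for 2-elements**: in a finite group with trivial odd core, an element `x` of a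
Sylow 2-subgroup `P` whose only conjugate in `P` is itself lies in the centre. -/
theorem zstar_elt_aux : ∀ (n : ℕ) (G : Type u) [Group G] [Finite G], Nat.card G = n →
    NoOddNormal G → ∀ (P : Sylow 2 G) (x : G), x ∈ P →
    (∀ g : G, g * x * g⁻¹ ∈ P → g * x * g⁻¹ = x) → x ∈ Subgroup.center G := by
  intro n
  induction n using Nat.strong_induction_on with
  | _ n ih =>
  intro G _ _ hn hO P x hxP hiso
  by_cases hx1 : x = 1
  · rw [hx1]; exact Subgroup.one_mem _
  -- `x` is central in `P`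
  have hxZ : ∀ s ∈ P, s * x = x * s := by
    intro s hs
    have h1 : s * x * s⁻¹ ∈ P := P.mul_mem (P.mul_mem hs hxP) (P.inv_mem hs)
    have h2 := hiso s h1
    rw [mul_inv_eq_iff_eq_mul] at h2
    exact h2
  -- the order of `x`
  obtain ⟨m, hm⟩ := (IsPGroup.iff_orderOf.mp P.isPGroup') ⟨x, hxP⟩
  rw [Subgroup.orderOf_mk] at hm
  have hm0 : m ≠ 0 := by
    rintro rfl
    rw [pow_zero, orderOf_eq_one_iff] at hm
    exact hx1 hm
  obtain ⟨k, rfl⟩ := Nat.exists_eq_succ_of_ne_zero hm0
  set y : G := x ^ (2 ^ k) with hy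
  have hyo : orderOf y = 2 := by
    rw [hy, orderOf_pow_of_dvd (by positivity) (by rw [hm]; exact pow_dvd_pow 2 (Nat.le_succ k)), hm,
      pow_succ, Nat.mul_div_cancel_left _ (by positivity)]
  have hyP : y ∈ P := P.pow_mem hxP _
  have hxy : Commute x y := (Commute.refl x).pow_right _
  have hcomm_y : ∀ a : G, a * x = x * a → a * y = y * a := by
    intro a ha
    exact ((show Commute a x from ha).pow_right _).eq
  -- `y` is isolated
  have hyiso : ∀ g : G, g * y * g⁻¹ ∈ P → g * y * g⁻¹ = y := by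
    intro g hg
    set C : Subgroup G := Subgroup.centralizer {y} with hC
    have hPC : (P : Subgroup G) ≤ C := by
      intro s hs
      rw [hC, Subgroup.mem_centralizer_singleton_iff]
      exact hcomm_y s (hxZ s hs)
    set S₁ : Subgroup G := ((g⁻¹ • P : Sylow 2 G) : Subgroup G) with hS₁
    have hS₁mem : ∀ a : G, a ∈ S₁ ↔ g * a * g⁻¹ ∈ P := by
      intro a
      rw [hS₁, Sylow.coe_subgroup_smul, mem_conj_smul, inv_inv]
      rfl
    have hQ : IsPGroup 2 (S₁ ⊓ C : Subgroup G) := (g⁻¹ • P : Sylow 2 G).2.to_le inf_le_left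
    obtain ⟨c, hcC, hc⟩ := Cfsg.Agent.Lib.Helper32_Sylow.sylow_conj_into C P hPC (S₁ ⊓ C) inf_le_right hQ
    -- the element `a = g⁻¹ x g`
    have haS : g⁻¹ * x * g ∈ S₁ := by
      rw [hS₁mem]
      have : g * (g⁻¹ * x * g) * g⁻¹ = x := by group
      rw [this]; exact hxP
    have hyS : y ∈ S₁ := (hS₁mem y).mpr hg
    have haC : g⁻¹ * x * g ∈ C := by
      rw [hC, Subgroup.mem_centralizer_singleton_iff]
      -- `g y g⁻¹ ∈ P` commutes with `x`
      have h1 := hxZ _ hg
      have : g⁻¹ * x * g * y = g⁻¹ * (x * (g * y * g⁻¹)) * g := by group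
      rw [this, ← h1]
      group
    have h2 := hc _ (Subgroup.mem_inf.mpr ⟨haS, haC⟩)
    have h3 : (c * g⁻¹) * x * (c * g⁻¹)⁻¹ = c * (g⁻¹ * x * g) * c⁻¹ := by group
    have h4 := hiso (c * g⁻¹) (h3 ▸ h2)
    rw [mul_inv_eq_iff_eq_mul] at h4
    have h5 : (c * g⁻¹) * y = y * (c * g⁻¹) := hcomm_y _ h4
    have h6 : c * y = y * c := by
      rw [hC, Subgroup.mem_centralizer_singleton_iff] at hcC
      exact hcC
    -- hence `g⁻¹` commutes with `y`
    have h7 : g⁻¹ * y = y * g⁻¹ := by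
      have : g⁻¹ * y = c⁻¹ * ((c * g⁻¹) * y) := by group
      rw [this, h5]
      have : c⁻¹ * (y * (c * g⁻¹)) = (c⁻¹ * (y * c)) * g⁻¹ := by group
      rw [this, ← h6]
      group
    have : g * y * g⁻¹ = g * (y * g⁻¹) := by group
    rw [this, ← h7]
    group
  have hyc : y ∈ Subgroup.center G := center_of_isolated_involution hO P y hyo hyP hyiso
  -- the quotient by `⟨y⟩`
  set Z : Subgroup G := Subgroup.zpowers y with hZ
  have hZc : Z ≤ Subgroup.center G := by
    rw [hZ, Subgroup.zpowers_le]; exact hyc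
  have hZn : Z.Normal := by
    constructor
    intro z hz g
    have := Subgroup.mem_center_iff.mp (hZc hz) g
    have h1 : g * z * g⁻¹ = z := by rw [this]; group
    rw [h1]; exact hz
  have hZ2 : Nat.card Z = 2 := by rw [hZ, Nat.card_zpowers, hyo]
  have hZP : Z ≤ (P : Subgroup G) := by
    rw [hZ, Subgroup.zpowers_le]; exact hyP
  have hcard : Nat.card (G ⧸ Z) < n := by
    have h1 := Subgroup.card_eq_card_quotient_mul_card_subgroup Z
    rw [hn, hZ2] at h1
    have hpos : 0 < Nat.card (G ⧸ Z) := Nat.card_pos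
    omega
  have hO' : NoOddNormal (G ⧸ Z) := noOddNormal_quot hO Z hZ2
  let Pbar : Sylow 2 (G ⧸ Z) := P.mapSurjective (QuotientGroup.mk'_surjective Z)
  have hPbar : (Pbar : Subgroup (G ⧸ Z)) = (P : Subgroup G).map (QuotientGroup.mk' Z) :=
    Sylow.coe_mapSurjective _ P
  have hxbar : (QuotientGroup.mk' Z x) ∈ Pbar := by
    show _ ∈ (Pbar : Subgroup (G ⧸ Z))
    rw [hPbar]; exact Subgroup.mem_map_of_mem _ hxP
  have hiso' : ∀ gb : G ⧸ Z, gb * (QuotientGroup.mk' Z x) * gb⁻¹ ∈ Pbar →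
      gb * (QuotientGroup.mk' Z x) * gb⁻¹ = QuotientGroup.mk' Z x := by
    intro gb hgb
    obtain ⟨g, rfl⟩ := QuotientGroup.mk'_surjective Z gb
    have hgb' : QuotientGroup.mk' Z (g * x * g⁻¹) ∈ (P : Subgroup G).map (QuotientGroup.mk' Z) := by
      rw [← hPbar, map_mul, map_mul, map_inv]; exact hgb
    obtain ⟨s, hs, hsg⟩ := hgb'
    have h1 : s⁻¹ * (g * x * g⁻¹) ∈ Z := by
      rw [← QuotientGroup.eq]; exact hsg
    have h2 : g * x * g⁻¹ ∈ P := by
      have : g * x * g⁻¹ = s * (s⁻¹ * (g * x * g⁻¹)) := by group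
      rw [this]; exact P.mul_mem hs (hZP h1)
    rw [← map_inv, ← map_mul, ← map_mul, hiso g h2]
  have hxc := ih _ hcard (G ⧸ Z) rfl hO' Pbar _ hxbar hiso'
  -- so all commutators `[x,g]` lie in `Z`
  have hcommZ : ∀ g : G, x * g * x⁻¹ * g⁻¹ ∈ Z := by
    intro g
    have h1 := Subgroup.mem_center_iff.mp hxc (QuotientGroup.mk' Z g)
    rw [← QuotientGroup.eq_one_iff]
    have : ((x * g * x⁻¹ * g⁻¹ : G) : G ⧸ Z) =
        (QuotientGroup.mk' Z x) * (QuotientGroup.mk' Z g) * (QuotientGroup.mk' Z x)⁻¹ *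
          (QuotientGroup.mk' Z g)⁻¹ := by
      simp
    rw [this, ← h1]
    group
  -- the commutator map is a homomorphism
  let φ : G →* G := MonoidHom.mk' (fun g => x * g * x⁻¹ * g⁻¹) (by
    intro a b
    have hb := Subgroup.mem_center_iff.mp (hZc (hcommZ b)) a
    -- a * [x,b] = [x,b] * a
    calc x * (a * b) * x⁻¹ * (a * b)⁻¹
        = x * a * x⁻¹ * a⁻¹ * (a * (x * b * x⁻¹ * b⁻¹)) * a⁻¹ := by group
      _ = x * a * x⁻¹ * a⁻¹ * ((x * b * x⁻¹ * b⁻¹) * a) * a⁻¹ := by rw [hb]
      _ = x * a * x⁻¹ * a⁻¹ * (x * b * x⁻¹ * b⁻¹) := by group)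
  have hφ : ∀ g, φ g = x * g * x⁻¹ * g⁻¹ := fun g => rfl
  have hrange : φ.range ≤ Z := by
    rintro _ ⟨g, rfl⟩
    exact hcommZ g
  have hidx2 : φ.ker.index ∣ 2 := by
    rw [Subgroup.index_ker, ← hZ2]
    exact Subgroup.card_dvd_of_le hrange
  have hPker : (P : Subgroup G) ≤ φ.ker := by
    intro s hs
    rw [MonoidHom.mem_ker, hφ, ← hxZ s hs]
    group
  have hidxP : φ.ker.index ∣ (P : Subgroup G).index := Subgroup.index_dvd_of_le hPker
  have hker : φ.ker = ⊤ := by
    rw [← Subgroup.index_eq_one]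
    rcases (Nat.dvd_prime Nat.prime_two).mp hidx2 with h | h
    · exact h
    · exfalso
      rw [h] at hidxP
      exact P.not_dvd_index hidxP
  rw [Subgroup.mem_center_iff]
  intro g
  have h1 : φ g = 1 := by
    rw [← MonoidHom.mem_ker, hker]; exact Subgroup.mem_top g
  rw [hφ] at h1
  have h2 : x * g = g * x := by
    have := congrArg (fun t => t * g * x) h1
    simpa [mul_assoc] using this
  exact h2.symm

theorem zstar_elt {G : Type u} [Group G] [Finite G] (hO : NoOddNormal G) (P : Sylow 2 G) (x : G)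
    (hxP : x ∈ P) (hiso : ∀ g : G, g * x * g⁻¹ ∈ P → g * x * g⁻¹ = x) : x ∈ Subgroup.center G :=
  zstar_elt_aux _ G rfl hO P x hxP hiso

end Cfsg.Agent.Lib.Helper4_ZStarElt
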