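/-
Helper library (helper65): counting conjugacy classes of `p`-elements, part 1:
a Burnside-lemma bound for the number of orbits.
-/
import Mathlib

set_option autoImplicit false

namespace Cfsg.Agent.Lib.Helper65_PClasses

/-- Burnside-type bound: if the non-identity behaviour is concentrated outside a proper
subgroup `C`, the number of orbits is at most `(p+1)/(2p)` times the size of the set. -/
theorem burnside_bound {N X : Type*} [Group N] [MulAction N X] [Finite N] [Finite X]
    (C : Subgroup N) (hC : C ≠ ⊤) (p : ℕ) (hp : 1 ≤ p)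
    (hfix : ∀ n : N, n ∉ C → p * Nat.card (MulAction.fixedBy X n) ≤ Nat.card X) :
    2 * p * Nat.card (Quotient (MulAction.orbitRel N X)) ≤ (p + 1) * Nat.card X := by
  classical
  have : Fintype N := Fintype.ofFinite N
  have : Fintype X := Fintype.ofFinite X
  have : Fintype (Quotient (MulAction.orbitRel N X)) := Fintype.ofFinite _
  have hB := MulAction.sum_card_fixedBy_eq_card_orbits_mul_card_group N X
  simp only [Nat.card_eq_fintype_card] at hfix ⊢
  set o := Fintype.card (Quotient (MulAction.orbitRel N X)) with ho
  set x := Fintype.card X with hx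
  set b := Fintype.card N with hb
  -- split the sum
  set S1 := Finset.univ.filter (fun n : N => n ∈ C) with hS1
  set S2 := Finset.univ.filter (fun n : N => ¬ n ∈ C) with hS2
  have hsplit : ∑ n : N, Fintype.card (MulAction.fixedBy X n) =
      ∑ n ∈ S1, Fintype.card (MulAction.fixedBy X n) + ∑ n ∈ S2, Fintype.card (MulAction.fixedBy X n) :=
    (Finset.sum_filter_add_sum_filter_not Finset.univ (fun n : N => n ∈ C) _).symm
  have h1 : ∑ n ∈ S1, Fintype.card (MulAction.fixedBy X n) ≤ S1.card * x := by
    rw [← smul_eq_mul, ← Finset.sum_const]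
    apply Finset.sum_le_sum
    intro n _
    exact Fintype.card_subtype_le _
  have h2 : p * ∑ n ∈ S2, Fintype.card (MulAction.fixedBy X n) ≤ S2.card * x := by
    rw [Finset.mul_sum, ← smul_eq_mul (a := S2.card), ← Finset.sum_const]
    apply Finset.sum_le_sum
    intro n hn
    rw [hS2, Finset.mem_filter] at hn
    exact hfix n hn.2
  have hab : S1.card + S2.card = b := by
    rw [hS1, hS2, hb, ← Finset.card_univ]
    exact Finset.card_filter_add_card_filter_not (fun n : N => n ∈ C)
  have ha : S1.card = Nat.card C := by
    rw [Nat.card_eq_fintype_card, Fintype.card_subtype]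
  have hidx : 2 * S1.card ≤ b := by
    have h3 := Subgroup.card_mul_index C
    have hidx2 : 2 ≤ C.index := by
      have h1 : C.index ≠ 1 := fun h => hC (Subgroup.index_eq_one.mp h)
      have h0 : C.index ≠ 0 := Subgroup.index_ne_zero_of_finite
      omega
    rw [ha, hb, ← Nat.card_eq_fintype_card, ← h3]
    nlinarith
  have ha' : S1.card ≤ S2.card := by omega
  have hbpos : 0 < b := Fintype.card_pos
  -- main inequality
  have hmain : p * (o * b) ≤ S1.card * (p * x) + S2.card * x := by
    rw [← hB, hsplit, mul_add]
    have := Nat.mul_le_mul_left p h1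
    nlinarith
  obtain ⟨q, rfl⟩ : ∃ q, p = q + 1 := ⟨p - 1, by omega⟩
  have h4 : S1.card * (q * x) ≤ S2.card * (q * x) := Nat.mul_le_mul_right _ ha'
  have h5 : 2 * (q + 1) * o * b ≤ (q + 1 + 1) * x * b := by
    rw [← hab] at hmain ⊢
    generalize S1.card = a at *
    generalize S2.card = a' at *
    have e2 : (q + 1 + 1) * x * (a + a') = a * (q * x) + 2 * (a * x) + a' * (q * x) + 2 * (a' * x) := by
      ring
    have e3 : a * ((q + 1) * x) + a' * x = a * (q * x) + a * x + a' * x := by ring
    have e4 : 2 * (q + 1) * o * (a + a') = 2 * ((q + 1) * (o * (a + a'))) := by ring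
    rw [e2, e4]
    rw [e3] at hmain
    omega
  exact Nat.le_of_mul_le_mul_right h5 hbpos

end Cfsg.Agent.Lib.Helper65_PClasses
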