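/-
Helper library (helper65): counting conjugacy classes of `p`-elements, part 2:
the conjugation action of `N_G(P)` on `P`; classes of `p`-elements meet every Sylow `p`-subgroup.
-/
import Mathlib
import Cfsg.Agent.Lib.Helper65_PClasses1

set_option autoImplicit false

namespace Cfsg.Agent.Lib.Helper65_PClasses

variable {G : Type*} [Group G]

/-- the conjugation action of `N_G(P)` on `P`. -/
@[reducible] def normalizerAction (P : Subgroup G) :
    MulAction (Subgroup.normalizer (P : Set G)) P where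
  smul n x := ⟨(n : G) * x * (n : G)⁻¹, (Subgroup.mem_normalizer_iff.mp n.2 x).mp x.2⟩
  one_smul x := by
    apply Subtype.ext
    show ((1 : Subgroup.normalizer (P : Set G)) : G) * x * ((1 : Subgroup.normalizer (P : Set G)) : G)⁻¹ = x
    simp
  mul_smul m n x := by
    apply Subtype.ext
    show ((m * n : Subgroup.normalizer (P : Set G)) : G) * x * ((m * n : Subgroup.normalizer (P : Set G)) : G)⁻¹ =
      (m : G) * ((n : G) * x * (n : G)⁻¹) * (m : G)⁻¹
    simp [mul_assoc]

theorem normalizerAction_coe (P : Subgroup G) (n : Subgroup.normalizer (P : Set G)) (x : P) :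
    (((normalizerAction P).smul n x : P) : G) = (n : G) * x * (n : G)⁻¹ := rfl

/-- the conjugacy class of a `p`-element, as a class of `p`-elements. -/
def pclass (p : ℕ) (x : G) (hx : ∃ k : ℕ, orderOf x = p ^ k) :
    {c : ConjClasses G // ∀ y ∈ c.carrier, ∃ k : ℕ, orderOf y = p ^ k} :=
  ⟨ConjClasses.mk x, fun y hy => by
    rw [ConjClasses.mem_carrier_iff_mk_eq, ConjClasses.mk_eq_mk_iff_isConj, isConj_iff] at hy
    obtain ⟨c, hc⟩ := hy
    obtain ⟨k, hk⟩ := hx
    refine ⟨k, ?_⟩
    rw [← hk]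
    have : x = (MulAut.conj c) y := by
      rw [MulAut.conj_apply, ← hc]
    rw [this]
    exact (orderOf_injective (MulAut.conj c).toMonoidHom (MulAut.conj c).injective y).symm⟩

theorem pclass_eq_iff (p : ℕ) (x y : G) (hx : ∃ k : ℕ, orderOf x = p ^ k)
    (hy : ∃ k : ℕ, orderOf y = p ^ k) : pclass p x hx = pclass p y hy ↔ IsConj x y := by
  unfold pclass
  rw [Subtype.mk.injEq, ConjClasses.mk_eq_mk_iff_isConj]

/-- every class of `p`-elements meets a given Sylow `p`-subgroup. -/
theorem exists_mem_sylow_pclass [Finite G] {p : ℕ} [Fact p.Prime] (P : Sylow p G)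
    (c : {c : ConjClasses G // ∀ y ∈ c.carrier, ∃ k : ℕ, orderOf y = p ^ k}) :
    ∃ (x : G) (hx : ∃ k : ℕ, orderOf x = p ^ k), x ∈ P ∧ pclass p x hx = c := by
  obtain ⟨c₀, hc⟩ := c
  obtain ⟨y, rfl⟩ := ConjClasses.mk_surjective c₀
  have hy := hc y ConjClasses.mem_carrier_mk
  obtain ⟨k, hk⟩ := hy
  have hpg : IsPGroup p (Subgroup.zpowers y) := by
    apply IsPGroup.of_card (n := k)
    rw [Nat.card_zpowers, hk]
  obtain ⟨Q, hQ⟩ := hpg.exists_le_sylow
  obtain ⟨g, hg⟩ := MulAction.exists_smul_eq G Q P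
  have hyQ : y ∈ (Q : Subgroup G) := hQ (Subgroup.mem_zpowers y)
  have hmem : g * y * g⁻¹ ∈ (P : Subgroup G) := by
    rw [← hg, Sylow.coe_subgroup_smul]
    have := Subgroup.smul_mem_pointwise_smul y (MulAut.conj g) (Q : Subgroup G) hyQ
    rwa [MulAut.smul_def, MulAut.conj_apply] at this
  have hconj : IsConj y (g * y * g⁻¹) := isConj_iff.mpr ⟨g, rfl⟩
  have hord : ∃ k : ℕ, orderOf (g * y * g⁻¹) = p ^ k := by
    refine ⟨k, ?_⟩
    rw [← hk]
    exact orderOf_injective (MulAut.conj g).toMonoidHom (MulAut.conj g).injective y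
  refine ⟨g * y * g⁻¹, hord, hmem, ?_⟩
  apply Subtype.ext
  show ConjClasses.mk (g * y * g⁻¹) = ConjClasses.mk y
  rw [ConjClasses.mk_eq_mk_iff_isConj]
  exact hconj.symm

end Cfsg.Agent.Lib.Helper65_PClasses
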