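/-
Helper library (helper65): counting conjugacy classes of `p`-elements, part 3:
if there are more than `(p+1)|P|/(2p)` classes of `p`-elements then `N_G(P) ≤ C_G(P)`.
-/
import Mathlib
import Cfsg.Agent.Lib.Helper65_PClasses1
import Cfsg.Agent.Lib.Helper65_PClasses2

set_option autoImplicit false

namespace Cfsg.Agent.Lib.Helper65_PClasses

variable {G : Type*} [Group G]

/-- elements of a Sylow `p`-subgroup are `p`-elements. -/
theorem exists_orderOf_eq_of_mem_sylow {p : ℕ} [Fact p.Prime] (P : Sylow p G) {x : G}
    (hx : x ∈ P) : ∃ k : ℕ, orderOf x = p ^ k := by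
  obtain ⟨k, hk⟩ := (IsPGroup.iff_orderOf.mp P.isPGroup') ⟨x, hx⟩
  exact ⟨k, by rw [← hk]; exact (Subgroup.orderOf_mk x hx).symm⟩

/-- the number of classes of `p`-elements is at most the number of `N_G(P)`-orbits on `P`. -/
theorem card_pclasses_le_card_orbits [Finite G] {p : ℕ} [Fact p.Prime] (P : Sylow p G) :
    Nat.card {c : ConjClasses G // ∀ y ∈ c.carrier, ∃ k : ℕ, orderOf y = p ^ k} ≤
      Nat.card (Quotient (@MulAction.orbitRel (Subgroup.normalizer ((P : Subgroup G) : Set G))
        (P : Subgroup G) _ (normalizerAction (P : Subgroup G)))) := by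
  letI := normalizerAction (P : Subgroup G)
  let f : Quotient (MulAction.orbitRel (Subgroup.normalizer ((P : Subgroup G) : Set G))
      (P : Subgroup G)) → {c : ConjClasses G // ∀ y ∈ c.carrier, ∃ k : ℕ, orderOf y = p ^ k} :=
    Quotient.lift (fun x : (P : Subgroup G) => pclass p (x : G) (exists_orderOf_eq_of_mem_sylow P x.2))
      (by
        intro a b hab
        obtain ⟨n, hn⟩ := hab
        rw [pclass_eq_iff, isConj_comm, isConj_iff]
        refine ⟨(n : G), ?_⟩
        have := congrArg Subtype.val hn
        exact this)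
  apply Nat.card_le_card_of_surjective f
  intro c
  obtain ⟨x, hx, hxP, hc⟩ := exists_mem_sylow_pclass P c
  exact ⟨Quotient.mk _ ⟨x, hxP⟩, hc⟩

/-- **Key lemma**: if there are more than `(p+1)|P|/(2p)` classes of `p`-elements then
`N_G(P) ≤ C_G(P)`. -/
theorem normalizer_le_centralizer_of_many_pclasses [Finite G] {p : ℕ} [hp : Fact p.Prime]
    (P : Sylow p G)
    (h : (p + 1) * Nat.card (P : Subgroup G) <
      2 * p * Nat.card {c : ConjClasses G // ∀ x ∈ c.carrier, ∃ k : ℕ, orderOf x = p ^ k}) :
    Subgroup.normalizer ((P : Subgroup G) : Set G) ≤ Subgroup.centralizer (P : Set G) := by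
  by_contra hne
  letI := normalizerAction (P : Subgroup G)
  set C : Subgroup (Subgroup.normalizer ((P : Subgroup G) : Set G)) :=
    (Subgroup.centralizer ((P : Subgroup G) : Set G)).subgroupOf
      (Subgroup.normalizer ((P : Subgroup G) : Set G)) with hC
  have hCtop : C ≠ ⊤ := by
    rw [hC, Ne, Subgroup.subgroupOf_eq_top]
    exact hne
  have hfix : ∀ n : Subgroup.normalizer ((P : Subgroup G) : Set G), n ∉ C →
      p * Nat.card (MulAction.fixedBy (P : Subgroup G) n) ≤ Nat.card (P : Subgroup G) := by
    intro n hn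
    set F : Subgroup (P : Subgroup G) :=
      (Subgroup.centralizer ({(n : G)} : Set G)).subgroupOf (P : Subgroup G) with hF
    have hset : (MulAction.fixedBy (P : Subgroup G) n : Set (P : Subgroup G)) = (F : Set _) := by
      ext x
      rw [MulAction.mem_fixedBy, SetLike.mem_coe, hF, Subgroup.mem_subgroupOf,
        Subgroup.mem_centralizer_singleton_iff]
      constructor
      · intro hx
        have h1 : (n : G) * x * (n : G)⁻¹ = x := congrArg Subtype.val hx
        calc (x : G) * n = ((n : G) * x * (n : G)⁻¹) * n := by rw [h1]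
          _ = n * x := by group
      · intro hx
        apply Subtype.ext
        show (n : G) * x * (n : G)⁻¹ = x
        rw [← hx]; group
    have hcard : Nat.card (MulAction.fixedBy (P : Subgroup G) n) = Nat.card F := by
      exact Nat.card_congr (Equiv.setCongr hset)
    rw [hcard]
    have hFtop : F ≠ ⊤ := by
      intro hFt
      apply hn
      rw [hC, Subgroup.mem_subgroupOf, Subgroup.mem_centralizer_iff]
      intro y hy
      have : (⟨y, hy⟩ : (P : Subgroup G)) ∈ F := hFt ▸ Subgroup.mem_top _
      rw [hF, Subgroup.mem_subgroupOf, Subgroup.mem_centralizer_singleton_iff] at this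
      exact this
    obtain ⟨k, hk⟩ := P.isPGroup'.index F
    have hk0 : k ≠ 0 := by
      rintro rfl
      rw [pow_zero] at hk
      exact hFtop (Subgroup.index_eq_one.mp hk)
    have hdvd : p ∣ F.index := hk ▸ dvd_pow_self p hk0
    obtain ⟨m, hm⟩ := hdvd
    have h3 := Subgroup.card_mul_index F
    have hmpos : 0 < m := by
      rcases Nat.eq_zero_or_pos m with h0 | h0
      · rw [h0, mul_zero] at hm
        exact absurd hm Subgroup.index_ne_zero_of_finite
      · exact h0
    rw [← h3, hm]
    calc p * Nat.card F = p * Nat.card F * 1 := (mul_one _).symm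
      _ ≤ p * Nat.card F * m := Nat.mul_le_mul_left _ hmpos
      _ = Nat.card F * (p * m) := by ring
  have hB := burnside_bound C hCtop p hp.out.one_lt.le hfix
  have hle := card_pclasses_le_card_orbits P
  have : 2 * p * Nat.card {c : ConjClasses G // ∀ x ∈ c.carrier, ∃ k : ℕ, orderOf x = p ^ k} ≤
      (p + 1) * Nat.card (P : Subgroup G) :=
    le_trans (Nat.mul_le_mul_left _ hle) hB
  exact absurd h (not_lt.mpr this)

end Cfsg.Agent.Lib.Helper65_PClasses
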