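/-
Helper library (helper4): counting conjugacy classes of 2-elements.
`k₂(G) > |P|/2` forces a normal 2-complement (via the Z*-theorem for 2-elements).
-/
import Mathlib
import Cfsg.Agent.Lib.Helper4_ZStarElt
import Cfsg.Agent.Lib.Helper35_FrobeniusNPC
import Cfsg.Agent.Lib.Helper34_NPC
import Cfsg.Agent.Lib.Helper29_NPCSections
import Cfsg.Agent.Lib.Helper32_Sylow
import Cfsg.Agent.Lib.Helper65_PClasses3

set_option autoImplicit false

namespace Cfsg.Agent.Lib.Helper4_TwoClasses

open Cfsg.Agent.Lib.Helper35_FrobeniusNPC Cfsg.Agent.Lib.Helper65_PClasses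
open Cfsg.Agent.Lib.Helper4_ZStarElt

universe u

/-- the type of conjugacy classes of 2-elements -/
abbrev K2 (G : Type*) [Group G] : Type _ :=
  {c : ConjClasses G // ∀ x ∈ c.carrier, ∃ k : ℕ, orderOf x = 2 ^ k}

section counting

variable {G : Type*} [Group G] [Finite G]

/-- the class of a member of a Sylow 2-subgroup -/
noncomputable def cls (P : Sylow 2 G) (p : (P : Subgroup G)) : K2 G :=
  pclass 2 (p : G) (exists_orderOf_eq_of_mem_sylow P p.2)

omit [Finite G] in
theorem cls_eq_iff (P : Sylow 2 G) (p q : (P : Subgroup G)) :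
    cls P p = cls P q ↔ IsConj (p : G) (q : G) := by
  unfold cls
  rw [pclass_eq_iff]

theorem cls_surjective (P : Sylow 2 G) : Function.Surjective (cls P) := by
  intro c
  obtain ⟨x, hx, hxP, hc⟩ := exists_mem_sylow_pclass P c
  exact ⟨⟨x, hxP⟩, hc⟩

/-- if every nontrivial element of `P` has a second conjugate in `P`, then `k₂(G) ≤ |P|/2` -/
theorem two_mul_card_le (P : Sylow 2 G) (hP : (P : Subgroup G) ≠ ⊥)
    (h : ∀ x ∈ P, x ≠ 1 → ∃ g : G, g * x * g⁻¹ ∈ P ∧ g * x * g⁻¹ ≠ x) :
    2 * Nat.card (K2 G) ≤ Nat.card (P : Subgroup G) := by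
  classical
  set c₁ : K2 G := cls P 1 with hc₁
  have hAB : ∀ c : K2 G, c ≠ c₁ → ∃ a b : (P : Subgroup G), cls P a = c ∧ cls P b = c ∧ a ≠ b := by
    intro c hc
    obtain ⟨a, ha⟩ := cls_surjective P c
    have ha1 : (a : G) ≠ 1 := by
      intro h1
      apply hc
      rw [← ha, hc₁]
      congr 1
      exact Subtype.ext h1
    obtain ⟨g, hgP, hgne⟩ := h a a.2 ha1
    refine ⟨a, ⟨g * a * g⁻¹, hgP⟩, ha, ?_, ?_⟩
    · rw [← ha, cls_eq_iff, isConj_comm, isConj_iff]
      exact ⟨g, rfl⟩
    · intro hab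
      apply hgne
      exact (congrArg Subtype.val hab).symm
  choose A B hA hB hne using hAB
  let J : K2 G × Bool → (P : Subgroup G) ⊕ Unit := fun cb =>
    if hc : cb.1 = c₁ then (if cb.2 then Sum.inl 1 else Sum.inr ())
    else (if cb.2 then Sum.inl (A cb.1 hc) else Sum.inl (B cb.1 hc))
  have hJ : Function.Injective J := by
    rintro ⟨c, b⟩ ⟨c', b'⟩ hcc
    simp only [J] at hcc
    by_cases hc : c = c₁ <;> by_cases hc' : c' = c₁
    · rw [dif_pos hc, dif_pos hc'] at hcc
      have : b = b' := by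
        cases b <;> cases b' <;> simp_all
      rw [hc, hc', this]
    · exfalso
      rw [dif_pos hc, dif_neg hc'] at hcc
      have key : ∀ q : (P : Subgroup G), cls P q = c' → (Sum.inl 1 : (P : Subgroup G) ⊕ Unit) ≠ Sum.inl q := by
        intro q hq h1
        have := Sum.inl_injective h1
        apply hc'
        rw [← hq, ← this]
      cases b <;> cases b' <;> simp at hcc
      · exact key _ (hB c' hc') (by rw [hcc])
      · exact key _ (hA c' hc') (by rw [hcc])
    · exfalso
      rw [dif_neg hc, dif_pos hc'] at hcc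
      have key : ∀ q : (P : Subgroup G), cls P q = c → (Sum.inl q : (P : Subgroup G) ⊕ Unit) ≠ Sum.inl 1 := by
        intro q hq h1
        have := Sum.inl_injective h1
        apply hc
        rw [← hq, this]
      cases b <;> cases b' <;> simp at hcc
      · exact key _ (hB c hc) (by rw [hcc])
      · exact key _ (hA c hc) (by rw [hcc])
    · rw [dif_neg hc, dif_neg hc'] at hcc
      -- both values are `inl` of elements with classes `c`, `c'`
      have hcc' : c = c' := by
        cases b <;> cases b' <;> simp at hcc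
        · rw [← hB c hc, ← hB c' hc', hcc]
        · rw [← hB c hc, ← hA c' hc', hcc]
        · rw [← hA c hc, ← hB c' hc', hcc]
        · rw [← hA c hc, ← hA c' hc', hcc]
      subst hcc'
      have : b = b' := by
        cases b <;> cases b' <;> simp at hcc ⊢
        · exact hne c hc hcc.symm
        · exact hne c hc hcc
      rw [this]
  have hle := Nat.card_le_card_of_injective J hJ
  have hU : Nat.card Unit = 1 := Nat.card_unique
  have hB2 : Nat.card Bool = 2 := by rw [Nat.card_eq_fintype_card, Fintype.card_bool]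
  rw [Nat.card_prod, Nat.card_sum, hU, hB2] at hle
  -- `|P|` is even
  have heven : 2 ∣ Nat.card (P : Subgroup G) := by
    obtain ⟨n, hn⟩ := P.2.exists_card_eq
    rw [hn]
    have hn0 : n ≠ 0 := by
      rintro rfl
      rw [pow_zero] at hn
      exact hP (Subgroup.eq_bot_of_card_eq _ hn)
    exact dvd_pow_self 2 hn0
  omega

end counting

section quotient

variable {G : Type*} [Group G]

/-- a conjugate of a 2-element is a 2-element -/
theorem two_elt_of_isConj {a b : G} (h : IsConj a b) (ha : ∃ k : ℕ, orderOf a = 2 ^ k) :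
    ∃ k : ℕ, orderOf b = 2 ^ k := by
  obtain ⟨k, hk⟩ := ha
  obtain ⟨c, hc⟩ := isConj_iff.mp h
  refine ⟨k, ?_⟩
  rw [← hk, ← hc]
  have := MulEquiv.orderOf_eq (MulAut.conj c) a
  rwa [MulAut.conj_apply] at this

/-- the image of a 2-element under a homomorphism is a 2-element -/
theorem two_elt_map {H : Type*} [Group H] (f : G →* H) {a : G} (ha : ∃ k : ℕ, orderOf a = 2 ^ k) :
    ∃ k : ℕ, orderOf (f a) = 2 ^ k := by
  obtain ⟨k, hk⟩ := ha
  have h1 : orderOf (f a) ∣ 2 ^ k := by
    rw [← hk]; exact orderOf_map_dvd f a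
  obtain ⟨j, -, hj⟩ := (Nat.dvd_prime_pow Nat.prime_two).mp h1
  exact ⟨j, hj⟩

/-- the induced map on classes of 2-elements -/
def cmap {H : Type*} [Group H] (f : G →* H) (c : K2 G) : K2 H :=
  ⟨ConjClasses.map f c.1, by
    obtain ⟨c, hc⟩ := c
    obtain ⟨x, rfl⟩ := ConjClasses.mk_surjective c
    intro y hy
    have hx := hc x ConjClasses.mem_carrier_mk
    have h1 : ConjClasses.map f (ConjClasses.mk x) = ConjClasses.mk (f x) := rfl
    rw [h1, ConjClasses.mem_carrier_iff_mk_eq, ConjClasses.mk_eq_mk_iff_isConj] at hy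
    exact two_elt_of_isConj hy.symm (two_elt_map f hx)⟩

theorem cmap_pclass {H : Type*} [Group H] (f : G →* H) (x : G) (hx : ∃ k : ℕ, orderOf x = 2 ^ k) :
    cmap f (pclass 2 x hx) = pclass 2 (f x) (two_elt_map f hx) := rfl

theorem exists_pclass_eq (c : K2 G) : ∃ (x : G) (hx : ∃ k : ℕ, orderOf x = 2 ^ k), pclass 2 x hx = c := by
  obtain ⟨c, hc⟩ := c
  obtain ⟨x, rfl⟩ := ConjClasses.mk_surjective c
  exact ⟨x, hc x ConjClasses.mem_carrier_mk, rfl⟩

/-- if the images of two 2-elements are conjugate in `G ⧸ N`, a conjugate of the first is congruent to the second -/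
theorem exists_conj_mul_mem (N : Subgroup G) [N.Normal] {x x' : G}
    (h : IsConj (QuotientGroup.mk' N x) (QuotientGroup.mk' N x')) :
    ∃ g : G, (g * x * g⁻¹)⁻¹ * x' ∈ N := by
  obtain ⟨gb, hgb⟩ := isConj_iff.mp h
  obtain ⟨g, rfl⟩ := QuotientGroup.mk'_surjective N gb
  refine ⟨g, ?_⟩
  rw [← QuotientGroup.eq]
  have : ((g * x * g⁻¹ : G) : G ⧸ N) = (QuotientGroup.mk' N) g * (QuotientGroup.mk' N) x *
      ((QuotientGroup.mk' N) g)⁻¹ := by simp
  rw [this, hgb]
  rfl

/-- classes of 2-elements inject into those of the quotient by a normal subgroup of odd order -/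
theorem cmap_injective_of_odd [Finite G] (N : Subgroup G) [N.Normal] (hN : (Nat.card N).Coprime 2) :
    Function.Injective (cmap (QuotientGroup.mk' N)) := by
  intro c c' hcc
  obtain ⟨x, hx, rfl⟩ := exists_pclass_eq c
  obtain ⟨x', hx', rfl⟩ := exists_pclass_eq c'
  rw [cmap_pclass, cmap_pclass, pclass_eq_iff] at hcc
  obtain ⟨g, hg⟩ := exists_conj_mul_mem N hcc
  rw [pclass_eq_iff]
  obtain ⟨k, hk⟩ := hx
  obtain ⟨k', hk'⟩ := hx'
  have : Fact (Nat.Prime 2) := ⟨Nat.prime_two⟩
  have h1 : (g * x * g⁻¹) ^ (2 ^ (k + k')) = 1 := by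
    have : (g * x * g⁻¹) ^ (2 ^ (k + k')) = g * x ^ (2 ^ (k + k')) * g⁻¹ := conj_pow
    rw [this, pow_add, pow_mul, ← hk, pow_orderOf_eq_one, one_pow]
    group
  have h2 : x' ^ (2 ^ (k + k')) = 1 := by
    rw [pow_add, mul_comm, pow_mul, ← hk', pow_orderOf_eq_one, one_pow]
  obtain ⟨c, -, hc⟩ := Cfsg.Agent.Lib.Helper32_Sylow.conj_of_mem_coset_coprime_normal N hN
    (g * x * g⁻¹) x' (k + k') h1 h2 hg
  -- `c x' c⁻¹ = g x g⁻¹`
  rw [isConj_iff]
  refine ⟨c⁻¹ * g, ?_⟩
  have : c⁻¹ * g * x * (c⁻¹ * g)⁻¹ = c⁻¹ * (g * x * g⁻¹) * c := by group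
  rw [this, ← hc]
  group

/-- classes of 2-elements: at most two over each class of the quotient by a central subgroup of order 2 -/
theorem card_K2_le_two_mul [Finite G] (Z : Subgroup G) [Z.Normal] (hZ2 : Nat.card Z = 2) :
    Nat.card (K2 G) ≤ 2 * Nat.card (K2 (G ⧸ Z)) := by
  classical
  -- `Z = {1, i}`
  obtain ⟨i, hi1, hiu⟩ := (Nat.card_eq_two_iff' (1 : Z)).mp hZ2
  have hZelts : ∀ z ∈ Z, z = 1 ∨ z = (i : G) := by
    intro z hz
    by_cases h1 : z = 1
    · exact Or.inl h1
    · right
      have := hiu ⟨z, hz⟩ (fun h => h1 (congrArg Subtype.val h))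
      exact congrArg Subtype.val this
  -- among three classes with the same image two coincide
  have key : ∀ c c' c'' : K2 G, cmap (QuotientGroup.mk' Z) c' = cmap (QuotientGroup.mk' Z) c →
      cmap (QuotientGroup.mk' Z) c'' = cmap (QuotientGroup.mk' Z) c → c' = c ∨ c'' = c ∨ c' = c'' := by
    intro c c' c'' h' h''
    obtain ⟨x, hx, rfl⟩ := exists_pclass_eq c
    obtain ⟨x', hx', rfl⟩ := exists_pclass_eq c'
    obtain ⟨x'', hx'', rfl⟩ := exists_pclass_eq c''
    rw [cmap_pclass, cmap_pclass, pclass_eq_iff] at h' h''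
    obtain ⟨g', hg'⟩ := exists_conj_mul_mem Z h'
    obtain ⟨g'', hg''⟩ := exists_conj_mul_mem Z h''
    rcases hZelts _ hg' with h1 | h1
    · left
      rw [pclass_eq_iff, isConj_iff]
      refine ⟨g', ?_⟩
      rw [inv_mul_eq_one] at h1
      exact h1
    · rcases hZelts _ hg'' with h2 | h2
      · right; left
        rw [pclass_eq_iff, isConj_iff]
        refine ⟨g'', ?_⟩
        rw [inv_mul_eq_one] at h2
        exact h2
      · right; right
        rw [pclass_eq_iff, isConj_iff]
        refine ⟨g''⁻¹ * g', ?_⟩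
        have e1 : g' * x' * g'⁻¹ = x * (i : G)⁻¹ := by
          have : g' * x' * g'⁻¹ = x * ((g' * x' * g'⁻¹)⁻¹ * x)⁻¹ := by group
          rw [this, h1]
        have e2 : g'' * x'' * g''⁻¹ = x * (i : G)⁻¹ := by
          have : g'' * x'' * g''⁻¹ = x * ((g'' * x'' * g''⁻¹)⁻¹ * x)⁻¹ := by group
          rw [this, h2]
        have : g''⁻¹ * g' * x' * (g''⁻¹ * g')⁻¹ = g''⁻¹ * (g' * x' * g'⁻¹) * g'' := by group
        rw [this, e1, ← e2]
        group
  have : Nonempty (K2 G) := ⟨pclass 2 1 ⟨0, by simp⟩⟩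
  let F := cmap (G := G) (QuotientGroup.mk' Z)
  let ρ : K2 (G ⧸ Z) → K2 G := Function.invFun F
  let J : K2 G → K2 (G ⧸ Z) × Bool := fun c => (F c, decide (c = ρ (F c)))
  have hJ : Function.Injective J := by
    intro c c' hcc
    simp only [J, Prod.mk.injEq] at hcc
    obtain ⟨hF, hd⟩ := hcc
    have hρ : F (ρ (F c)) = F c := Function.invFun_eq ⟨c, rfl⟩
    rw [← hF] at hd
    by_cases h1 : c = ρ (F c)
    · have h2 : c' = ρ (F c) := by
        have : decide (c' = ρ (F c)) = true := by rw [← hd]; exact decide_eq_true h1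
        exact of_decide_eq_true this
      rw [h2]; exact h1
    · have h2 : ¬ c' = ρ (F c) := by
        intro h2
        have : decide (c = ρ (F c)) = true := by rw [hd]; exact decide_eq_true h2
        exact h1 (of_decide_eq_true this)
      rcases key (ρ (F c)) c c' hρ.symm (hF.symm.trans hρ.symm) with h | h | h
      · exact absurd h h1
      · exact absurd h h2
      · exact h
  have hle := Nat.card_le_card_of_injective J hJ
  have hB2 : Nat.card Bool = 2 := by rw [Nat.card_eq_fintype_card, Fintype.card_bool]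
  rw [Nat.card_prod, hB2] at hle
  omega

end quotient

section main

/-- `FrobHyp` lifts through the quotient by a central 2-subgroup -/
theorem frobHyp_of_quot_central {G : Type*} [Group G] (Z : Subgroup G) [Z.Normal]
    (hZc : Z ≤ Subgroup.center G) (hF : FrobHyp 2 (G ⧸ Z)) : FrobHyp 2 G := by
  have : Fact (Nat.Prime 2) := ⟨Nat.prime_two⟩
  intro Q hQ g hg hgo
  have hQbar : IsPGroup 2 (Q.map (QuotientGroup.mk' Z)) := hQ.map _
  have hgN : QuotientGroup.mk' Z g ∈ Subgroup.normalizer ((Q.map (QuotientGroup.mk' Z) : Subgroup (G ⧸ Z)) : Set (G ⧸ Z)) := by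
    have h1 := Subgroup.le_normalizer_map (QuotientGroup.mk' Z) (H := Q)
    exact h1 (Subgroup.mem_map_of_mem _ hg)
  have hgo' : (orderOf (QuotientGroup.mk' Z g)).Coprime 2 :=
    Nat.Coprime.coprime_dvd_left (orderOf_map_dvd _ g) hgo
  have hgC := hF _ hQbar _ hgN hgo'
  apply Cfsg.Agent.Lib.Helper29_NPCSections.lemmaC Q (Q ⊓ Z) hQ inf_le_left g hgo
  · rw [Subgroup.mem_centralizer_iff]
    intro z hz
    exact (Subgroup.mem_center_iff.mp (hZc (Subgroup.mem_inf.mp hz).2) g).symm
  · intro x hx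
    refine Subgroup.mem_inf.mpr ⟨?_, ?_⟩
    · exact Q.mul_mem ((Subgroup.mem_normalizer_iff.mp hg x).mp hx) (Q.inv_mem hx)
    · rw [← QuotientGroup.eq_one_iff]
      have h1 := Subgroup.mem_centralizer_iff.mp hgC _ (Subgroup.mem_map_of_mem (QuotientGroup.mk' Z) hx)
      have : ((g * x * g⁻¹ * x⁻¹ : G) : G ⧸ Z) = (QuotientGroup.mk' Z g) * (QuotientGroup.mk' Z x) *
          (QuotientGroup.mk' Z g)⁻¹ * (QuotientGroup.mk' Z x)⁻¹ := by simp
      rw [this, ← h1]
      group

/-- **Main theorem**: more than `|P|/2` classes of 2-elements force a normal 2-complement. -/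
theorem hasNPC_of_many_aux : ∀ (n : ℕ) (G : Type u) [Group G] [Finite G], Nat.card G = n →
    ∀ P : Sylow 2 G, Nat.card (P : Subgroup G) < 2 * Nat.card (K2 G) → HasNPC 2 G := by
  intro n
  induction n using Nat.strong_induction_on with
  | _ n ih =>
  intro G _ _ hn P hP
  have : Fact (Nat.Prime 2) := ⟨Nat.prime_two⟩
  by_cases hA : ∃ N : Subgroup G, N.Normal ∧ Odd (Nat.card N) ∧ N ≠ ⊥
  · -- Case A: pass to the quotient by a normal subgroup of odd order
    obtain ⟨N, hNn, hNodd, hNne⟩ := hA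
    have hNc : (Nat.card N).Coprime 2 := Nat.coprime_two_right.mpr hNodd
    have hcard : Nat.card (G ⧸ N) < n := by
      have h1 := Subgroup.card_eq_card_quotient_mul_card_subgroup N
      rw [hn] at h1
      have h2 : 1 < Nat.card N := (Subgroup.one_lt_card_iff_ne_bot N).mpr hNne
      have hpos : 0 < Nat.card (G ⧸ N) := Nat.card_pos
      nlinarith
    let Pbar : Sylow 2 (G ⧸ N) := P.mapSurjective (QuotientGroup.mk'_surjective N)
    have hPbar : (Pbar : Subgroup (G ⧸ N)) = (P : Subgroup G).map (QuotientGroup.mk' N) :=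
      Sylow.coe_mapSurjective _ P
    have h1 : Nat.card (Pbar : Subgroup (G ⧸ N)) ≤ Nat.card (P : Subgroup G) := by
      rw [hPbar]
      exact Nat.le_of_dvd Nat.card_pos (Subgroup.card_map_dvd _ _)
    have h2 : Nat.card (K2 G) ≤ Nat.card (K2 (G ⧸ N)) :=
      Nat.card_le_card_of_injective _ (cmap_injective_of_odd N hNc)
    have h3 := ih _ hcard (G ⧸ N) rfl Pbar (by omega)
    exact Cfsg.Agent.Lib.Helper34_NPC.hasNPC_of_quotient N hNc h3
  · have hO : NoOddNormal G := by
      intro N hNn hNodd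
      by_contra hne
      exact hA ⟨N, hNn, hNodd, hne⟩
    by_cases hB : ∃ z ∈ Subgroup.center G, orderOf z = 2
    · -- Case B: pass to the quotient by a central involution
      obtain ⟨z, hzc, hzo⟩ := hB
      set Z : Subgroup G := Subgroup.zpowers z with hZ
      have hZc : Z ≤ Subgroup.center G := by
        rw [hZ, Subgroup.zpowers_le]; exact hzc
      have hZn : Z.Normal := by
        constructor
        intro w hw g
        have := Subgroup.mem_center_iff.mp (hZc hw) g
        have h1 : g * w * g⁻¹ = w := by rw [this]; group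
        rw [h1]; exact hw
      have hZ2 : Nat.card Z = 2 := by rw [hZ, Nat.card_zpowers, hzo]
      have hGcard : Nat.card G = Nat.card (G ⧸ Z) * 2 := by
        rw [← hZ2]; exact Subgroup.card_eq_card_quotient_mul_card_subgroup Z
      have hcard : Nat.card (G ⧸ Z) < n := by
        rw [hn] at hGcard
        have hpos : 0 < Nat.card (G ⧸ Z) := Nat.card_pos
        omega
      let Pbar : Sylow 2 (G ⧸ Z) := P.mapSurjective (QuotientGroup.mk'_surjective Z)
      have h1 : Nat.card (P : Subgroup G) = 2 * Nat.card (Pbar : Subgroup (G ⧸ Z)) := by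
        rw [P.card_eq_multiplicity, Pbar.card_eq_multiplicity, hGcard,
          Nat.factorization_mul Nat.card_pos.ne' (by norm_num), Finsupp.add_apply,
          Nat.Prime.factorization_self Nat.prime_two, pow_succ, mul_comm]
      have h2 : Nat.card (K2 G) ≤ 2 * Nat.card (K2 (G ⧸ Z)) := card_K2_le_two_mul Z hZ2
      have h3 := ih _ hcard (G ⧸ Z) rfl Pbar (by omega)
      exact hasNPC_of_frobHyp (frobHyp_of_quot_central Z hZc (frobHyp_of_hasNPC h3))
    · -- Case C: trivial odd core and no central involution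
      by_cases hPbot : (P : Subgroup G) = ⊥
      · -- `G` has odd order
        apply Cfsg.Agent.Lib.Helper34_NPC.hasNPC_of_coprime
        have h1 := P.card_eq_multiplicity
        rw [hPbot, Subgroup.card_bot] at h1
        have h2 : (Nat.card G).factorization 2 = 0 := by
          by_contra h0
          have : 1 < 2 ^ (Nat.card G).factorization 2 := Nat.one_lt_two_pow h0
          omega
        rw [Nat.coprime_two_right, ← Nat.not_even_iff_odd, even_iff_two_dvd]
        intro hdvd
        have := (Nat.Prime.factorization_pos_of_dvd Nat.prime_two Nat.card_pos.ne' hdvd)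
        omega
      · exfalso
        have hkey : ∀ x ∈ P, x ≠ 1 → ∃ g : G, g * x * g⁻¹ ∈ P ∧ g * x * g⁻¹ ≠ x := by
          intro x hxP hx1
          by_contra hcon
          push Not at hcon
          have hxc : x ∈ Subgroup.center G := zstar_elt hO P x hxP hcon
          -- a power of `x` is a central involution
          obtain ⟨m, hm⟩ := (IsPGroup.iff_orderOf.mp P.isPGroup') ⟨x, hxP⟩
          rw [Subgroup.orderOf_mk] at hm
          have hm0 : m ≠ 0 := by
            rintro rfl
            rw [pow_zero, orderOf_eq_one_iff] at hm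
            exact hx1 hm
          obtain ⟨k, rfl⟩ := Nat.exists_eq_succ_of_ne_zero hm0
          apply hB
          refine ⟨x ^ (2 ^ k), Subgroup.pow_mem _ hxc _, ?_⟩
          rw [orderOf_pow_of_dvd (by positivity) (by rw [hm]; exact pow_dvd_pow 2 (Nat.le_succ k)), hm,
            pow_succ, Nat.mul_div_cancel_left _ (by positivity)]
        have := two_mul_card_le P hPbot hkey
        omega

theorem hasNPC_of_many {G : Type u} [Group G] [Finite G] (P : Sylow 2 G)
    (h : Nat.card (P : Subgroup G) < 2 * Nat.card (K2 G)) : HasNPC 2 G :=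
  hasNPC_of_many_aux _ G rfl P h

end main

section compare

variable {G : Type*} [Group G] [Finite G]

/-- the map from classes of `P` to classes of 2-elements of `G` -/
noncomputable def pmap (P : Sylow 2 G) (d : ConjClasses (P : Subgroup G)) : K2 G :=
  ⟨ConjClasses.map (P : Subgroup G).subtype d, by
    obtain ⟨p, rfl⟩ := ConjClasses.mk_surjective d
    intro y hy
    have h1 : ConjClasses.map (P : Subgroup G).subtype (ConjClasses.mk p) = ConjClasses.mk (p : G) := rfl
    rw [h1, ConjClasses.mem_carrier_iff_mk_eq, ConjClasses.mk_eq_mk_iff_isConj] at hy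
    exact two_elt_of_isConj hy.symm (exists_orderOf_eq_of_mem_sylow P p.2)⟩

omit [Finite G] in
theorem pmap_mk (P : Sylow 2 G) (p : (P : Subgroup G)) : pmap P (ConjClasses.mk p) = cls P p := rfl

/-- `k₂(G) ≤ k(P)` -/
theorem card_K2_le_card_conjClasses (P : Sylow 2 G) :
    Nat.card (K2 G) ≤ Nat.card (ConjClasses (P : Subgroup G)) := by
  apply Nat.card_le_card_of_surjective (pmap P)
  intro c
  obtain ⟨p, hp⟩ := cls_surjective P c
  exact ⟨ConjClasses.mk p, by rw [pmap_mk, hp]⟩

/-- `k(P) ≤ k₂(G)` when `G` has a normal 2-complement -/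
theorem card_conjClasses_le_card_K2 (hF : FrobHyp 2 G) (P : Sylow 2 G) :
    Nat.card (ConjClasses (P : Subgroup G)) ≤ Nat.card (K2 G) := by
  have : Fact (Nat.Prime 2) := ⟨Nat.prime_two⟩
  apply Nat.card_le_card_of_injective (pmap P)
  intro d d' hdd
  obtain ⟨p, rfl⟩ := ConjClasses.mk_surjective d
  obtain ⟨q, rfl⟩ := ConjClasses.mk_surjective d'
  rw [pmap_mk, pmap_mk, cls_eq_iff, isConj_iff] at hdd
  obtain ⟨g, hg⟩ := hdd
  have hgP : g * (p : G) * g⁻¹ ∈ P := by rw [hg]; exact q.2
  obtain ⟨y, hyP, hy⟩ := fusion hF P p.2 hgP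
  rw [ConjClasses.mk_eq_mk_iff_isConj, isConj_iff]
  refine ⟨⟨y, hyP⟩, ?_⟩
  apply Subtype.ext
  show y * (p : G) * y⁻¹ = q
  rw [← hy, hg]

end compare

end Cfsg.Agent.Lib.Helper4_TwoClasses
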