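import Mathlib
import Cfsg.Agent.Lib.Helper27_UQDefs
import Cfsg.Agent.Lib.Helper94_HermWitt
import Cfsg.Agent.Lib.Helper94_HermIrr
import Cfsg.Agent.Lib.Helper95_UQ_FLD
import Cfsg.Agent.Lib.Helper54_U5_D3WITT

/-!
# U5 package D3-ALLISO (architect helper85, proof helper4)

In a nondegenerate hermitian space of dimension 3 over a field with `q^2` elements, an additive
subgroup consisting of isotropic vectors has at most `q^2` elements.
-/

set_option autoImplicit false
set_option linter.unusedSectionVars false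
set_option linter.unusedVariables false

open Module Cfsg.Agent.Lib.Helper94_Symp Cfsg.Agent.Lib.Helper94_Herm
  Cfsg.Agent.Lib.Helper94_HermEich Cfsg.Agent.Lib.Helper94_HermPara
  Cfsg.Agent.Lib.Helper94_HermTrans
  Cfsg.Agent.Lib.Helper13_SUGen Cfsg.Agent.Lib.Helper13_PSUSimple
  Cfsg.Agent.Lib.Helper46_U3TI Cfsg.Agent.Lib.Helper14_PSULocal1
  Cfsg.Agent.Lib.Helper27_UQDefs

namespace Cfsg.Agent.Lib.Helper4_U5_D3ALLISO

open Cfsg.Agent.Lib.Helper54_U5_D3WITT

variable {F U : Type*} [Field F] [AddCommGroup U] [Module F U] {σ : F →+* F}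
variable {C : U →ₗ[F] U →ₛₗ[σ] F}

/-- in an all-isotropic additive subgroup the form has skew values -/
theorem skew_of_all_iso (hC : IsHerm C) (A : AddSubgroup U) (hA : ∀ x ∈ A, C x x = 0)
    {x y : U} (hx : x ∈ A) (hy : y ∈ A) : σ (C x y) = -(C x y) := by
  have h1 := hA (x + y) (A.add_mem hx hy)
  rw [map_add, map_add, LinearMap.add_apply, LinearMap.add_apply, hA x hx, hA y hy, zero_add,
    add_zero, hC x y] at h1
  exact eq_neg_of_add_eq_zero_left h1

/-- **D3-ALLISO** -/
theorem card_le_of_all_iso [Finite F] [FiniteDimensional F U] (hσ : Invol σ) (hC : IsHerm C)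
    (hN : NondegOn C ⊤) {q : ℕ} (hF : Nat.card F = q ^ 2) (h3 : finrank F U = 3)
    (A : AddSubgroup U) (hA : ∀ x ∈ A, C x x = 0) : Nat.card A ≤ q ^ 2 := by
  have : Finite U := Module.finite_of_finite F
  by_cases hbot : A = ⊥
  · rw [hbot, AddSubgroup.card_bot]
    rw [← hF]
    exact Nat.card_pos
  obtain ⟨⟨a, haA⟩, ha0'⟩ := (AddSubgroup.ne_bot_iff_exists_ne_zero).mp hbot
  have ha0 : a ≠ 0 := fun h => ha0' (Subtype.ext h)
  have haa : C a a = 0 := hA a haA
  -- elements of `A` orthogonal to `a` are multiples of `a`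
  have hmul : ∀ b ∈ A, C b a = 0 → ∃ c : F, b = c • a := by
    intro b hb hba
    refine witt_one hσ hC hN h3 ha0 haa (hA b hb) ?_
    rw [hC b a, hba, map_zero]
  by_cases hex : ∃ b₀ ∈ A, C b₀ a ≠ 0
  · obtain ⟨b₀, hb₀, hs⟩ := hex
    set φ : A →+ F := ((C.flip a).toAddMonoidHom).comp A.subtype with hφ
    have hφv : ∀ b : A, φ b = C (b : U) a := fun b => rfl
    have hcard : Nat.card φ.ker * Nat.card φ.range = Nat.card A := by
      rw [← AddSubgroup.index_ker, AddSubgroup.card_mul_index]
    -- the range consists of skew elements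
    have hrange : Nat.card φ.range ≤ q := by
      rw [← Cfsg.Agent.Lib.Helper95_UQ_FLD.card_skew hσ hF]
      refine Nat.card_le_card_of_injective
        (fun y : φ.range => (⟨(y : F), ?_⟩ : {c : F // σ c = -c})) ?_
      · obtain ⟨b, hb⟩ := y.2
        rw [← hb, hφv]
        exact skew_of_all_iso hC A hA b.2 haA
      · intro y y' hyy'
        exact Subtype.ext (Subtype.mk.inj hyy')
    -- the kernel is a set of multiples of `a` by fixed scalars
    have hker : Nat.card φ.ker ≤ q := by
      rw [← Cfsg.Agent.Lib.Helper95_UQ_FLD.card_fixed hσ hF]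
      have hk : ∀ b : φ.ker, ∃ c : F, ((b : A) : U) = c • a := by
        intro b
        have hb : φ (b : A) = 0 := b.2
        exact hmul _ (b : A).2 (by rw [← hφv]; exact hb)
      choose g hg using hk
      have hfix : ∀ b : φ.ker, σ (g b) = g b := by
        intro b
        have h1 := skew_of_all_iso hC A hA hb₀ (b : A).2
        rw [hg b, map_smulₛₗ, smul_eq_mul, map_mul, hσ.invol] at h1
        have h2 : σ (C b₀ a) = -(C b₀ a) := skew_of_all_iso hC A hA hb₀ haA
        rw [h2] at h1
        have h3 : (σ (g b) - g b) * C b₀ a = 0 := by linear_combination h1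
        rcases mul_eq_zero.mp h3 with h4 | h4
        · exact sub_eq_zero.mp h4
        · exact absurd h4 hs
      refine Nat.card_le_card_of_injective
        (fun b : φ.ker => (⟨g b, hfix b⟩ : {c : F // σ c = c})) ?_
      intro b b' hbb'
      have h1 : g b = g b' := Subtype.mk.inj hbb'
      apply Subtype.ext
      apply Subtype.ext
      rw [hg b, hg b', h1]
    calc Nat.card A = Nat.card φ.ker * Nat.card φ.range := hcard.symm
      _ ≤ q * q := Nat.mul_le_mul hker hrange
      _ = q ^ 2 := (sq q).symm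
  · push Not at hex
    rw [← hF]
    have hk : ∀ b : A, ∃ c : F, (b : U) = c • a := fun b => hmul b b.2 (hex b b.2)
    choose g hg using hk
    refine Nat.card_le_card_of_injective g ?_
    intro b b' hbb'
    apply Subtype.ext
    rw [hg b, hg b', hbb']

end Cfsg.Agent.Lib.Helper4_U5_D3ALLISO
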