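import Mathlib
import Cfsg.Agent.Lib.Helper27_UQDefs
import Cfsg.Agent.Lib.Helper94_HermWitt
import Cfsg.Agent.Lib.Helper94_HermIrr
import Cfsg.Agent.Lib.Helper54_U5_D3WITT

/-!
# U5 package D3-TRICK, auxiliary form (architect helper85, proof helper4)

The number of nonzero isotropic vectors (package D3-CNT) enters as the hypothesis `hcnt`.

In a nondegenerate hermitian space of dimension 3 over a field with `q^2` elements, a nonzero additive
subgroup `I` which is normalised by a nontrivial transvection with centre `u`, for every nonzero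
isotropic `u`, has more than `q^3` elements: every nonzero isotropic vector is a scalar multiple of
an isotropic vector of `I`.
-/

set_option autoImplicit false
set_option linter.unusedSectionVars false
set_option linter.unusedVariables false

open Module Cfsg.Agent.Lib.Helper94_Symp Cfsg.Agent.Lib.Helper94_Herm
  Cfsg.Agent.Lib.Helper94_HermEich Cfsg.Agent.Lib.Helper94_HermPara
  Cfsg.Agent.Lib.Helper94_HermTrans
  Cfsg.Agent.Lib.Helper13_SUGen Cfsg.Agent.Lib.Helper13_PSUSimple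
  Cfsg.Agent.Lib.Helper46_U3TI Cfsg.Agent.Lib.Helper14_PSULocal1
  Cfsg.Agent.Lib.Helper27_UQDefs

namespace Cfsg.Agent.Lib.Helper4_U5_D3TRICK0

open Cfsg.Agent.Lib.Helper54_U5_D3WITT

variable {F U : Type*} [Field F] [AddCommGroup U] [Module F U] {σ : F →+* F}
variable {C : U →ₗ[F] U →ₛₗ[σ] F}

/-- a transvection normalising `I` puts a multiple of its centre into `I` -/
theorem smul_mem_of_utv (I : AddSubgroup U) {u x : U} (huu : C u u = 0) (hx : x ∈ I) {c : F}
    (h : utv C u c x ∈ I) : (c * C x u) • u ∈ I := by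
  rw [utv_apply C huu] at h
  have := I.sub_mem h hx
  rwa [add_sub_cancel_left] at this

theorem smul_iso {u : U} (huu : C u u = 0) (l : F) : C (l • u) (l • u) = 0 := by
  simp only [map_smul, LinearMap.smul_apply, map_smulₛₗ, smul_eq_mul, huu, mul_zero]

/-- **D3-TRICK**, with the count of the isotropic vectors as a hypothesis -/
theorem trick_aux [Finite F] [FiniteDimensional F U] (hσ : Invol σ) (hC : IsHerm C)
    (hN : NondegOn C ⊤) {q : ℕ} (hF : Nat.card F = q ^ 2) (h3 : finrank F U = 3)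
    (hcnt : Nat.card {x : U // x ≠ 0 ∧ C x x = 0} = (q ^ 2 - 1) * (q ^ 3 + 1))
    (I : AddSubgroup U) (hI0 : I ≠ ⊥)
    (htv : ∀ u : U, u ≠ 0 → C u u = 0 → ∃ c : F, c ≠ 0 ∧ σ c = -c ∧ ∀ x ∈ I, utv C u c x ∈ I) :
    q ^ 3 < Nat.card I := by
  have : Finite U := Module.finite_of_finite F
  obtain ⟨⟨x, hxI⟩, hx0'⟩ := (AddSubgroup.ne_bot_iff_exists_ne_zero).mp hI0
  have hx0 : x ≠ 0 := fun h => hx0' (Subtype.ext h)
  -- a nonzero isotropic vector of `I`
  obtain ⟨u, huu, hxu⟩ := exists_iso_nperp hσ hC hN h3 hx0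
  have hu0 : u ≠ 0 := by
    intro h
    rw [h, map_zero] at hxu
    exact hxu rfl
  obtain ⟨c, hc0, _, hcI⟩ := htv u hu0 huu
  set a : U := (c * C x u) • u with ha
  have haI : a ∈ I := smul_mem_of_utv I huu hxI (hcI x hxI)
  have ha0 : a ≠ 0 := smul_ne_zero (mul_ne_zero hc0 hxu) hu0
  have haa : C a a = 0 := smul_iso huu _
  -- every nonzero isotropic vector is a multiple of an isotropic vector of `I`
  have hcover : ∀ u' : U, u' ≠ 0 → C u' u' = 0 →
      ∃ (l : F) (y : U), l ≠ 0 ∧ y ∈ I ∧ y ≠ 0 ∧ C y y = 0 ∧ u' = l • y := by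
    intro u' hu'0 hu'u'
    by_cases hau' : C a u' = 0
    · obtain ⟨l, hl⟩ := witt_one hσ hC hN h3 ha0 haa hu'u' hau'
      refine ⟨l, a, ?_, haI, ha0, haa, hl⟩
      intro h
      rw [h, zero_smul] at hl
      exact hu'0 hl
    · obtain ⟨c', hc'0, _, hc'I⟩ := htv u' hu'0 hu'u'
      have hl0 : c' * C a u' ≠ 0 := mul_ne_zero hc'0 hau'
      refine ⟨(c' * C a u')⁻¹, (c' * C a u') • u', inv_ne_zero hl0,
        smul_mem_of_utv I hu'u' haI (hc'I a haI), smul_ne_zero hl0 hu'0, smul_iso hu'u' _, ?_⟩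
      rw [smul_smul, inv_mul_cancel₀ hl0, one_smul]
  -- counting
  have hq2 : 2 ≤ q ^ 2 := by
    rw [← hF]
    exact Finite.one_lt_card
  have hsurj : Function.Surjective
      (fun p : Fˣ × {y : U // y ∈ I ∧ y ≠ 0 ∧ C y y = 0} =>
        (⟨((p.1 : Fˣ) : F) • (p.2 : U), smul_ne_zero p.1.ne_zero p.2.2.2.1,
          smul_iso p.2.2.2.2 _⟩ : {x : U // x ≠ 0 ∧ C x x = 0})) := by
    rintro ⟨u', hu'0, hu'u'⟩
    obtain ⟨l, y, hl0, hyI, hy0, hyy, hu'⟩ := hcover u' hu'0 hu'u'
    refine ⟨(Units.mk0 l hl0, ⟨y, hyI, hy0, hyy⟩), ?_⟩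
    apply Subtype.ext
    exact hu'.symm
  have h1 := Nat.card_le_card_of_surjective _ hsurj
  rw [hcnt, Nat.card_prod, Nat.card_units, hF] at h1
  have h2 : q ^ 3 + 1 ≤ Nat.card {y : U // y ∈ I ∧ y ≠ 0 ∧ C y y = 0} :=
    Nat.le_of_mul_le_mul_left h1 (by omega)
  -- `0` is one more element of `I`
  have h3' : Nat.card (Option {y : U // y ∈ I ∧ y ≠ 0 ∧ C y y = 0}) ≤ Nat.card I := by
    refine Nat.card_le_card_of_injective
      (fun o => match o with
        | none => (0 : I)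
        | some y => ⟨(y : U), y.2.1⟩) ?_
    intro o o' hoo'
    rcases o with _ | y <;> rcases o' with _ | y'
    · rfl
    · exfalso
      have h : (0 : I) = ⟨(y' : U), y'.2.1⟩ := hoo'
      exact y'.2.2.1 (congrArg Subtype.val h).symm
    · exfalso
      have h : (⟨(y : U), y.2.1⟩ : I) = 0 := hoo'
      exact y.2.2.1 (congrArg Subtype.val h)
    · have h : (⟨(y : U), y.2.1⟩ : I) = ⟨(y' : U), y'.2.1⟩ := hoo'
      have : (y : U) = (y' : U) := Subtype.mk.inj h
      rw [Subtype.ext this]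
  rw [Finite.card_option] at h3'
  omega

end Cfsg.Agent.Lib.Helper4_U5_D3TRICK0
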