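import Mathlib
import Cfsg.Agent.Lib.Helper27_UQDefs
import Cfsg.Agent.Lib.Helper94_HermWitt
import Cfsg.Agent.Lib.Helper94_HermIrr
import Cfsg.Agent.Lib.Helper4_U5_D3TRICK0
import Cfsg.Agent.Lib.Helper32_U5_D3CNT

/-!
# U5 package D3-TRICK (architect helper85, proof helper4)

The verbatim statement: `Helper4_U5_D3TRICK0.trick_aux` with the count `card_iso` of D3-CNT (helper32).
-/

set_option autoImplicit false
set_option linter.unusedSectionVars false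
set_option linter.unusedVariables false

open Module Cfsg.Agent.Lib.Helper94_Symp Cfsg.Agent.Lib.Helper94_Herm
  Cfsg.Agent.Lib.Helper94_HermEich Cfsg.Agent.Lib.Helper94_HermPara
  Cfsg.Agent.Lib.Helper94_HermTrans
  Cfsg.Agent.Lib.Helper13_SUGen Cfsg.Agent.Lib.Helper13_PSUSimple
  Cfsg.Agent.Lib.Helper46_U3TI Cfsg.Agent.Lib.Helper14_PSULocal1
  Cfsg.Agent.Lib.Helper27_UQDefs

namespace Cfsg.Agent.Lib.Helper4_U5_D3TRICK

variable {F U : Type*} [Field F] [AddCommGroup U] [Module F U] {σ : F →+* F}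
variable {C : U →ₗ[F] U →ₛₗ[σ] F}

/-- **D3-TRICK** -/
theorem trick [Finite F] [FiniteDimensional F U] (hσ : Invol σ) (hC : IsHerm C)
    (hN : NondegOn C ⊤) {q : ℕ} (hF : Nat.card F = q ^ 2) (h3 : finrank F U = 3)
    (I : AddSubgroup U) (hI0 : I ≠ ⊥)
    (htv : ∀ u : U, u ≠ 0 → C u u = 0 → ∃ c : F, c ≠ 0 ∧ σ c = -c ∧ ∀ x ∈ I, utv C u c x ∈ I) :
    q ^ 3 < Nat.card I :=
  Cfsg.Agent.Lib.Helper4_U5_D3TRICK0.trick_aux hσ hC hN hF h3
    (Cfsg.Agent.Lib.Helper32_U5_D3CNT.card_iso hσ hC hN hF h3) I hI0 htv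

end Cfsg.Agent.Lib.Helper4_U5_D3TRICK
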