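import Cfsg.Agent.Lib.Helper50_CL2

set_option autoImplicit false
open scoped Pointwise commutatorElement

namespace Cfsg.Agent.Lib.Helper50_CL3

open Cfsg.Agent.Lib.Helper50_CD Cfsg.Agent.Lib.Helper50_CL Cfsg.Agent.Lib.Helper50_CL2

variable {G : Type*} [Group G] [Finite G]

/-- Structure of a pair: `Q` minimal centrally large, `R` centrally large. Then
`Q = (Q ∩ R) Z(Q)`, and this join is a product set. -/
theorem minimal_eq_inf_sup_center {Q R : Subgroup G} (hQ : Cfsg.IsMinimalCentrallyLarge Q)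
    (hR : Cfsg.IsCentrallyLarge R) :
    (Q ⊓ R) ⊔ (Q ⊓ Subgroup.centralizer (Q : Set G)) = Q ∧
    (((Q ⊓ R) ⊔ (Q ⊓ Subgroup.centralizer (Q : Set G)) : Subgroup G) : Set G) =
      ((Q ⊓ R : Subgroup G) : Set G) * ((Q ⊓ Subgroup.centralizer (Q : Set G) : Subgroup G) : Set G) := by
  obtain ⟨hQ1, hQ2⟩ := centralizerLarge_of_centrallyLarge hQ.1
  obtain ⟨hR1, hR2⟩ := centralizerLarge_of_centrallyLarge hR
  set ZQ := Q ⊓ Subgroup.centralizer (Q : Set G) with hZQ
  set ZR := R ⊓ Subgroup.centralizer (R : Set G) with hZR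
  obtain ⟨-, hD, -, hCD, hCDset⟩ := cd_package meas_le_max hQ1 hR1
  obtain ⟨hCQ, hQdual⟩ := cd_dual meas_le_max hQ1
  rw [hQ2] at hCQ hQdual hCD hCDset
  rw [hR2] at hCD hCDset
  obtain ⟨hT, -, hTset, -, -⟩ := cd_package meas_le_max hD hCQ
  refine ⟨?_, hTset⟩
  have hTle : (Q ⊓ R) ⊔ ZQ ≤ Q := sup_le inf_le_left inf_le_left
  apply hQ.2 _ hTle
  rw [centrallyLarge_iff]
  refine ⟨hT, ?_⟩
  rw [centralizer_sup, hCD, ← hQdual]
  rintro x ⟨hx1, hx2⟩
  have hx1' : x ∈ ((ZQ ⊔ ZR : Subgroup G) : Set G) := hx1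
  rw [hCDset] at hx1'
  obtain ⟨z, hz, r, hr, rfl⟩ := hx1'
  have hzQ : z ∈ Q := hz.1
  have hrQ : r ∈ Q := by
    have : r = z⁻¹ * (z * r) := by group
    rw [this]
    exact Q.mul_mem (Q.inv_mem hzQ) hx2
  have hrD : r ∈ Q ⊓ R := ⟨hrQ, hr.1⟩
  exact Subgroup.mul_mem _ (Subgroup.mem_sup_right hz) (Subgroup.mem_sup_left hrD)

omit [Finite G] in
/-- Commutator subgroup of `D ⊔ Z` with `Z` central in the join. -/
theorem commutator_eq_of_sup_central {Q D Z : Subgroup G} (hsup : D ⊔ Z = Q)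
    (hset : ((D ⊔ Z : Subgroup G) : Set G) = (D : Set G) * (Z : Set G))
    (hZ : Z ≤ Subgroup.centralizer (Q : Set G)) : ⁅Q, Q⁆ = ⁅D, D⁆ := by
  have hDQ : D ≤ Q := hsup ▸ le_sup_left
  apply le_antisymm _ (Subgroup.commutator_mono hDQ hDQ)
  rw [Subgroup.commutator_le]
  intro a ha b hb
  have decomp : ∀ a ∈ Q, ∃ d ∈ D, ∃ z ∈ Z, a = d * z := by
    intro a ha
    have : a ∈ ((D ⊔ Z : Subgroup G) : Set G) := by rw [hsup]; exact ha
    rw [hset] at this
    obtain ⟨d, hd, z, hz, rfl⟩ := this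
    exact ⟨d, hd, z, hz, rfl⟩
  obtain ⟨d, hd, z, hz, rfl⟩ := decomp a ha
  obtain ⟨d', hd', z', hz', rfl⟩ := decomp b hb
  have hzc : ∀ q ∈ Q, z * q = q * z := fun q hq => (hZ hz q hq).symm
  have hz'c : ∀ q ∈ Q, z' * q = q * z' := fun q hq => (hZ hz' q hq).symm
  have hdQ : d ∈ Q := hDQ hd
  have hd'Q : d' ∈ Q := hDQ hd'
  have hz'Q : z' ∈ Q := by rw [← hsup]; exact Subgroup.mem_sup_right hz'
  have e : ⁅d * z, d' * z'⁆ = ⁅d, d'⁆ := by
    rw [commutatorElement_def, commutatorElement_def]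
    have h1 : z * (d' * z') = (d' * z') * z := hzc _ (Q.mul_mem hd'Q hz'Q)
    have h2 : z' * d = d * z' := hz'c d hdQ
    have h3 : z' * d⁻¹ = d⁻¹ * z' := hz'c _ (Q.inv_mem hdQ)
    calc d * z * (d' * z') * (d * z)⁻¹ * (d' * z')⁻¹
        = d * (z * (d' * z')) * z⁻¹ * d⁻¹ * z'⁻¹ * d'⁻¹ := by group
      _ = d * ((d' * z') * z) * z⁻¹ * d⁻¹ * z'⁻¹ * d'⁻¹ := by rw [h1]
      _ = d * d' * (z' * d⁻¹) * z'⁻¹ * d'⁻¹ := by group
      _ = d * d' * (d⁻¹ * z') * z'⁻¹ * d'⁻¹ := by rw [h3]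
      _ = d * d' * d⁻¹ * d'⁻¹ := by group
  rw [e]
  exact Subgroup.commutator_mem_commutator hd hd'

/-- For two minimal centrally large subgroups: same derived subgroup, same order, same
order of the centre. -/
theorem minimal_pair {Q R : Subgroup G} (hQ : Cfsg.IsMinimalCentrallyLarge Q)
    (hR : Cfsg.IsMinimalCentrallyLarge R) :
    ⁅Q, Q⁆ = ⁅R, R⁆ ∧ Nat.card Q = Nat.card R ∧
    Nat.card (Q ⊓ Subgroup.centralizer (Q : Set G) : Subgroup G) =
      Nat.card (R ⊓ Subgroup.centralizer (R : Set G) : Subgroup G) := by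
  obtain ⟨hQ1, hQ2⟩ := centralizerLarge_of_centrallyLarge hQ.1
  obtain ⟨hR1, hR2⟩ := centralizerLarge_of_centrallyLarge hR.1
  obtain ⟨hQsup, hQset⟩ := minimal_eq_inf_sup_center hQ hR.1
  obtain ⟨hRsup, hRset⟩ := minimal_eq_inf_sup_center hR hQ.1
  set ZQ := Q ⊓ Subgroup.centralizer (Q : Set G) with hZQ
  set ZR := R ⊓ Subgroup.centralizer (R : Set G) with hZR
  have hRQ : R ⊓ Q = Q ⊓ R := inf_comm _ _
  rw [hRQ] at hRsup hRset
  set D := Q ⊓ R with hD
  have c1 : ⁅Q, Q⁆ = ⁅D, D⁆ := commutator_eq_of_sup_central hQsup hQset inf_le_right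
  have c2 : ⁅R, R⁆ = ⁅D, D⁆ := commutator_eq_of_sup_central hRsup hRset inf_le_right
  refine ⟨c1.trans c2.symm, ?_⟩
  -- `D ⊓ ZQ = D ⊓ C(D) = D ⊓ ZR`
  have zq : D ⊓ ZQ = D ⊓ Subgroup.centralizer (D : Set G) := by
    apply le_antisymm
    · exact inf_le_inf_left _ (inf_le_right.trans
        (Subgroup.centralizer_le (by exact_mod_cast (inf_le_left : D ≤ Q))))
    · rintro x ⟨hx1, hx2⟩
      refine ⟨hx1, hx1.1, ?_⟩
      have : x ∈ Subgroup.centralizer ((D ⊔ ZQ : Subgroup G) : Set G) := by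
        rw [centralizer_sup]
        refine ⟨hx2, ?_⟩
        intro z hz
        exact (hz.2 x hx1.1).symm
      rwa [hQsup] at this
  have zr : D ⊓ ZR = D ⊓ Subgroup.centralizer (D : Set G) := by
    apply le_antisymm
    · exact inf_le_inf_left _ (inf_le_right.trans
        (Subgroup.centralizer_le (by exact_mod_cast (inf_le_right : D ≤ R))))
    · rintro x ⟨hx1, hx2⟩
      refine ⟨hx1, hx1.2, ?_⟩
      have : x ∈ Subgroup.centralizer ((D ⊔ ZR : Subgroup G) : Set G) := by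
        rw [centralizer_sup]
        refine ⟨hx2, ?_⟩
        intro z hz
        exact (hz.2 x hx1.2).symm
      rwa [hRsup] at this
  have p1 := card_sup_mul_card_inf_le_of_coe_sup_eq_mul D ZQ hQset
  have p2 := card_sup_mul_card_inf_le_of_coe_sup_eq_mul D ZR hRset
  rw [hQsup, zq] at p1
  rw [hRsup, zr] at p2
  have fQ : Nat.card Q * Nat.card ZQ = Cfsg.maxCentralizerProduct G := by
    have : meas Q = Cfsg.maxCentralizerProduct G := hQ1
    rwa [meas, hQ2] at this
  have fR : Nat.card R * Nat.card ZR = Cfsg.maxCentralizerProduct G := by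
    have : meas R = Cfsg.maxCentralizerProduct G := hR1
    rwa [meas, hR2] at this
  set z := Nat.card (D ⊓ Subgroup.centralizer (D : Set G) : Subgroup G) with hz
  have hzpos : 0 < z := Nat.card_pos
  have hDpos : 0 < Nat.card D := Nat.card_pos
  have k1 : Cfsg.maxCentralizerProduct G * z = Nat.card D * (Nat.card ZQ * Nat.card ZQ) := by
    calc Cfsg.maxCentralizerProduct G * z = (Nat.card Q * z) * Nat.card ZQ := by rw [← fQ]; ring
      _ = (Nat.card D * Nat.card ZQ) * Nat.card ZQ := by rw [p1]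
      _ = _ := by ring
  have k2 : Cfsg.maxCentralizerProduct G * z = Nat.card D * (Nat.card ZR * Nat.card ZR) := by
    calc Cfsg.maxCentralizerProduct G * z = (Nat.card R * z) * Nat.card ZR := by rw [← fR]; ring
      _ = (Nat.card D * Nat.card ZR) * Nat.card ZR := by rw [p2]
      _ = _ := by ring
  have k3 : Nat.card ZQ * Nat.card ZQ = Nat.card ZR * Nat.card ZR :=
    Nat.eq_of_mul_eq_mul_left hDpos (k1.symm.trans k2)
  have k4 : Nat.card ZQ = Nat.card ZR := by
    have := Nat.mul_self_inj.mp k3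
    exact this
  refine ⟨?_, k4⟩
  have : Nat.card Q * Nat.card ZQ = Nat.card R * Nat.card ZQ := by rw [fQ, k4, fR]
  exact Nat.eq_of_mul_eq_mul_right Nat.card_pos this

omit [Finite G] in
theorem zmeas_of_commutative {A : Subgroup G} (hA : IsMulCommutative A) :
    zmeas A = Nat.card A * Nat.card A := by
  rw [zmeas, inf_eq_left.mpr (Subgroup.le_centralizer_iff_isMulCommutative.mpr hA)]

/-- If some minimal centrally large subgroup is abelian, then the minimal centrally large subgroups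
are exactly the abelian subgroups of largest order. -/
theorem minimal_iff_maxAbelian_of_commutative {Q : Subgroup G} (hQ : Cfsg.IsMinimalCentrallyLarge Q)
    (hab : IsMulCommutative Q) (X : Subgroup G) :
    Cfsg.IsMinimalCentrallyLarge X ↔ X ∈ Cfsg.maxAbelianSubgroups G := by
  have hf : Nat.card Q * Nat.card Q = Cfsg.maxCentralProduct G := by
    rw [← zmeas_of_commutative hab]
    exact (isCentrallyLarge_iff Q).mp hQ.1
  have hZQ : Q ⊓ Subgroup.centralizer (Q : Set G) = Q :=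
    inf_eq_left.mpr (Subgroup.le_centralizer_iff_isMulCommutative.mpr hab)
  have hle : ∀ B : Subgroup G, IsMulCommutative B → Nat.card B ≤ Nat.card Q := by
    intro B hB
    have h1 := zmeas_le_max B
    rw [zmeas_of_commutative hB, ← hf] at h1
    exact Nat.mul_self_le_mul_self_iff.mp h1
  constructor
  · intro hX
    obtain ⟨-, h2, h3⟩ := minimal_pair hX hQ
    rw [hZQ] at h3
    have h4 : X ⊓ Subgroup.centralizer (X : Set G) = X :=
      Subgroup.eq_of_le_of_card_ge inf_le_left (by rw [h3, h2])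
    have hXab : IsMulCommutative X :=
      Subgroup.le_centralizer_iff_isMulCommutative.mp (inf_eq_left.mp h4)
    exact ⟨hXab, fun B hB => h2 ▸ hle B hB⟩
  · intro hX
    have hcard : Nat.card X = Nat.card Q := le_antisymm (hle X hX.1) (hX.2 Q hab)
    have hXcl : Cfsg.IsCentrallyLarge X := by
      rw [isCentrallyLarge_iff, zmeas_of_commutative hX.1, hcard, hf]
    refine ⟨hXcl, ?_⟩
    intro X' hX'X hX'
    have hX'ab : IsMulCommutative X' := isMulCommutative_of_le hX.1 hX'X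
    have h1 : Nat.card X' * Nat.card X' = Cfsg.maxCentralProduct G := by
      rw [← zmeas_of_commutative hX'ab]
      exact (isCentrallyLarge_iff X').mp hX'
    have h2 : Nat.card X' = Nat.card Q := Nat.mul_self_inj.mp (h1.trans hf.symm)
    exact Subgroup.eq_of_le_of_card_ge hX'X (by rw [h2, hcard])

end Cfsg.Agent.Lib.Helper50_CL3
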