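import Mathlib
import Cfsg.Prelude.Def_Characters
import Cfsg.Prelude.Def_Blocks
import Cfsg.Agent.Lib.Helper1_Isaacs123
import Cfsg.Agent.Lib.Helper51_Isaacs124
import Cfsg.Agent.Lib.Helper74_TwoDegS
import Cfsg.Agent.Lib.Helper77_QuotRank
import Cfsg.Agent.Lib.Helper80_CharBasic
import Cfsg.Agent.Lib.Helper59_CliffordDeg
import Cfsg.Agent.Lib.Helper75_CoprimeDeg
import Cfsg.Agent.S4456
import Cfsg.Agent.S4567
import Cfsg.Agent.Lib.Helper48_S4460_PQ
import Cfsg.Agent.Lib.Helper80_Isaacs1215_PA1a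
import Cfsg.Agent.Lib.Helper17_Isaacs1215_PF
import Cfsg.Agent.Lib.Helper79_Isaacs1215_PB
import Cfsg.Agent.Lib.Helper48_ThreeDegDefs
import Cfsg.Agent.Lib.Helper17_Isaacs1215_PA1b
import Cfsg.Agent.Lib.Helper10_Isaacs1215_PA3
import Cfsg.Agent.Lib.Helper10_Isaacs1215_PA6

set_option autoImplicit false

namespace Cfsg.Agent.Lib.Helper50_Isaacs1215A

open Cfsg
open scoped commutatorElement

universe u

/-! ## the packages (exact statements) -/

/-- PA1a = LEMMA A, steps 1-3 (products of two characters of degree `m` have no constituent of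
degree `n`) -/
theorem PA1a {G : Type u} [Group G] [Fintype G] (m n : ℕ) (hm : 1 < m) (hmn : m < n)
    (hcop : m.Coprime n)
    (hcd : ∀ χ : IrrCharacter G, (χ : G → ℂ) 1 = 1 ∨ (χ : G → ℂ) 1 = m ∨ (χ : G → ℂ) 1 = n)
    (hfaith : ∀ χ : IrrCharacter G, (χ : G → ℂ) 1 ≠ 1 →
      ∀ g : G, (χ : G → ℂ) g = (χ : G → ℂ) 1 → g = 1)
    (χ χ' ψ : IrrCharacter G) (hχ : (χ : G → ℂ) 1 = m) (hχ' : (χ' : G → ℂ) 1 = m)
    (hψ : (ψ : G → ℂ) 1 = n) :
    classInner (fun g => (χ : G → ℂ) g * (χ' : G → ℂ) g) (ψ : G → ℂ) = 0 :=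
  Cfsg.Agent.Lib.Helper80_Isaacs1215_PA1a.PA1a m n hm hmn hcop hcd hfaith χ χ' ψ hχ hχ' hψ

/-- PA1b = LEMMA A, step 4 (the idempotent argument) -/
theorem PA1b {G : Type u} [Group G] [Fintype G] (m n : ℕ) (hm : 1 < m) (hmn : m < n)
    (hcd : ∀ χ : IrrCharacter G, (χ : G → ℂ) 1 = 1 ∨ (χ : G → ℂ) 1 = m ∨ (χ : G → ℂ) 1 = n)
    (hmid : ∀ χ χ' ψ : IrrCharacter G, (χ : G → ℂ) 1 = m → (χ' : G → ℂ) 1 = m →
      (ψ : G → ℂ) 1 = n →
      classInner (fun g => (χ : G → ℂ) g * (χ' : G → ℂ) g) (ψ : G → ℂ) = 0)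
    (χm : IrrCharacter G) (hχm : (χm : G → ℂ) 1 = m)
    (hfaith : ∀ g : G, (χm : G → ℂ) g = (χm : G → ℂ) 1 → g = 1)
    (χn : IrrCharacter G) (hχn : (χn : G → ℂ) 1 = n) : False :=
  Cfsg.Agent.Lib.Helper17_Isaacs1215_PA1b.PA1b m n hm hmn hcd hmid χm hχm hfaith χn hχn

/-- PA1 = LEMMA A -/
theorem PA1 {G : Type u} [Group G] [Finite G] (m n : ℕ) (hm : 1 < m) (hmn : m < n)
    (hcop : m.Coprime n)
    (hcd : ∀ χ : IrrCharacter G, (χ : G → ℂ) 1 = 1 ∨ (χ : G → ℂ) 1 = m ∨ (χ : G → ℂ) 1 = n)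
    (hfaith : ∀ χ : IrrCharacter G, (χ : G → ℂ) 1 ≠ 1 →
      ∀ g : G, (χ : G → ℂ) g = (χ : G → ℂ) 1 → g = 1)
    (χm : IrrCharacter G) (hχm : (χm : G → ℂ) 1 = m)
    (χn : IrrCharacter G) (hχn : (χn : G → ℂ) 1 = n) : False := by
  have hFin : Fintype G := Fintype.ofFinite G
  refine PA1b m n hm hmn hcd (fun χ χ' ψ h1 h2 h3 =>
    PA1a m n hm hmn hcop hcd hfaith χ χ' ψ h1 h2 h3) χm hχm (hfaith χm ?_) χn hχn
  rw [hχm]
  intro h
  have : m = 1 := by exact_mod_cast h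
  omega

/-- PQ = Isaacs 12.3 transported to `G` (pure group theory) -/
theorem PQ {G : Type u} [Group G] [Finite G] (K : Subgroup G) [K.Normal]
    (hsolv : Group.IsSolvable (G ⧸ K)) (hne : commutator (G ⧸ K) ≠ ⊥)
    (hmin : ∀ N : Subgroup (G ⧸ K), N.Normal → N ≠ ⊥ → commutator (G ⧸ K) ≤ N) :
    ∃ N : Subgroup G, ∃ _ : N.Normal, K ≤ N ∧ K ≠ N ∧ ¬ commutator G ≤ K ∧
      (∀ a b : G, a * b * a⁻¹ * b⁻¹ ∈ N) ∧
      (∀ x ∈ N, ∀ y ∈ N, x * y * x⁻¹ * y⁻¹ ∈ K) ∧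
      (∀ Y : Subgroup G, Y.Normal → K ≤ Y → Y = K ∨ N ≤ Y) ∧
      ∃ p a : ℕ, p.Prime ∧ K.relIndex N = p ^ a ∧
        ((∃ b : ℕ, K.index = p ^ b) ∨
          ((K.relIndex N).Coprime N.index ∧
            (∀ g : G, g ∉ N → ∀ x ∈ N, x⁻¹ * (g⁻¹ * x * g) ∈ K → x ∈ K) ∧
            IsCyclic (G ⧸ N))) :=
  Cfsg.Agent.Lib.Helper48_S4460_PQ.PQ K hsolv hne hmin

/-- PB = LEMMA B (inside `G`) -/
theorem PB {G : Type u} [Group G] [Finite G] (K N : Subgroup G) [K.Normal] [N.Normal]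
    (hKN : K ≤ N) (hne : K ≠ N) (hnab : ¬ commutator G ≤ K)
    (hcomm : ∀ a b : G, a * b * a⁻¹ * b⁻¹ ∈ N)
    (humn : ∀ Y : Subgroup G, Y.Normal → K ≤ Y → Y = K ∨ N ≤ Y)
    (p b : ℕ) (hp : p.Prime) (hidx : K.index = p ^ b) :
    ∃ χ₀ : IrrCharacter G, (∀ k ∈ K, (χ₀ : G → ℂ) k = (χ₀ : G → ℂ) 1) ∧
      (∃ c : ℕ, 0 < c ∧ (χ₀ : G → ℂ) 1 = (p : ℂ) ^ c) ∧
      ∀ (ψ : IrrCharacter G) (d : ℕ), (ψ : G → ℂ) 1 = d → ¬ p ∣ d →
        IsIrrCharacter G (fun x => (χ₀ : G → ℂ) x * (ψ : G → ℂ) x) :=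
  Cfsg.Agent.Lib.Helper79_Isaacs1215_PB.PB K N hKN hne hnab hcomm humn p b hp hidx

/-- PA3 = degrees of a normal `p`-complement -/
theorem PA3 {G : Type u} [Group G] [Finite G] (p : ℕ) (hp : p.Prime) (Q : Subgroup G)
    [Q.Normal] (hcop : (Nat.card Q).Coprime p) (k : ℕ) (hidx : Q.index = p ^ k)
    (θ : IrrCharacter Q) (d : ℕ) (hd : (θ : Q → ℂ) 1 = d) :
    ¬ p ∣ d ∧ ∃ (χ : IrrCharacter G) (j : ℕ), (χ : G → ℂ) 1 = ((d * p ^ j : ℕ) : ℂ) :=
  Cfsg.Agent.Lib.Helper10_Isaacs1215_PA3.PA3 p hp Q hcop k hidx θ d hd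

/-- PF = the Frobenius case (inside `G`) -/
theorem PF {G : Type u} [Group G] [Finite G] (K N : Subgroup G) [K.Normal] [N.Normal]
    (hKN : K ≤ N) (hne : K ≠ N)
    (hab : ∀ x ∈ N, ∀ y ∈ N, x * y * x⁻¹ * y⁻¹ ∈ K)
    (hcop : (K.relIndex N).Coprime N.index)
    (hfpf : ∀ g : G, g ∉ N → ∀ x ∈ N, x⁻¹ * (g⁻¹ * x * g) ∈ K → x ∈ K)
    (p a : ℕ) (hp : p.Prime) (hrel : K.relIndex N = p ^ a) (hidx : N.index ≠ 1)
    (m n : ℕ) (hmn : m.Coprime n)
    (hcd : ∀ χ : IrrCharacter G, (χ : G → ℂ) 1 = 1 ∨ (χ : G → ℂ) 1 = m ∨ (χ : G → ℂ) 1 = n) :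
    ∃ g : ℕ, ∀ ψ : IrrCharacter N, (ψ : N → ℂ) 1 = 1 ∨ (ψ : N → ℂ) 1 = g :=
  Cfsg.Agent.Lib.Helper17_Isaacs1215_PF.PF K N hKN hne hab hcop hfpf p a hp hrel hidx m n hmn hcd

/-- PA6 = nonlinear characters are faithful when `G'` is the unique minimal normal subgroup -/
theorem PA6 {G : Type u} [Group G] [Finite G]
    (hmin : ∀ N : Subgroup G, N.Normal → N ≠ ⊥ → commutator G ≤ N)
    (χ : IrrCharacter G) (hχ : (χ : G → ℂ) 1 ≠ 1) (g : G)
    (hg : (χ : G → ℂ) g = (χ : G → ℂ) 1) : g = 1 :=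
  Cfsg.Agent.Lib.Helper10_Isaacs1215_PA6.PA6 hmin χ hχ g hg

/-! ## the assembly -/

/-- inflation of an irreducible character of a quotient -/
noncomputable def infl {G : Type u} [Group G] (K : Subgroup G) [K.Normal]
    (χ : IrrCharacter (G ⧸ K)) : IrrCharacter G :=
  ⟨fun g => (χ : G ⧸ K → ℂ) (g : G ⧸ K), Cfsg.Agent.Lib.Helper77_QuotRank.isIrrCharacter_comp_mk K χ⟩

theorem natCast_inj_C {a b : ℕ} (h : (a : ℂ) = (b : ℂ)) : a = b := by exact_mod_cast h

/-- a nonabelian finite group has a nonlinear irreducible character -/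
theorem exists_nonlinear {G : Type u} [Group G] [Finite G] (h : commutator G ≠ ⊥) :
    ∃ χ : IrrCharacter G, (χ : G → ℂ) 1 ≠ 1 := by
  by_contra hcon
  push Not at hcon
  apply h
  rw [eq_bot_iff, _root_.commutator_def, Subgroup.commutator_le]
  intro a _ b _
  rw [Subgroup.mem_bot, commutatorElement_eq_one_iff_mul_comm]
  exact Cfsg.Agent.Lib.Helper59_CliffordDeg.commute_of_all_linear hcon a b

/-- the core of the solvability theorem, by strong induction on the order -/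
theorem solv_aux : ∀ (k : ℕ) (G : Type u) [Group G] [Finite G], Nat.card G = k →
    ∀ m n : ℕ, (∀ χ : IrrCharacter G, (χ : G → ℂ) 1 = 1 ∨ (χ : G → ℂ) 1 = m ∨ (χ : G → ℂ) 1 = n) →
    Group.IsSolvable G := by
  intro k
  induction k using Nat.strong_induction_on with
  | _ k ih =>
  intro G _ _ hk m n hcd
  classical
  -- reduce to: both `m` and `n` occur
  by_cases hexm : ∃ χ : IrrCharacter G, (χ : G → ℂ) 1 = m
  swap
  · apply Cfsg.Agent.Lib.Helper74_TwoDegS.isSolvable_of_twoDeg n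
    intro χ
    rcases hcd χ with h | h | h
    · exact Or.inl h
    · exact absurd ⟨χ, h⟩ hexm
    · exact Or.inr h
  by_cases hexn : ∃ χ : IrrCharacter G, (χ : G → ℂ) 1 = n
  swap
  · apply Cfsg.Agent.Lib.Helper74_TwoDegS.isSolvable_of_twoDeg m
    intro χ
    rcases hcd χ with h | h | h
    · exact Or.inl h
    · exact Or.inr h
    · exact absurd ⟨χ, h⟩ hexn
  obtain ⟨χm, hχm⟩ := hexm
  obtain ⟨χn, hχn⟩ := hexn
  by_cases hm1 : m = 1
  · apply Cfsg.Agent.Lib.Helper74_TwoDegS.isSolvable_of_twoDeg n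
    intro χ
    rcases hcd χ with h | h | h
    · exact Or.inl h
    · left; rw [h, hm1]; simp
    · exact Or.inr h
  by_cases hn1 : n = 1
  · apply Cfsg.Agent.Lib.Helper74_TwoDegS.isSolvable_of_twoDeg m
    intro χ
    rcases hcd χ with h | h | h
    · exact Or.inl h
    · exact Or.inr h
    · left; rw [h, hn1]; simp
  have hmpos : 0 < m := by
    obtain ⟨d, hd, he⟩ := Cfsg.Agent.Lib.Helper80_CharBasic.irr_apply_one χm
    rw [hχm] at he
    have := natCast_inj_C he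
    omega
  have hnpos : 0 < n := by
    obtain ⟨d, hd, he⟩ := Cfsg.Agent.Lib.Helper80_CharBasic.irr_apply_one χn
    rw [hχn] at he
    have := natCast_inj_C he
    omega
  have hm2 : 1 < m := by omega
  have hn2 : 1 < n := by omega
  -- a common prime divisor: Thompson
  by_cases hcop : m.Coprime n
  swap
  · obtain ⟨p, hp, hpm, hpn⟩ := Nat.Prime.not_coprime_iff_dvd.mp hcop
    obtain ⟨Q, hQn, hQcop, j, hQidx⟩ := Cfsg.Agent.S4456.result (G := G) p hp (by
      intro χ hχ1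
      rcases hcd χ with h | h | h
      · exfalso; apply hχ1
        exact Cfsg.Agent.Lib.Helper75_CoprimeDeg.charDegree_eq_of_one_eq (d := 1) (by rw [h]; simp)
      · rw [Cfsg.Agent.Lib.Helper75_CoprimeDeg.charDegree_eq_of_one_eq h]; exact hpm
      · rw [Cfsg.Agent.Lib.Helper75_CoprimeDeg.charDegree_eq_of_one_eq h]; exact hpn)
    have hpG : p ∣ Nat.card G :=
      hpm.trans (Cfsg.Agent.Lib.Helper74_TwoDegS.degree_dvd_card χm m hχm)
    have hQlt : Nat.card Q < Nat.card G := by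
      have hle : Nat.card Q ∣ Nat.card G := Subgroup.card_subgroup_dvd_card Q
      have hpos : 0 < Nat.card G := Nat.card_pos
      rcases (Nat.le_of_dvd hpos hle).lt_or_eq with h | h
      · exact h
      · exfalso
        rw [h] at hQcop
        exact hp.one_lt.ne' (Nat.eq_one_of_dvd_coprimes hQcop.symm (dvd_refl p) hpG)
    have hQsolv : Group.IsSolvable Q := by
      refine ih (Nat.card Q) (by rw [← hk]; exact hQlt) Q rfl (m / p ^ (m.factorization p))
        (n / p ^ (n.factorization p)) ?_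
      intro θ
      obtain ⟨d, hdpos, hd⟩ := Cfsg.Agent.Lib.Helper80_CharBasic.irr_apply_one θ
      obtain ⟨hpd, χ, i, hχ⟩ := PA3 p hp Q hQcop j hQidx θ d hd
      have hfac : ∀ a : ℕ, 0 < a → a = d * p ^ i → d = a / p ^ (a.factorization p) := by
        intro a ha hadp
        have h1 : a.factorization p = i := by
          rw [hadp, Nat.factorization_mul (by omega) (pow_ne_zero _ hp.ne_zero)]
          simp [Nat.factorization_eq_zero_of_not_dvd hpd, hp.factorization_self]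
        rw [h1, hadp, Nat.mul_div_cancel _ (pow_pos hp.pos _)]
      rcases hcd χ with h | h | h
      · left
        rw [h] at hχ
        have h2 : 1 = d * p ^ i := by exact_mod_cast hχ
        have h3 : d = 1 := Nat.eq_one_of_mul_eq_one_right h2.symm
        rw [hd, h3]; simp
      · right; left
        rw [h] at hχ
        rw [hd, ← hfac m hmpos (natCast_inj_C hχ)]
      · right; right
        rw [h] at hχ
        rw [hd, ← hfac n hnpos (natCast_inj_C hχ)]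
    have hquot : Group.IsSolvable (G ⧸ Q) := by
      have hpq : IsPGroup p (G ⧸ Q) := by
        apply IsPGroup.of_card (n := j)
        rw [← hQidx]; rfl
      have hF : Fact p.Prime := ⟨hp⟩
      have := hpq.isNilpotent
      infer_instance
    exact Group.isSolvable_of_ker_le_range (Subgroup.subtype Q) (QuotientGroup.mk' Q) (by
      rw [QuotientGroup.ker_mk', Subgroup.range_subtype])
  -- coprime degrees
  have hcomm : commutator G ≠ ⊥ := by
    intro hbot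
    have hab : ∀ a b : G, a * b = b * a := by
      intro a b
      have h1 : ⁅a, b⁆ ∈ commutator G := Cfsg.Agent.Lib.Helper1_Isaacs123.comm_mem a b
      rw [hbot, Subgroup.mem_bot, commutatorElement_eq_one_iff_mul_comm] at h1
      exact h1
    -- then every irreducible character is linear
    have hFin : Fintype G := Fintype.ofFinite G
    have h2 := Cfsg.Agent.S4567.irr_one_eq_one_of_comm (G := G) hab χm.2
    rw [hχm] at h2
    have : m = 1 := by exact_mod_cast h2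
    omega
  obtain ⟨K, hKn, hKne, hKmin⟩ :=
    Cfsg.Agent.Lib.Helper1_Isaacs123.exists_max_nonabelian_quotient hcomm
  -- degrees of the quotient
  have hcdq : ∀ χ : IrrCharacter (G ⧸ K), (χ : G ⧸ K → ℂ) 1 = 1 ∨ (χ : G ⧸ K → ℂ) 1 = m ∨
      (χ : G ⧸ K → ℂ) 1 = n := fun χ => by
    simpa [infl] using hcd (infl K χ)
  -- nonlinear characters of the quotient are faithful
  have hfaith : ∀ χ : IrrCharacter (G ⧸ K), (χ : G ⧸ K → ℂ) 1 ≠ 1 →
      ∀ g : G ⧸ K, (χ : G ⧸ K → ℂ) g = (χ : G ⧸ K → ℂ) 1 → g = 1 :=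
    fun χ hχ g hg => PA6 hKmin χ hχ g hg
  have hmn_ne : m ≠ n := by
    intro h
    rw [h] at hcop
    have := (Nat.coprime_self n).mp hcop
    omega
  -- the quotient has a single nonlinear degree, hence is solvable
  have hq : ∃ f : ℕ, ∀ χ : IrrCharacter (G ⧸ K),
      (χ : G ⧸ K → ℂ) 1 = 1 ∨ (χ : G ⧸ K → ℂ) 1 = f := by
    by_cases h1 : ∃ χ : IrrCharacter (G ⧸ K), (χ : G ⧸ K → ℂ) 1 = m
    · by_cases h2 : ∃ χ : IrrCharacter (G ⧸ K), (χ : G ⧸ K → ℂ) 1 = n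
      · exfalso
        obtain ⟨a, ha⟩ := h1
        obtain ⟨b, hb⟩ := h2
        rcases Nat.lt_or_gt_of_ne hmn_ne with h | h
        · exact PA1 m n hm2 h hcop hcdq hfaith a ha b hb
        · exact PA1 n m hn2 h hcop.symm (fun χ => by
            rcases hcdq χ with h | h | h
            · exact Or.inl h
            · exact Or.inr (Or.inr h)
            · exact Or.inr (Or.inl h)) hfaith b hb a ha
      · refine ⟨m, fun χ => ?_⟩
        rcases hcdq χ with h | h | h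
        · exact Or.inl h
        · exact Or.inr h
        · exact absurd ⟨χ, h⟩ h2
    · refine ⟨n, fun χ => ?_⟩
      rcases hcdq χ with h | h | h
      · exact Or.inl h
      · exact absurd ⟨χ, h⟩ h1
      · exact Or.inr h
  obtain ⟨f, hcdf⟩ := hq
  have hsolvq : Group.IsSolvable (G ⧸ K) :=
    Cfsg.Agent.Lib.Helper74_TwoDegS.isSolvable_of_twoDeg f hcdf
  obtain ⟨N, hNn, hKN, hKNne, hnab, hcommN, habN, humn, p, a, hp, hrel, hcase⟩ :=
    PQ K hsolvq hKne hKmin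
  rcases hcase with ⟨b, hKidx⟩ | ⟨hcopr, hfpf, _⟩
  · -- the `p`-group case is impossible
    exfalso
    obtain ⟨χ₀, _, ⟨c, hcpos, hχ₀1⟩, hirr⟩ := PB K N hKN hKNne hnab hcommN humn p b hp hKidx
    have hpc : p ∣ p ^ c := dvd_pow_self p hcpos.ne'
    have hc2 : 1 < p ^ c := Nat.one_lt_pow hcpos.ne' hp.one_lt
    have hχ₀1' : (χ₀ : G → ℂ) 1 = ((p ^ c : ℕ) : ℂ) := by rw [hχ₀1]; push_cast; rfl
    have key : ∀ (ψ : IrrCharacter G) (d : ℕ), (ψ : G → ℂ) 1 = d → ¬ p ∣ d →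
        (p ^ c * d = 1 ∨ p ^ c * d = m ∨ p ^ c * d = n) := by
      intro ψ d hd hpd
      have h3 := hcd ⟨_, hirr ψ d hd hpd⟩
      simp only [hχ₀1', hd] at h3
      rcases h3 with h | h | h
      · left; exact_mod_cast h
      · right; left; exact_mod_cast h
      · right; right; exact_mod_cast h
    rcases hcd χ₀ with h | h | h
    · rw [hχ₀1'] at h
      have : p ^ c = 1 := by exact_mod_cast h
      omega
    · rw [hχ₀1'] at h
      have hcm : p ^ c = m := natCast_inj_C h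
      have hpn : ¬ p ∣ n := fun hpn =>
        hp.one_lt.ne' (Nat.eq_one_of_dvd_coprimes hcop (hcm ▸ hpc) hpn)
      rcases key χn n hχn hpn with h | h | h <;> rw [hcm] at h <;> nlinarith
    · rw [hχ₀1'] at h
      have hcn : p ^ c = n := natCast_inj_C h
      have hpm : ¬ p ∣ m := fun hpm =>
        hp.one_lt.ne' (Nat.eq_one_of_dvd_coprimes hcop hpm (hcn ▸ hpc))
      rcases key χm m hχm hpm with h | h | h <;> rw [hcn] at h <;> nlinarith
  · -- the Frobenius case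
    have hidx : N.index ≠ 1 := by
      intro h1
      rw [Subgroup.index_eq_one] at h1
      apply hnab
      rw [_root_.commutator_def, Subgroup.commutator_le]
      intro x _ y _
      rw [commutatorElement_def]
      exact habN x (by rw [h1]; trivial) y (by rw [h1]; trivial)
    obtain ⟨g, hg⟩ := PF K N hKN hKNne habN hcopr hfpf p a hp hrel hidx m n hcop hcd
    have hNsolv : Group.IsSolvable N :=
      Cfsg.Agent.Lib.Helper74_TwoDegS.isSolvable_of_twoDeg g hg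
    have hquot : Group.IsSolvable (G ⧸ N) := by
      apply Group.isSolvable_of_comm
      intro x y
      induction x using QuotientGroup.induction_on with | H x => ?_
      induction y using QuotientGroup.induction_on with | H y => ?_
      rw [← QuotientGroup.mk_mul, ← QuotientGroup.mk_mul, QuotientGroup.eq]
      have h2 := hcommN y⁻¹ x⁻¹
      simp only [inv_inv] at h2
      have h3 : (x * y)⁻¹ * (y * x) = y⁻¹ * x⁻¹ * y * x := by group
      rw [h3]
      exact h2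
    exact Group.isSolvable_of_ker_le_range (Subgroup.subtype N) (QuotientGroup.mk' N) (by
      rw [QuotientGroup.ker_mk', Subgroup.range_subtype])

/-- **Theorem SOLV**: a finite group whose irreducible character degrees lie in `{1, m, n}` is
solvable. -/
theorem solv {G : Type u} [Group G] [Finite G] (m n : ℕ)
    (hcd : ∀ χ : IrrCharacter G, (χ : G → ℂ) 1 = 1 ∨ (χ : G → ℂ) 1 = m ∨ (χ : G → ℂ) 1 = n) :
    Group.IsSolvable G :=
  solv_aux (Nat.card G) G rfl m n hcd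

/-- **QUOT** (shape asked by helper48): a maximal normal subgroup with nonabelian quotient, and
the structure of the quotient (Isaacs 12.3), all inside `G`. -/
theorem QUOT {G : Type u} [Group G] [Finite G] [Group.IsSolvable G] (h : commutator G ≠ ⊥) :
    ∃ K N : Subgroup G, ∃ _ : K.Normal, ∃ _ : N.Normal, K ≤ N ∧ K ≠ N ∧ ¬ commutator G ≤ K ∧
      (∀ a b : G, a * b * a⁻¹ * b⁻¹ ∈ N) ∧
      (∀ x ∈ N, ∀ y ∈ N, x * y * x⁻¹ * y⁻¹ ∈ K) ∧
      (∀ Y : Subgroup G, Y.Normal → K ≤ Y → Y = K ∨ N ≤ Y) ∧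
      ∃ p a : ℕ, p.Prime ∧ K.relIndex N = p ^ a ∧
        ((∃ b : ℕ, K.index = p ^ b) ∨
          ((K.relIndex N).Coprime N.index ∧
            (∀ g : G, g ∉ N → ∀ x ∈ N, x⁻¹ * (g⁻¹ * x * g) ∈ K → x ∈ K) ∧
            IsCyclic (G ⧸ N))) := by
  obtain ⟨K, hKn, hKne, hKmin⟩ :=
    Cfsg.Agent.Lib.Helper1_Isaacs123.exists_max_nonabelian_quotient h
  have hsolvq : Group.IsSolvable (G ⧸ K) := inferInstance
  obtain ⟨N, hNn, hrest⟩ := PQ K hsolvq hKne hKmin
  exact ⟨K, N, hKn, hNn, hrest⟩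

/-! ## the two pieces in the shapes of helper48's part B (`Helper48_ThreeDegDefs`) -/

open Cfsg.Agent.Lib.Helper48_ThreeDegDefs in
/-- PK-Q of part B. -/
theorem quot_structure {G : Type u} [Group G] [Finite G] [Group.IsSolvable G]
    (h : commutator G ≠ ⊥) :
    ∃ (K N : Subgroup G) (_ : K.Normal) (_ : N.Normal) (p : ℕ),
      QuotData K N p ∧ ((∃ b : ℕ, K.index = p ^ b) ∨ FrobData K N p) := by
  obtain ⟨K, N, hKn, hNn, hKN, hne, hnab, hcomm, hab, humn, p, a, hp, hrel, hcase⟩ := QUOT h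
  have hnonab : ∃ a b : G, a * b * a⁻¹ * b⁻¹ ∉ K := by
    by_contra hcon
    push Not at hcon
    apply hnab
    rw [_root_.commutator_def, Subgroup.commutator_le]
    intro x _ y _
    rw [commutatorElement_def]
    exact hcon x y
  have hQ : QuotData K N p := ⟨hKN, hne, hcomm, hab, humn, hp, ⟨a, hrel⟩, hnonab⟩
  refine ⟨K, N, hKn, hNn, p, hQ, ?_⟩
  rcases hcase with hb | ⟨hcop, hfpf, hcyc⟩
  · exact Or.inl hb
  · exact Or.inr ⟨hQ, hcop, hfpf, hcyc⟩

open Cfsg.Agent.Lib.Helper48_ThreeDegDefs in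
/-- PK-B of part B (Lemma B). -/
theorem lemmaB {G : Type u} [Group G] [Finite G] (K N : Subgroup G) [K.Normal] [N.Normal]
    (p : ℕ) (hQ : QuotData K N p) (hidx : ∃ b : ℕ, K.index = p ^ b) :
    ∃ χ₀ : IrrCharacter G, (∀ x ∈ K, (χ₀ : G → ℂ) x = (χ₀ : G → ℂ) 1) ∧
      (∃ c : ℕ, 0 < c ∧ (χ₀ : G → ℂ) 1 = ((p ^ c : ℕ) : ℂ)) ∧
      ∀ (ψ : IrrCharacter G) (d : ℕ), (ψ : G → ℂ) 1 = (d : ℂ) → ¬ p ∣ d →
        IsIrrCharacter G (fun x => (χ₀ : G → ℂ) x * (ψ : G → ℂ) x) := by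
  obtain ⟨b, hb⟩ := hidx
  have hnab : ¬ commutator G ≤ K := by
    intro hle
    obtain ⟨x, y, hxy⟩ := hQ.hnonab
    apply hxy
    have h1 : ⁅x, y⁆ ∈ commutator G := Cfsg.Agent.Lib.Helper1_Isaacs123.comm_mem x y
    rw [commutatorElement_def] at h1
    exact hle h1
  obtain ⟨χ₀, h1, ⟨c, hc, h2⟩, h3⟩ :=
    PB K N hQ.hKN hQ.hne hnab hQ.habq hQ.umn p b hQ.hp hb
  refine ⟨χ₀, h1, ⟨c, hc, ?_⟩, h3⟩
  rw [h2]
  push_cast
  rfl

end Cfsg.Agent.Lib.Helper50_Isaacs1215A
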