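import Cfsg.Agent.Lib.Helper49_KnDefs
import Cfsg.Agent.Lib.Helper51_Offender

/-!
# S3687 market (architect helper49), package STEP3B: hypothesis-parametrised core

`step3b_core` is the counting contradiction of Step 3 (case `c2 N M = ⊥`), with the facts supplied by the
packages BASIC, ALTPART, ALTCOMM, ALTPP, COREDVD taken as hypotheses.  The verbatim wrapper is in
`Helper50_Kn_STEP3B`.
-/

set_option autoImplicit false

namespace Cfsg.Agent.Lib.Helper50_Kn_STEP3Bcore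

open Cfsg Cfsg.Agent.Lib.Helper47_TW Cfsg.Agent.Lib.Helper49_KnDefs Cfsg.Agent.Lib.Helper47_Conj

universe u

variable {G : Type u} [Group G] [Finite G]

/-- arithmetic: `d * t ∣ d ! * k` gives `t ≤ (d-1)! * k`. -/
theorem le_of_mul_dvd_factorial {d t k : ℕ} (hd : 1 ≤ d) (hk : 0 < k)
    (h : d * t ∣ d.factorial * k) : t ≤ (d - 1).factorial * k := by
  have h1 : d.factorial = d * (d - 1).factorial := (Nat.mul_factorial_pred (by omega)).symm
  rw [h1, mul_assoc] at h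
  have h2 : t ∣ (d - 1).factorial * k := Nat.dvd_of_mul_dvd_mul_left (by omega) h
  exact Nat.le_of_dvd (Nat.mul_pos (Nat.factorial_pos _) hk) h2

/-- the final numerical contradiction. -/
theorem arith_contra {d x y : ℕ} (hd : 3 ≤ d) (hx : 0 < x) (h1 : d.factorial * x ≤ 2 * y)
    (h2 : y ≤ (d - 1).factorial * x) : False := by
  have h3 : d.factorial = d * (d - 1).factorial := (Nat.mul_factorial_pred (by omega)).symm
  have hf : 0 < (d - 1).factorial := Nat.factorial_pos _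
  have h4 : d * ((d - 1).factorial * x) ≤ 2 * ((d - 1).factorial * x) := by
    calc d * ((d - 1).factorial * x) = d.factorial * x := by rw [h3]; ring
      _ ≤ 2 * y := h1
      _ ≤ 2 * ((d - 1).factorial * x) := Nat.mul_le_mul_left _ h2
  have h5 : d ≤ 2 := Nat.le_of_mul_le_mul_right h4 (Nat.mul_pos hf hx)
  omega

omit [Finite G] in
theorem commutator_self_le (L : Subgroup G) : ⁅L, L⁆ ≤ L := by
  rw [Subgroup.commutator_le]
  intro a ha b hb
  rw [commutatorElement_def]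
  exact L.mul_mem (L.mul_mem (L.mul_mem ha hb) (L.inv_mem ha)) (L.inv_mem hb)

omit [Finite G] in
theorem card_cj (g : G) (H : Subgroup G) : Nat.card ↥(cj g H) = Nat.card ↥H :=
  Subgroup.card_map_of_injective (MulAut.conj g).injective

/-- PACKAGE STEP3B, core: all package inputs as hypotheses. -/
theorem step3b_core {d : ℕ} {M N : Subgroup G} {g : G} (h : Cfg d M N g)
    -- BASIC
    (hNT : Nat.card N = d * Nat.card ↥(M ⊓ N))
    (hR : relCore N (cj g (M ⊓ N)) = cj g (c1 M N))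
    (hNKb : N ≤ Subgroup.normalizer (cj g (c1 M N) : Set G))
    -- ALTPART
    (hAbN : altPart N (cj g (M ⊓ N)) ≤ N)
    (hAbcard : 2 * Nat.card (altPart N (cj g (M ⊓ N))) =
      d.factorial * Nat.card (relCore N (cj g (M ⊓ N))))
    -- ALTCOMM (with `Z₁ = Z₂`)
    (hcomm : ∀ {U Z : Subgroup G}, U ≤ N →
      altPart N (cj g (M ⊓ N)) ≤ U ⊔ relCore N (cj g (M ⊓ N)) →
      Z ≤ U → U ≤ Subgroup.normalizer (Z : Set G) → ¬ Z ≤ relCore N (cj g (M ⊓ N)) →
      altPart N (cj g (M ⊓ N)) ≤ ⁅Z, Z⁆ ⊔ relCore N (cj g (M ⊓ N)))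
    -- ALTPP (with `ι = ↥N`)
    (hpp : ∀ {U : Subgroup G}, U ≤ N →
      altPart N (cj g (M ⊓ N)) ≤ U ⊔ relCore N (cj g (M ⊓ N)) →
      ∀ (Z : ↥N → Subgroup G),
        (∀ i, Z i ≤ U ∧ U ≤ Subgroup.normalizer (Z i : Set G) ∧
          ¬ Z i ≤ relCore N (cj g (M ⊓ N))) →
        altPart N (cj g (M ⊓ N)) ≤ (⨅ i, Z i) ⊔ relCore N (cj g (M ⊓ N)))
    -- COREDVD
    (hdvdN : Nat.card N ∣ d.factorial * Nat.card (relCore N (M ⊓ N)))
    (hdvdM : Nat.card M ∣ d.factorial * Nat.card (relCore M (M ⊓ N)))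
    (hA : altPart N (cj g (M ⊓ N)) ≤ (M ⊓ N) ⊔ cj g (c1 M N)) (hc : c2 N M = ⊥) : False := by
  classical
  have hd : 6 ≤ d := h.hd
  have hMT : Nat.card M = d * Nat.card ↥(M ⊓ N) := h.as.2.1
  -- basic containments
  have hLN : c1 N M ≤ N := c1_le_left N M
  have hLM : c1 N M ≤ M := c1_le_right N M
  have hLT : c1 N M ≤ M ⊓ N := le_inf hLM hLN
  have hKM : c1 M N ≤ M := c1_le_left M N
  have hKN : c1 M N ≤ N := c1_le_right M N
  have hKT : c1 M N ≤ M ⊓ N := le_inf hKM hKN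
  have hNL : N ≤ Subgroup.normalizer ((c1 N M : Subgroup G) : Set G) :=
    le_normalizer_relCore N (N ⊓ M)
  have hMK : M ≤ Subgroup.normalizer ((c1 M N : Subgroup G) : Set G) :=
    le_normalizer_relCore M (M ⊓ N)
  -- positivity
  have hLpos : 0 < Nat.card ↥(c1 N M) := Nat.card_pos
  have hKpos : 0 < Nat.card ↥(c1 M N) := Nat.card_pos
  have hKbpos : 0 < Nat.card ↥(cj g (c1 M N)) := Nat.card_pos
  -- COREDVD consequences
  have e1 : relCore N (M ⊓ N) = c1 N M := by unfold c1; rw [inf_comm]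
  have hTL : Nat.card ↥(M ⊓ N) ≤ (d - 1).factorial * Nat.card ↥(c1 N M) := by
    rw [e1, hNT] at hdvdN
    exact le_of_mul_dvd_factorial (by omega) hLpos hdvdN
  have hTK : Nat.card ↥(M ⊓ N) ≤ (d - 1).factorial * Nat.card ↥(c1 M N) := by
    have e2 : relCore M (M ⊓ N) = c1 M N := rfl
    rw [e2, hMT] at hdvdM
    exact le_of_mul_dvd_factorial (by omega) hKpos hdvdM
  have hAb2 : 2 * Nat.card (altPart N (cj g (M ⊓ N))) =
      d.factorial * Nat.card ↥(cj g (c1 M N)) := by rw [hAbcard, hR]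
  by_cases hLKb : c1 N M ≤ cj g (c1 M N)
  · -- Case 1
    have hTnKb : M ⊓ N ≤ Subgroup.normalizer ((cj g (c1 M N) : Subgroup G) : Set G) :=
      inf_le_right.trans hNKb
    have hprod := Cfsg.Agent.Lib.Helper51_Offender.card_sup_mul_card_inf
      (cj g (c1 M N)) (M ⊓ N) hTnKb
    have h1 : Nat.card ↥(c1 N M) ≤ Nat.card ↥(cj g (c1 M N) ⊓ (M ⊓ N)) :=
      Subgroup.card_le_of_le (le_inf hLKb hLT)
    have h2 : Nat.card (altPart N (cj g (M ⊓ N))) ≤ Nat.card ↥(cj g (c1 M N) ⊔ (M ⊓ N)) :=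
      Subgroup.card_le_of_le (hA.trans (le_of_eq (sup_comm _ _)))
    have h3 : Nat.card (altPart N (cj g (M ⊓ N))) * Nat.card ↥(c1 N M) ≤
        ((d - 1).factorial * Nat.card ↥(cj g (c1 M N))) * Nat.card ↥(c1 N M) := by
      calc Nat.card (altPart N (cj g (M ⊓ N))) * Nat.card ↥(c1 N M)
          ≤ Nat.card ↥(cj g (c1 M N) ⊔ (M ⊓ N)) * Nat.card ↥(cj g (c1 M N) ⊓ (M ⊓ N)) :=
            Nat.mul_le_mul h2 h1
        _ = Nat.card ↥(cj g (c1 M N)) * Nat.card ↥(M ⊓ N) := hprod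
        _ ≤ Nat.card ↥(cj g (c1 M N)) * ((d - 1).factorial * Nat.card ↥(c1 N M)) :=
            Nat.mul_le_mul_left _ hTL
        _ = ((d - 1).factorial * Nat.card ↥(cj g (c1 M N))) * Nat.card ↥(c1 N M) := by ring
    have h4 : Nat.card (altPart N (cj g (M ⊓ N))) ≤
        (d - 1).factorial * Nat.card ↥(cj g (c1 M N)) :=
      Nat.le_of_mul_le_mul_right h3 hLpos
    exact arith_contra (by omega) hKbpos (le_of_eq hAb2.symm) h4
  · -- Case 2
    have hAU0 : altPart N (cj g (M ⊓ N)) ≤ N ⊔ relCore N (cj g (M ⊓ N)) :=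
      hAbN.trans le_sup_left
    have hnotR : ¬ c1 N M ≤ relCore N (cj g (M ⊓ N)) := by rw [hR]; exact hLKb
    have hc1 := hcomm (U := N) (Z := c1 N M) le_rfl hAU0 hLN hNL hnotR
    have hAbLKb : altPart N (cj g (M ⊓ N)) ≤ c1 N M ⊔ cj g (c1 M N) :=
      hc1.trans (sup_le ((commutator_self_le _).trans le_sup_left)
        (by rw [hR]; exact le_sup_right))
    have hprod2 := Cfsg.Agent.Lib.Helper51_Offender.card_sup_mul_card_inf
      (cj g (c1 M N)) (c1 N M) (hLN.trans hNKb)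
    have h5 : Nat.card (altPart N (cj g (M ⊓ N))) ≤ Nat.card ↥(cj g (c1 M N) ⊔ c1 N M) :=
      Subgroup.card_le_of_le (hAbLKb.trans (le_of_eq (sup_comm _ _)))
    have h6 : d.factorial * Nat.card ↥(cj g (c1 M N) ⊓ c1 N M) ≤ 2 * Nat.card ↥(c1 N M) := by
      have h7 : (d.factorial * Nat.card ↥(cj g (c1 M N) ⊓ c1 N M)) * Nat.card ↥(cj g (c1 M N)) ≤
          (2 * Nat.card ↥(c1 N M)) * Nat.card ↥(cj g (c1 M N)) := by
        calc (d.factorial * Nat.card ↥(cj g (c1 M N) ⊓ c1 N M)) * Nat.card ↥(cj g (c1 M N))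
            = (d.factorial * Nat.card ↥(cj g (c1 M N))) *
                Nat.card ↥(cj g (c1 M N) ⊓ c1 N M) := by ring
          _ = (2 * Nat.card (altPart N (cj g (M ⊓ N)))) *
                Nat.card ↥(cj g (c1 M N) ⊓ c1 N M) := by rw [hAb2]
          _ ≤ (2 * Nat.card ↥(cj g (c1 M N) ⊔ c1 N M)) *
                Nat.card ↥(cj g (c1 M N) ⊓ c1 N M) :=
              Nat.mul_le_mul_right _ (Nat.mul_le_mul_left _ h5)
          _ = 2 * (Nat.card ↥(cj g (c1 M N) ⊔ c1 N M) *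
                Nat.card ↥(cj g (c1 M N) ⊓ c1 N M)) := by ring
          _ = 2 * (Nat.card ↥(cj g (c1 M N)) * Nat.card ↥(c1 N M)) := by rw [hprod2]
          _ = (2 * Nat.card ↥(c1 N M)) * Nat.card ↥(cj g (c1 M N)) := by ring
      exact Nat.le_of_mul_le_mul_right h7 hKbpos
    -- the family `Z n = cj n (L ⊓ K)`
    have hTnX : M ⊓ N ≤ Subgroup.normalizer ((c1 N M ⊓ c1 M N : Subgroup G) : Set G) :=
      fun t ht => mem_normalizer_inf (hNL ht.2) (hMK ht.1)
    have hZinf : (⨅ n : ↥N, cj (n : G) (c1 N M ⊓ c1 M N)) = ⊥ := by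
      rw [eq_bot_iff, ← hc]
      intro x hx
      rw [Subgroup.mem_iInf] at hx
      show x ∈ relCore N (c1 N M ⊓ c1 M N)
      rw [mem_relCore]
      have hx1 : x ∈ c1 N M ⊓ c1 M N := by
        have h8 := hx ⟨1, N.one_mem⟩
        have h9 : cj (1 : G) (c1 N M ⊓ c1 M N) = c1 N M ⊓ c1 M N := map_conj_one _
        rwa [h9] at h8
      refine ⟨hLN (Subgroup.mem_inf.mp hx1).1, fun m hm => ?_⟩
      obtain ⟨y, hy, hyx⟩ := hx ⟨m⁻¹, N.inv_mem hm⟩
      have h10 : m * x * m⁻¹ = y := by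
        rw [← hyx]
        simp [mul_assoc]
      rw [h10]
      exact hy
    have hZL : ∀ n : ↥N, cj (n : G) (c1 N M ⊓ c1 M N) ≤ c1 N M := by
      intro n
      have h11 : cj (n : G) (c1 N M) = c1 N M :=
        mem_normalizer_iff_map_conj_eq'.mp (hNL n.2)
      calc cj (n : G) (c1 N M ⊓ c1 M N) ≤ cj (n : G) (c1 N M) := Subgroup.map_mono inf_le_left
        _ = c1 N M := h11
    have hZn : ∀ n : ↥N, c1 N M ≤
        Subgroup.normalizer ((cj (n : G) (c1 N M ⊓ c1 M N) : Subgroup G) : Set G) := by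
      intro n
      have h11 : cj (n : G) (c1 N M) = c1 N M :=
        mem_normalizer_iff_map_conj_eq'.mp (hNL n.2)
      have h12 : Subgroup.normalizer ((cj (n : G) (c1 N M ⊓ c1 M N) : Subgroup G) : Set G) =
          cj (n : G) (Subgroup.normalizer ((c1 N M ⊓ c1 M N : Subgroup G) : Set G)) :=
        normalizer_map_conj _ _
      rw [h12]
      calc c1 N M = cj (n : G) (c1 N M) := h11.symm
        _ ≤ _ := Subgroup.map_mono (hLT.trans hTnX)
    have hex : ∃ n : ↥N, cj (n : G) (c1 N M ⊓ c1 M N) ≤ cj g (c1 M N) := by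
      by_contra hne
      push Not at hne
      have h13 := hpp (U := c1 N M) hLN (by rw [hR]; exact hAbLKb)
        (fun n : ↥N => cj (n : G) (c1 N M ⊓ c1 M N))
        (fun n => ⟨hZL n, hZn n, by rw [hR]; exact hne n⟩)
      rw [hZinf, bot_sup_eq, hR] at h13
      have h14 : Nat.card (altPart N (cj g (M ⊓ N))) ≤ Nat.card ↥(cj g (c1 M N)) :=
        Subgroup.card_le_of_le h13
      have h15 : Nat.card ↥(cj g (c1 M N)) ≤ (d - 1).factorial * Nat.card ↥(cj g (c1 M N)) :=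
        Nat.le_mul_of_pos_left _ (Nat.factorial_pos _)
      exact arith_contra (by omega) hKbpos (le_of_eq hAb2.symm) (h14.trans h15)
    obtain ⟨n, hn⟩ := hex
    have h16 : Nat.card ↥(c1 N M ⊓ c1 M N) ≤ Nat.card ↥(cj g (c1 M N) ⊓ c1 N M) := by
      rw [← card_cj (n : G) (c1 N M ⊓ c1 M N)]
      exact Subgroup.card_le_of_le (le_inf hn (hZL n))
    -- `|L| ≤ (d-1)! |L ⊓ K|`
    have hprod3 := Cfsg.Agent.Lib.Helper51_Offender.card_sup_mul_card_inf
      (c1 N M) (c1 M N) (hKN.trans hNL)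
    have h17 : Nat.card ↥(c1 N M ⊔ c1 M N) ≤ Nat.card ↥(M ⊓ N) :=
      Subgroup.card_le_of_le (sup_le hLT hKT)
    have h18 : Nat.card ↥(c1 N M) * Nat.card ↥(c1 M N) ≤
        ((d - 1).factorial * Nat.card ↥(c1 N M ⊓ c1 M N)) * Nat.card ↥(c1 M N) := by
      calc Nat.card ↥(c1 N M) * Nat.card ↥(c1 M N)
          = Nat.card ↥(c1 N M ⊔ c1 M N) * Nat.card ↥(c1 N M ⊓ c1 M N) := hprod3.symm
        _ ≤ Nat.card ↥(M ⊓ N) * Nat.card ↥(c1 N M ⊓ c1 M N) := Nat.mul_le_mul_right _ h17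
        _ ≤ ((d - 1).factorial * Nat.card ↥(c1 M N)) * Nat.card ↥(c1 N M ⊓ c1 M N) :=
            Nat.mul_le_mul_right _ hTK
        _ = ((d - 1).factorial * Nat.card ↥(c1 N M ⊓ c1 M N)) * Nat.card ↥(c1 M N) := by ring
    have h19 : Nat.card ↥(c1 N M) ≤ (d - 1).factorial * Nat.card ↥(c1 N M ⊓ c1 M N) :=
      Nat.le_of_mul_le_mul_right h18 hKpos
    have h20 : Nat.card ↥(c1 N M) ≤ (d - 1).factorial * Nat.card ↥(cj g (c1 M N) ⊓ c1 N M) :=
      h19.trans (Nat.mul_le_mul_left _ h16)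
    exact arith_contra (by omega) Nat.card_pos h6 h20

end Cfsg.Agent.Lib.Helper50_Kn_STEP3Bcore
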