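import Cfsg.Agent.Lib.Helper49_Kn_BASIC
import Cfsg.Agent.Lib.Helper82_Kn_ALTPART
import Cfsg.Agent.Lib.Helper99_Kn_ALTCOMM
import Cfsg.Agent.Lib.Helper99_Kn_COREDVD
import Cfsg.Agent.Lib.Helper60_Kn_ALTcore
import Cfsg.Agent.Lib.Helper50_Kn_STEP3Bcore

/-!
S3687 market (architect helper49), package STEP3B: the verbatim statement, from `step3b_core` and the landed
packages BASIC, ALTPART, ALTCOMM, COREDVD and the ALTPP core of helper60.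
-/

namespace Cfsg.Agent.Lib.Helper50_Kn_STEP3B

open Cfsg Cfsg.Agent.Lib.Helper47_TW Cfsg.Agent.Lib.Helper49_KnDefs

universe u

variable {G : Type u} [Group G] [Finite G]

/-- PACKAGE STEP3B. -/
theorem step3b {d : ℕ} {M N : Subgroup G} {g : G} (h : Cfg d M N g)
    (hA : altPart N (cj g (M ⊓ N)) ≤ (M ⊓ N) ⊔ cj g (c1 M N)) (hc : c2 N M = ⊥) : False := by
  obtain ⟨-, hNT, hAS, hR, -, hNKb, -⟩ := Cfsg.Agent.Lib.Helper49_Kn_BASIC.cfg_basic h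
  have hd5 : 5 ≤ d := by have := h.hd; omega
  obtain ⟨hKAb, hAbN, -, hAbcard⟩ := Cfsg.Agent.Lib.Helper82_Kn_ALTPART.altPart_facts hAS hd5
  have hMT : Nat.card M = d * Nat.card ↥(M ⊓ N) := h.as.2.1
  exact Cfsg.Agent.Lib.Helper50_Kn_STEP3Bcore.step3b_core h hNT hR hNKb hAbN hAbcard
    (fun {U Z} hUN hAU hZU hUZ hZK =>
      Cfsg.Agent.Lib.Helper99_Kn_ALTCOMM.as_comm hAS hd5 hUN hAU hZU hUZ hZK hZU hUZ hZK)
    (fun {U} hUN hAU Z hZ =>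
      Cfsg.Agent.Lib.Helper60_Kn_ALTcore.as_pp_of hd5
        (fun Z₁ Z₂ h1 h1n h1K h2 h2n h2K =>
          Cfsg.Agent.Lib.Helper99_Kn_ALTCOMM.as_comm hAS hd5 hUN hAU h1 h1n h1K h2 h2n h2K)
        ⟨hKAb, hAbcard⟩ Z hZ)
    (Cfsg.Agent.Lib.Helper99_Kn_COREDVD.card_dvd_relCore inf_le_right hNT)
    (Cfsg.Agent.Lib.Helper99_Kn_COREDVD.card_dvd_relCore inf_le_left hMT)
    hA hc

end Cfsg.Agent.Lib.Helper50_Kn_STEP3B
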