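import Mathlib
import Cfsg.Agent.Lib.Helper50_DkTorus
import Cfsg.Agent.Lib.Helper50_DkPSL
import Cfsg.Agent.Lib.Helper50_DkStruct

/-!
# Lifting elements of small order from `PSL(2,F)` to `SL(2,F)` (helper50)

Trace conditions for lifts of elements of order `2, 3, 4, 5` of `PSL(2,F)`.
-/

set_option autoImplicit false

namespace Cfsg.Agent.Lib.Helper50_MxLift

open Matrix Cfsg.Agent.Lib.Helper50_SL2Mat Cfsg.Agent.Lib.Helper50_DkPSL
  Cfsg.Agent.Lib.Helper50_DkTorus Cfsg.Agent.Lib.Helper50_DkStruct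
open scoped MatrixGroups

variable {F : Type*} [Field F]

theorem rep_self (Z : SL(2, F)) : Rep Z Z 0 1 := by
  refine ⟨?_, ?_, ?_, ?_⟩ <;> ring

/-- if `α + β Z` is scalar and `Z` is not, then `β = 0` -/
theorem beta_zero {Z W : SL(2, F)} {α β : F} (hZ : ¬ IsScalar Z) (h : Rep Z W α β)
    (hW : IsScalar W) : β = 0 := by
  by_contra hβ
  apply hZ
  obtain ⟨r1, r2, r3, r4⟩ := h
  obtain ⟨w1, w2, w3⟩ := hW
  refine ⟨?_, ?_, ?_⟩
  · rw [r2] at w1
    exact (mul_eq_zero.1 w1).resolve_left hβ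
  · rw [r3] at w2
    exact (mul_eq_zero.1 w2).resolve_left hβ
  · rw [r1, r4] at w3
    have : β * (Z 0 0 - Z 1 1) = 0 := by linear_combination w3
    have := (mul_eq_zero.1 this).resolve_left hβ
    linear_combination this

theorem rep_sq (Z : SL(2, F)) : Rep Z (Z * Z) (-1) (tr Z) := by
  have := rep_mul (rep_self Z) (rep_self Z)
  convert this using 1 <;> ring

theorem rep_cube (Z : SL(2, F)) : Rep Z (Z * Z * Z) (-tr Z) (tr Z ^ 2 - 1) := by
  have := rep_mul (rep_sq Z) (rep_self Z)
  convert this using 1 <;> ring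

theorem rep_four (Z : SL(2, F)) :
    Rep Z (Z * Z * Z * Z) (-(tr Z ^ 2 - 1)) (tr Z ^ 3 - 2 * tr Z) := by
  have := rep_mul (rep_cube Z) (rep_self Z)
  convert this using 1 <;> ring

theorem rep_five (Z : SL(2, F)) :
    Rep Z (Z * Z * Z * Z * Z) (-(tr Z ^ 3 - 2 * tr Z)) (tr Z ^ 4 - 3 * tr Z ^ 2 + 1) := by
  have := rep_mul (rep_four Z) (rep_self Z)
  convert this using 1 <;> ring

/-- a representation with `β = 0` is scalar -/
theorem isScalar_of_rep_zero {Z W : SL(2, F)} {α : F} (h : Rep Z W α 0) : IsScalar W := by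
  obtain ⟨r1, r2, r3, r4⟩ := h
  refine ⟨?_, ?_, ?_⟩
  · rw [r2]; ring
  · rw [r3]; ring
  · rw [r1, r4]; ring

theorem not_isScalar_of_proj_ne_one {X : SL(2, F)} (h : proj X ≠ 1) : ¬ IsScalar X :=
  fun hs => h ((proj_eq_one_iff X).2 hs)

/-- lifts of involutions have trace `0` -/
theorem tr_eq_zero_of_proj_sq {X : SL(2, F)} (h1 : proj X ≠ 1) (h2 : proj X * proj X = 1) :
    tr X = 0 := by
  have hs : IsScalar (X * X) := by
    rw [← proj_eq_one_iff, map_mul]; exact h2
  exact beta_zero (not_isScalar_of_proj_ne_one h1) (rep_sq X) hs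

/-- conversely trace `0` gives an involution (or the identity) -/
theorem proj_sq_of_tr_eq_zero {X : SL(2, F)} (h : tr X = 0) : proj X * proj X = 1 := by
  rw [← map_mul, proj_eq_one_iff]
  have := rep_sq X
  rw [h] at this
  exact isScalar_of_rep_zero this

theorem tr_negOne_mul (X : SL(2, F)) : tr (negOne * X) = -tr X := by
  simp only [tr, negOne, mul00, mul11, mk00, mk01, mk10, mk11]; ring

theorem proj_negOne_mul (X : SL(2, F)) : proj (negOne * X) = proj X := by
  rw [map_mul, (proj_eq_one_iff negOne).2 isScalar_negOne, one_mul]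

/-- an element of order three has a lift of trace `-1` -/
theorem exists_lift_three
    {y : Matrix.ProjectiveSpecialLinearGroup (Fin 2) F} (h1 : y ≠ 1)
    (h3 : y * y * y = 1) : ∃ Y : SL(2, F), proj Y = y ∧ tr Y = -1 := by
  obtain ⟨Y0, rfl⟩ := proj_surjective y
  have hs : IsScalar (Y0 * Y0 * Y0) := by
    rw [← proj_eq_one_iff, map_mul, map_mul]; exact h3
  have hβ := beta_zero (not_isScalar_of_proj_ne_one h1) (rep_cube Y0) hs
  have hcases : tr Y0 = 1 ∨ tr Y0 = -1 := by
    have : (tr Y0 - 1) * (tr Y0 + 1) = 0 := by linear_combination hβ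
    rcases mul_eq_zero.1 this with h | h
    · left; linear_combination h
    · right; linear_combination h
  rcases hcases with h | h
  · exact ⟨negOne * Y0, proj_negOne_mul Y0, by rw [tr_negOne_mul, h]⟩
  · exact ⟨Y0, rfl, h⟩

/-- trace of a lift of an element of order three -/
theorem tr_sq_of_proj_cube {Z : SL(2, F)} (h1 : proj Z ≠ 1)
    (h3 : proj Z * proj Z * proj Z = 1) : tr Z ^ 2 = 1 := by
  have hs : IsScalar (Z * Z * Z) := by
    rw [← proj_eq_one_iff, map_mul, map_mul]; exact h3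
  have hβ := beta_zero (not_isScalar_of_proj_ne_one h1) (rep_cube Z) hs
  linear_combination hβ

/-- trace of a lift of an element of order four -/
theorem tr_sq_of_proj_four {Z : SL(2, F)} (h2 : proj Z * proj Z ≠ 1)
    (h4 : proj Z * proj Z * proj Z * proj Z = 1) : tr Z ^ 2 = 2 := by
  have h1 : proj Z ≠ 1 := by
    intro h
    apply h2
    rw [h, one_mul]
  have hs : IsScalar (Z * Z * Z * Z) := by
    rw [← proj_eq_one_iff, map_mul, map_mul, map_mul]; exact h4
  have hβ := beta_zero (not_isScalar_of_proj_ne_one h1) (rep_four Z) hs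
  have h0 : tr Z ≠ 0 := by
    intro h
    exact h2 (proj_sq_of_tr_eq_zero h)
  have : tr Z * (tr Z ^ 2 - 2) = 0 := by linear_combination hβ
  have := (mul_eq_zero.1 this).resolve_left h0
  linear_combination this

/-- trace of a lift of an element of order five -/
theorem tr_of_proj_five {Z : SL(2, F)} (h1 : proj Z ≠ 1)
    (h5 : proj Z * proj Z * proj Z * proj Z * proj Z = 1) :
    tr Z ^ 4 - 3 * tr Z ^ 2 + 1 = 0 := by
  have hs : IsScalar (Z * Z * Z * Z * Z) := by
    rw [← proj_eq_one_iff, map_mul, map_mul, map_mul, map_mul]; exact h5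
  exact beta_zero (not_isScalar_of_proj_ne_one h1) (rep_five Z) hs

end Cfsg.Agent.Lib.Helper50_MxLift
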