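import Cfsg.Agent.Lib.Helper51_SL2SubMax

set_option autoImplicit false

namespace Cfsg.Agent.Lib.Helper51_SL2SubMax2

open Matrix Cfsg.Agent.Lib.Helper50_SL2Mat Cfsg.Agent.Lib.Helper51_SL2Sub
  Cfsg.Agent.Lib.Helper51_SL2SubMax Cfsg.Agent.Lib.Helper41_Subfield
open scoped MatrixGroups

variable {F K : Type*} [Field F] [Field K]

/-- the normaliser of the subfield subgroup: `a • g₀`, `g₀` over `K`, `a² ∈ K` -/
def N0 (ι : K →+* F) : Subgroup SL(2, F) where
  carrier := {g | ∃ a : F, a ≠ 0 ∧ a * a ∈ Set.range ι ∧ ∀ i j, ∃ t ∈ Set.range ι, g i j = a * t}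
  one_mem' := by
    refine ⟨1, one_ne_zero, ⟨1, by simp⟩, ?_⟩
    intro i j
    fin_cases i <;> fin_cases j
    · exact ⟨1, ⟨1, map_one ι⟩, by simp⟩
    · exact ⟨0, ⟨0, map_zero ι⟩, by simp⟩
    · exact ⟨0, ⟨0, map_zero ι⟩, by simp⟩
    · exact ⟨1, ⟨1, map_one ι⟩, by simp⟩
  mul_mem' := by
    rintro g h ⟨a, ha0, ⟨ca, hca⟩, hg⟩ ⟨b, hb0, ⟨cb, hcb⟩, hh⟩
    refine ⟨a * b, mul_ne_zero ha0 hb0, ⟨ca * cb, by rw [map_mul, hca, hcb]; ring⟩, ?_⟩
    obtain ⟨_, ⟨g00, rfl⟩, e00⟩ := hg 0 0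
    obtain ⟨_, ⟨g01, rfl⟩, e01⟩ := hg 0 1
    obtain ⟨_, ⟨g10, rfl⟩, e10⟩ := hg 1 0
    obtain ⟨_, ⟨g11, rfl⟩, e11⟩ := hg 1 1
    obtain ⟨_, ⟨h00, rfl⟩, f00⟩ := hh 0 0
    obtain ⟨_, ⟨h01, rfl⟩, f01⟩ := hh 0 1
    obtain ⟨_, ⟨h10, rfl⟩, f10⟩ := hh 1 0
    obtain ⟨_, ⟨h11, rfl⟩, f11⟩ := hh 1 1
    intro i j
    fin_cases i <;> fin_cases j
    · refine ⟨ι (g00 * h00 + g01 * h10), ⟨_, rfl⟩, ?_⟩
      show (g * h) 0 0 = _
      rw [mul00, e00, e01, f00, f10, map_add, map_mul, map_mul]; ring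
    · refine ⟨ι (g00 * h01 + g01 * h11), ⟨_, rfl⟩, ?_⟩
      show (g * h) 0 1 = _
      rw [mul01, e00, e01, f01, f11, map_add, map_mul, map_mul]; ring
    · refine ⟨ι (g10 * h00 + g11 * h10), ⟨_, rfl⟩, ?_⟩
      show (g * h) 1 0 = _
      rw [mul10, e10, e11, f00, f10, map_add, map_mul, map_mul]; ring
    · refine ⟨ι (g10 * h01 + g11 * h11), ⟨_, rfl⟩, ?_⟩
      show (g * h) 1 1 = _
      rw [mul11, e10, e11, f01, f11, map_add, map_mul, map_mul]; ring
  inv_mem' := by
    rintro g ⟨a, ha0, hca, hg⟩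
    refine ⟨a, ha0, hca, ?_⟩
    obtain ⟨_, ⟨g00, rfl⟩, e00⟩ := hg 0 0
    obtain ⟨_, ⟨g01, rfl⟩, e01⟩ := hg 0 1
    obtain ⟨_, ⟨g10, rfl⟩, e10⟩ := hg 1 0
    obtain ⟨_, ⟨g11, rfl⟩, e11⟩ := hg 1 1
    intro i j
    fin_cases i <;> fin_cases j
    · exact ⟨ι g11, ⟨_, rfl⟩, by show (g⁻¹) 0 0 = _; rw [inv00, e11]⟩
    · exact ⟨ι (-g01), ⟨_, rfl⟩, by show (g⁻¹) 0 1 = _; rw [inv01, e01, map_neg]; ring⟩
    · exact ⟨ι (-g10), ⟨_, rfl⟩, by show (g⁻¹) 1 0 = _; rw [inv10, e10, map_neg]; ring⟩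
    · exact ⟨ι g00, ⟨_, rfl⟩, by show (g⁻¹) 1 1 = _; rw [inv11, e00]⟩

theorem mem_N0 (ι : K →+* F) (g : SL(2, F)) :
    g ∈ N0 ι ↔ ∃ a : F, a ≠ 0 ∧ a * a ∈ Set.range ι ∧ ∀ i j, ∃ t ∈ Set.range ι, g i j = a * t :=
  Iff.rfl

theorem S0_le_N0 (ι : K →+* F) : S0 ι ≤ N0 ι := by
  intro g hg
  rw [mem_S0_iff] at hg
  exact ⟨1, one_ne_zero, ⟨1, by simp⟩, fun i j => ⟨g i j, hg i j, by rw [one_mul]⟩⟩


section finite

variable [Fintype F] [Fintype K]

/-- in the exceptional case of the engine, `K` has three elements -/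
theorem card_K_eq_three (ι : K →+* F) {M : Subgroup SL(2, F)} (hle : S0 ι ≤ M)
    [CharP F 3] (hA3 : Nat.card (AA M) = 3) : Fintype.card K = 3 := by
  have hinj : Function.Injective (fun x : K => (⟨ι x, range_subset_AA ι hle x⟩ : AA M)) := by
    intro x y hxy
    exact ι.injective (congrArg Subtype.val hxy)
  have hKle : Nat.card K ≤ 3 := by
    rw [← hA3]
    exact Nat.card_le_card_of_injective _ hinj
  rw [Nat.card_eq_fintype_card] at hKle
  have hcK : CharP K 3 := (ι.charP_iff ι.injective 3).2 inferInstance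
  obtain ⟨n, _, hn⟩ := FiniteField.card K 3
  rw [hn] at hKle ⊢
  have hn1 : (n : ℕ) = 1 := by
    by_contra hne
    have : 2 ≤ (n : ℕ) := by
      have := n.pos
      omega
    have : 3 ^ 2 ≤ 3 ^ (n : ℕ) := Nat.pow_le_pow_right (by norm_num) this
    omega
  rw [hn1]; norm_num

omit [Fintype F] in
theorem card_S0 (ι : K →+* F) :
    Nat.card (S0 ι) = Fintype.card K * (Fintype.card K ^ 2 - 1) := by
  rw [← Cfsg.Agent.Lib.Helper5_PSLCard.card_SL_two (F := K)]
  have hinj : Function.Injective (SpecialLinearGroup.map (n := Fin 2) ι) := by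
    intro g h hgh
    have key : ∀ i j, ι (g i j) = ι (h i j) := by
      intro i j
      rw [← Helper51_SL2SubMax.map_apply ι g i j, ← Helper51_SL2SubMax.map_apply ι h i j, hgh]
    apply ext4
    · exact ι.injective (key 0 0)
    · exact ι.injective (key 0 1)
    · exact ι.injective (key 1 0)
    · exact ι.injective (key 1 1)
  exact (Nat.card_congr (MonoidHom.ofInjective hinj).toEquiv).symm

/-- **The normaliser of `SL(2, K)` is maximal in `SL(2, F)`** for `[F : K] = 2`, odd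
characteristic. -/
theorem isCoatom_N0 (ι : K →+* F) {p : ℕ} [Fact p.Prime] [CharP F p] (hp : p ≠ 2)
    (hF : Fintype.card F = Fintype.card K ^ 2) (hsq : ∀ a : K, IsSquare (ι a)) :
    IsCoatom (N0 ι) := by
  have hK1 : 1 < Fintype.card K := Fintype.one_lt_card
  constructor
  · intro htop
    have hsurj : Function.Surjective ι := by
      intro x
      have : tU x ∈ N0 ι := by rw [htop]; exact Subgroup.mem_top _
      obtain ⟨a, ha0, _, hent⟩ := this
      obtain ⟨_, ⟨t00, rfl⟩, e00⟩ := hent 0 0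
      obtain ⟨_, ⟨t01, rfl⟩, e01⟩ := hent 0 1
      rw [tU00] at e00
      rw [tU01] at e01
      have ht0 : ι t00 ≠ 0 := by
        intro h0
        rw [h0, mul_zero] at e00
        exact one_ne_zero e00
      have ha : a = ι (t00⁻¹) := by
        rw [map_inv₀]
        field_simp
        exact e00.symm
      exact ⟨t00⁻¹ * t01, by rw [map_mul, ← ha, e01]⟩
    have hle := Fintype.card_le_of_surjective _ hsurj
    rw [hF] at hle
    nlinarith
  · intro M hlt
    have hle : S0 ι ≤ M := le_trans (S0_le_N0 ι) hlt.le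
    have hU : tU 1 ∈ M := by
      have := hle (tU_mem_S0 ι 1)
      rwa [map_one] at this
    have hL : tL 1 ∈ M := by
      have := hle (tL_mem_S0 ι 1)
      rwa [map_one] at this
    rcases engine hp M hU hL with hG | ⟨h3, hA3, hcard⟩
    · rcases subring_cases ι Nat.prime_two hF (AA M) (range_subset_AA ι hle)
        (fun x hx y hy => AA_add hx hy) hG.mul_mem with hA | hA
      · exfalso
        apply hlt.not_ge
        intro g hg
        have := hG.entries g hg
        rw [hA] at this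
        exact this
      · rw [eq_top_iff]
        intro g _
        apply hG.sl_le
        intro i j
        rw [hA]
        exact Set.mem_univ _
    · exfalso
      subst h3
      have hK3 := card_K_eq_three ι hle hA3
      have hcS : Nat.card (S0 ι) = 24 := by rw [card_S0, hK3]; norm_num
      -- an element of `N0` outside `S0`
      obtain ⟨a, ha⟩ := hsq (-1)
      have ha0 : a ≠ 0 := by
        rintro rfl
        rw [mul_zero, map_neg, map_one] at ha
        have : (1 : F) = 0 := by linear_combination -ha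
        exact one_ne_zero this
      have hnot : a ∉ Set.range ι := by
        rintro ⟨b, rfl⟩
        have hb : b * b = -1 := ι.injective (by rw [map_mul, ← ha])
        have hb3 : b ^ 3 = b := by
          have := FiniteField.pow_card b
          rwa [hK3] at this
        have h2b : 2 * b = 0 := by
          have : b ^ 3 = -b := by
            calc b ^ 3 = b * b * b := by ring
              _ = -b := by rw [hb]; ring
          rw [hb3] at this
          linear_combination this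
        have h2K : (2 : K) ≠ 0 := by
          intro h2
          have h3K : (3 : K) = 0 := by
            have hcK : CharP K 3 := (ι.charP_iff ι.injective 3).2 inferInstance
            exact_mod_cast CharP.cast_eq_zero K 3
          have : (1 : K) = 0 := by linear_combination h3K - h2
          exact one_ne_zero this
        have hb0 : b = 0 := (mul_eq_zero.1 h2b).resolve_left h2K
        rw [hb0, mul_zero] at hb
        have : (1 : K) = 0 := by linear_combination hb
        exact one_ne_zero this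
      have hd : a * a⁻¹ - 0 * 0 = 1 := by rw [mul_inv_cancel₀ ha0]; ring
      have hgN : mk a 0 0 a⁻¹ hd ∈ N0 ι := by
        refine ⟨a, ha0, ⟨-1, ha⟩, ?_⟩
        intro i j
        fin_cases i <;> fin_cases j
        · exact ⟨1, ⟨1, map_one ι⟩, by simp⟩
        · exact ⟨0, ⟨0, map_zero ι⟩, by simp⟩
        · exact ⟨0, ⟨0, map_zero ι⟩, by simp⟩
        · refine ⟨ι (-1), ⟨_, rfl⟩, ?_⟩
          show a⁻¹ = _
          exact inv_eq_of_mul_eq_one_right (by rw [← mul_assoc, ← ha, ← map_mul]; simp)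
      have hgS : mk a 0 0 a⁻¹ hd ∉ S0 ι := by
        intro h
        have := (mem_S0_iff ι _).1 h 0 0
        exact hnot this
      have hSN : S0 ι ≠ N0 ι := fun h => hgS (h ▸ hgN)
      have hcardne : Nat.card (S0 ι) ≠ Nat.card (N0 ι) := by
        intro h
        exact hSN (Subgroup.eq_of_le_of_card_ge (S0_le_N0 ι) (le_of_eq h.symm))
      have hcardne2 : Nat.card (N0 ι) ≠ Nat.card M := by
        intro h
        exact hlt.ne (Subgroup.eq_of_le_of_card_ge hlt.le (le_of_eq h.symm))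
      obtain ⟨k, hk⟩ := Subgroup.card_dvd_of_le (S0_le_N0 ι)
      obtain ⟨m, hm⟩ := Subgroup.card_dvd_of_le hlt.le
      rw [hcS] at hk hcardne
      rw [hk] at hm hcardne hcardne2
      rcases hcard with h | h
      · rw [h] at hm
        have : 24 ∣ 60 := ⟨k * m, by rw [hm]; ring⟩
        norm_num at this
      · rw [h] at hm hcardne2
        have hkm : k * m = 5 := by nlinarith
        have hk5 : k ∣ 5 := ⟨m, hkm.symm⟩
        rcases (Nat.dvd_prime (by norm_num : Nat.Prime 5)).1 hk5 with rfl | rfl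
        · omega
        · omega

end finite

/-- the image of `GL(2, K)` in `PSL(2, F)` is the image of `N0` -/
theorem pglHom_range (ι : K →+* F) (hsq : ∀ a : K, IsSquare (ι a)) :
    (pglHom ι hsq).range = (N0 ι).map (QuotientGroup.mk' (Subgroup.center SL(2, F))) := by
  ext x
  constructor
  · rintro ⟨g, rfl⟩
    rw [pglHom_apply]
    refine ⟨_, ?_, rfl⟩
    set s := (hsq (g : Matrix (Fin 2) (Fin 2) K).det).choose with hs_def
    have hs : s * s = ι (g : Matrix (Fin 2) (Fin 2) K).det :=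
      (hsq (g : Matrix (Fin 2) (Fin 2) K).det).choose_spec.symm
    have hd := det_ne_zero_of_GL g
    have hs0 : s ≠ 0 := by
      intro h0
      rw [h0, mul_zero] at hs
      exact hd (ι.injective (by rw [← hs, map_zero]))
    refine ⟨s⁻¹, inv_ne_zero hs0, ⟨((g : Matrix (Fin 2) (Fin 2) K).det)⁻¹, ?_⟩, ?_⟩
    · rw [map_inv₀, ← hs]; field_simp
    · intro i j
      refine ⟨ι ((g : Matrix (Fin 2) (Fin 2) K) i j), ⟨_, rfl⟩, ?_⟩
      show (sqrtScale ι g s hs : Matrix (Fin 2) (Fin 2) F) i j = _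
      rw [sqrtScale_coe]
      simp [Matrix.smul_apply, Matrix.map_apply]
  · rintro ⟨n, ⟨a, ha0, ⟨c, hc⟩, hent⟩, rfl⟩
    obtain ⟨_, ⟨k00, rfl⟩, e00⟩ := hent 0 0
    obtain ⟨_, ⟨k01, rfl⟩, e01⟩ := hent 0 1
    obtain ⟨_, ⟨k10, rfl⟩, e10⟩ := hent 1 0
    obtain ⟨_, ⟨k11, rfl⟩, e11⟩ := hent 1 1
    have hdn := det1 n
    rw [e00, e01, e10, e11] at hdn
    have hdet : ι (k00 * k11 - k01 * k10) * (a * a) = 1 := by
      rw [map_sub, map_mul, map_mul]; linear_combination hdn
    have hk : (!![k00, k01; k10, k11] : Matrix (Fin 2) (Fin 2) K).det ≠ 0 := by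
      rw [Matrix.det_fin_two_of]
      intro h0
      rw [h0, map_zero, zero_mul] at hdet
      exact zero_ne_one hdet
    let g : GL (Fin 2) K := Matrix.GeneralLinearGroup.mkOfDetNeZero _ hk
    have hgc : (g : Matrix (Fin 2) (Fin 2) K) = !![k00, k01; k10, k11] := rfl
    have hs : a⁻¹ * a⁻¹ = ι (g : Matrix (Fin 2) (Fin 2) K).det := by
      rw [hgc, Matrix.det_fin_two_of]
      field_simp
      linear_combination -hdet
    refine ⟨g, ?_⟩
    rw [pglHom_apply, mk_sqrtScale_eq ι g _ a⁻¹ _ hs]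
    show (QuotientGroup.mk _ : ProjectiveSpecialLinearGroup (Fin 2) F) = QuotientGroup.mk n
    congr 1
    apply ext4
    · show (sqrtScale ι g a⁻¹ hs : Matrix (Fin 2) (Fin 2) F) 0 0 = _
      rw [sqrtScale_coe, hgc, e00]; simp
    · show (sqrtScale ι g a⁻¹ hs : Matrix (Fin 2) (Fin 2) F) 0 1 = _
      rw [sqrtScale_coe, hgc, e01]; simp
    · show (sqrtScale ι g a⁻¹ hs : Matrix (Fin 2) (Fin 2) F) 1 0 = _
      rw [sqrtScale_coe, hgc, e10]; simp
    · show (sqrtScale ι g a⁻¹ hs : Matrix (Fin 2) (Fin 2) F) 1 1 = _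
      rw [sqrtScale_coe, hgc, e11]; simp

end Cfsg.Agent.Lib.Helper51_SL2SubMax2
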