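import Mathlib
import Cfsg.Agent.Lib.Helper50_MxBasic
import Cfsg.Agent.Lib.Helper50_MxRigid
import Cfsg.Agent.Lib.Helper50_MxLift
import Cfsg.Agent.Lib.Helper51_SL2SubMax2
import Cfsg.Agent.Lib.Helper41_SL2Triple

/-!
# Maximal subgroups generated by a rigid pair (helper50)

`exc_general`: a maximal subgroup `M` of `PSL(2,F)` generated by the images of `X, Y` (with
`tr X = 0` and a non-degenerate trace triple) coincides, up to an automorphism, with the image of any
proper subgroup `S ∋ -1` of `SL(2,F)` containing a pair with the same traces.  In particular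
`|S| = 2 |M|`.
-/

set_option autoImplicit false

namespace Cfsg.Agent.Lib.Helper50_MxExc

open Matrix Cfsg.Agent.Lib.Helper50_SL2Mat Cfsg.Agent.Lib.Helper50_DkPSL
  Cfsg.Agent.Lib.Helper50_DkStruct Cfsg.Agent.Lib.Helper50_MxRigid
  Cfsg.Agent.Lib.Helper50_MxBasic Cfsg.Agent.Lib.Helper50_MxLift
open scoped MatrixGroups

variable {F : Type*} [Field F] [Fintype F] [DecidableEq F]

theorem exc_general (h2 : (2 : F) ≠ 0) (M : Subgroup (Matrix.ProjectiveSpecialLinearGroup (Fin 2) F))
    (hM : IsCoatom M) (X Y : SL(2, F))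
    (hgen : M = Subgroup.closure {proj X, proj Y})
    (hX : tr X = 0) (hN : tr Y ^ 2 + tr (X * Y) ^ 2 ≠ 4)
    (S : Subgroup SL(2, F)) (hneg : negOne ∈ S) (hS : S ≠ ⊤)
    (a' Y' : SL(2, F)) (ha'S : a' ∈ S) (hY'S : Y' ∈ S) (ha' : tr a' = 0)
    (hY' : tr Y' = tr Y) (haY' : tr (a' * Y') = tr (X * Y)) :
    Nat.card S = 2 * Nat.card M := by
  obtain ⟨e, he1, he2⟩ := pair_rigid h2 a' Y' X Y ha' hX hY' haY' (by rw [hY', haY']; exact hN)
  set T := S.map (gcj e).toMonoidHom with hT
  have hXT : X ∈ T := ⟨a', ha'S, he1⟩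
  have hYT : Y ∈ T := ⟨Y', hY'S, he2⟩
  have hnegT : negOne ∈ T := by
    refine ⟨negOne, hneg, ?_⟩
    have hs : IsScalar (gcj e negOne) := (isScalar_map_equiv _ _).2 isScalar_negOne
    rcases hs.eq_one_or with h | h
    · exfalso
      have : (negOne : SL(2, F)) = 1 := (gcj e).injective (h.trans (map_one _).symm)
      exact negOne_ne_one h2 this
    · exact h
  have hMT : M ≤ T.map proj := by
    rw [hgen, Subgroup.closure_le]
    rintro z (rfl | rfl)
    · exact ⟨X, hXT, rfl⟩
    · exact ⟨Y, hYT, rfl⟩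
  have hTtop : T.map proj ≠ ⊤ := by
    intro htop
    apply hS
    have hTt : T = ⊤ := by
      rw [eq_top_iff]
      intro g _
      have : proj g ∈ T.map proj := by rw [htop]; exact Subgroup.mem_top _
      obtain ⟨t, ht, htg⟩ := this
      have hsc : IsScalar (t⁻¹ * g) := by
        rw [← proj_eq_one_iff, map_mul, map_inv, htg, inv_mul_cancel]
      have hg : g = t * (t⁻¹ * g) := by group
      rw [hg]
      rcases hsc.eq_one_or with h | h
      · rw [h, mul_one]; exact ht
      · rw [h]; exact T.mul_mem ht hnegT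
    rw [eq_top_iff]
    intro s _
    have : (gcj e) s ∈ T := by rw [hTt]; exact Subgroup.mem_top _
    obtain ⟨s', hs', hss⟩ := this
    have : s' = s := (gcj e).injective hss
    rw [← this]; exact hs'
  have hMeq : M = T.map proj := eq_of_isCoatom_le hM hMT hTtop
  have hcT : Nat.card T = Nat.card S :=
    (Nat.card_congr (S.equivMapOfInjective _ (gcj e).injective).toEquiv).symm
  rw [← hcT, card_map_proj h2 T hnegT, hMeq]

section subfield

open Cfsg.Agent.Lib.Helper51_SL2SubMax Cfsg.Agent.Lib.Helper51_SL2SubMax2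

variable {K : Type*} [Field K] [Fintype K]

omit [Fintype F] [DecidableEq F] [Fintype K] in
theorem tr_map (ι : K →+* F) (g : SL(2, K)) :
    tr (SpecialLinearGroup.map (n := Fin 2) ι g) = ι (Matrix.trace g.1) := by
  rw [Matrix.trace_fin_two, map_add]
  show (SpecialLinearGroup.map (n := Fin 2) ι g) 0 0 + (SpecialLinearGroup.map (n := Fin 2) ι g) 1 1 = _
  rw [map_apply ι g 0 0, map_apply ι g 1 1]

omit [Fintype F] [DecidableEq F] [Fintype K] in
theorem negOne_mem_S0 (ι : K →+* F) : (negOne : SL(2, F)) ∈ S0 ι :=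
  center_le_S0 ι ((mem_center_iff _).2 isScalar_negOne)

omit [Fintype F] [DecidableEq F] [Fintype K] in
theorem S0_ne_top (ι : K →+* F) (hι : ¬ Function.Surjective ι) : S0 ι ≠ ⊤ := by
  intro htop
  apply hι
  intro x
  have : tU x ∈ S0 ι := by rw [htop]; exact Subgroup.mem_top _
  have := (mem_S0_iff ι _).1 this 0 1
  rwa [tU01] at this

omit [Fintype F] [DecidableEq F] [Fintype K] in
theorem N0_ne_top (ι : K →+* F) (hι : ¬ Function.Surjective ι) : N0 ι ≠ ⊤ := by
  intro htop
  apply hι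
  intro x
  have : tU x ∈ N0 ι := by rw [htop]; exact Subgroup.mem_top _
  obtain ⟨a, ha0, _, hent⟩ := this
  obtain ⟨_, ⟨t00, rfl⟩, e00⟩ := hent 0 0
  obtain ⟨_, ⟨t01, rfl⟩, e01⟩ := hent 0 1
  rw [tU00] at e00
  rw [tU01] at e01
  have ht00 : ι t00 ≠ 0 := by
    intro h
    rw [h, mul_zero] at e00
    exact one_ne_zero e00
  refine ⟨t01 / t00, ?_⟩
  rw [map_div₀, e01, div_eq_iff ht00]
  linear_combination (ι t01) * e00

/-- **A maximal subgroup generated by a rigid pair with traces in a proper subfield.** -/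
theorem exc_subfield (h2 : (2 : F) ≠ 0)
    (M : Subgroup (Matrix.ProjectiveSpecialLinearGroup (Fin 2) F))
    (hM : IsCoatom M) (X Y : SL(2, F))
    (hgen : M = Subgroup.closure {proj X, proj Y})
    (hX : tr X = 0) (hN : tr Y ^ 2 + tr (X * Y) ^ 2 ≠ 4)
    (ι : K →+* F) (hι : ¬ Function.Surjective ι) (b c : K) (hb : ι b = tr Y)
    (hc : ι c = tr (X * Y)) :
    Fintype.card K * (Fintype.card K ^ 2 - 1) = 2 * Nat.card M := by
  have h2K : (2 : K) = 0 → b ≠ c := by
    intro h
    exfalso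
    apply h2
    have := congrArg ι h
    rwa [map_ofNat, map_zero] at this
  obtain ⟨X0, Y0, hX0, hY0, hXY0⟩ := Cfsg.Agent.Lib.Helper41_SL2Triple.exists_pair b c h2K
  rw [← card_S0 ι]
  apply exc_general h2 M hM X Y hgen hX hN (S0 ι) (negOne_mem_S0 ι) (S0_ne_top ι hι)
    (SpecialLinearGroup.map (n := Fin 2) ι X0) (SpecialLinearGroup.map (n := Fin 2) ι Y0)
    ⟨X0, rfl⟩ ⟨Y0, rfl⟩
  · rw [tr_map, hX0, map_zero]
  · rw [tr_map, hY0, hb]
  · rw [← map_mul, tr_map, hXY0, hc]

end subfield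

end Cfsg.Agent.Lib.Helper50_MxExc
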