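import Mathlib
import Cfsg.Agent.Lib.Helper42_KleinCount

/-!
# Generating pairs of `A₄`, `S₄`, `A₅` of type `(2,3,n)` (helper50)
-/

set_option autoImplicit false

namespace Cfsg.Agent.Lib.Helper50_MxGen

open Cfsg.Agent.Lib.Helper42_KleinCount

theorem card_A4' : Nat.card (alternatingGroup (Fin 4)) = 12 := by
  rw [nat_card_alternatingGroup, Nat.card_eq_fintype_card, Fintype.card_fin]
  rfl

theorem card_S4' : Nat.card (Equiv.Perm (Fin 4)) = 24 := by
  rw [Nat.card_eq_fintype_card, Fintype.card_perm, Fintype.card_fin]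
  rfl

theorem card_A5' : Nat.card (alternatingGroup (Fin 5)) = 60 := by
  rw [nat_card_alternatingGroup, Nat.card_eq_fintype_card, Fintype.card_fin]
  rfl

/-- the order of an element of a subgroup divides the order of the subgroup -/
theorem orderOf_dvd_card_of_mem {G : Type*} [Group G] {H : Subgroup G} {g : G}
    (hg : g ∈ H) : orderOf g ∣ Nat.card H := by
  have := orderOf_dvd_natCard (⟨g, hg⟩ : H)
  rwa [Subgroup.orderOf_mk] at this

set_option maxRecDepth 100000 in
theorem gen_A4 : ∃ x y : alternatingGroup (Fin 4), x ≠ 1 ∧ x * x = 1 ∧ y ≠ 1 ∧ y * y * y = 1 ∧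
    x * y ≠ 1 ∧ (x * y) * (x * y) * (x * y) = 1 ∧ Subgroup.closure {x, y} = ⊤ := by
  let x : alternatingGroup (Fin 4) := ⟨Equiv.swap 0 1 * Equiv.swap 2 3, Equiv.Perm.mem_alternatingGroup.2 (by decide)⟩
  let y : alternatingGroup (Fin 4) := ⟨Equiv.swap 0 1 * Equiv.swap 1 2, Equiv.Perm.mem_alternatingGroup.2 (by decide)⟩
  have hx1 : x ≠ 1 := by decide
  have hx2 : x * x = 1 := by decide
  have hy1 : y ≠ 1 := by decide
  have hy3 : y * y * y = 1 := by decide
  refine ⟨x, y, hx1, hx2, hy1, hy3, by decide, by decide, ?_⟩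
  set H := Subgroup.closure ({x, y} : Set (alternatingGroup (Fin 4))) with hH
  have hx : x ∈ H := Subgroup.subset_closure (by simp)
  have hy : y ∈ H := Subgroup.subset_closure (by simp)
  have hx' : y * x * y⁻¹ ∈ H := H.mul_mem (H.mul_mem hy hx) (H.inv_mem hy)
  have h1 : (y * x * y⁻¹) * (y * x * y⁻¹) = 1 := by decide
  have h2 : x * (y * x * y⁻¹) = (y * x * y⁻¹) * x := by decide
  have h3 : y * x * y⁻¹ ≠ 1 := by decide
  have h4 : x ≠ y * x * y⁻¹ := by decide
  have hV : V4 x (y * x * y⁻¹) hx2 h1 h2 ≤ H := by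
    intro g hg
    rcases (V4_mem hx2 h1 h2 g).1 hg with rfl | rfl | rfl | rfl
    · exact H.one_mem
    · exact hx
    · exact hx'
    · exact H.mul_mem hx hx'
  have d4 : 4 ∣ Nat.card H := by
    have := Subgroup.card_dvd_of_le hV
    rwa [V4_card hx2 h1 h2 hx1 h3 h4] at this
  have hoy : orderOf y = 3 := by
    have : Fact (Nat.Prime 3) := ⟨Nat.prime_three⟩
    apply orderOf_eq_prime _ hy1
    rw [pow_succ, pow_two]; exact hy3
  have d3 : 3 ∣ Nat.card H := by
    have := orderOf_dvd_card_of_mem hy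
    rwa [hoy] at this
  have d12 : 12 ∣ Nat.card H :=
    Nat.Coprime.mul_dvd_of_dvd_of_dvd (by norm_num : Nat.Coprime 4 3) d4 d3
  have hle : Nat.card H ∣ 12 := by
    rw [← card_A4']; exact Subgroup.card_subgroup_dvd_card H
  apply Subgroup.eq_top_of_card_eq
  rw [card_A4']
  exact Nat.dvd_antisymm hle d12

set_option maxRecDepth 100000 in
theorem gen_S4 : ∃ x y : Equiv.Perm (Fin 4), x ≠ 1 ∧ x * x = 1 ∧ y ≠ 1 ∧ y * y * y = 1 ∧
    (x * y) * (x * y) ≠ 1 ∧ (x * y) * (x * y) * (x * y) * (x * y) = 1 ∧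
    Subgroup.closure {x, y} = ⊤ := by
  let x : Equiv.Perm (Fin 4) := Equiv.swap 0 1
  let y : Equiv.Perm (Fin 4) := Equiv.swap 1 2 * Equiv.swap 2 3
  have hx1 : x ≠ 1 := by decide
  have hx2 : x * x = 1 := by decide
  have hy1 : y ≠ 1 := by decide
  have hy3 : y * y * y = 1 := by decide
  have hz2 : (x * y) * (x * y) ≠ 1 := by decide
  have hz4 : (x * y) * (x * y) * (x * y) * (x * y) = 1 := by decide
  refine ⟨x, y, hx1, hx2, hy1, hy3, hz2, hz4, ?_⟩
  set H := Subgroup.closure ({x, y} : Set (Equiv.Perm (Fin 4))) with hH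
  have hx : x ∈ H := Subgroup.subset_closure (by simp)
  have hy : y ∈ H := Subgroup.subset_closure (by simp)
  have hoy : orderOf y = 3 := by
    have : Fact (Nat.Prime 3) := ⟨Nat.prime_three⟩
    apply orderOf_eq_prime _ hy1
    rw [pow_succ, pow_two]; exact hy3
  have hoz : orderOf (x * y) = 4 := by
    have : Fact (Nat.Prime 2) := ⟨Nat.prime_two⟩
    have := orderOf_eq_prime_pow (x := x * y) (p := 2) (n := 1)
      (by rw [pow_one, pow_two]; exact hz2)
      (by
        have e : (x * y) ^ 2 ^ (1 + 1) = (x * y) * (x * y) * (x * y) * (x * y) := by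
          norm_num [pow_succ, mul_assoc]
        rw [e]; exact hz4)
    simpa using this
  have d3 : 3 ∣ Nat.card H := by
    have := orderOf_dvd_card_of_mem hy
    rwa [hoy] at this
  have d4 : 4 ∣ Nat.card H := by
    have := orderOf_dvd_card_of_mem (H.mul_mem hx hy)
    rwa [hoz] at this
  have d12 : 12 ∣ Nat.card H :=
    Nat.Coprime.mul_dvd_of_dvd_of_dvd (by norm_num : Nat.Coprime 4 3) d4 d3
  have hmul := Subgroup.card_mul_index H
  rw [card_S4'] at hmul
  obtain ⟨c, hc⟩ := d12
  have hidx : H.index = 1 ∨ H.index = 2 := by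
    rw [hc] at hmul
    have h2 : c * H.index = 2 := by nlinarith
    have hc0 : c ≠ 0 := by rintro rfl; simp at h2
    have : H.index ∣ 2 := Dvd.intro_left c h2
    rcases (Nat.dvd_prime Nat.prime_two).1 this with h | h
    · exact Or.inl h
    · exact Or.inr h
  rcases hidx with h | h
  · exact Subgroup.index_eq_one.1 h
  · have hn : H.Normal := Subgroup.normal_of_index_eq_two h
    rw [eq_top_iff, ← Equiv.Perm.closure_isSwap, Subgroup.closure_le]
    rintro σ ⟨i, j, hij, rfl⟩
    have hc : IsConj (Equiv.swap (0 : Fin 4) 1) (Equiv.swap i j) :=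
      Equiv.Perm.isConj_swap (by decide) hij
    obtain ⟨c, hc⟩ := isConj_iff.1 hc
    rw [← hc]
    exact hn.conj_mem _ hx c

set_option maxRecDepth 100000 in
theorem gen_A5 : ∃ x y : alternatingGroup (Fin 5), x ≠ 1 ∧ x * x = 1 ∧ y ≠ 1 ∧ y * y * y = 1 ∧
    x * y ≠ 1 ∧ (x * y) * (x * y) * (x * y) * (x * y) * (x * y) = 1 ∧
    Subgroup.closure {x, y} = ⊤ := by
  let x : alternatingGroup (Fin 5) := ⟨Equiv.swap 0 1 * Equiv.swap 2 3, Equiv.Perm.mem_alternatingGroup.2 (by decide)⟩
  let y : alternatingGroup (Fin 5) := ⟨Equiv.swap 0 2 * Equiv.swap 2 4, Equiv.Perm.mem_alternatingGroup.2 (by decide)⟩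
  have hx1 : x ≠ 1 := by decide
  have hx2 : x * x = 1 := by decide
  have hy1 : y ≠ 1 := by decide
  have hy3 : y * y * y = 1 := by decide
  have hz1 : x * y ≠ 1 := by decide
  have hz5 : (x * y) * (x * y) * (x * y) * (x * y) * (x * y) = 1 := by decide
  refine ⟨x, y, hx1, hx2, hy1, hy3, hz1, hz5, ?_⟩
  set H := Subgroup.closure ({x, y} : Set (alternatingGroup (Fin 5))) with hH
  have hx : x ∈ H := Subgroup.subset_closure (by simp)
  have hy : y ∈ H := Subgroup.subset_closure (by simp)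
  have hox : orderOf x = 2 := by
    have : Fact (Nat.Prime 2) := ⟨Nat.prime_two⟩
    apply orderOf_eq_prime _ hx1
    rw [pow_two]; exact hx2
  have hoy : orderOf y = 3 := by
    have : Fact (Nat.Prime 3) := ⟨Nat.prime_three⟩
    apply orderOf_eq_prime _ hy1
    rw [pow_succ, pow_two]; exact hy3
  have hoz : orderOf (x * y) = 5 := by
    have : Fact (Nat.Prime 5) := ⟨by norm_num⟩
    apply orderOf_eq_prime _ hz1
    have e : (x * y) ^ 5 = (x * y) * (x * y) * (x * y) * (x * y) * (x * y) := by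
      simp [pow_succ, mul_assoc]
    rw [e]; exact hz5
  have d2 : 2 ∣ Nat.card H := by
    have := orderOf_dvd_card_of_mem hx
    rwa [hox] at this
  have d3 : 3 ∣ Nat.card H := by
    have := orderOf_dvd_card_of_mem hy
    rwa [hoy] at this
  have d5 : 5 ∣ Nat.card H := by
    have := orderOf_dvd_card_of_mem (H.mul_mem hx hy)
    rwa [hoz] at this
  have d6 : 6 ∣ Nat.card H :=
    Nat.Coprime.mul_dvd_of_dvd_of_dvd (by norm_num : Nat.Coprime 2 3) d2 d3
  have d30 : 30 ∣ Nat.card H :=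
    Nat.Coprime.mul_dvd_of_dvd_of_dvd (by norm_num : Nat.Coprime 6 5) d6 d5
  have hmul := Subgroup.card_mul_index H
  rw [card_A5'] at hmul
  obtain ⟨c, hc⟩ := d30
  have hidx : H.index = 1 ∨ H.index = 2 := by
    rw [hc] at hmul
    have h2 : c * H.index = 2 := by nlinarith
    have : H.index ∣ 2 := Dvd.intro_left c h2
    rcases (Nat.dvd_prime Nat.prime_two).1 this with h | h
    · exact Or.inl h
    · exact Or.inr h
  rcases hidx with h | h
  · exact Subgroup.index_eq_one.1 h
  · have hn : H.Normal := Subgroup.normal_of_index_eq_two h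
    have hs : IsSimpleGroup (alternatingGroup (Fin 5)) := alternatingGroup.isSimpleGroup (by simp)
    rcases hn.eq_bot_or_eq_top with hb | ht
    · exfalso
      apply hx1
      have : x ∈ (⊥ : Subgroup (alternatingGroup (Fin 5))) := hb ▸ hx
      exact Subgroup.mem_bot.1 this
    · exact ht

end Cfsg.Agent.Lib.Helper50_MxGen
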