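import Mathlib

/-!
# Field-theoretic and arithmetic lemmas for the maximal subgroups of `PSL(2,q)` (helper50)
-/

set_option autoImplicit false

namespace Cfsg.Agent.Lib.Helper50_MxNum

open Polynomial

section field

variable {F : Type*} [Field F] [Fintype F]

/-- if every element is a root of `X ^ N - X` then `|F| ≤ N` -/
theorem card_le_of_forall_pow_eq (N : ℕ) (hN : 1 < N) (h : ∀ x : F, x ^ N = x) :
    Fintype.card F ≤ N := by
  classical
  have hne : (X ^ N - X : F[X]) ≠ 0 := FiniteField.X_pow_card_sub_X_ne_zero F hN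
  have := card_le_degree_of_subset_roots (R := F) (p := X ^ N - X) (Z := Finset.univ)
    (fun x _ => by
      rw [mem_roots hne, IsRoot, eval_sub, eval_pow, eval_X, h x, sub_self])
  rw [FiniteField.X_pow_card_sub_X_natDegree_eq F hN] at this
  simpa using this

variable (p : ℕ) [Fact p.Prime] [CharP F p]

omit [Fintype F] in
/-- an element quadratic over the prime field is fixed by the square of the Frobenius -/
theorem frob2 (τ : F) (b c : ℤ) (h : τ * τ = (b : F) * τ + (c : F)) : (τ ^ p) ^ p = τ := by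
  set σ := τ ^ p with hσ
  have hf : ∀ x : F, frobenius F p x = x ^ p := fun x => rfl
  have h1 : σ * σ = (b : F) * σ + (c : F) := by
    have := congrArg (frobenius F p) h
    rw [map_mul, map_add, map_mul, map_intCast, map_intCast, hf] at this
    exact this
  have h2 : (σ - τ) * (σ + τ - (b : F)) = 0 := by linear_combination h1 - h
  rcases mul_eq_zero.1 h2 with h3 | h3
  · have : σ = τ := by linear_combination h3
    rw [this]; exact this
  · have h4 : σ = (b : F) - τ := by linear_combination h3
    have : σ ^ p = frobenius F p ((b : F) - τ) := by rw [hf, ← h4]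
    rw [this, map_sub, map_intCast, hf, ← hσ, h4]
    ring

/-- the fixed field of the square of the Frobenius -/
def K2 : Subfield F :=
  RingHom.eqLocusField ((frobenius F p).comp (frobenius F p)) (RingHom.id F)

omit [Fintype F] in
theorem mem_K2 (x : F) : x ∈ K2 (F := F) p ↔ (x ^ p) ^ p = x := Iff.rfl

theorem card_le_sq_of_K2_eq_top (h : K2 (F := F) p = ⊤) : Fintype.card F ≤ p ^ 2 := by
  have hp : 1 < p := (Fact.out : p.Prime).one_lt
  apply card_le_of_forall_pow_eq (p ^ 2) (by nlinarith)
  intro x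
  have : x ∈ K2 (F := F) p := by rw [h]; exact Subfield.mem_top x
  rw [mem_K2] at this
  rw [pow_two, pow_mul]
  exact this

/-- the order of a finite field of characteristic `p` of order at most `p ^ 2` -/
theorem card_eq_of_le_sq (h : Fintype.card F ≤ p ^ 2) :
    Fintype.card F = p ∨ Fintype.card F = p ^ 2 := by
  obtain ⟨n, -, hn⟩ := FiniteField.card F p
  have hp : 1 < p := (Fact.out : p.Prime).one_lt
  rw [hn] at h ⊢
  have hle : (n : ℕ) ≤ 2 := (Nat.pow_le_pow_iff_right hp).1 h
  have hpos := n.pos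
  have : (n : ℕ) = 1 ∨ (n : ℕ) = 2 := by omega
  rcases this with h1 | h1
  · left; rw [h1, pow_one]
  · right; rw [h1]

/-- the prime field embedding is onto iff `|F| = p` -/
theorem card_eq_of_castHom_surjective
    (h : Function.Surjective (ZMod.castHom (dvd_refl p) F)) : Fintype.card F = p := by
  have hb : Function.Bijective (ZMod.castHom (dvd_refl p) F) :=
    ⟨(ZMod.castHom (dvd_refl p) F).injective, h⟩
  rw [← Fintype.card_of_bijective hb, ZMod.card]

theorem castHom_not_surjective (h : Fintype.card F ≠ p) :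
    ¬ Function.Surjective (ZMod.castHom (dvd_refl p) F) :=
  fun hs => h (card_eq_of_castHom_surjective p hs)

omit [Fintype F] in
/-- if `5` is a square mod `p`, roots of `t² ± t - 1` lie in the prime field -/
theorem mem_range_of_five (hp2 : p ≠ 2) (s : ZMod p) (hs : s * s = 5) (τ : F)
    (h : τ * τ + τ - 1 = 0 ∨ τ * τ - τ - 1 = 0) :
    ∃ c : ZMod p, ZMod.castHom (dvd_refl p) F c = τ := by
  set ι := ZMod.castHom (dvd_refl p) F with hι
  have h2 : (2 : F) ≠ 0 := by
    intro h0
    have : ((2 : ℕ) : F) = 0 := by exact_mod_cast h0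
    rw [CharP.cast_eq_zero_iff F p] at this
    exact hp2 ((Nat.prime_dvd_prime_iff_eq (Fact.out : p.Prime) Nat.prime_two).1 this)
  have h2' : (2 : ZMod p) ≠ 0 := by
    intro h0
    apply h2
    have := congrArg ι h0
    rwa [map_ofNat, map_zero] at this
  have hs' : ι s * ι s = 5 := by rw [← map_mul, hs, map_ofNat]
  rcases h with h | h
  · have : (2 * τ + 1 - ι s) * (2 * τ + 1 + ι s) = 0 := by linear_combination 4 * h - hs'
    rcases mul_eq_zero.1 this with h3 | h3
    · refine ⟨(s - 1) / 2, ?_⟩
      rw [map_div₀, map_sub, map_one, map_ofNat, div_eq_iff h2]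
      linear_combination -h3
    · refine ⟨(-s - 1) / 2, ?_⟩
      rw [map_div₀, map_sub, map_neg, map_one, map_ofNat, div_eq_iff h2]
      linear_combination -h3
  · have : (2 * τ - 1 - ι s) * (2 * τ - 1 + ι s) = 0 := by linear_combination 4 * h - hs'
    rcases mul_eq_zero.1 this with h3 | h3
    · refine ⟨(s + 1) / 2, ?_⟩
      rw [map_div₀, map_add, map_one, map_ofNat, div_eq_iff h2]
      linear_combination -h3
    · refine ⟨(-s + 1) / 2, ?_⟩
      rw [map_div₀, map_add, map_neg, map_one, map_ofNat, div_eq_iff h2]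
      linear_combination -h3

end field

/-- `5` is a square modulo a prime `p ≡ ±1 (mod 10)` -/
theorem exists_sq_five (p : ℕ) [Fact p.Prime] (hp : p % 10 = 1 ∨ p % 10 = 9) :
    ∃ s : ZMod p, s * s = 5 := by
  have h5 : Fact (Nat.Prime 5) := ⟨by norm_num⟩
  have hp2 : p ≠ 2 := by rintro rfl; omega
  have := (ZMod.exists_sq_eq_prime_iff_of_mod_four_eq_one (p := 5) (q := p) (by norm_num) hp2).1
  have hsq : IsSquare ((p : ℕ) : ZMod 5) := by
    have h5' : p % 5 = 1 ∨ p % 5 = 4 := by omega
    rcases h5' with h | h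
    · refine ⟨1, ?_⟩
      have : ((p : ℕ) : ZMod 5) = ((p % 5 : ℕ) : ZMod 5) := by
        rw [ZMod.natCast_mod]
      rw [this, h]; simp
    · refine ⟨2, ?_⟩
      have : ((p : ℕ) : ZMod 5) = ((p % 5 : ℕ) : ZMod 5) := by
        rw [ZMod.natCast_mod]
      rw [this, h]; norm_num
  obtain ⟨s, hs⟩ := this hsq
  refine ⟨s, ?_⟩
  rw [← hs]; norm_num

/-- `k (k² - 1) = 24` forces `k = 3` -/
theorem eq_three_of_mul (k : ℕ) (h : k * (k ^ 2 - 1) = 24) : k = 3 := by
  have hk : k ≤ 4 := by
    by_contra hlt
    push Not at hlt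
    have : 5 * (5 ^ 2 - 1) ≤ k * (k ^ 2 - 1) := by
      apply Nat.mul_le_mul hlt
      apply Nat.sub_le_sub_right
      exact Nat.pow_le_pow_left hlt 2
    omega
  interval_cases k <;> simp_all

theorem not_mul_eq_48 (k : ℕ) (h : k * (k ^ 2 - 1) = 48) : False := by
  have hk : k ≤ 4 := by
    by_contra hlt
    push Not at hlt
    have : 5 * (5 ^ 2 - 1) ≤ k * (k ^ 2 - 1) := by
      apply Nat.mul_le_mul hlt
      apply Nat.sub_le_sub_right
      exact Nat.pow_le_pow_left hlt 2
    omega
  interval_cases k <;> simp_all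

theorem eq_five_of_mul (k : ℕ) (h : k * (k ^ 2 - 1) = 120) : k = 5 := by
  have hk : k ≤ 5 := by
    by_contra hlt
    push Not at hlt
    have : 6 * (6 ^ 2 - 1) ≤ k * (k ^ 2 - 1) := by
      apply Nat.mul_le_mul hlt
      apply Nat.sub_le_sub_right
      exact Nat.pow_le_pow_left hlt 2
    omega
  interval_cases k <;> simp_all

/-- a prime power equal to a prime -/
theorem prime_eq_of_pow_eq {p ℓ n : ℕ} (hp : p.Prime) (hℓ : ℓ.Prime) (h : p ^ n = ℓ) : p = ℓ := by
  have hn : n ≠ 0 := by
    rintro rfl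
    rw [pow_zero] at h
    exact hℓ.one_lt.ne h
  have : p ∣ ℓ := by rw [← h]; exact dvd_pow_self p hn
  exact (Nat.prime_dvd_prime_iff_eq hp hℓ).1 this

end Cfsg.Agent.Lib.Helper50_MxNum
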