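import Mathlib
import Cfsg.Agent.Lib.Helper50_MxExc
import Cfsg.Agent.Lib.Helper50_MxGen
import Cfsg.Agent.Lib.Helper50_MxNum

/-!
# Maximal subgroups of `PSL(2,q)` isomorphic to `A₄`, `S₄`, `A₅`: the field (helper50)

* `A4_field`, `S4_field`: a maximal `A₄` or `S₄` in `PSL(2,q)` (`p ≥ 5`) forces `q = p`;
* `A5_field`: a maximal `A₅` (`p ≠ 2, 5`) forces `q = p`, or `q = p²` with `p ≡ ±3 (mod 10)`;
* `exc_overgroup3`: all `(2,3,3)`-generated subgroups are conjugate under automorphisms.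
-/

set_option autoImplicit false

namespace Cfsg.Agent.Lib.Helper50_MxExc2

open Matrix Cfsg.Agent.Lib.Helper50_SL2Mat Cfsg.Agent.Lib.Helper50_DkPSL
  Cfsg.Agent.Lib.Helper50_DkStruct Cfsg.Agent.Lib.Helper50_MxRigid
  Cfsg.Agent.Lib.Helper50_MxBasic Cfsg.Agent.Lib.Helper50_MxLift
  Cfsg.Agent.Lib.Helper50_MxExc Cfsg.Agent.Lib.Helper50_MxGen Cfsg.Agent.Lib.Helper50_MxNum
open scoped MatrixGroups

/-- transport of a generating pair along an isomorphism -/
theorem transport_pair {G A : Type*} [Group G] [Group A] (M : Subgroup G) (e : M ≃* A) (x0 y0 : A)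
    (hgen : Subgroup.closure {x0, y0} = ⊤) :
    M = Subgroup.closure {((e.symm x0 : M) : G), ((e.symm y0 : M) : G)} := by
  have h1 : Subgroup.closure ({e.symm x0, e.symm y0} : Set M) = ⊤ := by
    have := congrArg (Subgroup.map e.symm.toMonoidHom) hgen
    rw [MonoidHom.map_closure, Subgroup.map_top_of_surjective _ e.symm.surjective] at this
    rw [← this]
    congr 1
    ext z
    simp [Set.image_pair]
  have h2 := congrArg (Subgroup.map M.subtype) h1
  rw [MonoidHom.map_closure, ← MonoidHom.range_eq_map, Subgroup.range_subtype] at h2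
  refine h2.symm.trans ?_
  congr 1
  ext z
  simp [Set.image_pair]

variable {F : Type*} [Field F] [Fintype F] [DecidableEq F]

omit [Fintype F] [DecidableEq F] in
/-- lifting a `(2,3)`-pair -/
theorem lift_pair {x y : Matrix.ProjectiveSpecialLinearGroup (Fin 2) F} (hx1 : x ≠ 1)
    (hx2 : x * x = 1) (hy1 : y ≠ 1) (hy3 : y * y * y = 1) :
    ∃ X Y : SL(2, F), proj X = x ∧ proj Y = y ∧ tr X = 0 ∧ tr Y = -1 := by
  obtain ⟨X, rfl⟩ := proj_surjective x
  obtain ⟨Y, hY, hYt⟩ := exists_lift_three hy1 hy3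
  exact ⟨X, Y, rfl, hY, tr_eq_zero_of_proj_sq hx1 hx2, hYt⟩

variable (p : ℕ) [Fact p.Prime] [CharP F p]

omit [Fintype F] [DecidableEq F] in
theorem two_ne_zero' (hp2 : p ≠ 2) : (2 : F) ≠ 0 := by
  intro h
  have : ((2 : ℕ) : F) = 0 := by exact_mod_cast h
  rw [CharP.cast_eq_zero_iff F p] at this
  exact hp2 ((Nat.prime_dvd_prime_iff_eq (Fact.out : p.Prime) Nat.prime_two).1 this)

/-- **A maximal `A₄` lives over the prime field.** -/
theorem A4_field (hp2 : p ≠ 2) (hp3 : p ≠ 3)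
    (M : Subgroup (Matrix.ProjectiveSpecialLinearGroup (Fin 2) F)) (hM : IsCoatom M)
    (e : M ≃* alternatingGroup (Fin 4)) : Fintype.card F = p := by
  have h2 : (2 : F) ≠ 0 := two_ne_zero' p hp2
  obtain ⟨x4, y4, hx1, hx2, hy1, hy3, hz1, hz3, hgen⟩ := gen_A4
  have hgenM := transport_pair M e x4 y4 hgen
  set x : Matrix.ProjectiveSpecialLinearGroup (Fin 2) F := (e.symm x4 : M).1 with hx
  set y : Matrix.ProjectiveSpecialLinearGroup (Fin 2) F := (e.symm y4 : M).1 with hy
  have ex1 : x ≠ 1 := by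
    intro h
    apply hx1
    have : e.symm x4 = 1 := Subtype.ext h
    exact e.symm.injective (this.trans (map_one _).symm)
  have ex2 : x * x = 1 := by
    have : e.symm x4 * e.symm x4 = 1 := by rw [← map_mul, hx2, map_one]
    exact congrArg Subtype.val this
  have ey1 : y ≠ 1 := by
    intro h
    apply hy1
    have : e.symm y4 = 1 := Subtype.ext h
    exact e.symm.injective (this.trans (map_one _).symm)
  have ey3 : y * y * y = 1 := by
    have : e.symm y4 * e.symm y4 * e.symm y4 = 1 := by rw [← map_mul, ← map_mul, hy3, map_one]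
    exact congrArg Subtype.val this
  have ez1 : x * y ≠ 1 := by
    intro h
    apply hz1
    have : e.symm (x4 * y4) = 1 := by rw [map_mul]; exact Subtype.ext h
    exact e.symm.injective (this.trans (map_one _).symm)
  have ez3 : (x * y) * (x * y) * (x * y) = 1 := by
    have : e.symm ((x4 * y4) * (x4 * y4) * (x4 * y4)) = 1 := by rw [hz3, map_one]
    simp only [map_mul] at this
    exact congrArg Subtype.val this
  obtain ⟨X, Y, hX, hY, hXt, hYt⟩ := lift_pair ex1 ex2 ey1 ey3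
  have hZ : proj (X * Y) = x * y := by rw [map_mul, hX, hY]
  have hτ : tr (X * Y) ^ 2 = 1 := tr_sq_of_proj_cube (by rw [hZ]; exact ez1) (by rw [hZ]; exact ez3)
  have hN : tr Y ^ 2 + tr (X * Y) ^ 2 ≠ 4 := by
    rw [hYt, hτ]
    intro h
    apply h2
    linear_combination (-1 : F) * h
  by_contra hq
  have hι := castHom_not_surjective (F := F) p hq
  have hc : ∃ c : ZMod p, ZMod.castHom (dvd_refl p) F c = tr (X * Y) := by
    have : (tr (X * Y) - 1) * (tr (X * Y) + 1) = 0 := by linear_combination hτ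
    rcases mul_eq_zero.1 this with h | h
    · exact ⟨1, by rw [map_one]; linear_combination -h⟩
    · exact ⟨-1, by rw [map_neg, map_one]; linear_combination -h⟩
  obtain ⟨c, hc⟩ := hc
  have := exc_subfield h2 M hM X Y (by rw [hX, hY]; exact hgenM) hXt hN
    (ZMod.castHom (dvd_refl p) F) hι (-1) c (by rw [map_neg, map_one, hYt]) hc
  rw [ZMod.card, Nat.card_congr e.toEquiv, card_A4'] at this
  exact hp3 (eq_three_of_mul p this)


section transport

variable {G A : Type*} [Group G] [Group A] {M : Subgroup G}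

theorem coe_symm_eq_one_iff (e : M ≃* A) (w : A) : ((e.symm w : M) : G) = 1 ↔ w = 1 := by
  constructor
  · intro h
    have : e.symm w = 1 := Subtype.ext h
    exact e.symm.injective (this.trans (map_one _).symm)
  · rintro rfl
    rw [map_one]; rfl

theorem coe_symm_mul (e : M ≃* A) (v w : A) :
    ((e.symm (v * w) : M) : G) = ((e.symm v : M) : G) * ((e.symm w : M) : G) := by
  rw [map_mul]; rfl

end transport

omit [DecidableEq F] [Fintype F] in
/-- a `(2,3)`-generating pair of `A ≅ M` lifted to `SL(2,F)` -/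
theorem exists_lifted_pair {A : Type*} [Group A]
    (M : Subgroup (Matrix.ProjectiveSpecialLinearGroup (Fin 2) F)) (e : M ≃* A) (x0 y0 : A)
    (hx1 : x0 ≠ 1) (hx2 : x0 * x0 = 1) (hy1 : y0 ≠ 1) (hy3 : y0 * y0 * y0 = 1)
    (hgen : Subgroup.closure {x0, y0} = ⊤) :
    ∃ X Y : SL(2, F), M = Subgroup.closure {proj X, proj Y} ∧ tr X = 0 ∧ tr Y = -1 ∧
      proj X = ((e.symm x0 : M) : Matrix.ProjectiveSpecialLinearGroup (Fin 2) F) ∧
      proj Y = ((e.symm y0 : M) : Matrix.ProjectiveSpecialLinearGroup (Fin 2) F) := by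
  have hgenM := transport_pair M e x0 y0 hgen
  have ex1 : ((e.symm x0 : M) : Matrix.ProjectiveSpecialLinearGroup (Fin 2) F) ≠ 1 :=
    fun h => hx1 ((coe_symm_eq_one_iff e x0).1 h)
  have ex2 : ((e.symm x0 : M) : Matrix.ProjectiveSpecialLinearGroup (Fin 2) F) *
      ((e.symm x0 : M) : Matrix.ProjectiveSpecialLinearGroup (Fin 2) F) = 1 := by
    rw [← coe_symm_mul, hx2, map_one]; rfl
  have ey1 : ((e.symm y0 : M) : Matrix.ProjectiveSpecialLinearGroup (Fin 2) F) ≠ 1 :=
    fun h => hy1 ((coe_symm_eq_one_iff e y0).1 h)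
  have ey3 : ((e.symm y0 : M) : Matrix.ProjectiveSpecialLinearGroup (Fin 2) F) *
      ((e.symm y0 : M) : Matrix.ProjectiveSpecialLinearGroup (Fin 2) F) *
      ((e.symm y0 : M) : Matrix.ProjectiveSpecialLinearGroup (Fin 2) F) = 1 := by
    rw [← coe_symm_mul, ← coe_symm_mul, hy3, map_one]; rfl
  obtain ⟨X, Y, hX, hY, hXt, hYt⟩ := lift_pair ex1 ex2 ey1 ey3
  exact ⟨X, Y, by rw [hX, hY]; exact hgenM, hXt, hYt, hX, hY⟩

omit [Fintype F] [DecidableEq F] [Field F] [CharP F p] in
theorem five_le_of_prime (hp2 : p ≠ 2) (hp3 : p ≠ 3) : 5 ≤ p := by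
  have hp := (Fact.out : p.Prime)
  by_contra hlt
  push Not at hlt
  have h2le := hp.two_le
  have : p = 4 := by omega
  rw [this] at hp
  exact absurd hp (by norm_num)

omit [Fintype F] [DecidableEq F] [Fact p.Prime] [CharP F p] in
theorem tr_mk_mul_mk (a b c d a1 b1 c1 d1 : F) (h h1) :
    tr (mk a b c d h * mk a1 b1 c1 d1 h1) = a * a1 + b * c1 + (c * b1 + d * d1) := by
  simp only [tr, mul00, mul11, mk00, mk01, mk10, mk11]

/-- **A maximal `S₄` lives over the prime field.** -/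
theorem S4_field (hp2 : p ≠ 2) (hp3 : p ≠ 3)
    (M : Subgroup (Matrix.ProjectiveSpecialLinearGroup (Fin 2) F)) (hM : IsCoatom M)
    (e : M ≃* Equiv.Perm (Fin 4)) : Fintype.card F = p := by
  have h2 : (2 : F) ≠ 0 := two_ne_zero' p hp2
  have hp5 : 5 ≤ p := five_le_of_prime p hp2 hp3
  obtain ⟨x4, y4, hx1, hx2, hy1, hy3, hz2, hz4, hgen⟩ := gen_S4
  obtain ⟨X, Y, hgenM, hXt, hYt, hX, hY⟩ := exists_lifted_pair M e x4 y4 hx1 hx2 hy1 hy3 hgen
  have hZ : proj (X * Y) = ((e.symm (x4 * y4) : M) :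
      Matrix.ProjectiveSpecialLinearGroup (Fin 2) F) := by
    rw [map_mul, hX, hY, coe_symm_mul]
  have hτ : tr (X * Y) ^ 2 = 2 := by
    apply tr_sq_of_proj_four
    · rw [hZ, ← coe_symm_mul]
      exact fun h => hz2 ((coe_symm_eq_one_iff e _).1 h)
    · rw [hZ, ← coe_symm_mul, ← coe_symm_mul, ← coe_symm_mul, hz4, map_one]; rfl
  have hN : tr Y ^ 2 + tr (X * Y) ^ 2 ≠ 4 := by
    rw [hYt, hτ]
    intro h
    apply one_ne_zero (α := F)
    linear_combination (-1 : F) * h
  have hcM : Nat.card M = 24 := by rw [Nat.card_congr e.toEquiv, card_S4']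
  -- the trace lies in the field with `p²` elements
  have hK2mem : tr (X * Y) ∈ K2 (F := F) p := by
    rw [mem_K2]
    apply frob2 p (tr (X * Y)) 0 2
    push_cast
    linear_combination hτ
  by_contra hq
  have hK2top : K2 (F := F) p = ⊤ := by
    by_contra hne
    have : Fintype (K2 (F := F) p) := Fintype.ofFinite _
    have hι : ¬ Function.Surjective (K2 (F := F) p).subtype := by
      intro hs
      apply hne
      rw [eq_top_iff]
      intro x _
      obtain ⟨y, rfl⟩ := hs x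
      exact y.2
    have := exc_subfield h2 M hM X Y hgenM hXt hN (K2 (F := F) p).subtype hι (-1)
      ⟨tr (X * Y), hK2mem⟩ (by rw [map_neg, map_one, hYt]) rfl
    rw [hcM] at this
    exact not_mul_eq_48 _ this
  have hq2 : Fintype.card F = p ^ 2 := by
    rcases card_eq_of_le_sq p (card_le_sq_of_K2_eq_top p hK2top) with h | h
    · exact absurd h hq
    · exact h
  have hι := castHom_not_surjective (F := F) p hq
  set ι := ZMod.castHom (dvd_refl p) F with hιdef
  by_cases hc : ∃ c : ZMod p, ι c = tr (X * Y)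
  · obtain ⟨c, hc⟩ := hc
    have := exc_subfield h2 M hM X Y hgenM hXt hN ι hι (-1) c
      (by rw [map_neg, map_one, hYt]) hc
    rw [ZMod.card, hcM] at this
    exact not_mul_eq_48 _ this
  · -- the model pair inside `N0 ι`
    set τ := tr (X * Y) with hτdef
    have hτ0 : τ ≠ 0 := by
      intro h
      rw [h] at hτ
      apply h2
      rw [← hτ]; ring
    have h2p : (2 : ZMod p) ≠ 0 := by
      intro h
      apply h2
      have := congrArg ι h
      rwa [map_ofNat, map_zero] at this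
    have hcardp : Fintype.card (ZMod p) % 2 = 1 := by
      rw [ZMod.card]
      rcases (Fact.out : p.Prime).eq_two_or_odd with h | h
      · exact absurd h hp2
      · exact h
    obtain ⟨a0, c0, hac⟩ := FiniteField.exists_root_sum_quadratic
      (f := Polynomial.X ^ 2 + Polynomial.X + 1)
      (g := Polynomial.C (2 : ZMod p) * Polynomial.X ^ 2 + Polynomial.C (2 : ZMod p) * Polynomial.X)
      (by compute_degree!) (by compute_degree!) hcardp
    simp only [Polynomial.eval_add, Polynomial.eval_pow, Polynomial.eval_X, Polynomial.eval_one,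
      Polynomial.eval_mul, Polynomial.eval_C] at hac
    have hac' : ι a0 ^ 2 + ι a0 + 1 + (2 * ι c0 ^ 2 + 2 * ι c0) = 0 := by
      have := congrArg ι hac
      simpa only [map_add, map_mul, map_pow, map_one, map_ofNat, map_zero] using this
    set a' : SL(2, F) := mk 0 (-τ) (τ / 2) 0 (by
      field_simp
      linear_combination hτ) with ha'
    set Y' : SL(2, F) := mk (ι a0) (2 + 2 * ι c0) (ι c0) (-1 - ι a0) (by
      linear_combination (-1 : F) * hac') with hY'
    have hmemι : ∀ n : ZMod p, ι n ∈ Set.range ι := fun n => ⟨n, rfl⟩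
    have ha'N : a' ∈ Cfsg.Agent.Lib.Helper51_SL2SubMax2.N0 ι := by
      refine ⟨τ, hτ0, ⟨2, by rw [map_ofNat]; linear_combination -hτ⟩, ?_⟩
      intro i j
      fin_cases i <;> fin_cases j
      · exact ⟨0, ⟨0, map_zero ι⟩, by simp [ha']⟩
      · exact ⟨-1, ⟨-1, by rw [map_neg, map_one]⟩, by simp [ha']⟩
      · refine ⟨1 / 2, ⟨1 / 2, by rw [map_div₀, map_one, map_ofNat]⟩, ?_⟩
        simp [ha']
        ring
      · exact ⟨0, ⟨0, map_zero ι⟩, by simp [ha']⟩
    have hY'N : Y' ∈ Cfsg.Agent.Lib.Helper51_SL2SubMax2.N0 ι := by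
      apply Cfsg.Agent.Lib.Helper51_SL2SubMax2.S0_le_N0
      rw [Cfsg.Agent.Lib.Helper51_SL2SubMax.mem_S0_iff]
      intro i j
      fin_cases i <;> fin_cases j
      · exact ⟨a0, by simp [hY']⟩
      · exact ⟨2 + 2 * c0, by simp [hY', map_ofNat]⟩
      · exact ⟨c0, by simp [hY']⟩
      · exact ⟨-1 - a0, by simp [hY']⟩
    have hcN := exc_general h2 M hM X Y hgenM hXt hN (Cfsg.Agent.Lib.Helper51_SL2SubMax2.N0 ι)
      (Cfsg.Agent.Lib.Helper51_SL2SubMax2.S0_le_N0 ι (negOne_mem_S0 ι)) (N0_ne_top ι hι) a' Y'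
      ha'N hY'N (by simp [tr, ha']) (by rw [hYt]; simp [tr, hY'])
      (by
        have : tr (a' * Y') = τ := by
          rw [tr_mk_mul_mk]
          field_simp
          ring
        exact this)
    rw [hcM] at hcN
    have hdvd : Nat.card (Cfsg.Agent.Lib.Helper51_SL2SubMax.S0 ι) ∣
        Nat.card (Cfsg.Agent.Lib.Helper51_SL2SubMax2.N0 ι) :=
      Subgroup.card_dvd_of_le (Cfsg.Agent.Lib.Helper51_SL2SubMax2.S0_le_N0 ι)
    rw [Cfsg.Agent.Lib.Helper51_SL2SubMax2.card_S0, ZMod.card, hcN] at hdvd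
    have hle := Nat.le_of_dvd (by norm_num) hdvd
    have h1 : 5 * (5 ^ 2 - 1) ≤ p * (p ^ 2 - 1) :=
      Nat.mul_le_mul hp5 (Nat.sub_le_sub_right (Nat.pow_le_pow_left hp5 2) 1)
    omega


/-- **A maximal `A₅`** (`p ≠ 2, 5`) forces `q = p`, or `q = p²` with `p ≡ ±3 (mod 10)`. -/
theorem A5_field (hp2 : p ≠ 2) (hp5 : p ≠ 5)
    (M : Subgroup (Matrix.ProjectiveSpecialLinearGroup (Fin 2) F)) (hM : IsCoatom M)
    (e : M ≃* alternatingGroup (Fin 5)) :
    Fintype.card F = p ∨ (Fintype.card F = p ^ 2 ∧ (p % 10 = 3 ∨ p % 10 = 7)) := by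
  have h2 : (2 : F) ≠ 0 := two_ne_zero' p hp2
  have hpp := (Fact.out : p.Prime)
  obtain ⟨x5, y5, hx1, hx2, hy1, hy3, hz1, hz5, hgen⟩ := gen_A5
  obtain ⟨X, Y, hgenM, hXt, hYt, hX, hY⟩ := exists_lifted_pair M e x5 y5 hx1 hx2 hy1 hy3 hgen
  have hZ : proj (X * Y) = ((e.symm (x5 * y5) : M) :
      Matrix.ProjectiveSpecialLinearGroup (Fin 2) F) := by
    rw [map_mul, hX, hY, coe_symm_mul]
  have hτ : tr (X * Y) ^ 4 - 3 * tr (X * Y) ^ 2 + 1 = 0 := by
    apply tr_of_proj_five
    · rw [hZ]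
      exact fun h => hz1 ((coe_symm_eq_one_iff e _).1 h)
    · rw [hZ, ← coe_symm_mul, ← coe_symm_mul, ← coe_symm_mul, ← coe_symm_mul, hz5, map_one]; rfl
  set τ := tr (X * Y) with hτdef
  have hN : tr Y ^ 2 + τ ^ 2 ≠ 4 := by
    rw [hYt]
    intro h
    have h3 : τ ^ 2 = 3 := by linear_combination h
    apply one_ne_zero (α := F)
    have : τ ^ 4 = 9 := by
      have : τ ^ 4 = (τ ^ 2) ^ 2 := by ring
      rw [this, h3]; norm_num
    linear_combination hτ - this + 3 * h3
  have hcM : Nat.card M = 60 := by rw [Nat.card_congr e.toEquiv, card_A5']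
  have hfac : (τ * τ - τ - 1) * (τ * τ + τ - 1) = 0 := by linear_combination hτ
  have hquad : τ * τ + τ - 1 = 0 ∨ τ * τ - τ - 1 = 0 := by
    rcases mul_eq_zero.1 hfac with h | h
    · right; exact h
    · left; exact h
  have hK2mem : τ ∈ K2 (F := F) p := by
    rw [mem_K2]
    rcases hquad with h | h
    · apply frob2 p τ (-1) 1
      push_cast
      linear_combination h
    · apply frob2 p τ 1 1
      push_cast
      linear_combination h
  have hK2top : K2 (F := F) p = ⊤ := by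
    by_contra hne
    have : Fintype (K2 (F := F) p) := Fintype.ofFinite _
    have hι : ¬ Function.Surjective (K2 (F := F) p).subtype := by
      intro hs
      apply hne
      rw [eq_top_iff]
      intro x _
      obtain ⟨y, rfl⟩ := hs x
      exact y.2
    have := exc_subfield h2 M hM X Y hgenM hXt hN (K2 (F := F) p).subtype hι (-1)
      ⟨τ, hK2mem⟩ (by rw [map_neg, map_one, hYt]) rfl
    rw [hcM] at this
    have h5 : Fintype.card (K2 (F := F) p) = 5 := eq_five_of_mul _ this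
    have h0 : ((Fintype.card (K2 (F := F) p) : ℕ) : K2 (F := F) p) = 0 := Nat.cast_card_eq_zero _
    rw [h5] at h0
    have h0' : ((5 : ℕ) : F) = 0 := by
      have := congrArg (K2 (F := F) p).subtype h0
      rwa [map_natCast, map_zero] at this
    rw [CharP.cast_eq_zero_iff F p] at h0'
    exact hp5 ((Nat.prime_dvd_prime_iff_eq hpp (by norm_num)).1 h0')
  rcases card_eq_of_le_sq p (card_le_sq_of_K2_eq_top p hK2top) with hq | hq
  · left; exact hq
  · right
    refine ⟨hq, ?_⟩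
    have hodd : p % 2 = 1 := by
      rcases hpp.eq_two_or_odd with h | h
      · exact absurd h hp2
      · exact h
    have h5 : p % 5 ≠ 0 := by
      intro h
      exact hp5 ((Nat.prime_dvd_prime_iff_eq (by norm_num) hpp).1 (Nat.dvd_of_mod_eq_zero h)).symm
    by_contra hcon
    have h19 : p % 10 = 1 ∨ p % 10 = 9 := by omega
    obtain ⟨s, hs⟩ := exists_sq_five p h19
    obtain ⟨c, hc⟩ := mem_range_of_five (F := F) p hp2 s hs τ hquad
    have hqp : Fintype.card F ≠ p := by
      rw [hq]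
      intro h
      have h1 : p * p = p * 1 := by rw [mul_one, ← sq]; exact h
      have := Nat.eq_of_mul_eq_mul_left hpp.pos h1
      exact hpp.one_lt.ne' this
    have := exc_subfield h2 M hM X Y hgenM hXt hN (ZMod.castHom (dvd_refl p) F)
      (castHom_not_surjective (F := F) p hqp) (-1) c (by rw [map_neg, map_one, hYt]) hc
    rw [ZMod.card, hcM] at this
    exact hp5 (eq_five_of_mul p this)


omit [Fact p.Prime] [CharP F p] in
/-- a proper subgroup containing a pair with the traces (up to sign) of the rigid generating pair of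
a maximal subgroup `M` has the order of `M` -/
theorem exc_overgroup (h2 : (2 : F) ≠ 0)
    (M : Subgroup (Matrix.ProjectiveSpecialLinearGroup (Fin 2) F)) (hM : IsCoatom M)
    (X Y : SL(2, F)) (hgen : M = Subgroup.closure {proj X, proj Y})
    (hX : tr X = 0) (hN : tr Y ^ 2 + tr (X * Y) ^ 2 ≠ 4)
    (H : Subgroup (Matrix.ProjectiveSpecialLinearGroup (Fin 2) F)) (hH : H ≠ ⊤)
    (X' Y' : SL(2, F)) (hX'H : proj X' ∈ H) (hY'H : proj Y' ∈ H) (hX' : tr X' = 0)
    (hY' : tr Y' = tr Y) (hXY' : tr (X' * Y') = tr (X * Y) ∨ tr (X' * Y') = -tr (X * Y)) :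
    Nat.card H = Nat.card M := by
  set S := H.comap proj with hS
  have hneg : negOne ∈ S := by
    show proj negOne ∈ H
    rw [(proj_eq_one_iff negOne).2 isScalar_negOne]
    exact H.one_mem
  have hmap : S.map proj = H := Subgroup.map_comap_eq_self_of_surjective proj_surjective H
  have hStop : S ≠ ⊤ := by
    intro htop
    apply hH
    rw [← hmap, htop, ← MonoidHom.range_eq_map]
    exact MonoidHom.range_eq_top.2 proj_surjective
  have hcS : Nat.card S = 2 * Nat.card H := by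
    rw [card_map_proj h2 S hneg, hmap]
  have hY'S : Y' ∈ S := hY'H
  have key : Nat.card S = 2 * Nat.card M := by
    rcases hXY' with h | h
    · exact exc_general h2 M hM X Y hgen hX hN S hneg hStop X' Y' hX'H hY'S hX' hY' h
    · refine exc_general h2 M hM X Y hgen hX hN S hneg hStop (negOne * X') Y' ?_ hY'S ?_ hY' ?_
      · exact S.mul_mem hneg hX'H
      · rw [tr_negOne_mul, hX', neg_zero]
      · rw [mul_assoc, tr_negOne_mul, h, neg_neg]
  omega

/-- a maximal `A₄` is not contained in a proper subgroup of another order containing a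
`(2,3,3)`-triple -/
theorem A4_excl (hp2 : p ≠ 2)
    (M : Subgroup (Matrix.ProjectiveSpecialLinearGroup (Fin 2) F)) (hM : IsCoatom M)
    (e : M ≃* alternatingGroup (Fin 4))
    (H : Subgroup (Matrix.ProjectiveSpecialLinearGroup (Fin 2) F)) (hH : H ≠ ⊤)
    (hcard : Nat.card H ≠ 12)
    (x' y' : Matrix.ProjectiveSpecialLinearGroup (Fin 2) F) (hx'H : x' ∈ H) (hy'H : y' ∈ H)
    (hx1 : x' ≠ 1) (hx2 : x' * x' = 1) (hy1 : y' ≠ 1) (hy3 : y' * y' * y' = 1)
    (hz1 : x' * y' ≠ 1) (hz3 : (x' * y') * (x' * y') * (x' * y') = 1) : False := by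
  have h2 : (2 : F) ≠ 0 := two_ne_zero' p hp2
  obtain ⟨x4, y4, gx1, gx2, gy1, gy3, gz1, gz3, hgen⟩ := gen_A4
  obtain ⟨X, Y, hgenM, hXt, hYt, hX, hY⟩ := exists_lifted_pair M e x4 y4 gx1 gx2 gy1 gy3 hgen
  have hZ : proj (X * Y) = ((e.symm (x4 * y4) : M) :
      Matrix.ProjectiveSpecialLinearGroup (Fin 2) F) := by
    rw [map_mul, hX, hY, coe_symm_mul]
  have hτ : tr (X * Y) ^ 2 = 1 := by
    apply tr_sq_of_proj_cube
    · rw [hZ]
      exact fun h => gz1 ((coe_symm_eq_one_iff e _).1 h)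
    · rw [hZ, ← coe_symm_mul, ← coe_symm_mul, gz3, map_one]; rfl
  have hN : tr Y ^ 2 + tr (X * Y) ^ 2 ≠ 4 := by
    rw [hYt, hτ]
    intro h
    apply h2
    linear_combination (-1 : F) * h
  obtain ⟨X', Y', hX', hY', hXt', hYt'⟩ := lift_pair hx1 hx2 hy1 hy3
  have hZ' : proj (X' * Y') = x' * y' := by rw [map_mul, hX', hY']
  have hτ' : tr (X' * Y') ^ 2 = 1 :=
    tr_sq_of_proj_cube (by rw [hZ']; exact hz1) (by rw [hZ']; exact hz3)
  have hpm : tr (X' * Y') = tr (X * Y) ∨ tr (X' * Y') = -tr (X * Y) := by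
    have : (tr (X' * Y') - tr (X * Y)) * (tr (X' * Y') + tr (X * Y)) = 0 := by
      linear_combination hτ' - hτ
    rcases mul_eq_zero.1 this with h | h
    · left; linear_combination h
    · right; linear_combination h
  have := exc_overgroup h2 M hM X Y hgenM hXt hN H hH X' Y' (by rw [hX']; exact hx'H)
    (by rw [hY']; exact hy'H) hXt' (by rw [hYt', hYt]) hpm
  rw [Nat.card_congr e.toEquiv, card_A4'] at this
  exact hcard this

set_option maxRecDepth 100000 in
/-- a `(2,3,3)`-triple in `S₄` -/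
theorem triple_S4 : ∃ x y : Equiv.Perm (Fin 4), x ≠ 1 ∧ x * x = 1 ∧ y ≠ 1 ∧ y * y * y = 1 ∧
    x * y ≠ 1 ∧ (x * y) * (x * y) * (x * y) = 1 :=
  ⟨Equiv.swap 0 1 * Equiv.swap 2 3, Equiv.swap 0 1 * Equiv.swap 1 2, by decide, by decide,
    by decide, by decide, by decide, by decide⟩

set_option maxRecDepth 100000 in
/-- a `(2,3,3)`-triple in `A₅` -/
theorem triple_A5 : ∃ x y : alternatingGroup (Fin 5), x ≠ 1 ∧ x * x = 1 ∧ y ≠ 1 ∧ y * y * y = 1 ∧
    x * y ≠ 1 ∧ (x * y) * (x * y) * (x * y) = 1 :=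
  ⟨⟨Equiv.swap 0 1 * Equiv.swap 2 3, Equiv.Perm.mem_alternatingGroup.2 (by decide)⟩,
    ⟨Equiv.swap 0 1 * Equiv.swap 1 2, Equiv.Perm.mem_alternatingGroup.2 (by decide)⟩,
    by decide, by decide, by decide, by decide, by decide, by decide⟩

/-- a maximal `A₄` excludes subgroups isomorphic to a group `B` of order `≠ 12` with a
`(2,3,3)`-triple -/
theorem A4_excl_iso (hp2 : p ≠ 2)
    (M : Subgroup (Matrix.ProjectiveSpecialLinearGroup (Fin 2) F)) (hM : IsCoatom M)
    (e : M ≃* alternatingGroup (Fin 4)) {B : Type*} [Group B]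
    (hB : ∃ x y : B, x ≠ 1 ∧ x * x = 1 ∧ y ≠ 1 ∧ y * y * y = 1 ∧
      x * y ≠ 1 ∧ (x * y) * (x * y) * (x * y) = 1)
    (hcB : Nat.card B ≠ 12) (hcB' : Nat.card B ≠ Nat.card (Matrix.ProjectiveSpecialLinearGroup (Fin 2) F))
    (H : Subgroup (Matrix.ProjectiveSpecialLinearGroup (Fin 2) F)) (f : H ≃* B) : False := by
  obtain ⟨x, y, hx1, hx2, hy1, hy3, hz1, hz3⟩ := hB
  have hH : H ≠ ⊤ := by
    intro h
    apply hcB'
    rw [← Nat.card_congr f.toEquiv, h, Subgroup.card_top]
  apply A4_excl p hp2 M hM e H hH (by rw [Nat.card_congr f.toEquiv]; exact hcB)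
    ((f.symm x : H) : Matrix.ProjectiveSpecialLinearGroup (Fin 2) F)
    ((f.symm y : H) : Matrix.ProjectiveSpecialLinearGroup (Fin 2) F) (f.symm x).2 (f.symm y).2
  · exact fun h => hx1 ((coe_symm_eq_one_iff f x).1 h)
  · rw [← coe_symm_mul, hx2, map_one]; rfl
  · exact fun h => hy1 ((coe_symm_eq_one_iff f y).1 h)
  · rw [← coe_symm_mul, ← coe_symm_mul, hy3, map_one]; rfl
  · rw [← coe_symm_mul]
    exact fun h => hz1 ((coe_symm_eq_one_iff f _).1 h)
  · rw [← coe_symm_mul, ← coe_symm_mul, ← coe_symm_mul, hz3, map_one]; rfl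

end Cfsg.Agent.Lib.Helper50_MxExc2
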