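import Cfsg.Agent.Lib.Helper51_SL2SubMax2

/-!
# The isomorphism type of a subgroup in the good case of the engine

For `M ≤ SL(2,F)` with `Good M` (see `Helper51_SL2Sub`), `A = AA M` is a subfield; `M` is either the
subfield subgroup `S0 ι` or its normaliser `N0 ι` (`ι : A → F` the inclusion), and the image of `M`
in `PSL(2,F)` is isomorphic to `PSL(2,A)` or `PGL(2,A)`.
-/

set_option autoImplicit false

namespace Cfsg.Agent.Lib.Helper51_SL2SubIso

open Matrix Cfsg.Agent.Lib.Helper50_SL2Mat Cfsg.Agent.Lib.Helper51_SL2Sub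
  Cfsg.Agent.Lib.Helper51_SL2SubMax Cfsg.Agent.Lib.Helper51_SL2SubMax2
  Cfsg.Agent.Lib.Helper41_Subfield
open scoped MatrixGroups

variable {F : Type*} [Field F] {M : Subgroup SL(2, F)}

/-- the subfield `A = AA M` -/
def subf (hG : Good M) : Subfield F where
  carrier := AA M
  mul_mem' := fun {_ _} hx hy => hG.mul_mem _ hx _ hy
  one_mem' := hG.one_mem
  add_mem' := fun {_ _} hx hy => AA_add hx hy
  zero_mem' := AA_zero
  neg_mem' := fun {_} hx => AA_neg hx
  inv_mem' := fun x hx => hG.inv_mem x hx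

theorem range_subtype (hG : Good M) : Set.range (subf hG).subtype = AA M := by
  ext x
  constructor
  · rintro ⟨y, rfl⟩
    exact y.2
  · intro hx
    exact ⟨⟨x, hx⟩, rfl⟩

theorem S0_le (hG : Good M) : S0 (subf hG).subtype ≤ M := by
  intro g hg
  rw [mem_S0_iff, range_subtype] at hg
  exact hG.sl_le g hg

theorem le_N0 (hG : Good M) : M ≤ N0 (subf hG).subtype := by
  intro g hg
  rw [mem_N0, range_subtype]
  exact hG.entries g hg


section general

variable {K : Type*} [Field K] [Fintype K]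

omit [Fintype K] in
theorem ringChar_ne_two (ι : K →+* F) (h2 : (2 : F) ≠ 0) : ringChar K ≠ 2 := by
  intro h
  apply h2
  have : ((ringChar K : ℕ) : K) = 0 := ringChar.Nat.cast_ringChar
  rw [h] at this
  have h2K : (2 : K) = 0 := by exact_mod_cast this
  rw [← map_ofNat ι 2, h2K, map_zero]

omit [Fintype K] in
/-- an element of `F` with square in `K` and square root in `K` lies in `K` -/
theorem mem_range_of_sq_eq (ι : K →+* F) {a : F} {e : K} (h : a * a = ι (e * e)) :
    a ∈ Set.range ι := by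
  have : (a - ι e) * (a + ι e) = 0 := by rw [map_mul] at h; linear_combination h
  rcases mul_eq_zero.1 this with h1 | h1
  · exact ⟨e, by linear_combination -h1⟩
  · exact ⟨-e, by rw [map_neg]; linear_combination -h1⟩

/-- the product of two "new" square roots lies in `K` -/
theorem mul_mem_range (ι : K →+* F) (h2 : (2 : F) ≠ 0) {a b : F} (ha : a * a ∈ Set.range ι)
    (hb : b * b ∈ Set.range ι) (ha' : a ∉ Set.range ι) (hb' : b ∉ Set.range ι) :
    a * b ∈ Set.range ι := by
  classical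
  obtain ⟨c, hc⟩ := ha
  obtain ⟨d, hd⟩ := hb
  have hK2 := ringChar_ne_two ι h2
  have hc0 : c ≠ 0 := by
    rintro rfl
    rw [map_zero] at hc
    have : a = 0 := by
      rcases mul_eq_zero.1 hc.symm with h | h <;> exact h
    exact ha' ⟨0, by rw [map_zero, this]⟩
  have hd0 : d ≠ 0 := by
    rintro rfl
    rw [map_zero] at hd
    have : b = 0 := by
      rcases mul_eq_zero.1 hd.symm with h | h <;> exact h
    exact hb' ⟨0, by rw [map_zero, this]⟩
  have hcs : ¬ IsSquare c := by
    rintro ⟨e, he⟩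
    exact ha' (mem_range_of_sq_eq ι (by rw [← hc, he]))
  have hds : ¬ IsSquare d := by
    rintro ⟨e, he⟩
    exact hb' (mem_range_of_sq_eq ι (by rw [← hd, he]))
  have hc1 : c ^ (Fintype.card K / 2) = -1 := by
    rcases FiniteField.pow_dichotomy hK2 hc0 with h | h
    · exact absurd ((FiniteField.isSquare_iff hK2 hc0).2 h) hcs
    · exact h
  have hd1 : d ^ (Fintype.card K / 2) = -1 := by
    rcases FiniteField.pow_dichotomy hK2 hd0 with h | h
    · exact absurd ((FiniteField.isSquare_iff hK2 hd0).2 h) hds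
    · exact h
  have hcd : IsSquare (c * d) := by
    rw [FiniteField.isSquare_iff hK2 (mul_ne_zero hc0 hd0), mul_pow, hc1, hd1]
    ring
  obtain ⟨e, he⟩ := hcd
  apply mem_range_of_sq_eq ι (e := e)
  rw [← he, map_mul, hc, hd]
  ring

/-- between the subfield subgroup and its normaliser there is nothing else -/
theorem N0_cases (ι : K →+* F) (h2 : (2 : F) ≠ 0) (M : Subgroup SL(2, F)) (h1 : S0 ι ≤ M)
    (h3 : M ≤ N0 ι) : M = S0 ι ∨ M = N0 ι := by
  by_cases hM : M ≤ S0 ι
  · left; exact le_antisymm hM h1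
  right
  apply le_antisymm h3
  obtain ⟨g, hgM, hgS⟩ := SetLike.not_le_iff_exists.1 hM
  obtain ⟨a, ha0, haa, hg⟩ := h3 hgM
  have ha' : a ∉ Set.range ι := by
    rintro ⟨a', rfl⟩
    apply hgS
    rw [mem_S0_iff]
    intro i j
    obtain ⟨_, ⟨t, rfl⟩, e⟩ := hg i j
    exact ⟨a' * t, by rw [map_mul, e]⟩
  intro n hn
  obtain ⟨b, hb0, hbb, hnent⟩ := hn
  by_cases hb' : b ∈ Set.range ι
  · obtain ⟨b', rfl⟩ := hb'
    apply h1
    rw [mem_S0_iff]
    intro i j
    obtain ⟨_, ⟨t, rfl⟩, e⟩ := hnent i j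
    exact ⟨b' * t, by rw [map_mul, e]⟩
  · obtain ⟨ab, hab⟩ := mul_mem_range ι h2 haa hbb ha' hb'
    obtain ⟨_, ⟨g00, rfl⟩, e00⟩ := hg 0 0
    obtain ⟨_, ⟨g01, rfl⟩, e01⟩ := hg 0 1
    obtain ⟨_, ⟨g10, rfl⟩, e10⟩ := hg 1 0
    obtain ⟨_, ⟨g11, rfl⟩, e11⟩ := hg 1 1
    obtain ⟨_, ⟨n00, rfl⟩, f00⟩ := hnent 0 0
    obtain ⟨_, ⟨n01, rfl⟩, f01⟩ := hnent 0 1
    obtain ⟨_, ⟨n10, rfl⟩, f10⟩ := hnent 1 0
    obtain ⟨_, ⟨n11, rfl⟩, f11⟩ := hnent 1 1
    have hng : n * g⁻¹ ∈ S0 ι := by
      rw [mem_S0_iff]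
      intro i j
      fin_cases i <;> fin_cases j
      · refine ⟨ab * (n00 * g11 - n01 * g10), ?_⟩
        show _ = (n * g⁻¹ : SL(2, F)) 0 0
        rw [mul00, inv00, inv10, f00, f01, e11, e10, map_mul, map_sub, map_mul, map_mul, hab]
        ring
      · refine ⟨ab * (n01 * g00 - n00 * g01), ?_⟩
        show _ = (n * g⁻¹ : SL(2, F)) 0 1
        rw [mul01, inv01, inv11, f00, f01, e01, e00, map_mul, map_sub, map_mul, map_mul, hab]
        ring
      · refine ⟨ab * (n10 * g11 - n11 * g10), ?_⟩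
        show _ = (n * g⁻¹ : SL(2, F)) 1 0
        rw [mul10, inv00, inv10, f10, f11, e11, e10, map_mul, map_sub, map_mul, map_mul, hab]
        ring
      · refine ⟨ab * (n11 * g00 - n10 * g01), ?_⟩
        show _ = (n * g⁻¹ : SL(2, F)) 1 1
        rw [mul11, inv01, inv11, f10, f11, e01, e00, map_mul, map_sub, map_mul, map_mul, hab]
        ring
    have : n = n * g⁻¹ * g := by group
    rw [this]
    exact M.mul_mem (h1 hng) hgM

/-- if the normaliser is bigger than the subfield subgroup, every element of `K` is a square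
in `F` -/
theorem isSquare_of_ne (ι : K →+* F) (h2 : (2 : F) ≠ 0) (hne : S0 ι ≠ N0 ι) (x : K) :
    IsSquare (ι x) := by
  classical
  have hK2 := ringChar_ne_two ι h2
  have hnle : ¬ N0 ι ≤ S0 ι := fun h => hne (le_antisymm (S0_le_N0 ι) h)
  obtain ⟨g, hgN, hgS⟩ := SetLike.not_le_iff_exists.1 hnle
  obtain ⟨a, ha0, ⟨c, hc⟩, hg⟩ := hgN
  have ha' : a ∉ Set.range ι := by
    rintro ⟨a', rfl⟩
    apply hgS
    rw [mem_S0_iff]
    intro i j
    obtain ⟨_, ⟨t, rfl⟩, e⟩ := hg i j
    exact ⟨a' * t, by rw [map_mul, e]⟩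
  by_cases hx0 : x = 0
  · rw [hx0, map_zero]; exact ⟨0, by ring⟩
  by_cases hxs : IsSquare x
  · obtain ⟨e, he⟩ := hxs
    exact ⟨ι e, by rw [he, map_mul]⟩
  · -- `x * c` is a square in `K`
    have hc0 : c ≠ 0 := by
      rintro rfl
      rw [map_zero] at hc
      exact ha0 (by rcases mul_eq_zero.1 hc.symm with h | h <;> exact h)
    have hcs : ¬ IsSquare c := by
      rintro ⟨e, he⟩
      exact ha' (mem_range_of_sq_eq ι (by rw [← hc, he]))
    have hc1 : c ^ (Fintype.card K / 2) = -1 := by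
      rcases FiniteField.pow_dichotomy hK2 hc0 with h | h
      · exact absurd ((FiniteField.isSquare_iff hK2 hc0).2 h) hcs
      · exact h
    have hx1 : x ^ (Fintype.card K / 2) = -1 := by
      rcases FiniteField.pow_dichotomy hK2 hx0 with h | h
      · exact absurd ((FiniteField.isSquare_iff hK2 hx0).2 h) hxs
      · exact h
    have hxc : IsSquare (x * c) := by
      rw [FiniteField.isSquare_iff hK2 (mul_ne_zero hx0 hc0), mul_pow, hc1, hx1]
      ring
    obtain ⟨e, he⟩ := hxc
    refine ⟨ι e / a, ?_⟩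
    have : ι x * (a * a) = ι e * ι e := by rw [← hc, ← map_mul, he, map_mul]
    field_simp
    linear_combination this

end general

/-- the image in `PSL(2,F)` of the subfield subgroup -/
theorem nonempty_iso_psl {K : Type*} [Field K] (ι : K →+* F) :
    Nonempty (↥((S0 ι).map (QuotientGroup.mk' (Subgroup.center SL(2, F)))) ≃*
      ProjectiveSpecialLinearGroup (Fin 2) K) := by
  have e0 : ↥((S0 ι).map (QuotientGroup.mk' (Subgroup.center SL(2, F)))) ≃* ↥(pslHom ι).range :=
    MulEquiv.subgroupCongr (pslHom_range ι).symm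
  have e1 := QuotientGroup.quotientKerEquivRange (pslHom ι)
  have e2 := QuotientGroup.quotientMulEquivOfEq (pslHom_ker ι)
  exact ⟨e0.trans (e2.symm.trans e1).symm⟩

/-- the image in `PSL(2,F)` of the normaliser of the subfield subgroup -/
theorem nonempty_iso_pgl {K : Type*} [Field K] (ι : K →+* F) (hsq : ∀ a : K, IsSquare (ι a)) :
    Nonempty (↥((N0 ι).map (QuotientGroup.mk' (Subgroup.center SL(2, F)))) ≃*
      ProjGenLinGroup (Fin 2) K) := by
  have e0 : ↥((N0 ι).map (QuotientGroup.mk' (Subgroup.center SL(2, F)))) ≃*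
      ↥(pglHom ι hsq).range := MulEquiv.subgroupCongr (pglHom_range ι hsq).symm
  have e1 := QuotientGroup.quotientKerEquivRange (pglHom ι hsq)
  have e2 : GL (Fin 2) K ⧸ (pglHom ι hsq).ker ≃* GL (Fin 2) K ⧸ Subgroup.center (GL (Fin 2) K) :=
    QuotientGroup.quotientMulEquivOfEq (pglHom_ker ι hsq)
  exact ⟨e0.trans (e2.symm.trans e1).symm⟩

/-- **Isomorphism type in the good case.** -/
theorem good_iso [Finite F] (h2 : (2 : F) ≠ 0) (hG : Good M) :
    (M = S0 (subf hG).subtype ∨ M = N0 (subf hG).subtype) ∧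
    (Nonempty (↥(M.map (QuotientGroup.mk' (Subgroup.center SL(2, F)))) ≃*
        ProjectiveSpecialLinearGroup (Fin 2) (subf hG)) ∨
     Nonempty (↥(M.map (QuotientGroup.mk' (Subgroup.center SL(2, F)))) ≃*
        ProjGenLinGroup (Fin 2) (subf hG))) := by
  classical
  have : Fintype (subf hG) := Fintype.ofFinite _
  have hc := N0_cases (subf hG).subtype h2 M (S0_le hG) (le_N0 hG)
  refine ⟨hc, ?_⟩
  have hS : M = S0 (subf hG).subtype →
      Nonempty (↥(M.map (QuotientGroup.mk' (Subgroup.center SL(2, F)))) ≃*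
        ProjectiveSpecialLinearGroup (Fin 2) (subf hG)) := by
    intro h
    obtain ⟨e⟩ := nonempty_iso_psl (subf hG).subtype
    exact ⟨(MulEquiv.subgroupCongr (congrArg (Subgroup.map (QuotientGroup.mk' (Subgroup.center SL(2, F)))) h)).trans e⟩
  rcases hc with h | h
  · left; exact hS h
  · by_cases hne : S0 (subf hG).subtype = N0 (subf hG).subtype
    · left; exact hS (h.trans hne.symm)
    · right
      obtain ⟨e⟩ := nonempty_iso_pgl (subf hG).subtype
        (isSquare_of_ne (subf hG).subtype h2 hne)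
      exact ⟨(MulEquiv.subgroupCongr (congrArg (Subgroup.map (QuotientGroup.mk' (Subgroup.center SL(2, F)))) h)).trans e⟩

end Cfsg.Agent.Lib.Helper51_SL2SubIso
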