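import Mathlib
import Cfsg.Agent.Lib.Helper50_MxBasic
import Cfsg.Agent.Lib.Helper50_MxExc
import Cfsg.Agent.Lib.Helper50_MxNum
import Cfsg.Agent.Lib.Helper50_DkOdd
import Cfsg.Agent.Lib.Helper51_SL2SubIso
import Cfsg.Agent.Lib.Helper41_Subfield

/-!
# Maximal subfield subgroups of `SL(2,q)` (helper50)

`sub_case`: a maximal subgroup of `SL(2,F)` (`F` finite of odd characteristic) which is squeezed
between `SL(2,K₀)` and its normaliser for a subfield `K₀` has image in `PSL(2,F)` isomorphic to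
`PGL(2,K₀)` with `[F:K₀] = 2`, or to `PSL(2,K₀)` with `[F:K₀]` an odd prime.
-/

set_option autoImplicit false

namespace Cfsg.Agent.Lib.Helper50_MxSub

open Matrix Polynomial Cfsg.Agent.Lib.Helper50_SL2Mat Cfsg.Agent.Lib.Helper50_DkPSL
  Cfsg.Agent.Lib.Helper50_MxBasic Cfsg.Agent.Lib.Helper50_MxExc Cfsg.Agent.Lib.Helper50_MxNum
  Cfsg.Agent.Lib.Helper51_SL2Sub Cfsg.Agent.Lib.Helper51_SL2SubMax
  Cfsg.Agent.Lib.Helper51_SL2SubMax2 Cfsg.Agent.Lib.Helper51_SL2SubIso
open scoped MatrixGroups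

section field

variable {F K : Type*} [Field F] [Fintype F] [Field K] [Fintype K]

omit [Fintype F] in
theorem pow_card_of_mem_range (ι : K →+* F) {x : F} (hx : x ∈ Set.range ι) :
    x ^ Fintype.card K = x := by
  obtain ⟨y, rfl⟩ := hx
  rw [← map_pow, FiniteField.pow_card]

omit [Fintype F] in
/-- the range of an embedding of `K` is the set of roots of `X ^ |K| - X` -/
theorem mem_range_of_pow_card (ι : K →+* F) {x : F} (hx : x ^ Fintype.card K = x) :
    x ∈ Set.range ι := by
  classical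
  set N := Fintype.card K with hNdef
  have hN : 1 < N := Fintype.one_lt_card
  have hne : (X ^ N - X : F[X]) ≠ 0 := FiniteField.X_pow_card_sub_X_ne_zero F hN
  set R := (X ^ N - X : F[X]).roots.toFinset with hR
  have hsub : Finset.univ.image ι ⊆ R := by
    intro y hy
    obtain ⟨k, -, rfl⟩ := Finset.mem_image.1 hy
    rw [hR, Multiset.mem_toFinset, mem_roots hne, IsRoot.def, eval_sub, eval_pow, eval_X,
      ← map_pow, FiniteField.pow_card, sub_self]
  have hcardR : R.card ≤ N := by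
    calc R.card ≤ Multiset.card (X ^ N - X : F[X]).roots := Multiset.toFinset_card_le _
      _ ≤ (X ^ N - X : F[X]).natDegree := card_roots' _
      _ = N := FiniteField.X_pow_card_sub_X_natDegree_eq F hN
  have hcardI : (Finset.univ.image ι).card = N := by
    rw [Finset.card_image_of_injective _ ι.injective, Finset.card_univ]
  have heq : Finset.univ.image ι = R :=
    Finset.eq_of_subset_of_card_le hsub (by rw [hcardI]; exact hcardR)
  have : x ∈ R := by
    rw [hR, Multiset.mem_toFinset, mem_roots hne, IsRoot.def, eval_sub, eval_pow, eval_X, hx,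
      sub_self]
  rw [← heq] at this
  obtain ⟨k, -, rfl⟩ := Finset.mem_image.1 this
  exact ⟨k, rfl⟩

omit [Fintype F] [Fintype K] in
theorem pow_pow_eq_self {x : F} {N : ℕ} (h : x ^ N = x) (s : ℕ) : x ^ (N ^ s) = x := by
  induction s with
  | zero => simp
  | succ s ih => rw [pow_succ, pow_mul, ih, h]

omit [Fintype F] in
theorem range_subset {K₁ : Type*} [Field K₁] [Fintype K₁] (ι₀ : K →+* F) (ι₁ : K₁ →+* F) (s : ℕ)
    (hc : Fintype.card K₁ = Fintype.card K ^ s) : Set.range ι₀ ⊆ Set.range ι₁ := by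
  intro x hx
  apply mem_range_of_pow_card ι₁
  rw [hc]
  exact pow_pow_eq_self (pow_card_of_mem_range ι₀ hx) s

theorem not_surjective_of_card (ι : K →+* F) (t : ℕ) (ht : 2 ≤ t)
    (h : Fintype.card K ^ t = Fintype.card F) : ¬ Function.Surjective ι := by
  intro hs
  have hb : Function.Bijective ι := ⟨ι.injective, hs⟩
  have hc := Fintype.card_of_bijective hb
  have hK : 1 < Fintype.card K := Fintype.one_lt_card
  rw [← h] at hc
  have : Fintype.card K ^ 1 < Fintype.card K ^ t := Nat.pow_lt_pow_right hK (by omega)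
  rw [pow_one] at this
  omega

omit [Fintype F] in
/-- if the range of `ι₁` lies in the range of `ι₀` then `|K₁| ≤ |K₀|` -/
theorem card_le_of_range_subset {K₁ : Type*} [Field K₁] [Fintype K₁] (ι₀ : K →+* F)
    (ι₁ : K₁ →+* F) (h : ∀ y : K₁, ι₁ y ∈ Set.range ι₀) :
    Fintype.card K₁ ≤ Fintype.card K := by
  apply card_le_of_forall_pow_eq _ Fintype.one_lt_card
  intro y
  apply ι₁.injective
  rw [map_pow]
  exact pow_card_of_mem_range ι₀ (h y)

omit [Fintype F] in
/-- the Frobenius of `K` maps a square root of an element of `K` to `±` itself -/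
theorem pow_card_of_sq_mem (ι : K →+* F) {a : F} (ha : a * a ∈ Set.range ι) :
    a ^ Fintype.card K = a ∨ a ^ Fintype.card K = -a := by
  have h := pow_card_of_mem_range ι ha
  have : (a ^ Fintype.card K - a) * (a ^ Fintype.card K + a) = 0 := by
    rw [mul_pow] at h
    linear_combination h
  rcases mul_eq_zero.1 this with h1 | h1
  · left; linear_combination h1
  · right; linear_combination h1

omit [Fintype F] in
/-- square roots of elements of `K₀` lie in the quadratic extension -/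
theorem sqrt_mem {K₁ : Type*} [Field K₁] [Fintype K₁] (ι₀ : K →+* F) (ι₁ : K₁ →+* F)
    (hc : Fintype.card K₁ = Fintype.card K ^ 2) (hodd : Odd (Fintype.card K)) {a : F}
    (ha : a * a ∈ Set.range ι₀) : a ∈ Set.range ι₁ := by
  apply mem_range_of_pow_card ι₁
  rw [hc, sq, pow_mul]
  rcases pow_card_of_sq_mem ι₀ ha with h | h
  · rw [h, h]
  · rw [h, hodd.neg_pow, h, neg_neg]

/-- in an extension of odd degree, square roots of elements of `K` lie in `K` -/
theorem sqrt_mem_of_odd (ι : K →+* F) (n : ℕ) (hn : Odd n)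
    (hF : Fintype.card K ^ n = Fintype.card F) (hodd : Odd (Fintype.card K))
    (h2 : (2 : F) ≠ 0) {a : F} (ha : a * a ∈ Set.range ι) : a ∈ Set.range ι := by
  apply mem_range_of_pow_card ι
  rcases pow_card_of_sq_mem ι ha with h | h
  · exact h
  · have key : ∀ k : ℕ, a ^ (Fintype.card K ^ k) = (-1) ^ k * a := by
      intro k
      induction k with
      | zero => simp
      | succ k ih =>
        rw [pow_succ, pow_mul, ih, mul_pow, h, ← pow_mul, mul_comm k, pow_mul, hodd.neg_one_pow,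
          pow_succ]
        ring
    have h1 := key n
    rw [hF, FiniteField.pow_card, hn.neg_one_pow] at h1
    have : (2 : F) * a = 0 := by linear_combination h1
    rcases mul_eq_zero.1 this with h0 | h0
    · exact absurd h0 h2
    · rw [h0, zero_pow Fintype.card_ne_zero]

/-- an abstract field of order `|K₀| ^ s` inside `F` -/
theorem exists_inter_field (K₀ : Type*) [Field K₀] [Fintype K₀] (s t : ℕ) (hs : s ≠ 0)
    (h : (Fintype.card K₀ ^ s) ^ t = Fintype.card F) :
    ∃ (K₁ : Type) (_ : Field K₁) (_ : Fintype K₁), Fintype.card K₁ = Fintype.card K₀ ^ s ∧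
      Nonempty (K₁ →+* F) := by
  obtain ⟨p', hp'⟩ := CharP.exists K₀
  have : Fact p'.Prime := ⟨CharP.char_is_prime K₀ p'⟩
  obtain ⟨n, hcard⟩ := FiniteField.card K₀ p'
  obtain ⟨-, hcard⟩ := hcard
  have hns : (n : ℕ) * s ≠ 0 := Nat.mul_ne_zero n.ne_zero hs
  have : Fintype (GaloisField p' ((n : ℕ) * s)) := Fintype.ofFinite _
  have hc1 : Fintype.card (GaloisField p' ((n : ℕ) * s)) = Fintype.card K₀ ^ s := by
    rw [← Nat.card_eq_fintype_card, GaloisField.card p' _ hns, hcard, pow_mul]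
  refine ⟨GaloisField p' ((n : ℕ) * s), inferInstance, inferInstance, hc1, ?_⟩
  exact Cfsg.Agent.Lib.Helper41_Subfield.exists_ringHom t (by rw [hc1]; exact h)

end field

variable {F : Type*} [Field F] [Fintype F] [DecidableEq F]

omit [Fintype F] [DecidableEq F] in
theorem mem_range_of_tU_mem_N0 {K : Type*} [Field K] (ι : K →+* F) {x : F} (h : tU x ∈ N0 ι) :
    x ∈ Set.range ι := by
  obtain ⟨a, ha0, _, hent⟩ := h
  obtain ⟨_, ⟨t00, rfl⟩, e00⟩ := hent 0 0
  obtain ⟨_, ⟨t01, rfl⟩, e01⟩ := hent 0 1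
  rw [tU00] at e00
  rw [tU01] at e01
  have ht00 : ι t00 ≠ 0 := by
    intro h
    rw [h, mul_zero] at e00
    exact one_ne_zero e00
  refine ⟨t01 / t00, ?_⟩
  rw [map_div₀, e01, div_eq_iff ht00]
  linear_combination (ι t01) * e00

omit [Fintype F] [DecidableEq F] in
theorem tU_mem_S0 {K : Type*} [Field K] (ι : K →+* F) (y : K) : tU (ι y) ∈ S0 ι := by
  rw [mem_S0_iff]
  intro i j
  fin_cases i <;> fin_cases j
  · exact ⟨1, by simp⟩
  · exact ⟨y, by simp⟩
  · exact ⟨0, by simp⟩
  · exact ⟨1, by simp⟩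

variable (p : ℕ) [Fact p.Prime] [CharP F p]

omit [DecidableEq F] in
/-- **The subfield case.** -/
theorem sub_case (hp2 : p ≠ 2) (hodd : Odd (Fintype.card F)) (M' : Subgroup SL(2, F))
    (hco : IsCoatom M') (hG : Good M') :
    (∃ (F₀ : Type) (_ : Field F₀) (_ : Fintype F₀), Fintype.card F = Fintype.card F₀ ^ 2 ∧
        Nonempty (↥(M'.map proj) ≃* Matrix.ProjGenLinGroup (Fin 2) F₀)) ∨
    (∃ (F₀ : Type) (_ : Field F₀) (_ : Fintype F₀) (r : ℕ), r.Prime ∧ Odd r ∧
        Fintype.card F = Fintype.card F₀ ^ r ∧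
        Nonempty (↥(M'.map proj) ≃* Matrix.ProjectiveSpecialLinearGroup (Fin 2) F₀)) := by
  classical
  have h2 : (2 : F) ≠ 0 := Cfsg.Agent.Lib.Helper50_DkOdd.two_ne_zero_of_char p hp2
  obtain ⟨K₀, i1, i2, ⟨e⟩⟩ := Cfsg.Agent.Lib.Helper50_DkOdd.exists_type_zero_field ↥(subf hG)
  set ι₀ : K₀ →+* F := (subf hG).subtype.comp (e : K₀ →+* ↥(subf hG)) with hι₀
  have hrange : Set.range ι₀ = Set.range (subf hG).subtype := by
    ext x
    constructor
    · rintro ⟨y, rfl⟩
      exact ⟨e y, rfl⟩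
    · rintro ⟨a, rfl⟩
      exact ⟨e.symm a, by simp [hι₀]⟩
  have hS0 : S0 ι₀ = S0 (subf hG).subtype := by
    ext g
    rw [mem_S0_iff, mem_S0_iff, hrange]
  have hN0 : N0 ι₀ = N0 (subf hG).subtype := by
    ext g
    rw [mem_N0, mem_N0, hrange]
  have h1 : S0 ι₀ ≤ M' := hS0 ▸ S0_le hG
  have h3 : M' ≤ N0 ι₀ := hN0 ▸ le_N0 hG
  set n := @Module.finrank K₀ F _ _ ι₀.toAlgebra.toModule with hn
  have hm : Fintype.card K₀ ^ n = Fintype.card F := by
    let _ := ι₀.toAlgebra
    exact (Module.card_eq_pow_finrank (K := K₀) (V := F)).symm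
  have hq0 : 1 < Fintype.card K₀ := Fintype.one_lt_card
  have hF1 : 1 < Fintype.card F := Fintype.one_lt_card
  have hn0 : n ≠ 0 := by
    intro h
    rw [h, pow_zero] at hm
    omega
  have hq0odd : Odd (Fintype.card K₀) := by
    rw [← hm] at hodd
    exact (Nat.odd_pow_iff hn0).mp hodd
  have hι₀s : ¬ Function.Surjective ι₀ := by
    intro hs
    apply hco.1
    rw [eq_top_iff]
    intro g _
    apply h1
    rw [mem_S0_iff]
    intro i j
    exact hs (g i j)
  have hn1 : n ≠ 1 := by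
    intro h
    rw [h, pow_one] at hm
    apply hι₀s
    exact ((Fintype.bijective_iff_injective_and_card ι₀).2 ⟨ι₀.injective, hm⟩).2
  rcases Nat.even_or_odd n with hev | hod
  · -- even degree
    obtain ⟨j, hj⟩ := hev
    have hj1 : j = 1 := by
      by_contra hj1
      have hj2 : 2 ≤ j := by omega
      obtain ⟨K₁, _, _, hc1, ⟨ι₁⟩⟩ := exists_inter_field (F := F) K₀ 2 j (by norm_num)
        (by rw [← pow_mul, two_mul, ← hj]; exact hm)
      have hsub : Set.range ι₀ ⊆ Set.range ι₁ := range_subset ι₀ ι₁ 2 hc1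
      have hι₁ : ¬ Function.Surjective ι₁ :=
        not_surjective_of_card ι₁ j hj2 (by rw [hc1, ← pow_mul, two_mul, ← hj]; exact hm)
      have hNS : N0 ι₀ ≤ S0 ι₁ := by
        rintro g ⟨a, -, haa, hent⟩
        rw [mem_S0_iff]
        have ha1 : a ∈ Set.range ι₁ := sqrt_mem ι₀ ι₁ hc1 hq0odd haa
        intro i j
        obtain ⟨t, ht, hg⟩ := hent i j
        rw [hg]
        obtain ⟨a', rfl⟩ := ha1
        obtain ⟨t', rfl⟩ := hsub ht
        exact ⟨a' * t', map_mul _ _ _⟩
      have hM1 : M' = S0 ι₁ := eq_of_isCoatom_le hco (h3.trans hNS) (S0_ne_top ι₁ hι₁)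
      have hle : Fintype.card K₁ ≤ Fintype.card K₀ := by
        apply card_le_of_range_subset ι₀ ι₁
        intro y
        apply mem_range_of_tU_mem_N0 ι₀
        apply h3
        rw [hM1]
        exact tU_mem_S0 ι₁ y
      rw [hc1] at hle
      nlinarith
    have hn2 : n = 2 := by omega
    have hF2 : Fintype.card F = Fintype.card K₀ ^ 2 := by rw [← hm, hn2]
    have hsq : ∀ a : K₀, IsSquare (ι₀ a) :=
      Cfsg.Agent.Lib.Helper41_Subfield.isSquare_of_even ι₀ 1 (by rw [mul_one]; exact hF2.symm) hodd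
    have hK2 : ringChar K₀ ≠ 2 := ringChar_ne_two ι₀ h2
    have hNne : S0 ι₀ ≠ N0 ι₀ := by
      intro heq
      obtain ⟨d, hd⟩ := FiniteField.exists_nonsquare hK2
      obtain ⟨a, ha⟩ := hsq d
      have ha0 : a ≠ 0 := by
        rintro rfl
        rw [mul_zero] at ha
        have : d = 0 := by
          apply ι₀.injective
          rw [ha, map_zero]
        exact hd ⟨0, by rw [this, mul_zero]⟩
      have hd0 : d ≠ 0 := by
        rintro rfl
        exact hd ⟨0, by rw [mul_zero]⟩
      set g : SL(2, F) := mk a 0 0 a⁻¹ (by rw [mul_inv_cancel₀ ha0]; ring) with hg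
      have hgN : g ∈ N0 ι₀ := by
        refine ⟨a, ha0, ⟨d, ha⟩, ?_⟩
        intro i j
        fin_cases i <;> fin_cases j
        · exact ⟨1, ⟨1, map_one _⟩, by simp [hg]⟩
        · exact ⟨0, ⟨0, map_zero _⟩, by simp [hg]⟩
        · exact ⟨0, ⟨0, map_zero _⟩, by simp [hg]⟩
        · refine ⟨ι₀ d⁻¹, ⟨d⁻¹, rfl⟩, ?_⟩
          have : (g : SL(2, F)) 1 1 = a⁻¹ := by simp [hg]
          show (g : SL(2, F)) 1 1 = _
          rw [this, map_inv₀, ha]
          field_simp
      rw [← heq, mem_S0_iff] at hgN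
      obtain ⟨c, hc⟩ := hgN 0 0
      have hc' : ι₀ c = a := by rw [hc]; simp [hg]
      apply hd
      refine ⟨c, ?_⟩
      apply ι₀.injective
      rw [ha, map_mul, hc']
    have hMN : M' = N0 ι₀ := by
      rcases N0_cases ι₀ h2 M' h1 h3 with h | h
      · exfalso
        have := eq_of_isCoatom_le hco h3 (N0_ne_top ι₀ hι₀s)
        exact hNne (h.symm.trans this)
      · exact h
    left
    refine ⟨K₀, i1, i2, hF2, ?_⟩
    obtain ⟨f⟩ := nonempty_iso_pgl ι₀ hsq
    exact ⟨(MulEquiv.subgroupCongr (congrArg (Subgroup.map proj) hMN)).trans f⟩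
  · -- odd degree
    have hK2 : ringChar K₀ ≠ 2 := ringChar_ne_two ι₀ h2
    have hSN : S0 ι₀ = N0 ι₀ := by
      by_contra hne
      have hsq := isSquare_of_ne ι₀ h2 hne
      obtain ⟨d, hd⟩ := FiniteField.exists_nonsquare hK2
      obtain ⟨a, ha⟩ := hsq d
      have : a ∈ Set.range ι₀ := sqrt_mem_of_odd ι₀ n hod hm hq0odd h2 ⟨d, ha⟩
      obtain ⟨c, rfl⟩ := this
      apply hd
      refine ⟨c, ?_⟩
      apply ι₀.injective
      rw [ha, map_mul]
    have hMS : M' = S0 ι₀ := le_antisymm (h3.trans hSN.ge) h1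
    have hprime : n.Prime := by
      by_contra hnp
      obtain ⟨s, hsn, hs2, hslt⟩ := Nat.exists_dvd_of_not_prime2 (by omega) hnp
      obtain ⟨t, ht⟩ := hsn
      have ht2 : 2 ≤ t := by
        by_contra hlt
        push Not at hlt
        interval_cases t
        · omega
        · omega
      obtain ⟨K₁, _, _, hc1, ⟨ι₁⟩⟩ := exists_inter_field (F := F) K₀ s t (by omega)
        (by rw [← pow_mul, ← ht]; exact hm)
      have hsub : Set.range ι₀ ⊆ Set.range ι₁ := range_subset ι₀ ι₁ s hc1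
      have hι₁ : ¬ Function.Surjective ι₁ :=
        not_surjective_of_card ι₁ t ht2 (by rw [hc1, ← pow_mul, ← ht]; exact hm)
      have hSS : S0 ι₀ ≤ S0 ι₁ := by
        intro g hg
        rw [mem_S0_iff] at hg ⊢
        exact fun i j => hsub (hg i j)
      have hM1 : M' = S0 ι₁ := eq_of_isCoatom_le hco (hMS.le.trans hSS) (S0_ne_top ι₁ hι₁)
      have hle : Fintype.card K₁ ≤ Fintype.card K₀ := by
        apply card_le_of_range_subset ι₀ ι₁
        intro y
        apply mem_range_of_tU_mem_N0 ι₀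
        apply h3
        rw [hM1]
        exact tU_mem_S0 ι₁ y
      rw [hc1] at hle
      have : Fintype.card K₀ ^ 1 < Fintype.card K₀ ^ s := Nat.pow_lt_pow_right hq0 (by omega)
      rw [pow_one] at this
      omega
    right
    refine ⟨K₀, i1, i2, n, hprime, hod, hm.symm, ?_⟩
    obtain ⟨f⟩ := nonempty_iso_psl ι₀
    exact ⟨(MulEquiv.subgroupCongr (congrArg (Subgroup.map proj) hMS)).trans f⟩

end Cfsg.Agent.Lib.Helper50_MxSub
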