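import Mathlib
import Cfsg.Agent.Lib.Helper50_MxExc2
import Cfsg.Agent.Lib.Helper50_MxSub
import Cfsg.Agent.Lib.Helper50_MxDih
import Cfsg.Agent.Lib.Helper50_DkOdd
import Cfsg.Agent.Lib.Helper50_DkOrders
import Cfsg.Agent.Lib.Helper51_SL2Cases
import Cfsg.Agent.S0803
import Cfsg.Agent.S0804

/-!
# The maximal subgroups of `PSL(2,q)`, `q` odd: assembling the cases (helper50)
-/

set_option autoImplicit false

namespace Cfsg.Agent.Lib.Helper50_MxMain

open Matrix Cfsg.Agent.Lib.Helper50_SL2Mat Cfsg.Agent.Lib.Helper50_DkPSL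
  Cfsg.Agent.Lib.Helper50_DkTorus Cfsg.Agent.Lib.Helper50_DkTorusCase
  Cfsg.Agent.Lib.Helper50_DkGroups Cfsg.Agent.Lib.Helper50_DkStruct
  Cfsg.Agent.Lib.Helper50_DkBorel Cfsg.Agent.Lib.Helper50_DkOdd Cfsg.Agent.Lib.Helper50_DkOrders
  Cfsg.Agent.Lib.Helper50_MxBasic Cfsg.Agent.Lib.Helper50_MxExc2 Cfsg.Agent.Lib.Helper50_MxSub
  Cfsg.Agent.Lib.Helper50_MxDih Cfsg.Agent.Lib.Helper50_MxGen
open scoped MatrixGroups

section transport

variable {F : Type*} [Field F]

theorem isCoatom_comap_proj (M : Subgroup PSL(2, F)) (hM : IsCoatom M) :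
    IsCoatom (M.comap proj) := by
  constructor
  · intro h
    apply hM.1
    rw [← map_comap_proj M, h, ← MonoidHom.range_eq_map]
    exact MonoidHom.range_eq_top.2 proj_surjective
  · intro L hKL
    have h1 : M ≤ L.map proj := by
      rw [← map_comap_proj M]
      exact Subgroup.map_mono hKL.le
    have hker : (proj : SL(2, F) →* PSL(2, F)).ker ≤ L := by
      intro x hx
      apply hKL.le
      show proj x ∈ M
      rw [MonoidHom.mem_ker.1 hx]
      exact M.one_mem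
    have hLL : (L.map proj).comap proj = L := Subgroup.comap_map_eq_self hker
    have h2 : M ≠ L.map proj := by
      intro h
      apply hKL.not_ge
      rw [h, hLL]
    have h3 := hM.2 (L.map proj) (lt_of_le_of_ne h1 h2)
    rw [← hLL, h3]
    rfl

theorem isCoatom_map_equiv {G : Type*} [Group G] (φ : G ≃* G) (K : Subgroup G) (hK : IsCoatom K) :
    IsCoatom (K.map φ.toMonoidHom) :=
  (OrderIso.isCoatom_iff (MulEquiv.mapSubgroup φ) K).2 hK

theorem negOne_mem_comap (M : Subgroup PSL(2, F)) : negOne ∈ M.comap proj := by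
  show proj negOne ∈ M
  rw [(proj_eq_one_iff negOne).2 isScalar_negOne]
  exact M.one_mem

end transport

section arith

theorem mod8_of_sq (p : ℕ) (h : p ^ 2 % 16 = 1) : p % 8 = 1 ∨ p % 8 = 7 := by
  have h16 : p % 16 < 16 := Nat.mod_lt _ (by norm_num)
  rw [Nat.pow_mod] at h
  have : p % 8 = (p % 16) % 8 := (Nat.mod_mod_of_dvd p (by norm_num)).symm
  rw [this]
  interval_cases (p % 16) <;> simp_all

theorem sq_of_mod8 (p : ℕ) (h : p % 8 = 1 ∨ p % 8 = 7) : p ^ 2 % 16 = 1 := by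
  have h16 : p % 16 < 16 := Nat.mod_lt _ (by norm_num)
  rw [Nat.pow_mod]
  have : p % 8 = (p % 16) % 8 := (Nat.mod_mod_of_dvd p (by norm_num)).symm
  rw [this] at h
  interval_cases (p % 16) <;> simp_all

theorem mod10_of_dvd (q : ℕ) (hodd : q % 2 = 1) (h5 : ¬ 5 ∣ q) (h : 5 ∣ q * (q ^ 2 - 1)) :
    q % 10 = 1 ∨ q % 10 = 9 := by
  have hp5 : Nat.Prime 5 := by norm_num
  have h1 : 5 ∣ q ^ 2 - 1 := (hp5.dvd_mul.1 h).resolve_left h5
  have hq1 : 1 ≤ q ^ 2 := Nat.one_le_pow _ _ (by omega)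
  have h2 : q ^ 2 % 5 = 1 := by omega
  rw [Nat.pow_mod] at h2
  have h55 : q % 5 < 5 := Nat.mod_lt _ (by norm_num)
  have : q % 5 = 1 ∨ q % 5 = 4 := by
    interval_cases (q % 5) <;> simp_all
  omega

theorem dvd_of_mod10 (q : ℕ) (h : q % 10 = 1 ∨ q % 10 = 9) : 5 ∣ q * (q ^ 2 - 1) := by
  apply Dvd.dvd.mul_left
  have h55 : q % 5 < 5 := Nat.mod_lt _ (by norm_num)
  have h5 : q % 5 = 1 ∨ q % 5 = 4 := by omega
  have h2 : q ^ 2 % 5 = 1 := by
    rw [Nat.pow_mod]
    rcases h5 with h5 | h5 <;> rw [h5]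
  have hq1 : 1 ≤ q ^ 2 := Nat.one_le_pow _ _ (by omega)
  omega

end arith

variable {F : Type*} [Field F] [Fintype F] [DecidableEq F] (p : ℕ) [Fact p.Prime] [CharP F p]

/-- **The coprime case**, sharpened. -/
theorem coprime_case' (hp2 : p ≠ 2) (K : Subgroup SL(2, F)) (hcop : ¬ p ∣ Nat.card K) :
    (∃ k : ℕ, (k ∣ (Fintype.card F + 1) / Nat.gcd 2 (Fintype.card F - 1) ∨
        k ∣ (Fintype.card F - 1) / Nat.gcd 2 (Fintype.card F - 1)) ∧
      ((IsCyclic ↥(K.map proj) ∧ Nat.card ↥(K.map proj) = k) ∨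
        Nonempty (↥(K.map proj) ≃* DihedralGroup k))) ∨
    (Nat.card K = 24 ∧ Nonempty (↥(K.map proj) ≃* alternatingGroup (Fin 4))) ∨
    (Nat.card K = 48 ∧ Nonempty (↥(K.map proj) ≃* Equiv.Perm (Fin 4))) ∨
    (Nat.card K = 120 ∧ Nonempty (↥(K.map proj) ≃* alternatingGroup (Fin 5))) := by
  have h2 : (2 : F) ≠ 0 := two_ne_zero_of_char p hp2
  have hcard : ¬ ringChar F ∣ Nat.card K := by rwa [ringChar.eq F p]
  have hss := Cfsg.Agent.Lib.Helper51_SL2Prime.hss_of_ringChar h2 K hcard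
  by_cases hnab : ∀ A : Subgroup SL(2, F), A ≤ K → (∀ a ∈ A, ∀ b ∈ A, a * b = b * a) →
      2 < A.relIndex K
  · obtain ⟨hc, hneg, -⟩ :=
      Cfsg.Agent.Lib.Helper51_SL2Prime.pprime_orders_subgroup' h2 K hcard hnab
    have hX := card_map_proj h2 K hneg
    have hnnc : NNC ↥(K.map proj) := by
      apply nnc_map_proj h2 K hnab
      intro v hv htr _
      have hs : IsScalar v := hss v hv (by rw [htr]; norm_num)
      exact hs.eq_one_of_tr h2 htr
    rcases hc with h | h | h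
    · right; left
      exact ⟨h, equiv_A4 hnnc (by omega)⟩
    · right; right; left
      exact ⟨h, equiv_S4 hnnc (by omega)⟩
    · right; right; right
      exact ⟨h, equiv_A5 hnnc (by omega)⟩
  · push Not at hnab
    obtain ⟨A, hAK, hAab, hAidx⟩ := hnab
    left
    by_cases hKab : ∀ a ∈ K, ∀ b ∈ K, a * b = b * a
    · obtain ⟨k, hk, hcyc, hkc⟩ := cyc_case p K hKab hss hcop
      exact ⟨k, hk, Or.inl ⟨hcyc, hkc⟩⟩
    · have hne : A.relIndex K ≠ 0 := Subgroup.index_ne_zero_of_finite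
      have hne1 : A.relIndex K ≠ 1 := by
        intro h
        apply hKab
        intro a ha b hb
        have hle := Subgroup.relIndex_eq_one.1 h
        exact hAab a (hle ha) b (hle hb)
      have hidx : A.relIndex K = 2 := by omega
      obtain ⟨k, hk, hd⟩ := dih_of_index_two p K A hAK hidx hAab hKab
        (fun y hy => hss y (hAK hy))
        (fun y _ h => Cfsg.Agent.Lib.Helper50_SL2Rep.isScalar_of_sq h2 h)
        (fun h => hcop (h.trans (Subgroup.card_dvd_of_le hAK)))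
      exact ⟨k, hk, Or.inr hd⟩

omit [DecidableEq F] in
theorem card_PSL2_ge (h2 : (2 : F) ≠ 0) (h5 : 5 ≤ Fintype.card F) : 60 ≤ Nat.card PSL(2, F) := by
  have h := card_PSL2_odd h2
  have h1 : 5 * (5 ^ 2 - 1) ≤ Fintype.card F * (Fintype.card F ^ 2 - 1) :=
    Nat.mul_le_mul h5 (Nat.sub_le_sub_right (Nat.pow_le_pow_left h5 2) 1)
  omega

omit [DecidableEq F] in
theorem not_dvd_card (ℓ : ℕ) (hℓ : ℓ.Prime) (hne : p ≠ ℓ) : ¬ ℓ ∣ Fintype.card F := by
  obtain ⟨n, -, hn⟩ := FiniteField.card F p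
  rw [hn]
  intro h
  have := hℓ.dvd_of_dvd_pow h
  exact hne ((Nat.prime_dvd_prime_iff_eq hℓ (Fact.out : p.Prime)).1 this).symm

/-- **`A₅`: the side conditions.** -/
theorem A5_final (hp2 : p ≠ 2) (hp5 : p ≠ 5) (hodd : Odd (Fintype.card F))
    (M : Subgroup PSL(2, F)) (hM : IsCoatom M) (e : M ≃* alternatingGroup (Fin 5)) :
    (Fintype.card F % 10 = 1 ∨ Fintype.card F % 10 = 9) ∧
      (Fintype.card F = p ∨ (Fintype.card F = p ^ 2 ∧ (p % 10 = 3 ∨ p % 10 = 7))) := by
  refine ⟨?_, A5_field p hp2 hp5 M hM e⟩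
  have h := (Cfsg.Agent.S0804.result (F := F) rfl).1 ⟨M, ⟨e⟩⟩
  exact mod10_of_dvd _ (Nat.odd_iff.1 hodd) (not_dvd_card p 5 (by norm_num) hp5) h

/-- **`S₄`: the side conditions.** -/
theorem S4_final (hp2 : p ≠ 2) (hp3 : p ≠ 3)
    (M : Subgroup PSL(2, F)) (hM : IsCoatom M) (e : M ≃* Equiv.Perm (Fin 4)) :
    Fintype.card F = p ∧ (p % 8 = 1 ∨ p % 8 = 7) := by
  have hq := S4_field p hp2 hp3 M hM e
  refine ⟨hq, ?_⟩
  have h := (Cfsg.Agent.S0803.result (F := F) rfl).1 ⟨M, ⟨e⟩⟩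
  rw [hq] at h
  exact mod8_of_sq p h

/-- **`A₄`: the side conditions.** -/
theorem A4_final (hp2 : p ≠ 2) (hp3 : p ≠ 3) (h5 : 5 ≤ Fintype.card F)
    (M : Subgroup PSL(2, F)) (hM : IsCoatom M) (e : M ≃* alternatingGroup (Fin 4)) :
    Fintype.card F = p ∧ (p % 8 = 3 ∨ p % 8 = 5) ∧ ¬ (p % 10 = 1 ∨ p % 10 = 9) := by
  have h2 : (2 : F) ≠ 0 := two_ne_zero_of_char p hp2
  have hq := A4_field p hp2 hp3 M hM e
  have hG := card_PSL2_ge h2 h5
  have hpodd : p % 2 = 1 := by
    rcases (Fact.out : p.Prime).eq_two_or_odd with h | h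
    · exact absurd h hp2
    · exact h
  refine ⟨hq, ?_, ?_⟩
  · by_contra hcon
    have h17 : p % 8 = 1 ∨ p % 8 = 7 := by omega
    have hsq := sq_of_mod8 p h17
    obtain ⟨H, ⟨f⟩⟩ := (Cfsg.Agent.S0803.result (F := F) hq).2 hsq
    have hcG : Nat.card (Equiv.Perm (Fin 4)) ≠ Nat.card PSL(2, F) := by
      rw [card_S4']; omega
    exact A4_excl_iso p hp2 M hM e triple_S4 (by rw [card_S4']; norm_num) hcG H f
  · intro h19
    have hdvd := dvd_of_mod10 p h19
    obtain ⟨H, ⟨f⟩⟩ := (Cfsg.Agent.S0804.result (F := F) hq).2 hdvd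
    have hp11 : 11 ≤ p := by
      have hpr := (Fact.out : p.Prime)
      have := hpr.two_le
      by_contra hlt
      push Not at hlt
      interval_cases p <;> first | omega | exact absurd hpr (by norm_num)
    have hG' : 660 ≤ Nat.card PSL(2, F) := by
      have h := card_PSL2_odd h2
      rw [hq] at h
      have h1 : 11 * (11 ^ 2 - 1) ≤ p * (p ^ 2 - 1) :=
        Nat.mul_le_mul hp11 (Nat.sub_le_sub_right (Nat.pow_le_pow_left hp11 2) 1)
      omega
    have hcG : Nat.card (alternatingGroup (Fin 5)) ≠ Nat.card PSL(2, F) := by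
      rw [card_A5']; omega
    exact A4_excl_iso p hp2 M hM e triple_A5 (by rw [card_A5']; norm_num) hcG H f

omit [Fact p.Prime] [CharP F p] in
/-- **Dihedral groups: the side conditions.** -/
theorem dih_final (h2 : (2 : F) ≠ 0) (h5 : 5 ≤ Fintype.card F) (hodd : Odd (Fintype.card F))
    (M : Subgroup PSL(2, F)) (hM : IsCoatom M) (k : ℕ)
    (hk : k ∣ (Fintype.card F + 1) / Nat.gcd 2 (Fintype.card F - 1) ∨
        k ∣ (Fintype.card F - 1) / Nat.gcd 2 (Fintype.card F - 1))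
    (f : M ≃* DihedralGroup k) :
    (13 ≤ Fintype.card F ∧ ∃ k : ℕ, 2 * k = Fintype.card F - 1 ∧
        Nonempty (M ≃* DihedralGroup k)) ∨
    (Fintype.card F ≠ 7 ∧ Fintype.card F ≠ 9 ∧ ∃ k : ℕ, 2 * k = Fintype.card F + 1 ∧
        Nonempty (M ≃* DihedralGroup k)) := by
  have : IsSimpleGroup PSL(2, F) :=
    Matrix.ProjectiveSpecialLinearGroup.rank_two_simple (by rw [Nat.card_eq_fintype_card]; omega)
  have hgcd : Nat.gcd 2 (Fintype.card F - 1) = 2 := by
    rcases two_cases (F := F) with ⟨h0, -, -⟩ | ⟨-, hg, -⟩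
    · exact absurd h0 h2
    · exact hg
  rw [hgcd] at hk
  have hq2 := Nat.odd_iff.1 hodd
  by_cases hk3 : 3 ≤ k
  · have hkle : 2 * k ≤ Fintype.card F + 1 := by
      rcases hk with h | h
      · have := Nat.le_of_dvd (by omega) h
        omega
      · have := Nat.le_of_dvd (by omega) h
        omega
    rcases dih_order h2 h5 M hM hk3 hkle f with h | h
    · right
      refine ⟨?_, ?_, k, h, ⟨f⟩⟩
      · intro h7
        have hk4 : k = 4 := by omega
        subst hk4
        exact dih4_excl h2 (Or.inl h7) M hM f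
      · intro h9
        have hk5 : k = 5 := by omega
        subst hk5
        exact dih5_excl h2 (Or.inl h9) M hM f
    · left
      refine ⟨?_, k, h, ⟨f⟩⟩
      by_contra hlt
      push Not at hlt
      have hcases : Fintype.card F = 7 ∨ Fintype.card F = 9 ∨ Fintype.card F = 11 := by omega
      rcases hcases with h7 | h9 | h11
      · have hk3' : k = 3 := by omega
        subst hk3'
        exact dih3_excl h2 h7 M hM f
      · have hk4 : k = 4 := by omega
        subst hk4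
        exact dih4_excl h2 (Or.inr h9) M hM f
      · have hk5 : k = 5 := by omega
        subst hk5
        exact dih5_excl h2 (Or.inr h11) M hM f
  · exfalso
    exact dih_small_false M hM (by omega) f

omit [DecidableEq F] in
/-- **The Borel case.** -/
theorem caseB1 (hp2 : p ≠ 2) (M : Subgroup PSL(2, F)) (hM : IsCoatom M)
    (hone : Nat.card (Sylow p ↥(M.comap proj)) = 1) (hdvd : p ∣ Nat.card ↥(M.comap proj)) :
    2 * Nat.card M = Fintype.card F * (Fintype.card F - 1) := by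
  classical
  have h2 : (2 : F) ≠ 0 := two_ne_zero_of_char p hp2
  set K := M.comap proj with hK
  have hKco : IsCoatom K := isCoatom_comap_proj M hM
  have : Subsingleton (Sylow p K) := (Nat.card_eq_one_iff_unique.1 hone).1
  obtain ⟨P⟩ : Nonempty (Sylow p K) := inferInstance
  have hPn : (P : Subgroup K).Normal := Sylow.normal_of_subsingleton P
  have hPne : (P : Subgroup K) ≠ ⊥ := P.ne_bot_of_dvd_card hdvd
  obtain ⟨g, hg⟩ := exists_conj_lower_zero p K ((P : Subgroup K).map K.subtype)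
    (P.isPGroup'.map K.subtype)
    (by
      intro h
      apply hPne
      rw [Subgroup.eq_bot_iff_forall] at h ⊢
      intro x hx
      have := h _ (Subgroup.mem_map_of_mem K.subtype hx)
      exact Subtype.ext this)
    (by
      rintro k hk _ ⟨x, hx, rfl⟩
      have := hPn.conj_mem x hx ⟨k, hk⟩
      exact ⟨_, this, rfl⟩)
  set K' := K.map (MulAut.conj g⁻¹).toMonoidHom with hK'
  have hK'co : IsCoatom K' := isCoatom_map_equiv _ K hKco
  have hK'le : K' ≤ Cfsg.Agent.Lib.Helper50_SL2Rep.Bor := by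
    rintro _ ⟨k, hk, rfl⟩
    show ((MulAut.conj g⁻¹) k) 1 0 = 0
    rw [MulAut.conj_apply, inv_inv]
    exact hg k hk
  have hBor : (Cfsg.Agent.Lib.Helper50_SL2Rep.Bor : Subgroup SL(2, F)) ≠ ⊤ := by
    intro h
    have : tL (1 : F) ∈ (Cfsg.Agent.Lib.Helper50_SL2Rep.Bor : Subgroup SL(2, F)) := by
      rw [h]; exact Subgroup.mem_top _
    have h10 : (tL (1 : F)) 1 0 = 0 := this
    rw [tL10] at h10
    exact one_ne_zero h10
  have hK'eq : K' = Cfsg.Agent.Lib.Helper50_SL2Rep.Bor := eq_of_isCoatom_le hK'co hK'le hBor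
  have hcK : Nat.card K = (Fintype.card F - 1) * Fintype.card F := by
    rw [← card_Bor, ← hK'eq]
    exact Nat.card_congr (K.equivMapOfInjective _ (MulAut.conj g⁻¹).injective).toEquiv
  have hcM := card_map_proj h2 K (negOne_mem_comap M)
  rw [map_comap_proj M, hcK] at hcM
  rw [← hcM, mul_comm]

omit [DecidableEq F] in
/-- **The non-`p`-closed case.** -/
theorem caseA (hp2 : p ≠ 2) (hodd : Odd (Fintype.card F)) (M : Subgroup PSL(2, F))
    (hM : IsCoatom M) (h1 : 1 < Nat.card (Sylow p ↥(M.comap proj))) :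
    (∃ (F₀ : Type) (_ : Field F₀) (_ : Fintype F₀), Fintype.card F = Fintype.card F₀ ^ 2 ∧
        Nonempty (M ≃* Matrix.ProjGenLinGroup (Fin 2) F₀)) ∨
    (∃ (F₀ : Type) (_ : Field F₀) (_ : Fintype F₀) (r : ℕ), r.Prime ∧ Odd r ∧
        Fintype.card F = Fintype.card F₀ ^ r ∧
        Nonempty (M ≃* Matrix.ProjectiveSpecialLinearGroup (Fin 2) F₀)) ∨
    (p = 3 ∧ Nonempty (M ≃* alternatingGroup (Fin 5))) := by
  have h2 : (2 : F) ≠ 0 := two_ne_zero_of_char p hp2
  set K := M.comap proj with hK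
  have hKco : IsCoatom K := isCoatom_comap_proj M hM
  obtain ⟨φ, hU, hL⟩ := Cfsg.Agent.Lib.Helper51_SL2Cases.exists_aut p hp2 K h1
  set M' := K.map φ.toMonoidHom with hM'
  have hco' : IsCoatom M' := isCoatom_map_equiv φ K hKco
  obtain ⟨e⟩ := iso_of_equiv φ K
  have e0 : M ≃* ↥(K.map proj) := MulEquiv.subgroupCongr (map_comap_proj M).symm
  rcases Cfsg.Agent.Lib.Helper51_SL2Sub.engine hp2 M' hU hL with hG | ⟨h3, -, hc⟩
  · rcases sub_case p hp2 hodd M' hco' hG with ⟨F₀, i1, i2, hF, ⟨f⟩⟩ |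
      ⟨F₀, i1, i2, r, hr, hro, hF, ⟨f⟩⟩
    · left
      exact ⟨F₀, i1, i2, hF, ⟨(e0.trans e).trans f⟩⟩
    · right; left
      exact ⟨F₀, i1, i2, r, hr, hro, hF, ⟨(e0.trans e).trans f⟩⟩
  · right; right
    refine ⟨h3, ?_⟩
    have hdvd := card_dvd_of_tU_tL p M' hU hL
    have h24 : Nat.card SL(2, ZMod p) = 24 := by
      subst h3
      rw [Cfsg.Agent.Lib.Helper5_PSLCard.card_SL_two, ZMod.card]
      norm_num
    rw [h24] at hdvd
    have h120 : Nat.card M' = 120 := by
      rcases hc with h | h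
      · rw [h] at hdvd; omega
      · exact h
    have hneg : negOne ∈ M' := by
      have hw := Cfsg.Agent.Lib.Helper51_SL2Sub.wE_mem hU hL
      have : (negOne : SL(2, F)) = Cfsg.Agent.Lib.Helper51_SL2Sub.wE *
          Cfsg.Agent.Lib.Helper51_SL2Sub.wE := by
        apply ext4 <;> simp [negOne, Cfsg.Agent.Lib.Helper51_SL2Sub.wE, mul00, mul01, mul10, mul11]
      rw [this]
      exact M'.mul_mem hw hw
    have hX := card_map_proj h2 M' hneg
    obtain ⟨f⟩ := equiv_A5 (nnc_of_tU_tL p hp2 M' hU hL) (by omega)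
    exact ⟨(e0.trans e).trans f⟩


omit [DecidableEq F] in
/-- a maximal subgroup of `PSL(2,F)` is nontrivial -/
theorem coatom_ne_bot (M : Subgroup PSL(2, F)) (hM : IsCoatom M) : M ≠ ⊥ := by
  rintro rfl
  have hne : (Bb : Subgroup PSL(2, F)) ≠ ⊥ := by
    intro h
    have hmem : proj (tU (1 : F)) ∈ (Bb : Subgroup PSL(2, F)) :=
      ⟨tU 1, by show (tU (1 : F)) 1 0 = 0; exact tU10 _, rfl⟩
    rw [h, Subgroup.mem_bot, proj_eq_one_iff] at hmem
    have := hmem.1
    rw [tU01] at this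
    exact one_ne_zero this
  have htop := hM.2 Bb (bot_lt_iff_ne_bot.2 hne)
  have hidx := index_Bb (F := F)
  rw [htop, Subgroup.index_top] at hidx
  have hpos : 0 < Fintype.card F := Fintype.card_pos
  omega

/-- **Maximal subgroups of `PSL(2,q)`, `q` odd.** -/
theorem main (hodd : Odd (Fintype.card F)) (h5 : 5 ≤ Fintype.card F)
    (M : Subgroup (Matrix.ProjectiveSpecialLinearGroup (Fin 2) F)) (hM : IsCoatom M) :
    2 * Nat.card M = Fintype.card F * (Fintype.card F - 1) ∨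
    (13 ≤ Fintype.card F ∧ (∃ k : ℕ, 2 * k = Fintype.card F - 1 ∧ Nonempty (M ≃* DihedralGroup k))) ∨
    (Fintype.card F ≠ 7 ∧ Fintype.card F ≠ 9 ∧ (∃ k : ℕ, 2 * k = Fintype.card F + 1 ∧ Nonempty (M ≃* DihedralGroup k))) ∨
    (∃ (F₀ : Type) (_ : Field F₀) (_ : Fintype F₀), Fintype.card F = Fintype.card F₀ ^ 2 ∧
        Nonempty (M ≃* Matrix.ProjGenLinGroup (Fin 2) F₀)) ∨
    (∃ (F₀ : Type) (_ : Field F₀) (_ : Fintype F₀) (r : ℕ), r.Prime ∧ Odd r ∧ Fintype.card F = Fintype.card F₀ ^ r ∧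
        Nonempty (M ≃* Matrix.ProjectiveSpecialLinearGroup (Fin 2) F₀)) ∨
    ((Fintype.card F % 10 = 1 ∨ Fintype.card F % 10 = 9) ∧
        (Fintype.card F = p ∨ (Fintype.card F = p ^ 2 ∧ (p % 10 = 3 ∨ p % 10 = 7))) ∧
        Nonempty (M ≃* alternatingGroup (Fin 5))) ∨
    (Fintype.card F = p ∧ (p % 8 = 3 ∨ p % 8 = 5) ∧ ¬ (p % 10 = 1 ∨ p % 10 = 9) ∧
        Nonempty (M ≃* alternatingGroup (Fin 4))) ∨
    (Fintype.card F = p ∧ (p % 8 = 1 ∨ p % 8 = 7) ∧ Nonempty (M ≃* Equiv.Perm (Fin 4))) := by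
  have hpr := (Fact.out : p.Prime)
  have hp2 : p ≠ 2 := by
    intro h
    obtain ⟨n, -, hn⟩ := FiniteField.card F p
    rw [hn, h] at hodd
    have : Even (2 ^ (n : ℕ)) := (Nat.even_pow.2 ⟨even_two, n.ne_zero⟩)
    exact (Nat.not_even_iff_odd.2 hodd) this
  have h2 : (2 : F) ≠ 0 := two_ne_zero_of_char p hp2
  have : IsSimpleGroup PSL(2, F) :=
    Matrix.ProjectiveSpecialLinearGroup.rank_two_simple (by rw [Nat.card_eq_fintype_card]; omega)
  by_cases h1 : 1 < Nat.card (Sylow p ↥(M.comap proj))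
  · rcases caseA p hp2 hodd M hM h1 with h | h | ⟨h3, ⟨e⟩⟩
    · right; right; right; left; exact h
    · right; right; right; right; left; exact h
    · right; right; right; right; right; left
      obtain ⟨ha, hb⟩ := A5_final p hp2 (by rw [h3]; norm_num) hodd M hM e
      exact ⟨ha, hb, ⟨e⟩⟩
  · by_cases hdvd : p ∣ Nat.card ↥(M.comap proj)
    · left
      have hpos : 0 < Nat.card (Sylow p ↥(M.comap proj)) := Nat.card_pos
      exact caseB1 p hp2 M hM (by omega) hdvd
    · right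
      have e0 : M ≃* ↥((M.comap proj).map proj) :=
        MulEquiv.subgroupCongr (map_comap_proj M).symm
      rcases coprime_case' p hp2 (M.comap proj) hdvd with
        ⟨k, hk, hcyc | ⟨⟨f⟩⟩⟩ | ⟨hc, ⟨f⟩⟩ | ⟨hc, ⟨f⟩⟩ | ⟨hc, ⟨f⟩⟩
      · exfalso
        have := hcyc.1
        apply no_abelian_coatom M hM (coatom_ne_bot M hM)
        intro a ha b hb
        have h := mul_comm' (e0 ⟨a, ha⟩) (e0 ⟨b, hb⟩)
        rw [← map_mul, ← map_mul] at h
        exact congrArg Subtype.val (e0.injective h)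
      · rcases dih_final h2 h5 hodd M hM k hk (e0.trans f) with h | h
        · left; exact h
        · right; left; exact h
      · right; right; right; right; right; left
        have hp3 : p ≠ 3 := by
          rintro rfl
          apply hdvd
          rw [hc]; norm_num
        obtain ⟨ha, hb, hc'⟩ := A4_final p hp2 hp3 h5 M hM (e0.trans f)
        exact ⟨ha, hb, hc', ⟨e0.trans f⟩⟩
      · right; right; right; right; right; right
        have hp3 : p ≠ 3 := by
          rintro rfl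
          apply hdvd
          rw [hc]; norm_num
        obtain ⟨ha, hb⟩ := S4_final p hp2 hp3 M hM (e0.trans f)
        exact ⟨ha, hb, ⟨e0.trans f⟩⟩
      · right; right; right; right; left
        have hp5 : p ≠ 5 := by
          rintro rfl
          apply hdvd
          rw [hc]; norm_num
        obtain ⟨ha, hb⟩ := A5_final p hp2 hp5 hodd M hM (e0.trans f)
        exact ⟨ha, hb, ⟨e0.trans f⟩⟩

end Cfsg.Agent.Lib.Helper50_MxMain
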