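import Mathlib
import Cfsg.Agent.Lib.Helper29_ODDefs
import Cfsg.Agent.Lib.Helper94_OrthRefl
import Cfsg.Agent.Lib.Helper35_OD_CONIC
import Cfsg.Agent.Lib.Helper74_OD_BASIC

/-!
# OD-DICH (helper50, second seat, for helper29's row S5677): `dich`

`k = 3`: if the root pair `(y, n)` has `n` orthogonal to a block `D j` on which `y` is supported
and `n` is not orthogonal to `D a`, then `n ∈ D a` (by minimality of the support of `y`).
-/

set_option autoImplicit false

namespace Cfsg.Agent.Lib.Helper50_OD_DICH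

open Module Cfsg.Agent.Lib.Helper94_Symp Cfsg.Agent.Lib.Helper94_OrthSmall
  Cfsg.Agent.Lib.Helper94_OrthSiegel Cfsg.Agent.Lib.Helper94_OrthSiegel2
  Cfsg.Agent.Lib.Helper94_OrthPara Cfsg.Agent.Lib.Helper94_OrthVec
  Cfsg.Agent.Lib.Helper94_OrthNondeg Cfsg.Agent.Lib.Helper94_OrthRefl
  Cfsg.Agent.Lib.Helper29_ODDefs

variable {F V : Type*} [Field F] [AddCommGroup V] [Module F V] [Finite F] [FiniteDimensional F V]
  {Q : V → F} {B : LinearMap.BilinForm F V}

/-- OD-DICH -/
theorem dich {t k : ℕ} {D : Fin t → Submodule F V} {S M : Subgroup (V ≃ₗ[F] V)}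
    (hC : Ctx Q B k D S M) (hk3 : k = 3) (hq : 5 ≤ Nat.card F) (hsb : StarB Q B D M)
    {y n : V} (hy : SingAdm Q D M y) (hp : RootPair Q B M y n)
    (hmin : ∀ y', SingAdm Q D M y' → (supp B D y').card < (supp B D y).card →
      (supp B D y').card ≤ 1)
    {a j : Fin t} (haj : a ≠ j) (hj : ¬ Perp B D y j) (hnj : Perp B D n j)
    (hna : ¬ Perp B D n a) : n ∈ D a := by
  classical
  have hQs := hC.hQs
  have hQp := hC.hQp
  have hsymm := B_symm Q B hQp
  -- `InZ M y n`
  have hinzn : InZ Q B M y n := (hp.inz n).mpr ⟨0, 1, by simp⟩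
  -- `¬ Perp y a`
  have hya : ¬ Perp B D y a := fun h => hna (hsb y hy a h n hinzn)
  -- the conic point
  have hpy : ∃ x ∈ D a, B x y ≠ 0 := by
    unfold Perp at hya
    push Not at hya
    obtain ⟨d, hd, hne⟩ := hya
    exact ⟨d, hd, by rwa [hsymm d y]⟩
  have hpn : ∃ x ∈ D a, B x n ≠ 0 := by
    unfold Perp at hna
    push Not at hna
    obtain ⟨d, hd, hne⟩ := hna
    exact ⟨d, hd, by rwa [hsymm d n]⟩
  obtain ⟨x, hxa, hQx, hβ, hν⟩ := Cfsg.Agent.Lib.Helper35_OD_CONIC.conic hQs hQp hC.h2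
    (by omega) (D a) (hC.hD.nd a) (by rw [hC.hD.fr a, hk3]) y n hpy hpn
  have hx0 : x ≠ 0 := by
    rintro rfl
    apply hβ
    rw [map_zero, LinearMap.zero_apply]
  have hQn := hp.Qn
  -- the Siegel element
  set c : F := -(B x n) / (B x y * Q n) with hc
  have hhM : sieg Q B y (c • n) ∈ M := hinzn.2 c
  have hhO : sieg Q B y (c • n) ∈ oG Q := hC.hMO hhM
  have hycn : B y (c • n) = 0 := by rw [map_smul, smul_eq_mul, hp.Byn, mul_zero]
  have hhx : sieg Q B y (c • n) x = x - (B x n / Q n) • n := by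
    rw [sieg_apply Q B hQs hQp hp.Qy hycn, hQs, map_smul, smul_eq_mul, smul_smul]
    have e1 : B x y * c = -(B x n / Q n) := by
      rw [hc]; field_simp
    have e2 : c * B x n + c * c * Q n * B x y = 0 := by
      rw [hc]; field_simp; ring
    have e3 : x + (B x y * c) • n - (c * B x n) • y - (c * c * Q n * B x y) • y
        = x + (B x y * c) • n - (c * B x n + c * c * Q n * B x y) • y := by
      rw [add_smul]; abel
    rw [e3, e1, e2, zero_smul, sub_zero, neg_smul, sub_eq_add_neg]
  set x' : V := sieg Q B y (c • n) x with hx'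
  -- `x'` is admissible
  have hx'0 : x' ≠ 0 := by
    intro h
    apply hx0
    have : sieg Q B y (c • n) x = sieg Q B y (c • n) 0 := by rw [← hx', h, map_zero]
    exact (sieg Q B y (c • n)).injective this
  have hQx' : Q x' = 0 := by rw [hx', hhO x, hQx]
  have hadm : SingAdm Q D M x' :=
    ⟨hx'0, hQx', sieg Q B y (c • n), hhM, a, ⟨x, hxa, rfl⟩⟩
  -- perp facts
  have hperp_x : ∀ j', j' ≠ a → Perp B D x j' := fun j' hj' d hd =>
    hC.hD.orth a j' (Ne.symm hj') x hxa d hd
  have hperp_x' : ∀ j', j' ≠ a → Perp B D n j' → Perp B D x' j' := by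
    intro j' hj' hn' d hd
    rw [hhx, map_sub, LinearMap.sub_apply, map_smul, LinearMap.smul_apply, hperp_x j' hj' d hd,
      hn' d hd, smul_zero, sub_zero]
  -- the support of `x'` is smaller
  have hsub : supp B D x' ⊆ supp B D y := by
    intro j' hj'
    unfold supp at hj' ⊢
    rw [Finset.mem_filter] at hj' ⊢
    refine ⟨Finset.mem_univ _, fun hyj' => hj'.2 ?_⟩
    have hj'a : j' ≠ a := by
      rintro rfl
      exact hya hyj'
    exact hperp_x' j' hj'a (hsb y hy j' hyj' n hinzn)
  have hjy : j ∈ supp B D y := by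
    unfold supp
    rw [Finset.mem_filter]
    exact ⟨Finset.mem_univ _, hj⟩
  have hjx' : j ∉ supp B D x' := by
    unfold supp
    rw [Finset.mem_filter]
    intro h
    exact h.2 (hperp_x' j (Ne.symm haj) hnj)
  have hlt : (supp B D x').card < (supp B D y).card :=
    Finset.card_lt_card ⟨hsub, fun h => hjx' (h hjy)⟩
  have hle1 := hmin x' hadm hlt
  -- `a` is in the support of `x'`
  have hax' : a ∈ supp B D x' := by
    unfold supp
    rw [Finset.mem_filter]
    refine ⟨Finset.mem_univ _, fun h => ?_⟩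
    have h1 := h x hxa
    rw [hhx, map_sub, LinearMap.sub_apply, map_smul, LinearMap.smul_apply,
      B_self Q B hQs hQp, hQx, mul_zero, zero_sub, smul_eq_mul, neg_eq_zero, hsymm n x] at h1
    have h2 : B x n / Q n ≠ 0 := div_ne_zero hν hQn
    exact (mul_ne_zero h2 hν) h1
  -- so the support of `x'` is `{a}`
  have hall : ∀ j', j' ≠ a → Perp B D x' j' := by
    intro j' hj'
    by_contra hcon
    have hj'x' : j' ∈ supp B D x' := by
      unfold supp
      rw [Finset.mem_filter]
      exact ⟨Finset.mem_univ _, hcon⟩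
    have := Finset.card_le_one.mp hle1 j' hj'x' a hax'
    exact hj' this
  -- hence `n` is orthogonal to all other blocks
  apply Cfsg.Agent.Lib.Helper74_OD_BASIC.mem_of_perp hQs hQp hC.hN hC.hD
  intro j' hj' d hd
  have h1 := hall j' hj' d hd
  rw [hhx, map_sub, LinearMap.sub_apply, map_smul, LinearMap.smul_apply, hperp_x j' hj' d hd,
    zero_sub, smul_eq_mul, neg_eq_zero] at h1
  have h2 : B x n / Q n ≠ 0 := div_ne_zero hν hQn
  exact (mul_eq_zero.mp h1).resolve_left h2

end Cfsg.Agent.Lib.Helper50_OD_DICH
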