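import Mathlib
import Cfsg.Agent.Lib.Helper22_OrthEven_Basic

/-!
# EV45 (helper50, for helper22's even-dimensional orthogonal rows, batch 4)

Over a field with at most three elements the isometries preserving an orthogonal decomposition into
hyperbolic planes fix a proper non-zero subspace: the span `W` of the vectors `v` of the blocks with
`Q v = 1`.  In the block `D 0 = ⟨e, f⟩` (hyperbolic pair) these are the multiples of `e + f`, so
`e - f` is a non-zero vector orthogonal to `W`.
-/

set_option autoImplicit false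

namespace Cfsg.Agent.Lib.Helper50_OrthEven_EV45

open Cfsg Cfsg.Geo Matrix Cfsg.Agent.Lib.Helper22_OrthEven_Basic
open scoped MatrixGroups

variable {ι : Type} [Fintype ι] [DecidableEq ι] {F : Type*} [Field F]

/-- in a field with at most three elements every non-zero element is its own inverse -/
theorem mul_self_eq_one_of_card_le_three [Fintype F] (hq : Fintype.card F ≤ 3) {x : F} (hx : x ≠ 0) :
    x * x = 1 := by
  have h1 := FiniteField.pow_card_sub_one_eq_one x hx
  have h2 : 1 < Fintype.card F := Fintype.one_lt_card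
  have h3 : Fintype.card F = 2 ∨ Fintype.card F = 3 := by omega
  rcases h3 with h3 | h3
  · rw [h3] at h1
    norm_num at h1
    rw [h1, mul_one]
  · rw [h3] at h1
    norm_num at h1
    rcases h1 with h1 | h1 <;> rw [h1] <;> ring

omit [DecidableEq ι] in
/-- a non-degenerate plane of plus type has a hyperbolic pair spanning it -/
theorem exists_hyp_pair (Q : (ι → F) → F) (hQ : IsNondegenerateQuadraticForm Q)
    (W : Submodule F (ι → F)) (hW2 : Module.finrank F W = 2)
    (hnd : IsNondegenerateOn (QuadraticMap.polar Q) W) (hplus : IsPlusTypeOn Q W) :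
    ∃ e ∈ W, ∃ f ∈ W, Q e = 0 ∧ Q f = 0 ∧ QuadraticMap.polar Q e f = 1 ∧
      ∀ v ∈ W, ∃ x y : F, v = x • e + y • f := by
  classical
  have hbil := hQ.polar_bilinear
  obtain ⟨U, hUW, hUts, hUdim⟩ := hplus
  have hU1 : Module.finrank F U = 1 := by omega
  have hUne : U ≠ ⊥ := by
    intro h
    rw [h, finrank_bot] at hU1
    omega
  obtain ⟨e, heU, he0⟩ := Submodule.exists_mem_ne_zero_of_ne_bot hUne
  have heW : e ∈ W := hUW heU
  have hQe : Q e = 0 := hUts e heU
  obtain ⟨-, x, hxW, hx⟩ := hnd e heW he0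
  have hx'W : (QuadraticMap.polar Q e x)⁻¹ • x ∈ W := W.smul_mem _ hxW
  have hex' : QuadraticMap.polar Q e ((QuadraticMap.polar Q e x)⁻¹ • x) = 1 := by
    rw [hbil.smul_right, inv_mul_cancel₀ hx]
  generalize (QuadraticMap.polar Q e x)⁻¹ • x = x' at hx'W hex'
  have hee : QuadraticMap.polar Q e e = 0 := by rw [polar_self Q hQ, hQe, mul_zero]
  have hfW : x' + (-Q x') • e ∈ W := W.add_mem hx'W (W.smul_mem _ heW)
  have hef : QuadraticMap.polar Q e (x' + (-Q x') • e) = 1 := by
    rw [hbil.add_right, hbil.smul_right, hee, mul_zero, add_zero, hex']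
  have hQf : Q (x' + (-Q x') • e) = 0 := by
    rw [Q_add Q, hQ.smul, hQe, mul_zero, add_zero, hbil.smul_right, QuadraticMap.polar_comm, hex']
    ring
  generalize x' + (-Q x') • e = f at hfW hef hQf
  have hff : QuadraticMap.polar Q f f = 0 := by rw [polar_self Q hQ, hQf, mul_zero]
  have hfe : QuadraticMap.polar Q f e = 1 := by rw [QuadraticMap.polar_comm, hef]
  have hz : ∀ u, QuadraticMap.polar Q u 0 = 0 := by
    intro u
    have := hbil.smul_right 0 u 0
    simpa using this
  refine ⟨e, heW, f, hfW, hQe, hQf, hef, ?_⟩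
  have hli : LinearIndependent F ![e, f] := by
    rw [LinearIndependent.pair_iff]
    intro s t hst
    have h1 : QuadraticMap.polar Q e (s • e + t • f) = t := by
      rw [hbil.add_right, hbil.smul_right, hbil.smul_right, hee, hef]; ring
    have h2 : QuadraticMap.polar Q f (s • e + t • f) = s := by
      rw [hbil.add_right, hbil.smul_right, hbil.smul_right, hff, hfe]; ring
    rw [hst, hz] at h1 h2
    exact ⟨h2.symm, h1.symm⟩
  have hspan : Submodule.span F (Set.range ![e, f]) = W := by
    apply Submodule.eq_of_le_of_finrank_eq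
    · rw [Submodule.span_le]
      rintro _ ⟨i, rfl⟩
      fin_cases i
      · exact heW
      · exact hfW
    · rw [finrank_span_eq_card hli, hW2]
      simp
  intro v hv
  rw [← hspan] at hv
  obtain ⟨c, hc⟩ := (Submodule.mem_span_range_iff_exists_fun F).mp hv
  rw [Fin.sum_univ_two] at hc
  exact ⟨c 0, c 1, by simpa using hc.symm⟩

/-- EV45: over a field with at most 3 elements the isometries preserving an orthogonal decomposition
into hyperbolic planes fix a proper non-zero subspace -/
theorem EV45 [Fintype F] (hq : Fintype.card F ≤ 3) (Q : (ι → F) → F) (hQ : IsNondegenerateQuadraticForm Q)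
    (t : ℕ) (D : Fin t → Submodule F (ι → F)) (hD : IsOrthogonalMDecomposition Q 2 D)
    (hb : ∀ i, IsPlusTypeOn Q (D i)) :
    ∃ W : Submodule F (ι → F), W ≠ ⊥ ∧ W ≠ ⊤ ∧
      decompositionStabilizer D ⊓ isometryGroup F Q ≤ subspaceStabilizer W := by
  classical
  have hbil := hQ.polar_bilinear
  have ht : 2 ≤ t := hD.decomp.decomp.two_le
  obtain ⟨i0, hi0⟩ : ∃ i0 : Fin t, i0 = ⟨0, by omega⟩ := ⟨_, rfl⟩
  obtain ⟨e, he, f, hf, hQe, hQf, hef, hsp⟩ := exists_hyp_pair Q hQ (D i0)
    (hD.decomp.decomp.finrank_eq i0) (hD.decomp.nondegenerate i0) (hb i0)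
  have hee : QuadraticMap.polar Q e e = 0 := by rw [polar_self Q hQ, hQe, mul_zero]
  have hff : QuadraticMap.polar Q f f = 0 := by rw [polar_self Q hQ, hQf, mul_zero]
  have hfe : QuadraticMap.polar Q f e = 1 := by rw [QuadraticMap.polar_comm, hef]
  refine ⟨Submodule.span F {v | (∃ i, v ∈ D i) ∧ Q v = 1}, ?_, ?_, ?_⟩
  · -- `≠ ⊥`
    have hn : e + f ∈ {v | (∃ i, v ∈ D i) ∧ Q v = 1} :=
      ⟨⟨i0, (D i0).add_mem he hf⟩, by rw [Q_add Q, hQe, hQf, hef]; ring⟩
    intro h
    have h1 : e + f ∈ Submodule.span F {v | (∃ i, v ∈ D i) ∧ Q v = 1} := Submodule.subset_span hn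
    rw [h, Submodule.mem_bot] at h1
    have h2 : Q (e + f) = 1 := hn.2
    rw [h1, Q_zero Q hQ] at h2
    exact zero_ne_one h2
  · -- `≠ ⊤`
    intro h
    have hx0 : e - f ≠ 0 := by
      intro h0
      have h1 : e = f := sub_eq_zero.mp h0
      rw [h1, hff] at hef
      exact zero_ne_one hef
    have hperp : Submodule.span F {v | (∃ i, v ∈ D i) ∧ Q v = 1}
        ≤ LinearMap.ker (polarBil Q hQ (e - f)) := by
      rw [Submodule.span_le]
      rintro v ⟨⟨i, hvi⟩, hQv⟩
      rw [SetLike.mem_coe, LinearMap.mem_ker]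
      by_cases hi : i = i0
      · rw [hi] at hvi
        obtain ⟨x, y, rfl⟩ := hsp v hvi
        have hxy : x * y = 1 := by
          rw [Q_add Q, hQ.smul, hQ.smul, hQe, hQf, hbil.smul_left, hbil.smul_right, hef] at hQv
          linear_combination hQv
        have hx : x ≠ 0 := left_ne_zero_of_mul_eq_one hxy
        have hxx := mul_self_eq_one_of_card_le_three hq hx
        have hyx : y = x := by
          calc y = (x * x) * y := by rw [hxx, one_mul]
            _ = x * (x * y) := by ring
            _ = x := by rw [hxy, mul_one]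
        rw [hyx]
        simp only [map_sub, map_add, map_smul, LinearMap.sub_apply, smul_eq_mul, polarBil_apply,
          hee, hff, hef, hfe]
        ring
      · rw [polarBil_apply]
        exact hD.decomp.orthogonal i0 i (Ne.symm hi) (e - f) ((D i0).sub_mem he hf) v hvi
    obtain ⟨-, x, hx⟩ := hQ.nondegenerate (e - f) hx0
    apply hx
    have hxtop : x ∈ Submodule.span F {v | (∃ i, v ∈ D i) ∧ Q v = 1} := by rw [h]; trivial
    have := hperp hxtop
    rwa [LinearMap.mem_ker, polarBil_apply] at this
  · -- invariance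
    have key : ∀ h : GL ι F, h ∈ decompositionStabilizer D ⊓ isometryGroup F Q →
        ∀ v ∈ Submodule.span F {v | (∃ i, v ∈ D i) ∧ Q v = 1},
          (h : Matrix ι ι F) *ᵥ v ∈ Submodule.span F {v | (∃ i, v ∈ D i) ∧ Q v = 1} := by
      intro h hh v hv
      obtain ⟨⟨σ, hσ⟩, hiso⟩ := hh
      have hle : Submodule.span F {v | (∃ i, v ∈ D i) ∧ Q v = 1} ≤
          (Submodule.span F {v | (∃ i, v ∈ D i) ∧ Q v = 1}).comap
            (Matrix.toLin' (h : Matrix ι ι F)) := by
        rw [Submodule.span_le]
        rintro w ⟨⟨i, hwi⟩, hQw⟩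
        rw [SetLike.mem_coe, Submodule.mem_comap, Matrix.toLin'_apply]
        apply Submodule.subset_span
        refine ⟨⟨σ i, ?_⟩, ?_⟩
        · rw [← hσ i]
          exact ⟨w, hwi, Matrix.toLin'_apply _ _⟩
        · have h3 : Q ((h : Matrix ι ι F) *ᵥ w) = Q w := hiso w w
          rw [h3, hQw]
      have h4 := hle hv
      rwa [Submodule.mem_comap, Matrix.toLin'_apply] at h4
    intro g hg
    rw [mem_subspaceStabilizer_iff]
    intro v
    constructor
    · exact key g hg v
    · intro hgv
      have h5 := key g⁻¹ (Subgroup.inv_mem _ hg) _ hgv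
      rwa [Matrix.mulVec_mulVec, ← Units.val_mul, inv_mul_cancel, Units.val_one,
        Matrix.one_mulVec] at h5

end Cfsg.Agent.Lib.Helper50_OrthEven_EV45
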