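import Mathlib
import Cfsg.Agent.Lib.Helper22_OrthEven_Basic
import Cfsg.Agent.Lib.Helper43_OrthEven_EV27

/-!
# PL7 (helper50, for helper85's row S5871)

`q = 2`: an isometric orthogonal decomposition into 4-spaces of plus type is refined by an isometric
orthogonal decomposition into anisotropic planes, preserved by the isometries preserving the first.

A plus-type 4-space over the field with two elements is the orthogonal sum of two anisotropic planes
`⟨a, b⟩`, `⟨c, d⟩` (`Q a = Q b = f a b = 1`, same for `c, d`), and its non-singular vectors are the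
non-zero vectors of these two planes.
-/

set_option autoImplicit false

namespace Cfsg.Agent.Lib.Helper50_OrthEven_PL7

open Cfsg Cfsg.Geo Matrix Module Cfsg.Agent.Lib.Helper22_OrthEven_Basic
open scoped MatrixGroups

variable {ι : Type} [Fintype ι] [DecidableEq ι] {F : Type*} [Field F]

/-! ### the field with two elements -/

omit [Fintype ι] [DecidableEq ι] in
theorem zero_or_one [Fintype F] (hq : Fintype.card F = 2) (x : F) : x = 0 ∨ x = 1 := by
  by_cases hx : x = 0
  · exact Or.inl hx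
  · right
    have h1 := FiniteField.pow_card_sub_one_eq_one x hx
    rw [hq] at h1
    simpa using h1

omit [Fintype ι] [DecidableEq ι] in
theorem two_eq_zero2 [Fintype F] (hq : Fintype.card F = 2) : (2 : F) = 0 := by
  have h := Nat.cast_card_eq_zero F
  rw [hq] at h
  exact_mod_cast h

/-! ### hyperbolic pairs and bases -/

omit [Fintype ι] [DecidableEq ι] in
/-- a singular non-zero vector of a non-degenerate subspace has a singular partner -/
theorem exists_partner (Q : (ι → F) → F) (hQ : IsNondegenerateQuadraticForm Q)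
    (W : Submodule F (ι → F)) (hnd : IsNondegenerateOn (QuadraticMap.polar Q) W)
    {e : ι → F} (heW : e ∈ W) (he0 : e ≠ 0) (hQe : Q e = 0) :
    ∃ f ∈ W, Q f = 0 ∧ QuadraticMap.polar Q e f = 1 := by
  have hbil := hQ.polar_bilinear
  obtain ⟨-, x, hxW, hx⟩ := hnd e heW he0
  have hx'W : (QuadraticMap.polar Q e x)⁻¹ • x ∈ W := W.smul_mem _ hxW
  have hex' : QuadraticMap.polar Q e ((QuadraticMap.polar Q e x)⁻¹ • x) = 1 := by
    rw [hbil.smul_right, inv_mul_cancel₀ hx]
  generalize (QuadraticMap.polar Q e x)⁻¹ • x = x' at hx'W hex'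
  have hee : QuadraticMap.polar Q e e = 0 := by rw [polar_self Q hQ, hQe, mul_zero]
  refine ⟨x' + (-Q x') • e, W.add_mem hx'W (W.smul_mem _ heW), ?_, ?_⟩
  · rw [Q_add Q, hQ.smul, hQe, mul_zero, add_zero, hbil.smul_right, QuadraticMap.polar_comm, hex']
    ring
  · rw [hbil.add_right, hbil.smul_right, hee, mul_zero, add_zero, hex']

omit [Fintype ι] [DecidableEq ι] in
/-- a non-degenerate 4-space of plus type has a hyperbolic basis -/
theorem exists_hyp_basis4 (Q : (ι → F) → F) (hQ : IsNondegenerateQuadraticForm Q)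
    (W : Submodule F (ι → F)) (hW4 : finrank F W = 4)
    (hnd : IsNondegenerateOn (QuadraticMap.polar Q) W) (hplus : IsPlusTypeOn Q W) :
    ∃ e1 ∈ W, ∃ f1 ∈ W, ∃ e2 ∈ W, ∃ f2 ∈ W, Q e1 = 0 ∧ Q f1 = 0 ∧ Q e2 = 0 ∧ Q f2 = 0 ∧
      QuadraticMap.polar Q e1 f1 = 1 ∧ QuadraticMap.polar Q e2 f2 = 1 ∧
      QuadraticMap.polar Q e1 e2 = 0 ∧ QuadraticMap.polar Q e1 f2 = 0 ∧
      QuadraticMap.polar Q f1 e2 = 0 ∧ QuadraticMap.polar Q f1 f2 = 0 := by
  classical
  obtain ⟨U, hUW, hUts, hUdim⟩ := hplus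
  have hU2 : finrank F U = 2 := by omega
  have hB : ∀ u v, QuadraticMap.polar Q u v = polarBil Q hQ u v := fun _ _ => rfl
  have hBsymm : ∀ u v, polarBil Q hQ u v = polarBil Q hQ v u :=
    fun u v => QuadraticMap.polar_comm Q u v
  have hBself : ∀ u, polarBil Q hQ u u = 2 * Q u := fun u => polar_self Q hQ u
  have hUiso : ∀ u ∈ U, ∀ v ∈ U, polarBil Q hQ u v = 0 := by
    intro u hu v hv
    show QuadraticMap.polar Q u v = 0
    unfold QuadraticMap.polar
    rw [hUts _ (U.add_mem hu hv), hUts u hu, hUts v hv]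
    ring
  have hUne : U ≠ ⊥ := by
    intro h
    rw [h, finrank_bot] at hU2
    omega
  obtain ⟨e1, he1U, he10⟩ := Submodule.exists_mem_ne_zero_of_ne_bot hUne
  have hQe1 := hUts e1 he1U
  obtain ⟨f1, hf1W, hQf1, he1f1⟩ := exists_partner Q hQ W hnd (hUW he1U) he10 hQe1
  rw [hB] at he1f1
  have hex : ∃ u ∈ U, u ∉ Submodule.span F {e1} := by
    by_contra hcon
    push Not at hcon
    have hle : U ≤ Submodule.span F {e1} := hcon
    have := Submodule.finrank_mono hle
    rw [hU2, finrank_span_singleton he10] at this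
    omega
  obtain ⟨e2', he2'U, he2'n⟩ := hex
  have he2U : e2' - (polarBil Q hQ e2' f1) • e1 ∈ U := U.sub_mem he2'U (U.smul_mem _ he1U)
  have he20 : e2' - (polarBil Q hQ e2' f1) • e1 ≠ 0 := by
    intro h
    apply he2'n
    rw [Submodule.mem_span_singleton]
    exact ⟨polarBil Q hQ e2' f1, (sub_eq_zero.mp h).symm⟩
  have he2f1 : polarBil Q hQ (e2' - (polarBil Q hQ e2' f1) • e1) f1 = 0 := by
    rw [map_sub, map_smul, LinearMap.sub_apply, LinearMap.smul_apply, smul_eq_mul, he1f1]
    ring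
  generalize e2' - (polarBil Q hQ e2' f1) • e1 = e2 at he2U he20 he2f1
  have hQe2 := hUts e2 he2U
  have he1e2 : polarBil Q hQ e1 e2 = 0 := hUiso e1 he1U e2 he2U
  obtain ⟨x2, hx2W, -, he2x2⟩ := exists_partner Q hQ W hnd (hUW he2U) he20 hQe2
  rw [hB] at he2x2
  have he1e1 : polarBil Q hQ e1 e1 = 0 := by rw [hBself, hQe1, mul_zero]
  have hf1f1 : polarBil Q hQ f1 f1 = 0 := by rw [hBself, hQf1, mul_zero]
  have he2e2 : polarBil Q hQ e2 e2 = 0 := by rw [hBself, hQe2, mul_zero]
  have hf1e1 : polarBil Q hQ f1 e1 = 1 := by rw [hBsymm, he1f1]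
  have he2e1 : polarBil Q hQ e2 e1 = 0 := by rw [hBsymm, he1e2]
  have hf1e2 : polarBil Q hQ f1 e2 = 0 := by rw [hBsymm, he2f1]
  have hy1 : polarBil Q hQ e1
      (x2 - (polarBil Q hQ x2 f1) • e1 - (polarBil Q hQ x2 e1) • f1) = 0 := by
    simp only [map_sub, map_smul, smul_eq_mul, he1e1, he1f1, hBsymm x2 e1]
    ring
  have hy2 : polarBil Q hQ f1
      (x2 - (polarBil Q hQ x2 f1) • e1 - (polarBil Q hQ x2 e1) • f1) = 0 := by
    simp only [map_sub, map_smul, smul_eq_mul, hf1e1, hf1f1, hBsymm x2 f1]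
    ring
  have hy3 : polarBil Q hQ e2
      (x2 - (polarBil Q hQ x2 f1) • e1 - (polarBil Q hQ x2 e1) • f1) = 1 := by
    simp only [map_sub, map_smul, smul_eq_mul, he2e1, he2f1, he2x2]
    ring
  have hyW : x2 - (polarBil Q hQ x2 f1) • e1 - (polarBil Q hQ x2 e1) • f1 ∈ W :=
    W.sub_mem (W.sub_mem hx2W (W.smul_mem _ (hUW he1U))) (W.smul_mem _ hf1W)
  generalize x2 - (polarBil Q hQ x2 f1) • e1 - (polarBil Q hQ x2 e1) • f1 = y at hy1 hy2 hy3 hyW
  refine ⟨e1, hUW he1U, f1, hf1W, e2, hUW he2U, y + (-Q y) • e2,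
    W.add_mem hyW (W.smul_mem _ (hUW he2U)), hQe1, hQf1, hQe2, ?_, ?_, ?_, ?_, ?_, ?_, ?_⟩
  · rw [Q_add Q, hQ.smul, hQe2, mul_zero, add_zero, hB, map_smul, smul_eq_mul, hBsymm, hy3]
    ring
  · rw [hB, he1f1]
  · rw [hB, map_add, map_smul, smul_eq_mul, hy3, he2e2]
    ring
  · rw [hB, he1e2]
  · rw [hB, map_add, map_smul, smul_eq_mul, hy1, he1e2]
    ring
  · rw [hB, hf1e2]
  · rw [hB, map_add, map_smul, smul_eq_mul, hy2, hf1e2]
    ring

/-! ### anisotropic planes over the field with two elements -/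

omit [Fintype ι] [DecidableEq ι] in
theorem Q_pair (Q : (ι → F) → F) (hQ : IsNondegenerateQuadraticForm Q) {u v : ι → F}
    (hu : Q u = 1) (hv : Q v = 1) (huv : QuadraticMap.polar Q u v = 1) (α β : F) :
    Q (α • u + β • v) = α * α + α * β + β * β := by
  rw [Cfsg.Agent.Lib.Helper43_OrthEven_EV27.Q_comb Q hQ, hu, hv, huv]
  ring

omit [Fintype ι] [DecidableEq ι] in
theorem norm_cases [Fintype F] (hq : Fintype.card F = 2) (α β : F) :
    (α = 0 ∧ β = 0) ∨ α * α + α * β + β * β = 1 := by
  have h2 := two_eq_zero2 hq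
  rcases zero_or_one hq α with rfl | rfl <;> rcases zero_or_one hq β with rfl | rfl
  · exact Or.inl ⟨rfl, rfl⟩
  · right; ring
  · right; ring
  · right; linear_combination h2

omit [Fintype ι] [DecidableEq ι] in
/-- pairing a combination of an anisotropic pair with the two vectors -/
theorem polar_pair (Q : (ι → F) → F) (hQ : IsNondegenerateQuadraticForm Q) (h2 : (2 : F) = 0)
    {u v : ι → F} (hu : Q u = 1) (hv : Q v = 1) (huv : QuadraticMap.polar Q u v = 1) (α β : F) :
    QuadraticMap.polar Q u (α • u + β • v) = β ∧ QuadraticMap.polar Q v (α • u + β • v) = α := by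
  have hbil := hQ.polar_bilinear
  constructor
  · rw [hbil.add_right, hbil.smul_right, hbil.smul_right, polar_self Q hQ, hu, huv]
    linear_combination α * h2
  · rw [hbil.add_right, hbil.smul_right, hbil.smul_right, polar_self Q hQ, hv,
      QuadraticMap.polar_comm, huv]
    linear_combination β * h2

omit [Fintype ι] [DecidableEq ι] in
theorem pair_eq_zero (Q : (ι → F) → F) (hQ : IsNondegenerateQuadraticForm Q) (h2 : (2 : F) = 0)
    {u v : ι → F} (hu : Q u = 1) (hv : Q v = 1) (huv : QuadraticMap.polar Q u v = 1) {α β : F}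
    (h : α • u + β • v = 0) : α = 0 ∧ β = 0 := by
  obtain ⟨h1, h3⟩ := polar_pair Q hQ h2 hu hv huv α β
  have hz : ∀ w, QuadraticMap.polar Q w 0 = 0 := by
    intro w
    have := hQ.polar_bilinear.smul_right 0 w 0
    simpa using this
  rw [h, hz] at h1 h3
  exact ⟨h3.symm, h1.symm⟩

omit [Fintype ι] [DecidableEq ι] in
theorem li_pair (Q : (ι → F) → F) (hQ : IsNondegenerateQuadraticForm Q) (h2 : (2 : F) = 0)
    {u v : ι → F} (hu : Q u = 1) (hv : Q v = 1) (huv : QuadraticMap.polar Q u v = 1) :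
    LinearIndependent F ![u, v] := by
  rw [LinearIndependent.pair_iff]
  intro s t hst
  exact pair_eq_zero Q hQ h2 hu hv huv hst

omit [Fintype ι] [DecidableEq ι] in
theorem finrank_pair (Q : (ι → F) → F) (hQ : IsNondegenerateQuadraticForm Q) (h2 : (2 : F) = 0)
    {u v : ι → F} (hu : Q u = 1) (hv : Q v = 1) (huv : QuadraticMap.polar Q u v = 1) :
    finrank F (Submodule.span F {u, v}) = 2 := by
  have h := finrank_span_eq_card (li_pair Q hQ h2 hu hv huv)
  have hr : Set.range ![u, v] = {u, v} := by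
    ext x
    simp only [Set.mem_range, Set.mem_insert_iff, Set.mem_singleton_iff]
    constructor
    · rintro ⟨i, rfl⟩
      fin_cases i
      · left; rfl
      · right; rfl
    · rintro (rfl | rfl)
      · exact ⟨0, rfl⟩
      · exact ⟨1, rfl⟩
  rw [hr] at h
  simpa using h

omit [Fintype ι] [DecidableEq ι] in
theorem nd_pair (Q : (ι → F) → F) (hQ : IsNondegenerateQuadraticForm Q) (h2 : (2 : F) = 0)
    {u v : ι → F} (hu : Q u = 1) (hv : Q v = 1) (huv : QuadraticMap.polar Q u v = 1) :
    IsNondegenerateOn (QuadraticMap.polar Q) (Submodule.span F {u, v}) := by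
  intro w hw hw0
  obtain ⟨α, β, rfl⟩ := Submodule.mem_span_pair.mp hw
  obtain ⟨h1, h3⟩ := polar_pair Q hQ h2 hu hv huv α β
  have huP : u ∈ Submodule.span F {u, v} := Submodule.subset_span (by simp)
  have hvP : v ∈ Submodule.span F {u, v} := Submodule.subset_span (by simp)
  by_cases hβ : β = 0
  · have hα : α ≠ 0 := by
      rintro rfl
      apply hw0
      rw [hβ, zero_smul, zero_smul, add_zero]
    refine ⟨⟨v, hvP, by rw [h3]; exact hα⟩, ⟨v, hvP, ?_⟩⟩
    rw [QuadraticMap.polar_comm, h3]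
    exact hα
  · refine ⟨⟨u, huP, by rw [h1]; exact hβ⟩, ⟨u, huP, ?_⟩⟩
    rw [QuadraticMap.polar_comm, h1]
    exact hβ

omit [Fintype ι] [DecidableEq ι] in
theorem Q_eq_one_of_mem_pair [Fintype F] (hq : Fintype.card F = 2) (Q : (ι → F) → F)
    (hQ : IsNondegenerateQuadraticForm Q)
    {u v : ι → F} (hu : Q u = 1) (hv : Q v = 1) (huv : QuadraticMap.polar Q u v = 1)
    {x : ι → F} (hx : x ∈ Submodule.span F {u, v}) (hx0 : x ≠ 0) : Q x = 1 := by
  obtain ⟨α, β, rfl⟩ := Submodule.mem_span_pair.mp hx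
  rw [Q_pair Q hQ hu hv huv]
  rcases norm_cases hq α β with ⟨rfl, rfl⟩ | h
  · exfalso
    apply hx0
    rw [zero_smul, zero_smul, add_zero]
  · exact h

omit [Fintype ι] [DecidableEq ι] in
theorem not_plus_pair [Fintype F] (hq : Fintype.card F = 2) (Q : (ι → F) → F)
    (hQ : IsNondegenerateQuadraticForm Q)
    {u v : ι → F} (hu : Q u = 1) (hv : Q v = 1) (huv : QuadraticMap.polar Q u v = 1) :
    ¬ IsPlusTypeOn Q (Submodule.span F {u, v}) := by
  rintro ⟨U, hUP, hUts, hUdim⟩
  rw [finrank_pair Q hQ (two_eq_zero2 hq) hu hv huv] at hUdim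
  have hUne : U ≠ ⊥ := by
    intro h
    rw [h, finrank_bot] at hUdim
    omega
  obtain ⟨x, hxU, hx0⟩ := Submodule.exists_mem_ne_zero_of_ne_bot hUne
  have h1 := Q_eq_one_of_mem_pair hq Q hQ hu hv huv (hUP hxU) hx0
  rw [hUts x hxU] at h1
  exact zero_ne_one h1

omit [Fintype ι] [DecidableEq ι] in
theorem orth_pair (Q : (ι → F) → F) (hQ : IsNondegenerateQuadraticForm Q)
    {u v u' v' : ι → F} (h1 : QuadraticMap.polar Q u u' = 0) (h2 : QuadraticMap.polar Q u v' = 0)
    (h3 : QuadraticMap.polar Q v u' = 0) (h4 : QuadraticMap.polar Q v v' = 0) :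
    AreOrthogonalFor (QuadraticMap.polar Q) (Submodule.span F {u, v}) (Submodule.span F {u', v'}) := by
  have hbil := hQ.polar_bilinear
  intro x hx y hy
  obtain ⟨α, β, rfl⟩ := Submodule.mem_span_pair.mp hx
  obtain ⟨γ, δ, rfl⟩ := Submodule.mem_span_pair.mp hy
  rw [hbil.add_left, hbil.add_right, hbil.add_right, hbil.smul_left, hbil.smul_left,
    hbil.smul_left, hbil.smul_left, hbil.smul_right, hbil.smul_right, hbil.smul_right,
    hbil.smul_right, h1, h2, h3, h4]
  ring

omit [Fintype ι] [DecidableEq ι] in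
theorem isometric_pair (Q : (ι → F) → F) (hQ : IsNondegenerateQuadraticForm Q) (h2 : (2 : F) = 0)
    {u v u' v' : ι → F} (hu : Q u = 1) (hv : Q v = 1) (huv : QuadraticMap.polar Q u v = 1)
    (hu' : Q u' = 1) (hv' : Q v' = 1) (huv' : QuadraticMap.polar Q u' v' = 1) :
    AreIsometricFor Q (Submodule.span F {u, v}) (Submodule.span F {u', v'}) := by
  classical
  have hr : ∀ a b : ι → F, Set.range ![a, b] = {a, b} := by
    intro a b
    ext x
    simp only [Set.mem_range, Set.mem_insert_iff, Set.mem_singleton_iff]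
    constructor
    · rintro ⟨i, rfl⟩
      fin_cases i
      · left; rfl
      · right; rfl
    · rintro (rfl | rfl)
      · exact ⟨0, rfl⟩
      · exact ⟨1, rfl⟩
  rw [← hr u v, ← hr u' v']
  set b1 := Basis.span (li_pair Q hQ h2 hu hv huv) with hb1
  set b2 := Basis.span (li_pair Q hQ h2 hu' hv' huv') with hb2
  refine ⟨b1.equiv b2 (Equiv.refl _), fun w => ?_⟩
  have hw : w = b1.repr w 0 • b1 0 + b1.repr w 1 • b1 1 := by
    conv_lhs => rw [← b1.sum_repr w]
    rw [Fin.sum_univ_two]
  have hw1 : (w : ι → F) = b1.repr w 0 • u + b1.repr w 1 • v := by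
    conv_lhs => rw [hw]
    rw [Submodule.coe_add, Submodule.coe_smul, Submodule.coe_smul, hb1, Basis.span_apply,
      Basis.span_apply]
    rfl
  have hw2 : ((b1.equiv b2 (Equiv.refl _) w : Submodule.span F (Set.range ![u', v'])) : ι → F)
      = b1.repr w 0 • u' + b1.repr w 1 • v' := by
    conv_lhs => rw [hw]
    rw [map_add, map_smul, map_smul, Basis.equiv_apply, Basis.equiv_apply, Submodule.coe_add,
      Submodule.coe_smul, Submodule.coe_smul, Equiv.refl_apply, Equiv.refl_apply, hb2,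
      Basis.span_apply, Basis.span_apply]
    rfl
  rw [hw1, hw2, Q_pair Q hQ hu hv huv, Q_pair Q hQ hu' hv' huv']

/-! ### the structure of a plus-type 4-space over the field with two elements -/

omit [Fintype ι] [DecidableEq ι] in
theorem polar_four (Q : (ι → F) → F) (hQ : IsNondegenerateQuadraticForm Q) (h2 : (2 : F) = 0)
    {a b c d : ι → F} (hQa : Q a = 1) (hQb : Q b = 1) (hQc : Q c = 1) (hQd : Q d = 1)
    (hab : QuadraticMap.polar Q a b = 1) (hcd : QuadraticMap.polar Q c d = 1)
    (hac : QuadraticMap.polar Q a c = 0) (had : QuadraticMap.polar Q a d = 0)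
    (hbc : QuadraticMap.polar Q b c = 0) (hbd : QuadraticMap.polar Q b d = 0) (α β γ δ : F) :
    QuadraticMap.polar Q a (α • a + β • b + γ • c + δ • d) = β ∧
    QuadraticMap.polar Q b (α • a + β • b + γ • c + δ • d) = α ∧
    QuadraticMap.polar Q c (α • a + β • b + γ • c + δ • d) = δ ∧
    QuadraticMap.polar Q d (α • a + β • b + γ • c + δ • d) = γ := by
  have hbil := hQ.polar_bilinear
  have hba : QuadraticMap.polar Q b a = 1 := by rw [QuadraticMap.polar_comm, hab]
  have hdc : QuadraticMap.polar Q d c = 1 := by rw [QuadraticMap.polar_comm, hcd]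
  have hca : QuadraticMap.polar Q c a = 0 := by rw [QuadraticMap.polar_comm, hac]
  have hda : QuadraticMap.polar Q d a = 0 := by rw [QuadraticMap.polar_comm, had]
  have hcb : QuadraticMap.polar Q c b = 0 := by rw [QuadraticMap.polar_comm, hbc]
  have hdb : QuadraticMap.polar Q d b = 0 := by rw [QuadraticMap.polar_comm, hbd]
  refine ⟨?_, ?_, ?_, ?_⟩
  · simp only [hbil.add_right, hbil.smul_right, polar_self Q hQ, hQa, hab, hac, had]
    linear_combination α * h2
  · simp only [hbil.add_right, hbil.smul_right, polar_self Q hQ, hQb, hba, hbc, hbd]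
    linear_combination β * h2
  · simp only [hbil.add_right, hbil.smul_right, polar_self Q hQ, hQc, hca, hcb, hcd]
    linear_combination γ * h2
  · simp only [hbil.add_right, hbil.smul_right, polar_self Q hQ, hQd, hda, hdb, hdc]
    linear_combination δ * h2

omit [DecidableEq ι] in
/-- a plus-type 4-space over the field with two elements is the orthogonal sum of two anisotropic
planes, which contain all its non-singular vectors -/
theorem block_F2 [Fintype F] (hq : Fintype.card F = 2) (Q : (ι → F) → F)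
    (hQ : IsNondegenerateQuadraticForm Q) (W : Submodule F (ι → F)) (hW4 : finrank F W = 4)
    (hnd : IsNondegenerateOn (QuadraticMap.polar Q) W) (hplus : IsPlusTypeOn Q W) :
    ∃ a ∈ W, ∃ b ∈ W, ∃ c ∈ W, ∃ d ∈ W, Q a = 1 ∧ Q b = 1 ∧ Q c = 1 ∧ Q d = 1 ∧
      QuadraticMap.polar Q a b = 1 ∧ QuadraticMap.polar Q c d = 1 ∧
      QuadraticMap.polar Q a c = 0 ∧ QuadraticMap.polar Q a d = 0 ∧
      QuadraticMap.polar Q b c = 0 ∧ QuadraticMap.polar Q b d = 0 ∧
      W = Submodule.span F {a, b} ⊔ Submodule.span F {c, d} ∧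
      ∀ x ∈ W, Q x = 1 → x ∈ Submodule.span F {a, b} ∨ x ∈ Submodule.span F {c, d} := by
  classical
  have h2 := two_eq_zero2 hq
  have hbil := hQ.polar_bilinear
  obtain ⟨e1, he1, f1, hf1, e2, he2, f2, hf2, hQe1, hQf1, hQe2, hQf2, g12, g34, g13, g14, g23, g24⟩ :=
    exists_hyp_basis4 Q hQ W hW4 hnd hplus
  have hB : ∀ u v, QuadraticMap.polar Q u v = polarBil Q hQ u v := fun _ _ => rfl
  have hBsymm : ∀ u v, polarBil Q hQ u v = polarBil Q hQ v u :=
    fun u v => QuadraticMap.polar_comm Q u v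
  have hBself : ∀ u, polarBil Q hQ u u = 2 * Q u := fun u => polar_self Q hQ u
  rw [hB] at g12 g34 g13 g14 g23 g24
  have g11 : polarBil Q hQ e1 e1 = 0 := by rw [hBself, hQe1, mul_zero]
  have g22 : polarBil Q hQ f1 f1 = 0 := by rw [hBself, hQf1, mul_zero]
  have g33 : polarBil Q hQ e2 e2 = 0 := by rw [hBself, hQe2, mul_zero]
  have g44 : polarBil Q hQ f2 f2 = 0 := by rw [hBself, hQf2, mul_zero]
  have g21 : polarBil Q hQ f1 e1 = 1 := by rw [hBsymm, g12]
  have g43 : polarBil Q hQ f2 e2 = 1 := by rw [hBsymm, g34]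
  have g31 : polarBil Q hQ e2 e1 = 0 := by rw [hBsymm, g13]
  have g41 : polarBil Q hQ f2 e1 = 0 := by rw [hBsymm, g14]
  have g32 : polarBil Q hQ e2 f1 = 0 := by rw [hBsymm, g23]
  have g42 : polarBil Q hQ f2 f1 = 0 := by rw [hBsymm, g24]
  have hQa : Q (e2 + f2) = 1 := by
    simp only [Q_add Q, hB, hQe2, hQf2, g34]
    ring
  have hQb : Q (e1 + f1 + e2) = 1 := by
    simp only [Q_add Q, hB, map_add, LinearMap.add_apply, hQe1, hQf1, hQe2, g12, g13, g23]
    ring
  have hQc : Q (e1 + f1) = 1 := by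
    simp only [Q_add Q, hB, hQe1, hQf1, g12]
    ring
  have hQd : Q (e2 + f2 + e1) = 1 := by
    simp only [Q_add Q, hB, map_add, LinearMap.add_apply, hQe1, hQf2, hQe2, g34, g31, g41]
    ring
  have hab : QuadraticMap.polar Q (e2 + f2) (e1 + f1 + e2) = 1 := by
    simp only [hB, map_add, LinearMap.add_apply, g31, g32, g33, g41, g42, g43]
    ring
  have hcd : QuadraticMap.polar Q (e1 + f1) (e2 + f2 + e1) = 1 := by
    simp only [hB, map_add, LinearMap.add_apply, g13, g14, g11, g23, g24, g21]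
    ring
  have hac : QuadraticMap.polar Q (e2 + f2) (e1 + f1) = 0 := by
    simp only [hB, map_add, LinearMap.add_apply, g31, g32, g41, g42]
    ring
  have had : QuadraticMap.polar Q (e2 + f2) (e2 + f2 + e1) = 0 := by
    simp only [hB, map_add, LinearMap.add_apply, g33, g34, g31, g43, g44, g41]
    linear_combination h2
  have hbc : QuadraticMap.polar Q (e1 + f1 + e2) (e1 + f1) = 0 := by
    simp only [hB, map_add, LinearMap.add_apply, g11, g12, g21, g22, g31, g32]
    linear_combination h2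
  have hbd : QuadraticMap.polar Q (e1 + f1 + e2) (e2 + f2 + e1) = 0 := by
    simp only [hB, map_add, LinearMap.add_apply, g13, g14, g11, g23, g24, g21, g33, g34, g31]
    linear_combination h2
  have haW : e2 + f2 ∈ W := W.add_mem he2 hf2
  have hbW : e1 + f1 + e2 ∈ W := W.add_mem (W.add_mem he1 hf1) he2
  have hcW : e1 + f1 ∈ W := W.add_mem he1 hf1
  have hdW : e2 + f2 + e1 ∈ W := W.add_mem (W.add_mem he2 hf2) he1
  generalize e1 + f1 + e2 = b at hQb hab hbc hbd hbW
  generalize e2 + f2 + e1 = d at hQd hcd had hbd hdW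
  generalize e2 + f2 = a at hQa hab hac had haW
  generalize e1 + f1 = c at hQc hcd hac hbc hcW
  have hp4 := polar_four Q hQ h2 hQa hQb hQc hQd hab hcd hac had hbc hbd
  have hz : ∀ w, QuadraticMap.polar Q w 0 = 0 := by
    intro w
    have := hbil.smul_right 0 w 0
    simpa using this
  -- the four vectors span `W`
  have hli : LinearIndependent F ![a, b, c, d] := by
    rw [Fintype.linearIndependent_iff]
    intro g hg
    rw [Fin.sum_univ_four] at hg
    have hg' : g 0 • a + g 1 • b + g 2 • c + g 3 • d = 0 := by simpa using hg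
    obtain ⟨h1, h3, h4, h5⟩ := hp4 (g 0) (g 1) (g 2) (g 3)
    rw [hg', hz] at h1 h3 h4 h5
    intro i
    fin_cases i
    · exact h3.symm
    · exact h1.symm
    · exact h5.symm
    · exact h4.symm
  have hspan : Submodule.span F (Set.range ![a, b, c, d]) = W := by
    apply Submodule.eq_of_le_of_finrank_eq
    · rw [Submodule.span_le]
      rintro _ ⟨i, rfl⟩
      fin_cases i
      · exact haW
      · exact hbW
      · exact hcW
      · exact hdW
    · rw [finrank_span_eq_card hli, hW4]
      simp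
  have hrep : ∀ x ∈ W, ∃ α β γ δ : F, x = α • a + β • b + γ • c + δ • d := by
    intro x hx
    rw [← hspan] at hx
    obtain ⟨g, hg⟩ := (Submodule.mem_span_range_iff_exists_fun F).mp hx
    rw [Fin.sum_univ_four] at hg
    exact ⟨g 0, g 1, g 2, g 3, by simpa using hg.symm⟩
  have haP : a ∈ Submodule.span F {a, b} := Submodule.subset_span (by simp)
  have hbP : b ∈ Submodule.span F {a, b} := Submodule.subset_span (by simp)
  have hcP : c ∈ Submodule.span F {c, d} := Submodule.subset_span (by simp)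
  have hdP : d ∈ Submodule.span F {c, d} := Submodule.subset_span (by simp)
  refine ⟨a, haW, b, hbW, c, hcW, d, hdW, hQa, hQb, hQc, hQd, hab, hcd, hac, had, hbc, hbd, ?_, ?_⟩
  · apply le_antisymm
    · intro x hx
      obtain ⟨α, β, γ, δ, rfl⟩ := hrep x hx
      rw [add_assoc]
      exact Submodule.add_mem_sup
        (Submodule.add_mem _ (Submodule.smul_mem _ _ haP) (Submodule.smul_mem _ _ hbP))
        (Submodule.add_mem _ (Submodule.smul_mem _ _ hcP) (Submodule.smul_mem _ _ hdP))
    · apply sup_le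
      · rw [Submodule.span_le]
        rintro x (rfl | rfl)
        · exact haW
        · exact hbW
      · rw [Submodule.span_le]
        rintro x (rfl | rfl)
        · exact hcW
        · exact hdW
  · intro x hx hQx
    obtain ⟨α, β, γ, δ, rfl⟩ := hrep x hx
    rw [add_assoc] at hQx ⊢
    have horth := orth_pair Q hQ hac had hbc hbd (α • a + β • b)
      (Submodule.add_mem _ (Submodule.smul_mem _ _ haP) (Submodule.smul_mem _ _ hbP))
      (γ • c + δ • d)
      (Submodule.add_mem _ (Submodule.smul_mem _ _ hcP) (Submodule.smul_mem _ _ hdP))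
    rw [Q_add Q, horth, add_zero, Q_pair Q hQ hQa hQb hab, Q_pair Q hQ hQc hQd hcd] at hQx
    rcases norm_cases hq α β with ⟨rfl, rfl⟩ | h1
    · right
      rw [zero_smul, zero_smul, add_zero, zero_add]
      exact Submodule.add_mem _ (Submodule.smul_mem _ _ hcP) (Submodule.smul_mem _ _ hdP)
    · rcases norm_cases hq γ δ with ⟨rfl, rfl⟩ | h3
      · left
        rw [zero_smul, zero_smul, add_zero, add_zero]
        exact Submodule.add_mem _ (Submodule.smul_mem _ _ haP) (Submodule.smul_mem _ _ hbP)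
      · exfalso
        rw [h1, h3] at hQx
        have : (1 : F) = 0 := by linear_combination hQx
        exact one_ne_zero this

/-! ### PL7 -/

/-- PL7: `q = 2`: an isometric orthogonal decomposition into 4-spaces of plus type is refined by an
isometric orthogonal decomposition into anisotropic planes, preserved by the isometries preserving
the first -/
theorem PL7 [Fintype F] (hq : Fintype.card F = 2) (Q : (ι → F) → F) (hQ : IsNondegenerateQuadraticForm Q)
    (t t' : ℕ) (ht' : t' = 2 * t) (D : Fin t → Submodule F (ι → F)) (hD : IsOrthogonalMDecomposition Q 4 D)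
    (hplus : ∀ i, IsPlusTypeOn Q (D i)) :
    ∃ D' : Fin t' → Submodule F (ι → F), IsOrthogonalMDecomposition Q 2 D' ∧
      (∀ j, ¬ IsPlusTypeOn Q (D' j)) ∧
      decompositionStabilizer D ⊓ isometryGroup F Q ≤ decompositionStabilizer D' := by
  classical
  have h2 := two_eq_zero2 hq
  have hbl := fun i => block_F2 hq Q hQ (D i) (hD.decomp.decomp.finrank_eq i)
    (hD.decomp.nondegenerate i) (hplus i)
  choose a ha b hb c hc d hd hQa hQb hQc hQd hab hcd hac had hbc hbd hsup hcls using hbl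
  let va : Fin t × Fin 2 → (ι → F) := fun p => if p.2 = 0 then a p.1 else c p.1
  let vb : Fin t × Fin 2 → (ι → F) := fun p => if p.2 = 0 then b p.1 else d p.1
  have hva0 : ∀ i, va (i, 0) = a i := fun i => by simp [va]
  have hva1 : ∀ i, va (i, 1) = c i := fun i => by simp [va]
  have hvb0 : ∀ i, vb (i, 0) = b i := fun i => by simp [vb]
  have hvb1 : ∀ i, vb (i, 1) = d i := fun i => by simp [vb]
  have hva_mem : ∀ p, va p ∈ D p.1 := by
    rintro ⟨i, ε⟩
    fin_cases ε
    · simpa [va] using ha i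
    · simpa [va] using hc i
  have hvb_mem : ∀ p, vb p ∈ D p.1 := by
    rintro ⟨i, ε⟩
    fin_cases ε
    · simpa [vb] using hb i
    · simpa [vb] using hd i
  have hQva : ∀ p, Q (va p) = 1 := by
    rintro ⟨i, ε⟩
    fin_cases ε
    · simpa [va] using hQa i
    · simpa [va] using hQc i
  have hQvb : ∀ p, Q (vb p) = 1 := by
    rintro ⟨i, ε⟩
    fin_cases ε
    · simpa [vb] using hQb i
    · simpa [vb] using hQd i
  have hvab : ∀ p, QuadraticMap.polar Q (va p) (vb p) = 1 := by
    rintro ⟨i, ε⟩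
    fin_cases ε
    · simpa [va, vb] using hab i
    · simpa [va, vb] using hcd i
  let P : Fin t × Fin 2 → Submodule F (ι → F) := fun p => Submodule.span F {va p, vb p}
  have hP_le : ∀ p, P p ≤ D p.1 := by
    intro p
    show Submodule.span F {va p, vb p} ≤ D p.1
    rw [Submodule.span_le]
    rintro x (rfl | rfl)
    · exact hva_mem p
    · exact hvb_mem p
  have hP0 : ∀ i, P (i, 0) = Submodule.span F {a i, b i} := fun i => by
    show Submodule.span F {va (i, 0), vb (i, 0)} = _
    rw [hva0, hvb0]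
  have hP1 : ∀ i, P (i, 1) = Submodule.span F {c i, d i} := fun i => by
    show Submodule.span F {va (i, 1), vb (i, 1)} = _
    rw [hva1, hvb1]
  have hP_orth01 : ∀ i, AreOrthogonalFor (QuadraticMap.polar Q) (P (i, 0)) (P (i, 1)) := by
    intro i
    rw [hP0, hP1]
    exact orth_pair Q hQ (hac i) (had i) (hbc i) (hbd i)
  have hP_orth : ∀ p p', p ≠ p' → AreOrthogonalFor (QuadraticMap.polar Q) (P p) (P p') := by
    rintro ⟨i, ε⟩ ⟨i', ε'⟩ hne
    by_cases hi : i = i'
    · subst hi
      fin_cases ε <;> fin_cases ε'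
      · exact absurd rfl hne
      · exact hP_orth01 i
      · intro x hx y hy
        rw [QuadraticMap.polar_comm]
        exact hP_orth01 i y hy x hx
      · exact absurd rfl hne
    · intro x hx y hy
      exact hD.decomp.orthogonal i i' hi x (hP_le _ hx) y (hP_le _ hy)
  have hD_sup : ∀ i, D i = P (i, 0) ⊔ P (i, 1) := by
    intro i
    rw [hP0, hP1]
    exact hsup i
  have hcls' : ∀ i, ∀ x ∈ D i, Q x = 1 → ∃ ε : Fin 2, x ∈ P (i, ε) := by
    intro i x hx hQx
    rcases hcls i x hx hQx with h | h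
    · exact ⟨0, by rw [hP0]; exact h⟩
    · exact ⟨1, by rw [hP1]; exact h⟩
  have hP_nd : ∀ p, IsNondegenerateOn (QuadraticMap.polar Q) (P p) := fun p =>
    nd_pair Q hQ h2 (hQva p) (hQvb p) (hvab p)
  have hP_fr : ∀ p, finrank F (P p) = 2 := fun p =>
    finrank_pair Q hQ h2 (hQva p) (hQvb p) (hvab p)
  have hindepP : iSupIndep P := by
    intro p
    rw [Submodule.disjoint_def]
    intro x hx hx'
    have h1 : ∀ y ∈ P p, polarBil Q hQ y x = 0 := by
      have hle : (⨆ p', ⨆ (_ : p' ≠ p), P p') ≤ (polarBil Q hQ).orthogonal (P p) := by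
        refine iSup_le fun p' => iSup_le fun hp' => ?_
        intro y hy
        rw [LinearMap.BilinForm.mem_orthogonal_iff]
        intro z hz
        exact hP_orth p p' (Ne.symm hp') z hz y hy
      have := hle hx'
      rw [LinearMap.BilinForm.mem_orthogonal_iff] at this
      exact this
    by_contra hx0
    obtain ⟨⟨y, hy, hne⟩, -⟩ := hP_nd p x hx hx0
    exact hne (h1 y hy)
  let eqv : Fin t' ≃ Fin t × Fin 2 := Fintype.equivOfCardEq (by
    rw [Fintype.card_prod, Fintype.card_fin, Fintype.card_fin, Fintype.card_fin, ht']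
    ring)
  let D' : Fin t' → Submodule F (ι → F) := fun j => P (eqv j)
  have hD'indep : iSupIndep D' := hindepP.comp eqv.injective
  have hD'ne : ∀ j, D' j ≠ ⊥ := fun j => by
    intro h
    have h3 := hP_fr (eqv j)
    have h4 : P (eqv j) = ⊥ := h
    rw [h4, finrank_bot] at h3
    omega
  have hD'sup : iSup D' = ⊤ := by
    have h1 : iSup D' = ⨆ p, P p := Equiv.iSup_comp (g := P) eqv
    rw [h1, iSup_prod, ← hD.decomp.decomp.iSup_eq_top]
    congr 1
    funext i
    rw [hD_sup i]
    apply le_antisymm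
    · apply iSup_le
      intro ε
      fin_cases ε
      · exact le_sup_left
      · exact le_sup_right
    · apply sup_le
      · exact le_iSup (fun ε : Fin 2 => P (i, ε)) 0
      · exact le_iSup (fun ε : Fin 2 => P (i, ε)) 1
  refine ⟨D', ⟨⟨⟨?_, two_pos, ?_, hD'indep, hD'sup⟩, ?_, ?_⟩, ?_⟩, ?_, ?_⟩
  · have := hD.decomp.decomp.two_le
    omega
  · intro j
    exact hP_fr (eqv j)
  · intro j
    exact hP_nd (eqv j)
  · intro j j' hjj'
    exact hP_orth _ _ (fun h => hjj' (eqv.injective h))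
  · intro j j'
    exact isometric_pair Q hQ h2 (hQva _) (hQvb _) (hvab _) (hQva _) (hQvb _) (hvab _)
  · intro j
    exact not_plus_pair hq Q hQ (hQva _) (hQvb _) (hvab _)
  · rintro g ⟨hgD, hgI⟩
    obtain ⟨σ, hσ⟩ := hgD
    have hiso : ∀ u, Q ((g : Matrix ι ι F) *ᵥ u) = Q u := fun u => hgI u u
    have hpol : ∀ u v, QuadraticMap.polar Q ((g : Matrix ι ι F) *ᵥ u) ((g : Matrix ι ι F) *ᵥ v)
        = QuadraticMap.polar Q u v := by
      intro u v
      unfold QuadraticMap.polar
      rw [← Matrix.mulVec_add, hiso, hiso, hiso]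
    apply Cfsg.Agent.Lib.Helper43_OrthEven_EV27.mem_stab_of_forall_exists D' hD'indep hD'ne
    intro j
    obtain ⟨p, hp⟩ : ∃ p, p = eqv j := ⟨_, rfl⟩
    have hxa_mem : (g : Matrix ι ι F) *ᵥ va p ∈ D (σ p.1) := by
      rw [← hσ p.1]
      exact ⟨va p, hva_mem p, Matrix.toLin'_apply _ _⟩
    have hxb_mem : (g : Matrix ι ι F) *ᵥ vb p ∈ D (σ p.1) := by
      rw [← hσ p.1]
      exact ⟨vb p, hvb_mem p, Matrix.toLin'_apply _ _⟩
    have hxa_Q : Q ((g : Matrix ι ι F) *ᵥ va p) = 1 := by rw [hiso, hQva]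
    have hxb_Q : Q ((g : Matrix ι ι F) *ᵥ vb p) = 1 := by rw [hiso, hQvb]
    have hxab : QuadraticMap.polar Q ((g : Matrix ι ι F) *ᵥ va p) ((g : Matrix ι ι F) *ᵥ vb p) = 1 := by
      rw [hpol, hvab]
    obtain ⟨ε, hε⟩ := hcls' (σ p.1) _ hxa_mem hxa_Q
    obtain ⟨ε', hε'⟩ := hcls' (σ p.1) _ hxb_mem hxb_Q
    have hεε' : ε = ε' := by
      by_contra hne
      have h3 := hP_orth (σ p.1, ε) (σ p.1, ε') (fun h => hne (Prod.ext_iff.mp h).2) _ hε _ hε'
      rw [hxab] at h3
      exact one_ne_zero h3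
    subst hεε'
    refine ⟨eqv.symm (σ p.1, ε), ?_⟩
    show (P (eqv j)).map _ = P (eqv (eqv.symm (σ p.1, ε)))
    rw [Equiv.apply_symm_apply, ← hp]
    show (Submodule.span F {va p, vb p}).map _ = _
    rw [Submodule.map_span, Set.image_pair, Matrix.toLin'_apply, Matrix.toLin'_apply]
    apply Submodule.eq_of_le_of_finrank_eq
    · rw [Submodule.span_le]
      rintro x (rfl | rfl)
      · exact hε
      · exact hε'
    · rw [finrank_pair Q hQ h2 hxa_Q hxb_Q hxab, hP_fr]

end Cfsg.Agent.Lib.Helper50_OrthEven_PL7
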