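import Cfsg.Agent.Lib.Helper50_PUDefs

/-!
# Rank-one pushing up, package BEST (helper50): `S` maximizes `|D| |C_V(D)|` among its subgroups
-/

set_option autoImplicit false
set_option linter.unusedSectionVars false

namespace Cfsg.Agent.Lib.Helper50_PU_BEST

open scoped commutatorElement
open Cfsg.Agent.Lib.Helper50_PUDefs Cfsg.Agent.Lib.Helper51_Offender Cfsg.Agent.Lib.Helper72_AbelianJ

section General

variable {G : Type*} [Group G]

/-- conjugation as a map on subgroups -/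
abbrev cj (g : G) (D : Subgroup G) : Subgroup G := D.map (MulAut.conj g).toMonoidHom

theorem mem_cj {g x : G} {D : Subgroup G} : x ∈ cj g D ↔ g⁻¹ * x * g ∈ D := by
  constructor
  · rintro ⟨y, hy, rfl⟩
    have : g⁻¹ * ((MulAut.conj g).toMonoidHom y) * g = y := by
      simp [MulAut.conj_apply]; group
    rw [this]; exact hy
  · intro h
    refine ⟨g⁻¹ * x * g, h, ?_⟩
    simp [MulAut.conj_apply]; group

theorem card_cj (g : G) (D : Subgroup G) : Nat.card (cj g D) = Nat.card D :=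
  Subgroup.card_map_of_injective (MulAut.conj g).injective

theorem CV_cj (V : Subgroup G) [hV : V.Normal] (g : G) (D : Subgroup G) :
    CV V (cj g D) = cj g (CV V D) := by
  ext x
  rw [mem_cj, mem_CV, mem_CV]
  constructor
  · rintro ⟨hx, hc⟩
    refine ⟨?_, ?_⟩
    · have := hV.conj_mem x hx g⁻¹
      simpa using this
    · intro b hb
      have hb' : g * b * g⁻¹ ∈ cj g D := by
        rw [mem_cj]
        have : g⁻¹ * (g * b * g⁻¹) * g = b := by group
        rw [this]; exact hb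
      have h1 := hc _ hb'
      have e1 : b * (g⁻¹ * x * g) = g⁻¹ * ((g * b * g⁻¹) * x) * g := by group
      have e2 : g⁻¹ * x * g * b = g⁻¹ * (x * (g * b * g⁻¹)) * g := by group
      rw [e1, e2, h1]
  · rintro ⟨hx, hc⟩
    refine ⟨?_, ?_⟩
    · have := hV.conj_mem _ hx g
      have e : g * (g⁻¹ * x * g) * g⁻¹ = x := by group
      rwa [e] at this
    · intro b hb
      rw [mem_cj] at hb
      have h1 := hc _ hb
      have e1 : b * x = g * ((g⁻¹ * b * g) * (g⁻¹ * x * g)) * g⁻¹ := by group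
      have e2 : x * b = g * ((g⁻¹ * x * g) * (g⁻¹ * b * g)) * g⁻¹ := by group
      rw [e1, e2, h1]

theorem m_cj (V : Subgroup G) [V.Normal] (g : G) (D : Subgroup G) : m V (cj g D) = m V D := by
  unfold m
  rw [CV_cj, card_cj, card_cj]

variable [Finite G]

/-- `C_V(D ⊔ E) = C_V(D)` when `E` centralizes `V`. -/
theorem CV_sup_of_le_centralizer (V D E : Subgroup G)
    (hE : E ≤ Subgroup.centralizer ((V : Subgroup G) : Set G)) : CV V (D ⊔ E) = CV V D := by
  apply le_antisymm (CV_anti V le_sup_left)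
  have h1 : CV V E = V := by
    apply le_antisymm (CV_le V E)
    intro x hx
    rw [mem_CV]
    exact ⟨hx, fun b hb => (Subgroup.mem_centralizer_iff.mp (hE hb) x hx).symm⟩
  have h2 := CV_inf_le V D E
  rw [h1] at h2
  exact (le_inf le_rfl (CV_le V D)).trans h2

/-- sup of two maximizers is a maximizer -/
theorem m_sup_of_max (V R : Subgroup G) (M₀ : ℕ) (hmax : ∀ D : Subgroup G, D ≤ R → m V D ≤ M₀)
    {D E : Subgroup G} (hD : D ≤ R) (hE : E ≤ R) (hmD : m V D = M₀) (hmE : m V E = M₀) :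
    m V (D ⊔ E) = M₀ := by
  apply le_antisymm (hmax _ (sup_le hD hE))
  have h1 := card_mul_card_le D E
  have h2 := card_mul_card_le (CV V D) (CV V E)
  have h2' : Nat.card (CV V D) * Nat.card (CV V E) ≤
      Nat.card (CV V (D ⊓ E)) * Nat.card (CV V (D ⊔ E)) :=
    h2.trans (Nat.mul_le_mul (Subgroup.card_le_of_le (CV_sup_le V D E))
      (Subgroup.card_le_of_le (CV_inf_le V D E)))
  have h4 : m V (D ⊓ E) ≤ M₀ := hmax _ (inf_le_left.trans hD)
  have hpos : 0 < M₀ := hmD ▸ m_pos V D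
  have hMM : M₀ * M₀ ≤ m V (D ⊔ E) * m V (D ⊓ E) := by
    calc M₀ * M₀ = m V D * m V E := by rw [hmD, hmE]
      _ = (Nat.card D * Nat.card E) * (Nat.card (CV V D) * Nat.card (CV V E)) := by
          unfold m; ring
      _ ≤ (Nat.card ↥(D ⊔ E) * Nat.card ↥(D ⊓ E)) *
          (Nat.card (CV V (D ⊓ E)) * Nat.card (CV V (D ⊔ E))) := Nat.mul_le_mul h1 h2'
      _ = m V (D ⊔ E) * m V (D ⊓ E) := by unfold m; ring
  have h5 : M₀ * M₀ ≤ m V (D ⊔ E) * M₀ := hMM.trans (Nat.mul_le_mul_left _ h4)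
  exact Nat.le_of_mul_le_mul_right h5 hpos

end General

section Main

variable {G : Type*} [Group G] [Finite G] {p : ℕ} [Fact p.Prime] {S : Sylow p G}

local notation "Q" => Cfsg.pCore p G
local notation "V" => VS (S : Subgroup G)
local notation "Z" => ZS (S : Subgroup G)
local notation "J" => JS (S : Subgroup G)

/-- some abelian subgroup of largest order is not inside `Q` -/
theorem exists_maxab (h : MainCase p S) : ∃ A : Subgroup G, IsMaxAbIn (S : Subgroup G) A ∧ ¬ A ≤ Q := by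
  by_contra hcon
  push Not at hcon
  apply h.hJ
  show Cfsg.thompsonSubgroupAOf (S : Subgroup G) ≤ Q
  unfold Cfsg.thompsonSubgroupAOf Cfsg.thompsonSubgroupA
  rw [Subgroup.map_le_iff_le_comap]
  apply sSup_le
  intro A hA
  rw [← Subgroup.map_le_iff_le_comap]
  exact hcon _ (isMaxAbIn_map hA)

/-- Thompson: `m V (A ⊔ Q) ≥ m V Q` -/
theorem thompson (hvb : VBasic p S) {A : Subgroup G} (hA : IsMaxAbIn (S : Subgroup G) A) :
    m V Q ≤ m V (A ⊔ Q) := by
  have hVS : V ≤ (S : Subgroup G) := hvb.V_le.trans hvb.core_le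
  have hbA : Best V A := best_of_isMaxAbIn hvb.comm hVS hA
  have h1 : m V (A ⊓ Q) ≤ m V A := hbA _ inf_le_left
  have hQn := hvb.core_normal
  have hCVQ : CV V Q = V := by
    apply le_antisymm (CV_le V Q)
    intro x hx
    rw [mem_CV]
    exact ⟨hx, fun b hb => (Subgroup.mem_centralizer_iff.mp (hvb.cent hb) x hx).symm⟩
  have hCVAQ : CV V (A ⊓ Q) = V := by
    apply le_antisymm (CV_le V _)
    have := CV_anti V (inf_le_right : A ⊓ Q ≤ Q)
    rwa [hCVQ] at this
  have hCVsup : CV V (A ⊔ Q) = CV V A := CV_sup_of_le_centralizer V A Q hvb.cent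
  have h2 : Nat.card ↥(Q ⊔ A) * Nat.card ↥(Q ⊓ A) = Nat.card Q * Nat.card A := by
    apply card_sup_mul_card_inf
    rw [Subgroup.normalizer_eq_top]; exact le_top
  rw [sup_comm, inf_comm] at h2
  have hpos : 0 < Nat.card ↥(A ⊓ Q) := Nat.card_pos
  have h3 : m V Q * Nat.card ↥(A ⊓ Q) ≤ m V (A ⊔ Q) * Nat.card ↥(A ⊓ Q) := by
    unfold m at h1 ⊢
    rw [hCVQ, hCVsup]
    rw [hCVAQ] at h1
    calc Nat.card Q * Nat.card V * Nat.card ↥(A ⊓ Q)
        = Nat.card Q * (Nat.card ↥(A ⊓ Q) * Nat.card V) := by ring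
      _ ≤ Nat.card Q * (Nat.card A * Nat.card (CV V A)) := Nat.mul_le_mul_left _ h1
      _ = (Nat.card Q * Nat.card A) * Nat.card (CV V A) := by ring
      _ = (Nat.card ↥(A ⊔ Q) * Nat.card ↥(A ⊓ Q)) * Nat.card (CV V A) := by rw [h2]
      _ = Nat.card ↥(A ⊔ Q) * Nat.card (CV V A) * Nat.card ↥(A ⊓ Q) := by ring
  exact Nat.le_of_mul_le_mul_right h3 hpos

theorem best (h : MainCase p S) (hvb : VBasic p S) : Best V (S : Subgroup G) := by
  have hQn := hvb.core_normal
  have hQS := hvb.core_le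
  -- the maximum of `m V` on subgroups of `S`
  have hfin : {D : Subgroup G | D ≤ (S : Subgroup G)}.Finite := Set.toFinite _
  obtain ⟨D₀, hD₀S, hD₀max⟩ := Set.Finite.exists_maximalFor (m V) _ hfin ⟨⊥, (bot_le : (⊥ : Subgroup G) ≤ (S : Subgroup G))⟩
  set M₀ := m V D₀ with hM₀
  have hmax : ∀ D : Subgroup G, D ≤ (S : Subgroup G) → m V D ≤ M₀ := by
    intro D hD
    by_contra hlt
    push Not at hlt
    exact absurd (hD₀max hD hlt.le) (not_le.mpr hlt)
  -- maximizers
  let 𝓜 : Set (Subgroup G) := {D | D ≤ (S : Subgroup G) ∧ m V D = M₀}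
  -- a maximizer containing `Q`
  have hD₁ : D₀ ⊔ Q ∈ 𝓜 := by
    refine ⟨sup_le hD₀S hQS, le_antisymm (hmax _ (sup_le hD₀S hQS)) ?_⟩
    unfold m
    rw [CV_sup_of_le_centralizer V D₀ Q hvb.cent]
    exact Nat.mul_le_mul_right _ (Subgroup.card_le_of_le le_sup_left)
  -- a maximal maximizer
  obtain ⟨Ds, hDs⟩ := Set.Finite.exists_maximal (s := 𝓜) (Set.toFinite _) ⟨_, hD₁⟩
  have hDsM : Ds ∈ 𝓜 := hDs.1
  have hDstop : ∀ D ∈ 𝓜, D ≤ Ds := by
    intro D hD
    have h1 : D ⊔ Ds ∈ 𝓜 :=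
      ⟨sup_le hD.1 hDsM.1, m_sup_of_max V _ M₀ hmax hD.1 hDsM.1 hD.2 hDsM.2⟩
    exact le_sup_left.trans (hDs.2 h1 le_sup_right)
  have hQDs : Q ≤ Ds := le_sup_right.trans (hDstop _ hD₁)
  -- invariance under `N_G(S)`
  have hinv : ∀ n ∈ Subgroup.normalizer (((S : Subgroup G) : Subgroup G) : Set G), cj n Ds ≤ Ds := by
    intro n hn
    apply hDstop
    refine ⟨?_, ?_⟩
    · intro x hx
      rw [mem_cj] at hx
      have h1 := hDsM.1 hx
      have h2 := (Subgroup.mem_normalizer_iff.mp hn (n⁻¹ * x * n)).mp h1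
      have e : n * (n⁻¹ * x * n) * n⁻¹ = x := by group
      rwa [e] at h2
    · rw [m_cj]; exact hDsM.2
  have hN : Subgroup.normalizer (((S : Subgroup G) : Subgroup G) : Set G) ≤
      Subgroup.normalizer ((Ds : Subgroup G) : Set G) := by
    intro n hn
    rw [Subgroup.mem_normalizer_iff]
    intro x
    constructor
    · intro hx
      apply hinv n hn
      rw [mem_cj]
      have e : n⁻¹ * (n * x * n⁻¹) * n = x := by group
      rw [e]; exact hx
    · intro hx
      have h1 := hinv n⁻¹ (Subgroup.inv_mem _ hn)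
      have h2 : x ∈ cj n⁻¹ Ds := by
        rw [mem_cj]
        simpa using hx
      exact h1 h2
  -- `Ds ≠ Q`
  have hne : Ds ≠ Q := by
    intro heq
    obtain ⟨A, hA, hAQ⟩ := exists_maxab h
    have hQM : Q ∈ 𝓜 := heq ▸ hDsM
    have h1 := thompson hvb hA
    have hAS : A ⊔ Q ≤ (S : Subgroup G) := sup_le hA.1 hQS
    have h2 : A ⊔ Q ∈ 𝓜 := ⟨hAS, le_antisymm (hmax _ hAS) (hQM.2 ▸ h1)⟩
    have h3 := hDstop _ h2
    rw [heq] at h3
    exact hAQ (le_sup_left.trans h3)
  rcases h.irr Ds hQDs hDsM.1 hN with h1 | h1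
  · exact absurd h1 hne
  · intro D hD
    have := hmax D hD
    rw [← hDsM.2, h1] at this
    exact this

end Main

end Cfsg.Agent.Lib.Helper50_PU_BEST
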