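import Cfsg.Agent.Lib.Helper50_PUDefs

/-!
# Rank-one pushing up, package LOWER (helper50): `|S : Q| ≤ |C_V(S) : V ∩ Z(G)|`
-/

set_option autoImplicit false
set_option linter.unusedSectionVars false
set_option linter.unusedVariables false

namespace Cfsg.Agent.Lib.Helper50_PU_LOWER

open scoped commutatorElement
open Cfsg.Agent.Lib.Helper50_PUDefs Cfsg.Agent.Lib.Helper51_Offender Cfsg.Agent.Lib.Helper72_AbelianJ

section General

variable {G : Type*} [Group G]

/-- the elements `y` with `⁅z, y⁆` central form a subgroup -/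
def centComm (z : G) : Subgroup G where
  carrier := {y | ⁅z, y⁆ ∈ Subgroup.center G}
  one_mem' := by
    show ⁅z, (1 : G)⁆ ∈ Subgroup.center G
    rw [commutatorElement_def]; simp
  mul_mem' := by
    intro a b ha hb
    show ⁅z, a * b⁆ ∈ Subgroup.center G
    have e : ⁅z, a * b⁆ = ⁅z, a⁆ * (a * ⁅z, b⁆ * a⁻¹) := by
      simp only [commutatorElement_def]; group
    have hb' : ⁅z, b⁆ ∈ Subgroup.center G := hb
    have e2 : a * ⁅z, b⁆ * a⁻¹ = ⁅z, b⁆ := by
      rw [Subgroup.mem_center_iff.mp hb' a, mul_inv_cancel_right]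
    rw [e, e2]
    exact Subgroup.mul_mem _ ha hb
  inv_mem' := by
    intro a ha
    show ⁅z, a⁻¹⁆ ∈ Subgroup.center G
    have ha' : ⁅z, a⁆ ∈ Subgroup.center G := ha
    have e : ⁅z, a⁻¹⁆ = a⁻¹ * (⁅z, a⁆)⁻¹ * a := by
      simp only [commutatorElement_def]; group
    have hi : (⁅z, a⁆)⁻¹ ∈ Subgroup.center G := Subgroup.inv_mem _ ha'
    have e2 : a⁻¹ * (⁅z, a⁆)⁻¹ * a = (⁅z, a⁆)⁻¹ := by
      rw [Subgroup.mem_center_iff.mp hi a⁻¹, mul_assoc, inv_mul_cancel, mul_one]
    rw [e, e2]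
    exact hi

theorem mem_centComm {z y : G} : y ∈ centComm z ↔ ⁅z, y⁆ ∈ Subgroup.center G := Iff.rfl

end General

section Main

variable {G : Type*} [Group G] [Finite G] {p : ℕ} [Fact p.Prime] {S : Sylow p G}

local notation "Q" => Cfsg.pCore p G
local notation "V" => VS (S : Subgroup G)
local notation "Z" => ZS (S : Subgroup G)

theorem lower (h : MainCase p S) (hvb : VBasic p S) (T : Sylow p G) (hT : Opp p S T)
    (htr : Transp p S T) (hvx : VXFacts p S T)
    (hns : ∃ z ∈ Z, ∃ x : G, ⁅z, x⁆ ∉ Subgroup.center G) :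
    Nat.card (S : Subgroup G) * Nat.card ↥(V ⊓ Subgroup.center G) ≤
      Nat.card Q * Nat.card (CV V (S : Subgroup G)) := by
  obtain ⟨z, hz, x, hx⟩ := hns
  have hzV : z ∈ V := Subgroup.subset_normalClosure hz
  have hzS : z ∈ Subgroup.centralizer (((S : Subgroup G) : Subgroup G) : Set G) := hz.2
  have hVn : (V).Normal := Subgroup.normalClosure_normal
  -- `⁅z, b⁆ ∈ CV V T` for `b ∈ T`
  have hcomV : ∀ b : G, ⁅z, b⁆ ∈ V := by
    intro b
    have e : ⁅z, b⁆ = z * (b * z⁻¹ * b⁻¹) := by rw [commutatorElement_def]; group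
    rw [e]
    exact (V).mul_mem hzV (hVn.conj_mem _ ((V).inv_mem hzV) b)
  have hcomT : ∀ b ∈ (T : Subgroup G), ⁅z, b⁆ ∈ Subgroup.centralizer (((T : Subgroup G) : Subgroup G) : Set G) :=
    fun b hb => htr.quad (Subgroup.commutator_mem_commutator hzV hb)
  have hcomCV : ∀ b ∈ (T : Subgroup G), ⁅z, b⁆ ∈ CV V (T : Subgroup G) :=
    fun b hb => ⟨hcomV b, hcomT b hb⟩
  -- homomorphism property on `T`
  have hmul : ∀ a ∈ (T : Subgroup G), ∀ b ∈ (T : Subgroup G), ⁅z, a * b⁆ = ⁅z, a⁆ * ⁅z, b⁆ := by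
    intro a ha b hb
    have e : ⁅z, a * b⁆ = ⁅z, a⁆ * (a * ⁅z, b⁆ * a⁻¹) := by
      simp only [commutatorElement_def]; group
    have h1 := Subgroup.mem_centralizer_iff.mp (hcomT b hb) a ha
    rw [e, h1, mul_inv_cancel_right]
  have hinv : ∀ a ∈ (T : Subgroup G), ⁅z, a⁻¹⁆ = (⁅z, a⁆)⁻¹ := by
    intro a ha
    have h1 := hmul a ha a⁻¹ ((T : Subgroup G).inv_mem ha)
    rw [mul_inv_cancel] at h1
    have h0 : ⁅z, (1 : G)⁆ = 1 := by rw [commutatorElement_def]; simp
    rw [h0] at h1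
    exact eq_inv_of_mul_eq_one_right h1.symm
  -- the kernel modulo the centre is `Q`
  have hker : ∀ b ∈ (T : Subgroup G), ⁅z, b⁆ ∈ Subgroup.center G → b ∈ Q := by
    intro b hb hc
    by_contra hbQ
    have hgen := hT.genT b hb hbQ
    have hle : Subgroup.closure (insert b (((S : Subgroup G) : Subgroup G) : Set G)) ≤ centComm z := by
      rw [Subgroup.closure_le]
      intro y hy
      rcases hy with rfl | hy
      · exact hc
      · show ⁅z, y⁆ ∈ Subgroup.center G
        have h1 := Subgroup.mem_centralizer_iff.mp hzS y hy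
        have e : ⁅z, y⁆ = 1 := by
          rw [commutatorElement_eq_one_iff_mul_comm]; exact h1.symm
        rw [e]; exact Subgroup.one_mem _
    rw [hgen] at hle
    exact hx (hle (Subgroup.mem_top x))
  -- index comparison
  have hWle : V ⊓ Subgroup.center G ≤ CV V (T : Subgroup G) := by
    rw [← hvx.inf]; exact inf_le_right
  let f : ↥(T : Subgroup G) → ↥(CV V (T : Subgroup G)) := fun b => ⟨⁅z, (b : G)⁆, hcomCV b b.2⟩
  have hidx : ((Q).subgroupOf (T : Subgroup G)).index ≤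
      ((V ⊓ Subgroup.center G).subgroupOf (CV V (T : Subgroup G))).index := by
    apply index_le_of_map _ _ f
    intro a c hac
    rw [Subgroup.mem_subgroupOf] at hac ⊢
    have h1 : ((f a)⁻¹ * f c : ↥(CV V (T : Subgroup G))).1 = (⁅z, (a : G)⁆)⁻¹ * ⁅z, (c : G)⁆ := rfl
    rw [h1] at hac
    have h2 : ⁅z, ((a⁻¹ * c : ↥(T : Subgroup G)) : G)⁆ = (⁅z, (a : G)⁆)⁻¹ * ⁅z, (c : G)⁆ := by
      show ⁅z, (a : G)⁻¹ * (c : G)⁆ = _
      rw [hmul _ ((T : Subgroup G).inv_mem a.2) _ c.2, hinv _ a.2]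
    apply hker _ (a⁻¹ * c).2
    rw [h2]
    exact hac.2
  have hi1 : Nat.card Q * ((Q).subgroupOf (T : Subgroup G)).index = Nat.card (T : Subgroup G) :=
    card_mul_relIndex htr.core_le
  have hi2 : Nat.card ↥(V ⊓ Subgroup.center G) *
      ((V ⊓ Subgroup.center G).subgroupOf (CV V (T : Subgroup G))).index =
        Nat.card (CV V (T : Subgroup G)) := card_mul_relIndex hWle
  rw [← htr.card, ← htr.cardCV, ← hi1, ← hi2]
  calc Nat.card Q * ((Q).subgroupOf (T : Subgroup G)).index * Nat.card ↥(V ⊓ Subgroup.center G)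
      ≤ Nat.card Q * ((V ⊓ Subgroup.center G).subgroupOf (CV V (T : Subgroup G))).index *
          Nat.card ↥(V ⊓ Subgroup.center G) :=
        Nat.mul_le_mul_right _ (Nat.mul_le_mul_left _ hidx)
    _ = Nat.card Q * (Nat.card ↥(V ⊓ Subgroup.center G) *
          ((V ⊓ Subgroup.center G).subgroupOf (CV V (T : Subgroup G))).index) := by ring

end Main

end Cfsg.Agent.Lib.Helper50_PU_LOWER
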