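import Cfsg.Agent.Lib.Helper50_PUDefs

/-!
# Package COMMZDJ of the market `pu_packages` (helper50, S2768 / S2769 / S2770)

`⁅Z(J(Q)), J(S)⁆ ≤ V`.
-/

set_option autoImplicit false
set_option linter.unusedVariables false
set_option linter.unusedSectionVars false
set_option linter.deprecated false

namespace Cfsg.Agent.Lib.Helper55_PU_COMMZDJ

open scoped commutatorElement
open Cfsg.Agent.Lib.Helper50_PUDefs Cfsg.Agent.Lib.Helper51_Offender Cfsg.Agent.Lib.Helper72_AbelianJ

section General

variable {G : Type*} [Group G] [Finite G]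

/-- an abelian subgroup of largest order of `T` lies in `J(T)` -/
theorem le_JS_of_isMaxAbIn {T A : Subgroup G} (hA : IsMaxAbIn T A) : A ≤ JS T := by
  have h1 : A.subgroupOf T ∈ Cfsg.maxAbelianSubgroups T := by
    refine ⟨?_, ?_⟩
    · have := hA.2.1
      infer_instance
    · intro B hB
      have hBm : IsMulCommutative (B.map T.subtype) := Subgroup.map_isMulCommutative B T.subtype
      have h2 := hA.2.2 (B.map T.subtype) (Subgroup.map_subtype_le _) hBm
      rw [Subgroup.card_map_of_injective T.subtype_injective] at h2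
      have h3 : Nat.card (A.subgroupOf T) = Nat.card A :=
        Nat.card_congr (Subgroup.subgroupOfEquivOfLe hA.1).toEquiv
      rw [h3]
      exact h2
  have h4 : A.subgroupOf T ≤ Cfsg.thompsonSubgroupA T := le_sSup h1
  intro a ha
  exact ⟨⟨a, hA.1 ha⟩, h4 (by rw [Subgroup.mem_subgroupOf]; exact ha), rfl⟩

/-- `J(T)` lies in every subgroup containing all abelian subgroups of largest order of `T` -/
theorem JS_le_of_forall {T H : Subgroup G} (h : ∀ A : Subgroup G, IsMaxAbIn T A → A ≤ H) :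
    JS T ≤ H := by
  unfold JS Cfsg.thompsonSubgroupAOf Cfsg.thompsonSubgroupA
  rw [Subgroup.map_le_iff_le_comap]
  apply sSup_le
  intro A hA
  rw [← Subgroup.map_le_iff_le_comap]
  exact h _ (isMaxAbIn_map hA)

omit [Finite G] in
theorem comm_mul_left (x v a : G) : ⁅x * v, a⁆ = x * ⁅v, a⁆ * x⁻¹ * ⁅x, a⁆ := by
  simp only [commutatorElement_def]; group

end General

section Main

variable {G : Type*} [Group G] [Finite G] {p : ℕ} [Fact p.Prime] {S : Sylow p G}

local notation "Q" => Cfsg.pCore p G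
local notation "V" => VS (S : Subgroup G)
local notation "Z" => ZS (S : Subgroup G)
local notation "J" => JS (S : Subgroup G)
local notation "Y" => YS (S : Subgroup G)
local notation "B" => BS (S : Subgroup G)
local notation "ZD" => YS (Cfsg.pCore p G)
local notation "LJ" => Subgroup.normalClosure ((JS (S : Subgroup G) : Subgroup G) : Set G)
local notation "Q₀" => Cfsg.pCore p G ⊓ Subgroup.centralizer ((YS (S : Subgroup G) : Subgroup G) : Set G)

-- PKG COMMZDJ
theorem comm_zd_j (h : MainCase p S) (hvb : VBasic p S)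
    (hmq : ∀ A' : Subgroup G, IsMaxAbIn Q A' ↔ (IsMaxAbIn (S : Subgroup G) A' ∧ A' ≤ Q))
    (hzd : ∀ A : Subgroup G, IsMaxAbIn (S : Subgroup G) A → ¬ A ≤ Q → ZD ≤ (A ⊓ Q) ⊔ V) :
    ⁅ZD, J⁆ ≤ V := by
  have hVn : (V).Normal := Subgroup.normalClosure_normal
  apply commutator_le_of_le_commStab
  apply JS_le_of_forall
  intro A hA a ha
  refine ⟨?_, ?_⟩
  · rw [Subgroup.normalizer_eq_top_iff.mpr hVn]; exact Subgroup.mem_top _
  intro z hz
  by_cases hAQ : A ≤ Q
  · -- `A ≤ J(Q)` and `z` centralizes `J(Q)`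
    have h1 : IsMaxAbIn Q A := (hmq A).mpr ⟨hA, hAQ⟩
    have h2 : a ∈ JS Q := le_JS_of_isMaxAbIn h1 ha
    have h3 : z ∈ Subgroup.centralizer ((JS Q : Subgroup G) : Set G) := hz.2
    have h4 : a * z = z * a := Subgroup.mem_centralizer_iff.mp h3 a h2
    have h5 : ⁅z, a⁆ = 1 := by
      rw [commutatorElement_eq_one_iff_mul_comm]; exact h4.symm
    rw [h5]; exact Subgroup.one_mem _
  · have h1 : z ∈ (A ⊓ Q) ⊔ V := hzd A hA hAQ hz
    rw [Subgroup.mem_sup_of_normal_right] at h1
    obtain ⟨x, hx, v, hv, rfl⟩ := h1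
    have hA2 := hA.2.1
    have h2 : x * a = a * x := Subgroup.mul_comm_of_mem_isMulCommutative A hx.1 ha
    have h3 : ⁅x, a⁆ = 1 := by
      rw [commutatorElement_eq_one_iff_mul_comm]; exact h2
    rw [comm_mul_left, h3, mul_one]
    apply hVn.conj_mem
    rw [commutatorElement_def]
    have h4 : a * v⁻¹ * a⁻¹ ∈ V := hVn.conj_mem _ (Subgroup.inv_mem _ hv) a
    have h5 : v * a * v⁻¹ * a⁻¹ = v * (a * v⁻¹ * a⁻¹) := by group
    rw [h5]
    exact Subgroup.mul_mem _ hv h4

end Main

end Cfsg.Agent.Lib.Helper55_PU_COMMZDJ
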