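import Mathlib
import Cfsg.Agent.Lib.Helper72_AbelianJ
import Cfsg.Agent.Lib.Helper34_NPC
import Cfsg.Agent.Lib.Helper72_WCFinal

/-!
Helper library (helper72): the abelian-version Thompson subgroup as a conjugacy functor on the
subgroups of a finite group; it contains the centre; if `J(T)` is not normal then some abelian
subgroup of largest order of `T` lies outside any given normal subgroup of `T`-elements.
-/

set_option autoImplicit false
universe u
open Cfsg

namespace Cfsg.Agent.Lib.Helper72_JAFunctor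

open Cfsg.Agent.Lib.Helper34_NPC Cfsg.Agent.Lib.Helper72_AbelianJ
open scoped commutatorElement

/-- `J_A` as a map on subgroups -/
def WJ {G : Type u} [Group G] : Subgroup G → Subgroup G := fun P => Cfsg.thompsonSubgroupAOf P

theorem WJ_eq {G : Type u} [Group G] (P : Subgroup G) : WJ P = Cfsg.thompsonSubgroupAOf P := rfl

theorem isConjugacyFunctor_WJ {G : Type u} [Group G] [Finite G] {p : ℕ} [Fact p.Prime] :
    Cfsg.IsConjugacyFunctor p (WJ (G := G)) := by
  intro P hP
  refine ⟨?_, ?_, ?_⟩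
  · exact inducedFunctor_le JA P
  · intro hne
    exact inducedFunctor_ne_bot (isCharPFunctor_JA (p := p)) hP hne
  · intro g
    exact inducedFunctor_conj (isCharPFunctor_JA (p := p)) P hP g

/-- the centre lies in `J_A` -/
theorem center_le_WJ {G : Type u} [Group G] [Finite G] (P : Subgroup G) :
    P ⊓ Subgroup.centralizer (P : Set G) ≤ WJ P := by
  intro z hz
  obtain ⟨A₀, hA₀⟩ := Cfsg.Agent.Lib.Helper50_CL2.exists_maxAbelian (G := P)
  have h1 := Cfsg.Agent.Lib.Helper50_CL2.centralizer_eq_of_mem_maxAbelian hA₀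
  have hz' : (⟨z, hz.1⟩ : P) ∈ Subgroup.centralizer (A₀ : Set P) := by
    rw [Subgroup.mem_centralizer_iff]
    intro a _
    apply Subtype.ext
    exact Subgroup.mem_centralizer_iff.mp hz.2 a a.2
  rw [h1] at hz'
  have h2 : (⟨z, hz.1⟩ : P) ∈ Cfsg.thompsonSubgroupA P := (le_sSup hA₀) hz'
  exact ⟨⟨z, hz.1⟩, h2, rfl⟩

/-- if `J_A(T) ≤ R ≤ T` with `R` normal then `J_A(T)` is normal -/
theorem WJ_normal_of_le {Γ : Type u} [Group Γ] [Finite Γ] {p : ℕ} [Fact p.Prime]
    (T : Subgroup Γ) (R : Subgroup Γ) [hRn : R.Normal] (hRp : IsPGroup p R)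
    (hRT : R ≤ T) (hle : Cfsg.thompsonSubgroupAOf T ≤ R) :
    (Cfsg.thompsonSubgroupAOf T).Normal := by
  set U : Subgroup T := R.subgroupOf T with hU
  have hUJ : Cfsg.thompsonSubgroupA T ≤ U := by
    intro y hy
    rw [hU, Subgroup.mem_subgroupOf]
    exact hle ⟨y, hy, rfl⟩
  have h1 := thompsonSubgroupAOf_eq_of_le (G := T) U hUJ
  have hUp : IsPGroup p U := hRp.comap_subtype
  have h2 := inducedFunctor_map (isCharPFunctor_JA (p := p)) T.subtype U hUp
    (fun x _ hx => by simpa using hx)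
  have h3 : U.map T.subtype = R := by
    rw [hU, Subgroup.subgroupOf_map_subtype, inf_eq_left.mpr hRT]
  rw [h3, inducedFunctor_JA, inducedFunctor_JA, h1] at h2
  have h4 : Cfsg.thompsonSubgroupAOf T = Cfsg.inducedFunctor JA R := by
    rw [inducedFunctor_JA, h2]; rfl
  have h5 := normalizer_le_normalizer_inducedFunctor (isCharPFunctor_JA (p := p)) R hRp
  rw [← h4, Subgroup.normalizer_eq_top_iff.mpr hRn] at h5
  exact Subgroup.normalizer_eq_top_iff.mp (top_le_iff.mp h5)

/-- if `J_A(T)` is not normal, then some abelian subgroup of `T` of largest order is not contained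
in the normal `p`-subgroup `R ≤ T` -/
theorem exists_maxAb_not_le {Γ : Type u} [Group Γ] [Finite Γ] {p : ℕ} [Fact p.Prime]
    (T : Subgroup Γ) (R : Subgroup Γ) [hRn : R.Normal] (hRp : IsPGroup p R)
    (L : Subgroup Γ) (hLT : T ⊓ L ≤ R)
    (hRT : R ≤ T) (hJ : ¬ (Cfsg.thompsonSubgroupAOf T).Normal) :
    ∃ A : Subgroup Γ, IsMaxAbIn T A ∧ ¬ A ≤ L := by
  by_contra hcon
  push Not at hcon
  apply hJ
  apply WJ_normal_of_le T R hRp hRT
  have h1 : Cfsg.thompsonSubgroupAOf T ≤ L := by
    unfold Cfsg.thompsonSubgroupAOf Cfsg.thompsonSubgroupA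
    rw [Subgroup.map_le_iff_le_comap]
    apply sSup_le
    intro A hA
    rw [← Subgroup.map_le_iff_le_comap]
    exact hcon _ (isMaxAbIn_map hA)
  have h2 : Cfsg.thompsonSubgroupAOf T ≤ T := Subgroup.map_subtype_le _
  exact (le_inf h2 h1).trans hLT

end Cfsg.Agent.Lib.Helper72_JAFunctor
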