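import Mathlib
import Cfsg.Prelude.Def_PLocal
import Cfsg.Agent.Lib.Helper72_AbelianJ
import Cfsg.Agent.Lib.Helper72_JAFunctor

/-!
# Rank-one pushing up (Baumann's argument): definitions  (helper50, S2768 / S2769 / S2770)

`RankOne p S` packages what the hypotheses `E₁` (`C_G(O_p(G)) ≤ O_p(G)`), `E₂` (`S` lies in a unique
maximal subgroup) and `E₃` (`G/K ≅ PSL₂(pⁿ)`) give at the level of `G` itself, so that the main line
never mentions `K`, `F` or matrices.  `MainCase` adds the two case hypotheses of the main line: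
`Z(S)` is not normal and `J(S) ≰ O_p(G)`.
-/

set_option autoImplicit false

namespace Cfsg.Agent.Lib.Helper50_PUDefs

open scoped commutatorElement

variable {G : Type*} [Group G]

/-- `Z(S)`, written as in the frozen statements. -/
abbrev ZS (S : Subgroup G) : Subgroup G := S ⊓ Subgroup.centralizer (S : Set G)

/-- `V = ⟨Z(S)^G⟩`. -/
abbrev VS (S : Subgroup G) : Subgroup G := Subgroup.normalClosure ((ZS S : Subgroup G) : Set G)

/-- `J(S)` (abelian version), inside `G`. -/
abbrev JS (S : Subgroup G) : Subgroup G := Cfsg.thompsonSubgroupAOf S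

/-- `Y = Z(J(S))`. -/
abbrev YS (S : Subgroup G) : Subgroup G := Cfsg.centerThompsonAOf S

/-- `B = C_S(Z(J(S)))`, written as in the frozen statements. -/
abbrev BS (S : Subgroup G) : Subgroup G :=
  S ⊓ Subgroup.centralizer ((Cfsg.centerThompsonAOf S : Subgroup G) : Set G)

/-- `T` is opposite to `S`: every element of one outside `O_p(G)` generates `G` together with the other. -/
structure Opp (p : ℕ) (S T : Sylow p G) : Prop where
  genS : ∀ a ∈ (S : Subgroup G), a ∉ Cfsg.pCore p G →
    Subgroup.closure (insert a ((T : Subgroup G) : Set G)) = ⊤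
  genT : ∀ b ∈ (T : Subgroup G), b ∉ Cfsg.pCore p G →
    Subgroup.closure (insert b ((S : Subgroup G) : Set G)) = ⊤

/-- The rank-one pushing-up situation, at the level of `G`. -/
structure RankOne (p : ℕ) (S : Sylow p G) : Prop where
  cent : Subgroup.centralizer ((Cfsg.pCore p G : Subgroup G) : Set G) ≤ Cfsg.pCore p G
  uniq : ∃! M : Subgroup G, IsCoatom M ∧ (S : Subgroup G) ≤ M
  comm : ⁅(S : Subgroup G), (S : Subgroup G)⁆ ≤ Cfsg.pCore p G
  expo : ∀ a ∈ (S : Subgroup G), a ^ p ∈ Cfsg.pCore p G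
  irr : ∀ D : Subgroup G, Cfsg.pCore p G ≤ D → D ≤ (S : Subgroup G) →
    Subgroup.normalizer ((S : Subgroup G) : Set G) ≤ Subgroup.normalizer (D : Set G) →
    D = Cfsg.pCore p G ∨ D = (S : Subgroup G)
  opp : ∃ T : Sylow p G, Opp p S T
  ne : ¬ (S : Subgroup G) ≤ Cfsg.pCore p G

/-- The main case: `Z(S)` is not normal in `G` and `J(S) ≰ O_p(G)`. -/
structure MainCase (p : ℕ) (S : Sylow p G) : Prop extends RankOne p S where
  hZ : ¬ (ZS (S : Subgroup G)).Normal
  hJ : ¬ JS (S : Subgroup G) ≤ Cfsg.pCore p G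

/-- What the main line needs from `PSL₂(pⁿ)`, as abstract properties of a group `L` (invariant under
isomorphism): Sylow `p`-subgroups are elementary abelian; a nontrivial element of one Sylow
`p`-subgroup generates `L` together with any other Sylow `p`-subgroup; there are two Sylow
`p`-subgroups; the normalizer of a Sylow `p`-subgroup acts irreducibly on it. -/
structure PSLike (p : ℕ) (L : Type*) [Group L] : Prop where
  elem : ∀ P : Sylow p L, (∀ x ∈ (P : Subgroup L), ∀ y ∈ (P : Subgroup L), x * y = y * x) ∧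
    ∀ x ∈ (P : Subgroup L), x ^ p = 1
  gen : ∀ P P' : Sylow p L, P ≠ P' → ∀ u ∈ (P : Subgroup L), u ≠ 1 →
    Subgroup.closure (insert u ((P' : Subgroup L) : Set L)) = ⊤
  two : ∃ P P' : Sylow p L, P ≠ P'
  irr : ∀ (P : Sylow p L) (D : Subgroup L), D ≤ (P : Subgroup L) →
    Subgroup.normalizer ((P : Subgroup L) : Set L) ≤ Subgroup.normalizer (D : Set L) →
    D = ⊥ ∨ D = (P : Subgroup L)

open Cfsg.Agent.Lib.Helper51_Offender in
/-- What conjugation gives for an arbitrary Sylow `p`-subgroup `T` (package `OPPT`). -/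
structure Transp (p : ℕ) (S T : Sylow p G) : Prop where
  core_le : Cfsg.pCore p G ≤ (T : Subgroup G)
  comm : ⁅(T : Subgroup G), (T : Subgroup G)⁆ ≤ Cfsg.pCore p G
  expo : ∀ b ∈ (T : Subgroup G), b ^ p ∈ Cfsg.pCore p G
  quad : ⁅VS (S : Subgroup G), (T : Subgroup G)⁆ ≤
    Subgroup.centralizer (((T : Subgroup G) : Subgroup G) : Set G)
  cardCV : Nat.card (CV (VS (S : Subgroup G)) (T : Subgroup G)) =
    Nat.card (CV (VS (S : Subgroup G)) (S : Subgroup G))
  card : Nat.card (T : Subgroup G) = Nat.card (S : Subgroup G)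

open Cfsg.Agent.Lib.Helper51_Offender in
/-- Fixed points of `V` under `S`, `T` and single elements, for `T` opposite to `S` (package `VX`). -/
structure VXFacts (p : ℕ) (S T : Sylow p G) : Prop where
  inf : CV (VS (S : Subgroup G)) (S : Subgroup G) ⊓ CV (VS (S : Subgroup G)) (T : Subgroup G) =
    VS (S : Subgroup G) ⊓ Subgroup.center G
  left : ∀ a ∈ (S : Subgroup G), a ∉ Cfsg.pCore p G →
    (VS (S : Subgroup G) ⊓ Subgroup.centralizer ({a} : Set G)) ⊓
      CV (VS (S : Subgroup G)) (T : Subgroup G) = VS (S : Subgroup G) ⊓ Subgroup.center G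
  right : ∀ b ∈ (T : Subgroup G), b ∉ Cfsg.pCore p G →
    CV (VS (S : Subgroup G)) (S : Subgroup G) ⊓ Subgroup.centralizer ({b} : Set G) =
      VS (S : Subgroup G) ⊓ Subgroup.center G

open Cfsg.Agent.Lib.Helper51_Offender in
/-- Basic facts on `V = ⟨Z(S)^G⟩` (package `VBASIC`). -/
structure VBasic (p : ℕ) (S : Sylow p G) : Prop where
  Z_le : ZS (S : Subgroup G) ≤ Cfsg.pCore p G
  V_le : VS (S : Subgroup G) ≤ Cfsg.pCore p G
  cent : Cfsg.pCore p G ≤ Subgroup.centralizer ((VS (S : Subgroup G) : Subgroup G) : Set G)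
  comm : IsMulCommutative (VS (S : Subgroup G))
  cv : CV (VS (S : Subgroup G)) (S : Subgroup G) = ZS (S : Subgroup G)
  core_le : Cfsg.pCore p G ≤ (S : Subgroup G)
  core_normal : (Cfsg.pCore p G).Normal
  core_pgroup : IsPGroup p (Cfsg.pCore p G)

end Cfsg.Agent.Lib.Helper50_PUDefs
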