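import Mathlib
import Cfsg.Agent.Lib.Helper50_PUDefs
import Cfsg.Agent.Lib.Helper1_Cores

set_option autoImplicit false
set_option linter.unusedSectionVars false

namespace Cfsg.Agent.Lib.Helper57_PU_VBASIC

open Cfsg.Agent.Lib.Helper50_PUDefs Cfsg.Agent.Lib.Helper51_Offender
open scoped commutatorElement

section Main

variable {G : Type*} [Group G] [Finite G] {p : ℕ} [Fact p.Prime] {S : Sylow p G}

local notation "Q" => Cfsg.pCore p G
local notation "V" => VS (S : Subgroup G)
local notation "Z" => ZS (S : Subgroup G)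
local notation "J" => JS (S : Subgroup G)
local notation "Y" => YS (S : Subgroup G)
local notation "B" => BS (S : Subgroup G)
local notation "ZD" => YS (Cfsg.pCore p G)
local notation "LJ" => Subgroup.normalClosure ((JS (S : Subgroup G) : Subgroup G) : Set G)
local notation "Q₀" => Cfsg.pCore p G ⊓ Subgroup.centralizer ((YS (S : Subgroup G) : Subgroup G) : Set G)

-- PKG VBASIC
theorem v_basic (h : MainCase p S) : VBasic p S := by
  have hQn : (Q).Normal := Cfsg.Agent.Lib.Helper1_Cores.pCore_normal p
  have hQp : IsPGroup p (Q) := Cfsg.Agent.Lib.Helper1_Cores.pCore_isPGroup p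
  have hQS : Q ≤ (S : Subgroup G) := Cfsg.Agent.Lib.Helper1_Cores.pCore_le_sylow p S
  -- `Z ≤ C(Q)`
  have hZC : Z ≤ Subgroup.centralizer ((Q : Subgroup G) : Set G) :=
    le_trans inf_le_right (Subgroup.centralizer_le hQS)
  have hZQ : Z ≤ Q := le_trans hZC h.cent
  have hCn : (Subgroup.centralizer ((Q : Subgroup G) : Set G)).Normal := Subgroup.normal_centralizer
  have hVQ : V ≤ Q := Subgroup.normalClosure_le_normal hZQ
  have hVC : V ≤ Subgroup.centralizer ((Q : Subgroup G) : Set G) :=
    Subgroup.normalClosure_le_normal hZC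
  have hQCV : Q ≤ Subgroup.centralizer ((V : Subgroup G) : Set G) := by
    rw [Subgroup.le_centralizer_iff]
    exact hVC
  refine ⟨hZQ, hVQ, hQCV, ?_, ?_, hQS, hQn, hQp⟩
  · rw [← Subgroup.le_centralizer_iff_isMulCommutative]
    exact le_trans hVQ hQCV
  · unfold CV
    apply le_antisymm
    · exact le_inf (le_trans inf_le_left (le_trans hVQ hQS)) inf_le_right
    · exact le_inf (le_trans Subgroup.subset_normalClosure (le_refl _)) inf_le_right

end Main

end Cfsg.Agent.Lib.Helper57_PU_VBASIC
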