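import Mathlib
import Cfsg.Agent.Lib.Helper50_PUDefs

/-!
# pu market (architect helper50, S2768 / S2769 / S2770), package JAPI1

API for the abelian-version Thompson subgroup `J(T)` of a subgroup `T` of a finite group, part 1:
`J(T)` is generated by the abelian subgroups of `T` of largest order (inside `G`), these exist,
`J(T) ≤ T`, `Z(J(T)) ≤ T`, and `Z(J(T))` is commutative.
-/

set_option autoImplicit false

namespace Cfsg.Agent.Lib.Helper58_PU_JAPI1

open scoped commutatorElement
open Cfsg.Agent.Lib.Helper50_PUDefs Cfsg.Agent.Lib.Helper51_Offender Cfsg.Agent.Lib.Helper72_AbelianJ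

section General

universe u

variable {G : Type u} [Group G] [Finite G] {p : ℕ} [Fact p.Prime]

omit [Finite G] in
/-- an abelian subgroup of largest order of `T`, pulled back to the type `↥T` -/
theorem h58_subgroupOf_mem {T A : Subgroup G} (hA : IsMaxAbIn T A) :
    A.subgroupOf T ∈ Cfsg.maxAbelianSubgroups T := by
  obtain ⟨hAT, hAc, hmax⟩ := hA
  refine ⟨inferInstance, ?_⟩
  intro B hB
  have h1 : IsMulCommutative (B.map T.subtype) := Subgroup.map_isMulCommutative B T.subtype
  have h2 := hmax (B.map T.subtype) (Subgroup.map_subtype_le _) h1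
  rw [Subgroup.card_map_of_injective T.subtype_injective] at h2
  rw [Nat.card_congr (Subgroup.subgroupOfEquivOfLe hAT).toEquiv]
  exact h2

omit [Finite G] in
theorem h58_map_subgroupOf {T A : Subgroup G} (hAT : A ≤ T) :
    (A.subgroupOf T).map T.subtype = A := by
  rw [Subgroup.subgroupOf_map_subtype]
  exact inf_eq_left.mpr hAT

/-- `J(T)` is generated by the abelian subgroups of `T` of largest order -/
theorem h58_J_eq (T : Subgroup G) :
    Cfsg.thompsonSubgroupAOf T = sSup {A : Subgroup G | IsMaxAbIn T A} := by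
  apply le_antisymm
  · unfold Cfsg.thompsonSubgroupAOf Cfsg.thompsonSubgroupA
    rw [Subgroup.map_le_iff_le_comap]
    apply sSup_le
    intro A' hA'
    rw [← Subgroup.map_le_iff_le_comap]
    exact le_sSup (isMaxAbIn_map hA')
  · apply sSup_le
    intro A hA
    rw [← h58_map_subgroupOf hA.1]
    exact Subgroup.map_mono (le_sSup (h58_subgroupOf_mem hA))

/-- **JAPI1**, verbatim. -/
theorem japi1 (T : Subgroup G) :
    (Cfsg.thompsonSubgroupAOf T = sSup {A : Subgroup G | IsMaxAbIn T A}) ∧
    (∃ A : Subgroup G, IsMaxAbIn T A) ∧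
    (Cfsg.thompsonSubgroupAOf T ≤ T) ∧
    (Cfsg.centerThompsonAOf T ≤ T) ∧
    (∀ x ∈ Cfsg.centerThompsonAOf T, ∀ y ∈ Cfsg.centerThompsonAOf T, x * y = y * x) := by
  have hJT : Cfsg.thompsonSubgroupAOf T ≤ T := Subgroup.map_subtype_le _
  refine ⟨h58_J_eq T, ?_, hJT, inf_le_left.trans hJT, ?_⟩
  · obtain ⟨A₀, hA₀⟩ := Cfsg.Agent.Lib.Helper50_CL2.exists_maxAbelian (G := T)
    exact ⟨_, isMaxAbIn_map hA₀⟩
  · intro x hx y hy
    exact (Subgroup.mem_centralizer_iff.mp hy.2 x hx.1)

end General

end Cfsg.Agent.Lib.Helper58_PU_JAPI1
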