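import Mathlib
import Cfsg.Agent.Lib.Helper50_PUDefs
import Cfsg.Agent.Lib.Helper58_PU_JAPI1

/-!
# pu market (architect helper50, S2768 / S2769 / S2770), package JAPI2

API for the abelian-version Thompson subgroup, part 2: `Z(J(T))` lies in every abelian subgroup of
`T` of largest order, these are self-centralizing in `T`, and `Z(T) ≤ Z(J(T))`.
-/

set_option autoImplicit false

namespace Cfsg.Agent.Lib.Helper58_PU_JAPI2

open scoped commutatorElement
open Cfsg.Agent.Lib.Helper50_PUDefs Cfsg.Agent.Lib.Helper51_Offender Cfsg.Agent.Lib.Helper72_AbelianJ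

section General

universe u

variable {G : Type u} [Group G] [Finite G] {p : ℕ} [Fact p.Prime]

/-- abelian subgroups of `T` of largest order are self-centralizing in `T` -/
theorem h58_selfcent {T A : Subgroup G} (hA : IsMaxAbIn T A) :
    T ⊓ Subgroup.centralizer (A : Set G) = A := by
  obtain ⟨hAT, hAc, hmax⟩ := hA
  apply le_antisymm
  · intro x hx
    have hz : IsMulCommutative (Subgroup.zpowers x) := inferInstance
    have hle : Subgroup.zpowers x ≤ Subgroup.centralizer (A : Set G) := by
      rw [Subgroup.zpowers_le]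
      exact hx.2
    have hcomm : IsMulCommutative (Subgroup.zpowers x ⊔ A : Subgroup G) :=
      Cfsg.Agent.Lib.Helper50_CL2.isMulCommutative_sup hz hAc hle
    have hT : (Subgroup.zpowers x ⊔ A : Subgroup G) ≤ T :=
      sup_le (by rw [Subgroup.zpowers_le]; exact hx.1) hAT
    have hcard := hmax _ hT hcomm
    have h1 : (Subgroup.zpowers x ⊔ A : Subgroup G) = A :=
      (Subgroup.eq_of_le_of_card_ge le_sup_right hcard).symm
    rw [← h1]
    exact Subgroup.mem_sup_left (Subgroup.mem_zpowers x)
  · exact le_inf hAT (Subgroup.le_centralizer_iff_isMulCommutative.mpr hAc)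

/-- **JAPI2**, verbatim. -/
theorem japi2 (T : Subgroup G) :
    (∀ A : Subgroup G, IsMaxAbIn T A → Cfsg.centerThompsonAOf T ≤ A) ∧
    (∀ A : Subgroup G, IsMaxAbIn T A → T ⊓ Subgroup.centralizer (A : Set G) = A) ∧
    (T ⊓ Subgroup.centralizer (T : Set G) ≤ Cfsg.centerThompsonAOf T) := by
  have hJT : Cfsg.thompsonSubgroupAOf T ≤ T := Subgroup.map_subtype_le _
  refine ⟨?_, fun A hA => h58_selfcent hA, ?_⟩
  · intro A hA y hy
    have hAJ : A ≤ Cfsg.thompsonSubgroupAOf T := by
      rw [Cfsg.Agent.Lib.Helper58_PU_JAPI1.h58_J_eq T]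
      exact le_sSup hA
    rw [← h58_selfcent hA]
    refine ⟨hJT hy.1, ?_⟩
    exact Subgroup.centralizer_le (by exact_mod_cast hAJ) hy.2
  · intro z hz
    refine ⟨Cfsg.Agent.Lib.Helper72_JAFunctor.center_le_WJ T hz, ?_⟩
    exact Subgroup.centralizer_le (by exact_mod_cast hJT) hz.2

end General

end Cfsg.Agent.Lib.Helper58_PU_JAPI2
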