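import Cfsg.Agent.Lib.Helper50_PUDefs
import Cfsg.Agent.Lib.Helper47_PLocal
import Cfsg.Agent.Lib.Helper58_PU_JAPI2

/-!
# pu market (architect helper50, S2768 / S2769 / S2770), package CASE1

The trivial case `J(S) ≤ O_p(G)`: then `J(S)`, `Y = Z(J(S))` and `C = C_G(Y)` are normal, `B = S ⊓ C`;
`normalClosure B ⊓ S = B`, and by the Frattini dichotomy either `B = Q ⊓ C` is normal or `C ⊔ S = ⊤`
and `Z(S) ≤ Y` is central.
-/

set_option autoImplicit false
set_option linter.unusedVariables false

namespace Cfsg.Agent.Lib.Helper60_PU_CASE1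

open scoped commutatorElement
open Cfsg.Agent.Lib.Helper50_PUDefs Cfsg.Agent.Lib.Helper51_Offender Cfsg.Agent.Lib.Helper72_AbelianJ

section Cases

variable {G : Type*} [Group G] [Finite G] {p : ℕ} [Fact p.Prime] {S : Sylow p G}

theorem pCore_normal_aux (p : ℕ) (G : Type*) [Group G] : (Cfsg.pCore p G).Normal := by
  unfold Cfsg.pCore
  exact Subgroup.sSup_normal _ fun N hN => hN.1

/-- the centralizer of a normal subgroup is normal -/
theorem centralizer_normal_aux {G : Type*} [Group G] (N : Subgroup G) [hN : N.Normal] :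
    (Subgroup.centralizer (N : Set G)).Normal := by
  constructor
  intro c hc g
  rw [Subgroup.mem_centralizer_iff] at hc ⊢
  intro n hn
  have h1 : g⁻¹ * n * g ∈ N := by
    have := hN.conj_mem n hn g⁻¹
    rwa [inv_inv] at this
  have h2 := hc _ h1
  calc n * (g * c * g⁻¹) = g * ((g⁻¹ * n * g) * c) * g⁻¹ := by group
    _ = g * (c * (g⁻¹ * n * g)) * g⁻¹ := by rw [h2]
    _ = g * c * g⁻¹ * n := by group

-- PKG CASE1
theorem case1 (h : RankOne p S)
    (hfr : ∀ N : Subgroup G, N.Normal →
      N ⊔ (S : Subgroup G) = ⊤ ∨ N ⊓ (S : Subgroup G) ≤ Cfsg.pCore p G)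
    (hJ : JS (S : Subgroup G) ≤ Cfsg.pCore p G) :
    ((BS (S : Subgroup G)).Normal ∨ ZS (S : Subgroup G) ≤ Subgroup.center G) ∧
      Subgroup.normalClosure ((BS (S : Subgroup G) : Subgroup G) : Set G) ⊓ (S : Subgroup G) =
        BS (S : Subgroup G) := by
  have hQn : (Cfsg.pCore p G).Normal := pCore_normal_aux p G
  have hQp : IsPGroup p (Cfsg.pCore p G) := Cfsg.Agent.Lib.Helper47_PLocal.pCore_isPGroup p G
  have hQS : Cfsg.pCore p G ≤ (S : Subgroup G) := Cfsg.Agent.Lib.Helper47_PLocal.pCore_le_sylow S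
  -- `J(S)` is normal
  have hJn : (Cfsg.thompsonSubgroupAOf (S : Subgroup G)).Normal :=
    Cfsg.Agent.Lib.Helper72_JAFunctor.WJ_normal_of_le (p := p) (S : Subgroup G) (Cfsg.pCore p G)
      hQp hQS hJ
  -- `Y` is normal
  have hCJn : (Subgroup.centralizer (Cfsg.thompsonSubgroupAOf (S : Subgroup G) : Set G)).Normal :=
    centralizer_normal_aux _
  have hYn : (Cfsg.centerThompsonAOf (S : Subgroup G)).Normal := by
    unfold Cfsg.centerThompsonAOf
    infer_instance
  -- `C = C(Y)` is normal
  have hCn : (Subgroup.centralizer (Cfsg.centerThompsonAOf (S : Subgroup G) : Set G)).Normal :=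
    centralizer_normal_aux _
  set C : Subgroup G := Subgroup.centralizer (Cfsg.centerThompsonAOf (S : Subgroup G) : Set G) with hC
  have hB : BS (S : Subgroup G) = (S : Subgroup G) ⊓ C := rfl
  refine ⟨?_, ?_⟩
  · rcases hfr C hCn with htop | hle
    · -- `C ⊔ S = ⊤`: `Z(S)` is central
      right
      have hZY : ZS (S : Subgroup G) ≤ Cfsg.centerThompsonAOf (S : Subgroup G) :=
        (Cfsg.Agent.Lib.Helper58_PU_JAPI2.japi2 (S : Subgroup G)).2.2
      intro z hz
      have hzY := hZY hz
      have hle : C ⊔ (S : Subgroup G) ≤ Subgroup.centralizer ({z} : Set G) := by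
        apply sup_le
        · intro c hc
          rw [Subgroup.mem_centralizer_singleton_iff]
          exact (Subgroup.mem_centralizer_iff.mp hc z hzY).symm
        · intro s hs
          rw [Subgroup.mem_centralizer_singleton_iff]
          exact (Subgroup.mem_centralizer_iff.mp hz.2 s hs)
      rw [htop] at hle
      rw [Subgroup.mem_center_iff]
      intro g
      have := hle (Subgroup.mem_top g)
      rw [Subgroup.mem_centralizer_singleton_iff] at this
      exact this
    · -- `C ⊓ S ≤ Q`: `B = Q ⊓ C` is normal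
      left
      have hBeq : BS (S : Subgroup G) = Cfsg.pCore p G ⊓ C := by
        rw [hB]
        apply le_antisymm
        · intro x hx
          exact ⟨hle ⟨hx.2, hx.1⟩, hx.2⟩
        · exact inf_le_inf_right _ hQS
      rw [hBeq]
      infer_instance
  · apply le_antisymm
    · have hcl : Subgroup.normalClosure ((BS (S : Subgroup G) : Subgroup G) : Set G) ≤ C :=
        Subgroup.normalClosure_le_normal (fun x hx => hx.2)
      intro x hx
      exact ⟨hx.2, hcl hx.1⟩
    · intro x hx
      exact ⟨Subgroup.subset_normalClosure hx, hx.1⟩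

end Cases

end Cfsg.Agent.Lib.Helper60_PU_CASE1
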