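import Cfsg.Agent.Lib.Helper50_PUDefs

/-!
# pu market (architect helper50, S2768 / S2769 / S2770), package QUAD

Quadratic action of `S` on `V = ⟨Z(S)^G⟩` via Timmesfeld replacement: `T S V = C_S([V, S])` contains
`Q = O_p(G)`, is `N_G(S)`-invariant, hence is `Q` or `S`; the replacement acts nontrivially, so it is `S`.
-/

set_option autoImplicit false
set_option linter.unusedVariables false

namespace Cfsg.Agent.Lib.Helper60_PU_QUAD

open scoped commutatorElement
open Cfsg.Agent.Lib.Helper50_PUDefs Cfsg.Agent.Lib.Helper51_Offender Cfsg.Agent.Lib.Helper72_AbelianJ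

section aux

variable {G : Type*} [Group G]

/-- an element normalizing `A` and `Y` maps `⁅A, Y⁆` into itself -/
theorem conj_mem_commutator {A Y : Subgroup G} {g : G}
    (hA : g ∈ Subgroup.normalizer (A : Set G)) (hY : g ∈ Subgroup.normalizer (Y : Set G)) :
    ∀ x ∈ ⁅A, Y⁆, g * x * g⁻¹ ∈ ⁅A, Y⁆ := by
  have hle : ⁅A, Y⁆ ≤ (⁅A, Y⁆).comap (MulAut.conj g).toMonoidHom := by
    rw [Subgroup.commutator_le]
    intro a ha y hy
    rw [Subgroup.mem_comap]
    show (MulAut.conj g) ⁅a, y⁆ ∈ ⁅A, Y⁆
    rw [map_commutatorElement]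
    apply Subgroup.commutator_mem_commutator
    · rw [MulAut.conj_apply]
      exact (Subgroup.mem_normalizer_iff.mp hA a).mp ha
    · rw [MulAut.conj_apply]
      exact (Subgroup.mem_normalizer_iff.mp hY y).mp hy
  intro x hx
  have := hle hx
  rw [Subgroup.mem_comap] at this
  simpa [MulAut.conj_apply] using this

/-- a map-into-itself criterion for the normalizer -/
theorem mem_normalizer_of_conj {B : Subgroup G} {g : G}
    (h1 : ∀ x ∈ B, g * x * g⁻¹ ∈ B) (h2 : ∀ x ∈ B, g⁻¹ * x * g ∈ B) :
    g ∈ Subgroup.normalizer (B : Set G) := by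
  rw [Subgroup.mem_normalizer_iff]
  intro x
  constructor
  · exact h1 x
  · intro hx
    have := h2 _ hx
    have e : g⁻¹ * (g * x * g⁻¹) * g = x := by group
    rwa [e] at this

theorem mem_normalizer_commutator {A Y : Subgroup G} {g : G}
    (hA : g ∈ Subgroup.normalizer (A : Set G)) (hY : g ∈ Subgroup.normalizer (Y : Set G)) :
    g ∈ Subgroup.normalizer ((⁅A, Y⁆ : Subgroup G) : Set G) := by
  apply mem_normalizer_of_conj (conj_mem_commutator hA hY)
  intro x hx
  have := conj_mem_commutator (Subgroup.inv_mem _ hA) (Subgroup.inv_mem _ hY) x hx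
  rwa [inv_inv] at this

/-- an element normalizing `W` normalizes `C(W)` -/
theorem mem_normalizer_centralizer {W : Subgroup G} {g : G}
    (hW : g ∈ Subgroup.normalizer (W : Set G)) :
    g ∈ Subgroup.normalizer ((Subgroup.centralizer (W : Set G) : Subgroup G) : Set G) := by
  have key : ∀ k : G, k ∈ Subgroup.normalizer (W : Set G) →
      ∀ x ∈ Subgroup.centralizer (W : Set G), k * x * k⁻¹ ∈ Subgroup.centralizer (W : Set G) := by
    intro k hk x hx
    rw [Subgroup.mem_centralizer_iff] at hx ⊢
    intro w hw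
    have h1 : k⁻¹ * w * k ∈ W := by
      have := (Subgroup.mem_normalizer_iff.mp (Subgroup.inv_mem _ hk) w).mp hw
      rwa [inv_inv] at this
    have h2 := hx _ h1
    calc w * (k * x * k⁻¹) = k * ((k⁻¹ * w * k) * x) * k⁻¹ := by group
      _ = k * (x * (k⁻¹ * w * k)) * k⁻¹ := by rw [h2]
      _ = k * x * k⁻¹ * w := by group
  apply mem_normalizer_of_conj (key g hW)
  intro x hx
  have := key g⁻¹ (Subgroup.inv_mem _ hW) x hx
  rwa [inv_inv] at this

theorem mem_normalizer_inf {A C : Subgroup G} {g : G}
    (hA : g ∈ Subgroup.normalizer (A : Set G)) (hC : g ∈ Subgroup.normalizer (C : Set G)) :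
    g ∈ Subgroup.normalizer ((A ⊓ C : Subgroup G) : Set G) := by
  rw [Subgroup.mem_normalizer_iff] at hA hC ⊢
  intro x
  rw [Subgroup.mem_inf, Subgroup.mem_inf, hA x, hC x]

end aux

section Main

variable {G : Type*} [Group G] [Finite G] {p : ℕ} [Fact p.Prime] {S : Sylow p G}

local notation "Q" => Cfsg.pCore p G
local notation "V" => VS (S : Subgroup G)
local notation "Z" => ZS (S : Subgroup G)
local notation "J" => JS (S : Subgroup G)
local notation "Y" => YS (S : Subgroup G)
local notation "B" => BS (S : Subgroup G)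
local notation "ZD" => YS (Cfsg.pCore p G)
local notation "LJ" => Subgroup.normalClosure ((JS (S : Subgroup G) : Subgroup G) : Set G)
local notation "Q₀" => Cfsg.pCore p G ⊓ Subgroup.centralizer ((YS (S : Subgroup G) : Subgroup G) : Set G)

-- PKG QUAD
theorem quad (h : MainCase p S) (hvb : VBasic p S)
    (hcv : (S : Subgroup G) ⊓ Subgroup.centralizer ((V : Subgroup G) : Set G) = Q)
    (hb : Best V (S : Subgroup G)) :
    ⁅V, (S : Subgroup G)⁆ ≤ Subgroup.centralizer (((S : Subgroup G) : Subgroup G) : Set G) := by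
  have hVn : (V : Subgroup G).Normal := Subgroup.normalClosure_normal
  have hVtop : Subgroup.normalizer ((V : Subgroup G) : Set G) = ⊤ := Subgroup.normalizer_eq_top_iff.mpr hVn
  -- the action
  have hact : Act V (S : Subgroup G) := by
    refine ⟨?_, ?_, ?_⟩
    · intro x hx y hy
      have := hvb.comm.is_comm.comm ⟨x, hx⟩ ⟨y, hy⟩
      exact congrArg Subtype.val this
    · rw [hVtop]
      exact le_top
    · exact h.comm.trans hvb.cent
  have hVp : IsPGroup p (V : Subgroup G) := hvb.core_pgroup.to_le hvb.V_le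
  have hpow : ∀ a ∈ (S : Subgroup G), ∃ n : ℕ,
      a ^ p ^ n ∈ Subgroup.centralizer ((V : Subgroup G) : Set G) := by
    intro a ha
    refine ⟨1, ?_⟩
    rw [pow_one]
    exact hvb.cent (h.expo a ha)
  -- `⁅V, S⁆ ≠ ⊥`
  have hne : ⁅V, (S : Subgroup G)⁆ ≠ ⊥ := by
    intro h0
    apply h.ne
    have h1 : (V : Subgroup G) ≤ Subgroup.centralizer (((S : Subgroup G) : Subgroup G) : Set G) :=
      Subgroup.commutator_eq_bot_iff_le_centralizer.mp h0
    have h2 : (S : Subgroup G) ≤ Subgroup.centralizer ((V : Subgroup G) : Set G) :=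
      Subgroup.le_centralizer_iff.mp h1
    rw [← hcv]
    exact le_inf le_rfl h2
  have hnt := timmesfeld_nontrivial' hact hb hVp hpow (le_refl (V : Subgroup G)) hne
  -- `T S V` lies between `Q` and `S` and is `N_G(S)`-invariant
  have hcomle : ⁅V, (S : Subgroup G)⁆ ≤ V := Subgroup.commutator_le_left _ _
  have hQT : Q ≤ T (S : Subgroup G) V := by
    unfold T
    exact le_inf hvb.core_le (hvb.cent.trans (Subgroup.centralizer_le hcomle))
  have hTS : T (S : Subgroup G) V ≤ (S : Subgroup G) := T_le _ _
  have hNT : Subgroup.normalizer (((S : Subgroup G) : Subgroup G) : Set G) ≤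
      Subgroup.normalizer ((T (S : Subgroup G) V : Subgroup G) : Set G) := by
    intro n hn
    unfold T
    have hnV : n ∈ Subgroup.normalizer ((V : Subgroup G) : Set G) := by
      rw [hVtop]
      exact Subgroup.mem_top n
    exact mem_normalizer_inf hn (mem_normalizer_centralizer (mem_normalizer_commutator hnV hn))
  rcases h.irr (T (S : Subgroup G) V) hQT hTS hNT with hT | hT
  · exfalso
    apply hnt
    rw [hT, Subgroup.commutator_eq_bot_iff_le_centralizer]
    exact Subgroup.le_centralizer_iff.mp hvb.cent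
  · have h1 : (S : Subgroup G) ≤
        Subgroup.centralizer ((⁅V, (S : Subgroup G)⁆ : Subgroup G) : Set G) := by
      have : T (S : Subgroup G) V ≤
          Subgroup.centralizer ((⁅V, (S : Subgroup G)⁆ : Subgroup G) : Set G) := by
        unfold T
        exact inf_le_right
      rwa [hT] at this
    exact Subgroup.le_centralizer_iff.mp h1

end Main

end Cfsg.Agent.Lib.Helper60_PU_QUAD
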