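import Cfsg.Agent.Lib.Helper50_PUDefs
import Cfsg.Agent.S0075
import Cfsg.Agent.S0260
import Cfsg.Agent.Lib.Helper47_YL
import Cfsg.Agent.Lib.Helper1_LocalZJ

set_option autoImplicit false
set_option linter.unusedSectionVars false

/-!
helper61: market `pu_packages` (architect helper50, S2768 / S2769 / S2770), package VX: for `T` opposite to `S`, an element
of `V` centralizing `a ∈ S \ Q` and `T` (or `S` and `b ∈ T \ Q`, or `S` and `T`) is central, since `⟨a, T⟩ = G`.
-/

namespace Cfsg.Agent.Lib.Helper61_PU_VX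

open scoped commutatorElement
open Cfsg.Agent.Lib.Helper50_PUDefs Cfsg.Agent.Lib.Helper51_Offender Cfsg.Agent.Lib.Helper72_AbelianJ

/-- an element commuting with a generating set is central -/
theorem mem_center_of_closure_eq_top {G : Type*} [Group G] {X : Set G}
    (hX : Subgroup.closure X = ⊤) {x : G} (hx : ∀ y ∈ X, y * x = x * y) : x ∈ Subgroup.center G := by
  have hle : Subgroup.closure X ≤ Subgroup.centralizer ({x} : Set G) := by
    rw [Subgroup.closure_le]
    intro y hy
    rw [SetLike.mem_coe, Subgroup.mem_centralizer_iff]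
    intro z hz
    rw [Set.mem_singleton_iff] at hz
    rw [hz]
    exact (hx y hy).symm
  rw [hX] at hle
  rw [Subgroup.mem_center_iff]
  intro g
  have hg : g ∈ Subgroup.centralizer ({x} : Set G) := hle (Subgroup.mem_top g)
  rw [Subgroup.mem_centralizer_iff] at hg
  exact (hg x (Set.mem_singleton x)).symm

section Main

variable {G : Type*} [Group G] [Finite G] {p : ℕ} [Fact p.Prime] {S : Sylow p G}

local notation "Q" => Cfsg.pCore p G
local notation "V" => VS (S : Subgroup G)
local notation "Z" => ZS (S : Subgroup G)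
local notation "J" => JS (S : Subgroup G)
local notation "Y" => YS (S : Subgroup G)
local notation "B" => BS (S : Subgroup G)
local notation "ZD" => YS (Cfsg.pCore p G)
local notation "LJ" => Subgroup.normalClosure ((JS (S : Subgroup G) : Subgroup G) : Set G)
local notation "Q₀" => Cfsg.pCore p G ⊓ Subgroup.centralizer ((YS (S : Subgroup G) : Subgroup G) : Set G)

/-- central elements of `V` lie in every `C_V(·)` -/
theorem center_le_CV (D : Subgroup G) : V ⊓ Subgroup.center G ≤ CV V D := by
  intro x hx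
  rw [Subgroup.mem_inf] at hx
  rw [mem_CV]
  refine ⟨hx.1, fun b _ => ?_⟩
  exact ((Subgroup.mem_center_iff.1 hx.2) b)

theorem center_le_centralizer (a : G) :
    V ⊓ Subgroup.center G ≤ Subgroup.centralizer ({a} : Set G) := by
  intro x hx
  rw [Subgroup.mem_inf] at hx
  rw [Subgroup.mem_centralizer_iff]
  intro z hz
  rw [Set.mem_singleton_iff] at hz
  rw [hz]
  exact ((Subgroup.mem_center_iff.1 hx.2) a)

theorem left_aux (T : Sylow p G) (hT : Opp p S T) (a : G) (ha : a ∈ (S : Subgroup G))
    (haQ : a ∉ Q) :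
    (V ⊓ Subgroup.centralizer ({a} : Set G)) ⊓ CV V (T : Subgroup G) = V ⊓ Subgroup.center G := by
  apply le_antisymm
  · intro x hx
    rw [Subgroup.mem_inf, Subgroup.mem_inf] at hx
    obtain ⟨⟨hxV, hxa⟩, hxT⟩ := hx
    rw [mem_CV] at hxT
    rw [Subgroup.mem_centralizer_iff] at hxa
    refine Subgroup.mem_inf.2 ⟨hxV, ?_⟩
    apply mem_center_of_closure_eq_top (hT.genS a ha haQ)
    intro y hy
    rcases Set.mem_insert_iff.1 hy with rfl | hy
    · exact hxa y (Set.mem_singleton y)
    · exact hxT.2 y hy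
  · exact le_inf (le_inf inf_le_left (center_le_centralizer a)) (center_le_CV _)

theorem right_aux (T : Sylow p G) (hT : Opp p S T) (b : G) (hb : b ∈ (T : Subgroup G))
    (hbQ : b ∉ Q) :
    CV V (S : Subgroup G) ⊓ Subgroup.centralizer ({b} : Set G) = V ⊓ Subgroup.center G := by
  apply le_antisymm
  · intro x hx
    rw [Subgroup.mem_inf] at hx
    obtain ⟨hxS, hxb⟩ := hx
    rw [mem_CV] at hxS
    rw [Subgroup.mem_centralizer_iff] at hxb
    refine Subgroup.mem_inf.2 ⟨hxS.1, ?_⟩
    apply mem_center_of_closure_eq_top (hT.genT b hb hbQ)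
    intro y hy
    rcases Set.mem_insert_iff.1 hy with rfl | hy
    · exact hxb y (Set.mem_singleton y)
    · exact hxS.2 y hy
  · exact le_inf (center_le_CV _) (center_le_centralizer b)

-- PKG VX
theorem vx (h : MainCase p S) (T : Sylow p G) (hT : Opp p S T) : VXFacts p S T := by
  refine ⟨?_, fun a ha haQ => left_aux T hT a ha haQ, fun b hb hbQ => right_aux T hT b hb hbQ⟩
  apply le_antisymm
  · -- some `a ∈ S \ Q`
    obtain ⟨a, haS, haQ⟩ : ∃ a ∈ (S : Subgroup G), a ∉ Q := by
      by_contra hcon
      push Not at hcon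
      exact h.ne hcon
    rw [← left_aux T hT a haS haQ]
    intro x hx
    rw [Subgroup.mem_inf] at hx
    obtain ⟨hxS, hxT⟩ := hx
    have hxS' := mem_CV.1 hxS
    refine Subgroup.mem_inf.2 ⟨Subgroup.mem_inf.2 ⟨hxS'.1, ?_⟩, hxT⟩
    rw [Subgroup.mem_centralizer_iff]
    intro z hz
    rw [Set.mem_singleton_iff] at hz
    rw [hz]
    exact hxS'.2 a haS
  · exact le_inf (center_le_CV _) (center_le_CV _)

end Main

end Cfsg.Agent.Lib.Helper61_PU_VX
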