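import Cfsg.Agent.Lib.Helper50_PUDefs

/-!
# pu package SUCORE (helper69, for helper50's S2768 / S2769 / S2770 market)

`su_core`: from `PSLike p (G ⧸ K)` and the Frattini dichotomy, `O_p(G) = K ⊓ S` and `K ⊔ S ≠ ⊤`.
-/

set_option autoImplicit false

namespace Cfsg.Agent.Lib.Helper69_PU_SUCORE

open scoped commutatorElement
open Cfsg.Agent.Lib.Helper50_PUDefs Cfsg.Agent.Lib.Helper51_Offender Cfsg.Agent.Lib.Helper72_AbelianJ

section Aux

variable {L : Type*} [Group L] [Finite L] {p : ℕ} [Fact p.Prime]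

/-- In a `PSLike` group a normal `p`-subgroup is trivial. -/
theorem h69_normal_pgroup_eq_bot (hL : PSLike p L) (N : Subgroup L) (hN : N.Normal)
    (hp : IsPGroup p N) : N = ⊥ := by
  obtain ⟨P, P', hne⟩ := hL.two
  have hNP : N ≤ (P : Subgroup L) := hp.le_sylow_of_normal P
  have hnorm : Subgroup.normalizer ((P : Subgroup L) : Set L) ≤ Subgroup.normalizer (N : Set L) := by
    rw [Subgroup.normalizer_eq_top_iff.2 hN]
    exact le_top
  rcases hL.irr P N hNP hnorm with h | h
  · exact h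
  · exfalso
    have hPn : (P : Subgroup L).Normal := h ▸ hN
    haveI : Subsingleton (Sylow p L) := (Sylow.unique_of_normal P hPn).instSubsingleton
    exact hne (Subsingleton.elim _ _)

/-- A `PSLike` group is not a `p`-group. -/
theorem h69_not_isPGroup (hL : PSLike p L) : ¬ IsPGroup p L := by
  intro h
  have htop : (⊤ : Subgroup L) = ⊥ :=
    h69_normal_pgroup_eq_bot hL ⊤ inferInstance (h.to_subgroup ⊤)
  obtain ⟨P, P', hne⟩ := hL.two
  apply hne
  apply Sylow.ext
  have h1 : (P : Subgroup L) = ⊥ := le_bot_iff.1 (htop ▸ le_top)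
  have h2 : (P' : Subgroup L) = ⊥ := le_bot_iff.1 (htop ▸ le_top)
  rw [h1, h2]

end Aux

section Setup

variable {G : Type*} [Group G] [Finite G] {p : ℕ} [Fact p.Prime] (S : Sylow p G)

-- PKG SUCORE
theorem su_core (hE₂ : ∃! M : Subgroup G, IsCoatom M ∧ (S : Subgroup G) ≤ M)
    (hfr : ∀ N : Subgroup G, N.Normal →
      N ⊔ (S : Subgroup G) = ⊤ ∨ N ⊓ (S : Subgroup G) ≤ Cfsg.pCore p G)
    (K : Subgroup G) [K.Normal] (hL : PSLike p (G ⧸ K)) :
    Cfsg.pCore p G = K ⊓ (S : Subgroup G) ∧ K ⊔ (S : Subgroup G) ≠ ⊤ := by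
  have hQp : IsPGroup p (Cfsg.pCore p G) :=
    Sylow.sSup_of_normal _ (fun _ h => h.2) (fun _ h => h.1)
  have hQn : (Cfsg.pCore p G).Normal := by
    unfold Cfsg.pCore
    exact Subgroup.sSup_normal _ (fun _ h => h.1)
  have hQS : Cfsg.pCore p G ≤ (S : Subgroup G) := hQp.le_sylow_of_normal S
  -- the image of `Q` in `G ⧸ K` is trivial
  have hmapQ : (Cfsg.pCore p G).map (QuotientGroup.mk' K) = ⊥ := by
    apply h69_normal_pgroup_eq_bot hL
    · exact hQn.map _ (QuotientGroup.mk'_surjective K)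
    · exact hQp.map _
  have hQK : Cfsg.pCore p G ≤ K := by
    have := (Subgroup.map_eq_bot_iff _).1 hmapQ
    rwa [QuotientGroup.ker_mk'] at this
  have hne : K ⊔ (S : Subgroup G) ≠ ⊤ := by
    intro htop
    apply h69_not_isPGroup hL
    have hmap : ((S : Subgroup G)).map (QuotientGroup.mk' K) = ⊤ := by
      have h1 : (K ⊔ (S : Subgroup G)).map (QuotientGroup.mk' K) = ⊤ := by
        rw [htop, ← MonoidHom.range_eq_map]
        exact MonoidHom.range_eq_top.2 (QuotientGroup.mk'_surjective K)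
      rw [Subgroup.map_sup] at h1
      have h2 : K.map (QuotientGroup.mk' K) = ⊥ := by
        rw [Subgroup.map_eq_bot_iff, QuotientGroup.ker_mk']
      rwa [h2, bot_sup_eq] at h1
    have hp' : IsPGroup p (((S : Subgroup G)).map (QuotientGroup.mk' K)) := S.2.map _
    rw [hmap] at hp'
    exact IsPGroup.of_equiv hp' Subgroup.topEquiv
  refine ⟨le_antisymm (le_inf hQK hQS) ?_, hne⟩
  rcases hfr K inferInstance with h | h
  · exact absurd h hne
  · exact h

end Setup

end Cfsg.Agent.Lib.Helper69_PU_SUCORE
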