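import Cfsg.Agent.Lib.Helper50_PUDefs

set_option autoImplicit false

namespace Cfsg.Agent.Lib.Helper6_PU_SUIRR

open scoped commutatorElement
open Cfsg.Agent.Lib.Helper50_PUDefs Cfsg.Agent.Lib.Helper51_Offender Cfsg.Agent.Lib.Helper72_AbelianJ

section Setup

variable {G : Type*} [Group G] [Finite G] {p : ℕ} [Fact p.Prime] (S : Sylow p G)

/-- Two Sylow subgroups of `G` lying in `H` are conjugate by an element of `H`. -/
theorem h6_sylow_conj_in (H : Subgroup G) (P P' : Sylow p G) (hP : (P : Subgroup G) ≤ H)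
    (hP' : (P' : Subgroup G) ≤ H) : ∃ y ∈ H, y • P = P' := by
  obtain ⟨h, hh⟩ := MulAction.exists_smul_eq H (P.subtype hP) (P'.subtype hP')
  refine ⟨(h : G), h.2, ?_⟩
  rw [Sylow.smul_subtype] at hh
  exact Sylow.subtype_injective hh

/-- membership in `y • P` for a Sylow subgroup. -/
theorem h6_mem_smul (P : Sylow p G) (y x : G) :
    x ∈ ((y • P : Sylow p G) : Subgroup G) ↔ y⁻¹ * x * y ∈ (P : Subgroup G) := by
  rw [Sylow.coe_subgroup_smul, Subgroup.mem_pointwise_smul_iff_inv_smul_mem]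
  simp [MulAut.smul_def]

-- PKG SUIRR
theorem su_irr (K : Subgroup G) [K.Normal] (hL : PSLike p (G ⧸ K))
    (hcore : Cfsg.pCore p G = K ⊓ (S : Subgroup G)) (D : Subgroup G)
    (hQD : Cfsg.pCore p G ≤ D) (hDS : D ≤ (S : Subgroup G))
    (hN : Subgroup.normalizer ((S : Subgroup G) : Set G) ≤ Subgroup.normalizer (D : Set G)) :
    D = Cfsg.pCore p G ∨ D = (S : Subgroup G) := by
  classical
  set π : G →* G ⧸ K := QuotientGroup.mk' K with hπ
  have hsurj : Function.Surjective π := QuotientGroup.mk'_surjective K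
  set Sb : Sylow p (G ⧸ K) := S.mapSurjective hsurj with hSb
  have hSbcoe : (Sb : Subgroup (G ⧸ K)) = (S : Subgroup G).map π := Sylow.coe_mapSurjective hsurj S
  have hDb : D.map π ≤ (Sb : Subgroup (G ⧸ K)) := by
    rw [hSbcoe]; exact Subgroup.map_mono hDS
  -- S normalizes D
  have hSN : (S : Subgroup G) ≤ Subgroup.normalizer (D : Set G) :=
    le_trans Subgroup.le_normalizer hN
  -- key: the normalizer of `Sb` normalizes the image of `D`
  have hNb : Subgroup.normalizer ((Sb : Subgroup (G ⧸ K)) : Set (G ⧸ K)) ≤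
      Subgroup.normalizer ((D.map π : Subgroup (G ⧸ K)) : Set (G ⧸ K)) := by
    intro xb hxb
    obtain ⟨x, rfl⟩ := hsurj xb
    -- x • S ≤ S ⊔ K
    have h1 : ((x • S : Sylow p G) : Subgroup G) ≤ (S : Subgroup G) ⊔ K := by
      intro u hu
      rw [h6_mem_smul] at hu
      -- π (x⁻¹ u x) ∈ Sb, so π u ∈ Sb since π x normalizes Sb
      have h2 : π (x⁻¹ * u * x) ∈ (Sb : Subgroup (G ⧸ K)) := by
        rw [hSbcoe]; exact Subgroup.mem_map_of_mem π hu
      have h3 : π u ∈ (Sb : Subgroup (G ⧸ K)) := by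
        have h4 := (Subgroup.mem_set_normalizer_iff.mp hxb (π (x⁻¹ * u * x))).mp h2
        have h5 : π x * π (x⁻¹ * u * x) * (π x)⁻¹ = π u := by
          rw [← map_inv, ← map_mul, ← map_mul]; congr 1; group
        rwa [h5] at h4
      rw [hSbcoe] at h3
      obtain ⟨s, hs, hsu⟩ := h3
      have h6 : s⁻¹ * u ∈ K := by
        have : π (s⁻¹ * u) = 1 := by rw [map_mul, map_inv, hsu]; simp
        rwa [hπ, QuotientGroup.mk'_apply, QuotientGroup.eq_one_iff] at this
      have h7 : u = s * (s⁻¹ * u) := by group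
      rw [h7]
      exact Subgroup.mul_mem_sup hs h6
    obtain ⟨y, hy, hyS⟩ := h6_sylow_conj_in ((S : Subgroup G) ⊔ K) S (x • S) le_sup_left h1
    -- y = s * k
    have hy' : y ∈ (S : Subgroup G) ⊔ K := hy
    rw [Subgroup.mem_sup_of_normal_right] at hy'
    obtain ⟨s, hs, k, hk, hsk⟩ := hy'
    -- n := y⁻¹ x normalizes S
    have hn : (y⁻¹ * x) • S = S := by
      rw [mul_smul, ← hyS, smul_smul]; simp
    have hnN : y⁻¹ * x ∈ Subgroup.normalizer ((S : Subgroup G) : Set G) :=
      Sylow.smul_eq_iff_mem_normalizer.mp hn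
    have hnD : y⁻¹ * x ∈ Subgroup.normalizer (D : Set G) := hN hnN
    have hsD : s ∈ Subgroup.normalizer (D : Set G) := hSN hs
    -- π x = π s * π (y⁻¹ x)
    have hπk : π k = 1 := by
      rw [hπ, QuotientGroup.mk'_apply, QuotientGroup.eq_one_iff]; exact hk
    have hπx : π x = π (s * (y⁻¹ * x)) := by
      have h8 : π y = π s := by rw [← hsk, map_mul, hπk, mul_one]
      have h9 : π x = π y * π (y⁻¹ * x) := by rw [← map_mul]; congr 1; group
      rw [h9, h8, ← map_mul]
    have hsn : s * (y⁻¹ * x) ∈ Subgroup.normalizer (D : Set G) :=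
      Subgroup.mul_mem _ hsD hnD
    rw [hπx]
    exact Subgroup.le_normalizer_map π (Subgroup.mem_map_of_mem π hsn)
  rcases hL.irr Sb (D.map π) hDb hNb with h | h
  · left
    apply le_antisymm _ hQD
    rw [hcore]
    refine le_inf ?_ hDS
    intro d hd
    have : π d ∈ D.map π := Subgroup.mem_map_of_mem π hd
    rw [h, Subgroup.mem_bot, hπ, QuotientGroup.mk'_apply, QuotientGroup.eq_one_iff] at this
    exact this
  · right
    apply le_antisymm hDS
    intro s hs
    have h1 : π s ∈ D.map π := by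
      rw [h, hSbcoe]; exact Subgroup.mem_map_of_mem π hs
    obtain ⟨d, hd, hds⟩ := h1
    have h2 : d⁻¹ * s ∈ K := by
      have : π (d⁻¹ * s) = 1 := by rw [map_mul, map_inv, hds]; simp
      rwa [hπ, QuotientGroup.mk'_apply, QuotientGroup.eq_one_iff] at this
    have h3 : d⁻¹ * s ∈ (S : Subgroup G) :=
      Subgroup.mul_mem _ (Subgroup.inv_mem _ (hDS hd)) hs
    have h4 : d⁻¹ * s ∈ D := hQD (by rw [hcore]; exact ⟨h2, h3⟩)
    have h5 : s = d * (d⁻¹ * s) := by group
    rw [h5]
    exact D.mul_mem hd h4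

end Setup

end Cfsg.Agent.Lib.Helper6_PU_SUIRR
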