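import Cfsg.Agent.Lib.Helper50_PUDefs
import Cfsg.Agent.Lib.Helper6_PU_SUIRR

set_option autoImplicit false

namespace Cfsg.Agent.Lib.Helper6_PU_SUOPP

open scoped commutatorElement
open Cfsg.Agent.Lib.Helper50_PUDefs Cfsg.Agent.Lib.Helper51_Offender Cfsg.Agent.Lib.Helper72_AbelianJ
open Cfsg.Agent.Lib.Helper6_PU_SUIRR

section Setup

variable {G : Type*} [Group G] [Finite G] {p : ℕ} [Fact p.Prime] (S : Sylow p G)

/-- a proper subgroup containing `S` lies in the unique coatom over `S`. -/
theorem h6_le_coatom (M : Subgroup G) (hM : IsCoatom M ∧ (S : Subgroup G) ≤ M)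
    (huniq : ∀ M' : Subgroup G, IsCoatom M' ∧ (S : Subgroup G) ≤ M' → M' = M)
    (H : Subgroup G) (hSH : (S : Subgroup G) ≤ H) (hH : H ≠ ⊤) : H ≤ M := by
  obtain ⟨M', hM', hHM'⟩ := (eq_top_or_exists_le_coatom H).resolve_left hH
  have := huniq M' ⟨hM', le_trans hSH hHM'⟩
  rw [← this]; exact hHM'

/-- image of a closure `insert a T` under the quotient map. -/
theorem h6_map_closure_insert {H : Type*} [Group H] (π : G →* H) (a : G) (T : Subgroup G) :
    (Subgroup.closure (insert a (T : Set G))).map π =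
      Subgroup.closure (insert (π a) ((T.map π : Subgroup H) : Set H)) := by
  rw [MonoidHom.map_closure, Set.image_insert_eq]
  rfl

-- PKG SUOPP
theorem su_opp (hE₂ : ∃! M : Subgroup G, IsCoatom M ∧ (S : Subgroup G) ≤ M)
    (K : Subgroup G) [K.Normal] (hL : PSLike p (G ⧸ K))
    (hcore : Cfsg.pCore p G = K ⊓ (S : Subgroup G)) (hKS : K ⊔ (S : Subgroup G) ≠ ⊤) :
    (∃ T : Sylow p G, Opp p S T) ∧ ¬ (S : Subgroup G) ≤ Cfsg.pCore p G := by
  classical
  obtain ⟨M, hM, huniq⟩ := hE₂
  have hQn : (Cfsg.pCore p G).Normal := Subgroup.sSup_normal _ (fun _ h => h.1)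
  set π : G →* G ⧸ K := QuotientGroup.mk' K with hπ
  have hsurj : Function.Surjective π := QuotientGroup.mk'_surjective K
  have hker : ∀ u : G, π u = 1 ↔ u ∈ K := by
    intro u; rw [hπ, QuotientGroup.mk'_apply, QuotientGroup.eq_one_iff]
  set Sb : Sylow p (G ⧸ K) := S.mapSurjective hsurj with hSb
  have hSbcoe : (Sb : Subgroup (G ⧸ K)) = (S : Subgroup G).map π := Sylow.coe_mapSurjective hsurj S
  -- K ≤ M
  have hKM : K ≤ M := le_trans le_sup_left (h6_le_coatom S M hM huniq _ le_sup_right hKS)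
  have hMtop : M ≠ ⊤ := hM.1.1
  -- a Sylow subgroup of the quotient different from `Sb`
  obtain ⟨P, P', hPP'⟩ := hL.two
  obtain ⟨Tb, hTb⟩ : ∃ Tb : Sylow p (G ⧸ K), Tb ≠ Sb := by
    by_cases h : P = Sb
    · exact ⟨P', fun h' => hPP' (h.trans h'.symm)⟩
    · exact ⟨P, h⟩
  obtain ⟨gb, hgb⟩ := MulAction.exists_smul_eq (G ⧸ K) Sb Tb
  obtain ⟨g, rfl⟩ := hsurj gb
  set T : Sylow p G := g • S with hT
  -- the image of `T` is `Tb`
  have hTmap : (T : Subgroup G).map π = (Tb : Subgroup (G ⧸ K)) := by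
    rw [← hgb]
    ext u
    constructor
    · rintro ⟨t, ht, rfl⟩
      rw [SetLike.mem_coe, hT, h6_mem_smul] at ht
      rw [h6_mem_smul, hSbcoe]
      refine ⟨g⁻¹ * t * g, ht, ?_⟩
      simp [map_mul, map_inv]
    · intro hu
      rw [h6_mem_smul, hSbcoe] at hu
      obtain ⟨s, hs, hsu⟩ := hu
      refine ⟨g * s * g⁻¹, ?_, ?_⟩
      · rw [SetLike.mem_coe, hT, h6_mem_smul]
        have : g⁻¹ * (g * s * g⁻¹) * g = s := by group
        rw [this]; exact hs
      · rw [map_mul, map_mul, hsu, map_inv]; group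
  -- `¬ S ≤ Q`
  have hne : ¬ (S : Subgroup G) ≤ Cfsg.pCore p G := by
    intro hSQ
    have hSK : (S : Subgroup G) ≤ K := le_trans hSQ (by rw [hcore]; exact inf_le_left)
    have hSb1 : (Sb : Subgroup (G ⧸ K)) = ⊥ := by
      rw [hSbcoe, eq_bot_iff]
      rintro _ ⟨s, hs, rfl⟩
      rw [Subgroup.mem_bot, hker]; exact hSK hs
    apply hTb
    apply Sylow.ext
    rw [← hgb, hSb1]
    ext u
    rw [h6_mem_smul, hSb1, Subgroup.mem_bot, Subgroup.mem_bot]
    constructor
    · intro h
      have : u = π g * (((π g)⁻¹ * u * π g)) * (π g)⁻¹ := by group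
      rw [this, h]; group
    · rintro rfl; group
  refine ⟨⟨T, ?_, ?_⟩, hne⟩
  · -- genS
    intro a ha haQ
    by_contra hH
    set H := Subgroup.closure (insert a ((T : Subgroup G) : Set G)) with hHdef
    -- π a ≠ 1
    have haK : π a ≠ 1 := by
      rw [Ne, hker]
      intro haK
      exact haQ (by rw [hcore]; exact ⟨haK, ha⟩)
    have haSb : π a ∈ (Sb : Subgroup (G ⧸ K)) := by
      rw [hSbcoe]; exact Subgroup.mem_map_of_mem π ha
    have hgen := hL.gen Sb Tb hTb.symm (π a) haSb haK
    have hHmap : H.map π = ⊤ := by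
      rw [hHdef, h6_map_closure_insert, hTmap]; exact hgen
    -- g⁻¹ H g contains S and is proper
    set H' : Subgroup G := H.map (MulAut.conj g⁻¹).toMonoidHom with hH'
    have hSH' : (S : Subgroup G) ≤ H' := by
      intro s hs
      refine ⟨g * s * g⁻¹, ?_, ?_⟩
      · apply Subgroup.subset_closure
        right
        rw [SetLike.mem_coe, hT, h6_mem_smul]
        have : g⁻¹ * (g * s * g⁻¹) * g = s := by group
        rw [this]; exact hs
      · simp [MulAut.conj_apply]; group
    have hH'top : H' ≠ ⊤ := by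
      intro h
      apply hH
      rw [eq_top_iff]
      intro u _
      have : g⁻¹ * u * g ∈ H' := by rw [h]; trivial
      obtain ⟨v, hv, hvu⟩ := this
      have hvu' : g⁻¹ * v * g = g⁻¹ * u * g := by
        simpa [MulAut.conj_apply] using hvu
      have : v = u := by
        have h1 := congrArg (fun w => g * w * g⁻¹) hvu'
        simpa [mul_assoc] using h1
      rw [← this]; exact hv
    have hH'M : H' ≤ M := h6_le_coatom S M hM huniq H' hSH' hH'top
    -- then every element of G lies in g M g⁻¹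
    have hall : ∀ u : G, g⁻¹ * u * g ∈ M := by
      intro u
      have : π u ∈ H.map π := by rw [hHmap]; trivial
      obtain ⟨h, hh, hhu⟩ := this
      have h1 : h⁻¹ * u ∈ K := by
        rw [← hker, map_mul, map_inv, hhu]; group
      have h2 : g⁻¹ * h * g ∈ M := by
        apply hH'M
        exact ⟨h, hh, by simp [MulAut.conj_apply]⟩
      have h3 : g⁻¹ * (h⁻¹ * u) * g ∈ M := by
        apply hKM
        have := (inferInstance : K.Normal).conj_mem (h⁻¹ * u) h1 g⁻¹
        simpa using this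
      have h4 : g⁻¹ * u * g = (g⁻¹ * h * g) * (g⁻¹ * (h⁻¹ * u) * g) := by group
      rw [h4]; exact M.mul_mem h2 h3
    apply hMtop
    rw [eq_top_iff]
    intro u _
    have := hall (g * u * g⁻¹)
    have h5 : g⁻¹ * (g * u * g⁻¹) * g = u := by group
    rwa [h5] at this
  · -- genT
    intro b hb hbQ
    by_contra hH
    set H := Subgroup.closure (insert b ((S : Subgroup G) : Set G)) with hHdef
    have hbK : π b ≠ 1 := by
      rw [Ne, hker]
      intro hbK
      apply hbQ
      rw [hT, h6_mem_smul] at hb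
      have h1 : g⁻¹ * b * g ∈ K := by
        have := (inferInstance : K.Normal).conj_mem b hbK g⁻¹
        simpa using this
      have h2 : g⁻¹ * b * g ∈ Cfsg.pCore p G := by rw [hcore]; exact ⟨h1, hb⟩
      have h3 := hQn.conj_mem _ h2 g
      have h4 : g * (g⁻¹ * b * g) * g⁻¹ = b := by group
      rwa [h4] at h3
    have hbTb : π b ∈ (Tb : Subgroup (G ⧸ K)) := by
      rw [← hTmap]; exact Subgroup.mem_map_of_mem π hb
    have hgen := hL.gen Tb Sb hTb (π b) hbTb hbK
    have hHmap : H.map π = ⊤ := by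
      rw [hHdef, h6_map_closure_insert, ← hSbcoe]; exact hgen
    have hSH : (S : Subgroup G) ≤ H := by
      intro s hs
      exact Subgroup.subset_closure (Or.inr hs)
    have hHM : H ≤ M := h6_le_coatom S M hM huniq H hSH hH
    apply hMtop
    rw [eq_top_iff]
    intro u _
    have : π u ∈ H.map π := by rw [hHmap]; trivial
    obtain ⟨h, hh, hhu⟩ := this
    have h1 : h⁻¹ * u ∈ K := by
      rw [← hker, map_mul, map_inv, hhu]; group
    have h4 : u = h * (h⁻¹ * u) := by group
    rw [h4]; exact M.mul_mem (hHM hh) (hKM h1)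

end Setup

end Cfsg.Agent.Lib.Helper6_PU_SUOPP
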