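import Cfsg.Agent.Lib.Helper50_PUDefs

set_option autoImplicit false
set_option linter.unusedSectionVars false
set_option linter.unusedVariables false

namespace Cfsg.Agent.Lib.Helper70_PU_CASE0

open scoped commutatorElement
open Cfsg.Agent.Lib.Helper50_PUDefs Cfsg.Agent.Lib.Helper51_Offender Cfsg.Agent.Lib.Helper72_AbelianJ

section Cases

variable {G : Type*} [Group G] [Finite G] {p : ℕ} [Fact p.Prime] {S : Sylow p G}

-- PKG CASE0
theorem case0 (h : RankOne p S)
    (hncs : Subgroup.normalClosure (((S : Subgroup G) : Subgroup G) : Set G) = ⊤)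
    (hZ : (ZS (S : Subgroup G)).Normal) :
    ZS (S : Subgroup G) ≤ Subgroup.center G := by
  have hN : (Subgroup.centralizer ((ZS (S : Subgroup G) : Subgroup G) : Set G)).Normal :=
    Subgroup.normal_centralizer
  have hSC : (S : Subgroup G) ≤ Subgroup.centralizer ((ZS (S : Subgroup G) : Subgroup G) : Set G) := by
    intro s hs
    rw [Subgroup.mem_centralizer_iff]
    intro z hz
    have hz2 : z ∈ Subgroup.centralizer ((S : Subgroup G) : Set G) := hz.2
    rw [Subgroup.mem_centralizer_iff] at hz2
    exact (hz2 s hs).symm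
  have htop : (⊤ : Subgroup G) ≤ Subgroup.centralizer ((ZS (S : Subgroup G) : Subgroup G) : Set G) := by
    rw [← hncs]
    exact Subgroup.normalClosure_le_normal hSC
  intro z hz
  rw [Subgroup.mem_center_iff]
  intro g
  have hg : g ∈ Subgroup.centralizer ((ZS (S : Subgroup G) : Subgroup G) : Set G) :=
    htop (Subgroup.mem_top g)
  rw [Subgroup.mem_centralizer_iff] at hg
  exact (hg z hz).symm

end Cases

end Cfsg.Agent.Lib.Helper70_PU_CASE0
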