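import Cfsg.Agent.Lib.Helper50_PUDefs
import Cfsg.Agent.Lib.Helper45_PU_JAPI3

set_option autoImplicit false
set_option linter.unusedSectionVars false
set_option linter.unusedVariables false

namespace Cfsg.Agent.Lib.Helper70_PU_NORMLS

open scoped commutatorElement
open Cfsg.Agent.Lib.Helper50_PUDefs Cfsg.Agent.Lib.Helper51_Offender Cfsg.Agent.Lib.Helper72_AbelianJ

section General

universe u

variable {G : Type u} [Group G] [Finite G] {p : ℕ} [Fact p.Prime]

omit [Finite G] in
/-- the normalizer of `H` normalizes the centralizer of `H` -/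
theorem normalizer_le_normalizer_centralizer (H : Subgroup G) :
    Subgroup.normalizer (H : Set G) ≤
      Subgroup.normalizer ((Subgroup.centralizer (H : Set G) : Subgroup G) : Set G) := by
  have key : ∀ n ∈ Subgroup.normalizer (H : Set G), ∀ x ∈ Subgroup.centralizer (H : Set G),
      n * x * n⁻¹ ∈ Subgroup.centralizer (H : Set G) := by
    intro n hn x hx
    rw [Subgroup.mem_centralizer_iff] at hx ⊢
    intro y hy
    have hy' : n⁻¹ * y * n ∈ (H : Set G) := (Subgroup.mem_set_normalizer_iff''.1 hn y).1 hy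
    have h1 := hx _ hy'
    have e1 : y * (n * x * n⁻¹) = n * ((n⁻¹ * y * n) * x) * n⁻¹ := by group
    have e2 : n * x * n⁻¹ * y = n * (x * (n⁻¹ * y * n)) * n⁻¹ := by group
    rw [e1, e2, h1]
  intro n hn
  rw [Subgroup.mem_set_normalizer_iff]
  intro x
  constructor
  · intro hx
    exact key n hn x hx
  · intro hx
    have := key n⁻¹ (Subgroup.inv_mem _ hn) _ hx
    have e : n⁻¹ * (n * x * n⁻¹) * n⁻¹⁻¹ = x := by group
    rwa [e] at this

omit [Finite G] in
/-- the normalizer of an intersection -/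
theorem normalizer_inf_le (A C : Subgroup G) :
    Subgroup.normalizer (A : Set G) ⊓ Subgroup.normalizer (C : Set G) ≤
      Subgroup.normalizer ((A ⊓ C : Subgroup G) : Set G) := by
  intro n hn
  rw [Subgroup.mem_set_normalizer_iff]
  intro x
  have h1 := Subgroup.mem_set_normalizer_iff.1 hn.1 x
  have h2 := Subgroup.mem_set_normalizer_iff.1 hn.2 x
  constructor
  · intro hx
    exact ⟨h1.1 hx.1, h2.1 hx.2⟩
  · intro hx
    exact ⟨h1.2 hx.1, h2.2 hx.2⟩

/-- NORMLS from the two facts of JAPI3 that it uses. -/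
theorem norm_ls_aux
    (hJ3b : ∀ T : Subgroup G, Subgroup.normalizer (T : Set G) ≤
      Subgroup.normalizer (Cfsg.centerThompsonAOf T : Set G))
    (hJ3c : ∀ T U : Subgroup G, Cfsg.thompsonSubgroupAOf T ≤ U → U ≤ T →
      Cfsg.thompsonSubgroupAOf U = Cfsg.thompsonSubgroupAOf T)
    (S L : Subgroup G) (hBL : BS S ≤ L) :
    Subgroup.normalizer ((L ⊓ S : Subgroup G) : Set G) ≤
      Subgroup.normalizer ((BS S : Subgroup G) : Set G) := by
  have hJS : Cfsg.thompsonSubgroupAOf S ≤ S := by
    unfold Cfsg.thompsonSubgroupAOf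
    exact Subgroup.map_subtype_le _
  have hJC : Cfsg.thompsonSubgroupAOf S ≤
      Subgroup.centralizer ((Cfsg.centerThompsonAOf S : Subgroup G) : Set G) := by
    intro j hj
    rw [Subgroup.mem_centralizer_iff]
    intro y hy
    have hy2 : y ∈ Subgroup.centralizer (Cfsg.thompsonSubgroupAOf S : Set G) := hy.2
    rw [Subgroup.mem_centralizer_iff] at hy2
    exact (hy2 j hj).symm
  have hJB : Cfsg.thompsonSubgroupAOf S ≤ BS S := le_inf hJS hJC
  have hJP : Cfsg.thompsonSubgroupAOf S ≤ L ⊓ S := le_inf (hJB.trans hBL) hJS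
  have hJeq : Cfsg.thompsonSubgroupAOf (L ⊓ S) = Cfsg.thompsonSubgroupAOf S :=
    hJ3c S (L ⊓ S) hJP inf_le_right
  have hYeq : Cfsg.centerThompsonAOf (L ⊓ S) = Cfsg.centerThompsonAOf S := by
    unfold Cfsg.centerThompsonAOf
    rw [hJeq]
  have hBeq : BS S = (L ⊓ S) ⊓
      Subgroup.centralizer ((Cfsg.centerThompsonAOf S : Subgroup G) : Set G) := by
    apply le_antisymm
    · exact le_inf (le_inf hBL inf_le_left) inf_le_right
    · exact le_inf (inf_le_left.trans inf_le_right) inf_le_right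
  intro n hn
  have h1 : n ∈ Subgroup.normalizer ((Cfsg.centerThompsonAOf S : Subgroup G) : Set G) := by
    have := hJ3b (L ⊓ S) hn
    rwa [hYeq] at this
  have h2 := normalizer_le_normalizer_centralizer _ h1
  rw [hBeq]
  exact normalizer_inf_le _ _ ⟨hn, h2⟩

-- PKG NORMLS
theorem norm_ls (S L : Subgroup G) (hBL : BS S ≤ L) :
    Subgroup.normalizer ((L ⊓ S : Subgroup G) : Set G) ≤
      Subgroup.normalizer ((BS S : Subgroup G) : Set G) :=
  norm_ls_aux (fun T => (Cfsg.Agent.Lib.Helper45_PU_JAPI3.japi3 T).2.1)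
    (fun T U => (Cfsg.Agent.Lib.Helper45_PU_JAPI3.japi3 T).2.2 U) S L hBL

end General

end Cfsg.Agent.Lib.Helper70_PU_NORMLS
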