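import Cfsg.Agent.Lib.Helper50_PUDefs

set_option autoImplicit false
set_option linter.unusedSectionVars false
set_option linter.unusedVariables false

namespace Cfsg.Agent.Lib.Helper70_PU_QZERO

open scoped commutatorElement
open Cfsg.Agent.Lib.Helper50_PUDefs Cfsg.Agent.Lib.Helper51_Offender Cfsg.Agent.Lib.Helper72_AbelianJ

section Main

variable {G : Type*} [Group G] [Finite G] {p : ℕ} [Fact p.Prime] {S : Sylow p G}

local notation "Q" => Cfsg.pCore p G
local notation "V" => VS (S : Subgroup G)
local notation "Z" => ZS (S : Subgroup G)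
local notation "J" => JS (S : Subgroup G)
local notation "Y" => YS (S : Subgroup G)
local notation "B" => BS (S : Subgroup G)
local notation "ZD" => YS (Cfsg.pCore p G)
local notation "LJ" => Subgroup.normalClosure ((JS (S : Subgroup G) : Subgroup G) : Set G)
local notation "Q₀" => Cfsg.pCore p G ⊓ Subgroup.centralizer ((YS (S : Subgroup G) : Subgroup G) : Set G)

-- PKG QZERO
theorem q_zero (h : MainCase p S) (hvb : VBasic p S) (hR : (Y ⊔ V).Normal) :
    Q₀ = Q ⊓ Subgroup.centralizer ((Y ⊔ V : Subgroup G) : Set G) ∧ (Q₀).Normal := by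
  have heq : Q₀ = Q ⊓ Subgroup.centralizer ((Y ⊔ V : Subgroup G) : Set G) := by
    apply le_antisymm
    · intro q hq
      refine Subgroup.mem_inf.2 ⟨hq.1, ?_⟩
      have hqY : q ∈ Subgroup.centralizer ((Y : Subgroup G) : Set G) := hq.2
      have hqV : q ∈ Subgroup.centralizer ((V : Subgroup G) : Set G) := hvb.cent hq.1
      have hle : Y ⊔ V ≤ Subgroup.centralizer ({q} : Set G) := by
        apply sup_le
        · intro y hy
          rw [Subgroup.mem_centralizer_singleton_iff]
          rw [Subgroup.mem_centralizer_iff] at hqY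
          exact hqY y hy
        · intro v hv
          rw [Subgroup.mem_centralizer_singleton_iff]
          rw [Subgroup.mem_centralizer_iff] at hqV
          exact hqV v hv
      rw [Subgroup.mem_centralizer_iff]
      intro x hx
      have := hle hx
      rw [Subgroup.mem_centralizer_singleton_iff] at this
      exact this
    · intro q hq
      exact Subgroup.mem_inf.2 ⟨hq.1, Subgroup.centralizer_le (le_sup_left : Y ≤ Y ⊔ V) hq.2⟩
  refine ⟨heq, ?_⟩
  rw [heq]
  have h1 : (Q).Normal := hvb.core_normal
  have h2 : (Subgroup.centralizer ((Y ⊔ V : Subgroup G) : Set G)).Normal :=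
    Subgroup.normal_centralizer
  exact Subgroup.normal_inf_normal _ _

end Main

end Cfsg.Agent.Lib.Helper70_PU_QZERO
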