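import Mathlib
import Cfsg.Agent.Lib.Helper50_PUDefs
import Cfsg.Agent.Lib.Helper58_PU_JAPI1
import Cfsg.Agent.Lib.Helper58_PU_JAPI2
import Cfsg.Agent.Lib.Helper1_LocalZJ

/-!
# pu market (architect helper50, S2768 / S2769 / S2770), package ZD (helper77)

`ZD = Z(J(Q))`, `Q = O_p(G)`: `Y, V ≤ ZD ≤ (A ⊓ Q) ⊔ V` for every abelian subgroup `A` of `S` of largest
order not inside `Q`, and `ZD` is a normal abelian subgroup of `G`.
-/

set_option autoImplicit false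

namespace Cfsg.Agent.Lib.Helper77_PU_ZD

open scoped commutatorElement
open Cfsg.Agent.Lib.Helper50_PUDefs Cfsg.Agent.Lib.Helper51_Offender Cfsg.Agent.Lib.Helper72_AbelianJ

section Main

variable {G : Type*} [Group G] [Finite G] {p : ℕ} [Fact p.Prime] {S : Sylow p G}

local notation "Q" => Cfsg.pCore p G
local notation "V" => VS (S : Subgroup G)
local notation "Z" => ZS (S : Subgroup G)
local notation "J" => JS (S : Subgroup G)
local notation "Y" => YS (S : Subgroup G)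
local notation "B" => BS (S : Subgroup G)
local notation "ZD" => YS (Cfsg.pCore p G)
local notation "LJ" => Subgroup.normalClosure ((JS (S : Subgroup G) : Subgroup G) : Set G)
local notation "Q₀" => Cfsg.pCore p G ⊓ Subgroup.centralizer ((YS (S : Subgroup G) : Subgroup G) : Set G)

-- PKG ZD
theorem zd (h : MainCase p S) (hvb : VBasic p S)
    (hst : ∀ A : Subgroup G, IsMaxAbIn (S : Subgroup G) A → ¬ A ≤ Q →
      A ⊔ Q = (S : Subgroup G) ∧ IsMaxAbIn (S : Subgroup G) ((A ⊓ Q) ⊔ V))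
    (hmq : ∀ A' : Subgroup G, IsMaxAbIn Q A' ↔ (IsMaxAbIn (S : Subgroup G) A' ∧ A' ≤ Q)) :
    Y ≤ ZD ∧ V ≤ ZD ∧
      (∀ A : Subgroup G, IsMaxAbIn (S : Subgroup G) A → ¬ A ≤ Q → ZD ≤ (A ⊓ Q) ⊔ V) ∧
      (ZD).Normal ∧ IsMulCommutative ZD := by
  obtain ⟨hJS, -, hJSle, -, -⟩ := Cfsg.Agent.Lib.Helper58_PU_JAPI1.japi1 (S : Subgroup G)
  obtain ⟨hJQ, -, hJQle, -, hZDc⟩ := Cfsg.Agent.Lib.Helper58_PU_JAPI1.japi1 (G := G) Q
  obtain ⟨hYS, -, -⟩ := Cfsg.Agent.Lib.Helper58_PU_JAPI2.japi2 (S : Subgroup G)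
  obtain ⟨hYQ, -, -⟩ := Cfsg.Agent.Lib.Helper58_PU_JAPI2.japi2 (G := G) Q
  -- an abelian subgroup of largest order outside `Q`
  obtain ⟨A, hA, hAQ⟩ : ∃ A : Subgroup G, IsMaxAbIn (S : Subgroup G) A ∧ ¬ A ≤ Q := by
    by_contra hcon
    push Not at hcon
    apply h.hJ
    change Cfsg.thompsonSubgroupAOf (S : Subgroup G) ≤ Q
    rw [hJS]
    exact sSup_le (fun A hA => hcon A hA)
  -- `A₁ = (A ⊓ Q) ⊔ V` is an abelian subgroup of largest order of `Q`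
  have hA₁ : ∀ A : Subgroup G, IsMaxAbIn (S : Subgroup G) A → ¬ A ≤ Q →
      IsMaxAbIn Q ((A ⊓ Q) ⊔ V) := by
    intro A hA hAQ
    exact (hmq _).mpr ⟨(hst A hA hAQ).2, sup_le inf_le_right hvb.V_le⟩
  have hA₁J : ∀ A : Subgroup G, IsMaxAbIn (S : Subgroup G) A → ¬ A ≤ Q →
      (A ⊓ Q) ⊔ V ≤ Cfsg.thompsonSubgroupAOf Q := by
    intro A hA hAQ
    rw [hJQ]
    exact le_sSup (hA₁ A hA hAQ)
  -- `J(Q) ≤ J(S)`
  have hJQS : Cfsg.thompsonSubgroupAOf Q ≤ Cfsg.thompsonSubgroupAOf (S : Subgroup G) := by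
    rw [hJQ, hJS]
    apply sSup_le
    intro A' hA'
    exact le_sSup ((hmq A').mp hA').1
  have hYZD : Y ≤ ZD := by
    intro y hy
    refine ⟨hA₁J A hA hAQ (hYS _ (hst A hA hAQ).2 hy), ?_⟩
    exact Subgroup.centralizer_le (by exact_mod_cast hJQS) hy.2
  have hVZD : V ≤ ZD := by
    intro v hv
    refine ⟨hA₁J A hA hAQ (Subgroup.mem_sup_right hv), ?_⟩
    change v ∈ Subgroup.centralizer ((Cfsg.thompsonSubgroupAOf Q : Subgroup G) : Set G)
    rw [Subgroup.mem_centralizer_iff]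
    intro x hx
    have hxQ : x ∈ Q := hJQle hx
    have hxc := hvb.cent hxQ
    rw [Subgroup.mem_centralizer_iff] at hxc
    exact (hxc v hv).symm
  refine ⟨hYZD, hVZD, ?_, ?_, ?_⟩
  · intro A hA hAQ
    exact hYQ _ (hA₁ A hA hAQ)
  · have hn := Cfsg.Agent.Lib.Helper1_LocalZJ.normalizer_le_normalizer_zj (p := p) (T := Q)
      hvb.core_pgroup
    have := hvb.core_normal
    rw [Subgroup.normalizer_eq_top Q] at hn
    exact Subgroup.normalizer_eq_top_iff.mp (top_le_iff.mp hn)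
  · exact ⟨⟨fun a b => Subtype.ext (hZDc a.1 a.2 b.1 b.2)⟩⟩

end Main

end Cfsg.Agent.Lib.Helper77_PU_ZD
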