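import Cfsg.Agent.Lib.Helper50_PUDefs
import Cfsg.Agent.S0075
import Cfsg.Agent.S0260
import Cfsg.Agent.Lib.Helper47_YL
import Cfsg.Agent.Lib.Helper1_LocalZJ

set_option autoImplicit false
set_option linter.unusedSectionVars false
set_option linter.unusedVariables false

/-!
# pu market (architect helper50, S2768/S2769/S2770), package CENTV: `C_S(V) = Q`
-/

namespace Cfsg.Agent.Lib.Helper82_PU_CENTV

open scoped commutatorElement
open Cfsg.Agent.Lib.Helper50_PUDefs Cfsg.Agent.Lib.Helper51_Offender Cfsg.Agent.Lib.Helper72_AbelianJ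

section Main

variable {G : Type*} [Group G] [Finite G] {p : ℕ} [Fact p.Prime] {S : Sylow p G}

local notation "Q" => Cfsg.pCore p G
local notation "V" => VS (S : Subgroup G)
local notation "Z" => ZS (S : Subgroup G)
local notation "J" => JS (S : Subgroup G)
local notation "Y" => YS (S : Subgroup G)
local notation "B" => BS (S : Subgroup G)
local notation "ZD" => YS (Cfsg.pCore p G)
local notation "LJ" => Subgroup.normalClosure ((JS (S : Subgroup G) : Subgroup G) : Set G)
local notation "Q₀" => Cfsg.pCore p G ⊓ Subgroup.centralizer ((YS (S : Subgroup G) : Subgroup G) : Set G)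

omit [Finite G] [Fact p.Prime] in
/-- `S` normalizes `Z(S)` -/
theorem le_normalizer_ZS : (S : Subgroup G) ≤ Subgroup.normalizer ((Z : Subgroup G) : Set G) := by
  intro s hs
  rw [Subgroup.mem_normalizer_iff]
  intro z
  rw [Subgroup.mem_inf, Subgroup.mem_inf, Subgroup.mem_centralizer_iff, Subgroup.mem_centralizer_iff]
  constructor
  · rintro ⟨hzS, hzC⟩
    refine ⟨(S : Subgroup G).mul_mem ((S : Subgroup G).mul_mem hs hzS) ((S : Subgroup G).inv_mem hs), ?_⟩
    intro t ht
    have h1 := hzC s hs
    have h2 := hzC t ht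
    have e : s * z * s⁻¹ = z := by rw [h1, mul_assoc, mul_inv_cancel, mul_one]
    rw [e]
    exact h2
  · rintro ⟨hzS, hzC⟩
    have hz' : z ∈ (S : Subgroup G) := by
      have := (S : Subgroup G).mul_mem ((S : Subgroup G).mul_mem ((S : Subgroup G).inv_mem hs) hzS) hs
      have e : s⁻¹ * (s * z * s⁻¹) * s = z := by group
      rwa [e] at this
    refine ⟨hz', ?_⟩
    intro t ht
    have h1 := hzC (s * t * s⁻¹)
      ((S : Subgroup G).mul_mem ((S : Subgroup G).mul_mem hs ht) ((S : Subgroup G).inv_mem hs))
    have e1 : s * (t * z) * s⁻¹ = s * t * s⁻¹ * (s * z * s⁻¹) := by group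
    have e2 : s * (z * t) * s⁻¹ = s * z * s⁻¹ * (s * t * s⁻¹) := by group
    have h3 : s * (t * z) * s⁻¹ = s * (z * t) * s⁻¹ := by rw [e1, e2, h1]
    exact mul_left_cancel (mul_right_cancel h3)

-- PKG CENTV
theorem cent_v (h : MainCase p S) (hvb : VBasic p S)
    (hfr : ∀ N : Subgroup G, N.Normal →
      N ⊔ (S : Subgroup G) = ⊤ ∨ N ⊓ (S : Subgroup G) ≤ Cfsg.pCore p G) :
    (S : Subgroup G) ⊓ Subgroup.centralizer ((V : Subgroup G) : Set G) = Q := by
  apply le_antisymm
  · have hVn : (V : Subgroup G).Normal := Subgroup.normalClosure_normal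
    have hCn : (Subgroup.centralizer ((V : Subgroup G) : Set G)).Normal := Subgroup.normal_centralizer
    rcases hfr _ hCn with htop | hle
    · exfalso
      apply h.hZ
      rw [← Subgroup.normalizer_eq_top_iff, eq_top_iff, ← htop]
      apply sup_le _ le_normalizer_ZS
      have hZV : (Z : Subgroup G) ≤ V := Subgroup.le_normalClosure
      exact (Subgroup.centralizer_le hZV).trans (Subgroup.centralizer_le_normalizer _)
    · rw [inf_comm]
      exact hle
  · exact le_inf hvb.core_le hvb.cent

end Main

end Cfsg.Agent.Lib.Helper82_PU_CENTV
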