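import Mathlib
import Cfsg.Agent.Lib.Helper50_PUDefs
import Cfsg.Agent.Lib.Helper2_PResidual

/-!
# S2768 / S2769 / S2770 market `pu_packages` (architect helper50), package NOTSTAB

In the main case some `z ∈ Z(S)` and `x ∈ G` have a non-central commutator `⁅z, x⁆`: otherwise `V = ⟨Z(S)^G⟩`
lies in the normal subgroup `{v | ∀ x, ⁅v, x⁆ ∈ Z(G)}`, every `p'`-element centralizes the `p`-group `V`
(`x ↦ ⁅v, x⁆` is a homomorphism), so `G = S C_G(V)` and `Z(S) ≤ V` is central, hence normal.
-/

set_option autoImplicit false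

namespace Cfsg.Agent.Lib.Helper88_PU_NOTSTAB

open scoped commutatorElement
open Cfsg.Agent.Lib.Helper50_PUDefs Cfsg.Agent.Lib.Helper51_Offender Cfsg.Agent.Lib.Helper72_AbelianJ

section General

variable {G : Type*} [Group G]

/-- the elements all of whose commutators are central (the second centre), as a subgroup -/
def secondCentre (G : Type*) [Group G] : Subgroup G where
  carrier := {v | ∀ x : G, ⁅v, x⁆ ∈ Subgroup.center G}
  one_mem' := by
    intro x
    have : ⁅(1 : G), x⁆ = 1 := by rw [commutatorElement_def]; group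
    rw [this]
    exact Subgroup.one_mem _
  mul_mem' := by
    intro a b ha hb x
    have hbc := hb x
    have e : ⁅a * b, x⁆ = a * ⁅b, x⁆ * a⁻¹ * ⁅a, x⁆ := by
      simp only [commutatorElement_def]; group
    have e2 : a * ⁅b, x⁆ * a⁻¹ = ⁅b, x⁆ := by
      rw [Subgroup.mem_center_iff.mp hbc a, mul_assoc, mul_inv_cancel, mul_one]
    rw [e, e2]
    exact Subgroup.mul_mem _ hbc (ha x)
  inv_mem' := by
    intro a ha x
    have hac := ha x
    have e : ⁅a⁻¹, x⁆ = a⁻¹ * ⁅a, x⁆⁻¹ * a := by
      simp only [commutatorElement_def]; group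
    have hinv : ⁅a, x⁆⁻¹ ∈ Subgroup.center G := Subgroup.inv_mem _ hac
    have e2 : a⁻¹ * ⁅a, x⁆⁻¹ * a = ⁅a, x⁆⁻¹ := by
      rw [Subgroup.mem_center_iff.mp hinv a⁻¹, mul_assoc, inv_mul_cancel, mul_one]
    rw [e, e2]
    exact hinv

theorem mem_secondCentre {v : G} : v ∈ secondCentre G ↔ ∀ x : G, ⁅v, x⁆ ∈ Subgroup.center G :=
  Iff.rfl

instance secondCentre_normal : (secondCentre G).Normal := by
  constructor
  intro n hn g x
  have e : ⁅g * n * g⁻¹, x⁆ = g * ⁅n, g⁻¹ * x * g⁆ * g⁻¹ := by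
    simp only [commutatorElement_def]; group
  have hc := hn (g⁻¹ * x * g)
  have e2 : g * ⁅n, g⁻¹ * x * g⁆ * g⁻¹ = ⁅n, g⁻¹ * x * g⁆ := by
    rw [Subgroup.mem_center_iff.mp hc g, mul_assoc, mul_inv_cancel, mul_one]
  rw [e, e2]
  exact hc

/-- for `v` in the second centre, `x ↦ ⁅v, x⁆` is a homomorphism -/
def commHom (v : G) (hv : v ∈ secondCentre G) : G →* G :=
  MonoidHom.mk' (fun x => ⁅v, x⁆) (by
    intro x y
    have hc := hv y
    have e : ⁅v, x * y⁆ = v * x * v⁻¹ * ⁅v, y⁆ * x⁻¹ := by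
      simp only [commutatorElement_def]; group
    have e2 : v * x * v⁻¹ * ⁅v, y⁆ * x⁻¹ = ⁅v, x⁆ * ⁅v, y⁆ := by
      rw [mul_assoc (v * x * v⁻¹), ← Subgroup.mem_center_iff.mp hc x⁻¹, ← mul_assoc]
      simp only [commutatorElement_def]
    show ⁅v, x * y⁆ = ⁅v, x⁆ * ⁅v, y⁆
    rw [e, e2])

theorem commHom_apply (v : G) (hv : v ∈ secondCentre G) (x : G) : commHom v hv x = ⁅v, x⁆ := rfl

/-- a normal `p`-subgroup inside the second centre is centralized by `O^p(G)` -/
theorem pResidual_le_centralizer {p : ℕ} (W : Subgroup G) [W.Normal]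
    (hWp : ∀ w ∈ W, ∃ k : ℕ, w ^ p ^ k = 1) (hW2 : W ≤ secondCentre G) :
    Cfsg.pResidual p G ≤ Subgroup.centralizer (W : Set G) := by
  unfold Cfsg.pResidual
  rw [Subgroup.closure_le]
  intro g hg
  have hg' : Nat.Coprime (orderOf g) p := hg
  rw [SetLike.mem_coe, Subgroup.mem_centralizer_iff]
  intro v hv
  have hv2 : v ∈ secondCentre G := hW2 hv
  have hmem : ⁅v, g⁆ ∈ W := by
    have : ⁅v, g⁆ = v * (g * v⁻¹ * g⁻¹) := by simp only [commutatorElement_def]; group
    rw [this]
    exact W.mul_mem hv (Subgroup.Normal.conj_mem inferInstance _ (W.inv_mem hv) g)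
  obtain ⟨k, hk⟩ := hWp _ hmem
  have h1 : orderOf ⁅v, g⁆ ∣ p ^ k := orderOf_dvd_of_pow_eq_one hk
  have h2 : orderOf ⁅v, g⁆ ∣ orderOf g := by
    have := orderOf_map_dvd (commHom v hv2) g
    rwa [commHom_apply] at this
  have h3 : orderOf ⁅v, g⁆ = 1 :=
    Nat.eq_one_of_dvd_coprimes (Nat.Coprime.pow_right k hg') h2 h1
  rw [orderOf_eq_one_iff] at h3
  -- `⁅v, g⁆ = 1` gives `v * g = g * v`
  have h4 : v * g * v⁻¹ * g⁻¹ = 1 := by rwa [commutatorElement_def] at h3
  have h5 : v * g = g * v := by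
    have := congrArg (fun t => t * g * v) h4
    simpa [mul_assoc] using this
  exact h5

end General

section Main

variable {G : Type*} [Group G] [Finite G] {p : ℕ} [Fact p.Prime] {S : Sylow p G}

local notation "Q" => Cfsg.pCore p G
local notation "V" => VS (S : Subgroup G)
local notation "Z" => ZS (S : Subgroup G)
local notation "J" => JS (S : Subgroup G)
local notation "Y" => YS (S : Subgroup G)
local notation "B" => BS (S : Subgroup G)
local notation "ZD" => YS (Cfsg.pCore p G)
local notation "LJ" => Subgroup.normalClosure ((JS (S : Subgroup G) : Subgroup G) : Set G)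
local notation "Q₀" => Cfsg.pCore p G ⊓ Subgroup.centralizer ((YS (S : Subgroup G) : Subgroup G) : Set G)

-- PKG NOTSTAB
theorem not_stable (h : MainCase p S) (hvb : VBasic p S) :
    ∃ z ∈ Z, ∃ x : G, ⁅z, x⁆ ∉ Subgroup.center G := by
  by_contra hcon0
  have hcon : ∀ z ∈ Z, ∀ x : G, ⁅z, x⁆ ∈ Subgroup.center G := by
    intro z hz x
    by_contra hx
    exact hcon0 ⟨z, hz, x, hx⟩
  -- `Z ≤ secondCentre G`, hence `V ≤ secondCentre G`
  have hZ2 : ((Z : Subgroup G) : Set G) ⊆ secondCentre G := fun z hz => hcon z hz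
  have hV2 : V ≤ secondCentre G := Subgroup.normalClosure_le_normal hZ2
  -- `V` is a `p`-group
  have hVp : ∀ w ∈ V, ∃ k : ℕ, w ^ p ^ k = 1 := by
    intro w hw
    obtain ⟨k, hk⟩ := hvb.core_pgroup ⟨w, hvb.V_le hw⟩
    refine ⟨k, ?_⟩
    have := congrArg (fun t : (Q : Subgroup G) => (t : G)) hk
    simpa using this
  have hres : Cfsg.pResidual p G ≤ Subgroup.centralizer ((V : Subgroup G) : Set G) :=
    pResidual_le_centralizer (V : Subgroup G) hVp hV2
  have htop : (S : Subgroup G) ⊔ Subgroup.centralizer ((V : Subgroup G) : Set G) = ⊤ := by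
    rw [eq_top_iff, ← Cfsg.Agent.Lib.Helper2_PResidual.sylow_sup_pResidual S]
    exact sup_le_sup_left hres _
  -- every element of `Z` is central
  have hZc : Z ≤ Subgroup.center G := by
    intro z hz
    have hzS : z ∈ Subgroup.centralizer ((S : Subgroup G) : Set G) := hz.2
    have hzV : z ∈ V := Subgroup.subset_normalClosure hz
    have hle : (S : Subgroup G) ⊔ Subgroup.centralizer ((V : Subgroup G) : Set G) ≤
        Subgroup.centralizer ({z} : Set G) := by
      apply sup_le
      · intro s hs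
        rw [Subgroup.mem_centralizer_iff]
        intro y hy
        rw [Set.mem_singleton_iff] at hy
        subst hy
        exact ((Subgroup.mem_centralizer_iff.mp hzS) s hs).symm
      · intro c hc
        rw [Subgroup.mem_centralizer_iff]
        intro y hy
        rw [Set.mem_singleton_iff] at hy
        subst hy
        exact (Subgroup.mem_centralizer_iff.mp hc) y hzV
    rw [htop] at hle
    rw [Subgroup.mem_center_iff]
    intro g
    have hg : g ∈ Subgroup.centralizer ({z} : Set G) := hle (Subgroup.mem_top g)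
    exact ((Subgroup.mem_centralizer_iff.mp hg) z rfl).symm
  -- a subgroup of the centre is normal
  apply h.hZ
  constructor
  intro n hn g
  have hc := hZc hn
  have : g * n * g⁻¹ = n := by
    rw [Subgroup.mem_center_iff.mp hc g, mul_assoc, mul_inv_cancel, mul_one]
  rw [this]
  exact hn

end Main

end Cfsg.Agent.Lib.Helper88_PU_NOTSTAB
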