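import Cfsg.Agent.Lib.Helper50_PUDefs
import Cfsg.Agent.S0075
import Cfsg.Agent.S0260
import Cfsg.Agent.Lib.Helper47_YL
import Cfsg.Agent.Lib.Helper46_SylGen

set_option autoImplicit false
set_option linter.unusedSectionVars false

/-!
# S2768 package PSLTWO (helper8 for helper50): a group `L ≃* PSL(2, F)`, `|F| = p ^ n`, has two distinct
Sylow `p`-subgroups.
-/

namespace Cfsg.Agent.Lib.Helper8_PU_PSLTWO

open scoped commutatorElement MatrixGroups
open Cfsg.Agent.Lib.Helper50_PUDefs Cfsg.Agent.Lib.Helper51_Offender Cfsg.Agent.Lib.Helper72_AbelianJ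

/-- a surjection with central kernel is injective on Sylow `p`-subgroups -/
theorem mapSurjective_injective_of_central {p : ℕ} [Fact p.Prime] {G H : Type*} [Group G] [Group H]
    [Finite G] (f : G →* H) (hf : Function.Surjective f) (hk : f.ker ≤ Subgroup.center G) :
    Function.Injective (Sylow.mapSurjective hf : Sylow p G → Sylow p H) := by
  intro P Q h
  have h1 : (P : Subgroup G).map f = (Q : Subgroup G).map f :=
    congrArg (fun S : Sylow p H => (S : Subgroup H)) h
  have hQle : (Q : Subgroup G) ≤ (P : Subgroup G) ⊔ f.ker := by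
    have h2 := congrArg (Subgroup.comap f) h1
    rw [Subgroup.comap_map_eq, Subgroup.comap_map_eq] at h2
    rw [h2]
    exact le_sup_left
  have hQN : (Q : Subgroup G) ≤ Subgroup.normalizer ((P : Subgroup G) : Set G) := by
    refine hQle.trans (sup_le Subgroup.le_normalizer ?_)
    intro z hz
    have hzc := hk hz
    rw [Subgroup.mem_center_iff] at hzc
    rw [Subgroup.mem_normalizer_iff]
    intro x
    have e : z * x * z⁻¹ = x := by rw [← hzc x, mul_inv_cancel_right]
    rw [e]
  have hp : IsPGroup p ((Q : Subgroup G) ⊔ (P : Subgroup G) : Subgroup G) :=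
    IsPGroup.to_sup_of_normal_right' Q.2 P.2 hQN
  have h3 := P.is_maximal' hp le_sup_right
  have hQP : (Q : Subgroup G) ≤ P := by
    calc (Q : Subgroup G) ≤ (Q : Subgroup G) ⊔ (P : Subgroup G) := le_sup_left
      _ = P := h3
  exact Sylow.ext (Q.is_maximal' P.2 hQP)

section PSL

variable {p : ℕ} [Fact p.Prime] (F : Type) [Field F] [Fintype F] (n : ℕ) (hn : 1 ≤ n)
  (hF : Fintype.card F = p ^ n) {L : Type*} [Group L]
  (e : L ≃* Matrix.ProjectiveSpecialLinearGroup (Fin 2) F)
include hn hF e

-- PKG PSLTWO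
theorem psl_two : ∃ P P' : Sylow p L, P ≠ P' := by
  have : CharP F p := charP_of_card_eq_prime_pow hF
  obtain ⟨P, Q, hPQ⟩ := Cfsg.Agent.Lib.Helper46_SylGen.exists_ne_sylow_SL2 F p
  have hf : Function.Surjective
      (e.symm.toMonoidHom.comp (QuotientGroup.mk' (Subgroup.center SL(2, F)))) :=
    e.symm.surjective.comp (QuotientGroup.mk'_surjective _)
  have hk : (e.symm.toMonoidHom.comp (QuotientGroup.mk' (Subgroup.center SL(2, F)))).ker ≤
      Subgroup.center SL(2, F) := by
    intro z hz
    rw [MonoidHom.mem_ker, MonoidHom.comp_apply] at hz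
    have h1 : (QuotientGroup.mk' (Subgroup.center SL(2, F))) z = 1 := by
      have := e.symm.injective (hz.trans (map_one e.symm).symm)
      exact this
    rwa [← MonoidHom.mem_ker, QuotientGroup.ker_mk'] at h1
  have hinj := mapSurjective_injective_of_central (p := p) _ hf hk
  exact ⟨P.mapSurjective hf, Q.mapSurjective hf, fun h => hPQ (hinj h)⟩

end PSL

end Cfsg.Agent.Lib.Helper8_PU_PSLTWO
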