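import Cfsg.Agent.Lib.Helper50_PUDefs
import Cfsg.Agent.S0075
import Cfsg.Agent.S0260
import Cfsg.Agent.Lib.Helper47_YL

set_option autoImplicit false
set_option linter.unusedSectionVars false

/-!
# S2768 package SUELEM (helper8 for helper50): `⁅S, S⁆ ≤ Q` and `a ^ p ∈ Q` from `PSLike p (G ⧸ K)` and
`Q = K ⊓ S`.
-/

namespace Cfsg.Agent.Lib.Helper8_PU_SUELEM

open scoped commutatorElement
open Cfsg.Agent.Lib.Helper50_PUDefs Cfsg.Agent.Lib.Helper51_Offender Cfsg.Agent.Lib.Helper72_AbelianJ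

section Setup

variable {G : Type*} [Group G] [Finite G] {p : ℕ} [Fact p.Prime] (S : Sylow p G)

-- PKG SUELEM
theorem su_elem (K : Subgroup G) [K.Normal] (hL : PSLike p (G ⧸ K))
    (hcore : Cfsg.pCore p G = K ⊓ (S : Subgroup G)) :
    ⁅(S : Subgroup G), (S : Subgroup G)⁆ ≤ Cfsg.pCore p G ∧
      ∀ a ∈ (S : Subgroup G), a ^ p ∈ Cfsg.pCore p G := by
  obtain ⟨hcomm, hexp⟩ := hL.elem (S.mapSurjective (QuotientGroup.mk'_surjective K))
  have hmem : ∀ a ∈ (S : Subgroup G), (QuotientGroup.mk' K a) ∈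
      ((S.mapSurjective (QuotientGroup.mk'_surjective K) : Sylow p (G ⧸ K)) : Subgroup (G ⧸ K)) := by
    intro a ha
    rw [Sylow.coe_mapSurjective]
    exact Subgroup.mem_map_of_mem _ ha
  constructor
  · rw [Subgroup.commutator_le]
    intro a ha b hb
    rw [hcore, Subgroup.mem_inf]
    refine ⟨?_, by
      rw [commutatorElement_def]
      exact mul_mem (mul_mem (mul_mem ha hb) (inv_mem ha)) (inv_mem hb)⟩
    rw [← QuotientGroup.ker_mk' K, MonoidHom.mem_ker, map_commutatorElement,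
      commutatorElement_eq_one_iff_mul_comm]
    exact hcomm _ (hmem a ha) _ (hmem b hb)
  · intro a ha
    rw [hcore, Subgroup.mem_inf]
    refine ⟨?_, (S : Subgroup G).pow_mem ha p⟩
    rw [← QuotientGroup.ker_mk' K, MonoidHom.mem_ker, map_pow]
    exact hexp _ (hmem a ha)

end Setup

end Cfsg.Agent.Lib.Helper8_PU_SUELEM
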