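import Cfsg.Agent.Lib.Helper50_PUDefs

/-!
# S2768 / S2769 / S2770, market `pu_packages` (architect helper50), package NCS:
the normal closure of `S` is the whole group
-/

set_option autoImplicit false

namespace Cfsg.Agent.Lib.Helper91_PU_NCS

open scoped commutatorElement
open Cfsg.Agent.Lib.Helper50_PUDefs Cfsg.Agent.Lib.Helper51_Offender Cfsg.Agent.Lib.Helper72_AbelianJ

section Cases

variable {G : Type*} [Group G] [Finite G] {p : ℕ} [Fact p.Prime] {S : Sylow p G}

-- PKG NCS
theorem normalClosure_sylow (h : RankOne p S) :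
    Subgroup.normalClosure (((S : Subgroup G) : Subgroup G) : Set G) = ⊤ := by
  obtain ⟨T, hT⟩ := h.opp
  have hne := h.ne
  rw [SetLike.not_le_iff_exists] at hne
  obtain ⟨a, haS, haQ⟩ := hne
  have hgen := hT.genS a haS haQ
  rw [eq_top_iff, ← hgen, Subgroup.closure_le]
  have hS : (S : Subgroup G) ≤ Subgroup.normalClosure ((S : Subgroup G) : Set G) :=
    Subgroup.le_normalClosure
  intro x hx
  rcases hx with rfl | hx
  · exact hS haS
  · -- `T` is a conjugate of `S`
    obtain ⟨g, hg⟩ := MulAction.exists_smul_eq G S T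
    have hx' : x ∈ ((g • S : Sylow p G) : Subgroup G) := by rw [hg]; exact hx
    rw [Sylow.coe_subgroup_smul, Subgroup.mem_pointwise_smul_iff_inv_smul_mem] at hx'
    have h1 : (MulAut.conj g)⁻¹ • x = g⁻¹ * x * g := by
      rw [← map_inv]
      simp [MulAut.smul_def]
    rw [h1] at hx'
    have h2 : x = g * (g⁻¹ * x * g) * g⁻¹ := by group
    rw [h2]
    exact (Subgroup.normalClosure_normal).conj_mem _ (hS hx') g

end Cases

end Cfsg.Agent.Lib.Helper91_PU_NCS
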