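import Cfsg.Agent.Lib.Helper50_PUDefs
import Cfsg.Agent.Lib.Helper47_YL
import Cfsg.Agent.Lib.Helper1_LocalZJ
import Cfsg.Agent.Lib.Helper17_PU_FRAT
import Cfsg.Agent.Lib.Helper17_PU_M2769
import Cfsg.Agent.Lib.Helper21_PU_CENTELT
import Cfsg.Agent.Lib.Helper25_PU_BEQ
import Cfsg.Agent.Lib.Helper25_PU_COMMBB
import Cfsg.Agent.Lib.Helper26_PU_LJ
import Cfsg.Agent.Lib.Helper26_PU_RNORMAL
import Cfsg.Agent.Lib.Helper27_PU_PSLGEN
import Cfsg.Agent.Lib.Helper27_PU_PSLIRR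
import Cfsg.Agent.Lib.Helper39_PU_JCORE
import Cfsg.Agent.Lib.Helper39_PU_MAXAB
import Cfsg.Agent.Lib.Helper3_PU_ABSYLA
import Cfsg.Agent.Lib.Helper3_PU_ABSYLT
import Cfsg.Agent.Lib.Helper41_PU_OPPT
import Cfsg.Agent.Lib.Helper41_PU_PSLELEM
import Cfsg.Agent.Lib.Helper45_PU_COMMQLJ
import Cfsg.Agent.Lib.Helper46_PU_AGEMO
import Cfsg.Agent.Lib.Helper50_PU_BEST
import Cfsg.Agent.Lib.Helper50_PU_LOWER
import Cfsg.Agent.Lib.Helper55_PU_COMMZDJ
import Cfsg.Agent.Lib.Helper55_PU_NNORMAL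
import Cfsg.Agent.Lib.Helper57_PU_VBASIC
import Cfsg.Agent.Lib.Helper60_PU_CASE1
import Cfsg.Agent.Lib.Helper60_PU_QUAD
import Cfsg.Agent.Lib.Helper61_PU_VX
import Cfsg.Agent.Lib.Helper69_PU_SUCORE
import Cfsg.Agent.Lib.Helper6_PU_SUIRR
import Cfsg.Agent.Lib.Helper6_PU_SUOPP
import Cfsg.Agent.Lib.Helper70_PU_CASE0
import Cfsg.Agent.Lib.Helper70_PU_NORMLS
import Cfsg.Agent.Lib.Helper70_PU_QZERO
import Cfsg.Agent.Lib.Helper77_PU_ZD
import Cfsg.Agent.Lib.Helper82_PU_CARDS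
import Cfsg.Agent.Lib.Helper82_PU_CENTV
import Cfsg.Agent.Lib.Helper88_PU_NOTSTAB
import Cfsg.Agent.Lib.Helper8_PU_PSLTWO
import Cfsg.Agent.Lib.Helper8_PU_SUELEM
import Cfsg.Agent.Lib.Helper91_PU_NCS

/-!
# Rank-one pushing up (Baumann): assembly of S2768 / S2769 / S2770 from the `pu_packages` market (helper50)
-/

set_option autoImplicit false
set_option linter.unusedVariables false
set_option linter.unusedSectionVars false

namespace Cfsg.Agent.Lib.Helper50_PUAsm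

open scoped commutatorElement
open Cfsg.Agent.Lib.Helper50_PUDefs Cfsg.Agent.Lib.Helper51_Offender Cfsg.Agent.Lib.Helper72_AbelianJ

section
variable {G : Type*} [Group G] [Finite G] {p : ℕ} [Fact p.Prime] (S : Sylow p G)

omit [Finite G] in
theorem pslike (K : Subgroup G) [K.Normal] (F : Type) [Field F] [Fintype F] (n : ℕ) (hn : 1 ≤ n)
    (hF : Fintype.card F = p ^ n)
    (hE₃ : Nonempty (G ⧸ K ≃* Matrix.ProjectiveSpecialLinearGroup (Fin 2) F)) :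
    PSLike p (G ⧸ K) := by
  obtain ⟨e⟩ := hE₃
  exact ⟨Cfsg.Agent.Lib.Helper41_PU_PSLELEM.psl_elem F n hn hF e, Cfsg.Agent.Lib.Helper27_PU_PSLGEN.psl_gen F n hn hF e, Cfsg.Agent.Lib.Helper8_PU_PSLTWO.psl_two F n hn hF e,
    Cfsg.Agent.Lib.Helper27_PU_PSLIRR.psl_irr F n hn hF e⟩

theorem rankOne (hE₁ : Subgroup.centralizer (Cfsg.pCore p G : Set G) ≤ Cfsg.pCore p G)
    (hE₂ : ∃! M : Subgroup G, IsCoatom M ∧ (S : Subgroup G) ≤ M) (K : Subgroup G) [K.Normal]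
    (F : Type) [Field F] [Fintype F] (n : ℕ) (hn : 1 ≤ n) (hF : Fintype.card F = p ^ n)
    (hE₃ : Nonempty (G ⧸ K ≃* Matrix.ProjectiveSpecialLinearGroup (Fin 2) F)) :
    RankOne p S := by
  have hL := pslike K F n hn hF hE₃
  obtain ⟨hcore, hKS⟩ := Cfsg.Agent.Lib.Helper69_PU_SUCORE.su_core S hE₂ (Cfsg.Agent.Lib.Helper17_PU_FRAT.frattini_dich S hE₂) K hL
  obtain ⟨hcomm, hexpo⟩ := Cfsg.Agent.Lib.Helper8_PU_SUELEM.su_elem S K hL hcore
  obtain ⟨hopp, hne⟩ := Cfsg.Agent.Lib.Helper6_PU_SUOPP.su_opp S hE₂ K hL hcore hKS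
  exact ⟨hE₁, hE₂, hcomm, hexpo, fun D h1 h2 h3 => Cfsg.Agent.Lib.Helper6_PU_SUIRR.su_irr S K hL hcore D h1 h2 h3, hopp, hne⟩

end

section
universe u
variable {G : Type u} [Group G] [Finite G] {p : ℕ} [Fact p.Prime] {S : Sylow p G}

omit [Finite G] in
theorem normal_of_le_center {H : Subgroup G} (h : H ≤ Subgroup.center G) : H.Normal := by
  constructor
  intro x hx g
  have := Subgroup.mem_center_iff.mp (h hx) g
  rw [this, mul_inv_cancel_right]
  exact hx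

/-- all the facts of the main case -/
structure Facts (p : ℕ) (S : Sylow p G) : Prop where
  hvb : VBasic p S
  hag : ∀ z ∈ ZS (S : Subgroup G), z ^ p ∈ Subgroup.center G
  hst : ∀ A : Subgroup G, IsMaxAbIn (S : Subgroup G) A → ¬ A ≤ Cfsg.pCore p G →
      A ⊔ Cfsg.pCore p G = (S : Subgroup G) ∧ IsMaxAbIn (S : Subgroup G) ((A ⊓ Cfsg.pCore p G) ⊔ VS (S : Subgroup G))
  hJQ : JS (S : Subgroup G) ⊔ Cfsg.pCore p G = (S : Subgroup G)
  hN : (⁅YS (S : Subgroup G), (S : Subgroup G)⁆).Normal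
  hNY : ⁅YS (S : Subgroup G), (S : Subgroup G)⁆ ≤ YS (S : Subgroup G)
  hQ₀n : (Cfsg.pCore p G ⊓ Subgroup.centralizer ((YS (S : Subgroup G) : Subgroup G) : Set G)).Normal
  hcQ : ⁅Cfsg.pCore p G, Subgroup.normalClosure ((JS (S : Subgroup G) : Subgroup G) : Set G)⁆ ≤
      Cfsg.pCore p G ⊓ Subgroup.centralizer ((YS (S : Subgroup G) : Subgroup G) : Set G)
  hLQ : Subgroup.normalClosure ((JS (S : Subgroup G) : Subgroup G) : Set G) ⊔ Cfsg.pCore p G = ⊤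

theorem facts (h : MainCase p S) : Facts p S := by
  have hfr := Cfsg.Agent.Lib.Helper17_PU_FRAT.frattini_dich S h.uniq
  have hncs := Cfsg.Agent.Lib.Helper91_PU_NCS.normalClosure_sylow h.toRankOne
  have hvb := Cfsg.Agent.Lib.Helper57_PU_VBASIC.v_basic h
  have hcv := Cfsg.Agent.Lib.Helper82_PU_CENTV.cent_v h hvb hfr
  have hb := Cfsg.Agent.Lib.Helper50_PU_BEST.best h hvb
  have hq := Cfsg.Agent.Lib.Helper60_PU_QUAD.quad h hvb hcv hb
  obtain ⟨T, hT⟩ := h.opp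
  have htr := Cfsg.Agent.Lib.Helper41_PU_OPPT.opp_transport h hvb hq T
  have hvx := Cfsg.Agent.Lib.Helper61_PU_VX.vx h T hT
  have hns := Cfsg.Agent.Lib.Helper88_PU_NOTSTAB.not_stable h hvb
  have hlow := Cfsg.Agent.Lib.Helper50_PU_LOWER.lower h hvb T hT htr hvx hns
  obtain ⟨hcard, hc2⟩ := Cfsg.Agent.Lib.Helper82_PU_CARDS.cards h hvb hb hlow T htr hvx
  have hce := fun a ha haQ => Cfsg.Agent.Lib.Helper21_PU_CENTELT.cent_elt h T htr hvx hc2 a ha haQ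
  have hag := Cfsg.Agent.Lib.Helper46_PU_AGEMO.agemo h hvb T htr hvx
  have hst := fun A hA hAQ => Cfsg.Agent.Lib.Helper39_PU_MAXAB.maxab_struct h hvb hcard hce A hA hAQ
  obtain ⟨hJQ, hmq, -⟩ := Cfsg.Agent.Lib.Helper39_PU_JCORE.j_core h hvb hst
  obtain ⟨hYZD, hVZD, hzd, hzdn, hzdc⟩ := Cfsg.Agent.Lib.Helper77_PU_ZD.zd h hvb hst hmq
  have hcj := Cfsg.Agent.Lib.Helper55_PU_COMMZDJ.comm_zd_j h hvb hmq hzd
  obtain ⟨hclj, hLQ⟩ := Cfsg.Agent.Lib.Helper26_PU_LJ.lj h hvb hncs hJQ hzdn hcj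
  have hR := Cfsg.Agent.Lib.Helper26_PU_RNORMAL.r_normal h hvb hYZD hclj hLQ
  obtain ⟨hNeq, hN, hNY⟩ := Cfsg.Agent.Lib.Helper55_PU_NNORMAL.n_normal h hvb hJQ hYZD hVZD hzdc hR
  obtain ⟨hQ₀eq, hQ₀n⟩ := Cfsg.Agent.Lib.Helper70_PU_QZERO.q_zero h hvb hR
  have hcQ := Cfsg.Agent.Lib.Helper45_PU_COMMQLJ.comm_q_lj h hvb hYZD hVZD hclj hNeq hN hNY hQ₀eq
  exact ⟨hvb, hag, hst, hJQ, hN, hNY, hQ₀n, hcQ, hLQ⟩

theorem main_2768 (h : MainCase p S) :
    Subgroup.normalClosure ((BS (S : Subgroup G) : Subgroup G) : Set G) ⊓ (S : Subgroup G) =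
      BS (S : Subgroup G) := by
  have f := facts h
  have hQ₀n := f.hQ₀n
  have hQn := f.hvb.core_normal
  obtain ⟨hBeq, hLeq⟩ := Cfsg.Agent.Lib.Helper25_PU_BEQ.b_eq h f.hvb f.hJQ f.hQ₀n
  have hBB := Cfsg.Agent.Lib.Helper25_PU_COMMBB.comm_b_b h f.hvb f.hst f.hQ₀n hBeq f.hcQ
  set L := Subgroup.normalClosure ((BS (S : Subgroup G) : Subgroup G) : Set G) with hL
  set Q₀ := Cfsg.pCore p G ⊓ Subgroup.centralizer ((YS (S : Subgroup G) : Subgroup G) : Set G) with hQ₀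
  have hBL : BS (S : Subgroup G) ≤ L := Subgroup.le_normalClosure
  have hBS : BS (S : Subgroup G) ≤ (S : Subgroup G) := inf_le_left
  have hJL : JS (S : Subgroup G) ≤ L := by
    rw [hLeq]; exact Subgroup.le_normalClosure.trans le_sup_left
  refine Cfsg.Agent.Lib.Helper3_PU_ABSYLA.absyl_amb (fun {X} _ _ P hP D Z₁ hD hZ₁ hPD hN hcl =>
      Cfsg.Agent.Lib.Helper3_PU_ABSYLT.absyl_type P hP D Z₁ hD hZ₁ hPD hN hcl)
    S L Q₀ (BS (S : Subgroup G)) (L ⊓ Cfsg.pCore p G) ?_ (le_inf hBL hBS) ?_ ?_ ?_ hBB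
    (Cfsg.Agent.Lib.Helper70_PU_NORMLS.norm_ls (S : Subgroup G) L hBL) rfl ?_
  · rw [hBeq]; exact le_sup_right
  · exact inf_le_inf_left _ f.hvb.core_le
  · -- L ⊓ S ≤ B ⊔ (L ⊓ Q)
    intro x hx
    have hxS : x ∈ JS (S : Subgroup G) ⊔ Cfsg.pCore p G := by rw [f.hJQ]; exact hx.2
    obtain ⟨j, hj, u, hu, rfl⟩ := Subgroup.mem_sup_of_normal_right.mp hxS
    have hjB : j ∈ BS (S : Subgroup G) := by
      rw [hBeq]; exact Subgroup.mem_sup_left hj
    have huL : u ∈ L := by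
      have : u = j⁻¹ * (j * u) := by group
      rw [this]
      exact L.mul_mem (L.inv_mem (hJL hj)) hx.1
    exact Subgroup.mul_mem_sup hjB ⟨huL, hu⟩
  · -- ⁅L ⊓ Q, L⁆ ≤ Q₀
    rw [Subgroup.commutator_le]
    intro u hu l hl
    have key : ∀ l ∈ L, ∀ u ∈ Cfsg.pCore p G, ⁅u, l⁆ ∈ Q₀ := by
      intro l hl u hu
      rw [hLeq] at hl
      obtain ⟨l₁, hl₁, l₂, hl₂, rfl⟩ := Subgroup.mem_sup_of_normal_right.mp hl
      have h1 : ⁅u, l₁ * l₂⁆ = ⁅u, l₁⁆ * (l₁ * ⁅u, l₂⁆ * l₁⁻¹) := by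
        simp only [commutatorElement_def]; group
      have h2 : ⁅u, l₂⁆ = (u * l₂ * u⁻¹) * l₂⁻¹ := by rw [commutatorElement_def]
      rw [h1]
      refine Q₀.mul_mem (f.hcQ (Subgroup.commutator_mem_commutator hu hl₁)) (hQ₀n.conj_mem _ ?_ l₁)
      rw [h2]
      exact Q₀.mul_mem (hQ₀n.conj_mem l₂ hl₂ u) (Q₀.inv_mem hl₂)
    exact key l hl u hu.2
  · -- L ⊔ N(B) = ⊤
    have hSN : (S : Subgroup G) ≤ Subgroup.normalizer ((BS (S : Subgroup G) : Subgroup G) : Set G) := by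
      have h1 : (S : Subgroup G) ≤ Subgroup.normalizer ((YS (S : Subgroup G) : Subgroup G) : Set G) :=
        Subgroup.le_normalizer.trans
          (Cfsg.Agent.Lib.Helper1_LocalZJ.normalizer_le_normalizer_zj (p := p) S.isPGroup')
      intro s hs
      rw [Subgroup.mem_normalizer_iff]
      have hconj : ∀ t ∈ (S : Subgroup G), ∀ b ∈ BS (S : Subgroup G), t * b * t⁻¹ ∈ BS (S : Subgroup G) := by
        intro t ht b hb
        refine ⟨(S : Subgroup G).mul_mem ((S : Subgroup G).mul_mem ht hb.1) ((S : Subgroup G).inv_mem ht), ?_⟩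
        show t * b * t⁻¹ ∈ Subgroup.centralizer ((YS (S : Subgroup G) : Subgroup G) : Set G)
        rw [Subgroup.mem_centralizer_iff]
        intro y hy
        have hy' : t⁻¹ * y * t⁻¹⁻¹ ∈ YS (S : Subgroup G) :=
          (Subgroup.mem_normalizer_iff.mp (Subgroup.inv_mem _ (h1 ht)) y).mp hy
        have hc := Subgroup.mem_centralizer_iff.mp hb.2 _ hy'
        have e1 : y * (t * b * t⁻¹) = t * ((t⁻¹ * y * t⁻¹⁻¹) * b) * t⁻¹ := by group
        have e2 : t * b * t⁻¹ * y = t * (b * (t⁻¹ * y * t⁻¹⁻¹)) * t⁻¹ := by group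
        rw [e1, e2, hc]
      intro b
      constructor
      · intro hb; exact hconj s hs b hb
      · intro hb
        have := hconj s⁻¹ ((S : Subgroup G).inv_mem hs) _ hb
        have e : s⁻¹ * (s * b * s⁻¹) * s⁻¹⁻¹ = b := by group
        rwa [e] at this
    rw [eq_top_iff, ← f.hLQ]
    apply sup_le
    · rw [hLeq]; exact le_sup_left.trans le_sup_left
    · exact (f.hvb.core_le.trans hSN).trans le_sup_right

end

section Final
variable {G : Type*} [Group G] [Finite G] {p : ℕ} [Fact p.Prime] (S : Sylow p G)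
  (hE₁ : Subgroup.centralizer (Cfsg.pCore p G : Set G) ≤ Cfsg.pCore p G)
  (hE₂ : ∃! M : Subgroup G, IsCoatom M ∧ (S : Subgroup G) ≤ M) (K : Subgroup G) [K.Normal]
  (F : Type) [Field F] [Fintype F] (n : ℕ) (hn : 1 ≤ n) (hF : Fintype.card F = p ^ n)
  (hE₃ : Nonempty (G ⧸ K ≃* Matrix.ProjectiveSpecialLinearGroup (Fin 2) F))
include hE₁ hE₂ hn hF hE₃

theorem final_2768 (hZ : ¬ ((S : Subgroup G) ⊓ Subgroup.centralizer ((S : Subgroup G) : Set G)).Normal) :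
    ∃ P : Sylow p ↥(Subgroup.normalClosure (((S : Subgroup G) ⊓ Subgroup.centralizer (Cfsg.centerThompsonAOf (S : Subgroup G) : Set G)) : Set G)), (P : Subgroup ↥(Subgroup.normalClosure (((S : Subgroup G) ⊓ Subgroup.centralizer (Cfsg.centerThompsonAOf (S : Subgroup G) : Set G)) : Set G))) = (((S : Subgroup G) ⊓ Subgroup.centralizer (Cfsg.centerThompsonAOf (S : Subgroup G) : Set G))).subgroupOf (Subgroup.normalClosure (((S : Subgroup G) ⊓ Subgroup.centralizer (Cfsg.centerThompsonAOf (S : Subgroup G) : Set G)) : Set G)) := by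
  have hR := rankOne S hE₁ hE₂ K F n hn hF hE₃
  have key : Subgroup.normalClosure ((BS (S : Subgroup G) : Subgroup G) : Set G) ⊓ (S : Subgroup G) =
      BS (S : Subgroup G) := by
    by_cases hJ : JS (S : Subgroup G) ≤ Cfsg.pCore p G
    · exact (Cfsg.Agent.Lib.Helper60_PU_CASE1.case1 hR (Cfsg.Agent.Lib.Helper17_PU_FRAT.frattini_dich S hE₂) hJ).2
    · exact main_2768 ⟨hR, hZ, hJ⟩
  obtain ⟨P, hP⟩ := Cfsg.Agent.Lib.Helper47_YL.exists_sylow_eq_inf_subgroupOf S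
    (Subgroup.normalClosure ((BS (S : Subgroup G) : Subgroup G) : Set G))
    (by rw [Subgroup.normalizer_eq_top]; exact le_top)
  refine ⟨P, ?_⟩
  have h2 : (S : Subgroup G) ⊓ Subgroup.normalClosure ((BS (S : Subgroup G) : Subgroup G) : Set G) =
      BS (S : Subgroup G) := by rw [inf_comm]; exact key
  rw [hP]
  exact congrArg (fun H : Subgroup G => H.subgroupOf
    (Subgroup.normalClosure ((BS (S : Subgroup G) : Subgroup G) : Set G))) h2

theorem final_2769 (h : ⁅(Cfsg.centerThompsonAOf (S : Subgroup G)), (S : Subgroup G)⁆ ≠ ⊥) :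
    (⁅(Cfsg.centerThompsonAOf (S : Subgroup G)), (S : Subgroup G)⁆ ⊓ ((S : Subgroup G) ⊓ Subgroup.centralizer ((S : Subgroup G) : Set G))).Normal ∨ (((S : Subgroup G) ⊓ Subgroup.centralizer (Cfsg.centerThompsonAOf (S : Subgroup G) : Set G))).Normal := by
  have hR := rankOne S hE₁ hE₂ K F n hn hF hE₃
  have hfr := Cfsg.Agent.Lib.Helper17_PU_FRAT.frattini_dich S hE₂
  have hncs := Cfsg.Agent.Lib.Helper91_PU_NCS.normalClosure_sylow hR
  by_cases hZ : (ZS (S : Subgroup G)).Normal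
  · left
    exact normal_of_le_center (inf_le_right.trans (Cfsg.Agent.Lib.Helper70_PU_CASE0.case0 hR hncs hZ))
  by_cases hJ : JS (S : Subgroup G) ≤ Cfsg.pCore p G
  · rcases (Cfsg.Agent.Lib.Helper60_PU_CASE1.case1 hR hfr hJ).1 with h1 | h1
    · right; exact h1
    · left; exact normal_of_le_center (inf_le_right.trans h1)
  have hM : MainCase p S := ⟨hR, hZ, hJ⟩
  have f := facts hM
  exact Cfsg.Agent.Lib.Helper17_PU_M2769.main_2769 hM f.hvb hfr f.hN f.hNY f.hQ₀n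

theorem final_2770 (h : ¬ Cfsg.IsElementaryAbelian p ((S : Subgroup G) ⊓ Subgroup.centralizer ((S : Subgroup G) : Set G))) :
    (Cfsg.powerClosure p 1 ((S : Subgroup G) ⊓ Subgroup.centralizer ((S : Subgroup G) : Set G))).Normal ∨ (((S : Subgroup G) ⊓ Subgroup.centralizer (Cfsg.centerThompsonAOf (S : Subgroup G) : Set G))).Normal := by
  have hR := rankOne S hE₁ hE₂ K F n hn hF hE₃
  have hfr := Cfsg.Agent.Lib.Helper17_PU_FRAT.frattini_dich S hE₂
  have hncs := Cfsg.Agent.Lib.Helper91_PU_NCS.normalClosure_sylow hR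
  have key : (∀ z ∈ ZS (S : Subgroup G), z ^ p ∈ Subgroup.center G) →
      (Cfsg.powerClosure p 1 ((S : Subgroup G) ⊓ Subgroup.centralizer ((S : Subgroup G) : Set G))).Normal := by
    intro hz
    apply normal_of_le_center
    unfold Cfsg.powerClosure
    rw [Subgroup.closure_le]
    rintro y ⟨x, hx, rfl⟩
    rw [pow_one]
    exact hz x hx
  have key2 : ZS (S : Subgroup G) ≤ Subgroup.center G →
      (∀ z ∈ ZS (S : Subgroup G), z ^ p ∈ Subgroup.center G) :=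
    fun hc z hz => Subgroup.pow_mem _ (hc hz) _
  by_cases hZ : (ZS (S : Subgroup G)).Normal
  · left
    exact key (key2 (Cfsg.Agent.Lib.Helper70_PU_CASE0.case0 hR hncs hZ))
  by_cases hJ : JS (S : Subgroup G) ≤ Cfsg.pCore p G
  · rcases (Cfsg.Agent.Lib.Helper60_PU_CASE1.case1 hR hfr hJ).1 with h1 | h1
    · right; exact h1
    · left; exact key (key2 h1)
  have hM : MainCase p S := ⟨hR, hZ, hJ⟩
  left
  exact key (facts hM).hag

end Final

end Cfsg.Agent.Lib.Helper50_PUAsm
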