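import Mathlib
import Cfsg.Agent.Lib.Helper50_PgBasic

/-!
# A maximal subgroup of `PGL(2,q)` meets `L` in a non-abelian subgroup (helper50)

* `abelian_selfnorm_false`: Burnside's transfer theorem excludes, in a finite simple group, abelian
  subgroups `A` such that `N(Q) ≤ A` for the `Aut`-invariant subgroups `Q` of `A`;
* `inf_not_abelian`: for `M` maximal in `PGL(2,q)` not containing `L`, `M ∩ L` is not abelian.
-/

set_option autoImplicit false

namespace Cfsg.Agent.Lib.Helper50_PgAbel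

open Subgroup Cfsg.Agent.Lib.Helper50_MxBasic

section general

variable {G : Type*} [Group G] [Finite G]

theorem abelian_selfnorm_false [IsSimpleGroup G] (A : Subgroup G) (hne : A ≠ ⊥) (htop : A ≠ ⊤)
    (hab : ∀ a ∈ A, ∀ b ∈ A, a * b = b * a)
    (hN : ∀ Q : Subgroup G, Q ≤ A → Q ≠ ⊥ →
      (∀ φ : G ≃* G, A.map φ.toMonoidHom = A → Q.map φ.toMonoidHom = Q) →
      normalizer (Q : Set G) ≤ A) : False := by
  classical
  have hcard : Nat.card A ≠ 1 := fun h => hne (Subgroup.card_eq_one.1 h)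
  obtain ⟨ℓ, hℓ, hdvd⟩ := Nat.exists_prime_and_dvd hcard
  have : Fact ℓ.Prime := ⟨hℓ⟩
  let P : Sylow ℓ A := default
  set Q : Subgroup G := (P : Subgroup A).map A.subtype with hQdef
  have hQM : Q ≤ A := by
    rintro _ ⟨x, -, rfl⟩
    exact x.2
  have hQne : Q ≠ ⊥ := by
    intro h
    have h1 : (P : Subgroup A) = ⊥ :=
      (Subgroup.map_eq_bot_iff_of_injective _ A.subtype_injective).1 h
    exact P.ne_bot_of_dvd_card hdvd h1
  have hQp : IsPGroup ℓ Q := P.isPGroup'.map A.subtype
  have hcent : ∀ m ∈ A, ∀ x ∈ Q, m * x = x * m := fun m hm x hx => hab m hm x (hQM hx)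
  have hMN : A ≤ normalizer (Q : Set G) := by
    intro m hm
    rw [mem_normalizer_iff]
    intro x
    have e : ∀ y ∈ Q, m * y * m⁻¹ = y := fun y hy => by
      rw [hcent m hm y hy, mul_assoc, mul_inv_cancel, mul_one]
    constructor
    · intro hx
      rw [e x hx]; exact hx
    · intro hx
      have h2 : m⁻¹ * (m * x * m⁻¹) * m = x := by group
      have h3 : m⁻¹ * (m * x * m⁻¹) = (m * x * m⁻¹) * m⁻¹ :=
        hcent m⁻¹ (A.inv_mem hm) _ hx
      rw [← h2, h3, mul_assoc, inv_mul_cancel, mul_one]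
      exact hx
  have hPn : (P : Subgroup A).Normal := by
    constructor
    intro x hx m
    have : m * x * m⁻¹ = x := by
      have h := hab m m.2 x x.2
      have h' : m * x = x * m := Subtype.ext (by simpa using h)
      rw [h', mul_assoc, mul_inv_cancel, mul_one]
    rw [this]; exact hx
  have hsub : Subsingleton (Sylow ℓ A) := (Sylow.unique_of_normal P hPn).instSubsingleton
  have hle : ∀ S : Subgroup G, IsPGroup ℓ S → S ≤ A → S ≤ Q := by
    intro S hS hSM x hx
    have hS' : IsPGroup ℓ (S.subgroupOf A) := hS.comap_subtype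
    obtain ⟨P', hP'⟩ := hS'.exists_le_sylow
    have hPP : P' = P := Subsingleton.elim _ _
    rw [hPP] at hP'
    have : (⟨x, hSM hx⟩ : A) ∈ (P : Subgroup A) := hP' (by rw [mem_subgroupOf]; exact hx)
    exact ⟨⟨x, hSM hx⟩, this, rfl⟩
  -- `Q` is invariant under the automorphisms preserving `A`
  have hinv : ∀ φ : G ≃* G, A.map φ.toMonoidHom = A → Q.map φ.toMonoidHom = Q := by
    intro φ hφ
    have h1 : Q.map φ.toMonoidHom ≤ Q := by
      apply hle _ (hQp.map _)
      rw [← hφ]
      exact Subgroup.map_mono hQM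
    apply Subgroup.eq_of_le_of_card_ge h1
    rw [← Nat.card_congr (Q.equivMapOfInjective _ φ.injective).toEquiv]
  have hN' : normalizer (Q : Set G) = A := le_antisymm (hN Q hQM hQne hinv) hMN
  -- `Q` is a Sylow subgroup of `G`
  obtain ⟨R, hR⟩ := hQp.exists_le_sylow
  have hRQ : (R : Subgroup G) ≤ Q := by
    by_contra hnot
    have hlt : Q.subgroupOf R < ⊤ := by
      rw [lt_top_iff_ne_top]
      intro h
      apply hnot
      intro x hx
      have : (⟨x, hx⟩ : R) ∈ Q.subgroupOf R := by rw [h]; exact mem_top _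
      exact mem_subgroupOf.1 this
    have hnil : Group.IsNilpotent (R : Subgroup G) := R.isPGroup'.isNilpotent
    have hnc := Group.normalizerCondition_of_isNilpotent (G := (R : Subgroup G))
      (Q.subgroupOf R) hlt
    obtain ⟨x, hxn, hxQ⟩ := SetLike.exists_of_lt hnc
    have hS : IsPGroup ℓ ((R : Subgroup G) ⊓ normalizer (Q : Set G) : Subgroup G) :=
      R.isPGroup'.to_le inf_le_left
    have hSM : ((R : Subgroup G) ⊓ normalizer (Q : Set G) : Subgroup G) ≤ A := by
      rw [← hN']; exact inf_le_right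
    have hxmem : (x : G) ∈ ((R : Subgroup G) ⊓ normalizer (Q : Set G) : Subgroup G) := by
      refine Subgroup.mem_inf.2 ⟨x.2, ?_⟩
      rw [mem_normalizer_iff]
      intro y
      rw [mem_normalizer_iff] at hxn
      constructor
      · intro hy
        have := (hxn ⟨y, hR hy⟩).1 (by rw [mem_subgroupOf]; exact hy)
        rw [mem_subgroupOf] at this
        simpa using this
      · intro hy
        have hyR : y ∈ (R : Subgroup G) := by
          have h1 : (x : G) * y * (x : G)⁻¹ ∈ (R : Subgroup G) := hR hy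
          have h2 : y = (x : G)⁻¹ * ((x : G) * y * (x : G)⁻¹) * (x : G) := by group
          rw [h2]
          exact R.mul_mem (R.mul_mem (R.inv_mem x.2) h1) x.2
        have := (hxn ⟨y, hyR⟩).2 (by rw [mem_subgroupOf]; simpa using hy)
        rw [mem_subgroupOf] at this
        exact this
    exact hxQ (mem_subgroupOf.2 (hle _ hS hSM hxmem))
  have hRQ' : (R : Subgroup G) = Q := le_antisymm hRQ hR
  have hNC : normalizer (R : Set G) ≤ centralizer (R : Set G) := by
    have e1 : normalizer (R : Set G) = A := by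
      rw [← hN', ← hRQ']; rfl
    have e2 : centralizer (R : Set G) = centralizer (Q : Set G) := by
      rw [← hRQ']; rfl
    rw [e1, e2]
    intro m hm
    rw [mem_centralizer_iff]
    intro x hx
    exact (hcent m hm x hx).symm
  have hcompl := MonoidHom.ker_transferSylow_isComplement' R hNC
  have hker : (MonoidHom.transferSylow R hNC).ker.Normal := MonoidHom.normal_ker _
  have hmul := hcompl.card_mul_card
  rcases hker.eq_bot_or_eq_top with h | h
  · rw [h, Subgroup.card_bot, one_mul] at hmul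
    have hRtop : (R : Subgroup G) = ⊤ := Subgroup.eq_top_of_card_eq _ hmul
    apply htop
    rw [eq_top_iff, ← hRtop, hRQ']
    exact hQM
  · rw [h, Subgroup.card_top] at hmul
    have hG : 0 < Nat.card G := Nat.card_pos
    have hR1 : Nat.card (R : Subgroup G) = 1 := by
      have := Nat.eq_of_mul_eq_mul_left hG (hmul.trans (mul_one _).symm)
      exact this
    apply hQne
    rw [← hRQ']
    exact Subgroup.card_eq_one.1 hR1

end general


section pgl

open Matrix Cfsg.Agent.Lib.Helper50_SL2Mat Cfsg.Agent.Lib.Helper50_DkPSL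
  Cfsg.Agent.Lib.Helper50_PgBasic Cfsg.Agent.Lib.Helper50_DkOrders
open scoped MatrixGroups

variable {F : Type*} [Field F] [Fintype F]

theorem odd_card_of_two_ne_zero (h2 : (2 : F) ≠ 0) : Fintype.card F % 2 = 1 := by
  rcases two_cases (F := F) with ⟨h0, -, -⟩ | ⟨-, -, hodd⟩
  · exact absurd h0 h2
  · exact Nat.odd_iff.1 hodd

theorem four_dvd (q : ℕ) (hq : q % 2 = 1) : 4 ∣ q * (q ^ 2 - 1) := by
  apply Dvd.dvd.mul_left
  have h8 : q % 8 < 8 := Nat.mod_lt _ (by norm_num)
  have h1 : q ^ 2 % 8 = 1 := by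
    rw [Nat.pow_mod]
    have : q % 8 = 1 ∨ q % 8 = 3 ∨ q % 8 = 5 ∨ q % 8 = 7 := by omega
    rcases this with h | h | h | h <;> rw [h]
  have hq1 : 1 ≤ q ^ 2 := Nat.one_le_pow _ _ (by omega)
  omega

theorem card_pgl_ge (h5 : 5 ≤ Fintype.card F) :
    120 ≤ Nat.card (Matrix.ProjGenLinGroup (Fin 2) F) := by
  rw [card_PGL2]
  calc 120 = 5 * (5 ^ 2 - 1) := by norm_num
    _ ≤ Fintype.card F * (Fintype.card F ^ 2 - 1) :=
      Nat.mul_le_mul h5 (Nat.sub_le_sub_right (Nat.pow_le_pow_left h5 2) 1)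

/-- `M ∩ L ≠ 1` -/
theorem inf_ne_bot (h2 : (2 : F) ≠ 0) (h5 : 5 ≤ Fintype.card F)
    (M : Subgroup (Matrix.ProjGenLinGroup (Fin 2) F)) (hM : IsCoatom M) (hML : ¬ LL ≤ M) :
    M ⊓ LL ≠ ⊥ := by
  intro h
  have hc := card_eq_two_mul M h2 hM hML
  rw [h, Subgroup.card_bot, mul_one] at hc
  have : Fact (Nat.Prime 2) := ⟨Nat.prime_two⟩
  have hdvd : 2 ^ (1 + 1) ∣ Nat.card (Matrix.ProjGenLinGroup (Fin 2) F) := by
    rw [card_PGL2]
    exact four_dvd _ (odd_card_of_two_ne_zero h2)
  obtain ⟨K', hK', hle⟩ := Sylow.exists_subgroup_card_pow_succ hdvd (H := M) (by rw [hc, pow_one])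
  have hK'top : K' ≠ ⊤ := by
    intro htop
    rw [htop, Subgroup.card_top] at hK'
    have := card_pgl_ge (F := F) h5
    omega
  have := eq_of_isCoatom_le hM hle hK'top
  rw [← this, hc] at hK'
  omega

/-- **`M ∩ L` is not abelian.** -/
theorem inf_not_abelian (h2 : (2 : F) ≠ 0) (h5 : 5 ≤ Fintype.card F)
    (M : Subgroup (Matrix.ProjGenLinGroup (Fin 2) F)) (hM : IsCoatom M) (hML : ¬ LL ≤ M) :
    ¬ (∀ a ∈ M ⊓ LL, ∀ b ∈ M ⊓ LL, a * b = b * a) := by
  intro hab
  have h4 : 4 ≤ Fintype.card F := by omega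
  have hsimple := isSimple_LL (F := F) h4
  set A : Subgroup ↥(LL (F := F)) := (M ⊓ LL).subgroupOf LL with hA
  have hAmem : ∀ x : ↥(LL (F := F)), x ∈ A ↔ (x : Matrix.ProjGenLinGroup (Fin 2) F) ∈ M := by
    intro x
    rw [hA, Subgroup.mem_subgroupOf, Subgroup.mem_inf]
    exact ⟨fun h => h.1, fun h => ⟨h, x.2⟩⟩
  apply abelian_selfnorm_false A
  · intro h
    apply inf_ne_bot h2 h5 M hM hML
    rw [hA, Subgroup.subgroupOf_eq_bot] at h
    have := disjoint_iff.1 h
    rwa [inf_of_le_left inf_le_right] at this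
  · intro h
    apply hML
    rw [hA, Subgroup.subgroupOf_eq_top] at h
    exact h.trans inf_le_left
  · intro a ha b hb
    apply Subtype.ext
    have ha' := (hAmem a).1 ha
    have hb' := (hAmem b).1 hb
    exact hab a.1 (Subgroup.mem_inf.2 ⟨ha', a.2⟩) b.1 (Subgroup.mem_inf.2 ⟨hb', b.2⟩)
  · intro Q hQA hQ1 hinv
    set Q' : Subgroup (Matrix.ProjGenLinGroup (Fin 2) F) := Q.map (LL (F := F)).subtype with hQ'
    have hQ'M : Q' ≤ M := by
      rintro _ ⟨x, hx, rfl⟩
      exact (hAmem x).1 (hQA hx)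
    have hQ'L : Q' ≤ LL := by
      rintro _ ⟨x, -, rfl⟩
      exact x.2
    have hQ'1 : Q' ≠ ⊥ := by
      intro h
      exact hQ1 ((Subgroup.map_eq_bot_iff_of_injective _ (LL (F := F)).subtype_injective).1 h)
    have hQ'ne : Q' ≠ LL := by
      intro h
      apply hML
      rw [← h]
      exact hQ'M
    -- `M` normalises `Q'`
    have hstab : ∀ m ∈ M, ∀ y ∈ Q', m * y * m⁻¹ ∈ Q' := by
      rintro m hm _ ⟨x, hx, rfl⟩
      set φ : ↥(LL (F := F)) ≃* ↥(LL (F := F)) := MulAut.conjNormal m with hφ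
      have hφA : A.map φ.toMonoidHom = A := by
        have hle : A.map φ.toMonoidHom ≤ A := by
          rintro _ ⟨a, ha, rfl⟩
          rw [hAmem]
          show ((MulAut.conjNormal m a : ↥(LL (F := F))) :
            Matrix.ProjGenLinGroup (Fin 2) F) ∈ M
          rw [MulAut.conjNormal_apply]
          exact M.mul_mem (M.mul_mem hm ((hAmem a).1 ha)) (M.inv_mem hm)
        apply Subgroup.eq_of_le_of_card_ge hle
        exact (Nat.card_congr (A.equivMapOfInjective φ.toMonoidHom φ.injective).toEquiv).le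
      have hφQ := hinv φ hφA
      have : φ x ∈ Q := by
        rw [← hφQ]
        exact ⟨x, hx, rfl⟩
      refine ⟨φ x, this, ?_⟩
      show ((MulAut.conjNormal m x : ↥(LL (F := F))) : Matrix.ProjGenLinGroup (Fin 2) F) = _
      rw [MulAut.conjNormal_apply]
      rfl
    have hMN : M ≤ normalizer (Q' : Set (Matrix.ProjGenLinGroup (Fin 2) F)) := by
      intro m hm
      rw [mem_normalizer_iff]
      intro y
      constructor
      · exact hstab m hm y
      · intro h
        have := hstab m⁻¹ (M.inv_mem hm) _ h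
        simpa [mul_assoc] using this
    have hNM := normalizer_eq M h4 hM Q' hQ'L hQ'1 hQ'ne hMN
    intro n hn
    rw [hAmem, ← hNM]
    have : (n : Matrix.ProjGenLinGroup (Fin 2) F) ∈
        (normalizer (Q : Set ↥(LL (F := F)))).map (LL (F := F)).subtype := ⟨n, hn, rfl⟩
    exact Subgroup.le_normalizer_map _ this

end pgl

end Cfsg.Agent.Lib.Helper50_PgAbel
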