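import Cfsg.Agent.Lib.Helper51_SL2Sub
import Cfsg.Agent.Lib.Helper5_PSLCard
import Cfsg.Agent.Lib.Helper41_Subfield

set_option autoImplicit false

namespace Cfsg.Agent.Lib.Helper51_SL2SubMax

open Matrix Cfsg.Agent.Lib.Helper50_SL2Mat Cfsg.Agent.Lib.Helper51_SL2Sub
open scoped MatrixGroups

variable {F K : Type*} [Field F] [Field K]

/-- the subfield subgroup `SL(2, K) ≤ SL(2, F)` -/
abbrev S0 (ι : K →+* F) : Subgroup SL(2, F) := (SpecialLinearGroup.map (n := Fin 2) ι).range

theorem map_apply (ι : K →+* F) (g : SL(2, K)) (i j : Fin 2) :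
    (SpecialLinearGroup.map (n := Fin 2) ι g) i j = ι (g i j) := rfl

theorem map_tU (ι : K →+* F) (x : K) : SpecialLinearGroup.map (n := Fin 2) ι (tU x) = tU (ι x) := by
  apply ext4 <;> simp [map_apply]

theorem map_tL (ι : K →+* F) (x : K) : SpecialLinearGroup.map (n := Fin 2) ι (tL x) = tL (ι x) := by
  apply ext4 <;> simp [map_apply]

/-- membership in the subfield subgroup: all entries in the range of `ι` -/
theorem mem_S0_iff (ι : K →+* F) (g : SL(2, F)) :
    g ∈ S0 ι ↔ ∀ i j, g i j ∈ Set.range ι := by
  constructor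
  · rintro ⟨k, rfl⟩ i j
    exact ⟨k i j, rfl⟩
  · intro h
    obtain ⟨a, ha⟩ := h 0 0
    obtain ⟨b, hb⟩ := h 0 1
    obtain ⟨c, hc⟩ := h 1 0
    obtain ⟨d, hd⟩ := h 1 1
    have hdet : a * d - b * c = 1 := by
      apply ι.injective
      rw [map_sub, map_mul, map_mul, ha, hb, hc, hd, map_one]
      exact det1 g
    refine ⟨mk a b c d hdet, ?_⟩
    apply ext4 <;> simp [map_apply, ha, hb, hc, hd]

theorem tU_mem_S0 (ι : K →+* F) (x : K) : tU (ι x) ∈ S0 ι := ⟨tU x, map_tU ι x⟩
theorem tL_mem_S0 (ι : K →+* F) (x : K) : tL (ι x) ∈ S0 ι := ⟨tL x, map_tL ι x⟩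


theorem range_subset_AA (ι : K →+* F) {M : Subgroup SL(2, F)} (hle : S0 ι ≤ M) (x : K) :
    ι x ∈ AA M := hle (tU_mem_S0 ι x)

section finite

variable [Fintype F] [Fintype K]

theorem finrank_eq (ι : K →+* F) {r : ℕ} (hF : Fintype.card F = Fintype.card K ^ r) :
    @Module.finrank K F _ _ ι.toAlgebra.toModule = r := by
  let _ := ι.toAlgebra
  have h1 : Fintype.card F = Fintype.card K ^ Module.finrank K F :=
    Module.card_eq_pow_finrank (K := K) (V := F)
  have hK : 1 < Fintype.card K := Fintype.one_lt_card
  exact Nat.pow_right_injective hK (by show Fintype.card K ^ _ = Fintype.card K ^ _; rw [← h1, hF])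

/-- a subset of `F` containing the range of `ι` and closed under `+`, `*` is the range of `ι`
or everything, when `[F : K]` is prime -/
theorem subring_cases (ι : K →+* F) {r : ℕ} (hr : r.Prime)
    (hF : Fintype.card F = Fintype.card K ^ r) (A : Set F) (hι : ∀ x : K, ι x ∈ A)
    (hadd : ∀ x ∈ A, ∀ y ∈ A, x + y ∈ A) (hmul : ∀ x ∈ A, ∀ y ∈ A, x * y ∈ A) :
    A = Set.range ι ∨ A = Set.univ := by
  let _ := ι.toAlgebra
  have hfr : Module.finrank K F = r := finrank_eq ι hF
  let S : Subalgebra K F :=
    { carrier := A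
      mul_mem' := fun {x y} hx hy => hmul x hx y hy
      one_mem' := by have := hι 1; rwa [map_one] at this
      add_mem' := fun {x y} hx hy => hadd x hx y hy
      zero_mem' := by have := hι 0; rwa [map_zero] at this
      algebraMap_mem' := fun x => hι x }
  have hso := Subalgebra.isSimpleOrder_of_finrank_prime K F (by rw [hfr]; exact hr)
  rcases hso.eq_bot_or_eq_top S with h | h
  · left
    ext x
    have : x ∈ S ↔ x ∈ (⊥ : Subalgebra K F) := by rw [h]
    rw [Algebra.mem_bot] at this
    exact this
  · right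
    ext x
    have : x ∈ S ↔ x ∈ (⊤ : Subalgebra K F) := by rw [h]
    simp only [Algebra.mem_top, iff_true] at this
    simp only [Set.mem_univ, iff_true]
    exact this

/-- square roots of elements of `K` in an extension of odd prime degree lie in `K` -/
theorem mem_range_of_sq (ι : K →+* F) {r : ℕ} (hr : r.Prime) (hr2 : r ≠ 2)
    (hF : Fintype.card F = Fintype.card K ^ r) {a : F} (ha : a * a ∈ Set.range ι) :
    a ∈ Set.range ι := by
  obtain ⟨c, hc⟩ := ha
  let B : Set F := {x | ∃ u v : K, x = ι u + ι v * a}
  have hB := subring_cases ι hr hF B (fun x => ⟨x, 0, by simp⟩)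
    (by
      rintro _ ⟨u, v, rfl⟩ _ ⟨u', v', rfl⟩
      exact ⟨u + u', v + v', by rw [map_add, map_add]; ring⟩)
    (by
      rintro _ ⟨u, v, rfl⟩ _ ⟨u', v', rfl⟩
      refine ⟨u * u' + v * v' * c, u * v' + v * u', ?_⟩
      rw [map_add, map_add, map_mul, map_mul, map_mul, map_mul, map_mul, hc]
      ring)
  have haB : a ∈ B := ⟨0, 1, by simp⟩
  rcases hB with h | h
  · rw [h] at haB; exact haB
  · exfalso
    -- `F` has at most `|K|²` elements
    have hsurj : Function.Surjective (fun uv : K × K => ι uv.1 + ι uv.2 * a) := by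
      intro x
      have hx : x ∈ B := by rw [h]; exact Set.mem_univ x
      obtain ⟨u, v, rfl⟩ := hx
      exact ⟨(u, v), rfl⟩
    have hle := Fintype.card_le_of_surjective _ hsurj
    rw [Fintype.card_prod, hF] at hle
    have hK : 1 < Fintype.card K := Fintype.one_lt_card
    have hr3 : 3 ≤ r := by
      have := hr.two_le
      omega
    have : Fintype.card K ^ 3 ≤ Fintype.card K ^ r := Nat.pow_le_pow_right (by omega) hr3
    have h3 : Fintype.card K ^ 3 = Fintype.card K * Fintype.card K * Fintype.card K := by ring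
    nlinarith


theorem pow_nine_mod_five (r : ℕ) (hr : Odd r) : 9 ^ r % 5 = 4 := by
  obtain ⟨k, rfl⟩ := hr
  induction k with
  | zero => norm_num
  | succ k ih =>
    have : 9 ^ (2 * (k + 1) + 1) = 9 ^ (2 * k + 1) * 81 := by ring
    rw [this, Nat.mul_mod, ih]

/-- **`SL(2, K)` is a maximal subgroup of `SL(2, F)`** for `[F : K]` an odd prime, odd
characteristic. -/
theorem isCoatom_S0 (ι : K →+* F) {p : ℕ} [Fact p.Prime] [CharP F p] (hp : p ≠ 2) {r : ℕ}
    (hr : r.Prime) (hr2 : r ≠ 2) (hF : Fintype.card F = Fintype.card K ^ r) :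
    IsCoatom (S0 ι) := by
  have hK1 : 1 < Fintype.card K := Fintype.one_lt_card
  have hr3 : 3 ≤ r := by
    have := hr.two_le
    omega
  have hrodd : Odd r := hr.odd_of_ne_two hr2
  constructor
  · intro htop
    have hsurj : Function.Surjective ι := by
      intro x
      have : tU x ∈ S0 ι := by rw [htop]; exact Subgroup.mem_top _
      have := (mem_S0_iff ι _).1 this 0 1
      rwa [tU01] at this
    have hle := Fintype.card_le_of_surjective _ hsurj
    rw [hF] at hle
    have : Fintype.card K ^ 2 ≤ Fintype.card K ^ r := Nat.pow_le_pow_right (by omega) (by omega)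
    nlinarith
  · intro M hlt
    have hle : S0 ι ≤ M := hlt.le
    have hU : tU 1 ∈ M := by
      have := hle (tU_mem_S0 ι 1)
      rwa [map_one] at this
    have hL : tL 1 ∈ M := by
      have := hle (tL_mem_S0 ι 1)
      rwa [map_one] at this
    rcases engine hp M hU hL with hG | ⟨h3, hA3, hcard⟩
    · rcases subring_cases ι hr hF (AA M) (range_subset_AA ι hle)
        (fun x hx y hy => AA_add hx hy) hG.mul_mem with hA | hA
      · exfalso
        apply hlt.not_ge
        intro g hg
        rw [mem_S0_iff]
        obtain ⟨a, ha0, haa, hent⟩ := hG.entries g hg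
        rw [hA] at haa
        obtain ⟨a', ha'⟩ := mem_range_of_sq ι hr hr2 hF haa
        intro i j
        obtain ⟨t, ht, hgt⟩ := hent i j
        rw [hA] at ht
        obtain ⟨t', ht'⟩ := ht
        exact ⟨a' * t', by rw [map_mul, ha', ht', hgt]⟩
      · rw [eq_top_iff]
        intro g _
        apply hG.sl_le
        intro i j
        rw [hA]
        exact Set.mem_univ _
    · exfalso
      -- `|K| = 3`
      have hinj : Function.Injective (fun x : K => (⟨ι x, range_subset_AA ι hle x⟩ : AA M)) := by
        intro x y hxy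
        exact ι.injective (congrArg Subtype.val hxy)
      have hKle : Nat.card K ≤ 3 := by
        rw [← hA3]
        exact Nat.card_le_card_of_injective _ hinj
      rw [Nat.card_eq_fintype_card] at hKle
      have hcK : CharP K p := by
        exact (ι.charP_iff ι.injective p).2 inferInstance
      obtain ⟨n, _, hn⟩ := FiniteField.card K p
      have hK3 : Fintype.card K = 3 := by
        rw [hn, h3] at hKle ⊢
        have hn1 : (n : ℕ) = 1 := by
          by_contra hne
          have : 2 ≤ (n : ℕ) := by
            have := n.pos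
            omega
          have : 3 ^ 2 ≤ 3 ^ (n : ℕ) := Nat.pow_le_pow_right (by norm_num) this
          omega
        rw [hn1]; norm_num
      have hFc : Fintype.card F = 3 ^ r := by rw [hF, hK3]
      have hSL := Cfsg.Agent.Lib.Helper5_PSLCard.card_SL_two (F := F)
      rw [hFc] at hSL
      have hdvd : Nat.card M ∣ Nat.card SL(2, F) := Subgroup.card_subgroup_dvd_card M
      have h5 : 5 ∣ Nat.card SL(2, F) := by
        rcases hcard with h | h
        · exact dvd_trans (by rw [h]; norm_num) hdvd
        · exact dvd_trans (by rw [h]; norm_num) hdvd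
      rw [hSL] at h5
      have h9 : (3 ^ r) ^ 2 = 9 ^ r := by rw [← pow_mul, mul_comm, pow_mul]; norm_num
      rw [h9] at h5
      have hmod := pow_nine_mod_five r hrodd
      rcases (Nat.Prime.dvd_mul (by norm_num : Nat.Prime 5)).1 h5 with h | h
      · have := (Nat.Prime.dvd_of_dvd_pow (by norm_num : Nat.Prime 5) h)
        omega
      · omega


end finite

/-- coatoms containing the kernel stay coatoms in the quotient -/
theorem isCoatom_map_mk {G : Type*} [Group G] (N : Subgroup G) [N.Normal] (S : Subgroup G)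
    (hN : N ≤ S) (hS : IsCoatom S) : IsCoatom (S.map (QuotientGroup.mk' N)) := by
  have hcm : (S.map (QuotientGroup.mk' N)).comap (QuotientGroup.mk' N) = S := by
    rw [Subgroup.comap_map_eq, QuotientGroup.ker_mk']
    exact sup_eq_left.2 hN
  have hsurj : Function.Surjective (QuotientGroup.mk' N) := QuotientGroup.mk'_surjective N
  constructor
  · intro htop
    apply hS.1
    rw [← hcm, htop, Subgroup.comap_top]
  · intro M' hlt
    have hle : S ≤ M'.comap (QuotientGroup.mk' N) := by
      rw [← hcm]
      exact Subgroup.comap_mono hlt.le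
    have hne : S ≠ M'.comap (QuotientGroup.mk' N) := by
      intro h
      apply hlt.ne
      rw [h, Subgroup.map_comap_eq_self_of_surjective hsurj]
    have := hS.2 _ (lt_of_le_of_ne hle hne)
    rw [← Subgroup.map_comap_eq_self_of_surjective hsurj M', this,
      ← MonoidHom.range_eq_map, MonoidHom.range_eq_top.2 hsurj]

/-- the centre of `SL(2, F)` lies in every subfield subgroup -/
theorem center_le_S0 (ι : K →+* F) : Subgroup.center SL(2, F) ≤ S0 ι := by
  intro g hg
  rw [Matrix.SpecialLinearGroup.mem_center_iff] at hg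
  obtain ⟨r, hr, hg⟩ := hg
  rw [mem_S0_iff]
  have hr' : r = 1 ∨ r = -1 := by
    rw [Fintype.card_fin] at hr
    have : (r - 1) * (r + 1) = 0 := by linear_combination hr
    rcases mul_eq_zero.1 this with h | h
    · left; linear_combination h
    · right; linear_combination h
  intro i j
  have hij : g i j = if i = j then r else 0 := by
    have := congrFun (congrFun hg i) j
    rw [← this]
    exact Cfsg.Agent.Lib.Helper41_Subfield.scalar_two_apply r i j
  rw [hij]
  split_ifs
  · rcases hr' with h | h
    · exact ⟨1, by rw [h, map_one]⟩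
    · exact ⟨-1, by rw [h, map_neg, map_one]⟩
  · exact ⟨0, map_zero ι⟩

theorem pslHom_range (ι : K →+* F) :
    (Cfsg.Agent.Lib.Helper41_Subfield.pslHom ι).range =
      (S0 ι).map (QuotientGroup.mk' (Subgroup.center SL(2, F))) := by
  unfold Cfsg.Agent.Lib.Helper41_Subfield.pslHom
  rw [MonoidHom.range_comp]

end Cfsg.Agent.Lib.Helper51_SL2SubMax
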