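import Mathlib
import Cfsg.Agent.Lib.Helper50_PgBasic
import Cfsg.Agent.Lib.Helper50_MxExc
import Cfsg.Agent.Lib.Helper51_SL2SubMax

/-!
# Normalisers of rigid pairs and subfield subgroups of `PGL(2,F)` (helper50)

* `mk_eq_one_of_fix`: an element of `GL(2,F)` fixing (by conjugation) a non-degenerate pair `X, Y`
  (`tr X = 0`) is scalar;
* `PP ι`: the image of `GL(2,K₀)` in `PGL(2,F)`;
* `mem_PP_of_pair`: if `ĝ` conjugates a non-degenerate pair over `K₀` to a pair over `K₀`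
  then the class of `ĝ` lies in `PP ι`.
-/

set_option autoImplicit false

namespace Cfsg.Agent.Lib.Helper50_PgRigid

open Matrix Cfsg.Agent.Lib.Helper50_SL2Mat Cfsg.Agent.Lib.Helper50_DkPSL
  Cfsg.Agent.Lib.Helper50_DkStruct Cfsg.Agent.Lib.Helper50_MxRigid
  Cfsg.Agent.Lib.Helper50_MxBasic Cfsg.Agent.Lib.Helper50_PgBasic
  Cfsg.Agent.Lib.Helper50_MxExc Cfsg.Agent.Lib.Helper51_SL2SubMax
open scoped MatrixGroups

variable {F : Type*} [Field F]

theorem mul_eq_of_gcj_eq {e : GL (Fin 2) F} {g g' : SL(2, F)} (h : gcj e g = g') :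
    (e : Matrix (Fin 2) (Fin 2) F) * g.1 = g'.1 * (e : Matrix (Fin 2) (Fin 2) F) := by
  rw [← h, gcj_coe, Matrix.mul_assoc, Matrix.mul_assoc]
  have : ((e⁻¹ : GL (Fin 2) F) : Matrix (Fin 2) (Fin 2) F) * (e : Matrix (Fin 2) (Fin 2) F) = 1 := by
    rw [← Units.val_mul, inv_mul_cancel]; rfl
  rw [this, Matrix.mul_one]

theorem gcj_one (g : SL(2, F)) : gcj (1 : GL (Fin 2) F) g = g := by
  apply gcj_eq_of_mul_eq
  simp

theorem gcj_inv_gcj (e : GL (Fin 2) F) (g : SL(2, F)) : gcj e⁻¹ (gcj e g) = g := by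
  rw [← gcj_mul, inv_mul_cancel, gcj_one]

theorem gcj_gcj_inv (e : GL (Fin 2) F) (g : SL(2, F)) : gcj e (gcj e⁻¹ g) = g := by
  rw [← gcj_mul, mul_inv_cancel, gcj_one]

/-- entries of a product of 2×2 matrices -/
theorem mul_entries (A B : Matrix (Fin 2) (Fin 2) F) :
    (A * B) 0 0 = A 0 0 * B 0 0 + A 0 1 * B 1 0 ∧ (A * B) 0 1 = A 0 0 * B 0 1 + A 0 1 * B 1 1 ∧
    (A * B) 1 0 = A 1 0 * B 0 0 + A 1 1 * B 1 0 ∧ (A * B) 1 1 = A 1 0 * B 0 1 + A 1 1 * B 1 1 := by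
  refine ⟨?_, ?_, ?_, ?_⟩ <;> simp [Matrix.mul_apply, Fin.sum_univ_two]

/-- an element of `GL(2,F)` commuting with `Cfsg.Agent.Lib.Helper50_MxRigid.J` and with a non-degenerate `Y` is scalar -/
theorem scalar_of_fix_J (Y : SL(2, F)) (hN : tr Y ^ 2 + tr (Cfsg.Agent.Lib.Helper50_MxRigid.J * Y) ^ 2 ≠ 4) (e : GL (Fin 2) F)
    (h1 : gcj e Cfsg.Agent.Lib.Helper50_MxRigid.J = Cfsg.Agent.Lib.Helper50_MxRigid.J) (h2 : gcj e Y = Y) : Matrix.ProjGenLinGroup.mk e = 1 := by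
  have e1 := mul_eq_of_gcj_eq h1
  have e2 := mul_eq_of_gcj_eq h2
  set E : Matrix (Fin 2) (Fin 2) F := (e : Matrix (Fin 2) (Fin 2) F) with hE
  obtain ⟨l00, l01, l10, l11⟩ := mul_entries E (Cfsg.Agent.Lib.Helper50_MxRigid.J : SL(2, F)).1
  obtain ⟨r00, r01, r10, r11⟩ := mul_entries (Cfsg.Agent.Lib.Helper50_MxRigid.J : SL(2, F)).1 E
  have a00 := congrFun (congrFun e1 0) 0
  have a01 := congrFun (congrFun e1 0) 1
  rw [l00, r00] at a00
  rw [l01, r01] at a01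
  have hJ00 : (Cfsg.Agent.Lib.Helper50_MxRigid.J : SL(2, F)).1 0 0 = 0 := rfl
  have hJ01 : (Cfsg.Agent.Lib.Helper50_MxRigid.J : SL(2, F)).1 0 1 = -1 := rfl
  have hJ10 : (Cfsg.Agent.Lib.Helper50_MxRigid.J : SL(2, F)).1 1 0 = 1 := rfl
  have hJ11 : (Cfsg.Agent.Lib.Helper50_MxRigid.J : SL(2, F)).1 1 1 = 0 := rfl
  simp only [hJ00, hJ01, hJ10, hJ11] at a00 a01
  have hb : E 0 1 = -E 1 0 := by linear_combination a00
  have hd : E 1 1 = E 0 0 := by linear_combination a01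
  obtain ⟨m00, m01, m10, m11⟩ := mul_entries E Y.1
  obtain ⟨n00, n01, n10, n11⟩ := mul_entries Y.1 E
  have b00 := congrFun (congrFun e2 0) 0
  have b01 := congrFun (congrFun e2 0) 1
  rw [m00, n00, hb] at b00
  rw [m01, n01, hb, hd] at b01
  have hc : E 1 0 = 0 := by
    by_contra hc
    have k1 : Y.1 0 1 + Y.1 1 0 = 0 := by
      have : E 1 0 * (Y.1 0 1 + Y.1 1 0) = 0 := by linear_combination -b00
      rcases mul_eq_zero.1 this with h | h
      · exact absurd h hc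
      · exact h
    have k2 : Y.1 0 0 - Y.1 1 1 = 0 := by
      have : E 1 0 * (Y.1 0 0 - Y.1 1 1) = 0 := by linear_combination b01
      rcases mul_eq_zero.1 this with h | h
      · exact absurd h hc
      · exact h
    apply hN
    have hn := norm_id Y
    rw [tr_J_mul]
    have k1' : Y 0 1 + Y 1 0 = 0 := k1
    have k2' : Y 0 0 - Y 1 1 = 0 := k2
    rw [k1', k2'] at hn
    linear_combination -hn
  have ha : E 0 0 ≠ 0 := by
    intro ha
    have hdet : E.det ≠ 0 := by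
      have := e.det.ne_zero
      simpa using this
    apply hdet
    rw [Matrix.det_fin_two, hd, hb, hc, ha]
    ring
  have : e = Matrix.GeneralLinearGroup.scalar (Fin 2) (Units.mk0 (E 0 0) ha) := by
    apply Units.ext
    rw [Matrix.GeneralLinearGroup.coe_scalar]
    apply mat_ext2
    · simp [Matrix.scalar_apply, hE]
    · show E 0 1 = _
      rw [hb, hc]
      simp [Matrix.scalar_apply]
    · show E 1 0 = _
      rw [hc]
      simp [Matrix.scalar_apply]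
    · show E 1 1 = _
      rw [hd]
      simp [Matrix.scalar_apply]
  rw [this]
  exact Matrix.ProjGenLinGroup.mk_scalar _

variable [Fintype F] [DecidableEq F]

/-- **an element of `GL(2,F)` fixing a non-degenerate pair is scalar** -/
theorem mk_eq_one_of_fix (h2 : (2 : F) ≠ 0) (X Y : SL(2, F)) (hX : tr X = 0)
    (hN : tr Y ^ 2 + tr (X * Y) ^ 2 ≠ 4) (e : GL (Fin 2) F)
    (h1 : gcj e X = X) (h2' : gcj e Y = Y) : Matrix.ProjGenLinGroup.mk e = 1 := by
  obtain ⟨g, hg⟩ := exists_conj_J h2 X hX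
  set t := Matrix.SpecialLinearGroup.toGL g with ht
  have k1 : gcj (t * e * t⁻¹) Cfsg.Agent.Lib.Helper50_MxRigid.J = Cfsg.Agent.Lib.Helper50_MxRigid.J := by
    rw [gcj_mul, gcj_mul, ← hg, ← gcj_toGL, ← ht, gcj_inv_gcj, h1]
  have k2 : gcj (t * e * t⁻¹) (g * Y * g⁻¹) = g * Y * g⁻¹ := by
    rw [gcj_mul, gcj_mul, ← gcj_toGL, ← ht, gcj_inv_gcj, h2']
  have hN' : tr (g * Y * g⁻¹) ^ 2 + tr (Cfsg.Agent.Lib.Helper50_MxRigid.J * (g * Y * g⁻¹)) ^ 2 ≠ 4 := by
    have e1 : Cfsg.Agent.Lib.Helper50_MxRigid.J * (g * Y * g⁻¹) = g * (X * Y) * g⁻¹ := by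
      rw [← hg]; group
    rw [e1, tr_conj, tr_conj]
    exact hN
  have := scalar_of_fix_J _ hN' _ k1 k2
  rw [map_mul, map_mul, map_inv] at this
  have h3 : Matrix.ProjGenLinGroup.mk e =
      (Matrix.ProjGenLinGroup.mk t)⁻¹ * (Matrix.ProjGenLinGroup.mk t *
        Matrix.ProjGenLinGroup.mk e * (Matrix.ProjGenLinGroup.mk t)⁻¹) *
        Matrix.ProjGenLinGroup.mk t := by group
  rw [h3, this]
  group


section subfield

variable {K : Type*} [Field K]

omit [Fintype F] [DecidableEq F] in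
theorem coe_GLmap (ι : K →+* F) (e0 : GL (Fin 2) K) :
    ((Matrix.GeneralLinearGroup.map ι e0 : GL (Fin 2) F) : Matrix (Fin 2) (Fin 2) F) =
      ι.mapMatrix (e0 : Matrix (Fin 2) (Fin 2) K) := rfl

omit [Fintype F] [DecidableEq F] in
theorem coe_SLmap (ι : K →+* F) (g : SL(2, K)) :
    (SpecialLinearGroup.map (n := Fin 2) ι g).1 = ι.mapMatrix g.1 := rfl

omit [Fintype F] [DecidableEq F] in
theorem map_gcj (ι : K →+* F) (e0 : GL (Fin 2) K) (g : SL(2, K)) :
    SpecialLinearGroup.map (n := Fin 2) ι (gcj e0 g) =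
      gcj (Matrix.GeneralLinearGroup.map ι e0) (SpecialLinearGroup.map (n := Fin 2) ι g) := by
  symm
  apply gcj_eq_of_mul_eq
  rw [coe_GLmap, coe_SLmap, coe_SLmap, ← map_mul, ← map_mul, mul_eq_of_gcj_eq rfl]

/-- the image of `GL(2,K)` in `PGL(2,F)` -/
def PP (ι : K →+* F) : Subgroup (Matrix.ProjGenLinGroup (Fin 2) F) :=
  ((Matrix.GeneralLinearGroup.map (n := Fin 2) ι).range).map Matrix.ProjGenLinGroup.mk

omit [Fintype F] [DecidableEq F] in
theorem tr_SLmap (ι : K →+* F) (g : SL(2, K)) :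
    tr (SpecialLinearGroup.map (n := Fin 2) ι g) = ι (tr g) := by
  rw [tr_map, Matrix.trace_fin_two]
  rfl

/-- **normaliser of a rigid pair defined over a subfield** -/
theorem mem_PP_of_pair [Fintype K] [DecidableEq K] (h2 : (2 : F) ≠ 0) (ι : K →+* F)
    (X0 Y0 X0' Y0' : SL(2, K)) (hX0 : tr X0 = 0) (hN : tr Y0 ^ 2 + tr (X0 * Y0) ^ 2 ≠ 4)
    (g : GL (Fin 2) F)
    (h1 : gcj g (SpecialLinearGroup.map (n := Fin 2) ι X0) =
      SpecialLinearGroup.map (n := Fin 2) ι X0')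
    (h2' : gcj g (SpecialLinearGroup.map (n := Fin 2) ι Y0) =
      SpecialLinearGroup.map (n := Fin 2) ι Y0') :
    Matrix.ProjGenLinGroup.mk g ∈ PP ι := by
  have h2K : (2 : K) ≠ 0 := by
    intro h
    apply h2
    have := congrArg ι h
    rwa [map_ofNat, map_zero] at this
  have hX0' : tr X0' = 0 := by
    apply ι.injective
    rw [← tr_SLmap, ← h1, tr_gcj, tr_SLmap, hX0]
  have hY : tr Y0 = tr Y0' := by
    apply ι.injective
    rw [← tr_SLmap, ← tr_SLmap, ← h2', tr_gcj]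
  have hXY : tr (X0 * Y0) = tr (X0' * Y0') := by
    apply ι.injective
    have e1 : gcj g (SpecialLinearGroup.map (n := Fin 2) ι X0 *
        SpecialLinearGroup.map (n := Fin 2) ι Y0) =
        SpecialLinearGroup.map (n := Fin 2) ι X0' * SpecialLinearGroup.map (n := Fin 2) ι Y0' := by
      rw [map_mul, h1, h2']
    rw [← tr_SLmap, ← tr_SLmap, map_mul, map_mul, ← e1, tr_gcj]
  obtain ⟨e0, he1, he2⟩ := pair_rigid h2K X0 Y0 X0' Y0' hX0 hX0' hY hXY hN
  set e1 := Matrix.GeneralLinearGroup.map (n := Fin 2) ι e0 with he1def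
  have k1 : gcj (e1⁻¹ * g) (SpecialLinearGroup.map (n := Fin 2) ι X0) =
      SpecialLinearGroup.map (n := Fin 2) ι X0 := by
    rw [gcj_mul, h1, ← he1, map_gcj, gcj_inv_gcj]
  have k2 : gcj (e1⁻¹ * g) (SpecialLinearGroup.map (n := Fin 2) ι Y0) =
      SpecialLinearGroup.map (n := Fin 2) ι Y0 := by
    rw [gcj_mul, h2', ← he2, map_gcj, gcj_inv_gcj]
  have hN' : tr (SpecialLinearGroup.map (n := Fin 2) ι Y0) ^ 2 +
      tr (SpecialLinearGroup.map (n := Fin 2) ι X0 * SpecialLinearGroup.map (n := Fin 2) ι Y0) ^ 2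
        ≠ 4 := by
    rw [← map_mul, tr_SLmap, tr_SLmap, ← map_pow, ← map_pow, ← map_add]
    intro h
    apply hN
    apply ι.injective
    rw [h, map_ofNat]
  have hone := mk_eq_one_of_fix h2 _ _ (by rw [tr_SLmap, hX0, map_zero]) hN' _ k1 k2
  rw [map_mul, map_inv, inv_mul_eq_one] at hone
  rw [← hone]
  exact ⟨e1, ⟨e0, rfl⟩, rfl⟩

omit [Fintype F] [DecidableEq F] in
theorem mem_PP_iff (ι : K →+* F) (g : GL (Fin 2) F) :
    Matrix.ProjGenLinGroup.mk g ∈ PP ι ↔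
      ∃ (e0 : GL (Fin 2) K) (u : Fˣ),
        Matrix.GeneralLinearGroup.map ι e0 * Matrix.GeneralLinearGroup.scalar (Fin 2) u = g := by
  constructor
  · rintro ⟨_, ⟨e0, rfl⟩, h⟩
    obtain ⟨u, hu⟩ := Matrix.ProjGenLinGroup.mk_eq_mk_iff.1 h
    exact ⟨e0, u, hu⟩
  · rintro ⟨e0, u, rfl⟩
    refine ⟨_, ⟨e0, rfl⟩, ?_⟩
    rw [map_mul, Matrix.ProjGenLinGroup.mk_scalar, mul_one]

omit [Fintype F] [DecidableEq F] in
theorem entries_of_mem_PP (ι : K →+* F) (g : GL (Fin 2) F)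
    (h : Matrix.ProjGenLinGroup.mk g ∈ PP ι) :
    ∃ (e0 : GL (Fin 2) K) (u : F), u ≠ 0 ∧ ∀ i j, g i j = ι (e0 i j) * u := by
  obtain ⟨e0, u, rfl⟩ := (mem_PP_iff ι g).1 h
  refine ⟨e0, u, u.ne_zero, ?_⟩
  intro i j
  have : ((Matrix.GeneralLinearGroup.map ι e0 * Matrix.GeneralLinearGroup.scalar (Fin 2) u :
      GL (Fin 2) F) : Matrix (Fin 2) (Fin 2) F) =
      ι.mapMatrix (e0 : Matrix (Fin 2) (Fin 2) K) * Matrix.diagonal (fun _ => (u : F)) := by
    rw [Units.val_mul, Matrix.GeneralLinearGroup.coe_scalar]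
    rfl
  show ((Matrix.GeneralLinearGroup.map ι e0 * Matrix.GeneralLinearGroup.scalar (Fin 2) u :
      GL (Fin 2) F) : Matrix (Fin 2) (Fin 2) F) i j = _
  rw [this, Matrix.mul_diagonal]
  rfl


omit [Fintype F] [DecidableEq F] in
theorem PP_ne_top (ι : K →+* F) (hι : ¬ Function.Surjective ι) : PP ι ≠ ⊤ := by
  intro htop
  apply hι
  intro x
  have hmem : Matrix.ProjGenLinGroup.mk (Matrix.SpecialLinearGroup.toGL (tU x)) ∈ PP ι := by
    rw [htop]; exact Subgroup.mem_top _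
  obtain ⟨e0, u, hu, hent⟩ := entries_of_mem_PP ι _ hmem
  have h00 : (1 : F) = ι (e0 0 0) * u := by
    have := hent 0 0
    rwa [show (Matrix.SpecialLinearGroup.toGL (tU x) : GL (Fin 2) F) 0 0 = (tU x) 0 0 from rfl,
      tU00] at this
  have h01 : x = ι (e0 0 1) * u := by
    have := hent 0 1
    rwa [show (Matrix.SpecialLinearGroup.toGL (tU x) : GL (Fin 2) F) 0 1 = (tU x) 0 1 from rfl,
      tU01] at this
  have h0 : ι (e0 0 0) ≠ 0 := by
    intro h
    rw [h, zero_mul] at h00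
    exact one_ne_zero h00
  refine ⟨e0 0 1 / e0 0 0, ?_⟩
  rw [map_div₀, div_eq_iff h0, h01]
  linear_combination (ι (e0 0 1)) * h00

omit [Fintype F] [DecidableEq F] in
theorem PP_mono {K1 : Type*} [Field K1] (ι0 : K →+* F) (ι1 : K1 →+* F)
    (h : Set.range ι0 ⊆ Set.range ι1) : PP ι0 ≤ PP ι1 := by
  rintro _ ⟨_, ⟨e0, rfl⟩, rfl⟩
  choose f hf using fun i j => h ⟨e0 i j, rfl⟩
  let A : Matrix (Fin 2) (Fin 2) K1 := Matrix.of f
  have hA : ι1.mapMatrix A = ι0.mapMatrix (e0 : Matrix (Fin 2) (Fin 2) K) := by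
    ext i j
    exact hf i j
  have hdet : A.det ≠ 0 := by
    intro h0
    have h1 := congrArg Matrix.det hA
    rw [← RingHom.map_det, ← RingHom.map_det, h0, map_zero] at h1
    have h2 : (e0 : Matrix (Fin 2) (Fin 2) K).det = 0 := by
      apply ι0.injective
      rw [← h1, map_zero]
    have := e0.det.ne_zero
    apply this
    simpa using h2
  refine ⟨_, ⟨Matrix.GeneralLinearGroup.mkOfDetNeZero A hdet, rfl⟩, ?_⟩
  congr 1
  apply Units.ext
  exact hA

omit [Fintype F] [DecidableEq F] in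
theorem PP_le_LL (ι : K →+* F) (hsq : ∀ a : K, IsSquare (ι a)) : PP ι ≤ LL := by
  rintro _ ⟨_, ⟨e0, rfl⟩, rfl⟩
  obtain ⟨s, hs⟩ := hsq (e0 : Matrix (Fin 2) (Fin 2) K).det
  have hd0 : (e0 : Matrix (Fin 2) (Fin 2) K).det ≠ 0 := by
    have := e0.det.ne_zero
    simpa using this
  have hs0 : s ≠ 0 := by
    rintro rfl
    rw [mul_zero] at hs
    exact hd0 (ι.injective (hs.trans (map_zero ι).symm))
  set E : Matrix (Fin 2) (Fin 2) F := ι.mapMatrix (e0 : Matrix (Fin 2) (Fin 2) K) with hE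
  have hdetE : E.det = s * s := by rw [hE, ← RingHom.map_det, hs]
  let g : SL(2, F) := ⟨s⁻¹ • E, by
    rw [Matrix.det_smul, hdetE, Fintype.card_fin]
    field_simp⟩
  refine ⟨g, ?_⟩
  show Matrix.ProjGenLinGroup.mk (Matrix.SpecialLinearGroup.toGL g) = _
  rw [Matrix.ProjGenLinGroup.mk_eq_mk_iff]
  refine ⟨Units.mk0 s hs0, ?_⟩
  apply Units.ext
  rw [Units.val_mul, Matrix.GeneralLinearGroup.coe_scalar]
  show (s⁻¹ • E) * Matrix.scalar (Fin 2) s = E
  ext i j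
  rw [Matrix.scalar_apply, Matrix.mul_diagonal, Matrix.smul_apply, smul_eq_mul]
  field_simp

omit [Fintype F] [DecidableEq F] in
theorem mem_center_GL_iff {R : Type*} [Field R] (g : GL (Fin 2) R) :
    g ∈ Subgroup.center (GL (Fin 2) R) ↔ g 0 1 = 0 ∧ g 1 0 = 0 ∧ g 0 0 = g 1 1 := by
  rw [Matrix.GeneralLinearGroup.center_eq_range_scalar]
  constructor
  · rintro ⟨u, rfl⟩
    refine ⟨?_, ?_, ?_⟩ <;>
      simp [Matrix.GeneralLinearGroup.coe_scalar, Matrix.scalar_apply]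
  · rintro ⟨h01, h10, h00⟩
    have ha : g 0 0 ≠ 0 := by
      intro ha
      have := g.det.ne_zero
      apply this
      have hd : (g : Matrix (Fin 2) (Fin 2) R).det = 0 := by
        rw [Matrix.det_fin_two]
        rw [show (g : Matrix (Fin 2) (Fin 2) R) 0 0 = g 0 0 from rfl, ha,
          show (g : Matrix (Fin 2) (Fin 2) R) 0 1 = g 0 1 from rfl, h01]
        ring
      simpa using hd
    refine ⟨Units.mk0 (g 0 0) ha, ?_⟩
    apply Units.ext
    rw [Matrix.GeneralLinearGroup.coe_scalar]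
    apply mat_ext2
    · simp [Matrix.scalar_apply]
    · rw [show (g : Matrix (Fin 2) (Fin 2) R) 0 1 = g 0 1 from rfl, h01]
      simp [Matrix.scalar_apply]
    · rw [show (g : Matrix (Fin 2) (Fin 2) R) 1 0 = g 1 0 from rfl, h10]
      simp [Matrix.scalar_apply]
    · rw [show (g : Matrix (Fin 2) (Fin 2) R) 1 1 = g 1 1 from rfl, ← h00]
      simp [Matrix.scalar_apply]

omit [Fintype F] [DecidableEq F] in
/-- `PP ι ≅ PGL(2,K)` -/
theorem PP_iso (ι : K →+* F) : Nonempty (↥(PP ι) ≃* Matrix.ProjGenLinGroup (Fin 2) K) := by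
  set φ : GL (Fin 2) K →* Matrix.ProjGenLinGroup (Fin 2) F :=
    Matrix.ProjGenLinGroup.mk.comp (Matrix.GeneralLinearGroup.map (n := Fin 2) ι) with hφ
  have hrange : φ.range = PP ι := by
    rw [hφ, MonoidHom.range_comp]
    rfl
  have hker : φ.ker = Subgroup.center (GL (Fin 2) K) := by
    ext g
    rw [MonoidHom.mem_ker, hφ, MonoidHom.comp_apply, Matrix.ProjGenLinGroup.mk_eq_one,
      mem_center_GL_iff, mem_center_GL_iff]
    simp only [Matrix.GeneralLinearGroup.map_apply]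
    constructor
    · rintro ⟨h1, h2, h3⟩
      exact ⟨ι.injective (h1.trans (map_zero ι).symm), ι.injective (h2.trans (map_zero ι).symm),
        ι.injective h3⟩
    · rintro ⟨h1, h2, h3⟩
      exact ⟨by rw [h1, map_zero], by rw [h2, map_zero], by rw [h3]⟩
  have e1 := QuotientGroup.quotientKerEquivRange φ
  have e2 : GL (Fin 2) K ⧸ φ.ker ≃* GL (Fin 2) K ⧸ Subgroup.center (GL (Fin 2) K) :=
    QuotientGroup.quotientMulEquivOfEq hker
  have e3 : ↥φ.range ≃* ↥(PP ι) := MulEquiv.subgroupCongr hrange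
  exact ⟨(e2.symm.trans (e1.trans e3)).symm⟩

end subfield

end Cfsg.Agent.Lib.Helper50_PgRigid
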