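import Mathlib
import Cfsg.Agent.Lib.Helper50_PgRigid
import Cfsg.Agent.Lib.Helper50_MxMain
import Cfsg.Agent.Lib.Helper50_SL2Rep
import Cfsg.Agent.Lib.Helper50_SL2DicksonPair
import Cfsg.Agent.Lib.Helper50_SL2Gen
import Cfsg.Agent.Lib.Helper50_PgBasic
import Cfsg.Agent.Lib.Helper50_MxRigid

/-!
# Conjugating maximal subgroups of `PGL(2,F)`; the structural conclusion (helper50)
-/

set_option autoImplicit false

namespace Cfsg.Agent.Lib.Helper50_PgConj

open Matrix Cfsg.Agent.Lib.Helper50_SL2Mat Cfsg.Agent.Lib.Helper50_DkPSL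
  Cfsg.Agent.Lib.Helper50_DkStruct Cfsg.Agent.Lib.Helper50_MxRigid
  Cfsg.Agent.Lib.Helper50_MxBasic Cfsg.Agent.Lib.Helper50_PgBasic
  Cfsg.Agent.Lib.Helper50_PgRigid Cfsg.Agent.Lib.Helper51_SL2SubMax
open scoped MatrixGroups

variable {F : Type*} [Field F]

/-- the conjugate of `M` by the class of `e` -/
def cjM (e : GL (Fin 2) F) (M : Subgroup (Matrix.ProjGenLinGroup (Fin 2) F)) :
    Subgroup (Matrix.ProjGenLinGroup (Fin 2) F) :=
  M.map (MulAut.conj (Matrix.ProjGenLinGroup.mk e)).toMonoidHom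

theorem mem_cjM (e : GL (Fin 2) F) (M : Subgroup (Matrix.ProjGenLinGroup (Fin 2) F))
    (x : Matrix.ProjGenLinGroup (Fin 2) F) :
    x ∈ cjM e M ↔ (Matrix.ProjGenLinGroup.mk e)⁻¹ * x * Matrix.ProjGenLinGroup.mk e ∈ M := by
  constructor
  · rintro ⟨m, hm, rfl⟩
    show _ * (Matrix.ProjGenLinGroup.mk e * m * (Matrix.ProjGenLinGroup.mk e)⁻¹) * _ ∈ M
    have : (Matrix.ProjGenLinGroup.mk e)⁻¹ * (Matrix.ProjGenLinGroup.mk e * m *
        (Matrix.ProjGenLinGroup.mk e)⁻¹) * Matrix.ProjGenLinGroup.mk e = m := by group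
    rw [this]; exact hm
  · intro h
    refine ⟨_, h, ?_⟩
    show Matrix.ProjGenLinGroup.mk e * _ * (Matrix.ProjGenLinGroup.mk e)⁻¹ = x
    group

theorem isCoatom_cjM (e : GL (Fin 2) F) (M : Subgroup (Matrix.ProjGenLinGroup (Fin 2) F))
    (hM : IsCoatom M) : IsCoatom (cjM e M) :=
  Cfsg.Agent.Lib.Helper50_MxMain.isCoatom_map_equiv _ M hM

theorem not_le_cjM (e : GL (Fin 2) F) (M : Subgroup (Matrix.ProjGenLinGroup (Fin 2) F))
    (hML : ¬ LL ≤ M) : ¬ LL ≤ cjM e M := by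
  intro h
  apply hML
  intro x hx
  have h1 : Matrix.ProjGenLinGroup.mk e * x * (Matrix.ProjGenLinGroup.mk e)⁻¹ ∈ LL (F := F) :=
    LL_normal.conj_mem x hx _
  have h2 := (mem_cjM e M _).1 (h h1)
  have : (Matrix.ProjGenLinGroup.mk e)⁻¹ * (Matrix.ProjGenLinGroup.mk e * x *
      (Matrix.ProjGenLinGroup.mk e)⁻¹) * Matrix.ProjGenLinGroup.mk e = x := by group
  rwa [this] at h2

/-- `M ≅ cjM e M` -/
noncomputable def cjIso (e : GL (Fin 2) F) (M : Subgroup (Matrix.ProjGenLinGroup (Fin 2) F)) :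
    M ≃* cjM e M :=
  M.equivMapOfInjective _ (MulAut.conj (Matrix.ProjGenLinGroup.mk e)).injective

theorem comap_cjM (e : GL (Fin 2) F) (M : Subgroup (Matrix.ProjGenLinGroup (Fin 2) F)) :
    (cjM e M).comap jj = (M.comap jj).map (gcj e).toMonoidHom := by
  ext x
  rw [Subgroup.mem_comap, mem_cjM]
  constructor
  · intro h
    refine ⟨gcj e⁻¹ x, ?_, gcj_gcj_inv e x⟩
    show jj (gcj e⁻¹ x) ∈ M
    rw [← conj_jj, map_inv, inv_inv]
    exact h
  · rintro ⟨k, hk, rfl⟩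
    show _ * jj (gcj e k) * _ ∈ M
    rw [← conj_jj]
    have : (Matrix.ProjGenLinGroup.mk e)⁻¹ * (Matrix.ProjGenLinGroup.mk e * jj k *
        (Matrix.ProjGenLinGroup.mk e)⁻¹) * Matrix.ProjGenLinGroup.mk e = jj k := by group
    rw [this]; exact hk

theorem map_gcj_map_gcj (e e' : GL (Fin 2) F) (K : Subgroup SL(2, F)) :
    (K.map (gcj e').toMonoidHom).map (gcj e).toMonoidHom = K.map (gcj (e * e')).toMonoidHom := by
  rw [Subgroup.map_map]
  congr 1
  apply MonoidHom.ext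
  intro x
  exact (gcj_mul e e' x).symm

/-- the Borel subgroup of `PGL(2,F)` -/
def BorP : Subgroup (Matrix.ProjGenLinGroup (Fin 2) F) where
  carrier := {x | ∃ g : GL (Fin 2) F, Matrix.ProjGenLinGroup.mk g = x ∧ g 1 0 = 0}
  one_mem' := ⟨1, rfl, by simp⟩
  mul_mem' := by
    rintro _ _ ⟨g, rfl, hg⟩ ⟨h, rfl, hh⟩
    refine ⟨g * h, map_mul _ _ _, ?_⟩
    show ((g : Matrix (Fin 2) (Fin 2) F) * (h : Matrix (Fin 2) (Fin 2) F)) 1 0 = 0
    rw [(mul_entries _ _).2.2.1]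
    show g 1 0 * h 0 0 + g 1 1 * h 1 0 = 0
    rw [hg, hh]; ring
  inv_mem' := by
    rintro _ ⟨g, rfl, hg⟩
    refine ⟨g⁻¹, map_inv _ _, ?_⟩
    have h1 : (g⁻¹ * g : GL (Fin 2) F) = 1 := inv_mul_cancel g
    have h2 := congrArg (fun x : GL (Fin 2) F => (x : Matrix (Fin 2) (Fin 2) F) 1 0) h1
    simp only [Units.val_mul] at h2
    rw [(mul_entries _ _).2.2.1] at h2
    have h3 : (g : Matrix (Fin 2) (Fin 2) F) 1 0 = 0 := hg
    have h00 : (g : Matrix (Fin 2) (Fin 2) F) 0 0 ≠ 0 := by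
      intro h0
      have := g.det.ne_zero
      apply this
      have hd : (g : Matrix (Fin 2) (Fin 2) F).det = 0 := by
        rw [Matrix.det_fin_two, h0, h3]; ring
      simpa using hd
    rw [h3, mul_zero, add_zero] at h2
    have h4 : ((1 : GL (Fin 2) F) : Matrix (Fin 2) (Fin 2) F) 1 0 = 0 := by simp
    rw [h4] at h2
    rcases mul_eq_zero.1 h2 with h | h
    · exact h
    · exact absurd h h00

theorem mk_mem_BorP_iff (g : GL (Fin 2) F) :
    Matrix.ProjGenLinGroup.mk g ∈ (BorP : Subgroup (Matrix.ProjGenLinGroup (Fin 2) F)) ↔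
      g 1 0 = 0 := by
  constructor
  · rintro ⟨h, hh, h10⟩
    obtain ⟨u, rfl⟩ := Matrix.ProjGenLinGroup.mk_eq_mk_iff.1 hh
    show ((h : Matrix (Fin 2) (Fin 2) F) *
      ((Matrix.GeneralLinearGroup.scalar (Fin 2) u : GL (Fin 2) F) :
        Matrix (Fin 2) (Fin 2) F)) 1 0 = 0
    rw [Matrix.GeneralLinearGroup.coe_scalar, Matrix.scalar_apply, Matrix.mul_diagonal]
    show h 1 0 * _ = 0
    rw [h10, zero_mul]
  · intro h
    exact ⟨g, rfl, h⟩

theorem comap_BorP : (BorP : Subgroup (Matrix.ProjGenLinGroup (Fin 2) F)).comap jj =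
    Cfsg.Agent.Lib.Helper50_SL2Rep.Bor := by
  ext x
  rw [Subgroup.mem_comap]
  show Matrix.ProjGenLinGroup.mk (Matrix.SpecialLinearGroup.toGL x) ∈ BorP ↔ _
  rw [mk_mem_BorP_iff]
  rfl

theorem BorP_ne_top : (BorP : Subgroup (Matrix.ProjGenLinGroup (Fin 2) F)) ≠ ⊤ := by
  intro h
  have : jj (tL (1 : F)) ∈ (BorP : Subgroup (Matrix.ProjGenLinGroup (Fin 2) F)) := by
    rw [h]; exact Subgroup.mem_top _
  have h1 : (tL (1 : F)) ∈ (BorP : Subgroup (Matrix.ProjGenLinGroup (Fin 2) F)).comap jj := this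
  rw [comap_BorP] at h1
  have h10 : (tL (1 : F)) 1 0 = 0 := h1
  rw [tL10] at h10
  exact one_ne_zero h10

/-- `GL(2,F)`-version: conjugating `tU b` (`b ≠ 0`) into an upper unitriangular element forces
`g 1 0 = 0` -/
theorem lower_zero_of_gcj {g : GL (Fin 2) F} {b b' : F} (hb : b ≠ 0)
    (h : gcj g (tU b) = tU b') : g 1 0 = 0 := by
  have e1 := mul_eq_of_gcj_eq h
  have h11 := congrFun (congrFun e1 1) 1
  rw [(mul_entries _ _).2.2.2, (mul_entries _ _).2.2.2] at h11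
  have t01 : (tU b : SL(2, F)).1 0 1 = b := tU01 b
  have t11 : (tU b : SL(2, F)).1 1 1 = 1 := tU11 b
  have s10 : (tU b' : SL(2, F)).1 1 0 = 0 := tU10 b'
  have s11 : (tU b' : SL(2, F)).1 1 1 = 1 := tU11 b'
  rw [t01, t11, s10, s11] at h11
  have : (g : Matrix (Fin 2) (Fin 2) F) 1 0 * b = 0 := by linear_combination h11
  rcases mul_eq_zero.1 this with h0 | h0
  · exact h0
  · exact absurd h0 hb

/-- the diagonal matrix `diag(1, a)` -/
noncomputable def dg (a : F) (ha : a ≠ 0) : GL (Fin 2) F :=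
  Matrix.GeneralLinearGroup.mkOfDetNeZero !![1, 0; 0, a] (by
    rw [Matrix.det_fin_two_of]; simpa using ha)

theorem dg_coe (a : F) (ha : a ≠ 0) :
    ((dg a ha : GL (Fin 2) F) : Matrix (Fin 2) (Fin 2) F) = !![1, 0; 0, a] := rfl

theorem gcj_dg_tU (a : F) (ha : a ≠ 0) (x : F) : gcj (dg a ha) (tU x) = tU (x / a) := by
  apply gcj_eq_of_mul_eq
  rw [dg_coe]
  apply mat_ext2
  · rw [(mul_entries _ _).1, (mul_entries _ _).1]
    simp [tU00, tU10]
  · rw [(mul_entries _ _).2.1, (mul_entries _ _).2.1]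
    simp [tU01, tU11, tU00]
    field_simp
  · rw [(mul_entries _ _).2.2.1, (mul_entries _ _).2.2.1]
    simp [tU10, tU11]
  · rw [(mul_entries _ _).2.2.2, (mul_entries _ _).2.2.2]
    simp [tU11, tU10]

theorem gcj_dg_tL (a : F) (ha : a ≠ 0) (x : F) : gcj (dg a ha) (tL x) = tL (a * x) := by
  apply gcj_eq_of_mul_eq
  rw [dg_coe]
  apply mat_ext2
  · rw [(mul_entries _ _).1, (mul_entries _ _).1]
    simp [tL00, tL10, tL01]
  · rw [(mul_entries _ _).2.1, (mul_entries _ _).2.1]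
    simp [tL01, tL11, tL00]
  · rw [(mul_entries _ _).2.2.1, (mul_entries _ _).2.2.1]
    simp [tL10, tL11, tL00]
  · rw [(mul_entries _ _).2.2.2, (mul_entries _ _).2.2.2]
    simp [tL11, tL10, tL01]

/-- a non-`p`-closed subgroup can be moved by `GL(2,F)` to contain `tU 1` and `tL 1` -/
theorem exists_gl [Fintype F] (p : ℕ) [Fact p.Prime] [CharP F p] (hp : p ≠ 2)
    (K : Subgroup SL(2, F)) (hK : 1 < Nat.card (Sylow p K)) :
    ∃ e : GL (Fin 2) F, tU 1 ∈ K.map (gcj e).toMonoidHom ∧ tL 1 ∈ K.map (gcj e).toMonoidHom := by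
  obtain ⟨g, a, ha, hall⟩ :=
    Cfsg.Agent.Lib.Helper50_SL2DicksonPair.dickson_strong p hp K hK
  refine ⟨dg a ha * Matrix.SpecialLinearGroup.toGL g, ?_, ?_⟩
  · refine ⟨_, hall (tU 1), ?_⟩
    show gcj (dg a ha * Matrix.SpecialLinearGroup.toGL g) _ = _
    rw [gcj_mul, gcj_toGL]
    have : g * (g⁻¹ * Cfsg.Agent.Lib.Helper50_SL2Gen.dmap p a ha (tU 1) * g) * g⁻¹ =
        Cfsg.Agent.Lib.Helper50_SL2Gen.dmap p a ha (tU 1) := by group
    rw [this, Cfsg.Agent.Lib.Helper50_SL2Gen.dmap_tU, gcj_dg_tU, div_self ha]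
  · refine ⟨_, hall (tL 1), ?_⟩
    show gcj (dg a ha * Matrix.SpecialLinearGroup.toGL g) _ = _
    rw [gcj_mul, gcj_toGL]
    have : g * (g⁻¹ * Cfsg.Agent.Lib.Helper50_SL2Gen.dmap p a ha (tL 1) * g) * g⁻¹ =
        Cfsg.Agent.Lib.Helper50_SL2Gen.dmap p a ha (tL 1) := by group
    rw [this, Cfsg.Agent.Lib.Helper50_SL2Gen.dmap_tL, gcj_dg_tL, map_one, mul_one_div_cancel ha]

/-- an element of `GL(2,F)` with square determinant has its class in `L` -/
theorem mk_mem_LL_of_det (g : GL (Fin 2) F) (s : F)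
    (hs : (g : Matrix (Fin 2) (Fin 2) F).det = s * s) :
    Matrix.ProjGenLinGroup.mk g ∈ LL (F := F) := by
  have hd0 : (g : Matrix (Fin 2) (Fin 2) F).det ≠ 0 := by
    have := g.det.ne_zero
    simpa using this
  have hs0 : s ≠ 0 := by
    rintro rfl
    rw [mul_zero] at hs
    exact hd0 hs
  let g' : SL(2, F) := ⟨s⁻¹ • (g : Matrix (Fin 2) (Fin 2) F), by
    rw [Matrix.det_smul, hs, Fintype.card_fin]
    field_simp⟩
  refine ⟨g', ?_⟩
  show Matrix.ProjGenLinGroup.mk (Matrix.SpecialLinearGroup.toGL g') = _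
  rw [Matrix.ProjGenLinGroup.mk_eq_mk_iff]
  refine ⟨Units.mk0 s hs0, ?_⟩
  apply Units.ext
  rw [Units.val_mul, Matrix.GeneralLinearGroup.coe_scalar]
  show (s⁻¹ • (g : Matrix (Fin 2) (Fin 2) F)) * Matrix.scalar (Fin 2) s = _
  ext i j
  rw [Matrix.scalar_apply, Matrix.mul_diagonal, Matrix.smul_apply, smul_eq_mul]
  field_simp

/-- maximality passes from the preimage in `SL(2,F)` to the intersection with `L` -/
theorem isCoatom_of_comap (M : Subgroup (Matrix.ProjGenLinGroup (Fin 2) F))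
    (hK : IsCoatom (M.comap (jj (F := F)))) : IsCoatom ((M ⊓ LL).subgroupOf (LL (F := F))) := by
  set φ : SL(2, F) →* ↥(LL (F := F)) := (jj (F := F)).rangeRestrict with hφ
  have hsurj : Function.Surjective φ := MonoidHom.rangeRestrict_surjective _
  have hcomap : ∀ S : Subgroup (Matrix.ProjGenLinGroup (Fin 2) F),
      (S.subgroupOf (LL (F := F))).comap φ = S.comap jj := by
    intro S
    ext x
    rfl
  have hinf : (M ⊓ LL).subgroupOf (LL (F := F)) = M.subgroupOf (LL (F := F)) := by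
    rw [Subgroup.inf_subgroupOf_right]
  rw [hinf]
  constructor
  · intro h
    apply hK.1
    rw [← hcomap, h, Subgroup.comap_top]
  · intro T hT
    have h1 : M.comap jj < T.comap φ := by
      rw [← hcomap]
      exact (Subgroup.comap_lt_comap_of_surjective hsurj).2 hT
    have h2 := hK.2 _ h1
    rw [← Subgroup.comap_top φ] at h2
    exact Subgroup.comap_injective hsurj h2

section concl

variable [Fintype F]

/-- the structural conclusion about a maximal subgroup `M` of `PGL(2,F)` not containing `L` -/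
def Concl (M : Subgroup (Matrix.ProjGenLinGroup (Fin 2) F)) : Prop :=
  (Nat.card M = Fintype.card F * (Fintype.card F - 1) ∧ IsCoatom (M.comap (jj (F := F)))) ∨
  (Fintype.card F ≠ 5 ∧ Nonempty (M ≃* DihedralGroup (Fintype.card F - 1)) ∧
    (Fintype.card F ≠ 7 → Fintype.card F ≠ 9 → Fintype.card F ≠ 11 →
      IsCoatom (M.comap (jj (F := F))))) ∨
  (Nonempty (M ≃* DihedralGroup (Fintype.card F + 1)) ∧
    (Fintype.card F ≠ 7 → Fintype.card F ≠ 9 → IsCoatom (M.comap (jj (F := F))))) ∨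
  ((Fintype.card F).Prime ∧ (Fintype.card F % 8 = 3 ∨ Fintype.card F % 8 = 5) ∧
    Nonempty (M ≃* Equiv.Perm (Fin 4)) ∧
    (Fintype.card F % 10 ≠ 1 → Fintype.card F % 10 ≠ 9 → IsCoatom (M.comap (jj (F := F))))) ∨
  (∃ (F₀ : Type) (_ : Field F₀) (_ : Fintype F₀) (r : ℕ), r.Prime ∧ Odd r ∧
    Fintype.card F = Fintype.card F₀ ^ r ∧
    Nonempty (M ≃* Matrix.ProjGenLinGroup (Fin 2) F₀) ∧ IsCoatom (M.comap (jj (F := F))))

omit [Fintype F] in
theorem isCoatom_comap_of_cjM (e : GL (Fin 2) F) (M : Subgroup (Matrix.ProjGenLinGroup (Fin 2) F))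
    (h : IsCoatom ((cjM e M).comap (jj (F := F)))) : IsCoatom (M.comap (jj (F := F))) := by
  rw [comap_cjM] at h
  have h2 := Cfsg.Agent.Lib.Helper50_MxMain.isCoatom_map_equiv (gcj e).symm _ h
  have h3 : ((M.comap (jj (F := F))).map (gcj e).toMonoidHom).map (gcj e).symm.toMonoidHom =
      M.comap (jj (F := F)) := by
    rw [Subgroup.map_map]
    have : (gcj e).symm.toMonoidHom.comp (gcj e).toMonoidHom = MonoidHom.id _ := by
      apply MonoidHom.ext
      intro x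
      exact (gcj e).symm_apply_apply x
    rw [this, Subgroup.map_id]
  rwa [h3] at h2

/-- the conclusion is invariant under conjugation -/
theorem concl_of_cjM (e : GL (Fin 2) F) (M : Subgroup (Matrix.ProjGenLinGroup (Fin 2) F))
    (h : Concl (cjM e M)) : Concl M := by
  have hc : Nat.card M = Nat.card (cjM e M) := Nat.card_congr (cjIso e M).toEquiv
  rcases h with ⟨h1, h2⟩ | ⟨h0, ⟨f⟩, h2⟩ | ⟨⟨f⟩, h2⟩ | ⟨hp, h8, ⟨f⟩, h2⟩ |
    ⟨F₀, i1, i2, r, hr, hro, hF, ⟨f⟩, h2⟩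
  · left
    exact ⟨hc.trans h1, isCoatom_comap_of_cjM e M h2⟩
  · right; left
    exact ⟨h0, ⟨(cjIso e M).trans f⟩, fun a b c => isCoatom_comap_of_cjM e M (h2 a b c)⟩
  · right; right; left
    exact ⟨⟨(cjIso e M).trans f⟩, fun a b => isCoatom_comap_of_cjM e M (h2 a b)⟩
  · right; right; right; left
    exact ⟨hp, h8, ⟨(cjIso e M).trans f⟩, fun a b => isCoatom_comap_of_cjM e M (h2 a b)⟩
  · right; right; right; right
    exact ⟨F₀, i1, i2, r, hr, hro, hF, ⟨(cjIso e M).trans f⟩, isCoatom_comap_of_cjM e M h2⟩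

end concl

end Cfsg.Agent.Lib.Helper50_PgConj
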