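import Mathlib
import Cfsg.Agent.Lib.Helper50_PgConj
import Cfsg.Agent.Lib.Helper50_PgBasic
import Cfsg.Agent.Lib.Helper50_PgRigid
import Cfsg.Agent.Lib.Helper50_MxRigid
import Cfsg.Agent.Lib.Helper50_MxBasic
import Cfsg.Agent.Lib.Helper50_SL2Rep
import Cfsg.Agent.Lib.Helper50_SL2Mat
import Cfsg.Agent.Lib.Helper50_SL2Dickson
import Cfsg.Agent.Lib.Helper50_DkOrders

/-!
# The Borel case for maximal subgroups of `PGL(2,q)` (helper50)
-/

set_option autoImplicit false

namespace Cfsg.Agent.Lib.Helper50_PgBorel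

open Matrix Cfsg.Agent.Lib.Helper50_SL2Mat Cfsg.Agent.Lib.Helper50_MxRigid
  Cfsg.Agent.Lib.Helper50_MxBasic Cfsg.Agent.Lib.Helper50_PgBasic
  Cfsg.Agent.Lib.Helper50_PgRigid Cfsg.Agent.Lib.Helper50_PgConj
  Cfsg.Agent.Lib.Helper50_SL2Rep
open scoped MatrixGroups

variable {F : Type*} [Field F]

theorem mid_eq {G : Type*} [Group G] {g a w b : G} (h : g = a * w * b) :
    w = a⁻¹ * g * b⁻¹ := by
  subst h; group

/-- the Weyl element with lower left entry `c` -/
def wc (c : F) (hc : c ≠ 0) : SL(2, F) :=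
  mk 0 (-c⁻¹) c 0 (by rw [zero_mul, zero_sub, neg_mul, neg_neg, inv_mul_cancel₀ hc])

theorem wc00 (c : F) (hc : c ≠ 0) : (wc c hc) 0 0 = 0 := rfl
theorem wc01 (c : F) (hc : c ≠ 0) : (wc c hc) 0 1 = -c⁻¹ := rfl
theorem wc10 (c : F) (hc : c ≠ 0) : (wc c hc) 1 0 = c := rfl
theorem wc11 (c : F) (hc : c ≠ 0) : (wc c hc) 1 1 = 0 := rfl

set_option linter.unusedSimpArgs false in
/-- the Bruhat factorisation of an element with nonzero lower left entry -/
theorem bruhat (g : SL(2, F)) (hc : g 1 0 ≠ 0) :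
    g = tU (g 0 0 / g 1 0) * wc (g 1 0) hc * tU (g 1 1 / g 1 0) := by
  have hd := det1 g
  apply ext4
  · simp only [mul00, mul01, mul10, mul11, wc00, wc01, wc10, wc11, tU00, tU01, tU10, tU11]
    field_simp
    ring
  · simp only [mul00, mul01, mul10, mul11, wc00, wc01, wc10, wc11, tU00, tU01, tU10, tU11]
    field_simp
    linear_combination (-1 : F) * hd
  · simp only [mul00, mul01, mul10, mul11, wc00, wc01, wc10, wc11, tU00, tU01, tU10, tU11]
    ring
  · simp only [mul00, mul01, mul10, mul11, wc00, wc01, wc10, wc11, tU00, tU01, tU10, tU11]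
    field_simp
    ring

theorem tU_mem_Bor (x : F) : tU x ∈ (Bor : Subgroup SL(2, F)) := by
  show (tU x) 1 0 = 0
  exact tU10 x

set_option linter.unusedSimpArgs false in
/-- **The Borel subgroup of `SL(2,F)` is maximal.** -/
theorem isCoatom_Bor : IsCoatom (Bor : Subgroup SL(2, F)) := by
  constructor
  · intro h
    have : tL (1 : F) ∈ (Bor : Subgroup SL(2, F)) := by rw [h]; exact Subgroup.mem_top _
    have h10 : (tL (1 : F)) 1 0 = 0 := this
    rw [tL10] at h10
    exact one_ne_zero h10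
  · intro H hH
    obtain ⟨g, hgH, hgB⟩ := SetLike.exists_of_lt hH
    have hc : g 1 0 ≠ 0 := hgB
    -- the Weyl element `w_c` lies in `H`
    have hw : wc (g 1 0) hc ∈ H := by
      have e := bruhat g hc
      have e' : wc (g 1 0) hc =
          (tU (g 0 0 / g 1 0))⁻¹ * g * (tU (g 1 1 / g 1 0))⁻¹ := by
        exact mid_eq e
      rw [e']
      exact H.mul_mem (H.mul_mem (H.inv_mem (hH.le (tU_mem_Bor _))) hgH)
        (H.inv_mem (hH.le (tU_mem_Bor _)))
    rw [eq_top_iff]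
    intro x _
    by_cases hx : x 1 0 = 0
    · exact hH.le hx
    · have hdd : g 1 0 / x 1 0 * (x 1 0 / g 1 0) - 0 * 0 = 1 := by
        field_simp
        ring
      have hd : mk (g 1 0 / x 1 0) 0 0 (x 1 0 / g 1 0) hdd ∈ (Bor : Subgroup SL(2, F)) := by
        show (mk (g 1 0 / x 1 0) 0 0 (x 1 0 / g 1 0) hdd : SL(2, F)) 1 0 = 0
        rfl
      have hw' : wc (x 1 0) hx = mk (g 1 0 / x 1 0) 0 0 (x 1 0 / g 1 0) hdd * wc (g 1 0) hc := by
        apply ext4
        · simp only [mul00, mk00, mk01, mk10, mk11, wc00, wc01, wc10, wc11]; ring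
        · simp only [mul01, mk00, mk01, mk10, mk11, wc00, wc01, wc10, wc11]; field_simp; ring
        · simp only [mul10, mk00, mk01, mk10, mk11, wc00, wc01, wc10, wc11]; field_simp; ring
        · simp only [mul11, mk00, mk01, mk10, mk11, wc00, wc01, wc10, wc11]; ring
      have hw'H : wc (x 1 0) hx ∈ H := by
        rw [hw']
        exact H.mul_mem (hH.le hd) hw
      rw [bruhat x hx]
      exact H.mul_mem (H.mul_mem (hH.le (tU_mem_Bor _)) hw'H) (hH.le (tU_mem_Bor _))

/-- an element of `p`-power order of a group with a unique Sylow `p`-subgroup lies in it -/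
theorem mem_of_subsingleton_sylow (p : ℕ) {G : Type*} [Group G] [Finite G]
    [Subsingleton (Sylow p G)]
    (P : Sylow p G) (y : G) (k : ℕ) (hy : y ^ p ^ k = 1) : y ∈ (P : Subgroup G) := by
  have hz : IsPGroup p (Subgroup.zpowers y) := by
    intro z
    obtain ⟨z, hz⟩ := z
    obtain ⟨j, rfl⟩ := Subgroup.mem_zpowers_iff.1 hz
    refine ⟨k, ?_⟩
    apply Subtype.ext
    show (y ^ j) ^ p ^ k = 1
    rw [← zpow_natCast, ← _root_.zpow_mul, mul_comm, _root_.zpow_mul, zpow_natCast, hy, _root_.one_zpow]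
  obtain ⟨Q, hQ⟩ := hz.exists_le_sylow
  rw [Subsingleton.elim P Q]
  exact hQ (Subgroup.mem_zpowers y)

section finite

variable [Fintype F] (p : ℕ) [Fact p.Prime] [CharP F p]

/-- `GL(2,F)`-version of the conjugation into the Borel subgroup -/
theorem exists_conj_lower_zero_gl (P : Subgroup SL(2, F)) (hP : IsPGroup p P) (hP1 : P ≠ ⊥) :
    ∃ g : SL(2, F), ∀ e : GL (Fin 2) F, (∀ x ∈ P, gcj e x ∈ P) →
      ((Matrix.SpecialLinearGroup.toGL g)⁻¹ * e * Matrix.SpecialLinearGroup.toGL g) 1 0 = 0 := by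
  obtain ⟨g, hg⟩ := Cfsg.Agent.Lib.Helper50_SL2Dickson.exists_conj_of_isPGroup p P hP
  obtain ⟨x₀, hx₀, hx₀1⟩ : ∃ x ∈ P, x ≠ 1 := by
    by_contra h
    push Not at h
    exact hP1 ((Subgroup.eq_bot_iff_forall P).2 h)
  obtain ⟨b₀, hb₀⟩ := hg x₀ hx₀
  have hb₀0 : b₀ ≠ 0 := by
    rintro rfl
    rw [tU_zero] at hb₀
    apply hx₀1
    calc x₀ = g * (g⁻¹ * x₀ * g) * g⁻¹ := by group
      _ = 1 := by rw [hb₀]; group
  refine ⟨g, fun e he => ?_⟩
  obtain ⟨b₁, hb₁⟩ := hg _ (he x₀ hx₀)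
  apply lower_zero_of_gcj hb₀0 (b' := b₁)
  rw [gcj_mul, gcj_mul, gcj_toGL, ← hb₀]
  have e1 : g * (g⁻¹ * x₀ * g) * g⁻¹ = x₀ := by group
  rw [e1, ← map_inv, gcj_toGL, inv_inv]
  exact hb₁

/-- **The Borel case.** -/
theorem caseB1 (hp2 : p ≠ 2) (M : Subgroup (Matrix.ProjGenLinGroup (Fin 2) F)) (hM : IsCoatom M)
    (hML : ¬ LL ≤ M) (hone : Nat.card (Sylow p ↥(M.comap (jj (F := F)))) = 1)
    (hdvd : p ∣ Nat.card ↥(M.comap (jj (F := F)))) : Concl M := by
  classical
  have h2 : (2 : F) ≠ 0 := Cfsg.Agent.Lib.Helper50_DkOdd.two_ne_zero_of_char p hp2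
  set K := M.comap (jj (F := F)) with hK
  have hsub : Subsingleton (Sylow p K) := (Nat.card_eq_one_iff_unique.1 hone).1
  obtain ⟨P⟩ : Nonempty (Sylow p K) := inferInstance
  have hPne : (P : Subgroup K) ≠ ⊥ := P.ne_bot_of_dvd_card hdvd
  set P' : Subgroup SL(2, F) := (P : Subgroup K).map K.subtype with hP'
  have hP'p : IsPGroup p P' := P.isPGroup'.map K.subtype
  have hP'1 : P' ≠ ⊥ := by
    intro h
    apply hPne
    rw [Subgroup.eq_bot_iff_forall] at h ⊢
    intro x hx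
    have := h _ (Subgroup.mem_map_of_mem K.subtype hx)
    exact Subtype.ext this
  obtain ⟨g, hg⟩ := exists_conj_lower_zero_gl p P' hP'p hP'1
  set e0 : GL (Fin 2) F := (Matrix.SpecialLinearGroup.toGL g)⁻¹ with he0
  apply concl_of_cjM e0 M
  set M' := cjM e0 M with hM'
  have hM'co : IsCoatom M' := isCoatom_cjM e0 M hM
  have hM'L : ¬ LL ≤ M' := not_le_cjM e0 M hML
  have hle : M' ≤ BorP := by
    intro x hx
    rw [hM', mem_cjM] at hx
    obtain ⟨e, rfl⟩ := Matrix.ProjGenLinGroup.mk_surjective x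
    rw [mk_mem_BorP_iff]
    -- `e0⁻¹ * e * e0` lies in `M`
    set e1 : GL (Fin 2) F := e0⁻¹ * e * e0 with he1
    have he1M : Matrix.ProjGenLinGroup.mk e1 ∈ M := by
      rw [he1, map_mul, map_mul, map_inv]
      exact hx
    have hstab : ∀ x ∈ P', gcj e1 x ∈ P' := by
      rintro _ ⟨y, hy, rfl⟩
      have hyK : gcj e1 (y : SL(2, F)) ∈ K := gcj_mem_comap M e1 he1M _ y.2
      obtain ⟨k, hk⟩ := (P.isPGroup' ⟨y, hy⟩)
      have hk' : y ^ p ^ k = 1 := by
        have := congrArg Subtype.val hk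
        exact this
      have hpow : (⟨gcj e1 (y : SL(2, F)), hyK⟩ : K) ^ p ^ k = 1 := by
        apply Subtype.ext
        show (gcj e1 (y : SL(2, F))) ^ p ^ k = 1
        rw [← map_pow]
        have : ((y : K) : SL(2, F)) ^ p ^ k = 1 := by
          have := congrArg Subtype.val hk'
          exact this
        rw [this, map_one]
      have := mem_of_subsingleton_sylow p P _ k hpow
      exact ⟨_, this, rfl⟩
    have := hg e1 hstab
    have e2 : (Matrix.SpecialLinearGroup.toGL g)⁻¹ * e1 * Matrix.SpecialLinearGroup.toGL g = e := by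
      rw [he1, he0]; group
    rwa [e2] at this
  have hMB : M' = BorP := eq_of_isCoatom_le hM'co hle BorP_ne_top
  have hK' : M'.comap (jj (F := F)) = Bor := by rw [hMB, comap_BorP]
  left
  refine ⟨?_, ?_⟩
  · rw [card_eq_two_mul M' h2 hM'co hM'L, ← card_comap_jj M' h2, hK',
      Cfsg.Agent.Lib.Helper50_DkOrders.card_Bor, mul_comm]
  · rw [hK']
    exact isCoatom_Bor

end finite

end Cfsg.Agent.Lib.Helper50_PgBorel
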