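import Mathlib
import Cfsg.Agent.Lib.Helper50_PgConj
import Cfsg.Agent.Lib.Helper50_PgBasic
import Cfsg.Agent.Lib.Helper50_MxBasic
import Cfsg.Agent.Lib.Helper50_MxDih
import Cfsg.Agent.Lib.Helper50_MxMain
import Cfsg.Agent.Lib.Helper50_DkPSL
import Cfsg.Agent.Lib.Helper50_DkOrders
import Cfsg.Agent.Lib.Helper50_DkMax
import Cfsg.Agent.Lib.Helper50_DkMaxMinus
import Cfsg.Agent.Lib.Helper42_SL2Class2

/-!
# The dihedral case for maximal subgroups of `PGL(2,q)` (helper50)
-/

set_option autoImplicit false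

namespace Cfsg.Agent.Lib.Helper50_PgDih

open Subgroup Matrix Cfsg.Agent.Lib.Helper50_SL2Mat Cfsg.Agent.Lib.Helper50_DkPSL
  Cfsg.Agent.Lib.Helper50_DkOrders Cfsg.Agent.Lib.Helper50_MxBasic
  Cfsg.Agent.Lib.Helper50_PgBasic Cfsg.Agent.Lib.Helper50_PgConj
  Cfsg.Agent.Lib.Helper50_MxDih
open scoped MatrixGroups

variable {F : Type*} [Field F]

/-- the embedding `PSL(2,F) → PGL(2,F)` -/
abbrev TT : PSL(2, F) →* Matrix.ProjGenLinGroup (Fin 2) F :=
  Matrix.ProjectiveSpecialLinearGroup.toPGL

theorem TT_injective : Function.Injective (TT (F := F)) :=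
  Matrix.ProjectiveSpecialLinearGroup.toPGL_injective

theorem TT_mem_LL (x : PSL(2, F)) : TT x ∈ LL (F := F) := by
  obtain ⟨g, rfl⟩ := proj_surjective x
  exact ⟨g, rfl⟩

theorem mem_LL_iff (y : Matrix.ProjGenLinGroup (Fin 2) F) :
    y ∈ LL (F := F) ↔ ∃ x : PSL(2, F), TT x = y := by
  constructor
  · rintro ⟨g, rfl⟩
    exact ⟨proj g, rfl⟩
  · rintro ⟨x, rfl⟩
    exact TT_mem_LL x

theorem mem_H0_iff (M : Subgroup (Matrix.ProjGenLinGroup (Fin 2) F)) (x : PSL(2, F)) :
    x ∈ (M.comap (jj (F := F))).map proj ↔ TT x ∈ M := by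
  constructor
  · rintro ⟨k, hk, rfl⟩
    exact hk
  · intro h
    obtain ⟨g, rfl⟩ := proj_surjective x
    exact ⟨g, h, rfl⟩

theorem comap_H0 (M : Subgroup (Matrix.ProjGenLinGroup (Fin 2) F)) :
    ((M.comap (jj (F := F))).map proj).comap proj = M.comap (jj (F := F)) := by
  ext x
  rw [Subgroup.mem_comap, mem_H0_iff]
  rfl

section finite

variable [Fintype F]

/-- the order of a cyclic self-centralising subgroup of `PSL(2,q)` -/
theorem order_of_cent (h2 : (2 : F) ≠ 0) (hq5 : 5 ≤ Fintype.card F) (a : PSL(2, F)) {k : ℕ}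
    (hk3 : 3 ≤ k) (hkle : 2 * k ≤ Fintype.card F + 1)
    (hcardC : Nat.card (centralizer {a}) = k) (hMcard : 2 * k ≤ Nat.card PSL(2, F)) :
    2 * k = Fintype.card F + 1 ∨ 2 * k = Fintype.card F - 1 := by
  classical
  obtain ⟨g, hg⟩ := proj_surjective a
  have hga : Cfsg.Agent.Lib.Helper42_SL2Class.proj g = a := hg
  have hidx := (centralizer {a}).card_mul_index
  rw [hcardC] at hidx
  obtain ⟨m, hm⟩ : ∃ m, Fintype.card F = m + 1 := ⟨Fintype.card F - 1, by omega⟩
  have hG := card_PSL2_succ h2 m hm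
  have h4 : (0 : F) ^ 2 ≠ 4 := by
    intro h
    apply h2
    have : (2 : F) * 2 = 0 := by rw [← sub_eq_zero] at h; linear_combination -h
    rcases mul_eq_zero.1 this with h | h <;> exact h
  have hR := Cfsg.Agent.Lib.Helper42_SL2Class.R_zero_or_two (0 : F) h4
  have hc := Cfsg.Agent.Lib.Helper42_SL2Class.index_cases_odd h2 g
  rw [hga, hm] at hc
  have e1 : (m + 1) ^ 2 - 1 = m * (m + 2) := by
    have : (m + 1) ^ 2 = m * (m + 2) + 1 := by ring
    rw [this, Nat.add_sub_cancel]
  rw [e1, Nat.add_sub_cancel] at hc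
  have := arith m k _ _ _ hk3 (by omega) hidx hG hMcard hR hc (by omega)
  rcases this with h | h
  · left; omega
  · right; omega

/-- **The order of the dihedral part.** -/
theorem dih_case (h2 : (2 : F) ≠ 0) (h5 : 5 ≤ Fintype.card F)
    (M : Subgroup (Matrix.ProjGenLinGroup (Fin 2) F)) (hM : IsCoatom M) {k : ℕ} (hk3 : 3 ≤ k)
    (hkle : 2 * k ≤ Fintype.card F + 1)
    (f₀ : ↥((M.comap (jj (F := F))).map proj) ≃* DihedralGroup k) :
    2 * k = Fintype.card F + 1 ∨ 2 * k = Fintype.card F - 1 := by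
  classical
  have h4 : 4 ≤ Fintype.card F := by omega
  have : NeZero k := ⟨by omega⟩
  set H₀ := (M.comap (jj (F := F))).map proj with hH₀
  set a' : H₀ := f₀.symm (DihedralGroup.r 1) with ha'
  set a : PSL(2, F) := (a' : PSL(2, F)) with ha
  have hfa : f₀ a' = DihedralGroup.r 1 := by rw [ha', MulEquiv.apply_symm_apply]
  have hord : orderOf a = k := by
    rw [ha, Subgroup.orderOf_coe, ← MulEquiv.orderOf_eq f₀, hfa, DihedralGroup.orderOf_r_one]
  have haH : a ∈ H₀ := a'.2
  set b := TT a with hb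
  have hbM : b ∈ M := (mem_H0_iff M a).1 haH
  have hordb : orderOf b = k := by rw [hb, orderOf_injective TT TT_injective, hord]
  -- elements of `H₀` of order `k` are rotations
  have hrot : ∀ y ∈ H₀, orderOf y = k → y ∈ zpowers a := by
    intro y hy hyk
    rcases hm : f₀ ⟨y, hy⟩ with i | i
    · have hi : f₀ ⟨y, hy⟩ = (DihedralGroup.r 1) ^ i.val := by
        rw [hm, DihedralGroup.r_one_pow, ZMod.natCast_zmod_val]
      have hx2 : (⟨y, hy⟩ : H₀) = a' ^ i.val := by
        apply f₀.injective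
        rw [hi, map_pow, hfa]
      have : y = a ^ i.val := congrArg Subtype.val hx2
      rw [this]
      exact pow_mem (mem_zpowers a) _
    · exfalso
      have h1 : orderOf (f₀ ⟨y, hy⟩) = k := by
        rw [MulEquiv.orderOf_eq, Subgroup.orderOf_mk, hyk]
      rw [hm, DihedralGroup.orderOf_sr] at h1
      omega
  -- elements of `H₀` commuting with `a` are rotations
  have hcomm : ∀ y ∈ H₀, y * a = a * y → y ∈ zpowers a := by
    intro y hy hya
    have hfx : f₀ ⟨y, hy⟩ * DihedralGroup.r 1 = DihedralGroup.r 1 * f₀ ⟨y, hy⟩ := by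
      rw [← hfa, ← map_mul, ← map_mul]
      congr 1
      exact Subtype.ext hya
    rcases hm : f₀ ⟨y, hy⟩ with i | i
    · have hi : f₀ ⟨y, hy⟩ = (DihedralGroup.r 1) ^ i.val := by
        rw [hm, DihedralGroup.r_one_pow, ZMod.natCast_zmod_val]
      have hx2 : (⟨y, hy⟩ : H₀) = a' ^ i.val := by
        apply f₀.injective
        rw [hi, map_pow, hfa]
      have : y = a ^ i.val := congrArg Subtype.val hx2
      rw [this]
      exact pow_mem (mem_zpowers a) _
    · exfalso
      rw [hm, DihedralGroup.sr_mul_r, DihedralGroup.r_mul_sr] at hfx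
      have h1 := DihedralGroup.sr.inj hfx
      have h2' : (2 : ZMod k) = 0 := by linear_combination h1
      have h3 : ((2 : ℕ) : ZMod k) = 0 := by exact_mod_cast h2'
      rw [ZMod.natCast_eq_zero_iff] at h3
      have := Nat.le_of_dvd (by norm_num) h3
      omega
  -- `M` normalises `⟨b⟩`
  have hstab : ∀ m ∈ M, ∀ y ∈ zpowers b, m * y * m⁻¹ ∈ zpowers b := by
    intro m hm y hy
    obtain ⟨j, rfl⟩ := mem_zpowers_iff.1 hy
    have e1 : m * b ^ j * m⁻¹ = (m * b * m⁻¹) ^ j := by
      have := map_zpow (MulAut.conj m).toMonoidHom b j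
      simp only [MulEquiv.toMonoidHom_eq_coe, MonoidHom.coe_coe, MulAut.conj_apply] at this
      exact this
    rw [e1]
    apply zpow_mem
    have hLL : m * b * m⁻¹ ∈ LL (F := F) := LL_normal.conj_mem b (TT_mem_LL a) m
    obtain ⟨y, hy⟩ := (mem_LL_iff _).1 hLL
    have hyM : TT y ∈ M := by
      rw [hy]
      exact M.mul_mem (M.mul_mem hm hbM) (M.inv_mem hm)
    have hyH : y ∈ H₀ := (mem_H0_iff M y).2 hyM
    have hyk : orderOf y = k := by
      rw [← orderOf_injective TT TT_injective y, hy, ← hordb]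
      have := orderOf_injective (MulAut.conj m).toMonoidHom (MulAut.conj m).injective b
      simpa using this
    obtain ⟨i, rfl⟩ := mem_zpowers_iff.1 (hrot y hyH hyk)
    rw [← hy, map_zpow]
    exact zpow_mem (mem_zpowers _) _
  have hMN : M ≤ normalizer ((zpowers b : Subgroup _) : Set (Matrix.ProjGenLinGroup (Fin 2) F)) := by
    intro m hm
    rw [mem_normalizer_iff]
    intro y
    constructor
    · exact hstab m hm y
    · intro h
      have := hstab m⁻¹ (inv_mem hm) _ h
      simpa [mul_assoc] using this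
  have hb1 : b ≠ 1 := by
    intro h
    rw [h, orderOf_one] at hordb
    omega
  have hC1 : zpowers b ≠ ⊥ := by
    rw [Ne, zpowers_eq_bot]; exact hb1
  have hCL : zpowers b ≤ LL (F := F) := zpowers_le.2 (TT_mem_LL a)
  have hq2 : 25 ≤ Fintype.card F ^ 2 := by
    calc 25 = 5 ^ 2 := by norm_num
      _ ≤ Fintype.card F ^ 2 := Nat.pow_le_pow_left h5 2
  have hbig : 24 * Fintype.card F ≤ Fintype.card F * (Fintype.card F ^ 2 - 1) := by
    rw [mul_comm]
    exact Nat.mul_le_mul_left _ (by omega)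
  have hCne : zpowers b ≠ LL (F := F) := by
    intro h
    have hc := card_LL (F := F) h2
    rw [← h, Nat.card_zpowers, hordb] at hc
    omega
  have hNM := normalizer_eq M h4 hM _ hCL hC1 hCne hMN
  have hcent : centralizer {a} = zpowers a := by
    apply le_antisymm
    · intro x hx
      have hxa : x * a = a * x := mem_centralizer_singleton_iff.1 hx
      have hxb : TT x * b = b * TT x := by rw [hb, ← map_mul, ← map_mul, hxa]
      have hxM : TT x ∈ M := by
        rw [← hNM, mem_normalizer_iff]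
        intro y
        have hcomm' : ∀ y ∈ zpowers b, TT x * y * (TT x)⁻¹ = y := by
          intro y hy
          obtain ⟨j, rfl⟩ := mem_zpowers_iff.1 hy
          have : Commute (TT x) (b ^ j) := (Commute.zpow_right hxb j)
          rw [this.eq, mul_inv_cancel_right]
        constructor
        · intro hy
          rw [hcomm' y hy]; exact hy
        · intro hy
          have hc := hcomm' _ hy
          have hx' : (TT x)⁻¹ * (TT x * y * (TT x)⁻¹) * TT x = TT x * y * (TT x)⁻¹ := by
            have : (TT x)⁻¹ * (TT x * y * (TT x)⁻¹) * TT x =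
                (TT x)⁻¹ * (TT x * (TT x * y * (TT x)⁻¹) * (TT x)⁻¹) * TT x := by rw [hc]
            rw [this]; group
          have e : y = (TT x)⁻¹ * (TT x * y * (TT x)⁻¹) * TT x := by group
          rw [e, hx']; exact hy
      exact hcomm x ((mem_H0_iff M x).2 hxM) hxa
    · rw [zpowers_le]
      exact mem_centralizer_singleton_iff.2 rfl
  have hcardC : Nat.card (centralizer {a}) = k := by rw [hcent, Nat.card_zpowers, hord]
  have hMcard : 2 * k ≤ Nat.card PSL(2, F) := by
    have := card_PSL2_odd (F := F) h2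
    omega
  exact order_of_cent h2 h5 a hk3 hkle hcardC hMcard

end finite

end Cfsg.Agent.Lib.Helper50_PgDih
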