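import Mathlib
import Cfsg.Agent.Lib.Helper50_MxMain
import Cfsg.Agent.Lib.Helper41_Subfield

/-!
# Isomorphism types of `p'`-subgroups of `PGL(2,q)` via `PGL(2,q) ≤ PSL(2,q²)` (helper50)
-/

set_option autoImplicit false

namespace Cfsg.Agent.Lib.Helper50_PgEmbed

open Matrix Cfsg.Agent.Lib.Helper50_SL2Mat Cfsg.Agent.Lib.Helper50_DkPSL
  Cfsg.Agent.Lib.Helper50_DkStruct Cfsg.Agent.Lib.Helper50_MxMain
open scoped MatrixGroups

variable {F : Type*} [Field F] [Fintype F] (p : ℕ) [Fact p.Prime] [CharP F p]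

/-- **subgroups of `PGL(2,q)` of order prime to `p`** -/
theorem pgl_coprime (hp2 : p ≠ 2) (M : Subgroup (Matrix.ProjGenLinGroup (Fin 2) F))
    (hcop : ¬ p ∣ Nat.card M) :
    IsCyclic M ∨ (∃ k : ℕ, Nonempty (M ≃* DihedralGroup k)) ∨
    (Nat.card M = 12 ∧ Nonempty (M ≃* alternatingGroup (Fin 4))) ∨
    (Nat.card M = 24 ∧ Nonempty (M ≃* Equiv.Perm (Fin 4))) ∨
    (Nat.card M = 60 ∧ Nonempty (M ≃* alternatingGroup (Fin 5))) := by
  classical
  have hpr := (Fact.out : p.Prime)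
  obtain ⟨n, -, hn⟩ := FiniteField.card F p
  have hn2 : 2 * (n : ℕ) ≠ 0 := by have := n.pos; omega
  have : Fintype (GaloisField p (2 * (n : ℕ))) := Fintype.ofFinite _
  have hc2 : Fintype.card (GaloisField p (2 * (n : ℕ))) = Fintype.card F ^ 2 := by
    rw [← Nat.card_eq_fintype_card, GaloisField.card p _ hn2, hn, ← pow_mul, mul_comm]
  obtain ⟨ι⟩ := Cfsg.Agent.Lib.Helper41_Subfield.exists_ringHom (K := F)
    (F := GaloisField p (2 * (n : ℕ))) 2 hc2.symm
  have hodd2 : Odd (Fintype.card (GaloisField p (2 * (n : ℕ)))) := by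
    rw [hc2, hn]
    apply Odd.pow
    apply Odd.pow
    exact hpr.odd_of_ne_two hp2
  have hsq := Cfsg.Agent.Lib.Helper41_Subfield.isSquare_of_even ι 1
    (by rw [mul_one]; exact hc2.symm) hodd2
  obtain ⟨P, ⟨ε⟩⟩ := Cfsg.Agent.Lib.Helper41_Subfield.exists_pgl_embed ι hsq
  set M1 : Subgroup P := M.comap ε.toMonoidHom with hM1
  have e1 : M1 ≃* M :=
    (ε.subgroupMap M1).trans (MulEquiv.subgroupCongr
      (Subgroup.map_comap_eq_self_of_surjective ε.surjective M))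
  set M2 : Subgroup (PSL(2, GaloisField p (2 * (n : ℕ)))) := M1.map P.subtype with hM2
  have e2 : M1 ≃* M2 := M1.equivMapOfInjective _ P.subtype_injective
  have e3 : M ≃* M2 := e1.symm.trans e2
  set Kt := M2.comap proj with hKt
  have h2' : (2 : GaloisField p (2 * (n : ℕ))) ≠ 0 := Cfsg.Agent.Lib.Helper50_DkOdd.two_ne_zero_of_char p hp2
  have hcardK : Nat.card Kt = 2 * Nat.card M := by
    rw [card_map_proj h2' Kt (negOne_mem_comap M2), map_comap_proj, Nat.card_congr e3.toEquiv]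
  have hcop' : ¬ p ∣ Nat.card Kt := by
    rw [hcardK]
    intro h
    rcases hpr.dvd_mul.1 h with h | h
    · exact hp2 ((Nat.prime_dvd_prime_iff_eq hpr Nat.prime_two).1 h)
    · exact hcop h
  have e4 : M ≃* ↥(Kt.map proj) :=
    e3.trans (MulEquiv.subgroupCongr (map_comap_proj M2).symm)
  rcases coprime_case' p hp2 Kt hcop' with ⟨k, -, hcyc | ⟨⟨f⟩⟩⟩ | ⟨hc, ⟨f⟩⟩ | ⟨hc, ⟨f⟩⟩ | ⟨hc, ⟨f⟩⟩
  · left
    have := hcyc.1
    exact isCyclic_of_surjective e4.symm e4.symm.surjective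
  · right; left
    exact ⟨k, ⟨e4.trans f⟩⟩
  · right; right; left
    exact ⟨by omega, ⟨e4.trans f⟩⟩
  · right; right; right; left
    exact ⟨by omega, ⟨e4.trans f⟩⟩
  · right; right; right; right
    exact ⟨by omega, ⟨e4.trans f⟩⟩

end Cfsg.Agent.Lib.Helper50_PgEmbed
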