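import Mathlib
import Cfsg.Agent.Lib.Helper50_PgConj
import Cfsg.Agent.Lib.Helper50_PgBasic
import Cfsg.Agent.Lib.Helper50_PgRigid
import Cfsg.Agent.Lib.Helper50_MxRigid
import Cfsg.Agent.Lib.Helper50_MxBasic
import Cfsg.Agent.Lib.Helper50_MxExc
import Cfsg.Agent.Lib.Helper50_MxSub
import Cfsg.Agent.Lib.Helper50_SL2Mat
import Cfsg.Agent.Lib.Helper50_DkOdd
import Cfsg.Agent.Lib.Helper51_SL2Sub
import Cfsg.Agent.Lib.Helper51_SL2SubIso
import Cfsg.Agent.Lib.Helper51_SL2SubMax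
import Cfsg.Agent.Lib.Helper51_SL2SubMax2
import Cfsg.Agent.Lib.Helper41_Subfield

/-!
# The subfield case for maximal subgroups of `PGL(2,q)` (helper50)
-/

set_option autoImplicit false

namespace Cfsg.Agent.Lib.Helper50_PgSub

open Matrix Cfsg.Agent.Lib.Helper50_SL2Mat Cfsg.Agent.Lib.Helper50_MxRigid
  Cfsg.Agent.Lib.Helper50_MxBasic Cfsg.Agent.Lib.Helper50_PgBasic
  Cfsg.Agent.Lib.Helper50_PgRigid Cfsg.Agent.Lib.Helper50_PgConj
  Cfsg.Agent.Lib.Helper50_MxExc Cfsg.Agent.Lib.Helper50_MxSub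
  Cfsg.Agent.Lib.Helper51_SL2Sub Cfsg.Agent.Lib.Helper51_SL2SubMax
  Cfsg.Agent.Lib.Helper51_SL2SubMax2 Cfsg.Agent.Lib.Helper51_SL2SubIso
open scoped MatrixGroups

variable {F : Type*} [Field F]

section general

variable {K : Type*} [Field K]

/-- the trace trick: an element of `N0 ι` with nonzero trace in the subfield lies in `S0 ι` -/
theorem mem_S0_of_mem_N0 (ι : K →+* F) (g : SL(2, F)) (hg : g ∈ N0 ι)
    (htr : tr g ∈ Set.range ι) (h0 : tr g ≠ 0) : g ∈ S0 ι := by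
  obtain ⟨a, ha0, -, hent⟩ := hg
  obtain ⟨_, ⟨t00, rfl⟩, e00⟩ := hent 0 0
  obtain ⟨_, ⟨t11, rfl⟩, e11⟩ := hent 1 1
  obtain ⟨τ, hτ⟩ := htr
  have htr' : tr g = a * ι (t00 + t11) := by
    show g 0 0 + g 1 1 = _
    rw [e00, e11, map_add]; ring
  have hs0 : ι (t00 + t11) ≠ 0 := by
    intro h
    rw [h, mul_zero] at htr'
    exact h0 htr'
  have ha : a = ι (τ / (t00 + t11)) := by
    rw [map_div₀, hτ, htr']
    field_simp
  rw [mem_S0_iff]
  intro i j
  obtain ⟨_, ⟨t, rfl⟩, e⟩ := hent i j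
  exact ⟨τ / (t00 + t11) * t, by rw [map_mul, ← ha, e]⟩

theorem map_wE (ι : K →+* F) :
    SpecialLinearGroup.map (n := Fin 2) ι (wE : SL(2, K)) = (wE : SL(2, F)) := by
  apply ext4 <;> simp

theorem S0_le_comap_PP (ι : K →+* F) : S0 ι ≤ (PP ι).comap (jj (F := F)) := by
  rintro _ ⟨g0, rfl⟩
  refine ⟨Matrix.GeneralLinearGroup.map ι (Matrix.SpecialLinearGroup.toGL g0),
    ⟨Matrix.SpecialLinearGroup.toGL g0, rfl⟩, ?_⟩
  show Matrix.ProjGenLinGroup.mk _ = Matrix.ProjGenLinGroup.mk _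
  congr 1
  apply Units.ext
  rfl

end general

section finite

variable [Fintype F] (p : ℕ) [Fact p.Prime] [CharP F p]

/-- **The subfield case.** -/
theorem caseA_good (hp2 : p ≠ 2) (hodd : Odd (Fintype.card F))
    (M : Subgroup (Matrix.ProjGenLinGroup (Fin 2) F)) (hM : IsCoatom M) (hML : ¬ LL ≤ M)
    (hU : tU 1 ∈ M.comap (jj (F := F))) (hL : tL 1 ∈ M.comap (jj (F := F)))
    (hG : Good (M.comap (jj (F := F)))) : Concl M := by
  classical
  have h2 : (2 : F) ≠ 0 := Cfsg.Agent.Lib.Helper50_DkOdd.two_ne_zero_of_char p hp2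
  set Kk := M.comap (jj (F := F)) with hKk
  obtain ⟨K₀, i1, i2, ⟨e⟩⟩ := Cfsg.Agent.Lib.Helper50_DkOdd.exists_type_zero_field ↥(subf hG)
  set ι₀ : K₀ →+* F := (subf hG).subtype.comp (e : K₀ →+* ↥(subf hG)) with hι₀
  have hrange : Set.range ι₀ = Set.range (subf hG).subtype := by
    ext x
    constructor
    · rintro ⟨y, rfl⟩
      exact ⟨e y, rfl⟩
    · rintro ⟨a, rfl⟩
      exact ⟨e.symm a, by simp [hι₀]⟩
  have hS0 : S0 ι₀ = S0 (subf hG).subtype := by
    ext g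
    rw [mem_S0_iff, mem_S0_iff, hrange]
  have hN0 : N0 ι₀ = N0 (subf hG).subtype := by
    ext g
    rw [mem_N0, mem_N0, hrange]
  have h1 : S0 ι₀ ≤ Kk := hS0 ▸ S0_le hG
  have h3 : Kk ≤ N0 ι₀ := hN0 ▸ le_N0 hG
  set n := @Module.finrank K₀ F _ _ ι₀.toAlgebra.toModule with hn
  have hm : Fintype.card K₀ ^ n = Fintype.card F := by
    let _ := ι₀.toAlgebra
    exact (Module.card_eq_pow_finrank (K := K₀) (V := F)).symm
  have hq0 : 1 < Fintype.card K₀ := Fintype.one_lt_card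
  have hF1 : 1 < Fintype.card F := Fintype.one_lt_card
  have hn0 : n ≠ 0 := by
    intro h
    rw [h, pow_zero] at hm
    omega
  have hq0odd : Odd (Fintype.card K₀) := by
    rw [← hm] at hodd
    exact (Nat.odd_pow_iff hn0).mp hodd
  have hι₀s : ¬ Function.Surjective ι₀ := by
    intro hs
    apply hML
    rintro _ ⟨g, rfl⟩
    have : g ∈ Kk := by
      apply h1
      rw [mem_S0_iff]
      intro i j
      exact hs (g i j)
    exact this
  have hn1 : n ≠ 1 := by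
    intro h
    rw [h, pow_one] at hm
    apply hι₀s
    exact ((Fintype.bijective_iff_injective_and_card ι₀).2 ⟨ι₀.injective, hm⟩).2
  -- elements of `M` normalise `K`, and move unipotent elements of `K` into `S0 ι₀`
  have hunip : ∀ e1 : GL (Fin 2) F, Matrix.ProjGenLinGroup.mk e1 ∈ M → ∀ u ∈ Kk, tr u = 2 →
      gcj e1 u ∈ S0 ι₀ := by
    intro e1 he1 u hu htr
    apply mem_S0_of_mem_N0 ι₀ _ (h3 (gcj_mem_comap M e1 he1 u hu))
    · rw [tr_gcj, htr]
      exact ⟨2, map_ofNat ι₀ 2⟩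
    · rw [tr_gcj, htr]
      exact h2
  have htrU : ∀ x : F, tr (tU x) = 2 := by
    intro x
    show (tU x) 0 0 + (tU x) 1 1 = 2
    rw [tU00, tU11]; norm_num
  have htrL : ∀ x : F, tr (tL x) = 2 := by
    intro x
    show (tL x) 0 0 + (tL x) 1 1 = 2
    rw [tL00, tL11]; norm_num
  have hLm : tL (-1 : F) ∈ Kk := by
    rw [← tL_inv]; exact Kk.inv_mem hL
  have hle : M ≤ PP ι₀ := by
    intro x hx
    obtain ⟨e1, rfl⟩ := Matrix.ProjGenLinGroup.mk_surjective x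
    have hY := hunip e1 hx (tU 1) hU (htrU 1)
    have hX : gcj e1 (wE : SL(2, F)) ∈ S0 ι₀ := by
      rw [wE_eq, map_mul, map_mul]
      exact (S0 ι₀).mul_mem ((S0 ι₀).mul_mem hY (hunip e1 hx _ hLm (htrL _))) hY
    obtain ⟨X0', hX0'⟩ := hX
    obtain ⟨Y0', hY0'⟩ := hY
    apply mem_PP_of_pair h2 ι₀ (wE : SL(2, K₀)) (tU 1) X0' Y0'
    · show (wE : SL(2, K₀)) 0 0 + (wE : SL(2, K₀)) 1 1 = 0
      rw [wE00, wE11]; ring
    · have t1 : tr (tU (1 : K₀)) = 2 := by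
        show (tU (1 : K₀)) 0 0 + (tU (1 : K₀)) 1 1 = 2
        rw [tU00, tU11]; norm_num
      have t2 : tr ((wE : SL(2, K₀)) * tU 1) = -1 := by
        show ((wE : SL(2, K₀)) * tU 1 : SL(2, K₀)) 0 0 + ((wE : SL(2, K₀)) * tU 1 : SL(2, K₀)) 1 1 = -1
        rw [mul00, mul11, wE00, wE01, wE10, wE11, tU00, tU10, tU01, tU11]; ring
      rw [t1, t2]
      intro h
      have : (1 : K₀) = 0 := by linear_combination h
      exact one_ne_zero this
    · rw [map_wE]; exact hX0'.symm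
    · rw [map_tU, map_one]; exact hY0'.symm
  have hMP : M = PP ι₀ := eq_of_isCoatom_le hM hle (PP_ne_top ι₀ hι₀s)
  -- the degree is odd
  have hod : Odd n := by
    rcases Nat.even_or_odd n with hev | hod
    · exfalso
      obtain ⟨j, hj⟩ := hev
      have hsq : ∀ a : K₀, IsSquare (ι₀ a) :=
        Cfsg.Agent.Lib.Helper41_Subfield.isSquare_of_even ι₀ j
          (by rw [two_mul, ← hj]; exact hm) hodd
      have hMLL : M ≤ LL := hMP ▸ PP_le_LL ι₀ hsq
      have := eq_of_isCoatom_le hM hMLL (LL_ne_top h2)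
      exact hML this.ge
    · exact hod
  have hK2 : ringChar K₀ ≠ 2 := ringChar_ne_two ι₀ h2
  have hSN : S0 ι₀ = N0 ι₀ := by
    by_contra hne
    have hsq := isSquare_of_ne ι₀ h2 hne
    obtain ⟨d, hd⟩ := FiniteField.exists_nonsquare hK2
    obtain ⟨a, ha⟩ := hsq d
    have : a ∈ Set.range ι₀ := sqrt_mem_of_odd ι₀ n hod hm hq0odd h2 ⟨d, ha⟩
    obtain ⟨c, rfl⟩ := this
    apply hd
    refine ⟨c, ?_⟩
    apply ι₀.injective
    rw [ha, map_mul]
  have hKS : Kk = S0 ι₀ := le_antisymm (h3.trans hSN.ge) h1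
  have hprime : n.Prime := by
    by_contra hnp
    obtain ⟨s, hsn, hs2, hslt⟩ := Nat.exists_dvd_of_not_prime2 (by omega) hnp
    obtain ⟨t, ht⟩ := hsn
    have ht2 : 2 ≤ t := by
      by_contra hlt
      push Not at hlt
      interval_cases t
      · omega
      · omega
    obtain ⟨K₁, _, _, hc1, ⟨ι₁⟩⟩ := exists_inter_field (F := F) K₀ s t (by omega)
      (by rw [← pow_mul, ← ht]; exact hm)
    have hsub : Set.range ι₀ ⊆ Set.range ι₁ := range_subset ι₀ ι₁ s hc1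
    have hι₁ : ¬ Function.Surjective ι₁ :=
      not_surjective_of_card ι₁ t ht2 (by rw [hc1, ← pow_mul, ← ht]; exact hm)
    have hM1 : M = PP ι₁ :=
      eq_of_isCoatom_le hM (hMP.le.trans (PP_mono ι₀ ι₁ hsub)) (PP_ne_top ι₁ hι₁)
    have hle : Fintype.card K₁ ≤ Fintype.card K₀ := by
      apply card_le_of_range_subset ι₀ ι₁
      intro y
      apply mem_range_of_tU_mem_N0 ι₀
      apply h3
      have := S0_le_comap_PP ι₁ (Cfsg.Agent.Lib.Helper50_MxSub.tU_mem_S0 ι₁ y)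
      rw [← hM1] at this
      exact this
    rw [hc1] at hle
    have : Fintype.card K₀ ^ 1 < Fintype.card K₀ ^ s := Nat.pow_lt_pow_right hq0 (by omega)
    rw [pow_one] at this
    omega
  have hn2 : n ≠ 2 := by
    rintro h
    rw [h] at hod
    exact absurd hod (by decide)
  right; right; right; right
  obtain ⟨f⟩ := PP_iso ι₀
  refine ⟨K₀, i1, i2, n, hprime, hod, hm.symm, ⟨(MulEquiv.subgroupCongr hMP).trans f⟩, ?_⟩
  show IsCoatom Kk
  rw [hKS]
  exact isCoatom_S0 ι₀ hp2 hprime hn2 hm.symm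

end finite

end Cfsg.Agent.Lib.Helper50_PgSub
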