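import Mathlib
import Cfsg.Agent.Lib.Helper50_PgConj
import Cfsg.Agent.Lib.Helper50_PgBasic
import Cfsg.Agent.Lib.Helper50_PgRigid
import Cfsg.Agent.Lib.Helper50_PgSub
import Cfsg.Agent.Lib.Helper50_MxRigid
import Cfsg.Agent.Lib.Helper50_MxBasic
import Cfsg.Agent.Lib.Helper50_MxLift
import Cfsg.Agent.Lib.Helper50_SL2Mat
import Cfsg.Agent.Lib.Helper50_DkOdd
import Cfsg.Agent.Lib.Helper50_DkGroups
import Cfsg.Agent.Lib.Helper50_DkPSL
import Cfsg.Agent.Lib.Helper51_SL2Sub
import Cfsg.Agent.Lib.Helper5_PSLCard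

/-!
# The non-`p`-closed case for maximal subgroups of `PGL(2,q)` (helper50)

The exceptional configuration `p = 3`, `K ≅ SL(2,5)` does not occur; otherwise `M ≅ PGL(2,q₀)`.
-/

set_option autoImplicit false

namespace Cfsg.Agent.Lib.Helper50_PgExc

open Matrix Cfsg.Agent.Lib.Helper50_SL2Mat Cfsg.Agent.Lib.Helper50_MxRigid
  Cfsg.Agent.Lib.Helper50_MxBasic Cfsg.Agent.Lib.Helper50_PgBasic
  Cfsg.Agent.Lib.Helper50_PgRigid Cfsg.Agent.Lib.Helper50_PgConj
  Cfsg.Agent.Lib.Helper50_DkPSL Cfsg.Agent.Lib.Helper50_MxLift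
open scoped MatrixGroups Pointwise

/-- Sylow conjugacy for subgroups of prime order -/
theorem conj_into_zpowers {G : Type*} [Group G] [Finite G] (p : ℕ) [Fact p.Prime] (x u : G)
    (hx : orderOf x = p) (hfac : (Nat.card G).factorization p = 1) (hu : u ^ p = 1) :
    ∃ k : G, k * u * k⁻¹ ∈ Subgroup.zpowers x := by
  have hcard : Nat.card (Subgroup.zpowers x) = p ^ (Nat.card G).factorization p := by
    rw [Nat.card_zpowers, hx, hfac, pow_one]
  set P : Sylow p G := Sylow.ofCard (Subgroup.zpowers x) hcard with hP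
  have hz : IsPGroup p (Subgroup.zpowers u) := by
    intro z
    obtain ⟨z, hz⟩ := z
    obtain ⟨j, rfl⟩ := Subgroup.mem_zpowers_iff.1 hz
    refine ⟨1, ?_⟩
    apply Subtype.ext
    show (u ^ j) ^ p ^ 1 = 1
    rw [pow_one, ← zpow_natCast, ← _root_.zpow_mul, mul_comm, _root_.zpow_mul, zpow_natCast, hu,
      _root_.one_zpow]
  obtain ⟨Q, hQ⟩ := hz.exists_le_sylow
  obtain ⟨k, hk⟩ := MulAction.exists_smul_eq G Q P
  refine ⟨k, ?_⟩
  have h1 : u ∈ (Q : Subgroup G) := hQ (Subgroup.mem_zpowers u)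
  have h2 : (MulAut.conj k) • u ∈ (MulAut.conj k) • (Q : Subgroup G) :=
    Subgroup.smul_mem_pointwise_smul _ _ _ h1
  rw [← Sylow.coe_subgroup_smul, hk] at h2
  exact h2

variable {F : Type*} [Field F] [Fintype F] (p : ℕ) [Fact p.Prime] [CharP F p]

/-- **The exceptional case does not occur.** -/
theorem caseA_exc (h3 : p = 3) (M : Subgroup (Matrix.ProjGenLinGroup (Fin 2) F)) (hM : IsCoatom M)
    (hML : ¬ LL ≤ M) (hU : tU 1 ∈ M.comap (jj (F := F)))
    (hc : Nat.card ↥(M.comap (jj (F := F))) = 120) : False := by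
  classical
  subst h3
  have h2 : (2 : F) ≠ 0 := Cfsg.Agent.Lib.Helper50_DkOdd.two_ne_zero_of_char 3 (by norm_num)
  have h3F : (3 : F) = 0 := by
    have := CharP.cast_eq_zero F 3
    exact_mod_cast this
  set K := M.comap (jj (F := F)) with hK
  have : Fact (Nat.Prime 5) := ⟨by norm_num⟩
  -- `-1` is a square
  obtain ⟨s, hs⟩ : ∃ s : F, s * s = -1 := by
    obtain ⟨z, hz⟩ := exists_prime_orderOf_dvd_card' (G := K) 5 (by rw [hc]; norm_num)
    set Z : SL(2, F) := (z : SL(2, F)) with hZ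
    have hz5 : Z ^ 5 = 1 := by
      have := pow_orderOf_eq_one z
      rw [hz] at this
      exact congrArg Subtype.val this
    have hZ1 : Z ≠ 1 := by
      intro h
      have : z = 1 := Subtype.ext h
      rw [this, orderOf_one] at hz
      norm_num at hz
    have hns : proj Z ≠ 1 := by
      intro h
      rw [proj_eq_one_iff] at h
      rcases h.eq_one_or with h | h
      · exact hZ1 h
      · have h10 : Z ^ 2 = 1 := by
          rw [h, pow_two]
          apply ext4 <;> simp [negOne, mul00, mul01, mul10, mul11]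
        have : Z ^ 1 = 1 := by
          have hg : Z ^ (Nat.gcd 5 2) = 1 := by
            rw [← orderOf_dvd_iff_pow_eq_one]
            exact Nat.dvd_gcd (orderOf_dvd_of_pow_eq_one hz5) (orderOf_dvd_of_pow_eq_one h10)
          simpa using hg
        rw [pow_one] at this
        exact hZ1 this
    have h5 : proj Z * proj Z * proj Z * proj Z * proj Z = 1 := by
      rw [← map_mul, ← map_mul, ← map_mul, ← map_mul]
      have : Z * Z * Z * Z * Z = Z ^ 5 := by
        simp only [pow_succ, pow_zero, one_mul]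
      rw [this, hz5, map_one]
    have ht := tr_of_proj_five hns h5
    refine ⟨tr Z ^ 2, ?_⟩
    linear_combination ht + (tr Z ^ 2) * h3F
  -- `tU 1` has order three
  have hord : orderOf (⟨tU 1, hU⟩ : K) = 3 := by
    have : Fact (Nat.Prime 3) := ⟨by norm_num⟩
    apply orderOf_eq_prime
    · apply Subtype.ext
      show (tU (1 : F)) ^ 3 = 1
      rw [tU_pow]
      have : ((3 : ℕ) : F) * 1 = 0 := by rw [mul_one]; exact_mod_cast h3F
      rw [this, tU_zero]
    · intro h
      have h1 : tU (1 : F) = 1 := congrArg Subtype.val h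
      have := congrArg (fun g : SL(2, F) => g 0 1) h1
      simp only [tU01, one01] at this
      exact one_ne_zero this
  have hfac : (Nat.card K).factorization 3 = 1 := by
    rw [hc]
    exact Cfsg.Agent.Lib.Helper50_DkGroups.factorization_eq 120 3 1 40 (by norm_num) (by norm_num)
      (by norm_num)
  have hle : M ≤ LL := by
    intro x hx
    obtain ⟨e1, rfl⟩ := Matrix.ProjGenLinGroup.mk_surjective x
    have huK : gcj e1 (tU 1) ∈ K := gcj_mem_comap M e1 hx _ hU
    have hu3 : (⟨gcj e1 (tU 1), huK⟩ : K) ^ 3 = 1 := by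
      apply Subtype.ext
      show (gcj e1 (tU (1 : F))) ^ 3 = 1
      rw [← map_pow]
      have := congrArg Subtype.val (pow_orderOf_eq_one (⟨tU 1, hU⟩ : K))
      rw [hord] at this
      have h' : (tU (1 : F)) ^ 3 = 1 := this
      rw [h', map_one]
    obtain ⟨k, hk⟩ := conj_into_zpowers 3 (⟨tU 1, hU⟩ : K) ⟨gcj e1 (tU 1), huK⟩ hord hfac hu3
    obtain ⟨j, hj⟩ := Subgroup.mem_zpowers_iff.1 hk
    -- in `SL(2,F)`
    have hj' : (tU (1 : F)) ^ j = (k : SL(2, F)) * gcj e1 (tU 1) * (k : SL(2, F))⁻¹ := by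
      have := congrArg Subtype.val hj
      simpa using this
    have hjm : (tU (1 : F)) ^ j = (tU (1 : F)) ^ (j % 3) := by
      have h0 : orderOf (tU (1 : F)) = 3 := by
        have := Subgroup.orderOf_coe (⟨tU 1, hU⟩ : K)
        rw [hord] at this
        exact this
      have := zpow_mod_orderOf (tU (1 : F)) j
      rw [h0] at this
      push_cast at this
      exact this.symm
    set e2 : GL (Fin 2) F := Matrix.SpecialLinearGroup.toGL (k : SL(2, F)) * e1 with he2
    have hg2 : gcj e2 (tU 1) = (tU (1 : F)) ^ (j % 3) := by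
      rw [he2, gcj_mul, gcj_toGL, ← hjm, hj']
    have hmod : j % 3 = 0 ∨ j % 3 = 1 ∨ j % 3 = 2 := by omega
    -- the element `e2` is upper triangular with determinant `± d²`
    have hkey : ∀ b : F, b ≠ 0 → gcj e2 (tU 1) = tU b → (b = 1 ∨ b = -1) →
        Matrix.ProjGenLinGroup.mk e2 ∈ LL (F := F) := by
      intro b hb0 hb hb1
      have h10 : e2 1 0 = 0 := lower_zero_of_gcj one_ne_zero hb
      have e01 := congrFun (congrFun (mul_eq_of_gcj_eq hb) 0) 1
      rw [(mul_entries _ _).2.1, (mul_entries _ _).2.1] at e01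
      have t01 : (tU (1 : F) : SL(2, F)).1 0 1 = 1 := tU01 1
      have t11 : (tU (1 : F) : SL(2, F)).1 1 1 = 1 := tU11 1
      have s00 : (tU b : SL(2, F)).1 0 0 = 1 := tU00 b
      have s01 : (tU b : SL(2, F)).1 0 1 = b := tU01 b
      rw [t01, t11, s00, s01] at e01
      have ha : (e2 : Matrix (Fin 2) (Fin 2) F) 0 0 = b * (e2 : Matrix (Fin 2) (Fin 2) F) 1 1 := by
        linear_combination e01
      have h10' : (e2 : Matrix (Fin 2) (Fin 2) F) 1 0 = 0 := h10
      have hdet : (e2 : Matrix (Fin 2) (Fin 2) F).det =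
          b * ((e2 : Matrix (Fin 2) (Fin 2) F) 1 1 * (e2 : Matrix (Fin 2) (Fin 2) F) 1 1) := by
        rw [Matrix.det_fin_two, ha, h10']; ring
      rcases hb1 with rfl | rfl
      · apply mk_mem_LL_of_det e2 ((e2 : Matrix (Fin 2) (Fin 2) F) 1 1)
        rw [hdet]; ring
      · apply mk_mem_LL_of_det e2 (s * (e2 : Matrix (Fin 2) (Fin 2) F) 1 1)
        rw [hdet]
        linear_combination (-(e2 : Matrix (Fin 2) (Fin 2) F) 1 1 *
          (e2 : Matrix (Fin 2) (Fin 2) F) 1 1) * hs
    have he2L : Matrix.ProjGenLinGroup.mk e2 ∈ LL (F := F) := by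
      rcases hmod with h | h | h
      · exfalso
        rw [h, zpow_zero] at hg2
        have : tU (1 : F) = 1 := by
          have := congrArg (gcj e2).symm hg2
          rwa [MulEquiv.symm_apply_apply, map_one] at this
        have := congrArg (fun g : SL(2, F) => g 0 1) this
        simp only [tU01, one01] at this
        exact one_ne_zero this
      · rw [h, zpow_one] at hg2
        exact hkey 1 one_ne_zero hg2 (Or.inl rfl)
      · rw [h] at hg2
        have : (tU (1 : F)) ^ (2 : ℤ) = tU (-1) := by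
          rw [show (2 : ℤ) = ((2 : ℕ) : ℤ) from rfl, zpow_natCast, tU_pow]
          congr 1
          push_cast
          linear_combination h3F
        rw [this] at hg2
        exact hkey (-1) (by simp) hg2 (Or.inr rfl)
    have : Matrix.ProjGenLinGroup.mk e1 =
        (jj (k : SL(2, F)))⁻¹ * Matrix.ProjGenLinGroup.mk e2 := by
      rw [he2, map_mul]
      show _ = (Matrix.ProjGenLinGroup.mk (Matrix.SpecialLinearGroup.toGL (k : SL(2, F))))⁻¹ * _
      group
    rw [this]
    exact LL.mul_mem (LL.inv_mem ⟨_, rfl⟩) he2L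
  have := eq_of_isCoatom_le hM hle (LL_ne_top h2)
  exact hML this.ge

/-- **The non-`p`-closed case.** -/
theorem caseA (hp2 : p ≠ 2) (hodd : Odd (Fintype.card F))
    (M : Subgroup (Matrix.ProjGenLinGroup (Fin 2) F)) (hM : IsCoatom M) (hML : ¬ LL ≤ M)
    (h1 : 1 < Nat.card (Sylow p ↥(M.comap (jj (F := F))))) : Concl M := by
  classical
  obtain ⟨e0, hU, hL⟩ := exists_gl p hp2 _ h1
  apply concl_of_cjM e0 M
  have hM'co : IsCoatom (cjM e0 M) := isCoatom_cjM e0 M hM
  have hM'L : ¬ LL ≤ cjM e0 M := not_le_cjM e0 M hML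
  rw [← comap_cjM] at hU hL
  rcases Cfsg.Agent.Lib.Helper51_SL2Sub.engine hp2 _ hU hL with hG | ⟨h3, -, hc⟩
  · exact Cfsg.Agent.Lib.Helper50_PgSub.caseA_good p hp2 hodd _ hM'co hM'L hU hL hG
  · exfalso
    have hdvd := Cfsg.Agent.Lib.Helper50_DkOdd.card_dvd_of_tU_tL p _ hU hL
    have h24 : Nat.card SL(2, ZMod p) = 24 := by
      subst h3
      rw [Cfsg.Agent.Lib.Helper5_PSLCard.card_SL_two, ZMod.card]
      norm_num
    rw [h24] at hdvd
    have h120 : Nat.card ↥((cjM e0 M).comap (jj (F := F))) = 120 := by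
      rcases hc with h | h
      · rw [h] at hdvd; omega
      · exact h
    exact caseA_exc p h3 _ hM'co hM'L hU h120

end Cfsg.Agent.Lib.Helper50_PgExc
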