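import Mathlib
import Cfsg.Agent.Lib.Helper50_PgConj
import Cfsg.Agent.Lib.Helper50_PgBasic
import Cfsg.Agent.Lib.Helper50_PgRigid

/-!
# Small group-theoretic facts for the coprime case of `PGL(2,q)` (helper50)
-/

set_option autoImplicit false

namespace Cfsg.Agent.Lib.Helper50_PgTypes

open Matrix Cfsg.Agent.Lib.Helper50_PgBasic Cfsg.Agent.Lib.Helper50_PgRigid
  Cfsg.Agent.Lib.Helper50_PgConj
open scoped MatrixGroups

/-- squares commute in a dihedral group -/
theorem dih_sq_comm {k : ℕ} (a b : DihedralGroup k) : (a * a) * (b * b) = (b * b) * (a * a) := by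
  rcases a with i | i <;> rcases b with j | j <;>
    simp only [DihedralGroup.r_mul_r, DihedralGroup.sr_mul_sr, sub_self] <;>
    rw [add_comm]

set_option maxRecDepth 100000 in
theorem nc3_A4 : ∃ u v : alternatingGroup (Fin 4), u * u * u = 1 ∧ v * v * v = 1 ∧
    u * v ≠ v * u :=
  ⟨⟨Equiv.swap 0 1 * Equiv.swap 1 2, Equiv.Perm.mem_alternatingGroup.2 (by decide)⟩,
    ⟨Equiv.swap 1 2 * Equiv.swap 2 3, Equiv.Perm.mem_alternatingGroup.2 (by decide)⟩,
    by decide, by decide, by decide⟩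

set_option maxRecDepth 100000 in
theorem nc3_S4 : ∃ u v : Equiv.Perm (Fin 4), u * u * u = 1 ∧ v * v * v = 1 ∧ u * v ≠ v * u :=
  ⟨Equiv.swap 0 1 * Equiv.swap 1 2, Equiv.swap 1 2 * Equiv.swap 2 3, by decide, by decide,
    by decide⟩

set_option maxRecDepth 100000 in
theorem nc3_A5 : ∃ u v : alternatingGroup (Fin 5), u * u * u = 1 ∧ v * v * v = 1 ∧
    u * v ≠ v * u :=
  ⟨⟨Equiv.swap 0 1 * Equiv.swap 1 2, Equiv.Perm.mem_alternatingGroup.2 (by decide)⟩,
    ⟨Equiv.swap 1 2 * Equiv.swap 2 3, Equiv.Perm.mem_alternatingGroup.2 (by decide)⟩,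
    by decide, by decide, by decide⟩

set_option maxRecDepth 100000 in
theorem A4_pow_four : ∀ z : alternatingGroup (Fin 4), z * z * z * z = 1 → z * z = 1 := by
  decide

set_option maxRecDepth 100000 in
theorem exists_four_cycle : ∃ c : Equiv.Perm (Fin 4), c * c ≠ 1 ∧ c * c * c * c = 1 :=
  ⟨Equiv.swap 0 1 * Equiv.swap 1 2 * Equiv.swap 2 3, by decide, by decide⟩

section abstract

variable {G B : Type*} [Group G] [Group B]

theorem cube_eq {G : Type*} [Group G] {u : G} (h : u * u * u = 1) : (u * u) * (u * u) = u := by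
  calc (u * u) * (u * u) = (u * u * u) * u := by group
    _ = u := by rw [h, one_mul]

/-- a group of type `B` (with non-commuting elements of order three) does not contain a dihedral
subgroup containing all its squares -/
theorem false_of_nc3_of_dih (M H : Subgroup G) (hsq : ∀ x ∈ M, x * x ∈ H) {k : ℕ}
    (e : H ≃* DihedralGroup k) (f : M ≃* B)
    (hB : ∃ u v : B, u * u * u = 1 ∧ v * v * v = 1 ∧ u * v ≠ v * u) : False := by
  obtain ⟨u, v, hu, hv, huv⟩ := hB
  set u' : M := f.symm u with hu'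
  set v' : M := f.symm v with hv'
  have hu3 : u' * u' * u' = 1 := by rw [hu', ← map_mul, ← map_mul, hu, map_one]
  have hv3 : v' * v' * v' = 1 := by rw [hv', ← map_mul, ← map_mul, hv, map_one]
  have huH : (u' : G) * (u' : G) ∈ H := hsq _ u'.2
  have hvH : (v' : G) * (v' : G) ∈ H := hsq _ v'.2
  have hc := dih_sq_comm (e ⟨_, huH⟩) (e ⟨_, hvH⟩)
  rw [← map_mul, ← map_mul, ← map_mul, ← map_mul] at hc
  have hc' := congrArg Subtype.val (e.injective hc)
  have h1 : ((u' : G) * (u' : G)) * ((u' : G) * (u' : G)) = (u' : G) :=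
    cube_eq (congrArg Subtype.val hu3)
  have h2 : ((v' : G) * (v' : G)) * ((v' : G) * (v' : G)) = (v' : G) :=
    cube_eq (congrArg Subtype.val hv3)
  have hc'' : (u' : G) * (v' : G) = (v' : G) * (u' : G) := by
    have : (((u' : G) * (u' : G)) * ((u' : G) * (u' : G))) *
        (((v' : G) * (v' : G)) * ((v' : G) * (v' : G))) =
        (((v' : G) * (v' : G)) * ((v' : G) * (v' : G))) *
        (((u' : G) * (u' : G)) * ((u' : G) * (u' : G))) := hc'
    rwa [h1, h2] at this
  apply huv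
  have : u' * v' = v' * u' := Subtype.ext hc''
  have := congrArg f this
  rwa [map_mul, map_mul, hu', hv', MulEquiv.apply_symm_apply, MulEquiv.apply_symm_apply] at this

/-- a dihedral group does not contain a subgroup of type `B` -/
theorem false_of_dih_of_nc3 (M H : Subgroup G) (hHM : H ≤ M) {m : ℕ}
    (f : M ≃* DihedralGroup m) (e : H ≃* B)
    (hB : ∃ u v : B, u * u * u = 1 ∧ v * v * v = 1 ∧ u * v ≠ v * u) : False := by
  obtain ⟨u, v, hu, hv, huv⟩ := hB
  set u' : H := e.symm u with hu'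
  set v' : H := e.symm v with hv'
  have hu3 : u' * u' * u' = 1 := by rw [hu', ← map_mul, ← map_mul, hu, map_one]
  have hv3 : v' * v' * v' = 1 := by rw [hv', ← map_mul, ← map_mul, hv, map_one]
  have huM : (u' : G) * (u' : G) ∈ M := M.mul_mem (hHM u'.2) (hHM u'.2)
  have hvM : (v' : G) * (v' : G) ∈ M := M.mul_mem (hHM v'.2) (hHM v'.2)
  have hc := dih_sq_comm (f ⟨_, huM⟩) (f ⟨_, hvM⟩)
  rw [← map_mul, ← map_mul, ← map_mul, ← map_mul] at hc
  have hc' := congrArg Subtype.val (f.injective hc)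
  have h1 : ((u' : G) * (u' : G)) * ((u' : G) * (u' : G)) = (u' : G) :=
    cube_eq (congrArg Subtype.val hu3)
  have h2 : ((v' : G) * (v' : G)) * ((v' : G) * (v' : G)) = (v' : G) :=
    cube_eq (congrArg Subtype.val hv3)
  have hc'' : (u' : G) * (v' : G) = (v' : G) * (u' : G) := by
    have : (((u' : G) * (u' : G)) * ((u' : G) * (u' : G))) *
        (((v' : G) * (v' : G)) * ((v' : G) * (v' : G))) =
        (((v' : G) * (v' : G)) * ((v' : G) * (v' : G))) *
        (((u' : G) * (u' : G)) * ((u' : G) * (u' : G))) := hc'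
    rwa [h1, h2] at this
  apply huv
  have : u' * v' = v' * u' := Subtype.ext hc''
  have := congrArg e this
  rwa [map_mul, map_mul, hu', hv', MulEquiv.apply_symm_apply, MulEquiv.apply_symm_apply] at this

end abstract

section matrix

variable {F : Type*} [Field F]

set_option linter.unusedSimpArgs false in
/-- an element of order four of `PGL(2,F)` has `tr² = 2 det` -/
theorem tr_sq_of_order_four (g : GL (Fin 2) F)
    (h2 : Matrix.ProjGenLinGroup.mk g * Matrix.ProjGenLinGroup.mk g ≠ 1)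
    (h4 : Matrix.ProjGenLinGroup.mk g * Matrix.ProjGenLinGroup.mk g * Matrix.ProjGenLinGroup.mk g *
      Matrix.ProjGenLinGroup.mk g = 1) :
    (g 0 0 + g 1 1) ^ 2 = 2 * (g 0 0 * g 1 1 - g 0 1 * g 1 0) := by
  set A : Matrix (Fin 2) (Fin 2) F := (g : Matrix (Fin 2) (Fin 2) F) with hA
  set t := A 0 0 + A 1 1 with ht
  set d := A 0 0 * A 1 1 - A 0 1 * A 1 0 with hd
  -- entries of `A²`
  obtain ⟨s00, s01, s10, s11⟩ := mul_entries A A
  have h2' : ¬ (g * g ∈ Subgroup.center (GL (Fin 2) F)) := by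
    intro h
    apply h2
    rw [← map_mul, Matrix.ProjGenLinGroup.mk_eq_one]
    exact h
  have h4' : g * g * g * g ∈ Subgroup.center (GL (Fin 2) F) := by
    rw [← Matrix.ProjGenLinGroup.mk_eq_one, map_mul, map_mul, map_mul]
    exact h4
  rw [mem_center_GL_iff] at h2' h4'
  have c2 : ((g * g : GL (Fin 2) F) : Matrix (Fin 2) (Fin 2) F) = A * A := by
    rw [Units.val_mul]
  have c4 : ((g * g * g * g : GL (Fin 2) F) : Matrix (Fin 2) (Fin 2) F) = A * A * A * A := by
    rw [Units.val_mul, Units.val_mul, Units.val_mul]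
  obtain ⟨f01, f10, f00⟩ := h4'
  have f01' : (A * A * A * A) 0 1 = 0 := by rw [← c4]; exact f01
  have f10' : (A * A * A * A) 1 0 = 0 := by rw [← c4]; exact f10
  have f00' : (A * A * A * A) 0 0 = (A * A * A * A) 1 1 := by rw [← c4]; exact f00
  obtain ⟨q00, q01, q10, q11⟩ := mul_entries (A * A * A) A
  obtain ⟨r00, r01, r10, r11⟩ := mul_entries (A * A) A
  simp only [q01, r00, r01, s00, s01, s10, s11] at f01'
  simp only [q10, r10, r11, s00, s01, s10, s11] at f10'
  simp only [q00, q11, r00, r01, r10, r11, s00, s01, s10, s11] at f00'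
  set α := t * (t ^ 2 - 2 * d) with hα
  have e01 : α * A 0 1 = 0 := by rw [hα, ht, hd]; linear_combination f01'
  have e10 : α * A 1 0 = 0 := by rw [hα, ht, hd]; linear_combination f10'
  have e00 : α * (A 0 0 - A 1 1) = 0 := by rw [hα, ht, hd]; linear_combination f00'
  have hα0 : α = 0 := by
    by_contra hne
    apply h2'
    have a01 : A 0 1 = 0 := (mul_eq_zero.1 e01).resolve_left hne
    have a10 : A 1 0 = 0 := (mul_eq_zero.1 e10).resolve_left hne
    have a00 : A 0 0 = A 1 1 := sub_eq_zero.1 ((mul_eq_zero.1 e00).resolve_left hne)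
    refine ⟨?_, ?_, ?_⟩
    · show ((g * g : GL (Fin 2) F) : Matrix (Fin 2) (Fin 2) F) 0 1 = 0
      rw [c2, s01, a01]; ring
    · show ((g * g : GL (Fin 2) F) : Matrix (Fin 2) (Fin 2) F) 1 0 = 0
      rw [c2, s10, a10]; ring
    · show ((g * g : GL (Fin 2) F) : Matrix (Fin 2) (Fin 2) F) 0 0 =
        ((g * g : GL (Fin 2) F) : Matrix (Fin 2) (Fin 2) F) 1 1
      rw [c2, s00, s11, a01, a10, a00]; ring
  rcases mul_eq_zero.1 hα0 with h | h
  · exfalso
    apply h2'
    have ht' : A 1 1 = -A 0 0 := by linear_combination h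
    refine ⟨?_, ?_, ?_⟩
    · show ((g * g : GL (Fin 2) F) : Matrix (Fin 2) (Fin 2) F) 0 1 = 0
      rw [c2, s01, ht']; ring
    · show ((g * g : GL (Fin 2) F) : Matrix (Fin 2) (Fin 2) F) 1 0 = 0
      rw [c2, s10, ht']; ring
    · show ((g * g : GL (Fin 2) F) : Matrix (Fin 2) (Fin 2) F) 0 0 =
        ((g * g : GL (Fin 2) F) : Matrix (Fin 2) (Fin 2) F) 1 1
      rw [c2, s00, s11, ht']; ring
  · show t ^ 2 = 2 * d
    linear_combination h

/-- an element of order four of `PGL(2,F)` outside `L` forces `2` to be a non-square -/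
theorem not_isSquare_two (h2F : (2 : F) ≠ 0) (g : GL (Fin 2) F)
    (h2 : Matrix.ProjGenLinGroup.mk g * Matrix.ProjGenLinGroup.mk g ≠ 1)
    (h4 : Matrix.ProjGenLinGroup.mk g * Matrix.ProjGenLinGroup.mk g * Matrix.ProjGenLinGroup.mk g *
      Matrix.ProjGenLinGroup.mk g = 1)
    (hL : Matrix.ProjGenLinGroup.mk g ∉ LL (F := F)) : ¬ IsSquare (2 : F) := by
  rintro ⟨c, hc⟩
  apply hL
  have hc0 : c ≠ 0 := by
    rintro rfl
    rw [mul_zero] at hc
    exact h2F hc
  have ht := tr_sq_of_order_four g h2 h4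
  apply mk_mem_LL_of_det g ((g 0 0 + g 1 1) / c)
  rw [Matrix.det_fin_two]
  have : (g 0 0 * g 1 1 - g 0 1 * g 1 0) * (c * c) = (g 0 0 + g 1 1) ^ 2 := by
    rw [← hc, ht]; ring
  field_simp
  linear_combination this

end matrix

end Cfsg.Agent.Lib.Helper50_PgTypes
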