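import Mathlib
import Cfsg.Agent.Lib.Helper50_PgConj
import Cfsg.Agent.Lib.Helper50_PgBasic
import Cfsg.Agent.Lib.Helper50_PgRigid
import Cfsg.Agent.Lib.Helper50_PgTypes
import Cfsg.Agent.Lib.Helper50_PgDih
import Cfsg.Agent.Lib.Helper50_MxBasic
import Cfsg.Agent.Lib.Helper50_MxRigid
import Cfsg.Agent.Lib.Helper50_MxLift
import Cfsg.Agent.Lib.Helper50_MxExc
import Cfsg.Agent.Lib.Helper50_MxExc2
import Cfsg.Agent.Lib.Helper50_MxGen
import Cfsg.Agent.Lib.Helper50_MxNum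
import Cfsg.Agent.Lib.Helper50_MxMain
import Cfsg.Agent.Lib.Helper50_DkPSL
import Cfsg.Agent.Lib.Helper50_DkOrders
import Cfsg.Agent.Lib.Helper51_SL2SubMax
import Cfsg.Agent.Lib.Helper41_SL2Triple
import Cfsg.Agent.S5940

/-!
# The `S₄` case for maximal subgroups of `PGL(2,q)` (helper50)
-/

set_option autoImplicit false

namespace Cfsg.Agent.Lib.Helper50_PgS4

open Subgroup Matrix Cfsg.Agent.Lib.Helper50_SL2Mat Cfsg.Agent.Lib.Helper50_DkPSL
  Cfsg.Agent.Lib.Helper50_DkOrders Cfsg.Agent.Lib.Helper50_MxBasic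
  Cfsg.Agent.Lib.Helper50_PgBasic Cfsg.Agent.Lib.Helper50_PgConj
  Cfsg.Agent.Lib.Helper50_PgRigid Cfsg.Agent.Lib.Helper50_PgTypes
  Cfsg.Agent.Lib.Helper50_PgDih Cfsg.Agent.Lib.Helper50_MxRigid
  Cfsg.Agent.Lib.Helper50_MxLift Cfsg.Agent.Lib.Helper50_MxExc
  Cfsg.Agent.Lib.Helper50_MxExc2 Cfsg.Agent.Lib.Helper50_MxGen Cfsg.Agent.Lib.Helper50_MxNum
  Cfsg.Agent.Lib.Helper51_SL2SubMax
open scoped MatrixGroups

variable {F : Type*} [Field F] [Fintype F] (p : ℕ) [Fact p.Prime] [CharP F p]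

/-- `q ≡ ±3 (mod 8)` -/
theorem S4_mod8 (h2 : (2 : F) ≠ 0) (M : Subgroup (Matrix.ProjGenLinGroup (Fin 2) F))
    (e₀ : ↥((M.comap (jj (F := F))).map proj) ≃* alternatingGroup (Fin 4))
    (fM : M ≃* Equiv.Perm (Fin 4)) :
    Fintype.card F % 8 = 3 ∨ Fintype.card F % 8 = 5 := by
  obtain ⟨c, hc2, hc4⟩ := exists_four_cycle
  set m' : M := fM.symm c with hm'
  set m : Matrix.ProjGenLinGroup (Fin 2) F := (m' : Matrix.ProjGenLinGroup (Fin 2) F) with hm
  have hm2 : m * m ≠ 1 := by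
    intro h
    apply hc2
    have : m' * m' = 1 := Subtype.ext h
    rw [hm', ← map_mul] at this
    exact fM.symm.injective (this.trans (map_one _).symm)
  have hm4 : m * m * m * m = 1 := by
    have : m' * m' * m' * m' = 1 := by
      rw [hm', ← map_mul, ← map_mul, ← map_mul, hc4, map_one]
    exact congrArg Subtype.val this
  have hmL : m ∉ LL (F := F) := by
    intro hL
    obtain ⟨y, hy⟩ := (mem_LL_iff m).1 hL
    have hyH : y ∈ (M.comap (jj (F := F))).map proj := by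
      rw [mem_H0_iff, hy]; exact m'.2
    have hy4 : y * y * y * y = 1 := by
      apply TT_injective
      rw [map_mul, map_mul, map_mul, hy, hm4, map_one]
    have hz4 : e₀ ⟨y, hyH⟩ * e₀ ⟨y, hyH⟩ * e₀ ⟨y, hyH⟩ * e₀ ⟨y, hyH⟩ = 1 := by
      rw [← map_mul, ← map_mul, ← map_mul]
      have : (⟨y, hyH⟩ : ↥((M.comap (jj (F := F))).map proj)) * ⟨y, hyH⟩ * ⟨y, hyH⟩ * ⟨y, hyH⟩ = 1 :=
        Subtype.ext hy4
      rw [this, map_one]
    have hz2 := A4_pow_four _ hz4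
    rw [← map_mul] at hz2
    have : (⟨y, hyH⟩ : ↥((M.comap (jj (F := F))).map proj)) * ⟨y, hyH⟩ = 1 :=
      e₀.injective (hz2.trans (map_one _).symm)
    have hy2 : y * y = 1 := congrArg Subtype.val this
    apply hm2
    rw [← hy, ← map_mul, hy2, map_one]
  obtain ⟨g, hg⟩ := Matrix.ProjGenLinGroup.mk_surjective m
  rw [← hg] at hm2 hm4 hmL
  have hns := not_isSquare_two h2 g hm2 hm4 hmL
  rw [FiniteField.isSquare_two_iff] at hns
  omega

/-- `q = p` -/
theorem S4_field (hp2 : p ≠ 2) (hp3 : p ≠ 3) (M : Subgroup (Matrix.ProjGenLinGroup (Fin 2) F))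
    (hM : IsCoatom M) (hc24 : Nat.card M = 24)
    (e₀ : ↥((M.comap (jj (F := F))).map proj) ≃* alternatingGroup (Fin 4)) :
    Fintype.card F = p := by
  classical
  have h2 : (2 : F) ≠ 0 := Cfsg.Agent.Lib.Helper50_MxExc2.two_ne_zero' p hp2
  set K := M.comap (jj (F := F)) with hK
  set H₀ := K.map proj with hH₀
  obtain ⟨x4, y4, gx1, gx2, gy1, gy3, gz1, gz3, hgen⟩ := gen_A4
  obtain ⟨X, Y, hgenM, hXt, hYt, hX, hY⟩ := exists_lifted_pair H₀ e₀ x4 y4 gx1 gx2 gy1 gy3 hgen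
  have hZ : proj (X * Y) = ((e₀.symm (x4 * y4) : H₀) :
      Matrix.ProjectiveSpecialLinearGroup (Fin 2) F) := by
    rw [map_mul, hX, hY, coe_symm_mul]
  have hτ : tr (X * Y) ^ 2 = 1 := by
    apply tr_sq_of_proj_cube
    · rw [hZ]
      exact fun h => gz1 ((coe_symm_eq_one_iff e₀ _).1 h)
    · rw [hZ, ← coe_symm_mul, ← coe_symm_mul, gz3, map_one]; rfl
  have hN : tr Y ^ 2 + tr (X * Y) ^ 2 ≠ 4 := by
    rw [hYt, hτ]
    intro h
    apply h2
    linear_combination (-1 : F) * h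
  by_contra hq
  set ι := ZMod.castHom (dvd_refl p) F with hιdef
  have hι : ¬ Function.Surjective ι := castHom_not_surjective (F := F) p hq
  obtain ⟨c, hc⟩ : ∃ c : ZMod p, ι c = tr (X * Y) := by
    have : (tr (X * Y) - 1) * (tr (X * Y) + 1) = 0 := by linear_combination hτ
    rcases mul_eq_zero.1 this with h | h
    · exact ⟨1, by rw [map_one]; linear_combination -h⟩
    · exact ⟨-1, by rw [map_neg, map_one]; linear_combination -h⟩
  have h2K : (2 : ZMod p) ≠ 0 := by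
    intro h
    apply h2
    have := congrArg ι h
    rwa [map_ofNat, map_zero] at this
  have hcc : c * c = 1 := by
    apply ι.injective
    rw [map_mul, hc, map_one]
    linear_combination hτ
  obtain ⟨X0, Y0, hX0, hY0, hXY0⟩ :=
    Cfsg.Agent.Lib.Helper41_SL2Triple.exists_pair (-1 : ZMod p) c (fun h => absurd h h2K)
  have tX0 : tr X0 = 0 := by rw [← hX0, Matrix.trace_fin_two]; rfl
  have tY0 : tr Y0 = -1 := by rw [← hY0, Matrix.trace_fin_two]; rfl
  have tXY0 : tr (X0 * Y0) = c := by rw [← hXY0, Matrix.trace_fin_two]; rfl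
  obtain ⟨e, he1, he2⟩ := pair_rigid h2 X Y (SpecialLinearGroup.map (n := Fin 2) ι X0)
    (SpecialLinearGroup.map (n := Fin 2) ι Y0) hXt (by rw [tr_map, hX0, map_zero])
    (by rw [tr_map, hY0, hYt, map_neg, map_one])
    (by rw [← map_mul, tr_map, hXY0, hc]) hN
  -- the structure of `K`
  have hKeq : K = Subgroup.closure {X, Y} ⊔ Subgroup.center SL(2, F) := by
    have h1 : K = H₀.comap proj := (comap_H0 M).symm
    have h2' : H₀ = (Subgroup.closure {X, Y}).map proj := by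
      rw [MonoidHom.map_closure, hgenM]
      congr 1
      ext z
      simp [Set.image_pair]
    rw [h1, h2', Subgroup.comap_map_eq, QuotientGroup.ker_mk']
  have hKle : K ≤ (S0 ι).comap (gcj e).toMonoidHom := by
    rw [hKeq]
    apply sup_le
    · rw [Subgroup.closure_le]
      rintro z (rfl | rfl)
      · show gcj e z ∈ S0 ι
        rw [he1]; exact ⟨X0, rfl⟩
      · show gcj e z ∈ S0 ι
        rw [he2]; exact ⟨Y0, rfl⟩
    · intro z hz
      show gcj e z ∈ S0 ι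
      apply center_le_S0 ι
      rw [Cfsg.Agent.Lib.Helper50_DkPSL.mem_center_iff] at hz ⊢
      exact (isScalar_map_equiv (gcj e) z).2 hz
  have hXK : X ∈ K := by
    rw [hKeq]; exact le_sup_left (a := Subgroup.closure {X, Y}) (Subgroup.subset_closure (by simp))
  have hYK : Y ∈ K := by
    rw [hKeq]; exact le_sup_left (a := Subgroup.closure {X, Y}) (Subgroup.subset_closure (by simp))
  set M' := cjM e M with hM'
  have hM'co : IsCoatom M' := isCoatom_cjM e M hM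
  have hK' : M'.comap (jj (F := F)) = K.map (gcj e).toMonoidHom := comap_cjM e M
  have hK'le : M'.comap (jj (F := F)) ≤ S0 ι := by
    rw [hK']
    rintro _ ⟨k, hk, rfl⟩
    exact hKle hk
  have hX'K : SpecialLinearGroup.map (n := Fin 2) ι X0 ∈ M'.comap (jj (F := F)) := by
    rw [hK', ← he1]; exact ⟨X, hXK, rfl⟩
  have hY'K : SpecialLinearGroup.map (n := Fin 2) ι Y0 ∈ M'.comap (jj (F := F)) := by
    rw [hK', ← he2]; exact ⟨Y, hYK, rfl⟩
  have hle : M' ≤ PP ι := by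
    intro x hx
    obtain ⟨g, rfl⟩ := Matrix.ProjGenLinGroup.mk_surjective x
    obtain ⟨X0', hX0'⟩ := hK'le (gcj_mem_comap M' g hx _ hX'K)
    obtain ⟨Y0', hY0'⟩ := hK'le (gcj_mem_comap M' g hx _ hY'K)
    apply mem_PP_of_pair h2 ι X0 Y0 X0' Y0' tX0 _ g hX0'.symm hY0'.symm
    rw [tY0, tXY0]
    intro h
    apply h2K
    have : c ^ 2 = 1 := by rw [pow_two]; exact hcc
    linear_combination (-1 : ZMod p) * h + this
  have hMP : M' = PP ι := eq_of_isCoatom_le hM'co hle (PP_ne_top ι hι)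
  obtain ⟨f⟩ := PP_iso ι
  have hcard : Nat.card M = p * (p ^ 2 - 1) := by
    rw [Nat.card_congr (cjIso e M).toEquiv, ← hM', hMP, Nat.card_congr f.toEquiv, card_PGL2,
      ZMod.card]
  rw [hc24] at hcard
  exact hp3 (eq_three_of_mul p hcard.symm)

/-- maximality of `A₄` -/
theorem A4_isCoatom (hp2 : p ≠ 2) (hF : Fintype.card F = p) (h5 : 5 ≤ p)
    (h8 : p % 8 = 3 ∨ p % 8 = 5) (h10 : p % 10 ≠ 1 ∧ p % 10 ≠ 9)
    (H₀ : Subgroup PSL(2, F)) (e₀ : H₀ ≃* alternatingGroup (Fin 4)) : IsCoatom H₀ := by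
  classical
  have h2 : (2 : F) ≠ 0 := Cfsg.Agent.Lib.Helper50_MxExc2.two_ne_zero' p hp2
  obtain ⟨H1, hH1, ⟨e1⟩⟩ := Cfsg.Agent.S5940.result (F := F) p hF h5 h8 h10
  have hc12 : Nat.card H₀ = 12 := by rw [Nat.card_congr e₀.toEquiv, card_A4']
  have hG := Cfsg.Agent.Lib.Helper50_MxMain.card_PSL2_ge (F := F) h2 (by omega)
  obtain ⟨x4, y4, gx1, gx2, gy1, gy3, gz1, gz3, -⟩ := gen_A4
  constructor
  · intro h
    rw [h, Subgroup.card_top] at hc12
    omega
  · intro H hH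
    by_contra hne
    have hcH : Nat.card H ≠ 12 := by
      intro h
      have := Subgroup.eq_of_le_of_card_ge hH.le (by rw [h, hc12])
      exact hH.ne this
    apply A4_excl p hp2 H1 hH1 e1 H hne hcH ((e₀.symm x4 : H₀) : PSL(2, F))
      ((e₀.symm y4 : H₀) : PSL(2, F)) (hH.le (e₀.symm x4).2) (hH.le (e₀.symm y4).2)
    · exact fun h => gx1 ((coe_symm_eq_one_iff e₀ _).1 h)
    · rw [← coe_symm_mul, gx2, map_one]; rfl
    · exact fun h => gy1 ((coe_symm_eq_one_iff e₀ _).1 h)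
    · rw [← coe_symm_mul, ← coe_symm_mul, gy3, map_one]; rfl
    · rw [← coe_symm_mul]
      exact fun h => gz1 ((coe_symm_eq_one_iff e₀ _).1 h)
    · rw [← coe_symm_mul, ← coe_symm_mul, ← coe_symm_mul, gz3, map_one]; rfl

/-- **The `S₄` case.** -/
theorem S4_case (hp2 : p ≠ 2) (hp3 : p ≠ 3) (M : Subgroup (Matrix.ProjGenLinGroup (Fin 2) F))
    (hM : IsCoatom M) (hc24 : Nat.card M = 24)
    (e₀ : ↥((M.comap (jj (F := F))).map proj) ≃* alternatingGroup (Fin 4))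
    (fM : M ≃* Equiv.Perm (Fin 4)) : Concl M := by
  have h2 : (2 : F) ≠ 0 := Cfsg.Agent.Lib.Helper50_MxExc2.two_ne_zero' p hp2
  have hF := S4_field p hp2 hp3 M hM hc24 e₀
  have h8 := S4_mod8 h2 M e₀ fM
  have hpp := (Fact.out : p.Prime)
  have h5 : 5 ≤ p := Cfsg.Agent.Lib.Helper50_MxExc2.five_le_of_prime p hp2 hp3
  right; right; right; left
  refine ⟨hF ▸ hpp, h8, ⟨fM⟩, ?_⟩
  intro h1 h9
  rw [hF] at h8 h1 h9
  have hco := A4_isCoatom p hp2 hF h5 h8 ⟨h1, h9⟩ _ e₀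
  have := Cfsg.Agent.Lib.Helper50_MxMain.isCoatom_comap_proj _ hco
  rwa [comap_H0] at this

end Cfsg.Agent.Lib.Helper50_PgS4
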