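import Mathlib
import Cfsg.Agent.Lib.Helper50_PgConj
import Cfsg.Agent.Lib.Helper50_PgBasic
import Cfsg.Agent.Lib.Helper50_PgAbel
import Cfsg.Agent.Lib.Helper50_PgEmbed
import Cfsg.Agent.Lib.Helper50_PgBorel
import Cfsg.Agent.Lib.Helper50_PgExc
import Cfsg.Agent.Lib.Helper50_PgTypes
import Cfsg.Agent.Lib.Helper50_PgDih
import Cfsg.Agent.Lib.Helper50_PgS4
import Cfsg.Agent.Lib.Helper50_MxMain
import Cfsg.Agent.Lib.Helper50_MxDih
import Cfsg.Agent.Lib.Helper50_MxGen
import Cfsg.Agent.Lib.Helper50_DkPSL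
import Cfsg.Agent.Lib.Helper50_DkOdd
import Cfsg.Agent.Lib.Helper50_DkMax
import Cfsg.Agent.Lib.Helper50_DkMaxMinus

/-!
# Maximal subgroups of `PGL(2,q)`, `q` odd, not containing `PSL(2,q)` (helper50)

`pgl_main`: the structural conclusion `Concl M` for every such maximal subgroup `M`.
-/

set_option autoImplicit false

namespace Cfsg.Agent.Lib.Helper50_PgMain

open Subgroup Matrix Cfsg.Agent.Lib.Helper50_SL2Mat Cfsg.Agent.Lib.Helper50_DkPSL
  Cfsg.Agent.Lib.Helper50_MxBasic Cfsg.Agent.Lib.Helper50_PgBasic Cfsg.Agent.Lib.Helper50_PgConj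
  Cfsg.Agent.Lib.Helper50_PgAbel Cfsg.Agent.Lib.Helper50_PgTypes Cfsg.Agent.Lib.Helper50_PgDih
  Cfsg.Agent.Lib.Helper50_MxGen Cfsg.Agent.Lib.Helper50_MxDih
open scoped MatrixGroups

variable {F : Type*} [Field F] [Fintype F] (p : ℕ) [Fact p.Prime] [CharP F p]

/-- **The coprime case.** -/
theorem caseB2 (hp2 : p ≠ 2) (hodd : Odd (Fintype.card F)) (h5 : 5 ≤ Fintype.card F)
    (M : Subgroup (Matrix.ProjGenLinGroup (Fin 2) F)) (hM : IsCoatom M) (hML : ¬ LL ≤ M)
    (hcop : ¬ p ∣ Nat.card ↥(M.comap (jj (F := F)))) : Concl M := by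
  classical
  have h2 : (2 : F) ≠ 0 := Cfsg.Agent.Lib.Helper50_DkOdd.two_ne_zero_of_char p hp2
  have hq2 := Nat.odd_iff.1 hodd
  set K := M.comap (jj (F := F)) with hK
  have hcM : Nat.card M = Nat.card K := by
    rw [card_eq_two_mul M h2 hM hML, card_comap_jj M h2]
  have hcopM : ¬ p ∣ Nat.card M := by rwa [hcM]
  have hnab := inf_not_abelian h2 h5 M hM hML
  have eH : ↥(K.map proj) ≃* ↥(M ⊓ LL) :=
    (mapIso K).trans (MulEquiv.subgroupCongr (map_comap_jj M))
  have hcK : Nat.card K = 2 * Nat.card ↥(M ⊓ LL) := card_comap_jj M h2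
  have hcH : Nat.card ↥(K.map proj) = Nat.card ↥(M ⊓ LL) := Nat.card_congr eH.toEquiv
  have hsq : ∀ x ∈ M, x * x ∈ M ⊓ LL := fun x hx =>
    ⟨M.mul_mem hx hx, Subgroup.mul_self_mem_of_index_two (index_LL h2) x⟩
  have hHM : M ⊓ LL ≤ M := inf_le_left
  have hnab₀ : ¬ ∀ a b : ↥(K.map proj), a * b = b * a := by
    intro h
    apply hnab
    intro a ha b hb
    have := h (eH.symm ⟨a, ha⟩) (eH.symm ⟨b, hb⟩)
    rw [← map_mul, ← map_mul] at this
    exact congrArg Subtype.val (eH.symm.injective this)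
  have hgcd : Nat.gcd 2 (Fintype.card F - 1) = 2 := by
    have : 2 ∣ Fintype.card F - 1 := by omega
    exact Nat.gcd_eq_left this
  have hMtype := Cfsg.Agent.Lib.Helper50_PgEmbed.pgl_coprime p hp2 M hcopM
  rcases Cfsg.Agent.Lib.Helper50_MxMain.coprime_case' p hp2 K hcop with
    ⟨k, hk, hcyc | ⟨⟨f₀⟩⟩⟩ | ⟨h24, ⟨e₀⟩⟩ | ⟨h48, ⟨e₀⟩⟩ | ⟨h120, ⟨e₀⟩⟩
  · -- `H` cyclic
    exfalso
    have := hcyc.1
    exact hnab₀ (fun a b => mul_comm' a b)
  · -- `H` dihedral
    have hk3 : 3 ≤ k := by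
      by_contra hlt
      push Not at hlt
      have hk0 : k ≠ 0 := by
        rintro rfl
        have : Infinite (DihedralGroup 0) := by
          apply Infinite.of_injective
            (fun n : ℕ => (DihedralGroup.r (n : ZMod 0) : DihedralGroup 0))
          intro a b h
          have := DihedralGroup.r.inj h
          exact_mod_cast this
        have : Infinite ↥(K.map proj) := Infinite.of_injective f₀.symm f₀.symm.injective
        exact not_finite ↥(K.map proj)
      apply hnab₀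
      intro a b
      have := dih_comm hk0 (by omega) (f₀ a) (f₀ b)
      rw [← map_mul, ← map_mul] at this
      exact f₀.injective this
    have hcH' : Nat.card ↥(K.map proj) = 2 * k := by
      rw [Nat.card_congr f₀.toEquiv, DihedralGroup.nat_card]
    have hkle : 2 * k ≤ Fintype.card F + 1 := by
      rw [hgcd] at hk
      rcases hk with h | h
      · have := Nat.le_of_dvd (by omega) h
        omega
      · have := Nat.le_of_dvd (by omega) h
        omega
    have fH : ↥(M ⊓ LL) ≃* DihedralGroup k := eH.symm.trans f₀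
    rcases hMtype with hc | ⟨m, ⟨fM⟩⟩ | ⟨-, ⟨fM⟩⟩ | ⟨-, ⟨fM⟩⟩ | ⟨-, ⟨fM⟩⟩
    · exfalso
      apply hnab
      intro a ha b hb
      have := hc
      have h := mul_comm' (⟨a, ha.1⟩ : M) ⟨b, hb.1⟩
      exact congrArg Subtype.val h
    · -- `M ≅ D_m`, `m = 2k`
      have hm : m = 2 * k := by
        have h1 : Nat.card M = 2 * m := by rw [Nat.card_congr fM.toEquiv, DihedralGroup.nat_card]
        rw [hcM, hcK, ← hcH, hcH'] at h1
        omega
      subst hm
      rcases dih_case h2 h5 M hM hk3 hkle f₀ with h | h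
      · -- `2k = q + 1`
        right; right; left
        refine ⟨⟨by rw [← h]; exact fM⟩, ?_⟩
        intro h7 h9
        have hkk : k = (Fintype.card F + 1) / Nat.gcd 2 (Fintype.card F - 1) := by
          rw [hgcd]; omega
        have hco := Cfsg.Agent.Lib.Helper50_DkMax.isCoatom_of_dihedral_plus (F := F)
          (by simp only [Finset.mem_insert, Finset.mem_singleton]; omega) (K.map proj)
          (by rw [← hkk]; exact f₀)
        have := Cfsg.Agent.Lib.Helper50_MxMain.isCoatom_comap_proj _ hco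
        rwa [comap_H0] at this
      · -- `2k = q - 1`
        right; left
        refine ⟨by omega, ⟨by rw [← h]; exact fM⟩, ?_⟩
        intro h7 h9 h11
        have hkk : k = (Fintype.card F - 1) / Nat.gcd 2 (Fintype.card F - 1) := by
          rw [hgcd]; omega
        have hco := Cfsg.Agent.Lib.Helper50_DkMaxMinus.isCoatom_of_dihedral_minus (F := F)
          (by simp only [Finset.mem_insert, Finset.mem_singleton]; omega) (K.map proj)
          (by rw [← hkk]; exact f₀)
        have := Cfsg.Agent.Lib.Helper50_MxMain.isCoatom_comap_proj _ hco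
        rwa [comap_H0] at this
    · exact (false_of_nc3_of_dih M (M ⊓ LL) hsq fH fM nc3_A4).elim
    · exact (false_of_nc3_of_dih M (M ⊓ LL) hsq fH fM nc3_S4).elim
    · exact (false_of_nc3_of_dih M (M ⊓ LL) hsq fH fM nc3_A5).elim
  · -- `H ≅ A₄`
    have hp3 : p ≠ 3 := by
      rintro rfl
      apply hcop
      rw [h24]; norm_num
    have hc24 : Nat.card M = 24 := by rw [hcM, h24]
    rcases hMtype with hc | ⟨m, ⟨fM⟩⟩ | ⟨h12, -⟩ | ⟨-, ⟨fM⟩⟩ | ⟨h60, -⟩
    · exfalso
      apply hnab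
      intro a ha b hb
      have := hc
      have h := mul_comm' (⟨a, ha.1⟩ : M) ⟨b, hb.1⟩
      exact congrArg Subtype.val h
    · exact (false_of_dih_of_nc3 M (M ⊓ LL) hHM fM (eH.symm.trans e₀) nc3_A4).elim
    · omega
    · exact Cfsg.Agent.Lib.Helper50_PgS4.S4_case p hp2 hp3 M hM hc24 e₀ fM
    · omega
  · -- `H ≅ S₄`
    exfalso
    have hc48 : Nat.card M = 48 := by rw [hcM, h48]
    rcases hMtype with hc | ⟨m, ⟨fM⟩⟩ | ⟨h12, -⟩ | ⟨h24, -⟩ | ⟨h60, -⟩
    · apply hnab
      intro a ha b hb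
      have := hc
      have h := mul_comm' (⟨a, ha.1⟩ : M) ⟨b, hb.1⟩
      exact congrArg Subtype.val h
    · exact false_of_dih_of_nc3 M (M ⊓ LL) hHM fM (eH.symm.trans e₀) nc3_S4
    · omega
    · omega
    · omega
  · -- `H ≅ A₅`
    exfalso
    have hc120 : Nat.card M = 120 := by rw [hcM, h120]
    rcases hMtype with hc | ⟨m, ⟨fM⟩⟩ | ⟨h12, -⟩ | ⟨h24, -⟩ | ⟨h60, -⟩
    · apply hnab
      intro a ha b hb
      have := hc
      have h := mul_comm' (⟨a, ha.1⟩ : M) ⟨b, hb.1⟩
      exact congrArg Subtype.val h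
    · exact false_of_dih_of_nc3 M (M ⊓ LL) hHM fM (eH.symm.trans e₀) nc3_A5
    · omega
    · omega
    · omega

omit [Fact p.Prime] [CharP F p] in
/-- **Maximal subgroups of `PGL(2,q)`, `q` odd, not containing `PSL(2,q)`.** -/
theorem pgl_main (hodd : Odd (Fintype.card F)) (h5 : 5 ≤ Fintype.card F)
    (M : Subgroup (Matrix.ProjGenLinGroup (Fin 2) F)) (hM : IsCoatom M) (hML : ¬ LL ≤ M) :
    Concl M := by
  obtain ⟨p, hchar⟩ := CharP.exists F
  have hpr : p.Prime := (CharP.char_is_prime_or_zero F p).resolve_right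
    (fun h0 => by
      subst h0
      have := CharP.charP_to_charZero F
      exact not_finite F)
  have : Fact p.Prime := ⟨hpr⟩
  have hp2 : p ≠ 2 := by
    intro h
    obtain ⟨n, -, hn⟩ := FiniteField.card F p
    rw [hn, h] at hodd
    have : Even (2 ^ (n : ℕ)) := (Nat.even_pow.2 ⟨even_two, n.ne_zero⟩)
    exact (Nat.not_even_iff_odd.2 hodd) this
  by_cases h1 : 1 < Nat.card (Sylow p ↥(M.comap (jj (F := F))))
  · exact Cfsg.Agent.Lib.Helper50_PgExc.caseA p hp2 hodd M hM hML h1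
  · by_cases hdvd : p ∣ Nat.card ↥(M.comap (jj (F := F)))
    · have hpos : 0 < Nat.card (Sylow p ↥(M.comap (jj (F := F)))) := Nat.card_pos
      exact Cfsg.Agent.Lib.Helper50_PgBorel.caseB1 p hp2 M hM hML (by omega) hdvd
    · exact caseB2 p hp2 hodd h5 M hM hML hdvd

end Cfsg.Agent.Lib.Helper50_PgMain
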