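import Mathlib
import Cfsg.Agent.S0592

/-!
# Two quadratic elements with nilpotent `AB + BA` generate a unipotent group (helper50)

`A = ρ x - 1`, `B = ρ y - 1` with `A² = B² = 0`; `c = A B + B A` commutes with `A` and `B`.
If `c` is nilpotent then the image of `⟨x, y⟩` is a `p`-group (`pg_of_nilpotent`).
-/

set_option autoImplicit false

namespace Cfsg.Agent.Lib.Helper50_QuadNil

open Cfsg.Agent.S0592

section basics

variable {K : Type*} [Field K] {W : Type*} [AddCommGroup W] [Module K W]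

/-- the central element `A B + B A` for `A = X - 1`, `B = Y - 1` -/
def cen (X Y : Module.End K W) : Module.End K W :=
  (X - 1) * (Y - 1) + (Y - 1) * (X - 1)

theorem cen_comm_left {X Y : Module.End K W} (hX : Quad X) :
    cen X Y * (X - 1) = (X - 1) * cen X Y := by
  have h := hX.mul_sub_one
  obtain ⟨A, hA⟩ : ∃ A : Module.End K W, A = X - 1 := ⟨_, rfl⟩
  obtain ⟨B, hB⟩ : ∃ B : Module.End K W, B = Y - 1 := ⟨_, rfl⟩
  unfold cen
  rw [← hA, ← hB]
  rw [← hA] at h
  calc (A * B + B * A) * A = A * B * A + B * (A * A) := by noncomm_ring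
    _ = (A * A) * B + A * B * A := by rw [h, mul_zero, zero_mul, add_zero, zero_add]
    _ = A * (A * B + B * A) := by noncomm_ring

theorem cen_comm_right {X Y : Module.End K W} (hY : Quad Y) :
    cen X Y * (Y - 1) = (Y - 1) * cen X Y := by
  have h := hY.mul_sub_one
  obtain ⟨A, hA⟩ : ∃ A : Module.End K W, A = X - 1 := ⟨_, rfl⟩
  obtain ⟨B, hB⟩ : ∃ B : Module.End K W, B = Y - 1 := ⟨_, rfl⟩
  unfold cen
  rw [← hA, ← hB]
  rw [← hB] at h
  calc (A * B + B * A) * B = A * (B * B) + B * A * B := by noncomm_ring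
    _ = B * A * B + (B * B) * A := by rw [h, mul_zero, zero_mul, add_zero, zero_add]
    _ = B * (A * B + B * A) := by noncomm_ring

/-- a common fixed vector in the kernel of `c` -/
theorem exists_fixed {X Y : Module.End K W} (hX : Quad X) (hY : Quad Y) (u₀ : W) (hu₀ : u₀ ≠ 0)
    (hc : cen X Y u₀ = 0) : ∃ u : W, u ≠ 0 ∧ X u = u ∧ Y u = u := by
  have hA2 : ∀ w, (X - 1) ((X - 1) w) = 0 := fun w => by
    have := LinearMap.congr_fun hX.mul_sub_one w
    simpa using this
  have hB2 : ∀ w, (Y - 1) ((Y - 1) w) = 0 := fun w => by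
    have := LinearMap.congr_fun hY.mul_sub_one w
    simpa using this
  have hcA : ∀ w, cen X Y ((X - 1) w) = (X - 1) (cen X Y w) := fun w => by
    have := LinearMap.congr_fun (cen_comm_left (Y := Y) hX) w
    simpa using this
  -- first make `A u₁ = 0`
  obtain ⟨u₁, hu₁, hAu₁, hcu₁⟩ : ∃ u₁ : W, u₁ ≠ 0 ∧ (X - 1) u₁ = 0 ∧ cen X Y u₁ = 0 := by
    by_cases h : (X - 1) u₀ = 0
    · exact ⟨u₀, hu₀, h, hc⟩
    · exact ⟨(X - 1) u₀, h, hA2 u₀, by rw [hcA, hc, map_zero]⟩
  -- then `B u₂ = 0`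
  obtain ⟨u₂, hu₂, hAu₂, hBu₂⟩ : ∃ u₂ : W, u₂ ≠ 0 ∧ (X - 1) u₂ = 0 ∧ (Y - 1) u₂ = 0 := by
    by_cases h : (Y - 1) u₁ = 0
    · exact ⟨u₁, hu₁, hAu₁, h⟩
    · refine ⟨(Y - 1) u₁, h, ?_, hB2 u₁⟩
      have h1 : cen X Y u₁ = (X - 1) ((Y - 1) u₁) + (Y - 1) ((X - 1) u₁) := rfl
      rw [hcu₁, hAu₁, map_zero, add_zero] at h1
      exact h1.symm
  refine ⟨u₂, hu₂, ?_, ?_⟩
  · have : (X - 1) u₂ = X u₂ - u₂ := rfl
    rw [this, sub_eq_zero] at hAu₂
    exact hAu₂
  · have : (Y - 1) u₂ = Y u₂ - u₂ := rfl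
    rw [this, sub_eq_zero] at hBu₂
    exact hBu₂

end basics

section main

variable {K : Type*} [Field K] {p : ℕ} [Fact p.Prime] [CharP K p] {Γ : Type*} [Group Γ]

/-- **Lemma A.** If `c = A B + B A` is nilpotent then the image of `⟨x, y⟩` is a `p`-group. -/
theorem pg_of_nilpotent (x y : Γ) (hgen : Subgroup.closure {x, y} = ⊤) :
    ∀ (n : ℕ) (W : Type*) [AddCommGroup W] [Module K W] [FiniteDimensional K W]
      (ρ : Γ →* Module.End K W), Module.finrank K W = n → Quad (ρ x) → Quad (ρ y) →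
      (∃ k : ℕ, ∀ w : W, ((cen (ρ x) (ρ y)) ^ k) w = 0) → PG p ρ := by
  intro n
  induction n using Nat.strong_induction_on with
  | _ n ih =>
  intro W _ _ _ ρ hn hx hy hnil
  by_cases hW : Subsingleton W
  · intro γ
    refine ⟨0, ?_⟩
    ext w
    exact Subsingleton.elim _ _
  · rw [not_subsingleton_iff_nontrivial] at hW
    obtain ⟨w₀, hw₀⟩ := exists_ne (0 : W)
    -- a nonzero vector killed by `c`
    obtain ⟨k, hk⟩ := hnil
    obtain ⟨u₀, hu₀, hcu₀⟩ : ∃ u₀ : W, u₀ ≠ 0 ∧ cen (ρ x) (ρ y) u₀ = 0 := by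
      have hex : ∃ j : ℕ, ((cen (ρ x) (ρ y)) ^ j) w₀ = 0 := ⟨k, hk w₀⟩
      classical
      obtain ⟨j, hj, hjmin⟩ : ∃ j : ℕ, ((cen (ρ x) (ρ y)) ^ j) w₀ = 0 ∧
          ∀ i < j, ((cen (ρ x) (ρ y)) ^ i) w₀ ≠ 0 :=
        ⟨Nat.find hex, Nat.find_spec hex, fun i hi => Nat.find_min hex hi⟩
      rcases Nat.eq_zero_or_pos j with h0 | hpos
      · rw [h0, pow_zero] at hj
        exact absurd hj hw₀
      · refine ⟨((cen (ρ x) (ρ y)) ^ (j - 1)) w₀, hjmin (j - 1) (by omega), ?_⟩
        have : cen (ρ x) (ρ y) (((cen (ρ x) (ρ y)) ^ (j - 1)) w₀) =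
            ((cen (ρ x) (ρ y)) ^ j) w₀ := by
          have h1 : j = (j - 1) + 1 := by omega
          conv_rhs => rw [h1, pow_succ']
          rfl
        rw [this, hj]
    obtain ⟨u, hu, hxu, hyu⟩ := exists_fixed hx hy u₀ hu₀ hcu₀
    -- the invariant line
    obtain ⟨U, hUdef⟩ : ∃ U : Submodule K W, U = Submodule.span K {u} := ⟨_, rfl⟩
    have hfixU : ∀ (T : Module.End K W), T u = u → ∀ v ∈ U, T v = v := by
      intro T hT v hv
      rw [hUdef, Submodule.mem_span_singleton] at hv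
      obtain ⟨a, rfl⟩ := hv
      rw [map_smul, hT]
    have hU : ∀ γ : Γ, ∀ v ∈ U, ρ γ v ∈ U :=
      invariant_of_gen ρ x y hgen hx hy U
        (fun v hv => by rw [hfixU _ hxu v hv]; exact hv)
        (fun v hv => by rw [hfixU _ hyu v hv]; exact hv)
    -- the subrepresentation is trivial
    have hsub : PG p (subRep ρ U hU) := by
      have h1 : subRep ρ U hU x = 1 := by
        ext v
        rw [subRep_apply, hfixU _ hxu v v.2]; rfl
      have h2 : subRep ρ U hU y = 1 := by
        ext v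
        rw [subRep_apply, hfixU _ hyu v v.2]; rfl
      intro γ
      exact ⟨0, rep_eq_one_of_gen (subRep ρ U hU) x y hgen h1 h2 _⟩
    -- the quotient has smaller dimension
    have hquot : PG p (quotRep ρ U hU) := by
      have hrank : Module.finrank K (W ⧸ U) < n := by
        have h1 := Submodule.finrank_quotient_add_finrank U
        have h2 : 0 < Module.finrank K U := by
          rw [Module.finrank_pos_iff_exists_ne_zero]
          refine ⟨⟨u, ?_⟩, ?_⟩
          · rw [hUdef]; exact Submodule.mem_span_singleton_self u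
          · intro h
            exact hu (congrArg Subtype.val h)
        omega
      refine ih _ hrank (W ⧸ U) (quotRep ρ U hU) rfl (quotRep_quad ρ U hU x hx)
        (quotRep_quad ρ U hU y hy) ⟨k, ?_⟩
      have hcq : ∀ w : W, cen (quotRep ρ U hU x) (quotRep ρ U hU y) (Submodule.Quotient.mk w) =
          Submodule.Quotient.mk (cen (ρ x) (ρ y) w) := by
        intro w
        unfold cen
        simp only [LinearMap.add_apply, Module.End.mul_apply, LinearMap.sub_apply,
          Module.End.one_apply, quotRep_apply, ← Submodule.Quotient.mk_sub,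
          ← Submodule.Quotient.mk_add]
      have hcqk : ∀ (j : ℕ) (w : W),
          ((cen (quotRep ρ U hU x) (quotRep ρ U hU y)) ^ j) (Submodule.Quotient.mk w) =
            Submodule.Quotient.mk (((cen (ρ x) (ρ y)) ^ j) w) := by
        intro j
        induction j with
        | zero => intro w; simp
        | succ j ihj =>
          intro w
          rw [pow_succ, Module.End.mul_apply, hcq, ihj, pow_succ, Module.End.mul_apply]
      intro v
      induction v using Submodule.Quotient.induction_on with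
      | H w => rw [hcqk, hk, Submodule.Quotient.mk_zero]
    exact PG_of_sub_quot ρ U hU hsub hquot

end main

end Cfsg.Agent.Lib.Helper50_QuadNil
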