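import Mathlib

/-!
# S2113 package UDERALG (architect helper50): the values `t' * s t - t * s t'` span the field
-/

set_option autoImplicit false

namespace Cfsg.Agent.Lib.Helper70_S2113_UDERALG

theorem alpha_span {K : Type*} [Field K] [Fintype K] [CharP K 3] (d : ℕ) (hd : 2 ≤ d)
    (hK : Fintype.card K = 3 ^ d) (s : K →+* K) (hs : ∀ x, s (s x) = x ^ 3) :
    AddSubgroup.closure {y : K | ∃ t t' : K, y = t' * s t - t * s t'} = ⊤ := by
  classical
  obtain ⟨S0, hS0⟩ : ∃ S0 : AddSubgroup K,
      S0 = AddSubgroup.closure {y : K | ∃ t t' : K, y = t' * s t - t * s t'} := ⟨_, rfl⟩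
  rw [← hS0]
  have hsinj : Function.Injective s := s.injective
  -- the multiplier group
  let R : AddSubgroup K :=
    { carrier := {r | ∀ y ∈ S0, r * y ∈ S0}
      zero_mem' := fun y _ => by rw [zero_mul]; exact S0.zero_mem
      add_mem' := fun {a b} ha hb y hy => by rw [add_mul]; exact S0.add_mem (ha y hy) (hb y hy)
      neg_mem' := fun {a} ha y hy => by rw [neg_mul]; exact S0.neg_mem (ha y hy) }
  have hRmem : ∀ r, r ∈ R ↔ ∀ y ∈ S0, r * y ∈ S0 := fun r => Iff.rfl
  -- `c * s c` is a multiplier
  have hcs : ∀ c : K, c * s c ∈ R := by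
    intro c y hy
    rw [hS0] at hy ⊢
    induction hy using AddSubgroup.closure_induction with
    | mem y hy =>
      obtain ⟨t, t', rfl⟩ := hy
      apply AddSubgroup.subset_closure
      refine ⟨c * t, c * t', ?_⟩
      rw [map_mul, map_mul]
      ring
    | zero => rw [mul_zero]; exact AddSubgroup.zero_mem _
    | add a b _ _ ha hb => rw [mul_add]; exact AddSubgroup.add_mem _ ha hb
    | neg a _ ha => rw [mul_neg]; exact AddSubgroup.neg_mem _ ha
  -- the fibres of `c ↦ c * s c` have at most two elements
  have hfib : ∀ c c0 : K, c * s c = c0 * s c0 → c = c0 ∨ c = -c0 := by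
    intro c c0 h
    by_cases h0 : c0 = 0
    · subst h0
      rw [map_zero, mul_zero] at h
      rcases mul_eq_zero.mp h with h | h
      · exact Or.inl h
      · exact Or.inl (hsinj (h.trans (map_zero s).symm))
    · have hs0 : s c0 ≠ 0 := fun h' => h0 (hsinj (h'.trans (map_zero s).symm))
      have h2 : s c * c ^ 3 = s c0 * c0 ^ 3 := by
        have := congrArg s h
        rwa [map_mul, map_mul, hs, hs] at this
      have h3 : c0 * s c0 * (c0 ^ 2 - c ^ 2) = 0 := by
        linear_combination c ^ 2 * h - h2
      rcases mul_eq_zero.mp h3 with h4 | h4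
      · exact absurd h4 (mul_ne_zero h0 hs0)
      · have h5 : (c - c0) * (c + c0) = 0 := by linear_combination -h4
        rcases mul_eq_zero.mp h5 with h6 | h6
        · exact Or.inl (sub_eq_zero.mp h6)
        · exact Or.inr (eq_neg_of_add_eq_zero_left h6)
  -- cardinality of `R`
  have hcard2 : Fintype.card K ≤ 2 * Nat.card R := by
    have h1 : (Finset.univ : Finset K).card ≤
        2 * ((Finset.univ : Finset K).image fun c => c * s c).card := by
      apply Finset.card_le_mul_card_image
      intro b hb
      obtain ⟨c0, -, rfl⟩ := Finset.mem_image.mp hb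
      calc (Finset.univ.filter fun x : K => x * s x = c0 * s c0).card
          ≤ ({c0, -c0} : Finset K).card := by
            apply Finset.card_le_card
            intro x hx
            rw [Finset.mem_filter] at hx
            rcases hfib x c0 hx.2 with h | h
            · rw [h]; exact Finset.mem_insert_self _ _
            · rw [h]; exact Finset.mem_insert_of_mem (Finset.mem_singleton_self _)
        _ ≤ 2 := Finset.card_le_two
    have h2 : ((Finset.univ : Finset K).image fun c => c * s c).card ≤ Nat.card R := by
      rw [Nat.card_eq_fintype_card, Fintype.card_subtype]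
      apply Finset.card_le_card
      intro b hb
      obtain ⟨c0, -, rfl⟩ := Finset.mem_image.mp hb
      rw [Finset.mem_filter]
      exact ⟨Finset.mem_univ _, hcs c0⟩
    rw [Finset.card_univ] at h1
    omega
  have hRtop : R = ⊤ := by
    have hdvd : Nat.card R ∣ 3 ^ d := by
      have := AddSubgroup.card_addSubgroup_dvd_card R
      rwa [Nat.card_eq_fintype_card (α := K), hK] at this
    obtain ⟨j, hj, hRj⟩ := (Nat.dvd_prime_pow Nat.prime_three).mp hdvd
    have hjd : j = d := by
      by_contra hne
      have hlt : j < d := lt_of_le_of_ne hj hne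
      have h1 : 3 ^ j ≤ 3 ^ (d - 1) := Nat.pow_le_pow_right (by norm_num) (by omega)
      have h2 : 3 ^ d = 3 * 3 ^ (d - 1) := by
        obtain ⟨e, rfl⟩ : ∃ e, d = e + 1 := ⟨d - 1, by omega⟩
        rw [pow_succ', Nat.add_sub_cancel]
      have h3 : 0 < 3 ^ (d - 1) := by positivity
      rw [hK, hRj] at hcard2
      omega
    apply AddSubgroup.eq_top_of_card_eq
    rw [hRj, hjd, Nat.card_eq_fintype_card, hK]
  -- `S0` is an ideal
  have hideal : ∀ r y : K, y ∈ S0 → r * y ∈ S0 := by
    intro r y hy
    have : r ∈ R := by rw [hRtop]; exact AddSubgroup.mem_top r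
    exact this y hy
  -- `S0` is not zero
  have hne : ∃ t : K, t - s t ≠ 0 := by
    by_contra hall
    push Not at hall
    have hid : ∀ x : K, s x = x := fun x => (sub_eq_zero.mp (hall x)).symm
    have hx3 : ∀ x : K, x ^ 3 = x := by
      intro x
      rw [← hs, hid, hid]
    have hsub : (Finset.univ : Finset K) ⊆ {0, 1, -1} := by
      intro x _
      have h := hx3 x
      have h' : x * ((x - 1) * (x + 1)) = 0 := by linear_combination h
      rcases mul_eq_zero.mp h' with h1 | h1
      · rw [h1]; exact Finset.mem_insert_self _ _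
      · rcases mul_eq_zero.mp h1 with h2 | h2
        · rw [sub_eq_zero.mp h2]
          exact Finset.mem_insert_of_mem (Finset.mem_insert_self _ _)
        · rw [eq_neg_of_add_eq_zero_left h2]
          exact Finset.mem_insert_of_mem (Finset.mem_insert_of_mem (Finset.mem_singleton_self _))
    have hle : Fintype.card K ≤ 3 := by
      rw [← Finset.card_univ]
      exact (Finset.card_le_card hsub).trans Finset.card_le_three
    have h9 : 3 ^ 2 ≤ 3 ^ d := Nat.pow_le_pow_right (by norm_num) hd
    rw [hK] at hle
    omega
  obtain ⟨t0, ht0⟩ := hne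
  have hy0 : t0 - s t0 ∈ S0 := by
    rw [hS0]
    apply AddSubgroup.subset_closure
    refine ⟨1, t0, ?_⟩
    rw [map_one, mul_one, one_mul]
  rw [eq_top_iff]
  intro x _
  have := hideal (x / (t0 - s t0)) _ hy0
  rwa [div_mul_cancel₀ _ ht0] at this

end Cfsg.Agent.Lib.Helper70_S2113_UDERALG
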