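import Mathlib
import Cfsg.Agent.Lib.Helper44_S2113_NILKSUB
import Cfsg.Agent.Lib.Helper46_S2113_UCLASS
import Cfsg.Agent.Lib.Helper46_S2113_UDERGRP
import Cfsg.Agent.Lib.Helper70_S2113_UDERALG

set_option autoImplicit false

/-!
# Helper50_ReeMultBridge: the 3-part of the Schur multiplier of a group with a "Ree Borel subgroup" (S2113)

`U = {w t u v}` with the multiplication rule of the Sylow 3-subgroup of the small Ree group, torus elements `h μ`
acting by the weights `μ² / s μ`, `s μ / μ`, `μ`: in a central extension `σ : Γ → G`, an element of the kernel lying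
in the derived subgroup of the preimage of `U` is trivial.
-/

open scoped commutatorElement

namespace Cfsg.Agent.Lib.Helper50_ReeMultBridge

theorem three_part {G Γ K : Type*} [Group G] [Group Γ] [Field K] [Fintype K] [CharP K 3]
    (d : ℕ) (hd : 3 ≤ d) (hK : Fintype.card K = 3 ^ d)
    (s : K →+* K) (hs : ∀ x, s (s x) = x ^ 3)
    (w : K → K → K → G)
    (w_mul : ∀ t u v t' u' v' : K, w t u v * w t' u' v' =
      w (t + t') (u + u' - t * s t') (v + v' - t' * u + t * t' * s t' - t ^ 2 * s t'))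
    (h : Kˣ → G)
    (h_conj : ∀ (μ : Kˣ) (t u v : K), h μ * w t u v * (h μ)⁻¹ =
      w ((μ : K) ^ 2 * (s μ)⁻¹ * t) (s μ * (μ : K)⁻¹ * u) ((μ : K) * v))
    (U : Subgroup G) (hU : ∀ g, g ∈ U ↔ ∃ t u v : K, g = w t u v)
    (σ : Γ →* G) (hσ : Function.Surjective σ) (hc : σ.ker ≤ Subgroup.center Γ)
    (z : Γ) (hz : z ∈ σ.ker) (hzU : z ∈ ⁅U.comap σ, U.comap σ⁆) : z = 1 := by
  classical
  have w_split : ∀ t u v : K, w t u v = w t 0 0 * w 0 u v := by
    intro t u v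
    rw [w_mul]
    simp
  have hs0 : ∀ x : K, x ≠ 0 → s x ≠ 0 := by
    intro x hx h0
    apply hx
    have := hs x
    rw [h0, map_zero] at this
    exact (pow_eq_zero_iff (n := 3) (by norm_num)).mp this.symm
  -- lifts
  choose a ha using fun t : K => hσ (w t 0 0)
  let μ : Kˣ → Kˣ := fun ν => ν ^ 2 * Units.map (s : K →* K) ν
  have hμ : ∀ ν : Kˣ, ((μ ν : Kˣ) : K) = (ν : K) ^ 2 * s ν := by
    intro ν
    simp [μ]
  have hμ1 : ∀ ν : Kˣ, ((μ ν : Kˣ) : K) ^ 2 * (s (μ ν))⁻¹ = ν := by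
    intro ν
    have h1 : (ν : K) ≠ 0 := ν.ne_zero
    have h2 : s (ν : K) ≠ 0 := hs0 _ h1
    rw [hμ, map_mul, map_pow, hs]
    field_simp
  choose g hg using fun ν : Kˣ => hσ (h (μ ν))
  set P : Subgroup Γ := U.comap σ with hP
  have hspan := Cfsg.Agent.Lib.Helper70_S2113_UDERALG.alpha_span d (by omega) hK s hs
  have hU1 : ∀ u v, w 0 u v ∈ ⁅U, U⁆ := Cfsg.Agent.Lib.Helper46_S2113_UDERGRP.w_zero_mem_commutator s w w_mul U hU hspan
  have hmapP : P.map σ = U := Subgroup.map_comap_eq_self_of_surjective hσ U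
  have hmapc : (⁅P, P⁆).map σ = ⁅U, U⁆ := by rw [Subgroup.map_commutator, hmapP]
  have hL : ∀ x : Γ, ∀ u v, σ x = w 0 u v → x ∈ σ.ker ⊔ ⁅P, P⁆ := by
    intro x u v hx
    have h1 : w 0 u v ∈ (⁅P, P⁆).map σ := by rw [hmapc]; exact hU1 u v
    obtain ⟨c, hc1, hc2⟩ := h1
    have hk : x * c⁻¹ ∈ σ.ker := by
      rw [MonoidHom.mem_ker, map_mul, map_inv, hx, hc2, mul_inv_cancel]
    have h2 : x = (x * c⁻¹) * c := by group
    rw [h2]
    exact Subgroup.mul_mem_sup hk hc1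
  have haP : ∀ t, a t ∈ P := by
    intro t
    rw [hP, Subgroup.mem_comap, ha, hU]
    exact ⟨t, 0, 0, rfl⟩
  have hconjU : ∀ (ν : Kˣ) (y : G), y ∈ U ↔ h ν * y * (h ν)⁻¹ ∈ U := by
    intro ν y
    have h1 : (ν : K) ≠ 0 := ν.ne_zero
    have h2 : s (ν : K) ≠ 0 := hs0 _ h1
    constructor
    · intro hy
      obtain ⟨t, u, v, rfl⟩ := (hU y).mp hy
      rw [h_conj, hU]
      exact ⟨_, _, _, rfl⟩
    · intro hy
      obtain ⟨t, u, v, htuv⟩ := (hU _).mp hy
      have h3 := h_conj ν (((ν : K) ^ 2 * (s ν)⁻¹)⁻¹ * t) ((s ν * (ν : K)⁻¹)⁻¹ * u) ((ν : K)⁻¹ * v)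
      have e1 : (ν : K) ^ 2 * (s ν)⁻¹ * (((ν : K) ^ 2 * (s ν)⁻¹)⁻¹ * t) = t := by field_simp
      have e2 : s ν * (ν : K)⁻¹ * ((s ν * (ν : K)⁻¹)⁻¹ * u) = u := by field_simp
      have e3 : (ν : K) * ((ν : K)⁻¹ * v) = v := by field_simp
      rw [e1, e2, e3, ← htuv] at h3
      have h4 : y = w (((ν : K) ^ 2 * (s ν)⁻¹)⁻¹ * t) ((s ν * (ν : K)⁻¹)⁻¹ * u) ((ν : K)⁻¹ * v) := by
        have := mul_left_cancel (mul_right_cancel h3)
        exact this.symm
      rw [h4, hU]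
      exact ⟨_, _, _, rfl⟩
  have step : ∀ k, 1 ≤ k → k ≤ 3 → z ∈ P.lowerCentralSeries k → z ∈ P.lowerCentralSeries (k + 1) := by
    intro k hk1 hk3 hzk
    refine Cfsg.Agent.Lib.Helper44_S2113_NILKSUB.nilk_sub d k hK hk1 (by omega) P σ.ker hc a haP ?_ ?_ g ?_ ?_ z hzk ?_
    · intro t t'
      have h1 : σ ((a (t + t'))⁻¹ * (a t * a t')) =
          w 0 (0 + 0 - t * s t') (0 + 0 - t' * 0 + t * t' * s t' - t ^ 2 * s t') := by
        rw [map_mul, map_inv, map_mul, ha, ha, ha, w_mul,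
          w_split (t + t') (0 + 0 - t * s t') (0 + 0 - t' * 0 + t * t' * s t' - t ^ 2 * s t'),
          inv_mul_cancel_left]
      exact hL _ _ _ h1
    · intro x hx
      obtain ⟨t, u, v, hxw⟩ := (hU _).mp hx
      refine ⟨t, hL _ u v ?_⟩
      rw [map_mul, map_inv, ha, hxw, w_split t u v, inv_mul_cancel_left]
    · intro ν x
      rw [hP, Subgroup.mem_comap, Subgroup.mem_comap, map_mul, map_mul, map_inv, hg]
      exact hconjU (μ ν) (σ x)
    · intro ν t
      apply Subgroup.mem_sup_left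
      rw [MonoidHom.mem_ker, map_mul, map_inv, map_mul, map_mul, map_inv, hg, ha, ha, h_conj, hμ1]
      simp
    · intro ν
      have := Subgroup.mem_center_iff.mp (hc hz) (g ν)
      rw [this, mul_inv_cancel_right]
  have h4 : P.lowerCentralSeries 4 = ⊥ := by
    apply Subgroup.lowerCentralSeries_succ_eq_bot
    refine le_trans ?_ hc
    intro x hx
    have h1 : σ x ∈ (P.lowerCentralSeries 3).map σ := Subgroup.mem_map_of_mem σ hx
    rw [Subgroup.map_lowerCentralSeries, hmapP, Cfsg.Agent.Lib.Helper46_S2113_UCLASS.u_class s w w_mul U hU] at h1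
    exact h1
  have hz1 : z ∈ P.lowerCentralSeries 1 := hzU
  have hz4 := step 3 (by norm_num) (by norm_num) (step 2 (by norm_num) (by norm_num) (step 1 (by norm_num) (by norm_num) hz1))
  rw [h4] at hz4
  exact hz4

end Cfsg.Agent.Lib.Helper50_ReeMultBridge
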