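import Mathlib

/-!
# S2113 package E8SYL (architect helper50)

The preimage, under a central extension, of an elementary abelian subgroup `S` of order 8 with
`C(S) = S` and `|N(S)| = 168` is abelian.

Proof without characters.  An element `x` of order 7 of `N(S)` permutes `S \ 1` transitively, so
`S \ 1 = {x^n v x^-n}`.  Lifts `t` of `x`, `u` of `v`; `w n = t^n u t^-n`; `e n = ⁅u, w n⁆` (central).
`v * x v x⁻¹ = x^k v x^-k` gives `w n * w (n+1) = w (k+n) * m`, `m` central; expanding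
`⁅u * w 1, w (n+1) * w (n+2)⁆ = ⁅w k * m, w (k+n+1) * m⁆ = e (n+1)` bimultiplicatively gives
`e (n+2) * e n * e (n+1) = 1`; with `e 0 = 1 = e 7` all `e n` are trivial.
-/

set_option autoImplicit false

open scoped commutatorElement

namespace Cfsg.Agent.Lib.Helper55_S2113_E8SYL

section core

variable {Γ : Type*} [Group Γ]

theorem comm_mul_left_of_central (a a' b : Γ) (h : ⁅a', b⁆ ∈ Subgroup.center Γ) :
    ⁅a * a', b⁆ = ⁅a, b⁆ * ⁅a', b⁆ := by
  have hz := Subgroup.mem_center_iff.1 h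
  have h1 : ⁅a * a', b⁆ = a * ⁅a', b⁆ * a⁻¹ * ⁅a, b⁆ := by
    simp only [commutatorElement_def]; group
  rw [h1, hz a, mul_inv_cancel_right, ← hz]

theorem comm_mul_right_of_central (a b b' : Γ) (h : ⁅a, b'⁆ ∈ Subgroup.center Γ) :
    ⁅a, b * b'⁆ = ⁅a, b⁆ * ⁅a, b'⁆ := by
  have hz := Subgroup.mem_center_iff.1 h
  have h1 : ⁅a, b * b'⁆ = a * b * a⁻¹ * ⁅a, b'⁆ * b⁻¹ := by
    simp only [commutatorElement_def]; group
  rw [h1, mul_assoc _ _ b⁻¹, ← hz b⁻¹, ← mul_assoc]
  simp only [commutatorElement_def]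

theorem comm_mul_central_left (a b m : Γ) (hm : m ∈ Subgroup.center Γ) :
    ⁅a * m, b⁆ = ⁅a, b⁆ := by
  have hz := Subgroup.mem_center_iff.1 hm
  simp only [commutatorElement_def, mul_inv_rev]
  rw [mul_assoc a m b, ← hz b]
  group

theorem comm_mul_central_right (a b m : Γ) (hm : m ∈ Subgroup.center Γ) :
    ⁅a, b * m⁆ = ⁅a, b⁆ := by
  have hz := Subgroup.mem_center_iff.1 hm
  simp only [commutatorElement_def, mul_inv_rev]
  rw [← mul_assoc a b m, mul_assoc (a * b) m, ← hz a⁻¹]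
  group

theorem comm_conj_of_central (g a b : Γ) (h : ⁅a, b⁆ ∈ Subgroup.center Γ) :
    ⁅g * a * g⁻¹, g * b * g⁻¹⁆ = ⁅a, b⁆ := by
  have hz := Subgroup.mem_center_iff.1 h
  rw [← conjugate_commutatorElement, hz g, mul_inv_cancel_right]

/-- the core computation -/
theorem core (T : Subgroup Γ) (hT : ∀ a ∈ T, ∀ b ∈ T, ⁅a, b⁆ ∈ Subgroup.center Γ)
    (t : Γ) (hnorm : ∀ a ∈ T, t * a * t⁻¹ ∈ T) (ht7 : t ^ 7 ∈ Subgroup.center Γ)
    (u : Γ) (hu : u ∈ T) (k : ℕ) (m : Γ) (hm : m ∈ Subgroup.center Γ)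
    (hk : u * (t * u * t⁻¹) = t ^ k * u * (t ^ k)⁻¹ * m) (n : ℕ) :
    ⁅u, t ^ n * u * (t ^ n)⁻¹⁆ = 1 := by
  set w : ℕ → Γ := fun n => t ^ n * u * (t ^ n)⁻¹ with hw
  have w0 : w 0 = u := by simp [hw]
  have w_succ : ∀ n, w (n + 1) = t * w n * t⁻¹ := by
    intro n
    simp only [hw, pow_succ', mul_inv_rev]
    group
  have w_mem : ∀ n, w n ∈ T := by
    intro n
    induction n with
    | zero => rw [w0]; exact hu
    | succ n ih => rw [w_succ]; exact hnorm _ ih
  have w_conj : ∀ j n, t ^ j * w n * (t ^ j)⁻¹ = w (j + n) := by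
    intro j n
    simp only [hw, pow_add, mul_inv_rev]
    group
  have hcen : ∀ i j, ⁅w i, w j⁆ ∈ Subgroup.center Γ := fun i j => hT _ (w_mem i) _ (w_mem j)
  have hinv : ∀ j i l, ⁅w (j + i), w (j + l)⁆ = ⁅w i, w l⁆ := by
    intro j i l
    rw [← w_conj j i, ← w_conj j l]
    exact comm_conj_of_central _ _ _ (hcen i l)
  have hrel : ∀ n, w n * w (n + 1) = w (k + n) * m := by
    intro n
    have h1 : t ^ n * (u * (t * u * t⁻¹)) * (t ^ n)⁻¹ = w n * w (n + 1) := by
      rw [w_succ]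
      simp only [hw]
      group
    have hmz := Subgroup.mem_center_iff.1 hm
    have h2 : t ^ n * (t ^ k * u * (t ^ k)⁻¹ * m) * (t ^ n)⁻¹ = w (k + n) * m := by
      rw [← mul_assoc (t ^ n), mul_assoc _ m, ← hmz, ← mul_assoc]
      congr 1
      have : t ^ k * u * (t ^ k)⁻¹ = w k := rfl
      rw [this, w_conj, add_comm]
    rw [← h1, hk, h2]
  set e : ℕ → Γ := fun n => ⁅u, w n⁆ with he
  have e_cen : ∀ n, e n ∈ Subgroup.center Γ := by
    intro n
    have := hcen 0 n
    rwa [w0] at this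
  have e_comm : ∀ i (g : Γ), g * e i = e i * g := fun i g => Subgroup.mem_center_iff.1 (e_cen i) g
  have key : ∀ n, e (n + 2) * e n * e (n + 1) = 1 := by
    intro n
    have hA : ⁅u * w 1, w (n + 1) * w (n + 2)⁆ = e (n + 1) := by
      have r0 := hrel 0
      rw [w0] at r0
      have r1 := hrel (n + 1)
      rw [show n + 1 + 1 = n + 2 from rfl] at r1
      rw [r0, r1, comm_mul_central_left _ _ _ hm, comm_mul_central_right _ _ _ hm]
      have := hinv k 0 (n + 1)
      rw [add_zero, w0] at this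
      exact this
    have hB : ⁅u * w 1, w (n + 1) * w (n + 2)⁆ = e (n + 1) * e (n + 2) * (e n * e (n + 1)) := by
      have c1 : ⁅w 1, w (n + 1) * w (n + 2)⁆ ∈ Subgroup.center Γ :=
        hT _ (w_mem 1) _ (T.mul_mem (w_mem _) (w_mem _))
      rw [comm_mul_left_of_central _ _ _ c1]
      have c2 : ⁅u, w (n + 2)⁆ ∈ Subgroup.center Γ := e_cen (n + 2)
      rw [comm_mul_right_of_central _ _ _ c2]
      rw [comm_mul_right_of_central _ _ _ (hcen 1 (n + 2))]
      have h1 : ⁅w 1, w (n + 1)⁆ = e n := by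
        have := hinv 1 0 n
        rw [w0, add_zero, add_comm 1 n] at this
        exact this
      have h2 : ⁅w 1, w (n + 2)⁆ = e (n + 1) := by
        have := hinv 1 0 (n + 1)
        rw [w0, add_zero, add_comm 1 (n + 1)] at this
        exact this
      rw [h1, h2]
    have hC : e (n + 1) * (e (n + 2) * e n * e (n + 1)) = e (n + 1) * 1 := by
      rw [mul_one]
      conv_rhs => rw [← hA, hB]
      simp only [mul_assoc]
    exact mul_left_cancel hC
  have e0 : e 0 = 1 := by
    simp only [he, w0]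
    exact commutatorElement_self u
  have e7 : e 7 = 1 := by
    have hz := Subgroup.mem_center_iff.1 ht7
    have : w 7 = u := by
      simp only [hw]
      rw [← hz u, mul_inv_cancel_right]
    simp only [he, this]
    exact commutatorElement_self u
  have e2 : e 2 = (e 1)⁻¹ := by
    have := key 0
    rw [e0, mul_one] at this
    exact eq_inv_of_mul_eq_one_left this
  have e3 : e 3 = 1 := by
    have := key 1
    rw [e2, mul_assoc, mul_inv_cancel, mul_one] at this
    exact this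
  have e4 : e 4 = e 1 := by
    have := key 2
    rw [e3, mul_one, e2] at this
    exact mul_inv_eq_one.1 this
  have e5 : e 5 = (e 1)⁻¹ := by
    have := key 3
    rw [e3, mul_one, e4] at this
    exact eq_inv_of_mul_eq_one_left this
  have e6 : e 6 = 1 := by
    have := key 4
    rw [e4, e5, mul_assoc, mul_inv_cancel, mul_one] at this
    exact this
  have e1 : e 1 = 1 := by
    have := key 5
    rw [e7, e5, e6, one_mul, mul_one] at this
    exact inv_eq_one.1 this
  have hall : ∀ n, e n = 1 ∧ e (n + 1) = 1 := by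
    intro n
    induction n with
    | zero => exact ⟨e0, e1⟩
    | succ n ih =>
      refine ⟨ih.2, ?_⟩
      have := key n
      rw [ih.1, ih.2, mul_one, mul_one] at this
      exact this
  exact (hall n).1

end core

/-- E8SYL: the preimage, under a central extension, of an elementary abelian subgroup `S` of order 8
with `C(S) = S` and `|N(S)| = 168` is abelian. -/
theorem comm_of_e8 {Γ G : Type*} [Group Γ] [Group G] [Finite Γ] (σ : Γ →* G)
    (hσ : Function.Surjective σ) (hc : σ.ker ≤ Subgroup.center Γ)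
    (S : Subgroup G) (h8 : Nat.card S = 8) (hexp : ∀ x ∈ S, x * x = 1)
    (hcent : Subgroup.centralizer (S : Set G) = S)
    (hN : Nat.card (Subgroup.normalizer (S : Set G)) = 168)
    (a b : Γ) (ha : σ a ∈ S) (hb : σ b ∈ S) : a * b = b * a := by
  classical
  have : Finite G := Finite.of_surjective σ hσ
  -- `S` is abelian
  have hSab : ∀ s ∈ S, ∀ s' ∈ S, s * s' = s' * s := by
    intro s hs s' hs'
    have h1 : s' ∈ Subgroup.centralizer (S : Set G) := by rw [hcent]; exact hs'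
    exact Subgroup.mem_centralizer_iff.1 h1 s hs
  set T : Subgroup Γ := S.comap σ with hTdef
  have hTc : ∀ a ∈ T, ∀ b ∈ T, ⁅a, b⁆ ∈ Subgroup.center Γ := by
    intro a ha b hb
    apply hc
    rw [MonoidHom.mem_ker, map_commutatorElement, commutatorElement_eq_one_iff_mul_comm]
    exact hSab _ ha _ hb
  have hker : ∀ g : Γ, σ g = 1 → ∀ y : Γ, g * y = y * g := by
    intro g hg y
    exact (Subgroup.mem_center_iff.1 (hc (MonoidHom.mem_ker.2 hg)) y).symm
  -- the element of order 7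
  have : Fact (Nat.Prime 7) := ⟨by norm_num⟩
  obtain ⟨x', hx'⟩ := exists_prime_orderOf_dvd_card'
    (G := ↥(Subgroup.normalizer (S : Set G))) 7 (by rw [hN]; norm_num)
  obtain ⟨x, hxN⟩ := x'
  have hx7 : orderOf x = 7 := by rw [← hx']; exact (Subgroup.orderOf_mk x hxN).symm
  have hxS : x ∉ S := by
    intro hx
    have h1 : x ^ 2 = 1 := by rw [pow_two]; exact hexp x hx
    have h2 := orderOf_dvd_of_pow_eq_one h1
    rw [hx7] at h2
    omega
  have hxC : x ∉ Subgroup.centralizer (S : Set G) := by rw [hcent]; exact hxS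
  obtain ⟨v, hvS, hvx⟩ : ∃ v ∈ S, v * x ≠ x * v := by
    by_contra h
    push Not at h
    exact hxC (Subgroup.mem_centralizer_iff.2 h)
  have hnormS : ∀ (n : ℕ) (s : G), s ∈ S ↔ x ^ n * s * (x ^ n)⁻¹ ∈ S := by
    intro n s
    exact Subgroup.mem_normalizer_iff.1 (Subgroup.pow_mem _ hxN n) s
  set ov : ℕ → G := fun n => x ^ n * v * (x ^ n)⁻¹ with hov
  have ov_mem : ∀ n, ov n ∈ S := fun n => (hnormS n v).1 hvS
  have hv1 : v ≠ 1 := by
    intro h
    apply hvx
    rw [h, one_mul, mul_one]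
  have ov_ne : ∀ n, ov n ≠ 1 := by
    intro n h
    apply hv1
    have : v = (x ^ n)⁻¹ * ov n * x ^ n := by simp only [hov]; group
    rw [this, h]
    group
  -- injectivity of the orbit map
  have ov_lt : ∀ i j, i < j → j < 7 → ov i ≠ ov j := by
    intro i j hij hj h
    obtain ⟨d, rfl⟩ := Nat.exists_eq_add_of_lt hij
    have hd : x ^ (d + 1) * v = v * x ^ (d + 1) := by
      have h1 : v = x ^ (d + 1) * v * (x ^ (d + 1))⁻¹ := by
        have h2 : (x ^ i)⁻¹ * ov i * x ^ i = (x ^ i)⁻¹ * ov (i + d + 1) * x ^ i := by rw [h]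
        simp only [hov] at h2
        rw [show i + d + 1 = i + (d + 1) by ring, pow_add] at h2
        calc v = (x ^ i)⁻¹ * (x ^ i * v * (x ^ i)⁻¹) * x ^ i := by group
          _ = (x ^ i)⁻¹ * (x ^ i * x ^ (d + 1) * v * (x ^ i * x ^ (d + 1))⁻¹) * x ^ i := h2
          _ = x ^ (d + 1) * v * (x ^ (d + 1))⁻¹ := by
              have hcomm : x ^ i * x ^ (d + 1) = x ^ (d + 1) * x ^ i := by
                rw [← pow_add, ← pow_add, add_comm]
              rw [hcomm]
              group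
      calc x ^ (d + 1) * v = x ^ (d + 1) * v * (x ^ (d + 1))⁻¹ * x ^ (d + 1) := by group
        _ = v * x ^ (d + 1) := by rw [← h1]
    have hcop : Nat.Coprime (d + 1) (orderOf x) := by
      rw [hx7]
      exact Nat.Coprime.symm ((Nat.Prime.coprime_iff_not_dvd (by norm_num)).2
        (Nat.not_dvd_of_pos_of_lt (by omega) (by omega)))
    obtain ⟨l, hl⟩ := exists_pow_eq_self_of_coprime hcop
    apply hvx
    have h3 : Commute (x ^ (d + 1)) v := hd
    have h4 : Commute ((x ^ (d + 1)) ^ l) v := h3.pow_left l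
    rw [hl] at h4
    exact h4.eq.symm
  have ov_inj : Function.Injective (fun n : Fin 7 => ov n.1) := by
    intro i j h
    by_contra hne
    rcases lt_or_gt_of_ne (fun h' => hne (Fin.ext h')) with hlt | hlt
    · exact ov_lt i.1 j.1 hlt j.2 h
    · exact ov_lt j.1 i.1 hlt i.2 h.symm
  have hrange : Set.range (fun n : Fin 7 => ov n.1) = (S : Set G) \ {1} := by
    apply Set.eq_of_subset_of_ncard_le
    · rintro _ ⟨n, rfl⟩
      exact ⟨ov_mem n.1, ov_ne n.1⟩
    · rw [Set.ncard_range_of_injective ov_inj, Set.ncard_sdiff_singleton_of_mem S.one_mem,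
        ← Nat.card_coe_set_eq]
      have : Nat.card ↥(S : Set G) = 8 := h8
      rw [this]
      simp
    · exact Set.toFinite _
  have horb : ∀ s ∈ S, s = 1 ∨ ∃ n : ℕ, s = ov n := by
    intro s hs
    by_cases h1 : s = 1
    · exact Or.inl h1
    · right
      have : s ∈ (S : Set G) \ {1} := ⟨hs, h1⟩
      rw [← hrange] at this
      obtain ⟨n, hn⟩ := this
      exact ⟨n.1, hn.symm⟩
  -- lifts
  obtain ⟨t, ht⟩ := hσ x
  obtain ⟨u, hu⟩ := hσ v
  have huT : u ∈ T := by
    show σ u ∈ S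
    rw [hu]; exact hvS
  have hnorm : ∀ a ∈ T, t * a * t⁻¹ ∈ T := by
    intro a ha
    show σ (t * a * t⁻¹) ∈ S
    rw [map_mul, map_mul, map_inv, ht]
    have := (hnormS 1 (σ a)).1 ha
    rwa [pow_one] at this
  have ht7 : t ^ 7 ∈ Subgroup.center Γ := by
    apply hc
    rw [MonoidHom.mem_ker, map_pow, ht, ← hx7, pow_orderOf_eq_one]
  have hσw : ∀ n, σ (t ^ n * u * (t ^ n)⁻¹) = ov n := by
    intro n
    rw [map_mul, map_mul, map_inv, map_pow, ht, hu]
  -- the relation
  have hprod_mem : v * (x * v * x⁻¹) ∈ S := by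
    have := (hnormS 1 v).1 hvS
    rw [pow_one] at this
    exact S.mul_mem hvS this
  have hprod_ne : v * (x * v * x⁻¹) ≠ 1 := by
    intro h
    apply hvx
    have hvv := hexp v hvS
    have h1 : x * v * x⁻¹ = v := by
      have : v * (x * v * x⁻¹) = v * v := by rw [h, hvv]
      exact mul_left_cancel this
    calc v * x = x * v * x⁻¹ * x := by rw [h1]
      _ = x * v := by group
  obtain ⟨k, hk⟩ : ∃ k : ℕ, v * (x * v * x⁻¹) = ov k := by
    rcases horb _ hprod_mem with h | h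
    · exact absurd h hprod_ne
    · exact h
  set m : Γ := (t ^ k * u * (t ^ k)⁻¹)⁻¹ * (u * (t * u * t⁻¹)) with hm
  have hmc : m ∈ Subgroup.center Γ := by
    apply hc
    rw [MonoidHom.mem_ker, hm, map_mul, map_inv, hσw, map_mul, map_mul, map_mul, map_inv, ht, hu,
      hk, inv_mul_cancel]
  have hkm : u * (t * u * t⁻¹) = t ^ k * u * (t ^ k)⁻¹ * m := by
    rw [hm]; group
  have hcore := core T hTc t hnorm ht7 u huT k m hmc hkm
  -- `u` commutes with `T`
  have hdecomp : ∀ y ∈ T, (∀ z : Γ, y * z = z * y) ∨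
      ∃ (n : ℕ) (m' : Γ), (∀ z : Γ, m' * z = z * m') ∧ y = t ^ n * u * (t ^ n)⁻¹ * m' := by
    intro y hy
    rcases horb (σ y) hy with h | ⟨n, hn⟩
    · exact Or.inl (hker y h)
    · right
      refine ⟨n, (t ^ n * u * (t ^ n)⁻¹)⁻¹ * y, ?_, by group⟩
      apply hker
      rw [map_mul, map_inv, hσw, hn, inv_mul_cancel]
  have hu_comm : ∀ y ∈ T, u * y = y * u := by
    intro y hy
    rcases hdecomp y hy with h | ⟨n, m', hm', rfl⟩
    · exact (h u).symm
    · have h1 : u * (t ^ n * u * (t ^ n)⁻¹) = t ^ n * u * (t ^ n)⁻¹ * u :=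
        commutatorElement_eq_one_iff_mul_comm.1 (hcore n)
      rw [← mul_assoc, h1, mul_assoc, mul_assoc (t ^ n * u * (t ^ n)⁻¹), hm' u]
  have hT_back : ∀ (n : ℕ) (y : Γ), y ∈ T → (t ^ n)⁻¹ * y * t ^ n ∈ T := by
    intro n y hy
    show σ ((t ^ n)⁻¹ * y * t ^ n) ∈ S
    rw [hnormS n]
    rw [map_mul, map_mul, map_inv, map_pow, ht]
    have : x ^ n * ((x ^ n)⁻¹ * σ y * x ^ n) * (x ^ n)⁻¹ = σ y := by group
    rw [this]
    exact hy
  have hw_comm : ∀ (n : ℕ), ∀ y ∈ T, t ^ n * u * (t ^ n)⁻¹ * y = y * (t ^ n * u * (t ^ n)⁻¹) := by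
    intro n y hy
    have h1 := hu_comm _ (hT_back n y hy)
    calc t ^ n * u * (t ^ n)⁻¹ * y = t ^ n * (u * ((t ^ n)⁻¹ * y * t ^ n)) * (t ^ n)⁻¹ := by group
      _ = t ^ n * ((t ^ n)⁻¹ * y * t ^ n * u) * (t ^ n)⁻¹ := by rw [h1]
      _ = y * (t ^ n * u * (t ^ n)⁻¹) := by group
  rcases hdecomp a ha with h | ⟨n, m', hm', rfl⟩
  · exact h b
  · rw [mul_assoc, hm' b, ← mul_assoc, hw_comm n b hb, mul_assoc, mul_assoc]

end Cfsg.Agent.Lib.Helper55_S2113_E8SYL
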