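import Mathlib
import Cfsg.Prelude.Def_KGroupFacts
import Cfsg.Agent.Lib.Helper44_S2113_GLUE
import Cfsg.Agent.Lib.Helper44_S2113_TRANSFER
import Cfsg.Agent.Lib.Helper44_S2113_CYCSYL
import Cfsg.Agent.Lib.Helper55_S2113_E8SYL
import Cfsg.Agent.Lib.Helper50_ReeMultBridge

set_option autoImplicit false

/-!
# Helper50_ReeMultAbs: the Schur multiplier of a group with the local structure of the small Ree group is trivial

Abstract form of S2113: Sylow `p`-subgroups cyclic for `p > 3`, Sylow 2-subgroups elementary abelian of order 8 with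
`C(S) = S` and `|N(S)| = 168`, and a subgroup `U = {w t u v}` of index prime to 3 with the Ree multiplication rule and
torus action.
-/

universe u

open scoped commutatorElement

namespace Cfsg.Agent.Lib.Helper50_ReeMultAbs

theorem mult_trivial_abs {G : Type u} [Group G] [Finite G] {K : Type*} [Field K] [Fintype K]
    (d : ℕ) (hd : 3 ≤ d) (hK : Fintype.card K = 3 ^ d)
    (s : K →+* K) (hs : ∀ x, s (s x) = x ^ 3)
    (w : K → K → K → G)
    (w_mul : ∀ t u v t' u' v' : K, w t u v * w t' u' v' =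
      w (t + t') (u + u' - t * s t') (v + v' - t' * u + t * t' * s t' - t ^ 2 * s t'))
    (h : Kˣ → G)
    (h_conj : ∀ (μ : Kˣ) (t u v : K), h μ * w t u v * (h μ)⁻¹ =
      w ((μ : K) ^ 2 * (s μ)⁻¹ * t) (s μ * (μ : K)⁻¹ * u) ((μ : K) * v))
    (U : Subgroup G) (hU : ∀ g, g ∈ U ↔ ∃ t u v : K, g = w t u v) (hUidx : ¬ 3 ∣ U.index)
    (h2 : ∀ S : Sylow 2 G, Nat.card S = 8 ∧ (∀ x ∈ S, x * x = 1) ∧
      Subgroup.centralizer ((S : Subgroup G) : Set G) = S ∧
      Nat.card (Subgroup.normalizer ((S : Subgroup G) : Set G)) = 168)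
    (hp : ∀ (p : ℕ) [Fact p.Prime], 3 < p → ∀ P : Sylow p G, IsCyclic (P : Subgroup G)) :
    Cfsg.HasCyclicSchurMultiplier G 1 := by
  have hchar : CharP K 3 := by
    obtain ⟨p, hp⟩ := CharP.exists K
    have := hp
    obtain ⟨n, hpn, hcard⟩ := FiniteField.card K p
    have h3 : (3 : ℕ) ∣ p ^ (n : ℕ) := by
      rw [← hcard, hK]
      exact dvd_pow_self 3 (by omega)
    have h3p : 3 ∣ p := Nat.Prime.dvd_of_dvd_pow Nat.prime_three h3
    have : p = 3 := ((Nat.prime_dvd_prime_iff_eq Nat.prime_three hpn).mp h3p).symm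
    subst this
    exact hp
  apply Cfsg.Agent.Lib.Helper44_S2113_GLUE.schur_one_of_forall
  intro Γ _ _ σ hst p hpp z hz hzp
  obtain ⟨hσ, hc, hdd⟩ := hst
  have hfact : Fact p.Prime := ⟨hpp⟩
  by_cases hp2 : p = 2
  · subst hp2
    obtain ⟨S⟩ : Nonempty (Sylow 2 G) := inferInstance
    obtain ⟨h8, hexp, hcent, hN⟩ := h2 S
    refine Cfsg.Agent.Lib.Helper44_S2113_TRANSFER.no_torsion_of_comm σ hσ hc hdd (S : Subgroup G) 2 hpp S.not_dvd_index ?_ z hz hzp
    intro a b ha hb
    exact Cfsg.Agent.Lib.Helper55_S2113_E8SYL.comm_of_e8 σ hσ hc (S : Subgroup G) h8 hexp hcent hN a b ha hb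
  by_cases hp3 : p = 3
  · subst hp3
    have h1 := Cfsg.Agent.Lib.Helper44_S2113_TRANSFER.transfer_pow_mem σ hσ hc hdd U z hz
    have h2' : z ^ U.index = 1 :=
      Cfsg.Agent.Lib.Helper50_ReeMultBridge.three_part d hd hK s hs w w_mul h h_conj U hU σ hσ hc (z ^ U.index)
        (Subgroup.pow_mem _ hz _) h1
    have hcop : Nat.Coprime 3 U.index := (Nat.Prime.coprime_iff_not_dvd hpp).mpr hUidx
    have ho : orderOf z ∣ Nat.gcd 3 U.index :=
      Nat.dvd_gcd (orderOf_dvd_of_pow_eq_one hzp) (orderOf_dvd_of_pow_eq_one h2')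
    rw [hcop] at ho
    exact orderOf_eq_one_iff.mp (Nat.dvd_one.mp ho)
  · have hp5 : 3 < p := by
      have := hpp.two_le
      rcases Nat.lt_or_ge 3 p with h | h
      · exact h
      · interval_cases p
        · exact absurd rfl hp2
        · exact absurd rfl hp3
    obtain ⟨S⟩ : Nonempty (Sylow p G) := inferInstance
    refine Cfsg.Agent.Lib.Helper44_S2113_TRANSFER.no_torsion_of_comm σ hσ hc hdd (S : Subgroup G) p hpp S.not_dvd_index ?_ z hz hzp
    intro a b ha hb
    exact Cfsg.Agent.Lib.Helper44_S2113_CYCSYL.comm_of_isCyclic σ hσ hc (S : Subgroup G) (hp p hp5 S) a b ha hb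

end Cfsg.Agent.Lib.Helper50_ReeMultAbs
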