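import Cfsg.Agent.Lib.Helper50_SL2Std
import Cfsg.Agent.S0260

/-!
The parabolic class, semisimple centralisers and their normalisers, and the Borel subgroup
`Bn` in standard position.
-/

set_option autoImplicit false

namespace Cfsg.Agent.Lib.Helper50_SL2Classes

open Matrix Cfsg.Agent.Lib.Helper50_SL2Mat Cfsg.Agent.Lib.Helper50_CTClass
  Cfsg.Agent.Lib.Helper50_SL2Rep Cfsg.Agent.Lib.Helper50_SL2Std
open scoped MatrixGroups

variable {F : Type*} [Field F]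

/-- `p`-subgroups of `SL(2,F)` are commutative -/
theorem commute_of_isPGroup [Fintype F] (p : ℕ) [Fact p.Prime] [CharP F p]
    (P : Subgroup SL(2, F)) (hP : IsPGroup p P) {a b : SL(2, F)} (ha : a ∈ P) (hb : b ∈ P) :
    Commute a b := by
  obtain ⟨S, hPS⟩ := hP.exists_le_sylow
  obtain ⟨g, rfl⟩ := MulAction.exists_smul_eq SL(2, F) (Cfsg.Agent.S0260.US p) S
  have key : ∀ x : SL(2, F), x ∈ P → ∃ t : F, g⁻¹ * x * g = Cfsg.Agent.S0260.uT t := by
    intro x hx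
    have hx' := hPS hx
    rw [Sylow.coe_subgroup_smul, Cfsg.Agent.S0260.coe_US,
      Subgroup.mem_pointwise_smul_iff_inv_smul_mem] at hx'
    simp only [MulAut.smul_def, MulAut.inv_apply, MulAut.conj_symm_apply] at hx'
    exact (Cfsg.Agent.S0260.mem_U_iff _).1 hx'
  obtain ⟨s, hs⟩ := key a ha
  obtain ⟨t, ht⟩ := key b hb
  have hc : Commute (g⁻¹ * a * g) (g⁻¹ * b * g) := by
    rw [hs, ht]
    unfold Commute SemiconjBy
    have e1 : Cfsg.Agent.S0260.uT s * Cfsg.Agent.S0260.uT t =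
        Cfsg.Agent.S0260.uHom (Multiplicative.ofAdd s * Multiplicative.ofAdd t) :=
      (map_mul Cfsg.Agent.S0260.uHom _ _).symm
    have e2 : Cfsg.Agent.S0260.uT t * Cfsg.Agent.S0260.uT s =
        Cfsg.Agent.S0260.uHom (Multiplicative.ofAdd t * Multiplicative.ofAdd s) :=
      (map_mul Cfsg.Agent.S0260.uHom _ _).symm
    rw [e1, e2, mul_comm]
  have := commute_of_conj g⁻¹ (by simpa using hc)
  exact this

variable {Γ : Type*} [Group Γ] {p : ℕ} {ρ : Γ →* SL(2, F)}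

theorem isPGroup_zpowers {w : Γ} (hw : w ^ p = 1) : IsPGroup p (Subgroup.zpowers w) := by
  rintro ⟨g, hg⟩
  obtain ⟨i, rfl⟩ := Subgroup.mem_zpowers_iff.1 hg
  refine ⟨1, Subtype.ext ?_⟩
  rw [pow_one, Subgroup.coe_pow, Subgroup.coe_one]
  show (w ^ i) ^ p = 1
  rw [← zpow_natCast, ← _root_.zpow_mul, mul_comm, _root_.zpow_mul, zpow_natCast, hw, _root_.one_zpow]

/-- `p`-subgroups of `Γ` are commutative -/
theorem commute_of_isPGroup' [Fintype F] [Fact p.Prime] [CharP F p] (hρ : Function.Injective ρ)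
    (P : Subgroup Γ) (hP : IsPGroup p P) {a b : Γ} (ha : a ∈ P) (hb : b ∈ P) : Commute a b := by
  rw [commute_iff_map hρ]
  exact commute_of_isPGroup p (P.map ρ) (hP.map ρ) (Subgroup.mem_map_of_mem ρ ha)
    (Subgroup.mem_map_of_mem ρ hb)

theorem not_isScalar_conj (hρ : Function.Injective ρ) {x : Γ} (hx : x ∉ Zs ρ) (g : Γ) :
    ¬ IsScalar (ρ (g * x * g⁻¹)) := by
  intro hs
  exact hx (((ct hρ).conj_mem_iff g x).1 hs)

theorem tr_conj' (g x : Γ) : tr (ρ (g * x * g⁻¹)) = tr (ρ x) := by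
  rw [map_mul, map_mul, map_inv, tr_conj]

variable {u v : Γ} {α β : F}

/-- elements of `cls u` are parabolic -/
theorem std_tr_of_mem_cls (h : Std p ρ u v α β) {y : Γ} (hy : y ∈ cls (Zs ρ) u) :
    tr (ρ y) * tr (ρ y) = 4 := by
  obtain ⟨_, g, hg⟩ := hy
  apply tr_sq_of_commute (not_isScalar_conj h.inj h.u_not_mem_Zs g)
    (((commute_iff_map h.inj _ _).1 hg).symm)
  rw [tr_conj', h.hu, tr_tU]; norm_num

/-- the type is constant on classes -/
theorem tr_of_mem_cls (hρ : Function.Injective ρ) {x y : Γ} (hx : x ∉ Zs ρ)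
    (hy : y ∈ cls (Zs ρ) x) (ht : tr (ρ y) * tr (ρ y) = 4) : tr (ρ x) * tr (ρ x) = 4 := by
  obtain ⟨hyZ, g, hg⟩ := hy
  have := tr_sq_of_commute (x := ρ (g * x * g⁻¹)) (y := ρ y) hyZ
    ((commute_iff_map hρ _ _).1 hg) ht
  rwa [tr_conj'] at this

/-- parabolic elements lie in `cls u` -/
theorem std_mem_cls_of_tr [Finite Γ] [Fintype F] [Fact p.Prime] [CharP F p]
    (h : Std p ρ u v α β) {y : Γ}
    (hy : y ∉ Zs ρ) (ht : tr (ρ y) * tr (ρ y) = 4) : y ∈ cls (Zs ρ) u := by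
  have h2 := h.two_ne_zero
  -- w = y * y is a nontrivial p-element
  have htw : tr (ρ (y * y)) = 2 := by
    rw [map_mul, tr_sq, ht]; norm_num
  have hwZ : y * y ∉ Zs ρ := by
    intro hw
    have h1 := IsScalar.eq_one_of_tr h2 (mem_Zs.1 hw) htw
    rw [map_mul] at h1
    exact hy (mem_Zs.2 (isScalar_of_sq h2 h1))
  have hwp : (y * y) ^ p = 1 := by
    apply h.inj
    rw [map_pow, map_one]
    exact pow_char_of_tr_two p htw
  have hup : u ^ p = 1 := pow_p_of_mem_Qs h.inj h.u_mem_Qs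
  obtain ⟨P1, hP1⟩ := (isPGroup_zpowers hwp).exists_le_sylow
  obtain ⟨P0, hP0⟩ := (isPGroup_zpowers hup).exists_le_sylow
  obtain ⟨g, rfl⟩ := MulAction.exists_smul_eq Γ P0 P1
  have hu0 : u ∈ (P0 : Subgroup Γ) := hP0 (Subgroup.mem_zpowers u)
  have hw1 : y * y ∈ ((g • P0 : Sylow p Γ) : Subgroup Γ) := hP1 (Subgroup.mem_zpowers _)
  have hgu : g * u * g⁻¹ ∈ ((g • P0 : Sylow p Γ) : Subgroup Γ) := by
    rw [Sylow.coe_subgroup_smul, Subgroup.mem_pointwise_smul_iff_inv_smul_mem]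
    simp only [MulAut.smul_def, MulAut.inv_apply, MulAut.conj_symm_apply]
    have e : g⁻¹ * (g * u * g⁻¹) * g = u := by group
    rw [e]; exact hu0
  have hc1 : Commute (g * u * g⁻¹) (y * y) :=
    commute_of_isPGroup' h.inj _ (g • P0 : Sylow p Γ).2 hgu hw1
  have hc2 : Commute (y * y) y := (Commute.refl y).mul_left (Commute.refl y)
  exact ⟨hy, g, (ct h.inj).trans _ _ _ hwZ hc1 hc2⟩


/-- the centraliser of a semisimple element has order prime to `p` -/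
theorem not_dvd_card_centralizer [Finite Γ] [Fact p.Prime] [CharP F p]
    (hρ : Function.Injective ρ) (h2 : (2 : F) ≠ 0) {x : Γ}
    (hs : tr (ρ x) * tr (ρ x) ≠ 4) : ¬ p ∣ Nat.card (Subgroup.centralizer ({x} : Set Γ)) := by
  intro hdvd
  obtain ⟨⟨w, hwC⟩, hw⟩ := exists_prime_orderOf_dvd_card' p hdvd
  have hwo : orderOf w = p := by
    rw [← hw, Subgroup.orderOf_mk]
  have hwp : w ^ p ^ 1 = 1 := by rw [pow_one, ← hwo]; exact pow_orderOf_eq_one w
  have htw : tr (ρ w) = 2 := by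
    apply tr_of_pow_char_pow p 1
    rw [← map_pow, hwp, map_one]
  have hw1 : w ≠ 1 := by
    intro h1
    rw [h1, orderOf_one] at hwo
    exact (Fact.out : p.Prime).one_lt.ne hwo
  have hwZ : ¬ IsScalar (ρ w) := by
    intro hsc
    have := IsScalar.eq_one_of_tr h2 hsc htw
    rw [← map_one ρ] at this
    exact hw1 (hρ this)
  apply hs
  apply tr_sq_of_commute hwZ
  · exact ((commute_iff_map hρ _ _).1 (mem_centralizer_iff_commute.1 hwC)).symm
  · rw [htw]; norm_num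

/-- the normaliser of a semisimple centraliser has index at most `2` -/
theorem card_normalizer_centralizer [Finite Γ] (hρ : Function.Injective ρ) (h2 : (2 : F) ≠ 0)
    {x : Γ} (hs : tr (ρ x) * tr (ρ x) ≠ 4) :
    Nat.card (Subgroup.normalizer ((Subgroup.centralizer ({x} : Set Γ) : Subgroup Γ) : Set Γ)) =
      Nat.card (Subgroup.centralizer ({x} : Set Γ)) ∨
    Nat.card (Subgroup.normalizer ((Subgroup.centralizer ({x} : Set Γ) : Subgroup Γ) : Set Γ)) =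
      2 * Nat.card (Subgroup.centralizer ({x} : Set Γ)) := by
  apply card_eq_or_two_mul _ _ Subgroup.le_normalizer
  have key : ∀ g : Γ, g ∈ Subgroup.normalizer
      ((Subgroup.centralizer ({x} : Set Γ) : Subgroup Γ) : Set Γ) →
      g ∉ Subgroup.centralizer ({x} : Set Γ) → g * x * g⁻¹ = x⁻¹ := by
    intro g hg hgC
    have hc := (ct hρ).conj_mem_centralizer hg
    have hc' : Commute (ρ x) (ρ (g * x * g⁻¹)) := ((commute_iff_map hρ _ _).1 hc).symm
    rcases eq_or_eq_inv_of_commute h2 hc' (tr_conj' g x) hs with h1 | h1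
    · exfalso
      apply hgC
      rw [mem_centralizer_iff_commute]
      have := hρ h1
      unfold Commute SemiconjBy
      calc g * x = g * x * g⁻¹ * g := by group
        _ = x * g := by rw [this]
    · apply hρ
      rw [h1, map_inv]
  intro g k hg hk hgC hkC
  have e1 := key g hg hgC
  have e2 := key k hk hkC
  rw [mem_centralizer_iff_commute]
  unfold Commute SemiconjBy
  have e3 : g⁻¹ * x⁻¹ * g = x := by
    rw [← e1]; group
  calc g⁻¹ * k * x = g⁻¹ * (k * x * k⁻¹) * k := by group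
    _ = g⁻¹ * x⁻¹ * k := by rw [e2]
    _ = (g⁻¹ * x⁻¹ * g) * (g⁻¹ * k) := by group
    _ = x * (g⁻¹ * k) := by rw [e3]

variable {u v : Γ} {α β : F}

theorem std_conj_u_mem_Qs (h : Std p ρ u v α β) {n : Γ} (hn : n ∈ Bn ρ) :
    n * u * n⁻¹ ∈ Qs ρ := by
  have h10 : (ρ n) 1 0 = 0 := hn
  obtain ⟨c00, c01, c10, c11⟩ := conj_tU (ρ n) α
  rw [h10] at c00 c10
  refine mem_Qs.2 ⟨?_, ?_⟩
  · rw [map_mul, map_mul, map_inv, h.hu, c10]; ring
  · rw [map_mul, map_mul, map_inv, h.hu, c00]; ring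

/-- `|Bn| ≤ (|Qs| - 1) |Ps|` -/
theorem std_card_Bn_le [Finite Γ] (h : Std p ρ u v α β) :
    Nat.card (Bn ρ) ≤ (Nat.card (Qs ρ) - 1) * Nat.card (Ps ρ) := by
  have hC : Subgroup.centralizer ({u} : Set Γ) ≤ Bn ρ := by
    rw [h.centralizer_u]; exact Ps_le_Bn
  rw [card_eq_orbit_mul_centralizer (Bn ρ) u hC, h.centralizer_u]
  apply Nat.mul_le_mul_right
  have hsub : {y : Γ | ∃ n ∈ Bn ρ, n * u * n⁻¹ = y} ⊆ (Qs ρ : Set Γ) \ {1} := by
    rintro y ⟨n, hn, rfl⟩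
    refine ⟨std_conj_u_mem_Qs h hn, ?_⟩
    intro h1
    apply h.u_ne_one
    have h1' : n * u * n⁻¹ = 1 := h1
    calc u = n⁻¹ * (n * u * n⁻¹) * n := by group
      _ = 1 := by rw [h1']; group
  calc _ ≤ ((Qs ρ : Set Γ) \ {1}).ncard := Set.ncard_le_ncard hsub
    _ = Nat.card (Qs ρ) - 1 := by
      rw [Set.ncard_diff_singleton_of_mem (Qs ρ).one_mem]
      rfl

theorem mul00_of_upper {a b : SL(2, F)} (hb : b 1 0 = 0) : (a * b) 0 0 = a 0 0 * b 0 0 := by
  rw [mul00, hb]; ring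

theorem diag_of_upper {a : SL(2, F)} (ha : a 1 0 = 0) : a 0 0 * a 1 1 = 1 := by
  have := det1 a
  rw [ha] at this
  linear_combination this

/-- a semisimple element of `Bn` with centraliser of order `|Bn| / |Qs|` -/
theorem std_exists_x0 [Finite Γ] (h : Std p ρ u v α β)
    (hlt : Nat.card (Ps ρ) < Nat.card (Bn ρ)) :
    ∃ x₀ : Γ, x₀ ∉ Zs ρ ∧ tr (ρ x₀) * tr (ρ x₀) ≠ 4 ∧
      Nat.card (Qs ρ) * Nat.card (Subgroup.centralizer ({x₀} : Set Γ)) = Nat.card (Bn ρ) := by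
  classical
  have hne : ¬ (Bn ρ ≤ Ps ρ) := by
    intro hle
    have := le_antisymm hle Ps_le_Bn
    rw [this] at hlt
    exact lt_irrefl _ hlt
  obtain ⟨x₀, hxB, hxP⟩ := SetLike.not_le_iff_exists.1 hne
  have x10 : (ρ x₀) 1 0 = 0 := hxB
  have xd : (ρ x₀) 0 0 - (ρ x₀) 1 1 ≠ 0 := by
    intro h0
    exact hxP (mem_Ps.2 ⟨x10, sub_eq_zero.1 h0⟩)
  have hxZ : x₀ ∉ Zs ρ := fun hz => hxP (Zs_le_Ps hz)
  have hxt : tr (ρ x₀) * tr (ρ x₀) ≠ 4 := by
    intro h4
    have := tr_sq_sub (ρ x₀)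
    rw [h4, x10, sub_self, mul_zero, mul_zero, add_zero] at this
    exact xd (mul_self_eq_zero.1 this.symm)
  refine ⟨x₀, hxZ, hxt, ?_⟩
  have hC : Subgroup.centralizer ({x₀} : Set Γ) ≤ Bn ρ := by
    intro g hg
    have hc := (commute_iff_map h.inj _ _).1 (mem_centralizer_iff_commute.1 hg)
    rw [commute_iff] at hc
    obtain ⟨_, _, e3⟩ := hc
    rw [x10, zero_mul] at e3
    exact mem_Bn.2 ((mul_eq_zero.1 e3).resolve_right xd)
  rw [card_eq_orbit_mul_centralizer (Bn ρ) x₀ hC]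
  congr 1
  set O : Set Γ := {y : Γ | ∃ n ∈ Bn ρ, n * x₀ * n⁻¹ = y} with hO
  apply le_antisymm
  · -- |Qs| ≤ |O|
    have hinj : Set.InjOn (fun q : Γ => q * x₀ * q⁻¹) (Qs ρ : Set Γ) := by
      intro q hq q' hq' hqq
      have hqq' : q * x₀ * q⁻¹ = q' * x₀ * q'⁻¹ := hqq
      have ht : q'⁻¹ * q ∈ Qs ρ := (Qs ρ).mul_mem ((Qs ρ).inv_mem hq') hq
      have hcomm : Commute (q'⁻¹ * q) x₀ := by
        unfold Commute SemiconjBy
        calc q'⁻¹ * q * x₀ = q'⁻¹ * (q * x₀ * q⁻¹) * q := by group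
          _ = q'⁻¹ * (q' * x₀ * q'⁻¹) * q := by rw [hqq']
          _ = x₀ * (q'⁻¹ * q) := by group
      obtain ⟨t, ht'⟩ := mem_Qs_iff_exists.1 ht
      have hc := (commute_iff_map h.inj _ _).1 hcomm
      rw [ht', commute_iff] at hc
      obtain ⟨_, e2, _⟩ := hc
      simp only [tU00, tU01, tU11, sub_self, mul_zero] at e2
      have ht0 : t = 0 := (mul_eq_zero.1 e2).resolve_right xd
      have h1 : q'⁻¹ * q = 1 := by
        apply h.inj
        rw [ht', ht0, tU_zero, map_one]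
      calc q = q' * (q'⁻¹ * q) := by group
        _ = q' := by rw [h1, mul_one]
    have hsub : (fun q : Γ => q * x₀ * q⁻¹) '' (Qs ρ : Set Γ) ⊆ O := by
      rintro _ ⟨q, hq, rfl⟩
      exact ⟨q, Ps_le_Bn (Qs_le_Ps hq), rfl⟩
    calc Nat.card (Qs ρ) = (Qs ρ : Set Γ).ncard := rfl
      _ = ((fun q : Γ => q * x₀ * q⁻¹) '' (Qs ρ : Set Γ)).ncard :=
        (Set.ncard_image_of_injOn hinj).symm
      _ ≤ O.ncard := Set.ncard_le_ncard hsub
  · -- |O| ≤ |Qs|
    have hsub : O ⊆ (fun q : Γ => q * x₀) '' (Qs ρ : Set Γ) := by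
      rintro y ⟨n, hn, rfl⟩
      refine ⟨n * x₀ * n⁻¹ * x₀⁻¹, ?_, by group⟩
      have n10 : (ρ n) 1 0 = 0 := hn
      have hB : n * x₀ * n⁻¹ * x₀⁻¹ ∈ Bn ρ :=
        (Bn ρ).mul_mem ((Bn ρ).mul_mem ((Bn ρ).mul_mem hn hxB) ((Bn ρ).inv_mem hn))
          ((Bn ρ).inv_mem hxB)
      refine mem_Qs.2 ⟨hB, ?_⟩
      have i1 : (ρ x₀)⁻¹ 1 0 = 0 := by rw [inv10, x10]; ring
      have i2 : (ρ n)⁻¹ 1 0 = 0 := by rw [inv10, n10]; ring
      rw [map_mul, map_mul, map_mul, map_inv, map_inv, mul00_of_upper i1, mul00_of_upper i2,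
        mul00_of_upper x10, inv00, inv00]
      have d1 := diag_of_upper n10
      have d2 := diag_of_upper x10
      linear_combination (ρ x₀ 0 0 * ρ x₀ 1 1) * d1 + d2
    calc O.ncard ≤ ((fun q : Γ => q * x₀) '' (Qs ρ : Set Γ)).ncard := Set.ncard_le_ncard hsub
      _ ≤ (Qs ρ : Set Γ).ncard := Set.ncard_image_le
      _ = Nat.card (Qs ρ) := rfl

end Cfsg.Agent.Lib.Helper50_SL2Classes
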