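import Cfsg.Agent.Lib.Helper50_SL2Rep

/-!
Standard position: `ρ u = tU α`, `ρ v = tL β`.  The centraliser of `u`, its normaliser,
orders of `Ps`, `Qs`.
-/

set_option autoImplicit false

namespace Cfsg.Agent.Lib.Helper50_SL2Std

open Matrix Cfsg.Agent.Lib.Helper50_SL2Mat Cfsg.Agent.Lib.Helper50_CTClass
  Cfsg.Agent.Lib.Helper50_SL2Rep
open scoped MatrixGroups

variable {F : Type*} [Field F] {Γ : Type*} [Group Γ]

/-- standard position -/
structure Std (p : ℕ) (ρ : Γ →* SL(2, F)) (u v : Γ) (α β : F) : Prop where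
  inj : Function.Injective ρ
  hp : p ≠ 2
  hα : α ≠ 0
  hβ : β ≠ 0
  hu : ρ u = tU α
  hv : ρ v = tL β

variable {p : ℕ} {ρ : Γ →* SL(2, F)} {u v : Γ} {α β : F}

theorem Std.u_mem_Qs (h : Std p ρ u v α β) : u ∈ Qs ρ := mem_Qs_iff_exists.2 ⟨α, h.hu⟩

theorem Std.u_not_mem_Zs (h : Std p ρ u v α β) : u ∉ Zs ρ := by
  intro hz
  have := (mem_Zs.1 hz).1
  rw [h.hu] at this
  exact h.hα this

theorem Std.u_ne_one (h : Std p ρ u v α β) : u ≠ 1 := by
  intro h1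
  apply h.u_not_mem_Zs
  rw [h1]; exact (Zs ρ).one_mem

theorem Std.v_not_mem_Bn (h : Std p ρ u v α β) : v ∉ Bn ρ := by
  intro hz
  have : (ρ v) 1 0 = 0 := hz
  rw [h.hv] at this
  exact h.hβ this

theorem Std.centralizer_u (h : Std p ρ u v α β) :
    Subgroup.centralizer ({u} : Set Γ) = Ps ρ := by
  ext g
  rw [mem_centralizer_iff_commute, commute_iff_map h.inj, h.hu, commute_iff, mem_Ps]
  simp only [tU00, tU01, tU10, tU11, mul_zero, sub_self, zero_mul]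
  constructor
  · rintro ⟨e1, e2, _⟩
    have h10 : (ρ g) 1 0 = 0 := by
      rcases mul_eq_zero.1 e1.symm with h0 | h0
      · exact absurd h0 h.hα
      · exact h0
    have h00 : (ρ g) 0 0 - (ρ g) 1 1 = 0 := by
      rcases mul_eq_zero.1 e2.symm with h0 | h0
      · exact absurd h0 h.hα
      · exact h0
    exact ⟨h10, sub_eq_zero.1 h00⟩
  · rintro ⟨e1, e2⟩
    rw [e1, e2]
    simp

theorem Std.normalizer_eq (h : Std p ρ u v α β) :
    Subgroup.normalizer ((Subgroup.centralizer ({u} : Set Γ) : Subgroup Γ) : Set Γ) = Bn ρ := by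
  ext g
  constructor
  · intro hg
    have hc := (ct h.inj).conj_mem_centralizer hg
    have hm : g * u * g⁻¹ ∈ Ps ρ := by
      rw [← h.centralizer_u, mem_centralizer_iff_commute]; exact hc
    have h10 := (mem_Ps.1 hm).1
    rw [map_mul, map_mul, map_inv, h.hu, (conj_tU (ρ g) α).2.2.1] at h10
    have : (ρ g) 1 0 * (ρ g) 1 0 = 0 := by
      rcases mul_eq_zero.1 (neg_eq_zero.1 h10) with h0 | h0
      · exact absurd h0 h.hα
      · exact h0
    exact mem_Bn.2 (mul_self_eq_zero.1 this)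
  · intro hg
    apply (ct h.inj).mem_normalizer h.u_not_mem_Zs
    rw [commute_iff_map h.inj, map_mul, map_mul, map_inv, h.hu]
    have h10 : (ρ g) 1 0 = 0 := hg
    obtain ⟨c00, c01, c10, c11⟩ := conj_tU (ρ g) α
    rw [h10] at c00 c10
    have e := eq_tU_of (g := ρ g * tU α * (ρ g)⁻¹) (by rw [c10]; ring) (by rw [c00]; ring)
    rw [e]
    exact commute_tU _ _

theorem Std.two_ne_zero [Fact p.Prime] [CharP F p] (h : Std p ρ u v α β) : (2 : F) ≠ 0 :=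
  two_ne_zero_of_char p h.hp

theorem Std.p_odd [Fact p.Prime] (h : Std p ρ u v α β) : Odd p :=
  (Nat.Prime.eq_two_or_odd' Fact.out).resolve_left h.hp

/-- elements of `Qs` have order dividing `p` -/
theorem pow_p_of_mem_Qs [Fact p.Prime] [CharP F p] (hρ : Function.Injective ρ) {g : Γ}
    (hg : g ∈ Qs ρ) : g ^ p = 1 := by
  apply hρ
  rw [map_pow, map_one]
  apply pow_char_of_tr_two p
  obtain ⟨x, hx⟩ := mem_Qs_iff_exists.1 hg
  rw [hx]; exact tr_tU x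

theorem isPGroup_Qs [Fact p.Prime] [CharP F p] (hρ : Function.Injective ρ) :
    IsPGroup p (Qs ρ) := by
  intro g
  refine ⟨1, ?_⟩
  apply Subtype.ext
  rw [pow_one, Subgroup.coe_pow, Subgroup.coe_one]
  exact pow_p_of_mem_Qs hρ g.2

theorem Std.card_Qs [Finite Γ] [Fact p.Prime] [CharP F p] (h : Std p ρ u v α β) :
    ∃ e : ℕ, 1 ≤ e ∧ Nat.card (Qs ρ) = p ^ e := by
  obtain ⟨e, he⟩ := (isPGroup_Qs (p := p) h.inj).exists_card_eq
  refine ⟨e, ?_, he⟩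
  rcases Nat.eq_zero_or_pos e with h0 | h0
  · exfalso
    rw [h0, pow_zero] at he
    have := (Nat.card_eq_one_iff_unique.1 he).1
    have e1 : (⟨u, h.u_mem_Qs⟩ : Qs ρ) = 1 := Subsingleton.elim _ _
    exact h.u_ne_one (congrArg Subtype.val e1)
  · exact h0

theorem Zs_inf_Qs [Fact p.Prime] [CharP F p] (hρ : Function.Injective ρ) (h2 : (2 : F) ≠ 0)
    {g : Γ} (h1 : g ∈ Zs ρ) (hq : g ∈ Qs ρ) : g = 1 := by
  apply hρ
  rw [map_one]
  apply IsScalar.eq_one_of_tr h2 h1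
  obtain ⟨x, hx⟩ := mem_Qs_iff_exists.1 hq
  rw [hx]; exact tr_tU x

theorem Std.card_Ps [Finite Γ] [Fact p.Prime] [CharP F p] (h : Std p ρ u v α β) :
    Nat.card (Ps ρ) = Nat.card (Zs ρ) * Nat.card (Qs ρ) := by
  classical
  have h2 := h.two_ne_zero
  rw [← Nat.card_prod]
  symm
  refine Nat.card_congr (Equiv.ofBijective
    (fun zq : Zs ρ × Qs ρ => (⟨zq.1.1 * zq.2.1,
      (Ps ρ).mul_mem (Zs_le_Ps zq.1.2) (Qs_le_Ps zq.2.2)⟩ : Ps ρ)) ⟨?_, ?_⟩)
  · rintro ⟨z1, q1⟩ ⟨z2, q2⟩ hzq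
    have hzq' : z1.1 * q1.1 = z2.1 * q2.1 := congrArg Subtype.val hzq
    have e : z2.1⁻¹ * z1.1 = q2.1 * q1.1⁻¹ := by
      calc z2.1⁻¹ * z1.1 = z2.1⁻¹ * (z1.1 * q1.1) * q1.1⁻¹ := by group
        _ = z2.1⁻¹ * (z2.1 * q2.1) * q1.1⁻¹ := by rw [hzq']
        _ = q2.1 * q1.1⁻¹ := by group
    have h1 : z2.1⁻¹ * z1.1 = 1 := by
      apply Zs_inf_Qs (p := p) h.inj h2 ((Zs ρ).mul_mem ((Zs ρ).inv_mem z2.2) z1.2)
      rw [e]
      exact (Qs ρ).mul_mem q2.2 ((Qs ρ).inv_mem q1.2)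
    have hz : z1.1 = z2.1 := by
      have := congrArg (fun t => z2.1 * t) h1
      simpa using this
    have hq : q1.1 = q2.1 := by
      rw [hz] at hzq'
      exact mul_left_cancel hzq'
    exact Prod.ext (Subtype.ext hz) (Subtype.ext hq)
  · rintro ⟨g, hg⟩
    obtain ⟨g10, g00⟩ := mem_Ps.1 hg
    -- ζ = g ^ p
    have hdet := det1 (ρ g)
    rw [g10, ← g00] at hdet
    have hsq : (ρ g) 0 0 * (ρ g) 0 0 = 1 := by linear_combination hdet
    have hg2 : g * g ∈ Qs ρ := by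
      refine mem_Qs.2 ⟨?_, ?_⟩
      · rw [map_mul, mul10, g10]; ring
      · rw [map_mul, mul00, g10, hsq]; ring
    have hpow : (g ^ p) * (g ^ p) = 1 := by
      rw [← (Commute.refl g).mul_pow]
      exact pow_p_of_mem_Qs h.inj hg2
    have hζ : g ^ p ∈ Zs ρ := by
      apply mem_Zs.2
      apply isScalar_of_sq h2
      rw [← map_mul, hpow, map_one]
    have hζ00 : (ρ (g ^ p)) 0 0 = (ρ g) 0 0 := by
      rw [map_pow, (pow_upper g10 p).2.1]
      obtain ⟨m, hm⟩ := h.p_odd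
      rw [hm, pow_succ, pow_mul, pow_two, hsq, one_pow, one_mul]
    have hq : (g ^ p)⁻¹ * g ∈ Qs ρ := by
      refine mem_Qs.2 ⟨?_, ?_⟩
      · have : (g ^ p)⁻¹ * g ∈ Bn ρ :=
          (Bn ρ).mul_mem ((Bn ρ).inv_mem (Ps_le_Bn (Zs_le_Ps hζ))) (Ps_le_Bn hg)
        exact this
      · rw [map_mul, map_inv, mul00, inv00, inv01, ← (mem_Zs.1 hζ).2.2, hζ00, g10, hsq]
        ring
    refine ⟨(⟨g ^ p, hζ⟩, ⟨(g ^ p)⁻¹ * g, hq⟩), ?_⟩
    apply Subtype.ext
    show g ^ p * ((g ^ p)⁻¹ * g) = g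
    group

end Cfsg.Agent.Lib.Helper50_SL2Std
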