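import Mathlib
import Cfsg.Agent.Lib.Helper87_S3466_TRI

/-!
# E6cA-FFb (helper50, for helper52 / helper27, row S5802): finite-field facts for `|F| = 4`, `|L| = 64`

* `exists_pow_nine`: the norm `x ↦ x ^ 9` onto the field with eight elements is onto (`m = c ^ 4`);
* `decomp_of_pow_42`: `μ_21 = F^× K₀^×` (`κ = κ ^ 7 * κ ^ 15`);
* `exists_basis_fixed`: an `F`-basis of `L` inside `K₀ = {x | x ^ 8 = x}` (Galois descent:
  `x = (ω² x + ω x⁸) + ω (x + x⁸)`), whose prime-field span is `K₀`;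
* `exists_functional_eq`: the dual of `L` over `F` is one-dimensional over `L`.
-/

set_option autoImplicit false

namespace Cfsg.Agent.Lib.Helper50_SU36_E6cFFb

open Module

variable {F L : Type*} [Field F] [Fintype F] [Field L] [Fintype L] [Algebra F L]

omit [Fintype L] [Field L] [Algebra F L] in
theorem two_eq_zero_of_card_four (hF : Fintype.card F = 4) : (2 : F) = 0 := by
  have h := Nat.cast_card_eq_zero F
  rw [hF] at h
  have h4 : (2 : F) * 2 = 0 := by
    rw [← h]; norm_num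
  exact mul_self_eq_zero.mp h4

omit [Fintype F] [Field F] [Algebra F L] in
theorem two_eq_zero_of_card_64 (hL : Fintype.card L = 64) : (2 : L) = 0 := by
  have h := Nat.cast_card_eq_zero L
  rw [hL] at h
  have h6 : (2 : L) ^ 6 = 0 := by
    rw [← h]; norm_num
  exact (pow_eq_zero_iff (by norm_num)).mp h6

omit [Fintype L] [Field L] [Algebra F L] in
theorem pow_four_of_card_four (hF : Fintype.card F = 4) (x : F) : x ^ 4 = x := by
  have h := FiniteField.pow_card x
  rwa [hF] at h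

omit [Fintype F] [Field F] [Algebra F L] in
theorem pow_64_of_card_64 (hL : Fintype.card L = 64) (x : L) : x ^ 64 = x := by
  have h := FiniteField.pow_card x
  rwa [hL] at h

omit [Fintype L] [Field L] [Algebra F L] in
theorem exists_omega_of_card_four (hF : Fintype.card F = 4) : ∃ ω : F, ω ^ 2 + ω + 1 = 0 := by
  classical
  have hex : ∃ c : F, c ≠ 0 ∧ c ≠ 1 := by
    by_contra hcon
    push Not at hcon
    have hsub : (Finset.univ : Finset F) ⊆ {0, 1} := by
      intro c _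
      by_cases hc : c = 0
      · rw [hc]; exact Finset.mem_insert_self _ _
      · rw [hcon c hc]; exact Finset.mem_insert_of_mem (Finset.mem_singleton_self _)
    have h1 := Finset.card_le_card hsub
    have h2 : ({0, 1} : Finset F).card ≤ 2 := Finset.card_le_two
    rw [Finset.card_univ, hF] at h1
    omega
  obtain ⟨c, hc0, hc1⟩ := hex
  refine ⟨c, ?_⟩
  have h4 := pow_four_of_card_four hF c
  have h5 : c * ((c - 1) * (c ^ 2 + c + 1)) = 0 := by linear_combination h4
  rcases mul_eq_zero.mp h5 with h | h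
  · exact absurd h hc0
  · rcases mul_eq_zero.mp h with h | h
    · exact absurd (sub_eq_zero.mp h) hc1
    · exact h

omit [Fintype F] [Field F] [Algebra F L] [Fintype L] in
theorem add_pow_eight (h2 : (2 : L) = 0) (a b : L) : (a + b) ^ 8 = a ^ 8 + b ^ 8 := by
  linear_combination (4 * a ^ 7 * b + 14 * a ^ 6 * b ^ 2 + 28 * a ^ 5 * b ^ 3 + 35 * a ^ 4 * b ^ 4
    + 28 * a ^ 3 * b ^ 5 + 14 * a ^ 2 * b ^ 6 + 4 * a * b ^ 7) * h2

omit [Fintype F] [Field F] [Algebra F L] in
/-- FF3: the norm `x ↦ x ^ 9` onto the field with eight elements is onto. -/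
theorem exists_pow_nine (hL : Fintype.card L = 64) (c : L) (hc : c ^ 8 = c) (hc0 : c ≠ 0) :
    ∃ m : L, m ^ 9 = c := by
  refine ⟨c ^ 4, ?_⟩
  calc (c ^ 4) ^ 9 = (c ^ 8) ^ 4 * c ^ 4 := by ring
    _ = c ^ 4 * c ^ 4 := by rw [hc]
    _ = c ^ 8 := by ring
    _ = c := hc

/-- FF4: `μ_21 = F^× K₀^×`. -/
theorem decomp_of_pow_42 (hF : Fintype.card F = 4) (hL : Fintype.card L = 64) (κ : L)
    (hκ : κ ^ 42 = 1) :
    ∃ (c : F) (k₀ : L), c ≠ 0 ∧ k₀ ≠ 0 ∧ k₀ ^ 8 = k₀ ∧ κ = algebraMap F L c * k₀ := by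
  have hκ0 : κ ≠ 0 := by
    rintro rfl
    rw [zero_pow (by norm_num)] at hκ
    exact zero_ne_one hκ
  have h64 := pow_64_of_card_64 hL κ
  have h63 : κ ^ 63 = 1 := by
    apply mul_right_cancel₀ hκ0
    rw [one_mul, ← pow_succ]
    exact h64
  have h21 : κ ^ 21 = 1 := by
    have : κ ^ 63 = κ ^ 42 * κ ^ 21 := by ring
    rw [h63, hκ, one_mul] at this
    exact this.symm
  have hc4 : (κ ^ 7) ^ Fintype.card F = κ ^ 7 := by
    rw [hF]
    calc (κ ^ 7) ^ 4 = κ ^ 21 * κ ^ 7 := by ring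
      _ = κ ^ 7 := by rw [h21, one_mul]
  obtain ⟨c, hc⟩ := Cfsg.Agent.Lib.Helper87_S3466_TRI.mem_range_of_pow_card_eq (E := F) (κ ^ 7) hc4
  refine ⟨c, κ ^ 15, ?_, pow_ne_zero _ hκ0, ?_, ?_⟩
  · rintro rfl
    rw [map_zero] at hc
    exact pow_ne_zero 7 hκ0 hc.symm
  · calc (κ ^ 15) ^ 8 = (κ ^ 21) ^ 5 * κ ^ 15 := by ring
      _ = κ ^ 15 := by rw [h21, one_pow, one_mul]
  · rw [hc]
    calc κ = κ ^ 21 * κ := by rw [h21, one_mul]
      _ = κ ^ 7 * κ ^ 15 := by ring

/-- FF5: a basis of the subfield with eight elements over the prime field, which is a basis of `L`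
over `F`. -/
theorem exists_basis_fixed (hF : Fintype.card F = 4) (hL : Fintype.card L = 64) :
    ∃ κ : Fin 3 → L, (∀ i, κ i ^ 8 = κ i) ∧ LinearIndependent F κ ∧
      ∀ x : L, x ^ 8 = x → ∃ u : Fin 3 → F, (∀ i, u i ∈ (⊥ : Subfield F)) ∧ x = ∑ i, u i • κ i := by
  classical
  have h2F := two_eq_zero_of_card_four hF
  have h2L : (2 : L) = 0 := two_eq_zero_of_card_64 hL
  obtain ⟨ω, hω⟩ := exists_omega_of_card_four hF
  have hωL : (algebraMap F L ω) ^ 2 + algebraMap F L ω + 1 = 0 := by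
    rw [← map_pow, ← map_add, ← map_one (algebraMap F L), ← map_add, hω, map_zero]
  set w : L := algebraMap F L ω with hw
  have hw3 : w ^ 3 = 1 := by linear_combination (w - 1) * hωL
  have hw8 : w ^ 8 = w ^ 2 := by
    calc w ^ 8 = (w ^ 3) ^ 2 * w ^ 2 := by ring
      _ = w ^ 2 := by rw [hw3]; ring
  have hw16 : w ^ 16 = w := by
    calc w ^ 16 = (w ^ 3) ^ 5 * w := by ring
      _ = w := by rw [hw3]; ring
  have h8 := add_pow_eight h2L
  have h64 := pow_64_of_card_64 hL
  -- `K₀` spans `L` over `F`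
  have hspan : Submodule.span F {x : L | x ^ 8 = x} = ⊤ := by
    rw [eq_top_iff]
    intro x _
    have hB : x + x ^ 8 ∈ {x : L | x ^ 8 = x} := by
      show (x + x ^ 8) ^ 8 = x + x ^ 8
      rw [h8, ← pow_mul, h64]
      ring
    have hA : w ^ 2 * x + w * x ^ 8 ∈ {x : L | x ^ 8 = x} := by
      show (w ^ 2 * x + w * x ^ 8) ^ 8 = w ^ 2 * x + w * x ^ 8
      rw [h8, mul_pow, mul_pow, ← pow_mul, ← pow_mul, hw8, h64]
      have : w ^ (2 * 8) = w := hw16
      rw [this]
      ring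
    have hx : x = (w ^ 2 * x + w * x ^ 8) + ω • (x + x ^ 8) := by
      rw [Algebra.smul_def, ← hw]
      linear_combination (-x) * hωL + (x - w * x ^ 8) * h2L
    rw [hx]
    exact Submodule.add_mem _ (Submodule.subset_span hA)
      (Submodule.smul_mem _ ω (Submodule.subset_span hB))
  have hfr : finrank F L = 3 := by
    have h := Module.card_eq_pow_finrank (K := F) (V := L)
    rw [hL, hF] at h
    have h' : 4 ^ finrank F L = 4 ^ 3 := by rw [← h]; norm_num
    exact Nat.pow_right_injective (by norm_num : 2 ≤ 4) h'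
  have hfr' : finrank F (Submodule.span F {x : L | x ^ 8 = x}) = 3 := by
    rw [hspan, finrank_top, hfr]
  have key : ∀ n, n = 3 →
      (∃ f : Fin n → L, (∀ i, f i ∈ {x : L | x ^ 8 = x}) ∧
        Submodule.span F (Set.range f) = Submodule.span F {x : L | x ^ 8 = x} ∧
        LinearIndependent F f) →
      ∃ κ : Fin 3 → L, (∀ i, κ i ^ 8 = κ i) ∧ Submodule.span F (Set.range κ) = ⊤ ∧
        LinearIndependent F κ := by
    intro n hn
    subst hn
    rintro ⟨f, h1, h3, h4⟩
    exact ⟨f, h1, h3.trans hspan, h4⟩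
  obtain ⟨κ, hκ8, hκspan, hκli⟩ := key _ hfr' (Submodule.exists_fun_fin_finrank_span_eq F _)
  refine ⟨κ, hκ8, hκli, ?_⟩
  intro x hx
  have hxs : x ∈ Submodule.span F (Set.range κ) := by rw [hκspan]; trivial
  obtain ⟨u, hu⟩ := (Submodule.mem_span_range_iff_exists_fun F).mp hxs
  have hsm : ∀ (c : F) (y : L), y ^ 8 = y → (c • y) ^ 8 = (c ^ 2) • y := by
    intro c y hy
    rw [Algebra.smul_def, Algebra.smul_def, mul_pow, hy, ← map_pow]
    congr 2
    have := pow_four_of_card_four hF c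
    calc c ^ 8 = (c ^ 4) ^ 2 := by ring
      _ = c ^ 2 := by rw [this]
  have hx8 : ∑ i, (u i ^ 2) • κ i = x := by
    rw [Fin.sum_univ_three] at hu ⊢
    rw [← hsm _ _ (hκ8 0), ← hsm _ _ (hκ8 1), ← hsm _ _ (hκ8 2), ← h8, ← h8, hu, hx]
  have hzero : ∑ i, (u i ^ 2 - u i) • κ i = 0 := by
    simp only [sub_smul, Finset.sum_sub_distrib]
    rw [hx8, hu, sub_self]
  have hcoef := Fintype.linearIndependent_iff.mp hκli _ hzero
  refine ⟨u, fun i => ?_, hu.symm⟩
  have h1 : u i * (u i - 1) = 0 := by linear_combination hcoef i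
  rcases mul_eq_zero.mp h1 with h | h
  · rw [h]; exact zero_mem _
  · rw [sub_eq_zero.mp h]; exact one_mem _

/-- FF6: the dual of `L` over `F` is one-dimensional over `L`. -/
theorem exists_functional_eq (hF : Fintype.card F = 4) (hL : Fintype.card L = 64)
    (ρ₀ ψ : L →ₗ[F] F) (hρ₀ : ρ₀ ≠ 0) : ∃ c : L, ∀ k, ψ k = ρ₀ (c * k) := by
  have hinj : Function.Injective ((LinearMap.mul F L).compr₂ ρ₀) := by
    rw [← LinearMap.ker_eq_bot, LinearMap.ker_eq_bot']
    intro c hc
    by_contra hc0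
    apply hρ₀
    ext k
    have h1 := LinearMap.congr_fun hc (c⁻¹ * k)
    rw [LinearMap.compr₂_apply, LinearMap.mul_apply', mul_inv_cancel_left₀ hc0] at h1
    rw [h1]
    rfl
  have hsurj : Function.Surjective ((LinearMap.mul F L).compr₂ ρ₀) :=
    (LinearMap.injective_iff_surjective_of_finrank_eq_finrank
      (Subspace.dual_finrank_eq (K := F) (V := L)).symm).mp hinj
  obtain ⟨c, hc⟩ := hsurj ψ
  refine ⟨c, fun k => ?_⟩
  rw [← hc, LinearMap.compr₂_apply, LinearMap.mul_apply']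

end Cfsg.Agent.Lib.Helper50_SU36_E6cFFb
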