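import Mathlib
import Cfsg.Agent.Lib.Helper94_Symp
import Cfsg.Agent.Lib.Helper38_SpSub1
import Cfsg.Agent.Lib.Helper38_SpSub2
import Cfsg.Agent.Lib.Helper98_ExtDefs

set_option autoImplicit false

/-!
# S5789 (geometric maximal subgroups of `Sp_4(q)`, `q` even): shared definitions

* `xq B hB w a c` : the element `x ↦ x + B x a • w + B x w • a + (c * B x w) • w` of the unipotent
  radical of the stabiliser of the vector `w` (for `B a w = 0`).
* `longSet`, `shortSet` : the parameters of the long / short root elements (with respect to a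
  symplectic basis indexed by `Fin 2 ⊕ Fin 2`) that lie in a subgroup `X`.
* `semiIso F K V B` : the isometries of `B` that are `K`-semilinear.
-/

namespace Cfsg.Agent.Lib.Helper67_Sp4Defs

open Cfsg.Agent.Lib.Helper94_Symp Cfsg.Agent.Lib.Helper38_SpSub1 Cfsg.Agent.Lib.Helper38_SpSub2
  Cfsg.Agent.Lib.Helper98_ExtDefs

variable {F V : Type*} [Field F] [AddCommGroup V] [Module F V]

/-- The element `x ↦ x + B x a • w + B x w • a + (c * B x w) • w` (meaningful when `B a w = 0`). -/
def xq (B : LinearMap.BilinForm F V) (hB : B.IsAlt) (w a : V) (c : F) : V ≃ₗ[F] V :=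
  T B hB a w * stv B hB w c

theorem xq_apply (B : LinearMap.BilinForm F V) (hB : B.IsAlt) {w a : V} (h : B a w = 0) (c : F)
    (x : V) : xq B hB w a c x = x + B x a • w + B x w • a + (c * B x w) • w := by
  have h' : B w a = 0 := alt_zero B hB h
  rw [xq, LinearEquiv.mul_apply, T_apply B hB h, stv_apply]
  simp only [map_add, map_smul, LinearMap.add_apply, LinearMap.smul_apply, smul_eq_mul, hB w, h',
    mul_zero, add_zero]
  module

theorem xq_mem_isoGroup (B : LinearMap.BilinForm F V) (hB : B.IsAlt) (w a : V) (c : F) :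
    xq B hB w a c ∈ isoGroup B :=
  (isoGroup B).mul_mem (T_mem_isoGroup B hB a w) (stv_mem_isoGroup B hB w c)

/-- parameters of the long root elements `stv (b (inl 0)) c` lying in `X` -/
def longSet (B : LinearMap.BilinForm F V) (hB : B.IsAlt) (b : Module.Basis (Fin 2 ⊕ Fin 2) F V)
    (X : Subgroup (V ≃ₗ[F] V)) : Set F :=
  {c | stv B hB (b (Sum.inl 0)) c ∈ X}

/-- parameters of the short root elements `T (c • b (inl 0)) (b (inl 1))` lying in `X` -/
def shortSet (B : LinearMap.BilinForm F V) (hB : B.IsAlt) (b : Module.Basis (Fin 2 ⊕ Fin 2) F V)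
    (X : Subgroup (V ≃ₗ[F] V)) : Set F :=
  {c | T B hB (c • b (Sum.inl 0)) (b (Sum.inl 1)) ∈ X}

end Cfsg.Agent.Lib.Helper67_Sp4Defs

namespace Cfsg.Agent.Lib.Helper67_Sp4Defs

open Cfsg.Agent.Lib.Helper94_Symp Cfsg.Agent.Lib.Helper98_ExtDefs

section Semi

variable (F : Type*) (K : Type*) (V : Type*) [Field F] [Field K] [Algebra F K] [AddCommGroup V]
  [Module F V] [Module K V] [IsScalarTower F K V]

/-- The isometries of `B` that are `K`-semilinear. -/
def semiIso (B : LinearMap.BilinForm F V) : Subgroup (V ≃ₗ[F] V) where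
  carrier := {g | g ∈ isoGroup B ∧ IsSemilin F K V g}
  mul_mem' := by
    rintro g h ⟨hg, σ, hσ⟩ ⟨hh, τ, hτ⟩
    refine ⟨(isoGroup B).mul_mem hg hh, τ.trans σ, fun k v => ?_⟩
    rw [LinearEquiv.mul_apply, LinearEquiv.mul_apply, hτ, hσ]
    rfl
  one_mem' := ⟨(isoGroup B).one_mem, RingEquiv.refl K, fun k v => rfl⟩
  inv_mem' := by
    rintro g ⟨hg, σ, hσ⟩
    refine ⟨(isoGroup B).inv_mem hg, σ.symm, fun k v => ?_⟩
    apply g.injective
    rw [apply_inv_apply', hσ, apply_inv_apply', RingEquiv.apply_symm_apply]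

variable {F K V}

theorem mem_semiIso {B : LinearMap.BilinForm F V} {g : V ≃ₗ[F] V} :
    g ∈ semiIso F K V B ↔ g ∈ isoGroup B ∧ IsSemilin F K V g := Iff.rfl

end Semi

end Cfsg.Agent.Lib.Helper67_Sp4Defs
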