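import Mathlib
import Cfsg.Agent.Lib.Helper67_Sp4Defs
import Cfsg.Agent.Lib.Helper94_Symp
import Cfsg.Agent.Lib.Helper38_SpSub1
import Cfsg.Agent.Lib.Helper38_SpSub2

set_option autoImplicit false
set_option linter.unusedSectionVars false
set_option linter.unusedVariables false

/-!
# S5789 package RW1 (architect helper67): rational toolkit I.
-/

open Cfsg.Agent.Lib.Helper94_Symp Cfsg.Agent.Lib.Helper38_SpSub1 Cfsg.Agent.Lib.Helper38_SpSub2
  Cfsg.Agent.Lib.Helper67_Sp4Defs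

namespace Cfsg.Agent.Lib.Helper50_Sp4E_RW1

section Aux

variable {F : Type*} [Field F] [CharP F 2] [Finite F]

/-- In a finite field of characteristic two, a square root of an element of a subfield lies in
the subfield. -/
theorem mem_of_sq_mem (F₀ : Subfield F) {μ : F} (h : μ * μ ∈ F₀) : μ ∈ F₀ := by
  have hinj : Function.Injective (fun x : F₀ => x * x) := by
    intro x y hxy
    have h1 : ((x : F) + y) * (x + y) = 0 := by
      have h2 : (x : F) * x = y * y := by
        have := congrArg (fun t : F₀ => (t : F)) hxy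
        simpa using this
      rw [CharTwo.add_mul_self, h2, CharTwo.add_self_eq_zero]
    have h3 : (x : F) + y = 0 := by
      rcases mul_self_eq_zero.mp h1 with h3
      exact h3
    have h4 : (x : F) = y := by
      have := CharTwo.add_eq_zero.mp h3
      exact this
    exact Subtype.ext h4
  have hsurj : Function.Surjective (fun x : F₀ => x * x) := Finite.surjective_of_injective hinj
  obtain ⟨ν, hν⟩ := hsurj ⟨μ * μ, h⟩
  have h2 : (ν : F) * ν = μ * μ := by
    have := congrArg (fun t : F₀ => (t : F)) hν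
    simpa using this
  have h1 : ((ν : F) + μ) * (ν + μ) = 0 := by
    rw [CharTwo.add_mul_self, h2, CharTwo.add_self_eq_zero]
  have h3 : (ν : F) + μ = 0 := mul_self_eq_zero.mp h1
  have h4 : (ν : F) = μ := CharTwo.add_eq_zero.mp h3
  rw [← h4]
  exact ν.2

end Aux

variable {F V : Type*} [Field F] [AddCommGroup V] [Module F V] [CharP F 2] [Finite F]
variable {B : LinearMap.BilinForm F V} (hB : B.IsAlt)
variable {F₀ : Subfield F}
variable {b : Module.Basis (Fin 2 ⊕ Fin 2) F V} (hb : IsSymp B b)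
variable {S : Subgroup (V ≃ₗ[F] V)} (hS : IsRatGroup b B F₀ S)

include hB hb hS

/-- an isometry in `S` maps rational vectors to rational vectors (char 2, finite: the scalar `μ`
of the definition of `S` has `μ² ∈ F₀`, hence `μ ∈ F₀`) -/
theorem rat_of_mem_S {g : V ≃ₗ[F] V} (hgS : g ∈ S) (hg : g ∈ isoGroup B) {v : V}
    (hv : Rat b B F₀ v) : Rat b B F₀ (g v) := by
  obtain ⟨μ, hμ0, hμ⟩ := (hS g).mp hgS
  obtain ⟨w₁, hw₁, h₁⟩ := hμ _ (rat_basis hb F₀ (Sum.inl 0))
  obtain ⟨w₂, hw₂, h₂⟩ := hμ _ (rat_basis hb F₀ (Sum.inr 0))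
  have h3 : B (g (b (Sum.inl 0))) (g (b (Sum.inr 0))) = 1 := by
    rw [hg, hb]
    simp [sg]
  rw [h₁, h₂, map_smul, map_smul, LinearMap.smul_apply, smul_eq_mul, smul_eq_mul] at h3
  have h4 : B w₁ w₂ ∈ F₀ := rat_pair hb F₀ hw₁ hw₂
  have h5 : B w₁ w₂ ≠ 0 := by
    intro h0
    rw [h0, mul_zero, mul_zero] at h3
    exact zero_ne_one h3
  have h6 : μ * μ = (B w₁ w₂)⁻¹ := by
    field_simp
    linear_combination h3
  have h7 : μ ∈ F₀ := by
    apply mem_of_sq_mem F₀
    rw [h6]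
    exact F₀.inv_mem h4
  obtain ⟨w, hw, h⟩ := hμ v hv
  rw [h]
  exact rat_smul F₀ h7 hw

theorem mem_S_of_rat {g : V ≃ₗ[F] V} (h : ∀ v, Rat b B F₀ v → Rat b B F₀ (g v)) : g ∈ S :=
  (hS g).mpr ⟨1, one_ne_zero, fun v hv => ⟨g v, h v hv, (one_smul _ _).symm⟩⟩

/-- a transvection in `S` has a rational centre vector -/
theorem rat_of_stv_mem {y : V} (h : stv B hB y 1 ∈ S) : Rat b B F₀ y := by
  by_cases hy : y = 0
  · rw [hy]; exact rat_zero F₀
  have hex : ∃ x, B (b x) y ≠ 0 := by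
    by_contra hcon
    push Not at hcon
    apply hy
    apply eq_zero_of_forall hb y
    intro x
    rw [alt_swap B hB, hcon, neg_zero]
  obtain ⟨x, hx⟩ := hex
  set η := B (b x) y with hη
  have hr : Rat b B F₀ (η • y) := by
    have h1 := rat_of_mem_S hB hb hS h (stv_mem_isoGroup B hB y 1) (rat_basis hb F₀ x)
    rw [stv_apply, one_mul] at h1
    have h2 := rat_sub F₀ h1 (rat_basis hb F₀ x)
    rwa [add_sub_cancel_left] at h2
  have h3 : η * η ∈ F₀ := by
    have h4 := hr x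
    rw [map_smul, LinearMap.smul_apply, smul_eq_mul, alt_swap B hB y (b x)] at h4
    have h5 := F₀.neg_mem h4
    rwa [mul_neg, neg_neg] at h5
  have h6 : η ∈ F₀ := mem_of_sq_mem F₀ h3
  have h7 : y = η⁻¹ • (η • y) := by
    rw [smul_smul, inv_mul_cancel₀ hx, one_smul]
  rw [h7]
  exact rat_smul F₀ (F₀.inv_mem h6) hr

/-- the rational isometries are transitive on the nonzero rational vectors -/
theorem exists_rat_move {v v' : V} (hv : Rat b B F₀ v) (hv' : Rat b B F₀ v') (h0 : v ≠ 0)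
    (h0' : v' ≠ 0) : ∃ h ∈ S ⊓ isoGroup B, h v = v' := by
  -- the basic move
  have move : ∀ {p p' : V}, Rat b B F₀ p → Rat b B F₀ p' → B p p' ≠ 0 →
      ∃ h ∈ S ⊓ isoGroup B, h p = p' := by
    intro p p' hp hp' hne
    exact ⟨stv B hB (p - p') (B p p')⁻¹,
      stv_rat_mem hB hb hS (rat_sub F₀ hp hp') (F₀.inv_mem (rat_pair hb F₀ hp hp')),
      stv_move B hB hne⟩
  by_cases hne : B v v' ≠ 0
  · exact move hv hv' hne
  push Not at hne
  have hex : ∀ {u : V}, u ≠ 0 → ∃ x, B (b x) u ≠ 0 := by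
    intro u hu
    by_contra hcon
    push Not at hcon
    apply hu
    apply eq_zero_of_forall hb u
    intro x
    rw [alt_swap B hB, hcon, neg_zero]
  obtain ⟨x, hx⟩ := hex h0
  obtain ⟨x', hx'⟩ := hex h0'
  -- a rational `z` with `B z v ≠ 0 ≠ B z v'`
  have hz : ∃ z, Rat b B F₀ z ∧ B z v ≠ 0 ∧ B z v' ≠ 0 := by
    by_cases h1 : B (b x) v' ≠ 0
    · exact ⟨b x, rat_basis hb F₀ x, hx, h1⟩
    push Not at h1
    by_cases h2 : B (b x') v ≠ 0
    · exact ⟨b x', rat_basis hb F₀ x', h2, hx'⟩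
    push Not at h2
    refine ⟨b x + b x', rat_add F₀ (rat_basis hb F₀ x) (rat_basis hb F₀ x'), ?_, ?_⟩
    · rw [map_add, LinearMap.add_apply, h2, add_zero]; exact hx
    · rw [map_add, LinearMap.add_apply, h1, zero_add]; exact hx'
  obtain ⟨z, hzr, hzv, hzv'⟩ := hz
  obtain ⟨h₁, hh₁, e₁⟩ := move hv hzr (alt_ne_zero_comm B hB hzv)
  obtain ⟨h₂, hh₂, e₂⟩ := move hzr hv' hzv'
  refine ⟨h₂ * h₁, (S ⊓ isoGroup B).mul_mem hh₂ hh₁, ?_⟩
  rw [LinearEquiv.mul_apply, e₁, e₂]

end Cfsg.Agent.Lib.Helper50_Sp4E_RW1
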