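import Mathlib
import Cfsg.Agent.Lib.Helper67_Sp4Defs
import Cfsg.Agent.Lib.Helper94_Symp
import Cfsg.Agent.Lib.Helper38_SpSub1
import Cfsg.Agent.Lib.Helper38_SpSub2

set_option autoImplicit false
set_option linter.unusedSectionVars false
set_option linter.unusedVariables false

/-!
# S5789 package RW2 (architect helper67): rational toolkit II (explicit rational isometries).
-/

open Cfsg.Agent.Lib.Helper94_Symp Cfsg.Agent.Lib.Helper38_SpSub1 Cfsg.Agent.Lib.Helper38_SpSub2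
  Cfsg.Agent.Lib.Helper67_Sp4Defs

namespace Cfsg.Agent.Lib.Helper50_Sp4E_RW2

section Aux

/-- the index map of `exists_rat_perm` is compatible with `swap` and injective -/
theorem perm_aux : ∀ x z : Fin 2 ⊕ Fin 2, pr x ≠ pr z → ∀ i j : Fin 2 ⊕ Fin 2,
    ((Sum.elim ![x, z] ![x.swap, z.swap] : Fin 2 ⊕ Fin 2 → Fin 2 ⊕ Fin 2) j =
      ((Sum.elim ![x, z] ![x.swap, z.swap] : Fin 2 ⊕ Fin 2 → Fin 2 ⊕ Fin 2) i).swap ↔
        j = i.swap) := by
  decide

variable {F V : Type*} [Field F] [AddCommGroup V] [Module F V] [CharP F 2]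

theorem sg_eq_one (x : Fin 2 ⊕ Fin 2) : sg F x = 1 := by
  cases x
  · simp [sg]
  · simp [sg, CharTwo.neg_eq]

variable {B : LinearMap.BilinForm F V} {F₀ : Subfield F}
variable {b : Module.Basis (Fin 2 ⊕ Fin 2) F V}

theorem gram (hb : IsSymp B b) (x y : Fin 2 ⊕ Fin 2) :
    B (b x) (b y) = if y = x.swap then 1 else 0 := by
  rw [hb, sg_eq_one]

theorem rat_sum {ι : Type*} (s : Finset ι) (f : ι → V) (h : ∀ i ∈ s, Rat b B F₀ (f i)) :
    Rat b B F₀ (∑ i ∈ s, f i) := by
  intro y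
  rw [map_sum, LinearMap.sum_apply]
  exact F₀.sum_mem fun i hi => h i hi y

end Aux

variable {F V : Type*} [Field F] [AddCommGroup V] [Module F V] [CharP F 2] [Finite F]
variable {B : LinearMap.BilinForm F V} (hB : B.IsAlt)
variable {F₀ : Subfield F}
variable {b : Module.Basis (Fin 2 ⊕ Fin 2) F V} (hb : IsSymp B b)
variable {S : Subgroup (V ≃ₗ[F] V)} (hS : IsRatGroup b B F₀ S)

include hB hb hS

/-- the rational isometry with a prescribed image of the symplectic basis -/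
theorem exists_rat_basis_map (u : Fin 2 ⊕ Fin 2 → V) (hu : ∀ x, Rat b B F₀ (u x))
    (huB : ∀ x y, B (u x) (u y) = B (b x) (b y)) :
    ∃ h ∈ S ⊓ isoGroup B, ∀ x, h (b x) = u x := by
  have hli : LinearIndependent F u := by
    rw [Fintype.linearIndependent_iff]
    intro g hg y
    have h1 : B (∑ i, g i • u i) (u y.swap) = 0 := by
      rw [hg, map_zero, LinearMap.zero_apply]
    rw [map_sum, LinearMap.sum_apply, Finset.sum_eq_single y] at h1
    · rw [map_smul, LinearMap.smul_apply, smul_eq_mul, huB, gram hb, if_pos rfl, mul_one] at h1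
      exact h1
    · intro i _ hi
      rw [map_smul, LinearMap.smul_apply, smul_eq_mul, huB, gram hb, if_neg, mul_zero]
      intro h
      have h2 := congrArg Sum.swap h
      rw [Sum.swap_swap, Sum.swap_swap] at h2
      exact hi h2.symm
    · intro h
      exact absurd (Finset.mem_univ y) h
  have hcard : Fintype.card (Fin 2 ⊕ Fin 2) = Module.finrank F V :=
    (Module.finrank_eq_card_basis b).symm
  set u' : Module.Basis (Fin 2 ⊕ Fin 2) F V :=
    basisOfLinearIndependentOfCardEqFinrank hli hcard with hu'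
  have hu'x : ∀ x, u' x = u x := by
    intro x
    rw [hu', coe_basisOfLinearIndependentOfCardEqFinrank]
  set h : V ≃ₗ[F] V := b.equiv u' (Equiv.refl _) with hh
  have hbx : ∀ x, h (b x) = u x := by
    intro x
    rw [hh, Module.Basis.equiv_apply, Equiv.refl_apply, hu'x]
  have hiso : h ∈ isoGroup B := by
    have h1 : B.comp (h : V →ₗ[F] V) (h : V →ₗ[F] V) = B := by
      apply LinearMap.BilinForm.ext_basis b
      intro i j
      rw [LinearMap.BilinForm.comp_apply]
      simp only [LinearEquiv.coe_coe]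
      rw [hbx, hbx, huB]
    intro v w
    have h2 := congrArg (fun C : LinearMap.BilinForm F V => C v w) h1
    simpa [LinearMap.BilinForm.comp_apply] using h2
  have hrat : ∀ v, Rat b B F₀ v → Rat b B F₀ (h v) := by
    intro v hv
    have h1 : h v = ∑ w, (sg F w * B v (b w.swap)) • u w := by
      conv_lhs => rw [expand hb v]
      rw [map_sum]
      refine Finset.sum_congr rfl fun w _ => ?_
      rw [map_smul, hbx]
    rw [h1]
    apply rat_sum
    intro w _
    exact rat_smul F₀ (F₀.mul_mem (sg_mem F₀ w) (hv _)) (hu w)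
  refine ⟨h, ⟨?_, hiso⟩, hbx⟩
  exact (hS h).mpr ⟨1, one_ne_zero, fun v hv => ⟨h v, hrat v hv, (one_smul _ _).symm⟩⟩

theorem exists_rat_perm (x z : Fin 2 ⊕ Fin 2) (hxz : pr x ≠ pr z) :
    ∃ h ∈ S ⊓ isoGroup B, h (b (Sum.inl 0)) = b x ∧ h (b (Sum.inl 1)) = b z ∧
      h (b (Sum.inr 0)) = b x.swap ∧ h (b (Sum.inr 1)) = b z.swap := by
  obtain ⟨h, hh, hx⟩ := exists_rat_basis_map hB hb hS
    (fun i => b ((Sum.elim ![x, z] ![x.swap, z.swap] : Fin 2 ⊕ Fin 2 → Fin 2 ⊕ Fin 2) i))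
    (fun i => rat_basis hb F₀ _)
    (fun i j => by
      rw [gram hb, gram hb]
      exact if_congr (perm_aux x z hxz i j) rfl rfl)
  refine ⟨h, hh, ?_, ?_, ?_, ?_⟩
  · rw [hx]; rfl
  · rw [hx]; rfl
  · rw [hx]; rfl
  · rw [hx]; rfl

/-- rational `SL₂` on the second hyperbolic pair -/
theorem exists_rat_plane {a a' : V} (ha : Rat b B F₀ a) (ha' : Rat b B F₀ a')
    (h1 : B a (b (Sum.inl 0)) = 0) (h2 : B a (b (Sum.inr 0)) = 0)
    (h1' : B a' (b (Sum.inl 0)) = 0) (h2' : B a' (b (Sum.inr 0)) = 0) (haa : B a a' = 1) :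
    ∃ h ∈ S ⊓ isoGroup B, h (b (Sum.inl 0)) = b (Sum.inl 0) ∧ h (b (Sum.inr 0)) = b (Sum.inr 0) ∧
      h (b (Sum.inl 1)) = a ∧ h (b (Sum.inr 1)) = a' := by
  have k1 : B (b (Sum.inl 0)) a = 0 := alt_zero B hB h1
  have k2 : B (b (Sum.inr 0)) a = 0 := alt_zero B hB h2
  have k1' : B (b (Sum.inl 0)) a' = 0 := alt_zero B hB h1'
  have k2' : B (b (Sum.inr 0)) a' = 0 := alt_zero B hB h2'
  have haa' : B a' a = 1 := by
    rw [alt_swap B hB, haa, CharTwo.neg_eq]
  obtain ⟨h, hh, hx⟩ := exists_rat_basis_map hB hb hS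
    (Sum.elim ![b (Sum.inl 0), a] ![b (Sum.inr 0), a'])
    (fun i => by
      rcases i with i | i <;> fin_cases i
      · exact rat_basis hb F₀ _
      · exact ha
      · exact rat_basis hb F₀ _
      · exact ha')
    (fun i j => by
      rw [gram hb]
      rcases i with i | i <;> rcases j with j | j <;> fin_cases i <;> fin_cases j <;>
        simp [gram hb, hB _, h1, h2, h1', h2', k1, k2, k1', k2', haa, haa'])
  refine ⟨h, hh, ?_, ?_, ?_, ?_⟩
  · rw [hx]; rfl
  · rw [hx]; rfl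
  · rw [hx]; rfl
  · rw [hx]; rfl

/-- rational torus on the first hyperbolic pair -/
theorem exists_rat_torus {μ : F} (hμ : μ ∈ F₀) (hμ0 : μ ≠ 0) :
    ∃ h ∈ S ⊓ isoGroup B, h (b (Sum.inl 0)) = μ • b (Sum.inl 0) ∧
      h (b (Sum.inr 0)) = μ⁻¹ • b (Sum.inr 0) ∧ h (b (Sum.inl 1)) = b (Sum.inl 1) ∧
      h (b (Sum.inr 1)) = b (Sum.inr 1) := by
  obtain ⟨h, hh, hx⟩ := exists_rat_basis_map hB hb hS
    (Sum.elim ![μ • b (Sum.inl 0), b (Sum.inl 1)] ![μ⁻¹ • b (Sum.inr 0), b (Sum.inr 1)])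
    (fun i => by
      rcases i with i | i <;> fin_cases i
      · exact rat_smul F₀ hμ (rat_basis hb F₀ _)
      · exact rat_basis hb F₀ _
      · exact rat_smul F₀ (F₀.inv_mem hμ) (rat_basis hb F₀ _)
      · exact rat_basis hb F₀ _)
    (fun i j => by
      rw [gram hb]
      rcases i with i | i <;> rcases j with j | j <;> fin_cases i <;> fin_cases j <;>
        simp [gram hb, hμ0])
  refine ⟨h, hh, ?_, ?_, ?_, ?_⟩
  · rw [hx]; rfl
  · rw [hx]; rfl
  · rw [hx]; rfl
  · rw [hx]; rfl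

end Cfsg.Agent.Lib.Helper50_Sp4E_RW2
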