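import Mathlib
import Cfsg.Agent.Lib.Helper39_U4Defs
import Cfsg.Agent.Lib.Helper13_SUGen
import Cfsg.Agent.Lib.Helper94_HermTrans
import Cfsg.Agent.Lib.Helper27_UQ_TOR2

/-!
# S2150 package L-TOR (architect helper39; helper50): the general torus inequality on the local Levi group
-/

set_option autoImplicit false

namespace Cfsg.Agent.Lib.Helper50_U4_L_TOR

open Module Cfsg.Agent.Lib.Helper94_Symp Cfsg.Agent.Lib.Helper94_Herm
  Cfsg.Agent.Lib.Helper94_HermEich Cfsg.Agent.Lib.Helper94_HermOrth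
  Cfsg.Agent.Lib.Helper13_SUGen Cfsg.Agent.Lib.Helper39_U4Defs

variable {F W : Type*} [Field F] [AddCommGroup W] [Module F W] {σ : F →+* F}
  {h : W →ₗ[F] W →ₛₗ[σ] F} [Finite F] [FiniteDimensional F W]

/-- L-TOR (L2), general torus inequality: `|Y| |S| ≤ (q^2-1) |S ∩ K|`, strict if `Y ≠ 0`. -/
theorem torus {q : ℕ} {Bb : AddSubgroup W} {Y : AddSubgroup F}
    {S : Subgroup (Fˣ × (W ≃ₗ[F] W))} (H : LocHyp h q Bb Y S) :
    Nat.card Y * Nat.card S ≤ (q ^ 2 - 1) * Nat.card {p : S // (p : Fˣ × (W ≃ₗ[F] W)).1 = 1} ∧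
    (Y ≠ ⊥ → Nat.card Y * Nat.card S < (q ^ 2 - 1) * Nat.card {p : S // (p : Fˣ × (W ≃ₗ[F] W)).1 = 1}) := by
  classical
  have hWfin : Finite W := Module.finite_of_finite F
  have hEfin : Finite (W ≃ₗ[F] W) :=
    Finite.of_injective (fun e => (e : W → W)) DFunLike.coe_injective
  -- the projection to the torus
  let f : ↥S →* Fˣ := (MonoidHom.fst Fˣ (W ≃ₗ[F] W)).comp S.subtype
  have hf : ∀ p : ↥S, f p = (p : Fˣ × (W ≃ₗ[F] W)).1 := fun p => rfl
  set Λ : Subgroup Fˣ := f.range with hΛ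
  have hker : Nat.card {p : S // (p : Fˣ × (W ≃ₗ[F] W)).1 = 1} = Nat.card ↥f.ker := by
    apply Nat.card_congr
    exact Equiv.subtypeEquivRight (fun p => by rw [MonoidHom.mem_ker, hf])
  have hS : Nat.card ↥S = Nat.card ↥Λ * Nat.card ↥f.ker := by
    have h1 := Subgroup.card_mul_index f.ker
    rw [Subgroup.index_ker] at h1
    rw [← h1, mul_comm]
  have hcU : Nat.card Fˣ = q ^ 2 - 1 := by
    rw [Nat.card_units, H.hq]
  have hΛidx : Nat.card ↥Λ * Λ.index = q ^ 2 - 1 := by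
    rw [Subgroup.card_mul_index, hcU]
  have hΛpos : 0 < Nat.card ↥Λ := Nat.card_pos
  have hkpos : 0 < Nat.card ↥f.ker := Nat.card_pos
  have hact : ∀ u ∈ Λ, ∀ c ∈ Y, (u : F) * σ (u : F) * c ∈ Y := by
    rintro u ⟨p, rfl⟩ c hc
    exact H.hSY (p : Fˣ × (W ≃ₗ[F] W)) p.2 c hc
  have hstrict : Y ≠ ⊥ → Nat.card Y * Nat.card ↥Λ < q ^ 2 - 1 := by
    intro hY0
    have key := Cfsg.Agent.Lib.Helper27_UQ_TOR2.torus_field_ineq H.hσ H.hq Y H.hY0 hY0 H.hY Λ hact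
    calc Nat.card Y * Nat.card ↥Λ < (Nat.card Y + 1) * Nat.card ↥Λ := by
            apply Nat.mul_lt_mul_of_pos_right (Nat.lt_succ_self _) hΛpos
      _ ≤ Λ.index * Nat.card ↥Λ := Nat.mul_le_mul_right _ key
      _ = q ^ 2 - 1 := by rw [mul_comm, hΛidx]
  have hweak : Nat.card Y * Nat.card ↥Λ ≤ q ^ 2 - 1 := by
    by_cases hY0 : Y = ⊥
    · rw [hY0]
      have h1 : Nat.card (⊥ : AddSubgroup F) = 1 := AddSubgroup.card_bot
      rw [h1, one_mul, ← hΛidx]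
      exact Nat.le_mul_of_pos_right _ (Nat.pos_of_ne_zero Subgroup.index_ne_zero_of_finite)
    · exact (hstrict hY0).le
  rw [hker, hS]
  constructor
  · calc Nat.card Y * (Nat.card ↥Λ * Nat.card ↥f.ker)
        = (Nat.card Y * Nat.card ↥Λ) * Nat.card ↥f.ker := by ring
      _ ≤ (q ^ 2 - 1) * Nat.card ↥f.ker := Nat.mul_le_mul_right _ hweak
  · intro hY0
    calc Nat.card Y * (Nat.card ↥Λ * Nat.card ↥f.ker)
        = (Nat.card Y * Nat.card ↥Λ) * Nat.card ↥f.ker := by ring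
      _ < (q ^ 2 - 1) * Nat.card ↥f.ker := Nat.mul_lt_mul_of_pos_right (hstrict hY0) hkpos

end Cfsg.Agent.Lib.Helper50_U4_L_TOR
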