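import Mathlib
import Cfsg.Agent.Lib.Helper50_UQAbsDefs

/-!
# UQ-FP (helper50's S2152 market, abstract core): STEP C

The root groups fixing a point `ω` of `Ω` have ONE centre, so `|P| ≤ |Ω|`.  helper64.
-/

set_option autoImplicit false

open Cfsg.Agent.Lib.Helper50_UQAbsDefs

namespace Cfsg.Agent.Lib.Helper64_UQ_FP

theorem FP {G : Type*} [Group G] {Ω : Type*} [MulAction G Ω] [MulAction.IsPretransitive G Ω]
    [Finite Ω] {P : Type*} [MulAction G P] [Finite P]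
    (Qs Xs : P → Subgroup G) (perp : P → P → Prop)
    (hS1 : ∀ (u : P) (ω : Ω), (∀ h ∈ Xs u, h • ω = ω) → ∀ g ∈ Qs u, g • ω = ω)
    (hS2 : ∀ (u : P) (ω : Ω), (∃ h ∈ Xs u, h • ω ≠ ω) → ∀ g ∈ Qs u, g • ω = ω → g = 1)
    (hX : ∀ (g : G) (u : P), ∀ h ∈ Xs u, g * h * g⁻¹ ∈ Xs (g • u))
    (hQQ : ∀ u v : P, perp u v → u ≠ v → ∃ g ∈ Qs u, g ∈ Qs v ∧ g ≠ 1)
    (hopp : ∀ u x y : P, ¬ perp u x → ¬ perp u y → ∃ g ∈ Qs u, g • x = y)
    (hline : ∀ u x v : P, perp u x → u ≠ x →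
      ∃ z : P, perp z v ∧ (z = u ∨ ∃ g ∈ Qs u, g • x = z))
    (htrans : ∀ u x : P, ∃ g : G, g • u = x)
    (hpos : ∃ (u : P) (ω : Ω), ∀ h ∈ Xs u, h • ω = ω)
    (hnot : ∀ ω : Ω, ∃ u : P, ∃ h ∈ Xs u, h • ω ≠ ω) :
    Nat.card P ≤ Nat.card Ω := by
  -- equivariance of `D ω = {u | Xs u fixes ω}`
  have hequiv : ∀ (g : G) (u : P) (ω : Ω), (∀ h ∈ Xs u, h • ω = ω) →
      ∀ h ∈ Xs (g • u), h • (g • ω) = g • ω := by
    intro g u ω hu h hh
    have h1 : g⁻¹ * h * g⁻¹⁻¹ ∈ Xs (g⁻¹ • (g • u)) := hX g⁻¹ (g • u) h hh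
    rw [inv_smul_smul, inv_inv] at h1
    have h2 := hu _ h1
    have h3 : h • (g • ω) = g • ((g⁻¹ * h * g) • ω) := by
      simp only [mul_smul, smul_inv_smul]
    rw [h3, h2]
  -- every `D ω` is nonempty
  obtain ⟨u0, ω0, hu0⟩ := hpos
  have hne : ∀ ω : Ω, ∃ u : P, ∀ h ∈ Xs u, h • ω = ω := by
    intro ω
    obtain ⟨g, rfl⟩ := MulAction.exists_smul_eq G ω0 ω
    exact ⟨g • u0, hequiv g u0 ω0 hu0⟩
  -- (beta)
  have hbeta : ∀ (ω : Ω) (u v : P), (∀ h ∈ Xs u, h • ω = ω) → (∃ h ∈ Xs v, h • ω ≠ ω) →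
      ¬ perp u v := by
    intro ω u v hu hv hperp
    have huv : u ≠ v := by
      rintro rfl
      obtain ⟨h, hh, hne'⟩ := hv
      exact hne' (hu h hh)
    obtain ⟨g, hgu, hgv, hg1⟩ := hQQ u v hperp huv
    exact hg1 (hS2 v ω hv g hgv (hS1 u ω hu g hgu))
  -- uniqueness
  have huniq : ∀ (ω : Ω) (u x : P), (∀ h ∈ Xs u, h • ω = ω) → (∀ h ∈ Xs x, h • ω = ω) →
      u = x := by
    intro ω u x hu hx
    by_contra hux
    obtain ⟨v, hv⟩ := hnot ω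
    have huv := hbeta ω u v hu hv
    -- a point `g • x`, `g ∈ Qs u`, lies in `D ω`
    have hmove : ∀ g ∈ Qs u, ∀ h ∈ Xs (g • x), h • ω = ω := by
      intro g hg h hh
      have h1 := hequiv g x ω hx h hh
      rwa [hS1 u ω hu g hg] at h1
    by_cases hperp : perp u x
    · obtain ⟨z, hzv, hz⟩ := hline u x v hperp hux
      rcases hz with rfl | ⟨g, hg, rfl⟩
      · exact huv hzv
      · exact hbeta ω (g • x) v (hmove g hg) hv hzv
    · obtain ⟨g, hg, rfl⟩ := hopp u x v hperp huv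
      obtain ⟨h, hh, hne'⟩ := hv
      exact hne' (hmove g hg h hh)
  -- the map `ω ↦ u(ω)` is onto
  choose f hf using hne
  have hsurj : Function.Surjective f := by
    intro x
    obtain ⟨g, hg⟩ := htrans (f ω0) x
    refine ⟨g • ω0, ?_⟩
    have h1 : ∀ h ∈ Xs x, h • (g • ω0) = g • ω0 := by
      rw [← hg]
      exact hequiv g (f ω0) ω0 (hf ω0)
    exact huniq (g • ω0) _ _ (hf (g • ω0)) h1
  exact Nat.card_le_card_of_surjective f hsurj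

end Cfsg.Agent.Lib.Helper64_UQ_FP
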