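import Mathlib
import Cfsg.Agent.Lib.Helper50_UQAbsDefs
import Cfsg.Agent.Lib.Helper95_UQ_A1

set_option autoImplicit false

/-!
# UQ-A4 (abstract core of S2152, architect helper50)

A point whose stabiliser in `P = Q L` is a complement of `Q` can be moved inside its `Q`-orbit so that the
stabiliser contains the perfect group `K`.
-/

namespace Cfsg.Agent.Lib.Helper95_UQ_A4

open Cfsg.Agent.Lib.Helper50_UQAbsDefs Cfsg.Agent.Lib.Helper95_UQ_A1

open scoped commutatorElement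

/-- commutators are unchanged by central-like factors -/
theorem comm_id {G : Type*} [Group G] {u u' k k' : G} (h1 : Commute u k) (h2 : Commute u k')
    (h3 : Commute u u') (h4 : Commute u' k) (h5 : Commute u' k') :
    ⁅u * k, u' * k'⁆ = ⁅k, k'⁆ := by
  rw [commutatorElement_def, commutatorElement_def]
  have e1 : (u * k) * (u' * k') = (u * u') * (k * k') := Commute.mul_mul_mul_comm h4.symm u k'
  have e2 : (u * k)⁻¹ = u⁻¹ * k⁻¹ := Commute.mul_inv h1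
  have e3 : (u' * k')⁻¹ = u'⁻¹ * k'⁻¹ := Commute.mul_inv h5
  have c1 : Commute (k * k') u⁻¹ := ((h1.mul_right h2).inv_left).symm
  have e4 : (u * u') * (k * k') * (u⁻¹ * k⁻¹) = (u * u' * u⁻¹) * (k * k' * k⁻¹) :=
    Commute.mul_mul_mul_comm c1 (u * u') k⁻¹
  have c2 : Commute (k * k' * k⁻¹) u'⁻¹ :=
    ((((h4.mul_right h5).mul_right h4.inv_right)).inv_left).symm
  have e5 : (u * u' * u⁻¹) * (k * k' * k⁻¹) * (u'⁻¹ * k'⁻¹) =
      (u * u' * u⁻¹ * u'⁻¹) * (k * k' * k⁻¹ * k'⁻¹) :=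
    Commute.mul_mul_mul_comm c2 (u * u' * u⁻¹) k'⁻¹
  have e6 : u * u' * u⁻¹ * u'⁻¹ = 1 := by
    rw [h3.eq]
    group
  rw [e1, e2, e3, e4, e5, e6, one_mul]

/-- **UQ-A4** (L). -/
theorem A4 {G : Type*} [Group G] [Finite G] {W : Type*} [AddCommGroup W] [Finite W]
    {A : Type*} [AddCommGroup A] [Finite A] {Ω : Type*} [MulAction G Ω]
    (D : UDat G W A) (hD : D.Ok) (ω : Ω)
    (hreg : ∀ g ∈ D.Q, g • ω = ω → g = 1)
    (hcompl : ∀ l ∈ D.L, ∃ g ∈ D.Q, (g * l) • ω = ω)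
    (z : G) (hzL : z ∈ D.L) (r : ℕ) (hr : r.Prime) (hzr : z ^ r = 1) (hz1 : z ≠ 1)
    (hrQ : ¬ r ∣ Nat.card D.Q)
    (hzK : ∀ k ∈ D.K, z * k = k * z)
    (hzW : ∀ w : W, D.ρ z w = w → w = 0)
    (hperf : D.K ≤ ⁅D.K, D.K⁆) :
    ∃ g ∈ D.Q, ∀ k ∈ D.K, k • (g • ω) = g • ω := by
  classical
  haveI : Fact r.Prime := ⟨hr⟩
  letI : Fintype ↥D.Q := Fintype.ofFinite _
  obtain ⟨g₀, hg₀, hg₀z⟩ := hcompl z hzL
  obtain ⟨z', hz'⟩ : ∃ z', z' = g₀ * z := ⟨_, rfl⟩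
  have hz'ω : z' • ω = ω := by rw [hz']; exact hg₀z
  -- powers of `z'`
  have hpow : ∀ n : ℕ, ∃ q ∈ D.Q, z' ^ n = q * z ^ n := by
    intro n
    induction n with
    | zero => exact ⟨1, D.Q.one_mem, by simp⟩
    | succ n ih =>
      obtain ⟨q, hq, hqn⟩ := ih
      refine ⟨q * (z ^ n * g₀ * (z ^ n)⁻¹),
        D.Q.mul_mem hq (hD.L_conj_mem _ (D.L.pow_mem hzL n) g₀ hg₀), ?_⟩
      rw [pow_succ, hqn, pow_succ, hz']
      group
  have hz'r : z' ^ r = 1 := by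
    obtain ⟨q, hq, hqr⟩ := hpow r
    rw [hzr, mul_one] at hqr
    rw [hqr]
    apply hreg q hq
    rw [← hqr]
    exact MulAction.mem_stabilizer_iff.mp
      ((MulAction.stabilizer G ω).pow_mem (MulAction.mem_stabilizer_iff.mpr hz'ω) r)
  -- the permutation `q ↦ z' q z⁻¹` of `Q`
  have hfmem : ∀ q : ↥D.Q, z' * (q : G) * z⁻¹ ∈ D.Q := by
    intro q
    have : z' * (q : G) * z⁻¹ = g₀ * (z * q * z⁻¹) := by rw [hz']; group
    rw [this]
    exact D.Q.mul_mem hg₀ (hD.L_conj_mem z hzL q q.2)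
  let f : Function.End ↥D.Q := fun q => ⟨z' * (q : G) * z⁻¹, hfmem q⟩
  have hfpow : ∀ (n : ℕ) (q : ↥D.Q),
      (((f ^ n) q : ↥D.Q) : G) = z' ^ n * (q : G) * (z ^ n)⁻¹ := by
    intro n
    induction n with
    | zero =>
      intro q
      rw [pow_zero, pow_zero, pow_zero]
      show (q : G) = 1 * (q : G) * 1⁻¹
      group
    | succ n ih =>
      intro q
      rw [pow_succ' f n]
      show z' * (((f ^ n) q : ↥D.Q) : G) * z⁻¹ = _
      rw [ih q, pow_succ' z' n, pow_succ' z n]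
      group
  have hf : f ^ r ^ 1 = 1 := by
    funext q
    apply Subtype.ext
    rw [pow_one, hfpow, hz'r, hzr]
    show 1 * (q : G) * 1⁻¹ = (q : G)
    group
  have hmod := Equiv.Perm.card_fixedPoints_modEq (p := r) (n := 1) hf
  rw [← Nat.card_eq_fintype_card, ← Nat.card_eq_fintype_card] at hmod
  have hfix : ∃ q : ↥D.Q, f q = q := by
    by_contra hne
    push Not at hne
    have h0 : Nat.card ↥(Function.fixedPoints f) = 0 := by
      rw [Nat.card_eq_zero]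
      left
      exact ⟨fun x => hne x.1 x.2⟩
    rw [h0] at hmod
    exact hrQ ((Nat.modEq_zero_iff_dvd).mp hmod)
  obtain ⟨⟨q, hq⟩, hfq⟩ := hfix
  have hfq' : z' * q * z⁻¹ = q := congrArg Subtype.val hfq
  -- the new point
  have hx0 : q⁻¹ ∈ D.Q := D.Q.inv_mem hq
  obtain ⟨ω', hω'⟩ : ∃ ω', ω' = q⁻¹ • ω := ⟨_, rfl⟩
  have hzω' : z • ω' = ω' := by
    have h1 : z * q⁻¹ = q⁻¹ * z' := by
      have h0 : z' * q = q * z := mul_inv_eq_iff_eq_mul.mp hfq'
      have : z' = q * z * q⁻¹ := eq_mul_inv_of_mul_eq h0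
      rw [this]
      group
    rw [hω', ← mul_smul, h1, mul_smul, hz'ω]
  have hreg' : ∀ g ∈ D.Q, g • ω' = ω' → g = 1 := by
    intro g hg hgω
    have h1 : q * g * q⁻¹ ∈ D.Q := D.Q.mul_mem (D.Q.mul_mem hq hg) hx0
    have h2 : (q * g * q⁻¹) • ω = ω := by
      rw [hω'] at hgω
      rw [mul_smul, mul_smul, hgω, smul_inv_smul]
    have h3 := hreg _ h1 h2
    have : g = q⁻¹ * (q * g * q⁻¹) * q := by group
    rw [this, h3]
    group
  have hcompl' : ∀ l ∈ D.L, ∃ g ∈ D.Q, (g * l) • ω' = ω' := by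
    intro l hl
    obtain ⟨gl, hgl, hglω⟩ := hcompl l hl
    refine ⟨q⁻¹ * gl * (l * q * l⁻¹),
      D.Q.mul_mem (D.Q.mul_mem hx0 hgl) (hD.L_conj_mem l hl q hq), ?_⟩
    have : q⁻¹ * gl * (l * q * l⁻¹) * l * q⁻¹ = q⁻¹ * (gl * l) := by group
    rw [hω', ← mul_smul, this, mul_smul, hglω]
  -- elements of `K` fix `ω'` up to a root element
  have hkey : ∀ k ∈ D.K, ∃ a : A, (D.x a * k) • ω' = ω' := by
    intro k hk
    obtain ⟨gk, hgk, hgkω⟩ := hcompl' k (hD.K_le hk)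
    have hc : Commute z k := hzK k hk
    have hc' : z⁻¹ * k = k * z⁻¹ := hc.inv_left.eq
    have hcQ : z * gk * z⁻¹ * gk⁻¹ ∈ D.Q :=
      D.Q.mul_mem (hD.L_conj_mem z hzL gk hgk) (D.Q.inv_mem hgk)
    have hceq : z * gk * z⁻¹ * gk⁻¹ = z * (gk * k) * z⁻¹ * (gk * k)⁻¹ := by
      have e1 : z * (gk * k) * z⁻¹ * (gk * k)⁻¹ = z * gk * (k * z⁻¹) * k⁻¹ * gk⁻¹ := by group
      rw [e1, ← hc']
      group
    have hcω : (z * gk * z⁻¹ * gk⁻¹) • ω' = ω' := by
      rw [hceq]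
      have hT1 : z ∈ MulAction.stabilizer G ω' := MulAction.mem_stabilizer_iff.mpr hzω'
      have hT2 : gk * k ∈ MulAction.stabilizer G ω' := MulAction.mem_stabilizer_iff.mpr hgkω
      exact MulAction.mem_stabilizer_iff.mp
        (Subgroup.mul_mem _ (Subgroup.mul_mem _ (Subgroup.mul_mem _ hT1 hT2)
          (Subgroup.inv_mem _ hT1)) (Subgroup.inv_mem _ hT2))
    have hc1 := hreg' _ hcQ hcω
    have hconj : z * gk * z⁻¹ = gk := by
      rw [mul_inv_eq_one] at hc1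
      exact hc1
    have hπ : D.ρ z (D.π gk) = D.π gk := by
      rw [← hD.L_conj_π z hzL gk hgk, hconj]
    obtain ⟨a, ha⟩ := hD.π_ker gk hgk (hzW _ hπ)
    exact ⟨a, by rw [← ha]; exact hgkω⟩
  -- commutators of `K` fix `ω'`
  have hKT : D.K ≤ MulAction.stabilizer G ω' := by
    refine le_trans hperf ?_
    rw [Subgroup.commutator_le]
    intro k hk k' hk'
    obtain ⟨a, ha⟩ := hkey k hk
    obtain ⟨a', ha'⟩ := hkey k' hk'
    have h1 : Commute (D.x a) k := (hD.K_x k hk a).symm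
    have h2 : Commute (D.x a) k' := (hD.K_x k' hk' a).symm
    have h3 : Commute (D.x a) (D.x a') := by
      show D.x a * D.x a' = D.x a' * D.x a
      rw [← hD.x_add, ← hD.x_add, add_comm]
    have h4 : Commute (D.x a') k := (hD.K_x k hk a').symm
    have h5 : Commute (D.x a') k' := (hD.K_x k' hk' a').symm
    rw [← comm_id h1 h2 h3 h4 h5, commutatorElement_def]
    have hT1 : D.x a * k ∈ MulAction.stabilizer G ω' := MulAction.mem_stabilizer_iff.mpr ha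
    have hT2 : D.x a' * k' ∈ MulAction.stabilizer G ω' := MulAction.mem_stabilizer_iff.mpr ha'
    exact Subgroup.mul_mem _ (Subgroup.mul_mem _ (Subgroup.mul_mem _ hT1 hT2)
      (Subgroup.inv_mem _ hT1)) (Subgroup.inv_mem _ hT2)
  refine ⟨q⁻¹, hx0, fun k hk => ?_⟩
  rw [← hω']
  exact MulAction.mem_stabilizer_iff.mp (hKT hk)

end Cfsg.Agent.Lib.Helper95_UQ_A4
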