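import Mathlib
import Cfsg.Agent.Lib.Helper50_UQAbsDefs
import Cfsg.Agent.Lib.Helper61_UQ_CARDQ
import Cfsg.Agent.Lib.Helper95_UQ_A1
import Cfsg.Agent.Lib.Helper25_UQ_A2
import Cfsg.Agent.Lib.Helper95_UQ_A4
import Cfsg.Agent.Lib.Helper79_UQ_BINJ
import Cfsg.Agent.Lib.Helper25_UQ_INT
import Cfsg.Agent.Lib.Helper64_UQ_FP

set_option autoImplicit false

/-!
Assembly of the abstract core of S2152 (helper50): `stepA` (dichotomy for the `P`-orbit of a point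
moved by the root group) and `abstract_main`.
-/

namespace Cfsg.Agent.Lib.Helper50_UQAbsMain

open Cfsg.Agent.Lib.Helper50_UQAbsDefs

theorem x_zero {G : Type*} [Group G] {W : Type*} [AddCommGroup W] {A : Type*} [AddCommGroup A]
    (D : UDat G W A) (hD : D.Ok) : D.x 0 = 1 := by
  have h := hD.x_add 0 0
  rw [add_zero] at h
  exact (mul_eq_left.mp h.symm)

/-- STEP A dichotomy. -/
theorem stepA {G : Type*} [Group G] [Finite G] {W : Type*} [AddCommGroup W] [Finite W]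
    {A : Type*} [AddCommGroup A] [Finite A] {Ω : Type*} [MulAction G Ω] [Finite Ω]
    (D : UDat G W A) (hD : D.Ok)
    (q d μ N : ℕ) (hq : 2 ≤ q) (hd : 1 ≤ d)
    (hA : Nat.card A = q) (hW : Nat.card W = q ^ (2 * d))
    (hN1 : N ≤ μ * q ^ (d + 1)) (hN2 : N ≤ q ^ (2 * d + 1) + 2 * q ^ (2 * d))
    (hirr : ∀ I : AddSubgroup W, (∀ k ∈ D.K, ∀ w ∈ I, D.ρ k w ∈ I) → I = ⊥ ∨ I = ⊤)
    (hμ : ∀ E : Subgroup G, E ≤ D.K → E ≠ D.K → μ ≤ E.relIndex D.K)
    (htorus : ∀ (S : Subgroup G) (Y : AddSubgroup A), S ≤ D.L → Y ≠ ⊥ → Y ≠ ⊤ →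
        (∀ s ∈ S, ∀ a ∈ Y, D.ν s a ∈ Y) → Nat.card Y + 1 ≤ (S ⊔ D.K).relIndex D.L)
    (ω : Ω) (hω : ∃ a, D.x a • ω ≠ ω) :
    N ≤ Nat.card Ω ∨
      ((∀ g ∈ D.Q, g • ω = ω → g = 1) ∧ (∀ l ∈ D.L, ∃ g ∈ D.Q, (g * l) • ω = ω)) := by
  obtain ⟨Y, I, S, hY, hI, hS, hβ, hSI, hSY, hcount⟩ := Cfsg.Agent.Lib.Helper95_UQ_A1.A1 D hD ω
  have hcQ : Nat.card D.Q = q ^ (2 * d + 1) := by
    rw [Cfsg.Agent.Lib.Helper61_UQ_CARDQ.cardQ D hD, hW, hA, pow_succ]
  set o := Nat.card (MulAction.orbit ↥(D.Q ⊔ D.L) ω) with ho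
  have hoΩ : o ≤ Nat.card Ω := by
    rw [ho]
    exact Nat.card_le_card_of_injective (fun x => (x : Ω)) Subtype.val_injective
  set t := (S ⊔ D.K).relIndex D.L with ht
  set e := (S ⊓ D.K).relIndex D.K with he
  have hqpos : 0 < q := by omega
  have hYtop : Y ≠ ⊤ := by
    obtain ⟨a, ha⟩ := hω
    intro h
    apply ha
    rw [← hY a, h]
    exact AddSubgroup.mem_top a
  have hSL : S ≤ D.L := fun l hl => ((hS l).mp hl).1
  have hcI : Nat.card I ≤ q ^ d := by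
    have h2 := Cfsg.Agent.Lib.Helper25_UQ_A2.A2 D.β hD.β_add_left hD.β_add_right hD.β_surj Y hYtop I hβ
    rw [hW, pow_mul, pow_right_comm] at h2
    exact (Nat.pow_le_pow_iff_left (by norm_num)).mp h2
  have hcIpos : 0 < Nat.card I := Nat.card_pos
  have hcYpos : 0 < Nat.card Y := Nat.card_pos
  have htpos : 0 < t := by
    rw [ht]
    exact Nat.pos_of_ne_zero (by unfold Subgroup.relIndex; exact Subgroup.index_ne_zero_of_finite)
  have hepos : 0 < e := by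
    rw [he]
    exact Nat.pos_of_ne_zero (by unfold Subgroup.relIndex; exact Subgroup.index_ne_zero_of_finite)
  have htY : Nat.card Y ≤ t := by
    by_cases hYbot : Y = ⊥
    · rw [hYbot, AddSubgroup.card_bot]
      exact htpos
    · have := htorus S Y hSL hYbot hYtop hSY
      omega
  by_cases hE : S ⊓ D.K = D.K
  · -- K ≤ S
    have hKS : D.K ≤ S := inf_eq_right.mp hE
    have he1 : e = 1 := by
      rw [he, hE]
      exact Subgroup.relIndex_self D.K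
    have hIinv : ∀ k ∈ D.K, ∀ w ∈ I, D.ρ k w ∈ I := fun k hk w hw => hSI k (hKS hk) w hw
    have hIbot : I = ⊥ := by
      rcases hirr I hIinv with h | h
      · exact h
      · exfalso
        rw [h, AddSubgroup.card_top, hW, pow_mul, pow_right_comm, sq] at hcI
        have h1 : 2 ≤ q ^ d := by
          calc 2 ≤ q := hq
            _ = q ^ 1 := (pow_one q).symm
            _ ≤ q ^ d := Nat.pow_le_pow_right hqpos hd
        nlinarith
    have hcI1 : Nat.card I = 1 := by rw [hIbot, AddSubgroup.card_bot]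
    rw [hcI1, he1, mul_one, mul_one, hcQ] at hcount
    by_cases hYbot : Y = ⊥
    · have hcY1 : Nat.card Y = 1 := by rw [hYbot, AddSubgroup.card_bot]
      rw [hcY1, mul_one] at hcount
      by_cases ht1 : t = 1
      · right
        have hLS : D.L ≤ S := by
          have h1 : D.L ≤ S ⊔ D.K := Subgroup.relIndex_eq_one.mp ht1
          rwa [sup_eq_left.mpr hKS] at h1
        refine ⟨?_, ?_⟩
        · intro g hg hgω
          have h1 : D.π g ∈ I := (hI _).mpr ⟨g, hg, hgω, rfl⟩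
          rw [hIbot, AddSubgroup.mem_bot] at h1
          obtain ⟨a, rfl⟩ := hD.π_ker g hg h1
          have h2 : a ∈ Y := (hY a).mpr hgω
          rw [hYbot, AddSubgroup.mem_bot] at h2
          rw [h2, x_zero D hD]
        · intro l hl
          exact ((hS l).mp (hLS hl)).2
      · left
        have ht2 : 2 ≤ t := by omega
        have h1 : q ^ (2 * d + 1) * 2 ≤ o := by
          rw [hcount]
          exact Nat.mul_le_mul_left _ ht2
        have h2 : 2 * q ^ (2 * d) ≤ q ^ (2 * d + 1) := by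
          rw [pow_succ, mul_comm]
          exact Nat.mul_le_mul_left _ hq
        omega
    · left
      have h1 := htorus S Y hSL hYbot hYtop hSY
      -- 2 * card Y ≤ q
      have hdvd : Nat.card Y ∣ q := by
        rw [← hA]
        exact AddSubgroup.card_addSubgroup_dvd_card Y
      have hne : Nat.card Y ≠ q := by
        intro h
        apply hYtop
        rw [← hA] at h
        exact AddSubgroup.card_eq_iff_eq_top Y |>.mp h
      have h2Y : 2 * Nat.card Y ≤ q := by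
        obtain ⟨c, hc⟩ := hdvd
        have hc2 : 2 ≤ c := by
          rcases c with _ | _ | c
          · omega
          · exfalso; apply hne; omega
          · omega
        calc 2 * Nat.card Y ≤ c * Nat.card Y := Nat.mul_le_mul_right _ hc2
          _ = q := by rw [hc, mul_comm]
      -- o * cY = q^(2d+1) * t ≥ q^(2d+1) * (cY + 1)
      have h3 : q ^ (2 * d + 1) * (Nat.card Y + 1) ≤ o * Nat.card Y := by
        rw [hcount]
        exact Nat.mul_le_mul_left _ h1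
      have h4 : q ^ (2 * d) * (2 * Nat.card Y) ≤ q ^ (2 * d + 1) := by
        rw [pow_succ]
        exact Nat.mul_le_mul_left _ h2Y
      have h5 : (q ^ (2 * d + 1) + 2 * q ^ (2 * d)) * Nat.card Y ≤ o * Nat.card Y := by
        calc (q ^ (2 * d + 1) + 2 * q ^ (2 * d)) * Nat.card Y
            = q ^ (2 * d + 1) * Nat.card Y + q ^ (2 * d) * (2 * Nat.card Y) := by ring
          _ ≤ q ^ (2 * d + 1) * Nat.card Y + q ^ (2 * d + 1) := Nat.add_le_add_left h4 _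
          _ = q ^ (2 * d + 1) * (Nat.card Y + 1) := by ring
          _ ≤ o * Nat.card Y := h3
      have h6 := Nat.le_of_mul_le_mul_right h5 hcYpos
      omega
  · left
    have heμ : μ ≤ e := hμ (S ⊓ D.K) inf_le_right hE
    rw [hcQ] at hcount
    -- o * (cY * cI) = Q * (t * e) ≥ Q * (cY * μ)
    have h1 : q ^ (2 * d + 1) * (Nat.card Y * μ) ≤ o * (Nat.card Y * Nat.card I) := by
      rw [hcount]
      exact Nat.mul_le_mul_left _ (Nat.mul_le_mul htY heμ)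
    have h2 : (q ^ (2 * d + 1) * μ) * Nat.card Y ≤ (o * Nat.card I) * Nat.card Y := by
      calc (q ^ (2 * d + 1) * μ) * Nat.card Y = q ^ (2 * d + 1) * (Nat.card Y * μ) := by ring
        _ ≤ o * (Nat.card Y * Nat.card I) := h1
        _ = (o * Nat.card I) * Nat.card Y := by ring
    have h3 := Nat.le_of_mul_le_mul_right h2 hcYpos
    have h4 : (μ * q ^ (d + 1)) * q ^ d ≤ o * q ^ d := by
      calc (μ * q ^ (d + 1)) * q ^ d = q ^ (2 * d + 1) * μ := by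
            rw [mul_assoc, ← pow_add]
            have : d + 1 + d = 2 * d + 1 := by ring
            rw [this, mul_comm]
        _ ≤ o * Nat.card I := h3
        _ ≤ o * q ^ d := Nat.mul_le_mul_left _ hcI
    have h5 := Nat.le_of_mul_le_mul_right h4 (by positivity)
    omega


section Aux

variable {G : Type*} [Group G] {W : Type*} [AddCommGroup W] {A : Type*} [AddCommGroup A]
  (D : UDat G W A) (hD : D.Ok)

include hD in
theorem pi_one : D.π 1 = 0 := by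
  rw [← x_zero D hD]
  exact hD.π_x 0

include hD in
theorem pi_inv {g : G} (hg : g ∈ D.Q) : D.π g⁻¹ = -D.π g := by
  have h := hD.π_mul g hg g⁻¹ (D.Q.inv_mem hg)
  rw [mul_inv_cancel, pi_one D hD] at h
  exact (neg_eq_of_add_eq_zero_right h.symm).symm

include hD in
theorem beta_zero_left (w : W) : D.β 0 w = 0 := by
  have h := hD.β_add_left 0 0 w
  rw [add_zero] at h
  exact left_eq_add.mp h

include hD in
theorem x_central (a : A) {g : G} (hg : g ∈ D.Q) : D.x a * g = g * D.x a := by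
  have h := hD.comm (D.x a) (hD.x_mem a) g hg
  rw [hD.π_x, beta_zero_left D hD, x_zero D hD, one_mul] at h
  exact h

end Aux

/-- TAIL of the abstract core: from `hreg` (CLAIM A: `Q` is regular on the points moved by the root
group), `hpos` (some root group fixes a point) and the covering bound `hsub`. -/
theorem abstract_tail {G : Type*} [Group G] [Finite G] {W : Type*} [AddCommGroup W] [Finite W]
    {A : Type*} [AddCommGroup A] [Finite A]
    {Ω : Type*} [MulAction G Ω] [MulAction.IsPretransitive G Ω] [Finite Ω] [Nonempty Ω]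
    {P : Type*} [MulAction G P] [MulAction.IsPretransitive G P] [Finite P]
    (D : UDat G W A) (hD : D.Ok)
    (Qs Xs : P → Subgroup G) (perp : P → P → Prop) (u0 : P)
    (hQ0 : Qs u0 = D.Q) (hX0 : ∀ h, h ∈ Xs u0 ↔ ∃ a, h = D.x a)
    (hQconj : ∀ (g : G) (u : P), ∀ h ∈ Qs u, g * h * g⁻¹ ∈ Qs (g • u))
    (hXconj : ∀ (g : G) (u : P), ∀ h ∈ Xs u, g * h * g⁻¹ ∈ Xs (g • u))
    (q d N T1 : ℕ)
    (hA : Nat.card A = q) (hW : Nat.card W = q ^ (2 * d))
    (hP : Nat.card P = N) (hN : N = 1 + T1 + q ^ (2 * d + 1))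
    (hT1 : 0 < T1)
    (hreg : ∀ ω : Ω, (∃ a, D.x a • ω ≠ ω) → ∀ g ∈ D.Q, g • ω = ω → g = 1)
    (hpos : ∃ (u : P) (ω : Ω), ∀ h ∈ Xs u, h • ω = ω)
    (hsub : ∀ J : AddSubgroup W, J ≠ ⊤ →
        T1 ≤ J.index * Nat.card {S : Set W // ∃ k ∈ D.K, S = D.ρ k '' (J : Set W)})
    (hQQ : ∀ u v : P, perp u v → u ≠ v → ∃ g ∈ Qs u, g ∈ Qs v ∧ g ≠ 1)
    (hopp : ∀ u x y : P, ¬ perp u x → ¬ perp u y → ∃ g ∈ Qs u, g • x = y)
    (hline : ∀ u x v : P, perp u x → u ≠ x →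
      ∃ z : P, perp z v ∧ (z = u ∨ ∃ g ∈ Qs u, g • x = z))
    (hnot : ∀ ω : Ω, ∃ u : P, ∃ h ∈ Xs u, h • ω ≠ ω) :
    N ≤ Nat.card Ω := by
  classical
  by_contra hlt
  push Not at hlt
  have hcQ : Nat.card D.Q = q ^ (2 * d + 1) := by
    rw [Cfsg.Agent.Lib.Helper61_UQ_CARDQ.cardQ D hD, hW, hA, pow_succ]
  -- conjugation helpers
  have hXback : ∀ (g : G) (h : G), h ∈ Xs (g • u0) → g⁻¹ * h * g ∈ Xs u0 := by
    intro g h hh
    have := hXconj g⁻¹ (g • u0) h hh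
    rwa [inv_inv, inv_smul_smul] at this
  have hQback : ∀ (g : G) (h : G), h ∈ Qs (g • u0) → g⁻¹ * h * g ∈ D.Q := by
    intro g h hh
    have := hQconj g⁻¹ (g • u0) h hh
    rwa [inv_inv, inv_smul_smul, hQ0] at this
  -- some point is moved by X
  obtain ⟨ω1, hω1⟩ : ∃ ω1 : Ω, ∃ a, D.x a • ω1 ≠ ω1 := by
    obtain ⟨ω⟩ := (inferInstance : Nonempty Ω)
    obtain ⟨u, h, hh, hmove⟩ := hnot ω
    obtain ⟨g, rfl⟩ := MulAction.exists_smul_eq G u0 u
    obtain ⟨a, ha⟩ := (hX0 _).mp (hXback g h hh)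
    refine ⟨g⁻¹ • ω, a, ?_⟩
    rw [← ha]
    intro hfix
    apply hmove
    have : g • ((g⁻¹ * h * g) • g⁻¹ • ω) = g • (g⁻¹ • ω) := by rw [hfix]
    simpa [smul_smul, mul_assoc] using this
  have hreg1 := hreg ω1 hω1
  -- the Q-orbit of ω1 consists of moved points
  have hmoved : ∀ g ∈ D.Q, ¬ ∀ a, D.x a • (g • ω1) = g • ω1 := by
    intro g hg hfix
    obtain ⟨a, ha⟩ := hω1
    apply ha
    have h1 := hfix a
    rw [smul_smul, x_central D hD a hg, ← smul_smul] at h1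
    exact smul_left_cancel g h1
  -- card of moved points ≥ |Q|
  have hc1 : q ^ (2 * d + 1) ≤ Nat.card {ω : Ω // ¬ ∀ a, D.x a • ω = ω} := by
    rw [← hcQ]
    apply Nat.card_le_card_of_injective
      (fun g : D.Q => (⟨(g : G) • ω1, hmoved g g.2⟩ : {ω : Ω // ¬ ∀ a, D.x a • ω = ω}))
    intro g g' hgg
    have h1 : (g : G) • ω1 = (g' : G) • ω1 := congrArg Subtype.val hgg
    have h2 : ((g' : G)⁻¹ * (g : G)) • ω1 = ω1 := by
      rw [← smul_smul, h1, inv_smul_smul]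
    have h3 := hreg1 _ (D.Q.mul_mem (D.Q.inv_mem g'.2) g.2) h2
    apply Subtype.ext
    have : (g : G) = (g' : G) := by
      have := congrArg (fun t => (g' : G) * t) h3
      simpa using this
    exact this
  have hsplit : Nat.card {ω : Ω // ∀ a, D.x a • ω = ω} +
      Nat.card {ω : Ω // ¬ ∀ a, D.x a • ω = ω} = Nat.card Ω := by
    rw [← Nat.card_sum]
    exact Nat.card_congr (Equiv.sumCompl _)
  -- hS1 at u0
  have hS1₀ : ∀ ω : Ω, (∀ a, D.x a • ω = ω) → ∀ g ∈ D.Q, g • ω = ω := by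
    intro ω hω g hg
    by_contra hgω
    obtain ⟨J, hJ, hbound⟩ := Cfsg.Agent.Lib.Helper79_UQ_BINJ.Binj D hD ω hω
    have hJtop : J ≠ ⊤ := by
      intro h
      have h1 : D.π g ∈ J := by rw [h]; exact AddSubgroup.mem_top _
      obtain ⟨g', hg', hg'ω, hπ⟩ := (hJ _).mp h1
      have h2 : D.π (g * g'⁻¹) = 0 := by
        rw [hD.π_mul g hg g'⁻¹ (D.Q.inv_mem hg'), pi_inv D hD hg', hπ, add_neg_cancel]
      obtain ⟨a, ha⟩ := hD.π_ker _ (D.Q.mul_mem hg (D.Q.inv_mem hg')) h2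
      apply hgω
      have h3 : g = D.x a * g' := by rw [← ha]; group
      rw [h3, ← smul_smul, hg'ω, hω a]
    have hT := hsub J hJtop
    set f := Nat.card {ω : Ω // ∀ a, D.x a • ω = ω} with hf
    have hfT : T1 ≤ f := le_trans hT hbound
    -- equalities
    have hΩ : Nat.card Ω = N - 1 := by omega
    have hfeq : f = T1 := by omega
    obtain ⟨s, hs⟩ := Cfsg.Agent.Lib.Helper25_UQ_INT.INT (Ω := Ω) Xs hXconj u0
    have hfix_eq : Nat.card {ω : Ω // ∀ h ∈ Xs u0, h • ω = ω} = f := by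
      apply Nat.card_congr
      apply Equiv.subtypeEquivRight
      intro ω'
      constructor
      · intro h a
        exact h _ ((hX0 _).mpr ⟨a, rfl⟩)
      · intro h h' hh'
        obtain ⟨a, rfl⟩ := (hX0 _).mp hh'
        exact h a
    rw [hfix_eq, hP, hΩ, hfeq] at hs
    have hcop : Nat.Coprime (N - 1) N := by
      have : N = (N - 1) + 1 := by omega
      rw [this]
      simp
    have hdvd : (N - 1) ∣ T1 := by
      have h1 : (N - 1) ∣ N * T1 := ⟨s, hs.symm⟩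
      exact hcop.dvd_of_dvd_mul_left h1
    have hpowpos : 0 < q ^ (2 * d + 1) := by
      rw [← hcQ]; exact Nat.card_pos
    have hle := Nat.le_of_dvd hT1 hdvd
    omega
  -- transfer
  have hS1 : ∀ (u : P) (ω : Ω), (∀ h ∈ Xs u, h • ω = ω) → ∀ g ∈ Qs u, g • ω = ω := by
    intro u ω hfix g hg
    obtain ⟨g1, rfl⟩ := MulAction.exists_smul_eq G u0 u
    have hfix0 : ∀ a, D.x a • (g1⁻¹ • ω) = g1⁻¹ • ω := by
      intro a
      have hmem : g1 * D.x a * g1⁻¹ ∈ Xs (g1 • u0) := hXconj g1 u0 _ ((hX0 _).mpr ⟨a, rfl⟩)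
      have h1 := hfix _ hmem
      have : g1⁻¹ • ((g1 * D.x a * g1⁻¹) • ω) = g1⁻¹ • ω := by rw [h1]
      simpa [smul_smul, mul_assoc] using this
    have h2 := hS1₀ _ hfix0 _ (hQback g1 g hg)
    have : g1 • ((g1⁻¹ * g * g1) • g1⁻¹ • ω) = g1 • (g1⁻¹ • ω) := by rw [h2]
    simpa [smul_smul, mul_assoc] using this
  have hS2 : ∀ (u : P) (ω : Ω), (∃ h ∈ Xs u, h • ω ≠ ω) → ∀ g ∈ Qs u, g • ω = ω → g = 1 := by
    intro u ω hmove g hg hgω
    obtain ⟨g1, rfl⟩ := MulAction.exists_smul_eq G u0 u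
    obtain ⟨h, hh, hhω⟩ := hmove
    obtain ⟨a, ha⟩ := (hX0 _).mp (hXback g1 h hh)
    have hmove0 : ∃ a, D.x a • (g1⁻¹ • ω) ≠ g1⁻¹ • ω := by
      refine ⟨a, ?_⟩
      rw [← ha]
      intro hfix
      apply hhω
      have : g1 • ((g1⁻¹ * h * g1) • g1⁻¹ • ω) = g1 • (g1⁻¹ • ω) := by rw [hfix]
      simpa [smul_smul, mul_assoc] using this
    have hfix0 : (g1⁻¹ * g * g1) • (g1⁻¹ • ω) = g1⁻¹ • ω := by
      rw [smul_smul]
      have : g1⁻¹ * g * g1 * g1⁻¹ = g1⁻¹ * g := by group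
      rw [this, ← smul_smul, hgω]
    have h1 := hreg _ hmove0 _ (hQback g1 g hg) hfix0
    have : g = g1 * (g1⁻¹ * g * g1) * g1⁻¹ := by group
    rw [this, h1]
    group
  -- FP
  have hFP := Cfsg.Agent.Lib.Helper64_UQ_FP.FP Qs Xs perp hS1 hS2 hXconj hQQ hopp hline
    (fun u x => MulAction.exists_smul_eq G u x) hpos hnot
  omega

/-- abstract core: `stepA` + `abstract_tail` (the torus element `z` replaced by `hpos`). -/
theorem abstract_core {G : Type*} [Group G] [Finite G] {W : Type*} [AddCommGroup W] [Finite W]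
    {A : Type*} [AddCommGroup A] [Finite A]
    {Ω : Type*} [MulAction G Ω] [MulAction.IsPretransitive G Ω] [Finite Ω] [Nonempty Ω]
    {P : Type*} [MulAction G P] [MulAction.IsPretransitive G P] [Finite P]
    (D : UDat G W A) (hD : D.Ok)
    (Qs Xs : P → Subgroup G) (perp : P → P → Prop) (u0 : P)
    (hQ0 : Qs u0 = D.Q) (hX0 : ∀ h, h ∈ Xs u0 ↔ ∃ a, h = D.x a)
    (hQconj : ∀ (g : G) (u : P), ∀ h ∈ Qs u, g * h * g⁻¹ ∈ Qs (g • u))
    (hXconj : ∀ (g : G) (u : P), ∀ h ∈ Xs u, g * h * g⁻¹ ∈ Xs (g • u))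
    (q d μ N T1 : ℕ) (hq : 2 ≤ q) (hd : 1 ≤ d)
    (hA : Nat.card A = q) (hW : Nat.card W = q ^ (2 * d))
    (hP : Nat.card P = N) (hN : N = 1 + T1 + q ^ (2 * d + 1))
    (hT1 : 0 < T1) (hT2 : 1 + T1 ≤ 2 * q ^ (2 * d))
    (hμN : N ≤ μ * q ^ (d + 1))
    (hirr : ∀ I : AddSubgroup W, (∀ k ∈ D.K, ∀ w ∈ I, D.ρ k w ∈ I) → I = ⊥ ∨ I = ⊤)
    (hμ : ∀ E : Subgroup G, E ≤ D.K → E ≠ D.K → μ ≤ E.relIndex D.K)
    (htorus : ∀ (S : Subgroup G) (Y : AddSubgroup A), S ≤ D.L → Y ≠ ⊥ → Y ≠ ⊤ →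
        (∀ s ∈ S, ∀ a ∈ Y, D.ν s a ∈ Y) → Nat.card Y + 1 ≤ (S ⊔ D.K).relIndex D.L)
    (hpos : ∃ (u : P) (ω : Ω), ∀ h ∈ Xs u, h • ω = ω)
    (hsub : ∀ J : AddSubgroup W, J ≠ ⊤ →
        T1 ≤ J.index * Nat.card {S : Set W // ∃ k ∈ D.K, S = D.ρ k '' (J : Set W)})
    (hQQ : ∀ u v : P, perp u v → u ≠ v → ∃ g ∈ Qs u, g ∈ Qs v ∧ g ≠ 1)
    (hopp : ∀ u x y : P, ¬ perp u x → ¬ perp u y → ∃ g ∈ Qs u, g • x = y)
    (hline : ∀ u x v : P, perp u x → u ≠ x →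
      ∃ z : P, perp z v ∧ (z = u ∨ ∃ g ∈ Qs u, g • x = z))
    (hnot : ∀ ω : Ω, ∃ u : P, ∃ h ∈ Xs u, h • ω ≠ ω) :
    N ≤ Nat.card Ω := by
  by_contra hlt
  push Not at hlt
  have hN2 : N ≤ q ^ (2 * d + 1) + 2 * q ^ (2 * d) := by omega
  have hreg : ∀ ω : Ω, (∃ a, D.x a • ω ≠ ω) → ∀ g ∈ D.Q, g • ω = ω → g = 1 := by
    intro ω hω
    rcases stepA D hD q d μ N hq hd hA hW hμN hN2 hirr hμ htorus ω hω with h | h
    · omega
    · exact h.1
  have := abstract_tail D hD Qs Xs perp u0 hQ0 hX0 hQconj hXconj q d N T1 hA hW hP hN hT1 hreg hpos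
    hsub hQQ hopp hline hnot
  omega

/-- ASSEMBLY of the abstract core: the list of hypotheses is the to-do list of the geometric
layer. -/
theorem abstract_main {G : Type*} [Group G] [Finite G] {W : Type*} [AddCommGroup W] [Finite W]
    {A : Type*} [AddCommGroup A] [Finite A]
    {Ω : Type*} [MulAction G Ω] [MulAction.IsPretransitive G Ω] [Finite Ω] [Nonempty Ω]
    {P : Type*} [MulAction G P] [MulAction.IsPretransitive G P] [Finite P]
    (D : UDat G W A) (hD : D.Ok)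
    (Qs Xs : P → Subgroup G) (perp : P → P → Prop) (u0 : P)
    (hQ0 : Qs u0 = D.Q) (hX0 : ∀ h, h ∈ Xs u0 ↔ ∃ a, h = D.x a)
    (hQconj : ∀ (g : G) (u : P), ∀ h ∈ Qs u, g * h * g⁻¹ ∈ Qs (g • u))
    (hXconj : ∀ (g : G) (u : P), ∀ h ∈ Xs u, g * h * g⁻¹ ∈ Xs (g • u))
    (q d μ N T1 : ℕ) (hq : 2 ≤ q) (hd : 1 ≤ d)
    (hA : Nat.card A = q) (hW : Nat.card W = q ^ (2 * d))
    (hP : Nat.card P = N) (hN : N = 1 + T1 + q ^ (2 * d + 1))
    (hT1 : 0 < T1) (hT2 : 1 + T1 ≤ 2 * q ^ (2 * d))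
    (hμN : N ≤ μ * q ^ (d + 1))
    (hirr : ∀ I : AddSubgroup W, (∀ k ∈ D.K, ∀ w ∈ I, D.ρ k w ∈ I) → I = ⊥ ∨ I = ⊤)
    (hμ : ∀ E : Subgroup G, E ≤ D.K → E ≠ D.K → μ ≤ E.relIndex D.K)
    (htorus : ∀ (S : Subgroup G) (Y : AddSubgroup A), S ≤ D.L → Y ≠ ⊥ → Y ≠ ⊤ →
        (∀ s ∈ S, ∀ a ∈ Y, D.ν s a ∈ Y) → Nat.card Y + 1 ≤ (S ⊔ D.K).relIndex D.L)
    (z : G) (hzL : z ∈ D.L) (r : ℕ) (hr : r.Prime) (hzr : z ^ r = 1) (hz1 : z ≠ 1)
    (hrq : ¬ r ∣ q)
    (hzK : ∀ k ∈ D.K, z * k = k * z) (hzW : ∀ w : W, D.ρ z w = w → w = 0)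
    (hperf : D.K ≤ ⁅D.K, D.K⁆)
    (hroot : ∃ u : P, Xs u ≤ D.K)
    (hsub : ∀ J : AddSubgroup W, J ≠ ⊤ →
        T1 ≤ J.index * Nat.card {S : Set W // ∃ k ∈ D.K, S = D.ρ k '' (J : Set W)})
    (hQQ : ∀ u v : P, perp u v → u ≠ v → ∃ g ∈ Qs u, g ∈ Qs v ∧ g ≠ 1)
    (hopp : ∀ u x y : P, ¬ perp u x → ¬ perp u y → ∃ g ∈ Qs u, g • x = y)
    (hline : ∀ u x v : P, perp u x → u ≠ x →
      ∃ z : P, perp z v ∧ (z = u ∨ ∃ g ∈ Qs u, g • x = z))
    (hnot : ∀ ω : Ω, ∃ u : P, ∃ h ∈ Xs u, h • ω ≠ ω) :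
    N ≤ Nat.card Ω := by
  by_contra hlt
  push Not at hlt
  have hcQ : Nat.card D.Q = q ^ (2 * d + 1) := by
    rw [Cfsg.Agent.Lib.Helper61_UQ_CARDQ.cardQ D hD, hW, hA, pow_succ]
  have hN2 : N ≤ q ^ (2 * d + 1) + 2 * q ^ (2 * d) := by omega
  have hXback : ∀ (g : G) (h : G), h ∈ Xs (g • u0) → g⁻¹ * h * g ∈ Xs u0 := by
    intro g h hh
    have := hXconj g⁻¹ (g • u0) h hh
    rwa [inv_inv, inv_smul_smul] at this
  -- some point is moved by X
  obtain ⟨ω1, hω1⟩ : ∃ ω1 : Ω, ∃ a, D.x a • ω1 ≠ ω1 := by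
    obtain ⟨ω⟩ := (inferInstance : Nonempty Ω)
    obtain ⟨u, h, hh, hmove⟩ := hnot ω
    obtain ⟨g, rfl⟩ := MulAction.exists_smul_eq G u0 u
    obtain ⟨a, ha⟩ := (hX0 _).mp (hXback g h hh)
    refine ⟨g⁻¹ • ω, a, ?_⟩
    rw [← ha]
    intro hfix
    apply hmove
    have : g • ((g⁻¹ * h * g) • g⁻¹ • ω) = g • (g⁻¹ • ω) := by rw [hfix]
    simpa [smul_smul, mul_assoc] using this
  obtain ⟨hreg1, hcompl1⟩ : (∀ g ∈ D.Q, g • ω1 = ω1 → g = 1) ∧
      (∀ l ∈ D.L, ∃ g ∈ D.Q, (g * l) • ω1 = ω1) := by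
    rcases stepA D hD q d μ N hq hd hA hW hμN hN2 hirr hμ htorus ω1 hω1 with h | h
    · omega
    · exact h
  have hrQ : ¬ r ∣ Nat.card D.Q := by
    rw [hcQ]
    intro h
    exact hrq (hr.dvd_of_dvd_pow h)
  obtain ⟨g0, hg0, hK⟩ := Cfsg.Agent.Lib.Helper95_UQ_A4.A4 D hD ω1 hreg1 hcompl1 z hzL r hr hzr hz1 hrQ hzK hzW hperf
  have hpos : ∃ (u : P) (ω : Ω), ∀ h ∈ Xs u, h • ω = ω := by
    obtain ⟨u, hu⟩ := hroot
    exact ⟨u, g0 • ω1, fun h hh => hK h (hu hh)⟩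
  have := abstract_core D hD Qs Xs perp u0 hQ0 hX0 hQconj hXconj q d μ N T1 hq hd hA hW hP hN hT1
    hT2 hμN hirr hμ htorus hpos hsub hQQ hopp hline hnot
  omega

end Cfsg.Agent.Lib.Helper50_UQAbsMain
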