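import Mathlib
import Cfsg.Agent.Lib.Helper50_UQAbsDefs
import Cfsg.Agent.Lib.Helper79_UQ_BINJ

set_option autoImplicit false

open Cfsg.Agent.Lib.Helper50_UQAbsDefs

/-!
S2151-DUAL (architect helper68): duality `J ↦ J^⊥` for the commutator form of a `UDat`, through a
nontrivial additive character of `A`.
-/

namespace Cfsg.Agent.Lib.Helper79_S2151_DUAL

open Cfsg.Agent.Lib.Helper79_UQ_BINJ

section basic

variable {G : Type*} [Group G] {W : Type*} [AddCommGroup W] {A : Type*} [AddCommGroup A]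
  {D : UDat G W A}

theorem x_neg (hD : D.Ok) (a : A) : D.x (-a) = (D.x a)⁻¹ := by
  apply eq_inv_of_mul_eq_one_left
  rw [← hD.x_add, neg_add_cancel, x_zero hD]

theorem x_injective (hD : D.Ok) {a b : A} (h : D.x a = D.x b) : a = b := by
  have h1 : D.x (a - b) = 1 := by
    rw [sub_eq_add_neg, hD.x_add, x_neg hD, h, mul_inv_cancel]
  exact sub_eq_zero.1 (hD.x_inj _ h1)

theorem β_zero_left (hD : D.Ok) (w : W) : D.β 0 w = 0 := by
  have h := hD.β_add_left 0 0 w
  rw [add_zero] at h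
  exact add_eq_left.mp h.symm

/-- (a) the commutator form is alternating-symmetric: `β w' w = - β w w'` -/
theorem β_swap (hD : D.Ok) (w w' : W) : D.β w' w = -D.β w w' := by
  obtain ⟨g, hg, rfl⟩ := hD.π_surj w
  obtain ⟨g', hg', rfl⟩ := hD.π_surj w'
  have h1 := hD.comm g hg g' hg'
  have h2 := hD.comm g' hg' g hg
  rw [h2, ← mul_assoc, ← hD.x_add] at h1
  have h3 : D.x (D.β (D.π g) (D.π g') + D.β (D.π g') (D.π g)) = 1 := by
    have := mul_eq_right (b := g * g') (a := D.x (D.β (D.π g) (D.π g') + D.β (D.π g') (D.π g)))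
    exact this.1 h1.symm
  have h4 := hD.x_inj _ h3
  exact (neg_eq_of_add_eq_zero_right h4).symm

theorem ρ_ρ_inv (hD : D.Ok) (k : G) (hk : k ∈ D.L) (w : W) : D.ρ k (D.ρ k⁻¹ w) = w := by
  rw [← ρ_mul hD _ _ hk (inv_mem hk), mul_inv_cancel, ρ_one hD]

/-- (c) `K` preserves the commutator form -/
theorem ρ_β (hD : D.Ok) (k : G) (hk : k ∈ D.K) (w w' : W) :
    D.β (D.ρ k w) (D.ρ k w') = D.β w w' := by
  have hkL := hD.K_le hk
  obtain ⟨g, hg, rfl⟩ := hD.π_surj w
  obtain ⟨g', hg', rfl⟩ := hD.π_surj w'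
  apply x_injective hD
  have hc := hD.L_conj_mem k hkL g hg
  have hc' := hD.L_conj_mem k hkL g' hg'
  have h1 := hD.comm _ hc _ hc'
  rw [hD.L_conj_π k hkL g hg, hD.L_conj_π k hkL g' hg'] at h1
  have h2 : (k * g * k⁻¹) * (k * g' * k⁻¹) = k * (g * g') * k⁻¹ := by group
  have h3 : (k * g' * k⁻¹) * (k * g * k⁻¹) = k * (g' * g) * k⁻¹ := by group
  rw [h2, h3, hD.comm g hg g' hg'] at h1
  have h4 : k * (D.x (D.β (D.π g) (D.π g')) * (g' * g)) * k⁻¹
      = D.x (D.β (D.π g) (D.π g')) * (k * (g' * g) * k⁻¹) := by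
    rw [← mul_assoc k, hD.K_x k hk]; group
  rw [h4] at h1
  exact (mul_right_cancel h1).symm

end basic

section dual

variable {G : Type*} [Group G] {W : Type*} [AddCommGroup W] {A : Type*} [AddCommGroup A]
  {D : UDat G W A}

/-- a multiplicative function on a finite additive group that is not identically `1` sums to `0` -/
theorem sum_eq_zero {H : Type*} [AddGroup H] [Fintype H] (ψ : H → ℂ)
    (hψ : ∀ x y, ψ (x + y) = ψ x * ψ y) (x₀ : H) (hx₀ : ψ x₀ ≠ 1) : ∑ x, ψ x = 0 := by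
  have h1 : ∑ x, ψ (x + x₀) = ∑ x, ψ x := Equiv.sum_comp (Equiv.addRight x₀) ψ
  have h3 : ∑ x, ψ (x + x₀) = (∑ x, ψ x) * ψ x₀ := by
    rw [Finset.sum_mul]; exact Finset.sum_congr rfl (fun x _ => hψ x x₀)
  have : (∑ x, ψ x) * (ψ x₀ - 1) = 0 := by rw [mul_sub, mul_one, ← h3, h1, sub_self]
  rcases mul_eq_zero.1 this with h | h
  · exact h
  · exact absurd (sub_eq_zero.1 h) hx₀

/-- the orthogonal of a set with respect to `χ ∘ β` -/
def perpSet (D : UDat G W A) (χ : AddChar A ℂ) (S : Set W) : Set W :=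
  {w | ∀ j ∈ S, χ (D.β w j) = 1}

/-- the orthogonal of an additive subgroup, as an additive subgroup -/
def perp (hD : D.Ok) (χ : AddChar A ℂ) (J : AddSubgroup W) : AddSubgroup W where
  carrier := perpSet D χ (J : Set W)
  zero_mem' := by
    intro j _
    rw [β_zero_left hD, AddChar.map_zero_eq_one]
  add_mem' := by
    intro a b ha hb j hj
    rw [hD.β_add_left, AddChar.map_add_eq_mul, ha j hj, hb j hj, mul_one]
  neg_mem' := by
    intro a ha j hj
    have h1 : D.β (-a) j = -D.β a j := by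
      have h := hD.β_add_left a (-a) j
      rw [add_neg_cancel, β_zero_left hD] at h
      exact (neg_eq_of_add_eq_zero_right h.symm).symm
    rw [h1, AddChar.map_neg_eq_inv, ha j hj, inv_one]

theorem coe_perp (hD : D.Ok) (χ : AddChar A ℂ) (J : AddSubgroup W) :
    (perp hD χ J : Set W) = perpSet D χ (J : Set W) := rfl

theorem mem_perp (hD : D.Ok) (χ : AddChar A ℂ) (J : AddSubgroup W) (w : W) :
    w ∈ perp hD χ J ↔ ∀ j ∈ J, χ (D.β w j) = 1 := Iff.rfl

/-- (b) `|J^⊥| |J| = |W|` -/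
theorem perp_card (hD : D.Ok) [Finite W] (χ : AddChar A ℂ) (hχ : ∃ a, χ a ≠ 1)
    (J : AddSubgroup W) : Nat.card (perp hD χ J) * Nat.card J = Nat.card W := by
  classical
  let _ : Fintype W := Fintype.ofFinite W
  let _ : Fintype J := Fintype.ofFinite J
  obtain ⟨a₁, ha₁⟩ := hχ
  have hT1 : ∑ u : W, ∑ j : J, χ (D.β u (j : W)) = (Nat.card W : ℂ) := by
    rw [Finset.sum_comm]
    have : ∀ j : J, ∑ u : W, χ (D.β u (j : W)) = if j = 0 then (Nat.card W : ℂ) else 0 := by
      intro j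
      split_ifs with hj
      · rw [hj]
        simp only [ZeroMemClass.coe_zero, β_zero_right hD, AddChar.map_zero_eq_one,
          Finset.sum_const, Finset.card_univ, nsmul_eq_mul, mul_one, Nat.card_eq_fintype_card]
      · have hj' : (j : W) ≠ 0 := fun h => hj (Subtype.ext h)
        obtain ⟨u, hu⟩ := hD.β_surj _ hj' (-a₁)
        refine sum_eq_zero (fun u => χ (D.β u (j : W))) (fun x y => ?_) u ?_
        · simp only [hD.β_add_left, AddChar.map_add_eq_mul]
        · simp only [β_swap hD (j : W) u, hu, neg_neg]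
          exact ha₁
    rw [Finset.sum_congr rfl (fun j _ => this j)]
    simp
  have hT2 : ∑ u : W, ∑ j : J, χ (D.β u (j : W))
      = ∑ u : W, if u ∈ perp hD χ J then (Nat.card J : ℂ) else 0 := by
    apply Finset.sum_congr rfl
    intro u _
    split_ifs with hu
    · have : ∀ j : J, χ (D.β u (j : W)) = 1 := fun j => hu j j.2
      rw [Finset.sum_congr rfl (fun j _ => this j)]
      simp [Nat.card_eq_fintype_card]
    · have : ¬ ∀ j ∈ J, χ (D.β u j) = 1 := hu
      push Not at this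
      obtain ⟨j₀, hj₀, hne⟩ := this
      refine sum_eq_zero (fun j : J => χ (D.β u (j : W))) (fun x y => ?_) ⟨j₀, hj₀⟩ hne
      simp only [AddSubgroup.coe_add, hD.β_add_right, AddChar.map_add_eq_mul]
  have hT3 : (∑ u : W, if u ∈ perp hD χ J then (Nat.card J : ℂ) else 0)
      = (Nat.card (perp hD χ J) : ℂ) * Nat.card J := by
    rw [← Finset.sum_filter, Finset.sum_const, nsmul_eq_mul]
    congr 2
    exact (Nat.subtype_card (Finset.univ.filter (· ∈ perp hD χ J)) (by simp)).symm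
  have : (Nat.card (perp hD χ J) : ℂ) * Nat.card J = Nat.card W := by
    rw [← hT3, ← hT2, hT1]
  exact_mod_cast this

theorem perp_card_eq_index (hD : D.Ok) [Finite W] (χ : AddChar A ℂ) (hχ : ∃ a, χ a ≠ 1)
    (J : AddSubgroup W) : Nat.card (perp hD χ J) = J.index := by
  have h1 := perp_card hD χ hχ J
  have h2 := J.card_mul_index
  rw [← h2, mul_comm] at h1
  have hpos : 0 < Nat.card J := Nat.card_pos
  exact Nat.eq_of_mul_eq_mul_left hpos h1

/-- (d) `J^⊥⊥ = J` -/
theorem perp_perp (hD : D.Ok) [Finite W] (χ : AddChar A ℂ) (hχ : ∃ a, χ a ≠ 1)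
    (J : AddSubgroup W) : perp hD χ (perp hD χ J) = J := by
  have hle : J ≤ perp hD χ (perp hD χ J) := by
    intro j hj w hw
    rw [β_swap hD w j, AddChar.map_neg_eq_inv, hw j hj, inv_one]
  have h1 := perp_card hD χ hχ J
  have h2 := perp_card hD χ hχ (perp hD χ J)
  have hpos : 0 < Nat.card (perp hD χ J) := Nat.card_pos
  have hcard : Nat.card (perp hD χ (perp hD χ J)) = Nat.card J := by
    rw [← h1, mul_comm] at h2
    exact Nat.eq_of_mul_eq_mul_left hpos h2
  symm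
  apply SetLike.coe_injective
  apply Set.eq_of_subset_of_ncard_le hle _ (Set.toFinite _)
  rw [← Nat.card_coe_set_eq, ← Nat.card_coe_set_eq]
  exact hcard.le

/-- `perpSet` commutes with the action of `K` -/
theorem perpSet_image (hD : D.Ok) (χ : AddChar A ℂ) (k : G) (hk : k ∈ D.K) (S : Set W) :
    perpSet D χ (D.ρ k '' S) = D.ρ k '' perpSet D χ S := by
  have hkL := hD.K_le hk
  ext w
  constructor
  · intro hw
    refine ⟨D.ρ k⁻¹ w, ?_, ρ_ρ_inv hD k hkL w⟩
    intro j hj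
    rw [← ρ_β hD k hk, ρ_ρ_inv hD k hkL]
    exact hw _ (Set.mem_image_of_mem _ hj)
  · rintro ⟨a, ha, rfl⟩ j' ⟨j, hj, rfl⟩
    rw [ρ_β hD k hk]
    exact ha j hj

theorem DUAL [Finite W] [Finite A] [Nontrivial A] (D : UDat G W A) (hD : D.Ok)
    (J : AddSubgroup W) :
    ∃ A' : AddSubgroup W, Nat.card A' = J.index ∧
      Nat.card {S : Set W // ∃ k ∈ D.K, S = D.ρ k '' (J : Set W)} =
        Nat.card {S : Set W // ∃ k ∈ D.K, S = D.ρ k '' (A' : Set W)} := by
  obtain ⟨a₀, ha₀⟩ := exists_ne (0 : A)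
  obtain ⟨χ, hχ⟩ := (AddChar.exists_apply_ne_zero (α := A)).2 ha₀
  have hχ' : ∃ a, χ a ≠ 1 := ⟨a₀, hχ⟩
  refine ⟨perp hD χ J, perp_card_eq_index hD χ hχ' J, ?_⟩
  apply Nat.card_congr
  refine
    { toFun := fun S => ⟨perpSet D χ S.1, ?_⟩
      invFun := fun S => ⟨perpSet D χ S.1, ?_⟩
      left_inv := ?_
      right_inv := ?_ }
  · obtain ⟨k, hk, hS⟩ := S.2
    exact ⟨k, hk, by rw [hS, perpSet_image hD χ k hk, coe_perp]⟩
  · obtain ⟨k, hk, hS⟩ := S.2
    refine ⟨k, hk, ?_⟩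
    rw [hS, perpSet_image hD χ k hk, ← coe_perp hD χ (perp hD χ J), perp_perp hD χ hχ' J]
  · rintro ⟨S, k, hk, rfl⟩
    apply Subtype.ext
    show perpSet D χ (perpSet D χ (D.ρ k '' (J : Set W))) = D.ρ k '' (J : Set W)
    rw [perpSet_image hD χ k hk, perpSet_image hD χ k hk, ← coe_perp hD χ J,
      ← coe_perp hD χ (perp hD χ J), perp_perp hD χ hχ' J]
  · rintro ⟨S, k, hk, rfl⟩
    apply Subtype.ext
    show perpSet D χ (perpSet D χ (D.ρ k '' (perp hD χ J : Set W))) = D.ρ k '' (perp hD χ J : Set W)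
    rw [perpSet_image hD χ k hk, perpSet_image hD χ k hk, ← coe_perp hD χ (perp hD χ J),
      perp_perp hD χ hχ' J, ← coe_perp hD χ J]

end dual

end Cfsg.Agent.Lib.Helper79_S2151_DUAL
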