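import Mathlib
import Cfsg.Agent.Lib.Helper50_UQNumDefs

/-!
# S2152 / UQ-NUM (architect helper50): arithmetic of `Npt q n = (q^n-1)(q^(n-1)+1)/(q^2-1)`, `n` even.
-/
set_option autoImplicit false

namespace Cfsg.Agent.Lib.Helper84_UQ_NUM

open Cfsg.Agent.Lib.Helper50_UQNumDefs

theorem Npt_mul (q d : ℕ) (hdev : Even d) :
    Npt q d * (q ^ 2 - 1) = (q ^ d - 1) * (q ^ (d - 1) + 1) := by
  obtain ⟨m, hm⟩ := hdev
  have hdvd : q ^ 2 - 1 ∣ q ^ d - 1 := by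
    have h := Nat.sub_dvd_pow_sub_pow (q ^ 2) 1 m
    rw [one_pow, ← pow_mul] at h
    have : 2 * m = d := by omega
    rwa [this] at h
  rw [Npt_def]
  exact Nat.div_mul_cancel (Dvd.dvd.mul_right hdvd _)

theorem Npt_int (q d : ℕ) (hq : 2 ≤ q) (hd : 2 ≤ d) (hdev : Even d) :
    (Npt q d : ℤ) * ((q : ℤ) ^ 2 - 1) = ((q : ℤ) * (q : ℤ) ^ (d - 1) - 1) * ((q : ℤ) ^ (d - 1) + 1) := by
  have h := Npt_mul q d hdev
  have h1 : 1 ≤ q ^ 2 := Nat.one_le_pow _ _ (by omega)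
  have h2 : 1 ≤ q ^ d := Nat.one_le_pow _ _ (by omega)
  have h3 : q ^ d = q * q ^ (d - 1) := by
    rw [← pow_succ']
    congr 1
    omega
  have h3' : (q : ℤ) ^ d = q * (q : ℤ) ^ (d - 1) := by exact_mod_cast h3
  zify [h1, h2] at h
  rw [h, h3']

/-- the integer form of all the claims, in terms of `a = q^(d-1)`, `P = Npt q d`, `P' = Npt q (d+2)`. -/
theorem int_facts (Q a P P' : ℤ) (hQ : 2 ≤ Q) (ha : Q ≤ a)
    (hP : P * (Q ^ 2 - 1) = (Q * a - 1) * (a + 1))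
    (hP' : P' * (Q ^ 2 - 1) = (Q * (Q ^ 2 * a) - 1) * (Q ^ 2 * a + 1)) :
    P' = 1 + Q ^ 2 * P + Q ^ 3 * a ^ 2 ∧
    1 + Q ^ 2 * P ≤ 2 * (Q ^ 2 * a ^ 2) ∧
    0 < P ∧
    (Q ^ 5 ≤ a → P' ≤ P * (Q ^ 2 * a)) ∧
    Q ^ 2 * P ≤ 2 * (a * (Q * a - 1)) ∧
    (3 ≤ Q → Q ^ 3 ≤ a → 3 * (Q ^ 2 * P) ≤ 4 * (a * (Q * a - 1))) ∧
    Q ^ 2 * P ≤ Q ^ 2 * a ^ 2 := by
  have hS : 0 < Q ^ 2 - 1 := by nlinarith
  have ha0 : 0 < a := by linarith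
  have hT : 0 < Q * a - 1 := by nlinarith
  have e1 : P' = 1 + Q ^ 2 * P + Q ^ 3 * a ^ 2 := by
    have : (P' - (1 + Q ^ 2 * P + Q ^ 3 * a ^ 2)) * (Q ^ 2 - 1) = 0 := by
      linear_combination hP' - Q ^ 2 * hP
    rcases mul_eq_zero.mp this with h | h
    · linarith
    · exact absurd h hS.ne'
  have hPpos : 0 < P := by
    by_contra hcon
    push Not at hcon
    have h1 : P * (Q ^ 2 - 1) ≤ 0 := mul_nonpos_of_nonpos_of_nonneg hcon hS.le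
    have h2 : 0 < (Q * a - 1) * (a + 1) := mul_pos hT (by linarith)
    linarith
  have hPle : P ≤ a ^ 2 := by
    by_contra hcon
    push Not at hcon
    have h1 : (a ^ 2 + 1) * (Q ^ 2 - 1) ≤ P * (Q ^ 2 - 1) :=
      mul_le_mul_of_nonneg_right (by linarith) hS.le
    have hQ2 : (0:ℤ) ≤ Q - 2 := by linarith
    have hQ1 : (0:ℤ) ≤ Q + 1 := by linarith
    have haQ : (0:ℤ) ≤ a - Q := by linarith
    nlinarith [mul_nonneg (mul_nonneg ha0.le ha0.le) (mul_nonneg hQ2 hQ1), mul_nonneg ha0.le haQ]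
  refine ⟨e1, ?_, hPpos, ?_, ?_, ?_, ?_⟩
  · -- (1 + Q^2 P) ≤ 2 Q^2 a^2
    have : Q ^ 2 * P ≤ Q ^ 2 * a ^ 2 := mul_le_mul_of_nonneg_left hPle (by positivity)
    nlinarith [mul_pos ha0 ha0]
  · intro h5
    have hQ3 : (8:ℤ) ≤ Q ^ 3 := by nlinarith [mul_nonneg (sub_nonneg.mpr hQ) (sub_nonneg.mpr hQ)]
    have hQ2 : (4:ℤ) ≤ Q ^ 2 := by nlinarith
    have ha5 : Q ^ 2 + 2 ≤ a := by nlinarith
    have hlow0 : Q * a ^ 2 ≤ P * (Q ^ 2 - 1) := by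
      rw [hP]; nlinarith [mul_nonneg ha0.le (sub_nonneg.mpr hQ)]
    have hlow : Q * a ^ 2 ≤ P * Q ^ 2 := by nlinarith
    have h1 : Q * a ^ 2 * (a - 1) ≤ P * Q ^ 2 * (a - 1) :=
      mul_le_mul_of_nonneg_right hlow (by linarith)
    have h2 : Q * a ^ 2 * (Q ^ 2 + 1) ≤ Q * a ^ 2 * (a - 1) :=
      mul_le_mul_of_nonneg_left (by linarith) (by positivity)
    have h3 : (1:ℤ) ≤ Q * a ^ 2 := by nlinarith [mul_pos ha0 ha0]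
    rw [e1]
    nlinarith
  · have key : Q ^ 2 * (a + 1) ≤ 2 * a * (Q ^ 2 - 1) := by
      nlinarith [mul_nonneg (sub_nonneg.mpr ha) (by nlinarith : (0:ℤ) ≤ Q ^ 2 - 2),
        mul_nonneg (sub_nonneg.mpr hQ) (by linarith : (0:ℤ) ≤ Q + 1)]
    have h1 : (Q * a - 1) * (Q ^ 2 * (a + 1)) ≤ (Q * a - 1) * (2 * a * (Q ^ 2 - 1)) :=
      mul_le_mul_of_nonneg_left key hT.le
    have h2 : Q ^ 2 * P * (Q ^ 2 - 1) ≤ 2 * (a * (Q * a - 1)) * (Q ^ 2 - 1) := by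
      calc Q ^ 2 * P * (Q ^ 2 - 1) = Q ^ 2 * (P * (Q ^ 2 - 1)) := by ring
        _ = (Q * a - 1) * (Q ^ 2 * (a + 1)) := by rw [hP]; ring
        _ ≤ (Q * a - 1) * (2 * a * (Q ^ 2 - 1)) := h1
        _ = 2 * (a * (Q * a - 1)) * (Q ^ 2 - 1) := by ring
    exact le_of_mul_le_mul_right h2 hS
  · intro h3 ha3
    have hQ2 : (9:ℤ) ≤ Q ^ 2 := by nlinarith
    have hQ3 : (0:ℤ) ≤ Q ^ 3 := by positivity
    have key : 3 * (Q ^ 2 * (a + 1)) ≤ 4 * a * (Q ^ 2 - 1) := by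
      nlinarith [mul_nonneg (sub_nonneg.mpr ha3) (by linarith : (0:ℤ) ≤ Q ^ 2 - 4),
        mul_nonneg (by positivity : (0:ℤ) ≤ Q ^ 2) (sub_nonneg.mpr h3)]
    have h1 : (Q * a - 1) * (3 * (Q ^ 2 * (a + 1))) ≤ (Q * a - 1) * (4 * a * (Q ^ 2 - 1)) :=
      mul_le_mul_of_nonneg_left key hT.le
    have h2 : 3 * (Q ^ 2 * P) * (Q ^ 2 - 1) ≤ 4 * (a * (Q * a - 1)) * (Q ^ 2 - 1) := by
      calc 3 * (Q ^ 2 * P) * (Q ^ 2 - 1) = 3 * Q ^ 2 * (P * (Q ^ 2 - 1)) := by ring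
        _ = (Q * a - 1) * (3 * (Q ^ 2 * (a + 1))) := by rw [hP]; ring
        _ ≤ (Q * a - 1) * (4 * a * (Q ^ 2 - 1)) := h1
        _ = 4 * (a * (Q * a - 1)) * (Q ^ 2 - 1) := by ring
    exact le_of_mul_le_mul_right h2 hS
  · exact mul_le_mul_of_nonneg_left hPle (by positivity)

theorem Npt_four (q : ℕ) (hq : 2 ≤ q) : Npt q 4 = (q ^ 2 + 1) * (q ^ 3 + 1) := by
  have h := Npt_int q 4 hq (by norm_num) (by decide)
  have hS : (0:ℤ) < (q:ℤ) ^ 2 - 1 := by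
    have : (2:ℤ) ≤ q := by exact_mod_cast hq
    nlinarith
  have h2 : ((Npt q 4 : ℤ) - ((q:ℤ) ^ 2 + 1) * ((q:ℤ) ^ 3 + 1)) * ((q:ℤ) ^ 2 - 1) = 0 := by
    have e : (4 - 1 : ℕ) = 3 := rfl
    rw [e] at h
    linear_combination h
  rcases mul_eq_zero.mp h2 with h3 | h3
  · have : (Npt q 4 : ℤ) = (((q ^ 2 + 1) * (q ^ 3 + 1) : ℕ) : ℤ) := by push_cast; linarith
    exact_mod_cast this
  · exact absurd h3 hS.ne'

theorem Npt_six (q : ℕ) (hq : 2 ≤ q) : Npt q 6 = (q ^ 4 + q ^ 2 + 1) * (q ^ 5 + 1) := by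
  have h := Npt_int q 6 hq (by norm_num) (by decide)
  have hS : (0:ℤ) < (q:ℤ) ^ 2 - 1 := by
    have : (2:ℤ) ≤ q := by exact_mod_cast hq
    nlinarith
  have h2 : ((Npt q 6 : ℤ) - ((q:ℤ) ^ 4 + (q:ℤ) ^ 2 + 1) * ((q:ℤ) ^ 5 + 1)) * ((q:ℤ) ^ 2 - 1) = 0 := by
    have e : (6 - 1 : ℕ) = 5 := rfl
    rw [e] at h
    linear_combination h
  rcases mul_eq_zero.mp h2 with h3 | h3
  · have : (Npt q 6 : ℤ) = (((q ^ 4 + q ^ 2 + 1) * (q ^ 5 + 1) : ℕ) : ℤ) := by push_cast; linarith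
    exact_mod_cast this
  · exact absurd h3 hS.ne'

/-- **UQ-NUM**. -/
theorem NUM (q d : ℕ) (hq : 2 ≤ q) (hd : 2 ≤ d) (hdev : Even d) :
    (Npt q d * (q ^ 2 - 1) = (q ^ d - 1) * (q ^ (d - 1) + 1)) ∧
    (Npt q (d + 2) = 1 + q ^ 2 * Npt q d + q ^ (2 * d + 1)) ∧
    (1 + q ^ 2 * Npt q d ≤ 2 * q ^ (2 * d)) ∧
    (0 < Npt q d) ∧
    (6 ≤ d → Npt q (d + 2) ≤ Npt q d * q ^ (d + 1)) ∧
    (Npt q 6 ≤ (q + 1) * q ^ 3 * q ^ (4 + 1)) ∧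
    (Npt q 4 = (q ^ 2 + 1) * (q ^ 3 + 1)) ∧
    (q ^ 2 * Npt q d * (q ^ 2 - 1) ≤ (q ^ d - 1) * (q ^ (d - 1) + 1) * q ^ 2) ∧
    (q ^ 2 * Npt q d ≤ 2 * (q ^ (d - 1) * (q ^ d - 1))) ∧
    (q ^ (d - 1) * (q ^ d - 1) ≤ (q ^ d - 1) * (q ^ (d - 1) + 1)) ∧
    (3 ≤ q → 4 ≤ d → 3 * (q ^ 2 * Npt q d) ≤ 4 * (q ^ (d - 1) * (q ^ d - 1))) ∧
    (q ^ 2 * Npt q d ≤ q ^ (2 * d)) ∧
    (q ^ 2 * Npt q 4 ≤ q ^ 3 * ((q + 1) * q ^ 3)) := by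
  have hmul := Npt_mul q d hdev
  have hQ : (2:ℤ) ≤ (q:ℤ) := by exact_mod_cast hq
  have ha : (q:ℤ) ≤ (q:ℤ) ^ (d - 1) := by
    have : q ^ 1 ≤ q ^ (d - 1) := Nat.pow_le_pow_right (by omega) (by omega)
    rw [pow_one] at this
    exact_mod_cast this
  have hP := Npt_int q d hq hd hdev
  have hP' := Npt_int q (d + 2) hq (by omega) (by
    rcases hdev with ⟨m, hm⟩; exact ⟨m + 1, by omega⟩)
  have e0 : d + 2 - 1 = (d - 1) + 2 := by omega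
  rw [e0, pow_add, mul_comm ((q:ℤ) ^ (d - 1)) ((q:ℤ) ^ 2)] at hP'
  obtain ⟨f1, f2, f3, f4, f5, f6, f7⟩ := int_facts (q:ℤ) ((q:ℤ) ^ (d - 1)) (Npt q d) (Npt q (d + 2))
    hQ ha hP hP'
  have h1 : 1 ≤ q ^ 2 := Nat.one_le_pow _ _ (by omega)
  have h2 : 1 ≤ q ^ d := Nat.one_le_pow _ _ (by omega)
  have ed : q ^ d = q * q ^ (d - 1) := by
    rw [← pow_succ']; congr 1; omega
  have e2d : q ^ (2 * d) = q ^ 2 * (q ^ (d - 1)) ^ 2 := by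
    rw [← pow_mul, ← pow_add]; congr 1; omega
  have e2d1 : q ^ (2 * d + 1) = q ^ 3 * (q ^ (d - 1)) ^ 2 := by
    rw [← pow_mul, ← pow_add]; congr 1; omega
  have ed1 : q ^ (d + 1) = q ^ 2 * q ^ (d - 1) := by
    rw [← pow_add]; congr 1; omega
  have cd : ((q ^ d - 1 : ℕ) : ℤ) = (q:ℤ) * (q:ℤ) ^ (d - 1) - 1 := by
    rw [Nat.cast_sub h2, ed]; push_cast; ring
  refine ⟨hmul, ?_, ?_, ?_, ?_, ?_, Npt_four q hq, ?_, ?_, ?_, ?_, ?_, ?_⟩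
  · rw [e2d1]; exact_mod_cast f1
  · rw [e2d]; exact_mod_cast f2
  · exact_mod_cast f3
  · intro h6
    rw [ed1]
    have : (q:ℤ) ^ 5 ≤ (q:ℤ) ^ (d - 1) := by
      have : q ^ 5 ≤ q ^ (d - 1) := Nat.pow_le_pow_right (by omega) (by omega)
      exact_mod_cast this
    exact_mod_cast f4 this
  · rw [Npt_six q hq]
    have h4 : 4 ≤ q ^ 2 := by nlinarith
    have b1 : 2 * q ^ 7 ≤ q * q ^ 7 := Nat.mul_le_mul_right _ hq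
    have b2 : 4 * q ^ 5 ≤ q ^ 2 * q ^ 5 := Nat.mul_le_mul_right _ h4
    have b3 : q ^ 4 ≤ q ^ 5 := Nat.pow_le_pow_right (by omega) (by norm_num)
    have b4 : q ^ 2 ≤ q ^ 5 := Nat.pow_le_pow_right (by omega) (by norm_num)
    have b5 : 1 ≤ q ^ 5 := Nat.one_le_pow _ _ (by omega)
    have e5 : q ^ (4 + 1) = q ^ 5 := rfl
    rw [e5]
    linarith
  · rw [mul_assoc, hmul]; exact le_of_eq (mul_comm _ _)
  · have : ((q ^ 2 * Npt q d : ℕ) : ℤ) ≤ ((2 * (q ^ (d - 1) * (q ^ d - 1)) : ℕ) : ℤ) := by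
      push_cast [cd]; exact f5
    exact_mod_cast this
  · rw [mul_comm]; exact Nat.mul_le_mul_left _ (Nat.le_succ _)
  · intro h3 h4
    have h3' : (3:ℤ) ≤ q := by exact_mod_cast h3
    have h33 : (q:ℤ) ^ 3 ≤ (q:ℤ) ^ (d - 1) := by
      have : q ^ 3 ≤ q ^ (d - 1) := Nat.pow_le_pow_right (by omega) (by omega)
      exact_mod_cast this
    have : ((3 * (q ^ 2 * Npt q d) : ℕ) : ℤ) ≤ ((4 * (q ^ (d - 1) * (q ^ d - 1)) : ℕ) : ℤ) := by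
      push_cast [cd]; exact f6 h3' h33
    exact_mod_cast this
  · rw [e2d]; exact_mod_cast f7
  · rw [Npt_four q hq]
    have b1 : 2 * q ^ 5 ≤ q * q ^ 5 := Nat.mul_le_mul_right _ hq
    have b2 : 2 * q ^ 4 ≤ q * q ^ 4 := Nat.mul_le_mul_right _ hq
    have b3 : q ^ 2 ≤ q ^ 4 := Nat.pow_le_pow_right (by omega) (by norm_num)
    linarith

end Cfsg.Agent.Lib.Helper84_UQ_NUM
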