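import Mathlib
import Cfsg.Agent.Lib.Helper50_UQAbsDefs
import Cfsg.Agent.Lib.Helper94_UQInst
import Cfsg.Agent.Lib.Helper27_UQ_CARD
import Cfsg.Agent.Lib.Helper27_UQ_GEN
import Cfsg.Agent.Lib.Helper9_S2151_CNT

set_option autoImplicit false

/-!
# UQ-HSUBGEO: the `K`-orbits on `W - 0` (even `d = dim W ≥ 4`) are the norm classes, with their sizes.
-/

open Cfsg.Agent.Lib.Helper50_UQAbsDefs

open Module Cfsg.Agent.Lib.Helper94_Symp Cfsg.Agent.Lib.Helper94_Herm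
  Cfsg.Agent.Lib.Helper13_SUGen Cfsg.Agent.Lib.Helper13_PSUSimple Cfsg.Agent.Lib.Helper14_PSULocal1
  Cfsg.Agent.Lib.Helper27_UQDefs Cfsg.Agent.Lib.Helper94_UQInst

namespace Cfsg.Agent.Lib.Helper9_UQ_HSUBGEO

variable {F V : Type*} [Field F] [AddCommGroup V] [Module F V] {σ : F →+* F}
  {B : V →ₗ[F] V →ₛₗ[σ] F}

/-- `ρ k w = k w` for `k ∈ K` -/
theorem ρ_K (hσ : Invol σ) (hB : IsHerm B) {v v' : V} (h : HypPair B v v')
    {k : ↥(SUg B)} (hk : k ∈ (udat hσ hB h).K) (w : ↥(Wsub B v v')) :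
    (((udat hσ hB h).ρ k w : ↥(Wsub B v v')) : V) = (k : V ≃ₗ[F] V) (w : V) := by
  have hk' : (k : V ≃ₗ[F] V) ∈ Kv B v v' := (mem_K hσ hB h).mp hk
  have hkv : (k : V ≃ₗ[F] V) v = (1 : F) • v := by rw [one_smul]; exact hk'.2.1
  rw [ρ_of_mem hσ hB h (Kv_le_Lv B v v' hk') hkv w, map_one, one_smul]

theorem HSUBGEO [Finite F] [FiniteDimensional F V] (hσ : Invol σ) (hB : IsHerm B)
    (hN : NondegOn B ⊤) {q : ℕ} (hF : Nat.card F = q ^ 2)
    {v v' : V} (h : HypPair B v v') (d : ℕ) (hd : finrank F ↥(Wsub B v v') = d) (hd4 : 4 ≤ d)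
    (hdev : Even d) :
    (∀ k ∈ (udat hσ hB h).K, ∀ w : ↥(Wsub B v v'),
        B (((udat hσ hB h).ρ k w : ↥(Wsub B v v')) : V) (((udat hσ hB h).ρ k w : ↥(Wsub B v v')) : V) =
          B (w : V) (w : V)) ∧
    (∀ w w' : ↥(Wsub B v v'), w ≠ 0 → w' ≠ 0 → B (w : V) (w : V) = B (w' : V) (w' : V) →
        ∃ k ∈ (udat hσ hB h).K, (udat hσ hB h).ρ k w = w') ∧
    (Nat.card {w : ↥(Wsub B v v') // w ≠ 0 ∧ B (w : V) (w : V) = 0} =
        (q ^ d - 1) * (q ^ (d - 1) + 1)) ∧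
    (∀ w : ↥(Wsub B v v'), B (w : V) (w : V) ≠ 0 →
        Nat.card {w' : ↥(Wsub B v v') // B (w' : V) (w' : V) = B (w : V) (w : V)} =
          q ^ (d - 1) * (q ^ d - 1)) := by
  have hWnd : NondegOn B (Wsub B v v') := by
    rw [Wsub_eq_Wp]
    exact nondegOn_Wp hB hN h
  have hcnt := Cfsg.Agent.Lib.Helper9_S2151_CNT.CNT
    (Cfsg.Agent.Lib.Helper27_UQ_KISO.Bw B (Wsub B v v')) hσ
    (Cfsg.Agent.Lib.Helper27_UQ_KISO.isHerm_Bw hB _)
    (Cfsg.Agent.Lib.Helper27_UQ_KISO.nondeg_Bw hWnd) hF d hd (by omega)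
  rw [if_pos hdev, if_pos hdev, if_pos hdev, if_pos hdev] at hcnt
  have hq2 := Cfsg.Agent.Lib.Helper9_S2151_CNT.two_le_q hF
  obtain ⟨e, rfl⟩ : ∃ e, d = e + 1 := ⟨d - 1, by omega⟩
  have he1 : e + 1 - 1 = e := by omega
  have he2 : 2 * (e + 1) - 1 = 2 * e + 1 := by omega
  rw [he1, he2] at hcnt
  rw [he1]
  have hqe : 1 ≤ q ^ e := Nat.one_le_pow _ _ (by omega)
  have hqe1 : 1 ≤ q ^ (e + 1) := Nat.one_le_pow _ _ (by omega)
  refine ⟨?_, ?_, ?_, ?_⟩
  · intro k hk w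
    rw [ρ_K hσ hB h hk w]
    have hk' : (k : V ≃ₗ[F] V) ∈ Kv B v v' := (mem_K hσ hB h).mp hk
    exact (mem_SUg.mp hk'.1).1 _ _
  · intro w w' hw0 hw'0 hnorm
    have hw0' : (w : V) ≠ 0 := fun h0 => hw0 (Subtype.ext h0)
    have hw'0' : (w' : V) ≠ 0 := fun h0 => hw'0 (Subtype.ext h0)
    obtain ⟨k, hk, hkw⟩ := Cfsg.Agent.Lib.Helper27_UQ_GEN.Kv_trans_W hσ hB hN h (by omega)
      w.2 w'.2 hw0' hw'0' hnorm
    refine ⟨⟨k, hk.1⟩, (mem_K hσ hB h).mpr hk, ?_⟩
    apply Subtype.ext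
    rw [ρ_K hσ hB h ((mem_K hσ hB h).mpr hk) w]
    exact hkw
  · -- isotropic nonzero vectors
    have h0 := hcnt.1
    have hsplit : Nat.card {w : ↥(Wsub B v v') // B (w : V) (w : V) = 0} =
        Nat.card {w : ↥(Wsub B v v') // w ≠ 0 ∧ B (w : V) (w : V) = 0} + 1 := by
      classical
      have : Finite V := Module.finite_of_finite F
      let e1 : {w : ↥(Wsub B v v') // B (w : V) (w : V) = 0} ≃
          Option {w : ↥(Wsub B v v') // w ≠ 0 ∧ B (w : V) (w : V) = 0} :=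
        { toFun := fun w => if hw : (w : ↥(Wsub B v v')) = 0 then none else some ⟨w.1, hw, w.2⟩
          invFun := fun o => match o with
            | none => ⟨0, by simp⟩
            | some w => ⟨w.1, w.2.2⟩
          left_inv := by
            intro w
            by_cases hw : (w : ↥(Wsub B v v')) = 0
            · simp only [hw, dite_true]
              exact Subtype.ext hw.symm
            · simp only [hw, dite_false]
          right_inv := by
            intro o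
            cases o with
            | none => simp
            | some w => simp [w.2.1] }
      rw [Nat.card_congr e1, Finite.card_option]
    have h0' : Nat.card {w : ↥(Wsub B v v') // (Cfsg.Agent.Lib.Helper27_UQ_KISO.Bw B (Wsub B v v')) w w = 0}
        = Nat.card {w : ↥(Wsub B v v') // B (w : V) (w : V) = 0} := rfl
    rw [h0', hsplit] at h0
    zify at h0 ⊢
    rw [Nat.cast_sub hqe1]
    push_cast
    linear_combination h0
  · intro w hw
    have hs : σ (B (w : V) (w : V)) = B (w : V) (w : V) := herm_self hB _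
    have h1 := hcnt.2 (B (w : V) (w : V)) hs hw
    have h1' : Nat.card {w' : ↥(Wsub B v v') //
        (Cfsg.Agent.Lib.Helper27_UQ_KISO.Bw B (Wsub B v v')) w' w' = B (w : V) (w : V)}
        = Nat.card {w' : ↥(Wsub B v v') // B (w' : V) (w' : V) = B (w : V) (w : V)} := rfl
    rw [h1'] at h1
    zify at h1 ⊢
    rw [Nat.cast_sub hqe1]
    push_cast
    linear_combination h1

end Cfsg.Agent.Lib.Helper9_UQ_HSUBGEO
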