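import Mathlib
import Cfsg.Agent.Lib.Helper50_UQAbsDefs
import Cfsg.Agent.Lib.Helper50_UQNumDefs
import Cfsg.Agent.Lib.Helper79_S2151_DUAL
import Cfsg.Agent.Lib.Helper94_UQInst
import Cfsg.Agent.Lib.Helper27_UQ_HYP
import Cfsg.Agent.Lib.Helper27_UQ_CARD
import Cfsg.Agent.Lib.Helper95_UQ_FLD
import Cfsg.Agent.Lib.Helper42_UQ_NORM1
import Cfsg.Agent.Lib.Helper84_UQ_NUM
import Cfsg.Agent.Lib.Helper9_UQ_HSUBGEO
import Cfsg.Agent.Lib.Helper59_UQ_COVER2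

set_option autoImplicit false

/-!
# S2152: the covering hypothesis `hsub` of the abstract core for EVEN `d = dim W ≥ 4` (helper50)

`hsub2`: abstract (`DUAL` + `COVER2`).  `hsub_even_udat`: for helper94's datum `udat`, from a bound `μ` for the index of the
proper subgroups of `K`.
-/

open Cfsg.Agent.Lib.Helper50_UQAbsDefs Cfsg.Agent.Lib.Helper50_UQNumDefs

namespace Cfsg.Agent.Lib.Helper50_UQHsub

theorem hsub2 {G : Type*} [Group G] [Finite G] {W : Type*} [AddCommGroup W] [Finite W]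
    {A : Type*} [AddCommGroup A] [Finite A] [Nontrivial A] (D : UDat G W A) (hD : D.Ok)
    {R : Type*} [Zero R] (nm : W → R)
    (q μ c0 ν T1 a0 : ℕ) (hq : 2 ≤ q)
    (hirr : ∀ I : AddSubgroup W, (∀ k ∈ D.K, ∀ w ∈ I, D.ρ k w ∈ I) → I = ⊥ ∨ I = ⊤)
    (hμ : ∀ E : Subgroup G, E ≤ D.K → E ≠ D.K → μ ≤ E.relIndex D.K)
    (hnm0 : nm 0 = 0)
    (hnm : ∀ k ∈ D.K, ∀ w : W, nm (D.ρ k w) = nm w)
    (htrans : ∀ w w' : W, w ≠ 0 → w' ≠ 0 → nm w = nm w' → ∃ k ∈ D.K, D.ρ k w = w')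
    (hc0 : Nat.card {w : W // w ≠ 0 ∧ nm w = 0} = c0)
    (hν : ∀ w : W, nm w ≠ 0 → Nat.card {w' : W // nm w' = nm w} = ν)
    (hnorm1 : ∀ I : AddSubgroup W, (∃ c : R, c ≠ 0 ∧ ∀ w ∈ I, w ≠ 0 → nm w = c) → Nat.card I ≤ 4)
    (h1 : T1 ≤ a0 * μ) (h2 : T1 * (q ^ 2 - 1) ≤ c0 * q ^ 2) (h3 : T1 ≤ 2 * ν) (h4 : ν ≤ c0)
    (h5 : 3 * T1 ≤ 4 * ν) (h6 : T1 ≤ Nat.card W)
    (hgap : ∀ a : ℕ, q ^ 2 < a → a < a0 → a ∣ Nat.card W → ¬ (a - 1) ∣ c0) :
    ∀ J : AddSubgroup W, J ≠ ⊤ →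
      T1 ≤ J.index * Nat.card {S : Set W // ∃ k ∈ D.K, S = D.ρ k '' (J : Set W)} := by
  intro J hJ
  obtain ⟨A', hA'card, hA'tr⟩ := Cfsg.Agent.Lib.Helper79_S2151_DUAL.DUAL D hD J
  have hA'ne : A' ≠ ⊥ := by
    intro h
    rw [h, AddSubgroup.card_bot] at hA'card
    exact hJ (AddSubgroup.index_eq_one.1 hA'card.symm)
  have := Cfsg.Agent.Lib.Helper59_UQ_COVER2.COVER2 D hD nm q μ c0 ν T1 a0 hq hirr hμ hnm0 hnm htrans hc0 hν hnorm1 h1 h2 h3 h4 h5 h6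
    hgap A' hA'ne
  rw [← hA'card, hA'tr]
  exact this

open Module Cfsg.Agent.Lib.Helper94_Symp Cfsg.Agent.Lib.Helper94_Herm
  Cfsg.Agent.Lib.Helper13_SUGen Cfsg.Agent.Lib.Helper13_PSUSimple Cfsg.Agent.Lib.Helper14_PSULocal1
  Cfsg.Agent.Lib.Helper27_UQDefs Cfsg.Agent.Lib.Helper94_UQInst

variable {F V : Type*} [Field F] [AddCommGroup V] [Module F V] {σ : F →+* F}
  {B : V →ₗ[F] V →ₛₗ[σ] F}

/-- `hsub` for `udat`, `d = dim W` even `≥ 4`, `q ≥ 3`, from a bound `μ` on the indices of the proper subgroups of `K`: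
`T1 = q^2 Npt q d ≤ a0 μ` and no order `a` of an additive subgroup with `q^2 < a < a0` has `a - 1 ∣ c0`. -/
theorem hsub_even_udat [Finite F] [FiniteDimensional F V] (hσ : Invol σ) (hB : IsHerm B)
    (hN : NondegOn B ⊤) {q : ℕ} (hF : Nat.card F = q ^ 2) (hq3 : 3 ≤ q)
    {v v' : V} (h : HypPair B v v') (d : ℕ) (hd : finrank F ↥(Wsub B v v') = d) (hd4 : 4 ≤ d)
    (hdev : Even d) (μ a0 : ℕ)
    (hμ : ∀ E : Subgroup ↥(SUg B), E ≤ (udat hσ hB h).K → E ≠ (udat hσ hB h).K →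
      μ ≤ E.relIndex (udat hσ hB h).K)
    (h1 : q ^ 2 * Npt q d ≤ a0 * μ)
    (hgap : ∀ a : ℕ, q ^ 2 < a → a < a0 → a ∣ q ^ (2 * d) →
      ¬ (a - 1) ∣ (q ^ d - 1) * (q ^ (d - 1) + 1)) :
    ∀ J : AddSubgroup ↥(Wsub B v v'), J ≠ ⊤ →
      q ^ 2 * Npt q d ≤ J.index *
        Nat.card {S : Set ↥(Wsub B v v') // ∃ k ∈ (udat hσ hB h).K,
          S = (udat hσ hB h).ρ k '' (J : Set ↥(Wsub B v v'))} := by
  have hq2 : 2 ≤ q := by omega
  have hV : Finite V := Module.finite_of_finite F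
  have hfin : Finite ↥(SUg B) := by
    have : Finite (V ≃ₗ[F] V) := Finite.of_injective (fun e => (e : V → V)) DFunLike.coe_injective
    exact Subtype.finite
  have hcardW : Nat.card ↥(Wsub B v v') = q ^ (2 * d) := by
    rw [Module.natCard_eq_pow_finrank (K := F) (V := ↥(Wsub B v v')), hF, hd, ← pow_mul]
  have hAcard : Nat.card ↥(skewA σ) = q := Cfsg.Agent.Lib.Helper95_UQ_FLD.card_skew hσ hF
  have hAnt : Nontrivial ↥(skewA σ) := by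
    have : 1 < Nat.card ↥(skewA σ) := by rw [hAcard]; omega
    exact (Finite.one_lt_card_iff_nontrivial).mp this
  have hFinA : Finite ↥(skewA σ) := Subtype.finite
  obtain ⟨g1, g2, g3, g4⟩ := Cfsg.Agent.Lib.Helper9_UQ_HSUBGEO.HSUBGEO hσ hB hN hF h d hd hd4 hdev
  obtain ⟨n1, n2, n3, n4, n5, n6, n7, n8, n9, n10, n11, n12, n13⟩ := Cfsg.Agent.Lib.Helper84_UQ_NUM.NUM q d hq2 (by omega) hdev
  have hirr := Cfsg.Agent.Lib.Helper27_UQ_HYP.hirr_udat hσ hB hN h (by omega)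
  have hD := udat_ok hσ hB hN h
  refine hsub2 (udat hσ hB h) hD (fun w : ↥(Wsub B v v') => B (w : V) (w : V)) q μ
    ((q ^ d - 1) * (q ^ (d - 1) + 1)) (q ^ (d - 1) * (q ^ d - 1)) (q ^ 2 * Npt q d) a0 hq2 hirr hμ
    (by simp) g1 g2 g3 g4 ?_ h1 n8 n9 n10 (n11 hq3 hd4) ?_ ?_
  · intro I hI
    obtain ⟨c, hc, hIc⟩ := hI
    -- transport to an additive subgroup of V
    have hle := Cfsg.Agent.Lib.Helper42_UQ_NORM1.NORM1 hB (I.map (Wsub B v v').subtype.toAddMonoidHom) c hc (by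
      intro w hw hw0
      obtain ⟨w', hw', rfl⟩ := AddSubgroup.mem_map.mp hw
      have hw'0 : w' ≠ 0 := by
        intro h0
        apply hw0
        rw [h0]
        simp
      exact hIc w' hw' hw'0)
    have hcard : Nat.card (I.map (Wsub B v v').subtype.toAddMonoidHom) = Nat.card I := by
      symm
      apply Nat.card_congr
      exact (I.equivMapOfInjective _ (Wsub B v v').injective_subtype).toEquiv
    rw [hcard] at hle
    exact hle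
  · rw [hcardW]
    exact n12
  · intro a ha1 ha2 ha3
    rw [hcardW] at ha3
    exact hgap a ha1 ha2 ha3

end Cfsg.Agent.Lib.Helper50_UQHsub
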