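import Mathlib
import Cfsg.Agent.Lib.Helper13_PSUSimple

/-!
# S2151 package PTS (architect helper68, proof helper91)

Isotropic vectors versus isotropic points of a sesquilinear form over a field with `q ^ 2` elements:
`#{x | B x x = 0} = 1 + (q ^ 2 - 1) * #IsoPt B`.  (No hypothesis on `B`.)
-/

set_option autoImplicit false

namespace Cfsg.Agent.Lib.Helper91_S2151_PTS

open Module Cfsg.Agent.Lib.Helper13_PSUSimple

universe u

variable {F : Type*} [Field F] {σ : F →+* F}

section

variable {V : Type u} [AddCommGroup V] [Module F V] (B : V →ₗ[F] V →ₛₗ[σ] F)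

/-- the nonzero isotropic vectors -/
def NzIso : Type u := {x : V // x ≠ 0 ∧ B x x = 0}

/-- a chosen spanning vector of an isotropic point -/
noncomputable def rep (P : IsoPt B) : V := Classical.choose (exists_eq_mkPt P)

theorem rep_ne_zero (P : IsoPt B) : rep B P ≠ 0 :=
  (Classical.choose_spec (exists_eq_mkPt P)).choose

theorem rep_iso (P : IsoPt B) : B (rep B P) (rep B P) = 0 :=
  (Classical.choose_spec (exists_eq_mkPt P)).choose_spec.choose

theorem eq_mkPt_rep (P : IsoPt B) : P = mkPt (rep_ne_zero B P) (rep_iso B P) :=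
  (Classical.choose_spec (exists_eq_mkPt P)).choose_spec.choose_spec

theorem smul_iso (c : F) {a : V} (ha : B a a = 0) : B (c • a) (c • a) = 0 := by
  rw [map_smulₛₗ (B (c • a)), map_smul, LinearMap.smul_apply, ha, smul_zero, smul_zero]

theorem mkPt_smul {a : V} (ha0 : a ≠ 0) (ha : B a a = 0) {c : F} (hc : c ≠ 0)
    (h0 : c • a ≠ 0) (h : B (c • a) (c • a) = 0) : (mkPt h0 h : IsoPt B) = mkPt ha0 ha := by
  apply Subtype.ext
  show Submodule.span F {c • a} = Submodule.span F {a}
  exact Submodule.span_singleton_smul_eq (IsUnit.mk0 c hc) a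

/-- the parametrisation of the nonzero isotropic vectors by (point, unit) -/
noncomputable def param (p : IsoPt B × Fˣ) : NzIso B :=
  ⟨(p.2 : F) • rep B p.1, smul_ne_zero p.2.ne_zero (rep_ne_zero B p.1), smul_iso B _ (rep_iso B p.1)⟩

theorem param_bijective : Function.Bijective (param B) := by
  constructor
  · rintro ⟨P, c⟩ ⟨P', c'⟩ h
    have hv : (c : F) • rep B P = (c' : F) • rep B P' := congrArg Subtype.val h
    have hP : P = P' := by
      rw [eq_mkPt_rep B P, eq_mkPt_rep B P']
      rw [← mkPt_smul B (rep_ne_zero B P) (rep_iso B P) c.ne_zero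
        (smul_ne_zero c.ne_zero (rep_ne_zero B P)) (smul_iso B _ (rep_iso B P)),
        ← mkPt_smul B (rep_ne_zero B P') (rep_iso B P') c'.ne_zero
        (smul_ne_zero c'.ne_zero (rep_ne_zero B P')) (smul_iso B _ (rep_iso B P'))]
      apply Subtype.ext
      show Submodule.span F {(c : F) • rep B P} = Submodule.span F {(c' : F) • rep B P'}
      rw [hv]
    subst hP
    have hc : (c : F) = c' := by
      have h1 : ((c : F) - c') • rep B P = 0 := by rw [sub_smul, hv, sub_self]
      rcases smul_eq_zero.mp h1 with h2 | h2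
      · exact sub_eq_zero.mp h2
      · exact absurd h2 (rep_ne_zero B P)
    rw [Units.ext hc]
  · rintro ⟨x, hx0, hx⟩
    have hmem : x ∈ (mkPt hx0 hx : IsoPt B).1 := Submodule.mem_span_singleton_self x
    rw [eq_mkPt_rep B (mkPt hx0 hx)] at hmem
    obtain ⟨c, hc⟩ := Submodule.mem_span_singleton.mp hmem
    have hc0 : c ≠ 0 := by
      rintro rfl
      rw [zero_smul] at hc
      exact hx0 hc.symm
    exact ⟨(mkPt hx0 hx, Units.mk0 c hc0), Subtype.ext hc⟩

/-- isotropic vectors = zero or nonzero isotropic -/
noncomputable def isoEquivOption : {x : V // B x x = 0} ≃ Option (NzIso B) where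
  toFun x := by
    classical
    exact if h : x.1 = 0 then none else some ⟨x.1, h, x.2⟩
  invFun o := match o with
    | none => ⟨0, by simp⟩
    | some y => ⟨y.1, y.2.2⟩
  left_inv x := by
    classical
    by_cases h : x.1 = 0
    · simp only [dif_pos h]
      exact Subtype.ext h.symm
    · simp only [dif_neg h]
  right_inv o := by
    classical
    cases o with
    | none => simp
    | some y =>
      show (if h : y.1 = 0 then none else some (⟨y.1, h, y.2.2⟩ : NzIso B)) = some y
      rw [dif_neg y.2.1]
      rfl

end

/-- S2151-PTS (M, ~150 l; parity-free, also usable for S2152's `hP`).  Isotropic vectors versus isotropic points: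
`x ↦ mkPt` maps the nonzero isotropic vectors onto `IsoPt B` (`exists_eq_mkPt`) and every fibre is the set of nonzero multiples of one
vector (`Submodule.mem_span_singleton`), so it has `|Fˣ| = q^2 - 1` elements (`Nat.card_units`-type count: `Nat.card F = q^2`). -/
theorem PTS {V : Type u} [AddCommGroup V] [Module F V] [Finite F] [FiniteDimensional F V]
    (B : V →ₗ[F] V →ₛₗ[σ] F) {q : ℕ} (hF : Nat.card F = q ^ 2) :
    Nat.card {x : V // B x x = 0} = 1 + (q ^ 2 - 1) * Nat.card (IsoPt B) := by
  have hV : Finite V := Module.finite_of_finite F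
  have hX : Finite (NzIso B) := by
    unfold NzIso
    infer_instance
  rw [Nat.card_congr (isoEquivOption B), Finite.card_option,
    ← Nat.card_congr (Equiv.ofBijective _ (param_bijective B)), Nat.card_prod, Nat.card_units, hF]
  ring

end Cfsg.Agent.Lib.Helper91_S2151_PTS
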