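import Mathlib

/-!
# S2152 part B package UQ-GAP (architect helper50, proof helper91)

No power of `p` strictly between `q^2` and `q^3` (`q = p^e`) has `p^j - 1` dividing
`(q^4-1)(q^3+1)`.
-/

set_option autoImplicit false

namespace Cfsg.Agent.Lib.Helper91_UQ_GAP

/-- `(x - 1)(y - 1) < N - 1` when `x, y ≥ 2` and `x y ≤ N` -/
theorem pred_mul_pred_lt (x y N : ℕ) (hx : 2 ≤ x) (hy : 2 ≤ y) (hN : x * y ≤ N) :
    (x - 1) * (y - 1) < N - 1 := by
  obtain ⟨a, rfl⟩ := Nat.exists_eq_add_of_le hx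
  obtain ⟨b, rfl⟩ := Nat.exists_eq_add_of_le hy
  have h1 : (2 + a - 1) * (2 + b - 1) = (1 + a) * (1 + b) := by
    congr 1 <;> omega
  have h2 : (2 + a) * (2 + b) = (1 + a) * (1 + b) + (1 + a) + (1 + b) + 1 := by ring
  rw [h1]
  rw [h2] at hN
  generalize (1 + a) * (1 + b) = P at *
  omega

/-- a proper divisor is at most half -/
theorem two_mul_le_of_dvd_ne {g j : ℕ} (hj : 0 < j) (hg : g ∣ j) (hne : g ≠ j) : 2 * g ≤ j := by
  obtain ⟨k, hk⟩ := hg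
  rcases k with _ | _ | k
  · rw [mul_zero] at hk
    omega
  · rw [zero_add, mul_one] at hk
    exact absurd hk.symm hne
  · have : g * 2 ≤ g * (k + 1 + 1) := Nat.mul_le_mul_left _ (by omega)
    omega

/-- UQ-GAP (M, Mathlib only). -/
theorem GAP (p e q : ℕ) (hp : p.Prime) (he : 1 ≤ e) (hq : q = p ^ e) :
    ∀ a : ℕ, q ^ 2 < a → a < q ^ 3 → a ∣ q ^ 8 → ¬ (a - 1) ∣ (q ^ 4 - 1) * (q ^ 3 + 1) := by
  intro a h1 h2 h3 hdvd
  have hp2 : 2 ≤ p := hp.two_le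
  have hp1 : 1 < p := hp.one_lt
  subst hq
  rw [← pow_mul] at h1 h2 h3
  obtain ⟨j, _, rfl⟩ := (Nat.dvd_prime_pow hp).mp h3
  have hj1 : e * 2 < j := (Nat.pow_lt_pow_iff_right hp1).mp h1
  have hj2 : j < e * 3 := (Nat.pow_lt_pow_iff_right hp1).mp h2
  have hjpos : 0 < j := by omega
  -- pass to `(p^(4e) - 1)(p^(6e) - 1)`
  have hXY : (p ^ j - 1) ∣ (p ^ (4 * e) - 1) * (p ^ (6 * e) - 1) := by
    refine hdvd.trans (Nat.mul_dvd_mul ?_ ?_)
    · have : (p ^ e) ^ 4 = p ^ (4 * e) := by ring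
      rw [this]
    · have h6 : p ^ (6 * e) = ((p ^ e) ^ 3) ^ 2 := by ring
      have ht : 1 ≤ (p ^ e) ^ 3 := Nat.one_le_pow _ _ (Nat.one_le_pow _ _ (by omega))
      refine ⟨(p ^ e) ^ 3 - 1, ?_⟩
      rw [h6]
      generalize (p ^ e) ^ 3 = t at *
      obtain ⟨s, rfl⟩ := Nat.exists_eq_add_of_le ht
      have : (1 + s) ^ 2 - 1 = (1 + s + 1) * s := by
        have : (1 + s) ^ 2 = (1 + s + 1) * s + 1 := by ring
        omega
      rw [this]
      congr 1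
      omega
  have hm : p ^ j - 1 ∣
      Nat.gcd (p ^ j - 1) (p ^ (4 * e) - 1) * Nat.gcd (p ^ j - 1) (p ^ (6 * e) - 1) :=
    (Nat.dvd_gcd dvd_rfl hXY).trans (Nat.gcd_mul_right_dvd_mul_gcd _ _ _)
  rw [Nat.pow_sub_one_gcd_pow_sub_one, Nat.pow_sub_one_gcd_pow_sub_one] at hm
  have hg1ne : Nat.gcd j (4 * e) ≠ j := by
    intro h
    have hd : j ∣ 4 * e := by
      rw [← h]
      exact Nat.gcd_dvd_right _ _
    obtain ⟨c, hc⟩ := hd
    rcases c with _ | _ | c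
    · rw [mul_zero] at hc
      omega
    · rw [zero_add, mul_one] at hc
      omega
    · have : j * 2 ≤ j * (c + 1 + 1) := Nat.mul_le_mul_left _ (by omega)
      omega
  have hg2ne : Nat.gcd j (6 * e) ≠ j := by
    intro h
    have hd : j ∣ 6 * e := by
      rw [← h]
      exact Nat.gcd_dvd_right _ _
    obtain ⟨c, hc⟩ := hd
    rcases c with _ | _ | _ | c
    · rw [mul_zero] at hc
      omega
    · rw [zero_add, mul_one] at hc
      omega
    · omega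
    · have : j * 3 ≤ j * (c + 1 + 1 + 1) := Nat.mul_le_mul_left _ (by omega)
      omega
  have hg1 : 2 * Nat.gcd j (4 * e) ≤ j :=
    two_mul_le_of_dvd_ne hjpos (Nat.gcd_dvd_left _ _) hg1ne
  have hg2 : 2 * Nat.gcd j (6 * e) ≤ j :=
    two_mul_le_of_dvd_ne hjpos (Nat.gcd_dvd_left _ _) hg2ne
  have hg1pos : 1 ≤ Nat.gcd j (4 * e) := Nat.gcd_pos_of_pos_left _ hjpos
  have hg2pos : 1 ≤ Nat.gcd j (6 * e) := Nat.gcd_pos_of_pos_left _ hjpos
  generalize Nat.gcd j (4 * e) = g1 at *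
  generalize Nat.gcd j (6 * e) = g2 at *
  have hx : 2 ≤ p ^ g1 := by
    calc 2 ≤ p := hp2
      _ = p ^ 1 := (pow_one p).symm
      _ ≤ p ^ g1 := Nat.pow_le_pow_right (by omega) hg1pos
  have hy : 2 ≤ p ^ g2 := by
    calc 2 ≤ p := hp2
      _ = p ^ 1 := (pow_one p).symm
      _ ≤ p ^ g2 := Nat.pow_le_pow_right (by omega) hg2pos
  have hxy : p ^ g1 * p ^ g2 ≤ p ^ j := by
    rw [← pow_add]
    exact Nat.pow_le_pow_right (by omega) (by omega)
  have hlt := pred_mul_pred_lt _ _ _ hx hy hxy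
  have hpos : 0 < (p ^ g1 - 1) * (p ^ g2 - 1) := Nat.mul_pos (by omega) (by omega)
  exact absurd (Nat.le_of_dvd hpos hm) (not_le.mpr hlt)

end Cfsg.Agent.Lib.Helper91_UQ_GAP
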