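import Mathlib
import Cfsg.Agent.Lib.Helper94_UQInst
import Cfsg.Agent.Lib.Helper27_UQ_GEN
import Cfsg.Agent.Lib.Helper27_UQ_CARD

set_option autoImplicit false
set_option linter.unusedSectionVars false
set_option linter.unusedVariables false

/-!
# Perfectness of `SUg B` (dimension at least four) and of the Levi factor `K`

* `utv_mem_commutator`: a root element is a commutator of two Eichler elements (dimension `≥ 3`);
* `SUg_perfect` : `SUg B ≤ ⁅SUg B, SUg B⁆` for `4 ≤ finrank F V`;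
* `udat_K_perfect` : `hperf` of `abstract_main` for the concrete datum (`4 ≤ finrank W`).
-/

open Module Cfsg.Agent.Lib.Helper94_Symp Cfsg.Agent.Lib.Helper94_Herm
  Cfsg.Agent.Lib.Helper94_HermEich Cfsg.Agent.Lib.Helper94_HermPara
  Cfsg.Agent.Lib.Helper94_HermTrans
  Cfsg.Agent.Lib.Helper13_SUGen Cfsg.Agent.Lib.Helper13_PSUSimple
  Cfsg.Agent.Lib.Helper46_U3TI Cfsg.Agent.Lib.Helper14_PSULocal1
  Cfsg.Agent.Lib.Helper27_UQDefs Cfsg.Agent.Lib.Helper50_UQAbsDefs
  Cfsg.Agent.Lib.Helper94_UQInst Cfsg.Agent.Lib.Helper27_UQ_KISO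

namespace Cfsg.Agent.Lib.Helper94_UQPerf

open scoped commutatorElement

variable {F V : Type*} [Field F] [AddCommGroup V] [Module F V] {σ : F →+* F}
variable {B : V →ₗ[F] V →ₛₗ[σ] F}

/-- a root element is a commutator of two elements of `Q_v` (needs `W ≠ 0`) -/
theorem utv_mem_commutator (hσ : Invol σ) (hB : IsHerm B) (hN : NondegOn B ⊤) {v v' : V}
    (h : HypPair B v v') {w : V} (hw : w ∈ Wsub B v v') (hw0 : w ≠ 0) {c : F} (hc : σ c = -c) :
    utv B v c ∈ ⁅SUg B, SUg B⁆ := by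
  have hW : NondegOn B (Wsub B v v') := by
    rw [Wsub_eq_Wp]; exact nondegOn_Wp hB hN h
  obtain ⟨w', hw', hww'⟩ := Cfsg.Agent.Lib.Helper64_UQ_PARAM.exists_comm hσ hB hW hw hw0 hc
  obtain ⟨t, ht⟩ := tr_surj hσ (-(B w w)) (by rw [map_neg, herm_self hB])
  obtain ⟨t', ht'⟩ := tr_surj hσ (-(B w' w')) (by rw [map_neg, herm_self hB])
  have h1 := eich_comm' hB h.ee hw.1 hw'.1 t t'
  rw [hww'] at h1
  have hE : eich B v w t ∈ SUg B := eich_mem_SUg hB ht
  have hE' : eich B v w' t' ∈ SUg B := eich_mem_SUg hB ht'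
  have h2 : utv B v c = ⁅(eich B v w t)⁻¹, (eich B v w' t')⁻¹⁆ := by
    rw [commutatorElement_def, inv_inv, inv_inv, mul_assoc, mul_assoc, h1]
    group
  rw [h2]
  exact Subgroup.commutator_mem_commutator ((SUg B).inv_mem hE) ((SUg B).inv_mem hE')

/-- nonzero vector in `W` when `3 ≤ finrank` -/
theorem exists_ne_zero_Wsub [FiniteDimensional F V] {v v' : V} (h : HypPair B v v')
    (h3 : 3 ≤ finrank F V) : ∃ w ∈ Wsub B v v', w ≠ 0 := by
  have h1 := Cfsg.Agent.Lib.Helper27_UQ_CARD.finrank_Wsub h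
  have h2 : 0 < finrank F ↥(Wsub B v v') := by omega
  obtain ⟨⟨w, hw⟩, hw0⟩ := Module.finrank_pos_iff_exists_ne_zero.mp h2
  exact ⟨w, hw, fun h0 => hw0 (Subtype.ext h0)⟩

/-- **`SU(V)` is perfect** for `4 ≤ dim V` -/
theorem SUg_perfect [Finite F] [FiniteDimensional F V] (hσ : Invol σ) (hB : IsHerm B)
    (hN : NondegOn B ⊤) (h4 : 4 ≤ finrank F V) : SUg B ≤ ⁅SUg B, SUg B⁆ := by
  apply Cfsg.Agent.Lib.Helper27_UQ_GEN.eq_top_of_Xv_le hσ hB hN h4
  intro u hu
  rintro g ⟨c, hc, rfl⟩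
  by_cases hu0 : u = 0
  · subst hu0
    have : utv B (0 : V) c = 1 := by
      ext x
      rw [utv_apply B (by simp)]
      simp
    rw [this]
    exact Subgroup.one_mem _
  · obtain ⟨u', h⟩ := Cfsg.Agent.Lib.Helper27_UQ_GEN.exists_hypPair hσ hB hN hu0 hu
    obtain ⟨w, hw, hw0⟩ := exists_ne_zero_Wsub h (by omega)
    exact utv_mem_commutator hσ hB hN h hw hw0 hc

/-- perfectness as a statement about the subtype group -/
theorem commutator_SUg_eq_top [Finite F] [FiniteDimensional F V] (hσ : Invol σ) (hB : IsHerm B)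
    (hN : NondegOn B ⊤) (h4 : 4 ≤ finrank F V) : commutator ↥(SUg B) = ⊤ := by
  have h1 := SUg_perfect hσ hB hN h4
  rw [← Subgroup.map_subtype_commutator] at h1
  rw [eq_top_iff]
  intro x _
  obtain ⟨y, hy, hyx⟩ := h1 x.2
  have : y = x := Subtype.ext hyx
  rw [← this]
  exact hy

/-- perfectness passes along isomorphisms -/
theorem commutator_eq_top_of_equiv {G G' : Type*} [Group G] [Group G'] (e : G ≃* G')
    (h : commutator G' = ⊤) : commutator G = ⊤ := by
  have h1 := Subgroup.map_commutator (⊤ : Subgroup G') ⊤ e.symm.toMonoidHom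
  have h2 : Subgroup.map e.symm.toMonoidHom ⊤ = ⊤ :=
    Subgroup.map_top_of_surjective e.symm.toMonoidHom e.symm.surjective
  rw [h2, ← commutator_def, ← commutator_def, h, h2] at h1
  exact h1.symm

/-- a perfect subgroup lies in its own commutator subgroup -/
theorem le_commutator_of_perfect {G : Type*} [Group G] (K : Subgroup G)
    (h : commutator ↥K = ⊤) : K ≤ ⁅K, K⁆ := by
  rw [← Subgroup.map_subtype_commutator, h]
  intro x hx
  exact ⟨⟨x, hx⟩, Subgroup.mem_top _, rfl⟩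

/-- **`hperf`** for the concrete datum: `K = SU(W)` is perfect when `4 ≤ dim W` -/
theorem udat_K_perfect [Finite F] [FiniteDimensional F V] (hσ : Invol σ) (hB : IsHerm B)
    (hN : NondegOn B ⊤) {v v' : V} (h : HypPair B v v')
    (h4 : 4 ≤ finrank F ↥(Wsub B v v')) :
    (udat hσ hB h).K ≤ ⁅(udat hσ hB h).K, (udat hσ hB h).K⁆ := by
  apply le_commutator_of_perfect
  obtain ⟨e, -⟩ := exists_KvEquiv hB h
  have hW : NondegOn B (Wsub B v v') := by
    rw [Wsub_eq_Wp]; exact nondegOn_Wp hB hN h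
  have hp := commutator_SUg_eq_top hσ (isHerm_Bw hB (Wsub B v v')) (nondeg_Bw hW) h4
  have e0 : ↥((udat hσ hB h).K) ≃* ↥(Kv B v v') :=
    Subgroup.subgroupOfEquivOfLe (Kv_le B v v')
  exact commutator_eq_top_of_equiv (e0.trans e) hp

end Cfsg.Agent.Lib.Helper94_UQPerf
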