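import Mathlib
import Cfsg.Agent.Lib.Helper94_UQPts
import Cfsg.Agent.Lib.Helper94_UQPerf
import Cfsg.Agent.Lib.Helper94_UQBridge
import Cfsg.Agent.Lib.Helper27_UQ_GEO3
import Cfsg.Agent.Lib.Helper27_UQ_HYP
import Cfsg.Agent.Lib.Helper27_UQ_CARD
import Cfsg.Agent.Lib.Helper95_UQ_FLD
import Cfsg.Agent.Lib.Helper50_UQAbsMain

set_option autoImplicit false
set_option linter.unusedSectionVars false
set_option linter.unusedVariables false

/-!
# The one-step geometric theorem of the unitary `Q_v`-method (S2151 / S2152)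

Parity-free, all `q ≥ 2`.  For a nondegenerate hermitian space `(V, B)` of dimension `d + 2`
over a field with `q ^ 2` elements, a hyperbolic pair `(v, v')`, `D := udat hσ hB h`
(`Helper94_UQInst`), `P := IsoPt B`, `Qs`, `Xs`, `perp` (`Helper94_UQPts`):

* points-level forms of `hroot`, `hline`, `hnot` (from `Helper27_UQ_GEO3`);
* `step_geo_raw_core` / `step_geo_raw_main`: `Helper50_UQAbsMain.abstract_core` / `abstract_main`
  with ALL geometric hypotheses discharged except `hirr`, `htorus` (and the `z`-block), which are kept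
  as hypotheses in exactly the shape of `abstract_main` for `D`;
* `index_form`: pass from a transitive `G`-set to `H.index`;
* `kv_bound_of_ih` : the bound `hμ` for `D.K` from the bound for `SUg (Bw B (Wsub B v v'))`.
-/

open Module Cfsg.Agent.Lib.Helper94_Symp Cfsg.Agent.Lib.Helper94_Herm
  Cfsg.Agent.Lib.Helper94_HermEich Cfsg.Agent.Lib.Helper94_HermPara
  Cfsg.Agent.Lib.Helper94_HermTrans
  Cfsg.Agent.Lib.Helper13_SUGen Cfsg.Agent.Lib.Helper13_PSUSimple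
  Cfsg.Agent.Lib.Helper46_U3TI Cfsg.Agent.Lib.Helper14_PSULocal1
  Cfsg.Agent.Lib.Helper27_UQDefs Cfsg.Agent.Lib.Helper50_UQAbsDefs
  Cfsg.Agent.Lib.Helper94_UQInst Cfsg.Agent.Lib.Helper94_UQPts

namespace Cfsg.Agent.Lib.Helper94_UQStep

variable {F V : Type*} [Field F] [AddCommGroup V] [Module F V] {σ : F →+* F}
variable {B : V →ₗ[F] V →ₛₗ[σ] F}

/-! ### finiteness -/

theorem finite_V [Finite F] [FiniteDimensional F V] : Finite V := Module.finite_of_finite F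

theorem finite_equiv [Finite F] [FiniteDimensional F V] : Finite (V ≃ₗ[F] V) := by
  haveI : Finite V := Module.finite_of_finite F
  exact Finite.of_injective (fun e : V ≃ₗ[F] V => (e : V → V)) DFunLike.coe_injective

theorem finite_SUg [Finite F] [FiniteDimensional F V] (B : V →ₗ[F] V →ₛₗ[σ] F) :
    Finite ↥(SUg B) := by
  haveI : Finite (V ≃ₗ[F] V) := finite_equiv
  infer_instance

theorem finite_IsoPt [Finite F] [FiniteDimensional F V] (B : V →ₗ[F] V →ₛₗ[σ] F) :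
    Finite (IsoPt B) := by
  haveI : Finite V := Module.finite_of_finite F
  haveI : Finite (Submodule F V) :=
    Finite.of_injective (fun W : Submodule F V => (W : Set V)) SetLike.coe_injective
  exact Subtype.finite

/-! ### points-level forms of `hroot`, `hline`, `hnot` -/

/-- `hroot` -/
theorem hroot_pts [Finite F] [FiniteDimensional F V] (hσ : Invol σ) (hB : IsHerm B) {v v' : V}
    (h : HypPair B v v') (h2 : 2 ≤ finrank F ↥(Wsub B v v')) :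
    ∃ u : IsoPt B, Xs B u ≤ (udat hσ hB h).K := by
  obtain ⟨u, huW, hu0, hu⟩ := Cfsg.Agent.Lib.Helper27_UQ_GEO3.exists_iso_Wsub hσ hB h2
  refine ⟨mkPt hu0 hu, fun g hg => ?_⟩
  rw [mem_Xs_mkPt hσ] at hg
  rw [mem_K]
  exact Cfsg.Agent.Lib.Helper27_UQ_GEO3.Xv_le_Kv hB h huW hg

/-- `hline` -/
theorem hline_pts (hσ : Invol σ) (hB : IsHerm B) (hN : NondegOn B ⊤) (u x v : IsoPt B)
    (hux : perp u x) (hne : u ≠ x) :
    ∃ z : IsoPt B, perp z v ∧ (z = u ∨ ∃ g ∈ Qs B u, g • x = z) := by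
  obtain ⟨a, ha0, ha, rfl⟩ := exists_eq_mkPt u
  obtain ⟨b, hb0, hb, rfl⟩ := exists_eq_mkPt x
  obtain ⟨c, hc0, hc, rfl⟩ := exists_eq_mkPt v
  have hab : B a b = 0 := (perp_mkPt ha0 ha hb0 hb).mp hux
  have hba : B b a = 0 := herm_eq_zero hB hab
  have hb_notin : b ∉ Submodule.span F {a} := by
    intro hmem
    obtain ⟨t, rfl⟩ := Submodule.mem_span_singleton.mp hmem
    apply hne
    rw [mkPt_eq_iff]
    refine ⟨t, ?_, rfl⟩
    rintro rfl
    simp at hb0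
  rcases Cfsg.Agent.Lib.Helper27_UQ_GEO3.hline_raw hσ hB hN ha0 ha hba hb_notin c with
    h0 | ⟨g, hg, hgc⟩
  · exact ⟨mkPt ha0 ha, (perp_mkPt ha0 ha hc0 hc).mpr h0, Or.inl rfl⟩
  · obtain ⟨a', hp⟩ := Cfsg.Agent.Lib.Helper27_UQ_GEN.exists_hypPair hσ hB hN ha0 ha
    have hgS : g ∈ SUg B := Qv_le_SUg hB hp hg
    refine ⟨(⟨g, hgS⟩ : ↥(SUg B)) • mkPt hb0 hb, ?_, Or.inr ⟨⟨g, hgS⟩, ?_, rfl⟩⟩
    · rw [smul_mkPt, perp_mkPt]
      exact hgc
    · rw [mem_Qs_mkPt]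
      exact hg

/-- `hnot`: a point of a `SUg B`-set which is not fixed by the whole group is moved by a root element -/
theorem hnot_pts [Finite F] [FiniteDimensional F V] (hσ : Invol σ) (hB : IsHerm B)
    (hN : NondegOn B ⊤) (h4 : 4 ≤ finrank F V)
    {Ω : Type*} [MulAction ↥(SUg B) Ω] (ω : Ω) (hω : ∃ g : ↥(SUg B), g • ω ≠ ω) :
    ∃ u : IsoPt B, ∃ x ∈ Xs B u, x • ω ≠ ω := by
  by_contra hcon
  push Not at hcon
  obtain ⟨g, hg⟩ := hω
  apply hg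
  have hle : SUg B ≤ (MulAction.stabilizer ↥(SUg B) ω).map (SUg B).subtype := by
    by_contra hH
    obtain ⟨u, hu0, hu, x, hx, hxn⟩ :=
      Cfsg.Agent.Lib.Helper27_UQ_GEO3.exists_Xv_not_le hσ hB hN h4 hH
    apply hxn
    have hxS : x ∈ SUg B := Xv_le_SUg hB u hx
    refine ⟨⟨x, hxS⟩, ?_, rfl⟩
    rw [SetLike.mem_coe, MulAction.mem_stabilizer_iff]
    apply hcon (mkPt hu0 hu)
    rw [mem_Xs_mkPt hσ]
    exact hx
  obtain ⟨g', hg', hgg⟩ := hle g.2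
  have : g' = g := Subtype.ext hgg
  rw [← this]
  exact MulAction.mem_stabilizer_iff.mp hg'

/-- in a nontrivial transitive set nothing is fixed by the whole group -/
theorem exists_moves {G Ω : Type*} [Group G] [MulAction G Ω] [MulAction.IsPretransitive G Ω]
    [Nontrivial Ω] (ω : Ω) : ∃ g : G, g • ω ≠ ω := by
  obtain ⟨ω', hω'⟩ := exists_ne ω
  obtain ⟨g, hg⟩ := MulAction.exists_smul_eq G ω ω'
  exact ⟨g, by rw [hg]; exact hω'⟩

/-! ### the numerical data of `udat` -/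

theorem two_le_q [Finite F] {q : ℕ} (hF : Nat.card F = q ^ 2) : 2 ≤ q := by
  have h1 : 1 < Nat.card F := Finite.one_lt_card
  rw [hF] at h1
  by_contra hlt
  have : q ≤ 1 := by omega
  have h2 : q ^ 2 ≤ 1 ^ 2 := Nat.pow_le_pow_left this 2
  omega

theorem card_skewA [Finite F] (hσ : Invol σ) {q : ℕ} (hF : Nat.card F = q ^ 2) :
    Nat.card ↥(skewA σ) = q := by
  rw [← Cfsg.Agent.Lib.Helper95_UQ_FLD.card_skew hσ hF]
  exact Nat.card_congr (Equiv.subtypeEquivRight (fun c => mem_skewA))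

theorem card_W [Finite F] [FiniteDimensional F V] {q : ℕ} (hF : Nat.card F = q ^ 2)
    {v v' : V} (h : HypPair B v v') {d : ℕ} (hd : finrank F V = d + 2) :
    Nat.card ↥(Wsub B v v') = q ^ (2 * d) := by
  rw [Cfsg.Agent.Lib.Helper27_UQ_CARD.card_Wsub hF h, hd]
  congr 2

theorem finrank_W [FiniteDimensional F V] {v v' : V} (h : HypPair B v v') {d : ℕ}
    (hd : finrank F V = d + 2) : finrank F ↥(Wsub B v v') = d := by
  have := Cfsg.Agent.Lib.Helper27_UQ_CARD.finrank_Wsub h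
  omega

/-! ### the step theorems, raw form -/

/-- `abstract_core` for `udat`: everything geometric discharged except `hirr`, `htorus`. -/
theorem step_geo_raw_core [Finite F] [FiniteDimensional F V] (hσ : Invol σ) (hB : IsHerm B)
    (hN : NondegOn B ⊤) {q : ℕ} (hF : Nat.card F = q ^ 2) {v v' : V} (h : HypPair B v v')
    (d μ N T1 : ℕ) (hd : finrank F V = d + 2) (hd2 : 2 ≤ d)
    {Ω : Type*} [MulAction ↥(SUg B) Ω] [MulAction.IsPretransitive ↥(SUg B) Ω] [Finite Ω]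
    [Nontrivial Ω]
    (hP : Nat.card (IsoPt B) = N) (hNrec : N = 1 + T1 + q ^ (2 * d + 1))
    (hT1 : 0 < T1) (hT2 : 1 + T1 ≤ 2 * q ^ (2 * d)) (hμN : N ≤ μ * q ^ (d + 1))
    (hirr : ∀ I : AddSubgroup ↥(Wsub B v v'),
      (∀ k ∈ (udat hσ hB h).K, ∀ w ∈ I, (udat hσ hB h).ρ k w ∈ I) → I = ⊥ ∨ I = ⊤)
    (hμ : ∀ E : Subgroup ↥(SUg B), E ≤ (udat hσ hB h).K → E ≠ (udat hσ hB h).K →
      μ ≤ E.relIndex (udat hσ hB h).K)
    (htorus : ∀ (S : Subgroup ↥(SUg B)) (Y : AddSubgroup ↥(skewA σ)), S ≤ (udat hσ hB h).L →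
      Y ≠ ⊥ → Y ≠ ⊤ → (∀ s ∈ S, ∀ a ∈ Y, (udat hσ hB h).ν s a ∈ Y) →
        Nat.card Y + 1 ≤ (S ⊔ (udat hσ hB h).K).relIndex (udat hσ hB h).L)
    (hpos : ∃ (u : IsoPt B) (ω : Ω), ∀ x ∈ Xs B u, x • ω = ω)
    (hsub : ∀ J : AddSubgroup ↥(Wsub B v v'), J ≠ ⊤ →
      T1 ≤ J.index * Nat.card {S : Set ↥(Wsub B v v') //
        ∃ k ∈ (udat hσ hB h).K, S = (udat hσ hB h).ρ k '' (J : Set ↥(Wsub B v v'))}) :
    N ≤ Nat.card Ω := by
  haveI : Finite V := Module.finite_of_finite F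
  haveI : Finite ↥(SUg B) := finite_SUg B
  haveI : Finite (IsoPt B) := finite_IsoPt B
  haveI : MulAction.IsPretransitive ↥(SUg B) (IsoPt B) :=
    Cfsg.Agent.Lib.Helper13_PSUSimple.isPretransitive hσ hB hN (by omega)
  have hv0 : v ≠ 0 := (hypPair_ne_zero h).1
  exact Cfsg.Agent.Lib.Helper50_UQAbsMain.abstract_core (udat hσ hB h) (udat_ok hσ hB hN h)
    (Qs B) (Xs B) perp (mkPt hv0 h.ee) (Qs_mkPt_eq hσ hB h hv0) (mem_Xs_mkPt_iff hσ hB h hv0)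
    Qs_conj (Xs_conj hσ) q d μ N T1 (two_le_q hF) (by omega) (card_skewA hσ hF)
    (card_W hF h hd) hP hNrec hT1 hT2 hμN hirr hμ htorus hpos hsub
    (exists_mem_Qs_inf hB hN) (exists_Qs_map hσ hB hN) (hline_pts hσ hB hN)
    (fun ω => hnot_pts hσ hB hN (by omega) ω (exists_moves ω))

/-- `abstract_main` for `udat`: everything geometric discharged except `hirr`, `htorus` and the
`z`-block. -/
theorem step_geo_raw_main [Finite F] [FiniteDimensional F V] (hσ : Invol σ) (hB : IsHerm B)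
    (hN : NondegOn B ⊤) {q : ℕ} (hF : Nat.card F = q ^ 2) {v v' : V} (h : HypPair B v v')
    (d μ N T1 : ℕ) (hd : finrank F V = d + 2) (hd4 : 4 ≤ d)
    {Ω : Type*} [MulAction ↥(SUg B) Ω] [MulAction.IsPretransitive ↥(SUg B) Ω] [Finite Ω]
    [Nontrivial Ω]
    (hP : Nat.card (IsoPt B) = N) (hNrec : N = 1 + T1 + q ^ (2 * d + 1))
    (hT1 : 0 < T1) (hT2 : 1 + T1 ≤ 2 * q ^ (2 * d)) (hμN : N ≤ μ * q ^ (d + 1))
    (hirr : ∀ I : AddSubgroup ↥(Wsub B v v'),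
      (∀ k ∈ (udat hσ hB h).K, ∀ w ∈ I, (udat hσ hB h).ρ k w ∈ I) → I = ⊥ ∨ I = ⊤)
    (hμ : ∀ E : Subgroup ↥(SUg B), E ≤ (udat hσ hB h).K → E ≠ (udat hσ hB h).K →
      μ ≤ E.relIndex (udat hσ hB h).K)
    (htorus : ∀ (S : Subgroup ↥(SUg B)) (Y : AddSubgroup ↥(skewA σ)), S ≤ (udat hσ hB h).L →
      Y ≠ ⊥ → Y ≠ ⊤ → (∀ s ∈ S, ∀ a ∈ Y, (udat hσ hB h).ν s a ∈ Y) →
        Nat.card Y + 1 ≤ (S ⊔ (udat hσ hB h).K).relIndex (udat hσ hB h).L)
    (z : ↥(SUg B)) (hzL : z ∈ (udat hσ hB h).L) (r : ℕ) (hr : r.Prime) (hzr : z ^ r = 1)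
    (hz1 : z ≠ 1) (hrq : ¬ r ∣ q)
    (hzK : ∀ k ∈ (udat hσ hB h).K, z * k = k * z)
    (hzW : ∀ w : ↥(Wsub B v v'), (udat hσ hB h).ρ z w = w → w = 0)
    (hsub : ∀ J : AddSubgroup ↥(Wsub B v v'), J ≠ ⊤ →
      T1 ≤ J.index * Nat.card {S : Set ↥(Wsub B v v') //
        ∃ k ∈ (udat hσ hB h).K, S = (udat hσ hB h).ρ k '' (J : Set ↥(Wsub B v v'))}) :
    N ≤ Nat.card Ω := by
  haveI : Finite V := Module.finite_of_finite F
  haveI : Finite ↥(SUg B) := finite_SUg B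
  haveI : Finite (IsoPt B) := finite_IsoPt B
  haveI : MulAction.IsPretransitive ↥(SUg B) (IsoPt B) :=
    Cfsg.Agent.Lib.Helper13_PSUSimple.isPretransitive hσ hB hN (by omega)
  have hv0 : v ≠ 0 := (hypPair_ne_zero h).1
  have hfW : finrank F ↥(Wsub B v v') = d := finrank_W h hd
  exact Cfsg.Agent.Lib.Helper50_UQAbsMain.abstract_main (udat hσ hB h) (udat_ok hσ hB hN h)
    (Qs B) (Xs B) perp (mkPt hv0 h.ee) (Qs_mkPt_eq hσ hB h hv0) (mem_Xs_mkPt_iff hσ hB h hv0)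
    Qs_conj (Xs_conj hσ) q d μ N T1 (two_le_q hF) (by omega) (card_skewA hσ hF)
    (card_W hF h hd) hP hNrec hT1 hT2 hμN hirr hμ htorus z hzL r hr hzr hz1 hrq hzK hzW
    (Cfsg.Agent.Lib.Helper94_UQPerf.udat_K_perfect hσ hB hN h (by omega))
    (hroot_pts hσ hB h (by omega)) hsub
    (exists_mem_Qs_inf hB hN) (exists_Qs_map hσ hB hN) (hline_pts hσ hB hN)
    (fun ω => hnot_pts hσ hB hN (by omega) ω (exists_moves ω))

/-! ### from transitive sets to indices -/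

/-- a bound for all nontrivial transitive `G`-sets bounds the index of every proper subgroup -/
theorem index_form {G : Type*} [Group G] [Finite G] (N : ℕ)
    (hΩ : ∀ (H : Subgroup G), H ≠ ⊤ → N ≤ Nat.card (G ⧸ H)) :
    ∀ H : Subgroup G, H ≠ ⊤ → N ≤ H.index := fun H hH => hΩ H hH

theorem nontrivial_quot {G : Type*} [Group G] [Finite G] (H : Subgroup G) (hH : H ≠ ⊤) :
    Nontrivial (G ⧸ H) := by
  rw [← Finite.one_lt_card_iff_nontrivial]
  have h1 : H.index ≠ 1 := fun h => hH (Subgroup.index_eq_one.mp h)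
  have h0 : H.index ≠ 0 := Subgroup.index_ne_zero_of_finite
  have : Nat.card (G ⧸ H) = H.index := rfl
  omega

/-! ### `hμ` from the induction hypothesis -/

/-- the bound for proper subgroups of `SU(W)` gives `hμ` for `K = K_v` -/
theorem kv_bound_of_ih [FiniteDimensional F V] (hσ : Invol σ) (hB : IsHerm B) {v v' : V}
    (h : HypPair B v v') (μ : ℕ)
    (ih : ∀ H : Subgroup ↥(SUg (Cfsg.Agent.Lib.Helper27_UQ_KISO.Bw B (Wsub B v v'))),
      H ≠ ⊤ → μ ≤ H.index) :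
    ∀ E : Subgroup ↥(SUg B), E ≤ (udat hσ hB h).K → E ≠ (udat hσ hB h).K →
      μ ≤ E.relIndex (udat hσ hB h).K := by
  intro E hE hne
  obtain ⟨e, -⟩ := Cfsg.Agent.Lib.Helper27_UQ_KISO.exists_KvEquiv hB h
  have e0 : ↥(udat hσ hB h).K ≃* ↥(Kv B v v') :=
    Subgroup.subgroupOfEquivOfLe (Kv_le B v v')
  have hb := Cfsg.Agent.Lib.Helper94_UQBridge.equiv_bound (e0.trans e) μ ih
  rw [Subgroup.relIndex]
  apply hb
  intro htop
  apply hne
  exact le_antisymm hE (Subgroup.subgroupOf_eq_top.mp htop)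

/-! ### the step theorems, final form -/

/-- **One step of the `Q_v`-method, `hpos` version** (all `q ≥ 2`, parity-free, `dim W = d ≥ 3`):
`hirr`, `htorus` discharged by `Helper27_UQ_HYP`. -/
theorem step_geo_core [Finite F] [FiniteDimensional F V] (hσ : Invol σ) (hB : IsHerm B)
    (hN : NondegOn B ⊤) {q : ℕ} (hF : Nat.card F = q ^ 2) {v v' : V} (h : HypPair B v v')
    (d μ N T1 : ℕ) (hd : finrank F V = d + 2) (hd3 : 3 ≤ d)
    {Ω : Type*} [MulAction ↥(SUg B) Ω] [MulAction.IsPretransitive ↥(SUg B) Ω] [Finite Ω]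
    [Nontrivial Ω]
    (hP : Nat.card (IsoPt B) = N) (hNrec : N = 1 + T1 + q ^ (2 * d + 1))
    (hT1 : 0 < T1) (hT2 : 1 + T1 ≤ 2 * q ^ (2 * d)) (hμN : N ≤ μ * q ^ (d + 1))
    (hμ : ∀ E : Subgroup ↥(SUg B), E ≤ (udat hσ hB h).K → E ≠ (udat hσ hB h).K →
      μ ≤ E.relIndex (udat hσ hB h).K)
    (hpos : ∃ (u : IsoPt B) (ω : Ω), ∀ x ∈ Xs B u, x • ω = ω)
    (hsub : ∀ J : AddSubgroup ↥(Wsub B v v'), J ≠ ⊤ →
      T1 ≤ J.index * Nat.card {S : Set ↥(Wsub B v v') //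
        ∃ k ∈ (udat hσ hB h).K, S = (udat hσ hB h).ρ k '' (J : Set ↥(Wsub B v v'))}) :
    N ≤ Nat.card Ω := by
  have hfW : finrank F ↥(Wsub B v v') = d := finrank_W h hd
  exact step_geo_raw_core hσ hB hN hF h d μ N T1 hd (by omega) hP hNrec hT1 hT2 hμN
    (Cfsg.Agent.Lib.Helper27_UQ_HYP.hirr_udat hσ hB hN h (by omega)) hμ
    (Cfsg.Agent.Lib.Helper27_UQ_HYP.htorus_udat hσ hB hN hF h (by omega)) hpos hsub

/-- **One step of the `Q_v`-method, `q ≥ 3`** (parity-free, `dim W = d ≥ 4`): `hirr`, `htorus`, the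
`z`-block, `hperf`, `hroot` all discharged. -/
theorem step_geo_main [Finite F] [FiniteDimensional F V] (hσ : Invol σ) (hB : IsHerm B)
    (hN : NondegOn B ⊤) {q : ℕ} (hF : Nat.card F = q ^ 2) (hq : 3 ≤ q) {v v' : V}
    (h : HypPair B v v')
    (d μ N T1 : ℕ) (hd : finrank F V = d + 2) (hd4 : 4 ≤ d)
    {Ω : Type*} [MulAction ↥(SUg B) Ω] [MulAction.IsPretransitive ↥(SUg B) Ω] [Finite Ω]
    [Nontrivial Ω]
    (hP : Nat.card (IsoPt B) = N) (hNrec : N = 1 + T1 + q ^ (2 * d + 1))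
    (hT1 : 0 < T1) (hT2 : 1 + T1 ≤ 2 * q ^ (2 * d)) (hμN : N ≤ μ * q ^ (d + 1))
    (hμ : ∀ E : Subgroup ↥(SUg B), E ≤ (udat hσ hB h).K → E ≠ (udat hσ hB h).K →
      μ ≤ E.relIndex (udat hσ hB h).K)
    (hsub : ∀ J : AddSubgroup ↥(Wsub B v v'), J ≠ ⊤ →
      T1 ≤ J.index * Nat.card {S : Set ↥(Wsub B v v') //
        ∃ k ∈ (udat hσ hB h).K, S = (udat hσ hB h).ρ k '' (J : Set ↥(Wsub B v v'))}) :
    N ≤ Nat.card Ω := by
  have hfW : finrank F ↥(Wsub B v v') = d := finrank_W h hd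
  obtain ⟨z, r, hzL, hr, hzr, hz1, hrq, hzK, hzW⟩ :=
    Cfsg.Agent.Lib.Helper27_UQ_HYP.zblock_udat hσ hB hF hq h
  exact step_geo_raw_main hσ hB hN hF h d μ N T1 hd hd4 hP hNrec hT1 hT2 hμN
    (Cfsg.Agent.Lib.Helper27_UQ_HYP.hirr_udat hσ hB hN h (by omega)) hμ
    (Cfsg.Agent.Lib.Helper27_UQ_HYP.htorus_udat hσ hB hN hF h (by omega))
    z hzL r hr hzr hz1 hrq hzK hzW hsub

/-- `step_geo_main` for subgroups: every proper subgroup of `SUg B` has index `≥ N`. -/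
theorem step_geo_main_index [Finite F] [FiniteDimensional F V] (hσ : Invol σ) (hB : IsHerm B)
    (hN : NondegOn B ⊤) {q : ℕ} (hF : Nat.card F = q ^ 2) (hq : 3 ≤ q) {v v' : V}
    (h : HypPair B v v')
    (d μ N T1 : ℕ) (hd : finrank F V = d + 2) (hd4 : 4 ≤ d)
    (hP : Nat.card (IsoPt B) = N) (hNrec : N = 1 + T1 + q ^ (2 * d + 1))
    (hT1 : 0 < T1) (hT2 : 1 + T1 ≤ 2 * q ^ (2 * d)) (hμN : N ≤ μ * q ^ (d + 1))
    (hμ : ∀ E : Subgroup ↥(SUg B), E ≤ (udat hσ hB h).K → E ≠ (udat hσ hB h).K →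
      μ ≤ E.relIndex (udat hσ hB h).K)
    (hsub : ∀ J : AddSubgroup ↥(Wsub B v v'), J ≠ ⊤ →
      T1 ≤ J.index * Nat.card {S : Set ↥(Wsub B v v') //
        ∃ k ∈ (udat hσ hB h).K, S = (udat hσ hB h).ρ k '' (J : Set ↥(Wsub B v v'))}) :
    ∀ H : Subgroup ↥(SUg B), H ≠ ⊤ → N ≤ H.index := by
  intro H hH
  haveI : Finite ↥(SUg B) := finite_SUg B
  haveI : Nontrivial (↥(SUg B) ⧸ H) := nontrivial_quot H hH
  exact step_geo_main hσ hB hN hF hq h d μ N T1 hd hd4 (Ω := ↥(SUg B) ⧸ H) hP hNrec hT1 hT2 hμN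
    hμ hsub

/-- `step_geo_core` for subgroups. -/
theorem step_geo_core_index [Finite F] [FiniteDimensional F V] (hσ : Invol σ) (hB : IsHerm B)
    (hN : NondegOn B ⊤) {q : ℕ} (hF : Nat.card F = q ^ 2) {v v' : V} (h : HypPair B v v')
    (d μ N T1 : ℕ) (hd : finrank F V = d + 2) (hd3 : 3 ≤ d)
    (hP : Nat.card (IsoPt B) = N) (hNrec : N = 1 + T1 + q ^ (2 * d + 1))
    (hT1 : 0 < T1) (hT2 : 1 + T1 ≤ 2 * q ^ (2 * d)) (hμN : N ≤ μ * q ^ (d + 1))
    (hμ : ∀ E : Subgroup ↥(SUg B), E ≤ (udat hσ hB h).K → E ≠ (udat hσ hB h).K →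
      μ ≤ E.relIndex (udat hσ hB h).K)
    (hsub : ∀ J : AddSubgroup ↥(Wsub B v v'), J ≠ ⊤ →
      T1 ≤ J.index * Nat.card {S : Set ↥(Wsub B v v') //
        ∃ k ∈ (udat hσ hB h).K, S = (udat hσ hB h).ρ k '' (J : Set ↥(Wsub B v v'))})
    (H : Subgroup ↥(SUg B)) (hH : H ≠ ⊤)
    (hpos : ∃ (u : IsoPt B) (ω : ↥(SUg B) ⧸ H), ∀ x ∈ Xs B u, x • ω = ω) :
    N ≤ H.index := by
  haveI : Finite ↥(SUg B) := finite_SUg B
  haveI : Nontrivial (↥(SUg B) ⧸ H) := nontrivial_quot H hH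
  exact step_geo_core hσ hB hN hF h d μ N T1 hd hd3 (Ω := ↥(SUg B) ⧸ H) hP hNrec hT1 hT2 hμN
    hμ hpos hsub

end Cfsg.Agent.Lib.Helper94_UQStep
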