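import Mathlib
import Cfsg.Agent.Lib.Helper50_UQNumDefs
import Cfsg.Agent.Lib.Helper50_UQHsub
import Cfsg.Agent.Lib.Helper50_UQW4
import Cfsg.Agent.Lib.Helper94_UQStep
import Cfsg.Agent.Lib.Helper91_S2151_PTS
import Cfsg.Agent.Lib.Helper9_S2151_CNT
import Cfsg.Agent.Lib.Helper91_UQ_GAP
import Cfsg.Agent.Lib.Helper84_UQ_NUM

set_option autoImplicit false

/-!
# S2152: the induction over even dimensions (helper50)

`main_even`: for a nondegenerate hermitian space of even dimension `n = 2m ≥ 4` over `F_{q^2}`, `q ≥ 3`, every proper subgroup of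
`SU(V)` has index at least `muE q n` (`= (q+1) q^3` for `n = 4`, `= Npt q n` for `n ≥ 6`).
-/

open Cfsg.Agent.Lib.Helper50_UQAbsDefs Cfsg.Agent.Lib.Helper50_UQNumDefs

namespace Cfsg.Agent.Lib.Helper50_UQInd

open Module Cfsg.Agent.Lib.Helper94_Symp Cfsg.Agent.Lib.Helper94_Herm
  Cfsg.Agent.Lib.Helper13_SUGen Cfsg.Agent.Lib.Helper13_PSUSimple Cfsg.Agent.Lib.Helper14_PSULocal1
  Cfsg.Agent.Lib.Helper27_UQDefs Cfsg.Agent.Lib.Helper94_UQInst

/-- the index bound in even dimension `n` -/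
def muE (q n : ℕ) : ℕ := if n = 4 then (q + 1) * q ^ 3 else Npt q n

universe u

variable {F : Type*} [Field F] {σ : F →+* F}

/-- number of isotropic points in even dimension -/
theorem card_IsoPt_even {V : Type u} [AddCommGroup V] [Module F V] [Finite F]
    [FiniteDimensional F V] (B : V →ₗ[F] V →ₛₗ[σ] F) (hσ : Invol σ) (hB : IsHerm B)
    (hN : NondegOn B ⊤) {q : ℕ} (hF : Nat.card F = q ^ 2) (n : ℕ) (hn : finrank F V = n)
    (hn2 : 2 ≤ n) (hev : Even n) : Nat.card (IsoPt B) = Npt q n := by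
  have hq2 : 2 ≤ q := Cfsg.Agent.Lib.Helper94_UQStep.two_le_q hF
  have h1 := (Cfsg.Agent.Lib.Helper9_S2151_CNT.CNT B hσ hB hN hF n hn (by omega)).1
  rw [if_pos hev, if_pos hev] at h1
  have h2 := Cfsg.Agent.Lib.Helper91_S2151_PTS.PTS B hF
  obtain ⟨n1, -⟩ := Cfsg.Agent.Lib.Helper84_UQ_NUM.NUM q n hq2 hn2 hev
  -- (q^2-1) * card = (q^n - 1)(q^(n-1)+1)
  have hpos : 0 < q ^ 2 - 1 := by
    have : 4 ≤ q ^ 2 := by nlinarith
    omega
  have hA : 1 ≤ q ^ n := Nat.one_le_pow _ _ (by omega)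
  have hB' : q ^ n = q ^ (n - 1) * q := by
    rw [← pow_succ]
    congr 1
    omega
  have hC : q ^ (2 * n - 1) = q ^ n * q ^ (n - 1) := by
    rw [← pow_add]
    congr 1
    omega
  have key : (q ^ 2 - 1) * Nat.card (IsoPt B) = (q ^ n - 1) * (q ^ (n - 1) + 1) := by
    have e1 : (q ^ n - 1) * (q ^ (n - 1) + 1) + q ^ (n - 1) + 1 = q ^ (2 * n - 1) + q ^ n := by
      rw [hC]
      have : (q ^ n - 1) * (q ^ (n - 1) + 1) + (q ^ (n - 1) + 1) = q ^ n * (q ^ (n - 1) + 1) := by
        have : q ^ n = (q ^ n - 1) + 1 := by omega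
        nlinarith
      nlinarith
    omega
  have : (q ^ 2 - 1) * Nat.card (IsoPt B) = (q ^ 2 - 1) * Npt q n := by
    rw [key, mul_comm (q ^ 2 - 1) (Npt q n), n1]
  exact Nat.eq_of_mul_eq_mul_left hpos this

/-- `q` is a prime power -/
theorem exists_prime_pow [Finite F] {q : ℕ} (hF : Nat.card F = q ^ 2) :
    ∃ p e : ℕ, p.Prime ∧ 1 ≤ e ∧ q = p ^ e := by
  have _ : Fintype F := Fintype.ofFinite F
  have hq2 : 2 ≤ q := Cfsg.Agent.Lib.Helper94_UQStep.two_le_q hF
  obtain ⟨p, hp⟩ := CharP.exists F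
  obtain ⟨n, hpp, hcard⟩ := FiniteField.card F p
  rw [← Nat.card_eq_fintype_card, hF] at hcard
  have hdvd : q ∣ p ^ (n : ℕ) := by
    rw [← hcard]
    exact dvd_pow_self q two_ne_zero
  obtain ⟨e, -, he⟩ := (Nat.dvd_prime_pow hpp).mp hdvd
  refine ⟨p, e, hpp, ?_, he⟩
  rcases Nat.eq_zero_or_pos e with h0 | h0
  · rw [h0, pow_zero] at he
    omega
  · exact h0

/-- **Main theorem** (even dimension, `q ≥ 3`). -/
theorem main_even [Finite F] (hσ : Invol σ) {q : ℕ} (hF : Nat.card F = q ^ 2) (hq3 : 3 ≤ q) :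
    ∀ m : ℕ, 2 ≤ m → ∀ (V : Type u) [AddCommGroup V] [Module F V] [FiniteDimensional F V]
      (B : V →ₗ[F] V →ₛₗ[σ] F), IsHerm B → NondegOn B ⊤ → finrank F V = 2 * m →
      ∀ H : Subgroup ↥(SUg B), H ≠ ⊤ → muE q (2 * m) ≤ H.index := by
  have hq2 : 2 ≤ q := by omega
  intro m
  induction m using Nat.strong_induction_on with
  | _ m ih =>
    intro hm V _ _ _ B hB hN hfr
    by_cases hm2 : m = 2
    · subst hm2
      have : muE q (2 * 2) = (q + 1) * q ^ 3 := by simp [muE]
      rw [this]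
      exact Cfsg.Agent.Lib.Helper50_UQW4.W4 hσ hB hN hF hq3 (by omega)
    · have hm3 : 3 ≤ m := by omega
      obtain ⟨v, v', h⟩ := Cfsg.Agent.Lib.Helper9_S2151_CNT.exists_hypPair B hσ hB hN (by omega)
      set d := 2 * (m - 1) with hd
      have hdn : 2 * m = d + 2 := by omega
      have hd4 : 4 ≤ d := by omega
      have hdev : Even d := ⟨m - 1, by omega⟩
      have hfW : finrank F ↥(Wsub B v v') = d := by
        have := Cfsg.Agent.Lib.Helper27_UQ_CARD.finrank_Wsub h
        omega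
      have hWnd : NondegOn B (Wsub B v v') := by
        rw [Wsub_eq_Wp]; exact nondegOn_Wp hB hN h
      -- induction hypothesis on W
      have ihW := ih (m - 1) (by omega) (by omega) ↥(Wsub B v v')
        (Cfsg.Agent.Lib.Helper27_UQ_KISO.Bw B (Wsub B v v'))
        (Cfsg.Agent.Lib.Helper27_UQ_KISO.isHerm_Bw hB _)
        (Cfsg.Agent.Lib.Helper27_UQ_KISO.nondeg_Bw hWnd) (by rw [hfW])
      have hμ := Cfsg.Agent.Lib.Helper94_UQStep.kv_bound_of_ih hσ hB h (muE q (2 * (m - 1))) ihW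
      rw [← hd] at hμ
      obtain ⟨n1, n2, n3, n4, n5, n6, n7, n8, n9, n10, n11, n12, n13⟩ :=
        Cfsg.Agent.Lib.Helper84_UQ_NUM.NUM q d hq2 (by omega) hdev
      have hP : Nat.card (IsoPt B) = Npt q (d + 2) := by
        rw [← hdn]
        exact card_IsoPt_even B hσ hB hN hF (2 * m) hfr (by omega) ⟨m, by ring⟩
      have hT1 : 0 < q ^ 2 * Npt q d := by positivity
      have hmuN : Npt q (d + 2) ≤ muE q d * q ^ (d + 1) := by
        by_cases hd4' : d = 4
        · rw [hd4']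
          have : muE q 4 = (q + 1) * q ^ 3 := by simp [muE]
          rw [this]
          exact n6
        · have : muE q d = Npt q d := by simp [muE, hd4']
          rw [this]
          exact n5 (by omega)
      -- hsub
      have hsub : ∀ J : AddSubgroup ↥(Wsub B v v'), J ≠ ⊤ →
          q ^ 2 * Npt q d ≤ J.index * Nat.card {S : Set ↥(Wsub B v v') //
            ∃ k ∈ (udat hσ hB h).K, S = (udat hσ hB h).ρ k '' (J : Set ↥(Wsub B v v'))} := by
        by_cases hd4' : d = 4
        · have hmu4 : muE q d = (q + 1) * q ^ 3 := by simp [muE, hd4']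
          obtain ⟨p, e, hp, he, hqp⟩ := exists_prime_pow hF
          have hgap := Cfsg.Agent.Lib.Helper91_UQ_GAP.GAP p e q hp he hqp
          refine Cfsg.Agent.Lib.Helper50_UQHsub.hsub_even_udat hσ hB hN hF hq3 h d hfW hd4 hdev
            (muE q d) (q ^ 3) hμ ?_ ?_
          · rw [hmu4, hd4']
            exact n13
          · intro a ha1 ha2 ha3
            rw [hd4'] at ha3 ⊢
            exact hgap a ha1 ha2 ha3
        · have hmu : muE q d = Npt q d := by simp [muE, hd4']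
          refine Cfsg.Agent.Lib.Helper50_UQHsub.hsub_even_udat hσ hB hN hF hq3 h d hfW hd4 hdev
            (muE q d) (q ^ 2) hμ ?_ ?_
          · rw [hmu]
          · intro a ha1 ha2
            omega
      have key := Cfsg.Agent.Lib.Helper94_UQStep.step_geo_main_index hσ hB hN hF hq3 h d (muE q d)
        (Npt q (d + 2)) (q ^ 2 * Npt q d) (by rw [hfr, hdn]) hd4 hP n2 hT1 n3 hmuN hμ hsub
      have hmuE : muE q (2 * m) = Npt q (d + 2) := by
        have h4 : 2 * m ≠ 4 := by omega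
        unfold muE
        rw [if_neg h4, hdn]
      rw [hmuE]
      exact key

end Cfsg.Agent.Lib.Helper50_UQInd
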