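import Mathlib
import Cfsg.Agent.Lib.Helper27_UQ_TOR2

set_option autoImplicit false
set_option linter.unusedSectionVars false
set_option linter.unusedVariables false

/-!
# Field-theoretic tail of UQ-TOR2EVEN (helper50)

Characteristic 2: `Λ ≤ Fˣ` consisting of `σ`-fixed elements and acting on a proper additive group `Y` of skew elements
through the norm `u σ u = u^2`.  Then `(q + 1) |Y| ≤ [Fˣ : Λ]`.
-/

open Module Cfsg.Agent.Lib.Helper94_Herm Cfsg.Agent.Lib.Helper27_UQ_TOR2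

namespace Cfsg.Agent.Lib.Helper50_UQTor2F

variable {F : Type*} [Field F] {σ : F →+* F}

theorem arith_aux2 {x Q r j k m : ℕ} (hr : 2 ≤ r) (hjk : j < k) (hm : m ≤ r - 1)
    (hx : Q * (r ^ k - 1) = x * m) : Q * r ^ j ≤ x := by
  obtain ⟨s, rfl⟩ : ∃ s, r = s + 1 := ⟨r - 1, by omega⟩
  have hs : 0 < s := by omega
  have h5 : s + 1 - 1 = s := by omega
  rw [h5] at hm
  have h1 : (s + 1) ^ (j + 1) ≤ (s + 1) ^ k := Nat.pow_le_pow_right (by omega) (by omega)
  have h2 : (s + 1) ^ (j + 1) = (s + 1) ^ j * s + (s + 1) ^ j := by ring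
  have h3 : 1 ≤ (s + 1) ^ j := Nat.one_le_pow _ _ (by omega)
  have h4 : (s + 1) ^ j * s ≤ (s + 1) ^ k - 1 := by omega
  have h6 : Q * (s + 1) ^ j * s ≤ x * s := by
    calc Q * (s + 1) ^ j * s = Q * ((s + 1) ^ j * s) := by ring
      _ ≤ Q * ((s + 1) ^ k - 1) := Nat.mul_le_mul_left _ h4
      _ = x * m := hx
      _ ≤ x * s := Nat.mul_le_mul_left _ hm
  exact Nat.le_of_mul_le_mul_right h6 hs

theorem even_of_two_eq_zero [Finite F] {q : ℕ} (hF : Nat.card F = q ^ 2) (h2 : (2 : F) = 0) :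
    Even q := by
  have : CharP F 2 := CharTwo.of_one_ne_zero_of_two_eq_zero one_ne_zero h2
  have h1 : addOrderOf (1 : F) = 2 := CharP.eq F (CharP.addOrderOf_one F) inferInstance
  have h3 : 2 ∣ Nat.card F := h1 ▸ addOrderOf_dvd_natCard (1 : F)
  rw [hF] at h3
  exact even_iff_two_dvd.mpr (Nat.Prime.dvd_of_dvd_pow Nat.prime_two h3)

/-- **Torus inequality, even characteristic, field form.** -/
theorem tor2even_field [Finite F] (hσ : Invol σ) {q : ℕ} (hF : Nat.card F = q ^ 2)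
    (h2 : (2 : F) = 0)
    (Y : AddSubgroup F) (hY : ∀ c ∈ Y, σ c = -c)
    (hYne : ∃ c : F, σ c = -c ∧ c ∉ Y) (Λ : Subgroup Fˣ)
    (hfix : ∀ u ∈ Λ, σ (u : F) = (u : F))
    (hΛ : ∀ u ∈ Λ, ∀ c ∈ Y, (u : F) * σ (u : F) * c ∈ Y) :
    (q + 1) * Nat.card ↥Y ≤ Λ.index := by
  classical
  set R := multField σ Y with hR
  set r := Nat.card ↥R with hr
  have hr2 : 2 ≤ r := Finite.one_lt_card
  have hcY : Nat.card ↥Y = r ^ finrank ↥R ↥(YsubM σ Y) := by
    have := Module.natCard_eq_pow_finrank (K := ↥R) (V := ↥(YsubM σ Y))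
    rw [← this]
    rfl
  have hcS : q = r ^ finrank ↥R ↥(SsubM σ Y) := by
    have := Module.natCard_eq_pow_finrank (K := ↥R) (V := ↥(SsubM σ Y))
    rw [← this, ← Cfsg.Agent.Lib.Helper95_UQ_FLD.card_skew hσ hF]
    rfl
  have hlt : YsubM σ Y < SsubM σ Y := by
    refine lt_of_le_of_ne (fun c hc => hY c hc) ?_
    intro heq
    obtain ⟨c, hc1, hc2⟩ := hYne
    apply hc2
    have : c ∈ SsubM σ Y := hc1
    rw [← heq] at this
    exact this
  have hjk : finrank ↥R ↥(YsubM σ Y) < finrank ↥R ↥(SsubM σ Y) :=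
    Submodule.finrank_lt_finrank_of_lt hlt
  -- `q` is even, `|Fˣ| = q^2 - 1` is odd
  have hqe : Even q := even_of_two_eq_zero hF h2
  have hq1 : 1 ≤ q := by
    rcases Nat.eq_zero_or_pos q with h0 | h0
    · exfalso
      rw [h0] at hF
      have : 0 < Nat.card F := Nat.card_pos
      simp at hF
      omega
    · exact h0
  have hcU : Nat.card Fˣ = q ^ 2 - 1 := by
    rw [Nat.card_units, hF]
  have hcU' : Nat.card Fˣ = (q + 1) * (q - 1) := by
    rw [hcU]
    obtain ⟨t, rfl⟩ : ∃ t, q = t + 1 := ⟨q - 1, by omega⟩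
    have : (t + 1) ^ 2 = (t + 1 + 1) * t + 1 := by ring
    rw [this]
    simp
  have hodd : Odd (Nat.card Fˣ) := by
    rw [hcU']
    obtain ⟨t, ht⟩ := hqe
    apply Odd.mul
    · exact ⟨t, by omega⟩
    · exact ⟨t - 1, by omega⟩
  have hoddΛ : Odd (Nat.card ↥Λ) := by
    have hdvd : Nat.card ↥Λ ∣ Nat.card Fˣ := Subgroup.card_subgroup_dvd_card Λ
    exact Odd.of_dvd_nat hodd hdvd
  have hcop : (Nat.card ↥Λ).Coprime 2 := Nat.coprime_two_right.mpr hoddΛ
  -- every element of `Λ` is a multiplier of `Y`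
  have hmem : ∀ u ∈ Λ, (u : F) ∈ R := by
    intro u hu
    obtain ⟨w, hw⟩ := (powCoprime hcop).surjective ⟨u, hu⟩
    have hw' : ((w : Fˣ) : F) ^ 2 = (u : F) := by
      have := congrArg (fun z : ↥Λ => ((z : Fˣ) : F)) hw
      simpa using this
    refine ⟨hfix u hu, fun c hc => ?_⟩
    have := hΛ w w.2 c hc
    rw [hfix w w.2, ← pow_two, hw'] at this
    exact this
  have hm : Nat.card ↥Λ ≤ r - 1 := by
    let f : ↥Λ → {t : ↥R // t ≠ 0} := fun w =>
      ⟨⟨((w : Fˣ) : F), hmem w w.2⟩, by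
        intro h0
        have := congrArg Subtype.val h0
        exact (w : Fˣ).ne_zero this⟩
    have hf : Function.Injective f := by
      intro w w' hww
      apply Subtype.ext
      apply Units.ext
      exact congrArg (fun t : {t : ↥R // t ≠ 0} => ((t : ↥R) : F)) hww
    have h1 := Nat.card_le_card_of_injective f hf
    have h2' : Nat.card {t : ↥R // t ≠ 0} + 1 = r := by
      rw [← Finite.card_option, Nat.card_congr (Equiv.optionSubtypeNe (0 : ↥R))]
    omega
  have hidx : (q + 1) * (r ^ finrank ↥R ↥(SsubM σ Y) - 1) = Λ.index * Nat.card ↥Λ := by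
    rw [← hcS, ← hcU', mul_comm]
    exact (Subgroup.card_mul_index Λ).symm
  rw [hcY]
  exact arith_aux2 hr2 hjk hm hidx

end Cfsg.Agent.Lib.Helper50_UQTor2F
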