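import Mathlib
import Cfsg.Prelude.Def_Solvable
import Cfsg.Prelude.Def_Transfer
import Cfsg.Agent.Lib.Helper51_CMDefs

/-!
S3905 market (architect helper51), package CM-DT-EXP: if a Sylow `p`-subgroup has exponent `p`, `V` is a normal
`p`-subgroup, `v ∈ V` and `m ^ p = 1`, then `(v * m) ^ p = 1`.  (Self-contained: the needed instance of CM-SYLEXP is
proven locally.)
-/

set_option autoImplicit false
open Cfsg Cfsg.Agent.Lib.Helper51_CMDefs

namespace Cfsg.Agent.Lib.Helper54_CM_DTEXP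

variable {G Γ : Type*} [Group G] [Group Γ] {ρ : G →* MulAut Γ}

/-- CM-SYLEXP (local copy): if a Sylow `p`-subgroup has exponent `p`, every `p`-subgroup has. -/
theorem sylow_exp_aux [Finite Γ] {p : ℕ} [Fact p.Prime] (P : Sylow p Γ)
    (hexp : ∀ x ∈ (P : Subgroup Γ), x ^ p = 1) (H : Subgroup Γ) (hH : IsPGroup p H) :
    ∀ x ∈ H, x ^ p = 1 := by
  intro x hx
  obtain ⟨P', hP'⟩ := hH.exists_le_sylow
  obtain ⟨g, hg⟩ := MulAction.exists_smul_eq Γ P P'
  have hx' : x ∈ ((g • P : Sylow p Γ) : Subgroup Γ) := by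
    rw [hg]
    exact hP' hx
  rw [Sylow.coe_subgroup_smul, Subgroup.mem_pointwise_smul_iff_inv_smul_mem] at hx'
  have hx'' : g⁻¹ * x * g ∈ (P : Subgroup Γ) := by
    have e : (MulAut.conj g)⁻¹ • x = g⁻¹ * x * g := by
      rw [← map_inv, MulAut.smul_def, MulAut.conj_apply, inv_inv]
    rwa [e] at hx'
  have h1 := hexp _ hx''
  have h2 : (g⁻¹ * x * g) ^ p = g⁻¹ * x ^ p * g := by
    have := conj_pow (a := g⁻¹) (b := x) (i := p)
    rw [inv_inv] at this
    exact this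
  rw [h2] at h1
  have h3 : x ^ p = g * (g⁻¹ * x ^ p * g) * g⁻¹ := by group
  rw [h3, h1]
  group

/-- CM-DT-EXP. -/
theorem mul_pow_eq_one [Finite Γ] {p : ℕ} [Fact p.Prime] (P : Sylow p Γ)
    (hexp : ∀ x ∈ (P : Subgroup Γ), x ^ p = 1) (V : Subgroup Γ) [V.Normal] (hV : IsPGroup p V)
    (m : Γ) (hm : m ^ p = 1) (v : Γ) (hv : v ∈ V) : (v * m) ^ p = 1 := by
  have hZ : IsPGroup p (Subgroup.zpowers m) := by
    rw [IsPGroup.iff_orderOf]
    rintro ⟨y, hy⟩
    have hmo : orderOf m ∣ p ^ 1 := by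
      rw [pow_one]
      exact orderOf_dvd_of_pow_eq_one hm
    obtain ⟨k, _, hk⟩ := (Nat.dvd_prime_pow (Fact.out : p.Prime)).1 hmo
    have hy' : orderOf y ∣ orderOf m := orderOf_dvd_of_mem_zpowers hy
    rw [hk] at hy'
    obtain ⟨k', _, hk'⟩ := (Nat.dvd_prime_pow (Fact.out : p.Prime)).1 hy'
    refine ⟨k', ?_⟩
    rw [Subgroup.orderOf_mk]
    exact hk'
  have hK : IsPGroup p (V ⊔ Subgroup.zpowers m : Subgroup Γ) :=
    IsPGroup.to_sup_of_normal_left hV hZ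
  apply sylow_exp_aux P hexp _ hK
  exact Subgroup.mul_mem _ (Subgroup.mem_sup_left hv) (Subgroup.mem_sup_right (Subgroup.mem_zpowers m))

end Cfsg.Agent.Lib.Helper54_CM_DTEXP
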