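import Mathlib
import Cfsg.Prelude.Def_Solvable
import Cfsg.Prelude.Def_Transfer
import Cfsg.Agent.Lib.Helper51_CMDefs

set_option autoImplicit false

open Cfsg Cfsg.Agent.Lib.Helper51_CMDefs

namespace Cfsg.Agent.Lib.Helper57_CM_G1aux

variable {G Γ : Type*} [Group G] [Group Γ] {ρ : G →* MulAut Γ}

/-- `A` is abelian. -/
theorem commA {A B : Subgroup Γ} (hF : FrobData ρ A B) {a b : Γ} (ha : a ∈ A) (hb : b ∈ A) :
    a * b = b * a := by
  by_cases ha1 : a = 1
  · rw [ha1]; simp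
  · have : b ∈ Cn a := by rw [hF.cnA a ha ha1]; exact hb
    exact (mem_Cn.mp this).symm

/-- the `p`-torsion of `A`. -/
def tors {A B : Subgroup Γ} (hF : FrobData ρ A B) (p : ℕ) : Subgroup Γ where
  carrier := {a | a ∈ A ∧ a ^ p = 1}
  mul_mem' := by
    rintro a b ⟨ha, hap⟩ ⟨hb, hbp⟩
    refine ⟨A.mul_mem ha hb, ?_⟩
    have hc : Commute a b := commA hF ha hb
    rw [hc.mul_pow, hap, hbp, one_mul]
  one_mem' := ⟨A.one_mem, one_pow p⟩
  inv_mem' := by
    rintro a ⟨ha, hap⟩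
    exact ⟨A.inv_mem ha, by rw [inv_pow, hap, inv_one]⟩

theorem mem_tors {A B : Subgroup Γ} (hF : FrobData ρ A B) (p : ℕ) {a : Γ} :
    a ∈ tors hF p ↔ a ∈ A ∧ a ^ p = 1 := Iff.rfl

theorem tors_normal {A B : Subgroup Γ} (hF : FrobData ρ A B) (p : ℕ) : (tors hF p).Normal := by
  have := hF.normalA
  constructor
  rintro a ⟨ha, hap⟩ n
  refine ⟨hF.normalA.conj_mem a ha n, ?_⟩
  rw [conj_pow, hap]; group

/-- ===== CM-G1 : the kernel has prime exponent. -/
theorem kernel_exponent_aux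
    (no_between : ∀ {x : Γ}, x ≠ 1 → ∀ {T : Subgroup Γ}, Cn x ≤ T → Inv ρ x T → T = Cn x ∨ T = ⊤)
    [Finite Γ] {A B : Subgroup Γ} (hF : FrobData ρ A B) :
    ∃ p : ℕ, p.Prime ∧ ∀ a ∈ A, a ^ p = 1 := by
  classical
  -- a prime dividing |A| and an element of that order
  have hA1 : Nat.card A ≠ 1 := by
    intro h1
    exact hF.neA (Subgroup.card_eq_one.mp h1)
  obtain ⟨p, hp, hpd⟩ := Nat.exists_prime_and_dvd hA1
  have : Fact p.Prime := ⟨hp⟩
  obtain ⟨a0', ha0'⟩ := exists_prime_orderOf_dvd_card' (G := ↥A) p hpd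
  set a0 : Γ := (a0' : Γ) with ha0def
  have ha0A : a0 ∈ A := a0'.2
  have ha0o : orderOf a0 = p := by rw [ha0def, Subgroup.orderOf_coe]; exact ha0'
  have ha0p : a0 ^ p = 1 := by rw [← ha0o]; exact pow_orderOf_eq_one a0
  have ha01 : a0 ≠ 1 := by
    intro h1
    rw [h1, orderOf_one] at ha0o
    exact hp.one_lt.ne ha0o
  refine ⟨p, hp, ?_⟩
  -- a non-identity element of B
  obtain ⟨b, hbB, hb1⟩ : ∃ b ∈ B, b ≠ 1 := by
    by_contra hcon
    push Not at hcon
    apply hF.neB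
    rw [Subgroup.eq_bot_iff_forall]
    exact hcon
  have hCnb : Cn b = B := hF.cnB b hbB hb1
  have := tors_normal hF p
  set T : Subgroup Γ := tors hF p ⊔ B with hT
  have hBT : Cn b ≤ T := by rw [hCnb]; exact le_sup_right
  have hinv : Inv ρ b T := by
    intro g hg t ht
    have hmap : T.map (ρ g).toMonoidHom ≤ T := by
      rw [hT, Subgroup.map_sup]
      apply sup_le_sup
      · rintro _ ⟨a, ⟨haA, hap⟩, rfl⟩
        refine ⟨hF.stabA g a haA, ?_⟩
        show (ρ g a) ^ p = 1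
        rw [← map_pow, hap, map_one]
      · rintro _ ⟨c, hc, rfl⟩
        have hc' : c ∈ Cn b := by rw [hCnb]; exact hc
        have := inv_Cn ρ b g hg c hc'
        rw [hCnb] at this
        exact this
    exact hmap ⟨t, ht, rfl⟩
  rcases no_between hb1 hBT hinv with hcase | hcase
  · -- T = B: impossible
    exfalso
    apply ha01
    have h1 : a0 ∈ T := by
      rw [hT]; exact (le_sup_left : tors hF p ≤ _) ⟨ha0A, ha0p⟩
    rw [hcase, hCnb] at h1
    have h2 : a0 ∈ A ⊓ B := ⟨ha0A, h1⟩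
    rw [hF.inf] at h2
    exact Subgroup.mem_bot.mp h2
  · -- T = ⊤
    intro a haA
    have h1 : a ∈ T := by rw [hcase]; exact Subgroup.mem_top a
    have h2 : a ∈ ((tors hF p ⊔ B : Subgroup Γ) : Set Γ) := h1
    rw [Subgroup.normal_mul] at h2
    obtain ⟨x, hx, y, hy, hxy⟩ := Set.mem_mul.mp h2
    have hyA : y ∈ A := by
      have : y = x⁻¹ * a := by rw [← hxy]; group
      rw [this]
      exact A.mul_mem (A.inv_mem hx.1) haA
    have hy1 : y = 1 := by
      have : y ∈ A ⊓ B := ⟨hyA, hy⟩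
      rw [hF.inf] at this
      exact Subgroup.mem_bot.mp this
    rw [hy1, mul_one] at hxy
    rw [← hxy]
    exact hx.2

end Cfsg.Agent.Lib.Helper57_CM_G1aux
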