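import Mathlib
import Cfsg.Prelude.Def_Solvable
import Cfsg.Prelude.Def_Transfer
import Cfsg.Agent.Lib.Helper51_CMDefs

set_option autoImplicit false

open Cfsg Cfsg.Agent.Lib.Helper51_CMDefs

namespace Cfsg.Agent.Lib.Helper57_CM_G2aux

variable {G Γ : Type*} [Group G] [Group Γ] {ρ : G →* MulAut Γ}

/-- `B` is abelian. -/
theorem commB {A B : Subgroup Γ} (hF : FrobData ρ A B) {a b : Γ} (ha : a ∈ B) (hb : b ∈ B) :
    a * b = b * a := by
  by_cases ha1 : a = 1
  · rw [ha1]; simp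
  · have : b ∈ Cn a := by rw [hF.cnB a ha ha1]; exact hb
    exact (mem_Cn.mp this).symm

/-- the `q`-torsion of `B`. -/
def torsB {A B : Subgroup Γ} (hF : FrobData ρ A B) (q : ℕ) : Subgroup Γ where
  carrier := {b | b ∈ B ∧ b ^ q = 1}
  mul_mem' := by
    rintro a b ⟨ha, hap⟩ ⟨hb, hbp⟩
    refine ⟨B.mul_mem ha hb, ?_⟩
    have hc : Commute a b := commB hF ha hb
    rw [hc.mul_pow, hap, hbp, one_mul]
  one_mem' := ⟨B.one_mem, one_pow q⟩
  inv_mem' := by
    rintro a ⟨ha, hap⟩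
    exact ⟨B.inv_mem ha, by rw [inv_pow, hap, inv_one]⟩

/-- `Γ = A B`. -/
theorem exists_decomp [Finite Γ] {A B : Subgroup Γ} (hF : FrobData ρ A B) (x : Γ) :
    ∃ a ∈ A, ∃ b ∈ B, x = a * b := by
  have hc : Subgroup.IsComplement' A B :=
    Subgroup.isComplement'_of_card_mul_and_disjoint hF.card (disjoint_iff.mpr hF.inf)
  obtain ⟨⟨a, b⟩, hab⟩ := hc.2 x
  exact ⟨a.1, a.2, b.1, b.2, hab.symm⟩

/-- powers of `a b` modulo the normal subgroup `A`. -/
theorem pow_mul_mem {A : Subgroup Γ} (hA : A.Normal) {a : Γ} (ha : a ∈ A) (b : Γ) (k : ℕ) :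
    ∃ a' ∈ A, (a * b) ^ k = a' * b ^ k := by
  induction k with
  | zero => exact ⟨1, A.one_mem, by simp⟩
  | succ k ih =>
    obtain ⟨a', ha', he⟩ := ih
    refine ⟨a' * (b ^ k * a * (b ^ k)⁻¹), A.mul_mem ha' (hA.conj_mem a ha (b ^ k)), ?_⟩
    rw [pow_succ, he, pow_succ]; group

/-- ===== CM-G2 : the complement has prime exponent. -/
theorem complement_exponent_aux
    (no_between : ∀ {x : Γ}, x ≠ 1 → ∀ {T : Subgroup Γ}, Cn x ≤ T → Inv ρ x T → T = Cn x ∨ T = ⊤)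
    [Finite Γ] {A B : Subgroup Γ} (hF : FrobData ρ A B) :
    ∃ q : ℕ, q.Prime ∧ ∀ b ∈ B, b ^ q = 1 := by
  classical
  have hB1 : Nat.card B ≠ 1 := by
    intro h1
    exact hF.neB (Subgroup.card_eq_one.mp h1)
  obtain ⟨q, hq, hqd⟩ := Nat.exists_prime_and_dvd hB1
  have : Fact q.Prime := ⟨hq⟩
  obtain ⟨b0', hb0'⟩ := exists_prime_orderOf_dvd_card' (G := ↥B) q hqd
  set b0 : Γ := (b0' : Γ) with hb0def
  have hb0B : b0 ∈ B := b0'.2
  have hb0o : orderOf b0 = q := by rw [hb0def, Subgroup.orderOf_coe]; exact hb0'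
  have hb0q : b0 ^ q = 1 := by rw [← hb0o]; exact pow_orderOf_eq_one b0
  have hb01 : b0 ≠ 1 := by
    intro h1
    rw [h1, orderOf_one] at hb0o
    exact hq.one_lt.ne hb0o
  refine ⟨q, hq, ?_⟩
  obtain ⟨a, haA, ha1⟩ : ∃ a ∈ A, a ≠ 1 := by
    by_contra hcon
    push Not at hcon
    apply hF.neA
    rw [Subgroup.eq_bot_iff_forall]
    exact hcon
  have hCna : Cn a = A := hF.cnA a haA ha1
  have hAn := hF.normalA
  set T : Subgroup Γ := A ⊔ torsB hF q with hT
  have hAT : Cn a ≤ T := by rw [hCna]; exact le_sup_left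
  have hmemT : ∀ n : Γ, n ∈ T ↔ ∃ a' ∈ A, ∃ b' ∈ torsB hF q, a' * b' = n := by
    intro n
    have : n ∈ T ↔ n ∈ ((A ⊔ torsB hF q : Subgroup Γ) : Set Γ) := Iff.rfl
    rw [this, Subgroup.normal_mul, Set.mem_mul]
    rfl
  have hinv : Inv ρ a T := by
    intro g hg t ht
    obtain ⟨a', ha', b', hb', rfl⟩ := (hmemT t).mp ht
    rw [map_mul]
    apply T.mul_mem
    · exact (le_sup_left : A ≤ T) (hF.stabA g a' ha')
    · -- c := ρ g b' has c ^ q = 1
      set c := ρ g b' with hc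
      have hcq : c ^ q = 1 := by rw [hc, ← map_pow, hb'.2, map_one]
      obtain ⟨a'', ha'', b'', hb'', hdec⟩ := exists_decomp hF c
      obtain ⟨a3, ha3, hpow⟩ := pow_mul_mem hAn ha'' b'' q
      rw [← hdec, hcq] at hpow
      have hbq : b'' ^ q = 1 := by
        have hmem : b'' ^ q ∈ A ⊓ B := by
          refine ⟨?_, B.pow_mem hb'' q⟩
          have : b'' ^ q = a3⁻¹ := by
            have h1 : a3⁻¹ * 1 = a3⁻¹ * (a3 * b'' ^ q) := by rw [← hpow]
            rw [mul_one, ← mul_assoc, inv_mul_cancel, one_mul] at h1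
            exact h1.symm
          rw [this]; exact A.inv_mem ha3
        rw [hF.inf] at hmem
        exact Subgroup.mem_bot.mp hmem
      rw [hmemT]
      exact ⟨a'', ha'', b'', ⟨hb'', hbq⟩, hdec.symm⟩
  rcases no_between ha1 hAT hinv with hcase | hcase
  · exfalso
    apply hb01
    have h1 : b0 ∈ T := by
      rw [hT]; exact (le_sup_right : torsB hF q ≤ _) ⟨hb0B, hb0q⟩
    rw [hcase, hCna] at h1
    have h2 : b0 ∈ A ⊓ B := ⟨h1, hb0B⟩
    rw [hF.inf] at h2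
    exact Subgroup.mem_bot.mp h2
  · intro b hbB
    have h1 : b ∈ T := by rw [hcase]; exact Subgroup.mem_top b
    obtain ⟨a', ha', b', hb', hab⟩ := (hmemT b).mp h1
    have ha'B : a' ∈ B := by
      have : a' = b * b'⁻¹ := by rw [← hab]; group
      rw [this]; exact B.mul_mem hbB (B.inv_mem hb'.1)
    have ha'1 : a' = 1 := by
      have : a' ∈ A ⊓ B := ⟨ha', ha'B⟩
      rw [hF.inf] at this
      exact Subgroup.mem_bot.mp this
    rw [ha'1, one_mul] at hab
    rw [← hab]; exact hb'.2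

end Cfsg.Agent.Lib.Helper57_CM_G2aux
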