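import Mathlib
import Cfsg.Prelude.Def_Solvable
import Cfsg.Prelude.Def_Transfer
import Cfsg.Agent.Lib.Helper51_CMDefs
import Cfsg.Agent.Lib.Helper71_CM_F2
import Cfsg.Agent.Lib.Helper57_CM_G2aux

set_option autoImplicit false

open Cfsg Cfsg.Agent.Lib.Helper51_CMDefs

namespace Cfsg.Agent.Lib.Helper57_CM_G2

variable {G Γ : Type*} [Group G] [Group Γ] {ρ : G →* MulAut Γ}

/-- ===== CM-G2 (verbatim): wrapper of `complement_exponent_aux` with helper71's CM-F2 `no_between`. -/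
theorem complement_exponent (h : Hyp ρ) [Finite Γ] {A B : Subgroup Γ} (hF : FrobData ρ A B) :
    ∃ q : ℕ, q.Prime ∧ ∀ b ∈ B, b ^ q = 1 :=
  Cfsg.Agent.Lib.Helper57_CM_G2aux.complement_exponent_aux
    (fun hx _ hT hinv => Cfsg.Agent.Lib.Helper71_CM_F2.no_between h hx hT hinv) hF

end Cfsg.Agent.Lib.Helper57_CM_G2
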