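import Mathlib
import Cfsg.Prelude.Def_Solvable
import Cfsg.Prelude.Def_Transfer
import Cfsg.Agent.Lib.Helper51_CMDefs

/-!
# S3905 market (architect helper51): hypothesis-parametrised cores of the packages CM-D1B and CM-D1C

`centP_core` is CM-D1B with the dichotomy CM-C5 (`exponent_of_nonabelian`) as a hypothesis; `not_normal_core` is CM-D1C with
the no-between lemma CM-F2 (`no_between`) and `Hyp.cz` as hypotheses.  Both are pure finite group theory.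
-/

set_option autoImplicit false
open Cfsg Cfsg.Agent.Lib.Helper51_CMDefs

namespace Cfsg.Agent.Lib.Helper61_CM_D1core

variable {G Γ : Type*} [Group G] [Group Γ] {ρ : G →* MulAut Γ}

/-- a cyclic group generated by an element with `u ^ p = 1` is a `p`-group -/
theorem isPGroup_zpowers {p : ℕ} {u : Γ} (hu : u ^ p = 1) : IsPGroup p (Subgroup.zpowers u) := by
  rintro ⟨y, hy⟩
  obtain ⟨k, rfl⟩ := Subgroup.mem_zpowers_iff.1 hy
  refine ⟨1, ?_⟩
  apply Subtype.ext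
  show (u ^ k) ^ (p ^ 1) = 1
  rw [pow_one, ← zpow_natCast, ← zpow_mul, mul_comm, zpow_mul, zpow_natCast, hu, one_zpow]

/-- a subgroup of exponent `p` is a `p`-group -/
theorem isPGroup_of_exp {p : ℕ} {H : Subgroup Γ} (hH : ∀ x ∈ H, x ^ p = 1) : IsPGroup p H := by
  rintro ⟨y, hy⟩
  refine ⟨1, ?_⟩
  apply Subtype.ext
  show y ^ (p ^ 1) = 1
  rw [pow_one, hH y hy]

/-- an element with `u ^ p = 1` is conjugate into every Sylow `p`-subgroup -/
theorem exists_conj_mem_sylow [Finite Γ] {p : ℕ} [Fact p.Prime] (P : Sylow p Γ) {u : Γ}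
    (hu : u ^ p = 1) : ∃ g : Γ, g * u * g⁻¹ ∈ (P : Subgroup Γ) := by
  obtain ⟨Q, hQ⟩ := (isPGroup_zpowers hu).exists_le_sylow
  obtain ⟨g, hg⟩ := MulAction.exists_smul_eq Γ Q P
  refine ⟨g, ?_⟩
  rw [← hg, Sylow.smul_def, Sylow.pointwise_smul_def]
  have h1 : u ∈ (Q : Subgroup Γ) := hQ (Subgroup.mem_zpowers u)
  have h2 := Subgroup.smul_mem_pointwise_smul u (MulAut.conj g) (Q : Subgroup Γ) h1
  rwa [MulAut.smul_def, MulAut.conj_apply] at h2

/-- CM-D1B with CM-C5 as a hypothesis. -/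
theorem centP_core [Finite Γ] {p : ℕ} (hp : p.Prime) (P : Sylow p Γ) {z : Γ}
    (hP : (P : Subgroup Γ) = Cn z) (hexp : ∀ c ∈ Cn z, c ^ p = 1)
    (hC5 : ∀ x : Γ, x ≠ 1 → (∃ a ∈ Cn x, ∃ b ∈ Cn x, a * b ≠ b * a) →
      (orderOf x).Prime ∧ ∀ c ∈ Cn x, c ^ orderOf x = 1) : CentP Γ p := by
  have : Fact p.Prime := ⟨hp⟩
  intro u hu1 hup c hcu
  obtain ⟨g, hg⟩ := exists_conj_mem_sylow P hup
  rw [hP] at hg
  have hu'1 : g * u * g⁻¹ ≠ 1 := by
    intro h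
    apply hu1
    have := congrArg (fun y => g⁻¹ * y * g) h
    simpa [mul_assoc] using this
  have hu'p : (g * u * g⁻¹) ^ p = 1 := by
    rw [conj_pow, hup, mul_one, mul_inv_cancel]
  have hc'u' : (g * c * g⁻¹) * (g * u * g⁻¹) = (g * u * g⁻¹) * (g * c * g⁻¹) := by
    calc (g * c * g⁻¹) * (g * u * g⁻¹) = g * (c * u) * g⁻¹ := by group
      _ = g * (u * c) * g⁻¹ := by rw [hcu]
      _ = (g * u * g⁻¹) * (g * c * g⁻¹) := by group
  suffices hs : (g * c * g⁻¹) ^ p = 1 by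
    rw [conj_pow] at hs
    have := congrArg (fun y => g⁻¹ * y * g) hs
    simpa [mul_assoc] using this
  have hzu : z * (g * u * g⁻¹) = (g * u * g⁻¹) * z := (mem_Cn.1 hg).symm
  by_cases hab : ∀ a ∈ Cn (g * u * g⁻¹), ∀ b ∈ Cn (g * u * g⁻¹), a * b = b * a
  · have h1 : g * c * g⁻¹ ∈ Cn (g * u * g⁻¹) := mem_Cn.2 hc'u'
    have h2 : z ∈ Cn (g * u * g⁻¹) := mem_Cn.2 hzu
    exact hexp _ (mem_Cn.2 (hab _ h1 _ h2))
  · push Not at hab
    obtain ⟨a, ha, b, hb, hne⟩ := hab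
    obtain ⟨_, hall⟩ := hC5 _ hu'1 ⟨a, ha, b, hb, hne⟩
    rw [orderOf_eq_prime hu'p hu'1] at hall
    exact hall _ (mem_Cn.2 hc'u')

/-- a normal Sylow `p`-subgroup contains every subgroup of exponent `p` -/
theorem le_of_normal_sylow [Finite Γ] {p : ℕ} [Fact p.Prime] (P : Sylow p Γ)
    (hn : (P : Subgroup Γ).Normal) {H : Subgroup Γ} (hH : ∀ x ∈ H, x ^ p = 1) :
    H ≤ (P : Subgroup Γ) := by
  obtain ⟨Q, hQ⟩ := (isPGroup_of_exp hH).exists_le_sylow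
  obtain ⟨g, hg⟩ := MulAction.exists_smul_eq Γ P Q
  rw [Sylow.smul_eq_of_normal] at hg
  rw [hg]
  exact hQ

/-- CM-D1C with CM-F2 and `Hyp.cz` as hypotheses. -/
theorem not_normal_core [Finite Γ] {p : ℕ} (hp : p.Prime) (P : Sylow p Γ) {z : Γ}
    (hz : z ≠ 1) (hP : (P : Subgroup Γ) = Cn z) (hna : ∃ a ∈ Cn z, ∃ b ∈ Cn z, a * b ≠ b * a)
    (hcent : CentP Γ p)
    (hcz : ∀ n : Γ, (∀ m : Γ, m * n = n * m) → n = 1)
    (hF2 : ∀ x : Γ, x ≠ 1 → ∀ T : Subgroup Γ, Cn x ≤ T → Inv ρ x T → T = Cn x ∨ T = ⊤) :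
    ¬ (P : Subgroup Γ).Normal := by
  have : Fact p.Prime := ⟨hp⟩
  intro hn
  -- `P` has exponent `p`
  have hzP : z ∈ (P : Subgroup Γ) := by rw [hP]; exact self_mem_Cn z
  obtain ⟨k, hk⟩ := (IsPGroup.iff_orderOf.1 P.2) ⟨z, hzP⟩
  rw [Subgroup.orderOf_mk] at hk
  have hk0 : k ≠ 0 := by
    intro h0
    rw [h0, pow_zero, orderOf_eq_one_iff] at hk
    exact hz hk
  obtain ⟨j, rfl⟩ : ∃ j, k = j + 1 := ⟨k - 1, by omega⟩
  have hz'p : (z ^ (p ^ j)) ^ p = 1 := by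
    rw [← pow_mul, ← pow_succ, ← hk, pow_orderOf_eq_one]
  have hz'1 : z ^ (p ^ j) ≠ 1 := by
    intro h1
    have h2 := orderOf_dvd_of_pow_eq_one h1
    rw [hk] at h2
    have h3 := (Nat.pow_dvd_pow_iff_le_right hp.one_lt).1 h2
    omega
  have hexp : ∀ c ∈ Cn z, c ^ p = 1 := by
    intro c hc
    have h1 : Commute c z := mem_Cn.1 hc
    exact hcent _ hz'1 hz'p c (h1.pow_right _)
  obtain ⟨a, ha, b, hb, hab⟩ := hna
  have ha1 : a ≠ 1 := by
    intro h1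
    apply hab
    rw [h1, one_mul, mul_one]
  have hap : a ^ p = 1 := hexp a ha
  have hle : Cn a ≤ (P : Subgroup Γ) :=
    le_of_normal_sylow P hn fun c hc => hcent a ha1 hap c (mem_Cn.1 hc)
  have hinv : Inv ρ a (P : Subgroup Γ) := by
    intro g _ t ht
    have htp : t ^ p = 1 := hexp t (by rw [← hP]; exact ht)
    have h1 : ∀ x ∈ Subgroup.zpowers (ρ g t), x ^ p = 1 := by
      intro x hx
      obtain ⟨i, rfl⟩ := Subgroup.mem_zpowers_iff.1 hx
      rw [← zpow_natCast, ← zpow_mul, mul_comm, zpow_mul, zpow_natCast, ← map_pow, htp, map_one,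
        one_zpow]
    exact le_of_normal_sylow P hn h1 (Subgroup.mem_zpowers _)
  rcases hF2 a ha1 _ hle hinv with h1 | h1
  · apply hab
    have hb' : b ∈ Cn a := by rw [← h1, hP]; exact hb
    exact (mem_Cn.1 hb').symm
  · have hpg : IsPGroup p Γ := by
      intro x
      refine ⟨1, ?_⟩
      rw [pow_one]
      apply hexp
      rw [← hP, h1]
      trivial
    have : Nontrivial Γ := ⟨⟨z, 1, hz⟩⟩
    have hnt := hpg.center_nontrivial
    obtain ⟨⟨n, hn'⟩, hn1⟩ := exists_ne (1 : Subgroup.center Γ)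
    apply hn1
    apply Subtype.ext
    exact hcz n fun m => (Subgroup.mem_center_iff.1 hn' m)

end Cfsg.Agent.Lib.Helper61_CM_D1core
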