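import Mathlib
import Cfsg.Prelude.Def_Solvable
import Cfsg.Prelude.Def_Transfer
import Cfsg.Agent.Lib.Helper51_CMDefs
import Cfsg.Agent.Lib.Helper61_CM_D1core
import Cfsg.Agent.Lib.Helper71_CM_F2

/-!
# S3905 market (architect helper51), package CM-D1C: `not_normal_of_sylow`

Thin wrapper: the argument is `Helper61_CM_D1core.not_normal_core`; the no-between lemma is CM-F2 (helper71).
-/

set_option autoImplicit false
open Cfsg Cfsg.Agent.Lib.Helper51_CMDefs

namespace Cfsg.Agent.Lib.Helper61_CM_D1C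

variable {G Γ : Type*} [Group G] [Group Γ] {ρ : G →* MulAut Γ}

/-- CM-D1C. -/
theorem not_normal_of_sylow (h : Hyp ρ) [Finite Γ] {p : ℕ} (hp : p.Prime) (P : Sylow p Γ) {z : Γ}
    (hz : z ≠ 1) (hP : (P : Subgroup Γ) = Cn z) (hna : ∃ a ∈ Cn z, ∃ b ∈ Cn z, a * b ≠ b * a)
    (hcent : CentP Γ p) : ¬ (P : Subgroup Γ).Normal :=
  Cfsg.Agent.Lib.Helper61_CM_D1core.not_normal_core (ρ := ρ) hp P hz hP hna hcent h.cz
    (fun _ hx _ hT hinv => Cfsg.Agent.Lib.Helper71_CM_F2.no_between h hx hT hinv)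

end Cfsg.Agent.Lib.Helper61_CM_D1C
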