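import Mathlib
import Cfsg.Prelude.Def_Solvable
import Cfsg.Prelude.Def_Transfer
import Cfsg.Agent.Lib.Helper51_CMDefs

/-!
# S3905 market (architect helper51), package CM-D1A with CM-C5 as a hypothesis

A non-abelian centralizer gives a Sylow centralizer: `Cn z₀` non-abelian ⟹ exponent `p` (CM-C5, here the hypothesis `hC5`)
⟹ `p`-group `≤` a Sylow `S`; `1 ≠ z ∈ Z(S)`; `Cn z ≥ S ≥ Cn z₀` non-abelian ⟹ exponent `orderOf z = p` ⟹ a `p`-group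
containing the Sylow `S` ⟹ equal.
-/

set_option autoImplicit false
open Cfsg Cfsg.Agent.Lib.Helper51_CMDefs

namespace Cfsg.Agent.Lib.Helper63_CM_D1Aaux

variable {Γ : Type*} [Group Γ]

/-- a subgroup of exponent `p` is a `p`-group -/
theorem isPGroup_of_exp {p : ℕ} (H : Subgroup Γ) (hexp : ∀ c ∈ H, c ^ p = 1) : IsPGroup p H := by
  intro g
  refine ⟨1, ?_⟩
  apply Subtype.ext
  rw [pow_one, Subgroup.coe_pow, hexp g.1 g.2, Subgroup.coe_one]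

/-- PK CM-D1A with the statement of CM-C5 (`exponent_of_nonabelian`) as a hypothesis. -/
theorem exists_sylow_centralizer_aux [Finite Γ]
    (hC5 : ∀ x : Γ, x ≠ 1 → (∃ a ∈ Cn x, ∃ b ∈ Cn x, a * b ≠ b * a) →
      (orderOf x).Prime ∧ ∀ c ∈ Cn x, c ^ orderOf x = 1)
    (hna : ∃ x : Γ, x ≠ 1 ∧ ∃ a ∈ Cn x, ∃ b ∈ Cn x, a * b ≠ b * a) :
    ∃ p : ℕ, p.Prime ∧ ∃ (P : Sylow p Γ) (z : Γ), z ≠ 1 ∧ (P : Subgroup Γ) = Cn z ∧
      (∃ a ∈ Cn z, ∃ b ∈ Cn z, a * b ≠ b * a) ∧ ∀ c ∈ Cn z, c ^ p = 1 := by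
  obtain ⟨x₀, hx₀, a, ha, b, hb, hab⟩ := hna
  obtain ⟨hp, hexp⟩ := hC5 x₀ hx₀ ⟨a, ha, b, hb, hab⟩
  set p := orderOf x₀ with hpdef
  have : Fact p.Prime := ⟨hp⟩
  have hPG : IsPGroup p (Cn x₀) := isPGroup_of_exp _ hexp
  obtain ⟨S, hS⟩ := hPG.exists_le_sylow
  have hx₀S : x₀ ∈ (S : Subgroup Γ) := hS (self_mem_Cn x₀)
  have hnt : Nontrivial ↥(S : Subgroup Γ) :=
    ⟨⟨⟨x₀, hx₀S⟩, 1, fun e => hx₀ (congrArg Subtype.val e)⟩⟩
  have hcn : Nontrivial ↥(Subgroup.center ↥(S : Subgroup Γ)) := S.2.center_nontrivial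
  obtain ⟨z', hz'⟩ := exists_ne (1 : ↥(Subgroup.center ↥(S : Subgroup Γ)))
  set z : Γ := (z'.1 : ↥(S : Subgroup Γ)).1 with hzdef
  have hz1 : z ≠ 1 := by
    intro e
    apply hz'
    apply Subtype.ext
    apply Subtype.ext
    exact e
  have hzS : z ∈ (S : Subgroup Γ) := (z'.1 : ↥(S : Subgroup Γ)).2
  have hSle : (S : Subgroup Γ) ≤ Cn z := by
    intro s hs
    rw [mem_Cn]
    have h1 := Subgroup.mem_center_iff.mp z'.2 ⟨s, hs⟩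
    exact congrArg Subtype.val h1
  have hna' : ∃ a ∈ Cn z, ∃ b ∈ Cn z, a * b ≠ b * a :=
    ⟨a, hSle (hS ha), b, hSle (hS hb), hab⟩
  obtain ⟨hq, hexpz⟩ := hC5 z hz1 hna'
  have hqp : orderOf z = p := by
    obtain ⟨k, hk⟩ := (IsPGroup.iff_orderOf.mp S.2) ⟨z, hzS⟩
    have h2 : orderOf z = p ^ k := by
      rw [← hk, Subgroup.orderOf_mk]
    have h3 : orderOf z ∣ p := by
      apply hq.dvd_of_dvd_pow (n := k)
      rw [← h2]
    exact (Nat.prime_dvd_prime_iff_eq hq hp).mp h3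
  rw [hqp] at hexpz
  have hPGz : IsPGroup p (Cn z) := isPGroup_of_exp _ hexpz
  have heq : Cn z = (S : Subgroup Γ) := S.is_maximal' hPGz hSle
  exact ⟨p, hp, S, z, hz1, heq.symm, hna', hexpz⟩

end Cfsg.Agent.Lib.Helper63_CM_D1Aaux
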