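import Mathlib
import Cfsg.Prelude.Def_Solvable
import Cfsg.Prelude.Def_Transfer
import Cfsg.Agent.Lib.Helper51_CMDefs

set_option autoImplicit false

/-!
# S3905 package CM-C1 (architect helper51): companions
-/

open Cfsg Cfsg.Agent.Lib.Helper51_CMDefs

namespace Cfsg.Agent.Lib.Helper55_CM_C1

variable {G Γ : Type*} [Group G] [Group Γ] {ρ : G →* MulAut Γ}

/-- `St x ≤ St y`, both coatoms. -/
theorem St_eq_of_mem_Comp (h : Hyp ρ) {x y : Γ} (hx : x ≠ 1) (hy : y ∈ Comp ρ x) (hy1 : y ≠ 1) :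
    St ρ y = St ρ x := by
  have hle : St ρ x ≤ St ρ y := fun g hg => mem_St.mpr (hy g hg)
  rcases (h.max x hx).le_iff.mp hle with htop | heq
  · exact absurd htop (h.max y hy1).1
  · exact heq

/-- `c ∈ Cn x`, `ρ g = conj c` ⟹ `g ∈ St x` ⟹ `g` fixes `y`. -/
theorem Comp_central (h : Hyp ρ) {x y c : Γ} (hy : y ∈ Comp ρ x) (hc : c ∈ Cn x) :
    c * y = y * c := by
  obtain ⟨g, hg⟩ := h.inn c
  have hgx : g ∈ St ρ x := (mem_St_iff_of_conj hg x).mpr hc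
  have := hy g hgx
  rw [hg, MulAut.conj_apply, mul_inv_eq_iff_eq_mul] at this
  exact this

theorem Comp_le_Cn (h : Hyp ρ) {x : Γ} (hx : x ≠ 1) : Comp ρ x ≤ Cn x := by
  intro y hy
  rw [mem_Cn]
  exact (Comp_central h hy (self_mem_Cn x)).symm

/-- `Cn x = {n | ∃ g ∈ St x, ρ g = conj n}`. -/
theorem Cn_eq_of_St_eq (h : Hyp ρ) {x y : Γ} (hxy : St ρ x = St ρ y) : Cn x = Cn y := by
  ext c
  obtain ⟨g, hg⟩ := h.inn c
  rw [← mem_St_iff_of_conj hg x, ← mem_St_iff_of_conj hg y, hxy]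

theorem St_pow (h : Hyp ρ) {x : Γ} {k : ℕ} (hk : x ^ k ≠ 1) : St ρ (x ^ k) = St ρ x := by
  have hx : x ≠ 1 := by
    rintro rfl
    exact hk (one_pow k)
  apply St_eq_of_mem_Comp h hx _ hk
  intro g hg
  rw [map_pow, mem_St.mp hg]

theorem mem_Comp_of_St_eq {x y : Γ} (hxy : St ρ y = St ρ x) : y ∈ Comp ρ x := by
  intro g hg
  rw [← hxy] at hg
  exact mem_St.mp hg

end Cfsg.Agent.Lib.Helper55_CM_C1
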