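import Mathlib
import Cfsg.Prelude.Def_Solvable
import Cfsg.Prelude.Def_Transfer
import Cfsg.Agent.Lib.Helper51_CMDefs
import Cfsg.Agent.Lib.Helper55_CM_C1

/-!
# S3905 market (architect helper51), package CM-C4

Commuting elements `x, y ≠ 1` of `Γ` with different stabilizers have the same prime order.
-/

set_option autoImplicit false
open Cfsg Cfsg.Agent.Lib.Helper51_CMDefs

namespace Cfsg.Agent.Lib.Helper86_CM_C4

variable {G Γ : Type*} [Group G] [Group Γ] {ρ : G →* MulAut Γ}

open Cfsg.Agent.Lib.Helper55_CM_C1 in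
/-- Step 1: `x ^ k ≠ 1 → y ^ k ≠ 1`. -/
theorem pow_ne_one_of_commute (h : Hyp ρ) {x y : Γ} (hx : x ≠ 1) (hy : y ≠ 1)
    (hc : x * y = y * x) (hne : St ρ x ≠ St ρ y) {k : ℕ} (hk : x ^ k ≠ 1) : y ^ k ≠ 1 := by
  intro hyk
  apply hne
  have hcomm : Commute x y := hc
  have hw : (x * y) ^ k = x ^ k := by
    rw [hcomm.mul_pow, hyk, mul_one]
  have hwk : (x * y) ^ k ≠ 1 := by rw [hw]; exact hk
  have h1 : St ρ (x * y) = St ρ x := by
    rw [← St_pow h hwk, hw, St_pow h hk]
  have hwC : x * y ∈ Comp ρ x := mem_Comp_of_St_eq h1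
  have hyC : y ∈ Comp ρ x := by
    have : y = x⁻¹ * (x * y) := by group
    rw [this]
    exact (Comp ρ x).mul_mem ((Comp ρ x).inv_mem (self_mem_Comp ρ x)) hwC
  exact (St_eq_of_mem_Comp h hx hyC hy).symm

/-- Step 1': commuting elements with different stabilizers have the same order. -/
theorem orderOf_eq_of_commute (h : Hyp ρ) {x y : Γ} (hx : x ≠ 1) (hy : y ≠ 1)
    (hc : x * y = y * x) (hne : St ρ x ≠ St ρ y) : orderOf y = orderOf x := by
  apply Nat.dvd_antisymm
  · rw [orderOf_dvd_iff_pow_eq_one]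
    by_contra hcon
    exact pow_ne_one_of_commute h hy hx hc.symm (Ne.symm hne) hcon (pow_orderOf_eq_one x)
  · rw [orderOf_dvd_iff_pow_eq_one]
    by_contra hcon
    exact pow_ne_one_of_commute h hx hy hc hne hcon (pow_orderOf_eq_one y)

/-- CM-C4 : (C4) of the paper. -/
theorem orderOf_prime_of_commute (h : Hyp ρ) [Finite Γ] {x y : Γ} (hx : x ≠ 1) (hy : y ≠ 1)
    (hc : x * y = y * x) (hne : St ρ x ≠ St ρ y) :
    (orderOf x).Prime ∧ orderOf y = orderOf x := by
  have hxy := orderOf_eq_of_commute h hx hy hc hne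
  refine ⟨?_, hxy⟩
  have hn0 : 0 < orderOf x := orderOf_pos x
  have hn1 : orderOf x ≠ 1 := fun e => hx (orderOf_eq_one_iff.mp e)
  have hr : (orderOf x).minFac.Prime := Nat.minFac_prime hn1
  have hrd : (orderOf x).minFac ∣ orderOf x := Nat.minFac_dvd _
  by_contra hnp
  have hrn : (orderOf x).minFac ≠ orderOf x := fun e => hnp (e ▸ hr)
  -- `x' = x ^ r` has order `n / r`
  have hord : orderOf (x ^ (orderOf x).minFac) = orderOf x / (orderOf x).minFac :=
    orderOf_pow_of_dvd hr.ne_zero hrd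
  have hlt : (orderOf x).minFac < orderOf x := lt_of_le_of_ne (Nat.le_of_dvd hn0 hrd) hrn
  have hx' : x ^ (orderOf x).minFac ≠ 1 := by
    intro e
    have := orderOf_dvd_of_pow_eq_one e
    exact absurd (Nat.le_of_dvd hr.pos this) (not_le.mpr hlt)
  have hc' : x ^ (orderOf x).minFac * y = y * x ^ (orderOf x).minFac :=
    ((show Commute x y from hc).pow_left _).eq
  have hne' : St ρ (x ^ (orderOf x).minFac) ≠ St ρ y := by
    rw [Cfsg.Agent.Lib.Helper55_CM_C1.St_pow h hx']
    exact hne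
  have h2 := orderOf_eq_of_commute h hx' hy hc' hne'
  rw [hxy, hord] at h2
  -- `n = n / r` with `r ≥ 2`
  have h3 : orderOf x / (orderOf x).minFac < orderOf x := Nat.div_lt_self hn0 hr.one_lt
  omega

end Cfsg.Agent.Lib.Helper86_CM_C4
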