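/-
S3905 market (architect helper51), package CM-C5: the dichotomy (C5): `C(x) = Comp(x)`, or `o(x) = p` is a prime and
`C(x)` has exponent `p`.
-/
import Mathlib
import Cfsg.Prelude.Def_Solvable
import Cfsg.Prelude.Def_Transfer
import Cfsg.Agent.Lib.Helper51_CMDefs
import Cfsg.Agent.Lib.Helper55_CM_C1
import Cfsg.Agent.Lib.Helper86_CM_C4

set_option autoImplicit false
open Cfsg Cfsg.Agent.Lib.Helper51_CMDefs
open Cfsg.Agent.Lib.Helper55_CM_C1 Cfsg.Agent.Lib.Helper86_CM_C4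

namespace Cfsg.Agent.Lib.Helper79_CM_C5

variable {G Γ : Type*} [Group G] [Group Γ] {ρ : G →* MulAut Γ}

theorem exponent_of_ne_Comp (h : Hyp ρ) [Finite Γ] {x : Γ} (hx : x ≠ 1) (hne : Cn x ≠ Comp ρ x) :
    (orderOf x).Prime ∧ ∀ c ∈ Cn x, c ^ orderOf x = 1 := by
  have hle : Comp ρ x ≤ Cn x := Comp_le_Cn h hx
  obtain ⟨y, hyC, hyn⟩ : ∃ y ∈ Cn x, y ∉ Comp ρ x := by
    by_contra hcon
    push Not at hcon
    exact hne (le_antisymm hcon hle)
  have hy1 : y ≠ 1 := by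
    rintro rfl
    exact hyn (Subgroup.one_mem _)
  have hSt : St ρ x ≠ St ρ y := fun e => hyn (mem_Comp_of_St_eq e.symm)
  have hcomm : x * y = y * x := (mem_Cn.mp hyC).symm
  obtain ⟨hp, hoy⟩ := orderOf_prime_of_commute h hx hy1 hcomm hSt
  refine ⟨hp, fun c hc => ?_⟩
  by_cases hc1 : c = 1
  · rw [hc1, one_pow]
  by_cases hSc : St ρ x = St ρ c
  · have hcComp : c ∈ Comp ρ x := mem_Comp_of_St_eq hSc.symm
    have hcy : c * y = y * c := (Comp_central h hcComp hyC).symm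
    have hne' : St ρ c ≠ St ρ y := fun e => hSt (hSc.trans e)
    obtain ⟨_, hoc⟩ := orderOf_prime_of_commute h hc1 hy1 hcy hne'
    rw [← hoy, hoc]
    exact pow_orderOf_eq_one c
  · have hxc : x * c = c * x := (mem_Cn.mp hc).symm
    obtain ⟨_, hoc⟩ := orderOf_prime_of_commute h hx hc1 hxc hSc
    rw [← hoc]
    exact pow_orderOf_eq_one c

theorem exponent_of_nonabelian (h : Hyp ρ) [Finite Γ] {x : Γ} (hx : x ≠ 1)
    (hna : ∃ a ∈ Cn x, ∃ b ∈ Cn x, a * b ≠ b * a) :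
    (orderOf x).Prime ∧ ∀ c ∈ Cn x, c ^ orderOf x = 1 := by
  apply exponent_of_ne_Comp h hx
  intro e
  obtain ⟨a, ha, b, hb, hab⟩ := hna
  have haC : a ∈ Comp ρ x := e ▸ ha
  exact hab (Comp_central h haC hb).symm

end Cfsg.Agent.Lib.Helper79_CM_C5
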