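import Mathlib
import Cfsg.Prelude.Def_Solvable
import Cfsg.Prelude.Def_Transfer
import Cfsg.Agent.Lib.Helper51_CMDefs

/-!
# S3905 package CM-ET-CORE (architect helper51): the E-trick in a commutative group
-/

set_option autoImplicit false
open Cfsg Cfsg.Agent.Lib.Helper51_CMDefs

namespace Cfsg.Agent.Lib.Helper70_CM_ET_CORE

variable {G Γ : Type*} [Group G] [Group Γ] {ρ : G →* MulAut Γ}

/-- multiplication by a unit mod a prime permutes the residues -/
theorem prod_mul_mod {M : Type*} [CommMonoid M] {p : ℕ} (hp : p.Prime) (i : ℕ) (hi0 : 0 < i)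
    (hip : i < p) (h : ℕ → M) :
    ∏ j ∈ Finset.range p, h ((j * i) % p) = ∏ k ∈ Finset.range p, h k := by
  have hcop : Nat.gcd p i = 1 :=
    (Nat.Prime.coprime_iff_not_dvd hp).mpr (Nat.not_dvd_of_pos_of_lt hi0 hip)
  have hinj : Set.InjOn (fun j => (j * i) % p) (Finset.range p : Set ℕ) := by
    intro j hj j' hj' hjj'
    have hj1 : j < p := Finset.mem_range.mp hj
    have hj2 : j' < p := Finset.mem_range.mp hj'
    have h1 : j * i ≡ j' * i [MOD p] := hjj'
    have h2 : j ≡ j' [MOD p] := Nat.ModEq.cancel_right_of_coprime hcop h1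
    exact Nat.ModEq.eq_of_lt_of_lt h2 hj1 hj2
  rw [← Finset.prod_image hinj]
  congr 1
  apply Finset.eq_of_subset_of_card_le
  · intro k hk
    obtain ⟨j, -, rfl⟩ := Finset.mem_image.mp hk
    exact Finset.mem_range.mpr (Nat.mod_lt _ hp.pos)
  · rw [Finset.card_image_of_injOn hinj]

section core

variable {V : Type*} [CommGroup V]

/-- the norm of `v` under `c` -/
def nrm (p : ℕ) (c : MulAut V) (v : V) : V := ∏ i ∈ Finset.range p, (c ^ i) v

theorem nrm_fixed {p : ℕ} (c : MulAut V) (hc : c ^ p = 1) (v : V) : c (nrm p c v) = nrm p c v := by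
  unfold nrm
  rw [map_prod]
  have h1 : ∀ i ∈ Finset.range p, c ((c ^ i) v) = (c ^ (i + 1)) v := by
    intro i _
    rw [pow_succ', MulAut.mul_apply]
  rw [Finset.prod_congr rfl h1]
  have h2 := Finset.prod_range_succ (fun i => (c ^ i) v) p
  have h3 := Finset.prod_range_succ' (fun i => (c ^ i) v) p
  rw [h3] at h2
  simp only [hc, pow_zero] at h2
  exact mul_right_cancel h2

theorem nrm_eq_one {p : ℕ} (c : MulAut V) (hc : c ^ p = 1) (hf : ∀ v : V, c v = v → v = 1)
    (v : V) : nrm p c v = 1 := hf _ (nrm_fixed c hc v)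

end core

theorem etrick_core {V : Type*} [CommGroup V] {p : ℕ} (hp : p.Prime) (c₁ c₂ : MulAut V)
    (hc : c₁ * c₂ = c₂ * c₁) (h1 : c₁ ^ p = 1) (h2 : c₂ ^ p = 1)
    (hf2 : ∀ v : V, c₂ v = v → v = 1)
    (hf : ∀ j : ℕ, ∀ v : V, (c₁ * c₂ ^ j) v = v → v = 1) : ∀ v : V, v ^ p = 1 := by
  intro v
  have hcomm : ∀ j : ℕ, Commute c₁ (c₂ ^ j) := fun j => Commute.pow_right hc j
  have hpow : ∀ j i : ℕ, (c₁ * c₂ ^ j) ^ i = c₁ ^ i * c₂ ^ (j * i) := by
    intro j i
    rw [(hcomm j).mul_pow, pow_mul]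
  have hcj : ∀ j : ℕ, (c₁ * c₂ ^ j) ^ p = 1 := by
    intro j
    rw [hpow, h1, mul_comm j p, pow_mul, h2, one_pow, one_mul]
  have hN : ∀ j : ℕ, nrm p (c₁ * c₂ ^ j) v = 1 := fun j => nrm_eq_one _ (hcj j) (hf j) v
  have hN2 : nrm p c₂ v = 1 := nrm_eq_one c₂ h2 hf2 v
  have key : ∏ j ∈ Finset.range p, nrm p (c₁ * c₂ ^ j) v = v ^ p := by
    unfold nrm
    simp only [hpow, MulAut.mul_apply]
    rw [Finset.prod_comm]
    have hrow : ∀ i ∈ Finset.range p,
        ∏ j ∈ Finset.range p, (c₁ ^ i) ((c₂ ^ (j * i)) v) =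
          (c₁ ^ i) (∏ j ∈ Finset.range p, (c₂ ^ (j * i)) v) := by
      intro i _
      rw [map_prod]
    rw [Finset.prod_congr rfl hrow, Finset.prod_eq_single 0]
    · simp only [mul_zero, pow_zero, MulAut.one_apply, Finset.prod_const, Finset.card_range]
    · intro i hi hi0
      have hip : i < p := Finset.mem_range.mp hi
      have hmod : ∀ j ∈ Finset.range p, (c₂ ^ (j * i)) v = (c₂ ^ ((j * i) % p)) v := by
        intro j _
        rw [pow_eq_pow_mod (j * i) h2]
      rw [Finset.prod_congr rfl hmod, prod_mul_mod hp i (Nat.pos_of_ne_zero hi0) hip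
        (fun k => (c₂ ^ k) v)]
      have : ∏ k ∈ Finset.range p, (c₂ ^ k) v = nrm p c₂ v := rfl
      rw [this, hN2, map_one]
    · intro h0
      exact absurd (Finset.mem_range.mpr hp.pos) h0
  rw [← key]
  exact Finset.prod_eq_one fun j _ => hN j

end Cfsg.Agent.Lib.Helper70_CM_ET_CORE
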