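import Mathlib
import Cfsg.Prelude.Def_Solvable
import Cfsg.Prelude.Def_Transfer
import Cfsg.Agent.Lib.Helper51_CMDefs
import Cfsg.Agent.Lib.Helper70_CM_ET_CORE

/-!
# S3905 package CM-ET-SUB (architect helper51): the E-trick for an abelian subgroup
-/

set_option autoImplicit false
open Cfsg Cfsg.Agent.Lib.Helper51_CMDefs

namespace Cfsg.Agent.Lib.Helper70_CM_ET_SUB

variable {G Γ : Type*} [Group G] [Group Γ] {ρ : G →* MulAut Γ}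

/-- powers of a normalizing element normalize -/
theorem pow_conj_mem (A : Subgroup Γ) (e : Γ) (hn : ∀ a ∈ A, e * a * e⁻¹ ∈ A) (k : ℕ) :
    ∀ a ∈ A, e ^ k * a * (e ^ k)⁻¹ ∈ A := by
  induction k with
  | zero => intro a ha; simpa using ha
  | succ k ih =>
    intro a ha
    have h := hn _ (ih a ha)
    have : e ^ (k + 1) * a * (e ^ (k + 1))⁻¹ = e * (e ^ k * a * (e ^ k)⁻¹) * e⁻¹ := by
      rw [pow_succ', mul_inv_rev]
      group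
    rw [this]
    exact h

/-- the inverse of an element of finite order normalizes too -/
theorem inv_conj_mem {p : ℕ} (hp : 0 < p) (A : Subgroup Γ) (e : Γ) (he : e ^ p = 1)
    (hn : ∀ a ∈ A, e * a * e⁻¹ ∈ A) : ∀ a ∈ A, e⁻¹ * a * e ∈ A := by
  intro a ha
  have h := pow_conj_mem A e hn (p - 1) a ha
  have hinv : e ^ (p - 1) = e⁻¹ := by
    apply eq_inv_of_mul_eq_one_left
    rw [← pow_succ, Nat.sub_add_cancel hp, he]
  rwa [hinv, inv_inv] at h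

/-- conjugation by a normalizing element as an automorphism of the subgroup -/
def conjAut (A : Subgroup Γ) (e : Γ) (hn : ∀ a ∈ A, e * a * e⁻¹ ∈ A)
    (hn' : ∀ a ∈ A, e⁻¹ * a * e ∈ A) : MulAut ↥A where
  toFun a := ⟨e * a * e⁻¹, hn a a.2⟩
  invFun a := ⟨e⁻¹ * a * e, hn' a a.2⟩
  left_inv a := by
    apply Subtype.ext
    show e⁻¹ * (e * a * e⁻¹) * e = a
    group
  right_inv a := by
    apply Subtype.ext
    show e * (e⁻¹ * a * e) * e⁻¹ = a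
    group
  map_mul' a b := by
    apply Subtype.ext
    show e * (a * b) * e⁻¹ = (e * a * e⁻¹) * (e * b * e⁻¹)
    group

theorem conjAut_apply (A : Subgroup Γ) (e : Γ) (hn : ∀ a ∈ A, e * a * e⁻¹ ∈ A)
    (hn' : ∀ a ∈ A, e⁻¹ * a * e ∈ A) (a : ↥A) :
    ((conjAut A e hn hn' a : ↥A) : Γ) = e * a * e⁻¹ := rfl

theorem conjAut_pow_apply (A : Subgroup Γ) (e : Γ) (hn : ∀ a ∈ A, e * a * e⁻¹ ∈ A)
    (hn' : ∀ a ∈ A, e⁻¹ * a * e ∈ A) (k : ℕ) (a : ↥A) :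
    (((conjAut A e hn hn') ^ k) a : Γ) = e ^ k * a * (e ^ k)⁻¹ := by
  induction k generalizing a with
  | zero => simp
  | succ k ih =>
    rw [pow_succ', MulAut.mul_apply, conjAut_apply, ih, pow_succ', mul_inv_rev]
    group

theorem etrick {p : ℕ} (hp : p.Prime) (A : Subgroup Γ) (hA : ∀ a ∈ A, ∀ b ∈ A, a * b = b * a)
    (e₁ e₂ : Γ) (hcomm : e₁ * e₂ = e₂ * e₁) (h1 : e₁ ^ p = 1) (h2 : e₂ ^ p = 1)
    (hn1 : ∀ a ∈ A, e₁ * a * e₁⁻¹ ∈ A) (hn2 : ∀ a ∈ A, e₂ * a * e₂⁻¹ ∈ A)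
    (hf2 : ∀ a ∈ A, e₂ * a = a * e₂ → a = 1)
    (hf : ∀ j : ℕ, ∀ a ∈ A, (e₁ * e₂ ^ j) * a = a * (e₁ * e₂ ^ j) → a = 1) :
    ∀ a ∈ A, a ^ p = 1 := by
  let _ : CommGroup ↥A :=
    { (inferInstance : Group ↥A) with mul_comm := fun a b => Subtype.ext (hA a a.2 b b.2) }
  have hn1' := inv_conj_mem hp.pos A e₁ h1 hn1
  have hn2' := inv_conj_mem hp.pos A e₂ h2 hn2
  obtain ⟨c₁, hc₁⟩ : ∃ c : MulAut ↥A, c = conjAut A e₁ hn1 hn1' := ⟨_, rfl⟩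
  obtain ⟨c₂, hc₂⟩ : ∃ c : MulAut ↥A, c = conjAut A e₂ hn2 hn2' := ⟨_, rfl⟩
  have hcc : c₁ * c₂ = c₂ * c₁ := by
    apply MulEquiv.ext
    intro a
    apply Subtype.ext
    rw [MulAut.mul_apply, MulAut.mul_apply, hc₁, hc₂, conjAut_apply, conjAut_apply, conjAut_apply,
      conjAut_apply]
    have h3 : e₁⁻¹ * e₂⁻¹ = e₂⁻¹ * e₁⁻¹ := by
      rw [← mul_inv_rev, ← mul_inv_rev, hcomm]
    calc e₁ * (e₂ * ↑a * e₂⁻¹) * e₁⁻¹ = (e₁ * e₂) * ↑a * (e₂⁻¹ * e₁⁻¹) := by group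
      _ = (e₂ * e₁) * ↑a * (e₁⁻¹ * e₂⁻¹) := by rw [hcomm, h3]
      _ = e₂ * (e₁ * ↑a * e₁⁻¹) * e₂⁻¹ := by group
  have hp1 : c₁ ^ p = 1 := by
    apply MulEquiv.ext
    intro a
    apply Subtype.ext
    rw [hc₁, conjAut_pow_apply, h1]
    simp
  have hp2 : c₂ ^ p = 1 := by
    apply MulEquiv.ext
    intro a
    apply Subtype.ext
    rw [hc₂, conjAut_pow_apply, h2]
    simp
  have hfix2 : ∀ v : ↥A, c₂ v = v → v = 1 := by
    intro v hv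
    apply Subtype.ext
    apply hf2 v v.2
    have h3 := congrArg Subtype.val hv
    rw [hc₂, conjAut_apply] at h3
    calc e₂ * ↑v = (e₂ * ↑v * e₂⁻¹) * e₂ := by group
      _ = ↑v * e₂ := by rw [h3]
  have hfix : ∀ j : ℕ, ∀ v : ↥A, (c₁ * c₂ ^ j) v = v → v = 1 := by
    intro j v hv
    apply Subtype.ext
    apply hf j v v.2
    have h3 := congrArg Subtype.val hv
    rw [MulAut.mul_apply, hc₁, conjAut_apply, hc₂, conjAut_pow_apply] at h3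
    calc e₁ * e₂ ^ j * ↑v = (e₁ * (e₂ ^ j * ↑v * (e₂ ^ j)⁻¹) * e₁⁻¹) * (e₁ * e₂ ^ j) := by group
      _ = ↑v * (e₁ * e₂ ^ j) := by rw [h3]
  have hmain := Cfsg.Agent.Lib.Helper70_CM_ET_CORE.etrick_core hp c₁ c₂ hcc hp1 hp2 hfix2 hfix
  intro a ha
  have h3 := congrArg Subtype.val (hmain ⟨a, ha⟩)
  exact h3

end Cfsg.Agent.Lib.Helper70_CM_ET_SUB
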