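/-
S3905 market (architect helper51), package CM-G3: the Frobenius complement `B` has prime order.
-/
import Mathlib
import Cfsg.Prelude.Def_Solvable
import Cfsg.Prelude.Def_Transfer
import Cfsg.Agent.Lib.Helper51_CMDefs
import Cfsg.Agent.Lib.Helper25_CM_ET_PAIR
import Cfsg.Agent.Lib.Helper70_CM_ET_SUB

set_option autoImplicit false

open Cfsg Cfsg.Agent.Lib.Helper51_CMDefs

namespace Cfsg.Agent.Lib.Helper7_CM_G3

variable {G Γ : Type*} [Group G] [Group Γ] {ρ : G →* MulAut Γ}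

/-- The statement of package CM-ET-SUB. -/
def ETrick (Γ : Type*) [Group Γ] : Prop :=
  ∀ {p : ℕ} (_ : p.Prime) (A : Subgroup Γ) (_ : ∀ a ∈ A, ∀ b ∈ A, a * b = b * a)
    (e₁ e₂ : Γ) (_ : e₁ * e₂ = e₂ * e₁) (_ : e₁ ^ p = 1) (_ : e₂ ^ p = 1)
    (_ : ∀ a ∈ A, e₁ * a * e₁⁻¹ ∈ A) (_ : ∀ a ∈ A, e₂ * a * e₂⁻¹ ∈ A)
    (_ : ∀ a ∈ A, e₂ * a = a * e₂ → a = 1)
    (_ : ∀ j : ℕ, ∀ a ∈ A, (e₁ * e₂ ^ j) * a = a * (e₁ * e₂ ^ j) → a = 1),
    ∀ a ∈ A, a ^ p = 1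

/-- The statement of package CM-ET-PAIR. -/
def ExistsPair (Γ : Type*) [Group Γ] : Prop :=
  ∀ {p : ℕ} (_ : p.Prime) (S : Subgroup Γ) (_ : ∀ s ∈ S, s ^ p = 1)
    (_ : p < Nat.card S),
    ∃ e₁ ∈ S, ∃ e₂ ∈ S, e₁ * e₂ = e₂ * e₁ ∧ e₂ ≠ 1 ∧ ∀ j : ℕ, e₁ * e₂ ^ j ≠ 1

/-- a subgroup of exponent `q` is a `q`-group -/
theorem isPGroup_of_exp {q : ℕ} (S : Subgroup Γ) (hexp : ∀ s ∈ S, s ^ q = 1) : IsPGroup q S := by
  intro s
  refine ⟨1, ?_⟩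
  rw [pow_one]
  apply Subtype.ext
  rw [Subgroup.coe_pow, Subgroup.coe_one]
  exact hexp _ s.2

theorem card_complement_prime_of (h : Hyp ρ) [Finite Γ] {A B : Subgroup Γ} (hF : FrobData ρ A B)
    (hET : ETrick Γ) (hEP : ExistsPair Γ)
    {q : ℕ} (hq : q.Prime) (hexp : ∀ b ∈ B, b ^ q = 1) : Nat.card B = q := by
  have : Fact q.Prime := ⟨hq⟩
  have hBq : IsPGroup q B := isPGroup_of_exp B hexp
  obtain ⟨k, hk⟩ := IsPGroup.iff_card.mp hBq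
  have hk0 : k ≠ 0 := by
    intro h0
    rw [h0, pow_zero] at hk
    exact hF.neB (Subgroup.card_eq_one.mp hk)
  have hqB : q ≤ Nat.card B := by
    rw [hk]
    calc q = q ^ 1 := (pow_one q).symm
      _ ≤ q ^ k := Nat.pow_le_pow_right hq.pos (Nat.one_le_iff_ne_zero.mpr hk0)
  refine le_antisymm ?_ hqB
  by_contra hlt
  rw [not_le] at hlt
  obtain ⟨e₁, he₁, e₂, he₂, hcomm, he₂1, hne⟩ := hEP hq B hexp hlt
  have hAab : ∀ a ∈ A, ∀ b ∈ A, a * b = b * a := by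
    intro a ha b hb
    by_cases ha1 : a = 1
    · rw [ha1, one_mul, mul_one]
    · have hb' : b ∈ Cn a := by rw [hF.cnA a ha ha1]; exact hb
      exact (mem_Cn.mp hb').symm
  have hfix : ∀ e ∈ B, e ≠ 1 → ∀ a ∈ A, e * a = a * e → a = 1 := by
    intro e he he1 a ha hc
    have ha' : a ∈ Cn e := mem_Cn.mpr hc.symm
    rw [hF.cnB e he he1] at ha'
    have : a ∈ A ⊓ B := ⟨ha, ha'⟩
    rw [hF.inf] at this
    exact Subgroup.mem_bot.mp this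
  have hAq : ∀ a ∈ A, a ^ q = 1 := by
    apply hET hq A hAab e₁ e₂ hcomm (hexp _ he₁) (hexp _ he₂)
    · intro a ha
      exact hF.normalA.conj_mem a ha e₁
    · intro a ha
      exact hF.normalA.conj_mem a ha e₂
    · exact hfix e₂ he₂ he₂1
    · intro j
      exact hfix _ (B.mul_mem he₁ (B.pow_mem he₂ j)) (hne j)
  have hAp : IsPGroup q A := isPGroup_of_exp A hAq
  obtain ⟨l, hl⟩ := IsPGroup.iff_card.mp hAp
  have hΓ : IsPGroup q Γ := by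
    apply IsPGroup.of_card (n := l + k)
    rw [← hF.card, hl, hk, pow_add]
  have hnt : Nontrivial Γ := by
    obtain ⟨a, ha⟩ := (Subgroup.ne_bot_iff_exists_ne_one (H := A)).mp hF.neA
    exact ⟨⟨(a : Γ), 1, fun h => ha (Subtype.ext h)⟩⟩
  have hcn := hΓ.center_nontrivial
  obtain ⟨z, hz⟩ := exists_ne (1 : Subgroup.center Γ)
  apply hz
  apply Subtype.ext
  rw [Subgroup.coe_one]
  apply h.cz
  intro m
  exact (Subgroup.mem_center_iff.mp z.2 m)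

theorem card_complement_prime (h : Hyp ρ) [Finite Γ] {A B : Subgroup Γ} (hF : FrobData ρ A B)
    {q : ℕ} (hq : q.Prime) (hexp : ∀ b ∈ B, b ^ q = 1) : Nat.card B = q :=
  card_complement_prime_of h hF
    (fun hp A hA e₁ e₂ hc h1 h2 hn1 hn2 hf2 hf =>
      Cfsg.Agent.Lib.Helper70_CM_ET_SUB.etrick hp A hA e₁ e₂ hc h1 h2 hn1 hn2 hf2 hf)
    (fun hp S hexp hcard => Cfsg.Agent.Lib.Helper25_CM_ET_PAIR.exists_pair hp S hexp hcard)
    hq hexp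

end Cfsg.Agent.Lib.Helper7_CM_G3
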