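import Mathlib
import Cfsg.Prelude.Def_Solvable
import Cfsg.Prelude.Def_Transfer
import Cfsg.Agent.Lib.Helper51_CMDefs

/-!
# S3905 market (architect helper51), package CM-D6B: arithmetic of the configuration
-/

set_option autoImplicit false
open Cfsg Cfsg.Agent.Lib.Helper51_CMDefs

namespace Cfsg.Agent.Lib.Helper82_CM_D6B

variable {G Γ : Type*} [Group G] [Group Γ] {ρ : G →* MulAut Γ}

/- ===== CM-D6B (M) : pure arithmetic of the configuration: `P` non-abelian Sylow, `[P : Op P] = p` ⟹ `Op P ≠ ⊥`;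
and `P` not normal ⟹ `[P : Op P] ≠ 1`. -/
theorem Op_ne_bot [Finite Γ] {p : ℕ} [Fact p.Prime] (P : Sylow p Γ)
    (hna : ∃ a ∈ (P : Subgroup Γ), ∃ b ∈ (P : Subgroup Γ), a * b ≠ b * a)
    (hidx : (Op P).relIndex (P : Subgroup Γ) = p) : Op P ≠ ⊥ := by
  intro h0
  rw [h0, Subgroup.relIndex_bot_left] at hidx
  obtain ⟨a, ha, b, hb, hab⟩ := hna
  have hcyc : IsCyclic ↥(P : Subgroup Γ) := isCyclic_of_prime_card hidx
  obtain ⟨z, hz⟩ := hcyc.exists_generator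
  obtain ⟨i, hi⟩ := Subgroup.mem_zpowers_iff.mp (hz ⟨a, ha⟩)
  obtain ⟨j, hj⟩ := Subgroup.mem_zpowers_iff.mp (hz ⟨b, hb⟩)
  apply hab
  have h : (⟨a, ha⟩ : ↥(P : Subgroup Γ)) * ⟨b, hb⟩ = ⟨b, hb⟩ * ⟨a, ha⟩ := by
    rw [← hi, ← hj, ← zpow_add, ← zpow_add, add_comm]
  exact congrArg Subtype.val h

theorem relIndex_Op_ne_one [Finite Γ] {p : ℕ} (P : Sylow p Γ) (nn : ¬ (P : Subgroup Γ).Normal) :
    (Op P).relIndex (P : Subgroup Γ) ≠ 1 := by
  intro h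
  apply nn
  have h1 : (P : Subgroup Γ) ≤ Op P := Subgroup.relIndex_eq_one.mp h
  have h2 : Op P = (P : Subgroup Γ) := le_antisymm (Subgroup.normalCore_le _) h1
  rw [← h2]
  exact Subgroup.normalCore_normal _

end Cfsg.Agent.Lib.Helper82_CM_D6B
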