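import Mathlib
import Cfsg.Prelude.Def_Solvable
import Cfsg.Prelude.Def_Transfer
import Cfsg.Agent.Lib.Helper51_CMDefs

/-!
# S3905 package CM-D1D, aux part (architect helper51): `NB P` for a centralizer `P = Cn z`
from the statement of the no-between lemma (CM-F2) as a hypothesis, and `p ≠ 2`.
-/

set_option autoImplicit false
open Cfsg Cfsg.Agent.Lib.Helper51_CMDefs

namespace Cfsg.Agent.Lib.Helper91_CM_D1Daux

variable {G Γ : Type*} [Group G] [Group Γ] {ρ : G →* MulAut Γ}

/-- `NB P` for `P = Cn z`, with the no-between statement for `z` as a hypothesis. -/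
theorem nb_of_centralizer_of {P : Subgroup Γ} {z : Γ} (hP : P = Cn z)
    (hF2 : ∀ T : Subgroup Γ, Cn z ≤ T → Inv ρ z T → T = Cn z ∨ T = ⊤) : NB P := by
  subst hP
  intro T hPT hT
  refine hF2 T hPT ?_
  intro g hg t ht
  exact hT (ρ g) (fun x hx => inv_Cn ρ z g hg x hx) t ht

/-- a group of exponent 2 is abelian -/
theorem ne_two_of_nonabelian {p : ℕ} {H : Subgroup Γ} (hexp : ∀ c ∈ H, c ^ p = 1)
    (hna : ∃ a ∈ H, ∃ b ∈ H, a * b ≠ b * a) : p ≠ 2 := by
  rintro rfl
  obtain ⟨a, ha, b, hb, hab⟩ := hna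
  apply hab
  have haa : a * a = 1 := by rw [← pow_two]; exact hexp a ha
  have hbb : b * b = 1 := by rw [← pow_two]; exact hexp b hb
  have habab : (a * b) * (a * b) = 1 := by rw [← pow_two]; exact hexp _ (H.mul_mem ha hb)
  have e : a * ((a * b) * (a * b)) * b = (a * a) * (b * a) * (b * b) := by
    simp only [mul_assoc]
  rw [habab, haa, hbb] at e
  simpa using e

end Cfsg.Agent.Lib.Helper91_CM_D1Daux
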