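import Mathlib
import Cfsg.Prelude.Def_Solvable
import Cfsg.Prelude.Def_Transfer
import Cfsg.Agent.Lib.Helper51_CMDefs
import Cfsg.Agent.Lib.Helper91_CM_D1Daux
import Cfsg.Agent.Lib.Helper71_CM_F2

/-!
# S3905 package CM-D1D (architect helper51): `NB P` for a centralizer `P = Cn z`, and `p ≠ 2`
-/

set_option autoImplicit false
open Cfsg Cfsg.Agent.Lib.Helper51_CMDefs

namespace Cfsg.Agent.Lib.Helper91_CM_D1D

variable {G Γ : Type*} [Group G] [Group Γ] {ρ : G →* MulAut Γ}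

theorem nb_of_centralizer (h : Hyp ρ) {P : Subgroup Γ} {z : Γ} (hz : z ≠ 1) (hP : P = Cn z) :
    NB P :=
  Cfsg.Agent.Lib.Helper91_CM_D1Daux.nb_of_centralizer_of (ρ := ρ) hP
    (fun _ hT hinv => Cfsg.Agent.Lib.Helper71_CM_F2.no_between h hz hT hinv)

theorem ne_two_of_nonabelian {p : ℕ} {H : Subgroup Γ} (hexp : ∀ c ∈ H, c ^ p = 1)
    (hna : ∃ a ∈ H, ∃ b ∈ H, a * b ≠ b * a) : p ≠ 2 :=
  Cfsg.Agent.Lib.Helper91_CM_D1Daux.ne_two_of_nonabelian hexp hna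

end Cfsg.Agent.Lib.Helper91_CM_D1D
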