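/-
S3905 market (architect helper51), package CM-DT-CORE: the abstract D-trick product identity.
-/
import Mathlib
import Cfsg.Prelude.Def_Solvable
import Cfsg.Prelude.Def_Transfer
import Cfsg.Agent.Lib.Helper51_CMDefs

set_option autoImplicit false

open Cfsg Cfsg.Agent.Lib.Helper51_CMDefs

namespace Cfsg.Agent.Lib.Helper7_CM_DT_CORE

variable {G Γ : Type*} [Group G] [Group Γ] {ρ : G →* MulAut Γ}

/-- powers of a normalizing element normalize -/
theorem pow_conj_mem {H : Type*} [Group H] (Q : Subgroup H) (n : H)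
    (hnQ : ∀ u ∈ Q, n * u * n⁻¹ ∈ Q) (i : ℕ) : ∀ u ∈ Q, n ^ i * u * (n ^ i)⁻¹ ∈ Q := by
  induction i with
  | zero => intro u hu; simpa using hu
  | succ k ih =>
    intro u hu
    have h := hnQ _ (ih u hu)
    have e : n ^ (k + 1) * u * (n ^ (k + 1))⁻¹ = n * (n ^ k * u * (n ^ k)⁻¹) * n⁻¹ := by
      rw [pow_succ']; group
    rw [e]; exact h

/-- reindexing by `u ↦ u n^i u⁻¹ n^{-i}` -/
theorem prod_shift {H V : Type*} [Group H] [CommGroup V] (c : H →* MulAut V)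
    (Q : Subgroup H) [Fintype Q] (n : H) (hnQ : ∀ u ∈ Q, n * u * n⁻¹ ∈ Q) (i : ℕ)
    (hfpf : ∀ u ∈ Q, n ^ i * u = u * n ^ i → u = 1) (v : V) :
    ∏ u : Q, c ((u : H) * n ^ i) v = ∏ u : Q, c (((u : H) * n * (u : H)⁻¹) ^ i) v := by
  classical
  have hpow := pow_conj_mem Q n hnQ i
  let τ : Q → Q := fun u =>
    ⟨(u : H) * (n ^ i * (u : H)⁻¹ * (n ^ i)⁻¹), Q.mul_mem u.2 (hpow _ (Q.inv_mem u.2))⟩
  have hτ : Function.Injective τ := by
    intro u u' h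
    have h1 : (u : H) * (n ^ i * (u : H)⁻¹ * (n ^ i)⁻¹) =
        (u' : H) * (n ^ i * (u' : H)⁻¹ * (n ^ i)⁻¹) := congrArg Subtype.val h
    have h2 : n ^ i * ((u' : H)⁻¹ * u) = ((u' : H)⁻¹ * u) * n ^ i := by
      calc n ^ i * ((u' : H)⁻¹ * u)
          = (u' : H)⁻¹ * ((u' : H) * (n ^ i * (u' : H)⁻¹ * (n ^ i)⁻¹)) * n ^ i * u := by group
        _ = (u' : H)⁻¹ * ((u : H) * (n ^ i * (u : H)⁻¹ * (n ^ i)⁻¹)) * n ^ i * u := by rw [h1]
        _ = ((u' : H)⁻¹ * u) * n ^ i := by group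
    have h3 := hfpf ((u' : H)⁻¹ * u) (Q.mul_mem (Q.inv_mem u'.2) u.2) h2
    apply Subtype.ext
    have : (u : H) = (u' : H) * ((u' : H)⁻¹ * u) := by group
    rw [this, h3, mul_one]
  have hbij : Function.Bijective τ := Finite.injective_iff_bijective.mp hτ
  rw [← Function.Bijective.prod_comp hbij (fun u : Q => c ((u : H) * n ^ i) v)]
  apply Finset.prod_congr rfl
  intro u _
  have e : ((τ u : Q) : H) * n ^ i = ((u : H) * n * (u : H)⁻¹) ^ i := by
    rw [conj_pow]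
    show (u : H) * (n ^ i * (u : H)⁻¹ * (n ^ i)⁻¹) * n ^ i = _
    group
  rw [e]

theorem dtrick_core {H V : Type*} [Group H] [CommGroup V] (c : H →* MulAut V) {p : ℕ}
    (hp : p.Prime) (Q : Subgroup H) [Fintype Q] (n : H) (hnQ : ∀ u ∈ Q, n * u * n⁻¹ ∈ Q)
    (hnp : n ^ p = 1)
    (hfpf : ∀ i : ℕ, 0 < i → i < p → ∀ u ∈ Q, n ^ i * u = u * n ^ i → u = 1)
    (hnorm : ∀ m : H, m ^ p = 1 → ∀ v : V, ∏ i ∈ Finset.range p, c (m ^ i) v = 1) (v : V) :
    ∏ u : Q, c (u : H) v = v ^ Fintype.card Q := by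
  classical
  have hW : ∏ i ∈ Finset.range p, c (n ^ i) v = 1 := hnorm n hnp v
  have h1 : ∏ u : Q, c (u : H) (∏ i ∈ Finset.range p, c (n ^ i) v) = 1 := by
    rw [hW]; simp
  have h2 : ∏ u : Q, c (u : H) (∏ i ∈ Finset.range p, c (n ^ i) v) =
      ∏ i ∈ Finset.range p, ∏ u : Q, c ((u : H) * n ^ i) v := by
    rw [Finset.prod_comm]
    apply Finset.prod_congr rfl
    intro u _
    rw [map_prod]
    apply Finset.prod_congr rfl
    intro i _
    rw [map_mul]; rfl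
  -- split off i = 0
  have h3 : ∏ i ∈ Finset.range p, ∏ u : Q, c ((u : H) * n ^ i) v =
      (∏ u : Q, c (u : H) v) * ∏ i ∈ Finset.Ico 1 p, ∏ u : Q, c ((u : H) * n ^ i) v := by
    rw [Finset.range_eq_Ico, Finset.prod_eq_prod_Ico_succ_bot hp.pos]
    simp
  have h4 : ∏ i ∈ Finset.Ico 1 p, ∏ u : Q, c ((u : H) * n ^ i) v =
      ∏ i ∈ Finset.Ico 1 p, ∏ u : Q, c (((u : H) * n * (u : H)⁻¹) ^ i) v := by
    apply Finset.prod_congr rfl
    intro i hi
    rw [Finset.mem_Ico] at hi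
    exact prod_shift c Q n hnQ i (hfpf i (by omega) hi.2) v
  have h5 : ∀ u : Q, ∏ i ∈ Finset.Ico 1 p, c (((u : H) * n * (u : H)⁻¹) ^ i) v = v⁻¹ := by
    intro u
    have hm : ((u : H) * n * (u : H)⁻¹) ^ p = 1 := by
      rw [conj_pow, hnp]; group
    have h := hnorm _ hm v
    rw [Finset.range_eq_Ico, Finset.prod_eq_prod_Ico_succ_bot hp.pos] at h
    simp only [pow_zero, map_one, MulAut.one_apply, zero_add] at h
    exact eq_inv_of_mul_eq_one_right h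
  have h6 : ∏ i ∈ Finset.Ico 1 p, ∏ u : Q, c (((u : H) * n * (u : H)⁻¹) ^ i) v =
      (v ^ Fintype.card Q)⁻¹ := by
    rw [Finset.prod_comm]
    rw [Finset.prod_congr rfl (fun u _ => h5 u)]
    rw [Finset.prod_const, Finset.card_univ, inv_pow]
  rw [h2, h3, h4, h6] at h1
  exact eq_of_mul_inv_eq_one h1

end Cfsg.Agent.Lib.Helper7_CM_DT_CORE
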