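import Mathlib
import Cfsg.Prelude.Def_Solvable
import Cfsg.Prelude.Def_Transfer
import Cfsg.Agent.Lib.Helper51_CMDefs
import Cfsg.Agent.Lib.Helper7_CM_DT_CORE

/-!
Package CM-DT-APP of S3905 (architect helper51): the application of the D-trick.  A normal abelian subgroup `V` of
exponent `p` is trivial when an element `n` of order `p` normalizes a non-trivial `q`-subgroup `Q`, `q ≠ p`, and the
centralizers of the elements of order `p` have exponent `p`.
-/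

set_option autoImplicit false
open Cfsg Cfsg.Agent.Lib.Helper51_CMDefs

namespace Cfsg.Agent.Lib.Helper93_CM_DT_APP

variable {G Γ : Type*} [Group G] [Group Γ] {ρ : G →* MulAut Γ}

open scoped IsMulCommutative in
theorem mul_pow_eq_prod_conj (V : Subgroup Γ) [V.Normal] [IsMulCommutative ↥V] (m : Γ) (v : ↥V)
    (k : ℕ) :
    ((v : Γ) * m) ^ k =
      ((∏ i ∈ Finset.range k, (MulAut.conjNormal (m ^ i) : MulAut ↥V) v : ↥V) : Γ) * m ^ k := by
  induction k with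
  | zero => simp
  | succ k ih =>
    rw [pow_succ, ih, Finset.prod_range_succ, pow_succ]
    simp only [Subgroup.coe_mul, MulAut.conjNormal_apply]
    group

/-- An element killed by a power of `q` and by `p ≠ q` is trivial. -/
theorem eq_one_of_pow_pow {M : Type*} [Monoid M] {p q : ℕ} (hp : p.Prime) (hq : q.Prime) (hqp : q ≠ p)
    (u : M) (k : ℕ) (hk : u ^ (q ^ k) = 1) (hup : u ^ p = 1) : u = 1 := by
  have h1 : orderOf u ∣ p := orderOf_dvd_of_pow_eq_one hup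
  have h2 : orderOf u ∣ q ^ k := orderOf_dvd_of_pow_eq_one hk
  have hcop : Nat.Coprime (q ^ k) p := ((Nat.coprime_primes hq hp).mpr hqp).pow_left k
  have h3 : orderOf u ∣ 1 := by
    have := Nat.dvd_gcd h2 h1
    rwa [hcop.gcd_eq_one] at this
  exact orderOf_eq_one_iff.mp (Nat.dvd_one.mp h3)

/-- A `q`-element killed by `p ≠ q` is trivial. -/
theorem eq_one_of_pow {p q : ℕ} (hp : p.Prime) (hq : q.Prime) (hqp : q ≠ p) (Q : Subgroup Γ)
    (hQ : IsPGroup q Q) (u : Γ) (hu : u ∈ Q) (hup : u ^ p = 1) : u = 1 := by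
  obtain ⟨k, hk⟩ := hQ ⟨u, hu⟩
  have hk' : u ^ (q ^ k) = 1 := by
    have := congrArg Subtype.val hk
    simpa using this
  exact eq_one_of_pow_pow hp hq hqp u k hk' hup

open scoped IsMulCommutative in
theorem V_eq_bot_aux [Finite Γ] {p q : ℕ} (hp : p.Prime) (hq : q.Prime) (hqp : q ≠ p)
    (hcent : CentP Γ p) (V : Subgroup Γ) [V.Normal] [IsMulCommutative ↥V]
    (hVp : ∀ v ∈ V, v ^ p = 1)
    (hmulpow : ∀ m : Γ, m ^ p = 1 → ∀ v ∈ V, (v * m) ^ p = 1)
    (Q : Subgroup Γ) (hQ1 : Q ≠ ⊥) (hQ : IsPGroup q Q) (n : Γ)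
    (hn : n ∈ Subgroup.normalizer (Q : Set Γ)) (hn1 : n ≠ 1) (hnp : n ^ p = 1) : V = ⊥ := by
  classical
  let _ : Fintype ↥Q := Fintype.ofFinite _
  let c : Γ →* MulAut ↥V := MulAut.conjNormal
  -- the norm condition
  have hnorm : ∀ m : Γ, m ^ p = 1 → ∀ v : ↥V, ∏ i ∈ Finset.range p, c (m ^ i) v = 1 := by
    intro m hm v
    have h1 := mul_pow_eq_prod_conj V m v p
    rw [hmulpow m hm v v.2, hm, mul_one] at h1
    exact Subtype.ext h1.symm
  -- fixed-point-freeness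
  have hord : orderOf n = p := by
    have h1 : orderOf n ∣ p := orderOf_dvd_of_pow_eq_one hnp
    rcases (Nat.dvd_prime hp).mp h1 with h | h
    · exact absurd (orderOf_eq_one_iff.mp h) hn1
    · exact h
  have hfpf : ∀ i : ℕ, 0 < i → i < p → ∀ u ∈ Q, n ^ i * u = u * n ^ i → u = 1 := by
    intro i hi0 hip u hu hcomm
    have hni : n ^ i ≠ 1 := pow_ne_one_of_lt_orderOf (by omega) (by rw [hord]; exact hip)
    have hnip : (n ^ i) ^ p = 1 := by rw [← pow_mul, mul_comm, pow_mul, hnp, one_pow]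
    have hup : u ^ p = 1 := hcent (n ^ i) hni hnip u hcomm.symm
    exact eq_one_of_pow hp hq hqp Q hQ u hu hup
  have hnQ : ∀ u ∈ Q, n * u * n⁻¹ ∈ Q := fun u hu => (Subgroup.mem_normalizer_iff.mp hn u).mp hu
  rw [Subgroup.eq_bot_iff_forall]
  intro v0 hv0
  let v : ↥V := ⟨v0, hv0⟩
  have hcore := Cfsg.Agent.Lib.Helper7_CM_DT_CORE.dtrick_core c hp Q n hnQ hnp hfpf hnorm v
  set w : ↥V := ∏ u : Q, c (u : Γ) v with hw
  -- `w` is centralized by `Q`
  have hfix : ∀ u0 : ↥Q, c (u0 : Γ) w = w := by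
    intro u0
    rw [hw, map_prod]
    have : ∀ u : ↥Q, c (u0 : Γ) (c (u : Γ) v) = c ((u0 * u : ↥Q) : Γ) v := by
      intro u
      rw [Subgroup.coe_mul, map_mul, MulAut.mul_apply]
    simp only [this]
    exact Fintype.prod_equiv (Equiv.mulLeft u0) _ _ (fun u => rfl)
  -- hence `w = 1`
  have hw1 : w = 1 := by
    by_contra hne
    obtain ⟨u0, hu01⟩ := (Subgroup.ne_bot_iff_exists_ne_one).mp hQ1
    have hwne : (w : Γ) ≠ 1 := fun h => hne (Subtype.ext h)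
    have hwp : (w : Γ) ^ p = 1 := hVp _ w.2
    have h1 := congrArg Subtype.val (hfix u0)
    rw [MulAut.conjNormal_apply] at h1
    have hcomm : (u0 : Γ) * (w : Γ) = (w : Γ) * (u0 : Γ) := mul_inv_eq_iff_eq_mul.mp h1
    have hu0p := hcent (w : Γ) hwne hwp (u0 : Γ) hcomm
    have := eq_one_of_pow hp hq hqp Q hQ (u0 : Γ) u0.2 hu0p
    exact hu01 (Subtype.ext this)
  have : Fact q.Prime := ⟨hq⟩
  obtain ⟨k, hk⟩ := IsPGroup.iff_card.mp hQ
  rw [hw1, ← Nat.card_eq_fintype_card, hk] at hcore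
  have hvp : v ^ p = 1 := Subtype.ext (by simpa using hVp v0 hv0)
  have hv1 := eq_one_of_pow_pow hp hq hqp v k hcore.symm hvp
  exact congrArg Subtype.val hv1

/-- CM-DT-APP. -/
theorem V_eq_bot [Finite Γ] {p q : ℕ} (hp : p.Prime) (hq : q.Prime) (hqp : q ≠ p)
    (hcent : CentP Γ p) (V : Subgroup Γ) [V.Normal] (hVab : ∀ a ∈ V, ∀ b ∈ V, a * b = b * a)
    (hVp : ∀ v ∈ V, v ^ p = 1)
    (hmulpow : ∀ m : Γ, m ^ p = 1 → ∀ v ∈ V, (v * m) ^ p = 1)
    (Q : Subgroup Γ) (hQ1 : Q ≠ ⊥) (hQ : IsPGroup q Q) (n : Γ)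
    (hn : n ∈ Subgroup.normalizer (Q : Set Γ)) (hn1 : n ≠ 1) (hnp : n ^ p = 1) : V = ⊥ := by
  have : IsMulCommutative ↥V := ⟨⟨fun a b => Subtype.ext (hVab a a.2 b b.2)⟩⟩
  exact V_eq_bot_aux hp hq hqp hcent V hVp hmulpow Q hQ1 hQ n hn hn1 hnp

end Cfsg.Agent.Lib.Helper93_CM_DT_APP
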