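import Mathlib
import Cfsg.Prelude.Def_Solvable
import Cfsg.Prelude.Def_Transfer
import Cfsg.Agent.Lib.Helper51_CMDefs
import Cfsg.Agent.Lib.Helper25_CM_ET_PAIR
import Cfsg.Agent.Lib.Helper70_CM_ET_SUB

/-!
# S3905 package CM-D4 (helper95)

`|S| ≤ p` for a subgroup `S` of exponent `p` normalizing a non-trivial `q`-group `Q`, `q ≠ p`, when
centralizers of elements of order `p` have exponent `p`.
-/

set_option autoImplicit false
open Cfsg Cfsg.Agent.Lib.Helper51_CMDefs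

namespace Cfsg.Agent.Lib.Helper95_CM_D4

variable {G Γ : Type*} [Group G] [Group Γ] {ρ : G →* MulAut Γ}

/-- A `q`-element killed by `p ≠ q` is trivial. -/
theorem eq_one_of_pow {p q : ℕ} (hp : p.Prime) (hq : q.Prime) (hqp : q ≠ p)
    {Q : Subgroup Γ} (hQ : IsPGroup q Q) {a : Γ} (ha : a ∈ Q) (hap : a ^ p = 1) : a = 1 := by
  obtain ⟨k, hk⟩ := hQ ⟨a, ha⟩
  have hk' : a ^ q ^ k = 1 := by
    have := congrArg Subtype.val hk
    simpa using this
  have hcop : Nat.Coprime p (q ^ k) :=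
    Nat.Coprime.pow_right k ((Nat.coprime_primes hp hq).mpr (Ne.symm hqp))
  have h1 : orderOf a ∣ p := orderOf_dvd_of_pow_eq_one hap
  have h2 : orderOf a ∣ q ^ k := orderOf_dvd_of_pow_eq_one hk'
  have h3 : orderOf a ∣ 1 := by
    have := Nat.dvd_gcd h1 h2
    rwa [hcop] at this
  exact orderOf_eq_one_iff.mp (Nat.dvd_one.mp h3)

/-- The centre of `Q` is normalized by every element normalizing `Q`. -/
theorem conj_mem_center {Q : Subgroup Γ} {e : Γ} (he : e ∈ Subgroup.normalizer (Q : Set Γ))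
    {a : Γ} (ha : a ∈ Q ⊓ Subgroup.centralizer (Q : Set Γ)) :
    e * a * e⁻¹ ∈ Q ⊓ Subgroup.centralizer (Q : Set Γ) := by
  obtain ⟨haQ, haC⟩ := Subgroup.mem_inf.mp ha
  refine Subgroup.mem_inf.mpr ⟨(Subgroup.mem_normalizer_iff.mp he a).mp haQ, ?_⟩
  rw [Subgroup.mem_centralizer_iff]
  intro y hy
  have hy' : e⁻¹ * y * e ∈ Q := by
    have := (Subgroup.mem_normalizer_iff.mp (Subgroup.inv_mem _ he) y).mp hy
    simpa using this
  have hc := (Subgroup.mem_centralizer_iff.mp haC) (e⁻¹ * y * e) hy'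
  calc y * (e * a * e⁻¹) = e * ((e⁻¹ * y * e) * a) * e⁻¹ := by group
    _ = e * (a * (e⁻¹ * y * e)) * e⁻¹ := by rw [hc]
    _ = e * a * e⁻¹ * y := by group

theorem card_S_le [Finite Γ] {p q : ℕ} (hp : p.Prime) (hq : q.Prime) (hqp : q ≠ p)
    (hcent : CentP Γ p) (Q S : Subgroup Γ) (hQ1 : Q ≠ ⊥) (hQ : IsPGroup q Q)
    (hS : S ≤ Subgroup.normalizer (Q : Set Γ)) (hexp : ∀ s ∈ S, s ^ p = 1) : Nat.card S ≤ p := by
  by_contra hcon
  push Not at hcon
  obtain ⟨e₁, he₁, e₂, he₂, hcomm, he₂1, hne⟩ :=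
    Cfsg.Agent.Lib.Helper25_CM_ET_PAIR.exists_pair hp S hexp hcon
  set A : Subgroup Γ := Q ⊓ Subgroup.centralizer (Q : Set Γ) with hA
  have hAab : ∀ a ∈ A, ∀ b ∈ A, a * b = b * a := by
    intro a ha b hb
    exact (Subgroup.mem_centralizer_iff.mp (Subgroup.mem_inf.mp hb).2 a
      (Subgroup.mem_inf.mp ha).1)
  -- fixed-point-freeness
  have hfpf : ∀ e ∈ S, e ≠ 1 → ∀ a ∈ A, e * a = a * e → a = 1 := by
    intro e he he1 a ha hea
    have hap : a ^ p = 1 := hcent e he1 (hexp e he) a hea.symm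
    exact eq_one_of_pow hp hq hqp hQ (Subgroup.mem_inf.mp ha).1 hap
  have hmem : ∀ j : ℕ, e₁ * e₂ ^ j ∈ S := fun j => S.mul_mem he₁ (S.pow_mem he₂ j)
  have key := Cfsg.Agent.Lib.Helper70_CM_ET_SUB.etrick hp A hAab e₁ e₂ hcomm (hexp e₁ he₁)
    (hexp e₂ he₂) (fun a ha => conj_mem_center (hS he₁) ha) (fun a ha => conj_mem_center (hS he₂) ha)
    (fun a ha h => hfpf e₂ he₂ he₂1 a ha h)
    (fun j a ha h => hfpf _ (hmem j) (hne j) a ha h)
  -- so `A = ⊥`
  have hA0 : ∀ a ∈ A, a = 1 := fun a ha =>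
    eq_one_of_pow hp hq hqp hQ (Subgroup.mem_inf.mp ha).1 (key a ha)
  -- but the centre of the non-trivial `q`-group `Q` is non-trivial
  have : Fact q.Prime := ⟨hq⟩
  have : Nontrivial Q := (Subgroup.nontrivial_iff_ne_bot _).mpr hQ1
  have hc : Nontrivial (Subgroup.center Q) := hQ.center_nontrivial
  obtain ⟨⟨z, hz⟩, hz1⟩ := exists_ne (1 : Subgroup.center Q)
  have hzA : (z : Γ) ∈ A := by
    refine Subgroup.mem_inf.mpr ⟨z.2, ?_⟩
    rw [Subgroup.mem_centralizer_iff]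
    intro x hx
    have := (Subgroup.mem_center_iff.mp hz) ⟨x, hx⟩
    exact congrArg Subtype.val this
  apply hz1
  apply Subtype.ext
  apply Subtype.ext
  exact hA0 _ hzA

end Cfsg.Agent.Lib.Helper95_CM_D4
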