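import Mathlib
import Cfsg.Prelude.Def_Solvable
import Cfsg.Prelude.Def_Transfer
import Cfsg.Agent.Lib.Helper51_CMDefs
import Cfsg.Agent.Lib.Helper79_CM_C5
import Cfsg.Agent.Lib.Helper63_CM_D1Aaux
import Cfsg.Agent.Lib.Helper61_CM_D1core
import Cfsg.Agent.Lib.Helper20_CM_DQ_THcore
import Cfsg.Agent.Lib.Helper95_CM_DQ_TOP
import Cfsg.Agent.Lib.Helper61_CM_D1C
import Cfsg.Agent.Lib.Helper91_CM_D1D
import Cfsg.Agent.Lib.Helper44_CM_D3A
import Cfsg.Agent.Lib.Helper54_CM_D3B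
import Cfsg.Agent.Lib.Helper95_CM_D4
import Cfsg.Agent.Lib.Helper44_CM_D6A
import Cfsg.Agent.Lib.Helper82_CM_D6B
import Cfsg.Agent.Lib.Helper44_CM_DQ_PULL
import Cfsg.Agent.Lib.Helper93_CM_DT_APP
import Cfsg.Agent.Lib.Helper54_CM_DTEXP
import Cfsg.Agent.Lib.Helper21_CM_E6C
import Cfsg.Agent.Lib.Helper57_CM_G1
import Cfsg.Agent.Lib.Helper57_CM_G2
import Cfsg.Agent.Lib.Helper7_CM_G3
import Cfsg.Agent.Lib.Helper44_CM_SYLEXP

/-!
# S3905: assembly of the abstract theorem (helper51)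

`main`: if `ρ : G →* MulAut Γ` satisfies `Hyp ρ` (inner automorphisms induced, trivial centre, all point
stabilizers maximal) and `Γ` is finite and non-trivial, then `Γ` is a Frobenius group with elementary
abelian kernel and complement of prime order.  Packages by the S3905 market seats (see s3905_packages).
Paper proof: pending/helper51/S3905_proof.md.
-/

set_option autoImplicit false
open Cfsg Cfsg.Agent.Lib.Helper51_CMDefs

namespace Cfsg.Agent.Lib.Helper51_CMAsm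

variable {G Γ : Type*} [Group G] [Group Γ] {ρ : G →* MulAut Γ}

/-- Part 2, first half: a non-abelian centralizer produces the bad configuration. -/
theorem exists_bad (h : Hyp ρ) [Finite Γ]
    (hna : ∃ x : Γ, x ≠ 1 ∧ ∃ a ∈ Cn x, ∃ b ∈ Cn x, a * b ≠ b * a) :
    ∃ (p : ℕ) (P : Sylow p Γ), Bad p P := by
  obtain ⟨p, hp, P, z, hz, hP, hnab, hexp⟩ := Cfsg.Agent.Lib.Helper63_CM_D1Aaux.exists_sylow_centralizer_aux
    (fun _ hx hn => Cfsg.Agent.Lib.Helper79_CM_C5.exponent_of_nonabelian h hx hn) hna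
  have hcent := Cfsg.Agent.Lib.Helper61_CM_D1core.centP_core hp P hP hexp
    (fun _ hx hn => Cfsg.Agent.Lib.Helper79_CM_C5.exponent_of_nonabelian h hx hn)
  refine ⟨p, P, ⟨hp, ?_, ?_, ?_, hcent, Cfsg.Agent.Lib.Helper91_CM_D1D.nb_of_centralizer h hz hP, ?_⟩⟩
  · exact Cfsg.Agent.Lib.Helper91_CM_D1D.ne_two_of_nonabelian (H := Cn z) hexp hnab
  · intro x hx
    rw [hP] at hx
    exact hexp x hx
  · rw [hP]
    exact hnab
  · exact Cfsg.Agent.Lib.Helper61_CM_D1C.not_normal_of_sylow h hp P hz hP hnab hcent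

/-- Part 2, second half: the bad configuration is impossible. -/
theorem bad_false [Finite Γ] {p : ℕ} {P : Sylow p Γ} (hB : Bad p P) : False := by
  have : Fact p.Prime := ⟨hB.hp⟩
  obtain ⟨T, hTn, hTP, hsup⟩ :=
    Cfsg.Agent.Lib.Helper44_CM_DQ_PULL.exists_T_of_quot P (Cfsg.Agent.Lib.Helper20_CM_DQ_THcore.quot_hasNormalPComplement_core hB.hp2 P hB.nb
      (Cfsg.Agent.Lib.Helper95_CM_DQ_TOP.normalizer_thompson_ne_top P hB.nn)
      (Cfsg.Agent.Lib.Helper95_CM_DQ_TOP.centralizer_center_ne_top P hB.nn))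
  have := hTn
  obtain ⟨q, hq, hqp, Q, hQ1, hQ, hfr⟩ := Cfsg.Agent.Lib.Helper44_CM_D3A.exists_q_sylow P hB.nn T hsup
  obtain ⟨S, hSH, hSp, hdvd⟩ := Cfsg.Agent.Lib.Helper54_CM_D3B.exists_S P T (Subgroup.normalizer (Q : Set Γ)) hTP hsup hfr
  have hSexp : ∀ s ∈ S, s ^ p = 1 := Cfsg.Agent.Lib.Helper44_CM_SYLEXP.sylow_exp P hB.exp S hSp
  have hSle : Nat.card S ≤ p := Cfsg.Agent.Lib.Helper95_CM_D4.card_S_le hB.hp hq hqp hB.cent Q S hQ1 hQ hSH hSexp
  have hne1 := Cfsg.Agent.Lib.Helper82_CM_D6B.relIndex_Op_ne_one P hB.nn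
  -- `|S| = p = [P : D]`
  obtain ⟨k, hk⟩ := (IsPGroup.iff_card).mp hSp
  have hk1 : k ≤ 1 := by
    by_contra hk2
    have : p ^ 2 ≤ p ^ k := Nat.pow_le_pow_right hB.hp.pos (by omega)
    have h2 := hB.hp.two_le
    rw [← hk] at this
    nlinarith
  have hcardS : Nat.card S = p := by
    interval_cases k
    · rw [hk, pow_zero, Nat.dvd_one] at hdvd
      exact absurd hdvd hne1
    · rw [hk, pow_one]
  have hidx : (Op P).relIndex (P : Subgroup Γ) = p := by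
    rw [hcardS] at hdvd
    rcases (Nat.dvd_prime hB.hp).mp hdvd with h1 | h1
    · exact absurd h1 hne1
    · exact h1
  -- an element of order `p` in `S`
  have hSnt : Nontrivial S := by
    rw [← Finite.one_lt_card_iff_nontrivial, hcardS]
    exact hB.hp.one_lt
  obtain ⟨⟨n, hnS⟩, hn1⟩ := exists_ne (1 : S)
  have hn1' : n ≠ 1 := fun hc => hn1 (Subtype.ext hc)
  have hD1 := Cfsg.Agent.Lib.Helper82_CM_D6B.Op_ne_bot P hB.nonab hidx
  have hDp : IsPGroup p (Op P) := P.isPGroup'.to_le (Subgroup.normalCore_le _)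
  obtain ⟨hVn, hV1, hVab⟩ := Cfsg.Agent.Lib.Helper44_CM_D6A.center_props (Op P) hDp hD1
  have := hVn
  have hVle : Op P ⊓ Subgroup.centralizer ((Op P : Subgroup Γ) : Set Γ) ≤ (P : Subgroup Γ) :=
    inf_le_left.trans (Subgroup.normalCore_le _)
  have hVp : ∀ v ∈ Op P ⊓ Subgroup.centralizer ((Op P : Subgroup Γ) : Set Γ), v ^ p = 1 :=
    fun v hv => hB.exp v (hVle hv)
  have hVpg : IsPGroup p ↥(Op P ⊓ Subgroup.centralizer ((Op P : Subgroup Γ) : Set Γ)) :=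
    P.isPGroup'.to_le hVle
  exact hV1 (Cfsg.Agent.Lib.Helper93_CM_DT_APP.V_eq_bot hB.hp hq hqp hB.cent _ hVab hVp
    (fun m hm v hv => Cfsg.Agent.Lib.Helper54_CM_DTEXP.mul_pow_eq_one P hB.exp _ hVpg m hm v hv) Q hQ1 hQ n (hSH hnS) hn1'
    (hSexp n hnS))

/-- Lemma A′: all centralizers are abelian. -/
theorem ca_of_hyp (h : Hyp ρ) [Finite Γ] : CA Γ := by
  intro x hx a ha b hb
  by_contra hab
  obtain ⟨p, P, hBad⟩ := exists_bad h ⟨x, hx, a, ha, b, hb, hab⟩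
  exact bad_false hBad

/-- The abstract main theorem. -/
theorem main (h : Hyp ρ) [Finite Γ] [Nontrivial Γ] :
    ∃ (Q K : Subgroup Γ) (p : ℕ), p.Prime ∧ Cfsg.IsFrobeniusComplement Q ∧ (Nat.card ↥Q).Prime ∧
      K.Normal ∧ (K : Set Γ) = Cfsg.frobeniusKernel Q ∧ Cfsg.IsElementaryAbelian p K := by
  have hCA := ca_of_hyp h
  obtain ⟨A, B, hF⟩ := Cfsg.Agent.Lib.Helper21_CM_E6C.exists_frobData h hCA
  obtain ⟨p, hp, hAp⟩ := Cfsg.Agent.Lib.Helper57_CM_G1.kernel_exponent h hF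
  obtain ⟨q, hq, hBq⟩ := Cfsg.Agent.Lib.Helper57_CM_G2.complement_exponent h hF
  have hcard := Cfsg.Agent.Lib.Helper7_CM_G3.card_complement_prime h hF hq hBq
  refine ⟨B, A, p, hp, hF.frob, by rw [hcard]; exact hq, hF.normalA, hF.ker, ?_, hAp⟩
  -- `A` is commutative
  refine ⟨⟨fun a b => ?_⟩⟩
  apply Subtype.ext
  by_cases ha : (a : Γ) = 1
  · simp [ha]
  · have hb : (b : Γ) ∈ Cn (a : Γ) := by rw [hF.cnA a a.2 ha]; exact b.2
    exact (mem_Cn.mp hb).symm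

end Cfsg.Agent.Lib.Helper51_CMAsm
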