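import Mathlib
import Cfsg.Prelude.Def_Solvable
import Cfsg.Prelude.Def_Transfer
import Cfsg.Agent.Lib.Helper51_CMDefs

set_option autoImplicit false
open Cfsg Cfsg.Agent.Lib.Helper51_CMDefs

namespace Cfsg.Agent.Lib.Helper51_CMRho

variable {G : Type*} [Group G]

theorem center_map_eq (N : Subgroup G) [N.Normal] (g : G) :
    (Subgroup.center ↥N).map ((MulAut.conjNormal g : MulAut ↥N) : ↥N →* ↥N) = Subgroup.center ↥N :=
  Subgroup.characteristic_iff_map_eq.mp inferInstance _

/-- The action of `G` on `N / Z(N)` induced by conjugation. -/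
noncomputable def rho (N : Subgroup G) [N.Normal] : G →* MulAut (↥N ⧸ Subgroup.center ↥N) where
  toFun g := QuotientGroup.congr (Subgroup.center ↥N) (Subgroup.center ↥N)
    (MulAut.conjNormal g : MulAut ↥N) (center_map_eq N g)
  map_one' := by
    ext y
    obtain ⟨n, rfl⟩ := QuotientGroup.mk_surjective y
    simp
  map_mul' := by
    intro a b
    ext y
    obtain ⟨n, rfl⟩ := QuotientGroup.mk_surjective y
    simp [MulAut.mul_apply]

@[simp] theorem rho_mk (N : Subgroup G) [N.Normal] (g : G) (n : ↥N) :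
    rho N g (QuotientGroup.mk n) = QuotientGroup.mk ((MulAut.conjNormal g : MulAut ↥N) n) := by
  simp [rho]

theorem coe_conjNormal (N : Subgroup G) [N.Normal] (g : G) (n : ↥N) :
    (((MulAut.conjNormal g : MulAut ↥N) n : ↥N) : G) = g * n * g⁻¹ := by
  simp

/-- `ρ n` is conjugation by the class of `n`. -/
theorem rho_coe (N : Subgroup G) [N.Normal] (n : ↥N) :
    rho N (n : G) = MulAut.conj (QuotientGroup.mk n : ↥N ⧸ Subgroup.center ↥N) := by
  ext y
  obtain ⟨m, rfl⟩ := QuotientGroup.mk_surjective y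
  rw [rho_mk, MulAut.conj_apply, ← QuotientGroup.mk_mul, ← QuotientGroup.mk_inv,
    ← QuotientGroup.mk_mul]
  congr 1

/-- the class of `x ∈ N` is trivial iff `x` centralizes `N`. -/
theorem mk_eq_one_iff (N : Subgroup G) [N.Normal] (x : ↥N) :
    (QuotientGroup.mk x : ↥N ⧸ Subgroup.center ↥N) = 1 ↔
      (x : G) ∈ Subgroup.centralizer (N : Set G) := by
  rw [QuotientGroup.eq_one_iff, Subgroup.mem_center_iff, Subgroup.mem_centralizer_iff]
  constructor
  · intro h m hm
    exact congrArg Subtype.val (h ⟨m, hm⟩)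
  · intro h m
    exact Subtype.ext (h m m.2)

/-- `g` fixes the class of `x` iff `g x g⁻¹ x⁻¹` centralizes `N`. -/
theorem mem_St_mk_iff (N : Subgroup G) [N.Normal] (g : G) (x : ↥N) :
    g ∈ St (rho N) (QuotientGroup.mk x) ↔
      g * x * g⁻¹ * (x : G)⁻¹ ∈ Subgroup.centralizer (N : Set G) := by
  rw [mem_St, rho_mk]
  have h1 : (QuotientGroup.mk ((MulAut.conjNormal g : MulAut ↥N) x) : ↥N ⧸ Subgroup.center ↥N) =
      QuotientGroup.mk x ↔
      (QuotientGroup.mk (((MulAut.conjNormal g : MulAut ↥N) x) * x⁻¹) :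
        ↥N ⧸ Subgroup.center ↥N) = 1 := by
    rw [QuotientGroup.mk_mul, QuotientGroup.mk_inv, mul_inv_eq_one]
  rw [h1, mk_eq_one_iff]
  simp

end Cfsg.Agent.Lib.Helper51_CMRho
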