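import Mathlib
import Cfsg.Prelude.Def_Solvable
import Cfsg.Prelude.Def_Transfer
import Cfsg.Agent.Lib.Helper51_CMDefs
import Cfsg.Agent.Lib.Helper51_CMRho

/-! S3905 package CM-P0-B2 (helper51): paper (B2). -/

set_option autoImplicit false
open Cfsg Cfsg.Agent.Lib.Helper51_CMDefs Cfsg.Agent.Lib.Helper51_CMRho

namespace Cfsg.Agent.Lib.Helper51_CM_P0_B2

variable {G : Type*} [Group G]

theorem centralizer_le_St (N : Subgroup G) [N.Normal] (x : ↥N) :
    Subgroup.centralizer ({(x : G)} : Set G) ≤ St (rho N) (QuotientGroup.mk x) := by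
  intro g hg
  rw [mem_St_mk_iff]
  have h1 : g * (x : G) = (x : G) * g := Subgroup.mem_centralizer_singleton_iff.mp hg
  have h2 : g * (x : G) * g⁻¹ * (x : G)⁻¹ = 1 := by rw [h1]; group
  rw [h2]
  exact one_mem _

/-- if every `g` fixes `mk y`, then `mk (x*y)` and `mk x` have the same stabilizer -/
theorem St_mul_right (N : Subgroup G) [N.Normal] (x y : ↥N)
    (hy : St (rho N) (QuotientGroup.mk y) = ⊤) :
    St (rho N) (QuotientGroup.mk (x * y)) = St (rho N) (QuotientGroup.mk x) := by
  ext g
  have hgy : rho N g (QuotientGroup.mk y) = QuotientGroup.mk y := by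
    have : g ∈ St (rho N) (QuotientGroup.mk y) := by rw [hy]; exact Subgroup.mem_top g
    exact this
  rw [mem_St, mem_St, QuotientGroup.mk_mul, map_mul, hgy, mul_left_inj]

theorem St_mul_left (N : Subgroup G) [N.Normal] (x y : ↥N)
    (hy : St (rho N) (QuotientGroup.mk y) = ⊤) :
    St (rho N) (QuotientGroup.mk (y * x)) = St (rho N) (QuotientGroup.mk x) := by
  ext g
  have hgy : rho N g (QuotientGroup.mk y) = QuotientGroup.mk y := by
    have : g ∈ St (rho N) (QuotientGroup.mk y) := by rw [hy]; exact Subgroup.mem_top g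
    exact this
  rw [mem_St, mem_St, QuotientGroup.mk_mul, map_mul, hgy, mul_right_inj]

theorem St_eq_top_of_mem (N : Subgroup G) [N.Normal] (x : ↥N)
    (hx : (x : G) ∈ Subgroup.centralizer (N : Set G)) :
    St (rho N) (QuotientGroup.mk x) = ⊤ := by
  rw [(mk_eq_one_iff N x).mpr hx, eq_top_iff]
  intro g _
  rw [mem_St]
  exact map_one _

theorem St_ne_top (N : Subgroup G) [N.Normal]
    (h : ∀ x : G, x ∈ N → x ∉ Subgroup.centralizer (N : Set G) →
      IsCoatom (Subgroup.centralizer ({x} : Set G)))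
    (hB : ∃ x₀ : ↥N, St (rho N) (QuotientGroup.mk x₀) ≠ ⊤) (x : ↥N)
    (hx : (x : G) ∉ Subgroup.centralizer (N : Set G)) :
    St (rho N) (QuotientGroup.mk x) ≠ ⊤ := by
  intro hY
  obtain ⟨x₀, hx₀⟩ := hB
  -- (i) a non-top stabilizer is the centralizer
  have hi : ∀ n : ↥N, St (rho N) (QuotientGroup.mk n) ≠ ⊤ →
      (n : G) ∉ Subgroup.centralizer (N : Set G) ∧
        St (rho N) (QuotientGroup.mk n) = Subgroup.centralizer ({(n : G)} : Set G) := by
    intro n hn
    have hnZ : (n : G) ∉ Subgroup.centralizer (N : Set G) :=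
      fun hc => hn (St_eq_top_of_mem N n hc)
    refine ⟨hnZ, ?_⟩
    have hco := h n n.2 hnZ
    rcases eq_or_lt_of_le (centralizer_le_St N n) with he | hlt
    · exact he.symm
    · exact absurd (hco.2 _ hlt) hn
  have hcoY : IsCoatom (Subgroup.centralizer ({(x : G)} : Set G)) := h x x.2 hx
  -- (iii) all these centralizers are equal to `M := centralizer {x}`
  have hM : ∀ n : ↥N, St (rho N) (QuotientGroup.mk n) ≠ ⊤ →
      Subgroup.centralizer ({(n : G)} : Set G) = Subgroup.centralizer ({(x : G)} : Set G) := by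
    intro n hn
    obtain ⟨hnZ, hn2⟩ := hi n hn
    have hnx : St (rho N) (QuotientGroup.mk (n * x)) ≠ ⊤ := by
      rw [St_mul_right N n x hY]; exact hn
    obtain ⟨_, hnx2⟩ := hi (n * x) hnx
    have heq : Subgroup.centralizer ({((n * x : ↥N) : G)} : Set G) =
        Subgroup.centralizer ({(n : G)} : Set G) := by
      rw [← hnx2, St_mul_right N n x hY, hn2]
    have hle : Subgroup.centralizer ({(n : G)} : Set G) ≤
        Subgroup.centralizer ({(x : G)} : Set G) := by
      intro g hg
      have hg2 : g ∈ Subgroup.centralizer ({((n * x : ↥N) : G)} : Set G) := by rw [heq]; exact hg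
      rw [Subgroup.mem_centralizer_singleton_iff] at hg hg2 ⊢
      rw [Subgroup.coe_mul] at hg2
      have e : (n : G) * (g * (x : G)) = (n : G) * ((x : G) * g) := by
        calc (n : G) * (g * (x : G)) = ((n : G) * g) * (x : G) := by group
          _ = (g * (n : G)) * (x : G) := by rw [hg]
          _ = g * ((n : G) * (x : G)) := by group
          _ = (n : G) * (x : G) * g := hg2
          _ = (n : G) * ((x : G) * g) := by group
      exact mul_left_cancel e
    have hcon := h n n.2 hnZ
    rcases eq_or_lt_of_le hle with he | hlt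
    · exact he
    · exact absurd (hcon.2 _ hlt) hcoY.1
  -- `M` centralizes `N`
  have hMN : ∀ g ∈ Subgroup.centralizer ({(x : G)} : Set G), ∀ n : ↥N, g * (n : G) = (n : G) * g := by
    intro g hg n
    by_cases hn : St (rho N) (QuotientGroup.mk n) = ⊤
    · have hnx₀ : St (rho N) (QuotientGroup.mk (n * x₀)) ≠ ⊤ := by
        rw [St_mul_left N x₀ n hn]; exact hx₀
      have h1 : g ∈ Subgroup.centralizer ({((n * x₀ : ↥N) : G)} : Set G) := by
        rw [hM _ hnx₀]; exact hg
      have h2 : g ∈ Subgroup.centralizer ({(x₀ : G)} : Set G) := by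
        rw [hM _ hx₀]; exact hg
      rw [Subgroup.mem_centralizer_singleton_iff] at h1 h2
      rw [Subgroup.coe_mul] at h1
      have e : g * (n : G) * (x₀ : G) = (n : G) * g * (x₀ : G) := by
        calc g * (n : G) * (x₀ : G) = g * ((n : G) * (x₀ : G)) := by group
          _ = (n : G) * (x₀ : G) * g := h1
          _ = (n : G) * ((x₀ : G) * g) := by group
          _ = (n : G) * (g * (x₀ : G)) := by rw [h2]
          _ = (n : G) * g * (x₀ : G) := by group
      exact mul_right_cancel e
    · have h1 : g ∈ Subgroup.centralizer ({(n : G)} : Set G) := by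
        rw [hM _ hn]; exact hg
      exact Subgroup.mem_centralizer_singleton_iff.mp h1
  -- `x₀ ∈ M`
  have hx₀M : (x₀ : G) ∈ Subgroup.centralizer ({(x : G)} : Set G) := by
    rw [← hM _ hx₀, Subgroup.mem_centralizer_singleton_iff]
  have hx₀Z : (x₀ : G) ∈ Subgroup.centralizer (N : Set G) := by
    rw [Subgroup.mem_centralizer_iff]
    intro m hm
    exact (hMN _ hx₀M ⟨m, hm⟩).symm
  exact hx₀ (St_eq_top_of_mem N x₀ hx₀Z)

end Cfsg.Agent.Lib.Helper51_CM_P0_B2
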