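import Mathlib
import Cfsg.Prelude.Def_Solvable
import Cfsg.Prelude.Def_Transfer
import Cfsg.Agent.Lib.Helper51_CMDefs
import Cfsg.Agent.Lib.Helper51_CMRho
import Cfsg.Agent.Lib.Helper51_CM_P0_B2

/-! S3905 package CM-P0-HYP (helper51): case B gives `Hyp (rho N)`. -/

set_option autoImplicit false
open Cfsg Cfsg.Agent.Lib.Helper51_CMDefs Cfsg.Agent.Lib.Helper51_CMRho
open Cfsg.Agent.Lib.Helper51_CM_P0_B2

namespace Cfsg.Agent.Lib.Helper51_CM_P0_HYP

variable {G : Type*} [Group G]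

theorem St_eq_centralizer (N : Subgroup G) [N.Normal]
    (h : ∀ x : G, x ∈ N → x ∉ Subgroup.centralizer (N : Set G) →
      IsCoatom (Subgroup.centralizer ({x} : Set G)))
    (hB : ∃ x₀ : ↥N, St (rho N) (QuotientGroup.mk x₀) ≠ ⊤) (x : ↥N)
    (hx : (x : G) ∉ Subgroup.centralizer (N : Set G)) :
    St (rho N) (QuotientGroup.mk x) = Subgroup.centralizer ({(x : G)} : Set G) := by
  have hne := St_ne_top N h hB x hx
  have hco := h x x.2 hx
  rcases eq_or_lt_of_le (centralizer_le_St N x) with he | hlt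
  · exact he.symm
  · exact absurd (hco.2 _ hlt) hne

theorem hyp_of_caseB (N : Subgroup G) [N.Normal]
    (h : ∀ x : G, x ∈ N → x ∉ Subgroup.centralizer (N : Set G) →
      IsCoatom (Subgroup.centralizer ({x} : Set G)))
    (hB : ∃ x₀ : ↥N, St (rho N) (QuotientGroup.mk x₀) ≠ ⊤) : Hyp (rho N) := by
  refine ⟨?_, ?_, ?_⟩
  · intro y
    obtain ⟨n, rfl⟩ := QuotientGroup.mk_surjective y
    exact ⟨(n : G), rho_coe N n⟩
  · intro y hy
    obtain ⟨n, rfl⟩ := QuotientGroup.mk_surjective y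
    by_contra hn1
    have hnZ : (n : G) ∉ Subgroup.centralizer (N : Set G) :=
      fun hc => hn1 ((mk_eq_one_iff N n).mpr hc)
    have hSt := St_eq_centralizer N h hB n hnZ
    apply hnZ
    rw [Subgroup.mem_centralizer_iff]
    intro m hm
    have hmem : (m : G) ∈ St (rho N) (QuotientGroup.mk n) := by
      rw [mem_St, show m = ((⟨m, hm⟩ : ↥N) : G) from rfl, rho_coe, MulAut.conj_apply,
        hy (QuotientGroup.mk ⟨m, hm⟩), mul_inv_cancel_right]
    rw [hSt, Subgroup.mem_centralizer_singleton_iff] at hmem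
    exact hmem
  · intro y hy
    obtain ⟨n, rfl⟩ := QuotientGroup.mk_surjective y
    have hnZ : (n : G) ∉ Subgroup.centralizer (N : Set G) :=
      fun hc => hy ((mk_eq_one_iff N n).mpr hc)
    rw [St_eq_centralizer N h hB n hnZ]
    exact h n n.2 hnZ

end Cfsg.Agent.Lib.Helper51_CM_P0_HYP
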