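import Mathlib
import Cfsg.Agent.Lib.Helper33_DCDefs
import Cfsg.Agent.Lib.Helper84_TutteW_Main
import Cfsg.Prelude.Def_Solvable

set_option autoImplicit false
set_option linter.unusedSectionVars false
set_option linter.unusedVariables false

/-!
helper51 — package DC-F of helper33's DC market (theorem DC, row S2858): in the critical system
`s = 10`, `λ = 6`, `[x_0, x_6] = x_3`, the commutator `f = [x_0, x_8]` lies in `X[3,5]`.
`f_core` / `f_mem_of` take the statement of DC-E (`[x_0, x_7] ∈ X[3,4]`) as a hypothesis.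
-/

namespace Cfsg.Agent.Lib.Helper51_DC_F

open scoped commutatorElement
open Cfsg.Agent.Lib.Helper84_TutteDefs Cfsg.Agent.Lib.Helper33_DCDefs

variable {G : Type*} [Group G] {H P Q0 : Subgroup G} {δ ρ g x0 : G} {s lam : ℕ}

/-- `a b a⁻¹ = [a,b] b` -/
theorem conj_eq_comm_mul (a b : G) : a * b * a⁻¹ = ⁅a, b⁆ * b := by
  rw [commutatorElement_def]; group

/-- abstract form of paper steps (d), (e): if `a`, `b` commute and `[u,a]` commutes with `b` and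
`[u,b]`, then `a` commutes with `[u,b]`. -/
theorem step_comm {u a b : G} (hab : a * b = b * a)
    (heb : ⁅u, a⁆ * b = b * ⁅u, a⁆)
    (hef : ⁅u, a⁆ * ⁅u, b⁆ = ⁅u, b⁆ * ⁅u, a⁆) : a * ⁅u, b⁆ = ⁅u, b⁆ * a := by
  have ea : ⁅u, a⁆ * a = u * a * u⁻¹ := (conj_eq_comm_mul u a).symm
  have fb : ⁅u, b⁆ * b = u * b * u⁻¹ := (conj_eq_comm_mul u b).symm
  have h1 : (⁅u, a⁆ * a) * (⁅u, b⁆ * b) = (⁅u, b⁆ * b) * (⁅u, a⁆ * a) := by
    rw [ea, fb]
    calc u * a * u⁻¹ * (u * b * u⁻¹) = u * (a * b) * u⁻¹ := by group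
      _ = u * (b * a) * u⁻¹ := by rw [hab]
      _ = u * b * u⁻¹ * (u * a * u⁻¹) := by group
  have h2 : ⁅u, a⁆ * (a * ⁅u, b⁆ * b) = ⁅u, a⁆ * (⁅u, b⁆ * a * b) := by
    calc ⁅u, a⁆ * (a * ⁅u, b⁆ * b) = (⁅u, a⁆ * a) * (⁅u, b⁆ * b) := by simp only [mul_assoc]
      _ = (⁅u, b⁆ * b) * (⁅u, a⁆ * a) := h1
      _ = ⁅u, b⁆ * (b * ⁅u, a⁆) * a := by simp only [mul_assoc]
      _ = ⁅u, b⁆ * (⁅u, a⁆ * b) * a := by rw [heb]
      _ = (⁅u, b⁆ * ⁅u, a⁆) * (b * a) := by simp only [mul_assoc]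
      _ = (⁅u, a⁆ * ⁅u, b⁆) * (a * b) := by rw [hef, hab]
      _ = ⁅u, a⁆ * (⁅u, b⁆ * a * b) := by simp only [mul_assoc]
  exact mul_right_cancel (mul_left_cancel h2)

/-- abstract form of the involution trick: `f b` an involution, `b` an involution,
`b f b⁻¹ = d f`, `f d = d f`, `f f = 1` force `d = 1`. -/
theorem invol_trick {f b d : G} (hfb : (f * b) * (f * b) = 1) (hbb : b * b = 1)
    (hconj : b * f * b⁻¹ = d * f) (hfd : f * d = d * f) (hff : f * f = 1) : d = 1 := by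
  have hb : b⁻¹ = b := inv_eq_of_mul_eq_one_right hbb
  have h1 : (f * b) * (f * b) = f * (b * f * b⁻¹) := by
    rw [hb]
    simp only [mul_assoc]
  rw [h1, hconj] at hfb
  calc d = d * (f * f) := by rw [hff, mul_one]
    _ = (d * f) * f := by rw [mul_assoc]
    _ = (f * d) * f := by rw [hfd]
    _ = f * (d * f) := by rw [mul_assoc]
    _ = 1 := hfb

/-- DC-F, core form for an arbitrary weak Tutte system with `s = 10`, `λ = 6`, `[x_0,x_6] = x_3`,
with the statement of DC-E as a hypothesis. -/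
theorem f_core (T : TSys' H g x0 10) (hl : IsLam g x0 6)
    (hc : ⁅xs g x0 0, xs g x0 6⁆ = xs g x0 3)
    (hE : ⁅xs g x0 0, xs g x0 7⁆ ∈ XX g x0 3 4) :
    ⁅xs g x0 0, xs g x0 8⁆ ∈ XX g x0 3 5 := by
  -- basic facts
  have cm : ∀ i j : ℤ, i - j ≤ 5 → j - i ≤ 5 →
      xs g x0 i * xs g x0 j = xs g x0 j * xs g x0 i := by
    intro i j h1 h2
    apply hl.commute
    rw [abs_lt]
    constructor
    · push_cast; omega
    · push_cast; omega
  have sq : ∀ i : ℤ, xs g x0 i * xs g x0 i = 1 := T.xs_sq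
  have inv : ∀ i : ℤ, (xs g x0 i)⁻¹ = xs g x0 i := T.xs_inv
  have c6 : ∀ i : ℤ, ⁅xs g x0 i, xs g x0 (i + 6)⁆ = xs g x0 (i + 3) := by
    intro i
    have h1 := comm_shift g x0 0 6 i
    rw [zero_add, hc] at h1
    have h2 := xs_conj_zpow g x0 3 (-i)
    rw [neg_neg] at h2
    rw [show i + 6 = 6 + i by ring, h1, h2]
    congr 1
    ring
  -- `x_i x_{i+6} x_i⁻¹ = x_{i+3} x_{i+6}` and `x_{i+6} x_i x_{i+6}⁻¹ = x_{i+3} x_i`
  have conj6 : ∀ i : ℤ, xs g x0 i * xs g x0 (i + 6) * (xs g x0 i)⁻¹ =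
      xs g x0 (i + 3) * xs g x0 (i + 6) := by
    intro i
    rw [conj_eq_comm_mul, c6]
  have conj6' : ∀ i : ℤ, xs g x0 (i + 6) * xs g x0 i * (xs g x0 (i + 6))⁻¹ =
      xs g x0 (i + 3) * xs g x0 i := by
    intro i
    rw [conj_eq_comm_mul, ← commutatorElement_inv, c6, inv]
  -- the elements e, e', f
  have hf17 : ⁅xs g x0 0, xs g x0 8⁆ ∈ XX g x0 1 7 := by
    have := T.comm_mem (i := 0) (j := 8) (by norm_num) (by norm_num)
    norm_num at this
    exact this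
  have he' : ⁅xs g x0 1, xs g x0 8⁆ ∈ XX g x0 4 5 := by
    have h1 := comm_shift g x0 0 7 1
    norm_num at h1
    have h2 : g⁻¹ * ⁅xs g x0 0, xs g x0 7⁆ * g ∈ cj g⁻¹ (XX g x0 3 4) := by
      rw [mem_cj]
      have e1 : g⁻¹⁻¹ * (g⁻¹ * ⁅xs g x0 0, xs g x0 7⁆ * g) * g⁻¹ = ⁅xs g x0 0, xs g x0 7⁆ := by
        group
      rw [e1]
      exact hE
    rw [cj_inv_XX] at h2
    norm_num at h2
    rw [h1]
    exact h2
  -- e is central in X[1,8], e'' = [x_8,x_1] is central in X[0,7]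
  have eK : ∀ y ∈ XX g x0 1 8, ⁅xs g x0 0, xs g x0 7⁆ * y = y * ⁅xs g x0 0, xs g x0 7⁆ := by
    intro y hy
    refine commute_XX (fun l h1 h2 => ?_) hy
    exact (commute_XX (z := xs g x0 l) (fun m h3 h4 => cm l m (by omega) (by omega)) hE).symm
  have he'' : ⁅xs g x0 8, xs g x0 1⁆ ∈ XX g x0 4 5 := by
    rw [← commutatorElement_inv]
    exact (XX g x0 4 5).inv_mem he'
  have eK' : ∀ y ∈ XX g x0 0 7, ⁅xs g x0 8, xs g x0 1⁆ * y = y * ⁅xs g x0 8, xs g x0 1⁆ := by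
    intro y hy
    refine commute_XX (fun l h1 h2 => ?_) hy
    exact (commute_XX (z := xs g x0 l) (fun m h3 h4 => cm l m (by omega) (by omega)) he'').symm
  have hx17 : xs g x0 1 * xs g x0 7 ≠ xs g x0 7 * xs g x0 1 := by
    have := hl.not_commute (1 : ℤ)
    norm_num at this
    exact this
  -- (d): f has no x_1-component
  have h7f : xs g x0 7 * ⁅xs g x0 0, xs g x0 8⁆ = ⁅xs g x0 0, xs g x0 8⁆ * xs g x0 7 := by
    apply step_comm (cm 7 8 (by omega) (by omega))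
    · exact eK _ (xs_mem_XX (by norm_num) (by norm_num))
    · exact eK _ (XX_mono (le_refl _) (by norm_num) hf17)
  have hf27 : ⁅xs g x0 0, xs g x0 8⁆ ∈ XX g x0 2 7 := by
    rcases T.mem_or_mul_mem_left (i := 1) (j := 7) (by norm_num) (by norm_num) hf17 with h | h
    · norm_num at h
      exact h
    · exfalso
      norm_num at h
      have h7r : xs g x0 7 * (xs g x0 1 * ⁅xs g x0 0, xs g x0 8⁆) =
          (xs g x0 1 * ⁅xs g x0 0, xs g x0 8⁆) * xs g x0 7 :=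
        commute_XX (fun l h1 h2 => cm 7 l (by omega) (by omega)) h
      have := Cfsg.Agent.Lib.Helper84_TutteW_TB.commute_of_mul_left rfl h7r h7f
      exact hx17 this.symm
  -- (e): f has no x_7-component
  have hfi17 : ⁅xs g x0 8, xs g x0 0⁆ ∈ XX g x0 1 7 := by
    rw [← commutatorElement_inv]
    exact (XX g x0 1 7).inv_mem hf17
  have h1f' : xs g x0 1 * ⁅xs g x0 8, xs g x0 0⁆ = ⁅xs g x0 8, xs g x0 0⁆ * xs g x0 1 := by
    apply step_comm (cm 1 0 (by omega) (by omega))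
    · exact eK' _ (xs_mem_XX (by norm_num) (by norm_num))
    · exact eK' _ (XX_mono (by norm_num) (le_refl _) hfi17)
  have h1f : xs g x0 1 * ⁅xs g x0 0, xs g x0 8⁆ = ⁅xs g x0 0, xs g x0 8⁆ * xs g x0 1 := by
    have hC : Commute (xs g x0 1) ⁅xs g x0 8, xs g x0 0⁆ := h1f'
    have := hC.inv_right
    rw [commutatorElement_inv] at this
    exact this.eq
  have hf26 : ⁅xs g x0 0, xs g x0 8⁆ ∈ XX g x0 2 6 := by
    rcases T.mem_or_mul_mem_right (i := 2) (j := 7) (by norm_num) (by norm_num) hf27 with h | h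
    · norm_num at h
      exact h
    · exfalso
      norm_num at h
      have h1r : xs g x0 1 * (⁅xs g x0 0, xs g x0 8⁆ * xs g x0 7) =
          (⁅xs g x0 0, xs g x0 8⁆ * xs g x0 7) * xs g x0 1 :=
        commute_XX (fun l h1 h2 => cm 1 l (by omega) (by omega)) h
      have := Cfsg.Agent.Lib.Helper84_TutteW_TB.commute_of_mul_right rfl h1r h1f
      exact hx17 this
  -- X[2,6] is elementary abelian
  have ab26 : ∀ l m : ℤ, 2 ≤ l → l ≤ 6 → 2 ≤ m → m ≤ 6 →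
      xs g x0 l * xs g x0 m = xs g x0 m * xs g x0 l :=
    fun l m h1 h2 h3 h4 => cm l m (by omega) (by omega)
  have hff : ⁅xs g x0 0, xs g x0 8⁆ * ⁅xs g x0 0, xs g x0 8⁆ = 1 :=
    Cfsg.Agent.Lib.Helper84_TutteW_TD.XX_sq_eq_one T.sq ab26 hf26
  -- (f), first half: no x_2-component
  have hf36 : ⁅xs g x0 0, xs g x0 8⁆ ∈ XX g x0 3 6 := by
    rcases T.mem_or_mul_mem_left (i := 2) (j := 6) (by norm_num) (by norm_num) hf26 with h | h
    · norm_num at h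
      exact h
    · exfalso
      norm_num at h
      apply T.xs_ne_one 5
      -- f x_8 = x_0 x_8 x_0⁻¹ is an involution
      have hfb : (⁅xs g x0 0, xs g x0 8⁆ * xs g x0 8) * (⁅xs g x0 0, xs g x0 8⁆ * xs g x0 8) = 1 := by
        rw [← conj_eq_comm_mul]
        calc xs g x0 0 * xs g x0 8 * (xs g x0 0)⁻¹ * (xs g x0 0 * xs g x0 8 * (xs g x0 0)⁻¹)
            = xs g x0 0 * (xs g x0 8 * xs g x0 8) * (xs g x0 0)⁻¹ := by group
          _ = 1 := by rw [sq 8]; group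
      -- x_8 commutes with r = x_2 f
      have h8r : xs g x0 8 * (xs g x0 2 * ⁅xs g x0 0, xs g x0 8⁆) =
          (xs g x0 2 * ⁅xs g x0 0, xs g x0 8⁆) * xs g x0 8 :=
        commute_XX (fun l h1 h2 => cm 8 l (by omega) (by omega)) h
      have h82 : xs g x0 8 * xs g x0 2 * (xs g x0 8)⁻¹ = xs g x0 5 * xs g x0 2 := by
        have := conj6' 2
        norm_num at this
        exact this
      -- x_8 f x_8⁻¹ = x_5 f
      have hconj : xs g x0 8 * ⁅xs g x0 0, xs g x0 8⁆ * (xs g x0 8)⁻¹ =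
          xs g x0 5 * ⁅xs g x0 0, xs g x0 8⁆ := by
        have e1 : ⁅xs g x0 0, xs g x0 8⁆ =
            xs g x0 2 * (xs g x0 2 * ⁅xs g x0 0, xs g x0 8⁆) := by
          rw [← mul_assoc, sq 2, one_mul]
        have e2 : xs g x0 8 * (xs g x0 2 * ⁅xs g x0 0, xs g x0 8⁆) * (xs g x0 8)⁻¹ =
            xs g x0 2 * ⁅xs g x0 0, xs g x0 8⁆ := by
          rw [h8r]; group
        calc xs g x0 8 * ⁅xs g x0 0, xs g x0 8⁆ * (xs g x0 8)⁻¹
            = xs g x0 8 * (xs g x0 2 * (xs g x0 2 * ⁅xs g x0 0, xs g x0 8⁆)) * (xs g x0 8)⁻¹ := by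
              rw [← e1]
          _ = (xs g x0 8 * xs g x0 2 * (xs g x0 8)⁻¹) *
              (xs g x0 8 * (xs g x0 2 * ⁅xs g x0 0, xs g x0 8⁆) * (xs g x0 8)⁻¹) := by group
          _ = (xs g x0 5 * xs g x0 2) * (xs g x0 2 * ⁅xs g x0 0, xs g x0 8⁆) := by rw [h82, e2]
          _ = xs g x0 5 * ((xs g x0 2 * xs g x0 2) * ⁅xs g x0 0, xs g x0 8⁆) := by
              simp only [mul_assoc]
          _ = xs g x0 5 * ⁅xs g x0 0, xs g x0 8⁆ := by rw [sq 2, one_mul]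
      have hfd : ⁅xs g x0 0, xs g x0 8⁆ * xs g x0 5 = xs g x0 5 * ⁅xs g x0 0, xs g x0 8⁆ :=
        XX_comm ab26 hf26 (xs_mem_XX (by norm_num) (by norm_num))
      exact invol_trick hfb (sq 8) hconj hfd hff
  -- (f), second half: no x_6-component
  rcases T.mem_or_mul_mem_right (i := 3) (j := 6) (by norm_num) (by norm_num) hf36 with h | h
  · norm_num at h
    exact h
  · exfalso
    norm_num at h
    apply T.xs_ne_one 3
    have hfinv : (⁅xs g x0 0, xs g x0 8⁆)⁻¹ = ⁅xs g x0 0, xs g x0 8⁆ :=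
      inv_eq_of_mul_eq_one_right hff
    -- f x_0 = f⁻¹ x_0 = x_8 x_0 x_8⁻¹ is an involution
    have hfb : (⁅xs g x0 0, xs g x0 8⁆ * xs g x0 0) * (⁅xs g x0 0, xs g x0 8⁆ * xs g x0 0) = 1 := by
      have e0 : ⁅xs g x0 0, xs g x0 8⁆ * xs g x0 0 = xs g x0 8 * xs g x0 0 * (xs g x0 8)⁻¹ := by
        rw [conj_eq_comm_mul (xs g x0 8) (xs g x0 0),
          ← commutatorElement_inv (xs g x0 0) (xs g x0 8), hfinv]
      rw [e0]
      calc xs g x0 8 * xs g x0 0 * (xs g x0 8)⁻¹ * (xs g x0 8 * xs g x0 0 * (xs g x0 8)⁻¹)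
          = xs g x0 8 * (xs g x0 0 * xs g x0 0) * (xs g x0 8)⁻¹ := by group
        _ = 1 := by rw [sq 0]; group
    -- x_0 commutes with r = f x_6
    have h0r : xs g x0 0 * (⁅xs g x0 0, xs g x0 8⁆ * xs g x0 6) =
        (⁅xs g x0 0, xs g x0 8⁆ * xs g x0 6) * xs g x0 0 :=
      commute_XX (fun l h1 h2 => cm 0 l (by omega) (by omega)) h
    have h06 : xs g x0 0 * xs g x0 6 * (xs g x0 0)⁻¹ = xs g x0 3 * xs g x0 6 := by
      have := conj6 0
      norm_num at this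
      exact this
    have hr26 : ⁅xs g x0 0, xs g x0 8⁆ * xs g x0 6 ∈ XX g x0 2 6 :=
      XX_mono (by norm_num) (by norm_num) h
    have hconj : xs g x0 0 * ⁅xs g x0 0, xs g x0 8⁆ * (xs g x0 0)⁻¹ =
        xs g x0 3 * ⁅xs g x0 0, xs g x0 8⁆ := by
      have e1 : ⁅xs g x0 0, xs g x0 8⁆ =
          (⁅xs g x0 0, xs g x0 8⁆ * xs g x0 6) * xs g x0 6 := by
        rw [mul_assoc, sq 6, mul_one]
      have e2 : xs g x0 0 * (⁅xs g x0 0, xs g x0 8⁆ * xs g x0 6) * (xs g x0 0)⁻¹ =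
          ⁅xs g x0 0, xs g x0 8⁆ * xs g x0 6 := by
        rw [h0r]; group
      have e3 : (⁅xs g x0 0, xs g x0 8⁆ * xs g x0 6) * xs g x0 3 =
          xs g x0 3 * (⁅xs g x0 0, xs g x0 8⁆ * xs g x0 6) :=
        XX_comm ab26 hr26 (xs_mem_XX (by norm_num) (by norm_num))
      calc xs g x0 0 * ⁅xs g x0 0, xs g x0 8⁆ * (xs g x0 0)⁻¹
          = xs g x0 0 * ((⁅xs g x0 0, xs g x0 8⁆ * xs g x0 6) * xs g x0 6) * (xs g x0 0)⁻¹ := by
            rw [← e1]
        _ = (xs g x0 0 * (⁅xs g x0 0, xs g x0 8⁆ * xs g x0 6) * (xs g x0 0)⁻¹) *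
            (xs g x0 0 * xs g x0 6 * (xs g x0 0)⁻¹) := by group
        _ = (⁅xs g x0 0, xs g x0 8⁆ * xs g x0 6) * (xs g x0 3 * xs g x0 6) := by rw [e2, h06]
        _ = ((⁅xs g x0 0, xs g x0 8⁆ * xs g x0 6) * xs g x0 3) * xs g x0 6 := by
            simp only [mul_assoc]
        _ = (xs g x0 3 * (⁅xs g x0 0, xs g x0 8⁆ * xs g x0 6)) * xs g x0 6 := by rw [e3]
        _ = xs g x0 3 * ((⁅xs g x0 0, xs g x0 8⁆ * xs g x0 6) * xs g x0 6) := by
            simp only [mul_assoc]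
        _ = xs g x0 3 * ⁅xs g x0 0, xs g x0 8⁆ := by rw [← e1]
    have hfd : ⁅xs g x0 0, xs g x0 8⁆ * xs g x0 3 = xs g x0 3 * ⁅xs g x0 0, xs g x0 8⁆ :=
      XX_comm ab26 hf26 (xs_mem_XX (by norm_num) (by norm_num))
    exact invol_trick hfb (sq 0) hconj hfd hff

/-- DC-F with the statement of DC-E as a hypothesis. -/
theorem f_mem_of (h : DC10 H P Q0 δ ρ x0)
    (hE : ⁅xs (δ * ρ) x0 0, xs (δ * ρ) x0 7⁆ ∈ XX (δ * ρ) x0 3 4) :
    ⁅xs (δ * ρ) x0 0, xs (δ * ρ) x0 8⁆ ∈ XX (δ * ρ) x0 3 5 :=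
  f_core h.sys.sys h.lam h.c hE

end Cfsg.Agent.Lib.Helper51_DC_F
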