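import Cfsg.Prelude.Def_DStar
import Mathlib.GroupTheory.Nilpotent
import Mathlib.GroupTheory.PGroup
import Mathlib.GroupTheory.Sylow
import Mathlib.Tactic

/-!
Theory of the family behind `D*(S)` (Glauberman-Solomon): members commute pairwise,
and a member centralizes every abelian subgroup that it normalizes.
-/

set_option autoImplicit false
set_option linter.unusedSectionVars false

namespace Cfsg.Agent.Lib.Helper51_DStar

open scoped commutatorElement

variable {S : Type*} [Group S]

/-- class at most two -/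
def cl2 (K : Subgroup S) : Prop := ⁅⁅K, K⁆, K⁆ = ⊥

theorem cl2_mono {K L : Subgroup S} (h : K ≤ L) (hL : cl2 L) : cl2 K := by
  unfold cl2 at *
  rw [eq_bot_iff, ← hL]
  exact Subgroup.commutator_mono (Subgroup.commutator_mono h h) h

/-- If the commutators of generators are central in the generated subgroup, the class is `≤ 2`. -/
theorem cl2_closure (k : Set S)
    (h : ∀ g ∈ k, ∀ h ∈ k, ⁅g, h⁆ ∈ Subgroup.centralizer (k : Set S)) :
    cl2 (Subgroup.closure k) := by
  unfold cl2
  rw [Subgroup.commutator_eq_bot_iff_le_centralizer, Subgroup.commutator_le]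
  intro g₁ hg₁ g₂ hg₂
  rw [Subgroup.centralizer_closure]
  have hc : ∀ z ∈ Subgroup.centralizer (k : Set S), ∀ x ∈ Subgroup.closure k,
      x * z * x⁻¹ = z := by
    intro z hz x hx
    rw [← Subgroup.centralizer_closure] at hz
    have := (Subgroup.mem_centralizer_iff.mp hz) x hx
    rw [this]; group
  induction hg₁, hg₂ using Subgroup.closure_induction₂ with
  | mem x y hx hy => exact h x hx y hy
  | one_left x hx => rw [commutatorElement_one_left]; exact Subgroup.one_mem _
  | one_right x hx => rw [commutatorElement_one_right]; exact Subgroup.one_mem _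
  | mul_left x y z hx hy hz h₁ h₂ =>
    rw [commutatorElement_mul_left_eq_conj_mul, hc _ h₂ x hx]
    exact Subgroup.mul_mem _ h₂ h₁
  | mul_right y z x hy hz hx h₁ h₂ =>
    rw [commutatorElement_mul_right_eq_mul_conj]
    have : ⁅x, y⁆ * y * ⁅x, z⁆ * y⁻¹ = ⁅x, y⁆ * (y * ⁅x, z⁆ * y⁻¹) := by group
    rw [this, hc _ h₂ y hy]
    exact Subgroup.mul_mem _ h₁ h₂
  | inv_left x y hx hy h₁ =>
    rw [commutatorElement_inv_left]
    have h' : ⁅y, x⁆ ∈ Subgroup.centralizer (k : Set S) := by
      rw [← commutatorElement_inv]; exact Subgroup.inv_mem _ h₁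
    have := hc _ h' x⁻¹ (Subgroup.inv_mem _ hx)
    rw [inv_inv] at this
    rw [this]; exact h'
  | inv_right x y hx hy h₁ =>
    rw [commutatorElement_inv_right]
    have h' : ⁅y, x⁆ ∈ Subgroup.centralizer (k : Set S) := by
      rw [← commutatorElement_inv]; exact Subgroup.inv_mem _ h₁
    have := hc _ h' y⁻¹ (Subgroup.inv_mem _ hy)
    rw [inv_inv] at this
    rw [this]; exact h'

theorem sup_zpowers_eq_closure (A : Subgroup S) (x : S) :
    A ⊔ Subgroup.zpowers x = Subgroup.closure ((A : Set S) ∪ {x}) := by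
  rw [Subgroup.closure_union, Subgroup.closure_eq, Subgroup.zpowers_eq_closure]

/-- `⟨A, b⟩` has class at most two when `A` is abelian and all `⁅a, b⁆` commute with `A` and `b`. -/
theorem cl2_sup_zpowers (A : Subgroup S) (b : S) (hA : A ≤ Subgroup.centralizer (A : Set S))
    (h1 : ∀ a ∈ A, ∀ a' ∈ A, a' * ⁅a, b⁆ = ⁅a, b⁆ * a')
    (h2 : ∀ a ∈ A, b * ⁅a, b⁆ = ⁅a, b⁆ * b) :
    cl2 (A ⊔ Subgroup.zpowers b) := by
  rw [sup_zpowers_eq_closure]
  apply cl2_closure
  have hab : ∀ a ∈ A, ⁅a, b⁆ ∈ Subgroup.centralizer ((A : Set S) ∪ {b}) := by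
    intro a ha
    rw [Subgroup.mem_centralizer_iff]
    rintro y (hy | hy)
    · exact h1 a ha y hy
    · rw [Set.mem_singleton_iff] at hy
      rw [hy]; exact h2 a ha
  rintro g (hg | hg) h (hh | hh)
  · have : ⁅g, h⁆ = 1 := by
      rw [commutatorElement_eq_one_iff_mul_comm]
      exact ((Subgroup.mem_centralizer_iff.mp (hA hh)) g hg)
    rw [this]; exact Subgroup.one_mem _
  · rw [Set.mem_singleton_iff] at hh
    rw [hh]; exact hab g hg
  · rw [Set.mem_singleton_iff] at hg
    rw [hg, ← commutatorElement_inv]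
    exact Subgroup.inv_mem _ (hab h hh)
  · rw [Set.mem_singleton_iff] at hg hh
    rw [hg, hh, commutatorElement_self]; exact Subgroup.one_mem _

/-- The defining property of the family, relative to a subgroup `H`. -/
def PF (H A : Subgroup S) : Prop :=
  A ≤ H ∧ A ≤ Subgroup.centralizer (A : Set S) ∧
    ∀ x ∈ H, cl2 (A ⊔ Subgroup.zpowers x) → ∀ a ∈ A, a * x = x * a

theorem PF_mono {H H' A : Subgroup S} (h : PF H A) (hH : H' ≤ H) (hA : A ≤ H') : PF H' A :=
  ⟨hA, h.2.1, fun x hx => h.2.2 x (hH hx)⟩

theorem mem_dStarFamily_iff (A : Subgroup S) : A ∈ Cfsg.dStarFamily S ↔ PF ⊤ A := by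
  unfold Cfsg.dStarFamily PF cl2
  rw [Set.mem_ofPred_eq, ← Subgroup.le_centralizer_iff_isMulCommutative]
  constructor
  · rintro ⟨h1, h2⟩
    exact ⟨le_top, h1, fun x _ => h2 x⟩
  · rintro ⟨-, h1, h2⟩
    exact ⟨h1, fun x => h2 x (Subgroup.mem_top x)⟩

/-- transport along an automorphism -/
theorem PF_map (φ : MulAut S) {H A : Subgroup S} (h : PF H A) :
    PF (H.map φ.toMonoidHom) (A.map φ.toMonoidHom) := by
  obtain ⟨h1, h2, h3⟩ := h
  refine ⟨Subgroup.map_mono h1, ?_, ?_⟩
  · rintro _ ⟨a, ha, rfl⟩
    rw [Subgroup.mem_centralizer_iff]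
    rintro _ ⟨a', ha', rfl⟩
    have := (Subgroup.mem_centralizer_iff.mp (h2 ha)) a' ha'
    simp only [MulEquiv.coe_toMonoidHom, ← map_mul, this]
  · rintro _ ⟨x, hx, rfl⟩ hcl _ ⟨a, ha, rfl⟩
    have hcl' : cl2 (A ⊔ Subgroup.zpowers x) := by
      unfold cl2 at hcl ⊢
      have e : (A ⊔ Subgroup.zpowers x).map φ.toMonoidHom =
          A.map φ.toMonoidHom ⊔ Subgroup.zpowers (φ.toMonoidHom x) := by
        rw [Subgroup.map_sup, MonoidHom.map_zpowers]
      rw [← e, ← Subgroup.map_commutator, ← Subgroup.map_commutator] at hcl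
      exact (Subgroup.map_eq_bot_iff_of_injective _ φ.injective).mp hcl
    have := h3 x hx hcl' a ha
    simp only [MulEquiv.coe_toMonoidHom, ← map_mul, this]

variable [Finite S] {p : ℕ} [Fact p.Prime]

/-- A member of the family centralizes every abelian subgroup (of `H`) that it normalizes. -/
theorem PF_centralizes (hS : IsPGroup p S) {H A B : Subgroup S} (hA : PF H A) (hBH : B ≤ H)
    (hB : B ≤ Subgroup.centralizer (B : Set S)) (hAB : A ≤ Subgroup.normalizer (B : Set S)) :
    ∀ a ∈ A, ∀ b ∈ B, a * b = b * a := by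
  have hnil : Group.IsNilpotent S := hS.isNilpotent
  obtain ⟨n, hn⟩ := hnil.nilpotent'
  have key : ∀ i : ℕ, ∀ b ∈ B, b ∈ Subgroup.upperCentralSeries S i → ∀ a ∈ A, a * b = b * a := by
    intro i
    induction i with
    | zero =>
      intro b _ hb a _
      rw [Subgroup.upperCentralSeries_zero, Subgroup.mem_bot] at hb
      rw [hb, mul_one, one_mul]
    | succ i ih =>
      intro b hbB hb a ha
      rw [Subgroup.mem_upperCentralSeries_succ_iff] at hb
      -- the commutators ⁅a', b⁆ lie in B ⊓ Z_i
      have hcomm : ∀ a' ∈ A, ⁅a', b⁆ ∈ B ∧ ⁅a', b⁆ ∈ Subgroup.upperCentralSeries S i := by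
        intro a' ha'
        constructor
        · have hn := hAB ha'
          rw [Subgroup.mem_normalizer_iff] at hn
          have : ⁅a', b⁆ = (a' * b * a'⁻¹) * b⁻¹ := by
            rw [commutatorElement_def]
          rw [this]
          exact B.mul_mem ((hn b).mp hbB) (B.inv_mem hbB)
        · have := hb a'
          rw [← commutatorElement_inv]
          exact Subgroup.inv_mem _ this
      have hcl : cl2 (A ⊔ Subgroup.zpowers b) := by
        apply cl2_sup_zpowers A b hA.2.1
        · intro a₁ ha₁ a₂ ha₂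
          exact ih _ (hcomm a₁ ha₁).1 (hcomm a₁ ha₁).2 a₂ ha₂
        · intro a₁ ha₁
          exact ((Subgroup.mem_centralizer_iff.mp (hB hbB)) _ (hcomm a₁ ha₁).1).symm
      exact hA.2.2 b (hBH hbB) hcl a ha
  intro a ha b hb
  exact key n b hb (by rw [hn]; exact Subgroup.mem_top b) a ha

/-- In a proper situation `A < H` there is a proper subgroup `M ≥ A` of `H` normalized by `H`. -/
theorem exists_normal_proper (hS : IsPGroup p S) {H A : Subgroup S} (hAH : A ≤ H) (hne : A ≠ H) :
    ∃ M : Subgroup S, A ≤ M ∧ M ≤ H ∧ M ≠ H ∧ H ≤ Subgroup.normalizer (M : Set S) := by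
  have hHp : IsPGroup p ↥H := hS.to_subgroup H
  have hnil : Group.IsNilpotent ↥H := hHp.isNilpotent
  have nc : NormalizerCondition ↥H := Group.normalizerCondition_of_isNilpotent
  have hne' : A.subgroupOf H ≠ ⊤ := by
    intro h
    rw [Subgroup.subgroupOf_eq_top] at h
    exact hne (le_antisymm hAH h)
  rcases eq_top_or_exists_le_coatom (A.subgroupOf H) with h | ⟨M', hM', hAM'⟩
  · exact absurd h hne'
  · have hnorm : M'.Normal := Subgroup.NormalizerCondition.normal_of_coatom M' nc hM'
    refine ⟨M'.map H.subtype, ?_, ?_, ?_, ?_⟩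
    · intro a ha
      exact ⟨⟨a, hAH ha⟩, hAM' (by rw [Subgroup.mem_subgroupOf]; exact ha), rfl⟩
    · exact Subgroup.map_subtype_le M'
    · intro h
      apply hM'.1
      rw [eq_top_iff]
      intro x _
      have : (x : S) ∈ M'.map H.subtype := by rw [h]; exact x.2
      obtain ⟨y, hy, hyx⟩ := this
      have : y = x := Subtype.ext hyx
      rw [← this]; exact hy
    · intro h hh
      rw [Subgroup.mem_normalizer_iff]
      intro x
      constructor
      · rintro ⟨y, hy, rfl⟩
        exact ⟨⟨h, hh⟩ * y * ⟨h, hh⟩⁻¹, hnorm.conj_mem y hy _, by simp⟩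
      · rintro ⟨y, hy, hyx⟩
        refine ⟨⟨h, hh⟩⁻¹ * y * ⟨h, hh⟩, ?_, ?_⟩
        · have := hnorm.conj_mem y hy ⟨h, hh⟩⁻¹
          simpa using this
        · simp only [Subgroup.subtype_apply, Subgroup.coe_mul, Subgroup.coe_inv] at hyx ⊢
          rw [hyx]; group

/-- Any two members of the family commute elementwise. -/
theorem PF_commute (hS : IsPGroup p S) :
    ∀ n : ℕ, ∀ H A B : Subgroup S, Nat.card H = n → PF H A → PF H B →
      ∀ a ∈ A, ∀ b ∈ B, a * b = b * a := by
  intro n
  induction n using Nat.strong_induction_on with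
  | _ n ih =>
    intro H A B hcard hA hB
    by_cases hsup : A ⊔ B = H
    · by_cases hAH : A = H
      · -- B ≤ A, and A is abelian
        intro a ha b hb
        have hbA : b ∈ A := by rw [hAH]; exact hB.1 hb
        exact ((Subgroup.mem_centralizer_iff.mp (hA.2.1 hbA)) a ha)
      · obtain ⟨M, hAM, hMH, hMne, hMnorm⟩ := exists_normal_proper hS hA.1 hAH
        have hMcard : Nat.card M < n := by
          rw [← hcard]
          apply lt_of_le_of_ne (Subgroup.card_le_of_le hMH)
          intro h
          exact hMne (Subgroup.eq_of_le_of_card_ge hMH h.ge)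
        -- conjugates of A under H are members of the family of M
        have hconj : ∀ h ∈ H, PF M (A.map (MulAut.conj h).toMonoidHom) := by
          intro h hh
          have := PF_map (MulAut.conj h) (PF_mono hA hMH hAM)
          have e : M.map (MulAut.conj h).toMonoidHom = M :=
            Subgroup.mem_normalizer_iff_map_conj_eq.mp (hMnorm hh)
          rwa [e] at this
        -- the normal closure of A in H
        set N : Subgroup S := ⨆ h : ↥H, A.map (MulAut.conj (h : S)).toMonoidHom with hN
        have hNM : N ≤ M := iSup_le fun h => (hconj h.1 h.2).1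
        have hcomm : ∀ h h' : ↥H, A.map (MulAut.conj (h : S)).toMonoidHom ≤
            Subgroup.centralizer ((A.map (MulAut.conj (h' : S)).toMonoidHom : Subgroup S) : Set S) := by
          intro h h' x hx
          rw [Subgroup.mem_centralizer_iff]
          intro y hy
          exact ih _ hMcard M _ _ rfl (hconj h'.1 h'.2) (hconj h.1 h.2) y hy x hx
        have hNab : N ≤ Subgroup.centralizer (N : Set S) := by
          apply iSup_le
          intro h
          rw [Subgroup.le_centralizer_iff]
          apply iSup_le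
          intro h'
          exact hcomm h' h
        have hAN : A ≤ N := by
          have : A.map (MulAut.conj ((1 : ↥H) : S)).toMonoidHom ≤ N :=
            le_iSup (fun h : ↥H => A.map (MulAut.conj (h : S)).toMonoidHom) 1
          intro a ha
          exact this ⟨a, ha, by simp⟩
        have hHN : H ≤ Subgroup.normalizer (N : Set S) := by
          intro g hg
          rw [Subgroup.mem_normalizer_iff_map_conj_eq]
          have hle : N.map (MulAut.conj g).toMonoidHom ≤ N := by
            rw [hN, Subgroup.map_iSup]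
            apply iSup_le
            intro h
            refine le_trans ?_ (le_iSup (fun h : ↥H => A.map (MulAut.conj (h : S)).toMonoidHom)
              (⟨g, hg⟩ * h))
            rintro _ ⟨_, ⟨a, ha, rfl⟩, rfl⟩
            exact ⟨a, ha, by simp [mul_assoc]⟩
          exact Subgroup.eq_of_le_of_card_ge hle
            (by rw [Subgroup.card_map_of_injective (MulAut.conj g).injective])
        have := PF_centralizes hS hB (hNM.trans hMH) hNab (hB.1.trans hHN)
        intro a ha b hb
        exact (this b hb a (hAN ha)).symm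
    · have hle : A ⊔ B ≤ H := sup_le hA.1 hB.1
      have hlt : Nat.card ↥(A ⊔ B) < n := by
        rw [← hcard]
        apply lt_of_le_of_ne (Subgroup.card_le_of_le hle)
        intro h
        exact hsup (Subgroup.eq_of_le_of_card_ge hle h.ge)
      exact ih _ hlt (A ⊔ B) A B rfl (PF_mono hA hle le_sup_left) (PF_mono hB hle le_sup_right)

/-- Members of `dStarFamily` commute elementwise. -/
theorem family_commute (hS : IsPGroup p S) {A B : Subgroup S} (hA : A ∈ Cfsg.dStarFamily S)
    (hB : B ∈ Cfsg.dStarFamily S) : ∀ a ∈ A, ∀ b ∈ B, a * b = b * a :=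
  PF_commute hS _ ⊤ A B rfl ((mem_dStarFamily_iff A).mp hA) ((mem_dStarFamily_iff B).mp hB)

/-- `D*(S)` is a member of its family. -/
theorem dStar_mem (hS : IsPGroup p S) : Cfsg.dStar S ∈ Cfsg.dStarFamily S := by
  rw [mem_dStarFamily_iff]
  refine ⟨le_top, ?_, ?_⟩
  · unfold Cfsg.dStar
    apply sSup_le
    intro A hA
    rw [Subgroup.le_centralizer_iff]
    apply sSup_le
    intro B hB
    intro b hb
    rw [Subgroup.mem_centralizer_iff]
    intro a ha
    exact family_commute hS hA hB a ha b hb
  · intro x _ hcl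
    have : Cfsg.dStar S ≤ Subgroup.centralizer ({x} : Set S) := by
      unfold Cfsg.dStar
      apply sSup_le
      intro A hA a ha
      rw [Subgroup.mem_centralizer_singleton_iff]
      have hcl' : cl2 (A ⊔ Subgroup.zpowers x) :=
        cl2_mono (sup_le_sup_right (le_sSup hA) _) hcl
      exact (((mem_dStarFamily_iff A).mp hA).2.2 x (Subgroup.mem_top x) hcl' a ha)
    intro a ha
    have := this ha
    rw [Subgroup.mem_centralizer_singleton_iff] at this
    exact this

/-- A member of the family centralizes every abelian subgroup it normalizes (absolute form). -/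
theorem family_centralizes (hS : IsPGroup p S) {A B : Subgroup S} (hA : A ∈ Cfsg.dStarFamily S)
    (hB : B ≤ Subgroup.centralizer (B : Set S)) (hAB : A ≤ Subgroup.normalizer (B : Set S)) :
    ∀ a ∈ A, ∀ b ∈ B, a * b = b * a :=
  PF_centralizes hS ((mem_dStarFamily_iff A).mp hA) le_top hB hAB

end Cfsg.Agent.Lib.Helper51_DStar
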