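import Mathlib

/-!
A concrete model `F9 = F_3[i]` of the field with nine elements, and the ring homomorphism
`F9 → F` attached to an element `lam` with `lam ^ 2 = -1` in a field of characteristic three.
-/

set_option autoImplicit false

namespace Cfsg.Agent.Lib.Helper51_F9

/-- the field with nine elements, as `F_3[i]` -/
@[ext] structure F9 where
  re : ZMod 3
  im : ZMod 3
deriving DecidableEq

namespace F9

instance : Zero F9 := ⟨⟨0, 0⟩⟩
instance : One F9 := ⟨⟨1, 0⟩⟩
instance : Add F9 := ⟨fun x y => ⟨x.re + y.re, x.im + y.im⟩⟩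
instance : Neg F9 := ⟨fun x => ⟨-x.re, -x.im⟩⟩
instance : Mul F9 := ⟨fun x y => ⟨x.re * y.re - x.im * y.im, x.re * y.im + x.im * y.re⟩⟩

@[simp] theorem zero_re : (0 : F9).re = 0 := rfl
@[simp] theorem zero_im : (0 : F9).im = 0 := rfl
@[simp] theorem one_re : (1 : F9).re = 1 := rfl
@[simp] theorem one_im : (1 : F9).im = 0 := rfl
@[simp] theorem add_re (x y : F9) : (x + y).re = x.re + y.re := rfl
@[simp] theorem add_im (x y : F9) : (x + y).im = x.im + y.im := rfl
@[simp] theorem neg_re (x : F9) : (-x).re = -x.re := rfl
@[simp] theorem neg_im (x : F9) : (-x).im = -x.im := rfl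
@[simp] theorem mul_re (x y : F9) : (x * y).re = x.re * y.re - x.im * y.im := rfl
@[simp] theorem mul_im (x y : F9) : (x * y).im = x.re * y.im + x.im * y.re := rfl

instance : CommRing F9 where
  add_assoc x y z := by ext <;> simp [add_assoc]
  zero_add x := by ext <;> simp
  add_zero x := by ext <;> simp
  nsmul := nsmulRec
  zsmul := zsmulRec
  neg_add_cancel x := by ext <;> simp
  add_comm x y := by ext <;> simp [add_comm]
  left_distrib x y z := by ext <;> simp <;> ring
  right_distrib x y z := by ext <;> simp <;> ring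
  zero_mul x := by ext <;> simp
  mul_zero x := by ext <;> simp
  mul_assoc x y z := by ext <;> simp <;> ring
  one_mul x := by ext <;> simp
  mul_one x := by ext <;> simp
  mul_comm x y := by ext <;> simp <;> ring

/-- the equivalence with pairs -/
def equivProd : F9 ≃ ZMod 3 × ZMod 3 where
  toFun x := (x.re, x.im)
  invFun p := ⟨p.1, p.2⟩
  left_inv _ := rfl
  right_inv _ := rfl

instance : Fintype F9 := Fintype.ofEquiv _ equivProd.symm

theorem card_eq : Fintype.card F9 = 9 := by
  rw [Fintype.card_congr equivProd, Fintype.card_prod, ZMod.card]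

instance : Field F9 where
  inv x := x ^ 7
  exists_pair_ne := ⟨0, 1, by decide⟩
  mul_inv_cancel := by decide
  inv_zero := by decide
  nnqsmul := _
  nnqsmul_def := fun _ _ => rfl
  qsmul := _
  qsmul_def := fun _ _ => rfl

/-- the imaginary unit -/
def I : F9 := ⟨0, 1⟩

theorem I_mul_I : I * I = -1 := by decide

end F9

variable {F : Type*} [Field F]

/-- the ring homomorphism `F9 → F` sending `i` to `lam` -/
noncomputable def phi [CharP F 3] (lam : F) (hlam : lam ^ 2 = -1) : F9 →+* F where
  toFun x := ZMod.castHom (dvd_refl 3) F x.re + ZMod.castHom (dvd_refl 3) F x.im * lam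
  map_one' := by simp
  map_zero' := by simp
  map_add' x y := by simp only [F9.add_re, F9.add_im, map_add]; ring
  map_mul' x y := by
    simp only [F9.mul_re, F9.mul_im, map_add, map_sub, map_mul]
    linear_combination (-(ZMod.castHom (dvd_refl 3) F x.im * ZMod.castHom (dvd_refl 3) F y.im)) * hlam

theorem phi_I [CharP F 3] (lam : F) (hlam : lam ^ 2 = -1) : phi lam hlam F9.I = lam := by
  simp [phi, F9.I]

theorem phi_injective [CharP F 3] (lam : F) (hlam : lam ^ 2 = -1) :
    Function.Injective (phi lam hlam) := (phi lam hlam).injective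

theorem phi_surjective [CharP F 3] (lam : F) (hlam : lam ^ 2 = -1)
    (hgen : Subfield.closure ({lam} : Set F) = ⊤) : Function.Surjective (phi lam hlam) := by
  intro x
  have h1 : Subfield.closure ({lam} : Set F) ≤ (phi lam hlam).fieldRange := by
    rw [Subfield.closure_le]
    intro y hy
    rw [Set.mem_singleton_iff] at hy
    subst hy
    exact ⟨F9.I, phi_I _ hlam⟩
  rw [hgen] at h1
  exact h1 (Subfield.mem_top x)

theorem card_of_sq_eq_neg_one [Fintype F] [CharP F 3] (lam : F) (hlam : lam ^ 2 = -1)
    (hgen : Subfield.closure ({lam} : Set F) = ⊤) : Fintype.card F = 9 := by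
  rw [← F9.card_eq]
  exact (Fintype.card_congr (Equiv.ofBijective _
    ⟨phi_injective lam hlam, phi_surjective lam hlam hgen⟩)).symm

end Cfsg.Agent.Lib.Helper51_F9
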