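import Cfsg.Agent.Lib.Helper51_F9
import Cfsg.Agent.Lib.Helper50_SL2Mat

/-!
The subgroup of `SL(2, F9)` generated by `tL 1` and `tU i` has order `120`
(explicit enumeration, checked by kernel computation).
-/

set_option autoImplicit false

namespace Cfsg.Agent.Lib.Helper51_G120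

open Matrix Cfsg.Agent.Lib.Helper51_F9 Cfsg.Agent.Lib.Helper50_SL2Mat
open scoped MatrixGroups

/-- quadruples of entries -/
abbrev Q4 : Type := F9 × F9 × F9 × F9

/-- the `120` elements -/
def lst : List Q4 :=
[
  (⟨1,0⟩, ⟨0,0⟩, ⟨0,0⟩, ⟨1,0⟩), (⟨1,0⟩, ⟨0,0⟩, ⟨1,0⟩, ⟨1,0⟩), (⟨1,0⟩, ⟨0,1⟩, ⟨0,0⟩, ⟨1,0⟩),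
  (⟨1,0⟩, ⟨0,0⟩, ⟨2,0⟩, ⟨1,0⟩), (⟨1,0⟩, ⟨0,1⟩, ⟨1,0⟩, ⟨1,1⟩), (⟨1,1⟩, ⟨0,1⟩, ⟨1,0⟩, ⟨1,0⟩),
  (⟨1,0⟩, ⟨0,2⟩, ⟨0,0⟩, ⟨1,0⟩), (⟨1,0⟩, ⟨0,1⟩, ⟨2,0⟩, ⟨1,2⟩), (⟨1,1⟩, ⟨0,1⟩, ⟨2,1⟩, ⟨1,1⟩),
  (⟨1,0⟩, ⟨0,2⟩, ⟨1,0⟩, ⟨1,2⟩), (⟨1,2⟩, ⟨0,1⟩, ⟨2,0⟩, ⟨1,0⟩), (⟨1,1⟩, ⟨2,2⟩, ⟨1,0⟩, ⟨1,1⟩),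
  (⟨1,2⟩, ⟨0,2⟩, ⟨1,0⟩, ⟨1,0⟩), (⟨1,1⟩, ⟨0,1⟩, ⟨0,2⟩, ⟨1,2⟩), (⟨1,0⟩, ⟨0,2⟩, ⟨2,0⟩, ⟨1,1⟩),
  (⟨1,2⟩, ⟨0,1⟩, ⟨0,2⟩, ⟨1,1⟩), (⟨1,1⟩, ⟨2,2⟩, ⟨2,1⟩, ⟨0,0⟩), (⟨1,2⟩, ⟨0,2⟩, ⟨2,2⟩, ⟨1,2⟩),
  (⟨1,2⟩, ⟨1,2⟩, ⟨2,0⟩, ⟨1,2⟩), (⟨0,0⟩, ⟨2,2⟩, ⟨2,1⟩, ⟨1,1⟩), (⟨1,1⟩, ⟨1,0⟩, ⟨1,0⟩, ⟨1,2⟩),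
  (⟨1,1⟩, ⟨0,2⟩, ⟨2,0⟩, ⟨1,0⟩), (⟨1,2⟩, ⟨1,0⟩, ⟨1,0⟩, ⟨1,1⟩), (⟨1,2⟩, ⟨0,1⟩, ⟨1,1⟩, ⟨1,2⟩),
  (⟨1,1⟩, ⟨2,2⟩, ⟨0,2⟩, ⟨2,2⟩), (⟨1,2⟩, ⟨0,2⟩, ⟨0,1⟩, ⟨1,1⟩), (⟨1,2⟩, ⟨1,2⟩, ⟨0,2⟩, ⟨2,1⟩),
  (⟨0,0⟩, ⟨2,2⟩, ⟨2,1⟩, ⟨0,0⟩), (⟨1,1⟩, ⟨1,0⟩, ⟨2,1⟩, ⟨2,2⟩), (⟨1,1⟩, ⟨0,2⟩, ⟨0,1⟩, ⟨1,2⟩),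
  (⟨1,2⟩, ⟨1,0⟩, ⟨2,2⟩, ⟨2,1⟩), (⟨2,1⟩, ⟨1,2⟩, ⟨0,2⟩, ⟨1,2⟩), (⟨1,2⟩, ⟨2,0⟩, ⟨2,0⟩, ⟨1,1⟩),
  (⟨2,2⟩, ⟨2,2⟩, ⟨0,2⟩, ⟨1,1⟩), (⟨2,1⟩, ⟨1,0⟩, ⟨2,2⟩, ⟨1,2⟩), (⟨1,1⟩, ⟨2,0⟩, ⟨2,0⟩, ⟨1,2⟩),
  (⟨2,2⟩, ⟨1,0⟩, ⟨2,1⟩, ⟨1,1⟩), (⟨1,2⟩, ⟨2,1⟩, ⟨1,0⟩, ⟨1,2⟩), (⟨1,2⟩, ⟨1,2⟩, ⟨1,1⟩, ⟨0,0⟩),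
  (⟨0,0⟩, ⟨2,2⟩, ⟨2,1⟩, ⟨2,2⟩), (⟨1,1⟩, ⟨1,0⟩, ⟨0,2⟩, ⟨0,2⟩), (⟨1,1⟩, ⟨0,2⟩, ⟨1,2⟩, ⟨1,1⟩),
  (⟨1,2⟩, ⟨1,0⟩, ⟨0,1⟩, ⟨0,1⟩), (⟨2,1⟩, ⟨1,2⟩, ⟨2,0⟩, ⟨2,1⟩), (⟨1,2⟩, ⟨2,0⟩, ⟨0,2⟩, ⟨0,1⟩),
  (⟨2,2⟩, ⟨2,2⟩, ⟨2,1⟩, ⟨0,0⟩), (⟨2,1⟩, ⟨1,0⟩, ⟨1,0⟩, ⟨2,2⟩), (⟨1,1⟩, ⟨2,0⟩, ⟨0,1⟩, ⟨0,2⟩),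
  (⟨2,2⟩, ⟨1,0⟩, ⟨1,0⟩, ⟨2,1⟩), (⟨1,2⟩, ⟨2,1⟩, ⟨2,2⟩, ⟨0,0⟩), (⟨0,0⟩, ⟨1,2⟩, ⟨1,1⟩, ⟨1,2⟩),
  (⟨2,1⟩, ⟨0,1⟩, ⟨0,2⟩, ⟨2,2⟩), (⟨0,2⟩, ⟨2,0⟩, ⟨0,1⟩, ⟨1,1⟩), (⟨2,2⟩, ⟨0,1⟩, ⟨0,2⟩, ⟨2,1⟩),
  (⟨0,1⟩, ⟨1,0⟩, ⟨0,1⟩, ⟨1,2⟩), (⟨2,1⟩, ⟨0,2⟩, ⟨2,2⟩, ⟨2,1⟩), (⟨0,1⟩, ⟨2,0⟩, ⟨0,2⟩, ⟨1,2⟩),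
  (⟨1,1⟩, ⟨1,1⟩, ⟨2,0⟩, ⟨1,1⟩), (⟨0,2⟩, ⟨1,0⟩, ⟨0,2⟩, ⟨1,1⟩), (⟨0,0⟩, ⟨2,1⟩, ⟨2,2⟩, ⟨1,2⟩),
  (⟨2,1⟩, ⟨1,2⟩, ⟨1,1⟩, ⟨0,0⟩), (⟨1,2⟩, ⟨2,0⟩, ⟨1,1⟩, ⟨2,1⟩), (⟨2,2⟩, ⟨2,2⟩, ⟨1,0⟩, ⟨2,2⟩),
  (⟨2,1⟩, ⟨1,0⟩, ⟨0,1⟩, ⟨0,2⟩), (⟨1,1⟩, ⟨2,0⟩, ⟨1,2⟩, ⟨2,2⟩), (⟨2,2⟩, ⟨1,0⟩, ⟨0,2⟩, ⟨0,1⟩),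
  (⟨1,2⟩, ⟨2,1⟩, ⟨0,1⟩, ⟨2,1⟩), (⟨0,0⟩, ⟨1,2⟩, ⟨1,1⟩, ⟨2,1⟩), (⟨2,1⟩, ⟨0,1⟩, ⟨2,0⟩, ⟨2,0⟩),
  (⟨0,2⟩, ⟨2,0⟩, ⟨0,0⟩, ⟨0,1⟩), (⟨2,2⟩, ⟨0,1⟩, ⟨2,1⟩, ⟨2,2⟩), (⟨0,1⟩, ⟨1,0⟩, ⟨0,2⟩, ⟨2,2⟩),
  (⟨2,1⟩, ⟨0,2⟩, ⟨1,0⟩, ⟨2,0⟩), (⟨0,1⟩, ⟨2,0⟩, ⟨0,0⟩, ⟨0,2⟩), (⟨1,1⟩, ⟨1,1⟩, ⟨0,1⟩, ⟨2,2⟩),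
  (⟨0,2⟩, ⟨1,0⟩, ⟨0,1⟩, ⟨2,1⟩), (⟨0,0⟩, ⟨2,1⟩, ⟨2,2⟩, ⟨0,0⟩), (⟨0,0⟩, ⟨1,2⟩, ⟨1,1⟩, ⟨0,0⟩),
  (⟨2,1⟩, ⟨2,0⟩, ⟨0,2⟩, ⟨0,2⟩), (⟨2,2⟩, ⟨2,0⟩, ⟨1,2⟩, ⟨1,1⟩), (⟨0,2⟩, ⟨0,0⟩, ⟨0,1⟩, ⟨0,1⟩),
  (⟨2,0⟩, ⟨0,1⟩, ⟨2,0⟩, ⟨2,1⟩), (⟨0,1⟩, ⟨0,0⟩, ⟨0,1⟩, ⟨0,2⟩), (⟨2,0⟩, ⟨0,2⟩, ⟨1,0⟩, ⟨2,1⟩),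
  (⟨2,1⟩, ⟨2,1⟩, ⟨2,2⟩, ⟨0,0⟩), (⟨2,1⟩, ⟨2,0⟩, ⟨1,1⟩, ⟨1,2⟩), (⟨2,2⟩, ⟨1,1⟩, ⟨0,1⟩, ⟨1,1⟩),
  (⟨0,2⟩, ⟨2,0⟩, ⟨0,2⟩, ⟨2,1⟩), (⟨2,1⟩, ⟨2,1⟩, ⟨0,1⟩, ⟨1,2⟩), (⟨0,0⟩, ⟨2,1⟩, ⟨2,2⟩, ⟨2,1⟩),
  (⟨2,1⟩, ⟨0,1⟩, ⟨1,1⟩, ⟨2,1⟩), (⟨2,2⟩, ⟨0,1⟩, ⟨1,0⟩, ⟨2,0⟩), (⟨0,1⟩, ⟨1,0⟩, ⟨0,0⟩, ⟨0,2⟩),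
  (⟨2,1⟩, ⟨0,2⟩, ⟨0,1⟩, ⟨2,2⟩), (⟨0,1⟩, ⟨2,0⟩, ⟨0,1⟩, ⟨2,2⟩), (⟨1,1⟩, ⟨1,1⟩, ⟨1,2⟩, ⟨0,0⟩),
  (⟨0,2⟩, ⟨1,0⟩, ⟨0,0⟩, ⟨0,1⟩), (⟨2,1⟩, ⟨2,0⟩, ⟨2,0⟩, ⟨2,2⟩), (⟨2,2⟩, ⟨2,0⟩, ⟨0,1⟩, ⟨0,1⟩),
  (⟨0,2⟩, ⟨0,0⟩, ⟨0,0⟩, ⟨0,1⟩), (⟨2,0⟩, ⟨0,1⟩, ⟨1,0⟩, ⟨2,2⟩), (⟨0,1⟩, ⟨0,0⟩, ⟨0,2⟩, ⟨0,2⟩),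
  (⟨2,0⟩, ⟨0,2⟩, ⟨0,0⟩, ⟨2,0⟩), (⟨2,1⟩, ⟨2,1⟩, ⟨1,0⟩, ⟨2,1⟩), (⟨2,2⟩, ⟨1,1⟩, ⟨2,0⟩, ⟨2,2⟩),
  (⟨2,2⟩, ⟨0,2⟩, ⟨1,2⟩, ⟨2,2⟩), (⟨0,2⟩, ⟨0,0⟩, ⟨0,2⟩, ⟨0,1⟩), (⟨2,0⟩, ⟨0,0⟩, ⟨2,0⟩, ⟨2,0⟩),
  (⟨0,1⟩, ⟨0,0⟩, ⟨0,0⟩, ⟨0,2⟩), (⟨2,2⟩, ⟨0,2⟩, ⟨0,1⟩, ⟨2,1⟩), (⟨0,0⟩, ⟨1,1⟩, ⟨1,2⟩, ⟨1,1⟩),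
  (⟨2,2⟩, ⟨2,0⟩, ⟨2,0⟩, ⟨2,1⟩), (⟨2,0⟩, ⟨0,1⟩, ⟨0,0⟩, ⟨2,0⟩), (⟨2,0⟩, ⟨0,2⟩, ⟨2,0⟩, ⟨2,2⟩),
  (⟨2,2⟩, ⟨1,1⟩, ⟨1,2⟩, ⟨0,0⟩), (⟨2,0⟩, ⟨0,0⟩, ⟨1,0⟩, ⟨2,0⟩), (⟨2,2⟩, ⟨0,2⟩, ⟨2,0⟩, ⟨2,0⟩),
  (⟨0,0⟩, ⟨1,1⟩, ⟨1,2⟩, ⟨2,2⟩), (⟨2,0⟩, ⟨0,0⟩, ⟨0,0⟩, ⟨2,0⟩), (⟨0,0⟩, ⟨1,1⟩, ⟨1,2⟩, ⟨0,0⟩)]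

/-- spanning tree certificate: `(x, y, b)` says `x = mulR1 y` (`b = true`) or `x = mulR2 y` -/
def cert : List (Q4 × Q4 × Bool) :=
[
  ((⟨1,0⟩, ⟨0,0⟩, ⟨1,0⟩, ⟨1,0⟩), (⟨1,0⟩, ⟨0,0⟩, ⟨0,0⟩, ⟨1,0⟩), true), ((⟨1,0⟩, ⟨0,1⟩, ⟨0,0⟩, ⟨1,0⟩), (⟨1,0⟩, ⟨0,0⟩, ⟨0,0⟩, ⟨1,0⟩), false),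
  ((⟨1,0⟩, ⟨0,0⟩, ⟨2,0⟩, ⟨1,0⟩), (⟨1,0⟩, ⟨0,0⟩, ⟨1,0⟩, ⟨1,0⟩), true), ((⟨1,0⟩, ⟨0,1⟩, ⟨1,0⟩, ⟨1,1⟩), (⟨1,0⟩, ⟨0,0⟩, ⟨1,0⟩, ⟨1,0⟩), false),
  ((⟨1,1⟩, ⟨0,1⟩, ⟨1,0⟩, ⟨1,0⟩), (⟨1,0⟩, ⟨0,1⟩, ⟨0,0⟩, ⟨1,0⟩), true), ((⟨1,0⟩, ⟨0,2⟩, ⟨0,0⟩, ⟨1,0⟩), (⟨1,0⟩, ⟨0,1⟩, ⟨0,0⟩, ⟨1,0⟩), false),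
  ((⟨1,0⟩, ⟨0,1⟩, ⟨2,0⟩, ⟨1,2⟩), (⟨1,0⟩, ⟨0,0⟩, ⟨2,0⟩, ⟨1,0⟩), false), ((⟨1,1⟩, ⟨0,1⟩, ⟨2,1⟩, ⟨1,1⟩), (⟨1,0⟩, ⟨0,1⟩, ⟨1,0⟩, ⟨1,1⟩), true),
  ((⟨1,0⟩, ⟨0,2⟩, ⟨1,0⟩, ⟨1,2⟩), (⟨1,0⟩, ⟨0,1⟩, ⟨1,0⟩, ⟨1,1⟩), false), ((⟨1,2⟩, ⟨0,1⟩, ⟨2,0⟩, ⟨1,0⟩), (⟨1,1⟩, ⟨0,1⟩, ⟨1,0⟩, ⟨1,0⟩), true),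
  ((⟨1,1⟩, ⟨2,2⟩, ⟨1,0⟩, ⟨1,1⟩), (⟨1,1⟩, ⟨0,1⟩, ⟨1,0⟩, ⟨1,0⟩), false), ((⟨1,2⟩, ⟨0,2⟩, ⟨1,0⟩, ⟨1,0⟩), (⟨1,0⟩, ⟨0,2⟩, ⟨0,0⟩, ⟨1,0⟩), true),
  ((⟨1,1⟩, ⟨0,1⟩, ⟨0,2⟩, ⟨1,2⟩), (⟨1,0⟩, ⟨0,1⟩, ⟨2,0⟩, ⟨1,2⟩), true), ((⟨1,0⟩, ⟨0,2⟩, ⟨2,0⟩, ⟨1,1⟩), (⟨1,0⟩, ⟨0,1⟩, ⟨2,0⟩, ⟨1,2⟩), false),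
  ((⟨1,2⟩, ⟨0,1⟩, ⟨0,2⟩, ⟨1,1⟩), (⟨1,1⟩, ⟨0,1⟩, ⟨2,1⟩, ⟨1,1⟩), true), ((⟨1,1⟩, ⟨2,2⟩, ⟨2,1⟩, ⟨0,0⟩), (⟨1,1⟩, ⟨0,1⟩, ⟨2,1⟩, ⟨1,1⟩), false),
  ((⟨1,2⟩, ⟨0,2⟩, ⟨2,2⟩, ⟨1,2⟩), (⟨1,0⟩, ⟨0,2⟩, ⟨1,0⟩, ⟨1,2⟩), true), ((⟨1,2⟩, ⟨1,2⟩, ⟨2,0⟩, ⟨1,2⟩), (⟨1,2⟩, ⟨0,1⟩, ⟨2,0⟩, ⟨1,0⟩), false),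
  ((⟨0,0⟩, ⟨2,2⟩, ⟨2,1⟩, ⟨1,1⟩), (⟨1,1⟩, ⟨2,2⟩, ⟨1,0⟩, ⟨1,1⟩), true), ((⟨1,1⟩, ⟨1,0⟩, ⟨1,0⟩, ⟨1,2⟩), (⟨1,1⟩, ⟨2,2⟩, ⟨1,0⟩, ⟨1,1⟩), false),
  ((⟨1,1⟩, ⟨0,2⟩, ⟨2,0⟩, ⟨1,0⟩), (⟨1,2⟩, ⟨0,2⟩, ⟨1,0⟩, ⟨1,0⟩), true), ((⟨1,2⟩, ⟨1,0⟩, ⟨1,0⟩, ⟨1,1⟩), (⟨1,2⟩, ⟨0,2⟩, ⟨1,0⟩, ⟨1,0⟩), false),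
  ((⟨1,2⟩, ⟨0,1⟩, ⟨1,1⟩, ⟨1,2⟩), (⟨1,1⟩, ⟨0,1⟩, ⟨0,2⟩, ⟨1,2⟩), true), ((⟨1,1⟩, ⟨2,2⟩, ⟨0,2⟩, ⟨2,2⟩), (⟨1,1⟩, ⟨0,1⟩, ⟨0,2⟩, ⟨1,2⟩), false),
  ((⟨1,2⟩, ⟨0,2⟩, ⟨0,1⟩, ⟨1,1⟩), (⟨1,0⟩, ⟨0,2⟩, ⟨2,0⟩, ⟨1,1⟩), true), ((⟨1,2⟩, ⟨1,2⟩, ⟨0,2⟩, ⟨2,1⟩), (⟨1,2⟩, ⟨0,1⟩, ⟨0,2⟩, ⟨1,1⟩), false),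
  ((⟨0,0⟩, ⟨2,2⟩, ⟨2,1⟩, ⟨0,0⟩), (⟨1,1⟩, ⟨2,2⟩, ⟨2,1⟩, ⟨0,0⟩), true), ((⟨1,1⟩, ⟨1,0⟩, ⟨2,1⟩, ⟨2,2⟩), (⟨1,1⟩, ⟨2,2⟩, ⟨2,1⟩, ⟨0,0⟩), false),
  ((⟨1,1⟩, ⟨0,2⟩, ⟨0,1⟩, ⟨1,2⟩), (⟨1,2⟩, ⟨0,2⟩, ⟨2,2⟩, ⟨1,2⟩), true), ((⟨1,2⟩, ⟨1,0⟩, ⟨2,2⟩, ⟨2,1⟩), (⟨1,2⟩, ⟨0,2⟩, ⟨2,2⟩, ⟨1,2⟩), false),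
  ((⟨2,1⟩, ⟨1,2⟩, ⟨0,2⟩, ⟨1,2⟩), (⟨1,2⟩, ⟨1,2⟩, ⟨2,0⟩, ⟨1,2⟩), true), ((⟨1,2⟩, ⟨2,0⟩, ⟨2,0⟩, ⟨1,1⟩), (⟨1,2⟩, ⟨1,2⟩, ⟨2,0⟩, ⟨1,2⟩), false),
  ((⟨2,2⟩, ⟨2,2⟩, ⟨0,2⟩, ⟨1,1⟩), (⟨0,0⟩, ⟨2,2⟩, ⟨2,1⟩, ⟨1,1⟩), true), ((⟨2,1⟩, ⟨1,0⟩, ⟨2,2⟩, ⟨1,2⟩), (⟨1,1⟩, ⟨1,0⟩, ⟨1,0⟩, ⟨1,2⟩), true),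
  ((⟨1,1⟩, ⟨2,0⟩, ⟨2,0⟩, ⟨1,2⟩), (⟨1,1⟩, ⟨0,2⟩, ⟨2,0⟩, ⟨1,0⟩), false), ((⟨2,2⟩, ⟨1,0⟩, ⟨2,1⟩, ⟨1,1⟩), (⟨1,2⟩, ⟨1,0⟩, ⟨1,0⟩, ⟨1,1⟩), true),
  ((⟨1,2⟩, ⟨2,1⟩, ⟨1,0⟩, ⟨1,2⟩), (⟨1,2⟩, ⟨1,0⟩, ⟨1,0⟩, ⟨1,1⟩), false), ((⟨1,2⟩, ⟨1,2⟩, ⟨1,1⟩, ⟨0,0⟩), (⟨1,2⟩, ⟨0,1⟩, ⟨1,1⟩, ⟨1,2⟩), false),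
  ((⟨0,0⟩, ⟨2,2⟩, ⟨2,1⟩, ⟨2,2⟩), (⟨1,1⟩, ⟨2,2⟩, ⟨0,2⟩, ⟨2,2⟩), true), ((⟨1,1⟩, ⟨1,0⟩, ⟨0,2⟩, ⟨0,2⟩), (⟨1,1⟩, ⟨2,2⟩, ⟨0,2⟩, ⟨2,2⟩), false),
  ((⟨1,1⟩, ⟨0,2⟩, ⟨1,2⟩, ⟨1,1⟩), (⟨1,2⟩, ⟨0,2⟩, ⟨0,1⟩, ⟨1,1⟩), true), ((⟨1,2⟩, ⟨1,0⟩, ⟨0,1⟩, ⟨0,1⟩), (⟨1,2⟩, ⟨0,2⟩, ⟨0,1⟩, ⟨1,1⟩), false),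
  ((⟨2,1⟩, ⟨1,2⟩, ⟨2,0⟩, ⟨2,1⟩), (⟨1,2⟩, ⟨1,2⟩, ⟨0,2⟩, ⟨2,1⟩), true), ((⟨1,2⟩, ⟨2,0⟩, ⟨0,2⟩, ⟨0,1⟩), (⟨1,2⟩, ⟨1,2⟩, ⟨0,2⟩, ⟨2,1⟩), false),
  ((⟨2,2⟩, ⟨2,2⟩, ⟨2,1⟩, ⟨0,0⟩), (⟨0,0⟩, ⟨2,2⟩, ⟨2,1⟩, ⟨0,0⟩), true), ((⟨2,1⟩, ⟨1,0⟩, ⟨1,0⟩, ⟨2,2⟩), (⟨1,1⟩, ⟨1,0⟩, ⟨2,1⟩, ⟨2,2⟩), true),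
  ((⟨1,1⟩, ⟨2,0⟩, ⟨0,1⟩, ⟨0,2⟩), (⟨1,1⟩, ⟨0,2⟩, ⟨0,1⟩, ⟨1,2⟩), false), ((⟨2,2⟩, ⟨1,0⟩, ⟨1,0⟩, ⟨2,1⟩), (⟨1,2⟩, ⟨1,0⟩, ⟨2,2⟩, ⟨2,1⟩), true),
  ((⟨1,2⟩, ⟨2,1⟩, ⟨2,2⟩, ⟨0,0⟩), (⟨1,2⟩, ⟨1,0⟩, ⟨2,2⟩, ⟨2,1⟩), false), ((⟨0,0⟩, ⟨1,2⟩, ⟨1,1⟩, ⟨1,2⟩), (⟨2,1⟩, ⟨1,2⟩, ⟨0,2⟩, ⟨1,2⟩), true),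
  ((⟨2,1⟩, ⟨0,1⟩, ⟨0,2⟩, ⟨2,2⟩), (⟨2,1⟩, ⟨1,2⟩, ⟨0,2⟩, ⟨1,2⟩), false), ((⟨0,2⟩, ⟨2,0⟩, ⟨0,1⟩, ⟨1,1⟩), (⟨1,2⟩, ⟨2,0⟩, ⟨2,0⟩, ⟨1,1⟩), true),
  ((⟨2,2⟩, ⟨0,1⟩, ⟨0,2⟩, ⟨2,1⟩), (⟨2,2⟩, ⟨2,2⟩, ⟨0,2⟩, ⟨1,1⟩), false), ((⟨0,1⟩, ⟨1,0⟩, ⟨0,1⟩, ⟨1,2⟩), (⟨2,1⟩, ⟨1,0⟩, ⟨2,2⟩, ⟨1,2⟩), true),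
  ((⟨2,1⟩, ⟨0,2⟩, ⟨2,2⟩, ⟨2,1⟩), (⟨2,1⟩, ⟨1,0⟩, ⟨2,2⟩, ⟨1,2⟩), false), ((⟨0,1⟩, ⟨2,0⟩, ⟨0,2⟩, ⟨1,2⟩), (⟨1,1⟩, ⟨2,0⟩, ⟨2,0⟩, ⟨1,2⟩), true),
  ((⟨1,1⟩, ⟨1,1⟩, ⟨2,0⟩, ⟨1,1⟩), (⟨1,1⟩, ⟨2,0⟩, ⟨2,0⟩, ⟨1,2⟩), false), ((⟨0,2⟩, ⟨1,0⟩, ⟨0,2⟩, ⟨1,1⟩), (⟨2,2⟩, ⟨1,0⟩, ⟨2,1⟩, ⟨1,1⟩), true),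
  ((⟨0,0⟩, ⟨2,1⟩, ⟨2,2⟩, ⟨1,2⟩), (⟨1,2⟩, ⟨2,1⟩, ⟨1,0⟩, ⟨1,2⟩), true), ((⟨2,1⟩, ⟨1,2⟩, ⟨1,1⟩, ⟨0,0⟩), (⟨1,2⟩, ⟨1,2⟩, ⟨1,1⟩, ⟨0,0⟩), true),
  ((⟨1,2⟩, ⟨2,0⟩, ⟨1,1⟩, ⟨2,1⟩), (⟨1,2⟩, ⟨1,2⟩, ⟨1,1⟩, ⟨0,0⟩), false), ((⟨2,2⟩, ⟨2,2⟩, ⟨1,0⟩, ⟨2,2⟩), (⟨0,0⟩, ⟨2,2⟩, ⟨2,1⟩, ⟨2,2⟩), true),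
  ((⟨2,1⟩, ⟨1,0⟩, ⟨0,1⟩, ⟨0,2⟩), (⟨1,1⟩, ⟨1,0⟩, ⟨0,2⟩, ⟨0,2⟩), true), ((⟨1,1⟩, ⟨2,0⟩, ⟨1,2⟩, ⟨2,2⟩), (⟨1,1⟩, ⟨0,2⟩, ⟨1,2⟩, ⟨1,1⟩), false),
  ((⟨2,2⟩, ⟨1,0⟩, ⟨0,2⟩, ⟨0,1⟩), (⟨1,2⟩, ⟨1,0⟩, ⟨0,1⟩, ⟨0,1⟩), true), ((⟨1,2⟩, ⟨2,1⟩, ⟨0,1⟩, ⟨2,1⟩), (⟨1,2⟩, ⟨1,0⟩, ⟨0,1⟩, ⟨0,1⟩), false),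
  ((⟨0,0⟩, ⟨1,2⟩, ⟨1,1⟩, ⟨2,1⟩), (⟨2,1⟩, ⟨1,2⟩, ⟨2,0⟩, ⟨2,1⟩), true), ((⟨2,1⟩, ⟨0,1⟩, ⟨2,0⟩, ⟨2,0⟩), (⟨2,1⟩, ⟨1,2⟩, ⟨2,0⟩, ⟨2,1⟩), false),
  ((⟨0,2⟩, ⟨2,0⟩, ⟨0,0⟩, ⟨0,1⟩), (⟨1,2⟩, ⟨2,0⟩, ⟨0,2⟩, ⟨0,1⟩), true), ((⟨2,2⟩, ⟨0,1⟩, ⟨2,1⟩, ⟨2,2⟩), (⟨2,2⟩, ⟨2,2⟩, ⟨2,1⟩, ⟨0,0⟩), false),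
  ((⟨0,1⟩, ⟨1,0⟩, ⟨0,2⟩, ⟨2,2⟩), (⟨2,1⟩, ⟨1,0⟩, ⟨1,0⟩, ⟨2,2⟩), true), ((⟨2,1⟩, ⟨0,2⟩, ⟨1,0⟩, ⟨2,0⟩), (⟨2,1⟩, ⟨1,0⟩, ⟨1,0⟩, ⟨2,2⟩), false),
  ((⟨0,1⟩, ⟨2,0⟩, ⟨0,0⟩, ⟨0,2⟩), (⟨1,1⟩, ⟨2,0⟩, ⟨0,1⟩, ⟨0,2⟩), true), ((⟨1,1⟩, ⟨1,1⟩, ⟨0,1⟩, ⟨2,2⟩), (⟨1,1⟩, ⟨2,0⟩, ⟨0,1⟩, ⟨0,2⟩), false),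
  ((⟨0,2⟩, ⟨1,0⟩, ⟨0,1⟩, ⟨2,1⟩), (⟨2,2⟩, ⟨1,0⟩, ⟨1,0⟩, ⟨2,1⟩), true), ((⟨0,0⟩, ⟨2,1⟩, ⟨2,2⟩, ⟨0,0⟩), (⟨1,2⟩, ⟨2,1⟩, ⟨2,2⟩, ⟨0,0⟩), true),
  ((⟨0,0⟩, ⟨1,2⟩, ⟨1,1⟩, ⟨0,0⟩), (⟨0,0⟩, ⟨1,2⟩, ⟨1,1⟩, ⟨1,2⟩), false), ((⟨2,1⟩, ⟨2,0⟩, ⟨0,2⟩, ⟨0,2⟩), (⟨2,1⟩, ⟨0,1⟩, ⟨0,2⟩, ⟨2,2⟩), false),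
  ((⟨2,2⟩, ⟨2,0⟩, ⟨1,2⟩, ⟨1,1⟩), (⟨0,2⟩, ⟨2,0⟩, ⟨0,1⟩, ⟨1,1⟩), true), ((⟨0,2⟩, ⟨0,0⟩, ⟨0,1⟩, ⟨0,1⟩), (⟨0,2⟩, ⟨2,0⟩, ⟨0,1⟩, ⟨1,1⟩), false),
  ((⟨2,0⟩, ⟨0,1⟩, ⟨2,0⟩, ⟨2,1⟩), (⟨2,2⟩, ⟨0,1⟩, ⟨0,2⟩, ⟨2,1⟩), true), ((⟨0,1⟩, ⟨0,0⟩, ⟨0,1⟩, ⟨0,2⟩), (⟨0,1⟩, ⟨1,0⟩, ⟨0,1⟩, ⟨1,2⟩), false),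
  ((⟨2,0⟩, ⟨0,2⟩, ⟨1,0⟩, ⟨2,1⟩), (⟨2,1⟩, ⟨0,2⟩, ⟨2,2⟩, ⟨2,1⟩), true), ((⟨2,1⟩, ⟨2,1⟩, ⟨2,2⟩, ⟨0,0⟩), (⟨2,1⟩, ⟨0,2⟩, ⟨2,2⟩, ⟨2,1⟩), false),
  ((⟨2,1⟩, ⟨2,0⟩, ⟨1,1⟩, ⟨1,2⟩), (⟨0,1⟩, ⟨2,0⟩, ⟨0,2⟩, ⟨1,2⟩), true), ((⟨2,2⟩, ⟨1,1⟩, ⟨0,1⟩, ⟨1,1⟩), (⟨1,1⟩, ⟨1,1⟩, ⟨2,0⟩, ⟨1,1⟩), true),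
  ((⟨0,2⟩, ⟨2,0⟩, ⟨0,2⟩, ⟨2,1⟩), (⟨0,2⟩, ⟨1,0⟩, ⟨0,2⟩, ⟨1,1⟩), false), ((⟨2,1⟩, ⟨2,1⟩, ⟨0,1⟩, ⟨1,2⟩), (⟨0,0⟩, ⟨2,1⟩, ⟨2,2⟩, ⟨1,2⟩), true),
  ((⟨0,0⟩, ⟨2,1⟩, ⟨2,2⟩, ⟨2,1⟩), (⟨0,0⟩, ⟨2,1⟩, ⟨2,2⟩, ⟨1,2⟩), false), ((⟨2,1⟩, ⟨0,1⟩, ⟨1,1⟩, ⟨2,1⟩), (⟨2,1⟩, ⟨1,2⟩, ⟨1,1⟩, ⟨0,0⟩), false),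
  ((⟨2,2⟩, ⟨0,1⟩, ⟨1,0⟩, ⟨2,0⟩), (⟨2,2⟩, ⟨2,2⟩, ⟨1,0⟩, ⟨2,2⟩), false), ((⟨0,1⟩, ⟨1,0⟩, ⟨0,0⟩, ⟨0,2⟩), (⟨2,1⟩, ⟨1,0⟩, ⟨0,1⟩, ⟨0,2⟩), true),
  ((⟨2,1⟩, ⟨0,2⟩, ⟨0,1⟩, ⟨2,2⟩), (⟨2,1⟩, ⟨1,0⟩, ⟨0,1⟩, ⟨0,2⟩), false), ((⟨0,1⟩, ⟨2,0⟩, ⟨0,1⟩, ⟨2,2⟩), (⟨1,1⟩, ⟨2,0⟩, ⟨1,2⟩, ⟨2,2⟩), true),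
  ((⟨1,1⟩, ⟨1,1⟩, ⟨1,2⟩, ⟨0,0⟩), (⟨1,1⟩, ⟨2,0⟩, ⟨1,2⟩, ⟨2,2⟩), false), ((⟨0,2⟩, ⟨1,0⟩, ⟨0,0⟩, ⟨0,1⟩), (⟨2,2⟩, ⟨1,0⟩, ⟨0,2⟩, ⟨0,1⟩), true),
  ((⟨2,1⟩, ⟨2,0⟩, ⟨2,0⟩, ⟨2,2⟩), (⟨2,1⟩, ⟨0,1⟩, ⟨2,0⟩, ⟨2,0⟩), false), ((⟨2,2⟩, ⟨2,0⟩, ⟨0,1⟩, ⟨0,1⟩), (⟨0,2⟩, ⟨2,0⟩, ⟨0,0⟩, ⟨0,1⟩), true),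
  ((⟨0,2⟩, ⟨0,0⟩, ⟨0,0⟩, ⟨0,1⟩), (⟨0,2⟩, ⟨2,0⟩, ⟨0,0⟩, ⟨0,1⟩), false), ((⟨2,0⟩, ⟨0,1⟩, ⟨1,0⟩, ⟨2,2⟩), (⟨2,2⟩, ⟨0,1⟩, ⟨2,1⟩, ⟨2,2⟩), true),
  ((⟨0,1⟩, ⟨0,0⟩, ⟨0,2⟩, ⟨0,2⟩), (⟨0,1⟩, ⟨1,0⟩, ⟨0,2⟩, ⟨2,2⟩), false), ((⟨2,0⟩, ⟨0,2⟩, ⟨0,0⟩, ⟨2,0⟩), (⟨2,1⟩, ⟨0,2⟩, ⟨1,0⟩, ⟨2,0⟩), true),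
  ((⟨2,1⟩, ⟨2,1⟩, ⟨1,0⟩, ⟨2,1⟩), (⟨2,1⟩, ⟨0,2⟩, ⟨1,0⟩, ⟨2,0⟩), false), ((⟨2,2⟩, ⟨1,1⟩, ⟨2,0⟩, ⟨2,2⟩), (⟨1,1⟩, ⟨1,1⟩, ⟨0,1⟩, ⟨2,2⟩), true),
  ((⟨2,2⟩, ⟨0,2⟩, ⟨1,2⟩, ⟨2,2⟩), (⟨2,2⟩, ⟨2,0⟩, ⟨1,2⟩, ⟨1,1⟩), false), ((⟨0,2⟩, ⟨0,0⟩, ⟨0,2⟩, ⟨0,1⟩), (⟨0,2⟩, ⟨0,0⟩, ⟨0,1⟩, ⟨0,1⟩), true),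
  ((⟨2,0⟩, ⟨0,0⟩, ⟨2,0⟩, ⟨2,0⟩), (⟨2,0⟩, ⟨0,1⟩, ⟨2,0⟩, ⟨2,1⟩), false), ((⟨0,1⟩, ⟨0,0⟩, ⟨0,0⟩, ⟨0,2⟩), (⟨0,1⟩, ⟨0,0⟩, ⟨0,1⟩, ⟨0,2⟩), true),
  ((⟨2,2⟩, ⟨0,2⟩, ⟨0,1⟩, ⟨2,1⟩), (⟨2,0⟩, ⟨0,2⟩, ⟨1,0⟩, ⟨2,1⟩), true), ((⟨0,0⟩, ⟨1,1⟩, ⟨1,2⟩, ⟨1,1⟩), (⟨2,2⟩, ⟨1,1⟩, ⟨0,1⟩, ⟨1,1⟩), true),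
  ((⟨2,2⟩, ⟨2,0⟩, ⟨2,0⟩, ⟨2,1⟩), (⟨0,2⟩, ⟨2,0⟩, ⟨0,2⟩, ⟨2,1⟩), true), ((⟨2,0⟩, ⟨0,1⟩, ⟨0,0⟩, ⟨2,0⟩), (⟨2,2⟩, ⟨0,1⟩, ⟨1,0⟩, ⟨2,0⟩), true),
  ((⟨2,0⟩, ⟨0,2⟩, ⟨2,0⟩, ⟨2,2⟩), (⟨2,1⟩, ⟨0,2⟩, ⟨0,1⟩, ⟨2,2⟩), true), ((⟨2,2⟩, ⟨1,1⟩, ⟨1,2⟩, ⟨0,0⟩), (⟨1,1⟩, ⟨1,1⟩, ⟨1,2⟩, ⟨0,0⟩), true),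
  ((⟨2,0⟩, ⟨0,0⟩, ⟨1,0⟩, ⟨2,0⟩), (⟨2,0⟩, ⟨0,1⟩, ⟨1,0⟩, ⟨2,2⟩), false), ((⟨2,2⟩, ⟨0,2⟩, ⟨2,0⟩, ⟨2,0⟩), (⟨2,0⟩, ⟨0,2⟩, ⟨0,0⟩, ⟨2,0⟩), true),
  ((⟨0,0⟩, ⟨1,1⟩, ⟨1,2⟩, ⟨2,2⟩), (⟨2,2⟩, ⟨1,1⟩, ⟨2,0⟩, ⟨2,2⟩), true), ((⟨2,0⟩, ⟨0,0⟩, ⟨0,0⟩, ⟨2,0⟩), (⟨2,0⟩, ⟨0,1⟩, ⟨0,0⟩, ⟨2,0⟩), false),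
  ((⟨0,0⟩, ⟨1,1⟩, ⟨1,2⟩, ⟨0,0⟩), (⟨2,2⟩, ⟨1,1⟩, ⟨1,2⟩, ⟨0,0⟩), true)]

/-- right multiplication by `tL 1` on entries -/
def mulR1 (x : Q4) : Q4 := (x.1 + x.2.1, x.2.1, x.2.2.1 + x.2.2.2, x.2.2.2)

/-- right multiplication by `tU i` on entries -/
def mulR2 (x : Q4) : Q4 := (x.1, x.1 * F9.I + x.2.1, x.2.2.1, x.2.2.1 * F9.I + x.2.2.2)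

/-- the entries of a matrix -/
def key (g : SL(2, F9)) : Q4 := (g 0 0, g 0 1, g 1 0, g 1 1)

theorem key_injective : Function.Injective key := by
  intro g h e
  simp only [key, Prod.mk.injEq] at e
  exact ext4 e.1 e.2.1 e.2.2.1 e.2.2.2

theorem key_one : key 1 = (1, 0, 0, 1) := by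
  simp [key]

theorem key_mul_tL (g : SL(2, F9)) : key (g * tL 1) = mulR1 (key g) := by
  simp only [key, mulR1, mul00, mul01, mul10, mul11, tL00, tL01, tL10, tL11, Prod.mk.injEq]
  refine ⟨?_, ?_, ?_, ?_⟩ <;> ring

theorem key_mul_tU (g : SL(2, F9)) : key (g * tU F9.I) = mulR2 (key g) := by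
  simp only [key, mulR2, mul00, mul01, mul10, mul11, tU00, tU01, tU10, tU11, Prod.mk.injEq]
  refine ⟨?_, ?_, ?_, ?_⟩ <;> ring

set_option maxRecDepth 100000 in
theorem lst_length : lst.length = 120 := by decide +kernel

set_option maxRecDepth 100000 in
theorem lst_nodup : lst.Nodup := by decide +kernel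

set_option maxRecDepth 100000 in
theorem lst_closedB :
    lst.all (fun x => lst.contains (mulR1 x) && lst.contains (mulR2 x)) = true := by
  decide +kernel

theorem lst_closed : ∀ x ∈ lst, mulR1 x ∈ lst ∧ mulR2 x ∈ lst := by
  intro x hx
  have h := List.all_eq_true.1 lst_closedB x hx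
  rw [Bool.and_eq_true, List.contains_iff_mem, List.contains_iff_mem] at h
  exact h

/-- spanning-tree check -/
def treeOK : List Q4 → List (Q4 × Q4 × Bool) → Bool
  | _, [] => true
  | seen, (x, y, b) :: rest =>
    seen.contains y && decide (x = if b then mulR1 y else mulR2 y) && treeOK (x :: seen) rest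

set_option maxRecDepth 100000 in
theorem cert_tree : treeOK [(1, 0, 0, 1)] cert = true := by decide +kernel

set_option maxRecDepth 100000 in
theorem lst_eq_cons : lst = (1, 0, 0, 1) :: cert.map (fun t => t.1) := by decide +kernel

theorem treeOK_spec (P : Q4 → Prop) (h1 : ∀ y, P y → P (mulR1 y)) (h2 : ∀ y, P y → P (mulR2 y)) :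
    ∀ (rest : List (Q4 × Q4 × Bool)) (seen : List Q4), treeOK seen rest = true →
      (∀ y ∈ seen, P y) → ∀ t ∈ rest, P t.1 := by
  intro rest
  induction rest with
  | nil => intro seen _ _ x hx; simp at hx
  | cons a rest ih =>
    obtain ⟨x, y, b⟩ := a
    intro seen hok hseen t ht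
    rw [treeOK, Bool.and_eq_true, Bool.and_eq_true, List.contains_iff_mem, decide_eq_true_eq] at hok
    obtain ⟨⟨hy, hx⟩, hrest⟩ := hok
    have hPx : P x := by
      rw [hx]
      cases b
      · exact h2 y (hseen y hy)
      · exact h1 y (hseen y hy)
    rcases List.mem_cons.1 ht with e | ht'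
    · rw [e]; exact hPx
    · refine ih (x :: seen) hrest ?_ t ht'
      intro z hz
      rcases List.mem_cons.1 hz with e | hz'
      · rw [e]; exact hPx
      · exact hseen z hz'

/-- the generated subgroup -/
def C : Subgroup SL(2, F9) := Subgroup.closure {tL (1 : F9), tU F9.I}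

theorem tL_mem_C : tL (1 : F9) ∈ C := Subgroup.subset_closure (by simp)
theorem tU_mem_C : tU F9.I ∈ C := Subgroup.subset_closure (by simp)

theorem exists_of_mem_lst : ∀ x ∈ lst, ∃ g ∈ C, key g = x := by
  have hP1 : ∀ y : Q4, (∃ g ∈ C, key g = y) → ∃ g ∈ C, key g = mulR1 y := by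
    rintro y ⟨g, hg, rfl⟩
    exact ⟨g * tL 1, C.mul_mem hg tL_mem_C, key_mul_tL g⟩
  have hP2 : ∀ y : Q4, (∃ g ∈ C, key g = y) → ∃ g ∈ C, key g = mulR2 y := by
    rintro y ⟨g, hg, rfl⟩
    exact ⟨g * tU F9.I, C.mul_mem hg tU_mem_C, key_mul_tU g⟩
  have h0 : ∃ g ∈ C, key g = ((1, 0, 0, 1) : Q4) := ⟨1, C.one_mem, key_one⟩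
  intro x hx
  rw [lst_eq_cons] at hx
  rcases List.mem_cons.1 hx with e | hx'
  · rw [e]; exact h0
  · obtain ⟨t, ht, rfl⟩ := List.mem_map.1 hx'
    refine treeOK_spec _ hP1 hP2 cert [(1, 0, 0, 1)] cert_tree ?_ t ht
    intro y hy
    rw [List.mem_singleton] at hy
    rw [hy]; exact h0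

theorem key_mem_lst_of_mem {g : SL(2, F9)} (hg : g ∈ C) : key g ∈ lst := by
  have h3 : (-1 : F9) = 1 + 1 := by decide
  have hI3 : -F9.I = F9.I + F9.I := by decide
  refine Subgroup.closure_induction_right (p := fun g _ => key g ∈ lst) ?_ ?_ ?_ hg
  · rw [key_one, lst_eq_cons]; exact List.mem_cons_self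
  · intro x _ y hy hx
    rcases hy with rfl | rfl
    · rw [key_mul_tL]; exact (lst_closed _ hx).1
    · rw [key_mul_tU]; exact (lst_closed _ hx).2
  · intro x _ y hy hx
    rcases hy with rfl | rfl
    · rw [tL_inv, h3, tL_add, ← mul_assoc, key_mul_tL, key_mul_tL]
      exact (lst_closed _ (lst_closed _ hx).1).1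
    · rw [tU_inv, hI3, tU_add, ← mul_assoc, key_mul_tU, key_mul_tU]
      exact (lst_closed _ (lst_closed _ hx).2).2

theorem card_C : Nat.card C = 120 := by
  classical
  have e : C ≃ {x // x ∈ lst} := Equiv.ofBijective
    (fun g => ⟨key g.1, key_mem_lst_of_mem g.2⟩) ⟨by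
      intro g h e
      exact Subtype.ext (key_injective (Subtype.mk.inj e)), by
      rintro ⟨x, hx⟩
      obtain ⟨g, hg, e⟩ := exists_of_mem_lst x hx
      exact ⟨⟨g, hg⟩, Subtype.ext e⟩⟩
  rw [Nat.card_congr e, Nat.card_eq_fintype_card, Fintype.card_subtype]
  have : (Finset.univ.filter fun x : Q4 => x ∈ lst) = lst.toFinset := by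
    ext x; simp
  rw [this, List.card_toFinset, List.Nodup.dedup lst_nodup, lst_length]

end Cfsg.Agent.Lib.Helper51_G120
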