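import Mathlib
import Cfsg.Agent.Lib.Helper72_IPDefs
import Cfsg.Agent.Lib.Helper59_CliffordDeg
import Cfsg.Agent.Lib.Helper80_CharInd
import Cfsg.Agent.Lib.Helper75_CharProd
import Cfsg.Agent.Lib.Helper75_CharArith
import Cfsg.Agent.Lib.Helper3_CharOrtho

/-!
# S4463 (Isaacs–Passman), package PKG-A1b (helper51)

If `β ∈ Irr(G)` vanishes off the subgroup `Z`, has absolute value `f` on `Z` and `f ^ 2 = [G:Z]`
(`f ≥ 2`), then a representation bound `b` for `G` gives the bound `b - 1` for `Z`: for `ψ ∈ Irr(Z)`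
of degree `b` and `χ ∈ Irr(G)` over `ψ` the product `χβ` is irreducible of degree `b f > b`.
-/

set_option autoImplicit false

namespace Cfsg.Agent.Lib.Helper51_IP_A1b

open Cfsg Cfsg.Agent.Lib.Helper72_IPDefs
open scoped ComplexConjugate

universe u

/-- the degree of a function with `χ 1 = n` -/
theorem charDegree_of_apply_one {G : Type u} [Group G] (χ : G → ℂ) (n : ℕ) (h : χ 1 = n) :
    charDegree χ = n := by
  unfold charDegree
  rw [h]
  simp

theorem rb_pred_of_fully_ramified {G : Type u} [Group G] [Finite G] {b : ℕ} (h : RB G b)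
    (Z : Subgroup G) (β : IrrCharacter G) (f : ℕ) (hf2 : 2 ≤ f) (hfZ : f ^ 2 = Z.index)
    (hvan : ∀ g : G, g ∉ Z → (β : G → ℂ) g = 0)
    (hnorm : ∀ z ∈ Z, ‖(β : G → ℂ) z‖ = (f : ℝ)) :
    RB Z (b - 1) := by
  classical
  have : Fintype G := Fintype.ofFinite G
  have : Fintype Z := Fintype.ofFinite Z
  intro ψ
  by_contra hlt
  rw [not_le] at hlt
  have hb1 := h.one_le
  obtain ⟨n, hnpos, hn⟩ := Cfsg.Agent.Lib.Helper80_CharBasic.irr_apply_one ψ
  rw [charDegree_of_apply_one _ n hn] at hlt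
  obtain ⟨χ, hχ, hne⟩ := Cfsg.Agent.Lib.Helper59_CliffordDeg.exists_irr_over Z ψ.2
  obtain ⟨D, hDpos, hD⟩ := Cfsg.Agent.Lib.Helper80_CharBasic.irr_apply_one (⟨χ, hχ⟩ : IrrCharacter G)
  have hD' : χ 1 = (D : ℂ) := hD
  have hDb : D ≤ b := by
    have := h ⟨χ, hχ⟩
    rwa [charDegree_of_apply_one _ D hD] at this
  have hnb : b ≤ n := by omega
  have hχc : IsCharacter G χ := Cfsg.Agent.Lib.Helper3_CharBridge.isCharacter_of_isIrrCharacter hχ
  have hres : Cfsg.Agent.Lib.Helper75_Clifford.res Z χ = (ψ : Z → ℂ) :=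
    Cfsg.Agent.Lib.Helper80_CharInd.eq_of_constituent_of_degree_le
      (Cfsg.Agent.Lib.Helper75_Clifford.res Z χ)
      (Cfsg.Agent.Lib.Helper75_Clifford.isCharacter_res Z hχc) ψ hne D n hD' hn (hDb.trans hnb)
  have hDn : D = n := by
    have h1 := congrFun hres 1
    have h2 : Cfsg.Agent.Lib.Helper75_Clifford.res Z χ 1 = χ 1 := rfl
    rw [h2, hD', hn] at h1
    exact_mod_cast h1
  -- the product character
  have hβc : IsCharacter G (β : G → ℂ) :=
    Cfsg.Agent.Lib.Helper3_CharBridge.isCharacter_of_isIrrCharacter β.2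
  have hφc : IsCharacter G (χ * (β : G → ℂ)) :=
    Cfsg.Agent.Lib.Helper75_CharProd.isCharacter_mul hχc hβc
  have hfC : ∀ g ∈ Z, (β : G → ℂ) g * conj ((β : G → ℂ) g) = ((f : ℂ)) ^ 2 := by
    intro g hg
    rw [Complex.mul_conj, Complex.normSq_eq_norm_sq, hnorm g hg]
    push_cast
    rfl
  have hterm : ∀ g : G, (χ * (β : G → ℂ)) g * conj ((χ * (β : G → ℂ)) g) =
      if g ∈ Z then (f : ℂ) ^ 2 * (χ g * conj (χ g)) else 0 := by
    intro g
    rw [Pi.mul_apply, map_mul]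
    split_ifs with hg
    · rw [← hfC g hg]
      ring
    · rw [hvan g hg, mul_zero, zero_mul]
  have hsum : ∑ g : G, (χ * (β : G → ℂ)) g * conj ((χ * (β : G → ℂ)) g) =
      (f : ℂ) ^ 2 * ∑ z : Z, (ψ : Z → ℂ) z * conj ((ψ : Z → ℂ) z) := by
    rw [Finset.sum_congr rfl (fun g _ => hterm g), ← Finset.sum_filter, Finset.mul_sum]
    rw [Finset.sum_subtype (Finset.univ.filter (fun g : G => g ∈ Z)) (p := fun g : G => g ∈ Z)
      (fun x => by simp)]
    refine Finset.sum_congr rfl (fun z _ => ?_)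
    rw [← hres]
    rfl
  have hψ1 : classInner (ψ : Z → ℂ) (ψ : Z → ℂ) = 1 :=
    Cfsg.Agent.Lib.Helper3_CharOrtho.classInner_self_of_isIrrCharacter ψ.2
  have hZ0 : (Nat.card Z : ℂ) ≠ 0 := by exact_mod_cast Nat.card_pos.ne'
  have hψsum : ∑ z : Z, (ψ : Z → ℂ) z * conj ((ψ : Z → ℂ) z) = (Nat.card Z : ℂ) := by
    unfold classInner at hψ1
    rw [inv_mul_eq_iff_eq_mul₀ hZ0, mul_one] at hψ1
    exact hψ1
  have hcard : (Nat.card G : ℂ) = (Nat.card Z : ℂ) * (f : ℂ) ^ 2 := by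
    have h1 := Subgroup.card_mul_index Z
    rw [← hfZ] at h1
    rw [← h1]
    push_cast
    rfl
  have hG0 : (Nat.card G : ℂ) ≠ 0 := by exact_mod_cast Nat.card_pos.ne'
  have hφ1 : classInner (χ * (β : G → ℂ)) (χ * (β : G → ℂ)) = 1 := by
    unfold classInner
    rw [hsum, hψsum, inv_mul_eq_iff_eq_mul₀ hG0, mul_one, hcard, mul_comm]
  have hφirr : IsIrrCharacter G (χ * (β : G → ℂ)) :=
    Cfsg.Agent.Lib.Helper75_CharArith.isIrrCharacter_of_classInner_self hφc hφ1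
  -- the degree of `β`
  obtain ⟨m, hmpos, hm⟩ := Cfsg.Agent.Lib.Helper80_CharBasic.irr_apply_one β
  have hmf : m = f := by
    have h1 := hnorm 1 Z.one_mem
    rw [hm, Complex.norm_natCast] at h1
    exact_mod_cast h1
  have hφdeg : (χ * (β : G → ℂ)) 1 = ((D * f : ℕ) : ℂ) := by
    rw [Pi.mul_apply, hD', hm, hmf]
    push_cast
    rfl
  have h3 := h ⟨_, hφirr⟩
  rw [charDegree_of_apply_one _ _ hφdeg] at h3
  have h4 : D * 2 ≤ D * f := Nat.mul_le_mul_left D hf2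
  omega

end Cfsg.Agent.Lib.Helper51_IP_A1b
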