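import Mathlib
import Cfsg.Agent.Lib.Helper72_IPDefs
import Cfsg.Agent.Lib.Helper76_GalConj
import Cfsg.Agent.Lib.Helper51_IP_A1b

/-!
# S4463 (Isaacs–Passman), package PKG-A1, core (helper51)

The central case, with the fully ramified character (package PKG-A1a) as a hypothesis.
-/

set_option autoImplicit false

namespace Cfsg.Agent.Lib.Helper51_IP_A1core

open Cfsg Cfsg.Agent.Lib.Helper72_IPDefs

universe u

/-- the central case, given a fully ramified character of `G ⧸ K` -/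
theorem central_case_of {G : Type u} [Group G] [Finite G] {b : ℕ} (h : RB G b)
    (K : Subgroup G) [K.Normal]
    (hne : commutator (G ⧸ K) ≠ ⊥)
    (hβ : ∃ β : IrrCharacter (G ⧸ K), 2 ≤ charDegree (β : G ⧸ K → ℂ) ∧
      (charDegree (β : G ⧸ K → ℂ)) ^ 2 = (Subgroup.center (G ⧸ K)).index ∧
      (∀ g : G ⧸ K, g ∉ Subgroup.center (G ⧸ K) → (β : G ⧸ K → ℂ) g = 0) ∧
      (∀ z ∈ Subgroup.center (G ⧸ K), ‖(β : G ⧸ K → ℂ) z‖ = (charDegree (β : G ⧸ K → ℂ) : ℝ))) :
    ∃ H : Subgroup G, H ≠ ⊤ ∧ H.index ≤ b ^ 2 ∧ RB H (b - 1) := by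
  classical
  obtain ⟨β, hf2, hfZ, hvan, hnorm⟩ := hβ
  set f := charDegree (β : G ⧸ K → ℂ) with hf
  set Z : Subgroup G := (Subgroup.center (G ⧸ K)).comap (QuotientGroup.mk' K) with hZ
  have hidx : Z.index = (Subgroup.center (G ⧸ K)).index :=
    Subgroup.index_comap_of_surjective _ (QuotientGroup.mk'_surjective K)
  have hfb : f ≤ b := by
    have := h (Cfsg.Agent.Lib.Helper76_GalConj.infl K β)
    rwa [Cfsg.Agent.Lib.Helper76_GalConj.charDegree_infl] at this
  refine ⟨Z, ?_, ?_, ?_⟩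
  · intro htop
    apply hne
    have hc : Subgroup.center (G ⧸ K) = ⊤ := by
      rw [eq_top_iff]
      intro x _
      obtain ⟨g, rfl⟩ := QuotientGroup.mk'_surjective K x
      have hg : g ∈ Z := by rw [htop]; exact Subgroup.mem_top g
      exact hg
    rw [eq_bot_iff, commutator_def, Subgroup.commutator_le]
    intro x _ y _
    rw [Subgroup.mem_bot, commutatorElement_eq_one_iff_commute]
    have hx : x ∈ Subgroup.center (G ⧸ K) := by rw [hc]; exact Subgroup.mem_top x
    exact (Subgroup.mem_center_iff.1 hx y).symm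
  · rw [hidx, ← hfZ]
    exact Nat.pow_le_pow_left hfb 2
  · refine Cfsg.Agent.Lib.Helper51_IP_A1b.rb_pred_of_fully_ramified h Z
      (Cfsg.Agent.Lib.Helper76_GalConj.infl K β) f hf2 (by rw [hidx, hfZ]) ?_ ?_
    · intro g hg
      rw [Cfsg.Agent.Lib.Helper76_GalConj.infl_apply]
      exact hvan _ hg
    · intro z hz
      rw [Cfsg.Agent.Lib.Helper76_GalConj.infl_apply]
      exact hnorm _ hz

end Cfsg.Agent.Lib.Helper51_IP_A1core
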