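import Mathlib
import Cfsg.Agent.Lib.Helper72_IPDefs
import Cfsg.Agent.Lib.Helper31_IP_A1a
import Cfsg.Agent.Lib.Helper51_IP_A1core

/-!
# S4463 (Isaacs–Passman), package PKG-A1 (helper51): the central case

Assembly of PKG-A1a (helper31, the fully ramified character) and PKG-A1b (helper51).
-/

set_option autoImplicit false

namespace Cfsg.Agent.Lib.Helper51_IP_A1

open Cfsg Cfsg.Agent.Lib.Helper72_IPDefs

universe u

theorem central_case {G : Type u} [Group G] [Finite G] {b : ℕ} (h : RB G b)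
    (K : Subgroup G) [K.Normal]
    (hne : commutator (G ⧸ K) ≠ ⊥)
    (hmin : ∀ N : Subgroup (G ⧸ K), N.Normal → N ≠ ⊥ → commutator (G ⧸ K) ≤ N)
    (hcent : commutator (G ⧸ K) ≤ Subgroup.center (G ⧸ K)) :
    ∃ H : Subgroup G, H ≠ ⊤ ∧ H.index ≤ b ^ 2 ∧ RB H (b - 1) :=
  Cfsg.Agent.Lib.Helper51_IP_A1core.central_case_of h K hne
    (Cfsg.Agent.Lib.Helper31_IP_A1a.exists_fully_ramified hne hmin hcent)

end Cfsg.Agent.Lib.Helper51_IP_A1
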