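import Mathlib
import Cfsg.Prelude.Def_GeometricClasses
import Cfsg.Agent.Lib.Helper40_OOdd
import Cfsg.Agent.Lib.Helper40_OClasses
import Cfsg.Agent.Lib.Helper40_SpExist
import Cfsg.Agent.Lib.Helper40_SpPrimeOrder
import Cfsg.Agent.Lib.Helper40_PrimeOrderClasses
import Cfsg.Agent.Lib.Helper99_SpElt

set_option autoImplicit false

/-!
# S5989 / S5991 package ATOMS (helper51)

The characteristic polynomial of an isometry of odd prime order `r ≠ p` of a nondegenerate
quadratic space over a finite field is `(X - 1) ^ e` times a product of "atom polynomials":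
monic self-reciprocal polynomials of degree `atomDim F r`, all of whose irreducible factors divide
`X ^ r - 1`, not vanishing at `1`.
-/

namespace Cfsg.Agent.Lib.Helper51_OND_ATOMS

open Polynomial Module Matrix
open scoped MatrixGroups
open Cfsg.Agent.Lib.Helper40_SpBasic Cfsg.Agent.Lib.Helper40_OConj Cfsg.Agent.Lib.Helper40_OConj.OData
  Cfsg.Agent.Lib.Helper99_SpAtoms Cfsg.Agent.Lib.Helper40_OClasses Cfsg.Agent.Lib.Helper44_StdForms
open Cfsg.Agent.Lib.Helper40_Palindromic Cfsg.Agent.Lib.Helper40_SpPrimeOrder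
  Cfsg.Agent.Lib.Helper40_PrimeOrderClasses Cfsg.Agent.Lib.Helper40_SpExist
  Cfsg.Agent.Lib.Helper40_PolyFactors

universe v

section

variable {F : Type v} [Field F] [Fintype F] {p : ℕ} [Fact p.Prime] [CharP F p]
  {ι : Type} [Fintype ι] [DecidableEq ι]

/-- the property of being an atom polynomial -/
def IsAtom (r : ℕ) (α : F[X]) : Prop :=
  α.Monic ∧ α.natDegree = atomDim F r ∧ α.reverse = α ∧
    (∀ f, Irreducible f → f ∣ α → f ∣ X ^ r - 1) ∧ α.eval 1 ≠ 0

omit [Fintype F] in
theorem recip_cancel {w P' : F[X]} (hw : w ≠ 0) (hrw : recip w = w)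
    (hP : recip (w * P') = w * P') : recip P' = P' := by
  rw [recip_mul, hrw] at hP
  exact mul_left_cancel₀ hw hP

/-- a monic self-reciprocal polynomial not vanishing at `1`, all of whose irreducible factors
divide `X ^ r - 1`, is a product of atom polynomials -/
theorem exists_atoms {r : ℕ} (hr : r.Prime) (hr2 : r ≠ 2) (hrp : r ≠ p) :
    ∀ n : ℕ, ∀ P : F[X], P.natDegree ≤ n → P.Monic → recip P = P → P.eval 1 ≠ 0 →
      (∀ f, Irreducible f → f ∣ P → f ∣ X ^ r - 1) →
      ∃ L : List F[X], P = L.prod ∧ ∀ α ∈ L, IsAtom r α := by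
  classical
  have hrodd : Odd r := hr.odd_of_ne_two hr2
  obtain ⟨hipos, W, -, hW1, hW2⟩ := exists_cyclotomic_factors (F := F) p r hr hrp
  set i := orderOf ((Fintype.card F : ℕ) : ZMod r) with hi
  intro n
  induction n with
  | zero =>
    intro P hdeg hPm _ _ _
    refine ⟨[], ?_, fun α hα => absurd hα (List.not_mem_nil)⟩
    rw [List.prod_nil]
    exact hPm.natDegree_eq_zero.1 (Nat.le_zero.1 hdeg)
  | succ n ih =>
    intro P hdeg hPm hPr hP1 hPf
    by_cases hunit : IsUnit P
    · refine ⟨[], ?_, fun α hα => absurd hα (List.not_mem_nil)⟩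
      rw [List.prod_nil]
      exact hPm.natDegree_eq_zero.1 (natDegree_eq_zero_of_isUnit hunit)
    obtain ⟨w, hwm, hwi, hwP⟩ := exists_monic_irreducible_factor P hunit
    have hwd : w ∣ X ^ r - 1 := hPf w hwi hwP
    have hw1 : w ≠ X - 1 := by
      intro h
      apply hP1
      obtain ⟨P', rfl⟩ := hwP
      rw [h, eval_mul, eval_sub, eval_X, eval_one, sub_self, zero_mul]
    have hwW : w ∈ W := (hW2 w hwm hwi hwd).resolve_left hw1
    have hwdeg : w.natDegree = i := (hW1 w hwW).2.2.2.2
    have hw0 : w.coeff 0 ≠ 0 := coeff_zero_ne_zero_of_dvd r hr.pos w hwd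
    have hw11 : w.eval 1 ≠ 0 := eval_one_ne_zero w hwm hwi hw1
    by_cases hie : Even i
    · have hrec : recip w = w := recip_eq_of_even p r i hr hi hipos hie w hwm hwi hw1 hwd
      have hc0 : w.coeff 0 = 1 := coeff_zero_eq_one_of_recip_eq w hw0 hrec hw11
      obtain ⟨P', rfl⟩ := hwP
      have hP'm : P'.Monic := hwm.of_mul_monic_left hPm
      have hdeg' : P'.natDegree ≤ n := by
        rw [hwm.natDegree_mul hP'm, hwdeg] at hdeg
        omega
      have hP'1 : P'.eval 1 ≠ 0 := by
        intro h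
        apply hP1
        rw [eval_mul, h, mul_zero]
      obtain ⟨L, hL, hLa⟩ := ih P' hdeg' hP'm (recip_cancel hwm.ne_zero hrec hPr) hP'1
        (fun f hf hfd => hPf f hf (hfd.mul_left w))
      refine ⟨w :: L, by rw [List.prod_cons, ← hL], ?_⟩
      intro α hα
      rcases List.mem_cons.1 hα with rfl | hα
      · refine ⟨hwm, ?_, reverse_eq_of_recip_eq _ hc0 hrec,
          fun f _ hfd => hfd.trans hwd, hw11⟩
        unfold atomDim
        rw [if_pos hie, hwdeg]
      · exact hLa α hα
    · have hio : Odd i := Nat.not_even_iff_odd.1 hie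
      have hne : recip w ≠ w :=
        recip_ne_of_odd r hrodd w hwm hwi hw0 hw1 hwd (by rw [hwdeg]; exact hio)
      have hrm : (recip w).Monic := recip_monic w hw0
      have hri : Irreducible (recip w) := irreducible_recip w hwi hw0
      have hrd : recip w ∣ X ^ r - 1 := by
        have := recip_dvd hwd
        rwa [recip_X_pow_sub_one r hr.pos] at this
      have hcop : IsCoprime w (recip w) :=
        isCoprime_of_monic_irreducible_ne hwi hwm hri hrm (Ne.symm hne)
      have hr1 : recip w ≠ X - 1 := by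
        intro h
        apply hw1
        have h2 := congrArg recip h
        rwa [recip_recip w hwm hw0, recip_X_sub_one] at h2
      have hrP : recip w ∣ P := by
        have := recip_dvd hwP
        rwa [hPr] at this
      obtain ⟨P', rfl⟩ := hcop.mul_dvd hwP hrP
      have hαm : (w * recip w).Monic := hwm.mul hrm
      have hP'm : P'.Monic := hαm.of_mul_monic_left hPm
      have hαdeg : (w * recip w).natDegree = 2 * i := by
        rw [hwm.natDegree_mul hrm, recip_natDegree w hw0, hwdeg, two_mul]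
      have hdeg' : P'.natDegree ≤ n := by
        rw [hαm.natDegree_mul hP'm, hαdeg] at hdeg
        omega
      have hP'1 : P'.eval 1 ≠ 0 := by
        intro h
        apply hP1
        rw [eval_mul, h, mul_zero]
      have hαrec : recip (w * recip w) = w * recip w := by
        rw [recip_mul, recip_recip w hwm hw0, mul_comm]
      obtain ⟨L, hL, hLa⟩ := ih P' hdeg' hP'm (recip_cancel hαm.ne_zero hαrec hPr) hP'1
        (fun f hf hfd => hPf f hf (hfd.mul_left _))
      refine ⟨(w * recip w) :: L, by rw [List.prod_cons, ← hL], ?_⟩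
      intro α hα
      rcases List.mem_cons.1 hα with rfl | hα
      · refine ⟨hαm, ?_, reverse_mul_recip w hwm hw0, ?_, ?_⟩
        · rw [hαdeg]
          unfold atomDim
          rw [if_neg hie]
        · intro f hf hfd
          rcases hf.prime.dvd_or_dvd hfd with h | h
          · exact h.trans hwd
          · exact h.trans hrd
        · rw [eval_mul]
          exact mul_ne_zero hw11 (eval_one_ne_zero (recip w) hrm hri hr1)
      · exact hLa α hα

/-- ATOMS: the characteristic polynomial is `(X-1)^e` times a product of atom polynomials. -/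
theorem ATOMS (h2 : (2 : F) ≠ 0) (Q : QuadraticForm F (ι → F))
    (hQ : (QuadraticMap.polarBilin Q).Nondegenerate) {r : ℕ} (hr : r.Prime) (hr2 : r ≠ 2)
    (hrp : r ≠ p) (g : ↥(Cfsg.isometryGroup F ⇑Q)) (hg : g ^ r = 1) :
    ∃ (e : ℕ) (L : List F[X]), (mat Q g).charpoly = (X - 1) ^ e * L.prod ∧
      ∀ α ∈ L, α.Monic ∧ α.natDegree = atomDim F r ∧ α.reverse = α ∧
        (∀ f, Irreducible f → f ∣ α → f ∣ X ^ r - 1) ∧ α.eval 1 ≠ 0 := by
  classical
  have hrodd : Odd r := hr.odd_of_ne_two hr2
  set χ := (mat Q g).charpoly with hχ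
  have hχm : χ.Monic := Matrix.charpoly_monic _
  have hkill : aeval (mat Q g) (X ^ r - 1 : F[X]) = 0 := by
    rw [map_sub, map_pow, aeval_X, map_one, (mat_pow_eq_one_iff Q g r).2 hg, sub_self]
  have hχf : ∀ f : F[X], Irreducible f → f ∣ χ → f ∣ X ^ r - 1 := fun f hf hfd =>
    dvd_of_irreducible_of_dvd_charpoly' (mat Q g) (X ^ r - 1) hkill f hf hfd
  -- constant coefficient
  have hχ0 : χ.coeff 0 ≠ 0 := by
    intro h0
    have h1 : (X : F[X]) ∣ χ := X_dvd_iff.2 h0
    have h3 := coeff_zero_ne_zero_of_dvd r hr.pos X (hχf X irreducible_X h1)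
    rw [coeff_X_zero] at h3
    exact h3 rfl
  -- `recip χ = χ`
  have hχrec : recip χ = χ := by
    have h1 : (recip χ).Monic := recip_monic χ hχ0
    have h3 : recip χ = C ((χ.coeff 0)⁻¹ * (-1) ^ Fintype.card ι) * χ := by
      unfold recip
      rw [charpoly_reverse Q hQ g r hg hrodd, C_mul, C_pow, C_neg, C_1, mul_assoc]
    have h4 : (χ.coeff 0)⁻¹ * (-1) ^ Fintype.card ι = 1 := by
      have h5 := h1.leadingCoeff
      rw [h3, leadingCoeff_mul, leadingCoeff_C, hχm.leadingCoeff, mul_one] at h5
      exact h5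
    rw [h3, h4, C_1, one_mul]
  -- peel off the powers of `X - 1`
  have hX1 : ((X : F[X]) - 1) = X - C 1 := by rw [map_one]
  obtain ⟨P, hP, hPnd⟩ := exists_eq_pow_rootMultiplicity_mul_and_not_dvd χ hχm.ne_zero 1
  set e := χ.rootMultiplicity 1 with he
  rw [← hX1] at hP hPnd
  have hX1m : ((X : F[X]) - 1).Monic := by rw [hX1]; exact monic_X_sub_C 1
  have hPm : P.Monic := by
    have := hχm
    rw [hP] at this
    exact (hX1m.pow e).of_mul_monic_left this
  have hP1 : P.eval 1 ≠ 0 := by
    intro h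
    apply hPnd
    rw [hX1]
    exact dvd_iff_isRoot.2 h
  have hPrec : recip P = P := by
    have h1 : recip (((X : F[X]) - 1) ^ e) = (X - 1) ^ e := by
      rw [recip_pow', recip_X_sub_one]
    have h2 := hχrec
    rw [hP] at h2
    exact recip_cancel (hX1m.pow e).ne_zero h1 h2
  obtain ⟨L, hL, hLa⟩ := exists_atoms (F := F) hr hr2 hrp P.natDegree P le_rfl hPm hPrec hP1
    (fun f hf hfd => hχf f hf (by rw [hP]; exact hfd.mul_left _))
  exact ⟨e, L, by rw [← hL]; exact hP, hLa⟩

end

end Cfsg.Agent.Lib.Helper51_OND_ATOMS
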