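import Mathlib
import Cfsg.Agent.Lib.Helper40_OConj

set_option autoImplicit false

/-!
# S5989 / S5991 package FIXDIM (helper51)

For an isometry `a` of odd order prime to the characteristic, the dimension of the fixed space
`ker (a - 1)` equals the multiplicity of `1` as a root of the characteristic polynomial
(`a` is semisimple).
-/

namespace Cfsg.Agent.Lib.Helper51_OND_FIXDIM

open Polynomial Module
open Cfsg.Agent.Lib.Helper40_SpBasic Cfsg.Agent.Lib.Helper40_OConj Cfsg.Agent.Lib.Helper40_OConj.OData

universe v

/-- for a semisimple endomorphism, the dimension of the fixed space is the multiplicity of the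
root `1` of the characteristic polynomial -/
theorem finrank_ker_sub_one_of_isSemisimple {F : Type v} [Field F] {V : Type v} [AddCommGroup V]
    [Module F V] [FiniteDimensional F V] {a : Module.End F V} (hss : a.IsSemisimple) :
    finrank F (LinearMap.ker (a - 1)) = a.charpoly.rootMultiplicity 1 := by
  have h1 : LinearMap.ker (a - 1) = Module.End.eigenspace a 1 := by
    ext v
    rw [Module.End.mem_eigenspace_iff, LinearMap.mem_ker, LinearMap.sub_apply, Module.End.one_apply,
      one_smul, sub_eq_zero]
  rw [h1, ← hss.isFinitelySemisimple.maxGenEigenspace_eq_eigenspace,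
    LinearMap.finrank_maxGenEigenspace_eq]

/-- FIXDIM: geometric = algebraic multiplicity of the eigenvalue `1`. -/
theorem FIXDIM {F : Type v} [Field F] {V : Type v} [AddCommGroup V] [Module F V]
    [FiniteDimensional F V] (h2 : (2 : F) ≠ 0) {Q : QuadraticForm F V} {a : Module.End F V} {N : ℕ}
    (h : OData Q a N) (hQ : (pol Q).Nondegenerate) :
    finrank F (LinearMap.ker (a - 1)) = a.charpoly.rootMultiplicity 1 :=
  finrank_ker_sub_one_of_isSemisimple h.isSemisimple

end Cfsg.Agent.Lib.Helper51_OND_FIXDIM
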