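import Mathlib
import Cfsg.Prelude.Def_GeometricClasses
import Cfsg.Agent.Lib.Helper40_OEven
import Cfsg.Agent.Lib.Helper40_OOdd
import Cfsg.Agent.Lib.Helper40_OClasses

set_option autoImplicit false

/-!
# S5989 / S5991 package REAL (helper51)

Realising the polynomial `(X - 1) * c` (`c` palindromic of degree `2 k`, all irreducible factors
dividing `X ^ r - 1`) as the characteristic polynomial of an isometry of order dividing `r` of a
nondegenerate subspace of odd dimension `2 k + 1` of a quadratic space over a finite field.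
-/

namespace Cfsg.Agent.Lib.Helper51_OND_REAL

open Polynomial Module Matrix
open scoped MatrixGroups
open Cfsg.Agent.Lib.Helper40_SpBasic Cfsg.Agent.Lib.Helper40_OConj Cfsg.Agent.Lib.Helper40_OConj.OData
  Cfsg.Agent.Lib.Helper40_OClasses Cfsg.Agent.Lib.Helper44_StdForms
  Cfsg.Agent.Lib.Helper40_OEvenModel

universe v

section

variable {F : Type v} [Field F] [Fintype F] {p : ℕ} [Fact p.Prime] [CharP F p]
  {ι : Type} [Fintype ι] [DecidableEq ι]

omit [Fintype F] [Fintype ι] [DecidableEq ι] in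
/-- the polar form of the restriction of `Q` to a subspace nondegenerate in the sense of the
prelude is nondegenerate -/
theorem nondegenerate_comp_subtype_of_geo (Q : QuadraticForm F (ι → F)) (U : Submodule F (ι → F))
    (hU : Cfsg.Geo.IsNondegenerateOn (QuadraticMap.polar ⇑Q) U) :
    (QuadraticMap.polarBilin (Q.comp U.subtype)).Nondegenerate := by
  have hpol : ∀ x y : U, QuadraticMap.polarBilin (Q.comp U.subtype) x y =
      QuadraticMap.polar ⇑Q (x : ι → F) (y : ι → F) := by
    intro x y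
    rfl
  constructor
  · intro x hx
    by_contra hne
    have hx0 : (x : ι → F) ≠ 0 := fun h => hne (Subtype.ext h)
    obtain ⟨-, y, hy, hxy⟩ := hU x x.2 hx0
    exact hxy (by rw [← hx ⟨y, hy⟩, hpol])
  · intro y hy
    by_contra hne
    have hy0 : (y : ι → F) ≠ 0 := fun h => hne (Subtype.ext h)
    obtain ⟨⟨x, hx, hxy⟩, -⟩ := hU y y.2 hy0
    exact hxy (by rw [← hy ⟨x, hx⟩, hpol])

/-- REAL: realising `(X-1) c` on a nondegenerate subspace of odd dimension. -/
theorem REAL (h2 : (2 : F) ≠ 0) (Q : QuadraticForm F (ι → F)) (U : Submodule F (ι → F))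
    (hU : Cfsg.Geo.IsNondegenerateOn (QuadraticMap.polar ⇑Q) U) (k : ℕ)
    (hk : finrank F U = 2 * k + 1) (r : ℕ) (hodd : Odd r) (hne : (r : F) ≠ 0) (c : F[X])
    (hc : Pal r k c) :
    ∃ a : Module.End F U, (∀ u : U, Q ((a u : U) : ι → F) = Q (u : ι → F)) ∧ a ^ r = 1 ∧
      a.charpoly = (X - 1) * c := by
  classical
  have hQ' : (QuadraticMap.polarBilin (Q.comp U.subtype)).Nondegenerate :=
    nondegenerate_comp_subtype_of_geo Q U hU
  obtain ⟨φ, μ, -, hφ⟩ :=
    Cfsg.Agent.Lib.Helper40_OOdd.exists_simil_qfOdd k hk (Q.comp U.subtype) hQ'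
  obtain ⟨g₀, hg1, hg2⟩ :=
    Cfsg.Agent.Lib.Helper40_OOdd.exists_element h2 k r hodd hne c hc.1 hc.2.1 hc.2.2.1 hc.2.2.2
  have hO := oData_of_mem (qfOdd k F) g₀ r hg1 hodd hne
  set T₀ : Module.End F (Unit ⊕ (Fin k ⊕ Fin k) → F) := Matrix.toLin' (mat (qfOdd k F) g₀) with hT₀
  have hQU : ∀ u : U, Q (u : ι → F) = (Q.comp U.subtype) u := fun u => rfl
  have hconj : ∀ u : U, φ.symm.conj T₀ u = φ.symm (T₀ (φ u)) := by
    intro u
    rw [LinearEquiv.conj_apply_apply, LinearEquiv.symm_symm]
  have hpow : ∀ n : ℕ, ∀ u : U, ((φ.symm.conj T₀) ^ n) u = φ.symm ((T₀ ^ n) (φ u)) := by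
    intro n
    induction n with
    | zero =>
      intro u
      rw [pow_zero, pow_zero, Module.End.one_apply, Module.End.one_apply, LinearEquiv.symm_apply_apply]
    | succ n ih =>
      intro u
      rw [pow_succ', pow_succ', Module.End.mul_apply, Module.End.mul_apply, ih, hconj,
        LinearEquiv.apply_symm_apply]
  refine ⟨φ.symm.conj T₀, ?_, ?_, ?_⟩
  · intro u
    rw [hQU, hQU, hφ, hφ, hconj, LinearEquiv.apply_symm_apply, hO.iso]
  · apply LinearMap.ext
    intro u
    rw [hpow, hO.pow, Module.End.one_apply, Module.End.one_apply, LinearEquiv.symm_apply_apply]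
  · rw [LinearEquiv.charpoly_conj, hT₀, Matrix.charpoly_toLin', hg2]

end

end Cfsg.Agent.Lib.Helper51_OND_REAL
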