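import Mathlib
import Cfsg.Agent.Lib.Helper84_OTSDefs
import Cfsg.Agent.Lib.Helper99_SpAtoms

set_option autoImplicit false

/-!
Package ON of S5972 (architect helper84): for an isometry `a` of odd invertible order of a
quadratic space with nondegenerate polar form, the fixed space `ker (a - 1)` is nondegenerate.
-/

open Polynomial Module Matrix
open Cfsg.Agent.Lib.Helper40_SpBasic Cfsg.Agent.Lib.Helper40_OConj Cfsg.Agent.Lib.Helper40_OConj.OData
  Cfsg.Agent.Lib.Helper99_SpAtoms Cfsg.Agent.Lib.Helper84_OTSDefs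

namespace Cfsg.Agent.Lib.Helper8_OTS_ON

universe v

/-- every vector is the sum of a fixed vector and a vector of `[V, a]` -/
theorem exists_fix_add_comm {F : Type v} [Field F] {V : Type v} [AddCommGroup V] [Module F V]
    {Q : QuadraticForm F V} {a : Module.End F V} {N : ℕ} (h : OData Q a N) (u : V) :
    ∃ f c : V, a f = f ∧ c ∈ comm a ∧ u = f + c := by
  have h1 : u ∈ Module.End.eigenspace a 1 ⊔ LinearMap.range (a - 1) := by
    rw [fix_sup_range h.pos h.ne h.pow]
    exact Submodule.mem_top
  obtain ⟨f, hf, c, hc, hfc⟩ := Submodule.mem_sup.1 h1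
  refine ⟨f, c, ?_, hc, hfc.symm⟩
  rw [Module.End.mem_eigenspace_iff, one_smul] at hf
  exact hf

/-- ON: the fixed space is nondegenerate -/
theorem ON {F : Type v} [Field F] {V : Type v} [AddCommGroup V] [Module F V]
    [FiniteDimensional F V] {Q : QuadraticForm F V} {a : Module.End F V} {N : ℕ}
    (h : OData Q a N) (hQ : (pol Q).Nondegenerate) : NDOn (pol Q) (LinearMap.ker (a - 1)) := by
  intro z hz hzy
  have hz1 : a z = z := by
    have := LinearMap.mem_ker.1 hz
    rw [LinearMap.sub_apply, Module.End.one_apply] at this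
    exact sub_eq_zero.1 this
  apply hQ.1 z
  intro u
  obtain ⟨f, c, hf, hc, rfl⟩ := exists_fix_add_comm h u
  have hf' : f ∈ LinearMap.ker (a - 1) := by
    rw [LinearMap.mem_ker, LinearMap.sub_apply, Module.End.one_apply, hf, sub_self]
  rw [map_add, hzy f hf', h.orth_of_fixed z hz1 c hc, add_zero]

end Cfsg.Agent.Lib.Helper8_OTS_ON
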