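import Mathlib
import Cfsg.Agent.Lib.Helper84_OTSDefs
import Cfsg.Agent.Lib.Helper99_SpAtoms
import Cfsg.Agent.Lib.Helper99_InvSub
import Cfsg.Agent.Lib.Helper99_PrimeOrderSL
import Cfsg.Agent.Lib.Helper99_SubspaceCount
import Cfsg.Agent.Lib.Helper8_OTS_ON

set_option autoImplicit false

/-!
Package OD of S5972 (architect helper84): an invariant totally singular subspace `W` of an isometry
`a` of odd prime order `r ≠ p` splits as `(W ⊓ Fix) ⊕ (W ⊓ [V,a])`, the order `i` of `q` modulo `r`
divides `dim (W ⊓ [V,a])`, and `2 dim (W ⊓ Fix) ≤ dim Fix`.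
-/

open Polynomial Module Matrix
open Cfsg.Agent.Lib.Helper40_SpBasic Cfsg.Agent.Lib.Helper40_OConj Cfsg.Agent.Lib.Helper40_OConj.OData
  Cfsg.Agent.Lib.Helper99_SpAtoms Cfsg.Agent.Lib.Helper84_OTSDefs

namespace Cfsg.Agent.Lib.Helper8_OTS_OD

universe v

/-- a totally isotropic subspace of a nondegenerate subspace for a symmetric form has at most
half the dimension (the statement OW2 for symmetric bilinear forms) -/
theorem symm_two_mul_finrank_le {F : Type v} [Field F] {V : Type v} [AddCommGroup V] [Module F V]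
    [FiniteDimensional F V] (B : LinearMap.BilinForm F V) (hsymm : ∀ x y, B x y = B y x)
    {C E : Submodule F V} (hC : NDOn B C) (hEC : E ≤ C) (hE : IsoOn B E) :
    2 * finrank F E ≤ finrank F C := by
  have hnd : (B.restrict C).Nondegenerate := by
    constructor
    · intro x hx
      apply Subtype.ext
      apply hC x x.2
      intro y hy
      exact hx ⟨y, hy⟩
    · intro x hx
      apply Subtype.ext
      apply hC x x.2
      intro y hy
      have h2 : B y x = 0 := hx ⟨y, hy⟩
      rw [hsymm, h2]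
  set E' : Submodule F C := E.comap C.subtype with hE'
  have h1 : finrank F E' = finrank F E :=
    Cfsg.Agent.Lib.Helper99_SubspaceCount.finrank_comap_subtype hEC
  have h2 := LinearMap.BilinForm.finrank_orthogonal hnd E'
  have h3 : E' ≤ (B.restrict C).orthogonal E' := by
    intro x hx
    rw [LinearMap.BilinForm.mem_orthogonal_iff]
    intro y hy
    exact hE y hy x hx
  have h4 := Submodule.finrank_mono h3
  have h5 : finrank F E' ≤ finrank F C := Submodule.finrank_le E'
  omega

/-- the norm operator maps an invariant subspace into itself -/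
theorem norm_mem_of_inv {F : Type v} [Field F] {V : Type v} [AddCommGroup V] [Module F V]
    {a : Module.End F V} {W : Submodule F V} (hW : Inv a W) (r : ℕ) {w : V} (hw : w ∈ W) :
    Cfsg.Agent.Lib.Helper99_DecompNec.norm a r w ∈ W := by
  unfold Cfsg.Agent.Lib.Helper99_DecompNec.norm
  rw [LinearMap.sum_apply]
  exact Submodule.sum_mem _ (fun i _ => hW.pow_mem i hw)

theorem ker_eq_eigenspace {F : Type v} [Field F] {V : Type v} [AddCommGroup V] [Module F V]
    (a : Module.End F V) : LinearMap.ker (a - 1) = Module.End.eigenspace a 1 := by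
  ext x
  rw [Module.End.mem_eigenspace_iff, one_smul, LinearMap.mem_ker, LinearMap.sub_apply,
    Module.End.one_apply, sub_eq_zero]

/-- OD -/
theorem OD {F : Type v} [Field F] [Fintype F] {p : ℕ} [Fact p.Prime] [CharP F p]
    {V : Type v} [AddCommGroup V] [Module F V] [FiniteDimensional F V]
    {Q : QuadraticForm F V} {a : Module.End F V} {r : ℕ}
    (h : OData Q a r) (hQ : (pol Q).Nondegenerate) (hr : r.Prime) (hrp : r ≠ p)
    {W : Submodule F V} (hW : Inv a W) (hWts : TSOn Q W) :
    finrank F W = finrank F (W ⊓ LinearMap.ker (a - 1) : Submodule F V)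
        + finrank F (W ⊓ comm a : Submodule F V) ∧
      orderOf ((Fintype.card F : ℕ) : ZMod r) ∣ finrank F (W ⊓ comm a : Submodule F V) ∧
      2 * finrank F (W ⊓ LinearMap.ker (a - 1) : Submodule F V) ≤ finrank F (LinearMap.ker (a - 1)) := by
  have hker := ker_eq_eigenspace a
  have hdisj0 : Disjoint (LinearMap.ker (a - 1)) (comm a) := by
    rw [hker]
    exact disjoint_fix_range h.ne h.pow
  have hdisj : Disjoint (W ⊓ LinearMap.ker (a - 1)) (W ⊓ comm a) :=
    hdisj0.mono inf_le_right inf_le_right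
  have hsup : (W ⊓ LinearMap.ker (a - 1)) ⊔ (W ⊓ comm a) = W := by
    apply le_antisymm (sup_le inf_le_left inf_le_left)
    intro w hw
    have hn : Cfsg.Agent.Lib.Helper99_DecompNec.norm a r w ∈ W := norm_mem_of_inv hW r hw
    have h1 : w = (r : F)⁻¹ • Cfsg.Agent.Lib.Helper99_DecompNec.norm a r w
        + (r : F)⁻¹ • ((r : F) • w - Cfsg.Agent.Lib.Helper99_DecompNec.norm a r w) := by
      rw [← smul_add, add_sub_cancel, smul_smul, inv_mul_cancel₀ h.ne, one_smul]
    rw [h1]
    refine Submodule.add_mem_sup (Submodule.smul_mem _ _ ⟨hn, ?_⟩)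
      (Submodule.smul_mem _ _ ⟨W.sub_mem (W.smul_mem _ hw) hn, smul_sub_norm_mem a r w⟩)
    rw [hker]
    exact Cfsg.Agent.Lib.Helper99_DecompNec.norm_mem_eigenspace h.pos h.pow w
  refine ⟨?_, ?_, ?_⟩
  · conv_lhs => rw [← hsup]
    exact Cfsg.Agent.Lib.Helper99_InvSub.finrank_sup_of_disjoint hdisj
  · have hss : a.IsSemisimple :=
      Cfsg.Agent.Lib.Helper99_PrimeOrderSL.isSemisimple_of_pow_eq_one a r h.ne h.pow
    have he : 1 ≤ orderOf ((Fintype.card F : ℕ) : ZMod r) :=
      (Cfsg.Agent.Lib.Helper40_PrimeOrderClasses.exists_cyclotomic_factors (F := F) p r hr hrp).1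
    have H := Cfsg.Agent.Lib.Helper99_PrimeOrderSL.hasBlocks_of_pow_eq_one (p := p) a hr hrp h.pow
    refine Cfsg.Agent.Lib.Helper99_InvSub.dvd_finrank_of_disjoint hss he H _ (W ⊓ comm a) rfl ?_ ?_
    · rw [Module.End.mem_invtSubmodule]
      intro x hx
      exact ⟨hW x hx.1, inv_comm a x hx.2⟩
    · rw [← hker]
      exact hdisj0.symm.mono_left inf_le_right
  · have hON : NDOn (pol Q) (LinearMap.ker (a - 1)) := Cfsg.Agent.Lib.Helper8_OTS_ON.ON h hQ
    exact symm_two_mul_finrank_le (pol Q) (pol_comm Q) hON inf_le_right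
      (hWts.mono inf_le_left).isoOn

end Cfsg.Agent.Lib.Helper8_OTS_OD
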