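import Mathlib
import Cfsg.Prelude.Def_GeometricClasses
import Cfsg.Agent.Lib.Helper84_OTSDefs
import Cfsg.Agent.Lib.Helper40_OOdd
import Cfsg.Agent.Lib.Helper40_OClasses
import Cfsg.Agent.Lib.Helper40_SpPrimeOrder
import Cfsg.Agent.Lib.Helper40_PrimeOrderClasses
import Cfsg.Agent.Lib.Helper44_OmegaOdd
import Cfsg.Agent.Lib.Helper14_POmegaSimple
import Cfsg.Agent.Lib.Helper99_SpTI2
import Cfsg.Agent.Lib.Helper99_PrimeOrderSL
import Cfsg.Agent.Lib.Helper75_SpTIBound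
import Cfsg.Agent.Lib.Helper43_OTS_OB
import Cfsg.Agent.Lib.Helper8_OTS_OD

set_option autoImplicit false

/-!
# S5972 package OE2 (helper51): the special element of `Ω_{2d+1}(q)`, `ord_r(q)` even

An element of odd prime order `r ≠ p` (with `i = ord_r(q)` even) of `Ω_{2d+1}(q)` none of whose
invariant totally singular subspaces has dimension `m`, when `¬ (t + 2 (m / i) ≤ (2 d + 1) / i)`,
`t = (r - 1) / i`.  Model: `Helper27_SpSpecialElt` (the symplectic case).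
-/

namespace Cfsg.Agent.Lib.Helper51_OTS_OE2

open Polynomial Module Matrix
open scoped MatrixGroups
open Cfsg.Agent.Lib.Helper40_SpBasic Cfsg.Agent.Lib.Helper40_OConj Cfsg.Agent.Lib.Helper40_OConj.OData
  Cfsg.Agent.Lib.Helper99_SpAtoms Cfsg.Agent.Lib.Helper84_OTSDefs
open Cfsg.Agent.Lib.Helper40_Palindromic Cfsg.Agent.Lib.Helper40_SpPrimeOrder
  Cfsg.Agent.Lib.Helper40_PrimeOrderClasses Cfsg.Agent.Lib.Helper99_PrimeOrderSL
  Cfsg.Agent.Lib.Helper44_StdForms Cfsg.Agent.Lib.Helper40_OClasses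

universe v

/-- an element of odd order of the isometry group of `Q`, viewed in `GL`, lies in `omegaGL` of the
underlying function -/
theorem coe_mem_omegaGL {ι : Type} [Fintype ι] [DecidableEq ι] {F : Type v} [Field F] [Fintype F]
    (h2 : (2 : F) ≠ 0) (Q : QuadraticForm F (ι → F)) (Q' : (ι → F) → F) (hQQ : ⇑Q = Q')
    (hQ : (QuadraticMap.polarBilin Q).Nondegenerate) (g : ↥(Cfsg.isometryGroup F (⇑Q)))
    {k : ℕ} (hk : Odd k) (hg : g ^ k = 1) :
    ((g : ↥(Cfsg.isometryGroup F (⇑Q))) : GL ι F) ∈ Cfsg.Geo.omegaGL Q' := by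
  subst hQQ
  exact ⟨g, Cfsg.Agent.Lib.Helper44_OmegaOdd.mem_omega_of_pow_eq_one h2 Q hQ g hk hg, rfl⟩

/-- the fixed space of an endomorphism is at most as large as the multiplicity of `1` as a root of
the characteristic polynomial -/
theorem finrank_ker_sub_one_le {F : Type v} [Field F] {V : Type v} [AddCommGroup V] [Module F V]
    [FiniteDimensional F V] (a : Module.End F V) :
    finrank F (LinearMap.ker (a - 1)) ≤ a.charpoly.rootMultiplicity 1 := by
  rw [← LinearMap.finrank_maxGenEigenspace_eq]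
  apply Submodule.finrank_mono
  intro v hv
  rw [LinearMap.mem_ker, LinearMap.sub_apply, Module.End.one_apply, sub_eq_zero] at hv
  rw [Module.End.mem_maxGenEigenspace]
  refine ⟨1, ?_⟩
  rw [pow_one, LinearMap.sub_apply, LinearMap.smul_apply, Module.End.one_apply, one_smul, hv,
    sub_self]

/-- the orthogonal analogue of `Helper27_SpSpecialElt.exists_of_data` -/
theorem exists_of_data {F : Type v} [Field F] [Fintype F] {p : ℕ} [Fact p.Prime] [CharP F p]
    (h2 : (2 : F) ≠ 0) {r : ℕ} (hr : r.Prime) (hr2 : r ≠ 2) (hrp : r ≠ p)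
    (hie : Even (orderOf ((Fintype.card F : ℕ) : ZMod r))) (d : ℕ)
    (w₀ : F[X]) (S : Finset F[X])
    (hw₀ : w₀.Monic ∧ Irreducible w₀ ∧ w₀ ≠ X - 1 ∧ w₀ ∣ X ^ r - 1 ∧
      w₀.natDegree = orderOf ((Fintype.card F : ℕ) : ZMod r))
    (hS : ∀ w ∈ S, w.Monic ∧ Irreducible w ∧ w ≠ X - 1 ∧ w ∣ X ^ r - 1 ∧
      w.natDegree = orderOf ((Fintype.card F : ℕ) : ZMod r)) (hw₀S : w₀ ∉ S)
    (e₀ a₀ : ℕ) (he₀ : Odd e₀) (ha₀ : 1 ≤ a₀)
    (hdeg : e₀ + orderOf ((Fintype.card F : ℕ) : ZMod r) * a₀ +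
      orderOf ((Fintype.card F : ℕ) : ZMod r) * S.card = 2 * d + 1) :
    ∃ x : GL (Unit ⊕ (Fin d ⊕ Fin d)) F, x ∈ Cfsg.Geo.omegaGL (Cfsg.quadFormOdd d F) ∧
      orderOf x = r ∧
      ∀ W : Submodule F (Unit ⊕ (Fin d ⊕ Fin d) → F),
        W.map (Matrix.toLin' (x : Matrix (Unit ⊕ (Fin d ⊕ Fin d)) (Unit ⊕ (Fin d ⊕ Fin d)) F)) ≤ W →
        (∀ w ∈ W, Cfsg.quadFormOdd d F w = 0) →
        finrank F W ≤ e₀ / 2 + orderOf ((Fintype.card F : ℕ) : ZMod r) * (a₀ / 2) := by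
  classical
  set i := orderOf ((Fintype.card F : ℕ) : ZMod r) with hi
  have hipos : 0 < i := (exists_cyclotomic_factors (F := F) p r hr hrp).1
  have hrev : ∀ w : F[X], w.Monic → Irreducible w → w ≠ X - 1 → w ∣ X ^ r - 1 →
      w.reverse = w := by
    intro w hwm hwi hw1 hwd
    have hw0 : w.coeff 0 ≠ 0 := coeff_zero_ne_zero_of_dvd r hr.pos w hwd
    have hw11 : w.eval 1 ≠ 0 := eval_one_ne_zero w hwm hwi hw1
    have hrec : recip w = w := recip_eq_of_even p r i hr hi hipos hie w hwm hwi hw1 hwd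
    have hc0 : w.coeff 0 = 1 := coeff_zero_eq_one_of_recip_eq w hw0 hrec hw11
    exact reverse_eq_of_recip_eq w hc0 hrec
  have hX1 : ((X : F[X]) - 1) = X - C 1 := by rw [map_one]
  have hX1m : ((X : F[X]) - 1).Monic := by rw [hX1]; exact monic_X_sub_C 1
  obtain ⟨e₁, he₁⟩ : ∃ e₁, e₀ = e₁ + 1 := ⟨e₀ - 1, by have := he₀.pos; omega⟩
  have he₁e : Even e₁ := by
    rw [he₁] at he₀
    rcases Nat.even_or_odd e₁ with h | h
    · exact h
    · exact absurd he₀ (by rw [Nat.not_odd_iff_even]; exact h.add_one)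
  set c : F[X] := (X - 1) ^ e₁ * w₀ ^ a₀ * ∏ w ∈ S, w with hc
  have hSm : (∏ w ∈ S, w).Monic := monic_prod_of_monic S _ (fun w hw => (hS w hw).1)
  have hcm : c.Monic := ((hX1m.pow e₁).mul (hw₀.1.pow a₀)).mul hSm
  have hSdeg : (∏ w ∈ S, w).natDegree = i * S.card := by
    rw [natDegree_prod_of_monic S _ (fun w hw => (hS w hw).1),
      Finset.sum_congr rfl (fun w hw => (hS w hw).2.2.2.2), Finset.sum_const, smul_eq_mul,
      mul_comm]
  have hcdeg : c.natDegree = 2 * d := by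
    rw [hc, ((hX1m.pow e₁).mul (hw₀.1.pow a₀)).natDegree_mul hSm,
      (hX1m.pow e₁).natDegree_mul (hw₀.1.pow a₀), hX1m.natDegree_pow, hw₀.1.natDegree_pow, hX1,
      natDegree_X_sub_C, hw₀.2.2.2.2, hSdeg, mul_one]
    have h5 : a₀ * i = i * a₀ := mul_comm _ _
    omega
  have hcrev : c.reverse = c := by
    rw [hc, reverse_mul_of_domain, reverse_mul_of_domain, reverse_X_sub_one_pow e₁ he₁e,
      reverse_pow', hrev w₀ hw₀.1 hw₀.2.1 hw₀.2.2.1 hw₀.2.2.2.1, reverse_prod']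
    congr 1
    exact Finset.prod_congr rfl
      (fun w hw => hrev w (hS w hw).1 (hS w hw).2.1 (hS w hw).2.2.1 (hS w hw).2.2.2.1)
  have hX1d : ((X : F[X]) - 1) ∣ X ^ r - 1 := by
    have := sub_dvd_pow_sub_pow (X : F[X]) 1 r
    rwa [one_pow] at this
  have hcf : ∀ f : F[X], Irreducible f → f ∣ c → f ∣ X ^ r - 1 := by
    intro g hg hgf
    rw [hc] at hgf
    rcases hg.prime.dvd_or_dvd hgf with h | h
    · rcases hg.prime.dvd_or_dvd h with h | h
      · exact (hg.prime.dvd_of_dvd_pow h).trans hX1d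
      · exact (hg.prime.dvd_of_dvd_pow h).trans hw₀.2.2.2.1
    · obtain ⟨w, hwS, hgw⟩ := (Prime.dvd_finsetProd_iff hg.prime _).1 h
      exact hgw.trans (hS w hwS).2.2.2.1
  have hodd : Odd r := hr.odd_of_ne_two hr2
  have hne : ((r : ℕ) : F) ≠ 0 := natCast_ne_zero hr hrp
  obtain ⟨g, hgr, hch⟩ :=
    Cfsg.Agent.Lib.Helper40_OOdd.exists_element h2 d r hodd hne c hcm hcdeg hcrev hcf
  have hQ : (pol (qfOdd d F)).Nondegenerate :=
    Cfsg.Agent.Lib.Helper14_POmegaSimple.nondegenerate_qfOdd h2 d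
  set a : Module.End F (Unit ⊕ (Fin d ⊕ Fin d) → F) := Matrix.toLin' (mat (qfOdd d F) g) with ha
  have hO : OData (qfOdd d F) a r := oData_of_mem (qfOdd d F) g r hgr hodd hne
  have hχ : a.charpoly = (X - 1) ^ e₀ * w₀ ^ a₀ * ∏ w ∈ S, w := by
    rw [ha, Matrix.charpoly_toLin', hch, hc, he₁, pow_succ']
    ring
  have hrest1 : (w₀ ^ a₀ * ∏ w ∈ S, w).eval 1 ≠ 0 := by
    rw [eval_mul, eval_pow, eval_prod]
    refine mul_ne_zero (pow_ne_zero _ (eval_one_ne_zero w₀ hw₀.1 hw₀.2.1 hw₀.2.2.1)) ?_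
    rw [Finset.prod_ne_zero_iff]
    exact fun w hw => eval_one_ne_zero w (hS w hw).1 (hS w hw).2.1 (hS w hw).2.2.1
  have hfix : finrank F (LinearMap.ker (a - 1)) ≤ e₀ := by
    refine (finrank_ker_sub_one_le a).trans (le_of_eq ?_)
    have hne0 : (X - 1 : F[X]) ^ e₀ * (w₀ ^ a₀ * ∏ w ∈ S, w) ≠ 0 := by
      rw [← mul_assoc, ← hχ]
      exact a.charpoly_monic.ne_zero
    rw [hχ, mul_assoc, rootMultiplicity_mul hne0, hX1, rootMultiplicity_X_sub_C_pow,
      rootMultiplicity_eq_zero, add_zero]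
    exact hrest1
  refine ⟨((g : ↥(Cfsg.isometryGroup F (⇑(qfOdd d F)))) : GL (Unit ⊕ (Fin d ⊕ Fin d)) F), ?_, ?_, ?_⟩
  · exact coe_mem_omegaGL h2 (qfOdd d F) _ (coe_qfOdd d F) hQ g hodd hgr
  · have : Fact r.Prime := ⟨hr⟩
    apply orderOf_eq_prime
    · rw [← SubgroupClass.coe_pow, hgr]
      rfl
    · intro h1
      have ha1 : a = 1 := by
        rw [ha]
        show Matrix.toLin' ((((g : ↥(Cfsg.isometryGroup F (⇑(qfOdd d F)))) :
          GL (Unit ⊕ (Fin d ⊕ Fin d)) F)) : Matrix (Unit ⊕ (Fin d ⊕ Fin d)) (Unit ⊕ (Fin d ⊕ Fin d)) F) = 1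
        rw [h1, Units.val_one, Matrix.toLin'_one]
        rfl
      have h3 : finrank F (LinearMap.ker (a - 1)) = 2 * d + 1 := by
        rw [ha1, sub_self, LinearMap.ker_zero, finrank_top, Module.finrank_fintype_fun_eq_card]
        simp
        ring
      have h4 : 1 ≤ i * a₀ := Nat.mul_pos hipos ha₀
      omega
  · intro W hWinv hWts
    have hInv : Inv a W := fun x hx => hWinv (Submodule.mem_map_of_mem hx)
    have hTS : TSOn (qfOdd d F) W := by
      intro w hw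
      have := hWts w hw
      rw [← coe_qfOdd] at this
      exact this
    obtain ⟨h1, -, h3⟩ := Cfsg.Agent.Lib.Helper8_OTS_OD.OD hO hQ hr hrp hInv hTS
    have h4 := Cfsg.Agent.Lib.Helper43_OTS_OB.OB h2 hO hQ hr hr2 hrp hie w₀ S
      ⟨hw₀.1, hw₀.2.1, hw₀.2.2.1, hw₀.2.2.2.1⟩
      (fun w hw => ⟨(hS w hw).1, (hS w hw).2.1, (hS w hw).2.2.1, (hS w hw).2.2.2.1⟩) hw₀S e₀ a₀ hχ
      hInv hTS
    rw [← hi] at h4
    omega

/-- OE2: the special element (`i` even). -/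
theorem OE2 {F : Type v} [Field F] [Fintype F] {p : ℕ} [Fact p.Prime] [CharP F p]
    (h2 : (2 : F) ≠ 0) {r : ℕ} (hr : r.Prime) (hr2 : r ≠ 2) (hrp : r ≠ p)
    (hie : Even (orderOf ((Fintype.card F : ℕ) : ZMod r))) (d m : ℕ) (hmd : m ≤ d)
    (him : orderOf ((Fintype.card F : ℕ) : ZMod r) ≤ m)
    (hneg : ¬ ((r - 1) / orderOf ((Fintype.card F : ℕ) : ZMod r) +
      2 * (m / orderOf ((Fintype.card F : ℕ) : ZMod r)) ≤
        (2 * d + 1) / orderOf ((Fintype.card F : ℕ) : ZMod r))) :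
    ∃ x : GL (Unit ⊕ (Fin d ⊕ Fin d)) F, x ∈ Cfsg.Geo.omegaGL (Cfsg.quadFormOdd d F) ∧
      orderOf x = r ∧
      ∀ W : Submodule F (Unit ⊕ (Fin d ⊕ Fin d) → F),
        W.map (Matrix.toLin' (x : Matrix (Unit ⊕ (Fin d ⊕ Fin d)) (Unit ⊕ (Fin d ⊕ Fin d)) F)) ≤ W →
        (∀ w ∈ W, Cfsg.quadFormOdd d F w = 0) → finrank F W ≠ m := by
  classical
  obtain ⟨hipos, Wset, hWcard, hW1, -⟩ := exists_cyclotomic_factors (F := F) p r hr hrp
  set i := orderOf ((Fintype.card F : ℕ) : ZMod r) with hi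
  set t := (r - 1) / i with ht
  set n' := (2 * d + 1) / i with hn'
  set m' := m / i with hm'
  have hq0 : ((Fintype.card F : ℕ) : ZMod r) ≠ 0 := by
    rw [Ne, ZMod.natCast_eq_zero_iff]
    intro h
    have hp : p.Prime := Fact.out
    obtain ⟨k, -, hk⟩ := FiniteField.card F p
    rw [hk] at h
    exact hrp ((Nat.prime_dvd_prime_iff_eq hr hp).1 (hr.dvd_of_dvd_pow h))
  have : Fact r.Prime := ⟨hr⟩
  have hedvd : i ∣ r - 1 := ZMod.orderOf_dvd_card_sub_one hq0
  have hpos : 0 < r - 1 := by have := hr.two_le; omega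
  have htpos : 0 < t := Nat.div_pos (Nat.le_of_dvd hpos hedvd) hipos
  have hWpos : 0 < Wset.card := by rw [hWcard]; exact htpos
  obtain ⟨w₀, hw₀W⟩ := Finset.card_pos.1 hWpos
  have hErase : (Wset.erase w₀).card = t - 1 := by
    rw [Finset.card_erase_of_mem hw₀W, hWcard]
  -- arithmetic facts
  have hdm : i * n' + (2 * d + 1) % i = 2 * d + 1 := Nat.div_add_mod (2 * d + 1) i
  have hklt : (2 * d + 1) % i < i := Nat.mod_lt _ hipos
  have hmm : i * m' ≤ m := Nat.mul_div_le m i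
  have hn'pos : 0 < n' := Nat.div_pos (by omega) hipos
  have hneg' : n' + 1 ≤ t + 2 * m' := by omega
  have h2i : 2 ∣ i := hie.two_dvd
  by_cases hcase : n' ≤ t
  · -- few blocks
    obtain ⟨S, hSsub, hScard⟩ :=
      Finset.exists_subset_card_eq (s := Wset.erase w₀) (n := n' - 1) (by rw [hErase]; omega)
    have hke : Odd ((2 * d + 1) % i) := by
      rw [Nat.odd_iff, Nat.mod_mod_of_dvd _ h2i]
      omega
    obtain ⟨x, hxΩ, hxr, hbd⟩ := exists_of_data h2 hr hr2 hrp hie d w₀ S (hW1 w₀ hw₀W)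
      (fun w hw => hW1 w (Finset.mem_of_mem_erase (hSsub hw)))
      (fun h => (Finset.notMem_erase w₀ Wset) (hSsub h)) ((2 * d + 1) % i) 1 hke le_rfl (by
        rw [hScard, ← hi, mul_one]
        have : i * (n' - 1) + i = i * n' := by
          rw [← Nat.mul_succ]
          congr 1
          omega
        omega)
    refine ⟨x, hxΩ, hxr, ?_⟩
    intro W hWinv hWti hWm
    have := hbd W hWinv hWti
    rw [← hi, hWm] at this
    have h0 : (1 : ℕ) / 2 = 0 := by norm_num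
    rw [h0, mul_zero, add_zero] at this
    omega
  · -- many blocks
    rw [not_le] at hcase
    set c := (n' - t) / 2 with hc
    have hN1 : t + 2 * c ≤ n' := by omega
    have hN2 : n' ≤ t + 2 * c + 1 := by omega
    have hiN : i * (t + 2 * c) ≤ 2 * d + 1 := by
      calc i * (t + 2 * c) ≤ i * n' := Nat.mul_le_mul_left i hN1
        _ ≤ 2 * d + 1 := by omega
    have hee : Odd (2 * d + 1 - i * (t + 2 * c)) := by
      rw [Nat.odd_sub hiN]
      exact ⟨fun _ => hie.mul_right _, fun _ => odd_two_mul_add_one d⟩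
    obtain ⟨x, hxΩ, hxr, hbd⟩ := exists_of_data h2 hr hr2 hrp hie d w₀ (Wset.erase w₀)
      (hW1 w₀ hw₀W) (fun w hw => hW1 w (Finset.mem_of_mem_erase hw))
      (Finset.notMem_erase w₀ Wset) (2 * d + 1 - i * (t + 2 * c)) (2 * c + 1) hee (by omega) (by
        rw [hErase, ← hi]
        have h1 : i * (2 * c + 1) + i * (t - 1) = i * (t + 2 * c) := by
          rw [← Nat.mul_add]
          congr 1
          omega
        omega)
    refine ⟨x, hxΩ, hxr, ?_⟩
    intro W hWinv hWti hWm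
    have := hbd W hWinv hWti
    rw [← hi, hWm] at this
    have h0 : (2 * c + 1) / 2 = c := by omega
    rw [h0] at this
    obtain ⟨e', he'⟩ := hee
    have h3 : (2 * d + 1 - i * (t + 2 * c)) / 2 = e' := by omega
    rw [h3] at this
    have h4 : i * (t + 2 * c) = i * t + 2 * (i * c) := by ring
    have h5 : i * (n' + 1) ≤ i * (t + 2 * m') := Nat.mul_le_mul_left i hneg'
    have h6 : i * (n' + 1) = i * n' + i := by ring
    have h7 : i * (t + 2 * m') = i * t + 2 * (i * m') := by ring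
    omega

end Cfsg.Agent.Lib.Helper51_OTS_OE2
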