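import Mathlib
import Cfsg.Agent.Lib.Helper38_OTDefs
import Cfsg.Agent.Lib.Helper94_OrthVec
import Cfsg.Agent.Lib.Helper17_UT_BAS1

set_option autoImplicit false
set_option linter.unusedSectionVars false
set_option linter.unusedVariables false

/-!
# OTENS4 package BAS (architect helper38): the tensor form of two alternating forms is symmetric
and nondegenerate; the kernel of the contraction `ctrA α x` is `(x ⊗ B)^⊥`.
Twin of `Helper31_UT_BAS3`.
-/

namespace Cfsg.Agent.Lib.Helper51_OT_BAS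

open Matrix Module
open Cfsg.Agent.Lib.Helper98_ExtDefs Cfsg.Agent.Lib.Helper97_TensDefs
open Cfsg.Agent.Lib.Helper94_Herm
open Cfsg.Agent.Lib.Helper67_UT2Defs Cfsg.Agent.Lib.Helper37_UTDefs
open Cfsg.Agent.Lib.Helper37_UTPairDefs
open Cfsg.Agent.Lib.Helper94_OrthSmall Cfsg.Agent.Lib.Helper94_OrthSiegel
open Cfsg.Agent.Lib.Helper94_OrthNondeg (InZ)
open Cfsg.Agent.Lib.Helper67_T2ODefs (IsAltMap aw)
open Cfsg.Agent.Lib.Helper38_OTDefs

variable {F : Type*} [Field F] {ι κ : Type*} [Fintype ι] [Fintype κ] [DecidableEq ι]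
  [DecidableEq κ]
variable {α : LinearMap.BilinForm F (ι → F)} {β : LinearMap.BilinForm F (κ → F)}
variable {Q : Matrix ι κ F → F} {M : Subgroup (Matrix ι κ F ≃ₗ[F] Matrix ι κ F)}

/-! ## BAS (M): the tensor form of two alternating forms -/

theorem alt_swapO {W : Type*} [AddCommGroup W] [Module F W] {ω : LinearMap.BilinForm F W}
    (hω : ∀ x, ω x x = 0) (x y : W) : ω x y = - ω y x := by
  have h := hω (x + y)
  simp only [map_add, LinearMap.add_apply, hω x, hω y, zero_add, add_zero] at h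
  exact eq_neg_of_add_eq_zero_right h

theorem nondegenerate_of_nondegOn {W : Type*} [AddCommGroup W] [Module F W]
    {ω : LinearMap.BilinForm F W} (hω : ∀ x, ω x x = 0) (h : NondegOn ω ⊤) :
    ω.Nondegenerate := by
  constructor
  · intro x hx
    by_contra hx0
    obtain ⟨y, -, hy⟩ := h x trivial hx0
    exact hy (hx y)
  · intro y hy
    by_contra hy0
    obtain ⟨x, -, hx⟩ := h y trivial hy0
    apply hx
    rw [alt_swapO hω, hy x, neg_zero]

theorem tf_symmO (hα : ∀ x, α x x = 0) (hβ : ∀ y, β y y = 0) (X Y : Matrix ι κ F) :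
    tf α β X Y = tf α β Y X := by
  rw [tf_apply, tf_apply, Finset.sum_comm]
  refine Finset.sum_congr rfl fun j _ => ?_
  refine Finset.sum_congr rfl fun l _ => ?_
  rw [alt_swapO hα (colv X l) (colv Y j), alt_swapO hβ (Pi.single l 1) (Pi.single j 1)]
  ring

theorem tf_nondegO (hα : ∀ x, α x x = 0) (hαN : NondegOn α ⊤) (hβ : ∀ y, β y y = 0)
    (hβN : NondegOn β ⊤) : NondegOn (tf α β) ⊤ := by
  intro X _ hX
  -- a nonzero row
  have hrow : ∃ i, X i ≠ 0 := by
    by_contra hcon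
    push Not at hcon
    exact hX (by ext i j; rw [hcon i]; rfl)
  obtain ⟨i, hi⟩ := hrow
  obtain ⟨y, -, hy⟩ := hβN (X i) trivial hi
  have hc : ctrB β y X ≠ 0 := by
    intro h0
    apply hy
    have := congr_fun h0 i
    rwa [ctrB_apply] at this
  obtain ⟨x, -, hx⟩ := hαN (ctrB β y X) trivial hc
  refine ⟨vecMulVec x y, trivial, ?_⟩
  rw [Cfsg.Agent.Lib.Helper17_UT_BAS1.tf_right_pure]
  exact hx

theorem tf_nondegenerateO (hα : ∀ x, α x x = 0) (hαN : NondegOn α ⊤) (hβ : ∀ y, β y y = 0)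
    (hβN : NondegOn β ⊤) : LinearMap.BilinForm.Nondegenerate (tf α β) := by
  have hN := tf_nondegO hα hαN hβ hβN
  constructor
  · intro X hX
    by_contra hX0
    obtain ⟨Y, -, hY⟩ := hN X trivial hX0
    exact hY (hX Y)
  · intro Y hY
    by_contra hY0
    obtain ⟨X, -, hX⟩ := hN Y trivial hY0
    apply hX
    rw [tf_symmO hα hβ]
    exact hY X

/-- the kernel of the contraction `ctrA α x` is `(x ⊗ B)^⊥` -/
theorem ctrA_eq_zero_iff (hB : OTBase α β Q M) (x : ι → F) (X : Matrix ι κ F) :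
    ctrA α x X = 0 ↔ X ∈ orthS (tf α β) (fibB (κ := κ) x) := by
  rw [mem_orthS]
  constructor
  · intro h0 Y hY
    obtain ⟨w, rfl⟩ := hY
    rw [Cfsg.Agent.Lib.Helper17_UT_BAS1.tf_right_pure', h0, map_zero, LinearMap.zero_apply]
  · intro h
    by_contra hne
    obtain ⟨w, -, hw⟩ := hB.hβN (ctrA α x X) trivial hne
    apply hw
    rw [← Cfsg.Agent.Lib.Helper17_UT_BAS1.tf_right_pure']
    exact h _ ⟨w, rfl⟩

end Cfsg.Agent.Lib.Helper51_OT_BAS
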