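import Mathlib

set_option autoImplicit false
set_option linter.unusedSectionVars false
set_option linter.unusedVariables false

/-!
# OEXT3 package IRR_DER (helper51): for a nonzero alternating `F`-bilinear form `γ` on a cubic
extension `K` (`2 ≠ 0`), every alternating form is `(k, k') ↦ γ (c k) k' + γ k (c k')`.

Proof: `c ↦ D_c γ` (coordinates on the three basis pairs) is injective: `D_c γ = 0` makes the radical
`F ρ` of `γ` invariant under `c`, so `c ∈ F` and `2 c γ = 0`; hence it is onto `F³`.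
-/

namespace Cfsg.Agent.Lib.Helper51_OX3_IRR_DER

open Module

variable {F K : Type*} [Field F] [Field K] [Algebra F K]

/-- an alternating form is skew -/
theorem h51_skew (γ : K →ₗ[F] K →ₗ[F] F) (hγ : ∀ k, γ k k = 0) (x y : K) : γ x y = -γ y x := by
  have h := hγ (x + y)
  simp only [map_add, LinearMap.add_apply, hγ, zero_add, add_zero] at h
  linear_combination h

/-- an alternating form vanishing on the three basis pairs is zero -/
theorem h51_alt_ext (b : Basis (Fin 3) F K) (γ : K →ₗ[F] K →ₗ[F] F) (hγ : ∀ k, γ k k = 0)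
    (h01 : γ (b 0) (b 1) = 0) (h02 : γ (b 0) (b 2) = 0) (h12 : γ (b 1) (b 2) = 0) : γ = 0 := by
  have h10 : γ (b 1) (b 0) = 0 := by rw [h51_skew γ hγ, h01, neg_zero]
  have h20 : γ (b 2) (b 0) = 0 := by rw [h51_skew γ hγ, h02, neg_zero]
  have h21 : γ (b 2) (b 1) = 0 := by rw [h51_skew γ hγ, h12, neg_zero]
  apply LinearMap.ext_basis b b
  intro i j
  fin_cases i <;> fin_cases j <;> simp [hγ, h01, h02, h12, h10, h20, h21]

/-- expansion of a vector in the basis -/
theorem h51_expand (b : Basis (Fin 3) F K) (x : K) :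
    x = b.repr x 0 • b 0 + b.repr x 1 • b 1 + b.repr x 2 • b 2 := by
  conv_lhs => rw [← b.sum_repr x]
  rw [Fin.sum_univ_three]

theorem h51_fin {l x0 x1 x2 a12 a13 a23 : F} {v0 v1 v2 : K} (h0 : x0 = l * a23)
    (h1 : x1 = -(l * a13)) (h2 : x2 = l * a12) :
    x0 • v0 + x1 • v1 + x2 • v2 = l • (a23 • v0 - a13 • v1 + a12 • v2) := by
  subst h0 h1 h2
  module

/-- the radical of a nonzero alternating form on a three-dimensional space is a line -/
theorem h51_radical (b : Basis (Fin 3) F K) (γ : K →ₗ[F] K →ₗ[F] F) (hγ : ∀ k, γ k k = 0)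
    (hne : γ ≠ 0) :
    ∃ ρ : K, ρ ≠ 0 ∧ (∀ y, γ ρ y = 0) ∧ ∀ x, (∀ y, γ x y = 0) → ∃ l : F, x = l • ρ := by
  set a12 := γ (b 0) (b 1) with ha12
  set a13 := γ (b 0) (b 2) with ha13
  set a23 := γ (b 1) (b 2) with ha23
  have h10 : γ (b 1) (b 0) = -a12 := h51_skew γ hγ _ _
  have h20 : γ (b 2) (b 0) = -a13 := h51_skew γ hγ _ _
  have h21 : γ (b 2) (b 1) = -a23 := h51_skew γ hγ _ _
  have hnz : ¬ (a12 = 0 ∧ a13 = 0 ∧ a23 = 0) := by
    rintro ⟨h1, h2, h3⟩
    exact hne (h51_alt_ext b γ hγ h1 h2 h3)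
  refine ⟨a23 • b 0 - a13 • b 1 + a12 • b 2, ?_, ?_, ?_⟩
  · intro h0
    apply hnz
    have hr := congrArg b.repr h0
    simp only [map_add, map_sub, map_smul, Basis.repr_self, map_zero] at hr
    have e0 := DFunLike.congr_fun hr 0
    have e1 := DFunLike.congr_fun hr 1
    have e2 := DFunLike.congr_fun hr 2
    simp at e0 e1 e2
    exact ⟨e2, e1, e0⟩
  · intro y
    have hz : γ (a23 • b 0 - a13 • b 1 + a12 • b 2) = 0 := by
      apply b.ext
      intro j
      fin_cases j <;>
        simp only [map_add, map_sub, map_smul, LinearMap.add_apply, LinearMap.sub_apply,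
          LinearMap.smul_apply, LinearMap.zero_apply, smul_eq_mul, hγ, h10, h20, h21,
          ← ha12, ← ha13, ← ha23, Fin.zero_eta, Fin.mk_one, Fin.reduceFinMk] <;> ring
    rw [hz, LinearMap.zero_apply]
  · intro x hx
    set x0 := b.repr x 0 with hx0
    set x1 := b.repr x 1 with hx1
    set x2 := b.repr x 2 with hx2
    have hxe : x = x0 • b 0 + x1 • b 1 + x2 • b 2 := h51_expand b x
    have e0 : -(x1 * a12) - x2 * a13 = 0 := by
      have := hx (b 0)
      rw [hxe] at this
      simp only [map_add, map_smul, LinearMap.add_apply, LinearMap.smul_apply, smul_eq_mul, hγ,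
        h10, h20] at this
      linear_combination this
    have e1 : x0 * a12 - x2 * a23 = 0 := by
      have := hx (b 1)
      rw [hxe] at this
      simp only [map_add, map_smul, LinearMap.add_apply, LinearMap.smul_apply, smul_eq_mul, hγ,
        h21, ← ha12] at this
      linear_combination this
    have e2 : x0 * a13 + x1 * a23 = 0 := by
      have := hx (b 2)
      rw [hxe] at this
      simp only [map_add, map_smul, LinearMap.add_apply, LinearMap.smul_apply, smul_eq_mul, hγ,
        ← ha13, ← ha23] at this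
      linear_combination this
    by_cases h12 : a12 = 0
    · by_cases h13 : a13 = 0
      · have h23 : a23 ≠ 0 := fun h => hnz ⟨h12, h13, h⟩
        have hx2z : x2 = 0 := by
          rw [h12] at e1
          have : x2 * a23 = 0 := by linear_combination -e1
          exact (mul_eq_zero.mp this).resolve_right h23
        have hx1z : x1 = 0 := by
          rw [h13] at e2
          have : x1 * a23 = 0 := by linear_combination e2
          exact (mul_eq_zero.mp this).resolve_right h23
        refine ⟨x0 / a23, ?_⟩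
        rw [hxe]
        apply h51_fin
        · rw [div_mul_cancel₀ _ h23]
        · rw [hx1z, h13, mul_zero, neg_zero]
        · rw [hx2z, h12, mul_zero]
      · have hx2z : x2 = 0 := by
          rw [h12] at e0
          have : x2 * a13 = 0 := by linear_combination -e0
          exact (mul_eq_zero.mp this).resolve_right h13
        refine ⟨-x1 / a13, ?_⟩
        rw [hxe]
        apply h51_fin
        · field_simp
          linear_combination e2
        · field_simp
        · rw [hx2z, h12, mul_zero]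
    · refine ⟨x2 / a12, ?_⟩
      rw [hxe]
      apply h51_fin
      · field_simp
        linear_combination e1
      · field_simp
        linear_combination -e0
      · field_simp

/-- the linear functional `c ↦ γ (c k) k' + γ k (c k')` -/
def h51_dmap (γ : K →ₗ[F] K →ₗ[F] F) (k k' : K) : K →ₗ[F] F :=
  (γ.flip k').comp (LinearMap.mulRight F k) + (γ k).comp (LinearMap.mulRight F k')

theorem h51_dmap_apply (γ : K →ₗ[F] K →ₗ[F] F) (k k' c : K) :
    h51_dmap γ k k' c = γ (c * k) k' + γ k (c * k') := by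
  simp [h51_dmap]

/-- the form `D_c γ` -/
def h51_D (γ : K →ₗ[F] K →ₗ[F] F) (c : K) : K →ₗ[F] K →ₗ[F] F :=
  γ.comp (LinearMap.mulLeft F c) + γ.compl₂ (LinearMap.mulLeft F c)

theorem h51_D_apply (γ : K →ₗ[F] K →ₗ[F] F) (c k k' : K) :
    h51_D γ c k k' = γ (c * k) k' + γ k (c * k') := by
  simp [h51_D]

theorem h51_D_alt (γ : K →ₗ[F] K →ₗ[F] F) (hγ : ∀ k, γ k k = 0) (c k : K) :
    h51_D γ c k k = 0 := by
  rw [h51_D_apply, h51_skew γ hγ (c * k) k]
  ring

/-- injectivity of `c ↦ D_c γ` -/
theorem h51_D_inj (h2 : (2 : F) ≠ 0) (b : Basis (Fin 3) F K) (γ : K →ₗ[F] K →ₗ[F] F)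
    (hγ : ∀ k, γ k k = 0) (hne : ∃ k k' : K, γ k k' ≠ 0) (c : K) (hc : h51_D γ c = 0) :
    c = 0 := by
  have hne' : γ ≠ 0 := by
    rintro rfl
    obtain ⟨k, k', h⟩ := hne
    exact h rfl
  have hD : ∀ k k', γ (c * k) k' + γ k (c * k') = 0 := by
    intro k k'
    rw [← h51_D_apply, hc]
    rfl
  obtain ⟨ρ, hρ0, hρ, hrad⟩ := h51_radical b γ hγ hne'
  have hcρ : ∀ y, γ (c * ρ) y = 0 := by
    intro y
    have := hD ρ y
    rw [hρ, add_zero] at this
    exact this
  obtain ⟨l, hl⟩ := hrad _ hcρ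
  have hcl : c = algebraMap F K l := by
    have h1 : (c - algebraMap F K l) * ρ = 0 := by
      rw [sub_mul, hl, Algebra.smul_def, sub_self]
    rcases mul_eq_zero.mp h1 with h | h
    · exact sub_eq_zero.mp h
    · exact absurd h hρ0
  obtain ⟨k, k', hkk'⟩ := hne
  have h3 := hD k k'
  rw [hcl, ← Algebra.smul_def, ← Algebra.smul_def, map_smul, map_smul, LinearMap.smul_apply,
    smul_eq_mul] at h3
  have h4 : (2 * l) * γ k k' = 0 := by linear_combination h3
  have h5 : l = 0 := by
    rcases mul_eq_zero.mp h4 with h | h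
    · exact (mul_eq_zero.mp h).resolve_left h2
    · exact absurd h hkk'
  rw [hcl, h5, map_zero]

/-- IRR_DER: for a nonzero alternating `F`-bilinear form `γ` on a cubic extension `K` (`2 ≠ 0`),
every alternating form is `(k, k') ↦ γ (c k) k' + γ k (c k')` for some `c : K` -/
theorem der_surj {F K : Type*} [Field F] [Field K] [Algebra F K] (h2 : (2 : F) ≠ 0)
    (hdim : finrank F K = 3) (γ γ' : K →ₗ[F] K →ₗ[F] F) (hγ : ∀ k, γ k k = 0)
    (hγ' : ∀ k, γ' k k = 0) (hne : ∃ k k' : K, γ k k' ≠ 0) :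
    ∃ c : K, ∀ k k' : K, γ' k k' = γ (c * k) k' + γ k (c * k') := by
  have hfd : FiniteDimensional F K := Module.finite_of_finrank_pos (by rw [hdim]; norm_num)
  let b : Basis (Fin 3) F K := Module.finBasisOfFinrankEq F K hdim
  -- the coordinate map
  let Φ : K →ₗ[F] (Fin 3 → F) :=
    LinearMap.pi ![h51_dmap γ (b 0) (b 1), h51_dmap γ (b 0) (b 2), h51_dmap γ (b 1) (b 2)]
  have hΦ0 : ∀ c, Φ c 0 = h51_D γ c (b 0) (b 1) := fun c => by
    simp [Φ, h51_dmap_apply, h51_D_apply]
  have hΦ1 : ∀ c, Φ c 1 = h51_D γ c (b 0) (b 2) := fun c => by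
    simp [Φ, h51_dmap_apply, h51_D_apply]
  have hΦ2 : ∀ c, Φ c 2 = h51_D γ c (b 1) (b 2) := fun c => by
    simp [Φ, h51_dmap_apply, h51_D_apply]
  have hinj : Function.Injective Φ := by
    rw [← LinearMap.ker_eq_bot, LinearMap.ker_eq_bot']
    intro c hc
    apply h51_D_inj h2 b γ hγ hne c
    apply h51_alt_ext b _ (h51_D_alt γ hγ c)
    · rw [← hΦ0, hc]; rfl
    · rw [← hΦ1, hc]; rfl
    · rw [← hΦ2, hc]; rfl
  have hsurj : Function.Surjective Φ := by
    have heq : finrank F K = finrank F (Fin 3 → F) := by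
      rw [hdim, Module.finrank_fintype_fun_eq_card, Fintype.card_fin]
    exact (LinearMap.injective_iff_surjective_of_finrank_eq_finrank heq).mp hinj
  obtain ⟨c, hc⟩ := hsurj ![γ' (b 0) (b 1), γ' (b 0) (b 2), γ' (b 1) (b 2)]
  refine ⟨c, ?_⟩
  have hz : γ' - h51_D γ c = 0 := by
    apply h51_alt_ext b
    · intro k
      rw [LinearMap.sub_apply, LinearMap.sub_apply, hγ', h51_D_alt γ hγ, sub_zero]
    · rw [LinearMap.sub_apply, LinearMap.sub_apply, ← hΦ0, hc]; simp
    · rw [LinearMap.sub_apply, LinearMap.sub_apply, ← hΦ1, hc]; simp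
    · rw [LinearMap.sub_apply, LinearMap.sub_apply, ← hΦ2, hc]; simp
  intro k k'
  rw [← h51_D_apply]
  have h := LinearMap.congr_fun (LinearMap.congr_fun hz k) k'
  rw [LinearMap.sub_apply, LinearMap.sub_apply, LinearMap.zero_apply, LinearMap.zero_apply,
    sub_eq_zero] at h
  exact h

end Cfsg.Agent.Lib.Helper51_OX3_IRR_DER
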