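import Mathlib
import Cfsg.Agent.Lib.Helper98_AschDefs
import Cfsg.Agent.Lib.Helper98_AschCliff
import Cfsg.Agent.Lib.Helper23_FormDefs
import Cfsg.Agent.Lib.Helper29_Asch_PKG0
import Cfsg.Agent.Lib.Helper29_Asch_PKP1
import Cfsg.Agent.Lib.Helper29_OrthOdd_Glue
import Cfsg.Agent.Lib.Helper7_OrthOdd_OG2
import Cfsg.Agent.Lib.Helper30_AschMax
import Cfsg.Agent.Lib.Helper94_OrthGenBridge
import Cfsg.Agent.Lib.Helper94_TensorVec
import Cfsg.Agent.Lib.Helper94_TensorFrame
import Cfsg.Agent.Lib.Helper99_OrthR2_B5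
import Cfsg.Agent.Lib.Helper32_OrthOdd_OP7b

set_option autoImplicit false

/-!
PL12 (helper51, for the `Ω₁₂⁺(q)` row S5871; register of helper85) = EV55 of helper22's batch 5 (contrapositive):
a tensor product of symmetric forms with first factor of odd dimension and second factor of even dimension has the type
of the second factor.  Proof by the discriminant criterion (`Helper99_OrthR2_B5.isHyp_iff_gram`): the Gram matrix of the
polar form in the tensor basis is `c • (G₁ ⊗ₖ G₂)`, whose determinant is `det G₂` up to a non-zero square.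
-/

namespace Cfsg.Agent.Lib.Helper51_OrthEven_PL12

open Cfsg Cfsg.Geo Matrix Cfsg.Agent.Lib.Helper98_AschDefs Cfsg.Agent.Lib.Helper23_FormDefs
open scoped Kronecker MatrixGroups
open Cfsg.Agent.Lib.Helper94_OrthGenBridge Cfsg.Agent.Lib.Helper94_TensorVec Cfsg.Agent.Lib.Helper94_TensorFrame
  Cfsg.Agent.Lib.Helper40_QuadIso Cfsg.Agent.Lib.Helper99_OrthR2_B5

variable {ι : Type} [Fintype ι] [DecidableEq ι] {F : Type*} [Field F]

/-- the Gram form on standard basis vectors -/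
lemma formOfGram_single {κ : Type} [Fintype κ] [DecidableEq κ] (M : Matrix κ κ F) (a a' : κ) :
    formOfGram id M (Pi.single a 1) (Pi.single a' 1) = M a a' := by
  unfold formOfGram
  simp [Pi.single_apply]

/-- the discriminant criterion for a symmetric form `f₂` on `F^n₂`, `n₂ = 2 m₂ > 0` -/
lemma plus_of_isSquare [Fintype F] (h2 : (2 : F) ≠ 0) (n₂ m₂ : ℕ) (hm₂ : 1 ≤ m₂) (hn₂ : n₂ = 2 * m₂)
    (f₂ : (Fin n₂ → F) → (Fin n₂ → F) → F) (hf₂ : IsSymmetricForm f₂)
    (hsq : IsSquare ((-1 : F) ^ m₂ * (gramMatrix f₂).det)) :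
    IsPlusTypeOn (fun v : Fin n₂ → F => f₂ v v) ⊤ := by
  classical
  set B : LinearMap.BilinForm F (Fin n₂ → F) := bilinOf f₂ hf₂.bilinear with hB
  set Q₂ : QuadraticForm F (Fin n₂ → F) := B.toQuadraticMap with hQ₂
  have hQv : ∀ v, Q₂ v = f₂ v v := fun v => rfl
  have hpol : ∀ v w, QuadraticMap.polar (⇑Q₂) v w = 2 * f₂ v w := by
    intro v w
    simp only [QuadraticMap.polar, hQv]
    rw [hf₂.bilinear.add_left, hf₂.bilinear.add_right, hf₂.bilinear.add_right, hf₂.symm w v]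
    ring
  have hnd : (QuadraticMap.polarBilin Q₂).Nondegenerate := by
    constructor
    · intro v hv
      by_contra hv0
      obtain ⟨x, hx⟩ := (hf₂.nondegenerate v hv0).2
      have := hv x
      rw [QuadraticMap.polarBilin_apply_apply, hpol] at this
      exact hx ((mul_eq_zero.mp this).resolve_left h2)
    · intro v hv
      by_contra hv0
      obtain ⟨x, hx⟩ := (hf₂.nondegenerate v hv0).1
      have := hv x
      rw [QuadraticMap.polarBilin_apply_apply, hpol] at this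
      exact hx ((mul_eq_zero.mp this).resolve_left h2)
  have hV : Module.finrank F (Fin n₂ → F) = 2 * m₂ := by
    rw [Module.finrank_fintype_fun_eq_card, Fintype.card_fin, hn₂]
  have hgram : LinearMap.BilinForm.toMatrix (Pi.basisFun F (Fin n₂)) (QuadraticMap.polarBilin Q₂) =
      (2 : F) • gramMatrix f₂ := by
    ext j j'
    rw [LinearMap.BilinForm.toMatrix_apply, QuadraticMap.polarBilin_apply_apply, hpol, Matrix.smul_apply,
      smul_eq_mul]
    simp only [Pi.basisFun_apply]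
    rfl
  have hhyp : IsHyp Q₂ := by
    rw [isHyp_iff_gram h2 Q₂ hnd m₂ hm₂ hV (Pi.basisFun F (Fin n₂)), hgram, Matrix.det_smul,
      Fintype.card_fin]
    have h2pow : (2 : F) ^ n₂ = 2 ^ m₂ * 2 ^ m₂ := by rw [hn₂, two_mul, pow_add]
    obtain ⟨r, hr⟩ := hsq
    refine ⟨2 ^ m₂ * r, ?_⟩
    rw [h2pow]
    linear_combination (2 ^ m₂ * 2 ^ m₂ : F) * hr
  obtain ⟨U, hU, hdim⟩ := hhyp
  obtain ⟨X, hXU, hX⟩ := exists_le_finrank_eq U m₂ (by omega)
  refine ⟨X, le_top, fun w hw => hU w (hXU hw), ?_⟩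
  rw [finrank_top, hX, hV]

/-- PL12: a tensor product of symmetric forms with odd-dimensional first factor is of plus type only if the second
factor is -/
theorem PL12 [Fintype F] (Q : (ι → F) → F) (hQ : IsNondegenerateQuadraticForm Q) (h2 : (2 : F) ≠ 0)
    (n₁ n₂ : ℕ) (hn₁ : Odd n₁) (hn₂ : Even n₂) (e : ι ≃ Fin n₁ × Fin n₂) (P : GL ι F)
    (f₁ : (Fin n₁ → F) → (Fin n₁ → F) → F) (f₂ : (Fin n₂ → F) → (Fin n₂ → F) → F)
    (hf₁ : IsSymmetricForm f₁) (hf₂ : IsSymmetricForm f₂)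
    (hten : IsTensorFormStructure id (QuadraticMap.polar Q) f₁ f₂ e P)
    (hplus : IsPlusTypeOn Q ⊤) : IsPlusTypeOn (fun v : Fin n₂ → F => f₂ v v) ⊤ := by
  classical
  obtain ⟨m₂, hm₂⟩ := hn₂
  have hn₂' : n₂ = 2 * m₂ := by omega
  rcases Nat.eq_zero_or_pos m₂ with h0 | hpos
  · -- the second factor is the zero space
    refine ⟨⊥, le_top, fun w hw => ?_, ?_⟩
    · rw [Submodule.mem_bot] at hw
      rw [hw]
      have := hf₂.bilinear.smul_left 0 0 0
      simpa using this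
    · rw [finrank_bot, finrank_top, Module.finrank_fintype_fun_eq_card, Fintype.card_fin, hn₂', h0]
  obtain ⟨k, hk⟩ := hn₁
  obtain ⟨c, hc0, hc⟩ := hten
  have hd₁ : (gramMatrix f₁).det ≠ 0 :=
    Cfsg.Agent.Lib.Helper32_OrthOdd_OP7b.gram_det_ne_zero (RingEquiv.refl F) f₁ hf₁.bilinear.add_left
      hf₁.bilinear.smul_left hf₁.bilinear.add_right hf₁.bilinear.smul_right hf₁.nondegenerate
  have hd₂ : (gramMatrix f₂).det ≠ 0 :=
    Cfsg.Agent.Lib.Helper32_OrthOdd_OP7b.gram_det_ne_zero (RingEquiv.refl F) f₂ hf₂.bilinear.add_left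
      hf₂.bilinear.smul_left hf₂.bilinear.add_right hf₂.bilinear.smul_right hf₂.nondegenerate
  -- the criterion for `Q`
  set m : ℕ := n₁ * m₂ with hm
  have hcard : Fintype.card ι = 2 * m := by
    rw [Fintype.card_congr e, Fintype.card_prod, Fintype.card_fin, Fintype.card_fin, hn₂', hm]
    ring
  have hV : Module.finrank F (ι → F) = 2 * m := by
    rw [Module.finrank_fintype_fun_eq_card, hcard]
  have hm1 : 1 ≤ m := by
    rw [hm, hk]
    exact Nat.mul_pos (by omega) hpos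
  set b : Module.Basis (Fin n₁ × Fin n₂) F (ι → F) := (Pi.basisFun F (Fin n₁ × Fin n₂)).map (phi e P) with hb
  have hgram : LinearMap.BilinForm.toMatrix b (QuadraticMap.polarBilin (qfOf Q hQ)) =
      c • (gramMatrix f₁ ⊗ₖ gramMatrix f₂) := by
    ext a a'
    rw [LinearMap.BilinForm.toMatrix_apply, QuadraticMap.polarBilin_apply_apply, Matrix.smul_apply, smul_eq_mul]
    simp only [hb, Module.Basis.map_apply, Pi.basisFun_apply, phi_apply, coe_qfOf]
    rw [hc, formOfGram_single]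
  have hhyp : IsHyp (qfOf Q hQ) := by
    obtain ⟨U, -, hU, hdim⟩ := hplus
    refine ⟨U, fun u hu => hU u hu, ?_⟩
    rw [finrank_top] at hdim
    omega
  rw [isHyp_iff_gram h2 (qfOf Q hQ) (polarBilin_qfOf_nondeg Q hQ) m hm1 hV b, hgram, Matrix.det_smul,
    Matrix.det_kronecker, Fintype.card_prod, Fintype.card_fin, Fintype.card_fin] at hhyp
  apply plus_of_isSquare h2 n₂ m₂ hpos hn₂' f₂ hf₂
  set d₁ := (gramMatrix f₁).det with hd₁'
  set d₂ := (gramMatrix f₂).det with hd₂'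
  set T : F := (-1) ^ (k * m₂) * c ^ (n₁ * m₂) * d₁ ^ m₂ * d₂ ^ k with hT
  have hT0 : T ≠ 0 := by
    rw [hT]
    refine mul_ne_zero (mul_ne_zero (mul_ne_zero (pow_ne_zero _ (by norm_num)) (pow_ne_zero _ hc0))
      (pow_ne_zero _ hd₁)) (pow_ne_zero _ hd₂)
  have hfac : (-1 : F) ^ m * (c ^ (n₁ * n₂) * (d₁ ^ n₂ * d₂ ^ n₁)) = (-1 : F) ^ m₂ * d₂ * (T * T) := by
    rw [hT, hm, hn₂', hk]
    ring
  rw [hfac] at hhyp
  exact (isSquare_mul_sq_iff _ _ hT0).1 hhyp

end Cfsg.Agent.Lib.Helper51_OrthEven_PL12
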