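import Mathlib
import Cfsg.Agent.Lib.Helper98_AschDefs
import Cfsg.Agent.Lib.Helper98_AschCliff
import Cfsg.Agent.Lib.Helper23_FormDefs
import Cfsg.Agent.Lib.Helper29_Asch_PKG0
import Cfsg.Agent.Lib.Helper29_Asch_PKP1
import Cfsg.Agent.Lib.Helper29_OrthOdd_Glue
import Cfsg.Agent.Lib.Helper7_OrthOdd_OG2
import Cfsg.Agent.Lib.Helper30_AschMax
import Cfsg.Agent.Lib.Helper51_OrthEven_PL12

set_option autoImplicit false

/-!
EV55 (helper51, for helper22's even-dimensional orthogonal rows, batch 5): a tensor product of symmetric forms with first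
factor of odd dimension and second factor of even dimension and minus type is of minus type.  This is the contrapositive
of `Helper51_OrthEven_PL12.PL12`.
-/

namespace Cfsg.Agent.Lib.Helper51_OrthEven_EV55

open Cfsg Cfsg.Geo Matrix Cfsg.Agent.Lib.Helper98_AschDefs Cfsg.Agent.Lib.Helper23_FormDefs
open scoped Kronecker MatrixGroups

variable {ι : Type} [Fintype ι] [DecidableEq ι] {F : Type*} [Field F]

/-- EV55: a tensor product of symmetric forms with first factor of odd dimension and second factor of even dimension and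
minus type: minus type -/
theorem EV55 [Fintype F] (Q : (ι → F) → F) (hQ : IsNondegenerateQuadraticForm Q) (h2 : (2 : F) ≠ 0)
    (n₁ n₂ : ℕ) (hn₁ : Odd n₁) (hn₂ : Even n₂) (e : ι ≃ Fin n₁ × Fin n₂) (P : GL ι F)
    (f₁ : (Fin n₁ → F) → (Fin n₁ → F) → F) (f₂ : (Fin n₂ → F) → (Fin n₂ → F) → F)
    (hf₁ : IsSymmetricForm f₁) (hf₂ : IsSymmetricForm f₂)
    (hten : IsTensorFormStructure id (QuadraticMap.polar Q) f₁ f₂ e P)
    (hminus : ¬ IsPlusTypeOn (fun v : Fin n₂ → F => f₂ v v) ⊤) : ¬ IsPlusTypeOn Q ⊤ :=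
  fun hplus => hminus
    (Cfsg.Agent.Lib.Helper51_OrthEven_PL12.PL12 Q hQ h2 n₁ n₂ hn₁ hn₂ e P f₁ f₂ hf₁ hf₂ hten hplus)

end Cfsg.Agent.Lib.Helper51_OrthEven_EV55
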