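import Mathlib
import Cfsg.Prelude.Def_GeometricClasses
import Cfsg.Agent.Lib.Helper67_SpAschArith
import Cfsg.Agent.Lib.Helper40_S8Types

set_option autoImplicit false

namespace Cfsg.Agent.Lib.Helper51_Sp8

open Matrix Module Cfsg.Geo
open Cfsg.Agent.Lib.Helper94_TensorVec Cfsg.Agent.Lib.Helper94_Bridge Cfsg.Agent.Lib.Helper94_TensorFrame
open Cfsg.Agent.Lib.Helper40_QuadIso Cfsg.Agent.Lib.Helper44_StdForms
open scoped Kronecker

variable {F : Type*} [Field F]

/-- hyperbolic coordinates on a four-dimensional space of plus type -/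
theorem exists_hyp_coords [Fintype F] (h2 : (2 : F) ≠ 0) (f₂ : (Fin 4 → F) → (Fin 4 → F) → F)
    (hf₂ : IsSymmetricForm f₂) (hplus : IsPlusTypeOn (fun v : Fin 4 → F => f₂ v v) ⊤) :
    ∃ ψ : (Fin 4 → F) ≃ₗ[F] (Fin 2 ⊕ Fin 2 → F), ∀ v w : Fin 4 → F,
      2 * f₂ v w = ∑ i : Fin 2, ((ψ v) (Sum.inl i) * (ψ w) (Sum.inr i) + (ψ w) (Sum.inl i) * (ψ v) (Sum.inr i)) := by
  classical
  set B : LinearMap.BilinForm F (Fin 4 → F) := bilinOf f₂ hf₂.bilinear with hB
  set Q : QuadraticForm F (Fin 4 → F) := B.toQuadraticMap with hQ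
  have hQv : ∀ v, Q v = f₂ v v := fun v => rfl
  have hpol : ∀ v w, QuadraticMap.polar (⇑Q) v w = 2 * f₂ v w := by
    intro v w
    simp only [QuadraticMap.polar, hQv]
    rw [hf₂.bilinear.add_left, hf₂.bilinear.add_right, hf₂.bilinear.add_right, hf₂.symm w v]
    ring
  have hnd : (QuadraticMap.polarBilin Q).Nondegenerate := by
    constructor
    · intro v hv
      by_contra hv0
      obtain ⟨x, hx⟩ := (hf₂.nondegenerate v hv0).2
      have := hv x
      rw [QuadraticMap.polarBilin_apply_apply, hpol] at this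
      exact hx ((mul_eq_zero.mp this).resolve_left h2)
    · intro v hv
      by_contra hv0
      obtain ⟨x, hx⟩ := (hf₂.nondegenerate v hv0).1
      have := hv x
      rw [QuadraticMap.polarBilin_apply_apply, hpol] at this
      exact hx ((mul_eq_zero.mp this).resolve_left h2)
  have hhyp : IsHyp Q := by
    obtain ⟨U, -, hU, hdim⟩ := hplus
    refine ⟨U, fun u hu => hU u hu, ?_⟩
    rw [finrank_top] at hdim
    omega
  have hV : finrank F (Fin 4 → F) = 2 * 2 := by
    rw [Module.finrank_fintype_fun_eq_card, Fintype.card_fin]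
  obtain ⟨ψ, hψ⟩ := Cfsg.Agent.Lib.Helper40_S8Types.iso_plus_of_hyp 2 (by norm_num) hV Q hnd hhyp
  refine ⟨ψ, fun v w => ?_⟩
  rw [← hpol, ← polar_of_iso (ψ : (Fin 4 → F) →ₗ[F] (Fin 2 ⊕ Fin 2 → F)) hψ, coe_qfPlus, polar_quadFormPlus]
  rfl

/-- matching hyperbolic coordinates with the coordinates of a tensor square -/
def rho : (Fin 2 × Fin 2 → F) ≃ₗ[F] (Fin 2 ⊕ Fin 2 → F) where
  toFun y := Sum.elim (fun i => y (0, i)) (fun i => if i = 0 then y (1, 1) else - y (1, 0))
  invFun w := fun p => if p.1 = 0 then w (Sum.inl p.2) else (if p.2 = 0 then - w (Sum.inr 1) else w (Sum.inr 0))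
  map_add' y y' := by
    ext k
    rcases k with i | i
    · simp
    · fin_cases i <;> simp [add_comm]
  map_smul' c y := by
    ext k
    rcases k with i | i
    · simp
    · fin_cases i <;> simp
  left_inv y := by
    ext ⟨a, b⟩
    fin_cases a <;> fin_cases b <;> simp
  right_inv w := by
    ext k
    rcases k with i | i
    · simp
    · fin_cases i <;> simp

/-- coordinates of a tensor square on a four-dimensional space of plus type -/
theorem exists_sq_coords [Fintype F] (h2 : (2 : F) ≠ 0) (f₂ : (Fin 4 → F) → (Fin 4 → F) → F)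
    (hf₂ : IsSymmetricForm f₂) (hplus : IsPlusTypeOn (fun v : Fin 4 → F => f₂ v v) ⊤) :
    ∃ B₀ : (Fin 2 × Fin 2 → F) ≃ₗ[F] (Fin 4 → F), ∀ y y' : Fin 2 × Fin 2 → F,
      2 * f₂ (B₀ y) (B₀ y') =
        y (0, 0) * y' (1, 1) + y (1, 1) * y' (0, 0) - y (0, 1) * y' (1, 0) - y (1, 0) * y' (0, 1) := by
  obtain ⟨ψ, hψ⟩ := exists_hyp_coords h2 f₂ hf₂ hplus
  refine ⟨rho.trans ψ.symm, fun y y' => ?_⟩
  rw [hψ]
  simp only [LinearEquiv.trans_apply, LinearEquiv.apply_symm_apply, Fin.sum_univ_two]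
  simp [rho]
  ring

/-- a two by two array of determinant zero is a pure tensor -/
lemma exists_ten_of_det_zero (y : Fin 2 × Fin 2 → F) (h : y (0, 0) * y (1, 1) = y (0, 1) * y (1, 0)) :
    ∃ b c : Fin 2 → F, y = ten b c := by
  by_cases h00 : y (0, 0) = 0
  · rw [h00, zero_mul] at h
    rcases mul_eq_zero.mp h.symm with h01 | h10
    · refine ⟨![0, 1], ![y (1, 0), y (1, 1)], ?_⟩
      ext ⟨a, b⟩
      fin_cases a <;> fin_cases b <;> simp [h00, h01]
    · refine ⟨![y (0, 1), y (1, 1)], ![0, 1], ?_⟩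
      ext ⟨a, b⟩
      fin_cases a <;> fin_cases b <;> simp [h00, h10]
  · refine ⟨![1, y (1, 0) / y (0, 0)], ![y (0, 0), y (0, 1)], ?_⟩
    ext ⟨a, b⟩
    fin_cases a <;> fin_cases b <;> simp
    · field_simp
    · field_simp
      linear_combination h

/-- the Gram form of a Kronecker product through the slices of the arguments -/
lemma formOfGram_kron {κ₁ κ₂ : Type} [Fintype κ₁] [Fintype κ₂] [DecidableEq κ₂]
    (G₁ : Matrix κ₁ κ₁ F) (f₂ : (κ₂ → F) → (κ₂ → F) → F) (hf₂ : IsBilinearForm f₂)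
    (x x' : κ₁ × κ₂ → F) :
    formOfGram id (G₁ ⊗ₖ gramMatrix f₂) x x' =
      ∑ a, ∑ a', G₁ a a' * f₂ (fun j => x (a, j)) (fun j => x' (a', j)) := by
  unfold formOfGram
  simp only [Fintype.sum_prod_type, Matrix.kroneckerMap_apply, id]
  refine Finset.sum_congr rfl fun a _ => ?_
  rw [Finset.sum_comm]
  refine Finset.sum_congr rfl fun a' _ => ?_
  rw [form_eq_gram f₂ hf₂, Finset.mul_sum]
  refine Finset.sum_congr rfl fun j _ => ?_
  rw [Finset.mul_sum]
  refine Finset.sum_congr rfl fun j' _ => ?_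
  ring

/-- the exchange of the first two indices of a triple index -/
def sw : Fin 2 × (Fin 2 × Fin 2) ≃ Fin 2 × (Fin 2 × Fin 2) where
  toFun p := (p.2.1, (p.1, p.2.2))
  invFun p := (p.2.1, (p.1, p.2.2))
  left_inv _ := rfl
  right_inv _ := rfl

/-- the exchange of the first two factors of a triple tensor product -/
def swL : (Fin 2 × (Fin 2 × Fin 2) → F) ≃ₗ[F] (Fin 2 × (Fin 2 × Fin 2) → F) :=
  LinearEquiv.funCongrLeft F F sw

lemma swL_apply (z : Fin 2 × (Fin 2 × Fin 2) → F) (a b c : Fin 2) :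
    swL z (a, (b, c)) = z (b, (a, c)) := rfl

lemma swL_swL (z : Fin 2 × (Fin 2 × Fin 2) → F) : swL (swL z) = z := rfl

lemma swL_ten (v b c : Fin 2 → F) : swL (ten v (ten b c)) = ten b (ten v c) := by
  ext ⟨a, b', c'⟩
  rw [swL_apply]
  simp only [ten_apply]
  ring

/-- applying a linear equivalence to each slice -/
def sliceL (B₀ : (Fin 2 × Fin 2 → F) ≃ₗ[F] (Fin 4 → F)) :
    (Fin 2 × (Fin 2 × Fin 2) → F) ≃ₗ[F] (Fin 2 × Fin 4 → F) :=
  (LinearEquiv.curry F F (Fin 2) (Fin 2 × Fin 2)).trans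
    ((LinearEquiv.piCongrRight fun _ => B₀).trans (LinearEquiv.curry F F (Fin 2) (Fin 4)).symm)

lemma sliceL_apply (B₀ : (Fin 2 × Fin 2 → F) ≃ₗ[F] (Fin 4 → F)) (z : Fin 2 × (Fin 2 × Fin 2) → F)
    (a : Fin 2) (j : Fin 4) : sliceL B₀ z (a, j) = B₀ (fun q => z (a, q)) j := rfl

lemma sliceL_ten (B₀ : (Fin 2 × Fin 2 → F) ≃ₗ[F] (Fin 4 → F)) (v : Fin 2 → F) (y : Fin 2 × Fin 2 → F) :
    sliceL B₀ (ten v y) = ten v (B₀ y) := by
  ext ⟨a, j⟩
  rw [sliceL_apply]
  have : (fun q => ten v y (a, q)) = v a • y := by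
    ext q
    simp
  rw [this, map_smul]
  simp

lemma two_ne_zero_of_odd_card [Fintype F] (hodd : Odd (Fintype.card F)) : (2 : F) ≠ 0 := by
  intro h
  have hchar : ringChar F = 2 := by
    have : (ringChar F) ∣ 2 := (ringChar.spec F 2).mp (by exact_mod_cast h)
    rcases (Nat.dvd_prime Nat.prime_two).mp this with h1 | h1
    · exact absurd h1 (CharP.ringChar_ne_one)
    · exact h1
  have := FiniteField.even_card_of_char_two hchar
  rcases hodd with ⟨c, hc⟩
  omega

/-- the explicit trilinear shape of the form in triple coordinates -/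
def triForm (z z' : Fin 2 × (Fin 2 × Fin 2) → F) : F :=
  z (0, (0, 0)) * z' (1, (1, 1)) + z (0, (1, 1)) * z' (1, (0, 0)) - z (0, (0, 1)) * z' (1, (1, 0))
    - z (0, (1, 0)) * z' (1, (0, 1)) - z (1, (0, 0)) * z' (0, (1, 1)) - z (1, (1, 1)) * z' (0, (0, 0))
    + z (1, (0, 1)) * z' (0, (1, 0)) + z (1, (1, 0)) * z' (0, (0, 1))

lemma triForm_swL (z z' : Fin 2 × (Fin 2 × Fin 2) → F) : triForm (swL z) (swL z') = triForm z z' := by
  unfold triForm
  simp only [swL_apply]
  ring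

variable {m : ℕ}

/-- **Tensor decompositions `Sp_2 ⊗ O_4^+` are not maximal**: the stabiliser in the symplectic group of
a tensor decomposition whose symmetric factor is a four-dimensional form of plus type is properly
contained in the stabiliser of a decomposition as a third tensor power. -/
theorem tensor_plus_case [Fintype F] (hodd : Odd (Fintype.card F))
    (e : (Fin m ⊕ Fin m) ≃ Fin 2 × Fin 4) (P : GL (Fin m ⊕ Fin m) F)
    (f₁ : (Fin 2 → F) → (Fin 2 → F) → F) (f₂ : (Fin 4 → F) → (Fin 4 → F) → F)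
    (hf₁ : IsSymplecticForm f₁) (hf₂ : IsSymmetricForm f₂)
    (hplus : IsPlusTypeOn (fun v : Fin 4 → F => f₂ v v) ⊤)
    (hT : IsTensorFormStructure id (Cfsg.sympForm m F) f₁ f₂ e P)
    {H : Subgroup (GL (Fin m ⊕ Fin m) F)} (hH : IsMaximalIn (Cfsg.spGL m F) H)
    (hHT : H = tensorProductSubgroup 2 4 e P ⊓ Cfsg.spGL m F) : False := by
  classical
  have h2 : (2 : F) ≠ 0 := two_ne_zero_of_odd_card hodd
  obtain ⟨B₀, hB₀⟩ := exists_sq_coords h2 f₂ hf₂ hplus
  obtain ⟨c, hc, hform⟩ := hT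
  have hf00 : f₂ 0 0 = 0 := by
    have := hf₂.bilinear.smul_left 0 0 0
    simpa using this
  -- the form on pure tensors
  have hτ : ∀ (a a' : Fin 2 → F) (y y' : Fin 4 → F),
      Cfsg.sympForm m F (phi e P (ten a y)) (phi e P (ten a' y')) = c * (f₁ a a' * f₂ y y') := by
    intro a a' y y'
    rw [phi_apply, phi_apply, hform, formOfGram_ten f₁ f₂ hf₁.bilinear hf₂.bilinear]
  -- the Gram matrix of the first factor
  set γ : F := f₁ (Pi.single 0 1) (Pi.single 1 1) with hγ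
  have hf₁form : ∀ a a' : Fin 2 → F, f₁ a a' = γ * (a 0 * a' 1 - a 1 * a' 0) := by
    intro a a'
    rw [form_eq_gram f₁ hf₁.bilinear]
    simp only [Fin.sum_univ_two, gramMatrix]
    rw [hf₁.alternating, hf₁.alternating, hf₁.skew (Pi.single 1 1) (Pi.single 0 1)]
    ring
  -- triple coordinates
  set Ψ : (Fin 2 × (Fin 2 × Fin 2) → F) ≃ₗ[F] (Fin m ⊕ Fin m → F) := (sliceL B₀).trans (phi e P) with hΨ
  have hΨten : ∀ (v : Fin 2 → F) (y : Fin 2 × Fin 2 → F), Ψ (ten v y) = phi e P (ten v (B₀ y)) := by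
    intro v y
    rw [hΨ, LinearEquiv.trans_apply, sliceL_ten]
  have hΨform : ∀ z z' : Fin 2 × (Fin 2 × Fin 2) → F,
      2 * Cfsg.sympForm m F (Ψ z) (Ψ z') = c * γ * triForm z z' := by
    intro z z'
    rw [hΨ, LinearEquiv.trans_apply, LinearEquiv.trans_apply, phi_apply, phi_apply, hform,
      formOfGram_kron _ f₂ hf₂.bilinear]
    simp only [Fin.sum_univ_two, gramMatrix]
    rw [hf₁.alternating, hf₁.alternating, hf₁.skew (Pi.single 1 1) (Pi.single 0 1), ← hγ]
    have key : ∀ a a' : Fin 2, 2 * f₂ (fun j => sliceL B₀ z (a, j)) (fun j => sliceL B₀ z' (a', j)) =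
        z (a, (0, 0)) * z' (a', (1, 1)) + z (a, (1, 1)) * z' (a', (0, 0))
          - z (a, (0, 1)) * z' (a', (1, 0)) - z (a, (1, 0)) * z' (a', (0, 1)) :=
      fun a a' => hB₀ (fun q => z (a, q)) (fun q => z' (a', q))
    unfold triForm
    linear_combination (c * γ) * key 0 1 - (c * γ) * key 1 0
  -- singular vectors of the second factor are the pure tensors of the square coordinates
  have hsing : ∀ b c' : Fin 2 → F, f₂ (B₀ (ten b c')) (B₀ (ten b c')) = 0 := by
    intro b c'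
    have h := hB₀ (ten b c') (ten b c')
    simp only [ten_apply] at h
    have h' : 2 * f₂ (B₀ (ten b c')) (B₀ (ten b c')) = 0 := by
      rw [h]; ring
    exact (mul_eq_zero.mp h').resolve_left h2
  have hpure : ∀ s : Fin 4 → F, f₂ s s = 0 → ∃ b c' : Fin 2 → F, s = B₀ (ten b c') := by
    intro s hs
    have h := hB₀ (B₀.symm s) (B₀.symm s)
    rw [B₀.apply_symm_apply, hs, mul_zero] at h
    have hdet : (B₀.symm s) (0, 0) * (B₀.symm s) (1, 1) = (B₀.symm s) (0, 1) * (B₀.symm s) (1, 0) := by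
      have h3 : 2 * ((B₀.symm s) (0, 0) * (B₀.symm s) (1, 1) - (B₀.symm s) (0, 1) * (B₀.symm s) (1, 0)) = 0 := by
        linear_combination -h
      have h4 := (mul_eq_zero.mp h3).resolve_left h2
      linear_combination h4
    obtain ⟨b, c', hbc⟩ := exists_ten_of_det_zero _ hdet
    exact ⟨b, c', by rw [← hbc, B₀.apply_symm_apply]⟩
  -- a non-singular vector
  obtain ⟨n, hnn⟩ : ∃ n : Fin 4 → F, f₂ n n ≠ 0 := by
    refine ⟨B₀ (ten (Pi.single 0 1) (Pi.single 0 1) + ten (Pi.single 1 1) (Pi.single 1 1)), ?_⟩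
    have h6 := hB₀ (ten (Pi.single 0 1) (Pi.single 0 1) + ten (Pi.single 1 1) (Pi.single 1 1))
      (ten (Pi.single 0 1) (Pi.single 0 1) + ten (Pi.single 1 1) (Pi.single 1 1))
    generalize B₀ (ten (Pi.single 0 1) (Pi.single 0 1) + ten (Pi.single 1 1) (Pi.single 1 1)) = n at h6
    simp only [Pi.add_apply, ten_apply, Pi.single_apply] at h6
    norm_num at h6
    intro h0
    rw [h0, mul_zero] at h6
    exact h2 h6.symm
  -- the invariant set
  let S : Set (Fin m ⊕ Fin m → F) :=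
    {x | ∃ (v : Fin 2 → F) (s : Fin 4 → F), f₂ s s = 0 ∧ x = phi e P (ten v s)}
  -- the new element
  let gL : (Fin m ⊕ Fin m → F) ≃ₗ[F] (Fin m ⊕ Fin m → F) := Ψ.symm.trans (swL.trans Ψ)
  have hgL : ∀ z, gL (Ψ z) = Ψ (swL z) := by
    intro z
    show Ψ (swL (Ψ.symm (Ψ z))) = Ψ (swL z)
    rw [Ψ.symm_apply_apply]
  have hgL2 : ∀ x, gL (gL x) = x := by
    intro x
    show Ψ (swL (Ψ.symm (Ψ (swL (Ψ.symm x))))) = x
    rw [Ψ.symm_apply_apply, swL_swL, Ψ.apply_symm_apply]
  have hgLS : ∀ x ∈ S, gL x ∈ S := by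
    rintro x ⟨v, s, hs, rfl⟩
    obtain ⟨b, c', rfl⟩ := hpure s hs
    rw [← hΨten, hgL, swL_ten, hΨten]
    exact ⟨b, B₀ (ten v c'), hsing v c', rfl⟩
  have hgLiso : ∀ u v, Cfsg.sympForm m F (gL u) (gL v) = Cfsg.sympForm m F u v := by
    intro u v
    obtain ⟨z, rfl⟩ := Ψ.surjective u
    obtain ⟨z', rfl⟩ := Ψ.surjective v
    rw [hgL, hgL]
    have h := hΨform (swL z) (swL z')
    rw [triForm_swL, ← hΨform] at h
    exact mul_left_cancel₀ h2 h
  -- the stabiliser of the invariant set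
  let X' : Subgroup ((Fin m ⊕ Fin m → F) ≃ₗ[F] (Fin m ⊕ Fin m → F)) :=
    { carrier := {k | ∀ x, x ∈ S ↔ k x ∈ S}
      mul_mem' := by
        intro a b ha hb x
        rw [hb x, ha (b x)]
        rfl
      one_mem' := fun x => Iff.rfl
      inv_mem' := by
        intro a ha x
        have h := ha (a⁻¹ x)
        have h' : a (a⁻¹ x) = x := by
          rw [← LinearEquiv.mul_apply, mul_inv_cancel]
          rfl
        rw [h'] at h
        exact h.symm }
  have hX'mem : ∀ k, k ∈ X' ↔ ∀ x, x ∈ S ↔ k x ∈ S := fun k => Iff.rfl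
  let X : Subgroup (GL (Fin m ⊕ Fin m) F) := X'.comap (glEquiv (Fin m ⊕ Fin m) F).toMonoidHom
  have hXmem : ∀ k : GL (Fin m ⊕ Fin m) F, k ∈ X ↔
      ∀ x, x ∈ S ↔ (k : Matrix (Fin m ⊕ Fin m) (Fin m ⊕ Fin m) F) *ᵥ x ∈ S := by
    intro k
    show glEquiv (Fin m ⊕ Fin m) F k ∈ X' ↔ _
    rw [hX'mem]
    simp only [glEquiv_apply]
  -- the tensor group preserves the invariant set
  have hHfwd : ∀ h ∈ H, ∀ x ∈ S, (h : Matrix (Fin m ⊕ Fin m) (Fin m ⊕ Fin m) F) *ᵥ x ∈ S := by
    intro h hh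
    rw [hHT] at hh
    obtain ⟨A, B, hAB⟩ := exists_factors e P hh.1
    have hiso := (Cfsg.Agent.Lib.Helper67_SpAschMax.mem_spGL_iff h).mp hh.2
    rintro x ⟨v, s, hs, rfl⟩
    rw [← glEquiv_apply, hAB]
    refine ⟨A *ᵥ v, B *ᵥ s, ?_, rfl⟩
    -- the second factor is a similitude
    obtain ⟨a', ha'⟩ := (hf₁.nondegenerate (Pi.single 0 1) (by
      intro h0
      have := congrFun h0 0
      simp at this)).2
    have hrel : ∀ y y' : Fin 4 → F,
        f₁ (A *ᵥ Pi.single 0 1) (A *ᵥ a') * f₂ (B *ᵥ y) (B *ᵥ y') = f₁ (Pi.single 0 1) a' * f₂ y y' := by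
      intro y y'
      have h5 := hiso (phi e P (ten (Pi.single 0 1) y)) (phi e P (ten a' y'))
      rw [← glEquiv_apply, ← glEquiv_apply, hAB, hAB, hτ, hτ] at h5
      exact mul_left_cancel₀ hc h5
    have hl : f₁ (A *ᵥ Pi.single 0 1) (A *ᵥ a') ≠ 0 := by
      intro h0
      have h7 := hrel n n
      rw [h0, zero_mul] at h7
      rcases mul_eq_zero.mp h7.symm with h8 | h8
      · exact ha' h8
      · exact hnn h8
    have h9 := hrel s s
    rw [hs, mul_zero] at h9
    exact (mul_eq_zero.mp h9).resolve_left hl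
  have hHX : H ≤ X := by
    intro h hh
    rw [hXmem]
    intro x
    refine ⟨hHfwd h hh x, fun hx => ?_⟩
    have h5 := hHfwd h⁻¹ (H.inv_mem hh) _ hx
    rwa [Matrix.mulVec_mulVec, ← Units.val_mul, inv_mul_cancel, Units.val_one, Matrix.one_mulVec] at h5
  -- pure tensors with the first factor a basis vector
  have hten0 : ∀ (v : Fin 2 → F) (s s' : Fin 4 → F), ten (Pi.single 0 1) s = ten v s' → s = v 0 • s' := by
    intro v s s' h
    ext j
    have := congrFun h (0, j)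
    simpa using this
  -- the symplectic group does not preserve the invariant set
  have hSpX : ¬ Cfsg.spGL m F ≤ X := by
    have hs₀ : B₀ (ten (Pi.single 0 1) (Pi.single 0 1)) ≠ 0 := by
      intro h0
      have h5 := B₀.injective (h0.trans (map_zero B₀).symm)
      have := congrFun h5 (0, 0)
      simp at this
    refine Cfsg.Agent.Lib.Helper67_SpAschMax.not_le_of_invariant_set S
      (fun g hg v hv => ((hXmem g).mp hg v).mp hv)
      (u := phi e P (ten (Pi.single 0 1) (B₀ (ten (Pi.single 0 1) (Pi.single 0 1)))))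
      (u' := phi e P (ten (Pi.single 0 1) n)) ⟨_, _, hsing _ _, rfl⟩ ?_ ?_ ?_
    · intro h0
      have h5 := (phi e P).injective (h0.trans (map_zero _).symm)
      have h6 := hten0 0 _ 0 (h5.trans (ten_zero_left (0 : Fin 4 → F)).symm)
      rw [smul_zero] at h6
      exact hs₀ h6
    · rintro ⟨v, s, hs, hvs⟩
      have h5 := hten0 v n s ((phi e P).injective hvs)
      apply hnn
      rw [h5, hf₂.bilinear.smul_left, hf₂.bilinear.smul_right, hs, mul_zero, mul_zero]
    · intro h0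
      have h5 := (phi e P).injective (h0.trans (map_zero _).symm)
      have h6 := hten0 0 _ 0 (h5.trans (ten_zero_left (0 : Fin 4 → F)).symm)
      rw [smul_zero] at h6
      rw [h6] at hnn
      exact hnn hf00
  have hHeq : H = X ⊓ Cfsg.spGL m F := Cfsg.Agent.Lib.Helper67_SpAschMax.eq_inf_of_le hH hHX hSpX
  -- the new element lies in the stabiliser and in the symplectic group
  let g : GL (Fin m ⊕ Fin m) F := (glEquiv (Fin m ⊕ Fin m) F).symm gL
  have hg : ∀ x, (g : Matrix (Fin m ⊕ Fin m) (Fin m ⊕ Fin m) F) *ᵥ x = gL x := by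
    intro x
    rw [← glEquiv_apply]
    show (glEquiv (Fin m ⊕ Fin m) F) ((glEquiv (Fin m ⊕ Fin m) F).symm gL) x = gL x
    rw [MulEquiv.apply_symm_apply]
  have hgX : g ∈ X := by
    rw [hXmem]
    intro x
    rw [hg]
    refine ⟨hgLS x, fun hx => ?_⟩
    have := hgLS _ hx
    rwa [hgL2] at this
  have hgSp : g ∈ Cfsg.spGL m F := by
    rw [Cfsg.Agent.Lib.Helper67_SpAschMax.mem_spGL_iff]
    intro u v
    rw [hg, hg]
    exact hgLiso u v
  have hgH : g ∈ H := by
    rw [hHeq]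
    exact ⟨hgX, hgSp⟩
  rw [hHT] at hgH
  -- but it does not act factorwise
  obtain ⟨A, B, hAB⟩ := exists_factors e P hgH.1
  have h10 : ∀ (a : Fin 2 → F) (y : Fin 2 × Fin 2 → F),
      phi e P (ten (A *ᵥ a) (B *ᵥ B₀ y)) = Ψ (swL (ten a y)) := by
    intro a y
    rw [← hAB, glEquiv_apply, hg, ← hΨten, hgL]
  have h11 := h10 (Pi.single 0 1) (ten (Pi.single 0 1) (Pi.single 0 1))
  have h12 := h10 (Pi.single 1 1) (ten (Pi.single 0 1) (Pi.single 0 1))
  rw [swL_ten, hΨten] at h11 h12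
  have h13 := hten0 _ _ _ ((phi e P).injective h11).symm
  have h14 := hten0 _ _ _ ((phi e P).injective h12).symm
  generalize (A *ᵥ Pi.single 0 1) 0 = α at h13
  generalize (A *ᵥ Pi.single 1 1) 0 = α' at h14
  generalize B *ᵥ B₀ (ten (Pi.single 0 1) (Pi.single 0 1)) = w at h13 h14
  have h15 : B₀ (α' • ten (Pi.single 0 1) (Pi.single 0 1)) = B₀ (α • ten (Pi.single 1 1) (Pi.single 0 1)) := by
    rw [map_smul, map_smul, h13, h14, smul_smul, smul_smul, mul_comm]
  have h16 := B₀.injective h15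
  have h17 := congrFun h16 (0, 0)
  have h18 := congrFun h16 (1, 0)
  simp at h17 h18
  rw [← h18, zero_smul] at h13
  have h19 := B₀.injective (h13.trans (map_zero B₀).symm)
  have h20 := congrFun h19 (0, 0)
  simp at h20

end Cfsg.Agent.Lib.Helper51_Sp8
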