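import Mathlib
import Cfsg.Agent.Lib.Helper98_AschDefs
import Cfsg.Agent.Lib.Helper98_AschCliff
import Cfsg.Agent.Lib.Helper23_FormDefs
import Cfsg.Agent.Lib.Helper29_Asch_PKG0
import Cfsg.Agent.Lib.Helper29_Asch_PKP1
import Cfsg.Agent.Lib.Helper29_OrthOdd_Glue
import Cfsg.Agent.Lib.Helper7_OrthOdd_OG2
import Cfsg.Agent.Lib.Helper30_AschMax
import Cfsg.Agent.Lib.Helper10_OrthEven_PL13a
import Cfsg.Agent.Lib.Helper51_Sp8
import Cfsg.Agent.Lib.Helper22_OrthEven_Basic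
import Cfsg.Agent.Lib.Helper34_OrthOdd_OP4b
import Cfsg.Agent.Lib.Helper82_AschSp_SP4a
import Cfsg.Agent.Lib.Helper32_OrthOdd_OP7b

set_option autoImplicit false

/-!
PL13b (helper51, for the `Ω₁₂⁺(q)` row S5871; register of helper85) = EV56 of helper22's batch 5 (for general odd `n₁`):
`O_{n₁} ⊗ O₄⁺ ∩ Ω ≤ Sp₂ ⊗ Sp_{2n₁}`.

Vector-level proof.  `Helper51_Sp8.exists_sq_coords` gives coordinates `B₀ : F² ⊗ F² ≃ F⁴` in which `2 f₂` is `J ⊗ J`.
New coordinates `Θ : F² ⊗ F^m → F^n₁ ⊗ F⁴`, `(Θ z) (i, ·) = B₀ ((j, k) ↦ z (j, σ (i, k)))` for a bijection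
`σ : Fin n₁ × Fin 2 ≃ Fin m`; `P' := glEquiv.symm` of the composite with `phi e P`, `e'` any bijection.  In these
coordinates the polar form is `(c / 2) • (J ⊗ reindex σ (G₁ ⊗ J))` (`form_Theta`).  An element of the group is
`P (a ⊗ b) P⁻¹`; it is an isometry, so `bᵀ G₂ b = ν G₂`, and it has determinant one (`Ω` is a commutator subgroup), which
with `n₁` odd forces `det b = ν²` (`second_factor_proper`); by helper10's PL13a, `b B₀ = B₀ (α ⊗ β)`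
(`exists_kron_factors`), and the element is `α ⊗ reindex σ (a ⊗ β)` in the new coordinates (`act_Theta`).
-/

namespace Cfsg.Agent.Lib.Helper51_OrthEven_PL13b

open Cfsg Cfsg.Geo Matrix Cfsg.Agent.Lib.Helper98_AschDefs Cfsg.Agent.Lib.Helper23_FormDefs
open scoped Kronecker MatrixGroups
open Cfsg.Agent.Lib.Helper94_TensorVec Cfsg.Agent.Lib.Helper94_Bridge
  Cfsg.Agent.Lib.Helper34_OrthOdd_OP4b Cfsg.Agent.Lib.Helper82_AschSp_SP4a

variable {ι : Type} [Fintype ι] [DecidableEq ι] {F : Type*} [Field F]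

/-! ### general lemmas -/

/-- elements of `Ω` have determinant one -/
lemma det_eq_one_of_mem_omegaGL (Q : (ι → F) → F) {h : GL ι F} (hh : h ∈ omegaGL Q) :
    (h : Matrix ι ι F).det = 1 := by
  obtain ⟨x, hx, rfl⟩ := hh
  let δ : isometryGroup F Q →* Fˣ := (Matrix.GeneralLinearGroup.det).comp (isometryGroup F Q).subtype
  have hker : commutator (isometryGroup F Q) ≤ δ.ker := Abelianization.commutator_subset_ker δ
  have h1 : δ x = 1 := hker hx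
  have h2 : ((δ x : Fˣ) : F) = 1 := by rw [h1]; rfl
  exact h2

/-- the rows of the image under a Kronecker product -/
lemma kron_mulVec_row {κ₁ κ₂ : Type} [Fintype κ₁] [Fintype κ₂] (A : Matrix κ₁ κ₁ F) (C : Matrix κ₂ κ₂ F)
    (x : κ₁ × κ₂ → F) (i : κ₁) (q : κ₂) :
    ((A ⊗ₖ C) *ᵥ x) (i, q) = ∑ i', A i i' * (C *ᵥ (fun q' => x (i', q'))) q := by
  simp only [Matrix.mulVec, dotProduct, Fintype.sum_prod_type, Matrix.kroneckerMap_apply]
  refine Finset.sum_congr rfl fun i' _ => ?_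
  rw [Finset.mul_sum]
  refine Finset.sum_congr rfl fun q' _ => ?_
  ring

/-- a criterion for membership in the stabiliser of a tensor decomposition -/
lemma mem_tensor_of_act {d s : ℕ} (e : ι ≃ Fin d × Fin s) (P g : GL ι F)
    (A : Matrix (Fin d) (Fin d) F) (C : Matrix (Fin s) (Fin s) F) (hA : A.det ≠ 0) (hC : C.det ≠ 0)
    (hact : ∀ x : Fin d × Fin s → F, (g : Matrix ι ι F) *ᵥ ((P : Matrix ι ι F) *ᵥ (x ∘ e)) =
      (P : Matrix ι ι F) *ᵥ (((A ⊗ₖ C) *ᵥ x) ∘ e)) :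
    g ∈ tensorProductSubgroup d s e P := by
  set a : GL (Fin d) F := Matrix.GeneralLinearGroup.mkOfDetNeZero A hA with ha
  set c : GL (Fin s) F := Matrix.GeneralLinearGroup.mkOfDetNeZero C hC with hc
  have hav : (a : Matrix (Fin d) (Fin d) F) = A := rfl
  have hcv : (c : Matrix (Fin s) (Fin s) F) = C := rfl
  apply mem_conj_reindex' (kroneckerSubgroup d s F) e P g (kronGL a c) (kronGL_mem a c)
  apply Units.ext
  have hval := val_eq_conjP e P (P * glReindex e.symm (kronGL a c) * P⁻¹) a c rfl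
  rw [hval, hav, hcv]
  apply Matrix.toLin'.injective
  apply LinearMap.ext
  intro u
  obtain ⟨x, rfl⟩ := exists_coord e P u
  rw [Matrix.toLin'_apply, Matrix.toLin'_apply, hact, conjP_mulVec]

/-- applying a linear equivalence to each slice -/
def sliceG {κ₁ κ₂ κ₃ : Type} (B₀ : (κ₂ → F) ≃ₗ[F] (κ₃ → F)) :
    (κ₁ × κ₂ → F) ≃ₗ[F] (κ₁ × κ₃ → F) :=
  (LinearEquiv.curry F F κ₁ κ₂).trans
    ((LinearEquiv.piCongrRight fun _ => B₀).trans (LinearEquiv.curry F F κ₁ κ₃).symm)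

lemma sliceG_apply {κ₁ κ₂ κ₃ : Type} (B₀ : (κ₂ → F) ≃ₗ[F] (κ₃ → F)) (z : κ₁ × κ₂ → F)
    (a : κ₁) (j : κ₃) : sliceG B₀ z (a, j) = B₀ (fun q => z (a, q)) j := rfl

/-- the Gram form of a reindexed matrix -/
lemma gramForm_reindex {κ κ' : Type} [Fintype κ] [DecidableEq κ] [Fintype κ'] [DecidableEq κ']
    (σ : κ ≃ κ') (M : Matrix κ κ F) (u u' : κ' → F) :
    gramForm (Matrix.reindex σ σ M) u u' = gramForm M (u ∘ σ) (u' ∘ σ) := by
  unfold gramForm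
  have h1 := reindex_mulVec σ.symm M (u' ∘ σ)
  have h2 : (u' ∘ σ) ∘ σ.symm = u' := by
    funext p
    simp
  rw [h2, Equiv.symm_symm] at h1
  rw [h1]
  have h3 := comp_dot_comp σ.symm (u ∘ σ) (M *ᵥ (u' ∘ σ))
  have h4 : (u ∘ σ) ∘ σ.symm = u := by
    funext p
    simp
  rw [h4] at h3
  exact h3

/-- the standard alternating matrix of size two -/
abbrev J2 : Matrix (Fin 2) (Fin 2) F := !![0, 1; -1, 0]

lemma gramForm_J2 (b b' : Fin 2 → F) : gramForm (J2 : Matrix (Fin 2) (Fin 2) F) b b' = b 0 * b' 1 - b 1 * b' 0 := by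
  simp [gramForm, dotProduct, Matrix.mulVec, Fin.sum_univ_two]
  ring


lemma gramForm_kron_J2 {κ₁ : Type} [Fintype κ₁] [DecidableEq κ₁] (G₁ : Matrix κ₁ κ₁ F) (v v' : κ₁ × Fin 2 → F) :
    gramForm (G₁ ⊗ₖ (J2 : Matrix (Fin 2) (Fin 2) F)) v v' =
      ∑ i, ∑ i', G₁ i i' * (v (i, 0) * v' (i', 1) - v (i, 1) * v' (i', 0)) := by
  have h := Cfsg.Agent.Lib.Helper51_Sp8.formOfGram_kron G₁ (gramForm (J2 : Matrix (Fin 2) (Fin 2) F))
    (gramForm_bilinear _) v v'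
  rw [gramMatrix_gramForm, formOfGram_id] at h
  rw [show gramForm (G₁ ⊗ₖ (J2 : Matrix (Fin 2) (Fin 2) F)) v v' =
    v ⬝ᵥ (G₁ ⊗ₖ (J2 : Matrix (Fin 2) (Fin 2) F)) *ᵥ v' from rfl, h]
  simp only [gramForm_J2]

/-! ### the new coordinates -/

variable {n₁ m : ℕ}

/-- the index bijection `(i, (j, k)) ↦ (j, σ (i, k))` -/
def tauE (σ : Fin n₁ × Fin 2 ≃ Fin m) : Fin n₁ × (Fin 2 × Fin 2) ≃ Fin 2 × Fin m where
  toFun p := (p.2.1, σ (p.1, p.2.2))
  invFun q := ((σ.symm q.2).1, (q.1, (σ.symm q.2).2))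
  left_inv p := by simp
  right_inv q := by simp

/-- the new coordinates: `F² ⊗ F^m → F^n₁ ⊗ F⁴` -/
def Theta (σ : Fin n₁ × Fin 2 ≃ Fin m) (B₀ : (Fin 2 × Fin 2 → F) ≃ₗ[F] (Fin 4 → F)) :
    (Fin 2 × Fin m → F) ≃ₗ[F] (Fin n₁ × Fin 4 → F) :=
  (LinearEquiv.funCongrLeft F F (tauE σ)).trans (sliceG B₀)

lemma Theta_apply (σ : Fin n₁ × Fin 2 ≃ Fin m) (B₀ : (Fin 2 × Fin 2 → F) ≃ₗ[F] (Fin 4 → F))
    (z : Fin 2 × Fin m → F) (i : Fin n₁) (q : Fin 4) :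
    Theta σ B₀ z (i, q) = B₀ (fun jk => z (jk.1, σ (i, jk.2))) q := rfl

lemma Theta_row (σ : Fin n₁ × Fin 2 ≃ Fin m) (B₀ : (Fin 2 × Fin 2 → F) ≃ₗ[F] (Fin 4 → F))
    (z : Fin 2 × Fin m → F) (i : Fin n₁) :
    (fun q => Theta σ B₀ z (i, q)) = B₀ (fun jk => z (jk.1, σ (i, jk.2))) := rfl

/-- the tensor product form in the new coordinates -/
lemma form_Theta (f₂ : (Fin 4 → F) → (Fin 4 → F) → F) (hf₂ : IsBilinearForm f₂)
    (B₀ : (Fin 2 × Fin 2 → F) ≃ₗ[F] (Fin 4 → F))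
    (hB₀ : ∀ y y' : Fin 2 × Fin 2 → F, 2 * f₂ (B₀ y) (B₀ y') =
        y (0, 0) * y' (1, 1) + y (1, 1) * y' (0, 0) - y (0, 1) * y' (1, 0) - y (1, 0) * y' (0, 1))
    (G₁ : Matrix (Fin n₁) (Fin n₁) F) (σ : Fin n₁ × Fin 2 ≃ Fin m) (z z' : Fin 2 × Fin m → F) :
    2 * formOfGram id (G₁ ⊗ₖ gramMatrix f₂) (Theta σ B₀ z) (Theta σ B₀ z') =
      formOfGram id (gramMatrix (gramForm (J2 : Matrix (Fin 2) (Fin 2) F)) ⊗ₖ
        gramMatrix (gramForm (Matrix.reindex σ σ (G₁ ⊗ₖ (J2 : Matrix (Fin 2) (Fin 2) F))))) z z' := by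
  rw [Cfsg.Agent.Lib.Helper51_Sp8.formOfGram_kron G₁ f₂ hf₂,
    Cfsg.Agent.Lib.Helper51_Sp8.formOfGram_kron _ _ (gramForm_bilinear _), gramMatrix_gramForm]
  simp only [Fin.sum_univ_two, Theta_row, gramForm_reindex, gramForm_kron_J2]
  simp only [J2, Matrix.of_apply, Matrix.cons_val', Matrix.cons_val_zero, Matrix.cons_val_one,
    Matrix.cons_val_fin_one, zero_mul, one_mul, neg_mul, zero_add, add_zero, Function.comp_apply]
  rw [Finset.mul_sum, ← sub_eq_add_neg, ← Finset.sum_sub_distrib]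
  refine Finset.sum_congr rfl fun i _ => ?_
  rw [Finset.mul_sum, ← Finset.sum_sub_distrib]
  refine Finset.sum_congr rfl fun i' _ => ?_
  have h := hB₀ (fun jk => z (jk.1, σ (i, jk.2))) (fun jk => z' (jk.1, σ (i', jk.2)))
  simp only at h
  linear_combination (G₁ i i') * h


/-! ### the factors of the elements of the group -/

/-- the form `J ⊗ J` explicitly -/
lemma dot_JJ (y y' : Fin 2 × Fin 2 → F) :
    y ⬝ᵥ ((J2 : Matrix (Fin 2) (Fin 2) F) ⊗ₖ (J2 : Matrix (Fin 2) (Fin 2) F)) *ᵥ y' =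
      y (0, 0) * y' (1, 1) + y (1, 1) * y' (0, 0) - y (0, 1) * y' (1, 0) - y (1, 0) * y' (0, 1) := by
  simp only [dotProduct, Matrix.mulVec, Fintype.sum_prod_type, Fin.sum_univ_two, Matrix.kroneckerMap_apply,
    J2, Matrix.of_apply, Matrix.cons_val', Matrix.cons_val_zero, Matrix.cons_val_one,
    Matrix.cons_val_fin_one]
  ring

/-- the second factor of an element of `Ω` in a tensor decomposition with odd-dimensional first factor is a proper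
similitude -/
lemma second_factor_proper (h2 : (2 : F) ≠ 0) (hn₁ : Odd n₁) (G₁ : Matrix (Fin n₁) (Fin n₁) F)
    (G₂ : Matrix (Fin 4) (Fin 4) F) (hG₁ : G₁.det ≠ 0) (hG₂ : G₂.det ≠ 0)
    (a : Matrix (Fin n₁) (Fin n₁) F) (b : Matrix (Fin 4) (Fin 4) F)
    (hiso : (a ⊗ₖ b)ᵀ * (G₁ ⊗ₖ G₂) * (a ⊗ₖ b) = G₁ ⊗ₖ G₂) (hdet : (a ⊗ₖ b).det = 1) :
    ∃ ν : F, ν ≠ 0 ∧ bᵀ * G₂ * b = ν • G₂ ∧ b.det = ν ^ 2 := by
  have hkk : ∀ (X X' : Matrix (Fin n₁) (Fin n₁) F) (Y Y' : Matrix (Fin 4) (Fin 4) F),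
      (X ⊗ₖ Y) * (X' ⊗ₖ Y') = (X * X') ⊗ₖ (Y * Y') := fun X X' Y Y' =>
    (Matrix.mul_kronecker_mul X X' Y Y').symm
  have hT' : (aᵀ * G₁ * a) ⊗ₖ (bᵀ * G₂ * b) = G₁ ⊗ₖ G₂ := by
    rw [← hiso, ← Matrix.kroneckerMap_transpose, hkk, hkk]
  have hn₁pos : 0 < n₁ := hn₁.pos
  have hG₁0 : G₁ ≠ 0 := ne_zero_of_isUnit_det hn₁pos (isUnit_iff_ne_zero.2 hG₁)
  have hG₂0 : G₂ ≠ 0 := ne_zero_of_isUnit_det (by norm_num) (isUnit_iff_ne_zero.2 hG₂)
  obtain ⟨ν, hν, hb⟩ := kron_prop hG₁0 hG₂0 hT'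
  have ha : ν • (aᵀ * G₁ * a) = G₁ := by
    apply kron_right_cancel hG₂0
    rw [← hT', hb, Matrix.smul_kronecker, Matrix.kronecker_smul]
  refine ⟨ν, hν, hb, ?_⟩
  have hdb : b.det ^ 2 = ν ^ 4 := by
    have h := congrArg Matrix.det hb
    rw [Matrix.det_mul, Matrix.det_mul, Matrix.det_transpose, Matrix.det_smul, Fintype.card_fin] at h
    have h' : (b.det ^ 2 - ν ^ 4) * G₂.det = 0 := by linear_combination h
    rcases mul_eq_zero.1 h' with h'' | h''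
    · linear_combination h''
    · exact absurd h'' hG₂
  have hda : ν ^ n₁ * a.det ^ 2 = 1 := by
    have h := congrArg Matrix.det ha
    rw [Matrix.det_smul, Fintype.card_fin, Matrix.det_mul, Matrix.det_mul, Matrix.det_transpose] at h
    have h' : (ν ^ n₁ * a.det ^ 2 - 1) * G₁.det = 0 := by linear_combination h
    rcases mul_eq_zero.1 h' with h'' | h''
    · linear_combination h''
    · exact absurd h'' hG₁
  have hdab : a.det ^ 4 * b.det ^ n₁ = 1 := by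
    rw [Matrix.det_kronecker, Fintype.card_fin, Fintype.card_fin] at hdet
    exact hdet
  have hcases : (b.det - ν ^ 2) * (b.det + ν ^ 2) = 0 := by linear_combination hdb
  rcases mul_eq_zero.1 hcases with h | h
  · linear_combination h
  · exfalso
    have hb' : b.det = -ν ^ 2 := by linear_combination h
    have hpow : b.det ^ n₁ = -(ν ^ n₁) ^ 2 := by
      rw [hb', neg_pow, hn₁.neg_one_pow, ← pow_mul, ← pow_mul, mul_comm 2 n₁]
      ring
    rw [hpow] at hdab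
    have h3 : (2 : F) = 0 := by linear_combination -hdab - (ν ^ n₁ * a.det ^ 2 + 1) * hda
    exact h2 h3

/-- a proper similitude of a four-dimensional form of plus type is a Kronecker product in the coordinates of a tensor
square -/
lemma exists_kron_factors (h2 : (2 : F) ≠ 0) (f₂ : (Fin 4 → F) → (Fin 4 → F) → F) (hf₂ : IsBilinearForm f₂)
    (B₀ : (Fin 2 × Fin 2 → F) ≃ₗ[F] (Fin 4 → F))
    (hB₀ : ∀ y y' : Fin 2 × Fin 2 → F, 2 * f₂ (B₀ y) (B₀ y') =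
        y (0, 0) * y' (1, 1) + y (1, 1) * y' (0, 0) - y (0, 1) * y' (1, 0) - y (1, 0) * y' (0, 1))
    (b : Matrix (Fin 4) (Fin 4) F) (ν : F) (hν : ν ≠ 0)
    (hb : bᵀ * gramMatrix f₂ * b = ν • gramMatrix f₂) (hdet : b.det = ν ^ 2) :
    ∃ α β : Matrix (Fin 2) (Fin 2) F, α.det ≠ 0 ∧ β.det ≠ 0 ∧
      ∀ y : Fin 2 × Fin 2 → F, b *ᵥ (B₀ y) = B₀ ((α ⊗ₖ β) *ᵥ y) := by
  have hsim : ∀ u u' : Fin 4 → F, f₂ (b *ᵥ u) (b *ᵥ u') = ν * f₂ u u' := by
    intro u u'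
    rw [Helper34_OrthOdd_OP4b.form_eq_gram f₂ hf₂, Helper34_OrthOdd_OP4b.form_eq_gram f₂ hf₂, mulVec_dot_mulVec, hb, Matrix.smul_mulVec,
      dotProduct_smul, smul_eq_mul]
  set L : (Fin 2 × Fin 2 → F) →ₗ[F] (Fin 2 × Fin 2 → F) :=
    (B₀.symm : (Fin 4 → F) →ₗ[F] (Fin 2 × Fin 2 → F)) ∘ₗ Matrix.toLin' b ∘ₗ
      (B₀ : (Fin 2 × Fin 2 → F) →ₗ[F] (Fin 4 → F)) with hL
  set γ : Matrix (Fin 2 × Fin 2) (Fin 2 × Fin 2) F := LinearMap.toMatrix' L with hγdef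
  have hγv : ∀ y, B₀ (γ *ᵥ y) = b *ᵥ (B₀ y) := by
    intro y
    have h1 : γ *ᵥ y = L y := by
      rw [hγdef, ← Matrix.toLin'_apply, Matrix.toLin'_toMatrix']
    rw [h1, hL]
    simp
  have hγ : γᵀ * ((J2 : Matrix (Fin 2) (Fin 2) F) ⊗ₖ (J2 : Matrix (Fin 2) (Fin 2) F)) * γ =
      ν • ((J2 : Matrix (Fin 2) (Fin 2) F) ⊗ₖ (J2 : Matrix (Fin 2) (Fin 2) F)) := by
    apply eq_of_dot_eq
    intro u v
    rw [← mulVec_dot_mulVec, dot_JJ, ← hB₀, hγv, hγv, hsim, Matrix.smul_mulVec, dotProduct_smul, smul_eq_mul,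
      dot_JJ, ← hB₀]
    ring
  have hdetγ : γ.det = ν ^ 2 := by
    rw [hγdef, LinearMap.det_toMatrix', hL]
    have := LinearMap.det_conj (Matrix.toLin' b) B₀.symm
    rw [LinearEquiv.symm_symm] at this
    rw [this, LinearMap.det_toLin', hdet]
  obtain ⟨α, β, hαβ⟩ := Cfsg.Agent.Lib.Helper10_OrthEven_PL13a.PL13a h2 γ ν hν hγ hdetγ
  have hdd : α.det ^ 2 * β.det ^ 2 = ν ^ 2 := by
    rw [← hdetγ, hαβ, Matrix.det_kronecker, Fintype.card_fin]
  have hν2 : ν ^ 2 ≠ 0 := pow_ne_zero _ hν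
  refine ⟨α, β, ?_, ?_, ?_⟩
  · intro h0
    rw [h0] at hdd
    apply hν2
    rw [← hdd]
    ring
  · intro h0
    rw [h0] at hdd
    apply hν2
    rw [← hdd]
    ring
  · intro y
    rw [← hαβ, hγv]


/-- multiplication by a reindexed matrix -/
lemma reindex_mulVec_apply {κ κ' : Type} [Fintype κ] [DecidableEq κ] [Fintype κ'] [DecidableEq κ']
    (σ : κ ≃ κ') (M : Matrix κ κ F) (u : κ' → F) (p : κ) :
    (Matrix.reindex σ σ M *ᵥ u) (σ p) = (M *ᵥ (u ∘ σ)) p := by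
  have h1 := reindex_mulVec σ.symm M (u ∘ σ)
  have h2 : (u ∘ σ) ∘ σ.symm = u := by
    funext p
    simp
  rw [h2, Equiv.symm_symm] at h1
  rw [h1]
  simp

/-- the action of the elements of the group in the new coordinates -/
lemma act_Theta (σ : Fin n₁ × Fin 2 ≃ Fin m) (B₀ : (Fin 2 × Fin 2 → F) ≃ₗ[F] (Fin 4 → F))
    (a : Matrix (Fin n₁) (Fin n₁) F) (b : Matrix (Fin 4) (Fin 4) F) (α β : Matrix (Fin 2) (Fin 2) F)
    (hb : ∀ y : Fin 2 × Fin 2 → F, b *ᵥ (B₀ y) = B₀ ((α ⊗ₖ β) *ᵥ y)) (z : Fin 2 × Fin m → F) :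
    (a ⊗ₖ b) *ᵥ (Theta σ B₀ z) = Theta σ B₀ ((α ⊗ₖ Matrix.reindex σ σ (a ⊗ₖ β)) *ᵥ z) := by
  ext ⟨i, q⟩
  rw [kron_mulVec_row, Theta_apply]
  simp only [Theta_row, hb]
  have key : (fun jk : Fin 2 × Fin 2 =>
        ((α ⊗ₖ Matrix.reindex σ σ (a ⊗ₖ β)) *ᵥ z) (jk.1, σ (i, jk.2))) =
      ∑ i', a i i' • ((α ⊗ₖ β) *ᵥ (fun jk : Fin 2 × Fin 2 => z (jk.1, σ (i', jk.2)))) := by
    ext ⟨j, k⟩
    simp only [Finset.sum_apply, Pi.smul_apply, smul_eq_mul]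
    rw [kron_mulVec_row]
    simp only [reindex_mulVec_apply, kron_mulVec_row, Function.comp_apply]
    simp only [Finset.mul_sum]
    rw [Finset.sum_comm]
    refine Finset.sum_congr rfl fun i' _ => Finset.sum_congr rfl fun j' _ => ?_
    ring
  rw [key, map_sum]
  simp only [map_smul, Finset.sum_apply, Pi.smul_apply, smul_eq_mul]


/-! ### the theorem -/

/-- PL13b: `O_{n₁} ⊗ O₄⁺ ≤ Sp₂ ⊗ Sp_{2n₁}` inside `Ω`: a subgroup of `Ω` preserving a tensor decomposition of the polar form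
(odd characteristic, symmetric factors, first factor of odd dimension, second factor of dimension 4 and plus type) preserves a tensor decomposition
`2 ⊗ 2n₁` into alternating forms -/
theorem PL13b [Fintype F] (Q : (ι → F) → F) (hQ : IsNondegenerateQuadraticForm Q) (h2 : (2 : F) ≠ 0)
    (H : Subgroup (GL ι F)) (hHΩ : H ≤ omegaGL Q)
    (n₁ m : ℕ) (hn₁ : Odd n₁) (hm : m = 2 * n₁) (e : ι ≃ Fin n₁ × Fin 4) (P : GL ι F)
    (f₁ : (Fin n₁ → F) → (Fin n₁ → F) → F) (f₂ : (Fin 4 → F) → (Fin 4 → F) → F)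
    (hf₁ : IsSymmetricForm f₁) (hf₂ : IsSymmetricForm f₂)
    (hten : IsTensorFormStructure id (QuadraticMap.polar Q) f₁ f₂ e P)
    (hplus : IsPlusTypeOn (fun v : Fin 4 → F => f₂ v v) ⊤)
    (hH : H ≤ tensorProductSubgroup n₁ 4 e P) :
    ∃ (e' : ι ≃ Fin 2 × Fin m) (P' : GL ι F) (g₁ : (Fin 2 → F) → (Fin 2 → F) → F)
      (g₂ : (Fin m → F) → (Fin m → F) → F), IsSymplecticForm g₁ ∧ IsSymplecticForm g₂ ∧
      IsTensorFormStructure id (QuadraticMap.polar Q) g₁ g₂ e' P' ∧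
      (∀ (x₁ : Fin 2 → F) (x₂ : Fin m → F),
        Q ((P' : Matrix ι ι F) *ᵥ ((fun a : Fin 2 × Fin m => x₁ a.1 * x₂ a.2) ∘ e')) = 0) ∧
      H ≤ tensorProductSubgroup 2 m e' P' := by
  classical
  obtain ⟨c, hc0, hform⟩ := hten
  obtain ⟨B₀, hB₀⟩ := Cfsg.Agent.Lib.Helper51_Sp8.exists_sq_coords h2 f₂ hf₂ hplus
  set G₁ := gramMatrix f₁ with hG₁
  set G₂ := gramMatrix f₂ with hG₂
  have hG₁s : G₁ᵀ = G₁ := by
    ext i j
    rw [Matrix.transpose_apply]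
    exact hf₁.symm _ _
  have hG₁d : G₁.det ≠ 0 :=
    Cfsg.Agent.Lib.Helper32_OrthOdd_OP7b.gram_det_ne_zero (RingEquiv.refl F) f₁ hf₁.bilinear.add_left
      hf₁.bilinear.smul_left hf₁.bilinear.add_right hf₁.bilinear.smul_right hf₁.nondegenerate
  have hG₂d : G₂.det ≠ 0 :=
    Cfsg.Agent.Lib.Helper32_OrthOdd_OP7b.gram_det_ne_zero (RingEquiv.refl F) f₂ hf₂.bilinear.add_left
      hf₂.bilinear.smul_left hf₂.bilinear.add_right hf₂.bilinear.smul_right hf₂.nondegenerate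
  -- the index bijections
  have hσc : Fintype.card (Fin n₁ × Fin 2) = Fintype.card (Fin m) := by
    simp [hm, mul_comm]
  have hρc : Fintype.card (Fin n₁ × Fin 4) = Fintype.card (Fin 2 × Fin m) := by
    simp only [Fintype.card_prod, Fintype.card_fin, hm]
    ring
  set σ : Fin n₁ × Fin 2 ≃ Fin m := Fintype.equivOfCardEq hσc with hσ
  set e' : ι ≃ Fin 2 × Fin m := e.trans (Fintype.equivOfCardEq hρc) with he'
  set Θ : (Fin 2 × Fin m → F) ≃ₗ[F] (Fin n₁ × Fin 4 → F) := Theta σ B₀ with hΘ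
  set P' : GL ι F := (glEquiv ι F).symm
    ((LinearEquiv.funCongrLeft F F e').symm.trans (Θ.trans (phi e P))) with hP'def
  have hP' : ∀ z : Fin 2 × Fin m → F,
      (P' : Matrix ι ι F) *ᵥ (z ∘ e') = (P : Matrix ι ι F) *ᵥ ((Θ z) ∘ e) := by
    intro z
    rw [← glEquiv_apply, hP'def, MulEquiv.apply_symm_apply, LinearEquiv.trans_apply]
    have hz : (LinearEquiv.funCongrLeft F F e').symm (z ∘ e') = z := by
      apply (LinearEquiv.funCongrLeft F F e').injective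
      rw [LinearEquiv.apply_symm_apply]
      rfl
    rw [hz, LinearEquiv.trans_apply, phi_apply]
  -- the new forms
  set G' : Matrix (Fin m) (Fin m) F := Matrix.reindex σ σ (G₁ ⊗ₖ (J2 : Matrix (Fin 2) (Fin 2) F)) with hG'
  have hJs : (J2 : Matrix (Fin 2) (Fin 2) F)ᵀ = -J2 := by
    ext i j
    fin_cases i <;> fin_cases j <;> simp [J2]
  have hJdet : (J2 : Matrix (Fin 2) (Fin 2) F).det = 1 := by
    simp [J2, Matrix.det_fin_two]
  have hJd : IsUnit (J2 : Matrix (Fin 2) (Fin 2) F).det := by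
    rw [hJdet]
    exact isUnit_one
  have hMs : (G₁ ⊗ₖ (J2 : Matrix (Fin 2) (Fin 2) F))ᵀ = -(G₁ ⊗ₖ (J2 : Matrix (Fin 2) (Fin 2) F)) := by
    rw [← Matrix.kroneckerMap_transpose, hG₁s, hJs]
    ext p q
    simp only [Matrix.kroneckerMap_apply, Matrix.neg_apply, mul_neg]
  have hG's : G'ᵀ = -G' := by
    rw [hG', Matrix.transpose_reindex, hMs]
    rfl
  have hG'd : IsUnit G'.det := by
    rw [hG', Matrix.det_reindex_self, Matrix.det_kronecker, hJdet, one_pow, mul_one]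
    exact isUnit_iff_ne_zero.2 (pow_ne_zero _ hG₁d)
  have hten' : ∀ x y : Fin 2 × Fin m → F,
      QuadraticMap.polar Q ((P' : Matrix ι ι F) *ᵥ (x ∘ e')) ((P' : Matrix ι ι F) *ᵥ (y ∘ e')) =
        c / 2 * formOfGram id (gramMatrix (gramForm (J2 : Matrix (Fin 2) (Fin 2) F)) ⊗ₖ
          gramMatrix (gramForm G')) x y := by
    intro x y
    rw [hP', hP', hform, ← form_Theta f₂ hf₂.bilinear B₀ hB₀ G₁ σ x y]
    change c * formOfGram id (G₁ ⊗ₖ G₂) (Θ x) (Θ y) = c / 2 * (2 * formOfGram id (G₁ ⊗ₖ G₂) (Θ x) (Θ y))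
    field_simp
  refine ⟨e', P', gramForm J2, gramForm G', isSymplecticForm_gramForm h2 _ hJs hJd,
    isSymplecticForm_gramForm h2 _ hG's hG'd, ⟨c / 2, div_ne_zero hc0 h2, hten'⟩, ?_, ?_⟩
  · -- `Q` vanishes on the pure tensors
    intro x₁ x₂
    have hpol := Cfsg.Agent.Lib.Helper22_OrthEven_Basic.polar_self Q hQ
      ((P' : Matrix ι ι F) *ᵥ ((fun a : Fin 2 × Fin m => x₁ a.1 * x₂ a.2) ∘ e'))
    have hT := hten' (ten x₁ x₂) (ten x₁ x₂)
    rw [formOfGram_ten _ _ (gramForm_bilinear _) (gramForm_bilinear _), gramForm_J2] at hT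
    have h0 : (2 : F) * Q ((P' : Matrix ι ι F) *ᵥ ((fun a : Fin 2 × Fin m => x₁ a.1 * x₂ a.2) ∘ e')) = 0 := by
      rw [← hpol]
      rw [show (fun a : Fin 2 × Fin m => x₁ a.1 * x₂ a.2) = ten x₁ x₂ from rfl, hT]
      ring
    exact (mul_eq_zero.1 h0).resolve_left h2
  · -- the group
    intro h hh
    have hΩ := hHΩ hh
    have hI : h ∈ isometryGroup F Q := Cfsg.Agent.Lib.Helper22_OrthEven_Basic.omegaGL_le Q hΩ
    have hdet1 := det_eq_one_of_mem_omegaGL Q hΩ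
    obtain ⟨y, ⟨k, ⟨a, b, hk⟩, rfl⟩, hy⟩ := hH hh
    set am : Matrix (Fin n₁) (Fin n₁) F := (a : Matrix (Fin n₁) (Fin n₁) F) with ham
    set bm : Matrix (Fin 4) (Fin 4) F := (b : Matrix (Fin 4) (Fin 4) F) with hbm
    have hval : (h : Matrix ι ι F) = conjP e P (am ⊗ₖ bm) := by
      rw [← hy, ← hk]
      simp only [MulEquiv.coe_toMonoidHom, MulAut.conj_apply, Units.val_mul]
      rfl
    have hiso : (am ⊗ₖ bm)ᵀ * (G₁ ⊗ₖ G₂) * (am ⊗ₖ bm) = G₁ ⊗ₖ G₂ := by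
      apply eq_of_dot_eq
      intro x y
      have := Cfsg.Agent.Lib.Helper29_OrthOddDefs.polar_mulVec_of_mem Q hI
        ((P : Matrix _ _ F) *ᵥ (x ∘ e)) ((P : Matrix _ _ F) *ᵥ (y ∘ e))
      rw [hval, conjP_mulVec, conjP_mulVec, hform, hform, formOfGram_id, formOfGram_id,
        mulVec_dot_mulVec] at this
      exact mul_left_cancel₀ hc0 this
    have hdetk : (am ⊗ₖ bm).det = 1 := by
      rw [← hdet1, hval]
      unfold conjP
      rw [Matrix.det_units_conj, Matrix.det_reindex_self]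
    obtain ⟨ν, hν, hbν, hbdet⟩ := second_factor_proper h2 hn₁ G₁ G₂ hG₁d hG₂d am bm hiso hdetk
    obtain ⟨α, β, hα, hβ, hαβ⟩ := exists_kron_factors h2 f₂ hf₂.bilinear B₀ hB₀ bm ν hν hbν hbdet
    have hadet : am.det ≠ 0 := by
      intro h0
      rw [Matrix.det_kronecker, h0, Fintype.card_fin, zero_pow (by norm_num), zero_mul] at hdetk
      exact zero_ne_one hdetk
    apply mem_tensor_of_act e' P' h α (Matrix.reindex σ σ (am ⊗ₖ β)) hα
    · rw [Matrix.det_reindex_self, Matrix.det_kronecker]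
      exact mul_ne_zero (pow_ne_zero _ hadet) (pow_ne_zero _ hβ)
    · intro z
      rw [hP', hP', hval, conjP_mulVec, act_Theta σ B₀ am bm α β hαβ z]

end Cfsg.Agent.Lib.Helper51_OrthEven_PL13b
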