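import Mathlib
import Cfsg.Agent.Lib.Helper98_AschDefs
import Cfsg.Agent.Lib.Helper98_AschCliff
import Cfsg.Agent.Lib.Helper23_FormDefs
import Cfsg.Agent.Lib.Helper29_Asch_PKG0
import Cfsg.Agent.Lib.Helper29_Asch_PKP1
import Cfsg.Agent.Lib.Helper29_OrthOdd_Glue
import Cfsg.Agent.Lib.Helper7_OrthOdd_OG2
import Cfsg.Agent.Lib.Helper30_AschMax
import Cfsg.Agent.Lib.Helper51_OrthEven_PL13b

set_option autoImplicit false

/-!
EV56 (helper51, helper22's even-dimensional orthogonal rows, batch 5): `O₃ ⊗ O₄⁺ ∩ Ω ≤ Sp₂ ⊗ Sp₆`.  This is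
`Helper51_OrthEven_PL13b.PL13b` with `n₁ = 3`, `m = 6` and `H := tensorProductSubgroup 3 4 e P ⊓ omegaGL Q`.
-/

namespace Cfsg.Agent.Lib.Helper51_OrthEven_EV56

open Cfsg Cfsg.Geo Matrix Cfsg.Agent.Lib.Helper98_AschDefs Cfsg.Agent.Lib.Helper23_FormDefs
open scoped Kronecker MatrixGroups

variable {ι : Type} [Fintype ι] [DecidableEq ι] {F : Type*} [Field F]

/-- EV56: `O₃ ⊗ O₄⁺` lies in `Sp₂ ⊗ Sp₆`, inside `Ω` -/
theorem EV56 [Fintype F] (Q : (ι → F) → F) (hQ : IsNondegenerateQuadraticForm Q) (h2 : (2 : F) ≠ 0)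
    (e : ι ≃ Fin 3 × Fin 4) (P : GL ι F)
    (f₁ : (Fin 3 → F) → (Fin 3 → F) → F) (f₂ : (Fin 4 → F) → (Fin 4 → F) → F)
    (hf₁ : IsSymmetricForm f₁) (hf₂ : IsSymmetricForm f₂)
    (hten : IsTensorFormStructure id (QuadraticMap.polar Q) f₁ f₂ e P)
    (hplus : IsPlusTypeOn (fun v : Fin 4 → F => f₂ v v) ⊤) :
    ∃ (e' : ι ≃ Fin 2 × Fin 6) (P' : GL ι F) (g₁ : (Fin 2 → F) → (Fin 2 → F) → F)
      (g₂ : (Fin 6 → F) → (Fin 6 → F) → F), IsSymplecticForm g₁ ∧ IsSymplecticForm g₂ ∧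
      IsTensorFormStructure id (QuadraticMap.polar Q) g₁ g₂ e' P' ∧
      (∀ (x₁ : Fin 2 → F) (x₂ : Fin 6 → F),
        Q (Matrix.mulVec (P' : Matrix ι ι F) ((fun a : Fin 2 × Fin 6 => x₁ a.1 * x₂ a.2) ∘ e')) = 0) ∧
      tensorProductSubgroup 3 4 e P ⊓ omegaGL Q ≤ tensorProductSubgroup 2 6 e' P' :=
  Cfsg.Agent.Lib.Helper51_OrthEven_PL13b.PL13b Q hQ h2 (tensorProductSubgroup 3 4 e P ⊓ omegaGL Q) inf_le_right
    3 6 (by decide) rfl e P f₁ f₂ hf₁ hf₂ hten hplus inf_le_left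

end Cfsg.Agent.Lib.Helper51_OrthEven_EV56
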