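import Mathlib
import Cfsg.Agent.Lib.Helper98_AschDefs
import Cfsg.Agent.Lib.Helper98_AschCliff
import Cfsg.Agent.Lib.Helper23_FormDefs
import Cfsg.Agent.Lib.Helper29_Asch_PKG0
import Cfsg.Agent.Lib.Helper29_Asch_PKP1
import Cfsg.Agent.Lib.Helper29_OrthOdd_Glue
import Cfsg.Agent.Lib.Helper7_OrthOdd_OG2
import Cfsg.Agent.Lib.Helper30_AschMax
import Cfsg.Agent.Lib.Helper85_OrthEven_EV5

set_option autoImplicit false

/-!
EV59 (helper51, for helper22's even-dimensional orthogonal rows, batch 5): an isometric orthogonal decomposition into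
an odd number of even-dimensional blocks of minus type is of minus type.
-/

namespace Cfsg.Agent.Lib.Helper51_OrthEven_EV59

open Cfsg Cfsg.Geo Matrix Cfsg.Agent.Lib.Helper98_AschDefs Cfsg.Agent.Lib.Helper23_FormDefs
open scoped Kronecker MatrixGroups
open Cfsg.Agent.Lib.Helper85_OrthEven_EV5 Cfsg.Agent.Lib.Helper40_SpBasic Cfsg.Agent.Lib.Helper40_OConj
  Cfsg.Agent.Lib.Helper40_QuadIso Cfsg.Agent.Lib.Helper99_OrthTSDefs Cfsg.Agent.Lib.Helper43_OrthTS_OQ2
  Cfsg.Agent.Lib.Helper94_OrthGenBridge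

variable {ι : Type} [Fintype ι] [DecidableEq ι] {F : Type*} [Field F]

/-- plus type is transported by isometries (local copy) -/
lemma plus_of_isometric' (Q : (ι → F) → F) (W W' : Submodule F (ι → F)) (h : AreIsometricFor Q W W')
    (hp : IsPlusTypeOn Q W) : IsPlusTypeOn Q W' := by
  obtain ⟨e, he⟩ := h
  obtain ⟨U, hUW, hUts, hdim⟩ := hp
  set φ : W →ₗ[F] (ι → F) := W'.subtype ∘ₗ e.toLinearMap with hφ
  have hinj : Function.Injective φ := W'.subtype_injective.comp e.injective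
  refine ⟨(U.comap W.subtype).map φ, ?_, ?_, ?_⟩
  · rintro _ ⟨w, -, rfl⟩
    exact (e w).2
  · rintro _ ⟨w, hw, rfl⟩
    show Q ((e w : W') : ι → F) = 0
    rw [he]
    exact hUts _ hw
  · rw [← (Submodule.equivMapOfInjective φ hinj (U.comap W.subtype)).finrank_eq,
      (Submodule.comapSubtypeEquivOfLe hUW).finrank_eq, hdim, e.finrank_eq]

/-- EV59: an isometric orthogonal decomposition into an odd number of even-dimensional blocks of minus type: minus type -/
theorem EV59 [Fintype F] (Q : (ι → F) → F) (hQ : IsNondegenerateQuadraticForm Q) (t k : ℕ) (ht : Odd t)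
    (hk : Even k) (D : Fin t → Submodule F (ι → F)) (hD : IsOrthogonalMDecomposition Q k D)
    (i : Fin t) (hb : ¬ IsPlusTypeOn Q (D i)) : ¬ IsPlusTypeOn Q ⊤ := by
  classical
  intro hplus
  have hb' : ∀ j, ¬ IsPlusTypeOn Q (D j) :=
    fun j hj => hb (plus_of_isometric' Q (D j) (D i) (hD.isometric j i) hj)
  have hnd : ∀ j, NDOn (pol (qfOf Q hQ)) (D j) :=
    fun j => ndOn_of_geo Q hQ _ (hD.decomp.nondegenerate j)
  have horth : ∀ j l, j ≠ l → ∀ u ∈ D j, ∀ v ∈ D l, pol (qfOf Q hQ) u v = 0 :=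
    fun j l hjl u hu v hv => hD.decomp.orthogonal j l hjl u hu v hv
  have hfr : ∀ j, Module.finrank F (D j) = k := hD.decomp.decomp.finrank_eq
  have hev : ∀ j, Even (Module.finrank F (D j)) := fun j => by rw [hfr j]; exact hk
  have htype : ∀ j, OHypOn (qfOf Q hQ) (D j) ↔ False :=
    fun j => ⟨fun h => hb' j (isPlusTypeOn_of_oHypOn Q hQ (hev j) h), False.elim⟩
  obtain ⟨-, -, h3⟩ := type_biSup D False hnd horth hev htype Finset.univ
  have hu : (⨆ j ∈ (Finset.univ : Finset (Fin t)), D j) = ⊤ := by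
    rw [← hD.decomp.decomp.iSup_eq_top]
    simp
  rw [hu, Finset.card_univ, Fintype.card_fin] at h3
  rcases h3.1 (oHypOn_of_isPlusTypeOn Q hQ hplus) with h | h
  · exact (Nat.not_even_iff_odd.mpr ht) h
  · exact h

end Cfsg.Agent.Lib.Helper51_OrthEven_EV59
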