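import Cfsg.Agent.Lib.Helper51_SL2SolvEven
import Cfsg.Agent.Lib.Helper99_PSL2Prime

/-!
# Non-solvable proper subgroups of `PSL(2,q)`

`psl2_not_solvable`: `PSL(2,K)` is not solvable for `|K| ≥ 4`; `exists_subfield_nonsolvable`: a
proper subfield of order `≥ 4` gives a non-solvable proper subgroup; `not_solvable_of_iso_A5`.
-/

set_option autoImplicit false

namespace Cfsg.Agent.Lib.Helper51_PSL2MinSimple

open Matrix Cfsg.Agent.Lib.Helper50_SL2Mat Cfsg.Agent.Lib.Helper51_SL2Sub
  Cfsg.Agent.Lib.Helper51_SL2SubMax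
open scoped MatrixGroups

section anyfield

variable {K : Type*} [Field K]

/-- `PSL(2,K)` is never commutative -/
theorem psl2_not_comm : ¬ ∀ a b : PSL(2, K), a * b = b * a := by
  intro h
  have h1 := h ((tU 1 : SL(2, K)) : PSL(2, K)) ((tL 1 : SL(2, K)) : PSL(2, K))
  rw [← QuotientGroup.mk_mul, ← QuotientGroup.mk_mul, QuotientGroup.eq,
    Matrix.SpecialLinearGroup.mem_center_iff] at h1
  obtain ⟨r, -, hr⟩ := h1
  have h01 := congrFun (congrFun hr 0) 1
  rw [Cfsg.Agent.Lib.Helper41_Subfield.scalar_two_apply] at h01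
  have h2 : ((tU 1 * tL 1)⁻¹ * (tL 1 * tU 1) : SL(2, K)) 0 1 = -1 := by
    simp only [mul01, mul11, inv00, inv01, tU00, tU01, tU10, tU11, tL00, tL01, tL10,
      tL11]
    ring
  rw [h2] at h01
  simp at h01

/-- `PSL(2,K)` is not solvable for `|K| ≥ 4` -/
theorem psl2_not_solvable (h4 : 4 ≤ Nat.card K) : ¬ Group.IsSolvable PSL(2, K) := by
  have hs : IsSimpleGroup PSL(2, K) := Matrix.ProjectiveSpecialLinearGroup.rank_two_simple h4
  intro hsol
  exact psl2_not_comm (IsSimpleGroup.comm_iff_isSolvable.2 hsol)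

end anyfield

/-- a group isomorphic to `A₅` is not solvable -/
theorem not_solvable_of_iso_A5 {H : Type*} [Group H] (e : H ≃* alternatingGroup (Fin 5)) :
    ¬ Group.IsSolvable H := by
  intro hsol
  have h1 : Group.IsSolvable (alternatingGroup (Fin 5)) :=
    Group.isSolvable_of_surjective (f := e.toMonoidHom) e.surjective
  have hc := IsSimpleGroup.comm_iff_isSolvable.2 h1
  let x : alternatingGroup (Fin 5) := ⟨Equiv.swap 2 3 * Equiv.swap 3 4, by
    rw [Equiv.Perm.mem_alternatingGroup]; decide⟩
  let y : alternatingGroup (Fin 5) := ⟨Equiv.swap 1 2 * Equiv.swap 2 3, by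
    rw [Equiv.Perm.mem_alternatingGroup]; decide⟩
  have : x * y ≠ y * x := by decide
  exact this (hc x y)

variable {F : Type*} [Field F] [Fintype F]

/-- a field with `p^r` elements has characteristic `p` -/
theorem charP_of_card_pow (p : ℕ) [Fact p.Prime] (r : ℕ)
    (hF : Fintype.card F = p ^ r) : CharP F p := by
  have hp : p.Prime := Fact.out
  obtain ⟨n, hpr, hc⟩ := FiniteField.card F (ringChar F)
  rw [hF] at hc
  have hdvd : ringChar F ∣ p ^ r := by
    rw [hc]; exact dvd_pow_self _ n.ne_zero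
  have : ringChar F = p := (Nat.prime_dvd_prime_iff_eq hpr hp).1 (hpr.dvd_of_dvd_pow hdvd)
  exact ringChar.of_eq this

/-- a proper subfield of order at least four gives a non-solvable proper subgroup -/
theorem exists_subfield_nonsolvable (p : ℕ) [Fact p.Prime] [CharP F p] (n d : ℕ)
    (hF : Fintype.card F = p ^ n) (hd : d ∣ n) (hd0 : d ≠ 0) (hdn : d < n) (h4 : 4 ≤ p ^ d) :
    ∃ H : Subgroup PSL(2, F), H ≠ ⊤ ∧ ¬ Group.IsSolvable ↥H := by
  classical
  have hp : p.Prime := Fact.out
  let _ : Algebra (ZMod p) F := ZMod.algebra F p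
  have hfinF : Module.finrank (ZMod p) F = n := by
    have h1 := FiniteField.pow_finrank_eq_card p F
    rw [hF] at h1
    exact Nat.pow_right_injective hp.two_le h1
  have hfinK : Module.finrank (ZMod p) (GaloisField p d) = d := GaloisField.finrank p hd0
  obtain ⟨f⟩ := FiniteField.nonempty_algHom_of_finrank_dvd (F := ZMod p) (K := GaloisField p d)
    (L := F) (by rw [hfinF, hfinK]; exact hd)
  let ι : GaloisField p d →+* F := f.toRingHom
  have hcardK : Nat.card (GaloisField p d) = p ^ d := GaloisField.card p d hd0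
  refine ⟨(S0 ι).map (QuotientGroup.mk' (Subgroup.center SL(2, F))), ?_, ?_⟩
  · intro htop
    -- then `S0 ι = ⊤`, so `ι` is surjective
    have hS : S0 ι = ⊤ := by
      rw [eq_top_iff]
      intro g _
      have hg : (QuotientGroup.mk' (Subgroup.center SL(2, F))) g ∈
          (S0 ι).map (QuotientGroup.mk' (Subgroup.center SL(2, F))) := by rw [htop]; trivial
      obtain ⟨s, hs, hsg⟩ := hg
      have hc : s⁻¹ * g ∈ Subgroup.center SL(2, F) := by
        rw [← QuotientGroup.eq]; exact hsg
      have : g = s * (s⁻¹ * g) := by group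
      rw [this]
      exact (S0 ι).mul_mem hs (center_le_S0 ι hc)
    have hsurj : Function.Surjective ι := by
      intro c
      have hc : tU c ∈ S0 ι := by rw [hS]; trivial
      rw [mem_S0_iff] at hc
      obtain ⟨x, hx⟩ := hc 0 1
      exact ⟨x, by rw [hx, tU01]⟩
    have hbij : Function.Bijective ι := ⟨ι.injective, hsurj⟩
    have hcard : Nat.card (GaloisField p d) = Nat.card F := Nat.card_congr (Equiv.ofBijective ι hbij)
    rw [hcardK, Nat.card_eq_fintype_card, hF] at hcard
    have := Nat.pow_right_injective hp.two_le hcard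
    omega
  · obtain ⟨e⟩ := Cfsg.Agent.Lib.Helper51_SL2SubIso.nonempty_iso_psl ι
    intro hsol
    apply psl2_not_solvable (K := GaloisField p d) (by rw [hcardK]; exact h4)
    exact Group.isSolvable_of_surjective (f := e.toMonoidHom) e.surjective

end Cfsg.Agent.Lib.Helper51_PSL2MinSimple
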