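import Mathlib
import Cfsg.Prelude.Def_Transfer

/-!
Internal description of an extraspecial subgroup of order `p³` and exponent `p`, and its
subgroups of order `p²`.
-/

set_option autoImplicit false

namespace Cfsg.Agent.Lib.Helper51_RVExtra

open Subgroup
open scoped commutatorElement

variable {G : Type*} [Group G]

/-- internal description of an extraspecial subgroup `Q` of order `p³` and exponent `p`,
with centre `Z` -/
structure ES (p : ℕ) (Q Z : Subgroup G) : Prop where
  cardQ : Nat.card Q = p ^ 3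
  cardZ : Nat.card Z = p
  le : Z ≤ Q
  comm_mem : ∀ u ∈ Q, ∀ v ∈ Q, u * v * u⁻¹ * v⁻¹ ∈ Z
  central : ∀ z ∈ Z, ∀ u ∈ Q, z * u = u * z
  exp : ∀ u ∈ Q, u ^ p = 1
  center : ∀ u ∈ Q, (∀ v ∈ Q, u * v = v * u) → u ∈ Z

variable {p : ℕ} [hp : Fact p.Prime] {Q Z : Subgroup G}

/-- the possible orders of subgroups between `V` and `Q` -/
theorem card_between [Finite G] {A B C : Subgroup G} (hAB : A ≤ B) (hBC : B ≤ C)
    (hA : Nat.card A = p ^ 2) (hC : Nat.card C = p ^ 3) : B = A ∨ B = C := by
  have hpp : p.Prime := hp.out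
  have h1 : Nat.card A ∣ Nat.card B := Subgroup.card_dvd_of_le hAB
  have h2 : Nat.card B ∣ Nat.card C := Subgroup.card_dvd_of_le hBC
  rw [hA] at h1
  rw [hC] at h2
  obtain ⟨k, hk, hkB⟩ := (Nat.dvd_prime_pow hpp).1 h2
  rw [hkB] at h1
  have h2k : 2 ≤ k := (Nat.pow_dvd_pow_iff_le_right hpp.one_lt).1 h1
  have : k = 2 ∨ k = 3 := by omega
  rcases this with rfl | rfl
  · left
    exact (Subgroup.eq_of_le_of_card_ge hAB (by rw [hA, hkB])).symm
  · right
    exact Subgroup.eq_of_le_of_card_ge hBC (by rw [hC, hkB])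

theorem ES.not_le_center [Finite G] (H : ES p Q Z) : ¬ Q ≤ Z := by
  intro h
  have hpp : p.Prime := hp.out
  have := Subgroup.card_le_of_le h
  rw [H.cardQ, H.cardZ] at this
  have h2 : p ^ 1 < p ^ 3 := Nat.pow_lt_pow_right hpp.one_lt (by norm_num)
  rw [pow_one] at h2
  omega

/-- a subgroup of order `p²` is abelian -/
theorem comm_of_card_sq [Finite G] {V : Subgroup G} (hV : Nat.card V = p ^ 2) :
    ∀ a ∈ V, ∀ b ∈ V, a * b = b * a := by
  intro a ha b hb
  have h := IsPGroup.isMulCommutative_of_card_eq_prime_sq (p := p) (G := V) hV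
  have := h.is_comm.comm ⟨a, ha⟩ ⟨b, hb⟩
  exact congrArg Subtype.val this

/-- subgroups of order `p²` contain the centre -/
theorem ES.le_of_card_sq [Finite G] (H : ES p Q Z) {V : Subgroup G} (hVQ : V ≤ Q)
    (hV : Nat.card V = p ^ 2) : Z ≤ V := by
  by_contra hZV
  have hpp : p.Prime := hp.out
  have hne : V ⊔ Z ≠ V := by
    intro h
    apply hZV
    rw [← h]
    exact le_sup_right
  have hVZ : V ⊔ Z = Q := by
    rcases card_between (le_sup_left : V ≤ V ⊔ Z) (sup_le hVQ H.le) hV H.cardQ with h | h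
    · exact absurd h hne
    · exact h
  have hcomm := comm_of_card_sq hV
  -- `V` centralises `Q`
  have hcent : Q ≤ Subgroup.centralizer (V : Set G) := by
    rw [← hVZ]
    apply sup_le
    · intro a ha b hb
      exact hcomm b hb a ha
    · intro z hz b hb
      exact (H.central z hz b (hVQ hb)).symm
  have hVle : V ≤ Z := by
    intro v hv
    apply H.center v (hVQ hv)
    intro u hu
    exact hcent hu v hv
  have := Subgroup.card_le_of_le hVle
  rw [hV, H.cardZ] at this
  have h2 : p ^ 1 < p ^ 2 := Nat.pow_lt_pow_right hpp.one_lt (by norm_num)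
  rw [pow_one] at h2
  omega

/-- `Q` normalises its subgroups of order `p²` -/
theorem ES.le_normalizer [Finite G] (H : ES p Q Z) {V : Subgroup G} (hVQ : V ≤ Q)
    (hV : Nat.card V = p ^ 2) : Q ≤ Subgroup.normalizer (V : Set G) := by
  intro u hu
  apply Subgroup.mem_normalizer_fintype
  intro v hv
  have h1 : u * v * u⁻¹ = (u * v * u⁻¹ * v⁻¹) * v := by group
  rw [h1]
  exact V.mul_mem (H.le_of_card_sq hVQ hV (H.comm_mem u hu v (hVQ hv))) hv

/-- the centraliser in `Q` of a non-central element of `V` is `V` -/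
theorem ES.mem_of_commute [Finite G] (H : ES p Q Z) {V : Subgroup G} (hVQ : V ≤ Q)
    (hV : Nat.card V = p ^ 2) {x : G} (hxV : x ∈ V) (hxZ : x ∉ Z) {u : G} (hu : u ∈ Q)
    (hux : u * x = x * u) : u ∈ V := by
  set C := Q ⊓ Subgroup.centralizer ({x} : Set G) with hC
  have hVC : V ≤ C := by
    intro v hv
    refine ⟨hVQ hv, ?_⟩
    show v ∈ Subgroup.centralizer ({x} : Set G)
    rw [Subgroup.mem_centralizer_singleton_iff]
    exact comm_of_card_sq hV v hv x hxV
  have hCQ : C ≤ Q := inf_le_left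
  have huC : u ∈ C := ⟨hu, Subgroup.mem_centralizer_singleton_iff.2 hux⟩
  rcases card_between hVC hCQ hV H.cardQ with h | h
  · rw [h] at huC; exact huC
  · exfalso
    apply hxZ
    apply H.center x (hVQ hxV)
    intro v hv
    have : v ∈ C := by rw [h]; exact hv
    exact (Subgroup.mem_centralizer_singleton_iff.1 this.2).symm

/-- a generator of the centre -/
theorem ES.exists_gen [Finite G] (H : ES p Q Z) :
    ∃ z₀ ∈ Z, z₀ ≠ 1 ∧ ∀ z ∈ Z, z ∈ Subgroup.zpowers z₀ := by
  have hpp : p.Prime := hp.out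
  have hnt : Z ≠ ⊥ := by
    intro h
    have := H.cardZ
    rw [h, Subgroup.card_bot] at this
    exact hpp.one_lt.ne this
  obtain ⟨z₀, hz₀1⟩ := (Subgroup.ne_bot_iff_exists_ne_one.1 hnt)
  refine ⟨z₀, z₀.2, fun h => hz₀1 (Subtype.ext h), ?_⟩
  have hle : Subgroup.zpowers (z₀ : G) ≤ Z := by
    rw [Subgroup.zpowers_le]; exact z₀.2
  have hcard : Nat.card (Subgroup.zpowers (z₀ : G)) = p := by
    have h1 := Subgroup.card_dvd_of_le hle
    rw [H.cardZ] at h1
    rcases (Nat.dvd_prime hpp).1 h1 with h | h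
    · exfalso
      rw [Subgroup.card_eq_one, Subgroup.zpowers_eq_bot] at h
      exact hz₀1 (Subtype.ext h)
    · exact h
  have heq : Subgroup.zpowers (z₀ : G) = Z :=
    Subgroup.eq_of_le_of_card_ge hle (by rw [hcard, H.cardZ])
  intro z hz
  rw [heq]; exact hz


omit hp in
/-- from the type-level hypotheses to the internal description -/
theorem es_of_isExtraspecial (P : Subgroup G) (hE : Cfsg.IsExtraspecial p ↥P)
    (hcard : Nat.card P = p ^ 3) (hexp : Monoid.exponent ↥P = p) :
    ES p P ((Subgroup.center ↥P).map P.subtype) where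
  cardQ := hcard
  cardZ := by
    rw [Subgroup.card_map_of_injective P.subtype_injective]
    exact hE.2
  le := Subgroup.map_subtype_le _
  comm_mem := by
    intro u hu v hv
    have h1 : ⁅(⟨u, hu⟩ : P), ⟨v, hv⟩⁆ ∈ commutator ↥P :=
      Subgroup.commutator_mem_commutator (Subgroup.mem_top _) (Subgroup.mem_top _)
    rw [hE.1.2.2] at h1
    exact ⟨_, h1, by simp [commutatorElement_def]⟩
  central := by
    rintro _ ⟨z, hz, rfl⟩ u hu
    have := Subgroup.mem_center_iff.1 hz ⟨u, hu⟩
    exact (congrArg Subtype.val this).symm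
  exp := by
    intro u hu
    have := Monoid.pow_exponent_eq_one (⟨u, hu⟩ : P)
    rw [hexp] at this
    exact congrArg Subtype.val this
  center := by
    intro u hu h
    refine ⟨⟨u, hu⟩, ?_, rfl⟩
    show (⟨u, hu⟩ : P) ∈ Subgroup.center ↥P
    rw [Subgroup.mem_center_iff]
    intro v
    exact Subtype.ext (h v v.2).symm

theorem mem_map_center_iff (P : Subgroup G) (u : P) :
    (u : G) ∈ (Subgroup.center ↥P).map P.subtype ↔ u ∈ Subgroup.center ↥P := by
  constructor
  · rintro ⟨z, hz, h⟩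
    have : z = u := Subtype.ext h
    rwa [← this]
  · intro h
    exact ⟨u, h, rfl⟩

end Cfsg.Agent.Lib.Helper51_RVExtra
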