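import Mathlib

/-!
Coordinates on an elementary abelian group of order `p²`, and the matrices of its automorphisms.
-/

set_option autoImplicit false

namespace Cfsg.Agent.Lib.Helper51_RVLin

open Matrix

variable {p : ℕ} [Fact p.Prime]

theorem exists_coords_comm {E : Type*} [CommGroup E] [Finite E]
    (hexp : ∀ a : E, a ^ p = 1) (hcard : Nat.card E = p ^ 2)
    (z x : E) (hz : z ≠ 1) (hx : x ∉ Subgroup.zpowers z) :
    ∃ (c : E → Fin 2 → ZMod p) (Φ : MulAut E →* Matrix (Fin 2) (Fin 2) (ZMod p)),
      Function.Bijective c ∧ (∀ a b, c (a * b) = c a + c b) ∧ c z = ![1, 0] ∧ c x = ![0, 1] ∧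
      (∀ (φ : MulAut E) (a : E), c (φ a) = Φ φ *ᵥ c a) ∧
      (∀ A B : Matrix (Fin 2) (Fin 2) (ZMod p), A * B = 1 → ∃ φ : MulAut E, Φ φ = A) := by
  classical
  have hp : p.Prime := Fact.out
  have _inst : Module (ZMod p) (Additive E) := AddCommGroup.zmodModule (n := p) (fun a => by
    show Additive.ofMul ((Additive.toMul a) ^ p) = 0
    rw [hexp]; rfl)
  have hsm : ∀ (k : ZMod p) (e : E), k • Additive.ofMul e = Additive.ofMul (e ^ k.val) := by
    intro k e
    conv_lhs => rw [← ZMod.natCast_zmod_val k]
    rw [Nat.cast_smul_eq_nsmul]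
    rfl
  have : Fintype (Additive E) := Fintype.ofFinite _
  have hfr : Module.finrank (ZMod p) (Additive E) = 2 := by
    have h1 := Module.card_eq_pow_finrank (K := ZMod p) (V := Additive E)
    rw [ZMod.card, ← Nat.card_eq_fintype_card] at h1
    have h2 : Nat.card (Additive E) = p ^ 2 := hcard
    rw [h2] at h1
    exact (Nat.pow_right_injective hp.two_le h1).symm
  have hli : LinearIndependent (ZMod p) ![Additive.ofMul z, Additive.ofMul x] := by
    rw [LinearIndependent.pair_iff]
    intro s t hst
    rw [hsm, hsm] at hst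
    have hst' : z ^ s.val * x ^ t.val = 1 := hst
    have ht : t = 0 := by
      by_contra ht
      apply hx
      have h1 : x ^ t.val = (z ^ s.val)⁻¹ := eq_inv_of_mul_eq_one_right hst'
      have h2 : x = (x ^ t.val) ^ (t⁻¹).val := by
        rw [← pow_mul]
        have : (t.val * (t⁻¹).val : ℕ) ≡ 1 [MOD p] := by
          rw [← ZMod.natCast_eq_natCast_iff]
          push_cast
          rw [ZMod.natCast_zmod_val, ZMod.natCast_zmod_val, mul_inv_cancel₀ ht]
        have h3 : x ^ (t.val * (t⁻¹).val) = x ^ 1 := by
          have hx1 : x ^ p = 1 := hexp x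
          rw [← Nat.mod_add_div (t.val * (t⁻¹).val) p, pow_add, pow_mul, hx1, one_pow, mul_one,
            this, Nat.mod_eq_of_lt hp.one_lt]
        rw [h3, pow_one]
      rw [h2, h1]
      exact Subgroup.pow_mem _ (Subgroup.inv_mem _ (Subgroup.pow_mem _ (Subgroup.mem_zpowers z) _)) _
    subst ht
    refine ⟨?_, rfl⟩
    rw [ZMod.val_zero, pow_zero, mul_one] at hst'
    by_contra hs
    apply hz
    have : (s.val * (s⁻¹).val : ℕ) ≡ 1 [MOD p] := by
      rw [← ZMod.natCast_eq_natCast_iff]
      push_cast
      rw [ZMod.natCast_zmod_val, ZMod.natCast_zmod_val, mul_inv_cancel₀ hs]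
    have h3 : z ^ (s.val * (s⁻¹).val) = z ^ 1 := by
      have hz1 : z ^ p = 1 := hexp z
      rw [← Nat.mod_add_div (s.val * (s⁻¹).val) p, pow_add, pow_mul, hz1, one_pow, mul_one,
        this, Nat.mod_eq_of_lt hp.one_lt]
    rw [pow_mul, hst', one_pow, pow_one] at h3
    exact h3.symm
  obtain ⟨b, hb0, hb1⟩ : ∃ b : Module.Basis (Fin 2) (ZMod p) (Additive E),
      b 0 = Additive.ofMul z ∧ b 1 = Additive.ofMul x := by
    refine ⟨basisOfLinearIndependentOfCardEqFinrank hli (by rw [Fintype.card_fin, hfr]), ?_, ?_⟩
    · rw [coe_basisOfLinearIndependentOfCardEqFinrank]; rfl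
    · rw [coe_basisOfLinearIndependentOfCardEqFinrank]; rfl
  -- the linear map of an automorphism
  let lin : MulAut E → (Additive E →ₗ[ZMod p] Additive E) := fun φ =>
    AddMonoidHom.toZModLinearMap p (MulEquiv.toAdditive φ).toAddMonoidHom
  have hlin : ∀ φ (a : Additive E), lin φ a = Additive.ofMul (φ (Additive.toMul a)) := fun _ _ => rfl
  let Φ : MulAut E →* Matrix (Fin 2) (Fin 2) (ZMod p) :=
    { toFun := fun φ => LinearMap.toMatrix b b (lin φ)
      map_one' := by
        have : lin 1 = LinearMap.id := by
          apply LinearMap.ext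
          intro a
          rfl
        rw [this, LinearMap.toMatrix_id]
      map_mul' := by
        intro φ ψ
        have : lin (φ * ψ) = lin φ ∘ₗ lin ψ := by
          apply LinearMap.ext
          intro a
          rfl
        rw [this, LinearMap.toMatrix_comp b b b] }
  refine ⟨fun e => b.repr (Additive.ofMul e), Φ, ?_, ?_, ?_, ?_, ?_, ?_⟩
  · constructor
    · intro e e' h
      have h1 : b.repr (Additive.ofMul e) = b.repr (Additive.ofMul e') := by
        apply Finsupp.ext
        intro i
        exact congrFun h i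
      exact Additive.ofMul.injective (b.repr.injective h1)
    · intro v
      refine ⟨Additive.toMul (b.repr.symm (Finsupp.equivFunOnFinite.symm v)), ?_⟩
      show ⇑(b.repr (Additive.ofMul (Additive.toMul (b.repr.symm (Finsupp.equivFunOnFinite.symm v))))) = v
      rw [ofMul_toMul, LinearEquiv.apply_symm_apply]
      rfl
  · intro a a'
    show ⇑(b.repr (Additive.ofMul (a * a'))) = _
    rw [ofMul_mul, map_add]
    rfl
  · show ⇑(b.repr (Additive.ofMul z)) = _
    rw [← hb0, Module.Basis.repr_self]
    funext i
    fin_cases i <;> simp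
  · show ⇑(b.repr (Additive.ofMul x)) = _
    rw [← hb1, Module.Basis.repr_self]
    funext i
    fin_cases i <;> simp
  · intro φ a
    show ⇑(b.repr (Additive.ofMul (φ a))) = LinearMap.toMatrix b b (lin φ) *ᵥ ⇑(b.repr (Additive.ofMul a))
    rw [LinearMap.toMatrix_mulVec_repr]
    rfl
  · intro A B hAB
    have hBA : B * A = 1 := mul_eq_one_comm.1 hAB
    let f := Matrix.toLin b b A
    let g := Matrix.toLin b b B
    have hfg : ∀ a, f (g a) = a := by
      intro a
      have : f ∘ₗ g = LinearMap.id := by
        rw [← Matrix.toLin_mul b b b, hAB, Matrix.toLin_one]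
      exact LinearMap.congr_fun this a
    have hgf : ∀ a, g (f a) = a := by
      intro a
      have : g ∘ₗ f = LinearMap.id := by
        rw [← Matrix.toLin_mul b b b, hBA, Matrix.toLin_one]
      exact LinearMap.congr_fun this a
    let φ : MulAut E :=
      { toFun := fun e => Additive.toMul (f (Additive.ofMul e))
        invFun := fun e => Additive.toMul (g (Additive.ofMul e))
        left_inv := by
          intro e
          show Additive.toMul (g (Additive.ofMul (Additive.toMul (f (Additive.ofMul e))))) = e
          rw [ofMul_toMul, hgf]; rfl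
        right_inv := by
          intro e
          show Additive.toMul (f (Additive.ofMul (Additive.toMul (g (Additive.ofMul e))))) = e
          rw [ofMul_toMul, hfg]; rfl
        map_mul' := by
          intro e e'
          show Additive.toMul (f (Additive.ofMul (e * e'))) = _
          rw [ofMul_mul, map_add]; rfl }
    refine ⟨φ, ?_⟩
    show LinearMap.toMatrix b b (lin φ) = A
    have : lin φ = f := by
      apply LinearMap.ext
      intro a
      rfl
    rw [this, LinearMap.toMatrix_toLin]


/-- coordinates on an elementary abelian group of order `p²` (group version) -/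
theorem exists_coords {E : Type*} [Group E] [Finite E] (hcomm : ∀ a b : E, a * b = b * a)
    (hexp : ∀ a : E, a ^ p = 1) (hcard : Nat.card E = p ^ 2)
    (z x : E) (hz : z ≠ 1) (hx : x ∉ Subgroup.zpowers z) :
    ∃ (c : E → Fin 2 → ZMod p) (Φ : MulAut E →* Matrix (Fin 2) (Fin 2) (ZMod p)),
      Function.Bijective c ∧ (∀ a b, c (a * b) = c a + c b) ∧ c z = ![1, 0] ∧ c x = ![0, 1] ∧
      (∀ (φ : MulAut E) (a : E), c (φ a) = Φ φ *ᵥ c a) ∧
      (∀ A B : Matrix (Fin 2) (Fin 2) (ZMod p), A * B = 1 → ∃ φ : MulAut E, Φ φ = A) := by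
  let _i : CommGroup E := { (inferInstance : Group E) with mul_comm := hcomm }
  exact exists_coords_comm hexp hcard z x hz hx

/-- consequences of additivity -/
theorem coords_one {E : Type*} [Group E] {c : E → Fin 2 → ZMod p}
    (hadd : ∀ a b, c (a * b) = c a + c b) : c 1 = 0 := by
  have := hadd 1 1
  rw [mul_one] at this
  exact left_eq_add.mp this

theorem coords_pow {E : Type*} [Group E] {c : E → Fin 2 → ZMod p}
    (hadd : ∀ a b, c (a * b) = c a + c b) (a : E) (k : ℕ) : c (a ^ k) = (k : ZMod p) • c a := by
  induction k with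
  | zero => rw [pow_zero, coords_one hadd, Nat.cast_zero, zero_smul]
  | succ k ih => rw [pow_succ, hadd, ih, Nat.cast_succ, add_smul, one_smul]

theorem coords_inv {E : Type*} [Group E] {c : E → Fin 2 → ZMod p}
    (hadd : ∀ a b, c (a * b) = c a + c b) (a : E) : c a⁻¹ = - c a := by
  have := hadd a a⁻¹
  rw [mul_inv_cancel, coords_one hadd] at this
  exact eq_neg_of_add_eq_zero_right this.symm

end Cfsg.Agent.Lib.Helper51_RVLin
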