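import Mathlib
import Cfsg.Agent.Lib.Helper51_RVLin
import Cfsg.Agent.Lib.Helper51_RVExtra

/-!
The Frattini-type core of the Ruiz–Viruel bounds: for a radical subgroup `V` of order `p²` of an
extraspecial Sylow subgroup `P` of order `p³` and exponent `p`, the normaliser of `P` contains
an element acting on `V` as `diag(a, a⁻¹)` up to a unipotent.
-/

set_option autoImplicit false

namespace Cfsg.Agent.Lib.Helper51_RVCore

open Matrix Cfsg.Agent.Lib.Helper51_RVLin Cfsg.Agent.Lib.Helper51_RVExtra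

variable {p : ℕ} [Fact p.Prime]

/-! ### Matrices -/

/-- upper unitriangular -/
def tU (b : ZMod p) : Matrix (Fin 2) (Fin 2) (ZMod p) := !![1, b; 0, 1]

/-- lower unitriangular -/
def tL (b : ZMod p) : Matrix (Fin 2) (Fin 2) (ZMod p) := !![1, 0; b, 1]

/-- diagonal of determinant one -/
def dg (a : ZMod p) : Matrix (Fin 2) (Fin 2) (ZMod p) := !![a, 0; 0, a⁻¹]

theorem tU_zero : tU (0 : ZMod p) = 1 := by
  ext i j; fin_cases i <;> fin_cases j <;> simp [tU]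

theorem tL_zero : tL (0 : ZMod p) = 1 := by
  ext i j; fin_cases i <;> fin_cases j <;> simp [tL]

theorem tU_mul (b b' : ZMod p) : tU b * tU b' = tU (b + b') := by
  ext i j; fin_cases i <;> fin_cases j <;> simp [tU, Matrix.mul_apply, Fin.sum_univ_two, add_comm]

theorem tL_mul (b b' : ZMod p) : tL b * tL b' = tL (b + b') := by
  ext i j; fin_cases i <;> fin_cases j <;> simp [tL, Matrix.mul_apply, Fin.sum_univ_two, add_comm]

theorem tU_pow (b : ZMod p) (k : ℕ) : tU b ^ k = tU ((k : ZMod p) * b) := by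
  induction k with
  | zero => rw [pow_zero, Nat.cast_zero, zero_mul, tU_zero]
  | succ k ih => rw [pow_succ, ih, tU_mul, Nat.cast_succ, add_mul, one_mul]

theorem tL_pow (b : ZMod p) (k : ℕ) : tL b ^ k = tL ((k : ZMod p) * b) := by
  induction k with
  | zero => rw [pow_zero, Nat.cast_zero, zero_mul, tL_zero]
  | succ k ih => rw [pow_succ, ih, tL_mul, Nat.cast_succ, add_mul, one_mul]

theorem tU_inj {b b' : ZMod p} (h : tU b = tU b') : b = b' := by
  have := congrFun (congrFun h 0) 1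
  simpa [tU] using this

theorem dg_mul_inv {a : ZMod p} (ha : a ≠ 0) : dg a * dg a⁻¹ = 1 := by
  ext i j; fin_cases i <;> fin_cases j <;> simp [dg, Matrix.mul_apply, Fin.sum_univ_two, ha]

theorem dg_eq {a : ZMod p} (ha : a ≠ 0) :
    tU a * tL (-a⁻¹) * tU (a - 1) * tL 1 * tU (-1) = dg a := by
  ext i j; fin_cases i <;> fin_cases j <;>
    simp [dg, tU, tL, Matrix.mul_apply, Fin.sum_univ_two, ha] <;> field_simp <;> ring

theorem dg_conj {a : ZMod p} (ha : a ≠ 0) (b : ZMod p) :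
    dg a * tU b * dg a⁻¹ = tU (a ^ 2 * b) := by
  ext i j; fin_cases i <;> fin_cases j <;>
    simp [dg, tU, Matrix.mul_apply, Fin.sum_univ_two, ha] <;> field_simp

/-- determinant from a triangular action on an independent pair -/
theorem det_of_eig (M : Matrix (Fin 2) (Fin 2) (ZMod p)) (w w' : Fin 2 → ZMod p) (l m j : ZMod p)
    (hd : w 0 * w' 1 - w 1 * w' 0 ≠ 0) (h1 : M *ᵥ w = l • w) (h2 : M *ᵥ w' = m • w' + j • w) :
    M.det = l * m := by
  have e1 := congrFun h1 0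
  have e2 := congrFun h1 1
  have e3 := congrFun h2 0
  have e4 := congrFun h2 1
  simp only [Matrix.mulVec, dotProduct, Fin.sum_univ_two, Pi.smul_apply, Pi.add_apply,
    smul_eq_mul] at e1 e2 e3 e4
  rw [Matrix.det_fin_two]
  have key : (M 0 0 * M 1 1 - M 0 1 * M 1 0) * (w 0 * w' 1 - w 1 * w' 0)
      = (l * m) * (w 0 * w' 1 - w 1 * w' 0) := by
    linear_combination (M 1 0 * w' 0 + M 1 1 * w' 1) * e1 + (l * w 0) * e4
      - (M 0 0 * w' 0 + M 0 1 * w' 1) * e2 - (l * w 1) * e3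
  exact mul_right_cancel₀ hd key

/-- proportionality from a vanishing determinant -/
theorem prop_of_det_zero (w w' : Fin 2 → ZMod p) (hw : w ≠ 0)
    (h : w 0 * w' 1 - w 1 * w' 0 = 0) : ∃ t : ZMod p, w' = t • w := by
  by_cases h0 : w 0 = 0
  · have h1 : w 1 ≠ 0 := by
      intro h1
      apply hw
      funext i
      fin_cases i
      · exact h0
      · exact h1
    refine ⟨w' 1 / w 1, ?_⟩
    funext i
    fin_cases i
    · simp only [Fin.zero_eta, Pi.smul_apply, smul_eq_mul, h0, mul_zero]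
      rw [h0, zero_mul, zero_sub, neg_eq_zero] at h
      rcases mul_eq_zero.1 h with h | h
      · exact absurd h h1
      · exact h
    · simp only [Fin.mk_one, Pi.smul_apply, smul_eq_mul]
      field_simp
  · refine ⟨w' 0 / w 0, ?_⟩
    funext i
    fin_cases i
    · simp only [Fin.zero_eta, Pi.smul_apply, smul_eq_mul]
      field_simp
    · simp only [Fin.mk_one, Pi.smul_apply, smul_eq_mul]
      field_simp
      linear_combination h

/-- an independent companion -/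
theorem exists_indep (w : Fin 2 → ZMod p) (hw : w ≠ 0) :
    ∃ w' : Fin 2 → ZMod p, w 0 * w' 1 - w 1 * w' 0 ≠ 0 := by
  by_cases h0 : w 0 = 0
  · have h1 : w 1 ≠ 0 := by
      intro h1
      apply hw
      funext i
      fin_cases i
      · exact h0
      · exact h1
    refine ⟨![1, 0], ?_⟩
    simpa using h1
  · refine ⟨![0, 1], ?_⟩
    simpa using h0


/-! ### Sylow conjugacy inside a subgroup -/

variable {G : Type*} [Group G]

theorem sylow_conj_in [Finite G] (P : Sylow p G) (K : Subgroup G) (hPK : (P : Subgroup G) ≤ K)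
    (g : G) (hg : ((g • P : Sylow p G) : Subgroup G) ≤ K) :
    ∃ k ∈ K, k * g ∈ Subgroup.normalizer ((P : Subgroup G) : Set G) := by
  obtain ⟨k, hk⟩ := MulAction.exists_smul_eq K ((g • P).subtype hg) (P.subtype hPK)
  rw [Sylow.smul_subtype] at hk
  have h2 := Sylow.subtype_injective hk
  refine ⟨k, k.2, ?_⟩
  have h3 : ((k : G) * g) • P = P := by rw [mul_smul]; exact h2
  exact Sylow.smul_eq_iff_mem_normalizer.1 h3

/-! ### Coordinates on a subgroup of order `p²` and the matrices of its normaliser -/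

/-- coordinates on `V` adapted to `z₀, x`, and the matrix representation of `N_G(V)` -/
structure TD (V : Subgroup G) (z₀ x : G) (c : G → Fin 2 → ZMod p)
    (θ : ↥(Subgroup.normalizer (V : Set G)) →* Matrix (Fin 2) (Fin 2) (ZMod p)) : Prop where
  hz : z₀ ∈ V
  hx : x ∈ V
  exp : ∀ v ∈ V, v ^ p = 1
  inj : ∀ u ∈ V, ∀ v ∈ V, c u = c v → u = v
  add : ∀ u ∈ V, ∀ v ∈ V, c (u * v) = c u + c v
  cz : c z₀ = ![1, 0]
  cx : c x = ![0, 1]
  equiv : ∀ (g : ↥(Subgroup.normalizer (V : Set G))), ∀ v ∈ V,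
    c ((g : G) * v * (g : G)⁻¹) = θ g *ᵥ c v

theorem exists_TD [Finite G] (V : Subgroup G) (hV : Nat.card V = p ^ 2)
    (hexp : ∀ v ∈ V, v ^ p = 1) (z₀ x : G) (hz₀ : z₀ ∈ V) (hx : x ∈ V) (hz1 : z₀ ≠ 1)
    (hxz : x ∉ Subgroup.zpowers z₀) :
    ∃ (c : G → Fin 2 → ZMod p)
      (θ : ↥(Subgroup.normalizer (V : Set G)) →* Matrix (Fin 2) (Fin 2) (ZMod p)),
      TD V z₀ x c θ := by
  classical
  have hcomm : ∀ a b : ↥V, a * b = b * a := by
    intro a b
    exact Subtype.ext (comm_of_card_sq hV a a.2 b b.2)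
  have hexp' : ∀ a : ↥V, a ^ p = 1 := fun a => Subtype.ext (hexp a a.2)
  have hz1' : (⟨z₀, hz₀⟩ : ↥V) ≠ 1 := fun h => hz1 (congrArg Subtype.val h)
  have hxz' : (⟨x, hx⟩ : ↥V) ∉ Subgroup.zpowers (⟨z₀, hz₀⟩ : ↥V) := by
    intro h
    obtain ⟨k, hk⟩ := Subgroup.mem_zpowers_iff.1 h
    apply hxz
    rw [Subgroup.mem_zpowers_iff]
    refine ⟨k, ?_⟩
    have := congrArg Subtype.val hk
    simpa using this
  obtain ⟨c, Φ, hbij, hadd, hcz, hcx, hequiv, -⟩ :=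
    exists_coords hcomm hexp' hV ⟨z₀, hz₀⟩ ⟨x, hx⟩ hz1' hxz'
  refine ⟨fun u => if h : u ∈ V then c ⟨u, h⟩ else 0, Φ.comp V.normalizerMonoidHom, ?_⟩
  refine ⟨hz₀, hx, hexp, ?_, ?_, ?_, ?_, ?_⟩
  · intro u hu v hv h
    simp only [dif_pos hu, dif_pos hv] at h
    exact congrArg Subtype.val (hbij.1 h)
  · intro u hu v hv
    simp only [dif_pos hu, dif_pos hv, dif_pos (V.mul_mem hu hv)]
    exact hadd ⟨u, hu⟩ ⟨v, hv⟩
  · simp only [dif_pos hz₀]; exact hcz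
  · simp only [dif_pos hx]; exact hcx
  · intro g v hv
    have hgv : (g : G) * v * (g : G)⁻¹ ∈ V := (Subgroup.mem_normalizer_iff.1 g.2 v).1 hv
    simp only [dif_pos hv, dif_pos hgv]
    exact hequiv (V.normalizerMonoidHom g) ⟨v, hv⟩

namespace TD

variable {V : Subgroup G} {z₀ x : G} {c : G → Fin 2 → ZMod p}
  {θ : ↥(Subgroup.normalizer (V : Set G)) →* Matrix (Fin 2) (Fin 2) (ZMod p)}

theorem c_one (T : TD V z₀ x c θ) : c 1 = 0 := by
  have := T.add 1 V.one_mem 1 V.one_mem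
  rw [mul_one] at this
  exact left_eq_add.mp this

theorem c_pow (T : TD V z₀ x c θ) {v : G} (hv : v ∈ V) (k : ℕ) :
    c (v ^ k) = (k : ZMod p) • c v := by
  induction k with
  | zero => rw [pow_zero, T.c_one, Nat.cast_zero, zero_smul]
  | succ k ih => rw [pow_succ, T.add _ (V.pow_mem hv k) _ hv, ih, Nat.cast_succ, add_smul, one_smul]

theorem c_zx (T : TD V z₀ x c θ) (i j : ℕ) :
    c (z₀ ^ i * x ^ j) = ![(i : ZMod p), (j : ZMod p)] := by
  rw [T.add _ (V.pow_mem T.hz i) _ (V.pow_mem T.hx j), T.c_pow T.hz, T.c_pow T.hx, T.cz, T.cx]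
  funext k
  fin_cases k <;> simp

theorem eq_zx (T : TD V z₀ x c θ) {v : G} (hv : v ∈ V) :
    v = z₀ ^ (c v 0).val * x ^ (c v 1).val := by
  apply T.inj v hv _ (V.mul_mem (V.pow_mem T.hz _) (V.pow_mem T.hx _))
  rw [T.c_zx, ZMod.natCast_zmod_val, ZMod.natCast_zmod_val]
  funext k
  fin_cases k <;> rfl

theorem conj_mem (g : ↥(Subgroup.normalizer (V : Set G))) {v : G} (hv : v ∈ V) :
    (g : G) * v * (g : G)⁻¹ ∈ V := (Subgroup.mem_normalizer_iff.1 g.2 v).1 hv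

/-- the matrix of `g` from its action on `z₀, x` -/
theorem theta_eq (T : TD V z₀ x c θ) (g : ↥(Subgroup.normalizer (V : Set G))) :
    θ g = !![c ((g : G) * z₀ * (g : G)⁻¹) 0, c ((g : G) * x * (g : G)⁻¹) 0;
             c ((g : G) * z₀ * (g : G)⁻¹) 1, c ((g : G) * x * (g : G)⁻¹) 1] := by
  have h1 := T.equiv g z₀ T.hz
  have h2 := T.equiv g x T.hx
  rw [T.cz] at h1
  rw [T.cx] at h2
  ext i j
  fin_cases i <;> fin_cases j
  · have := congrFun h1 0
    simpa [Matrix.mulVec, dotProduct, Fin.sum_univ_two] using this.symm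
  · have := congrFun h2 0
    simpa [Matrix.mulVec, dotProduct, Fin.sum_univ_two] using this.symm
  · have := congrFun h1 1
    simpa [Matrix.mulVec, dotProduct, Fin.sum_univ_two] using this.symm
  · have := congrFun h2 1
    simpa [Matrix.mulVec, dotProduct, Fin.sum_univ_two] using this.symm

theorem theta_of (T : TD V z₀ x c θ) (g : ↥(Subgroup.normalizer (V : Set G))) {i j k l : ℕ}
    (h1 : (g : G) * z₀ * (g : G)⁻¹ = z₀ ^ i * x ^ j)
    (h2 : (g : G) * x * (g : G)⁻¹ = z₀ ^ k * x ^ l) :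
    θ g = !![(i : ZMod p), (k : ZMod p); (j : ZMod p), (l : ZMod p)] := by
  rw [T.theta_eq g, h1, h2, T.c_zx, T.c_zx]
  rfl

theorem conj_of_theta (T : TD V z₀ x c θ) (g : ↥(Subgroup.normalizer (V : Set G)))
    {α β γ δ : ZMod p} (h : θ g = !![α, β; γ, δ]) :
    (g : G) * z₀ * (g : G)⁻¹ = z₀ ^ α.val * x ^ γ.val ∧
    (g : G) * x * (g : G)⁻¹ = z₀ ^ β.val * x ^ δ.val := by
  have h1 := T.equiv g z₀ T.hz
  have h2 := T.equiv g x T.hx
  rw [T.cz, h] at h1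
  rw [T.cx, h] at h2
  constructor
  · apply T.inj _ (conj_mem g T.hz) _ (V.mul_mem (V.pow_mem T.hz _) (V.pow_mem T.hx _))
    rw [h1, T.c_zx, ZMod.natCast_zmod_val, ZMod.natCast_zmod_val]
    funext k
    fin_cases k <;> simp [Matrix.mulVec, dotProduct, Fin.sum_univ_two]
  · apply T.inj _ (conj_mem g T.hx) _ (V.mul_mem (V.pow_mem T.hz _) (V.pow_mem T.hx _))
    rw [h2, T.c_zx, ZMod.natCast_zmod_val, ZMod.natCast_zmod_val]
    funext k
    fin_cases k <;> simp [Matrix.mulVec, dotProduct, Fin.sum_univ_two]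

theorem cent_of_theta_one (T : TD V z₀ x c θ) (g : ↥(Subgroup.normalizer (V : Set G)))
    (h : θ g = 1) {v : G} (hv : v ∈ V) : (g : G) * v * (g : G)⁻¹ = v := by
  apply T.inj _ (conj_mem g hv) _ hv
  rw [T.equiv g v hv, h, Matrix.one_mulVec]

end TD


/-! ### The centre is generated by any of its non-identity elements -/

theorem ES_exists_pow [Finite G] {Q Z : Subgroup G} (H : ES p Q Z) {z₀ : G} (hz₀ : z₀ ∈ Z)
    (h1 : z₀ ≠ 1) {z : G} (hz : z ∈ Z) : ∃ k : ℕ, z₀ ^ k = z := by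
  have hpp : p.Prime := Fact.out
  have hle : Subgroup.zpowers z₀ ≤ Z := by
    rw [Subgroup.zpowers_le]; exact hz₀
  have hcard : Nat.card (Subgroup.zpowers z₀) = p := by
    have h2 := Subgroup.card_dvd_of_le hle
    rw [H.cardZ] at h2
    rcases (Nat.dvd_prime hpp).1 h2 with h | h
    · exfalso
      rw [Subgroup.card_eq_one, Subgroup.zpowers_eq_bot] at h
      exact h1 h
    · exact h
  have heq : Subgroup.zpowers z₀ = Z :=
    Subgroup.eq_of_le_of_card_ge hle (by rw [hcard, H.cardZ])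
  rw [← heq, ← mem_powers_iff_mem_zpowers] at hz
  exact (Submonoid.mem_powers_iff _ _).1 hz

/-- inverse of a matrix value of a monoid homomorphism from a group -/
theorem map_inv_eq_of_mul_eq_one {Γ : Type*} [Group Γ]
    (θ : Γ →* Matrix (Fin 2) (Fin 2) (ZMod p)) (g : Γ) {B : Matrix (Fin 2) (Fin 2) (ZMod p)}
    (h : θ g * B = 1) : θ g⁻¹ = B := by
  calc θ g⁻¹ = θ g⁻¹ * (θ g * B) := by rw [h, mul_one]
    _ = θ (g⁻¹ * g) * B := by rw [map_mul, mul_assoc]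
    _ = B := by rw [inv_mul_cancel, map_one, one_mul]

section core

variable [Finite G] {Q Z V : Subgroup G} {z₀ x : G} {c : G → Fin 2 → ZMod p}
  {θ : ↥(Subgroup.normalizer (V : Set G)) →* Matrix (Fin 2) (Fin 2) (ZMod p)}

/-- elements of `Q` act on `V` as upper unitriangular matrices -/
theorem theta_Q (T : TD V z₀ x c θ) (H : ES p Q Z) (hVQ : V ≤ Q) (hV : Nat.card V = p ^ 2)
    (hz₀ : z₀ ∈ Z) (hz1 : z₀ ≠ 1) {u : G} (hu : u ∈ Q) :
    ∃ b : ZMod p, θ ⟨u, H.le_normalizer hVQ hV hu⟩ = tU b := by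
  have h1 : u * z₀ * u⁻¹ = z₀ ^ 1 * x ^ 0 := by
    rw [pow_one, pow_zero, mul_one, ← H.central z₀ hz₀ u hu, mul_inv_cancel_right]
  obtain ⟨k, hk⟩ := ES_exists_pow H hz₀ hz1 (H.comm_mem u hu x (hVQ T.hx))
  have h2 : u * x * u⁻¹ = z₀ ^ k * x ^ 1 := by
    rw [hk, pow_one, inv_mul_cancel_right]
  refine ⟨(k : ZMod p), ?_⟩
  rw [T.theta_of ⟨u, H.le_normalizer hVQ hV hu⟩ h1 h2]
  simp [tU]

theorem tU_mul_dg (a b : ZMod p) : tU b * dg a = !![a, b * a⁻¹; 0, a⁻¹] := by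
  ext i j; fin_cases i <;> fin_cases j <;> simp [dg, tU, Matrix.mul_apply, Fin.sum_univ_two]

theorem tU_dg_inv {a : ZMod p} (ha : a ≠ 0) (b : ZMod p) :
    tU b * dg a * (dg a⁻¹ * tU (-b)) = 1 := by
  rw [mul_assoc, ← mul_assoc (dg a), dg_mul_inv ha, one_mul, tU_mul, add_neg_cancel, tU_zero]

theorem tU_dg_conj {a : ZMod p} (ha : a ≠ 0) (b₀ b : ZMod p) :
    tU b₀ * dg a * tU b * (dg a⁻¹ * tU (-b₀)) = tU (a ^ 2 * b) := by
  have h1 : tU b₀ * dg a * tU b * (dg a⁻¹ * tU (-b₀))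
      = tU b₀ * (dg a * tU b * dg a⁻¹) * tU (-b₀) := by
    simp only [mul_assoc]
  rw [h1, dg_conj ha, tU_mul, tU_mul]
  congr 1
  ring

/-- **Core lemma.** If `N_G(V)` induces `SL₂` on `V` then `N_G(P)` contains an element acting
on `V` as an upper triangular matrix with diagonal `(a, a⁻¹)`. -/
theorem core (P : Sylow p G) (H : ES p (P : Subgroup G) Z) (hVP : V ≤ (P : Subgroup G))
    (hV : Nat.card V = p ^ 2) (T : TD V z₀ x c θ) (hz₀ : z₀ ∈ Z) (hz1 : z₀ ≠ 1) (hxZ : x ∉ Z)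
    (g₁ g₂ : ↥(Subgroup.normalizer (V : Set G))) (cc : ℕ) (hcc : (cc : ZMod p) ≠ 0)
    (h11 : (g₁ : G) * z₀ * (g₁ : G)⁻¹ = z₀) (h12 : (g₁ : G) * x * (g₁ : G)⁻¹ = z₀ * x)
    (h21 : (g₂ : G) * z₀ * (g₂ : G)⁻¹ = z₀ * x ^ cc) (h22 : (g₂ : G) * x * (g₂ : G)⁻¹ = x)
    (a : ZMod p) (ha : a ≠ 0) :
    ∃ n ∈ Subgroup.normalizer ((P : Subgroup G) : Set G),
      (∃ i : ℕ, n * x * n⁻¹ = z₀ ^ i * x ^ (a⁻¹).val) ∧
      ∀ y ∈ (P : Subgroup G), ∃ i l : ℕ, n * y * n⁻¹ = z₀ ^ i * x ^ l * y ^ (a ^ 2).val := by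
  have hθ1 : θ g₁ = tU 1 := by
    have e1 : (g₁ : G) * z₀ * (g₁ : G)⁻¹ = z₀ ^ 1 * x ^ 0 := by
      rw [h11, pow_one, pow_zero, mul_one]
    have e2 : (g₁ : G) * x * (g₁ : G)⁻¹ = z₀ ^ 1 * x ^ 1 := by rw [h12, pow_one, pow_one]
    rw [T.theta_of g₁ e1 e2]; simp [tU]
  have hθ2 : θ g₂ = tL cc := by
    have e1 : (g₂ : G) * z₀ * (g₂ : G)⁻¹ = z₀ ^ 1 * x ^ cc := by rw [h21, pow_one]
    have e2 : (g₂ : G) * x * (g₂ : G)⁻¹ = z₀ ^ 0 * x ^ 1 := by
      rw [h22, pow_zero, one_mul, pow_one]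
    rw [T.theta_of g₂ e1 e2]; simp [tL]
  obtain ⟨g₂', hθ2'⟩ : ∃ g₂' : ↥(Subgroup.normalizer (V : Set G)), θ g₂' = tL 1 := by
    refine ⟨g₂ ^ ((cc : ZMod p)⁻¹).val, ?_⟩
    rw [map_pow, hθ2, tL_pow, ZMod.natCast_zmod_val, inv_mul_cancel₀ hcc]
  have hU : ∀ k : ℕ, θ (g₁ ^ k) = tU k := by
    intro k; rw [map_pow, hθ1, tU_pow, mul_one]
  have hL : ∀ k : ℕ, θ (g₂' ^ k) = tL k := by
    intro k; rw [map_pow, hθ2', tL_pow, mul_one]
  obtain ⟨g, hθg⟩ : ∃ g : ↥(Subgroup.normalizer (V : Set G)), θ g = dg a := by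
    refine ⟨g₁ ^ a.val * g₂' ^ (-a⁻¹).val * g₁ ^ (a - 1).val * g₂' * g₁ ^ (-1 : ZMod p).val, ?_⟩
    rw [map_mul, map_mul, map_mul, map_mul, hU, hU, hU, hL, hθ2', ZMod.natCast_zmod_val,
      ZMod.natCast_zmod_val, ZMod.natCast_zmod_val, ZMod.natCast_zmod_val, dg_eq ha]
  have hθginv : θ g⁻¹ = dg a⁻¹ := map_inv_eq_of_mul_eq_one θ g (by rw [hθg, dg_mul_inv ha])
  let K₀ : Subgroup ↥(Subgroup.normalizer (V : Set G)) :=
    { carrier := {k | ∃ b : ZMod p, θ k = tU b}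
      one_mem' := ⟨0, by rw [map_one, tU_zero]⟩
      mul_mem' := by
        rintro k k' ⟨b, hb⟩ ⟨b', hb'⟩
        exact ⟨b + b', by rw [map_mul, hb, hb', tU_mul]⟩
      inv_mem' := by
        rintro k ⟨b, hb⟩
        exact ⟨-b, map_inv_eq_of_mul_eq_one θ k (by rw [hb, tU_mul, add_neg_cancel, tU_zero])⟩ }
  have hK₀ : ∀ k, k ∈ K₀ ↔ ∃ b : ZMod p, θ k = tU b := fun k => Iff.rfl
  have hPN : ∀ {u : G}, u ∈ (P : Subgroup G) → u ∈ Subgroup.normalizer (V : Set G) :=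
    fun hu => H.le_normalizer hVP hV hu
  have hPK : (P : Subgroup G) ≤ K₀.map (Subgroup.normalizer (V : Set G)).subtype := by
    intro u hu
    obtain ⟨b, hb⟩ := theta_Q T H hVP hV hz₀ hz1 hu
    exact ⟨⟨u, hPN hu⟩, (hK₀ _).2 ⟨b, hb⟩, rfl⟩
  have hgK : (((g : G) • P : Sylow p G) : Subgroup G)
      ≤ K₀.map (Subgroup.normalizer (V : Set G)).subtype := by
    intro w hw
    rw [Sylow.coe_subgroup_smul, Subgroup.mem_smul_pointwise_iff_exists] at hw
    obtain ⟨u, hu, rfl⟩ := hw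
    obtain ⟨b, hb⟩ := theta_Q T H hVP hV hz₀ hz1 hu
    refine ⟨g * ⟨u, hPN hu⟩ * g⁻¹, (hK₀ _).2 ⟨a ^ 2 * b, ?_⟩, ?_⟩
    · rw [map_mul, map_mul, hθg, hb, hθginv, dg_conj ha]
    · simp [MulAut.smul_def]
  obtain ⟨k, hkK, hn⟩ := sylow_conj_in P _ hPK (g : G) hgK
  obtain ⟨kN, hkN, rfl⟩ := hkK
  obtain ⟨b₀, hb₀⟩ := (hK₀ _).1 hkN
  have hθn : θ (kN * g) = tU b₀ * dg a := by rw [map_mul, hb₀, hθg]
  have hθninv : θ (kN * g)⁻¹ = dg a⁻¹ * tU (-b₀) :=
    map_inv_eq_of_mul_eq_one θ _ (by rw [hθn, tU_dg_inv ha])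
  refine ⟨((kN * g : ↥(Subgroup.normalizer (V : Set G))) : G), hn, ?_, ?_⟩
  · have h := hθn
    rw [tU_mul_dg] at h
    exact ⟨_, (T.conj_of_theta _ h).2⟩
  · intro y hy
    obtain ⟨b, hb⟩ := theta_Q T H hVP hV hz₀ hz1 hy
    set yN : ↥(Subgroup.normalizer (V : Set G)) := ⟨y, hPN hy⟩ with hyN
    set j := (a ^ 2).val with hj
    have hθyj : θ (yN ^ j) = tU (a ^ 2 * b) := by
      rw [map_pow, hb, tU_pow, hj, ZMod.natCast_zmod_val]
    have hθyjinv : θ (yN ^ j)⁻¹ = tU (-(a ^ 2 * b)) :=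
      map_inv_eq_of_mul_eq_one θ _ (by rw [hθyj, tU_mul, add_neg_cancel, tU_zero])
    set vN := (kN * g) * yN * (kN * g)⁻¹ * (yN ^ j)⁻¹ with hvN
    have hθv : θ vN = 1 := by
      rw [hvN, map_mul, map_mul, map_mul, hθn, hb, hθninv, hθyjinv, tU_dg_conj ha, tU_mul,
        add_neg_cancel, tU_zero]
    have hvP : (vN : G) ∈ (P : Subgroup G) := by
      have h1 : ((kN * g : ↥(Subgroup.normalizer (V : Set G))) : G) * y *
          ((kN * g : ↥(Subgroup.normalizer (V : Set G))) : G)⁻¹ ∈ (P : Subgroup G) :=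
        (Subgroup.mem_normalizer_iff.1 hn y).1 hy
      have h2 : (y ^ j)⁻¹ ∈ (P : Subgroup G) := Subgroup.inv_mem _ (Subgroup.pow_mem _ hy j)
      exact Subgroup.mul_mem _ h1 h2
    have hvx := T.cent_of_theta_one vN hθv T.hx
    have hvx' : (vN : G) * x = x * (vN : G) := by
      calc (vN : G) * x = ((vN : G) * x * (vN : G)⁻¹) * (vN : G) := by group
        _ = x * (vN : G) := by rw [hvx]
    have hvV : (vN : G) ∈ V := H.mem_of_commute hVP hV T.hx hxZ hvP hvx'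
    refine ⟨(c (vN : G) 0).val, (c (vN : G) 1).val, ?_⟩
    rw [← T.eq_zx hvV]
    show _ = ((kN * g : ↥(Subgroup.normalizer (V : Set G))) : G) * y *
          ((kN * g : ↥(Subgroup.normalizer (V : Set G))) : G)⁻¹ * (y ^ j)⁻¹ * y ^ j
    group

end core

end Cfsg.Agent.Lib.Helper51_RVCore
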