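import Mathlib
import Cfsg.Agent.Lib.Helper51_RVLin
import Cfsg.Agent.Lib.Helper51_RVExtra

/-!
The action of `N_G(P)` on `P / Z(P)` for `P` extraspecial of order `p³` and exponent `p`, in
coordinates.
-/

set_option autoImplicit false

namespace Cfsg.Agent.Lib.Helper51_RVW

open Matrix Cfsg.Agent.Lib.Helper51_RVLin Cfsg.Agent.Lib.Helper51_RVExtra

variable {G : Type*} [Group G] {p : ℕ} [Fact p.Prime]

/-- the induced automorphism of the abelianisation, as a homomorphism -/
def abHom (H : Type*) [Group H] : MulAut H →* MulAut (Abelianization H) where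
  toFun φ := φ.abelianizationCongr
  map_one' := by
    apply MulEquiv.ext
    intro a
    obtain ⟨u, rfl⟩ := QuotientGroup.mk_surjective a
    rfl
  map_mul' := by
    intro φ ψ
    apply MulEquiv.ext
    intro a
    obtain ⟨u, rfl⟩ := QuotientGroup.mk_surjective a
    rfl

theorem abHom_of (H : Type*) [Group H] (φ : MulAut H) (u : H) :
    abHom H φ (Abelianization.of u) = Abelianization.of (φ u) := rfl

theorem exists_W [Finite G] (P : Subgroup G) (hE : Cfsg.IsExtraspecial p ↥P)
    (hcard : Nat.card P = p ^ 3) (hexp : ∀ u : ↥P, u ^ p = 1) :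
    ∃ (cP : ↥P → Fin 2 → ZMod p)
      (ρ : ↥(Subgroup.normalizer (P : Set G)) →* Matrix (Fin 2) (Fin 2) (ZMod p)),
      Function.Surjective cP ∧ (∀ u v, cP (u * v) = cP u + cP v) ∧
      (∀ u, cP u = 0 ↔ u ∈ Subgroup.center ↥P) ∧
      (∀ (n : ↥(Subgroup.normalizer (P : Set G))) (u : ↥P),
        cP (P.normalizerMonoidHom n u) = ρ n *ᵥ cP u) := by
  have hp : p.Prime := Fact.out
  have hexpE : ∀ a : Abelianization ↥P, a ^ p = 1 := by
    intro a
    obtain ⟨u, rfl⟩ := QuotientGroup.mk_surjective a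
    show Abelianization.of u ^ p = 1
    rw [← map_pow, hexp, map_one]
  have hcardE : Nat.card (Abelianization ↥P) = p ^ 2 := by
    have h1 : Nat.card ↥P = Nat.card (Abelianization ↥P) * Nat.card (commutator ↥P) :=
      Subgroup.card_eq_card_quotient_mul_card_subgroup (commutator ↥P)
    have hc : Nat.card (commutator ↥P) = p := by rw [hE.1.2.2]; exact hE.2
    rw [hcard, hc] at h1
    have h2 : p ^ 3 = p ^ 2 * p := by ring
    rw [h2] at h1
    exact (Nat.eq_of_mul_eq_mul_right hp.pos h1).symm
  have hnt : Nontrivial (Abelianization ↥P) := by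
    rw [← Finite.one_lt_card_iff_nontrivial, hcardE]
    exact Nat.one_lt_pow (by norm_num) hp.one_lt
  obtain ⟨z, hz⟩ := exists_ne (1 : Abelianization ↥P)
  obtain ⟨x, hx⟩ : ∃ x : Abelianization ↥P, x ∉ Subgroup.zpowers z := by
    by_contra hcon
    push Not at hcon
    have htop : Subgroup.zpowers z = ⊤ := (Subgroup.eq_top_iff' _).2 hcon
    have h1 : Nat.card (Subgroup.zpowers z) = Nat.card (Abelianization ↥P) := by
      rw [htop, Subgroup.card_top]
    rw [Nat.card_zpowers, hcardE] at h1
    have h2 : orderOf z ∣ p := orderOf_dvd_of_pow_eq_one (hexpE z)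
    have h3 := Nat.le_of_dvd hp.pos h2
    have h4 : p ^ 1 < p ^ 2 := Nat.pow_lt_pow_right hp.one_lt (by norm_num)
    rw [pow_one] at h4
    omega
  obtain ⟨c, Φ, hbij, hadd, -, -, hequiv, -⟩ := exists_coords_comm hexpE hcardE z x hz hx
  refine ⟨fun u => c (Abelianization.of u), Φ.comp ((abHom ↥P).comp P.normalizerMonoidHom),
    ?_, ?_, ?_, ?_⟩
  · intro v
    obtain ⟨a, rfl⟩ := hbij.2 v
    obtain ⟨u, rfl⟩ := QuotientGroup.mk_surjective a
    exact ⟨u, rfl⟩
  · intro u v
    show c (Abelianization.of (u * v)) = _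
    rw [map_mul, hadd]
  · intro u
    show c (Abelianization.of u) = 0 ↔ _
    rw [← coords_one hadd]
    constructor
    · intro h
      have h1 := hbij.1 h
      have h2 : u ∈ (Abelianization.of (G := ↥P)).ker := h1
      rw [Abelianization.ker_of, hE.1.2.2] at h2
      exact h2
    · intro h
      have h2 : u ∈ (Abelianization.of (G := ↥P)).ker := by
        rw [Abelianization.ker_of, hE.1.2.2]; exact h
      rw [MonoidHom.mem_ker] at h2
      rw [h2]
  · intro n u
    show c (Abelianization.of (P.normalizerMonoidHom n u)) = Φ (abHom ↥P (P.normalizerMonoidHom n)) *ᵥ _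
    rw [← abHom_of, hequiv]

end Cfsg.Agent.Lib.Helper51_RVW
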