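import Mathlib
import Cfsg.Agent.Lib.Helper51_RVCore
import Cfsg.Agent.Lib.Helper51_RVW

/-!
Eigen-data of the action of `N_G(P)` on `P / Z(P)` coming from a radical subgroup of order `p²`.
-/

set_option autoImplicit false

namespace Cfsg.Agent.Lib.Helper51_RVEig

open Matrix Cfsg.Agent.Lib.Helper51_RVLin Cfsg.Agent.Lib.Helper51_RVExtra
  Cfsg.Agent.Lib.Helper51_RVCore Cfsg.Agent.Lib.Helper51_RVW

variable {G : Type*} [Group G] {p : ℕ} [Fact p.Prime]

/-- coordinates on `P / Z` and the matrix representation of `N_G(P)` on it -/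
structure WD (P Z : Subgroup G) (cP : ↥P → Fin 2 → ZMod p)
    (ρ : ↥(Subgroup.normalizer (P : Set G)) →* Matrix (Fin 2) (Fin 2) (ZMod p)) : Prop where
  surj : Function.Surjective cP
  add : ∀ u v, cP (u * v) = cP u + cP v
  ker : ∀ u, cP u = 0 ↔ (u : G) ∈ Z
  equiv : ∀ (n : ↥(Subgroup.normalizer (P : Set G))) (u : ↥P),
    cP (P.normalizerMonoidHom n u) = ρ n *ᵥ cP u

theorem exists_WD [Finite G] (P : Subgroup G) (hE : Cfsg.IsExtraspecial p ↥P)
    (hcard : Nat.card P = p ^ 3) (hexp : Monoid.exponent ↥P = p) :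
    ∃ (cP : ↥P → Fin 2 → ZMod p)
      (ρ : ↥(Subgroup.normalizer (P : Set G)) →* Matrix (Fin 2) (Fin 2) (ZMod p)),
      WD P ((Subgroup.center ↥P).map P.subtype) cP ρ := by
  have hexp' : ∀ u : ↥P, u ^ p = 1 := by
    intro u
    have := Monoid.pow_exponent_eq_one u
    rwa [hexp] at this
  obtain ⟨cP, ρ, h1, h2, h3, h4⟩ := exists_W P hE hcard hexp'
  refine ⟨cP, ρ, h1, h2, ?_, h4⟩
  intro u
  rw [h3 u, mem_map_center_iff]

/-- a primitive root modulo `p` -/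
theorem exists_prim_root (p : ℕ) [Fact p.Prime] :
    ∃ a : ZMod p, a ≠ 0 ∧ ∀ k : ℕ, a ^ k = 1 → (p - 1) ∣ k := by
  obtain ⟨u, hu⟩ := IsCyclic.exists_generator (α := (ZMod p)ˣ)
  have h1 : orderOf u = p - 1 := by
    rw [orderOf_eq_card_of_forall_mem_zpowers hu, Nat.card_eq_fintype_card, ZMod.card_units]
  refine ⟨(u : ZMod p), u.ne_zero, ?_⟩
  intro k hk
  rw [← h1]
  apply orderOf_dvd_of_pow_eq_one
  apply Units.ext
  rw [Units.val_pow_eq_pow_val, hk, Units.val_one]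

section

variable [Finite G] {Z : Subgroup G}

/-- the representation has order prime to `p` -/
theorem rho_pow (P : Sylow p G) {cP : ↥(P : Subgroup G) → Fin 2 → ZMod p}
    {ρ : ↥(Subgroup.normalizer ((P : Subgroup G) : Set G)) →* Matrix (Fin 2) (Fin 2) (ZMod p)}
    (W : WD (P : Subgroup G) Z cP ρ) : ∃ m : ℕ, ¬ p ∣ m ∧ ∀ n, ρ n ^ m = 1 := by
  refine ⟨(P : Subgroup G).relIndex (Subgroup.normalizer ((P : Subgroup G) : Set G)), ?_, ?_⟩
  · intro h
    exact P.not_dvd_index (h.trans (Subgroup.relIndex_dvd_index_of_le Subgroup.le_normalizer))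
  · intro n
    have hN : ((P : Subgroup G).subgroupOf
        (Subgroup.normalizer ((P : Subgroup G) : Set G))).Normal := Subgroup.normal_in_normalizer
    have h1 : n ^ ((P : Subgroup G).subgroupOf
        (Subgroup.normalizer ((P : Subgroup G) : Set G))).index ∈ (P : Subgroup G).subgroupOf
        (Subgroup.normalizer ((P : Subgroup G) : Set G)) := Subgroup.pow_index_mem _ n
    rw [← map_pow]
    show ρ (n ^ ((P : Subgroup G).subgroupOf
        (Subgroup.normalizer ((P : Subgroup G) : Set G))).index) = 1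
    set u := n ^ ((P : Subgroup G).subgroupOf
        (Subgroup.normalizer ((P : Subgroup G) : Set G))).index with hu
    have huP : (u : G) ∈ (P : Subgroup G) := Subgroup.mem_subgroupOf.1 h1
    apply Matrix.mulVec_injective
    funext e
    obtain ⟨v, rfl⟩ := W.surj e
    rw [← W.equiv, Matrix.one_mulVec]
    have h2 : (P : Subgroup G).normalizerMonoidHom u v = ⟨u, huP⟩ * v * ⟨u, huP⟩⁻¹ := by
      apply Subtype.ext
      rfl
    rw [h2, W.add, W.add, coords_inv W.add]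
    abel

/-- **Eigen-data.** A radical subgroup `V ∋ x` gives an element of `N_G(P)` whose matrix on
`P / Z` has eigenvector `cP x` with eigenvalue `a⁻¹` and determinant `a`. -/
theorem eigen (P : Sylow p G) (H : ES p (P : Subgroup G) Z)
    {cP : ↥(P : Subgroup G) → Fin 2 → ZMod p}
    {ρ : ↥(Subgroup.normalizer ((P : Subgroup G) : Set G)) →* Matrix (Fin 2) (Fin 2) (ZMod p)}
    (W : WD (P : Subgroup G) Z cP ρ) {V : Subgroup G} (hVP : V ≤ (P : Subgroup G))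
    (hV : Nat.card V = p ^ 2) {z₀ x : G} (hz₀ : z₀ ∈ Z) (hz1 : z₀ ≠ 1) (hxV : x ∈ V) (hxZ : x ∉ Z)
    (g₁ g₂ : G) (hg₁ : g₁ ∈ Subgroup.normalizer (V : Set G))
    (hg₂ : g₂ ∈ Subgroup.normalizer (V : Set G)) (cc : ℕ) (hcc : (cc : ZMod p) ≠ 0)
    (h11 : g₁ * z₀ * g₁⁻¹ = z₀) (h12 : g₁ * x * g₁⁻¹ = z₀ * x)
    (h21 : g₂ * z₀ * g₂⁻¹ = z₀ * x ^ cc) (h22 : g₂ * x * g₂⁻¹ = x)
    (a : ZMod p) (ha : a ≠ 0) :
    ∃ n : ↥(Subgroup.normalizer ((P : Subgroup G) : Set G)),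
      ρ n *ᵥ cP ⟨x, hVP hxV⟩ = a⁻¹ • cP ⟨x, hVP hxV⟩ ∧ (ρ n).det = a := by
  have hz₀V : z₀ ∈ V := H.le_of_card_sq hVP hV hz₀
  have hexpV : ∀ v ∈ V, v ^ p = 1 := fun v hv => H.exp v (hVP hv)
  have hxz : x ∉ Subgroup.zpowers z₀ := by
    intro h
    apply hxZ
    have hle : Subgroup.zpowers z₀ ≤ Z := by
      rw [Subgroup.zpowers_le]; exact hz₀
    exact hle h
  obtain ⟨c, θ, T⟩ := exists_TD V hV hexpV z₀ x hz₀V hxV hz1 hxz
  obtain ⟨n, hn, ⟨i, hnx⟩, hny⟩ := core P H hVP hV T hz₀ hz1 hxZ ⟨g₁, hg₁⟩ ⟨g₂, hg₂⟩ cc hcc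
    h11 h12 h21 h22 a ha
  have hz₀P : z₀ ∈ (P : Subgroup G) := H.le hz₀
  have hcz : cP ⟨z₀, hz₀P⟩ = 0 := (W.ker _).2 hz₀
  set xP : ↥(P : Subgroup G) := ⟨x, hVP hxV⟩ with hxP
  have hw0 : cP xP ≠ 0 := fun h => hxZ ((W.ker _).1 h)
  refine ⟨⟨n, hn⟩, ?_, ?_⟩
  · rw [← W.equiv]
    have h2 : (P : Subgroup G).normalizerMonoidHom ⟨n, hn⟩ xP
        = ⟨z₀, hz₀P⟩ ^ i * xP ^ (a⁻¹).val := by
      apply Subtype.ext
      exact hnx
    rw [h2, W.add, coords_pow W.add, coords_pow W.add, hcz, smul_zero, zero_add,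
      ZMod.natCast_zmod_val]
  · obtain ⟨w', hd⟩ := exists_indep (cP xP) hw0
    obtain ⟨y, rfl⟩ := W.surj w'
    obtain ⟨i', l, hy⟩ := hny y y.2
    have h1 : ρ ⟨n, hn⟩ *ᵥ cP xP = a⁻¹ • cP xP := by
      rw [← W.equiv]
      have h2 : (P : Subgroup G).normalizerMonoidHom ⟨n, hn⟩ xP
          = ⟨z₀, hz₀P⟩ ^ i * xP ^ (a⁻¹).val := by
        apply Subtype.ext
        exact hnx
      rw [h2, W.add, coords_pow W.add, coords_pow W.add, hcz, smul_zero, zero_add,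
        ZMod.natCast_zmod_val]
    have h2 : ρ ⟨n, hn⟩ *ᵥ cP y = (a ^ 2) • cP y + (l : ZMod p) • cP xP := by
      rw [← W.equiv]
      have h3 : (P : Subgroup G).normalizerMonoidHom ⟨n, hn⟩ y
          = ⟨z₀, hz₀P⟩ ^ i' * xP ^ l * y ^ (a ^ 2).val := by
        apply Subtype.ext
        exact hy
      rw [h3, W.add, W.add, coords_pow W.add, coords_pow W.add, coords_pow W.add, hcz, smul_zero,
        zero_add, ZMod.natCast_zmod_val, add_comm]
    rw [det_of_eig _ _ _ _ _ _ hd h1 h2]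
    field_simp

end

end Cfsg.Agent.Lib.Helper51_RVEig
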