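import Mathlib

/-!
A purely group-theoretic lemma used for the case `p = 13` of the Ruiz–Viruel bound: a group of
order `24`, `48` or `120` with centralisers of "non-scalar" elements of order `4, 6, 8, 10` cannot
contain seven elements of order `8` no three of which commute pairwise.
-/

set_option autoImplicit false

namespace Cfsg.Agent.Lib.Helper51_RVGrp

open Subgroup

variable {Γ : Type*} [Group Γ]

theorem card_mul_relIndex' {H K : Subgroup Γ} (h : H ≤ K) :
    Nat.card H * H.relIndex K = Nat.card K := by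
  have := Subgroup.relIndex_mul_relIndex ⊥ H K bot_le h
  rwa [Subgroup.relIndex_bot_left, Subgroup.relIndex_bot_left] at this

theorem mul_self_mem_of_relIndex_le_two' {A M : Subgroup Γ} [Finite M]
    (h : A.relIndex M ≤ 2) {x : Γ} (hx : x ∈ M) : x * x ∈ A := by
  have h0 : A.relIndex M ≠ 0 := by
    unfold Subgroup.relIndex
    exact Subgroup.index_ne_zero_of_finite
  have h12 : A.relIndex M = 1 ∨ A.relIndex M = 2 := by omega
  rcases h12 with h1 | h1
  · rw [Subgroup.relIndex_eq_one] at h1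
    exact h1 (M.mul_mem hx hx)
  · have := Subgroup.mul_self_mem_of_index_two (H := A.subgroupOf M) h1 ⟨x, hx⟩
    rw [Subgroup.mem_subgroupOf] at this
    exact this

/-- Sylow `2`-subgroup data of a group of order `2^k * odd` -/
theorem sylow_two_data [Finite Γ] (P : Sylow 2 Γ) {k r : ℕ} (hr : ¬ 2 ∣ r)
    (hcard : Nat.card Γ = 2 ^ k * r) : Nat.card P = 2 ^ k ∧ (P : Subgroup Γ).index = r := by
  have : Fact (Nat.Prime 2) := ⟨Nat.prime_two⟩
  obtain ⟨j, hj⟩ := P.2.exists_card_eq
  have hidx : Nat.card P * (P : Subgroup Γ).index = Nat.card Γ := Subgroup.card_mul_index _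
  have hodd : ¬ 2 ∣ (P : Subgroup Γ).index := P.not_dvd_index
  rw [hj, hcard] at hidx
  have hr0 : r ≠ 0 := by rintro rfl; exact hr (dvd_zero 2)
  have hi0 : (P : Subgroup Γ).index ≠ 0 := by
    intro h0; exact hodd (h0 ▸ dvd_zero 2)
  have hjk : j = k := by
    have h1 : (2 ^ j * (P : Subgroup Γ).index).factorization 2 = (2 ^ k * r).factorization 2 := by
      rw [hidx]
    rw [Nat.factorization_mul (by positivity) hi0, Nat.factorization_mul (by positivity) hr0,
      Finsupp.add_apply, Finsupp.add_apply, Nat.Prime.factorization_pow Nat.prime_two,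
      Nat.Prime.factorization_pow Nat.prime_two, Nat.factorization_eq_zero_of_not_dvd hodd,
      Nat.factorization_eq_zero_of_not_dvd hr] at h1
    simpa using h1
  subst hjk
  refine ⟨hj, ?_⟩
  exact Nat.eq_of_mul_eq_mul_left (by positivity) hidx


/-- the size of a conjugacy class inside a normal subgroup -/
theorem index_centralizer_le_card [Finite Γ] (L : Subgroup Γ) [L.Normal] {y : Γ} (hy : y ∈ L) :
    (Subgroup.centralizer ({y} : Set Γ)).index ≤ Nat.card L := by
  have h1 : (Subgroup.centralizer ({y} : Set Γ)).index =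
      (MulAction.stabilizer (ConjAct Γ) y).index := by
    rw [Subgroup.centralizer_eq_comap_stabilizer]
    exact Subgroup.index_comap_of_surjective _ (ConjAct.toConjAct (G := Γ)).surjective
  rw [h1, MulAction.index_stabilizer, ← Nat.card_coe_set_eq]
  apply Nat.card_mono (Set.toFinite _)
  intro h hh
  rw [ConjAct.mem_orbit_conjAct, isConj_comm, isConj_iff] at hh
  obtain ⟨c, rfl⟩ := hh
  exact ‹L.Normal›.conj_mem y hy c

/-- pigeonhole: seven elements of order `8`, at most three Sylow `2`-subgroups, of order at most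
`16`: three of the elements commute pairwise. -/
theorem exists_three_commuting [Finite Γ] (hS : ∀ P : Sylow 2 Γ, Nat.card P ≤ 16)
    (hn : Nat.card (Sylow 2 Γ) ≤ 3) (g : Fin 7 → Γ) (hg8 : ∀ i, orderOf (g i) = 8)
    (htrans : ∀ i (y : Γ), Commute (g i * g i) y → Commute (g i) y) :
    ∃ i j k, i ≠ j ∧ i ≠ k ∧ j ≠ k ∧ Commute (g i) (g j) ∧ Commute (g i) (g k) ∧
      Commute (g j) (g k) := by
  classical
  have : Fact (Nat.Prime 2) := ⟨Nat.prime_two⟩
  have hpg : ∀ i, IsPGroup 2 (zpowers (g i)) := fun i =>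
    IsPGroup.of_card (n := 3) (by rw [Nat.card_zpowers, hg8]; norm_num)
  choose S hS' using fun i => (hpg i).exists_le_sylow
  have : Fintype (Sylow 2 Γ) := Fintype.ofFinite _
  have hlt : Fintype.card (Sylow 2 Γ) * 2 < Fintype.card (Fin 7) := by
    rw [← Nat.card_eq_fintype_card, Fintype.card_fin]
    omega
  obtain ⟨Q, hQ⟩ := Fintype.exists_lt_card_fiber_of_mul_lt_card S hlt
  obtain ⟨i, j, k, hi, hj, hk, hij, hik, hjk⟩ := Finset.two_lt_card_iff.1 hQ
  simp only [Finset.mem_filter, Finset.mem_univ, true_and] at hi hj hk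
  have key : ∀ i j, S i = Q → S j = Q → Commute (g i) (g j) := by
    intro i j hi hj
    apply htrans
    have hgi : g i ∈ (Q : Subgroup Γ) := by
      rw [← hi]
      exact hS' i (mem_zpowers (g i))
    have hle : zpowers (g j) ≤ (Q : Subgroup Γ) := by
      rw [← hj]
      exact hS' j
    have h1 := card_mul_relIndex' hle
    rw [Nat.card_zpowers, hg8] at h1
    have h2 := hS Q
    have h3 : (zpowers (g j)).relIndex (Q : Subgroup Γ) ≤ 2 := by
      by_contra hcon
      push Not at hcon
      have : 8 * 3 ≤ 8 * (zpowers (g j)).relIndex (Q : Subgroup Γ) := Nat.mul_le_mul_left 8 hcon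
      omega
    have h4 := mul_self_mem_of_relIndex_le_two' h3 hgi
    obtain ⟨t, ht⟩ := mem_zpowers_iff.1 h4
    rw [← ht]
    exact (Commute.refl (g j)).zpow_left t
  exact ⟨i, j, k, hij, hik, hjk, key i j hi hj, key i k hi hk, key j k hj hk⟩

/-- a cyclic Sylow `2`-subgroup of order `8` in a group of order `24` or `120` with small
centralisers is impossible -/
theorem false_of_cyclic [Finite Γ] {r : ℕ} (hcard : Nat.card Γ = 2 ^ 3 * r) (hr : r = 3 ∨ r = 15)
    (x : Γ) (hx : orderOf x = 8) (Zc : Set Γ)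
    (hcent : ∀ y : Γ, y ∉ Zc →
      (Nat.card (Subgroup.centralizer ({y} : Set Γ)) = 4 ∨
       Nat.card (Subgroup.centralizer ({y} : Set Γ)) = 6 ∨
       Nat.card (Subgroup.centralizer ({y} : Set Γ)) = 8 ∨
       Nat.card (Subgroup.centralizer ({y} : Set Γ)) = 10))
    (h3 : ∀ y : Γ, orderOf y = 3 → y ∉ Zc) : False := by
  have : Fact (Nat.Prime 2) := ⟨Nat.prime_two⟩
  have : Fact (Nat.Prime 3) := ⟨Nat.prime_three⟩
  have hpg : IsPGroup 2 (zpowers x) :=
    IsPGroup.of_card (n := 3) (by rw [Nat.card_zpowers, hx]; norm_num)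
  obtain ⟨P, hP⟩ := hpg.exists_le_sylow
  have hr2 : ¬ 2 ∣ r := by rcases hr with rfl | rfl <;> omega
  obtain ⟨hP8, -⟩ := sylow_two_data P hr2 hcard
  have hxP : x ∈ (P : Subgroup Γ) := hP (mem_zpowers x)
  have hcyc : IsCyclic P := by
    apply isCyclic_of_orderOf_eq_card (⟨x, hxP⟩ : (P : Subgroup Γ))
    rw [Subgroup.orderOf_mk, hx, hP8]
    norm_num
  have hmin : (Nat.card Γ).minFac = 2 := by
    rw [Nat.minFac_eq_two_iff, hcard]
    exact Dvd.dvd.mul_right (by norm_num) r
  have hc := IsCyclic.isComplement' hmin hcyc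
  set L := (MonoidHom.transferSylow P (hcyc.normalizer_le_centralizer hmin)).ker with hL
  have hLcard : Nat.card L = r := by
    have := hc.card_mul_card
    rw [hP8, hcard, mul_comm] at this
    exact Nat.eq_of_mul_eq_mul_left (by norm_num) this
  have h3r : 3 ∣ Nat.card L := by
    rw [hLcard]
    rcases hr with rfl | rfl <;> norm_num
  obtain ⟨y, hy⟩ := exists_prime_orderOf_dvd_card' 3 h3r
  have hy3 : orderOf (y : Γ) = 3 := by rw [Subgroup.orderOf_coe, hy]
  have hyL : (y : Γ) ∈ L := y.2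
  have hcy := hcent (y : Γ) (h3 _ hy3)
  have hdvd : 3 ∣ Nat.card (Subgroup.centralizer ({(y : Γ)} : Set Γ)) := by
    have hmem : (y : Γ) ∈ Subgroup.centralizer ({(y : Γ)} : Set Γ) :=
      Subgroup.mem_centralizer_singleton_iff.2 rfl
    have := orderOf_dvd_natCard (⟨(y : Γ), hmem⟩ : Subgroup.centralizer ({(y : Γ)} : Set Γ))
    rwa [Subgroup.orderOf_mk, hy3] at this
  have h6 : Nat.card (Subgroup.centralizer ({(y : Γ)} : Set Γ)) = 6 := by
    rcases hcy with h | h | h | h <;> rw [h] at hdvd <;> omega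
  have hidx := Subgroup.card_mul_index (Subgroup.centralizer ({(y : Γ)} : Set Γ))
  rw [h6, hcard] at hidx
  have hle := index_centralizer_le_card L hyL
  rw [hLcard] at hle
  rcases hr with rfl | rfl <;> omega


/-- **The group-theoretic core of the case `p = 13`.** -/
theorem abstract13 [Finite Γ]
    (hcard : Nat.card Γ = 24 ∨ Nat.card Γ = 48 ∨ Nat.card Γ = 120) (Zc : Set Γ)
    (hcent : ∀ y : Γ, y ∉ Zc →
      (Nat.card (Subgroup.centralizer ({y} : Set Γ)) = 4 ∨
       Nat.card (Subgroup.centralizer ({y} : Set Γ)) = 6 ∨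
       Nat.card (Subgroup.centralizer ({y} : Set Γ)) = 8 ∨
       Nat.card (Subgroup.centralizer ({y} : Set Γ)) = 10))
    (h3 : ∀ y : Γ, orderOf y = 3 → y ∉ Zc)
    (g : Fin 7 → Γ) (hg8 : ∀ i, orderOf (g i) = 8)
    (htrans : ∀ i (y : Γ), Commute (g i * g i) y → Commute (g i) y)
    (hnc : ∀ i j k, i ≠ j → i ≠ k → j ≠ k →
      ¬ (Commute (g i) (g j) ∧ Commute (g i) (g k) ∧ Commute (g j) (g k))) : False := by
  have : Fact (Nat.Prime 2) := ⟨Nat.prime_two⟩
  have pig : ∀ k : ℕ, k ≤ 4 → Nat.card Γ = 2 ^ k * 3 → False := by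
    intro k hk hc
    have hS : ∀ P : Sylow 2 Γ, Nat.card P ≤ 16 := by
      intro P
      rw [(sylow_two_data P (by norm_num) hc).1]
      calc 2 ^ k ≤ 2 ^ 4 := Nat.pow_le_pow_right (by norm_num) hk
        _ = 16 := by norm_num
    have hn : Nat.card (Sylow 2 Γ) ≤ 3 := by
      obtain ⟨P⟩ : Nonempty (Sylow 2 Γ) := inferInstance
      have h1 := P.card_dvd_index
      rw [(sylow_two_data P (by norm_num) hc).2] at h1
      exact Nat.le_of_dvd (by norm_num) h1
    obtain ⟨i, j, k, hij, hik, hjk, c1, c2, c3⟩ := exists_three_commuting hS hn g hg8 htrans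
    exact hnc i j k hij hik hjk ⟨c1, c2, c3⟩
  rcases hcard with h | h | h
  · exact pig 3 (by norm_num) (by rw [h]; norm_num)
  · exact pig 4 (by norm_num) (by rw [h]; norm_num)
  · exact false_of_cyclic (r := 15) (by rw [h]; norm_num) (Or.inr rfl) (g 0) (hg8 0) Zc hcent h3

end Cfsg.Agent.Lib.Helper51_RVGrp
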