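import Mathlib
import Cfsg.Agent.Lib.Helper51_SL2PrimeSub
import Cfsg.Agent.Lib.Helper51_RVGrp

/-!
Matrix part of the Ruiz–Viruel bounds: a `p'`-group of `2 × 2` matrices over `ZMod p` that contains,
for three (resp. all) lines `ℓ`, an element with eigenvalue `a⁻¹` on `ℓ` and determinant `a`
(`a` a primitive root) forces `p ≤ 13` (resp. `p ≤ 7`).
-/

set_option autoImplicit false

namespace Cfsg.Agent.Lib.Helper51_RVMat

open Matrix Cfsg.Agent.Lib.Helper50_SL2Mat
open scoped MatrixGroups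

variable {K : Type*} [Field K]

/-- `u` is an eigenvector of `g` for the eigenvalue `l` -/
def IsEig (g : SL(2, K)) (u : Fin 2 → K) (l : K) : Prop :=
  (g : Matrix (Fin 2) (Fin 2) K) *ᵥ u = l • u

theorem isEig_iff (g : SL(2, K)) (u : Fin 2 → K) (l : K) :
    IsEig g u l ↔ g 0 0 * u 0 + g 0 1 * u 1 = l * u 0 ∧ g 1 0 * u 0 + g 1 1 * u 1 = l * u 1 := by
  unfold IsEig
  constructor
  · intro h
    have h0 := congrFun h 0
    have h1 := congrFun h 1
    simp only [Matrix.mulVec, dotProduct, Fin.sum_univ_two, Pi.smul_apply, smul_eq_mul] at h0 h1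
    exact ⟨h0, h1⟩
  · rintro ⟨h0, h1⟩
    funext i
    fin_cases i
    · simpa [Matrix.mulVec, dotProduct, Fin.sum_univ_two] using h0
    · simpa [Matrix.mulVec, dotProduct, Fin.sum_univ_two] using h1

theorem IsEig.pow {g : SL(2, K)} {u : Fin 2 → K} {l : K} (h : IsEig g u l) (k : ℕ) :
    IsEig (g ^ k) u (l ^ k) := by
  induction k with
  | zero => unfold IsEig; simp
  | succ k ih =>
    unfold IsEig at *
    rw [pow_succ, Matrix.SpecialLinearGroup.coe_mul, ← Matrix.mulVec_mulVec, h, Matrix.mulVec_smul, ih,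
      smul_smul, pow_succ, mul_comm]

theorem IsEig.eq_one_of_eq_one {g : SL(2, K)} {u : Fin 2 → K} {l : K} (h : IsEig g u l)
    (hu : u ≠ 0) (hg : g = 1) : l = 1 := by
  subst hg
  unfold IsEig at h
  rw [Matrix.SpecialLinearGroup.coe_one, Matrix.one_mulVec] at h
  by_contra hl
  apply hu
  have : (1 - l) • u = 0 := by rw [sub_smul, one_smul, ← h, sub_self]
  rcases smul_eq_zero.1 this with h1 | h1
  · exact absurd (sub_eq_zero.1 h1).symm hl
  · exact h1

/-- two independent eigenvectors for the same eigenvalue: scalar -/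
theorem isScalar_of_two_eig {g : SL(2, K)} {u v : Fin 2 → K} {l : K} (hu : IsEig g u l)
    (hv : IsEig g v l) (hD : u 0 * v 1 - u 1 * v 0 ≠ 0) : IsScalar g := by
  rw [isEig_iff] at hu hv
  obtain ⟨a1, a2⟩ := hu
  obtain ⟨b1, b2⟩ := hv
  have h01 : g 0 1 * (u 0 * v 1 - u 1 * v 0) = 0 := by linear_combination u 0 * b1 - v 0 * a1
  have h10 : g 1 0 * (u 0 * v 1 - u 1 * v 0) = 0 := by linear_combination v 1 * a2 - u 1 * b2
  have h00 : (g 0 0 - l) * (u 0 * v 1 - u 1 * v 0) = 0 := by linear_combination v 1 * a1 - u 1 * b1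
  have h11 : (g 1 1 - l) * (u 0 * v 1 - u 1 * v 0) = 0 := by linear_combination u 0 * b2 - v 0 * a2
  refine ⟨(mul_eq_zero.1 h01).resolve_right hD, (mul_eq_zero.1 h10).resolve_right hD, ?_⟩
  have e1 := (mul_eq_zero.1 h00).resolve_right hD
  have e2 := (mul_eq_zero.1 h11).resolve_right hD
  linear_combination e1 - e2

/-- the trace in terms of an eigenvalue -/
theorem IsEig.mul_tr {g : SL(2, K)} {u : Fin 2 → K} {l : K} (h : IsEig g u l) (hu : u ≠ 0) :
    l * tr g = l * l + 1 := by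
  rw [isEig_iff] at h
  obtain ⟨a1, a2⟩ := h
  have hd := det1 g
  unfold tr
  have key0 : (l * (g 0 0 + g 1 1) - (l * l + 1)) * u 0 = 0 := by
    linear_combination (l - g 1 1) * a1 + g 0 1 * a2 + u 0 * hd
  have key1 : (l * (g 0 0 + g 1 1) - (l * l + 1)) * u 1 = 0 := by
    linear_combination g 1 0 * a1 + (l - g 0 0) * a2 + u 1 * hd
  by_contra hne
  apply hu
  have hne' : l * (g 0 0 + g 1 1) - (l * l + 1) ≠ 0 := fun h0 => hne (sub_eq_zero.1 h0)
  funext i
  fin_cases i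
  · exact (mul_eq_zero.1 key0).resolve_left hne'
  · exact (mul_eq_zero.1 key1).resolve_left hne'


section grp

variable {p : ℕ} [Fact p.Prime] {Γ : Type*} [Group Γ]
  (ι : ZMod p →+* K) (ρ : Γ →* Matrix (Fin 2) (Fin 2) (ZMod p))

/-- the group of determinant-one scalar multiples of the matrices `ρ n` -/
def Mgrp : Subgroup SL(2, K) where
  carrier := {g | ∃ n : Γ, ∃ c : K, (g : Matrix (Fin 2) (Fin 2) K) = c • ι.mapMatrix (ρ n)}
  mul_mem' := by
    rintro g h ⟨n, c, hg⟩ ⟨n', c', hh⟩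
    refine ⟨n * n', c * c', ?_⟩
    rw [Matrix.SpecialLinearGroup.coe_mul, hg, hh, map_mul, map_mul, Matrix.smul_mul,
      Matrix.mul_smul, smul_smul]
  one_mem' := ⟨1, 1, by simp⟩
  inv_mem' := by
    rintro g ⟨n, c, hg⟩
    have hdet : (g : Matrix (Fin 2) (Fin 2) K).det = 1 := g.2
    have hc : c ≠ 0 := by
      rintro rfl
      rw [hg, zero_smul, Matrix.det_zero] at hdet
      exact zero_ne_one hdet
    refine ⟨n⁻¹, c⁻¹, ?_⟩
    have h1 : (c⁻¹ • ι.mapMatrix (ρ n⁻¹)) * (g : Matrix (Fin 2) (Fin 2) K) = 1 := by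
      rw [hg, Matrix.smul_mul, Matrix.mul_smul, smul_smul, inv_mul_cancel₀ hc, one_smul, ← map_mul,
        ← map_mul, inv_mul_cancel, map_one, map_one]
    have h2 : (g : Matrix (Fin 2) (Fin 2) K) * ((g⁻¹ : SL(2, K)) : Matrix (Fin 2) (Fin 2) K) = 1 := by
      rw [← Matrix.SpecialLinearGroup.coe_mul, mul_inv_cancel, Matrix.SpecialLinearGroup.coe_one]
    calc ((g⁻¹ : SL(2, K)) : Matrix (Fin 2) (Fin 2) K)
        = ((c⁻¹ • ι.mapMatrix (ρ n⁻¹)) * (g : Matrix (Fin 2) (Fin 2) K)) *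
            ((g⁻¹ : SL(2, K)) : Matrix (Fin 2) (Fin 2) K) := by rw [h1, one_mul]
      _ = c⁻¹ • ι.mapMatrix (ρ n⁻¹) := by rw [mul_assoc, h2, mul_one]

theorem mem_Mgrp {g : SL(2, K)} : g ∈ Mgrp ι ρ ↔
    ∃ n : Γ, ∃ c : K, (g : Matrix (Fin 2) (Fin 2) K) = c • ι.mapMatrix (ρ n) := Iff.rfl

/-- every element of `Mgrp` has order dividing `2 m` -/
theorem pow_eq_one_of_mem {m : ℕ} (hρm : ∀ n, ρ n ^ m = 1) {g : SL(2, K)}
    (hg : g ∈ Mgrp ι ρ) : g ^ (2 * m) = 1 := by
  obtain ⟨n, c, hg⟩ := hg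
  have hpow : ((g ^ m : SL(2, K)) : Matrix (Fin 2) (Fin 2) K) = (c ^ m) • 1 := by
    rw [Matrix.SpecialLinearGroup.coe_pow, hg, smul_pow, ← map_pow, hρm, map_one]
  have hdet : ((g ^ m : SL(2, K)) : Matrix (Fin 2) (Fin 2) K).det = 1 := (g ^ m).2
  rw [hpow, Matrix.det_smul, Matrix.det_one, mul_one, Fintype.card_fin] at hdet
  apply Subtype.ext
  rw [mul_comm, pow_mul, Matrix.SpecialLinearGroup.coe_pow, hpow, smul_pow, one_pow, hdet, one_smul,
    Matrix.SpecialLinearGroup.coe_one]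

/-- `p ∤ |Mgrp|` -/
theorem not_dvd_card_Mgrp [Finite K] (hp2 : p ≠ 2) {m : ℕ} (hm : ¬ p ∣ m)
    (hρm : ∀ n, ρ n ^ m = 1) : ¬ p ∣ Nat.card (Mgrp ι ρ) := by
  intro hdvd
  obtain ⟨x, hx⟩ := exists_prime_orderOf_dvd_card' p hdvd
  have h1 : (x : SL(2, K)) ^ (2 * m) = 1 := pow_eq_one_of_mem ι ρ hρm x.2
  have h3 : x ^ (2 * m) = 1 := Subtype.ext (by rw [Subgroup.coe_pow, h1, Subgroup.coe_one])
  have h4 := orderOf_dvd_of_pow_eq_one h3
  rw [hx] at h4
  have hp : p.Prime := Fact.out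
  rcases (Nat.Prime.dvd_mul hp).1 h4 with h | h
  · exact hp2 ((Nat.prime_dvd_prime_iff_eq hp Nat.prime_two).1 h)
  · exact hm h


/-- the normalised element `s⁻¹ • ρ n` of `SL(2,K)` -/
noncomputable def gel (s : K) (n : Γ) (h : s ^ 2 = ι (ρ n).det) (hs : s ≠ 0) : SL(2, K) :=
  ⟨s⁻¹ • ι.mapMatrix (ρ n), by
    rw [Matrix.det_smul, Fintype.card_fin, ← RingHom.map_det, ← h, inv_pow, inv_mul_cancel₀ (pow_ne_zero 2 hs)]⟩

theorem gel_mem (s : K) (n : Γ) (h : s ^ 2 = ι (ρ n).det) (hs : s ≠ 0) :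
    gel ι ρ s n h hs ∈ Mgrp ι ρ := ⟨n, s⁻¹, rfl⟩

theorem gel_isEig (s : K) (n : Γ) (h : s ^ 2 = ι (ρ n).det) (hs : s ≠ 0) (w : Fin 2 → ZMod p)
    (μ : ZMod p) (hw : ρ n *ᵥ w = μ • w) : IsEig (gel ι ρ s n h hs) (ι ∘ w) (s⁻¹ * ι μ) := by
  unfold IsEig gel
  funext i
  have h1 := RingHom.map_mulVec ι (ρ n) w i
  rw [hw] at h1
  simp only [Pi.smul_apply, smul_eq_mul, map_mul] at h1
  show ((s⁻¹ • ι.mapMatrix (ρ n)) *ᵥ (ι ∘ w)) i = ((s⁻¹ * ι μ) • (ι ∘ w)) i
  rw [Matrix.smul_mulVec, Pi.smul_apply, Pi.smul_apply, smul_eq_mul, smul_eq_mul, RingHom.mapMatrix_apply,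
    ← h1, Function.comp_apply, mul_assoc]

end grp


section order

variable {p : ℕ} [Fact p.Prime] (ι : ZMod p →+* K)

/-- a square root of a primitive root has order `2 (p - 1)` -/
theorem dvd_of_sqrt_pow_eq_one (hp2 : p ≠ 2) {a : ZMod p} (ha0 : a ≠ 0)
    (ha : ∀ k : ℕ, a ^ k = 1 → (p - 1) ∣ k) {s : K} (hs : s ^ 2 = ι a) {j : ℕ} (hj : s ^ j = 1) :
    2 * (p - 1) ∣ j := by
  have hp : p.Prime := Fact.out
  have hinj : Function.Injective ι := RingHom.injective ι
  have h2K : (-1 : K) ≠ 1 := by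
    intro h
    have h3 : ι (2 : ZMod p) = 0 := by
      rw [map_ofNat]
      linear_combination -h
    have h4 : (2 : ZMod p) = 0 := hinj (by rw [h3, map_zero])
    have h5 : ((2 : ℕ) : ZMod p) = 0 := by exact_mod_cast h4
    rw [ZMod.natCast_eq_zero_iff] at h5
    exact hp2 ((Nat.prime_dvd_prime_iff_eq hp Nat.prime_two).1 h5)
  have key : ∀ i : ℕ, s ^ (2 * i) = 1 → (p - 1) ∣ i := by
    intro i hi
    apply ha
    apply hinj
    rw [map_pow, ← hs, ← pow_mul, hi, map_one]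
  have h1 : (p - 1) ∣ j := by
    have := key j (by rw [mul_comm, pow_mul, hj, one_pow])
    exact this
  obtain ⟨j', rfl⟩ := h1
  have hodd : Odd p := hp.odd_of_ne_two hp2
  obtain ⟨h, hh⟩ := hodd
  have hp1 : p - 1 = 2 * h := by omega
  have hh0 : 0 < h := by
    have := hp.two_le
    omega
  set e := s ^ (p - 1) with he
  have he2 : e * e = 1 := by
    rw [he, ← pow_add, ← two_mul, pow_mul, hs, ← map_pow, ZMod.pow_card_sub_one_eq_one ha0, map_one]
  have he1 : e ≠ 1 := by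
    intro h1
    rw [he, hp1] at h1
    have := key h h1
    rw [hp1] at this
    have := Nat.le_of_dvd hh0 this
    omega
  have hem : e = -1 := by
    have : (e - 1) * (e + 1) = 0 := by linear_combination he2
    rcases mul_eq_zero.1 this with h | h
    · exact absurd (sub_eq_zero.1 h) he1
    · linear_combination h
  rw [pow_mul, ← he, hem] at hj
  have hev : Even j' := by
    by_contra hne
    rw [Nat.not_even_iff_odd] at hne
    rw [hne.neg_one_pow] at hj
    exact h2K hj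
  obtain ⟨t, rfl⟩ := hev
  exact ⟨t, by ring⟩

end order


theorem mul_self_mem_of_relIndex_le_two {G : Type*} [Group G] {A M : Subgroup G} [Finite M]
    (h : A.relIndex M ≤ 2) {x : G} (hx : x ∈ M) : x * x ∈ A := by
  have h0 : A.relIndex M ≠ 0 := by
    unfold Subgroup.relIndex
    exact Subgroup.index_ne_zero_of_finite
  have h12 : A.relIndex M = 1 ∨ A.relIndex M = 2 := by omega
  rcases h12 with h1 | h1
  · rw [Subgroup.relIndex_eq_one] at h1
    exact h1 (M.mul_mem hx hx)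
  · have := Subgroup.mul_self_mem_of_index_two (H := A.subgroupOf M) h1 ⟨x, hx⟩
    rw [Subgroup.mem_subgroupOf] at this
    exact this

theorem negOne_mul_self : (negOne : SL(2, K)) * negOne = 1 := by
  apply ext4 <;> simp [mul00, mul01, mul10, mul11, negOne]

section main

variable {p : ℕ} [Fact p.Prime] (ι : ZMod p →+* K)

/-- the eigenvalue `s⁻³` -/
def lam (a : ZMod p) (s : K) : K := s⁻¹ * ι a⁻¹

/-- the common hypotheses -/
structure Hyp (a : ZMod p) (s : K) : Prop where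
  hp11 : 11 ≤ p
  ha0 : a ≠ 0
  ha : ∀ k : ℕ, a ^ k = 1 → (p - 1) ∣ k
  hs : s ^ 2 = ι a

variable {ι} {a : ZMod p} {s : K}

theorem Hyp.p_ne_two (H : Hyp ι a s) : p ≠ 2 := by
  have := H.hp11
  omega

theorem Hyp.two_ne_zero (H : Hyp ι a s) : (2 : K) ≠ 0 := by
  have hp : p.Prime := Fact.out
  have hinj : Function.Injective ι := RingHom.injective ι
  intro h
  have h3 : ι (2 : ZMod p) = 0 := by rw [map_ofNat]; exact h
  have h4 : (2 : ZMod p) = 0 := hinj (by rw [h3, map_zero])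
  have h5 : ((2 : ℕ) : ZMod p) = 0 := by exact_mod_cast h4
  rw [ZMod.natCast_eq_zero_iff] at h5
  exact H.p_ne_two ((Nat.prime_dvd_prime_iff_eq hp Nat.prime_two).1 h5)

theorem Hyp.s_ne_zero (H : Hyp ι a s) : s ≠ 0 := by
  have hinj : Function.Injective ι := RingHom.injective ι
  rintro rfl
  have hs := H.hs
  rw [zero_pow (by norm_num)] at hs
  exact H.ha0 (hinj (by rw [← hs, map_zero]))

theorem Hyp.lam_mul (H : Hyp ι a s) : lam ι a s * s ^ 3 = 1 := by
  have hs0 := H.s_ne_zero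
  unfold lam
  rw [map_inv₀, ← H.hs]
  field_simp

theorem Hyp.lam_ne_zero (H : Hyp ι a s) : lam ι a s ≠ 0 := by
  intro h
  have := H.lam_mul
  rw [h, zero_mul] at this
  exact zero_ne_one this

theorem Hyp.dvd_of_lam_pow (H : Hyp ι a s) {k : ℕ} (hk : lam ι a s ^ k = 1) :
    2 * (p - 1) ∣ 3 * k := by
  apply dvd_of_sqrt_pow_eq_one ι H.p_ne_two H.ha0 H.ha H.hs
  have : (lam ι a s * s ^ 3) ^ k = 1 := by rw [H.lam_mul, one_pow]
  rw [mul_pow, hk, one_mul, ← pow_mul] at this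
  exact this

theorem Hyp.pow_dvd (H : Hyp ι a s) {g : SL(2, K)} {u : Fin 2 → K} (hE : IsEig g u (lam ι a s))
    (hu : u ≠ 0) {k : ℕ} (hk : g ^ k = 1) : 2 * (p - 1) ∣ 3 * k :=
  H.dvd_of_lam_pow ((hE.pow k).eq_one_of_eq_one hu hk)

theorem Hyp.not_isScalar (H : Hyp ι a s) {g : SL(2, K)} {u : Fin 2 → K}
    (hE : IsEig g u (lam ι a s)) (hu : u ≠ 0) : ¬ IsScalar g := by
  intro hsc
  have h1 : g ^ 2 = 1 := by
    rcases hsc.eq_one_or with h | h
    · rw [h, one_pow]
    · rw [h, pow_two, negOne_mul_self]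
  have := Nat.le_of_dvd (by norm_num) (H.pow_dvd hE hu h1)
  have := H.hp11
  omega

theorem Hyp.not_isScalar_sq (H : Hyp ι a s) {g : SL(2, K)} {u : Fin 2 → K}
    (hE : IsEig g u (lam ι a s)) (hu : u ≠ 0) : ¬ IsScalar (g * g) := by
  intro hsc
  have h1 : g ^ 4 = 1 := by
    have e : g ^ 4 = (g * g) ^ 2 := by rw [← pow_two, ← pow_mul]
    rw [e]
    rcases hsc.eq_one_or with h | h
    · rw [h, one_pow]
    · rw [h, pow_two, negOne_mul_self]
  have := Nat.le_of_dvd (by norm_num) (H.pow_dvd hE hu h1)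
  have := H.hp11
  omega

theorem Hyp.tr_eq (H : Hyp ι a s) {g : SL(2, K)} {u : Fin 2 → K}
    (hE : IsEig g u (lam ι a s)) (hu : u ≠ 0) :
    tr g = (lam ι a s * lam ι a s + 1) / lam ι a s := by
  rw [eq_div_iff H.lam_ne_zero, mul_comm]
  exact hE.mul_tr hu

theorem Hyp.tr_sq_ne (H : Hyp ι a s) {g : SL(2, K)} {u : Fin 2 → K}
    (hE : IsEig g u (lam ι a s)) (hu : u ≠ 0) : tr g * tr g ≠ 4 := by
  intro h
  set l := lam ι a s with hl
  have h1 := hE.mul_tr hu
  have h2 : (l * l - 1) * (l * l - 1) = 0 := by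
    have : (l * tr g) * (l * tr g) = 4 * (l * l) := by linear_combination (l * l) * h
    rw [h1] at this
    linear_combination this
  have h3 : l ^ 2 = 1 := by
    have := mul_self_eq_zero.1 h2
    linear_combination this
  have := Nat.le_of_dvd (by norm_num) (H.dvd_of_lam_pow h3)
  have := H.hp11
  omega

theorem Hyp.eq_or_eq_inv (H : Hyp ι a s) {g g' : SL(2, K)} {u u' : Fin 2 → K}
    (hE : IsEig g u (lam ι a s)) (hu : u ≠ 0) (hE' : IsEig g' u' (lam ι a s)) (hu' : u' ≠ 0)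
    (hc : Commute g g') : g' = g ∨ g' = g⁻¹ :=
  eq_or_eq_inv_of_commute H.two_ne_zero hc (by rw [H.tr_eq hE hu, H.tr_eq hE' hu'])
    (H.tr_sq_ne hE hu)

theorem Hyp.ne_of_indep (H : Hyp ι a s) {g g' : SL(2, K)} {u u' : Fin 2 → K}
    (hE : IsEig g u (lam ι a s)) (hu : u ≠ 0) (hE' : IsEig g' u' (lam ι a s))
    (hD : u 0 * u' 1 - u 1 * u' 0 ≠ 0) : g ≠ g' := by
  intro h
  apply H.not_isScalar hE hu
  rw [← h] at hE'
  exact isScalar_of_two_eig hE hE' hD

/-- three elements with independent eigenvectors never commute pairwise -/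
theorem Hyp.not_all_commute (H : Hyp ι a s) {g : Fin 3 → SL(2, K)} {u : Fin 3 → Fin 2 → K}
    (hE : ∀ i, IsEig (g i) (u i) (lam ι a s))
    (hD : ∀ i j, i ≠ j → u i 0 * u j 1 - u i 1 * u j 0 ≠ 0)
    (hcomm : ∀ i j, Commute (g i) (g j)) : False := by
  have hu0 : ∀ i, u i ≠ 0 := by
    intro i h
    obtain ⟨j, hj⟩ : ∃ j : Fin 3, i ≠ j := by
      fin_cases i
      · exact ⟨1, by decide⟩
      · exact ⟨0, by decide⟩
      · exact ⟨0, by decide⟩
    apply hD i j hj
    rw [h]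
    simp
  have hcase : ∀ i j, g j = g i ∨ g j = (g i)⁻¹ := fun i j =>
    H.eq_or_eq_inv (hE i) (hu0 i) (hE j) (hu0 j) (hcomm i j)
  have hne : ∀ i j, i ≠ j → g i ≠ g j := fun i j hij =>
    H.ne_of_indep (hE i) (hu0 i) (hE j) (hD i j hij)
  rcases hcase 0 1 with h | h
  · exact hne 1 0 (by decide) h
  · rcases hcase 0 2 with h' | h'
    · exact hne 2 0 (by decide) h'
    · exact hne 1 2 (by decide) (h.trans h'.symm)

/-- no abelian subgroup of index at most two -/
theorem Hyp.no_abelian (H : Hyp ι a s) (M : Subgroup SL(2, K)) [Finite M]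
    {g : Fin 3 → SL(2, K)} {u : Fin 3 → Fin 2 → K} (hgM : ∀ i, g i ∈ M)
    (hE : ∀ i, IsEig (g i) (u i) (lam ι a s))
    (hD : ∀ i j, i ≠ j → u i 0 * u j 1 - u i 1 * u j 0 ≠ 0) :
    ∀ A : Subgroup SL(2, K), A ≤ M → (∀ a ∈ A, ∀ b ∈ A, a * b = b * a) → 2 < A.relIndex M := by
  intro A _ hAc
  by_contra hA2
  push Not at hA2
  have hu0 : ∀ i, u i ≠ 0 := by
    intro i h
    obtain ⟨j, hj⟩ : ∃ j : Fin 3, i ≠ j := by
      fin_cases i
      · exact ⟨1, by decide⟩
      · exact ⟨0, by decide⟩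
      · exact ⟨0, by decide⟩
    apply hD i j hj
    rw [h]
    simp
  have hsq : ∀ i, g i * g i ∈ A := fun i => mul_self_mem_of_relIndex_le_two hA2 (hgM i)
  apply H.not_all_commute hE hD
  intro i j
  have c1 : Commute (g i) (g i * g i) := (Commute.refl (g i)).mul_right (Commute.refl (g i))
  have c2 : Commute (g i * g i) (g j * g j) := hAc _ (hsq i) _ (hsq j)
  have c3 : Commute (g j * g j) (g j) := ((Commute.refl (g j)).mul_right (Commute.refl (g j))).symm
  exact commute_trans (H.not_isScalar_sq (hE j) (hu0 j))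
    (commute_trans (H.not_isScalar_sq (hE i) (hu0 i)) c1 c2) c3


theorem Hyp.ringChar_eq (_H : Hyp ι a s) : ringChar K = p := by
  have hinj : Function.Injective ι := RingHom.injective ι
  have hchar : CharP K p := charP_of_injective_ringHom hinj p
  exact ringChar.eq K p

/-- **Three lines**, abstract form. -/
theorem Hyp.false_of_three (H : Hyp ι a s) (hp13 : p ≠ 13) (M : Subgroup SL(2, K)) [Finite M]
    (hcard : ¬ p ∣ Nat.card M)
    {g : Fin 3 → SL(2, K)} {u : Fin 3 → Fin 2 → K} (hgM : ∀ i, g i ∈ M)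
    (hE : ∀ i, IsEig (g i) (u i) (lam ι a s))
    (hD : ∀ i j, i ≠ j → u i 0 * u j 1 - u i 1 * u j 0 ≠ 0) : False := by
  have hp : p.Prime := Fact.out
  have hp11 := H.hp11
  have hu0 : u 0 ≠ 0 := by
    intro h
    apply hD 0 1 (by decide)
    rw [h]
    simp
  have hcard' : ¬ ringChar K ∣ Nat.card M := by rwa [H.ringChar_eq]
  obtain ⟨-, -, hcent⟩ := Cfsg.Agent.Lib.Helper51_SL2Prime.pprime_orders_subgroup' H.two_ne_zero M
    hcard' (H.no_abelian M hgM hE hD)
  have hc := hcent (g 0) (hgM 0) (H.not_isScalar (hE 0) hu0)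
  have hmem : g 0 ∈ M ⊓ Subgroup.centralizer ({g 0} : Set SL(2, K)) :=
    ⟨hgM 0, Subgroup.mem_centralizer_singleton_iff.2 rfl⟩
  have hk : g 0 ^ Nat.card ↥(M ⊓ Subgroup.centralizer ({g 0} : Set SL(2, K))) = 1 := by
    have : (⟨g 0, hmem⟩ : ↥(M ⊓ Subgroup.centralizer ({g 0} : Set SL(2, K)))) ^
        Nat.card ↥(M ⊓ Subgroup.centralizer ({g 0} : Set SL(2, K))) = 1 := pow_card_eq_one'
    exact congrArg Subtype.val this
  have hdvd := H.pow_dvd (hE 0) hu0 hk
  rcases hc with h | h | h | h <;> rw [h] at hdvd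
  · have := Nat.le_of_dvd (by norm_num) hdvd
    omega
  · have := Nat.le_of_dvd (by norm_num) hdvd
    omega
  · have := Nat.le_of_dvd (by norm_num) hdvd
    have h11 : p = 11 ∨ p = 12 := by omega
    rcases h11 with rfl | rfl
    · omega
    · omega
  · have := Nat.le_of_dvd (by norm_num) hdvd
    have : p = 11 ∨ p = 12 ∨ p = 14 ∨ p = 15 ∨ p = 16 := by omega
    rcases this with rfl | rfl | rfl | rfl | rfl
    · omega
    · omega
    · omega
    · omega
    · exact absurd hp (by norm_num)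

theorem indep_map (w w' : Fin 2 → ZMod p) (h : w 0 * w' 1 - w 1 * w' 0 ≠ 0) :
    (ι ∘ w) 0 * (ι ∘ w') 1 - (ι ∘ w) 1 * (ι ∘ w') 0 ≠ 0 := by
  have hinj : Function.Injective ι := RingHom.injective ι
  intro h'
  apply h
  apply hinj
  simp only [Function.comp_apply] at h'
  rw [map_sub, map_mul, map_mul, h', map_zero]

/-- **All lines, `p = 13`**, abstract form. -/
theorem Hyp.false_of_all13 (H : Hyp ι a s) (hp13 : p = 13) (M : Subgroup SL(2, K)) [Finite M]
    (hcard : ¬ p ∣ Nat.card M)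
    (hall : ∀ w : Fin 2 → ZMod p, w ≠ 0 → ∃ g ∈ M, IsEig g (ι ∘ w) (lam ι a s)) : False := by
  have hinj : Function.Injective ι := RingHom.injective ι
  set W : Fin 7 → Fin 2 → ZMod p := fun i => ![1, ((i : ℕ) : ZMod p)] with hW
  have hW0 : ∀ i, W i ≠ 0 := by
    intro i h
    have := congrFun h 0
    simp [hW] at this
  have hWD : ∀ i j, i ≠ j → W i 0 * W j 1 - W i 1 * W j 0 ≠ 0 := by
    intro i j hij h
    simp only [hW, Matrix.cons_val_zero, Matrix.cons_val_one, one_mul, mul_one] at h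
    have h1 : ((j : ℕ) : ZMod p) = ((i : ℕ) : ZMod p) := sub_eq_zero.1 h
    rw [ZMod.natCast_eq_natCast_iff'] at h1
    have hi := i.2
    have hj := j.2
    rw [Nat.mod_eq_of_lt (by omega), Nat.mod_eq_of_lt (by omega)] at h1
    exact hij (Fin.ext h1.symm)
  choose g hgM hE using fun i => hall (W i) (hW0 i)
  set u : Fin 7 → Fin 2 → K := fun i => ι ∘ W i with hu
  have hD : ∀ i j, i ≠ j → u i 0 * u j 1 - u i 1 * u j 0 ≠ 0 :=
    fun i j hij => indep_map (W i) (W j) (hWD i j hij)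
  have hu0 : ∀ i, u i ≠ 0 := by
    intro i h
    have := congrFun h 0
    simp [hu, hW] at this
  -- no abelian subgroup of small index
  let emb : Fin 3 → Fin 7 := fun i => ⟨i, by omega⟩
  have hemb : ∀ i j : Fin 3, i ≠ j → emb i ≠ emb j := by
    intro i j hij h
    apply hij
    have := congrArg Fin.val h
    exact Fin.ext this
  have hnab := H.no_abelian M (g := fun i => g (emb i)) (u := fun i => u (emb i))
    (fun i => hgM _) (fun i => hE _) (fun i j hij => hD _ _ (hemb i j hij))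
  have hcard' : ¬ ringChar K ∣ Nat.card M := by rwa [H.ringChar_eq]
  have hρ : Function.Injective M.subtype := M.subtype_injective
  have hss' := Cfsg.Agent.Lib.Helper51_SL2Prime.tr_sq_ne_four_of_ringChar M.subtype
    H.two_ne_zero hcard'
  have hnab' : ∀ A : Subgroup M, (∀ a ∈ A, ∀ b ∈ A, a * b = b * a) → 2 < A.index := by
    intro A hA
    have h1 : A.map M.subtype ≤ M := by
      rintro _ ⟨a, -, rfl⟩
      exact a.2
    have h3 := hnab (A.map M.subtype) h1 (by
      rintro _ ⟨a, ha, rfl⟩ _ ⟨b, hb, rfl⟩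
      rw [← map_mul, ← map_mul, hA a ha b hb])
    have h4 : (A.map M.subtype).relIndex M = A.index := by
      have := Subgroup.relIndex_map_map_of_injective A ⊤ hρ
      rw [Subgroup.relIndex_top_right, ← MonoidHom.range_eq_map, Subgroup.range_subtype] at this
      exact this
    rwa [h4] at h3
  obtain ⟨r1, -, r3⟩ := Cfsg.Agent.Lib.Helper51_SL2Prime.pprime_orders hρ H.two_ne_zero hss' hnab'
  set g' : Fin 7 → M := fun i => ⟨g i, hgM i⟩ with hg'
  have hgZ : ∀ i, g' i ∉ Cfsg.Agent.Lib.Helper50_SL2Rep.Zs M.subtype := fun i hh =>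
    H.not_isScalar (hE i) (hu0 i) (Cfsg.Agent.Lib.Helper50_SL2Rep.mem_Zs.1 hh)
  have hg8 : ∀ i, orderOf (g' i) = 8 := by
    intro i
    have hc := r3 (g' i) (hgZ i)
    have hmem : g' i ∈ Subgroup.centralizer ({g' i} : Set M) :=
      Subgroup.mem_centralizer_singleton_iff.2 rfl
    have hk : g i ^ Nat.card (Subgroup.centralizer ({g' i} : Set M)) = 1 := by
      have : (⟨g' i, hmem⟩ : Subgroup.centralizer ({g' i} : Set M)) ^
          Nat.card (Subgroup.centralizer ({g' i} : Set M)) = 1 := pow_card_eq_one'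
      have h2 := congrArg Subtype.val this
      rw [Subgroup.coe_pow, Subgroup.coe_one] at h2
      have h3 := congrArg Subtype.val h2
      rw [Subgroup.coe_pow, Subgroup.coe_one] at h3
      exact h3
    have hdvd := H.pow_dvd (hE i) (hu0 i) hk
    have h8 : g i ^ 8 = 1 := by
      rcases hc with h | h | h | h <;> rw [h] at hdvd hk
      · rw [hp13] at hdvd; omega
      · rw [hp13] at hdvd; omega
      · exact hk
      · rw [hp13] at hdvd; omega
    have ho : orderOf (g' i) = orderOf (g i) := Subgroup.orderOf_mk _ _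
    rw [ho]
    have h1 : orderOf (g i) ∣ 8 := orderOf_dvd_of_pow_eq_one h8
    have h2 := H.pow_dvd (hE i) (hu0 i) (pow_orderOf_eq_one (g i))
    rw [hp13] at h2
    have h3 : 8 ∣ orderOf (g i) := by omega
    exact Nat.dvd_antisymm h1 h3
  apply Cfsg.Agent.Lib.Helper51_RVGrp.abstract13 r1
    (Cfsg.Agent.Lib.Helper50_SL2Rep.Zs M.subtype : Set M) r3 ?_ g' hg8 ?_ ?_
  · -- elements of order three are not scalar
    intro y hy hyZ
    have hsc : IsScalar (y : SL(2, K)) := Cfsg.Agent.Lib.Helper50_SL2Rep.mem_Zs.1 hyZ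
    have h2 : (y : SL(2, K)) ^ 2 = 1 := by
      rcases hsc.eq_one_or with h | h
      · rw [h, one_pow]
      · rw [h, pow_two, negOne_mul_self]
    have h3 : y ^ 2 = 1 := Subtype.ext (by rw [Subgroup.coe_pow, h2, Subgroup.coe_one])
    have := orderOf_dvd_of_pow_eq_one h3
    rw [hy] at this
    omega
  · intro i y hc
    have c1 : Commute (g i) (g i * g i) := (Commute.refl (g i)).mul_right (Commute.refl (g i))
    have c2 : Commute (g i * g i) (y : SL(2, K)) := by
      have := congrArg Subtype.val hc.eq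
      simp only [Subgroup.coe_mul, hg'] at this
      exact this
    have c3 := commute_trans (H.not_isScalar_sq (hE i) (hu0 i)) c1 c2
    exact Subtype.ext (by simpa [hg'] using c3.eq)
  · rintro i j k hij hik hjk ⟨c1, c2, c3⟩
    have tosl : ∀ x y : M, Commute x y → Commute (x : SL(2, K)) (y : SL(2, K)) := by
      intro x y h
      have := congrArg Subtype.val h.eq
      simp only [Subgroup.coe_mul] at this
      exact this
    apply H.not_all_commute (g := ![g i, g j, g k]) (u := ![u i, u j, u k])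
    · intro t
      fin_cases t
      · exact hE i
      · exact hE j
      · exact hE k
    · intro t t' htt'
      fin_cases t <;> fin_cases t'
      · exact absurd rfl htt'
      · exact hD i j hij
      · exact hD i k hik
      · exact hD j i hij.symm
      · exact absurd rfl htt'
      · exact hD j k hjk
      · exact hD k i hik.symm
      · exact hD k j hjk.symm
      · exact absurd rfl htt'
    · intro t t'
      fin_cases t <;> fin_cases t'
      · exact Commute.refl _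
      · exact tosl _ _ c1
      · exact tosl _ _ c2
      · exact (tosl _ _ c1).symm
      · exact Commute.refl _
      · exact tosl _ _ c3
      · exact (tosl _ _ c2).symm
      · exact (tosl _ _ c3).symm
      · exact Commute.refl _

section data

variable [Finite K] {Γ : Type*} [Group Γ] (ρ : Γ →* Matrix (Fin 2) (Fin 2) (ZMod p))

omit [Finite K] in
theorem Hyp.exists_elt (H : Hyp ι a s) {w : Fin 2 → ZMod p} {n : Γ}
    (hn : ρ n *ᵥ w = a⁻¹ • w) (hdet : (ρ n).det = a) :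
    ∃ g ∈ Mgrp ι ρ, IsEig g (ι ∘ w) (lam ι a s) := by
  have hsd : s ^ 2 = ι (ρ n).det := by rw [hdet, H.hs]
  exact ⟨gel ι ρ s n hsd H.s_ne_zero, gel_mem ι ρ s n hsd H.s_ne_zero,
    gel_isEig ι ρ s n hsd H.s_ne_zero w a⁻¹ hn⟩

/-- **Three lines.** -/
theorem main3 (H : Hyp ι a s) (hp13 : p ≠ 13) (m : ℕ) (hm : ¬ p ∣ m)
    (hρm : ∀ n, ρ n ^ m = 1)
    (w : Fin 3 → Fin 2 → ZMod p) (hw : ∀ i j, i ≠ j → w i 0 * w j 1 - w i 1 * w j 0 ≠ 0)
    (n : Fin 3 → Γ) (hn : ∀ i, ρ (n i) *ᵥ w i = a⁻¹ • w i) (hdet : ∀ i, (ρ (n i)).det = a) :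
    False := by
  choose g hgM hE using fun i => H.exists_elt ρ (hn i) (hdet i)
  exact H.false_of_three hp13 (Mgrp ι ρ) (not_dvd_card_Mgrp ι ρ H.p_ne_two hm hρm) hgM hE
    (fun i j hij => indep_map (w i) (w j) (hw i j hij))

/-- **All lines.** -/
theorem mainAll (H : Hyp ι a s) (m : ℕ) (hm : ¬ p ∣ m) (hρm : ∀ n, ρ n ^ m = 1)
    (hall : ∀ w : Fin 2 → ZMod p, w ≠ 0 → ∃ n : Γ, ρ n *ᵥ w = a⁻¹ • w ∧ (ρ n).det = a) :
    False := by
  by_cases hp13 : p = 13
  · apply H.false_of_all13 hp13 (Mgrp ι ρ) (not_dvd_card_Mgrp ι ρ H.p_ne_two hm hρm)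
    intro w hw
    obtain ⟨n, hn, hdet⟩ := hall w hw
    exact H.exists_elt ρ hn hdet
  · set w : Fin 3 → Fin 2 → ZMod p := ![![1, 0], ![0, 1], ![1, 1]] with hw
    have hw0 : ∀ i, w i ≠ 0 := by
      intro i h
      fin_cases i
      · have := congrFun h 0
        simp [hw] at this
      · have := congrFun h 1
        simp [hw] at this
      · have := congrFun h 0
        simp [hw] at this
    choose n hn hdet using fun i => hall (w i) (hw0 i)
    apply main3 ρ H hp13 m hm hρm w ?_ n hn hdet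
    intro i j hij
    fin_cases i <;> fin_cases j <;> simp [hw] at hij ⊢

end data

end main


section final

variable {p : ℕ} [Fact p.Prime]

/-- square roots of elements of the prime field in the field with `p²` elements -/
theorem exists_sqrt (hp2 : p ≠ 2) (a : ZMod p) (ha0 : a ≠ 0) :
    ∃ s : GaloisField p 2, s ^ 2 = algebraMap (ZMod p) (GaloisField p 2) a := by
  have hp : p.Prime := Fact.out
  have : Fintype (GaloisField p 2) := Fintype.ofFinite _
  have hcard : Fintype.card (GaloisField p 2) = p ^ 2 := by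
    rw [← Nat.card_eq_fintype_card, GaloisField.card p 2 (by norm_num)]
  have hrc : ringChar (GaloisField p 2) ≠ 2 := by
    rw [ringChar.eq (GaloisField p 2) p]
    exact hp2
  have hinj : Function.Injective (algebraMap (ZMod p) (GaloisField p 2)) := RingHom.injective _
  have hx0 : algebraMap (ZMod p) (GaloisField p 2) a ≠ 0 := by
    intro h
    exact ha0 (hinj (by rw [h, map_zero]))
  have hsq : IsSquare (algebraMap (ZMod p) (GaloisField p 2) a) := by
    rw [FiniteField.isSquare_iff hrc hx0, hcard]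
    obtain ⟨h, hh⟩ := hp.odd_of_ne_two hp2
    have e : p ^ 2 / 2 = (p - 1) * (h + 1) := by
      have h1 : p ^ 2 = 2 * ((p - 1) * (h + 1)) + 1 := by
        subst hh
        have : 2 * h + 1 - 1 = 2 * h := by omega
        rw [this]
        ring
      omega
    rw [e, pow_mul, ← map_pow, ZMod.pow_card_sub_one_eq_one ha0, map_one, one_pow]
  obtain ⟨r, hr⟩ := hsq
  exact ⟨r, by rw [hr, pow_two]⟩

variable {Γ : Type*} [Group Γ] (ρ : Γ →* Matrix (Fin 2) (Fin 2) (ZMod p))

/-- **Matrix form of the bound `p ≤ 13`.** -/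
theorem bound13 (m : ℕ) (hm : ¬ p ∣ m) (hρm : ∀ n, ρ n ^ m = 1) (a : ZMod p) (ha0 : a ≠ 0)
    (ha : ∀ k : ℕ, a ^ k = 1 → (p - 1) ∣ k)
    (w : Fin 3 → Fin 2 → ZMod p) (hw : ∀ i j, i ≠ j → w i 0 * w j 1 - w i 1 * w j 0 ≠ 0)
    (n : Fin 3 → Γ) (hn : ∀ i, ρ (n i) *ᵥ w i = a⁻¹ • w i) (hdet : ∀ i, (ρ (n i)).det = a) :
    p ≤ 13 := by
  by_contra hcon
  push Not at hcon
  obtain ⟨s, hs⟩ := exists_sqrt (by omega) a ha0
  have H : Hyp (algebraMap (ZMod p) (GaloisField p 2)) a s := ⟨by omega, ha0, ha, hs⟩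
  exact main3 ρ H (by omega) m hm hρm w hw n hn hdet

/-- **Matrix form of the bound `p ≤ 7`.** -/
theorem bound7 (m : ℕ) (hm : ¬ p ∣ m) (hρm : ∀ n, ρ n ^ m = 1) (a : ZMod p) (ha0 : a ≠ 0)
    (ha : ∀ k : ℕ, a ^ k = 1 → (p - 1) ∣ k)
    (hall : ∀ w : Fin 2 → ZMod p, w ≠ 0 → ∃ n : Γ, ρ n *ᵥ w = a⁻¹ • w ∧ (ρ n).det = a) :
    p ≤ 7 := by
  have hp : p.Prime := Fact.out
  by_contra hcon
  push Not at hcon
  have h11 : 11 ≤ p := by
    by_contra h
    push Not at h
    interval_cases p <;> exact absurd hp (by norm_num)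
  obtain ⟨s, hs⟩ := exists_sqrt (by omega) a ha0
  have H : Hyp (algebraMap (ZMod p) (GaloisField p 2)) a s := ⟨h11, ha0, ha, hs⟩
  exact mainAll ρ H m hm hρm hall

end final

end Cfsg.Agent.Lib.Helper51_RVMat
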