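import Mathlib
import Cfsg.Prelude.Def_TwoFusion
import Cfsg.Agent.Lib.Helper54_S2221Defs

/-!
# S2221 (architect helper54): auxiliary lemmas for the packages STEP4 and STEP5 (helper51)
-/

set_option autoImplicit false

open Cfsg.Agent.Lib.Helper54_S2221Defs
open scoped commutatorElement

namespace Cfsg.Agent.Lib.Helper51_S2221_Aux

/-- a group which is generated by two elementwise commuting subgroups is their product -/
theorem exists_mul_of_sup {G : Type*} [Group G] (S₁ S₂ : Subgroup G)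
    (hcomm : ∀ a ∈ S₁, ∀ b ∈ S₂, a * b = b * a) (hsup : S₁ ⊔ S₂ = ⊤) (g : G) :
    ∃ a ∈ S₁, ∃ b ∈ S₂, g = a * b := by
  have hg : g ∈ S₁ ⊔ S₂ := by rw [hsup]; exact Subgroup.mem_top g
  rw [Subgroup.sup_eq_closure_mul] at hg
  induction hg using Subgroup.closure_induction with
  | mem x hx =>
    obtain ⟨a, ha, b, hb, rfl⟩ := Set.mem_mul.mp hx
    exact ⟨a, ha, b, hb, rfl⟩
  | one => exact ⟨1, S₁.one_mem, 1, S₂.one_mem, (mul_one 1).symm⟩
  | mul x y _ _ hx hy =>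
    obtain ⟨a, ha, b, hb, rfl⟩ := hx
    obtain ⟨a', ha', b', hb', rfl⟩ := hy
    refine ⟨a * a', S₁.mul_mem ha ha', b * b', S₂.mul_mem hb hb', ?_⟩
    have := hcomm a' ha' b hb
    calc a * b * (a' * b') = a * (b * a') * b' := by group
      _ = a * (a' * b) * b' := by rw [this]
      _ = a * a' * (b * b') := by group
  | inv x _ hx =>
    obtain ⟨a, ha, b, hb, rfl⟩ := hx
    refine ⟨a⁻¹, S₁.inv_mem ha, b⁻¹, S₂.inv_mem hb, ?_⟩
    have := hcomm a ha b hb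
    calc (a * b)⁻¹ = (b * a)⁻¹ := by rw [this]
      _ = a⁻¹ * b⁻¹ := by group

/-- `W 0` is trivial -/
instance subsingleton_W_zero : Subsingleton (W 0) :=
  (inferInstance : Subsingleton PUnit)

theorem subsingleton_W_of_eq_zero {k : ℕ} (hk : k = 0) : Subsingleton (W k) := by
  subst hk
  exact subsingleton_W_zero

/-- an index in `J` (where `1 ∉ J`) is `0` or at least `2` -/
theorem eq_zero_or_two_le {J : Finset ℕ} (h1 : 1 ∉ J) (l : J) : l.1 = 0 ∨ 2 ≤ l.1 := by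
  have : l.1 ≠ 1 := fun h => h1 (h ▸ l.2)
  omega

/-- commutators are not changed by central factors -/
theorem commutatorElement_mul_central {G : Type*} [Group G] (x y z w : G)
    (hz : ∀ g : G, z * g = g * z) (hw : ∀ g : G, w * g = g * w) :
    ⁅x * z, y * w⁆ = ⁅x, y⁆ := by
  rw [commutatorElement_def, commutatorElement_def]
  have h1 : z * (y * w) = (y * w) * z := hz _
  have h2 : w * (x⁻¹ * y⁻¹) = (x⁻¹ * y⁻¹) * w := hw _
  calc x * z * (y * w) * (x * z)⁻¹ * (y * w)⁻¹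
      = x * (z * (y * w)) * z⁻¹ * x⁻¹ * w⁻¹ * y⁻¹ := by group
    _ = x * ((y * w) * z) * z⁻¹ * x⁻¹ * w⁻¹ * y⁻¹ := by rw [h1]
    _ = x * y * (w * (x⁻¹ * y⁻¹)) * (y * w⁻¹ * y⁻¹) := by group
    _ = x * y * ((x⁻¹ * y⁻¹) * w) * (y * w⁻¹ * y⁻¹) := by rw [h2]
    _ = x * y * x⁻¹ * y⁻¹ * (w * y * w⁻¹ * y⁻¹) := by group
    _ = x * y * x⁻¹ * y⁻¹ * ((y * w) * w⁻¹ * y⁻¹) := by rw [hw y]
    _ = x * y * x⁻¹ * y⁻¹ := by group

end Cfsg.Agent.Lib.Helper51_S2221_Aux
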