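import Mathlib
import Cfsg.Prelude.Def_TwoFusion
import Cfsg.Agent.Lib.Helper54_S2221Defs
import Cfsg.Agent.Lib.Helper51_S2221_Aux

/-!
# S2221 package STEP4 (helper51, architect helper54): if all projections of `S₂` are central then
`S₂ = 1`
-/

set_option autoImplicit false

open Cfsg.Agent.Lib.Helper54_S2221Defs

namespace Cfsg.Agent.Lib.Helper51_S2221_STEP4

open Cfsg.Agent.Lib.Helper51_S2221_Aux
open scoped commutatorElement

/-- the projection to a factor of size at least four is onto -/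
theorem exists_lift (hW : WFacts) (J : Finset ℕ)
    (h2 : 2 ≤ (J.filter (fun j => 2 ≤ j)).card) (j : J) (x : W j.1) :
    ∃ p : ↥(epsJ J).ker, p.1 j = x := by
  classical
  rcases Int.units_eq_one_or (eps j.1 x) with hx | hx
  · have hmem : (Pi.mulSingle j x : QJ J) ∈ (epsJ J).ker := by
      rw [MonoidHom.mem_ker, epsJ_apply, Finset.prod_eq_single j, Pi.mulSingle_eq_same, hx]
      · intro l _ hl
        rw [Pi.mulSingle_eq_of_ne hl, map_one]
      · intro h; exact absurd (Finset.mem_univ j) h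
    refine ⟨⟨Pi.mulSingle j x, hmem⟩, ?_⟩
    show (Pi.mulSingle j x : QJ J) j = x
    rw [Pi.mulSingle_eq_same]
  · -- a second index
    obtain ⟨j', hj', hne⟩ := Finset.exists_mem_ne (by omega : 1 < (J.filter (fun j => 2 ≤ j)).card)
      j.1
    rw [Finset.mem_filter] at hj'
    set jj : J := ⟨j', hj'.1⟩ with hjj
    have hjne : jj ≠ j := fun h => hne (congrArg Subtype.val h)
    obtain ⟨t', ht'⟩ := hW.exists_odd jj.1 (by rw [hjj]; show 1 ≤ j'; omega)
    set g0 : QJ J := Pi.mulSingle j x * Pi.mulSingle jj t' with hg0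
    have hg0j : g0 j = x := by
      rw [hg0, Pi.mul_apply, Pi.mulSingle_eq_same, Pi.mulSingle_eq_of_ne (Ne.symm hjne), mul_one]
    have hg0jj : g0 jj = t' := by
      rw [hg0, Pi.mul_apply, Pi.mulSingle_eq_same, Pi.mulSingle_eq_of_ne hjne, one_mul]
    have hg0l : ∀ l : J, l ≠ j → l ≠ jj → g0 l = 1 := by
      intro l hl1 hl2
      rw [hg0, Pi.mul_apply, Pi.mulSingle_eq_of_ne hl1, Pi.mulSingle_eq_of_ne hl2, mul_one]
    have hmem : g0 ∈ (epsJ J).ker := by
      rw [MonoidHom.mem_ker, epsJ_apply]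
      have hprod : ∏ l : J, eps l.1 (g0 l) = eps j.1 (g0 j) * eps jj.1 (g0 jj) := by
        rw [← Finset.prod_pair (f := fun l : J => eps l.1 (g0 l)) (Ne.symm hjne)]
        symm
        apply Finset.prod_subset (Finset.subset_univ _)
        intro l _ hl
        rw [Finset.mem_insert, Finset.mem_singleton, not_or] at hl
        rw [hg0l l hl.1 hl.2, map_one]
      rw [hprod, hg0j, hg0jj, hx, ht']
      rfl
    exact ⟨⟨g0, hmem⟩, hg0j⟩

section caseB2

variable (hW : WFacts) (J : Finset ℕ) (h1 : 1 ∉ J) (h2 : 2 ≤ (J.filter (fun j => 2 ≤ j)).card)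
  (S₁ S₂ : Subgroup ↥(epsJ J).ker) (hcomm : ∀ a ∈ S₁, ∀ b ∈ S₂, a * b = b * a)
  (hinf : S₁ ⊓ S₂ = ⊥) (hsup : S₁ ⊔ S₂ = ⊤)

include hW h1 h2 hcomm hinf hsup in
theorem step4 (hall : ∀ j : J, 2 ≤ j.1 → S₂.map (prj J j) ≤ Subgroup.center (W j.1)) : S₂ = ⊥ := by
  classical
  -- the elements of `S₂` have central coordinates
  have hcoordc : ∀ c ∈ S₂, ∀ l : J, ∀ y : W l.1, y * c.1 l = c.1 l * y := by
    intro c hc l y
    rcases eq_zero_or_two_le h1 l with h0 | hl
    · have := subsingleton_W_of_eq_zero h0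
      exact Subsingleton.elim _ _
    · have : c.1 l ∈ Subgroup.center (W l.1) := hall l hl ⟨c, hc, rfl⟩
      exact Subgroup.mem_center_iff.mp this y
  have hcentral : ∀ c ∈ S₂, ∀ p : ↥(epsJ J).ker, c * p = p * c := by
    intro c hc p
    apply Subtype.ext
    funext l
    exact (hcoordc c hc l (p.1 l)).symm
  -- the commutator subgroup of `P` is contained in `S₁`
  have hcommS1 : commutator ↥(epsJ J).ker ≤ S₁ := by
    rw [commutator_def, Subgroup.commutator_le]
    intro a _ b _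
    obtain ⟨a1, ha1, a2, ha2, rfl⟩ := exists_mul_of_sup S₁ S₂ hcomm hsup a
    obtain ⟨b1, hb1, b2, hb2, rfl⟩ := exists_mul_of_sup S₁ S₂ hcomm hsup b
    rw [commutatorElement_mul_central a1 b1 a2 b2 (hcentral a2 ha2) (hcentral b2 hb2),
      commutatorElement_def]
    exact S₁.mul_mem (S₁.mul_mem (S₁.mul_mem ha1 hb1) (S₁.inv_mem ha1)) (S₁.inv_mem hb1)
  -- the image of the commutator subgroup in `QJ J`
  set C : Subgroup (QJ J) := (commutator ↥(epsJ J).ker).map (epsJ J).ker.subtype with hC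
  have hsingle : ∀ j : J, 2 ≤ j.1 →
      (⁅(⊤ : Subgroup (W j.1)), (eps j.1).ker⁆).map
        (MonoidHom.mulSingle (fun j : J => W j.1) j) ≤ C := by
    intro j hj
    rw [Subgroup.map_le_iff_le_comap, Subgroup.commutator_le]
    intro x _ y hy
    rw [Subgroup.mem_comap]
    obtain ⟨xh, hxh⟩ := exists_lift hW J h2 j x
    have hyker : (Pi.mulSingle j y : QJ J) ∈ (epsJ J).ker := by
      rw [MonoidHom.mem_ker, epsJ_apply, Finset.prod_eq_single j, Pi.mulSingle_eq_same,
        MonoidHom.mem_ker.mp hy]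
      · intro l _ hl
        rw [Pi.mulSingle_eq_of_ne hl, map_one]
      · intro h; exact absurd (Finset.mem_univ j) h
    refine ⟨⁅xh, ⟨Pi.mulSingle j y, hyker⟩⁆, ?_, ?_⟩
    · rw [commutator_def]
      exact Subgroup.commutator_mem_commutator (Subgroup.mem_top _) (Subgroup.mem_top _)
    · funext l
      show (⁅xh, ⟨Pi.mulSingle j y, hyker⟩⁆ : ↥(epsJ J).ker).1 l
        = (Pi.mulSingle j ⁅x, y⁆ : QJ J) l
      rw [commutatorElement_def]
      by_cases hl : l = j
      · subst hl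
        rw [Pi.mulSingle_eq_same, commutatorElement_def, ← hxh]
        show xh.1 l * (Pi.mulSingle l y : QJ J) l * (xh.1 l)⁻¹ * ((Pi.mulSingle l y : QJ J) l)⁻¹ = _
        rw [Pi.mulSingle_eq_same]
      · rw [Pi.mulSingle_eq_of_ne hl]
        show xh.1 l * (Pi.mulSingle j y : QJ J) l * (xh.1 l)⁻¹ * ((Pi.mulSingle j y : QJ J) l)⁻¹ = 1
        rw [Pi.mulSingle_eq_of_ne hl]
        group
  -- every element of `S₂` is a commutator
  have hmemC : ∀ c ∈ S₂, c.1 ∈ C := by
    intro c hc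
    set H : ∀ j : J, Subgroup (W j.1) := fun j =>
      if 2 ≤ j.1 then ⁅(⊤ : Subgroup (W j.1)), (eps j.1).ker⁆ else ⊥ with hH
    have hpi : Subgroup.pi Set.univ H ≤ C := by
      rw [Subgroup.pi_le_iff]
      intro j
      by_cases hj : 2 ≤ j.1
      · have : H j = ⁅(⊤ : Subgroup (W j.1)), (eps j.1).ker⁆ := by rw [hH]; exact if_pos hj
        rw [this]
        exact hsingle j hj
      · have : H j = ⊥ := by rw [hH]; exact if_neg hj
        rw [this, Subgroup.map_bot]
        exact bot_le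
    apply hpi
    rw [Subgroup.mem_pi]
    intro j _
    rcases eq_zero_or_two_le h1 j with h0 | hj
    · have := subsingleton_W_of_eq_zero h0
      rw [Subsingleton.elim (c.1 j) 1]
      exact Subgroup.one_mem _
    · have : H j = ⁅(⊤ : Subgroup (W j.1)), (eps j.1).ker⁆ := by rw [hH]; exact if_pos hj
      rw [this]
      apply hW.center_le_comm j.1 hj
      rw [Subgroup.mem_center_iff]
      exact hcoordc c hc j
  rw [eq_bot_iff]
  intro c hc
  obtain ⟨c', hc', hcc'⟩ := hmemC c hc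
  have : c' = c := Subtype.ext hcc'
  rw [this] at hc'
  have : c ∈ S₁ ⊓ S₂ := ⟨hcommS1 hc', hc⟩
  rw [hinf] at this
  exact this

end caseB2

end Cfsg.Agent.Lib.Helper51_S2221_STEP4
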