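import Mathlib
import Cfsg.Prelude.Def_TwoFusion
import Cfsg.Agent.Lib.Helper54_S2221Defs
import Cfsg.Agent.Lib.Helper51_S2221_Aux

/-!
# S2221 package STEP5 (helper51, architect helper54): the parity contradiction
-/

set_option autoImplicit false

open Cfsg.Agent.Lib.Helper54_S2221Defs

namespace Cfsg.Agent.Lib.Helper51_S2221_STEP5

open Cfsg.Agent.Lib.Helper51_S2221_Aux

section caseB2

variable (hW : WFacts) (J : Finset ℕ) (h1 : 1 ∉ J) (h2 : 2 ≤ (J.filter (fun j => 2 ≤ j)).card)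
  (S₁ S₂ : Subgroup ↥(epsJ J).ker) (hcomm : ∀ a ∈ S₁, ∀ b ∈ S₂, a * b = b * a)
  (hinf : S₁ ⊓ S₂ = ⊥) (hsup : S₁ ⊔ S₂ = ⊤)

include hW h1 hcomm hsup in
theorem step5 (i j : J) (hi : 2 ≤ i.1) (hj : 2 ≤ j.1) (hij : i ≠ j)
    (hside : ∀ l : J, 2 ≤ l.1 → S₁.map (prj J l) ≤ Subgroup.center (W l.1) ∨
      S₂.map (prj J l) ≤ Subgroup.center (W l.1))
    (hi' : S₂.map (prj J i) ≤ Subgroup.center (W i.1))
    (hj' : S₁.map (prj J j) ≤ Subgroup.center (W j.1)) : False := by
  classical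
  obtain ⟨ti, hti⟩ := hW.exists_odd i.1 (by omega)
  obtain ⟨tj, htj⟩ := hW.exists_odd j.1 (by omega)
  -- the element `g`
  set g0 : QJ J := Pi.mulSingle i ti * Pi.mulSingle j tj with hg0
  have hg0i : g0 i = ti := by
    rw [hg0, Pi.mul_apply, Pi.mulSingle_eq_same, Pi.mulSingle_eq_of_ne hij, mul_one]
  have hg0j : g0 j = tj := by
    rw [hg0, Pi.mul_apply, Pi.mulSingle_eq_same, Pi.mulSingle_eq_of_ne (Ne.symm hij), one_mul]
  have hg0l : ∀ l : J, l ≠ i → l ≠ j → g0 l = 1 := by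
    intro l hli hlj
    rw [hg0, Pi.mul_apply, Pi.mulSingle_eq_of_ne hli, Pi.mulSingle_eq_of_ne hlj, mul_one]
  have hg0ker : g0 ∈ (epsJ J).ker := by
    rw [MonoidHom.mem_ker, epsJ_apply]
    have hprod : ∏ l : J, eps l.1 (g0 l) = eps i.1 (g0 i) * eps j.1 (g0 j) := by
      rw [← Finset.prod_pair (f := fun l : J => eps l.1 (g0 l)) hij]
      symm
      apply Finset.prod_subset (Finset.subset_univ _)
      intro l _ hl
      rw [Finset.mem_insert, Finset.mem_singleton, not_or] at hl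
      rw [hg0l l hl.1 hl.2, map_one]
    rw [hprod, hg0i, hg0j, hti, htj]
    rfl
  obtain ⟨g1, hg1, g2, hg2, hg⟩ := exists_mul_of_sup S₁ S₂ hcomm hsup ⟨g0, hg0ker⟩
  have hcoord : ∀ l : J, g0 l = g1.1 l * g2.1 l := by
    intro l
    have := congrArg (fun x : ↥(epsJ J).ker => x.1 l) hg
    simpa using this
  -- central elements are even
  have heven : ∀ l : J, 2 ≤ l.1 → ∀ x ∈ Subgroup.center (W l.1), eps l.1 x = 1 := by
    intro l hl x hx
    exact MonoidHom.mem_ker.mp (hW.center_le_ker l.1 hl hx)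
  have hm1 : ∀ l : J, g1.1 l ∈ S₁.map (prj J l) := fun l => ⟨g1, hg1, rfl⟩
  have hm2 : ∀ l : J, g2.1 l ∈ S₂.map (prj J l) := fun l => ⟨g2, hg2, rfl⟩
  -- the coordinates of `g1`
  have hci : eps i.1 (g1.1 i) = -1 := by
    have h2' : eps i.1 (g2.1 i) = 1 := heven i hi _ (hi' (hm2 i))
    have := congrArg (eps i.1) (hcoord i)
    rw [hg0i, hti, map_mul, h2', mul_one] at this
    exact this.symm
  have hcl : ∀ l : J, l ≠ i → eps l.1 (g1.1 l) = 1 := by
    intro l hli
    rcases eq_zero_or_two_le h1 l with h0 | hl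
    · have := subsingleton_W_of_eq_zero h0
      rw [Subsingleton.elim (g1.1 l) 1, map_one]
    · by_cases hlj : l = j
      · subst hlj
        exact heven l hl _ (hj' (hm1 l))
      · have h3 := congrArg (eps l.1) (hcoord l)
        rw [hg0l l hli hlj, map_one, map_mul] at h3
        rcases hside l hl with hs | hs
        · exact heven l hl _ (hs (hm1 l))
        · have h4 : eps l.1 (g2.1 l) = 1 := heven l hl _ (hs (hm2 l))
          rw [h4, mul_one] at h3
          exact h3.symm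
  have hker : epsJ J g1.1 = 1 := MonoidHom.mem_ker.mp g1.2
  rw [epsJ_apply, Finset.prod_eq_single i (fun l _ hl => hcl l hl)
    (fun h => absurd (Finset.mem_univ i) h), hci] at hker
  exact absurd hker (by decide)

end caseB2

end Cfsg.Agent.Lib.Helper51_S2221_STEP5
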