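import Mathlib
import Cfsg.Agent.Lib.Helper81_JointEigen

/-!
# S2332, abstract part of the trace formula (helper51)

`G` a group, `ρ` a finite-dimensional complex representation, `U` an abelian subgroup of finite exponent,
`U₁ ≤ U`, `x` an element with `[x, U] ≤ U₁` normalizing `U` and `U₁`.  If `ρ x` fixes every `U`-weight
vector whose weight is nontrivial but trivial on `U₁`, then `ρ x - 1` maps `V^{U₁}` into `V^U`, and hence
`tr(ρ x | V^{U₁}) - dim V^{U₁} = tr(ρ x | V^U) - dim V^U`.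
-/

set_option autoImplicit false

namespace Cfsg.Agent.Lib.Helper51_S2332Abs

open Module

variable {G : Type*} [Group G] {V : Type*} [AddCommGroup V] [Module ℂ V]
  (ρ : Representation ℂ G V)

/-- the subspace of vectors fixed by a subgroup -/
def inv (H : Subgroup G) : Submodule ℂ V where
  carrier := {w | ∀ h ∈ H, ρ h w = w}
  add_mem' := by
    intro a b ha hb h hh
    rw [map_add, ha h hh, hb h hh]
  zero_mem' := by
    intro h _
    rw [map_zero]
  smul_mem' := by
    intro c a ha h hh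
    rw [map_smul, ha h hh]

theorem mem_inv {H : Subgroup G} {w : V} : w ∈ inv ρ H ↔ ∀ h ∈ H, ρ h w = w := Iff.rfl

theorem inv_mono {H K : Subgroup G} (h : H ≤ K) : inv ρ K ≤ inv ρ H :=
  fun _ hw g hg => hw g (h hg)

theorem map_mem_inv {H : Subgroup G} {x : G} (hx : ∀ h ∈ H, x⁻¹ * h * x ∈ H) {w : V}
    (hw : w ∈ inv ρ H) : ρ x w ∈ inv ρ H := by
  intro h hh
  have e : h * x = x * (x⁻¹ * h * x) := by group
  calc ρ h (ρ x w) = ρ (h * x) w := by rw [map_mul]; rfl
    _ = ρ (x * (x⁻¹ * h * x)) w := by rw [e]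
    _ = ρ x (ρ (x⁻¹ * h * x) w) := by rw [map_mul]; rfl
    _ = ρ x w := by rw [hw _ (hx h hh)]

variable [FiniteDimensional ℂ V]

/-- The key lemma: `ρ x - 1` maps `V^{U₁}` into `V^U`. -/
theorem sub_mem_inv (U U1 : Subgroup G) (p : ℕ) (hp : p ≠ 0) (hexp : ∀ u ∈ U, u ^ p = 1)
    (hcomm : ∀ u ∈ U, ∀ u' ∈ U, u * u' = u' * u) (h1 : U1 ≤ U)
    (x : G) (hxU : ∀ u ∈ U, x⁻¹ * u * x ∈ U)
    (hw : ∀ lam : U → ℂ, (∃ u, lam u ≠ 1) → (∀ u : U, (u : G) ∈ U1 → lam u = 1) →
      ∀ w : V, (∀ u : U, ρ u w = lam u • w) → ρ x w = w)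
    (w : V) (hw1 : w ∈ inv ρ U1) : ρ x w - w ∈ inv ρ U := by
  classical
  -- the restricted commuting family on `M = V^{U₁}`
  have hinvM : ∀ u : U, ∀ m ∈ inv ρ U1, ρ u m ∈ inv ρ U1 := by
    intro u m hm
    apply map_mem_inv ρ _ hm
    intro h hh
    have e : (u : G)⁻¹ * h * u = h := by
      rw [mul_assoc, hcomm h (h1 hh) u u.2, ← mul_assoc, inv_mul_cancel, one_mul]
    rw [e]; exact hh
  let A : U → End ℂ (inv ρ U1) := fun u => (ρ u).restrict (hinvM u)
  have hA_apply : ∀ (u : U) (m : inv ρ U1), ((A u m : inv ρ U1) : V) = ρ u m := fun u m => rfl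
  have hApow : ∀ (k : ℕ) (u : U) (m : inv ρ U1), (((A u ^ k) m : inv ρ U1) : V) = ρ ((u : G) ^ k) m := by
    intro k
    induction k with
    | zero => intro u m; simp
    | succ k ih =>
      intro u m
      rw [pow_succ, Module.End.mul_apply, ih, hA_apply, pow_succ, map_mul]
      rfl
  have hA : ∀ u, A u ^ p = 1 := by
    intro u
    apply LinearMap.ext
    intro m
    apply Subtype.ext
    rw [hApow, hexp u u.2, map_one]
    rfl
  have hAcomm : ∀ u u', Commute (A u) (A u') := by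
    intro u u'
    apply LinearMap.ext
    intro m
    apply Subtype.ext
    show ρ u (ρ u' m) = ρ u' (ρ u m)
    have e1 : ρ u (ρ u' m) = ρ ((u : G) * u') m := by rw [map_mul]; rfl
    have e2 : ρ u' (ρ u m) = ρ ((u' : G) * u) m := by rw [map_mul]; rfl
    rw [e1, e2, hcomm u u.2 u' u'.2]
  have hpC : ((p : ℕ) : ℂ) ≠ 0 := by exact_mod_cast hp
  have htop := Cfsg.Agent.Lib.Helper81_JointEigen.iSup_jointEigenspace hpC A hA hAcomm
  -- induction over the joint eigenspaces
  have hmem : (⟨w, hw1⟩ : inv ρ U1) ∈ ⨆ χ : U → ℂ,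
      Cfsg.Agent.Lib.Helper81_JointEigen.jointEigenspace A χ := by
    rw [htop]; exact Submodule.mem_top
  have key : ∀ m : inv ρ U1, ρ x (m : V) - (m : V) ∈ inv ρ U := by
    intro m
    have hm : m ∈ ⨆ χ : U → ℂ, Cfsg.Agent.Lib.Helper81_JointEigen.jointEigenspace A χ := by
      rw [htop]; exact Submodule.mem_top
    induction hm using Submodule.iSup_induction' with
    | mem χ m hm =>
      rw [Cfsg.Agent.Lib.Helper81_JointEigen.mem_jointEigenspace] at hm
      have hm' : ∀ u : U, ρ u (m : V) = χ u • (m : V) := by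
        intro u
        have := congrArg Subtype.val (hm u)
        exact this
      by_cases h0 : (m : V) = 0
      · rw [h0, map_zero, sub_zero]; exact Submodule.zero_mem _
      by_cases hχ : ∃ u, χ u ≠ 1
      · have htriv : ∀ u : U, (u : G) ∈ U1 → χ u = 1 := by
          intro u hu
          have e1 := hm' u
          rw [m.2 u hu] at e1
          have : ((1 : ℂ) - χ u) • (m : V) = 0 := by rw [sub_smul, one_smul, ← e1, sub_self]
          rcases smul_eq_zero.mp this with h | h
          · exact (sub_eq_zero.mp h).symm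
          · exact absurd h h0
        rw [hw χ hχ htriv m hm', sub_self]
        exact Submodule.zero_mem _
      · push Not at hχ
        have hmU : (m : V) ∈ inv ρ U := by
          intro u hu
          have := hm' ⟨u, hu⟩
          rw [hχ, one_smul] at this
          exact this
        exact Submodule.sub_mem _ (map_mem_inv ρ hxU hmU) hmU
    | zero =>
      simp
    | add a b _ _ ha hb =>
      have e : ρ x ((a + b : inv ρ U1) : V) - ((a + b : inv ρ U1) : V) =
          (ρ x (a : V) - (a : V)) + (ρ x (b : V) - (b : V)) := by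
        rw [Submodule.coe_add, map_add]; abel
      rw [e]
      exact Submodule.add_mem _ ha hb
  exact key ⟨w, hw1⟩

/-- trace form of `sub_mem_inv` -/
theorem trace_restrict_inv (U U1 : Subgroup G) (h1 : U1 ≤ U) (x : G)
    (hxU : ∀ u ∈ U, x⁻¹ * u * x ∈ U) (hxU1 : ∀ u ∈ U1, x⁻¹ * u * x ∈ U1)
    (hsub : ∀ w ∈ inv ρ U1, ρ x w - w ∈ inv ρ U) :
    LinearMap.trace ℂ (inv ρ U1) ((ρ x).restrict (fun _ hw => map_mem_inv ρ hxU1 hw)) -
        (finrank ℂ (inv ρ U1) : ℂ) =
      LinearMap.trace ℂ (inv ρ U) ((ρ x).restrict (fun _ hw => map_mem_inv ρ hxU hw)) -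
        (finrank ℂ (inv ρ U) : ℂ) := by
  classical
  -- work inside `M = V^{U₁}` with the submodule `p = V^U ⊓ M`
  set M := inv ρ U1 with hM
  let fM : End ℂ M := (ρ x).restrict (fun _ hw => map_mem_inv ρ hxU1 hw)
  let p : Submodule ℂ M := (inv ρ U).comap M.subtype
  have hle : inv ρ U ≤ M := inv_mono ρ h1
  have hg : ∀ m : M, (fM - 1) m ∈ p := by
    intro m
    show ((fM - 1) m : V) ∈ inv ρ U
    have : ((fM - 1) m : V) = ρ x (m : V) - (m : V) := rfl
    rw [this]
    exact hsub m m.2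
  have htr := LinearMap.trace_restrict_eq_of_forall_mem p (fM - 1) hg
  -- identify `p` with `V^U`
  let e : p ≃ₗ[ℂ] inv ρ U :=
    { toFun := fun m => ⟨(m : M), m.2⟩
      map_add' := fun a b => rfl
      map_smul' := fun c a => rfl
      invFun := fun w => ⟨⟨(w : V), hle w.2⟩, w.2⟩
      left_inv := fun m => rfl
      right_inv := fun w => rfl }
  have hconj : ((fM - 1).restrict (fun m _ => hg m) : End ℂ p) =
      e.symm.conj ((ρ x).restrict (fun _ hw => map_mem_inv ρ hxU hw) - 1) := by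
    apply LinearMap.ext
    intro m
    apply Subtype.ext
    apply Subtype.ext
    rfl
  rw [hconj, LinearMap.trace_conj', map_sub, map_sub, LinearMap.trace_one, LinearMap.trace_one] at htr
  exact htr.symm

/-- averaging: `|H| · tr(ρ x | V^H) = ∑_{h ∈ H} tr ρ(x h)` for `x` normalizing the finite subgroup `H` -/
theorem card_mul_trace_restrict_inv (H : Subgroup G) [Fintype H] (x : G)
    (hx : ∀ h ∈ H, x⁻¹ * h * x ∈ H) :
    (Fintype.card H : ℂ) *
        LinearMap.trace ℂ (inv ρ H) ((ρ x).restrict (fun _ hw => map_mem_inv ρ hx hw)) =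
      ∑ h : H, LinearMap.trace ℂ V (ρ (x * h)) := by
  classical
  let E : End ℂ V := ∑ h : H, ρ h
  have hE : ∀ v, E v ∈ inv ρ H := by
    intro v g hg
    show ρ g ((∑ h : H, ρ h) v) = (∑ h : H, ρ h) v
    rw [LinearMap.sum_apply, map_sum]
    have : ∀ h : H, ρ g (ρ h v) = ρ ((⟨g, hg⟩ * h : H) : G) v := by
      intro h
      rw [Subgroup.coe_mul, map_mul]; rfl
    simp_rw [this]
    exact Fintype.sum_bijective (fun h : H => ⟨g, hg⟩ * h) (Group.mulLeft_bijective _) _ _
      (fun h => rfl)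
  have hEinv : ∀ v ∈ inv ρ H, E v = (Fintype.card H : ℂ) • v := by
    intro v hv
    show (∑ h : H, ρ h) v = _
    rw [LinearMap.sum_apply]
    have : ∀ h : H, ρ h v = v := fun h => hv h h.2
    simp_rw [this]
    rw [Finset.sum_const, Finset.card_univ, Nat.cast_smul_eq_nsmul]
  have hxE : ∀ v, (ρ x ∘ₗ E) v ∈ inv ρ H := fun v => map_mem_inv ρ hx (hE v)
  have htr := LinearMap.trace_restrict_eq_of_forall_mem (inv ρ H) (ρ x ∘ₗ E) hxE
  have hres : ((ρ x ∘ₗ E).restrict (fun v _ => hxE v) : End ℂ (inv ρ H)) =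
      (Fintype.card H : ℂ) • (ρ x).restrict (fun _ hw => map_mem_inv ρ hx hw) := by
    apply LinearMap.ext
    intro m
    apply Subtype.ext
    show ρ x (E (m : V)) = (Fintype.card H : ℂ) • ρ x (m : V)
    rw [hEinv _ m.2, map_smul]
  rw [hres, map_smul, smul_eq_mul] at htr
  rw [htr]
  show LinearMap.trace ℂ V (ρ x ∘ₗ ∑ h : H, ρ h) = _
  have e : ρ x ∘ₗ ∑ h : H, ρ h = ∑ h : H, ρ (x * h) := by
    apply LinearMap.ext
    intro v
    simp only [LinearMap.comp_apply, LinearMap.sum_apply, map_sum, map_mul, Module.End.mul_apply]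
  rw [e, map_sum]

/-- `|H| · dim V^H = ∑_{h ∈ H} tr ρ(h)` -/
theorem card_mul_finrank_inv (H : Subgroup G) [Fintype H] :
    (Fintype.card H : ℂ) * (finrank ℂ (inv ρ H) : ℂ) = ∑ h : H, LinearMap.trace ℂ V (ρ h) := by
  have hx : ∀ h ∈ H, (1 : G)⁻¹ * h * 1 ∈ H := by
    intro h hh
    rw [inv_one, one_mul, mul_one]; exact hh
  have := card_mul_trace_restrict_inv ρ H 1 hx
  have e : ((ρ 1).restrict (fun _ hw => map_mem_inv ρ hx hw) : End ℂ (inv ρ H)) = 1 := by
    apply LinearMap.ext
    intro m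
    apply Subtype.ext
    show ρ 1 (m : V) = m
    rw [map_one]; rfl
  rw [e, LinearMap.trace_one] at this
  rw [this]
  apply Finset.sum_congr rfl
  intro h _
  rw [one_mul]

/-- the weight space of a subgroup for an eigenvalue function -/
def wsp (U : Subgroup G) (lam : U → ℂ) : Submodule ℂ V where
  carrier := {w | ∀ u : U, ρ u w = lam u • w}
  add_mem' := by
    intro a b ha hb u
    rw [map_add, ha u, hb u, smul_add]
  zero_mem' := by
    intro u
    rw [map_zero, smul_zero]
  smul_mem' := by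
    intro c a ha u
    rw [map_smul, ha u, smul_comm]

omit [FiniteDimensional ℂ V] in
theorem mem_wsp {U : Subgroup G} {lam : U → ℂ} {w : V} :
    w ∈ wsp ρ U lam ↔ ∀ u : U, ρ u w = lam u • w := Iff.rfl

omit [FiniteDimensional ℂ V] in
/-- a weight with a nonzero weight vector is multiplicative and nowhere zero -/
theorem weight_mul {U : Subgroup G} {lam : U → ℂ} {w : V} (hw0 : w ≠ 0)
    (hw : ∀ u : U, ρ u w = lam u • w) :
    (∀ u u' : U, lam (u * u') = lam u * lam u') ∧ (∀ u, lam u ≠ 0) ∧ lam 1 = 1 := by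
  have h1 : lam 1 = 1 := by
    have := hw 1
    rw [Subgroup.coe_one, map_one, Module.End.one_apply] at this
    have h : ((1 : ℂ) - lam 1) • w = 0 := by rw [sub_smul, one_smul, ← this, sub_self]
    rcases smul_eq_zero.mp h with h | h
    · exact (sub_eq_zero.mp h).symm
    · exact absurd h hw0
  have hmul : ∀ u u' : U, lam (u * u') = lam u * lam u' := by
    intro u u'
    have e1 := hw (u * u')
    rw [Subgroup.coe_mul, map_mul, Module.End.mul_apply, hw u', map_smul, hw u, smul_smul] at e1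
    have h : (lam u' * lam u - lam (u * u')) • w = 0 := by rw [sub_smul, e1, sub_self]
    rcases smul_eq_zero.mp h with h | h
    · rw [mul_comm]; exact (sub_eq_zero.mp h).symm
    · exact absurd h hw0
  refine ⟨hmul, ?_, h1⟩
  intro u h0
  have := hmul u u⁻¹
  rw [mul_inv_cancel, h1, h0, zero_mul] at this
  exact one_ne_zero this

/-- twisted averaging: `|U| · dim V_λ = ∑_u λ(u)⁻¹ tr ρ(u)` -/
theorem card_mul_finrank_wsp (U : Subgroup G) [Fintype U] (lam : U → ℂ)
    (hmul : ∀ u u' : U, lam (u * u') = lam u * lam u') (hne : ∀ u, lam u ≠ 0) :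
    (Fintype.card U : ℂ) * (finrank ℂ (wsp ρ U lam) : ℂ) =
      ∑ u : U, (lam u)⁻¹ * LinearMap.trace ℂ V (ρ u) := by
  classical
  let P : End ℂ V := ∑ u : U, (lam u)⁻¹ • ρ u
  have hP : ∀ v, P v ∈ wsp ρ U lam := by
    intro v g
    show ρ g ((∑ u : U, (lam u)⁻¹ • ρ u) v) = lam g • (∑ u : U, (lam u)⁻¹ • ρ u) v
    rw [LinearMap.sum_apply, map_sum, Finset.smul_sum]
    have : ∀ u : U, ρ g (((lam u)⁻¹ • ρ u) v) = lam g • ((lam (g * u))⁻¹ • ρ ((g * u : U) : G)) v := by
      intro u
      rw [LinearMap.smul_apply, LinearMap.smul_apply, map_smul, smul_smul, Subgroup.coe_mul, map_mul,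
        Module.End.mul_apply, hmul, mul_inv, ← mul_assoc, mul_inv_cancel₀ (hne g), one_mul]
    simp_rw [this]
    exact Fintype.sum_bijective (fun u : U => g * u) (Group.mulLeft_bijective _) _ _ (fun u => rfl)
  have hPw : ∀ v ∈ wsp ρ U lam, P v = (Fintype.card U : ℂ) • v := by
    intro v hv
    show (∑ u : U, (lam u)⁻¹ • ρ u) v = _
    rw [LinearMap.sum_apply]
    have : ∀ u : U, ((lam u)⁻¹ • ρ u) v = v := by
      intro u
      rw [LinearMap.smul_apply, hv u, smul_smul, inv_mul_cancel₀ (hne u), one_smul]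
    simp_rw [this]
    rw [Finset.sum_const, Finset.card_univ, Nat.cast_smul_eq_nsmul]
  have htr := LinearMap.trace_restrict_eq_of_forall_mem (wsp ρ U lam) P hP
  have hres : (P.restrict (fun v _ => hP v) : End ℂ (wsp ρ U lam)) = (Fintype.card U : ℂ) • 1 := by
    apply LinearMap.ext
    intro m
    apply Subtype.ext
    show P (m : V) = (Fintype.card U : ℂ) • (m : V)
    exact hPw _ m.2
  rw [hres, map_smul, smul_eq_mul, LinearMap.trace_one] at htr
  rw [htr]
  show LinearMap.trace ℂ V (∑ u : U, (lam u)⁻¹ • ρ u) = _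
  rw [map_sum]
  apply Finset.sum_congr rfl
  intro u _
  rw [map_smul, smul_eq_mul]

/-- if `tr ρ(u) = c` on `U - 1` and `λ` is a nontrivial weight then `|U| · dim V_λ = D - c` -/
theorem card_mul_finrank_wsp_of_const (U : Subgroup G) [Fintype U] (lam : U → ℂ)
    (hmul : ∀ u u' : U, lam (u * u') = lam u * lam u') (hne : ∀ u, lam u ≠ 0)
    (hnt : ∃ g, lam g ≠ 1) (c : ℂ) (hc : ∀ u : U, u ≠ 1 → LinearMap.trace ℂ V (ρ u) = c) :
    (Fintype.card U : ℂ) * (finrank ℂ (wsp ρ U lam) : ℂ) = (finrank ℂ V : ℂ) - c := by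
  classical
  rw [card_mul_finrank_wsp ρ U lam hmul hne]
  have h1 : lam 1 = 1 := by
    have := hmul 1 1
    rw [mul_one] at this
    exact (mul_left_cancel₀ (hne 1) (by rw [← this, mul_one])).symm
  obtain ⟨g, hg⟩ := hnt
  have hS : ∑ u : U, (lam u)⁻¹ = 0 := by
    have e : ∑ u : U, (lam u)⁻¹ = (lam g)⁻¹ * ∑ u : U, (lam u)⁻¹ := by
      rw [Finset.mul_sum]
      have : ∀ u : U, (lam g)⁻¹ * (lam u)⁻¹ = (lam (g * u))⁻¹ := by
        intro u; rw [hmul, mul_inv]
      simp_rw [this]
      exact (Fintype.sum_bijective (fun u : U => g * u) (Group.mulLeft_bijective _) _ _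
        (fun u => rfl)).symm
    have h2 : (1 - (lam g)⁻¹) * ∑ u : U, (lam u)⁻¹ = 0 := by
      rw [sub_mul, one_mul, ← e, sub_self]
    rcases mul_eq_zero.mp h2 with h | h
    · exfalso
      apply hg
      have : (lam g)⁻¹ = 1 := (sub_eq_zero.mp h).symm
      exact inv_eq_one.mp this
    · exact h
  have hsplit : ∀ u : U, (lam u)⁻¹ * LinearMap.trace ℂ V (ρ u) =
      (lam u)⁻¹ * c + (if u = 1 then (finrank ℂ V : ℂ) - c else 0) := by
    intro u
    by_cases hu : u = 1
    · subst hu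
      rw [if_pos rfl, h1, inv_one, one_mul, one_mul, Subgroup.coe_one, map_one, LinearMap.trace_one]
      ring
    · rw [if_neg hu, hc u hu, add_zero]
  simp_rw [hsplit]
  rw [Finset.sum_add_distrib, ← Finset.sum_mul, hS, zero_mul, zero_add, Finset.sum_ite_eq']
  simp

end Cfsg.Agent.Lib.Helper51_S2332Abs
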