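import Mathlib

/-!
# S2332: parametrisation of the characters of a finite vector space (helper51)

For a finite field `F`, an `F`-vector space `W` and a map `L : W → ℂ` with `L 0 = 1`,
`L (x + y) = L x * L y` there is an `F`-linear `θ : W → F` with `(∀ s, L (s • x) = 1) ↔ θ x = 0`
(the character is `ψ₀ ∘ θ` for a primitive additive character `ψ₀` of `F`).
-/

set_option autoImplicit false

namespace Cfsg.Agent.Lib.Helper51_S2332Param

variable {F : Type*} [Field F] [Finite F] {W : Type*} [AddCommGroup W] [Module F W]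

theorem exists_primitive : ∃ ψ : AddChar F ℂ, ψ.IsPrimitive := by
  obtain ⟨ψ, hψ⟩ := (AddChar.exists_apply_ne_zero (α := F) (a := 1)).mpr one_ne_zero
  refine ⟨ψ, AddChar.IsPrimitive.of_ne_one ?_⟩
  intro h
  apply hψ
  rw [h, AddChar.one_apply]

theorem mulShift_bijective {ψ : AddChar F ℂ} (hψ : ψ.IsPrimitive) :
    Function.Bijective ψ.mulShift := by
  have := Fintype.ofFinite F
  have hinj := AddChar.to_mulShift_inj_of_isPrimitive hψ
  rw [Fintype.bijective_iff_injective_and_card]
  refine ⟨hinj, ?_⟩
  rw [AddChar.card_eq]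

theorem exists_theta (L : W → ℂ) (hL0 : L 0 = 1) (hLadd : ∀ x y, L (x + y) = L x * L y) :
    ∃ θ : W →ₗ[F] F, ∀ x, (∀ s : F, L (s • x) = 1) ↔ θ x = 0 := by
  obtain ⟨ψ, hψ⟩ := exists_primitive (F := F)
  have hbij := mulShift_bijective hψ
  let Lx : W → AddChar F ℂ := fun x =>
    { toFun := fun s => L (s • x)
      map_zero_eq_one' := by rw [zero_smul, hL0]
      map_add_eq_mul' := fun s t => by rw [add_smul, hLadd] }
  have hLx : ∀ x s, Lx x s = L (s • x) := fun x s => rfl
  let e := Equiv.ofBijective _ hbij
  have he : ∀ x, ψ.mulShift (e.symm (Lx x)) = Lx x := fun x => e.apply_symm_apply (Lx x)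
  have hchar : ∀ x (c : F), ψ.mulShift c = Lx x → e.symm (Lx x) = c := by
    intro x c hc
    rw [← hc]
    exact e.symm_apply_apply c
  refine ⟨{ toFun := fun x => e.symm (Lx x), map_add' := ?_, map_smul' := ?_ }, ?_⟩
  · intro x y
    apply hchar
    rw [← AddChar.mulShift_mul, he, he]
    ext s
    rw [AddChar.mul_apply, hLx, hLx, hLx, smul_add, hLadd]
  · intro r x
    apply hchar
    ext s
    rw [AddChar.mulShift_apply, RingHom.id_apply, hLx, smul_smul]
    have := DFunLike.congr_fun (he x) (s * r)
    rw [AddChar.mulShift_apply, hLx] at this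
    rw [← this]
    congr 1
    rw [smul_eq_mul]; ring
  · intro x
    show (∀ s : F, L (s • x) = 1) ↔ e.symm (Lx x) = 0
    constructor
    · intro h
      apply hchar
      rw [AddChar.mulShift_zero]
      ext s
      rw [AddChar.one_apply, hLx, h]
    · intro h s
      have := DFunLike.congr_fun (he x) s
      rw [h, AddChar.mulShift_zero, AddChar.one_apply, hLx] at this
      exact this.symm

end Cfsg.Agent.Lib.Helper51_S2332Param
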