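import Mathlib
import Cfsg.Agent.Lib.Helper77_SLnDefs
import Cfsg.Prelude.Def_Characters
import Cfsg.Agent.S2336
import Cfsg.Agent.Lib.Helper16_Orbit

/-!
# S2332 package S2336G (helper51, for helper77): `Cfsg.Agent.S2336.result` for a general index type
-/

set_option autoImplicit false
open Matrix Cfsg.Agent.Lib.Helper5_Transv Cfsg.Agent.Lib.Helper77_SLnDefs

namespace Cfsg.Agent.Lib.Helper51_S2332_S2336G

variable {F : Type*} [Field F] [Fintype F] [DecidableEq F] {κ : Type} [Fintype κ] [DecidableEq κ]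
  {V : Type} [AddCommGroup V] [Module ℂ V] [FiniteDimensional ℂ V]

theorem s2336_general (ι : Type) [Fintype ι] [DecidableEq ι] (hn : 3 ≤ Fintype.card ι) :
    ∃ χ : Fin (Fintype.card F - 1) → (Matrix.SpecialLinearGroup ι F → ℂ),
      (∀ i, Cfsg.IsIrrCharacter (Matrix.SpecialLinearGroup ι F) (χ i)) ∧ Function.Injective χ ∧
      ∀ g : Matrix.SpecialLinearGroup ι F,
        (Nat.card (MulAction.fixedBy (NZv ι F) g) : ℂ) = 1 + ∑ i, χ i g := by
  classical
  obtain ⟨χ', hirr, hinj, hfix⟩ := Cfsg.Agent.S2336.result (F := F) (Fintype.card ι) hn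
  let σ : ι ≃ Fin (Fintype.card ι) := Fintype.equivFin ι
  let f : Matrix.SpecialLinearGroup ι F ≃* Matrix.SpecialLinearGroup (Fin (Fintype.card ι)) F :=
    slReindex σ
  refine ⟨fun i g => χ' i (f g), ?_, ?_, ?_⟩
  · intro i
    obtain ⟨k, ρ, hρ, hchar⟩ := hirr i
    have : ρ.IsIrreducible := hρ
    refine ⟨k, ρ.comp f.toMonoidHom,
      Cfsg.Agent.Lib.Helper16_Orbit.irreducible_comp ρ f.toMonoidHom f.surjective, ?_⟩
    funext g
    rw [Cfsg.Agent.Lib.Helper16_Orbit.character_comp, hchar]
    rfl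
  · intro i j hij
    apply hinj
    funext g'
    obtain ⟨g, rfl⟩ := f.surjective g'
    exact congrFun hij g
  · intro g
    rw [← hfix (f g)]
    congr 1
    apply Nat.card_congr
    have hkey : ∀ x : ι → F, ((f g : Matrix.SpecialLinearGroup (Fin (Fintype.card ι)) F) :
        Matrix (Fin (Fintype.card ι)) (Fin (Fintype.card ι)) F).mulVec (x ∘ σ.symm) =
        (g.1 *ᵥ x) ∘ σ.symm := by
      intro x
      show (Matrix.reindex σ σ g.1) *ᵥ (x ∘ σ.symm) = _
      rw [Matrix.reindex_apply, Matrix.submatrix_mulVec_equiv]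
      congr 2
      funext i
      simp
    have hne1 : ∀ x : ι → F, x ≠ 0 → x ∘ σ.symm ≠ 0 := by
      intro x hx h0
      apply hx
      funext i
      have := congrFun h0 (σ i)
      simpa using this
    have hne2 : ∀ v : Fin (Fintype.card ι) → F, v ≠ 0 → v ∘ σ ≠ 0 := by
      intro v hv h0
      apply hv
      funext i
      have := congrFun h0 (σ.symm i)
      simpa using this
    have hfix1 : ∀ x : NZv ι F, g • x = x → (f g).1 *ᵥ (x.1 ∘ σ.symm) = x.1 ∘ σ.symm := by
      intro x hx
      have hx' : g.1 *ᵥ x.1 = x.1 := by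
        have := congrArg Subtype.val hx
        rwa [smul_NZv_val] at this
      have := hkey x.1
      rw [hx'] at this
      exact this
    let mk : ∀ v : Fin (Fintype.card ι) → F, v ≠ 0 → NZv ι F := fun v hv => ⟨v ∘ σ, hne2 v hv⟩
    have hfix2 : ∀ (v : Fin (Fintype.card ι) → F) (hv : v ≠ 0), (f g).1 *ᵥ v = v →
        g • mk v hv = mk v hv := by
      intro v hv hgv
      apply Subtype.ext
      rw [smul_NZv_val]
      show g.1 *ᵥ (v ∘ σ) = v ∘ σ
      have h1 := hkey (v ∘ σ)
      have e : (v ∘ σ) ∘ σ.symm = v := by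
        funext i; simp
      rw [e] at h1
      have h2 : (g.1 *ᵥ (v ∘ σ)) ∘ σ.symm = v := by rw [← h1]; exact hgv
      funext i
      have := congrFun h2 (σ i)
      simpa using this
    exact
      { toFun := fun x => ⟨x.1.1 ∘ σ.symm, hne1 _ x.1.2, hfix1 x.1 x.2⟩
        invFun := fun v => ⟨mk v.1 v.2.1, hfix2 v.1 v.2.1 v.2.2⟩
        left_inv := by
          intro x
          apply Subtype.ext
          apply Subtype.ext
          funext i
          show (x.1.1 ∘ σ.symm) (σ i) = x.1.1 i
          simp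
        right_inv := by
          intro v
          apply Subtype.ext
          funext i
          show (v.1 ∘ σ) (σ.symm i) = v.1 i
          simp }

end Cfsg.Agent.Lib.Helper51_S2332_S2336G
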