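import Mathlib
import Cfsg.Prelude.Def_Characters
import Cfsg.Prelude.Def_Blocks
import Cfsg.Agent.Lib.Helper3_CharBurnside
import Cfsg.Agent.Lib.Helper3_CharEigen
import Cfsg.Agent.Lib.Helper77_BlockBasics
import Cfsg.Agent.Lib.Helper80_CharBasic
import Cfsg.Agent.Lib.Helper75_CharArith
import Cfsg.Agent.Lib.Helper74_DegPChar
import Cfsg.Agent.Lib.Helper74_LinAct

/-!
# Characters of prime degree of a nonabelian simple group (helper74)

Let `G` be a finite nonabelian simple group.

* `vanish_of_coprime` : Burnside's vanishing lemma: a nonprincipal irreducible character vanishes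
  at every `g ≠ 1` whose class size is prime to its degree.
* `eq_one_of_apply_eq` : nonprincipal irreducible characters are faithful.
* `card_sylow`, `centralizer_le` : if `G` has an irreducible character of prime degree `q` then a
  Sylow `q`-subgroup has order `q` and is self-centralizing.
* `vanish_on_sylow` : characters of degree `q` vanish on the nonidentity elements of a Sylow
  `q`-subgroup.
-/

set_option autoImplicit false

namespace Cfsg.Agent.Lib.Helper74_PrimeDegA

open Cfsg
open scoped ComplexConjugate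

universe u

variable {G : Type u} [Group G] [Finite G]

/-- the degree, from a representation affording the character -/
theorem charDegree_eq_of_rep (χ : IrrCharacter G) {n : ℕ}
    (ρ : Representation ℂ G (Fin n → ℂ)) (hρ : ρ.character = (χ : G → ℂ)) :
    charDegree (χ : G → ℂ) = n := by
  have h1 := Helper77_BlockBasics.apply_one_eq_charDegree χ
  have h2 : (χ : G → ℂ) 1 = (n : ℂ) := by
    rw [← hρ, Representation.char_one]
    simp
  rw [h2] at h1
  exact_mod_cast h1.symm

/-- Burnside's vanishing lemma in a nonabelian simple group. -/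
theorem vanish_of_coprime [IsSimpleGroup G] (hna : ¬ ∀ a b : G, a * b = b * a)
    (χ : IrrCharacter G) (hχ : (χ : G → ℂ) ≠ fun _ => 1) (g : G) (hg : g ≠ 1)
    (hcop : Nat.Coprime (charDegree (χ : G → ℂ)) (Subgroup.centralizer ({g} : Set G)).index) :
    (χ : G → ℂ) g = 0 := by
  classical
  have : Fintype G := Fintype.ofFinite G
  obtain ⟨n, ρ, hirr, hρ⟩ := χ.2
  have := hirr
  have hn : Module.finrank ℂ (Fin n → ℂ) = n := by simp
  have hdeg := charDegree_eq_of_rep χ ρ hρ
  rcases Helper3_CharBurnside.char_eq_zero_or_norm_eq_of_coprime ρ g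
      (by rw [hn, ← hdeg]; exact hcop) with h | h
  · rw [← hρ]; exact h
  · exfalso
    have hsc := Helper3_CharEigen.rho_eq_smul_id_of_norm_char_eq ρ g h
    exact Helper3_CharBurnside.not_scalar_of_simple_nonabelian hna ρ (by rw [hρ]; exact hχ) g hg hsc

/-- Nonprincipal irreducible characters of a nonabelian simple group are faithful. -/
theorem eq_one_of_apply_eq [IsSimpleGroup G] (hna : ¬ ∀ a b : G, a * b = b * a)
    (χ : IrrCharacter G) (hχ : (χ : G → ℂ) ≠ fun _ => 1) (g : G)
    (h : (χ : G → ℂ) g = (χ : G → ℂ) 1) : g = 1 := by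
  classical
  by_contra hg
  have : Fintype G := Fintype.ofFinite G
  obtain ⟨n, ρ, hirr, hρ⟩ := χ.2
  have := hirr
  have hn : Module.finrank ℂ (Fin n → ℂ) = n := by simp
  have h1 : ‖ρ.character g‖ = (Module.finrank ℂ (Fin n → ℂ) : ℝ) := by
    rw [hρ, h, ← hρ, Representation.char_one, hn]
    simp
  have hsc := Helper3_CharEigen.rho_eq_smul_id_of_norm_char_eq ρ g h1
  exact Helper3_CharBurnside.not_scalar_of_simple_nonabelian hna ρ (by rw [hρ]; exact hχ) g hg hsc

/-- an irreducible character of degree different from one is not the principal character -/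
theorem ne_one_of_charDegree_ne (χ : IrrCharacter G) (h : charDegree (χ : G → ℂ) ≠ 1) :
    (χ : G → ℂ) ≠ fun _ => 1 := by
  intro h1
  apply h
  have h2 := Helper77_BlockBasics.apply_one_eq_charDegree χ
  have h3 : (χ : G → ℂ) 1 = 1 := by rw [h1]
  rw [h3] at h2
  exact_mod_cast h2.symm

section sylow

variable {q : ℕ} [hq : Fact q.Prime]

/-- elements centralizing a Sylow `q`-subgroup have class size prime to `q` -/
theorem coprime_index_centralizer (Q : Sylow q G) {g : G}
    (hg : g ∈ Subgroup.centralizer ((Q : Subgroup G) : Set G)) :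
    Nat.Coprime q (Subgroup.centralizer ({g} : Set G)).index := by
  have hle : (Q : Subgroup G) ≤ Subgroup.centralizer ({g} : Set G) := by
    intro u hu
    rw [Subgroup.mem_centralizer_iff]
    intro h hh
    rw [Set.mem_singleton_iff] at hh
    subst hh
    exact ((Subgroup.mem_centralizer_iff.mp hg) u hu).symm
  have h1 : (Subgroup.centralizer ({g} : Set G)).index ∣ (Q : Subgroup G).index :=
    Subgroup.index_dvd_of_le hle
  have h2 : ¬ q ∣ (Q : Subgroup G).index := Q.not_dvd_index
  rw [Nat.Prime.coprime_iff_not_dvd hq.out]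
  exact fun h => h2 (h.trans h1)

/-- characters of degree `q` vanish on the nonidentity elements centralizing a Sylow
`q`-subgroup -/
theorem vanish_on_centralizer [IsSimpleGroup G] (hna : ¬ ∀ a b : G, a * b = b * a)
    (χ : IrrCharacter G) (hχ : charDegree (χ : G → ℂ) = q) (Q : Sylow q G) {g : G}
    (hg : g ∈ Subgroup.centralizer ((Q : Subgroup G) : Set G)) (hg1 : g ≠ 1) :
    (χ : G → ℂ) g = 0 := by
  apply vanish_of_coprime hna χ _ g hg1
  · rw [hχ]
    exact coprime_index_centralizer Q hg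
  · apply ne_one_of_charDegree_ne
    rw [hχ]
    exact hq.out.one_lt.ne'

end sylow

section sylowStructure

open Cfsg.Agent.Lib.Helper75_CharArith Cfsg.Agent.Lib.Helper3_CharBridge

variable {q : ℕ} [hq : Fact q.Prime]

/-- a nontrivial central element of a nontrivial Sylow subgroup -/
theorem exists_central (Q : Sylow q G) (hdvd : q ∣ Nat.card G) :
    ∃ z : ↥(Q : Subgroup G), z ≠ 1 ∧ z ∈ Subgroup.center ↥(Q : Subgroup G) := by
  have hne : (Q : Subgroup G) ≠ ⊥ := Q.ne_bot_of_dvd_card hdvd
  have hnt : Nontrivial ↥(Q : Subgroup G) := (Subgroup.nontrivial_iff_ne_bot _).mpr hne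
  have hc : Nontrivial (Subgroup.center ↥(Q : Subgroup G)) := Q.isPGroup'.center_nontrivial
  obtain ⟨z, hz⟩ := exists_ne (1 : Subgroup.center ↥(Q : Subgroup G))
  exact ⟨z.1, fun h => hz (Subtype.ext h), z.2⟩

theorem central_mem_centralizer (Q : Sylow q G) {z : ↥(Q : Subgroup G)}
    (hz : z ∈ Subgroup.center ↥(Q : Subgroup G)) :
    (z : G) ∈ Subgroup.centralizer ((Q : Subgroup G) : Set G) := by
  rw [Subgroup.mem_centralizer_iff]
  intro u hu
  have := (Subgroup.mem_center_iff.mp hz) ⟨u, hu⟩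
  exact congrArg Subtype.val this

/-- the centralizer of a Sylow `q`-subgroup has order dividing `q` -/
theorem card_centralizer_dvd [IsSimpleGroup G] (hna : ¬ ∀ a b : G, a * b = b * a)
    (χ : IrrCharacter G) (hχ : charDegree (χ : G → ℂ) = q) (Q : Sylow q G) :
    Nat.card (Subgroup.centralizer ((Q : Subgroup G) : Set G)) ∣ q := by
  classical
  have : Fintype G := Fintype.ofFinite G
  set C := Subgroup.centralizer ((Q : Subgroup G) : Set G) with hC
  have : Fintype C := Fintype.ofFinite C
  have hres : IsCharacter C (fun c : C => (χ : G → ℂ) c) :=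
    isCharacter_restrict C (isCharacter_of_isIrrCharacter χ.2)
  have hone : IsCharacter C (fun _ : C => (1 : ℂ)) :=
    isCharacter_of_isIrrCharacter (Helper80_CharBasic.oneIrr C).2
  obtain ⟨m, hm⟩ := classInner_isCharacter_nat hres hone
  have hsum : classInner (fun c : C => (χ : G → ℂ) c) (fun _ => (1 : ℂ)) =
      (Nat.card C : ℂ)⁻¹ * (q : ℂ) := by
    unfold classInner
    congr 1
    rw [Finset.sum_eq_single (1 : C)]
    · simp only [map_one, mul_one, Subgroup.coe_one]
      rw [Helper77_BlockBasics.apply_one_eq_charDegree, hχ]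
    · intro c _ hc
      show (χ : G → ℂ) (c : G) * (starRingEnd ℂ) (1 : ℂ) = 0
      rw [vanish_on_centralizer hna χ hχ Q c.2 (fun h => hc (Subtype.ext h))]
      simp
    · intro h
      exact absurd (Finset.mem_univ _) h
  rw [hsum] at hm
  have hC0 : (Nat.card C : ℂ) ≠ 0 := by
    rw [Nat.cast_ne_zero]
    exact Nat.card_pos.ne'
  have h1 : (q : ℂ) = ((m * Nat.card C : ℕ) : ℂ) := by
    push_cast
    rw [← hm]
    field_simp
  have h2 : q = m * Nat.card C := by exact_mod_cast h1
  exact ⟨m, by rw [h2]; ring⟩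

/-- the centralizer of a Sylow `q`-subgroup has order `q` -/
theorem card_centralizer [IsSimpleGroup G] (hna : ¬ ∀ a b : G, a * b = b * a)
    (χ : IrrCharacter G) (hχ : charDegree (χ : G → ℂ) = q) (Q : Sylow q G) :
    Nat.card (Subgroup.centralizer ((Q : Subgroup G) : Set G)) = q := by
  have hdvd : q ∣ Nat.card G := by
    rw [← hχ]
    exact Helper77_BlockBasics.charDegree_dvd_card χ
  obtain ⟨z, hz1, hz⟩ := exists_central Q hdvd
  have hmem := central_mem_centralizer Q hz
  rcases (Nat.dvd_prime hq.out).mp (card_centralizer_dvd hna χ hχ Q) with h | h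
  · exfalso
    rw [Subgroup.card_eq_one] at h
    rw [h, Subgroup.mem_bot] at hmem
    exact hz1 (Subtype.ext hmem)
  · exact h

/-- a Sylow `q`-subgroup is commutative -/
theorem sylow_comm [IsSimpleGroup G] (hna : ¬ ∀ a b : G, a * b = b * a)
    (χ : IrrCharacter G) (hχ : charDegree (χ : G → ℂ) = q) (Q : Sylow q G) :
    ∀ a b : ↥(Q : Subgroup G), a * b = b * a := by
  classical
  have : Fintype G := Fintype.ofFinite G
  have : Fintype ↥(Q : Subgroup G) := Fintype.ofFinite _
  have hχne : (χ : G → ℂ) ≠ fun _ => 1 := by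
    apply ne_one_of_charDegree_ne
    rw [hχ]
    exact hq.out.one_lt.ne'
  have hdvd : q ∣ Nat.card G := by
    rw [← hχ]
    exact Helper77_BlockBasics.charDegree_dvd_card χ
  obtain ⟨z, hz1, hz⟩ := exists_central Q hdvd
  have hzv : (χ : G → ℂ) (z : G) = 0 :=
    vanish_on_centralizer hna χ hχ Q (central_mem_centralizer Q hz)
      (fun h => hz1 (Subtype.ext h))
  have hφ : IsCharacter ↥(Q : Subgroup G) (fun u : ↥(Q : Subgroup G) => (χ : G → ℂ) u) :=
    isCharacter_restrict _ (isCharacter_of_isIrrCharacter χ.2)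
  obtain ⟨m, hm, hsum⟩ := exists_multiplicities hφ
  have hval : ∀ x : ↥(Q : Subgroup G), (χ : G → ℂ) x =
      ∑ ψ : IrrCharacter ↥(Q : Subgroup G), (m ψ : ℂ) * (ψ : ↥(Q : Subgroup G) → ℂ) x := by
    intro x
    have := congrFun hsum x
    simp only [Finset.sum_apply, Pi.smul_apply, smul_eq_mul] at this
    exact this
  -- the degree equation
  have hdeg : q = ∑ ψ : IrrCharacter ↥(Q : Subgroup G),
      m ψ * charDegree (ψ : ↥(Q : Subgroup G) → ℂ) := by
    have h1 := hval 1
    rw [Subgroup.coe_one, Helper77_BlockBasics.apply_one_eq_charDegree, hχ] at h1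
    have h2 : (q : ℂ) = ((∑ ψ : IrrCharacter ↥(Q : Subgroup G),
        m ψ * charDegree (ψ : ↥(Q : Subgroup G) → ℂ) : ℕ) : ℂ) := by
      rw [h1]
      push_cast
      apply Finset.sum_congr rfl
      intro ψ _
      rw [Helper77_BlockBasics.apply_one_eq_charDegree]
    exact_mod_cast h2
  -- all constituents are linear
  have hlin : ∀ ψ : IrrCharacter ↥(Q : Subgroup G), m ψ ≠ 0 →
      charDegree (ψ : ↥(Q : Subgroup G) → ℂ) = 1 := by
    intro ψ hmψ
    by_contra hne
    have hd1 : charDegree (ψ : ↥(Q : Subgroup G) → ℂ) ∣ Nat.card ↥(Q : Subgroup G) :=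
      Helper77_BlockBasics.charDegree_dvd_card ψ
    obtain ⟨k, hk⟩ := Q.isPGroup'.exists_card_eq
    rw [hk] at hd1
    obtain ⟨j, _, hj⟩ := (Nat.dvd_prime_pow hq.out).mp hd1
    have hj0 : j ≠ 0 := by
      rintro rfl
      rw [pow_zero] at hj
      exact hne hj
    have hqd : q ≤ charDegree (ψ : ↥(Q : Subgroup G) → ℂ) := by
      rw [hj]
      calc q = q ^ 1 := (pow_one q).symm
        _ ≤ q ^ j := Nat.pow_le_pow_right hq.out.pos (Nat.one_le_iff_ne_zero.mpr hj0)
    -- the term of ψ exhausts the degree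
    have hsplit : ∑ ψ' : IrrCharacter ↥(Q : Subgroup G),
        m ψ' * charDegree (ψ' : ↥(Q : Subgroup G) → ℂ) =
        m ψ * charDegree (ψ : ↥(Q : Subgroup G) → ℂ) +
          ∑ ψ' ∈ Finset.univ.erase ψ, m ψ' * charDegree (ψ' : ↥(Q : Subgroup G) → ℂ) :=
      (Finset.add_sum_erase Finset.univ _ (Finset.mem_univ ψ)).symm
    have hm1 : 1 ≤ m ψ := Nat.one_le_iff_ne_zero.mpr hmψ
    have hge : q ≤ m ψ * charDegree (ψ : ↥(Q : Subgroup G) → ℂ) := by
      calc q ≤ charDegree (ψ : ↥(Q : Subgroup G) → ℂ) := hqd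
        _ = 1 * charDegree (ψ : ↥(Q : Subgroup G) → ℂ) := (one_mul _).symm
        _ ≤ m ψ * charDegree (ψ : ↥(Q : Subgroup G) → ℂ) := Nat.mul_le_mul_right _ hm1
    have hrest : ∑ ψ' ∈ Finset.univ.erase ψ,
        m ψ' * charDegree (ψ' : ↥(Q : Subgroup G) → ℂ) = 0 := by omega
    have hmq : m ψ * charDegree (ψ : ↥(Q : Subgroup G) → ℂ) = q := by omega
    have hother : ∀ ψ' : IrrCharacter ↥(Q : Subgroup G), ψ' ≠ ψ → m ψ' = 0 := by
      intro ψ' hψ'
      have := (Finset.sum_eq_zero_iff.mp hrest) ψ' (Finset.mem_erase.mpr ⟨hψ', Finset.mem_univ _⟩)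
      rcases Nat.mul_eq_zero.mp this with h | h
      · exact h
      · exact absurd h (Helper77_BlockBasics.charDegree_pos ψ').ne'
    have hmψ1 : m ψ = 1 := by
      have h3 : charDegree (ψ : ↥(Q : Subgroup G) → ℂ) ≤ q := by
        calc charDegree (ψ : ↥(Q : Subgroup G) → ℂ)
            = 1 * charDegree (ψ : ↥(Q : Subgroup G) → ℂ) := (one_mul _).symm
          _ ≤ m ψ * charDegree (ψ : ↥(Q : Subgroup G) → ℂ) := Nat.mul_le_mul_right _ hm1
          _ = q := hmq
      have h4 : charDegree (ψ : ↥(Q : Subgroup G) → ℂ) = q := le_antisymm h3 hqd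
      rw [h4] at hmq
      have hq0 : 0 < q := hq.out.pos
      nlinarith
    -- so the restriction is ψ
    have hzψ : (χ : G → ℂ) (z : G) = (ψ : ↥(Q : Subgroup G) → ℂ) z := by
      rw [hval z, Finset.sum_eq_single ψ]
      · rw [hmψ1]; simp
      · intro ψ' _ hψ'
        rw [hother ψ' hψ']; simp
      · intro h
        exact absurd (Finset.mem_univ _) h
    have hnorm := Helper74_DegPChar.central_norm ψ hz
    rw [← hzψ, hzv, norm_zero] at hnorm
    have h5 : (ψ : ↥(Q : Subgroup G) → ℂ) 1 = 0 := norm_eq_zero.mp hnorm.symm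
    exact Helper74_DegPChar.irr_one_ne_zero ψ h5
  -- commutators lie in the kernel
  intro a b
  have hcomm : (χ : G → ℂ) ((a * b * a⁻¹ * b⁻¹ : ↥(Q : Subgroup G)) : G) = (χ : G → ℂ) 1 := by
    rw [hval (a * b * a⁻¹ * b⁻¹)]
    have h1 := hval 1
    rw [Subgroup.coe_one] at h1
    rw [h1]
    apply Finset.sum_congr rfl
    intro ψ _
    by_cases hmψ : m ψ = 0
    · rw [hmψ]; simp
    · have hd := hlin ψ hmψ
      have hψ1 : (ψ : ↥(Q : Subgroup G) → ℂ) 1 = 1 := by
        rw [Helper77_BlockBasics.apply_one_eq_charDegree, hd]; simp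
      obtain ⟨f, hf⟩ := Helper74_LinAct.exists_lin_of_one hψ1
      rw [hf]
      simp only [Helper74_LinAct.lin_apply, map_mul, map_inv, map_one]
      congr 1
      have : f a * f b * (f a)⁻¹ * (f b)⁻¹ = 1 := by
        rw [mul_comm (f a) (f b)]
        group
      rw [this]
  have h1 := eq_one_of_apply_eq hna χ hχne _ hcomm
  have h2 : a * b * a⁻¹ * b⁻¹ = 1 := Subtype.ext h1
  calc a * b = (a * b * a⁻¹ * b⁻¹) * (b * a) := by group
    _ = b * a := by rw [h2, one_mul]

/-- a Sylow `q`-subgroup has order `q` -/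
theorem card_sylow [IsSimpleGroup G] (hna : ¬ ∀ a b : G, a * b = b * a)
    (χ : IrrCharacter G) (hχ : charDegree (χ : G → ℂ) = q) (Q : Sylow q G) :
    Nat.card ↥(Q : Subgroup G) = q := by
  have hcomm := sylow_comm hna χ hχ Q
  have hle : (Q : Subgroup G) ≤ Subgroup.centralizer ((Q : Subgroup G) : Set G) := by
    intro u hu
    rw [Subgroup.mem_centralizer_iff]
    intro v hv
    exact congrArg Subtype.val (hcomm ⟨v, hv⟩ ⟨u, hu⟩)
  have h1 : Nat.card ↥(Q : Subgroup G) ∣ q := by
    have h0 := Subgroup.card_dvd_of_le hle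
    rw [card_centralizer hna χ hχ Q] at h0
    exact h0
  have hdvd : q ∣ Nat.card G := by
    rw [← hχ]
    exact Helper77_BlockBasics.charDegree_dvd_card χ
  rcases (Nat.dvd_prime hq.out).mp h1 with h | h
  · exfalso
    rw [Subgroup.card_eq_one] at h
    exact Q.ne_bot_of_dvd_card hdvd h
  · exact h

/-- a Sylow `q`-subgroup is self-centralizing -/
theorem centralizer_le [IsSimpleGroup G] (hna : ¬ ∀ a b : G, a * b = b * a)
    (χ : IrrCharacter G) (hχ : charDegree (χ : G → ℂ) = q) (Q : Sylow q G) :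
    Subgroup.centralizer ((Q : Subgroup G) : Set G) ≤ (Q : Subgroup G) := by
  have hcomm := sylow_comm hna χ hχ Q
  have hle : (Q : Subgroup G) ≤ Subgroup.centralizer ((Q : Subgroup G) : Set G) := by
    intro u hu
    rw [Subgroup.mem_centralizer_iff]
    intro v hv
    exact congrArg Subtype.val (hcomm ⟨v, hv⟩ ⟨u, hu⟩)
  have heq : (Q : Subgroup G) = Subgroup.centralizer ((Q : Subgroup G) : Set G) := by
    apply Subgroup.eq_of_le_of_card_ge hle
    rw [card_centralizer hna χ hχ Q, card_sylow hna χ hχ Q]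
  exact heq.symm.le

/-- characters of degree `q` vanish on the nonidentity elements of a Sylow `q`-subgroup -/
theorem vanish_on_sylow [IsSimpleGroup G] (hna : ¬ ∀ a b : G, a * b = b * a)
    (χ χ' : IrrCharacter G) (hχ : charDegree (χ : G → ℂ) = q)
    (hχ' : charDegree (χ' : G → ℂ) = q) (Q : Sylow q G) {g : G} (hg : g ∈ (Q : Subgroup G))
    (hg1 : g ≠ 1) : (χ' : G → ℂ) g = 0 := by
  have hcomm := sylow_comm hna χ hχ Q
  have hmem : g ∈ Subgroup.centralizer ((Q : Subgroup G) : Set G) := by
    rw [Subgroup.mem_centralizer_iff]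
    intro v hv
    exact congrArg Subtype.val (hcomm ⟨v, hv⟩ ⟨g, hg⟩)
  exact vanish_on_centralizer hna χ' hχ' Q hmem hg1

end sylowStructure

end Cfsg.Agent.Lib.Helper74_PrimeDegA
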