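import Mathlib
import Cfsg.Prelude.Def_Characters
import Cfsg.Prelude.Def_Blocks
import Cfsg.Agent.Lib.Helper17_TIPrime
import Cfsg.Agent.Lib.Helper17_ExcApply
import Cfsg.Agent.Lib.Helper3_ExcComb
import Cfsg.Agent.Lib.Helper3_DegPMinusOne
import Cfsg.Agent.Lib.Helper3_CharDegree
import Cfsg.Agent.Lib.Helper81_CharOrth2
import Cfsg.Agent.Lib.Helper79_RealOdd
import Cfsg.Agent.Lib.Helper59_CliffordDeg
import Cfsg.Agent.Lib.Helper74_PrimeDegA

/-!
# Nonabelian simple groups have an irreducible character of composite degree (helper74)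

Let `G` be a finite nonabelian simple group all of whose nonprincipal irreducible characters have
prime degree.  With `p` the largest degree, a Sylow `p`-subgroup `R` has order `p` and is
self-centralizing (`Helper74_PrimeDegA`).  The generalized characters `(1_R - λ)^G` then show that
all nonprincipal irreducible characters of degree less than `p` have the same degree `q`, and the
second orthogonality relation at a `q`-element gives a contradiction.
-/

set_option autoImplicit false

namespace Cfsg.Agent.Lib.Helper74_PrimeDegB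

open Cfsg
open Cfsg.Agent.Lib.Helper17_TIPrime Cfsg.Agent.Lib.Helper80_CharBasic

universe u

section Pair

variable {G : Type u} [Group G] [Fintype G] (R : Subgroup G) [Fintype R] {p : ℕ}
  [hp : Fact p.Prime]

/-- the norm of `(1_R - λ)^G - (1_R - μ)^G` is `0` or `2` -/
theorem sum_sq_sub (hR : Nat.card R = p) (hC : Subgroup.centralizer (R : Set G) ≤ R)
    (lam mu : IrrCharacter R) (hlam : lam ≠ oneIrr R) (hmu : mu ≠ oneIrr R) :
    (∑ χ : IrrCharacter G, (avec R lam χ - avec R mu χ) * (avec R lam χ - avec R mu χ) = 0) ∨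
    (∑ χ : IrrCharacter G, (avec R lam χ - avec R mu χ) * (avec R lam χ - avec R mu χ) = 2) := by
  classical
  have : Fintype (Subgroup.normalizer (R : Set G)) := Fintype.ofFinite _
  obtain ⟨e, he⟩ : ∃ e, Nat.card (Subgroup.normalizer (R : Set G)) = e * p := by
    have h1 : Nat.card R ∣ Nat.card (Subgroup.normalizer (R : Set G)) :=
      Subgroup.card_dvd_of_le Subgroup.le_normalizer
    rw [hR] at h1
    obtain ⟨e, he⟩ := h1
    exact ⟨e, by rw [he, mul_comm]⟩
  have h11 := sum_avec_mul (G := G) R lam lam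
  rw [classInner_indFun_theta R hR hC e he lam lam hlam hlam,
    if_pos ⟨1, tw_one R lam⟩] at h11
  have h22 := sum_avec_mul (G := G) R mu mu
  rw [classInner_indFun_theta R hR hC e he mu mu hmu hmu,
    if_pos ⟨1, tw_one R mu⟩] at h22
  have h12 := sum_avec_mul (G := G) R lam mu
  rw [classInner_indFun_theta R hR hC e he lam mu hlam hmu] at h12
  have hexp : ∑ χ : IrrCharacter G, (avec R lam χ - avec R mu χ) * (avec R lam χ - avec R mu χ) =
      ∑ χ : IrrCharacter G, avec R lam χ * avec R lam χ
        - 2 * ∑ χ : IrrCharacter G, avec R lam χ * avec R mu χ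
        + ∑ χ : IrrCharacter G, avec R mu χ * avec R mu χ := by
    rw [Finset.mul_sum, ← Finset.sum_sub_distrib, ← Finset.sum_add_distrib]
    apply Finset.sum_congr rfl
    intro χ _
    ring
  by_cases hex : ∃ n, tw R n mu = lam
  · left
    rw [if_pos hex] at h12
    have : ((∑ χ : IrrCharacter G, (avec R lam χ - avec R mu χ) *
        (avec R lam χ - avec R mu χ) : ℤ) : ℂ) = ((0 : ℤ) : ℂ) := by
      rw [hexp]
      push_cast at h11 h22 h12 ⊢
      rw [h11, h22, h12]
      ring
    exact_mod_cast this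
  · right
    rw [if_neg hex] at h12
    have : ((∑ χ : IrrCharacter G, (avec R lam χ - avec R mu χ) *
        (avec R lam χ - avec R mu χ) : ℤ) : ℂ) = ((2 : ℤ) : ℂ) := by
      rw [hexp]
      push_cast at h11 h22 h12 ⊢
      rw [h11, h22, h12]
      ring
    exact_mod_cast this

/-- two characters distinguishing the same pair of nonprincipal characters of `R` have the same
degree -/
theorem deg_eq_of_pair (hR : Nat.card R = p) (hC : Subgroup.centralizer (R : Set G) ≤ R)
    (lam mu : IrrCharacter R) (hlam : lam ≠ oneIrr R) (hmu : mu ≠ oneIrr R)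
    (ψ ψ' : IrrCharacter G) (h1 : mult R ψ lam ≠ mult R ψ mu)
    (h2 : mult R ψ' lam ≠ mult R ψ' mu) :
    charDegree (ψ : G → ℂ) = charDegree (ψ' : G → ℂ) := by
  classical
  have hfin : Finite R := Finite.of_fintype R
  have hcomm := comm_of_prime_card R hR
  set v : IrrCharacter G → ℤ := fun χ => avec R lam χ - avec R mu χ with hv
  have hvψ : ∀ χ, v χ = (mult R χ mu : ℤ) - (mult R χ lam : ℤ) := by
    intro χ
    simp only [hv, avec]
    ring
  have hne : v ψ ≠ 0 := by
    rw [hvψ]
    intro h
    apply h1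
    omega
  have hne' : v ψ' ≠ 0 := by
    rw [hvψ]
    intro h
    apply h2
    omega
  have hsum : ∑ χ : IrrCharacter G, v χ * v χ = 2 := by
    rcases sum_sq_sub R hR hC lam mu hlam hmu with h | h
    · exfalso
      have h3 := (Finset.sum_eq_zero_iff_of_nonneg
        (fun χ _ => mul_self_nonneg (v χ))).mp h ψ (Finset.mem_univ _)
      exact hne (mul_self_eq_zero.mp h3)
    · exact h
  have hdeg : ∑ χ : IrrCharacter G, v χ * (charDegree (χ : G → ℂ) : ℤ) = 0 := by
    have ha := sum_avec_mul_degree (G := G) R hcomm lam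
    have hb := sum_avec_mul_degree (G := G) R hcomm mu
    simp only [hv, sub_mul, Finset.sum_sub_distrib, ha, hb, sub_self]
  obtain ⟨a, b, hab, hvab⟩ := Helper3_ExcComb.eq_sub_of_norm_two v
    (fun χ => (charDegree (χ : G → ℂ) : ℤ))
    (fun χ => by exact_mod_cast Helper77_BlockBasics.charDegree_pos χ) hsum hdeg
  have hdab : charDegree (a : G → ℂ) = charDegree (b : G → ℂ) := by
    have h3 : ∑ χ : IrrCharacter G, (Helper3_ExcComb.e a χ - Helper3_ExcComb.e b χ) *
        (charDegree (χ : G → ℂ) : ℤ) =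
        (charDegree (a : G → ℂ) : ℤ) - (charDegree (b : G → ℂ) : ℤ) := by
      simp only [sub_mul, Finset.sum_sub_distrib, Helper3_ExcComb.sum_e_mul]
    have h4 : ∑ χ : IrrCharacter G, v χ * (charDegree (χ : G → ℂ) : ℤ) =
        ∑ χ : IrrCharacter G, (Helper3_ExcComb.e a χ - Helper3_ExcComb.e b χ) *
        (charDegree (χ : G → ℂ) : ℤ) :=
      Finset.sum_congr rfl (fun χ _ => by rw [hvab χ])
    rw [h4, h3] at hdeg
    omega
  have hmem : ∀ χ, v χ ≠ 0 → χ = a ∨ χ = b := by
    intro χ hχ
    by_contra hcon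
    push Not at hcon
    apply hχ
    rw [hvab χ]
    simp [Helper3_ExcComb.e, hcon.1, hcon.2]
  rcases hmem ψ hne with h | h <;> rcases hmem ψ' hne' with h' | h' <;> rw [h, h'] <;>
    first | rfl | exact hdab | exact hdab.symm

/-- two characters, each nonconstant on the nonprincipal characters of `R`, have the same degree -/
theorem deg_eq_of_nonconst (hR : Nat.card R = p) (hC : Subgroup.centralizer (R : Set G) ≤ R)
    (ψ ψ' : IrrCharacter G)
    (lam mu : IrrCharacter R) (hlam : lam ≠ oneIrr R) (hmu : mu ≠ oneIrr R)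
    (h1 : mult R ψ lam ≠ mult R ψ mu)
    (lam' mu' : IrrCharacter R) (hlam' : lam' ≠ oneIrr R) (hmu' : mu' ≠ oneIrr R)
    (h2 : mult R ψ' lam' ≠ mult R ψ' mu') :
    charDegree (ψ : G → ℂ) = charDegree (ψ' : G → ℂ) := by
  by_cases hA : mult R ψ' lam = mult R ψ' mu
  · have hex : ∃ c, c ≠ oneIrr R ∧ mult R ψ' c ≠ mult R ψ' lam := by
      by_cases hc : mult R ψ' lam' = mult R ψ' lam
      · exact ⟨mu', hmu', fun h => h2 (hc.trans h.symm)⟩
      · exact ⟨lam', hlam', hc⟩
    obtain ⟨c, hc1, hc⟩ := hex
    by_cases hB : mult R ψ c = mult R ψ lam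
    · exact deg_eq_of_pair R hR hC c mu hc1 hmu ψ ψ' (by rw [hB]; exact h1)
        (by rw [← hA]; exact hc)
    · exact deg_eq_of_pair R hR hC c lam hc1 hlam ψ ψ' hB hc
  · exact deg_eq_of_pair R hR hC lam mu hlam hmu ψ ψ' h1 hA

/-- a nonprincipal character of small degree is nonconstant on the nonprincipal characters of
`R` -/
theorem exists_nonconst [IsSimpleGroup G] (hna : ¬ ∀ a b : G, a * b = b * a)
    (hR : Nat.card R = p) (ψ : IrrCharacter G) (hψ : (ψ : G → ℂ) ≠ fun _ => 1)
    (hlt : charDegree (ψ : G → ℂ) < p) (hne : charDegree (ψ : G → ℂ) + 1 ≠ p) :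
    ∃ lam mu : IrrCharacter R, lam ≠ oneIrr R ∧ mu ≠ oneIrr R ∧
      mult R ψ lam ≠ mult R ψ mu := by
  classical
  have hfin : Finite R := Finite.of_fintype R
  have hfinG : Finite G := Finite.of_fintype G
  have hcomm := comm_of_prime_card R hR
  by_contra hcon
  push Not at hcon
  have hcard : Fintype.card (IrrCharacter R) = p := by rw [card_irr_of_comm hcomm, hR]
  have hp2 : 2 ≤ p := hp.out.two_le
  obtain ⟨lam0, hlam0⟩ := Fintype.exists_ne_of_one_lt_card (by rw [hcard]; omega) (oneIrr R)
  set c := mult R ψ lam0 with hc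
  have hall : ∀ lam : IrrCharacter R, lam ≠ oneIrr R → mult R ψ lam = c :=
    fun lam hl => hcon lam lam0 hl hlam0
  have hdeg : charDegree (ψ : G → ℂ) = mult R ψ (oneIrr R) + (p - 1) * c := by
    rw [charDegree_eq_sum_mult R hcomm ψ,
      ← Finset.add_sum_erase _ _ (Finset.mem_univ (oneIrr R))]
    congr 1
    rw [Finset.sum_congr rfl (g := fun _ => c)
      (fun lam hl => hall lam (Finset.ne_of_mem_erase hl)),
      Finset.sum_const, Finset.card_erase_of_mem (Finset.mem_univ _), Finset.card_univ, hcard,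
      smul_eq_mul]
  rcases Nat.eq_zero_or_pos c with hc0 | hcpos
  · -- the restriction to `R` is a multiple of the principal character
    obtain ⟨m, hm, hsum⟩ := Helper75_CharArith.exists_multiplicities
      (Helper75_CharArith.isCharacter_restrict R
        (Helper3_CharBridge.isCharacter_of_isIrrCharacter ψ.2))
    have hmm : ∀ lam : IrrCharacter R, m lam = mult R ψ lam := by
      intro lam
      have h3 := (hm lam).symm.trans (mult_spec R ψ lam)
      exact_mod_cast h3
    have hval : ∀ r : R, (ψ : G → ℂ) r = (mult R ψ (oneIrr R) : ℂ) := by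
      intro r
      have h3 := congrFun hsum r
      rw [Finset.sum_apply] at h3
      have h3' : (ψ : G → ℂ) r =
          ∑ lam : IrrCharacter R, ((m lam : ℂ) • (lam : R → ℂ)) r := h3
      rw [h3', Finset.sum_eq_single (oneIrr R)]
      · rw [Pi.smul_apply, hmm]
        show (mult R ψ (oneIrr R) : ℂ) • (1 : ℂ) = _
        rw [smul_eq_mul, mul_one]
      · intro lam _ hl
        rw [Pi.smul_apply, hmm, hall lam hl, hc0]
        simp
      · intro h
        exact absurd (Finset.mem_univ _) h
    have hnt : ∃ r : R, r ≠ 1 := by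
      have h1 : 1 < Nat.card R := by rw [hR]; omega
      have : Nontrivial R := (Finite.one_lt_card_iff_nontrivial).mp h1
      exact exists_ne 1
    obtain ⟨r, hr⟩ := hnt
    have h4 : (ψ : G → ℂ) (r : G) = (ψ : G → ℂ) 1 := by
      have h5 := hval r
      have h6 := hval 1
      rw [Subgroup.coe_one] at h6
      rw [h5, h6]
    have h7 := Helper74_PrimeDegA.eq_one_of_apply_eq hna ψ hψ (r : G) h4
    exact hr (Subtype.ext h7)
  · have h3 : p - 1 ≤ (p - 1) * c := Nat.le_mul_of_pos_right _ hcpos
    omega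

end Pair

section Two

variable {G : Type u} [Group G] [Finite G]

/-- a nonabelian simple group is perfect -/
theorem commutator_eq_top [IsSimpleGroup G] (hna : ¬ ∀ a b : G, a * b = b * a) :
    commutator G = ⊤ := by
  have hn : (commutator G).Normal := by
    rw [commutator_def]
    infer_instance
  rcases hn.eq_bot_or_eq_top with h | h
  · exfalso
    apply hna
    intro a b
    have h1 := (commutator_eq_bot_iff_center_eq_top G).mp h
    have h2 : b ∈ Subgroup.center G := by rw [h1]; exact Subgroup.mem_top b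
    exact Subgroup.mem_center_iff.mp h2 a
  · exact h

/-- a nonabelian simple group has no irreducible character of degree two -/
theorem no_deg_two [IsSimpleGroup G] (hna : ¬ ∀ a b : G, a * b = b * a)
    (χ : IrrCharacter G) (hχ : charDegree (χ : G → ℂ) = 2) : False := by
  have hf2 : Fact (Nat.Prime 2) := ⟨Nat.prime_two⟩
  let Q : Sylow 2 G := default
  have hcard := Helper74_PrimeDegA.card_sylow hna χ hχ Q
  have hcent := Helper74_PrimeDegA.centralizer_le hna χ hχ Q
  have hnt : Nontrivial ↥(Q : Subgroup G) :=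
    (Finite.one_lt_card_iff_nontrivial).mp (by rw [hcard]; norm_num)
  obtain ⟨x, hx⟩ := exists_ne (1 : ↥(Q : Subgroup G))
  have hord : orderOf (x : G) = 2 := by
    rw [Subgroup.orderOf_coe]
    have h1 : orderOf x ∣ 2 := by
      have h0 := orderOf_dvd_natCard x
      rw [hcard] at h0
      exact h0
    rcases (Nat.dvd_prime Nat.prime_two).mp h1 with h | h
    · exact absurd (orderOf_eq_one_iff.mp h) hx
    · exact h
  have hQ : Subgroup.zpowers (x : G) = (Q : Subgroup G) := by
    apply Subgroup.eq_of_le_of_card_ge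
    · rw [Subgroup.zpowers_le]
      exact x.2
    · rw [hcard, Nat.card_zpowers, hord]
  have hC : Subgroup.centralizer ({(x : G)} : Set G) = Subgroup.zpowers (x : G) := by
    apply le_antisymm
    · intro g hg
      rw [hQ]
      apply hcent
      rw [Subgroup.mem_centralizer_iff]
      intro h hh
      have hh' : h ∈ Subgroup.zpowers (x : G) := by rw [hQ]; exact hh
      obtain ⟨k, rfl⟩ := Subgroup.mem_zpowers_iff.mp hh'
      have h1 : Commute g (x : G) := Subgroup.mem_centralizer_singleton_iff.mp hg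
      exact ((h1.zpow_right k).eq).symm
    · intro g hg
      obtain ⟨k, rfl⟩ := Subgroup.mem_zpowers_iff.mp hg
      rw [Subgroup.mem_centralizer_singleton_iff]
      exact ((Commute.refl (x : G)).zpow_left k).eq
  have h1 := Helper3_DegPMinusOne.even_index_of_two hord hC
  rw [commutator_eq_top hna, Subgroup.index_top] at h1
  exact absurd h1 (by decide)

end Two

section Final

variable {G : Type u} [Group G] [Finite G]

/-- **Isaacs–Passman**: a nonabelian simple group has a nonprincipal irreducible character of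
composite degree. -/
theorem false_of_simple [IsSimpleGroup G] (hna : ¬ ∀ a b : G, a * b = b * a)
    (h : ∀ χ : IrrCharacter G, charDegree (χ : G → ℂ) ≠ 1 →
      (charDegree (χ : G → ℂ)).Prime) : False := by
  classical
  have : Fintype G := Fintype.ofFinite G
  have hex : ∃ χ : IrrCharacter G, charDegree (χ : G → ℂ) ≠ 1 := by
    by_contra hcon
    push Not at hcon
    apply hna
    apply Helper59_CliffordDeg.commute_of_all_linear
    intro θ
    rw [Helper77_BlockBasics.apply_one_eq_charDegree, hcon θ]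
    simp
  obtain ⟨χp, _, hmax⟩ := Finset.exists_max_image Finset.univ
    (fun χ : IrrCharacter G => charDegree (χ : G → ℂ)) ⟨oneIrr G, Finset.mem_univ _⟩
  set p := charDegree (χp : G → ℂ) with hpdef
  have hp1 : p ≠ 1 := by
    obtain ⟨χ0, h0⟩ := hex
    have h2 := hmax χ0 (Finset.mem_univ _)
    have h3 := Helper77_BlockBasics.charDegree_pos χ0
    omega
  have hpp : p.Prime := h χp hp1
  have hfp : Fact p.Prime := ⟨hpp⟩
  let P : Sylow p G := default
  have hR : Nat.card ↥(P : Subgroup G) = p := Helper74_PrimeDegA.card_sylow hna χp rfl P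
  have hC : Subgroup.centralizer (((P : Subgroup G) : Subgroup G) : Set G) ≤ (P : Subgroup G) :=
    Helper74_PrimeDegA.centralizer_le hna χp rfl P
  have : Fintype ↥(P : Subgroup G) := Fintype.ofFinite _
  have hnc : ∀ ψ : IrrCharacter G, charDegree (ψ : G → ℂ) ≠ 1 → charDegree (ψ : G → ℂ) < p →
      ∃ lam mu : IrrCharacter ↥(P : Subgroup G), lam ≠ oneIrr _ ∧ mu ≠ oneIrr _ ∧
        mult (P : Subgroup G) ψ lam ≠ mult (P : Subgroup G) ψ mu := by
    intro ψ h1 hlt
    apply exists_nonconst (P : Subgroup G) hna hR ψ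
      (Helper74_PrimeDegA.ne_one_of_charDegree_ne ψ h1) hlt
    intro hcon
    have hq := h ψ h1
    have h2 : charDegree (ψ : G → ℂ) = 2 := by
      rcases hq.eq_two_or_odd with h2 | hodd
      · exact h2
      · have hp2 : p = 2 := by
          rcases hpp.eq_two_or_odd with h2 | h2
          · exact h2
          · omega
        have := hq.two_le
        omega
    exact no_deg_two hna ψ h2
  have hg : ∃ g : G, g ≠ 1 ∧ ∀ ψ : IrrCharacter G, charDegree (ψ : G → ℂ) ≠ 1 →
      charDegree (ψ : G → ℂ) ≠ p → (ψ : G → ℂ) g = 0 := by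
    by_cases hS : ∃ ψ : IrrCharacter G, charDegree (ψ : G → ℂ) ≠ 1 ∧ charDegree (ψ : G → ℂ) ≠ p
    · obtain ⟨ψ1, h11, h1p⟩ := hS
      have hlt1 : charDegree (ψ1 : G → ℂ) < p :=
        lt_of_le_of_ne (hmax ψ1 (Finset.mem_univ _)) h1p
      have hq : (charDegree (ψ1 : G → ℂ)).Prime := h ψ1 h11
      have hfq : Fact (charDegree (ψ1 : G → ℂ)).Prime := ⟨hq⟩
      let Q : Sylow (charDegree (ψ1 : G → ℂ)) G := default
      have hQ : Nat.card ↥(Q : Subgroup G) = charDegree (ψ1 : G → ℂ) :=
        Helper74_PrimeDegA.card_sylow hna ψ1 rfl Q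
      have hnt : Nontrivial ↥(Q : Subgroup G) :=
        (Finite.one_lt_card_iff_nontrivial).mp (by rw [hQ]; exact hq.one_lt)
      obtain ⟨g, hg⟩ := exists_ne (1 : ↥(Q : Subgroup G))
      refine ⟨(g : G), fun h => hg (Subtype.ext h), ?_⟩
      intro ψ h1 hp'
      have hlt : charDegree (ψ : G → ℂ) < p :=
        lt_of_le_of_ne (hmax ψ (Finset.mem_univ _)) hp'
      obtain ⟨lam, mu, hl, hm, hne⟩ := hnc ψ h1 hlt
      obtain ⟨lam', mu', hl', hm', hne'⟩ := hnc ψ1 h11 hlt1
      have hdeg : charDegree (ψ : G → ℂ) = charDegree (ψ1 : G → ℂ) :=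
        deg_eq_of_nonconst (P : Subgroup G) hR hC ψ ψ1 lam mu hl hm hne lam' mu' hl' hm' hne'
      exact Helper74_PrimeDegA.vanish_on_sylow hna ψ1 ψ rfl hdeg Q g.2
        (fun h => hg (Subtype.ext h))
    · push Not at hS
      have : Nontrivial G := IsSimpleGroup.toNontrivial
      obtain ⟨g, hg⟩ := exists_ne (1 : G)
      exact ⟨g, hg, fun ψ h1 hp' => absurd (hS ψ h1) hp'⟩
  obtain ⟨g, hg1, hvan⟩ := hg
  have hso := Helper81_CharOrth2.second_orthogonality g (1 : G)
  have hzero : Nat.card {c : G // c * g * c⁻¹ = 1} = 0 := by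
    rw [Nat.card_eq_zero]
    left
    constructor
    rintro ⟨c, hc⟩
    apply hg1
    have h2 : g = c⁻¹ * (c * g * c⁻¹) * c := by group
    rw [h2, hc]
    group
  rw [hzero, inv_one] at hso
  have hcomm' : ¬ IsMulCommutative G := fun hc => hna (fun a b => hc.is_comm.comm a b)
  set T : ℂ := ∑ χ ∈ Finset.univ.erase (oneIrr G),
    (if charDegree (χ : G → ℂ) = p then (χ : G → ℂ) g else 0) with hT
  have hTint : IsIntegral ℤ T := by
    apply IsIntegral.sum
    intro χ _
    split_ifs
    · exact Helper79_RealOdd.irr_isIntegral χ g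
    · exact isIntegral_zero
  have hsum : ∑ χ : IrrCharacter G, (χ : G → ℂ) g * (χ : G → ℂ) 1 = 1 + (p : ℂ) * T := by
    rw [← Finset.add_sum_erase _ _ (Finset.mem_univ (oneIrr G))]
    congr 1
    · show (1 : ℂ) * 1 = 1
      rw [mul_one]
    · rw [hT, Finset.mul_sum]
      apply Finset.sum_congr rfl
      intro χ hχ
      have hne1 : χ ≠ oneIrr G := Finset.ne_of_mem_erase hχ
      have h2 := Helper17_ExcApply.two_le_deg_of_simple hcomm' χ hne1
      have hd1 : charDegree (χ : G → ℂ) ≠ 1 := by
        unfold Helper17_ExcApply.deg at h2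
        omega
      rw [Helper77_BlockBasics.apply_one_eq_charDegree]
      split_ifs with hd
      · rw [hd, mul_comm]
      · rw [hvan χ hd1 hd, zero_mul, mul_zero]
  rw [hsum] at hso
  have hp0 : (p : ℂ) ≠ 0 := by exact_mod_cast hpp.ne_zero
  have hT2 : ((1 : ℕ) : ℂ) / (p : ℂ) = -T := by
    have h3 : (p : ℂ) * T = -1 := by
      have := hso
      push_cast at this
      linear_combination this
    rw [Nat.cast_one, div_eq_iff hp0]
    linear_combination h3
  have hint : IsIntegral ℤ (((1 : ℕ) : ℂ) / (p : ℂ)) := by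
    rw [hT2]
    exact hTint.neg
  have hdvd := Helper3_CharDegree.dvd_of_isIntegral_div hpp.ne_zero hint
  exact hpp.one_lt.ne' (Nat.dvd_one.mp hdvd)

end Final

end Cfsg.Agent.Lib.Helper74_PrimeDegB
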