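import Mathlib
import Cfsg.Agent.Lib.Helper77_SLnDefs
import Cfsg.Prelude.Def_Characters
import Cfsg.Agent.Lib.Helper74_PrimeDegB
import Cfsg.Agent.Lib.Helper3_CharBridge

/-!
# S2332 package SL24 (helper51, for helper77): `SL₂(4)` has no irreducible representation of degree 2
-/

set_option autoImplicit false
open Matrix Cfsg.Agent.Lib.Helper5_Transv Cfsg.Agent.Lib.Helper77_SLnDefs

namespace Cfsg.Agent.Lib.Helper51_S2332_SL24

variable {F : Type*} [Field F] [Fintype F] [DecidableEq F] {κ : Type} [Fintype κ] [DecidableEq κ]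
  {V : Type} [AddCommGroup V] [Module ℂ V] [FiniteDimensional ℂ V]

open scoped MatrixGroups

omit [DecidableEq F] in
theorem two_eq_zero (hq : Fintype.card F = 4) : (2 : F) = 0 := by
  have h4 : ((Fintype.card F : ℕ) : F) = 0 := FiniteField.cast_card_eq_zero F
  rw [hq] at h4
  have : (2 : F) * 2 = 0 := by
    have : ((4 : ℕ) : F) = 2 * 2 := by norm_num
    rw [← this]; exact h4
  rcases mul_eq_zero.mp this with h | h <;> exact h

omit [DecidableEq F] in
theorem center_eq_bot (hq : Fintype.card F = 4) :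
    Subgroup.center (Matrix.SpecialLinearGroup (Fin 2) F) = ⊥ := by
  rw [eq_bot_iff]
  intro A hA
  rw [Matrix.SpecialLinearGroup.mem_center_iff] at hA
  obtain ⟨r, hr, hA⟩ := hA
  rw [Fintype.card_fin] at hr
  have h2 := two_eq_zero hq
  have hr1 : r = 1 := by
    have : (r - 1) * (r - 1) = 0 := by
      have : (r - 1) * (r - 1) = r ^ 2 - 2 * r + 1 := by ring
      rw [this, hr, h2]; ring_nf
      linear_combination h2
    rcases mul_eq_zero.mp this with h | h <;> exact sub_eq_zero.mp h
  rw [Subgroup.mem_bot]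
  apply Subtype.ext
  rw [← hA, hr1]
  simp

theorem isSimple_SL2 (hq : Fintype.card F = 4) :
    IsSimpleGroup (Matrix.SpecialLinearGroup (Fin 2) F) := by
  have h4 : 4 ≤ Nat.card F := by rw [Nat.card_eq_fintype_card, hq]
  have hs : IsSimpleGroup PSL(2, F) := Matrix.ProjectiveSpecialLinearGroup.rank_two_simple h4
  let e : PSL(2, F) ≃* Matrix.SpecialLinearGroup (Fin 2) F :=
    (QuotientGroup.quotientMulEquivOfEq (center_eq_bot hq)).trans QuotientGroup.quotientBot
  exact e.symm.isSimpleGroup

theorem sl24 (hq : Fintype.card F = 4) : MinDeg F 2 3 := by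
  intro ι _ _ hι V _ _ _ ρ hirr h2
  by_contra hlt
  have hV : Module.finrank ℂ V = 2 := by omega
  classical
  let σ : ι ≃ Fin 2 := Fintype.equivFinOfCardEq hι
  let f : Matrix.SpecialLinearGroup ι F ≃* Matrix.SpecialLinearGroup (Fin 2) F := slReindex σ
  have hs2 := isSimple_SL2 (F := F) hq
  have hs : IsSimpleGroup (Matrix.SpecialLinearGroup ι F) := f.isSimpleGroup
  have hna : ¬ ∀ a b : Matrix.SpecialLinearGroup ι F, a * b = b * a := by
    intro hcomm
    -- two non-commuting transvections in `SL (Fin 2) F`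
    let a : Matrix.SpecialLinearGroup (Fin 2) F :=
      ⟨!![1, 1; 0, 1], by rw [Matrix.det_fin_two_of]; ring⟩
    let b : Matrix.SpecialLinearGroup (Fin 2) F :=
      ⟨!![1, 0; 1, 1], by rw [Matrix.det_fin_two_of]; ring⟩
    have h := hcomm (f.symm a) (f.symm b)
    rw [← map_mul, ← map_mul] at h
    have h' := congrArg Subtype.val (f.symm.injective h)
    rw [Matrix.SpecialLinearGroup.coe_mul, Matrix.SpecialLinearGroup.coe_mul] at h'
    have h00 := congrFun (congrFun h' 0) 0
    simp [a, b, Matrix.mul_apply, Fin.sum_univ_two] at h00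
  have : ρ.IsIrreducible := hirr
  have hχ := Cfsg.Agent.Lib.Helper3_CharBridge.isIrrCharacter_of_rep ρ
  have hdeg : Cfsg.charDegree ρ.character = 2 := by
    unfold Cfsg.charDegree
    rw [Representation.char_one, hV]
    simp
  exact Cfsg.Agent.Lib.Helper74_PrimeDegB.no_deg_two hna ⟨ρ.character, hχ⟩ hdeg

end Cfsg.Agent.Lib.Helper51_S2332_SL24
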