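import Mathlib
import Cfsg.Agent.Lib.Helper76_S5320Defs
import Cfsg.Agent.Lib.Helper76_S5320Bas

/-!
# S5320-RNORM (helper51, for helper76's S5320 market)

`St Q` normalizes `Rt Q` when conjugation inside `Q` is `±` AND every element of `Q` squares to `±1`.

The statement printed in `pending/helper76/S5320_packages.lean.txt` lacks the hypothesis `hsq` and is false
without it (`Q` cyclic of order 8, `s = blk (t, 1)`, `r = tau`); `sq_of_E8` supplies `hsq` for `Q = Q₈`.
-/

set_option autoImplicit false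

open Matrix Cfsg.Agent.Lib.Helper42_SL2Class Cfsg.Agent.Lib.Helper76_S5320Defs
  Cfsg.Agent.Lib.Helper76_S5320Bas

namespace Cfsg.Agent.Lib.Helper51_S5320_RNORM

variable {F : Type*} [Field F]

theorem negS_negS (c : SL2 F) : negS (negS c) = c := by
  apply Subtype.ext
  show - -c.1 = c.1
  simp

theorem negS_mul (c d : SL2 F) : negS c * d = negS (c * d) := by
  apply Subtype.ext
  show -c.1 * d.1 = -(c.1 * d.1)
  simp

theorem mul_negS (c d : SL2 F) : c * negS d = negS (c * d) := by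
  apply Subtype.ext
  show c.1 * -d.1 = -(c.1 * d.1)
  simp

/-- every one of the eight elements `±1, ±X, ±Y, ±XY` squares to `±1` -/
theorem sq_of_E8 (a b : F) (h : a * a + b * b = -1) (c : SL2 F) (hc : E8 a b h c) :
    c * c = 1 ∨ c * c = negS 1 := by
  have hXY : X a b h * Y * (X a b h * Y) = negS 1 := by
    rw [mul_assoc, ← mul_assoc Y, Y_mul_X, negS_mul, mul_negS, mul_assoc, Y_mul_Y, mul_negS,
      mul_negS, mul_one, negS_negS, X_mul_X]
  rcases hc with rfl | rfl | rfl | rfl | rfl | rfl | rfl | rfl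
  · left; rw [mul_one]
  · left; exact negS_mul_negS
  · right; exact X_mul_X a b h
  · right; rw [negS_mul, mul_negS, negS_negS, X_mul_X]
  · right; exact Y_mul_Y
  · right; rw [negS_mul, mul_negS, negS_negS, Y_mul_Y]
  · right; exact hXY
  · right; rw [negS_mul, mul_negS, negS_negS, hXY]

/-- S5320-RNORM, corrected: `St Q` normalizes `Rt Q`. -/
theorem St_normalizes_Rt (Q : Subgroup (SL2 F)) (hneg : negS 1 ∈ Q)
    (hmem : ∀ r : Sp4 F, r ∈ Rt Q ↔ ∃ c ∈ Q, r = blk (c, c) ∨ r = blk (c, negS c) ∨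
      r = blk (c, c) * tau ∨ r = blk (c, negS c) * tau)
    (hcomm : ∀ c ∈ Q, ∀ d ∈ Q, d * c * d⁻¹ = c ∨ d * c * d⁻¹ = negS c)
    (hsq : ∀ c ∈ Q, c * c = 1 ∨ c * c = negS 1) :
    ∀ s ∈ St Q, ∀ r ∈ Rt Q, s * r * s⁻¹ ∈ Rt Q := by
  -- membership helpers
  have m1 : ∀ c ∈ Q, ∀ d : SL2 F, (d = c ∨ d = negS c) → blk (c, d) ∈ Rt Q := by
    intro c hc d hd
    rcases hd with rfl | rfl
    · exact (hmem _).mpr ⟨d, hc, Or.inl rfl⟩
    · exact (hmem _).mpr ⟨c, hc, Or.inr (Or.inl rfl)⟩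
  have m2 : ∀ c ∈ Q, ∀ d : SL2 F, (d = c ∨ d = negS c) → blk (c, d) * tau ∈ Rt Q := by
    intro c hc d hd
    rcases hd with rfl | rfl
    · exact (hmem _).mpr ⟨d, hc, Or.inr (Or.inr (Or.inl rfl))⟩
    · exact (hmem _).mpr ⟨c, hc, Or.inr (Or.inr (Or.inr rfl))⟩
  have htau : (tau : Sp4 F) ∈ Rt Q := by
    have := m2 1 Q.one_mem 1 (Or.inl rfl)
    rwa [blk_one, one_mul] at this
  -- conjugation by `s` preserves `Rt Q` as soon as it maps the generators into `Rt Q`
  have key : ∀ s : Sp4 F, (∀ c ∈ Q, s * blk (c, c) * s⁻¹ ∈ Rt Q) → s * tau * s⁻¹ ∈ Rt Q →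
      s * zt * s⁻¹ ∈ Rt Q → ∀ r ∈ Rt Q, s * r * s⁻¹ ∈ Rt Q := by
    intro s h1 h2 h3 r hr
    have hle : Rt Q ≤ (Rt Q).comap (MulAut.conj s).toMonoidHom := by
      unfold Rt
      rw [Subgroup.closure_le]
      rintro g (⟨c, hc, rfl⟩ | hg)
      · exact h1 c hc
      · rcases hg with rfl | hg
        · exact h2
        · rw [Set.mem_singleton_iff] at hg
          subst hg
          exact h3
    exact hle hr
  -- the block case
  have hblk : ∀ u ∈ Q, ∀ v ∈ Q, ∀ r ∈ Rt Q, blk (u, v) * r * (blk (u, v))⁻¹ ∈ Rt Q := by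
    intro u hu v hv
    apply key
    · intro c hc
      rw [blk_inv, blk_mul, blk_mul]
      apply m1 _ (Q.mul_mem (Q.mul_mem hu hc) (Q.inv_mem hu))
      rcases hcomm c hc u hu with e1 | e1 <;> rcases hcomm c hc v hv with e2 | e2 <;> rw [e1, e2]
      · left; rfl
      · right; rfl
      · right; rw [negS_negS]
      · left; rfl
    · rw [blk_inv, mul_assoc, tau_mul_blk, ← mul_assoc, blk_mul]
      have ht : u * v⁻¹ ∈ Q := Q.mul_mem hu (Q.inv_mem hv)
      apply m2 _ ht
      have hinv : v * u⁻¹ = (u * v⁻¹)⁻¹ := by group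
      rw [hinv]
      rcases hsq _ ht with e | e
      · left
        exact inv_eq_of_mul_eq_one_left e
      · right
        apply inv_eq_of_mul_eq_one_left
        rw [negS_mul, e, negS_negS]
    · unfold zt
      rw [blk_inv, blk_mul, blk_mul]
      have e1 : u * negS 1 * u⁻¹ = negS 1 := by
        rw [← negS_eq', negS_eq, mul_assoc, mul_inv_cancel, mul_one]
      have e2 : v * 1 * v⁻¹ = 1 := by group
      rw [e1, e2]
      have := m1 (negS 1) hneg 1 (Or.inr (by rw [negS_negS]))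
      exact this
  intro s hs r hr
  obtain ⟨u, hu, v, hv, rfl | rfl⟩ := (mem_St_iff Q s).mp hs
  · exact hblk u hu v hv r hr
  · have h1 : tau * r * tau⁻¹ ∈ Rt Q :=
      (Rt Q).mul_mem ((Rt Q).mul_mem htau hr) ((Rt Q).inv_mem htau)
    have := hblk u hu v hv _ h1
    have e : blk (u, v) * tau * r * (blk (u, v) * tau)⁻¹ =
        blk (u, v) * (tau * r * tau⁻¹) * (blk (u, v))⁻¹ := by group
    rw [e]
    exact this

end Cfsg.Agent.Lib.Helper51_S5320_RNORM
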