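import Cfsg.Agent.Lib.Helper50_SL2Count

/-!
A stronger export of helper50's `Helper50_SL2Count.std_dichotomy` (same proof, the exceptional
branch now records `|Qs| = 3` and `|Γ| = 60 |Zs|`).
-/

set_option autoImplicit false

namespace Cfsg.Agent.Lib.Helper51_SL2Dich

open Matrix Cfsg.Agent.Lib.Helper50_SL2Mat Cfsg.Agent.Lib.Helper50_CTClass
  Cfsg.Agent.Lib.Helper50_SL2Rep Cfsg.Agent.Lib.Helper50_SL2Std
  Cfsg.Agent.Lib.Helper50_SL2Classes Cfsg.Agent.Lib.Helper50_Numerics
  Cfsg.Agent.Lib.Helper50_SL2Count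
open scoped MatrixGroups

variable {Γ : Type*} [Group Γ]
variable {F : Type*} [Field F] {p : ℕ} {ρ : Γ →* SL(2, F)} {u v : Γ} {α β : F}

theorem std_dichotomy_strong [Finite Γ] [Fintype F] [Fact p.Prime] [CharP F p]
    (h : Std p ρ u v α β) :
    (Bn ρ).index = Nat.card (Qs ρ) + 1 ∨
    (p = 3 ∧ Nat.card (Qs ρ) = 3 ∧ Nat.card Γ = 60 * Nat.card (Zs ρ)) := by
  classical
  have hct := ct h.inj
  have h2 := h.two_ne_zero
  set z := Nat.card (Zs ρ) with hz
  set r := Nat.card (Qs ρ) with hr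
  set s := (Bn ρ).index with hs
  obtain ⟨e, he1, hre⟩ := h.card_Qs
  rw [← hr] at hre
  have hPs : Nat.card (Ps ρ) = z * r := h.card_Ps
  obtain ⟨k, hk⟩ : ∃ k, Nat.card (Bn ρ) = Nat.card (Ps ρ) * k := Subgroup.card_dvd_of_le Ps_le_Bn
  have hBn : Nat.card (Bn ρ) = z * r * k := by rw [hk, hPs]
  have hΓ : Nat.card Γ = z * s * r * k := by
    rw [← (Bn ρ).card_mul_index, hBn]; ring
  have hz1 : 1 ≤ z := Nat.card_pos
  have hz2 : z ≤ 2 := card_Zs_le h.inj
  have hp3 : 3 ≤ p := by
    have := (Fact.out : p.Prime).two_le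
    have := h.hp
    omega
  have hr3 : 3 ≤ r := by
    rw [hre]
    calc 3 ≤ p := hp3
      _ = p ^ 1 := (pow_one p).symm
      _ ≤ p ^ e := Nat.pow_le_pow_right (by omega) he1
  have hrodd : Odd r := by rw [hre]; exact h.p_odd.pow
  have hk1 : 1 ≤ k := by
    rcases Nat.eq_zero_or_pos k with h0 | h0
    · rw [h0, mul_zero] at hBn
      have : 0 < Nat.card (Bn ρ) := Nat.card_pos
      omega
    · exact h0
  have hkr : k + 1 ≤ r := by
    have h1 := std_card_Bn_le h
    rw [hBn, hPs] at h1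
    have h3 : (z * r) * k ≤ (z * r) * (r - 1) := by
      calc (z * r) * k = z * r * k := rfl
        _ ≤ (r - 1) * (z * r) := h1
        _ = (z * r) * (r - 1) := by ring
    have := Nat.le_of_mul_le_mul_left h3 (by positivity)
    omega
  have hs2 : 2 ≤ s := by
    have h1 : s ≠ 1 := by
      intro h1
      rw [hs, Subgroup.index_eq_one] at h1
      exact h.v_not_mem_Bn (h1 ▸ Subgroup.mem_top v)
    have h0 : s ≠ 0 := Subgroup.index_ne_zero_of_finite
    omega
  set S : Set Γ := {y | y ∉ Zs ρ ∧ tr (ρ y) * tr (ρ y) ≠ 4} with hS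
  have hclsu : (cls (Zs ρ) u).ncard = s * (z * r - z) := by
    have := hct.card_cls h.u_not_mem_Zs
    rw [h.normalizer_eq, h.centralizer_u, hPs, hΓ, hBn] at this
    have hpos : 0 < z * r * k := by positivity
    apply Nat.eq_of_mul_eq_mul_right hpos
    rw [this]; ring
  have hpart : (Set.univ : Set Γ) = (Zs ρ : Set Γ) ∪ cls (Zs ρ) u ∪ S := by
    ext y
    simp only [Set.mem_univ, true_iff, Set.mem_union]
    by_cases hy : y ∈ Zs ρ
    · left; left; exact hy
    · by_cases ht : tr (ρ y) * tr (ρ y) = 4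
      · left; right; exact std_mem_cls_of_tr h hy ht
      · right; exact ⟨hy, ht⟩
  have hd1 : Disjoint (Zs ρ : Set Γ) (cls (Zs ρ) u) := by
    rw [Set.disjoint_left]
    intro y hy hy'
    exact hy'.1 hy
  have hd2 : Disjoint ((Zs ρ : Set Γ) ∪ cls (Zs ρ) u) S := by
    rw [Set.disjoint_left]
    rintro y (hy | hy) hyS
    · exact hyS.1 hy
    · exact hyS.2 (std_tr_of_mem_cls h hy)
  have hcount : Nat.card Γ = z + s * (z * r - z) + S.ncard := by
    rw [← Set.ncard_univ, hpart, Set.ncard_union_eq hd2, Set.ncard_union_eq hd1, hclsu]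
    rfl
  have hSeq : S.ncard + z + s * z * r = z * s * r * k + s * z := by
    rw [hΓ] at hcount
    have hle : z ≤ z * r := Nat.le_mul_of_pos_right z (by omega)
    have e : s * (z * r - z) + s * z = s * z * r := by
      rw [← Nat.mul_add, Nat.sub_add_cancel hle]; ring
    omega
  let a : Γ → ℕ := fun x => Nat.card (Subgroup.centralizer ({x} : Set Γ)) / z
  let nn : Γ → ℕ := fun x =>
    Nat.card (Subgroup.normalizer ((Subgroup.centralizer ({x} : Set Γ) : Subgroup Γ) : Set Γ)) /
      Nat.card (Subgroup.centralizer ({x} : Set Γ))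
  have hCa : ∀ x, Nat.card (Subgroup.centralizer ({x} : Set Γ)) = z * a x := fun x =>
    (Nat.mul_div_cancel' (Subgroup.card_dvd_of_le (hct.le_centralizer x))).symm
  have hnn : ∀ x ∈ S, nn x = 1 ∨ nn x = 2 := by
    intro x hx
    have hCpos : 0 < Nat.card (Subgroup.centralizer ({x} : Set Γ)) := Nat.card_pos
    rcases card_normalizer_centralizer h.inj h2 hx.2 with h1 | h1
    · left
      show _ / _ = 1
      rw [h1]; exact Nat.div_self hCpos
    · right
      show _ / _ = 2
      rw [h1]; exact Nat.mul_div_cancel _ hCpos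
  have hNn : ∀ x ∈ S,
      Nat.card (Subgroup.normalizer ((Subgroup.centralizer ({x} : Set Γ) : Subgroup Γ) : Set Γ)) =
        nn x * Nat.card (Subgroup.centralizer ({x} : Set Γ)) := by
    intro x hx
    have hCpos : 0 < Nat.card (Subgroup.centralizer ({x} : Set Γ)) := Nat.card_pos
    rcases card_normalizer_centralizer h.inj h2 hx.2 with h1 | h1
    · have : nn x = 1 := by
        show _ / _ = 1
        rw [h1]; exact Nat.div_self hCpos
      rw [this, one_mul, h1]
    · have : nn x = 2 := by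
        show _ / _ = 2
        rw [h1]; exact Nat.mul_div_cancel _ hCpos
      rw [this, h1]
  have ha2 : ∀ x ∈ S, 2 ≤ a x := by
    intro x hx
    have hlt : z < Nat.card (Subgroup.centralizer ({x} : Set Γ)) := by
      have hss : (Zs ρ : Set Γ) ⊂ (Subgroup.centralizer ({x} : Set Γ) : Set Γ) :=
        ⟨hct.le_centralizer x, fun hh =>
          hx.1 (hh (mem_centralizer_iff_commute.2 (Commute.refl x)))⟩
      exact Set.ncard_lt_ncard hss
    rw [hCa x] at hlt
    by_contra hlt2
    push Not at hlt2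
    have : a x ≤ 1 := by omega
    nlinarith
  have hcls : ∀ x ∈ S,
      (cls (Zs ρ) x).ncard * nn x * a x + z * s * r * k = z * s * r * k * a x := by
    intro x hx
    have h1 := hct.card_cls hx.1
    rw [hNn x hx, hCa x, hΓ] at h1
    obtain ⟨a', ha'⟩ : ∃ a', a x = a' + 1 := ⟨a x - 1, by have := ha2 x hx; omega⟩
    rw [ha'] at h1 ⊢
    have e : z * (a' + 1) - z = z * a' := by
      rw [Nat.mul_add, mul_one, Nat.add_sub_cancel]
    rw [e] at h1
    have h3 : (cls (Zs ρ) x).ncard * nn x * (a' + 1) = z * s * r * k * a' := by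
      apply Nat.eq_of_mul_eq_mul_left hz1
      calc z * ((cls (Zs ρ) x).ncard * nn x * (a' + 1))
          = (cls (Zs ρ) x).ncard * (nn x * (z * (a' + 1))) := by ring
        _ = z * s * r * k * (z * a') := h1
        _ = z * (z * s * r * k * a') := by ring
    rw [h3]; ring
  have hcop : ∀ x ∈ S, Nat.Coprime (a x) r := by
    intro x hx
    rw [hre]
    apply Nat.Coprime.pow_right
    rw [Nat.coprime_comm, (Fact.out : p.Prime).coprime_iff_not_dvd]
    intro hdvd
    apply not_dvd_card_centralizer (p := p) h.inj h2 hx.2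
    rw [hCa x]
    exact dvd_mul_of_dvd_right hdvd z
  have hk2 : 2 ≤ k → ∃ x₀ ∈ S, a x₀ = k := by
    intro hk2
    have hlt : Nat.card (Ps ρ) < Nat.card (Bn ρ) := by
      rw [hBn, hPs]
      have : 0 < z * r := by positivity
      nlinarith
    obtain ⟨x₀, hx1, hx2, hx3⟩ := std_exists_x0 h hlt
    refine ⟨x₀, ⟨hx1, hx2⟩, ?_⟩
    rw [hCa x₀, hBn] at hx3
    have : r * (z * a x₀) = r * (z * k) := by rw [hx3]; ring
    have := Nat.eq_of_mul_eq_mul_left (by omega) this
    exact Nat.eq_of_mul_eq_mul_left hz1 this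
  have hsub : ∀ x ∈ S, cls (Zs ρ) x ⊆ S := by
    intro x hx y hy
    exact ⟨hy.1, fun ht => hx.2 (tr_of_mem_cls h.inj hx.1 hy ht)⟩
  have hdisj : ∀ x ∈ S, ∀ y ∈ S, y ∉ cls (Zs ρ) x → Disjoint (cls (Zs ρ) x) (cls (Zs ρ) y) :=
    fun x hx y hy hxy => hct.cls_disjoint hx.1 hy.1 hxy
  rcases numerics S (cls (Zs ρ)) a nn z s r k hsub hdisj hz1 hs2 hr3 hrodd hk1 hkr hSeq hcls ha2
    hnn hcop hk2 with h1 | ⟨hr3', hk2', x₀, hx₀, y, hy, hax, hay, hall⟩
  · left; exact h1
  · right
    have hp3' : p = 3 := by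
      have : p ∣ 3 := by
        rw [← hr3', hre]
        exact dvd_pow_self p (by omega)
      exact (Nat.prime_dvd_prime_iff_eq Fact.out Nat.prime_three).1 this
    refine ⟨hp3', hr3', ?_⟩
    -- the two classes are different
    have hxy : y ∉ cls (Zs ρ) x₀ := by
      intro hyx
      have e := card_centralizer_of_mem_cls hct hx₀.1 hyx
      rw [hCa y, hCa x₀, hax, hay] at e
      omega
    have hSu : S = cls (Zs ρ) x₀ ∪ cls (Zs ρ) y := by
      apply Set.Subset.antisymm
      · intro w hw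
        exact hall w hw
      · exact Set.union_subset (hsub x₀ hx₀) (hsub y hy)
    have hSn : S.ncard = (cls (Zs ρ) x₀).ncard + (cls (Zs ρ) y).ncard := by
      conv_lhs => rw [hSu]
      exact Set.ncard_union_eq (hdisj x₀ hx₀ y hy hxy) (Set.toFinite _) (Set.toFinite _)
    have c0 := hcls x₀ hx₀
    have cy := hcls y hy
    rw [hax] at c0
    rw [hay] at cy
    rw [hr3', hk2'] at c0 cy hSeq hΓ
    set T := z * s with hT
    have e1 : z * s * 3 * 2 = 6 * T := by rw [hT]; ring
    have e2 : s * z * 3 = 3 * T := by rw [hT]; ring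
    have e3 : s * z = T := by rw [hT]; ring
    rw [e1] at c0 cy hSeq hΓ
    rw [e2, e3] at hSeq
    have hT10 : T = 10 * z := by
      rcases hnn x₀ hx₀ with n0 | n0 <;> rcases hnn y hy with ny | ny <;>
        rw [n0] at c0 <;> rw [ny] at cy <;> omega
    rw [hΓ, hT10]
    ring

end Cfsg.Agent.Lib.Helper51_SL2Dich
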