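import Mathlib
import Cfsg.Agent.Lib.Helper99_SL2EvenSub2

/-!
Solubilizers in `SL(2,F)`, `F` a finite field of characteristic 2 (helper99):
a solvable subgroup normalizes the centralizer of one of its non-identity elements; the set of `y`
with `⟨x, y⟩` solvable is described and counted for every `x ≠ 1`.
-/

set_option autoImplicit false

namespace Cfsg.Agent.Lib.Helper99_SL2EvenSol

open Matrix
open scoped MatrixGroups
open Cfsg.Agent.Lib.Helper99_SL2Even Cfsg.Agent.Lib.Helper99_SL2EvenSub

section general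

variable {G : Type*} [Group G]

open scoped commutatorElement

/-- A group with a commutative subgroup containing all commutators is solvable. -/
theorem isSolvable_of_commutator_mem (K : Subgroup G) (hK : ∀ a ∈ K, ∀ b ∈ K, a * b = b * a)
    (h : ∀ a b : G, a * b * a⁻¹ * b⁻¹ ∈ K) : Group.IsSolvable G := by
  rw [Group.isSolvable_def]
  refine ⟨2, ?_⟩
  have h1 : derivedSeries G 1 ≤ K := by
    rw [derivedSeries_one, commutator_def, Subgroup.commutator_le]
    intro a _ b _
    rw [commutatorElement_def]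
    exact h a b
  rw [derivedSeries_succ, eq_bot_iff]
  calc ⁅derivedSeries G 1, derivedSeries G 1⁆ ≤ ⁅K, K⁆ := Subgroup.commutator_mono h1 h1
    _ ≤ ⊥ := by
      rw [Subgroup.commutator_le]
      intro a ha b hb
      rw [Subgroup.mem_bot, commutatorElement_def, hK a ha b hb]
      group

/-- Subgroup version. -/
theorem isSolvable_subgroup_of_commutator_mem (H K : Subgroup G)
    (hK : ∀ a ∈ K, ∀ b ∈ K, a * b = b * a)
    (h : ∀ a ∈ H, ∀ b ∈ H, a * b * a⁻¹ * b⁻¹ ∈ K) :
    Group.IsSolvable ↥H := by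
  apply isSolvable_of_commutator_mem (K.subgroupOf H)
  · rintro ⟨a, ha⟩ ha' ⟨b, hb⟩ hb'
    apply Subtype.ext
    exact hK a (Subgroup.mem_subgroupOf.1 ha') b (Subgroup.mem_subgroupOf.1 hb')
  · rintro ⟨a, ha⟩ ⟨b, hb⟩
    rw [Subgroup.mem_subgroupOf]
    exact h a ha b hb

/-- A subgroup of a subgroup with solvable underlying group is solvable. -/
theorem isSolvable_of_le {H K : Subgroup G} (hHK : H ≤ K) [Group.IsSolvable ↥K] : Group.IsSolvable ↥H :=
  Group.isSolvable_of_isSolvable_injective (Subgroup.inclusion_injective hHK)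

/-- In a group where commuting non-identity elements have the same centralizer, a nontrivial
solvable subgroup normalizes the centralizer of one of its non-identity elements. -/
theorem exists_le_normalizer_centralizer
    (hCT : ∀ a b : G, a ≠ 1 → b ≠ 1 → a * b = b * a →
      Subgroup.centralizer ({a} : Set G) = Subgroup.centralizer ({b} : Set G))
    (H : Subgroup G) [hs : Group.IsSolvable ↥H] (hH : H ≠ ⊥) :
    ∃ a ∈ H, a ≠ 1 ∧
      H ≤ Subgroup.normalizer ((Subgroup.centralizer ({a} : Set G) : Subgroup G) : Set G) := by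
  classical
  have hex := (Group.isSolvable_def ↥H).1 hs
  set n := Nat.find hex with hn
  have hnspec : derivedSeries ↥H n = ⊥ := Nat.find_spec hex
  have : Nontrivial ↥H := (Subgroup.nontrivial_iff_ne_bot H).2 hH
  have hn0 : n ≠ 0 := by
    intro h0
    rw [h0, derivedSeries_zero] at hnspec
    exact top_ne_bot hnspec
  obtain ⟨m, hm⟩ := Nat.exists_eq_succ_of_ne_zero hn0
  have hAne : derivedSeries ↥H m ≠ ⊥ := by
    intro h
    have := Nat.find_min' hex h
    omega
  have hAcomm : ⁅derivedSeries ↥H m, derivedSeries ↥H m⁆ = ⊥ := by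
    rw [← derivedSeries_succ, ← Nat.succ_eq_add_one, ← hm]
    exact hnspec
  obtain ⟨a', haA, ha1⟩ : ∃ a' ∈ derivedSeries ↥H m, a' ≠ 1 := by
    by_contra h
    push Not at h
    exact hAne ((Subgroup.eq_bot_iff_forall _).2 h)
  refine ⟨(a' : G), a'.2, fun h => ha1 (Subtype.ext h), ?_⟩
  intro h hh
  have hnorm : (derivedSeries ↥H m).Normal := derivedSeries_normal ↥H m
  have hconj : (⟨h, hh⟩ : ↥H) * a' * (⟨h, hh⟩ : ↥H)⁻¹ ∈ derivedSeries ↥H m :=
    hnorm.conj_mem a' haA ⟨h, hh⟩
  have hc : (⟨h, hh⟩ : ↥H) * a' * (⟨h, hh⟩ : ↥H)⁻¹ * a' =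
      a' * ((⟨h, hh⟩ : ↥H) * a' * (⟨h, hh⟩ : ↥H)⁻¹) := by
    have := (Subgroup.commutator_eq_bot_iff_le_centralizer).1 hAcomm hconj
    rw [Subgroup.mem_centralizer_iff] at this
    exact (this a' haA).symm
  have hc' : (h * (a' : G) * h⁻¹) * (a' : G) = (a' : G) * (h * (a' : G) * h⁻¹) := by
    have := congrArg Subtype.val hc
    simpa using this
  have hne : h * (a' : G) * h⁻¹ ≠ 1 := by
    intro h1
    apply ha1
    apply Subtype.ext
    have : (a' : G) = h⁻¹ * (h * (a' : G) * h⁻¹) * h := by group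
    rw [this, h1]
    simp
  have hCeq := hCT (h * (a' : G) * h⁻¹) (a' : G) hne (fun h => ha1 (Subtype.ext h)) hc'
  rw [Subgroup.mem_normalizer_iff]
  intro g
  conv_rhs => rw [← hCeq]
  rw [Subgroup.mem_centralizer_singleton_iff, Subgroup.mem_centralizer_singleton_iff]
  constructor
  · intro hg
    calc h * g * h⁻¹ * (h * (a' : G) * h⁻¹) = h * (g * (a' : G)) * h⁻¹ := by group
      _ = h * ((a' : G) * g) * h⁻¹ := by rw [hg]
      _ = h * (a' : G) * h⁻¹ * (h * g * h⁻¹) := by group
  · intro hg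
    have e1 : (a' : G) * g = h⁻¹ * (h * (a' : G) * h⁻¹ * (h * g * h⁻¹)) * h := by group
    have e2 : g * (a' : G) = h⁻¹ * (h * g * h⁻¹ * (h * (a' : G) * h⁻¹)) * h := by group
    rw [e1, e2, hg]

/-- Transport of the solubilizer along a group isomorphism. -/
theorem card_sol_congr {G' : Type*} [Group G'] (e : G ≃* G') (x : G) :
    Nat.card {y : G // Group.IsSolvable ↥(Subgroup.closure ({x, y} : Set G))} =
    Nat.card {y : G' // Group.IsSolvable ↥(Subgroup.closure ({e x, y} : Set G'))} := by
  apply Nat.card_congr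
  refine e.toEquiv.subtypeEquiv ?_
  intro y
  have hmap : Subgroup.closure ({e x, e y} : Set G') =
      (Subgroup.closure ({x, y} : Set G)).map e.toMonoidHom := by
    rw [MonoidHom.map_closure, Set.image_pair]
    rfl
  have em : ↥(Subgroup.closure ({x, y} : Set G)) ≃*
      ↥((Subgroup.closure ({x, y} : Set G)).map e.toMonoidHom) :=
    e.subgroupMap _
  change Group.IsSolvable ↥(Subgroup.closure ({x, y} : Set G)) ↔
    Group.IsSolvable ↥(Subgroup.closure ({e x, e y} : Set G'))
  rw [hmap]
  constructor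
  · intro h
    exact Group.isSolvable_of_isSolvable_injective (f := em.symm.toMonoidHom) em.symm.injective
  · intro h
    exact Group.isSolvable_of_isSolvable_injective (f := em.toMonoidHom) em.injective

/-- The centralizer of a conjugate. -/
theorem mem_centralizer_conj_iff (g t y : G) :
    y ∈ Subgroup.centralizer ({g * t * g⁻¹} : Set G) ↔
      g⁻¹ * y * g ∈ Subgroup.centralizer ({t} : Set G) := by
  rw [Subgroup.mem_centralizer_singleton_iff, Subgroup.mem_centralizer_singleton_iff]
  constructor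
  · intro h
    have e1 : t * (g⁻¹ * y * g) = g⁻¹ * (g * t * g⁻¹ * y) * g := by group
    have e2 : g⁻¹ * y * g * t = g⁻¹ * (y * (g * t * g⁻¹)) * g := by group
    rw [e1, e2, h]
  · intro h
    have e1 : g * t * g⁻¹ * y = g * (t * (g⁻¹ * y * g)) * g⁻¹ := by group
    have e2 : y * (g * t * g⁻¹) = g * (g⁻¹ * y * g * t) * g⁻¹ := by group
    rw [e1, e2, h]

/-- The normalizer of the centralizer of a conjugate. -/
theorem mem_normalizer_centralizer_conj_iff (g t y : G) :
    y ∈ Subgroup.normalizer ((Subgroup.centralizer ({g * t * g⁻¹} : Set G) : Subgroup G) : Set G) ↔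
      g⁻¹ * y * g ∈
        Subgroup.normalizer ((Subgroup.centralizer ({t} : Set G) : Subgroup G) : Set G) := by
  rw [Subgroup.mem_normalizer_iff, Subgroup.mem_normalizer_iff]
  constructor
  · intro h k
    have := h (g * k * g⁻¹)
    rw [mem_centralizer_conj_iff, mem_centralizer_conj_iff] at this
    have e1 : g⁻¹ * (g * k * g⁻¹) * g = k := by group
    have e2 : g⁻¹ * (y * (g * k * g⁻¹) * y⁻¹) * g = g⁻¹ * y * g * k * (g⁻¹ * y * g)⁻¹ := by group
    rw [e1, e2] at this
    exact this
  · intro h k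
    have := h (g⁻¹ * k * g)
    rw [mem_centralizer_conj_iff, mem_centralizer_conj_iff]
    have e2 : g⁻¹ * (y * k * y⁻¹) * g = g⁻¹ * y * g * (g⁻¹ * k * g) * (g⁻¹ * y * g)⁻¹ := by group
    rw [e2]
    exact this

/-- Solvability of a two-generated subgroup is invariant under isomorphisms. -/
theorem isSolvable_closure_pair_congr {G' : Type*} [Group G'] (e : G ≃* G') (x y : G) :
    Group.IsSolvable ↥(Subgroup.closure ({x, y} : Set G)) ↔
    Group.IsSolvable ↥(Subgroup.closure ({e x, e y} : Set G')) := by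
  have hmap : Subgroup.closure ({e x, e y} : Set G') =
      (Subgroup.closure ({x, y} : Set G)).map e.toMonoidHom := by
    rw [MonoidHom.map_closure, Set.image_pair]
    rfl
  have em : ↥(Subgroup.closure ({x, y} : Set G)) ≃*
      ↥((Subgroup.closure ({x, y} : Set G)).map e.toMonoidHom) :=
    e.subgroupMap _
  rw [hmap]
  constructor
  · intro h
    exact Group.isSolvable_of_isSolvable_injective (f := em.symm.toMonoidHom) em.symm.injective
  · intro h
    exact Group.isSolvable_of_isSolvable_injective (f := em.toMonoidHom) em.injective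

/-- A two-generated subgroup inside a solvable subgroup is solvable. -/
theorem isSolvable_closure_pair_of_mem (K : Subgroup G) [Group.IsSolvable ↥K] (x y : G)
    (hx : x ∈ K) (hy : y ∈ K) : Group.IsSolvable ↥(Subgroup.closure ({x, y} : Set G)) := by
  apply isSolvable_of_le (K := K)
  rw [Subgroup.closure_le]
  intro z hz
  rcases hz with rfl | rfl
  · exact hx
  · exact hy

end general

section sl2

variable {F : Type*} [Field F]

theorem mul_apply' (g h : SL(2, F)) (i j : Fin 2) :
    (g * h) i j = g i 0 * h 0 j + g i 1 * h 1 j := by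
  rw [Matrix.SpecialLinearGroup.coe_mul, Matrix.mul_apply, Fin.sum_univ_two]

theorem inv_apply_00 (g : SL(2, F)) : (g⁻¹) 0 0 = g 1 1 := by
  rw [Matrix.SpecialLinearGroup.coe_inv, Matrix.adjugate_fin_two]; rfl

theorem inv_apply_01 (g : SL(2, F)) : (g⁻¹) 0 1 = - g 0 1 := by
  rw [Matrix.SpecialLinearGroup.coe_inv, Matrix.adjugate_fin_two]; rfl

theorem inv_apply_10 (g : SL(2, F)) : (g⁻¹) 1 0 = - g 1 0 := by
  rw [Matrix.SpecialLinearGroup.coe_inv, Matrix.adjugate_fin_two]; rfl

theorem inv_apply_11 (g : SL(2, F)) : (g⁻¹) 1 1 = g 0 0 := by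
  rw [Matrix.SpecialLinearGroup.coe_inv, Matrix.adjugate_fin_two]; rfl

theorem det_eq (g : SL(2, F)) : g 0 0 * g 1 1 - g 0 1 * g 1 0 = 1 := by
  have := g.det_coe
  rwa [Matrix.det_fin_two] at this

theorem ext_entries (g h : SL(2, F)) (h00 : g 0 0 = h 0 0) (h01 : g 0 1 = h 0 1)
    (h10 : g 1 0 = h 1 0) (h11 : g 1 1 = h 1 1) : g = h := by
  apply Subtype.ext
  ext i j
  fin_cases i <;> fin_cases j
  · exact h00
  · exact h01
  · exact h10
  · exact h11

theorem uu_apply_00 (x : F) : (uu x) 0 0 = 1 := by rw [uu_val]; rfl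
theorem uu_apply_01 (x : F) : (uu x) 0 1 = x := by rw [uu_val]; rfl
theorem uu_apply_10 (x : F) : (uu x) 1 0 = 0 := by rw [uu_val]; rfl
theorem uu_apply_11 (x : F) : (uu x) 1 1 = 1 := by rw [uu_val]; rfl
theorem ll_apply_00 (x : F) : (ll x) 0 0 = 1 := by rw [ll_val]; rfl
theorem ll_apply_01 (x : F) : (ll x) 0 1 = 0 := by rw [ll_val]; rfl
theorem ll_apply_10 (x : F) : (ll x) 1 0 = x := by rw [ll_val]; rfl
theorem ll_apply_11 (x : F) : (ll x) 1 1 = 1 := by rw [ll_val]; rfl

theorem one_apply_00 : (1 : SL(2, F)) 0 0 = 1 := by simp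
theorem one_apply_01 : (1 : SL(2, F)) 0 1 = 0 := by simp
theorem one_apply_10 : (1 : SL(2, F)) 1 0 = 0 := by simp
theorem one_apply_11 : (1 : SL(2, F)) 1 1 = 1 := by simp

/-- An element with `g 1 0 = 0` and `g 0 0 = 1` is `uu (g 0 1)`. -/
theorem eq_uu_of (g : SL(2, F)) (h10 : g 1 0 = 0) (h00 : g 0 0 = 1) : g = uu (g 0 1) := by
  have hd := det_eq g
  rw [h10, h00] at hd
  apply ext_entries
  · rw [uu_apply_00, h00]
  · rw [uu_apply_01]
  · rw [uu_apply_10, h10]
  · rw [uu_apply_11]; linear_combination hd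

/-- An element with `g 0 1 = 0` and `g 0 0 = 1` is `ll (g 1 0)`. -/
theorem eq_ll_of (g : SL(2, F)) (h01 : g 0 1 = 0) (h00 : g 0 0 = 1) : g = ll (g 1 0) := by
  have hd := det_eq g
  rw [h01, h00] at hd
  apply ext_entries
  · rw [ll_apply_00, h00]
  · rw [ll_apply_01, h01]
  · rw [ll_apply_10]
  · rw [ll_apply_11]; linear_combination hd

theorem tor_apply_00 (r : Fˣ) : (Cfsg.Agent.S0262.tor r : SL(2, F)) 0 0 = (r : F) := rfl
theorem tor_apply_01 (r : Fˣ) : (Cfsg.Agent.S0262.tor r : SL(2, F)) 0 1 = 0 := rfl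
theorem tor_apply_10 (r : Fˣ) : (Cfsg.Agent.S0262.tor r : SL(2, F)) 1 0 = 0 := rfl
theorem tor_apply_11 (r : Fˣ) :
    (Cfsg.Agent.S0262.tor r : SL(2, F)) 1 1 = ((r⁻¹ : Fˣ) : F) := rfl

theorem tor_conj_uu (r : Fˣ) (c : F) :
    Cfsg.Agent.S0262.tor r * uu c * (Cfsg.Agent.S0262.tor r)⁻¹ = uu ((r : F) ^ 2 * c) := by
  rw [mul_inv_eq_iff_eq_mul]
  have hr : (r : F) * ((r⁻¹ : Fˣ) : F) = 1 := by
    rw [← Units.val_mul, mul_inv_cancel, Units.val_one]
  apply ext_entries <;>
    simp only [mul_apply', tor_apply_00, tor_apply_01, tor_apply_10, tor_apply_11, uu_apply_00,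
      uu_apply_01, uu_apply_10, uu_apply_11]
  · ring
  · linear_combination (-(r : F) * c) * hr
  · ring
  · ring

end sl2

section char2

variable {F : Type*} [Field F] [CharP F 2]

/-- centralizer of an element -/
abbrev Cn (x : SL(2, F)) : Subgroup SL(2, F) := Subgroup.centralizer ({x} : Set SL(2, F))

/-- normalizer of the centralizer of an element -/
abbrev Nn (x : SL(2, F)) : Subgroup SL(2, F) :=
  Subgroup.normalizer ((Subgroup.centralizer ({x} : Set SL(2, F)) : Subgroup SL(2, F)) :
    Set SL(2, F))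

theorem neg_eq_self (a : F) : -a = a := by
  have h2 : (2 : F) = 0 := two_eq_zero
  linear_combination (-a) * h2

/-- Every element of `SL(2,F)` squares to one or has odd order. -/
theorem sq_eq_one_or_odd [Finite F] (a : SL(2, F)) : a * a = 1 ∨ Odd (orderOf a) := by
  by_contra h
  push Not at h
  obtain ⟨h1, h2⟩ := h
  rw [Nat.not_odd_iff_even] at h2
  obtain ⟨m, hm⟩ := h2
  have hpos : 0 < orderOf a := orderOf_pos a
  have htt : a ^ m * a ^ m = 1 := by rw [← pow_add, ← hm, pow_orderOf_eq_one]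
  have ht1 : a ^ m ≠ 1 := by
    intro h
    have := Nat.le_of_dvd (by omega) (orderOf_dvd_of_pow_eq_one h)
    omega
  have hc : a * a ^ m = a ^ m * a := by
    rw [← pow_succ', ← pow_succ]
  exact h1 (sq_eq_one_of_commute (a ^ m) a htt ht1 hc)

/-- Commuting non-identity elements have the same centralizer. -/
theorem hCT (a b : SL(2, F)) (ha : a ≠ 1) (hb : b ≠ 1) (hab : a * b = b * a) :
    Cn a = Cn b :=
  cent_eq_of_mem b a hb ha ((mem_cent_iff b a).2 hab)

/-- The element `[[0,1],[1,0]]`. -/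
def ww : SL(2, F) := ⟨!![0, 1; 1, 0], by
  rw [Matrix.det_fin_two_of]
  have h2 : (2 : F) = 0 := two_eq_zero
  linear_combination -h2⟩

theorem ww_apply_00 : (ww : SL(2, F)) 0 0 = 0 := rfl
theorem ww_apply_01 : (ww : SL(2, F)) 0 1 = 1 := rfl
theorem ww_apply_10 : (ww : SL(2, F)) 1 0 = 1 := rfl
theorem ww_apply_11 : (ww : SL(2, F)) 1 1 = 0 := rfl

theorem ww_conj_uu (c : F) : ww * uu c * ww⁻¹ = ll c := by
  rw [mul_inv_eq_iff_eq_mul]
  apply ext_entries <;>
    simp only [mul_apply', ww_apply_00, ww_apply_01, ww_apply_10, ww_apply_11, uu_apply_00,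
      uu_apply_01, uu_apply_10, uu_apply_11, ll_apply_00, ll_apply_01, ll_apply_10, ll_apply_11] <;>
    ring

/-- Every involution is conjugate to `uu 1`. -/
theorem exists_conj_uu_one [Finite F] (t : SL(2, F)) (htt : t * t = 1) (ht1 : t ≠ 1) :
    ∃ g : SL(2, F), g * uu 1 * g⁻¹ = t := by
  have key : ∀ b : F, b ≠ 0 → ∃ g : SL(2, F), g * uu 1 * g⁻¹ = uu b := by
    intro b hb
    obtain ⟨s, hs⟩ := FiniteField.isSquare_of_char_two (CharP.ringChar_of_prime_eq_zero
      Nat.prime_two (two_eq_zero (F := F))) b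
    have hs0 : s ≠ 0 := by
      rintro rfl
      apply hb
      rw [hs, mul_zero]
    refine ⟨Cfsg.Agent.S0262.tor (Units.mk0 s hs0), ?_⟩
    rw [tor_conj_uu, Units.val_mk0, mul_one, hs, sq]
  by_cases hc : t * uu 1 = uu 1 * t
  · obtain ⟨b, hb⟩ := (commute_uu_one_iff t).1 hc
    have hb0 : b ≠ 0 := by
      rintro rfl
      apply ht1
      rw [hb, uu_zero]
    rw [hb]
    exact key b hb0
  · obtain ⟨y, c, hc0, hyc⟩ := exists_conj_ll t htt hc
    obtain ⟨g, hg⟩ := key c hc0
    refine ⟨uu y * ww * g, ?_⟩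
    rw [← hyc, ← ww_conj_uu, ← hg]
    group

theorem uu_one_ne_one : (uu (1 : F)) ≠ 1 := by
  intro h
  rw [← uu_zero] at h
  exact one_ne_zero (uu_injective h)

theorem uu_ne_one (b : F) (hb : b ≠ 0) : uu b ≠ 1 := by
  intro h
  rw [← uu_zero] at h
  exact hb (uu_injective h)

theorem ll_ne_one (c : F) (hc : c ≠ 0) : ll c ≠ 1 := by
  intro h
  rw [← ll_zero] at h
  exact hc (Cfsg.Agent.Lib.Helper99_SL2EvenSub.ll_injective h)

/-- The normalizer of the centralizer of `uu b` consists of upper triangular matrices. -/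
theorem apply_10_of_mem_Nn_uu (b : F) (hb : b ≠ 0) (y : SL(2, F)) (hy : y ∈ Nn (uu b)) :
    y 1 0 = 0 := by
  have h1 : y * uu b * y⁻¹ ∈ Cn (uu b) :=
    ((Subgroup.mem_normalizer_iff.1 hy) (uu b)).1 (self_mem_cent (uu b))
  have hC : Cn (uu b) = Cn (uu (1 : F)) := by
    apply hCT _ _ (uu_ne_one b hb) uu_one_ne_one
    rw [uu_mul, uu_mul, add_comm]
  rw [hC, mem_cent_iff] at h1
  obtain ⟨b', hb'⟩ := (commute_uu_one_iff _).1 h1
  rw [mul_inv_eq_iff_eq_mul] at hb'
  have h11 := congrArg (fun m : SL(2, F) => m 1 1) hb'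
  simp only [mul_apply', uu_apply_00, uu_apply_01, uu_apply_10, uu_apply_11] at h11
  have : y 1 0 * b = 0 := by linear_combination h11
  rcases mul_eq_zero.1 this with h | h
  · exact h
  · exact absurd h hb

/-- The normalizer of the centralizer of `ll c` consists of lower triangular matrices. -/
theorem apply_01_of_mem_Nn_ll (c : F) (hc : c ≠ 0) (y : SL(2, F)) (hy : y ∈ Nn (ll c)) :
    y 0 1 = 0 := by
  have h1 : y * ll c * y⁻¹ ∈ Cn (ll c) :=
    ((Subgroup.mem_normalizer_iff.1 hy) (ll c)).1 (self_mem_cent (ll c))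
  rw [mem_cent_iff] at h1
  obtain ⟨c', hc'⟩ := (commute_ll_iff c hc _).1 h1
  rw [mul_inv_eq_iff_eq_mul] at hc'
  have h00 := congrArg (fun m : SL(2, F) => m 0 0) hc'
  simp only [mul_apply', ll_apply_00, ll_apply_01, ll_apply_10, ll_apply_11] at h00
  have : y 0 1 * c = 0 := by linear_combination h00
  rcases mul_eq_zero.1 this with h | h
  · exact h
  · exact absurd h hc

omit [CharP F 2] in
/-- The upper triangular subgroup. -/
def BU : Subgroup SL(2, F) where
  carrier := {y | y 1 0 = 0}
  mul_mem' := by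
    intro a b ha hb
    simp only [Set.mem_setOf_eq] at ha hb ⊢
    rw [mul_apply', ha, hb]
    ring
  one_mem' := by simp
  inv_mem' := by
    intro a ha
    simp only [Set.mem_setOf_eq] at ha ⊢
    rw [inv_apply_10, ha, neg_zero]

omit [CharP F 2] in
/-- The lower triangular subgroup. -/
def BL : Subgroup SL(2, F) where
  carrier := {y | y 0 1 = 0}
  mul_mem' := by
    intro a b ha hb
    simp only [Set.mem_setOf_eq] at ha hb ⊢
    rw [mul_apply', ha, hb]
    ring
  one_mem' := by simp
  inv_mem' := by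
    intro a ha
    simp only [Set.mem_setOf_eq] at ha ⊢
    rw [inv_apply_01, ha, neg_zero]

omit [CharP F 2] in
theorem mem_BU_iff (y : SL(2, F)) : y ∈ (BU : Subgroup SL(2, F)) ↔ y 1 0 = 0 := Iff.rfl

omit [CharP F 2] in
theorem mem_BL_iff (y : SL(2, F)) : y ∈ (BL : Subgroup SL(2, F)) ↔ y 0 1 = 0 := Iff.rfl

/-- The upper triangular subgroup is solvable. -/
instance isSolvable_BU : Group.IsSolvable ↥(BU : Subgroup SL(2, F)) := by
  apply isSolvable_subgroup_of_commutator_mem BU (Cn (uu (1 : F)))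
  · intro a ha b hb
    exact cent_comm (uu 1) uu_one_ne_one a b ha hb
  · intro a ha b hb
    rw [mem_BU_iff] at ha hb
    have hda := det_eq a
    have hdb := det_eq b
    rw [ha] at hda
    rw [hb] at hdb
    rw [mem_cent_iff, commute_uu_one_iff]
    refine ⟨_, eq_uu_of _ ?_ ?_⟩
    · simp only [mul_apply', inv_apply_00, inv_apply_01, inv_apply_10, inv_apply_11, ha, hb]
      ring
    · simp only [mul_apply', inv_apply_00, inv_apply_01, inv_apply_10, inv_apply_11, ha, hb]
      linear_combination (b 0 0 * b 1 1) * hda + hdb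

/-- The lower triangular subgroup is solvable. -/
instance isSolvable_BL : Group.IsSolvable ↥(BL : Subgroup SL(2, F)) := by
  apply isSolvable_subgroup_of_commutator_mem BL (Cn (ll (1 : F)))
  · intro a ha b hb
    exact cent_comm (ll 1) (ll_ne_one 1 one_ne_zero) a b ha hb
  · intro a ha b hb
    rw [mem_BL_iff] at ha hb
    have hda := det_eq a
    have hdb := det_eq b
    rw [ha] at hda
    rw [hb] at hdb
    rw [mem_cent_iff, commute_ll_iff 1 one_ne_zero]
    refine ⟨_, eq_ll_of _ ?_ ?_⟩
    · simp only [mul_apply', inv_apply_00, inv_apply_01, inv_apply_10, inv_apply_11, ha, hb]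
      ring
    · simp only [mul_apply', inv_apply_00, inv_apply_01, inv_apply_10, inv_apply_11, ha, hb]
      linear_combination (b 0 0 * b 1 1) * hda + hdb

/-- The normalizer of the centralizer of a non-identity element of odd order is solvable. -/
theorem isSolvable_Nn [Finite F] (x : SL(2, F)) (hx : x ≠ 1) (hodd : Odd (orderOf x)) :
    Group.IsSolvable ↥(Nn x) := by
  apply isSolvable_subgroup_of_commutator_mem (Nn x) (Cn x)
  · intro a ha b hb
    exact cent_comm x hx a b ha hb
  · intro a ha b hb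
    by_cases haC : a ∈ Cn x
    · by_cases hbC : b ∈ Cn x
      · exact (Cn x).mul_mem ((Cn x).mul_mem ((Cn x).mul_mem haC hbC) ((Cn x).inv_mem haC))
          ((Cn x).inv_mem hbC)
      · have h1 := inverts_of_mem_normalizer x hx hodd b hb hbC a⁻¹ ((Cn x).inv_mem haC)
        rw [inv_inv] at h1
        have : a * b * a⁻¹ * b⁻¹ = a * a := by
          rw [mul_assoc, mul_assoc, ← mul_assoc b, h1]
        rw [this]
        exact (Cn x).mul_mem haC haC
    · by_cases hbC : b ∈ Cn x
      · have h1 := inverts_of_mem_normalizer x hx hodd a ha haC b hbC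
        rw [h1]
        exact (Cn x).mul_mem ((Cn x).inv_mem hbC) ((Cn x).inv_mem hbC)
      · have hax := inverts_of_mem_normalizer x hx hodd a ha haC x (self_mem_cent x)
        have hbx := inverts_of_mem_normalizer x hx hodd b hb hbC x (self_mem_cent x)
        have haa := sq_eq_one_of_mem_normalizer x hx hodd a ha haC
        have hbb := sq_eq_one_of_mem_normalizer x hx hodd b hb hbC
        have hab : a * b ∈ Cn x := by
          rw [mem_cent_iff]
          have h2 : a * b * x * (a * b)⁻¹ = x := by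
            calc a * b * x * (a * b)⁻¹ = a * (b * x * b⁻¹) * a⁻¹ := by group
              _ = a * x⁻¹ * a⁻¹ := by rw [hbx]
              _ = (a * x * a⁻¹)⁻¹ := by group
              _ = x := by rw [hax, inv_inv]
          rw [mul_inv_eq_iff_eq_mul] at h2
          exact h2
        have ea : a⁻¹ = a := inv_eq_of_mul_eq_one_left haa
        have eb : b⁻¹ = b := inv_eq_of_mul_eq_one_left hbb
        rw [ea, eb, mul_assoc]
        exact (Cn x).mul_mem hab hab

/-- Centralizers of non-identity elements are solvable. -/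
theorem isSolvable_Cn (x : SL(2, F)) (hx : x ≠ 1) : Group.IsSolvable ↥(Cn x) := by
  apply Group.isSolvable_of_comm
  rintro ⟨a, ha⟩ ⟨b, hb⟩
  apply Subtype.ext
  exact cent_comm x hx a b ha hb

/-- Two elements squaring to one generate a solvable subgroup. -/
theorem isSolvable_two_involutions [Finite F] (s t : SL(2, F)) (hs : s * s = 1) (ht : t * t = 1) :
    Group.IsSolvable ↥(Subgroup.closure ({s, t} : Set SL(2, F))) := by
  have es : s⁻¹ = s := inv_eq_of_mul_eq_one_left hs
  have et : t⁻¹ = t := inv_eq_of_mul_eq_one_left ht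
  by_cases hs1 : s = 1
  · by_cases ht1 : t = 1
    · have : Subgroup.closure ({s, t} : Set SL(2, F)) = ⊥ := by
        rw [hs1, ht1]
        simp
      rw [this]
      infer_instance
    · haveI := isSolvable_Cn t ht1
      apply isSolvable_closure_pair_of_mem (Cn t)
      · rw [hs1]; exact (Cn t).one_mem
      · exact self_mem_cent t
  by_cases hst : s * t = t * s
  · haveI := isSolvable_Cn s hs1
    apply isSolvable_closure_pair_of_mem (Cn s)
    · exact self_mem_cent s
    · rw [mem_cent_iff]; exact hst.symm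
  · have hcc : (s * t) * (s * t) ≠ 1 := by
      intro h
      apply hst
      have h2 : s * t = (s * t)⁻¹ := (inv_eq_of_mul_eq_one_left h).symm
      rw [_root_.mul_inv_rev, es, et] at h2
      exact h2
    have hodd : Odd (orderOf (s * t)) := by
      rcases sq_eq_one_or_odd (s * t) with h | h
      · exact absurd h hcc
      · exact h
    have hc1 : s * t ≠ 1 := by
      intro h
      apply hcc
      rw [h, mul_one]
    haveI := isSolvable_Nn (s * t) hc1 hodd
    apply isSolvable_closure_pair_of_mem (Nn (s * t))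
    · apply mem_normalizer_of_inv (s * t) s hc1
      rw [_root_.mul_inv_rev, es, et, ← mul_assoc s s t, hs, one_mul]
    · apply mem_normalizer_of_inv (s * t) t hc1
      rw [_root_.mul_inv_rev, es, et, mul_assoc t (s * t) t, mul_assoc s t t, ht, mul_one]

omit [CharP F 2] in
/-- `⟨x, y⟩ = ⟨x, x y⟩`. -/
theorem closure_pair_mul (x y : SL(2, F)) :
    Subgroup.closure ({x, y} : Set SL(2, F)) = Subgroup.closure ({x, x * y} : Set SL(2, F)) := by
  apply le_antisymm
  · rw [Subgroup.closure_le]
    intro z hz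
    rcases hz with h | h
    · rw [h]; exact Subgroup.subset_closure (by simp)
    · have h1 : x ∈ Subgroup.closure ({x, x * y} : Set SL(2, F)) :=
        Subgroup.subset_closure (by simp)
      have h2 : x * y ∈ Subgroup.closure ({x, x * y} : Set SL(2, F)) :=
        Subgroup.subset_closure (by simp)
      have hy : y = x⁻¹ * (x * y) := by group
      rw [Set.mem_singleton_iff] at h
      rw [h, SetLike.mem_coe]
      have := Subgroup.mul_mem _ (Subgroup.inv_mem _ h1) h2
      rwa [← hy] at this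
  · rw [Subgroup.closure_le]
    intro z hz
    rcases hz with h | h
    · rw [h]; exact Subgroup.subset_closure (by simp)
    · rw [Set.mem_singleton_iff] at h
      rw [h]
      exact Subgroup.mul_mem _ (Subgroup.subset_closure (by simp))
        (Subgroup.subset_closure (by simp))

/-- An involution normalizing the centralizer of an involution commutes with it. -/
theorem commute_of_mem_Nn_involution [Finite F] (a x : SL(2, F)) (haa : a * a = 1)
    (hxx : x * x = 1) (hx : x ∈ Nn a) : x * a = a * x := by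
  have ea : a⁻¹ = a := inv_eq_of_mul_eq_one_left haa
  have ex : x⁻¹ = x := inv_eq_of_mul_eq_one_left hxx
  have h1 : x * a * x⁻¹ ∈ Cn a := ((Subgroup.mem_normalizer_iff.1 hx) a).1 (self_mem_cent a)
  rw [mem_cent_iff, ex] at h1
  -- h1 : x * a * x * a = a * (x * a * x)
  have h4 : (x * a) * (x * a) * ((x * a) * (x * a)) = 1 := by
    calc (x * a) * (x * a) * ((x * a) * (x * a)) = (x * a * x * a) * (x * a * x) * a := by group
      _ = a * (x * a * x) * (x * a * x) * a := by rw [h1]
      _ = a * (x * a * (x * x) * a * x) * a := by group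
      _ = a * (x * (a * a) * x) * a := by rw [hxx]; group
      _ = 1 := by rw [haa, mul_one, hxx, mul_one, haa]
  have hsq : (x * a) * (x * a) = 1 := by
    rcases sq_eq_one_or_odd (x * a) with h | h
    · exact h
    · have hd : orderOf (x * a) ∣ 4 := by
        apply orderOf_dvd_of_pow_eq_one
        rw [show (4 : ℕ) = 2 + 2 from rfl, pow_add, pow_two]
        exact h4
      have hle : orderOf (x * a) ≤ 4 := Nat.le_of_dvd (by norm_num) hd
      have h1' : orderOf (x * a) = 1 := by
        obtain ⟨k, hk⟩ := h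
        interval_cases hn : orderOf (x * a) <;> omega
      rw [orderOf_eq_one_iff] at h1'
      rw [h1', mul_one]
  have h2 : x * a = (x * a)⁻¹ := (inv_eq_of_mul_eq_one_left hsq).symm
  rw [_root_.mul_inv_rev, ea, ex] at h2
  exact h2

/-- Solubilizer of the involution `uu 1`. -/
theorem sol_involution [Fintype F] (y : SL(2, F)) :
    Group.IsSolvable ↥(Subgroup.closure ({uu 1, y} : Set SL(2, F))) ↔
      (y * y = 1 ∨ y 1 0 = 0 ∨ (uu 1 * y) * (uu 1 * y) = 1) := by
  have hxx : uu (1 : F) * uu 1 = 1 := uu_sq 1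
  have ex : (uu (1 : F))⁻¹ = uu 1 := inv_eq_of_mul_eq_one_left hxx
  constructor
  · intro hsol
    by_cases hyy : y * y = 1
    · left; exact hyy
    right
    have hyodd : Odd (orderOf y) := by
      rcases sq_eq_one_or_odd y with h | h
      · exact absurd h hyy
      · exact h
    have hxH : uu (1 : F) ∈ Subgroup.closure ({uu 1, y} : Set SL(2, F)) :=
      Subgroup.subset_closure (by simp)
    have hyH : y ∈ Subgroup.closure ({uu 1, y} : Set SL(2, F)) :=
      Subgroup.subset_closure (by simp)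
    have hne : Subgroup.closure ({uu 1, y} : Set SL(2, F)) ≠ ⊥ := by
      intro h
      rw [h, Subgroup.mem_bot] at hxH
      exact uu_one_ne_one hxH
    obtain ⟨a, haH, ha1, hle⟩ := exists_le_normalizer_centralizer hCT _ hne
    have hxN : uu (1 : F) ∈ Nn a := hle hxH
    have hyN : y ∈ Nn a := hle hyH
    rcases sq_eq_one_or_odd a with haa | haodd
    · left
      have hcomm := commute_of_mem_Nn_involution a (uu 1) haa hxx hxN
      have hC : Cn (uu (1 : F)) = Cn a := hCT _ _ uu_one_ne_one ha1 hcomm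
      have hyN' : y ∈ Nn (uu (1 : F)) := by
        change y ∈ Subgroup.normalizer ((Cn (uu (1 : F)) : Subgroup SL(2, F)) : Set SL(2, F))
        rw [hC]
        exact hyN
      exact apply_10_of_mem_Nn_uu 1 one_ne_zero y hyN'
    · right
      have hxC : uu (1 : F) ∉ Cn a := by
        intro h
        exact uu_one_ne_one (eq_one_of_sq_of_mem_cent a ha1 haodd (uu 1) h hxx)
      have hyC : y ∈ Cn a := by
        by_contra h
        exact hyy (sq_eq_one_of_mem_normalizer a ha1 haodd y hyN h)
      have hinv := inverts_of_mem_normalizer a ha1 haodd (uu 1) hxN hxC y hyC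
      rw [ex] at hinv
      calc uu 1 * y * (uu 1 * y) = (uu 1 * y * uu 1) * y := by group
        _ = 1 := by rw [hinv, inv_mul_cancel]
  · rintro (h | h | h)
    · exact isSolvable_two_involutions (uu 1) y hxx h
    · apply isSolvable_closure_pair_of_mem BU
      · rw [mem_BU_iff, uu_apply_10]
      · exact h
    · rw [closure_pair_mul]
      exact isSolvable_two_involutions (uu 1) (uu 1 * y) hxx h

theorem units_mul_inv_val (r : Fˣ) : (r : F) * ((r⁻¹ : Fˣ) : F) = 1 := by
  rw [← Units.val_mul, mul_inv_cancel, Units.val_one]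

/-- A diagonal matrix with distinct eigenvalues does not square to one. -/
theorem tor_sq_ne_one (r : Fˣ) (hr : (r : F) ≠ ((r⁻¹ : Fˣ) : F)) :
    Cfsg.Agent.S0262.tor r * Cfsg.Agent.S0262.tor r ≠ (1 : SL(2, F)) := by
  intro h
  have h00 := congrArg (fun m : SL(2, F) => m 0 0) h
  simp only [mul_apply', tor_apply_00, tor_apply_01, tor_apply_10, one_apply_00] at h00
  apply hr
  have hrs := units_mul_inv_val r
  have hr0 : (r : F) ≠ 0 := r.ne_zero
  apply mul_left_cancel₀ hr0
  rw [hrs]
  linear_combination h00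

theorem tor_ne_one (r : Fˣ) (hr : (r : F) ≠ ((r⁻¹ : Fˣ) : F)) :
    Cfsg.Agent.S0262.tor r ≠ (1 : SL(2, F)) := by
  intro h
  apply tor_sq_ne_one r hr
  rw [h, mul_one]

theorem tor_odd [Finite F] (r : Fˣ) (hr : (r : F) ≠ ((r⁻¹ : Fˣ) : F)) :
    Odd (orderOf (Cfsg.Agent.S0262.tor r : SL(2, F))) := by
  rcases sq_eq_one_or_odd (Cfsg.Agent.S0262.tor r : SL(2, F)) with h | h
  · exact absurd h (tor_sq_ne_one r hr)
  · exact h

/-- An involution whose conjugate by a regular diagonal matrix commutes with it is unitriangular. -/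
theorem involution_of_conj_commute (r : Fˣ) (hr : (r : F) ≠ ((r⁻¹ : Fˣ) : F)) (a : SL(2, F))
    (haa : a * a = 1)
    (h : (Cfsg.Agent.S0262.tor r * a * (Cfsg.Agent.S0262.tor r)⁻¹) * a =
      a * (Cfsg.Agent.S0262.tor r * a * (Cfsg.Agent.S0262.tor r)⁻¹)) :
    (∃ β : F, a = uu β) ∨ (∃ γ : F, a = ll γ) := by
  have h2 : (2 : F) = 0 := two_eq_zero
  have hrs := units_mul_inv_val r
  have htr := trace_eq_zero_of_sq a haa
  rw [Matrix.trace_fin_two] at htr
  have hdet := det_eq a
  have h00 := congrArg (fun m : SL(2, F) => m 0 0) h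
  simp only [mul_apply', inv_apply_00, inv_apply_01, inv_apply_10, inv_apply_11, tor_apply_00,
    tor_apply_01, tor_apply_10, tor_apply_11] at h00
  set s : F := ((r⁻¹ : Fˣ) : F) with hs
  have hne : (r : F) ^ 2 - s ^ 2 ≠ 0 := by
    intro h0
    apply hr
    have : ((r : F) - s) ^ 2 = 0 := by linear_combination h0 + (s ^ 2 - (r : F) * s) * h2
    have := pow_eq_zero_iff (two_ne_zero) |>.1 this
    exact sub_eq_zero.1 this
  have hprod : ((r : F) ^ 2 - s ^ 2) * (a 0 1 * a 1 0) = 0 := by
    linear_combination h00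
  have hz : a 0 1 * a 1 0 = 0 := by
    rcases mul_eq_zero.1 hprod with h | h
    · exact absurd h hne
    · exact h
  have h00' : a 0 0 = 1 := by
    have : (a 0 0 - 1) ^ 2 = 0 := by
      linear_combination a 0 0 * htr - hdet - hz - a 0 0 * h2
    have := pow_eq_zero_iff (two_ne_zero) |>.1 this
    exact sub_eq_zero.1 this
  rcases mul_eq_zero.1 hz with h | h
  · right
    exact ⟨_, eq_ll_of a h h00'⟩
  · left
    exact ⟨_, eq_uu_of a h h00'⟩

/-- Solubilizer of a regular diagonal element. -/
theorem sol_split [Fintype F] (r : Fˣ) (hr : (r : F) ≠ ((r⁻¹ : Fˣ) : F)) (y : SL(2, F)) :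
    Group.IsSolvable ↥(Subgroup.closure ({Cfsg.Agent.S0262.tor r, y} : Set SL(2, F))) ↔
      (y 1 0 = 0 ∨ y 0 1 = 0 ∨ y ∈ Nn (Cfsg.Agent.S0262.tor r)) := by
  set d : SL(2, F) := Cfsg.Agent.S0262.tor r with hd
  have hd1 : d ≠ 1 := tor_ne_one r hr
  have hdd : d * d ≠ 1 := tor_sq_ne_one r hr
  have hdodd : Odd (orderOf d) := tor_odd r hr
  constructor
  · intro hsol
    have hxH : d ∈ Subgroup.closure ({d, y} : Set SL(2, F)) :=
      Subgroup.subset_closure (by simp)
    have hyH : y ∈ Subgroup.closure ({d, y} : Set SL(2, F)) :=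
      Subgroup.subset_closure (by simp)
    have hne : Subgroup.closure ({d, y} : Set SL(2, F)) ≠ ⊥ := by
      intro h
      rw [h, Subgroup.mem_bot] at hxH
      exact hd1 hxH
    obtain ⟨a, haH, ha1, hle⟩ := exists_le_normalizer_centralizer hCT _ hne
    have hxN : d ∈ Nn a := hle hxH
    have hyN : y ∈ Nn a := hle hyH
    rcases sq_eq_one_or_odd a with haa | haodd
    · have h1 : d * a * d⁻¹ ∈ Cn a :=
        ((Subgroup.mem_normalizer_iff.1 hxN) a).1 (self_mem_cent a)
      rw [mem_cent_iff] at h1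
      rcases involution_of_conj_commute r hr a haa h1 with ⟨β, hβ⟩ | ⟨γ, hγ⟩
      · left
        have hβ0 : β ≠ 0 := by
          rintro rfl
          apply ha1
          rw [hβ, uu_zero]
        rw [hβ] at hyN
        exact apply_10_of_mem_Nn_uu β hβ0 y hyN
      · right; left
        have hγ0 : γ ≠ 0 := by
          rintro rfl
          apply ha1
          rw [hγ, ll_zero]
        rw [hγ] at hyN
        exact apply_01_of_mem_Nn_ll γ hγ0 y hyN
    · right; right
      have hdC : d ∈ Cn a := by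
        by_contra h
        exact hdd (sq_eq_one_of_mem_normalizer a ha1 haodd d hxN h)
      have hC : Cn d = Cn a := cent_eq_of_mem a d ha1 hd1 hdC
      change y ∈ Subgroup.normalizer ((Cn d : Subgroup SL(2, F)) : Set SL(2, F))
      rw [hC]
      exact hyN
  · rintro (h | h | h)
    · apply isSolvable_closure_pair_of_mem BU
      · rw [mem_BU_iff, hd, tor_apply_10]
      · exact h
    · apply isSolvable_closure_pair_of_mem BL
      · rw [mem_BL_iff, hd, tor_apply_01]
      · exact h
    · haveI := isSolvable_Nn d hd1 hdodd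
      apply isSolvable_closure_pair_of_mem (Nn d)
      · exact Subgroup.le_normalizer (self_mem_cent d)
      · exact h

/-- Solubilizer of an element of odd order normalizing no Sylow 2-subgroup. -/
theorem sol_nonsplit [Fintype F] (x : SL(2, F)) (hx1 : x ≠ 1) (hodd : Odd (orderOf x))
    (hN : ∀ a : SL(2, F), a * a = 1 → a ≠ 1 → x ∉ Nn a) (y : SL(2, F)) :
    Group.IsSolvable ↥(Subgroup.closure ({x, y} : Set SL(2, F))) ↔ y ∈ Nn x := by
  have hxx : x * x ≠ 1 := by
    intro h
    have := orderOf_dvd_of_pow_eq_one (show x ^ 2 = 1 by rw [pow_two]; exact h)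
    have hle := Nat.le_of_dvd (by norm_num) this
    have h1 : orderOf x = 1 := by
      obtain ⟨k, hk⟩ := hodd
      interval_cases hn : orderOf x <;> omega
    exact hx1 (orderOf_eq_one_iff.1 h1)
  constructor
  · intro hsol
    have hxH : x ∈ Subgroup.closure ({x, y} : Set SL(2, F)) :=
      Subgroup.subset_closure (by simp)
    have hyH : y ∈ Subgroup.closure ({x, y} : Set SL(2, F)) :=
      Subgroup.subset_closure (by simp)
    have hne : Subgroup.closure ({x, y} : Set SL(2, F)) ≠ ⊥ := by
      intro h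
      rw [h, Subgroup.mem_bot] at hxH
      exact hx1 hxH
    obtain ⟨a, haH, ha1, hle⟩ := exists_le_normalizer_centralizer hCT _ hne
    have hxN : x ∈ Nn a := hle hxH
    have hyN : y ∈ Nn a := hle hyH
    rcases sq_eq_one_or_odd a with haa | haodd
    · exact absurd hxN (hN a haa ha1)
    · have hdC : x ∈ Cn a := by
        by_contra h
        exact hxx (sq_eq_one_of_mem_normalizer a ha1 haodd x hxN h)
      have hC : Cn x = Cn a := cent_eq_of_mem a x ha1 hx1 hdC
      change y ∈ Subgroup.normalizer ((Cn x : Subgroup SL(2, F)) : Set SL(2, F))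
      rw [hC]
      exact hyN
  · intro h
    haveI := isSolvable_Nn x hx1 hodd
    apply isSolvable_closure_pair_of_mem (Nn x)
    · exact Subgroup.le_normalizer (self_mem_cent x)
    · exact h

end char2

section counting

variable {F : Type*} [Field F] [Fintype F] [CharP F 2]

omit [CharP F 2] in
theorem card_BU : Nat.card ↥(BU : Subgroup SL(2, F)) = Fintype.card F * (Fintype.card F - 1) := by
  have h : (BU : Subgroup SL(2, F)) = Cfsg.Agent.S2437.BSL F := by
    ext y
    rw [mem_BU_iff, Cfsg.Agent.S2437.mem_BSL_iff]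
  rw [h, ← Nat.card_congr (Cfsg.Agent.S2437.bEquiv (F := F)), Nat.card_prod, Nat.card_units,
    Nat.card_eq_fintype_card, mul_comm]

theorem even_card : Even (Fintype.card F) := by
  rw [Nat.even_iff]
  exact FiniteField.even_card_of_char_two (ringChar.eq F 2)

omit [CharP F 2] in
theorem two_le_card : 2 ≤ Fintype.card F := Fintype.one_lt_card

/-- The square root in a finite field of characteristic two. -/
theorem exists_sqrt (a : F) : ∃ s : F, s * s = a := by
  obtain ⟨s, hs⟩ := FiniteField.isSquare_of_char_two (ringChar.eq F 2) a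
  exact ⟨s, hs.symm⟩

theorem sq_injective (s t : F) (h : s * s = t * t) : s = t := by
  have h2 : (2 : F) = 0 := two_eq_zero
  have : (s - t) ^ 2 = 0 := by linear_combination h + (t * t - s * t) * h2
  have := pow_eq_zero_iff (two_ne_zero) |>.1 this
  exact sub_eq_zero.1 this

/-- The number of elements squaring to one. -/
theorem card_sq_one :
    Nat.card {y : SL(2, F) // y * y = 1} = Fintype.card F ^ 2 := by
  have h2 : (2 : F) = 0 := two_eq_zero
  choose sq hsq using (exists_sqrt (F := F))
  have hdet : ∀ b c : F, sq (1 + b * c) * sq (1 + b * c) - b * c = 1 := by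
    intro b c
    rw [hsq]
    ring
  have hmk : ∀ b c : F, Cfsg.Agent.Lib.Helper38_SL2.mk2 (sq (1 + b * c)) b c (sq (1 + b * c))
      (hdet b c) * Cfsg.Agent.Lib.Helper38_SL2.mk2 (sq (1 + b * c)) b c (sq (1 + b * c))
      (hdet b c) = 1 := by
    intro b c
    have hd := hdet b c
    apply ext_entries
    · rw [mul_apply', one_apply_00]
      simp only [Cfsg.Agent.Lib.Helper38_SL2.mk2_apply_00, Cfsg.Agent.Lib.Helper38_SL2.mk2_apply_01,
        Cfsg.Agent.Lib.Helper38_SL2.mk2_apply_10]
      linear_combination hd + b * c * h2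
    · rw [mul_apply', one_apply_01]
      simp only [Cfsg.Agent.Lib.Helper38_SL2.mk2_apply_00, Cfsg.Agent.Lib.Helper38_SL2.mk2_apply_01,
        Cfsg.Agent.Lib.Helper38_SL2.mk2_apply_11]
      linear_combination sq (1 + b * c) * b * h2
    · rw [mul_apply', one_apply_10]
      simp only [Cfsg.Agent.Lib.Helper38_SL2.mk2_apply_00, Cfsg.Agent.Lib.Helper38_SL2.mk2_apply_10,
        Cfsg.Agent.Lib.Helper38_SL2.mk2_apply_11]
      linear_combination sq (1 + b * c) * c * h2
    · rw [mul_apply', one_apply_11]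
      simp only [Cfsg.Agent.Lib.Helper38_SL2.mk2_apply_01, Cfsg.Agent.Lib.Helper38_SL2.mk2_apply_10,
        Cfsg.Agent.Lib.Helper38_SL2.mk2_apply_11]
      linear_combination hd + b * c * h2
  let f : F × F → {y : SL(2, F) // y * y = 1} := fun p =>
    ⟨Cfsg.Agent.Lib.Helper38_SL2.mk2 (sq (1 + p.1 * p.2)) p.1 p.2 (sq (1 + p.1 * p.2))
      (hdet p.1 p.2), hmk p.1 p.2⟩
  have hf : Function.Bijective f := by
    constructor
    · intro p p' h
      have h1 := congrArg (fun y : {y : SL(2, F) // y * y = 1} => (y : SL(2, F)) 0 1) h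
      have h2 := congrArg (fun y : {y : SL(2, F) // y * y = 1} => (y : SL(2, F)) 1 0) h
      exact Prod.ext h1 h2
    · rintro ⟨y, hy⟩
      refine ⟨(y 0 1, y 1 0), ?_⟩
      apply Subtype.ext
      have htr := trace_eq_zero_of_sq y hy
      rw [Matrix.trace_fin_two] at htr
      have hd := det_eq y
      have h11 : y 1 1 = y 0 0 := by linear_combination htr - y 0 0 * h2
      have h00 : sq (1 + y 0 1 * y 1 0) = y 0 0 := by
        apply sq_injective
        rw [hsq]
        rw [h11] at hd
        linear_combination -hd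
      apply ext_entries
      · exact h00
      · rfl
      · rfl
      · change sq (1 + y 0 1 * y 1 0) = y 1 1
        rw [h11, h00]
  rw [← Nat.card_congr (Equiv.ofBijective f hf), Nat.card_prod, Nat.card_eq_fintype_card, pow_two]

omit [Fintype F] in
/-- Upper triangular elements squaring to one are the `uu b`. -/
theorem sq_one_and_upper_iff (y : SL(2, F)) : (y * y = 1 ∧ y 1 0 = 0) ↔ ∃ b : F, uu b = y := by
  have h2 : (2 : F) = 0 := two_eq_zero
  constructor
  · rintro ⟨hy, h10⟩
    have htr := trace_eq_zero_of_sq y hy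
    rw [Matrix.trace_fin_two] at htr
    have hd := det_eq y
    rw [h10] at hd
    have h00 : y 0 0 = 1 := by
      have : (y 0 0 - 1) ^ 2 = 0 := by
        linear_combination y 0 0 * htr - hd - y 0 0 * h2
      have := pow_eq_zero_iff (two_ne_zero) |>.1 this
      exact sub_eq_zero.1 this
    exact ⟨_, (eq_uu_of y h10 h00).symm⟩
  · rintro ⟨b, rfl⟩
    exact ⟨uu_sq b, uu_apply_10 b⟩

/-- The solubilizer of `uu 1` has `3 q (q - 1)` elements (set form). -/
theorem card_sol_uu_one :
    Nat.card {y : SL(2, F) // y * y = 1 ∨ y 1 0 = 0 ∨ (uu 1 * y) * (uu 1 * y) = 1} =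
      3 * Fintype.card F * (Fintype.card F - 1) := by
  have hxx : uu (1 : F) * uu 1 = 1 := uu_sq 1
  have ex : (uu (1 : F))⁻¹ = uu 1 := inv_eq_of_mul_eq_one_left hxx
  set A : Set SL(2, F) := {y | y * y = 1} with hA
  set B : Set SL(2, F) := {y | y 1 0 = 0} with hB
  set C : Set SL(2, F) := {y | (uu 1 * y) * (uu 1 * y) = 1} with hC
  set U : Set SL(2, F) := Set.range (uu : F → SL(2, F)) with hU
  have hAB : A ∩ B = U := by
    ext y
    exact sq_one_and_upper_iff y
  have hAC : A ∩ C = U := by
    ext y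
    constructor
    · rintro ⟨hy, hxy⟩
      have ey : y⁻¹ = y := inv_eq_of_mul_eq_one_left hy
      have h2 : uu 1 * y = (uu 1 * y)⁻¹ := (inv_eq_of_mul_eq_one_left hxy).symm
      rw [_root_.mul_inv_rev, ey, ex] at h2
      obtain ⟨b, hb⟩ := (commute_uu_one_iff y).1 h2.symm
      exact ⟨b, hb.symm⟩
    · rintro ⟨b, rfl⟩
      refine ⟨uu_sq b, ?_⟩
      change (uu 1 * uu b) * (uu 1 * uu b) = 1
      rw [uu_mul, uu_sq]
  have hBC : B ∩ C = U := by
    ext y
    constructor
    · rintro ⟨hy, hxy⟩
      have hy' : y 1 0 = 0 := hy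
      have h10 : (uu (1 : F) * y : SL(2, F)) 1 0 = 0 := by
        rw [mul_apply', uu_apply_10, uu_apply_11, hy']
        ring
      obtain ⟨b, hb⟩ := (sq_one_and_upper_iff (uu 1 * y)).1 ⟨hxy, h10⟩
      refine ⟨1 + b, ?_⟩
      rw [← uu_mul, hb, ← mul_assoc, hxx, one_mul]
    · rintro ⟨b, rfl⟩
      refine ⟨uu_apply_10 b, ?_⟩
      change (uu 1 * uu b) * (uu 1 * uu b) = 1
      rw [uu_mul, uu_sq]
  have cA : A.ncard = Fintype.card F ^ 2 := by
    rw [← Nat.card_coe_set_eq]
    exact card_sq_one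
  have cB : B.ncard = Fintype.card F * (Fintype.card F - 1) := by
    rw [← card_BU, ← Nat.card_coe_set_eq]
    rfl
  have cC : C.ncard = Fintype.card F ^ 2 := by
    have : C = (fun z : SL(2, F) => uu 1 * z) '' A := by
      ext y
      constructor
      · intro hy
        refine ⟨uu 1 * y, hy, ?_⟩
        change uu 1 * (uu 1 * y) = y
        rw [← mul_assoc, hxx, one_mul]
      · rintro ⟨z, hz, rfl⟩
        change (uu 1 * (uu 1 * z)) * (uu 1 * (uu 1 * z)) = 1
        rw [← mul_assoc (uu 1) (uu 1) z, hxx, one_mul]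
        exact hz
    rw [this, Set.ncard_image_of_injective _ (mul_right_injective (uu (1 : F))), cA]
  have cU : U.ncard = Fintype.card F := by
    rw [hU, Set.ncard_range_of_injective uu_injective, Nat.card_eq_fintype_card]
  have h1 := Set.ncard_union_add_ncard_inter B C
  rw [hBC, cB, cC, cU] at h1
  have h2 := Set.ncard_union_add_ncard_inter A (B ∪ C)
  rw [Set.inter_union_distrib_left, hAB, hAC, Set.union_self, cA, cU] at h2
  change Nat.card ↥(A ∪ (B ∪ C)) = _
  rw [Nat.card_coe_set_eq]
  obtain ⟨k, hk⟩ : ∃ k, Fintype.card F = k + 2 := ⟨Fintype.card F - 2, by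
    have := two_le_card (F := F); omega⟩
  have e : Fintype.card F - 1 = k + 1 := by omega
  rw [e, hk] at h1
  rw [hk] at h2
  rw [e, hk]
  nlinarith [h1, h2]

omit [Fintype F] in
theorem ww_mul_ww : (ww : SL(2, F)) * ww = 1 := by
  apply ext_entries <;>
    simp only [mul_apply', ww_apply_00, ww_apply_01, ww_apply_10, ww_apply_11, one_apply_00,
      one_apply_01, one_apply_10, one_apply_11] <;>
    ring

omit [Fintype F] in
theorem ww_conj_apply_10 (y : SL(2, F)) : (ww * y * ww : SL(2, F)) 1 0 = y 0 1 := by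
  simp only [mul_apply', ww_apply_00, ww_apply_01, ww_apply_10, ww_apply_11]
  ring

omit [Fintype F] in
theorem ww_conj_apply_01 (y : SL(2, F)) : (ww * y * ww : SL(2, F)) 0 1 = y 1 0 := by
  simp only [mul_apply', ww_apply_00, ww_apply_01, ww_apply_10, ww_apply_11]
  ring

theorem card_BL : Nat.card ↥(BL : Subgroup SL(2, F)) = Fintype.card F * (Fintype.card F - 1) := by
  rw [← card_BU (F := F)]
  have hww : (ww : SL(2, F)) * ww = 1 := ww_mul_ww (F := F)
  apply Nat.card_congr
  refine ⟨fun y => ⟨ww * (y : SL(2, F)) * ww, ?_⟩, fun z => ⟨ww * (z : SL(2, F)) * ww, ?_⟩, ?_, ?_⟩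
  · rw [mem_BU_iff, ww_conj_apply_10]
    exact y.2
  · rw [mem_BL_iff, ww_conj_apply_01]
    exact z.2
  · intro y
    apply Subtype.ext
    show (ww : SL(2, F)) * (ww * (y : SL(2, F)) * ww) * ww = (y : SL(2, F))
    generalize (y : SL(2, F)) = y'
    generalize hg : (ww : SL(2, F)) = g at hww ⊢
    calc g * (g * y' * g) * g = (g * g) * y' * (g * g) := by group
      _ = y' := by rw [hww, one_mul, mul_one]
  · intro z
    apply Subtype.ext
    show (ww : SL(2, F)) * (ww * (z : SL(2, F)) * ww) * ww = (z : SL(2, F))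
    generalize (z : SL(2, F)) = z'
    generalize hg : (ww : SL(2, F)) = g at hww ⊢
    calc g * (g * z' * g) * g = (g * g) * z' * (g * g) := by group
      _ = z' := by rw [hww, one_mul, mul_one]

omit [Fintype F] in
/-- The centralizer of a regular diagonal matrix is the diagonal subgroup. -/
theorem mem_Cn_tor_iff (r : Fˣ) (hr : (r : F) ≠ ((r⁻¹ : Fˣ) : F)) (y : SL(2, F)) :
    y ∈ Cn (Cfsg.Agent.S0262.tor r) ↔ (y 1 0 = 0 ∧ y 0 1 = 0) := by
  have hne : (r : F) - ((r⁻¹ : Fˣ) : F) ≠ 0 := sub_ne_zero.2 hr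
  rw [mem_cent_iff]
  constructor
  · intro h
    have h01 := congrArg (fun m : SL(2, F) => m 0 1) h
    have h10 := congrArg (fun m : SL(2, F) => m 1 0) h
    simp only [mul_apply', tor_apply_00, tor_apply_01, tor_apply_10, tor_apply_11] at h01 h10
    constructor
    · have : ((r : F) - ((r⁻¹ : Fˣ) : F)) * y 1 0 = 0 := by linear_combination h10
      rcases mul_eq_zero.1 this with h | h
      · exact absurd h hne
      · exact h
    · have : ((r : F) - ((r⁻¹ : Fˣ) : F)) * y 0 1 = 0 := by linear_combination -h01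
      rcases mul_eq_zero.1 this with h | h
      · exact absurd h hne
      · exact h
  · rintro ⟨h10, h01⟩
    apply ext_entries <;>
      simp only [mul_apply', tor_apply_00, tor_apply_01, tor_apply_10, tor_apply_11, h10, h01] <;>
      ring

/-- Elements of the normalizer of the diagonal torus outside it have zero diagonal. -/
theorem apply_00_of_mem_Nn_tor (r : Fˣ) (hr : (r : F) ≠ ((r⁻¹ : Fˣ) : F)) (y : SL(2, F))
    (hy : y ∈ Nn (Cfsg.Agent.S0262.tor r)) (hyC : y ∉ Cn (Cfsg.Agent.S0262.tor r)) :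
    y 0 0 = 0 := by
  have hne : (r : F) - ((r⁻¹ : Fˣ) : F) ≠ 0 := sub_ne_zero.2 hr
  have hinv := inverts_of_mem_normalizer (Cfsg.Agent.S0262.tor r) (tor_ne_one r hr) (tor_odd r hr)
    y hy hyC (Cfsg.Agent.S0262.tor r) (self_mem_cent _)
  rw [mul_inv_eq_iff_eq_mul] at hinv
  have h00 := congrArg (fun m : SL(2, F) => m 0 0) hinv
  simp only [mul_apply', inv_apply_00, inv_apply_01, tor_apply_00, tor_apply_01, tor_apply_10,
    tor_apply_11] at h00
  have : ((r : F) - ((r⁻¹ : Fˣ) : F)) * y 0 0 = 0 := by linear_combination h00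
  rcases mul_eq_zero.1 this with h | h
  · exact absurd h hne
  · exact h

/-- The solubilizer of a regular diagonal matrix has `2 q (q - 1)` elements (set form). -/
theorem card_sol_tor (r : Fˣ) (hr : (r : F) ≠ ((r⁻¹ : Fˣ) : F)) :
    Nat.card {y : SL(2, F) // y 1 0 = 0 ∨ y 0 1 = 0 ∨ y ∈ Nn (Cfsg.Agent.S0262.tor r)} =
      2 * Fintype.card F * (Fintype.card F - 1) := by
  set d : SL(2, F) := Cfsg.Agent.S0262.tor r with hd
  set B : Set SL(2, F) := {y | y 1 0 = 0} with hB
  set B' : Set SL(2, F) := {y | y 0 1 = 0} with hB'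
  set N : Set SL(2, F) := ((Nn d : Subgroup SL(2, F)) : Set SL(2, F)) with hN
  set T : Set SL(2, F) := ((Cn d : Subgroup SL(2, F)) : Set SL(2, F)) with hT
  have hTN : ∀ y, y ∈ Cn d → y ∈ Nn d := fun y hy => Subgroup.le_normalizer hy
  have hBB' : B ∩ B' = T := by
    ext y
    exact (mem_Cn_tor_iff r hr y).symm
  have hBN : B ∩ N = T := by
    ext y
    constructor
    · rintro ⟨h10, hyN⟩
      by_contra hyC
      have h00 := apply_00_of_mem_Nn_tor r hr y hyN hyC
      have hdet := det_eq y
      have h10' : y 1 0 = 0 := h10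
      rw [h00, h10'] at hdet
      simp at hdet
    · intro hy
      exact ⟨((mem_Cn_tor_iff r hr y).1 hy).1, hTN y hy⟩
  have hB'N : B' ∩ N = T := by
    ext y
    constructor
    · rintro ⟨h01, hyN⟩
      by_contra hyC
      have h00 := apply_00_of_mem_Nn_tor r hr y hyN hyC
      have hdet := det_eq y
      have h01' : y 0 1 = 0 := h01
      rw [h00, h01'] at hdet
      simp at hdet
    · intro hy
      exact ⟨((mem_Cn_tor_iff r hr y).1 hy).2, hTN y hy⟩
  have cB : B.ncard = Fintype.card F * (Fintype.card F - 1) := by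
    rw [← card_BU, ← Nat.card_coe_set_eq]
    rfl
  have cB' : B'.ncard = Fintype.card F * (Fintype.card F - 1) := by
    rw [← card_BL, ← Nat.card_coe_set_eq]
    rfl
  have cT : T.ncard = Fintype.card F - 1 := by
    rw [hT, ← Nat.card_coe_set_eq]
    change Nat.card ↥(Cn d) = _
    rw [hd]
    change Nat.card ↥(Subgroup.centralizer ({Cfsg.Agent.S0262.tor r} : Set SL(2, F))) = _
    rw [cent_tor r hr, Cfsg.Agent.S0262.card_torus]
  have cN : N.ncard = 2 * (Fintype.card F - 1) := by
    rw [hN, ← Nat.card_coe_set_eq]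
    change Nat.card ↥(Nn d) = _
    have := card_normalizer_cent d (tor_ne_one r hr) (tor_odd r hr)
    rw [this, ← cT, hT, ← Nat.card_coe_set_eq]
    rfl
  have h1 := Set.ncard_union_add_ncard_inter B' N
  rw [hB'N, cB', cN, cT] at h1
  have h2 := Set.ncard_union_add_ncard_inter B (B' ∪ N)
  rw [Set.inter_union_distrib_left, hBB', hBN, Set.union_self, cB, cT] at h2
  change Nat.card ↥(B ∪ (B' ∪ N)) = _
  rw [Nat.card_coe_set_eq]
  obtain ⟨k, hk⟩ : ∃ k, Fintype.card F = k + 2 := ⟨Fintype.card F - 2, by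
    have := two_le_card (F := F); omega⟩
  have e : Fintype.card F - 1 = k + 1 := by omega
  rw [e, hk] at h1
  rw [e, hk] at h2
  rw [e, hk]
  nlinarith [h1, h2]

end counting

section main

theorem eq_one_of_dvd_sub_add (n q : ℕ) (hq : Even q) (h2 : 2 ≤ q) (hn1 : n ∣ q - 1)
    (hn2 : n ∣ q + 1) : n = 1 := by
  have h : n ∣ (q + 1) - (q - 1) := Nat.dvd_sub hn2 hn1
  have e : (q + 1) - (q - 1) = 2 := by omega
  rw [e] at h
  have hle := Nat.le_of_dvd (by norm_num) h
  obtain ⟨k, hk⟩ := hq
  interval_cases n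
  · simp at h
  · rfl
  · obtain ⟨m, hm⟩ := hn1
    omega

theorem coprime_succ_pred (q : ℕ) (hq : Even q) (h2 : 2 ≤ q) : Nat.Coprime (q + 1) (q - 1) := by
  apply Nat.coprime_of_dvd
  intro k hk h1 h3
  have := eq_one_of_dvd_sub_add k q hq h2 h3 h1
  rw [this] at hk
  exact Nat.not_prime_one hk

theorem eq_one_of_dvd_mul_add (n q : ℕ) (hq : Even q) (h2 : 2 ≤ q) (hn1 : n ∣ q * (q - 1))
    (hn2 : n ∣ q + 1) : n = 1 := by
  have h1 : Nat.Coprime (q + 1) q := by simp
  have h3 : Nat.Coprime (q + 1) (q * (q - 1)) :=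
    Nat.Coprime.mul_right h1 (coprime_succ_pred q hq h2)
  exact Nat.eq_one_of_dvd_coprimes h3 hn2 hn1

variable {F : Type*} [Field F] [Fintype F] [CharP F 2]

/-- A non-identity element of odd order is conjugate to a regular diagonal matrix or has
centralizer of order `q + 1`. -/
theorem split_or_card (x : SL(2, F)) (hx : x ≠ 1) (hodd : Odd (orderOf x)) :
    (∃ (r : Fˣ) (U : SL(2, F)), (r : F) ≠ ((r⁻¹ : Fˣ) : F) ∧
      x = U * Cfsg.Agent.S0262.tor r * U⁻¹) ∨
    Nat.card (Cn x) = Fintype.card F + 1 := by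
  have h2 : (2 : F) = 0 := two_eq_zero
  have hτ := trace_ne_zero_of_odd x hx hodd
  set τ := Matrix.trace (x : Matrix (Fin 2) (Fin 2) F) with hτdef
  have hτ4 : τ ^ 2 ≠ 4 := by
    intro h
    apply hτ
    have : τ ^ 2 = 0 := by rw [h]; linear_combination 2 * h2
    exact pow_eq_zero_iff (two_ne_zero) |>.1 this
  by_cases hroot : ∃ r : F, r ^ 2 = -1 + τ * r
  · left
    obtain ⟨r, hr⟩ := hroot
    have hr0 : r ≠ 0 := by
      rintro rfl
      have : (1 : F) = 0 := by linear_combination hr
      exact one_ne_zero this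
    set ru : Fˣ := Units.mk0 r hr0 with hru
    have hrinv : ((ru⁻¹ : Fˣ) : F) = τ - r := by
      rw [Units.val_inv_eq_inv_val, hru, Units.val_mk0]
      field_simp
      linear_combination hr
    have htr : Matrix.trace (x : Matrix (Fin 2) (Fin 2) F) =
        Matrix.trace (Cfsg.Agent.S0262.tor ru : Matrix (Fin 2) (Fin 2) F) := by
      have h3 : Matrix.trace (Cfsg.Agent.S0262.tor ru : Matrix (Fin 2) (Fin 2) F) =
          (ru : F) + ((ru⁻¹ : Fˣ) : F) := by
        rw [Cfsg.Agent.S0262.tor_coe, Matrix.trace_fin_two]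
        simp
      rw [h3, hrinv, hru, Units.val_mk0]
      ring
    obtain ⟨U, hU⟩ := Cfsg.Agent.Lib.Helper41_SL2Conj.conj_of_trace_eq x
      (Cfsg.Agent.S0262.tor ru) htr (by rw [← htr]; exact hτ4)
    have hne : (ru : F) ≠ ((ru⁻¹ : Fˣ) : F) := by
      rw [hrinv, hru, Units.val_mk0]
      intro h
      apply hτ
      linear_combination -h + r * h2
    exact ⟨ru, U, hne, hU⟩
  · right
    push Not at hroot
    obtain ⟨a, ha⟩ := Cfsg.Agent.Lib.Helper41_SL2.exists_no_root (F := F)
    haveI : Fact (∀ r : F, r ^ 2 ≠ a + 1 * r) := ⟨ha⟩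
    obtain ⟨z, hz, htrz⟩ := Cfsg.Agent.Lib.Helper41_SL2Torus.exists_norm_one_trace a 1 τ hroot
    set g₀ := Cfsg.Agent.Lib.Helper41_SL2.torusElt a 1 z hz with hg₀
    have hg₀coe : (g₀ : Matrix (Fin 2) (Fin 2) F) = Cfsg.Agent.Lib.Helper41_SL2.toMat a 1 z := rfl
    have htr : Matrix.trace (x : Matrix (Fin 2) (Fin 2) F) =
        Matrix.trace (g₀ : Matrix (Fin 2) (Fin 2) F) := by
      rw [hg₀coe, Cfsg.Agent.Lib.Helper41_SL2Torus.trace_toMat, htrz]
    obtain ⟨U, hU⟩ := Cfsg.Agent.Lib.Helper41_SL2Conj.conj_of_trace_eq x g₀ htr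
      (by rw [← htr]; exact hτ4)
    have h1 : (g₀ : Matrix (Fin 2) (Fin 2) F) ≠ 1 := by
      intro h
      apply hτ
      rw [hτdef, htr, h, Matrix.trace_one]
      simp
      exact h2
    have h1' : (g₀ : Matrix (Fin 2) (Fin 2) F) ≠ -1 := by
      rw [Cfsg.Agent.Lib.Helper61_SL2.neg_one_eq_one_mat]
      exact h1
    have hcent := Cfsg.Agent.Lib.Helper41_SL2Torus.centralizer_eq a 1 g₀
      (Cfsg.Agent.Lib.Helper41_SL2Torus.torusElt_mem a 1 z hz) h1 h1'
    obtain ⟨e⟩ := cent_conj_equiv g₀ U
    rw [← hU, hcent] at e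
    rw [← Nat.card_congr e.toEquiv, Cfsg.Agent.Lib.Helper41_SL2Torus.card_nsTorus]

theorem orderOf_dvd_card_Cn (x : SL(2, F)) : orderOf x ∣ Nat.card (Cn x) := by
  have := orderOf_dvd_natCard (⟨x, self_mem_cent x⟩ : ↥(Cn x))
  rwa [Subgroup.orderOf_mk] at this

theorem odd_of_dvd_pred (n : ℕ) (h : n ∣ Fintype.card F - 1) : Odd n := by
  have he := even_card (F := F)
  have h2 := two_le_card (F := F)
  have : Odd (Fintype.card F - 1) := by
    obtain ⟨k, hk⟩ := he
    exact ⟨k - 1, by omega⟩
  exact Odd.of_dvd_nat this h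

theorem odd_of_dvd_succ (n : ℕ) (h : n ∣ Fintype.card F + 1) : Odd n := by
  have he := even_card (F := F)
  exact Odd.of_dvd_nat (Even.add_one he) h

/-- The solubilizer of an involution. -/
theorem card_sol_of_involution (x : SL(2, F)) (hx : orderOf x = 2) :
    Nat.card {y : SL(2, F) // Group.IsSolvable ↥(Subgroup.closure ({x, y} : Set SL(2, F)))} =
      3 * Fintype.card F * (Fintype.card F - 1) := by
  have hxx : x * x = 1 := by
    have := pow_orderOf_eq_one x
    rw [hx, pow_two] at this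
    exact this
  have hx1 : x ≠ 1 := by
    intro h
    rw [h, orderOf_one] at hx
    omega
  obtain ⟨g, hg⟩ := exists_conj_uu_one x hxx hx1
  rw [card_sol_congr (MulAut.conj g⁻¹) x]
  have e : (MulAut.conj g⁻¹) x = uu 1 := by
    rw [MulAut.conj_apply, ← hg]
    group
  rw [e, Nat.card_congr (Equiv.subtypeEquivRight (fun y => sol_involution y))]
  exact card_sol_uu_one

/-- The solubilizer of a non-identity element of order dividing `q - 1`. -/
theorem card_sol_of_split (x : SL(2, F)) (hx1 : x ≠ 1) (hd : orderOf x ∣ Fintype.card F - 1) :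
    Nat.card {y : SL(2, F) // Group.IsSolvable ↥(Subgroup.closure ({x, y} : Set SL(2, F)))} =
      2 * Fintype.card F * (Fintype.card F - 1) := by
  have hodd : Odd (orderOf x) := odd_of_dvd_pred _ hd
  rcases split_or_card x hx1 hodd with ⟨r, U, hr, hU⟩ | hc
  · rw [card_sol_congr (MulAut.conj U⁻¹) x]
    have e : (MulAut.conj U⁻¹) x = Cfsg.Agent.S0262.tor r := by
      rw [MulAut.conj_apply, hU]
      group
    rw [e, Nat.card_congr (Equiv.subtypeEquivRight (fun y => sol_split r hr y))]
    exact card_sol_tor r hr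
  · exfalso
    have h1 := orderOf_dvd_card_Cn x
    rw [hc] at h1
    have := eq_one_of_dvd_sub_add _ _ (even_card (F := F)) two_le_card hd h1
    exact hx1 (orderOf_eq_one_iff.1 this)

/-- The solubilizer of a non-identity element of order dividing `q + 1`. -/
theorem card_sol_of_nonsplit (x : SL(2, F)) (hx1 : x ≠ 1) (hd : orderOf x ∣ Fintype.card F + 1) :
    Nat.card {y : SL(2, F) // Group.IsSolvable ↥(Subgroup.closure ({x, y} : Set SL(2, F)))} =
      2 * (Fintype.card F + 1) := by
  have hodd : Odd (orderOf x) := odd_of_dvd_succ _ hd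
  have hN : ∀ a : SL(2, F), a * a = 1 → a ≠ 1 → x ∉ Nn a := by
    intro a haa ha1 hxa
    obtain ⟨g, hg⟩ := exists_conj_uu_one a haa ha1
    rw [← hg] at hxa
    have h1 := (mem_normalizer_centralizer_conj_iff g (uu 1) x).1 hxa
    have h10 := apply_10_of_mem_Nn_uu 1 one_ne_zero _ h1
    have hmem : g⁻¹ * x * g ∈ (BU : Subgroup SL(2, F)) := h10
    have hdvd := orderOf_dvd_natCard (⟨g⁻¹ * x * g, hmem⟩ : ↥(BU : Subgroup SL(2, F)))
    rw [Subgroup.orderOf_mk, card_BU] at hdvd
    have ho : orderOf (g⁻¹ * x * g) = orderOf x := by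
      have := (MulAut.conj g⁻¹).orderOf_eq x
      rw [MulAut.conj_apply, inv_inv] at this
      exact this
    rw [ho] at hdvd
    have := eq_one_of_dvd_mul_add _ _ (even_card (F := F)) two_le_card hdvd hd
    exact hx1 (orderOf_eq_one_iff.1 this)
  rw [Nat.card_congr (Equiv.subtypeEquivRight (fun y => sol_nonsplit x hx1 hodd hN y))]
  have hcard : Nat.card (Cn x) = Fintype.card F + 1 := by
    rcases (cent_structure x hx1 hodd).2 with h | h
    · exfalso
      have h1 := orderOf_dvd_card_Cn x
      rw [h] at h1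
      have := eq_one_of_dvd_sub_add _ _ (even_card (F := F)) two_le_card h1 hd
      exact hx1 (orderOf_eq_one_iff.1 this)
    · exact h
  have := card_normalizer_cent x hx1 hodd
  rw [hcard] at this
  exact this

end main

end Cfsg.Agent.Lib.Helper99_SL2EvenSol
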