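import Cfsg.Agent.Lib.Helper51_SL2Cases
import Cfsg.Agent.Lib.Helper99_SL2EvenSol
import Cfsg.Agent.Lib.Helper3_CharBurnside

/-!
# Proper subgroups of `SL(2,q)`, `PSL(2,q)` are solvable (`q = p` prime, or `q = 3^r`, `r` prime, no
elements of order five / `q = 5`)

`sl2_cases_tri`: the weak Dickson list with explicit triangularisability / abelian subgroup of
index `≤ 2`; `isSolvable_of_tri`, `isSolvable_of_abelian_index_two`; `sl2_top_or_solvable`,
`psl2_top_or_solvable`.
-/

set_option autoImplicit false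

namespace Cfsg.Agent.Lib.Helper51_SL2Solv

open Matrix Cfsg.Agent.Lib.Helper50_SL2Mat Cfsg.Agent.Lib.Helper51_SL2Sub
  Cfsg.Agent.Lib.Helper51_SL2SubMax Cfsg.Agent.Lib.Helper51_SL2SubMax2
  Cfsg.Agent.Lib.Helper51_SL2Cases
open scoped MatrixGroups commutatorElement

variable {F : Type*} [Field F]

/-- **Weak Dickson in odd characteristic, structural form.** -/
theorem sl2_cases_tri [Fintype F] (p : ℕ) [Fact p.Prime] [CharP F p] (hp2 : p ≠ 2)
    (M : Subgroup SL(2, F)) :
    (∃ φ : SL(2, F) ≃* SL(2, F), tU 1 ∈ M.map φ.toMonoidHom ∧ tL 1 ∈ M.map φ.toMonoidHom) ∨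
      (∃ g : SL(2, F), ∀ m ∈ M, (g⁻¹ * m * g) 1 0 = 0) ∨
      (∃ A : Subgroup SL(2, F), A ≤ M ∧ (∀ a ∈ A, ∀ b ∈ A, a * b = b * a) ∧ A.relIndex M ≤ 2) ∨
      ((Nat.card M = 24 ∨ Nat.card M = 48 ∨ Nat.card M = 120) ∧ negOne ∈ M) := by
  classical
  have hp : p.Prime := Fact.out
  have h2F : (2 : F) ≠ 0 := two_ne_zero_of_char (F := F) p hp2
  by_cases h1 : 1 < Nat.card (Sylow p M)
  · left
    exact exists_aut p hp2 M h1
  · right
    have hpos : 0 < Nat.card (Sylow p M) := Nat.card_pos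
    have hone : Nat.card (Sylow p M) = 1 := by omega
    have : Subsingleton (Sylow p M) := (Nat.card_eq_one_iff_unique.1 hone).1
    obtain ⟨P⟩ : Nonempty (Sylow p M) := inferInstance
    have hPn : (P : Subgroup M).Normal := Sylow.normal_of_subsingleton P
    by_cases hdvd : p ∣ Nat.card M
    · left
      set P' : Subgroup SL(2, F) := (P : Subgroup M).map M.subtype with hP'
      have hP'p : IsPGroup p P' := P.isPGroup'.map M.subtype
      obtain ⟨g, hg⟩ := Cfsg.Agent.Lib.Helper50_SL2Dickson.exists_conj_of_isPGroup p P' hP'p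
      have hPne : (P : Subgroup M) ≠ ⊥ := P.ne_bot_of_dvd_card hdvd
      obtain ⟨x₀, hx₀1⟩ := (Subgroup.ne_bot_iff_exists_ne_one.1 hPne)
      set y₀ : SL(2, F) := ((x₀ : M) : SL(2, F)) with hy₀
      have hy₀P : y₀ ∈ P' := Subgroup.mem_map_of_mem M.subtype x₀.2
      obtain ⟨b₀, hb₀⟩ := hg y₀ hy₀P
      have hb₀0 : b₀ ≠ 0 := by
        rintro rfl
        rw [tU_zero] at hb₀
        have : y₀ = 1 := by
          have h := congrArg (fun z => g * z * g⁻¹) hb₀
          simp only [mul_one, mul_inv_cancel] at h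
          rw [← h]; group
        apply hx₀1
        apply Subtype.ext
        apply Subtype.ext
        exact this
      refine ⟨g, ?_⟩
      intro m hm
      have hconj : m * y₀ * m⁻¹ ∈ P' := by
        have := hPn.conj_mem (x₀ : M) x₀.2 ⟨m, hm⟩
        exact ⟨_, this, rfl⟩
      obtain ⟨b', hb'⟩ := hg _ hconj
      have hk : (g⁻¹ * m * g) * tU b₀ * (g⁻¹ * m * g)⁻¹ = tU b' := by
        rw [← hb₀, ← hb']; group
      have h10 := (conj_tU (g⁻¹ * m * g) b₀).2.2.1
      rw [hk, tU10] at h10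
      have : b₀ * ((g⁻¹ * m * g) 1 0 * (g⁻¹ * m * g) 1 0) = 0 := by
        linear_combination h10
      rcases mul_eq_zero.1 this with h | h
      · exact absurd h hb₀0
      · exact mul_self_eq_zero.1 h
    · right
      by_cases hnab : ∀ A : Subgroup SL(2, F), A ≤ M → (∀ a ∈ A, ∀ b ∈ A, a * b = b * a) →
          2 < A.relIndex M
      · right
        have hcard : ¬ ringChar F ∣ Nat.card M := by rwa [ringChar.eq F p]
        exact (Cfsg.Agent.Lib.Helper51_SL2Prime.pprime_orders_subgroup' h2F M hcard hnab).imp_right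
          (fun h => h.1)
      · left
        push Not at hnab
        exact hnab

/-- the upper triangular subgroup -/
def BT : Subgroup SL(2, F) where
  carrier := {y | y 1 0 = 0}
  mul_mem' := by
    intro a b ha hb
    simp only [Set.mem_ofPred_eq] at ha hb ⊢
    rw [mul10, ha, hb]
    ring
  one_mem' := by simp
  inv_mem' := by
    intro a ha
    simp only [Set.mem_ofPred_eq] at ha ⊢
    rw [inv10, ha, neg_zero]

theorem mem_BT (y : SL(2, F)) : y ∈ (BT : Subgroup SL(2, F)) ↔ y 1 0 = 0 := Iff.rfl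

/-- the upper unitriangular subgroup -/
def UT : Subgroup SL(2, F) where
  carrier := {y | y 1 0 = 0 ∧ y 0 0 = 1}
  mul_mem' := by
    rintro a b ⟨ha, ha'⟩ ⟨hb, hb'⟩
    refine ⟨?_, ?_⟩
    · show (a * b) 1 0 = 0
      rw [mul10, ha, hb]; ring
    · show (a * b) 0 0 = 1
      rw [mul00, ha', hb', hb]; ring
  one_mem' := by simp
  inv_mem' := by
    rintro a ⟨ha, ha'⟩
    have hd := det1 a
    rw [ha, ha'] at hd
    refine ⟨?_, ?_⟩
    · show (a⁻¹) 1 0 = 0
      rw [inv10, ha, neg_zero]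
    · show (a⁻¹) 0 0 = 1
      rw [inv00]; linear_combination hd

instance isSolvable_BT : Group.IsSolvable ↥(BT : Subgroup SL(2, F)) := by
  apply Cfsg.Agent.Lib.Helper99_SL2EvenSol.isSolvable_subgroup_of_commutator_mem BT UT
  · rintro a ⟨ha, ha'⟩ b ⟨hb, hb'⟩
    have hda := det1 a
    have hdb := det1 b
    rw [ha, ha'] at hda
    rw [hb, hb'] at hdb
    apply ext4
    · rw [mul00, mul00, ha, hb, ha', hb']; ring
    · rw [mul01, mul01, ha', hb']
      linear_combination (a 0 1) * hdb - (b 0 1) * hda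
    · rw [mul10, mul10, ha, hb]; ring
    · rw [mul11, mul11, ha, hb]; ring
  · intro a ha b hb
    rw [mem_BT] at ha hb
    have hda := det1 a
    have hdb := det1 b
    rw [ha] at hda
    rw [hb] at hdb
    refine ⟨?_, ?_⟩
    · show (a * b * a⁻¹ * b⁻¹) 1 0 = 0
      simp only [mul10, mul11, inv00, inv01, inv10, inv11, ha, hb]
      ring
    · show (a * b * a⁻¹ * b⁻¹) 0 0 = 1
      simp only [mul00, mul01, inv00, inv01, inv10, inv11, ha, hb]
      linear_combination (b 0 0 * b 1 1) * hda + hdb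

/-- a triangularisable subgroup is solvable -/
theorem isSolvable_of_tri (M : Subgroup SL(2, F)) (g : SL(2, F))
    (h : ∀ m ∈ M, (g⁻¹ * m * g) 1 0 = 0) : Group.IsSolvable ↥M := by
  let f : ↥M →* ↥(BT : Subgroup SL(2, F)) :=
    { toFun := fun m => ⟨g⁻¹ * (m : SL(2, F)) * g, h m m.2⟩
      map_one' := by
        apply Subtype.ext
        show g⁻¹ * ((1 : ↥M) : SL(2, F)) * g = 1
        rw [Subgroup.coe_one]; group
      map_mul' := by
        intro a b
        apply Subtype.ext
        show g⁻¹ * ((a * b : ↥M) : SL(2, F)) * g = (g⁻¹ * a * g) * (g⁻¹ * b * g)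
        rw [Subgroup.coe_mul]; group }
  apply Group.isSolvable_of_isSolvable_injective (f := f)
  intro a b hab
  have h1 : g⁻¹ * (a : SL(2, F)) * g = g⁻¹ * (b : SL(2, F)) * g := congrArg Subtype.val hab
  apply Subtype.ext
  have h2 : g * (g⁻¹ * (a : SL(2, F)) * g) * g⁻¹ = g * (g⁻¹ * (b : SL(2, F)) * g) * g⁻¹ := by
    rw [h1]
  calc (a : SL(2, F)) = g * (g⁻¹ * a * g) * g⁻¹ := by group
    _ = g * (g⁻¹ * b * g) * g⁻¹ := h2
    _ = b := by group

/-- a group with an abelian subgroup of index at most two is solvable -/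
theorem isSolvable_of_abelian_index_two {G : Type*} [Group G] (M A : Subgroup G)
    (hA : ∀ a ∈ A, ∀ b ∈ A, a * b = b * a) (hidx : A.relIndex M ≤ 2) (hne : A.relIndex M ≠ 0) :
    Group.IsSolvable ↥M := by
  apply Cfsg.Agent.Lib.Helper99_SL2EvenSol.isSolvable_subgroup_of_commutator_mem M A hA
  intro a ha b hb
  have h12 : A.relIndex M = 1 ∨ A.relIndex M = 2 := by omega
  rcases h12 with h | h
  · have hle := Subgroup.relIndex_eq_one.1 h
    exact A.mul_mem (A.mul_mem (A.mul_mem (hle ha) (hle hb)) (A.inv_mem (hle ha)))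
      (A.inv_mem (hle hb))
  · have key : ∀ x y : ↥M, x * y ∈ A.subgroupOf M ↔ (x ∈ A.subgroupOf M ↔ y ∈ A.subgroupOf M) :=
      fun x y => Subgroup.mul_mem_iff_of_index_two (H := A.subgroupOf M) h (a := x) (b := y)
    have e1 : (⟨a, ha⟩ * ⟨b, hb⟩ : ↥M) ∈ A.subgroupOf M ↔
        ((⟨a, ha⟩ : ↥M) ∈ A.subgroupOf M ↔ (⟨b, hb⟩ : ↥M) ∈ A.subgroupOf M) := key _ _
    have e2 : ((⟨a, ha⟩ : ↥M)⁻¹ * (⟨b, hb⟩ : ↥M)⁻¹ : ↥M) ∈ A.subgroupOf M ↔
        ((⟨a, ha⟩ : ↥M)⁻¹ ∈ A.subgroupOf M ↔ (⟨b, hb⟩ : ↥M)⁻¹ ∈ A.subgroupOf M) := key _ _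
    have e3 : ((⟨a, ha⟩ * ⟨b, hb⟩ : ↥M) * ((⟨a, ha⟩ : ↥M)⁻¹ * (⟨b, hb⟩ : ↥M)⁻¹) : ↥M) ∈
        A.subgroupOf M ↔
        ((⟨a, ha⟩ * ⟨b, hb⟩ : ↥M) ∈ A.subgroupOf M ↔
          ((⟨a, ha⟩ : ↥M)⁻¹ * (⟨b, hb⟩ : ↥M)⁻¹ : ↥M) ∈ A.subgroupOf M) := key _ _
    rw [inv_mem_iff, inv_mem_iff] at e2
    have h3 : ((⟨a, ha⟩ * ⟨b, hb⟩ : ↥M) * ((⟨a, ha⟩ : ↥M)⁻¹ * (⟨b, hb⟩ : ↥M)⁻¹) : ↥M) ∈
        A.subgroupOf M := by
      rw [e3, e1, e2]
    rw [Subgroup.mem_subgroupOf] at h3
    have : a * b * a⁻¹ * b⁻¹ = a * b * (a⁻¹ * b⁻¹) := by group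
    rw [this]
    exact h3

/-- groups of order dividing `48` are solvable -/
theorem isSolvable_of_card_dvd_48 {G : Type*} [Group G] [Finite G] (h : Nat.card G ∣ 48) :
    Group.IsSolvable G := by
  refine Cfsg.Agent.Lib.Helper3_CharBurnside.isSolvable_of_two_primes 2 3 Nat.prime_two
    Nat.prime_three _ G rfl (fun r hr hd => ?_)
  have h48 : r ∣ 2 ^ 4 * 3 := hd.trans h
  rcases (Nat.Prime.dvd_mul hr).1 h48 with h | h
  · left; exact (Nat.prime_dvd_prime_iff_eq hr Nat.prime_two).1 (hr.dvd_of_dvd_pow h)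
  · right; exact (Nat.prime_dvd_prime_iff_eq hr Nat.prime_three).1 h

/-- **Proper subgroups of `SL(2,q)` are solvable** for `q = p` prime or `q = 3^r`, `r` prime, when
`q = 5` or `5 ∤ q (q² - 1)`. -/
theorem sl2_top_or_solvable [Fintype F] (p : ℕ) [Fact p.Prime] [CharP F p] (hp2 : p ≠ 2) (r : ℕ)
    (hF : Fintype.card F = p ^ r) (hr : r = 1 ∨ (r.Prime ∧ p = 3))
    (h5 : Fintype.card F = 5 ∨ ¬ 5 ∣ Fintype.card F * (Fintype.card F ^ 2 - 1))
    (M : Subgroup SL(2, F)) : M = ⊤ ∨ Group.IsSolvable ↥M := by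
  classical
  have hpp : p.Prime := Fact.out
  have h2F := two_ne_zero_of_char (F := F) p hp2
  have hr0 : r ≠ 0 := by
    rcases hr with h | ⟨h, -⟩
    · omega
    · exact h.ne_zero
  have hSL : Nat.card SL(2, F) = Fintype.card F * (Fintype.card F ^ 2 - 1) :=
    Cfsg.Agent.Lib.Helper5_PSLCard.card_SL_two
  have hdvdSL : Nat.card M ∣ Fintype.card F * (Fintype.card F ^ 2 - 1) := by
    rw [← hSL]; exact Subgroup.card_subgroup_dvd_card M
  have h120 : Nat.card M = 120 → M = ⊤ := by
    intro h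
    rcases h5 with h5 | h5
    · apply Subgroup.eq_top_of_card_eq
      rw [h, hSL, h5]
      norm_num
    · exfalso
      apply h5
      rw [h] at hdvdSL
      exact (by norm_num : 5 ∣ 120).trans hdvdSL
  rcases sl2_cases_tri p hp2 M with ⟨φ, hU, hL⟩ | ⟨g, hg⟩ | ⟨A, hAM, hA, hidx⟩ | ⟨hc, -⟩
  · set M' : Subgroup SL(2, F) := M.map φ.toMonoidHom with hM'
    have eM : ↥M ≃* ↥M' := M.equivMapOfInjective φ.toMonoidHom φ.injective
    have hcard : Nat.card M' = Nat.card M := (Nat.card_congr eM.toEquiv).symm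
    have htop : M' = ⊤ → M = ⊤ := by
      intro h
      rw [eq_top_iff]
      intro x _
      have hx : φ x ∈ M' := by rw [h]; trivial
      obtain ⟨y, hy, hyx⟩ := hx
      have : y = x := φ.injective hyx
      rwa [← this]
    have hsol : Group.IsSolvable ↥M' → Group.IsSolvable ↥M := fun _ =>
      Group.isSolvable_of_isSolvable_injective (f := eM.toMonoidHom) eM.injective
    have htopA : AA M' = Set.univ → M = ⊤ := by
      intro hA
      apply htop
      apply Cfsg.Agent.Lib.Helper50_SL2Gen.closure_eq_top_of_forall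
      · intro c
        have : c ∈ AA M' := by rw [hA]; trivial
        exact this
      · intro c
        have : c ∈ AA M' := by rw [hA]; trivial
        exact tL_mem_of_AA hU hL this
    rcases engine hp2 M' hU hL with hG | ⟨h3, -, hc⟩
    · let ι₀ : ZMod p →+* F := ZMod.castHom (dvd_refl p) F
      have hι : ∀ x : ZMod p, ι₀ x ∈ AA M' := by
        intro x
        have h1 := AA_nsmul hG.one_mem x.val
        rw [mul_one, ZMod.natCast_val] at h1
        exact h1
      rcases hr with hr1 | ⟨hrp, hp3⟩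
      · -- the prime field
        left
        apply htopA
        have hbij : Function.Bijective ι₀ := by
          rw [Fintype.bijective_iff_injective_and_card]
          refine ⟨ι₀.injective, ?_⟩
          rw [ZMod.card, hF, hr1, pow_one]
        rw [Set.eq_univ_iff_forall]
        intro c
        obtain ⟨x, rfl⟩ := hbij.2 c
        exact hι x
      · have hF' : Fintype.card F = Fintype.card (ZMod p) ^ r := by rw [ZMod.card, hF]
        rcases subring_cases ι₀ hrp hF' (AA M') hι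
          (fun x hx y hy => AA_add hx hy) hG.mul_mem with hA | hA
        · right
          apply hsol
          have hle : M' ≤ N0 ι₀ := by
            intro g hg
            rw [mem_N0, ← hA]
            exact hG.entries g hg
          have h1 := Subgroup.card_dvd_of_le hle
          have h2 := card_N0_dvd ι₀ h2F
          rw [ZMod.card] at h2
          have e48 : 2 * (p * (p ^ 2 - 1)) = 48 := by rw [hp3]; norm_num
          rw [e48] at h2
          exact isSolvable_of_card_dvd_48 (h1.trans h2)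
        · left
          exact htopA hA
    · exfalso
      have h5M : 5 ∣ Nat.card M := by
        rw [← hcard]
        rcases hc with h | h <;> rw [h] <;> norm_num
      rcases h5 with h5 | h5
      · rw [hF, h3] at h5
        have : 3 ∣ 5 := by rw [← h5]; exact dvd_pow_self 3 hr0
        omega
      · exact h5 (h5M.trans hdvdSL)
  · right
    exact isSolvable_of_tri M g hg
  · right
    exact isSolvable_of_abelian_index_two M A hA hidx Subgroup.index_ne_zero_of_finite
  · rcases hc with h | h | h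
    · right
      exact isSolvable_of_card_dvd_48 (by rw [h]; norm_num)
    · right
      exact isSolvable_of_card_dvd_48 (by rw [h])
    · left
      exact h120 h

/-- **Proper subgroups of `PSL(2,q)` are solvable**, same hypotheses. -/
theorem psl2_top_or_solvable [Fintype F] (p : ℕ) [Fact p.Prime] [CharP F p] (hp2 : p ≠ 2) (r : ℕ)
    (hF : Fintype.card F = p ^ r) (hr : r = 1 ∨ (r.Prime ∧ p = 3))
    (h5 : Fintype.card F = 5 ∨ ¬ 5 ∣ Fintype.card F * (Fintype.card F ^ 2 - 1))
    (M : Subgroup PSL(2, F)) : M = ⊤ ∨ Group.IsSolvable ↥M := by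
  set π : SL(2, F) →* PSL(2, F) := QuotientGroup.mk' (Subgroup.center SL(2, F)) with hπ
  have hsurj : Function.Surjective π := QuotientGroup.mk'_surjective _
  rcases sl2_top_or_solvable p hp2 r hF hr h5 (M.comap π) with h | h
  · left
    rw [eq_top_iff]
    intro x _
    obtain ⟨y, rfl⟩ := hsurj x
    have : y ∈ M.comap π := by rw [h]; trivial
    exact this
  · right
    exact Group.isSolvable_of_surjective
      (MonoidHom.subgroupComap_surjective_of_surjective π M hsurj)

end Cfsg.Agent.Lib.Helper51_SL2Solv
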