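import Mathlib
import Cfsg.Agent.Lib.Helper99_SL2EvenSub

/-!
Versions for ARBITRARY subgroups `M ≤ SL(2,F)`, `F` finite of characteristic 2, of the two
structural lemmas that `Helper99_SL2EvenSub` states for maximal subgroups (requested by helper50
for the Dickson classification):

* `le_conj_borel_of_involution`: if the `M`-conjugates of an involution `t` all commute with `t`
  (e.g. `t` in a normal 2-subgroup of `M`), then `M` lies in a conjugate of the Borel subgroup;
* `le_normalizer_cent_of_normal_odd`: if `M` normalises a nontrivial subgroup `K` of odd order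
  then `M ≤ N(C(x))` for some `1 ≠ x ∈ K` of odd order (and `N(C(x))` is dihedral of order
  `2 (q ± 1)` by `normalizer_cent_dihedral` and `cent_structure`).
-/

set_option autoImplicit false

namespace Cfsg.Agent.Lib.Helper99_SL2EvenGen

open Matrix
open scoped MatrixGroups
open Cfsg.Agent.Lib.Helper99_SL2Even Cfsg.Agent.Lib.Helper99_SL2EvenSub

variable {F : Type*} [Field F] [CharP F 2]

/-- a subgroup all of whose conjugates of an involution `t` commute with `t` lies in a conjugate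
of the Borel subgroup -/
theorem le_conj_borel_of_involution [Fintype F] (M : Subgroup SL(2, F))
    (t : SL(2, F)) (ht1 : t ≠ 1) (htt : t * t = 1)
    (hcomm : ∀ k ∈ M, (k * t * k⁻¹) * t = t * (k * t * k⁻¹)) :
    ∃ g : SL(2, F), g * uu 1 * g⁻¹ = t ∧
      M ≤ (Cfsg.Agent.S2437.BSL F).map (MulAut.conj g).toMonoidHom := by
  have h2 : (2 : F) = 0 := two_eq_zero
  have hord : orderOf t = 2 := orderOf_eq_prime (by rw [pow_two]; exact htt) ht1
  obtain ⟨g, hg⟩ := isConj_iff.1 (Cfsg.Agent.S2302.conj_u t hord)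
  rw [u_eq_uu] at hg
  refine ⟨g, hg, ?_⟩
  intro k hk
  rw [Cfsg.Agent.Lib.Helper21_StronglyEmbedded.mem_map_conj_iff,
    Cfsg.Agent.S2437.mem_BSL_iff]
  set k' := g⁻¹ * k * g with hk'
  set v := k' * uu 1 * k'⁻¹ with hv
  have hvk : v * k' = k' * uu 1 := by rw [hv]; group
  have hvc : v * uu 1 = uu 1 * v := by
    have h1 := hcomm k hk
    rw [← hg] at h1
    have e1 : v = g⁻¹ * (k * (g * uu 1 * g⁻¹) * k⁻¹) * g := by rw [hv, hk']; group
    have e2 : uu (1 : F) = g⁻¹ * (g * uu 1 * g⁻¹) * g := by group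
    rw [e1]
    nth_rewrite 2 [e2]
    nth_rewrite 3 [e2]
    calc g⁻¹ * (k * (g * uu 1 * g⁻¹) * k⁻¹) * g * (g⁻¹ * (g * uu 1 * g⁻¹) * g)
        = g⁻¹ * ((k * (g * uu 1 * g⁻¹) * k⁻¹) * (g * uu 1 * g⁻¹)) * g := by group
      _ = g⁻¹ * ((g * uu 1 * g⁻¹) * (k * (g * uu 1 * g⁻¹) * k⁻¹)) * g := by rw [h1]
      _ = g⁻¹ * (g * uu 1 * g⁻¹) * g * (g⁻¹ * (k * (g * uu 1 * g⁻¹) * k⁻¹) * g) := by group
  have hvc' : (v : Matrix (Fin 2) (Fin 2) F) * (uu (1 : F) : Matrix (Fin 2) (Fin 2) F) =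
      (uu (1 : F) : Matrix (Fin 2) (Fin 2) F) * v := by
    have := congrArg Subtype.val hvc
    simpa using this
  have hvk' : (v : Matrix (Fin 2) (Fin 2) F) * (k' : Matrix (Fin 2) (Fin 2) F) =
      (k' : Matrix (Fin 2) (Fin 2) F) * (uu (1 : F) : Matrix (Fin 2) (Fin 2) F) := by
    have := congrArg Subtype.val hvk
    simpa using this
  rw [uu_val] at hvc' hvk'
  have c00 := congrFun (congrFun hvc' 0) 0
  have c01 := congrFun (congrFun hvc' 0) 1
  have k10 := congrFun (congrFun hvk' 1) 0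
  have k11 := congrFun (congrFun hvk' 1) 1
  simp [Matrix.mul_apply, Fin.sum_univ_two] at c00 c01 k10 k11
  have hdet := v.2
  rw [Matrix.det_fin_two] at hdet
  have hv10 : (v : Matrix (Fin 2) (Fin 2) F) 1 0 = 0 := c00
  have hv00 : (v : Matrix (Fin 2) (Fin 2) F) 0 0 = (v : Matrix (Fin 2) (Fin 2) F) 1 1 := by
    linear_combination c01
  have hv11 : (v : Matrix (Fin 2) (Fin 2) F) 1 1 = 1 := by
    apply Cfsg.Agent.S4065.sq_eq_one_char_two
    rw [hv10, hv00] at hdet
    linear_combination hdet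
  show (k' : Matrix (Fin 2) (Fin 2) F) 1 0 = 0
  rw [hv10, hv11] at k11
  linear_combination -k11

/-- a subgroup normalising a nontrivial subgroup of odd order lies in the (dihedral) normaliser of
a torus -/
theorem le_normalizer_cent_of_normal_odd [Finite F] (M : Subgroup SL(2, F))
    (K : Subgroup SL(2, F)) (hK1 : K ≠ ⊥)
    (hKodd : Odd (Nat.card K)) (hnorm : ∀ k ∈ M, ∀ y ∈ K, k * y * k⁻¹ ∈ K) :
    ∃ x ∈ K, x ≠ 1 ∧ Odd (orderOf x) ∧
      M ≤ Subgroup.normalizer
        ((Subgroup.centralizer ({x} : Set SL(2, F)) : Subgroup SL(2, F)) : Set SL(2, F)) := by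
  obtain ⟨x, hxK, hx1⟩ : ∃ x ∈ K, x ≠ 1 := by
    by_contra h
    push Not at h
    exact hK1 ((Subgroup.eq_bot_iff_forall K).2 h)
  have hxodd : Odd (orderOf x) := by
    have := orderOf_dvd_natCard (⟨x, hxK⟩ : ↥K)
    rw [Subgroup.orderOf_mk] at this
    exact hKodd.of_dvd_nat this
  refine ⟨x, hxK, hx1, hxodd, ?_⟩
  intro k hk
  apply ct_sl2.mem_normalizer (x := x) (by rw [Subgroup.mem_bot]; exact hx1)
  exact comm_of_odd K hKodd _ _ (hnorm k hk x hxK) hxK

end Cfsg.Agent.Lib.Helper99_SL2EvenGen
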