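import Cfsg.Agent.Lib.Helper51_SL2Solv
import Cfsg.Agent.Lib.Helper99_SL2EvenGen
import Cfsg.Agent.Lib.Helper99_SL2EvenSub2
import Cfsg.Agent.Lib.Helper61_SL2

/-!
# Proper subgroups of `SL(2, 2^r)`, `r` prime, are solvable

Assembled from helper99's structure lemmas for `SL(2, 2^n)`.
-/

set_option autoImplicit false

namespace Cfsg.Agent.Lib.Helper51_SL2SolvEven

open Matrix
open scoped MatrixGroups
open Cfsg.Agent.Lib.Helper99_SL2EvenSub Cfsg.Agent.Lib.Helper99_SL2Even
  Cfsg.Agent.Lib.Helper21_BSW Cfsg.Agent.Lib.Helper99_SL2EvenSol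

/-- `2^r = q₀^r'` with `r, r'` prime and `q₀` a prime power forces `q₀ = 2` -/
theorem arith_two_pow (r r' q0 : ℕ) (hr : r.Prime) (hr' : r'.Prime) (hq0 : IsPrimePow q0)
    (h : 2 ^ r = q0 ^ r') : q0 = 2 := by
  obtain ⟨p', n, hp', hn, rfl⟩ := hq0
  have hp'' : p'.Prime := hp'.nat_prime
  have hdvd : p' ∣ 2 ^ r := by
    rw [h, ← pow_mul]
    exact dvd_pow_self p' (Nat.mul_ne_zero hn.ne' hr'.ne_zero)
  have hp2 : p' = 2 := (Nat.prime_dvd_prime_iff_eq hp'' Nat.prime_two).1 (hp''.dvd_of_dvd_pow hdvd)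
  subst hp2
  rw [← pow_mul] at h
  have hnr : r = n * r' := Nat.pow_right_injective (le_refl 2) h
  have h1 : r' ∣ r := ⟨n, by rw [hnr, mul_comm]⟩
  have h2 : r' = r := by
    rcases (Nat.dvd_prime hr).1 h1 with h | h
    · exact absurd h hr'.one_lt.ne'
    · exact h
  have hn1 : n = 1 := by
    rw [h2] at hnr
    have : n * r = 1 * r := by rw [one_mul]; exact hnr.symm
    exact Nat.eq_of_mul_eq_mul_right hr.pos this
  rw [hn1, pow_one]

variable {F : Type*} [Field F] [Fintype F] [CharP F 2]

/-- maximal subgroups of `SL(2, 2^r)`, `r` prime, are solvable -/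
theorem isSolvable_of_isCoatom (r : ℕ) (hr : r.Prime) (hF : Fintype.card F = 2 ^ r)
    (M : Subgroup SL(2, F)) (hM : IsCoatom M) : Group.IsSolvable ↥M := by
  classical
  have : Fact (Nat.Prime 2) := ⟨Nat.prime_two⟩
  have h4 : 4 ≤ Fintype.card F := by
    rw [hF]
    calc 4 = 2 ^ 2 := by norm_num
      _ ≤ 2 ^ r := Nat.pow_le_pow_right (by norm_num) hr.two_le
  have hC : CIT ↥M := cit_subgroup M
  let P : Sylow 2 ↥M := default
  have hnodd := not_odd_of_isCoatom h4 M hM
  have hPbot : (P : Subgroup ↥M) ≠ ⊥ := by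
    apply Sylow.ne_bot_of_dvd_card
    rw [Nat.not_odd_iff_even] at hnodd
    exact hnodd.two_dvd
  obtain ⟨t, htP, ht1⟩ : ∃ t ∈ (P : Subgroup ↥M), t ≠ 1 := by
    by_contra h
    push Not at h
    exact hPbot ((Subgroup.eq_bot_iff_forall _).2 h)
  have htt : t * t = 1 := by
    have := sq_eq_one_of_mem hC P htP
    rwa [pow_two] at this
  by_cases hPn : (P : Subgroup ↥M).Normal
  · -- Borel case
    obtain ⟨g, -, hMB⟩ := Cfsg.Agent.Lib.Helper99_SL2EvenGen.le_conj_borel_of_involution M
      (t : SL(2, F)) (fun h => ht1 (Subtype.ext h)) (congrArg Subtype.val htt) (by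
        intro k hk
        have hkt : (⟨k, hk⟩ : ↥M) * t * (⟨k, hk⟩ : ↥M)⁻¹ ∈ (P : Subgroup ↥M) :=
          hPn.conj_mem t htP ⟨k, hk⟩
        exact congrArg Subtype.val (commute_of_mem hC P hkt htP))
    apply Cfsg.Agent.Lib.Helper51_SL2Solv.isSolvable_of_tri M g
    intro m hm
    have := hMB hm
    rw [Cfsg.Agent.Lib.Helper21_StronglyEmbedded.mem_map_conj_iff,
      Cfsg.Agent.S2437.mem_BSL_iff] at this
    exact this
  · by_cases h2 : Nat.card (P : Subgroup ↥M) = 2
    · -- dihedral case
      have hall : ∀ y ∈ (P : Subgroup ↥M), y = 1 ∨ y = t := by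
        intro y hy
        obtain ⟨w, -, hw⟩ := (Nat.card_eq_two_iff' (1 : (P : Subgroup ↥M))).1 h2
        by_cases hy1 : y = 1
        · exact Or.inl hy1
        · right
          have e1 : (⟨y, hy⟩ : (P : Subgroup ↥M)) = w :=
            hw _ (fun h => hy1 (congrArg Subtype.val h))
          have e2 : (⟨t, htP⟩ : (P : Subgroup ↥M)) = w :=
            hw _ (fun h => ht1 (congrArg Subtype.val h))
          exact congrArg Subtype.val (e1.trans e2.symm)
      have hNC : Subgroup.normalizer ((P : Subgroup ↥M) : Set ↥M) ≤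
          Subgroup.centralizer ((P : Subgroup ↥M) : Set ↥M) := by
        intro n hn
        rw [Subgroup.mem_centralizer_iff]
        intro y hy
        rcases hall y hy with rfl | rfl
        · rw [one_mul, mul_one]
        · have h3 : n * y * n⁻¹ ∈ (P : Subgroup ↥M) := (Subgroup.mem_normalizer_iff.1 hn y).1 htP
          rcases hall _ h3 with h4 | h4
          · exfalso
            apply ht1
            calc y = n⁻¹ * (n * y * n⁻¹) * n := by group
              _ = 1 := by rw [h4]; group
          · calc y * n = (n * y * n⁻¹) * n := by rw [h4]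
              _ = n * y := by group
      set K₀ := (MonoidHom.transferSylow P hNC).ker with hK₀
      have hcompl : K₀.IsComplement' (P : Subgroup ↥M) :=
        MonoidHom.ker_transferSylow_isComplement' P hNC
      have hodd₀ : ¬ 2 ∣ Nat.card K₀ := MonoidHom.not_dvd_card_ker_transferSylow P hNC
      have hK₀n : K₀.Normal := MonoidHom.normal_ker _
      set K := K₀.map M.subtype with hK
      have hKcard : Nat.card K = Nat.card K₀ :=
        (Nat.card_congr (K₀.equivMapOfInjective M.subtype M.subtype_injective).toEquiv).symm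
      have hKodd : Odd (Nat.card K) := by
        rw [hKcard, ← Nat.not_even_iff_odd, even_iff_two_dvd]
        exact hodd₀
      have hK1 : K ≠ ⊥ := by
        intro h
        have hK₀bot : K₀ = ⊥ := (Subgroup.map_eq_bot_iff_of_injective K₀ M.subtype_injective).1 h
        have hc := hcompl.card_mul_card
        rw [hK₀bot, Subgroup.card_bot, one_mul] at hc
        have hPtop : (P : Subgroup ↥M) = ⊤ := Subgroup.eq_top_of_card_eq _ hc
        apply hPn
        rw [hPtop]
        infer_instance
      have hnorm : ∀ k ∈ M, ∀ y ∈ K, k * y * k⁻¹ ∈ K := by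
        rintro k hk _ ⟨y₀, hy₀, rfl⟩
        refine ⟨(⟨k, hk⟩ : ↥M) * y₀ * (⟨k, hk⟩ : ↥M)⁻¹, hK₀n.conj_mem y₀ hy₀ ⟨k, hk⟩, ?_⟩
        simp only [map_mul, map_inv, Subgroup.coe_subtype]
      obtain ⟨x, -, hx1, hxodd, hMN⟩ :=
        Cfsg.Agent.Lib.Helper99_SL2EvenGen.le_normalizer_cent_of_normal_odd M K hK1 hKodd hnorm
      have hsolN : Group.IsSolvable ↥(Nn x) := isSolvable_Nn x hx1 hxodd
      exact isSolvable_of_le (K := Nn x) hMN
    · -- subfield case: impossible
      exfalso
      have hnc : ¬ IsCyclic (P : Subgroup ↥M) := by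
        intro hcyc
        obtain ⟨g, hg⟩ := hcyc.exists_generator
        have hord : orderOf g = Nat.card (P : Subgroup ↥M) :=
          orderOf_eq_card_of_forall_mem_zpowers hg
        have hg2 : g ^ 2 = 1 := Subtype.ext (sq_eq_one_of_mem hC P g.2)
        have hd : Nat.card (P : Subgroup ↥M) ∣ 2 := hord ▸ orderOf_dvd_of_pow_eq_one hg2
        rcases (Nat.dvd_prime Nat.prime_two).1 hd with h | h
        · exact hPbot (Subgroup.card_eq_one.1 h)
        · exact h2 h
      obtain ⟨F₀, hF₀, hFin, r', hr', hne2, hq, -⟩ :=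
        subfield_of_noncyclic_sylow M hM P hnc hPn
      apply hne2
      apply arith_two_pow r r' _ hr hr' (Fintype.isPrimePow_card_of_field)
      rw [← hF, hq]

/-- proper subgroups of `SL(2, 2^r)`, `r` prime, are solvable -/
theorem sl2_top_or_solvable_even (r : ℕ) (hr : r.Prime) (hF : Fintype.card F = 2 ^ r)
    (M : Subgroup SL(2, F)) : M = ⊤ ∨ Group.IsSolvable ↥M := by
  rcases eq_top_or_exists_le_coatom M with h | ⟨N, hN, hMN⟩
  · exact Or.inl h
  · right
    have := isSolvable_of_isCoatom r hr hF N hN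
    exact isSolvable_of_le hMN

/-- proper subgroups of `PSL(2, 2^r)`, `r` prime, are solvable -/
theorem psl2_top_or_solvable_even (r : ℕ) (hr : r.Prime) (hF : Fintype.card F = 2 ^ r)
    (M : Subgroup PSL(2, F)) : M = ⊤ ∨ Group.IsSolvable ↥M := by
  let eF := Cfsg.Agent.Lib.Helper61_SL2.pslEquivSl (F := F)
  rcases sl2_top_or_solvable_even r hr hF (M.map eF.toMonoidHom) with h | h
  · left
    rw [eq_top_iff]
    intro x _
    have hx : eF x ∈ M.map eF.toMonoidHom := by rw [h]; trivial
    obtain ⟨y, hy, hyx⟩ := hx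
    have : y = x := eF.injective hyx
    rwa [← this]
  · right
    exact Group.isSolvable_of_isSolvable_injective
      (f := (M.equivMapOfInjective eF.toMonoidHom eF.injective).toMonoidHom)
      (M.equivMapOfInjective eF.toMonoidHom eF.injective).injective

end Cfsg.Agent.Lib.Helper51_SL2SolvEven
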