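import Mathlib
import Cfsg.Prelude.Def_SubgroupEmbedding
import Cfsg.Prelude.Def_Transfer
import Cfsg.Prelude.Def_Solvable
import Cfsg.Agent.Lib.Helper1_Cores
import Cfsg.Agent.Lib.Helper10_Thompson
import Cfsg.Agent.Lib.Helper21_PP1
import Cfsg.Agent.Lib.Helper22_Cores

/-!
The minimal counterexample to the Sidki pair problem: elementary reductions.

`Key` : in a minimal counterexample `(G, V)`, every normal subgroup `A` of `G` satisfies
`A ⊔ V = ⊤` or is central.
-/

set_option autoImplicit false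

universe u

namespace Cfsg.Agent.Lib.Helper51_Sidki

open Cfsg Subgroup Cfsg.Agent.Lib.Helper10_Thompson

variable {G : Type u} [Group G]

/-! ### Elementary abelian 2-groups -/

theorem ea_sq {V : Subgroup G} (hV : IsElementaryAbelian 2 V) {a : G} (ha : a ∈ V) :
    a * a = 1 := by
  have := hV.2 a ha
  rwa [pow_two] at this

theorem ea_inv {V : Subgroup G} (hV : IsElementaryAbelian 2 V) {a : G} (ha : a ∈ V) :
    a⁻¹ = a := inv_eq_of_mul_eq_one_left (ea_sq hV ha)

theorem ea_pow_odd {V : Subgroup G} (hV : IsElementaryAbelian 2 V) {a : G} (ha : a ∈ V)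
    {n : ℕ} (hn : Odd n) : a ^ n = a := by
  obtain ⟨k, rfl⟩ := hn
  rw [pow_succ, pow_mul, hV.2 a ha, one_pow, one_mul]

/-! ### Odd order -/

theorem commute_of_commute_sq {h w : G} (hodd : Odd (orderOf h)) (hc : Commute w (h * h)) :
    Commute w h := by
  obtain ⟨k, hk⟩ := hodd
  have h1 : h = (h * h) ^ (k + 1) := by
    rw [← pow_two, ← pow_mul]
    have : 2 * (k + 1) = orderOf h + 1 := by omega
    rw [this, pow_succ, pow_orderOf_eq_one, one_mul]
  rw [h1]
  exact hc.pow_right _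

theorem odd_orderOf_mul {h g : G} (hc : Commute h g) (hh : Odd (orderOf h))
    (hg : Odd (orderOf g)) : Odd (orderOf (h * g)) := by
  have h1 : orderOf (h * g) ∣ orderOf h * orderOf g := by
    apply orderOf_dvd_of_pow_eq_one
    rw [hc.mul_pow, pow_mul, pow_orderOf_eq_one, one_pow, mul_comm (orderOf h), pow_mul,
      pow_orderOf_eq_one, one_pow, one_mul]
  exact Odd.of_dvd_nat (hh.mul hg) h1

/-! ### The Sidki pair condition in subgroups and quotients -/

theorem sidki_subgroupOf_iff {W X : Subgroup G} (hWX : W ≤ X) :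
    IsSidkiPair (W.subgroupOf X) ↔
      ∀ g ∈ X, ∀ w ∈ W, Odd (orderOf g) → w * g * w⁻¹ = g⁻¹ →
        ∃ w' ∈ W, w' ≠ 1 ∧ w' * g = g * w' := by
  constructor
  · intro h g hg w hw hodd hinv
    obtain ⟨w', hw', hne, hc⟩ := h ⟨g, hg⟩ ⟨w, hWX hw⟩ (Subgroup.mem_subgroupOf.2 hw)
      (by rw [Subgroup.orderOf_mk]; exact hodd) (Subtype.ext hinv)
    refine ⟨w', Subgroup.mem_subgroupOf.1 hw', ?_, congrArg Subtype.val hc⟩
    intro h1
    exact hne (Subtype.ext h1)
  · intro h g w hw hodd hinv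
    obtain ⟨w', hw', hne, hc⟩ := h g g.2 w (Subgroup.mem_subgroupOf.1 hw)
      (by rw [← Subgroup.orderOf_coe] at hodd; exact hodd) (congrArg Subtype.val hinv)
    refine ⟨⟨w', hWX hw'⟩, Subgroup.mem_subgroupOf.2 hw', ?_, Subtype.ext hc⟩
    intro h1
    exact hne (congrArg Subtype.val h1)

theorem sidki_subgroupOf {V X : Subgroup G} (hS : IsSidkiPair V) (hVX : V ≤ X) :
    IsSidkiPair (V.subgroupOf X) := by
  rw [sidki_subgroupOf_iff hVX]
  intro g _ w hw hodd hinv
  exact hS g w hw hodd hinv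

/-- the quotient lemma -/
theorem sidki_quotient [Finite G] {V : Subgroup G} (hV : IsElementaryAbelian 2 V)
    (hS : IsSidkiPair V) (N : Subgroup G) [N.Normal] (hVN : V ⊓ N = ⊥) :
    IsSidkiPair (V.map (QuotientGroup.mk' N)) := by
  intro hbar vbar hvbar hodd hinv
  obtain ⟨v, hv, rfl⟩ := hvbar
  obtain ⟨h, rfl⟩ := QuotientGroup.mk'_surjective N hbar
  set π := QuotientGroup.mk' N with hπ
  have hvinv : v⁻¹ = v := ea_inv hV hv
  set u := h * v * h⁻¹ * v with hu
  have huinv : v * u * v⁻¹ = u⁻¹ := by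
    rw [hu, hvinv]
    have : (h * v * h⁻¹ * v)⁻¹ = v⁻¹ * h * v⁻¹ * h⁻¹ := by group
    rw [this, hvinv]
    have h2 := ea_sq hV hv
    calc v * (h * v * h⁻¹ * v) * v = v * h * v * h⁻¹ * (v * v) := by group
      _ = v * h * v * h⁻¹ := by rw [h2, mul_one]
  have hπu : π u = π h * π h := by
    have h1 : π v * π h * (π v)⁻¹ = (π h)⁻¹ := hinv
    have h2 : (π v)⁻¹ = π v := by rw [← map_inv, hvinv]
    rw [hu, map_mul, map_mul, map_mul, map_inv]
    have h3 : π v * (π h)⁻¹ * π v = π h := by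
      have : π v * (π h)⁻¹ * (π v)⁻¹ = π h := by
        calc π v * (π h)⁻¹ * (π v)⁻¹ = (π v * π h * (π v)⁻¹)⁻¹ := by group
          _ = π h := by rw [h1, inv_inv]
      rwa [h2] at this
    calc π h * π v * (π h)⁻¹ * π v = π h * (π v * (π h)⁻¹ * π v) := by group
      _ = π h * π h := by rw [h3]
  -- the odd part of `u`
  obtain ⟨a, m, hm, hn⟩ := Nat.exists_eq_two_pow_mul_odd (orderOf_pos u).ne'
  set u' := u ^ (2 ^ a) with hu'
  have hu'odd : Odd (orderOf u') := by
    have h1 : orderOf u' ∣ m := by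
      apply orderOf_dvd_of_pow_eq_one
      rw [hu', ← pow_mul, ← hn, pow_orderOf_eq_one]
    exact Odd.of_dvd_nat hm h1
  have hu'inv : v * u' * v⁻¹ = u'⁻¹ := by
    rw [hu', ← inv_pow, ← huinv]
    exact (conj_pow).symm
  obtain ⟨w, hw, hw1, hwc⟩ := hS u' v hv hu'odd hu'inv
  refine ⟨π w, ⟨w, hw, rfl⟩, ?_, ?_⟩
  · intro h1
    have h2 : w ∈ N := by
      rw [← QuotientGroup.ker_mk' N]; exact h1
    have h3 : w ∈ V ⊓ N := ⟨hw, h2⟩
    rw [hVN] at h3
    exact hw1 h3
  · -- `π w` commutes with a generator of `⟨π h⟩`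
    have h1 : Commute (π w) (π u') := by
      have : w * u' = u' * w := hwc
      show π w * π u' = π u' * π w
      rw [← map_mul, ← map_mul, this]
    have h2 : π u' = (π h) ^ (2 ^ (a + 1)) := by
      rw [hu', map_pow, hπu, ← pow_two, ← pow_mul, pow_succ, mul_comm]
    rw [h2] at h1
    have hcop : (orderOf (π h)).Coprime (2 ^ (a + 1)) := by
      apply Nat.Coprime.pow_right
      exact Nat.coprime_two_right.2 hodd
    obtain ⟨j, hj⟩ := exists_pow_eq_self_of_coprime hcop.symm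
    have h3 : Commute (π w) (π h) := by
      rw [← hj]
      exact h1.pow_right j
    exact h3


/-- odd-order elements of `N ⊔ H`, `H` an elementary abelian 2-group normalising `N`, lie
in `N` -/
theorem mem_of_odd_of_sup {N H : Subgroup G} (hLE : H ≤ Subgroup.normalizer (N : Set G))
    (hH : IsElementaryAbelian 2 H) {g : G} (hg : g ∈ N ⊔ H) (hodd : Odd (orderOf g)) :
    g ∈ N := by
  have h1 : g ∈ ((N ⊔ H : Subgroup G) : Set G) := hg
  rw [Subgroup.coe_mul_of_right_le_normalizer_left N H hLE] at h1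
  obtain ⟨n, hn, u, hu, rfl⟩ := h1
  have hconj : ∀ k : ℕ, ∀ n' ∈ N, u ^ k * n' * (u ^ k)⁻¹ ∈ N := by
    intro k n' hn'
    exact (Subgroup.mem_normalizer_iff.1 (hLE (H.pow_mem hu k)) n').1 hn'
  have key : ∀ k : ℕ, ∃ n' ∈ N, (n * u) ^ k = n' * u ^ k := by
    intro k
    induction k with
    | zero => exact ⟨1, N.one_mem, by simp⟩
    | succ k ih =>
      obtain ⟨n', hn', h2⟩ := ih
      refine ⟨n' * (u ^ k * n * (u ^ k)⁻¹), N.mul_mem hn' (hconj k n hn), ?_⟩
      rw [pow_succ, h2, pow_succ]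
      group
  obtain ⟨n', hn', h2⟩ := key (orderOf (n * u))
  rw [pow_orderOf_eq_one, ea_pow_odd hH hu hodd] at h2
  have h3 : u = n'⁻¹ := by
    have := congrArg (fun t => n'⁻¹ * t) h2
    simp only [mul_one, inv_mul_cancel_left] at this
    exact this.symm
  have huN : u ∈ N := by rw [h3]; exact N.inv_mem hn'
  exact N.mul_mem hn huN

/-! ### The minimal counterexample -/

section minimal

variable [Finite G] {V : Subgroup G}

theorem card_lt_of_ne_top {X : Subgroup G} (hX : X ≠ ⊤) : Nat.card X < Nat.card G := by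
  by_contra hcon
  push Not at hcon
  exact hX (Subgroup.eq_top_of_le_card X hcon)

omit [Finite G] in
theorem subgroupOf_ne_bot {W X : Subgroup G} (hWX : W ≤ X) (hW1 : W ≠ ⊥) :
    W.subgroupOf X ≠ ⊥ := by
  intro h
  apply hW1
  rw [Subgroup.subgroupOf_eq_bot, disjoint_iff, inf_eq_left.2 hWX] at h
  exact h

/-- Step 1: `O₂(G) = 1`. -/
theorem pCore_eq_bot (hV : IsElementaryAbelian 2 V) (hV1 : V ≠ ⊥) (hS : IsSidkiPair V)
    (hVO : V ⊓ pCore 2 G = ⊥)
    (hminG : ∀ (H : Type u) [Group H] [Finite H] (W : Subgroup H), Nat.card H < Nat.card G →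
      IsElementaryAbelian 2 W → W ≠ ⊥ → IsSidkiPair W → W ⊓ pCore 2 H ≠ ⊥) :
    pCore 2 G = ⊥ := by
  by_contra hne
  have hcard : Nat.card (G ⧸ pCore 2 G) < Nat.card G := by
    have h1 := Subgroup.card_eq_card_quotient_mul_card_subgroup (pCore 2 G)
    have h2 : 1 < Nat.card (pCore 2 G) := by
      rw [Finite.one_lt_card_iff_nontrivial]
      exact (Subgroup.nontrivial_iff_ne_bot _).2 hne
    have h3 : 0 < Nat.card (G ⧸ pCore 2 G) := Nat.card_pos
    nlinarith
  have hW1 : V.map (QuotientGroup.mk' (pCore 2 G)) ≠ ⊥ := by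
    intro h
    apply hV1
    rw [Subgroup.map_eq_bot_iff, QuotientGroup.ker_mk'] at h
    rw [← hVO]
    exact (inf_eq_left.2 h).symm
  have := hminG (G ⧸ pCore 2 G) (V.map (QuotientGroup.mk' (pCore 2 G))) hcard
    (ea_map hV _) hW1 (sidki_quotient hV hS _ hVO)
  apply this
  rw [Cfsg.Agent.Lib.Helper21_PP1.pCore_quot_pCore 2, inf_bot_eq]

/-- an element of `W` centralising the normal subgroup `A`, by minimality applied to `X` -/
theorem exists_centralizing (hO : pCore 2 G = ⊥)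
    (hminG : ∀ (H : Type u) [Group H] [Finite H] (W : Subgroup H), Nat.card H < Nat.card G →
      IsElementaryAbelian 2 W → W ≠ ⊥ → IsSidkiPair W → W ⊓ pCore 2 H ≠ ⊥)
    {A X W : Subgroup G} (hA : A.IsSubnormal) (hWA : W ≤ Subgroup.normalizer (A : Set G))
    (hAX : A ≤ X) (hWX : W ≤ X) (hX : X ≠ ⊤)
    (hW : IsElementaryAbelian 2 W) (hW1 : W ≠ ⊥) (hSW : IsSidkiPair (W.subgroupOf X)) :
    ∃ w ∈ W, w ≠ 1 ∧ w ∈ Subgroup.centralizer (A : Set G) := by
  have h1 := hminG ↥X (W.subgroupOf X) (card_lt_of_ne_top hX) (ea_subgroupOf hW X)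
    (subgroupOf_ne_bot hWX hW1) hSW
  obtain ⟨x, hx1⟩ := (Subgroup.ne_bot_iff_exists_ne_one.1 h1)
  have hxW : ((x : ↥X) : G) ∈ W := Subgroup.mem_subgroupOf.1 x.2.1
  have hxO : (x : ↥X) ∈ pCore 2 ↥X := x.2.2
  set O : Subgroup G := (pCore 2 ↥X).map X.subtype with hOdef
  have hOconj : ∀ o ∈ O, ∀ g ∈ X, g * o * g⁻¹ ∈ O := by
    rintro _ ⟨y, hy, rfl⟩ g hg
    have hn : (pCore 2 ↥X).Normal := Cfsg.Agent.Lib.Helper1_Cores.pCore_normal 2
    exact ⟨⟨g, hg⟩ * y * ⟨g, hg⟩⁻¹, hn.conj_mem y hy ⟨g, hg⟩, rfl⟩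
  have hOp : IsPGroup 2 O := (Cfsg.Agent.Lib.Helper1_Cores.pCore_isPGroup 2).map _
  -- `O ⊓ A` is a subnormal 2-subgroup
  have hDn : ((O ⊓ A).subgroupOf A).Normal := by
    constructor
    intro n hn g
    rw [Subgroup.mem_subgroupOf] at hn ⊢
    refine ⟨?_, ?_⟩
    · exact hOconj _ hn.1 _ (hAX g.2)
    · exact A.mul_mem (A.mul_mem g.2 hn.2) (A.inv_mem g.2)
  have hDsn : (O ⊓ A).IsSubnormal :=
    Subgroup.IsSubnormal.trans inf_le_right hDn.isSubnormal hA
  have hDbot : O ⊓ A = ⊥ := by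
    have := Cfsg.Agent.Lib.Helper22_Cores.le_pCore_of_isSubnormal 2 hDsn (hOp.to_le inf_le_left)
    rwa [hO, le_bot_iff] at this
  refine ⟨(x : ↥X), hxW, ?_, ?_⟩
  · intro h
    apply hx1
    apply Subtype.ext
    apply Subtype.ext
    exact h
  · rw [Subgroup.mem_centralizer_iff]
    intro a ha
    have hwO : ((x : ↥X) : G) ∈ O := ⟨(x : ↥X), hxO, rfl⟩
    have hc : ((x : ↥X) : G) * a * ((x : ↥X) : G)⁻¹ * a⁻¹ ∈ O ⊓ A := by
      refine ⟨?_, ?_⟩
      · have h2 : a * ((x : ↥X) : G)⁻¹ * a⁻¹ ∈ O := hOconj _ (O.inv_mem hwO) a (hAX ha)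
        have h3 := O.mul_mem hwO h2
        have h4 : ((x : ↥X) : G) * (a * ((x : ↥X) : G)⁻¹ * a⁻¹) =
            ((x : ↥X) : G) * a * ((x : ↥X) : G)⁻¹ * a⁻¹ := by group
        rwa [h4] at h3
      · exact A.mul_mem ((Subgroup.mem_normalizer_iff.1 (hWA hxW) a).1 ha) (A.inv_mem ha)
    rw [hDbot, Subgroup.mem_bot] at hc
    have h5 : ((x : ↥X) : G) * a = (((x : ↥X) : G) * a * ((x : ↥X) : G)⁻¹ * a⁻¹) * a *
        ((x : ↥X) : G) := by group
    rw [h5, hc, one_mul]

/-- **Key lemma.** A normal subgroup `A` with `A ⊔ V ≠ ⊤` is central. -/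
theorem key (hV : IsElementaryAbelian 2 V) (hS : IsSidkiPair V) (hO : pCore 2 G = ⊥)
    (hminG : ∀ (H : Type u) [Group H] [Finite H] (W : Subgroup H), Nat.card H < Nat.card G →
      IsElementaryAbelian 2 W → W ≠ ⊥ → IsSidkiPair W → W ⊓ pCore 2 H ≠ ⊥)
    (hV1 : V ≠ ⊥) (A : Subgroup G) [hA : A.Normal] (hAV : A ⊔ V ≠ ⊤) :
    Subgroup.centralizer (A : Set G) = ⊤ := by
  by_contra hB
  set B := Subgroup.centralizer (A : Set G) with hBdef
  have hBn : B.Normal := Subgroup.normal_centralizer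
  -- (a) `V ⊓ B ≠ ⊥`
  have hNA : Subgroup.normalizer (A : Set G) = ⊤ := Subgroup.normalizer_eq_top_iff.2 hA
  obtain ⟨x, hxV, hx1, hxB⟩ := exists_centralizing hO hminG hA.isSubnormal
    (by rw [hNA]; exact le_top) (le_sup_left : A ≤ A ⊔ V)
    le_sup_right hAV hV hV1 (sidki_subgroupOf hS le_sup_right)
  have hVB1 : V ⊓ B ≠ ⊥ := by
    intro h
    have : x ∈ V ⊓ B := ⟨hxV, hxB⟩
    rw [h] at this
    exact hx1 this
  -- (b) `(B, V ⊓ B)` is not a Sidki pair
  have hBcore : pCore 2 ↥B = ⊥ := by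
    have hsn : ((pCore 2 ↥B).map B.subtype).IsSubnormal :=
      Subgroup.IsSubnormal.trans' (Cfsg.Agent.Lib.Helper1_Cores.pCore_normal 2).isSubnormal
        hBn.isSubnormal
    have hp : IsPGroup 2 ↥((pCore 2 ↥B).map B.subtype) :=
      (Cfsg.Agent.Lib.Helper1_Cores.pCore_isPGroup 2).map _
    have := Cfsg.Agent.Lib.Helper22_Cores.le_pCore_of_isSubnormal 2 hsn hp
    rw [hO, le_bot_iff] at this
    exact (Subgroup.map_eq_bot_iff_of_injective _ B.subtype_injective).mp this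
  have hnotS : ¬ IsSidkiPair ((V ⊓ B).subgroupOf B) := by
    intro hSB
    have := hminG ↥B ((V ⊓ B).subgroupOf B) (card_lt_of_ne_top hB)
      (ea_subgroupOf (ea_mono inf_le_left hV) B) (subgroupOf_ne_bot inf_le_right hVB1) hSB
    apply this
    rw [hBcore, inf_bot_eq]
  rw [sidki_subgroupOf_iff inf_le_right] at hnotS
  push Not at hnotS
  obtain ⟨h, hhB, b, hb, hhodd, hbh, hnc⟩ := hnotS
  -- (c) `W = C_V(h)`
  set W : Subgroup G := V ⊓ Subgroup.centralizer ({h} : Set G) with hWdef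
  have hmemW : ∀ w, w ∈ W ↔ w ∈ V ∧ w * h = h * w := by
    intro w
    rw [hWdef, Subgroup.mem_inf, Subgroup.mem_centralizer_singleton_iff]
  obtain ⟨w₁, hw₁V, hw₁1, hw₁h⟩ := hS h b hb.1 hhodd hbh
  have hW1 : W ≠ ⊥ := by
    intro hbot
    have : w₁ ∈ W := (hmemW w₁).2 ⟨hw₁V, hw₁h⟩
    rw [hbot] at this
    exact hw₁1 this
  have hWV : W ≤ V := inf_le_left
  have hWea : IsElementaryAbelian 2 W := ea_mono hWV hV
  -- (d) `(A ⊔ W, W)` is a Sidki pair
  have hXne : A ⊔ W ≠ ⊤ := by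
    intro h1
    apply hAV
    rw [eq_top_iff, ← h1]
    exact sup_le_sup_left hWV A
  have hbX : A ⊔ W ≤ Subgroup.centralizer ({b} : Set G) := by
    apply sup_le
    · intro a ha
      rw [Subgroup.mem_centralizer_singleton_iff]
      exact Subgroup.mem_centralizer_iff.1 hb.2 a ha
    · intro w hw
      rw [Subgroup.mem_centralizer_singleton_iff]
      exact ea_comm hV (hWV hw) hb.1
  have hhX : A ⊔ W ≤ Subgroup.centralizer ({h} : Set G) := by
    apply sup_le
    · intro a ha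
      rw [Subgroup.mem_centralizer_singleton_iff]
      exact Subgroup.mem_centralizer_iff.1 hhB a ha
    · exact inf_le_right
  have hSX : IsSidkiPair (W.subgroupOf (A ⊔ W)) := by
    rw [sidki_subgroupOf_iff le_sup_right]
    intro g hg w hw hgodd hwg
    have hgb : g * b = b * g := Subgroup.mem_centralizer_singleton_iff.1 (hbX hg)
    have hgh : g * h = h * g := Subgroup.mem_centralizer_singleton_iff.1 (hhX hg)
    have hwh : w * h = h * w := ((hmemW w).1 hw).2
    have hwV : w ∈ V := hWV hw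
    have hinv : (b * w) * (h * g) * (b * w)⁻¹ = (h * g)⁻¹ := by
      have e1 : (b * w) * (h * g) * (b * w)⁻¹ =
          b * ((w * h) * w⁻¹ * (w * g * w⁻¹)) * b⁻¹ := by group
      rw [e1, hwh, hwg]
      have e2 : b * (h * w * w⁻¹ * g⁻¹) * b⁻¹ = (b * h * b⁻¹) * (b * g⁻¹ * b⁻¹) := by group
      rw [e2, hbh]
      have e3 : b * g⁻¹ * b⁻¹ = g⁻¹ := by
        have hcg : Commute g b := hgb
        have : b * g⁻¹ = g⁻¹ * b := (hcg.inv_left).symm.eq
        rw [this]; group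
      rw [e3, ← hgh]
      group
    have hodd : Odd (orderOf (h * g)) := odd_orderOf_mul hgh.symm hhodd hgodd
    obtain ⟨w', hw'V, hw'1, hw'c⟩ := hS (h * g) (b * w) (V.mul_mem hb.1 hwV) hodd hinv
    -- `w'` commutes with `b`, hence with `h⁻¹ g`, hence with `h²`
    have hw'b : w' * b = b * w' := ea_comm hV hw'V hb.1
    have hc1 : Commute w' (h * g) := hw'c
    have hc2 : Commute w' (h⁻¹ * g) := by
      have e1 : h⁻¹ * g = b * (h * g) * b⁻¹ := by
        have : b * (h * g) * b⁻¹ = (b * h * b⁻¹) * (b * g * b⁻¹) := by group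
        rw [this, hbh]
        have : b * g * b⁻¹ = g := by rw [← hgb]; group
        rw [this]
      rw [e1]
      have hcb : Commute w' b := hw'b
      exact (hcb.mul_right hc1).mul_right hcb.inv_right
    have hc3 : Commute w' (h * h) := by
      have e1 : h * h = (h * g) * (h⁻¹ * g)⁻¹ := by group
      rw [e1]
      exact hc1.mul_right hc2.inv_right
    have hc4 : Commute w' h := commute_of_commute_sq hhodd hc3
    have hc5 : Commute w' g := by
      have e1 : g = h⁻¹ * (h * g) := by group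
      rw [e1]
      exact hc4.inv_right.mul_right hc1
    exact ⟨w', (hmemW w').2 ⟨hw'V, hc4⟩, hw'1, hc5⟩
  -- (e) contradiction
  obtain ⟨w₀, hw₀W, hw₀1, hw₀B⟩ := exists_centralizing hO hminG hA.isSubnormal
    (by rw [hNA]; exact le_top) (le_sup_left : A ≤ A ⊔ W)
    le_sup_right hXne hWea hW1 hSX
  exact hnc w₀ ⟨hWV hw₀W, hw₀B⟩ hw₀1 ((hmemW w₀).1 hw₀W).2

end minimal

end Cfsg.Agent.Lib.Helper51_Sidki
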