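import Mathlib
import Cfsg.Agent.Lib.Helper51_Sidki
import Cfsg.Agent.Lib.Helper48_SPEFStar
import Cfsg.Agent.Lib.Helper22_Layer

/-!
The minimal counterexample to the Sidki pair problem: `F*(G)` is simple and `G = V F*(G)`.
-/

set_option autoImplicit false

universe u

namespace Cfsg.Agent.Lib.Helper51_SidkiB

open Cfsg Subgroup Cfsg.Agent.Lib.Helper10_Thompson Cfsg.Agent.Lib.Helper51_Sidki

variable {G : Type u} [Group G]

theorem le_normalizer_of_conj_mem {H C : Subgroup G}
    (h : ∀ x ∈ H, ∀ n ∈ C, x * n * x⁻¹ ∈ C) : H ≤ Subgroup.normalizer (C : Set G) := by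
  intro x hx
  rw [Subgroup.mem_normalizer_iff]
  intro n
  constructor
  · exact h x hx n
  · intro hn
    have := h x⁻¹ (H.inv_mem hx) _ hn
    have e : x⁻¹ * (x * n * x⁻¹) * x⁻¹⁻¹ = n := by group
    rwa [e] at this

/-- modulo a normal subgroup `N` with `N ⊔ V = ⊤`, `V` abelian, everything commutes -/
theorem comm_mem_of_sup_eq_top {N V : Subgroup G} [hN : N.Normal] (hNV : N ⊔ V = ⊤)
    (hc : ∀ a ∈ V, ∀ b ∈ V, a * b = b * a) (x y : G) : x * y * x⁻¹ * y⁻¹ ∈ N := by
  have hrep : ∀ g : G, ∃ u ∈ V, (QuotientGroup.mk' N) g = (QuotientGroup.mk' N) u := by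
    intro g
    have hg : g ∈ ((N ⊔ V : Subgroup G) : Set G) := by rw [hNV]; trivial
    rw [Subgroup.normal_mul] at hg
    obtain ⟨n, hn, u, hu, rfl⟩ := hg
    refine ⟨u, hu, ?_⟩
    rw [map_mul]
    have : (QuotientGroup.mk' N) n = 1 := by
      rw [← MonoidHom.mem_ker, QuotientGroup.ker_mk']; exact hn
    rw [this, one_mul]
  obtain ⟨u, hu, hxu⟩ := hrep x
  obtain ⟨u', hu', hyu⟩ := hrep y
  rw [← QuotientGroup.ker_mk' N, MonoidHom.mem_ker, map_mul, map_mul, map_mul, map_inv, map_inv,
    hxu, hyu, ← map_inv, ← map_inv, ← map_mul, ← map_mul, ← map_mul, hc u hu u' hu']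
  have : u' * u * u⁻¹ * u'⁻¹ = 1 := by group
  rw [this, map_one]

theorem mem_cj {L : Subgroup G} {u y : G} :
    y ∈ L.map (MulAut.conj u).toMonoidHom ↔ ∃ l ∈ L, u * l * u⁻¹ = y := by
  simp [Subgroup.mem_map, MulAut.conj_apply]

theorem cj_eq_iff {L : Subgroup G} {u : G} :
    L.map (MulAut.conj u).toMonoidHom = L ↔ u ∈ Subgroup.normalizer (L : Set G) := by
  rw [Subgroup.mem_normalizer_iff]
  constructor
  · intro h n
    constructor
    · intro hn
      rw [← h]
      exact mem_cj.2 ⟨n, hn, rfl⟩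
    · intro hn
      rw [← h] at hn
      obtain ⟨l, hl, e⟩ := mem_cj.1 hn
      have : l = n := by
        have := congrArg (fun t => u⁻¹ * t * u) e
        simpa [mul_assoc] using this
      rwa [← this]
  · intro h
    ext y
    rw [mem_cj]
    constructor
    · rintro ⟨l, hl, rfl⟩
      exact (h l).1 hl
    · intro hy
      refine ⟨u⁻¹ * y * u, ?_, by group⟩
      rw [h]
      have : u * (u⁻¹ * y * u) * u⁻¹ = y := by group
      rwa [this]

theorem isComponent_cj {L : Subgroup G} (hL : IsComponent L) (u : G) :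
    IsComponent (L.map (MulAut.conj u).toMonoidHom) :=
  Cfsg.Agent.Lib.Helper29_Local.isComponent_map_mulEquiv (MulAut.conj u) hL

section minimal

variable [Finite G] {V : Subgroup G}
  (hV : IsElementaryAbelian 2 V) (hV1 : V ≠ ⊥) (hS : IsSidkiPair V) (hO : pCore 2 G = ⊥)
  (hminG : ∀ (H : Type u) [Group H] [Finite H] (W : Subgroup H), Nat.card H < Nat.card G →
      IsElementaryAbelian 2 W → W ≠ ⊥ → IsSidkiPair W → W ⊓ pCore 2 H ≠ ⊥)

include hV hV1 hS hO hminG

/-- Step 1: `Z(G) = 1`. -/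
theorem center_eq_bot : Subgroup.center G = ⊥ := by
  by_contra hZ
  have : Fact (Nat.Prime 2) := ⟨Nat.prime_two⟩
  set Z := Subgroup.center G with hZdef
  have hVZ : V ⊓ Z = ⊥ := by
    have hn : (V ⊓ Z).Normal := by
      constructor
      intro n hn g
      have h1 : g * n = n * g := Subgroup.mem_center_iff.1 hn.2 g
      have h2 : g * n * g⁻¹ = n := by rw [h1]; group
      rw [h2]; exact hn
    have hp : IsPGroup 2 ↥(V ⊓ Z) := (ea_isPGroup hV).to_le inf_le_left
    have := Cfsg.Agent.Lib.Helper1_Cores.le_pCore hn hp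
    rwa [hO, le_bot_iff] at this
  set π := QuotientGroup.mk' Z with hπ
  have hcard : Nat.card (G ⧸ Z) < Nat.card G := by
    have h1 := Subgroup.card_eq_card_quotient_mul_card_subgroup Z
    have h2 : 1 < Nat.card Z := by
      rw [Finite.one_lt_card_iff_nontrivial]
      exact (Subgroup.nontrivial_iff_ne_bot _).2 hZ
    have h3 : 0 < Nat.card (G ⧸ Z) := Nat.card_pos
    nlinarith
  have hW1 : V.map π ≠ ⊥ := by
    intro h
    apply hV1
    rw [Subgroup.map_eq_bot_iff, QuotientGroup.ker_mk'] at h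
    rw [← hVZ]
    exact (inf_eq_left.2 h).symm
  have hne := hminG (G ⧸ Z) (V.map π) hcard (ea_map hV _) hW1 (sidki_quotient hV hS _ hVZ)
  obtain ⟨y, hy1⟩ := (Subgroup.ne_bot_iff_exists_ne_one.1 hne)
  obtain ⟨v, hvV, hvy⟩ := y.2.1
  have hyO : (y : G ⧸ Z) ∈ pCore 2 (G ⧸ Z) := y.2.2
  have hv1 : v ≠ 1 := by
    intro h
    apply hy1
    apply Subtype.ext
    rw [← hvy, h, map_one]; rfl
  set T : Subgroup G := (pCore 2 (G ⧸ Z)).comap π with hT
  have hTn : T.Normal := (Cfsg.Agent.Lib.Helper1_Cores.pCore_normal 2).comap π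
  have hvT : v ∈ T := by
    rw [hT, Subgroup.mem_comap, hvy]; exact hyO
  -- `T` is nilpotent
  let f : ↥T →* ↥(pCore 2 (G ⧸ Z)) := (π.comp T.subtype).codRestrict _ (fun t => t.2)
  have hker : f.ker ≤ Subgroup.center ↥T := by
    intro t ht
    rw [MonoidHom.mem_ker] at ht
    have h1 : π (t : G) = 1 := congrArg Subtype.val ht
    have h2 : (t : G) ∈ Z := by
      rw [← QuotientGroup.ker_mk' Z]; exact h1
    rw [Subgroup.mem_center_iff]
    intro s
    apply Subtype.ext
    exact Subgroup.mem_center_iff.1 h2 (s : G)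
  have hnilO : Group.IsNilpotent ↥(pCore 2 (G ⧸ Z)) :=
    (Cfsg.Agent.Lib.Helper1_Cores.pCore_isPGroup 2).isNilpotent
  have hnil : Group.IsNilpotent ↥T := Subgroup.isNilpotent_of_ker_le_center f hker
  -- a Sylow 2-subgroup of `T` containing `v`
  have hzp : IsPGroup 2 ↥(Subgroup.zpowers (⟨v, hvT⟩ : ↥T)) := by
    apply IsPGroup.of_card (n := 1)
    rw [Nat.card_zpowers, pow_one]
    apply orderOf_eq_prime
    · apply Subtype.ext
      simpa using hV.2 v hvV
    · intro h
      exact hv1 (congrArg Subtype.val h)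
  obtain ⟨P, hP⟩ := hzp.exists_le_sylow
  have hPn : (P : Subgroup ↥T).Normal := inferInstance
  have hsn : ((P : Subgroup ↥T).map T.subtype).IsSubnormal :=
    Subgroup.IsSubnormal.trans' hPn.isSubnormal hTn.isSubnormal
  have hp : IsPGroup 2 ↥((P : Subgroup ↥T).map T.subtype) := P.isPGroup'.map _
  have hle := Cfsg.Agent.Lib.Helper22_Cores.le_pCore_of_isSubnormal 2 hsn hp
  rw [hO, le_bot_iff] at hle
  have hvP : v ∈ (P : Subgroup ↥T).map T.subtype :=
    ⟨⟨v, hvT⟩, hP (Subgroup.mem_zpowers _), rfl⟩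
  rw [hle] at hvP
  exact hv1 hvP

/-- Step 2: a nontrivial normal subgroup supplements `V`. -/
theorem sup_eq_top_of_normal (A : Subgroup G) [hA : A.Normal] (hA1 : A ≠ ⊥) : A ⊔ V = ⊤ := by
  by_contra h
  have h1 := key hV hS hO hminG hV1 A h
  have h2 : A ≤ Subgroup.center G := by
    intro a ha
    rw [Subgroup.mem_center_iff]
    intro g
    have hg : g ∈ Subgroup.centralizer (A : Set G) := by rw [h1]; trivial
    exact Subgroup.mem_centralizer_iff.1 hg a ha |>.symm
  rw [center_eq_bot hV hV1 hS hO hminG, le_bot_iff] at h2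
  exact hA1 h2

/-- Step 3: there is no nontrivial abelian normal subgroup. -/
theorem eq_bot_of_normal_of_comm (M : Subgroup G) [hM : M.Normal]
    (hc : ∀ a ∈ M, ∀ b ∈ M, a * b = b * a) : M = ⊥ := by
  by_contra hM1
  have hZ := center_eq_bot hV hV1 hS hO hminG
  have hMV := sup_eq_top_of_normal hV hV1 hS hO hminG M hM1
  -- `C_M(v) = 1` for `v ∈ V^#`
  have hCM : ∀ v ∈ V, v ≠ 1 → ∀ m ∈ M, v * m = m * v → m = 1 := by
    intro v hv hv1 m hm hvm
    by_contra hm1
    set C : Subgroup G := M ⊓ Subgroup.centralizer ({v} : Set G) with hC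
    have hmemC : ∀ x, x ∈ C ↔ x ∈ M ∧ x * v = v * x := by
      intro x
      rw [hC, Subgroup.mem_inf, Subgroup.mem_centralizer_singleton_iff]
    have hC1 : C ≠ ⊥ := by
      intro h
      have : m ∈ C := (hmemC m).2 ⟨hm, hvm.symm⟩
      rw [h] at this
      exact hm1 this
    have hCn : C.Normal := by
      rw [← Subgroup.normalizer_eq_top_iff, eq_top_iff, ← hMV]
      apply sup_le
      · apply le_normalizer_of_conj_mem
        intro x hx n hn
        have hn' := (hmemC n).1 hn
        have : x * n * x⁻¹ = n := by rw [hc x hx n hn'.1]; group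
        rw [this]; exact hn
      · apply le_normalizer_of_conj_mem
        intro x hx n hn
        have hn' := (hmemC n).1 hn
        rw [hmemC]
        refine ⟨hM.conj_mem n hn'.1 x, ?_⟩
        have hxv : x * v = v * x := ea_comm hV hx hv
        have hxv' : x⁻¹ * v = v * x⁻¹ := ea_comm hV (V.inv_mem hx) hv
        calc x * n * x⁻¹ * v = x * n * (x⁻¹ * v) := by group
          _ = x * n * (v * x⁻¹) := by rw [hxv']
          _ = x * (n * v) * x⁻¹ := by group
          _ = x * (v * n) * x⁻¹ := by rw [hn'.2]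
          _ = (x * v) * n * x⁻¹ := by group
          _ = (v * x) * n * x⁻¹ := by rw [hxv]
          _ = v * (x * n * x⁻¹) := by group
    have hCV := sup_eq_top_of_normal hV hV1 hS hO hminG C hC1
    have hvZ : v ∈ Subgroup.center G := by
      have : (⊤ : Subgroup G) ≤ Subgroup.centralizer ({v} : Set G) := by
        rw [← hCV]
        apply sup_le
        · exact inf_le_right
        · intro x hx
          rw [Subgroup.mem_centralizer_singleton_iff]
          exact ea_comm hV hx hv
      rw [Subgroup.mem_center_iff]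
      intro g
      exact (Subgroup.mem_centralizer_singleton_iff.1 (this (Subgroup.mem_top g)))
    rw [hZ] at hvZ
    exact hv1 hvZ
  -- every `v ∈ V^#` inverts `M`
  have hinv : ∀ v ∈ V, v ≠ 1 → ∀ m ∈ M, v * m * v⁻¹ = m⁻¹ := by
    intro v hv hv1 m hm
    have hvi : v⁻¹ = v := ea_inv hV hv
    have hm' : v * m * v⁻¹ ∈ M := hM.conj_mem m hm v
    have h1 : v * (m * (v * m * v⁻¹)) = (m * (v * m * v⁻¹)) * v := by
      rw [hvi]
      have hvv : v * v = 1 := ea_sq hV hv
      have hcm : m * (v * m * v) = (v * m * v) * m := by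
        have := hc m hm (v * m * v⁻¹) hm'
        rwa [hvi] at this
      calc v * (m * (v * m * v)) = v * ((v * m * v) * m) := by rw [hcm]
        _ = (v * v) * m * v * m := by group
        _ = m * v * m := by rw [hvv, one_mul]
        _ = m * v * m * (v * v) := by rw [hvv, mul_one]
        _ = m * (v * m * v) * v := by group
    have h2 := hCM v hv hv1 _ (M.mul_mem hm hm') h1
    exact (eq_inv_of_mul_eq_one_right h2)
  obtain ⟨v, hv1⟩ := (Subgroup.ne_bot_iff_exists_ne_one.1 hV1)
  have hv1' : (v : G) ≠ 1 := fun h => hv1 (Subtype.ext h)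
  -- an element of prime order in `M`
  have hMnt : Nontrivial ↥M := (Subgroup.nontrivial_iff_ne_bot _).2 hM1
  obtain ⟨p, hp, hpd⟩ := Nat.exists_prime_and_dvd
    (show Nat.card ↥M ≠ 1 from (Finite.one_lt_card (α := ↥M)).ne')
  have : Fact p.Prime := ⟨hp⟩
  obtain ⟨m, hm⟩ := exists_prime_orderOf_dvd_card' p hpd
  have hm1 : (m : G) ≠ 1 := by
    intro h
    have : m = 1 := Subtype.ext h
    rw [this, orderOf_one] at hm
    exact hp.one_lt.ne hm
  have hmo : orderOf (m : G) = p := by rw [Subgroup.orderOf_coe]; exact hm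
  rcases hp.eq_two_or_odd' with h2 | hodd
  · -- an involution is centralised
    have hmm : (m : G) * (m : G) = 1 := by
      rw [← pow_two, ← h2, ← hmo, pow_orderOf_eq_one]
    have hmi : (m : G)⁻¹ = m := inv_eq_of_mul_eq_one_left hmm
    have h3 := hinv v v.2 hv1' m m.2
    rw [hmi] at h3
    apply hm1
    apply hCM v v.2 hv1' m m.2
    calc (v : G) * m = (v * m * (v : G)⁻¹) * v := by group
      _ = m * v := by rw [h3]
  · obtain ⟨w, hw, hw1, hwm⟩ := hS m v v.2 (by rw [hmo]; exact hodd) (hinv v v.2 hv1' m m.2)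
    exact hm1 (hCM w hw hw1 m m.2 hwm)

/-- Step 4: a nontrivial normal subgroup has trivial centraliser. -/
theorem centralizer_eq_bot_of_normal (A : Subgroup G) [hA : A.Normal] (hA1 : A ≠ ⊥) :
    Subgroup.centralizer (A : Set G) = ⊥ := by
  by_contra hC1
  set C := Subgroup.centralizer (A : Set G) with hC
  have hCn : C.Normal := Subgroup.normal_centralizer
  have hcV : ∀ a ∈ V, ∀ b ∈ V, a * b = b * a := fun a ha b hb => ea_comm hV ha hb
  have h1 := sup_eq_top_of_normal hV hV1 hS hO hminG A hA1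
  have h2 := sup_eq_top_of_normal hV hV1 hS hO hminG C hC1
  have hD : A ⊓ C = ⊥ := by
    have hDn : (A ⊓ C).Normal := inferInstance
    apply eq_bot_of_normal_of_comm hV hV1 hS hO hminG (A ⊓ C)
    intro a ha b hb
    exact (Subgroup.mem_centralizer_iff.1 hb.2 a ha.1)
  have hcomm : ∀ x y : G, x * y = y * x := by
    intro x y
    have h3 : x * y * x⁻¹ * y⁻¹ ∈ A ⊓ C :=
      ⟨comm_mem_of_sup_eq_top h1 hcV x y, comm_mem_of_sup_eq_top h2 hcV x y⟩
    rw [hD, Subgroup.mem_bot] at h3
    calc x * y = (x * y * x⁻¹ * y⁻¹) * y * x := by group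
      _ = y * x := by rw [h3, one_mul]
  have hZ := center_eq_bot hV hV1 hS hO hminG
  apply hV1
  rw [eq_bot_iff, ← hZ]
  intro v _
  rw [Subgroup.mem_center_iff]
  intro g
  exact hcomm g v

/-- Step 5: `F(G) = 1`. -/
theorem fittingSubgroup_eq_bot : fittingSubgroup G = ⊥ := by
  by_contra hF1
  have hFn : (fittingSubgroup G).Normal := Cfsg.Agent.Lib.Helper29_Local.fittingSubgroup_normal G
  have hnil : Group.IsNilpotent ↥(fittingSubgroup G) :=
    Cfsg.Agent.Lib.Helper1_Cores.fittingSubgroup_isNilpotent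
  have hnt : Nontrivial ↥(fittingSubgroup G) := (Subgroup.nontrivial_iff_ne_bot _).2 hF1
  have hcen := centralizer_eq_bot_of_normal hV hV1 hS hO hminG (fittingSubgroup G) hF1
  apply Group.IsNilpotent.center_ne_bot (G := ↥(fittingSubgroup G))
  rw [eq_bot_iff]
  intro z hz
  rw [Subgroup.mem_bot]
  apply Subtype.ext
  have : (z : G) ∈ Subgroup.centralizer (fittingSubgroup G : Set G) := by
    rw [Subgroup.mem_centralizer_iff]
    intro a ha
    exact congrArg Subtype.val (Subgroup.mem_center_iff.1 hz ⟨a, ha⟩)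
  rw [hcen] at this
  exact this

/-- Step 7: `V` normalises every component. -/
theorem le_normalizer_of_isComponent {L : Subgroup G} (hL : IsComponent L) :
    V ≤ Subgroup.normalizer (L : Set G) := by
  have hF := fittingSubgroup_eq_bot hV hV1 hS hO hminG
  have hLZ := Cfsg.Agent.Lib.Helper48_SPEFStar.center_eq_bot_of_isComponent hF hL
  have hLnt : Nontrivial ↥L := Cfsg.Agent.Lib.Helper29_Local.IsQuasisimple.nontrivial hL.2
  have hL1 : L ≠ ⊥ := (Subgroup.nontrivial_iff_ne_bot _).1 hLnt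
  set C := Subgroup.centralizer (L : Set G) with hC
  have hLC : ∀ g, g ∈ L → g ∈ C → g = 1 := by
    intro g hg hgC
    have : (⟨g, hg⟩ : ↥L) ∈ Subgroup.center ↥L := by
      rw [Subgroup.mem_center_iff]
      intro s
      apply Subtype.ext
      exact Subgroup.mem_centralizer_iff.1 hgC s s.2
    rw [hLZ, Subgroup.mem_bot] at this
    exact congrArg Subtype.val this
  have hcjC : ∀ u : G, u ∉ Subgroup.normalizer (L : Set G) →
      L.map (MulAut.conj u).toMonoidHom ≤ C := by
    intro u hu y hy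
    have hne : L.map (MulAut.conj u).toMonoidHom ≠ L := fun h => hu (cj_eq_iff.1 h)
    rw [hC, Subgroup.mem_centralizer_iff]
    intro l hl
    exact (Cfsg.Agent.Lib.Helper21_Components.IsComponent.commute_of_ne (isComponent_cj hL u) hL hne
      hy hl).symm.eq
  have hlay1 : layer G ≠ ⊥ := by
    intro h
    apply hL1
    rw [eq_bot_iff, ← h]
    exact Cfsg.Agent.Lib.Helper29_Local.IsComponent.le_layer hL
  have hlayn : (layer G).Normal := Cfsg.Agent.Lib.Helper29_Local.layer_normal G
  have hlayV := sup_eq_top_of_normal hV hV1 hS hO hminG (layer G) hlay1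
  by_contra hnot
  obtain ⟨v, hvV, hvN⟩ := Set.not_subset.1 hnot
  set V₁ : Subgroup G := V ⊓ Subgroup.normalizer (L : Set G) with hV₁
  have hvi : v⁻¹ = v := ea_inv hV hvV
  have hvv : v * v = 1 := ea_sq hV hvV
  -- the main claim
  have claim : ∀ x ∈ L, x ≠ 1 → Odd (orderOf x) → ∃ w ∈ V₁, w ≠ 1 ∧ w * x = x * w := by
    intro x hx hx1 hxodd
    -- elements of `V` centralising `x` normalise `L`
    have hnorm : ∀ w ∈ V, w * x = x * w → w ∈ Subgroup.normalizer (L : Set G) := by
      intro w _ hwx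
      by_contra hwN
      apply hx1
      apply hLC x hx
      apply hcjC w hwN
      rw [mem_cj]
      exact ⟨x, hx, by rw [hwx]; group⟩
    set x' := v * x * v⁻¹ with hx'
    have hx'C : x' ∈ C := hcjC v hvN (mem_cj.2 ⟨x, hx, rfl⟩)
    have hx'iC : x'⁻¹ ∈ C := C.inv_mem hx'C
    have hcomm : Commute x x'⁻¹ := (Subgroup.mem_centralizer_iff.1 hx'iC x hx)
    have hinv : v * (x * x'⁻¹) * v⁻¹ = (x * x'⁻¹)⁻¹ := by
      rw [hx', hvi]
      have e1 : v * (x * (v * x * v)⁻¹) * v = (v * x * v) * ((v⁻¹ * v⁻¹) * x⁻¹ * (v⁻¹ * v)) := by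
        group
      rw [e1, hvi, hvv]
      group
    have hodd' : Odd (orderOf x'⁻¹) := by
      rw [orderOf_inv, hx']
      have : orderOf (v * x * v⁻¹) = orderOf x := by
        have := orderOf_injective (MulAut.conj v).toMonoidHom (MulAut.conj v).injective x
        simpa [MulAut.conj_apply] using this
      rw [this]; exact hxodd
    obtain ⟨w, hwV, hw1, hwy⟩ := hS (x * x'⁻¹) v hvV (odd_orderOf_mul hcomm hxodd hodd') hinv
    have hwi : w⁻¹ = w := ea_inv hV hwV
    set a := w * x * w⁻¹ with ha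
    set b := (w * v) * x⁻¹ * (w * v)⁻¹ with hb
    have hab : a * b = x * x'⁻¹ := by
      have e1 : a * b = w * (x * x'⁻¹) * w⁻¹ := by rw [ha, hb, hx']; group
      rw [e1, hwy]; group
    by_cases hwN : w ∈ Subgroup.normalizer (L : Set G)
    · -- `w` normalises `L`
      have haL : a ∈ L := (Subgroup.mem_normalizer_iff.1 hwN x).1 hx
      have hwvN : w * v ∉ Subgroup.normalizer (L : Set G) := by
        intro h
        apply hvN
        have := (Subgroup.normalizer (L : Set G)).mul_mem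
          ((Subgroup.normalizer (L : Set G)).inv_mem hwN) h
        rwa [inv_mul_cancel_left] at this
      have hbC : b ∈ C := hcjC (w * v) hwvN (mem_cj.2 ⟨x⁻¹, L.inv_mem hx, rfl⟩)
      have h1 : x⁻¹ * a = x'⁻¹ * b⁻¹ := by
        have : x⁻¹ * a = x⁻¹ * (a * b) * b⁻¹ := by group
        rw [this, hab]; group
      have h2 : x⁻¹ * a = 1 := by
        apply hLC _ (L.mul_mem (L.inv_mem hx) haL)
        rw [h1]
        exact C.mul_mem hx'iC (C.inv_mem hbC)
      have h3 : a = x := by
        have := congrArg (fun t => x * t) h2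
        simpa using this
      refine ⟨w, ⟨hwV, hwN⟩, hw1, ?_⟩
      calc w * x = (w * x * w⁻¹) * w := by group
        _ = x * w := by rw [← ha, h3]
    · -- `w` does not normalise `L`
      have haC : a ∈ C := hcjC w hwN (mem_cj.2 ⟨x, hx, rfl⟩)
      by_cases huN : w * v ∈ Subgroup.normalizer (L : Set G)
      · have hbL : b ∈ L := (Subgroup.mem_normalizer_iff.1 huN x⁻¹).1 (L.inv_mem hx)
        have hba : b * a = a * b := (Subgroup.mem_centralizer_iff.1 haC b hbL)
        have h1 : x⁻¹ * b = x'⁻¹ * a⁻¹ := by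
          have : x⁻¹ * b = x⁻¹ * (b * a) * a⁻¹ := by group
          rw [this, hba, hab]; group
        have h2 : x⁻¹ * b = 1 := by
          apply hLC _ (L.mul_mem (L.inv_mem hx) hbL)
          rw [h1]
          exact C.mul_mem hx'iC (C.inv_mem haC)
        have h3 : b = x := by
          have := congrArg (fun t => x * t) h2
          simpa using this
        -- `w * v` inverts `x`
        have h4 : (w * v) * x * (w * v)⁻¹ = x⁻¹ := by
          have : (w * v) * x * (w * v)⁻¹ = ((w * v) * x⁻¹ * (w * v)⁻¹)⁻¹ := by group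
          rw [this, ← hb, h3]
        obtain ⟨w₂, hw₂V, hw₂1, hw₂x⟩ := hS x (w * v) (V.mul_mem hwV hvV) hxodd h4
        exact ⟨w₂, ⟨hw₂V, hnorm w₂ hw₂V hw₂x⟩, hw₂1, hw₂x⟩
      · exfalso
        have hbC : b ∈ C := hcjC (w * v) huN (mem_cj.2 ⟨x⁻¹, L.inv_mem hx, rfl⟩)
        apply hx1
        apply hLC x hx
        have : x = a * b * x' := by rw [hab]; group
        rw [this]
        exact C.mul_mem (C.mul_mem haC hbC) hx'C
  -- an element of odd order in `L`
  have : Fact (Nat.Prime 2) := ⟨Nat.prime_two⟩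
  have hnp : ¬ IsPGroup 2 ↥L := by
    intro hp
    have := Cfsg.Agent.Lib.Helper22_Cores.le_pCore_of_isSubnormal 2 hL.1 hp
    rw [hO, le_bot_iff] at this
    exact hL1 this
  obtain ⟨x₀, hx₀, hx₀1, hx₀odd⟩ : ∃ x ∈ L, x ≠ 1 ∧ Odd (orderOf x) := by
    unfold IsPGroup at hnp
    push Not at hnp
    obtain ⟨g, hg⟩ := hnp
    obtain ⟨a, m, hm, hn⟩ := Nat.exists_eq_two_pow_mul_odd (orderOf_pos g).ne'
    refine ⟨((g ^ 2 ^ a : ↥L) : G), (g ^ 2 ^ a).2, ?_, ?_⟩
    · intro h
      exact hg a (Subtype.ext h)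
    · rw [Subgroup.orderOf_coe]
      have h1 : orderOf (g ^ 2 ^ a) ∣ m := by
        apply orderOf_dvd_of_pow_eq_one
        rw [← pow_mul, ← hn, pow_orderOf_eq_one]
      exact Odd.of_dvd_nat hm h1
  have hV₁1 : V₁ ≠ ⊥ := by
    obtain ⟨w, hw, hw1, _⟩ := claim x₀ hx₀ hx₀1 hx₀odd
    intro h
    rw [h] at hw
    exact hw1 hw
  have hV₁ea : IsElementaryAbelian 2 V₁ := ea_mono inf_le_left hV
  have hV₁N : V₁ ≤ Subgroup.normalizer (L : Set G) := inf_le_right
  have hX : L ⊔ V₁ ≠ ⊤ := by
    intro h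
    apply hvN
    have : L ⊔ V₁ ≤ Subgroup.normalizer (L : Set G) := sup_le Subgroup.le_normalizer hV₁N
    rw [h] at this
    exact this (Subgroup.mem_top v)
  have hSX : IsSidkiPair (V₁.subgroupOf (L ⊔ V₁)) := by
    rw [sidki_subgroupOf_iff le_sup_right]
    intro g hg w _ hgodd _
    have hgL : g ∈ L := mem_of_odd_of_sup hV₁N hV₁ea hg hgodd
    by_cases hg1 : g = 1
    · obtain ⟨w', hw'1⟩ := (Subgroup.ne_bot_iff_exists_ne_one.1 hV₁1)
      refine ⟨w', w'.2, fun h => hw'1 (Subtype.ext h), ?_⟩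
      rw [hg1, mul_one, one_mul]
    · exact claim g hgL hg1 hgodd
  obtain ⟨k, hkV₁, hk1, hkC⟩ := exists_centralizing hO hminG hL.1 hV₁N le_sup_left le_sup_right hX
    hV₁ea hV₁1 hSX
  -- `k` centralises the normal closure of `L`
  have hNC1 : Subgroup.normalClosure (L : Set G) ≠ ⊥ := by
    intro h
    apply hL1
    rw [eq_bot_iff, ← h]
    exact Subgroup.le_normalClosure
  have hcen := centralizer_eq_bot_of_normal hV hV1 hS hO hminG
    (Subgroup.normalClosure (L : Set G)) hNC1
  have hkNC : Subgroup.normalClosure (L : Set G) ≤ Subgroup.centralizer ({k} : Set G) := by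
    rw [Subgroup.normalClosure, Subgroup.closure_le]
    intro c hc
    rw [Group.mem_conjugatesOfSet_iff] at hc
    obtain ⟨l, hl, hlc⟩ := hc
    obtain ⟨g, rfl⟩ := isConj_iff.1 hlc
    have hg : g ∈ ((layer G ⊔ V : Subgroup G) : Set G) := by rw [hlayV]; trivial
    rw [Subgroup.normal_mul] at hg
    obtain ⟨e, he, u, hu, rfl⟩ := hg
    have hK := isComponent_cj hL u
    have heK := Cfsg.Agent.Lib.Helper22_Layer.IsComponent.le_normalizer_layer hK he
    have h1 : e * (u * l * u⁻¹) * e⁻¹ ∈ L.map (MulAut.conj u).toMonoidHom :=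
      (Subgroup.mem_normalizer_iff.1 heK _).1 (mem_cj.2 ⟨l, hl, rfl⟩)
    obtain ⟨l', hl', e1⟩ := mem_cj.1 h1
    have e2 : e * u * l * (e * u)⁻¹ = u * l' * u⁻¹ := by rw [e1]; group
    rw [SetLike.mem_coe, Subgroup.mem_centralizer_singleton_iff, e2]
    have hku : k * u = u * k := ea_comm hV hkV₁.1 hu
    have hkl : l' * k = k * l' := Subgroup.mem_centralizer_iff.1 hkC l' hl'
    have hku' : k * u⁻¹ = u⁻¹ * k := ea_comm hV hkV₁.1 (V.inv_mem hu)
    calc u * l' * u⁻¹ * k = u * l' * (u⁻¹ * k) := by group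
      _ = u * l' * (k * u⁻¹) := by rw [hku']
      _ = u * (l' * k) * u⁻¹ := by group
      _ = u * (k * l') * u⁻¹ := by rw [hkl]
      _ = (u * k) * l' * u⁻¹ := by group
      _ = (k * u) * l' * u⁻¹ := by rw [hku]
      _ = k * (u * l' * u⁻¹) := by group
  have hkc : k ∈ Subgroup.centralizer (Subgroup.normalClosure (L : Set G) : Set G) := by
    rw [Subgroup.mem_centralizer_iff]
    intro h hh
    exact Subgroup.mem_centralizer_singleton_iff.1 (hkNC hh)
  rw [hcen] at hkc
  exact hk1 hkc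

/-- Step 8: a component of `G` is normal and is the whole layer. -/
theorem layer_eq_of_isComponent {L : Subgroup G} (hL : IsComponent L) :
    layer G = L ∧ L ⊔ V = ⊤ := by
  have hLnt : Nontrivial ↥L := Cfsg.Agent.Lib.Helper29_Local.IsQuasisimple.nontrivial hL.2
  have hL1 : L ≠ ⊥ := (Subgroup.nontrivial_iff_ne_bot _).1 hLnt
  have hlay1 : layer G ≠ ⊥ := by
    intro h
    apply hL1
    rw [eq_bot_iff, ← h]
    exact Cfsg.Agent.Lib.Helper29_Local.IsComponent.le_layer hL
  have hlayn : (layer G).Normal := Cfsg.Agent.Lib.Helper29_Local.layer_normal G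
  have hlayV := sup_eq_top_of_normal hV hV1 hS hO hminG (layer G) hlay1
  have hLn : L.Normal := by
    rw [← Subgroup.normalizer_eq_top_iff, eq_top_iff, ← hlayV]
    exact sup_le (Cfsg.Agent.Lib.Helper22_Layer.IsComponent.le_normalizer_layer hL)
      (le_normalizer_of_isComponent hV hV1 hS hO hminG hL)
  have hcen := centralizer_eq_bot_of_normal hV hV1 hS hO hminG L hL1
  have huniq : ∀ K : Subgroup G, IsComponent K → K = L := by
    intro K hK
    by_contra hne
    have hKnt : Nontrivial ↥K := Cfsg.Agent.Lib.Helper29_Local.IsQuasisimple.nontrivial hK.2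
    apply (Subgroup.nontrivial_iff_ne_bot _).1 hKnt
    rw [eq_bot_iff, ← hcen]
    intro y hy
    rw [Subgroup.mem_centralizer_iff]
    intro l hl
    exact (Cfsg.Agent.Lib.Helper21_Components.IsComponent.commute_of_ne hK hL hne hy hl).symm.eq
  refine ⟨?_, sup_eq_top_of_normal hV hV1 hS hO hminG L hL1⟩
  unfold layer
  apply le_antisymm
  · apply sSup_le
    intro K hK
    rw [huniq K hK]
  · exact le_sSup hL

/-- The minimal counterexample: `F*(G)` is non-abelian simple and `G = V F*(G)`. -/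
theorem main : IsSimpleGroup ↥(generalizedFittingSubgroup G) ∧
    ¬ IsMulCommutative ↥(generalizedFittingSubgroup G) ∧
    V ⊔ generalizedFittingSubgroup G = ⊤ := by
  have hF := fittingSubgroup_eq_bot hV hV1 hS hO hminG
  -- a component exists
  have hex : ∃ L : Subgroup G, IsComponent L := by
    by_contra hno
    push Not at hno
    have hlay : layer G = ⊥ := by
      unfold layer
      rw [eq_bot_iff]
      apply sSup_le
      intro K hK
      exact absurd hK (hno K)
    have hgF : generalizedFittingSubgroup G = ⊥ := by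
      unfold generalizedFittingSubgroup
      rw [hlay, hF, sup_bot_eq]
    have h1 := Cfsg.Agent.Lib.Helper21_FStar.centralizer_generalizedFitting_le (G := G)
    rw [hgF, Subgroup.coe_bot, Subgroup.centralizer_eq_top_iff_subset.mpr (by simp)] at h1
    apply hV1
    rw [eq_bot_iff]
    exact le_top.trans h1
  obtain ⟨L, hL⟩ := hex
  obtain ⟨hlay, hLV⟩ := layer_eq_of_isComponent hV hV1 hS hO hminG hL
  have hgF : generalizedFittingSubgroup G = L := by
    unfold generalizedFittingSubgroup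
    rw [hF, sup_bot_eq, hlay]
  rw [hgF]
  refine ⟨Cfsg.Agent.Lib.Helper48_SPEFStar.isSimpleGroup_of_isComponent hF hL, ?_, ?_⟩
  · intro hc
    apply Cfsg.Agent.Lib.Helper29_Local.IsQuasisimple.not_isSolvable hL.2
    exact Group.isSolvable_of_comm (fun a b => hc.is_comm.comm a b)
  · rw [sup_comm]; exact hLV

end minimal

end Cfsg.Agent.Lib.Helper51_SidkiB
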