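import Mathlib
import Cfsg.Prelude.Def_GeometricClasses
import Cfsg.Agent.Lib.Helper67_SpAschArith
import Cfsg.Agent.Lib.Helper30_SpC6
import Cfsg.Agent.Lib.Helper51_Sp8

/-!
helper51: the maximal subgroups of `Sp_8(q)` (row S5823) from the structure theorem for subgroups of the
symplectic group, taken as the hypothesis `SpAschHyp 4 F` (modelled on helper67's `Helper67_Sp12`).
-/

set_option autoImplicit false

namespace Cfsg.Agent.Lib.Helper51_Sp8Rows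

open Matrix Module Cfsg.Geo
open Cfsg.Agent.Lib.Helper67_SpAschMax Cfsg.Agent.Lib.Helper67_SpAschMaxB Cfsg.Agent.Lib.Helper67_SpAschRows
  Cfsg.Agent.Lib.Helper67_SpAschC3 Cfsg.Agent.Lib.Helper67_SpAschArith

theorem sp8 {F : Type*} [Field F] [Fintype F] (hA : SpAschHyp 4 F) (H : Subgroup (Matrix.GeneralLinearGroup (Fin 4 ⊕ Fin 4) F)) (hH : Cfsg.Geo.IsMaximalIn (Cfsg.spGL 4 F) H) :
    (∃ W : Submodule F (Fin 4 ⊕ Fin 4 → F), W ≠ ⊥ ∧ Cfsg.Geo.IsTotallySingularFor (Cfsg.sympForm 4 F) W ∧ H = Cfsg.Geo.subspaceStabilizer W ⊓ Cfsg.spGL 4 F) ∨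
    (∃ W : Submodule F (Fin 4 ⊕ Fin 4 → F), W ≠ ⊥ ∧ Cfsg.Geo.IsNondegenerateOn (Cfsg.sympForm 4 F) W ∧ Module.finrank F W < 4 ∧ H = Cfsg.Geo.subspaceStabilizer W ⊓ Cfsg.spGL 4 F) ∨
    (3 ≤ Fintype.card F ∧ ∃ D : Fin 4 → Submodule F (Fin 4 ⊕ Fin 4 → F), Cfsg.Geo.IsNondegenerateMDecomposition (Cfsg.sympForm 4 F) 2 D ∧ H = Cfsg.Geo.decompositionStabilizer D ⊓ Cfsg.spGL 4 F) ∨
    (∃ D : Fin 2 → Submodule F (Fin 4 ⊕ Fin 4 → F), Cfsg.Geo.IsNondegenerateMDecomposition (Cfsg.sympForm 4 F) 4 D ∧ H = Cfsg.Geo.decompositionStabilizer D ⊓ Cfsg.spGL 4 F) ∨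
    (Odd (Fintype.card F) ∧ ∃ D : Fin 2 → Submodule F (Fin 4 ⊕ Fin 4 → F), Cfsg.Geo.IsMDecomposition 4 D ∧ (∀ i, Cfsg.Geo.IsTotallySingularFor (Cfsg.sympForm 4 F) (D i)) ∧ H = Cfsg.Geo.decompositionStabilizer D ⊓ Cfsg.spGL 4 F) ∨
    (∃ K : Subalgebra F (Matrix (Fin 4 ⊕ Fin 4) (Fin 4 ⊕ Fin 4) F), Cfsg.Geo.IsFieldSubalgebra 2 K ∧ Cfsg.Geo.IsSelfAdjointFor (Cfsg.sympForm 4 F) K ∧ (∀ k ∈ K, ∀ v : (Fin 4 ⊕ Fin 4 → F), (Cfsg.sympForm 4 F) (Matrix.mulVec k v) v = 0) ∧ H = Cfsg.Geo.subalgebraNormalizer K ⊓ Cfsg.spGL 4 F) ∨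
    (Odd (Fintype.card F) ∧ ∃ K : Subalgebra F (Matrix (Fin 4 ⊕ Fin 4) (Fin 4 ⊕ Fin 4) F), Cfsg.Geo.IsFieldSubalgebra 2 K ∧ Cfsg.Geo.IsAdjointClosedFor (Cfsg.sympForm 4 F) K ∧ ¬ Cfsg.Geo.IsSelfAdjointFor (Cfsg.sympForm 4 F) K ∧ H = Cfsg.Geo.subalgebraNormalizer K ⊓ Cfsg.spGL 4 F) ∨
    (Odd (Fintype.card F) ∧ ∃ (e : (Fin 4 ⊕ Fin 4) ≃ Fin 2 × Fin 4) (P : Matrix.GeneralLinearGroup (Fin 4 ⊕ Fin 4) F) (f₁ : (Fin 2 → F) → (Fin 2 → F) → F) (f₂ : (Fin 4 → F) → (Fin 4 → F) → F), Cfsg.Geo.IsSymplecticForm f₁ ∧ Cfsg.Geo.IsSymmetricForm f₂ ∧ ¬ Cfsg.Geo.IsPlusTypeOn (fun v : Fin 4 → F => f₂ v v) ⊤ ∧ Cfsg.Geo.IsTensorFormStructure id (Cfsg.sympForm 4 F) f₁ f₂ e P ∧ H = Cfsg.Geo.tensorProductSubgroup 2 4 e P ⊓ Cfsg.spGL 4 F) ∨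
    (∃ (F₀ : Subfield F) (r : ℕ) (P : Matrix.GeneralLinearGroup (Fin 4 ⊕ Fin 4) F) (ζ : F), r.Prime ∧ Fintype.card F = Nat.card F₀ ^ r ∧ ζ ≠ 0 ∧ Cfsg.Geo.IsFormRationalStructure (Cfsg.sympForm 4 F) F₀ ζ P ∧ H = Cfsg.Geo.subfieldSubgroup F₀ P ⊓ Cfsg.spGL 4 F) ∨
    (∃ (p : ℕ) (R : Subgroup (Matrix.GeneralLinearGroup (Fin 4 ⊕ Fin 4) F)), p.Prime ∧ Odd p ∧ Fintype.card F = p ∧ Cfsg.Geo.IsSymplecticTypeGroup 2 R ∧ Cfsg.Geo.ActsAbsolutelyIrreducibly (Cfsg.Geo.matrixSet R) ∧ R ≤ Cfsg.Geo.similarityGroup (Cfsg.sympForm 4 F) ∧ Nat.card R = 128 ∧ Nat.card (Subgroup.center R) = 2 ∧ Cfsg.Geo.IsOfMinusType 3 R ∧ H = Cfsg.Geo.subgroupNormalizer R ⊓ Cfsg.spGL 4 F) ∨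
    (Odd (Fintype.card F) ∧ 5 ≤ Fintype.card F ∧ ∃ (e : (Fin 4 ⊕ Fin 4) ≃ (Fin 3 → Fin 2)) (P : Matrix.GeneralLinearGroup (Fin 4 ⊕ Fin 4) F) (f₁ : (Fin 2 → F) → (Fin 2 → F) → F), Cfsg.Geo.IsSymplecticForm f₁ ∧ Cfsg.Geo.IsTensorPowerFormStructure id (Cfsg.sympForm 4 F) f₁ e P ∧ H = Cfsg.Geo.tensorWreathSubgroup 2 3 e P ⊓ Cfsg.spGL 4 F) ∨
    (¬ Odd (Fintype.card F) ∧ ∃ Q : (Fin 4 ⊕ Fin 4 → F) → F, Cfsg.Geo.IsNondegenerateQuadraticForm Q ∧ (∀ u v : (Fin 4 ⊕ Fin 4 → F), QuadraticMap.polar Q u v = (Cfsg.sympForm 4 F) u v) ∧ H = Cfsg.Geo.quadSimilarityGroup Q ⊓ Cfsg.spGL 4 F) ∨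
    Cfsg.Geo.InSymplecticResidualClass H := by
  have hex : ¬ ((4 : ℕ) = 2 ∧ Fintype.card F = 2) := by
    rintro ⟨h, -⟩; omega
  have h6 : ∀ (R : Subgroup (GL (Fin 4 ⊕ Fin 4) F)) (p k : ℕ), IsClass6 4 F R p k →
      ¬ Cfsg.spGL 4 F ≤ subgroupNormalizer R :=
    fun R p k h => Cfsg.Agent.Lib.Helper30_SpC6.not_le_subgroupNormalizer (by norm_num) h
  rcases max_cases (by norm_num) hex hA h6 hH with hM | hres
  swap
  · exact Or.inr (Or.inr (Or.inr (Or.inr (Or.inr (Or.inr (Or.inr (Or.inr (Or.inr (Or.inr (Or.inr (Or.inr hres)))))))))))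
  rcases hM with (⟨W, hW0, hWs, hMX⟩ | ⟨W, hW0, hWn, hWr, hMX⟩ | ⟨t, k, D, hD, hMX⟩ | ⟨D, hodd, hD, hDs, hMX⟩ |
      ⟨F₀, r, P, ζ, hr, hcard, hζ, hrat, hMX⟩ | ⟨R, p, k, h1, h2, h3, h4', h5, h6', h7, h8, h9, hMX⟩ |
      ⟨Q, heven', hQ, hpol, hMX⟩) |
    ⟨r, K, hr, hK, hsa, hkv, hMX⟩ | ⟨K, hodd, hK, hac, hnsa, hMX⟩ |
    ⟨n₁, n₂, e, P, f₁, f₂, hodd, hn₂, hf₁, hf₂, hT, hMX⟩ | ⟨k, t, e, P, f₁, hodd, htodd, ht, hne32, hf₁, hT, hMX⟩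
  · exact Or.inl ⟨W, hW0, hWs, hMX⟩
  · exact Or.inr (Or.inl ⟨W, hW0, hWn, hWr, hMX⟩)
  · -- decompositions into non-degenerate subspaces
    have hc := decomp_card hD.decomp
    obtain ⟨a, ha⟩ := decomp_even hD
    have hk := hD.decomp.pos
    have ht := hD.decomp.two_le
    have hta : t * a = 4 := by rw [ha] at hc; nlinarith
    have ha2 : a ≤ 2 := by nlinarith
    have ha0 : 0 < a := by omega
    interval_cases a
    · have hk2 : k = 2 := by omega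
      have ht4 : t = 4 := by omega
      subst hk2 ht4
      by_cases hq : 3 ≤ Fintype.card F
      · exact Or.inr (Or.inr (Or.inl ⟨hq, D, hD, hMX⟩))
      · obtain ⟨hev, Q, hQ, hpol, hHQ⟩ := decomp_two_case (by norm_num) hq hD hH hMX
        exact Or.inr (Or.inr (Or.inr (Or.inr (Or.inr (Or.inr (Or.inr (Or.inr (Or.inr (Or.inr (Or.inr (Or.inl ⟨hev, Q, hQ, hpol, hHQ⟩)))))))))))
    · have hk4 : k = 4 := by omega
      have ht2 : t = 2 := by omega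
      subst hk4 ht2
      exact Or.inr (Or.inr (Or.inr (Or.inl ⟨D, hD, hMX⟩)))
  · exact Or.inr (Or.inr (Or.inr (Or.inr (Or.inl ⟨hodd, D, hD, hDs, hMX⟩))))
  · exact Or.inr (Or.inr (Or.inr (Or.inr (Or.inr (Or.inr (Or.inr (Or.inr (Or.inl ⟨F₀, r, P, ζ, hr, hcard, hζ, hrat, hMX⟩))))))))
  · -- class 6
    have hd := class6_dim (by norm_num) ⟨h1, h2, h3, h4', h5, h6', h7, h8, h9⟩
    have hk3 : k = 3 := by
      have hk : k < 4 := by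
        by_contra hk
        push Not at hk
        have : 2 ^ 4 ≤ 2 ^ k := Nat.pow_le_pow_right (by norm_num) hk
        omega
      interval_cases k <;> omega
    subst hk3
    exact Or.inr (Or.inr (Or.inr (Or.inr (Or.inr (Or.inr (Or.inr (Or.inr (Or.inr (Or.inl
      ⟨p, R, h4', h5, h6', h1, h2, h3, by rw [h7]; norm_num, h8, h9, hMX⟩)))))))))
  · exact Or.inr (Or.inr (Or.inr (Or.inr (Or.inr (Or.inr (Or.inr (Or.inr (Or.inr (Or.inr (Or.inr (Or.inl ⟨heven', Q, hQ, hpol, hMX⟩)))))))))))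
  · -- field extensions, self-adjoint
    have hdvd := fieldSubalgebra_selfAdjoint_dvd (by norm_num) hK hsa hkv
    have hr4 : r ≤ 4 := Nat.le_of_dvd (by norm_num) hdvd
    have hr2 := hr.two_le
    interval_cases r
    · exact Or.inr (Or.inr (Or.inr (Or.inr (Or.inr (Or.inl ⟨K, hK, hsa, hkv, hMX⟩)))))
    · omega
    · exact absurd hr (by decide)
  · exact Or.inr (Or.inr (Or.inr (Or.inr (Or.inr (Or.inr (Or.inl ⟨hodd, K, hK, hac, hnsa, hMX⟩))))))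
  · -- tensor products
    have hc := tensor_card e
    obtain ⟨a, ha⟩ := even_of_isSymplecticForm hf₁
    have han : a * n₂ = 4 := by rw [ha] at hc; nlinarith
    have ha1 : a ≤ 1 := by nlinarith
    have ha0 : 0 < a := by
      rcases Nat.eq_zero_or_pos a with h | h
      · subst h; omega
      · exact h
    have ha1' : a = 1 := by omega
    subst ha1'
    have hn1 : n₁ = 2 := by omega
    have hn2 : n₂ = 4 := by omega
    subst hn1 hn2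
    by_cases hplus : IsPlusTypeOn (fun v : Fin 4 → F => f₂ v v) ⊤
    · exact (Cfsg.Agent.Lib.Helper51_Sp8.tensor_plus_case hodd e P f₁ f₂ hf₁ hf₂ hplus hT hH hMX).elim
    · exact Or.inr (Or.inr (Or.inr (Or.inr (Or.inr (Or.inr (Or.inr (Or.inl
        ⟨hodd, e, P, f₁, f₂, hf₁, hf₂, hplus, hT, hMX⟩)))))))
  · -- tensor powers
    have hc := wreath_card e
    obtain ⟨a, ha⟩ := even_of_isSymplecticForm hf₁
    have hk2 : k = 2 := by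
      have ha0 : a ≠ 0 := by
        rintro rfl
        rw [ha, zero_add, zero_pow (by omega)] at hc
        omega
      by_contra hk
      have h4 : 4 ≤ k := by omega
      have h64 : 4 ^ 3 ≤ k ^ t :=
        (Nat.pow_le_pow_left h4 3).trans (Nat.pow_le_pow_right (by omega) ht)
      omega
    subst hk2
    have ht3 : t = 3 := by
      have ht4 : t < 4 := by
        by_contra h
        push Not at h
        have : 2 ^ 4 ≤ 2 ^ t := Nat.pow_le_pow_right (by norm_num) h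
        omega
      omega
    subst ht3
    have hq5 : 5 ≤ Fintype.card F := by
      have h1 := Fintype.one_lt_card (α := F)
      obtain ⟨b, hb⟩ := hodd
      have h3 : Fintype.card F ≠ 3 := fun h => hne32 ⟨h, rfl⟩
      omega
    exact Or.inr (Or.inr (Or.inr (Or.inr (Or.inr (Or.inr (Or.inr (Or.inr (Or.inr (Or.inr (Or.inl
      ⟨hodd, hq5, e, P, f₁, hf₁, hT, hMX⟩))))))))))

end Cfsg.Agent.Lib.Helper51_Sp8Rows
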