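import Mathlib
import Cfsg.Agent.Lib.Helper92_TTDefs
import Cfsg.Agent.Lib.Helper31_TT_M1a
import Cfsg.Agent.Lib.Helper70_TT_M3
import Cfsg.Agent.Lib.Helper2_TT_M4
import Cfsg.Agent.Lib.Helper2_TT_M6

/-!
# S5559 package TT-M7 (helper77 for helper92): `image_cyclic`

For `i` inverted by `t` with all commutators `[i, x]` (`x ∈ P`) central in `P`, and `j, k` inverted,
one of `[i,j]`, `[i,k]`, `[i,j][i,k]`, `[i,j][i,k]^2` is trivial.
-/

set_option autoImplicit false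
set_option linter.unusedSectionVars false

namespace Cfsg.Agent.Lib.Helper77_TT_M7

open Cfsg.Agent.Lib.Helper92_TTDefs Cfsg.Agent.Lib.Helper31_TT_M1a

variable {K W : Type*} [Group K] [Group W] [Finite K] [Finite W]
  {rho : K →* MulAut W} {P : Subgroup K} {t : K}

/-- the commutator map `x ↦ i x i⁻¹ x⁻¹` is multiplicative on `P` when its values are central -/
theorem phi_mul {i : K}
    (hic : ∀ x ∈ P, ∀ y ∈ P, (i * x * i⁻¹ * x⁻¹) * y = y * (i * x * i⁻¹ * x⁻¹))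
    {x y : K} (hx : x ∈ P) (hy : y ∈ P) :
    i * (x * y) * i⁻¹ * (x * y)⁻¹ = (i * x * i⁻¹ * x⁻¹) * (i * y * i⁻¹ * y⁻¹) := by
  have h1 := hic y hy x⁻¹ (P.inv_mem hx)
  calc i * (x * y) * i⁻¹ * (x * y)⁻¹
      = i * x * i⁻¹ * ((i * y * i⁻¹ * y⁻¹) * x⁻¹) := by group
    _ = i * x * i⁻¹ * (x⁻¹ * (i * y * i⁻¹ * y⁻¹)) := by rw [h1]
    _ = _ := by group

theorem phi_inv {i : K}
    (hic : ∀ x ∈ P, ∀ y ∈ P, (i * x * i⁻¹ * x⁻¹) * y = y * (i * x * i⁻¹ * x⁻¹))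
    {x : K} (hx : x ∈ P) :
    i * x⁻¹ * i⁻¹ * (x⁻¹)⁻¹ = (i * x * i⁻¹ * x⁻¹)⁻¹ := by
  have h1 := phi_mul hic hx (P.inv_mem hx)
  have h2 : i * (x * x⁻¹) * i⁻¹ * (x * x⁻¹)⁻¹ = 1 := by group
  rw [h2] at h1
  exact (inv_eq_of_mul_eq_one_right h1.symm).symm

theorem phi_cube {i : K}
    (hic : ∀ x ∈ P, ∀ y ∈ P, (i * x * i⁻¹ * x⁻¹) * y = y * (i * x * i⁻¹ * x⁻¹))
    {x : K} (hx : x ∈ P) (hx3 : x ^ 3 = 1) :
    (i * x * i⁻¹ * x⁻¹) * (i * x * i⁻¹ * x⁻¹) * (i * x * i⁻¹ * x⁻¹) = 1 := by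
  have h1 := phi_mul hic hx hx
  have h2 := phi_mul hic (P.mul_mem hx hx) hx
  have h3 : x * x * x = 1 := by rw [← hx3, pow_three']
  rw [h3, h1] at h2
  rw [← h2]; group

theorem rho_two (rho : K →* MulAut W) (a b : K) (w : W) : rho a (rho b w) = rho (a * b) w := by
  rw [map_mul, MulAut.mul_apply]

theorem rho_three (rho : K →* MulAut W) (a b c : K) (w : W) :
    rho a (rho b (rho c w)) = rho (a * b * c) w := by
  rw [map_mul, map_mul, MulAut.mul_apply, MulAut.mul_apply]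

/-- fixed points of an automorphism, as a subgroup -/
def fixSub (f : MulAut W) : Subgroup W where
  carrier := {w | f w = w}
  mul_mem' := by
    intro a b ha hb
    simp only [Set.mem_ofPred_eq] at *
    rw [map_mul, ha, hb]
  one_mem' := map_one f
  inv_mem' := by
    intro a ha
    simp only [Set.mem_ofPred_eq] at *
    rw [map_inv, ha]

theorem mem_fixSub {f : MulAut W} {w : W} : w ∈ fixSub f ↔ f w = w := Iff.rfl

/-- an element of the centre of `P` fixed by `t` is central in `K` -/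
theorem central_K (h : Hyp rho P t) {z : K} (hzc : ∀ y ∈ P, z * y = y * z)
    (hzt : t * z * t = z) (g : K) : z * g = g * z := by
  have htz : z * t = t * z := by
    have : t * (t * z * t) = t * z := by rw [hzt]
    rw [← this]
    have hs := h.sq
    calc z * t = (t * t) * z * t := by rw [hs, one_mul]
      _ = _ := by group
  by_cases hg : g ∈ P
  · exact hzc g hg
  · have htg : t * g ∈ P := by
      rw [Subgroup.mul_mem_iff_of_index_two h.index]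
      exact ⟨fun ht => absurd ht h.notMem, fun hg' => absurd hg' hg⟩
    have h1 := hzc (t * g) htg
    have h2 : g = t * (t * g) := by rw [← mul_assoc, h.sq, one_mul]
    rw [h2]
    calc z * (t * (t * g)) = (z * t) * (t * g) := by group
      _ = (t * z) * (t * g) := by rw [htz]
      _ = t * (z * (t * g)) := by group
      _ = t * ((t * g) * z) := by rw [h1]
      _ = _ := by group

/-- the step: fixed points of a non-trivial central `y = [i, b]` are fixed by `t` -/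
theorem fix_le (h : Hyp rho P t) {i b y : K} (hi : i ∈ Inv P t) (hb : b ∈ Inv P t) (hi1 : i ≠ 1)
    (hyc : ∀ g : K, y * g = g * y) (hy1 : y ≠ 1) (hy : i * b * i⁻¹ * b⁻¹ = y) :
    ∀ w : W, rho y w = w → rho t w = w := by
  have hN : ∀ g : K, ∀ w ∈ fixSub (rho y), rho g w ∈ fixSub (rho y) := by
    intro g w hw
    rw [mem_fixSub] at hw ⊢
    calc rho y (rho g w) = rho (y * g) w := by rw [map_mul, MulAut.mul_apply]
      _ = rho (g * y) w := by rw [hyc g]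
      _ = rho g (rho y w) := by rw [map_mul, MulAut.mul_apply]
      _ = rho g w := by rw [hw]
  have hib : i * b = y * b * i := by rw [← hy]; group
  have hab : ∀ w ∈ fixSub (rho y), rho i (rho b w) = rho b (rho i w) := by
    intro w hw
    have h1 : rho b (rho i w) ∈ fixSub (rho y) := hN b _ (hN i w hw)
    rw [mem_fixSub] at h1
    calc rho i (rho b w) = rho (i * b) w := by rw [map_mul, MulAut.mul_apply]
      _ = rho (y * b * i) w := by rw [hib]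
      _ = rho y (rho b (rho i w)) := by
          rw [map_mul, map_mul, MulAut.mul_apply, MulAut.mul_apply]
      _ = rho b (rho i w) := h1
  have hb1 : b ≠ 1 := by
    rintro rfl
    apply hy1; rw [← hy]; group
  have h3 : b⁻¹ * i * b⁻¹ ≠ 1 := by
    intro h3
    have : i = b * b := by
      calc i = b * (b⁻¹ * i * b⁻¹) * b := by group
        _ = b * b := by rw [h3, mul_one]
    apply hy1; rw [← hy, this]; group
  have h4 : b * i * b ≠ 1 := by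
    intro h4
    have : i = b⁻¹ * b⁻¹ := by
      calc i = b⁻¹ * (b * i * b) * b⁻¹ := by group
        _ = b⁻¹ * b⁻¹ := by rw [h4, mul_one]
    apply hy1; rw [← hy, this]; group
  intro w hw
  exact Cfsg.Agent.Lib.Helper2_TT_M4.key h (fixSub (rho y)) hN hi hb hab hi1 hb1 h3 h4 w hw

/-- **TT-M7**. -/
theorem image_cyclic (h : Hyp rho P t) (hnc : ¬ ∀ x ∈ P, ∀ y ∈ P, x * y = y * x) {i j k : K}
    (hi : i ∈ Inv P t) (hj : j ∈ Inv P t) (hk : k ∈ Inv P t) (hi1 : i ≠ 1)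
    (hic : ∀ x ∈ P, ∀ y ∈ P, (i * x * i⁻¹ * x⁻¹) * y = y * (i * x * i⁻¹ * x⁻¹)) :
    i * j * i⁻¹ * j⁻¹ = 1 ∨ i * k * i⁻¹ * k⁻¹ = 1 ∨
      (i * j * i⁻¹ * j⁻¹) * (i * k * i⁻¹ * k⁻¹) = 1 ∨
      (i * j * i⁻¹ * j⁻¹) * (i * k * i⁻¹ * k⁻¹) * (i * k * i⁻¹ * k⁻¹) = 1 := by
  by_contra hcon
  push Not at hcon
  obtain ⟨hz1, hz2, hz12, hz122⟩ := hcon
  have hiP : i ∈ P := hi.1
  have hjP : j ∈ P := hj.1
  have hkP : k ∈ P := hk.1
  have hz1P : i * j * i⁻¹ * j⁻¹ ∈ P :=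
    P.mul_mem (P.mul_mem (P.mul_mem hiP hjP) (P.inv_mem hiP)) (P.inv_mem hjP)
  have hz2P : i * k * i⁻¹ * k⁻¹ ∈ P :=
    P.mul_mem (P.mul_mem (P.mul_mem hiP hkP) (P.inv_mem hiP)) (P.inv_mem hkP)
  have hc1 : ∀ g : K, (i * j * i⁻¹ * j⁻¹) * g = g * (i * j * i⁻¹ * j⁻¹) :=
    central_K h (hic j hjP) (Cfsg.Agent.Lib.Helper2_TT_M6.center_fixed h hnc hz1P (hic j hjP))
  have hc2 : ∀ g : K, (i * k * i⁻¹ * k⁻¹) * g = g * (i * k * i⁻¹ * k⁻¹) :=
    central_K h (hic k hkP) (Cfsg.Agent.Lib.Helper2_TT_M6.center_fixed h hnc hz2P (hic k hkP))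
  have h13 := phi_cube hic hjP (cube_of_mem h hj)
  have h23 := phi_cube hic hkP (cube_of_mem h hk)
  -- the inverted elements realising `z1 z2` and `z1 z2^2`
  have hb3 : k⁻¹ * j * k⁻¹ ∈ Inv P t := by
    have := tri_mem_Inv h (inv_mem_Inv h hk) (inv_mem_Inv h hj)
    simpa using this
  have hb4 : k * j * k ∈ Inv P t := by
    have := tri_mem_Inv h hk (inv_mem_Inv h hj)
    simpa using this
  have hkinv : i * k⁻¹ * i⁻¹ * (k⁻¹)⁻¹ = (i * k * i⁻¹ * k⁻¹)⁻¹ := phi_inv hic hkP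
  have hz2inv : (i * k * i⁻¹ * k⁻¹)⁻¹ = (i * k * i⁻¹ * k⁻¹) * (i * k * i⁻¹ * k⁻¹) :=
    inv_eq_of_mul_eq_one_right (by rw [← h23]; group)
  have hphi3 : i * (k⁻¹ * j * k⁻¹) * i⁻¹ * (k⁻¹ * j * k⁻¹)⁻¹ =
      (i * j * i⁻¹ * j⁻¹) * (i * k * i⁻¹ * k⁻¹) := by
    rw [phi_mul hic (P.mul_mem (P.inv_mem hkP) hjP) (P.inv_mem hkP),
      phi_mul hic (P.inv_mem hkP) hjP, hkinv]
    -- z2⁻¹ * z1 * z2⁻¹ = z1 * z2
    have e1 : (i * k * i⁻¹ * k⁻¹)⁻¹ * (i * j * i⁻¹ * j⁻¹) =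
        (i * j * i⁻¹ * j⁻¹) * (i * k * i⁻¹ * k⁻¹)⁻¹ := (hc1 _).symm
    rw [e1, mul_assoc, hz2inv]
    have : (i * k * i⁻¹ * k⁻¹) * (i * k * i⁻¹ * k⁻¹) *
        ((i * k * i⁻¹ * k⁻¹) * (i * k * i⁻¹ * k⁻¹)) =
        (i * k * i⁻¹ * k⁻¹) * ((i * k * i⁻¹ * k⁻¹) * (i * k * i⁻¹ * k⁻¹) *
          (i * k * i⁻¹ * k⁻¹)) := by group
    rw [this, h23, mul_one]
  have hphi4 : i * (k * j * k) * i⁻¹ * (k * j * k)⁻¹ =
      (i * j * i⁻¹ * j⁻¹) * (i * k * i⁻¹ * k⁻¹) * (i * k * i⁻¹ * k⁻¹) := by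
    rw [phi_mul hic (P.mul_mem hkP hjP) hkP, phi_mul hic hkP hjP]
    rw [(hc1 _).symm]
  -- the four inclusions
  have f1 := fix_le h hi hj hi1 hc1 hz1 rfl
  have f2 := fix_le h hi hk hi1 hc2 hz2 rfl
  have hc12 : ∀ g : K, ((i * j * i⁻¹ * j⁻¹) * (i * k * i⁻¹ * k⁻¹)) * g =
      g * ((i * j * i⁻¹ * j⁻¹) * (i * k * i⁻¹ * k⁻¹)) := by
    intro g
    rw [mul_assoc, hc2 g, ← mul_assoc, hc1 g, mul_assoc]
  have hc122 : ∀ g : K,
      ((i * j * i⁻¹ * j⁻¹) * (i * k * i⁻¹ * k⁻¹) * (i * k * i⁻¹ * k⁻¹)) * g =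
      g * ((i * j * i⁻¹ * j⁻¹) * (i * k * i⁻¹ * k⁻¹) * (i * k * i⁻¹ * k⁻¹)) := by
    intro g
    rw [mul_assoc, hc2 g, ← mul_assoc, hc12 g, mul_assoc]
  have f3 := fix_le h hi hb3 hi1 hc12 hz12 hphi3
  have f4 := fix_le h hi hb4 hi1 hc122 hz122 hphi4
  -- apply `gen_fix`
  have htop : (⊤ : Subgroup W) ≤ fixSub (rho t) := by
    refine Cfsg.Agent.Lib.Helper70_TT_M3.gen_fix h.comm h.two (rho (i * j * i⁻¹ * j⁻¹)) (rho (i * k * i⁻¹ * k⁻¹)) ⊤
      (fixSub (rho t)) (fun _ _ => Subgroup.mem_top _) (fun _ _ => Subgroup.mem_top _)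
      ?_ ?_ ?_ ?_ ?_ ?_ ?_
    · intro w _
      rw [rho_two, rho_two, hc1]
    · intro w _
      rw [rho_three, h13, map_one, MulAut.one_apply]
    · intro w _
      rw [rho_three, h23, map_one, MulAut.one_apply]
    · intro w _ hw
      exact f1 w hw
    · intro w _ hw
      exact f2 w hw
    · intro w _ hw
      apply f3 w
      rw [← rho_two]; exact hw
    · intro w _ hw
      apply f4 w
      rw [← rho_three]; exact hw
  have ht1 : rho t = 1 := by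
    ext w
    exact htop (Subgroup.mem_top w)
  have : t = 1 := h.inj (by rw [ht1, map_one])
  exact h.notMem (this ▸ P.one_mem)

end Cfsg.Agent.Lib.Helper77_TT_M7
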