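import Mathlib
import Cfsg.Agent.Lib.Helper92_TTDefs
import Cfsg.Agent.Lib.Helper31_TT_M1a
import Cfsg.Agent.Lib.Helper31_TT_M1b
import Cfsg.Agent.Lib.Helper2_TT_M4
import Cfsg.Agent.Lib.Helper2_TT_M6
import Cfsg.Agent.Lib.Helper77_TT_M7

/-!
# S5559 package TT-M8 (helper51, architect helper92): in the non-abelian case `P` is generated by
two inverted elements
-/

set_option autoImplicit false
set_option linter.unusedSectionVars false

namespace Cfsg.Agent.Lib.Helper51_TT_M8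

open Cfsg.Agent.Lib.Helper92_TTDefs Cfsg.Agent.Lib.Helper31_TT_M1a Cfsg.Agent.Lib.Helper31_TT_M1b
open Cfsg.Agent.Lib.Helper2_TT_M4

section abstract

variable {K W : Type*} [Group K] [Group W] [Finite K] [Finite W]
  {rho : K →* MulAut W} {P : Subgroup K} {t : K}

/-- if two inverted elements `j'`, `k` have the same commutator with the inverted element `i ≠ 1`,
then `k` lies in the group generated by `i` and `j'` -/
theorem mem_closure_of_comm_eq (h : Hyp rho P t) {i j' k : K} (hi : i ∈ Inv P t)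
    (hj : j' ∈ Inv P t) (hk : k ∈ Inv P t) (hi1 : i ≠ 1)
    (he : i * k * i⁻¹ * k⁻¹ = i * j' * i⁻¹ * j'⁻¹) : k ∈ Subgroup.closure {i, j'} := by
  have hsq := h.sq
  have hiS : i ∈ Subgroup.closure ({i, j'} : Set K) := Subgroup.subset_closure (by simp)
  have hjS : j' ∈ Subgroup.closure ({i, j'} : Set K) := Subgroup.subset_closure (by simp)
  -- `x = j'⁻¹ k` commutes with `i`
  have hik : i * k * i⁻¹ = (i * j' * i⁻¹ * j'⁻¹) * k := by
    rw [← he]; group
  have hij : i * j' * i⁻¹ = (i * j' * i⁻¹ * j'⁻¹) * j' := by group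
  have hx : i * (j'⁻¹ * k) * i⁻¹ = j'⁻¹ * k := by
    have : i * (j'⁻¹ * k) * i⁻¹ = (i * j' * i⁻¹)⁻¹ * (i * k * i⁻¹) := by group
    rw [this, hik, hij]; group
  have hxP : j'⁻¹ * k ∈ P := P.mul_mem (P.inv_mem hj.1) hk.1
  -- the inverted part of `x`
  have heI : (j'⁻¹ * k)⁻¹ * (t * (j'⁻¹ * k) * t) ∈ Inv P t := part_mem_Inv h hxP
  have htx : t * (j'⁻¹ * k) * t = j' * k⁻¹ := by
    have h1 : t * (j'⁻¹ * k) * t = (t * j'⁻¹ * t) * (t * k * t) := by
      calc t * (j'⁻¹ * k) * t = t * j'⁻¹ * (t * t) * k * t := by rw [hsq]; group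
        _ = (t * j'⁻¹ * t) * (t * k * t) := by group
    rw [h1, conj_inv_of_mem h hj, hk.2]
  rw [htx] at heI
  -- `t i t = i⁻¹`, so conjugation by `i` fixes `t x t`
  have hit : i * t = t * i⁻¹ := by
    have := hi.2
    calc i * t = (t * t) * i * t := by rw [hsq, one_mul]
      _ = t * (t * i * t) := by group
      _ = t * i⁻¹ := by rw [this]
  have hit' : t * i⁻¹ = i * t := hit.symm
  have hx' : i⁻¹ * (j'⁻¹ * k) * i = j'⁻¹ * k := by
    have : i⁻¹ * (j'⁻¹ * k) * i = i⁻¹ * (i * (j'⁻¹ * k) * i⁻¹) * i := by rw [hx]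
    rw [this]; group
  have htx' : i * (j' * k⁻¹) * i⁻¹ = j' * k⁻¹ := by
    rw [← htx]
    calc i * (t * (j'⁻¹ * k) * t) * i⁻¹ = (i * t) * (j'⁻¹ * k) * (t * i⁻¹) := by group
      _ = (t * i⁻¹) * (j'⁻¹ * k) * (i * t) := by rw [hit, hit']
      _ = t * (i⁻¹ * (j'⁻¹ * k) * i) * t := by group
      _ = t * (j'⁻¹ * k) * t := by rw [hx']
  have hecomm : i * ((j'⁻¹ * k)⁻¹ * (j' * k⁻¹)) = ((j'⁻¹ * k)⁻¹ * (j' * k⁻¹)) * i := by
    have : i * ((j'⁻¹ * k)⁻¹ * (j' * k⁻¹)) * i⁻¹ = (j'⁻¹ * k)⁻¹ * (j' * k⁻¹) := by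
      calc i * ((j'⁻¹ * k)⁻¹ * (j' * k⁻¹)) * i⁻¹
          = (i * (j'⁻¹ * k) * i⁻¹)⁻¹ * (i * (j' * k⁻¹) * i⁻¹) := by group
        _ = (j'⁻¹ * k)⁻¹ * (j' * k⁻¹) := by rw [hx, htx']
    calc i * ((j'⁻¹ * k)⁻¹ * (j' * k⁻¹))
        = (i * ((j'⁻¹ * k)⁻¹ * (j' * k⁻¹)) * i⁻¹) * i := by group
      _ = ((j'⁻¹ * k)⁻¹ * (j' * k⁻¹)) * i := by rw [this]
  have heS : (j'⁻¹ * k)⁻¹ * (j' * k⁻¹) ∈ Subgroup.closure ({i, j'} : Set K) := by
    rcases comm_cases h hi heI hi1 hecomm with h1 | h1 | h1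
    · rw [h1]; exact Subgroup.one_mem _
    · rw [h1]; exact hiS
    · rw [h1]; exact Subgroup.inv_mem _ hiS
  -- `(k⁻¹ j'⁻¹)^3 = 1`
  have hc := cube_mul h hk (inv_mem_Inv h hj)
  have hj3 := cube_of_mem h hj
  have hkeq : k = j'⁻¹ * ((j'⁻¹ * k)⁻¹ * (j' * k⁻¹)) * j'⁻¹ := by
    have hjj : j' * j' = j'⁻¹ := by
      have : j' * j' * j' = 1 := by rw [← hj3, pow_three']
      calc j' * j' = (j' * j' * j') * j'⁻¹ := by group
        _ = j'⁻¹ := by rw [this, one_mul]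
    have h3 : k⁻¹ * j'⁻¹ * (k⁻¹ * j'⁻¹) * (k⁻¹ * j'⁻¹) = 1 := by
      rw [← hc, pow_three']
    have h4 : (j'⁻¹ * k)⁻¹ * (j' * k⁻¹) = k⁻¹ * j'⁻¹ * k⁻¹ := by
      calc (j'⁻¹ * k)⁻¹ * (j' * k⁻¹) = k⁻¹ * (j' * j') * k⁻¹ := by group
        _ = k⁻¹ * j'⁻¹ * k⁻¹ := by rw [hjj]
    rw [h4]
    calc k = k * (k⁻¹ * j'⁻¹ * (k⁻¹ * j'⁻¹) * (k⁻¹ * j'⁻¹)) := by rw [h3, mul_one]
      _ = j'⁻¹ * (k⁻¹ * j'⁻¹ * k⁻¹) * j'⁻¹ := by group
  rw [hkeq]
  exact Subgroup.mul_mem _ (Subgroup.mul_mem _ (Subgroup.inv_mem _ hjS) heS)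
    (Subgroup.inv_mem _ hjS)

/-- `gen_two` with the statements of TT-M6 (`exists_second_center`) and TT-M7 (`image_cyclic`) as
hypotheses -/
theorem gen_two_of (h : Hyp rho P t) (hnc : ¬ ∀ x ∈ P, ∀ y ∈ P, x * y = y * x)
    (exists_second_center : ∃ i ∈ Inv P t, (∃ y ∈ P, i * y ≠ y * i) ∧
      ∀ x ∈ P, ∀ y ∈ P, (i * x * i⁻¹ * x⁻¹) * y = y * (i * x * i⁻¹ * x⁻¹))
    (image_cyclic : ∀ {i j k : K}, i ∈ Inv P t → j ∈ Inv P t → k ∈ Inv P t → i ≠ 1 →
      (∀ x ∈ P, ∀ y ∈ P, (i * x * i⁻¹ * x⁻¹) * y = y * (i * x * i⁻¹ * x⁻¹)) →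
      (i * j * i⁻¹ * j⁻¹ = 1 ∨ i * k * i⁻¹ * k⁻¹ = 1 ∨
        (i * j * i⁻¹ * j⁻¹) * (i * k * i⁻¹ * k⁻¹) = 1 ∨
        (i * j * i⁻¹ * j⁻¹) * (i * k * i⁻¹ * k⁻¹) * (i * k * i⁻¹ * k⁻¹) = 1)) :
    ∃ i ∈ Inv P t, ∃ j ∈ Inv P t, Subgroup.closure {i, j} = P := by
  obtain ⟨i, hi, ⟨y, hyP, hy⟩, hic⟩ := exists_second_center
  have hi1 : i ≠ 1 := by
    rintro rfl
    exact hy (by simp)
  -- some inverted `j` does not commute with `i`
  have hj : ∃ j ∈ Inv P t, i * j * i⁻¹ * j⁻¹ ≠ 1 := by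
    by_contra hcon
    push Not at hcon
    have hle : Subgroup.closure (Inv P t) ≤ Subgroup.centralizer {i} := by
      rw [Subgroup.closure_le]
      intro a ha
      rw [SetLike.mem_coe, Subgroup.mem_centralizer_iff]
      intro g hg
      rw [Set.mem_singleton_iff] at hg
      subst hg
      have := hcon a ha
      calc g * a = (g * a * g⁻¹ * a⁻¹) * a * g := by group
        _ = a * g := by rw [this, one_mul]
    rw [closure_Inv h] at hle
    have := hle hyP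
    rw [Subgroup.mem_centralizer_iff] at this
    exact hy (this i rfl)
  obtain ⟨j, hj, hz⟩ := hj
  refine ⟨i, hi, j, hj, le_antisymm ?_ ?_⟩
  · rw [Subgroup.closure_le]
    intro a ha
    rcases ha with rfl | ha
    · exact hi.1
    · rw [Set.mem_singleton_iff] at ha
      subst ha
      exact hj.1
  · rw [← closure_Inv h, Subgroup.closure_le]
    intro k hk
    rw [SetLike.mem_coe]
    have hiS : i ∈ Subgroup.closure ({i, j} : Set K) := Subgroup.subset_closure (by simp)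
    have hjS : j ∈ Subgroup.closure ({i, j} : Set K) := Subgroup.subset_closure (by simp)
    -- the commutator `[i,k]` is central in `P` and has cube one
    have hk3 := cube_of_mem h hk
    set z := i * j * i⁻¹ * j⁻¹ with hzdef
    set y' := i * k * i⁻¹ * k⁻¹ with hydef
    have hyk : y' * k = k * y' := hic k hk.1 k hk.1
    have hy3 : y' ^ 3 = 1 := by
      have h1 : i * k * i⁻¹ = y' * k := by rw [hydef]; group
      have h2 : i * (k ^ 3) * i⁻¹ = (y' * k) ^ 3 := by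
        rw [← h1, pow_three', pow_three']; group
      have h3 : (y' * k) ^ 3 = y' ^ 3 * k ^ 3 := (Commute.mul_pow hyk 3)
      rw [h3, hk3] at h2
      calc y' ^ 3 = y' ^ 3 * 1 := (mul_one _).symm
        _ = i * 1 * i⁻¹ := h2.symm
        _ = 1 := by group
    rcases image_cyclic hi hj hk hi1 hic with h1 | h1 | h1 | h1
    · exact absurd h1 hz
    · -- `k` commutes with `i`
      have hle : Subgroup.closure ({i, 1} : Set K) ≤ Subgroup.closure ({i, j} : Set K) := by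
        rw [Subgroup.closure_le]
        intro a ha
        rcases ha with rfl | ha
        · exact hiS
        · rw [Set.mem_singleton_iff] at ha
          subst ha
          exact Subgroup.one_mem _
      refine hle (mem_closure_of_comm_eq h hi (one_mem_Inv h) hk hi1 ?_)
      rw [h1]; group
    · -- `[i,k] = z⁻¹ = [i, j⁻¹]`
      have hle : Subgroup.closure ({i, j⁻¹} : Set K) ≤ Subgroup.closure ({i, j} : Set K) := by
        rw [Subgroup.closure_le]
        intro a ha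
        rcases ha with rfl | ha
        · exact hiS
        · rw [Set.mem_singleton_iff] at ha
          subst ha
          exact Subgroup.inv_mem _ hjS
      refine hle (mem_closure_of_comm_eq h hi (inv_mem_Inv h hj) hk hi1 ?_)
      have hzj : z * j = j * z := hic j hj.1 j hj.1
      have hyz : y' = z⁻¹ := by
        calc y' = z⁻¹ * (z * y') := by group
          _ = z⁻¹ := by rw [h1, mul_one]
      have : i * j⁻¹ * i⁻¹ * j⁻¹⁻¹ = z⁻¹ := by
        calc i * j⁻¹ * i⁻¹ * j⁻¹⁻¹ = j⁻¹ * (i * j * i⁻¹ * j⁻¹)⁻¹ * j := by group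
          _ = j⁻¹ * z⁻¹ * j := by rw [hzdef]
          _ = (z * j)⁻¹ * j := by group
          _ = z⁻¹ := by rw [hzj]; group
      rw [this, ← hyz]
    · -- `[i,k] = z`
      refine mem_closure_of_comm_eq h hi hj hk hi1 ?_
      have : y' = z := by
        have h2 : y' * y' * y' = 1 := by rw [← hy3, pow_three']
        calc y' = (z * y' * y')⁻¹ * z * (y' * y' * y') := by group
          _ = z := by rw [h1, h2]; group
      rw [← hydef, this]

/-- **TT-M8**: in the non-abelian case `P` is generated by two inverted elements -/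
theorem gen_two (h : Hyp rho P t) (hnc : ¬ ∀ x ∈ P, ∀ y ∈ P, x * y = y * x) :
    ∃ i ∈ Inv P t, ∃ j ∈ Inv P t, Subgroup.closure {i, j} = P :=
  gen_two_of h hnc (Cfsg.Agent.Lib.Helper2_TT_M6.exists_second_center h hnc)
    (fun hi hj hk hi1 hic => Cfsg.Agent.Lib.Helper77_TT_M7.image_cyclic h hnc hi hj hk hi1 hic)

end abstract

end Cfsg.Agent.Lib.Helper51_TT_M8
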