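import Mathlib
import Cfsg.Agent.Lib.Helper65_U3Defs

/-!
# S2148: the concrete inputs from which `Dickson1 D` and `Dickson2 D` follow (helper51)

`SLBlock D Gt`: a covering group `Gt` (think `SU_3(q)`, `π : Gt →* G` the projection onto `PSU_3(q)`)
with a subgroup `S1` (think `SU(L0)`, `L0` the hyperbolic line spanned by `u`, `u'`) which embeds in
`SL(2,F)`, maps injectively to `G`, stabilises the block, and whose image contains the two root groups
`Z = Z_u` and `Z_{u'}`.  `Helper51_U3Bridge.dickson1_of_slBlock` deduces `Dickson1 D`.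

`BlockRep D Gt`: the stabiliser `St` of the block in `Gt` with its representation `ρ` by `2 × 2`
matrices on `L0` (square determinants; scalar exactly on the preimage of the pointwise stabiliser).
`Helper51_U3Bridge.dickson2_of_blockRep` deduces `Dickson2 D`.
-/

set_option autoImplicit false

namespace Cfsg.Agent.Lib.Helper51_U3BridgeDefs

open Cfsg.Agent.Lib.Helper65_U3Defs

variable {p q : ℕ} {F G U : Type*} [Field F] [Group G] [MulAction G U]

/-- Concrete input for `Dickson1`. -/
structure SLBlock (D : U3Data p q F G U) (Gt : Type*) [Group Gt] where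
  /-- the projection (`SU_3 → PSU_3`) -/
  π : Gt →* G
  /-- `SU(L0)` -/
  S1 : Subgroup Gt
  /-- the action on `L0` in the basis `e1, e3` -/
  φ : S1 →* Matrix.SpecialLinearGroup (Fin 2) F
  φ_inj : Function.Injective φ
  π_inj : ∀ s ∈ S1, π s = 1 → s = 1
  stab : ∀ s ∈ S1, ∀ w ∈ D.Blk, π s • w ∈ D.Blk
  Z_le : D.Z ≤ S1.map π
  /-- an element swapping `u` to `u'` (only `n • u = u'` is used) -/
  n : G
  n_u : n • D.u = D.u'
  Zn_le : D.Zat n ≤ S1.map π

/-- Concrete input for `Dickson2`. -/
structure BlockRep (D : U3Data p q F G U) (Gt : Type*) [Group Gt] where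
  /-- the projection (`SU_3 → PSU_3`) -/
  π : Gt →* G
  π_surj : Function.Surjective π
  /-- the stabiliser of `L0` -/
  St : Subgroup Gt
  mem_St : ∀ g : Gt, (∀ w ∈ D.Blk, π g • w ∈ D.Blk) → g ∈ St
  /-- the action on `L0` in the basis `e1, e3` -/
  ρ : St →* Matrix (Fin 2) (Fin 2) F
  det_sq : ∀ s : St, IsSquare (ρ s).det
  scalar_iff : ∀ s : St, (ρ s 0 1 = 0 ∧ ρ s 1 0 = 0 ∧ ρ s 0 0 = ρ s 1 1) ↔
    π (s : Gt) ∈ D.blkFix

end Cfsg.Agent.Lib.Helper51_U3BridgeDefs
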