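import Mathlib
import Cfsg.Agent.Lib.Helper50_DkOdd
import Cfsg.Agent.Lib.Helper50_DkEven

/-!
# Dickson corollary D1 for S2148 (helper51)

`D1`: a finite group `K` embedded in `SL(2,F)` (`F` finite of characteristic `p`) with exactly
`q + 1` Sylow `p`-subgroups (`q` a power of `p`), each of order `y` with `1 < y < q`, has
`p = 2 ∧ y = 2` or `q = 9 ∧ y = 3`.
-/

set_option autoImplicit false

namespace Cfsg.Agent.Lib.Helper51_U3Dickson

open Matrix
open scoped MatrixGroups

section Transport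

variable {G G' : Type*} [Group G] [Group G']

/-- Sylow subgroups correspond under an isomorphism -/
noncomputable def sylowCongr (p : ℕ) (e : G ≃* G') : Sylow p G ≃ Sylow p G' where
  toFun P := P.comapOfInjective e.symm.toMonoidHom e.symm.injective
    (by rw [MonoidHom.range_eq_top.2 e.symm.surjective]; exact le_top)
  invFun Q := Q.comapOfInjective e.toMonoidHom e.injective
    (by rw [MonoidHom.range_eq_top.2 e.surjective]; exact le_top)
  left_inv P := by
    apply Sylow.ext
    ext x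
    simp [Sylow.coe_comapOfInjective, Subgroup.mem_comap]
  right_inv Q := by
    apply Sylow.ext
    ext x
    simp [Sylow.coe_comapOfInjective, Subgroup.mem_comap]

theorem card_sylow_congr (p : ℕ) (e : G ≃* G') :
    Nat.card (Sylow p G) = Nat.card (Sylow p G') :=
  Nat.card_congr (sylowCongr p e)

theorem card_sylow_eq_of_equiv [Finite G] {p : ℕ} [Fact p.Prime] (e : G ≃* G') {y : ℕ}
    (hy : ∀ P : Sylow p G, Nat.card P = y) (Q : Sylow p G') : Nat.card Q = y := by
  have : Finite G' := Finite.of_equiv G e.toEquiv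
  obtain ⟨P⟩ : Nonempty (Sylow p G) := inferInstance
  rw [Sylow.card_eq_multiplicity, ← Nat.card_congr e.toEquiv, ← Sylow.card_eq_multiplicity P, hy P]

end Transport

section Arith

/-- the elementary inequality behind the two arithmetic lemmas -/
theorem arith_aux {s r c : ℕ} (hs : 2 ≤ s) (hsr : s ≤ r) (hc : c = 1 ∨ c = 2)
    (hD : s * r + 1 ∣ c * (s ^ 2 - 1)) : c = 2 ∧ 2 * s ^ 2 = s * r + 3 := by
  have hs2 : s ^ 2 ≤ s * r := by nlinarith
  have hpos : 0 < s ^ 2 - 1 := by
    have : 4 ≤ s ^ 2 := by nlinarith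
    omega
  obtain ⟨m, hm⟩ := hD
  rcases hc with rfl | rfl
  · exfalso
    rcases Nat.eq_zero_or_pos m with rfl | hm0
    · omega
    · have : s * r + 1 ≤ (s * r + 1) * m := Nat.le_mul_of_pos_right _ hm0
      omega
  · refine ⟨rfl, ?_⟩
    rcases Nat.eq_zero_or_pos m with rfl | hm0
    · omega
    · rcases Nat.lt_or_ge m 2 with h | h
      · have : m = 1 := by omega
        subst this
        omega
      · have : (s * r + 1) * 2 ≤ (s * r + 1) * m := Nat.mul_le_mul_left _ h
        omega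

/-- symmetry: the divisibility for `s` gives the one for `r` -/
theorem arith_symm {s r c : ℕ} (hr : 1 ≤ r) (hs : 1 ≤ s)
    (hD : s * r + 1 ∣ c * (s ^ 2 - 1)) : r * s + 1 ∣ c * (r ^ 2 - 1) := by
  have hD' : ((s * r + 1 : ℕ) : ℤ) ∣ ((c * (s ^ 2 - 1) : ℕ) : ℤ) := Int.natCast_dvd_natCast.2 hD
  have h1 : 1 ≤ s ^ 2 := Nat.one_le_pow _ _ hs
  have h2 : 1 ≤ r ^ 2 := Nat.one_le_pow _ _ hr
  rw [← Int.natCast_dvd_natCast]
  push_cast [Nat.cast_sub h1, Nat.cast_sub h2] at hD' ⊢
  have e : (c : ℤ) * ((r : ℤ) ^ 2 - 1) =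
      (c : ℤ) * ((s : ℤ) * r - 1) * ((s : ℤ) * r + 1) - (r : ℤ) ^ 2 * ((c : ℤ) * ((s : ℤ) ^ 2 - 1)) := by
    ring
  rw [e, mul_comm (r : ℤ) (s : ℤ)]
  exact dvd_sub (dvd_mul_left _ _) (dvd_mul_of_dvd_right hD' _)

/-- no `q + 1` divides `c (s² - 1)` for proper nontrivial `p`-power divisor `s` of `q` -/
theorem arith {p : ℕ} (hp : p.Prime) {a b c : ℕ} (ha : 0 < a) (hb : 0 < b)
    (hc : c = 1 ∨ (c = 2 ∧ p ≠ 2)) :
    ¬ (p ^ (a + b) + 1 ∣ c * ((p ^ a) ^ 2 - 1)) := by
  intro hD
  set s := p ^ a with hs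
  set r := p ^ b with hr
  have hq : p ^ (a + b) = s * r := pow_add p a b
  rw [hq] at hD
  have hps : p ∣ s := dvd_pow_self p ha.ne'
  have hpr : p ∣ r := dvd_pow_self p hb.ne'
  have hs2 : 2 ≤ s := le_trans hp.two_le (Nat.le_of_dvd (pow_pos hp.pos a) hps)
  have hr2 : 2 ≤ r := le_trans hp.two_le (Nat.le_of_dvd (pow_pos hp.pos b) hpr)
  have hc' : c = 1 ∨ c = 2 := hc.imp_right (fun h => h.1)
  have hD2 : r * s + 1 ∣ c * (r ^ 2 - 1) := arith_symm (by omega) (by omega) hD
  -- the smaller of the two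
  have key : ∀ s r : ℕ, 2 ≤ s → s ≤ r → p ∣ s → p ∣ r → s * r + 1 ∣ c * (s ^ 2 - 1) → False := by
    intro s r hs2 hsr hps hpr hD
    obtain ⟨hc2, heq⟩ := arith_aux hs2 hsr hc' hD
    have hp2 : p ≠ 2 := by
      rcases hc with h | h
      · omega
      · exact h.2
    have hs3 : s ∣ 3 := by
      have : s ∣ 2 * s ^ 2 := Dvd.dvd.mul_left (dvd_pow_self s two_ne_zero) 2
      rw [heq] at this
      exact (Nat.dvd_add_right (dvd_mul_right s r)).1 this
    have hs3' : s = 3 := by
      rcases (Nat.dvd_prime Nat.prime_three).1 hs3 with h | h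
      · omega
      · exact h
    subst hs3'
    have hr5 : r = 5 := by omega
    subst hr5
    have hp3 : p = 3 := (Nat.prime_dvd_prime_iff_eq hp Nat.prime_three).1 hps
    subst hp3
    omega
  rcases le_total s r with h | h
  · exact key s r hs2 h hps hpr hD
  · exact key r s hr2 h hpr hps hD2

end Arith

section D1

variable {F : Type*} [Field F] [Fintype F]

open Cfsg.Agent.Lib.Helper50_SL2Mat Cfsg.Agent.Lib.Helper51_SL2Sub
  Cfsg.Agent.Lib.Helper51_SL2SubMax Cfsg.Agent.Lib.Helper51_SL2SubMax2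
  Cfsg.Agent.Lib.Helper51_SL2SubIso Cfsg.Agent.Lib.Helper51_SL2Cases

/-- the Sylow data `(q + 1) * y ∣ |M|` -/
theorem sylow_mul_dvd {G : Type*} [Group G] [Finite G] {p : ℕ} [Fact p.Prime] {n y : ℕ}
    (hn : Nat.card (Sylow p G) = n) (hy : ∀ P : Sylow p G, Nat.card P = y) :
    n * y ∣ Nat.card G := by
  obtain ⟨P⟩ : Nonempty (Sylow p G) := inferInstance
  have h1 := Sylow.card_dvd_index P
  rw [hn] at h1
  have h2 := (P : Subgroup G).index_mul_card
  rw [hy P] at h2
  rw [← h2]
  exact Nat.mul_dvd_mul_right h1 y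

/-- `D1` for subgroups of `SL(2,F)` containing `tU 1` and `tL 1`, odd characteristic -/
theorem D1_tt (p : ℕ) [Fact p.Prime] [CharP F p] (hp2 : p ≠ 2) (M : Subgroup SL(2, F))
    (hU : tU 1 ∈ M) (hL : tL 1 ∈ M) (q y k : ℕ) (hq : q = p ^ k)
    (hn : Nat.card (Sylow p M) = q + 1) (hy : ∀ P : Sylow p M, Nat.card P = y)
    (h1 : 1 < y) (h2 : y < q) : q = 9 ∧ y = 3 := by
  classical
  have hp : p.Prime := Fact.out
  have h2F : (2 : F) ≠ 0 := two_ne_zero_of_char (F := F) p hp2
  have hdvd : (q + 1) * y ∣ Nat.card M := sylow_mul_dvd hn hy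
  obtain ⟨P⟩ : Nonempty (Sylow p M) := inferInstance
  obtain ⟨j, hj⟩ := (P.2 : IsPGroup p (P : Subgroup M)).exists_card_eq
  rw [hy P] at hj
  have hj0 : 0 < j := by
    rcases Nat.eq_zero_or_pos j with rfl | h
    · rw [pow_zero] at hj; omega
    · exact h
  have hjk : j < k := by
    rw [hj, hq] at h2
    exact (Nat.pow_lt_pow_iff_right hp.one_lt).1 h2
  rcases engine hp2 M hU hL with hG | ⟨h3, -, hc⟩
  · exfalso
    set ι := (subf hG).subtype with hι
    have : Fintype (subf hG) := Fintype.ofFinite _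
    set s := Fintype.card (subf hG) with hs
    have hS0 : Nat.card (S0 ι) ∣ Nat.card M := Subgroup.card_dvd_of_le (S0_le hG)
    have hN0 : Nat.card M ∣ 2 * (s * (s ^ 2 - 1)) :=
      (Subgroup.card_dvd_of_le (le_N0 hG)).trans (card_N0_dvd ι h2F)
    rw [card_S0] at hS0
    have : CharP (subf hG) p :=
      (RingHom.charP_iff (subf hG).subtype (subf hG).subtype.injective p).2 inferInstance
    obtain ⟨a, -, ha⟩ := FiniteField.card (subf hG) p
    rw [← hs] at ha hS0
    -- `y = s`
    have hsy : s ∣ y := by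
      have h := Sylow.pow_dvd_card_of_pow_dvd_card P (n := a)
        (by rw [← ha]; exact (dvd_mul_right s _).trans hS0)
      rw [hy P, ← ha] at h
      exact h
    have hys : y ∣ s := by
      have hy2 : y ∣ 2 * (s * (s ^ 2 - 1)) :=
        ((dvd_mul_left y (q + 1)).trans hdvd).trans hN0
      have hcop : Nat.Coprime y (2 * (s ^ 2 - 1)) := by
        rw [hj]
        apply Nat.Coprime.pow_left
        rw [Nat.Prime.coprime_iff_not_dvd hp]
        intro h
        rcases (Nat.Prime.dvd_mul hp).1 h with h | h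
        · exact hp2 ((Nat.prime_dvd_prime_iff_eq hp Nat.prime_two).1 h)
        · have hps : p ∣ s ^ 2 := by
            rw [ha, ← pow_mul]
            exact dvd_pow_self p (by positivity)
          have h1s : 1 ≤ s ^ 2 := Nat.one_le_pow _ _ (by rw [ha]; exact pow_pos hp.pos _)
          have : p ∣ 1 := by
            have := Nat.dvd_sub hps h
            rwa [Nat.sub_sub_self h1s] at this
          exact hp.one_lt.ne' (Nat.dvd_one.1 this)
      have : 2 * (s * (s ^ 2 - 1)) = s * (2 * (s ^ 2 - 1)) := by ring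
      rw [this] at hy2
      exact hcop.dvd_of_dvd_mul_right hy2
    have hys' : y = s := Nat.dvd_antisymm hys hsy
    have haj : (a : ℕ) = j := by
      have : p ^ (a : ℕ) = p ^ j := by rw [← ha, ← hj, hys']
      exact Nat.pow_right_injective hp.two_le this
    -- `(q + 1) ∣ 2 (s² - 1)`
    have hfin : q + 1 ∣ 2 * (s ^ 2 - 1) := by
      have h := hdvd.trans hN0
      rw [hys'] at h
      have hs0 : 0 < s := by rw [ha]; exact pow_pos hp.pos _
      have e : 2 * (s * (s ^ 2 - 1)) = 2 * (s ^ 2 - 1) * s := by ring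
      rw [e] at h
      exact Nat.dvd_of_mul_dvd_mul_right hs0 h
    obtain ⟨b, hb⟩ : ∃ b, k = j + b := ⟨k - j, by omega⟩
    have hb0 : 0 < b := by omega
    apply arith hp hj0 hb0 (Or.inr ⟨rfl, hp2⟩)
    rw [← hb, ← hq, ← haj, ← ha]
    exact hfin
  · subst h3
    have hy3 : y = 3 := by
      have hyM : y ∣ Nat.card M := (dvd_mul_left y (q + 1)).trans hdvd
      have h9 : ¬ 9 ∣ Nat.card M := by rcases hc with h | h <;> rw [h] <;> norm_num
      rcases Nat.lt_or_ge j 2 with h | h
      · have : j = 1 := by omega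
        rw [this, pow_one] at hj
        exact hj
      · exfalso
        apply h9
        have : (3 : ℕ) ^ 2 ∣ 3 ^ j := pow_dvd_pow 3 h
        rw [← hj] at this
        exact this.trans hyM
    refine ⟨?_, hy3⟩
    have hq40 : q + 1 ∣ 40 := by
      rw [hy3] at hdvd
      have h120 : Nat.card M ∣ 120 := by rcases hc with h | h <;> rw [h] <;> norm_num
      have := hdvd.trans h120
      have e : (120 : ℕ) = 40 * 3 := by norm_num
      rw [e] at this
      exact Nat.dvd_of_mul_dvd_mul_right (by norm_num) this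
    have hk2 : 2 ≤ k := by
      rw [hy3] at hj
      have : j = 1 := by
        have : (3 : ℕ) ^ 1 = 3 ^ j := by rw [pow_one]; exact hj
        exact (Nat.pow_right_injective (by norm_num : 2 ≤ 3) this).symm
      omega
    have hq9 : 9 ∣ q := by
      rw [hq]
      exact pow_dvd_pow 3 hk2
    have hle : q + 1 ≤ 40 := Nat.le_of_dvd (by norm_num) hq40
    obtain ⟨m, hm⟩ := hq9
    have hm4 : m ≤ 4 := by omega
    interval_cases m
    · omega
    · omega
    · rw [hm] at hq40; norm_num at hq40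
    · exfalso
      have : 3 ^ k = 27 := by rw [← hq, hm]
      rw [hm] at hq40; norm_num at hq40
    · rw [hm] at hq40; norm_num at hq40

/-- `D1` in odd characteristic -/
theorem D1_odd (p : ℕ) [Fact p.Prime] [CharP F p] (hp2 : p ≠ 2)
    {K : Type*} [Group K] [Finite K] (φ : K →* SL(2, F)) (hφ : Function.Injective φ)
    (q y k : ℕ) (hq : q = p ^ k)
    (hn : Nat.card (Sylow p K) = q + 1) (hy : ∀ P : Sylow p K, Nat.card P = y)
    (h1 : 1 < y) (h2 : y < q) : q = 9 ∧ y = 3 := by
  classical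
  have hp : p.Prime := Fact.out
  set M : Subgroup SL(2, F) := φ.range with hM
  have e : K ≃* M := MonoidHom.ofInjective hφ
  have hq1 : 1 ≤ q := by rw [hq]; exact Nat.one_le_pow _ _ hp.pos
  have hnM : 1 < Nat.card (Sylow p M) := by
    rw [← card_sylow_congr p e, hn]; omega
  obtain ⟨ψ, hU, hL⟩ := exists_aut p hp2 M hnM
  have e' : M ≃* M.map ψ.toMonoidHom := M.equivMapOfInjective _ ψ.injective
  have e2 : K ≃* M.map ψ.toMonoidHom := e.trans e'
  exact D1_tt p hp2 _ hU hL q y k hq (by rw [← card_sylow_congr p e2, hn])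
    (card_sylow_eq_of_equiv e2 hy) h1 h2

end D1

section D1even

variable {F : Type*} [Field F] [Fintype F] [CharP F 2]

/-- `D1` in characteristic two -/
theorem D1_even [Fact (Nat.Prime 2)]
    {K : Type*} [Group K] [Finite K] (φ : K →* SL(2, F)) (hφ : Function.Injective φ)
    (q y k : ℕ) (hq : q = 2 ^ k)
    (hn : Nat.card (Sylow 2 K) = q + 1) (hy : ∀ P : Sylow 2 K, Nat.card P = y)
    (h1 : 1 < y) (h2 : y < q) : y = 2 := by
  classical
  set M : Subgroup SL(2, F) := φ.range with hM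
  have e : K ≃* M := MonoidHom.ofInjective hφ
  have hnM : Nat.card (Sylow 2 M) = q + 1 := by rw [← card_sylow_congr 2 e, hn]
  have hyM : ∀ P : Sylow 2 M, Nat.card P = y := card_sylow_eq_of_equiv e hy
  have hdvd : (q + 1) * y ∣ Nat.card M := sylow_mul_dvd hnM hyM
  obtain ⟨P⟩ : Nonempty (Sylow 2 M) := inferInstance
  have hC : Cfsg.Agent.Lib.Helper21_BSW.CIT ↥M := Cfsg.Agent.Lib.Helper99_SL2Even.cit_subgroup M
  have hq1 : 1 ≤ q := by rw [hq]; exact Nat.one_le_pow _ _ (by norm_num)
  have hnn : ¬ (P : Subgroup M).Normal := by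
    intro h
    have := Sylow.unique_of_normal P h
    have h1' : Nat.card (Sylow 2 M) = 1 := Nat.card_unique
    omega
  have hPne : (P : Subgroup M) ≠ ⊥ := by
    intro h
    apply hnn
    rw [h]
    infer_instance
  by_cases hcyc : IsCyclic (P : Subgroup M)
  · rw [← hyM P]
    obtain ⟨g, hg⟩ := hcyc.exists_generator
    have hord : orderOf g = Nat.card (P : Subgroup M) :=
      orderOf_eq_card_of_forall_mem_zpowers hg
    have hg2 : g ^ 2 = 1 := by
      apply Subtype.ext
      have := Cfsg.Agent.Lib.Helper21_BSW.sq_eq_one_of_mem hC P g.2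
      simpa using this
    have hd : orderOf g ∣ 2 := orderOf_dvd_of_pow_eq_one hg2
    rw [hord] at hd
    rcases (Nat.dvd_prime Nat.prime_two).1 hd with h | h
    · exact absurd (Subgroup.card_eq_one.1 h) hPne
    · exact h
  · exfalso
    obtain ⟨F₀, hF₀, hFin, hcard, ⟨f⟩⟩ :=
      Cfsg.Agent.Lib.Helper21_BSW.exists_mulEquiv_SL hC P hcyc hnn
    rw [hyM P] at hcard
    have hMcard : Nat.card M = y * (y ^ 2 - 1) := by
      rw [Nat.card_congr f.toEquiv, Cfsg.Agent.Lib.Helper5_PSLCard.card_SL_two, hcard]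
    obtain ⟨j, hj⟩ := (P.2 : IsPGroup 2 (P : Subgroup M)).exists_card_eq
    rw [hyM P] at hj
    have hj0 : 0 < j := by
      rcases Nat.eq_zero_or_pos j with rfl | h
      · rw [pow_zero] at hj; omega
      · exact h
    have hjk : j < k := by
      rw [hj, hq] at h2
      exact (Nat.pow_lt_pow_iff_right (by norm_num)).1 h2
    obtain ⟨b, hb⟩ : ∃ b, k = j + b := ⟨k - j, by omega⟩
    have hb0 : 0 < b := by omega
    apply arith Nat.prime_two hj0 hb0 (c := 1) (Or.inl rfl)
    rw [← hb, ← hq, ← hj, one_mul]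
    rw [hMcard, mul_comm y] at hdvd
    exact Nat.dvd_of_mul_dvd_mul_right (by omega) hdvd

end D1even

section D1main

variable {F : Type*} [Field F] [Fintype F]

/-- **Dickson corollary D1.** A finite group `K` embedded in `SL(2,F)`, `F` finite of
characteristic `p`, with exactly `q + 1` Sylow `p`-subgroups (`q` a power of `p`), each of order
`y`, `1 < y < q`: then `p = 2 ∧ y = 2` or `q = 9 ∧ y = 3`. -/
theorem D1 (p : ℕ) [Fact p.Prime] [CharP F p]
    {K : Type*} [Group K] [Finite K] (φ : K →* SL(2, F)) (hφ : Function.Injective φ)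
    (q y k : ℕ) (hq : q = p ^ k)
    (hn : Nat.card (Sylow p K) = q + 1) (hy : ∀ P : Sylow p K, Nat.card P = y)
    (h1 : 1 < y) (h2 : y < q) : (p = 2 ∧ y = 2) ∨ (q = 9 ∧ y = 3) := by
  by_cases hp2 : p = 2
  · subst hp2
    exact Or.inl ⟨rfl, D1_even φ hφ q y k hq hn hy h1 h2⟩
  · exact Or.inr (D1_odd p hp2 φ hφ q y k hq hn hy h1 h2)

end D1main

end Cfsg.Agent.Lib.Helper51_U3Dickson
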