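import Mathlib
import Cfsg.Agent.Lib.Helper50_DkOdd

/-!
# Dickson corollary D2 for S2148 (helper51)

`coprime_list`: a `p'`-subgroup of `SL(2,F)` (`p` odd) has image in `PSL(2,F)` cyclic, dihedral,
or of order `12`, `24`, `60`.

`D2a`: a finite `p'`-group `X` embedded in `PSL(2,F)` with a cyclic core-free subgroup `A`:
`|A| ≤ 2` or `|X| ∈ {12, 24, 60}`.
-/

set_option autoImplicit false

namespace Cfsg.Agent.Lib.Helper51_U3Dickson2

open Matrix Cfsg.Agent.Lib.Helper50_SL2Mat Cfsg.Agent.Lib.Helper50_DkPSL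
  Cfsg.Agent.Lib.Helper50_DkTorus Cfsg.Agent.Lib.Helper50_DkTorusCase
  Cfsg.Agent.Lib.Helper50_DkGroups Cfsg.Agent.Lib.Helper50_DkStruct
  Cfsg.Agent.Lib.Helper50_DkBorel Cfsg.Agent.Lib.Helper50_DkOdd
open scoped MatrixGroups

/-- the list of isomorphism types of `p'`-subgroups of `PSL(2,F)` that D2 uses -/
def PList (X : Type*) [Group X] : Prop :=
  IsCyclic X ∨ (∃ k : ℕ, Nonempty (X ≃* DihedralGroup k)) ∨ Nat.card X = 12 ∨ Nat.card X = 24 ∨
    Nat.card X = 60

theorem PList.congr {X Y : Type*} [Group X] [Group Y] (e : X ≃* Y) (h : PList X) : PList Y := by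
  rcases h with h | ⟨k, ⟨f⟩⟩ | h | h | h
  · left
    exact isCyclic_of_surjective e e.surjective
  · right; left
    exact ⟨k, ⟨e.symm.trans f⟩⟩
  · right; right; left
    rw [← h]; exact (Nat.card_congr e.toEquiv).symm
  · right; right; right; left
    rw [← h]; exact (Nat.card_congr e.toEquiv).symm
  · right; right; right; right
    rw [← h]; exact (Nat.card_congr e.toEquiv).symm

section SL

variable {F : Type*} [Field F] [Fintype F] (p : ℕ) [Fact p.Prime] [CharP F p]

/-- **The coprime case**, with the conclusion cut down to what it really proves. -/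
theorem coprime_list (hp2 : p ≠ 2) (K : Subgroup SL(2, F)) (hcop : ¬ p ∣ Nat.card K) :
    PList ↥(K.map proj) := by
  have h2 : (2 : F) ≠ 0 := two_ne_zero_of_char p hp2
  have hcard : ¬ ringChar F ∣ Nat.card K := by rwa [ringChar.eq F p]
  have hss := Cfsg.Agent.Lib.Helper51_SL2Prime.hss_of_ringChar h2 K hcard
  by_cases hnab : ∀ A : Subgroup SL(2, F), A ≤ K → (∀ a ∈ A, ∀ b ∈ A, a * b = b * a) →
      2 < A.relIndex K
  · obtain ⟨hc, hneg, -⟩ :=
      Cfsg.Agent.Lib.Helper51_SL2Prime.pprime_orders_subgroup' h2 K hcard hnab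
    have hX := card_map_proj h2 K hneg
    rcases hc with h | h | h
    · right; right; left; omega
    · right; right; right; left; omega
    · right; right; right; right; omega
  · push Not at hnab
    obtain ⟨A, hAK, hAab, hAidx⟩ := hnab
    by_cases hKab : ∀ a ∈ K, ∀ b ∈ K, a * b = b * a
    · obtain ⟨k, hk, hcyc, hkc⟩ := cyc_case p K hKab hss hcop
      exact Or.inl hcyc
    · have hne : A.relIndex K ≠ 0 := Subgroup.index_ne_zero_of_finite
      have hne1 : A.relIndex K ≠ 1 := by
        intro h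
        apply hKab
        intro a ha b hb
        have hle := Subgroup.relIndex_eq_one.1 h
        exact hAab a (hle ha) b (hle hb)
      have hidx : A.relIndex K = 2 := by omega
      obtain ⟨k, hk, hd⟩ := dih_of_index_two p K A hAK hidx hAab hKab
        (fun y hy => hss y (hAK hy))
        (fun y _ h => Cfsg.Agent.Lib.Helper50_SL2Rep.isScalar_of_sq h2 h)
        (fun h => hcop (h.trans (Subgroup.card_dvd_of_le hAK)))
      exact Or.inr (Or.inl ⟨k, hd⟩)

/-- the list for a `p'`-subgroup of `PSL(2,F)` -/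
theorem coprime_list_psl (hp2 : p ≠ 2) (X : Subgroup PSL(2, F)) (hcop : ¬ p ∣ Nat.card X) :
    PList ↥X := by
  have hp : p.Prime := Fact.out
  have h2 : (2 : F) ≠ 0 := two_ne_zero_of_char p hp2
  have hK : ¬ p ∣ Nat.card (X.comap proj) := by
    rw [Cfsg.Agent.Lib.Helper51_SL2Cases.card_comap_mk h2 X]
    intro h
    rcases (Nat.Prime.dvd_mul hp).1 h with h | h
    · exact hcop h
    · exact hp2 ((Nat.prime_dvd_prime_iff_eq hp Nat.prime_two).1 h)
  have := coprime_list p hp2 (X.comap proj) hK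
  exact PList.congr (MulEquiv.subgroupCongr (map_comap_proj X)) this

end SL

section Core

/-- a cyclic core-free subgroup of a group on the list has order at most two, unless the group
has order `12`, `24` or `60` -/
theorem card_le_two_of_plist {X : Type*} [Group X] [Finite X] (h : PList X) (A : Subgroup X)
    (hA : IsCyclic A) (hcore : ∀ a ∈ A, (∀ x : X, x * a * x⁻¹ ∈ A) → a = 1) :
    Nat.card A ≤ 2 ∨ Nat.card X = 12 ∨ Nat.card X = 24 ∨ Nat.card X = 60 := by
  rcases h with h | ⟨k, ⟨f⟩⟩ | h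
  · left
    have hbot : A = ⊥ := by
      rw [Subgroup.eq_bot_iff_forall]
      intro a ha
      apply hcore a ha
      intro x
      obtain ⟨g, hg⟩ := h.exists_generator
      obtain ⟨i, rfl⟩ := Subgroup.mem_zpowers_iff.1 (hg x)
      obtain ⟨j, rfl⟩ := Subgroup.mem_zpowers_iff.1 (hg a)
      have : g ^ i * g ^ j * (g ^ i)⁻¹ = g ^ j := by
        rw [← _root_.zpow_add, ← _root_.zpow_neg, ← _root_.zpow_add]; congr 1; ring
      rw [this]; exact ha
    rw [hbot, Subgroup.card_bot]; norm_num
  · left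
    obtain ⟨g, hg⟩ := hA.exists_generator
    have hord : orderOf g = Nat.card A := orderOf_eq_card_of_forall_mem_zpowers hg
    rcases hfg : f (g : X) with i | i
    · -- a rotation: the subgroup is normal
      have hg1 : (g : X) = 1 := by
        apply hcore _ g.2
        intro x
        have key : f (x * g * x⁻¹) = f g ∨ f (x * g * x⁻¹) = f (g : X)⁻¹ := by
          rw [map_mul, map_mul, map_inv, map_inv, hfg]
          rcases f x with j | j
          · left
            simp [DihedralGroup.r_mul_r]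
          · right
            simp
        rcases key with h | h
        · rw [f.injective h]; exact g.2
        · rw [f.injective h]; exact A.inv_mem g.2
      have : orderOf g = 1 := by
        rw [orderOf_eq_one_iff]; exact Subtype.ext hg1
      omega
    · -- a reflection
      have hsq : (g : X) ^ 2 = 1 := by
        apply f.injective
        rw [map_pow, hfg, map_one, pow_two, DihedralGroup.sr_mul_self]
      have : g ^ 2 = 1 := Subtype.ext (by simpa using hsq)
      have := orderOf_dvd_of_pow_eq_one this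
      have := Nat.le_of_dvd (by norm_num) this
      omega
  · right; exact h

end Core

section D2a

variable {F : Type*} [Field F] [Fintype F]

/-- **Dickson corollary D2, abstract form.** A finite `p'`-group `X` (`p` odd) embedded in
`PSL(2,F)`, `F` finite of characteristic `p`, with a cyclic core-free subgroup `A`: `|A| ≤ 2` or
`|X| ∈ {12, 24, 60}`. -/
theorem D2a (p : ℕ) [Fact p.Prime] [CharP F p] (hp2 : p ≠ 2)
    {X : Type*} [Group X] [Finite X] (ψ : X →* PSL(2, F)) (hψ : Function.Injective ψ)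
    (hcop : ¬ p ∣ Nat.card X) (A : Subgroup X) (hA : IsCyclic A)
    (hcore : ∀ a ∈ A, (∀ x : X, x * a * x⁻¹ ∈ A) → a = 1) :
    Nat.card A ≤ 2 ∨ Nat.card X = 12 ∨ Nat.card X = 24 ∨ Nat.card X = 60 := by
  have e : X ≃* ψ.range := MonoidHom.ofInjective hψ
  have h1 : ¬ p ∣ Nat.card ψ.range := by rwa [← Nat.card_congr e.toEquiv]
  have h2 : PList ↥ψ.range := coprime_list_psl p hp2 ψ.range h1
  exact card_le_two_of_plist (PList.congr e.symm h2) A hA hcore

end D2a

section Rescale

variable {F : Type*} [Field F]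

/-- two elements of `SL(2,F)` that are proportional as matrices have the same image in
`PSL(2,F)` -/
theorem proj_eq_of_smul {a b : SL(2, F)} {c : F}
    (h : (a : Matrix (Fin 2) (Fin 2) F) = c • (b : Matrix (Fin 2) (Fin 2) F)) :
    proj a = proj b := by
  have e : ∀ i j, a i j = c * b i j := by
    intro i j
    have := congrFun (congrFun h i) j
    simpa using this
  have hd := det1 b
  show (a : PSL(2, F)) = (b : PSL(2, F))
  rw [QuotientGroup.eq, mem_center_iff]
  refine ⟨?_, ?_, ?_⟩ <;>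
    simp only [mul00, mul01, mul10, mul11, inv00, inv01, inv10, inv11, e] <;> ring

/-- the determinant of a value of a monoid hom from a group into matrices is nonzero -/
theorem det_ne_zero_of_hom {C : Type*} [Group C] (ρ : C →* Matrix (Fin 2) (Fin 2) F) (c : C) :
    (ρ c).det ≠ 0 := by
  intro h
  have : (ρ c).det * (ρ c⁻¹).det = 1 := by
    rw [← Matrix.det_mul, ← map_mul, mul_inv_cancel, map_one, Matrix.det_one]
  rw [h, zero_mul] at this
  exact zero_ne_one this

/-- a chosen square root -/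
noncomputable def sq (x : F) (h : IsSquare x) : F := Classical.choose h

theorem sq_spec (x : F) (h : IsSquare x) : sq x h * sq x h = x := (Classical.choose_spec h).symm

theorem sq_ne_zero (x : F) (h0 : x ≠ 0) (h : IsSquare x) : sq x h ≠ 0 := by
  intro h'
  have := sq_spec x h
  rw [h', mul_zero] at this
  exact h0 this.symm

/-- a matrix with nonzero square determinant, rescaled to determinant one -/
noncomputable def resc (m : Matrix (Fin 2) (Fin 2) F) (h0 : m.det ≠ 0) (h : IsSquare m.det) :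
    SL(2, F) :=
  ⟨(sq m.det h)⁻¹ • m, by
    have hs := sq_spec m.det h
    have hs0 := sq_ne_zero m.det h0 h
    rw [Matrix.det_smul, Fintype.card_fin]
    generalize sq m.det h = s at hs hs0 ⊢
    rw [← hs]
    field_simp⟩

theorem resc_coe (m : Matrix (Fin 2) (Fin 2) F) (h0 : m.det ≠ 0) (h : IsSquare m.det) :
    ((resc m h0 h : SL(2, F)) : Matrix (Fin 2) (Fin 2) F) = (sq m.det h)⁻¹ • m := rfl

/-- **The rescaling homomorphism** into `PSL(2,F)` of a representation by `2 × 2` matrices with
square determinants; its kernel consists of the elements represented by scalar matrices. -/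
theorem exists_hom_psl {C : Type*} [Group C] (ρ : C →* Matrix (Fin 2) (Fin 2) F)
    (hsq : ∀ c, IsSquare (ρ c).det) :
    ∃ θ : C →* PSL(2, F), ∀ c, θ c = 1 ↔
      (ρ c 0 1 = 0 ∧ ρ c 1 0 = 0 ∧ ρ c 0 0 = ρ c 1 1) := by
  have h0 := det_ne_zero_of_hom ρ
  refine ⟨MonoidHom.mk' (fun c => proj (resc (ρ c) (h0 c) (hsq c))) ?_, ?_⟩
  · intro c c'
    rw [← map_mul]
    have hl := sq_ne_zero _ (h0 c) (hsq c)
    have hl' := sq_ne_zero _ (h0 c') (hsq c')
    have hl'' := sq_ne_zero _ (h0 (c * c')) (hsq (c * c'))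
    have e := sq_spec _ (hsq c)
    have e' := sq_spec _ (hsq c')
    have e'' := sq_spec _ (hsq (c * c'))
    apply proj_eq_of_smul
      (c := (sq _ (hsq (c * c')))⁻¹ * sq _ (hsq c) * sq _ (hsq c'))
    rw [Matrix.SpecialLinearGroup.coe_mul, resc_coe, resc_coe, resc_coe]
    generalize sq _ (hsq (c * c')) = l'' at hl'' e'' ⊢
    generalize sq _ (hsq c) = l at hl e ⊢
    generalize sq _ (hsq c') = l' at hl' e' ⊢
    rw [map_mul, Matrix.smul_mul, Matrix.mul_smul, smul_smul, smul_smul]
    congr 1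
    field_simp
  · intro c
    have hl := sq_ne_zero _ (h0 c) (hsq c)
    rw [MonoidHom.mk'_apply, proj_eq_one_iff]
    have e : ∀ i j, (resc (ρ c) (h0 c) (hsq c)) i j = (sq _ (hsq c))⁻¹ * ρ c i j := by
      intro i j
      have := congrFun (congrFun (resc_coe (ρ c) (h0 c) (hsq c)) i) j
      simpa using this
    unfold IsScalar
    rw [e, e, e, e]
    have hinv : (sq _ (hsq c))⁻¹ ≠ 0 := inv_ne_zero hl
    constructor
    · rintro ⟨h1, h2, h3⟩
      refine ⟨?_, ?_, ?_⟩
      · exact (mul_eq_zero.1 h1).resolve_left hinv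
      · exact (mul_eq_zero.1 h2).resolve_left hinv
      · exact mul_left_cancel₀ hinv h3
    · rintro ⟨h1, h2, h3⟩
      rw [h1, h2, h3]
      simp

end Rescale

section Square

variable {F : Type*} [Field F] [Fintype F]

/-- in a field with `q²` elements, `q` odd, the elements of norm one are squares -/
theorem isSquare_of_pow_eq_one {q : ℕ} (hF : Fintype.card F = q ^ 2) (hq : Odd q) {x : F}
    (hx : x ^ (q + 1) = 1) : IsSquare x := by
  classical
  have hx0 : x ≠ 0 := by
    rintro rfl
    rw [zero_pow (by omega)] at hx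
    exact zero_ne_one hx
  obtain ⟨g, hg⟩ := IsCyclic.exists_generator (α := Fˣ)
  obtain ⟨n, hn⟩ := Subgroup.mem_zpowers_iff.1 (hg (Units.mk0 x hx0))
  have hord : orderOf g = q ^ 2 - 1 := by
    rw [orderOf_eq_card_of_forall_mem_zpowers hg, Nat.card_eq_fintype_card, Fintype.card_units, hF]
  have h1 : g ^ (n * (q + 1 : ℕ)) = 1 := by
    rw [_root_.zpow_mul, hn, zpow_natCast]
    apply Units.ext
    simpa using hx
  have h2 : ((q ^ 2 - 1 : ℕ) : ℤ) ∣ n * (q + 1 : ℕ) := by
    rw [← hord]; exact orderOf_dvd_iff_zpow_eq_one.2 h1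
  have hq1 : 1 ≤ q := by rcases hq with ⟨k, rfl⟩; omega
  have hfac : ((q ^ 2 - 1 : ℕ) : ℤ) = ((q : ℤ) - 1) * ((q + 1 : ℕ) : ℤ) := by
    have : 1 ≤ q ^ 2 := Nat.one_le_pow _ _ hq1
    push_cast [Nat.cast_sub this]; ring
  rw [hfac] at h2
  have h3 : ((q : ℤ) - 1) ∣ n := by
    have hne : ((q + 1 : ℕ) : ℤ) ≠ 0 := by positivity
    exact Int.dvd_of_mul_dvd_mul_right hne h2
  have h4 : (2 : ℤ) ∣ n := by
    refine Dvd.dvd.trans ?_ h3
    rcases hq with ⟨k, rfl⟩
    exact ⟨k, by push_cast; ring⟩
  obtain ⟨m, rfl⟩ := h4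
  refine ⟨((g ^ m : Fˣ) : F), ?_⟩
  have : Units.mk0 x hx0 = g ^ m * g ^ m := by
    rw [← hn, ← _root_.zpow_add]; congr 1; ring
  have := congrArg (fun u : Fˣ => (u : F)) this
  simpa using this

end Square

section D2c

variable {F : Type*} [Field F] [Fintype F]

/-- **Dickson corollary D2, matrix form.** `C` a finite group represented by `2 × 2` matrices
with square determinants over a finite field of odd characteristic `p`, `N` the subgroup of the
elements represented by scalars, `p ∤ [C : N]`, `A ≥ N` a subgroup with `A / N` cyclic whose core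
in `C` is `N`: then `[A : N] ≤ 2` or `[C : N] ∈ {12, 24, 60}`. -/
theorem D2c (p : ℕ) [Fact p.Prime] [CharP F p] (hp2 : p ≠ 2) {C : Type*} [Group C] [Finite C]
    (ρ : C →* Matrix (Fin 2) (Fin 2) F) (hsq : ∀ c, IsSquare (ρ c).det)
    (N : Subgroup C) (hN : ∀ c, c ∈ N ↔ (ρ c 0 1 = 0 ∧ ρ c 1 0 = 0 ∧ ρ c 0 0 = ρ c 1 1))
    (hcop : ¬ p ∣ N.index) (A : Subgroup C) (hNA : N ≤ A)
    (hcyc : ∃ a ∈ A, ∀ b ∈ A, ∃ i : ℤ, b * (a ^ i)⁻¹ ∈ N)
    (hcore : ∀ a ∈ A, (∀ x : C, x * a * x⁻¹ ∈ A) → a ∈ N) :
    N.relIndex A ≤ 2 ∨ N.index = 12 ∨ N.index = 24 ∨ N.index = 60 := by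
  obtain ⟨θ, hθ⟩ := exists_hom_psl ρ hsq
  have hker : θ.ker = N := by
    ext c
    rw [MonoidHom.mem_ker, hθ, hN]
  set θ' : C →* θ.range := θ.rangeRestrict with hθ'
  have hker' : θ'.ker = N := by rw [hθ', MonoidHom.ker_rangeRestrict, hker]
  have hX : Nat.card θ.range = N.index := by rw [← hker, Subgroup.index_ker]
  have hA' : Nat.card (A.map θ') = N.relIndex A := by rw [← hker', Subgroup.relIndex_ker]
  have hmem : ∀ c, θ' c ∈ A.map θ' → c ∈ A := by
    rintro c ⟨b, hb, hbc⟩
    have : c * b⁻¹ ∈ θ'.ker := by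
      rw [MonoidHom.mem_ker, map_mul, map_inv, hbc, mul_inv_cancel]
    rw [hker'] at this
    have := A.mul_mem (hNA this) hb
    rwa [inv_mul_cancel_right] at this
  rw [← hX, ← hA']
  apply D2a p hp2 θ.range.subtype θ.range.subtype_injective (by rwa [hX]) (A.map θ')
  · obtain ⟨a, ha, hgen⟩ := hcyc
    refine ⟨⟨⟨θ' a, Subgroup.mem_map_of_mem θ' ha⟩, ?_⟩⟩
    rintro ⟨_, b, hb, rfl⟩
    obtain ⟨i, hi⟩ := hgen b hb
    refine ⟨i, ?_⟩
    apply Subtype.ext
    rw [← hker', MonoidHom.mem_ker, map_mul, map_inv, mul_inv_eq_one] at hi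
    simp only [Subgroup.coe_zpow]
    rw [hi, map_zpow]
  · rintro _ ⟨a, ha, rfl⟩ hx
    have : a ∈ N := by
      apply hcore a ha
      intro x
      apply hmem
      have := hx (θ' x)
      rwa [map_mul, map_mul, map_inv]
    rw [← hker'] at this
    exact this

end D2c

end Cfsg.Agent.Lib.Helper51_U3Dickson2
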