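import Mathlib
import Cfsg.Agent.Lib.Helper51_U3Dickson2
import Cfsg.Agent.Lib.Helper50_DkEven

/-!
# Dickson corollary D2 for S2148 in all characteristics (helper51)

In characteristic two a subgroup of odd order of `PSL(2,F)` is cyclic; so `D2a`, `D2c` hold for all
`p` (`D2a_all`, `D2c_all`).
-/

set_option autoImplicit false

namespace Cfsg.Agent.Lib.Helper51_U3Dickson3

open Matrix Cfsg.Agent.Lib.Helper50_SL2Mat Cfsg.Agent.Lib.Helper50_DkPSL
  Cfsg.Agent.Lib.Helper50_DkTorus Cfsg.Agent.Lib.Helper50_DkTorusCase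
  Cfsg.Agent.Lib.Helper50_DkEven Cfsg.Agent.Lib.Helper51_U3Dickson2
open scoped MatrixGroups

section Even

variable {F : Type*} [Field F] [Fintype F] [CharP F 2]

/-- subgroups of odd order of `SL(2,F)`, characteristic two, have cyclic image in `PSL(2,F)` -/
theorem isCyclic_of_odd [Fact (Nat.Prime 2)] (K : Subgroup SL(2, F)) (hodd : Odd (Nat.card K)) :
    IsCyclic ↥(K.map proj) := by
  have hdvd : ¬ 2 ∣ Nat.card K := by
    rcases hodd with ⟨m, hm⟩
    omega
  have hcomm : ∀ a ∈ K, ∀ b ∈ K, a * b = b * a := fun a ha b hb =>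
    Cfsg.Agent.Lib.Helper99_SL2EvenSub.comm_of_odd K hodd a b ha hb
  obtain ⟨k, hk, hcyc, hkc⟩ := cyc_case 2 K hcomm (hss_of_odd K hodd) hdvd
  exact hcyc

omit [Fintype F] in
theorem proj_injective : Function.Injective (proj : SL(2, F) → PSL(2, F)) := by
  rw [injective_iff_map_eq_one]
  intro g hg
  rw [proj_eq_one_iff, isScalar_iff_eq_one] at hg
  exact hg

/-- subgroups of odd order of `PSL(2,F)`, characteristic two, are cyclic -/
theorem isCyclic_of_odd_psl [Fact (Nat.Prime 2)] (X : Subgroup PSL(2, F))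
    (hodd : Odd (Nat.card X)) : IsCyclic ↥X := by
  have hK : Nat.card (X.comap proj) = Nat.card X := by
    have h := Subgroup.card_map_of_injective (K := X.comap proj) (proj_injective (F := F))
    rw [map_comap_proj] at h
    exact h.symm
  have := isCyclic_of_odd (X.comap proj) (by rwa [hK])
  exact isCyclic_of_surjective (MulEquiv.subgroupCongr (map_comap_proj X))
    (MulEquiv.subgroupCongr (map_comap_proj X)).surjective

end Even

section All

variable {F : Type*} [Field F] [Fintype F]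

/-- **Dickson corollary D2, abstract form, all characteristics.** -/
theorem D2a_all (p : ℕ) [Fact p.Prime] [CharP F p]
    {X : Type*} [Group X] [Finite X] (ψ : X →* PSL(2, F)) (hψ : Function.Injective ψ)
    (hcop : ¬ p ∣ Nat.card X) (A : Subgroup X) (hA : IsCyclic A)
    (hcore : ∀ a ∈ A, (∀ x : X, x * a * x⁻¹ ∈ A) → a = 1) :
    Nat.card A ≤ 2 ∨ Nat.card X = 12 ∨ Nat.card X = 24 ∨ Nat.card X = 60 := by
  by_cases hp2 : p = 2
  · subst hp2
    have e : X ≃* ψ.range := MonoidHom.ofInjective hψ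
    have h1 : Odd (Nat.card ψ.range) := by
      rw [← Nat.card_congr e.toEquiv]
      exact Nat.odd_iff.2 (by omega)
    have h2 : IsCyclic ↥ψ.range := isCyclic_of_odd_psl ψ.range h1
    have h3 : PList X := Or.inl (isCyclic_of_surjective e.symm e.symm.surjective)
    exact card_le_two_of_plist h3 A hA hcore
  · exact D2a p hp2 ψ hψ hcop A hA hcore

/-- **Dickson corollary D2, matrix form, all characteristics** (see `Helper51_U3Dickson2.D2c`). -/
theorem D2c_all (p : ℕ) [Fact p.Prime] [CharP F p] {C : Type*} [Group C] [Finite C]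
    (ρ : C →* Matrix (Fin 2) (Fin 2) F) (hsq : ∀ c, IsSquare (ρ c).det)
    (N : Subgroup C) (hN : ∀ c, c ∈ N ↔ (ρ c 0 1 = 0 ∧ ρ c 1 0 = 0 ∧ ρ c 0 0 = ρ c 1 1))
    (hcop : ¬ p ∣ N.index) (A : Subgroup C) (hNA : N ≤ A)
    (hcyc : ∃ a ∈ A, ∀ b ∈ A, ∃ i : ℤ, b * (a ^ i)⁻¹ ∈ N)
    (hcore : ∀ a ∈ A, (∀ x : C, x * a * x⁻¹ ∈ A) → a ∈ N) :
    N.relIndex A ≤ 2 ∨ N.index = 12 ∨ N.index = 24 ∨ N.index = 60 := by
  obtain ⟨θ, hθ⟩ := exists_hom_psl ρ hsq
  have hker : θ.ker = N := by
    ext c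
    rw [MonoidHom.mem_ker, hθ, hN]
  set θ' : C →* θ.range := θ.rangeRestrict with hθ'
  have hker' : θ'.ker = N := by rw [hθ', MonoidHom.ker_rangeRestrict, hker]
  have hX : Nat.card θ.range = N.index := by rw [← hker, Subgroup.index_ker]
  have hA' : Nat.card (A.map θ') = N.relIndex A := by rw [← hker', Subgroup.relIndex_ker]
  have hmem : ∀ c, θ' c ∈ A.map θ' → c ∈ A := by
    rintro c ⟨b, hb, hbc⟩
    have : c * b⁻¹ ∈ θ'.ker := by
      rw [MonoidHom.mem_ker, map_mul, map_inv, hbc, mul_inv_cancel]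
    rw [hker'] at this
    have := A.mul_mem (hNA this) hb
    rwa [inv_mul_cancel_right] at this
  rw [← hX, ← hA']
  apply D2a_all p θ.range.subtype θ.range.subtype_injective (by rwa [hX]) (A.map θ')
  · obtain ⟨a, ha, hgen⟩ := hcyc
    refine ⟨⟨⟨θ' a, Subgroup.mem_map_of_mem θ' ha⟩, ?_⟩⟩
    rintro ⟨_, b, hb, rfl⟩
    obtain ⟨i, hi⟩ := hgen b hb
    refine ⟨i, ?_⟩
    apply Subtype.ext
    rw [← hker', MonoidHom.mem_ker, map_mul, map_inv, mul_inv_eq_one] at hi
    simp only [Subgroup.coe_zpow]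
    rw [hi, map_zpow]
  · rintro _ ⟨a, ha, rfl⟩ hx
    have : a ∈ N := by
      apply hcore a ha
      intro x
      apply hmem
      have := hx (θ' x)
      rwa [map_mul, map_mul, map_inv]
    rw [← hker'] at this
    exact this

end All

end Cfsg.Agent.Lib.Helper51_U3Dickson3
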