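import Mathlib
import Cfsg.Agent.Lib.Helper65_U3Defs
import Cfsg.Agent.Lib.Helper51_U3BridgeDefs
import Cfsg.Agent.Lib.Helper51_U3Dickson
import Cfsg.Agent.Lib.Helper51_U3Dickson3

/-!
# S2148: `Dickson1 D` and `Dickson2 D` from the concrete inputs `SLBlock`, `BlockRep` (helper51)

`Facts D` bundles the statements of helper65's BAS packages that the reductions use.
-/

set_option autoImplicit false
set_option linter.unusedSectionVars false

namespace Cfsg.Agent.Lib.Helper51_U3Bridge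

open Cfsg.Agent.Lib.Helper65_U3Defs Cfsg.Agent.Lib.Helper51_U3BridgeDefs

variable {p q : ℕ} {F G U : Type*} [Field F] [Group G] [MulAction G U]

/-- the facts about `B = Q ⋊ T` (helper65's BAS packages) used by the two reductions -/
structure Facts (D : U3Data p q F G U) : Prop where
  mem_B_iff : ∀ {g : G}, g ∈ D.B ↔ ∃ z ∈ D.Q, ∃ s ∈ D.T, g = z * s
  conj_Q_of_mem_B : ∀ {g : G}, g ∈ D.B → ∀ {z : G}, z ∈ D.Q → g * z * g⁻¹ ∈ D.Q
  conj_Z_of_mem_B : ∀ {g : G}, g ∈ D.B → ∀ {z : G}, z ∈ D.Z → g * z * g⁻¹ ∈ D.Z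
  Q_fix : ∀ {z : G}, z ∈ D.Q → z ≠ 1 → ∀ {w : U}, z • w = w → w = D.u
  card_Q : Nat.card ↥D.Q = q ^ 3
  card_Z : Nat.card ↥D.Z = q
  card_T : Nat.card ↥D.T * Nat.gcd 3 (q + 1) = q ^ 2 - 1
  card_B : Nat.card ↥D.B = q ^ 3 * Nat.card ↥D.T
  card_Blk : Nat.card ↥D.Blk = q + 1

variable {D : U3Data p q F G U}

section Basic

theorem u_mem_Blk : D.u ∈ D.Blk := Or.inl rfl

theorem u'_mem_Blk : D.u' ∈ D.Blk := by
  refine Or.inr ⟨0, ?_, ?_⟩
  · rw [zero_pow D.q_pos.ne', add_zero]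
  · rw [D.x_zero_zero, one_smul]

theorem Zat_one : D.Zat 1 = D.Z := by
  ext z
  rw [D.mem_Zat]
  simp

theorem Zat_le_of_smul_eq (hF : Facts D) {g g' : G} (h : g • D.u = g' • D.u) :
    D.Zat g ≤ D.Zat g' := by
  intro z hz
  rw [D.mem_Zat] at hz ⊢
  have hb : g'⁻¹ * g ∈ D.B := by
    rw [D.mem_B, mul_smul, h, ← mul_smul, inv_mul_cancel, one_smul]
  have := hF.conj_Z_of_mem_B hb hz
  have e : g'⁻¹ * g * (g⁻¹ * z * g) * (g'⁻¹ * g)⁻¹ = g'⁻¹ * z * g' := by group
  rwa [e] at this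

theorem Zat_eq_of_smul_eq (hF : Facts D) {g g' : G} (h : g • D.u = g' • D.u) :
    D.Zat g = D.Zat g' :=
  le_antisymm (Zat_le_of_smul_eq hF h) (Zat_le_of_smul_eq hF h.symm)

theorem mem_Zat_mul {h g z : G} : z ∈ D.Zat (h * g) ↔ h⁻¹ * z * h ∈ D.Zat g := by
  rw [D.mem_Zat, D.mem_Zat]
  have e : (h * g)⁻¹ * z * (h * g) = g⁻¹ * (h⁻¹ * z * h) * g := by group
  rw [e]

/-- elements of `Z_v` fix `v` -/
theorem Zat_fix {g z : G} (hz : z ∈ D.Zat g) : z • (g • D.u) = g • D.u := by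
  rw [D.mem_Zat] at hz
  have := D.mem_B.1 (D.Q_le_B (D.Z_le_Q hz))
  rw [mul_smul, mul_smul] at this
  have h2 := congrArg (fun w => g • w) this
  simpa using h2

/-- distinct root groups meet trivially -/
theorem Zat_inf (hF : Facts D) {g g' : G} (hne : g • D.u ≠ g' • D.u) :
    D.Zat g ⊓ D.Zat g' = ⊥ := by
  rw [Subgroup.eq_bot_iff_forall]
  rintro z ⟨hz, hz'⟩
  by_contra h1
  have hfix := Zat_fix hz'
  have hzQ : g⁻¹ * z * g ∈ D.Q := D.Z_le_Q (D.mem_Zat.1 hz)
  have hne1 : g⁻¹ * z * g ≠ 1 := by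
    intro h
    apply h1
    have := congrArg (fun t => g * t * g⁻¹) h
    simp only [mul_one, mul_inv_cancel] at this
    rw [← this]; group
  have hw : (g⁻¹ * z * g) • ((g⁻¹ * g') • D.u) = (g⁻¹ * g') • D.u := by
    rw [← mul_smul]
    have e : g⁻¹ * z * g * (g⁻¹ * g') = g⁻¹ * (z * g') := by group
    rw [e, mul_smul, mul_smul, hfix, ← mul_smul]
  have := hF.Q_fix hzQ hne1 hw
  apply hne
  rw [mul_smul] at this
  have h2 := congrArg (fun w => g • w) this
  simpa using h2.symm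

/-- `p` does not divide `|T|` -/
theorem not_dvd_card_T (hF : Facts D) : ¬ p ∣ Nat.card ↥D.T := by
  intro h
  have h1 : p ∣ q ^ 2 - 1 := by
    rw [← hF.card_T]; exact h.mul_right _
  have h2 : p ∣ q ^ 2 := by
    rw [D.hq, ← pow_mul]
    exact dvd_pow_self p (by have := D.hk; positivity)
  have h3 : 1 ≤ q ^ 2 := Nat.one_le_pow _ _ D.q_pos
  have : p ∣ 1 := by
    have := Nat.dvd_sub h2 h1
    rwa [Nat.sub_sub_self h3] at this
  exact D.hp.one_lt.ne' (Nat.dvd_one.1 this)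

/-- the `p`-elements of `B` lie in `Q` -/
theorem mem_Q_of_pow (hF : Facts D) {x : G} (hx : x ∈ D.B) {m : ℕ} (hm : x ^ (p ^ m) = 1) :
    x ∈ D.Q := by
  have := D.finG
  have hn : (D.Q.subgroupOf D.B).Normal := by
    refine ⟨fun n hn g => ?_⟩
    rw [Subgroup.mem_subgroupOf] at hn ⊢
    exact hF.conj_Q_of_mem_B g.2 hn
  have hidx : (D.Q.subgroupOf D.B).index = Nat.card ↥D.T := by
    have h1 := Subgroup.relIndex_mul_relIndex (⊥ : Subgroup G) D.Q D.B bot_le D.Q_le_B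
    rw [Subgroup.relIndex_bot_left, Subgroup.relIndex_bot_left, hF.card_Q, hF.card_B] at h1
    have hq3 : 0 < q ^ 3 := pow_pos D.q_pos 3
    exact Nat.eq_of_mul_eq_mul_left hq3 h1
  set xb : ↥D.B := ⟨x, hx⟩ with hxb
  have h1 : ((xb : ↥D.B) : ↥D.B ⧸ D.Q.subgroupOf D.B) ^ (p ^ m) = 1 := by
    rw [← QuotientGroup.mk_pow]
    have : xb ^ (p ^ m) = 1 := Subtype.ext (by simpa using hm)
    rw [this]; rfl
  have h2 : ((xb : ↥D.B) : ↥D.B ⧸ D.Q.subgroupOf D.B) ^ (Nat.card ↥D.T) = 1 := by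
    rw [← hidx, Subgroup.index_eq_card]
    exact pow_card_eq_one'
  have hcop : Nat.Coprime (p ^ m) (Nat.card ↥D.T) :=
    Nat.Coprime.pow_left m ((Nat.Prime.coprime_iff_not_dvd D.hp).2 (not_dvd_card_T hF))
  have h3 := pow_gcd_eq_one.2 ⟨h1, h2⟩
  rw [hcop, pow_one, QuotientGroup.eq_one_iff, Subgroup.mem_subgroupOf] at h3
  exact h3

/-- an element of `Q` stabilising the block lies in `Z` -/
theorem mem_Z_of_stab {z : G} (hz : z ∈ D.Q) (hstab : z • D.u' ∈ D.Blk) : z ∈ D.Z := by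
  obtain ⟨a, b, hr, rfl⟩ := D.mem_Q.1 hz
  rcases D.mem_Blk.1 hstab with h | ⟨b', hb', h⟩
  · exfalso
    apply D.huu'
    have h1 : (D.x a b)⁻¹ • D.u = D.u := by
      rw [D.x_inv hr]; exact D.x_fix _ _ (D.rel_inv hr)
    rw [← h1, ← h, ← mul_smul, inv_mul_cancel, one_smul]
  · have hr' : Rel q 0 b' := (D.rel_zero_iff b').2 hb'
    have hri := D.rel_inv hr'
    have hfix : ((D.x 0 b')⁻¹ * D.x a b) • D.u' = D.u' := by
      rw [mul_smul, h, ← mul_smul, inv_mul_cancel, one_smul]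
    rw [D.x_inv hr', D.x_mul _ _ _ _ hri hr] at hfix
    have ha := (D.x_free _ _ (D.rel_mul hri hr) hfix).1
    have ha0 : a = 0 := by simpa using ha
    subst ha0
    exact D.mem_Z.2 ⟨b, (D.rel_zero_iff b).1 hr, rfl⟩

/-- for every point `w` of the block there is an element stabilising the block and moving `u` to
`w` -/
theorem exists_stab {w : U} (hw : w ∈ D.Blk) :
    ∃ g : G, g • D.u = w ∧ (∀ v ∈ D.Blk, g • v ∈ D.Blk) ∧ (∀ v ∈ D.Blk, g⁻¹ • v ∈ D.Blk) := by
  by_cases hwu : w = D.u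
  · refine ⟨1, by rw [one_smul, hwu], fun v hv => by rwa [one_smul],
      fun v hv => by rwa [inv_one, one_smul]⟩
  · obtain ⟨g, hg1, hg2⟩ := D.two_trans D.u D.u' w D.u D.huu' hwu
    have hfw : ∀ v ∈ D.Blk, g • v ∈ D.Blk := by
      apply D.blk_unique g
      · rw [hg1]; exact hw
      · rw [hg2]; exact Or.inl rfl
    refine ⟨g, hg1, hfw, ?_⟩
    have := D.finiteU
    let f : ↥D.Blk → ↥D.Blk := fun v => ⟨g • (v : U), hfw v v.2⟩
    have hinj : Function.Injective f := by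
      intro v v' h
      have := congrArg Subtype.val h
      exact Subtype.ext (MulAction.injective g this)
    have hsurj := Finite.surjective_of_injective hinj
    intro v hv
    obtain ⟨v', hv'⟩ := hsurj ⟨v, hv⟩
    have := congrArg Subtype.val hv'
    simp only [f] at this
    rw [← this, ← mul_smul, inv_mul_cancel, one_smul]
    exact v'.2

/-- a `p`-subgroup stabilising the block fixes one of its points -/
theorem exists_fixed (hF : Facts D) (P : Subgroup G) (hP : IsPGroup p P)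
    (hstab : ∀ s ∈ P, ∀ w ∈ D.Blk, s • w ∈ D.Blk) : ∃ w ∈ D.Blk, ∀ s ∈ P, s • w = w := by
  have := D.finiteU
  have hpp : Fact p.Prime := ⟨D.hp⟩
  let act : MulAction ↥P ↥D.Blk :=
    { smul := fun s w => ⟨(s : G) • (w : U), hstab s s.2 w w.2⟩
      one_smul := fun w => Subtype.ext (one_smul G (w : U))
      mul_smul := fun s t w => Subtype.ext (mul_smul (s : G) (t : G) (w : U)) }
  have hnd : ¬ p ∣ Nat.card ↥D.Blk := by
    rw [hF.card_Blk]
    intro h
    have h2 : p ∣ q := by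
      rw [D.hq]; exact dvd_pow_self p D.hk.ne'
    have : p ∣ 1 := (Nat.dvd_add_right h2).1 h
    exact D.hp.one_lt.ne' (Nat.dvd_one.1 this)
  obtain ⟨w, hw⟩ := hP.nonempty_fixed_point_of_prime_not_dvd_card (↥D.Blk) hnd
  refine ⟨w, w.2, fun s hs => ?_⟩
  have := hw ⟨s, hs⟩
  exact congrArg Subtype.val this

end Basic

section Dickson1

variable {Gt : Type*} [Group Gt]

theorem Zat_le_S (hF : Facts D) (R : SLBlock D Gt) {g : G} (hg : g • D.u ∈ D.Blk) :
    D.Zat g ≤ R.S1.map R.π := by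
  rcases D.mem_Blk.1 hg with h | ⟨b, hb, h⟩
  · have : g • D.u = (1 : G) • D.u := by rw [h, one_smul]
    rw [Zat_eq_of_smul_eq hF this, Zat_one]
    exact R.Z_le
  · have hxZ : D.x 0 b ∈ D.Z := D.mem_Z.2 ⟨b, hb, rfl⟩
    have : g • D.u = (D.x 0 b * R.n) • D.u := by rw [h, mul_smul, R.n_u]
    rw [Zat_eq_of_smul_eq hF this]
    intro z hz
    rw [mem_Zat_mul] at hz
    have h1 := R.Zn_le hz
    have h2 := R.Z_le hxZ
    have := (R.S1.map R.π).mul_mem ((R.S1.map R.π).mul_mem h2 h1) ((R.S1.map R.π).inv_mem h2)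
    have e : D.x 0 b * ((D.x 0 b)⁻¹ * z * D.x 0 b) * (D.x 0 b)⁻¹ = z := by group
    rwa [e] at this

theorem S_stab (R : SLBlock D Gt) {s : G} (hs : s ∈ R.S1.map R.π) {w : U} (hw : w ∈ D.Blk) :
    s • w ∈ D.Blk := by
  obtain ⟨s1, hs1, rfl⟩ := hs
  exact R.stab s1 hs1 w hw

/-- every `p`-subgroup of the image of `S1` lies in a root group `Z_v`, `v` on the block -/
theorem exists_Zat_of_pgroup (hF : Facts D) (R : SLBlock D Gt) (P : Subgroup G)
    (hP : IsPGroup p P) (hPS : P ≤ R.S1.map R.π) :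
    ∃ g : G, g • D.u ∈ D.Blk ∧ P ≤ D.Zat g := by
  obtain ⟨w, hw, hfix⟩ := exists_fixed hF P hP (fun s hs v hv => S_stab R (hPS hs) hv)
  obtain ⟨g, hg, hst, hst'⟩ := exists_stab hw
  refine ⟨g, by rw [hg]; exact hw, fun x hx => ?_⟩
  rw [D.mem_Zat]
  have hxB : g⁻¹ * x * g ∈ D.B := by
    rw [D.mem_B, mul_smul, mul_smul, hg, hfix x hx, ← hg, ← mul_smul, inv_mul_cancel, one_smul]
  obtain ⟨m, hm⟩ := hP ⟨x, hx⟩
  have hm' : (g⁻¹ * x * g) ^ (p ^ m) = 1 := by
    have hx1 : x ^ (p ^ m) = 1 := by simpa using congrArg Subtype.val hm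
    have e : g⁻¹ * x * g = g⁻¹ * x * g⁻¹⁻¹ := by rw [inv_inv]
    rw [e, conj_pow, hx1, mul_one, mul_inv_cancel]
  have hxQ := mem_Q_of_pow hF hxB hm'
  apply mem_Z_of_stab hxQ
  rw [mul_smul, mul_smul]
  exact hst' _ (S_stab R (hPS hx) (hst _ u'_mem_Blk))

theorem isPGroup_Zat (hF : Facts D) (g : G) : IsPGroup p ↥(D.Zat g) := by
  have hc : Nat.card ↥(D.Zat g) = p ^ D.k := by
    unfold U3Data.Zat
    rw [Subgroup.card_map_of_injective (MulAut.conj g).injective, hF.card_Z]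
    exact D.hq
  have hpp : Fact p.Prime := ⟨D.hp⟩
  exact IsPGroup.of_card hc

/-- **`Dickson1 D` from the concrete input `SLBlock`.** -/
theorem dickson1_of_slBlock (hF : Facts D) (R : SLBlock D Gt) : Dickson1 D := by
  intro H' y hy h1 h2
  have := D.finG
  have hpp : Fact p.Prime := ⟨D.hp⟩
  have := D.charF
  have := D.finiteF
  have : Fintype F := Fintype.ofFinite F
  set S := R.S1.map R.π with hS
  set K := H' ⊓ S with hK
  -- the embedding into `SL(2,F)`
  have hinj : Function.Injective (R.π.subgroupMap R.S1) := by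
    rw [injective_iff_map_eq_one]
    intro s hs
    have := congrArg Subtype.val hs
    exact Subtype.ext (R.π_inj s s.2 (by simpa using this))
  let e : R.S1 ≃* ↥S :=
    MulEquiv.ofBijective (R.π.subgroupMap R.S1) ⟨hinj, R.π.subgroupMap_surjective R.S1⟩
  let φK : ↥K →* Matrix.SpecialLinearGroup (Fin 2) F :=
    (R.φ.comp e.symm.toMonoidHom).comp (Subgroup.inclusion (inf_le_right : K ≤ S))
  have hφK : Function.Injective φK :=
    (R.φ_inj.comp e.symm.injective).comp (Subgroup.inclusion_injective _)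
  -- the candidates for the Sylow subgroups
  have hYK : ∀ g : G, g • D.u ∈ D.Blk → H' ⊓ D.Zat g ≤ K := fun g hg =>
    le_inf inf_le_left (inf_le_right.trans (Zat_le_S hF R hg))
  have hYcard : ∀ g : G, g • D.u ∈ D.Blk →
      Nat.card ↥((H' ⊓ D.Zat g).subgroupOf K) = y := fun g hg => by
    rw [Nat.card_congr (Subgroup.subgroupOfEquivOfLe (hYK g hg)).toEquiv, hy g hg]
  have hYp : ∀ g : G, IsPGroup p ↥((H' ⊓ D.Zat g).subgroupOf K) := fun g =>
    ((isPGroup_Zat hF g).to_le inf_le_right).comap_subtype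
  have hYle : ∀ g g' : G, g • D.u ∈ D.Blk →
      (H' ⊓ D.Zat g).subgroupOf K ≤ (H' ⊓ D.Zat g').subgroupOf K → g • D.u = g' • D.u := by
    intro g g' hg hle
    by_contra hne
    have hbot := Zat_inf hF hne
    have : H' ⊓ D.Zat g = ⊥ := by
      rw [Subgroup.eq_bot_iff_forall]
      intro x hx
      have hxK : x ∈ K := hYK g hg hx
      have h1 : (⟨x, hxK⟩ : ↥K) ∈ (H' ⊓ D.Zat g).subgroupOf K := by
        rw [Subgroup.mem_subgroupOf]; exact hx
      have h2 := hle h1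
      rw [Subgroup.mem_subgroupOf] at h2
      have : x ∈ D.Zat g ⊓ D.Zat g' := ⟨hx.2, h2.2⟩
      rw [hbot] at this
      exact this
    have hc := hy g hg
    rw [this, Subgroup.card_bot] at hc
    omega
  have hY3 : ∀ P : Subgroup ↥K, IsPGroup p ↥P →
      ∃ g : G, g • D.u ∈ D.Blk ∧ P ≤ (H' ⊓ D.Zat g).subgroupOf K := by
    intro P hP
    obtain ⟨g, hg, hle⟩ := exists_Zat_of_pgroup hF R (P.map K.subtype) (hP.map K.subtype)
      (by
        rintro _ ⟨x, -, rfl⟩
        exact x.2.2)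
    refine ⟨g, hg, fun x hx => ?_⟩
    rw [Subgroup.mem_subgroupOf]
    exact ⟨x.2.1, hle (Subgroup.mem_map_of_mem K.subtype hx)⟩
  have key : ∀ P : Sylow p ↥K, ∃ g : G, g • D.u ∈ D.Blk ∧
      (H' ⊓ D.Zat g).subgroupOf K = (P : Subgroup ↥K) := by
    intro P
    obtain ⟨g, hg, hle⟩ := hY3 P P.2
    exact ⟨g, hg, P.is_maximal' (hYp g) hle⟩
  have hyK : ∀ P : Sylow p ↥K, Nat.card ↥(P : Subgroup ↥K) = y := by
    intro P
    obtain ⟨g, hg, he⟩ := key P
    rw [← he]
    exact hYcard g hg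
  have hn : Nat.card (Sylow p ↥K) = q + 1 := by
    rw [← hF.card_Blk]
    let f : Sylow p ↥K → ↥D.Blk := fun P =>
      ⟨Classical.choose (key P) • D.u, (Classical.choose_spec (key P)).1⟩
    apply Nat.card_eq_of_bijective f
    constructor
    · intro P P' h
      have h' : Classical.choose (key P) • D.u = Classical.choose (key P') • D.u :=
        congrArg Subtype.val h
      apply Sylow.ext
      rw [← (Classical.choose_spec (key P)).2, ← (Classical.choose_spec (key P')).2,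
        Zat_eq_of_smul_eq hF h']
    · rintro ⟨w, hw⟩
      obtain ⟨g0, hg0, -, -⟩ := exists_stab hw
      have hg0B : g0 • D.u ∈ D.Blk := by rw [hg0]; exact hw
      obtain ⟨P, hP⟩ := (hYp g0).exists_le_sylow
      refine ⟨P, Subtype.ext ?_⟩
      show Classical.choose (key P) • D.u = w
      rw [← hg0]
      symm
      apply hYle g0 _ hg0B
      rw [(Classical.choose_spec (key P)).2]
      exact hP
  exact Cfsg.Agent.Lib.Helper51_U3Dickson.D1 p φK hφK q y D.k D.hq hn hyK h1 h2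

end Dickson1

section Dickson2

variable {Gt : Type*} [Group Gt] [Finite Gt]

/-- orbit-stabiliser for a subgroup transitive on the block -/
theorem relIndex_B_of_trans (hF : Facts D) (C : Subgroup G)
    (hCstab : ∀ c ∈ C, ∀ w ∈ D.Blk, c • w ∈ D.Blk)
    (htrans : ∀ w ∈ D.Blk, ∃ c ∈ C, c • D.u = w) : D.B.relIndex C = q + 1 := by
  have hst : MulAction.stabilizer ↥C D.u = D.B.subgroupOf C := by
    ext x
    rw [MulAction.mem_stabilizer_iff, Subgroup.mem_subgroupOf, D.mem_B]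
    rfl
  have horb : MulAction.orbit ↥C D.u = D.Blk := by
    ext w
    constructor
    · rintro ⟨c, rfl⟩
      exact hCstab c c.2 _ u_mem_Blk
    · intro hw
      obtain ⟨c, hc, rfl⟩ := htrans w hw
      exact ⟨⟨c, hc⟩, rfl⟩
  rw [Subgroup.relIndex, ← hst, MulAction.index_stabilizer, horb, ← Nat.card_coe_set_eq,
    hF.card_Blk]

/-- **`Dickson2 D` from the concrete input `BlockRep`.** -/
theorem dickson2_of_blockRep (hF : Facts D) (R : BlockRep D Gt) : Dickson2 D := by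
  intro C e hCstab hcop htrans hcyc hcard
  have := D.finG
  have hpp : Fact p.Prime := ⟨D.hp⟩
  have := D.charF
  have := D.finiteF
  have : Fintype F := Fintype.ofFinite F
  have hfixB : D.blkFix ≤ D.B := fun g hg => D.mem_B.2 (hg _ u_mem_Blk)
  have hXY : C ⊓ D.blkFix ≤ C ⊓ D.B := inf_le_inf_left C hfixB
  -- the numbers
  have hrel1 : (C ⊓ D.blkFix).relIndex (C ⊓ D.B) = e := by
    have h1 := Subgroup.relIndex_mul_relIndex (⊥ : Subgroup G) (C ⊓ D.blkFix) (C ⊓ D.B) bot_le hXY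
    rw [Subgroup.relIndex_bot_left, Subgroup.relIndex_bot_left, hcard, mul_comm] at h1
    have hpos : 0 < Nat.card ↥(C ⊓ D.blkFix) := Nat.card_pos
    exact Nat.eq_of_mul_eq_mul_right hpos h1
  have hrel2 : (C ⊓ D.B).relIndex C = q + 1 := by
    rw [Subgroup.inf_relIndex_left]
    exact relIndex_B_of_trans hF C hCstab htrans
  have hrel3 : (C ⊓ D.blkFix).relIndex C = e * (q + 1) := by
    rw [← Subgroup.relIndex_mul_relIndex _ _ _ hXY inf_le_left, hrel1, hrel2]
  -- the covering group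
  set Ct := C.comap R.π with hCtdef
  have hCt : Ct ≤ R.St := fun g hg => R.mem_St g (fun w hw => hCstab _ hg w hw)
  let ρ' : ↥Ct →* Matrix (Fin 2) (Fin 2) F := R.ρ.comp (Subgroup.inclusion hCt)
  set N : Subgroup ↥Ct := ((C ⊓ D.blkFix).comap R.π).subgroupOf Ct with hNdef
  set A : Subgroup ↥Ct := ((C ⊓ D.B).comap R.π).subgroupOf Ct with hAdef
  have hmap : Ct.map R.π = C := Subgroup.map_comap_eq_self_of_surjective R.π_surj C
  have hNidx : N.index = e * (q + 1) := by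
    rw [hNdef, ← Subgroup.relIndex, Subgroup.relIndex_comap, hmap, hrel3]
  have hNA : N ≤ A := by
    intro x hx
    rw [hNdef, Subgroup.mem_subgroupOf, Subgroup.mem_comap] at hx
    rw [hAdef, Subgroup.mem_subgroupOf, Subgroup.mem_comap]
    exact hXY hx
  have hNArel : N.relIndex A = e := by
    have hle : (C ⊓ D.B).comap R.π ≤ Ct := Subgroup.comap_mono inf_le_left
    rw [hNdef, hAdef, Subgroup.relIndex_subgroupOf hle, Subgroup.relIndex_comap,
      Subgroup.map_comap_eq_self_of_surjective R.π_surj, hrel1]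
  have hN : ∀ c : ↥Ct, c ∈ N ↔ (ρ' c 0 1 = 0 ∧ ρ' c 1 0 = 0 ∧ ρ' c 0 0 = ρ' c 1 1) := by
    intro c
    rw [hNdef, Subgroup.mem_subgroupOf, Subgroup.mem_comap]
    have := R.scalar_iff (Subgroup.inclusion hCt c)
    rw [show ρ' c = R.ρ (Subgroup.inclusion hCt c) from rfl, this]
    constructor
    · intro h; exact h.2
    · intro h; exact ⟨c.2, h⟩
  have hcopN : ¬ p ∣ N.index := by
    rw [hNidx, ← hrel3]
    intro h
    have h2 := h.trans (Subgroup.relIndex_dvd_card (C ⊓ D.blkFix) C)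
    have := Nat.Coprime.eq_one_of_dvd hcop.symm h2
    exact D.hp.one_lt.ne' this
  have hcycA : ∃ a ∈ A, ∀ b ∈ A, ∃ i : ℤ, b * (a ^ i)⁻¹ ∈ N := by
    obtain ⟨a0, ha0⟩ := hcyc.exists_generator
    obtain ⟨at0, hat0⟩ := R.π_surj (a0 : G)
    have hatC : at0 ∈ Ct := by
      rw [hCtdef, Subgroup.mem_comap, hat0]; exact a0.2.1
    refine ⟨⟨at0, hatC⟩, ?_, ?_⟩
    · rw [hAdef, Subgroup.mem_subgroupOf, Subgroup.mem_comap]
      show R.π at0 ∈ C ⊓ D.B
      rw [hat0]; exact a0.2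
    · intro b hb
      rw [hAdef, Subgroup.mem_subgroupOf, Subgroup.mem_comap] at hb
      obtain ⟨i, hi⟩ := Subgroup.mem_zpowers_iff.1 (ha0 ⟨R.π (b : Gt), hb⟩)
      refine ⟨i, ?_⟩
      rw [hNdef, Subgroup.mem_subgroupOf, Subgroup.mem_comap]
      have hi' : (a0 : G) ^ i = R.π (b : Gt) := by
        have := congrArg Subtype.val hi
        simpa using this
      have : R.π ((b * (⟨at0, hatC⟩ ^ i)⁻¹ : ↥Ct) : Gt) = 1 := by
        simp only [Subgroup.coe_mul, Subgroup.coe_inv, Subgroup.coe_zpow, map_mul, map_inv,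
          map_zpow, hat0, hi', mul_inv_cancel]
      rw [this]
      exact Subgroup.one_mem _
  have hcoreA : ∀ a ∈ A, (∀ x : ↥Ct, x * a * x⁻¹ ∈ A) → a ∈ N := by
    intro a ha hx
    rw [hAdef, Subgroup.mem_subgroupOf, Subgroup.mem_comap] at ha
    rw [hNdef, Subgroup.mem_subgroupOf, Subgroup.mem_comap]
    refine ⟨ha.1, fun w hw => ?_⟩
    obtain ⟨c, hc, rfl⟩ := htrans w hw
    obtain ⟨ct, hct⟩ := R.π_surj c
    have hctC : ct ∈ Ct := by
      rw [hCtdef, Subgroup.mem_comap, hct]; exact hc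
    have h1 := hx (⟨ct, hctC⟩⁻¹)
    rw [hAdef, Subgroup.mem_subgroupOf, Subgroup.mem_comap] at h1
    have h2 : c⁻¹ * R.π (a : Gt) * c ∈ D.B := by
      have := h1.2
      simpa [hct] using this
    rw [D.mem_B, mul_smul, mul_smul] at h2
    have h3 := congrArg (fun v => c • v) h2
    simpa using h3
  have hsq : ∀ c : ↥Ct, IsSquare (ρ' c).det := fun c => R.det_sq _
  have := Cfsg.Agent.Lib.Helper51_U3Dickson3.D2c_all p ρ' hsq N hN hcopN A hNA hcycA hcoreA
  rw [hNArel, hNidx, mul_comm e (q + 1)] at this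
  exact this

end Dickson2

end Cfsg.Agent.Lib.Helper51_U3Bridge
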