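import Mathlib
import Cfsg.Agent.Lib.Helper65_U3Defs

set_option autoImplicit false
set_option linter.unusedSectionVars false
set_option linter.unusedVariables false

/-!
# S2148: adapter from data on `G0 = SU_3(q)` (centre acting trivially) to `U3Data` on `G0 ⧸ Z(G0)`
-/

namespace Cfsg.Agent.Lib.Helper65_U3Adapter

open Cfsg.Agent.Lib.Helper65_U3Defs

/-- The same data as `U3Data`, for a group `G` whose centre acts trivially on `U`
(model: `G = SU_3(q)`); simplicity, the kernel of the torus and the involution property are stated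
modulo the centre. -/
structure U3DataSU (p q : ℕ) (F G U : Type*) [Field F] [Group G] [MulAction G U] where
  hp : p.Prime
  k : ℕ
  hk : 0 < k
  hq : q = p ^ k
  charF : CharP F p
  cardF : Nat.card F = q ^ 2
  finG : Finite G
  cardU : Nat.card U = q ^ 3 + 1
  two_trans : ∀ a b c d : U, a ≠ b → c ≠ d → ∃ g : G, g • a = c ∧ g • b = d
  hC : ∀ c ∈ Subgroup.center G, ∀ w : U, c • w = w
  simple : IsSimpleGroup (G ⧸ Subgroup.center G)
  u : U
  u' : U
  huu' : u ≠ u'
  x : F → F → G
  t : Fˣ →* G
  x_mul : ∀ a b a' b' : F, Rel q a b → Rel q a' b' →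
    x a b * x a' b' = x (a + a') (b + b' - a ^ q * a')
  t_conj : ∀ (l : Fˣ) (a b : F), Rel q a b →
    t l * x a b * (t l)⁻¹ = x ((l : F) ^ (2 * q - 1) * a) ((l : F) ^ (q + 1) * b)
  t_ker : ∀ l : Fˣ, t l ∈ Subgroup.center G ↔ l ^ (q + 1) = 1 ∧ l ^ 3 = 1
  x_fix : ∀ a b : F, Rel q a b → x a b • u = u
  t_fix : ∀ l : Fˣ, t l • u = u ∧ t l • u' = u'
  stab_u : ∀ g : G, g • u = u → ∃ (a b : F) (l : Fˣ), Rel q a b ∧ g = x a b * t l
  x_free : ∀ a b : F, Rel q a b → x a b • u' = u' → a = 0 ∧ b = 0
  blk_unique : ∀ g : G, InBlk q x u u' (g • u) → InBlk q x u u' (g • u') →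
    ∀ w, InBlk q x u u' w → InBlk q x u u' (g • w)
  inv_fix : p ≠ 2 → ∀ g : G, g ^ 2 ∈ Subgroup.center G → g ∉ Subgroup.center G →
    ∃ w : U, g • w = w

variable {p q : ℕ} {F G U : Type*} [Field F] [Group G] [MulAction G U]

/-- The action of `G ⧸ Z(G)` on `U` when the centre acts trivially. -/
@[reducible]
def quotAction (hC : ∀ c ∈ Subgroup.center G, ∀ w : U, c • w = w) :
    MulAction (G ⧸ Subgroup.center G) U where
  smul gb w := Quotient.liftOn' gb (fun g => g • w) (by
    intro a b hab
    have h : a⁻¹ * b ∈ Subgroup.center G := QuotientGroup.leftRel_apply.mp hab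
    have h2 := hC _ h w
    show a • w = b • w
    rw [mul_smul, inv_smul_eq_iff] at h2
    exact h2.symm)
  one_smul w := by
    show (1 : G) • w = w
    exact one_smul _ _
  mul_smul a b w := by
    induction a using QuotientGroup.induction_on with
    | H a =>
      induction b using QuotientGroup.induction_on with
      | H b =>
        show (a * b) • w = a • (b • w)
        exact mul_smul a b w

theorem quot_smul_mk (hC : ∀ c ∈ Subgroup.center G, ∀ w : U, c • w = w) (g : G) (w : U) :
    (quotAction hC).smul (QuotientGroup.mk g : G ⧸ Subgroup.center G) w = g • w := rfl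

namespace U3DataSU

variable (D0 : U3DataSU p q F G U)

/-- The induced data on `G ⧸ Z(G)` (with the action `quotAction D0.hC`). -/
def toU3Data : @U3Data p q F (G ⧸ Subgroup.center G) U _ _ (quotAction D0.hC) :=
  letI := quotAction D0.hC
  have hsm : ∀ (g : G) (w : U), (QuotientGroup.mk g : G ⧸ Subgroup.center G) • w = g • w :=
    fun _ _ => rfl
  have hblk : ∀ w : U, InBlk q (fun a b => (QuotientGroup.mk (D0.x a b) : G ⧸ Subgroup.center G))
      D0.u D0.u' w ↔ InBlk q D0.x D0.u D0.u' w := by
    intro w
    unfold InBlk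
    constructor
    · rintro (h | ⟨b, hb, h⟩)
      · exact Or.inl h
      · exact Or.inr ⟨b, hb, by rw [h]; rfl⟩
    · rintro (h | ⟨b, hb, h⟩)
      · exact Or.inl h
      · exact Or.inr ⟨b, hb, by rw [h]; rfl⟩
  { hp := D0.hp
    k := D0.k
    hk := D0.hk
    hq := D0.hq
    charF := D0.charF
    cardF := D0.cardF
    finG := by
      have := D0.finG
      infer_instance
    cardU := D0.cardU
    two_trans := by
      intro a b c d hab hcd
      obtain ⟨g, h1, h2⟩ := D0.two_trans a b c d hab hcd
      exact ⟨QuotientGroup.mk g, h1, h2⟩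
    simple := D0.simple
    u := D0.u
    u' := D0.u'
    huu' := D0.huu'
    x := fun a b => QuotientGroup.mk (D0.x a b)
    t := (QuotientGroup.mk' (Subgroup.center G)).comp D0.t
    x_mul := by
      intro a b a' b' h h'
      show (QuotientGroup.mk (D0.x a b) : G ⧸ Subgroup.center G) * QuotientGroup.mk (D0.x a' b') = _
      rw [← QuotientGroup.mk_mul, D0.x_mul a b a' b' h h']
    t_conj := by
      intro l a b h
      show (QuotientGroup.mk (D0.t l) : G ⧸ Subgroup.center G) * QuotientGroup.mk (D0.x a b) *
        (QuotientGroup.mk (D0.t l))⁻¹ = _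
      rw [← QuotientGroup.mk_mul, ← QuotientGroup.mk_inv, ← QuotientGroup.mk_mul,
        D0.t_conj l a b h]
    t_ker := by
      intro l
      show (QuotientGroup.mk (D0.t l) : G ⧸ Subgroup.center G) = 1 ↔ _
      rw [QuotientGroup.eq_one_iff]
      exact D0.t_ker l
    x_fix := fun a b h => D0.x_fix a b h
    t_fix := fun l => D0.t_fix l
    stab_u := by
      intro gb hgb
      induction gb using QuotientGroup.induction_on with
      | H g =>
        obtain ⟨a, b, l, h, rfl⟩ := D0.stab_u g hgb
        exact ⟨a, b, l, h, rfl⟩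
    x_free := fun a b h hfix => D0.x_free a b h hfix
    blk_unique := by
      intro gb h1 h2 w hw
      induction gb using QuotientGroup.induction_on with
      | H g =>
        rw [hblk] at h1 h2 hw ⊢
        exact D0.blk_unique g h1 h2 w hw
    inv_fix := by
      intro hp2 gb hgb
      induction gb using QuotientGroup.induction_on with
      | H g =>
        have h2 : g ^ 2 ∈ Subgroup.center G := by
          rw [← QuotientGroup.eq_one_iff, QuotientGroup.mk_pow, ← hgb, pow_orderOf_eq_one]
        have h1 : g ∉ Subgroup.center G := by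
          intro hc
          rw [← QuotientGroup.eq_one_iff] at hc
          rw [hc, orderOf_one] at hgb
          omega
        obtain ⟨w, hw⟩ := D0.inv_fix hp2 g h2 h1
        exact ⟨w, hw⟩ }

end U3DataSU

end Cfsg.Agent.Lib.Helper65_U3Adapter
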