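import Mathlib
import Cfsg.Agent.Lib.Helper65_U3Adapter
import Cfsg.Agent.Lib.Helper51_U3BridgeDefs

/-!
# S2148: the concrete inputs `SLBlock`, `BlockRep` stated on `SU_3` itself (helper51)

For `D0 : U3DataSU p q F G U` (helper65's adapter; `G = SU_3(q)`, centre acting trivially) the
structures `SLBlockSU D0`, `BlockRepSU D0` only mention `G`, its action on `U` and `InBlk`; they are
turned into `SLBlock D0.toU3Data G`, `BlockRep D0.toU3Data G` (with `π = QuotientGroup.mk'`).
-/

set_option autoImplicit false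
set_option linter.unusedSectionVars false

namespace Cfsg.Agent.Lib.Helper51_U3BridgeSU

open Cfsg.Agent.Lib.Helper65_U3Defs Cfsg.Agent.Lib.Helper65_U3Adapter
  Cfsg.Agent.Lib.Helper51_U3BridgeDefs

variable {p q : ℕ} {F G U : Type*} [Field F] [Group G] [MulAction G U]

/-- Concrete input for `Dickson2`, on `SU_3`. -/
structure BlockRepSU (D0 : U3DataSU p q F G U) where
  /-- the stabiliser of the hyperbolic line `L0` -/
  St : Subgroup G
  mem_St : ∀ g : G, (∀ w, InBlk q D0.x D0.u D0.u' w → InBlk q D0.x D0.u D0.u' (g • w)) → g ∈ St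
  /-- the action on `L0` in the basis `e1, e3` -/
  ρ : St →* Matrix (Fin 2) (Fin 2) F
  det_sq : ∀ s : St, IsSquare (ρ s).det
  scalar_iff : ∀ s : St, (ρ s 0 1 = 0 ∧ ρ s 1 0 = 0 ∧ ρ s 0 0 = ρ s 1 1) ↔
    ∀ w, InBlk q D0.x D0.u D0.u' w → (s : G) • w = w

/-- Concrete input for `Dickson1`, on `SU_3`. -/
structure SLBlockSU (D0 : U3DataSU p q F G U) where
  /-- `SU(L0)` -/
  S1 : Subgroup G
  φ : S1 →* Matrix.SpecialLinearGroup (Fin 2) F
  φ_inj : Function.Injective φ
  inf_center : ∀ s ∈ S1, s ∈ Subgroup.center G → s = 1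
  stab : ∀ s ∈ S1, ∀ w, InBlk q D0.x D0.u D0.u' w → InBlk q D0.x D0.u D0.u' (s • w)
  Z_le : ∀ b : F, b + b ^ q = 0 → D0.x 0 b ∈ S1
  /-- an element moving `u` to `u'` -/
  n : G
  n_u : n • D0.u = D0.u'
  Zn_le : ∀ b : F, b + b ^ q = 0 → n * D0.x 0 b * n⁻¹ ∈ S1

variable (D0 : U3DataSU p q F G U)

theorem inBlk_iff (w : U) :
    @InBlk F (G ⧸ Subgroup.center G) U _ _ (quotAction D0.hC) q
        (fun a b => (QuotientGroup.mk (D0.x a b) : G ⧸ Subgroup.center G)) D0.u D0.u' w ↔
      InBlk q D0.x D0.u D0.u' w := by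
  unfold InBlk
  constructor
  · rintro (h | ⟨b, hb, h⟩)
    · exact Or.inl h
    · exact Or.inr ⟨b, hb, by rw [h]; rfl⟩
  · rintro (h | ⟨b, hb, h⟩)
    · exact Or.inl h
    · exact Or.inr ⟨b, hb, by rw [h]; rfl⟩

/-- `BlockRep` for the quotient data from `BlockRepSU`. -/
def BlockRepSU.toBlockRep (R : BlockRepSU D0) :
    @BlockRep p q F (G ⧸ Subgroup.center G) U _ _ (quotAction D0.hC) D0.toU3Data G _ :=
  letI := quotAction D0.hC
  { π := QuotientGroup.mk' (Subgroup.center G)
    π_surj := QuotientGroup.mk'_surjective _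
    St := R.St
    mem_St := by
      intro g hg
      apply R.mem_St g
      intro w hw
      have := hg w ((inBlk_iff D0 w).2 hw)
      exact (inBlk_iff D0 _).1 this
    ρ := R.ρ
    det_sq := R.det_sq
    scalar_iff := by
      intro s
      rw [R.scalar_iff s]
      constructor
      · intro h w hw
        exact h w ((inBlk_iff D0 w).1 hw)
      · intro h w hw
        exact h w ((inBlk_iff D0 w).2 hw) }

/-- `SLBlock` for the quotient data from `SLBlockSU`. -/
def SLBlockSU.toSLBlock (R : SLBlockSU D0) :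
    @SLBlock p q F (G ⧸ Subgroup.center G) U _ _ (quotAction D0.hC) D0.toU3Data G _ :=
  letI := quotAction D0.hC
  { π := QuotientGroup.mk' (Subgroup.center G)
    S1 := R.S1
    φ := R.φ
    φ_inj := R.φ_inj
    π_inj := by
      intro s hs h
      exact R.inf_center s hs ((QuotientGroup.eq_one_iff s).1 h)
    stab := by
      intro s hs w hw
      exact (inBlk_iff D0 _).2 (R.stab s hs w ((inBlk_iff D0 w).1 hw))
    Z_le := by
      rintro _ ⟨b, hb, rfl⟩
      exact ⟨D0.x 0 b, R.Z_le b hb, rfl⟩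
    n := QuotientGroup.mk R.n
    n_u := R.n_u
    Zn_le := by
      intro z hz
      rw [U3Data.mem_Zat] at hz
      obtain ⟨b, hb, h⟩ := hz
      refine ⟨R.n * D0.x 0 b * R.n⁻¹, R.Zn_le b hb, ?_⟩
      have h' : (QuotientGroup.mk R.n : G ⧸ Subgroup.center G)⁻¹ * z * QuotientGroup.mk R.n =
          QuotientGroup.mk (D0.x 0 b) := h
      have : z = QuotientGroup.mk R.n * QuotientGroup.mk (D0.x 0 b) *
          (QuotientGroup.mk R.n : G ⧸ Subgroup.center G)⁻¹ := by
        rw [← h']; group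
      rw [this]
      rfl }

end Cfsg.Agent.Lib.Helper51_U3BridgeSU
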