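import Mathlib
import Cfsg.Agent.Lib.Helper65_U3Defs
import Cfsg.Agent.Lib.Helper65_U3A_BAS1
import Cfsg.Agent.Lib.Helper65_U3A_BAS2
import Cfsg.Agent.Lib.Helper65_U3A_BAS3
import Cfsg.Agent.Lib.Helper27_U3A_BAS4
import Cfsg.Agent.Lib.Helper27_U3A_BAS5

set_option autoImplicit false
set_option linter.unusedSectionVars false
set_option linter.unusedVariables false

/-!
# U3A-BAS6 (architect helper65, S2148 abstract half): homologies fix exactly the block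

The `_aux` forms carry the dependencies BAS1-5 as explicit hypotheses; `blkFix_eq`, `card_Blk`, `T1_fix`
are the verbatim package statements.
-/

open Cfsg.Agent.Lib.Helper65_U3Defs

namespace Cfsg.Agent.Lib.Helper82_U3A_BAS6

variable {p q : ℕ} {F G U : Type*} [Field F] [Group G] [MulAction G U]
variable (D : U3Data p q F G U)

/-- an element of `Q` fixing `u'` is trivial -/
theorem Q_fix_u' {z : G} (hz : z ∈ D.Q) (h : z • D.u' = D.u') : z = 1 := by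
  obtain ⟨a, b, hab, rfl⟩ := D.mem_Q.mp hz
  obtain ⟨ha, hb⟩ := D.x_free a b hab h
  rw [ha, hb, D.x_zero_zero]

theorem u_mem_Blk : D.u ∈ D.Blk := D.mem_Blk.mpr (Or.inl rfl)

theorem Z_smul_mem_Blk {z : G} (hz : z ∈ D.Z) : z • D.u' ∈ D.Blk := by
  obtain ⟨b, hb, rfl⟩ := D.mem_Z.mp hz
  exact D.mem_Blk.mpr (Or.inr ⟨b, hb, rfl⟩)

theorem u'_mem_Blk : D.u' ∈ D.Blk := by
  have := Z_smul_mem_Blk D D.Z.one_mem
  rwa [one_smul] at this

theorem mem_Blk_iff {w : U} : w ∈ D.Blk ↔ w = D.u ∨ ∃ z ∈ D.Z, w = z • D.u' := by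
  rw [D.mem_Blk]
  constructor
  · rintro (h | ⟨b, hb, rfl⟩)
    · exact Or.inl h
    · exact Or.inr ⟨D.x 0 b, D.mem_Z.mpr ⟨b, hb, rfl⟩, rfl⟩
  · rintro (h | ⟨z, hz, rfl⟩)
    · exact Or.inl h
    · obtain ⟨b, hb, rfl⟩ := D.mem_Z.mp hz
      exact Or.inr ⟨b, hb, rfl⟩

/-- `T1 ≤ blkFix`, from `T1_centralizes_Z`. -/
theorem T1_le_blkFix_aux (hcent : ∀ s ∈ D.T1, ∀ z ∈ D.Z, s * z = z * s) : D.T1 ≤ D.blkFix := by
  intro s hs
  rw [D.mem_blkFix]
  obtain ⟨l, hl, hls⟩ := D.mem_T1.mp hs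
  have hsu : s • D.u = D.u := by rw [← hls]; exact (D.t_fix l).1
  have hsu' : s • D.u' = D.u' := by rw [← hls]; exact (D.t_fix l).2
  intro w hw
  rcases (mem_Blk_iff D).mp hw with rfl | ⟨z, hz, rfl⟩
  · exact hsu
  · rw [← mul_smul, hcent s hs z hz, mul_smul, hsu']

/-- `blkFix ≤ T1`. -/
theorem blkFix_le_T1_aux (hcardZ : Nat.card ↥D.Z = q)
    (hTfix : ∀ {g : G}, g • D.u = D.u → g • D.u' = D.u' → g ∈ D.T)
    (hconjZ : ∀ {g : G}, g ∈ D.B → ∀ {z : G}, z ∈ D.Z → g * z * g⁻¹ ∈ D.Z)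
    (hstab : ∀ {s : G}, s ∈ D.T → ∀ {z : G}, z ∈ D.Z → z ≠ 1 → s * z * s⁻¹ = z → s ∈ D.T1) :
    D.blkFix ≤ D.T1 := by
  intro g hg
  rw [D.mem_blkFix] at hg
  have hgu : g • D.u = D.u := hg _ (u_mem_Blk D)
  have hgu' : g • D.u' = D.u' := hg _ (u'_mem_Blk D)
  have hgT : g ∈ D.T := hTfix hgu hgu'
  -- a nontrivial element of Z
  have hZnt : Nontrivial ↥D.Z := by
    have := D.finG
    rw [← Finite.one_lt_card_iff_nontrivial, hcardZ]
    exact D.two_le_q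
  obtain ⟨⟨z, hzZ⟩, hz1⟩ := exists_ne (1 : ↥D.Z)
  have hz1' : z ≠ 1 := fun h => hz1 (Subtype.ext h)
  refine hstab hgT hzZ hz1' ?_
  have hgB : g ∈ D.B := D.mem_B.mpr hgu
  have hc : g * z * g⁻¹ ∈ D.Z := hconjZ hgB hzZ
  have hfix : (z⁻¹ * (g * z * g⁻¹)) • D.u' = D.u' := by
    have hginv : g⁻¹ • D.u' = D.u' := by rw [inv_smul_eq_iff, hgu']
    rw [mul_smul, mul_smul, mul_smul, hginv, hg _ (Z_smul_mem_Blk D hzZ), inv_smul_smul]
  have h1 := Q_fix_u' D (D.Q.mul_mem (D.Q.inv_mem (D.Z_le_Q hzZ)) (D.Z_le_Q hc)) hfix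
  exact (inv_mul_eq_one.mp h1).symm

theorem card_Blk_aux (hcardZ : Nat.card ↥D.Z = q) : Nat.card ↥D.Blk = q + 1 := by
  classical
  have := D.finG
  let f : Option ↥D.Z → ↥D.Blk := fun o =>
    match o with
    | none => ⟨D.u, u_mem_Blk D⟩
    | some z => ⟨(z : G) • D.u', Z_smul_mem_Blk D z.2⟩
  have hne : ∀ z : ↥D.Z, (z : G) • D.u' ≠ D.u := by
    intro z h
    have hzu : (z : G) • D.u = D.u := D.mem_B.mp (D.Q_le_B (D.Z_le_Q z.2))
    have : (z : G) • D.u' = (z : G) • D.u := by rw [h, hzu]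
    exact D.huu' (MulAction.injective _ this).symm
  have hbij : Function.Bijective f := by
    constructor
    · intro o o' h
      cases o with
      | none =>
        cases o' with
        | none => rfl
        | some z' =>
          exfalso
          have := congrArg Subtype.val h
          exact hne z' this.symm
      | some z =>
        cases o' with
        | none =>
          exfalso
          have := congrArg Subtype.val h
          exact hne z this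
        | some z' =>
          have h' : (z : G) • D.u' = (z' : G) • D.u' := congrArg Subtype.val h
          have hfix : ((z' : G)⁻¹ * (z : G)) • D.u' = D.u' := by
            rw [mul_smul, h', inv_smul_smul]
          have h1 := Q_fix_u' D (D.Q.mul_mem (D.Q.inv_mem (D.Z_le_Q z'.2)) (D.Z_le_Q z.2)) hfix
          have : (z : G) = (z' : G) := (inv_mul_eq_one.mp h1).symm
          exact congrArg some (Subtype.ext this)
    · rintro ⟨w, hw⟩
      rcases (mem_Blk_iff D).mp hw with rfl | ⟨z, hz, rfl⟩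
      · exact ⟨none, rfl⟩
      · exact ⟨some ⟨z, hz⟩, rfl⟩
  rw [← Nat.card_congr (Equiv.ofBijective f hbij), Finite.card_option, hcardZ]

/-- a nonidentity element of `T` fixes only points of the block -/
theorem T_fix_mem_Blk_aux
    (hTfix : ∀ {g : G}, g • D.u = D.u → g • D.u' = D.u' → g ∈ D.T)
    (hconjQ : ∀ {g : G}, g ∈ D.B → ∀ {z : G}, z ∈ D.Q → g * z * g⁻¹ ∈ D.Q)
    (hQT : D.Q ⊓ D.T = ⊥)
    (hQtrans : ∀ w : U, w ≠ D.u → ∃ z ∈ D.Q, z • D.u' = w)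
    (hsemi : ∀ {s : G}, s ∈ D.T → s ≠ 1 → ∀ {z : G}, z ∈ D.Q → s * z * s⁻¹ * z⁻¹ ∈ D.Z → z ∈ D.Z)
    {s : G} (hs : s ∈ D.T) (h1 : s ≠ 1) {w : U} (hw : s • w = w) : w ∈ D.Blk := by
  by_cases hwu : w = D.u
  · rw [hwu]; exact u_mem_Blk D
  obtain ⟨z, hzQ, rfl⟩ := hQtrans w hwu
  have hsB : s ∈ D.B := D.T_le_B hs
  have hzB : z ∈ D.B := D.Q_le_B hzQ
  have hsu : s • D.u = D.u := D.mem_B.mp hsB
  have hzu : z • D.u = D.u := D.mem_B.mp hzB
  -- `z⁻¹ s z` fixes `u` and `u'`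
  have h2 : (z⁻¹ * s * z) • D.u' = D.u' := by
    rw [mul_smul, mul_smul, hw, inv_smul_smul]
  have h3 : (z⁻¹ * s * z) • D.u = D.u := by
    rw [mul_smul, mul_smul, hzu, hsu, inv_smul_eq_iff, hzu]
  have h4 : z⁻¹ * s * z ∈ D.T := hTfix h3 h2
  have h5 : z⁻¹ * (s * z * s⁻¹) ∈ D.Q ⊓ D.T := by
    refine Subgroup.mem_inf.mpr ⟨D.Q.mul_mem (D.Q.inv_mem hzQ) (hconjQ hsB hzQ), ?_⟩
    have : z⁻¹ * (s * z * s⁻¹) = (z⁻¹ * s * z) * s⁻¹ := by group
    rw [this]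
    exact D.T.mul_mem h4 (D.T.inv_mem hs)
  rw [hQT, Subgroup.mem_bot] at h5
  have h6 : s * z * s⁻¹ = z := (inv_mul_eq_one.mp h5).symm
  have h7 : s * z * s⁻¹ * z⁻¹ ∈ D.Z := by
    rw [h6, mul_inv_cancel]; exact D.Z.one_mem
  exact Z_smul_mem_Blk D (hsemi hs h1 hzQ h7)

/-- **BAS6**. -/
theorem blkFix_eq : D.blkFix = D.T1 :=
  le_antisymm
    (blkFix_le_T1_aux D (Cfsg.Agent.Lib.Helper27_U3A_BAS4.card_Z D) (fun h1 h2 => Cfsg.Agent.Lib.Helper65_U3A_BAS2.mem_T_of_fix D h1 h2)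
      (fun hg _ hz => Cfsg.Agent.Lib.Helper65_U3A_BAS2.conj_Z_of_mem_B D hg hz)
      (fun hs _ hz h1 hc => Cfsg.Agent.Lib.Helper27_U3A_BAS5.T_stab_Z D hs hz h1 hc))
    (T1_le_blkFix_aux D (Cfsg.Agent.Lib.Helper27_U3A_BAS5.T1_centralizes_Z D))

/-- **BAS6**. -/
theorem card_Blk : Nat.card ↥D.Blk = q + 1 := card_Blk_aux D (Cfsg.Agent.Lib.Helper27_U3A_BAS4.card_Z D)

/-- **BAS6**. -/
theorem T1_fix {s : G} (hs : s ∈ D.T1) (h1 : s ≠ 1) (w : U) : s • w = w ↔ w ∈ D.Blk := by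
  constructor
  · intro hw
    exact T_fix_mem_Blk_aux D (fun h1 h2 => Cfsg.Agent.Lib.Helper65_U3A_BAS2.mem_T_of_fix D h1 h2)
      (fun hg _ hz => Cfsg.Agent.Lib.Helper65_U3A_BAS2.conj_Q_of_mem_B D hg hz) (Cfsg.Agent.Lib.Helper65_U3A_BAS1.Q_inf_T D) (Cfsg.Agent.Lib.Helper65_U3A_BAS3.Q_trans D)
      (fun hs h1 _ hz hc => Cfsg.Agent.Lib.Helper27_U3A_BAS5.T_semireg D hs h1 hz hc) (D.T1_le_T hs) h1 hw
  · intro hw
    exact (D.mem_blkFix.mp (T1_le_blkFix_aux D (Cfsg.Agent.Lib.Helper27_U3A_BAS5.T1_centralizes_Z D) hs)) w hw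

end Cfsg.Agent.Lib.Helper82_U3A_BAS6
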