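import Mathlib
import Cfsg.Agent.Lib.Helper51_U3Bridge
import Cfsg.Agent.Lib.Helper65_U3A_BAS2
import Cfsg.Agent.Lib.Helper65_U3A_BAS3
import Cfsg.Agent.Lib.Helper27_U3A_BAS4
import Cfsg.Agent.Lib.Helper82_U3A_BAS6

/-!
# S2148: `Dickson1 D`, `Dickson2 D` from the concrete inputs, hypothesis-free (helper51)

`facts D : Facts D` from the landed BAS packages; hence
`dickson1 D R : Dickson1 D` for `R : SLBlock D Gt` and `dickson2 D R : Dickson2 D` for
`R : BlockRep D Gt`.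
-/

set_option autoImplicit false

namespace Cfsg.Agent.Lib.Helper51_U3Facts

open Cfsg.Agent.Lib.Helper65_U3Defs Cfsg.Agent.Lib.Helper51_U3BridgeDefs
  Cfsg.Agent.Lib.Helper51_U3Bridge

variable {p q : ℕ} {F G U : Type*} [Field F] [Group G] [MulAction G U]

theorem facts (D : U3Data p q F G U) : Facts D where
  mem_B_iff := Cfsg.Agent.Lib.Helper65_U3A_BAS2.mem_B_iff D
  conj_Q_of_mem_B := fun hg _ hz => Cfsg.Agent.Lib.Helper65_U3A_BAS2.conj_Q_of_mem_B D hg hz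
  conj_Z_of_mem_B := fun hg _ hz => Cfsg.Agent.Lib.Helper65_U3A_BAS2.conj_Z_of_mem_B D hg hz
  Q_fix := fun hz h1 _ hw => Cfsg.Agent.Lib.Helper65_U3A_BAS3.Q_fix D hz h1 hw
  card_Q := Cfsg.Agent.Lib.Helper65_U3A_BAS3.card_Q D
  card_Z := Cfsg.Agent.Lib.Helper27_U3A_BAS4.card_Z D
  card_T := Cfsg.Agent.Lib.Helper27_U3A_BAS4.card_T D
  card_B := Cfsg.Agent.Lib.Helper27_U3A_BAS4.card_B D
  card_Blk := Cfsg.Agent.Lib.Helper82_U3A_BAS6.card_Blk_aux D
    (Cfsg.Agent.Lib.Helper27_U3A_BAS4.card_Z D)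

variable {Gt : Type*} [Group Gt]

/-- **`Dickson1 D`** from the concrete input `SLBlock D Gt`. -/
theorem dickson1 (D : U3Data p q F G U) (R : SLBlock D Gt) : Dickson1 D :=
  dickson1_of_slBlock (facts D) R

/-- **`Dickson2 D`** from the concrete input `BlockRep D Gt`. -/
theorem dickson2 [Finite Gt] (D : U3Data p q F G U) (R : BlockRep D Gt) : Dickson2 D :=
  dickson2_of_blockRep (facts D) R

end Cfsg.Agent.Lib.Helper51_U3Facts
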