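import Mathlib
import Cfsg.Agent.Lib.Helper51_U3Facts
import Cfsg.Agent.Lib.Helper51_U3BridgeSU

/-!
# S2148: `Dickson1`, `Dickson2` for `D0.toU3Data` from inputs on `SU_3` (helper51)
-/

set_option autoImplicit false

namespace Cfsg.Agent.Lib.Helper51_U3FactsSU

open Cfsg.Agent.Lib.Helper65_U3Defs Cfsg.Agent.Lib.Helper65_U3Adapter
  Cfsg.Agent.Lib.Helper51_U3BridgeSU

variable {p q : ℕ} {F G U : Type*} [Field F] [Group G] [MulAction G U]

/-- **`Dickson1`** for the quotient data, from `SLBlockSU`. -/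
theorem dickson1_SU (D0 : U3DataSU p q F G U) (R : SLBlockSU D0) :
    @Dickson1 p q F (G ⧸ Subgroup.center G) U _ _ (quotAction D0.hC) D0.toU3Data :=
  letI := quotAction D0.hC
  Cfsg.Agent.Lib.Helper51_U3Facts.dickson1 D0.toU3Data (R.toSLBlock D0)

/-- **`Dickson2`** for the quotient data, from `BlockRepSU`. -/
theorem dickson2_SU [Finite G] (D0 : U3DataSU p q F G U) (R : BlockRepSU D0) :
    @Dickson2 p q F (G ⧸ Subgroup.center G) U _ _ (quotAction D0.hC) D0.toU3Data :=
  letI := quotAction D0.hC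
  Cfsg.Agent.Lib.Helper51_U3Facts.dickson2 D0.toU3Data (R.toBlockRep D0)

end Cfsg.Agent.Lib.Helper51_U3FactsSU
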