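import Mathlib
import Cfsg.Agent.S0780
import Cfsg.Agent.Lib.Helper83_SU3J

/-!
# From the antidiagonal form to the standard hermitian form in dimension three

A base change `P` with `Pᵀ P^σ = J3` carries `SUJ σ` onto `SU 3 F q`; together with the generation
of `SU₃(q)` by unitary transvections (S0780) this turns a pair of conjugate regular unipotent
elements of `SUJ σ`, generating a group which contains all unitary transvections, into a pair of
conjugate regular unipotent elements generating `SU 3 F q`.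
-/

set_option autoImplicit false
set_option linter.unusedSectionVars false
set_option linter.unusedVariables false
set_option linter.unusedSimpArgs false
set_option linter.unusedTactic false
set_option linter.unreachableTactic false
set_option linter.unnecessarySeqFocus false

namespace Cfsg.Agent.Lib.Helper83_SU3Transport

open Matrix Cfsg.Agent.Lib.Helper83_TvCalc Cfsg.Agent.Lib.Helper83_SL3Pair
  Cfsg.Agent.Lib.Helper83_SU3J

variable {F : Type*} [Field F] [Fintype F] {q : ℕ}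

/-- the hermitian form as a dot product -/
theorem hermForm_eq {σ : F →+* F} (hσq : ∀ x, σ x = x ^ q) (u v : Fin 3 → F) :
    Cfsg.hermForm 3 F q u v = u ⬝ᵥ (fun i => σ (v i)) := by
  unfold Cfsg.hermForm dotProduct
  apply Finset.sum_congr rfl
  intro i _
  simp only [hσq]

theorem map_mulVec' (σ : F →+* F) (M : Matrix (Fin 3) (Fin 3) F) (v : Fin 3 → F) :
    (fun i => σ ((M *ᵥ v) i)) = M.map σ *ᵥ (fun i => σ (v i)) := by
  ext i
  exact RingHom.map_mulVec σ M v i

/-- a matrix with `Mᵀ M^σ = 1` preserves the standard hermitian form -/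
theorem preserves_of {σ : F →+* F} (hσq : ∀ x, σ x = x ^ q) {M : Matrix (Fin 3) (Fin 3) F}
    (hM : Mᵀ * M.map σ = 1) (u v : Fin 3 → F) :
    Cfsg.hermForm 3 F q (M *ᵥ u) (M *ᵥ v) = Cfsg.hermForm 3 F q u v := by
  rw [hermForm_eq hσq, hermForm_eq hσq, map_mulVec', Matrix.dotProduct_mulVec,
    Matrix.vecMul_mulVec, ← Matrix.dotProduct_mulVec]
  rw [hM, Matrix.one_mulVec]

/-- conversely -/
theorem isU_of_preserves {σ : F →+* F} (hσq : ∀ x, σ x = x ^ q) {M : Matrix (Fin 3) (Fin 3) F}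
    (hM : ∀ u v : Fin 3 → F,
      Cfsg.hermForm 3 F q (M *ᵥ u) (M *ᵥ v) = Cfsg.hermForm 3 F q u v) :
    Mᵀ * M.map σ = 1 := by
  ext i j
  have h := hM (Pi.single i 1) (Pi.single j 1)
  rw [hermForm_eq hσq, hermForm_eq hσq] at h
  simp only [Matrix.mulVec_single_one] at h
  rw [Matrix.mul_apply]
  have h1 : ∑ k, Mᵀ i k * M.map σ k j = (M.col i) ⬝ᵥ (fun k => σ (M.col j k)) := by
    unfold dotProduct
    apply Finset.sum_congr rfl
    intro k _
    simp [Matrix.col_apply]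
  rw [h1, h]
  unfold dotProduct
  rw [Matrix.one_apply]
  by_cases hij : i = j
  · subst hij
    simp [Pi.single_apply]
  · simp [Pi.single_apply, hij]
    intro k
    exact hij k.symm


/-- a base change from the antidiagonal to the standard hermitian form -/
theorem exists_P (hF : Fintype.card F = q ^ 2) {σ : F →+* F} (hσq : ∀ x, σ x = x ^ q) :
    ∃ P : Matrix (Fin 3) (Fin 3) F, Pᵀ * P.map σ = J3 := by
  classical
  have hc := Cfsg.Agent.Lib.Helper5_HermCount.card_norm_eq hF (c := (-1 : F))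
    (neg_ne_zero.2 one_ne_zero) (by rw [Cfsg.Agent.Lib.Helper13_Herm.neg_pow_q hF, one_pow])
  have hne : (Finset.univ.filter (fun x : F => x * x ^ q = -1)).Nonempty := by
    rw [← Finset.card_pos, hc]; omega
  obtain ⟨β, hβ⟩ := hne
  simp only [Finset.mem_filter, Finset.mem_univ, true_and] at hβ
  obtain ⟨ζ, hζ, hζ1⟩ := Cfsg.Agent.Lib.Helper5_SUCenter.exists_norm_one_sq_ne_one hF
  have hβ0 : β ≠ 0 := by
    rintro rfl
    rw [zero_mul] at hβ
    exact one_ne_zero (neg_eq_zero.1 hβ.symm)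
  have hζ0 : ζ ≠ 0 := by
    rintro rfl
    rw [zero_mul] at hζ
    exact zero_ne_one hζ
  have hσβ : σ β = -β⁻¹ := by
    rw [hσq]
    field_simp
    linear_combination hβ
  have hσζ : σ ζ = ζ⁻¹ := by
    rw [hσq]
    field_simp
    linear_combination hζ
  have h1ζ : 1 - ζ ≠ 0 := by
    intro h
    apply hζ1
    have : ζ = 1 := by linear_combination -h
    rw [this, mul_one]
  have hζ1' : ζ - 1 ≠ 0 := by
    intro h
    apply h1ζ
    linear_combination -h
  refine ⟨!![1, 0, (1 - ζ)⁻¹; β, 0, (1 - ζ)⁻¹ * β * ζ; 0, 1, 0], ?_⟩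
  ext i j
  fin_cases i <;> fin_cases j <;>
    simp [Matrix.mul_apply, Fin.sum_univ_three, J3, map_inv₀, map_sub, map_one, map_mul, hσζ, hσβ]
  all_goals (field_simp)
  all_goals (try ring)


theorem J3_mul_J3 : (J3 : Matrix (Fin 3) (Fin 3) F) * J3 = 1 := by
  ext i j
  fin_cases i <;> fin_cases j <;> simp [Matrix.mul_apply, Fin.sum_univ_three, J3]

theorem J3_map (σ : F →+* F) : (J3 : Matrix (Fin 3) (Fin 3) F).map σ = J3 := by
  ext i j
  fin_cases i <;> fin_cases j <;> simp [J3]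

theorem J3_transpose : (J3 : Matrix (Fin 3) (Fin 3) F)ᵀ = J3 := by
  ext i j
  fin_cases i <;> fin_cases j <;> simp [J3]

theorem map_map_of_invol {σ : F →+* F} (hσ : ∀ x, σ (σ x) = x) (M : Matrix (Fin 3) (Fin 3) F) :
    (M.map σ).map σ = M := by
  ext i j
  simp [hσ]

/-- conjugation by `P` as a monoid homomorphism of `SL₃` -/
def conjHom (P P' : Matrix (Fin 3) (Fin 3) F) (h1 : P * P' = 1) (h2 : P' * P = 1) :
    SpecialLinearGroup (Fin 3) F →* SpecialLinearGroup (Fin 3) F where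
  toFun A := ⟨P * A.1 * P', by
    rw [Matrix.det_mul, Matrix.det_mul, A.2, mul_one, ← Matrix.det_mul, h1, Matrix.det_one]⟩
  map_one' := by
    apply Subtype.ext
    show P * (1 : Matrix (Fin 3) (Fin 3) F) * P' = 1
    rw [Matrix.mul_one, h1]
  map_mul' A B := by
    apply Subtype.ext
    show P * (A.1 * B.1) * P' = (P * A.1 * P') * (P * B.1 * P')
    calc P * (A.1 * B.1) * P' = P * A.1 * (1 : Matrix (Fin 3) (Fin 3) F) * B.1 * P' := by
          rw [Matrix.mul_one]; simp only [Matrix.mul_assoc]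
      _ = (P * A.1 * P') * (P * B.1 * P') := by rw [← h2]; simp only [Matrix.mul_assoc]

theorem conjHom_val (P P' : Matrix (Fin 3) (Fin 3) F) (h1 : P * P' = 1) (h2 : P' * P = 1)
    (A : SpecialLinearGroup (Fin 3) F) : (conjHom P P' h1 h2 A).1 = P * A.1 * P' := rfl

/-- **Transport.**  A pair of conjugate regular unipotent elements of `SUJ σ` generating a group
which contains all unitary transvections gives such a pair generating `SU 3 F q`. -/
theorem transport (hF : Fintype.card F = q ^ 2) (hq3 : 3 ≤ q) {σ : F →+* F}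
    (hσq : ∀ x, σ x = x ^ q)
    (hJ : ∃ u g : SpecialLinearGroup (Fin 3) F, u ∈ SUJ σ ∧ g ∈ SUJ σ ∧ (u.1 - 1) ^ 3 = 0 ∧
      (u.1 - 1) ^ 2 ≠ 0 ∧
      ∀ (x0 x1 x2 c : F), x0 * σ x2 + x1 * σ x1 + x2 * σ x0 = 0 →
        ∀ T : SpecialLinearGroup (Fin 3) F, T.1 = tvM σ x0 x1 x2 c → T ∈ SUJ σ →
          T ∈ Subgroup.closure {u, g * u * g⁻¹}) :
    ∃ u g : ↥(Cfsg.SU 3 F q),
      (IsNilpotent (((u : Matrix.SpecialLinearGroup (Fin 3) F) : Matrix (Fin 3) (Fin 3) F) - 1) ∧
        (((u : Matrix.SpecialLinearGroup (Fin 3) F) : Matrix (Fin 3) (Fin 3) F) - 1) ^ (3 - 1) ≠ 0) ∧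
      Subgroup.closure ({u, g * u * g⁻¹} : Set ↥(Cfsg.SU 3 F q)) = ⊤ := by
  obtain ⟨uJ, gJ, huJ, hgJ, hn3, hn2, hall⟩ := hJ
  have hσ : ∀ x, σ (σ x) = x := by
    intro x
    rw [hσq, hσq, ← pow_mul, ← sq, ← hF, FiniteField.pow_card]
  obtain ⟨P, hP⟩ := exists_P hF hσq
  -- the inverse of `P`
  have hP2 : (P.map σ)ᵀ * P = J3 := by
    have := congrArg (fun M => M.map σ) hP
    simp only [Matrix.map_mul, J3_map] at this
    rw [map_map_of_invol hσ, Matrix.transpose_map] at this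
    exact this
  obtain ⟨P', hP'⟩ : ∃ P' : Matrix (Fin 3) (Fin 3) F, P' = J3 * (P.map σ)ᵀ := ⟨_, rfl⟩
  have h2 : P' * P = 1 := by rw [hP', Matrix.mul_assoc, hP2, J3_mul_J3]
  have h1 : P * P' = 1 := mul_eq_one_comm.1 h2
  -- unitarity of `P'`
  have hP'U : P'ᵀ * J3 * P'.map σ = 1 := by
    have e1 : P'ᵀ * (Pᵀ * P.map σ) * P'.map σ = 1 := by
      calc P'ᵀ * (Pᵀ * P.map σ) * P'.map σ = (P * P')ᵀ * (P * P').map σ := by
            rw [Matrix.transpose_mul, Matrix.map_mul]; simp only [Matrix.mul_assoc]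
        _ = 1 := by
            rw [h1, Matrix.transpose_one, Matrix.map_one _ (map_zero σ) (map_one σ), Matrix.mul_one]
    rwa [hP] at e1
  -- the image of a unitary matrix
  have hΦU : ∀ A : SpecialLinearGroup (Fin 3) F, A ∈ SUJ σ →
      conjHom P P' h1 h2 A ∈ Cfsg.SU 3 F q := by
    intro A hA
    change ∀ u v : Fin 3 → F, Cfsg.hermForm 3 F q ((conjHom P P' h1 h2 A).1 *ᵥ u)
      ((conjHom P P' h1 h2 A).1 *ᵥ v) = Cfsg.hermForm 3 F q u v
    apply preserves_of hσq
    rw [conjHom_val, Matrix.transpose_mul, Matrix.transpose_mul, Matrix.map_mul, Matrix.map_mul]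
    rw [mem_SUJ] at hA
    calc P'ᵀ * (A.1ᵀ * Pᵀ) * (P.map σ * A.1.map σ * P'.map σ)
        = P'ᵀ * (A.1ᵀ * (Pᵀ * P.map σ) * A.1.map σ) * P'.map σ := by
          simp only [Matrix.mul_assoc]
      _ = 1 := by rw [hP, hA, hP'U]
  obtain ⟨u, hu⟩ : ∃ u : ↥(Cfsg.SU 3 F q), u = ⟨conjHom P P' h1 h2 uJ, hΦU uJ huJ⟩ := ⟨_, rfl⟩
  obtain ⟨g, hg⟩ : ∃ g : ↥(Cfsg.SU 3 F q), g = ⟨conjHom P P' h1 h2 gJ, hΦU gJ hgJ⟩ := ⟨_, rfl⟩
  have huval : ((u : Matrix.SpecialLinearGroup (Fin 3) F) : Matrix (Fin 3) (Fin 3) F) - 1 =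
      P * (uJ.1 - 1) * P' := by
    rw [hu]
    show P * uJ.1 * P' - 1 = P * (uJ.1 - 1) * P'
    rw [Matrix.mul_sub, Matrix.sub_mul, Matrix.mul_one, h1]
  have hpow : ∀ k : ℕ, (P * (uJ.1 - 1) * P') ^ k = P * (uJ.1 - 1) ^ k * P' := by
    intro k
    induction k with
    | zero => rw [pow_zero, pow_zero, Matrix.mul_one, h1]
    | succ k ih =>
      rw [pow_succ, ih, pow_succ]
      calc P * (uJ.1 - 1) ^ k * P' * (P * (uJ.1 - 1) * P')
          = P * (uJ.1 - 1) ^ k * (P' * P) * (uJ.1 - 1) * P' := by simp only [Matrix.mul_assoc]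
        _ = P * ((uJ.1 - 1) ^ k * (uJ.1 - 1)) * P' := by
            rw [h2, Matrix.mul_one]; simp only [Matrix.mul_assoc]
  refine ⟨u, g, ⟨?_, ?_⟩, ?_⟩
  · refine ⟨3, ?_⟩
    rw [huval, hpow, hn3, Matrix.mul_zero, Matrix.zero_mul]
  · rw [huval, hpow]
    intro h
    apply hn2
    have := congrArg (fun M => P' * M * P) h
    simp only [Matrix.mul_zero, Matrix.zero_mul] at this
    rw [show P' * (P * (uJ.1 - 1) ^ (3 - 1) * P') * P = (P' * P) * (uJ.1 - 1) ^ (3 - 1) * (P' * P)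
      by simp only [Matrix.mul_assoc], h2, Matrix.one_mul, Matrix.mul_one] at this
    exact this
  · -- generation
    have hq32 : ¬ (3 = 3 ∧ q = 2) := by omega
    rw [eq_top_iff, ← Cfsg.Agent.S0780.result hF 3 (le_refl 3) hq32, Subgroup.closure_le]
    rintro A ⟨v, c, hv, hA⟩
    -- pull the transvection back
    have hAU : (A.1.1)ᵀ * A.1.1.map σ = 1 := isU_of_preserves hσq A.2
    have hTdet : (P' * A.1.1 * P).det = 1 := by
      rw [Matrix.det_mul, Matrix.det_mul, A.1.2, mul_one, ← Matrix.det_mul, h2, Matrix.det_one]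
    set T : SpecialLinearGroup (Fin 3) F := ⟨P' * A.1.1 * P, hTdet⟩ with hT
    have hTU : T ∈ SUJ σ := by
      rw [mem_SUJ]
      show (P' * A.1.1 * P)ᵀ * J3 * (P' * A.1.1 * P).map σ = J3
      rw [Matrix.transpose_mul, Matrix.transpose_mul, Matrix.map_mul, Matrix.map_mul]
      calc Pᵀ * ((A.1.1)ᵀ * P'ᵀ) * J3 * (P'.map σ * A.1.1.map σ * P.map σ)
          = Pᵀ * ((A.1.1)ᵀ * (P'ᵀ * J3 * P'.map σ) * A.1.1.map σ) * P.map σ := by
            simp only [Matrix.mul_assoc]
        _ = J3 := by rw [hP'U, Matrix.mul_one, hAU, Matrix.mul_one, hP]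
    -- the centre
    set x : Fin 3 → F := P' *ᵥ v with hx
    have hPx : P *ᵥ x = v := by rw [hx, Matrix.mulVec_mulVec, h1, Matrix.one_mulVec]
    have hσv : (fun j => (v j) ^ q) = P.map σ *ᵥ (fun i => σ (x i)) := by
      rw [← map_mulVec', hPx]
      ext j
      rw [hσq]
    have hTval : T.1 = tvM σ (x 0) (x 1) (x 2) c := by
      rw [← tvM_eq]
      show P' * A.1.1 * P = _
      rw [hA]
      unfold Cfsg.unitaryTransvection
      rw [Matrix.mul_add, Matrix.add_mul, Matrix.mul_one, h2, Matrix.mul_smul, Matrix.smul_mul,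
        Matrix.mul_vecMulVec, Matrix.vecMulVec_mul, hσv, Matrix.vecMul_mulVec,
        ← Matrix.mulVec_transpose, Matrix.transpose_mul, Matrix.transpose_transpose, hP]
    have hiso : x 0 * σ (x 2) + x 1 * σ (x 1) + x 2 * σ (x 0) = 0 := by
      have e1 : Cfsg.hermForm 3 F q v v = x ⬝ᵥ (J3 *ᵥ (fun i => σ (x i))) := by
        rw [hermForm_eq hσq, ← hPx, map_mulVec', Matrix.dotProduct_mulVec, Matrix.vecMul_mulVec,
          ← Matrix.dotProduct_mulVec, hP]
      rw [hv] at e1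
      rw [e1]
      simp [dotProduct, Matrix.mulVec, Fin.sum_univ_three, J3]
      all_goals ring
    have hTmem := hall (x 0) (x 1) (x 2) c hiso T hTval hTU
    -- push forward
    have hΦT : conjHom P P' h1 h2 T = A.1 := by
      apply Subtype.ext
      rw [conjHom_val]
      show P * (P' * A.1.1 * P) * P' = A.1.1
      calc P * (P' * A.1.1 * P) * P' = (P * P') * A.1.1 * (P * P') := by
            simp only [Matrix.mul_assoc]
        _ = A.1.1 := by rw [h1, Matrix.one_mul, Matrix.mul_one]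
    have hmap : (Subgroup.closure ({u, g * u * g⁻¹} : Set ↥(Cfsg.SU 3 F q))).map
        (Cfsg.SU 3 F q).subtype =
        (Subgroup.closure {uJ, gJ * uJ * gJ⁻¹}).map (conjHom P P' h1 h2) := by
      have e_u : (Cfsg.SU 3 F q).subtype u = conjHom P P' h1 h2 uJ := by rw [hu]; rfl
      have e_g : (Cfsg.SU 3 F q).subtype g = conjHom P P' h1 h2 gJ := by rw [hg]; rfl
      have e_c : (Cfsg.SU 3 F q).subtype (g * u * g⁻¹) = conjHom P P' h1 h2 (gJ * uJ * gJ⁻¹) := by
        simp only [map_mul, map_inv, e_u, e_g]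
      rw [MonoidHom.map_closure, MonoidHom.map_closure, Set.image_pair, Set.image_pair, e_u, e_c]
    have hA1 : A.1 ∈ (Subgroup.closure ({u, g * u * g⁻¹} : Set ↥(Cfsg.SU 3 F q))).map
        (Cfsg.SU 3 F q).subtype := by
      rw [hmap, ← hΦT]
      exact Subgroup.mem_map_of_mem _ hTmem
    obtain ⟨A', hA', hAA'⟩ := hA1
    have : A' = A := Subtype.ext hAA'
    rw [← this]
    exact hA'

end Cfsg.Agent.Lib.Helper83_SU3Transport
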