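import Mathlib
import Cfsg.Agent.Lib.Helper83_SU3Transport
import Cfsg.Agent.Lib.Helper83_U3PJ
import Cfsg.Agent.S0283

/-!
# `SUJ σ ≃* SU 3 F q` and `PJ σ ≃* PSU 3 F q` (S2148, concrete half)
-/

set_option autoImplicit false
set_option linter.unusedSectionVars false
set_option linter.unusedVariables false
set_option linter.unusedSimpArgs false

namespace Cfsg.Agent.Lib.Helper83_U3Iso

open Matrix Cfsg.Agent.Lib.Helper83_TvCalc Cfsg.Agent.Lib.Helper83_SL3Pair
  Cfsg.Agent.Lib.Helper83_SU3J Cfsg.Agent.Lib.Helper83_SU3Transport Cfsg.Agent.Lib.Helper83_U3PJ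

variable {F : Type*} [Field F] [Fintype F] {q : ℕ} {σ : F →+* F}

theorem frob_invol' (hF : Fintype.card F = q ^ 2) (hσq : ∀ x, σ x = x ^ q) (x : F) :
    σ (σ x) = x := by
  rw [hσq, hσq, ← pow_mul, ← sq, ← hF, FiniteField.pow_card]

/-- the two base change matrices -/
theorem exists_PP (hF : Fintype.card F = q ^ 2) (hσq : ∀ x, σ x = x ^ q) :
    ∃ P P' : Matrix (Fin 3) (Fin 3) F, ∃ (h1 : P * P' = 1) (h2 : P' * P = 1),
      (∀ A : SpecialLinearGroup (Fin 3) F, A ∈ SUJ σ → conjHom P P' h1 h2 A ∈ Cfsg.SU 3 F q) ∧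
      (∀ A : SpecialLinearGroup (Fin 3) F, A ∈ Cfsg.SU 3 F q → conjHom P' P h2 h1 A ∈ SUJ σ) := by
  have hσ : ∀ x, σ (σ x) = x := frob_invol' hF hσq
  obtain ⟨P, hP⟩ := exists_P hF hσq
  have hP2 : (P.map σ)ᵀ * P = J3 := by
    have := congrArg (fun M => M.map σ) hP
    simp only [Matrix.map_mul, J3_map] at this
    rw [map_map_of_invol hσ, Matrix.transpose_map] at this
    exact this
  obtain ⟨P', hP'⟩ : ∃ P' : Matrix (Fin 3) (Fin 3) F, P' = J3 * (P.map σ)ᵀ := ⟨_, rfl⟩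
  have h2 : P' * P = 1 := by rw [hP', Matrix.mul_assoc, hP2, J3_mul_J3]
  have h1 : P * P' = 1 := mul_eq_one_comm.1 h2
  have hP'U : P'ᵀ * J3 * P'.map σ = 1 := by
    have e1 : P'ᵀ * (Pᵀ * P.map σ) * P'.map σ = 1 := by
      calc P'ᵀ * (Pᵀ * P.map σ) * P'.map σ = (P * P')ᵀ * (P * P').map σ := by
            rw [Matrix.transpose_mul, Matrix.map_mul]; simp only [Matrix.mul_assoc]
        _ = 1 := by
            rw [h1, Matrix.transpose_one, Matrix.map_one _ (map_zero σ) (map_one σ), Matrix.mul_one]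
    rwa [hP] at e1
  refine ⟨P, P', h1, h2, ?_, ?_⟩
  · intro A hA
    change ∀ u v : Fin 3 → F, Cfsg.hermForm 3 F q ((conjHom P P' h1 h2 A).1 *ᵥ u)
      ((conjHom P P' h1 h2 A).1 *ᵥ v) = Cfsg.hermForm 3 F q u v
    apply preserves_of hσq
    rw [conjHom_val, Matrix.transpose_mul, Matrix.transpose_mul, Matrix.map_mul, Matrix.map_mul]
    rw [mem_SUJ] at hA
    calc P'ᵀ * (A.1ᵀ * Pᵀ) * (P.map σ * A.1.map σ * P'.map σ)
        = P'ᵀ * (A.1ᵀ * (Pᵀ * P.map σ) * A.1.map σ) * P'.map σ := by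
          simp only [Matrix.mul_assoc]
      _ = 1 := by rw [hP, hA, hP'U]
  · intro A hA
    have hAU : (A.1)ᵀ * A.1.map σ = 1 := isU_of_preserves hσq hA
    rw [mem_SUJ, conjHom_val]
    rw [Matrix.transpose_mul, Matrix.transpose_mul, Matrix.map_mul, Matrix.map_mul]
    calc Pᵀ * ((A.1)ᵀ * P'ᵀ) * J3 * (P'.map σ * A.1.map σ * P.map σ)
        = Pᵀ * ((A.1)ᵀ * (P'ᵀ * J3 * P'.map σ) * A.1.map σ) * P.map σ := by
          simp only [Matrix.mul_assoc]
      _ = J3 := by rw [hP'U, Matrix.mul_one, hAU, Matrix.mul_one, hP]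

theorem conjHom_conjHom (P P' : Matrix (Fin 3) (Fin 3) F) (h1 : P * P' = 1) (h2 : P' * P = 1)
    (A : SpecialLinearGroup (Fin 3) F) : conjHom P' P h2 h1 (conjHom P P' h1 h2 A) = A := by
  apply Subtype.ext
  rw [conjHom_val, conjHom_val]
  calc P' * (P * A.1 * P') * P = (P' * P) * A.1 * (P' * P) := by simp only [Matrix.mul_assoc]
    _ = A.1 := by rw [h2, Matrix.one_mul, Matrix.mul_one]

/-- **the isomorphism** between the antidiagonal model and `Cfsg.SU 3 F q` -/
theorem exists_iso (hF : Fintype.card F = q ^ 2) (hσq : ∀ x, σ x = x ^ q) :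
    Nonempty (↥(SUJ σ) ≃* ↥(Cfsg.SU 3 F q)) := by
  obtain ⟨P, P', h1, h2, hΦ, hΨ⟩ := exists_PP hF hσq
  exact ⟨{ toFun := fun g => ⟨conjHom P P' h1 h2 g.1, hΦ g.1 g.2⟩
           invFun := fun g => ⟨conjHom P' P h2 h1 g.1, hΨ g.1 g.2⟩
           left_inv := fun g => Subtype.ext (conjHom_conjHom P P' h1 h2 g.1)
           right_inv := fun g => Subtype.ext (conjHom_conjHom P' P h2 h1 g.1)
           map_mul' := fun g h => Subtype.ext (map_mul (conjHom P P' h1 h2) g.1 h.1) }⟩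

/-- an isomorphism of groups induces an isomorphism of the quotients by the centres -/
noncomputable def centerQuotEquiv {G H : Type*} [Group G] [Group H] (e : G ≃* H) :
    G ⧸ Subgroup.center G ≃* H ⧸ Subgroup.center H :=
  QuotientGroup.congr (Subgroup.center G) (Subgroup.center H) e (by
    ext h
    rw [Subgroup.mem_map]
    constructor
    · rintro ⟨g, hg, rfl⟩
      rw [Subgroup.mem_center_iff] at hg ⊢
      intro y
      obtain ⟨x, rfl⟩ := e.surjective y
      show e x * e g = e g * e x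
      rw [← map_mul, ← map_mul, hg x]
    · intro hh
      refine ⟨e.symm h, ?_, e.apply_symm_apply h⟩
      rw [Subgroup.mem_center_iff] at hh ⊢
      intro x
      apply e.injective
      rw [map_mul, map_mul, e.apply_symm_apply]
      exact hh (e x))

theorem exists_psu_iso (hF : Fintype.card F = q ^ 2) (hσq : ∀ x, σ x = x ^ q) :
    Nonempty (PJ σ ≃* Cfsg.PSU 3 F q) := by
  obtain ⟨e⟩ := exists_iso (σ := σ) hF hσq
  exact ⟨centerQuotEquiv e⟩

theorem simple_PJ (hF : Fintype.card F = q ^ 2) (hσq : ∀ x, σ x = x ^ q) (hq3 : 3 ≤ q) :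
    IsSimpleGroup (PJ σ) := by
  obtain ⟨e⟩ := exists_psu_iso (σ := σ) hF hσq
  have h := Cfsg.Agent.S0283.result hF 3 (le_refl 3) (by omega)
  exact e.isSimpleGroup_congr.2 h

/-- **transport of the index bound** -/
theorem index_transport (hF : Fintype.card F = q ^ 2) (hσq : ∀ x, σ x = x ^ q) (n : ℕ)
    (h : ∀ H : Subgroup (PJ σ), H ≠ ⊤ → n ≤ H.index) :
    ∀ H : Subgroup (Cfsg.PSU 3 F q), H ≠ ⊤ → n ≤ H.index := by
  obtain ⟨e⟩ := exists_psu_iso (σ := σ) hF hσq
  intro H hH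
  have h1 := h (H.comap e.toMonoidHom) (by
    intro htop
    apply hH
    rw [eq_top_iff]
    intro x _
    have : e.symm x ∈ H.comap e.toMonoidHom := by rw [htop]; trivial
    rw [Subgroup.mem_comap] at this
    simpa using this)
  rwa [Subgroup.index_comap_of_surjective H e.surjective] at h1

end Cfsg.Agent.Lib.Helper83_U3Iso
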