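import Mathlib
import Cfsg.Agent.Lib.Helper83_U3PJ
import Cfsg.Agent.Lib.Helper83_U3Iso
import Cfsg.Agent.Lib.Helper65_U3Adapter

/-!
# The `U3DataSU` instance on `SUJ σ` acting on `UJ σ = SUJ σ ⧸ BJ σ` (S2148, concrete half)

The facts proved in the market packages U3C are bundled in the structure `Facts`, so that the
instance does not depend on the package files.
-/

set_option autoImplicit false
set_option linter.unusedSectionVars false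
set_option linter.unusedVariables false
set_option linter.unusedSimpArgs false

namespace Cfsg.Agent.Lib.Helper83_U3Inst

open Matrix Cfsg.Agent.Lib.Helper83_TvCalc Cfsg.Agent.Lib.Helper83_SL3Pair
  Cfsg.Agent.Lib.Helper83_SU3J Cfsg.Agent.Lib.Helper83_U3Model Cfsg.Agent.Lib.Helper83_U3Bruhat
  Cfsg.Agent.Lib.Helper83_U3Group Cfsg.Agent.Lib.Helper83_U3PJ Cfsg.Agent.Lib.Helper83_U3Iso
  Cfsg.Agent.Lib.Helper65_U3Defs Cfsg.Agent.Lib.Helper65_U3Adapter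

variable {F : Type*} [Field F] [Fintype F] {σ : F →+* F} {q : ℕ}

/-- the statements of the packages of the market U3C -/
structure Facts (hσ : ∀ x, σ (σ x) = x) (q : ℕ) : Prop where
  exists_trace_zero : ∃ e : F, e ≠ 0 ∧ e + σ e = 0
  center_iff : ∀ g : ↥(SUJ σ), g ∈ Subgroup.center ↥(SUJ σ) ↔
      ∃ l : Fˣ, (l : F) * σ (l : F) = 1 ∧ (l : F) ^ 3 = 1 ∧ g = tJ hσ l
  center_le_BJ : Subgroup.center ↥(SUJ σ) ≤ BJ σ
  two_trans : ∀ a b c d : UJ σ, a ≠ b → c ≠ d → ∃ g : ↥(SUJ σ), g • a = c ∧ g • b = d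
  card_UJ : Nat.card (UJ σ) = q ^ 3 + 1
  mk_mem_BlkJ : ∀ g : ↥(SUJ σ), (QuotientGroup.mk g : UJ σ) ∈ BlkJ σ ↔ mat g 1 0 = 0
  mem_BlkJ_iff : ∀ v : UJ σ, v ∈ BlkJ σ ↔ v = (QuotientGroup.mk (1 : ↥(SUJ σ)) : UJ σ) ∨
      ∃ (b : F) (h : Par σ 0 b), v = xJ hσ 0 b h • (QuotientGroup.mk (wJ : ↥(SUJ σ)) : UJ σ)
  mem_NJ_of : ∀ g : ↥(SUJ σ), mat g 1 0 = 0 → mat g 1 2 = 0 → g ∈ NJ hσ
  NJ_smul_mem : ∀ {g : ↥(SUJ σ)}, g ∈ NJ hσ → ∀ {v : UJ σ}, v ∈ BlkJ σ → g • v ∈ BlkJ σ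
  inv_fix : Odd q → ∀ g : ↥(SUJ σ), g * g = 1 → ∃ h : ↥(SUJ σ), h⁻¹ * g * h ∈ BJ σ
  conj_ZJ_mem_SLJ : ∀ g : ↥(SUJ σ), mat g 1 0 = 0 → ∀ {z : ↥(SUJ σ)}, z ∈ ZJ hσ →
      g * z * g⁻¹ ∈ SLJ hσ
  SLJ_inf_center : SLJ hσ ⊓ Subgroup.center ↥(SUJ σ) = ⊥
  det_rho2_norm : ∀ {g : ↥(SUJ σ)}, g ∈ NJ hσ → (rho2 g).det * σ (rho2 g).det = 1
  rho2_scalar_iff : ∀ {g : ↥(SUJ σ)}, g ∈ NJ hσ →
      ((∃ c : F, rho2 g = c • (1 : Matrix (Fin 2) (Fin 2) F)) ↔ g ∈ T1J hσ)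

open Classical in
/-- the parametrisation of the unipotent radical, as a total function -/
noncomputable def xG (hσ : ∀ x, σ (σ x) = x) (a b : F) : ↥(SUJ σ) :=
  if h : Par σ a b then xJ hσ a b h else 1

theorem xG_of (hσ : ∀ x, σ (σ x) = x) {a b : F} (h : Par σ a b) : xG hσ a b = xJ hσ a b h := by
  unfold xG
  rw [dif_pos h]

theorem rel_iff_par (hσq : ∀ x, σ x = x ^ q) (a b : F) :
    Cfsg.Agent.Lib.Helper65_U3Defs.Rel q a b ↔ Par σ a b := by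
  unfold Cfsg.Agent.Lib.Helper65_U3Defs.Rel Par
  rw [hσq, hσq]

/-- the base point -/
def uJ : UJ σ := (QuotientGroup.mk (1 : ↥(SUJ σ)) : UJ σ)

/-- the opposite point -/
def uJ' : UJ σ := (QuotientGroup.mk (wJ : ↥(SUJ σ)) : UJ σ)

theorem smul_mk (g h : ↥(SUJ σ)) : g • (QuotientGroup.mk h : UJ σ) = QuotientGroup.mk (g * h) := rfl

theorem mk_eq_mk {g h : ↥(SUJ σ)} :
    (QuotientGroup.mk g : UJ σ) = QuotientGroup.mk h ↔ g⁻¹ * h ∈ BJ σ := QuotientGroup.eq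

theorem smul_uJ_eq {g : ↥(SUJ σ)} : g • (uJ : UJ σ) = uJ ↔ g ∈ BJ σ := by
  unfold uJ
  rw [smul_mk, mul_one, eq_comm, mk_eq_mk, inv_one, one_mul]

theorem fix_mk_iff {g h : ↥(SUJ σ)} :
    g • (QuotientGroup.mk h : UJ σ) = QuotientGroup.mk h ↔ h⁻¹ * g * h ∈ BJ σ := by
  rw [smul_mk, eq_comm, mk_eq_mk, mul_assoc]

/-! ### the fields -/

section fields

variable (hF : Fintype.card F = q ^ 2) (hσq : ∀ x, σ x = x ^ q) (hσ : ∀ x, σ (σ x) = x)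

include hσq in
theorem f_x_mul (a b a' b' : F) (h : Cfsg.Agent.Lib.Helper65_U3Defs.Rel q a b)
    (h' : Cfsg.Agent.Lib.Helper65_U3Defs.Rel q a' b') :
    xG hσ a b * xG hσ a' b' = xG hσ (a + a') (b + b' - a ^ q * a') := by
  have hp := (rel_iff_par hσq a b).1 h
  have hp' := (rel_iff_par hσq a' b').1 h'
  rw [xG_of hσ hp, xG_of hσ hp', xJ_mul hσ hp hp', ← hσq a]
  exact (xG_of hσ (Par_mul hσ hp hp')).symm

include hF hσq in
theorem f_t_conj (l : Fˣ) (a b : F) (h : Cfsg.Agent.Lib.Helper65_U3Defs.Rel q a b) :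
    tJ hσ l * xG hσ a b * (tJ hσ l)⁻¹ =
      xG hσ ((l : F) ^ (2 * q - 1) * a) ((l : F) ^ (q + 1) * b) := by
  have hp := (rel_iff_par hσq a b).1 h
  have hl : (l : F) ≠ 0 := l.ne_zero
  have hq1 : 1 ≤ q := by
    rcases Nat.eq_zero_or_pos q with h0 | h0
    · exfalso
      rw [h0] at hF
      have : 1 < Fintype.card F := Fintype.one_lt_card
      omega
    · exact h0
  have e1 : σ (l : F) ^ 2 * (l : F)⁻¹ = (l : F) ^ (2 * q - 1) := by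
    rw [hσq, ← pow_mul, mul_comm q 2]
    have : 2 * q = (2 * q - 1) + 1 := by omega
    conv_lhs => rw [this, pow_succ]
    field_simp
  have e2 : (l : F) * σ (l : F) = (l : F) ^ (q + 1) := by
    rw [hσq, pow_succ, mul_comm]
  rw [xG_of hσ hp, tJ_conj_xJ hσ l hp]
  have hp2 := Par_torus hσ hp l
  rw [← xG_of hσ hp2]
  rw [e1, e2]

include hF hσq in
theorem f_t_ker (hfacts : Facts hσ q) (l : Fˣ) :
    tJ hσ l ∈ Subgroup.center ↥(SUJ σ) ↔ l ^ (q + 1) = 1 ∧ l ^ 3 = 1 := by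
  have e2 : ∀ m : Fˣ, (m : F) * σ (m : F) = 1 ↔ m ^ (q + 1) = 1 := by
    intro m
    rw [hσq, ← pow_succ', Units.ext_iff, Units.val_pow_eq_pow_val, Units.val_one]
  have e3 : ∀ m : Fˣ, (m : F) ^ 3 = 1 ↔ m ^ 3 = 1 := by
    intro m
    rw [Units.ext_iff, Units.val_pow_eq_pow_val, Units.val_one]
  rw [hfacts.center_iff]
  constructor
  · rintro ⟨l', h1, h2, h3⟩
    have := tJ_inj hσ h3
    subst this
    exact ⟨(e2 l).1 h1, (e3 l).1 h2⟩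
  · rintro ⟨h1, h2⟩
    exact ⟨l, (e2 l).2 h1, (e3 l).2 h2, rfl⟩

theorem xJ_mem_BJ {a b : F} (h : Par σ a b) : xJ hσ a b h ∈ BJ σ := by
  rw [mem_BJ_iff hσ]
  show (xS σ a b).1 2 0 = 0
  rw [xS_val hσ]
  simp

theorem tJ_mem_BJ (l : Fˣ) : tJ hσ l ∈ BJ σ := by
  rw [mem_BJ_iff hσ]
  show (tS σ l).1 2 0 = 0
  rw [tS_val]
  simp

include hσq in
theorem f_x_fix (a b : F) (h : Cfsg.Agent.Lib.Helper65_U3Defs.Rel q a b) :
    xG hσ a b • (uJ : UJ σ) = uJ := by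
  have hp := (rel_iff_par hσq a b).1 h
  rw [xG_of hσ hp, smul_uJ_eq]
  exact xJ_mem_BJ hσ hp

theorem f_t_fix (l : Fˣ) : tJ hσ l • (uJ : UJ σ) = uJ ∧ tJ hσ l • (uJ' : UJ σ) = uJ' := by
  constructor
  · rw [smul_uJ_eq]
    exact tJ_mem_BJ hσ l
  · unfold uJ'
    rw [fix_mk_iff]
    have hl : σ (l : F) ≠ 0 := sigma_ne_zero l.ne_zero
    have hw : (wJ : ↥(SUJ σ))⁻¹ * tJ hσ l * wJ = tJ hσ (Units.mk0 (σ (l : F))⁻¹ (inv_ne_zero hl)) := by
      apply su_ext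
      have := wS_conj_tS hσ l (Units.mk0 (σ (l : F))⁻¹ (inv_ne_zero hl)) rfl
      rw [wS_inv] at this
      show (wS : SpecialLinearGroup (Fin 3) F)⁻¹ * tS σ l * wS = _
      rw [wS_inv]
      exact this
    rw [hw]
    exact tJ_mem_BJ hσ _

include hσq in
theorem f_stab_u (g : ↥(SUJ σ)) (hg : g • (uJ : UJ σ) = uJ) :
    ∃ (a b : F) (l : Fˣ), Cfsg.Agent.Lib.Helper65_U3Defs.Rel q a b ∧
      g = xG hσ a b * tJ hσ l := by
  rw [smul_uJ_eq] at hg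
  obtain ⟨a, b, l, hp, e⟩ := borel_decomp hσ g.2 hg.2
  refine ⟨a, b, l, (rel_iff_par hσq a b).2 hp, ?_⟩
  rw [xG_of hσ hp]
  exact su_ext e

include hσq in
theorem f_x_free (a b : F) (h : Cfsg.Agent.Lib.Helper65_U3Defs.Rel q a b)
    (hfix : xG hσ a b • (uJ' : UJ σ) = uJ') : a = 0 ∧ b = 0 := by
  have hp := (rel_iff_par hσq a b).1 h
  rw [xG_of hσ hp] at hfix
  unfold uJ' at hfix
  rw [fix_mk_iff] at hfix
  have e : ((wJ : ↥(SUJ σ))⁻¹ * xJ hσ a b hp * wJ).1 = lS σ (-σ a) b := by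
    show (wS : SpecialLinearGroup (Fin 3) F)⁻¹ * xS σ a b * wS = _
    have := wS_conj_uS σ (σ a) b
    rw [wS_inv] at this ⊢
    exact this
  obtain ⟨h1, h2⟩ := hfix
  have h1' : (lS σ (-σ a) b).1 1 0 = 0 := by rw [← e]; exact h1
  have h2' : (lS σ (-σ a) b).1 2 0 = 0 := by rw [← e]; exact h2
  rw [lS_val] at h1' h2'
  simp [hσ] at h1' h2'
  exact ⟨h1', h2'⟩

include hσq in
theorem inBlk_iff (hfacts : Facts hσ q) (v : UJ σ) :
    InBlk q (xG hσ) (uJ : UJ σ) uJ' v ↔ v ∈ BlkJ σ := by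
  rw [hfacts.mem_BlkJ_iff]
  unfold InBlk
  constructor
  · rintro (h | ⟨b, hb, h⟩)
    · exact Or.inl h
    · have hp : Par σ 0 b := by
        unfold Par
        rw [hσq b, zero_mul, add_zero]
        exact hb
      refine Or.inr ⟨b, hp, ?_⟩
      rw [h, xG_of hσ hp]
      rfl
  · rintro (h | ⟨b, hp, h⟩)
    · exact Or.inl h
    · refine Or.inr ⟨b, ?_, ?_⟩
      · unfold Par at hp
        rw [hσq b, zero_mul, add_zero] at hp
        exact hp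
      · rw [h, xG_of hσ hp]
        rfl

include hσq in
theorem f_blk_unique (hfacts : Facts hσ q) (g : ↥(SUJ σ))
    (h1 : InBlk q (xG hσ) (uJ : UJ σ) uJ' (g • uJ)) (h2 : InBlk q (xG hσ) (uJ : UJ σ) uJ' (g • uJ'))
    (w : UJ σ) (hw : InBlk q (xG hσ) (uJ : UJ σ) uJ' w) :
    InBlk q (xG hσ) (uJ : UJ σ) uJ' (g • w) := by
  rw [inBlk_iff hσq hσ hfacts] at h1 h2 hw ⊢
  have e1 : g • (uJ : UJ σ) = QuotientGroup.mk g := by
    unfold uJ; rw [smul_mk, mul_one]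
  have e2 : g • (uJ' : UJ σ) = QuotientGroup.mk (g * wJ) := rfl
  rw [e1, hfacts.mk_mem_BlkJ] at h1
  rw [e2, hfacts.mk_mem_BlkJ] at h2
  have h12 : mat g 1 2 = 0 := by
    have : mat (g * wJ) 1 0 = mat g 1 2 := by
      rw [mat_mul]
      show (mat g * (wS : SpecialLinearGroup (Fin 3) F).1) 1 0 = _
      rw [wS_val]
      simp [Matrix.mul_apply, Fin.sum_univ_three]
    rw [← this]
    exact h2
  exact hfacts.NJ_smul_mem (hfacts.mem_NJ_of g h1 h12) hw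

theorem f_hC (hfacts : Facts hσ q) (c : ↥(SUJ σ)) (hc : c ∈ Subgroup.center ↥(SUJ σ))
    (w : UJ σ) : c • w = w := by
  induction w using QuotientGroup.induction_on with
  | H h =>
    rw [fix_mk_iff]
    have : h⁻¹ * c * h = c := by
      rw [Subgroup.mem_center_iff] at hc
      rw [mul_assoc, ← hc h, ← mul_assoc, inv_mul_cancel, one_mul]
    rw [this]
    exact hfacts.center_le_BJ hc

theorem f_inv_fix (hfacts : Facts hσ q) (hodd : Odd q) (g : ↥(SUJ σ))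
    (hg : g ^ 2 ∈ Subgroup.center ↥(SUJ σ)) : ∃ w : UJ σ, g • w = w := by
  obtain ⟨l, hl1, hl3, hgl⟩ := (hfacts.center_iff (g ^ 2)).1 hg
  have hc3 : (g ^ 2) ^ 3 = 1 := by
    rw [hgl, ← map_pow]
    have : l ^ 3 = 1 := by
      rw [Units.ext_iff, Units.val_pow_eq_pow_val, Units.val_one]; exact hl3
    rw [this, map_one]
  have hcomm : ∀ y : ↥(SUJ σ), y * g ^ 2 = g ^ 2 * y := fun y =>
    (Subgroup.mem_center_iff.1 hg y)
  have hinv : (g * g ^ 2) * (g * g ^ 2) = 1 := by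
    calc (g * g ^ 2) * (g * g ^ 2) = (g ^ 2) ^ 3 := by group
      _ = 1 := hc3
  obtain ⟨h, hh⟩ := hfacts.inv_fix hodd (g * g ^ 2) hinv
  refine ⟨QuotientGroup.mk h, ?_⟩
  rw [fix_mk_iff]
  have e : h⁻¹ * g * h = (h⁻¹ * (g * g ^ 2) * h) * (g ^ 2)⁻¹ := by
    have : h⁻¹ * (g * g ^ 2) * h = h⁻¹ * g * h * g ^ 2 := by
      rw [mul_assoc h⁻¹ (g * g ^ 2) h, mul_assoc g (g ^ 2) h, ← hcomm h]
      simp only [mul_assoc]
    rw [this, mul_inv_cancel_right]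
  rw [e]
  exact (BJ σ).mul_mem hh ((BJ σ).inv_mem (hfacts.center_le_BJ hg))

theorem f_huu' : (uJ : UJ σ) ≠ uJ' := by
  intro h
  unfold uJ uJ' at h
  rw [mk_eq_mk, inv_one, one_mul] at h
  have h2 : (wS : SpecialLinearGroup (Fin 3) F).1 2 0 = 0 := h.2
  rw [wS_val] at h2
  simp at h2

end fields

/-- **the instance**: `SUJ σ` acting on `UJ σ` satisfies helper65's `U3DataSU` -/
noncomputable def dataSU (hF : Fintype.card F = q ^ 2) (hσq : ∀ x, σ x = x ^ q)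
    (hσ : ∀ x, σ (σ x) = x) (hq3 : 3 ≤ q) {p k : ℕ} (hp : p.Prime) (hk : 0 < k) (hqp : q = p ^ k)
    (hchar : CharP F p) (hfacts : Facts hσ q) : U3DataSU p q F ↥(SUJ σ) (UJ σ) where
  hp := hp
  k := k
  hk := hk
  hq := hqp
  charF := hchar
  cardF := by rw [Nat.card_eq_fintype_card, hF]
  finG := inferInstance
  cardU := hfacts.card_UJ
  two_trans := hfacts.two_trans
  hC := f_hC hσ hfacts
  simple := simple_PJ hF hσq hq3
  u := uJ
  u' := uJ'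
  huu' := f_huu'
  x := xG hσ
  t := tJ hσ
  x_mul := f_x_mul hσq hσ
  t_conj := f_t_conj hF hσq hσ
  t_ker := f_t_ker hF hσq hσ hfacts
  x_fix := f_x_fix hσq hσ
  t_fix := f_t_fix hσ
  stab_u := f_stab_u hσq hσ
  x_free := f_x_free hσq hσ
  blk_unique := f_blk_unique hσq hσ hfacts
  inv_fix := by
    intro hp2 g hg _
    have hodd : Odd q := by
      rw [hqp]
      exact (hp.odd_of_ne_two hp2).pow
    exact f_inv_fix hσ hfacts hodd g hg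

end Cfsg.Agent.Lib.Helper83_U3Inst
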