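import Mathlib
import Cfsg.Agent.Lib.Helper83_U3Inst
import Cfsg.Agent.Lib.Helper51_U3BridgeSU
import Cfsg.Agent.Lib.Helper51_U3Dickson2
import Cfsg.Agent.Lib.Helper51_U3FactsSU

/-!
# U3C-BREP (S2148, concrete half): the `BlockRepSU` instance on `SUJ σ` (helper51)

`blockRepSUJ … : BlockRepSU (dataSU …)` with `St = NJ hσ` (the stabiliser of the hyperbolic line
`⟨e₀,e₂⟩`) and `ρ = rho2` (the corner matrix); `Helper51_U3FactsSU.dickson2_SU` turns it into
`Dickson2 (dataSU …).toU3Data`.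
-/

set_option autoImplicit false
set_option linter.unusedSectionVars false
set_option linter.unusedVariables false
set_option linter.unusedSimpArgs false

namespace Cfsg.Agent.Lib.Helper51_U3C_BREP

open Matrix Cfsg.Agent.Lib.Helper83_TvCalc Cfsg.Agent.Lib.Helper83_SL3Pair
  Cfsg.Agent.Lib.Helper83_SU3J Cfsg.Agent.Lib.Helper83_U3Model Cfsg.Agent.Lib.Helper83_U3Bruhat
  Cfsg.Agent.Lib.Helper83_U3Group Cfsg.Agent.Lib.Helper83_U3PJ Cfsg.Agent.Lib.Helper83_U3Inst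
  Cfsg.Agent.Lib.Helper65_U3Defs Cfsg.Agent.Lib.Helper65_U3Adapter
  Cfsg.Agent.Lib.Helper51_U3BridgeSU

variable {F : Type*} [Field F] [Fintype F] {σ : F →+* F} {q : ℕ}

/-- the corner representation of the block stabiliser, by plain matrices -/
noncomputable def rhoM (hσ : ∀ x, σ (σ x) = x) : ↥(NJ hσ) →* Matrix (Fin 2) (Fin 2) F :=
  (Units.coeHom (Matrix (Fin 2) (Fin 2) F)).comp (rhoN hσ)

theorem rhoM_apply (hσ : ∀ x, σ (σ x) = x) (s : ↥(NJ hσ)) : rhoM hσ s = rho2 s.1 := rfl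

theorem rho2_apply (g : ↥(SUJ σ)) :
    rho2 g 0 0 = mat g 0 0 ∧ rho2 g 0 1 = mat g 0 2 ∧ rho2 g 1 0 = mat g 2 0 ∧
      rho2 g 1 1 = mat g 2 2 := by
  unfold rho2
  simp

section

variable (hF : Fintype.card F = q ^ 2) (hσq : ∀ x, σ x = x ^ q) (hσ : ∀ x, σ (σ x) = x)

include hσq in
/-- an element preserving the block lies in `NJ` -/
theorem mem_NJ_of_stab (hfacts : Facts hσ q) (g : ↥(SUJ σ))
    (hg : ∀ w, InBlk q (xG hσ) (uJ : UJ σ) uJ' w → InBlk q (xG hσ) (uJ : UJ σ) uJ' (g • w)) :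
    g ∈ NJ hσ := by
  have h1 := hg uJ (Or.inl rfl)
  have hu' : InBlk q (xG hσ) (uJ : UJ σ) uJ' uJ' := by
    rw [inBlk_iff hσq hσ hfacts]
    unfold uJ'
    rw [hfacts.mk_mem_BlkJ]
    show (wS : SpecialLinearGroup (Fin 3) F).1 1 0 = 0
    rw [wS_val]
    simp
  have h2 := hg uJ' hu'
  rw [inBlk_iff hσq hσ hfacts] at h1 h2
  have e1 : g • (uJ : UJ σ) = QuotientGroup.mk g := by
    unfold uJ; rw [smul_mk, mul_one]
  have e2 : g • (uJ' : UJ σ) = QuotientGroup.mk (g * wJ) := rfl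
  rw [e1, hfacts.mk_mem_BlkJ] at h1
  rw [e2, hfacts.mk_mem_BlkJ] at h2
  have h12 : mat g 1 2 = 0 := by
    have : mat (g * wJ) 1 0 = mat g 1 2 := by
      rw [mat_mul]
      show (mat g * (wS : SpecialLinearGroup (Fin 3) F).1) 1 0 = _
      rw [wS_val]
      simp [Matrix.mul_apply, Fin.sum_univ_three]
    rw [← this]
    exact h2
  exact hfacts.mem_NJ_of g h1 h12

include hF hσq in
/-- the determinant of the corner matrix is a square -/
theorem isSquare_det (hfacts : Facts hσ q) {p k : ℕ} (hp : p.Prime) (hqp : q = p ^ k)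
    (hchar : CharP F p) (s : ↥(NJ hσ)) : IsSquare (rhoM hσ s).det := by
  rw [rhoM_apply]
  have h := hfacts.det_rho2_norm s.2
  rw [hσq, ← pow_succ'] at h
  by_cases hp2 : p = 2
  · subst hp2
    exact FiniteField.isSquare_of_char_two (ringChar.eq F 2) _
  · have hodd : Odd q := by
      rw [hqp]
      exact (hp.odd_of_ne_two hp2).pow
    exact Cfsg.Agent.Lib.Helper51_U3Dickson2.isSquare_of_pow_eq_one hF hodd h

/-- a homology fixes every point of the block -/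
theorem T1J_fix {g : ↥(SUJ σ)} (hg : g ∈ T1J hσ) {v : UJ σ} (hv : v ∈ BlkJ σ) : g • v = v := by
  obtain ⟨l, hl, rfl⟩ := hg
  obtain ⟨h, rfl, h10⟩ := hv
  rw [fix_mk_iff, mem_BJ_iff hσ]
  have hl0 : (l : F) ≠ 0 := l.ne_zero
  have hs0 : σ (l : F) ≠ 0 := sigma_ne_zero hl0
  have hinv : (σ (l : F))⁻¹ = (l : F) := by
    field_simp
    rw [mul_comm]; exact hl.symm
  have hcol : ∀ k, mat (tJ hσ l * h) k 0 = (l : F) * mat h k 0 := by
    intro k
    rw [mat_mul]
    show ((tS σ l).1 * mat h) k 0 = _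
    rw [tS_val]
    fin_cases k
    · simp [Matrix.mul_apply, Fin.sum_univ_three]
    · simp [Matrix.mul_apply, Fin.sum_univ_three, h10]
    · simp [Matrix.mul_apply, Fin.sum_univ_three, hinv]
  have e : mat (h⁻¹ * tJ hσ l * h) 2 0 = (l : F) * (mat h⁻¹ * mat h) 2 0 := by
    rw [mul_assoc, mat_mul, Matrix.mul_apply, Matrix.mul_apply, Finset.mul_sum]
    apply Finset.sum_congr rfl
    intro k _
    rw [hcol k]; ring
  rw [e, mat_inv_mul]
  simp

include hσq in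
/-- the corner matrix is scalar iff the element fixes the block pointwise -/
theorem scalar_iff_fix (hfacts : Facts hσ q) (s : ↥(NJ hσ)) :
    (rhoM hσ s 0 1 = 0 ∧ rhoM hσ s 1 0 = 0 ∧ rhoM hσ s 0 0 = rhoM hσ s 1 1) ↔
      ∀ w, InBlk q (xG hσ) (uJ : UJ σ) uJ' w → (s : ↥(SUJ σ)) • w = w := by
  rw [rhoM_apply]
  obtain ⟨r00, r01, r10, r11⟩ := rho2_apply s.1
  rw [r00, r01, r10, r11]
  constructor
  · rintro ⟨h1, h2, h3⟩ w hw
    rw [inBlk_iff hσq hσ hfacts] at hw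
    apply T1J_fix hσ _ hw
    rw [← hfacts.rho2_scalar_iff s.2]
    refine ⟨mat s.1 0 0, ?_⟩
    ext i j
    fin_cases i <;> fin_cases j <;> simp [rho2, h1, h2, h3]
  · intro hfix
    obtain ⟨g1, g2, g3, g4⟩ := s.2
    -- fixes `⟨e₀⟩`
    have h20 : mat s.1 2 0 = 0 := by
      have := hfix uJ (Or.inl rfl)
      rw [smul_uJ_eq] at this
      exact this.2
    -- fixes `⟨e₂⟩`
    have hu' : InBlk q (xG hσ) (uJ : UJ σ) uJ' uJ' := by
      rw [inBlk_iff hσq hσ hfacts]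
      unfold uJ'
      rw [hfacts.mk_mem_BlkJ]
      show (wS : SpecialLinearGroup (Fin 3) F).1 1 0 = 0
      rw [wS_val]
      simp
    have h02 : mat s.1 0 2 = 0 := by
      have := hfix uJ' hu'
      unfold uJ' at this
      rw [fix_mk_iff, mem_BJ_iff hσ, wJ_inv] at this
      have e : mat ((wJ : ↥(SUJ σ)) * s.1 * wJ) 2 0 = mat s.1 0 2 := by
        rw [mat_mul, mat_mul]
        show ((wS : SpecialLinearGroup (Fin 3) F).1 * mat s.1 *
          (wS : SpecialLinearGroup (Fin 3) F).1) 2 0 = _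
        rw [wS_val, Matrix.mul_apply, Fin.sum_univ_three, Matrix.mul_apply, Matrix.mul_apply,
          Matrix.mul_apply, Fin.sum_univ_three, Fin.sum_univ_three, Fin.sum_univ_three]
        simp
      rw [← e]; exact this
    refine ⟨h02, h20, ?_⟩
    -- fixes `⟨e e₀ + e₂⟩`
    obtain ⟨e, he0, he⟩ := hfacts.exists_trace_zero
    have hp : Par σ 0 e := by
      unfold Par
      rw [zero_mul, add_zero]; exact he
    have hw : InBlk q (xG hσ) (uJ : UJ σ) uJ' (xJ hσ 0 e hp • (uJ' : UJ σ)) := by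
      refine Or.inr ⟨e, ?_, ?_⟩
      · rw [← hσq]; exact he
      · rw [xG_of hσ hp]
    have hfx := hfix _ hw
    have e2 : xJ hσ 0 e hp • (uJ' : UJ σ) = QuotientGroup.mk (xJ hσ 0 e hp * wJ) := rfl
    rw [e2, fix_mk_iff, mem_BJ_iff hσ] at hfx
    obtain ⟨h, hh⟩ : ∃ h : ↥(SUJ σ), h = xJ hσ 0 e hp * wJ := ⟨_, rfl⟩
    rw [← hh] at hfx
    have hcol : mat h 0 0 = e ∧ mat h 1 0 = 0 ∧ mat h 2 0 = 1 := by
      rw [hh, mat_mul]
      show ((xS σ 0 e).1 * (wS : SpecialLinearGroup (Fin 3) F).1) 0 0 = e ∧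
        ((xS σ 0 e).1 * (wS : SpecialLinearGroup (Fin 3) F).1) 1 0 = 0 ∧
        ((xS σ 0 e).1 * (wS : SpecialLinearGroup (Fin 3) F).1) 2 0 = 1
      rw [xS_val hσ, wS_val]
      refine ⟨?_, ?_, ?_⟩ <;> simp [Matrix.mul_apply, Fin.sum_univ_three]
    obtain ⟨c0, c1, c2⟩ := hcol
    have hse : σ e = -e := by linear_combination he
    have key : mat (h⁻¹ * s.1 * h) 2 0 = e * (mat s.1 0 0 - mat s.1 2 2) := by
      rw [mul_assoc, mat_mul, Matrix.mul_apply, Fin.sum_univ_three, mat_inv_apply hσ,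
        mat_inv_apply hσ, mat_inv_apply hσ, mat_mul, Matrix.mul_apply, Matrix.mul_apply,
        Matrix.mul_apply, Fin.sum_univ_three, Fin.sum_univ_three, Fin.sum_univ_three]
      have r0 : (2 : Fin 3).rev = 0 := rfl
      have r1 : (1 : Fin 3).rev = 1 := rfl
      have r2 : (0 : Fin 3).rev = 2 := rfl
      rw [r0, r1, r2, c0, c1, c2, g1, g2, g3, h20, h02, map_one, map_zero, hse]
      ring
    rw [key] at hfx
    rcases mul_eq_zero.1 hfx with h | h
    · exact absurd h he0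
    · linear_combination h

end

/-- **the instance**: the block stabiliser `NJ` with its corner representation -/
noncomputable def blockRepSUJ (hF : Fintype.card F = q ^ 2) (hσq : ∀ x, σ x = x ^ q)
    (hσ : ∀ x, σ (σ x) = x) (hq3 : 3 ≤ q) {p k : ℕ} (hp : p.Prime) (hk : 0 < k) (hqp : q = p ^ k)
    (hchar : CharP F p) (hfacts : Facts hσ q) :
    BlockRepSU (dataSU hF hσq hσ hq3 hp hk hqp hchar hfacts) where
  St := NJ hσ
  mem_St := mem_NJ_of_stab hσq hσ hfacts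
  ρ := rhoM hσ
  det_sq := isSquare_det hF hσq hσ hfacts hp hqp hchar
  scalar_iff := scalar_iff_fix hσq hσ hfacts

/-- **`Dickson2`** for the data on `PJ σ = SUJ σ ⧸ centre`. -/
theorem dickson2_SUJ (hF : Fintype.card F = q ^ 2) (hσq : ∀ x, σ x = x ^ q)
    (hσ : ∀ x, σ (σ x) = x) (hq3 : 3 ≤ q) {p k : ℕ} (hp : p.Prime) (hk : 0 < k) (hqp : q = p ^ k)
    (hchar : CharP F p) (hfacts : Facts hσ q) :
    @Dickson2 p q F _ _ _ _ (quotAction (dataSU hF hσq hσ hq3 hp hk hqp hchar hfacts).hC)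
      (dataSU hF hσq hσ hq3 hp hk hqp hchar hfacts).toU3Data :=
  Cfsg.Agent.Lib.Helper51_U3FactsSU.dickson2_SU _
    (blockRepSUJ hF hσq hσ hq3 hp hk hqp hchar hfacts)

end Cfsg.Agent.Lib.Helper51_U3C_BREP
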