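import Mathlib
import Cfsg.Agent.Lib.Helper37_UTDefs
import Cfsg.Agent.Lib.Helper37_UTPairDefs
import Cfsg.Agent.Lib.Helper43_UT_ODDALG
import Cfsg.Agent.Lib.Helper51_UT_ODDTR

set_option autoImplicit false
set_option linter.unusedSectionVars false
set_option linter.unusedVariables false

/-!
UTENS package UT-ODDTR (helper51), final form: `odd_transfer` with the two extra hypotheses
`IsRootOp f ℓ N`, `IsRootOp f ℓ' N'` (the stub of `UTENS_packages4` is false without `N² = 0`),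
from `Helper51_UT_ODDTR.odd_transfer_of'` and `Helper43_UT_ODDALG.odd_alg`.
-/

namespace Cfsg.Agent.Lib.Helper51_UT_ODDTRmain

open Module
open Cfsg.Agent.Lib.Helper94_Herm Cfsg.Agent.Lib.Helper13_PSUSimple
open Cfsg.Agent.Lib.Helper37_UTPairDefs Cfsg.Agent.Lib.Helper51_UT_ODDTR

variable {F : Type*} [Field F] {V : Type*} [AddCommGroup V] [Module F V] {σ : F →+* F}
variable {f : V →ₗ[F] V →ₛₗ[σ] F} {ℓ ℓ' : Submodule F V} {N N' : V →ₗ[F] V}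

/-- ODDTR with `N² = 0 = N'²` -/
theorem odd_transfer_sq [Finite F] [FiniteDimensional F V] (hσ : Invol σ) (h2 : (2 : F) ≠ 0)
    (hsq : ∀ v, N (N v) = 0) (hsq' : ∀ v, N' (N' v) = 0)
    (hG : PairGeo f ℓ ℓ' N N') (hJ : ℓ'.map N ≠ ⊥) :
    ∃ γ ∈ Gam σ N N', (∀ u ∈ ℓ'.map N, γ u ∈ ℓ'.map N) ∧
      ¬ ∃ s : F, ∀ w ∈ ℓ'.map N ⊔ ℓ.map N', γ w = w + s • N w := by
  have : Nontrivial ↥(ℓ'.map N) := Submodule.nontrivial_iff_ne_bot.mpr hJ
  exact odd_transfer_of hsq hsq' hG (fun T => Helper43_UT_ODDALG.odd_alg hσ h2 T)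

/-- ODDTR (L): transfer to the pair (with the root operator hypotheses) -/
theorem odd_transfer [Finite F] [FiniteDimensional F V] (hσ : Invol σ) (h2 : (2 : F) ≠ 0)
    (hℓ : IsRootOp f ℓ N) (hℓ' : IsRootOp f ℓ' N')
    (hG : PairGeo f ℓ ℓ' N N') (hJ : ℓ'.map N ≠ ⊥) :
    ∃ γ ∈ Gam σ N N', (∀ u ∈ ℓ'.map N, γ u ∈ ℓ'.map N) ∧
      ¬ ∃ s : F, ∀ w ∈ ℓ'.map N ⊔ ℓ.map N', γ w = w + s • N w :=
  odd_transfer_sq hσ h2 (h51_sq_of_rootOp hℓ) (h51_sq_of_rootOp hℓ') hG hJ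

end Cfsg.Agent.Lib.Helper51_UT_ODDTRmain
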