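import Mathlib

/-!
S3341-ARITH4 (helper6's market): the arithmetic endgame of the case `Fus4`: `|G| = 360`.
-/

set_option autoImplicit false
set_option linter.unusedVariables false

namespace Cfsg.Agent.Lib.Helper52_A6_ARITH4

/-- an integer `≡ 1 (mod 9)`, `≠ 1`: size and reciprocal bounds -/
theorem y_bounds (y : ℤ) (h9 : (9 : ℤ) ∣ y - 1) (hn : y ≠ 1) :
    64 ≤ y ^ 2 ∧ -(1 / 8 : ℚ) ≤ 1 / (y : ℚ) := by
  obtain ⟨k, hk⟩ := h9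
  have hk0 : k ≠ 0 := by
    intro h
    apply hn
    rw [h] at hk
    omega
  rcases lt_or_gt_of_ne hk0 with hneg | hpos
  · have hy : y ≤ -8 := by omega
    constructor
    · nlinarith
    · have h8 : (8 : ℚ) ≤ -(y : ℚ) := by
        have : (8 : ℤ) ≤ -y := by omega
        exact_mod_cast this
      have := one_div_le_one_div_of_le (by norm_num : (0 : ℚ) < 8) h8
      rw [div_neg] at this
      linarith
  · have hy : 10 ≤ y := by omega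
    constructor
    · nlinarith
    · have h0 : (0 : ℚ) < (y : ℚ) := by
        have : (0 : ℤ) < y := by omega
        exact_mod_cast this
      have := one_div_pos.mpr h0
      linarith

theorem core (g : ℕ) (y0 y1 y2 e : ℤ) (h0 : (9 : ℤ) ∣ y0 - 1) (h1 : (9 : ℤ) ∣ y1 - 1)
    (h2 : (9 : ℤ) ∣ y2 - 1) (n0 : y0 ≠ 1) (n1 : y1 ≠ 1) (n2 : y2 ≠ 1) (he : (9 : ℤ) ∣ e + 4)
    (hD : 1 + y0 + y1 + y2 + e = 0)
    (hQ : 1 + y0 ^ 2 + y1 ^ 2 + y2 ^ 2 + 2 * e ^ 2 ≤ (g : ℤ))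
    (H1 : (g : ℚ) * (1 + 1 / (y0 : ℚ) + 1 / (y1 : ℚ) + 1 / (y2 : ℚ) - 2 / (e : ℚ)) = 162)
    (H2 : 81 ≤ (g : ℚ) * (1 + 1 / (y0 : ℚ) + 1 / (y1 : ℚ) + 1 / (y2 : ℚ) + 7 / (e : ℚ))) :
    g = 360 := by
  obtain ⟨b0, r0⟩ := y_bounds y0 h0 n0
  obtain ⟨b1, r1⟩ := y_bounds y1 h1 n1
  obtain ⟨b2, r2⟩ := y_bounds y2 h2 n2
  have he0 : e ≠ 0 := by
    intro h
    rw [h] at he
    omega
  have hgq : (0 : ℚ) ≤ (g : ℚ) := Nat.cast_nonneg g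
  -- difference of the two equations
  have hdiff : -9 ≤ (g : ℚ) / (e : ℚ) := by
    have e1 : (g : ℚ) * (1 + 1 / (y0 : ℚ) + 1 / (y1 : ℚ) + 1 / (y2 : ℚ) + 7 / (e : ℚ)) -
        (g : ℚ) * (1 + 1 / (y0 : ℚ) + 1 / (y1 : ℚ) + 1 / (y2 : ℚ) - 2 / (e : ℚ)) =
        9 * ((g : ℚ) / (e : ℚ)) := by ring
    linarith
  rcases lt_or_gt_of_ne he0 with hneg | hpos
  · -- `e < 0`
    exfalso
    have heq : (e : ℚ) < 0 := by exact_mod_cast hneg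
    rw [le_div_iff_of_neg heq] at hdiff
    have : (g : ℤ) ≤ -9 * e := by exact_mod_cast hdiff
    nlinarith [sq_nonneg (4 * e + 9)]
  · -- `e > 0`
    have he5 : 5 ≤ e := by
      obtain ⟨m, hm⟩ := he
      omega
    have heq : (5 : ℚ) ≤ (e : ℚ) := by exact_mod_cast he5
    have h25 : 2 / (e : ℚ) ≤ 2 / 5 :=
      div_le_div_of_nonneg_left (by norm_num) (by norm_num) heq
    have hS : (9 / 40 : ℚ) ≤ 1 + 1 / (y0 : ℚ) + 1 / (y1 : ℚ) + 1 / (y2 : ℚ) - 2 / (e : ℚ) := by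
      linarith
    have hg720 : (g : ℚ) ≤ 720 := by
      have := mul_le_mul_of_nonneg_left hS hgq
      rw [H1] at this
      linarith
    have hg720' : (g : ℤ) ≤ 720 := by exact_mod_cast hg720
    have he25 : 25 ≤ e ^ 2 := by nlinarith
    have he16 : e ≤ 16 := by
      have h : e ^ 2 < 17 ^ 2 := by linarith
      have := abs_lt_of_sq_lt_sq' h (by norm_num)
      omega
    have hy0 : -23 ≤ y0 ∧ y0 ≤ 23 := by
      have h : y0 ^ 2 < 24 ^ 2 := by linarith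
      have := abs_lt_of_sq_lt_sq' h (by norm_num)
      omega
    have hy1 : -23 ≤ y1 ∧ y1 ≤ 23 := by
      have h : y1 ^ 2 < 24 ^ 2 := by linarith
      have := abs_lt_of_sq_lt_sq' h (by norm_num)
      omega
    have hy2 : -23 ≤ y2 ∧ y2 ≤ 23 := by
      have h : y2 ^ 2 < 24 ^ 2 := by linarith
      have := abs_lt_of_sq_lt_sq' h (by norm_num)
      omega
    have ce : e = 5 ∨ e = 14 := by
      obtain ⟨m, hm⟩ := he
      omega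
    have c0 : y0 = -17 ∨ y0 = -8 ∨ y0 = 10 ∨ y0 = 19 := by
      obtain ⟨k, hk⟩ := h0
      omega
    have c1 : y1 = -17 ∨ y1 = -8 ∨ y1 = 10 ∨ y1 = 19 := by
      obtain ⟨k, hk⟩ := h1
      omega
    have c2 : y2 = -17 ∨ y2 = -8 ∨ y2 = 10 ∨ y2 = 19 := by
      obtain ⟨k, hk⟩ := h2
      omega
    rcases ce with rfl | rfl <;> rcases c0 with rfl | rfl | rfl | rfl <;>
      rcases c1 with rfl | rfl | rfl | rfl <;> rcases c2 with rfl | rfl | rfl | rfl <;>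
      first
      | (exfalso; omega)
      | (exfalso; norm_num at hQ; done)
      | (norm_num at H1
         have : (g : ℚ) = 360 := by linarith
         exact_mod_cast this)

theorem frac_eq (c : ℤ) (hc : c = 1 ∨ c = -1) (x : ℕ) :
    (c : ℚ) / (x : ℚ) = 1 / ((c * (x : ℤ) : ℤ) : ℚ) := by
  rcases hc with rfl | rfl
  · push_cast
    rw [one_mul]
  · push_cast
    rw [neg_one_mul, div_neg, neg_div]

theorem frac_eq' (k : ℚ) (c : ℤ) (hc : c = 1 ∨ c = -1) (x : ℕ) :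
    k * (c : ℚ) / (x : ℚ) = k / ((c * (x : ℤ) : ℤ) : ℚ) := by
  rw [mul_div_assoc, frac_eq c hc x, mul_one_div]

/-- ARITH4 (pure arithmetic): the unique solution is `g = 360`. -/
theorem arith4 (g : ℕ) (x : Fin 3 → ℕ) (c : Fin 3 → ℤ) (d : ℕ) (ε : ℤ)
    (hc : ∀ j, c j = 1 ∨ c j = -1) (hε : ε = 1 ∨ ε = -1)
    (hx1 : ∀ j, x j ≠ 1) (hx0 : ∀ j, 0 < x j) (hd0 : 0 < d)
    (hxc : ∀ j, (9 : ℤ) ∣ (x j : ℤ) - c j) (hdc : (9 : ℤ) ∣ (d : ℤ) + 4 * ε)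
    (hdeg : (1 : ℤ) + ∑ j, c j * (x j : ℤ) + ε * (d : ℤ) = 0)
    (h36 : 36 ∣ g)
    (hsq : 1 + ∑ j, (x j) ^ 2 + 2 * d ^ 2 ≤ g)
    (h1 : (g : ℚ) * (1 + ∑ j, (c j : ℚ) / (x j : ℚ) - 2 * (ε : ℚ) / (d : ℚ)) = 162)
    (h2 : 81 ≤ (g : ℚ) * (1 + ∑ j, (c j : ℚ) / (x j : ℚ) + 7 * (ε : ℚ) / (d : ℚ))) :
    g = 360 := by
  have hcsq : ∀ j, c j * c j = 1 := by
    intro j
    rcases hc j with h | h <;> rw [h] <;> norm_num
  have hεsq : ε * ε = 1 := by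
    rcases hε with h | h <;> rw [h] <;> norm_num
  have hy9 : ∀ j, (9 : ℤ) ∣ c j * (x j : ℤ) - 1 := by
    intro j
    have := Dvd.dvd.mul_left (hxc j) (c j)
    have e : c j * ((x j : ℤ) - c j) = c j * (x j : ℤ) - 1 := by
      rw [mul_sub, hcsq j]
    rwa [e] at this
  have hyn : ∀ j, c j * (x j : ℤ) ≠ 1 := by
    intro j h
    have hx0' : (0 : ℤ) < (x j : ℤ) := by exact_mod_cast hx0 j
    rcases hc j with hcj | hcj
    · rw [hcj, one_mul] at h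
      exact hx1 j (by exact_mod_cast h)
    · rw [hcj] at h
      omega
  have he9 : (9 : ℤ) ∣ ε * (d : ℤ) + 4 := by
    have := Dvd.dvd.mul_left hdc ε
    have e : ε * ((d : ℤ) + 4 * ε) = ε * (d : ℤ) + 4 := by
      rw [mul_add, mul_comm 4 ε, ← mul_assoc, hεsq, one_mul]
    rwa [e] at this
  rw [Fin.sum_univ_three] at hdeg hsq h1 h2
  apply core g (c 0 * (x 0 : ℤ)) (c 1 * (x 1 : ℤ)) (c 2 * (x 2 : ℤ)) (ε * (d : ℤ))
    (hy9 0) (hy9 1) (hy9 2) (hyn 0) (hyn 1) (hyn 2) he9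
  · linarith
  · have hsq' : (1 : ℤ) + ((x 0 : ℤ) ^ 2 + (x 1 : ℤ) ^ 2 + (x 2 : ℤ) ^ 2) + 2 * (d : ℤ) ^ 2 ≤ (g : ℤ) := by
      exact_mod_cast hsq
    have e0 : (c 0 * (x 0 : ℤ)) ^ 2 = (x 0 : ℤ) ^ 2 := by rw [mul_pow, pow_two (c 0), hcsq 0, one_mul]
    have e1 : (c 1 * (x 1 : ℤ)) ^ 2 = (x 1 : ℤ) ^ 2 := by rw [mul_pow, pow_two (c 1), hcsq 1, one_mul]
    have e2 : (c 2 * (x 2 : ℤ)) ^ 2 = (x 2 : ℤ) ^ 2 := by rw [mul_pow, pow_two (c 2), hcsq 2, one_mul]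
    have e3 : (ε * (d : ℤ)) ^ 2 = (d : ℤ) ^ 2 := by rw [mul_pow, pow_two ε, hεsq, one_mul]
    rw [e0, e1, e2, e3]
    linarith
  · rw [← frac_eq (c 0) (hc 0), ← frac_eq (c 1) (hc 1), ← frac_eq (c 2) (hc 2), ← frac_eq' 2 ε hε]
    rw [← h1]
    ring
  · rw [← frac_eq (c 0) (hc 0), ← frac_eq (c 1) (hc 1), ← frac_eq (c 2) (hc 2), ← frac_eq' 7 ε hε]
    refine le_trans h2 (le_of_eq ?_)
    ring

end Cfsg.Agent.Lib.Helper52_A6_ARITH4
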