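import Mathlib
import Cfsg.Agent.Lib.Helper13_B2Defs
import Cfsg.Agent.Lib.Helper13_B2Geom

/-!
B2-NORM (helper13's S1083 market): diagonal isometries normalise the root subgroups of `O5`.
`a * xO r t * a⁻¹ = xO r (chi x y z r * t)` for `↑a = dM x y z`.
-/

set_option autoImplicit false
set_option linter.unusedTactic false
set_option linter.unreachableTactic false
set_option linter.unusedVariables false
set_option linter.unnecessarySeqFocus false

namespace Cfsg.Agent.Lib.Helper52_B2_NORM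

open Cfsg Cfsg.Agent.Lib.Helper13_B2Defs Cfsg.Agent.Lib.Helper13_B2Geom Matrix

variable {F : Type*} [Field F]

/-- the character of the diagonal torus `diag(x; y, z; y⁻¹, z⁻¹)` on the root `r` -/
def chi (x y z : F) (r : ℕ) : F :=
  match r with
  | 0 => (y * z)⁻¹
  | 1 => x * y⁻¹
  | 2 => x * z⁻¹
  | 3 => z * y⁻¹
  | 4 => y * z⁻¹
  | 5 => x * z
  | 6 => x * y
  | 7 => y * z
  | _ => 1

theorem dM_xM_0 (x y z : F) (hx : x * x = 1) (hy : y ≠ 0) (hz : z ≠ 0) (t : F) :
    dM F x y z * xM F 0 t = xM F 0 (chi x y z 0 * t) * dM F x y z := by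
  have hx2 : x ^ 2 = 1 := by rw [pow_two]; exact hx
  apply mat_ext5
  intro a b c d e
  rw [← Matrix.mulVec_mulVec, ← Matrix.mulVec_mulVec, dM_mk5, xM_mk5_0, xM_mk5_0, dM_mk5]
  apply mk5_ext <;> simp only [chi] <;> field_simp <;> (try simp only [hx2]) <;> ring

theorem dM_xM_1 (x y z : F) (hx : x * x = 1) (hy : y ≠ 0) (hz : z ≠ 0) (t : F) :
    dM F x y z * xM F 1 t = xM F 1 (chi x y z 1 * t) * dM F x y z := by
  have hx2 : x ^ 2 = 1 := by rw [pow_two]; exact hx
  apply mat_ext5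
  intro a b c d e
  rw [← Matrix.mulVec_mulVec, ← Matrix.mulVec_mulVec, dM_mk5, xM_mk5_1, xM_mk5_1, dM_mk5]
  apply mk5_ext <;> simp only [chi] <;> field_simp <;> (try simp only [hx2]) <;> ring

theorem dM_xM_2 (x y z : F) (hx : x * x = 1) (hy : y ≠ 0) (hz : z ≠ 0) (t : F) :
    dM F x y z * xM F 2 t = xM F 2 (chi x y z 2 * t) * dM F x y z := by
  have hx2 : x ^ 2 = 1 := by rw [pow_two]; exact hx
  apply mat_ext5
  intro a b c d e
  rw [← Matrix.mulVec_mulVec, ← Matrix.mulVec_mulVec, dM_mk5, xM_mk5_2, xM_mk5_2, dM_mk5]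
  apply mk5_ext <;> simp only [chi] <;> field_simp <;> (try simp only [hx2]) <;> ring

theorem dM_xM_3 (x y z : F) (hx : x * x = 1) (hy : y ≠ 0) (hz : z ≠ 0) (t : F) :
    dM F x y z * xM F 3 t = xM F 3 (chi x y z 3 * t) * dM F x y z := by
  have hx2 : x ^ 2 = 1 := by rw [pow_two]; exact hx
  apply mat_ext5
  intro a b c d e
  rw [← Matrix.mulVec_mulVec, ← Matrix.mulVec_mulVec, dM_mk5, xM_mk5_3, xM_mk5_3, dM_mk5]
  apply mk5_ext <;> simp only [chi] <;> field_simp <;> (try simp only [hx2]) <;> ring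

theorem dM_xM_4 (x y z : F) (hx : x * x = 1) (hy : y ≠ 0) (hz : z ≠ 0) (t : F) :
    dM F x y z * xM F 4 t = xM F 4 (chi x y z 4 * t) * dM F x y z := by
  have hx2 : x ^ 2 = 1 := by rw [pow_two]; exact hx
  apply mat_ext5
  intro a b c d e
  rw [← Matrix.mulVec_mulVec, ← Matrix.mulVec_mulVec, dM_mk5, xM_mk5_4, xM_mk5_4, dM_mk5]
  apply mk5_ext <;> simp only [chi] <;> field_simp <;> (try simp only [hx2]) <;> ring

theorem dM_xM_5 (x y z : F) (hx : x * x = 1) (hy : y ≠ 0) (hz : z ≠ 0) (t : F) :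
    dM F x y z * xM F 5 t = xM F 5 (chi x y z 5 * t) * dM F x y z := by
  have hx2 : x ^ 2 = 1 := by rw [pow_two]; exact hx
  apply mat_ext5
  intro a b c d e
  rw [← Matrix.mulVec_mulVec, ← Matrix.mulVec_mulVec, dM_mk5, xM_mk5_5, xM_mk5_5, dM_mk5]
  apply mk5_ext <;> simp only [chi] <;> field_simp <;> (try simp only [hx2]) <;> ring

theorem dM_xM_6 (x y z : F) (hx : x * x = 1) (hy : y ≠ 0) (hz : z ≠ 0) (t : F) :
    dM F x y z * xM F 6 t = xM F 6 (chi x y z 6 * t) * dM F x y z := by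
  have hx2 : x ^ 2 = 1 := by rw [pow_two]; exact hx
  apply mat_ext5
  intro a b c d e
  rw [← Matrix.mulVec_mulVec, ← Matrix.mulVec_mulVec, dM_mk5, xM_mk5_6, xM_mk5_6, dM_mk5]
  apply mk5_ext <;> simp only [chi] <;> field_simp <;> (try simp only [hx2]) <;> ring

theorem dM_xM_7 (x y z : F) (hx : x * x = 1) (hy : y ≠ 0) (hz : z ≠ 0) (t : F) :
    dM F x y z * xM F 7 t = xM F 7 (chi x y z 7 * t) * dM F x y z := by
  have hx2 : x ^ 2 = 1 := by rw [pow_two]; exact hx
  apply mat_ext5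
  intro a b c d e
  rw [← Matrix.mulVec_mulVec, ← Matrix.mulVec_mulVec, dM_mk5, xM_mk5_7, xM_mk5_7, dM_mk5]
  apply mk5_ext <;> simp only [chi] <;> field_simp <;> (try simp only [hx2]) <;> ring

/-- the diagonal matrices normalise the root subgroups, with the explicit character -/
theorem dM_xM (x y z : F) (hx : x * x = 1) (hy : y ≠ 0) (hz : z ≠ 0) (r : ℕ) (t : F) :
    dM F x y z * xM F r t = xM F r (chi x y z r * t) * dM F x y z := by
  by_cases hr : r < 8
  · interval_cases r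
    · exact dM_xM_0 x y z hx hy hz t
    · exact dM_xM_1 x y z hx hy hz t
    · exact dM_xM_2 x y z hx hy hz t
    · exact dM_xM_3 x y z hx hy hz t
    · exact dM_xM_4 x y z hx hy hz t
    · exact dM_xM_5 x y z hx hy hz t
    · exact dM_xM_6 x y z hx hy hz t
    · exact dM_xM_7 x y z hx hy hz t
  · rw [xM_ge r hr, xM_ge r hr, mul_one, one_mul]

/-- conjugation of a root element by a diagonal isometry -/
theorem conj_xO (a : ↥(O5 F)) (x y z : F) (hx : x * x = 1) (hy : y ≠ 0) (hz : z ≠ 0)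
    (ha : ((a : GL I5 F) : Matrix I5 I5 F) = dM F x y z) (r : ℕ) (t : F) :
    a * xO F r t * a⁻¹ = xO F r (chi x y z r * t) := by
  have h : a * xO F r t = xO F r (chi x y z r * t) * a := by
    apply Subtype.ext
    apply Units.ext
    show ((a : GL I5 F) : Matrix I5 I5 F) * xM F r t = xM F r (chi x y z r * t) * ((a : GL I5 F) : Matrix I5 I5 F)
    rw [ha]
    exact dM_xM x y z hx hy hz r t
  rw [h, mul_inv_cancel_right]

/-- B2-NORM: diagonal isometries normalise the root subgroups. -/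
theorem norm5 (a : ↥(O5 F)) (ha : a ∈ A5 F) (r : ℕ) (t : F) : a * xO F r t * a⁻¹ ∈ E5 F := by
  obtain ⟨x, y, z, hx, hy, hz, hg⟩ := ha
  rw [conj_xO a x y z hx hy hz hg r t]
  exact xO_mem_E5 r _

end Cfsg.Agent.Lib.Helper52_B2_NORM
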