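import Mathlib
import Cfsg.Agent.Lib.Helper13_B2Defs
import Cfsg.Agent.Lib.Helper13_B2Geom
import Cfsg.Agent.Lib.Helper52_B2_NORM

/-!
B2-COMM (helper13's S1083 market): over a field with more than two elements every root element of `O5`
is a commutator `⁅dO 1 y z, xO r s⁆`.
-/

set_option autoImplicit false

namespace Cfsg.Agent.Lib.Helper52_B2_COMM

open Cfsg Cfsg.Agent.Lib.Helper13_B2Defs Cfsg.Agent.Lib.Helper13_B2Geom Matrix
open Cfsg.Agent.Lib.Helper52_B2_NORM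
open scoped commutatorElement

variable {F : Type*} [Field F]

theorem xO_mul (r : ℕ) (s t : F) : xO F r s * xO F r t = xO F r (s + t) := by
  apply Subtype.ext
  apply Units.ext
  show xM F r s * xM F r t = xM F r (s + t)
  exact xM_add r s t

theorem xO_zero (r : ℕ) : xO F r 0 = 1 := by
  apply Subtype.ext
  apply Units.ext
  show xM F r 0 = 1
  exact xM_zero r

theorem xO_inv (r : ℕ) (t : F) : (xO F r t)⁻¹ = xO F r (-t) := by
  rw [inv_eq_iff_mul_eq_one, xO_mul, add_neg_cancel, xO_zero]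

/-- every non-zero scalar is a value of the root character on the torus `diag(1; y, z; y⁻¹, z⁻¹)` -/
theorem exists_chi (μ : F) (hμ : μ ≠ 0) (r : ℕ) (hr : r < 8) :
    ∃ y z : F, y ≠ 0 ∧ z ≠ 0 ∧ chi 1 y z r = μ := by
  interval_cases r
  · exact ⟨μ⁻¹, 1, inv_ne_zero hμ, one_ne_zero, by simp [chi]⟩
  · exact ⟨μ⁻¹, 1, inv_ne_zero hμ, one_ne_zero, by simp [chi]⟩
  · exact ⟨1, μ⁻¹, one_ne_zero, inv_ne_zero hμ, by simp [chi]⟩
  · exact ⟨1, μ, one_ne_zero, hμ, by simp [chi]⟩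
  · exact ⟨μ, 1, hμ, one_ne_zero, by simp [chi]⟩
  · exact ⟨1, μ, one_ne_zero, hμ, by simp [chi]⟩
  · exact ⟨μ, 1, hμ, one_ne_zero, by simp [chi]⟩
  · exact ⟨μ, 1, hμ, one_ne_zero, by simp [chi]⟩

/-- a root element as an explicit commutator with a diagonal isometry -/
theorem xO_eq_commutator (μ : F) (hμ : μ ≠ 0) (hμ1 : μ ≠ 1) (r : ℕ) (hr : r < 8) (t : F) :
    ∃ a : ↥(O5 F), a ∈ A5 F ∧ ∃ s : F, xO F r t = ⁅a, xO F r s⁆ := by
  obtain ⟨y, z, hy, hz, hχ⟩ := exists_chi μ hμ r hr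
  have hμ1' : μ - 1 ≠ 0 := sub_ne_zero.mpr hμ1
  refine ⟨dO 1 y z (one_mul 1) hy hz, ⟨1, y, z, one_mul 1, hy, hz, rfl⟩, t / (μ - 1), ?_⟩
  rw [commutatorElement_def, conj_xO _ 1 y z (one_mul 1) hy hz (dO_coe 1 y z (one_mul 1) hy hz) r, hχ,
    xO_inv, xO_mul]
  congr 1
  field_simp
  ring

/-- B2-COMM: root elements are commutators of isometries. -/
theorem xO_mem_commutator (hF : ∃ a : F, a ≠ 0 ∧ a ≠ 1) (r : ℕ) (t : F) :
    xO F r t ∈ commutator ↥(O5 F) := by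
  obtain ⟨μ, hμ, hμ1⟩ := hF
  by_cases hr : r < 8
  · obtain ⟨a, -, s, hs⟩ := xO_eq_commutator μ hμ hμ1 r hr t
    rw [hs, commutator_def]
    exact Subgroup.commutator_mem_commutator (Subgroup.mem_top a) (Subgroup.mem_top (xO F r s))
  · have h1 : xO F r t = 1 := by
      apply Subtype.ext
      apply Units.ext
      show xM F r t = 1
      exact xM_ge r hr t
    rw [h1]
    exact one_mem _

end Cfsg.Agent.Lib.Helper52_B2_COMM
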