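import Mathlib

set_option autoImplicit false

namespace Cfsg.Agent.Lib.Helper52_BR_CLSA1

theorem CLSA1 (p q n a : ℕ) (hp : p.Prime) (h5 : 5 ≤ p) (hq2 : 2 ≤ q) (hq : 2 * q ≤ p - 1)
    (hbr : p ≤ 2 * q + 1) (hcnt : q - 1 = a * (n + 1)) (hn1 : 1 ≤ n)
    (hsmall : q * (1 + n * p) < p ^ 2) : n = 1 := by
  have hpq : p = 2 * q + 1 := by omega
  subst hpq
  have hn2 : n ≤ 2 := by
    by_contra hcon
    push Not at hcon
    have h3 : 3 ≤ n := hcon
    have : q * (1 + 3 * (2 * q + 1)) ≤ q * (1 + n * (2 * q + 1)) := by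
      apply Nat.mul_le_mul_left
      nlinarith
    nlinarith
  rcases (by omega : n = 1 ∨ n = 2) with h | h
  · exact h
  · exfalso
    subst h
    have h3 : 3 ∣ 2 * q + 1 := ⟨2 * a + 1, by omega⟩
    have := (Nat.prime_dvd_prime_iff_eq Nat.prime_three hp).mp h3
    omega

end Cfsg.Agent.Lib.Helper52_BR_CLSA1
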