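import Mathlib

set_option autoImplicit false

namespace Cfsg.Agent.Lib.Helper52_BR_CLSA2

theorem CLSA2 (p q n t v : ℕ) (hp : p.Prime) (h5 : 5 ≤ p) (hq2 : 2 ≤ q) (hq : 2 * q ≤ p - 1)
    (htq : t * q = p - 1) (hn1 : 1 ≤ n) (hv : 1 ≤ v) (hvq : q < p * v)
    (hsmall : q * (1 + n * p) < p ^ 2) (hle : t * (p * v - q) ≤ 1 + n * p) :
    n = 1 ∨ (v = 1 ∧ n + 1 = t) ∨
      (v = 1 ∧ n = t ∧ ¬ (p - q) ∣ q * (1 + n * p)) := by
  have hp' : p = t * q + 1 := by omega
  have ht2 : 2 ≤ t := by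
    by_contra hcon
    push Not at hcon
    have : t * q ≤ 1 * q := Nat.mul_le_mul_right q (by omega)
    omega
  -- `n ≤ t`
  have hnt : n ≤ t := by
    by_contra hcon
    push Not at hcon
    have h1 : t + 1 ≤ n := hcon
    have h2 : q * (1 + (t + 1) * p) ≤ q * (1 + n * p) := by
      apply Nat.mul_le_mul_left
      nlinarith
    have h3 : p ^ 2 ≤ q * (1 + (t + 1) * p) := by
      rw [hp']; nlinarith
    omega
  -- `t * v ≤ n + 1`
  obtain ⟨w, hw⟩ : ∃ w, w + q = p * v := ⟨p * v - q, by omega⟩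
  have hw' : p * v - q = w := by omega
  rw [hw'] at hle
  have htv : t * v ≤ n + 1 := by
    have h1 : p * (t * v) ≤ p * (n + 1) := by
      have h2 : t * w + t * q = p * (t * v) := by rw [← Nat.mul_add, hw]; ring
      have h3 : t * q + 1 = p := hp'.symm
      nlinarith
    exact Nat.le_of_mul_le_mul_left h1 (by omega)
  have hv1 : v = 1 := by
    by_contra hcon
    have hv2 : 2 ≤ v := by omega
    have : t * 2 ≤ t * v := Nat.mul_le_mul_left t hv2
    omega
  subst hv1
  rw [mul_one] at htv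
  rcases (by omega : n + 1 = t ∨ n = t) with h | h
  · right; left; exact ⟨rfl, h⟩
  · right; right
    refine ⟨rfl, h, ?_⟩
    subst h
    intro hdvd
    obtain ⟨d, hd⟩ : ∃ d, d + q = p := ⟨p - q, by omega⟩
    have hd' : p - q = d := by omega
    rw [hd'] at hdvd
    have h1 : q * (1 + n * p) = (n * q + q) * d + q * q := by
      rw [← hd] at hp' ⊢
      nlinarith
    rw [h1] at hdvd
    have h2 : d ∣ q * q := (Nat.dvd_add_right (Dvd.intro_left _ rfl)).mp hdvd
    have hcop : Nat.Coprime p q := (Nat.Prime.coprime_iff_not_dvd hp).mpr (fun h =>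
      absurd (Nat.le_of_dvd (by omega) h) (by omega))
    have hcop' : Nat.Coprime d q := by
      rw [← hd] at hcop
      exact Nat.coprime_add_self_left.mp hcop
    have h3 : d ∣ q := hcop'.dvd_of_dvd_mul_left h2
    have h4 : d ∣ 1 := by
      have := Nat.dvd_gcd (dvd_refl d) h3
      rwa [hcop'.gcd_eq_one] at this
    have h5 : d = 1 := Nat.dvd_one.mp h4
    omega

end Cfsg.Agent.Lib.Helper52_BR_CLSA2
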