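import Mathlib
import Cfsg.Agent.Lib.Helper14_BalDefs
import Cfsg.Agent.Lib.Helper14_CentOmega
import Cfsg.Agent.Lib.Helper14_OrthGamma

set_option autoImplicit false

namespace Cfsg.Agent.Lib.Helper52_Bal_A3i

open Module Cfsg Cfsg.Agent.Lib.Helper94_OrthSmall Cfsg.Agent.Lib.Helper14_OmegaSimple
  Cfsg.Agent.Lib.Helper14_BalDefs Cfsg.Agent.Lib.Helper14_AutOmega Cfsg.Agent.Lib.Helper7_OrthInduced
  Cfsg.Agent.Lib.Helper14_OrthGamma Cfsg.Agent.Lib.Helper44_QuadClass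

section abstract

variable {F V : Type*} [Field F] [AddCommGroup V] [Module F V]

/-- Two orthogonal hyperbolic pairs in a non-degenerate quadratic space of dimension at least five
over a finite field. -/
theorem exists_two_pairs [Finite F] [FiniteDimensional F V] (Q : QuadraticForm F V)
    (hQ : (QuadraticMap.polarBilin Q).Nondegenerate) (hdim : 5 ≤ finrank F V) :
    ∃ e₁ f₁ e₂ f₂ : V, e₁ ≠ 0 ∧ Q e₁ = 0 ∧ Q f₁ = 0 ∧ Q e₂ = 0 ∧ Q f₂ = 0 ∧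
      QuadraticMap.polar (⇑Q) e₁ f₁ = 1 ∧ QuadraticMap.polar (⇑Q) e₂ f₂ = 1 ∧
      QuadraticMap.polar (⇑Q) e₁ e₂ = 0 ∧ QuadraticMap.polar (⇑Q) e₁ f₂ = 0 ∧
      QuadraticMap.polar (⇑Q) f₁ e₂ = 0 ∧ QuadraticMap.polar (⇑Q) f₁ f₂ = 0 := by
  obtain ⟨e₁, he₁0, he₁⟩ := exists_singular Q (by omega)
  obtain ⟨f₁, hf₁, hef₁⟩ := exists_hyperbolic_partner Q hQ he₁0 he₁
  have hnd := nondegenerate_perp hQ he₁ hf₁ hef₁
  have hfr := finrank_perp (Q := Q) he₁ hf₁ hef₁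
  obtain ⟨e₂, he₂0, he₂⟩ := exists_singular (Q.comp (perp Q e₁ f₁).subtype) (by omega)
  obtain ⟨f₂, hf₂, hef₂⟩ := exists_hyperbolic_partner (Q.comp (perp Q e₁ f₁).subtype) hnd he₂0 he₂
  have hm1 := (mem_perp Q e₁ f₁).mp e₂.2
  have hm2 := (mem_perp Q e₁ f₁).mp f₂.2
  refine ⟨e₁, f₁, (e₂ : V), (f₂ : V), he₁0, he₁, hf₁, by simpa using he₂, by simpa using hf₂, hef₁,
    ?_, hm1.1, hm2.1, hm1.2, hm2.2⟩
  have := polar_resQ Q (perp Q e₁ f₁) e₂ f₂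
  rw [← this]
  exact hef₂

/-- The involution: explicit data. -/
theorem involution_of_pairs (h2 : (2 : F) ≠ 0) (Q : QuadraticForm F V)
    {e₁ f₁ e₂ f₂ : V} (he₁0 : e₁ ≠ 0) (he₁ : Q e₁ = 0) (hf₁ : Q f₁ = 0) (he₂ : Q e₂ = 0)
    (hf₂ : Q f₂ = 0)
    (h11 : QuadraticMap.polar (⇑Q) e₁ f₁ = 1) (h22 : QuadraticMap.polar (⇑Q) e₂ f₂ = 1)
    (hee : QuadraticMap.polar (⇑Q) e₁ e₂ = 0) (hef : QuadraticMap.polar (⇑Q) e₁ f₂ = 0)
    (hfe : QuadraticMap.polar (⇑Q) f₁ e₂ = 0) (hff : QuadraticMap.polar (⇑Q) f₁ f₂ = 0) :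
    ∃ t ∈ T Q, t ≠ 1 ∧ t * t = 1 := by
  -- all polar values
  have p_e1e1 : QuadraticMap.polar (⇑Q) e₁ e₁ = 0 := by rw [polar_self', he₁, mul_zero]
  have p_f1f1 : QuadraticMap.polar (⇑Q) f₁ f₁ = 0 := by rw [polar_self', hf₁, mul_zero]
  have p_e2e2 : QuadraticMap.polar (⇑Q) e₂ e₂ = 0 := by rw [polar_self', he₂, mul_zero]
  have p_f2f2 : QuadraticMap.polar (⇑Q) f₂ f₂ = 0 := by rw [polar_self', hf₂, mul_zero]
  have p_f1e1 : QuadraticMap.polar (⇑Q) f₁ e₁ = 1 := by rw [QuadraticMap.polar_comm, h11]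
  have p_f2e2 : QuadraticMap.polar (⇑Q) f₂ e₂ = 1 := by rw [QuadraticMap.polar_comm, h22]
  have p_e2e1 : QuadraticMap.polar (⇑Q) e₂ e₁ = 0 := by rw [QuadraticMap.polar_comm, hee]
  have p_f2e1 : QuadraticMap.polar (⇑Q) f₂ e₁ = 0 := by rw [QuadraticMap.polar_comm, hef]
  have p_e2f1 : QuadraticMap.polar (⇑Q) e₂ f₁ = 0 := by rw [QuadraticMap.polar_comm, hfe]
  have p_f2f1 : QuadraticMap.polar (⇑Q) f₂ f₁ = 0 := by rw [QuadraticMap.polar_comm, hff]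
  -- the root elements
  have hx : ∀ v, E Q e₁ e₂ v = v + QuadraticMap.polar (⇑Q) v e₁ • e₂ -
      QuadraticMap.polar (⇑Q) v e₂ • e₁ := by
    intro v
    rw [E_apply Q he₁ hee, he₂, zero_mul, zero_smul, sub_zero]
  have hy : ∀ v, E Q f₁ f₂ v = v + QuadraticMap.polar (⇑Q) v f₁ • f₂ -
      QuadraticMap.polar (⇑Q) v f₂ • f₁ := by
    intro v
    rw [E_apply Q hf₁ hff, hf₂, zero_mul, zero_smul, sub_zero]
  have hxT : E Q e₁ e₂ ∈ T Q := root_mem_T Q he₁ he₂ hee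
  have hyT : E Q f₁ f₂ ∈ T Q := root_mem_T Q hf₁ hf₂ hff
  obtain ⟨n, hn⟩ : ∃ n, n = E Q e₁ e₂ * E Q f₁ f₂ * E Q e₁ e₂ := ⟨_, rfl⟩
  have hnT : n ∈ T Q := by
    rw [hn]; exact Subgroup.mul_mem _ (Subgroup.mul_mem _ hxT hyT) hxT
  have hnv : ∀ v, n v = E Q e₁ e₂ (E Q f₁ f₂ (E Q e₁ e₂ v)) := by
    intro v; rw [hn]; rfl
  -- the action of x, y on the frame
  have x_e1 : E Q e₁ e₂ e₁ = e₁ := by rw [hx, p_e1e1, hee]; simp
  have x_e2 : E Q e₁ e₂ e₂ = e₂ := by rw [hx, p_e2e1, p_e2e2]; simp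
  have x_f1 : E Q e₁ e₂ f₁ = f₁ + e₂ := by rw [hx, p_f1e1, hfe]; simp
  have x_f2 : E Q e₁ e₂ f₂ = f₂ - e₁ := by rw [hx, p_f2e1, p_f2e2]; simp
  have y_e1 : E Q f₁ f₂ e₁ = e₁ + f₂ := by rw [hy, h11, hef]; simp
  have y_e2 : E Q f₁ f₂ e₂ = e₂ - f₁ := by rw [hy, p_e2f1, h22]; simp
  have y_f1 : E Q f₁ f₂ f₁ = f₁ := by rw [hy, p_f1f1, hff]; simp
  have y_f2 : E Q f₁ f₂ f₂ = f₂ := by rw [hy, p_f2f1, p_f2f2]; simp
  have n_e1 : n e₁ = f₂ := by
    rw [hnv, x_e1, y_e1, map_add, x_e1, x_f2]; abel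
  have n_f2 : n f₂ = -e₁ := by
    rw [hnv, x_f2, map_sub, y_f2, y_e1, map_sub, x_f2, map_add, x_e1, x_f2]; abel
  have n_e2 : n e₂ = -f₁ := by
    rw [hnv, x_e2, y_e2, map_sub, x_e2, x_f1]; abel
  have n_f1 : n f₁ = e₂ := by
    rw [hnv, x_f1, map_add, y_f1, y_e2, map_add, map_sub, x_f1, x_e2]; abel
  have n_perp : ∀ w, QuadraticMap.polar (⇑Q) w e₁ = 0 → QuadraticMap.polar (⇑Q) w f₁ = 0 →
      QuadraticMap.polar (⇑Q) w e₂ = 0 → QuadraticMap.polar (⇑Q) w f₂ = 0 → n w = w := by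
    intro w h1 h2' h3 h4
    have xw : E Q e₁ e₂ w = w := by rw [hx, h1, h3]; simp
    have yw : E Q f₁ f₂ w = w := by rw [hy, h2', h4]; simp
    rw [hnv, xw, yw, xw]
  refine ⟨n * n, Subgroup.mul_mem _ hnT hnT, ?_, ?_⟩
  · intro h
    have h1 : (n * n) e₁ = e₁ := by rw [h]; rfl
    rw [LinearEquiv.mul_apply, n_e1, n_f2] at h1
    have h3 : (2 : F) • e₁ = 0 := by
      rw [two_smul]
      nth_rewrite 1 [← h1]
      exact neg_add_cancel e₁
    rcases smul_eq_zero.mp h3 with h4 | h4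
    · exact h2 h4
    · exact he₁0 h4
  · -- decomposition of an arbitrary vector
    have tt_frame : ∀ v, (v = e₁ ∨ v = f₁ ∨ v = e₂ ∨ v = f₂) → (n * n) v = -v := by
      rintro v (rfl | rfl | rfl | rfl)
      · rw [LinearEquiv.mul_apply, n_e1, n_f2]
      · rw [LinearEquiv.mul_apply, n_f1, n_e2]
      · rw [LinearEquiv.mul_apply, n_e2, map_neg, n_f1]
      · rw [LinearEquiv.mul_apply, n_f2, map_neg, n_e1]
    apply LinearEquiv.ext
    intro v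
    obtain ⟨Pv, hPv⟩ : ∃ Pv, Pv = QuadraticMap.polar (⇑Q) v f₁ • e₁ + QuadraticMap.polar (⇑Q) v e₁ • f₁ +
      QuadraticMap.polar (⇑Q) v f₂ • e₂ + QuadraticMap.polar (⇑Q) v e₂ • f₂ := ⟨_, rfl⟩
    have hP : (n * n) Pv = -Pv := by
      rw [hPv]
      simp only [map_add, map_smul, tt_frame e₁ (Or.inl rfl), tt_frame f₁ (Or.inr (Or.inl rfl)),
        tt_frame e₂ (Or.inr (Or.inr (Or.inl rfl))), tt_frame f₂ (Or.inr (Or.inr (Or.inr rfl)))]
      module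
    have hw : (n * n) (v - Pv) = v - Pv := by
      have hn1 : n (v - Pv) = v - Pv := by
        apply n_perp
        · rw [hPv]
          simp only [QuadraticMap.polar_sub_left, QuadraticMap.polar_add_left,
            QuadraticMap.polar_smul_left, smul_eq_mul, p_e1e1, p_f1e1, p_e2e1, p_f2e1]
          ring
        · rw [hPv]
          simp only [QuadraticMap.polar_sub_left, QuadraticMap.polar_add_left,
            QuadraticMap.polar_smul_left, smul_eq_mul, h11, p_f1f1, p_e2f1, p_f2f1]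
          ring
        · rw [hPv]
          simp only [QuadraticMap.polar_sub_left, QuadraticMap.polar_add_left,
            QuadraticMap.polar_smul_left, smul_eq_mul, hee, hfe, p_e2e2, p_f2e2]
          ring
        · rw [hPv]
          simp only [QuadraticMap.polar_sub_left, QuadraticMap.polar_add_left,
            QuadraticMap.polar_smul_left, smul_eq_mul, hef, hff, h22, p_f2f2]
          ring
      rw [LinearEquiv.mul_apply, hn1, hn1]
    have hv : (n * n) v = v - Pv - Pv := by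
      have : v = (v - Pv) + Pv := by abel
      conv_lhs => rw [this]
      rw [map_add, hw, hP]; abel
    show (n * n) ((n * n) v) = v
    rw [hv, map_sub, map_sub, hv, hP]
    abel

variable [Fintype F] [FiniteDimensional F V]

/-- BAL-A3i: an involution in `T Q` (dimension at least five, odd characteristic). -/
theorem A3i (h2 : (2 : F) ≠ 0) (Q : QuadraticForm F V)
    (hQ : (QuadraticMap.polarBilin Q).Nondegenerate) (hdim : 5 ≤ finrank F V) :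
    ∃ t ∈ T Q, t ≠ 1 ∧ t * t = 1 := by
  obtain ⟨e₁, f₁, e₂, f₂, he₁0, he₁, hf₁, he₂, hf₂, h11, h22, hee, hef, hfe, hff⟩ :=
    exists_two_pairs Q hQ hdim
  exact involution_of_pairs h2 Q he₁0 he₁ hf₁ he₂ hf₂ h11 h22 hee hef hfe hff

end abstract

end Cfsg.Agent.Lib.Helper52_Bal_A3i
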