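import Mathlib

set_option autoImplicit false

namespace Cfsg.Agent.Lib.Helper52_Involutions

open Finset

section basic
variable {G : Type*} [Group G]

theorem inv_eq_self_of_orderOf_two {u : G} (hu : orderOf u = 2) : u⁻¹ = u := by
  have h2 : u ^ 2 = 1 := by rw [← hu, pow_orderOf_eq_one]
  rw [inv_eq_iff_mul_eq_one, ← pow_two, h2]

theorem mul_self_of_orderOf_two {u : G} (hu : orderOf u = 2) : u * u = 1 := by
  rw [← pow_two, ← hu, pow_orderOf_eq_one]

theorem ne_one_of_orderOf_two {u : G} (hu : orderOf u = 2) : u ≠ 1 := by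
  rintro rfl
  simp at hu

/-- dihedral lemma: an involution `u` inverts `u * v` when `v` is an involution. -/
theorem conj_mul_of_involutions {u v : G} (hu : orderOf u = 2) (hv : orderOf v = 2) :
    u * (u * v) * u⁻¹ = (u * v)⁻¹ := by
  rw [mul_inv_rev, inv_eq_self_of_orderOf_two hu, inv_eq_self_of_orderOf_two hv, ← mul_assoc,
    mul_self_of_orderOf_two hu, one_mul]

/-- The extended centralizer of `g`: the elements conjugating `g` to `g` or to `g⁻¹`. -/
def extCentralizer (g : G) : Subgroup G where
  carrier := {x | x * g * x⁻¹ = g ∨ x * g * x⁻¹ = g⁻¹}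
  one_mem' := by simp
  mul_mem' := by
    intro a b ha hb
    have e : a * b * g * (a * b)⁻¹ = a * (b * g * b⁻¹) * a⁻¹ := by group
    rcases hb with hb | hb <;> rcases ha with ha | ha
    · left; rw [e, hb, ha]
    · right; rw [e, hb, ha]
    · right
      rw [e, hb]
      have : a * g⁻¹ * a⁻¹ = (a * g * a⁻¹)⁻¹ := by group
      rw [this, ha]
    · left
      rw [e, hb]
      have : a * g⁻¹ * a⁻¹ = (a * g * a⁻¹)⁻¹ := by group
      rw [this, ha, inv_inv]
  inv_mem' := by
    intro a ha
    rcases ha with ha | ha
    · left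
      calc a⁻¹ * g * a⁻¹⁻¹ = a⁻¹ * (a * g * a⁻¹) * a⁻¹⁻¹ := by rw [ha]
        _ = g := by group
    · right
      have h1 : a * g⁻¹ * a⁻¹ = g := by
        have : a * g⁻¹ * a⁻¹ = (a * g * a⁻¹)⁻¹ := by group
        rw [this, ha, inv_inv]
      calc a⁻¹ * g * a⁻¹⁻¹ = a⁻¹ * (a * g⁻¹ * a⁻¹) * a⁻¹⁻¹ := by rw [h1]
        _ = g⁻¹ := by group

theorem mem_extCentralizer {g x : G} :
    x ∈ extCentralizer g ↔ x * g * x⁻¹ = g ∨ x * g * x⁻¹ = g⁻¹ := Iff.rfl

theorem centralizer_le_extCentralizer (g : G) : Subgroup.centralizer {g} ≤ extCentralizer g := by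
  intro x hx
  left
  rw [Subgroup.mem_centralizer_singleton_iff] at hx
  rw [hx, mul_inv_cancel_right]

end basic


section counting
variable {G : Type*} [Group G] [Fintype G] [DecidableEq G]

/-- the finset of involutions -/
noncomputable def invs (G : Type*) [Group G] [Fintype G] [DecidableEq G] : Finset G :=
  univ.filter (fun g => orderOf g = 2)

theorem mem_invs {g : G} : g ∈ invs G ↔ orderOf g = 2 := by simp [invs]

/-- the number of ways of writing `g` as a product of two involutions. -/
noncomputable def beta (g : G) : ℕ := ((invs G ×ˢ invs G).filter (fun p => p.1 * p.2 = g)).card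

theorem sum_beta : ∑ g : G, beta g = (invs G).card ^ 2 := by
  have h := Finset.card_eq_sum_card_fiberwise (f := fun p : G × G => p.1 * p.2) (s := invs G ×ˢ invs G)
    (t := univ) (fun _ _ => Finset.mem_univ _)
  rw [Finset.card_product] at h
  rw [pow_two, h]
  rfl

theorem beta_one : beta (1 : G) = (invs G).card := by
  unfold beta
  symm
  apply Finset.card_bij (fun u _ => (u, u))
  · intro u hu
    simp only [mem_filter, mem_product]
    exact ⟨⟨hu, hu⟩, mul_self_of_orderOf_two (mem_invs.1 hu)⟩
  · intro a _ b _ h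
    exact (Prod.ext_iff.1 h).1
  · intro p hp
    simp only [mem_filter, mem_product] at hp
    refine ⟨p.1, hp.1.1, ?_⟩
    have h1 : p.2 = p.1⁻¹ := (inv_eq_of_mul_eq_one_right hp.2).symm
    rw [inv_eq_self_of_orderOf_two (mem_invs.1 hp.1.1)] at h1
    exact Prod.ext rfl h1.symm

theorem natCard_centralizer (g : G) :
    Nat.card (Subgroup.centralizer ({g} : Set G)) = (univ.filter (fun x : G => x * g = g * x)).card := by
  have : Fintype ↥(Subgroup.centralizer ({g} : Set G)) := Fintype.ofFinite _
  rw [Nat.card_eq_fintype_card]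
  apply Fintype.card_of_subtype
  intro x
  simp [Subgroup.mem_centralizer_singleton_iff]

theorem beta_invol_le (g : G) (hg : orderOf g = 2) :
    beta g + 2 ≤ Nat.card (Subgroup.centralizer ({g} : Set G)) := by
  rw [natCard_centralizer]
  set Cf := univ.filter (fun x : G => x * g = g * x) with hCf
  have h1g : ({1, g} : Finset G) ⊆ Cf := by
    intro x hx
    simp only [mem_insert, mem_singleton] at hx
    rcases hx with rfl | rfl <;> simp [hCf]
  have hcard2 : ({1, g} : Finset G).card = 2 := by
    rw [Finset.card_insert_of_notMem, Finset.card_singleton]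
    simp only [mem_singleton]
    exact fun h => ne_one_of_orderOf_two hg h.symm
  have hle : beta g ≤ (Cf \ {1, g}).card := by
    unfold beta
    apply Finset.card_le_card_of_injOn (fun p => p.1)
    · intro p hp
      simp only [coe_filter, mem_product, Set.mem_ofPred_eq] at hp
      obtain ⟨⟨hu, hv⟩, huv⟩ := hp
      have hu2 := mem_invs.1 hu
      have hv2 := mem_invs.1 hv
      have hcomm : p.1 * p.2 = p.2 * p.1 := by
        have h1 : (p.1 * p.2) * (p.1 * p.2) = 1 := by rw [huv]; exact mul_self_of_orderOf_two hg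
        have h2 : p.1 * p.2 = (p.1 * p.2)⁻¹ := (inv_eq_of_mul_eq_one_right h1).symm
        rw [h2, mul_inv_rev, inv_eq_self_of_orderOf_two hu2, inv_eq_self_of_orderOf_two hv2]
      simp only [coe_sdiff, coe_insert, coe_singleton, Set.mem_sdiff, mem_coe, Set.mem_insert_iff,
        Set.mem_singleton_iff, not_or]
      refine ⟨?_, ne_one_of_orderOf_two hu2, ?_⟩
      · simp only [hCf, mem_filter, mem_univ, true_and]
        rw [← huv, ← mul_assoc, mul_self_of_orderOf_two hu2, one_mul, hcomm, mul_assoc,
          mul_self_of_orderOf_two hu2, mul_one]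
      · intro h
        rw [h] at huv
        exact ne_one_of_orderOf_two hv2 (mul_eq_left.1 huv)
    · intro p hp q hq hpq
      simp only [coe_filter, mem_product, Set.mem_ofPred_eq] at hp hq
      have : p.1 * p.2 = q.1 * q.2 := hp.2.trans hq.2.symm
      have hpq' : p.1 = q.1 := hpq
      rw [hpq'] at this
      exact Prod.ext hpq' (mul_left_cancel this)
  have hsd : (Cf \ {1, g}).card = Cf.card - 2 := by
    rw [Finset.card_sdiff_of_subset h1g, hcard2]
  have h2le : 2 ≤ Cf.card := by
    rw [← hcard2]; exact Finset.card_le_card h1g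
  omega

theorem beta_le_of_sq_ne_one (g : G) :
    beta g ≤ Nat.card (Subgroup.centralizer ({g} : Set G)) := by
  rw [natCard_centralizer]
  by_cases hne : ((invs G ×ˢ invs G).filter (fun p => p.1 * p.2 = g)).Nonempty
  · obtain ⟨p₀, hp₀⟩ := hne
    simp only [mem_filter, mem_product] at hp₀
    obtain ⟨⟨hu₀, hv₀⟩, huv₀⟩ := hp₀
    have hinv₀ : p₀.1 * g * p₀.1⁻¹ = g⁻¹ := by
      rw [← huv₀]; exact conj_mul_of_involutions (mem_invs.1 hu₀) (mem_invs.1 hv₀)
    unfold beta
    apply Finset.card_le_card_of_injOn (fun p => p₀.1⁻¹ * p.1)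
    · intro p hp
      simp only [coe_filter, mem_product, Set.mem_ofPred_eq] at hp
      obtain ⟨⟨hu, hv⟩, huv⟩ := hp
      have hinv : p.1 * g * p.1⁻¹ = g⁻¹ := by
        rw [← huv]; exact conj_mul_of_involutions (mem_invs.1 hu) (mem_invs.1 hv)
      simp only [coe_filter, mem_univ, true_and, Set.mem_ofPred_eq]
      have h1 : p.1 * g = g⁻¹ * p.1 := by rw [← hinv]; group
      have h2 : p₀.1⁻¹ * g⁻¹ = g * p₀.1⁻¹ := by
        have : g⁻¹ = p₀.1 * g * p₀.1⁻¹ := hinv₀.symm
        rw [this]; group
      rw [mul_assoc, h1, ← mul_assoc, h2, mul_assoc]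
    · intro p hp q hq hpq
      simp only [coe_filter, mem_product, Set.mem_ofPred_eq] at hp hq
      have hpq' : p.1 = q.1 := mul_left_cancel hpq
      have : p.1 * p.2 = q.1 * q.2 := hp.2.trans hq.2.symm
      rw [hpq'] at this
      exact Prod.ext hpq' (mul_left_cancel this)
  · rw [Finset.not_nonempty_iff_eq_empty] at hne
    unfold beta
    rw [hne]; simp

/-- if `g` is inverted by some element and `g ^ 2 ≠ 1`, the extended centralizer is twice as large as
the centralizer. -/
theorem card_extCentralizer (g : G) (hg : g ^ 2 ≠ 1) (u : G) (hu : u * g * u⁻¹ = g⁻¹) :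
    Nat.card (extCentralizer g) = 2 * Nat.card (Subgroup.centralizer ({g} : Set G)) := by
  rw [natCard_centralizer]
  set Cf := univ.filter (fun x : G => x * g = g * x) with hCf
  set Uf := univ.filter (fun x : G => x * g * x⁻¹ = g⁻¹) with hUf
  have hgne : g ≠ g⁻¹ := by
    intro h
    apply hg
    rw [pow_two]
    nth_rewrite 2 [h]
    exact mul_inv_cancel g
  have hcardE : Nat.card (extCentralizer g) = (Cf ∪ Uf).card := by
    have : Fintype ↥(extCentralizer g) := Fintype.ofFinite _
    rw [Nat.card_eq_fintype_card]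
    apply Fintype.card_of_subtype
    intro x
    simp only [hCf, hUf, mem_union, mem_filter, mem_univ, true_and, mem_extCentralizer]
    constructor
    · rintro (h | h)
      · left; rw [h, mul_inv_cancel_right]
      · right; exact h
    · rintro (h | h)
      · left
        calc x * g = (x * g * x⁻¹) * x := by group
          _ = g * x := by rw [h]
      · right; exact h
  have hdisj : Disjoint Cf Uf := by
    rw [Finset.disjoint_left]
    intro x hx hx'
    simp only [hCf, hUf, mem_filter, mem_univ, true_and] at hx hx'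
    rw [hx, mul_inv_cancel_right] at hx'
    exact hgne hx'
  have hUcard : Uf.card = Cf.card := by
    symm
    apply Finset.card_bij (fun x _ => u * x)
    · intro x hx
      simp only [hCf, hUf, mem_filter, mem_univ, true_and] at hx ⊢
      have : u * x * g * (u * x)⁻¹ = u * (x * g * x⁻¹) * u⁻¹ := by group
      rw [this, hx, mul_inv_cancel_right, hu]
    · intro a _ b _ h
      exact mul_left_cancel h
    · intro y hy
      simp only [hCf, hUf, mem_filter, mem_univ, true_and] at hy ⊢
      refine ⟨u⁻¹ * y, ?_, by group⟩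
      have h1 : y * g = g⁻¹ * y := by rw [← hy]; group
      have h2 : u⁻¹ * g⁻¹ = g * u⁻¹ := by
        have : g⁻¹ = u * g * u⁻¹ := hu.symm
        rw [this]; group
      rw [mul_assoc, h1, ← mul_assoc, h2, mul_assoc]
  rw [hcardE, Finset.card_union_of_disjoint hdisj, hUcard]
  ring


/-- The Brauer–Fowler counting inequality. `l` is a lower bound for the index of the centralizers of the
involutions, and `2 * l` for the centralizers of the strongly real elements which are not involutions. -/
theorem brauer_fowler_core (l : ℕ)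
    (h1 : ∀ g : G, orderOf g = 2 → l * Nat.card (Subgroup.centralizer ({g} : Set G)) ≤ Fintype.card G)
    (h2 : ∀ g : G, g ^ 2 ≠ 1 → beta g ≠ 0 →
      2 * l * Nat.card (Subgroup.centralizer ({g} : Set G)) ≤ Fintype.card G) :
    2 * l * (invs G).card ^ 2 + 2 * l * (invs G).card + Fintype.card G
      ≤ Fintype.card G * (Fintype.card G + (invs G).card) := by
  set N := Fintype.card G with hN
  set n := (invs G).card with hn
  set T : Finset G := univ.filter (fun g => g ≠ 1 ∧ orderOf g ≠ 2) with hT
  -- the partition of `G`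
  have hpart : ∀ f : G → ℕ, ∑ g : G, f g = f 1 + ∑ g ∈ invs G, f g + ∑ g ∈ T, f g := by
    intro f
    have e1 := Finset.sum_filter_add_sum_filter_not (univ : Finset G) (fun g => orderOf g = 2) f
    have e2 : (univ.filter (fun g : G => ¬ orderOf g = 2)) = insert 1 T := by
      ext g
      simp only [hT, mem_filter, mem_univ, true_and, mem_insert]
      constructor
      · intro h
        by_cases hg : g = 1
        · left; exact hg
        · right; exact ⟨hg, h⟩
      · rintro (rfl | h)
        · simp
        · exact h.2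
    have e3 : (1 : G) ∉ T := by simp [hT]
    rw [e2, Finset.sum_insert e3] at e1
    rw [← e1]
    unfold invs
    ring
  have hcardN : N = 1 + n + T.card := by
    have := hpart (fun _ => 1)
    simpa [hN, hn] using this
  have hsum := hpart beta
  rw [sum_beta, beta_one] at hsum
  set A := ∑ g ∈ invs G, beta g with hA
  set B := ∑ g ∈ T, beta g with hB
  -- bounds
  have hAle : l * A + 2 * l * n ≤ n * N := by
    have : ∑ g ∈ invs G, (l * beta g + 2 * l) ≤ ∑ _g ∈ invs G, N := by
      apply Finset.sum_le_sum
      intro g hg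
      have hg2 := mem_invs.1 hg
      calc l * beta g + 2 * l = l * (beta g + 2) := by ring
        _ ≤ l * Nat.card (Subgroup.centralizer ({g} : Set G)) := Nat.mul_le_mul_left _ (beta_invol_le g hg2)
        _ ≤ N := h1 g hg2
    rw [Finset.sum_add_distrib, ← Finset.mul_sum, Finset.sum_const, Finset.sum_const, smul_eq_mul,
      smul_eq_mul] at this
    calc l * A + 2 * l * n = l * A + n * (2 * l) := by ring
      _ ≤ n * N := this
  have hBle : 2 * l * B ≤ T.card * N := by
    have : ∑ g ∈ T, 2 * l * beta g ≤ ∑ _g ∈ T, N := by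
      apply Finset.sum_le_sum
      intro g hg
      simp only [hT, mem_filter, mem_univ, true_and] at hg
      by_cases hb : beta g = 0
      · rw [hb]; simp
      · have hg2 : g ^ 2 ≠ 1 := by
          intro h
          rcases (Nat.dvd_prime Nat.prime_two).1 (orderOf_dvd_of_pow_eq_one h) with h' | h'
          · exact hg.1 (orderOf_eq_one_iff.1 h')
          · exact hg.2 h'
        calc 2 * l * beta g ≤ 2 * l * Nat.card (Subgroup.centralizer ({g} : Set G)) :=
              Nat.mul_le_mul_left _ (beta_le_of_sq_ne_one g)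
          _ ≤ N := h2 g hg2 hb
    rw [← Finset.mul_sum, Finset.sum_const, smul_eq_mul] at this
    exact this
  have hkey : 2 * l * n ^ 2 = 2 * l * n + 2 * (l * A) + 2 * l * B := by
    rw [hsum]; ring
  have hgoal : N * (N + n) = N + 2 * (n * N) + T.card * N := by
    nth_rewrite 2 [hcardN]
    ring
  rw [hkey, hgoal]
  omega

end counting

end Cfsg.Agent.Lib.Helper52_Involutions
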