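import Mathlib
import Cfsg.Agent.Lib.Helper52_Involutions

set_option autoImplicit false

namespace Cfsg.Agent.Lib.Helper52_BrauerFowler

open Finset
open Cfsg.Agent.Lib.Helper52_Involutions

section
variable {G : Type*} [Group G] [Fintype G] [DecidableEq G]

/-- the class of an involution has `|G| / |C(t)|` elements, all involutions. -/
theorem card_le_centralizer_mul_invs (t : G) (ht : orderOf t = 2) :
    Fintype.card G ≤ Nat.card (Subgroup.centralizer ({t} : Set G)) * (invs G).card := by
  rw [natCard_centralizer]
  have h := Finset.card_le_mul_card_image_of_maps_to (s := (univ : Finset G)) (t := invs G)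
    (f := fun g => g * t * g⁻¹) (fun g _ => by
      rw [mem_invs]
      have : g * t * g⁻¹ = MulAut.conj g t := by simp
      rw [this, MulEquiv.orderOf_eq]
      exact ht)
    (univ.filter (fun x : G => x * t = t * x)).card (by
      intro b _
      by_cases hne : (univ.filter (fun a : G => a * t * a⁻¹ = b)).Nonempty
      · obtain ⟨g₀, hg₀⟩ := hne
        simp only [mem_filter, mem_univ, true_and] at hg₀
        apply Finset.card_le_card_of_injOn (fun x => g₀⁻¹ * x)
        · intro x hx
          simp only [coe_filter, mem_univ, true_and, Set.mem_ofPred_eq] at hx ⊢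
          have h1 : x * t * x⁻¹ = g₀ * t * g₀⁻¹ := hx.trans hg₀.symm
          have h2 : g₀⁻¹ * x * t = g₀⁻¹ * (x * t * x⁻¹) * x := by group
          rw [h2, h1]; group
        · intro x _ y _ hxy
          exact mul_left_cancel hxy
      · rw [Finset.not_nonempty_iff_eq_empty] at hne
        rw [hne]; simp)
  simpa using h

end

/-- A simple group with a proper subgroup of index `l` has order at most `l !`. -/
theorem card_le_factorial_index {G : Type*} [Group G] [Finite G] [IsSimpleGroup G] (H : Subgroup G)
    (hH : H ≠ ⊤) : Nat.card G ≤ Nat.factorial H.index := by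
  have hker : (MulAction.toPermHom G (G ⧸ H)).ker = ⊥ := by
    rcases IsSimpleGroup.eq_bot_or_eq_top_of_normal _ (MonoidHom.normal_ker (MulAction.toPermHom G (G ⧸ H)))
      with h | h
    · exact h
    · exfalso
      apply hH
      rw [eq_top_iff, ← h, ← Subgroup.normalCore_eq_ker]
      exact Subgroup.normalCore_le H
  have hinj : Function.Injective (MulAction.toPermHom G (G ⧸ H)) := (MonoidHom.ker_eq_bot_iff _).1 hker
  have h1 := Nat.card_le_card_of_injective _ hinj
  rw [Nat.card_perm] at h1
  exact h1

end Cfsg.Agent.Lib.Helper52_BrauerFowler
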