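/-
Curtis–Tits (package INJ_A2 of helper72, by helper52): the evident homomorphism from the Curtis–Tits group to the
Steinberg group is injective on the rank two subgroups of type `A₂`.
-/
import Mathlib
import Cfsg.Agent.Lib.Helper72_CT_Certs
import Cfsg.Agent.Lib.Helper81_StTorus
import Cfsg.Agent.Lib.Helper18_ChevJCerts
import Cfsg.Agent.Lib.Helper5_PSLSimple
import Cfsg.Agent.S2401

set_option autoImplicit false

namespace Cfsg.Agent.Lib.Helper52_CT_INJA2

open Cfsg Cfsg.Lie Cfsg.Agent.Lib.Helper72_CT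
  Cfsg.Agent.Lib.Helper18_ChevFast Cfsg.Agent.Lib.Helper18_ChevEngine
  Cfsg.Agent.Lib.Helper18_ChevR1 Cfsg.Agent.Lib.Helper18_ChevN Cfsg.Agent.Lib.Helper18_ChevR4
  Cfsg.Agent.Lib.Helper18_ChevSimple Cfsg.Agent.Lib.Helper18_ChevSimple2 Cfsg.Agent.Lib.Helper18_ChevFacts
  Cfsg.Agent.Lib.Helper18_ChevWeyl Cfsg.Agent.Lib.Helper18_ChevDiag Cfsg.Agent.Lib.Helper18_ChevCar
  Cfsg.Agent.Lib.Helper18_ChevTorus Cfsg.Agent.Lib.Helper18_ChevGL Cfsg.Agent.Lib.Helper18_ChevComm
  Cfsg.Agent.Lib.Helper18_ChevComm2 Cfsg.Agent.Lib.Helper18_MatTri Cfsg.Agent.Lib.Helper18_ChevTri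
  Cfsg.Agent.Lib.Helper18_ChevBorel Cfsg.Agent.Lib.Helper18_ChevAdd Cfsg.Agent.Lib.Helper18_ChevUni
  Cfsg.Agent.Lib.Helper18_ChevBN Cfsg.Agent.Lib.Helper18_ChevMono Cfsg.Agent.Lib.Helper18_ChevBNPair
  Cfsg.Agent.Lib.Helper18_ChevLevi Cfsg.Agent.Lib.Helper18_ChevSimp Cfsg.Agent.Lib.Helper18_ChevBruhat
  Cfsg.Agent.Lib.Helper18_ChevJCerts
  Cfsg.Agent.Lib.Helper81_StUniq Cfsg.Agent.Lib.Helper81_StAbs Cfsg.Agent.Lib.Helper81_StL37
  Cfsg.Agent.Lib.Helper81_StBruhat Cfsg.Agent.Lib.Helper81_StMain Cfsg.Agent.Lib.Helper81_StTorus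

/-! ### The certificate -/

/-- The six roots of the subsystem of type `A₂` spanned by the fundamental roots `p_a`, `p_b`, indexed by the
off-diagonal positions of a `3 × 3` matrix. -/
def rootAt (D : ChevalleyDatum) (a b : ℕ) (x y : Fin 3) : ℕ :=
  match x.val, y.val with
  | 0, 1 => D.simple a
  | 1, 2 => D.simple b
  | 0, 2 => (D.chainRoot (D.simple a) (D.simple b) 1).getD 0
  | 1, 0 => D.neg (D.simple a)
  | 2, 1 => D.neg (D.simple b)
  | 2, 0 => D.neg ((D.chainRoot (D.simple a) (D.simple b) 1).getD 0)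
  | _, _ => 0

/-- The six roots lie in the subsystem. -/
def A2In (D : ChevalleyDatum) (a b : ℕ) : Prop :=
  ∀ x y : Fin 3, x ≠ y → D.InRankTwoSub a b (rootAt D a b x y)

instance (D : ChevalleyDatum) (a b : ℕ) : Decidable (A2In D a b) := by
  unfold A2In
  infer_instance

/-- The subsystem consists of the six roots. -/
def A2Sub (D : ChevalleyDatum) (a b : ℕ) : Prop :=
  ∀ r ∈ subL D a b, ∃ x y : Fin 3, x ≠ y ∧ r = rootAt D a b x y

instance (D : ChevalleyDatum) (a b : ℕ) : Decidable (A2Sub D a b) := by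
  unfold A2Sub
  infer_instance

/-- The commutator formula for the roots at the positions `(x, y)` and `(y, z)`. -/
def A2Comm (D : ChevalleyDatum) (a b : ℕ) : Prop :=
  ∀ x y z : Fin 3, x ≠ y → y ≠ z → x ≠ z →
    D.commTerms (rootAt D a b y z) (rootAt D a b x y) = [(rootAt D a b x z, -1, 1, 1)] ∧
    rootAt D a b x y ≠ rootAt D a b y z ∧ rootAt D a b x y ≠ D.neg (rootAt D a b y z)

instance (D : ChevalleyDatum) (a b : ℕ) : Decidable (A2Comm D a b) := by
  unfold A2Comm
  infer_instance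

/-- The commutator formula for the roots at two positions with trivial commutator. -/
def A2Triv (D : ChevalleyDatum) (a b : ℕ) : Prop :=
  ∀ x y z w : Fin 3, x ≠ y → z ≠ w → (x, y) ≠ (z, w) → x ≠ w → y ≠ z →
    D.commTerms (rootAt D a b x y) (rootAt D a b z w) = [] ∧
    rootAt D a b z w ≠ rootAt D a b x y ∧ rootAt D a b z w ≠ D.neg (rootAt D a b x y)

instance (D : ChevalleyDatum) (a b : ℕ) : Decidable (A2Triv D a b) := by
  unfold A2Triv
  infer_instance

/-- A third node that detects the centre. -/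
def A2Third (D : ChevalleyDatum) (a b : ℕ) : Prop :=
  ∃ k < D.rank, (D.cartan a (D.simple k) + 2 * D.cartan b (D.simple k)) % 3 ≠ 0

instance (D : ChevalleyDatum) (a b : ℕ) : Decidable (A2Third D a b) := by
  unfold A2Third
  infer_instance

/-- The certificate for the pair `(a, b)`. -/
def A2At (D : ChevalleyDatum) (a b : ℕ) : Prop :=
  A2In D a b ∧ A2Sub D a b ∧ A2Comm D a b ∧ A2Triv D a b ∧ A2Third D a b

instance (D : ChevalleyDatum) (a b : ℕ) : Decidable (A2At D a b) := by
  unfold A2At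
  infer_instance

/-- The certificate for the joined pairs `(a, b)` with both Cartan integers `-1`, for a given `a`. -/
def A2Row (D : ChevalleyDatum) (a : ℕ) : Prop :=
  ∀ b < D.rank, D.cartan a (D.simple b) = -1 → D.cartan b (D.simple a) = -1 → a ≠ b ∧ (b < a → A2At D a b)

instance (D : ChevalleyDatum) (a : ℕ) : Decidable (A2Row D a) := by
  unfold A2Row
  infer_instance

/-- The certificate for all joined pairs with both Cartan integers `-1`. -/
def A2Cert (D : ChevalleyDatum) : Prop := ∀ a < D.rank, A2Row D a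

instance (D : ChevalleyDatum) : Decidable (A2Cert D) := by
  unfold A2Cert
  infer_instance

set_option maxRecDepth 100000 in
theorem a2Cert_D4 : A2Cert chevD4 := by decide +kernel

set_option maxRecDepth 100000 in
theorem a2Cert_F4 : A2Cert chevF4 := by decide +kernel

set_option maxRecDepth 100000 in
theorem a2Cert_E6 : A2Cert chevE6 := by decide +kernel

set_option maxRecDepth 100000 in
theorem a2Cert_E7 : A2Cert chevE7 := by decide +kernel

set_option maxRecDepth 100000 in
theorem a2Cert_E8 : A2Cert chevE8 := by decide +kernel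

theorem a2Cert_of_mem (D : ChevalleyDatum) (hD : D ∈ [chevD4, chevF4, chevE6, chevE7, chevE8]) : A2Cert D := by
  simp only [List.mem_cons, List.not_mem_nil, or_false] at hD
  rcases hD with rfl | rfl | rfl | rfl | rfl
  · exact a2Cert_D4
  · exact a2Cert_F4
  · exact a2Cert_E6
  · exact a2Cert_E7
  · exact a2Cert_E8

/-! ### The relations of the Curtis–Tits group -/

section Rel

variable {D : ChevalleyDatum} {K : Type*} [Field K]

theorem ct_add {i j r : ℕ} (hr : D.InRankTwoSub i j r) (t u : K) :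
    xh D K r t * xh D K r u = xh D K r (t + u) := by
  have h : D.stX r t * D.stX r u * (D.stX r (t + u))⁻¹ ∈ D.curtisTitsRels K :=
    Or.inl (Or.inl (Or.inr ⟨i, j, r, t, u, hr, rfl⟩))
  have := PresentedGroup.one_of_mem h
  rw [map_mul, map_mul, map_inv, mul_inv_eq_one] at this
  exact this

theorem ct_comm {i j r s : ℕ} (hr : D.InRankTwoSub i j r) (hs : D.InRankTwoSub i j s) (h1 : s ≠ r)
    (h2 : s ≠ D.neg r) (t u : K) :
    (xh D K s u)⁻¹ * (xh D K r t)⁻¹ * xh D K s u * xh D K r t = wordP (xh D K) (D.commWord K r s t u) := by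
  have h : (D.stX s u)⁻¹ * (D.stX r t)⁻¹ * D.stX s u * D.stX r t * (D.stWord (D.commWord K r s t u))⁻¹ ∈
      D.curtisTitsRels K := Or.inl (Or.inr ⟨i, j, r, s, t, u, hr, hs, h1, h2, rfl⟩)
  have := PresentedGroup.one_of_mem h
  rw [map_mul, map_mul, map_mul, map_mul, map_inv, map_inv, map_inv, mul_inv_eq_one, mk_stWord] at this
  exact this

theorem ct_zero {i j r : ℕ} (hr : D.InRankTwoSub i j r) : xh D K r (0 : K) = 1 := by
  have := ct_add hr (0 : K) 0
  rw [add_zero] at this
  exact mul_eq_left.mp this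

theorem ct_inv {i j r : ℕ} (hr : D.InRankTwoSub i j r) (t : K) : (xh D K r t)⁻¹ = xh D K r (-t) := by
  rw [inv_eq_iff_mul_eq_one, ct_add hr, add_neg_cancel, ct_zero hr]

end Rel

/-! ### The homomorphism from the presented group of `SL₃` -/

section Phi

open Cfsg.Agent.S2401

variable {D : ChevalleyDatum} {K : Type*} [Field K] {a b : ℕ}

/-- The images of the generators. -/
def gen (D : ChevalleyDatum) (K : Type*) [Field K] (a b : ℕ) (p : Idx 3 × K) : D.CurtisTitsGroup K :=
  xh D K (rootAt D a b p.1.1.1 p.1.1.2) p.2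

theorem lift_gen (hc : A2At D a b) : ∀ r ∈ relsS 3 K, FreeGroup.lift (gen D K a b) r = 1 := by
  obtain ⟨h1, -, h3, h4, -⟩ := hc
  rintro r ((⟨α, t, u, rfl⟩ | ⟨α, β, t, u, hαβ1, hαβ2, rfl⟩) | ⟨α, β, h, t, u, hαβ, rfl⟩)
  · simp only [map_mul, map_inv, FreeGroup.lift_apply_of]
    unfold gen
    rw [ct_add (h1 _ _ α.2), mul_inv_cancel]
  · simp only [map_mul, map_inv, FreeGroup.lift_apply_of]
    unfold gen
    by_cases hab : α = β
    · subst hab
      have e1 := ct_add (K := K) (h1 _ _ α.2) t u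
      have e2 := ct_add (K := K) (h1 _ _ α.2) u t
      rw [add_comm] at e2
      rw [e1, ← e2, mul_inv_cancel_right, mul_inv_cancel]
    · have hne : (α.1.1, α.1.2) ≠ (β.1.1, β.1.2) := by
        intro hc
        apply hab
        apply Subtype.ext
        exact hc
      obtain ⟨e1, e2, e3⟩ := h4 α.1.1 α.1.2 β.1.1 β.1.2 α.2 β.2 hne hαβ1 hαβ2
      have := ct_comm (K := K) (h1 _ _ α.2) (h1 _ _ β.2) e2 e3 t u
      unfold ChevalleyDatum.commWord at this
      rw [e1, List.map_nil, wordP_nil] at this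
      have h5 := congrArg (fun g => xh D K (rootAt D a b α.1.1 α.1.2) t * xh D K (rootAt D a b β.1.1 β.1.2) u * g) this
      simp only [mul_one] at h5
      rw [← h5]
      group
  · simp only [map_mul, map_inv, FreeGroup.lift_apply_of]
    unfold gen
    obtain ⟨⟨x, y⟩, hxy⟩ := α
    obtain ⟨⟨y', z⟩, hyz⟩ := β
    simp only at h hαβ hxy hyz ⊢
    subst hαβ
    obtain ⟨e1, e2, e3⟩ := h3 x y z hxy hyz h
    have := ct_comm (K := K) (h1 _ _ hyz) (h1 _ _ hxy) e2 e3 (-u) (-t)
    unfold ChevalleyDatum.commWord at this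
    rw [e1, List.map_cons, List.map_nil, wordP_cons, wordP_nil, mul_one, ← ct_inv (h1 _ _ hxy),
      ← ct_inv (h1 _ _ hyz), inv_inv, inv_inv] at this
    have e : ((-1 : ℤ) : K) * (- -u) ^ 1 * (-t) ^ 1 = t * u := by
      push_cast
      ring
    simp only at this
    rw [e] at this
    rw [this, mul_inv_cancel]

/-- The homomorphism from the presented group of `SL₃` to the Curtis–Tits group. -/
def phi (hc : A2At D a b) : PresentedGroup (relsS 3 K) →* D.CurtisTitsGroup K :=
  PresentedGroup.toGroup (lift_gen hc)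

theorem phi_of (hc : A2At D a b) (α : Idx 3) (t : K) :
    phi hc (PresentedGroup.of (α, t)) = xh D K (rootAt D a b α.1.1 α.1.2) t :=
  PresentedGroup.toGroup.of (lift_gen hc)

theorem G2_le_range (hc : A2At D a b) : G2 D K a b ≤ (phi (K := K) hc).range := by
  unfold G2
  rw [Subgroup.closure_le]
  rintro y ⟨r, t, hr, rfl⟩
  obtain ⟨x, y, hxy, rfl⟩ := hc.2.1 r ((mem_subL D).mpr hr)
  exact ⟨PresentedGroup.of (⟨(x, y), hxy⟩, t), phi_of hc _ t⟩

end Phi

/-! ### Some group theory and some matrices -/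

section Aux

theorem ker_le_center_of_noncomm {G H : Type*} [Group G] [Group H]
    [hs : IsSimpleGroup (G ⧸ Subgroup.center G)] (f : G →* H) (x y : G)
    (hxy : f (x * y * x⁻¹ * y⁻¹) ≠ 1) : f.ker ≤ Subgroup.center G := by
  have hn : (f.ker.map (QuotientGroup.mk' (Subgroup.center G))).Normal :=
    Subgroup.Normal.map inferInstance _ (QuotientGroup.mk'_surjective _)
  rcases hn.eq_bot_or_eq_top with h | h
  · have := (Subgroup.map_eq_bot_iff _).mp h
    rwa [QuotientGroup.ker_mk'] at this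
  · exfalso
    have key : ∀ g : G, ∃ z ∈ Subgroup.center G, f g = f z := by
      intro g
      have hg : QuotientGroup.mk' (Subgroup.center G) g ∈ f.ker.map (QuotientGroup.mk' (Subgroup.center G)) := by
        rw [h]
        exact Subgroup.mem_top _
      obtain ⟨n, hn, hng⟩ := hg
      have hz : n⁻¹ * g ∈ Subgroup.center G := QuotientGroup.eq.mp hng
      refine ⟨n⁻¹ * g, hz, ?_⟩
      rw [map_mul, map_inv, MonoidHom.mem_ker.mp hn, inv_one, one_mul]
    obtain ⟨z, hz, hfz⟩ := key x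
    obtain ⟨z', hz', hfz'⟩ := key y
    apply hxy
    rw [map_mul, map_mul, map_mul, map_inv, map_inv, hfz, hfz', ← map_inv, ← map_inv, ← map_mul, ← map_mul,
      ← map_mul]
    have : z * z' * z⁻¹ * z'⁻¹ = 1 := by
      rw [Subgroup.mem_center_iff] at hz
      rw [← hz z', mul_assoc z' z, mul_inv_cancel, mul_one, mul_inv_cancel]
    rw [this, map_one]

variable {K : Type*} [Field K]

theorem zeta_eq_one {ζ : K} (hζ0 : ζ ≠ 0) (h3 : ζ ^ 3 = 1) {n : ℤ} (hn : ζ ^ n = 1) (hmod : n % 3 ≠ 0) : ζ = 1 := by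
  have h3' : ζ ^ (3 : ℤ) = 1 := by exact_mod_cast h3
  have e : ζ ^ n = ζ ^ (n % 3) := by
    conv_lhs => rw [← Int.mul_ediv_add_emod n 3]
    rw [zpow_add₀ hζ0, zpow_mul, h3', one_zpow, one_mul]
  rw [e] at hn
  have h0 : 0 ≤ n % 3 := Int.emod_nonneg _ (by norm_num)
  have h1 : n % 3 < 3 := Int.emod_lt_of_pos _ (by norm_num)
  have : n % 3 = 1 ∨ n % 3 = 2 := by omega
  rcases this with h | h
  · rw [h, zpow_one] at hn
    exact hn
  · rw [h] at hn
    have h2 : ζ ^ 2 = 1 := by exact_mod_cast hn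
    have : ζ ^ 3 = ζ ^ 2 * ζ := by ring
    rw [h3, h2, one_mul] at this
    exact this.symm

theorem w01 (t : K) (ht : t ≠ 0) :
    Matrix.transvection (0 : Fin 3) 1 t * Matrix.transvection (1 : Fin 3) 0 (-t⁻¹) *
      Matrix.transvection (0 : Fin 3) 1 t = !![0, t, 0; -t⁻¹, 0, 0; 0, 0, 1] := by
  ext i j
  fin_cases i <;> fin_cases j <;>
    simp [Matrix.transvection, Matrix.mul_apply, Fin.sum_univ_three, Matrix.single_apply, Matrix.one_apply, ht]

theorem w12 (t : K) (ht : t ≠ 0) :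
    Matrix.transvection (1 : Fin 3) 2 t * Matrix.transvection (2 : Fin 3) 1 (-t⁻¹) *
      Matrix.transvection (1 : Fin 3) 2 t = !![1, 0, 0; 0, 0, t; 0, -t⁻¹, 0] := by
  ext i j
  fin_cases i <;> fin_cases j <;>
    simp [Matrix.transvection, Matrix.mul_apply, Fin.sum_univ_three, Matrix.single_apply, Matrix.one_apply, ht]

theorem center_word (ζ : K) (h3 : ζ ^ 3 = 1) :
    (Matrix.transvection (0 : Fin 3) 1 ζ * Matrix.transvection (1 : Fin 3) 0 (-ζ⁻¹) *
        Matrix.transvection (0 : Fin 3) 1 ζ *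
      (Matrix.transvection (0 : Fin 3) 1 (-1) * Matrix.transvection (1 : Fin 3) 0 (-(-1 : K)⁻¹) *
        Matrix.transvection (0 : Fin 3) 1 (-1))) *
    (Matrix.transvection (1 : Fin 3) 2 (ζ ^ 2) * Matrix.transvection (2 : Fin 3) 1 (-(ζ ^ 2)⁻¹) *
        Matrix.transvection (1 : Fin 3) 2 (ζ ^ 2) *
      (Matrix.transvection (1 : Fin 3) 2 (-1) * Matrix.transvection (2 : Fin 3) 1 (-(-1 : K)⁻¹) *
        Matrix.transvection (1 : Fin 3) 2 (-1))) = Matrix.scalar (Fin 3) ζ := by
  have hζ : ζ ≠ 0 := by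
    rintro rfl
    simp at h3
  have hζ2 : ζ ^ 2 ≠ 0 := pow_ne_zero 2 hζ
  have hm1 : (-1 : K) ≠ 0 := by simp
  rw [w01 ζ hζ, w01 (-1) hm1, w12 (ζ ^ 2) hζ2, w12 (-1) hm1]
  have e1 : ζ⁻¹ = ζ ^ 2 := by
    field_simp
    linear_combination -h3
  have e2 : (ζ ^ 2)⁻¹ = ζ := by
    rw [← e1, inv_inv]
  ext i j
  fin_cases i <;> fin_cases j <;>
    (simp [Matrix.mul_apply, Fin.sum_univ_three, Matrix.scalar_apply, e1, e2]
     try (first | linear_combination h3 | linear_combination -h3 | linear_combination ζ * h3))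

end Aux

/-! ### The injectivity -/

section Main

open Cfsg.Agent.S2401

variable {D : ChevalleyDatum} {Ns : List NData} {K : Type*} [Field K] {a b : ℕ}

theorem rootAt_01 : rootAt D a b 0 1 = D.simple a := rfl

theorem rootAt_10 : rootAt D a b 1 0 = D.neg (D.simple a) := rfl

theorem rootAt_12 : rootAt D a b 1 2 = D.simple b := rfl

theorem rootAt_21 : rootAt D a b 2 1 = D.neg (D.simple b) := rfl

/-- The homomorphism from the presented group of `SL₃` to the general linear group. -/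
def toF (c : DCert D Ns) (tc : TCert D) (hR2 : R2All D K) (h : VisCert D) (hc : A2At D a b) :
    PresentedGroup (relsS 3 K) →* GL D.Idx K :=
  (toGL c (lift_rels c tc hR2)).comp ((ctToSt (K := K) h).comp (phi hc))

theorem toF_of (c : DCert D Ns) (tc : TCert D) (hR2 : R2All D K) (h : VisCert D) (hc : A2At D a b) (α : Idx 3)
    (t : K) : toF c tc hR2 h hc (PresentedGroup.of (α, t)) = xGL c (rootAt D a b α.1.1 α.1.2) t := by
  unfold toF
  rw [MonoidHom.comp_apply, MonoidHom.comp_apply, phi_of,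
    ctToSt_xh h ((vis_iff D).mpr ⟨a, b, hc.1 _ _ α.2⟩)]
  exact isLift_toGL c (lift_rels c tc hR2) _ (hc.1 _ _ α.2).1 t

/-- The word `h_α(t)` in the presented group. -/
def hP (K : Type*) [Field K] (α α' : Idx 3) (t : K) : PresentedGroup (relsS 3 K) :=
  PresentedGroup.of (α, t) * PresentedGroup.of (α', -t⁻¹) * PresentedGroup.of (α, t) *
    (PresentedGroup.of (α, -1) * PresentedGroup.of (α', -(-1 : K)⁻¹) * PresentedGroup.of (α, -1))

theorem toF_injective [Finite K] {wl : List ℤ} {ws : List (List ℤ)} {sc : ℤ} (c : DCert D Ns) (tc : TCert D)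
    (ac : ACert D wl ws sc) (hR2 : R2All D K) (h : VisCert D) (hc : A2At D a b) (ha : a < D.rank)
    (hb : b < D.rank) (p : PresentedGroup (relsS 3 K)) (hp : toF c tc hR2 h hc p = 1) : p = 1 := by
  obtain ⟨e, he⟩ : ∃ e : PresentedGroup (relsS 3 K) ≃* Matrix.SpecialLinearGroup (Fin 3) K,
      ∀ (α : Idx 3) (t : K), ((e (PresentedGroup.of (α, t)) : Matrix (Fin 3) (Fin 3) K)) =
        Matrix.transvection α.1.1 α.1.2 t := Cfsg.Agent.S2401.result 3 le_rfl
  let F : Matrix.SpecialLinearGroup (Fin 3) K →* GL D.Idx K := (toF c tc hR2 h hc).comp e.symm.toMonoidHom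
  have hF : ∀ q, F (e q) = toF c tc hR2 h hc q := by
    intro q
    show toF c tc hR2 h hc (e.symm (e q)) = _
    rw [MulEquiv.symm_apply_apply]
  have : IsSimpleGroup (Matrix.SpecialLinearGroup (Fin 3) K ⧸
      Subgroup.center (Matrix.SpecialLinearGroup (Fin 3) K)) :=
    Cfsg.Agent.Lib.Helper5_PSLSimple.psl_simple (F := K) (ι := Fin 3) (by simp)
  let α01 : Idx 3 := ⟨(0, 1), by decide⟩
  let α10 : Idx 3 := ⟨(1, 0), by decide⟩
  let α12 : Idx 3 := ⟨(1, 2), by decide⟩
  let α21 : Idx 3 := ⟨(2, 1), by decide⟩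
  let α02 : Idx 3 := ⟨(0, 2), by decide⟩
  have hrel : (PresentedGroup.of (α01, (1 : K)) : PresentedGroup (relsS 3 K)) * PresentedGroup.of (α12, (1 : K)) *
      (PresentedGroup.of (α01, (1 : K)))⁻¹ * (PresentedGroup.of (α12, (1 : K)))⁻¹ =
      PresentedGroup.of (α02, (1 : K) * 1) := by
    have hmem : FreeGroup.of (α01, (1 : K)) * FreeGroup.of (α12, (1 : K)) * (FreeGroup.of (α01, (1 : K)))⁻¹ *
        (FreeGroup.of (α12, (1 : K)))⁻¹ * (FreeGroup.of (α02, (1 : K) * 1))⁻¹ ∈ relsS 3 K :=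
      Or.inr ⟨α01, α12, by decide, 1, 1, rfl, rfl⟩
    have := PresentedGroup.one_of_mem hmem
    rw [map_mul, map_inv, mul_inv_eq_one] at this
    exact this
  have hne : F (e (PresentedGroup.of (α01, (1 : K))) * e (PresentedGroup.of (α12, (1 : K))) *
      (e (PresentedGroup.of (α01, (1 : K))))⁻¹ * (e (PresentedGroup.of (α12, (1 : K))))⁻¹) ≠ 1 := by
    rw [← map_inv, ← map_inv, ← map_mul, ← map_mul, ← map_mul, hF, hrel, toF_of]
    intro h1
    have h0 := eq_zero_of_xGL_mem_diagonal c tc ac _ (hc.1 _ _ α02.2).1 ((1 : K) * 1)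
      (by rw [h1]; exact one_mem _)
    rw [one_mul] at h0
    exact one_ne_zero h0
  have hker : F.ker ≤ Subgroup.center _ := ker_le_center_of_noncomm F _ _ hne
  have hm : e p ∈ F.ker := by
    rw [MonoidHom.mem_ker, hF, hp]
  have hcen := hker hm
  rw [Matrix.SpecialLinearGroup.mem_center_iff] at hcen
  obtain ⟨ζ, hζ3, hζ⟩ := hcen
  rw [Fintype.card_fin] at hζ3
  have hζ0 : ζ ≠ 0 := by
    rintro rfl
    simp at hζ3
  -- the central element as a word
  have hq : e (hP K α01 α10 ζ * hP K α12 α21 (ζ ^ 2)) = e p := by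
    apply Subtype.ext
    rw [← hζ]
    unfold hP
    simp only [map_mul, Matrix.SpecialLinearGroup.coe_mul, he]
    exact center_word ζ hζ3
  have hpq : p = hP K α01 α10 ζ * hP K α12 α21 (ζ ^ 2) := e.injective hq.symm
  have h1 : toF c tc hR2 h hc (hP K α01 α10 ζ * hP K α12 α21 (ζ ^ 2)) =
      hGL c (D.simple a) ζ * hGL c (D.simple b) (ζ ^ 2) := by
    unfold hP
    simp only [map_mul, toF_of]
    unfold hGL wordGL ChevalleyDatum.hWord ChevalleyDatum.nWord
    simp only [List.cons_append, List.nil_append, List.map_cons, List.map_nil, List.prod_cons, List.prod_nil,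
      mul_one, mul_assoc]
    rfl
  rw [hpq, h1] at hp
  have hpa : D.simple a < D.nroots := (c.ncert a ha).simple_lt
  have hpb : D.simple b < D.nroots := (c.ncert b hb).simple_lt
  have h2 := congrArg (fun g : GL D.Idx K => (g : Matrix D.Idx D.Idx K)) hp
  simp only [Units.val_mul, hGL_coe, Units.val_one] at h2
  rw [hMat_all c tc _ hpa ζ hζ0, hMat_all c tc _ hpb (ζ ^ 2) (pow_ne_zero 2 hζ0), diagMat_mul] at h2
  obtain ⟨k, hk, hk3⟩ := hc.2.2.2.2
  have hpk : D.simple k < D.nroots := (c.ncert k hk).simple_lt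
  have h3 := congrFun (congrFun h2 (Sum.inr ⟨D.simple k, hpk⟩)) (Sum.inr ⟨D.simple k, hpk⟩)
  unfold diagMat at h3
  rw [Matrix.diagonal_apply_eq, Matrix.one_apply_eq] at h3
  simp only [Sum.elim_inr] at h3
  rw [tc.cartanR_simple a ha, tc.cartanR_simple b hb] at h3
  have h4 : ζ ^ (D.cartan a (D.simple k) + 2 * D.cartan b (D.simple k)) = 1 := by
    rw [zpow_add₀ hζ0, zpow_mul, zpow_ofNat]
    exact h3
  have hζ1 : ζ = 1 := zeta_eq_one hζ0 hζ3 h4 hk3
  have hep : e p = 1 := by
    apply Subtype.ext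
    rw [← hζ, hζ1]
    simp
  exact e.injective (hep.trans (map_one e).symm)

end Main

/-! ### The package -/

theorem injOn2_A2 (D : ChevalleyDatum) (hD : D ∈ [chevD4, chevF4, chevE6, chevE7, chevE8])
    (K : Type*) [Field K] [Fintype K] (i j : ℕ) (hi : i < D.rank) (hj : j < D.rank)
    (hij : D.cartan i (D.simple j) = -1) (hji : D.cartan j (D.simple i) = -1) :
    InjOn2 (visCert_of_mem D hD) K i j := by
  obtain ⟨Ns, w, d, Ts, hT, K', base, stepT, wl, ws, sc, c, tc, gc, pc, ac⟩ :=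
    Cfsg.Agent.Lib.Helper18_ChevData5.exists_cert5 D (List.mem_cons_of_mem _ (List.mem_cons_of_mem _ hD))
  have hR2 : R2All D K := r2_all c pc
  have hcert := a2Cert_of_mem D hD
  have key : ∀ a b : ℕ, a < D.rank → b < D.rank → D.cartan a (D.simple b) = -1 → D.cartan b (D.simple a) = -1 →
      b < a → InjOn2 (visCert_of_mem D hD) K a b := by
    intro a b ha hb hab hba hlt g hg hg1
    have hc := (hcert a ha b hb hab hba).2 hlt
    obtain ⟨p, rfl⟩ := G2_le_range hc hg
    have h1 : toF c tc hR2 (visCert_of_mem D hD) hc p = 1 := by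
      unfold toF
      rw [MonoidHom.comp_apply, MonoidHom.comp_apply, hg1, map_one]
    rw [toF_injective c tc ac hR2 (visCert_of_mem D hD) hc ha hb p h1, map_one]
  rcases lt_trichotomy i j with h | h | h
  · intro g hg
    rw [G2_symm] at hg
    exact key j i hj hi hji hij h g hg
  · exact absurd h (hcert i hi j hj hij hji).1
  · exact key i j hi hj hij hji h

end Cfsg.Agent.Lib.Helper52_CT_INJA2
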