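import Mathlib
import Cfsg.Agent.Lib.Helper63_Extraspecial
import Cfsg.Agent.Lib.Helper52_FrobFormula
import Cfsg.Agent.Lib.Helper24_CoprimeHall
import Cfsg.Agent.Lib.Helper24_Coprime
import Cfsg.Agent.Lib.Helper2_Coprime
import Cfsg.Agent.Lib.Helper23_PLength
import Cfsg.Agent.Lib.Helper49_Alpha3
import Cfsg.Agent.Lib.Helper1_FPF
import Cfsg.Agent.Lib.Helper52_BG12c

/-!
# A Frobenius group acting on a group of odd prime power order with cyclic fixed points (helper52)

`le_centralizer_of_cyclic_centralizers`: let the Frobenius group `QP` (kernel `Q`, complement `P` of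
odd prime order) act coprimely on the `l`-group `S`, `l` odd, with `C_S(P)`, `C_S(Q)` cyclic and
`C_S(QP) ≠ 1`; then `Q` centralizes `S`.  (The group theoretic core of Bender-Glauberman, Lemma 12.14.)
Also: `index_center_eq_pow_two_mul` (in a `p`-group with derived group of order dividing `p` the
centre has index an even power of `p`), `mem_of_isCyclic_of_ne_bot`.
-/

set_option autoImplicit false

namespace Cfsg.Agent.Lib.Helper52_FrobRank

open Subgroup Cfsg
open scoped commutatorElement

universe u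

section Parity

open Cfsg.Agent.Lib.Helper63_PGroup Cfsg.Agent.Lib.Helper63_PGroup2
  Cfsg.Agent.Lib.Helper63_Extraspecial

/-- the centralizer of a noncentral element in a class-2 group with derived group of order
dividing `p` has index `p` -/
theorem index_centralizer_eq' {Q : Type*} [Group Q] [Finite Q] {p : ℕ} (hp : p.Prime)
    (hcl : commutator Q ≤ Subgroup.center Q) (hD : Nat.card (commutator Q) ∣ p)
    (x : Q) (hx : x ∉ Subgroup.center Q) : (Subgroup.centralizer ({x} : Set Q)).index = p := by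
  have hb : ∀ g : Q, ⁅x, g⁆ ∈ Subgroup.center Q := by
    intro g
    apply hcl
    rw [commutator_def]
    exact Subgroup.commutator_mem_commutator (Subgroup.mem_top _) (Subgroup.mem_top _)
  have h1 : (Subgroup.centralizer ({x} : Set Q)).index ∣ Nat.card (commutator Q) := by
    rw [← commutatorHom_ker x hb, Subgroup.index_ker]
    have hle : (commutatorHom x hb).range.map (Subgroup.center Q).subtype ≤ commutator Q := by
      rintro _ ⟨_, ⟨g, rfl⟩, rfl⟩
      show ⁅x, g⁆ ∈ commutator Q
      rw [commutator_def]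
      exact Subgroup.commutator_mem_commutator (Subgroup.mem_top _) (Subgroup.mem_top _)
    have := Subgroup.card_dvd_of_le hle
    rwa [Subgroup.card_map_of_injective (Subgroup.subtype_injective _)] at this
  rcases (Nat.dvd_prime hp).1 (h1.trans hD) with h | h
  · exfalso
    apply hx
    rw [Subgroup.index_eq_one] at h
    rw [Subgroup.mem_center_iff]
    intro g
    have : g ∈ Subgroup.centralizer ({x} : Set Q) := by rw [h]; trivial
    rw [mem_centralizer_singleton] at this
    exact this.symm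
  · exact h

theorem index_center_aux {p : ℕ} [hp : Fact p.Prime] : ∀ (n : ℕ) (Q : Type u) [Group Q]
    [Finite Q], Nat.card Q = n → IsPGroup p Q → commutator Q ≤ Subgroup.center Q →
    Nat.card (commutator Q) ∣ p → ∃ m : ℕ, (Subgroup.center Q).index = p ^ (2 * m) := by
  intro n
  induction n using Nat.strong_induction_on with
  | _ n ih =>
    intro Q _ _ hn hQ hcl hZ
    have hpp : p.Prime := hp.out
    by_cases htop : Subgroup.center Q = ⊤
    · refine ⟨0, ?_⟩
      rw [htop, Subgroup.index_top]; simp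
    · -- pick a noncentral `x`, and `y` not commuting with `x`
      obtain ⟨x, hx⟩ : ∃ x : Q, x ∉ Subgroup.center Q := by
        by_contra hall
        push Not at hall
        exact htop (eq_top_iff.2 fun x _ => hall x)
      set Cx := Subgroup.centralizer ({x} : Set Q) with hCx
      have hCxi : Cx.index = p := index_centralizer_eq' hpp hcl hZ x hx
      have hCxcoatom : IsCoatom Cx := isCoatom_of_index_prime Cx (hCxi ▸ hpp)
      obtain ⟨y, hy⟩ : ∃ y : Q, y ∉ Cx := by
        by_contra hall
        push Not at hall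
        exact hCxcoatom.1 (eq_top_iff.2 fun x _ => hall x)
      have hxy : x * y ≠ y * x := by
        intro h
        apply hy
        rw [hCx, mem_centralizer_singleton]; exact h
      have hyZ : y ∉ Subgroup.center Q := by
        intro h
        exact hxy ((Subgroup.mem_center_iff.1 h x))
      set Cy := Subgroup.centralizer ({y} : Set Q) with hCy
      have hCyi : Cy.index = p := index_centralizer_eq' hpp hcl hZ y hyZ
      have hCyn : Cy.Normal := normal_of_index_eq_prime hQ Cy hCyi
      have hxCy : x ∉ Cy := by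
        rw [hCy, mem_centralizer_singleton]
        exact fun h => hxy h.symm
      have hxCx : x ∈ Cx := by rw [hCx, mem_centralizer_singleton]
      have hyCy : y ∈ Cy := by rw [hCy, mem_centralizer_singleton]
      set Q₁ := Cx ⊓ Cy with hQ₁
      -- index computations
      have hsup : Cx ⊔ Cy = ⊤ := by
        apply hCxcoatom.2
        apply lt_of_le_of_ne le_sup_left
        intro heq
        apply hy
        rw [heq]; exact Subgroup.mem_sup_right hyCy
      have hrel : Q₁.relIndex Cx = p := by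
        rw [hQ₁, inf_comm, Subgroup.inf_relIndex_right]
        have := Subgroup.relIndex_sup_right Cx Cy
        rw [hsup, Subgroup.relIndex_top_right, hCyi] at this
        exact this.symm
      have hcardQ₁ : Nat.card Q₁ * (p * p) = Nat.card Q := by
        have h1 := card_mul_relIndex (inf_le_left : Q₁ ≤ Cx)
        rw [hrel] at h1
        have h2 := Subgroup.card_mul_index Cx
        rw [hCxi, ← h1] at h2
        rw [← h2]; ring
      -- centre of `Q₁`
      have hZle : Subgroup.center Q ≤ Q₁ := by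
        intro z hz
        refine Subgroup.mem_inf.2 ⟨?_, ?_⟩
        · rw [hCx, mem_centralizer_singleton]; exact (Subgroup.mem_center_iff.1 hz x)
        · rw [hCy, mem_centralizer_singleton]; exact (Subgroup.mem_center_iff.1 hz y)
      have hcenter : (Subgroup.center Q₁).map Q₁.subtype = Subgroup.center Q := by
        apply le_antisymm
        · rintro _ ⟨z, hz, rfl⟩
          set E := Subgroup.centralizer ({(z : Q)} : Set Q) with hE
          have hQ₁E : Q₁ ≤ E := by
            intro a ha
            rw [hE, mem_centralizer_singleton]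
            have := Subgroup.mem_center_iff.1 hz ⟨a, ha⟩
            exact (congrArg Subtype.val this).symm
          have hxE : x ∈ E := by
            rw [hE, mem_centralizer_singleton]
            have := (Subgroup.mem_inf.1 z.2).1
            rw [hCx, mem_centralizer_singleton] at this
            exact this.symm
          have hyE : y ∈ E := by
            rw [hE, mem_centralizer_singleton]
            have := (Subgroup.mem_inf.1 z.2).2
            rw [hCy, mem_centralizer_singleton] at this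
            exact this.symm
          have hCxE : Cx ≤ E ⊓ Cx := by
            apply le_of_relIndex_prime (H := Q₁) (le_inf hQ₁E inf_le_left) inf_le_right
              (hrel ▸ hpp)
            intro hle
            have : x ∈ Q₁ := hle ⟨hxE, hxCx⟩
            exact hxCy this.2
          have hEtop : E = ⊤ := by
            apply hCxcoatom.2
            apply lt_of_le_of_ne (hCxE.trans inf_le_left)
            intro heq
            apply hy
            rw [heq]; exact hyE
          show (z : Q) ∈ Subgroup.center Q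
          rw [Subgroup.mem_center_iff]
          intro g
          have : g ∈ E := by rw [hEtop]; trivial
          rw [hE, mem_centralizer_singleton] at this
          exact this.symm
        · intro z hz
          refine ⟨⟨z, hZle hz⟩, ?_, rfl⟩
          show (⟨z, hZle hz⟩ : Q₁) ∈ Subgroup.center Q₁
          rw [Subgroup.mem_center_iff]
          intro g
          apply Subtype.ext
          exact Subgroup.mem_center_iff.1 hz g
      have hZ₁ : Nat.card (Subgroup.center Q₁) = Nat.card (Subgroup.center Q) := by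
        rw [← hcenter, Subgroup.card_subtype]
      have hmap : (commutator Q₁).map Q₁.subtype ≤ commutator Q := by
        rw [commutator_def, commutator_def, Subgroup.map_commutator]
        exact Subgroup.commutator_mono le_top le_top
      have hcl₁ : commutator Q₁ ≤ Subgroup.center Q₁ := by
        intro c hc
        have h1 : (c : Q) ∈ (commutator Q₁).map Q₁.subtype := ⟨c, hc, rfl⟩
        have h3 : (c : Q) ∈ Subgroup.center Q := hcl (hmap h1)
        rw [Subgroup.mem_center_iff]
        intro g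
        apply Subtype.ext
        exact Subgroup.mem_center_iff.1 h3 g
      have hD₁ : Nat.card (commutator Q₁) ∣ p := by
        have := Subgroup.card_dvd_of_le hmap
        rw [Subgroup.card_map_of_injective (Subgroup.subtype_injective _)] at this
        exact this.trans hZ
      have hlt : Nat.card Q₁ < n := by
        rw [← hn, ← hcardQ₁]
        have hpos : 0 < Nat.card Q₁ := Nat.card_pos
        have : 1 < p * p := by nlinarith [hpp.one_lt]
        nlinarith
      obtain ⟨m, hm⟩ := ih (Nat.card Q₁) hlt Q₁ rfl (hQ.to_subgroup Q₁) hcl₁ hD₁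
      refine ⟨m + 1, ?_⟩
      have e1 := Subgroup.card_mul_index (Subgroup.center Q)
      have e2 := Subgroup.card_mul_index (Subgroup.center Q₁)
      rw [hm, hZ₁] at e2
      have hpos : 0 < Nat.card (Subgroup.center Q) := Nat.card_pos
      have e3 : Nat.card (Subgroup.center Q) * (Subgroup.center Q).index =
          Nat.card (Subgroup.center Q) * (p ^ (2 * (m + 1))) := by
        rw [e1, ← hcardQ₁, ← e2]; ring
      exact Nat.eq_of_mul_eq_mul_left hpos e3

/-- in a finite `p`-group of class at most two whose derived group has order dividing `p`, the index of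
the centre is an even power of `p` -/
theorem index_center_eq_pow_two_mul {p : ℕ} [Fact p.Prime] {Q : Type u} [Group Q] [Finite Q]
    (hQ : IsPGroup p Q) (hcl : commutator Q ≤ Subgroup.center Q)
    (hD : Nat.card (commutator Q) ∣ p) : ∃ m : ℕ, (Subgroup.center Q).index = p ^ (2 * m) :=
  index_center_aux _ Q rfl hQ hcl hD

end Parity

section Cyclic

/-- in a finite cyclic group, an element killed by `l` lies in the subgroup generated by any element
of order `l` -/
theorem mem_zpowers_of_orderOf_eq {Y : Type*} [Group Y] [Finite Y] [IsCyclic Y] {l : ℕ} (hl : 0 < l)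
    {x y : Y} (hx : orderOf x = l) (hy : y ^ l = 1) : y ∈ zpowers x := by
  classical
  have := Fintype.ofFinite Y
  have h1 := IsCyclic.card_pow_eq_one_le (α := Y) hl
  have hsub : (zpowers x : Set Y).toFinset ⊆ Finset.univ.filter (fun a : Y => a ^ l = 1) := by
    intro a ha
    rw [Set.mem_toFinset] at ha
    obtain ⟨k, rfl⟩ := mem_zpowers_iff.mp ha
    simp only [Finset.mem_filter, Finset.mem_univ, true_and]
    rw [← zpow_natCast, ← zpow_mul, mul_comm, zpow_mul, zpow_natCast, ← hx, pow_orderOf_eq_one,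
      one_zpow]
  have hcard : ((zpowers x : Set Y).toFinset).card = l := by
    rw [Set.toFinset_card, ← Nat.card_eq_fintype_card]
    show Nat.card ↥(zpowers x) = l
    rw [Nat.card_zpowers, hx]
  have heq := Finset.eq_of_subset_of_card_le hsub (by rw [hcard]; exact h1)
  have hy' : y ∈ Finset.univ.filter (fun a : Y => a ^ l = 1) := by simp [hy]
  rw [← heq, Set.mem_toFinset] at hy'
  exact hy'

variable {G : Type*} [Group G] [Finite G]

/-- in a cyclic `l`-subgroup, every nontrivial subgroup contains every element of order `l` -/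
theorem mem_of_isCyclic_of_ne_bot {l : ℕ} [Fact l.Prime] {Y H : Subgroup G} (hYc : IsCyclic ↥Y)
    (hHY : H ≤ Y) (hHl : IsPGroup l H) (hH1 : H ≠ ⊥) {x : G} (hxY : x ∈ Y) (hxl : x ^ l = 1) :
    x ∈ H := by
  have hlp : l.Prime := Fact.out
  have hnt : Nontrivial ↥H := (Subgroup.nontrivial_iff_ne_bot H).mpr hH1
  obtain ⟨k, hk⟩ := IsPGroup.iff_card.mp hHl
  have hk0 : k ≠ 0 := by
    rintro rfl
    rw [pow_zero] at hk
    exact hH1 (Subgroup.card_eq_one.mp hk)
  have hdvd : l ∣ Nat.card ↥H := by rw [hk]; exact dvd_pow_self l hk0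
  obtain ⟨y, hy⟩ := exists_prime_orderOf_dvd_card' l hdvd
  have hyY : (y : G) ∈ Y := hHY y.2
  have hy' : orderOf (⟨(y : G), hyY⟩ : ↥Y) = l := by
    rw [← hy]
    rw [← Subgroup.orderOf_coe y, ← Subgroup.orderOf_coe (⟨(y : G), hyY⟩ : ↥Y)]
  have hx' : (⟨x, hxY⟩ : ↥Y) ^ l = 1 := Subtype.ext (by simpa using hxl)
  have hmem := mem_zpowers_of_orderOf_eq hlp.pos hy' hx'
  obtain ⟨n, hn⟩ := mem_zpowers_iff.mp hmem
  have hn' : (y : G) ^ n = x := by
    have := congrArg Subtype.val hn
    simpa using this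
  rw [← hn']
  exact H.zpow_mem y.2 n

end Cyclic

section Main

variable {G : Type*} [Group G] [Finite G] {l p : ℕ} [Fact l.Prime] [Fact p.Prime]
  {S Q P : Subgroup G}

omit [Finite G] [Fact l.Prime] in
/-- a complement of prime order acting without fixed points: elementwise form -/
theorem fpf_elt (hP : Nat.card P = p) (hfpf : Q ⊓ centralizer (P : Set G) = ⊥) :
    ∀ e ∈ P, e ≠ 1 → ∀ u ∈ Q, e * u = u * e → u = 1 := by
  intro e he he1 u hu heu
  have hz : zpowers e = P := Cfsg.Agent.Lib.Helper49_Alpha3.zpowers_eq_of_card_prime hP he he1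
  have hu' : u ∈ Q ⊓ centralizer (P : Set G) := by
    refine mem_inf.mpr ⟨hu, ?_⟩
    rw [mem_centralizer_iff]
    intro x hx
    rw [← hz] at hx
    obtain ⟨n, rfl⟩ := mem_zpowers_iff.mp hx
    exact ((Commute.zpow_left (show Commute e u from heu) n)).eq
  rw [hfpf, mem_bot] at hu'
  exact hu'

/-- coprimality of `|QP|` and the order of an `l`-group -/
theorem coprime_sup (hP : Nat.card P = p) (hPQ : P ≤ normalizer (Q : Set G))
    (hfpf : Q ⊓ centralizer (P : Set G) = ⊥) (hcopQ : (Nat.card Q).Coprime l) (hpl : p ≠ l)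
    {D : Subgroup G} (hD : IsPGroup l D) : (Nat.card ↥(Q ⊔ P)).Coprime (Nat.card D) := by
  have hlp : l.Prime := Fact.out
  have hpp : p.Prime := Fact.out
  have hPc : ∀ a ∈ P, ∀ b ∈ P, a * b = b * a := by
    intro a ha b hb
    have : IsCyclic ↥P := isCyclic_of_prime_card hP
    have := (IsCyclic.commGroup (α := ↥P)).mul_comm ⟨a, ha⟩ ⟨b, hb⟩
    exact congrArg Subtype.val this
  have hd : P ⊓ Q = ⊥ := by
    rw [eq_bot_iff, ← hfpf]
    intro x hx
    obtain ⟨hxP, hxQ⟩ := mem_inf.mp hx
    refine mem_inf.mpr ⟨hxQ, ?_⟩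
    rw [mem_centralizer_iff]
    intro y hy
    exact hPc y hy x hxP
  have hcard := Cfsg.Agent.Lib.Helper1_FPF.card_sup_of_le_normalizer P Q hPQ hd
  rw [sup_comm, hcard, hP]
  obtain ⟨k, hk⟩ := IsPGroup.iff_card.mp hD
  rw [hk]
  apply Nat.Coprime.pow_right
  exact Nat.Coprime.mul_left ((Nat.coprime_primes hpp hlp).mpr hpl) hcopQ

/-- consequence of the Frobenius fixed point formula -/
theorem card_eq_pow_of_fpf (hP : Nat.card P = p) (hPQ : P ≤ normalizer (Q : Set G))
    (hfpf : Q ⊓ centralizer (P : Set G) = ⊥) (hcopQ : (Nat.card Q).Coprime l) (hpl : p ≠ l)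
    {D : Subgroup G} (hD : IsPGroup l D) (hQD : Q ≤ normalizer (D : Set G))
    (hPD : P ≤ normalizer (D : Set G)) :
    Nat.card ↥(D ⊓ centralizer ((Q ⊔ P : Subgroup G) : Set G)) ^ p * Nat.card D =
      Nat.card ↥(D ⊓ centralizer (P : Set G)) ^ p * Nat.card ↥(D ⊓ centralizer (Q : Set G)) := by
  have hpp : p.Prime := Fact.out
  have hP1 : P ≠ ⊥ := by
    intro h
    rw [h, Subgroup.card_bot] at hP
    exact hpp.one_lt.ne hP
  have hsolv : Group.IsSolvable ↥D := by
    have := hD.isNilpotent
    infer_instance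
  have := Cfsg.Agent.Lib.Helper52_FrobFormula.frobenius_formula Q P D hP1
    (fun e he u hu => (mem_normalizer_iff.mp (hPQ he) u).mp hu)
    (fpf_elt hP hfpf) (sup_le hQD hPD) hsolv (coprime_sup hP hPQ hfpf hcopQ hpl hD)
  rwa [hP] at this

/-- **Sub-claim A**: every `QP`-invariant abelian subgroup of `S` is centralized by `Q`. -/
theorem abelian_le_centralizer (hl2 : l ≠ 2) (hS : IsPGroup l S) (hPQ : P ≤ normalizer (Q : Set G))
    (hP : Nat.card P = p) (hcopQ : (Nat.card Q).Coprime l) (hpl : p ≠ l)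
    (hfpf : Q ⊓ centralizer (P : Set G) = ⊥)
    (hSP : IsCyclic ↥(S ⊓ centralizer (P : Set G)))
    {x : G} (hxS : x ∈ S) (hxQ : x ∈ centralizer (Q : Set G)) (hxP : x ∈ centralizer (P : Set G))
    (hxl : x ^ l = 1) (hx1 : x ≠ 1)
    {B : Subgroup G} (hBS : B ≤ S) (hBc : IsMulCommutative ↥B) (hQB : Q ≤ normalizer (B : Set G))
    (hPB : P ≤ normalizer (B : Set G)) : B ≤ centralizer (Q : Set G) := by
  have hlp : l.Prime := Fact.out
  have hpp : p.Prime := Fact.out
  set V : Subgroup G := Cfsg.Agent.Lib.Helper49_Sigma.omega1 l B hBc with hV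
  have hVB : V ≤ B := fun v hv => hv.1
  have hVmem : ∀ v, v ∈ V ↔ v ∈ B ∧ v ^ l = 1 := fun v => Iff.rfl
  have hVc : IsMulCommutative ↥V := by
    refine ⟨⟨fun a b => ?_⟩⟩
    have h1 := hBc.is_comm.comm ⟨(a : G), hVB a.2⟩ ⟨(b : G), hVB b.2⟩
    have h2 : (a : G) * (b : G) = (b : G) * (a : G) := congrArg Subtype.val h1
    exact Subtype.ext h2
  have hNV : normalizer (B : Set G) ≤ normalizer (V : Set G) := by
    apply Cfsg.Agent.Lib.Helper52_BG12c.le_normalizer_of_conj_mem
    intro n hn v hv
    rw [hVmem] at hv ⊢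
    refine ⟨(mem_normalizer_iff.mp hn v).mp hv.1, ?_⟩
    rw [conj_pow, hv.2]
    group
  have hQV : Q ≤ normalizer (V : Set G) := hQB.trans hNV
  have hPV : P ≤ normalizer (V : Set G) := hPB.trans hNV
  have hVl : IsPGroup l V := hS.to_le (hVB.trans hBS)
  have hcopV : (Nat.card Q).Coprime (Nat.card V) := by
    obtain ⟨k, hk⟩ := IsPGroup.iff_card.mp hVl
    rw [hk]
    exact Nat.Coprime.pow_right k hcopQ
  set W : Subgroup G := ⁅V, Q⁆ with hW
  have hWV : W ≤ V := Cfsg.Agent.Lib.Helper24_CoprimeAction.commutator_le_of_le_normalizer V Q hQV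
  have hWQ : W ⊓ centralizer (Q : Set G) = ⊥ := by
    have h1 := Cfsg.Agent.Lib.Helper2_Coprime.commutator_inf_centralizer_eq_bot V Q hQV hcopV
    rw [eq_bot_iff, ← h1]
    intro y hy
    exact mem_inf.mpr ⟨(mem_inf.mp hy).1, mem_inf.mpr ⟨hWV (mem_inf.mp hy).1, (mem_inf.mp hy).2⟩⟩
  have hQW : Q ≤ normalizer (W : Set G) := fun u hu =>
    Cfsg.Agent.Lib.Helper24_CoprimeAction.mem_normalizer_commutator V Q (hQV hu) (le_normalizer hu)
  have hPW : P ≤ normalizer (W : Set G) := fun u hu =>
    Cfsg.Agent.Lib.Helper24_CoprimeAction.mem_normalizer_commutator V Q (hPV hu) (hPQ hu)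
  have hWl : IsPGroup l W := hVl.to_le hWV
  have hW1 : W = ⊥ := by
    by_contra hne
    have hform := card_eq_pow_of_fpf hP hPQ hfpf hcopQ hpl hWl hQW hPW
    rw [hWQ, Subgroup.card_bot, mul_one] at hform
    have hWP : W ⊓ centralizer (P : Set G) ≠ ⊥ := by
      intro h
      rw [h, Subgroup.card_bot, one_pow] at hform
      have h2 : Nat.card W ∣ 1 := ⟨_, hform.symm.trans (mul_comm _ _)⟩
      exact hne (Subgroup.card_eq_one.mp (Nat.dvd_one.mp h2))
    have hxW : x ∈ W ⊓ centralizer (P : Set G) :=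
      mem_of_isCyclic_of_ne_bot hSP (inf_le_inf_right _ (hWV.trans (hVB.trans hBS)))
        (hWl.to_le inf_le_left) hWP (mem_inf.mpr ⟨hxS, hxP⟩) hxl
    have : x ∈ W ⊓ centralizer (Q : Set G) := mem_inf.mpr ⟨(mem_inf.mp hxW).1, hxQ⟩
    rw [hWQ, mem_bot] at this
    exact hx1 this
  have hVQ : V ≤ centralizer (Q : Set G) :=
    Subgroup.commutator_eq_bot_iff_le_centralizer.mp (hW ▸ hW1)
  intro b hb
  rw [mem_centralizer_iff]
  intro u hu
  have hucop : (orderOf u).Coprime l := by
    have h1 : orderOf u ∣ Nat.card Q := by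
      have := orderOf_dvd_natCard (⟨u, hu⟩ : ↥Q)
      rwa [Subgroup.orderOf_mk] at this
    exact Nat.Coprime.coprime_dvd_left h1 hcopQ
  exact Cfsg.Agent.Lib.Helper23_PLength.centralizes_of_fix_omega hl2 B (hS.to_le hBS) u (hQB hu)
    hucop (fun y hy hyl => (mem_centralizer_iff.mp (hVQ ((hVmem y).mpr ⟨hy, hyl⟩)) u hu)) b hb

omit [Finite G] in
theorem map_commutator_subtype (D : Subgroup G) : (commutator ↥D).map D.subtype = ⁅D, D⁆ := by
  rw [commutator_def, Subgroup.map_commutator, ← MonoidHom.range_eq_map, Subgroup.range_subtype]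

omit [Finite G] in
theorem map_center_subtype (D : Subgroup G) :
    (Subgroup.center ↥D).map D.subtype = D ⊓ centralizer (D : Set G) := by
  ext y
  constructor
  · rintro ⟨z, hz, rfl⟩
    refine mem_inf.mpr ⟨z.2, ?_⟩
    rw [mem_centralizer_iff]
    intro d hd
    have := Subgroup.mem_center_iff.mp hz ⟨d, hd⟩
    exact congrArg Subtype.val this
  · intro hy
    obtain ⟨hyD, hyC⟩ := mem_inf.mp hy
    refine ⟨⟨y, hyD⟩, ?_, rfl⟩
    show (⟨y, hyD⟩ : ↥D) ∈ Subgroup.center ↥D
    rw [Subgroup.mem_center_iff]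
    intro g
    exact Subtype.ext (mem_centralizer_iff.mp hyC g g.2)

/-- **Main lemma.** Let the Frobenius group `QP` (kernel `Q`, complement `P` of odd prime order `p`) act
coprimely on the `l`-group `S` (`l` odd) in such a way that `C_S(P)` and `C_S(Q)` are cyclic and
`C_S(QP) ≠ 1`. Then `Q` centralizes `S`. -/
theorem le_centralizer_of_cyclic_centralizers (hl2 : l ≠ 2) (hp2 : p ≠ 2) (hS : IsPGroup l S)
    (hQS : Q ≤ normalizer (S : Set G)) (hPS : P ≤ normalizer (S : Set G))
    (hPQ : P ≤ normalizer (Q : Set G)) (hP : Nat.card P = p)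
    (hcopQ : (Nat.card Q).Coprime l) (hpl : p ≠ l)
    (hfpf : Q ⊓ centralizer (P : Set G) = ⊥)
    (hSP : IsCyclic ↥(S ⊓ centralizer (P : Set G))) (hSQ : IsCyclic ↥(S ⊓ centralizer (Q : Set G)))
    {x : G} (hxS : x ∈ S) (hxQ : x ∈ centralizer (Q : Set G)) (hxP : x ∈ centralizer (P : Set G))
    (hxl : x ^ l = 1) (hx1 : x ≠ 1) : S ≤ centralizer (Q : Set G) := by
  have hlp : l.Prime := Fact.out
  have hpp : p.Prime := Fact.out
  by_contra hSQn
  obtain ⟨D, hDmem, hDmin⟩ := (wellFounded_lt (α := Subgroup G)).has_min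
    {D | D ≤ S ∧ Q ≤ normalizer (D : Set G) ∧ P ≤ normalizer (D : Set G) ∧
      ¬ D ≤ centralizer (Q : Set G)} ⟨S, le_rfl, hQS, hPS, hSQn⟩
  obtain ⟨hDS, hQD, hPD, hDQn⟩ := hDmem
  have hmin : ∀ D₀ : Subgroup G, D₀ ≤ D → D₀ ≠ D → Q ≤ normalizer (D₀ : Set G) →
      P ≤ normalizer (D₀ : Set G) → D₀ ≤ centralizer (Q : Set G) := by
    intro D₀ h1 h2 h3 h4
    by_contra h5
    exact hDmin D₀ ⟨h1.trans hDS, h3, h4, h5⟩ (lt_of_le_of_ne h1 h2)
  have hDl : IsPGroup l D := hS.to_le hDS
  have hcopD : (Nat.card Q).Coprime (Nat.card D) := by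
    obtain ⟨k, hk⟩ := IsPGroup.iff_card.mp hDl
    rw [hk]
    exact Nat.Coprime.pow_right k hcopQ
  have hDnil : Group.IsNilpotent ↥D := hDl.isNilpotent
  have hDsolv : Group.IsSolvable ↥D := inferInstance
  -- (5a)
  have hDQD : ⁅D, Q⁆ = D := by
    by_contra hne
    have hle : ⁅D, Q⁆ ≤ D :=
      Cfsg.Agent.Lib.Helper24_CoprimeAction.commutator_le_of_le_normalizer D Q hQD
    have h1 := hmin ⁅D, Q⁆ hle hne
      (fun u hu => Cfsg.Agent.Lib.Helper24_CoprimeAction.mem_normalizer_commutator D Q (hQD hu)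
        (le_normalizer hu))
      (fun u hu => Cfsg.Agent.Lib.Helper24_CoprimeAction.mem_normalizer_commutator D Q (hPD hu)
        (hPQ hu))
    apply hDQn
    intro k hk
    obtain ⟨d, hd, c, hc, rfl⟩ := Cfsg.Agent.Lib.Helper24_CoprimeAction.coprime_decomp Q D hQD hcopD
      (Or.inr hDsolv) hk
    exact mul_mem (h1 hd) (mem_inf.mp hc).2
  -- (5b)
  have hDna : ¬ (∀ a ∈ D, ∀ b ∈ D, a * b = b * a) := by
    intro hc
    apply hDQn
    exact abelian_le_centralizer hl2 hS hPQ hP hcopQ hpl hfpf hSP hxS hxQ hxP hxl hx1 hDS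
      ⟨⟨fun a b => Subtype.ext (hc a a.2 b b.2)⟩⟩ hQD hPD
  have hD1 : D ≠ ⊥ := by
    rintro rfl
    exact hDQn bot_le
  -- (5c)
  have hD'le : ⁅D, D⁆ ≤ D :=
    Cfsg.Agent.Lib.Helper24_CoprimeAction.commutator_le_of_le_normalizer D D le_normalizer
  have hD'ne : ⁅D, D⁆ ≠ D := by
    intro h
    have hnt : Nontrivial ↥D := (Subgroup.nontrivial_iff_ne_bot D).mpr hD1
    have h1 := Group.IsSolvable.commutator_lt_top_of_nontrivial ↥D
    have h2 : (commutator ↥D).map D.subtype = (⊤ : Subgroup ↥D).map D.subtype := by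
      rw [map_commutator_subtype, h, ← MonoidHom.range_eq_map, Subgroup.range_subtype]
    exact h1.ne (Subgroup.map_injective D.subtype_injective h2)
  have hND' : normalizer (D : Set G) ≤ normalizer ((⁅D, D⁆ : Subgroup G) : Set G) := fun u hu =>
    Cfsg.Agent.Lib.Helper24_CoprimeAction.mem_normalizer_commutator D D hu hu
  have hD'Q : ⁅D, D⁆ ≤ centralizer (Q : Set G) :=
    hmin _ hD'le hD'ne (hQD.trans hND') (hPD.trans hND')
  have hD'Qbot : ⁅⁅D, D⁆, Q⁆ = ⊥ := Subgroup.commutator_eq_bot_iff_le_centralizer.mpr hD'Q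
  have hD'cent : ⁅D, D⁆ ≤ centralizer (D : Set G) := by
    have h1 : ⁅⁅Q, ⁅D, D⁆⁆, D⁆ = ⊥ := by
      rw [Subgroup.commutator_comm Q, hD'Qbot, Subgroup.commutator_bot_left]
    have h2 : ⁅⁅⁅D, D⁆, D⁆, Q⁆ = ⊥ := by
      rw [eq_bot_iff, ← hD'Qbot]
      exact Subgroup.commutator_mono
        (Cfsg.Agent.Lib.Helper24_CoprimeAction.commutator_le_of_le_normalizer _ D
          (le_normalizer.trans hND')) le_rfl
    have h3 := Subgroup.commutator_commutator_eq_bot_of_rotate h1 h2
    rw [hDQD, Subgroup.commutator_comm] at h3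
    exact Subgroup.commutator_eq_bot_iff_le_centralizer.mp h3
  -- (5d)
  have hCcent : D ⊓ centralizer (Q : Set G) ≤ centralizer (D : Set G) := by
    have hCQ : ⁅D ⊓ centralizer (Q : Set G), Q⁆ = ⊥ :=
      Subgroup.commutator_eq_bot_iff_le_centralizer.mpr inf_le_right
    have h1 : ⁅⁅Q, D ⊓ centralizer (Q : Set G)⁆, D⁆ = ⊥ := by
      rw [Subgroup.commutator_comm Q, hCQ, Subgroup.commutator_bot_left]
    have h2 : ⁅⁅D ⊓ centralizer (Q : Set G), D⁆, Q⁆ = ⊥ := by
      rw [eq_bot_iff, ← hD'Qbot]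
      exact Subgroup.commutator_mono (Subgroup.commutator_mono inf_le_left le_rfl) le_rfl
    have h3 := Subgroup.commutator_commutator_eq_bot_of_rotate h1 h2
    rw [hDQD, Subgroup.commutator_comm] at h3
    exact Subgroup.commutator_eq_bot_iff_le_centralizer.mp h3
  -- (5e)
  set Z : Subgroup G := D ⊓ centralizer (D : Set G) with hZ
  have hZD : Z ≤ D := inf_le_left
  have hZne : Z ≠ D := by
    intro h
    apply hDna
    intro a ha b hb
    have : a ∈ Z := h ▸ ha
    exact (mem_centralizer_iff.mp (mem_inf.mp this).2 b hb).symm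
  have hNZ : normalizer (D : Set G) ≤ normalizer (Z : Set G) := fun u hu =>
    Subgroup.inf_normalizer_le_normalizer_inf (mem_inf.mpr ⟨hu,
      Cfsg.Agent.Lib.Helper24_CoprimeHall.normalizer_le_normalizer_centralizer D hu⟩)
  have hZQ : Z ≤ centralizer (Q : Set G) := hmin Z hZD hZne (hQD.trans hNZ) (hPD.trans hNZ)
  have hZC : D ⊓ centralizer (Q : Set G) = Z :=
    le_antisymm (le_inf inf_le_left hCcent) (le_inf hZD hZQ)
  -- commutators are central in `D`
  have hcomm_central : ∀ u ∈ D, ∀ v ∈ D, ∀ d ∈ D,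
      (v * u * v⁻¹ * u⁻¹) * d = d * (v * u * v⁻¹ * u⁻¹) := by
    intro u hu v hv d hd
    have h1 : v * u * v⁻¹ * u⁻¹ ∈ ⁅D, D⁆ := by
      have := Subgroup.commutator_mem_commutator hv hu
      rwa [commutatorElement_def] at this
    exact (mem_centralizer_iff.mp (hD'cent h1) d hd).symm
  have hZcent : ∀ z ∈ Z, ∀ d ∈ D, z * d = d * z := fun z hz d hd =>
    (mem_centralizer_iff.mp (mem_inf.mp hz).2 d hd).symm
  -- (5f)
  have hpowZ : ∀ d ∈ D, d ^ l ∈ Z := by
    let D₁ : Subgroup G :=
      { carrier := {d | d ∈ D ∧ d ^ l ∈ Z}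
        one_mem' := ⟨one_mem _, by rw [one_pow]; exact one_mem _⟩
        mul_mem' := by
          rintro u v ⟨hu, hu'⟩ ⟨hv, hv'⟩
          refine ⟨mul_mem hu hv, ?_⟩
          rw [Cfsg.Agent.Lib.Helper24_Coprime.mul_pow_prime_of_central l hlp hl2 u v
            (hcomm_central u hu v hv u hu) (hcomm_central u hu v hv v hv) (hZcent _ hv' u hu)]
          exact mul_mem hu' hv'
        inv_mem' := by
          rintro u ⟨hu, hu'⟩
          exact ⟨inv_mem hu, by rw [inv_pow]; exact inv_mem hu'⟩ }
    have hD₁mem : ∀ d, d ∈ D₁ ↔ d ∈ D ∧ d ^ l ∈ Z := fun d => Iff.rfl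
    have hD₁D : D₁ ≤ D := fun d hd => hd.1
    have hND₁ : normalizer (D : Set G) ≤ normalizer (D₁ : Set G) := by
      apply Cfsg.Agent.Lib.Helper52_BG12c.le_normalizer_of_conj_mem
      intro n hn d hd
      rw [hD₁mem] at hd ⊢
      refine ⟨(mem_normalizer_iff.mp hn d).mp hd.1, ?_⟩
      rw [conj_pow]
      exact (mem_normalizer_iff.mp (hNZ hn) _).mp hd.2
    by_cases hD₁ : D₁ = D
    · intro d hd
      have : d ∈ D₁ := hD₁ ▸ hd
      exact this.2
    · exfalso
      have h1 : D₁ ≤ centralizer (Q : Set G) := hmin D₁ hD₁D hD₁ (hQD.trans hND₁) (hPD.trans hND₁)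
      have h2 : D₁ ≤ Z := fun d hd => hZC ▸ mem_inf.mpr ⟨hD₁D hd, h1 hd⟩
      -- an element of `D` outside `Z`
      obtain ⟨d, hdD, hdZ⟩ : ∃ d ∈ D, d ∉ Z := by
        by_contra hall
        push Not at hall
        exact hZne (le_antisymm hZD hall)
      have hex : ∃ k : ℕ, d ^ (l ^ k) ∈ Z := by
        obtain ⟨k, hk⟩ := hDl ⟨d, hdD⟩
        refine ⟨k, ?_⟩
        have : d ^ (l ^ k) = 1 := by
          have := congrArg Subtype.val hk
          simpa using this
        rw [this]
        exact one_mem _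
      classical
      have hk0 : Nat.find hex ≠ 0 := by
        intro h0
        have := Nat.find_spec hex
        rw [h0, pow_zero, pow_one] at this
        exact hdZ this
      obtain ⟨j, hj⟩ := Nat.exists_eq_succ_of_ne_zero hk0
      have hj1 : d ^ (l ^ j) ∉ Z := Nat.find_min hex (by omega)
      have hj2 : (d ^ (l ^ j)) ^ l ∈ Z := by
        have := Nat.find_spec hex
        rw [hj, pow_succ, pow_mul] at this
        exact this
      exact hj1 (h2 ((hD₁mem _).mpr ⟨D.pow_mem hdD _, hj2⟩))
  -- (5g)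
  have hcomm_exp : ∀ u ∈ D, ∀ v ∈ D, (v * u * v⁻¹ * u⁻¹) ^ l = 1 := by
    intro u hu v hv
    have h1 := Cfsg.Agent.Lib.Helper24_Coprime.pow_mul_comm_of_central u v
      (hcomm_central u hu v hv v hv) l
    rw [hZcent _ (hpowZ v hv) u hu] at h1
    have h2 : 1 * (u * v ^ l) = (v * u * v⁻¹ * u⁻¹) ^ l * (u * v ^ l) := by
      rw [one_mul, ← mul_assoc]
      exact h1
    exact (mul_right_cancel h2).symm
  have hD'exp : ∀ c ∈ ⁅D, D⁆, c ^ l = 1 := by
    intro c hc
    have hc' := hc
    rw [Subgroup.commutator_def] at hc'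
    induction hc' using Subgroup.closure_induction with
    | mem y hy =>
      obtain ⟨g₁, h₁, g₂, h₂, rfl⟩ := hy
      rw [commutatorElement_def]
      exact hcomm_exp g₂ h₂ g₁ h₁
    | one => exact one_pow _
    | mul a b ha hb iha ihb =>
      have ha' : a ∈ ⁅D, D⁆ := by rw [Subgroup.commutator_def]; exact ha
      have hb' : b ∈ ⁅D, D⁆ := by rw [Subgroup.commutator_def]; exact hb
      have hab : Commute a b := (mem_centralizer_iff.mp (hD'cent ha') b (hD'le hb')).symm
      rw [hab.mul_pow, iha ha', ihb hb', one_mul]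
    | inv a ha iha =>
      have ha' : a ∈ ⁅D, D⁆ := by rw [Subgroup.commutator_def]; exact ha
      rw [inv_pow, iha ha', inv_one]
  have hD'Z : ⁅D, D⁆ ≤ Z := le_inf hD'le hD'cent
  have hZSQ : Z ≤ S ⊓ centralizer (Q : Set G) := le_inf (hZD.trans hDS) hZQ
  have hD'card : Nat.card ↥⁅D, D⁆ ∣ l := by
    have hcyc : IsCyclic ↥⁅D, D⁆ :=
      isCyclic_of_injective (Subgroup.inclusion (hD'Z.trans hZSQ))
        (Subgroup.inclusion_injective _)
    obtain ⟨g, hg⟩ := IsCyclic.exists_generator (α := ↥⁅D, D⁆)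
    rw [← orderOf_eq_card_of_forall_mem_zpowers hg]
    apply orderOf_dvd_of_pow_eq_one
    exact Subtype.ext (by simpa using hD'exp g g.2)
  -- (5h)
  have hform := card_eq_pow_of_fpf hP hPQ hfpf hcopQ hpl hDl hQD hPD
  have hcentQP : D ⊓ centralizer ((Q ⊔ P : Subgroup G) : Set G) = Z ⊓ centralizer (P : Set G) := by
    apply le_antisymm
    · intro y hy
      obtain ⟨hyD, hyC⟩ := mem_inf.mp hy
      have hyQ : y ∈ centralizer (Q : Set G) :=
        Subgroup.centralizer_le (by exact_mod_cast (le_sup_left : Q ≤ Q ⊔ P)) hyC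
      have hyP : y ∈ centralizer (P : Set G) :=
        Subgroup.centralizer_le (by exact_mod_cast (le_sup_right : P ≤ Q ⊔ P)) hyC
      exact mem_inf.mpr ⟨hZC ▸ mem_inf.mpr ⟨hyD, hyQ⟩, hyP⟩
    · intro y hy
      obtain ⟨hyZ, hyP⟩ := mem_inf.mp hy
      refine mem_inf.mpr ⟨hZD hyZ, ?_⟩
      have h1 : Q ⊔ P ≤ centralizer ({y} : Set G) := by
        apply sup_le
        · intro u hu
          rw [mem_centralizer_singleton_iff]
          exact mem_centralizer_iff.mp (hZQ hyZ) u hu
        · intro u hu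
          rw [mem_centralizer_singleton_iff]
          exact mem_centralizer_iff.mp hyP u hu
      rw [mem_centralizer_iff]
      intro u hu
      exact mem_centralizer_singleton_iff.mp (h1 hu)
  rw [hcentQP, hZC] at hform
  have hbpos : 0 < Nat.card ↥(Z ⊓ centralizer (P : Set G)) := Nat.card_pos
  have hba : Nat.card ↥(Z ⊓ centralizer (P : Set G)) ∣ Nat.card ↥(D ⊓ centralizer (P : Set G)) :=
    Subgroup.card_dvd_of_le (inf_le_inf_right _ hZD)
  have hab : Nat.card ↥(D ⊓ centralizer (P : Set G)) ≤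
      l * Nat.card ↥(Z ⊓ centralizer (P : Set G)) := by
    have hcyc : IsCyclic ↥(D ⊓ centralizer (P : Set G)) :=
      isCyclic_of_injective (Subgroup.inclusion (inf_le_inf_right _ hDS))
        (Subgroup.inclusion_injective _)
    obtain ⟨g, hg⟩ := IsCyclic.exists_generator (α := ↥(D ⊓ centralizer (P : Set G)))
    have hog : orderOf g = Nat.card ↥(D ⊓ centralizer (P : Set G)) :=
      orderOf_eq_card_of_forall_mem_zpowers hg
    have hgl : (g : G) ^ l ∈ Z ⊓ centralizer (P : Set G) :=
      mem_inf.mpr ⟨hpowZ _ (mem_inf.mp g.2).1, pow_mem (mem_inf.mp g.2).2 l⟩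
    have h1 : orderOf ((g : G) ^ l) ≤ Nat.card ↥(Z ⊓ centralizer (P : Set G)) := by
      rw [← Nat.card_zpowers]
      exact Subgroup.card_le_of_le (zpowers_le.mpr hgl)
    have h2 : orderOf ((g : G) ^ l) = Nat.card ↥(D ⊓ centralizer (P : Set G)) /
        Nat.gcd (Nat.card ↥(D ⊓ centralizer (P : Set G))) l := by
      rw [orderOf_pow' _ hlp.ne_zero, Subgroup.orderOf_coe, hog]
    rw [h2] at h1
    have h3 : Nat.gcd (Nat.card ↥(D ⊓ centralizer (P : Set G))) l ∣
        Nat.card ↥(D ⊓ centralizer (P : Set G)) := Nat.gcd_dvd_left _ _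
    have h4 : Nat.gcd (Nat.card ↥(D ⊓ centralizer (P : Set G))) l ≤ l :=
      Nat.le_of_dvd hlp.pos (Nat.gcd_dvd_right _ _)
    calc Nat.card ↥(D ⊓ centralizer (P : Set G))
        = (Nat.card ↥(D ⊓ centralizer (P : Set G)) /
            Nat.gcd (Nat.card ↥(D ⊓ centralizer (P : Set G))) l) *
            Nat.gcd (Nat.card ↥(D ⊓ centralizer (P : Set G))) l := (Nat.div_mul_cancel h3).symm
      _ ≤ Nat.card ↥(Z ⊓ centralizer (P : Set G)) * l := Nat.mul_le_mul h1 h4
      _ = l * Nat.card ↥(Z ⊓ centralizer (P : Set G)) := mul_comm _ _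
  obtain ⟨i, hi⟩ := IsPGroup.iff_card.mp
    (hDl.to_le (inf_le_left : D ⊓ centralizer (P : Set G) ≤ D))
  obtain ⟨j, hj⟩ := IsPGroup.iff_card.mp
    (hDl.to_le ((inf_le_left : Z ⊓ centralizer (P : Set G) ≤ Z).trans hZD))
  rw [hi, hj] at hba hab hform
  have hji : j ≤ i := (Nat.pow_dvd_pow_iff_le_right hlp.one_lt).mp hba
  have hij : i ≤ j + 1 := by
    rw [← pow_succ'] at hab
    exact (Nat.pow_le_pow_iff_right hlp.one_lt).mp hab
  have hlpos : 0 < l := hlp.pos
  have hcardD : Nat.card D = l ^ p * Nat.card Z := by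
    rcases Nat.lt_or_ge i (j + 1) with h | h
    · -- `i = j`: then `D = Z`
      exfalso
      have hij' : i = j := by omega
      rw [hij'] at hform
      have h1 : Nat.card D = Nat.card Z :=
        Nat.eq_of_mul_eq_mul_left (pow_pos (pow_pos hlpos j) p) hform
      exact hZne (Subgroup.eq_of_le_of_card_ge hZD h1.le)
    · have hij' : i = j + 1 := by omega
      rw [hij', pow_succ, mul_pow] at hform
      have h1 : (l ^ j) ^ p * Nat.card D = (l ^ j) ^ p * (l ^ p * Nat.card Z) := by
        rw [hform]; ring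
      exact Nat.eq_of_mul_eq_mul_left (pow_pos (pow_pos hlpos j) p) h1
  -- (5i)
  have hcardZ : Nat.card (Subgroup.center ↥D) = Nat.card Z := by
    rw [hZ, ← map_center_subtype, Subgroup.card_map_of_injective D.subtype_injective]
  have hidx : (Subgroup.center ↥D).index = l ^ p := by
    have h1 := Subgroup.card_mul_index (Subgroup.center ↥D)
    rw [hcardZ, hcardD] at h1
    have h2 : Nat.card Z * (Subgroup.center ↥D).index = Nat.card Z * l ^ p := by
      rw [h1]; ring
    exact Nat.eq_of_mul_eq_mul_left Nat.card_pos h2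
  have hcl : commutator ↥D ≤ Subgroup.center ↥D := by
    intro c hc
    have h1 : (c : G) ∈ ⁅D, D⁆ := by
      rw [← map_commutator_subtype]
      exact ⟨c, hc, rfl⟩
    rw [Subgroup.mem_center_iff]
    intro g
    exact Subtype.ext (mem_centralizer_iff.mp (hD'cent h1) g g.2)
  have hcard' : Nat.card (commutator ↥D) ∣ l := by
    rw [← Subgroup.card_map_of_injective D.subtype_injective, map_commutator_subtype]
    exact hD'card
  obtain ⟨m, hm⟩ := index_center_eq_pow_two_mul hDl hcl hcard'
  rw [hidx] at hm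
  have hpm : p = 2 * m := Nat.pow_right_injective hlp.two_le hm
  have h2p : 2 ∣ p := ⟨m, hpm⟩
  exact hp2 ((Nat.prime_dvd_prime_iff_eq Nat.prime_two hpp).mp h2p).symm

end Main

end Cfsg.Agent.Lib.Helper52_FrobRank
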