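import Mathlib
import Cfsg.Prelude.Def_FusionSystem
import Cfsg.Agent.Lib.Helper26_FusLocalDefs

set_option autoImplicit false

namespace Cfsg.Agent.Lib.Helper52_Fus_FT

open Cfsg Cfsg.Agent.Lib.Helper26_FusLocal

theorem fusLocal_map {G H : Type*} [Group G] [Group H] (e : G ≃* H) (S Q : Subgroup G)
    (h : FusLocal S Q) : FusLocal (S.map e.toMonoidHom) (Q.map e.toMonoidHom) := by
  obtain ⟨h1, h2, h3, h4, h5, h6⟩ := h
  have hmem : ∀ (K : Subgroup G) (y : H), y ∈ K.map e.toMonoidHom ↔ e.symm y ∈ K :=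
    fun K y => Subgroup.mem_map_equiv
  have hmem' : ∀ (K : Subgroup G) (x : G), e x ∈ K.map e.toMonoidHom ↔ x ∈ K := by
    intro K x
    rw [hmem, MulEquiv.symm_apply_apply]
  have hconj : ∀ a b : H, e.symm (a * b * a⁻¹) = e.symm a * e.symm b * (e.symm a)⁻¹ := by
    intro a b
    rw [map_mul, map_mul, map_inv]
  have hconj' : ∀ a b : G, e (a * b * a⁻¹) = e a * e b * (e a)⁻¹ := by
    intro a b
    rw [map_mul, map_mul, map_inv]
  refine ⟨?_, ?_, ?_, ?_, ?_, ?_⟩
  · intro hb
    apply h1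
    exact (Subgroup.map_eq_bot_iff_of_injective S e.injective).mp hb
  · intro T hT hT0 hcl
    have key : T.comap e.toMonoidHom = S := by
      apply h2
      · intro x hx
        rw [Subgroup.mem_comap] at hx
        exact (hmem' S x).mp (hT hx)
      · intro hb
        apply hT0
        rw [eq_bot_iff]
        intro y hy
        have h7 : e.symm y ∈ T.comap e.toMonoidHom := by
          rw [Subgroup.mem_comap]
          simpa using hy
        rw [hb, Subgroup.mem_bot] at h7
        rw [Subgroup.mem_bot]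
        have h8 := congrArg e h7
        simpa using h8
      · intro t ht g hg
        rw [Subgroup.mem_comap] at ht ⊢
        have h7 := hcl (e t) ht (e g) (by rw [← hconj']; exact (hmem' S _).mpr hg)
        rw [← hconj'] at h7
        exact h7
    rw [← key]
    ext y
    rw [hmem, Subgroup.mem_comap]
    simp
  · exact Subgroup.map_mono h3
  · intro n hn q hq
    rw [hmem] at hq ⊢
    rw [hconj]
    apply h4 (e.symm n) _ _ hq
    intro s hs
    have h7 := hn (e s) ((hmem' S s).mpr hs)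
    rw [hmem, hconj, MulEquiv.symm_apply_apply] at h7
    exact h7
  · intro c hc
    rw [hmem]
    apply h5
    intro q hq
    have h7 := hc (e q) ((hmem' Q q).mpr hq)
    have h8 := congrArg e.symm h7
    rw [map_mul, map_mul, MulEquiv.symm_apply_apply] at h8
    exact h8
  · intro n hn
    have hn' : ∀ s ∈ S, e.symm n * s * (e.symm n)⁻¹ ∈ S := by
      intro s hs
      have h7 := hn (e s) ((hmem' S s).mpr hs)
      rw [hmem, hconj, MulEquiv.symm_apply_apply] at h7
      exact h7
    have h7 := h6 (e.symm n) hn'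
    have hle : Subgroup.closure {x : G | ∃ m : G, (∀ q ∈ Q, m * q * m⁻¹ ∈ Q) ∧
        ∃ s ∈ S, x = m * s * m⁻¹} ≤
        (Subgroup.closure {x : H | ∃ m : H, (∀ q ∈ Q.map e.toMonoidHom,
          m * q * m⁻¹ ∈ Q.map e.toMonoidHom) ∧
          ∃ s ∈ S.map e.toMonoidHom, x = m * s * m⁻¹}).comap e.toMonoidHom := by
      rw [Subgroup.closure_le]
      rintro x ⟨m, hm, s, hs, rfl⟩
      rw [SetLike.mem_coe, Subgroup.mem_comap]
      apply Subgroup.subset_closure
      refine ⟨e m, ?_, e s, (hmem' S s).mpr hs, ?_⟩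
      · intro q hq
        rw [hmem] at hq ⊢
        rw [hconj, MulEquiv.symm_apply_apply]
        exact hm _ hq
      · exact hconj' m s
    have h8 := hle h7
    rw [Subgroup.mem_comap] at h8
    simpa using h8

theorem exists_fusLocal_of_iso {G G₀ : Type*} [Group G] [Group G₀] [Finite G] [Finite G₀]
    (e : G ≃* G₀) (p : ℕ) [Fact p.Prime] (S₀ : Sylow p G₀) (Q₀ : Subgroup G₀)
    (h : FusLocal (S₀ : Subgroup G₀) Q₀) (S : Sylow p G) :
    ∃ Q : Subgroup G, FusLocal (S : Subgroup G) Q := by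
  have h1 := fusLocal_map e.symm (S₀ : Subgroup G₀) Q₀ h
  obtain ⟨S₁, hS₁⟩ : ∃ S₁ : Sylow p G,
      (S₁ : Subgroup G) = (S₀ : Subgroup G₀).map e.symm.toMonoidHom :=
    ⟨Sylow.mapSurjective (f := e.symm.toMonoidHom) e.symm.surjective S₀, rfl⟩
  obtain ⟨g, hg⟩ := MulAction.exists_smul_eq G S₁ S
  have h2 := fusLocal_map (MulAut.conj g) _ _ h1
  refine ⟨(Q₀.map e.symm.toMonoidHom).map (MulAut.conj g).toMonoidHom, ?_⟩
  have h3 : (S : Subgroup G) =
      ((S₀ : Subgroup G₀).map e.symm.toMonoidHom).map (MulAut.conj g).toMonoidHom := by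
    rw [← hg, Sylow.coe_subgroup_smul, hS₁]
    ext x
    rw [Subgroup.mem_smul_pointwise_iff_exists, Subgroup.mem_map]
    rfl
  rw [h3]
  exact h2

end Cfsg.Agent.Lib.Helper52_Fus_FT
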