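import Mathlib
import Cfsg.Agent.Lib.Helper32_OFDefs
import Cfsg.Agent.Lib.Helper32_OFRoot
import Cfsg.Agent.Lib.Helper31_OF_API
import Cfsg.Agent.Lib.Helper94_OrthVec
import Cfsg.Agent.Lib.Helper94_OrthNondeg
import Cfsg.Agent.Lib.Helper80_GrowDefs

set_option autoImplicit false
set_option linter.unusedSimpArgs false
set_option linter.unusedVariables false
set_option linter.unusedSectionVars false

/-!
GROW market (helper80 architect), package **GROW-LONG**: the commutator of the Siegel elements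
`sieg u y` and `sieg u' y` (`u ⟂ u'` singular, `y ⟂ u, u'`) is the long root element
`sieg u (B y y • u')`.  (helper88)
-/

namespace Cfsg.Agent.Lib.Helper88_GROW_LONG

open Module Cfsg.Agent.Lib.Helper94_Symp Cfsg.Agent.Lib.Helper94_OrthSmall
  Cfsg.Agent.Lib.Helper94_OrthSiegel Cfsg.Agent.Lib.Helper94_OrthSiegel2
  Cfsg.Agent.Lib.Helper94_OrthNondeg Cfsg.Agent.Lib.Helper94_OrthVec
  Cfsg.Agent.Lib.Helper32_OFDefs Cfsg.Agent.Lib.Helper32_OFRoot
  Cfsg.Agent.Lib.Helper80_GrowDefs

variable {F V : Type*} [Field F] [AddCommGroup V] [Module F V]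
variable {Q : V → F} {B : LinearMap.BilinForm F V}
variable {ι : Type*} [Fintype ι] [DecidableEq ι] {c : F} {e : ι → V}
variable {L : Subgroup (V ≃ₗ[F] V)}

/-- `a b = c (b a)` for `a = sieg u y`, `b = sieg u' y`, `c = sieg u (B y y • u')`. -/
lemma long_comm_aux (hQs : ∀ (a : F) (v : V), Q (a • v) = a * a * Q v)
    (hQp : ∀ u v : V, Q (u + v) = Q u + Q v + B u v) {u u' y : V} (hu : Q u = 0)
    (hu' : Q u' = 0) (huu' : B u u' = 0) (huy : B u y = 0) (hu'y : B u' y = 0) :
    sieg Q B u y * sieg Q B u' y =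
      sieg Q B u (B y y • u') * (sieg Q B u' y * sieg Q B u y) := by
  have hsymm := B_symm Q B hQp
  have hUU : B u u = 0 := by rw [B_self Q B hQs hQp, hu, mul_zero]
  have hU'U' : B u' u' = 0 := by rw [B_self Q B hQs hQp, hu', mul_zero]
  have hu'u : B u' u = 0 := by rw [hsymm, huu']
  have hyu : B y u = 0 := by rw [hsymm, huy]
  have hyu' : B y u' = 0 := by rw [hsymm, hu'y]
  have hc : B u (B y y • u') = 0 := by rw [map_smul, huu', smul_zero]
  have hQc : Q (B y y • u') = 0 := by rw [hQs, hu', mul_zero]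
  ext x
  rw [LinearEquiv.mul_apply, LinearEquiv.mul_apply, LinearEquiv.mul_apply,
    sieg_apply Q B hQs hQp hu hc, sieg_apply Q B hQs hQp hu' hu'y (sieg Q B u y x),
    sieg_apply Q B hQs hQp hu huy x, sieg_apply Q B hQs hQp hu huy (sieg Q B u' y x),
    sieg_apply Q B hQs hQp hu' hu'y x, hQc]
  simp only [map_add, map_sub, map_smul, LinearMap.add_apply, LinearMap.sub_apply,
    LinearMap.smul_apply, smul_eq_mul, hUU, hU'U', huu', hu'u, huy, hyu, hu'y, hyu', mul_zero,
    zero_mul, sub_zero, add_zero]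
  module

/-- **GROW-LONG** -/
theorem long_comm (hQs : ∀ (a : F) (v : V), Q (a • v) = a * a * Q v)
    (hQp : ∀ u v : V, Q (u + v) = Q u + Q v + B u v) {u u' y : V} (hu : Q u = 0)
    (hu' : Q u' = 0) (huu' : B u u' = 0) (huy : B u y = 0) (hu'y : B u' y = 0) :
    sieg Q B u y * sieg Q B u' y * (sieg Q B u y)⁻¹ * (sieg Q B u' y)⁻¹ =
      sieg Q B u (B y y • u') := by
  rw [long_comm_aux hQs hQp hu hu' huu' huy hu'y]
  group

end Cfsg.Agent.Lib.Helper88_GROW_LONG
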