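import Mathlib
import Cfsg.Agent.Lib.Helper32_OFDefs
import Cfsg.Agent.Lib.Helper32_OFRoot
import Cfsg.Agent.Lib.Helper31_OF_API
import Cfsg.Agent.Lib.Helper94_OrthVec
import Cfsg.Agent.Lib.Helper94_OrthNondeg
import Cfsg.Agent.Lib.Helper80_GrowDefs
import Cfsg.Agent.Lib.Helper88_GROW_LONG

/-!
# GROW-OC3 (helper80's market `grow_packages`): the field with three elements, an outside coordinate
gives everything
-/

set_option autoImplicit false
set_option linter.unusedSimpArgs false
set_option linter.unusedVariables false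
set_option linter.unusedSectionVars false
set_option linter.style.haveILetI false

namespace Cfsg.Agent.Lib.Helper52_GROW_OC3aux

open Module Cfsg.Agent.Lib.Helper94_Symp Cfsg.Agent.Lib.Helper94_OrthSmall
  Cfsg.Agent.Lib.Helper94_OrthSiegel Cfsg.Agent.Lib.Helper94_OrthSiegel2
  Cfsg.Agent.Lib.Helper94_OrthNondeg Cfsg.Agent.Lib.Helper94_OrthVec
  Cfsg.Agent.Lib.Helper32_OFDefs Cfsg.Agent.Lib.Helper32_OFRoot
  Cfsg.Agent.Lib.Helper80_GrowDefs

variable {F V : Type*} [Field F] [AddCommGroup V] [Module F V]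
variable {Q : V → F} {B : LinearMap.BilinForm F V}
variable {ι : Type*} [Fintype ι] [DecidableEq ι] {c : F} {e : ι → V}
variable {L : Subgroup (V ≃ₗ[F] V)}

/-- all sign changes lie in `L` -/
theorem zJ_mem_L (hC : GCtx Q B c e L) (D : Finset ι) : zJ B c e D ∈ L := by
  induction D using Finset.induction_on with
  | empty => rw [hC.fr.zJ_empty]; exact L.one_mem
  | insert i D hi ih =>
    have : zJ B c e (insert i D) = zJ B c e {i} * zJ B c e D := by
      rw [Cfsg.Agent.Lib.Helper31_OF_API.zJ_mul hC.fr]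
      congr 1
      ext j
      rw [Finset.mem_symmDiff, Finset.mem_insert, Finset.mem_singleton]
      constructor
      · rintro (rfl | hj)
        · exact Or.inl ⟨rfl, hi⟩
        · exact Or.inr ⟨hj, fun hji => hi (hji ▸ hj)⟩
      · rintro (⟨hj, -⟩ | ⟨hj, -⟩)
        · exact Or.inl hj
        · exact Or.inr hj
    rw [this]
    exact L.mul_mem (hC.hz i) ih

/-- the field with three elements -/
theorem f3_facts (h3 : Nat.card F = 3) : (3 : F) = 0 ∧ ∀ x : F, x ≠ 0 → x * x = 1 := by
  haveI : Finite F := Nat.finite_of_card_ne_zero (by omega)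
  haveI := Fintype.ofFinite F
  have hc : Fintype.card F = 3 := by rw [← Nat.card_eq_fintype_card]; exact h3
  constructor
  · have := FiniteField.cast_card_eq_zero F
    rw [hc] at this
    exact_mod_cast this
  · intro x hx
    have := FiniteField.pow_card_sub_one_eq_one x hx
    rw [hc] at this
    rw [← pow_two]
    exact this

/-- `InZ_map` without finiteness assumptions -/
theorem InZ_map' (hQs : ∀ (a : F) (v : V), Q (a • v) = a * a * Q v)
    (hQp : ∀ u v : V, Q (u + v) = Q u + Q v + B u v) {M : Subgroup (V ≃ₗ[F] V)}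
    {g : V ≃ₗ[F] V} (hgM : g ∈ M) (hgO : g ∈ oG Q)
    {w z : V} (hw : Q w = 0) (h : InZ Q B M w z) : InZ Q B M (g w) (g z) := by
  refine ⟨by rw [oG_B Q B hQp hgO, h.1], fun t => ?_⟩
  have h1 := conj_sieg Q B hQs hQp hgO hw (z := t • z) (by rw [map_smul, h.1, smul_zero])
  rw [map_smul] at h1
  rw [← h1]
  exact M.mul_mem (M.mul_mem hgM (h.2 t)) (M.inv_mem hgM)

/-- a combination of two orthogonal singular vectors is singular -/
theorem Q_comb (hQs : ∀ (a : F) (v : V), Q (a • v) = a * a * Q v)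
    (hQp : ∀ u v : V, Q (u + v) = Q u + Q v + B u v) {w z : V} (hw : Q w = 0) (hz : Q z = 0)
    (hwz : B w z = 0) (α β : F) : Q (α • w - β • z) = 0 := by
  have e1 : α • w - β • z = α • w + (-β) • z := by rw [neg_smul, sub_eq_add_neg]
  rw [e1, Q_add_smul Q B hQs hQp, hQs, hw, hz, map_smul, LinearMap.smul_apply, hwz]
  simp

/-- GROW-OC3 with the statements of GROW-END and GROW-LR as hypotheses -/
theorem oc3_of (hC : GCtx Q B c e L) (hn : 7 ≤ Fintype.card ι) (h3 : Nat.card F = 3)
    (hEND : ∀ {w : V}, Q w = 0 → w ≠ 0 → ∀ {k : ι}, B w (e k) = 0 → InZ Q B L w (e k) →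
      ∀ {k' k'' : ι}, k ≠ k' → k ≠ k'' → k' ≠ k'' → B w (e k') = 0 → B w (e k'') = 0 →
      ∀ u z, Q u = 0 → B u z = 0 → sieg Q B u z ∈ L)
    (hLR : ∀ {u z : V}, Q u = 0 → Q z = 0 → B u z = 0 → sieg Q B u z ∈ L → ∀ k : ι,
      InZ Q B L (B z (e k) • u - B u (e k) • z) (e k))
    {w : V} (hw : Q w = 0) (hw0 : w ≠ 0) {k : ι} (hwk : B w (e k) = 0)
    (h : InZ Q B L w (e k)) :
    ∀ u z, Q u = 0 → B u z = 0 → sieg Q B u z ∈ L := by
  classical
  obtain ⟨h30, hsq⟩ := f3_facts h3
  have hfr := hC.fr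
  have hQs := hfr.hQs
  have hQp := hfr.hQp
  by_cases hcase : ∃ k' k'', k ≠ k' ∧ k ≠ k'' ∧ k' ≠ k'' ∧ B w (e k') = 0 ∧ B w (e k'') = 0
  · obtain ⟨k', k'', h1, h2, h3', h4, h5⟩ := hcase
    exact hEND hw hw0 hwk h h1 h2 h3' h4 h5
  · set Zs : Finset ι := (Finset.univ.filter (fun i => B w (e i) = 0)).erase k with hZsdef
    have hZs : Zs.card ≤ 1 := by
      by_contra hlt
      push Not at hlt
      obtain ⟨a, ha, b, hb, hab⟩ := Finset.one_lt_card.1 hlt
      rw [hZsdef, Finset.mem_erase, Finset.mem_filter] at ha hb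
      exact hcase ⟨a, b, ha.1.symm, hb.1.symm, hab, ha.2.2, hb.2.2⟩
    set J : Finset ι := Finset.univ.filter (fun i => B w (e i) ≠ 0) with hJdef
    have hJ : 5 ≤ J.card := by
      have hun : (Finset.univ : Finset ι) ⊆ J ∪ insert k Zs := by
        intro i _
        by_cases hi : B w (e i) = 0
        · rw [Finset.mem_union]
          right
          by_cases hik : i = k
          · rw [hik]; exact Finset.mem_insert_self _ _
          · exact Finset.mem_insert_of_mem
              (Finset.mem_erase.2 ⟨hik, Finset.mem_filter.2 ⟨Finset.mem_univ _, hi⟩⟩)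
        · exact Finset.mem_union_left _ (Finset.mem_filter.2 ⟨Finset.mem_univ _, hi⟩)
      have h1 := Finset.card_le_card hun
      have h2 := Finset.card_union_le J (insert k Zs)
      have h3 := Finset.card_insert_le k Zs
      rw [Finset.card_univ] at h1
      omega
    obtain ⟨D, hDJ, hDc⟩ := Finset.exists_subset_card_eq (show 3 ≤ J.card by omega)
    have hJD : 0 < (J \ D).card := by
      have := Finset.card_sdiff_add_card_eq_card hDJ
      omega
    obtain ⟨k1, hk1⟩ := Finset.card_pos.1 hJD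
    rw [Finset.mem_sdiff] at hk1
    have hk1D : k1 ∉ D := hk1.2
    have hbk1 : B w (e k1) ≠ 0 := (Finset.mem_filter.1 hk1.1).2
    have hrest : 1 < (Finset.univ \ insert k1 D).card := by
      have h1 := Finset.card_sdiff_add_card_eq_card (Finset.subset_univ (insert k1 D))
      have h2 := Finset.card_insert_le k1 D
      rw [Finset.card_univ] at h1
      omega
    obtain ⟨k', hk', k'', hk'', hk'k''⟩ := Finset.one_lt_card.1 hrest
    rw [Finset.mem_sdiff, Finset.mem_insert, not_or] at hk' hk''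
    -- the sign change at `D`
    have hgL : zJ B c e D ∈ L := zJ_mem_L hC D
    have hgO : zJ B c e D ∈ oG Q := hfr.zJ_mem_oG D
    set w' : V := zJ B c e D w with hw'def
    have hw' : Q w' = 0 := by rw [hw'def, hgO w]; exact hw
    have hDne : ∀ j ∈ D, B w (e j) ≠ 0 := fun j hj => (Finset.mem_filter.1 (hDJ hj)).2
    have hkD : k ∉ D := fun hk => hDne k hk hwk
    have hgk : zJ B c e D (e k) = e k := hfr.zJ_e_not_mem hkD
    have hInZ' : InZ Q B L w' (e k) := by
      have := InZ_map' hQs hQp hgL hgO hw h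
      rwa [hgk] at this
    have hBw' : ∀ i, B w' (e i) = if i ∈ D then -B w (e i) else B w (e i) := hfr.B_zJ D w
    have hww' : B w w' = 0 := by
      rw [hw'def, hfr.zJ_apply, map_sub, map_sum, B_self Q B hQs hQp, hw, mul_zero, zero_sub,
        neg_eq_zero]
      have : ∀ j ∈ D, B w ((c⁻¹ * B w (e j)) • e j) = c⁻¹ := by
        intro j hj
        rw [map_smul, smul_eq_mul, mul_assoc, hsq _ (hDne j hj), mul_one]
      rw [Finset.sum_congr rfl this, Finset.sum_const, hDc, nsmul_eq_mul]
      push_cast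
      rw [h30, zero_mul]
    have hwk' : B w' (e k) = 0 := hInZ'.1
    have hlong : sieg Q B w (B (e k) (e k) • w') ∈ L := by
      rw [← Cfsg.Agent.Lib.Helper88_GROW_LONG.long_comm hQs hQp hw hw' hww' hwk hwk']
      have a1 : sieg Q B w (e k) ∈ L := by simpa using h.2 1
      have a2 : sieg Q B w' (e k) ∈ L := by simpa using hInZ'.2 1
      exact L.mul_mem (L.mul_mem (L.mul_mem a1 a2) (L.inv_mem a1)) (L.inv_mem a2)
    set z : V := B (e k) (e k) • w' with hzdef
    have hz : Q z = 0 := by rw [hzdef, hQs, hw', mul_zero]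
    have hwz : B w z = 0 := by rw [hzdef, map_smul, hww', smul_zero]
    have hv := hLR hw hz hwz hlong k1
    set v : V := B z (e k1) • w - B w (e k1) • z with hvdef
    have hBz : ∀ i, B z (e i) = 2 * c * (if i ∈ D then -B w (e i) else B w (e i)) := by
      intro i
      rw [hzdef, map_smul, LinearMap.smul_apply, smul_eq_mul, hfr.Bee, hBw']
    have hBv : ∀ i, B v (e i) = if i ∈ D then 4 * c * B w (e k1) * B w (e i) else 0 := by
      intro i
      simp only [hvdef, map_sub, map_smul, LinearMap.sub_apply, LinearMap.smul_apply, smul_eq_mul,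
        hBz, if_neg hk1D]
      split_ifs <;> ring
    have hQv : Q v = 0 := Q_comb hQs hQp hw hz hwz _ _
    have hv0 : v ≠ 0 := by
      intro h0
      obtain ⟨i, hi⟩ : D.Nonempty := Finset.card_pos.1 (by omega)
      have h1 := hBv i
      rw [h0, if_pos hi] at h1
      simp only [map_zero, LinearMap.zero_apply] at h1
      have h4 : (4 : F) ≠ 0 := by
        have : (4 : F) = 2 * 2 := by norm_num
        rw [this]
        exact mul_ne_zero hfr.h2 hfr.h2
      exact mul_ne_zero (mul_ne_zero (mul_ne_zero h4 hfr.c0) hbk1) (hDne i hi) h1.symm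
    have hvk1 : B v (e k1) = 0 := by rw [hBv, if_neg hk1D]
    have hvk' : B v (e k') = 0 := by rw [hBv, if_neg hk'.2.2]
    have hvk'' : B v (e k'') = 0 := by rw [hBv, if_neg hk''.2.2]
    exact hEND hQv hv0 hvk1 hv (Ne.symm hk'.2.1) (Ne.symm hk''.2.1) hk'k'' hvk' hvk''

end Cfsg.Agent.Lib.Helper52_GROW_OC3aux
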