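import Mathlib
import Cfsg.Agent.Lib.Helper32_OFDefs
import Cfsg.Agent.Lib.Helper32_OFRoot
import Cfsg.Agent.Lib.Helper31_OF_API
import Cfsg.Agent.Lib.Helper94_OrthVec
import Cfsg.Agent.Lib.Helper94_OrthNondeg
import Cfsg.Agent.Lib.Helper80_GrowDefs

set_option autoImplicit false
set_option linter.unusedSimpArgs false
set_option linter.unusedVariables false
set_option linter.unusedSectionVars false

/-!
# GROW market (architect helper80, rows S5679 + S5696): package GROW-SGN (helper99)

The commutator of a Siegel element `sieg u z ∈ L` with the sign change at `k` (where `u_k = 0`,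
`z_k ≠ 0`) is the Siegel element `sieg u (a • e k)`, `a ≠ 0`; over a prime field this gives the
whole root group, i.e. `InZ L u (e k)`.
-/

namespace Cfsg.Agent.Lib.Helper99_GROW_SGN

open Module Cfsg.Agent.Lib.Helper94_Symp Cfsg.Agent.Lib.Helper94_OrthSmall
  Cfsg.Agent.Lib.Helper94_OrthSiegel Cfsg.Agent.Lib.Helper94_OrthSiegel2
  Cfsg.Agent.Lib.Helper94_OrthNondeg Cfsg.Agent.Lib.Helper94_OrthVec
  Cfsg.Agent.Lib.Helper32_OFDefs Cfsg.Agent.Lib.Helper32_OFRoot
  Cfsg.Agent.Lib.Helper80_GrowDefs

variable {F V : Type*} [Field F] [AddCommGroup V] [Module F V]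
variable {Q : V → F} {B : LinearMap.BilinForm F V}
variable {ι : Type*} [Fintype ι] [DecidableEq ι] {c : F} {e : ι → V}
variable {L : Subgroup (V ≃ₗ[F] V)}

/-- the field of a `GCtx` is finite -/
theorem finite_of_gCtx (hC : GCtx Q B c e L) : Finite F :=
  Nat.finite_of_card_ne_zero hC.hp.ne_zero

/-- a space with an orthogonal frame is finite dimensional -/
theorem finiteDimensional_of_oFr (h : OFr Q B c e) : FiniteDimensional F V := by
  have h1 : (⊤ : Submodule F V) = Submodule.span F (Set.range e) := by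
    symm
    rw [eq_top_iff]
    intro v _
    rw [h.exp v]
    exact Submodule.sum_mem _ fun i _ =>
      Submodule.smul_mem _ _ (Submodule.subset_span ⟨i, rfl⟩)
  exact Module.finite_def.mpr (h1 ▸ Submodule.fg_span (Set.finite_range e))

/-- `InZ` is stable under scalars (no finiteness assumptions) -/
theorem inZ_smul' {M : Subgroup (V ≃ₗ[F] V)} {w z : V} (a : F) (h1 : InZ Q B M w z) :
    InZ Q B M w (a • z) := by
  refine ⟨by rw [map_smul, h1.1, smul_zero], fun t => ?_⟩
  rw [smul_smul]
  exact h1.2 (t * a)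

/-- the sign change at `k` applied to a vector -/
theorem zJ_single_apply (hfr : OFr Q B c e) (k : ι) (v : V) :
    zJ B c e {k} v = v - (c⁻¹ * B v (e k)) • e k := by
  rw [hfr.zJ_apply, Finset.sum_singleton]

theorem inZ_frame_of_mem (hC : GCtx Q B c e L) {u z : V} (hu : Q u = 0) (huz : B u z = 0)
    (h : sieg Q B u z ∈ L) {k : ι} (huk : B u (e k) = 0) (hzk : B z (e k) ≠ 0) :
    InZ Q B L u (e k) := by
  have hfr := hC.fr
  have hQs := hfr.hQs
  have hQp := hfr.hQp
  have hfin : Finite F := finite_of_gCtx hC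
  set a : F := c⁻¹ * B z (e k) with ha
  have ha0 : a ≠ 0 := mul_ne_zero (inv_ne_zero hfr.c0) hzk
  have hεL : zJ B c e {k} ∈ L := hC.hz k
  have hεO : zJ B c e {k} ∈ oG Q := hfr.zJ_mem_oG {k}
  have hεu : zJ B c e {k} u = u := by
    rw [zJ_single_apply hfr, huk, mul_zero, zero_smul, sub_zero]
  have hεz : zJ B c e {k} z = z - a • e k := zJ_single_apply hfr k z
  have huek : B u (a • e k) = 0 := by rw [map_smul, huk, smul_zero]
  have huεz : B u (z - a • e k) = 0 := by rw [map_sub, huz, huek, sub_zero]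
  -- the conjugate lies in `L`
  have h1 : sieg Q B u (z - a • e k) ∈ L := by
    have h2 := conj_sieg Q B hQs hQp hεO hu huz
    rw [hεu, hεz] at h2
    rw [← h2]
    exact L.mul_mem (L.mul_mem hεL h) (L.inv_mem hεL)
  -- the commutator
  have h3 : sieg Q B u z * (sieg Q B u (z - a • e k))⁻¹ = sieg Q B u (a • e k) := by
    rw [sieg_inv Q B hQs hQp hu huεz,
      sieg_mul Q B hQs hQp hu huz (by rw [map_neg, huεz, neg_zero])]
    congr 1
    abel
  have h4 : sieg Q B u (a • e k) ∈ L := by
    rw [← h3]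
    exact L.mul_mem h (L.inv_mem h1)
  have h5 : InZ Q B L u (a • e k) := inZ_of_mem hQs hQp hC.hp hu huek h4
  have h6 := inZ_smul' a⁻¹ h5
  rwa [smul_smul, inv_mul_cancel₀ ha0, one_smul] at h6

end Cfsg.Agent.Lib.Helper99_GROW_SGN
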