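import Mathlib
import Cfsg.Agent.Lib.Helper32_OFDefs
import Cfsg.Agent.Lib.Helper32_OFRoot
import Cfsg.Agent.Lib.Helper31_OF_API
import Cfsg.Agent.Lib.Helper94_OrthVec
import Cfsg.Agent.Lib.Helper94_OrthNondeg
import Cfsg.Agent.Lib.Helper80_GrowDefs
import Cfsg.Agent.Lib.Helper99_GROW_SGN

set_option autoImplicit false
set_option linter.unusedSimpArgs false
set_option linter.unusedVariables false
set_option linter.unusedSectionVars false

/-!
# GROW market (architect helper80, rows S5679 + S5696): package GROW-LR (helper86)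

A long root element `sieg u z` (`Q u = Q z = 0`, `B u z = 0`) depends only on `u ∧ z`; rewriting it with the centre
`w = z_k u - u_k z` (whose `k`-coordinate vanishes) and applying GROW-SGN gives `InZ L w (e k)`.
-/

namespace Cfsg.Agent.Lib.Helper86_GROW_LR

open Module Cfsg.Agent.Lib.Helper94_Symp Cfsg.Agent.Lib.Helper94_OrthSmall
  Cfsg.Agent.Lib.Helper94_OrthSiegel Cfsg.Agent.Lib.Helper94_OrthSiegel2
  Cfsg.Agent.Lib.Helper94_OrthNondeg Cfsg.Agent.Lib.Helper94_OrthVec
  Cfsg.Agent.Lib.Helper32_OFDefs Cfsg.Agent.Lib.Helper32_OFRoot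
  Cfsg.Agent.Lib.Helper80_GrowDefs

variable {F V : Type*} [Field F] [AddCommGroup V] [Module F V]
variable {Q : V → F} {B : LinearMap.BilinForm F V}
variable {ι : Type*} [Fintype ι] [DecidableEq ι] {c : F} {e : ι → V}
variable {L : Subgroup (V ≃ₗ[F] V)}

/-- a long root element with a new centre: `sieg (ζ u - α z) (α⁻¹ u) = sieg u z` -/
theorem sieg_long_recentre (hQs : ∀ (a : F) (v : V), Q (a • v) = a * a * Q v)
    (hQp : ∀ u v : V, Q (u + v) = Q u + Q v + B u v) {u z : V} (hu : Q u = 0) (hz : Q z = 0)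
    (huz : B u z = 0) {α : F} (hα : α ≠ 0) (ζ : F) :
    Q (ζ • u - α • z) = 0 ∧ B (ζ • u - α • z) (α⁻¹ • u) = 0 ∧
      sieg Q B (ζ • u - α • z) (α⁻¹ • u) = sieg Q B u z := by
  have huu : B u u = 0 := by rw [B_self Q B hQs hQp, hu, mul_zero]
  have hzz : B z z = 0 := by rw [B_self Q B hQs hQp, hz, mul_zero]
  have hzu : B z u = 0 := by rw [B_symm Q B hQp, huz]
  have hw : Q (ζ • u - α • z) = 0 := by
    have h1 : ζ • u - α • z = ζ • u + (-α) • z := by module
    rw [h1, hQp, hQs, hQs, hu, hz]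
    simp only [map_smul, LinearMap.smul_apply, smul_eq_mul, huz, mul_zero, add_zero]
  have hwy : B (ζ • u - α • z) (α⁻¹ • u) = 0 := by
    simp only [map_sub, map_smul, LinearMap.sub_apply, LinearMap.smul_apply, smul_eq_mul, huu, hzu,
      mul_zero, sub_zero]
  refine ⟨hw, hwy, ?_⟩
  have ha : α * α⁻¹ = 1 := mul_inv_cancel₀ hα
  ext x
  rw [sieg_apply Q B hQs hQp hw hwy, sieg_apply Q B hQs hQp hu huz, hQs, hu, hz]
  simp only [map_sub, map_smul, smul_eq_mul, mul_zero, zero_mul, zero_smul, sub_zero]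
  trans x + (-(α * α⁻¹) * B x z) • u + ((α * α⁻¹) * B x u) • z
  · module
  · rw [ha]
    module

theorem oc_of_long (hC : GCtx Q B c e L) {u z : V} (hu : Q u = 0) (hz : Q z = 0)
    (huz : B u z = 0) (h : sieg Q B u z ∈ L) (k : ι) :
    InZ Q B L (B z (e k) • u - B u (e k) • z) (e k) := by
  have hfr := hC.fr
  have hQs := hfr.hQs
  have hQp := hfr.hQp
  by_cases hα : B u (e k) = 0
  · by_cases hζ : B z (e k) = 0
    · rw [hα, hζ, zero_smul, zero_smul, sub_zero]
      refine ⟨by simp, fun t => ?_⟩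
      rw [sieg_zero_left Q B hQs hQp]
      exact L.one_mem
    · rw [hα, zero_smul, sub_zero]
      have hw : Q (B z (e k) • u) = 0 := by rw [hQs, hu, mul_zero]
      have huz' : B u ((B z (e k))⁻¹ • z) = 0 := by rw [map_smul, huz, smul_zero]
      have hwz : B (B z (e k) • u) ((B z (e k))⁻¹ • z) = 0 := by
        simp only [map_smul, LinearMap.smul_apply, smul_eq_mul, huz, mul_zero]
      have hmem : sieg Q B (B z (e k) • u) ((B z (e k))⁻¹ • z) ∈ L := by
        rw [sieg_smul_left Q B hQs hQp hu huz', smul_smul, mul_inv_cancel₀ hζ, one_smul]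
        exact h
      refine Cfsg.Agent.Lib.Helper99_GROW_SGN.inZ_frame_of_mem hC hw hwz hmem ?_ ?_
      · rw [map_smul, LinearMap.smul_apply, hα, smul_zero]
      · rw [map_smul, LinearMap.smul_apply, smul_eq_mul, inv_mul_cancel₀ hζ]
        exact one_ne_zero
  · obtain ⟨hw, hwy, hs⟩ := sieg_long_recentre hQs hQp hu hz huz hα (B z (e k))
    have hmem : sieg Q B (B z (e k) • u - B u (e k) • z) ((B u (e k))⁻¹ • u) ∈ L := by
      rw [hs]
      exact h
    refine Cfsg.Agent.Lib.Helper99_GROW_SGN.inZ_frame_of_mem hC hw hwy hmem ?_ ?_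
    · simp only [map_sub, map_smul, LinearMap.sub_apply, LinearMap.smul_apply, smul_eq_mul]
      ring
    · rw [map_smul, LinearMap.smul_apply, smul_eq_mul, inv_mul_cancel₀ hα]
      exact one_ne_zero

end Cfsg.Agent.Lib.Helper86_GROW_LR
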