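import Mathlib
import Cfsg.Agent.Lib.Helper32_OFDefs
import Cfsg.Agent.Lib.Helper32_OFRoot
import Cfsg.Agent.Lib.Helper31_OF_API
import Cfsg.Agent.Lib.Helper94_OrthVec
import Cfsg.Agent.Lib.Helper94_OrthNondeg
import Cfsg.Agent.Lib.Helper80_GrowDefs
import Cfsg.Agent.Lib.Helper52_GROW_OC3aux
import Cfsg.Agent.Lib.Helper37_GROW_END
import Cfsg.Agent.Lib.Helper86_GROW_LR

/-!
# GROW-OC3 (helper80's market `grow_packages`): verbatim wrapper
-/

set_option autoImplicit false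
set_option linter.unusedSimpArgs false
set_option linter.unusedVariables false
set_option linter.unusedSectionVars false

namespace Cfsg.Agent.Lib.Helper52_GROW_OC3

open Module Cfsg.Agent.Lib.Helper94_Symp Cfsg.Agent.Lib.Helper94_OrthSmall
  Cfsg.Agent.Lib.Helper94_OrthSiegel Cfsg.Agent.Lib.Helper94_OrthSiegel2
  Cfsg.Agent.Lib.Helper94_OrthNondeg Cfsg.Agent.Lib.Helper94_OrthVec
  Cfsg.Agent.Lib.Helper32_OFDefs Cfsg.Agent.Lib.Helper32_OFRoot
  Cfsg.Agent.Lib.Helper80_GrowDefs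

variable {F V : Type*} [Field F] [AddCommGroup V] [Module F V]
variable {Q : V → F} {B : LinearMap.BilinForm F V}
variable {ι : Type*} [Fintype ι] [DecidableEq ι] {c : F} {e : ι → V}
variable {L : Subgroup (V ≃ₗ[F] V)}

open Cfsg.Agent.Lib.Helper37_GROW_END (grow_end)
open Cfsg.Agent.Lib.Helper86_GROW_LR (oc_of_long)

/-- **GROW-OC3** -/
theorem oc3 (hC : GCtx Q B c e L) (hn : 7 ≤ Fintype.card ι) (h3 : Nat.card F = 3) {w : V}
    (hw : Q w = 0) (hw0 : w ≠ 0) {k : ι} (hwk : B w (e k) = 0) (h : InZ Q B L w (e k)) :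
    ∀ u z, Q u = 0 → B u z = 0 → sieg Q B u z ∈ L :=
  Cfsg.Agent.Lib.Helper52_GROW_OC3aux.oc3_of hC hn h3
    (fun hw hw0 => fun hwk h => fun hkk1 hkk2 hk12 h1 h2 =>
      grow_end hC hw hw0 hwk h hkk1 hkk2 hk12 h1 h2)
    (fun hu hz huz h k => oc_of_long hC hu hz huz h k) hw hw0 hwk h

end Cfsg.Agent.Lib.Helper52_GROW_OC3
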