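import Cfsg.Agent.Lib.Helper47_IsoBar
import Cfsg.Agent.Lib.Helper47_IsoMain
import Cfsg.Agent.Lib.Helper21_Components
import Cfsg.Agent.Lib.Helper21_FStar
import Cfsg.Agent.Lib.Helper22_Layer
import Cfsg.Agent.Lib.Helper22_Quasisimple
import Cfsg.Agent.Lib.Helper29_Local
import Cfsg.Agent.Lib.Helper48_Trans2
import Cfsg.Agent.Lib.Helper24_CoprimeAction
import Cfsg.Agent.Lib.Helper1_Cores

/-!
# ISO package PDVD (helper47's market S3044/S3045): `p ∣ |Y|`.
-/

set_option autoImplicit false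

open Cfsg
open Cfsg.Agent.Lib.Helper47_IsoBase Cfsg.Agent.Lib.Helper47_IsoBar Cfsg.Agent.Lib.Helper47_SubAPI
  Cfsg.Agent.Lib.Helper48_Op
open scoped commutatorElement Pointwise

namespace Cfsg.Agent.Lib.Helper52_Iso_PDVD

universe u

variable {H : Type u} [Group H] [Finite H] {p : ℕ} [Fact p.Prime] {Y C S W : Subgroup H}

open Cfsg.Agent.Lib.Helper24_CoprimeAction in
theorem p_dvd (hb : BarHyp p Y C S W)
    (hcopr : ∀ {t : ℕ}, t.Prime → ∀ (R : Sylow t ↥Y) (X : Subgroup ↥Y),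
      (∀ r : ℕ, r.Prime → r ≠ t → ∃ T : Sylow r ↥Y, (T : Subgroup ↥Y) ≤ X) →
      ∀ y : ↥Y, ∃ a ∈ (R : Subgroup ↥Y), ∃ x ∈ X, y = a * x) :
    p ∣ Nat.card ↥Y := by
  by_contra hnd
  have hp : p.Prime := Fact.out
  have hYn := hb.hYn
  obtain ⟨k, hk⟩ := hb.hS.exists_card_eq
  have hcop : (Nat.card S).Coprime (Nat.card Y) := by
    rw [hk]
    exact Nat.Coprime.pow_left k ((Nat.Prime.coprime_iff_not_dvd hp).2 hnd)
  have hSY : S ≤ Subgroup.normalizer (Y : Set H) := by
    rw [Subgroup.normalizer_eq_top_iff.mpr hYn]; exact le_top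
  have hSsolv : Group.IsSolvable ↥S := by
    have : Group.IsNilpotent ↥S := hb.hS.isNilpotent
    infer_instance
  -- invariant Sylow subgroups
  have hex : ∀ r : ℕ, r.Prime → ∃ R : Sylow r ↥Y,
      S ≤ Subgroup.normalizer ((sylowImage R : Subgroup H) : Set H) := by
    intro r hr
    have : Fact r.Prime := ⟨hr⟩
    exact exists_invariant_sylow S Y hSY hcop (Or.inl hSsolv) r
  have himgY : ∀ {r : ℕ} (R : Sylow r ↥Y), sylowImage R ≤ Y := by
    intro r R x hx
    obtain ⟨z, -, rfl⟩ := hx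
    exact z.2
  -- the dichotomy for an invariant Sylow subgroup
  have hdich : ∀ {r : ℕ} (R : Sylow r ↥Y),
      S ≤ Subgroup.normalizer ((sylowImage R : Subgroup H) : Set H) →
      W ≤ sylowImage R ∨ sylowImage R ≤ Subgroup.centralizer (C : Set H) := by
    intro r R hR
    rcases hb.sub_dich _ hR with h1 | ⟨-, h2⟩
    · exact Or.inl h1
    · right
      have hbot : sylowImage R ⊓ C = ⊥ := by
        refine (Subgroup.disjoint_of_coprime_natCard ?_).eq_bot
        have h3 : Nat.card (sylowImage R) ∣ Nat.card Y := Subgroup.card_dvd_of_le (himgY R)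
        have h4 : Nat.card C ∣ Nat.card S := Subgroup.card_dvd_of_le hb.hCS
        exact (hcop.symm.coprime_dvd_left h3).coprime_dvd_right h4
      rw [hbot, le_bot_iff] at h2
      exact Subgroup.commutator_eq_bot_iff_le_centralizer.mp h2
  -- the subgroup `X` of `↥Y` centralising `C`
  set X : Subgroup ↥Y := (Y ⊓ Subgroup.centralizer (C : Set H)).subgroupOf Y with hX
  have hRX : ∀ {r : ℕ} (R : Sylow r ↥Y), sylowImage R ≤ Subgroup.centralizer (C : Set H) →
      (R : Subgroup ↥Y) ≤ X := by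
    intro r R hR z hz
    rw [hX, Subgroup.mem_subgroupOf]
    exact ⟨z.2, hR (Subgroup.mem_map_of_mem _ hz)⟩
  have hXcent : ∀ x ∈ X, (x : H) ∈ Subgroup.centralizer (C : Set H) := by
    intro x hx
    rw [hX, Subgroup.mem_subgroupOf] at hx
    exact hx.2
  -- some invariant Sylow subgroup contains `W`
  have hexW : ∃ t : ℕ, t.Prime ∧ ∃ R : Sylow t ↥Y,
      S ≤ Subgroup.normalizer ((sylowImage R : Subgroup H) : Set H) ∧ W ≤ sylowImage R := by
    by_contra hno
    push Not at hno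
    apply hb.commutator_C_ne_bot
    rw [Subgroup.commutator_eq_bot_iff_le_centralizer]
    obtain ⟨R2, hR2⟩ := hex 2 Nat.prime_two
    have hall : ∀ r : ℕ, r.Prime → ∃ T : Sylow r ↥Y, (T : Subgroup ↥Y) ≤ X := by
      intro r hr
      obtain ⟨R, hR⟩ := hex r hr
      refine ⟨R, hRX R ?_⟩
      rcases hdich R hR with h1 | h1
      · exact absurd h1 (hno r hr R hR)
      · exact h1
    intro y hy
    obtain ⟨a, ha, x, hx, hyax⟩ := hcopr Nat.prime_two R2 X (fun r hr _ => hall r hr) ⟨y, hy⟩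
    obtain ⟨T, hT⟩ := hall 2 Nat.prime_two
    have haX : a ∈ X := by
      rcases hdich R2 hR2 with h1 | h1
      · exact absurd h1 (hno 2 Nat.prime_two R2 hR2)
      · exact hRX R2 h1 ha
    have : (y : H) = (a : H) * (x : H) := congrArg Subtype.val hyax
    rw [this]
    exact Subgroup.mul_mem _ (hXcent a haX) (hXcent x hx)
  obtain ⟨t, ht, Rt, hRtS, hWRt⟩ := hexW
  -- the other invariant Sylow subgroups centralise `C`
  have hother : ∀ r : ℕ, r.Prime → r ≠ t → ∃ T : Sylow r ↥Y, (T : Subgroup ↥Y) ≤ X := by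
    intro r hr hrt
    obtain ⟨R, hR⟩ := hex r hr
    refine ⟨R, hRX R ?_⟩
    rcases hdich R hR with h1 | h1
    · exfalso
      apply hb.hW
      have : Fact r.Prime := ⟨hr⟩
      have : Fact t.Prime := ⟨ht⟩
      have hdisj : Disjoint (sylowImage R) (sylowImage Rt) := by
        apply IsPGroup.disjoint_of_coprime (R.isPGroup'.map _) (Rt.isPGroup'.map _)
        exact (Nat.coprime_primes hr ht).2 hrt
      rw [eq_bot_iff]
      exact (le_inf h1 hWRt).trans (le_of_eq hdisj.eq_bot)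
    · exact h1
  -- `[Y, C] ≤ R_t`
  have hYCle : ⁅Y, C⁆ ≤ sylowImage Rt := by
    rw [Subgroup.commutator_le]
    intro y hy c hc
    obtain ⟨a, ha, x, hx, hyax⟩ := hcopr ht Rt X hother ⟨y, hy⟩
    have hyax' : y = (a : H) * (x : H) := congrArg Subtype.val hyax
    have hxc : (x : H) * c = c * (x : H) :=
      ((Subgroup.mem_centralizer_iff.mp (hXcent x hx)) c hc).symm
    have haR : (a : H) ∈ sylowImage Rt := Subgroup.mem_map_of_mem _ ha
    have hcN : c ∈ Subgroup.normalizer ((sylowImage Rt : Subgroup H) : Set H) := hRtS (hb.hCS hc)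
    have h1 : c * (a : H)⁻¹ * c⁻¹ ∈ sylowImage Rt :=
      (Subgroup.mem_normalizer_iff.mp hcN _).mp (Subgroup.inv_mem _ haR)
    have e : ⁅y, c⁆ = (a : H) * (c * (a : H)⁻¹ * c⁻¹) := by
      rw [hyax', commutatorElement_def]
      have : (a : H) * (x : H) * c * ((a : H) * (x : H))⁻¹ * c⁻¹
          = (a : H) * ((x : H) * c) * (x : H)⁻¹ * (a : H)⁻¹ * c⁻¹ := by group
      rw [this, hxc]; group
    rw [e]
    exact Subgroup.mul_mem _ haR h1
  -- `Y` is a `t`-group, hence trivial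
  have hYle : Y ≤ sylowImage Rt := hb.hYC.trans hYCle
  have : Fact t.Prime := ⟨ht⟩
  have hYt : IsPGroup t ↥Y := (Rt.isPGroup'.map Y.subtype).to_le hYle
  have hYsolv : Group.IsSolvable ↥Y := by
    have : Group.IsNilpotent ↥Y := hYt.isNilpotent
    infer_instance
  exact hb.Y_ne_bot (eq_bot_of_isSolvable_of_le_commutator hYsolv hb.hperf)

end Cfsg.Agent.Lib.Helper52_Iso_PDVD
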