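import Cfsg.Agent.Lib.Helper47_IsoBase
import Cfsg.Agent.Lib.Helper21_FStar
import Cfsg.Agent.Lib.Helper22_Layer
import Cfsg.Agent.Lib.Helper22_Quasisimple
import Cfsg.Agent.Lib.Helper29_Local
import Cfsg.Agent.Lib.Helper48_Trans2

/-!
# ISO package TGRP (helper47's market S3044/S3045): in the class-two case `Ȳ` is a `t`-group, `t ≠ p`.
-/

set_option autoImplicit false

open Cfsg
open Cfsg.Agent.Lib.Helper47_IsoBase Cfsg.Agent.Lib.Helper47_SubAPI Cfsg.Agent.Lib.Helper48_Op
open scoped commutatorElement Pointwise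

namespace Cfsg.Agent.Lib.Helper52_Iso_TGRP

universe u

variable {G : Type u} [Group G] [Finite G] {p : ℕ} [Fact p.Prime] {S : Sylow p G} {P L : Subgroup G}

/-- a normal subgroup `K` of `H` that is nilpotent: its Sylow subgroups are normal in `H`. -/
theorem sylow_map_normal {H : Type u} [Group H] [Finite H] (K : Subgroup H) [K.Normal]
    (hnil : Group.IsNilpotent ↥K) (r : ℕ) [Fact r.Prime] (T : Sylow r ↥K) :
    ((T : Subgroup ↥K).map K.subtype).Normal := by
  have hTn : (T : Subgroup ↥K).Normal :=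
    Sylow.normal_of_normalizerCondition Group.normalizerCondition_of_isNilpotent T
  have hTc : (T : Subgroup ↥K).Characteristic := Sylow.characteristic_of_normal T hTn
  exact ConjAct.normal_of_characteristic_of_normal

/-- `K = ⨆ T.map K.subtype` over all Sylow subgroups of `↥K`. -/
theorem eq_iSup_sylow_map {H : Type u} [Group H] [Finite H] (K : Subgroup H) :
    K = ⨆ r : Nat.Primes, ⨆ T : Sylow (r : ℕ) ↥K, (T : Subgroup ↥K).map K.subtype := by
  have h := Cfsg.Agent.Lib.Helper1_Cores.iSup_sylow_eq_top (G := ↥K)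
  have h2 := congrArg (Subgroup.map K.subtype) h
  rw [← MonoidHom.range_eq_map, Subgroup.range_subtype, Subgroup.map_iSup] at h2
  refine h2.symm.trans ?_
  congr 1
  funext r
  rw [Subgroup.map_iSup]

theorem tgrp (h : IsoHyp p S P L)
    (h3 : ⁅⁅Subgroup.normalClosure ((Op p P : Subgroup G) : Set G),
        Subgroup.normalClosure ((Op p P : Subgroup G) : Set G)⁆,
        Subgroup.normalClosure ((Op p P : Subgroup G) : Set G)⁆ ≤ Cfsg.pCore p G) :
    ∃ t : ℕ, t.Prime ∧ t ≠ p ∧
      IsPGroup t ↥((Subgroup.normalClosure ((Op p P : Subgroup G) : Set G)).map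
        (QuotientGroup.mk' (Cfsg.pCore p G))) := by
  have hYle := h.Y_le
  obtain ⟨Y, hY⟩ : ∃ Y : Subgroup G, Y = Subgroup.normalClosure ((Op p P : Subgroup G) : Set G) :=
    ⟨_, rfl⟩
  rw [← hY] at h3 hYle ⊢
  have hYn : Y.Normal := by rw [hY]; exact Subgroup.normalClosure_normal
  have hWY : Op p P ≤ Y := by rw [hY]; exact Subgroup.subset_normalClosure
  have hQn : (Cfsg.pCore p G).Normal := inferInstance
  have hsurj := QuotientGroup.mk'_surjective (Cfsg.pCore p G)
  obtain ⟨K, hK⟩ : ∃ K : Subgroup (G ⧸ Cfsg.pCore p G),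
      K = Y.map (QuotientGroup.mk' (Cfsg.pCore p G)) := ⟨_, rfl⟩
  rw [← hK]
  have hKn : K.Normal := by rw [hK]; exact hYn.map _ hsurj
  -- `K` is nilpotent
  have hK3 : ⁅⁅K, K⁆, K⁆ = ⊥ := by
    rw [hK, ← Subgroup.map_commutator, ← Subgroup.map_commutator, eq_bot_iff,
      Subgroup.map_le_iff_le_comap]
    intro x hx
    rw [Subgroup.mem_comap, Subgroup.mem_bot]
    exact (QuotientGroup.eq_one_iff x).2 (h3 hx)
  have hnil : Group.IsNilpotent ↥K := (Subgroup.isNilpotent_iff_lowerCentralSeries K).2 ⟨2, hK3⟩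
  -- `K` is not a `p`-group
  have hnotp : ¬ IsPGroup p ↥K := by
    intro hp
    have h1 : K ≤ Cfsg.pCore p (G ⧸ Cfsg.pCore p G) :=
      Cfsg.Agent.Lib.Helper1_Cores.le_pCore hKn hp
    rw [Cfsg.Agent.Lib.Helper48_Trans2.pCore_quotient_pCore, le_bot_iff] at h1
    apply h.not_Op_le_Q
    intro x hx
    have hx' : QuotientGroup.mk' (Cfsg.pCore p G) x ∈ K := by
      rw [hK]; exact Subgroup.mem_map_of_mem _ (hWY hx)
    rw [h1, Subgroup.mem_bot] at hx'
    exact (QuotientGroup.eq_one_iff x).1 hx'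
  by_contra hcon
  push Not at hcon
  -- `C̄` centralises every Sylow subgroup of `K`
  have hC : ∀ (r : Nat.Primes) (T : Sylow (r : ℕ) ↥K), (T : Subgroup ↥K).map K.subtype ≤
      Subgroup.centralizer (((Cfsg.pCoreOf p L).map (QuotientGroup.mk' (Cfsg.pCore p G)) :
        Subgroup (G ⧸ Cfsg.pCore p G)) : Set (G ⧸ Cfsg.pCore p G)) := by
    intro r T
    have : Fact (r : ℕ).Prime := ⟨r.2⟩
    have hTn := sylow_map_normal K hnil r T
    have hNn : (((T : Subgroup ↥K).map K.subtype).comap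
        (QuotientGroup.mk' (Cfsg.pCore p G))).Normal := hTn.comap _
    have hmap : (((T : Subgroup ↥K).map K.subtype).comap
        (QuotientGroup.mk' (Cfsg.pCore p G))).map (QuotientGroup.mk' (Cfsg.pCore p G))
        = (T : Subgroup ↥K).map K.subtype :=
      Subgroup.map_comap_eq_self_of_surjective hsurj _
    rcases h.normal_dich hNn with h1 | ⟨-, -, h2, -⟩
    · exfalso
      have hYN : Y ≤ ((T : Subgroup ↥K).map K.subtype).comap
          (QuotientGroup.mk' (Cfsg.pCore p G)) := by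
        rw [hY]; exact Subgroup.normalClosure_le_normal h1
      have hKT : K ≤ (T : Subgroup ↥K).map K.subtype := by
        rw [← hmap]
        exact (le_of_eq hK).trans (Subgroup.map_mono hYN)
      have hr : IsPGroup r ↥K := (T.isPGroup'.map K.subtype).to_le hKT
      by_cases hrp : (r : ℕ) = p
      · exact hnotp (hrp ▸ hr)
      · exact hcon r r.2 hrp hr
    · have hle : Cfsg.pCoreOf p L ≤ cmod (Cfsg.pCore p G)
          (((T : Subgroup ↥K).map K.subtype).comap (QuotientGroup.mk' (Cfsg.pCore p G))) :=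
        le_cmod_iff.mpr h2
      rw [Subgroup.le_centralizer_iff, ← hmap, Subgroup.map_le_iff_le_comap]
      exact hle
  have hKc : K ≤ Subgroup.centralizer (((Cfsg.pCoreOf p L).map
      (QuotientGroup.mk' (Cfsg.pCore p G)) : Subgroup (G ⧸ Cfsg.pCore p G)) :
        Set (G ⧸ Cfsg.pCore p G)) := by
    conv_lhs => rw [eq_iSup_sylow_map K]
    exact iSup_le fun r => iSup_le (hC r)
  have hYC : ⁅Y, Cfsg.pCoreOf p L⁆ ≤ Cfsg.pCore p G := by
    rw [← le_cmod_iff]
    show Cfsg.pCoreOf p L ≤ (Subgroup.centralizer _).comap _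
    rw [← Subgroup.map_le_iff_le_comap, Subgroup.le_centralizer_iff, ← hK]
    exact hKc
  apply h.not_Op_le_Q
  exact hWY.trans (hYle.trans (sup_le hYC le_rfl))

end Cfsg.Agent.Lib.Helper52_Iso_TGRP
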