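import Mathlib
import Cfsg.Agent.Lib.Helper74_M11UDefs

set_option autoImplicit false
set_option linter.unusedSectionVars false
set_option linter.unusedVariables false

namespace Cfsg.Agent.Lib.Helper52_M11U_A4b

open Cfsg.Agent.Lib.Helper74_M11UDefs Subgroup
open scoped Pointwise

universe u

section general

variable {G : Type u} [Group G]

/-- membership in the centralizer of an element, conjugation form -/
theorem mem_CC_iff {g z : G} : g ∈ CC z ↔ g * z * g⁻¹ = z := by
  rw [mem_centralizer_singleton_iff, mul_inv_eq_iff_eq_mul, eq_comm]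

theorem mem_CC_self (z : G) : z ∈ CC z := by
  rw [mem_CC_iff]; group

theorem mem_CC_symm {g z : G} (h : g ∈ CC z) : z ∈ CC g := by
  rw [mem_centralizer_singleton_iff] at h ⊢
  exact h.symm

/-- the fixed point congruence for the conjugation action of a cyclic `p`-group on a finite
set of elements stable under it -/
theorem card_conj_modEq {p : ℕ} [Fact p.Prime] (d : G) (hd : orderOf d = p) (A : Set G)
    [Finite A] (hA : ∀ a ∈ A, d * a * d⁻¹ ∈ A) :
    Nat.card A ≡ Nat.card {a : G // a ∈ A ∧ d * a * d⁻¹ = a} [MOD p] := by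
  have hp : p.Prime := Fact.out
  have hfin : IsOfFinOrder d := by
    rw [← orderOf_pos_iff, hd]
    exact hp.pos
  have hA' : ∀ g ∈ zpowers d, ∀ a ∈ A, g * a * g⁻¹ ∈ A := by
    intro g hg
    rw [← hfin.mem_powers_iff_mem_zpowers, Submonoid.mem_powers_iff] at hg
    obtain ⟨n, rfl⟩ := hg
    induction n with
    | zero => intro a ha; simpa using ha
    | succ n ih =>
      intro a ha
      have h1 := hA _ (ih a ha)
      have h2 : d ^ (n + 1) * a * (d ^ (n + 1))⁻¹ = d * (d ^ n * a * (d ^ n)⁻¹) * d⁻¹ := by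
        rw [pow_succ']
        group
      rw [h2]
      exact h1
  have hd' : IsPGroup p (zpowers d) :=
    IsPGroup.of_card (n := 1) (by rw [Nat.card_zpowers, hd, pow_one])
  let act : MulAction (zpowers d) A :=
    { smul := fun g a => ⟨(g : G) * a.1 * (g : G)⁻¹, hA' g g.2 a.1 a.2⟩
      one_smul := fun a => Subtype.ext (by
        show ((1 : zpowers d) : G) * a.1 * ((1 : zpowers d) : G)⁻¹ = a.1
        simp)
      mul_smul := fun g g' a => Subtype.ext (by
        show ((g * g' : zpowers d) : G) * a.1 * ((g * g' : zpowers d) : G)⁻¹ =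
          (g : G) * ((g' : G) * a.1 * (g' : G)⁻¹) * (g : G)⁻¹
        simp [mul_assoc]) }
  have h1 := hd'.card_modEq_card_fixedPoints A
  have h2 : Nat.card (MulAction.fixedPoints (zpowers d) A) =
      Nat.card {a : G // a ∈ A ∧ d * a * d⁻¹ = a} := by
    apply Nat.card_congr
    refine
      { toFun := fun a => ⟨a.1.1, a.1.2, ?_⟩
        invFun := fun a => ⟨⟨a.1, a.2.1⟩, ?_⟩
        left_inv := fun _ => rfl
        right_inv := fun _ => rfl }
    · have h3 := a.2 ⟨d, mem_zpowers d⟩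
      exact congrArg Subtype.val h3
    · intro g
      apply Subtype.ext
      show (g : G) * a.1 * (g : G)⁻¹ = a.1
      obtain ⟨k, hk⟩ := mem_zpowers_iff.mp g.2
      have hcomm : Commute d a.1 := mul_inv_eq_iff_eq_mul.mp a.2.2
      rw [← hk]
      exact mul_inv_eq_iff_eq_mul.mpr ((hcomm.zpow_left k).eq)
  rw [h2] at h1
  exact h1

/-- an inverting involution normalizes -/
theorem inverts_mem_NN {z : G} {P : Sylow 3 G} (h : Inverts z (P : Subgroup G)) : z ∈ NN P := by
  have hz2 : z * z = 1 := by rw [← pow_two, ← h.1, pow_orderOf_eq_one]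
  rw [mem_normalizer_iff]
  intro y
  constructor
  · intro hy
    rw [h.2 y hy]
    exact inv_mem hy
  · intro hy
    have h1 := h.2 _ hy
    have h2 : z * (z * y * z⁻¹) * z⁻¹ = y := by
      have : z * (z * y * z⁻¹) * z⁻¹ = (z * z) * y * (z * z)⁻¹ := by group
      rw [this, hz2]; simp
    rw [h2] at h1
    rw [h1]
    exact inv_mem hy

/-- the centralizer of `z` permutes the Sylow subgroups inverted by `z` -/
theorem inverts_smul_of_mem_CC {z c : G} {X : Sylow 3 G} (h : Inverts z (X : Subgroup G))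
    (hc : c ∈ CC z) : Inverts z ((c • X : Sylow 3 G) : Subgroup G) := by
  have h1 := h.conj c
  rwa [mem_CC_iff.mp hc] at h1

theorem inverts_ne_one {z : G} {P : Subgroup G} (h : Inverts z P) : z ≠ 1 := by
  rintro rfl
  have := h.1
  rw [orderOf_one] at this
  omega

end general

section main

variable {G : Type u} [Group G] [Finite G]

/-- the Sylow subgroups inverted by `z` are the three of a triangle -/
theorem three_cases (ha : TriA G) {z : G} {P Q T : Sylow 3 G} (hPQ : P ≠ Q) (hPT : P ≠ T)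
    (hQT : Q ≠ T) (hzP : Inverts z (P : Subgroup G)) (hzQ : Inverts z (Q : Subgroup G))
    (hzT : Inverts z (T : Subgroup G)) :
    ∀ X : Sylow 3 G, Inverts z (X : Subgroup G) → X = P ∨ X = Q ∨ X = T := by
  obtain ⟨Q', T', h1, h2, h3, hzQ', hzT', hall⟩ := ha.three P z hzP
  intro X hX
  have hQ := hall Q hzQ
  have hT := hall T hzT
  have hXc := hall X hX
  rcases hQ with hQ | hQ | hQ
  · exact absurd hQ.symm hPQ
  · rcases hT with hT | hT | hT
    · exact absurd hT.symm hPT
    · exact absurd (hQ.trans hT.symm) hQT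
    · rw [hQ, hT]; exact hXc
  · rcases hT with hT | hT | hT
    · exact absurd hT.symm hPT
    · rw [hQ, hT]
      rcases hXc with h | h | h
      · exact Or.inl h
      · exact Or.inr (Or.inr h)
      · exact Or.inr (Or.inl h)
    · exact absurd (hQ.trans hT.symm) hQT

/-- an element of order three in the centralizer of an involution -/
theorem exists_order_three (h : Loc G) {z : G} (hz : orderOf z = 2) :
    ∃ d ∈ CC z, orderOf d = 3 := by
  have h3F : Fact (Nat.Prime 3) := ⟨Nat.prime_three⟩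
  have hc := h.c2 z hz
  obtain ⟨d, hd⟩ := exists_prime_orderOf_dvd_card' (G := CC z) 3 (by rw [hc]; norm_num)
  exact ⟨(d : G), d.2, by rw [Subgroup.orderOf_coe]; exact hd⟩

/-- the edge stabilizer centralizes the common inverting involution -/
theorem inf_NN_le_CC (hi : InvP G) {z : G} {P Q : Sylow 3 G} (hPQ : P ≠ Q)
    (hzP : Inverts z (P : Subgroup G)) (hzQ : Inverts z (Q : Subgroup G)) :
    NN P ⊓ NN Q ≤ CC z := by
  intro g hg
  have hgP : g • P = P := mem_NN_iff.mp hg.1
  have hgQ : g • Q = Q := mem_NN_iff.mp hg.2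
  have h1 := hzP.conj g
  have h2 := hzQ.conj g
  rw [hgP] at h1
  rw [hgQ] at h2
  have h3 := hi.uniq P Q z (g * z * g⁻¹) hPQ hzP hzQ h1 h2
  rw [mem_CC_iff]
  exact h3.symm

/-- **the swap**: the stabilizer of `P` in `C(z)` interchanges the two other Sylow subgroups
inverted by `z` -/
theorem exists_swap (h : Loc G) (hi : InvP G) (ha : TriA G) {z : G} {P Q T : Sylow 3 G}
    (hPQ : P ≠ Q) (hPT : P ≠ T) (hQT : Q ≠ T) (hzP : Inverts z (P : Subgroup G))
    (hzQ : Inverts z (Q : Subgroup G)) (hzT : Inverts z (T : Subgroup G)) :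
    ∃ s ∈ NN P ⊓ CC z, s • Q = T := by
  by_contra hno
  push Not at hno
  have h3F : Fact (Nat.Prime 3) := ⟨Nat.prime_three⟩
  have hcases := three_cases ha hPQ hPT hQT hzP hzQ hzT
  -- every element of `S` fixes `Q` and `T`
  have hfixQ : ∀ s ∈ NN P ⊓ CC z, s • Q = Q := by
    intro s hs
    have hsP : s • P = P := mem_NN_iff.mp hs.1
    rcases hcases _ (inverts_smul_of_mem_CC hzQ hs.2) with h1 | h1 | h1
    · exfalso
      rw [← hsP] at h1
      exact hPQ (smul_left_cancel s h1).symm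
    · exact h1
    · exact absurd h1 (hno s hs)
  have hfixT : ∀ s ∈ NN P ⊓ CC z, s • T = T := by
    intro s hs
    have hsP : s • P = P := mem_NN_iff.mp hs.1
    rcases hcases _ (inverts_smul_of_mem_CC hzT hs.2) with h1 | h1 | h1
    · exfalso
      rw [← hsP] at h1
      exact hPT (smul_left_cancel s h1).symm
    · exfalso
      rw [← hfixQ s hs] at h1
      exact hQT (smul_left_cancel s h1).symm
    · exact h1
  have hSQ : NN P ⊓ CC z = NN Q ⊓ CC z := by
    apply Subgroup.eq_of_le_of_card_ge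
    · intro s hs
      exact ⟨mem_NN_iff.mpr (hfixQ s hs), hs.2⟩
    · rw [hi.cardS P z hzP, hi.cardS Q z hzQ]
  have hST : NN P ⊓ CC z = NN T ⊓ CC z := by
    apply Subgroup.eq_of_le_of_card_ge
    · intro s hs
      exact ⟨mem_NN_iff.mpr (hfixT s hs), hs.2⟩
    · rw [hi.cardS P z hzP, hi.cardS T z hzT]
  -- `C(z)` normalizes `S`
  have hnorm : ∀ c ∈ CC z, ∀ s ∈ NN P ⊓ CC z, c * s * c⁻¹ ∈ NN P ⊓ CC z := by
    intro c hc s hs
    have hsP : s • P = P := mem_NN_iff.mp hs.1
    have h1 : c * s * c⁻¹ ∈ NN (c • P) := by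
      rw [mem_NN_iff, ← mul_smul, inv_mul_cancel_right, mul_smul, hsP]
    have h2 : c * s * c⁻¹ ∈ CC z := mul_mem (mul_mem hc hs.2) (inv_mem hc)
    rcases hcases _ (inverts_smul_of_mem_CC hzP hc) with h3 | h3 | h3
    · rw [h3] at h1
      exact ⟨h1, h2⟩
    · rw [h3] at h1
      rw [hSQ]
      exact ⟨h1, h2⟩
    · rw [h3] at h1
      rw [hST]
      exact ⟨h1, h2⟩
  obtain ⟨d, hdC, hd3⟩ := exists_order_three h hzP.1
  have hcong := card_conj_modEq (p := 3) d hd3 ((NN P ⊓ CC z : Subgroup G) : Set G)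
    (fun a ha => hnorm d hdC a ha)
  have h4 : Nat.card ((NN P ⊓ CC z : Subgroup G) : Set G) = 16 := hi.cardS P z hzP
  have h5 : Nat.card {a : G // a ∈ ((NN P ⊓ CC z : Subgroup G) : Set G) ∧ d * a * d⁻¹ = a} =
      Nat.card ↥((NN P ⊓ CC z) ⊓ CC d : Subgroup G) := by
    apply Nat.card_congr
    apply Equiv.subtypeEquivRight
    intro a
    rw [Subgroup.mem_inf, mem_CC_iff (g := a) (z := d), SetLike.mem_coe]
    constructor
    · rintro ⟨h6, h7⟩
      refine ⟨h6, ?_⟩
      have h8 : d * a = a * d := mul_inv_eq_iff_eq_mul.mp h7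
      rw [← h8]; group
    · rintro ⟨h6, h7⟩
      refine ⟨h6, ?_⟩
      have h8 : a * d = d * a := mul_inv_eq_iff_eq_mul.mp h7
      rw [← h8]; group
  rw [h4, h5] at hcong
  have h6 : Nat.card ↥((NN P ⊓ CC z) ⊓ CC d : Subgroup G) ∣ 16 := by
    rw [← hi.cardS P z hzP]
    exact Subgroup.card_dvd_of_le inf_le_left
  have h7 : Nat.card ↥((NN P ⊓ CC z) ⊓ CC d : Subgroup G) ∣ 18 := by
    rw [← h.c3 d hd3]
    exact Subgroup.card_dvd_of_le inf_le_right
  have h8 : Nat.card ↥((NN P ⊓ CC z) ⊓ CC d : Subgroup G) ≠ 1 := by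
    intro h9
    have h10 := Subgroup.eq_bot_of_card_eq _ h9
    have h11 : z ∈ ((NN P ⊓ CC z) ⊓ CC d : Subgroup G) :=
      ⟨⟨inverts_mem_NN hzP, mem_CC_self z⟩, mem_CC_symm hdC⟩
    rw [h10, Subgroup.mem_bot] at h11
    exact inverts_ne_one hzP h11
  have h9 : Nat.card ↥((NN P ⊓ CC z) ⊓ CC d : Subgroup G) ∣ 2 := by
    have := Nat.dvd_gcd h6 h7
    norm_num at this
    exact this
  have h10 : Nat.card ↥((NN P ⊓ CC z) ⊓ CC d : Subgroup G) = 2 := by
    rcases (Nat.dvd_prime Nat.prime_two).mp h9 with h | h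
    · exact absurd h h8
    · exact h
  rw [h10] at hcong
  exact absurd hcong (by decide)

/-- Package A4b. -/
theorem A4b (h : Loc G) (hp : LocP G) (hi : InvP G) (ha : TriA G) : TriB G := by
  refine ⟨?_, ?_⟩
  · -- cardK
    rintro P Q ⟨hPQ, z, hzP, hzQ⟩
    -- the third vertex
    obtain ⟨T, hPT, hQT, hzT⟩ : ∃ T : Sylow 3 G, P ≠ T ∧ Q ≠ T ∧ Inverts z (T : Subgroup G) := by
      obtain ⟨Q', T', h1, h2, h3, hzQ', hzT', hall⟩ := ha.three P z hzP
      rcases hall Q hzQ with hQ | hQ | hQ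
      · exact absurd hQ.symm hPQ
      · exact ⟨T', h2, by rw [hQ]; exact h3, hzT'⟩
      · exact ⟨Q', h1, by rw [hQ]; exact h3.symm, hzQ'⟩
    have hcases := three_cases ha hPQ hPT hQT hzP hzQ hzT
    obtain ⟨s₀, hs₀, hs₀Q⟩ := exists_swap h hi ha hPQ hPT hQT hzP hzQ hzT
    have hKS : NN P ⊓ NN Q ≤ NN P ⊓ CC z :=
      fun g hg => ⟨hg.1, inf_NN_le_CC hi hPQ hzP hzQ hg⟩
    -- orbit-stabilizer for `S` acting on the Sylow subgroups
    have h1 := MulAction.index_stabilizer (↥(NN P ⊓ CC z : Subgroup G)) Q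
    have h2 := Subgroup.card_mul_index (MulAction.stabilizer (↥(NN P ⊓ CC z : Subgroup G)) Q)
    have h3 : MulAction.stabilizer (↥(NN P ⊓ CC z : Subgroup G)) Q =
        (NN P ⊓ NN Q).subgroupOf (NN P ⊓ CC z) := by
      ext x
      rw [MulAction.mem_stabilizer_iff, Subgroup.mem_subgroupOf, Subgroup.smul_def,
        Subgroup.mem_inf, ← mem_NN_iff]
      constructor
      · intro hx
        exact ⟨x.2.1, hx⟩
      · intro hx
        exact hx.2
    have h4 : MulAction.orbit (↥(NN P ⊓ CC z : Subgroup G)) Q = {Q, T} := by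
      ext X
      rw [MulAction.mem_orbit_iff, Set.mem_insert_iff, Set.mem_singleton_iff]
      constructor
      · rintro ⟨s, rfl⟩
        rw [Subgroup.smul_def]
        have hsP : (s : G) • P = P := mem_NN_iff.mp s.2.1
        rcases hcases _ (inverts_smul_of_mem_CC hzQ s.2.2) with h5 | h5 | h5
        · exfalso
          have h6 : (s : G) • Q = (s : G) • P := h5.trans hsP.symm
          exact hPQ (smul_left_cancel (s : G) h6).symm
        · exact Or.inl h5
        · exact Or.inr h5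
      · rintro (rfl | rfl)
        · exact ⟨1, one_smul _ _⟩
        · exact ⟨⟨s₀, hs₀⟩, hs₀Q⟩
    rw [h4, Set.ncard_pair hQT] at h1
    rw [h1, h3, hi.cardS P z hzP,
      Nat.card_congr (Subgroup.subgroupOfEquivOfLe hKS).toEquiv] at h2
    omega
  · -- swap
    rintro P Q T ⟨hPQ, hPT, hQT, z, hzP, hzQ, hzT⟩
    obtain ⟨s, hs, hsQ⟩ := exists_swap h hi ha hPQ hPT hQT hzP hzQ hzT
    exact ⟨s, hs.1, hsQ⟩

end main

end Cfsg.Agent.Lib.Helper52_M11U_A4b
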