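import Mathlib
import Cfsg.Agent.Lib.Helper74_M11UDefs
import Cfsg.Agent.Lib.Helper52_M11U_A4b
import Cfsg.Agent.Lib.Helper52_SM_TOOLS

set_option autoImplicit false
set_option linter.unusedSectionVars false
set_option linter.unusedVariables false

namespace Cfsg.Agent.Lib.Helper52_M11U_A4c

open Cfsg.Agent.Lib.Helper74_M11UDefs Cfsg.Agent.Lib.Helper52_M11U_A4b Subgroup
open scoped Pointwise

universe u

section general

variable {G : Type u} [Group G]

/-- in a finite subgroup of even order the number of solutions of `g * g = 1` is even -/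
theorem card_sq_one_modEq (K : Subgroup G) [Finite K] :
    Nat.card K ≡ Nat.card {g : G // g ∈ K ∧ g * g = 1} [MOD 2] := by
  have h1 := Cfsg.Agent.Lib.Helper52_SM_TOOLS.card_modEq_card_fixedBy_two
    (G := Equiv.Perm K) (X := K) (Equiv.inv K) (by
      ext k
      simp)
  have h2 : Nat.card (MulAction.fixedBy K (Equiv.inv K)) =
      Nat.card {g : G // g ∈ K ∧ g * g = 1} := by
    apply Nat.card_congr
    refine
      { toFun := fun k => ⟨k.1.1, k.1.2, ?_⟩
        invFun := fun g => ⟨⟨g.1, g.2.1⟩, ?_⟩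
        left_inv := fun _ => rfl
        right_inv := fun _ => rfl }
    · have h3 : (k.1)⁻¹ = k.1 := k.2
      have h4 : (k.1.1)⁻¹ = k.1.1 := congrArg Subtype.val h3
      calc k.1.1 * k.1.1 = (k.1.1)⁻¹ * k.1.1 := by rw [h4]
        _ = 1 := inv_mul_cancel _
    · show (⟨g.1, g.2.1⟩ : K)⁻¹ = ⟨g.1, g.2.1⟩
      apply Subtype.ext
      show (g.1)⁻¹ = g.1
      exact inv_eq_of_mul_eq_one_left g.2.2
  rw [h2] at h1
  exact h1

/-- in a group of order two there is only one non-identity element -/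
theorem eq_of_card_two (E : Subgroup G) (hE : Nat.card E = 2) {a b : G} (ha : a ∈ E) (hb : b ∈ E)
    (ha1 : a ≠ 1) (hb1 : b ≠ 1) : a = b := by
  have hidx : (⊥ : Subgroup E).index = 2 := by rw [Subgroup.index_bot]; exact hE
  obtain ⟨c, hc⟩ := Subgroup.index_eq_two_iff.mp hidx
  have h1 : ∀ x : E, x ≠ 1 → x * c = 1 := by
    intro x hx
    rcases hc x with h | h
    · exact (Subgroup.mem_bot).mp h.1
    · exact absurd ((Subgroup.mem_bot).mp h.1) hx
  have h2 := h1 ⟨a, ha⟩ (fun h => ha1 (congrArg Subtype.val h))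
  have h3 := h1 ⟨b, hb⟩ (fun h => hb1 (congrArg Subtype.val h))
  have h4 : (⟨a, ha⟩ : E) = ⟨b, hb⟩ := mul_right_cancel (h2.trans h3.symm)
  exact congrArg Subtype.val h4

theorem mul_self_of_orderOf_two {w : G} (hw : orderOf w = 2) : w * w = 1 := by
  rw [← pow_two, ← hw, pow_orderOf_eq_one]

theorem orderOf_conj_eq (d w : G) : orderOf (d * w * d⁻¹) = orderOf w := by
  have : d * w * d⁻¹ = MulAut.conj d w := rfl
  rw [this, MulEquiv.orderOf_eq]

end general

section main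

variable {G : Type u} [Group G] [Finite G]

/-- the edge stabilizer has a unique involution -/
theorem invK_aux (h : Loc G) (hp : LocP G) (hL : LInvStmt G) (hi : InvP G) (ha : TriA G)
    (hb : TriB G) {P Q : Sylow 3 G} {z : G} (hPQ : P ≠ Q) (hzP : Inverts z (P : Subgroup G))
    (hzQ : Inverts z (Q : Subgroup G)) :
    ∀ w ∈ NN P ⊓ NN Q, orderOf w = 2 → w = z := by
  have h3F : Fact (Nat.Prime 3) := ⟨Nat.prime_three⟩
  -- the third vertex
  obtain ⟨T, hPT, hQT, hzT⟩ : ∃ T : Sylow 3 G, P ≠ T ∧ Q ≠ T ∧ Inverts z (T : Subgroup G) := by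
    obtain ⟨Q', T', h1, h2, h3, hzQ', hzT', hall⟩ := ha.three P z hzP
    rcases hall Q hzQ with hQ | hQ | hQ
    · exact absurd hQ.symm hPQ
    · exact ⟨T', h2, by rw [hQ]; exact h3, hzT'⟩
    · exact ⟨Q', h1, by rw [hQ]; exact h3.symm, hzQ'⟩
  have hcases := three_cases ha hPQ hPT hQT hzP hzQ hzT
  have hKC : NN P ⊓ NN Q ≤ CC z := inf_NN_le_CC hi hPQ hzP hzQ
  have hcardK : Nat.card ↥(NN P ⊓ NN Q : Subgroup G) = 8 := hb.cardK P Q ⟨hPQ, z, hzP, hzQ⟩
  have hzK : z ∈ NN P ⊓ NN Q := ⟨inverts_mem_NN hzP, inverts_mem_NN hzQ⟩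
  have hz1 : z ≠ 1 := inverts_ne_one hzP
  have hzz : z * z = 1 := mul_self_of_orderOf_two hzP.1
  -- `K` fixes `T`
  have hKT : ∀ k ∈ NN P ⊓ NN Q, k • T = T := by
    intro k hk
    have hkP : k • P = P := mem_NN_iff.mp hk.1
    have hkQ : k • Q = Q := mem_NN_iff.mp hk.2
    rcases hcases _ (inverts_smul_of_mem_CC hzT (hKC hk)) with h1 | h1 | h1
    · exfalso
      have h2 : k • T = k • P := h1.trans hkP.symm
      exact hPT (smul_left_cancel k h2).symm
    · exfalso
      have h2 : k • T = k • Q := h1.trans hkQ.symm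
      exact hQT (smul_left_cancel k h2).symm
    · exact h1
  -- `K` fixes every Sylow subgroup inverted by `z`
  have hKall : ∀ k ∈ NN P ⊓ NN Q, ∀ X : Sylow 3 G, Inverts z (X : Subgroup G) → k • X = X := by
    intro k hk X hX
    rcases hcases X hX with rfl | rfl | rfl
    · exact mem_NN_iff.mp hk.1
    · exact mem_NN_iff.mp hk.2
    · exact hKT k hk
  -- `C(z)` normalizes `K`
  have hnorm : ∀ c ∈ CC z, ∀ k ∈ NN P ⊓ NN Q, c * k * c⁻¹ ∈ NN P ⊓ NN Q := by
    intro c hc k hk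
    have hc' : c⁻¹ ∈ CC z := inv_mem hc
    have key : ∀ X : Sylow 3 G, Inverts z (X : Subgroup G) → (c * k * c⁻¹) • X = X := by
      intro X hX
      rw [mul_smul, mul_smul, hKall k hk _ (inverts_smul_of_mem_CC hX hc'), smul_inv_smul]
    exact ⟨mem_NN_iff.mpr (key P hzP), mem_NN_iff.mpr (key Q hzQ)⟩
  obtain ⟨d, hdC, hd3⟩ := exists_order_three h hzP.1
  -- the involutions of `K` other than `z`
  obtain ⟨J, hJ⟩ : ∃ J : Set G, J = {w : G | w ∈ NN P ⊓ NN Q ∧ orderOf w = 2 ∧ w ≠ z} := ⟨_, rfl⟩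
  have hJstab : ∀ a ∈ J, d * a * d⁻¹ ∈ J := by
    intro a haJ
    rw [hJ] at haJ ⊢
    obtain ⟨ha1, ha2, ha3⟩ := haJ
    refine ⟨hnorm d hdC a ha1, by rw [orderOf_conj_eq]; exact ha2, ?_⟩
    intro h1
    apply ha3
    have h2 : d⁻¹ * (d * a * d⁻¹) * d = a := by group
    rw [← h2, h1]
    have h3 := mem_CC_iff.mp (inv_mem hdC : d⁻¹ ∈ CC z)
    rw [inv_inv] at h3
    exact h3
  have hcong := card_conj_modEq (p := 3) d hd3 J hJstab
  -- no fixed points
  have hE2 : Nat.card ↥((NN P ⊓ NN Q) ⊓ CC d : Subgroup G) ∣ 2 := by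
    have h6 : Nat.card ↥((NN P ⊓ NN Q) ⊓ CC d : Subgroup G) ∣ 8 := by
      rw [← hcardK]
      exact Subgroup.card_dvd_of_le inf_le_left
    have h7 : Nat.card ↥((NN P ⊓ NN Q) ⊓ CC d : Subgroup G) ∣ 18 := by
      rw [← h.c3 d hd3]
      exact Subgroup.card_dvd_of_le inf_le_right
    have := Nat.dvd_gcd h6 h7
    norm_num at this
    exact this
  have hzE : z ∈ ((NN P ⊓ NN Q) ⊓ CC d : Subgroup G) := ⟨hzK, mem_CC_symm hdC⟩
  have hE : Nat.card ↥((NN P ⊓ NN Q) ⊓ CC d : Subgroup G) = 2 := by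
    rcases (Nat.dvd_prime Nat.prime_two).mp hE2 with h1 | h1
    · exfalso
      have h2 := Subgroup.eq_bot_of_card_eq _ h1
      rw [h2, Subgroup.mem_bot] at hzE
      exact hz1 hzE
    · exact h1
  have hfix : IsEmpty {a : G // a ∈ J ∧ d * a * d⁻¹ = a} := by
    refine ⟨fun a => ?_⟩
    obtain ⟨a, haJ, had⟩ := a
    rw [hJ] at haJ
    obtain ⟨ha1, ha2, ha3⟩ := haJ
    have haE : a ∈ ((NN P ⊓ NN Q) ⊓ CC d : Subgroup G) := by
      refine Subgroup.mem_inf.mpr ⟨ha1, ?_⟩
      rw [mem_CC_iff]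
      have h8 : d * a = a * d := mul_inv_eq_iff_eq_mul.mp had
      rw [← h8]; group
    have ha0 : a ≠ 1 := by
      rintro rfl
      rw [orderOf_one] at ha2
      omega
    exact ha3 (eq_of_card_two _ hE haE hzE ha0 hz1)
  have hfix0 : Nat.card {a : G // a ∈ J ∧ d * a * d⁻¹ = a} = 0 := Nat.card_of_isEmpty
  rw [hfix0] at hcong
  -- parity
  have hpar := card_sq_one_modEq (NN P ⊓ NN Q : Subgroup G)
  rw [hcardK] at hpar
  have hIJ : {g : G | g ∈ NN P ⊓ NN Q ∧ g * g = 1} = insert 1 (insert z J) := by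
    ext g
    rw [Set.mem_insert_iff, Set.mem_insert_iff, hJ]
    constructor
    · rintro ⟨hg1, hg2⟩
      by_cases hg0 : g = 1
      · exact Or.inl hg0
      · by_cases hgz : g = z
        · exact Or.inr (Or.inl hgz)
        · refine Or.inr (Or.inr ⟨hg1, ?_, hgz⟩)
          have h1 : orderOf g ∣ 2 := orderOf_dvd_of_pow_eq_one (by rw [pow_two]; exact hg2)
          rcases (Nat.dvd_prime Nat.prime_two).mp h1 with h2 | h2
          · exact absurd (orderOf_eq_one_iff.mp h2) hg0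
          · exact h2
    · rintro (rfl | rfl | ⟨hg1, hg2, -⟩)
      · exact ⟨one_mem _, one_mul 1⟩
      · exact ⟨hzK, hzz⟩
      · exact ⟨hg1, mul_self_of_orderOf_two hg2⟩
  have hJfin : J.Finite := Set.toFinite J
  have hzJ : z ∉ J := by
    rw [hJ]
    rintro ⟨-, -, h1⟩
    exact h1 rfl
  have h1J : (1 : G) ∉ insert z J := by
    rw [Set.mem_insert_iff, hJ]
    rintro (h1 | ⟨-, h1, -⟩)
    · exact hz1 h1.symm
    · rw [orderOf_one] at h1
      omega
  have hcardI : Nat.card {g : G // g ∈ NN P ⊓ NN Q ∧ g * g = 1} = J.ncard + 2 := by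
    have h1 : Nat.card {g : G // g ∈ NN P ⊓ NN Q ∧ g * g = 1} =
        ({g : G | g ∈ NN P ⊓ NN Q ∧ g * g = 1}).ncard := by
      rw [← Nat.card_coe_set_eq]
      rfl
    rw [h1, hIJ, Set.ncard_insert_of_notMem h1J (hJfin.insert z),
      Set.ncard_insert_of_notMem hzJ hJfin]
  have hIle : Nat.card {g : G // g ∈ NN P ⊓ NN Q ∧ g * g = 1} ≤ 8 := by
    rw [← hcardK]
    exact Nat.card_le_card_of_injective
      (fun g : {g : G // g ∈ NN P ⊓ NN Q ∧ g * g = 1} => (⟨g.1, g.2.1⟩ : ↥(NN P ⊓ NN Q : Subgroup G)))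
      (by
        intro a b hab
        apply Subtype.ext
        exact congrArg (fun x : ↥(NN P ⊓ NN Q : Subgroup G) => (x : G)) hab)
  have hJcard : Nat.card J = J.ncard := Nat.card_coe_set_eq J
  rw [hJcard] at hcong
  rw [hcardI] at hpar hIle
  have hJ06 : J.ncard = 0 ∨ J.ncard = 6 := by
    rw [Nat.ModEq] at hcong hpar
    omega
  intro w hwK hw2
  by_contra hwz
  have hwJ : w ∈ J := by rw [hJ]; exact ⟨hwK, hw2, hwz⟩
  have hJne : J.ncard ≠ 0 := by
    intro h0
    rw [Set.ncard_eq_zero hJfin] at h0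
    rw [h0] at hwJ
    exact hwJ
  have hJ6 : J.ncard = 6 := by
    rcases hJ06 with h0 | h6
    · exact absurd h0 hJne
    · exact h6
  -- every element of `K` squares to `1`
  have hsq : ∀ g ∈ NN P ⊓ NN Q, g * g = 1 := by
    have hsub : {g : G | g ∈ NN P ⊓ NN Q ∧ g * g = 1} ⊆ ((NN P ⊓ NN Q : Subgroup G) : Set G) :=
      fun g hg => hg.1
    have h1 : ((NN P ⊓ NN Q : Subgroup G) : Set G).ncard = 8 := by
      rw [← Nat.card_coe_set_eq]
      exact hcardK
    have h2 : ({g : G | g ∈ NN P ⊓ NN Q ∧ g * g = 1}).ncard = 8 := by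
      rw [hIJ, Set.ncard_insert_of_notMem h1J (hJfin.insert z),
        Set.ncard_insert_of_notMem hzJ hJfin, hJ6]
    have h3 := Set.eq_of_subset_of_ncard_le hsub (by rw [h1, h2]) (Set.toFinite _)
    intro g hg
    have h4 : g ∈ {g : G | g ∈ NN P ⊓ NN Q ∧ g * g = 1} := by rw [h3]; exact hg
    exact h4.2
  -- `K` is abelian
  have hcomm : ∀ a ∈ NN P ⊓ NN Q, ∀ b ∈ NN P ⊓ NN Q, a * b = b * a := by
    intro a ha' b hb'
    have h1 := hsq (a * b) (mul_mem ha' hb')
    have h2 := hsq a ha'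
    have h3 := hsq b hb'
    calc a * b = (a * b) * ((b * a) * (b * a))⁻¹ * ((b * a) * (b * a)) := by group
      _ = (a * b) * ((b * a) * (b * a))⁻¹ * (b * (a * b) * a) := by group
      _ = b * a := by
        rw [hsq (b * a) (mul_mem hb' ha')]
        have h5 : b * (a * b) * a = (b * a) * (b * a) := by group
        rw [h5, hsq (b * a) (mul_mem hb' ha')]
        simp
        -- a * b = b * a from (ab)(ab) = 1
        have h6 : a * b = (a * b)⁻¹ := eq_inv_of_mul_eq_one_left h1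
        have h7 : a⁻¹ = a := inv_eq_of_mul_eq_one_left h2
        have h8 : b⁻¹ = b := inv_eq_of_mul_eq_one_left h3
        rw [h6, mul_inv_rev, h7, h8]
  -- `w` inverts `P`
  have hwInv : Inverts w (P : Subgroup G) :=
    hL P (NN P ⊓ NN Q) inf_le_left ⟨3, by rw [hcardK]; norm_num⟩ (by rw [hcardK]) w hwK hw2
      (fun g hg => hcomm g hg w hwK)
  -- `w * z` centralizes `P`
  have hwzP : w * z ∈ (P : Subgroup G) := by
    rw [← hp.cent P, mem_centralizer_iff]
    intro y hy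
    have h1 := hzP.2 y hy
    have h2 := hwInv.2 y⁻¹ (inv_mem hy)
    rw [inv_inv] at h2
    -- w z y z⁻¹ w⁻¹ = y
    have h3 : w * z * y = y * (w * z) := by
      have h4 : w * z * y * (w * z)⁻¹ = y := by
        have : w * z * y * (w * z)⁻¹ = w * (z * y * z⁻¹) * w⁻¹ := by group
        rw [this, h1, h2]
      exact mul_inv_eq_iff_eq_mul.mp h4
    exact h3.symm
  have h3 := hp.exp3 P _ hwzP
  have h2 := hsq (w * z) (mul_mem hwK hzK)
  have h1 : w * z = 1 := by
    calc w * z = (w * z) ^ 3 * ((w * z) * (w * z))⁻¹ := by rw [pow_succ, pow_two]; group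
      _ = 1 := by rw [h3, h2]; simp
  apply hwz
  have h4 : w = z⁻¹ := eq_inv_of_mul_eq_one_left h1
  rw [h4]
  exact inv_eq_of_mul_eq_one_left hzz

/-- Package A4c. -/
theorem A4c (h : Loc G) (hp : LocP G) (hL : LInvStmt G) (hi : InvP G) (ha : TriA G) (hb : TriB G) :
    TriC G := by
  refine ⟨?_, ?_⟩
  · intro P Q z hPQ hzP hzQ
    exact invK_aux h hp hL hi ha hb hPQ hzP hzQ
  · rintro P Q ⟨hPQ, z, hzP, hzQ⟩ k hk y hy hy1 hky
    by_contra hk1
    have hcardK : Nat.card ↥(NN P ⊓ NN Q : Subgroup G) = 8 := hb.cardK P Q ⟨hPQ, z, hzP, hzQ⟩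
    have hy3 : orderOf y = 3 := by
      have h1 : orderOf y ∣ 3 := orderOf_dvd_of_pow_eq_one (hp.exp3 P y hy)
      rcases (Nat.dvd_prime Nat.prime_three).mp h1 with h2 | h2
      · exact absurd (orderOf_eq_one_iff.mp h2) hy1
      · exact h2
    have hkC : k ∈ CC y := by
      rw [mem_centralizer_singleton_iff]
      exact hky
    have h1 : orderOf k ∣ 8 := by
      rw [← hcardK]
      have := orderOf_dvd_natCard (⟨k, hk⟩ : ↥(NN P ⊓ NN Q : Subgroup G))
      rwa [Subgroup.orderOf_mk] at this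
    have h2 : orderOf k ∣ 18 := by
      rw [← h.c3 y hy3]
      have := orderOf_dvd_natCard (⟨k, hkC⟩ : ↥(CC y))
      rwa [Subgroup.orderOf_mk] at this
    have h3 : orderOf k ∣ 2 := by
      have := Nat.dvd_gcd h1 h2
      norm_num at this
      exact this
    have h4 : orderOf k = 2 := by
      rcases (Nat.dvd_prime Nat.prime_two).mp h3 with h5 | h5
      · exact absurd (orderOf_eq_one_iff.mp h5) hk1
      · exact h5
    have h5 := invK_aux h hp hL hi ha hb hPQ hzP hzQ k hk h4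
    rw [h5] at hky
    have h6 := hzP.2 y hy
    rw [hky, mul_inv_cancel_right] at h6
    -- y = y⁻¹ and y³ = 1
    have h7 : y * y = 1 := by
      calc y * y = y * y⁻¹ := by rw [← h6]
        _ = 1 := mul_inv_cancel y
    have h8 := hp.exp3 P y hy
    apply hy1
    calc y = y ^ 3 * (y * y)⁻¹ := by rw [pow_succ, pow_two]; group
      _ = 1 := by rw [h8, h7]; simp

end main

end Cfsg.Agent.Lib.Helper52_M11U_A4c
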