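import Mathlib
import Cfsg.Agent.Lib.Helper53_M11Defs

set_option autoImplicit false

namespace Cfsg.Agent.Lib.Helper52_M11_N5S

open Cfsg.Agent.Lib.Helper53_M11Defs

variable {G : Type*} [Group G] [Finite G]

lemma fact5 : Fact (Nat.Prime 5) := ⟨by norm_num⟩

lemma card_sylow5 (h : M11Facts G) (P : Sylow 5 G) : Nat.card (P : Subgroup G) = 5 := by
  have := fact5
  rw [Sylow.card_eq_multiplicity, h.card]
  have h1 : (7920 : ℕ) = 5 ^ 1 * 1584 := by norm_num
  have h2 : Nat.factorization 7920 5 = 1 := by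
    rw [h1, Nat.factorization_mul (by norm_num) (by norm_num), Nat.Prime.factorization_pow (by norm_num)]
    simp only [Finsupp.coe_add, Pi.add_apply]
    rw [Nat.factorization_eq_zero_of_not_dvd (by norm_num)]
    simp
  rw [h2]
  norm_num

omit [Finite G] in
lemma conj_pow_iter (n x : G) (a : ℕ) (h : n * x * n⁻¹ = x ^ a) (i : ℕ) :
    n ^ i * x * (n ^ i)⁻¹ = x ^ (a ^ i) := by
  induction i with
  | zero => simp
  | succ i ih =>
    have h1 : n ^ (i + 1) * x * (n ^ (i + 1))⁻¹ = n * (n ^ i * x * (n ^ i)⁻¹) * n⁻¹ := by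
      rw [pow_succ']; group
    rw [h1, ih, ← conj_pow, h, ← pow_mul, pow_succ']

/-- M11-N5S: the structure `5:4` of a Sylow 5-normalizer. -/
theorem N5S (h : M11Facts G) (P : Sylow 5 G) :
    ∃ u : G, orderOf u = 4 ∧ u ∈ Subgroup.normalizer ((P : Subgroup G) : Set G) ∧
      (∀ x ∈ (P : Subgroup G), u ^ 2 * x * (u ^ 2)⁻¹ = x⁻¹) ∧
      (∀ g ∈ Subgroup.normalizer ((P : Subgroup G) : Set G), g * u ^ 2 = u ^ 2 * g →
        g ∈ Subgroup.zpowers u) := by
  classical
  have := fact5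
  have hP5 : Nat.card (P : Subgroup G) = 5 := card_sylow5 h P
  obtain ⟨hN20, hCP⟩ := h.s5 P
  set N : Subgroup G := Subgroup.normalizer ((P : Subgroup G) : Set G) with hN
  have hPN : (P : Subgroup G) ≤ N := Subgroup.le_normalizer
  -- a generator of `P`
  have hex : ∃ x ∈ (P : Subgroup G), x ≠ 1 := by
    by_contra hcon
    push Not at hcon
    have hbot : (P : Subgroup G) = ⊥ := by
      rw [Subgroup.eq_bot_iff_forall]
      exact hcon
    rw [hbot, Subgroup.card_bot] at hP5
    norm_num at hP5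
  obtain ⟨x, hxP, hx1⟩ := hex
  have hox : orderOf x = 5 := by
    have h1 : orderOf x ∣ 5 := by
      have := Subgroup.orderOf_dvd_natCard (P : Subgroup G) hxP
      rwa [hP5] at this
    rcases (Nat.dvd_prime (by norm_num : Nat.Prime 5)).1 h1 with h2 | h2
    · exact absurd (orderOf_eq_one_iff.1 h2) hx1
    · exact h2
  have hx5 : x ^ 5 = 1 := by rw [← hox]; exact pow_orderOf_eq_one x
  have hzP : Subgroup.zpowers x = (P : Subgroup G) := by
    apply Subgroup.eq_of_le_of_card_ge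
    · rw [Subgroup.zpowers_le]; exact hxP
    · rw [Nat.card_zpowers, hox, hP5]
  -- the centralizer of `x` is `P`
  have hCx : ∀ g : G, g * x = x * g → g ∈ (P : Subgroup G) := by
    intro g hg
    rw [← hCP, Subgroup.mem_centralizer_iff]
    intro y hy
    have hy' : y ∈ Subgroup.zpowers x := by rw [hzP]; exact hy
    obtain ⟨k, rfl⟩ := Subgroup.mem_zpowers_iff.1 hy'
    have hc : Commute g x := hg
    exact (hc.zpow_right k).eq.symm
  have hPcomm : ∀ y ∈ (P : Subgroup G), y * x = x * y := by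
    intro y hy
    have hy' : y ∈ Subgroup.zpowers x := by rw [hzP]; exact hy
    obtain ⟨k, rfl⟩ := Subgroup.mem_zpowers_iff.1 hy'
    exact ((Commute.refl x).zpow_left k).eq
  -- the conjugation action of `N` on `G`
  let f : N →* MulAut G := (MulAut.conj).comp N.subtype
  let _inst : MulAction N G := MulAction.compHom G f
  have hsmul : ∀ (n : N) (y : G), n • y = (n : G) * y * (n : G)⁻¹ := fun n y => rfl
  have horbit_sub : MulAction.orbit N x ⊆ ((P : Subgroup G) : Set G) \ {1} := by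
    rintro y ⟨n, rfl⟩
    show n • x ∈ _
    rw [hsmul]
    refine ⟨(Subgroup.mem_normalizer_iff.1 n.2 x).1 hxP, ?_⟩
    intro h1
    apply hx1
    have h2 : (n : G) * x * (n : G)⁻¹ = 1 := h1
    have h3 : x = (n : G)⁻¹ * ((n : G) * x * (n : G)⁻¹) * (n : G) := by group
    rw [h3, h2]; group
  set K : Subgroup N := MulAction.stabilizer N x with hK
  have hKcard : Nat.card K = 5 := by
    have h1 : Nat.card K = Nat.card (K.map N.subtype) :=
      (Subgroup.card_map_of_injective (Subgroup.subtype_injective N)).symm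
    have h2 : K.map N.subtype = (P : Subgroup G) := by
      apply le_antisymm
      · rintro _ ⟨n, hn, rfl⟩
        have h1 : n • x = x := hn
        rw [hsmul] at h1
        apply hCx
        show (n : G) * x = x * (n : G)
        have h2 : (n : G) * x = (n : G) * x * (n : G)⁻¹ * (n : G) := by group
        rw [h2, h1]
      · intro y hy
        refine ⟨⟨y, hPN hy⟩, ?_, rfl⟩
        show (⟨y, hPN hy⟩ : N) • x = x
        rw [hsmul]
        dsimp only
        rw [hPcomm y hy, mul_inv_cancel_right]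
    rw [h1, h2, hP5]
  have hidx : K.index = 4 := by
    have h1 := Subgroup.index_mul_card K
    rw [hKcard, hN20] at h1
    omega
  have hncard : (MulAction.orbit N x).ncard = 4 := by
    rw [← MulAction.index_stabilizer, ← hK, hidx]
  have hPcard : (((P : Subgroup G) : Set G) \ {1}).ncard = 4 := by
    rw [Set.ncard_sdiff_singleton_of_mem (Subgroup.one_mem _), ← Nat.card_coe_set_eq]
    have : Nat.card ((P : Subgroup G) : Set G) = 5 := hP5
    rw [this]
  have horbit : MulAction.orbit N x = ((P : Subgroup G) : Set G) \ {1} := by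
    apply Set.eq_of_subset_of_ncard_le horbit_sub
    rw [hncard, hPcard]
  -- an element squaring the generator
  have hx2 : x ^ 2 ∈ ((P : Subgroup G) : Set G) \ {1} := by
    refine ⟨Subgroup.pow_mem _ hxP 2, ?_⟩
    intro h1
    have h2 : x ^ 2 = 1 := h1
    have h3 := orderOf_dvd_of_pow_eq_one h2
    rw [hox] at h3
    norm_num at h3
  rw [← horbit] at hx2
  obtain ⟨n, hn⟩ := hx2
  have hn' : (n : G) * x * (n : G)⁻¹ = x ^ 2 := hn
  have hiter := conj_pow_iter (n : G) x 2 hn'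
  -- `u`
  set u : G := (n : G) ^ 5 with hu
  have huN : u ∈ N := N.pow_mem n.2 5
  have hux : u * x * u⁻¹ = x ^ 2 := by
    rw [hu, hiter 5]
    have : (2 : ℕ) ^ 5 = 5 * 6 + 2 := by norm_num
    rw [this, pow_add, pow_mul, hx5, one_pow, one_mul]
  have huiter := conj_pow_iter u x 2 hux
  have hn4 : (n : G) ^ 4 ∈ (P : Subgroup G) := by
    apply hCx
    have h1 := hiter 4
    have : (2 : ℕ) ^ 4 = 5 * 3 + 1 := by norm_num
    rw [this, pow_add, pow_mul, hx5, one_pow, one_mul, pow_one] at h1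
    have h2 : (n : G) ^ 4 * x = (n : G) ^ 4 * x * ((n : G) ^ 4)⁻¹ * (n : G) ^ 4 := by group
    rw [h2, h1]
  have hu4 : u ^ 4 = 1 := by
    have h1 : u ^ 4 = ((n : G) ^ 4) ^ 5 := by rw [hu, ← pow_mul, ← pow_mul]
    rw [h1]
    have h2 := Subgroup.orderOf_dvd_natCard (P : Subgroup G) hn4
    rw [hP5] at h2
    exact orderOf_dvd_iff_pow_eq_one.1 h2
  have hu2x : u ^ 2 * x * (u ^ 2)⁻¹ = x⁻¹ := by
    rw [huiter 2]
    have : (2 : ℕ) ^ 2 = 4 := by norm_num
    rw [this]
    apply eq_inv_of_mul_eq_one_left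
    rw [← pow_succ, hx5]
  have hu2 : u ^ 2 ≠ 1 := by
    intro h1
    rw [h1] at hu2x
    simp only [one_mul, inv_one, mul_one] at hu2x
    have h2 : x ^ 2 = 1 := by
      calc x ^ 2 = x * x := pow_two x
        _ = x * x⁻¹ := by rw [← hu2x]
        _ = 1 := mul_inv_cancel x
    have h3 := orderOf_dvd_of_pow_eq_one h2
    rw [hox] at h3
    norm_num at h3
  have hou : orderOf u = 4 := by
    have := orderOf_eq_prime_pow (x := u) (p := 2) (n := 1) (by simpa using hu2) (by simpa using hu4)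
    simpa using this
  have hinvP : ∀ y ∈ (P : Subgroup G), u ^ 2 * y * (u ^ 2)⁻¹ = y⁻¹ := by
    intro y hy
    have hy' : y ∈ Subgroup.zpowers x := by rw [hzP]; exact hy
    obtain ⟨k, rfl⟩ := Subgroup.mem_zpowers_iff.1 hy'
    rw [← conj_zpow, hu2x, inv_zpow]
  refine ⟨u, hou, huN, hinvP, ?_⟩
  intro g hgN hgu
  -- `g x g⁻¹ = x ^ r`
  have hgx : g * x * g⁻¹ ∈ (P : Subgroup G) := (Subgroup.mem_normalizer_iff.1 hgN x).1 hxP
  have hgx' : g * x * g⁻¹ ∈ Subgroup.zpowers x := by rw [hzP]; exact hgx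
  obtain ⟨k, hk⟩ := Subgroup.mem_zpowers_iff.1 hgx'
  have hk5 : x ^ (k % 5) = g * x * g⁻¹ := by
    rw [← hk]
    have := zpow_mod_orderOf x k
    rw [hox] at this
    exact_mod_cast this
  have hr0 : 0 ≤ k % 5 := Int.emod_nonneg k (by norm_num)
  have hr5 : k % 5 < 5 := Int.emod_lt_of_pos k (by norm_num)
  have hgx1 : g * x * g⁻¹ ≠ 1 := by
    intro h1
    apply hx1
    have h3 : x = g⁻¹ * (g * x * g⁻¹) * g := by group
    rw [h3, h1]; group
  -- choose `i`
  have hi : ∃ i : ℕ, u ^ i * x * (u ^ i)⁻¹ = g * x * g⁻¹ := by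
    obtain ⟨r, hr⟩ : ∃ r : ℕ, k % 5 = (r : ℤ) := ⟨(k % 5).toNat, (Int.toNat_of_nonneg hr0).symm⟩
    rw [hr, zpow_natCast] at hk5
    have hr5' : r < 5 := by omega
    interval_cases r
    · exact absurd hk5.symm (by simpa using hgx1)
    · exact ⟨0, by rw [huiter 0, ← hk5]; norm_num⟩
    · exact ⟨1, by rw [huiter 1, ← hk5]; norm_num⟩
    · refine ⟨3, ?_⟩
      rw [huiter 3, ← hk5]
      have : (2 : ℕ) ^ 3 = 5 * 1 + 3 := by norm_num
      rw [this, pow_add, pow_mul, hx5, one_pow, one_mul]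
    · exact ⟨2, by rw [huiter 2, ← hk5]; norm_num⟩
  obtain ⟨i, hi⟩ := hi
  set w : G := (u ^ i)⁻¹ * g with hw
  have hwP : w ∈ (P : Subgroup G) := by
    apply hCx
    have h1 : w * x * w⁻¹ = x := by
      have : w * x * w⁻¹ = (u ^ i)⁻¹ * (g * x * g⁻¹) * (u ^ i) := by rw [hw]; group
      rw [this, ← hi]; group
    have h2 : w * x = w * x * w⁻¹ * w := by group
    rw [h2, h1]
  have hgw : g = u ^ i * w := by rw [hw]; group
  -- `w` commutes with `u ^ 2`
  have hwu : u ^ 2 * w * (u ^ 2)⁻¹ = w := by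
    have h1 : u ^ 2 * u ^ i = u ^ i * u ^ 2 := by rw [← pow_add, ← pow_add, add_comm]
    have h2 : u ^ i * w * u ^ 2 = u ^ 2 * (u ^ i * w) := by rw [← hgw]; exact hgu
    have h3 : u ^ i * (w * u ^ 2) = u ^ i * (u ^ 2 * w) := by
      calc u ^ i * (w * u ^ 2) = u ^ i * w * u ^ 2 := (mul_assoc _ _ _).symm
        _ = u ^ 2 * (u ^ i * w) := h2
        _ = u ^ 2 * u ^ i * w := (mul_assoc _ _ _).symm
        _ = u ^ i * u ^ 2 * w := by rw [h1]
        _ = u ^ i * (u ^ 2 * w) := mul_assoc _ _ _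
    have h4 : w * u ^ 2 = u ^ 2 * w := mul_left_cancel h3
    rw [← h4, mul_inv_cancel_right]
  have hw1 : w = 1 := by
    have h1 := hinvP w hwP
    rw [hwu] at h1
    have h2 : w ^ 2 = 1 := by
      rw [pow_two]
      nth_rewrite 2 [h1]
      exact mul_inv_cancel w
    have h3 := Subgroup.orderOf_dvd_natCard (P : Subgroup G) hwP
    rw [hP5] at h3
    have h4 := orderOf_dvd_of_pow_eq_one h2
    have h5 : orderOf w ∣ Nat.gcd 5 2 := Nat.dvd_gcd h3 h4
    have h6 : orderOf w = 1 := by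
      have : Nat.gcd 5 2 = 1 := by norm_num
      rw [this] at h5
      exact Nat.dvd_one.1 h5
    exact orderOf_eq_one_iff.1 h6
  rw [hgw, hw1, mul_one]
  exact Subgroup.pow_mem _ (Subgroup.mem_zpowers u) i

end Cfsg.Agent.Lib.Helper52_M11_N5S
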