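import Mathlib
import Cfsg.Agent.Lib.Helper53_M11Defs

set_option autoImplicit false

namespace Cfsg.Agent.Lib.Helper52_M11_T2

open Cfsg.Agent.Lib.Helper53_M11Defs

variable {G : Type*} [Group G] [Finite G]

lemma fact3 : Fact (Nat.Prime 3) := ⟨by norm_num⟩

lemma card_sylow3 (h : M11Facts G) (P : Sylow 3 G) : Nat.card (P : Subgroup G) = 9 := by
  have := fact3
  rw [Sylow.card_eq_multiplicity, h.card]
  have h1 : (7920 : ℕ) = 3 ^ 2 * 880 := by norm_num
  have h2 : Nat.factorization 7920 3 = 2 := by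
    rw [h1, Nat.factorization_mul (by norm_num) (by norm_num), Nat.Prime.factorization_pow (by norm_num)]
    simp only [Finsupp.coe_add, Pi.add_apply]
    rw [Nat.factorization_eq_zero_of_not_dvd (by norm_num)]
    simp
  rw [h2]
  norm_num

/-- M11-T2: Sylow 3-normalizers have order 144. -/
theorem T2 (h : M11Facts G)
    (h3 : (∀ y y' : G, orderOf y = 3 → orderOf y' = 3 → IsConj y y') ∧
      (∀ y : G, orderOf y = 3 → Nat.card (Subgroup.centralizer ({y} : Set G)) = 18) ∧
      (∀ g : G, orderOf g ≠ 9))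
    (P : Sylow 3 G) :
    Nat.card (Subgroup.normalizer ((P : Subgroup G) : Set G)) = 144 := by
  classical
  have := fact3
  obtain ⟨hconj, hcent, hno9⟩ := h3
  have hP9 : Nat.card (P : Subgroup G) = 9 := card_sylow3 h P
  set N : Subgroup G := Subgroup.normalizer ((P : Subgroup G) : Set G) with hN
  have hPN : (P : Subgroup G) ≤ N := Subgroup.le_normalizer
  -- `P` is abelian
  have hcomm : ∀ a ∈ (P : Subgroup G), ∀ b ∈ (P : Subgroup G), a * b = b * a := by
    intro a ha b hb
    have := (IsPGroup.isMulCommutative_of_card_eq_prime_sq (p := 3) (G := (P : Subgroup G))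
      (by rw [hP9]; norm_num)).is_comm.comm ⟨a, ha⟩ ⟨b, hb⟩
    exact congrArg Subtype.val this
  have hPcent : (P : Subgroup G) ≤ Subgroup.centralizer ((P : Subgroup G) : Set G) := by
    intro a ha
    rw [Subgroup.mem_centralizer_iff]
    intro b hb
    exact hcomm b hb a ha
  -- nonidentity elements of `P` have order 3
  have hord : ∀ y ∈ (P : Subgroup G), y ≠ 1 → orderOf y = 3 := by
    intro y hy hy1
    have h1 : orderOf y ∣ 9 := by
      have := Subgroup.orderOf_dvd_natCard (P : Subgroup G) hy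
      rwa [hP9] at this
    have h2 : orderOf y ∈ Nat.divisors 9 := Nat.mem_divisors.2 ⟨h1, by norm_num⟩
    have h3 : Nat.divisors 9 = {1, 3, 9} := by decide
    rw [h3] at h2
    simp only [Finset.mem_insert, Finset.mem_singleton] at h2
    rcases h2 with h2 | h2 | h2
    · exact absurd (orderOf_eq_one_iff.1 h2) hy1
    · exact h2
    · exact absurd h2 (hno9 y)
  -- a nonidentity element
  have hex : ∃ y₀ ∈ (P : Subgroup G), y₀ ≠ 1 := by
    by_contra hcon
    push Not at hcon
    have hbot : (P : Subgroup G) = ⊥ := by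
      rw [Subgroup.eq_bot_iff_forall]
      exact hcon
    rw [hbot, Subgroup.card_bot] at hP9
    norm_num at hP9
  obtain ⟨y₀, hy₀P, hy₀1⟩ := hex
  -- the conjugation action of `N` on `G`
  let f : N →* MulAut G := (MulAut.conj).comp N.subtype
  let _inst : MulAction N G := MulAction.compHom G f
  have hsmul : ∀ (n : N) (x : G), n • x = (n : G) * x * (n : G)⁻¹ := fun n x => rfl
  -- the orbit of `y₀`
  have horbit : MulAction.orbit N y₀ = ((P : Subgroup G) : Set G) \ {1} := by
    ext y
    constructor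
    · rintro ⟨n, rfl⟩
      show n • y₀ ∈ _
      rw [hsmul]
      refine ⟨?_, ?_⟩
      · exact (Subgroup.mem_normalizer_iff.1 n.2 y₀).1 hy₀P
      · intro h1
        apply hy₀1
        have h2 : (n : G) * y₀ * (n : G)⁻¹ = 1 := h1
        have h3 : y₀ = (n : G)⁻¹ * ((n : G) * y₀ * (n : G)⁻¹) * (n : G) := by group
        rw [h3, h2]; group
    · rintro ⟨hyP, hy1⟩
      have hy1' : y ≠ 1 := hy1
      obtain ⟨g, hg⟩ := isConj_iff.1 (hconj y₀ y (hord y₀ hy₀P hy₀1) (hord y hyP hy1'))
      -- `g * y₀ * g⁻¹ = y`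
      have hg' : (g⁻¹)⁻¹ * y₀ * g⁻¹ = y := by rw [inv_inv]; exact hg
      obtain ⟨n, hn, hn2⟩ := Sylow.conj_eq_normalizer_conj_of_mem_centralizer P y₀ g⁻¹ (hPcent hy₀P)
        (by rw [hg']; exact hPcent hyP)
      refine ⟨⟨n⁻¹, N.inv_mem hn⟩, ?_⟩
      show (⟨n⁻¹, N.inv_mem hn⟩ : N) • y₀ = y
      rw [hsmul]
      simp only [inv_inv]
      rw [← hn2, hg']
  have hncard : (MulAction.orbit N y₀).ncard = 8 := by
    rw [horbit, Set.ncard_sdiff_singleton_of_mem (Subgroup.one_mem _), ← Nat.card_coe_set_eq]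
    have : Nat.card ((P : Subgroup G) : Set G) = 9 := hP9
    rw [this]
  -- the stabilizer
  set K : Subgroup N := MulAction.stabilizer N y₀ with hK
  have hidx : K.index = 8 := by rw [hK, MulAction.index_stabilizer, hncard]
  have hcardN : Nat.card N = 8 * Nat.card K := by rw [← hidx, Subgroup.index_mul_card]
  set K' : Subgroup G := K.map N.subtype with hK'
  have hKK' : Nat.card K = Nat.card K' := by
    rw [hK']
    exact (Subgroup.card_map_of_injective (Subgroup.subtype_injective N)).symm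
  have hK'le : K' ≤ Subgroup.centralizer ({y₀} : Set G) := by
    rintro _ ⟨n, hn, rfl⟩
    have h1 : n • y₀ = y₀ := hn
    rw [hsmul] at h1
    rw [Subgroup.mem_centralizer_singleton_iff]
    show (n : G) * y₀ = y₀ * (n : G)
    have h2 : (n : G) * y₀ = (n : G) * y₀ * (n : G)⁻¹ * (n : G) := by group
    rw [h2, h1]
  have hPK' : (P : Subgroup G) ≤ K' := by
    intro a ha
    refine ⟨⟨a, hPN ha⟩, ?_, rfl⟩
    show (⟨a, hPN ha⟩ : N) • y₀ = y₀
    rw [hsmul]
    dsimp only
    rw [hcomm a ha y₀ hy₀P, mul_inv_cancel_right]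
  have hd1 : Nat.card K' ∣ 18 := by
    rw [← hcent y₀ (hord y₀ hy₀P hy₀1)]
    exact Subgroup.card_dvd_of_le hK'le
  have hd2 : 9 ∣ Nat.card K' := by
    rw [← hP9]
    exact Subgroup.card_dvd_of_le hPK'
  have hk : Nat.card K' = 9 ∨ Nat.card K' = 18 := by
    have h2 : Nat.card K' ∈ Nat.divisors 18 := Nat.mem_divisors.2 ⟨hd1, by norm_num⟩
    have h3 : Nat.divisors 18 = {1, 2, 3, 6, 9, 18} := by decide
    rw [h3] at h2
    simp only [Finset.mem_insert, Finset.mem_singleton] at h2
    rcases h2 with h2 | h2 | h2 | h2 | h2 | h2 <;> rw [h2] at hd2 <;> omega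
  -- Sylow counting
  have hmod : Nat.card (Sylow 3 G) ≡ 1 [MOD 3] := card_sylow_modEq_one 3 G
  rw [Sylow.card_eq_index_normalizer P] at hmod
  have hmod' : N.index ≡ 1 [MOD 3] := hmod
  have hidxN : N.index * Nat.card N = 7920 := by rw [Subgroup.index_mul_card, h.card]
  rw [hcardN, hKK'] at hidxN ⊢
  rcases hk with hk | hk
  · exfalso
    rw [hk] at hidxN
    have : N.index = 110 := by omega
    rw [this] at hmod'
    exact absurd hmod' (by decide)
  · rw [hk]

end Cfsg.Agent.Lib.Helper52_M11_T2
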