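import Mathlib
import Cfsg.Agent.Lib.Helper73_MGDefs

set_option autoImplicit false

/-!
# Marggraf's theorem (S3620), package QP-BLOCK (helper73's market `mg_packages`):
a transitive, not primitive action of a finite group on a finite set has a nontrivial block `B` such
that the action on the block system `orbit G B` is primitive.
-/

namespace Cfsg.Agent.Lib.Helper52_MG_QPBLOCK

open Cfsg.Agent.Lib.Helper73_MG
open MulAction Equiv
open scoped Pointwise

universe u v
variable {G : Type u} {Ω : Type v} [Group G] [MulAction G Ω]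

/-- the stabiliser of a point of the orbit, as an element of the orbit -/
theorem h52_stab_orbit (B : Set Ω) :
    stabilizer G (⟨B, mem_orbit_self B⟩ : orbit G B) = stabilizer G B := by
  ext g
  rw [mem_stabilizer_iff, mem_stabilizer_iff, Subtype.ext_iff]
  rfl

/-- QP-BLOCK -/
theorem exists_max_block [Finite G] [Finite Ω] [IsPretransitive G Ω]
    (hnp : ¬ IsPreprimitive G Ω) :
    ∃ B : Set Ω, IsBlock G B ∧ 1 < B.ncard ∧ B ≠ Set.univ ∧ IsPreprimitive G (orbit G B) := by
  -- `Ω` is nontrivial
  have hnt : Nontrivial Ω := by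
    by_contra hcon
    rw [not_nontrivial_iff_subsingleton] at hcon
    exact hnp IsPreprimitive.of_subsingleton
  obtain ⟨a⟩ : Nonempty Ω := inferInstance
  have hnc : ¬ IsCoatom (stabilizer G a) := fun hc =>
    hnp ((isCoatom_stabilizer_iff_preprimitive G a).mp hc)
  have hne : stabilizer G a ≠ ⊤ := by
    intro htop
    obtain ⟨b, hb⟩ := exists_ne a
    obtain ⟨g, hg⟩ := exists_smul_eq G a b
    have : g ∈ stabilizer G a := by rw [htop]; exact Subgroup.mem_top g
    exact hb (hg.symm.trans this)
  obtain ⟨H, hH, hle⟩ := (eq_top_or_exists_le_coatom (stabilizer G a)).resolve_left hne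
  have hHne : stabilizer G a ≠ H := fun h => hnc (h ▸ hH)
  have hstab : stabilizer G (orbit H a) = H := stabilizer_orbit_eq hle
  have hblock : IsBlock G (orbit H a) := IsBlock.of_orbit hle
  have hBne : (orbit H a) ≠ Set.univ := by
    intro h
    have h1 : stabilizer G (orbit H a) = ⊤ := by
      rw [h]
      ext g
      simp
    rw [hstab] at h1
    exact hH.1 h1
  refine ⟨orbit H a, hblock, ?_, hBne, ?_⟩
  · -- two points
    obtain ⟨h, hhH, hha⟩ : ∃ h ∈ H, h ∉ stabilizer G a := by
      by_contra hcon
      push Not at hcon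
      exact hHne (le_antisymm hle hcon)
    rw [Set.one_lt_ncard (Set.toFinite _)]
    refine ⟨a, mem_orbit_self a, h • a, ⟨⟨h, hhH⟩, rfl⟩, ?_⟩
    intro heq
    exact hha heq.symm
  · -- the action on the block system
    have hnt' : Nontrivial (orbit G (orbit H a)) := by
      obtain ⟨g, hg⟩ : ∃ g : G, g ∉ H := by
        by_contra hcon
        push Not at hcon
        exact hH.1 (eq_top_iff.mpr fun g _ => hcon g)
      refine ⟨⟨⟨orbit H a, mem_orbit_self _⟩, ⟨g • orbit H a, mem_orbit _ g⟩, ?_⟩⟩
      intro heq
      apply hg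
      rw [← hstab, mem_stabilizer_iff]
      exact (Subtype.ext_iff.mp heq).symm
    rw [← isCoatom_stabilizer_iff_preprimitive G
      (⟨orbit H a, mem_orbit_self _⟩ : orbit G (orbit H a)), h52_stab_orbit, hstab]
    exact hH

end Cfsg.Agent.Lib.Helper52_MG_QPBLOCK
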