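import Mathlib
import Cfsg.Agent.Lib.Helper75_MI3MDefs

set_option autoImplicit false
set_option linter.unusedSectionVars false
set_option linter.unusedVariables false

/-!
MI3M-FREECNT (helper75's market, S2147 q = 3 slice): the free points of `U_v` form exactly one regular orbit.
-/

namespace Cfsg.Agent.Lib.Helper52_MI3M_FREECNT

open Module Cfsg.Agent.Lib.Helper14_OmegaSimple Cfsg.Agent.Lib.Helper22_MI2Defs
  Cfsg.Agent.Lib.Helper44_MI3Defs Cfsg.Agent.Lib.Helper75_MI3MDefs Cfsg.Agent.Lib.Helper94_OrthSmall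

universe u

variable {F V : Type*} [Field F] [AddCommGroup V] [Module F V]

section action

variable {X : Type*} [MulAction (V ≃ₗ[F] V) X]

/-- freeness is transported by isometries -/
theorem free_conj (Q : QuadraticForm F V) {g : V ≃ₗ[F] V} (hg : g ∈ oG (⇑Q)) {v : V} (hv : Q v = 0)
    {ω : X} (h : FreeAt Q v ω) : FreeAt Q (g v) (g • ω) := by
  intro w hw hfix
  have hw0 : QuadraticMap.polar (⇑Q) v (g.symm w) = 0 := by
    rw [← oG_polar Q hg, LinearEquiv.apply_symm_apply]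
    exact hw
  have hc := conj_E Q hg hv hw0
  rw [LinearEquiv.apply_symm_apply] at hc
  rw [← hc, mul_smul, mul_smul, inv_smul_smul] at hfix
  have h1 : E Q v (g.symm w) • ω = ω := smul_left_cancel g hfix
  have h2 := h _ hw0 h1
  obtain ⟨a, ha⟩ := Submodule.mem_span_singleton.mp h2
  rw [Submodule.mem_span_singleton]
  refine ⟨a, ?_⟩
  rw [← map_smul, ha, LinearEquiv.apply_symm_apply]

/-- freeness does not depend on the scaling of the singular vector -/
theorem free_smul (Q : QuadraticForm F V) {v : V} (hv : Q v = 0) {c : F} (hc : c ≠ 0)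
    {ω : X} (h : FreeAt Q v ω) : FreeAt Q (c • v) ω := by
  intro w hw hfix
  have hw0 : QuadraticMap.polar (⇑Q) v w = 0 := by
    rw [QuadraticMap.polar_smul_left, smul_eq_mul] at hw
    exact (mul_eq_zero.mp hw).resolve_left hc
  rw [E_smul_left Q hv hw0] at hfix
  have hw1 : QuadraticMap.polar (⇑Q) v (c • w) = 0 := by
    rw [QuadraticMap.polar_smul_right, hw0, smul_zero]
  have h2 := h _ hw1 hfix
  obtain ⟨a, ha⟩ := Submodule.mem_span_singleton.mp h2
  rw [Submodule.mem_span_singleton]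
  refine ⟨c⁻¹ * a * c⁻¹, ?_⟩
  have : w = c⁻¹ • (c • w) := by rw [smul_smul, inv_mul_cancel₀ hc, one_smul]
  rw [this, ← ha, smul_smul, smul_smul]
  congr 1
  field_simp

theorem card_free_eq [Finite F] [FiniteDimensional F V] (Q : QuadraticForm F V)
    (hQ : (QuadraticMap.polarBilin Q).Nondegenerate) (hdim : 5 ≤ finrank F V)
    (Ω : Set X) (hΩ : IsOrbit Q Ω)
    (hone : ∀ v v' : V, Q v = 0 → Q v' = 0 → QuadraticMap.polar (⇑Q) v v' = 1 →
      ∀ ω ∈ Ω, ∀ ω' ∈ Ω, FreeAt Q v ω → FreeAt Q v ω' → ∃ w ∈ perp2 Q v v', E Q v w • ω = ω')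
    {v₀ : V} (hv₀ : v₀ ≠ 0) (hQv₀ : Q v₀ = 0) {ω₁ : X} (hω₁ : ω₁ ∈ Ω) (hfree : FreeAt Q v₀ ω₁) :
    ∀ v : V, v ≠ 0 → Q v = 0 →
      {ω ∈ Ω | FreeAt Q v ω}.ncard = Nat.card F ^ (finrank F V - 2) := by
  intro v hv0 hQv
  obtain ⟨g, hgT, c, hc, hgv⟩ := exists_mem_T_map Q hQ hdim hv₀ hQv₀ hv0 hQv
  have hgO : g ∈ oG (⇑Q) := T_le_oG Q hgT
  -- a free point at `v`
  have hfv : FreeAt Q v (g • ω₁) := by
    have h1 := free_conj Q hgO hQv₀ hfree
    rw [hgv] at h1
    have hQcv : Q (c • v) = 0 := by rw [QuadraticMap.map_smul, hQv, smul_zero]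
    have h2 := free_smul Q hQcv (inv_ne_zero hc) h1
    rwa [smul_smul, inv_mul_cancel₀ hc, one_smul] at h2
  have hωv : g • ω₁ ∈ Ω := hΩ.inv g hgT ω₁ hω₁
  obtain ⟨v', hQv', hvv'⟩ := Cfsg.Agent.Lib.Helper44_QuadClass.exists_hyperbolic_partner Q hQ hv0 hQv
  have hpv : ∀ w ∈ perp2 Q v v', QuadraticMap.polar (⇑Q) v w = 0 := fun w hw =>
    ((Cfsg.Agent.Lib.Helper44_QuadClass.mem_perp Q v v').mp hw).1
  -- the orbit map
  have hset : {ω ∈ Ω | FreeAt Q v ω} =
      Set.range (fun w : ↥(perp2 Q v v') => E Q v (w : V) • (g • ω₁)) := by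
    ext ω
    constructor
    · rintro ⟨hω, hf⟩
      obtain ⟨w, hw, hwω⟩ := hone v v' hQv hQv' hvv' _ hωv ω hω hfv hf
      exact ⟨⟨w, hw⟩, hwω⟩
    · rintro ⟨w, rfl⟩
      refine ⟨hΩ.inv _ (E_mem_T Q hQ hdim hQv (hpv _ w.2)) _ hωv, ?_⟩
      intro w' hw' hfix
      have hcomm : E Q v w' * E Q v (w : V) = E Q v (w : V) * E Q v w' := by
        rw [E_mul Q hQv hw' (hpv _ w.2), E_mul Q hQv (hpv _ w.2) hw', add_comm]
      rw [← mul_smul, hcomm, mul_smul] at hfix
      exact hfv w' hw' (smul_left_cancel _ hfix)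
  have hinj : Function.Injective (fun w : ↥(perp2 Q v v') => E Q v (w : V) • (g • ω₁)) := by
    intro w w' hww'
    simp only at hww'
    have h1 : E Q v ((w : V) - (w' : V)) • (g • ω₁) = g • ω₁ := by
      have hneg : QuadraticMap.polar (⇑Q) v (-(w' : V)) = 0 := by
        rw [QuadraticMap.polar_neg_right, hpv _ w'.2, neg_zero]
      have e1 : E Q v ((w : V) - (w' : V)) = (E Q v (w' : V))⁻¹ * E Q v (w : V) := by
        rw [E_inv Q hQv (hpv _ w'.2), E_mul Q hQv hneg (hpv _ w.2), sub_eq_add_neg, add_comm]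
      rw [e1, mul_smul, hww', inv_smul_smul]
    have hperp : QuadraticMap.polar (⇑Q) v ((w : V) - (w' : V)) = 0 := by
      rw [QuadraticMap.polar_sub_right, hpv _ w.2, hpv _ w'.2, sub_zero]
    have h2 := hfv _ hperp h1
    obtain ⟨a, ha⟩ := Submodule.mem_span_singleton.mp h2
    -- `a • v ∈ W` forces `a = 0`
    have h3 : (w : V) - (w' : V) ∈ perp2 Q v v' := Submodule.sub_mem _ w.2 w'.2
    have h4 := ((Cfsg.Agent.Lib.Helper44_QuadClass.mem_perp Q v v').mp h3).2
    rw [← ha, QuadraticMap.polar_smul_right, QuadraticMap.polar_comm, hvv', smul_eq_mul, mul_one] at h4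
    rw [h4, zero_smul] at ha
    apply Subtype.ext
    exact (sub_eq_zero.mp ha.symm)
  rw [hset, ← Nat.card_coe_set_eq, Nat.card_range_of_injective hinj]
  have hfr := Cfsg.Agent.Lib.Helper44_QuadClass.finrank_perp hQv hQv' hvv'
  have : finrank F ↥(perp2 Q v v') = finrank F V - 2 := by
    have : finrank F ↥(perp2 Q v v') + 2 = finrank F V := hfr
    omega
  rw [← this]
  exact Module.natCard_eq_pow_finrank (K := F) (V := ↥(perp2 Q v v'))

end action

end Cfsg.Agent.Lib.Helper52_MI3M_FREECNT
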