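import Mathlib
import Cfsg.Agent.Lib.Helper75_MI3MDefs
import Cfsg.Agent.Lib.Helper52_MI3M_FREECNT

set_option autoImplicit false
set_option linter.unusedSectionVars false
set_option linter.unusedVariables false

/-!
MI3M-INTEG (helper75's market, S2147 q = 3 slice): double counting of the free incidences.
-/

namespace Cfsg.Agent.Lib.Helper52_MI3M_INTEG

open Module Cfsg.Agent.Lib.Helper14_OmegaSimple Cfsg.Agent.Lib.Helper22_MI2Defs
  Cfsg.Agent.Lib.Helper44_MI3Defs Cfsg.Agent.Lib.Helper75_MI3MDefs Cfsg.Agent.Lib.Helper94_OrthSmall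
  Cfsg.Agent.Lib.Helper52_MI3M_FREECNT

universe u

variable {F V : Type*} [Field F] [AddCommGroup V] [Module F V]

section action

variable {X : Type*} [MulAction (V ≃ₗ[F] V) X]

/-- the number of nonzero singular vectors free at `ω` does not decrease along the action -/
theorem card_free_le [Finite F] [FiniteDimensional F V] (Q : QuadraticForm F V) {g : V ≃ₗ[F] V}
    (hg : g ∈ oG (⇑Q)) (ω : X) :
    Nat.card {x : {x : V // x ≠ 0 ∧ Q x = 0} // FreeAt Q x.1 ω} ≤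
      Nat.card {x : {x : V // x ≠ 0 ∧ Q x = 0} // FreeAt Q x.1 (g • ω)} := by
  have : Finite V := Module.finite_of_finite F
  refine Nat.card_le_card_of_injective
    (fun x => ⟨⟨g x.1.1, ?_, ?_⟩, ?_⟩) ?_
  · intro h0
    apply x.1.2.1
    have := congrArg g.symm h0
    simpa using this
  · exact (hg x.1.1).trans x.1.2.2
  · exact free_conj Q hg x.1.2.2 x.2
  · intro x y hxy
    have h1 : g x.1.1 = g y.1.1 := congrArg (fun z => z.1.1) hxy
    apply Subtype.ext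
    apply Subtype.ext
    exact g.injective h1

theorem card_dvd_of_free [Finite F] [FiniteDimensional F V] (Q : QuadraticForm F V)
    (hQ : (QuadraticMap.polarBilin Q).Nondegenerate) (hdim : 5 ≤ finrank F V)
    (Ω : Set X) (hΩ : IsOrbit Q Ω)
    (hcnt : ∀ v : V, v ≠ 0 → Q v = 0 →
      {ω ∈ Ω | FreeAt Q v ω}.ncard = Nat.card F ^ (finrank F V - 2)) :
    Ω.ncard ∣ Nat.card {x : V // x ≠ 0 ∧ Q x = 0} * Nat.card F ^ (finrank F V - 2) := by
  classical
  have hV : Finite V := Module.finite_of_finite F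
  have hΩf : Finite ↥Ω := hΩ.fin.to_subtype
  have : Fintype ↥Ω := Fintype.ofFinite _
  have : Fintype {x : V // x ≠ 0 ∧ Q x = 0} := Fintype.ofFinite _
  obtain ⟨ω₀, hω₀, -⟩ := hΩ.nontriv
  -- the number of free singular vectors is constant on `Ω`
  have hconst : ∀ ω : ↥Ω, Nat.card {x : {x : V // x ≠ 0 ∧ Q x = 0} // FreeAt Q x.1 ω.1} =
      Nat.card {x : {x : V // x ≠ 0 ∧ Q x = 0} // FreeAt Q x.1 ω₀} := by
    intro ω
    obtain ⟨g, hg, hgω⟩ := hΩ.trans ω₀ hω₀ ω.1 ω.2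
    have hgO : g ∈ oG (⇑Q) := T_le_oG Q hg
    have hgO' : g⁻¹ ∈ oG (⇑Q) := Subgroup.inv_mem _ hgO
    rw [← hgω]
    apply le_antisymm
    · have := card_free_le Q hgO' (g • ω₀)
      rwa [inv_smul_smul] at this
    · exact card_free_le Q hgO ω₀
  -- the two counts
  have hA : Nat.card (Σ ω : ↥Ω, {x : {x : V // x ≠ 0 ∧ Q x = 0} // FreeAt Q x.1 ω.1}) =
      Ω.ncard * Nat.card {x : {x : V // x ≠ 0 ∧ Q x = 0} // FreeAt Q x.1 ω₀} := by
    rw [Nat.card_sigma, Finset.sum_congr rfl (fun ω _ => hconst ω), Finset.sum_const,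
      Finset.card_univ, smul_eq_mul, ← Nat.card_eq_fintype_card, Nat.card_coe_set_eq]
  have hB : Nat.card (Σ x : {x : V // x ≠ 0 ∧ Q x = 0}, {ω : ↥Ω // FreeAt Q x.1 ω.1}) =
      Nat.card {x : V // x ≠ 0 ∧ Q x = 0} * Nat.card F ^ (finrank F V - 2) := by
    have h1 : ∀ x : {x : V // x ≠ 0 ∧ Q x = 0}, Nat.card {ω : ↥Ω // FreeAt Q x.1 ω.1} =
        Nat.card F ^ (finrank F V - 2) := by
      intro x
      rw [← hcnt x.1 x.2.1 x.2.2, ← Nat.card_coe_set_eq]
      exact Nat.card_congr (Equiv.subtypeSubtypeEquivSubtypeInter (fun ω => ω ∈ Ω)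
        (fun ω => FreeAt Q x.1 ω))
    rw [Nat.card_sigma, Finset.sum_congr rfl (fun x _ => h1 x), Finset.sum_const,
      Finset.card_univ, smul_eq_mul, ← Nat.card_eq_fintype_card]
  have hAB : Nat.card (Σ ω : ↥Ω, {x : {x : V // x ≠ 0 ∧ Q x = 0} // FreeAt Q x.1 ω.1}) =
      Nat.card (Σ x : {x : V // x ≠ 0 ∧ Q x = 0}, {ω : ↥Ω // FreeAt Q x.1 ω.1}) := by
    refine Nat.card_congr ⟨fun p => ⟨p.2.1, ⟨p.1, p.2.2⟩⟩, fun p => ⟨p.2.1, ⟨p.1, p.2.2⟩⟩, ?_, ?_⟩
    · intro p; rfl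
    · intro p; rfl
  rw [← hB, ← hAB, hA]
  exact Dvd.intro _ rfl

end action

end Cfsg.Agent.Lib.Helper52_MI3M_INTEG
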