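import Cfsg.Agent.Lib.Helper6_MXDefs

/-!
# MX-D5B2 (helper6's market `mx_packages`): Case I, real `p`-elements normalize `Q`
-/

set_option autoImplicit false
set_option linter.unusedSectionVars false
set_option linter.style.haveILetI false

namespace Cfsg.Agent.Lib.Helper52_MX_D5B2
open Cfsg.Agent.Lib.Helper6_MXDefs

variable {G : Type*} [Group G] [Finite G] {p a : ℕ} {Q : Subgroup G} {x : G}

theorem isPEl_conj {g : G} (c : G) (h : IsPEl p g) : IsPEl p (c * g * c⁻¹) := by
  obtain ⟨k, hk⟩ := h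
  exact ⟨k, by rw [conj_pow, hk, mul_one, mul_inv_cancel]⟩

theorem conj_mem_map {v : G} (c : G) (hv : v ∈ Q) :
    c * v * c⁻¹ ∈ Q.map (MulAut.conj c).toMonoidHom :=
  Subgroup.mem_map.2 ⟨v, hv, by simp [MulAut.conj_apply]⟩

theorem exists_of_mem_map {v c : G} (hv : v ∈ Q.map (MulAut.conj c).toMonoidHom) :
    ∃ v' ∈ Q, v = c * v' * c⁻¹ := by
  obtain ⟨v', hv', rfl⟩ := Subgroup.mem_map.1 hv
  exact ⟨v', hv', by simp [MulAut.conj_apply]⟩

theorem centQ_conj {w : G} (c : G) (h : CentQ Q w) :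
    CentQ (Q.map (MulAut.conj c).toMonoidHom) (c * w * c⁻¹) := by
  intro v hv
  obtain ⟨v', hv', rfl⟩ := exists_of_mem_map hv
  have := h v' hv'
  calc c * w * c⁻¹ * (c * v' * c⁻¹) = c * (w * v') * c⁻¹ := by group
    _ = c * (v' * w) * c⁻¹ := by rw [this]
    _ = c * v' * c⁻¹ * (c * w * c⁻¹) := by group

theorem HI_conj (c : G) (h : HI p Q) : HI p (Q.map (MulAut.conj c).toMonoidHom) := by
  obtain ⟨w, hw1, hwp, hwc⟩ := h
  refine ⟨c * w * c⁻¹, ?_, isPEl_conj c hwp, centQ_conj c hwc⟩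
  intro h1
  apply hw1
  have : w = c⁻¹ * (c * w * c⁻¹) * c := by group
  rw [this, h1]; group

/-- a `p`-element (`p` odd) which is an involution or trivial is trivial -/
theorem eq_one_of_isPEl_of_sq {g : G} (hp : p.Prime) (hp2 : p ≠ 2) (hg : IsPEl p g)
    (h2 : g * g = 1) : g = 1 := by
  obtain ⟨k, hk⟩ := hg
  have h1 : orderOf g ∣ p ^ k := orderOf_dvd_of_pow_eq_one hk
  have h2' : orderOf g ∣ 2 := orderOf_dvd_of_pow_eq_one (by rw [pow_two]; exact h2)
  have hcop : Nat.Coprime (p ^ k) 2 := by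
    apply Nat.Coprime.pow_left
    rw [Nat.coprime_primes hp Nat.prime_two]
    exact hp2
  have : orderOf g ∣ 1 := by
    have := Nat.dvd_gcd h1 h2'
    rwa [hcop.gcd_eq_one] at this
  exact orderOf_eq_one_iff.1 (Nat.dvd_one.1 this)

theorem caseI_real (hC : UConj G p a) (hF : UFacts G p a) (hD1 : D1Prop G p a)
    (hD4 : D4Prop G p a) (hD5b1 : D5b1Prop G p a) : D5b2Prop G p a := by
  intro Q x h hHI t ht ht1 y hyp hinv
  have F := hF Q x h
  by_cases hy1 : y = 1
  · subst hy1; exact one_mem _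
  haveI : Fact p.Prime := ⟨h.hp⟩
  have htt : t * t = 1 := F.elem.1 t ht
  have htinv : t⁻¹ = t := inv_eq_of_mul_eq_one_right htt
  -- (a)
  have ha : ∀ c : G, ¬ CentQ (Q.map (MulAut.conj c).toMonoidHom) y := by
    intro c hcent
    exact hD5b1 _ _ (hC Q x h c) (HI_conj c hHI) y hy1 hyp hcent t hinv
  -- (b)
  have hb : ∀ v : G, v ≠ 1 → v * v = 1 → v * y = y * v → False := by
    intro v hv1 hvv hvy
    obtain ⟨c, hc⟩ := F.syl v ⟨1, by rw [pow_one, pow_two]; exact hvv⟩
    have hvQ : v ∈ Q.map (MulAut.conj c⁻¹).toMonoidHom := by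
      have := conj_mem_map c⁻¹ hc
      have e : c⁻¹ * (c * v * c⁻¹) * c⁻¹⁻¹ = v := by group
      rwa [e] at this
    exact ha c⁻¹ (hD1 _ _ (hC Q x h c⁻¹) (HI_conj c⁻¹ hHI) v hvQ hv1 y hvy.symm)
  -- (c)
  set C : Subgroup G := Subgroup.centralizer ({y} : Set G) with hCdef
  have hmemC : ∀ g : G, g ∈ C ↔ g * y = y * g := fun g => Subgroup.mem_centralizer_singleton_iff
  have hyC : y ∈ C := (hmemC y).2 rfl
  have hty' : t * y⁻¹ * t⁻¹ = y := by
    have : t * y⁻¹ * t⁻¹ = (t * y * t⁻¹)⁻¹ := by group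
    rw [this, hinv, inv_inv]
  have htC : ∀ g ∈ C, t * g * t⁻¹ ∈ C := by
    intro g hg
    rw [hmemC] at hg ⊢
    have hg' : g * y⁻¹ = y⁻¹ * g := by
      have : g * y⁻¹ = y⁻¹ * (y * g) * y⁻¹ := by group
      rw [this, ← hg]; group
    calc t * g * t⁻¹ * y = t * g * t⁻¹ * (t * y⁻¹ * t⁻¹) := by rw [hty']
      _ = t * (g * y⁻¹) * t⁻¹ := by group
      _ = t * (y⁻¹ * g) * t⁻¹ := by rw [hg']
      _ = (t * y⁻¹ * t⁻¹) * (t * g * t⁻¹) := by group
      _ = y * (t * g * t⁻¹) := by rw [hty']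
  have htN : t ∈ Subgroup.normalizer (C : Set G) := by
    rw [Subgroup.mem_normalizer_iff]
    intro g
    constructor
    · exact htC g
    · intro hg
      have := htC _ hg
      rw [htinv] at this
      have e : t * (t * g * t) * t = g := by
        calc t * (t * g * t) * t = (t * t) * g * (t * t) := by group
          _ = g := by rw [htt]; group
      rwa [e] at this
  set H : Subgroup G := C ⊔ Subgroup.zpowers t with hHdef
  have hHN : H ≤ Subgroup.normalizer (C : Set G) := by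
    apply sup_le Subgroup.le_normalizer
    rw [Subgroup.zpowers_le]
    exact htN
  have hCbot : C ≠ ⊥ := by
    intro hbot
    rw [hbot, Subgroup.mem_bot] at hyC
    exact hy1 hyC
  have hCtop : C ≠ ⊤ := F.cent_ne y hy1
  have hHne : H ≠ ⊤ := by
    intro htop
    apply F.norm_ne C hCbot hCtop
    rw [eq_top_iff, ← htop]
    exact hHN
  have htH : t ∈ H := (le_sup_right : Subgroup.zpowers t ≤ H) (Subgroup.mem_zpowers t)
  have h2H : 2 ∣ Nat.card H := by
    have ho : orderOf t = 2 := by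
      haveI : Fact (Nat.Prime 2) := ⟨Nat.prime_two⟩
      exact orderOf_eq_prime (by rw [pow_two]; exact htt) ht1
    rw [← ho]
    exact Subgroup.orderOf_dvd_natCard H htH
  have hTP : TwoP p (Nat.card H) := h.even H hHne h2H
  have hCdvd : Nat.card C ∣ Nat.card H := Subgroup.card_dvd_of_le le_sup_left
  have hCp : IsPGroup p C := by
    have hcard : Nat.card C = p ^ (Nat.card C).primeFactorsList.length := by
      apply Nat.eq_prime_pow_of_unique_prime_dvd Nat.card_pos.ne'
      intro r hr hrC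
      rcases hTP r hr (hrC.trans hCdvd) with h2 | hp
      · exfalso
        subst h2
        haveI : Fact (Nat.Prime 2) := ⟨hr⟩
        obtain ⟨g, hg⟩ := exists_prime_orderOf_dvd_card' (G := C) 2 hrC
        have hg1 : (g : G) ≠ 1 := by
          intro h1
          have : g = 1 := Subtype.ext h1
          rw [this, orderOf_one] at hg
          omega
        have hgg : (g : G) * (g : G) = 1 := by
          have := pow_orderOf_eq_one g
          rw [hg, pow_two] at this
          exact congrArg Subtype.val this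
        exact hb g hg1 hgg ((hmemC g).1 g.2)
      · exact hp
    exact IsPGroup.of_card hcard
  have hCcomm : ∀ g ∈ C, ∀ k ∈ C, g * k = k * g := h.abel C hCp
  have hCpel : ∀ z ∈ C, IsPEl p z := by
    intro z hz
    obtain ⟨k, hk⟩ := hCp ⟨z, hz⟩
    exact ⟨k, congrArg Subtype.val hk⟩
  obtain ⟨S, hCS⟩ := hCp.exists_le_sylow
  have hSC : (S : Subgroup G) ≤ C := by
    intro s hs
    rw [hmemC]
    exact h.abel S S.isPGroup' s hs y (hCS hyC)
  by_cases he : ∃ z ∈ C, z ≠ 1 ∧ t * z = z * t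
  · -- (e1)
    obtain ⟨z, hzC, hz1, hzt⟩ := he
    have hcz : CentQ Q z := hD1 Q x h hHI t ht ht1 z hzt.symm
    exact hD4 Q x h hHI z hz1 (hCpel z hzC) hcz y ((hmemC z).1 hzC).symm
  · -- (e2)
    exfalso
    push Not at he
    have hinvC : ∀ z ∈ C, t * z * t⁻¹ = z⁻¹ := by
      intro z hz
      have hz' : t * z * t⁻¹ ∈ C := htC z hz
      have hm : z * (t * z * t⁻¹) ∈ C := mul_mem hz hz'
      have hconj2 : t * (t * z * t⁻¹) * t⁻¹ = z := by
        calc t * (t * z * t⁻¹) * t⁻¹ = (t * t) * z * (t * t)⁻¹ := by group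
          _ = z := by rw [htt]; group
      have hmt : t * (z * (t * z * t⁻¹)) = z * (t * z * t⁻¹) * t := by
        have : t * (z * (t * z * t⁻¹)) * t⁻¹ = z * (t * z * t⁻¹) := by
          calc t * (z * (t * z * t⁻¹)) * t⁻¹
              = (t * z * t⁻¹) * (t * (t * z * t⁻¹) * t⁻¹) := by group
            _ = (t * z * t⁻¹) * z := by rw [hconj2]
            _ = z * (t * z * t⁻¹) := (hCcomm z hz _ hz').symm
        exact mul_inv_eq_iff_eq_mul.1 this
      have hm1 : z * (t * z * t⁻¹) = 1 := by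
        by_contra hne
        exact he _ hm hne hmt
      exact eq_inv_of_mul_eq_one_right hm1
    obtain ⟨w, hw1, hwp, hwc⟩ := hHI
    have hzw : IsPGroup p (Subgroup.zpowers w) := by
      obtain ⟨j, hj⟩ := hwp
      rintro ⟨g, hg⟩
      obtain ⟨k, rfl⟩ := Subgroup.mem_zpowers_iff.1 hg
      refine ⟨j, Subtype.ext ?_⟩
      show (w ^ k) ^ p ^ j = 1
      rw [← zpow_natCast, ← zpow_mul, mul_comm, zpow_mul, zpow_natCast, hj, one_zpow]
    obtain ⟨S', hS'⟩ := hzw.exists_le_sylow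
    obtain ⟨g, hg⟩ := MulAction.exists_smul_eq G S' S
    have hw' : g * w * g⁻¹ ∈ (S : Subgroup G) := by
      rw [← hg, Sylow.coe_subgroup_smul]
      have := Subgroup.smul_mem_pointwise_smul w (MulAut.conj g) (S' : Subgroup G)
        (hS' (Subgroup.mem_zpowers w))
      simpa [MulAut.smul_def] using this
    have hw'C : g * w * g⁻¹ ∈ C := hSC hw'
    have hw'1 : g * w * g⁻¹ ≠ 1 := by
      intro h1
      apply hw1
      have : w = g⁻¹ * (g * w * g⁻¹) * g := by group
      rw [this, h1]; group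
    exact hD5b1 _ _ (hC Q x h g) (HI_conj g ⟨w, hw1, hwp, hwc⟩) (g * w * g⁻¹) hw'1
      (isPEl_conj g hwp) (centQ_conj g hwc) t (hinvC _ hw'C)

end Cfsg.Agent.Lib.Helper52_MX_D5B2
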