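import Mathlib
import Cfsg.Agent.Lib.Helper38_OD1

set_option autoImplicit false

namespace Cfsg.Agent.Lib.Helper52_OD_D

open Module Cfsg.Agent.Lib.Helper94_Symp Cfsg.Agent.Lib.Helper94_OrthSmall
  Cfsg.Agent.Lib.Helper94_OrthSiegel Cfsg.Agent.Lib.Helper94_OrthSiegel2
  Cfsg.Agent.Lib.Helper94_OrthNondeg Cfsg.Agent.Lib.Helper94_OrthRefl
  Cfsg.Agent.Lib.Helper38_OD
open scoped commutatorElement

variable {F V : Type*} [Field F] [AddCommGroup V] [Module F V]

section OneBlock

variable [Finite F] [FiniteDimensional F V] {Q : V → F} {B : LinearMap.BilinForm F V}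
  (hQs : ∀ (c : F) (v : V), Q (c • v) = c * c * Q v)
  (hQp : ∀ u v : V, Q (u + v) = Q u + Q v + B u v)

include hQs hQp in
/-- **PKG D.** If `b` has no block component, produce a new pair whose block components are not
proportional. -/
theorem lemD (h2 : (2 : F) ≠ 0) (A : Submodule F V) (hA : NdOn B A) (h3 : 3 ≤ finrank F A)
    (M : Subgroup (V ≃ₗ[F] V)) (hMO : M ≤ oG Q) (hMA : HasSieg Q B M A)
    {a b : V} (ha : Q a = 0) (hab : InZ Q B M a b) (haj0 : op B A a ≠ 0)
    (hbj : op B A b = 0) (hb0 : b ≠ 0) :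
    ∃ a₁ b₁, Q a₁ = 0 ∧ InZ Q B M a₁ b₁ ∧ a₁ ∉ A ∧ op B A a₁ ≠ 0 ∧
      ∀ c : F, op B A b₁ ≠ c • op B A a₁ := by
  have hsymm := B_symm Q B hQp
  obtain ⟨aA, haA⟩ : ∃ aA, aA = op B A a := ⟨_, rfl⟩
  have haAmem : aA ∈ A := haA ▸ op_mem B A a
  rw [← haA] at haj0
  have hbperp : ∀ y ∈ A, B y b = 0 := (op_eq_zero_iff Q B hQp hA).mp hbj
  have hgM : sieg Q B a b ∈ M := InZ_one hab
  have hgO := hMO hgM
  obtain ⟨w, hw⟩ : ∃ w, w = b - Q b • a := ⟨_, rfl⟩
  have hBzaA : ∀ z ∈ A, B z a = B z aA := by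
    intro z hz
    rw [haA, B_op_right Q B hQp hA a hz]
  have hgz : ∀ z ∈ A, sieg Q B a b z = z + B z aA • w := by
    intro z hz
    rw [sieg_apply Q B hQs hQp ha hab.1, hbperp z hz, hBzaA z hz, hw]
    module
  have hopw : op B A w = -(Q b) • aA := by
    rw [hw, map_sub, map_smul, hbj, haA]; module
  -- `w ∉ A`
  have hwA : w ∉ A := by
    intro hwmem
    have h1 : op B A w = w := op_of_mem Q B hQp hA hwmem
    rw [hopw, hw] at h1
    have hb : b = Q b • (a - aA) := by
      have h5 : b - Q b • (a - aA) = 0 := by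
        have h6 : b - Q b • (a - aA) = (b - Q b • a) - (-(Q b) • aA) := by module
        rw [h6, h1, sub_self]
      exact sub_eq_zero.mp h5
    have hQb : Q b ≠ 0 := by
      intro h0
      apply hb0
      rw [hb, h0, zero_smul]
    have h3' : B a b = 0 := hab.1
    have hBaa : B a a = 0 := by rw [B_self Q B hQs hQp, ha, mul_zero]
    have hBaaA : B a aA = 2 * Q aA := by
      have h6 := B_op_left Q B hQp hA a haAmem
      rw [← haA] at h6
      rw [← h6]
      exact B_self Q B hQs hQp aA
    rw [hb, map_smul, map_sub, hBaa, hBaaA, zero_sub, smul_eq_mul] at h3'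
    have hQaA : Q aA = 0 := by
      have h7 : Q b * (2 * Q aA) = 0 := by linear_combination -h3'
      rcases mul_eq_zero.mp h7 with h | h
      · exact absurd h hQb
      · rcases mul_eq_zero.mp h with h' | h'
        · exact absurd h' h2
        · exact h'
    have hQsub : Q (a - aA) = 0 := by
      have h8 := Q_op_add Q B hQp hA a
      rw [← haA, ha, hQaA, zero_add] at h8
      exact h8.symm
    have h9 : Q b = 0 := by
      have h5 := congrArg Q hb
      rw [hQs, hQsub, mul_zero] at h5
      exact h5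
    exact hQb h9
  -- the singular vector `u`
  obtain ⟨u, huA, hQu, huaA⟩ := exists_sing_not_orth Q B hQs hQp A hA h3 (hA aA haAmem haj0)
  have hu0 : u ≠ 0 := by
    rintro rfl
    exact huaA (by rw [map_zero, LinearMap.zero_apply])
  obtain ⟨p', hp'A, hup', hp'u⟩ : ∃ p' ∈ A, B u p' = 0 ∧ ∀ c : F, p' ≠ c • u := by
    have h1 := finrank_le_inf_ker_add_one A (B.flip u)
    by_contra hcon
    push Not at hcon
    have hle : (A ⊓ LinearMap.ker (B.flip u) : Submodule F V) ≤ Submodule.span F {u} := by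
      intro x hx
      obtain ⟨c, hc⟩ := hcon x hx.1 (by rw [hsymm]; exact mem_ker_flip.mp hx.2)
      rw [hc]
      exact Submodule.smul_mem _ _ (Submodule.mem_span_singleton_self u)
    have h4 := Submodule.finrank_mono hle
    rw [finrank_span_singleton hu0] at h4
    omega
  have hpair : InZ Q B M u p' := InZ_of_hasSieg hMA huA hp'A hQu hup'
  have hmap := InZ_map hQs hQp hgM hgO hQu hpair
  have hopu : op B A (sieg Q B a b u) = u + (-(B u aA * Q b)) • aA := by
    rw [hgz u huA, map_add, map_smul, op_of_mem Q B hQp hA huA, hopw]; module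
  have hopp : op B A (sieg Q B a b p') = p' + (-(B p' aA * Q b)) • aA := by
    rw [hgz p' hp'A, map_add, map_smul, op_of_mem Q B hQp hA hp'A, hopw]; module
  refine ⟨sieg Q B a b u, sieg Q B a b p', ?_, hmap, ?_, ?_, ?_⟩
  · rw [hgO u]
    exact hQu
  · rw [hgz u huA]
    intro hmem
    apply hwA
    have h5 : B u aA • w ∈ A := by
      have := A.sub_mem hmem huA
      rwa [add_sub_cancel_left] at this
    have := A.smul_mem (B u aA)⁻¹ h5
    rwa [smul_smul, inv_mul_cancel₀ huaA, one_smul] at this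
  · rw [hopu]
    intro h0
    -- `u = λ • aA`
    obtain ⟨l, hl⟩ : ∃ l, l = B u aA * Q b := ⟨_, rfl⟩
    rw [← hl] at h0
    have hu : u = l • aA := by
      have : u = u + -l • aA - -l • aA := by abel
      rw [this, h0]; module
    have hl0 : l ≠ 0 := by
      rintro rfl
      rw [zero_smul] at hu
      exact hu0 hu
    have hQaA : Q aA = 0 := by
      have h5 := congrArg Q hu
      rw [hQu, hQs] at h5
      rcases mul_eq_zero.mp h5.symm with h | h
      · exact absurd (mul_self_eq_zero.mp h) hl0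
      · exact h
    apply huaA
    rw [hu, map_smul, LinearMap.smul_apply, B_self Q B hQs hQp, hQaA, mul_zero, smul_zero]
  · intro c hc
    rw [hopu, hopp] at hc
    -- `d := p' - c • u = μ • aA`
    obtain ⟨μ, hμ⟩ : ∃ μ, μ = B p' aA * Q b - c * (B u aA * Q b) := ⟨_, rfl⟩
    have hd : p' - c • u = μ • aA := by
      have : p' - c • u = (p' + -(B p' aA * Q b) • aA) - c • (u + -(B u aA * Q b) • aA) +
          μ • aA := by rw [hμ]; module
      rw [this, hc]; module
    have hBud : B u (p' - c • u) = 0 := by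
      rw [map_sub, map_smul, hup', B_self Q B hQs hQp, hQu]; simp
    rw [hd, map_smul, smul_eq_mul] at hBud
    have hμ0 : μ = 0 := by
      rcases mul_eq_zero.mp hBud with h | h
      · exact h
      · exact absurd h huaA
    rw [hμ0, zero_smul, sub_eq_zero] at hd
    exact hp'u c hd

end OneBlock

end Cfsg.Agent.Lib.Helper52_OD_D
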