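import Mathlib
import Cfsg.Agent.Lib.Helper38_OD1
import Cfsg.Agent.Lib.Helper10_OD_IRR3

set_option autoImplicit false

namespace Cfsg.Agent.Lib.Helper52_OD_FULL

open Module Cfsg.Agent.Lib.Helper94_Symp Cfsg.Agent.Lib.Helper94_OrthSmall
  Cfsg.Agent.Lib.Helper94_OrthSiegel Cfsg.Agent.Lib.Helper94_OrthSiegel2
  Cfsg.Agent.Lib.Helper94_OrthNondeg Cfsg.Agent.Lib.Helper94_OrthRefl
  Cfsg.Agent.Lib.Helper38_OD
open scoped commutatorElement

variable {F V : Type*} [Field F] [AddCommGroup V] [Module F V]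

section OneBlock

variable [Finite F] [FiniteDimensional F V] {Q : V → F} {B : LinearMap.BilinForm F V}
  (hQs : ∀ (c : F) (v : V), Q (c • v) = c * c * Q v)
  (hQp : ∀ u v : V, Q (u + v) = Q u + Q v + B u v)

include hQs hQp in
/-- **PKG FULL.** If `w` is singular and orthogonal to `A`, and the part of the Siegel group at `w`
inside `M` contains a vector with nonzero `A`-component, then it contains all of `A`. -/
theorem InZ_full_of_op_ne (h2 : (2 : F) ≠ 0) (A : Submodule F V) (hA : NdOn B A)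
    (h3 : 3 ≤ finrank F A) (M : Subgroup (V ≃ₗ[F] V)) (hMO : M ≤ oG Q) (hMA : HasSieg Q B M A)
    {w b : V} (hw : Q w = 0) (hwA : ∀ y ∈ A, B w y = 0) (hb : InZ Q B M w b)
    (hbA : op B A b ≠ 0) : ∀ c ∈ A, InZ Q B M w c := by
  let X : Submodule F V :=
    { carrier := {z | InZ Q B M w z}
      add_mem' := fun h1 h2 => InZ_add hQs hQp hw h1 h2
      zero_mem' := InZ_zero hQs hQp hw
      smul_mem' := fun c _ h => InZ_smul c h }
  have hX : ∀ u ∈ A, ∀ z ∈ A, Q u = 0 → B u z = 0 → ∀ x ∈ X, sieg Q B u z x ∈ X := by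
    intro u hu z hz hQu huz x hx
    have hgM : sieg Q B u z ∈ M := hMA u hu z hz hQu huz
    have hgO : sieg Q B u z ∈ oG Q := hMO hgM
    have h1 : InZ Q B M (sieg Q B u z w) (sieg Q B u z x) := InZ_map hQs hQp hgM hgO hw hx
    have h4 : sieg Q B u z w = w := by
      rw [sieg_apply Q B hQs hQp hQu huz, hwA u hu, hwA z hz]
      simp
    rw [h4] at h1
    exact h1
  have hle : A ≤ X :=
    Cfsg.Agent.Lib.Helper10_OD_IRR3.irr3 hQs hQp h2 A X hA h3 hX (op B A b) (b - op B A b)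
      (by rw [add_sub_cancel]; exact hb) (op_mem B A b) hbA
      (fun y hy => B_sub_op Q B hQp hA b hy)
  intro c hc
  exact hle hc

end OneBlock

end Cfsg.Agent.Lib.Helper52_OD_FULL
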