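import Mathlib
import Cfsg.Agent.Lib.Helper38_OD1
import Cfsg.Agent.Lib.Helper10_OD_IRR3

set_option autoImplicit false

namespace Cfsg.Agent.Lib.Helper52_OD_IRR

open Module Cfsg.Agent.Lib.Helper94_Symp Cfsg.Agent.Lib.Helper94_OrthSmall
  Cfsg.Agent.Lib.Helper94_OrthSiegel Cfsg.Agent.Lib.Helper94_OrthSiegel2
  Cfsg.Agent.Lib.Helper94_OrthNondeg Cfsg.Agent.Lib.Helper94_OrthRefl
  Cfsg.Agent.Lib.Helper38_OD
open scoped commutatorElement

variable {F V : Type*} [Field F] [AddCommGroup V] [Module F V]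

section OneBlock

variable [Finite F] [FiniteDimensional F V] {Q : V → F} {B : LinearMap.BilinForm F V}
  (hQs : ∀ (c : F) (v : V), Q (c • v) = c * c * Q v)
  (hQp : ∀ u v : V, Q (u + v) = Q u + Q v + B u v)

include hQs hQp in
/-- **PKG IRR.** Siegel-irreducibility of a nondegenerate subspace of dimension at least three
(odd characteristic). -/
theorem irr3 (h2 : (2 : F) ≠ 0) (A : Submodule F V) (hA : NdOn B A) (h3 : 3 ≤ finrank F A)
    (X : Submodule F V)
    (hX : ∀ u ∈ A, ∀ z ∈ A, Q u = 0 → B u z = 0 → ∀ x ∈ X, sieg Q B u z x ∈ X)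
    {c : V} (hcA : c ∈ A) (hc0 : c ≠ 0) (hcX : c ∈ X) : A ≤ X :=
  Cfsg.Agent.Lib.Helper10_OD_IRR3.irr3 hQs hQp h2 A X hA h3 hX c 0 (by rwa [add_zero]) hcA hc0
    (fun y _ => by rw [map_zero])

include hQs hQp in
/-- **PKG IRR.** A nonzero vector of `A` is moved by some Siegel element of `A`. -/
theorem exists_sieg_move (h2 : (2 : F) ≠ 0) (A : Submodule F V) (hA : NdOn B A)
    (h3 : 3 ≤ finrank F A) {p : V} (hpA : p ∈ A) (hp0 : p ≠ 0) :
    ∃ u ∈ A, ∃ z ∈ A, Q u = 0 ∧ B u z = 0 ∧ sieg Q B u z p ≠ p := by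
  by_contra hcon
  push Not at hcon
  have hX : ∀ u ∈ A, ∀ z ∈ A, Q u = 0 → B u z = 0 →
      ∀ x ∈ Submodule.span F {p}, sieg Q B u z x ∈ Submodule.span F {p} := by
    intro u hu z hz hQu huz x hx
    obtain ⟨a, rfl⟩ := Submodule.mem_span_singleton.mp hx
    rw [map_smul, hcon u hu z hz hQu huz]
    exact Submodule.smul_mem _ _ (Submodule.mem_span_singleton_self p)
  have hle := irr3 hQs hQp h2 A hA h3 (Submodule.span F {p}) hX hpA hp0
    (Submodule.mem_span_singleton_self p)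
  have h1 := Submodule.finrank_mono hle
  have h2' : finrank F (Submodule.span F {p}) ≤ 1 := by
    rw [finrank_span_singleton hp0]
  omega

end OneBlock

end Cfsg.Agent.Lib.Helper52_OD_IRR
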