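import Mathlib
import Cfsg.Agent.Lib.Helper1_Coprime

set_option autoImplicit false
set_option linter.unusedSectionVars false

namespace Cfsg.Agent.Lib.Helper52_PiClosed

/-- all prime divisors of `n` lie in `π` -/
def IsPiNum (π : Set ℕ) (n : ℕ) : Prop := ∀ p : ℕ, p.Prime → p ∣ n → p ∈ π

/-- no prime divisor of `n` lies in `π` -/
def IsPi'Num (π : Set ℕ) (n : ℕ) : Prop := ∀ p : ℕ, p.Prime → p ∣ n → p ∉ π

theorem IsPiNum.of_dvd {π : Set ℕ} {m n : ℕ} (h : IsPiNum π n) (hd : m ∣ n) : IsPiNum π m :=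
  fun p hp hpm => h p hp (hpm.trans hd)

theorem IsPi'Num.of_dvd {π : Set ℕ} {m n : ℕ} (h : IsPi'Num π n) (hd : m ∣ n) : IsPi'Num π m :=
  fun p hp hpm => h p hp (hpm.trans hd)

theorem IsPiNum.mul {π : Set ℕ} {m n : ℕ} (hm : IsPiNum π m) (hn : IsPiNum π n) :
    IsPiNum π (m * n) := by
  intro p hp hd
  rcases (Nat.Prime.dvd_mul hp).mp hd with h | h
  · exact hm p hp h
  · exact hn p hp h

theorem IsPiNum.coprime {π : Set ℕ} {m n : ℕ} (hm : IsPiNum π m) (hn : IsPi'Num π n) :
    m.Coprime n :=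
  Nat.coprime_of_dvd (fun k hk hkm hkn => hn k hk hkn (hm k hk hkm))

theorem isPiNum_one (π : Set ℕ) : IsPiNum π 1 := by
  intro p hp hd
  exact absurd (Nat.dvd_one.mp hd) hp.one_lt.ne'

section

variable {X : Type*} [Group X] [Finite X] (π : Set ℕ)

/-- if all elements of a finite group are `π`-elements, its order is a `π`-number -/
theorem isPiNum_card_of_forall (H : Subgroup X) (h : ∀ x ∈ H, IsPiNum π (orderOf x)) :
    IsPiNum π (Nat.card H) := by
  intro p hp hd
  have : Fact p.Prime := ⟨hp⟩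
  obtain ⟨x, hx⟩ := exists_prime_orderOf_dvd_card' p hd
  have h1 := h (x : X) x.2 p hp
  rw [Subgroup.orderOf_coe, hx] at h1
  exact h1 dvd_rfl

theorem eq_one_of_isPiNum_of_mem {N : Subgroup X} (hN : IsPi'Num π (Nat.card N)) {n : X}
    (hn : n ∈ N) (h : IsPiNum π (orderOf n)) : n = 1 := by
  have h1 : orderOf n ∣ Nat.card N := by
    have := orderOf_dvd_natCard (⟨n, hn⟩ : ↥N)
    rwa [Subgroup.orderOf_mk] at this
  have h2 : (orderOf n).Coprime (orderOf n) := h.coprime (hN.of_dvd h1)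
  rw [Nat.coprime_self] at h2
  exact orderOf_eq_one_iff.mp h2

/-- the key lemma -/
theorem key (N : Subgroup X) [N.Normal] (hN : IsPi'Num π (Nat.card N))
    (M : Subgroup X) (hNM : N ≤ M) (hM : IsPiNum π (N.relIndex M))
    (hall : ∀ x : X, IsPiNum π (orderOf x) → x ∈ M)
    (hH : ∀ (q : ℕ) [Fact q.Prime] (P : Sylow q ↥N) (x : X), IsPiNum π (orderOf x) →
      x ∈ Subgroup.normalizer (((P : Subgroup ↥N).map N.subtype : Subgroup X) : Set X) →
      x ∈ Subgroup.centralizer (((P : Subgroup ↥N).map N.subtype : Subgroup X) : Set X)) :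
    ∃ H : Subgroup X, ∀ x : X, x ∈ H ↔ IsPiNum π (orderOf x) := by
  -- every `π`-element centralizes `N`
  have hcent : ∀ x : X, IsPiNum π (orderOf x) → ∀ n ∈ N, x * n = n * x := by
    intro x hx
    set D : Subgroup ↥N := (Subgroup.centralizer ({x} : Set X)).subgroupOf N with hD
    have hDtop : D = ⊤ := by
      rw [← Subgroup.index_eq_one]
      by_contra hne
      obtain ⟨q, hq, hdvd⟩ := Nat.exists_prime_and_dvd hne
      have : Fact q.Prime := ⟨hq⟩
      have hAK : Subgroup.zpowers x ≤ Subgroup.normalizer (N : Set X) := by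
        rw [Subgroup.normalizer_eq_top]; exact le_top
      have hcop : (Nat.card (Subgroup.zpowers x)).Coprime (Nat.card N) := by
        rw [Nat.card_zpowers]
        exact hx.coprime hN
      have hsol : Group.IsSolvable (Subgroup.zpowers x) ∨ Group.IsSolvable N := by
        left
        have hc : IsMulCommutative (Subgroup.zpowers x) := inferInstance
        exact Group.isSolvable_of_comm (fun a b => hc.is_comm.comm a b)
      obtain ⟨P, hP⟩ := Cfsg.Agent.Lib.Helper1_Coprime.exists_invariant_sylow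
        (Subgroup.zpowers x) N hAK hcop hsol q
      have hxc := hH q P x hx (hP (Subgroup.mem_zpowers x))
      have hPD : (P : Subgroup ↥N) ≤ D := by
        intro n hn
        rw [hD, Subgroup.mem_subgroupOf, Subgroup.mem_centralizer_iff]
        intro y hy
        rw [Set.mem_singleton_iff] at hy
        subst hy
        rw [Subgroup.mem_centralizer_iff] at hxc
        exact (hxc (n : X) ⟨n, hn, rfl⟩).symm
      exact P.not_dvd_index (hdvd.trans (Subgroup.index_dvd_of_le hPD))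
    intro n hn
    have : (⟨n, hn⟩ : ↥N) ∈ D := by rw [hDtop]; exact Subgroup.mem_top _
    rw [hD, Subgroup.mem_subgroupOf, Subgroup.mem_centralizer_iff] at this
    exact this x rfl
  -- Schur–Zassenhaus inside `M`
  have hNn : (N.subgroupOf M).Normal := Subgroup.Normal.subgroupOf inferInstance M
  have hcardN' : Nat.card (N.subgroupOf M) = Nat.card N :=
    Nat.card_congr (Subgroup.subgroupOfEquivOfLe hNM).toEquiv
  have hidx : (N.subgroupOf M).index = N.relIndex M := rfl
  have hcop : (Nat.card (N.subgroupOf M)).Coprime (N.subgroupOf M).index := by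
    rw [hcardN', hidx]; exact (hM.coprime hN).symm
  obtain ⟨H', hH'⟩ := Subgroup.exists_right_complement'_of_coprime hcop
  have hcardH' : Nat.card H' = N.relIndex M := by
    rw [← hidx]
    exact hH'.symm.index_eq_card.symm
  have hpiH' : ∀ h : ↥M, h ∈ H' → IsPiNum π (orderOf (h : X)) := by
    intro h hh
    have h1 : orderOf (h : X) ∣ Nat.card H' := by
      rw [Subgroup.orderOf_coe]
      have := orderOf_dvd_natCard (⟨h, hh⟩ : ↥H')
      rwa [Subgroup.orderOf_mk] at this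
    rw [hcardH'] at h1
    exact hM.of_dvd h1
  refine ⟨H'.map M.subtype, fun x => ⟨?_, ?_⟩⟩
  · rintro ⟨h, hh, rfl⟩
    exact hpiH' h hh
  · intro hx
    have hxM := hall x hx
    obtain ⟨⟨n, h⟩, hnh, -⟩ := (Subgroup.isComplement'_def.mp hH').existsUnique ⟨x, hxM⟩
    have hnh' : ((n : ↥M) : X) * ((h : ↥M) : X) = x := by
      have := congrArg (fun y : ↥M => (y : X)) hnh
      simpa using this
    have hnN : ((n : ↥M) : X) ∈ N := Subgroup.mem_subgroupOf.mp n.2
    have hhpi := hpiH' h h.2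
    have hcomm : Commute ((n : ↥M) : X) ((h : ↥M) : X) := (hcent _ hhpi _ hnN).symm
    have hhk : ((h : ↥M) : X) ^ (N.relIndex M) = 1 := by
      have h1 : orderOf ((h : ↥M) : X) ∣ Nat.card H' := by
        rw [Subgroup.orderOf_coe]
        have := orderOf_dvd_natCard (⟨(h : ↥M), h.2⟩ : ↥H')
        rwa [Subgroup.orderOf_mk] at this
      rw [hcardH'] at h1
      exact orderOf_dvd_iff_pow_eq_one.mp h1
    have hxk : x ^ (N.relIndex M) = ((n : ↥M) : X) ^ (N.relIndex M) := by
      rw [← hnh', hcomm.mul_pow, hhk, mul_one]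
    have hnk : ((n : ↥M) : X) ^ (N.relIndex M) = 1 := by
      apply eq_one_of_isPiNum_of_mem π hN (Subgroup.pow_mem N hnN _)
      rw [← hxk]
      exact hx.of_dvd (orderOf_pow_dvd _)
    have hn1 : ((n : ↥M) : X) = 1 := by
      apply eq_one_of_isPiNum_of_mem π hN hnN
      exact hM.of_dvd (orderOf_dvd_of_pow_eq_one hnk)
    rw [hn1, one_mul] at hnh'
    rw [← hnh']
    exact ⟨h, h.2, rfl⟩

end

section quotient

variable {G : Type*} [Group G] [Finite G] (π : Set ℕ)

/-- modulo a normal `π`-subgroup, `π`-elements lift -/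
theorem isPiNum_orderOf_of_quotient (R : Subgroup G) [R.Normal] (hR : IsPiNum π (Nat.card R))
    (x : G) (h : IsPiNum π (orderOf (QuotientGroup.mk' R x))) : IsPiNum π (orderOf x) := by
  set n := orderOf (QuotientGroup.mk' R x) with hn
  have hxn : x ^ n ∈ R := by
    rw [← QuotientGroup.eq_one_iff, QuotientGroup.mk_pow]
    exact pow_orderOf_eq_one _
  have h1 : orderOf (x ^ n) ∣ Nat.card R := by
    have := orderOf_dvd_natCard (⟨x ^ n, hxn⟩ : ↥R)
    rwa [Subgroup.orderOf_mk] at this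
  have h2 : orderOf x ∣ n * orderOf (x ^ n) := by
    apply orderOf_dvd_of_pow_eq_one
    rw [pow_mul]
    exact pow_orderOf_eq_one _
  exact (h.mul (hR.of_dvd h1)).of_dvd h2

theorem isPiNum_orderOf_map {H : Type*} [Group H] (f : G →* H) (x : G)
    (h : IsPiNum π (orderOf x)) : IsPiNum π (orderOf (f x)) :=
  h.of_dvd (orderOf_map_dvd f x)

/-- homogeneity: `π`-elements normalizing a `π'`-subgroup centralize it -/
theorem mem_centralizer_of_hom
    (hhom : ∀ H : Subgroup G, H ≠ ⊥ → (∀ p : ℕ, p.Prime → p ∣ Nat.card ↥H → p ∉ π) →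
      ∀ p : ℕ, p.Prime → p ∣ (Subgroup.centralizer (H : Set G)).relIndex
        (Subgroup.normalizer (H : Set G)) → p ∉ π)
    (Q : Subgroup G) (hQ : IsPi'Num π (Nat.card Q)) (y : G) (hy : IsPiNum π (orderOf y))
    (hyN : y ∈ Subgroup.normalizer (Q : Set G)) : y ∈ Subgroup.centralizer (Q : Set G) := by
  by_cases hQb : Q = ⊥
  · rw [hQb, Subgroup.mem_centralizer_iff]
    intro g hg
    rw [SetLike.mem_coe, Subgroup.mem_bot] at hg
    rw [hg, one_mul, mul_one]
  · have h1 : IsPi'Num π ((Subgroup.centralizer (Q : Set G)).relIndex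
        (Subgroup.normalizer (Q : Set G))) := hhom Q hQb hQ
    have h2 : y ^ ((Subgroup.centralizer (Q : Set G)).relIndex
        (Subgroup.normalizer (Q : Set G))) ∈ ((Subgroup.centralizer (Q : Set G)).subgroupOf
        (Subgroup.normalizer (Q : Set G))).map (Subgroup.normalizer (Q : Set G)).subtype := by
      have := Subgroup.pow_index_mem ((Subgroup.centralizer (Q : Set G)).subgroupOf
        (Subgroup.normalizer (Q : Set G))) (⟨y, hyN⟩ : ↥(Subgroup.normalizer (Q : Set G)))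
      exact ⟨_, this, rfl⟩
    have h3 : y ^ ((Subgroup.centralizer (Q : Set G)).relIndex
        (Subgroup.normalizer (Q : Set G))) ∈ Subgroup.centralizer (Q : Set G) := by
      obtain ⟨z, hz, hz'⟩ := h2
      rw [← hz']
      exact Subgroup.mem_subgroupOf.mp hz
    obtain ⟨m, hm⟩ := exists_pow_eq_self_of_coprime (x := y) (hy.coprime h1).symm
    rw [← hm]
    exact Subgroup.pow_mem _ h3 m

/-- Sylow conjugacy inside a subgroup, stated in the ambient group -/
theorem conj_into_sylow_of_subgroup {q : ℕ} [Fact q.Prime] (T : Subgroup G) (S : Sylow q ↥T)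
    (Q₁ : Subgroup G) (hQ₁T : Q₁ ≤ T) (hQ₁ : IsPGroup q Q₁) :
    ∃ c ∈ T, ∀ x ∈ Q₁, c * x * c⁻¹ ∈ (S : Subgroup ↥T).map T.subtype := by
  have hpg : IsPGroup q (Q₁.subgroupOf T) := hQ₁.comap_subtype
  obtain ⟨R, hR⟩ := hpg.exists_le_sylow
  obtain ⟨c, hc⟩ := MulAction.exists_smul_eq T R S
  refine ⟨c, c.2, ?_⟩
  intro x hx
  have h1 : (⟨x, hQ₁T hx⟩ : T) ∈ R := hR (by simpa [Subgroup.mem_subgroupOf] using hx)
  have h2 : c * ⟨x, hQ₁T hx⟩ * c⁻¹ ∈ (S : Subgroup T) := by
    rw [← hc, Sylow.coe_subgroup_smul]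
    exact Subgroup.smul_mem_pointwise_smul _ _ _ h1
  exact ⟨_, h2, rfl⟩

/-- homogeneity passes to the quotient by a normal `π`-subgroup, for `q`-subgroups -/
theorem quotient_centralizes (R : Subgroup G) [R.Normal] (hR : IsPiNum π (Nat.card R))
    (hG : ∀ Q : Subgroup G, IsPi'Num π (Nat.card Q) → ∀ y : G, IsPiNum π (orderOf y) →
      y ∈ Subgroup.normalizer (Q : Set G) → y ∈ Subgroup.centralizer (Q : Set G))
    (q : ℕ) [Fact q.Prime] (hq : q ∉ π) (Qb : Subgroup (G ⧸ R)) (hQb : IsPGroup q Qb)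
    (xb : G ⧸ R) (hxb : IsPiNum π (orderOf xb))
    (hn : xb ∈ Subgroup.normalizer (Qb : Set (G ⧸ R))) :
    xb ∈ Subgroup.centralizer (Qb : Set (G ⧸ R)) := by
  have hqp : q.Prime := Fact.out
  set T : Subgroup G := Qb.comap (QuotientGroup.mk' R) with hT
  obtain ⟨S⟩ : Nonempty (Sylow q ↥T) := inferInstance
  set Q₀ : Subgroup G := (S : Subgroup ↥T).map T.subtype with hQ₀
  have hQ₀T : Q₀ ≤ T := by
    rintro _ ⟨u, -, rfl⟩
    exact u.2
  have hQ₀q : IsPGroup q Q₀ := S.isPGroup'.map _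
  have hQ₀pi : IsPi'Num π (Nat.card Q₀) := by
    obtain ⟨k, hk⟩ := IsPGroup.iff_card.mp hQ₀q
    intro p hp hd
    rw [hk] at hd
    have := (Nat.prime_dvd_prime_iff_eq hp hqp).mp (hp.dvd_of_dvd_pow hd)
    rw [this]
    exact hq
  -- `Q₀` maps onto `Qb`
  have hsurj : ∀ tb ∈ Qb, ∃ u ∈ Q₀, QuotientGroup.mk' R u = tb := by
    intro tb htb
    have hf : Function.Surjective ((QuotientGroup.mk' R).subgroupComap Qb) :=
      MonoidHom.subgroupComap_surjective_of_surjective _ _ (QuotientGroup.mk'_surjective R)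
    have htop : ((S.mapSurjective hf : Sylow q ↥Qb) : Subgroup ↥Qb) = ⊤ := by
      have h1 : IsPGroup q (⊤ : Subgroup ↥Qb) := hQb.to_subgroup _
      exact ((S.mapSurjective hf).is_maximal' h1 le_top).symm
    have hmem : (⟨tb, htb⟩ : ↥Qb) ∈ ((S.mapSurjective hf : Sylow q ↥Qb) : Subgroup ↥Qb) := by
      rw [htop]; exact Subgroup.mem_top _
    rw [Sylow.coe_mapSurjective] at hmem
    obtain ⟨u, hu, hfu⟩ := hmem
    refine ⟨(u : G), ⟨u, hu, rfl⟩, ?_⟩
    have := congrArg (fun z : ↥Qb => (z : G ⧸ R)) hfu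
    exact this
  obtain ⟨x, rfl⟩ := QuotientGroup.mk'_surjective R xb
  have hxT : ∀ t ∈ T, x * t * x⁻¹ ∈ T := by
    intro t ht
    rw [hT, Subgroup.mem_comap] at ht ⊢
    rw [map_mul, map_mul, map_inv]
    exact (Subgroup.mem_normalizer_iff.mp hn _).mp ht
  set Q₁ : Subgroup G := Q₀.map (MulAut.conj x).toMonoidHom with hQ₁
  have hQ₁T : Q₁ ≤ T := by
    rintro _ ⟨u, hu, rfl⟩
    exact hxT u (hQ₀T hu)
  have hQ₁q : IsPGroup q Q₁ := hQ₀q.map _
  obtain ⟨c, hcT, hc⟩ := conj_into_sylow_of_subgroup T S Q₁ hQ₁T hQ₁q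
  obtain ⟨u₀, hu₀, hu₀c⟩ := hsurj (QuotientGroup.mk' R c) hcT
  set y : G := u₀⁻¹ * c * x with hy
  have hyx : QuotientGroup.mk' R y = QuotientGroup.mk' R x := by
    rw [hy, map_mul, map_mul, map_inv, hu₀c, inv_mul_cancel, one_mul]
  have hyN : y ∈ Subgroup.normalizer (Q₀ : Set G) := by
    apply Subgroup.mem_normalizer_fintype
    intro u hu
    have h1 : c * (x * u * x⁻¹) * c⁻¹ ∈ Q₀ := hc _ ⟨u, hu, rfl⟩
    have h2 : y * u * y⁻¹ = u₀⁻¹ * (c * (x * u * x⁻¹) * c⁻¹) * u₀ := by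
      rw [hy]; group
    rw [SetLike.mem_coe, h2]
    exact Q₀.mul_mem (Q₀.mul_mem (Q₀.inv_mem hu₀) h1) hu₀
  have hypi : IsPiNum π (orderOf y) := by
    apply isPiNum_orderOf_of_quotient π R hR
    rw [hyx]; exact hxb
  have hyC := hG Q₀ hQ₀pi y hypi hyN
  rw [Subgroup.mem_centralizer_iff] at hyC ⊢
  intro tb htb
  obtain ⟨u, hu, rfl⟩ := hsurj tb htb
  rw [← hyx, ← map_mul, ← map_mul, hyC u hu]

/-- the main theorem: under `π'`-homogeneity, `π`-closedness passes from a normal subgroup and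
its quotient to the group -/
theorem piClosed_of_normal
    (hhom : ∀ H : Subgroup G, H ≠ ⊥ → (∀ p : ℕ, p.Prime → p ∣ Nat.card ↥H → p ∉ π) →
      ∀ p : ℕ, p.Prime → p ∣ (Subgroup.centralizer (H : Set G)).relIndex
        (Subgroup.normalizer (H : Set G)) → p ∉ π)
    (K : Subgroup G) [K.Normal]
    (hK : ∃ L : Subgroup ↥K, ∀ x : ↥K, x ∈ L ↔ IsPiNum π (orderOf x))
    (hQ : ∃ L : Subgroup (G ⧸ K), ∀ x : G ⧸ K, x ∈ L ↔ IsPiNum π (orderOf x)) :
    ∃ H : Subgroup G, ∀ x : G, x ∈ H ↔ IsPiNum π (orderOf x) := by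
  obtain ⟨LK, hLK⟩ := hK
  obtain ⟨LQ, hLQ⟩ := hQ
  have hG := mem_centralizer_of_hom π hhom
  -- the normal `π`-subgroup `R`
  set R : Subgroup G := LK.map K.subtype with hR
  have hRK : R ≤ K := by
    rintro _ ⟨k, -, rfl⟩
    exact k.2
  have hRn : R.Normal := by
    constructor
    rintro _ ⟨k, hk, rfl⟩ g
    have hmem : g * (k : G) * g⁻¹ ∈ K := ‹K.Normal›.conj_mem _ k.2 g
    refine ⟨⟨g * (k : G) * g⁻¹, hmem⟩, ?_, rfl⟩
    rw [SetLike.mem_coe, hLK, ← Subgroup.orderOf_coe]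
    have h1 : orderOf (g * (k : G) * g⁻¹) = orderOf (k : G) :=
      (MulAut.conj g).orderOf_eq (k : G)
    show IsPiNum π (orderOf (g * (k : G) * g⁻¹))
    rw [h1, Subgroup.orderOf_coe]
    exact (hLK k).mp hk
  have hRpi : IsPiNum π (Nat.card R) := by
    apply isPiNum_card_of_forall
    rintro _ ⟨k, hk, rfl⟩
    have := (hLK k).mp hk
    rwa [← Subgroup.orderOf_coe] at this
  have hRsub : R.subgroupOf K = LK := by
    rw [hR]
    exact Subgroup.comap_map_eq_self_of_injective (Subgroup.subtype_injective K) LK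
  -- the image of `K` in `G ⧸ R`
  set Nb : Subgroup (G ⧸ R) := K.map (QuotientGroup.mk' R) with hNb
  have hNbn : Nb.Normal := Subgroup.Normal.map inferInstance _ (QuotientGroup.mk'_surjective R)
  have hNbcard : Nat.card Nb = LK.index := by
    have h1 := Subgroup.relIndex_ker (K := K) (QuotientGroup.mk' R)
    rw [QuotientGroup.ker_mk'] at h1
    rw [hNb, ← h1, Subgroup.relIndex, hRsub]
  have hNbpi : IsPi'Num π (Nat.card Nb) := by
    intro p hp hd hpπ
    have : Fact p.Prime := ⟨hp⟩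
    obtain ⟨P⟩ : Nonempty (Sylow p ↥K) := inferInstance
    have hPL : (P : Subgroup ↥K) ≤ LK := by
      intro k hk
      rw [hLK]
      obtain ⟨j, hj⟩ := (P.isPGroup' ⟨k, hk⟩)
      have h2 : k ^ p ^ j = 1 := by
        have := congrArg (fun z : ↥(P : Subgroup ↥K) => (z : ↥K)) hj
        simpa using this
      intro r hr hrd
      have h3 : r ∣ p ^ j := hrd.trans (orderOf_dvd_of_pow_eq_one h2)
      have := (Nat.prime_dvd_prime_iff_eq hr hp).mp (hr.dvd_of_dvd_pow h3)
      rw [this]; exact hpπ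
    rw [hNbcard] at hd
    exact P.not_dvd_index (hd.trans (Subgroup.index_dvd_of_le hPL))
  -- the subgroup `M` and its image
  set M : Subgroup G := LQ.comap (QuotientGroup.mk' K) with hM
  have hKM : K ≤ M := by
    have : (QuotientGroup.mk' K).ker ≤ LQ.comap (QuotientGroup.mk' K) :=
      Subgroup.ker_le_comap _ _
    rwa [QuotientGroup.ker_mk'] at this
  set Mb : Subgroup (G ⧸ R) := M.map (QuotientGroup.mk' R) with hMb
  have hNM : Nb ≤ Mb := Subgroup.map_mono hKM
  have hrel : Nb.relIndex Mb = Nat.card LQ := by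
    rw [hNb, hMb, Subgroup.relIndex_map_map, QuotientGroup.ker_mk',
      sup_eq_left.mpr hRK, sup_eq_left.mpr (hRK.trans hKM)]
    have h1 := Subgroup.relIndex_ker (K := M) (QuotientGroup.mk' K)
    rw [QuotientGroup.ker_mk'] at h1
    rw [h1, hM, Subgroup.map_comap_eq_self_of_surjective (QuotientGroup.mk'_surjective K)]
  have hrelpi : IsPiNum π (Nb.relIndex Mb) := by
    rw [hrel]
    apply isPiNum_card_of_forall
    intro z hz
    exact (hLQ z).mp hz
  have hall : ∀ xb : G ⧸ R, IsPiNum π (orderOf xb) → xb ∈ Mb := by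
    intro xb hxb
    obtain ⟨x, rfl⟩ := QuotientGroup.mk'_surjective R xb
    have hx := isPiNum_orderOf_of_quotient π R hRpi x hxb
    refine ⟨x, ?_, rfl⟩
    rw [SetLike.mem_coe, Subgroup.mem_comap, hLQ]
    exact isPiNum_orderOf_map π _ x hx
  have hH : ∀ (q : ℕ) [Fact q.Prime] (P : Sylow q ↥Nb) (xb : G ⧸ R), IsPiNum π (orderOf xb) →
      xb ∈ Subgroup.normalizer (((P : Subgroup ↥Nb).map Nb.subtype : Subgroup (G ⧸ R)) :
        Set (G ⧸ R)) →
      xb ∈ Subgroup.centralizer (((P : Subgroup ↥Nb).map Nb.subtype : Subgroup (G ⧸ R)) :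
        Set (G ⧸ R)) := by
    intro q _ P xb hxb hn
    have hqp : q.Prime := Fact.out
    by_cases hq : q ∈ π
    · -- then `P` is trivial
      have hPbot : (P : Subgroup ↥Nb) = ⊥ := by
        rw [← Subgroup.card_eq_one]
        obtain ⟨k, hk⟩ := IsPGroup.iff_card.mp P.isPGroup'
        rcases Nat.eq_zero_or_pos k with h0 | hpos
        · rw [hk, h0, pow_zero]
        · exfalso
          have h1 : q ∣ Nat.card Nb := by
            have h2 : q ∣ Nat.card (P : Subgroup ↥Nb) := by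
              rw [hk]; exact dvd_pow_self q hpos.ne'
            exact h2.trans (Subgroup.card_subgroup_dvd_card _)
          exact hNbpi q hqp h1 hq
      rw [hPbot, Subgroup.map_bot, Subgroup.mem_centralizer_iff]
      intro g hg
      rw [SetLike.mem_coe, Subgroup.mem_bot] at hg
      rw [hg, one_mul, mul_one]
    · exact quotient_centralizes π R hRpi hG q hq _ (P.isPGroup'.map _) xb hxb hn
  obtain ⟨Hb, hHb⟩ := key π Nb hNbpi Mb hNM hrelpi hall hH
  refine ⟨Hb.comap (QuotientGroup.mk' R), fun x => ?_⟩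
  rw [Subgroup.mem_comap, hHb]
  exact ⟨isPiNum_orderOf_of_quotient π R hRpi x, isPiNum_orderOf_map π _ x⟩

end quotient

end Cfsg.Agent.Lib.Helper52_PiClosed
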