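import Mathlib

set_option autoImplicit false

namespace Cfsg.Agent.Lib.Helper52_S0978_REG

open Subgroup MulAction

theorem reg_fixed {G : Type*} [Group G] {α : Type*} [Finite α] [MulAction G α] (a : α)
    (Z : Subgroup G) [Finite Z] (hZab : ∀ z₁ ∈ Z, ∀ z₂ ∈ Z, z₁ * z₂ = z₂ * z₁)
    (hZa : ∀ z ∈ Z, z • a = a)
    (hZfix : ∀ z ∈ Z, z ≠ 1 → ∀ b : α, z • b = b → b = a)
    (hcard : Nat.card α = Nat.card Z + 1)
    (t : G) (hta : t • a = a) (htZ : ∀ z ∈ Z, t * z * t⁻¹ ∈ Z) :
    ((∀ z ∈ Z, t * z * t⁻¹ = z) →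
      Nat.card (MulAction.fixedBy α t) = 1 ∨ Nat.card (MulAction.fixedBy α t) = Nat.card α) ∧
    (Odd (Nat.card Z) → (∀ z ∈ Z, t * z * t⁻¹ = z⁻¹) →
      Nat.card (MulAction.fixedBy α t) = 2) := by
  classical
  -- a base point
  have hZpos : 0 < Nat.card Z := Nat.card_pos
  have hex : ∃ b₀ : α, b₀ ≠ a := by
    by_contra hcon
    push Not at hcon
    have : Subsingleton α := ⟨fun x y => (hcon x).trans (hcon y).symm⟩
    have := Finite.card_le_one_iff_subsingleton.mpr this
    omega
  obtain ⟨b₀, hb₀⟩ := hex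
  -- the orbit map
  have hinj : ∀ z₁ ∈ Z, ∀ z₂ ∈ Z, z₁ • b₀ = z₂ • b₀ → z₁ = z₂ := by
    intro z₁ h₁ z₂ h₂ h
    by_contra hne
    have h3 : z₂⁻¹ * z₁ ≠ 1 := by
      intro h4
      apply hne
      have := eq_of_inv_mul_eq_one h4
      exact this.symm
    have h4 : (z₂⁻¹ * z₁) • b₀ = b₀ := by
      rw [mul_smul, h, inv_smul_smul]
    exact hb₀ (hZfix _ (Z.mul_mem (Z.inv_mem h₂) h₁) h3 b₀ h4)
  have hne_a : ∀ z ∈ Z, z • b₀ ≠ a := by
    intro z hz h
    apply hb₀
    have : b₀ = z⁻¹ • a := by rw [← h, inv_smul_smul]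
    rw [this]
    exact hZa _ (Z.inv_mem hz)
  have hsurj : ∀ b : α, b ≠ a → ∃ z ∈ Z, z • b₀ = b := by
    let f : Z → α := fun z => (z : G) • b₀
    have hf : Function.Injective f := by
      intro z₁ z₂ h
      exact Subtype.ext (hinj _ z₁.2 _ z₂.2 h)
    have hsub : Set.range f ⊆ ({a}ᶜ : Set α) := by
      rintro _ ⟨z, rfl⟩
      exact hne_a _ z.2
    have hc1 : (Set.range f).ncard = Nat.card Z := by
      rw [← Set.image_univ, Set.ncard_image_of_injective _ hf, Set.ncard_univ]
    have hc2 : ({a}ᶜ : Set α).ncard = Nat.card Z := by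
      rw [Set.ncard_compl, Set.ncard_singleton, hcard]
      omega
    have heq : Set.range f = ({a}ᶜ : Set α) :=
      Set.eq_of_subset_of_ncard_le hsub (by rw [hc1, hc2]) (Set.toFinite _)
    intro b hb
    have : b ∈ Set.range f := by rw [heq]; exact hb
    obtain ⟨z, rfl⟩ := this
    exact ⟨z, z.2, rfl⟩
  have htb₀ : t • b₀ ≠ a := by
    intro h
    apply hb₀
    have : t • b₀ = t • a := by rw [h, hta]
    exact smul_left_cancel t this
  obtain ⟨zt, hzt, hztb⟩ := hsurj _ htb₀
  have hact : ∀ z ∈ Z, t • (z • b₀) = (t * z * t⁻¹ * zt) • b₀ := by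
    intro z hz
    rw [mul_smul (t * z * t⁻¹), hztb, smul_smul, smul_smul]
    congr 1
    group
  refine ⟨?_, ?_⟩
  · intro hcen
    by_cases hzt1 : zt = 1
    · right
      have : MulAction.fixedBy α t = Set.univ := by
        ext b
        simp only [MulAction.mem_fixedBy, Set.mem_univ, iff_true]
        by_cases hb : b = a
        · rw [hb]; exact hta
        · obtain ⟨z, hz, rfl⟩ := hsurj b hb
          rw [hact z hz, hcen z hz, hzt1, mul_one]
      rw [this, Nat.card_coe_set_eq, Set.ncard_univ]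
    · left
      have : MulAction.fixedBy α t = {a} := by
        ext b
        simp only [MulAction.mem_fixedBy, Set.mem_singleton_iff]
        constructor
        · intro h
          by_contra hb
          obtain ⟨z, hz, rfl⟩ := hsurj b hb
          rw [hact z hz, hcen z hz] at h
          have h5 := hinj _ (Z.mul_mem hz hzt) _ hz h
          apply hzt1
          exact mul_eq_left.mp h5
        · intro h; rw [h]; exact hta
      rw [this, Nat.card_coe_set_eq, Set.ncard_singleton]
  · intro hodd hinv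
    have hcop : (Nat.card Z).Coprime 2 := Nat.Coprime.symm (Nat.coprime_two_left.mpr hodd)
    obtain ⟨z₀, hz₀⟩ := (powCoprime hcop).surjective ⟨zt, hzt⟩
    have hz₀' : (z₀ : G) ^ 2 = zt := congrArg Subtype.val hz₀
    have huniq : ∀ z ∈ Z, z ^ 2 = zt → z = z₀ := by
      intro z hz h
      have : (powCoprime hcop) ⟨z, hz⟩ = (powCoprime hcop) z₀ := by
        rw [hz₀]
        apply Subtype.ext
        exact h
      exact congrArg Subtype.val ((powCoprime hcop).injective this)
    have : MulAction.fixedBy α t = {a, (z₀ : G) • b₀} := by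
      ext b
      simp only [MulAction.mem_fixedBy, Set.mem_insert_iff, Set.mem_singleton_iff]
      constructor
      · intro h
        by_cases hb : b = a
        · left; exact hb
        · right
          obtain ⟨z, hz, rfl⟩ := hsurj b hb
          rw [hact z hz, hinv z hz] at h
          have h5 := hinj _ (Z.mul_mem (Z.inv_mem hz) hzt) _ hz h
          have h6 : z ^ 2 = zt := by
            calc z ^ 2 = z * z := pow_two z
              _ = z * (z⁻¹ * zt) := by rw [h5]
              _ = zt := by group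
          rw [huniq z hz h6]
      · rintro (h | h)
        · rw [h]; exact hta
        · rw [h, hact _ z₀.2, hinv _ z₀.2, ← hz₀', pow_two]
          congr 1
          group
    rw [this, Nat.card_coe_set_eq, Set.ncard_pair]
    exact (hne_a _ z₀.2).symm

end Cfsg.Agent.Lib.Helper52_S0978_REG
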