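import Mathlib

set_option autoImplicit false

namespace Cfsg.Agent.Lib.Helper52_S0978_SIGN

open Subgroup MulAction

/-- an element of square one: parity of the number of fixed points -/
theorem card_modEq_card_fixedBy_sq {G : Type*} [Group G] {Ω : Type*} [MulAction G Ω] [Finite Ω]
    (x : G) (hx : x * x = 1) :
    Nat.card Ω ≡ Nat.card (MulAction.fixedBy Ω x) [MOD 2] := by
  have h2F : Fact (Nat.Prime 2) := ⟨Nat.prime_two⟩
  have h0 : IsPGroup 2 (zpowers x) := by
    intro g
    refine ⟨1, ?_⟩
    obtain ⟨g, hg⟩ := g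
    obtain ⟨k, rfl⟩ := Subgroup.mem_zpowers_iff.mp hg
    apply Subtype.ext
    simp only [pow_one, SubgroupClass.coe_pow, OneMemClass.coe_one]
    rw [← zpow_natCast, ← zpow_mul, mul_comm, zpow_mul, zpow_natCast, pow_two, hx, one_zpow]
  have h1 := h0.card_modEq_card_fixedPoints Ω
  have h2 : Nat.card (fixedPoints (zpowers x) Ω) = Nat.card (MulAction.fixedBy Ω x) := by
    apply Nat.card_congr
    apply Equiv.subtypeEquivRight
    intro a
    rw [mem_fixedPoints, MulAction.mem_fixedBy]
    constructor
    · intro h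
      exact h ⟨x, mem_zpowers x⟩
    · intro h g
      have h3 : zpowers x ≤ stabilizer G a := (zpowers_le).2 (mem_stabilizer_iff.2 h)
      exact mem_stabilizer_iff.1 (h3 g.2)
  rw [h2] at h1
  exact h1

/-- SIGN. A simple group of order `> 2` acts by even permutations, so an element `u` with
`u ^ 2 = 1` moves a multiple of `4` points. -/
theorem sign_fixed {G : Type*} [Group G] [Finite G] [IsSimpleGroup G] (hG : 2 < Nat.card G)
    {α : Type*} [Finite α] [MulAction G α] (u : G) (hu : u ^ 2 = 1) :
    4 ∣ Nat.card α - Nat.card (MulAction.fixedBy α u) := by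
  classical
  have := Fintype.ofFinite α
  have hx : u * u = 1 := by rw [← pow_two]; exact hu
  let ψ : G →* ℤˣ := Equiv.Perm.sign.comp (MulAction.toPermHom G α)
  have hψ : ψ u = 1 := by
    rcases (MonoidHom.normal_ker ψ).eq_bot_or_eq_top with h | h
    · exfalso
      have hinj : Function.Injective ψ := (MonoidHom.ker_eq_bot_iff ψ).1 h
      have h1 := Nat.card_le_card_of_injective ψ hinj
      have h2 : Nat.card ℤˣ = 2 := by
        rw [Nat.card_eq_fintype_card]; rfl
      omega
    · have h1 : u ∈ ψ.ker := by rw [h]; trivial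
      exact h1
  obtain ⟨σ, hσ⟩ : ∃ σ : Equiv.Perm α, σ = MulAction.toPermHom G α u := ⟨_, rfl⟩
  have hσ2 : σ ^ 2 = 1 := by rw [hσ, ← map_pow, pow_two, hx, map_one]
  have hsign := Equiv.Perm.sign_of_pow_two_eq_one hσ2
  have hfix : Fintype.card (Function.fixedPoints σ) = Nat.card (MulAction.fixedBy α u) := by
    rw [← Nat.card_eq_fintype_card]
    apply Nat.card_congr
    apply Equiv.subtypeEquivRight
    intro a
    rw [hσ]
    rfl
  have hs1 : Equiv.Perm.sign σ = 1 := by rw [hσ]; exact hψ
  rw [hs1, hfix, ← Nat.card_eq_fintype_card] at hsign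
  have heven : Even ((Nat.card α - Nat.card (MulAction.fixedBy α u)) / 2) := by
    rw [← neg_one_pow_eq_one_iff_even (R := ℤˣ) (by decide)]
    exact hsign.symm
  have hpar := card_modEq_card_fixedBy_sq (Ω := α) u hx
  have hle : Nat.card (MulAction.fixedBy α u) ≤ Nat.card α :=
    Nat.card_le_card_of_injective _ Subtype.val_injective
  obtain ⟨m, hm⟩ := heven
  rw [Nat.ModEq] at hpar
  omega

end Cfsg.Agent.Lib.Helper52_S0978_SIGN
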