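import Mathlib

set_option autoImplicit false

namespace Cfsg.Agent.Lib.Helper52_S1906_T

open MulAction Subgroup

section val

variable {G : Type*} [Group G] (H : Subgroup G) {A : Type*} [CommGroup A] (lam : H →* A)

/-- extension of `lam` by `1` outside `H` -/
noncomputable def val (y : G) : A := by
  classical exact if h : y ∈ H then lam ⟨y, h⟩ else 1

theorem val_of_mem {y : G} (h : y ∈ H) : val H lam y = lam ⟨y, h⟩ := by
  unfold val; exact dif_pos h

theorem val_of_not_mem {y : G} (h : y ∉ H) : val H lam y = 1 := by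
  unfold val; exact dif_neg h

theorem lam_eq_val {y y' : G} (h : y ∈ H) (e : y = y') : lam ⟨y, h⟩ = val H lam y' := by
  subst e; exact (val_of_mem H lam h).symm

theorem val_one : val H lam 1 = 1 := by
  rw [val_of_mem H lam H.one_mem]; exact map_one lam

theorem val_mul {a b : G} (ha : a ∈ H) (hb : b ∈ H) :
    val H lam (a * b) = val H lam a * val H lam b := by
  rw [val_of_mem H lam ha, val_of_mem H lam hb, val_of_mem H lam (H.mul_mem ha hb), ← map_mul]
  rfl

theorem val_conj {h : G} (hh : h ∈ H) (y : G) : val H lam (h⁻¹ * y * h) = val H lam y := by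
  by_cases hy : y ∈ H
  · rw [val_mul H lam (H.mul_mem (H.inv_mem hh) hy) hh, val_mul H lam (H.inv_mem hh) hy,
      mul_comm (val H lam h⁻¹), mul_assoc, ← val_mul H lam (H.inv_mem hh) hh, inv_mul_cancel,
      val_one, mul_one]
  · have : h⁻¹ * y * h ∉ H := fun hc => hy (by
      have := H.mul_mem (H.mul_mem hh hc) (H.inv_mem hh)
      simpa [mul_assoc] using this)
    rw [val_of_not_mem H lam this, val_of_not_mem H lam hy]

theorem transfer_eq_prod [H.FiniteIndex] [Fintype (G ⧸ H)] (c : G) :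
    MonoidHom.transfer lam c =
      ∏ q : G ⧸ H, val H lam ((q.out)⁻¹ * (c * (c⁻¹ • q).out)) := by
  classical
  rw [MonoidHom.transfer_def lam (default : H.LeftTransversal) c]
  unfold Subgroup.leftTransversals.diff
  simp only
  refine Finset.prod_congr ?_ ?_
  · ext q; simp
  · intro q _
    apply lam_eq_val
    rw [Subgroup.smul_apply_eq_smul_apply_inv_smul]
    have h1 : ∀ q : G ⧸ H, ((default : H.LeftTransversal).2.leftQuotientEquiv q : G) = q.out :=
      fun q => Subgroup.IsComplement.leftQuotientEquiv_apply Quotient.out_eq' q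
    rw [h1, h1]
    rfl

/-- the value of `lam` at the conjugate `y⁻¹ c y` -/
noncomputable def Wg (c y : G) : A := val H lam (y⁻¹ * c * y)

theorem Wg_mul_right (c y : G) {h : G} (hh : h ∈ H) : Wg H lam c (y * h) = Wg H lam c y := by
  unfold Wg
  rw [show (y * h)⁻¹ * c * (y * h) = h⁻¹ * (y⁻¹ * c * y) * h by group]
  exact val_conj H lam hh _

theorem Wg_mul_left (c y : G) {g : G} (hg : g * c = c * g) : Wg H lam c (g * y) = Wg H lam c y := by
  unfold Wg
  congr 1
  have : g⁻¹ * c * g = c := by rw [mul_assoc, ← hg, inv_mul_cancel_left]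
  calc (g * y)⁻¹ * c * (g * y) = y⁻¹ * (g⁻¹ * c * g) * y := by group
    _ = y⁻¹ * c * y := by rw [this]

theorem Wg_out (c y : G) : Wg H lam c ((y : G ⧸ H).out) = Wg H lam c y := by
  obtain ⟨h, hh⟩ := QuotientGroup.mk_out_eq_mul H y
  rw [hh]
  exact Wg_mul_right H lam c y h.2

theorem out_mem (g : G) (ω : G ⧸ H) : ω.out⁻¹ * (g * (g⁻¹ • ω).out) ∈ H := by
  rw [← QuotientGroup.eq]
  rw [QuotientGroup.out_eq']
  have : ((g * (g⁻¹ • ω).out : G) : G ⧸ H) = g • (((g⁻¹ • ω).out : G) : G ⧸ H) := rfl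
  rw [this, QuotientGroup.out_eq', smul_inv_smul]


/-- product over all cosets reduces to the product over the fixed cosets -/
theorem prod_fixed [H.FiniteIndex] [Fintype (G ⧸ H)] [DecidableEq (G ⧸ H)] (c : G) (hc : c * c = 1) :
    MonoidHom.transfer lam c =
      ∏ ω : G ⧸ H, (if c • ω = ω then Wg H lam c ω.out else 1) := by
  rw [transfer_eq_prod]
  have hci : c⁻¹ = c := inv_eq_of_mul_eq_one_right hc
  have hcc : ∀ ω : G ⧸ H, c • c • ω = ω := fun ω => by rw [smul_smul, hc, one_smul]
  set term : G ⧸ H → A := fun q => val H lam ((q.out)⁻¹ * (c * (c⁻¹ • q).out)) with hterm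
  set F : G ⧸ H → A := fun ω => if c • ω = ω then 1 else term ω with hF
  have h1 : ∀ ω : G ⧸ H, term ω = (if c • ω = ω then Wg H lam c ω.out else 1) * F ω := by
    intro ω
    by_cases hω : c • ω = ω
    · simp only [hF, hterm, if_pos hω, mul_one, Wg]
      rw [hci, hω, mul_assoc]
    · simp only [hF, if_neg hω, one_mul]
  have h2 : ∏ ω : G ⧸ H, F ω = 1 := by
    refine Finset.prod_involution (fun ω _ => c • ω) ?_ ?_ (fun _ _ => Finset.mem_univ _)
      (fun ω _ => hcc ω)
    · intro ω _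
      by_cases hω : c • ω = ω
      · simp only [hF, hω, if_true, mul_one]
      · have hω' : ¬ c • c • ω = c • ω := fun h => hω (by rw [hcc] at h; exact h.symm)
        simp only [hF, if_neg hω, if_neg hω', hterm, hci, hcc]
        rw [← val_mul H lam]
        · rw [show (Quotient.out ω)⁻¹ * (c * Quotient.out (c • ω)) *
            ((Quotient.out (c • ω))⁻¹ * (c * Quotient.out ω)) =
            (Quotient.out ω)⁻¹ * (c * c) * Quotient.out ω by group, hc, mul_one, inv_mul_cancel,
            val_one]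
        · have := out_mem H c ω
          rwa [hci] at this
        · have := out_mem H c (c • ω)
          rwa [hci, hcc] at this
    · intro ω _ h hω
      apply h
      simp only [hF, if_pos hω]
  calc ∏ ω : G ⧸ H, term ω
      = ∏ ω : G ⧸ H, ((if c • ω = ω then Wg H lam c ω.out else 1) * F ω) :=
        Finset.prod_congr rfl (fun ω _ => h1 ω)
    _ = _ := by rw [Finset.prod_mul_distrib, h2, mul_one]


end val

/-- an element of square one: parity of the number of fixed points -/
theorem card_modEq_card_fixedBy_sq {G : Type*} [Group G] {Ω : Type*} [MulAction G Ω] [Finite Ω]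
    (x : G) (hx : x * x = 1) :
    Nat.card Ω ≡ Nat.card (MulAction.fixedBy Ω x) [MOD 2] := by
  have h2F : Fact (Nat.Prime 2) := ⟨Nat.prime_two⟩
  have h0 : IsPGroup 2 (zpowers x) := by
    intro g
    refine ⟨1, ?_⟩
    obtain ⟨g, hg⟩ := g
    obtain ⟨k, rfl⟩ := Subgroup.mem_zpowers_iff.mp hg
    apply Subtype.ext
    simp only [pow_one, SubgroupClass.coe_pow, OneMemClass.coe_one]
    rw [← zpow_natCast, ← zpow_mul, mul_comm, zpow_mul, zpow_natCast, pow_two, hx, one_zpow]
  have h1 := h0.card_modEq_card_fixedPoints Ω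
  have h2 : Nat.card (fixedPoints (zpowers x) Ω) = Nat.card (MulAction.fixedBy Ω x) := by
    apply Nat.card_congr
    apply Equiv.subtypeEquivRight
    intro a
    rw [mem_fixedPoints, MulAction.mem_fixedBy]
    constructor
    · intro h
      exact h ⟨x, mem_zpowers x⟩
    · intro h g
      have h3 : zpowers x ≤ stabilizer G a := (zpowers_le).2 (mem_stabilizer_iff.2 h)
      exact mem_stabilizer_iff.1 (h3 g.2)
  rw [h2] at h1
  exact h1

theorem aux {G : Type*} [Group G] [Finite G] (H : Subgroup G) (hH2 : IsPGroup 2 H)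
    (hidx : ¬ 2 ∣ H.index)
    {A : Type*} [CommGroup A]
    (hA : ∀ a b : A, a ^ 2 = 1 → b ^ 2 = 1 → a ≠ 1 → b ≠ 1 → a = b)
    (lam : H →* A) (c : H)
    (hc : c ∈ Subgroup.center H) (hc2 : c ^ 2 = 1)
    (htr : MonoidHom.transfer lam (c : G) = 1) :
    ∃ (x : G) (v : H), (v : G) = x⁻¹ * (c : G) * x ∧
      v ∈ Subgroup.center H ∧ lam v = 1 := by
  classical
  have h2F : Fact (Nat.Prime 2) := ⟨Nat.prime_two⟩
  have : Fintype (G ⧸ H) := Fintype.ofFinite _
  obtain ⟨cG, hcG⟩ : ∃ cG : G, cG = (c : G) := ⟨_, rfl⟩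
  rw [← hcG] at htr
  have hcc : cG * cG = 1 := by
    have := congrArg (Subtype.val) hc2
    rw [pow_two] at this
    rw [hcG]
    exact this
  have hcomm : ∀ h ∈ H, h * cG = cG * h := by
    intro h hh
    have := (Subgroup.mem_center_iff.mp hc) ⟨h, hh⟩
    rw [hcG]
    exact congrArg Subtype.val this
  -- W
  obtain ⟨W, hW⟩ : ∃ W : G ⧸ H → A, W = fun ω => Wg H lam cG ω.out := ⟨_, rfl⟩
  have hprod : ∏ ω : G ⧸ H, (if cG • ω = ω then W ω else 1) = 1 := by
    rw [hW, ← prod_fixed H lam cG hcc]; exact htr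
  -- squares
  have hWsq : ∀ ω : G ⧸ H, cG • ω = ω → W ω ^ 2 = 1 := by
    intro ω hω
    have hmem : ω.out⁻¹ * cG * ω.out ∈ H := by
      have := out_mem H cG ω
      rw [inv_eq_of_mul_eq_one_right hcc, hω, ← mul_assoc] at this
      exact this
    simp only [hW, Wg]
    rw [pow_two, ← val_mul H lam hmem hmem,
      show ω.out⁻¹ * cG * ω.out * (ω.out⁻¹ * cG * ω.out) = ω.out⁻¹ * (cG * cG) * ω.out by group,
      hcc, mul_one, inv_mul_cancel, val_one]
  -- invariance of `W` under `H`
  have hWinv : ∀ (h : G), h ∈ H → ∀ ω : G ⧸ H, W (h • ω) = W ω := by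
    intro h hh ω
    simp only [hW]
    have h1 : h • ω = ((h * ω.out : G) : G ⧸ H) := by
      conv_lhs => rw [← QuotientGroup.out_eq' ω]
      rfl
    rw [h1, Wg_out, Wg_mul_left H lam cG _ (hcomm h hh)]
  have hFixinv : ∀ (h : G), h ∈ H → ∀ ω : G ⧸ H, cG • ω = ω → cG • (h • ω) = h • ω := by
    intro h hh ω hω
    rw [smul_smul, ← hcomm h hh, mul_smul, hω]
  -- the finsets
  obtain ⟨Fix, hFix⟩ : ∃ Fix : Finset (G ⧸ H), Fix = Finset.univ.filter (fun ω => cG • ω = ω) :=
    ⟨_, rfl⟩
  obtain ⟨N, hN⟩ : ∃ N : Finset (G ⧸ H), N = Fix.filter (fun ω => ¬ W ω = 1) := ⟨_, rfl⟩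
  obtain ⟨P, hP⟩ : ∃ P : Finset (G ⧸ H), P = Fix.filter (fun ω => W ω = 1) := ⟨_, rfl⟩
  have hcardFix : Odd Fix.card := by
    have h1 := card_modEq_card_fixedBy_sq (Ω := G ⧸ H) cG hcc
    have h2 : Nat.card (G ⧸ H) = H.index := rfl
    have h3 : Nat.card (MulAction.fixedBy (G ⧸ H) cG) = Fix.card := by
      rw [Nat.card_eq_fintype_card, ← Set.toFinset_card]
      congr 1
      ext ω
      simp [hFix]
    rw [h2, h3] at h1
    rw [← Nat.not_even_iff_odd, even_iff_two_dvd]
    intro h4
    exact hidx ((Nat.modEq_zero_iff_dvd).1 (h1.trans ((Nat.modEq_zero_iff_dvd).2 h4)))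
  have hPN : P.card + N.card = Fix.card := by
    rw [hP, hN]
    exact Finset.card_filter_add_card_filter_not _
  have hprodN : ∏ ω ∈ N, W ω = 1 := by
    rw [← hprod, hN, hFix, Finset.filter_filter, Finset.prod_filter]
    refine Finset.prod_congr rfl (fun ω _ => ?_)
    by_cases h1 : cG • ω = ω
    · by_cases h2 : W ω = 1
      · simp [h1, h2]
      · simp [h1, h2]
    · simp [h1]
  have hNeven : Even N.card := by
    rcases N.eq_empty_or_nonempty with h0 | ⟨ω0, hω0⟩
    · rw [h0]; simp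
    · have hN' : ∀ ω ∈ N, cG • ω = ω ∧ ¬ W ω = 1 := by
        intro ω hω
        rw [hN, hFix, Finset.filter_filter, Finset.mem_filter] at hω
        exact hω.2
      have h1 : ∀ ω ∈ N, W ω = W ω0 := fun ω hω =>
        hA _ _ (hWsq ω (hN' ω hω).1) (hWsq ω0 (hN' ω0 hω0).1) (hN' ω hω).2 (hN' ω0 hω0).2
      rw [Finset.prod_congr rfl h1, Finset.prod_const] at hprodN
      rcases Nat.even_or_odd N.card with h2 | ⟨k, hk⟩
      · exact h2
      · exfalso
        rw [hk, pow_succ, pow_mul, hWsq ω0 (hN' ω0 hω0).1, one_pow, one_mul] at hprodN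
        exact (hN' ω0 hω0).2 hprodN
  have hPodd : Odd P.card := by
    rcases Nat.even_or_odd P.card with h2 | h2
    · exfalso
      have := h2.add hNeven
      rw [hPN] at this
      exact (Nat.not_even_iff_odd.2 hcardFix) this
    · exact h2
  -- the action of `H` on `P`
  let P' : SubMulAction H (G ⧸ H) :=
    { carrier := {ω | cG • ω = ω ∧ W ω = 1}
      smul_mem' := by
        intro h ω hω
        exact ⟨hFixinv (h : G) h.2 ω hω.1, (hWinv (h : G) h.2 ω).trans hω.2⟩ }
  have hP'card : Nat.card P' = P.card := by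
    have : Nat.card P' = Nat.card {ω : G ⧸ H // cG • ω = ω ∧ W ω = 1} := rfl
    rw [this, Nat.card_eq_fintype_card, Fintype.card_subtype, hP, hFix, Finset.filter_filter]
  have hfp := hH2.card_modEq_card_fixedPoints P'
  have hne : (fixedPoints H P').Nonempty := by
    by_contra hemp
    rw [Set.not_nonempty_iff_eq_empty] at hemp
    rw [hemp, hP'card] at hfp
    rw [Nat.card_of_isEmpty, Nat.modEq_zero_iff_dvd, ← even_iff_two_dvd] at hfp
    exact (Nat.not_even_iff_odd.2 hPodd) hfp
  obtain ⟨⟨ω, hω1, hω2⟩, hωfix⟩ := hne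
  have hfixH : ∀ h ∈ H, h • ω = ω := by
    intro h hh
    have := (mem_fixedPoints.mp hωfix) ⟨h, hh⟩
    exact congrArg Subtype.val this
  have hconj : ∀ h ∈ H, ω.out⁻¹ * h * ω.out ∈ H := by
    intro h hh
    have h1 := hfixH h⁻¹ (H.inv_mem hh)
    have h2 : h⁻¹ • ω = ((h⁻¹ * ω.out : G) : G ⧸ H) := by
      conv_lhs => rw [← QuotientGroup.out_eq' ω]
      rfl
    rw [h2] at h1
    conv_rhs at h1 => rw [← QuotientGroup.out_eq' ω]
    have h3 := QuotientGroup.eq.mp h1
    rwa [mul_inv_rev, inv_inv] at h3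
  -- conjugation by `ω.out` is a bijection of `H`
  let φ : H → H := fun h => ⟨ω.out⁻¹ * h * ω.out, hconj h h.2⟩
  have hφinj : Function.Injective φ := by
    intro a b hab
    have := congrArg Subtype.val hab
    simp only [φ] at this
    apply Subtype.ext
    exact mul_left_cancel (mul_right_cancel this)
  have hφsurj : Function.Surjective φ := Finite.surjective_of_injective hφinj
  refine ⟨ω.out, φ c, ?_, ?_, ?_⟩
  · simp only [φ]
  · rw [Subgroup.mem_center_iff]
    intro y
    obtain ⟨h, rfl⟩ := hφsurj y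
    apply Subtype.ext
    simp only [φ, Subgroup.coe_mul]
    have := hcomm h h.2
    rw [hcG] at this
    calc ω.out⁻¹ * h * ω.out * (ω.out⁻¹ * c * ω.out) = ω.out⁻¹ * (h * c) * ω.out := by group
      _ = ω.out⁻¹ * (c * h) * ω.out := by rw [this]
      _ = _ := by group
  · have : W ω = lam (φ c) := by
      simp only [hW, Wg, φ, hcG]
      rw [val_of_mem]
    rw [← this, hω2]

/-- **S1906-T**: evaluation of the transfer at a central involution of a Sylow `2`-subgroup. -/
theorem exists_central_conj_of_transfer_eq_one {G : Type*} [Group G] [Finite G] (X : Sylow 2 G)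
    {A : Type*} [CommGroup A]
    (hA : ∀ a b : A, a ^ 2 = 1 → b ^ 2 = 1 → a ≠ 1 → b ≠ 1 → a = b)
    (lam : ↥(X : Subgroup G) →* A) (c : ↥(X : Subgroup G))
    (hc : c ∈ Subgroup.center ↥(X : Subgroup G)) (hc2 : c ^ 2 = 1)
    (htr : MonoidHom.transfer lam (c : G) = 1) :
    ∃ (x : G) (v : ↥(X : Subgroup G)), (v : G) = x⁻¹ * (c : G) * x ∧
      v ∈ Subgroup.center ↥(X : Subgroup G) ∧ lam v = 1 := by
  have h2F : Fact (Nat.Prime 2) := ⟨Nat.prime_two⟩
  exact aux (X : Subgroup G) X.isPGroup' X.not_dvd_index hA lam c hc hc2 htr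

end Cfsg.Agent.Lib.Helper52_S1906_T
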