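import Mathlib
import Cfsg.Prelude.Def_KGroupFacts
import Cfsg.Agent.Lib.Helper72_SLnUceDefs
import Cfsg.Agent.Lib.Helper66_StMain
import Cfsg.Agent.Lib.Helper66_SL3PresA
import Cfsg.Agent.Lib.Helper5_PSLCard

/-!
S2086-FREE (helper72's market): lifts of two commuting elementary matrices with a free index commute (Milnor).
-/

set_option autoImplicit false

namespace Cfsg.Agent.Lib.Helper52_S2086_FREE

open Matrix Cfsg.Agent.Lib.Helper81_UceA Cfsg.Agent.Lib.Helper66_StCalc Cfsg.Agent.Lib.Helper72_SLnUce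
  Cfsg.Agent.Lib.Helper66_SL3Pres

universe u v

/-- Milnor's trick (local copy of MIL). -/
theorem mil {E G : Type*} [Group E] [Group G] {π : E →* G} (hc : CExt π) {a b y : G}
    (hya : y * a = a * y) (hyb : y * b = b * y) {e e' : E}
    (he : π e = a * b * a⁻¹ * b⁻¹) (he' : π e' = y) : e * e' = e' * e := by
  -- `e'` commutes with `cm a b`
  have h1 : e' * cm hc.surj a b * e'⁻¹ = cm hc.surj a b := by
    rw [conj_cm hc, he']
    have e1 : y * a * y⁻¹ = a := by rw [hya]; group
    have e2 : y * b * y⁻¹ = b := by rw [hyb]; group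
    rw [e1, e2]
  have h1' : e' * cm hc.surj a b = cm hc.surj a b * e' := by
    have := congrArg (· * e') h1
    simpa [mul_assoc] using this
  -- `e = cm a b * z`, `z` central
  obtain ⟨z, hzdef⟩ : ∃ z, z = (cm hc.surj a b)⁻¹ * e := ⟨_, rfl⟩
  have hz : π z = 1 := by
    rw [hzdef, map_mul, map_inv, map_cm hc, he, inv_mul_cancel]
  have h3 : e = cm hc.surj a b * z := by rw [hzdef]; group
  have h2 := hc.comm_of_ker hz e'
  calc e * e' = cm hc.surj a b * (z * e') := by rw [h3, mul_assoc]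
    _ = cm hc.surj a b * (e' * z) := by rw [h2]
    _ = (e' * cm hc.surj a b) * z := by rw [h1', mul_assoc]
    _ = e' * e := by rw [h3, mul_assoc]

variable {ι : Type*} [Fintype ι] [DecidableEq ι] {K : Type*} [Field K] {E : Type*} [Group E]
  {π : E →* Matrix.SpecialLinearGroup ι K}

/-- FREE (S): a free index `m` (uses MIL and stRelAB_TT.comm / comm3). -/
theorem FREE (hc : CExt π) {i j k l m : ι} (hij : i ≠ j) (hkl : k ≠ l) (hjk : j ≠ k) (hil : i ≠ l)
    (hmi : m ≠ i) (hmj : m ≠ j) (hmk : m ≠ k) (hml : m ≠ l) (t u : K) {a b : E}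
    (ha : π a = TT ι K i j t) (hb : π b = TT ι K k l u) : a * b = b * a := by
  have hR := stRelAB_TT (ι := ι) (K := K)
  have h3 := hR.comm3 i m j t 1 hmi.symm hmj hij
  rw [mul_one] at h3
  have hya : TT ι K k l u * TT ι K i m t = TT ι K i m t * TT ι K k l u :=
    (hR.comm i m k l t u hmi.symm hkl hil hmk).symm
  have hyb : TT ι K k l u * TT ι K m j 1 = TT ι K m j 1 * TT ι K k l u :=
    (hR.comm m j k l 1 u hmj hkl hml hjk).symm
  exact mil hc hya hyb (ha.trans h3.symm) hb

end Cfsg.Agent.Lib.Helper52_S2086_FREE
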