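import Mathlib
import Cfsg.Prelude.Def_KGroupFacts
import Cfsg.Agent.Lib.Helper72_SLnUceDefs
import Cfsg.Agent.Lib.Helper66_StMain
import Cfsg.Agent.Lib.Helper66_SL3PresA
import Cfsg.Agent.Lib.Helper5_PSLCard
import Cfsg.Agent.Lib.Helper52_S2086_FREE

/-!
S2086-LIFTCOMM and S2086-FREE4 (helper72's market).
-/

set_option autoImplicit false

namespace Cfsg.Agent.Lib.Helper52_S2086_LIFTCOMM

open Matrix Cfsg.Agent.Lib.Helper81_UceA Cfsg.Agent.Lib.Helper66_StCalc Cfsg.Agent.Lib.Helper72_SLnUce
  Cfsg.Agent.Lib.Helper66_SL3Pres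

universe u v

/-- an index outside a small finite set -/
theorem exists_free {ι : Type*} [Fintype ι] [DecidableEq ι] (s : Finset ι) (h : s.card < Fintype.card ι) :
    ∃ m, m ∉ s := by
  obtain ⟨m, -, hm⟩ := Finset.exists_mem_notMem_of_card_lt_card (s := s) (t := Finset.univ)
    (by rwa [Finset.card_univ])
  exact ⟨m, hm⟩

variable {ι : Type*} [Fintype ι] [DecidableEq ι] {K : Type*} [Field K] {E : Type*} [Group E]
  {π : E →* Matrix.SpecialLinearGroup ι K}

/-- LIFTCOMM (S): assembly of the pair types (SameComm from FREE with a third index). -/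
theorem LIFTCOMM (hc : CExt π) (h3 : 3 ≤ Fintype.card ι) (hrow : RowComm π) (hcol : ColComm π)
    (hdisj : DisjComm π) : LiftComm π := by
  intro i j k l t u a b hij hkl hjk hil ha hb
  by_cases hik : i = k
  · subst hik
    by_cases hjl : j = l
    · subst hjl
      obtain ⟨m, hm⟩ := exists_free ({i, j} : Finset ι)
        (lt_of_le_of_lt (Finset.card_le_two) (by omega))
      simp only [Finset.mem_insert, Finset.mem_singleton, not_or] at hm
      exact Cfsg.Agent.Lib.Helper52_S2086_FREE.FREE hc hij hij hjk hil hm.1 hm.2 hm.1 hm.2 t u ha hb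
    · exact hrow i j l t u a b hij hil hjl ha hb
  · by_cases hjl : j = l
    · subst hjl
      exact hcol j i k t u a b hij hkl hik ha hb
    · exact hdisj i j k l t u a b hij hik hil hjk hjl hkl ha hb

end Cfsg.Agent.Lib.Helper52_S2086_LIFTCOMM
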