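import Mathlib
import Cfsg.Prelude.Def_KGroupFacts
import Cfsg.Agent.Lib.Helper72_SLnUceDefs
import Cfsg.Agent.Lib.Helper66_StMain
import Cfsg.Agent.Lib.Helper66_SL3PresA
import Cfsg.Agent.Lib.Helper5_PSLCard
import Cfsg.Agent.Lib.Helper52_S2086_FREE
import Cfsg.Agent.Lib.Helper52_S2086_LIFTCOMM

/-!
S2086-FREE4 (helper72's market): with at least four indices the row and column cases have a free index,
with five also the disjoint case.
-/

set_option autoImplicit false

namespace Cfsg.Agent.Lib.Helper52_S2086_FREE4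

open Matrix Cfsg.Agent.Lib.Helper81_UceA Cfsg.Agent.Lib.Helper66_StCalc Cfsg.Agent.Lib.Helper72_SLnUce
  Cfsg.Agent.Lib.Helper66_SL3Pres

universe u v

variable {ι : Type*} [Fintype ι] [DecidableEq ι] {K : Type*} [Field K] {E : Type*} [Group E]
  {π : E →* Matrix.SpecialLinearGroup ι K}

/-- FREE4 (S): with four indices the row and column cases have a free index; with five also the disjoint case. -/
theorem FREE4 (hc : CExt π) (h4 : 4 ≤ Fintype.card ι) :
    RowComm π ∧ ColComm π ∧ (5 ≤ Fintype.card ι → DisjComm π) := by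
  refine ⟨?_, ?_, ?_⟩
  · intro i j m' t u a b hij him hjm ha hb
    obtain ⟨m, hm⟩ := Cfsg.Agent.Lib.Helper52_S2086_LIFTCOMM.exists_free ({i, j, m'} : Finset ι)
      (lt_of_le_of_lt (Finset.card_le_three) (by omega))
    simp only [Finset.mem_insert, Finset.mem_singleton, not_or] at hm
    exact Cfsg.Agent.Lib.Helper52_S2086_FREE.FREE hc hij him hij.symm him hm.1 hm.2.1 hm.1 hm.2.2 t u ha hb
  · intro i j m' t u a b hji hmi hjm ha hb
    obtain ⟨m, hm⟩ := Cfsg.Agent.Lib.Helper52_S2086_LIFTCOMM.exists_free ({i, j, m'} : Finset ι)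
      (lt_of_le_of_lt (Finset.card_le_three) (by omega))
    simp only [Finset.mem_insert, Finset.mem_singleton, not_or] at hm
    exact Cfsg.Agent.Lib.Helper52_S2086_FREE.FREE hc hji hmi hmi.symm hji hm.2.1 hm.1 hm.2.2 hm.1 t u ha hb
  · intro h5 i j k l t u a b hij hik hil hjk hjl hkl ha hb
    obtain ⟨m, hm⟩ := Cfsg.Agent.Lib.Helper52_S2086_LIFTCOMM.exists_free ({i, j, k, l} : Finset ι)
      (lt_of_le_of_lt (Finset.card_le_four) (by omega))
    simp only [Finset.mem_insert, Finset.mem_singleton, not_or] at hm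
    exact Cfsg.Agent.Lib.Helper52_S2086_FREE.FREE hc hij hkl hjk hil hm.1 hm.2.1 hm.2.2.1 hm.2.2.2 t u ha hb

end Cfsg.Agent.Lib.Helper52_S2086_FREE4
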