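import Mathlib

set_option autoImplicit false

namespace Cfsg.Agent.Lib.Helper52_S2153_CNT9

open MulAction

theorem CNT9 {G : Type*} [Group G] {Ω : Type*} [MulAction G Ω] [Finite Ω] (d1 d2 d3 : G)
    (h12 : d1 * d2 = d2 * d1) (h13 : d1 * d3 = d3 * d1) (h23 : d2 * d3 = d3 * d2)
    (h1 : d1 ^ 3 = 1) (h2 : d2 ^ 3 = 1)
    (hX : Nat.card {ω : Ω // d3 • ω = ω} = 32)
    (hfix : ∀ i j : ℕ, i < 3 → j < 3 → ¬ (i = 0 ∧ j = 0) →
      Nat.card {ω : Ω // d3 • ω = ω ∧ (d1 ^ i * d2 ^ j) • ω = ω} = 2) : False := by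
  classical
  have c12 : Commute d1 d2 := h12
  have c13 : Commute d1 d3 := h13
  have c23 : Commute d2 d3 := h23
  have hmul : ∀ i j i' j' : ℕ,
      d1 ^ i * d2 ^ j * (d1 ^ i' * d2 ^ j') = d1 ^ (i + i') * d2 ^ (j + j') := by
    intro i j i' j'
    have : d2 ^ j * d1 ^ i' = d1 ^ i' * d2 ^ j := ((c12.pow_pow i' j).eq).symm
    calc d1 ^ i * d2 ^ j * (d1 ^ i' * d2 ^ j') = d1 ^ i * (d2 ^ j * d1 ^ i') * d2 ^ j' := by group
      _ = d1 ^ i * (d1 ^ i' * d2 ^ j) * d2 ^ j' := by rw [this]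
      _ = d1 ^ (i + i') * d2 ^ (j + j') := by rw [pow_add, pow_add]; group
  have hmod : ∀ i j : ℕ, d1 ^ i * d2 ^ j = d1 ^ (i % 3) * d2 ^ (j % 3) := by
    intro i j
    rw [pow_eq_pow_mod i h1, pow_eq_pow_mod j h2]
  -- a product `d1^i d2^j = 1` with `i, j < 3` forces `i = j = 0`
  have hone : ∀ i j : ℕ, i < 3 → j < 3 → d1 ^ i * d2 ^ j = 1 → i = 0 ∧ j = 0 := by
    intro i j hi hj h
    by_contra hcon
    have h3 := hfix i j hi hj hcon
    have h4 : Nat.card {ω : Ω // d3 • ω = ω ∧ (d1 ^ i * d2 ^ j) • ω = ω} =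
        Nat.card {ω : Ω // d3 • ω = ω} := by
      apply Nat.card_congr
      apply Equiv.subtypeEquivRight
      intro ω
      rw [h, one_smul]
      simp
    omega
  -- the group `R`
  let R : Subgroup G :=
    { carrier := {g | ∃ i j : ℕ, g = d1 ^ i * d2 ^ j}
      mul_mem' := by
        rintro _ _ ⟨i, j, rfl⟩ ⟨i', j', rfl⟩
        exact ⟨i + i', j + j', hmul i j i' j'⟩
      one_mem' := ⟨0, 0, by simp⟩
      inv_mem' := by
        rintro _ ⟨i, j, rfl⟩
        refine ⟨2 * i, 2 * j, ?_⟩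
        apply inv_eq_of_mul_eq_one_right
        rw [hmul]
        have e1 : i + 2 * i = 3 * i := by ring
        have e2 : j + 2 * j = 3 * j := by ring
        rw [e1, e2, pow_mul, pow_mul, h1, h2, one_pow, one_pow, one_mul] }
  have hRmem : ∀ g : G, g ∈ R ↔ ∃ i j : ℕ, g = d1 ^ i * d2 ^ j := fun g => Iff.rfl
  -- parametrisation of `R`
  let e : Fin 3 × Fin 3 → R := fun ij => ⟨d1 ^ (ij.1 : ℕ) * d2 ^ (ij.2 : ℕ), ⟨_, _, rfl⟩⟩
  have he_inj : Function.Injective e := by
    rintro ⟨i, j⟩ ⟨i', j'⟩ h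
    have h' : d1 ^ (i : ℕ) * d2 ^ (j : ℕ) = d1 ^ (i' : ℕ) * d2 ^ (j' : ℕ) :=
      congrArg Subtype.val h
    -- multiply by the inverse of the right side
    have h3 : d1 ^ (((i : ℕ) + 2 * (i' : ℕ)) % 3) * d2 ^ (((j : ℕ) + 2 * (j' : ℕ)) % 3) = 1 := by
      rw [← hmod, ← hmul, h', hmul]
      have e1 : (i' : ℕ) + 2 * (i' : ℕ) = 3 * i' := by ring
      have e2 : (j' : ℕ) + 2 * (j' : ℕ) = 3 * j' := by ring
      rw [e1, e2, pow_mul, pow_mul, h1, h2, one_pow, one_pow, one_mul]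
    have h4 := hone _ _ (Nat.mod_lt _ (by norm_num)) (Nat.mod_lt _ (by norm_num)) h3
    have hi := i.2
    have hi' := i'.2
    have hj := j.2
    have hj' := j'.2
    have : (i : ℕ) = i' ∧ (j : ℕ) = j' := by omega
    exact Prod.ext (Fin.ext this.1) (Fin.ext this.2)
  have he_surj : Function.Surjective e := by
    rintro ⟨g, i, j, rfl⟩
    refine ⟨(⟨i % 3, Nat.mod_lt _ (by norm_num)⟩, ⟨j % 3, Nat.mod_lt _ (by norm_num)⟩), ?_⟩
    apply Subtype.ext
    exact (hmod i j).symm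
  have : Fintype R := Fintype.ofBijective e ⟨he_inj, he_surj⟩
  have hcardR : Fintype.card R = 9 := by
    rw [← Fintype.card_of_bijective (⟨he_inj, he_surj⟩ : Function.Bijective e)]
    simp
  -- `R` acts on `X = Fix(d3)`
  have hRcomm : ∀ r ∈ R, r * d3 = d3 * r := by
    rintro _ ⟨i, j, rfl⟩
    exact (((c13.pow_left i).mul_left (c23.pow_left j))).eq
  let X : SubMulAction R Ω :=
    { carrier := {ω | d3 • ω = ω}
      smul_mem' := by
        intro r ω hω
        have h : (r : G) • ω = r • ω := rfl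
        show d3 • (r • ω) = r • ω
        have hω' : d3 • ω = ω := hω
        rw [← h, smul_smul, ← hRcomm r r.2, mul_smul, hω'] }
  have : Fintype X := Fintype.ofFinite X
  have : ∀ r : R, Fintype (fixedBy X r) := fun r => Fintype.ofFinite _
  have : Fintype (Quotient (orbitRel R X)) := Fintype.ofFinite _
  have hB := MulAction.sum_card_fixedBy_eq_card_orbits_mul_card_group R X
  -- the fixed point counts
  have hcount : ∀ r : R, Fintype.card (fixedBy X r) = 2 + (if r = 1 then 30 else 0) := by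
    intro r
    rw [← Nat.card_eq_fintype_card]
    by_cases hr : r = 1
    · rw [if_pos hr]
      show _ = 32
      rw [← hX]
      apply Nat.card_congr
      refine
        { toFun := fun x => ⟨x.1.1, x.1.2⟩
          invFun := fun ω => ⟨⟨ω.1, ω.2⟩, ?_⟩
          left_inv := fun x => rfl
          right_inv := fun ω => rfl }
      rw [hr]
      exact one_smul _ _
    · rw [if_neg hr, add_zero]
      obtain ⟨ij, hij⟩ := he_surj r
      have hne : ¬ ((ij.1 : ℕ) = 0 ∧ (ij.2 : ℕ) = 0) := by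
        rintro ⟨ha, hb⟩
        apply hr
        rw [← hij]
        apply Subtype.ext
        show d1 ^ (ij.1 : ℕ) * d2 ^ (ij.2 : ℕ) = 1
        rw [ha, hb]; simp
      rw [← hfix ij.1 ij.2 ij.1.2 ij.2.2 hne]
      have hrG : (r : G) = d1 ^ (ij.1 : ℕ) * d2 ^ (ij.2 : ℕ) := by rw [← hij]
      apply Nat.card_congr
      refine
        { toFun := fun x => ⟨x.1.1, x.1.2, ?_⟩
          invFun := fun ω => ⟨⟨ω.1, ω.2.1⟩, ?_⟩
          left_inv := fun x => rfl
          right_inv := fun ω => rfl }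
      · have := x.2
        rw [mem_fixedBy] at this
        have h2 := congrArg Subtype.val this
        rw [← hrG]
        exact h2
      · rw [mem_fixedBy]
        apply Subtype.ext
        show (r : G) • ω.1 = ω.1
        rw [hrG]
        exact ω.2.2
  rw [Finset.sum_congr rfl (fun r _ => hcount r), Finset.sum_add_distrib, Finset.sum_const,
    Finset.sum_ite_eq' Finset.univ (1 : R), Finset.card_univ, hcardR] at hB
  simp only [Finset.mem_univ, if_true, smul_eq_mul] at hB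
  omega

end Cfsg.Agent.Lib.Helper52_S2153_CNT9
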