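import Mathlib
import Cfsg.Agent.Lib.Helper77_SLnDefs
import Cfsg.Prelude.Def_Characters

/-!
S2332-TRACEA (helper77's market): every transvection of the Levi factor is conjugate in `G` to some `xu u`,
hence has trace `f - e`.
-/

set_option autoImplicit false
set_option linter.unusedSectionVars false
open Matrix Cfsg.Agent.Lib.Helper5_Transv Cfsg.Agent.Lib.Helper77_SLnDefs

namespace Cfsg.Agent.Lib.Helper52_S2332_TRACEA

variable {F : Type*} [Field F] [Fintype F] [DecidableEq F] {κ : Type} [Fintype κ] [DecidableEq κ]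
  {V : Type} [AddCommGroup V] [Module ℂ V] [FiniteDimensional ℂ V]

/-- the trace of a representation is a class function -/
theorem trace_conj {G : Type*} [Group G] (ρ : Representation ℂ G V) (g x : G) :
    LinearMap.trace ℂ V (ρ (g * x * g⁻¹)) = LinearMap.trace ℂ V (ρ x) := by
  have h1 : ρ (g * x * g⁻¹) = ρ g * (ρ x * ρ g⁻¹) := by rw [map_mul, map_mul, mul_assoc]
  have h2 : ρ x * ρ g⁻¹ * ρ g = ρ x := by
    rw [mul_assoc, ← map_mul, inv_mul_cancel, map_one, mul_one]
  rw [h1, LinearMap.trace_mul_comm, h2]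

theorem emb_tvS_coe (a φ : κ → F) (h : φ ⬝ᵥ a = 0) (c : F) :
    (emb (tvS a φ h c)).1 = tv (ext0 a) (ext0 φ) c := by
  rw [emb_coe, tvS_coe]
  ext (i | i) (j | j) <;>
    simp [tv, ext0, Matrix.vecMulVec_apply, Matrix.one_apply, Matrix.fromBlocks]

theorem ext0_e (j : κ) : (ext0 (e j : κ → F) : Unit ⊕ κ → F) = e (Sum.inr j) := by
  funext i
  rcases i with i | i
  · simp [ext0, e]
  · simp only [ext0, Sum.elim_inr, e]
    by_cases hij : i = j
    · subst hij
      simp
    · rw [Pi.single_eq_of_ne hij, Pi.single_eq_of_ne (by simpa using hij)]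

theorem e0_eq : (e0 : Unit ⊕ κ → F) = e (Sum.inl ()) := by
  funext i
  rcases i with i | i
  · simp [e0, e]
  · simp [e0, e]

theorem trace_emb_tvS (hκ : 2 ≤ Fintype.card κ)
    (ρ : Representation ℂ (Matrix.SpecialLinearGroup (Unit ⊕ κ) F) V)
    (ψ : AddChar F ℂ) (e f : ℕ) (hW : WData ρ ψ e f)
    (a φ : κ → F) (ha : a ≠ 0) (hφ : φ ≠ 0) (h : φ ⬝ᵥ a = 0) (c : F) (hc : c ≠ 0) :
    LinearMap.trace ℂ V (ρ (emb (tvS a φ h c))) = (f : ℂ) - (e : ℂ) := by
  obtain ⟨j, k, hjk⟩ := Fintype.exists_pair_of_one_lt_card (α := κ) (by omega)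
  -- the data in the big group
  have hv : c • (ext0 a : Unit ⊕ κ → F) ≠ 0 := by
    intro h0
    apply ha
    funext i
    have := congrFun h0 (Sum.inr i)
    simp only [ext0, Pi.smul_apply, Sum.elim_inr, smul_eq_mul, Pi.zero_apply] at this
    rcases mul_eq_zero.mp this with h1 | h1
    · exact absurd h1 hc
    · exact h1
  have hφ' : (ext0 φ : Unit ⊕ κ → F) ≠ 0 := by
    intro h0
    apply hφ
    funext i
    have := congrFun h0 (Sum.inr i)
    simpa [ext0] using this
  have hdot : (ext0 φ : Unit ⊕ κ → F) ⬝ᵥ (c • ext0 a) = 0 := by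
    rw [dotProduct_smul, ext0_dot_ext0, h, smul_zero]
  obtain ⟨g, hg1, hg2⟩ := exists_conj (k := F) (i0 := (Sum.inl () : Unit ⊕ κ)) (i1 := Sum.inr j)
    (i2 := Sum.inr k) (by simp) (by simp) (by simpa using hjk) (c • ext0 a) (ext0 φ) hv hφ' hdot
  have hxu : emb (tvS a φ h c) = g * xu (Pi.single j 1) * g⁻¹ := by
    unfold xu
    rw [conj_tvS]
    apply Subtype.ext
    rw [emb_tvS_coe, tvS_coe, e0_eq, hg1]
    have : (ext0 (Pi.single j 1 : κ → F) : Unit ⊕ κ → F) = Cfsg.Agent.Lib.Helper5_Transv.e (Sum.inr j) :=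
      ext0_e j
    rw [this, hg2, tv_smul_left, one_mul]
  rw [hxu, trace_conj]
  apply hW.htr
  intro h0
  have := congrFun h0 j
  simp at this

end Cfsg.Agent.Lib.Helper52_S2332_TRACEA
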