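import Mathlib
import Cfsg.Agent.Lib.Helper77_SLnDefs
import Cfsg.Prelude.Def_Characters

/-!
S2332-TRACEC (helper77's market): the trace of a root element of the Levi factor on the zero weight space.
-/

set_option autoImplicit false
set_option linter.unusedSectionVars false
set_option linter.unusedVariables false
open Matrix Cfsg.Agent.Lib.Helper5_Transv Cfsg.Agent.Lib.Helper77_SLnDefs

namespace Cfsg.Agent.Lib.Helper52_S2332_TRACEC

variable {F : Type*} [Field F] [Fintype F] [DecidableEq F] {κ : Type} [Fintype κ] [DecidableEq κ]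
  {V : Type} [AddCommGroup V] [Module ℂ V] [FiniteDimensional ℂ V]

/-- the vectors vanishing at one coordinate -/
def vanEquiv (k : κ) : {v : κ → F // v k = 0} ≃ ({j : κ // j ≠ k} → F) where
  toFun v := fun j => v.1 j.1
  invFun w := ⟨fun i => if h : i = k then 0 else w ⟨i, h⟩, by simp⟩
  left_inv v := by
    apply Subtype.ext
    funext i
    by_cases h : i = k
    · subst h
      simp [v.2]
    · simp [h]
  right_inv w := by
    funext j
    simp [j.2]

theorem card_van (k : κ) :
    Fintype.card {v : κ → F // v k = 0} = Fintype.card F ^ (Fintype.card κ - 1) := by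
  rw [Fintype.card_congr (vanEquiv k), Fintype.card_fun]
  congr 1
  rw [Fintype.card_subtype_compl, Fintype.card_subtype_eq]

theorem rootEl_fix_iff (j k : κ) (hjk : j ≠ k) (t : F) (ht : t ≠ 0) (v : κ → F) :
    (rootEl j k hjk t).1 *ᵥ v = v ↔ v k = 0 := by
  unfold rootEl
  rw [tvS_coe, tv_mulVec, e_dot]
  constructor
  · intro h
    have h1 : (t * v k) • (e j : κ → F) = 0 := by
      have := congrArg (fun w => w - v) h
      simpa using this
    have h2 := congrFun h1 j
    simp only [e, Pi.smul_apply, Pi.single_eq_same, smul_eq_mul, mul_one, Pi.zero_apply] at h2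
    exact (mul_eq_zero.mp h2).resolve_left ht
  · intro h
    rw [h, mul_zero, zero_smul, add_zero]

theorem card_filter (k : κ) :
    (Finset.univ.filter (fun v : κ → F => v ≠ 0 ∧ v k = 0)).card =
      Fintype.card F ^ (Fintype.card κ - 1) - 1 := by
  have h1 : Finset.univ.filter (fun v : κ → F => v ≠ 0 ∧ v k = 0) =
      (Finset.univ.filter (fun v : κ → F => v k = 0)).erase 0 := by
    ext v
    simp only [Finset.mem_filter, Finset.mem_univ, true_and, Finset.mem_erase]
  rw [h1, Finset.card_erase_of_mem (by simp), ← card_van k, Fintype.card_subtype]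

theorem trace_psiRep_of_split (hκ : 1 ≤ Fintype.card κ)
    (ρ : Representation ℂ (Matrix.SpecialLinearGroup (Unit ⊕ κ) F) V)
    (ψ : AddChar F ℂ) (f : ℕ) (hW : WData ρ ψ 1 f)
    (j k : κ) (hjk : j ≠ k) (t : F) (ht : t ≠ 0)
    (hA : LinearMap.trace ℂ V (ρ (emb (rootEl j k hjk t))) = (f : ℂ) - 1)
    (hB : LinearMap.trace ℂ V (ρ (emb (rootEl j k hjk t))) =
      LinearMap.trace ℂ (wsp ρ ψ (0 : κ → F)) (psiRep ρ ψ (rootEl j k hjk t)) +
        ∑ v ∈ Finset.univ.filter
          (fun v : κ → F => v ≠ 0 ∧ (rootEl j k hjk t).1 *ᵥ v = v),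
          (Module.finrank ℂ (wsp ρ ψ v) : ℂ)) :
    LinearMap.trace ℂ (wsp ρ ψ (0 : κ → F)) (psiRep ρ ψ (rootEl j k hjk t)) =
      (f : ℂ) - (Fintype.card F : ℂ) ^ (Fintype.card κ - 1) := by
  have hfilt : Finset.univ.filter (fun v : κ → F => v ≠ 0 ∧ (rootEl j k hjk t).1 *ᵥ v = v) =
      Finset.univ.filter (fun v : κ → F => v ≠ 0 ∧ v k = 0) := by
    ext v
    simp only [Finset.mem_filter, Finset.mem_univ, true_and, rootEl_fix_iff j k hjk t ht v]
  have hsum : ∑ v ∈ Finset.univ.filter (fun v : κ → F => v ≠ 0 ∧ v k = 0),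
      (Module.finrank ℂ (wsp ρ ψ v) : ℂ) = (Fintype.card F : ℂ) ^ (Fintype.card κ - 1) - 1 := by
    have h1 : ∀ v ∈ Finset.univ.filter (fun v : κ → F => v ≠ 0 ∧ v k = 0),
        (Module.finrank ℂ (wsp ρ ψ v) : ℂ) = 1 := by
      intro v hv
      rw [Finset.mem_filter] at hv
      rw [hW.he v hv.2.1, Nat.cast_one]
    rw [Finset.sum_congr rfl h1, Finset.sum_const, card_filter k, nsmul_eq_mul, mul_one,
      Nat.cast_sub (Nat.one_le_pow _ _ Fintype.card_pos)]
    push_cast
    ring
  rw [hfilt, hsum, hA] at hB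
  linear_combination -hB

end Cfsg.Agent.Lib.Helper52_S2332_TRACEC
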