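import Mathlib
import Cfsg.Agent.Lib.Helper40_GLClassDefs
import Cfsg.Agent.Lib.Helper40_SLClassDefs
import Cfsg.Agent.Lib.Helper40_PSLClassDefs

set_option autoImplicit false

/-!
S2480-TYPESCALE (helper52, helper40's market): if `μ` are the elementary divisors of `T` then
`scaleMu a μ` are those of `a • T` (substitution `X ↦ a⁻¹ X` on the cyclic modules `F[X]/(p^e)`).
-/

namespace Cfsg.Agent.Lib.Helper52_S2480_TYPESCALE

open Polynomial DirectSum Cfsg.Agent.Lib.Helper40_GLClassDefs Cfsg.Agent.Lib.Helper40_SLClassDefs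
  Cfsg.Agent.Lib.Helper40_PSLClassDefs
universe u v

theorem subst_comp {F : Type u} [Field F] (b c : F) (hbc : c * b = 1) :
    ((aeval (C b * X) : F[X] →ₐ[F] F[X]).comp (aeval (C c * X) : F[X] →ₐ[F] F[X])) =
      AlgHom.id F F[X] := by
  apply Polynomial.algHom_ext
  rw [AlgHom.comp_apply, aeval_X, map_mul, aeval_C, aeval_X, AlgHom.id_apply, ← mul_assoc,
    ← C_eq_algebraMap, ← C_mul, hbc, C_1, one_mul]

/-- The substitution `X ↦ b X` as an algebra automorphism (`b ≠ 0`). -/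
noncomputable def subst {F : Type u} [Field F] (b : F) (hb : b ≠ 0) : F[X] ≃ₐ[F] F[X] :=
  AlgEquiv.ofAlgHom (aeval (C b * X)) (aeval (C b⁻¹ * X))
    (subst_comp b b⁻¹ (inv_mul_cancel₀ hb)) (subst_comp b⁻¹ b (mul_inv_cancel₀ hb))

theorem subst_apply {F : Type u} [Field F] (b : F) (hb : b ≠ 0) (f : F[X]) :
    subst b hb f = f.comp (C b * X) := by
  show aeval (C b * X) f = _
  rw [aeval_def, comp]; rfl

theorem subst_X {F : Type u} [Field F] (b : F) (hb : b ≠ 0) :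
    subst b hb (X : F[X]) = C b * X := by
  rw [subst_apply, X_comp]

/-- `f(a⁻¹ X) = a ^ (-deg f) · f.scaleRoots a`. -/
theorem subst_inv_eq {F : Type u} [Field F] (a : F) (ha : a ≠ 0) (f : F[X]) :
    subst a⁻¹ (inv_ne_zero ha) f = C (a⁻¹ ^ f.natDegree) * f.scaleRoots a := by
  rw [subst_apply]
  ext n
  rw [comp_C_mul_X_coeff, coeff_C_mul, coeff_scaleRoots]
  by_cases hn : n ≤ f.natDegree
  · have : a⁻¹ ^ f.natDegree * a ^ (f.natDegree - n) = a⁻¹ ^ n := by
      obtain ⟨k, hk⟩ := Nat.exists_eq_add_of_le hn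
      rw [hk, Nat.add_sub_cancel_left, pow_add, mul_assoc, ← mul_pow, inv_mul_cancel₀ ha, one_pow,
        mul_one]
    rw [← this, mul_comm (f.coeff n), mul_assoc, mul_comm (f.coeff n)]
  · rw [coeff_eq_zero_of_natDegree_lt (not_le.mp hn)]; simp

theorem map_span {F : Type u} [Field F] (a : F) (ha : a ≠ 0) (f : F[X]) (e : ℕ) :
    (Ideal.span {f.scaleRoots a ^ e} : Ideal F[X]) =
      Ideal.map ((subst a⁻¹ (inv_ne_zero ha) : F[X] ≃ₐ[F] F[X]) : F[X] →+* F[X])
        (Ideal.span {f ^ e}) := by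
  rw [Ideal.map_span, Set.image_singleton]
  have h1 : ((subst a⁻¹ (inv_ne_zero ha) : F[X] ≃ₐ[F] F[X]) : F[X] →+* F[X]) (f ^ e) =
      C ((a⁻¹ ^ f.natDegree) ^ e) * f.scaleRoots a ^ e := by
    show (subst a⁻¹ (inv_ne_zero ha)) (f ^ e) = _
    rw [map_pow, subst_inv_eq a ha, mul_pow]
    simp only [C_pow]
  rw [h1]
  refine (Ideal.span_singleton_mul_left_unit ?_ _).symm
  exact Polynomial.isUnit_C.mpr (IsUnit.mk0 _ (pow_ne_zero _ (pow_ne_zero _ (inv_ne_zero ha))))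

/-- The twisted isomorphism of cyclic modules. -/
noncomputable def tau {F : Type u} [Field F] (a : F) (ha : a ≠ 0) (f : F[X]) (e : ℕ) :
    (F[X] ⧸ Submodule.span F[X] {f ^ e}) ≃ₗ[F] (F[X] ⧸ Submodule.span F[X] {f.scaleRoots a ^ e}) :=
  (Ideal.quotientEquivAlg (Ideal.span {f ^ e}) (Ideal.span {f.scaleRoots a ^ e})
    (subst a⁻¹ (inv_ne_zero ha)) (map_span a ha f e)).toLinearEquiv

theorem tau_smul {F : Type u} [Field F] (a : F) (ha : a ≠ 0) (f : F[X]) (e : ℕ) (g : F[X])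
    (m : F[X] ⧸ Submodule.span F[X] {f ^ e}) :
    tau a ha f e (g • m) = (subst a⁻¹ (inv_ne_zero ha) g) • tau a ha f e m := by
  obtain ⟨x, rfl⟩ := Submodule.Quotient.mk_surjective _ m
  rw [← Submodule.Quotient.mk_smul]
  show (Ideal.Quotient.mk _ (subst a⁻¹ (inv_ne_zero ha) (g • x))) =
    (subst a⁻¹ (inv_ne_zero ha) g) • (Ideal.Quotient.mk _ (subst a⁻¹ (inv_ne_zero ha) x))
  rw [smul_eq_mul, map_mul]
  rfl

/-- The twisted isomorphism of the direct sums. -/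
noncomputable def tauSum {F : Type u} [Field F] (a : F) (ha : a ≠ 0) {ι : Type u}
    (p : ι → F[X]) (e : ι → ℕ) :
    (⨁ i : ι, F[X] ⧸ Submodule.span F[X] {p i ^ e i}) ≃ₗ[F]
      ⨁ i : ι, F[X] ⧸ Submodule.span F[X] {(p i).scaleRoots a ^ e i} :=
  DFinsupp.mapRange.linearEquiv (fun i => tau a ha (p i) (e i))

theorem tauSum_smul {F : Type u} [Field F] (a : F) (ha : a ≠ 0) {ι : Type u}
    (p : ι → F[X]) (e : ι → ℕ) (g : F[X])
    (m : ⨁ i : ι, F[X] ⧸ Submodule.span F[X] {p i ^ e i}) :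
    tauSum a ha p e (g • m) = (subst a⁻¹ (inv_ne_zero ha) g) • tauSum a ha p e m := by
  apply DFinsupp.ext
  intro i
  show tau a ha (p i) (e i) ((g • m) i) = (subst a⁻¹ (inv_ne_zero ha) g) • tau a ha (p i) (e i) (m i)
  rw [← tau_smul]
  rfl

theorem rep_scale {F : Type u} [Field F] {V : Type u} [AddCommGroup V] [Module F V]
    (T : Module.End F V) (a : F) (ha : a ≠ 0) (μ : Multiset (F[X] × ℕ)) (h : Rep T μ) :
    Rep (a • T) (scaleMu a μ) := by
  obtain ⟨ι, hι, p, e, hμ, ⟨φ⟩⟩ := h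
  refine ⟨ι, hι, fun i => (p i).scaleRoots a, e, ?_, ⟨?_⟩⟩
  · rw [hμ, scaleMu, Multiset.map_map]; rfl
  · let f : V ≃ₗ[F] ⨁ i : ι, F[X] ⧸ Submodule.span F[X] {(p i).scaleRoots a ^ e i} :=
      ((Module.AEval'.of T).trans (φ.restrictScalars F)).trans (tauSum a ha p e)
    have hf : ∀ v : V, f ((a • T) • v) = (X : F[X]) • f v := by
      intro v
      show tauSum a ha p e (φ (Module.AEval'.of T (a • T v))) =
        (X : F[X]) • tauSum a ha p e (φ (Module.AEval'.of T v))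
      rw [map_smul, ← Module.AEval'.X_smul_of, ← algebraMap_smul F[X] a, ← smul_assoc, map_smul,
        tauSum_smul, smul_eq_mul, map_mul, subst_X, ← C_eq_algebraMap]
      show (subst a⁻¹ (inv_ne_zero ha) (C a) * (C a⁻¹ * X)) • _ = _
      rw [subst_apply, C_comp, ← mul_assoc, ← C_mul, mul_inv_cancel₀ ha, C_1, one_mul]
    exact LinearEquiv.ofAEval (a • T) f hf

end Cfsg.Agent.Lib.Helper52_S2480_TYPESCALE
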