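import Mathlib
import Cfsg.Agent.Lib.Helper1_SZ

/-!
# S4472 package HALLFRAT (architect helper74): Frattini argument for a Hall complement
-/

set_option autoImplicit false

namespace Cfsg.Agent.Lib.Helper52_S4472_HALLFRAT

open scoped Pointwise

/-- a finite subgroup mapped into itself by conjugation is normalised -/
lemma mem_normalizer_of_conj_le {G : Type*} [Group G] (Q : Subgroup G) [Finite Q] (x : G)
    (h : ∀ q ∈ Q, x * q * x⁻¹ ∈ Q) : x ∈ Subgroup.normalizer (Q : Set G) := by
  rw [Subgroup.mem_normalizer_iff]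
  intro q
  constructor
  · exact h q
  · intro hq
    let φ : Q → Q := fun a => ⟨x * a * x⁻¹, h a a.2⟩
    have hinj : Function.Injective φ := by
      intro a b hab
      have := congrArg Subtype.val hab
      simp only [φ] at this
      apply Subtype.ext
      simpa using this
    have hsurj : Function.Surjective φ := Finite.injective_iff_surjective.mp hinj
    obtain ⟨a, ha⟩ := hsurj ⟨x * q * x⁻¹, hq⟩
    have := congrArg Subtype.val ha
    simp only [φ] at this
    have hqa : (a : G) = q := by simpa using this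
    rw [← hqa]
    exact a.2

theorem hall_frattini {G : Type*} [Group G] [Finite G] (K R Q : Subgroup G) [K.Normal] [R.Normal]
    (hRK : R ≤ K) (hQK : Q ≤ K) (hsolv : Group.IsSolvable R)
    (hcop : (Nat.card R).Coprime (R.relIndex K)) (hQ : Nat.card Q = R.relIndex K) (g : G) :
    ∃ k ∈ K, k * g ∈ Subgroup.normalizer (Q : Set G) := by
  classical
  -- the conjugate of `Q`
  set Qg : Subgroup G := Q.map (MulAut.conj g).toMonoidHom with hQg
  have hQgK : Qg ≤ K := by
    rintro _ ⟨q, hq, rfl⟩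
    show g * q * g⁻¹ ∈ K
    exact ‹K.Normal›.conj_mem q (hQK hq) g
  have hcardQg : Nat.card Qg = Nat.card Q := by
    rw [hQg]
    exact Subgroup.card_map_of_injective (MulAut.conj g).injective
  have hRn : (R.subgroupOf K).Normal := inferInstance
  have hcardR' : Nat.card (R.subgroupOf K) = Nat.card R :=
    Nat.card_congr (Subgroup.subgroupOfEquivOfLe hRK).toEquiv
  have hidxR' : (R.subgroupOf K).index = R.relIndex K := rfl
  have hsolvR' : Group.IsSolvable (R.subgroupOf K) :=
    Group.isSolvable_of_isSolvable_injective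
      (f := (Subgroup.subgroupOfEquivOfLe hRK).toMonoidHom) (Subgroup.subgroupOfEquivOfLe hRK).injective
  have hcop' : (Nat.card (R.subgroupOf K)).Coprime (R.subgroupOf K).index := by
    rw [hcardR', hidxR']; exact hcop
  have h0 : Nat.card (Q.subgroupOf K) = (R.subgroupOf K).index := by
    rw [Nat.card_congr (Subgroup.subgroupOfEquivOfLe hQK).toEquiv, hidxR', hQ]
  have h1 : Nat.card (Qg.subgroupOf K) = (R.subgroupOf K).index := by
    rw [Nat.card_congr (Subgroup.subgroupOfEquivOfLe hQgK).toEquiv, hidxR', hcardQg, hQ]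
  obtain ⟨y, hy⟩ := Cfsg.Agent.Lib.Helper1_SZ.sz_conj_card (R.subgroupOf K) hcop' (Or.inl hsolvR')
    (Qg.subgroupOf K) (Q.subgroupOf K) h1 h0
  refine ⟨y, y.2, ?_⟩
  apply mem_normalizer_of_conj_le
  intro q hq
  have hmem : (⟨g * q * g⁻¹, hQgK ⟨q, hq, rfl⟩⟩ : K) ∈ Qg.subgroupOf K := by
    rw [Subgroup.mem_subgroupOf]
    exact ⟨q, hq, rfl⟩
  have h2 : y * ⟨g * q * g⁻¹, hQgK ⟨q, hq, rfl⟩⟩ * y⁻¹ ∈ MulAut.conj y • (Qg.subgroupOf K) := by
    exact ⟨_, hmem, by simp [MulAut.smul_def]⟩
  rw [hy, Subgroup.mem_subgroupOf] at h2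
  have h3 : ((y * ⟨g * q * g⁻¹, hQgK ⟨q, hq, rfl⟩⟩ * y⁻¹ : K) : G) = (y : G) * g * q * ((y : G) * g)⁻¹ := by
    push_cast
    group
  rw [h3] at h2
  exact h2

end Cfsg.Agent.Lib.Helper52_S4472_HALLFRAT
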