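import Mathlib
import Cfsg.Prelude.Def_Characters
import Cfsg.Agent.Lib.Helper75_Clifford
import Cfsg.Agent.Lib.Helper75_CanonExt
import Cfsg.Agent.Lib.Helper75_CharArith

/-!
# S4472 package KEY (architect helper74): the power-invariant extension, by induction on the degree
`key_of` takes the statements of STEP and SUB as hypotheses.
-/

set_option autoImplicit false
open Cfsg Cfsg.Agent.Lib.Helper75_Clifford

universe u

namespace Cfsg.Agent.Lib.Helper52_S4472_KEY

/-- the degree of a character is a natural number -/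
lemma exists_deg {G : Type*} [Group G] {χ : G → ℂ} (hχ : Cfsg.IsCharacter G χ) :
    ∃ d : ℕ, χ 1 = d := by
  obtain ⟨n, ρ, rfl⟩ := hχ
  exact ⟨Module.finrank ℂ (Fin n → ℂ), Representation.char_one ρ⟩

theorem key_of {T : Type u} [Group T] [Fintype T] (N : Subgroup T) [hN : N.Normal] [Fintype N]
    (hstep : ∀ θ : N → ℂ, Cfsg.IsIrrCharacter N θ →
      ∃ φ : T → ℂ, Cfsg.IsIrrCharacter T φ ∧
        (∀ k : ℕ, k.Coprime (Nat.card T) → k ≡ 1 [MOD Nat.card N] → ∀ x : T, φ (x ^ k) = φ x) ∧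
        Cfsg.classInner (res N φ) θ = 1)
    (hsub : ∀ {ξ : N → ℂ}, Cfsg.IsCharacter N ξ → (∀ t : T, conjFun N hN ξ t = ξ) →
      ∀ {θ : N → ℂ}, Cfsg.IsIrrCharacter N θ → Cfsg.classInner ξ θ ≠ 0 →
      ∀ {φ : T → ℂ}, Cfsg.IsIrrCharacter T φ → Cfsg.classInner (res N φ) θ = 1 →
        Cfsg.IsCharacter N (ξ - res N φ))
    (ξ : N → ℂ) (hξ : Cfsg.IsCharacter N ξ) (hinv : ∀ t : T, conjFun N hN ξ t = ξ) :
    ∃ ψ : T → ℂ, Cfsg.IsCharacter T ψ ∧ (∀ n : N, ψ n = ξ n) ∧
      ∀ k : ℕ, k.Coprime (Nat.card T) → k ≡ 1 [MOD Nat.card N] → ∀ x : T, ψ (x ^ k) = ψ x := by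
  classical
  obtain ⟨d, hd⟩ := exists_deg hξ
  induction d using Nat.strong_induction_on generalizing ξ with
  | _ d ih =>
    obtain ⟨m, hm, hsum⟩ := Cfsg.Agent.Lib.Helper75_CharArith.exists_multiplicities hξ
    by_cases hall : ∀ χ : Cfsg.IrrCharacter N, m χ = 0
    · -- `ξ = 0`
      have hξ0 : ξ = 0 := by
        rw [hsum]
        apply Finset.sum_eq_zero
        intro χ _
        rw [hall χ]
        simp
      refine ⟨0, Cfsg.Agent.Lib.Helper75_CharArith.isCharacter_zero, ?_, ?_⟩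
      · intro n; rw [hξ0]; rfl
      · intro k _ _ x; rfl
    · push Not at hall
      obtain ⟨θ, hθm⟩ := hall
      have hθξ : Cfsg.classInner ξ (θ : N → ℂ) ≠ 0 := by
        rw [hm θ]
        exact_mod_cast hθm
      obtain ⟨φ, hφ, hφpow, hφ1⟩ := hstep θ θ.2
      have hξ' : Cfsg.IsCharacter N (ξ - res N φ) := hsub hξ hinv θ.2 hθξ hφ hφ1
      have hφcl : Cfsg.IsClassFunction T φ :=
        Cfsg.Agent.Lib.Helper3_CharBridge.isClassFunction_of_isCharacter
          (Cfsg.Agent.Lib.Helper3_CharBridge.isCharacter_of_isIrrCharacter hφ)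
      have hinv' : ∀ t : T, conjFun N hN (ξ - res N φ) t = ξ - res N φ := by
        intro t
        have h1 : conjFun N hN (ξ - res N φ) t = conjFun N hN ξ t - conjFun N hN (res N φ) t := rfl
        have h2 : conjFun N hN (res N φ) t = res N φ := conjFun_restrict N hN hφcl t
        rw [h1, hinv t, h2]
      obtain ⟨f, hf1, hfpos, _⟩ := Cfsg.Agent.Lib.Helper75_CanonExt.exists_degree hφ
      obtain ⟨d', hd'⟩ := exists_deg hξ'
      have hdd : d' + f = d := by
        have h1 : (ξ - res N φ) 1 = ξ 1 - φ 1 := by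
          rw [Pi.sub_apply, res_apply, Subgroup.coe_one]
        rw [h1, hd, hf1] at hd'
        have h2 : ((d' + f : ℕ) : ℂ) = (d : ℂ) := by
          push_cast
          rw [← hd']
          ring
        exact_mod_cast h2
      have hlt : d' < d := by omega
      obtain ⟨ψ', hψ', hres', hpow'⟩ := ih d' hlt (ξ - res N φ) hξ' hinv' hd'
      refine ⟨ψ' + φ, Cfsg.Agent.Lib.Helper75_CharArith.isCharacter_add hψ'
        (Cfsg.Agent.Lib.Helper3_CharBridge.isCharacter_of_isIrrCharacter hφ), ?_, ?_⟩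
      · intro n
        rw [Pi.add_apply, hres' n, Pi.sub_apply, res_apply]
        ring
      · intro k hk1 hk2 x
        rw [Pi.add_apply, Pi.add_apply, hpow' k hk1 hk2 x, hφpow k hk1 hk2 x]

end Cfsg.Agent.Lib.Helper52_S4472_KEY
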