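import Mathlib

set_option autoImplicit false

namespace Cfsg.Agent.Lib.Helper52_S4699_ORB

/-- PK-ORB: the `N_G(P)`-conjugates of the generator `x` of a cyclic Sylow subgroup. -/
theorem exists_conj_set {p : ℕ} [Fact p.Prime] {G : Type*} [Group G] [Finite G] (P : Sylow p G) (x : G)
    (hxP : (P : Subgroup G) = Subgroup.zpowers x) :
    ∃ O : Finset G, ¬ p ∣ O.card ∧ (∀ y ∈ O, ∃ a : ℕ, ¬ p ∣ a ∧ y = x ^ a) ∧
      ∀ n ∈ Subgroup.normalizer ((P : Subgroup G) : Set G), ∀ y ∈ O, n * y * n⁻¹ ∈ O := by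
  classical
  have hp : p.Prime := Fact.out
  obtain ⟨N, hN⟩ : ∃ N : Subgroup G, N = Subgroup.normalizer ((P : Subgroup G) : Set G) := ⟨_, rfl⟩
  rw [← hN]
  let act : MulAction N G := MulAction.compHom G ((MulAut.conj (G := G)).comp N.subtype)
  have hsmul : ∀ (n : N) (y : G), n • y = (n : G) * y * (n : G)⁻¹ := fun n y => rfl
  have hxmem : x ∈ (P : Subgroup G) := by rw [hxP]; exact Subgroup.mem_zpowers x
  have hfin : (MulAction.orbit N x).Finite := Set.toFinite _
  refine ⟨hfin.toFinset, ?_, ?_, ?_⟩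
  · -- the cardinality is the index of the stabilizer, which contains `P`
    rw [← Set.ncard_eq_toFinset_card _ hfin, ← MulAction.index_stabilizer]
    have hle : (P : Subgroup G).subgroupOf N ≤ MulAction.stabilizer N x := by
      intro u hu
      rw [Subgroup.mem_subgroupOf, hxP] at hu
      obtain ⟨k, hk⟩ := Subgroup.mem_zpowers_iff.mp hu
      rw [MulAction.mem_stabilizer_iff, hsmul, ← hk, mul_inv_eq_iff_eq_mul]
      exact (Commute.zpow_left (Commute.refl x) k).eq
    intro hdvd
    have h1 := Subgroup.index_dvd_of_le hle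
    have h2 : ((P : Subgroup G).subgroupOf N).index ∣ (P : Subgroup G).index :=
      Subgroup.relIndex_dvd_index_of_le (hN ▸ Subgroup.le_normalizer)
    exact P.not_dvd_index (hdvd.trans (h1.trans h2))
  · intro y hy
    rw [Set.Finite.mem_toFinset, MulAction.mem_orbit_iff] at hy
    obtain ⟨n, rfl⟩ := hy
    rw [hsmul]
    have hn : (n : G) ∈ Subgroup.normalizer ((P : Subgroup G) : Set G) := hN ▸ n.2
    have hyP : (n : G) * x * (n : G)⁻¹ ∈ (P : Subgroup G) :=
      (Subgroup.mem_normalizer_iff.mp hn x).mp hxmem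
    rw [hxP, ← mem_powers_iff_mem_zpowers, Submonoid.mem_powers_iff] at hyP
    obtain ⟨a, ha⟩ := hyP
    by_cases hx1 : x = 1
    · refine ⟨1, hp.not_dvd_one, ?_⟩
      rw [hx1]; simp
    · refine ⟨a, ?_, ha.symm⟩
      intro hpa
      have hord : orderOf ((n : G) * x * (n : G)⁻¹) = orderOf x :=
        MulEquiv.orderOf_eq (MulAut.conj (n : G)) x
      rw [← ha, orderOf_pow x] at hord
      have hpos : 0 < orderOf x := orderOf_pos x
      have hgcd : Nat.gcd (orderOf x) a = 1 := by
        rcases (Nat.div_eq_self.mp hord) with h | h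
        · omega
        · exact h
      -- `p ∣ orderOf x`
      have hpx : p ∣ orderOf x := by
        obtain ⟨k, hk⟩ := P.2 ⟨x, hxmem⟩
        have hk' : x ^ (p ^ k) = 1 := by
          have := congrArg Subtype.val hk
          simpa using this
        obtain ⟨j, -, hj⟩ := (Nat.dvd_prime_pow hp).mp (orderOf_dvd_of_pow_eq_one hk')
        rcases Nat.eq_zero_or_pos j with h0 | h0
        · rw [h0, pow_zero, orderOf_eq_one_iff] at hj
          exact absurd hj hx1
        · rw [hj]
          exact dvd_pow_self p (by omega)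
      have := Nat.dvd_gcd hpx hpa
      rw [hgcd] at this
      exact hp.not_dvd_one this
  · intro n hn y hy
    rw [Set.Finite.mem_toFinset, MulAction.mem_orbit_iff] at hy ⊢
    obtain ⟨m, rfl⟩ := hy
    refine ⟨⟨n, hn⟩ * m, ?_⟩
    rw [hsmul, hsmul]
    simp [mul_assoc]

end Cfsg.Agent.Lib.Helper52_S4699_ORB
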