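import Mathlib
import Cfsg.Agent.Lib.Helper74_S94Defs2
import Cfsg.Agent.Lib.Helper66_S96Asm
import Cfsg.Agent.Lib.Helper66_S96Rank
import Cfsg.Agent.Lib.Helper5_SLPresA
import Cfsg.Agent.Lib.Helper78_S96_QS

set_option autoImplicit false
set_option linter.unusedVariables false
set_option linter.unusedSectionVars false
set_option linter.unusedSimpArgs false

/-!
Package B_QS of helper74's `s94_packages` market (S2094 / S2099, Steinberg presentation of type
`B` / `²D`): the abstract unipotent radical `QsB X XS j` (abelian) splits off the root group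
`X j e`, and an element of `QsB X XS j` fixing `b_{ng j}` is trivial.  (Port of `Helper78_S96_QS`;
private lemmas are prefixed `h52_`.)
-/

namespace Cfsg.Agent.Lib.Helper74_S94

open Cfsg.Agent.Lib.Helper5_SteinbergA Cfsg.Agent.Lib.Helper5_SLPresA Cfsg.Agent.Lib.Helper66_StCalc
  Cfsg.Agent.Lib.Helper66_S92 Cfsg.Agent.Lib.Helper66_S96

section generic

variable {ι : Type*} [DecidableEq ι] {K : Type*} [Field K] {V0 : Type*} [AddCommGroup V0]
  [Module K V0] {G : Type*} [Group G] {Q0 : QuadraticForm K V0}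
  {X : ι ⊕ ι → ι ⊕ ι → K → G} {XS : ι ⊕ ι → V0 → G}

/-- `X j e t` commutes with the subgroup generated by the `X j c u` and the `XS j v` -/
theorem h52_comm_closure (h : BStAB Q0 X XS) (j e : ι ⊕ ι) (he' : e ≠ ng j)
    (P : ι ⊕ ι → Prop) (t : K) {n : G}
    (hn : n ∈ Subgroup.closure ({g | ∃ c u, c ≠ ng j ∧ c ≠ e ∧ P c ∧ g = X j c u} ∪
      {g | ∃ v, g = XS j v})) :
    X j e t * n = n * X j e t := by
  have hle : Subgroup.closure ({g | ∃ c u, c ≠ ng j ∧ c ≠ e ∧ P c ∧ g = X j c u} ∪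
      {g | ∃ v, g = XS j v}) ≤ Subgroup.centralizer {X j e t} := by
    rw [Subgroup.closure_le]
    rintro _ (⟨c, u, hc1, -, -, rfl⟩ | ⟨v, rfl⟩)
    · rw [SetLike.mem_coe, Subgroup.mem_centralizer_iff]
      intro y hy
      rw [Set.mem_singleton_iff] at hy
      rw [hy]
      exact h78_Qs_comm h.long j e c he' hc1 t u
    · rw [SetLike.mem_coe, Subgroup.mem_centralizer_iff]
      intro y hy
      rw [Set.mem_singleton_iff] at hy
      rw [hy]
      exact (h.scomm j j e v t (ne_ng j) he').symm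
  exact Subgroup.mem_centralizer_iff.mp (hle hn) _ rfl

/-- splitting off the root group `X j e` -/
theorem h52_split (h : BStAB Q0 X XS) (j e : ι ⊕ ι) (he : e ≠ j) (he' : e ≠ ng j)
    (P : ι ⊕ ι → Prop) {q : G}
    (hq : q ∈ Subgroup.closure ({g | ∃ c t, c ≠ ng j ∧ (c = e ∨ P c) ∧ g = X j c t} ∪
      {g | ∃ v, g = XS j v})) :
    ∃ q₂ ∈ Subgroup.closure ({g | ∃ c t, c ≠ ng j ∧ c ≠ e ∧ P c ∧ g = X j c t} ∪
      {g | ∃ v, g = XS j v}), ∃ β : K, q = q₂ * X j e β := by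
  have keyL : ∀ c t, c ≠ ng j → (c = e ∨ P c) → ∀ y : G,
      (∃ q₂ ∈ Subgroup.closure ({g | ∃ c t, c ≠ ng j ∧ c ≠ e ∧ P c ∧ g = X j c t} ∪
        {g | ∃ v, g = XS j v}), ∃ β : K, y = q₂ * X j e β) →
      ∃ q₂ ∈ Subgroup.closure ({g | ∃ c t, c ≠ ng j ∧ c ≠ e ∧ P c ∧ g = X j c t} ∪
        {g | ∃ v, g = XS j v}), ∃ β : K, X j c t * y = q₂ * X j e β := by
    rintro c t hc1 hc2 y ⟨q₂, hq₂, β, rfl⟩
    by_cases hce : c = e
    · subst hce
      refine ⟨q₂, hq₂, t + β, ?_⟩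
      rw [← mul_assoc, h52_comm_closure h j c he' P t hq₂, mul_assoc, h.long.add]
    · have hPc : P c := hc2.resolve_left hce
      refine ⟨X j c t * q₂,
        mul_mem (Subgroup.subset_closure (Or.inl ⟨c, t, hc1, hce, hPc, rfl⟩)) hq₂, β, ?_⟩
      rw [mul_assoc]
  have keyS : ∀ v, ∀ y : G,
      (∃ q₂ ∈ Subgroup.closure ({g | ∃ c t, c ≠ ng j ∧ c ≠ e ∧ P c ∧ g = X j c t} ∪
        {g | ∃ v, g = XS j v}), ∃ β : K, y = q₂ * X j e β) →
      ∃ q₂ ∈ Subgroup.closure ({g | ∃ c t, c ≠ ng j ∧ c ≠ e ∧ P c ∧ g = X j c t} ∪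
        {g | ∃ v, g = XS j v}), ∃ β : K, XS j v * y = q₂ * X j e β := by
    rintro v y ⟨q₂, hq₂, β, rfl⟩
    refine ⟨XS j v * q₂, mul_mem (Subgroup.subset_closure (Or.inr ⟨v, rfl⟩)) hq₂, β, ?_⟩
    rw [mul_assoc]
  induction hq using Subgroup.closure_induction_left with
  | one => exact ⟨1, one_mem _, 0, by rw [h.long.X_zero, one_mul]⟩
  | mul_left x hx y _ ih =>
    rcases hx with ⟨c, t, hc1, hc2, rfl⟩ | ⟨v, rfl⟩
    · exact keyL c t hc1 hc2 y ih
    · exact keyS v y ih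
  | inv_mul_cancel x hx y _ ih =>
    rcases hx with ⟨c, t, hc1, hc2, rfl⟩ | ⟨v, rfl⟩
    · rw [h.long.X_inv]
      exact keyL c (-t) hc1 hc2 y ih
    · rw [h.XS_inv]
      exact keyS (-v) y ih

theorem QsB_split (h : BStAB Q0 X XS) (j e : ι ⊕ ι) (he : e ≠ j) (he' : e ≠ ng j) {q : G}
    (hq : q ∈ QsB X XS j) :
    ∃ q₂ ∈ Subgroup.closure ({g | ∃ c t, c ≠ ng j ∧ c ≠ e ∧ g = X j c t} ∪
      {g | ∃ v, g = XS j v}), ∃ β : K, q = q₂ * X j e β := by
  have hq' : q ∈ Subgroup.closure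
      ({g | ∃ c t, c ≠ ng j ∧ (c = e ∨ (fun _ : ι ⊕ ι => True) c) ∧ g = X j c t} ∪
        {g | ∃ v, g = XS j v}) := by
    refine Subgroup.closure_mono ?_ hq
    rintro _ (⟨c, t, hc, rfl⟩ | ⟨v, rfl⟩)
    · exact Or.inl ⟨c, t, hc, Or.inr trivial, rfl⟩
    · exact Or.inr ⟨v, rfl⟩
  obtain ⟨q₂, hq₂, β, hqe⟩ := h52_split h j e he he' (fun _ => True) hq'
  refine ⟨q₂, ?_, β, hqe⟩
  refine Subgroup.closure_mono ?_ hq₂
  rintro _ (⟨c, t, hc1, hc2, -, rfl⟩ | ⟨v, rfl⟩)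
  · exact Or.inl ⟨c, t, hc1, hc2, rfl⟩
  · exact Or.inr ⟨v, rfl⟩

/-- the generators `X j c t` with `c ≠ e` and `XS j v` do not change the coordinate `e ≠ j` -/
theorem h52_act_ne (ρ : G →* Module.End K ((ι ⊕ ι → K) × V0)) (hρ : IsActB Q0 X XS ρ)
    (j e : ι ⊕ ι) (hej : e ≠ j) {q : G}
    (hq : q ∈ Subgroup.closure ({g | ∃ c t, c ≠ ng j ∧ c ≠ e ∧ g = X j c t} ∪
      {g | ∃ v, g = XS j v})) (x : (ι ⊕ ι → K) × V0) :
    (ρ q x).1 e = x.1 e := by
  induction hq using Subgroup.closure_induction generalizing x with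
  | mem y hy =>
    rcases hy with ⟨c, t, hc1, hc2, rfl⟩ | ⟨v, rfl⟩
    · rw [hρ.long]
      unfold xactD
      rw [if_neg hc1]
      simp [hej, Ne.symm hc2]
    · rw [hρ.short]
      unfold xactS
      simp [hej]
  | one => simp
  | mul y z _ _ ihy ihz =>
    rw [map_mul, Module.End.mul_apply, ihy, ihz]
  | inv y _ ihy =>
    have e1 : ρ y (ρ y⁻¹ x) = x := by
      rw [← Module.End.mul_apply, ← map_mul, mul_inv_cancel, map_one, Module.End.one_apply]
    rw [← ihy (ρ y⁻¹ x), e1]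

/-- with no long index left, an element is a short root element -/
theorem h52_base (h : BStAB Q0 X XS) (j : ι ⊕ ι) {q : G}
    (hq : q ∈ Subgroup.closure ({g | ∃ c t, c ≠ ng j ∧ (c = j ∨ c ∈ (∅ : Finset (ι ⊕ ι))) ∧
      g = X j c t} ∪ {g | ∃ v, g = XS j v})) : ∃ v, q = XS j v := by
  induction hq using Subgroup.closure_induction with
  | mem y hy =>
    rcases hy with ⟨c, t, hc1, hc2, rfl⟩ | ⟨v, rfl⟩
    · simp only [Finset.notMem_empty, or_false] at hc2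
      subst hc2
      exact ⟨0, by rw [h.long.diag, h.XS_zero]⟩
    · exact ⟨v, rfl⟩
  | one => exact ⟨0, (h.XS_zero j).symm⟩
  | mul y z _ _ ihy ihz =>
    obtain ⟨v, rfl⟩ := ihy
    obtain ⟨w, rfl⟩ := ihz
    exact ⟨v + w, h.sadd j v w⟩
  | inv y _ ihy =>
    obtain ⟨v, rfl⟩ := ihy
    exact ⟨-v, h.XS_inv j v⟩

theorem h52_inj_aux (h : BStAB Q0 X XS) (ρ : G →* Module.End K ((ι ⊕ ι → K) × V0))
    (hρ : IsActB Q0 X XS ρ) (j : ι ⊕ ι) (T : Finset (ι ⊕ ι)) : ∀ {q : G},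
    q ∈ Subgroup.closure ({g | ∃ c t, c ≠ ng j ∧ (c = j ∨ c ∈ T) ∧ g = X j c t} ∪
      {g | ∃ v, g = XS j v}) →
    ρ q (bB (ng j)) = bB (ng j) → q = 1 := by
  induction T using Finset.induction_on with
  | empty =>
    intro q hq hfix
    obtain ⟨v, rfl⟩ := h52_base h j hq
    rw [hρ.short] at hfix
    have e1 := congrArg Prod.snd hfix
    unfold xactS bB at e1
    simp at e1
    rw [e1, h.XS_zero]
  | insert e T heT ih =>
    intro q hq hfix
    by_cases he : e = j ∨ e = ng j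
    · refine ih (Subgroup.closure_mono ?_ hq) hfix
      rintro _ (⟨c, t, hc1, hc2, rfl⟩ | ⟨v, rfl⟩)
      · refine Or.inl ⟨c, t, hc1, ?_, rfl⟩
        rcases hc2 with hc2 | hc2
        · exact Or.inl hc2
        · rcases Finset.mem_insert.mp hc2 with hc2 | hc2
          · subst hc2
            rcases he with he | he
            · exact Or.inl he
            · exact absurd he hc1
          · exact Or.inr hc2
      · exact Or.inr ⟨v, rfl⟩
    · push Not at he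
      obtain ⟨he1, he2⟩ := he
      have hq' : q ∈ Subgroup.closure
          ({g | ∃ c t, c ≠ ng j ∧ (c = e ∨ (fun c => c = j ∨ c ∈ T) c) ∧ g = X j c t} ∪
            {g | ∃ v, g = XS j v}) := by
        refine Subgroup.closure_mono ?_ hq
        rintro _ (⟨c, t, hc1, hc2, rfl⟩ | ⟨v, rfl⟩)
        · refine Or.inl ⟨c, t, hc1, ?_, rfl⟩
          rcases hc2 with hc2 | hc2
          · exact Or.inr (Or.inl hc2)
          · rcases Finset.mem_insert.mp hc2 with hc2 | hc2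
            · exact Or.inl hc2
            · exact Or.inr (Or.inr hc2)
        · exact Or.inr ⟨v, rfl⟩
      obtain ⟨q₂, hq₂, β, rfl⟩ :=
        h52_split h j e he1 he2 (fun c => c = j ∨ c ∈ T) hq'
      have hq₂' : q₂ ∈ Subgroup.closure ({g | ∃ c t, c ≠ ng j ∧ c ≠ e ∧ g = X j c t} ∪
          {g | ∃ v, g = XS j v}) := by
        refine Subgroup.closure_mono ?_ hq₂
        rintro _ (⟨c, t, hc1, hc2, -, rfl⟩ | ⟨v, rfl⟩)
        · exact Or.inl ⟨c, t, hc1, hc2, rfl⟩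
        · exact Or.inr ⟨v, rfl⟩
      have hβ : β = 0 := by
        have e1 := congrFun (congrArg Prod.fst hfix) e
        rw [map_mul, Module.End.mul_apply, h52_act_ne ρ hρ j e he1 hq₂', hρ.long] at e1
        unfold xactD bB at e1
        rw [if_neg he2] at e1
        simp [Pi.single_apply, he1, he2] at e1
        exact e1
      subst hβ
      rw [h.long.X_zero, mul_one] at hfix ⊢
      refine ih (Subgroup.closure_mono ?_ hq₂) hfix
      rintro _ (⟨c, t, hc1, hc2, hc3, rfl⟩ | ⟨v, rfl⟩)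
      · exact Or.inl ⟨c, t, hc1, hc3, rfl⟩
      · exact Or.inr ⟨v, rfl⟩

theorem QsB_inj [Fintype ι] (h : BStAB Q0 X XS) (ρ : G →* Module.End K ((ι ⊕ ι → K) × V0))
    (hρ : IsActB Q0 X XS ρ) (j : ι ⊕ ι) {q : G} (hq : q ∈ QsB X XS j)
    (hfix : ρ q (bB (ng j)) = bB (ng j)) : q = 1 := by
  refine h52_inj_aux h ρ hρ j Finset.univ (Subgroup.closure_mono ?_ hq) hfix
  rintro _ (⟨c, t, hc, rfl⟩ | ⟨v, rfl⟩)
  · exact Or.inl ⟨c, t, hc, Or.inr (Finset.mem_univ _), rfl⟩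
  · exact Or.inr ⟨v, rfl⟩

end generic

end Cfsg.Agent.Lib.Helper74_S94
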