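import Mathlib
import Cfsg.Agent.Lib.Helper17_Sylow
import Cfsg.Agent.Lib.Helper17_SylowPerm
import Cfsg.Agent.Lib.Helper52_SM_TOOLS

set_option autoImplicit false

namespace Cfsg.Agent.Lib.Helper52_SM_N420

open Subgroup Cfsg.Agent.Lib.Helper17_Sylow Cfsg.Agent.Lib.Helper17_SylowPerm
  Cfsg.Agent.Lib.Helper52_SM_TOOLS

/-- fifteen Sylow `7`-subgroups with `C(P₇)` of even order is impossible in a non-abelian simple
group -/
theorem false_of_fifteen {G : Type*} [Group G] [Finite G] [IsSimpleGroup G]
    (hG : ¬ IsMulCommutative G) [Fact (Nat.Prime 7)] (hn : Nat.card (Sylow 7 G) = 15)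
    (P : Sylow 7 G) (hC : 2 ∣ Nat.card (centralizer ((P : Subgroup G) : Set G))) : False := by
  have h2F : Fact (Nat.Prime 2) := ⟨Nat.prime_two⟩
  obtain ⟨x', hx'⟩ :=
    exists_prime_orderOf_dvd_card' (G := centralizer ((P : Subgroup G) : Set G)) 2 hC
  have hx : orderOf (x' : G) = 2 := by rw [Subgroup.orderOf_coe]; exact hx'
  have hxx : (x' : G) * (x' : G) = 1 := by rw [← pow_two, ← hx, pow_orderOf_eq_one]
  have h1 := card_sylow_fixedBy_modEq_one P (x' : G) x'.2
  have h2 := card_modEq_card_fixedBy_four hG (X := Sylow 7 G) (x' : G) hxx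
  rw [hn] at h2
  have h3 : Nat.card (MulAction.fixedBy (Sylow 7 G) (x' : G)) ≤ 15 := by
    rw [← hn]
    exact Nat.card_le_card_of_injective _ Subtype.val_injective
  have h4 : Nat.card (MulAction.fixedBy (Sylow 7 G) (x' : G)) = 15 := by
    rw [Nat.ModEq] at h1 h2
    omega
  have hall : ∀ R : Sylow 7 G, (x' : G) • R = R := by
    have hinj : Function.Injective
        (Subtype.val : MulAction.fixedBy (Sylow 7 G) (x' : G) → Sylow 7 G) :=
      Subtype.val_injective
    have hbij : Function.Bijective
        (Subtype.val : MulAction.fixedBy (Sylow 7 G) (x' : G) → Sylow 7 G) := by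
      rw [Nat.bijective_iff_injective_and_card]
      exact ⟨hinj, by rw [h4, hn]⟩
    intro R
    obtain ⟨⟨R', hR'⟩, rfl⟩ := hbij.2 R
    exact hR'
  have hX : ∃ (g : G) (R : Sylow 7 G), g • R ≠ R := by
    by_contra hcon
    push Not at hcon
    have h5 : Nat.card (Sylow 7 G) = 1 := by
      rw [Nat.card_eq_one_iff_unique]
      refine ⟨⟨fun R R' => ?_⟩, ⟨P⟩⟩
      obtain ⟨g, rfl⟩ := MulAction.exists_smul_eq G R R'
      exact (hcon g R).symm
    omega
  have h6 := eq_one_of_forall_smul_eq hX (x' : G) hall
  rw [h6, orderOf_one] at hx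
  omega

theorem no_simple_420 {G : Type*} [Group G] [Finite G] [IsSimpleGroup G] : Nat.card G ≠ 420 := by
  intro hG
  have h7F : Fact (Nat.Prime 7) := ⟨by norm_num⟩
  have hnc : ¬ IsMulCommutative G :=
    not_isMulCommutative_of_not_prime (by rw [hG]; norm_num)
  have hG' : Nat.card G = 7 ^ 1 * 60 := by rw [hG]; norm_num
  have hm : ¬ 7 ∣ 60 := by norm_num
  have hcand := card_sylow_mem_candidates (p := 7) hG' hm
  have h1 := one_lt_card_sylow_of_card (p := 7) hG' hm (by norm_num) (by norm_num)
  have hn : Nat.card (Sylow 7 G) = 15 := by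
    have hl : sylowCandidates 7 60 = [1, 15] := by decide
    rw [hl] at hcand
    simp only [List.mem_cons, List.not_mem_nil, or_false] at hcand
    omega
  obtain ⟨P⟩ : Nonempty (Sylow 7 G) := inferInstance
  have hP : Nat.card (P : Subgroup G) = 7 := by
    have h2 := card_sylow_eq_pow hG' hm P
    rw [h2]; norm_num
  have hN : Nat.card (normalizer ((P : Subgroup G) : Set G)) = 28 := by
    have h2 := card_normalizer_mul_card_sylow P
    rw [hn, hG] at h2
    omega
  have hrel := relIndex_centralizer_normalizer_dvd_pred (P : Subgroup G) hP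
  have hmul := card_mul_relIndex_of_le
    (centralizer_le_normalizer (((P : Subgroup G) : Set G)))
  rw [hN] at hmul
  apply false_of_fifteen hnc hn P
  obtain ⟨r, hr⟩ : ∃ r, r = (centralizer ((P : Subgroup G) : Set G)).relIndex
      (normalizer ((P : Subgroup G) : Set G)) := ⟨_, rfl⟩
  rw [← hr] at hrel hmul
  have hr6 : r ≤ 6 := Nat.le_of_dvd (by norm_num) hrel
  have hr0 : r ≠ 0 := by rintro rfl; omega
  interval_cases r <;> omega

theorem no_simple_840 {G : Type*} [Group G] [Finite G] [IsSimpleGroup G] : Nat.card G ≠ 840 := by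
  intro hG
  have h7F : Fact (Nat.Prime 7) := ⟨by norm_num⟩
  have hnc : ¬ IsMulCommutative G :=
    not_isMulCommutative_of_not_prime (by rw [hG]; norm_num)
  have hG' : Nat.card G = 7 ^ 1 * 120 := by rw [hG]; norm_num
  have hm : ¬ 7 ∣ 120 := by norm_num
  have hcand := card_sylow_mem_candidates (p := 7) hG' hm
  have h1 := one_lt_card_sylow_of_card (p := 7) hG' hm (by norm_num) (by norm_num)
  obtain ⟨P⟩ : Nonempty (Sylow 7 G) := inferInstance
  have hP : Nat.card (P : Subgroup G) = 7 := by
    have h2 := card_sylow_eq_pow hG' hm P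
    rw [h2]; norm_num
  have hNmul := card_normalizer_mul_card_sylow P
  rw [hG] at hNmul
  have hl : sylowCandidates 7 120 = [1, 8, 15, 120] := by decide
  rw [hl] at hcand
  simp only [List.mem_cons, List.not_mem_nil, or_false] at hcand
  rcases hcand with hn | hn | hn | hn
  · omega
  · -- eight Sylow subgroups: a subgroup of index `7 + 1`
    have hidx : (normalizer ((P : Subgroup G) : Set G)).index = 8 := by
      have h := Sylow.card_eq_index_normalizer P
      rw [hn] at h
      exact h.symm
    have htop : normalizer ((P : Subgroup G) : Set G) ≠ ⊤ := by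
      intro h
      rw [h, Subgroup.index_top] at hidx
      omega
    have h2 := two_mul_card_normalizer_dvd hnc (normalizer ((P : Subgroup G) : Set G)) htop 7
      (by norm_num) (Or.inr hidx) P hP
    have hN : Nat.card (normalizer ((P : Subgroup G) : Set G)) = 105 := by
      rw [hn] at hNmul
      omega
    rw [hN] at h2
    norm_num at h2
  · have hN : Nat.card (normalizer ((P : Subgroup G) : Set G)) = 56 := by
      rw [hn] at hNmul
      omega
    have hrel := relIndex_centralizer_normalizer_dvd_pred (P : Subgroup G) hP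
    have hmul := card_mul_relIndex_of_le
      (centralizer_le_normalizer (((P : Subgroup G) : Set G)))
    rw [hN] at hmul
    apply false_of_fifteen hnc hn P
    obtain ⟨r, hr⟩ : ∃ r, r = (centralizer ((P : Subgroup G) : Set G)).relIndex
        (normalizer ((P : Subgroup G) : Set G)) := ⟨_, rfl⟩
    rw [← hr] at hrel hmul
    have hr6 : r ≤ 6 := Nat.le_of_dvd (by norm_num) hrel
    have hr0 : r ≠ 0 := by rintro rfl; omega
    interval_cases r <;> omega
  · have h2 := not_coprime_of_simple (p := 7) hG' hm (by norm_num)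
    rw [hn] at h2
    norm_num at h2

end Cfsg.Agent.Lib.Helper52_SM_N420
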