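import Mathlib
import Cfsg.Agent.Lib.Helper97_SpTensBasic

set_option autoImplicit false
set_option linter.unusedSectionVars false
set_option linter.unusedVariables false

/-!
# SP3 package LEVI2 (`levi_finish`) of helper97's project `Sp_{2m}(q) ⊗ O_3(q)` maximal in `Sp_{6m}(q)`
-/

namespace Cfsg.Agent.Lib.Helper52_SP3_LEVI2

open Matrix Module
open Cfsg.Agent.Lib.Helper98_ExtDefs Cfsg.Agent.Lib.Helper97_TensDefs
  Cfsg.Agent.Lib.Helper97_SpTensDefs Cfsg.Agent.Lib.Helper97_SpTensBasic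
  Cfsg.Agent.Lib.Helper13_Symp Cfsg.Agent.Lib.Helper13_SympTrans Cfsg.Agent.Lib.Helper97_TensBasic

variable {F : Type*} [Field F] [Fintype F] {m : ℕ}

local notation "V" => Matrix (Fin m ⊕ Fin m) (Fin 3) F
local notation "A" => (Fin m ⊕ Fin m → F)
local notation "sf" => Cfsg.sympForm m F

/-- `sympForm (·, w)` as a linear functional -/
def sfun (w : A) : A →ₗ[F] F where
  toFun v := sf v w
  map_add' u v := sympForm_add_left m u v w
  map_smul' c v := by rw [sympForm_smul_left, RingHom.id_apply, smul_eq_mul]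

theorem sfun_apply (w v : A) : sfun w v = sf v w := rfl

theorem form_decomp (x x' u w : A) (a a' b b' : F) (hxx' : sf x' x = 1)
    (hux : sf u x = 0) (hux' : sf u x' = 0) (hwx : sf w x = 0) (hwx' : sf w x' = 0) :
    sf (a • x + a' • x' + u) (b • x + b' • x' + w) = a' * b - a * b' + sf u w := by
  have hxx : sf x x' = -1 := by rw [sympForm_swap, hxx']
  have hxw : sf x w = 0 := by rw [sympForm_swap, hwx, neg_zero]
  have hxw' : sf x' w = 0 := by rw [sympForm_swap, hwx', neg_zero]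
  simp only [sympForm_add_left, sympForm_add_right, sympForm_smul_left, sympForm_smul_right,
    sympForm_self, hxx', hxx, hux, hux', hxw, hxw']
  ring

theorem vecMulVec_zero52 (x : A) : vecMulVec x (0 : Fin 3 → F) = 0 := by
  ext i k; simp [vecMulVec_apply]

theorem exists_sympForm_eq_one52 {x : A} (hx : x ≠ 0) : ∃ x' : A, sf x' x = 1 := by
  obtain ⟨w, hw⟩ := exists_sympForm_ne_zero m hx
  have hw' : sf w x ≠ 0 := by
    rw [sympForm_swap]; exact neg_ne_zero.mpr hw
  refine ⟨(sf w x)⁻¹ • w, ?_⟩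
  rw [sympForm_smul_left, inv_mul_cancel₀ hw']

/-- `π₀ u = ` the `e1`-column of `g (u ⊗ e1)` -/
def pi0 (g : V ≃ₗ[F] V) : A →ₗ[F] A where
  toFun u := colv (g (vecMulVec u e1)) 1
  map_add' u v := by rw [add_vecMulVec, map_add, colv_add]
  map_smul' c u := by rw [smul_vecMulVec, map_smul, colv_smul, RingHom.id_apply]

theorem pi0_apply (g : V ≃ₗ[F] V) (u : A) : pi0 g u = colv (g (vecMulVec u e1)) 1 := rfl

/-- step 2: for `u ⊥ x`: `g (u ⊗ b) ≡ π₀ u ⊗ b` modulo `l_x`, and `π₀ u ⊥ x` -/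
theorem pi0_key (x : A) (g : V ≃ₗ[F] V)
    (hten : ∀ u : A, sf u x = 0 →
      ∃ γ : A, sf γ x = 0 ∧ ∀ b : Fin 3 → F, g (vecMulVec u b) - vecMulVec γ b ∈ bfib x)
    (u : A) (hu : sf u x = 0) :
    sf (pi0 g u) x = 0 ∧ ∀ b : Fin 3 → F, g (vecMulVec u b) - vecMulVec (pi0 g u) b ∈ bfib x := by
  obtain ⟨γ, hγ, hγb⟩ := hten u hu
  obtain ⟨y, hy⟩ := hγb e1
  have h1 : pi0 g u = γ + y 1 • x := by
    have h := congrArg (fun Z : V => colv Z 1) hy
    simp only [colv_sub, colv_vecMulVec] at h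
    have he : (e1 : Fin 3 → F) 1 = 1 := by simp [e1]
    rw [he, one_smul] at h
    rw [pi0_apply]
    rw [sub_eq_iff_eq_add] at h
    rw [h, add_comm]
  refine ⟨?_, fun b => ?_⟩
  · rw [h1, sympForm_add_left, sympForm_smul_left, sympForm_self, hγ, mul_zero, add_zero]
  · have h2 : g (vecMulVec u b) - vecMulVec (pi0 g u) b
        = (g (vecMulVec u b) - vecMulVec γ b) - y 1 • vecMulVec x b := by
      rw [h1, add_vecMulVec, smul_vecMulVec]; abel
    rw [h2]
    exact (bfib x).sub_mem (hγb b) ((bfib x).smul_mem _ (vecMulVec_mem_bfib x b))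

theorem pi0_self (x : A) (g : V ≃ₗ[F] V)
    (hg1 : ∀ y : Fin 3 → F, g (vecMulVec x y) = vecMulVec x y) : pi0 g x = x := by
  rw [pi0_apply, hg1, colv_vecMulVec]
  have he : (e1 : Fin 3 → F) 1 = 1 := by simp [e1]
  rw [he, one_smul]

/-- step 4: `π₀` is an isometry on `x^⊥` -/
theorem pi0_form (M : Subgroup (V ≃ₗ[F] V)) (hSp : MSp m M) (x : A) (g : V ≃ₗ[F] V) (hg : g ∈ M)
    (hten : ∀ u : A, sf u x = 0 →
      ∃ γ : A, sf γ x = 0 ∧ ∀ b : Fin 3 → F, g (vecMulVec u b) - vecMulVec γ b ∈ bfib x)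
    (u u' : A) (hu : sf u x = 0) (hu' : sf u' x = 0) :
    sf (pi0 g u) (pi0 g u') = sf u u' := by
  obtain ⟨h1, h1b⟩ := pi0_key x g hten u hu
  obtain ⟨h2, h2b⟩ := pi0_key x g hten u' hu'
  obtain ⟨y, hy⟩ := h1b e1
  obtain ⟨y', hy'⟩ := h2b e1
  have e1' : g (vecMulVec u e1) = vecMulVec (pi0 g u) e1 + vecMulVec x y := by
    rw [← hy]; abel
  have e2' : g (vecMulVec u' e1) = vecMulVec (pi0 g u') e1 + vecMulVec x y' := by
    rw [← hy']; abel
  have h := hSp g hg (vecMulVec u e1) (vecMulVec u' e1)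
  have hx2 : sf x (pi0 g u') = 0 := by rw [sympForm_swap, h2, neg_zero]
  rw [e1', e2', tf_add_left, tf_add_right, tf_add_right, tf_vecMulVec, tf_vecMulVec, tf_vecMulVec,
    tf_vecMulVec, tf_vecMulVec, h1, hx2, sympForm_self, be_e1_e1] at h
  linear_combination h

/-- the projection to `⟨x, x'⟩^⊥` along `⟨x, x'⟩` (`sf x' x = 1`) -/
def proj1 (x x' : A) : A →ₗ[F] A :=
  LinearMap.id + (sfun x').smulRight x - (sfun x).smulRight x'

theorem proj1_apply (x x' v : A) : proj1 x x' v = v + sf v x' • x - sf v x • x' := rfl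

/-- `ρ u = π₀ u + sf (π₀ u) x' • x` -/
def rho (g : V ≃ₗ[F] V) (x x' : A) : A →ₗ[F] A :=
  pi0 g + ((sfun x').comp (pi0 g)).smulRight x

theorem rho_apply (g : V ≃ₗ[F] V) (x x' u : A) :
    rho g x x' u = pi0 g u + sf (pi0 g u) x' • x := rfl

/-- the symplectic map `P` -/
def Plin (g : V ≃ₗ[F] V) (x x' : A) : A →ₗ[F] A :=
  (-(sfun x')).smulRight x + (sfun x).smulRight x' + (rho g x x').comp (proj1 x x')

theorem Plin_apply (g : V ≃ₗ[F] V) (x x' v : A) :
    Plin g x x' v = (-(sf v x')) • x + sf v x • x' + rho g x x' (proj1 x x' v) := rfl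

theorem proj1_perp (x x' v : A) (hxx' : sf x' x = 1) :
    sf (proj1 x x' v) x = 0 ∧ sf (proj1 x x' v) x' = 0 := by
  have hxx : sf x x' = -1 := by rw [sympForm_swap, hxx']
  constructor
  · rw [proj1_apply, sympForm_sub_left, sympForm_add_left, sympForm_smul_left, sympForm_smul_left,
      sympForm_self, hxx']; ring
  · rw [proj1_apply, sympForm_sub_left, sympForm_add_left, sympForm_smul_left, sympForm_smul_left,
      sympForm_self, hxx]; ring

theorem eq_decomp (x x' v : A) :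
    v = (-(sf v x')) • x + sf v x • x' + proj1 x x' v := by
  rw [proj1_apply, neg_smul]; abel

theorem Plin_form (M : Subgroup (V ≃ₗ[F] V)) (hSp : MSp m M) (x x' : A) (hxx' : sf x' x = 1)
    (g : V ≃ₗ[F] V) (hg : g ∈ M)
    (hten : ∀ u : A, sf u x = 0 →
      ∃ γ : A, sf γ x = 0 ∧ ∀ b : Fin 3 → F, g (vecMulVec u b) - vecMulVec γ b ∈ bfib x)
    (v w : A) : sf (Plin g x x' v) (Plin g x x' w) = sf v w := by
  have hxx : sf x x' = -1 := by rw [sympForm_swap, hxx']
  obtain ⟨hv1, hv2⟩ := proj1_perp x x' v hxx'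
  obtain ⟨hw1, hw2⟩ := proj1_perp x x' w hxx'
  have hpv := (pi0_key x g hten _ hv1).1
  have hpw := (pi0_key x g hten _ hw1).1
  have hxpw : sf x (pi0 g (proj1 x x' w)) = 0 := by rw [sympForm_swap, hpw, neg_zero]
  -- `ρ` of the projections
  have hr1 : sf (rho g x x' (proj1 x x' v)) x = 0 := by
    rw [rho_apply, sympForm_add_left, sympForm_smul_left, sympForm_self, hpv]; ring
  have hr2 : sf (rho g x x' (proj1 x x' v)) x' = 0 := by
    rw [rho_apply, sympForm_add_left, sympForm_smul_left, hxx]; ring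
  have hr3 : sf (rho g x x' (proj1 x x' w)) x = 0 := by
    rw [rho_apply, sympForm_add_left, sympForm_smul_left, sympForm_self, hpw]; ring
  have hr4 : sf (rho g x x' (proj1 x x' w)) x' = 0 := by
    rw [rho_apply, sympForm_add_left, sympForm_smul_left, hxx]; ring
  have hr5 : sf (rho g x x' (proj1 x x' v)) (rho g x x' (proj1 x x' w))
      = sf (proj1 x x' v) (proj1 x x' w) := by
    rw [rho_apply, rho_apply, sympForm_add_left, sympForm_add_right, sympForm_add_right,
      sympForm_smul_left, sympForm_smul_left, sympForm_smul_right, sympForm_smul_right,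
      sympForm_self, hpv, hxpw, pi0_form M hSp x g hg hten _ _ hv1 hw1]
    ring
  rw [Plin_apply, Plin_apply, form_decomp x x' _ _ _ _ _ _ hxx' hr1 hr2 hr3 hr4, hr5]
  conv_rhs => rw [eq_decomp x x' v, eq_decomp x x' w]
  rw [form_decomp x x' _ _ _ _ _ _ hxx' hv1 hv2 hw1 hw2]

theorem Plin_self (g : V ≃ₗ[F] V) (x x' : A) (hxx' : sf x' x = 1) : Plin g x x' x = x := by
  have hxx : sf x x' = -1 := by rw [sympForm_swap, hxx']
  have h0 : proj1 x x' x = 0 := by
    rw [proj1_apply, sympForm_self, hxx, zero_smul, neg_one_smul]; abel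
  rw [Plin_apply, h0, map_zero, sympForm_self, hxx, zero_smul, neg_neg, one_smul, add_zero,
    add_zero]

/-- for `u ⊥ x`, `P u ≡ π₀ u` modulo `x` -/
theorem Plin_perp (g : V ≃ₗ[F] V) (x x' : A) (hxx' : sf x' x = 1)
    (hg1 : ∀ y : Fin 3 → F, g (vecMulVec x y) = vecMulVec x y) (u : A) (hu : sf u x = 0) :
    ∃ c : F, Plin g x x' u = pi0 g u + c • x := by
  have h0 : proj1 x x' u = u + sf u x' • x := by
    rw [proj1_apply, hu, zero_smul, sub_zero]
  refine ⟨sf (pi0 g (u + sf u x' • x)) x', ?_⟩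
  rw [Plin_apply, h0, rho_apply, hu, zero_smul, add_zero]
  rw [map_add (pi0 g) u, map_smul, pi0_self x g hg1, neg_smul]
  abel

theorem levi_finish (h2 : (2 : F) ≠ 0) (M : Subgroup (V ≃ₗ[F] V)) (hSp : MSp m M) (hK : KronSp m M)
    (x : Fin m ⊕ Fin m → F) (hx : x ≠ 0)
    (g : V ≃ₗ[F] V) (hg : g ∈ M) (hg1 : ∀ y : Fin 3 → F, g (vecMulVec x y) = vecMulVec x y)
    (hten : ∀ u : Fin m ⊕ Fin m → F, Cfsg.sympForm m F u x = 0 →
      ∃ γ : Fin m ⊕ Fin m → F, Cfsg.sympForm m F γ x = 0 ∧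
        ∀ b : Fin 3 → F, g (vecMulVec u b) - vecMulVec γ b ∈ bfib x) :
    ∃ h ∈ M, IsKron h ∧ (∀ y : Fin 3 → F, h (vecMulVec x y) = vecMulVec x y) ∧
      ∀ X : V, ctr m x X = 0 → g X - h X ∈ bfib x := by
  classical
  obtain ⟨x', hxx'⟩ := exists_sympForm_eq_one52 hx
  let P : Matrix (Fin m ⊕ Fin m) (Fin m ⊕ Fin m) F := LinearMap.toMatrix' (Plin g x x')
  have hPv : ∀ v : A, P *ᵥ v = Plin g x x' v := fun v => LinearMap.toMatrix'_mulVec _ v
  have hPmem : P ∈ Matrix.symplecticGroup (Fin m) F := by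
    apply mem_symplecticGroup_of_preserves
    intro u v
    rw [hPv, hPv]
    exact Plin_form M hSp x x' hxx' g hg hten u v
  have hQ : (1 : Matrix (Fin 3) (Fin 3) F)ᵀ * S0 F * 1 = S0 F := by
    rw [transpose_one, Matrix.one_mul, Matrix.mul_one]
  obtain ⟨h, hhM, hh0⟩ := hK P 1 hPmem hQ
  have hh : ∀ X : V, h X = P * X * (1 : Matrix (Fin 3) (Fin 3) F)ᵀ := hh0
  have hh' : ∀ (v : A) (b : Fin 3 → F), h (vecMulVec v b) = vecMulVec (Plin g x x' v) b := by
    intro v b
    rw [hh, kron_vecMulVec, hPv, one_mulVec]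
  refine ⟨h, hhM, ⟨P, 1, hh⟩, fun y => ?_, fun X hX => ?_⟩
  · rw [hh', Plin_self g x x' hxx']
  · -- all columns of `X` are perpendicular to `x`
    have hcol : ∀ k : Fin 3, sf (colv X k) x = 0 := fun k => congrFun hX k
    have hterm : ∀ (k : Fin 3) (b : Fin 3 → F),
        g (vecMulVec (colv X k) b) - h (vecMulVec (colv X k) b) ∈ bfib x := by
      intro k b
      obtain ⟨c, hc⟩ := Plin_perp g x x' hxx' hg1 (colv X k) (hcol k)
      have h1 := (pi0_key x g hten (colv X k) (hcol k)).2 b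
      have h3 : g (vecMulVec (colv X k) b) - h (vecMulVec (colv X k) b)
          = (g (vecMulVec (colv X k) b) - vecMulVec (pi0 g (colv X k)) b) - c • vecMulVec x b := by
        rw [hh', hc, add_vecMulVec, smul_vecMulVec]; abel
      rw [h3]
      exact (bfib x).sub_mem h1 ((bfib x).smul_mem _ (vecMulVec_mem_bfib x b))
    have hsum : g X - h X
        = (g (vecMulVec (colv X 0) e0) - h (vecMulVec (colv X 0) e0))
          + (g (vecMulVec (colv X 1) e1) - h (vecMulVec (colv X 1) e1))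
          + (g (vecMulVec (colv X 2) e2) - h (vecMulVec (colv X 2) e2)) := by
      conv_lhs => rw [eq_sum_cols X]
      rw [map_add, map_add, map_add, map_add]; abel
    rw [hsum]
    exact (bfib x).add_mem ((bfib x).add_mem (hterm 0 e0) (hterm 1 e1)) (hterm 2 e2)

end Cfsg.Agent.Lib.Helper52_SP3_LEVI2
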