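import Mathlib
import Cfsg.Prelude.Def_GeometricClasses
import Cfsg.Prelude.Def_LieClassical
import Cfsg.Agent.Lib.Helper39_SU6_Field
import Cfsg.Agent.Lib.Helper39_SU6_HForm

/-!
helper52: a hyperbolic pair for the `L`-valued Hermitian form `Hf` of helper39 (`|F| = 4`, `|L| = 64`,
`L` acting on `F^6` with adjoint `a ↦ a ^ 8`), for helper39's E6c (su6 row S5802).
The construction is done for an abstract hermitian `F`-form `f` on an `L`-space `V` (`Hyp`).
-/

set_option autoImplicit false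
set_option linter.unusedSectionVars false

namespace Cfsg.Agent.Lib.Helper52_SU6_HypPair

open Cfsg.Agent.Lib.Helper39_SU6_Field Cfsg.Agent.Lib.Helper39_SU6_HForm

variable {F L V : Type*} [Field F] [Fintype F] [Field L] [Fintype L] [Algebra F L]
  [AddCommGroup V] [Module F V] [Module L V] [IsScalarTower F L V] [Fintype V]

/-- the dual of `L` over `F` is one-dimensional over `L` -/
theorem exists_functional_eq (ρ₀ ψ : L →ₗ[F] F) (hρ₀ : ρ₀ ≠ 0) : ∃ c : L, ∀ k, ψ k = ρ₀ (c * k) := by
  have hnd := trace_nondeg (F := F) (L := L)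
  have h0 : ∀ (φ : L →ₗ[F] F) (k : L),
      Algebra.trace F L (((Algebra.traceForm F L).toDual hnd).symm φ * k) = φ k := by
    intro φ k
    have h := LinearMap.BilinForm.apply_toDual_symm_apply (B := Algebra.traceForm F L) (hB := hnd) φ k
    rwa [Algebra.traceForm_apply] at h
  have hη₀ : ((Algebra.traceForm F L).toDual hnd).symm ρ₀ ≠ 0 := by
    intro h
    apply hρ₀
    apply LinearMap.ext
    intro k
    rw [← h0 ρ₀ k, h, zero_mul, map_zero]
    rfl
  refine ⟨((Algebra.traceForm F L).toDual hnd).symm ψ / ((Algebra.traceForm F L).toDual hnd).symm ρ₀,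
    fun k => ?_⟩
  rw [← h0 ψ k, ← h0 ρ₀, ← mul_assoc, mul_div_cancel₀ _ hη₀]

/-- the norm `x ↦ x ^ 9` is onto the fixed field of `x ↦ x ^ 8` -/
theorem exists_pow_nine (c : L) (hc : c ^ 8 = c) (hc0 : c ≠ 0) : ∃ m : L, m ^ 9 = c := by
  have h7 : c ^ 7 = 1 := by
    have : c * (c ^ 7 - 1) = 0 := by linear_combination hc
    rcases mul_eq_zero.mp this with h | h
    · exact absurd h hc0
    · linear_combination h
  refine ⟨c ^ 4, ?_⟩
  calc (c ^ 4) ^ 9 = (c ^ 7) ^ 5 * c := by ring
    _ = c := by rw [h7, one_pow, one_mul]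

/-- The hypotheses of the abstract core. -/
structure Hyp (f : V → V → F) (dag : L → L) : Prop where
  hF : Fintype.card F = 2 ^ 2
  hL : Fintype.card L = 64
  hV : Fintype.card V = 4096
  f_add : ∀ u u' v, f (u + u') v = f u v + f u' v
  f_smul : ∀ (c : F) u v, f (c • u) v = c * f u v
  f_herm : ∀ u v, f v u = (f u v) ^ 2
  f_nd : ∀ v, (∀ u, f u v = 0) → v = 0
  f_adj : ∀ (k : L) u v, f (k • u) v = f u (dag k • v)
  dag_eq : ∀ x : L, dag x = x ^ 8

namespace Hyp

variable {f : V → V → F} {dag : L → L} (H : Hyp (V := V) f dag)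
include H

theorem two : (2 : F) = 0 := F_two H.hF

theorem twoL : (2 : L) = 0 := L_two H.hL

theorem pow4 (x : F) : x ^ 4 = x := F_pow_four H.hF x

theorem add_self (x : F) : x + x = 0 := by
  have := H.two
  linear_combination x * this

theorem add_selfL (x : L) : x + x = 0 := by
  have := H.twoL
  linear_combination x * this

theorem add_selfV (x : V) : x + x = 0 := by
  have h := H.two
  have : (2 : F) • x = 0 := by rw [h, zero_smul]
  rwa [two_smul] at this

theorem add_sq (x y : F) : (x + y) ^ 2 = x ^ 2 + y ^ 2 := by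
  have := H.two
  linear_combination x * y * this

theorem f_zero_left (v : V) : f 0 v = 0 := by
  have := H.f_add 0 0 v
  rw [add_zero] at this
  exact left_eq_add.mp this

theorem f_zero_right (u : V) : f u 0 = 0 := by
  rw [H.f_herm 0 u, H.f_zero_left, zero_pow two_ne_zero]

theorem f_add_right (u v v' : V) : f u (v + v') = f u v + f u v' := by
  rw [H.f_herm (v + v') u, H.f_add, H.add_sq, ← H.f_herm, ← H.f_herm]

theorem f_smul_right (c : F) (u v : V) : f u (c • v) = c ^ 2 * f u v := by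
  rw [H.f_herm (c • v) u, H.f_smul, mul_pow, ← H.f_herm]

theorem f_nd_left (u : V) (h : ∀ v, f u v = 0) : u = 0 := by
  apply H.f_nd
  intro v
  rw [H.f_herm, h, zero_pow two_ne_zero]

theorem f_sum_left {ι : Type*} (s : Finset ι) (g : ι → V) (v : V) :
    f (∑ i ∈ s, g i) v = ∑ i ∈ s, f (g i) v := by
  classical
  induction s using Finset.induction_on with
  | empty => simp [H.f_zero_left]
  | insert a s ha ih => rw [Finset.sum_insert ha, Finset.sum_insert ha, H.f_add, ih]

theorem f_sum_right {ι : Type*} (s : Finset ι) (u : V) (g : ι → V) :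
    f u (∑ i ∈ s, g i) = ∑ i ∈ s, f u (g i) := by
  classical
  induction s using Finset.induction_on with
  | empty => simp [H.f_zero_right]
  | insert a s ha ih => rw [Finset.sum_insert ha, Finset.sum_insert ha, H.f_add_right, ih]

theorem exists_ne_zero : ∃ v : V, v ≠ 0 := by
  have : Nontrivial V := by
    rw [← Fintype.one_lt_card_iff_nontrivial, H.hV]
    norm_num
  exact exists_ne 0

/-- uniqueness of adjoints -/
theorem eq_of_forall {a b : L} (h : ∀ u v, f u (a • v) = f u (b • v)) : a = b := by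
  obtain ⟨v, hv⟩ := H.exists_ne_zero
  have h1 : (a + b) • v = 0 := by
    apply H.f_nd
    intro u
    rw [add_smul, H.f_add_right, h u v, H.add_self]
  rcases smul_eq_zero.mp h1 with h2 | h2
  · have := H.add_selfL b
    linear_combination h2 - this
  · exact absurd h2 hv

theorem dag_add (x y : L) : dag (x + y) = dag x + dag y := by
  apply H.eq_of_forall
  intro u v
  rw [← H.f_adj, add_smul, H.f_add, H.f_adj, H.f_adj, add_smul, H.f_add_right]

theorem dag_mul (x y : L) : dag (x * y) = dag x * dag y := by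
  apply H.eq_of_forall
  intro u v
  rw [← H.f_adj, mul_comm x y, mul_smul, H.f_adj, H.f_adj, ← mul_smul]

theorem dag_alg (c : F) : dag (algebraMap F L c) = algebraMap F L (c ^ 2) := by
  apply H.eq_of_forall
  intro u v
  rw [← H.f_adj, algebraMap_smul, algebraMap_smul, H.f_smul, H.f_smul_right, ← pow_mul]
  rw [show c ^ (2 * 2) = c from H.pow4 c]

theorem dag_dag (x : L) : dag (dag x) = x := by
  apply H.eq_of_forall
  intro u v
  rw [← H.f_adj, H.f_herm v (dag x • u), ← H.f_adj, ← H.f_herm]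

theorem f_adj' (k : L) (u v : V) : f u (k • v) = f (dag k • u) v := by
  rw [H.f_adj, H.dag_dag]


/-- the functional `k ↦ f (k • x) y` -/
noncomputable def lin (x y : V) : L →ₗ[F] F where
  toFun k := f (k • x) y
  map_add' k k' := by rw [add_smul, H.f_add]
  map_smul' c k := by rw [smul_assoc, H.f_smul]; rfl

theorem lin_apply (x y : V) (k : L) : H.lin x y k = f (k • x) y := rfl

theorem lin_self_herm (x : V) (k : L) : f (dag k • x) x = (f (k • x) x) ^ 2 := by
  rw [H.f_adj, H.dag_dag, ← H.f_herm]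

theorem eq_zero_of_forall {ρ₀ : L →ₗ[F] F} (hρ₀ : ρ₀ ≠ 0) (w : L) (h : ∀ k, ρ₀ (k * w) = 0) :
    w = 0 := by
  by_contra hw
  apply hρ₀
  apply LinearMap.ext
  intro k
  have := h (k * w⁻¹)
  rw [mul_assoc, inv_mul_cancel₀ hw, mul_one] at this
  rw [this]; rfl

/-- if `ρ₀` and `ρ₀ (c * ·)` are both hermitian, `ρ₀ ≠ 0`, then `c` is fixed by `dag`. -/
theorem dag_eq_self_of_herm {ρ₀ : L →ₗ[F] F} (hρ₀ : ρ₀ ≠ 0) (h0 : ∀ k, ρ₀ (dag k) = (ρ₀ k) ^ 2)
    (c : L) (hc : ∀ k, ρ₀ (c * dag k) = (ρ₀ (c * k)) ^ 2) : dag c = c := by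
  have h1 : c + dag c = 0 := by
    apply H.eq_zero_of_forall hρ₀
    intro k
    have h2 := hc (dag k)
    rw [H.dag_dag] at h2
    -- ρ₀ (c * k) = ρ₀ (c * dag k)^2 = ρ₀ (dag (c * dag k)) = ρ₀ (dag c * k)
    rw [← h0, H.dag_mul, H.dag_dag] at h2
    rw [mul_add, map_add, mul_comm k c, mul_comm k (dag c), h2, H.add_self]
  have := H.add_selfL (dag c)
  linear_combination this - h1

theorem exists_isotropic : ∃ e : V, e ≠ 0 ∧ ∀ k : L, f (k • e) e = 0 := by
  obtain ⟨x, hx⟩ := H.exists_ne_zero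
  by_cases hρx : ∀ k : L, f (k • x) x = 0
  · exact ⟨x, hx, hρx⟩
  have hρx0 : H.lin x x ≠ 0 := by
    intro h
    apply hρx
    intro k
    have := LinearMap.congr_fun h k
    exact this
  obtain ⟨y₀, hy₀⟩ : ∃ y₀ : V, ∀ k : L, y₀ ≠ k • x := by
    by_contra hcon
    push Not at hcon
    have hsurj : Function.Surjective (fun k : L => k • x) := fun y => by
      obtain ⟨k, hk⟩ := hcon y
      exact ⟨k, hk.symm⟩
    have := Fintype.card_le_of_surjective _ hsurj
    rw [H.hL, H.hV] at this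
    omega
  obtain ⟨k₀, hk₀⟩ := exists_functional_eq (H.lin x x) (H.lin y₀ x) hρx0
  simp only [lin_apply] at hk₀
  obtain ⟨y, hy⟩ : ∃ y, y = y₀ + k₀ • x := ⟨_, rfl⟩
  have hyL : ∀ k : L, y ≠ k • x := by
    intro k hk
    apply hy₀ (k + k₀)
    rw [add_smul, ← hk, hy, add_assoc, H.add_selfV, add_zero]
  have hy0 : y ≠ 0 := by
    intro h
    apply hyL 0
    rw [h, zero_smul]
  have hyx : ∀ k : L, f (k • y) x = 0 := by
    intro k
    rw [hy, smul_add, H.f_add, smul_smul, hk₀, mul_comm k₀ k, H.add_self]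
  have hxy : ∀ k : L, f (k • x) y = 0 := by
    intro k
    rw [H.f_herm y (k • x), H.f_adj', hyx, zero_pow two_ne_zero]
  by_cases hρy : ∀ k : L, f (k • y) y = 0
  · exact ⟨y, hy0, hρy⟩
  obtain ⟨c, hc⟩ := exists_functional_eq (H.lin x x) (H.lin y y) hρx0
  simp only [lin_apply] at hc
  have hc0 : c ≠ 0 := by
    rintro rfl
    apply hρy
    intro k
    rw [hc, zero_mul, zero_smul, H.f_zero_left]
  have hcfix : dag c = c := by
    apply H.dag_eq_self_of_herm hρx0 (fun k => H.lin_self_herm x k) c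
    intro k
    simp only [lin_apply]
    rw [← hc, ← hc, H.lin_self_herm]
  have hc8 : c ^ 8 = c := by rw [← H.dag_eq, hcfix]
  obtain ⟨m, hm⟩ := exists_pow_nine c hc8 hc0
  have hmm : m * dag m = c := by rw [H.dag_eq, ← hm]; ring
  refine ⟨m • x + y, ?_, ?_⟩
  · intro h
    apply hyL m
    have h2 : y = m • x + (m • x + y) := by rw [← add_assoc, H.add_selfV, zero_add]
    rw [h2, h, add_zero]
  · intro k
    rw [smul_add, H.f_add, H.f_add_right, H.f_add_right]
    have e1 : f (k • m • x) (m • x) = f (k • y) y := by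
      rw [H.f_adj', smul_smul, smul_smul, hc, ← hmm]
      congr 2
      ring
    have e2 : f (k • m • x) y = 0 := by rw [smul_smul, hxy]
    have e3 : f (k • y) (m • x) = 0 := by rw [H.f_adj', smul_smul, hyx]
    rw [e1, e2, e3, add_zero, zero_add, H.add_self]


theorem dag_one : dag (1 : L) = 1 := by
  have := H.dag_alg 1
  rwa [map_one, one_pow, map_one] at this

theorem dag_smul (c : F) (k : L) : dag (c • k) = (c ^ 2) • dag k := by
  rw [Algebra.smul_def, H.dag_mul, H.dag_alg, Algebra.smul_def]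

/-- hermitianization of a functional -/
noncomputable def hermize (τ : L →ₗ[F] F) : L →ₗ[F] F where
  toFun k := τ k + (τ (dag k)) ^ 2
  map_add' k k' := by
    rw [H.dag_add, map_add, map_add, H.add_sq]; ring
  map_smul' c k := by
    rw [H.dag_smul, map_smul, map_smul, smul_eq_mul, smul_eq_mul, mul_pow, ← pow_mul,
      show c ^ (2 * 2) = c from H.pow4 c, RingHom.id_apply, smul_eq_mul]
    ring

theorem hermize_apply (τ : L →ₗ[F] F) (k : L) : H.hermize τ k = τ k + (τ (dag k)) ^ 2 := rfl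

theorem hermize_herm (τ : L →ₗ[F] F) (k : L) : H.hermize τ (dag k) = (H.hermize τ k) ^ 2 := by
  rw [hermize_apply, hermize_apply, H.dag_dag, H.add_sq, ← pow_mul,
    show (τ (dag k)) ^ (2 * 2) = τ (dag k) from H.pow4 _]
  ring

/-- A hyperbolic pair over `L`. -/
theorem exists_pair : ∃ e f' : V, (∀ k : L, f (k • e) e = 0) ∧ (∀ k : L, f (k • f') f' = 0) ∧
    (∃ k : L, f (k • e) f' ≠ 0) ∧ ∀ k : L, f (dag k • e) f' = (f (k • e) f') ^ 2 := by
  obtain ⟨e, he0, he⟩ := H.exists_isotropic
  obtain ⟨z, hz⟩ : ∃ z, f e z ≠ 0 := by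
    by_contra hcon
    push Not at hcon
    exact he0 (H.f_nd_left e hcon)
  have hτz : H.lin e z ≠ 0 := by
    intro h
    apply hz
    have := LinearMap.congr_fun h 1
    rwa [lin_apply, one_smul] at this
  obtain ⟨ω, hω⟩ := exists_omega H.hF
  obtain ⟨m, hm⟩ := exists_functional_eq (H.lin e z) (ω • H.lin z z) hτz
  simp only [LinearMap.smul_apply, lin_apply, smul_eq_mul] at hm
  obtain ⟨f₀, hf₀⟩ : ∃ f₀, f₀ = z + m • e := ⟨_, rfl⟩
  have hee : ∀ k k' : L, f (k • e) (k' • e) = 0 := by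
    intro k k'
    rw [H.f_adj', smul_smul, he]
  have hρ0 : ∀ l : L, f (l • f₀) f₀ = 0 := by
    intro l
    rw [hf₀, smul_add, H.f_add, H.f_add_right, H.f_add_right, smul_smul, hee, add_zero]
    have e3 : f ((l * m) • e) z = ω * f (l • z) z := by rw [hm, mul_comm]
    have e2 : f (l • z) (m • e) = ω ^ 2 * f (l • z) z := by
      rw [H.f_herm (m • e) (l • z), H.f_adj', smul_smul, mul_comm, ← hm, mul_pow, H.lin_self_herm,
        ← pow_mul, show (f (l • z) z) ^ (2 * 2) = f (l • z) z from H.pow4 _]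
    rw [e2, e3]
    linear_combination f (l • z) z * hω
  have hτ1 : ∀ k : L, f (k • e) f₀ = f (k • e) z := by
    intro k
    rw [hf₀, H.f_add_right, hee, add_zero]
  have hτ10 : H.lin e f₀ ≠ 0 := by
    intro h
    apply hz
    have := LinearMap.congr_fun h 1
    rwa [lin_apply, hτ1, one_smul] at this
  -- hermitian rescaling
  obtain ⟨c, hc0, hc⟩ : ∃ c : L, c ≠ 0 ∧
      ∀ k, H.lin e f₀ (c * dag k) = (H.lin e f₀ (c * k)) ^ 2 := by
    by_cases h0 : H.hermize (H.lin e f₀) = 0
    · refine ⟨1, one_ne_zero, ?_⟩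
      intro k
      have h1 := LinearMap.congr_fun h0 (dag k)
      rw [hermize_apply, H.dag_dag, LinearMap.zero_apply] at h1
      rw [one_mul, one_mul]
      have := H.add_self ((H.lin e f₀ k) ^ 2)
      linear_combination h1 - this
    · obtain ⟨c, hc⟩ := exists_functional_eq (H.lin e f₀) (H.hermize (H.lin e f₀)) hτ10
      refine ⟨c, ?_, ?_⟩
      · rintro rfl
        apply h0
        apply LinearMap.ext
        intro k
        rw [hc, zero_mul, map_zero]; rfl
      · intro k
        rw [← hc, ← hc, H.hermize_herm]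
  simp only [lin_apply] at hc
  refine ⟨e, dag c • f₀, he, ?_, ?_, ?_⟩
  · intro k
    rw [H.f_adj', H.dag_dag, smul_smul, smul_smul, hρ0]
  · obtain ⟨k, hk⟩ : ∃ k, f (k • e) f₀ ≠ 0 := by
      by_contra hcon
      push Not at hcon
      apply hτ10
      apply LinearMap.ext
      intro k
      rw [lin_apply, hcon]; rfl
    refine ⟨c⁻¹ * k, ?_⟩
    rw [H.f_adj', H.dag_dag, smul_smul, ← mul_assoc, mul_inv_cancel₀ hc0, one_mul]
    exact hk
  · intro k
    rw [H.f_adj', H.dag_dag, smul_smul, hc, H.f_adj' (dag c), H.dag_dag, smul_smul]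

end Hyp

/-- **A hyperbolic pair for helper39's `L`-valued Hermitian form** `Hf` on `F^6`. -/
theorem exists_hyp_pair {F : Type*} [Field F] [Fintype F] {L : Type*} [Field L] [Fintype L] [Algebra F L]
    [Module L (Fin 6 → F)] [IsScalarTower F L (Fin 6 → F)]
    (hF : Fintype.card F = 2 ^ 2) (hL : Fintype.card L = 64)
    (hadj : ∀ (a : L) (x y : Fin 6 → F),
      Cfsg.hermForm 6 F 2 (a • x) y = Cfsg.hermForm 6 F 2 x (a ^ 8 • y)) :
    ∃ u₁ u₂ : Fin 6 → F, Hf (L := L) u₁ u₁ = 0 ∧ Hf (L := L) u₂ u₂ = 0 ∧ Hf (L := L) u₁ u₂ = 1 := by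
  have H : Hyp (F := F) (L := L) (V := Fin 6 → F) (Cfsg.hermForm 6 F 2) (fun a => a ^ 8) :=
    { hF := hF
      hL := hL
      hV := by rw [Fintype.card_fun, hF, Fintype.card_fin]; norm_num
      f_add := fun u u' v => hAddL u u' v
      f_smul := fun c u v => hSmulL c u v
      f_herm := fun u v => hSymm hF u v
      f_nd := fun v hv => by
        apply herm_nondeg
        intro y
        rw [hSymm hF y v, hv, zero_pow two_ne_zero]
      f_adj := fun k u v => hadj k u v
      dag_eq := fun _ => rfl }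
  obtain ⟨e, f₀, he, hf₀, ⟨k, hk⟩, -⟩ := H.exists_pair
  have h11 : Hf (L := L) e e = 0 := by
    symm
    apply Hf_unique
    intro c
    rw [zero_mul, map_zero, he]
  have h22 : Hf (L := L) f₀ f₀ = 0 := by
    symm
    apply Hf_unique
    intro c
    rw [zero_mul, map_zero, hf₀]
  have ht : Hf (L := L) e f₀ ≠ 0 := by
    intro h
    apply hk
    rw [← Hf_spec, h, zero_mul, map_zero]
  refine ⟨e, ((Hf (L := L) e f₀)⁻¹) ^ 8 • f₀, h11, ?_, ?_⟩
  · rw [Hf_smul_left, Hf_smul_right hL hadj, h22, mul_zero, mul_zero]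
  · rw [Hf_smul_right hL hadj, pow8_pow8 hL, inv_mul_cancel₀ ht]

end Cfsg.Agent.Lib.Helper52_SU6_HypPair
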