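import Mathlib
import Cfsg.Prelude.Def_GeometricClasses
import Cfsg.Prelude.Def_LieClassical
import Cfsg.Agent.Lib.Helper39_QSDefs

set_option autoImplicit false

namespace Cfsg.Agent.Lib.Helper52_SUG_U4

open Matrix Cfsg.Geo Cfsg.Agent.Lib.Helper39_QSDefs

variable {ι : Type} [Fintype ι] [DecidableEq ι] {F : Type*} [Field F]

/-- generic: a similarity of `f` conjugates isometries of `f` to isometries of `f` -/
lemma conj_preserves {f : (ι → F) → (ι → F) → F} {x s : GL ι F} (hx : x ∈ similarityGroup f)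
    (hs : ∀ u v, f ((s : Matrix ι ι F) *ᵥ u) ((s : Matrix ι ι F) *ᵥ v) = f u v) (u v : ι → F) :
    f (((x * s * x⁻¹ : GL ι F) : Matrix ι ι F) *ᵥ u) (((x * s * x⁻¹ : GL ι F) : Matrix ι ι F) *ᵥ v) = f u v := by
  obtain ⟨c, hc⟩ := hx
  have h1 : ∀ w : ι → F, ((x * s * x⁻¹ : GL ι F) : Matrix ι ι F) *ᵥ w =
      (x : Matrix ι ι F) *ᵥ ((s : Matrix ι ι F) *ᵥ (((x⁻¹ : GL ι F) : Matrix ι ι F) *ᵥ w)) := by
    intro w
    rw [Units.val_mul, Units.val_mul, Matrix.mulVec_mulVec, Matrix.mulVec_mulVec, Matrix.mul_assoc]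
  have h2 : ∀ w : ι → F, (x : Matrix ι ι F) *ᵥ (((x⁻¹ : GL ι F) : Matrix ι ι F) *ᵥ w) = w := by
    intro w
    rw [Matrix.mulVec_mulVec, ← Units.val_mul, mul_inv_cancel, Units.val_one, Matrix.one_mulVec]
  rw [h1, h1, hc, hs, ← hc, h2, h2]

variable [Fintype F]

/-- U4 -/
theorem U4 {q : ℕ} (hF : Fintype.card F = q ^ 2) (n : ℕ) (x : GL (Fin n) F)
    (hx : x ∈ similarityGroup (Cfsg.hermForm n F q)) (s : GL (Fin n) F)
    (hs : s ∈ Cfsg.GU n F q ⊓ specialLinear (Fin n) F) :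
    x * s * x⁻¹ ∈ Cfsg.GU n F q ⊓ specialLinear (Fin n) F := by
  refine ⟨?_, ?_⟩
  · intro u v
    exact conj_preserves hx hs.1 u v
  · have h1 : s ∈ (Matrix.GeneralLinearGroup.det : GL (Fin n) F →* Fˣ).ker := hs.2
    show x * s * x⁻¹ ∈ (Matrix.GeneralLinearGroup.det : GL (Fin n) F →* Fˣ).ker
    rw [MonoidHom.mem_ker] at h1 ⊢
    rw [map_mul, map_mul, h1, mul_one, map_inv, mul_inv_cancel]

end Cfsg.Agent.Lib.Helper52_SUG_U4
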