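import Mathlib
import Cfsg.Prelude.Def_ClassicalGeometry
import Cfsg.Agent.S5959
import Cfsg.Agent.S5961
import Cfsg.Agent.Lib.Helper43_SympJordan
import Cfsg.Agent.Lib.Helper43_UnipIsom
import Cfsg.Agent.Lib.Helper99_SpBridge
import Cfsg.Agent.Lib.Helper13_Symp

set_option autoImplicit false

/-!
Package Q4a for S5956: in characteristic `p > 2`, if every element of order `p` of `PSp_2d(q)` fixes a
nondegenerate `m`-space then every admissible partition of `2d` contains an admissible partition of `m`.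
-/

namespace Cfsg.Agent.Lib.Helper99_SpND_Q4a

open Module Polynomial
open Cfsg.Agent.Lib.Helper40_SpBasic Cfsg.Agent.Lib.Helper94_Bridge
  Cfsg.Agent.Lib.Helper43_Jordan Cfsg.Agent.Lib.Helper43_SympJordan Cfsg.Agent.Lib.Helper43_UnipIsom
  Cfsg.Agent.Lib.Helper99_SpBridge

universe u

variable {F : Type u} [Field F]

/-- in characteristic `p`, `(T - 1) ^ p = T ^ p - 1` -/
theorem sub_one_pow_char {V : Type*} [AddCommGroup V] [Module F V] (p : ℕ) [Fact p.Prime]
    [CharP F p] (T : End F V) : (T - 1) ^ p = T ^ p - 1 := by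
  have hpoly : ((X : F[X]) - 1) ^ p = (X : F[X]) ^ p - 1 := by
    rw [sub_pow_char, one_pow]
  have := congrArg (Polynomial.aeval T) hpoly
  simpa using this

section transport

variable {V V' : Type u} [AddCommGroup V] [Module F V] [FiniteDimensional F V]
  [AddCommGroup V'] [Module F V'] [FiniteDimensional F V']

theorem conj_sub_one_pow (e : V' ≃ₗ[F] V) (g : End F V') (T : End F V)
    (hT : ∀ x, T (e x) = e (g x)) (k : ℕ) (x : V') :
    ((T - 1) ^ k) (e x) = e (((g - 1) ^ k) x) := by
  induction k generalizing x with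
  | zero => simp
  | succ k ih =>
    rw [pow_succ, Module.End.mul_apply, pow_succ, Module.End.mul_apply, ← ih,
      LinearMap.sub_apply, LinearMap.sub_apply, Module.End.one_apply, Module.End.one_apply,
      map_sub, hT, map_sub, map_sub]

theorem isNilpotent_conj (e : V' ≃ₗ[F] V) (g : End F V') (T : End F V)
    (hT : ∀ x, T (e x) = e (g x)) (hg : IsNilpotent (g - 1)) : IsNilpotent (T - 1) := by
  obtain ⟨k, hk⟩ := hg
  refine ⟨k, ?_⟩
  apply LinearMap.ext
  intro y
  obtain ⟨x, rfl⟩ := e.surjective y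
  rw [conj_sub_one_pow e g T hT, hk, LinearMap.zero_apply, map_zero, LinearMap.zero_apply]

theorem jtype_conj (e : V' ≃ₗ[F] V) (g : End F V') (T : End F V)
    (hT : ∀ x, T (e x) = e (g x)) (hg : IsNilpotent (g - 1)) :
    jtype (T - 1) = jtype (g - 1) := by
  symm
  rw [jtype_eq_iff _ hg _ (isNilpotent_conj e g T hT hg)]
  refine ⟨e, fun x => ?_⟩
  have := conj_sub_one_pow e g T hT 1 x
  rw [pow_one, pow_one] at this
  exact this.symm

end transport

section main

variable [Fintype F] {p : ℕ} [Fact p.Prime] [CharP F p]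

theorem restrict_sub_one {V : Type*} [AddCommGroup V] [Module F V] (T : End F V)
    (W : Submodule F V) (hTW : ∀ x ∈ W, T x ∈ W) (hNW : ∀ x ∈ W, (T - 1) x ∈ W) :
    (T - 1).restrict hNW = T.restrict hTW - 1 := by
  apply LinearMap.ext
  intro z
  apply Subtype.ext
  simp [LinearMap.restrict_apply]

/-- **Package Q4a (S5956)**: necessity of the partition condition. -/
theorem Q4a (d m : ℕ) (hd : 2 ≤ d) (hm : 2 ≤ m) (hme : Even m) (hmd : m < d) (hp2 : 2 < p)
    (hall : ∀ x : ↥(Matrix.symplecticGroup (Fin d) F),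
      (∃ z : F, ((x ^ p : ↥(Matrix.symplecticGroup (Fin d) F)) : Matrix (Fin d ⊕ Fin d) (Fin d ⊕ Fin d) F) = z • (1 : Matrix (Fin d ⊕ Fin d) (Fin d ⊕ Fin d) F)) →
      (∀ z : F, (x : Matrix (Fin d ⊕ Fin d) (Fin d ⊕ Fin d) F) ≠ z • (1 : Matrix (Fin d ⊕ Fin d) (Fin d ⊕ Fin d) F)) →
      ∃ W : Submodule F (Fin d ⊕ Fin d → F), Module.finrank F ↥W = m ∧ (∀ u ∈ W, u ≠ 0 → ∃ v ∈ W, Cfsg.sympForm d F u v ≠ 0) ∧
        W.map (Matrix.toLin' (x : Matrix (Fin d ⊕ Fin d) (Fin d ⊕ Fin d) F)) ≤ W) :
    ∀ μ : Multiset ℕ, (∀ a ∈ μ, 0 < a ∧ a ≤ p) → (∀ a : ℕ, Odd a → Even (μ.count a)) → μ.sum = 2 * d →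
        ∃ ν : Multiset ℕ, ν ≤ μ ∧ ν.sum = m ∧ ∀ a : ℕ, Odd a → Even (ν.count a) := by
  classical
  intro μ hμ hpar hsum
  have hp : p.Prime := Fact.out
  by_cases hones : ∀ a ∈ μ, a = 1
  · have hcard : Multiset.card μ = 2 * d := by
      rw [← hsum]
      conv_rhs => rw [Multiset.eq_replicate_card.2 hones, Multiset.sum_replicate, smul_eq_mul, mul_one]
    have hμ1 : μ = Multiset.replicate (2 * d) 1 := by
      rw [Multiset.eq_replicate]
      exact ⟨hcard, hones⟩
    refine ⟨Multiset.replicate m 1, ?_, ?_, ?_⟩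
    · rw [hμ1, Multiset.replicate_le_replicate]
      omega
    · rw [Multiset.sum_replicate, smul_eq_mul, mul_one]
    · intro a _
      rw [Multiset.count_replicate]
      split_ifs
      · exact hme
      · exact Even.zero
  · push Not at hones
    obtain ⟨a₀, ha₀, ha₀1⟩ := hones
    obtain ⟨V', iV1, iV2, iV3, ω, g, halt, hnd, hgiso, hnil, hjt⟩ :=
      realizable_of_counts (F := F) μ (fun a ha => (hμ a ha).1) hpar
    have hdim : finrank F V' = 2 * d := by rw [← hsum, ← hjt, jtype_sum _ hnil]
    obtain ⟨e, he⟩ := exists_isometry_standard ω halt hnd d hdim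
    set T : End F (Fin d ⊕ Fin d → F) :=
      (e : V' →ₗ[F] (Fin d ⊕ Fin d → F)) ∘ₗ g ∘ₗ (e.symm : (Fin d ⊕ Fin d → F) →ₗ[F] V') with hTdef
    have hT : ∀ x, T (e x) = e (g x) := by
      intro x
      simp [hTdef]
    have hnilT : IsNilpotent (T - 1) := isNilpotent_conj e g T hT hnil
    have hjtT : jtype (T - 1) = μ := by rw [jtype_conj e g T hT hnil, hjt]
    have hTiso : ∀ u v, Bsymp d F (T u) (T v) = Bsymp d F u v := by
      intro u v
      obtain ⟨u', rfl⟩ := e.surjective u
      obtain ⟨v', rfl⟩ := e.surjective v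
      rw [hT, hT, he, he, hgiso]
    set A : Matrix (Fin d ⊕ Fin d) (Fin d ⊕ Fin d) F := LinearMap.toMatrix' T with hAdef
    have hAT : Matrix.toLin' A = T := Matrix.toLin'_toMatrix' T
    have hA : A ∈ Matrix.symplecticGroup (Fin d) F := by
      apply Cfsg.Agent.Lib.Helper13_Symp.mem_symplecticGroup_of_preserves
      intro u v
      rw [← Matrix.toLin'_apply, ← Matrix.toLin'_apply, hAT, ← Bsymp_apply, ← Bsymp_apply]
      exact hTiso u v
    have hNp : (T - 1) ^ p = 0 := by
      rw [pow_eq_zero_iff_jtype _ hnilT, hjtT]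
      exact fun a ha => (hμ a ha).2
    have hTp : T ^ p = 1 := by
      have := sub_one_pow_char p T
      rw [hNp] at this
      exact (sub_eq_zero.1 this.symm)
    have hAp : A ^ p = 1 := by
      apply Matrix.toLin'.injective
      rw [Matrix.toLin'_pow, hAT, hTp, Matrix.toLin'_one]
      rfl
    have hAns : ∀ z : F, A ≠ z • (1 : Matrix (Fin d ⊕ Fin d) (Fin d ⊕ Fin d) F) := by
      intro z hz
      have hTz : T = z • (1 : End F (Fin d ⊕ Fin d → F)) := by
        rw [← hAT, hz, map_smul, Matrix.toLin'_one]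
        rfl
      have hN : T - 1 = (z - 1) • (1 : End F (Fin d ⊕ Fin d → F)) := by
        rw [hTz]
        apply LinearMap.ext
        intro v
        simp [sub_smul]
      have hz1 : z - 1 = 0 := by
        have h1 := hNp
        rw [hN, _root_.smul_pow, one_pow] at h1
        have h2 := congrArg (fun f : End F (Fin d ⊕ Fin d → F) =>
          f (Pi.single (Sum.inl ⟨0, by omega⟩) 1) (Sum.inl ⟨0, by omega⟩)) h1
        simp only [LinearMap.smul_apply, Module.End.one_apply, Pi.smul_apply, Pi.single_eq_same,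
          smul_eq_mul, mul_one, LinearMap.zero_apply, Pi.zero_apply] at h2
        exact pow_eq_zero_iff (hp.ne_zero) |>.1 h2
      have hN0 : (T - 1) ^ 1 = 0 := by rw [pow_one, hN, hz1, zero_smul]
      rw [pow_eq_zero_iff_jtype _ hnilT, hjtT] at hN0
      have := hN0 a₀ ha₀
      have := (hμ a₀ ha₀).1
      omega
    obtain ⟨W, hWd, hWnd, hWinv⟩ := hall ⟨A, hA⟩ ⟨1, by
      rw [one_smul, SubmonoidClass.coe_pow]
      exact hAp⟩ hAns
    have hWnd' : NDOn (Bsymp d F) W := by
      rw [Cfsg.Agent.S5961.ndOn_iff]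
      intro u hu hu0
      obtain ⟨v, hv, hne⟩ := hWnd u hu hu0
      exact ⟨v, hv, by rwa [Bsymp_apply]⟩
    have hTW : ∀ x ∈ W, T x ∈ W := by
      intro w hw
      rw [← hAT]
      exact hWinv ⟨w, hw, rfl⟩
    have hiso : IsoData (Bsymp d F) T p :=
      { alt := Bsymp_isAlt d
        iso := hTiso
        pow := hTp
        pos := hp.pos }
    have hTW' : ∀ x ∈ (Bsymp d F).orthogonal W, T x ∈ (Bsymp d F).orthogonal W :=
      hiso.inv_orthogonal hTW
    have hcompl : IsCompl W ((Bsymp d F).orthogonal W) := isCompl_orthogonal hiso hWnd'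
    have hNW : ∀ x ∈ W, (T - 1) x ∈ W := by
      intro x hx
      rw [LinearMap.sub_apply, Module.End.one_apply]
      exact W.sub_mem (hTW x hx) hx
    have hNW' : ∀ x ∈ (Bsymp d F).orthogonal W, (T - 1) x ∈ (Bsymp d F).orthogonal W := by
      intro x hx
      rw [LinearMap.sub_apply, Module.End.one_apply]
      exact Submodule.sub_mem _ (hTW' x hx) hx
    have hsplit := Cfsg.Agent.S5959.jtype_of_isCompl (T - 1) hnilT W _ hcompl hNW hNW'
    have hnilW : IsNilpotent ((T - 1).restrict hNW) := Module.End.isNilpotent.restrict hNW hnilT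
    refine ⟨jtype ((T - 1).restrict hNW), ?_, ?_, ?_⟩
    · rw [← hjtT, hsplit]
      exact Multiset.le_add_right _ _
    · rw [jtype_sum _ hnilW, hWd]
    · intro a ha
      have hrest := restrict_sub_one T W hTW hNW
      have hTW2 : ∀ x ∈ W, (T ^ (p - 1)) x ∈ W := fun x hx => Inv.pow_mem hTW (p - 1) hx
      have hdata : IsomData ((Bsymp d F).restrict W) (T.restrict hTW) ((T ^ (p - 1)).restrict hTW2) :=
        { iso := fun x y => hTiso x y
          uv := by
            apply LinearMap.ext
            intro z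
            apply Subtype.ext
            rw [Module.End.mul_apply, LinearMap.restrict_apply, LinearMap.restrict_apply,
              Module.End.one_apply]
            exact hiso.apply_ad z
          vu := by
            apply LinearMap.ext
            intro z
            apply Subtype.ext
            rw [Module.End.mul_apply, LinearMap.restrict_apply, LinearMap.restrict_apply,
              Module.End.one_apply]
            exact hiso.ad_apply z }
      have hndW : ((Bsymp d F).restrict W).Nondegenerate := nondegenerate_restrict hiso hWnd'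
      have haltW : ((Bsymp d F).restrict W).IsAlt := fun x => Bsymp_isAlt d x.1
      rw [hrest] at hnilW ⊢
      exact even_count_jtype_of_alt hdata hndW haltW hnilW a ha

end main

end Cfsg.Agent.Lib.Helper99_SpND_Q4a
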