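import Mathlib
import Cfsg.Prelude.Def_ClassicalGeometry
import Cfsg.Agent.S5959
import Cfsg.Agent.Lib.Helper43_GUUnip
import Cfsg.Agent.Lib.Helper43_RegNilpotent4
import Cfsg.Agent.Lib.Helper40_UBasic
import Cfsg.Agent.Lib.Helper40_UMatrix
import Cfsg.Agent.Lib.Helper94_HermBridge
import Cfsg.Agent.Lib.Helper99_SpND_Q4a

set_option autoImplicit false
open scoped MatrixGroups
open Cfsg

namespace Cfsg.Agent.Lib.Helper52_SUND_UABmp

open Module Polynomial Matrix
open Cfsg.Agent.Lib.Helper43_Jordan Cfsg.Agent.Lib.Helper40_UBasic Cfsg.Agent.Lib.Helper40_SpBasic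
  Cfsg.Agent.Lib.Helper94_HermBridge Cfsg.Agent.Lib.Helper99_SpND_Q4a

universe u

/-- UAB_mp: necessity, ANY characteristic p (also p = 2; no `2 < p`). -/
theorem UAB_mp {F : Type u} [Field F] [Fintype F] {p : ℕ} [Fact p.Prime] [CharP F p] {q : ℕ} (hq : Fintype.card F = q ^ 2)
    (n m : ℕ) (hn : 3 ≤ n) (_hm : 1 ≤ m) (hmn : 2 * m < n)
    (hall : ∀ x : Matrix.SpecialLinearGroup (Fin n) F, x ∈ Cfsg.SU n F q →
      (∃ z : F, ((x ^ p : Matrix.SpecialLinearGroup (Fin n) F) : Matrix (Fin n) (Fin n) F) = z • (1 : Matrix (Fin n) (Fin n) F)) →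
      (∀ z : F, (x : Matrix (Fin n) (Fin n) F) ≠ z • (1 : Matrix (Fin n) (Fin n) F)) →
      ∃ W : Submodule F (Fin n → F), Module.finrank F ↥W = m ∧ (∀ u ∈ W, u ≠ 0 → ∃ v ∈ W, Cfsg.hermForm n F q u v ≠ 0) ∧
        W.map (Matrix.toLin' (x : Matrix (Fin n) (Fin n) F)) ≤ W) :
    ∀ μ : Multiset ℕ, (∀ a ∈ μ, 0 < a ∧ a ≤ p) → μ.sum = n → ∃ ν : Multiset ℕ, ν ≤ μ ∧ ν.sum = m := by
  classical
  intro μ hμ hsum
  have hp : p.Prime := Fact.out
  by_cases hones : ∀ a ∈ μ, a = 1
  · have hcard : Multiset.card μ = n := by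
      rw [← hsum]
      conv_rhs => rw [Multiset.eq_replicate_card.2 hones, Multiset.sum_replicate, smul_eq_mul, mul_one]
    have hμ1 : μ = Multiset.replicate n 1 := by
      rw [Multiset.eq_replicate]
      exact ⟨hcard, hones⟩
    refine ⟨Multiset.replicate m 1, ?_, ?_⟩
    · rw [hμ1, Multiset.replicate_le_replicate]
      omega
    · rw [Multiset.sum_replicate, smul_eq_mul, mul_one]
  · push Not at hones
    obtain ⟨a₀, ha₀, ha₀1⟩ := hones
    obtain ⟨σ, hσq, hσ⟩ := exists_frob hq
    have hfr : μ.sum = finrank F (Fin n → F) := by rw [hsum]; simp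
    obtain ⟨N, hN, hjt⟩ := exists_jtype_eq (F := F) (V := Fin n → F) μ (fun a ha => (hμ a ha).1) hfr
    obtain ⟨g, hg⟩ := exists_Nof_eq N hN
    obtain ⟨B, hB⟩ := Cfsg.Agent.Lib.Helper43_GUUnip.exists_GU_conj hq g (by rw [hg]; exact hN)
    obtain ⟨e, he⟩ := (isConj_iff_Nof g (B : GL (Fin n) F)).1 hB
    set A : Matrix (Fin n) (Fin n) F := ((B : GL (Fin n) F) : Matrix (Fin n) (Fin n) F) with hAdef
    set T : End F (Fin n → F) := Matrix.toLin' A with hTdef
    have hTN : T - 1 = Nof (B : GL (Fin n) F) := by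
      apply LinearMap.ext
      intro x
      rw [Nof_apply, LinearMap.sub_apply, Module.End.one_apply, hTdef, Matrix.toLin'_apply,
        Matrix.sub_mulVec, Matrix.one_mulVec]
    have hnilB : IsNilpotent (Nof (B : GL (Fin n) F)) := by
      obtain ⟨k, hk⟩ := hN
      refine ⟨k, ?_⟩
      apply LinearMap.ext
      intro y
      obtain ⟨x, rfl⟩ := e.surjective y
      have hpow : ∀ j : ℕ, ∀ x, ((Nof (B : GL (Fin n) F)) ^ j) (e x) = e (((Nof g) ^ j) x) := by
        intro j
        induction j with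
        | zero => intro x; simp
        | succ j ih =>
          intro x
          rw [pow_succ, Module.End.mul_apply, pow_succ, Module.End.mul_apply, ← he, ih]
      rw [hpow, hg, hk, LinearMap.zero_apply, map_zero, LinearMap.zero_apply]
    have hnilT : IsNilpotent (T - 1) := by rw [hTN]; exact hnilB
    have hjtT : jtype (T - 1) = μ := by
      rw [hTN, ← hjt, ← hg]
      symm
      rw [jtype_eq_iff _ (by rw [hg]; exact hN) _ hnilB]
      exact ⟨e, he⟩
    have hAiso : ∀ u v, Cfsg.hermForm n F q (A *ᵥ u) (A *ᵥ v) = Cfsg.hermForm n F q u v := by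
      intro u v
      exact B.2 u v
    have hNp : (T - 1) ^ p = 0 := by
      rw [pow_eq_zero_iff_jtype _ hnilT, hjtT]
      exact fun a ha => (hμ a ha).2
    have hTp : T ^ p = 1 := by
      have := sub_one_pow_char p T
      rw [hNp] at this
      exact (sub_eq_zero.1 this.symm)
    have hAp : A ^ p = 1 := by
      apply Matrix.toLin'.injective
      rw [Matrix.toLin'_pow, ← hTdef, hTp, Matrix.toLin'_one]
      rfl
    have hdet : A.det = 1 := by
      have h1 := Cfsg.Agent.Lib.Helper43_RegNilpotent.det_scalar_add_nilpotent (1 : F) (T - 1) hnilT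
      rw [one_smul, add_sub_cancel, one_pow, hTdef, LinearMap.det_toLin'] at h1
      exact h1
    have hAns : ∀ z : F, A ≠ z • (1 : Matrix (Fin n) (Fin n) F) := by
      intro z hz
      have hTz : T = z • (1 : End F (Fin n → F)) := by
        rw [hTdef, hz, map_smul, Matrix.toLin'_one]
        rfl
      have hNz : T - 1 = (z - 1) • (1 : End F (Fin n → F)) := by
        rw [hTz]
        apply LinearMap.ext
        intro v
        simp [sub_smul]
      have hz1 : z - 1 = 0 := by
        have h1 := hNp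
        rw [hNz, _root_.smul_pow, one_pow] at h1
        have h2 := congrArg (fun f : End F (Fin n → F) =>
          f (Pi.single (⟨0, by omega⟩ : Fin n) 1) (⟨0, by omega⟩ : Fin n)) h1
        simp only [LinearMap.smul_apply, Module.End.one_apply, Pi.smul_apply, Pi.single_eq_same,
          smul_eq_mul, mul_one, LinearMap.zero_apply, Pi.zero_apply] at h2
        exact pow_eq_zero_iff (hp.ne_zero) |>.1 h2
      have hN0 : (T - 1) ^ 1 = 0 := by rw [pow_one, hNz, hz1, zero_smul]
      rw [pow_eq_zero_iff_jtype _ hnilT, hjtT] at hN0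
      have := hN0 a₀ ha₀
      have := (hμ a₀ ha₀).1
      omega
    set xx : Matrix.SpecialLinearGroup (Fin n) F := ⟨A, hdet⟩ with hxx
    have hxxA : (xx : Matrix (Fin n) (Fin n) F) = A := rfl
    have hxSU : xx ∈ Cfsg.SU n F q := by
      intro u v
      exact hAiso u v
    obtain ⟨W, hWd, hWnd, hWinv⟩ := hall xx hxSU ⟨1, by
      rw [one_smul, Matrix.SpecialLinearGroup.coe_pow, hxxA]
      exact hAp⟩ (by rw [hxxA]; exact hAns)
    rw [hxxA] at hWinv
    have hU : UData (hermB n σ hσq) T p :=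
      Cfsg.Agent.Lib.Helper40_UMatrix.uData_of_mem σ hσq hσ A hAiso p hp.pos hAp
    have hWnd' : UNDOn (hermB n σ hσq) W := by
      intro x hx hxy
      by_contra hx0
      obtain ⟨v, hv, hne⟩ := hWnd x hx hx0
      exact hne (hxy v hv)
    have hTW : ∀ x ∈ W, T x ∈ W := by
      intro w hw
      exact hWinv ⟨w, hw, rfl⟩
    have hTW' : ∀ x ∈ orth (hermB n σ hσq) W, T x ∈ orth (hermB n σ hσq) W := hU.inv_orth hTW
    have hcompl : IsCompl W (orth (hermB n σ hσq) W) := isCompl_orth hU hWnd'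
    have hNW : ∀ x ∈ W, (T - 1) x ∈ W := by
      intro x hx
      rw [LinearMap.sub_apply, Module.End.one_apply]
      exact W.sub_mem (hTW x hx) hx
    have hNW' : ∀ x ∈ orth (hermB n σ hσq) W, (T - 1) x ∈ orth (hermB n σ hσq) W := by
      intro x hx
      rw [LinearMap.sub_apply, Module.End.one_apply]
      exact Submodule.sub_mem _ (hTW' x hx) hx
    have hsplit := Cfsg.Agent.S5959.jtype_of_isCompl (T - 1) hnilT W _ hcompl hNW hNW'
    have hnilW : IsNilpotent ((T - 1).restrict hNW) := Module.End.isNilpotent.restrict hNW hnilT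
    refine ⟨jtype ((T - 1).restrict hNW), ?_, ?_⟩
    · rw [← hjtT, hsplit]
      exact Multiset.le_add_right _ _
    · rw [jtype_sum _ hnilW, hWd]

theorem eq_replicate_add_of_one_two (μ : Multiset ℕ) (hμ : ∀ a ∈ μ, 0 < a ∧ a ≤ 2) :
    μ = Multiset.replicate (μ.count 1) 1 + Multiset.replicate (μ.count 2) 2 := by
  ext c
  rw [Multiset.count_add, Multiset.count_replicate, Multiset.count_replicate]
  by_cases h1 : c = 1
  · subst h1; simp
  · by_cases h2 : c = 2
    · subst h2; simp
    · have hc : c ∉ μ := by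
        intro hc
        have := hμ c hc
        omega
      rw [Multiset.count_eq_zero_of_notMem hc, if_neg (Ne.symm h1), if_neg (Ne.symm h2)]

/-- COMB2: the {1,2}-partition combinatorics for UB. -/
theorem COMB2 (n m : ℕ) (hmn : 2 * m < n) :
    (∀ μ : Multiset ℕ, (∀ a ∈ μ, 0 < a ∧ a ≤ 2) → μ.sum = n → ∃ ν : Multiset ℕ, ν ≤ μ ∧ ν.sum = m) ↔
    (Odd n ∨ Even m) := by
  constructor
  · intro h
    by_contra hcon
    push Not at hcon
    obtain ⟨hn, hm⟩ := hcon
    rw [Nat.not_odd_iff_even] at hn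
    rw [Nat.not_even_iff_odd] at hm
    obtain ⟨k, hk⟩ := hn
    obtain ⟨ν, hν, hνs⟩ := h (Multiset.replicate k 2) (by
      intro a ha
      rw [Multiset.eq_of_mem_replicate ha]
      omega) (by rw [Multiset.sum_replicate, smul_eq_mul]; omega)
    rw [Multiset.le_replicate_iff] at hν
    obtain ⟨j, -, rfl⟩ := hν
    rw [Multiset.sum_replicate, smul_eq_mul] at hνs
    obtain ⟨l, hl⟩ := hm
    omega
  · intro h μ hμ hsum
    have hdec := eq_replicate_add_of_one_two μ hμ
    set a := μ.count 1 with ha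
    set b := μ.count 2 with hb
    have hn : n = a + 2 * b := by
      rw [← hsum, hdec, Multiset.sum_add, Multiset.sum_replicate, Multiset.sum_replicate,
        smul_eq_mul, smul_eq_mul]
      omega
    have key : ∃ a' b', a' ≤ a ∧ b' ≤ b ∧ a' + 2 * b' = m := by
      by_cases hb2 : m / 2 ≤ b
      · refine ⟨m % 2, m / 2, ?_, hb2, by omega⟩
        rcases h with h | h
        · have : a % 2 = 1 := by
            obtain ⟨l, hl⟩ := h
            omega
          omega
        · obtain ⟨l, hl⟩ := h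
          omega
      · exact ⟨m - 2 * b, b, by omega, le_refl _, by omega⟩
    obtain ⟨a', b', ha', hb', hab⟩ := key
    refine ⟨Multiset.replicate a' 1 + Multiset.replicate b' 2, ?_, ?_⟩
    · rw [hdec]
      exact add_le_add ((Multiset.replicate_le_replicate 1).2 ha') ((Multiset.replicate_le_replicate 2).2 hb')
    · rw [Multiset.sum_add, Multiset.sum_replicate, Multiset.sum_replicate, smul_eq_mul, smul_eq_mul]
      omega

end Cfsg.Agent.Lib.Helper52_SUND_UABmp
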