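import Mathlib
import Cfsg.Agent.Lib.Helper65_U3Defs
import Cfsg.Agent.Lib.Helper65_U3A_BAS3
import Cfsg.Agent.Lib.Helper27_U3A_BAS4
import Cfsg.Agent.Lib.Helper82_U3A_BAS6

set_option autoImplicit false
set_option linter.unusedSectionVars false
set_option linter.unusedVariables false

open Cfsg.Agent.Lib.Helper65_U3Defs

namespace Cfsg.Agent.Lib.Helper52_U3A_GEN

variable {p q : ℕ} {F G U : Type*} [Field F] [Group G] [MulAction G U]
variable (D : U3Data p q F G U)

/-- `fix_of_commute` with the needed BAS3 fact (`Q_fix`) as a hypothesis. -/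
theorem fix_of_commute_aux
    (hQfix : ∀ {z : G}, z ∈ D.Q → z ≠ 1 → ∀ {w : U}, z • w = w → w = D.u)
    {g z : G} (hz : z ∈ D.Qat g) (h1 : z ≠ 1) {s : G} (hs : s * z = z * s) :
    s • (g • D.u) = g • D.u := by
  have hz' : g⁻¹ * z * g ∈ D.Q := D.mem_Qat.mp hz
  have h1' : g⁻¹ * z * g ≠ 1 := by
    intro h
    apply h1
    have : z = g * (g⁻¹ * z * g) * g⁻¹ := by group
    rw [this, h]; group
  have hfix : (g⁻¹ * z * g) • D.u = D.u := D.mem_B.mp (D.Q_le_B hz')
  have h2 : (g⁻¹ * z * g) • ((g⁻¹ * s * g) • D.u) = (g⁻¹ * s * g) • D.u := by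
    rw [smul_smul]
    have : g⁻¹ * z * g * (g⁻¹ * s * g) = (g⁻¹ * s * g) * (g⁻¹ * z * g) := by
      calc g⁻¹ * z * g * (g⁻¹ * s * g) = g⁻¹ * (z * s) * g := by group
        _ = g⁻¹ * (s * z) * g := by rw [hs]
        _ = _ := by group
    rw [this, mul_smul, hfix]
  have h3 := hQfix hz' h1' h2
  calc s • (g • D.u) = g • ((g⁻¹ * s * g) • D.u) := by
        rw [smul_smul, smul_smul]; congr 1; group
    _ = g • D.u := by rw [h3]

/-- `orderOf_dvd_of_fix` with the needed facts (`trans_G`, `card_B`) as hypotheses. -/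
theorem orderOf_dvd_of_fix_aux
    (htrans : ∀ a b : U, ∃ g : G, g • a = b)
    (hcardB : Nat.card ↥D.B = q ^ 3 * Nat.card ↥D.T)
    {s : G} {w : U} (h : s • w = w) :
    orderOf s ∣ q ^ 3 * Nat.card ↥D.T := by
  obtain ⟨g, hg⟩ := htrans D.u w
  have h1 : g⁻¹ * s * g ∈ D.B := by
    rw [D.mem_B, mul_smul, mul_smul, hg, h, ← hg, inv_smul_smul]
  have h2 : orderOf (g⁻¹ * s * g) = orderOf s := by
    have hsc : SemiconjBy g⁻¹ s (g⁻¹ * s * g) := by
      unfold SemiconjBy; group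
    exact (hsc.orderOf_eq g⁻¹).symm
  rw [← hcardB, ← h2]
  exact Subgroup.orderOf_dvd_natCard _ h1

/-- `prime_dvd_of_stab_blk` with the needed facts (`card_B`, `card_Blk`) as hypotheses. -/
theorem prime_dvd_of_stab_blk_aux
    (hcardB : Nat.card ↥D.B = q ^ 3 * Nat.card ↥D.T)
    (hcardBlk : Nat.card ↥D.Blk = q + 1)
    {s g : G} {l : ℕ} (hl : l.Prime) (hs : orderOf s = l)
    (hlq : q + 1 < l) (hstab : ∀ v ∈ D.Blk, (g⁻¹ * s * g) • v ∈ D.Blk) :
    l ∣ q ^ 3 * Nat.card ↥D.T := by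
  obtain ⟨s', hs'⟩ : ∃ s' : G, s' = g⁻¹ * s * g := ⟨_, rfl⟩
  rw [← hs'] at hstab
  have hord : orderOf s' = l := by
    have hsc : SemiconjBy g⁻¹ s (g⁻¹ * s * g) := by
      unfold SemiconjBy; group
    rw [hs', ← hs]
    exact (hsc.orderOf_eq g⁻¹).symm
  have hpow : ∀ n : ℕ, ∀ v ∈ D.Blk, (s' ^ n) • v ∈ D.Blk := by
    intro n
    induction n with
    | zero => intro v hv; rwa [pow_zero, one_smul]
    | succ n ih =>
      intro v hv
      rw [pow_succ, mul_smul]
      exact ih _ (hstab v hv)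
  have huBlk : D.u ∈ D.Blk := D.mem_Blk.mpr (Or.inl rfl)
  have hsub : MulAction.orbit (Subgroup.zpowers s') D.u ⊆ D.Blk := by
    rintro _ ⟨⟨y, hy⟩, rfl⟩
    obtain ⟨k, rfl⟩ := Subgroup.mem_zpowers_iff.mp hy
    have hlpos : (0 : ℤ) < (orderOf s' : ℤ) := by
      rw [hord]; exact_mod_cast hl.pos
    have h1 : s' ^ k = s' ^ (k % (orderOf s' : ℤ)).toNat := by
      rw [← zpow_natCast, Int.toNat_of_nonneg (Int.emod_nonneg _ hlpos.ne'), zpow_mod_orderOf]
    show (s' ^ k) • D.u ∈ D.Blk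
    rw [h1]
    exact hpow _ _ huBlk
  have hfin : D.Blk.Finite := by
    have : Finite ↥D.Blk := Nat.finite_of_card_ne_zero (by rw [hcardBlk]; omega)
    exact Set.toFinite _
  have hle : (MulAction.orbit (Subgroup.zpowers s') D.u).ncard ≤ q + 1 := by
    rw [← hcardBlk, Nat.card_coe_set_eq]
    exact Set.ncard_le_ncard hsub hfin
  have hdvd : (MulAction.orbit (Subgroup.zpowers s') D.u).ncard ∣ l := by
    rw [← MulAction.index_stabilizer, ← hord, ← Nat.card_zpowers]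
    exact Subgroup.index_dvd_card _
  have hone : (MulAction.orbit (Subgroup.zpowers s') D.u).ncard = 1 := by
    rcases (Nat.dvd_prime hl).mp hdvd with h | h
    · exact h
    · omega
  obtain ⟨a, ha⟩ := Set.ncard_eq_one.mp hone
  have hu : D.u = a := by
    have : D.u ∈ MulAction.orbit (Subgroup.zpowers s') D.u := MulAction.mem_orbit_self _
    rw [ha] at this
    exact this
  have hsu : s' • D.u = a := by
    have : s' • D.u ∈ MulAction.orbit (Subgroup.zpowers s') D.u :=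
      ⟨⟨s', Subgroup.mem_zpowers s'⟩, rfl⟩
    rw [ha] at this
    exact this
  have hB : s' ∈ D.B := by
    rw [D.mem_B, hsu, hu]
  rw [← hcardB, ← hord]
  exact Subgroup.orderOf_dvd_natCard _ hB

/-- **GEN**.  An element commuting with a nonidentity element of `Q_{g u}` fixes `g u`. -/
theorem fix_of_commute {g z : G} (hz : z ∈ D.Qat g) (h1 : z ≠ 1) {s : G} (hs : s * z = z * s) :
    s • (g • D.u) = g • D.u :=
  fix_of_commute_aux D (fun hz h1 _ hw => Helper65_U3A_BAS3.Q_fix D hz h1 hw) hz h1 hs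

/-- **GEN**.  The order of an element with a fixed point divides `|B|`. -/
theorem orderOf_dvd_of_fix {s : G} {w : U} (h : s • w = w) :
    orderOf s ∣ q ^ 3 * Nat.card ↥D.T :=
  orderOf_dvd_of_fix_aux D (Helper65_U3A_BAS3.trans_G D) (Helper27_U3A_BAS4.card_B D) h

/-- **GEN**.  An element of prime order `l > q + 1` stabilising a block fixes its points, so `l ∣ |B|`. -/
theorem prime_dvd_of_stab_blk {s g : G} {l : ℕ} (hl : l.Prime) (hs : orderOf s = l)
    (hlq : q + 1 < l) (hstab : ∀ v ∈ D.Blk, (g⁻¹ * s * g) • v ∈ D.Blk) :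
    l ∣ q ^ 3 * Nat.card ↥D.T :=
  prime_dvd_of_stab_blk_aux D (Helper27_U3A_BAS4.card_B D)
    (Helper82_U3A_BAS6.card_Blk_aux D (Helper27_U3A_BAS4.card_Z D)) hl hs hlq hstab

end Cfsg.Agent.Lib.Helper52_U3A_GEN
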