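import Mathlib
import Cfsg.Agent.Lib.Helper65_U3Defs
import Cfsg.Agent.Lib.Helper65_U3A_BAS1
import Cfsg.Agent.Lib.Helper65_U3A_BAS2

set_option autoImplicit false
set_option linter.unusedSectionVars false
set_option linter.unusedVariables false

open Cfsg.Agent.Lib.Helper65_U3Defs

namespace Cfsg.Agent.Lib.Helper52_U3A_S2F

variable {p q : ℕ} {F G U : Type*} [Field F] [Group G] [MulAction G U]
variable {D : U3Data p q F G U}

/-- a `p`-element of `G` has a fixed point on `U` (`|U| = q^3 + 1 ≡ 1 mod p`). -/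
theorem exists_fixed_of_pow (D : U3Data p q F G U) {g : G} {n : ℕ} (hgp : g ^ (p ^ n) = 1) :
    ∃ w : U, g • w = w := by
  have hpF : Fact p.Prime := ⟨D.hp⟩
  have := D.finiteU
  have hP : IsPGroup p (Subgroup.zpowers g) := by
    have h1 : orderOf g ∣ p ^ n := orderOf_dvd_of_pow_eq_one hgp
    obtain ⟨j, -, hj⟩ := (Nat.dvd_prime_pow D.hp).mp h1
    exact IsPGroup.of_card (n := j) (by rw [Nat.card_zpowers, hj])
  have h2 := hP.card_modEq_card_fixedPoints U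
  by_contra hcon
  push Not at hcon
  have hemp : IsEmpty (MulAction.fixedPoints (Subgroup.zpowers g) U) := by
    constructor
    rintro ⟨w, hw⟩
    exact hcon w (hw ⟨g, Subgroup.mem_zpowers g⟩)
  rw [@Nat.card_of_isEmpty _ hemp, D.cardU, Nat.modEq_zero_iff_dvd] at h2
  have h3 : p ∣ q ^ 3 := by
    rw [D.hq, ← pow_mul]
    exact dvd_pow_self p (Nat.mul_ne_zero D.hk.ne' (by norm_num))
  have h4 : p ∣ 1 := (Nat.dvd_add_right h3).mp h2
  exact D.hp.one_lt.ne' (Nat.dvd_one.mp h4)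

/-- `good_conj_into_Q` with the needed BAS facts as hypotheses. -/
theorem good_conj_into_Q_aux
    (hmemB : ∀ {g : G}, g ∈ D.B → ∃ z ∈ D.Q, ∃ s ∈ D.T, g = z * s)
    (hconjQ : ∀ {g : G}, g ∈ D.B → ∀ {z : G}, z ∈ D.Q → g * z * g⁻¹ ∈ D.Q)
    (hQT : D.Q ⊓ D.T = ⊥)
    {H : Subgroup G} (hG : Good D H) {g : G} (hg : g ∈ H) {n : ℕ} (hgp : g ^ (p ^ n) = 1) :
    ∃ h ∈ H, h * g * h⁻¹ ∈ H ⊓ D.Q := by
  obtain ⟨w, hw⟩ := exists_fixed_of_pow D hgp
  obtain ⟨h, hh, hhw⟩ := hG.trans w D.u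
  refine ⟨h, hh, ?_⟩
  have hH : h * g * h⁻¹ ∈ H := H.mul_mem (H.mul_mem hh hg) (H.inv_mem hh)
  have hB : h * g * h⁻¹ ∈ D.B := by
    rw [D.mem_B, mul_smul, mul_smul, ← hhw, inv_smul_smul, hw]
  obtain ⟨z, hz, s, hs, hzs⟩ := hmemB hB
  have hpow : (z * s) ^ (p ^ n) = 1 := by
    rw [← hzs, conj_pow, hgp, mul_one, mul_inv_cancel]
  -- `(z s)^m ∈ Q s^m`
  have hind : ∀ m : ℕ, ∃ zm ∈ D.Q, (z * s) ^ m = zm * s ^ m := by
    intro m
    induction m with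
    | zero => exact ⟨1, D.Q.one_mem, by simp⟩
    | succ m ih =>
      obtain ⟨zm, hzm, he⟩ := ih
      have hsm : s ^ m ∈ D.B := D.T_le_B (D.T.pow_mem hs m)
      refine ⟨zm * (s ^ m * z * (s ^ m)⁻¹), D.Q.mul_mem hzm (hconjQ hsm hz), ?_⟩
      rw [pow_succ, he, pow_succ]
      group
  obtain ⟨zm, hzm, he⟩ := hind (p ^ n)
  rw [hpow] at he
  have hsQ : s ^ (p ^ n) ∈ D.Q := by
    have : s ^ (p ^ n) = zm⁻¹ := eq_inv_of_mul_eq_one_right he.symm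
    rw [this]
    exact D.Q.inv_mem hzm
  have hs1 : s ^ (p ^ n) = 1 := by
    have : s ^ (p ^ n) ∈ D.Q ⊓ D.T := ⟨hsQ, D.T.pow_mem hs _⟩
    rw [hQT, Subgroup.mem_bot] at this
    exact this
  have ho1 : orderOf s ∣ p ^ n := orderOf_dvd_of_pow_eq_one hs1
  have ho2 : orderOf s ∣ q ^ 2 - 1 := by
    obtain ⟨l, rfl⟩ := D.mem_T.mp hs
    have := D.finiteF
    have h1 : orderOf (D.t l) ∣ orderOf l := orderOf_map_dvd D.t l
    have h2 : orderOf l ∣ Nat.card Fˣ := orderOf_dvd_natCard l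
    rw [Nat.card_units, D.cardF] at h2
    exact h1.trans h2
  have hcop : Nat.Coprime (p ^ n) (q ^ 2 - 1) := by
    apply Nat.Coprime.pow_left
    rw [Nat.Prime.coprime_iff_not_dvd D.hp]
    intro hd
    have h3 : p ∣ q ^ 2 := by
      rw [D.hq, ← pow_mul]
      exact dvd_pow_self p (Nat.mul_ne_zero D.hk.ne' (by norm_num))
    have hq2 : 1 ≤ q ^ 2 := Nat.one_le_pow _ _ D.q_pos
    have h4 : p ∣ q ^ 2 - (q ^ 2 - 1) := Nat.dvd_sub h3 hd
    have h5 : q ^ 2 - (q ^ 2 - 1) = 1 := by omega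
    rw [h5] at h4
    exact D.hp.one_lt.ne' (Nat.dvd_one.mp h4)
  have ho : orderOf s = 1 := Nat.eq_one_of_dvd_coprimes hcop ho1 ho2
  have hs_one : s = 1 := orderOf_eq_one_iff.mp ho
  rw [hs_one, mul_one] at hzs
  exact ⟨hH, by rw [hzs]; exact hz⟩

/-- **S2F**.  Every `p`-element of `H` is `H`-conjugate into `H ∩ Q`. -/
theorem good_conj_into_Q {H : Subgroup G} (hG : Good D H) {g : G} (hg : g ∈ H) {n : ℕ}
    (hgp : g ^ (p ^ n) = 1) :
    ∃ h ∈ H, h * g * h⁻¹ ∈ H ⊓ D.Q :=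
  good_conj_into_Q_aux (fun hg => (Helper65_U3A_BAS2.mem_B_iff D).mp hg)
    (fun hg _ hz => Helper65_U3A_BAS2.conj_Q_of_mem_B D hg hz)
    (Helper65_U3A_BAS1.Q_inf_T D) hG hg hgp

end Cfsg.Agent.Lib.Helper52_U3A_S2F
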