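import Mathlib

set_option autoImplicit false
set_option linter.unusedSectionVars false
set_option linter.unusedVariables false

namespace Cfsg.Agent.Lib.Helper52_UT2_BRARITH

variable {F : Type*} [Field F] [Fintype F] {q : ℕ}

/-- BR-ARITH : for `q ≥ 3` the fixed field of `x ↦ x ^ q` has an element other than `0`, `1` -/
theorem exists_fixed_ne (hF : Fintype.card F = q ^ 2) (hq : 3 ≤ q) (σ : F →+* F)
    (hσq : ∀ x, σ x = x ^ q) : ∃ a : F, σ a = a ∧ a ≠ 0 ∧ a ≠ 1 := by
  classical
  obtain ⟨g, hg⟩ := IsCyclic.exists_generator (α := Fˣ)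
  have hord : orderOf g = q ^ 2 - 1 := by
    rw [orderOf_eq_card_of_forall_mem_zpowers hg, Nat.card_eq_fintype_card, Fintype.card_units, hF]
  have hq2 : q + 1 ≤ q ^ 2 - 1 + 1 := by
    have : q * 3 ≤ q * q := Nat.mul_le_mul_left q hq
    have h2 : q ^ 2 = q * q := sq q
    omega
  have hpow : (g ^ (q + 1)) ^ q = g ^ (q + 1) := by
    have e : (q + 1) * q = (q ^ 2 - 1) + (q + 1) := by
      have h2 : q ^ 2 = q * q := sq q
      have : 1 ≤ q * q := by nlinarith
      rw [h2]
      have : (q + 1) * q = q * q + q := by ring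
      omega
    rw [← pow_mul, e, pow_add, ← hord, pow_orderOf_eq_one, one_mul]
  refine ⟨((g ^ (q + 1) : Fˣ) : F), ?_, Units.ne_zero _, ?_⟩
  · rw [hσq, ← Units.val_pow_eq_pow_val, hpow]
  · intro h1
    have h2 : g ^ (q + 1) = 1 := Units.ext (by rw [h1, Units.val_one])
    have h3 := orderOf_dvd_of_pow_eq_one h2
    rw [hord] at h3
    have h4 := Nat.le_of_dvd (by omega) h3
    have : q * 3 ≤ q * q := Nat.mul_le_mul_left q hq
    have h5 : q ^ 2 = q * q := sq q
    omega

end Cfsg.Agent.Lib.Helper52_UT2_BRARITH
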