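import Mathlib
import Cfsg.Agent.Lib.Helper54_UXmDefs
import Cfsg.Agent.Lib.Helper54_UXm_Basic
import Cfsg.Agent.Lib.Helper12_UX_HSING

set_option autoImplicit false
set_option linter.unusedSectionVars false
set_option linter.unusedVariables false

open Module
open Cfsg.Agent.Lib.Helper94_Symp Cfsg.Agent.Lib.Helper94_Herm Cfsg.Agent.Lib.Helper13_PSUSimple
  Cfsg.Agent.Lib.Helper94_HermEich Cfsg.Agent.Lib.Helper98_ExtDefs Cfsg.Agent.Lib.Helper97_UExtDefs
  Cfsg.Agent.Lib.Helper29_SpExtDefs Cfsg.Agent.Lib.Helper94_FrmDefs Cfsg.Agent.Lib.Helper94_UDDefs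
  Cfsg.Agent.Lib.Helper54_UXmDefs

namespace Cfsg.Agent.Lib.Helper52_UXm_QCW

section core

/-- a polynomial fixed by `σ` coefficientwise comes from the fixed field, with the same degree -/
theorem descend {F : Type*} [Field F] (σ : F →+* F) {ι : Type*}
    (q : MvPolynomial ι F) (hfix : MvPolynomial.map σ q = q) :
    ∃ p0 : MvPolynomial ι (σ.eqLocusField (RingHom.id F)),
      MvPolynomial.map (σ.eqLocusField (RingHom.id F)).subtype p0 = q ∧
      p0.totalDegree = q.totalDegree := by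
  obtain ⟨p0, hp0⟩ : ∃ p0 : MvPolynomial ι (σ.eqLocusField (RingHom.id F)),
      MvPolynomial.map (σ.eqLocusField (RingHom.id F)).subtype p0 = q := by
    have hmem : q ∈ Set.range
        (MvPolynomial.map (σ := ι) (σ.eqLocusField (RingHom.id F)).subtype) := by
      rw [MvPolynomial.mem_range_map_iff_coeffs_subset]
      intro a ha
      rw [Finset.mem_coe, MvPolynomial.mem_coeffs_iff] at ha
      obtain ⟨d, -, rfl⟩ := ha
      refine ⟨⟨MvPolynomial.coeff d q, ?_⟩, rfl⟩
      rw [RingHom.mem_eqLocusField, RingHom.id_apply, ← MvPolynomial.coeff_map, hfix]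
    exact hmem
  refine ⟨p0, hp0, ?_⟩
  have hsupp : p0.support = q.support := by
    rw [← hp0, MvPolynomial.support_map_of_injective _ Subtype.val_injective]
  unfold MvPolynomial.totalDegree
  rw [hsupp]

/-- expansion of a sesquilinear form on two linear combinations -/
theorem form_sum {F : Type*} [Field F] {σ : F →+* F} {P : Type*} [AddCommGroup P] [Module F P]
    (s : P →ₗ[F] P →ₛₗ[σ] F) {N : ℕ} (a c : Fin N → F) (u : Fin N → P) :
    s (∑ j, a j • u j) (∑ l, c l • u l) = ∑ j, ∑ l, a j * σ (c l) * s (u j) (u l) := by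
  have h1 : s (∑ j, a j • u j) = ∑ j, s (a j • u j) := map_sum s _ _
  rw [h1, LinearMap.sum_apply]
  refine Finset.sum_congr rfl fun j _ => ?_
  rw [map_sum]
  refine Finset.sum_congr rfl fun l _ => ?_
  rw [LinearMap.map_smulₛₗ (s (a j • u j)) (c l) (u l), LinearMap.map_smul s (a j) (u j),
    LinearMap.smul_apply, smul_eq_mul, smul_eq_mul]
  ring

end core

variable {F K V : Type*} [Field F] [Field K] [Algebra F K] [AddCommGroup V] [Module F V]
  [Module K V] [IsScalarTower F K V] [Finite F] [Finite K] [Module.Finite K V]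
  {σ : F →+* F} {τ : K →+* K}

/-- **QCW** (L). -/
theorem qcw (hσ : Invol σ) {P : Type*} [AddCommGroup P] [Module F P] [FiniteDimensional F P]
    (A : AddSubgroup (P →ₗ[F] P →ₛₗ[σ] F))
    (hh : ∀ s ∈ A, ∀ x y, s y x = σ (s x y))
    (hsm : ∀ s ∈ A, ∀ c : F, σ c = c → c • s ∈ A)
    (hcard : Nat.card A ^ 2 < Nat.card F ^ finrank F P) :
    ∃ x : P, x ≠ 0 ∧ ∀ s ∈ A, s x x = 0 := by
  classical
  have hFin : Fintype F := Fintype.ofFinite F
  have hFin0 : Fintype (σ.eqLocusField (RingHom.id F)) := Fintype.ofFinite _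
  have hPfin : Finite P := Module.finite_of_finite F
  have hformsfin : Finite (P →ₗ[F] P →ₛₗ[σ] F) :=
    Finite.of_injective (fun s : P →ₗ[F] P →ₛₗ[σ] F => fun x y => s x y)
      (fun s t h => LinearMap.ext₂ (fun x y => congrFun (congrFun h x) y))
  let instMod : Module (σ.eqLocusField (RingHom.id F)) A :=
    Cfsg.Agent.Lib.Helper12_UX_HSING.modA A hsm
  have hsmul : ∀ (c : σ.eqLocusField (RingHom.id F)) (s : A),
      ((c • s : A) : P →ₗ[F] P →ₛₗ[σ] F) = (c : F) • (s : P →ₗ[F] P →ₛₗ[σ] F) := fun c s => rfl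
  have hcardA : Nat.card A =
      Nat.card (σ.eqLocusField (RingHom.id F)) ^ finrank (σ.eqLocusField (RingHom.id F)) A :=
    Module.natCard_eq_pow_finrank (K := σ.eqLocusField (RingHom.id F)) (V := A)
  have hcardP : Nat.card P =
      Nat.card (σ.eqLocusField (RingHom.id F)) ^ finrank (σ.eqLocusField (RingHom.id F)) P :=
    Module.natCard_eq_pow_finrank (K := σ.eqLocusField (RingHom.id F)) (V := P)
  have hcardP' : Nat.card P = Nat.card F ^ finrank F P :=
    Module.natCard_eq_pow_finrank (K := F) (V := P)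
  obtain ⟨k, hk⟩ : ∃ k : ℕ, k = finrank (σ.eqLocusField (RingHom.id F)) A := ⟨_, rfl⟩
  obtain ⟨N, hN⟩ : ∃ N : ℕ, N = finrank (σ.eqLocusField (RingHom.id F)) P := ⟨_, rfl⟩
  have bA : Basis (Fin k) (σ.eqLocusField (RingHom.id F)) A := by
    rw [hk]
    exact Module.finBasis _ _
  have bP : Basis (Fin N) (σ.eqLocusField (RingHom.id F)) P := by
    rw [hN]
    exact Module.finBasis _ _
  have hkN : k * 2 < N := by
    have h2 : 1 < Nat.card (σ.eqLocusField (RingHom.id F)) := Finite.one_lt_card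
    rw [← hcardP', hcardP, hcardA, ← hk, ← hN, ← pow_mul] at hcard
    exact (Nat.pow_lt_pow_iff_right h2).mp hcard
  -- the quadratic polynomials
  obtain ⟨q, hq⟩ : ∃ q : Fin k → MvPolynomial (Fin N) F, q = fun i =>
      ∑ j, ∑ l, MvPolynomial.C (((bA i : A) : P →ₗ[F] P →ₛₗ[σ] F) (bP j) (bP l)) *
        (MvPolynomial.X j * MvPolynomial.X l) := ⟨_, rfl⟩
  have hqdeg : ∀ i, (q i).totalDegree ≤ 2 := by
    intro i
    rw [hq]
    refine (MvPolynomial.totalDegree_finsetSum _ _).trans ?_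
    apply Finset.sup_le
    intro j _
    refine (MvPolynomial.totalDegree_finsetSum _ _).trans ?_
    apply Finset.sup_le
    intro l _
    refine (MvPolynomial.totalDegree_mul _ _).trans ?_
    rw [MvPolynomial.totalDegree_C, zero_add]
    refine (MvPolynomial.totalDegree_mul _ _).trans ?_
    rw [MvPolynomial.totalDegree_X, MvPolynomial.totalDegree_X]
  have hqfix : ∀ i, MvPolynomial.map σ (q i) = q i := by
    intro i
    rw [hq]
    simp only [map_sum, map_mul, MvPolynomial.map_C, MvPolynomial.map_X]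
    rw [Finset.sum_comm]
    refine Finset.sum_congr rfl fun j _ => Finset.sum_congr rfl fun l _ => ?_
    rw [← hh _ (bA i).2 (bP l) (bP j), mul_comm (MvPolynomial.X l) (MvPolynomial.X j)]
  have hqeval : ∀ (i : Fin k) (x : Fin N → σ.eqLocusField (RingHom.id F)),
      MvPolynomial.eval (fun j => (x j : F)) (q i) =
        ((bA i : A) : P →ₗ[F] P →ₛₗ[σ] F) (bP.equivFun.symm x) (bP.equivFun.symm x) := by
    intro i x
    rw [hq, Basis.equivFun_symm_apply]
    simp only [Subfield.smul_def]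
    rw [form_sum]
    simp only [map_sum, map_mul, MvPolynomial.eval_C, MvPolynomial.eval_X]
    refine Finset.sum_congr rfl fun j _ => Finset.sum_congr rfl fun l _ => ?_
    have hxl : σ (x l : F) = (x l : F) := (x l).2
    rw [hxl]
    ring
  choose p0 hp0 hp0deg using fun i => descend σ (q i) (hqfix i)
  have hev0 : ∀ (i : Fin k) (x : Fin N → σ.eqLocusField (RingHom.id F)),
      ((MvPolynomial.eval x (p0 i) : σ.eqLocusField (RingHom.id F)) : F) =
        MvPolynomial.eval (fun j => (x j : F)) (q i) := by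
    intro i x
    rw [← hp0 i, MvPolynomial.eval_map]
    exact MvPolynomial.eval₂_comp (σ.eqLocusField (RingHom.id F)).subtype x (p0 i)
  have hsumdeg : (∑ i ∈ (Finset.univ : Finset (Fin k)), (p0 i).totalDegree) <
      Fintype.card (Fin N) := by
    rw [Fintype.card_fin]
    calc (∑ i ∈ (Finset.univ : Finset (Fin k)), (p0 i).totalDegree)
        ≤ ∑ i ∈ (Finset.univ : Finset (Fin k)), 2 :=
          Finset.sum_le_sum fun i _ => by rw [hp0deg i]; exact hqdeg i
      _ = k * 2 := by simp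
      _ < N := hkN
  have hp := char_dvd_card_solutions_of_sum_lt (ringChar F) (s := Finset.univ) (f := p0) hsumdeg
  have hprime : (ringChar F).Prime :=
    CharP.char_is_prime (σ.eqLocusField (RingHom.id F)) (ringChar F)
  have h0 : ∀ i ∈ (Finset.univ : Finset (Fin k)),
      MvPolynomial.eval (0 : Fin N → σ.eqLocusField (RingHom.id F)) (p0 i) = 0 := by
    intro i _
    apply Subtype.val_injective
    rw [hev0, hqeval, map_zero, map_zero]
    rfl
  -- a nonzero common zero
  obtain ⟨x, hx0, hx⟩ : ∃ x : Fin N → σ.eqLocusField (RingHom.id F), x ≠ 0 ∧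
      ∀ i ∈ (Finset.univ : Finset (Fin k)), MvPolynomial.eval x (p0 i) = 0 := by
    by_contra hcon
    push Not at hcon
    have hcard1 : Nat.card { x : Fin N → σ.eqLocusField (RingHom.id F) //
        ∀ i ∈ (Finset.univ : Finset (Fin k)), MvPolynomial.eval x (p0 i) = 0 } = 1 := by
      rw [Nat.card_eq_one_iff_unique]
      refine ⟨⟨fun ⟨x, hx⟩ ⟨y, hy⟩ => ?_⟩, ⟨⟨0, h0⟩⟩⟩
      have hx0 : x = 0 := by
        by_contra hne'
        obtain ⟨i, hi, hne⟩ := hcon x hne'
        exact hne (hx i hi)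
      have hy0 : y = 0 := by
        by_contra hne'
        obtain ⟨i, hi, hne⟩ := hcon y hne'
        exact hne (hy i hi)
      exact Subtype.ext (hx0.trans hy0.symm)
    rw [Fintype.card_eq_nat_card, hcard1] at hp
    exact hprime.one_lt.ne' (Nat.dvd_one.mp hp)
  obtain ⟨xP, hxP⟩ : ∃ xP : P, xP = bP.equivFun.symm x := ⟨_, rfl⟩
  have hxP0 : xP ≠ 0 := by
    rw [hxP]
    intro h
    apply hx0
    exact bP.equivFun.symm.injective (h.trans (map_zero _).symm)
  have hbasis : ∀ i, ((bA i : A) : P →ₗ[F] P →ₛₗ[σ] F) xP xP = 0 := by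
    intro i
    rw [hxP, ← hqeval, ← hev0, hx i (Finset.mem_univ i)]
    rfl
  refine ⟨xP, hxP0, ?_⟩
  intro s hs
  have hrepr : (⟨s, hs⟩ : A) = ∑ i, bA.repr ⟨s, hs⟩ i • bA i := (bA.sum_repr ⟨s, hs⟩).symm
  have hs' : s = ∑ i, ((bA.repr ⟨s, hs⟩ i : σ.eqLocusField (RingHom.id F)) : F) •
      ((bA i : A) : P →ₗ[F] P →ₛₗ[σ] F) := by
    have := congrArg (fun a : A => (a : P →ₗ[F] P →ₛₗ[σ] F)) hrepr
    simp only [AddSubmonoidClass.coe_finsetSum, hsmul] at this
    exact this
  rw [hs', LinearMap.sum_apply, LinearMap.sum_apply]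
  refine Finset.sum_eq_zero fun i _ => ?_
  rw [LinearMap.smul_apply, LinearMap.smul_apply, hbasis i, smul_zero]

end Cfsg.Agent.Lib.Helper52_UXm_QCW
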