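import Mathlib
import Cfsg.Prelude.Def_Characters
import Cfsg.Prelude.Def_Blocks
import Cfsg.Agent.Lib.Helper62_A7Defs
import Cfsg.Agent.Lib.Helper80_CharBasic
import Cfsg.Agent.Lib.Helper17_Sylow
import Cfsg.Agent.Lib.Helper77_BlockBasics
import Cfsg.Agent.Lib.Helper16_SO_Brauer

/-!
# S0984, package NO8 (helper53 for helper62): no irreducible character of degree 8
-/

set_option autoImplicit false
open Cfsg Cfsg.Agent.Lib.Helper80_CharBasic Cfsg.Agent.Lib.Helper62_A7Defs

namespace Cfsg.Agent.Lib.Helper53_A7_NO8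

theorem no_deg8 {G : Type*} [Group G] [Finite G] [IsSimpleGroup G] [Fact (Nat.Prime 5)]
    (hG : Nat.card G = 2520) (P : Sylow 5 G) (hP : Nat.card P = 5)
    (hN : Nat.card (Subgroup.normalizer ((P : Subgroup G) : Set G)) = 20)
    (hC : Subgroup.centralizer ((P : Subgroup G) : Set G) = (P : Subgroup G))
    (χ : Cfsg.IrrCharacter G) : Cfsg.charDegree (χ : G → ℂ) ≠ 8 := by
  intro h8
  -- `e = 4`
  have hle : Subgroup.centralizer ((P : Subgroup G) : Set G) ≤
      Subgroup.normalizer ((P : Subgroup G) : Set G) := Subgroup.centralizer_le_normalizer _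
  have he : (Subgroup.centralizer ((P : Subgroup G) : Set G)).relIndex
      (Subgroup.normalizer ((P : Subgroup G) : Set G)) = 4 := by
    have h1 := Cfsg.Agent.Lib.Helper17_Sylow.card_mul_relIndex_of_le hle
    rw [hN, hC, hP] at h1
    rw [hC]
    omega
  obtain ⟨X, εX, θ, ε, -, -, -, hX, hε, hθ, -, -, -, hlast⟩ :=
    Cfsg.Agent.Lib.Helper16_SO_Brauer.brauer_data (p := 5) (by norm_num) P hP 4 he (by norm_num)
  have hnd : ¬ 5 ∣ Cfsg.charDegree (χ : G → ℂ) := by rw [h8]; norm_num
  rcases hlast hC χ hnd with hχ | hχ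
  · obtain ⟨hs, hcong, -⟩ := hX χ hχ
    rw [h8] at hcong
    have hd := hcong.dvd
    rcases hs with h | h <;> rw [h] at hd <;> norm_num at hd
  · rw [← hχ, h8] at hθ
    have hd := hθ.dvd
    rcases hε with h | h <;> rw [h] at hd <;> norm_num at hd

end Cfsg.Agent.Lib.Helper53_A7_NO8
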