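import Mathlib
import Cfsg.Agent.Lib.Helper80_CharComplete
import Cfsg.Agent.Lib.Helper77_BlockBasics
import Cfsg.Agent.Lib.Helper79_Linear

/-!
helper53: automorphism orbits, part 1 (character-theoretic class-number bound).

If `p` is the least prime divisor of `|G|` and `|G'| ∉ {1, p}` then `k(G) * p ≤ |G|`.
Also: the number of `Aut(G)`-orbits on `G` is at most `k(G)`.
-/

set_option autoImplicit false

namespace Cfsg.Agent.Lib.Helper53_AutOrb

open Cfsg

/-- the number of `Aut(G)`-orbits is at most the class number -/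
theorem card_orbits_le_card_conjClasses {G : Type*} [Group G] [Finite G] :
    Nat.card (MulAction.orbitRel.Quotient (MulAut G) G) ≤ Nat.card (ConjClasses G) := by
  classical
  let F : ConjClasses G → MulAction.orbitRel.Quotient (MulAut G) G :=
    Quotient.lift (fun x : G => (Quotient.mk'' x : MulAction.orbitRel.Quotient (MulAut G) G)) (by
      intro a b hab
      obtain ⟨c, hc⟩ := isConj_iff.1 hab
      apply Quotient.sound'
      show a ∈ MulAction.orbit (MulAut G) b
      refine ⟨MulAut.conj c⁻¹, ?_⟩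
      show MulAut.conj c⁻¹ b = a
      rw [← hc]
      simp [MulAut.conj_apply, mul_assoc])
  have hF : Function.Surjective F := by
    intro ω
    induction ω using Quotient.inductionOn' with
    | h x => exact ⟨ConjClasses.mk x, rfl⟩
  exact Nat.card_le_card_of_surjective F hF

theorem arith_aux (k L n d p : ℕ) (hp : 0 < p) (hLd : L * d = n) (hd : p + 1 ≤ d)
    (hLk : L ≤ k) (hsum : L + (k - L) * p ^ 2 ≤ n) : k * p ≤ n := by
  obtain ⟨m, rfl⟩ := Nat.exists_eq_add_of_le hLk
  rw [Nat.add_sub_cancel_left] at hsum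
  have h1 : L * (p + 1) ≤ n := by
    rw [← hLd]
    exact Nat.mul_le_mul_left L hd
  have hp1 : 1 ≤ p := hp
  -- (L+m) p^2 ≤ n p
  have h2 : (L + m) * p * p ≤ n * p := by
    have h3 : L * (p + 1) * (p - 1) ≤ n * (p - 1) := Nat.mul_le_mul_right _ h1
    obtain ⟨q, rfl⟩ := Nat.exists_eq_add_of_le hp1
    simp only [Nat.add_sub_cancel_left] at h3
    nlinarith
  exact Nat.le_of_mul_le_mul_right h2 hp

/-- the character-theoretic bound -/
theorem card_conjClasses_mul_le {G : Type*} [Group G] [Finite G]
    (hd1 : Nat.card (commutator G) ≠ 1)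
    (hdp : Nat.card (commutator G) ≠ (Nat.card G).minFac) :
    Nat.card (ConjClasses G) * (Nat.card G).minFac ≤ Nat.card G := by
  classical
  haveI := Fintype.ofFinite G
  haveI := Fintype.ofFinite (Cfsg.IrrCharacter G)
  set p := (Nat.card G).minFac with hpdef
  have hG1 : Nat.card G ≠ 1 := by
    intro h
    apply hd1
    have h2 : Nat.card (commutator G) ∣ 1 := h ▸ Subgroup.card_subgroup_dvd_card _
    exact Nat.dvd_one.1 h2
  have hpp : p.Prime := Nat.minFac_prime hG1
  choose d hd0 hd1' hd2 hd3 using (Cfsg.Agent.Lib.Helper77_BlockBasics.exists_degree (G := G))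
  have hk : Fintype.card (Cfsg.IrrCharacter G) = Nat.card (ConjClasses G) := by
    rw [← Nat.card_eq_fintype_card]
    exact Cfsg.Agent.Lib.Helper80_CharComplete.card_irr_eq_card_conjClasses
  have hsum : ∑ χ : Cfsg.IrrCharacter G, (d χ) ^ 2 = Nat.card G := by
    have h := Cfsg.Agent.Lib.Helper80_CharComplete.sum_sq_degrees (G := G)
    rw [finsum_eq_sum_of_fintype] at h
    have h2 : ((∑ χ : Cfsg.IrrCharacter G, (d χ) ^ 2 : ℕ) : ℂ) = (Nat.card G : ℂ) := by
      rw [← h]
      push_cast
      exact Finset.sum_congr rfl fun χ _ => by rw [hd1' χ]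
    exact_mod_cast h2
  -- linear characters
  have hL : (Finset.univ.filter fun χ : Cfsg.IrrCharacter G => d χ = 1).card =
      (commutator G).index := by
    rw [← Cfsg.Agent.Lib.Helper79_Linear.card_linear, Nat.card_eq_fintype_card,
      Fintype.card_subtype]
    congr 1
    ext χ
    simp only [Finset.mem_filter, Finset.mem_univ, true_and]
    rw [hd1' χ]
    constructor
    · intro h; rw [h]; simp
    · intro h; exact_mod_cast h
  -- nonlinear degrees are at least p
  have hge : ∀ χ : Cfsg.IrrCharacter G, d χ ≠ 1 → p ≤ d χ := by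
    intro χ hχ
    exact Nat.minFac_le_of_dvd (by have := hd0 χ; omega) (hd3 χ)
  set L := (Finset.univ.filter fun χ : Cfsg.IrrCharacter G => d χ = 1).card with hLdef
  have hsplit : ∑ χ : Cfsg.IrrCharacter G, (d χ) ^ 2 =
      ∑ χ ∈ Finset.univ.filter (fun χ : Cfsg.IrrCharacter G => d χ = 1), (d χ) ^ 2 +
      ∑ χ ∈ Finset.univ.filter (fun χ : Cfsg.IrrCharacter G => ¬ d χ = 1), (d χ) ^ 2 :=
    (Finset.sum_filter_add_sum_filter_not _ _ _).symm
  have hs1 : ∑ χ ∈ Finset.univ.filter (fun χ : Cfsg.IrrCharacter G => d χ = 1), (d χ) ^ 2 = L := by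
    rw [hLdef, Finset.card_eq_sum_ones]
    apply Finset.sum_congr rfl
    intro χ hχ
    rw [(Finset.mem_filter.1 hχ).2]
    norm_num
  have hs2 : (Finset.univ.filter (fun χ : Cfsg.IrrCharacter G => ¬ d χ = 1)).card * p ^ 2 ≤
      ∑ χ ∈ Finset.univ.filter (fun χ : Cfsg.IrrCharacter G => ¬ d χ = 1), (d χ) ^ 2 := by
    rw [Finset.card_eq_sum_ones, Finset.sum_mul]
    apply Finset.sum_le_sum
    intro χ hχ
    rw [one_mul]
    exact Nat.pow_le_pow_left (hge χ (Finset.mem_filter.1 hχ).2) 2
  have hcardsplit : L + (Finset.univ.filter (fun χ : Cfsg.IrrCharacter G => ¬ d χ = 1)).card =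
      Fintype.card (Cfsg.IrrCharacter G) := by
    rw [hLdef, Finset.card_filter_add_card_filter_not, Finset.card_univ]
  -- the derived subgroup
  have hdd : (commutator G).index * Nat.card (commutator G) = Nat.card G :=
    Subgroup.index_mul_card _
  have hdge : p + 1 ≤ Nat.card (commutator G) := by
    have h1 : p ≤ Nat.card (commutator G) :=
      Nat.minFac_le_of_dvd (by have : 0 < Nat.card (commutator G) := Nat.card_pos; omega)
        (Subgroup.card_subgroup_dvd_card _)
    have h2 : Nat.card (commutator G) ≠ p := hdp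
    omega
  rw [← hk]
  apply arith_aux (Fintype.card (Cfsg.IrrCharacter G)) L (Nat.card G)
    (Nat.card (commutator G)) p hpp.pos
  · rw [← hL] at hdd; exact hdd
  · exact hdge
  · omega
  · have : Fintype.card (Cfsg.IrrCharacter G) - L =
        (Finset.univ.filter (fun χ : Cfsg.IrrCharacter G => ¬ d χ = 1)).card := by omega
    rw [this, ← hsum, hsplit, hs1]
    exact Nat.add_le_add_left hs2 L

end Cfsg.Agent.Lib.Helper53_AutOrb
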