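import Mathlib

/-!
helper53: automorphism orbits, part 2: weighted orbit counting, transvection-type automorphisms
from cocycles, and the class-two situation `|G'| = p` (least prime divisor of `|G|`).
-/

set_option autoImplicit false
set_option linter.unusedSectionVars false
set_option linter.style.haveILetI false

namespace Cfsg.Agent.Lib.Helper53_AutOrb

open scoped commutatorElement

section Count

variable {A X : Type*} [Group A] [MulAction A X] [Fintype X]

/-- weighted orbit counting: if `W ≤ wt x * |orbit x|` for all `x`, then `W * #orbits ≤ ∑ wt`. -/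
theorem weight_count (wt : X → ℕ) (W : ℕ)
    (h : ∀ x, W ≤ wt x * Nat.card (MulAction.orbit A x)) :
    W * Nat.card (MulAction.orbitRel.Quotient A X) ≤ ∑ x, wt x := by
  classical
  haveI : Fintype (MulAction.orbitRel.Quotient A X) := Fintype.ofFinite _
  let q : X → MulAction.orbitRel.Quotient A X := fun x => Quotient.mk'' x
  have hfib : ∑ x, wt x = ∑ ω : MulAction.orbitRel.Quotient A X,
      ∑ x ∈ Finset.univ.filter (fun x => q x = ω), wt x :=
    (Finset.sum_fiberwise Finset.univ q wt).symm
  rw [hfib, Nat.card_eq_fintype_card, ← Finset.card_univ, Finset.card_eq_sum_ones, Finset.mul_sum]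
  apply Finset.sum_le_sum
  intro ω _
  rw [mul_one]
  induction ω using Quotient.inductionOn' with
  | h x0 =>
    have hmem : ∀ x, q x = Quotient.mk'' x0 ↔ x ∈ MulAction.orbit A x0 := by
      intro x
      show (Quotient.mk'' x : MulAction.orbitRel.Quotient A X) = Quotient.mk'' x0 ↔ _
      rw [Quotient.eq'']
      exact MulAction.orbitRel_apply
    set S := Finset.univ.filter (fun x => q x = Quotient.mk'' x0) with hS
    have hcard : S.card = Nat.card (MulAction.orbit A x0) := by
      rw [Nat.card_eq_fintype_card, ← Set.toFinset_card]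
      congr 1
      ext x
      simp only [hS, Finset.mem_filter, Finset.mem_univ, true_and, Set.mem_toFinset]
      exact hmem x
    have hpos : 0 < S.card := by
      apply Finset.card_pos.2
      exact ⟨x0, by simp only [hS, Finset.mem_filter, Finset.mem_univ, true_and]; rfl⟩
    have hle : ∀ x ∈ S, W ≤ wt x * S.card := by
      intro x hx
      have hx' : x ∈ MulAction.orbit A x0 := by
        simp only [hS, Finset.mem_filter, Finset.mem_univ, true_and] at hx
        exact (hmem x).1 hx
      have : MulAction.orbit A x = MulAction.orbit A x0 := MulAction.orbit_eq_iff.2 hx'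
      rw [hcard, ← this]
      exact h x
    have h2 : S.card * W ≤ (∑ x ∈ S, wt x) * S.card := by
      rw [Finset.sum_mul, Finset.card_eq_sum_ones, Finset.sum_mul]
      apply Finset.sum_le_sum
      intro x hx
      rw [one_mul, ← Finset.card_eq_sum_ones]
      exact hle x hx
    rw [mul_comm] at h2
    exact Nat.le_of_mul_le_mul_right h2 hpos

end Count

section Cocycle

variable {G : Type*} [Group G] [Finite G] {p : ℕ}

/-- an automorphism of transvection type from a cocycle -/
theorem exists_aut_of_cocycle (lam : G → ZMod p)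
    (hlam : ∀ g h, lam (g * h) = lam g + lam h) (f : ZMod p → G)
    (hf : ∀ a h, f (a + lam h) = h⁻¹ * f a * h * f (lam h)) (hlf : ∀ a, lam (f a) = 0) :
    ∃ τ : MulAut G, ∀ g, τ g = g * f (lam g) := by
  have hlam1 : lam 1 = 0 := by
    have := hlam 1 1
    rw [mul_one] at this
    exact left_eq_add.mp this
  have hf0 : f 0 = 1 := by
    have := hf 0 1
    rw [hlam1, add_zero] at this
    simp only [inv_one, one_mul, mul_one] at this
    exact (mul_eq_left.mp this.symm)
  have hlaminv : ∀ g, lam g⁻¹ = - lam g := by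
    intro g
    have := hlam g g⁻¹
    rw [mul_inv_cancel, hlam1] at this
    exact (neg_eq_of_add_eq_zero_right this.symm).symm
  let φ : G →* G :=
    { toFun := fun g => g * f (lam g)
      map_one' := by rw [hlam1, hf0, mul_one]
      map_mul' := by
        intro g h
        show g * h * f (lam (g * h)) = g * f (lam g) * (h * f (lam h))
        rw [hlam, hf]
        group }
  have hinj : Function.Injective φ := by
    rw [injective_iff_map_eq_one]
    intro g hg
    have hg' : g * f (lam g) = 1 := hg
    have h1 : g = (f (lam g))⁻¹ := eq_inv_of_mul_eq_one_left hg'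
    have h2 : lam g = 0 := by
      have h3 : lam g = lam (f (lam g))⁻¹ := congrArg lam h1
      rw [hlaminv, hlf, neg_zero] at h3
      exact h3
    rw [h2, hf0, mul_one] at hg'
    exact hg'
  have hbij : Function.Bijective φ := Finite.injective_iff_bijective.1 hinj
  exact ⟨MulEquiv.ofBijective φ hbij, fun g => rfl⟩

end Cocycle

section Basic

variable {G : Type*} [Group G] [Finite G]

theorem card_mul_relIndex' {H K : Subgroup G} (h : H ≤ K) :
    Nat.card H * H.relIndex K = Nat.card K := by
  have := Subgroup.relIndex_mul_relIndex ⊥ H K bot_le h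
  rwa [Subgroup.relIndex_bot_left, Subgroup.relIndex_bot_left] at this

/-- strict inclusion of subgroups costs at least the least prime factor of `|G|` -/
theorem minFac_mul_card_le {H K : Subgroup G} (h : H < K) :
    (Nat.card G).minFac * Nat.card H ≤ Nat.card K := by
  have h1 := card_mul_relIndex' h.le
  have h2 : H.relIndex K ≠ 1 := by
    intro h3
    exact h.not_ge (Subgroup.relIndex_eq_one.1 h3)
  have h3 : H.relIndex K ∣ Nat.card G :=
    (Subgroup.relIndex_dvd_card H K).trans (Subgroup.card_subgroup_dvd_card K)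
  have h4 : (Nat.card G).minFac ≤ H.relIndex K := by
    apply Nat.minFac_le_of_dvd _ h3
    have : H.relIndex K ≠ 0 := by
      intro h0
      rw [h0, mul_zero] at h1
      exact (Nat.card_pos (α := K)).ne' h1.symm
    omega
  rw [← h1, mul_comm]
  exact Nat.mul_le_mul_left _ h4

/-- a lower bound for the size of an orbit of the automorphism group -/
theorem card_le_orbit (M : Subgroup G) (x : G)
    (h : ∀ m ∈ M, x * m ∈ MulAction.orbit (MulAut G) x) :
    Nat.card M ≤ Nat.card (MulAction.orbit (MulAut G) x) := by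
  apply Nat.card_le_card_of_injective (fun m : M => (⟨x * m, h m m.2⟩ : MulAction.orbit (MulAut G) x))
  intro a b hab
  have : x * (a : G) = x * (b : G) := congrArg Subtype.val hab
  exact Subtype.ext (mul_left_cancel this)

end Basic

/-- the class-two situation -/
structure Cl2 (G : Type*) [Group G] (p : ℕ) : Prop where
  prime : p.Prime
  minFac : (Nat.card G).minFac = p
  card_comm : Nat.card (commutator G) = p
  comm_le : commutator G ≤ Subgroup.center G

namespace Cl2

variable {G : Type*} [Group G] [Finite G] {p : ℕ}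

theorem comm_mem (h : Cl2 G p) (a b : G) : ⁅a, b⁆ ∈ Subgroup.center G :=
  h.comm_le (Subgroup.commutator_mem_commutator (Subgroup.mem_top a) (Subgroup.mem_top b))

theorem comm_mem' (a b : G) : ⁅a, b⁆ ∈ commutator G :=
  Subgroup.commutator_mem_commutator (Subgroup.mem_top a) (Subgroup.mem_top b)

/-- `g ↦ ⁅g, z⁆` as a homomorphism to the commutator subgroup -/
noncomputable def kap (h : Cl2 G p) (z : G) : G →* ↥(commutator G) where
  toFun g := ⟨⁅g, z⁆, comm_mem' g z⟩
  map_one' := by
    apply Subtype.ext
    simp [commutatorElement_def]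
  map_mul' a b := by
    apply Subtype.ext
    show ⁅a * b, z⁆ = ⁅a, z⁆ * ⁅b, z⁆
    have hc : ∀ t : G, ⁅b, z⁆ * t = t * ⁅b, z⁆ := fun t =>
      (Subgroup.mem_center_iff.1 (h.comm_mem b z) t).symm
    have e1 : ⁅a * b, z⁆ = a * ⁅b, z⁆ * z * a⁻¹ * z⁻¹ := by
      simp only [commutatorElement_def]; group
    rw [e1, mul_assoc a, hc, ← mul_assoc]
    have e2 : a * z * ⁅b, z⁆ * a⁻¹ * z⁻¹ = a * z * (⁅b, z⁆ * (a⁻¹ * z⁻¹)) := by group
    rw [e2, hc]
    simp only [commutatorElement_def]; group

theorem kap_apply (h : Cl2 G p) (z g : G) : ((h.kap z g : ↥(commutator G)) : G) = ⁅g, z⁆ := rfl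

/-- a noncentral element is conjugate to all its translates by commutators -/
theorem exists_conj (h : Cl2 G p) {z : G} (hz : z ∉ Subgroup.center G) (m : G)
    (hm : m ∈ commutator G) : ∃ g : G, g * z * g⁻¹ = z * m := by
  haveI : Fact (Nat.card ↥(commutator G)).Prime := ⟨h.card_comm.symm ▸ h.prime⟩
  have hr : (h.kap z).range = ⊤ := by
    rcases Subgroup.eq_bot_or_eq_top_of_prime_card (h.kap z).range with h1 | h1
    · exfalso
      apply hz
      rw [Subgroup.mem_center_iff]
      intro g
      have h2 : h.kap z g ∈ (h.kap z).range := ⟨g, rfl⟩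
      rw [h1, Subgroup.mem_bot] at h2
      have h3 : ⁅g, z⁆ = 1 := by
        rw [← kap_apply h z g, h2]; rfl
      rw [commutatorElement_eq_one_iff_commute] at h3
      exact h3.eq
    · exact h1
  have hm' : (⟨m, hm⟩ : ↥(commutator G)) ∈ (h.kap z).range := by rw [hr]; trivial
  obtain ⟨g, hg⟩ := hm'
  refine ⟨g, ?_⟩
  have h1 : ⁅g, z⁆ = m := by
    rw [← kap_apply h z g, hg]
  have h2 : m * z = z * m := by
    have := Subgroup.mem_center_iff.1 (h.comm_le hm) z
    exact this.symm
  rw [← h2, ← h1]
  simp only [commutatorElement_def]; group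

theorem orbit_ge (h : Cl2 G p) {z : G} (hz : z ∉ Subgroup.center G) :
    p ≤ Nat.card (MulAction.orbit (MulAut G) z) := by
  rw [← h.card_comm]
  apply card_le_orbit
  intro m hm
  obtain ⟨g, hg⟩ := h.exists_conj hz m hm
  refine ⟨MulAut.conj g, ?_⟩
  show MulAut.conj g z = z * m
  rw [MulAut.conj_apply, hg]

end Cl2

namespace Cl2

variable {G : Type*} [Group G] [Finite G] {p : ℕ}

theorem arith_main (q Ω n k z : ℕ) (hq : 1 ≤ q)
    (h1 : (q + 1) ^ 2 * Ω ≤ n + q * k + (q + 1) * q * z) (h2 : k * (q + 1) = n)
    (h3 : (q + 1) * z ≤ k) : Ω * (q + 1) ≤ n := by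
  subst h2
  -- (q+1)^2 Ω ≤ k(q+1) + q k + q k = k (3q+1) ≤ k (q+1)^2
  have h4 : (q + 1) * q * z ≤ q * k := by
    calc (q + 1) * q * z = q * ((q + 1) * z) := by ring
      _ ≤ q * k := Nat.mul_le_mul_left q h3
  have hqq : k * q ≤ k * (q * q) := Nat.mul_le_mul_left k (Nat.le_mul_self q)
  have h5 : (q + 1) ^ 2 * Ω ≤ (q + 1) ^ 2 * k := by
    calc (q + 1) ^ 2 * Ω ≤ k * (q + 1) + q * k + (q + 1) * q * z := h1
      _ ≤ k * (q + 1) + q * k + q * k := Nat.add_le_add_left h4 _
      _ ≤ (q + 1) ^ 2 * k := by nlinarith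
  have h6 : Ω ≤ k := Nat.le_of_mul_le_mul_left h5 (by positivity)
  exact Nat.mul_le_mul_right _ h6

theorem main (h : Cl2 G p) (lam : G → ZMod p)
    (hlam : ∀ g k, lam (g * k) = lam g + lam k) (f : ZMod p → G)
    (hf : ∀ a k, f (a + lam k) = k⁻¹ * f a * k * f (lam k)) (hlf : ∀ a, lam (f a) = 0)
    (hZ : ∀ z ∈ Subgroup.center G, lam z = 0) (hne : ∃ g, lam g ≠ 0)
    (hy : ∃ y, y ∉ Subgroup.center G ∧ lam y = 0)
    (hfc : ∀ a, a ≠ 0 → f a ∉ commutator G) :
    Nat.card (MulAction.orbitRel.Quotient (MulAut G) G) * p ≤ Nat.card G := by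
  classical
  haveI := Fintype.ofFinite G
  haveI : Fact p.Prime := ⟨h.prime⟩
  obtain ⟨τ, hτ⟩ := exists_aut_of_cocycle lam hlam f hf hlf
  -- the kernel
  let L : G →* Multiplicative (ZMod p) :=
    { toFun := fun g => Multiplicative.ofAdd (lam g)
      map_one' := by
        have := hlam 1 1
        rw [mul_one] at this
        have h0 : lam 1 = 0 := left_eq_add.mp this
        rw [h0]; rfl
      map_mul' := fun a b => by rw [hlam]; rfl }
  have hLmem : ∀ g, g ∈ L.ker ↔ lam g = 0 := by
    intro g
    rw [MonoidHom.mem_ker]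
    show Multiplicative.ofAdd (lam g) = 1 ↔ _
    rw [ofAdd_eq_one]
  have hcardM : Nat.card (Multiplicative (ZMod p)) = p := by
    rw [Nat.card_congr Multiplicative.toAdd, Nat.card_zmod]
  have hrange : L.range = ⊤ := by
    haveI : Fact (Nat.card (Multiplicative (ZMod p))).Prime := ⟨hcardM.symm ▸ h.prime⟩
    rcases Subgroup.eq_bot_or_eq_top_of_prime_card L.range with h1 | h1
    · exfalso
      obtain ⟨g, hg⟩ := hne
      apply hg
      rw [← hLmem, MonoidHom.mem_ker]
      have : L g ∈ L.range := ⟨g, rfl⟩
      rwa [h1, Subgroup.mem_bot] at this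
    · exact h1
  have hK : Nat.card L.ker * p = Nat.card G := by
    have h1 := Subgroup.card_mul_index L.ker
    rw [Subgroup.index_ker, hrange, Subgroup.card_top, hcardM] at h1
    exact h1
  have hZK : Subgroup.center G < L.ker := by
    refine lt_of_le_of_ne (fun z hz => (hLmem z).2 (hZ z hz)) ?_
    intro heq
    obtain ⟨y, hy1, hy2⟩ := hy
    apply hy1
    rw [heq, hLmem]
    exact hy2
  have hZcard : p * Nat.card (Subgroup.center G) ≤ Nat.card L.ker := by
    have := minFac_mul_card_le hZK
    rwa [h.minFac] at this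
  -- orbit bounds
  have horb1 : ∀ g, g ∉ Subgroup.center G → p ≤ Nat.card (MulAction.orbit (MulAut G) g) :=
    fun g hg => h.orbit_ge hg
  have horb2 : ∀ g, lam g ≠ 0 → p ^ 2 ≤ Nat.card (MulAction.orbit (MulAut G) g) := by
    intro g hg
    have hlpow : ∀ j : ℕ, lam (f (lam g) ^ j) = 0 := by
      intro j
      induction j with
      | zero =>
        rw [pow_zero]
        have := hlam 1 1
        rw [mul_one] at this
        exact left_eq_add.mp this
      | succ j ih => rw [pow_succ, hlam, ih, hlf, add_zero]
    have htau : ∀ j : ℕ, (τ ^ j) g = g * f (lam g) ^ j := by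
      intro j
      induction j with
      | zero => simp
      | succ j ih =>
        rw [pow_succ', MulAut.mul_apply, ih, hτ, hlam, hlpow, add_zero, pow_succ, mul_assoc]
    have hM : ∀ m ∈ Subgroup.zpowers (f (lam g)) ⊔ commutator G,
        g * m ∈ MulAction.orbit (MulAut G) g := by
      intro m hm
      obtain ⟨y, hy, d, hd, rfl⟩ := Subgroup.mem_sup_of_normal_right.1 hm
      rw [← mem_powers_iff_mem_zpowers] at hy
      obtain ⟨j, rfl⟩ := hy
      have hnc : g * f (lam g) ^ j ∉ Subgroup.center G := by
        intro hc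
        have := hZ _ hc
        rw [hlam, hlpow, add_zero] at this
        exact hg this
      obtain ⟨t, ht⟩ := h.exists_conj hnc d hd
      refine ⟨MulAut.conj t * τ ^ j, ?_⟩
      show (MulAut.conj t * τ ^ j) g = g * (f (lam g) ^ j * d)
      rw [MulAut.mul_apply, htau, MulAut.conj_apply, ht, mul_assoc]
    have hlt : commutator G < Subgroup.zpowers (f (lam g)) ⊔ commutator G := by
      refine lt_of_le_of_ne le_sup_right ?_
      intro heq
      apply hfc (lam g) hg
      rw [heq]
      exact Subgroup.mem_sup_left (Subgroup.mem_zpowers _)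
    have h1 := minFac_mul_card_le hlt
    rw [h.minFac, h.card_comm] at h1
    have h2 := card_le_orbit _ g hM
    calc p ^ 2 = p * p := sq p
      _ ≤ _ := h1
      _ ≤ _ := h2
  -- weights
  obtain ⟨q, rfl⟩ : ∃ q, p = q + 1 := ⟨p - 1, by have := h.prime.pos; omega⟩
  have hq1 : 1 ≤ q := by have := h.prime.two_le; omega
  let wt : G → ℕ := fun g =>
    1 + (if g ∈ L.ker then q else 0) + (if g ∈ Subgroup.center G then (q + 1) * q else 0)
  have hwt : ∀ g, (q + 1) ^ 2 ≤ wt g * Nat.card (MulAction.orbit (MulAut G) g) := by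
    intro g
    have hpos : 1 ≤ Nat.card (MulAction.orbit (MulAut G) g) := by
      haveI : Nonempty (MulAction.orbit (MulAut G) g) := ⟨⟨g, MulAction.mem_orbit_self g⟩⟩
      exact Nat.card_pos
    by_cases hc : g ∈ Subgroup.center G
    · have hk : g ∈ L.ker := hZK.le hc
      have : wt g = (q + 1) ^ 2 := by
        simp only [wt, hc, hk, if_true]; ring
      rw [this]
      exact Nat.le_mul_of_pos_right _ hpos
    · by_cases hk : g ∈ L.ker
      · have : wt g = q + 1 := by
          simp only [wt, hc, hk, if_true, if_false]; ring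
        rw [this, sq]
        exact Nat.mul_le_mul_left _ (horb1 g hc)
      · have : wt g = 1 := by
          simp only [wt, hc, hk, if_false]
        rw [this, one_mul]
        exact horb2 g (fun h0 => hk ((hLmem g).2 h0))
  have hcount := weight_count (A := MulAut G) wt ((q + 1) ^ 2) hwt
  have hsum : ∑ g, wt g = Nat.card G + q * Nat.card L.ker +
      (q + 1) * q * Nat.card (Subgroup.center G) := by
    simp only [wt, Finset.sum_add_distrib, Finset.sum_const, Finset.card_univ, smul_eq_mul,
      mul_one, Finset.sum_ite]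
    rw [Nat.card_eq_fintype_card, Nat.card_eq_fintype_card, Nat.card_eq_fintype_card,
      Fintype.card_subtype, Fintype.card_subtype]
    ring
  rw [hsum] at hcount
  exact arith_main q _ _ _ _ hq1 hcount hK hZcard

end Cl2

end Cfsg.Agent.Lib.Helper53_AutOrb
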