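import Mathlib
import Cfsg.Agent.Lib.Helper53_AutOrb2

/-!
helper53: automorphism orbits, part 3: the explicit automorphisms in the class-two situation.
-/

set_option autoImplicit false
set_option linter.unusedSectionVars false
set_option linter.style.haveILetI false

namespace Cfsg.Agent.Lib.Helper53_AutOrb

open scoped commutatorElement

section Tools

variable {G : Type*} [Group G] [Finite G] {p : ℕ}

/-- Bezout for membership of powers -/
theorem mem_of_pow_mem_of_coprime {H : Subgroup G} {w : G} {n m : ℕ} (hnm : Nat.Coprime n m)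
    (hn : w ^ n ∈ H) (hm : w ^ m ∈ H) : w ∈ H := by
  have h1 : (n : ℤ) * Nat.gcdA n m + (m : ℤ) * Nat.gcdB n m = 1 := by
    have := Nat.gcd_eq_gcd_ab n m
    rw [hnm] at this
    exact_mod_cast this.symm
  have h2 : w = (w ^ n) ^ (Nat.gcdA n m) * (w ^ m) ^ (Nat.gcdB n m) := by
    rw [← zpow_natCast, ← zpow_natCast, ← zpow_mul, ← zpow_mul, ← zpow_add, h1, zpow_one]
  rw [h2]
  exact H.mul_mem (H.zpow_mem hn _) (H.zpow_mem hm _)

/-- a discrete logarithm for homomorphisms into a cyclic subgroup -/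
theorem exists_lam {c : G} (hc : orderOf c = p) (D : G → G)
    (hD : ∀ g k, D (g * k) = D g * D k) (hDc : ∀ g, D g ∈ Subgroup.zpowers c) :
    ∃ lam : G → ZMod p, (∀ g k, lam (g * k) = lam g + lam k) ∧ ∀ g, c ^ (lam g).val = D g := by
  have hex : ∀ g, ∃ n : ℕ, c ^ n = D g := by
    intro g
    have := hDc g
    rw [← mem_powers_iff_mem_zpowers] at this
    exact this
  choose n hn using hex
  have hval : ∀ g, c ^ ((n g : ZMod p)).val = D g := by
    intro g
    rw [ZMod.val_natCast, ← hc, pow_mod_orderOf, hn]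
  refine ⟨fun g => (n g : ZMod p), ?_, hval⟩
  intro g k
  rw [← Nat.cast_add, ZMod.natCast_eq_natCast_iff, ← hc, ← pow_eq_pow_iff_modEq, hn, pow_add, hn, hn,
    hD]

theorem eq_zero_of_pow_val_eq_one {c : G} (hc : orderOf c = p) [NeZero p] {t : ZMod p}
    (h : c ^ t.val = 1) : t = 0 := by
  have h1 : p ∣ t.val := by
    have h0 : orderOf c ∣ t.val := orderOf_dvd_of_pow_eq_one h
    exact hc.symm.dvd.trans h0
  have h2 : t.val < p := ZMod.val_lt t
  have h3 : t.val = 0 := Nat.eq_zero_of_dvd_of_lt h1 h2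
  exact (ZMod.val_eq_zero t).1 h3

end Tools

theorem choose_two_add (n m : ℕ) : (n + m).choose 2 = n.choose 2 + m.choose 2 + n * m := by
  induction m with
  | zero => simp
  | succ m ih =>
    rw [← add_assoc, Nat.choose_succ_succ' (n + m) 1, Nat.choose_succ_succ' m 1, ih,
      Nat.choose_one_right, Nat.choose_one_right]
    ring


namespace Cl2

variable {G : Type*} [Group G] [Finite G] {p : ℕ}

theorem exists_gen (h : Cl2 G p) : ∃ c : G, c ∈ commutator G ∧ orderOf c = p ∧
    ∀ x ∈ commutator G, x ∈ Subgroup.zpowers c := by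
  haveI : Fact p.Prime := ⟨h.prime⟩
  haveI : Nontrivial ↥(commutator G) := by
    apply Finite.one_lt_card_iff_nontrivial.1
    rw [h.card_comm]
    exact h.prime.one_lt
  obtain ⟨c, hc⟩ := exists_ne (1 : ↥(commutator G))
  have htop := zpowers_eq_top_of_prime_card h.card_comm hc
  refine ⟨c, c.2, ?_, ?_⟩
  · have h1 : orderOf c = p := by
      apply orderOf_eq_prime
      · rw [← h.card_comm]; exact pow_card_eq_one'
      · exact hc
    rw [← h1]
    exact Subgroup.orderOf_coe c
  · intro x hx
    have h1 : (⟨x, hx⟩ : ↥(commutator G)) ∈ Subgroup.zpowers c := by rw [htop]; trivial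
    obtain ⟨k, hk⟩ := Subgroup.mem_zpowers_iff.1 h1
    refine Subgroup.mem_zpowers_iff.2 ⟨k, ?_⟩
    have := congrArg Subtype.val hk
    simpa using this

theorem comm_eq_one_of_mem_center {z : G} (hz : z ∈ Subgroup.center G) (y : G) : ⁅z, y⁆ = 1 := by
  rw [commutatorElement_eq_one_iff_commute]
  exact ((Subgroup.mem_center_iff.1 hz y).symm : z * y = y * z)

/-- Case I: a central element of order `p` outside the commutator subgroup. -/
theorem caseI (h : Cl2 G p) {u y : G} (hu : u ∈ Subgroup.center G) (hup : u ^ p = 1)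
    (hun : u ∉ commutator G) (hy : y ∉ Subgroup.center G) :
    Nat.card (MulAction.orbitRel.Quotient (MulAut G) G) * p ≤ Nat.card G := by
  haveI : Fact p.Prime := ⟨h.prime⟩
  obtain ⟨c, hcG, hcp, hcgen⟩ := h.exists_gen
  obtain ⟨lam, hlam, hlamv⟩ := exists_lam hcp (fun g => ⁅g, y⁆)
    (fun g k => congrArg Subtype.val ((h.kap y).map_mul g k))
    (fun g => hcgen _ (comm_mem' g y))
  have hlam0 : ∀ g, ⁅g, y⁆ = 1 → lam g = 0 := by
    intro g hg
    apply eq_zero_of_pow_val_eq_one hcp
    rw [hlamv, hg]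
  have hupow : ∀ n : ℕ, u ^ n ∈ Subgroup.center G := fun n => Subgroup.pow_mem _ hu n
  apply h.main lam hlam (fun a => u ^ a.val)
  · intro a k
    show u ^ (a + lam k).val = k⁻¹ * u ^ a.val * k * u ^ (lam k).val
    have h1 : k⁻¹ * u ^ a.val * k = u ^ a.val := by
      have := Subgroup.mem_center_iff.1 (hupow a.val) k
      rw [mul_assoc, ← this, inv_mul_cancel_left]
    rw [h1, ZMod.val_add, ← pow_add, ← pow_eq_pow_mod _ hup]
  · intro a
    exact hlam0 _ (comm_eq_one_of_mem_center (hupow _) y)
  · intro z hz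
    exact hlam0 _ (comm_eq_one_of_mem_center hz y)
  · by_contra hcon
    push Not at hcon
    apply hy
    rw [Subgroup.mem_center_iff]
    intro g
    have h1 : ⁅g, y⁆ = 1 := by
      rw [← hlamv, hcon, ZMod.val_zero, pow_zero]
    rw [commutatorElement_eq_one_iff_commute] at h1
    exact h1.eq
  · refine ⟨y, hy, hlam0 _ ?_⟩
    rw [commutatorElement_eq_one_iff_commute]
  · intro a ha hmem
    apply hun
    have hcop : Nat.Coprime a.val p := by
      rw [Nat.coprime_comm, Nat.Prime.coprime_iff_not_dvd h.prime]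
      intro hdvd
      have h2 : a.val < p := ZMod.val_lt a
      have h3 : a.val = 0 := Nat.eq_zero_of_dvd_of_lt hdvd h2
      exact ha ((ZMod.val_eq_zero a).1 h3)
    exact mem_of_pow_mem_of_coprime hcop hmem (by rw [hup]; exact Subgroup.one_mem _)


/-- Case II: a noncentral `w` with `w ^ p * c ^ (p.choose 2) = 1`. -/
theorem caseII (h : Cl2 G p) {c w : G} (hcG : c ∈ commutator G) (hcp : orderOf c = p)
    (hcgen : ∀ x ∈ commutator G, x ∈ Subgroup.zpowers c) (hw : w ∉ Subgroup.center G)
    (hwp : w ^ p * c ^ (p.choose 2) = 1) :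
    Nat.card (MulAction.orbitRel.Quotient (MulAut G) G) * p ≤ Nat.card G := by
  haveI : Fact p.Prime := ⟨h.prime⟩
  have hcZ : c ∈ Subgroup.center G := h.comm_le hcG
  have hcc : ∀ (j : ℕ) (x : G), c ^ j * x = x * c ^ j := fun j x =>
    (Subgroup.mem_center_iff.1 (Subgroup.pow_mem _ hcZ j) x).symm
  have hcpow : c ^ p = 1 := by rw [← hcp]; exact pow_orderOf_eq_one c
  set D : G → G := fun g => w⁻¹ * g⁻¹ * w * g with hDdef
  have hDcomm : ∀ g, D g ∈ commutator G := by
    intro g
    have : D g = ⁅w⁻¹, g⁻¹⁆ := by simp only [hDdef, commutatorElement_def, inv_inv]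
    rw [this]
    exact comm_mem' _ _
  have hDcen : ∀ g x, D g * x = x * D g := fun g x =>
    (Subgroup.mem_center_iff.1 (h.comm_le (hDcomm g)) x).symm
  have hD : ∀ g k, D (g * k) = D g * D k := by
    intro g k
    calc D (g * k) = w⁻¹ * k⁻¹ * w * (D g * k) := by simp only [hDdef]; group
      _ = w⁻¹ * k⁻¹ * w * (k * D g) := by rw [hDcen]
      _ = D k * D g := by simp only [hDdef]; group
      _ = D g * D k := hDcen k (D g)
  obtain ⟨lam, hlam, hlamv⟩ := exists_lam hcp D hD (fun g => hcgen _ (hDcomm g))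
  have hlam0 : ∀ g, D g = 1 → lam g = 0 := by
    intro g hg
    apply eq_zero_of_pow_val_eq_one hcp
    rw [hlamv, hg]
  have hD1 : ∀ x, w * x = x * w → D x = 1 := by
    intro x hx
    simp only [hDdef]
    rw [mul_assoc, hx, ← mul_assoc, mul_assoc w⁻¹, inv_mul_cancel, mul_one, inv_mul_cancel]
  -- the cocycle
  set E : ℕ → G := fun n => w ^ n * c ^ (n.choose 2) with hEdef
  have hEw : ∀ n, w * E n = E n * w := by
    intro n
    simp only [hEdef]
    rw [← mul_assoc, ← pow_succ', pow_succ, mul_assoc, mul_assoc, hcc]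
  have hEp : ∀ n, E (n + p) = E n := by
    intro n
    simp only [hEdef]
    rw [choose_two_add, pow_add, pow_add, pow_add, mul_comm n p, pow_mul, hcpow, one_pow, mul_one]
    calc w ^ n * w ^ p * (c ^ n.choose 2 * c ^ p.choose 2)
        = w ^ n * (w ^ p * c ^ n.choose 2) * c ^ p.choose 2 := by group
      _ = w ^ n * (c ^ n.choose 2 * w ^ p) * c ^ p.choose 2 := by rw [hcc]
      _ = w ^ n * c ^ n.choose 2 * (w ^ p * c ^ p.choose 2) := by group
      _ = w ^ n * c ^ n.choose 2 := by rw [hwp, mul_one]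
  have hEmod : ∀ n, E (n % p) = E n := by
    intro n
    have key : ∀ q r : ℕ, E (r + p * q) = E r := by
      intro q
      induction q with
      | zero => intro r; rw [mul_zero, add_zero]
      | succ q ih =>
        intro r
        rw [Nat.mul_succ, ← add_assoc, hEp, ih]
    conv_rhs => rw [← Nat.mod_add_div n p]
    rw [key]
  have hconj : ∀ (k : G) (n : ℕ), k⁻¹ * w ^ n * k = w ^ n * D k ^ n := by
    intro k n
    have h1 : k⁻¹ * w * k = w * D k := by simp only [hDdef]; group
    have h2 : (k⁻¹ * w * k) ^ n = k⁻¹ * w ^ n * k := by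
      have := conj_pow (a := k⁻¹) (b := w) (i := n)
      rwa [inv_inv] at this
    have h3 : Commute w (D k) := (hDcen k w).symm
    rw [← h2, h1, h3.mul_pow]
  have hEadd : ∀ (k : G) (n m : ℕ), D k = c ^ m → E (n + m) = k⁻¹ * E n * k * E m := by
    intro k n m hk
    have hL : E (n + m) = w ^ (n + m) * c ^ (m * n + n.choose 2 + m.choose 2) := by
      simp only [hEdef]
      rw [choose_two_add]
      congr 2
      ring
    have e1 : k⁻¹ * (w ^ n * c ^ n.choose 2) * k = k⁻¹ * w ^ n * k * c ^ n.choose 2 := by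
      rw [mul_assoc, mul_assoc, hcc, ← mul_assoc, ← mul_assoc]
    have hR : k⁻¹ * E n * k * E m = w ^ (n + m) * c ^ (m * n + n.choose 2 + m.choose 2) := by
      simp only [hEdef]
      rw [e1, hconj, hk, ← pow_mul]
      calc w ^ n * c ^ (m * n) * c ^ n.choose 2 * (w ^ m * c ^ m.choose 2)
          = w ^ n * (c ^ (m * n) * c ^ n.choose 2) * (w ^ m * c ^ m.choose 2) := by
            rw [mul_assoc (w ^ n)]
        _ = w ^ n * c ^ (m * n + n.choose 2) * (w ^ m * c ^ m.choose 2) := by rw [← pow_add]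
        _ = w ^ n * (c ^ (m * n + n.choose 2) * w ^ m) * c ^ m.choose 2 := by
            simp only [mul_assoc]
        _ = w ^ n * (w ^ m * c ^ (m * n + n.choose 2)) * c ^ m.choose 2 := by rw [hcc]
        _ = w ^ (n + m) * c ^ (m * n + n.choose 2 + m.choose 2) := by
            rw [pow_add w n m, pow_add c (m * n + n.choose 2) (m.choose 2)]
            simp only [mul_assoc]
    rw [hL, hR]
  apply h.main lam hlam (fun a => E a.val)
  · intro a k
    show E (a + lam k).val = k⁻¹ * E a.val * k * E (lam k).val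
    rw [ZMod.val_add, hEmod]
    exact hEadd k _ _ (hlamv k).symm
  · intro a
    exact hlam0 _ (hD1 _ (hEw _))
  · intro z hz
    exact hlam0 _ (hD1 _ (Subgroup.mem_center_iff.1 hz w))
  · by_contra hcon
    push Not at hcon
    apply hw
    rw [Subgroup.mem_center_iff]
    intro g
    have h1 : D g = 1 := by
      rw [← hlamv, hcon, ZMod.val_zero, pow_zero]
    simp only [hDdef] at h1
    have h2 : w * g = g * w := by
      have := congrArg (fun t => g * w * t) h1
      simp only [mul_one] at this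
      rw [← this]; group
    exact h2.symm
  · exact ⟨w, hw, hlam0 _ (hD1 _ rfl)⟩
  · intro a ha hmem
    apply hw
    have hcop : Nat.Coprime a.val p := by
      rw [Nat.coprime_comm, Nat.Prime.coprime_iff_not_dvd h.prime]
      intro hdvd
      have h2 : a.val < p := ZMod.val_lt a
      have h3 : a.val = 0 := Nat.eq_zero_of_dvd_of_lt hdvd h2
      exact ha ((ZMod.val_eq_zero a).1 h3)
    have hcpowZ : ∀ j : ℕ, c ^ j ∈ Subgroup.center G := fun j => Subgroup.pow_mem _ hcZ j
    have h1 : w ^ a.val ∈ Subgroup.center G := by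
      have h2 : E a.val ∈ Subgroup.center G := h.comm_le hmem
      have h3 : w ^ a.val = E a.val * (c ^ (a.val).choose 2)⁻¹ := by
        simp only [hEdef]; group
      rw [h3]
      exact Subgroup.mul_mem _ h2 (Subgroup.inv_mem _ (hcpowZ _))
    have h2 : w ^ p ∈ Subgroup.center G := by
      have h3 : w ^ p = (c ^ p.choose 2)⁻¹ := eq_inv_of_mul_eq_one_left hwp
      rw [h3]
      exact Subgroup.inv_mem _ (hcpowZ _)
    exact mem_of_pow_mem_of_coprime hcop h1 h2


end Cl2

end Cfsg.Agent.Lib.Helper53_AutOrb
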