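import Mathlib
import Cfsg.Agent.Lib.Helper53_AutOrb3

/-!
helper53: automorphism orbits, part 4: existence of the noncentral element `w` and the final
bound in the class-two situation.
-/

set_option autoImplicit false
set_option linter.unusedSectionVars false
set_option linter.style.haveILetI false

namespace Cfsg.Agent.Lib.Helper53_AutOrb

open scoped commutatorElement

section Pow

variable {G : Type*} [Group G]

theorem pow_mul_of_central {g k d : G} (hkg : k * g = g * k * d) (hd : ∀ x, d * x = x * d)
    (n : ℕ) : k ^ n * g = g * k ^ n * d ^ n := by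
  induction n with
  | zero => simp
  | succ n ih =>
    calc k ^ (n + 1) * g = k * (k ^ n * g) := by rw [pow_succ', mul_assoc]
      _ = k * (g * k ^ n * d ^ n) := by rw [ih]
      _ = (k * g) * k ^ n * d ^ n := by simp only [mul_assoc]
      _ = g * k * d * k ^ n * d ^ n := by rw [hkg]
      _ = g * k * (d * k ^ n) * d ^ n := by simp only [mul_assoc]
      _ = g * k * (k ^ n * d) * d ^ n := by rw [hd]
      _ = g * k ^ (n + 1) * d ^ (n + 1) := by
        rw [pow_succ' k, pow_succ' d]; simp only [mul_assoc]

theorem mul_pow_of_central {g k d : G} (hkg : k * g = g * k * d) (hd : ∀ x, d * x = x * d)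
    (n : ℕ) : (g * k) ^ n = g ^ n * k ^ n * d ^ (n.choose 2) := by
  have hdp : ∀ (j : ℕ) (x : G), d ^ j * x = x * d ^ j := by
    intro j x
    induction j with
    | zero => simp
    | succ j ih => rw [pow_succ, mul_assoc, hd, ← mul_assoc, ih, mul_assoc]
  induction n with
  | zero => simp
  | succ n ih =>
    have hch : (n + 1).choose 2 = n + n.choose 2 := by
      rw [Nat.choose_succ_succ' n 1, Nat.choose_one_right]
    calc (g * k) ^ (n + 1) = (g * k) ^ n * (g * k) := pow_succ _ _
      _ = g ^ n * k ^ n * d ^ (n.choose 2) * (g * k) := by rw [ih]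
      _ = g ^ n * k ^ n * ((g * k) * d ^ (n.choose 2)) := by rw [mul_assoc, hdp]
      _ = g ^ n * (k ^ n * g) * k * d ^ (n.choose 2) := by simp only [mul_assoc]
      _ = g ^ n * (g * k ^ n * d ^ n) * k * d ^ (n.choose 2) := by
        rw [pow_mul_of_central hkg hd]
      _ = g ^ n * g * k ^ n * (d ^ n * k) * d ^ (n.choose 2) := by simp only [mul_assoc]
      _ = g ^ n * g * k ^ n * (k * d ^ n) * d ^ (n.choose 2) := by rw [hdp]
      _ = g ^ (n + 1) * k ^ (n + 1) * d ^ ((n + 1).choose 2) := by
        rw [hch, pow_succ g, pow_succ k, pow_add d]; simp only [mul_assoc]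

end Pow

namespace Cl2

variable {G : Type*} [Group G] [Finite G] {p : ℕ}

theorem pow_eq_one_of_mem_comm (h : Cl2 G p) {d : G} (hd : d ∈ commutator G) : d ^ p = 1 := by
  have h1 : (⟨d, hd⟩ : ↥(commutator G)) ^ p = 1 := by
    rw [← h.card_comm]; exact pow_card_eq_one'
  have := congrArg Subtype.val h1
  simpa using this

theorem pow_mem_center (h : Cl2 G p) (g : G) : g ^ p ∈ Subgroup.center G := by
  rw [Subgroup.mem_center_iff]
  intro k
  have h1 : h.kap k (g ^ p) = 1 := by
    rw [map_pow]
    have h0 : ∀ t : ↥(commutator G), t ^ p = 1 := by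
      intro t
      have := pow_card_eq_one' (x := t)
      rwa [h.card_comm] at this
    exact h0 _
  have h2 : ⁅g ^ p, k⁆ = 1 := by
    rw [← kap_apply h k (g ^ p), h1]; rfl
  rw [commutatorElement_eq_one_iff_commute] at h2
  exact h2.eq.symm

theorem exists_not_mem_center (h : Cl2 G p) : ∃ y : G, y ∉ Subgroup.center G := by
  by_contra hcon
  push Not at hcon
  have h1 : commutator G = ⊥ := by
    rw [eq_bot_iff, commutator_def, Subgroup.commutator_le]
    intro a _ b _
    rw [Subgroup.mem_bot, commutatorElement_eq_one_iff_commute]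
    exact (Subgroup.mem_center_iff.1 (hcon b) a)
  have h2 := h.card_comm
  rw [h1, Subgroup.card_bot] at h2
  exact h.prime.one_lt.ne h2

theorem sq_card_center_le (h : Cl2 G p) : p * (p * Nat.card (Subgroup.center G)) ≤ Nat.card G := by
  obtain ⟨y, hy⟩ := h.exists_not_mem_center
  have h1 : Subgroup.center G < Subgroup.centralizer {y} := by
    refine lt_of_le_of_ne (Subgroup.center_le_centralizer _) ?_
    intro heq
    apply hy
    rw [heq]
    exact Subgroup.mem_centralizer_singleton_iff.2 rfl
  have h2 : Subgroup.centralizer {y} < ⊤ := by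
    refine lt_of_le_of_ne le_top ?_
    intro heq
    apply hy
    rw [Subgroup.mem_center_iff]
    intro g
    have : g ∈ Subgroup.centralizer {y} := by rw [heq]; trivial
    exact (Subgroup.mem_centralizer_singleton_iff.1 this)
  have h3 := minFac_mul_card_le h1
  have h4 := minFac_mul_card_le h2
  rw [h.minFac] at h3 h4
  rw [Subgroup.card_top] at h4
  exact (Nat.mul_le_mul_left p h3).trans h4

/-- existence of `w` for odd `p` -/
theorem exists_w_odd (h : Cl2 G p) (hp2 : p ≠ 2)
    (hII : ∀ u ∈ Subgroup.center G, u ^ p = 1 → u ∈ commutator G) :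
    ∃ w : G, w ∉ Subgroup.center G ∧ w ^ p = 1 := by
  by_contra hcon
  push Not at hcon
  have hdvd : p ∣ p.choose 2 := by
    apply Nat.Prime.dvd_choose_self h.prime (by norm_num)
    have := h.prime.two_le
    omega
  let ψ : G →* G :=
    { toFun := fun g => g ^ p
      map_one' := one_pow p
      map_mul' := by
        intro g k
        have hd : k⁻¹ * g⁻¹ * k * g ∈ commutator G := by
          have : k⁻¹ * g⁻¹ * k * g = ⁅k⁻¹, g⁻¹⁆ := by simp only [commutatorElement_def, inv_inv]
          rw [this]; exact comm_mem' _ _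
        have hdc : ∀ x, (k⁻¹ * g⁻¹ * k * g) * x = x * (k⁻¹ * g⁻¹ * k * g) := fun x =>
          (Subgroup.mem_center_iff.1 (h.comm_le hd) x).symm
        have hkg : k * g = g * k * (k⁻¹ * g⁻¹ * k * g) := by group
        show (g * k) ^ p = g ^ p * k ^ p
        rw [mul_pow_of_central hkg hdc p]
        obtain ⟨t, ht⟩ := hdvd
        rw [ht, pow_mul, h.pow_eq_one_of_mem_comm hd, one_pow, mul_one] }
  have hker : ψ.ker ≤ commutator G := by
    intro x hx
    have hx' : x ^ p = 1 := hx
    exact hII x (by_contra fun hn => hn (hcon x hn |> fun hne => absurd hx' hne)) hx'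
  have hrange : ψ.range ≤ Subgroup.center G := by
    rintro _ ⟨g, rfl⟩
    exact h.pow_mem_center g
  have h1 : Nat.card ψ.ker * Nat.card ψ.range = Nat.card G := by
    have := Subgroup.card_mul_index ψ.ker
    rwa [Subgroup.index_ker] at this
  have h2 : Nat.card ψ.ker ≤ p := by
    rw [← h.card_comm]; exact Subgroup.card_le_of_le hker
  have h3 : Nat.card ψ.range ≤ Nat.card (Subgroup.center G) := Subgroup.card_le_of_le hrange
  have h4 := h.sq_card_center_le
  have hZpos : 0 < Nat.card (Subgroup.center G) := Nat.card_pos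
  have hp := h.prime.two_le
  have h5 : Nat.card G ≤ p * Nat.card (Subgroup.center G) := by
    rw [← h1]; exact Nat.mul_le_mul h2 h3
  nlinarith

end Cl2

end Cfsg.Agent.Lib.Helper53_AutOrb
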