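import Mathlib
import Cfsg.Agent.Lib.Helper53_AutOrb4

/-!
helper53: automorphism orbits, part 5: existence of `w` for `p = 2`, and the final bound
`#orbits * p ≤ |G|` when `|G'| = p` is the least prime divisor of `|G|`.
-/

set_option autoImplicit false
set_option linter.unusedSectionVars false
set_option linter.style.haveILetI false

namespace Cfsg.Agent.Lib.Helper53_AutOrb

open scoped commutatorElement

namespace Cl2

variable {G : Type*} [Group G] [Finite G]

/-- existence of `w` for `p = 2` -/
theorem exists_w_two (h : Cl2 G 2) {c : G} (hcG : c ∈ commutator G) (hcp : orderOf c = 2)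
    (hcgen : ∀ x ∈ commutator G, x ∈ Subgroup.zpowers c)
    (hII : ∀ u ∈ Subgroup.center G, u ^ 2 = 1 → u ∈ commutator G) :
    ∃ w : G, w ∉ Subgroup.center G ∧ w ^ 2 * c = 1 := by
  have hcZ : c ∈ Subgroup.center G := h.comm_le hcG
  have hc2 : c ^ 2 = 1 := by rw [← hcp]; exact pow_orderOf_eq_one c
  have hc1 : c ≠ 1 := by
    intro h1
    rw [h1, orderOf_one] at hcp
    norm_num at hcp
  -- elements of the commutator subgroup
  have hmem2 : ∀ x ∈ commutator G, x = 1 ∨ x = c := by
    intro x hx
    have h1 := hcgen x hx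
    rw [← mem_powers_iff_mem_zpowers] at h1
    obtain ⟨n, hn⟩ := h1
    have hn' : c ^ n = x := hn
    have h2 : c ^ n = c ^ (n % 2) := by rw [← hcp, pow_mod_orderOf]
    rcases Nat.mod_two_eq_zero_or_one n with h3 | h3
    · left; rw [← hn', h2, h3, pow_zero]
    · right; rw [← hn', h2, h3, pow_one]
  -- it suffices to find `t ∉ Z`, `z ∈ Z` with `t ^ 2 * c = z ^ 2`
  have hsuff : ∀ t z : G, t ∉ Subgroup.center G → z ∈ Subgroup.center G → t ^ 2 * c = z ^ 2 →
      ∃ w : G, w ∉ Subgroup.center G ∧ w ^ 2 * c = 1 := by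
    intro t z ht hz htz
    refine ⟨t * z⁻¹, ?_, ?_⟩
    · intro hw
      apply ht
      have : t = t * z⁻¹ * z := by group
      rw [this]
      exact Subgroup.mul_mem _ hw hz
    · have hcomm : Commute t z⁻¹ :=
        (Subgroup.mem_center_iff.1 (Subgroup.inv_mem _ hz) t)
      rw [hcomm.mul_pow, inv_pow, ← htz]
      have hcc : c * (t ^ 2 * c)⁻¹ = (t ^ 2 * c)⁻¹ * c :=
        (Subgroup.mem_center_iff.1 hcZ _).symm
      calc t ^ 2 * (t ^ 2 * c)⁻¹ * c = t ^ 2 * ((t ^ 2 * c)⁻¹ * c) := by rw [mul_assoc]
        _ = t ^ 2 * (c * (t ^ 2 * c)⁻¹) := by rw [hcc]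
        _ = 1 := by group
  -- the squaring map on the centre
  let sq : ↥(Subgroup.center G) →* ↥(Subgroup.center G) :=
    { toFun := fun z => z ^ 2
      map_one' := one_pow 2
      map_mul' := fun a b => by
        have hab : Commute a b := Subtype.ext (Subgroup.mem_center_iff.1 b.2 (a : G))
        exact hab.mul_pow 2 }
  have hker : sq.ker = Subgroup.zpowers (⟨c, hcZ⟩ : ↥(Subgroup.center G)) := by
    ext z
    rw [MonoidHom.mem_ker]
    show z ^ 2 = 1 ↔ _
    constructor
    · intro hz
      have hz' : (z : G) ^ 2 = 1 := by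
        have := congrArg Subtype.val hz
        simpa using this
      rcases hmem2 _ (hII z z.2 hz') with h1 | h1
      · have : z = 1 := Subtype.ext h1
        rw [this]; exact Subgroup.one_mem _
      · have : z = ⟨c, hcZ⟩ := Subtype.ext h1
        rw [this]; exact Subgroup.mem_zpowers _
    · intro hz
      obtain ⟨k, rfl⟩ := Subgroup.mem_zpowers_iff.1 hz
      rw [← zpow_natCast, ← zpow_mul, mul_comm, zpow_mul, zpow_natCast]
      have : (⟨c, hcZ⟩ : ↥(Subgroup.center G)) ^ 2 = 1 := Subtype.ext (by simpa using hc2)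
      rw [this, one_zpow]
  have hkercard : Nat.card sq.ker = 2 := by
    rw [hker, Nat.card_zpowers]
    have : orderOf (⟨c, hcZ⟩ : ↥(Subgroup.center G)) = orderOf c :=
      (Subgroup.orderOf_coe (⟨c, hcZ⟩ : ↥(Subgroup.center G))).symm
    rw [this, hcp]
  have hindex : sq.range.index = 2 := by
    have h1 := Subgroup.card_mul_index sq.ker
    rw [Subgroup.index_ker, hkercard] at h1
    have h2 := Subgroup.card_mul_index sq.range
    have hpos : 0 < Nat.card sq.range := Nat.card_pos
    have h3 : Nat.card sq.range * sq.range.index = Nat.card sq.range * 2 := by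
      rw [h2, ← h1, mul_comm]
    exact Nat.eq_of_mul_eq_mul_left hpos h3
  -- a noncommuting pair
  obtain ⟨y, hy⟩ := h.exists_not_mem_center
  have hxy : ∃ x : G, x * y ≠ y * x := by
    by_contra hcon
    push Not at hcon
    apply hy
    rw [Subgroup.mem_center_iff]
    exact hcon
  obtain ⟨x, hx⟩ := hxy
  have hxZ : x ∉ Subgroup.center G := by
    intro hxc
    exact hx (Subgroup.mem_center_iff.1 hxc y).symm
  set d := y⁻¹ * x⁻¹ * y * x with hd
  have hdG : d ∈ commutator G := by
    have : d = ⁅y⁻¹, x⁻¹⁆ := by simp only [hd, commutatorElement_def, inv_inv]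
    rw [this]; exact comm_mem' _ _
  have hdc : d = c := by
    rcases hmem2 d hdG with h1 | h1
    · exfalso
      apply hx
      have : y * x = x * y * d := by simp only [hd]; group
      rw [h1, mul_one] at this
      exact this.symm
    · exact h1
  have hyx : y * x = x * y * c := by
    rw [← hdc]; simp only [hd]; group
  have hccen : ∀ t, c * t = t * c := fun t => (Subgroup.mem_center_iff.1 hcZ t).symm
  have hxy2 : (x * y) ^ 2 = x ^ 2 * y ^ 2 * c := by
    have := mul_pow_of_central hyx hccen 2
    simpa using this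
  have hxyZ : x * y ∉ Subgroup.center G := by
    intro hc
    apply hx
    have h1 := Subgroup.mem_center_iff.1 hc x
    -- x * (x*y) = (x*y) * x
    have h2 : x * (x * y) = x * (y * x) := by rw [h1]; group
    exact mul_left_cancel h2
  -- squares in the centre
  have hsqZ : ∀ g : G, g ^ 2 ∈ Subgroup.center G := fun g => h.pow_mem_center g
  let X : ↥(Subgroup.center G) := ⟨x ^ 2, hsqZ x⟩
  let Y : ↥(Subgroup.center G) := ⟨y ^ 2, hsqZ y⟩
  let C : ↥(Subgroup.center G) := ⟨c, hcZ⟩
  by_cases hX : X * C ∈ sq.range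
  · obtain ⟨z, hz⟩ := hX
    have hz' : (z : G) ^ 2 = x ^ 2 * c := by
      have := congrArg Subtype.val hz
      simpa [sq, X, C] using this
    exact hsuff x z hxZ z.2 hz'.symm
  · by_cases hY : Y * C ∈ sq.range
    · obtain ⟨z, hz⟩ := hY
      have hz' : (z : G) ^ 2 = y ^ 2 * c := by
        have := congrArg Subtype.val hz
        simpa [sq, Y, C] using this
      exact hsuff y z hy z.2 hz'.symm
    · have h3 : (X * C) * (Y * C) ∈ sq.range := by
        rw [Subgroup.mul_mem_iff_of_index_two hindex]
        exact ⟨fun h => absurd h hX, fun h => absurd h hY⟩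
      obtain ⟨z, hz⟩ := h3
      have hz' : (z : G) ^ 2 = x ^ 2 * c * (y ^ 2 * c) := by
        have := congrArg Subtype.val hz
        simpa [sq, X, Y, C] using this
      apply hsuff (x * y) z hxyZ z.2
      rw [hz', hxy2]
      calc x ^ 2 * y ^ 2 * c * c = x ^ 2 * (y ^ 2 * c) * c := by simp only [mul_assoc]
        _ = x ^ 2 * (c * y ^ 2) * c := by rw [hccen]
        _ = x ^ 2 * c * (y ^ 2 * c) := by simp only [mul_assoc]

end Cl2

section Final

variable {G : Type*} [Group G] [Finite G] {p : ℕ}

/-- the bound in the class-two situation -/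
theorem Cl2.card_orbits_mul_le (h : Cl2 G p) :
    Nat.card (MulAction.orbitRel.Quotient (MulAut G) G) * p ≤ Nat.card G := by
  obtain ⟨y, hy⟩ := h.exists_not_mem_center
  obtain ⟨c, hcG, hcp, hcgen⟩ := h.exists_gen
  by_cases hI : ∃ u ∈ Subgroup.center G, u ^ p = 1 ∧ u ∉ commutator G
  · obtain ⟨u, hu, hup, hun⟩ := hI
    exact h.caseI hu hup hun hy
  · push Not at hI
    by_cases hp2 : p = 2
    · subst hp2
      obtain ⟨w, hw, hw2⟩ := h.exists_w_two hcG hcp hcgen hI
      refine h.caseII hcG hcp hcgen hw ?_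
      have : Nat.choose 2 2 = 1 := by decide
      rw [this, pow_one]
      exact hw2
    · obtain ⟨w, hw, hwp⟩ := h.exists_w_odd hp2 hI
      refine h.caseII hcG hcp hcgen hw ?_
      have hdvd : p ∣ p.choose 2 := by
        apply Nat.Prime.dvd_choose_self h.prime (by norm_num)
        have := h.prime.two_le
        omega
      obtain ⟨t, ht⟩ := hdvd
      rw [hwp, one_mul, ht, pow_mul, h.pow_eq_one_of_mem_comm hcG, one_pow]

/-- a normal subgroup whose order is the least prime divisor of `|G|` is central -/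
theorem le_center_of_card_eq_minFac (N : Subgroup G) [N.Normal]
    (hN : Nat.card N = (Nat.card G).minFac) (hp : (Nat.card G).minFac.Prime) :
    N ≤ Subgroup.center G := by
  haveI : Fact (Nat.card N).Prime := ⟨hN ▸ hp⟩
  haveI : IsCyclic N := isCyclic_of_prime_card rfl
  have hcardAut : Nat.card (MulAut N) = (Nat.card G).minFac - 1 := by
    rw [IsCyclic.card_mulAut, hN, Nat.totient_prime hp]
  let φ : G →* MulAut N := MulAut.conjNormal
  have h1 : Nat.card φ.range ∣ Nat.card G := Subgroup.card_range_dvd φ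
  have h2 : Nat.card φ.range ∣ (Nat.card G).minFac - 1 := by
    rw [← hcardAut]; exact Subgroup.card_subgroup_dvd_card _
  have h3 : Nat.card φ.range = 1 := by
    by_contra hne
    have hpos : 0 < Nat.card φ.range := Nat.card_pos
    have h4 : (Nat.card G).minFac ≤ Nat.card φ.range :=
      Nat.minFac_le_of_dvd (by omega) h1
    have h5 : Nat.card φ.range ≤ (Nat.card G).minFac - 1 :=
      Nat.le_of_dvd (by have := hp.two_le; omega) h2
    have := hp.two_le
    omega
  have h4 : φ.range = ⊥ := Subgroup.card_eq_one.1 h3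
  intro n hn
  rw [Subgroup.mem_center_iff]
  intro g
  have h5 : φ g ∈ φ.range := ⟨g, rfl⟩
  rw [h4, Subgroup.mem_bot] at h5
  have h6 : ((φ g) ⟨n, hn⟩ : G) = g * n * g⁻¹ := MulAut.conjNormal_apply g ⟨n, hn⟩
  rw [h5] at h6
  have h7 : n = g * n * g⁻¹ := h6
  calc g * n = g * n * g⁻¹ * g := by group
    _ = n * g := by rw [← h7]

/-- the class-two case packaged -/
theorem card_orbits_mul_le_of_card_comm
    (hcard : Nat.card (commutator G) = (Nat.card G).minFac)
    (hp : (Nat.card G).minFac.Prime) :
    Nat.card (MulAction.orbitRel.Quotient (MulAut G) G) * (Nat.card G).minFac ≤ Nat.card G := by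
  have h : Cl2 G (Nat.card G).minFac :=
    { prime := hp
      minFac := rfl
      card_comm := hcard
      comm_le := le_center_of_card_eq_minFac (commutator G) hcard hp }
  exact h.card_orbits_mul_le

end Final

end Cfsg.Agent.Lib.Helper53_AutOrb
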