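import Mathlib
import Cfsg.Agent.Lib.Helper16_B43Defs

/-!
# S0996 (Brauer 1943), package PK-INV (architect helper16): the involution of `N_G(P)`

In `Setting0` with all two-point stabilizers of order `e` (`TwoPt`) and `e` even, `N = N_G(P)`
contains an involution `j` inverting `P` with `|C_G(j)| = e (n + 1)`.
-/

set_option autoImplicit false
set_option linter.unusedSectionVars false

namespace Cfsg.Agent.Lib.Helper53_B43_INV

open Cfsg Cfsg.Agent.Lib.Helper16_B43Defs
open scoped Pointwise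

variable {G : Type*} [Group G] [Finite G] {p e n : ℕ} [hp : Fact p.Prime] {P : Sylow p G}

/-- elements of `P` commute -/
theorem P_comm (S : Setting0 p e n P) {x y : G} (hx : x ∈ (P : Subgroup G))
    (hy : y ∈ (P : Subgroup G)) : x * y = y * x := by
  have hx' : x ∈ Subgroup.centralizer ((P : Subgroup G) : Set G) := by rw [S.hC]; exact hx
  exact (Subgroup.mem_centralizer_iff.mp hx' y hy).symm

/-- `P ≤ N(P)` -/
theorem P_le_NP : (P : Subgroup G) ≤ NP P := Subgroup.le_normalizer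

/-- elements of `P` have order dividing `p` -/
theorem pow_p (S : Setting0 p e n P) {x : G} (hx : x ∈ (P : Subgroup G)) : x ^ p = 1 := by
  have h := pow_card_eq_one' (G := ↥(P : Subgroup G)) (x := ⟨x, hx⟩)
  have hc : Nat.card ↥(P : Subgroup G) = p := S.hP
  rw [hc] at h
  exact congrArg Subtype.val h

/-- a nonidentity element generates `P` -/
theorem eq_zpowers (S : Setting0 p e n P) {y : G} (hy : y ∈ (P : Subgroup G)) (hy1 : y ≠ 1) :
    Subgroup.zpowers y = (P : Subgroup G) := by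
  have hle : Subgroup.zpowers y ≤ (P : Subgroup G) := (Subgroup.zpowers_le).mpr hy
  refine Subgroup.eq_of_le_of_card_ge hle ?_
  have hord : orderOf y = p := by
    have hdvd : orderOf y ∣ p := orderOf_dvd_of_pow_eq_one (pow_p S hy)
    rcases (Nat.dvd_prime hp.out).mp hdvd with h | h
    · exact absurd (orderOf_eq_one_iff.mp h) hy1
    · exact h
  rw [Nat.card_zpowers, hord]
  exact le_of_eq S.hP

/-- `p` is odd -/
theorem p_ne_two (S : Setting0 p e n P) : p ≠ 2 := by
  intro h2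
  have hP2 : Nat.card ↥(P : Subgroup G) = 2 := by rw [← h2]; exact S.hP
  obtain ⟨z, hz, hzu⟩ := (Nat.card_eq_two_iff' (1 : ↥(P : Subgroup G))).mp hP2
  have hle : NP P ≤ Subgroup.centralizer ((P : Subgroup G) : Set G) := by
    intro g hg
    rw [Subgroup.mem_centralizer_iff]
    intro x hx
    by_cases hx1 : x = 1
    · rw [hx1, one_mul, mul_one]
    · have hgx : g * x * g⁻¹ ∈ (P : Subgroup G) := (Subgroup.mem_normalizer_iff.mp hg x).mp hx
      have hgx1 : g * x * g⁻¹ ≠ 1 := by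
        intro h
        apply hx1
        have : g * x = g := by
          have := congrArg (· * g) h
          simpa using this
        exact mul_eq_left.mp this
      have e1 : (⟨x, hx⟩ : ↥(P : Subgroup G)) = z :=
        hzu _ (fun h => hx1 (congrArg Subtype.val h))
      have e2 : (⟨g * x * g⁻¹, hgx⟩ : ↥(P : Subgroup G)) = z :=
        hzu _ (fun h => hgx1 (congrArg Subtype.val h))
      have e3 : g * x * g⁻¹ = x := congrArg Subtype.val (e2.trans e1.symm)
      have := congrArg (· * g) e3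
      simpa using this.symm
  rw [S.hC] at hle
  have hcard : Nat.card ↥(NP P) ≤ Nat.card ↥(P : Subgroup G) := Subgroup.card_le_of_le hle
  have hPc : Nat.card ↥(P : Subgroup G) = p := S.hP
  rw [S.hN, hPc] at hcard
  have := S.he2
  have hp0 : 0 < p := hp.out.pos
  nlinarith

theorem p_odd (S : Setting0 p e n P) : p % 2 = 1 := by
  rcases hp.out.eq_two_or_odd with h | h
  · exact absurd h (p_ne_two S)
  · exact h

/-- an element of `P` of order dividing `2` is trivial -/
theorem eq_one_of_sq (S : Setting0 p e n P) {x : G} (hx : x ∈ (P : Subgroup G))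
    (h2 : x * x = 1) : x = 1 := by
  have h1 : orderOf x ∣ 2 := orderOf_dvd_of_pow_eq_one (by rw [pow_two]; exact h2)
  have h3 : orderOf x ∣ p := orderOf_dvd_of_pow_eq_one (pow_p S hx)
  have hcop : Nat.Coprime 2 p :=
    (Nat.coprime_primes Nat.prime_two hp.out).mpr (Ne.symm (p_ne_two S))
  have : orderOf x ∣ Nat.gcd 2 p := Nat.dvd_gcd h1 h3
  rw [hcop] at this
  exact orderOf_eq_one_iff.mp (Nat.dvd_one.mp this)

/-- an involution does not lie in `P` -/
theorem invol_not_mem (S : Setting0 p e n P) {j : G} (hj2 : orderOf j = 2) :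
    j ∉ (P : Subgroup G) := by
  intro hj
  have h1 : j * j = 1 := by
    have := pow_orderOf_eq_one j
    rwa [hj2, pow_two] at this
  have := eq_one_of_sq S hj h1
  rw [this, orderOf_one] at hj2
  omega

theorem invol_mul_self {j : G} (hj2 : orderOf j = 2) : j * j = 1 := by
  have := pow_orderOf_eq_one j
  rwa [hj2, pow_two] at this

theorem invol_inv {j : G} (hj2 : orderOf j = 2) : j⁻¹ = j :=
  inv_eq_of_mul_eq_one_left (invol_mul_self hj2)

/-- every involution of `N(P)` inverts `P` -/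
theorem inverts (S : Setting0 p e n P) {j : G} (hjN : j ∈ NP P) (hj2 : orderOf j = 2)
    {x : G} (hx : x ∈ (P : Subgroup G)) : j * x * j⁻¹ = x⁻¹ := by
  have hjj := invol_mul_self hj2
  have hji := invol_inv hj2
  have hx' : j * x * j⁻¹ ∈ (P : Subgroup G) := (Subgroup.mem_normalizer_iff.mp hjN x).mp hx
  set y := x * (j * x * j⁻¹) with hy
  have hyP : y ∈ (P : Subgroup G) := Subgroup.mul_mem _ hx hx'
  have hcomm : j * y * j⁻¹ = y := by
    have h1 : j * y * j⁻¹ = (j * x * j⁻¹) * (j * (j * x * j⁻¹) * j⁻¹) := by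
      rw [hy]; group
    have h2 : j * (j * x * j⁻¹) * j⁻¹ = x := by
      rw [hji]
      calc j * (j * x * j) * j = (j * j) * x * (j * j) := by group
        _ = x := by rw [hjj, one_mul, mul_one]
    rw [h1, h2, hy]
    exact P_comm S hx' hx
  by_contra hne
  have hy1 : y ≠ 1 := by
    intro h
    apply hne
    rw [hy] at h
    exact (eq_inv_of_mul_eq_one_right h)
  have hgen := eq_zpowers S hyP hy1
  apply invol_not_mem S hj2
  rw [← S.hC, Subgroup.mem_centralizer_iff]
  intro h hh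
  rw [← hgen] at hh
  obtain ⟨k, rfl⟩ := Subgroup.mem_zpowers_iff.mp hh
  have hjy : j * y = y * j := by
    have := congrArg (· * j) hcomm
    simpa using this
  exact ((Commute.zpow_right (show Commute j y from hjy) k).eq).symm

/-- the quotient of two involutions of `N(P)` lies in `P` -/
theorem mul_inv_mem (S : Setting0 p e n P) {j j' : G} (hjN : j ∈ NP P) (hj2 : orderOf j = 2)
    (hjN' : j' ∈ NP P) (hj2' : orderOf j' = 2) : j' * j⁻¹ ∈ (P : Subgroup G) := by
  rw [← S.hC, Subgroup.mem_centralizer_iff]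
  intro h hh
  have h1 : j * h⁻¹ * j⁻¹ = h := by
    have := inverts S hjN hj2 (Subgroup.inv_mem _ hh)
    rwa [inv_inv] at this
  have h2 : j' * h⁻¹ * j'⁻¹ = h := by
    have := inverts S hjN' hj2' (Subgroup.inv_mem _ hh)
    rwa [inv_inv] at this
  -- j⁻¹ h j = h⁻¹
  have h3 : j⁻¹ * h * j = h⁻¹ := by
    calc j⁻¹ * h * j = j⁻¹ * (j * h⁻¹ * j⁻¹) * j := by rw [h1]
      _ = h⁻¹ := by group
  calc h * (j' * j⁻¹) = (j' * (j'⁻¹ * h * j')) * j⁻¹ := by group
    _ = j' * (j⁻¹ * h * j) * j⁻¹ := by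
        have h4 : j'⁻¹ * h * j' = h⁻¹ := by
          calc j'⁻¹ * h * j' = j'⁻¹ * (j' * h⁻¹ * j'⁻¹) * j' := by rw [h2]
            _ = h⁻¹ := by group
        rw [h4, h3]
    _ = j' * j⁻¹ * h := by group

/-- the involutions of `N(P)` are conjugate under `P` -/
theorem invol_conj (S : Setting0 p e n P) {j j' : G} (hjN : j ∈ NP P) (hj2 : orderOf j = 2)
    (hjN' : j' ∈ NP P) (hj2' : orderOf j' = 2) :
    ∃ x ∈ (P : Subgroup G), x * j * x⁻¹ = j' := by
  set u := j' * j⁻¹ with hu
  have huP : u ∈ (P : Subgroup G) := mul_inv_mem S hjN hj2 hjN' hj2'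
  refine ⟨u ^ ((p + 1) / 2), Subgroup.pow_mem _ huP _, ?_⟩
  set x := u ^ ((p + 1) / 2) with hx
  have hxP : x ∈ (P : Subgroup G) := Subgroup.pow_mem _ huP _
  have hxx : x * x = u := by
    rw [hx, ← pow_add]
    have hodd := p_odd S
    have : (p + 1) / 2 + (p + 1) / 2 = p + 1 := by omega
    rw [this, pow_succ, pow_p S huP, one_mul]
  have hinv : j * x⁻¹ * j⁻¹ = x := by
    have := inverts S hjN hj2 (Subgroup.inv_mem _ hxP)
    rwa [inv_inv] at this
  calc x * j * x⁻¹ = x * (j * x⁻¹ * j⁻¹) * j := by group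
    _ = x * x * j := by rw [hinv]
    _ = j' := by rw [hxx, hu]; group

/-- `C_P(j) = 1` -/
theorem comm_eq_one (S : Setting0 p e n P) {j : G} (hjN : j ∈ NP P) (hj2 : orderOf j = 2)
    {x : G} (hx : x ∈ (P : Subgroup G)) (hc : x * j = j * x) : x = 1 := by
  have h1 := inverts S hjN hj2 hx
  have h2 : j * x * j⁻¹ = x := by rw [← hc]; group
  rw [h2] at h1
  apply eq_one_of_sq S hx
  calc x * x = x * x⁻¹ := by rw [← h1]
    _ = 1 := mul_inv_cancel x

/-- `P ∩ N(Q) = 1` for `Q ≠ P` -/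
theorem eq_one_of_mem_NP (S : Setting0 p e n P) {Q : Sylow p G} (hQ : Q ≠ P) {x : G}
    (hx : x ∈ (P : Subgroup G)) (hxQ : x ∈ NP Q) : x = 1 := by
  by_contra hx1
  have h0 : x ∈ (P : Subgroup G) ⊓ Subgroup.normalizer ((Q : Subgroup G) : Set G) := ⟨hx, hxQ⟩
  have h1 : x ∈ (P : Subgroup G) ⊓ (Q : Subgroup G) :=
    (IsPGroup.inf_normalizer_sylow P.isPGroup' Q).le h0
  have hgen := eq_zpowers S hx hx1
  have hle : (P : Subgroup G) ≤ (Q : Subgroup G) := by
    rw [← hgen]; exact (Subgroup.zpowers_le).mpr h1.2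
  apply hQ
  exact (Sylow.ext (P.is_maximal' Q.isPGroup' hle))

/-- an involution in a subgroup of even order -/
theorem exists_invol (H : Subgroup G) (h : 2 ∣ Nat.card H) : ∃ j ∈ H, orderOf j = 2 := by
  have : Fact (Nat.Prime 2) := ⟨Nat.prime_two⟩
  obtain ⟨x, hx⟩ := exists_prime_orderOf_dvd_card' (G := ↥H) 2 h
  exact ⟨x, x.2, by rw [← hx, Subgroup.orderOf_coe]⟩

/-- two involutions of `N(P) ∩ N(R)`, `R ≠ P`, coincide -/
theorem invol_unique (S : Setting0 p e n P) {R : Sylow p G} (hR : R ≠ P) {j j' : G}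
    (hjN : j ∈ NP P) (hj2 : orderOf j = 2) (hjR : j ∈ NP R)
    (hjN' : j' ∈ NP P) (hj2' : orderOf j' = 2) (hjR' : j' ∈ NP R) : j' = j := by
  have h1 := mul_inv_mem S hjN hj2 hjN' hj2'
  have h2 : j' * j⁻¹ ∈ NP R := Subgroup.mul_mem _ hjR' (Subgroup.inv_mem _ hjR)
  have h3 := eq_one_of_mem_NP S hR h1 h2
  exact mul_inv_eq_one.mp h3

theorem mem_NP_iff {g : G} {Q : Sylow p G} : g ∈ NP Q ↔ g • Q = Q :=
  Sylow.smul_eq_iff_mem_normalizer.symm

theorem orderOf_conj' (x j : G) : orderOf (x * j * x⁻¹) = orderOf j := by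
  have : x * j * x⁻¹ = MulAut.conj x j := by simp [MulAut.conj_apply]
  rw [this, MulEquiv.orderOf_eq]

/-- the number of Sylow subgroups `≠ P` normalized by `j` -/
theorem card_fix (S : Setting0 p e n P) (h2 : TwoPt P e) (hev : Even e) {j : G}
    (hjN : j ∈ NP P) (hj2 : orderOf j = 2) :
    Nat.card {Q : Sylow p G // Q ≠ P ∧ j ∈ NP Q} = n := by
  classical
  -- the map `(x, Q) ↦ x • Q`
  have hne : ∀ (x : ↥(P : Subgroup G)) (Q : {Q : Sylow p G // Q ≠ P ∧ j ∈ NP Q}),
      (x : G) • (Q : Sylow p G) ≠ P := by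
    intro x Q h
    apply Q.2.1
    have hxP : (x : G) • P = P := mem_NP_iff.mp (P_le_NP x.2)
    have : (x : G) • (Q : Sylow p G) = (x : G) • P := by rw [h, hxP]
    exact smul_left_cancel _ this
  let f : ↥(P : Subgroup G) × {Q : Sylow p G // Q ≠ P ∧ j ∈ NP Q} → {R : Sylow p G // R ≠ P} :=
    fun a => ⟨(a.1 : G) • (a.2 : Sylow p G), hne a.1 a.2⟩
  have hconjR : ∀ (x : ↥(P : Subgroup G)) (Q : {Q : Sylow p G // Q ≠ P ∧ j ∈ NP Q}),
      (x : G) * j * (x : G)⁻¹ ∈ NP ((x : G) • (Q : Sylow p G)) := by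
    intro x Q
    rw [mem_NP_iff, smul_smul]
    have : (x : G) * j * (x : G)⁻¹ * (x : G) = (x : G) * j := by group
    rw [this, ← smul_smul, mem_NP_iff.mp Q.2.2]
  have hconjN : ∀ (x : ↥(P : Subgroup G)), (x : G) * j * (x : G)⁻¹ ∈ NP P := by
    intro x
    exact Subgroup.mul_mem _ (Subgroup.mul_mem _ (P_le_NP x.2) hjN)
      (Subgroup.inv_mem _ (P_le_NP x.2))
  have hinj : Function.Injective f := by
    rintro ⟨x, Q⟩ ⟨x', Q'⟩ hff
    have hff' : (x : G) • (Q : Sylow p G) = (x' : G) • (Q' : Sylow p G) :=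
      congrArg Subtype.val hff
    have hR : (x : G) • (Q : Sylow p G) ≠ P := hne x Q
    have h1 := hconjR x Q
    have h1' := hconjR x' Q'
    rw [← hff'] at h1'
    have heq := invol_unique S hR (hconjN x) ((orderOf_conj' _ _).trans hj2) h1
      (hconjN x') ((orderOf_conj' _ _).trans hj2) h1'
    -- x'⁻¹ x commutes with j
    have hc : ((x' : G)⁻¹ * (x : G)) * j = j * ((x' : G)⁻¹ * (x : G)) := by
      have := congrArg (fun t => (x' : G)⁻¹ * t * (x : G)) heq
      beta_reduce at this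
      have e1 : (x' : G)⁻¹ * ((x' : G) * j * (x' : G)⁻¹) * (x : G) = j * ((x' : G)⁻¹ * (x : G)) := by
        group
      have e2 : (x' : G)⁻¹ * ((x : G) * j * (x : G)⁻¹) * (x : G) = ((x' : G)⁻¹ * (x : G)) * j := by
        group
      rw [e1, e2] at this
      exact this.symm
    have hmem : (x' : G)⁻¹ * (x : G) ∈ (P : Subgroup G) :=
      Subgroup.mul_mem _ (Subgroup.inv_mem _ x'.2) x.2
    have hxx : (x' : G)⁻¹ * (x : G) = 1 := comm_eq_one S hjN hj2 hmem hc
    have hxeq : (x : G) = (x' : G) := (inv_mul_eq_one.mp hxx).symm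
    have hxeq' : x = x' := Subtype.ext hxeq
    subst hxeq'
    have hQ : (Q : Sylow p G) = (Q' : Sylow p G) := smul_left_cancel _ hff'
    have : Q = Q' := Subtype.ext hQ
    rw [this]
  have hsurj : Function.Surjective f := by
    rintro ⟨R, hR⟩
    have hcard : Nat.card ↥(NP P ⊓ NP R) = e := h2 R hR
    obtain ⟨j', hj', hj2'⟩ := exists_invol (NP P ⊓ NP R) (by rw [hcard]; exact hev.two_dvd)
    obtain ⟨x, hxP, hx⟩ := invol_conj S hjN hj2 hj'.1 hj2'
    have hQ1 : x⁻¹ • R ≠ P := by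
      intro h
      apply hR
      have hxP' : x • P = P := mem_NP_iff.mp (P_le_NP hxP)
      calc R = x • (x⁻¹ • R) := by rw [smul_inv_smul]
        _ = P := by rw [h, hxP']
    have hQ2 : j ∈ NP (x⁻¹ • R) := by
      rw [mem_NP_iff, smul_smul]
      have : j * x⁻¹ = x⁻¹ * (x * j * x⁻¹) := by group
      rw [this, hx, ← smul_smul, mem_NP_iff.mp hj'.2]
    refine ⟨⟨⟨x, hxP⟩, ⟨x⁻¹ • R, hQ1, hQ2⟩⟩, ?_⟩
    apply Subtype.ext
    show x • (x⁻¹ • R) = R
    rw [smul_inv_smul]
  have hcard := Nat.card_congr (Equiv.ofBijective f ⟨hinj, hsurj⟩)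
  rw [Nat.card_prod] at hcard
  have hPc : Nat.card ↥(P : Subgroup G) = p := S.hP
  have hΩ : Nat.card {R : Sylow p G // R ≠ P} + 1 = 1 + n * p := by
    rw [← S.hn, ← Nat.card_congr (Equiv.optionSubtypeNe P), Finite.card_option]
  rw [hPc] at hcard
  have hp0 : 0 < p := hp.out.pos
  have : p * Nat.card {Q : Sylow p G // Q ≠ P ∧ j ∈ NP Q} = p * n := by
    rw [hcard]; linarith
  exact Nat.eq_of_mul_eq_mul_left hp0 this

/-- `|C_N(j)| = e` -/
theorem card_cent_N (S : Setting0 p e n P) {j : G} (hjN : j ∈ NP P) (hj2 : orderOf j = 2) :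
    Nat.card ↥(NP P ⊓ Subgroup.centralizer ({j} : Set G)) = e := by
  classical
  let f : ↥(P : Subgroup G) × ↥(NP P ⊓ Subgroup.centralizer ({j} : Set G)) → ↥(NP P) :=
    fun a => ⟨(a.1 : G) * (a.2 : G), Subgroup.mul_mem _ (P_le_NP a.1.2) a.2.2.1⟩
  have hcentmem : ∀ c : G, c ∈ Subgroup.centralizer ({j} : Set G) ↔ j * c = c * j := by
    intro c
    rw [Subgroup.mem_centralizer_iff]
    constructor
    · intro h; exact h j rfl
    · intro h y hy
      rw [Set.mem_singleton_iff.mp hy]; exact h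
  have hinj : Function.Injective f := by
    rintro ⟨x, c⟩ ⟨x', c'⟩ hff
    have hff' : (x : G) * (c : G) = (x' : G) * (c' : G) := congrArg Subtype.val hff
    have hu : (x' : G)⁻¹ * (x : G) = (c' : G) * (c : G)⁻¹ := by
      have := congrArg (fun t => (x' : G)⁻¹ * t * (c : G)⁻¹) hff'
      beta_reduce at this
      have e1 : (x' : G)⁻¹ * ((x : G) * (c : G)) * (c : G)⁻¹ = (x' : G)⁻¹ * (x : G) := by group
      have e2 : (x' : G)⁻¹ * ((x' : G) * (c' : G)) * (c : G)⁻¹ = (c' : G) * (c : G)⁻¹ := by group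
      rw [e1, e2] at this
      exact this
    have hmem : (x' : G)⁻¹ * (x : G) ∈ (P : Subgroup G) :=
      Subgroup.mul_mem _ (Subgroup.inv_mem _ x'.2) x.2
    have hcm : (c' : G) * (c : G)⁻¹ ∈ Subgroup.centralizer ({j} : Set G) :=
      Subgroup.mul_mem _ c'.2.2 (Subgroup.inv_mem _ c.2.2)
    rw [← hu] at hcm
    have hc := ((hcentmem _).mp hcm).symm
    have hxx : (x' : G)⁻¹ * (x : G) = 1 := comm_eq_one S hjN hj2 hmem hc
    have hxeq : x = x' := Subtype.ext (inv_mul_eq_one.mp hxx).symm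
    subst hxeq
    have : (c : G) = (c' : G) := mul_left_cancel hff'
    have hceq : c = c' := Subtype.ext this
    rw [hceq]
  have hsurj : Function.Surjective f := by
    rintro ⟨g, hg⟩
    have hgN : g * j * g⁻¹ ∈ NP P :=
      Subgroup.mul_mem _ (Subgroup.mul_mem _ hg hjN) (Subgroup.inv_mem _ hg)
    obtain ⟨x, hxP, hx⟩ := invol_conj S hjN hj2 hgN ((orderOf_conj' _ _).trans hj2)
    have hcN : x⁻¹ * g ∈ NP P := Subgroup.mul_mem _ (Subgroup.inv_mem _ (P_le_NP hxP)) hg
    have hcC : x⁻¹ * g ∈ Subgroup.centralizer ({j} : Set G) := by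
      rw [hcentmem]
      have := congrArg (fun t => x⁻¹ * t * g) hx
      beta_reduce at this
      have e1 : x⁻¹ * (x * j * x⁻¹) * g = j * (x⁻¹ * g) := by group
      have e2 : x⁻¹ * (g * j * g⁻¹) * g = x⁻¹ * g * j := by group
      rw [e1, e2] at this
      exact this
    refine ⟨⟨⟨x, hxP⟩, ⟨x⁻¹ * g, hcN, hcC⟩⟩, ?_⟩
    apply Subtype.ext
    show x * (x⁻¹ * g) = g
    group
  have hcard := Nat.card_congr (Equiv.ofBijective f ⟨hinj, hsurj⟩)
  rw [Nat.card_prod] at hcard
  have hPc : Nat.card ↥(P : Subgroup G) = p := S.hP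
  rw [hPc, S.hN] at hcard
  exact Nat.eq_of_mul_eq_mul_left hp.out.pos hcard

/-- **PK-INV**. -/
theorem exists_involution {G : Type*} [Group G] [Finite G] {p e n : ℕ} [Fact p.Prime]
    {P : Sylow p G} (S : Setting0 p e n P) (h2 : TwoPt P e) (hev : Even e) :
    ∃ j : G, j ∈ NP P ∧ orderOf j = 2 ∧ (∀ x ∈ (P : Subgroup G), j * x * j⁻¹ = x⁻¹) ∧
      Nat.card (Subgroup.centralizer ({j} : Set G)) = e * (n + 1) := by
  classical
  have hp : Fact p.Prime := inferInstance
  have h2N : 2 ∣ Nat.card ↥(NP P) := by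
    rw [S.hN]; exact Dvd.dvd.mul_left hev.two_dvd p
  obtain ⟨j, hjN, hj2⟩ := exists_invol (NP P) h2N
  refine ⟨j, hjN, hj2, fun x hx => inverts S hjN hj2 hx, ?_⟩
  set C : Subgroup G := Subgroup.centralizer ({j} : Set G) with hC
  have hcentmem : ∀ c : G, c ∈ C ↔ j * c = c * j := by
    intro c
    rw [hC, Subgroup.mem_centralizer_iff]
    constructor
    · intro h; exact h j rfl
    · intro h y hy
      rw [Set.mem_singleton_iff.mp hy]; exact h
  -- orbit-stabilizer for `C` acting on the Sylow subgroups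
  have hos : Nat.card ↥C =
      Nat.card (MulAction.orbit ↥C P) * Nat.card ↥(MulAction.stabilizer ↥C P) := by
    rw [Subgroup.card_eq_card_quotient_mul_card_subgroup (MulAction.stabilizer ↥C P)]
    congr 1
    exact (Nat.card_congr (MulAction.orbitEquivQuotientStabilizer ↥C P)).symm
  -- the stabilizer
  have hstab : Nat.card ↥(MulAction.stabilizer ↥C P) = e := by
    rw [← card_cent_N S hjN hj2]
    refine Nat.card_congr
      { toFun := fun c => ⟨((c : ↥C) : G), ?_, (c : ↥C).2⟩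
        invFun := fun c => ⟨⟨(c : G), c.2.2⟩, ?_⟩
        left_inv := fun c => rfl
        right_inv := fun c => rfl }
    · have h := c.2
      rw [MulAction.mem_stabilizer_iff] at h
      exact mem_NP_iff.mpr h
    · rw [MulAction.mem_stabilizer_iff]
      exact mem_NP_iff.mp c.2.1
  -- the orbit
  have horb : (MulAction.orbit ↥C P : Set (Sylow p G)) = insert P {Q | Q ≠ P ∧ j ∈ NP Q} := by
    ext Q
    constructor
    · rintro ⟨c, rfl⟩
      by_cases hQ : (c • P : Sylow p G) = P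
      · exact Or.inl hQ
      · refine Or.inr ⟨hQ, ?_⟩
        show j ∈ NP ((c : G) • P)
        rw [mem_NP_iff, smul_smul, (hcentmem _).mp c.2, ← smul_smul, mem_NP_iff.mp hjN]
    · intro hQ
      have hjQ : j ∈ NP Q := by
        rcases hQ with h | h
        · rw [h]; exact hjN
        · exact h.2
      obtain ⟨g, hg⟩ := MulAction.exists_smul_eq G P Q
      have hj'N : g⁻¹ * j * g ∈ NP P := by
        rw [mem_NP_iff, ← smul_smul, hg, ← smul_smul, mem_NP_iff.mp hjQ, ← hg, inv_smul_smul]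
      have hj'2 : orderOf (g⁻¹ * j * g) = 2 := by
        have := orderOf_conj' g⁻¹ j
        rw [inv_inv] at this
        rw [this, hj2]
      obtain ⟨x, hxP, hx⟩ := invol_conj S hjN hj2 hj'N hj'2
      have hcC : g * x ∈ C := by
        rw [hcentmem]
        have := congrArg (fun t => g * t * x) hx
        beta_reduce at this
        have e1 : g * (x * j * x⁻¹) * x = g * x * j := by group
        have e2 : g * (g⁻¹ * j * g) * x = j * (g * x) := by group
        rw [e1, e2] at this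
        exact this.symm
      refine ⟨⟨g * x, hcC⟩, ?_⟩
      show (g * x) • P = Q
      rw [← smul_smul, mem_NP_iff.mp (P_le_NP hxP), hg]
  have horbcard : Nat.card (MulAction.orbit ↥C P) = n + 1 := by
    rw [Nat.card_coe_set_eq, horb, Set.ncard_insert_of_notMem (fun h => h.1 rfl)
      (Set.toFinite _), ← Nat.card_coe_set_eq]
    congr 1
    exact card_fix S h2 hev hjN hj2
  rw [hos, horbcard, hstab, mul_comm]

end Cfsg.Agent.Lib.Helper53_B43_INV
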