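import Mathlib
import Cfsg.Agent.S0033
import Cfsg.Agent.S1403
import Cfsg.Agent.S1415
import Cfsg.Agent.S1418
import Cfsg.Agent.S1420
import Cfsg.Agent.S1427
import Cfsg.Agent.Lib.Helper23_BG13Hyp
import Cfsg.Agent.Lib.Helper24_CoprimeHall
import Cfsg.Agent.Lib.Helper29_BG144c
import Cfsg.Agent.Lib.Helper52_FrobFormula
import Cfsg.Agent.Lib.Helper53_BG16b
import Cfsg.Agent.Lib.Helper76_BG13c
import Cfsg.Agent.Lib.Helper97_BG1211f

/-!
# Bender-Glauberman Theorem 14.2, "Case A" core (piece PA of helper23's skeleton)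

`K` a nontrivial Hall `κ(M)`-subgroup of `M` inside a complement `E` of `M_σ`, and no subgroup of
prime order `r ∈ τ₃(M)` of `E` is nonregular on `M_σ`.  Then `K` is a Hall `τ₁(M)`-subgroup of `E`,
acts in a prime manner on `M_σ`, has a normal abelian complement `U` in `E` on which it acts
regularly, and is the normalizer in `E` of each of its nontrivial subgroups.

The not yet landed facts S1428 (`H1428 G`) and B-G 13.7 (`F1 G`) are hypotheses.
-/

set_option autoImplicit false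
set_option linter.unusedSectionVars false
set_option linter.unusedVariables false
set_option linter.style.haveILetI false

namespace Cfsg.Agent.Lib.Helper53_BG142a

open Subgroup Cfsg Cfsg.Agent.Lib.Helper23_BG13Hyp
open scoped commutatorElement

universe u
variable {G : Type u} [Group G] [Finite G]

/-- the Uniqueness Theorem (landed S1403) in the form used by the section 10-12 libraries -/
theorem uniqHyp (hG : IsMinSimpleOddOrder G) : Cfsg.Agent.Lib.Helper49_Sigma.UniqHyp G :=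
  fun K h1 h2 h3 => Cfsg.Agent.S1403.result hG K h1 h2 h3

/-- in a cyclic `p`-group every subgroup of order `p` lies in every nontrivial cyclic subgroup -/
theorem le_zpowers_of_card_eq_prime {P : Type*} [Group P] [Finite P] {p : ℕ} [hp : Fact p.Prime]
    (hc : IsCyclic P) (hP : IsPGroup p P) {R : Subgroup P} (hR : Nat.card R = p) {x : P} (hx : x ≠ 1) :
    R ≤ zpowers x := by
  obtain ⟨g, hg⟩ := IsCyclic.exists_generator (α := P)
  obtain ⟨a, ha⟩ := IsPGroup.iff_card.mp hP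
  have hog : orderOf g = p ^ a := by
    rw [orderOf_eq_card_of_forall_mem_zpowers hg, ha]
  have ha0 : a ≠ 0 := by
    rintro rfl
    rw [pow_zero] at ha
    have : Subsingleton P := (Nat.card_eq_one_iff_unique.mp ha).1
    exact hx (Subsingleton.elim _ _)
  set h : P := g ^ (p ^ (a - 1)) with hh
  have hh1 : h ≠ 1 := by
    intro h1
    rw [hh, ← orderOf_dvd_iff_pow_eq_one, hog, Nat.pow_dvd_pow_iff_le_right hp.out.one_lt] at h1
    omega
  have hhx : h ∈ zpowers x :=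
    Cfsg.Agent.Lib.Helper53_BG16b.pow_mem_zpowers_of_ne_one ha0 hog (hg x) hx
  -- a non-identity element of `R`
  have hRne : R ≠ ⊥ := by
    intro hb
    rw [hb, Subgroup.card_bot] at hR
    exact hp.out.one_lt.ne hR
  obtain ⟨⟨r₀, hr₀⟩, hr₀1'⟩ := (Subgroup.ne_bot_iff_exists_ne_one (H := R)).mp hRne
  have hr₀1 : r₀ ≠ 1 := fun h => hr₀1' (Subtype.ext h)
  have hhr : h ∈ zpowers r₀ :=
    Cfsg.Agent.Lib.Helper53_BG16b.pow_mem_zpowers_of_ne_one ha0 hog (hg r₀) hr₀1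
  have hhR : h ∈ R := (zpowers_le.mpr hr₀) hhr
  -- `R` has prime order, so it is generated by `h`
  have htop : zpowers (⟨h, hhR⟩ : R) = ⊤ :=
    zpowers_eq_top_of_prime_card hR (fun h1 => hh1 (congrArg Subtype.val h1))
  intro r hr
  have : (⟨r, hr⟩ : R) ∈ zpowers (⟨h, hhR⟩ : R) := by rw [htop]; trivial
  obtain ⟨z, hz⟩ := this
  have hz' : h ^ z = r := by
    have := congrArg Subtype.val hz
    simpa using this
  rw [← hz']
  exact Subgroup.zpow_mem _ hhx z

/-- a subgroup of order `p` inside a subgroup of order divisible by `p` -/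
theorem exists_subgroup_card_eq_prime {E : Subgroup G} {p : ℕ} (hpp : p.Prime)
    (hd : p ∣ Nat.card E) : ∃ R : Subgroup G, R ≤ E ∧ Nat.card R = p := by
  haveI : Fact p.Prime := ⟨hpp⟩
  obtain ⟨x, hx⟩ := exists_prime_orderOf_dvd_card' p hd
  refine ⟨zpowers (x : G), zpowers_le.mpr x.2, ?_⟩
  rw [Nat.card_zpowers, Subgroup.orderOf_coe, hx]

/-- a nontrivial subgroup contains a non-identity element -/
theorem exists_mem_ne_one {H : Subgroup G} (h : H ≠ ⊥) : ∃ y ∈ H, y ≠ 1 := by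
  by_contra hcon
  push Not at hcon
  exact h ((Subgroup.eq_bot_iff_forall _).mpr hcon)

/-- a subgroup of prime order is nontrivial -/
theorem ne_bot_of_card_prime {R : Subgroup G} (h : (Nat.card R).Prime) : R ≠ ⊥ := by
  intro hb
  rw [hb, Subgroup.card_bot] at h
  exact Nat.not_prime_one h

/-- for `p ∈ κ(M)` every subgroup of order `p` of `M` centralizes a non-identity element of `M_σ` -/
theorem nonreg_of_kappa {M : Subgroup G} {p : ℕ} (hp : p ∈ kappa M) {R : Subgroup G} (hRM : R ≤ M)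
    (hR : Nat.card R = p) : sigmaCore M ⊓ centralizer (R : Set G) ≠ ⊥ := by
  obtain ⟨hpp, hpM, hpσ, hS⟩ := hp
  haveI : Fact p.Prime := ⟨hpp⟩
  have hR' : Nat.card (R.subgroupOf M) = p := by
    rw [Nat.card_congr (Subgroup.subgroupOfEquivOfLe hRM).toEquiv, hR]
  have hRp : IsPGroup p (R.subgroupOf M) := IsPGroup.of_card (n := 1) (by rw [hR', pow_one])
  obtain ⟨P, hP⟩ := hRp.exists_le_sylow
  obtain ⟨hPc, x, hxP, hx1, y, hy, hy1, hxy⟩ := hS P
  have hR'' : Nat.card ((R.subgroupOf M).subgroupOf (P : Subgroup ↥M)) = p := by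
    rw [Nat.card_congr (Subgroup.subgroupOfEquivOfLe hP).toEquiv, hR']
  have key : (R.subgroupOf M).subgroupOf (P : Subgroup ↥M) ≤ zpowers (⟨x, hxP⟩ : (P : Subgroup ↥M)) :=
    le_zpowers_of_card_eq_prime hPc P.isPGroup' hR''
      (fun h => hx1 (congrArg Subtype.val h))
  intro hbot
  apply hy1
  have hyc : y ∈ centralizer (R : Set G) := by
    rw [mem_centralizer_iff]
    intro r hr
    have hrM : (⟨r, hRM hr⟩ : ↥M) ∈ R.subgroupOf M := by
      rw [mem_subgroupOf]; exact hr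
    have hrP : (⟨⟨r, hRM hr⟩, hP hrM⟩ : (P : Subgroup ↥M)) ∈
        (R.subgroupOf M).subgroupOf (P : Subgroup ↥M) := by
      rw [mem_subgroupOf]; exact hrM
    obtain ⟨z, hz⟩ := key hrP
    have hz' : (x : G) ^ z = r := by
      have h1 := congrArg Subtype.val (congrArg Subtype.val hz)
      simpa using h1
    rw [← hz']
    have hc : Commute (x : G) y := hxy
    exact (hc.zpow_left z).eq
  have hmem : y ∈ sigmaCore M ⊓ centralizer (R : Set G) := ⟨hy, hyc⟩
  rw [hbot, mem_bot] at hmem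
  exact hmem

/-- a prime `p ∉ σ(M)` of rank one with a nonregular subgroup of order `p` lies in `κ(M)` -/
theorem kappa_of_nonreg (hG : IsMinSimpleOddOrder G) {M : Subgroup G} {p : ℕ} (hpp : p.Prime)
    (hpσ : p ∉ sigma M) (hr1 : PRankLE p 1 ↥M) {R : Subgroup G} (hRM : R ≤ M) (hR : Nat.card R = p)
    (hne : sigmaCore M ⊓ centralizer (R : Set G) ≠ ⊥) : p ∈ kappa M := by
  haveI : Fact p.Prime := ⟨hpp⟩
  obtain ⟨e, he, he1⟩ := exists_mem_ne_one (ne_bot_of_card_prime (hR ▸ hpp))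
  have hoe : orderOf e = p := by
    have h1 : orderOf e ∣ p := by rw [← hR]; exact Subgroup.orderOf_dvd_natCard R he
    rcases (Nat.dvd_prime hpp).mp h1 with h | h
    · exact absurd (orderOf_eq_one_iff.mp h) he1
    · exact h
  obtain ⟨y, hy, hy1⟩ := exists_mem_ne_one hne
  have hc : e * y = y * e := mem_centralizer_iff.mp hy.2 e he
  exact Cfsg.Agent.Lib.Helper53_BG16b.mem_kappa_of_centralizing hG hpσ hr1 (hRM he)
    (by rw [hoe]) hy.1 hy1 hc

section main

variable {M E K : Subgroup G}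

/-- a prime dividing `|M|` outside `σ(M)` divides the order of a complement of `M_σ` -/
theorem dvd_card_compl (hG : IsMinSimpleOddOrder G) (hM : IsCoatom M)
    (hE : IsComplIn E (sigmaCore M) M) {p : ℕ} (hpp : p.Prime) (hpM : p ∣ Nat.card M)
    (hpσ : p ∉ sigma M) : p ∣ Nat.card E := by
  rw [Cfsg.Agent.Lib.Helper53_BG16.card_of_isComplIn hE] at hpM
  rcases (Nat.Prime.dvd_mul hpp).mp hpM with h | h
  · exact h
  · exact absurd ((Cfsg.Agent.Lib.Helper76_BG13b.sigma_hall hG hM).2.1 p hpp h) hpσ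

/-- no prime of `σ(M)` divides the order of a complement of `M_σ` -/
theorem not_mem_sigma_of_dvd_card_compl (hG : IsMinSimpleOddOrder G) (hM : IsCoatom M)
    (hE : IsComplIn E (sigmaCore M) M) {p : ℕ} (hpp : p.Prime) (hpE : p ∣ Nat.card E) :
    p ∉ sigma M :=
  (Cfsg.Agent.Lib.Helper76_BG13a.piHall_of_isComplIn
    (Cfsg.Agent.Lib.Helper76_BG13b.sigma_hall hG hM) hE).2.1 p hpp hpE

/-- outside Case B, `κ(M) ⊆ τ₁(M)` -/
theorem mem_tau1_of_mem_kappa (hG : IsMinSimpleOddOrder G) (hM : IsCoatom M)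
    (hE : IsComplIn E (sigmaCore M) M)
    (hA : ¬ ∃ r ∈ tau3 M, ∃ R : Subgroup G, R ≤ E ∧ Nat.card R = r ∧
      sigmaCore M ⊓ centralizer (R : Set G) ≠ ⊥) {p : ℕ} (hp : p ∈ kappa M) : p ∈ tau1 M := by
  have hp' := hp
  obtain ⟨hpp, hpM, hpσ, hS⟩ := hp
  haveI : Fact p.Prime := ⟨hpp⟩
  have hr1 : PRankLE p 1 ↥M :=
    Cfsg.Agent.Lib.Helper29_BG144c.pRankLE_one_of_sylow_cyclic p (fun P => (hS P).1)
  by_cases hd : p ∣ Nat.card ↥⁅M, M⁆
  · exfalso
    obtain ⟨R, hRE, hR⟩ := exists_subgroup_card_eq_prime hpp (dvd_card_compl hG hM hE hpp hpM hpσ)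
    exact hA ⟨p, ⟨hpp, hpσ, hd, hr1⟩, R, hRE, hR, nonreg_of_kappa hp' (hRE.trans hE.1) hR⟩
  · exact ⟨hpp, hpσ, hpM, hd, hr1⟩

/-- a nontrivial subgroup has a subgroup of prime order -/
theorem exists_prime_subgroup {K : Subgroup G} (hK1 : K ≠ ⊥) :
    ∃ p : ℕ, p.Prime ∧ p ∣ Nat.card K ∧ ∃ P : Subgroup G, P ≤ K ∧ Nat.card P = p := by
  have h1 : Nat.card K ≠ 1 := fun h => hK1 (Subgroup.card_eq_one.mp h)
  obtain ⟨p, hpp, hpK⟩ := Nat.exists_prime_and_dvd h1
  obtain ⟨P, hPK, hP⟩ := exists_subgroup_card_eq_prime hpp hpK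
  exact ⟨p, hpp, hpK, P, hPK, hP⟩

/-- elements of a cyclic subgroup commute -/
theorem commute_of_isCyclic {C : Subgroup G} (hC : IsCyclic C) {a b : G} (ha : a ∈ C) (hb : b ∈ C) :
    a * b = b * a := by
  letI := IsCyclic.commGroup (α := ↥C)
  have := mul_comm (⟨a, ha⟩ : ↥C) ⟨b, hb⟩
  exact congrArg Subtype.val this

/-- subgroups of a cyclic subgroup centralize each other -/
theorem le_centralizer_of_isCyclic {C A B : Subgroup G} (hC : IsCyclic C) (hA : A ≤ C) (hB : B ≤ C) :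
    A ≤ centralizer (B : Set G) := by
  intro a ha
  rw [mem_centralizer_iff]
  intro b hb
  exact commute_of_isCyclic hC (hB hb) (hA ha)

/-- outside Case B, a nontrivial Hall `κ(M)`-subgroup of `M` inside the complement `E` is a (cyclic)
Hall `τ₁(M)`-subgroup of `E` -/
theorem hall_tau1 (hG : IsMinSimpleOddOrder G) (h28 : H1428 G) (hM : IsCoatom M)
    (hE : IsComplIn E (sigmaCore M) M) (hK : IsPiHallOf (kappa M) K M) (hK1 : K ≠ ⊥) (hKE : K ≤ E)
    (hA : ¬ ∃ r ∈ tau3 M, ∃ R : Subgroup G, R ≤ E ∧ Nat.card R = r ∧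
      sigmaCore M ⊓ centralizer (R : Set G) ≠ ⊥) :
    IsPiHallOf (tau1 M) K E ∧ IsCyclic K := by
  have hsolvE : Group.IsSolvable ↥E := Cfsg.Agent.Lib.Helper76_BG13b.isSolvable_of_le hG hM hE.1
  have hKτ : ∀ q : ℕ, q.Prime → q ∣ Nat.card K → q ∈ tau1 M := fun q hq hd =>
    mem_tau1_of_mem_kappa hG hM hE hA (hK.2.1 q hq hd)
  obtain ⟨E₁, hE₁, hKE₁⟩ := Cfsg.Agent.Lib.Helper24_CoprimeHall.exists_piHall_ge hsolvE hKE hKτ
  have hE₁' : IsPiHallOf (tau1 M) E₁ E :=
    (Cfsg.Agent.Lib.Helper24_CoprimeHall.isPiHallOf_iff _ _ _).mpr hE₁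
  have hcyc : IsCyclic E₁ := (Cfsg.Agent.S1415.result hG M hM E hE).2.1 E₁ hE₁'
  obtain ⟨p, hpp, hpK, P, hPK, hP⟩ := exists_prime_subgroup hK1
  have hpκ : p ∈ kappa M := hK.2.1 p hpp hpK
  have hpτ : p ∈ tau1 M := hKτ p hpp hpK
  have hPE : P ≤ E := hPK.trans hKE
  have hPnr : sigmaCore M ⊓ centralizer (P : Set G) ≠ ⊥ :=
    nonreg_of_kappa hpκ (hPE.trans hE.1) hP
  -- every prime of `E₁` is in `κ(M)`
  have hE₁κ : ∀ q : ℕ, q.Prime → q ∣ Nat.card E₁ → q ∈ kappa M := by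
    intro q hq hd
    obtain ⟨R, hRE₁, hR⟩ := exists_subgroup_card_eq_prime hq hd
    have hRE : R ≤ E := hRE₁.trans hE₁.1
    have hRc : R ≤ centralizer (P : Set G) :=
      le_centralizer_of_isCyclic hcyc hRE₁ (hPK.trans hKE₁)
    have h1 := h28 M hM E hE p hpτ P hPE hP R (le_inf hRE hRc) (hR ▸ hq)
    have hRnr : sigmaCore M ⊓ centralizer (R : Set G) ≠ ⊥ := by
      intro hb
      apply hPnr
      rw [hb] at h1
      exact le_bot_iff.mp h1
    have hqτ : q ∈ tau1 M := hE₁.2.1 q hq hd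
    exact kappa_of_nonreg hG hq hqτ.2.1 hqτ.2.2.2.2 (hRE.trans hE.1) hR hRnr
  have hdvd : Nat.card E₁ ∣ Nat.card K :=
    ((Cfsg.Agent.Lib.Helper24_CoprimeHall.isPiHallOf_iff _ _ _).mp hK).card_dvd
      (hE₁.1.trans hE.1) hE₁κ
  have hEq : K = E₁ := Subgroup.eq_of_le_of_card_ge hKE₁ (Nat.le_of_dvd Nat.card_pos hdvd)
  rw [hEq]
  exact ⟨hE₁', hcyc⟩

/-- a subgroup containing a Sylow `q`-subgroup for every prime `q` is the whole group -/
theorem eq_top_of_forall_sylow_le {H : Type*} [Group H] [Finite H] (L : Subgroup H)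
    (h : ∀ (q : ℕ) [Fact q.Prime], q ∣ Nat.card H → ∃ Q : Sylow q H, (Q : Subgroup H) ≤ L) :
    L = ⊤ := by
  by_contra hne
  have h1 : L.index ≠ 1 := fun h' => hne (Subgroup.index_eq_one.mp h')
  obtain ⟨q, hq, hd⟩ := Nat.exists_prime_and_dvd h1
  haveI : Fact q.Prime := ⟨hq⟩
  obtain ⟨Q, hQ⟩ := h q (hd.trans (Subgroup.index_dvd_card L))
  exact Q.not_dvd_index (hd.trans (Subgroup.index_dvd_of_le hQ))

/-- `K`, a cyclic Hall `τ₁(M)`-subgroup of `E`, acts in a prime manner on `M_σ` -/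
theorem prime_action (hG : IsMinSimpleOddOrder G) (h28 : H1428 G) (hM : IsCoatom M)
    (hE : IsComplIn E (sigmaCore M) M) (hKτ : IsPiHallOf (tau1 M) K E) (hKc : IsCyclic K) :
    ∀ k ∈ K, k ≠ 1 →
      sigmaCore M ⊓ centralizer ({k} : Set G) = sigmaCore M ⊓ centralizer (K : Set G) := by
  intro k hk hk1
  apply le_antisymm
  · intro y hy
    have hyσ : y ∈ sigmaCore M := hy.1
    have hyc : y ∈ centralizer ({k} : Set G) := hy.2
    obtain ⟨p, hpp, k₀, hk₀z, hk₀⟩ :=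
      Cfsg.Agent.Lib.Helper76_BG13c.exists_prime_order_mem_zpowers hk1
    have hk₀K : k₀ ∈ K := (zpowers_le.mpr hk) hk₀z
    have hPK : zpowers k₀ ≤ K := zpowers_le.mpr hk₀K
    have hP : Nat.card (zpowers k₀) = p := by rw [Nat.card_zpowers, hk₀]
    have hpK : p ∣ Nat.card K := hP ▸ Subgroup.card_dvd_of_le hPK
    have hpτ : p ∈ tau1 M := hKτ.2.1 p hpp hpK
    have hyP : y ∈ centralizer ((zpowers k₀ : Subgroup G) : Set G) :=
      Cfsg.Agent.Lib.Helper76_BG13c.centralizer_singleton_le_centralizer_zpowers hk₀z hyc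
    have hL : (centralizer ({y} : Set G)).subgroupOf K = ⊤ := by
      apply eq_top_of_forall_sylow_le
      intro q _ hqK
      have hq : q.Prime := Fact.out
      obtain ⟨Q⟩ := (inferInstance : Nonempty (Sylow q ↥K))
      refine ⟨Q, ?_⟩
      have hqτ : q ∈ tau1 M := hKτ.2.1 q hq hqK
      -- an element of order `q` of `Q`
      obtain ⟨x, hx⟩ := exists_prime_orderOf_dvd_card' q (Q.dvd_card_of_dvd_card hqK)
      set x' : G := ((x : ↥K) : G) with hx'
      have hox' : orderOf x' = q := by rw [hx', Subgroup.orderOf_coe, Subgroup.orderOf_coe, hx]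
      have hx'K : x' ∈ K := (x : ↥K).2
      have hx'1 : x' ≠ 1 := by
        intro h1
        rw [h1, orderOf_one] at hox'
        exact hq.one_lt.ne hox'
      have hRK : zpowers x' ≤ K := zpowers_le.mpr hx'K
      have hR : Nat.card (zpowers x') = q := by rw [Nat.card_zpowers, hox']
      have hRc : zpowers x' ≤ centralizer ((zpowers k₀ : Subgroup G) : Set G) :=
        le_centralizer_of_isCyclic hKc hRK hPK
      have h1 := h28 M hM E hE p hpτ (zpowers k₀) (hPK.trans hKτ.1) hP (zpowers x')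
        (le_inf (hRK.trans hKτ.1) hRc) (hR ▸ hq)
      have hyR : y ∈ centralizer ((zpowers x' : Subgroup G) : Set G) := (h1 ⟨hyσ, hyP⟩).2
      have hyx : x' * y = y * x' := mem_centralizer_iff.mp hyR x' (mem_zpowers x')
      -- a Sylow `q`-subgroup of `E` over `Q`
      set Q' : Subgroup G := (Q : Subgroup ↥K).map K.subtype with hQ'
      have hQ'K : Q' ≤ K := Subgroup.map_subtype_le _
      have hQ'p : IsPGroup q Q' := Q.isPGroup'.map _
      have hx'Q' : x' ∈ Q' := Subgroup.mem_map_of_mem _ x.2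
      obtain ⟨S, hS⟩ := (hQ'p.comap_subtype (K := E)).exists_le_sylow
      have hx'E : x' ∈ E := hKτ.1 hx'K
      have hx'S : (⟨x', hx'E⟩ : ↥E) ∈ (S : Subgroup ↥E) := hS (show (⟨x', hx'E⟩ : ↥E) ∈ Q'.subgroupOf E from
        mem_subgroupOf.mpr hx'Q')
      have hS1 : (S : Subgroup ↥E) ≠ ⊥ := by
        intro hb
        rw [hb, mem_bot] at hx'S
        exact hx'1 (congrArg Subtype.val hx'S)
      have hq2 : q ≠ 2 := by
        rintro rfl
        exact Cfsg.Agent.Lib.Helper53_BG16.two_not_dvd_card hG M hqτ.2.2.1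
      have hSr : PRankLE q 1 ↥(S : Subgroup ↥E) :=
        Cfsg.Agent.Lib.Helper2_PRank.pRankLE_of_injective' q 1
          ((Subgroup.inclusion hE.1).comp (S : Subgroup ↥E).subtype)
          ((Subgroup.inclusion_injective hE.1).comp (Subgroup.subtype_injective _)) hqτ.2.2.2.2
      have hSc : IsCyclic (S : Subgroup ↥E) :=
        Cfsg.Agent.Lib.Helper29_BG12a.isCyclic_of_pRankLE_one hq2 S.isPGroup' hSr
      have h27 := Cfsg.Agent.S1427.result hG M hM E hE q S hS1 hSc x'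
        ⟨⟨x', hx'E⟩, hx'S, rfl⟩ hx'1
      have hyx' : y ∈ centralizer ({x'} : Set G) := mem_centralizer_singleton_iff.mpr hyx.symm
      have hyS : y ∈ sigmaCore M ⊓ centralizer
          ((((S : Subgroup ↥E).map E.subtype : Subgroup G)) : Set G) := by
        rw [← h27]; exact ⟨hyσ, hyx'⟩
      intro t ht
      rw [mem_subgroupOf, mem_centralizer_singleton_iff]
      have htQ' : (t : G) ∈ Q' := Subgroup.mem_map_of_mem _ ht
      have htE : (t : G) ∈ E := hKτ.1 t.2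
      have htS : (t : G) ∈ (S : Subgroup ↥E).map E.subtype :=
        ⟨⟨(t : G), htE⟩, hS (show (⟨(t : G), htE⟩ : ↥E) ∈ Q'.subgroupOf E from
          mem_subgroupOf.mpr htQ'), rfl⟩
      exact mem_centralizer_iff.mp hyS.2 (t : G) htS
    have hyK : y ∈ centralizer (K : Set G) := by
      rw [mem_centralizer_iff]
      intro x hx
      have h1 : (⟨x, hx⟩ : ↥K) ∈ (centralizer ({y} : Set G)).subgroupOf K := by rw [hL]; trivial
      rw [mem_subgroupOf, mem_centralizer_singleton_iff] at h1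
      exact h1
    exact ⟨hyσ, hyK⟩
  · intro y hy
    exact ⟨hy.1, Subgroup.centralizer_le (Set.singleton_subset_iff.mpr hk) hy.2⟩

/-- complements in `M` may be swapped -/
theorem isComplIn_symm {A B M : Subgroup G} (h : IsComplIn A B M) : IsComplIn B A M := by
  obtain ⟨hA, hB, hAB, hM⟩ := h
  refine ⟨hB, hA, by rw [inf_comm]; exact hAB, ?_⟩
  intro m hm
  obtain ⟨a, ha, b, hb, hab⟩ := hM m⁻¹ (M.inv_mem hm)
  refine ⟨b⁻¹, B.inv_mem hb, a⁻¹, A.inv_mem ha, ?_⟩
  rw [← mul_inv_rev, ← hab, inv_inv]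

/-- a subgroup of `E` containing `E'` is normal in `E` -/
theorem le_normalizer_of_commutator_le {E U : Subgroup G} (hUE : U ≤ E) (h : ⁅E, E⁆ ≤ U) :
    E ≤ normalizer (U : Set G) := by
  intro e he
  rw [mem_normalizer_iff]
  intro u
  constructor
  · intro hu
    have h1 : ⁅e, u⁆ ∈ U := h (Subgroup.commutator_mem_commutator he (hUE hu))
    have h2 : e * u * e⁻¹ = ⁅e, u⁆ * u := by rw [commutatorElement_def]; group
    rw [h2]; exact U.mul_mem h1 hu
  · intro hu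
    have h1 : ⁅e⁻¹, e * u * e⁻¹⁆ ∈ U :=
      h (Subgroup.commutator_mem_commutator (E.inv_mem he) (hUE hu))
    have h2 : u = ⁅e⁻¹, e * u * e⁻¹⁆ * (e * u * e⁻¹) := by rw [commutatorElement_def]; group
    rw [h2]; exact U.mul_mem h1 hu

/-- the normal Hall `τ₁(M)'`-subgroup `U` of `E`: a complement of `K` in `E` and a Hall subgroup of `M`
for the primes outside `κ(M) ∪ σ(M)` -/
theorem exists_U (hG : IsMinSimpleOddOrder G) (hM : IsCoatom M) (hE : IsComplIn E (sigmaCore M) M)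
    (hK : IsPiHallOf (kappa M) K M) (hKτ : IsPiHallOf (tau1 M) K E)
    (hκτ : ∀ p, p ∈ kappa M → p ∈ tau1 M) :
    ∃ U : Subgroup G, U ≤ E ∧ E ≤ normalizer (U : Set G) ∧
      IsPiHallOf {q | q.Prime ∧ q ∉ kappa M ∧ q ∉ sigma M} U M ∧ IsComplIn K U E ∧
      ∀ q : ℕ, q.Prime → q ∣ Nat.card U → q ∉ tau1 M := by
  have hsolvE : Group.IsSolvable ↥E := Cfsg.Agent.Lib.Helper76_BG13b.isSolvable_of_le hG hM hE.1
  have hE'E : ⁅E, E⁆ ≤ E := Subgroup.commutator_le.mpr fun _ ha _ hb =>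
    E.mul_mem (E.mul_mem (E.mul_mem ha hb) (E.inv_mem ha)) (E.inv_mem hb)
  have hE'τ : ∀ q : ℕ, q.Prime → q ∣ Nat.card ↥⁅E, E⁆ → q ∈ {q | q ∉ tau1 M} := by
    intro q hq hd hqτ
    exact hqτ.2.2.2.1 (hd.trans (Subgroup.card_dvd_of_le (Subgroup.commutator_mono hE.1 hE.1)))
  obtain ⟨U, hU, hE'U⟩ := Cfsg.Agent.Lib.Helper24_CoprimeHall.exists_piHall_ge
    (π := {q | q ∉ tau1 M}) hsolvE hE'E hE'τ
  have hUE : U ≤ E := hU.1
  have hcompl : IsComplIn U K E := Cfsg.Agent.Lib.Helper76_BG13a.isComplIn_of_piHall hKτ hU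
  have hcompl' : IsComplIn K U E := isComplIn_symm hcompl
  refine ⟨U, hUE, le_normalizer_of_commutator_le hUE hE'U, ?_, hcompl',
    fun q hq hd => hU.2.1 q hq hd⟩
  rw [Cfsg.Agent.Lib.Helper24_CoprimeHall.isPiHallOf_iff]
  have hcardE : Nat.card E = Nat.card K * Nat.card U :=
    Cfsg.Agent.Lib.Helper53_BG16.card_of_isComplIn hcompl'
  have hcardM : Nat.card M = Nat.card E * Nat.card (sigmaCore M) :=
    Cfsg.Agent.Lib.Helper53_BG16.card_of_isComplIn hE
  refine ⟨hUE.trans hE.1, ?_, ?_⟩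
  · intro q hq hd
    have hqE : q ∣ Nat.card E := hd.trans (Subgroup.card_dvd_of_le hUE)
    exact ⟨hq, fun hκ => hU.2.1 q hq hd (hκτ q hκ),
      not_mem_sigma_of_dvd_card_compl hG hM hE hq hqE⟩
  · intro q hq hqπ hd
    have h1 : Nat.card M / Nat.card U = Nat.card K * Nat.card (sigmaCore M) := by
      rw [hcardM, hcardE, mul_comm (Nat.card K) (Nat.card U), mul_assoc,
        Nat.mul_div_cancel_left _ Nat.card_pos]
    rw [h1] at hd
    rcases (Nat.Prime.dvd_mul hq).mp hd with h | h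
    · exact hqπ.2.1 (hK.2.1 q hq h)
    · exact hqπ.2.2 ((Cfsg.Agent.Lib.Helper76_BG13b.sigma_hall hG hM).2.1 q hq h)

/-- outside Case B, the non-identity elements of `K` act fixed-point-freely on every `τ₁(M)'`-subgroup
of `E` (B-G 13.4 and 13.7 as hypotheses) -/
theorem U_regular (hG : IsMinSimpleOddOrder G) (h28 : H1428 G) (hF1 : F1 G) (hM : IsCoatom M)
    (hE : IsComplIn E (sigmaCore M) M)
    (hA : ¬ ∃ r ∈ tau3 M, ∃ R : Subgroup G, R ≤ E ∧ Nat.card R = r ∧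
      sigmaCore M ⊓ centralizer (R : Set G) ≠ ⊥)
    (hK : IsPiHallOf (kappa M) K M) (hKE : K ≤ E) {U : Subgroup G} (hUE : U ≤ E)
    (hUτ : ∀ q : ℕ, q.Prime → q ∣ Nat.card U → q ∉ tau1 M) :
    ∀ k ∈ K, k ≠ 1 → U ⊓ centralizer ({k} : Set G) = ⊥ := by
  intro k hk hk1
  by_contra hne
  obtain ⟨r, hr, hrd, R, hRle, hR⟩ := exists_prime_subgroup hne
  have hRU : R ≤ U := hRle.trans inf_le_left
  have hRk : R ≤ centralizer ({k} : Set G) := hRle.trans inf_le_right
  have hRE : R ≤ E := hRU.trans hUE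
  obtain ⟨p, hpp, k₀, hk₀z, hk₀⟩ :=
    Cfsg.Agent.Lib.Helper76_BG13c.exists_prime_order_mem_zpowers hk1
  have hk₀K : k₀ ∈ K := (zpowers_le.mpr hk) hk₀z
  have hPK : zpowers k₀ ≤ K := zpowers_le.mpr hk₀K
  have hP : Nat.card (zpowers k₀) = p := by rw [Nat.card_zpowers, hk₀]
  have hpK : p ∣ Nat.card K := hP ▸ Subgroup.card_dvd_of_le hPK
  have hpκ : p ∈ kappa M := hK.2.1 p hpp hpK
  have hpτ : p ∈ tau1 M := mem_tau1_of_mem_kappa hG hM hE hA hpκ
  have hPE : zpowers k₀ ≤ E := hPK.trans hKE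
  have hRc : R ≤ centralizer ((zpowers k₀ : Subgroup G) : Set G) :=
    hRk.trans (Cfsg.Agent.Lib.Helper76_BG13c.centralizer_singleton_le_centralizer_zpowers hk₀z)
  have hPnr := nonreg_of_kappa hpκ (hPE.trans hE.1) hP
  have h1 := h28 M hM E hE p hpτ (zpowers k₀) hPE hP R (le_inf hRE hRc) (hR ▸ hr)
  have hRnr : sigmaCore M ⊓ centralizer (R : Set G) ≠ ⊥ := by
    intro hb
    apply hPnr
    rw [hb] at h1
    exact le_bot_iff.mp h1
  have hrU : r ∣ Nat.card U := hR ▸ Subgroup.card_dvd_of_le hRU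
  have hrE : r ∣ Nat.card E := hrU.trans (Subgroup.card_dvd_of_le hUE)
  have hrτ1 : r ∉ tau1 M := hUτ r hr hrU
  rcases Cfsg.Agent.Lib.Helper97_BG1211f.mem_tau_of_dvd_card hG (uniqHyp hG) hM hE hr hrE with h | h
  · rcases h with h | h
    · exact hrτ1 h
    · exact hA ⟨r, h, R, hRE, hR, hRnr⟩
  · haveI : Fact r.Prime := ⟨hr⟩
    obtain ⟨A, hAE, hAe, hA2⟩ := Cfsg.Agent.Lib.Helper76_BG13c.exists_elemAb_le_compl hG hM hE h
    have h18 := (Cfsg.Agent.S1418.result hG M hM E hE r h A ⟨hAE, hAe, hA2⟩).1.2 R hRE hR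
    have hF := hF1 M hM E hE p hpτ (zpowers k₀) hPE hP hPnr r h A hAE hAe hA2
    have hle : R ≤ A ⊓ centralizer ((zpowers k₀ : Subgroup G) : Set G) := le_inf h18 hRc
    rw [hF] at hle
    exact ne_bot_of_card_prime (hR ▸ hr) (le_bot_iff.mp hle)

/-- a subgroup `U` of `E` normalized by `K ≠ 1`, on which `K` acts regularly, is abelian -/
theorem U_comm (hG : IsMinSimpleOddOrder G) (hM : IsCoatom M) (hE : IsComplIn E (sigmaCore M) M)
    (hK1 : K ≠ ⊥) (hKE : K ≤ E) {U : Subgroup G} (hUE : U ≤ E)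
    (hEU : E ≤ normalizer (U : Set G))
    (hreg : ∀ k ∈ K, k ≠ 1 → U ⊓ centralizer ({k} : Set G) = ⊥) : IsMulCommutative U := by
  have hnil : Group.IsNilpotent U := by
    apply Cfsg.Agent.Lib.Helper52_FrobFormula.nilpotent_of_fpf U K hK1
    · intro e he u hu
      exact (mem_normalizer_iff.mp (hEU (hKE he)) u).mp hu
    · intro e he he1 u hu hc
      have huc : u ∈ centralizer ({e} : Set G) := mem_centralizer_singleton_iff.mpr hc.symm
      have hmem : u ∈ U ⊓ centralizer ({e} : Set G) := Subgroup.mem_inf.mpr ⟨hu, huc⟩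
      rw [hreg e he he1, mem_bot] at hmem
      exact hmem
  exact (Cfsg.Agent.S1420.result hG M hM E hE).1 U (hUE.trans hE.1) hnil
    (fun p hp hd => not_mem_sigma_of_dvd_card_compl hG hM hE hp
      (hd.trans (Subgroup.card_dvd_of_le hUE)))

/-- `N_E(X) = K` for every nontrivial subgroup `X` of `K` -/
theorem normalizer_inf (hKc : IsCyclic K) (hKE : K ≤ E) {U : Subgroup G}
    (hEU : E ≤ normalizer (U : Set G)) (hcompl : IsComplIn K U E)
    (hreg : ∀ k ∈ K, k ≠ 1 → U ⊓ centralizer ({k} : Set G) = ⊥) :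
    ∀ X : Subgroup G, X ≤ K → X ≠ ⊥ → E ⊓ normalizer (X : Set G) = K := by
  intro X hXK hX1
  have hKN : K ≤ normalizer (X : Set G) :=
    (le_centralizer_of_isCyclic hKc le_rfl hXK).trans (centralizer_le_normalizer _)
  apply le_antisymm
  · intro e he
    have heE : e ∈ E := he.1
    have heN : e ∈ normalizer (X : Set G) := he.2
    obtain ⟨k, hk, u, hu, rfl⟩ := hcompl.2.2.2 e heE
    have hkN : k ∈ normalizer (X : Set G) := hKN hk
    have huN : u ∈ normalizer (X : Set G) := by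
      have h0 : u = k⁻¹ * (k * u) := by group
      rw [h0]
      exact Subgroup.mul_mem _ (Subgroup.inv_mem _ hkN) heN
    obtain ⟨x, hx, hx1⟩ := exists_mem_ne_one hX1
    have hxK : x ∈ K := hXK hx
    have h1 : u * x * u⁻¹ ∈ X := (mem_normalizer_iff.mp huN x).mp hx
    have h2 : u * x * u⁻¹ * x⁻¹ ∈ X := X.mul_mem h1 (X.inv_mem hx)
    have h3 : x * u⁻¹ * x⁻¹ ∈ U :=
      (mem_normalizer_iff.mp (hEU (hKE hxK)) u⁻¹).mp (U.inv_mem hu)
    have h4 : u * x * u⁻¹ * x⁻¹ ∈ U := by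
      have h0 : u * x * u⁻¹ * x⁻¹ = u * (x * u⁻¹ * x⁻¹) := by group
      rw [h0]
      exact U.mul_mem hu h3
    have h5 : u * x * u⁻¹ * x⁻¹ ∈ K ⊓ U := Subgroup.mem_inf.mpr ⟨hXK h2, h4⟩
    rw [hcompl.2.2.1, mem_bot] at h5
    have h6 : u * x = x * u := by
      have h0 : u * x = (u * x * u⁻¹ * x⁻¹) * (x * u) := by group
      rw [h0, h5, one_mul]
    have h7 : u ∈ U ⊓ centralizer ({x} : Set G) :=
      Subgroup.mem_inf.mpr ⟨hu, mem_centralizer_singleton_iff.mpr h6⟩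
    rw [hreg x hxK hx1, mem_bot] at h7
    rw [h7, mul_one]
    exact hk
  · exact le_inf hKE hKN

end main

/-- **B-G Theorem 14.2, Case A core** (piece PA of the 14.2 skeleton; `hA` is `¬ CaseB M E` unfolded).
`K` a nontrivial Hall `κ(M)`-subgroup of `M` inside the complement `E`, not Case B. -/
theorem caseA_core (hG : IsMinSimpleOddOrder G) (h28 : H1428 G) (hF1 : F1 G) {M E K : Subgroup G}
    (hM : IsCoatom M) (hE : IsComplIn E (sigmaCore M) M) (hK : IsPiHallOf (kappa M) K M) (hK1 : K ≠ ⊥)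
    (hKE : K ≤ E)
    (hA : ¬ ∃ r ∈ tau3 M, ∃ R : Subgroup G, R ≤ E ∧ Nat.card R = r ∧
      sigmaCore M ⊓ centralizer (R : Set G) ≠ ⊥) :
    IsPiHallOf (tau1 M) K E ∧
    (∀ k ∈ K, k ≠ 1 → sigmaCore M ⊓ centralizer ({k} : Set G) = sigmaCore M ⊓ centralizer (K : Set G)) ∧
    (∃ U : Subgroup G, U ≤ E ∧ IsMulCommutative U ∧ E ≤ normalizer (U : Set G) ∧
      IsPiHallOf {q | q.Prime ∧ q ∉ kappa M ∧ q ∉ sigma M} U M ∧ IsComplIn K U E ∧
      ∀ k ∈ K, k ≠ 1 → U ⊓ centralizer ({k} : Set G) = ⊥) ∧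
    (∀ X : Subgroup G, X ≤ K → X ≠ ⊥ → E ⊓ normalizer (X : Set G) = K) := by
  obtain ⟨hKτ, hKc⟩ := hall_tau1 hG h28 hM hE hK hK1 hKE hA
  obtain ⟨U, hUE, hEU, hUH, hcompl, hUτ⟩ := exists_U hG hM hE hK hKτ
    (fun p hp => mem_tau1_of_mem_kappa hG hM hE hA hp)
  have hreg := U_regular hG h28 hF1 hM hE hA hK hKE hUE hUτ
  exact ⟨hKτ, prime_action hG h28 hM hE hKτ hKc,
    ⟨U, hUE, U_comm hG hM hE hK1 hKE hUE hEU hreg, hEU, hUH, hcompl, hreg⟩,
    normalizer_inf hKc hKE hEU hcompl hreg⟩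

end Cfsg.Agent.Lib.Helper53_BG142a
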