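import Mathlib
import Cfsg.Prelude.Def_OddOrderLocal
import Cfsg.Agent.Lib.Helper53_BG16d
import Cfsg.Agent.S1446

/-!
# Bender–Glauberman, Section 16, Theorem II (b): the case `M_F ≠ M_σ`

From the exported part of Theorem 15.2 (`S1437`) and Theorem 3.10 (`S1446`, applied in `M / Q₀`) we recover
15.2 (g): `M'' = (M_σ)' ≤ F(M)` and `C_M(M_F) ≤ F(M)`.
-/

set_option autoImplicit false
set_option linter.unusedSectionVars false

namespace Cfsg.Agent.Lib.Helper53_BG16e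

open Subgroup Cfsg Cfsg.Agent.Lib.Helper53_BG16 Cfsg.Agent.Lib.Helper53_BG16b
  Cfsg.Agent.Lib.Helper53_BG16c Cfsg.Agent.Lib.Helper53_BG16d
open scoped commutatorElement

/-! ### General lemmas -/

section General

variable {L : Type*} [Group L]

/-- coprime action on a coset of a centralized `q`-subgroup -/
theorem commute_of_coprime_of_mem {a x : L} {P₀ : Subgroup L} {q : ℕ}
    (hz : a⁻¹ * x * a * x⁻¹ ∈ P₀) (hxc : ∀ y ∈ P₀, x * y = y * x) (hq : IsPGroup q P₀)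
    (hcop : (orderOf x).Coprime q) : x * a = a * x := by
  set z : L := a⁻¹ * x * a * x⁻¹ with hzdef
  have hxa : x * a * x⁻¹ = a * z := by rw [hzdef]; group
  have key : ∀ n : ℕ, x ^ n * a * (x ^ n)⁻¹ = a * z ^ n := by
    intro n
    induction n with
    | zero => simp
    | succ n ih =>
      have hzn : x * z ^ n = z ^ n * x := hxc _ (P₀.pow_mem hz n)
      calc x ^ (n + 1) * a * (x ^ (n + 1))⁻¹ = x * (x ^ n * a * (x ^ n)⁻¹) * x⁻¹ := by
            rw [pow_succ']; group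
        _ = x * (a * z ^ n) * x⁻¹ := by rw [ih]
        _ = (x * a * x⁻¹) * (x * z ^ n) * x⁻¹ := by group
        _ = (a * z) * (z ^ n * x) * x⁻¹ := by rw [hxa, hzn]
        _ = a * z ^ (n + 1) := by rw [pow_succ']; group
  have h1 := key (orderOf x)
  rw [pow_orderOf_eq_one, one_mul, inv_one, mul_one] at h1
  have h2 : z ^ orderOf x = 1 := by
    have := congrArg (fun t => a⁻¹ * t) h1
    simpa using this.symm
  obtain ⟨k, hk⟩ := hq ⟨z, hz⟩
  have hk' : z ^ q ^ k = 1 := by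
    have := congrArg Subtype.val hk
    simpa using this
  have h3 : orderOf z = 1 :=
    Nat.eq_one_of_dvd_coprimes (Nat.Coprime.pow_right k hcop) (orderOf_dvd_of_pow_eq_one h2)
      (orderOf_dvd_of_pow_eq_one hk')
  have h4 : z = 1 := orderOf_eq_one_iff.mp h3
  rw [h4, mul_one] at hxa
  calc x * a = x * a * x⁻¹ * x := by group
    _ = a * x := by rw [hxa]

variable [Finite L]

/-- the order of the image of `P ≥ Z` in `L / Z` -/
theorem card_map_mk' (Z : Subgroup L) [Z.Normal] (P : Subgroup L) (hZP : Z ≤ P) :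
    Nat.card (P.map (QuotientGroup.mk' Z)) * Nat.card Z = Nat.card P := by
  have hsurj : Function.Surjective (QuotientGroup.mk' Z) := QuotientGroup.mk'_surjective Z
  have h1 : (P.map (QuotientGroup.mk' Z)).comap (QuotientGroup.mk' Z) = P := by
    rw [Subgroup.comap_map_eq, QuotientGroup.ker_mk', sup_of_le_left hZP]
  have h2 : (P.map (QuotientGroup.mk' Z)).index = P.index := by
    rw [← Subgroup.index_comap_of_surjective (P.map (QuotientGroup.mk' Z)) hsurj, h1]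
  have h3 := Subgroup.card_mul_index (P.map (QuotientGroup.mk' Z))
  have h4 := Subgroup.card_mul_index P
  have h5 : Nat.card L = Nat.card (L ⧸ Z) * Nat.card Z :=
    Subgroup.card_eq_card_quotient_mul_card_subgroup Z
  have hpos : 0 < P.index := Nat.pos_of_ne_zero Subgroup.index_ne_zero_of_finite
  have h6 : Nat.card (P.map (QuotientGroup.mk' Z)) * Nat.card Z * P.index = Nat.card P * P.index := by
    rw [h4, h5, ← h3, h2]; ring
  exact Nat.eq_of_mul_eq_mul_right hpos h6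

/-- the image of `A` with `A ∩ Z = 1` in `L / Z` has the order of `A` -/
theorem card_map_mk'_of_disjoint (Z : Subgroup L) [Z.Normal] (A : Subgroup L) (h : A ⊓ Z = ⊥) :
    Nat.card (A.map (QuotientGroup.mk' Z)) = Nat.card A := by
  have hinj : Function.Injective ((QuotientGroup.mk' Z).comp A.subtype) := by
    rw [injective_iff_map_eq_one]
    intro a ha
    have h1 : (a : L) ∈ Z := by
      rw [← QuotientGroup.eq_one_iff]; exact ha
    have h2 : (a : L) ∈ A ⊓ Z := ⟨a.2, h1⟩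
    rw [h, mem_bot] at h2
    exact Subtype.ext h2
  have h1 : A.map (QuotientGroup.mk' Z) = ((QuotientGroup.mk' Z).comp A.subtype).range := by
    rw [MonoidHom.range_eq_map, ← Subgroup.map_map, ← MonoidHom.range_eq_map, Subgroup.range_subtype]
  rw [h1]
  exact (Nat.card_congr (MonoidHom.ofInjective hinj).toEquiv).symm

end General

/-! ### Theorem 3.10 in `M / Q₀` -/

section Main

variable {G : Type*} [Group G] [Finite G]

/-- **BG 15.2 (g), core**: `D'` centralizes `Q`, from Theorem 3.10 (`S1446`) applied in `M / C_Q(D)`. -/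
theorem comm_D_centralizes_Q (hodd : Odd (Nat.card G)) {M K Q D : Subgroup G}
    (hMsolv : Group.IsSolvable ↥M) {q : ℕ} [hq : Fact q.Prime]
    (hKM : K ≤ M) (hKp : (Nat.card K).Prime)
    (hQM : Q ≤ M) (hQn : M ≤ normalizer (Q : Set G)) (hQq : IsPGroup q Q)
    (hDM : D ≤ M) (hDq : (Nat.card D).Coprime q) (hKD : K ≤ normalizer (D : Set G))
    (hKq : (Nat.card K).Coprime q) (hKDcop : (Nat.card K).Coprime (Nat.card D))
    (hfrob : ∀ k ∈ K, k ≠ 1 → D ⊓ centralizer ({k} : Set G) = ⊥)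
    (hQ0n : M ≤ normalizer ((Q ⊓ centralizer (D : Set G) : Subgroup G) : Set G))
    (hQ0lt : Q ⊓ centralizer (D : Set G) < Q)
    (hcard : Nat.card Q = Nat.card ↥(Q ⊓ centralizer (D : Set G)) * q ^ Nat.card K) :
    ⁅D, D⁆ ≤ centralizer (Q : Set G) := by
  set Q₀ : Subgroup G := Q ⊓ centralizer (D : Set G) with hQ₀
  have hQ₀Q : Q₀ ≤ Q := inf_le_left
  have hQ₀M : Q₀ ≤ M := hQ₀Q.trans hQM
  have hQ₀q : IsPGroup q Q₀ := hQq.to_le hQ₀Q
  have hQ₀c : ∀ d ∈ D, ∀ y ∈ Q₀, d * y = y * d := fun d hd y hy =>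
    (Subgroup.mem_centralizer_iff.mp hy.2 d hd)
  -- orders
  obtain ⟨j₀, hj₀⟩ := IsPGroup.iff_card.mp hQ₀q
  have hDQ₀ : D ⊓ Q₀ = ⊥ := disjoint_iff.mp
    (Subgroup.disjoint_of_coprime_natCard (by rw [hj₀]; exact Nat.Coprime.pow_right j₀ hDq))
  have hKQ₀ : K ⊓ Q₀ = ⊥ := disjoint_iff.mp
    (Subgroup.disjoint_of_coprime_natCard (by rw [hj₀]; exact Nat.Coprime.pow_right j₀ hKq))
  have hordD : ∀ d ∈ D, (orderOf d).Coprime q := fun d hd =>
    Nat.Coprime.coprime_dvd_left (by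
      have := orderOf_dvd_natCard (⟨d, hd⟩ : ↥D)
      rwa [Subgroup.orderOf_mk] at this) hDq
  -- the quotient
  set Q0m : Subgroup ↥M := Q₀.subgroupOf M with hQ0m
  have hQ0mn : Q0m.Normal := Subgroup.normal_subgroupOf_of_le_normalizer hQ0n
  set Qm : Subgroup ↥M := Q.subgroupOf M with hQm
  set Dm : Subgroup ↥M := D.subgroupOf M with hDm
  set Km : Subgroup ↥M := K.subgroupOf M with hKm
  have hQmn : Qm.Normal := Subgroup.normal_subgroupOf_of_le_normalizer hQn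
  set φ : ↥M →* ↥M ⧸ Q0m := QuotientGroup.mk' Q0m with hφ
  have hφsurj : Function.Surjective φ := QuotientGroup.mk'_surjective Q0m
  have hφ1 : ∀ x : ↥M, φ x = 1 ↔ (x : G) ∈ Q₀ := by
    intro x
    rw [hφ, QuotientGroup.mk'_apply, QuotientGroup.eq_one_iff]
    exact Subgroup.mem_subgroupOf
  have hφcomm : ∀ a x : ↥M, φ x * φ a = φ a * φ x → ((a : G))⁻¹ * x * a * (x : G)⁻¹ ∈ Q₀ := by
    intro a x h
    have h1 : φ (a⁻¹ * x * a * x⁻¹) = 1 := by
      rw [map_mul, map_mul, map_mul, map_inv, map_inv, mul_assoc (φ a)⁻¹, h]; group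
    have := (hφ1 _).mp h1
    simpa using this
  set Qb := Qm.map φ with hQb
  set Db := Dm.map φ with hDb
  set Kb := Km.map φ with hKb
  have hDmQ : Dm ⊓ Q0m = ⊥ := by
    rw [eq_bot_iff]
    intro x hx
    have h1 : (x : G) ∈ D ⊓ Q₀ := ⟨Subgroup.mem_subgroupOf.mp hx.1, Subgroup.mem_subgroupOf.mp hx.2⟩
    rw [hDQ₀, mem_bot] at h1
    rw [mem_bot]; exact Subtype.ext h1
  have hKmQ : Km ⊓ Q0m = ⊥ := by
    rw [eq_bot_iff]
    intro x hx
    have h1 : (x : G) ∈ K ⊓ Q₀ := ⟨Subgroup.mem_subgroupOf.mp hx.1, Subgroup.mem_subgroupOf.mp hx.2⟩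
    rw [hKQ₀, mem_bot] at h1
    rw [mem_bot]; exact Subtype.ext h1
  have hcardDm : Nat.card Dm = Nat.card D := Nat.card_congr (Subgroup.subgroupOfEquivOfLe hDM).toEquiv
  have hcardKm : Nat.card Km = Nat.card K := Nat.card_congr (Subgroup.subgroupOfEquivOfLe hKM).toEquiv
  have hcardQm : Nat.card Qm = Nat.card Q := Nat.card_congr (Subgroup.subgroupOfEquivOfLe hQM).toEquiv
  have hcardQ0m : Nat.card Q0m = Nat.card Q₀ := Nat.card_congr (Subgroup.subgroupOfEquivOfLe hQ₀M).toEquiv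
  have hcardDb : Nat.card Db = Nat.card D := by
    rw [hDb, hφ, card_map_mk'_of_disjoint Q0m Dm hDmQ, hcardDm]
  have hcardKb : Nat.card Kb = Nat.card K := by
    rw [hKb, hφ, card_map_mk'_of_disjoint Q0m Km hKmQ, hcardKm]
  have hQ0mQm : Q0m ≤ Qm := fun x hx => Subgroup.mem_subgroupOf.mpr (hQ₀Q (Subgroup.mem_subgroupOf.mp hx))
  have hcardQb : Nat.card Qb = q ^ Nat.card K := by
    have h1 := card_map_mk' Q0m Qm hQ0mQm
    rw [hcardQm, hcardQ0m, hcard, mul_comm (Nat.card ↥Q₀)] at h1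
    exact Nat.eq_of_mul_eq_mul_right Nat.card_pos h1
  -- hypotheses of 3.10
  have hD1 : D ≠ ⊥ := by
    intro h
    have hle : Q ≤ Q₀ := by
      intro a ha
      have hc : a ∈ centralizer (D : Set G) := by
        rw [Subgroup.mem_centralizer_iff]
        intro y hy
        have hy' : y ∈ D := hy
        rw [h, mem_bot] at hy'
        rw [hy']; simp
      exact ⟨ha, hc⟩
    exact (not_le_of_gt hQ0lt) hle
  have hDb1 : Db ≠ ⊥ := by
    intro h
    apply hD1
    rw [← Subgroup.card_eq_one, ← hcardDb, h, Subgroup.card_bot]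
  have hKb1 : Kb ≠ ⊥ := by
    intro h
    have : Nat.card K = 1 := by rw [← hcardKb, h, Subgroup.card_bot]
    rw [this] at hKp
    exact Nat.not_prime_one hKp
  have hDK : Db ⊓ Kb = ⊥ := disjoint_iff.mp
    (Subgroup.disjoint_of_coprime_natCard (by rw [hcardDb, hcardKb]; exact hKDcop.symm))
  have hKmDm : Km ≤ normalizer (Dm : Set ↥M) := by
    intro k hk
    rw [Subgroup.mem_normalizer_iff]
    intro x
    rw [Subgroup.mem_subgroupOf, Subgroup.mem_subgroupOf]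
    exact Subgroup.mem_normalizer_iff.mp (hKD (Subgroup.mem_subgroupOf.mp hk)) x
  have hKbDb : Kb ≤ normalizer (Db : Set (↥M ⧸ Q0m)) :=
    (Subgroup.map_mono hKmDm).trans (Subgroup.le_normalizer_map φ)
  have hfrob' : ∀ r ∈ Kb, r ≠ 1 → Db ⊓ centralizer ({r} : Set (↥M ⧸ Q0m)) = ⊥ := by
    rintro _ ⟨k, hk, rfl⟩ hr1
    rw [eq_bot_iff]
    rintro _ ⟨⟨d, hd, rfl⟩, hc⟩
    rw [mem_bot]
    have hkK : (k : G) ∈ K := Subgroup.mem_subgroupOf.mp hk
    have hdD : (d : G) ∈ D := Subgroup.mem_subgroupOf.mp hd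
    have h1 : φ k * φ d = φ d * φ k := Subgroup.mem_centralizer_iff.mp hc (φ k) rfl
    have h2 := hφcomm d k h1
    have h3 : (d : G)⁻¹ * k * d * (k : G)⁻¹ ∈ D := by
      have h4 : (k : G) * d * (k : G)⁻¹ ∈ D := (Subgroup.mem_normalizer_iff.mp (hKD hkK) d).mp hdD
      have h5 : (d : G)⁻¹ * k * d * (k : G)⁻¹ = (d : G)⁻¹ * ((k : G) * d * (k : G)⁻¹) := by group
      rw [h5]
      exact D.mul_mem (D.inv_mem hdD) h4
    have h4 : (d : G)⁻¹ * k * d * (k : G)⁻¹ ∈ D ⊓ Q₀ := ⟨h3, h2⟩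
    rw [hDQ₀, mem_bot] at h4
    have h5 : (k : G) * d = d * k := by
      have := congrArg (fun t => (d : G) * t * k) h4
      simpa [mul_assoc] using this
    have hk1 : (k : G) ≠ 1 := by
      intro h
      apply hr1
      have : k = 1 := Subtype.ext h
      rw [this, map_one]
    have h6 : (d : G) ∈ centralizer ({(k : G)} : Set G) := by
      rw [Subgroup.mem_centralizer_iff]
      intro y hy
      rw [Set.mem_singleton_iff.mp hy]
      exact h5
    have h7 : (d : G) ∈ D ⊓ centralizer ({(k : G)} : Set G) := ⟨hdD, h6⟩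
    rw [hfrob _ hkK hk1, mem_bot] at h7
    have : d = 1 := Subtype.ext h7
    rw [this, map_one]
  have hsolv : Group.IsSolvable ↥(Db ⊔ Kb) := inferInstance
  have hoddX : Odd (Nat.card ↥(Db ⊔ Kb)) := by
    have h1 : Nat.card ↥(Db ⊔ Kb) ∣ Nat.card (↥M ⧸ Q0m) := Subgroup.card_subgroup_dvd_card _
    have h2 : Nat.card (↥M ⧸ Q0m) ∣ Nat.card ↥M := Subgroup.card_quotient_dvd_card Q0m
    have h3 : Nat.card ↥M ∣ Nat.card G := Subgroup.card_subgroup_dvd_card M
    exact Odd.of_dvd_nat hodd (h1.trans (h2.trans h3))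
  have hQb1 : Qb ≠ ⊥ := by
    intro h
    have : Nat.card Qb = 1 := by rw [h, Subgroup.card_bot]
    rw [hcardQb] at this
    have h2 := Nat.one_lt_pow hKp.ne_zero hq.out.one_lt
    omega
  have hQmq : IsPGroup q ↥Qm := hQq.of_equiv (Subgroup.subgroupOfEquivOfLe hQM).symm
  have hQbq : IsPGroup q Qb := hQmq.map φ
  have hQbnil : Group.IsNilpotent ↥Qb := hQbq.isNilpotent
  have hQbn : Qb.Normal := Subgroup.Normal.map hQmn φ hφsurj
  have hDbQb : Db ≤ normalizer (Qb : Set (↥M ⧸ Q0m)) := by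
    rw [Subgroup.normalizer_eq_top_iff.mpr hQbn]; exact le_top
  have hKbQb : Kb ≤ normalizer (Qb : Set (↥M ⧸ Q0m)) := by
    rw [Subgroup.normalizer_eq_top_iff.mpr hQbn]; exact le_top
  have hcop : (Nat.card ↥(Db ⊔ Kb)).Coprime (Nat.card Qb) := by
    rw [Cfsg.Agent.Lib.Helper24_CoprimeHall.card_sup_of_disjoint' Kb Db hKbDb hDK, hcardDb, hcardKb,
      hcardQb]
    exact Nat.Coprime.pow_right _ (Nat.Coprime.mul_left hDq hKq)
  have hCK : Qb ⊓ centralizer (Db : Set (↥M ⧸ Q0m)) = ⊥ := by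
    rw [eq_bot_iff]
    rintro _ ⟨⟨a, ha, rfl⟩, hc⟩
    rw [mem_bot, hφ1]
    have haQ : (a : G) ∈ Q := Subgroup.mem_subgroupOf.mp ha
    have hac : (a : G) ∈ centralizer (D : Set G) := by
      rw [Subgroup.mem_centralizer_iff]
      intro d hd
      have h1 : φ ⟨d, hDM hd⟩ * φ a = φ a * φ ⟨d, hDM hd⟩ :=
        Subgroup.mem_centralizer_iff.mp hc _ ⟨⟨d, hDM hd⟩, Subgroup.mem_subgroupOf.mpr hd, rfl⟩
      have h2 := hφcomm a ⟨d, hDM hd⟩ h1
      exact commute_of_coprime_of_mem h2 (hQ₀c d hd) hQ₀q (hordD d hd)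
    exact ⟨haQ, hac⟩
  have hpr : ∀ x ∈ Kb, x ≠ 1 → Qb ⊓ centralizer ({x} : Set (↥M ⧸ Q0m)) =
      Qb ⊓ centralizer (Kb : Set (↥M ⧸ Q0m)) := by
    intro x hx hx1
    apply le_antisymm
    · rintro y ⟨hyQ, hyc⟩
      have hyc' : y ∈ centralizer ({x} : Set (↥M ⧸ Q0m)) := hyc
      have hyK : y ∈ centralizer (Kb : Set (↥M ⧸ Q0m)) := by
        rw [Subgroup.mem_centralizer_iff]
        intro k hk
        have : Fact (Nat.card K).Prime := ⟨hKp⟩
        have h1 : zpowers (⟨x, hx⟩ : ↥Kb) = ⊤ :=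
          zpowers_eq_top_of_prime_card hcardKb (fun h => hx1 (congrArg Subtype.val h))
        have h2 : (⟨k, hk⟩ : ↥Kb) ∈ zpowers (⟨x, hx⟩ : ↥Kb) := by rw [h1]; exact mem_top _
        obtain ⟨z, hz⟩ := mem_zpowers_iff.mp h2
        have h3 : x ^ z = k := by
          have := congrArg Subtype.val hz
          simpa using this
        have h4 : Commute x y := Subgroup.mem_centralizer_iff.mp hyc' x rfl
        rw [← h3]
        exact (h4.zpow_left z).eq
      exact ⟨hyQ, hyK⟩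
    · exact inf_le_inf_left _ (Subgroup.centralizer_le (Set.singleton_subset_iff.mpr hx))
  obtain ⟨-, hcardQb', himp⟩ := Cfsg.Agent.S1446.result Db Kb Qb hDb1 hKb1 hDK hKbDb hfrob' hsolv hoddX
    hQb1 hQbnil hDbQb hKbQb hcop hCK hpr
  have hcyc : IsCyclic ↥(Qb ⊓ centralizer (Kb : Set (↥M ⧸ Q0m))) := by
    rw [hcardQb, hcardKb] at hcardQb'
    have h1 : Nat.card ↥(Qb ⊓ centralizer (Kb : Set (↥M ⧸ Q0m))) = q :=
      (Nat.pow_left_injective hKp.ne_zero hcardQb').symm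
    exact isCyclic_of_prime_card h1
  have hfinal := himp hcyc
  -- pull back
  intro w hw
  have hwD : w ∈ D := commutator_self_le D hw
  have hwM : w ∈ M := hDM hwD
  rw [Subgroup.mem_centralizer_iff]
  intro a ha
  have hw' : (⟨w, hwM⟩ : ↥M) ∈ ⁅Dm, Dm⁆ := by
    have h1 : ⁅D, D⁆ = (⁅Dm, Dm⁆).map M.subtype := by
      rw [Subgroup.map_commutator, hDm, Subgroup.map_subgroupOf_eq_of_le hDM]
    rw [h1] at hw
    obtain ⟨w', hw', hww⟩ := hw
    have : w' = ⟨w, hwM⟩ := Subtype.ext hww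
    rwa [this] at hw'
  have h1 : φ ⟨w, hwM⟩ ∈ ⁅Db, Db⁆ := by
    rw [hDb, ← Subgroup.map_commutator]
    exact ⟨_, hw', rfl⟩
  have h2 : φ ⟨w, hwM⟩ ∈ centralizer (Qb : Set (↥M ⧸ Q0m)) := hfinal h1
  have h3 : φ ⟨a, hQM ha⟩ * φ ⟨w, hwM⟩ = φ ⟨w, hwM⟩ * φ ⟨a, hQM ha⟩ :=
    Subgroup.mem_centralizer_iff.mp h2 _ ⟨⟨a, hQM ha⟩, Subgroup.mem_subgroupOf.mpr ha, rfl⟩
  have h4 := hφcomm ⟨a, hQM ha⟩ ⟨w, hwM⟩ h3.symm
  exact (commute_of_coprime_of_mem h4 (hQ₀c w hwD) hQ₀q (hordD w hwD)).symm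

/-- `C_N(Q)` is nilpotent when `N = Q D` with `D` nilpotent -/
theorem isNilpotent_inf_centralizer {N Q D : Subgroup G} (hcompl : IsComplIn Q D N)
    (hQn : N ≤ normalizer (Q : Set G)) (hDnil : Group.IsNilpotent ↥D) :
    Group.IsNilpotent ↥(N ⊓ centralizer (Q : Set G)) := by
  obtain ⟨hQN, hDN, -, hprod⟩ := hcompl
  have hQnn : (Q.subgroupOf N).Normal := Subgroup.normal_subgroupOf_of_le_normalizer hQn
  let g : ↥D →* ↥N ⧸ Q.subgroupOf N := (QuotientGroup.mk' (Q.subgroupOf N)).comp (Subgroup.inclusion hDN)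
  have hg : Function.Surjective g := by
    intro x
    obtain ⟨n, rfl⟩ := QuotientGroup.mk_surjective x
    obtain ⟨a, ha, b, hb, hab⟩ := hprod n n.2
    refine ⟨⟨b, hb⟩, ?_⟩
    have h1 : n = (⟨a, hQN ha⟩ : ↥N) * ⟨b, hDN hb⟩ := Subtype.ext hab
    have h2 : (QuotientGroup.mk' (Q.subgroupOf N)) (⟨a, hQN ha⟩ : ↥N) = 1 := by
      rw [QuotientGroup.mk'_apply, QuotientGroup.eq_one_iff]
      exact Subgroup.mem_subgroupOf.mpr ha
    show (QuotientGroup.mk' (Q.subgroupOf N)) (Subgroup.inclusion hDN ⟨b, hb⟩) = QuotientGroup.mk n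
    rw [h1, ← QuotientGroup.mk'_apply, map_mul, h2, one_mul]
    rfl
  have hnil : Group.IsNilpotent (↥N ⧸ Q.subgroupOf N) := Group.nilpotent_of_surjective g hg
  let f : ↥(N ⊓ centralizer (Q : Set G)) →* ↥N ⧸ Q.subgroupOf N :=
    (QuotientGroup.mk' (Q.subgroupOf N)).comp (Subgroup.inclusion inf_le_left)
  apply Subgroup.isNilpotent_of_ker_le_center f
  intro x hx
  rw [Subgroup.mem_center_iff]
  intro y
  have h1 : (x : G) ∈ Q := by
    have h2 : (QuotientGroup.mk' (Q.subgroupOf N)) (Subgroup.inclusion inf_le_left x) = 1 := hx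
    rw [QuotientGroup.mk'_apply, QuotientGroup.eq_one_iff] at h2
    exact Subgroup.mem_subgroupOf.mp h2
  have h3 : (x : G) * y = y * x := Subgroup.mem_centralizer_iff.mp y.2.2 x h1
  exact Subtype.ext h3.symm

/-- if `N = Q D`, `T ⊇ Q`, `T ⊇ D'` and `T` is normalized by `N`, then `N' ≤ T` -/
theorem commutator_le_of_compl {N Q D T : Subgroup G} (hcompl : IsComplIn Q D N)
    (hTn : N ≤ normalizer (T : Set G)) (hQT : Q ≤ T) (hDT : ⁅D, D⁆ ≤ T) :
    ⁅N, N⁆ ≤ T := by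
  obtain ⟨hQN, hDN, -, hprod⟩ := hcompl
  have hTnn : (T.subgroupOf N).Normal := Subgroup.normal_subgroupOf_of_le_normalizer hTn
  set ψ : ↥N →* ↥N ⧸ T.subgroupOf N := QuotientGroup.mk' (T.subgroupOf N) with hψ
  have hψ1 : ∀ x : ↥N, ψ x = 1 ↔ (x : G) ∈ T := by
    intro x
    rw [hψ, QuotientGroup.mk'_apply, QuotientGroup.eq_one_iff]
    exact Subgroup.mem_subgroupOf
  have hred : ∀ n : ↥N, ∃ d : ↥N, (d : G) ∈ D ∧ ψ n = ψ d := by
    intro n
    obtain ⟨a, ha, b, hb, hab⟩ := hprod n n.2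
    refine ⟨⟨b, hDN hb⟩, hb, ?_⟩
    have h1 : n = (⟨a, hQN ha⟩ : ↥N) * ⟨b, hDN hb⟩ := Subtype.ext hab
    have h2 : ψ (⟨a, hQN ha⟩ : ↥N) = 1 := (hψ1 _).mpr (hQT ha)
    rw [h1, map_mul, h2, one_mul]
  rw [Subgroup.commutator_le]
  intro x hx y hy
  obtain ⟨d₁, hd₁, h₁⟩ := hred ⟨x, hx⟩
  obtain ⟨d₂, hd₂, h₂⟩ := hred ⟨y, hy⟩
  have h3 : ψ ⁅(⟨x, hx⟩ : ↥N), ⟨y, hy⟩⁆ = 1 := by
    rw [map_commutatorElement, h₁, h₂, ← map_commutatorElement, hψ1]
    apply hDT
    have : ((⁅d₁, d₂⁆ : ↥N) : G) = ⁅(d₁ : G), (d₂ : G)⁆ := by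
      simp [commutatorElement_def]
    rw [this]
    exact Subgroup.commutator_mem_commutator hd₁ hd₂
  have h4 := (hψ1 _).mp h3
  have : ((⁅(⟨x, hx⟩ : ↥N), ⟨y, hy⟩⁆ : ↥N) : G) = ⁅x, y⁆ := by
    simp [commutatorElement_def]
  rwa [this] at h4

open scoped Pointwise in
/-- a `K`-invariant complement to the normal Sylow `q`-subgroup `Q` of the solvable group `N` -/
theorem exists_invariant_compl {K N Q : Subgroup G} {q : ℕ} [hq : Fact q.Prime]
    (hsolv : Group.IsSolvable ↥N) (hKN : K ≤ normalizer (N : Set G))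
    (hcop : (Nat.card K).Coprime (Nat.card N)) (hQN : Q ≤ N) (hQn : N ≤ normalizer (Q : Set G))
    (hQq : IsPGroup q Q) (hQidx : ¬ q ∣ Q.relIndex N) :
    ∃ D : Subgroup G, IsComplIn Q D N ∧ K ≤ normalizer (D : Set G) ∧ (Nat.card D).Coprime q := by
  obtain ⟨D, hD, hKD⟩ := Cfsg.Agent.Lib.Helper24_CoprimeHall.exists_invariant_piHall K N hKN hcop hsolv
    {r | r ≠ q}
  obtain ⟨hDN, hDp, hDidx⟩ := hD
  have hDq : (Nat.card D).Coprime q :=
    ((Nat.Prime.coprime_iff_not_dvd hq.out).mpr (fun h => hDp q hq.out h rfl)).symm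
  obtain ⟨a, ha⟩ := IsPGroup.iff_card.mp hQq
  have hQD : Q ⊓ D = ⊥ := disjoint_iff.mp
    (Subgroup.disjoint_of_coprime_natCard (by rw [ha]; exact (Nat.Coprime.pow_right a hDq).symm))
  have hcard : Nat.card Q * Nat.card D = Nat.card N := by
    have h1 : Nat.card Q ∣ Nat.card N := Subgroup.card_dvd_of_le hQN
    have h2 : Nat.card D ∣ Nat.card N := Subgroup.card_dvd_of_le hDN
    have h3 : (Nat.card Q).Coprime (Nat.card D) := by rw [ha]; exact (Nat.Coprime.pow_right a hDq).symm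
    obtain ⟨t, ht⟩ := Nat.Coprime.mul_dvd_of_dvd_of_dvd h3 h1 h2
    have hQpos : 0 < Nat.card Q := Nat.card_pos
    have hDpos : 0 < Nat.card D := Nat.card_pos
    have ht1 : t = 1 := by
      by_contra hne
      obtain ⟨r, hr, hrt⟩ := Nat.exists_prime_and_dvd hne
      by_cases hrq : r = q
      · apply hQidx
        rw [Cfsg.Agent.Lib.Helper24_CoprimeHall.relIndex_eq_div hQN, ht, mul_assoc,
          Nat.mul_div_cancel_left _ hQpos, ← hrq]
        exact dvd_mul_of_dvd_right hrt _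
      · apply hDidx r hr hrq
        rw [ht, mul_comm (Nat.card ↥Q), mul_assoc, Nat.mul_div_cancel_left _ hDpos]
        exact dvd_mul_of_dvd_right hrt _
    rw [ht, ht1, mul_one]
  have hDnQ : D ≤ normalizer (Q : Set G) := hDN.trans hQn
  have hsup : Q ⊔ D = N := by
    apply Subgroup.eq_of_le_of_card_ge (sup_le hQN hDN)
    rw [Cfsg.Agent.Lib.Helper24_CoprimeHall.card_sup_of_disjoint' D Q hDnQ hQD, hcard]
  refine ⟨D, ⟨hQN, hDN, hQD, ?_⟩, hKD, hDq⟩
  intro n hn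
  rw [← hsup] at hn
  have h1 : n ∈ ((Q ⊔ D : Subgroup G) : Set G) := hn
  rw [Subgroup.coe_mul_of_right_le_normalizer_left Q D hDnQ] at h1
  obtain ⟨x, hx, y, hy, rfl⟩ := Set.mem_mul.mp h1
  exact ⟨x, hx, y, hy, rfl⟩

/-- **the case `M_F ≠ M_σ` of Theorem II (b)**, from the exported part of 15.2 (`S1437`), 15.3 (`S1438`),
14.2 (a) (`S1430`) and 3.10 (`S1446`). -/
theorem case_ne (hG : IsMinSimpleOddOrder G) {M K U : Subgroup G} (hM : IsCoatom M)
    (hKU : IsSigmaDecomposition M K U) (h1350 : IsPiHallOf (sigma M) (sigmaCore M) M)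
    (h1355 : fittingHallOf M ≤ sigmaCore M)
    (h1430a : ∀ k ∈ K, k ≠ 1 →
      sigmaCore M ⊓ centralizer ({k} : Set G) = sigmaCore M ⊓ centralizer (K : Set G))
    (h1437 : U = ⊥ ∧ sigmaCore M = ⁅M, M⁆ ∧ (Nat.card K).Prime ∧
      (Nat.card ↥(sigmaCore M ⊓ centralizer (K : Set G))).Prime ∧
      Nat.card ↥(sigmaCore M ⊓ centralizer (K : Set G)) ∣ Nat.card (fittingHallOf M) ∧
      Nat.card ↥(sigmaCore M ⊓ centralizer (K : Set G)) ∈ beta M ∧
      ∃ Q : Subgroup G, Q ≤ fittingHallOf M ∧ M ≤ normalizer (Q : Set G) ∧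
        IsPGroup (Nat.card ↥(sigmaCore M ⊓ centralizer (K : Set G))) Q ∧
        ¬ Nat.card ↥(sigmaCore M ⊓ centralizer (K : Set G)) ∣ Q.relIndex (sigmaCore M) ∧
        ∀ D : Subgroup G, IsComplIn Q D (sigmaCore M) →
          Group.IsNilpotent D ∧
          M ≤ normalizer ((Q ⊓ centralizer (D : Set G) : Subgroup G) : Set G) ∧
          Q ⊓ centralizer (D : Set G) < Q ∧
          Nat.card Q = Nat.card ↥(Q ⊓ centralizer (D : Set G)) *
            Nat.card ↥(sigmaCore M ⊓ centralizer (K : Set G)) ^ Nat.card K ∧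
          (∀ a ∈ Q, ∀ b ∈ Q,
            a ^ Nat.card ↥(sigmaCore M ⊓ centralizer (K : Set G)) ∈ Q ⊓ centralizer (D : Set G) ∧
            a * b * a⁻¹ * b⁻¹ ∈ Q ⊓ centralizer (D : Set G)) ∧
          ∀ N : Subgroup G, Q ⊓ centralizer (D : Set G) < N → N < Q →
            ¬ M ≤ normalizer (N : Set G))
    (h1438 : ∃ X : Subgroup G, IsCyclic X ∧ (∀ p : ℕ, p.Prime → p ∣ Nat.card X → p ∈ tau2 M) ∧
      M ⊓ centralizer (fittingHallOf M : Set G) =
        (sigmaCore M ⊓ centralizer (fittingHallOf M : Set G)) ⊔ X) :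
    ⁅⁅M, M⁆, ⁅M, M⁆⁆ ≤ fittingOf M ∧ M ⊓ centralizer (fittingHallOf M : Set G) ≤ fittingOf M := by
  obtain ⟨hU, hNM', hKp, hqp, -, -, Q, hQH, hQn, hQq, hQidx, hD⟩ := h1437
  have : Fact (Nat.card ↥(sigmaCore M ⊓ centralizer (K : Set G))).Prime := ⟨hqp⟩
  have hsolvM : Group.IsSolvable ↥M := hG.2.2.2 M hM.1
  have hNM : sigmaCore M ≤ M := sigmaCore_le M
  have hsolvN : Group.IsSolvable ↥(sigmaCore M) :=
    Group.isSolvable_of_isSolvable_injective (Subgroup.inclusion_injective hNM)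
  have hKM : K ≤ M := hKU.hall.1
  have hKN : K ≤ normalizer ((sigmaCore M : Subgroup G) : Set G) := hKM.trans (le_normalizer_sigmaCore M)
  have hcopKN : (Nat.card K).Coprime (Nat.card (sigmaCore M)) := by
    apply Nat.coprime_of_dvd
    intro p hp hpK hpN
    exact (hKU.hall.2.1 p hp hpK).2.2.1 (h1350.2.1 p hp hpN)
  have hQN : Q ≤ sigmaCore M := hQH.trans h1355
  obtain ⟨D, hcompl, hKD, hDq⟩ := exists_invariant_compl hsolvN hKN hcopKN hQN (hNM.trans hQn) hQq hQidx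
  obtain ⟨hDnil, hQ0n, hQ0lt, hcard, -, -⟩ := hD D hcompl
  have hDN : D ≤ sigmaCore M := hcompl.2.1
  have hqσ : Nat.card ↥(sigmaCore M ⊓ centralizer (K : Set G)) ∈ sigma M :=
    h1350.2.1 _ hqp (Subgroup.card_dvd_of_le inf_le_left)
  have hKq : (Nat.card K).Coprime (Nat.card ↥(sigmaCore M ⊓ centralizer (K : Set G))) := by
    rw [Nat.coprime_primes hKp hqp]
    intro h
    have h1 := hKU.hall.2.1 _ hKp (dvd_refl _)
    rw [h] at h1
    exact h1.2.2.1 hqσ
  have hKDcop : (Nat.card K).Coprime (Nat.card D) :=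
    Nat.Coprime.coprime_dvd_right (Subgroup.card_dvd_of_le hDN) hcopKN
  have hfrob : ∀ k ∈ K, k ≠ 1 → D ⊓ centralizer ({k} : Set G) = ⊥ := by
    intro k hk hk1
    rw [eq_bot_iff]
    intro x hx
    have h1 : x ∈ sigmaCore M ⊓ centralizer ({k} : Set G) := ⟨hDN hx.1, hx.2⟩
    rw [h1430a k hk hk1] at h1
    have h2 : x ∈ D ⊓ (sigmaCore M ⊓ centralizer (K : Set G)) := ⟨hx.1, h1⟩
    rwa [disjoint_iff.mp (Subgroup.disjoint_of_coprime_natCard hDq)] at h2
  have hDD := comm_D_centralizes_Q hG.1 hsolvM hKM hKp (hQN.trans hNM) hQn hQq (hDN.trans hNM) hDq hKD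
    hKq hKDcop hfrob hQ0n hQ0lt hcard
  have hC₁nil := isNilpotent_inf_centralizer hcompl (hNM.trans hQn) hDnil
  have hC₁norm : M ≤ normalizer ((sigmaCore M ⊓ centralizer (Q : Set G) : Subgroup G) : Set G) :=
    le_trans (le_inf (le_normalizer_sigmaCore M)
      (hQn.trans (Cfsg.Agent.Lib.Helper24_CoprimeHall.normalizer_le_normalizer_centralizer Q)))
      Subgroup.inf_normalizer_le_normalizer_inf
  have hC₁F : sigmaCore M ⊓ centralizer (Q : Set G) ≤ fittingOf M :=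
    le_fittingOf (inf_le_left.trans hNM) hC₁norm hC₁nil
  have hQF : Q ≤ fittingOf M := hQH.trans (fittingHallOf_le_fittingOf M)
  constructor
  · rw [← hNM']
    have hTn : sigmaCore M ≤
        normalizer ((Q ⊔ (sigmaCore M ⊓ centralizer (Q : Set G)) : Subgroup G) : Set G) := by
      intro m hm
      exact Cfsg.Agent.Lib.Helper49_Sigma.mem_normalizer_sup (hQn (hNM hm)) (hC₁norm (hNM hm))
    have hDT : ⁅D, D⁆ ≤ Q ⊔ (sigmaCore M ⊓ centralizer (Q : Set G)) := by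
      intro w hw
      exact le_sup_right (a := Q) ⟨hDN (commutator_self_le D hw), hDD hw⟩
    exact (commutator_le_of_compl hcompl hTn le_sup_left hDT).trans (sup_le hQF hC₁F)
  · obtain ⟨X, -, hXp, hX⟩ := h1438
    have hXM : X ≤ M := by
      have : X ≤ M ⊓ centralizer (fittingHallOf M : Set G) := by rw [hX]; exact le_sup_right
      exact this.trans inf_le_left
    have hX1 : X = ⊥ := by
      rw [← Subgroup.card_eq_one]
      by_contra hne
      obtain ⟨r, hr, hrX⟩ := Nat.exists_prime_and_dvd hne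
      have hr2 := hXp r hr hrX
      have hrM : r ∣ Nat.card M := dvd_trans hrX (Subgroup.card_dvd_of_le hXM)
      rw [card_M_eq hKU h1350, hU, Subgroup.card_bot, one_mul] at hrM
      rcases mem_of_dvd_card_mul hKU h1350 hr hrM with h | h
      · exact not_mem_kappa_of_mem_tau2 hr2 h
      · exact hr2.2.1 h
    rw [hX, hX1, sup_bot_eq]
    refine le_trans (inf_le_inf_left _ ?_) hC₁F
    exact Subgroup.centralizer_le hQH

/-- `M_F` is a Hall subgroup of `M_σ` -/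
theorem coprime_card_relIndex_fittingHallOf {M : Subgroup G} (h1355 : fittingHallOf M ≤ sigmaCore M) :
    (Nat.card (fittingHallOf M)).Coprime ((fittingHallOf M).relIndex (sigmaCore M)) := by
  have hcard : Nat.card (fittingHallOf M) = Nat.card (fittingHall ↥M) :=
    Subgroup.card_map_of_injective M.subtype_injective
  have hidx : (fittingHall ↥M).index = (fittingHallOf M).relIndex M := by
    unfold Subgroup.relIndex fittingHallOf
    rw [Subgroup.subgroupOf, Subgroup.comap_map_eq_self_of_injective M.subtype_injective]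
  have h1 := (fittingHall_props ↥M).2
  rw [← hcard, hidx] at h1
  have h2 : (fittingHallOf M).relIndex (sigmaCore M) ∣ (fittingHallOf M).relIndex M :=
    Dvd.intro _ (Subgroup.relIndex_mul_relIndex _ _ _ h1355 (sigmaCore_le M))
  exact Nat.Coprime.coprime_dvd_right h2 h1

/-- **Bender–Glauberman, Theorem II (b)** (`S1356`). -/
theorem second_derived_statement (hG : IsMinSimpleOddOrder G) {M : Subgroup G} (hM : IsCoatom M)
    (h1350 : IsPiHallOf (sigma M) (sigmaCore M) M)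
    (h1351 : ∃ K : Subgroup G, IsPiHallOf (kappa M) K M ∧ IsCyclic K)
    (h1352 : ∀ K : Subgroup G, IsCyclic K → IsPiHallOf (kappa M) K M →
      ∃ U : Subgroup G, IsSigmaDecomposition M K U)
    (h1355 : fittingHallOf M ≠ ⊥ ∧ fittingHallOf M ≤ sigmaCore M ∧ sigmaCore M ≤ ⁅M, M⁆)
    (h1420 : ∀ E : Subgroup G, IsComplIn E (sigmaCore M) M → IsMulCommutative ↥⁅E, E⁆)
    (h1430 : ∀ K : Subgroup G, IsPiHallOf (kappa M) K M → K ≠ ⊥ →
      (∀ k ∈ K, k ≠ 1 →
        sigmaCore M ⊓ centralizer ({k} : Set G) = sigmaCore M ⊓ centralizer (K : Set G)) ∧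
      ∃ U' : Subgroup G, IsPiHallOf {q | q.Prime ∧ q ∉ kappa M ∧ q ∉ sigma M} U' M ∧
        K ≤ normalizer (U' : Set G) ∧ ∀ k ∈ K, k ≠ 1 → U' ⊓ centralizer ({k} : Set G) = ⊥)
    (h1437 : ∀ K U : Subgroup G, IsSigmaDecomposition M K U → fittingHallOf M ≠ sigmaCore M →
      U = ⊥ ∧ sigmaCore M = ⁅M, M⁆ ∧ (Nat.card K).Prime ∧
      (Nat.card ↥(sigmaCore M ⊓ centralizer (K : Set G))).Prime ∧
      Nat.card ↥(sigmaCore M ⊓ centralizer (K : Set G)) ∣ Nat.card (fittingHallOf M) ∧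
      Nat.card ↥(sigmaCore M ⊓ centralizer (K : Set G)) ∈ beta M ∧
      ∃ Q : Subgroup G, Q ≤ fittingHallOf M ∧ M ≤ normalizer (Q : Set G) ∧
        IsPGroup (Nat.card ↥(sigmaCore M ⊓ centralizer (K : Set G))) Q ∧
        ¬ Nat.card ↥(sigmaCore M ⊓ centralizer (K : Set G)) ∣ Q.relIndex (sigmaCore M) ∧
        ∀ D : Subgroup G, IsComplIn Q D (sigmaCore M) →
          Group.IsNilpotent D ∧
          M ≤ normalizer ((Q ⊓ centralizer (D : Set G) : Subgroup G) : Set G) ∧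
          Q ⊓ centralizer (D : Set G) < Q ∧
          Nat.card Q = Nat.card ↥(Q ⊓ centralizer (D : Set G)) *
            Nat.card ↥(sigmaCore M ⊓ centralizer (K : Set G)) ^ Nat.card K ∧
          (∀ a ∈ Q, ∀ b ∈ Q,
            a ^ Nat.card ↥(sigmaCore M ⊓ centralizer (K : Set G)) ∈ Q ⊓ centralizer (D : Set G) ∧
            a * b * a⁻¹ * b⁻¹ ∈ Q ⊓ centralizer (D : Set G)) ∧
          ∀ N : Subgroup G, Q ⊓ centralizer (D : Set G) < N → N < Q →
            ¬ M ≤ normalizer (N : Set G))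
    (h1438 : ∀ H : Subgroup G, H ≤ sigmaCore M → H ≠ ⊥ →
      (Nat.card H).Coprime (H.relIndex (sigmaCore M)) →
      ∃ X : Subgroup G, IsCyclic X ∧ (∀ p : ℕ, p.Prime → p ∣ Nat.card X → p ∈ tau2 M) ∧
        M ⊓ centralizer (H : Set G) = (sigmaCore M ⊓ centralizer (H : Set G)) ⊔ X)
    (h1439 : (∀ p : ℕ, p.Prime →
        p ∣ Nat.card ↥(piCoreOf {q | q.Prime ∧ q ∉ sigma M} (fittingOf M)) → p ∈ tau2 M) ∧
      fittingOf M = fittingOf (sigmaCore M) ⊔ piCoreOf {q | q.Prime ∧ q ∉ sigma M} (fittingOf M)) :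
    ⁅⁅M, M⁆, ⁅M, M⁆⁆ ≤ fittingOf M ∧
      fittingOf M = (M ⊓ centralizer (fittingHallOf M : Set G)) ⊔ fittingHallOf M ∧
      ((kappa M).Nonempty → fittingOf M ≤ ⁅M, M⁆) := by
  obtain ⟨K, hKhall, hKc⟩ := h1351
  obtain ⟨U, hKU⟩ := h1352 K hKc hKhall
  obtain ⟨hH1, hHN, hNM'⟩ := h1355
  have h38 := h1438 (fittingHallOf M) hHN hH1 (coprime_card_relIndex_fittingHallOf hHN)
  have key : ⁅⁅M, M⁆, ⁅M, M⁆⁆ ≤ fittingOf M ∧
      M ⊓ centralizer (fittingHallOf M : Set G) ≤ fittingOf M := by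
    by_cases heq : fittingHallOf M = sigmaCore M
    · obtain ⟨E, hE⟩ := exists_compl_sigmaCore h1350
      refine ⟨?_, ?_⟩
      · refine (derived_two_le_sigmaCore hE (h1420 E hE)).trans ?_
        rw [← heq]
        exact fittingHallOf_le_fittingOf M
      · obtain ⟨X, hXc, -, hX⟩ := h38
        exact centralizer_le_fittingOf_of_eq heq ⟨X, hXc, hX⟩
    · have h37 := h1437 K U hKU heq
      have hK1 : K ≠ ⊥ := by
        intro h
        have h2 := h37.2.2.1
        rw [h, Subgroup.card_bot] at h2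
        exact Nat.not_prime_one h2
      exact case_ne hG hM hKU h1350 hHN (h1430 K hKhall hK1).1 h37 h38
  refine ⟨key.1, le_antisymm (fittingOf_le M) (sup_le key.2 (fittingHallOf_le_fittingOf M)), ?_⟩
  intro hk
  exact fittingOf_le_commutator hG hM hKhall hk hNM' (fun hK1 => (h1430 K hKhall hK1).2) h1439

end Main

end Cfsg.Agent.Lib.Helper53_BG16e
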