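import Mathlib
import Cfsg.Prelude.Def_OddOrderLocal
import Cfsg.Agent.Lib.Helper53_BG16e
import Cfsg.Agent.Lib.Helper22_BGTransRank
import Cfsg.Agent.Lib.Helper49_Alpha3
import Cfsg.Agent.Lib.Helper1_Thompson
import Cfsg.Agent.Lib.Helper4_BGConj

/-!
# Bender–Glauberman, Section 16, Theorem II (c) without Theorem 15.7

If `M_F ≠ M_σ` then `F(M)` is a TI-subset of `G`.  We avoid `S1440` (Theorem 15.7): by 15.2 (`S1437`) there is a
normal Sylow `q`-subgroup `Q ≤ M_F` of `M_σ` with `q ∈ β(M)`, so `M` is the only maximal subgroup over `Q`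
(`S1423`); by `S1439` and `U = 1` we get `F(M) ≤ M_σ`; for `g ∉ M` the group `M_σ ∩ M^g` is a `β(M)'`-group
(`S1426`), hence a nontrivial `x ∈ F(M) ∩ F(M)^{g⁻¹}` may be taken of prime order `r ≠ q`, and both `Q` and
`Q^{g⁻¹}` centralize it, which forces `C(x) ≤ M` and `g ∈ M`.
-/

set_option autoImplicit false
set_option linter.unusedSectionVars false

namespace Cfsg.Agent.Lib.Helper53_BG16f

open Subgroup Cfsg Cfsg.Agent.Lib.Helper53_BG16 Cfsg.Agent.Lib.Helper53_BG16b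
  Cfsg.Agent.Lib.Helper53_BG16c Cfsg.Agent.Lib.Helper53_BG16d

variable {G : Type*} [Group G] [Finite G]

/-- `F(M)` is nilpotent -/
theorem isNilpotent_fittingOf (M : Subgroup G) : Group.IsNilpotent ↥(fittingOf M) := by
  have hnil : Group.IsNilpotent ↥(fittingSubgroup ↥M) :=
    Cfsg.Agent.Lib.Helper1_Cores.fittingSubgroup_isNilpotent
  exact (Group.isNilpotent_congr
    ((fittingSubgroup ↥M).equivMapOfInjective M.subtype M.subtype_injective)).mp hnil

/-- in `F(M)`, an element of prime order `r` commutes with every `q`-subgroup, `q ≠ r` -/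
theorem commute_fittingOf {M Q : Subgroup G} {q r : ℕ} [Fact q.Prime] [Fact r.Prime] (hqr : q ≠ r)
    (hQF : Q ≤ fittingOf M) (hQq : IsPGroup q Q) {x : G} (hx : x ∈ fittingOf M) (hox : orderOf x = r) :
    ∀ y ∈ Q, x * y = y * x := by
  intro y hy
  have hnil : Group.IsNilpotent ↥(fittingOf M) := isNilpotent_fittingOf M
  have hQ' : IsPGroup q (Q.subgroupOf (fittingOf M)) := hQq.comap_subtype
  have hZ : IsPGroup r (zpowers (⟨x, hx⟩ : ↥(fittingOf M))) := by
    apply IsPGroup.of_card (n := 1)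
    rw [Nat.card_zpowers, pow_one, ← hox]
    exact Subgroup.orderOf_mk x hx
  have h := Cfsg.Agent.Lib.Helper1_Thompson.commute_of_isNilpotent hqr hQ' hZ
    (x := ⟨y, hQF hy⟩) (z := ⟨x, hx⟩) (by rw [mem_subgroupOf]; exact hy) (mem_zpowers _)
  have h2 := congrArg Subtype.val h
  exact h2.symm

/-- **`F(M)` is TI when `M_F ≠ M_σ`**, from the exported parts of 15.2 (`S1437`), 15.4 (`S1439`),
12.17 (`S1426`) and 12.14 (`S1423`). -/
theorem fitting_ti_of_ne (hG : IsMinSimpleOddOrder G) {M K U : Subgroup G} (hM : IsCoatom M)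
    (hKU : IsSigmaDecomposition M K U) (h1350 : IsPiHallOf (sigma M) (sigmaCore M) M)
    (h1355 : fittingHallOf M ≤ sigmaCore M)
    (h1437 : U = ⊥ ∧ sigmaCore M = ⁅M, M⁆ ∧ (Nat.card K).Prime ∧
      (Nat.card ↥(sigmaCore M ⊓ centralizer (K : Set G))).Prime ∧
      Nat.card ↥(sigmaCore M ⊓ centralizer (K : Set G)) ∣ Nat.card (fittingHallOf M) ∧
      Nat.card ↥(sigmaCore M ⊓ centralizer (K : Set G)) ∈ beta M ∧
      ∃ Q : Subgroup G, Q ≤ fittingHallOf M ∧ M ≤ normalizer (Q : Set G) ∧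
        IsPGroup (Nat.card ↥(sigmaCore M ⊓ centralizer (K : Set G))) Q ∧
        ¬ Nat.card ↥(sigmaCore M ⊓ centralizer (K : Set G)) ∣ Q.relIndex (sigmaCore M) ∧
        ∀ D : Subgroup G, IsComplIn Q D (sigmaCore M) →
          Group.IsNilpotent D ∧
          M ≤ normalizer ((Q ⊓ centralizer (D : Set G) : Subgroup G) : Set G) ∧
          Q ⊓ centralizer (D : Set G) < Q ∧
          Nat.card Q = Nat.card ↥(Q ⊓ centralizer (D : Set G)) *
            Nat.card ↥(sigmaCore M ⊓ centralizer (K : Set G)) ^ Nat.card K ∧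
          (∀ a ∈ Q, ∀ b ∈ Q,
            a ^ Nat.card ↥(sigmaCore M ⊓ centralizer (K : Set G)) ∈ Q ⊓ centralizer (D : Set G) ∧
            a * b * a⁻¹ * b⁻¹ ∈ Q ⊓ centralizer (D : Set G)) ∧
          ∀ N : Subgroup G, Q ⊓ centralizer (D : Set G) < N → N < Q →
            ¬ M ≤ normalizer (N : Set G))
    (h1439 : IsCyclic ↥(piCoreOf {q | q.Prime ∧ q ∉ sigma M} (fittingOf M)) ∧
      (∀ p : ℕ, p.Prime → p ∣ Nat.card ↥(piCoreOf {q | q.Prime ∧ q ∉ sigma M} (fittingOf M)) →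
        p ∈ tau2 M) ∧
      fittingOf M = fittingOf (sigmaCore M) ⊔ piCoreOf {q | q.Prime ∧ q ∉ sigma M} (fittingOf M))
    (h1426 : ∀ E : Subgroup G, IsComplIn E (sigmaCore M) M →
      sigmaCore M ⊓ centralizer (E : Set G) ≤ ⁅sigmaCore M, sigmaCore M⁆ ∧
      ⁅sigmaCore M, E⁆ = sigmaCore M ∧
      ∀ g : G, g ∉ M → IsCyclic ↥(sigmaCore M ⊓ M.map (MulAut.conj g).toMonoidHom) ∧
        (∀ p : ℕ, p.Prime → p ∣ Nat.card ↥(sigmaCore M ⊓ M.map (MulAut.conj g).toMonoidHom) →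
          p ∉ beta M) ∧
        sigmaCore M ⊓ M.map (MulAut.conj g).toMonoidHom ⊓ ⁅sigmaCore M, sigmaCore M⁆ = ⊥)
    (h1423 : ∀ (p : ℕ) [Fact p.Prime], p ∈ sigma M → ∀ X : Subgroup G, X ≤ M → Nat.card X = p →
      ∀ P : Sylow p ↥(sigmaCore M), (p ∈ beta M ∨ X ≤ ⁅sigmaCore M, sigmaCore M⁆) →
      (centralizer (X : Set G) ≤ M ∧
        ∀ L : Subgroup G, IsCoatom L → centralizer (X : Set G) ≤ L → L = M) ∧
      InUniqueMaximal ((P : Subgroup ↥(sigmaCore M)).map (sigmaCore M).subtype) ∧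
      (P : Subgroup ↥(sigmaCore M)).map (sigmaCore M).subtype ≤ M) :
    IsTISubset (fittingOf M : Set G) := by
  obtain ⟨hU, -, -, hqp, -, hqβ, Q, hQH, -, hQq, hQidx, -⟩ := h1437
  have : Fact (Nat.card ↥(sigmaCore M ⊓ centralizer (K : Set G))).Prime := ⟨hqp⟩
  have hNM : sigmaCore M ≤ M := sigmaCore_le M
  have hQN : Q ≤ sigmaCore M := hQH.trans h1355
  have hQF : Q ≤ fittingOf M := hQH.trans (fittingHallOf_le_fittingOf M)
  have hqσ : Nat.card ↥(sigmaCore M ⊓ centralizer (K : Set G)) ∈ sigma M :=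
    h1350.2.1 _ hqp (Subgroup.card_dvd_of_le inf_le_left)
  -- `Y = 1`
  obtain ⟨-, hYp, hF⟩ := h1439
  have hY1 : piCoreOf {q | q.Prime ∧ q ∉ sigma M} (fittingOf M) = ⊥ := by
    rw [← Subgroup.card_eq_one]
    by_contra hne
    obtain ⟨r, hr, hrX⟩ := Nat.exists_prime_and_dvd hne
    have hr2 := hYp r hr hrX
    have hYM : piCoreOf {q | q.Prime ∧ q ∉ sigma M} (fittingOf M) ≤ M :=
      (Subgroup.map_subtype_le _).trans (Subgroup.map_subtype_le _)
    have hrM : r ∣ Nat.card M := dvd_trans hrX (Subgroup.card_dvd_of_le hYM)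
    rw [card_M_eq hKU h1350, hU, Subgroup.card_bot, one_mul] at hrM
    rcases mem_of_dvd_card_mul hKU h1350 hr hrM with h | h
    · exact not_mem_kappa_of_mem_tau2 hr2 h
    · exact hr2.2.1 h
  have hFN : fittingOf M ≤ sigmaCore M := by
    rw [hF, hY1, sup_bot_eq]
    exact Subgroup.map_subtype_le _
  -- `M` is the unique maximal subgroup over `Q`
  have hQuniq : ∀ L : Subgroup G, IsCoatom L → Q ≤ L → L = M := by
    have hP1 : IsPGroup (Nat.card ↥(sigmaCore M ⊓ centralizer (K : Set G)))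
        (Q.subgroupOf (sigmaCore M)) := hQq.comap_subtype
    have hidx : ¬ Nat.card ↥(sigmaCore M ⊓ centralizer (K : Set G)) ∣
        (Q.subgroupOf (sigmaCore M)).index := hQidx
    obtain ⟨-, hUM, -⟩ := h1423 _ hqσ (sigmaCore M ⊓ centralizer (K : Set G))
      (inf_le_left.trans hNM) rfl (hP1.toSylow hidx) (Or.inl hqβ)
    rw [IsPGroup.toSylow_coe, Subgroup.map_subgroupOf_eq_of_le hQN] at hUM
    obtain ⟨M', -, huniq⟩ := hUM
    intro L hL hQL
    exact (huniq L ⟨hL, hQL⟩).trans (huniq M ⟨hM, hQN.trans hNM⟩).symm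
  intro g hg x hx hgx
  by_contra hx1
  have hgM : g ∉ M := fun h => hg (le_normalizer_fittingOf M h)
  have hginvM : g⁻¹ ∉ M := fun h => hgM (by simpa using M.inv_mem h)
  obtain ⟨E, hE⟩ := exists_compl_sigmaCore h1350
  obtain ⟨-, -, h26⟩ := h1426 E hE
  obtain ⟨-, hβ, -⟩ := h26 g⁻¹ hginvM
  have hxI' : x ∈ M.map (MulAut.conj g⁻¹).toMonoidHom := by
    rw [Cfsg.Agent.Lib.Helper4_BGConj.mem_conj]
    simpa using hNM (hFN hgx)
  have hxI : x ∈ sigmaCore M ⊓ M.map (MulAut.conj g⁻¹).toMonoidHom := ⟨hFN hx, hxI'⟩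
  have hox : orderOf x ≠ 1 := by rwa [Ne, orderOf_eq_one_iff]
  obtain ⟨r, hr, hrx⟩ := Nat.exists_prime_and_dvd hox
  have : Fact r.Prime := ⟨hr⟩
  have hqr : Nat.card ↥(sigmaCore M ⊓ centralizer (K : Set G)) ≠ r := by
    intro h
    exact hβ r hr (dvd_trans hrx (Subgroup.orderOf_dvd_natCard _ hxI)) (h ▸ hqβ)
  have hox₁ : orderOf (x ^ (orderOf x / r)) = r :=
    orderOf_pow_orderOf_div (orderOf_pos x).ne' hrx
  have hx₁F : x ^ (orderOf x / r) ∈ fittingOf M := pow_mem hx _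
  have hgx₁ : g * x ^ (orderOf x / r) * g⁻¹ = (g * x * g⁻¹) ^ (orderOf x / r) := (conj_pow).symm
  have hgx₁F : g * x ^ (orderOf x / r) * g⁻¹ ∈ fittingOf M := by
    rw [hgx₁]
    exact pow_mem hgx _
  have hogx₁ : orderOf (g * x ^ (orderOf x / r) * g⁻¹) = r :=
    (MulEquiv.orderOf_eq (MulAut.conj g) (x ^ (orderOf x / r))).trans hox₁
  have hx₁ne : x ^ (orderOf x / r) ≠ 1 := by
    intro h
    rw [h, orderOf_one] at hox₁
    exact hr.one_lt.ne hox₁
  have hc1 := commute_fittingOf hqr hQF hQq hx₁F hox₁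
  have hc2 := commute_fittingOf hqr hQF hQq hgx₁F hogx₁
  have hQC : Q ≤ centralizer ({x ^ (orderOf x / r)} : Set G) := by
    intro y hy
    rw [mem_centralizer_singleton_iff]
    exact (hc1 y hy).symm
  obtain ⟨L, hL, hCL⟩ := (eq_top_or_exists_le_coatom _).resolve_left
    (Cfsg.Agent.Lib.Helper22_BGTransRank.centralizer_singleton_ne_top hG hx₁ne)
  have hLM : L = M := hQuniq L hL (hQC.trans hCL)
  have hQg : Q ≤ M.map (MulAut.conj g).toMonoidHom := by
    intro y hy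
    rw [Cfsg.Agent.Lib.Helper4_BGConj.mem_conj, ← hLM]
    apply hCL
    rw [mem_centralizer_singleton_iff]
    have h := hc2 y hy
    calc g⁻¹ * y * g * x ^ (orderOf x / r)
        = g⁻¹ * (y * (g * x ^ (orderOf x / r) * g⁻¹)) * g := by group
      _ = g⁻¹ * ((g * x ^ (orderOf x / r) * g⁻¹) * y) * g := by rw [h]
      _ = x ^ (orderOf x / r) * (g⁻¹ * y * g) := by group
  have hMg : M.map (MulAut.conj g).toMonoidHom = M :=
    hQuniq _ (Cfsg.Agent.Lib.Helper4_BGConj.isCoatom_mp (e := MulAut.conj g) hM) hQg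
  have hM1 : M ≠ ⊥ := by
    intro h
    apply hx1
    have := hNM (hFN hx)
    rwa [h, mem_bot] at this
  have hgN : g ∈ normalizer (M : Set G) := by
    rw [Subgroup.mem_normalizer_iff]
    intro h
    constructor
    · intro hh
      rw [← hMg]
      exact ⟨h, hh, rfl⟩
    · intro hh
      rw [← hMg, Cfsg.Agent.Lib.Helper4_BGConj.mem_conj] at hh
      simpa [mul_assoc] using hh
  rw [Cfsg.Agent.Lib.Helper49_Alpha3.normalizer_coatom hG hM hM1] at hgN
  exact hgM hgN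

end Cfsg.Agent.Lib.Helper53_BG16f
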