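import Mathlib
import Cfsg.Prelude.Def_OddOrderLocal
import Cfsg.Agent.Lib.Helper53_BG16e
import Cfsg.Agent.Lib.Helper34_SigmaNe
import Cfsg.Agent.Lib.Helper48_BG15c

/-!
# Bender–Glauberman, Section 16, Theorem II (a)

`M_F ≠ 1`, `M_F ≤ M_σ ≤ M' < M` and `M' / M_F` is nilpotent (`S1355`), from Theorem I (a) (`S1350`), 12.1
(`S1415`), 12.17 (`S1426`), the existence of a standard factorisation (`S1351`, `S1352`) and 15.2 (`S1437`).
-/

set_option autoImplicit false
set_option linter.unusedSectionVars false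

namespace Cfsg.Agent.Lib.Helper53_BG16g

open Subgroup Cfsg Cfsg.Agent.Lib.Helper53_BG16 Cfsg.Agent.Lib.Helper53_BG16b
  Cfsg.Agent.Lib.Helper53_BG16c Cfsg.Agent.Lib.Helper53_BG16d Cfsg.Agent.Lib.Helper53_BG16e
open scoped commutatorElement

/-- the image of a nilpotent subgroup is nilpotent -/
theorem isNilpotent_map {A B : Type*} [Group A] [Group B] (f : A →* B) (X : Subgroup A)
    (h : Group.IsNilpotent ↥X) : Group.IsNilpotent ↥(X.map f) :=
  Group.nilpotent_of_surjective (f.subgroupMap X) (f.subgroupMap_surjective X)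

/-- the image of the derived subgroup under a surjective homomorphism -/
theorem map_commutator_of_surjective {A B : Type*} [Group A] [Group B] (f : A →* B)
    (hf : Function.Surjective f) : (commutator A).map f = commutator B := by
  rw [commutator_def, Subgroup.map_commutator, ← MonoidHom.range_eq_map,
    MonoidHom.range_eq_top.mpr hf, commutator_def]

variable {G : Type*} [Group G] [Finite G]

/-- the derived subgroup of a subgroup `E`, as a group, is nilpotent if `⁅E, E⁆` is -/
theorem isNilpotent_commutator_subtype {E : Subgroup G} (h : Group.IsNilpotent ↥⁅E, E⁆) :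
    Group.IsNilpotent ↥(commutator ↥E) := by
  have h1 : ⁅E, E⁆ = (commutator ↥E).map E.subtype := commutator_eq_map E
  rw [h1] at h
  exact (Group.isNilpotent_congr
    ((commutator ↥E).equivMapOfInjective E.subtype E.subtype_injective)).mpr h

/-- **Bender–Glauberman, Theorem II (a)** (`S1355`). -/
theorem fitting_hall_chain_statement (hG : IsMinSimpleOddOrder G) {M : Subgroup G} (hM : IsCoatom M)
    (h1350 : IsPiHallOf (sigma M) (sigmaCore M) M)
    (h1415 : ∀ E : Subgroup G, IsComplIn E (sigmaCore M) M → Group.IsNilpotent ↥⁅E, E⁆)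
    (h1426 : ∀ E : Subgroup G, IsComplIn E (sigmaCore M) M → ⁅sigmaCore M, E⁆ = sigmaCore M)
    (hdec : ∃ K U : Subgroup G, IsSigmaDecomposition M K U)
    (h1437 : ∀ K U : Subgroup G, IsSigmaDecomposition M K U → fittingHallOf M ≠ sigmaCore M →
      U = ⊥ ∧ sigmaCore M = ⁅M, M⁆ ∧ (Nat.card K).Prime ∧
      (Nat.card ↥(sigmaCore M ⊓ centralizer (K : Set G))).Prime ∧
      Nat.card ↥(sigmaCore M ⊓ centralizer (K : Set G)) ∣ Nat.card (fittingHallOf M) ∧
      Nat.card ↥(sigmaCore M ⊓ centralizer (K : Set G)) ∈ beta M ∧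
      ∃ Q : Subgroup G, Q ≤ fittingHallOf M ∧ M ≤ normalizer (Q : Set G) ∧
        IsPGroup (Nat.card ↥(sigmaCore M ⊓ centralizer (K : Set G))) Q ∧
        ¬ Nat.card ↥(sigmaCore M ⊓ centralizer (K : Set G)) ∣ Q.relIndex (sigmaCore M) ∧
        ∀ D : Subgroup G, IsComplIn Q D (sigmaCore M) →
          Group.IsNilpotent D ∧
          M ≤ normalizer ((Q ⊓ centralizer (D : Set G) : Subgroup G) : Set G) ∧
          Q ⊓ centralizer (D : Set G) < Q ∧
          Nat.card Q = Nat.card ↥(Q ⊓ centralizer (D : Set G)) *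
            Nat.card ↥(sigmaCore M ⊓ centralizer (K : Set G)) ^ Nat.card K ∧
          (∀ a ∈ Q, ∀ b ∈ Q,
            a ^ Nat.card ↥(sigmaCore M ⊓ centralizer (K : Set G)) ∈ Q ⊓ centralizer (D : Set G) ∧
            a * b * a⁻¹ * b⁻¹ ∈ Q ⊓ centralizer (D : Set G)) ∧
          ∀ N : Subgroup G, Q ⊓ centralizer (D : Set G) < N → N < Q →
            ¬ M ≤ normalizer (N : Set G)) :
    fittingHallOf M ≠ ⊥ ∧ fittingHallOf M ≤ sigmaCore M ∧ sigmaCore M ≤ ⁅M, M⁆ ∧ ⁅M, M⁆ < M ∧
      Group.IsNilpotent ↥((commutator ↥M).map (QuotientGroup.mk' (fittingHall ↥M))) := by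
  have hNM : sigmaCore M ≤ M := sigmaCore_le M
  have hsolvM : Group.IsSolvable ↥M := hG.2.2.2 M hM.1
  have hM1 : M ≠ ⊥ := Cfsg.Agent.Lib.Helper34_SigmaNe.coatom_ne_bot hG hM
  have h2 : fittingHallOf M ≤ sigmaCore M :=
    Subgroup.map_mono (Cfsg.Agent.Lib.Helper48_BG15c.fittingHall_le_piCore_sigma hG hM)
  obtain ⟨E, hE⟩ := exists_compl_sigmaCore h1350
  have h3 : sigmaCore M ≤ ⁅M, M⁆ := by
    have := h1426 E hE
    rw [← this]
    exact Subgroup.commutator_mono hNM hE.1
  have h4 : ⁅M, M⁆ < M := by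
    have : Nontrivial ↥M := (Subgroup.nontrivial_iff_ne_bot M).mpr hM1
    have h := Group.IsSolvable.commutator_lt_top_of_nontrivial ↥M
    rw [commutator_eq_map M]
    have h5 := (Subgroup.map_subtype_lt_map_subtype (G' := M)).mpr h
    rwa [← MonoidHom.range_eq_map, Subgroup.range_subtype] at h5
  by_cases hcase : fittingHallOf M = sigmaCore M
  · refine ⟨?_, h2, h3, h4, ?_⟩
    · rw [hcase]
      exact Cfsg.Agent.Lib.Helper34_SigmaNe.sigmaCore_ne_bot hG hM
    · -- `M / M_σ ≅ E`
      have hN : fittingHall ↥M = piCore (sigma M) ↥M :=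
        Subgroup.map_injective M.subtype_injective hcase
      set φ : ↥E →* ↥M ⧸ fittingHall ↥M :=
        (QuotientGroup.mk' (fittingHall ↥M)).comp (Subgroup.inclusion hE.1) with hφ
      have hφs : Function.Surjective φ := by
        intro x
        obtain ⟨m, rfl⟩ := QuotientGroup.mk'_surjective _ x
        obtain ⟨a, ha, b, hb, hab⟩ := hE.2.2.2 m.1 m.2
        refine ⟨⟨a, ha⟩, ?_⟩
        rw [hφ, MonoidHom.comp_apply, QuotientGroup.mk'_apply, QuotientGroup.mk'_apply,
          QuotientGroup.eq]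
        have hb' : (⟨b, hNM hb⟩ : ↥M) ∈ fittingHall ↥M := by
          rw [hN]
          obtain ⟨b', hb'1, hb'2⟩ := hb
          have : b' = ⟨b, hNM ⟨b', hb'1, hb'2⟩⟩ := Subtype.ext hb'2
          rwa [← this]
        have : (Subgroup.inclusion hE.1 ⟨a, ha⟩)⁻¹ * m = ⟨b, hNM hb⟩ := by
          apply Subtype.ext
          simp [hab]
        rw [this]
        exact hb'
      rw [map_commutator_of_surjective _ (QuotientGroup.mk'_surjective _),
        ← map_commutator_of_surjective φ hφs]
      exact isNilpotent_map φ _ (isNilpotent_commutator_subtype (h1415 E hE))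
  · obtain ⟨K, U, hKU⟩ := hdec
    obtain ⟨-, hNM', -, hqp, hqdvd, -, Q, hQH, hQn, hQq, hQidx, hD⟩ := h1437 K U hKU hcase
    have : Fact (Nat.card ↥(sigmaCore M ⊓ centralizer (K : Set G))).Prime := ⟨hqp⟩
    refine ⟨?_, h2, h3, h4, ?_⟩
    · intro h
      rw [h, Subgroup.card_bot] at hqdvd
      exact hqp.one_lt.ne' (Nat.dvd_one.mp hqdvd)
    · have hsolvN : Group.IsSolvable ↥(sigmaCore M) :=
        Group.isSolvable_of_isSolvable_injective (Subgroup.inclusion_injective hNM)
      have hKM : K ≤ M := hKU.hall.1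
      have hKN : K ≤ normalizer ((sigmaCore M : Subgroup G) : Set G) :=
        hKM.trans (le_normalizer_sigmaCore M)
      have hcopKN : (Nat.card K).Coprime (Nat.card (sigmaCore M)) := by
        apply Nat.coprime_of_dvd
        intro p hp hpK hpN
        exact (hKU.hall.2.1 p hp hpK).2.2.1 (h1350.2.1 p hp hpN)
      have hQN : Q ≤ sigmaCore M := hQH.trans h2
      obtain ⟨D, hcompl, -, -⟩ :=
        exists_invariant_compl hsolvN hKN hcopKN hQN (hNM.trans hQn) hQq hQidx
      obtain ⟨hDnil, -⟩ := hD D hcompl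
      have hDM : D ≤ M := hcompl.2.1.trans hNM
      have hDnil' : Group.IsNilpotent ↥(D.subgroupOf M) :=
        (Group.isNilpotent_congr (Subgroup.subgroupOfEquivOfLe hDM)).mpr hDnil
      have hcomm := commutator_eq_map M
      have heq : (commutator ↥M).map (QuotientGroup.mk' (fittingHall ↥M)) =
          (D.subgroupOf M).map (QuotientGroup.mk' (fittingHall ↥M)) := by
        apply le_antisymm
        · rintro _ ⟨x, hx, rfl⟩
          have hx1 : (x : G) ∈ sigmaCore M := by
            rw [hNM', hcomm]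
            exact ⟨x, hx, rfl⟩
          obtain ⟨a, ha, b, hb, hab⟩ := hcompl.2.2.2 _ hx1
          have haM : a ∈ M := hNM (hQN ha)
          have ha' : (⟨a, haM⟩ : ↥M) ∈ fittingHall ↥M := by
            obtain ⟨a', ha'1, ha'2⟩ := hQH ha
            have : a' = ⟨a, haM⟩ := Subtype.ext ha'2
            rwa [← this]
          refine ⟨⟨b, hDM hb⟩, ?_, ?_⟩
          · rw [SetLike.mem_coe, mem_subgroupOf]
            exact hb
          · rw [QuotientGroup.mk'_apply, QuotientGroup.mk'_apply, QuotientGroup.eq]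
            have : (⟨b, hDM hb⟩ : ↥M)⁻¹ * x = (⟨b, hDM hb⟩ : ↥M)⁻¹ * ⟨a, haM⟩ * ⟨b, hDM hb⟩ := by
              apply Subtype.ext
              simp [hab, mul_assoc]
            rw [this]
            have hn : (fittingHall ↥M).Normal := inferInstance
            have := hn.conj_mem _ ha' (⟨b, hDM hb⟩ : ↥M)⁻¹
            simpa using this
        · rintro _ ⟨d, hd, rfl⟩
          refine ⟨d, ?_, rfl⟩
          have hd1 : (d : G) ∈ ⁅M, M⁆ := by
            rw [← hNM']
            exact hcompl.2.1 (mem_subgroupOf.mp hd)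
          rw [hcomm] at hd1
          obtain ⟨c, hc, hcd⟩ := hd1
          have : c = d := Subtype.ext hcd
          rwa [← this]
      rw [heq]
      exact isNilpotent_map _ _ hDnil'

end Cfsg.Agent.Lib.Helper53_BG16g
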