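import Mathlib
import Cfsg.Prelude.Def_Characters
import Cfsg.Prelude.Def_ParabolicCharacters
import Cfsg.Prelude.Def_LieTypes
import Cfsg.Prelude.Def_ChevB2
import Cfsg.Agent.Lib.Helper40_DefZeroDefs
import Cfsg.Agent.Lib.Helper40_ChevDZDefs
import Cfsg.Agent.S1045

/-!
helper53: defzero package CHLEU (architect helper40, wave 3, for S2318), verbatim:
`X_i, Ua_i ≤ U ≤ B` inside the Chevalley group (from the sup equation of the landed S1045).
-/

set_option autoImplicit false

namespace Cfsg.Agent.Lib.Helper53_DZ_CHLEU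

open Cfsg Cfsg.Lie Cfsg.Agent.Lib.Helper40_DefZeroDefs Cfsg.Agent.Lib.Helper40_ChevDZDefs

variable {F : Type*} [Field F] (D : ChevalleyDatum)
  (hD : D ∈ [chevG2, chevB2, chevD4, chevF4, chevE6, chevE7, chevE8])
include hD

/- CHLEU (size S). -/
theorem ch_le_U (i : ℕ) (hi : i < D.rank) : cX D F i ≤ cU D F ∧ cUa D F i ≤ cU D F ∧ cU D F ≤ cB D F := by
  have h := (Cfsg.Agent.S1045.result (F := F) D hD i hi).2
  refine ⟨?_, ?_, ?_⟩
  · intro g hg
    rw [cX, Subgroup.mem_subgroupOf] at hg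
    rw [cU, Subgroup.mem_subgroupOf, ← h]
    exact Subgroup.mem_sup_right hg
  · intro g hg
    rw [cUa, Subgroup.mem_subgroupOf] at hg
    rw [cU, Subgroup.mem_subgroupOf, ← h]
    exact Subgroup.mem_sup_left hg
  · intro g hg
    rw [cU, Subgroup.mem_subgroupOf] at hg
    rw [cB, Subgroup.mem_subgroupOf, ChevalleyDatum.borelSubgroup]
    exact Subgroup.mem_sup_left hg

end Cfsg.Agent.Lib.Helper53_DZ_CHLEU
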