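import Mathlib
import Cfsg.Agent.Lib.Helper84_TutteDefs
import Cfsg.Agent.Lib.Helper84_TutteAPI
import Cfsg.Agent.Lib.Helper84_GlDefs
import Cfsg.Agent.Lib.Helper84_GlAPI
import Cfsg.Agent.Lib.Helper31_Tutte_C_RS

/-!
# S4359 package GC-GEN (architect helper84): the chain `Y_(-l) = RI (-l) (t-1-l)`, `l ≤ j`, generates `R_(t-1-j)`
(paper (1.6)).  `p`-version of `Helper53_Tutte_C_GEN.chain_gen1`.
-/

set_option autoImplicit false
set_option linter.unusedSectionVars false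
set_option linter.unusedVariables false

open scoped commutatorElement
open Cfsg.Agent.Lib.Helper84_TutteDefs Cfsg.Agent.Lib.Helper84_GlDefs
open Cfsg.Agent.Lib.Helper31_Tutte_C_RS

namespace Cfsg.Agent.Lib.Helper53_Gl_GC_GEN

variable {G : Type*} [Group G] {P : Subgroup G} {g x0 : G} {p t lam : ℕ}

/-- a subgroup between `A` and `B` with `|B : A| = p` prime that is not inside `A` is `B` -/
theorem eq_of_relIndex_prime {A B K : Subgroup G} (hp : p.Prime) (hAB : A.relIndex B = p)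
    (hAK : A ≤ K) (hKB : K ≤ B) (hne : ¬ K ≤ A) : K = B := by
  have h1 := Subgroup.relIndex_mul_relIndex A K B hAK hKB
  rw [hAB] at h1
  have h2 : A.relIndex K ≠ 1 := fun h => hne (Subgroup.relIndex_eq_one.mp h)
  have h3 : A.relIndex K ∣ p := ⟨_, h1.symm⟩
  have h4 : A.relIndex K = p := by
    rcases (Nat.dvd_prime hp).mp h3 with h | h
    · exact absurd h h2
    · exact h
  rw [h4] at h1
  have h5 : K.relIndex B = 1 := by
    have hp0 : 0 < p := hp.pos
    exact Nat.eq_of_mul_eq_mul_left hp0 (by rw [h1, mul_one])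
  exact le_antisymm hKB (Subgroup.relIndex_eq_one.mp h5)

/-- GC-GEN (L), paper (1.6); `Y_(-l) = RI (-l) (t-1-l)`. -/
theorem pchain_gen (hc : PChainHyp P g p) (hd : PChainData P g p t) :
    ∀ j : ℕ, j + 1 ≤ t → ⨆ l ∈ Finset.range (j + 1), RI P g (-(l : ℤ)) ((t : ℤ) - 1 - l) = RI P g 0 ((t : ℤ) - 1 - j) := by
  intro j
  induction j with
  | zero =>
    intro _
    simp
  | succ j ih =>
    intro hj
    have ih' := ih (by omega)
    rw [Finset.range_add_one, Finset.iSup_insert, ih']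
    -- reparametrise `t = k + j + 2`
    obtain ⟨k, rfl⟩ : ∃ k : ℕ, t = k + j + 2 := ⟨t - j - 2, by omega⟩
    have e1 : ((k + j + 2 : ℕ) : ℤ) - 1 - ((j + 1 : ℕ) : ℤ) = (k : ℤ) := by push_cast; ring
    have e2 : ((k + j + 2 : ℕ) : ℤ) - 1 - (j : ℤ) = (k : ℤ) + 1 := by push_cast; ring
    rw [e1, e2]
    have hidx := hd.idx k (by omega)
    apply eq_of_relIndex_prime hc.prime hidx le_sup_right
    · apply sup_le
      · exact RI_anti (by push_cast; omega) le_rfl
      · exact RI_anti le_rfl (by omega)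
    · intro hle
      have hY : RI P g (-((j + 1 : ℕ) : ℤ)) (k : ℤ) ≤ RI P g 0 ((k : ℤ) + 1) := le_trans le_sup_left hle
      have h1 : RI P g (-((j + 1 : ℕ) : ℤ)) (k : ℤ) ≤ RI P g (-((j + 1 : ℕ) : ℤ)) ((k : ℤ) + 1) := by
        rw [← RI_inf (H := P) (g := g) (i := -((j + 1 : ℕ) : ℤ)) (j := (k : ℤ)) (i' := 0)
          (j' := (k : ℤ) + 1) (by push_cast; omega) (by omega) (by omega)]
        exact le_inf le_rfl hY
      have h2 := cj_mono (g ^ ((j + 1 : ℕ) : ℤ)) h1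
      rw [cj_zpow_RI, cj_zpow_RI] at h2
      have e3 : -((j + 1 : ℕ) : ℤ) + ((j + 1 : ℕ) : ℤ) = 0 := by ring
      have e4 : (k : ℤ) + ((j + 1 : ℕ) : ℤ) = (((k + j + 2 : ℕ) - 1 : ℕ) : ℤ) := by
        push_cast; omega
      have e5 : (k : ℤ) + 1 + ((j + 1 : ℕ) : ℤ) = (((k + j + 2 : ℕ) - 1 : ℕ) : ℤ) + 1 := by
        push_cast; omega
      rw [e3, e4, e5] at h2
      have h3 := hd.idx (k + j + 2 - 1) (by omega)
      rw [Subgroup.relIndex_eq_one.mpr h2] at h3
      exact hc.prime.one_lt.ne h3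

end Cfsg.Agent.Lib.Helper53_Gl_GC_GEN
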