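import Mathlib
import Cfsg.Prelude.Def_Characters
import Cfsg.Agent.Lib.Helper80_CharBasic
import Cfsg.Agent.Lib.Helper17_H9Defs
import Cfsg.Agent.Lib.Helper5_H9_G333
import Cfsg.Agent.Lib.Helper91_H9_BASIC

/-!
# S3805, package L333 (helper53 for helper17): the (3,3,3)-lemma in the `Hyp` configuration
-/

set_option autoImplicit false
open scoped ComplexConjugate

namespace Cfsg.Agent.Lib.Helper53_H9_L333

open Cfsg Cfsg.Agent.Lib.Helper80_CharBasic Cfsg.Agent.Lib.Helper17_H9Defs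

section grp
variable {G : Type*} [Group G] [Finite G]

variable {T : Subgroup G} {x y i j : G}

/-- every element of `T` has cube `1` -/
theorem pow_three_of_mem (h : Hyp G T x y i j) {t : G} (ht : t ∈ T) : t ^ 3 = 1 := by
  have hx3 : x ^ 3 = 1 := by rw [← h.ox]; exact pow_orderOf_eq_one x
  have hy3 : y ^ 3 = 1 := by rw [← h.oy]; exact pow_orderOf_eq_one y
  have hxi3 : x⁻¹ ^ 3 = 1 := by rw [inv_pow, hx3, inv_one]
  have hyi3 : y⁻¹ ^ 3 = 1 := by rw [inv_pow, hy3, inv_one]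
  have c1 : Commute x y := h.comm
  rcases (h.mem t).mp ht with rfl | rfl | rfl | rfl | rfl | rfl | rfl | rfl | rfl
  · exact one_pow 3
  · exact hx3
  · exact hxi3
  · exact hy3
  · exact hyi3
  · rw [c1.mul_pow, hx3, hy3, one_mul]
  · rw [(c1.inv_right).mul_pow, hx3, hyi3, one_mul]
  · rw [(c1.inv_left).mul_pow, hxi3, hy3, one_mul]
  · rw [(c1.inv_inv).mul_pow, hxi3, hyi3, one_mul]

theorem lemma333 (h : Hyp G T x y i j) {u v : G} (hu : u ^ 3 = 1) (hv : v ^ 3 = 1)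
    (huv : u * v ∈ T) (huv1 : u * v ≠ 1) :
    (u ∈ T ∧ v ∈ T) ∨ (IsConj u v ∧ IsConj (u * v) u⁻¹) := by
  have huv3 : (u * v) ^ 3 = 1 := pow_three_of_mem h huv
  rcases Cfsg.Agent.Lib.Helper5_H9_G333.gen333 hu hv huv3 with ⟨c, hc1, hc3, hcu, hcv⟩ | hconj
  · left
    have hct : c * (u * v) = (u * v) * c := by
      rw [← mul_assoc, hcu, mul_assoc, hcv, mul_assoc]
    have hcT : c ∈ T := Cfsg.Agent.Lib.Helper91_H9_BASIC.cent_three h huv huv1 hct hc3
    exact ⟨Cfsg.Agent.Lib.Helper91_H9_BASIC.cent_three h hcT hc1 hcu.symm hu,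
      Cfsg.Agent.Lib.Helper91_H9_BASIC.cent_three h hcT hc1 hcv.symm hv⟩
  · exact Or.inr hconj

end grp

end Cfsg.Agent.Lib.Helper53_H9_L333
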