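import Mathlib
import Cfsg.Prelude.Def_Characters
import Cfsg.Agent.Lib.Helper76_HIDefs
import Cfsg.Agent.Lib.Helper75_CharArith

/-!
# hi_packages EXMU (helper53 for helper76): restrictions of characters have constituents, and the
multiplicities are natural numbers.
-/

set_option autoImplicit false
open scoped ComplexConjugate

namespace Cfsg.Agent.Lib.Helper53_HI_EXMU

open Cfsg Cfsg.Agent.Lib.Helper76_HIDefs

section gen
variable {G : Type*} [Group G] [Finite G]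

/-- the multiplicity of an irreducible character in a character is a natural number -/
theorem ip_nat {φ μ : G → ℂ} (hφ : Cfsg.IsCharacter G φ) (hμ : Cfsg.IsIrrCharacter G μ) :
    ∃ a : ℕ, ip φ μ = (a : ℂ) := by
  unfold ip
  exact @Cfsg.Agent.Lib.Helper75_CharArith.classInner_isCharacter_nat G _ (Fintype.ofFinite G) φ μ
    hφ (Cfsg.Agent.Lib.Helper3_CharBridge.isCharacter_of_isIrrCharacter hμ)

/-- a character which does not vanish at `1` has an irreducible constituent -/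
theorem exists_irr {φ : G → ℂ} (hφ : Cfsg.IsCharacter G φ) (h1 : φ 1 ≠ 0) :
    ∃ μ : G → ℂ, Cfsg.IsIrrCharacter G μ ∧ ip φ μ ≠ 0 := by
  letI : Fintype G := Fintype.ofFinite G
  obtain ⟨m, hm, hsum⟩ := Cfsg.Agent.Lib.Helper75_CharArith.exists_multiplicities hφ
  by_contra hcon
  apply h1
  have h0 : ∀ χ : Cfsg.IrrCharacter G, m χ = 0 := by
    intro χ
    by_contra hne
    apply hcon
    refine ⟨χ.1, χ.2, ?_⟩
    rw [ip_eq_classInner, hm χ]
    exact_mod_cast hne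
  rw [hsum]
  simp [h0]

end gen

section fin
variable {H : Type*} [Group H] [Finite H]

theorem rs_eq_comp (A B : Subgroup H) (hBA : B ≤ A) (ξ : ↥A → ℂ) :
    rs A B ξ = fun b => ξ (Subgroup.inclusion hBA b) := by
  funext b
  rw [rs_apply ξ b (hBA b.2)]
  rfl

theorem isCharacter_rs (A B : Subgroup H) (hBA : B ≤ A) {ξ : ↥A → ℂ}
    (hξ : Cfsg.IsCharacter ↥A ξ) : Cfsg.IsCharacter ↥B (rs A B ξ) := by
  rw [rs_eq_comp A B hBA ξ]
  exact Cfsg.Agent.Lib.Helper75_CharArith.isCharacter_comp (Subgroup.inclusion hBA) hξ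

theorem isCharacter_rsH (B : Subgroup H) {f : H → ℂ} (hf : Cfsg.IsCharacter H f) :
    Cfsg.IsCharacter ↥B (rsH B f) :=
  Cfsg.Agent.Lib.Helper75_CharArith.isCharacter_comp B.subtype hf

theorem exists_constituent (A B : Subgroup H) (hBA : B ≤ A) {ξ : ↥A → ℂ}
    (hξ : Cfsg.IsCharacter ↥A ξ) (h1 : ξ 1 ≠ 0) :
    ∃ μ : ↥B → ℂ, Cfsg.IsIrrCharacter ↥B μ ∧ ip (rs A B ξ) μ ≠ 0 := by
  apply exists_irr (isCharacter_rs A B hBA hξ)
  rw [rs_apply ξ (1 : ↥B) (A.one_mem)]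
  exact h1

theorem mult_nat (A B : Subgroup H) (hBA : B ≤ A) {ξ : ↥A → ℂ} (hξ : Cfsg.IsCharacter ↥A ξ)
    {μ : ↥B → ℂ} (hμ : Cfsg.IsIrrCharacter ↥B μ) : ∃ a : ℕ, ip (rs A B ξ) μ = (a : ℂ) :=
  ip_nat (isCharacter_rs A B hBA hξ) hμ

theorem exists_constituent_H (B : Subgroup H) {f : H → ℂ} (hf : Cfsg.IsCharacter H f)
    (h1 : f 1 ≠ 0) : ∃ μ : ↥B → ℂ, Cfsg.IsIrrCharacter ↥B μ ∧ ip (rsH B f) μ ≠ 0 := by
  apply exists_irr (isCharacter_rsH B hf)
  exact h1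

theorem mult_nat_H (B : Subgroup H) {f : H → ℂ} (hf : Cfsg.IsCharacter H f)
    {μ : ↥B → ℂ} (hμ : Cfsg.IsIrrCharacter ↥B μ) : ∃ a : ℕ, ip (rsH B f) μ = (a : ℂ) :=
  ip_nat (isCharacter_rsH B hf) hμ

end fin

end Cfsg.Agent.Lib.Helper53_HI_EXMU
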