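import Mathlib
import Cfsg.Agent.Lib.Helper83_HP2Defs
import Cfsg.Agent.Lib.Helper43_HP2_BASIC

/-!
helper53: HP2 package T2B (architect helper83; twin of Q2-T2B = `Helper21_Q2_T2Baux.T2B_of`).
Also `prefl_not_mem_S`: the reflection in a vector with two nonzero coordinates does not permute the
coordinate planes (here in every characteristic).
-/

set_option autoImplicit false
set_option linter.unusedSectionVars false
set_option linter.unusedVariables false

namespace Cfsg.Agent.Lib.Helper53_HP2_T2B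

open Module Cfsg.Agent.Lib.Helper94_Symp Cfsg.Agent.Lib.Helper94_OrthSmall
  Cfsg.Agent.Lib.Helper94_OrthSiegel Cfsg.Agent.Lib.Helper94_OrthNondeg
  Cfsg.Agent.Lib.Helper29_ODDefs Cfsg.Agent.Lib.Helper94_Q2Defs Cfsg.Agent.Lib.Helper83_HP2Defs

open Cfsg.Agent.Lib.Helper43_HP2_BASIC (pQ_of_mem pB_of_mem single_mem)

variable {F : Type*} [Field F] [Finite F] {t : ℕ} {S M L : Subgroup (PV F t ≃ₗ[F] PV F t)}

/-- `B(x, v)` for `x` in the `l`-th plane. -/
theorem pB_of_mem_left {l : Fin t} {x : PV F t} (hx : x ∈ pD F t l) (y : PV F t) :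
    pB F t x y = (y l).1 * (x l).2 + (y l).2 * (x l).1 := by
  rw [B_symm (pQ F t) (pB F t) (pQp F t) x y, pB_of_mem hx y]

/-- The reflection in a vector with two nonzero coordinates does not permute the coordinate
planes. -/
theorem prefl_not_mem_S (hS : IsDStab (pD F t) S) {v : PV F t}
    (hQv : pQ F t v ≠ 0) {l m : Fin t} (hlm : l ≠ m) (hl : v l ≠ 0) (hm : v m ≠ 0) :
    prefl F t hQv ∉ S := by
  intro hmem
  obtain ⟨σ, hσ⟩ := (hS _).mp hmem
  -- a vector `x` of the `l`-th plane with `B x v ≠ 0` and `x l` not a multiple of `v l`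
  obtain ⟨ξ, hB, hprop⟩ : ∃ ξ : F × F, (v l).1 * ξ.2 + (v l).2 * ξ.1 ≠ 0 ∧
      ∀ c : F, ξ - c • v l ≠ 0 := by
    by_cases hβ : (v l).2 = 0
    · have hα : (v l).1 ≠ 0 := by
        intro hα
        exact hl (Prod.ext hα hβ)
      refine ⟨(0, 1), ?_, ?_⟩
      · simp only [mul_one, mul_zero, add_zero]
        exact hα
      · intro c h
        have := congrArg Prod.snd h
        simp only [Prod.snd_sub, Prod.smul_snd, hβ, smul_eq_mul, mul_zero, sub_zero,
          Prod.snd_zero] at this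
        exact one_ne_zero this
    · refine ⟨(1, 0), ?_, ?_⟩
      · simp only [mul_zero, mul_one, zero_add]
        exact hβ
      · intro c h
        have h1 := congrArg Prod.snd h
        simp only [Prod.snd_sub, Prod.smul_snd, smul_eq_mul, zero_sub, Prod.snd_zero,
          neg_eq_zero] at h1
        have hc : c = 0 := (mul_eq_zero.mp h1).resolve_right hβ
        have h2 := congrArg Prod.fst h
        simp only [Prod.fst_sub, Prod.smul_fst, smul_eq_mul, hc, zero_mul, sub_zero,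
          Prod.fst_zero] at h2
        exact one_ne_zero h2
  set x : PV F t := Pi.single l ξ with hxdef
  have hxl : x ∈ pD F t l := single_mem l ξ
  have hBxv : pB F t x v = (v l).1 * ξ.2 + (v l).2 * ξ.1 := by
    rw [pB_of_mem_left hxl, hxdef, Pi.single_eq_same]
  set c : F := (pQ F t v)⁻¹ * pB F t x v with hcdef
  have hc : c ≠ 0 := by
    rw [hcdef, hBxv]
    exact mul_ne_zero (inv_ne_zero hQv) hB
  have hrx : prefl F t hQv x = x - c • v := by
    rw [refl_apply]
  have himg : prefl F t hQv x ∈ pD F t (σ l) := by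
    rw [← hσ l]
    exact Submodule.mem_map_of_mem hxl
  -- coordinate `m`
  have hcm : (prefl F t hQv x) m ≠ 0 := by
    rw [hrx, Pi.sub_apply, Pi.smul_apply, hxdef, Pi.single_eq_of_ne (Ne.symm hlm), zero_sub,
      neg_ne_zero]
    exact smul_ne_zero hc hm
  -- coordinate `l`
  have hcl : (prefl F t hQv x) l ≠ 0 := by
    rw [hrx, Pi.sub_apply, Pi.smul_apply, hxdef, Pi.single_eq_same]
    exact hprop c
  have h1 : m = σ l := by
    by_contra hne
    exact hcm (himg m hne)
  have h3 : l = σ l := by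
    by_contra hne
    exact hcl (himg l hne)
  exact hlm (h3.trans h1.symm)

/-- **HP2-T2B** [L] (twin Q2-T2B / Helper21_Q2_T2Baux.T2B_of) -/
theorem T2B (hC : PCtx2 F t S M) (h2 : (2 : F) ≠ 0) {d : F} (hd : d ≠ 0)
    (hFS : ∀ g ∈ M, g ∉ S → ∀ x, IsPBl x → ¬ IsSquare (d * pQ F t x) → ∀ l, g x l ≠ 0)
    {M₁ : Subgroup (PV F t ≃ₗ[F] PV F t)} (hM₁ : M ≤ M₁) (hM₁O : M₁ ≤ oG (pQ F t))
    (hM₁F : ∀ g ∈ M₁, ∃ g' ∈ M, ∃ r ∈ S, r ∈ oG (pQ F t) ∧ g = g' * r) :
    ∀ v, PInRc M₁ v → 2 ≤ (PSupp v).card → ∀ l, v l ≠ 0 := by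
  intro v hv hcard l hvl
  obtain ⟨hQv, hrM⟩ := hv
  obtain ⟨g', hg'M, r, hrS, hrO, hfac⟩ := hM₁F _ hrM
  -- two elements of the support
  obtain ⟨l₁, hl₁, l₂, hl₂, hne⟩ := Finset.one_lt_card.mp hcard
  have hl₁' : v l₁ ≠ 0 := by
    have := hl₁
    simp only [PSupp, Finset.mem_filter, Finset.mem_univ, true_and] at this
    exact this
  have hl₂' : v l₂ ≠ 0 := by
    have := hl₂
    simp only [PSupp, Finset.mem_filter, Finset.mem_univ, true_and] at this
    exact this
  have hnS : prefl F t hQv ∉ S := prefl_not_mem_S hC.hS hQv hne hl₁' hl₂'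
  have hg'S : g' ∉ S := fun h => hnS (by rw [hfac]; exact S.mul_mem h hrS)
  have hj : l ≠ l₁ := fun h => hl₁' (h ▸ hvl)
  -- a non-square
  have hchar : ringChar F ≠ 2 := by
    intro h
    apply h2
    have h0 : ((ringChar F : ℕ) : F) = 0 := ringChar.Nat.cast_ringChar
    rw [h] at h0
    exact_mod_cast h0
  obtain ⟨n, hn⟩ := FiniteField.exists_nonsquare hchar
  have hn0 : n ≠ 0 := by
    intro h
    apply hn
    rw [h]
    exact ⟨0, by ring⟩
  set x : PV F t := Pi.single l₁ (n / d, 1) with hxdef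
  have hxl : x ∈ pD F t l₁ := single_mem l₁ _
  have hQx : pQ F t x = n / d := by
    rw [pQ_of_mem hxl, hxdef, Pi.single_eq_same, mul_one]
  have hnd : n / d ≠ 0 := div_ne_zero hn0 hd
  -- `x' = r x`
  obtain ⟨σ, hσ⟩ := (hC.hS r).mp hrS
  have hQx' : pQ F t (r x) = n / d := by
    rw [hrO x, hQx]
  have hx'Bl : IsPBl (r x) := by
    refine ⟨by rw [hQx']; exact hnd, σ l₁, ?_⟩
    rw [← hσ l₁]
    exact Submodule.mem_map_of_mem hxl
  have hdn : d * (n / d) = n := by field_simp
  have hkey := hFS g' hg'M hg'S (r x) hx'Bl (by rw [hQx', hdn]; exact hn) l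
  apply hkey
  have h1 : g' (r x) = prefl F t hQv x := by
    rw [hfac]
    rfl
  rw [h1, refl_apply, Pi.sub_apply, Pi.smul_apply, hvl, smul_zero, sub_zero, hxdef,
    Pi.single_eq_of_ne hj]

end Cfsg.Agent.Lib.Helper53_HP2_T2B
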