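import Mathlib
import Cfsg.Agent.Lib.Helper83_HP2Defs
import Cfsg.Agent.Lib.Helper53_HP2_T2M1of
import Cfsg.Agent.Lib.Helper55_HP2_TRANS

/-!
helper53: HP2 package T2M1 (architect helper83; twin of Q2-T2M1), verbatim (`T2M1_of` + landed
HP2-TRANS).
-/

set_option autoImplicit false
set_option linter.unusedSectionVars false
set_option linter.unusedVariables false

namespace Cfsg.Agent.Lib.Helper53_HP2_T2M1

open Module Cfsg.Agent.Lib.Helper94_Symp Cfsg.Agent.Lib.Helper94_OrthSmall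
  Cfsg.Agent.Lib.Helper94_OrthSiegel Cfsg.Agent.Lib.Helper94_OrthNondeg
  Cfsg.Agent.Lib.Helper29_ODDefs Cfsg.Agent.Lib.Helper94_Q2Defs Cfsg.Agent.Lib.Helper83_HP2Defs

variable {F : Type*} [Field F] [Finite F] {t : ℕ} {S M L : Subgroup (PV F t ≃ₗ[F] PV F t)}

/-- **HP2-T2M1** [M] (twin Q2-T2M1) -/
theorem T2M1 (hC : PCtx2 F t S M) (h2 : (2 : F) ≠ 0) {d : F} (hd : d ≠ 0)
    (hN : ∀ x, IsPBl x → IsSquare (d * pQ F t x) → PNrm M x) :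
    ∃ M₁ : Subgroup (PV F t ≃ₗ[F] PV F t), M ≤ M₁ ∧ M₁ ≤ oG (pQ F t) ∧
      (∀ x, IsPBl x → IsSquare (d * pQ F t x) → ∀ hx : pQ F t x ≠ 0, prefl F t hx ∈ M₁) ∧
      ∀ g ∈ M₁, ∃ g' ∈ M, ∃ r ∈ S, r ∈ oG (pQ F t) ∧ g = g' * r :=
  Cfsg.Agent.Lib.Helper53_HP2_T2M1of.T2M1_of
    (fun {x y} hx hy h =>
      Cfsg.Agent.Lib.Helper55_HP2_TRANS.TRANS hC.hS (by have := hC.ht; omega) hx hy h)
    hC h2 hd hN

end Cfsg.Agent.Lib.Helper53_HP2_T2M1
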