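import Mathlib

/-!
# Klein four-subgroups generated by two commuting involutions (helper53)

* `four a b ha hb hab` : the subgroup `{1, a, b, a * b}` for commuting elements with `a * a = 1`,
  `b * b = 1`;
* `mem_four`, `left_mem_four`, `right_mem_four`;
* `isKleinFour_four` : it is a Klein four-group when `a ≠ 1`, `b ≠ 1`, `a ≠ b`;
* `exists_mem_not_mem_finset` : a finite subgroup with more elements than a finset has an element
  outside the finset.
-/

set_option autoImplicit false

namespace Cfsg.Agent.Lib.Helper53_Klein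

variable {G : Type*} [Group G]

/-- The subgroup `{1, a, b, a * b}` for commuting involutions `a`, `b`. -/
def four (a b : G) (ha : a * a = 1) (hb : b * b = 1) (hab : a * b = b * a) : Subgroup G where
  carrier := {x | x = 1 ∨ x = a ∨ x = b ∨ x = a * b}
  one_mem' := Or.inl rfl
  mul_mem' := by
    have ha' : ∀ x, a * (a * x) = x := fun x => by rw [← mul_assoc, ha, one_mul]
    have hb' : ∀ x, b * (b * x) = x := fun x => by rw [← mul_assoc, hb, one_mul]
    have hba : b * a = a * b := hab.symm
    have hba' : ∀ x, b * (a * x) = a * (b * x) := fun x => by rw [← mul_assoc, hba, mul_assoc]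
    rintro x y (rfl | rfl | rfl | rfl) (rfl | rfl | rfl | rfl) <;>
      simp only [Set.mem_ofPred_eq, mul_assoc, mul_one, one_mul, ha, hb, ha', hb', hba, hba',
        true_or, or_true]
  inv_mem' := by
    have hab1 : (a * b) * (a * b) = 1 := by
      rw [mul_assoc, ← mul_assoc b a b, ← hab, mul_assoc a b b, hb, mul_one, ha]
    rintro x (rfl | rfl | rfl | rfl)
    · rw [inv_one]; exact Or.inl rfl
    · rw [inv_eq_of_mul_eq_one_right ha]; exact Or.inr (Or.inl rfl)
    · rw [inv_eq_of_mul_eq_one_right hb]; exact Or.inr (Or.inr (Or.inl rfl))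
    · rw [inv_eq_of_mul_eq_one_right hab1]; exact Or.inr (Or.inr (Or.inr rfl))

theorem mem_four {a b : G} {ha : a * a = 1} {hb : b * b = 1} {hab : a * b = b * a} {x : G} :
    x ∈ four a b ha hb hab ↔ x = 1 ∨ x = a ∨ x = b ∨ x = a * b := Iff.rfl

theorem left_mem_four {a b : G} {ha : a * a = 1} {hb : b * b = 1} {hab : a * b = b * a} :
    a ∈ four a b ha hb hab := mem_four.mpr (Or.inr (Or.inl rfl))

theorem right_mem_four {a b : G} {ha : a * a = 1} {hb : b * b = 1} {hab : a * b = b * a} :
    b ∈ four a b ha hb hab := mem_four.mpr (Or.inr (Or.inr (Or.inl rfl)))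

/-- an element commuting with `a` and `b` commutes with every element of `four a b`. -/
theorem commute_four {a b : G} {ha : a * a = 1} {hb : b * b = 1} {hab : a * b = b * a} {y : G}
    (hya : y * a = a * y) (hyb : y * b = b * y) {x : G} (hx : x ∈ four a b ha hb hab) :
    y * x = x * y := by
  rcases mem_four.mp hx with rfl | rfl | rfl | rfl
  · simp
  · exact hya
  · exact hyb
  · rw [← mul_assoc, hya, mul_assoc, hyb, mul_assoc]

/-- `four a b` is contained in any subgroup containing `a` and `b`. -/
theorem four_le {a b : G} {ha : a * a = 1} {hb : b * b = 1} {hab : a * b = b * a} {H : Subgroup G}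
    (haH : a ∈ H) (hbH : b ∈ H) : four a b ha hb hab ≤ H := by
  intro x hx
  rcases mem_four.mp hx with rfl | rfl | rfl | rfl
  · exact H.one_mem
  · exact haH
  · exact hbH
  · exact H.mul_mem haH hbH

theorem isKleinFour_four {a b : G} {ha : a * a = 1} {hb : b * b = 1} {hab : a * b = b * a}
    (ha1 : a ≠ 1) (hb1 : b ≠ 1) (hne : a ≠ b) : IsKleinFour ↥(four a b ha hb hab) := by
  classical
  have hab1 : (a * b) * (a * b) = 1 := by
    rw [mul_assoc, ← mul_assoc b a b, ← hab, mul_assoc a b b, hb, mul_one, ha]
  have hcard : Nat.card ↥(four a b ha hb hab) = 4 := by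
    have h0 : Nat.card ↥(four a b ha hb hab) =
        Nat.card ↑({x | x = 1 ∨ x = a ∨ x = b ∨ x = a * b} : Set G) := rfl
    have h00 : ({x | x = 1 ∨ x = a ∨ x = b ∨ x = a * b} : Set G) = {1, a, b, a * b} := by
      ext x
      simp only [Set.mem_ofPred_eq, Set.mem_insert_iff, Set.mem_singleton_iff]
    rw [h0, h00, Nat.card_coe_set_eq]
    have hab_ne1 : a * b ≠ 1 := by
      intro h
      apply hne
      have : a * b = b * b := by rw [h, hb]
      exact mul_right_cancel this
    have hab_nea : a * b ≠ a := by
      intro h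
      apply hb1
      have : a * b = a * 1 := by rw [h, mul_one]
      exact mul_left_cancel this
    have hab_neb : a * b ≠ b := by
      intro h
      apply ha1
      have : a * b = 1 * b := by rw [h, one_mul]
      exact mul_right_cancel this
    rw [Set.ncard_insert_of_notMem, Set.ncard_insert_of_notMem, Set.ncard_insert_of_notMem,
      Set.ncard_singleton]
    · simp only [Set.mem_singleton_iff]
      exact fun h => hab_neb h.symm
    · simp only [Set.mem_insert_iff, Set.mem_singleton_iff, not_or]
      exact ⟨hne, fun h => hab_nea h.symm⟩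
    · simp only [Set.mem_insert_iff, Set.mem_singleton_iff, not_or]
      exact ⟨fun h => ha1 h.symm, fun h => hb1 h.symm, fun h => hab_ne1 h.symm⟩
  refine ⟨hcard, ?_⟩
  have hpow : ∀ g : ↥(four a b ha hb hab), g ^ 2 = 1 := by
    rintro ⟨g, hg⟩
    apply Subtype.ext
    show g ^ 2 = 1
    rw [pow_two]
    rcases mem_four.mp hg with rfl | rfl | rfl | rfl
    · simp
    · exact ha
    · exact hb
    · exact hab1
  have h1 : Monoid.exponent ↥(four a b ha hb hab) ∣ 2 :=
    Monoid.exponent_dvd_of_forall_pow_eq_one hpow
  rcases (Nat.dvd_prime Nat.prime_two).mp h1 with h | h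
  · exfalso
    rw [Monoid.exp_eq_one_iff] at h
    have hfin : Finite ↥(four a b ha hb hab) := Nat.finite_of_card_ne_zero (by rw [hcard]; norm_num)
    have : Nat.card ↥(four a b ha hb hab) ≤ 1 := Finite.card_le_one_iff_subsingleton.mpr h
    omega
  · exact h

/-- A finite subgroup with more elements than a finset has an element outside the finset. -/
theorem exists_mem_not_mem_finset (E : Subgroup G) [Finite E] (S : Finset G)
    (h : S.card < Nat.card E) : ∃ e ∈ E, e ∉ S := by
  classical
  by_contra hcon
  push Not at hcon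
  have h1 : Nat.card E ≤ Nat.card ↥S :=
    Nat.card_le_card_of_injective (fun e : E => (⟨e.1, hcon e.1 e.2⟩ : ↥S)) (by
      intro x y hxy
      apply Subtype.ext
      exact congrArg (fun t : ↥S => (t : G)) hxy)
  have h2 : Nat.card ↥S = S.card := by
    rw [Nat.card_eq_fintype_card, Fintype.card_coe]
  omega

end Cfsg.Agent.Lib.Helper53_Klein
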