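import Mathlib

set_option autoImplicit false

/-!
M11-L11a (helper89, for helper53): a simple group of order 7920 does not have 12 Sylow 11-subgroups.
-/

namespace Cfsg.Agent.Lib.Helper89_M11_L11a

/-- a prime dividing the lcm of a multiset divides a member -/
theorem exists_dvd_of_prime_dvd_lcm {p : ℕ} (hp : p.Prime) (m : Multiset ℕ) (h : p ∣ m.lcm) :
    ∃ a ∈ m, p ∣ a := by
  induction m using Multiset.induction_on with
  | empty =>
    rw [Multiset.lcm_zero] at h
    exact absurd (Nat.dvd_one.1 h) hp.one_lt.ne'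
  | cons a s ih =>
    rw [Multiset.lcm_cons] at h
    have h2 : p ∣ a * s.lcm := dvd_trans h (Nat.lcm_dvd_mul a s.lcm)
    rcases (Nat.Prime.dvd_mul hp).1 h2 with h3 | h3
    · exact ⟨a, Multiset.mem_cons_self a s, h3⟩
    · obtain ⟨b, hb, hpb⟩ := ih h3
      exact ⟨b, Multiset.mem_cons_of_mem hb, hpb⟩

/-- a permutation of 12 points does not have order 33 -/
theorem orderOf_ne_33 {α : Type*} [Fintype α] [DecidableEq α] (hα : Fintype.card α = 12)
    (σ : Equiv.Perm α) : orderOf σ ≠ 33 := by
  intro h
  have hl : σ.cycleType.lcm = 33 := by rw [Equiv.Perm.lcm_cycleType, h]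
  have hs : σ.cycleType.sum ≤ 12 := by
    rw [Equiv.Perm.sum_cycleType, ← hα]
    exact Finset.card_le_univ _
  obtain ⟨a, ha, h11⟩ := exists_dvd_of_prime_dvd_lcm (by norm_num : Nat.Prime 11) σ.cycleType
    (by rw [hl]; norm_num)
  obtain ⟨b, hb, h3⟩ := exists_dvd_of_prime_dvd_lcm (by norm_num : Nat.Prime 3) σ.cycleType
    (by rw [hl]; norm_num)
  have ha2 : 2 ≤ a := Equiv.Perm.two_le_of_mem_cycleType ha
  have hb2 : 2 ≤ b := Equiv.Perm.two_le_of_mem_cycleType hb
  have ha11 : 11 ≤ a := Nat.le_of_dvd (by omega) h11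
  have hb3 : 3 ≤ b := Nat.le_of_dvd (by omega) h3
  have hsum : σ.cycleType.sum = a + (σ.cycleType.erase a).sum := by
    rw [← Multiset.sum_cons, Multiset.cons_erase ha]
  by_cases hab : b = a
  · subst hab
    have : 33 ∣ b := Nat.Coprime.mul_dvd_of_dvd_of_dvd (by norm_num : Nat.Coprime 3 11) h3 h11
    have : 33 ≤ b := Nat.le_of_dvd (by omega) this
    omega
  · have hb' : b ∈ σ.cycleType.erase a := (Multiset.mem_erase_of_ne hab).2 hb
    have : b ≤ (σ.cycleType.erase a).sum := Multiset.single_le_sum (fun _ _ => Nat.zero_le _) b hb'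
    omega

variable {G : Type*} [Group G] [Finite G]

theorem L11a [IsSimpleGroup G] (hG : Nat.card G = 7920) : Nat.card (Sylow 11 G) ≠ 12 := by
  classical
  intro h12
  have : Fact (Nat.Prime 11) := ⟨by norm_num⟩
  obtain ⟨P⟩ : Nonempty (Sylow 11 G) := inferInstance
  -- the order of `P`
  have hP : Nat.card P = 11 := by
    obtain ⟨k, hk⟩ := IsPGroup.exists_card_eq P.2
    have hdvd : 11 ^ k ∣ 7920 := by
      rw [← hk, ← hG]
      exact Subgroup.card_subgroup_dvd_card _
    have h11 : 11 ^ 1 ∣ Nat.card P := by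
      apply Sylow.pow_dvd_card_of_pow_dvd_card
      rw [hG]
      norm_num
    rw [hk] at h11
    have hk1 : 1 ≤ k := by
      rcases Nat.eq_zero_or_pos k with h0 | h0
      · rw [h0] at h11; norm_num at h11
      · exact h0
    have hk2 : k < 2 := by
      by_contra hcon
      push Not at hcon
      have : 11 ^ 2 ∣ 7920 := dvd_trans (pow_dvd_pow 11 hcon) hdvd
      norm_num at this
    have : k = 1 := by omega
    rw [hk, this, pow_one]
  -- the order of the normalizer
  have hN : Nat.card (Subgroup.normalizer ((P : Subgroup G) : Set G)) = 660 := by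
    have h1 : 12 = (Subgroup.normalizer ((P : Subgroup G) : Set G)).index := by
      rw [← h12]
      exact Sylow.card_eq_index_normalizer P
    have h2 := Subgroup.card_mul_index (Subgroup.normalizer ((P : Subgroup G) : Set G))
    rw [← h1, hG] at h2
    omega
  -- an element of order 3 in the normalizer
  obtain ⟨y, hy⟩ := exists_prime_orderOf_dvd_card' (G := (Subgroup.normalizer ((P : Subgroup G) : Set G))) 3
    (by rw [hN]; norm_num)
  -- it centralizes `P`
  have hcyc : IsCyclic (P : Subgroup G) := isCyclic_of_prime_card hP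
  have haut : Nat.card (MulAut (P : Subgroup G)) = 10 := by
    rw [hcyc.card_mulAut, hP]
    decide
  have hφ : (P : Subgroup G).normalizerMonoidHom y = 1 := by
    have h1 : orderOf ((P : Subgroup G).normalizerMonoidHom y) ∣ 3 := by
      rw [← hy]
      exact orderOf_map_dvd _ y
    have h2 : orderOf ((P : Subgroup G).normalizerMonoidHom y) ∣ 10 := by
      rw [← haut]
      exact orderOf_dvd_natCard _
    have h3 : orderOf ((P : Subgroup G).normalizerMonoidHom y) ∣ Nat.gcd 3 10 := Nat.dvd_gcd h1 h2
    have h4 : orderOf ((P : Subgroup G).normalizerMonoidHom y) = 1 := Nat.dvd_one.1 (by simpa using h3)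
    exact orderOf_eq_one_iff.1 h4
  have hyc : (y : G) ∈ Subgroup.centralizer ((P : Subgroup G) : Set G) := by
    have : y ∈ (P : Subgroup G).normalizerMonoidHom.ker := hφ
    rw [Subgroup.normalizerMonoidHom_ker] at this
    exact this
  -- a generator of `P`
  obtain ⟨x, hx⟩ := exists_prime_orderOf_dvd_card' (G := (P : Subgroup G)) 11 (by rw [hP])
  have hcomm : Commute (x : G) (y : G) := (hyc (x : G) x.2)
  have hxo : orderOf (x : G) = 11 := by rw [Subgroup.orderOf_coe, hx]
  have hyo : orderOf (y : G) = 3 := by rw [Subgroup.orderOf_coe, hy]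
  have hxy : orderOf ((x : G) * (y : G)) = 33 := by
    rw [hcomm.orderOf_mul_eq_mul_orderOf_of_coprime (by rw [hxo, hyo]; norm_num), hxo, hyo]
  -- the action on the Sylow subgroups is faithful
  have hinj : Function.Injective (MulAction.toPermHom G (Sylow 11 G)) := by
    rw [← MonoidHom.ker_eq_bot_iff]
    rcases (MulAction.toPermHom G (Sylow 11 G)).normal_ker.eq_bot_or_eq_top with h | h
    · exact h
    · exfalso
      have hsub : ∀ Q : Sylow 11 G, Q = P := by
        intro Q
        obtain ⟨g, hg⟩ := MulAction.exists_smul_eq G P Q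
        have hgk : g ∈ (MulAction.toPermHom G (Sylow 11 G)).ker := by rw [h]; exact Subgroup.mem_top g
        have h1 : (MulAction.toPermHom G (Sylow 11 G)) g P = P := by
          rw [MonoidHom.mem_ker.1 hgk]; rfl
        rw [← hg]
        exact h1
      have hss : Subsingleton (Sylow 11 G) := ⟨fun Q Q' => by rw [hsub Q, hsub Q']⟩
      have : Nat.card (Sylow 11 G) ≤ 1 := Finite.card_le_one_iff_subsingleton.2 hss
      omega
  have : Fintype (Sylow 11 G) := Fintype.ofFinite _
  have hcard : Fintype.card (Sylow 11 G) = 12 := by rw [← Nat.card_eq_fintype_card, h12]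
  apply orderOf_ne_33 hcard (MulAction.toPermHom G (Sylow 11 G) ((x : G) * (y : G)))
  rw [orderOf_injective _ hinj, hxy]

end Cfsg.Agent.Lib.Helper89_M11_L11a
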