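import Mathlib
import Cfsg.Agent.Lib.Helper17_Sylow
import Cfsg.Agent.Lib.Helper89_M11_L11a

/-!
# Simple groups of order 7920: the Sylow 11-subgroups (helper53, assembly)

`L11_of`: from the exclusion of `n_11 = 45` (packages L11b, L11c) the Sylow 11-normalizers have
order `55` and the Sylow 11-subgroups are self-centralizing.
-/

set_option autoImplicit false

namespace Cfsg.Agent.Lib.Helper53_M11_L11

open Subgroup Cfsg.Agent.Lib.Helper17_Sylow

variable {G : Type*} [Group G] [Finite G]

theorem card_eq [IsSimpleGroup G] (hG : Nat.card G = 7920) : Nat.card G = 11 ^ 1 * 720 := by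
  rw [hG]; norm_num

/-- The number of Sylow 11-subgroups is `144`, given that it is not `45`. -/
theorem card_sylow11 [IsSimpleGroup G] (hG : Nat.card G = 7920)
    (h45 : Nat.card (Sylow 11 G) ≠ 45) : Nat.card (Sylow 11 G) = 144 := by
  haveI : Fact (Nat.Prime 11) := ⟨by norm_num⟩
  have hc := card_sylow_mem_candidates (card_eq hG) (by norm_num)
  have h1 := one_lt_card_sylow_of_card (card_eq hG) (by norm_num) (by norm_num) (by norm_num)
  have h12 := Cfsg.Agent.Lib.Helper89_M11_L11a.L11a hG
  have hl : sylowCandidates 11 720 = [1, 12, 45, 144] := by decide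
  rw [hl] at hc
  simp only [List.mem_cons, List.not_mem_nil, or_false] at hc
  rcases hc with h | h | h | h
  · omega
  · exact absurd h h12
  · exact absurd h h45
  · exact h

/-- Sylow 11-normalizers have order 55 and Sylow 11-subgroups are self-centralizing. -/
theorem L11_of [IsSimpleGroup G] (hG : Nat.card G = 7920)
    (h45 : Nat.card (Sylow 11 G) ≠ 45) (P : Sylow 11 G) :
    Nat.card (normalizer ((P : Subgroup G) : Set G)) = 55 ∧
    centralizer ((P : Subgroup G) : Set G) = (P : Subgroup G) := by
  haveI : Fact (Nat.Prime 11) := ⟨by norm_num⟩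
  have hn := card_sylow11 hG h45
  have hN : Nat.card (normalizer ((P : Subgroup G) : Set G)) = 55 := by
    have := card_normalizer_mul_card_sylow P
    rw [hn, hG] at this
    omega
  refine ⟨hN, ?_⟩
  have hP : Nat.card (P : Subgroup G) = 11 := by
    have := card_sylow_eq_pow (card_eq hG) (by norm_num) P
    simpa using this
  haveI hcyc : IsCyclic (P : Subgroup G) := isCyclic_of_prime_card hP
  have hPC : (P : Subgroup G) ≤ centralizer ((P : Subgroup G) : Set G) :=
    le_centralizer_of_isCyclic _
  have hCN : centralizer ((P : Subgroup G) : Set G) ≤ normalizer ((P : Subgroup G) : Set G) :=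
    centralizer_le_normalizer _
  have hk := relIndex_centralizer_normalizer_dvd_pred (P : Subgroup G) hP
  have h1 := card_mul_relIndex_of_le hCN
  rw [hN] at h1
  have h2 : 11 ∣ Nat.card (centralizer ((P : Subgroup G) : Set G)) := by
    have := Subgroup.card_dvd_of_le hPC
    rwa [hP] at this
  set c := Nat.card (centralizer ((P : Subgroup G) : Set G)) with hc
  set k := (centralizer ((P : Subgroup G) : Set G)).relIndex
    (normalizer ((P : Subgroup G) : Set G)) with hkdef
  -- c * k = 55, 11 ∣ c, k ∣ 10
  have hk10 : k ∣ 10 := hk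
  have hk55 : k ∣ 55 := Dvd.intro_left _ h1
  have hk5 : k = 1 ∨ k = 5 := by
    have : k ∣ Nat.gcd 10 55 := Nat.dvd_gcd hk10 hk55
    have h5 : Nat.gcd 10 55 = 5 := by norm_num
    rw [h5] at this
    rcases (Nat.dvd_prime (by norm_num : Nat.Prime 5)).mp this with h | h
    · exact Or.inl h
    · exact Or.inr h
  rcases hk5 with hk1 | hk5
  · -- N = C : Burnside
    exfalso
    have hle : normalizer ((P : Subgroup G) : Set G) ≤ centralizer ((P : Subgroup G) : Set G) := by
      have hcard : Nat.card (centralizer ((P : Subgroup G) : Set G)) =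
          Nat.card (normalizer ((P : Subgroup G) : Set G)) := by
        rw [hN]; rw [hk1] at h1; omega
      have := Subgroup.eq_of_le_of_card_ge hCN (le_of_eq hcard.symm)
      rw [this]
    rcases sylow_eq_bot_or_top_of_normalizer_le_centralizer P hle with h | h
    · rw [h, Subgroup.card_bot] at hP; omega
    · rw [h, Subgroup.card_top, hG] at hP; omega
  · have hc11 : c = 11 := by rw [hk5] at h1; omega
    exact (Subgroup.eq_of_le_of_card_ge hPC (by rw [hP, ← hc, hc11])).symm

end Cfsg.Agent.Lib.Helper53_M11_L11
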