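import Mathlib
import Cfsg.Agent.Lib.Helper17_Sylow

/-!
# M11 package L11b (helper59), market of helper53 (S4429 cluster: simple groups of order 7920)

If a simple group of order 7920 has 45 Sylow 11-subgroups, the centralizer of an involution centralizing a
Sylow 11-subgroup `P` lies in `N_G(P)`.  The first part of the file holds the numerics shared with `L11c`.
-/

set_option autoImplicit false

namespace Cfsg.Agent.Lib.Helper59_M11_L11b

open Subgroup Cfsg.Agent.Lib.Helper17_Sylow

variable {G : Type*} [Group G] [Finite G]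

theorem fact_prime_eleven : Fact (Nat.Prime 11) := ⟨by norm_num⟩

theorem fact_prime_two' : Fact (Nat.Prime 2) := ⟨Nat.prime_two⟩

theorem fact_prime_three' : Fact (Nat.Prime 3) := ⟨Nat.prime_three⟩

/-- the Sylow 11-subgroups have order 11 -/
theorem card_sylow_eleven (hG : Nat.card G = 7920) (P : Sylow 11 G) :
    Nat.card (P : Subgroup G) = 11 := by
  have := fact_prime_eleven
  have h := card_sylow_eq_pow (p := 11) (k := 1) (m := 720) (by rw [hG]; norm_num) (by norm_num) P
  simpa using h

/-- the Sylow 2-subgroups have order 16 -/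
theorem card_sylow_two (hG : Nat.card G = 7920) (S : Sylow 2 G) :
    Nat.card (S : Subgroup G) = 16 := by
  have := fact_prime_two'
  have h := card_sylow_eq_pow (p := 2) (k := 4) (m := 495) (by rw [hG]; norm_num) (by norm_num) S
  simpa using h

/-- with 45 Sylow 11-subgroups the normalizer has order 176 -/
theorem card_normalizer_eleven (hG : Nat.card G = 7920) (h45 : Nat.card (Sylow 11 G) = 45)
    (P : Sylow 11 G) : Nat.card (normalizer ((P : Subgroup G) : Set G)) = 176 := by
  have := fact_prime_eleven
  have h := card_normalizer_mul_card_sylow P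
  rw [h45, hG] at h
  omega

theorem sylow_le_centralizer (hG : Nat.card G = 7920) (P : Sylow 11 G) :
    (P : Subgroup G) ≤ centralizer ((P : Subgroup G) : Set G) := by
  have := fact_prime_eleven
  have hc : IsCyclic (P : Subgroup G) := isCyclic_of_prime_card (card_sylow_eleven hG P)
  exact le_centralizer_of_isCyclic (P : Subgroup G)

/-- `|N(P) : C(P)|` divides 2 -/
theorem relIndex_centralizer_normalizer_dvd_two (hG : Nat.card G = 7920)
    (h45 : Nat.card (Sylow 11 G) = 45) (P : Sylow 11 G) :
    (centralizer ((P : Subgroup G) : Set G)).relIndex (normalizer ((P : Subgroup G) : Set G)) ∣ 2 := by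
  have := fact_prime_eleven
  have hP := card_sylow_eleven hG P
  have h1 := relIndex_centralizer_normalizer_dvd_pred (P : Subgroup G) hP
  have h2 := card_mul_relIndex_of_le (centralizer_le_normalizer (s := ((P : Subgroup G) : Set G)))
  rw [card_normalizer_eleven hG h45 P] at h2
  have h3 : 11 ∣ Nat.card (centralizer ((P : Subgroup G) : Set G)) := by
    have := Subgroup.card_dvd_of_le (sylow_le_centralizer hG P)
    rwa [hP] at this
  obtain ⟨c, hc⟩ := h3
  set r := (centralizer ((P : Subgroup G) : Set G)).relIndex (normalizer ((P : Subgroup G) : Set G))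
  rw [hc] at h2
  have h4 : c * r = 16 := by nlinarith
  have h5 : r ∣ 16 := Dvd.intro_left c h4
  have h6 : r ∣ Nat.gcd 16 10 := Nat.dvd_gcd h5 h1
  simpa using h6

/-- `|C(P)|` is 88 or 176 -/
theorem card_centralizer_eleven (hG : Nat.card G = 7920)
    (h45 : Nat.card (Sylow 11 G) = 45) (P : Sylow 11 G) :
    Nat.card (centralizer ((P : Subgroup G) : Set G)) = 88 ∨
      Nat.card (centralizer ((P : Subgroup G) : Set G)) = 176 := by
  have h1 := relIndex_centralizer_normalizer_dvd_two hG h45 P
  have h2 := card_mul_relIndex_of_le (centralizer_le_normalizer (s := ((P : Subgroup G) : Set G)))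
  rw [card_normalizer_eleven hG h45 P] at h2
  have h3 : (centralizer ((P : Subgroup G) : Set G)).relIndex (normalizer ((P : Subgroup G) : Set G)) = 1 ∨
      (centralizer ((P : Subgroup G) : Set G)).relIndex (normalizer ((P : Subgroup G) : Set G)) = 2 := by
    have := (Nat.dvd_prime Nat.prime_two).1 h1
    exact this
  rcases h3 with h | h <;> rw [h] at h2 <;> omega


omit [Finite G] in
/-- in a finite 2-group of order at least 4, the centralizer of an involution has order divisible by 4 -/
theorem four_dvd_card_inf_centralizer (K : Subgroup G) [Finite K] (hK2 : IsPGroup 2 K)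
    (h4 : 4 ∣ Nat.card K) (k : G) (hk : k ∈ K) (hko : orderOf k = 2) :
    4 ∣ Nat.card (K ⊓ centralizer ({k} : Set G) : Subgroup G) := by
  have := fact_prime_two'
  set D : Subgroup G := K ⊓ centralizer ({k} : Set G) with hD
  have hDK : D ≤ K := inf_le_left
  have hDfin : Finite D := Finite.of_injective (Subgroup.inclusion hDK) (Subgroup.inclusion_injective hDK)
  have hD2 : IsPGroup 2 D := hK2.to_le hDK
  obtain ⟨d, hd⟩ := IsPGroup.iff_card.mp hD2
  have hkD : k ∈ D := by
    refine Subgroup.mem_inf.2 ⟨hk, ?_⟩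
    rw [mem_centralizer_iff]
    intro z hz
    rw [Set.mem_singleton_iff] at hz
    rw [hz]
  have h2D : 2 ∣ Nat.card D := by
    have := orderOf_dvd_natCard (⟨k, hkD⟩ : D)
    rwa [Subgroup.orderOf_mk, hko] at this
  have hd0 : d ≠ 0 := by
    rintro rfl
    rw [hd, pow_zero] at h2D
    omega
  by_cases hd2 : 2 ≤ d
  · rw [hd]
    exact pow_dvd_pow 2 hd2
  · exfalso
    have hd1 : d = 1 := by omega
    rw [hd1, pow_one] at hd
    have hKnt : Nontrivial K := by
      rw [← Finite.one_lt_card_iff_nontrivial]
      have := Nat.le_of_dvd Nat.card_pos h4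
      omega
    have hcn : Nontrivial (center K) := hK2.center_nontrivial
    obtain ⟨z, hz1⟩ := exists_ne (1 : center K)
    have hzc : ∀ x ∈ K, x * (z.1.1 : G) = (z.1.1 : G) * x := by
      intro x hx
      have := (Subgroup.mem_center_iff.1 z.2) ⟨x, hx⟩
      exact congrArg Subtype.val this
    have hzD : (z.1.1 : G) ∈ D := by
      refine Subgroup.mem_inf.2 ⟨z.1.2, ?_⟩
      rw [mem_centralizer_iff]
      intro y hy
      rw [Set.mem_singleton_iff] at hy
      rw [hy]
      exact hzc k hk
    have hz0 : (z.1.1 : G) ≠ 1 := by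
      intro h
      apply hz1
      apply Subtype.ext
      apply Subtype.ext
      exact h
    have hk1 : k ≠ 1 := by
      intro h
      rw [h, orderOf_one] at hko
      omega
    obtain ⟨y, -, hy⟩ := (Nat.card_eq_two_iff' (1 : D)).mp hd
    have e1 : (⟨k, hkD⟩ : D) = y := hy _ (fun h => hk1 (congrArg Subtype.val h))
    have e2 : (⟨(z.1.1 : G), hzD⟩ : D) = y := hy _ (fun h => hz0 (congrArg Subtype.val h))
    have hzk : (z.1.1 : G) = k := congrArg Subtype.val (e2.trans e1.symm)
    have hKD : K ≤ D := by
      intro x hx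
      refine Subgroup.mem_inf.2 ⟨hx, ?_⟩
      rw [mem_centralizer_iff]
      intro y hy
      rw [Set.mem_singleton_iff] at hy
      rw [hy, ← hzk]
      exact (hzc x hx).symm
    have hle := Nat.card_le_card_of_injective (Subgroup.inclusion hKD) (Subgroup.inclusion_injective hKD)
    have := Nat.le_of_dvd Nat.card_pos h4
    omega

/-- a simple group of order 7920 has trivial centre: no involution centralizer is the whole group -/
theorem centralizer_ne_top [IsSimpleGroup G] (hG : Nat.card G = 7920) (k : G) (hk : k ≠ 1) :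
    centralizer ({k} : Set G) ≠ ⊤ := by
  intro htop
  have hkc : k ∈ center G := by
    rw [Subgroup.mem_center_iff]
    intro g
    have hg : g ∈ centralizer ({k} : Set G) := htop ▸ Subgroup.mem_top g
    exact ((mem_centralizer_iff.1 hg) k rfl).symm
  have hnc : ¬ IsMulCommutative G := not_isMulCommutative_of_not_prime (by rw [hG]; norm_num)
  rcases (inferInstance : (center G).Normal).eq_bot_or_eq_top with h | h
  · rw [h, Subgroup.mem_bot] at hkc
    exact hk hkc
  · apply hnc
    refine ⟨⟨fun a b => ?_⟩⟩
    have ha : a ∈ center G := h ▸ Subgroup.mem_top a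
    exact ((Subgroup.mem_center_iff.1 ha) b).symm


/-- M11-L11b: if there are 45 Sylow 11-subgroups, an involution centralizing a Sylow 11-subgroup `P`
has its whole centralizer inside `N_G(P)`. -/
theorem L11b [IsSimpleGroup G] (hG : Nat.card G = 7920) (h45 : Nat.card (Sylow 11 G) = 45)
    (P : Sylow 11 G) (k : G) (hk : orderOf k = 2)
    (hkP : k ∈ Subgroup.centralizer ((P : Subgroup G) : Set G)) :
    Subgroup.centralizer ({k} : Set G) ≤ Subgroup.normalizer ((P : Subgroup G) : Set G) := by
  classical
  have := fact_prime_eleven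
  have := fact_prime_two'
  have := fact_prime_three'
  set H := centralizer ({k} : Set G) with hH
  set N := normalizer ((P : Subgroup G) : Set G) with hN
  set C := centralizer ((P : Subgroup G) : Set G) with hC
  have hk1 : k ≠ 1 := by
    intro h
    rw [h, orderOf_one] at hk
    omega
  have hPc := card_sylow_eleven hG P
  have hNc : Nat.card N = 176 := card_normalizer_eleven hG h45 P
  have hCN : C ≤ N := centralizer_le_normalizer _
  have hPC : (P : Subgroup G) ≤ C := sylow_le_centralizer hG P
  have hPH : (P : Subgroup G) ≤ H := by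
    intro y hy
    rw [hH, mem_centralizer_iff]
    intro z hz
    rw [Set.mem_singleton_iff] at hz
    subst hz
    exact ((mem_centralizer_iff.1 hkP) y hy).symm
  have hkH : k ∈ H := by
    rw [hH, mem_centralizer_iff]
    intro z hz
    rw [Set.mem_singleton_iff] at hz
    rw [hz]
  have hkN : k ∈ N := hCN hkP
  -- the Sylow 11-subgroups of `H`
  set P' : Sylow 11 H := P.subtype hPH with hP'
  have hnormP' : normalizer ((P' : Subgroup H) : Set H) = N.subgroupOf H := by
    rw [hN, Subgroup.subgroupOf_normalizer_eq hPH]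
    rfl
  have hn'idx : Nat.card (Sylow 11 H) = N.relIndex H := by
    rw [card_sylow_eq_index P', hnormP']
    rfl
  set n' := N.relIndex H with hn'
  have hmod : n' % 11 = 1 := by
    have h1 := card_sylow_modEq_one 11 H
    rw [hn'idx] at h1
    exact h1
  set m := Nat.card (N ⊓ H : Subgroup G) with hm
  have hmh : m * n' = Nat.card H := by
    have h1 := card_mul_relIndex_of_le (inf_le_right : N ⊓ H ≤ H)
    rwa [Subgroup.inf_relIndex_right] at h1
  have hm176 : m ∣ 176 := by
    have h1 := Subgroup.card_dvd_of_le (inf_le_left : N ⊓ H ≤ N)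
    rwa [hNc] at h1
  have hm11 : 11 ∣ m := by
    have h1 := Subgroup.card_dvd_of_le (le_inf le_normalizer hPH : (P : Subgroup G) ≤ N ⊓ H)
    rwa [hPc] at h1
  have hm2 : 2 ∣ m := by
    have h1 := orderOf_dvd_natCard (⟨k, Subgroup.mem_inf.2 ⟨hkN, hkH⟩⟩ : (N ⊓ H : Subgroup G))
    rwa [Subgroup.orderOf_mk, hk] at h1
  have hHdvd : Nat.card H ∣ 7920 := by
    have h1 := Subgroup.card_subgroup_dvd_card H
    rwa [hG] at h1
  have hHidx : 10 < H.index :=
    index_gt_of_not_dvd_factorial H (centralizer_ne_top hG k hk1) 10 (by rw [hG]; decide)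
  have hHle : Nat.card H ≤ 720 := by
    have h1 := Subgroup.card_mul_index H
    rw [hG] at h1
    nlinarith
  by_cases hn1 : n' = 1
  · exact Subgroup.relIndex_eq_one.1 hn1
  exfalso
  have hm_cases : m = 22 ∨ m = 44 ∨ m = 88 ∨ m = 176 := by
    obtain ⟨t, ht⟩ : 22 ∣ m :=
      Nat.Coprime.mul_dvd_of_dvd_of_dvd (by norm_num : Nat.Coprime 2 11) hm2 hm11
    have ht8 : t ∣ 8 := by
      rw [ht] at hm176
      have h1 : 22 * t ∣ 22 * 8 := by simpa using hm176
      exact Nat.dvd_of_mul_dvd_mul_left (by norm_num) h1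
    have hle : t ≤ 8 := Nat.le_of_dvd (by norm_num) ht8
    interval_cases t <;> omega
  have hle : m * n' ≤ 720 := hmh ▸ hHle
  have hdv : m * n' ∣ 7920 := hmh ▸ hHdvd
  have hn12 : n' = 12 ∧ (m = 22 ∨ m = 44) := by
    rcases hm_cases with h | h | h | h <;> rw [h] at hle hdv
    · have h23 : n' ≠ 23 := by
        intro h23
        rw [h23] at hdv
        omega
      exact ⟨by omega, Or.inl h⟩
    · exact ⟨by omega, Or.inr h⟩
    · exfalso; omega
    · exfalso; omega
  -- `44 ∣ |C_H(P)|`
  have h44 : 44 ∣ Nat.card (H ⊓ C : Subgroup G) := by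
    have hCc := card_centralizer_eleven hG h45 P
    have hkC2 : IsPGroup 2 (zpowers (⟨k, hkP⟩ : C)) :=
      IsPGroup.of_card (n := 1) (by rw [Nat.card_zpowers, Subgroup.orderOf_mk, hk, pow_one])
    obtain ⟨K₀, hK₀⟩ := hkC2.exists_le_sylow
    have hK₀c : 4 ∣ Nat.card (K₀ : Subgroup C) := by
      rcases hCc with h | h
      · have h1 := card_sylow_eq_pow (p := 2) (k := 3) (m := 11) (by rw [h]; norm_num)
          (by norm_num) K₀
        rw [h1]; norm_num
      · have h1 := card_sylow_eq_pow (p := 2) (k := 4) (m := 11) (by rw [h]; norm_num)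
          (by norm_num) K₀
        rw [h1]; norm_num
    set K : Subgroup G := (K₀ : Subgroup C).map C.subtype with hK
    have hKcard : Nat.card K = Nat.card (K₀ : Subgroup C) :=
      (Nat.card_congr ((K₀ : Subgroup C).equivMapOfInjective _
        (Subgroup.subtype_injective _)).toEquiv).symm
    have hKC : K ≤ C := Subgroup.map_subtype_le _
    have hK2 : IsPGroup 2 K := K₀.2.map C.subtype
    have hkK : k ∈ K := ⟨⟨k, hkP⟩, hK₀ (mem_zpowers _), rfl⟩
    have h4 := four_dvd_card_inf_centralizer K hK2 (by rw [hKcard]; exact hK₀c) k hkK hk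
    have h4' : 4 ∣ Nat.card (H ⊓ C : Subgroup G) :=
      dvd_trans h4 (Subgroup.card_dvd_of_le (le_inf inf_le_right (inf_le_left.trans hKC)))
    have h11' : 11 ∣ Nat.card (H ⊓ C : Subgroup G) := by
      have h1 := Subgroup.card_dvd_of_le (le_inf hPH hPC : (P : Subgroup G) ≤ H ⊓ C)
      rwa [hPc] at h1
    exact Nat.Coprime.mul_dvd_of_dvd_of_dvd (by norm_num : Nat.Coprime 4 11) h4' h11'
  have hle1 : (H ⊓ C : Subgroup G) ≤ N ⊓ H := le_inf (inf_le_right.trans hCN) inf_le_left
  have hdvd1 : Nat.card (H ⊓ C : Subgroup G) ∣ m := Subgroup.card_dvd_of_le hle1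
  have hm44 : m = 44 := by
    rcases hn12.2 with h | h
    · exfalso
      rw [h] at hdvd1
      have := Nat.le_of_dvd (by norm_num) (dvd_trans h44 hdvd1)
      omega
    · exact h
  have hcard1 : Nat.card (H ⊓ C : Subgroup G) = 44 := by
    rw [hm44] at hdvd1
    exact Nat.dvd_antisymm hdvd1 h44
  have heq : (H ⊓ C : Subgroup G) = N ⊓ H :=
    Subgroup.eq_of_le_of_card_ge hle1 (by rw [hcard1, ← hm, hm44])
  have hH528 : Nat.card H = 528 := by rw [← hmh, hm44, hn12.1]
  -- Burnside's transfer theorem in `H`
  have hNC' : normalizer ((P' : Subgroup H) : Set H) ≤ centralizer ((P' : Subgroup H) : Set H) := by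
    intro x hx
    have hxN : (x : G) ∈ N := by
      rw [hnormP'] at hx
      exact Subgroup.mem_subgroupOf.1 hx
    have hxC : (x : G) ∈ C := by
      have h1 : (x : G) ∈ (H ⊓ C : Subgroup G) := by
        rw [heq]
        exact Subgroup.mem_inf.2 ⟨hxN, x.2⟩
      exact (Subgroup.mem_inf.1 h1).2
    rw [mem_centralizer_iff]
    intro y hy
    have hyP : (y : G) ∈ (P : Subgroup G) := Subgroup.mem_subgroupOf.1 hy
    apply Subtype.ext
    exact (mem_centralizer_iff.1 hxC) _ hyP
  have hcompl := MonoidHom.ker_transferSylow_isComplement' P' hNC'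
  set L := (MonoidHom.transferSylow P' hNC').ker with hL
  have hLn : L.Normal := MonoidHom.normal_ker _
  have hP'c : Nat.card (P' : Subgroup H) = 11 := by
    have h1 := card_sylow_eq_pow (p := 11) (k := 1) (m := 48) (by rw [hH528]; norm_num)
      (by norm_num) P'
    simpa using h1
  have hLc : Nat.card L = 48 := by
    have h1 := hcompl.card_mul_card
    rw [hP'c, hH528] at h1
    omega
  -- a Sylow 3-subgroup of `L` and the Frattini argument
  obtain ⟨Y⟩ : Nonempty (Sylow 3 L) := inferInstance
  have hYc : Nat.card (Y : Subgroup L) = 3 := by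
    have h1 := card_sylow_eq_pow (p := 3) (k := 1) (m := 16) (by rw [hLc]; norm_num)
      (by norm_num) Y
    simpa using h1
  set Y₁ : Subgroup H := (Y : Subgroup L).map L.subtype with hY₁
  have hfrat : normalizer (Y₁ : Set H) ⊔ L = ⊤ := Sylow.normalizer_sup_eq_top Y
  set A := normalizer (Y₁ : Set H) with hA
  have h11A : 11 ∣ Nat.card A := by
    have h1 : L.relIndex A = L.index := by
      rw [← Subgroup.relIndex_sup_right (H := A) (K := L), hfrat, Subgroup.relIndex_top_right]
    have h2 : L.index = 11 := by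
      have h3 := Subgroup.card_mul_index L
      rw [hLc, hH528] at h3
      omega
    rw [← h2, ← h1]
    exact Subgroup.relIndex_dvd_card L A
  obtain ⟨y, hy⟩ := exists_prime_orderOf_dvd_card' 11 h11A
  set y₀ : G := ((y : H) : G) with hy₀
  have hy₀o : orderOf y₀ = 11 := by
    rw [hy₀, Subgroup.orderOf_coe, Subgroup.orderOf_coe, hy]
  set Y₂ : Subgroup G := Y₁.map H.subtype with hY₂
  have hY₂c : Nat.card Y₂ = 3 := by
    rw [hY₂, ← Nat.card_congr (Y₁.equivMapOfInjective _ (Subgroup.subtype_injective _)).toEquiv,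
      hY₁, ← Nat.card_congr ((Y : Subgroup L).equivMapOfInjective _
        (Subgroup.subtype_injective _)).toEquiv, hYc]
  have hy₀N : y₀ ∈ normalizer (Y₂ : Set G) := by
    apply Subgroup.le_normalizer_map H.subtype
    exact ⟨(y : H), y.2, rfl⟩
  have hrel := relIndex_centralizer_normalizer_dvd_pred (p := 3) Y₂ hY₂c
  set Q := zpowers y₀ with hQ
  have hQc : Nat.card Q = 11 := by rw [Nat.card_zpowers, hy₀o]
  have hQN : Q ≤ normalizer (Y₂ : Set G) := by
    rw [hQ, zpowers_le]
    exact hy₀N
  have hQC : Q ≤ centralizer (Y₂ : Set G) := by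
    rw [← Subgroup.relIndex_eq_one]
    have h1 : (centralizer (Y₂ : Set G)).relIndex Q ≤
        (centralizer (Y₂ : Set G)).relIndex (normalizer (Y₂ : Set G)) :=
      Subgroup.relIndex_le_of_le_right hQN (by
        intro h0
        rw [h0] at hrel
        simp at hrel)
    have h2 : (centralizer (Y₂ : Set G)).relIndex Q ∣ 11 := by
      have h3 := Subgroup.relIndex_dvd_card (centralizer (Y₂ : Set G)) Q
      rwa [hQc] at h3
    have h3 := Nat.le_of_dvd (by norm_num) hrel
    rcases (Nat.dvd_prime (by norm_num : Nat.Prime 11)).1 h2 with h | h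
    · exact h
    · omega
  obtain ⟨Q', hQ'⟩ := exists_sylow_eq_zpowers (p := 11) (fun R => card_sylow_eleven hG R) y₀ hy₀o
  have hY₂le : Y₂ ≤ centralizer ((Q' : Subgroup G) : Set G) := by
    intro a ha
    rw [mem_centralizer_iff]
    intro z hz
    rw [SetLike.mem_coe, hQ'] at hz
    exact ((mem_centralizer_iff.1 (hQC hz)) a ha).symm
  have h3 : 3 ∣ Nat.card (centralizer ((Q' : Subgroup G) : Set G)) := by
    have h4 := Subgroup.card_dvd_of_le hY₂le
    rwa [hY₂c] at h4
  rcases card_centralizer_eleven hG h45 Q' with h | h <;> rw [h] at h3 <;> omega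

end Cfsg.Agent.Lib.Helper59_M11_L11b
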