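import Mathlib

/-!
# Frobenius' theorem on the number of solutions of `x ^ n = c` (P. Hall's form)

For a finite group `G`, `c : G` and `n : ℕ`:
`gcd (n * |class of c|) |G|` divides `|class of c| * #{x | x ^ n = c} = #{x | x ^ n ∼ c}`.
Proof after M. Hall, *The theory of groups*, Theorem 9.1.1.
-/

set_option autoImplicit false

namespace Cfsg.Agent.Lib.Helper71_FrobSolutions

open Finset

universe u

section basics

variable {G : Type*} [Group G]

/-- number of solutions of `x ^ n = c`. -/
noncomputable def nsol (n : ℕ) (c : G) : ℕ := Nat.card {x : G // x ^ n = c}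

/-- size of the conjugacy class of `c` (index of the centralizer). -/
noncomputable def csize (c : G) : ℕ := (Subgroup.centralizer {c}).index

lemma nsol_conj (n : ℕ) (c g : G) : nsol n (g * c * g⁻¹) = nsol n c := by
  unfold nsol
  refine Nat.card_congr ⟨fun x => ⟨g⁻¹ * x.1 * g, ?_⟩, fun x => ⟨g * x.1 * g⁻¹, ?_⟩, ?_, ?_⟩
  · have := x.2
    have h2 : (g⁻¹ * x.1 * g) ^ n = g⁻¹ * x.1 ^ n * g := by
      have := conj_pow (a := g⁻¹) (b := x.1) (i := n)
      simpa using this
    rw [h2, this]; group
  · have := x.2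
    rw [conj_pow, this]
  · intro x; ext; simp only; group
  · intro x; ext; simp only; group

lemma csize_mul_card [Finite G] (c : G) :
    csize c * Nat.card (Subgroup.centralizer {c}) = Nat.card G := by
  unfold csize
  rw [mul_comm]
  exact Subgroup.card_mul_index _

lemma card_isConj [Finite G] (c : G) : Nat.card {y : G // IsConj c y} = csize c := by
  unfold csize
  have key := Subgroup.index_comap_of_surjective (MulAction.stabilizer (ConjAct G) c)
    (f := (ConjAct.toConjAct (G := G)).toMonoidHom) (ConjAct.toConjAct (G := G)).surjective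
  have e1 : (Subgroup.centralizer {c}).index = (MulAction.stabilizer (ConjAct G) c).index := by
    rw [Subgroup.centralizer_eq_comap_stabilizer]
    exact key
  rw [e1, MulAction.index_stabilizer, ← Nat.card_coe_set_eq]
  refine Nat.card_congr (Equiv.subtypeEquivRight ?_)
  intro y
  rw [ConjAct.mem_orbit_conjAct, isConj_comm]

lemma csize_eq_one_iff [Finite G] (c : G) : csize c = 1 ↔ Subgroup.centralizer {c} = ⊤ := by
  unfold csize
  exact Subgroup.index_eq_one

lemma mem_centralizer_singleton (c x : G) :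
    x ∈ Subgroup.centralizer {c} ↔ c * x = x * c := by
  rw [Subgroup.mem_centralizer_iff]
  simp

lemma centralizer_eq_top_iff (c : G) :
    Subgroup.centralizer {c} = ⊤ ↔ ∀ x : G, c * x = x * c := by
  rw [eq_top_iff]
  constructor
  · intro h x
    exact (mem_centralizer_singleton c x).mp (h (Subgroup.mem_top x))
  · intro h x _
    exact (mem_centralizer_singleton c x).mpr (h x)

/-- solutions of `x ^ n = c` all lie in the centralizer of `c`. -/
lemma nsol_centralizer (n : ℕ) (c : G) :
    nsol n c = nsol (G := Subgroup.centralizer {c}) n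
      ⟨c, (mem_centralizer_singleton c c).mpr rfl⟩ := by
  unfold nsol
  refine Nat.card_congr ⟨fun x => ⟨⟨x.1, ?_⟩, ?_⟩, fun x => ⟨x.1.1, ?_⟩, ?_, ?_⟩
  · obtain ⟨x, hx⟩ := x
    rw [mem_centralizer_singleton]
    change c * x = x * c
    rw [← hx, ← pow_succ, ← pow_succ']
  · ext; simpa using x.2
  · have := congrArg Subtype.val x.2
    simpa using this
  · intro x; rfl
  · intro x; rfl

end basics

section fin

variable {G : Type*} [Group G] [Fintype G] [DecidableEq G]

lemma nsol_eq_card (n : ℕ) (c : G) : nsol n c = (univ.filter fun x : G => x ^ n = c).card := by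
  unfold nsol
  rw [Nat.card_eq_fintype_card, Fintype.card_subtype]

/-- fibre decomposition: `x ^ (a * b) = c` iff `y = x ^ a` satisfies `y ^ b = c`. -/
lemma nsol_mul (a b : ℕ) (c : G) :
    nsol (a * b) c = ∑ y ∈ univ.filter (fun y : G => y ^ b = c), nsol a y := by
  rw [nsol_eq_card]
  rw [Finset.card_eq_sum_card_fiberwise (f := fun x : G => x ^ a)
    (t := univ.filter (fun y : G => y ^ b = c))]
  · refine Finset.sum_congr rfl ?_
    intro y hy
    rw [nsol_eq_card]
    congr 1
    ext x
    simp only [mem_filter, mem_univ, true_and, and_iff_right_iff_imp]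
    intro hx
    rw [pow_mul, hx]
    exact (mem_filter.mp hy).2
  · intro x hx
    simp only [coe_filter, mem_univ, true_and, Set.mem_ofPred_eq] at hx ⊢
    rw [← pow_mul]; exact hx

/-- the sum of everything: each `x` is a solution of `x ^ n = c` for exactly one `c`. -/
lemma sum_nsol (n : ℕ) : ∑ c : G, nsol n c = Fintype.card G := by
  have := nsol_mul n 0 (1 : G)
  simp only [mul_zero, pow_zero, filter_true] at this
  rw [← this, nsol_eq_card]
  simp

/-- class-sum lemma. -/
lemma dvd_sum_of_dvd_class (Y : Finset G)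
    (hY : ∀ y ∈ Y, ∀ g : G, g * y * g⁻¹ ∈ Y) (f : G → ℕ)
    (hf : ∀ y g : G, f (g * y * g⁻¹) = f y)
    (d : ℕ) (H : ∀ y ∈ Y, d ∣ csize y * f y) : d ∣ ∑ y ∈ Y, f y := by
  classical
  rw [← Finset.sum_fiberwise_of_maps_to (g := ConjClasses.mk) (t := Y.image ConjClasses.mk)
    (fun y hy => Finset.mem_image_of_mem _ hy)]
  apply Finset.dvd_sum
  intro D hD
  obtain ⟨y₀, hy₀, rfl⟩ := Finset.mem_image.mp hD
  have hfil : Y.filter (fun y => ConjClasses.mk y = ConjClasses.mk y₀) =
      univ.filter (fun y => IsConj y₀ y) := by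
    ext y
    simp only [mem_filter, mem_univ, true_and, ConjClasses.mk_eq_mk_iff_isConj]
    constructor
    · rintro ⟨_, h⟩; exact h.symm
    · intro h
      refine ⟨?_, h.symm⟩
      obtain ⟨g, rfl⟩ := isConj_iff.mp h
      exact hY y₀ hy₀ g
  have hsum : ∑ y ∈ Y.filter (fun y => ConjClasses.mk y = ConjClasses.mk y₀), f y =
      csize y₀ * f y₀ := by
    rw [hfil]
    have hc : ∀ y ∈ univ.filter (fun y => IsConj y₀ y), f y = f y₀ := by
      intro y hy
      obtain ⟨g, rfl⟩ := isConj_iff.mp (mem_filter.mp hy).2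
      exact hf y₀ g
    rw [Finset.sum_congr rfl hc, Finset.sum_const, smul_eq_mul, ← card_isConj,
      Nat.card_eq_fintype_card, Fintype.card_subtype]
  rw [hsum]
  exact H y₀ hy₀

/-- the number of `x` with `x ^ n` conjugate to `c`. -/
lemma card_isConj_pow (n : ℕ) (c : G) :
    Nat.card {x : G // IsConj c (x ^ n)} = csize c * nsol n c := by
  classical
  rw [Nat.card_eq_fintype_card, Fintype.card_subtype]
  rw [Finset.card_eq_sum_card_fiberwise (f := fun x : G => x ^ n)
    (t := univ.filter (fun y : G => IsConj c y))]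
  · have hc : ∀ y ∈ univ.filter (fun y : G => IsConj c y),
        ((univ.filter (fun x : G => IsConj c (x ^ n))).filter (fun x => x ^ n = y)).card
          = nsol n c := by
      intro y hy
      obtain ⟨g, rfl⟩ := isConj_iff.mp (mem_filter.mp hy).2
      rw [← nsol_conj n c g, nsol_eq_card]
      congr 1
      ext x
      simp only [mem_filter, mem_univ, true_and, and_iff_right_iff_imp]
      intro hx
      rw [hx]
      exact (mem_filter.mp hy).2
    rw [Finset.sum_congr rfl hc, Finset.sum_const, smul_eq_mul, ← card_isConj,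
      Nat.card_eq_fintype_card, Fintype.card_subtype]
  · intro x hx
    simpa using hx

omit [DecidableEq G] in
/-- if `x ^ (p ^ k) = c` and `p` divides the order of `c`, then `x` has order `p ^ k * |c|`. -/
lemma orderOf_of_pow_eq (p k : ℕ) (hp : p.Prime) (c x : G) (hc : p ∣ orderOf c)
    (hx : x ^ (p ^ k) = c) : orderOf x = p ^ k * orderOf c := by
  have ho : orderOf c = orderOf x / Nat.gcd (orderOf x) (p ^ k) := by
    rw [← hx]; exact orderOf_pow x
  obtain ⟨j, hjk, hj⟩ := (Nat.dvd_prime_pow hp).mp (Nat.gcd_dvd_right (orderOf x) (p ^ k))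
  have ho' : orderOf x = orderOf c * p ^ j := by
    rw [ho, hj]
    exact (Nat.div_mul_cancel (hj ▸ Nat.gcd_dvd_left (orderOf x) (p ^ k))).symm
  rcases lt_or_eq_of_le hjk with hlt | heq
  · exfalso
    have h1 : p ^ (j + 1) ∣ orderOf x := by
      rw [ho', pow_succ, mul_comm (p ^ j) p]
      exact Nat.mul_dvd_mul hc (dvd_refl _)
    have h2 : p ^ (j + 1) ∣ p ^ k := pow_dvd_pow p hlt
    have h3 : p ^ (j + 1) ∣ p ^ j := hj ▸ Nat.dvd_gcd h1 h2
    have := Nat.le_of_dvd (pow_pos hp.pos j) h3
    have h4 : p ^ j < p ^ (j + 1) := Nat.pow_lt_pow_right hp.one_lt (Nat.lt_succ_self j)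
    omega
  · rw [ho', heq, mul_comm]

/-- if `p` divides the order of `c` then the solutions of `x ^ (p ^ k) = c` come in packets of
`p ^ k` (those generating the same cyclic group). -/
lemma prime_pow_dvd_nsol (p k : ℕ) (hp : p.Prime) (c : G) (hc : p ∣ orderOf c) :
    p ^ k ∣ nsol (p ^ k) c := by
  classical
  have hmpos : 0 < orderOf c := orderOf_pos c
  have hm2 : 2 ≤ orderOf c := le_trans hp.two_le (Nat.le_of_dvd hmpos hc)
  rw [nsol_eq_card]
  rw [Finset.card_eq_sum_card_fiberwise (f := fun x : G => Subgroup.zpowers x)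
    (t := (univ.filter (fun x : G => x ^ (p ^ k) = c)).image (fun x => Subgroup.zpowers x))
    (fun x hx => Finset.mem_image_of_mem _ hx)]
  apply Finset.dvd_sum
  intro H hH
  obtain ⟨x₀, hx₀, rfl⟩ := Finset.mem_image.mp hH
  have hx₀' : x₀ ^ (p ^ k) = c := (mem_filter.mp hx₀).2
  have ho := orderOf_of_pow_eq p k hp c x₀ hc hx₀'
  have hpow : ∀ j : ℕ, (x₀ ^ j) ^ (p ^ k) = c ^ j := by
    intro j
    rw [← pow_mul, mul_comm, pow_mul, hx₀']
  suffices h : (Finset.range (p ^ k)).card = ((univ.filter (fun x : G => x ^ (p ^ k) = c)).filter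
      (fun x => Subgroup.zpowers x = Subgroup.zpowers x₀)).card by
    rw [← h, Finset.card_range]
  apply Finset.card_bij (fun i _ => x₀ ^ (1 + i * orderOf c))
  · intro i _
    have hcop : (1 + i * orderOf c).gcd (orderOf x₀) = 1 := by
      rw [ho]
      apply Nat.Coprime.mul_right
      · apply Nat.Coprime.pow_right
        rw [Nat.coprime_comm, hp.coprime_iff_not_dvd]
        intro hd
        have : p ∣ i * orderOf c := Dvd.dvd.mul_left hc i
        have := (Nat.dvd_add_right this).mp (by rwa [add_comm] at hd)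
        exact hp.one_lt.ne' (Nat.dvd_one.mp this)
      · have : Nat.Coprime (1 + i * orderOf c) (orderOf c) := by
          rw [Nat.coprime_comm]
          have := Nat.coprime_add_mul_right_right (orderOf c) 1 i
          rw [this]
          exact Nat.coprime_one_right _
        exact this
    simp only [mem_filter, mem_univ, true_and]
    refine ⟨?_, le_antisymm ?_ ?_⟩
    · rw [hpow, pow_add, pow_one, mul_comm i, pow_mul, pow_orderOf_eq_one, one_pow, mul_one]
    · rw [Subgroup.zpowers_le]
      exact Subgroup.pow_mem _ (Subgroup.mem_zpowers x₀) _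
    · rw [Subgroup.zpowers_le]
      exact mem_zpowers_pow_iff.mpr hcop
  · intro i hi j hj hij
    rw [pow_eq_pow_iff_modEq, ho] at hij
    have h1 : i * orderOf c ≡ j * orderOf c [MOD p ^ k * orderOf c] :=
      Nat.ModEq.add_left_cancel' 1 hij
    have h2 : i ≡ j [MOD p ^ k] := Nat.ModEq.mul_right_cancel' hmpos.ne' h1
    exact Nat.ModEq.eq_of_lt_of_lt h2 (Finset.mem_range.mp hi) (Finset.mem_range.mp hj)
  · intro x hx
    simp only [mem_filter, mem_univ, true_and] at hx
    obtain ⟨hxc, hxz⟩ := hx
    have hmem : x ∈ Subgroup.zpowers x₀ := hxz ▸ Subgroup.mem_zpowers x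
    rw [mem_zpowers_iff_mem_range_orderOf] at hmem
    obtain ⟨j, hj, rfl⟩ := Finset.mem_image.mp hmem
    rw [Finset.mem_range, ho] at hj
    rw [hpow] at hxc
    have hj1 : j ≡ 1 [MOD orderOf c] := by
      rw [← pow_eq_pow_iff_modEq, pow_one]; exact hxc
    have hj2 : j % orderOf c = 1 := by
      rw [hj1]; exact Nat.mod_eq_of_lt hm2
    refine ⟨j / orderOf c, ?_, ?_⟩
    · rw [Finset.mem_range]
      exact Nat.div_lt_of_lt_mul (by rwa [mul_comm] at hj)
    · congr 1
      have := Nat.div_add_mod j (orderOf c)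
      rw [hj2] at this
      rw [mul_comm] at this
      omega

end fin

section central

variable {G : Type*} [Group G]

/-- for central `c` of order prime to `n`, `x ^ n = c` has as many solutions as `x ^ n = 1`. -/
lemma nsol_eq_nsol_one_of_coprime (n : ℕ) (c : G) (hc : ∀ x : G, c * x = x * c)
    (hcop : n.Coprime (orderOf c)) : nsol n c = nsol n (1 : G) := by
  obtain ⟨j, hj⟩ := exists_pow_eq_self_of_coprime hcop
  have hc' : (c ^ j) ^ n = c := by rw [← pow_mul, mul_comm, pow_mul, hj]
  have hcomm : ∀ x : G, Commute x (c ^ j) := fun x => (Commute.pow_right (hc x).symm j)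
  unfold nsol
  refine Nat.card_congr ⟨fun x => ⟨x.1 * (c ^ j)⁻¹, ?_⟩, fun x => ⟨x.1 * c ^ j, ?_⟩, ?_, ?_⟩
  · rw [(hcomm x.1).inv_right.mul_pow, x.2, inv_pow, hc', mul_inv_cancel]
  · rw [(hcomm x.1).mul_pow, x.2, hc', one_mul]
  · intro x; ext; simp
  · intro x; ext; simp

/-- the central elements of order prime to `p`, as a subgroup. -/
def centerPrime (G : Type*) [Group G] (p : ℕ) (hp : p.Prime) : Subgroup G where
  carrier := {c | (∀ x : G, c * x = x * c) ∧ ¬ p ∣ orderOf c}
  one_mem' := by
    refine ⟨fun x => by simp, ?_⟩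
    rw [orderOf_one]
    exact hp.one_lt.ne' ∘ Nat.dvd_one.mp
  mul_mem' := by
    rintro a b ⟨ha, ha'⟩ ⟨hb, hb'⟩
    refine ⟨fun x => ?_, ?_⟩
    · rw [mul_assoc, hb x, ← mul_assoc, ha x, mul_assoc]
    · intro hd
      have h1 : orderOf (a * b) ∣ Nat.lcm (orderOf a) (orderOf b) :=
        Commute.orderOf_mul_dvd_lcm (ha b)
      have h2 := dvd_trans (dvd_trans hd h1) (Nat.lcm_dvd_mul _ _)
      rcases (Nat.Prime.dvd_mul hp).mp h2 with h | h
      · exact ha' h
      · exact hb' h
  inv_mem' := by
    rintro a ⟨ha, ha'⟩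
    refine ⟨fun x => ?_, by rwa [orderOf_inv]⟩
    have := ha x
    calc a⁻¹ * x = a⁻¹ * (x * a) * a⁻¹ := by group
      _ = a⁻¹ * (a * x) * a⁻¹ := by rw [this]
      _ = x * a⁻¹ := by group

lemma coprime_card_centerPrime [Finite G] (p : ℕ) (hp : p.Prime) :
    Nat.Coprime (Nat.card (centerPrime G p hp)) p := by
  rw [Nat.coprime_comm, hp.coprime_iff_not_dvd]
  intro hd
  have : Fact p.Prime := ⟨hp⟩
  obtain ⟨x, hx⟩ := exists_prime_orderOf_dvd_card' p hd
  have := x.2.2
  rw [Subgroup.orderOf_coe, hx] at this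
  exact this (dvd_refl p)

end central

section assembly

variable {G : Type*} [Group G] [Fintype G] [DecidableEq G]

/-- the theorem for non-central elements (obtained by induction from the centralizers). -/
def NonCentralOK (G : Type*) [Group G] : Prop :=
  ∀ c : G, ¬ (∀ x : G, c * x = x * c) → ∀ n : ℕ,
    Nat.gcd (n * csize c) (Nat.card G) ∣ csize c * nsol n c

omit [Fintype G] [DecidableEq G] in
lemma gcd_dvd_csize_mul_nsol [Finite G] (A : NonCentralOK G) (n : ℕ)
    (Qn : ∀ c : G, (∀ x : G, c * x = x * c) → Nat.gcd n (Nat.card G) ∣ nsol n c) (y : G) :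
    Nat.gcd n (Nat.card G) ∣ csize y * nsol n y := by
  by_cases hy : ∀ x : G, y * x = x * y
  · exact Dvd.dvd.mul_left (Qn y hy) _
  · exact dvd_trans (Nat.gcd_dvd_gcd_of_dvd_left _ (Nat.dvd_mul_right n (csize y))) (A y hy n)

lemma coprime_step (A : NonCentralOK G) (a b : ℕ) (hab : Nat.Coprime a b)
    (Qa : ∀ c : G, (∀ x : G, c * x = x * c) → Nat.gcd a (Nat.card G) ∣ nsol a c)
    (Qb : ∀ c : G, (∀ x : G, c * x = x * c) → Nat.gcd b (Nat.card G) ∣ nsol b c)
    (c : G) (hc : ∀ x : G, c * x = x * c) :
    Nat.gcd (a * b) (Nat.card G) ∣ nsol (a * b) c := by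
  have key : ∀ a b : ℕ,
      (∀ c : G, (∀ x : G, c * x = x * c) → Nat.gcd a (Nat.card G) ∣ nsol a c) →
      Nat.gcd a (Nat.card G) ∣ nsol (a * b) c := by
    intro a b Qa
    rw [nsol_mul]
    apply dvd_sum_of_dvd_class
    · intro y hy g
      simp only [mem_filter, mem_univ, true_and] at hy ⊢
      rw [conj_pow, hy, ← hc g, mul_inv_cancel_right]
    · intro y g; exact nsol_conj a y g
    · intro y _; exact gcd_dvd_csize_mul_nsol A a Qa y
  have h1 := key a b Qa
  have h2 := key b a Qb
  rw [mul_comm b a] at h2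
  rw [Nat.gcd_comm, Nat.Coprime.gcd_mul _ hab, Nat.gcd_comm _ a, Nat.gcd_comm _ b]
  refine Nat.Coprime.mul_dvd_of_dvd_of_dvd ?_ h1 h2
  exact Nat.Coprime.coprime_dvd_left (Nat.gcd_dvd_left a _)
    (Nat.Coprime.coprime_dvd_right (Nat.gcd_dvd_left b _) hab)

lemma prime_pow_step (A : NonCentralOK G) (p k : ℕ) (hp : p.Prime) (c : G)
    (hc : ∀ x : G, c * x = x * c) :
    Nat.gcd (p ^ k) (Nat.card G) ∣ nsol (p ^ k) c := by
  classical
  have hd1 : Nat.gcd (p ^ k) (Nat.card G) ∣ p ^ k := Nat.gcd_dvd_left _ _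
  have hd2 : Nat.gcd (p ^ k) (Nat.card G) ∣ Nat.card G := Nat.gcd_dvd_right _ _
  have h1 : Nat.gcd (p ^ k) (Nat.card G) ∣ nsol (p ^ k) (1 : G) := by
    have hsum := sum_nsol (G := G) (p ^ k)
    rw [← Finset.sum_filter_add_sum_filter_not univ (fun c : G => ∀ x : G, c * x = x * c),
      ← Finset.sum_filter_add_sum_filter_not
        (univ.filter (fun c : G => ∀ x : G, c * x = x * c)) (fun c : G => p ∣ orderOf c)] at hsum
    have s3 : Nat.gcd (p ^ k) (Nat.card G) ∣
        ∑ c ∈ univ.filter (fun c : G => ¬ ∀ x : G, c * x = x * c), nsol (p ^ k) c := by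
      apply dvd_sum_of_dvd_class
      · intro y hy g
        simp only [mem_filter, mem_univ, true_and] at hy ⊢
        intro h
        apply hy
        intro x
        have := h (g * x * g⁻¹)
        have e : y * x = g⁻¹ * (g * y * g⁻¹ * (g * x * g⁻¹)) * g := by group
        rw [e, this]; group
      · intro y g; exact nsol_conj _ y g
      · intro y hy
        exact dvd_trans (Nat.gcd_dvd_gcd_of_dvd_left _ (Nat.dvd_mul_right _ (csize y)))
          (A y (mem_filter.mp hy).2 _)
    have s2 : Nat.gcd (p ^ k) (Nat.card G) ∣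
        ∑ c ∈ (univ.filter (fun c : G => ∀ x : G, c * x = x * c)).filter
          (fun c : G => p ∣ orderOf c), nsol (p ^ k) c :=
      Finset.dvd_sum (fun c hc => dvd_trans hd1 (prime_pow_dvd_nsol p k hp c (mem_filter.mp hc).2))
    have s1 : ∑ c ∈ (univ.filter (fun c : G => ∀ x : G, c * x = x * c)).filter
          (fun c : G => ¬ p ∣ orderOf c), nsol (p ^ k) c =
        Nat.card (centerPrime G p hp) * nsol (p ^ k) (1 : G) := by
      have hc1 : ∀ c ∈ (univ.filter (fun c : G => ∀ x : G, c * x = x * c)).filter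
          (fun c : G => ¬ p ∣ orderOf c), nsol (p ^ k) c = nsol (p ^ k) (1 : G) := by
        intro c hc
        obtain ⟨hc1, hc2⟩ := mem_filter.mp hc
        apply nsol_eq_nsol_one_of_coprime _ c (mem_filter.mp hc1).2
        apply Nat.Coprime.pow_left
        exact (hp.coprime_iff_not_dvd).mpr hc2
      rw [Finset.sum_congr rfl hc1, Finset.sum_const, smul_eq_mul]
      congr 1
      rw [Nat.card_eq_fintype_card]
      symm
      apply Fintype.card_of_subtype
      intro x
      simp only [mem_filter, mem_univ, true_and]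
      rfl
    have h3 : Nat.gcd (p ^ k) (Nat.card G) ∣
        Nat.card (centerPrime G p hp) * nsol (p ^ k) (1 : G) := by
      have h4 : Nat.gcd (p ^ k) (Nat.card G) ∣ Fintype.card G := by
        rwa [← Nat.card_eq_fintype_card]
      rw [← hsum] at h4
      have h5 := (Nat.dvd_add_left s3).mp h4
      have h6 := (Nat.dvd_add_right s2).mp h5
      rwa [s1] at h6
    have hcop : Nat.Coprime (Nat.gcd (p ^ k) (Nat.card G)) (Nat.card (centerPrime G p hp)) := by
      apply Nat.Coprime.coprime_dvd_left hd1
      apply Nat.Coprime.pow_left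
      exact (coprime_card_centerPrime p hp).symm
    exact hcop.dvd_of_dvd_mul_left h3
  by_cases hpc : p ∣ orderOf c
  · exact dvd_trans hd1 (prime_pow_dvd_nsol p k hp c hpc)
  · rw [nsol_eq_nsol_one_of_coprime _ c hc
      (Nat.Coprime.pow_left _ ((hp.coprime_iff_not_dvd).mpr hpc))]
    exact h1

omit [Fintype G] [DecidableEq G] in
lemma zero_step [Finite G] (c : G) : Nat.gcd 0 (Nat.card G) ∣ nsol 0 c := by
  rw [Nat.gcd_zero_left]
  by_cases hc : c = 1
  · subst hc
    have : nsol 0 (1 : G) = Nat.card G := by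
      unfold nsol
      exact Nat.card_congr (Equiv.subtypeUnivEquiv (fun x => pow_zero x))
    rw [this]
  · have : nsol 0 c = 0 := by
      unfold nsol
      have : IsEmpty {x : G // x ^ 0 = c} := ⟨fun x => hc (by rw [← x.2, pow_zero])⟩
      exact Nat.card_of_isEmpty
    rw [this]
    exact dvd_zero _

/-- all central elements, given the non-central ones. -/
lemma central_step (A : NonCentralOK G) (n : ℕ) :
    ∀ c : G, (∀ x : G, c * x = x * c) → Nat.gcd n (Nat.card G) ∣ nsol n c := by
  induction n using Nat.recOnPrimeCoprime with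
  | zero => intro c _; exact zero_step c
  | prime_pow p k hp => intro c hc; exact prime_pow_step A p k hp c hc
  | coprime a b _ _ hab Qa Qb => intro c hc; exact coprime_step A a b hab Qa Qb c hc

end assembly

section main

/-- the non-central case, from the theorem for the centralizer. -/
lemma noncentral_step {G : Type u} [Group G] [Finite G] (c : G)
    (IH : ∀ (c' : Subgroup.centralizer {c}) (n : ℕ),
      Nat.gcd (n * csize c') (Nat.card (Subgroup.centralizer {c})) ∣ csize c' * nsol n c')
    (n : ℕ) : Nat.gcd (n * csize c) (Nat.card G) ∣ csize c * nsol n c := by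
  have hcc : c ∈ Subgroup.centralizer {c} := (mem_centralizer_singleton c c).mpr rfl
  have hcentral : csize (⟨c, hcc⟩ : Subgroup.centralizer {c}) = 1 := by
    rw [csize_eq_one_iff, centralizer_eq_top_iff]
    intro x
    ext
    exact (mem_centralizer_singleton c x.1).mp x.2
  have h1 := IH ⟨c, hcc⟩ n
  rw [hcentral, mul_one, one_mul, ← nsol_centralizer] at h1
  rw [← csize_mul_card c, mul_comm (csize c) (Nat.card _), Nat.gcd_mul_right, mul_comm]
  exact Nat.mul_dvd_mul (dvd_refl _) h1

theorem main_aux : ∀ k : ℕ, ∀ (G : Type u) [Group G] [Finite G], Nat.card G = k →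
    ∀ (c : G) (n : ℕ), Nat.gcd (n * csize c) (Nat.card G) ∣ csize c * nsol n c := by
  intro k
  induction k using Nat.strong_induction_on with
  | _ k IH =>
  intro G _ _ hk
  classical
  have := Fintype.ofFinite G
  have A : NonCentralOK G := by
    intro c hc n
    apply noncentral_step c _ n
    apply IH (Nat.card (Subgroup.centralizer {c})) _ _ rfl
    rw [← hk, ← csize_mul_card c]
    have h1 : csize c ≠ 1 := by
      rw [Ne, csize_eq_one_iff, centralizer_eq_top_iff]; exact hc
    have h0 : csize c ≠ 0 := by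
      unfold csize
      exact Subgroup.index_ne_zero_of_finite
    have hpos : 0 < Nat.card (Subgroup.centralizer {c}) := Nat.card_pos
    have : 2 ≤ csize c := by omega
    nlinarith
  intro c n
  by_cases hc : ∀ x : G, c * x = x * c
  · have : csize c = 1 := (csize_eq_one_iff c).mpr ((centralizer_eq_top_iff c).mpr hc)
    rw [this, mul_one, one_mul]
    exact central_step A n c hc
  · exact A c hc n

/-- **P. Hall's form of Frobenius' theorem**: `gcd (n * |class of c|) |G|` divides
`|class of c| * #{x | x ^ n = c}`. -/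
theorem gcd_dvd_csize_mul_nsol' {G : Type u} [Group G] [Finite G] (c : G) (n : ℕ) :
    Nat.gcd (n * csize c) (Nat.card G) ∣ csize c * nsol n c :=
  main_aux _ G rfl c n

/-- the same, in terms of conjugacy: `gcd (|class of c| * n) |G|` divides `#{x | x ^ n ∼ c}`. -/
theorem gcd_dvd_card_isConj_pow {G : Type u} [Group G] [Finite G] (c : G) (n : ℕ) :
    Nat.gcd (Nat.card {y : G // IsConj c y} * n) (Nat.card G) ∣
      Nat.card {x : G // IsConj c (x ^ n)} := by
  classical
  have := Fintype.ofFinite G
  rw [card_isConj_pow, card_isConj, mul_comm]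
  exact gcd_dvd_csize_mul_nsol' c n

/-- **Frobenius' theorem**: `gcd n |G|` divides the number of solutions of `x ^ n = 1`. -/
theorem gcd_dvd_nsol_one {G : Type u} [Group G] [Finite G] (n : ℕ) :
    Nat.gcd n (Nat.card G) ∣ Nat.card {x : G // x ^ n = 1} := by
  have h := gcd_dvd_csize_mul_nsol' (1 : G) n
  have h1 : csize (1 : G) = 1 := by
    rw [csize_eq_one_iff, centralizer_eq_top_iff]; intro x; simp
  rwa [h1, mul_one, one_mul] at h

/-- **Frobenius' theorem**: if `m ∣ |G|` then `m` divides the number of solutions of `x ^ m = 1`. -/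
theorem dvd_card_pow_eq_one {G : Type u} [Group G] [Finite G] (m : ℕ) (hm : m ∣ Nat.card G) :
    m ∣ Nat.card {x : G // x ^ m = 1} := by
  have := gcd_dvd_nsol_one (G := G) m
  rwa [Nat.gcd_eq_left hm] at this

end main

end Cfsg.Agent.Lib.Helper71_FrobSolutions
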