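import Mathlib
import Cfsg.Agent.Lib.Helper17_Sylow
import Cfsg.Agent.Lib.Helper59_M11_L11b
import Cfsg.Agent.Lib.Helper59_ConjOrbits
import Cfsg.Agent.S0111
import Cfsg.Agent.S3993

/-!
# M11 package L11c (helper59), market of helper53 (S4429 cluster: simple groups of order 7920)

A simple group of order 7920 with 45 Sylow 11-subgroups, in which the centralizer of every involution
centralizing a Sylow 11-subgroup `P` lies in `N_G(P)`, does not exist.

Route: Thompson transfer shows that every involution centralizes a (then unique) Sylow 11-subgroup.  Counting the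
non-trivial 2-elements `h` by the Sylow 11-subgroup centralized by the involution of `⟨h⟩` gives
`a - 1 = 45 m` for `a = #{h | h ^ 16 = 1}`; in `N = N_G(P)` the 2-elements are `1`, the `m` elements counted
before and a set `J ⊆ N ∖ C_G(P)` on which `P` acts freely by conjugation.  Frobenius' theorem for `G` and for
`N` (`16 ∣ a`, `16 ∣ 1 + m + |J|`) with `11 ∣ |J| ≤ 88` is contradictory.
-/

set_option autoImplicit false

namespace Cfsg.Agent.Lib.Helper59_M11_L11c

open Subgroup Cfsg.Agent.Lib.Helper17_Sylow Cfsg.Agent.Lib.Helper59_M11_L11b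

variable {G : Type*} [Group G]

/-- the involution of the cyclic group generated by a non-trivial 2-element -/
noncomputable def inv2 (h : G) : G := h ^ (orderOf h / 2)

theorem orderOf_inv2 {h : G} (h1 : h ≠ 1) (h16 : h ^ 16 = 1) : orderOf (inv2 h) = 2 := by
  have hd : orderOf h ∣ 2 ^ 4 := orderOf_dvd_of_pow_eq_one h16
  obtain ⟨k, hk, hk'⟩ := (Nat.dvd_prime_pow Nat.prime_two).1 hd
  have hk0 : k ≠ 0 := by
    rintro rfl
    rw [pow_zero, orderOf_eq_one_iff] at hk'
    exact h1 hk'
  have h2 : 2 ∣ orderOf h := by rw [hk']; exact dvd_pow_self 2 hk0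
  unfold inv2
  exact orderOf_pow_orderOf_div (by rw [hk']; positivity) h2

theorem inv2_conj (g h : G) : inv2 (g * h * g⁻¹) = g * inv2 h * g⁻¹ := by
  unfold inv2
  rw [orderOf_conj', conj_pow]

theorem conj_mem_centralizer_smul (g x : G) (P : Sylow 11 G)
    (hx : x ∈ centralizer ((P : Subgroup G) : Set G)) :
    g * x * g⁻¹ ∈ centralizer (((g • P : Sylow 11 G) : Subgroup G) : Set G) := by
  rw [mem_centralizer_iff] at hx ⊢
  intro y hy
  have hy' : g⁻¹ * y * g ∈ (P : Subgroup G) := (mem_smul_sylow g y P).1 hy
  have h := hx _ hy'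
  calc y * (g * x * g⁻¹) = g * ((g⁻¹ * y * g) * x) * g⁻¹ := by group
    _ = g * (x * (g⁻¹ * y * g)) * g⁻¹ := by rw [h]
    _ = g * x * g⁻¹ * y := by group

variable [Finite G]

/-- a Sylow 2-subgroup inside the normalizer of a Sylow 11-subgroup -/
theorem exists_sylow_two_le_normalizer (hG : Nat.card G = 7920) (h45 : Nat.card (Sylow 11 G) = 45)
    (P : Sylow 11 G) :
    ∃ S : Sylow 2 G, (S : Subgroup G) ≤ normalizer ((P : Subgroup G) : Set G) := by
  have := fact_prime_two'
  have hN := card_normalizer_eleven hG h45 P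
  obtain ⟨K', hK'⟩ := Sylow.exists_subgroup_card_pow_prime (G := normalizer ((P : Subgroup G) : Set G))
    2 (n := 4) (by rw [hN]; norm_num)
  set K : Subgroup G := K'.map (normalizer ((P : Subgroup G) : Set G)).subtype with hK
  have hKc : Nat.card K = 16 := by
    rw [hK, Nat.card_congr (K'.equivMapOfInjective _ (Subgroup.subtype_injective _)).symm.toEquiv, hK']
    norm_num
  have hKN : K ≤ normalizer ((P : Subgroup G) : Set G) := Subgroup.map_subtype_le K'
  have hKp : IsPGroup 2 K := IsPGroup.of_card (n := 4) (by rw [hKc]; norm_num)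
  obtain ⟨S, hS⟩ := hKp.exists_le_sylow
  refine ⟨S, ?_⟩
  have hKfin : Finite (S : Subgroup G) := inferInstance
  have heq : K = (S : Subgroup G) := by
    apply Subgroup.eq_of_le_of_card_ge hS
    rw [hKc, card_sylow_two hG S]
  rw [← heq]
  exact hKN

/-- every involution centralizes a Sylow 11-subgroup (Thompson transfer) -/
theorem exists_centralized [IsSimpleGroup G] (hG : Nat.card G = 7920)
    (h45 : Nat.card (Sylow 11 G) = 45) (w : G) (hw : orderOf w = 2) :
    ∃ P' : Sylow 11 G, w ∈ centralizer ((P' : Subgroup G) : Set G) := by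
  have := fact_prime_two'
  have := fact_prime_eleven
  obtain ⟨P⟩ : Nonempty (Sylow 11 G) := inferInstance
  obtain ⟨S, hSN⟩ := exists_sylow_two_le_normalizer hG h45 P
  have hw2 : IsPGroup 2 (zpowers w) :=
    IsPGroup.of_card (n := 1) (by rw [Nat.card_zpowers, hw, pow_one])
  obtain ⟨S', hS'⟩ := hw2.exists_le_sylow
  obtain ⟨g, rfl⟩ := MulAction.exists_smul_eq G S S'
  have hu : g⁻¹ * w * g ∈ (S : Subgroup G) := (mem_smul_sylow g w S).1 (hS' (mem_zpowers w))
  have huo : orderOf (g⁻¹ * w * g) = 2 := by
    have h := orderOf_conj' w g⁻¹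
    rw [inv_inv] at h
    rw [h, hw]
  suffices h : ∃ P'' : Sylow 11 G, g⁻¹ * w * g ∈ centralizer ((P'' : Subgroup G) : Set G) by
    obtain ⟨P'', hP''⟩ := h
    refine ⟨g • P'', ?_⟩
    have h1 := conj_mem_centralizer_smul g _ P'' hP''
    have e : g * (g⁻¹ * w * g) * g⁻¹ = w := by group
    rwa [e] at h1
  set u := g⁻¹ * w * g with hu_def
  by_cases huK : u ∈ centralizer ((P : Subgroup G) : Set G)
  · exact ⟨P, huK⟩
  · set K := (S : Subgroup G) ⊓ centralizer ((P : Subgroup G) : Set G) with hK
    have hKS : K ≤ (S : Subgroup G) := inf_le_left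
    have hrel : K.relIndex (S : Subgroup G) = 2 := by
      rw [hK, Subgroup.inf_relIndex_left]
      have h1 := relIndex_centralizer_normalizer_dvd_two hG h45 P
      have h2 : (centralizer ((P : Subgroup G) : Set G)).relIndex (S : Subgroup G) ≤
          (centralizer ((P : Subgroup G) : Set G)).relIndex (normalizer ((P : Subgroup G) : Set G)) := by
        apply Subgroup.relIndex_le_of_le_right hSN
        intro h0
        rw [h0] at h1
        simp at h1
      have h3 : (centralizer ((P : Subgroup G) : Set G)).relIndex (S : Subgroup G) ≠ 1 := by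
        intro h
        rw [Subgroup.relIndex_eq_one] at h
        exact huK (h hu)
      have h4 : (centralizer ((P : Subgroup G) : Set G)).relIndex (S : Subgroup G) ≠ 0 := by
        intro h0
        have := Subgroup.relIndex_dvd_card (centralizer ((P : Subgroup G) : Set G)) (S : Subgroup G)
        rw [h0, card_sylow_two hG S] at this
        simp at this
      have h5 := Nat.le_of_dvd (by norm_num) h1
      omega
    rcases Cfsg.Agent.S0111.result S K hKS hrel u huo hu (fun h => huK h.2) with
      ⟨M, hMn, hMi, -⟩ | ⟨g', hg'⟩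
    · exfalso
      rcases hMn.eq_bot_or_eq_top with h | h
      · rw [h, Subgroup.index_bot, hG] at hMi; omega
      · rw [h, Subgroup.index_top] at hMi; omega
    · refine ⟨g'⁻¹ • P, ?_⟩
      have h1 := conj_mem_centralizer_smul g'⁻¹ _ P hg'.2
      have e : g'⁻¹ * (g' * u * g'⁻¹) * g'⁻¹⁻¹ = u := by group
      rwa [e] at h1


omit [Finite G] in
/-- uniqueness of the Sylow 11-subgroup centralized by an involution -/
theorem centralized_unique
    (hb : ∀ (P : Sylow 11 G) (k : G), orderOf k = 2 →
      k ∈ Subgroup.centralizer ((P : Subgroup G) : Set G) →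
      Subgroup.centralizer ({k} : Set G) ≤ Subgroup.normalizer ((P : Subgroup G) : Set G))
    (w : G) (hw : orderOf w = 2) (P' P'' : Sylow 11 G)
    (h' : w ∈ centralizer ((P' : Subgroup G) : Set G))
    (h'' : w ∈ centralizer ((P'' : Subgroup G) : Set G)) : P'' = P' := by
  have := fact_prime_eleven
  have h1 : (P'' : Subgroup G) ≤ centralizer ({w} : Set G) := by
    intro y hy
    rw [mem_centralizer_iff]
    intro z hz
    rw [Set.mem_singleton_iff] at hz
    subst hz
    exact ((mem_centralizer_iff.1 h'') y hy).symm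
  have h2 : (P'' : Subgroup G) ≤ normalizer ((P' : Subgroup G) : Set G) := h1.trans (hb P' w hw h')
  have h3 : (P'' : Subgroup G) ≤ (P' : Subgroup G) := le_sylow_of_le_normalizer P' _ P''.2 h2
  exact Sylow.ext (P''.3 P'.2 h3).symm

/-- the non-trivial 2-elements whose involution centralizes `P` -/
def Mset (P : Sylow 11 G) : Set G :=
  {h | h ≠ 1 ∧ h ^ 16 = 1 ∧ inv2 h ∈ centralizer ((P : Subgroup G) : Set G)}

omit [Finite G] in
theorem conj_mem_Mset (g h : G) (P : Sylow 11 G) (hh : h ∈ Mset P) :
    g * h * g⁻¹ ∈ Mset (g • P) := by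
  obtain ⟨h1, h16, hc⟩ := hh
  refine ⟨?_, ?_, ?_⟩
  · intro h0
    apply h1
    have : h = g⁻¹ * (g * h * g⁻¹) * g := by group
    rw [this, h0]; group
  · rw [conj_pow, h16]; group
  · rw [inv2_conj]
    exact conj_mem_centralizer_smul g _ P hc

omit [Finite G] in
theorem ncard_Mset_smul (g : G) (P : Sylow 11 G) : (Mset (g • P)).ncard = (Mset P).ncard := by
  have himg : Mset (g • P) = (fun h => g * h * g⁻¹) '' Mset P := by
    ext x
    constructor
    · intro hx
      refine ⟨g⁻¹ * x * g, ?_, by group⟩
      have h1 := conj_mem_Mset g⁻¹ x (g • P) hx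
      rw [inv_inv, inv_smul_smul] at h1
      exact h1
    · rintro ⟨h, hh, rfl⟩
      exact conj_mem_Mset g h P hh
  rw [himg]
  apply Set.ncard_image_of_injective
  intro a b hab
  simpa using hab

omit [Finite G] in
theorem self_mem_centralizer_inv2 (h : G) : h ∈ centralizer ({inv2 h} : Set G) := by
  rw [mem_centralizer_iff]
  intro z hz
  rw [Set.mem_singleton_iff] at hz
  subst hz
  exact ((Commute.refl h).pow_left _).eq

omit [Finite G] in
theorem inv2_mem_of_mem (H : Subgroup G) (h : G) (hh : h ∈ H) : inv2 h ∈ H := H.pow_mem hh _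

/-- M11-L11c: 45 Sylow 11-subgroups is impossible (Thompson transfer + Frobenius count of 2-elements). -/
theorem L11c [IsSimpleGroup G] (hG : Nat.card G = 7920) (h45 : Nat.card (Sylow 11 G) = 45)
    (hb : ∀ (P : Sylow 11 G) (k : G), orderOf k = 2 →
      k ∈ Subgroup.centralizer ((P : Subgroup G) : Set G) →
      Subgroup.centralizer ({k} : Set G) ≤ Subgroup.normalizer ((P : Subgroup G) : Set G)) :
    False := by
  classical
  have := fact_prime_eleven
  obtain ⟨P⟩ : Nonempty (Sylow 11 G) := inferInstance
  set N := normalizer ((P : Subgroup G) : Set G) with hN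
  set C := centralizer ((P : Subgroup G) : Set G) with hC
  have hNc : Nat.card N = 176 := card_normalizer_eleven hG h45 P
  have hPc : Nat.card (P : Subgroup G) = 11 := card_sylow_eleven hG P
  have hPC : (P : Subgroup G) ≤ C := sylow_le_centralizer hG P
  have hCN : C ≤ N := centralizer_le_normalizer _
  -- the count in `G`
  set m := (Mset P).ncard with hm
  have hcount : Nat.card {h : G // h ≠ 1 ∧ h ^ 16 = 1} = m * 45 := by
    have hex : ∀ h : {h : G // h ≠ 1 ∧ h ^ 16 = 1}, ∃ P' : Sylow 11 G,
        inv2 h.1 ∈ centralizer ((P' : Subgroup G) : Set G) := fun h =>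
      exists_centralized hG h45 (inv2 h.1) (orderOf_inv2 h.2.1 h.2.2)
    choose f hf using hex
    rw [← h45]
    apply card_eq_mul_of_fibers f m
    intro P'
    obtain ⟨g, rfl⟩ := MulAction.exists_smul_eq G P P'
    rw [hm, ← ncard_Mset_smul g P, ← Nat.card_coe_set_eq]
    apply Nat.card_congr
    refine
      { toFun := fun h => ⟨h.1.1, h.1.2.1, h.1.2.2, by have := hf h.1; rwa [h.2] at this⟩
        invFun := fun x => ⟨⟨x.1, x.2.1, x.2.2.1⟩, ?_⟩
        left_inv := fun h => rfl
        right_inv := fun x => rfl }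
    exact centralized_unique hb (inv2 x.1) (orderOf_inv2 x.2.1 x.2.2.1) _ _ x.2.2.2 (hf _)
  have hA : Nat.card {g : G // g ^ 16 = 1} = 1 + m * 45 := by
    rw [← hcount]
    have e : {g : G // g ^ 16 = 1} ≃ Option {h : G // h ≠ 1 ∧ h ^ 16 = 1} :=
      { toFun := fun g => if h : g.1 = 1 then none else some ⟨g.1, h, g.2⟩
        invFun := fun o => match o with
          | none => ⟨1, one_pow _⟩
          | some h => ⟨h.1, h.2.2⟩
        left_inv := by
          intro g
          by_cases h : g.1 = 1
          · simp only [h, dif_pos]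
            exact Subtype.ext h.symm
          · simp only [h, dif_neg, not_false_eq_true]
        right_inv := by
          intro o
          cases o with
          | none => simp
          | some h => simp [h.2.1] }
    rw [Nat.card_congr e, Finite.card_option, add_comm]
  have hFrobG : 16 ∣ Nat.card {g : G // g ^ 16 = 1} :=
    Cfsg.Agent.S3993.result 16 (by rw [hG]; norm_num)
  -- the count in `N`
  have hMN : Mset P ⊆ (N : Set G) := by
    intro h hh
    have h1 := hb P (inv2 h) (orderOf_inv2 hh.1 hh.2.1) hh.2.2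
    exact h1 (self_mem_centralizer_inv2 h)
  set J : Set G := {h | h ∈ N ∧ h ≠ 1 ∧ h ^ 16 = 1 ∧ inv2 h ∉ C} with hJ
  have hFrobN : 16 ∣ Nat.card {x : N // x ^ 16 = 1} :=
    Cfsg.Agent.S3993.result 16 (by rw [hNc]; norm_num)
  have hB : Nat.card {x : N // x ^ 16 = 1} = 1 + m + J.ncard := by
    have e : {x : N // x ^ 16 = 1} ≃ (({1} ∪ Mset P ∪ J : Set G)) :=
      { toFun := fun x => ⟨x.1.1, by
          have hx16 : (x.1.1 : G) ^ 16 = 1 := by
            have := congrArg Subtype.val x.2
            simpa using this
          by_cases h1 : (x.1.1 : G) = 1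
          · exact Or.inl (Or.inl h1)
          · by_cases hc : inv2 (x.1.1 : G) ∈ C
            · exact Or.inl (Or.inr ⟨h1, hx16, hc⟩)
            · exact Or.inr ⟨x.1.2, h1, hx16, hc⟩⟩
        invFun := fun y => ⟨⟨y.1, by
          rcases y.2 with (h | h) | h
          · rw [Set.mem_singleton_iff] at h
            rw [h]; exact N.one_mem
          · exact hMN h
          · exact h.1⟩, by
          apply Subtype.ext
          rw [Subgroup.coe_pow]
          change y.1 ^ 16 = 1
          rcases y.2 with (h | h) | h
          · rw [Set.mem_singleton_iff] at h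
            rw [h, one_pow]
          · exact h.2.1
          · exact h.2.2.1⟩
        left_inv := fun x => rfl
        right_inv := fun y => rfl }
    rw [Nat.card_congr e, Nat.card_coe_set_eq]
    have hd1 : Disjoint ({1} : Set G) (Mset P) := by
      rw [Set.disjoint_singleton_left]
      intro h
      exact h.1 rfl
    have hd2 : Disjoint ({1} ∪ Mset P : Set G) J := by
      rw [Set.disjoint_union_left]
      constructor
      · rw [Set.disjoint_singleton_left]
        intro h
        exact h.2.1 rfl
      · rw [Set.disjoint_left]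
        intro x hx hxJ
        exact hxJ.2.2.2 hx.2.2
    rw [Set.ncard_union_eq hd2 (Set.toFinite _) (Set.toFinite _),
      Set.ncard_union_eq hd1 (Set.toFinite _) (Set.toFinite _), Set.ncard_singleton]
  -- the set `J`
  have hJsub : J ⊆ (N : Set G) \ (C : Set G) := by
    intro h hh
    refine ⟨hh.1, fun hc => hh.2.2.2 (inv2_mem_of_mem C h hc)⟩
  have hJle : J.ncard ≤ 88 := by
    have h1 := Set.ncard_le_ncard hJsub (Set.toFinite _)
    have h2 : ((N : Set G) \ (C : Set G)).ncard = (N : Set G).ncard - (C : Set G).ncard :=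
      Set.ncard_sdiff (by exact_mod_cast hCN) (Set.toFinite _)
    have h3 : (N : Set G).ncard = 176 := by
      rw [← Nat.card_coe_set_eq]; exact hNc
    have h4 : (C : Set G).ncard = 88 ∨ (C : Set G).ncard = 176 := by
      rw [← Nat.card_coe_set_eq]; exact card_centralizer_eleven hG h45 P
    rcases h4 with h4 | h4 <;> omega
  have hJdvd : 11 ∣ J.ncard := by
    rw [← hPc, ← Nat.card_coe_set_eq]
    apply Cfsg.Agent.Lib.Helper59_ConjOrbits.card_dvd_card_of_conj_free (P : Subgroup G) J
    · intro a ha x hx
      have haC : a ∈ C := hPC ha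
      refine ⟨N.mul_mem (N.mul_mem (hCN haC) hx.1) (N.inv_mem (hCN haC)), ?_, ?_, ?_⟩
      · intro h0
        apply hx.2.1
        have : x = a⁻¹ * (a * x * a⁻¹) * a := by group
        rw [this, h0]; group
      · rw [conj_pow, hx.2.2.1]; group
      · rw [inv2_conj]
        intro hc
        apply hx.2.2.2
        have : inv2 x = a⁻¹ * (a * inv2 x * a⁻¹) * a := by group
        rw [this]
        exact C.mul_mem (C.mul_mem (C.inv_mem haC) hc) haC
    · intro a ha x hx hax
      by_contra ha1
      have hao : orderOf a = 11 := by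
        have h1 : orderOf a ∣ 11 := by
          have := orderOf_dvd_natCard (⟨a, ha⟩ : (P : Subgroup G))
          rwa [Subgroup.orderOf_mk, hPc] at this
        rcases (Nat.dvd_prime (by norm_num : Nat.Prime 11)).1 h1 with h | h
        · exact absurd (orderOf_eq_one_iff.1 h) ha1
        · exact h
      have hPz : (P : Subgroup G) = zpowers a := sylow_eq_zpowers P hPc a ha hao
      apply hx.2.2.2
      apply inv2_mem_of_mem C x
      rw [hC, mem_centralizer_iff]
      intro y hy
      rw [SetLike.mem_coe, hPz] at hy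
      obtain ⟨k, rfl⟩ := Subgroup.mem_zpowers_iff.1 hy
      have hcomm : Commute a x := by
        unfold Commute SemiconjBy
        calc a * x = a * x * a⁻¹ * a := by group
          _ = x * a := by rw [hax]
      exact (hcomm.zpow_left k).eq
  rw [hA] at hFrobG
  rw [hB] at hFrobN
  omega

end Cfsg.Agent.Lib.Helper59_M11_L11c
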