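import Mathlib
import Cfsg.Agent.Lib.Helper53_M11_L11
import Cfsg.Agent.Lib.Helper59_M11_L11b
import Cfsg.Agent.Lib.Helper59_M11_L11c

/-!
# Simple groups of order 7920: Sylow 11-subgroups, final statement (helper53)
-/

set_option autoImplicit false

namespace Cfsg.Agent.Lib.Helper53_M11_L11Main

variable {G : Type*} [Group G] [Finite G]

/-- **L11**: in a simple group of order 7920 the Sylow 11-normalizers have order 55 and the
Sylow 11-subgroups are self-centralizing. -/
theorem L11 [IsSimpleGroup G] (hG : Nat.card G = 7920) (P : Sylow 11 G) :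
    Nat.card (Subgroup.normalizer ((P : Subgroup G) : Set G)) = 55 ∧
    Subgroup.centralizer ((P : Subgroup G) : Set G) = (P : Subgroup G) :=
  Cfsg.Agent.Lib.Helper53_M11_L11.L11_of hG
    (fun h45 => Cfsg.Agent.Lib.Helper59_M11_L11c.L11c hG h45
      (fun Q k hk hkQ => Cfsg.Agent.Lib.Helper59_M11_L11b.L11b hG h45 Q k hk hkQ)) P

end Cfsg.Agent.Lib.Helper53_M11_L11Main
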