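import Mathlib
import Cfsg.Agent.Lib.Helper17_Sylow
import Cfsg.Agent.Lib.Helper24_M11_L5_720

/-!
# Simple groups of order 7920: the Sylow 5-subgroups (helper53, assembly)

`L5_of`: from `|N(P5)| = 20` (L5a), `C(P11) = P11` (L11), `8 ∣ |C(t)|` (INV8) and the exclusion of
involution centralizers of orders `720` (L5_720) and `120` (L5_120), Sylow 5-subgroups are
self-centralizing.
-/

set_option autoImplicit false

namespace Cfsg.Agent.Lib.Helper53_M11_L5

open Subgroup Cfsg.Agent.Lib.Helper17_Sylow

variable {G : Type*} [Group G] [Finite G]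

theorem card_eq5 (hG : Nat.card G = 7920) : Nat.card G = 5 ^ 1 * 1584 := by
  rw [hG]; norm_num

/-- The order of the centralizer of a Sylow 5-subgroup with normalizer of order 20. -/
theorem card_centralizer_cases [IsSimpleGroup G] (hG : Nat.card G = 7920) (P : Sylow 5 G)
    (hN : Nat.card (normalizer ((P : Subgroup G) : Set G)) = 20) :
    Nat.card (centralizer ((P : Subgroup G) : Set G)) = 5 ∨
    Nat.card (centralizer ((P : Subgroup G) : Set G)) = 10 := by
  haveI : Fact (Nat.Prime 5) := ⟨by norm_num⟩
  have hP : Nat.card (P : Subgroup G) = 5 := by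
    have := card_sylow_eq_pow (card_eq5 hG) (by norm_num) P
    simpa using this
  haveI hcyc : IsCyclic (P : Subgroup G) := isCyclic_of_prime_card hP
  have hPC : (P : Subgroup G) ≤ centralizer ((P : Subgroup G) : Set G) :=
    le_centralizer_of_isCyclic _
  have hCN : centralizer ((P : Subgroup G) : Set G) ≤ normalizer ((P : Subgroup G) : Set G) :=
    centralizer_le_normalizer _
  have hk := relIndex_centralizer_normalizer_dvd_pred (P : Subgroup G) hP
  have h1 := card_mul_relIndex_of_le hCN
  rw [hN] at h1
  have h2 : 5 ∣ Nat.card (centralizer ((P : Subgroup G) : Set G)) := by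
    have := Subgroup.card_dvd_of_le hPC
    rwa [hP] at this
  set c := Nat.card (centralizer ((P : Subgroup G) : Set G)) with hc
  set k := (centralizer ((P : Subgroup G) : Set G)).relIndex
    (normalizer ((P : Subgroup G) : Set G)) with hkdef
  have hk4 : k ∣ 4 := hk
  have hkle : k ≤ 4 := Nat.le_of_dvd (by norm_num) hk4
  have hkpos : 0 < k := Nat.pos_of_ne_zero (fun h => by rw [h] at h1; omega)
  interval_cases k
  · -- k = 1 : Burnside
    exfalso
    have hle : normalizer ((P : Subgroup G) : Set G) ≤ centralizer ((P : Subgroup G) : Set G) := by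
      have hcard : Nat.card (centralizer ((P : Subgroup G) : Set G)) =
          Nat.card (normalizer ((P : Subgroup G) : Set G)) := by
        rw [hN]; omega
      have := Subgroup.eq_of_le_of_card_ge hCN (le_of_eq hcard.symm)
      rw [this]
    rcases sylow_eq_bot_or_top_of_normalizer_le_centralizer P hle with h | h
    · rw [h, Subgroup.card_bot] at hP; omega
    · rw [h, Subgroup.card_top, hG] at hP; omega
  · right; omega
  · exfalso; omega
  · left; omega

/-- In a centralizer of order 10 of a Sylow 5-subgroup there is a unique involution, and the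
normalizer centralizes it. -/
theorem exists_invol [IsSimpleGroup G] (hG : Nat.card G = 7920) (P : Sylow 5 G)
    (hC : Nat.card (centralizer ((P : Subgroup G) : Set G)) = 10) :
    ∃ t : G, orderOf t = 2 ∧ t ∈ centralizer ((P : Subgroup G) : Set G) ∧
      normalizer ((P : Subgroup G) : Set G) ≤ centralizer ({t} : Set G) := by
  haveI : Fact (Nat.Prime 5) := ⟨by norm_num⟩
  haveI : Fact (Nat.Prime 2) := ⟨by norm_num⟩
  have hP : Nat.card (P : Subgroup G) = 5 := by
    have := card_sylow_eq_pow (card_eq5 hG) (by norm_num) P
    simpa using this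
  haveI hcyc : IsCyclic (P : Subgroup G) := isCyclic_of_prime_card hP
  have hPC : (P : Subgroup G) ≤ centralizer ((P : Subgroup G) : Set G) :=
    le_centralizer_of_isCyclic _
  -- an involution in C
  obtain ⟨t', ht'⟩ := exists_prime_orderOf_dvd_card' (G := centralizer ((P : Subgroup G) : Set G)) 2
    (by rw [hC]; norm_num)
  set t : G := (t' : G) with ht
  have hto : orderOf t = 2 := by rw [ht, Subgroup.orderOf_coe]; exact ht'
  have htC : t ∈ centralizer ((P : Subgroup G) : Set G) := t'.2
  -- uniqueness: any involution of C equals t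
  have huniq : ∀ s : G, s ∈ centralizer ((P : Subgroup G) : Set G) → orderOf s = 2 → s = t := by
    intro s hsC hso
    -- index of P in C is 2
    have hidx : (P : Subgroup G).relIndex (centralizer ((P : Subgroup G) : Set G)) = 2 := by
      have := card_mul_relIndex_of_le hPC
      rw [hP, hC] at this
      omega
    -- s, t ∉ P
    have hnot : ∀ r : G, orderOf r = 2 → r ∉ (P : Subgroup G) := by
      intro r hr hrP
      have h1 : orderOf (⟨r, hrP⟩ : (P : Subgroup G)) ∣ Nat.card (P : Subgroup G) := orderOf_dvd_natCard _
      rw [hP] at h1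
      have h2 : orderOf (⟨r, hrP⟩ : (P : Subgroup G)) = 2 := by
        rw [← Subgroup.orderOf_coe]; exact hr
      rw [h2] at h1
      norm_num at h1
    -- s * t⁻¹ ∈ P via index 2
    have hmem : s * t⁻¹ ∈ (P : Subgroup G) := by
      have h2 := Subgroup.mul_mem_iff_of_index_two
        (H := (P : Subgroup G).subgroupOf (centralizer ((P : Subgroup G) : Set G))) hidx
        (a := ⟨s, hsC⟩) (b := ⟨t⁻¹, inv_mem htC⟩)
      have hs' : (⟨s, hsC⟩ : centralizer ((P : Subgroup G) : Set G)) ∉
          (P : Subgroup G).subgroupOf (centralizer ((P : Subgroup G) : Set G)) := by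
        rw [Subgroup.mem_subgroupOf]; exact hnot s hso
      have ht'' : (⟨t⁻¹, inv_mem htC⟩ : centralizer ((P : Subgroup G) : Set G)) ∉
          (P : Subgroup G).subgroupOf (centralizer ((P : Subgroup G) : Set G)) := by
        rw [Subgroup.mem_subgroupOf]
        intro h
        exact hnot t hto (by simpa using inv_mem h)
      have := h2.mpr ⟨fun h => absurd h hs', fun h => absurd h ht''⟩
      rwa [Subgroup.mem_subgroupOf] at this
    -- x := s * t⁻¹ ∈ P commutes with t, so s² = x² t² = x², hence x² = 1, x = 1
    set x := s * t⁻¹ with hx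
    have hxt : x * t = t * x := (Subgroup.mem_centralizer_iff.mp htC x hmem)
    have hs : s = x * t := by rw [hx]; group
    have hs2 : s ^ 2 = 1 := by rw [← hso]; exact pow_orderOf_eq_one s
    have ht2 : t ^ 2 = 1 := by rw [← hto]; exact pow_orderOf_eq_one t
    have hx2 : x ^ 2 = 1 := by
      have : s ^ 2 = x ^ 2 * t ^ 2 := by
        rw [hs, sq, sq, sq]
        calc x * t * (x * t) = x * (t * x) * t := by group
          _ = x * (x * t) * t := by rw [hxt]
          _ = x * x * (t * t) := by group
      rw [hs2, ht2, mul_one] at this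
      exact this.symm
    have hx5 : x ^ 5 = 1 := by
      have h1 : orderOf (⟨x, hmem⟩ : (P : Subgroup G)) ∣ 5 := by
        have := orderOf_dvd_natCard (⟨x, hmem⟩ : (P : Subgroup G))
        rwa [hP] at this
      rw [← Subgroup.orderOf_coe] at h1
      exact orderOf_dvd_iff_pow_eq_one.mp h1
    have hx1 : x = 1 := by
      have : x = x ^ 5 * (x ^ 2)⁻¹ ^ 2 := by group
      rw [this, hx5, hx2]; simp
    rw [hs, hx1, one_mul]
  refine ⟨t, hto, htC, ?_⟩
  intro n hn
  rw [Subgroup.mem_centralizer_singleton_iff]
  -- n t n⁻¹ is an involution in C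
  have hnC : n * t * n⁻¹ ∈ centralizer ((P : Subgroup G) : Set G) := by
    have hnorm : (centralizer ((P : Subgroup G) : Set G)).Normal ∨ True := Or.inr trivial
    rw [Subgroup.mem_centralizer_iff]
    intro y hy
    have hy' : n⁻¹ * y * n ∈ (P : Subgroup G) := by
      have := (Subgroup.mem_normalizer_iff.mp (inv_mem hn) y).mp hy
      simpa using this
    have hc := Subgroup.mem_centralizer_iff.mp htC (n⁻¹ * y * n) hy'
    calc y * (n * t * n⁻¹) = n * ((n⁻¹ * y * n) * t) * n⁻¹ := by group
      _ = n * (t * (n⁻¹ * y * n)) * n⁻¹ := by rw [hc]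
      _ = n * t * n⁻¹ * y := by group
  have hno : orderOf (n * t * n⁻¹) = 2 := by
    rw [orderOf_conj' t n]; exact hto
  have := huniq _ hnC hno
  calc n * t = (n * t * n⁻¹) * n := by group
    _ = t * n := by rw [this]


/-- The centralizer of the involution of `C(P5)` (when `|C(P5)| = 10`) has order 20, 120 or 720. -/
theorem card_centralizer_invol_cases [IsSimpleGroup G] (hG : Nat.card G = 7920)
    (h11 : ∀ Q : Sylow 11 G,
      Nat.card (normalizer ((Q : Subgroup G) : Set G)) = 55 ∧
      centralizer ((Q : Subgroup G) : Set G) = (Q : Subgroup G))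
    (P : Sylow 5 G) (hN : Nat.card (normalizer ((P : Subgroup G) : Set G)) = 20)
    (t : G) (ht : orderOf t = 2)
    (hNt : normalizer ((P : Subgroup G) : Set G) ≤ centralizer ({t} : Set G)) :
    Nat.card (centralizer ({t} : Set G)) = 20 ∨ Nat.card (centralizer ({t} : Set G)) = 120 ∨
      Nat.card (centralizer ({t} : Set G)) = 720 := by
  haveI : Fact (Nat.Prime 5) := ⟨by norm_num⟩
  haveI : Fact (Nat.Prime 11) := ⟨by norm_num⟩
  set H := centralizer ({t} : Set G) with hH
  have hPH : (P : Subgroup G) ≤ H := le_normalizer.trans hNt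
  -- 11 ∤ |H|
  have h11H : ¬ 11 ∣ Nat.card H := by
    intro hdvd
    obtain ⟨x', hx'⟩ := exists_prime_orderOf_dvd_card' (G := H) 11 hdvd
    set x : G := (x' : G) with hx
    have hxo : orderOf x = 11 := by rw [hx, Subgroup.orderOf_coe]; exact hx'
    have hcard11 : ∀ Q : Sylow 11 G, Nat.card (Q : Subgroup G) = 11 := by
      intro Q
      have := card_sylow_eq_pow (p := 11) (k := 1) (m := 720) (by rw [hG]; norm_num) (by norm_num) Q
      simpa using this
    obtain ⟨Q, hQ⟩ := exists_sylow_eq_zpowers hcard11 x hxo
    have htx : t ∈ centralizer ((Q : Subgroup G) : Set G) := by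
      rw [hQ, Subgroup.mem_centralizer_iff]
      intro y hy
      obtain ⟨k, rfl⟩ := Subgroup.mem_zpowers_iff.mp hy
      have hxt : x * t = t * x := by
        have := Subgroup.mem_centralizer_singleton_iff.mp x'.2
        exact this
      exact (Commute.zpow_left (show Commute x t from hxt) k).eq
    rw [(h11 Q).2] at htx
    have h1 : orderOf (⟨t, htx⟩ : (Q : Subgroup G)) ∣ 11 := by
      have := orderOf_dvd_natCard (⟨t, htx⟩ : (Q : Subgroup G))
      rwa [hcard11 Q] at this
    rw [← Subgroup.orderOf_coe] at h1
    simp only at h1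
    rw [ht] at h1
    norm_num at h1
  -- number of Sylow 5-subgroups of H
  have hnorm : Nat.card (normalizer (((P.subtype hPH : Sylow 5 H) : Subgroup H) : Set H)) = 20 := by
    rw [Sylow.coe_subtype, ← subgroupOf_normalizer_eq hPH]
    rw [Nat.card_congr (Subgroup.subgroupOfEquivOfLe hNt).toEquiv, hN]
  have hcount := card_normalizer_mul_card_sylow (P.subtype hPH : Sylow 5 H)
  rw [hnorm] at hcount
  have hmod := card_sylow_modEq_one 5 H
  have hdvd : Nat.card H ∣ 7920 := by rw [← hG]; exact Subgroup.card_subgroup_dvd_card H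
  set m := Nat.card (Sylow 5 H) with hm
  have hm396 : m ∣ 396 := by
    rw [← hcount] at hdvd
    exact (Nat.mul_dvd_mul_iff_left (by norm_num : 0 < 20)).mp (by simpa using hdvd)
  have hm11 : ¬ 11 ∣ m := fun h => h11H (by rw [← hcount]; exact Dvd.dvd.mul_left h 20)
  have hmle : m ≤ 396 := Nat.le_of_dvd (by norm_num) hm396
  have hm1 : m % 5 = 1 := hmod
  have hmcases : m = 1 ∨ m = 6 ∨ m = 36 := by
    have hmem : m ∈ Nat.divisors 396 := Nat.mem_divisors.mpr ⟨hm396, by norm_num⟩
    have hd : Nat.divisors 396 =
        {1, 2, 3, 4, 6, 9, 11, 12, 18, 22, 33, 36, 44, 66, 99, 132, 198, 396} := by decide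
    rw [hd] at hmem
    simp only [Finset.mem_insert, Finset.mem_singleton] at hmem
    rcases hmem with h | h | h | h | h | h | h | h | h | h | h | h | h | h | h | h | h | h <;>
      rw [h] at hm1 hm11 <;> first | omega | (exfalso; exact hm11 (by norm_num)) | (left; exact h) | (right; left; exact h) | (right; right; exact h)
  rcases hmcases with h | h | h <;> rw [h] at hcount <;> omega

/-- **L5**: Sylow 5-subgroups are self-centralizing with normalizer of order 20. -/
theorem L5_of [IsSimpleGroup G] (hG : Nat.card G = 7920)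
    (h11 : ∀ Q : Sylow 11 G,
      Nat.card (normalizer ((Q : Subgroup G) : Set G)) = 55 ∧
      centralizer ((Q : Subgroup G) : Set G) = (Q : Subgroup G))
    (h5a : ∀ P : Sylow 5 G, Nat.card (normalizer ((P : Subgroup G) : Set G)) = 20)
    (hinv8 : ∀ t : G, orderOf t = 2 → 8 ∣ Nat.card (centralizer ({t} : Set G)))
    (h120 : (∀ P : Sylow 5 G, Nat.card (normalizer ((P : Subgroup G) : Set G)) = 20 ∧
        Nat.card (centralizer ((P : Subgroup G) : Set G)) = 10) →
      ∀ (P : Sylow 5 G) (t : G), orderOf t = 2 →
        t ∈ centralizer ((P : Subgroup G) : Set G) →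
        normalizer ((P : Subgroup G) : Set G) ≤ centralizer ({t} : Set G) →
        Nat.card (centralizer ({t} : Set G)) ≠ 120)
    (P : Sylow 5 G) :
    Nat.card (normalizer ((P : Subgroup G) : Set G)) = 20 ∧
    centralizer ((P : Subgroup G) : Set G) = (P : Subgroup G) := by
  haveI : Fact (Nat.Prime 5) := ⟨by norm_num⟩
  refine ⟨h5a P, ?_⟩
  have hP : Nat.card (P : Subgroup G) = 5 := by
    have := card_sylow_eq_pow (card_eq5 hG) (by norm_num) P
    simpa using this
  haveI hcyc : IsCyclic (P : Subgroup G) := isCyclic_of_prime_card hP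
  have hPC : (P : Subgroup G) ≤ centralizer ((P : Subgroup G) : Set G) :=
    le_centralizer_of_isCyclic _
  rcases card_centralizer_cases hG P (h5a P) with hc | hc
  · exact (Subgroup.eq_of_le_of_card_ge hPC (by rw [hP, hc])).symm
  · exfalso
    -- all Sylow 5-subgroups have centralizer of order 10
    have hall : ∀ P' : Sylow 5 G, Nat.card (normalizer ((P' : Subgroup G) : Set G)) = 20 ∧
        Nat.card (centralizer ((P' : Subgroup G) : Set G)) = 10 := by
      intro P'
      refine ⟨h5a P', ?_⟩
      rcases card_centralizer_cases hG P' (h5a P') with hc' | hc'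
      · -- conjugate: impossible
        exfalso
        obtain ⟨g, hg⟩ := MulAction.exists_smul_eq G P P'
        have h1 : centralizer ((P' : Subgroup G) : Set G) =
            (centralizer ((P : Subgroup G) : Set G)).map (MulAut.conj g).toMonoidHom := by
          rw [← hg, Sylow.coe_subgroup_smul]
          ext y
          simp only [Subgroup.mem_centralizer_iff, Subgroup.mem_map, MulEquiv.coe_toMonoidHom,
            MulAut.conj_apply, SetLike.mem_coe, Subgroup.mem_smul_pointwise_iff_exists,
            MulAut.smul_def]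
          constructor
          · intro hy
            refine ⟨g⁻¹ * y * g, ?_, by group⟩
            intro z hz
            have := hy (g * z * g⁻¹) ⟨z, hz, rfl⟩
            calc z * (g⁻¹ * y * g) = g⁻¹ * ((g * z * g⁻¹) * y) * g := by group
              _ = g⁻¹ * (y * (g * z * g⁻¹)) * g := by rw [this]
              _ = g⁻¹ * y * g * z := by group
          · rintro ⟨c, hcz, rfl⟩ _ ⟨z, hz, rfl⟩
            have := hcz z hz
            calc g * z * g⁻¹ * (g * c * g⁻¹) = g * (z * c) * g⁻¹ := by group
              _ = g * (c * z) * g⁻¹ := by rw [this]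
              _ = g * c * g⁻¹ * (g * z * g⁻¹) := by group
        rw [h1] at hc'
        have h2 : Nat.card ((centralizer ((P : Subgroup G) : Set G)).map
            (MulAut.conj g).toMonoidHom) = Nat.card (centralizer ((P : Subgroup G) : Set G)) :=
          Subgroup.card_map_of_injective (MulAut.conj g).injective
        omega
      · exact hc'
    obtain ⟨t, hto, htC, hNt⟩ := exists_invol hG P hc
    rcases card_centralizer_invol_cases hG h11 P (h5a P) t hto hNt with h | h | h
    · have := hinv8 t hto
      rw [h] at this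
      norm_num at this
    · exact h120 hall P t hto htC hNt h
    · exact Cfsg.Agent.Lib.Helper24_M11_L5_720.L5_720 hG P (h5a P) t hto htC hNt h

end Cfsg.Agent.Lib.Helper53_M11_L5
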