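import Mathlib
import Cfsg.Agent.S3224
import Cfsg.Agent.S0107
import Cfsg.Agent.S1213
import Cfsg.Agent.S0220
import Cfsg.Agent.Lib.Helper34_Sylow
import Cfsg.Agent.Lib.Helper17_Sylow

/-!
helper63: M11 package INV8 (helper53's market): in a simple group of order 7920 every involution
centralizer has order divisible by 8.
-/

set_option autoImplicit false

namespace Cfsg.Agent.Lib.Helper63_M11_INV8

open Cfsg

variable {G : Type*} [Group G]

/-- A simple group of order 7920 has no subgroup of index 2. -/
theorem no_index_two [IsSimpleGroup G] (hG : Nat.card G = 7920) (H : Subgroup G) :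
    H.index ≠ 2 := by
  intro h2
  have : H.Normal := Subgroup.normal_of_index_eq_two h2
  rcases Subgroup.Normal.eq_bot_or_eq_top (H := H) inferInstance with h | h
  · subst h
    rw [Subgroup.index_bot, hG] at h2
    omega
  · subst h
    rw [Subgroup.index_top] at h2
    omega

/-- In a simple group of order 7920 the 2-residual is everything. -/
theorem pResidual_eq_top [Finite G] [IsSimpleGroup G] (hG : Nat.card G = 7920) :
    Cfsg.pResidual 2 G = ⊤ := by
  have : (Cfsg.pResidual 2 G).Normal := Cfsg.Agent.Lib.Helper34_Sylow.pResidual_normal 2 G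
  rcases Subgroup.Normal.eq_bot_or_eq_top (H := Cfsg.pResidual 2 G) inferInstance with h | h
  · exfalso
    have : Fact (Nat.Prime 3) := ⟨by norm_num⟩
    obtain ⟨g, hg⟩ := exists_prime_orderOf_dvd_card' (G := G) 3 (by rw [hG]; norm_num)
    have hmem : g ∈ Cfsg.pResidual 2 G := by
      unfold Cfsg.pResidual
      apply Subgroup.subset_closure
      show Nat.Coprime (orderOf g) 2
      rw [hg]; norm_num
    rw [h, Subgroup.mem_bot] at hmem
    rw [hmem, orderOf_one] at hg
    omega
  · exact h

/-- Conjugate elements have centralizers of the same order. -/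
theorem card_centralizer_conj (g t : G) :
    Nat.card (Subgroup.centralizer ({g * t * g⁻¹} : Set G)) =
      Nat.card (Subgroup.centralizer ({t} : Set G)) := by
  apply Nat.card_congr
  refine
    { toFun := fun x => ⟨g⁻¹ * x.1 * g, ?_⟩
      invFun := fun x => ⟨g * x.1 * g⁻¹, ?_⟩
      left_inv := ?_
      right_inv := ?_ }
  · have := x.2
    rw [Subgroup.mem_centralizer_singleton_iff] at this ⊢
    have h2 : t = g⁻¹ * (g * t * g⁻¹) * g := by group
    calc g⁻¹ * x.1 * g * t = g⁻¹ * (x.1 * (g * t * g⁻¹)) * g := by group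
      _ = g⁻¹ * ((g * t * g⁻¹) * x.1) * g := by rw [this]
      _ = t * (g⁻¹ * x.1 * g) := by group
  · have := x.2
    rw [Subgroup.mem_centralizer_singleton_iff] at this ⊢
    calc g * x.1 * g⁻¹ * (g * t * g⁻¹) = g * (x.1 * t) * g⁻¹ := by group
      _ = g * (t * x.1) * g⁻¹ := by rw [this]
      _ = g * t * g⁻¹ * (g * x.1 * g⁻¹) := by group
  · intro x
    apply Subtype.ext
    show g * (g⁻¹ * x.1 * g) * g⁻¹ = x.1
    group
  · intro x
    apply Subtype.ext
    show g⁻¹ * (g * x.1 * g⁻¹) * g = x.1
    group

/-- M11-INV8: every involution centralizer has order divisible by 8. -/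
theorem INV8 [Finite G] [IsSimpleGroup G] (hG : Nat.card G = 7920) (t : G) (ht : orderOf t = 2) :
    8 ∣ Nat.card (Subgroup.centralizer ({t} : Set G)) := by
  classical
  have : Fact (Nat.Prime 2) := ⟨Nat.prime_two⟩
  set C : Subgroup G := Subgroup.centralizer ({t} : Set G) with hCdef
  have htC : t ∈ C := by
    rw [hCdef, Subgroup.mem_centralizer_singleton_iff]
  -- the element `t` of `C`
  set t' : C := ⟨t, htC⟩ with ht'def
  have ht' : orderOf t' = 2 := by
    rw [← Subgroup.orderOf_coe]; exact ht
  -- a Sylow 2-subgroup of `C` containing `t'`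
  have hzp : IsPGroup 2 (Subgroup.zpowers t') := by
    rw [IsPGroup.iff_card]
    exact ⟨1, by rw [Nat.card_zpowers, ht', pow_one]⟩
  obtain ⟨T, hT⟩ := hzp.exists_le_sylow
  have ht'T : t' ∈ (T : Subgroup C) := hT (Subgroup.mem_zpowers t')
  obtain ⟨k, hk⟩ := (IsPGroup.iff_card (p := 2) (G := (T : Subgroup C))).mp T.isPGroup'
  have hTC : Nat.card (T : Subgroup C) ∣ Nat.card C := Subgroup.card_subgroup_dvd_card _
  -- k ≠ 0
  have h2T : 2 ∣ Nat.card (T : Subgroup C) := by
    have h1 : orderOf (⟨t', ht'T⟩ : (T : Subgroup C)) = 2 := by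
      rw [← Subgroup.orderOf_coe]; exact ht'
    have h2 := orderOf_dvd_natCard (⟨t', ht'T⟩ : (T : Subgroup C))
    rwa [h1] at h2
  have hk0 : k ≠ 0 := by
    rintro rfl
    rw [hk] at h2T
    norm_num at h2T
  by_cases hk3 : 3 ≤ k
  · -- 8 ∣ 2^k ∣ |C|
    refine dvd_trans ?_ hTC
    rw [hk]
    exact pow_dvd_pow 2 hk3
  -- k = 1 or k = 2
  have hk12 : k = 1 ∨ k = 2 := by omega
  rcases hk12 with rfl | rfl
  · -- cyclic Sylow 2-subgroup of the centralizer
    exfalso
    have hcyc : IsCyclic (T : Subgroup C) := isCyclic_of_prime_card (p := 2) (by rw [hk, pow_one])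
    obtain ⟨H, hH⟩ := Cfsg.Agent.S0220.result t ht T hcyc
    exact no_index_two hG H hH
  · -- |T| = 4
    have hT4 : Nat.card (T : Subgroup C) = 4 := by rw [hk]; norm_num
    -- T as a subgroup of G
    set T' : Subgroup G := (T : Subgroup C).map C.subtype with hT'def
    have hT'p : IsPGroup 2 T' := T.isPGroup'.map C.subtype
    obtain ⟨S, hS⟩ := hT'p.exists_le_sylow
    have htT' : t ∈ T' := ⟨t', ht'T, rfl⟩
    have htS : t ∈ (S : Subgroup G) := hS htT'
    have hS16 : Nat.card (S : Subgroup G) = 16 := by
      have := Cfsg.Agent.Lib.Helper17_Sylow.card_sylow_eq_pow (p := 2) (k := 4) (m := 495)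
        (by rw [hG]; norm_num) (by norm_num) S
      rw [this]; norm_num
    -- the element x of S
    set x : (S : Subgroup G) := ⟨t, htS⟩ with hxdef
    have hx : orderOf x = 2 := by
      rw [← Subgroup.orderOf_coe]; exact ht
    -- the centralizer of x in S has order 4
    have hCx : Nat.card (Subgroup.centralizer ({x} : Set (S : Subgroup G))) = 4 := by
      -- image in G is S ⊓ C, a 2-subgroup of C containing T'
      have hmap : (Subgroup.centralizer ({x} : Set (S : Subgroup G))).map (S : Subgroup G).subtype
          = (S : Subgroup G) ⊓ C := by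
        ext y
        rw [Subgroup.mem_map, Subgroup.mem_inf]
        constructor
        · rintro ⟨z, hz, rfl⟩
          refine ⟨z.2, ?_⟩
          rw [hCdef, Subgroup.mem_centralizer_singleton_iff]
          have := (Subgroup.mem_centralizer_singleton_iff.mp hz)
          have h2 := congrArg Subtype.val this
          simpa using h2
        · rintro ⟨hyS, hyC⟩
          refine ⟨⟨y, hyS⟩, ?_, rfl⟩
          rw [Subgroup.mem_centralizer_singleton_iff]
          apply Subtype.ext
          have := Subgroup.mem_centralizer_singleton_iff.mp hyC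
          simpa using this
      have hcard1 : Nat.card (Subgroup.centralizer ({x} : Set (S : Subgroup G))) =
          Nat.card ((S : Subgroup G) ⊓ C : Subgroup G) := by
        rw [← hmap, Subgroup.card_map_of_injective (Subgroup.subtype_injective _)]
      -- (S ⊓ C).subgroupOf C = T
      have hQ : IsPGroup 2 (((S : Subgroup G) ⊓ C).subgroupOf C) := by
        have h1 : IsPGroup 2 ((S : Subgroup G) ⊓ C : Subgroup G) := S.isPGroup'.to_le inf_le_left
        exact h1.comap_of_injective C.subtype (Subgroup.subtype_injective _)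
      have hle : (T : Subgroup C) ≤ ((S : Subgroup G) ⊓ C).subgroupOf C := by
        intro y hy
        rw [Subgroup.mem_subgroupOf]
        exact ⟨hS ⟨y, hy, rfl⟩, y.2⟩
      have heq := T.is_maximal' hQ hle
      have hcard2 : Nat.card ((S : Subgroup G) ⊓ C : Subgroup G) =
          Nat.card (((S : Subgroup G) ⊓ C).subgroupOf C) := by
        have := Subgroup.card_map_of_injective (K := ((S : Subgroup G) ⊓ C).subgroupOf C)
          (Subgroup.subtype_injective C)
        rw [← this, Subgroup.map_subgroupOf_eq_of_le inf_le_right]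
      rw [hcard1, hcard2, heq, hT4]
    -- Suzuki
    rcases Cfsg.Agent.S3224.result S.isPGroup' x hx hCx with ⟨n, ⟨e⟩⟩ | hqd | h4
    · -- dihedral of order 16
      have hn : n = 2 ^ 3 := by
        have h1 := Nat.card_congr e.toEquiv
        rw [hS16, DihedralGroup.nat_card] at h1
        omega
      subst hn
      -- a central involution of S
      have : Nontrivial (S : Subgroup G) := by
        rw [← Finite.one_lt_card_iff_nontrivial, hS16]; norm_num
      have := S.isPGroup'.center_nontrivial
      have hcen : IsPGroup 2 (Subgroup.center (S : Subgroup G)) :=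
        S.isPGroup'.to_subgroup _
      obtain ⟨m, hm⟩ := (IsPGroup.iff_card (p := 2)).mp hcen
      have hm0 : m ≠ 0 := by
        rintro rfl
        have h1 : 1 < Nat.card (Subgroup.center (S : Subgroup G)) :=
          Finite.one_lt_card_iff_nontrivial.mpr inferInstance
        rw [hm] at h1
        norm_num at h1
      obtain ⟨z, hz⟩ := exists_prime_orderOf_dvd_card' (G := Subgroup.center (S : Subgroup G)) 2
        (by rw [hm]; exact dvd_pow_self 2 hm0)
      have hzG : orderOf ((z : (S : Subgroup G)) : G) = 2 := by
        rw [Subgroup.orderOf_coe, Subgroup.orderOf_coe]; exact hz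
      obtain ⟨g, hg⟩ := Cfsg.Agent.S0107.result S 3 (by norm_num) ⟨e⟩ (pResidual_eq_top hG)
        t ((z : (S : Subgroup G)) : G) ht hzG
      have hSle : (S : Subgroup G) ≤ Subgroup.centralizer ({((z : (S : Subgroup G)) : G)} : Set G) := by
        intro y hy
        rw [Subgroup.mem_centralizer_singleton_iff]
        have h1 := Subgroup.mem_center_iff.mp z.2 ⟨y, hy⟩
        have h2 := congrArg Subtype.val h1
        simpa using h2
      have h16 : 16 ∣ Nat.card C := by
        rw [hCdef, ← card_centralizer_conj g t, hg, ← hS16]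
        exact Subgroup.card_dvd_of_le hSle
      exact dvd_trans (by norm_num) h16
    · -- quasi-dihedral
      obtain ⟨R, hR, -⟩ := Cfsg.Agent.S1213.result S (Or.inl hqd) (no_index_two hG) t ht
      have h16 : 16 ∣ Nat.card C := by
        rw [← hS16, ← hR]
        exact Subgroup.card_subgroup_dvd_card _
      exact dvd_trans (by norm_num) h16
    · rw [hS16] at h4
      omega

end Cfsg.Agent.Lib.Helper63_M11_INV8
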