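import Mathlib

/-!
helper63: the normalizer half of M11 package L5_120 (helper53's market, helper75's package):
in a group of order 7920, a subgroup `T` of order 8 inside `C(t)` containing `t`, normalized by an
element `y` of order 3 of `C(t)` with `C_T(y) = {1, t}`, cannot be normalized by an element `s`
with `s t s⁻¹ ≠ t`.  (Orbit count: the `N(T)`-orbit of `t` has size `≡ 1 mod 3`, between 2 and 8,
and its stabilizer has order divisible by 24: `96` or `168` would divide `7920`.)
-/

set_option autoImplicit false

namespace Cfsg.Agent.Lib.Helper63_M11_L5_120B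

variable {G : Type*} [Group G]

theorem arith (n c : ℕ) (h2 : 2 ≤ n) (h8 : n ≤ 8) (hmod : n ≡ 1 [MOD 3]) (h24 : 24 ∣ c)
    (hd : n * c ∣ 7920) : False := by
  obtain ⟨k, rfl⟩ := h24
  obtain ⟨j, hj⟩ := hd
  unfold Nat.ModEq at hmod
  interval_cases n
  · omega
  · omega
  · have : (96 : ℕ) ∣ 7920 := ⟨k * j, by rw [hj]; ring⟩
    norm_num at this
  · omega
  · omega
  · have : (168 : ℕ) ∣ 7920 := ⟨k * j, by rw [hj]; ring⟩
    norm_num at this
  · omega

theorem normalizer_contra [Finite G] (hG : Nat.card G = 7920) (t : G)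
    (T : Subgroup G) (hT8 : Nat.card T = 8) (hTH : T ≤ Subgroup.centralizer ({t} : Set G))
    (htT : t ∈ T)
    (y : G) (hy : orderOf y = 3) (hyt : y ∈ Subgroup.centralizer ({t} : Set G))
    (hyT : y ∈ Subgroup.normalizer (T : Set G))
    (hCy : ∀ x ∈ T, y * x = x * y → x = 1 ∨ x = t)
    (s : G) (hsT : s ∈ Subgroup.normalizer (T : Set G)) (hst : s * t * s⁻¹ ≠ t) : False := by
  classical
  have : Fact (Nat.Prime 3) := ⟨by norm_num⟩
  set M : Subgroup G := Subgroup.normalizer (T : Set G) with hM
  let act : MulAction M G := MulAction.compHom G ((MulAut.conj).comp M.subtype)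
  have hsmul : ∀ (m : M) (g : G), m • g = (m : G) * g * (m : G)⁻¹ := fun m g => rfl
  -- the orbit lies in T
  have horbT : ∀ x ∈ MulAction.orbit M t, x ∈ T := by
    rintro x ⟨m, rfl⟩
    show m • t ∈ T
    rw [hsmul]
    exact (Subgroup.mem_normalizer_iff.mp m.2 t).mp htT
  -- the orbit has at most 8 elements
  have hle8 : Nat.card (MulAction.orbit M t) ≤ 8 := by
    rw [← hT8]
    apply Nat.card_le_card_of_injective (fun x : MulAction.orbit M t => (⟨x.1, horbT x.1 x.2⟩ : T))
    intro a b hab
    apply Subtype.ext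
    exact congrArg (fun z : T => (z : G)) hab
  -- the orbit has at least 2 elements
  have hge2 : 2 ≤ Nat.card (MulAction.orbit M t) := by
    have h1 : (⟨t, MulAction.mem_orbit_self t⟩ : MulAction.orbit M t) ≠
        ⟨s * t * s⁻¹, ⟨⟨s, hsT⟩, rfl⟩⟩ := by
      intro h
      exact hst (congrArg Subtype.val h).symm
    have : Nontrivial (MulAction.orbit M t) := ⟨⟨_, _, h1⟩⟩
    exact Finite.one_lt_card
  -- the orbit has size ≡ 1 mod 3
  set y' : M := ⟨y, hyT⟩ with hy'
  have hy'3 : orderOf y' = 3 := by rw [← Subgroup.orderOf_coe]; exact hy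
  have hP : IsPGroup 3 (Subgroup.zpowers y') := by
    rw [IsPGroup.iff_card]
    exact ⟨1, by rw [Nat.card_zpowers, hy'3, pow_one]⟩
  have hmod := hP.card_modEq_card_fixedPoints (MulAction.orbit M t)
  have hfix : Nat.card (MulAction.fixedPoints (Subgroup.zpowers y') (MulAction.orbit M t)) = 1 := by
    rw [Nat.card_eq_one_iff_unique]
    refine ⟨⟨?_⟩, ⟨⟨⟨t, MulAction.mem_orbit_self t⟩, ?_⟩⟩⟩
    · rintro ⟨⟨a, ha⟩, ha'⟩ ⟨⟨b, hb⟩, hb'⟩
      have key : ∀ (c : G) (hc : c ∈ MulAction.orbit M t),
          (⟨c, hc⟩ : MulAction.orbit M t) ∈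
            MulAction.fixedPoints (Subgroup.zpowers y') (MulAction.orbit M t) → c = t := by
        intro c hc hc'
        have h1 := hc' ⟨y', Subgroup.mem_zpowers y'⟩
        have h2 : y * c * y⁻¹ = c := congrArg Subtype.val h1
        have h3 : y * c = c * y := by
          calc y * c = y * c * y⁻¹ * y := by group
            _ = c * y := by rw [h2]
        rcases hCy c (horbT c hc) h3 with h | h
        · -- c = 1 is impossible since then t = 1
          exfalso
          obtain ⟨m, hm⟩ := hc
          have hm' : (m : G) * t * (m : G)⁻¹ = c := hm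
          rw [h] at hm'
          have : t = 1 := by
            calc t = (m : G)⁻¹ * ((m : G) * t * (m : G)⁻¹) * (m : G) := by group
              _ = 1 := by rw [hm']; group
          apply hst
          rw [this]; group
        · exact h
      apply Subtype.ext
      apply Subtype.ext
      show a = b
      rw [key a ha ha', key b hb hb']
    · intro m
      obtain ⟨m, hm⟩ := m
      obtain ⟨k, rfl⟩ := Subgroup.mem_zpowers_iff.mp hm
      apply Subtype.ext
      show ((y' ^ k : M) : G) * t * ((y' ^ k : M) : G)⁻¹ = t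
      have h1 : ((y' ^ k : M) : G) = y ^ k := by simp [hy']
      rw [h1]
      have h2 : y ^ k ∈ Subgroup.centralizer ({t} : Set G) := Subgroup.zpow_mem _ hyt k
      rw [Subgroup.mem_centralizer_singleton_iff] at h2
      rw [h2]; group
  rw [hfix] at hmod
  -- the stabilizer has order divisible by 24
  have h8 : 8 ∣ Nat.card (MulAction.stabilizer M t) := by
    have hle : T.subgroupOf M ≤ MulAction.stabilizer M t := by
      intro m hm
      rw [Subgroup.mem_subgroupOf] at hm
      rw [MulAction.mem_stabilizer_iff, hsmul]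
      have := hTH hm
      rw [Subgroup.mem_centralizer_singleton_iff] at this
      rw [this]; group
    have hc : Nat.card (T.subgroupOf M) = 8 := by
      rw [← hT8]
      exact Nat.card_congr (Subgroup.subgroupOfEquivOfLe Subgroup.le_normalizer).toEquiv
    rw [← hc]
    exact Subgroup.card_dvd_of_le hle
  have h3 : 3 ∣ Nat.card (MulAction.stabilizer M t) := by
    have hmem : y' ∈ MulAction.stabilizer M t := by
      rw [MulAction.mem_stabilizer_iff, hsmul]
      have := hyt
      rw [Subgroup.mem_centralizer_singleton_iff] at this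
      show y * t * y⁻¹ = t
      rw [this]; group
    have h1 : orderOf (⟨y', hmem⟩ : MulAction.stabilizer M t) = 3 := by
      rw [← Subgroup.orderOf_coe]; exact hy'3
    have h2 := orderOf_dvd_natCard (⟨y', hmem⟩ : MulAction.stabilizer M t)
    rwa [h1] at h2
  have h24 : 24 ∣ Nat.card (MulAction.stabilizer M t) := by
    have : Nat.Coprime 8 3 := by norm_num
    exact this.mul_dvd_of_dvd_of_dvd h8 h3
  -- orbit-stabilizer
  have hos : Nat.card (MulAction.orbit M t) * Nat.card (MulAction.stabilizer M t) = Nat.card M := by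
    have h1 := Subgroup.card_mul_index (MulAction.stabilizer M t)
    rw [MulAction.index_stabilizer] at h1
    rw [mul_comm]
    rw [← h1, Nat.card_coe_set_eq]
  have hM7920 : Nat.card M ∣ 7920 := hG ▸ Subgroup.card_subgroup_dvd_card M
  rw [← hos] at hM7920
  exact arith _ _ hge2 hle8 hmod h24 hM7920

end Cfsg.Agent.Lib.Helper63_M11_L5_120B
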