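import Mathlib
import Cfsg.Agent.Lib.Helper17_Sylow

/-!
helper63: M11 package L5_120 (helper53 market), the element `s`: for `T ≤ C(t)` of order 8 in a group of order
7920 with `|C(t)| = 120` there is `s ∈ N(T)` with `s t s⁻¹ ≠ t`.
-/

set_option autoImplicit false
namespace Cfsg.Agent.Lib.Helper63_M11_L5_120C
variable {G : Type*} [Group G]

/-- In a group of order 7920 with `|C(t)| = 120`, a subgroup `T ≤ C(t)` of order 8 is normalized by
an element `s` with `s t s⁻¹ ≠ t` (take `s ∈ S ∖ T` for a Sylow 2-subgroup `S ≥ T`). -/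
theorem exists_normalizing [Finite G] (hG : Nat.card G = 7920) (t : G)
    (hH : Nat.card (Subgroup.centralizer ({t} : Set G)) = 120)
    (T : Subgroup G) (hT8 : Nat.card T = 8) (hTH : T ≤ Subgroup.centralizer ({t} : Set G)) :
    ∃ s : G, s ∈ Subgroup.normalizer (T : Set G) ∧ s * t * s⁻¹ ≠ t := by
  classical
  have : Fact (Nat.Prime 2) := ⟨Nat.prime_two⟩
  have hTp : IsPGroup 2 T := by
    rw [IsPGroup.iff_card]; exact ⟨3, by rw [hT8]; norm_num⟩
  obtain ⟨S, hTS⟩ := hTp.exists_le_sylow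
  have hS16 : Nat.card (S : Subgroup G) = 16 := by
    have := Cfsg.Agent.Lib.Helper17_Sylow.card_sylow_eq_pow (p := 2) (k := 4) (m := 495)
      (by rw [hG]; norm_num) (by norm_num) S
    rw [this]; norm_num
  -- T has index 2 in S
  have hrel : T.relIndex (S : Subgroup G) = 2 := by
    have h1 := Cfsg.Agent.Lib.Helper17_Sylow.card_mul_relIndex_of_le hTS
    rw [hT8, hS16] at h1
    omega
  have hnorm : (T.subgroupOf (S : Subgroup G)).Normal := Subgroup.normal_of_index_eq_two hrel
  have hSN : (S : Subgroup G) ≤ Subgroup.normalizer (T : Set G) := by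
    intro g hg
    rw [Subgroup.mem_normalizer_iff]
    intro h
    constructor
    · intro hh
      have := hnorm.conj_mem ⟨h, hTS hh⟩ (Subgroup.mem_subgroupOf.mpr hh) ⟨g, hg⟩
      exact Subgroup.mem_subgroupOf.mp this
    · intro hh
      have := hnorm.conj_mem ⟨g * h * g⁻¹, hTS hh⟩ (Subgroup.mem_subgroupOf.mpr hh) ⟨g, hg⟩⁻¹
      have h2 := Subgroup.mem_subgroupOf.mp this
      have h3 : ((⟨g, hg⟩ : (S : Subgroup G))⁻¹ * ⟨g * h * g⁻¹, hTS hh⟩ *
        (⟨g, hg⟩ : (S : Subgroup G))⁻¹⁻¹ : (S : Subgroup G)).1 = h := by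
        show g⁻¹ * (g * h * g⁻¹) * g⁻¹⁻¹ = h
        group
      rw [h3] at h2
      exact h2
  -- an element of S outside T
  have hne : ¬ ((S : Subgroup G) ≤ T) := by
    intro hle
    have := Subgroup.card_dvd_of_le hle
    rw [hS16, hT8] at this
    norm_num at this
  obtain ⟨s, hsS, hsT⟩ := Set.not_subset.mp hne
  refine ⟨s, hSN hsS, ?_⟩
  intro hst
  -- D = S ⊓ C(t) contains T and s, has order dividing 16 and 120
  set D : Subgroup G := (S : Subgroup G) ⊓ Subgroup.centralizer ({t} : Set G) with hD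
  have hTD : T ≤ D := le_inf hTS hTH
  have hsD : s ∈ D := by
    refine Subgroup.mem_inf.mpr ⟨hsS, ?_⟩
    rw [Subgroup.mem_centralizer_singleton_iff]
    calc s * t = s * t * s⁻¹ * s := by group
      _ = t * s := by rw [hst]
  have h1 : Nat.card D ∣ 16 := hS16 ▸ Subgroup.card_dvd_of_le inf_le_left
  have h2 : Nat.card D ∣ 120 := hH ▸ Subgroup.card_dvd_of_le inf_le_right
  have h3 : Nat.card D ∣ 8 := by
    have := Nat.dvd_gcd h1 h2
    norm_num at this
    exact this
  have h4 : 8 ∣ Nat.card D := hT8 ▸ Subgroup.card_dvd_of_le hTD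
  have h5 : Nat.card D = Nat.card T := by
    rw [hT8]; exact Nat.dvd_antisymm h3 h4
  have h6 : T = D := Subgroup.eq_of_le_of_card_ge hTD (le_of_eq h5)
  exact hsT (h6 ▸ hsD)

end Cfsg.Agent.Lib.Helper63_M11_L5_120C
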