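import Mathlib
import Cfsg.Agent.S0071
import Cfsg.Agent.Lib.Helper17_Sylow
import Cfsg.Agent.Lib.Helper63_M11_L5_120B
import Cfsg.Agent.Lib.Helper63_M11_L5_120C

/-!
helper63: M11 package L5_120 (helper53's market) by a quotient-free route through Frobenius' normal
`p`-complement theorem S0071: in a simple group of order 7920 with Sylow 5-normalizers of order 20, an
involution `t` with `N(P₅) ≤ C(t)` cannot have `|C(t)| = 120`.

`H = C(t)` has no normal 2-complement (it would have order 15, contain `P₅`, and have three Sylow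
5-subgroups).  So by S0071 some odd-order element `g` of `H` normalizes and does not centralize a 2-subgroup
`Q`; replacing `Q` by `Q ⊔ ⟨t⟩` and `g` by its 3-part or 5-part, the congruence `|Q| ≡ |C_Q(g)|` forces
`|Q| = 8`, `g` of order 3 and `C_Q(g) = {1,t}`.  Then `Helper63_M11_L5_120C.exists_normalizing` and
`Helper63_M11_L5_120B.normalizer_contra` finish.
-/

set_option autoImplicit false

namespace Cfsg.Agent.Lib.Helper63_M11_L5_120D

open Cfsg

/-- Fixed points of a `p`-element normalizing a subgroup: `|Q| ≡ |C_Q(g)| (mod p)`. -/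
theorem card_modEq_centralizer {K : Type*} [Group K] [Finite K] (p : ℕ) [Fact p.Prime]
    (Q : Subgroup K) (g : K) (hg : g ∈ Subgroup.normalizer (Q : Set K)) (hgp : g ^ p = 1) :
    Nat.card Q ≡ Nat.card ((Subgroup.centralizer ({g} : Set K)).subgroupOf Q) [MOD p] := by
  classical
  set g' : Subgroup.normalizer (Q : Set K) := ⟨g, hg⟩ with hg'
  let act : MulAction (Subgroup.normalizer (Q : Set K)) Q :=
    MulAction.compHom Q (Subgroup.normalizerMonoidHom Q)
  have hsmul : ∀ (m : Subgroup.normalizer (Q : Set K)) (q : Q),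
      ((m • q : Q) : K) = (m : K) * q * (m : K)⁻¹ := fun m q => rfl
  have hP : IsPGroup p (Subgroup.zpowers g') := by
    intro m
    obtain ⟨m, hm⟩ := m
    obtain ⟨k, rfl⟩ := Subgroup.mem_zpowers_iff.mp hm
    refine ⟨1, ?_⟩
    apply Subtype.ext
    apply Subtype.ext
    show ((g' ^ k) ^ p ^ 1 : Subgroup.normalizer (Q : Set K)).1 = 1
    rw [pow_one, ← zpow_natCast, ← zpow_mul, mul_comm, zpow_mul, zpow_natCast]
    have : g' ^ p = 1 := by
      apply Subtype.ext
      show g ^ p = 1
      exact hgp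
    rw [this, one_zpow]; rfl
  have hmod := hP.card_modEq_card_fixedPoints Q
  have hset : (MulAction.fixedPoints (Subgroup.zpowers g') Q) =
      (((Subgroup.centralizer ({g} : Set K)).subgroupOf Q : Subgroup Q) : Set Q) := by
    ext q
    rw [MulAction.mem_fixedPoints]
    constructor
    · intro h
      have h1 := h ⟨g', Subgroup.mem_zpowers g'⟩
      have h2 : g * q * g⁻¹ = q := congrArg Subtype.val h1
      show q ∈ (Subgroup.centralizer ({g} : Set K)).subgroupOf Q
      rw [Subgroup.mem_subgroupOf, Subgroup.mem_centralizer_singleton_iff]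
      calc (q : K) * g = g * q * g⁻¹ * g := by rw [h2]
        _ = g * q := by group
    · intro h m
      obtain ⟨m, hm⟩ := m
      obtain ⟨k, rfl⟩ := Subgroup.mem_zpowers_iff.mp hm
      have h0 : q ∈ (Subgroup.centralizer ({g} : Set K)).subgroupOf Q := h
      rw [Subgroup.mem_subgroupOf] at h0
      -- q centralizes g hence g^k
      have h1 : (g ^ k) ∈ Subgroup.centralizer ({(q : K)} : Set K) := by
        apply Subgroup.zpow_mem
        rw [Subgroup.mem_centralizer_singleton_iff]
        exact (Subgroup.mem_centralizer_singleton_iff.mp h0).symm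
      rw [Subgroup.mem_centralizer_singleton_iff] at h1
      apply Subtype.ext
      show ((g' ^ k : Subgroup.normalizer (Q : Set K)) : K) * q *
        ((g' ^ k : Subgroup.normalizer (Q : Set K)) : K)⁻¹ = q
      have h2 : ((g' ^ k : Subgroup.normalizer (Q : Set K)) : K) = g ^ k := by simp [hg']
      rw [h2, h1]; group
  rw [hset] at hmod
  exact hmod

/-- `C(t)` has no normal 2-complement. -/
theorem no_complement {G : Type*} [Group G] [Finite G] (hG : Nat.card G = 7920) (P : Sylow 5 G)
    (hN20 : Nat.card (Subgroup.normalizer ((P : Subgroup G) : Set G)) = 20)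
    (H : Subgroup G) (hNH : Subgroup.normalizer ((P : Subgroup G) : Set G) ≤ H)
    (hH : Nat.card H = 120) (P2 : Sylow 2 H) (N : Subgroup H) (hN : N.Normal)
    (hc : N.IsComplement' (P2 : Subgroup H)) : False := by
  classical
  have : Fact (Nat.Prime 2) := ⟨Nat.prime_two⟩
  have : Fact (Nat.Prime 5) := ⟨by norm_num⟩
  have hP2 : Nat.card (P2 : Subgroup H) = 8 := by
    have := Cfsg.Agent.Lib.Helper17_Sylow.card_sylow_eq_pow (G := H) (p := 2) (k := 3) (m := 15)
      (by rw [hH]; norm_num) (by norm_num) P2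
    rw [this]; norm_num
  have hP5 : Nat.card (P : Subgroup G) = 5 := by
    have := Cfsg.Agent.Lib.Helper17_Sylow.card_sylow_eq_pow (G := G) (p := 5) (k := 1) (m := 1584)
      (by rw [hG]; norm_num) (by norm_num) P
    rw [this]; norm_num
  have hN15 : Nat.card N = 15 := by
    have h1 := hc.card_mul_card
    rw [hP2, hH] at h1
    omega
  have hidx : N.index = 8 := by
    have h1 := Subgroup.card_mul_index N
    rw [hN15, hH] at h1
    omega
  have hPH : (P : Subgroup G) ≤ H := le_trans Subgroup.le_normalizer hNH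
  -- every element of P lies in N
  have hPN : ∀ x (hx : x ∈ (P : Subgroup G)), (⟨x, hPH hx⟩ : H) ∈ N := by
    intro x hx
    have h5 : x ^ 5 = 1 := by
      have := pow_card_eq_one' (G := (P : Subgroup G)) (x := ⟨x, hx⟩)
      rw [hP5] at this
      exact congrArg Subtype.val this
    have h5' : (⟨x, hPH hx⟩ : H) ^ 5 = 1 := Subtype.ext h5
    have hq5 : ((⟨x, hPH hx⟩ : H) : H ⧸ N) ^ 5 = 1 := by
      rw [← QuotientGroup.mk_pow, h5']; rfl
    have hq8 : ((⟨x, hPH hx⟩ : H) : H ⧸ N) ^ 8 = 1 := by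
      have := pow_card_eq_one' (G := H ⧸ N) (x := ((⟨x, hPH hx⟩ : H) : H ⧸ N))
      rwa [← Subgroup.index_eq_card, hidx] at this
    have h1 : ((⟨x, hPH hx⟩ : H) : H ⧸ N) ^ (Nat.gcd 5 8) = 1 := pow_gcd_eq_one.mpr ⟨hq5, hq8⟩
    have h2 : Nat.gcd 5 8 = 1 := by norm_num
    rw [h2, pow_one] at h1
    exact (QuotientGroup.eq_one_iff _).mp h1
  -- N as a subgroup of G
  set N' : Subgroup G := N.map H.subtype with hN'
  have hN'15 : Nat.card N' = 15 := by
    rw [hN', Subgroup.card_map_of_injective (Subgroup.subtype_injective H), hN15]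
  have hPN' : (P : Subgroup G) ≤ N' := by
    intro x hx
    exact ⟨⟨x, hPH hx⟩, hPN x hx, rfl⟩
  -- D = N' ⊓ N_G(P) has order 5
  set D : Subgroup G := Subgroup.normalizer ((P : Subgroup G) : Set G) ⊓ N' with hD
  have hD5 : Nat.card D = 5 := by
    have h1 : Nat.card D ∣ 20 := hN20 ▸ Subgroup.card_dvd_of_le inf_le_left
    have h2 : Nat.card D ∣ 15 := hN'15 ▸ Subgroup.card_dvd_of_le inf_le_right
    have h3 : Nat.card D ∣ 5 := by
      have := Nat.dvd_gcd h1 h2
      norm_num at this
      exact this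
    have h4 : 5 ∣ Nat.card D := hP5 ▸ Subgroup.card_dvd_of_le (le_inf Subgroup.le_normalizer hPN')
    exact Nat.dvd_antisymm h3 h4
  -- Sylow count in N'
  set P' : Sylow 5 N' := P.subtype hPN' with hP'
  have hcount := Sylow.card_eq_index_normalizer P'
  have hnorm : Subgroup.normalizer ((P' : Subgroup N') : Set N') =
      (Subgroup.normalizer ((P : Subgroup G) : Set G)).subgroupOf N' := by
    rw [hP', Sylow.coe_subtype, Subgroup.subgroupOf_normalizer_eq hPN']
  have hidx3 : (Subgroup.normalizer ((P' : Subgroup N') : Set N')).index = 3 := by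
    rw [hnorm]
    have h1 : ((Subgroup.normalizer ((P : Subgroup G) : Set G)).subgroupOf N').index =
        D.relIndex N' := by
      rw [hD, Subgroup.inf_relIndex_right]; rfl
    rw [h1]
    have h2 := Cfsg.Agent.Lib.Helper17_Sylow.card_mul_relIndex_of_le (H := D) (K := N') inf_le_right
    rw [hD5, hN'15] at h2
    omega
  have hmod := card_sylow_modEq_one 5 N'
  rw [hcount] at hmod
  have hmod' : 3 ≡ 1 [MOD 5] := by
    have h3 : (Subgroup.normalizer ((P' : Subgroup N') : Set N')).index = 3 := hidx3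
    exact h3 ▸ hmod
  unfold Nat.ModEq at hmod'
  norm_num at hmod'

/-- Arithmetic for the fixed point congruence. -/
theorem arith5 (n c : ℕ) (hn : n ∣ 8) (hc : c ∣ n) (h2 : 2 ∣ c) (hne : c ≠ n) (hmod : n ≡ c [MOD 5]) :
    False := by
  have hn8 : n ≤ 8 := Nat.le_of_dvd (by norm_num) hn
  have hn0 : 0 < n := Nat.pos_of_dvd_of_pos hn (by norm_num)
  have hcn : c ≤ n := Nat.le_of_dvd hn0 hc
  unfold Nat.ModEq at hmod
  interval_cases n <;> interval_cases c <;> omega

theorem arith3 (n c : ℕ) (hn : n ∣ 8) (hc : c ∣ n) (h2 : 2 ∣ c) (hne : c ≠ n) (hmod : n ≡ c [MOD 3]) :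
    n = 8 ∧ c = 2 := by
  have hn8 : n ≤ 8 := Nat.le_of_dvd (by norm_num) hn
  have hn0 : 0 < n := Nat.pos_of_dvd_of_pos hn (by norm_num)
  have hcn : c ≤ n := Nat.le_of_dvd hn0 hc
  unfold Nat.ModEq at hmod
  interval_cases n <;> interval_cases c <;> omega

/-- The Sylow 2-subgroup `T` of `C(t)` and the element `y` of order 3 with `C_T(y) = {1,t}`. -/
theorem exists_T_y {G : Type*} [Group G] [Finite G] (hG : Nat.card G = 7920) (P : Sylow 5 G)
    (hN20 : Nat.card (Subgroup.normalizer ((P : Subgroup G) : Set G)) = 20)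
    (t : G) (ht : orderOf t = 2)
    (hNt : Subgroup.normalizer ((P : Subgroup G) : Set G) ≤ Subgroup.centralizer ({t} : Set G))
    (hH : Nat.card (Subgroup.centralizer ({t} : Set G)) = 120) :
    ∃ (T : Subgroup G) (y : G), Nat.card T = 8 ∧ T ≤ Subgroup.centralizer ({t} : Set G) ∧ t ∈ T ∧
      orderOf y = 3 ∧ y ∈ Subgroup.centralizer ({t} : Set G) ∧
      y ∈ Subgroup.normalizer (T : Set G) ∧ ∀ x ∈ T, y * x = x * y → x = 1 ∨ x = t := by
  classical
  have : Fact (Nat.Prime 2) := ⟨Nat.prime_two⟩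
  have : Fact (Nat.Prime 3) := ⟨by norm_num⟩
  have : Fact (Nat.Prime 5) := ⟨by norm_num⟩
  set H : Subgroup G := Subgroup.centralizer ({t} : Set G) with hHdef
  have htH : t ∈ H := by rw [hHdef, Subgroup.mem_centralizer_singleton_iff]
  set t' : H := ⟨t, htH⟩ with ht'def
  have ht' : orderOf t' = 2 := by rw [← Subgroup.orderOf_coe]; exact ht
  have hcentral : ∀ h : H, h * t' = t' * h := by
    intro h
    apply Subtype.ext
    have h2 : (h : G) ∈ Subgroup.centralizer ({t} : Set G) := h.2
    rw [Subgroup.mem_centralizer_singleton_iff] at h2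
    exact h2
  -- a Sylow 2-subgroup of H containing t'
  have hzp : IsPGroup 2 (Subgroup.zpowers t') := by
    rw [IsPGroup.iff_card]
    exact ⟨1, by rw [Nat.card_zpowers, ht', pow_one]⟩
  obtain ⟨P2, hP2t⟩ := hzp.exists_le_sylow
  have hP2 : Nat.card (P2 : Subgroup H) = 8 := by
    have := Cfsg.Agent.Lib.Helper17_Sylow.card_sylow_eq_pow (G := H) (p := 2) (k := 3) (m := 15)
      (by rw [hH]; norm_num) (by norm_num) P2
    rw [this]; norm_num
  -- no normal complement, so Frobenius gives Q and g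
  have hno : ¬ ∃ N : Subgroup H, N.Normal ∧ N.IsComplement' (P2 : Subgroup H) := by
    rintro ⟨N, hN, hc⟩
    exact no_complement hG P hN20 H hNt hH P2 N hN hc
  rw [Cfsg.Agent.S0071.result P2] at hno
  push Not at hno
  obtain ⟨Q, hQP2, g, hgQ, hgcop, hgnot⟩ := hno
  -- g ^ 15 = 1
  have hg15 : g ^ 15 = 1 := by
    have h1 : orderOf g ∣ 8 * 15 := by
      have := orderOf_dvd_natCard g
      rw [hH] at this
      exact this
    have h2 : Nat.Coprime (orderOf g) 8 := by
      have : (8 : ℕ) = 2 ^ 3 := by norm_num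
      rw [this]
      exact Nat.Coprime.pow_right 3 hgcop
    exact orderOf_dvd_iff_pow_eq_one.mp (h2.dvd_of_dvd_mul_left h1)
  -- the subgroup Q' = Q ⊔ ⟨t'⟩
  set Q' : Subgroup H := Q ⊔ Subgroup.zpowers t' with hQ'
  have hQ'P2 : Q' ≤ (P2 : Subgroup H) := sup_le hQP2 hP2t
  have ht'Q' : t' ∈ Q' := (le_sup_right : Subgroup.zpowers t' ≤ Q') (Subgroup.mem_zpowers t')
  have hQ'8 : Nat.card Q' ∣ 8 := hP2 ▸ Subgroup.card_dvd_of_le hQ'P2
  -- normalizing Q' and the congruence, for any power of g
  have hnormZ : ∀ h : H, h ∈ Subgroup.normalizer ((Subgroup.zpowers t' : Subgroup H) : Set H) := by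
    intro h
    rw [Subgroup.mem_normalizer_iff]
    intro x
    constructor
    · intro hx
      obtain ⟨k, rfl⟩ := Subgroup.mem_zpowers_iff.mp hx
      have : h * t' ^ k * h⁻¹ = t' ^ k := by
        have hc : Commute h t' := hcentral h
        have := (hc.zpow_right k).eq
        rw [this]; group
      rw [this]; exact hx
    · intro hx
      obtain ⟨k, hk⟩ := Subgroup.mem_zpowers_iff.mp hx
      have hc : Commute h⁻¹ t' := hcentral h⁻¹
      have h2 : x = t' ^ k := by
        have h3 : x = h⁻¹ * (h * x * h⁻¹) * h := by group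
        rw [h3, ← hk]
        have := (hc.zpow_right k).eq
        rw [this]; group
      rw [h2]; exact Subgroup.zpow_mem_zpowers t' k
  have hpow : ∀ j : ℕ, g ^ j ∈ Subgroup.normalizer ((Q' : Subgroup H) : Set H) := by
    intro j
    apply Subgroup.normalizer_inf_normalizer_le_normalizer_sup Q (Subgroup.zpowers t')
    exact ⟨Subgroup.pow_mem _ hgQ j, hnormZ _⟩
  -- the two parts of g
  have hsplit : g = g ^ 10 * g ^ 6 := by
    rw [← pow_add]
    have : g ^ 16 = g ^ 15 * g := by rw [← pow_succ]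
    rw [this, hg15, one_mul]
  have hcases : g ^ 10 ∉ Subgroup.centralizer (Q : Set H) ∨ g ^ 6 ∉ Subgroup.centralizer (Q : Set H) := by
    by_contra hcon
    push Not at hcon
    apply hgnot
    rw [hsplit]
    exact Subgroup.mul_mem _ hcon.1 hcon.2
  -- common consequences for a power y' of g not centralizing Q
  have hcommon : ∀ (j p : ℕ) [Fact p.Prime], (g ^ j) ^ p = 1 →
      g ^ j ∉ Subgroup.centralizer (Q : Set H) →
      Nat.card ((Subgroup.centralizer ({g ^ j} : Set H)).subgroupOf Q') ∣ Nat.card Q' ∧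
      2 ∣ Nat.card ((Subgroup.centralizer ({g ^ j} : Set H)).subgroupOf Q') ∧
      Nat.card ((Subgroup.centralizer ({g ^ j} : Set H)).subgroupOf Q') ≠ Nat.card Q' ∧
      Nat.card Q' ≡ Nat.card ((Subgroup.centralizer ({g ^ j} : Set H)).subgroupOf Q') [MOD p] := by
    intro j p _ hjp hjnot
    refine ⟨Subgroup.card_subgroup_dvd_card _, ?_, ?_, card_modEq_centralizer p Q' (g ^ j) (hpow j) hjp⟩
    · -- t' lies in it and has order 2
      have hmem : (⟨t', ht'Q'⟩ : Q') ∈ (Subgroup.centralizer ({g ^ j} : Set H)).subgroupOf Q' := by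
        rw [Subgroup.mem_subgroupOf, Subgroup.mem_centralizer_singleton_iff]
        exact (hcentral (g ^ j)).symm
      have h1 : orderOf (⟨⟨t', ht'Q'⟩, hmem⟩ :
          ((Subgroup.centralizer ({g ^ j} : Set H)).subgroupOf Q' : Subgroup Q')) = 2 := by
        rw [← Subgroup.orderOf_coe, ← Subgroup.orderOf_coe]; exact ht'
      have h2 := orderOf_dvd_natCard (⟨⟨t', ht'Q'⟩, hmem⟩ :
          ((Subgroup.centralizer ({g ^ j} : Set H)).subgroupOf Q' : Subgroup Q'))
      rwa [h1] at h2
    · intro hcard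
      apply hjnot
      have htop : (Subgroup.centralizer ({g ^ j} : Set H)).subgroupOf Q' = ⊤ :=
        Subgroup.eq_top_of_card_eq _ hcard
      rw [Subgroup.mem_centralizer_iff]
      intro q hq
      have hq' : (⟨q, (le_sup_left : Q ≤ Q') hq⟩ : Q') ∈
          (Subgroup.centralizer ({g ^ j} : Set H)).subgroupOf Q' := by rw [htop]; trivial
      rw [Subgroup.mem_subgroupOf, Subgroup.mem_centralizer_singleton_iff] at hq'
      exact hq'
  -- the 5-part centralizes Q
  have h6 : g ^ 6 ∈ Subgroup.centralizer (Q : Set H) := by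
    by_contra hnot
    have h5 : (g ^ 6) ^ 5 = 1 := by
      rw [← pow_mul]
      have : g ^ 30 = (g ^ 15) ^ 2 := by rw [← pow_mul]
      rw [this, hg15, one_pow]
    obtain ⟨a, b, c, d⟩ := hcommon 6 5 h5 hnot
    exact arith5 _ _ hQ'8 a b c d
  have h10 : g ^ 10 ∉ Subgroup.centralizer (Q : Set H) := by
    rcases hcases with h | h
    · exact h
    · exact absurd h6 h
  have h3 : (g ^ 10) ^ 3 = 1 := by
    rw [← pow_mul]
    have : g ^ 30 = (g ^ 15) ^ 2 := by rw [← pow_mul]
    rw [this, hg15, one_pow]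
  obtain ⟨a, b, c, d⟩ := hcommon 10 3 h3 h10
  obtain ⟨hn8, hc2⟩ := arith3 _ _ hQ'8 a b c d
  set y' : H := g ^ 10 with hy'
  have hy'ne : y' ≠ 1 := by
    intro h
    apply h10
    rw [h]
    exact Subgroup.one_mem _
  have hy'3 : orderOf y' = 3 := orderOf_eq_prime h3 hy'ne
  -- the centralizer of y' in Q' is {1, t'}
  have hCQ : ∀ x : H, x ∈ Q' → y' * x = x * y' → x = 1 ∨ x = t' := by
    intro x hx hcomm
    have hmemx : (⟨x, hx⟩ : Q') ∈ (Subgroup.centralizer ({y'} : Set H)).subgroupOf Q' := by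
      rw [Subgroup.mem_subgroupOf, Subgroup.mem_centralizer_singleton_iff]
      exact hcomm.symm
    have hmemt : (⟨t', ht'Q'⟩ : Q') ∈ (Subgroup.centralizer ({y'} : Set H)).subgroupOf Q' := by
      rw [Subgroup.mem_subgroupOf, Subgroup.mem_centralizer_singleton_iff]
      exact (hcentral y').symm
    obtain ⟨u, -, hu⟩ := (Nat.card_eq_two_iff'
      (1 : ((Subgroup.centralizer ({y'} : Set H)).subgroupOf Q' : Subgroup Q'))).mp hc2
    by_cases hx1 : x = 1
    · exact Or.inl hx1
    · right
      have e1 : (⟨⟨x, hx⟩, hmemx⟩ :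
          ((Subgroup.centralizer ({y'} : Set H)).subgroupOf Q' : Subgroup Q')) = u := by
        apply hu
        intro h
        apply hx1
        have := congrArg (fun z : ((Subgroup.centralizer ({y'} : Set H)).subgroupOf Q' : Subgroup Q') =>
          ((z : Q') : H)) h
        exact this
      have e2 : (⟨⟨t', ht'Q'⟩, hmemt⟩ :
          ((Subgroup.centralizer ({y'} : Set H)).subgroupOf Q' : Subgroup Q')) = u := by
        apply hu
        intro h
        have h2 := congrArg (fun z : ((Subgroup.centralizer ({y'} : Set H)).subgroupOf Q' : Subgroup Q') =>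
          ((z : Q') : H)) h
        have h3 : t' = 1 := h2
        rw [h3, orderOf_one] at ht'
        omega
      have := e1.trans e2.symm
      exact congrArg (fun z : ((Subgroup.centralizer ({y'} : Set H)).subgroupOf Q' : Subgroup Q') =>
          ((z : Q') : H)) this
  -- move to G
  refine ⟨Q'.map H.subtype, (y' : G), ?_, ?_, ?_, ?_, ?_, ?_, ?_⟩
  · rw [Subgroup.card_map_of_injective (Subgroup.subtype_injective H), hn8]
  · exact Subgroup.map_subtype_le Q'
  · exact ⟨t', ht'Q', rfl⟩
  · rw [Subgroup.orderOf_coe]; exact hy'3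
  · exact y'.2
  · exact Subgroup.le_normalizer_map H.subtype ⟨y', hpow 10, rfl⟩
  · rintro x ⟨x', hx', rfl⟩ hcomm
    have hcomm' : y' * x' = x' * y' := Subtype.ext hcomm
    rcases hCQ x' hx' hcomm' with h | h
    · left; rw [h]; rfl
    · right; rw [h]; rfl

/-- M11-L5_120 (statement of helper53's package, verbatim). -/
theorem L5_120 {G : Type*} [Group G] [Finite G] [IsSimpleGroup G] (hG : Nat.card G = 7920)
    (h5 : ∀ P : Sylow 5 G, Nat.card (Subgroup.normalizer ((P : Subgroup G) : Set G)) = 20 ∧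
      Nat.card (Subgroup.centralizer ((P : Subgroup G) : Set G)) = 10)
    (P : Sylow 5 G) (t : G) (ht : orderOf t = 2)
    (htP : t ∈ Subgroup.centralizer ((P : Subgroup G) : Set G))
    (hNt : Subgroup.normalizer ((P : Subgroup G) : Set G) ≤ Subgroup.centralizer ({t} : Set G)) :
    Nat.card (Subgroup.centralizer ({t} : Set G)) ≠ 120 := by
  intro hH
  obtain ⟨T, y, hT8, hTH, htT, hy, hyt, hyT, hCy⟩ := exists_T_y hG P (h5 P).1 t ht hNt hH
  obtain ⟨s, hsT, hst⟩ :=
    Cfsg.Agent.Lib.Helper63_M11_L5_120C.exists_normalizing hG t hH T hT8 hTH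
  exact Cfsg.Agent.Lib.Helper63_M11_L5_120B.normalizer_contra hG t T hT8 hTH htT y hy hyt hyT hCy
    s hsT hst

end Cfsg.Agent.Lib.Helper63_M11_L5_120D
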