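import Mathlib
import Cfsg.Agent.Lib.Helper53_M11_L11Main
import Cfsg.Agent.Lib.Helper53_M11_L5
import Cfsg.Agent.Lib.Helper24_M11_L5a
import Cfsg.Agent.Lib.Helper63_M11_INV8
import Cfsg.Agent.Lib.Helper63_M11_L5_120D

/-!
# Simple groups of order 7920: Sylow 5-subgroups, final statement (helper53)
-/

set_option autoImplicit false

namespace Cfsg.Agent.Lib.Helper53_M11_L5Main

variable {G : Type*} [Group G] [Finite G]

/-- **L5**: in a simple group of order 7920 the Sylow 5-normalizers have order 20 and the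
Sylow 5-subgroups are self-centralizing. -/
theorem L5 [IsSimpleGroup G] (hG : Nat.card G = 7920) (P : Sylow 5 G) :
    Nat.card (Subgroup.normalizer ((P : Subgroup G) : Set G)) = 20 ∧
    Subgroup.centralizer ((P : Subgroup G) : Set G) = (P : Subgroup G) :=
  Cfsg.Agent.Lib.Helper53_M11_L5.L5_of hG
    (Cfsg.Agent.Lib.Helper53_M11_L11Main.L11 hG)
    (fun P => Cfsg.Agent.Lib.Helper24_M11_L5a.L5a hG (Cfsg.Agent.Lib.Helper53_M11_L11Main.L11 hG) P)
    (Cfsg.Agent.Lib.Helper63_M11_INV8.INV8 hG)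
    (fun h5 P t ht htP hNt =>
      Cfsg.Agent.Lib.Helper63_M11_L5_120D.L5_120 hG h5 P t ht htP hNt) P

end Cfsg.Agent.Lib.Helper53_M11_L5Main
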