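import Mathlib
import Cfsg.Agent.Lib.Helper53_M11Defs

/-!
# M11 cluster, package CL (helper65): class representatives of the `{2,3}`-elements and the
class equation `∑ 144 / |C(r)| = 89` for a simple group of order `7920` (architect: helper53).
-/

set_option autoImplicit false

namespace Cfsg.Agent.Lib.Helper65_M11_CL

open Cfsg.Agent.Lib.Helper53_M11Defs

section general

variable {G : Type*} [Group G]

theorem mem_centralizer_zpowers {y g : G} (h : g * y = y * g) :
    g ∈ Subgroup.centralizer ((Subgroup.zpowers y : Subgroup G) : Set G) := by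
  rw [Subgroup.mem_centralizer_iff]
  intro k hk
  obtain ⟨n, rfl⟩ := Subgroup.mem_zpowers_iff.mp hk
  exact ((Commute.zpow_left (show Commute y g from h.symm) n)).eq

/-- An element of prime order `p` generates a Sylow `p`-subgroup when these have order `p`. -/
theorem exists_sylow_eq_zpowers [Finite G] {p : ℕ} [Fact p.Prime]
    (hcard : ∀ P : Sylow p G, Nat.card (P : Subgroup G) = p)
    {y : G} (hy : orderOf y = p) : ∃ P : Sylow p G, (P : Subgroup G) = Subgroup.zpowers y := by
  have hz : Nat.card (Subgroup.zpowers y) = p := by rw [Nat.card_zpowers, hy]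
  have hpg : IsPGroup p (Subgroup.zpowers y) := IsPGroup.of_card (n := 1) (by rw [hz, pow_one])
  obtain ⟨P, hP⟩ := hpg.exists_le_sylow
  exact ⟨P, (Subgroup.eq_of_le_of_card_ge hP (by rw [hz, hcard P])).symm⟩

theorem mem_zpowers_of_commute [Finite G] {p : ℕ} [Fact p.Prime]
    (hcard : ∀ P : Sylow p G, Nat.card (P : Subgroup G) = p)
    (hcent : ∀ P : Sylow p G,
      Subgroup.centralizer ((P : Subgroup G) : Set G) = (P : Subgroup G))
    {y g : G} (hy : orderOf y = p) (hc : g * y = y * g) : g ∈ Subgroup.zpowers y := by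
  obtain ⟨P, hP⟩ := exists_sylow_eq_zpowers hcard hy
  rw [← hP, ← hcent P, hP]
  exact mem_centralizer_zpowers hc

/-- If `p ∣ orderOf g` then `orderOf g = p` (Sylow `p` of order `p`, self-centralizing). -/
theorem orderOf_eq_of_dvd [Finite G] {p : ℕ} [Fact p.Prime]
    (hcard : ∀ P : Sylow p G, Nat.card (P : Subgroup G) = p)
    (hcent : ∀ P : Sylow p G,
      Subgroup.centralizer ((P : Subgroup G) : Set G) = (P : Subgroup G))
    {g : G} (hg : p ∣ orderOf g) : orderOf g = p := by
  have ho : orderOf g ≠ 0 := (orderOf_pos g).ne'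
  have hy : orderOf (g ^ (orderOf g / p)) = p := orderOf_pow_orderOf_div ho hg
  have hc : g * g ^ (orderOf g / p) = g ^ (orderOf g / p) * g :=
    ((Commute.refl g).pow_right _).eq
  have hm := mem_zpowers_of_commute hcard hcent hy hc
  have hd := orderOf_dvd_of_mem_zpowers hm
  rw [hy] at hd
  exact Nat.dvd_antisymm hd hg

/-- Number of elements of order `p` when Sylow `p`-subgroups have order `p`. -/
theorem card_orderOf_eq_prime [Fintype G] [DecidableEq G] {p : ℕ} [hp : Fact p.Prime]
    (hcard : ∀ P : Sylow p G, Nat.card (P : Subgroup G) = p) :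
    (Finset.univ.filter (fun g : G => orderOf g = p)).card = Nat.card (Sylow p G) * (p - 1) := by
  classical
  have : Fintype (Sylow p G) := Fintype.ofFinite _
  have hE : Finset.univ.filter (fun g : G => orderOf g = p) =
      (Finset.univ : Finset (Sylow p G)).biUnion
        (fun P => Finset.univ.filter (fun g : G => g ∈ (P : Subgroup G) ∧ g ≠ 1)) := by
    ext g
    simp only [Finset.mem_filter, Finset.mem_univ, true_and, Finset.mem_biUnion]
    constructor
    · intro hg
      obtain ⟨P, hP⟩ := exists_sylow_eq_zpowers hcard hg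
      refine ⟨P, ?_, ?_⟩
      · rw [hP]; exact Subgroup.mem_zpowers g
      · rintro rfl
        rw [orderOf_one] at hg
        exact hp.out.one_lt.ne hg
    · rintro ⟨P, hgP, hg1⟩
      have hd := Subgroup.orderOf_dvd_natCard _ hgP
      rw [hcard P] at hd
      rcases (Nat.dvd_prime hp.out).mp hd with h1 | h1
      · exact absurd (orderOf_eq_one_iff.mp h1) hg1
      · exact h1
  have hdisj : ((Finset.univ : Finset (Sylow p G)) : Set (Sylow p G)).PairwiseDisjoint
      (fun P => Finset.univ.filter (fun g : G => g ∈ (P : Subgroup G) ∧ g ≠ 1)) := by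
    intro P _ Q _ hPQ
    rw [Function.onFun, Finset.disjoint_left]
    intro g hgP hgQ
    simp only [Finset.mem_filter, Finset.mem_univ, true_and] at hgP hgQ
    apply hPQ
    have key : ∀ P' : Sylow p G, g ∈ (P' : Subgroup G) → (P' : Subgroup G) = Subgroup.zpowers g := by
      intro P' hgP'
      have hd := Subgroup.orderOf_dvd_natCard _ hgP'
      rw [hcard P'] at hd
      have ho : orderOf g = p := by
        rcases (Nat.dvd_prime hp.out).mp hd with h1 | h1
        · exact absurd (orderOf_eq_one_iff.mp h1) hgP.2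
        · exact h1
      have hle : Subgroup.zpowers g ≤ (P' : Subgroup G) := by
        rw [Subgroup.zpowers_le]; exact hgP'
      exact (Subgroup.eq_of_le_of_card_ge hle (by rw [Nat.card_zpowers, ho, hcard P'])).symm
    exact Sylow.ext ((key P hgP.1).trans (key Q hgQ.1).symm)
  rw [hE, Finset.card_biUnion hdisj]
  have hone : ∀ P : Sylow p G,
      (Finset.univ.filter (fun g : G => g ∈ (P : Subgroup G) ∧ g ≠ 1)).card = p - 1 := by
    intro P
    have h1 : Finset.univ.filter (fun g : G => g ∈ (P : Subgroup G) ∧ g ≠ 1) =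
        (Finset.univ.filter (fun g : G => g ∈ (P : Subgroup G))).erase 1 := by
      ext g
      simp only [Finset.mem_filter, Finset.mem_univ, true_and, Finset.mem_erase]
      tauto
    rw [h1, Finset.card_erase_of_mem (by simp)]
    congr 1
    have h2 := hcard P
    rw [Nat.card_eq_fintype_card, Fintype.card_subtype] at h2
    exact h2
  rw [Finset.sum_congr rfl (fun P _ => hone P), Finset.sum_const, Finset.card_univ,
    Nat.card_eq_fintype_card, smul_eq_mul]

theorem not_dvd_card_centralizer [Finite G] {p : ℕ} [hp : Fact p.Prime]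
    (hcard : ∀ P : Sylow p G, Nat.card (P : Subgroup G) = p)
    (hcent : ∀ P : Sylow p G,
      Subgroup.centralizer ((P : Subgroup G) : Set G) = (P : Subgroup G))
    {g : G} {n : ℕ} (hn : ¬ p ∣ n) (hg1 : g ≠ 1) (hg : g ^ n = 1) :
    ¬ p ∣ Nat.card (Subgroup.centralizer ({g} : Set G)) := by
  intro hpd
  obtain ⟨y, hy⟩ := exists_prime_orderOf_dvd_card' p hpd
  have hy' : orderOf (y : G) = p := by rw [Subgroup.orderOf_coe]; exact hy
  have hc : g * (y : G) = (y : G) * g := (Subgroup.mem_centralizer_singleton_iff.mp y.2).symm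
  have hm := mem_zpowers_of_commute hcard hcent hy' hc
  have hd := orderOf_dvd_of_mem_zpowers hm
  rw [hy'] at hd
  rcases (Nat.dvd_prime hp.out).mp hd with h1 | h1
  · exact hg1 (orderOf_eq_one_iff.mp h1)
  · exact hn (h1 ▸ orderOf_dvd_of_pow_eq_one hg)

/-- Class size times centralizer order. -/
theorem card_conj_mul_card_centralizer [Fintype G] [DecidableEq G] (h : G) :
    (Finset.univ.filter (fun g : G => IsConj g h)).card *
      Nat.card (Subgroup.centralizer ({h} : Set G)) = Nat.card G := by
  classical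
  have h1 : (Subgroup.centralizer ({h} : Set G)).index =
      (MulAction.stabilizer (ConjAct G) h).index := by
    rw [Subgroup.centralizer_eq_comap_stabilizer]
    exact Subgroup.index_comap_of_surjective _ (ConjAct.toConjAct (G := G)).surjective
  have h2 : (Finset.univ.filter (fun g : G => IsConj g h)).card =
      (Subgroup.centralizer ({h} : Set G)).index := by
    rw [h1, MulAction.index_stabilizer, ← Set.ncard_coe_finset]
    congr 1
    ext g
    simp
  rw [h2, mul_comm, Subgroup.card_mul_index]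

end general

section m11

variable {G : Type*} [Group G] [Finite G]

theorem fact11 : (7920 : ℕ).factorization 11 = 1 := by
  have h : (7920 : ℕ) = 11 * 720 := by norm_num
  rw [h, Nat.factorization_mul (by norm_num) (by norm_num), Finsupp.add_apply,
    Nat.Prime.factorization_self (by norm_num),
    Nat.factorization_eq_zero_of_not_dvd (by norm_num)]

theorem fact5 : (7920 : ℕ).factorization 5 = 1 := by
  have h : (7920 : ℕ) = 5 * 1584 := by norm_num
  rw [h, Nat.factorization_mul (by norm_num) (by norm_num), Finsupp.add_apply,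
    Nat.Prime.factorization_self (by norm_num),
    Nat.factorization_eq_zero_of_not_dvd (by norm_num)]

theorem card_sylow11 (h : M11Facts G) (P : Sylow 11 G) : Nat.card (P : Subgroup G) = 11 := by
  have : Fact (Nat.Prime 11) := ⟨by norm_num⟩
  rw [Sylow.card_eq_multiplicity, h.card, fact11, pow_one]

theorem card_sylow5 (h : M11Facts G) (P : Sylow 5 G) : Nat.card (P : Subgroup G) = 5 := by
  have : Fact (Nat.Prime 5) := ⟨by norm_num⟩
  rw [Sylow.card_eq_multiplicity, h.card, fact5, pow_one]

theorem order_cases (h : M11Facts G) (g : G) :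
    g = 1 ∨ orderOf g = 11 ∨ orderOf g = 5 ∨ (g ≠ 1 ∧ g ^ 144 = 1) := by
  have : Fact (Nat.Prime 11) := ⟨by norm_num⟩
  have : Fact (Nat.Prime 5) := ⟨by norm_num⟩
  by_cases h1 : g = 1
  · exact Or.inl h1
  by_cases h11 : 11 ∣ orderOf g
  · exact Or.inr (Or.inl (orderOf_eq_of_dvd (card_sylow11 h) (fun P => (h.s11 P).2) h11))
  by_cases h5 : 5 ∣ orderOf g
  · exact Or.inr (Or.inr (Or.inl (orderOf_eq_of_dvd (card_sylow5 h) (fun P => (h.s5 P).2) h5)))
  refine Or.inr (Or.inr (Or.inr ⟨h1, ?_⟩))
  have hd : orderOf g ∣ 7920 := h.card ▸ orderOf_dvd_natCard g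
  have hc : Nat.Coprime (orderOf g) 55 := by
    have : (55 : ℕ) = 11 * 5 := by norm_num
    rw [this]
    exact Nat.Coprime.mul_right
      ((Nat.Prime.coprime_iff_not_dvd (by norm_num)).mpr h11).symm
      ((Nat.Prime.coprime_iff_not_dvd (by norm_num)).mpr h5).symm
  have h144 : orderOf g ∣ 144 := by
    have h2 : orderOf g ∣ 55 * 144 := by norm_num; exact hd
    exact hc.dvd_of_dvd_mul_left h2
  exact orderOf_dvd_iff_pow_eq_one.mp h144

theorem card_centralizer_dvd (h : M11Facts G) (g : G) (hg1 : g ≠ 1) (hg : g ^ 144 = 1) :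
    Nat.card (Subgroup.centralizer ({g} : Set G)) ∣ 144 := by
  have : Fact (Nat.Prime 11) := ⟨by norm_num⟩
  have : Fact (Nat.Prime 5) := ⟨by norm_num⟩
  have hd : Nat.card (Subgroup.centralizer ({g} : Set G)) ∣ 7920 :=
    h.card ▸ Subgroup.card_subgroup_dvd_card _
  have h11 := not_dvd_card_centralizer (card_sylow11 h) (fun P => (h.s11 P).2)
    (show ¬ 11 ∣ 144 by norm_num) hg1 hg
  have h5 := not_dvd_card_centralizer (card_sylow5 h) (fun P => (h.s5 P).2)
    (show ¬ 5 ∣ 144 by norm_num) hg1 hg
  have hc : Nat.Coprime (Nat.card (Subgroup.centralizer ({g} : Set G))) 55 := by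
    have : (55 : ℕ) = 11 * 5 := by norm_num
    rw [this]
    exact Nat.Coprime.mul_right
      ((Nat.Prime.coprime_iff_not_dvd (by norm_num)).mpr h11).symm
      ((Nat.Prime.coprime_iff_not_dvd (by norm_num)).mpr h5).symm
  have h2 : Nat.card (Subgroup.centralizer ({g} : Set G)) ∣ 55 * 144 := by norm_num; exact hd
  exact hc.dvd_of_dvd_mul_left h2

theorem not_isConj_inv (h : M11Facts G) {x : G} (hx : orderOf x = 11) : ¬ IsConj x x⁻¹ := by
  have : Fact (Nat.Prime 11) := ⟨by norm_num⟩
  intro hc
  obtain ⟨g, hg⟩ := isConj_iff.mp hc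
  obtain ⟨P, hP⟩ := exists_sylow_eq_zpowers (card_sylow11 h) hx
  have hg' : g⁻¹ * x * g = x⁻¹ := by
    have : x = g⁻¹ * x⁻¹ * g := by rw [← hg]; group
    calc g⁻¹ * x * g = (g⁻¹ * x⁻¹ * g)⁻¹ := by group
      _ = x⁻¹ := by rw [← this]
  have hgN : g ∈ Subgroup.normalizer ((P : Subgroup G) : Set G) := by
    rw [Subgroup.mem_normalizer_iff, hP]
    intro k
    constructor
    · intro hk
      obtain ⟨n, rfl⟩ := Subgroup.mem_zpowers_iff.mp hk
      rw [← conj_zpow, hg]
      exact Subgroup.zpow_mem _ (Subgroup.inv_mem _ (Subgroup.mem_zpowers x)) n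
    · intro hk
      obtain ⟨n, hn⟩ := Subgroup.mem_zpowers_iff.mp hk
      have : k = (g⁻¹ * x * g) ^ n := by
        have h3 : (g⁻¹ * x * g) ^ n = g⁻¹ * x ^ n * g := by
          have := conj_zpow (a := g⁻¹) (b := x) (i := n)
          rw [inv_inv] at this
          exact this
        rw [h3, hn]; group
      rw [this, hg']
      exact Subgroup.zpow_mem _ (Subgroup.inv_mem _ (Subgroup.mem_zpowers x)) n
  have h55 : g ^ 55 = 1 := by
    have := Subgroup.orderOf_dvd_natCard _ hgN
    rw [(h.s11 P).1] at this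
    exact orderOf_dvd_iff_pow_eq_one.mp this
  have hc2 : Commute (g ^ 2) x := by
    have : g ^ 2 * x * (g ^ 2)⁻¹ = x := by
      rw [pow_two, mul_inv_rev]
      calc g * g * x * (g⁻¹ * g⁻¹) = g * (g * x * g⁻¹) * g⁻¹ := by simp only [mul_assoc]
        _ = g * x⁻¹ * g⁻¹ := by rw [hg]
        _ = (g * x * g⁻¹)⁻¹ := by simp only [mul_inv_rev, inv_inv, mul_assoc]
        _ = x := by rw [hg, inv_inv]
    have h4 : g ^ 2 * x = x * g ^ 2 := by
      calc g ^ 2 * x = (g ^ 2 * x * (g ^ 2)⁻¹) * g ^ 2 := by group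
        _ = x * g ^ 2 := by rw [this]
    exact h4
  have hc54 : Commute (g ^ 54) x := by
    have := hc2.pow_left 27
    rwa [← pow_mul] at this
  have hginv : g ^ 54 = g⁻¹ := by
    have : g ^ 54 * g = 1 := by rw [← pow_succ]; exact h55
    exact eq_inv_of_mul_eq_one_left this
  rw [hginv] at hc54
  have hxx : x = x⁻¹ := by
    have h5 : g * x * g⁻¹ = x := by
      have := hc54.eq
      calc g * x * g⁻¹ = g * (x * g⁻¹) := by group
        _ = g * (g⁻¹ * x) := by rw [this]
        _ = x := by group
    rw [h5] at hg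
    exact hg
  have hx2 : x ^ 2 = 1 := by
    rw [pow_two]
    nth_rewrite 1 [hxx]
    exact inv_mul_cancel x
  have := orderOf_dvd_of_pow_eq_one hx2
  rw [hx] at this
  omega

omit [Finite G] in
theorem orderOf_eq_of_isConj {a b : G} (hab : IsConj a b) : orderOf a = orderOf b := by
  obtain ⟨c, rfl⟩ := isConj_iff.mp hab
  have := orderOf_injective (MulAut.conj c).toMonoidHom (MulAut.conj c).injective a
  simpa [MulAut.conj_apply] using this.symm

theorem card_sylow11_eq (h : M11Facts G) : Nat.card (Sylow 11 G) = 144 := by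
  have : Fact (Nat.Prime 11) := ⟨by norm_num⟩
  obtain ⟨P⟩ : Nonempty (Sylow 11 G) := inferInstance
  have h1 : Nat.card (Sylow 11 G) =
      (Subgroup.normalizer ((P : Subgroup G) : Set G)).index := Sylow.card_eq_index_normalizer P
  rw [h1]
  have := Subgroup.card_mul_index (Subgroup.normalizer ((P : Subgroup G) : Set G))
  rw [(h.s11 P).1, h.card] at this
  omega

theorem card_sylow5_eq (h : M11Facts G) : Nat.card (Sylow 5 G) = 396 := by
  have : Fact (Nat.Prime 5) := ⟨by norm_num⟩
  obtain ⟨P⟩ : Nonempty (Sylow 5 G) := inferInstance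
  have h1 : Nat.card (Sylow 5 G) =
      (Subgroup.normalizer ((P : Subgroup G) : Set G)).index := Sylow.card_eq_index_normalizer P
  rw [h1]
  have := Subgroup.card_mul_index (Subgroup.normalizer ((P : Subgroup G) : Set G))
  rw [(h.s5 P).1, h.card] at this
  omega

/-- **M11-CL**: representatives of the classes of `{2,3}`-elements and the class equation. -/
theorem CL (h : M11Facts G) : ∃ R : Finset G, ClassData G R := by
  classical
  have : Fintype G := Fintype.ofFinite G
  have p11 : Fact (Nat.Prime 11) := ⟨by norm_num⟩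
  have p5 : Fact (Nat.Prime 5) := ⟨by norm_num⟩
  -- representative function
  let rep : G → G := fun g =>
    Function.surjInv (ConjClasses.mk_surjective (α := G)) (ConjClasses.mk g)
  have hrep : ∀ g, IsConj (rep g) g := fun g => ConjClasses.mk_eq_mk_iff_isConj.mp
    (Function.surjInv_eq (ConjClasses.mk_surjective (α := G)) (ConjClasses.mk g))
  have hrep_eq : ∀ a b, IsConj a b → rep a = rep b := fun a b hab => by
    show Function.surjInv (ConjClasses.mk_surjective (α := G)) (ConjClasses.mk a) =
      Function.surjInv (ConjClasses.mk_surjective (α := G)) (ConjClasses.mk b)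
    rw [ConjClasses.mk_eq_mk_iff_isConj.mpr hab]
  have hTinv : ∀ a b : G, IsConj a b → (a ≠ 1 ∧ a ^ 144 = 1) → (b ≠ 1 ∧ b ^ 144 = 1) := by
    rintro a b hab ⟨ha1, ha⟩
    obtain ⟨c, rfl⟩ := isConj_iff.mp hab
    refine ⟨?_, ?_⟩
    · intro hb
      apply ha1
      have h2 : a = c⁻¹ * (c * a * c⁻¹) * c := by group
      rw [h2, hb]; group
    · rw [conj_pow, ha]; group
  let T : Finset G := Finset.univ.filter (fun g : G => g ≠ 1 ∧ g ^ 144 = 1)
  have hT : ∀ g, g ∈ T ↔ (g ≠ 1 ∧ g ^ 144 = 1) := fun g => by simp [T]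
  let R : Finset G := T.image rep
  refine ⟨R, ?_⟩
  have hmem : ∀ r ∈ R, r ≠ 1 ∧ r ^ 144 = 1 := by
    intro r hr
    obtain ⟨g, hg, rfl⟩ := Finset.mem_image.mp hr
    exact hTinv g (rep g) (hrep g).symm ((hT g).mp hg)
  have hinj : ∀ r ∈ R, ∀ r' ∈ R, IsConj r r' → r = r' := by
    intro r hr r' hr' hc
    obtain ⟨g, hg, rfl⟩ := Finset.mem_image.mp hr
    obtain ⟨g', hg', rfl⟩ := Finset.mem_image.mp hr'
    exact hrep_eq g g' (((hrep g).symm.trans hc).trans (hrep g'))
  have hsurj : ∀ g : G, g ≠ 1 → g ^ 144 = 1 → ∃ r ∈ R, IsConj g r := by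
    intro g hg1 hg
    exact ⟨rep g, Finset.mem_image.mpr ⟨g, (hT g).mpr ⟨hg1, hg⟩, rfl⟩, (hrep g).symm⟩
  have hdvd := card_centralizer_dvd h
  obtain ⟨x, hx⟩ := exists_prime_orderOf_dvd_card' (G := G) 11 (by rw [h.card]; norm_num)
  obtain ⟨y, hy⟩ := exists_prime_orderOf_dvd_card' (G := G) 5 (by rw [h.card]; norm_num)
  have hxi : orderOf x⁻¹ = 11 := by rw [orderOf_inv, hx]
  have hRo : ∀ r ∈ R, orderOf r ≠ 1 ∧ orderOf r ≠ 11 ∧ orderOf r ≠ 5 := by
    intro r hr
    obtain ⟨hr1, hr144⟩ := hmem r hr
    have hd := orderOf_dvd_of_pow_eq_one hr144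
    refine ⟨fun h1 => hr1 (orderOf_eq_one_iff.mp h1), fun h1 => ?_, fun h1 => ?_⟩
    · rw [h1] at hd; omega
    · rw [h1] at hd; omega
  have hxx : x ≠ x⁻¹ := fun hxx =>
    not_isConj_inv h hx ((congrArg (IsConj x) hxx).mp (IsConj.refl x))
  -- at most 6 classes
  have hcard_le : R.card ≤ 6 := by
    let F : Finset G := insert 1 (insert x (insert x⁻¹ (insert y R)))
    have htag : ∀ a ∈ F, (a = 1 ∧ orderOf a = 1) ∨ ((a = x ∨ a = x⁻¹) ∧ orderOf a = 11) ∨
        (a = y ∧ orderOf a = 5) ∨
        (a ∈ R ∧ (orderOf a ≠ 1 ∧ orderOf a ≠ 11 ∧ orderOf a ≠ 5)) := by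
      intro a ha
      simp only [F, Finset.mem_insert] at ha
      rcases ha with rfl | rfl | rfl | rfl | ha
      · exact Or.inl ⟨rfl, orderOf_one⟩
      · exact Or.inr (Or.inl ⟨Or.inl rfl, hx⟩)
      · exact Or.inr (Or.inl ⟨Or.inr rfl, hxi⟩)
      · exact Or.inr (Or.inr (Or.inl ⟨rfl, hy⟩))
      · exact Or.inr (Or.inr (Or.inr ⟨ha, hRo a ha⟩))
    have hyR : y ∉ R := fun hyR => (hRo y hyR).2.2 hy
    have hFcard : F.card = R.card + 4 := by
      have h1 : y ∉ R := hyR
      have h2 : x⁻¹ ∉ insert y R := by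
        simp only [Finset.mem_insert, not_or]
        refine ⟨fun he => ?_, fun hr => (hRo _ hr).2.1 hxi⟩
        rw [he, hy] at hxi; omega
      have h3 : x ∉ insert x⁻¹ (insert y R) := by
        simp only [Finset.mem_insert, not_or]
        refine ⟨hxx, fun he => ?_, fun hr => (hRo _ hr).2.1 hx⟩
        rw [he, hy] at hx; omega
      have h4 : (1 : G) ∉ insert x (insert x⁻¹ (insert y R)) := by
        simp only [Finset.mem_insert, not_or]
        refine ⟨fun he => ?_, fun he => ?_, fun he => ?_, fun hr => (hRo _ hr).1 orderOf_one⟩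
        · rw [← he, orderOf_one] at hx; omega
        · rw [← he, orderOf_one] at hxi; omega
        · rw [← he, orderOf_one] at hy; omega
      rw [Finset.card_insert_of_notMem h4, Finset.card_insert_of_notMem h3,
        Finset.card_insert_of_notMem h2, Finset.card_insert_of_notMem h1]
    have hinjOn : Set.InjOn (ConjClasses.mk : G → ConjClasses G) (F : Set G) := by
      intro a ha b hb hab
      have hc : IsConj a b := ConjClasses.mk_eq_mk_iff_isConj.mp hab
      have ho := orderOf_eq_of_isConj hc
      rcases htag a ha with ⟨ha1, hao⟩ | ⟨ha1, hao⟩ | ⟨ha1, hao⟩ | ⟨ha1, hao⟩ <;>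
      rcases htag b hb with ⟨hb1, hbo⟩ | ⟨hb1, hbo⟩ | ⟨hb1, hbo⟩ | ⟨hb1, hbo⟩
      all_goals try (exfalso; omega)
      · rw [ha1, hb1]
      · rcases ha1 with rfl | rfl <;> rcases hb1 with rfl | rfl
        · rfl
        · exact absurd hc (not_isConj_inv h hx)
        · exact absurd hc.symm (not_isConj_inv h hx)
        · rfl
      · rw [ha1, hb1]
      · exact hinj a ha1 b hb1 hc
    have hle := Finset.card_le_card_of_injOn (t := (Finset.univ : Finset (ConjClasses G)))
      (ConjClasses.mk : G → ConjClasses G) (fun _ _ => Finset.mem_coe.mpr (Finset.mem_univ _))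
      hinjOn
    rw [Finset.card_univ, ← Nat.card_eq_fintype_card, h.classes, hFcard] at hle
    omega
  -- the class equation
  have hTR : T = R.biUnion (fun r => Finset.univ.filter (fun g : G => IsConj g r)) := by
    ext g
    simp only [Finset.mem_biUnion, Finset.mem_filter, Finset.mem_univ, true_and]
    constructor
    · intro hg
      obtain ⟨hg1, hg144⟩ := (hT g).mp hg
      exact hsurj g hg1 hg144
    · rintro ⟨r, hr, hc⟩
      exact (hT g).mpr (hTinv r g hc.symm (hmem r hr))
  have hdisj : ((R : Finset G) : Set G).PairwiseDisjoint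
      (fun r => Finset.univ.filter (fun g : G => IsConj g r)) := by
    intro r hr r' hr' hne
    rw [Function.onFun, Finset.disjoint_left]
    intro g hg hg'
    simp only [Finset.mem_filter, Finset.mem_univ, true_and] at hg hg'
    exact hne (hinj r hr r' hr' (hg.symm.trans hg'))
  have hTcard : T.card = ∑ r ∈ R, 55 * (144 / Nat.card (Subgroup.centralizer ({r} : Set G))) := by
    rw [hTR, Finset.card_biUnion hdisj]
    refine Finset.sum_congr rfl (fun r hr => ?_)
    have h1 := card_conj_mul_card_centralizer r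
    rw [h.card] at h1
    obtain ⟨hr1, hr144⟩ := hmem r hr
    obtain ⟨k, hk⟩ := hdvd r hr1 hr144
    have hcpos : 0 < Nat.card (Subgroup.centralizer ({r} : Set G)) := Nat.card_pos
    rw [hk, Nat.mul_div_cancel_left k hcpos]
    have h2 : (Finset.univ.filter (fun g : G => IsConj g r)).card *
        Nat.card (Subgroup.centralizer ({r} : Set G)) =
        (55 * k) * Nat.card (Subgroup.centralizer ({r} : Set G)) := by
      rw [h1]
      have : (7920 : ℕ) = 55 * 144 := by norm_num
      rw [this, hk]; ring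
    exact Nat.eq_of_mul_eq_mul_right hcpos h2
  have hpart : ∀ g : G, (1 : ℕ) = (if g = 1 then 1 else 0) + (if orderOf g = 11 then 1 else 0) +
      (if orderOf g = 5 then 1 else 0) + (if (g ≠ 1 ∧ g ^ 144 = 1) then 1 else 0) := by
    intro g
    rcases order_cases h g with rfl | h11 | h5 | hgT
    · simp
    · have hg1 : g ≠ 1 := by rintro rfl; rw [orderOf_one] at h11; omega
      have hg144 : ¬ (g ≠ 1 ∧ g ^ 144 = 1) := by
        rintro ⟨_, h144⟩
        have := orderOf_dvd_of_pow_eq_one h144
        rw [h11] at this; omega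
      rw [if_neg hg1, if_pos h11, if_neg (by rw [h11]; norm_num), if_neg hg144]
    · have hg1 : g ≠ 1 := by rintro rfl; rw [orderOf_one] at h5; omega
      have hg144 : ¬ (g ≠ 1 ∧ g ^ 144 = 1) := by
        rintro ⟨_, h144⟩
        have := orderOf_dvd_of_pow_eq_one h144
        rw [h5] at this; omega
      rw [if_neg hg1, if_neg (by rw [h5]; norm_num), if_pos h5, if_neg hg144]
    · have hd := orderOf_dvd_of_pow_eq_one hgT.2
      have h11 : orderOf g ≠ 11 := by intro h1; rw [h1] at hd; omega
      have h5 : orderOf g ≠ 5 := by intro h1; rw [h1] at hd; omega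
      rw [if_neg hgT.1, if_neg h11, if_neg h5, if_pos hgT]
  have htotal : 7920 = 1 + (Finset.univ.filter (fun g : G => orderOf g = 11)).card +
      (Finset.univ.filter (fun g : G => orderOf g = 5)).card + T.card := by
    have h1 : (Finset.univ : Finset G).card = 7920 := by
      rw [Finset.card_univ, ← Nat.card_eq_fintype_card, h.card]
    rw [← h1, Finset.card_eq_sum_ones, Finset.sum_congr rfl (fun g _ => hpart g),
      Finset.sum_add_distrib, Finset.sum_add_distrib, Finset.sum_add_distrib,
      Finset.card_filter, Finset.card_filter, Finset.card_filter]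
    congr 3
    simp
  rw [card_orderOf_eq_prime (card_sylow11 h), card_orderOf_eq_prime (card_sylow5 h),
    card_sylow11_eq h, card_sylow5_eq h, hTcard, ← Finset.mul_sum] at htotal
  exact
    { card_le := hcard_le
      mem := hmem
      inj := hinj
      surj := hsurj
      dvd := hdvd
      sum := by omega }

end m11

end Cfsg.Agent.Lib.Helper65_M11_CL
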