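import Mathlib
import Cfsg.Agent.Lib.Helper53_M11Defs
import Cfsg.Agent.Lib.Helper3_CharColumn
import Cfsg.Agent.Lib.Helper52_M11_N5S
import Cfsg.Agent.S3993

/-!
# M11 cluster, package T1 (helper80)

In a simple group of order `7920` (with the facts `M11Facts`, and class data `ClassData G R`):
all elements of order `3` are conjugate, their centralizers have order `18`, and there is no
element of order `9`.
-/

set_option autoImplicit false

namespace Cfsg.Agent.Lib.Helper80_M11_T1

open Cfsg.Agent.Lib.Helper53_M11Defs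
open scoped Classical

/-! ## arithmetic of `7920` -/

theorem fac3 : (7920 : ℕ).factorization 3 = 2 := by
  have h : (7920 : ℕ) = 3 ^ 2 * 880 := by norm_num
  rw [h, Nat.factorization_mul (by norm_num) (by norm_num),
    Nat.Prime.factorization_pow Nat.prime_three]
  simp [Nat.factorization_eq_zero_of_not_dvd (by norm_num : ¬ 3 ∣ 880)]

theorem fac2 : (7920 : ℕ).factorization 2 = 4 := by
  have h : (7920 : ℕ) = 2 ^ 4 * 495 := by norm_num
  rw [h, Nat.factorization_mul (by norm_num) (by norm_num),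
    Nat.Prime.factorization_pow Nat.prime_two]
  simp [Nat.factorization_eq_zero_of_not_dvd (by norm_num : ¬ 2 ∣ 495)]

variable {G : Type*} [Group G] [Finite G]

/-- order of the centralizer of an element -/
noncomputable def cc (g : G) : ℕ := Nat.card (Subgroup.centralizer ({g} : Set G))

theorem cc_pos (g : G) : 0 < cc g := Nat.card_pos

theorem cc_conj {g h : G} (hgh : IsConj g h) : cc g = cc h := by
  have : Fintype G := Fintype.ofFinite G
  exact Cfsg.Agent.Lib.Helper3_CharColumn.card_centralizer_eq_of_isConj hgh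

/-- the order of an element commuting with `g` divides `|C(g)|` -/
theorem orderOf_dvd_cc {g x : G} (hx : x * g = g * x) : orderOf x ∣ cc g := by
  have hmem : x ∈ Subgroup.centralizer ({g} : Set G) := by
    rw [Subgroup.mem_centralizer_singleton_iff]
    exact hx
  have h1 : Subgroup.zpowers x ≤ Subgroup.centralizer ({g} : Set G) := by
    rw [Subgroup.zpowers_le]
    exact hmem
  have h2 := Subgroup.card_dvd_of_le h1
  rwa [Nat.card_zpowers] at h2

theorem card_sylow3 (hG : Nat.card G = 7920) (Q : Sylow 3 G) : Nat.card Q = 9 := by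
  rw [Sylow.card_eq_multiplicity, hG, fac3]
  norm_num

theorem card_sylow2 (hG : Nat.card G = 7920) (Q : Sylow 2 G) : Nat.card Q = 16 := by
  rw [Sylow.card_eq_multiplicity, hG, fac2]
  norm_num

omit [Finite G] in
theorem isPGroup_zpowers {p k : ℕ} {g : G} (hg : g ^ (p ^ k) = 1) :
    IsPGroup p (Subgroup.zpowers g) := by
  rintro ⟨x, hx⟩
  obtain ⟨n, rfl⟩ := Subgroup.mem_zpowers_iff.mp hx
  refine ⟨k, ?_⟩
  apply Subtype.ext
  rw [Subgroup.coe_pow, Subgroup.coe_one]
  show (g ^ n) ^ (p ^ k) = 1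
  rw [← zpow_natCast, ← zpow_mul, mul_comm, zpow_mul, zpow_natCast, hg, one_zpow]

/-- F1 : `3`-elements have centralizer order divisible by `9` -/
theorem nine_dvd_cc (hG : Nat.card G = 7920) {g : G} (hg : g ^ 9 = 1) : 9 ∣ cc g := by
  have : Fact (Nat.Prime 3) := ⟨Nat.prime_three⟩
  have hp : IsPGroup 3 (Subgroup.zpowers g) :=
    isPGroup_zpowers (p := 3) (k := 2) (by norm_num; exact hg)
  obtain ⟨Q, hQ⟩ := hp.exists_le_sylow
  have hcard := card_sylow3 hG Q
  have hcomm := IsPGroup.commutative_of_card_eq_prime_sq (p := 3) (G := Q)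
    (by rw [hcard]; norm_num)
  have hgQ : g ∈ (Q : Subgroup G) := hQ (Subgroup.mem_zpowers g)
  have hle : (Q : Subgroup G) ≤ Subgroup.centralizer ({g} : Set G) := by
    intro x hx
    rw [Subgroup.mem_centralizer_singleton_iff]
    have h1 := hcomm ⟨x, hx⟩ ⟨g, hgQ⟩
    exact congrArg Subtype.val h1
  have h2 := Subgroup.card_dvd_of_le hle
  rw [hcard] at h2
  exact h2

/-- F2 : nonidentity `2`-elements have centralizer order divisible by `4` -/
theorem four_dvd_cc (hG : Nat.card G = 7920) {g : G} (hg1 : g ≠ 1) (hg : g ^ 16 = 1) :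
    4 ∣ cc g := by
  have : Fact (Nat.Prime 2) := ⟨Nat.prime_two⟩
  have hp : IsPGroup 2 (Subgroup.zpowers g) :=
    isPGroup_zpowers (p := 2) (k := 4) (by norm_num; exact hg)
  obtain ⟨Q, hQ⟩ := hp.exists_le_sylow
  have hcard := card_sylow2 hG Q
  have hgQ : g ∈ (Q : Subgroup G) := hQ (Subgroup.mem_zpowers g)
  set gq : (Q : Subgroup G) := ⟨g, hgQ⟩ with hgq
  set D : Subgroup (Q : Subgroup G) := Subgroup.centralizer ({gq} : Set (Q : Subgroup G)) with hD
  have hQp : IsPGroup 2 (Q : Subgroup G) := Q.isPGroup'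
  have hDp : IsPGroup 2 D := hQp.to_subgroup D
  obtain ⟨n, hn⟩ := IsPGroup.iff_card.mp hDp
  have hZD : Subgroup.center (Q : Subgroup G) ≤ D := Subgroup.center_le_centralizer _
  -- `card D ≥ 4`
  have hn2 : 2 ≤ n := by
    by_contra hcon
    have hn1 : n ≤ 1 := by omega
    have : Nontrivial (Q : Subgroup G) := by
      refine ⟨⟨gq, 1, ?_⟩⟩
      intro h
      exact hg1 (congrArg Subtype.val h)
    have hZnt : Nontrivial (Subgroup.center (Q : Subgroup G)) := hQp.center_nontrivial
    have hZcard : 2 ≤ Nat.card (Subgroup.center (Q : Subgroup G)) := by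
      have := Finite.one_lt_card_iff_nontrivial.mpr hZnt
      omega
    have hDcard : Nat.card D ≤ 2 := by
      rw [hn]
      calc 2 ^ n ≤ 2 ^ 1 := Nat.pow_le_pow_right (by norm_num) hn1
        _ = 2 := by norm_num
    have hZeq : Subgroup.center (Q : Subgroup G) = D :=
      Subgroup.eq_of_le_of_card_ge hZD (by omega)
    have hgZ : gq ∈ Subgroup.center (Q : Subgroup G) := by
      rw [hZeq, hD, Subgroup.mem_centralizer_singleton_iff]
    have hDtop : D = ⊤ := by
      rw [hD, Subgroup.centralizer_eq_top_iff_subset]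
      intro x hx
      rw [Set.mem_singleton_iff] at hx
      rw [hx]
      exact hgZ
    rw [hDtop, Subgroup.card_top, hcard] at hDcard
    omega
  have h4 : 4 ∣ Nat.card D := by
    rw [hn]
    calc 4 = 2 ^ 2 := by norm_num
      _ ∣ 2 ^ n := pow_dvd_pow 2 hn2
  -- transfer to `G`
  have hle : D.map (Q : Subgroup G).subtype ≤ Subgroup.centralizer ({g} : Set G) := by
    rintro _ ⟨x, hx, rfl⟩
    rw [Subgroup.mem_centralizer_singleton_iff]
    have hx' : x * gq = gq * x := Subgroup.mem_centralizer_singleton_iff.mp hx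
    exact congrArg Subtype.val hx'
  have h5 := Subgroup.card_dvd_of_le hle
  rw [Subgroup.card_map_of_injective (Subgroup.subtype_injective _)] at h5
  exact h4.trans h5

/-- mixed elements have centralizer order divisible by `6` -/
theorem six_dvd_cc {g : G} (hg : g ^ 144 = 1) (h16 : g ^ 16 ≠ 1) (h9 : g ^ 9 ≠ 1) : 6 ∣ cc g := by
  have ho : orderOf g ∣ 144 := orderOf_dvd_of_pow_eq_one hg
  have h2 : 2 ∣ orderOf g := by
    by_contra hcon
    apply h9
    have hcop : (orderOf g).Coprime 16 := by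
      have : (orderOf g).Coprime 2 := (Nat.Prime.coprime_iff_not_dvd Nat.prime_two).mpr hcon |>.symm
      exact Nat.Coprime.pow_right 4 this
    have h3 : orderOf g ∣ 16 * 9 := by norm_num; exact ho
    exact orderOf_dvd_iff_pow_eq_one.mp (hcop.dvd_of_dvd_mul_left h3)
  have h3 : 3 ∣ orderOf g := by
    by_contra hcon
    apply h16
    have hcop : (orderOf g).Coprime 9 := by
      have : (orderOf g).Coprime 3 :=
        (Nat.Prime.coprime_iff_not_dvd Nat.prime_three).mpr hcon |>.symm
      exact Nat.Coprime.pow_right 2 this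
    have h3 : orderOf g ∣ 16 * 9 := by norm_num; exact ho
    exact orderOf_dvd_iff_pow_eq_one.mp (hcop.dvd_of_dvd_mul_right h3)
  have h6 : 6 ∣ orderOf g :=
    Nat.Coprime.mul_dvd_of_dvd_of_dvd (by norm_num : Nat.Coprime 2 3) h2 h3
  exact h6.trans (orderOf_dvd_cc rfl)

/-- a nonidentity `3`-element commuting with `t` forces `3 ∣ |C(t)|` -/
theorem three_dvd_cc {t y : G} (hy1 : y ≠ 1) (hy9 : y ^ 9 = 1) (hc : y * t = t * y) :
    3 ∣ cc t := by
  have ho : orderOf y ∣ 3 ^ 2 := by
    have := orderOf_dvd_of_pow_eq_one hy9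
    norm_num
    exact this
  obtain ⟨j, _, hj⟩ := (Nat.dvd_prime_pow Nat.prime_three).mp ho
  have hj0 : j ≠ 0 := by
    intro h0
    rw [h0, pow_zero] at hj
    exact hy1 (orderOf_eq_one_iff.mp hj)
  have h3 : 3 ∣ orderOf y := by
    rw [hj]
    exact dvd_pow_self 3 hj0
  exact h3.trans (orderOf_dvd_cc hc)

/-- if some `3`-element has centralizer of order `144`, every `2`-element commutes with a
nonidentity `3`-element -/
theorem three_dvd_cc_of_big (hG : Nat.card G = 7920) {y : G} (hy1 : y ≠ 1) (hy9 : y ^ 9 = 1)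
    (hcy : cc y = 144) {t : G} (ht : t ^ 16 = 1) : 3 ∣ cc t := by
  have : Fact (Nat.Prime 2) := ⟨Nat.prime_two⟩
  have hcardH : Nat.card (Subgroup.centralizer ({y} : Set G)) = 144 := hcy
  obtain ⟨K, hK⟩ := Sylow.exists_subgroup_card_pow_prime 2 (n := 4)
    (G := Subgroup.centralizer ({y} : Set G)) (by rw [hcardH]; norm_num)
  set K' : Subgroup G := K.map (Subgroup.centralizer ({y} : Set G)).subtype with hK'
  have hK'card : Nat.card K' = 2 ^ 4 := by
    rw [hK', Subgroup.card_map_of_injective (Subgroup.subtype_injective _), hK]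
  have hK'p : IsPGroup 2 K' := IsPGroup.of_card hK'card
  obtain ⟨Q', hQ'⟩ := hK'p.exists_le_sylow
  have hQ'card := card_sylow2 hG Q'
  have hKQ : K' = (Q' : Subgroup G) :=
    Subgroup.eq_of_le_of_card_ge hQ' (by rw [hQ'card, hK'card]; norm_num)
  have hp : IsPGroup 2 (Subgroup.zpowers t) :=
    isPGroup_zpowers (p := 2) (k := 4) (by norm_num; exact ht)
  obtain ⟨Q, hQ⟩ := hp.exists_le_sylow
  obtain ⟨g, hg⟩ := MulAction.exists_smul_eq G Q' Q
  have htQ : t ∈ (Q : Subgroup G) := hQ (Subgroup.mem_zpowers t)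
  rw [← hg, Sylow.coe_subgroup_smul, Subgroup.mem_pointwise_smul_iff_inv_smul_mem] at htQ
  have htK : g⁻¹ * t * g ∈ K' := by
    rw [hKQ]
    have h1 : (MulAut.conj g)⁻¹ • t = g⁻¹ * t * g := by
      rw [MulAut.smul_def, MulAut.conj_inv_apply]
    rw [← h1]
    exact htQ
  obtain ⟨k, _, hk⟩ := htK
  have hcomm : (g⁻¹ * t * g) * y = y * (g⁻¹ * t * g) := by
    have h2 := k.2
    rw [Subgroup.mem_centralizer_singleton_iff] at h2
    rw [← hk]
    exact h2
  have hc : (g * y * g⁻¹) * t = t * (g * y * g⁻¹) := by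
    have h3 : (g * y * g⁻¹) * t = g * (y * (g⁻¹ * t * g)) * g⁻¹ := by group
    have h4 : t * (g * y * g⁻¹) = g * ((g⁻¹ * t * g) * y) * g⁻¹ := by group
    rw [h3, h4, hcomm]
  have hy1' : g * y * g⁻¹ ≠ 1 := by
    intro h
    apply hy1
    have : y = g⁻¹ * (g * y * g⁻¹) * g := by group
    rw [this, h]
    group
  have hy9' : (g * y * g⁻¹) ^ 9 = 1 := by
    rw [conj_pow, hy9]
    group
  exact three_dvd_cc hy1' hy9' hc

/-! ## counting -/

theorem pow_eq_one_of_isConj {g r : G} (hgr : IsConj g r) {n : ℕ} (h : g ^ n = 1) :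
    r ^ n = 1 := by
  obtain ⟨c, hc⟩ := isConj_iff.mp hgr
  rw [← hc, conj_pow, h]
  group

theorem ne_one_of_isConj {g r : G} (hgr : IsConj g r) (h : g ≠ 1) : r ≠ 1 := by
  intro hr
  apply h
  rw [hr] at hgr
  exact isConj_one_left.mp hgr

/-- Frobenius count for the solutions of `g ^ n = 1`, `n ∣ 144` -/
theorem frob_count (h : M11Facts G) (R : Finset G) (hR : ClassData G R) (n : ℕ)
    (hn : n ∣ 144) (hn' : n ∣ 7920) :
    n ∣ 1 + 55 * ∑ r ∈ R.filter (fun r => r ^ n = 1), 144 / cc r := by
  have : Fintype G := Fintype.ofFinite G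
  have h1 := Cfsg.Agent.S3993.result (G := G) n (by rw [h.card]; exact hn')
  have h2 : Nat.card {g : G // g ^ n = 1} =
      1 + 55 * ∑ r ∈ R.filter (fun r => r ^ n = 1), 144 / cc r := by
    rw [Nat.card_eq_fintype_card, Fintype.card_subtype]
    have hset : (Finset.univ.filter (fun g : G => g ^ n = 1)) =
        insert 1 ((R.filter (fun r => r ^ n = 1)).biUnion
          (fun r => Cfsg.Agent.Lib.Helper3_CharColumn.conjFinset r)) := by
      ext g
      simp only [Finset.mem_filter, Finset.mem_univ, true_and, Finset.mem_insert,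
        Finset.mem_biUnion, Cfsg.Agent.Lib.Helper3_CharColumn.mem_conjFinset]
      constructor
      · intro hg
        by_cases hg1 : g = 1
        · exact Or.inl hg1
        · right
          have hg144 : g ^ 144 = 1 := by
            obtain ⟨k, hk⟩ := hn
            rw [hk, pow_mul, hg, one_pow]
          obtain ⟨r, hrR, hgr⟩ := hR.surj g hg1 hg144
          exact ⟨r, ⟨hrR, pow_eq_one_of_isConj hgr hg⟩, hgr⟩
      · rintro (rfl | ⟨r, ⟨_, hr⟩, hgr⟩)
        · exact one_pow n
        · exact pow_eq_one_of_isConj hgr.symm hr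
    rw [hset, Finset.card_insert_of_notMem, Finset.card_biUnion, add_comm, Finset.mul_sum]
    · congr 1
      apply Finset.sum_congr rfl
      intro r hr
      have hrR := (Finset.mem_filter.mp hr).1
      have h3 := Cfsg.Agent.Lib.Helper3_CharColumn.card_conjFinset_mul_card_centralizer r
      rw [h.card] at h3
      have h4 : cc r ∣ 144 := hR.dvd r (hR.mem r hrR).1 (hR.mem r hrR).2
      obtain ⟨v, hv⟩ := h4
      have hcpos := cc_pos r
      have h5 : 144 / cc r = v := by
        rw [hv]
        exact Nat.mul_div_cancel_left v hcpos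
      rw [h5]
      have h6 : (Cfsg.Agent.Lib.Helper3_CharColumn.conjFinset r).card * cc r = 55 * v * cc r := by
        show _ * Nat.card _ = _
        rw [h3]
        show 7920 = 55 * v * cc r
        nlinarith
      exact Nat.eq_of_mul_eq_mul_right hcpos h6
    · intro r hr r' hr' hne
      rw [Function.onFun, Finset.disjoint_left]
      intro g hg hg'
      rw [Cfsg.Agent.Lib.Helper3_CharColumn.mem_conjFinset] at hg hg'
      apply hne
      exact hR.inj r (Finset.mem_filter.mp hr).1 r' (Finset.mem_filter.mp hr').1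
        (hg.symm.trans hg')
    · intro hmem
      rw [Finset.mem_biUnion] at hmem
      obtain ⟨r, hr, h1r⟩ := hmem
      rw [Cfsg.Agent.Lib.Helper3_CharColumn.mem_conjFinset] at h1r
      exact (hR.mem r (Finset.mem_filter.mp hr).1).1 (isConj_one_right.mp h1r)
  rwa [h2] at h1

/-- the three kinds of representatives -/
theorem sum_split3 (R : Finset G) (hne : ∀ r ∈ R, r ≠ 1) (f : G → ℕ) :
    ∑ r ∈ R, f r = ∑ r ∈ R.filter (fun r => r ^ 16 = 1), f r +
      ∑ r ∈ R.filter (fun r => r ^ 9 = 1), f r +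
      ∑ r ∈ R.filter (fun r => ¬ r ^ 16 = 1 ∧ ¬ r ^ 9 = 1), f r := by
  rw [← Finset.sum_filter_add_sum_filter_not R (fun r => r ^ 16 = 1) f, add_assoc]
  congr 1
  rw [← Finset.sum_filter_add_sum_filter_not (R.filter (fun r => ¬ r ^ 16 = 1))
    (fun r => r ^ 9 = 1) f, Finset.filter_filter, Finset.filter_filter]
  congr 1
  apply Finset.sum_congr _ (fun _ _ => rfl)
  apply Finset.filter_congr
  intro r hr
  constructor
  · exact fun h => h.2
  · intro h9
    refine ⟨?_, h9⟩
    intro h16
    apply hne r hr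
    have h1 : orderOf r ∣ Nat.gcd 16 9 :=
      Nat.dvd_gcd (orderOf_dvd_of_pow_eq_one h16) (orderOf_dvd_of_pow_eq_one h9)
    have h2 : Nat.gcd 16 9 = 1 := by norm_num
    rw [h2, Nat.dvd_one] at h1
    exact orderOf_eq_one_iff.mp h1

theorem eq_one_of_pow7_pow9 {r : G} (h7 : r ^ 7 = 1) (h9 : r ^ 9 = 1) : r = 1 := by
  have h1 : orderOf r ∣ Nat.gcd 7 9 :=
    Nat.dvd_gcd (orderOf_dvd_of_pow_eq_one h7) (orderOf_dvd_of_pow_eq_one h9)
  have h2 : Nat.gcd 7 9 = 1 := by norm_num
  rw [h2, Nat.dvd_one] at h1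
  exact orderOf_eq_one_iff.mp h1

/-- the core of T1, given an element of order `4` -/
theorem T1_core (h : M11Facts G) (R : Finset G) (hR : ClassData G R)
    (h4 : ∃ u : G, orderOf u = 4) :
    (∀ y y' : G, orderOf y = 3 → orderOf y' = 3 → IsConj y y') ∧
    (∀ y : G, orderOf y = 3 → Nat.card (Subgroup.centralizer ({y} : Set G)) = 18) ∧
    (∀ g : G, orderOf g ≠ 9) := by
  have hG := h.card
  set R2 := R.filter (fun r => r ^ 16 = 1) with hR2
  set R3 := R.filter (fun r => r ^ 9 = 1) with hR3
  set Rm := R.filter (fun r => ¬ r ^ 16 = 1 ∧ ¬ r ^ 9 = 1) with hRm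
  set v : G → ℕ := fun r => 144 / cc r with hv
  have hne : ∀ r ∈ R, r ≠ 1 := fun r hr => (hR.mem r hr).1
  have hcv : ∀ r ∈ R, cc r * v r = 144 :=
    fun r hr => Nat.mul_div_cancel' (hR.dvd r (hR.mem r hr).1 (hR.mem r hr).2)
  have hsum : ∑ r ∈ R2, v r + ∑ r ∈ R3, v r + ∑ r ∈ Rm, v r = 89 := by
    rw [← sum_split3 R hne v]
    exact hR.sum
  have hcard : R2.card + R3.card + Rm.card ≤ 6 := by
    have h1 := sum_split3 R hne (fun _ => 1)
    simp only [Finset.sum_const, smul_eq_mul, mul_one] at h1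
    rw [← h1]
    exact hR.card_le
  have hF3 : (∑ r ∈ R3, v r) % 9 = 8 := by
    have h1 : 9 ∣ 1 + 55 * ∑ r ∈ R3, v r := frob_count h R hR 9 (by norm_num) (by norm_num)
    omega
  have hF4 : (∑ r ∈ R2, v r) % 16 = 9 := by
    have h1 : 16 ∣ 1 + 55 * ∑ r ∈ R2, v r := frob_count h R hR 16 (by norm_num) (by norm_num)
    omega
  -- values
  have hv3 : ∀ r ∈ R3, v r = 1 ∨ v r = 2 ∨ v r = 4 ∨ v r = 8 ∨ v r = 16 := by
    intro r hr
    have hrR := (Finset.mem_filter.mp hr).1
    obtain ⟨k, hk⟩ := nine_dvd_cc hG (Finset.mem_filter.mp hr).2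
    have h1 := hcv r hrR
    rw [hk] at h1
    have h2 : k * v r = 16 := by nlinarith
    have h3 : v r ≤ 16 := Nat.le_of_dvd (by norm_num) ⟨k, by rw [← h2, mul_comm]⟩
    generalize v r = x at h2 h3
    interval_cases x <;> omega
  have hv2 : ∀ r ∈ R2, v r = 1 ∨ v r = 2 ∨ v r = 3 ∨ v r = 4 ∨ v r = 6 ∨ v r = 9 ∨ v r = 12 ∨
      v r = 18 ∨ v r = 36 := by
    intro r hr
    have hrR := (Finset.mem_filter.mp hr).1
    obtain ⟨k, hk⟩ := four_dvd_cc hG (hne r hrR) (Finset.mem_filter.mp hr).2
    have h1 := hcv r hrR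
    rw [hk] at h1
    have h2 : k * v r = 36 := by nlinarith
    have h3 : v r ≤ 36 := Nat.le_of_dvd (by norm_num) ⟨k, by rw [← h2, mul_comm]⟩
    generalize v r = x at h2 h3
    interval_cases x <;> omega
  have hvm : ∀ r ∈ Rm, v r ≤ 24 := by
    intro r hr
    have hrR := (Finset.mem_filter.mp hr).1
    have hr2 := (Finset.mem_filter.mp hr).2
    obtain ⟨k, hk⟩ := six_dvd_cc (hR.mem r hrR).2 hr2.1 hr2.2
    have h1 := hcv r hrR
    rw [hk] at h1
    have h2 : k * v r = 24 := by nlinarith
    exact Nat.le_of_dvd (by norm_num) ⟨k, by rw [← h2, mul_comm]⟩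
  -- representatives
  have hrep : ∀ g : G, g ≠ 1 → g ^ 144 = 1 → ∃ r ∈ R, IsConj g r := hR.surj
  -- F5
  have hF5 : 2 ≤ R2.card := by
    have : Fact (Nat.Prime 2) := ⟨Nat.prime_two⟩
    obtain ⟨t, ht⟩ := exists_prime_orderOf_dvd_card' (G := G) 2 (by rw [hG]; norm_num)
    obtain ⟨u, hu⟩ := h4
    have ht1 : t ≠ 1 := by
      intro h1
      rw [h1, orderOf_one] at ht
      omega
    have hu1 : u ≠ 1 := by
      intro h1
      rw [h1, orderOf_one] at hu
      omega
    have ht2 : t ^ 2 = 1 := by rw [← ht]; exact pow_orderOf_eq_one t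
    have hu4 : u ^ 4 = 1 := by rw [← hu]; exact pow_orderOf_eq_one u
    have ht16 : t ^ 16 = 1 := by
      rw [show 16 = 2 * 8 by norm_num, pow_mul, ht2, one_pow]
    have hu16 : u ^ 16 = 1 := by
      rw [show 16 = 4 * 4 by norm_num, pow_mul, hu4, one_pow]
    have ht144 : t ^ 144 = 1 := by
      rw [show 144 = 2 * 72 by norm_num, pow_mul, ht2, one_pow]
    have hu144 : u ^ 144 = 1 := by
      rw [show 144 = 4 * 36 by norm_num, pow_mul, hu4, one_pow]
    obtain ⟨rt, hrt, hct⟩ := hrep t ht1 ht144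
    obtain ⟨ru, hru, hcu⟩ := hrep u hu1 hu144
    have hrt2 : rt ∈ R2 := Finset.mem_filter.mpr ⟨hrt, pow_eq_one_of_isConj hct ht16⟩
    have hru2 : ru ∈ R2 := Finset.mem_filter.mpr ⟨hru, pow_eq_one_of_isConj hcu hu16⟩
    have hneq : rt ≠ ru := by
      intro heq
      have h1 : IsConj t u := hct.trans (heq ▸ hcu.symm)
      have h2 : u ^ 2 = 1 := pow_eq_one_of_isConj h1 ht2
      have h3 := orderOf_dvd_of_pow_eq_one h2
      rw [hu] at h3
      omega
    exact Finset.one_lt_card.mpr ⟨rt, hrt2, ru, hru2, hneq⟩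
  -- F6 and the element of order `3`
  have : Fact (Nat.Prime 3) := ⟨Nat.prime_three⟩
  obtain ⟨y0, hy0⟩ := exists_prime_orderOf_dvd_card' (G := G) 3 (by rw [hG]; norm_num)
  have hy01 : y0 ≠ 1 := by
    intro h1
    rw [h1, orderOf_one] at hy0
    omega
  have hy03 : y0 ^ 3 = 1 := by rw [← hy0]; exact pow_orderOf_eq_one y0
  have h3to9 : ∀ g : G, g ^ 3 = 1 → g ^ 9 = 1 := by
    intro g hg
    rw [show 9 = 3 * 3 by norm_num, pow_mul, hg, one_pow]
  have h9to144 : ∀ g : G, g ^ 9 = 1 → g ^ 144 = 1 := by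
    intro g hg
    rw [show 144 = 9 * 16 by norm_num, pow_mul, hg, one_pow]
  -- every nonidentity `3`-element is conjugate to a member of `R3`
  have hrep3 : ∀ g : G, g ≠ 1 → g ^ 9 = 1 → ∃ r ∈ R3, IsConj g r := by
    intro g hg1 hg9
    obtain ⟨r, hr, hc⟩ := hrep g hg1 (h9to144 g hg9)
    exact ⟨r, Finset.mem_filter.mpr ⟨hr, pow_eq_one_of_isConj hc hg9⟩, hc⟩
  -- F7
  have hF7 : (R3.filter (fun r => v r ≠ 16)).card ≤ Rm.card := by
    apply Finset.card_le_card_of_forall_subsingleton
      (fun r m => ∃ w : G, w ^ 2 = 1 ∧ w * r = r * w ∧ IsConj (r * w) m)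
    · intro r hr
      have hr3 := (Finset.mem_filter.mp hr).1
      have hv16 := (Finset.mem_filter.mp hr).2
      have hrR := (Finset.mem_filter.mp hr3).1
      have hr9 := (Finset.mem_filter.mp hr3).2
      have hr1 := hne r hrR
      -- `|C(r)|` is even
      have heven : 2 ∣ Nat.card (Subgroup.centralizer ({r} : Set G)) := by
        obtain ⟨k, hk⟩ := nine_dvd_cc hG hr9
        have h1 := hcv r hrR
        rw [hk] at h1
        have h2 : k * v r = 16 := by nlinarith
        have h3 : v r ≤ 16 := Nat.le_of_dvd (by norm_num) ⟨k, by rw [← h2, mul_comm]⟩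
        have h5 : 2 ∣ k := by
          generalize v r = x at h2 h3 hv16
          interval_cases x <;> omega
        show 2 ∣ cc r
        rw [hk]
        exact Dvd.dvd.mul_left h5 9
      have : Fact (Nat.Prime 2) := ⟨Nat.prime_two⟩
      obtain ⟨w, hw⟩ := exists_prime_orderOf_dvd_card' 2 heven
      have hwr : (w : G) * r = r * (w : G) := Subgroup.mem_centralizer_singleton_iff.mp w.2
      have hw2 : (w : G) ^ 2 = 1 := by
        have h1 := pow_orderOf_eq_one w
        rw [hw] at h1
        have h2 := congrArg Subtype.val h1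
        rwa [Subgroup.coe_pow, Subgroup.coe_one] at h2
      have hw1 : (w : G) ≠ 1 := by
        intro h1
        have h2 : w = 1 := Subtype.ext h1
        rw [h2, orderOf_one] at hw
        omega
      have hcomm : Commute r (w : G) := hwr.symm
      have hx9 : (r * (w : G)) ^ 9 = (w : G) := by
        rw [hcomm.mul_pow, hr9, one_mul, show 9 = 2 * 4 + 1 by norm_num, pow_succ, pow_mul, hw2,
          one_pow, one_mul]
      have hx16 : (r * (w : G)) ^ 16 = r ^ 7 := by
        rw [hcomm.mul_pow, show (w : G) ^ 16 = 1 by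
          rw [show 16 = 2 * 8 by norm_num, pow_mul, hw2, one_pow], mul_one,
          show 16 = 9 + 7 by norm_num, pow_add, hr9, one_mul]
      have hx144 : (r * (w : G)) ^ 144 = 1 := by
        rw [show 144 = 9 * 16 by norm_num, pow_mul, hx9, show 16 = 2 * 8 by norm_num, pow_mul,
          hw2, one_pow]
      have hx9ne : (r * (w : G)) ^ 9 ≠ 1 := by rw [hx9]; exact hw1
      have hx16ne : (r * (w : G)) ^ 16 ≠ 1 := by
        rw [hx16]
        intro h7
        exact hr1 (eq_one_of_pow7_pow9 h7 hr9)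
      have hx1 : r * (w : G) ≠ 1 := by
        intro h1
        apply hx9ne
        rw [h1, one_pow]
      obtain ⟨m, hm, hc⟩ := hrep _ hx1 hx144
      refine ⟨m, Finset.mem_filter.mpr ⟨hm, ?_, ?_⟩, (w : G), hw2, hwr, hc⟩
      · intro hm16
        exact hx16ne (pow_eq_one_of_isConj hc.symm hm16)
      · intro hm9
        exact hx9ne (pow_eq_one_of_isConj hc.symm hm9)
    · intro m _ r hr r' hr'
      obtain ⟨hrE, w, hw2, hwr, hc⟩ := hr
      obtain ⟨hrE', w', hw2', hwr', hc'⟩ := hr'
      have hr3 := (Finset.mem_filter.mp (Finset.mem_coe.mp hrE)).1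
      have hr3' := (Finset.mem_filter.mp (Finset.mem_coe.mp hrE')).1
      have hr9 := (Finset.mem_filter.mp hr3).2
      have hr9' := (Finset.mem_filter.mp hr3').2
      have hpow : ∀ (a b : G), a ^ 9 = 1 → b ^ 2 = 1 → b * a = a * b → (a * b) ^ 10 = a := by
        intro a b ha hb hab
        have hcomm : Commute a b := hab.symm
        rw [hcomm.mul_pow, show 10 = 9 + 1 by norm_num, pow_succ a 9, ha, one_mul,
          show 9 + 1 = 2 * 5 by norm_num, pow_mul, hb, one_pow, mul_one]
      have h1 : IsConj (r * w) (r' * w') := hc.trans hc'.symm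
      obtain ⟨c, hc1⟩ := isConj_iff.mp h1
      have h2 : IsConj r r' := by
        rw [isConj_iff]
        refine ⟨c, ?_⟩
        have h3 := congrArg (fun x => x ^ 10) hc1
        simp only [conj_pow] at h3
        rw [hpow r w hr9 hw2 hwr, hpow r' w' hr9' hw2' hwr'] at h3
        exact h3
      exact hR.inj r (Finset.mem_filter.mp hr3).1 r' (Finset.mem_filter.mp hr3').1 h2
  -- F6
  have hF6 : 1 ≤ R3.card := by
    obtain ⟨r, hr, _⟩ := hrep3 y0 hy01 (h3to9 y0 hy03)
    exact Finset.card_pos.mpr ⟨r, hr⟩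
  -- the numerics
  have hkey : ∃ e, R3 = {e} ∧ v e = 8 := by
    set E := R3.filter (fun r => v r ≠ 16) with hE
    set E' := R3.filter (fun r => ¬ v r ≠ 16) with hE'
    have hc3 : R3.card = E.card + E'.card := by
      rw [hE, hE', Finset.card_filter_add_card_filter_not]
    have hs3 : ∑ r ∈ R3, v r = ∑ r ∈ E, v r + 16 * E'.card := by
      rw [← Finset.sum_filter_add_sum_filter_not R3 (fun r => v r ≠ 16) v]
      congr 1
      rw [← hE', mul_comm, ← smul_eq_mul, ← Finset.sum_const]
      apply Finset.sum_congr rfl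
      intro r hr
      have := (Finset.mem_filter.mp hr).2
      push Not at this
      exact this
    have hvE : ∀ r ∈ E, v r = 1 ∨ v r = 2 ∨ v r = 4 ∨ v r = 8 := by
      intro r hr
      have h1 := hv3 r (Finset.mem_filter.mp hr).1
      have h2 := (Finset.mem_filter.mp hr).2
      omega
    have hE01 : E.card = 0 ∨ E.card = 1 ∨ E.card = 2 := by omega
    rcases hE01 with h0 | h1 | h2
    · -- no even centralizer
      exfalso
      rw [Finset.card_eq_zero] at h0
      rw [h0, Finset.sum_empty] at hs3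
      rw [h0, Finset.card_empty] at hc3 hF7
      omega
    · obtain ⟨e, he⟩ := Finset.card_eq_one.mp h1
      have hve := hvE e (by rw [he]; exact Finset.mem_singleton_self e)
      rw [he, Finset.sum_singleton] at hs3
      have hE'2 : E'.card ≤ 2 := by omega
      have hcases : (v e = 8 ∧ E'.card = 0) ∨ (v e = 1 ∧ E'.card = 1) := by omega
      rcases hcases with ⟨hve8, hE'0⟩ | ⟨hve1, hE'1⟩
      · -- case (A)
        refine ⟨e, ?_, hve8⟩
        have h5 : E' = ∅ := Finset.card_eq_zero.mp hE'0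
        have h6 : R3 = E := by
          rw [← Finset.filter_union_filter_not_eq (fun r => v r ≠ 16) R3, ← hE, ← hE', h5,
            Finset.union_empty]
        rw [h6, he]
      · -- case (B)
        exfalso
        have heE : e ∈ E := by rw [he]; exact Finset.mem_singleton_self e
        have he3 := (Finset.mem_filter.mp heE).1
        have heR := (Finset.mem_filter.mp he3).1
        have he9 := (Finset.mem_filter.mp he3).2
        have hce : cc e = 144 := by
          have := hcv e heR
          rw [hve1, mul_one] at this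
          exact this
        have hv2' : ∀ r ∈ R2, v r ≤ 12 := by
          intro r hr
          have hrR := (Finset.mem_filter.mp hr).1
          have hr16 := (Finset.mem_filter.mp hr).2
          have h3 := three_dvd_cc_of_big hG (hne e heR) he9 hce hr16
          have h4 := four_dvd_cc hG (hne r hrR) hr16
          have h12 : 12 ∣ cc r :=
            Nat.Coprime.mul_dvd_of_dvd_of_dvd (by norm_num : Nat.Coprime 3 4) h3 h4
          obtain ⟨k, hk⟩ := h12
          have h5 := hcv r hrR
          rw [hk] at h5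
          have h6 : k * v r = 12 := by nlinarith
          exact Nat.le_of_dvd (by norm_num) ⟨k, by rw [← h6, mul_comm]⟩
        have ha : ∑ r ∈ R2, v r ≤ R2.card * 12 := by
          have := Finset.sum_le_card_nsmul R2 v 12 hv2'
          simpa using this
        have hc : ∑ r ∈ Rm, v r ≤ Rm.card * 24 := by
          have := Finset.sum_le_card_nsmul Rm v 24 hvm
          simpa using this
        omega
    · -- case (C)
      exfalso
      obtain ⟨e1, e2, hne12, he⟩ := Finset.card_eq_two.mp h2
      have hve1 := hvE e1 (by rw [he]; simp)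
      have hve2 := hvE e2 (by rw [he]; simp)
      rw [he, Finset.sum_pair hne12] at hs3
      have hE'0 : E'.card = 0 := by omega
      have hRm2 : Rm.card = 2 := by omega
      have hR22 : R2.card = 2 := by omega
      obtain ⟨z1, z2, hz12, hz⟩ := Finset.card_eq_two.mp hR22
      have hvz1 := hv2 z1 (by rw [hz]; simp)
      have hvz2 := hv2 z2 (by rw [hz]; simp)
      have hc : ∑ r ∈ Rm, v r ≤ Rm.card * 24 := by
        have := Finset.sum_le_card_nsmul Rm v 24 hvm
        simpa using this
      rw [hz, Finset.sum_pair hz12] at hsum hF4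
      have h44 : v e1 + v e2 = 8 := by omega
      rcases hvz1 with h | h | h | h | h | h | h | h | h <;>
        rcases hvz2 with h' | h' | h' | h' | h' | h' | h' | h' | h' <;> omega
  obtain ⟨e, hR3e, hve⟩ := hkey
  have heR3 : e ∈ R3 := by rw [hR3e]; exact Finset.mem_singleton_self e
  have heR := (Finset.mem_filter.mp heR3).1
  have hce : cc e = 18 := by
    have := hcv e heR
    rw [hve] at this
    omega
  have hconj : ∀ g : G, g ≠ 1 → g ^ 9 = 1 → IsConj g e := by
    intro g hg1 hg9
    obtain ⟨r, hr, hc⟩ := hrep3 g hg1 hg9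
    rw [hR3e, Finset.mem_singleton] at hr
    rw [hr] at hc
    exact hc
  have hord : ∀ y : G, orderOf y = 3 → y ≠ 1 ∧ y ^ 9 = 1 := by
    intro y hy
    constructor
    · intro h1
      rw [h1, orderOf_one] at hy
      omega
    · apply h3to9
      rw [← hy]
      exact pow_orderOf_eq_one y
  refine ⟨?_, ?_, ?_⟩
  · intro y y' hy hy'
    exact (hconj y (hord y hy).1 (hord y hy).2).trans (hconj y' (hord y' hy').1 (hord y' hy').2).symm
  · intro y hy
    have h1 := cc_conj (hconj y (hord y hy).1 (hord y hy).2)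
    show cc y = 18
    rw [h1, hce]
  · intro g hg
    have hg1 : g ≠ 1 := by
      intro h1
      rw [h1, orderOf_one] at hg
      omega
    have hg9 : g ^ 9 = 1 := by rw [← hg]; exact pow_orderOf_eq_one g
    have h1 : IsConj y0 g := (hconj y0 hy01 (h3to9 y0 hy03)).trans (hconj g hg1 hg9).symm
    have h2 : g ^ 3 = 1 := pow_eq_one_of_isConj h1 hy03
    have h3 := orderOf_dvd_of_pow_eq_one h2
    rw [hg] at h3
    omega

/-- **M11-T1** : one class of elements of order `3`, with centralizer of order `18`; no elements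
of order `9`. -/
theorem T1 (h : M11Facts G) (R : Finset G) (hR : ClassData G R) :
    (∀ y y' : G, orderOf y = 3 → orderOf y' = 3 → IsConj y y') ∧
    (∀ y : G, orderOf y = 3 → Nat.card (Subgroup.centralizer ({y} : Set G)) = 18) ∧
    (∀ g : G, orderOf g ≠ 9) := by
  have : Fact (Nat.Prime 5) := ⟨by norm_num⟩
  obtain ⟨u, hu, _⟩ := Cfsg.Agent.Lib.Helper52_M11_N5S.N5S h (default : Sylow 5 G)
  exact T1_core h R hR ⟨u, hu⟩

end Cfsg.Agent.Lib.Helper80_M11_T1
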