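import Mathlib

set_option autoImplicit false

/-!
M11-AR (helper89, for helper53): the arithmetic of the character degrees of a simple group of order 7920.
-/

namespace Cfsg.Agent.Lib.Helper89_M11_AR

/-! ### numeric lemmas -/

theorem val11 (n : ℕ) (h : n ∣ 7920) (h11 : ¬ 11 ∣ n) (hle : n ≤ 88) (s : ℤ)
    (hs : s = 1 ∨ s = -1) (hc : (n : ℤ) ≡ s [ZMOD 11]) :
    (n = 1 ∧ s = 1) ∨ (n = 10 ∧ s = -1) ∨ (n = 12 ∧ s = 1) ∨ (n = 45 ∧ s = 1) := by
  unfold Int.ModEq at hc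
  interval_cases n <;> rcases hs with rfl | rfl <;> omega

theorem valB (n : ℕ) (h : n ∣ 7920) (h11 : 11 ∣ n) (hle : n ≤ 88) :
    n = 11 ∨ n = 22 ∨ n = 33 ∨ n = 44 ∨ n = 55 ∨ n = 66 ∨ n = 88 := by
  interval_cases n <;> omega

theorem search11 (a10 a12 a45 D K : ℕ) (ε : ℤ) (hsum : a10 + a12 + a45 = 4)
    (hε : ε = 1 ∨ ε = -1) (hrel : ε * (D : ℤ) = 1 - 10 * (a10 : ℤ) + 12 * a12 + 45 * a45)
    (hD : D ∣ 7920) (hD11 : ¬ 11 ∣ D)
    (hsq : 1 + 100 * a10 + 144 * a12 + 2025 * a45 + 2 * D ^ 2 + 121 * K = 7920) :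
    (a10 = 3 ∧ a12 = 0 ∧ a45 = 1 ∧ D = 16) ∨ (a10 = 2 ∧ a12 = 2 ∧ a45 = 0 ∧ D = 5) := by
  have hDle : D ≤ 62 := by nlinarith
  have h1 : a10 ≤ 4 := by omega
  have h2 : a12 ≤ 4 := by omega
  have h3 : a45 = 4 - a10 - a12 := by omega
  subst h3
  interval_cases D <;> interval_cases a10 <;> interval_cases a12 <;>
    rcases hε with rfl | rfl <;> omega

section fiber

variable {ι : Type*}

/-- the number of members of `T` with value `v` -/
def cnt (d : ι → ℕ) (T : Finset ι) (v : ℕ) : ℕ := (T.filter (fun i => d i = v)).card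

theorem sum_values {M : Type*} [AddCommMonoid M] (d : ι → ℕ) (T : Finset ι) (V : Finset ℕ)
    (hV : ∀ i ∈ T, d i ∈ V) (g : ℕ → M) :
    ∑ i ∈ T, g (d i) = ∑ v ∈ V, cnt d T v • g v := by
  rw [← Finset.sum_fiberwise_of_maps_to hV]
  apply Finset.sum_congr rfl
  intro v _
  rw [Finset.sum_congr rfl (fun i hi => by rw [(Finset.mem_filter.1 hi).2]), Finset.sum_const]
  rfl

theorem card_values (d : ι → ℕ) (T : Finset ι) (V : Finset ℕ) (hV : ∀ i ∈ T, d i ∈ V) :
    T.card = ∑ v ∈ V, cnt d T v :=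
  Finset.card_eq_sum_card_fiberwise hV

theorem cnt_eq_zero (d : ι → ℕ) (T : Finset ι) (V : Finset ℕ) (hV : ∀ i ∈ T, d i ∈ V) (n : ℕ)
    (hn : n ∉ V) : cnt d T n = 0 := by
  unfold cnt
  rw [Finset.card_eq_zero, Finset.filter_eq_empty_iff]
  intro i hi h
  exact hn (h ▸ hV i hi)

theorem card_filter_values (d : ι → ℕ) (T : Finset ι) (V : Finset ℕ) (hV : ∀ i ∈ T, d i ∈ V)
    (P : ℕ → Prop) [DecidablePred P] :
    (T.filter (fun i => P (d i))).card = ∑ v ∈ V.filter P, cnt d T v := by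
  rw [card_values d (T.filter (fun i => P (d i))) (V.filter P) (by
    intro i hi
    rw [Finset.mem_filter] at hi ⊢
    exact ⟨hV i hi.1, hi.2⟩)]
  apply Finset.sum_congr rfl
  intro v hv
  unfold cnt
  rw [Finset.filter_filter]
  congr 1
  apply Finset.filter_congr
  intro i _
  constructor
  · exact fun h => h.2
  · intro h
    exact ⟨h ▸ (Finset.mem_filter.1 hv).2, h⟩

end fiber

section main

theorem searchB (b11 b22 b33 b44 b55 b66 b88 : ℕ)
    (hsq : 121 * b11 + 484 * b22 + 1089 * b33 + 1936 * b44 + 3025 * b55 + 4356 * b66 + 7744 * b88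
      = 5082)
    (h5 : b11 + b22 + b33 + b44 + b66 + b88 = 2) :
    b11 = 1 ∧ b22 = 0 ∧ b33 = 0 ∧ b44 = 1 ∧ b55 = 1 ∧ b66 = 0 ∧ b88 = 0 := by
  have h88 : b88 = 0 := by omega
  subst h88
  have h66 : b66 ≤ 1 := by omega
  have h55 : b55 ≤ 1 := by omega
  have h44 : b44 ≤ 2 := by omega
  have h33 : b33 ≤ 2 := by omega
  have h22 : b22 ≤ 2 := by omega
  interval_cases b66 <;> interval_cases b55 <;> interval_cases b44 <;> interval_cases b33 <;>
    interval_cases b22 <;> omega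


theorem stepSum (a1 a10 a12 a45 : ℕ) (ha1 : a1 = 1) (h : 5 = a1 + (a10 + (a12 + a45))) :
    a10 + a12 + a45 = 4 := by omega

theorem stepRel (a1 a10 a12 a45 D : ℕ) (ε : ℤ) (ha1 : a1 = 1)
    (h : ε * (D : ℤ) = (a1 : ℤ) + (-((a10 : ℤ) * 10) + ((a12 : ℤ) * 12 + (a45 : ℤ) * 45))) :
    ε * (D : ℤ) = 1 - 10 * (a10 : ℤ) + 12 * a12 + 45 * a45 := by
  subst ha1
  rw [h]
  push_cast
  ring

theorem stepSq (a1 a10 a12 a45 D K : ℕ) (ha1 : a1 = 1)
    (h : 7920 = a1 + (a10 * 100 + (a12 * 144 + a45 * 2025)) + (D ^ 2 + D ^ 2) + 121 * K) :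
    1 + 100 * a10 + 144 * a12 + 2025 * a45 + 2 * D ^ 2 + 121 * K = 7920 := by
  subst ha1
  have : D ^ 2 + D ^ 2 = 2 * D ^ 2 := by ring
  omega

theorem stepK (a1 a10 a12 a45 D K : ℕ) (ha1 : a1 = 1) (h10 : a10 = 3) (h12 : a12 = 0)
    (h45 : a45 = 1) (hD : D = 16)
    (h : 7920 = a1 + (a10 * 100 + (a12 * 144 + a45 * 2025)) + (D ^ 2 + D ^ 2) + 121 * K) :
    121 * K = 5082 := by
  subst ha1 h10 h12 h45 hD
  omega

theorem searchB' (b11 b22 b33 b44 b55 b66 b88 K a1 a12 : ℕ)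
    (hBsq : 121 * K = b11 * 121 + (b22 * 484 + (b33 * 1089 + (b44 * 1936 + (b55 * 3025 +
      (b66 * 4356 + b88 * 7744))))))
    (hK : 121 * K = 5082)
    (hfive : 5 = a1 + a12 + 2 + (b11 + (b22 + (b33 + (b44 + (b66 + b88))))))
    (ha1 : a1 = 1) (h12 : a12 = 0) :
    b11 = 1 ∧ b22 = 0 ∧ b33 = 0 ∧ b44 = 1 ∧ b55 = 1 ∧ b66 = 0 ∧ b88 = 0 := by
  apply searchB <;> omega

theorem combine (n : ℕ) :
    (if n = 1 then 1 else if n = 10 then 3 else if n = 45 then 1 else 0) +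
      (if n = 16 then 2 else 0) +
      (if n = 11 then 1 else if n = 44 then 1 else if n = 55 then 1 else 0) =
    (if n = 1 ∨ n = 11 ∨ n = 44 ∨ n = 45 ∨ n = 55 then 1 else if n = 10 then 3
        else if n = 16 then 2 else 0) := by
  split_ifs <;> omega

/-- the signed value attached to a degree prime to 11 -/
def g11 (v : ℕ) : ℤ := if v = 10 then -10 else (v : ℤ)

set_option maxHeartbeats 400000 in
theorem AR {ι : Type*} [Fintype ι] [DecidableEq ι] (d : ι → ℕ)
    (hdvd : ∀ i, d i ∣ 7920) (hsum : ∑ i, d i ^ 2 = 7920)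
    (i0 : ι) (h1 : ∀ i, d i = 1 ↔ i = i0)
    (X11 Y11 : Finset ι) (s11 : ι → ℤ) (ε11 : ℤ)
    (hdisj11 : Disjoint X11 Y11) (hX11 : X11.card = 5) (hY11 : Y11.card = 2)
    (hmem11 : ∀ i, ¬ 11 ∣ d i ↔ i ∈ X11 ∨ i ∈ Y11)
    (hs11 : ∀ i ∈ X11, (s11 i = 1 ∨ s11 i = -1) ∧ (d i : ℤ) ≡ s11 i [ZMOD 11])
    (hε11 : ε11 = 1 ∨ ε11 = -1)
    (hrel11 : ∀ j ∈ Y11, ε11 * (d j : ℤ) = ∑ i ∈ X11, s11 i * (d i : ℤ))
    (X5 Y5 : Finset ι) (s5 : ι → ℤ) (ε5 : ℤ)
    (hdisj5 : Disjoint X5 Y5) (hX5 : X5.card = 4) (hY5 : Y5.card = 1)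
    (hmem5 : ∀ i, ¬ 5 ∣ d i ↔ i ∈ X5 ∨ i ∈ Y5)
    (hs5 : ∀ i ∈ X5, (s5 i = 1 ∨ s5 i = -1) ∧ (d i : ℤ) ≡ s5 i [ZMOD 5])
    (hε5 : ε5 = 1 ∨ ε5 = -1)
    (hY5c : ∀ j ∈ Y5, (d j : ℤ) ≡ ε5 * 4 [ZMOD 5])
    (hrel5 : ∀ j ∈ Y5, ε5 * (d j : ℤ) = ∑ i ∈ X5, s5 i * (d i : ℤ)) :
    Fintype.card ι = 10 ∧ ∀ n : ℕ, (Finset.univ.filter (fun i => d i = n)).card =
      (if n = 1 ∨ n = 11 ∨ n = 44 ∨ n = 45 ∨ n = 55 then 1 else if n = 10 then 3
        else if n = 16 then 2 else 0) := by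
  -- bounds
  have hle : ∀ i, d i ≤ 88 := by
    intro i
    have h2 : d i ^ 2 ≤ ∑ j, d j ^ 2 :=
      Finset.single_le_sum (f := fun j => d j ^ 2) (fun j _ => Nat.zero_le _) (Finset.mem_univ i)
    rw [hsum] at h2
    nlinarith
  -- the values on `X11`
  have hX : ∀ i ∈ X11, (d i = 1 ∧ s11 i = 1) ∨ (d i = 10 ∧ s11 i = -1) ∨ (d i = 12 ∧ s11 i = 1) ∨
      (d i = 45 ∧ s11 i = 1) := by
    intro i hi
    exact val11 (d i) (hdvd i) ((hmem11 i).2 (Or.inl hi)) (hle i) (s11 i) (hs11 i hi).1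
      (hs11 i hi).2
  have hXV : ∀ i ∈ X11, d i ∈ ({1, 10, 12, 45} : Finset ℕ) := by
    intro i hi
    rcases hX i hi with h | h | h | h <;> simp [h.1]
  have hXg : ∀ i ∈ X11, s11 i * (d i : ℤ) = g11 (d i) := by
    intro i hi
    rcases hX i hi with h | h | h | h <;> rw [h.1, h.2] <;> simp [g11]
  -- the two members of `Y11` have the same degree
  obtain ⟨j1, j2, hj12, hY⟩ := Finset.card_eq_two.1 hY11
  have hj1 : j1 ∈ Y11 := by rw [hY]; simp
  have hj2 : j2 ∈ Y11 := by rw [hY]; simp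
  have hdj : d j1 = d j2 := by
    have e1 := hrel11 j1 hj1
    have e2 := hrel11 j2 hj2
    have e3 : ε11 * (d j1 : ℤ) = ε11 * (d j2 : ℤ) := by rw [e1, e2]
    rcases hε11 with h | h <;> rw [h] at e3 <;> omega
  -- `i0` lies in `X11`
  have hd0 : d i0 = 1 := (h1 i0).2 rfl
  have hi0 : i0 ∈ X11 := by
    have h11 : ¬ 11 ∣ d i0 := by rw [hd0]; norm_num
    rcases (hmem11 i0).1 h11 with h | h
    · exact h
    · exfalso
      rw [hY, Finset.mem_insert, Finset.mem_singleton] at h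
      rcases h with h | h
      · have : d j2 = 1 := by rw [← hdj, ← h]; exact hd0
        exact hj12 (by rw [← h, (h1 j2).1 this])
      · have : d j1 = 1 := by rw [hdj, ← h]; exact hd0
        exact hj12 (by rw [← h, (h1 j1).1 this])
  -- counts on `X11`
  have ha1 : cnt d X11 1 = 1 := by
    unfold cnt
    rw [Finset.card_eq_one]
    refine ⟨i0, ?_⟩
    ext i
    rw [Finset.mem_filter, Finset.mem_singleton]
    constructor
    · exact fun h => (h1 i).1 h.2
    · rintro rfl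
      exact ⟨hi0, hd0⟩
  have hcardX := card_values d X11 _ hXV
  rw [hX11] at hcardX
  have hS : ∑ i ∈ X11, s11 i * (d i : ℤ) = ∑ v ∈ ({1, 10, 12, 45} : Finset ℕ), cnt d X11 v • g11 v := by
    rw [Finset.sum_congr rfl hXg]
    exact sum_values d X11 _ hXV g11
  have hSq : ∑ i ∈ X11, d i ^ 2 = ∑ v ∈ ({1, 10, 12, 45} : Finset ℕ), cnt d X11 v • v ^ 2 :=
    sum_values d X11 _ hXV (fun v => v ^ 2)
  rw [Finset.sum_insert (by decide), Finset.sum_insert (by decide), Finset.sum_insert (by decide),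
    Finset.sum_singleton] at hcardX hS hSq
  simp only [g11, smul_eq_mul, nsmul_eq_mul] at hS hSq
  norm_num at hS hSq
  -- the part divisible by 11
  have hpart : ∀ f : ι → ℕ, ∑ i, f i = ∑ i ∈ X11, f i + ∑ i ∈ Y11, f i +
      ∑ i ∈ Finset.univ.filter (fun i => 11 ∣ d i), f i := by
    intro f
    rw [← Finset.sum_union hdisj11,
      ← Finset.sum_filter_add_sum_filter_not Finset.univ (fun i => 11 ∣ d i) f, add_comm]
    congr 1
    apply Finset.sum_congr _ (fun _ _ => rfl)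
    ext i
    rw [Finset.mem_filter, Finset.mem_union]
    simpa using hmem11 i
  have hYsum : ∀ f : ι → ℕ, ∑ i ∈ Y11, f i = f j1 + f j2 := by
    intro f
    rw [hY, Finset.sum_pair hj12]
  obtain ⟨K, hK⟩ : 121 ∣ ∑ i ∈ Finset.univ.filter (fun i => 11 ∣ d i), d i ^ 2 := by
    apply Finset.dvd_sum
    intro i hi
    obtain ⟨m, hm⟩ := (Finset.mem_filter.1 hi).2
    exact ⟨m ^ 2, by rw [hm]; ring⟩
  have htot := hpart (fun i => d i ^ 2)
  rw [hsum, hYsum, hSq, hK, ← hdj] at htot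
  have hrelD := hrel11 j1 hj1
  rw [hS] at hrelD
  have hpat := search11 (cnt d X11 10) (cnt d X11 12) (cnt d X11 45) (d j1) K ε11
    (stepSum _ _ _ _ ha1 hcardX) hε11 (stepRel _ _ _ _ _ _ ha1 hrelD) (hdvd j1)
    ((hmem11 j1).2 (Or.inr hj1)) (stepSq _ _ _ _ _ _ ha1 htot)
  -- the members prime to 5
  have hZ5 : ∀ i, ¬ 5 ∣ d i → d i % 5 = 1 ∨ d i % 5 = 4 := by
    intro i hi
    rcases (hmem5 i).1 hi with h | h
    · obtain ⟨hs, hc⟩ := hs5 i h
      unfold Int.ModEq at hc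
      rcases hs with hs | hs <;> rw [hs] at hc <;> omega
    · have hc := hY5c i h
      unfold Int.ModEq at hc
      rcases hε5 with hs | hs <;> rw [hs] at hc <;> omega
  rcases hpat with ⟨h10, h12, h45, hD⟩ | ⟨h10, h12, h45, hD⟩
  swap
  · -- a degree 12 is impossible
    exfalso
    have hpos : 0 < cnt d X11 12 := by omega
    unfold cnt at hpos
    obtain ⟨i, hi⟩ := Finset.card_pos.1 hpos
    have hdi := (Finset.mem_filter.1 hi).2
    have := hZ5 i (by rw [hdi]; norm_num)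
    rw [hdi] at this
    omega
  -- the surviving pattern
  have hD2 : d j2 = 16 := by rw [← hdj, hD]
  have hBV : ∀ i ∈ Finset.univ.filter (fun i => 11 ∣ d i),
      d i ∈ ({11, 22, 33, 44, 55, 66, 88} : Finset ℕ) := by
    intro i hi
    rcases valB (d i) (hdvd i) (Finset.mem_filter.1 hi).2 (hle i) with h | h | h | h | h | h | h <;>
      simp [h]
  have hBsq := sum_values d (Finset.univ.filter (fun i => 11 ∣ d i)) _ hBV (fun v => v ^ 2)
  have hBcard := card_values d (Finset.univ.filter (fun i => 11 ∣ d i)) _ hBV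
  -- the number of degrees prime to 5
  have hfive : (Finset.univ.filter (fun i => ¬ 5 ∣ d i)).card = 5 := by
    have : Finset.univ.filter (fun i => ¬ 5 ∣ d i) = X5 ∪ Y5 := by
      ext i
      rw [Finset.mem_filter, Finset.mem_union]
      simpa using hmem5 i
    rw [this, Finset.card_union_of_disjoint hdisj5, hX5, hY5]
  have hfive' := hpart (fun i => if ¬ 5 ∣ d i then 1 else 0)
  rw [hYsum, hD, hD2, ← Finset.card_filter, ← Finset.card_filter, ← Finset.card_filter, hfive,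
    card_filter_values d X11 _ hXV (fun v => ¬ 5 ∣ v),
    card_filter_values d _ _ hBV (fun v => ¬ 5 ∣ v)] at hfive'
  have e1 : (({1, 10, 12, 45} : Finset ℕ).filter (fun v => ¬ 5 ∣ v)) = {1, 12} := by decide
  have e2 : (({11, 22, 33, 44, 55, 66, 88} : Finset ℕ).filter (fun v => ¬ 5 ∣ v)) =
      {11, 22, 33, 44, 66, 88} := by decide
  rw [e1, e2, Finset.sum_pair (by decide)] at hfive'
  simp only [smul_eq_mul] at hBsq hBcard hfive'
  norm_num at hBsq hBcard hfive'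
  rw [hK] at hBsq
  have hK42 : 121 * K = 5082 := stepK _ _ _ _ _ _ ha1 h10 h12 h45 hD htot
  have hb := searchB' _ _ _ _ _ _ _ K _ _ hBsq hK42 hfive' ha1 h12
  obtain ⟨hb11, hb22, hb33, hb44, hb55, hb66, hb88⟩ := hb
  constructor
  · have hc := hpart (fun _ => 1)
    simp only [Finset.sum_const, smul_eq_mul, mul_one, Finset.card_univ] at hc
    rw [hc, hX11, hY11, hBcard, hb11, hb22, hb33, hb44, hb55, hb66, hb88]
    norm_num
  · intro n
    have hcount : (Finset.univ.filter (fun i => d i = n)).card =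
        cnt d X11 n + cnt d Y11 n + cnt d (Finset.univ.filter (fun i => 11 ∣ d i)) n := by
      have := hpart (fun i => if d i = n then 1 else 0)
      rw [← Finset.card_filter, ← Finset.card_filter, ← Finset.card_filter, ← Finset.card_filter]
        at this
      exact this
    have hXn : cnt d X11 n = if n = 1 then 1 else if n = 10 then 3 else if n = 45 then 1 else 0 := by
      by_cases hn : n ∈ ({1, 10, 12, 45} : Finset ℕ)
      · simp only [Finset.mem_insert, Finset.mem_singleton] at hn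
        rcases hn with rfl | rfl | rfl | rfl
        · rw [ha1]; rfl
        · rw [h10]; rfl
        · rw [h12]; rfl
        · rw [h45]; rfl
      · rw [cnt_eq_zero d X11 _ hXV n hn]
        simp only [Finset.mem_insert, Finset.mem_singleton, not_or] at hn
        rw [if_neg hn.1, if_neg hn.2.1, if_neg hn.2.2.2]
    have hBn : cnt d (Finset.univ.filter (fun i => 11 ∣ d i)) n =
        if n = 11 then 1 else if n = 44 then 1 else if n = 55 then 1 else 0 := by
      by_cases hn : n ∈ ({11, 22, 33, 44, 55, 66, 88} : Finset ℕ)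
      · simp only [Finset.mem_insert, Finset.mem_singleton] at hn
        rcases hn with rfl | rfl | rfl | rfl | rfl | rfl | rfl
        · rw [hb11]; rfl
        · rw [hb22]; rfl
        · rw [hb33]; rfl
        · rw [hb44]; rfl
        · rw [hb55]; rfl
        · rw [hb66]; rfl
        · rw [hb88]; rfl
      · rw [cnt_eq_zero d _ _ hBV n hn]
        simp only [Finset.mem_insert, Finset.mem_singleton, not_or] at hn
        rw [if_neg hn.1, if_neg hn.2.2.2.1, if_neg hn.2.2.2.2.1]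
    have hYn : cnt d Y11 n = if n = 16 then 2 else 0 := by
      unfold cnt
      by_cases hn : n = 16
      · rw [if_pos hn, ← hY11]
        congr 1
        apply Finset.filter_true_of_mem
        intro i hi
        rw [hY, Finset.mem_insert, Finset.mem_singleton] at hi
        rcases hi with rfl | rfl
        · rw [hD, hn]
        · rw [hD2, hn]
      · rw [if_neg hn, Finset.card_eq_zero, Finset.filter_eq_empty_iff]
        intro i hi h
        rw [hY, Finset.mem_insert, Finset.mem_singleton] at hi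
        rcases hi with rfl | rfl
        · exact hn (by rw [← h, hD])
        · exact hn (by rw [← h, hD2])
    rw [hcount, hXn, hYn, hBn]
    exact combine n

end main

end Cfsg.Agent.Lib.Helper89_M11_AR
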