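import Mathlib
import Cfsg.Prelude.Def_Characters
import Cfsg.Prelude.Def_Blocks
import Cfsg.Agent.Lib.Helper17_ExcApply
import Cfsg.Agent.Lib.Helper16_M11_BR
import Cfsg.Agent.Lib.Helper89_M11_AR

/-!
# Character degrees of a simple group of order 7920 from the Sylow 11- and 5-structure (helper53)

`degrees_of`: if the Sylow 11-normalizers have order 55, the Sylow 5-normalizers order 20, and both
Sylow subgroups are self-centralizing, then Brauer's theorem on blocks of defect one (package BR,
helper16) and the arithmetic package AR (helper89) give the ten character degrees.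
-/

set_option autoImplicit false

namespace Cfsg.Agent.Lib.Helper53_M11_Deg

open Cfsg Cfsg.Agent.Lib.Helper17_ExcApply Cfsg.Agent.Lib.Helper3_CharComplete

theorem degrees_of {G : Type*} [Group G] [Finite G] [IsSimpleGroup G] (hG : Nat.card G = 7920)
    (h11 : ∀ P : Sylow 11 G,
      Nat.card (Subgroup.normalizer ((P : Subgroup G) : Set G)) = 55 ∧
      Subgroup.centralizer ((P : Subgroup G) : Set G) = (P : Subgroup G))
    (h5 : ∀ P : Sylow 5 G,
      Nat.card (Subgroup.normalizer ((P : Subgroup G) : Set G)) = 20 ∧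
      Subgroup.centralizer ((P : Subgroup G) : Set G) = (P : Subgroup G)) :
    Nat.card (Cfsg.IrrCharacter G) = 10 ∧ ∀ n : ℕ,
      Nat.card {χ : Cfsg.IrrCharacter G // Cfsg.charDegree (χ : G → ℂ) = n} =
        (if n = 1 ∨ n = 11 ∨ n = 44 ∨ n = 45 ∨ n = 55 then 1 else if n = 10 then 3
          else if n = 16 then 2 else 0) := by
  classical
  have : Fintype G := Fintype.ofFinite G
  have : Fact (Nat.Prime 11) := ⟨by norm_num⟩
  have : Fact (Nat.Prime 5) := ⟨by norm_num⟩
  have hnc : ¬ IsMulCommutative G := by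
    intro hc
    let _ : CommGroup G := { (inferInstance : Group G) with mul_comm := hc.is_comm.comm }
    have hp := IsSimpleGroup.prime_card (α := G)
    rw [hG] at hp
    norm_num at hp
  obtain ⟨P11⟩ : Nonempty (Sylow 11 G) := inferInstance
  obtain ⟨P5⟩ : Nonempty (Sylow 5 G) := inferInstance
  have h11' := h11 P11
  have h5' := h5 P5
  have hP11 : Nat.card P11 = 11 := by
    have := Cfsg.Agent.Lib.Helper17_Sylow.card_sylow_eq_pow (p := 11) (k := 1) (m := 720)
      (by rw [hG]; norm_num) (by norm_num) P11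
    simpa using this
  have hP5 : Nat.card P5 = 5 := by
    have := Cfsg.Agent.Lib.Helper17_Sylow.card_sylow_eq_pow (p := 5) (k := 1) (m := 1584)
      (by rw [hG]; norm_num) (by norm_num) P5
    simpa using this
  obtain ⟨X11, Y11, s11, ε11, hd11, hX11, hY11, hm11, hs11, hε11, -, hr11⟩ :=
    Cfsg.Agent.Lib.Helper16_M11_BR.BR 11 P11 hP11 h11'.2 5 (by rw [h11'.1])
  obtain ⟨X5, Y5, s5, ε5, hd5, hX5, hY5, hm5, hs5, hε5, hc5, hr5⟩ :=
    Cfsg.Agent.Lib.Helper16_M11_BR.BR 5 P5 hP5 h5'.2 4 (by rw [h5'.1])
  have hY11' : Y11.card = 2 := by omega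
  have hY5' : Y5.card = 1 := by omega
  have key := Cfsg.Agent.Lib.Helper89_M11_AR.AR (ι := IrrCharacter G) (fun χ => deg χ)
    (fun χ => by have := deg_dvd_card χ; rwa [hG] at this)
    (by have := sum_sq_deg (G := G); rw [hG] at this; exact this)
    (Cfsg.Agent.Lib.Helper80_CharBasic.oneIrr G)
    (fun χ => by
      constructor
      · intro h
        by_contra hne
        have := two_le_deg_of_simple hnc χ hne
        omega
      · rintro rfl
        exact deg_oneIrr)
    X11 Y11 s11 ε11 hd11 hX11 hY11' hm11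
    (fun i hi => by have := hs11 i hi; exact_mod_cast this) hε11 hr11
    X5 Y5 s5 ε5 hd5 hX5 hY5' hm5
    (fun i hi => by have := hs5 i hi; exact_mod_cast this) hε5
    (fun j hj => by have := hc5 j hj; exact_mod_cast this) hr5
  refine ⟨by rw [Nat.card_eq_fintype_card]; exact key.1, fun n => ?_⟩
  rw [← key.2 n, Nat.card_eq_fintype_card, Fintype.card_subtype]
  rfl

end Cfsg.Agent.Lib.Helper53_M11_Deg
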