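import Mathlib
import Cfsg.Agent.S4429
import Cfsg.Agent.Lib.Helper53_M11Defs
import Cfsg.Agent.Lib.Helper3_CharColumn
import Cfsg.Agent.Lib.Helper53_M11_L11Main
import Cfsg.Agent.Lib.Helper53_M11_L5Main
import Cfsg.Agent.Lib.Helper63_M11_INV8
import Cfsg.Agent.Lib.Helper65_M11_CL
import Cfsg.Agent.Lib.Helper52_M11_N5S
import Cfsg.Agent.Lib.Helper80_M11_T1
import Cfsg.Agent.Lib.Helper52_M11_T2
import Cfsg.Agent.Lib.Helper17_M11_T3a
import Cfsg.Agent.Lib.Helper21_M11_T3b

/-!
# Simple groups of order 7920: Sylow 3-normalizers and involution centralizers (helper53)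

Assembly of the second wave of the M11 cluster: from the Sylow 11/5 structure and `k(G) = 10`
(S4429) to `|N(P₃)| = 144` and `|C(involution)| = 48`.
-/

set_option autoImplicit false

namespace Cfsg.Agent.Lib.Helper53_M11_Main

open Cfsg Cfsg.Agent.Lib.Helper53_M11Defs

variable {G : Type*} [Group G] [Finite G]

/-- The first-wave facts, assembled. -/
theorem facts [IsSimpleGroup G] (hG : Nat.card G = 7920) : M11Facts G := by
  classical
  haveI : Fintype G := Fintype.ofFinite G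
  refine ⟨inferInstance, hG, Cfsg.Agent.Lib.Helper53_M11_L11Main.L11 hG,
    Cfsg.Agent.Lib.Helper53_M11_L5Main.L5 hG, ?_⟩
  rw [← Cfsg.Agent.Lib.Helper3_CharColumn.card_irr_eq_card_conjClasses]
  exact (Cfsg.Agent.S4429.result hG).1

/-- Sylow 3-normalizers have order 144 and involution centralizers have order 48. -/
theorem main [IsSimpleGroup G] (hG : Nat.card G = 7920) :
    (∀ P : Sylow 3 G, Nat.card (Subgroup.normalizer ((P : Subgroup G) : Set G)) = 144) ∧
    (∀ x : G, orderOf x = 2 → Nat.card (Subgroup.centralizer ({x} : Set G)) = 48) := by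
  have h := facts hG
  obtain ⟨R, hR⟩ := Cfsg.Agent.Lib.Helper65_M11_CL.CL h
  have h3 := Cfsg.Agent.Lib.Helper80_M11_T1.T1 h R hR
  have hN3 := Cfsg.Agent.Lib.Helper52_M11_T2.T2 h h3
  have h3a := Cfsg.Agent.Lib.Helper17_M11_T3a.T3a h R hR h3 hN3
    (Cfsg.Agent.Lib.Helper63_M11_INV8.INV8 hG) (Cfsg.Agent.Lib.Helper52_M11_N5S.N5S h)
  exact ⟨hN3, Cfsg.Agent.Lib.Helper21_M11_T3b.T3b h h3 hN3 h3a⟩

end Cfsg.Agent.Lib.Helper53_M11_Main
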