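import Mathlib
import Cfsg.Agent.Lib.Helper53_M11_Main

/-!
# Simple groups of order 7920: all the local facts of the M11 cluster in one structure (helper53)

`M11Local G` bundles every fact the cluster S4429/S0434/S0435 establishes about a simple group of
order `7920`; `all_facts hG : M11Local G`.
-/

set_option autoImplicit false

namespace Cfsg.Agent.Lib.Helper53_M11_All

open Cfsg Cfsg.Agent.Lib.Helper53_M11Defs

/-- Everything the M11 cluster knows about a simple group of order `7920`. -/
structure M11Local (G : Type*) [Group G] [Finite G] : Prop where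
  facts : M11Facts G
  /-- elements of order 3 form one class -/
  conj3 : ∀ y y' : G, orderOf y = 3 → orderOf y' = 3 → IsConj y y'
  /-- centralizers of elements of order 3 have order 18 -/
  cent3 : ∀ y : G, orderOf y = 3 → Nat.card (Subgroup.centralizer ({y} : Set G)) = 18
  /-- there is no element of order 9 (Sylow 3-subgroups are elementary abelian) -/
  no9 : ∀ g : G, orderOf g ≠ 9
  /-- Sylow 3-normalizers have order 144 -/
  n3 : ∀ P : Sylow 3 G, Nat.card (Subgroup.normalizer ((P : Subgroup G) : Set G)) = 144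
  /-- no involution centralizes a Sylow 3-subgroup -/
  t3a : ∀ (P : Sylow 3 G) (q : G), orderOf q = 2 →
    q ∉ Subgroup.centralizer ((P : Subgroup G) : Set G)
  /-- involution centralizers have order 48 -/
  cent2 : ∀ x : G, orderOf x = 2 → Nat.card (Subgroup.centralizer ({x} : Set G)) = 48
  /-- the structure `5 : 4` of the Sylow 5-normalizers -/
  n5 : ∀ P : Sylow 5 G, ∃ u : G, orderOf u = 4 ∧
    u ∈ Subgroup.normalizer ((P : Subgroup G) : Set G) ∧
    (∀ x ∈ (P : Subgroup G), u ^ 2 * x * (u ^ 2)⁻¹ = x⁻¹) ∧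
    (∀ g ∈ Subgroup.normalizer ((P : Subgroup G) : Set G), g * u ^ 2 = u ^ 2 * g →
      g ∈ Subgroup.zpowers u)
  /-- class representatives of the `{2,3}`-elements with the class equation -/
  classData : ∃ R : Finset G, ClassData G R

variable {G : Type*} [Group G] [Finite G]

/-- All local facts about a simple group of order `7920`. -/
theorem all_facts [IsSimpleGroup G] (hG : Nat.card G = 7920) : M11Local G := by
  have h := Cfsg.Agent.Lib.Helper53_M11_Main.facts hG
  obtain ⟨R, hR⟩ := Cfsg.Agent.Lib.Helper65_M11_CL.CL h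
  have h3 := Cfsg.Agent.Lib.Helper80_M11_T1.T1 h R hR
  have hN3 := Cfsg.Agent.Lib.Helper52_M11_T2.T2 h h3
  have h3a := Cfsg.Agent.Lib.Helper17_M11_T3a.T3a h R hR h3 hN3
    (Cfsg.Agent.Lib.Helper63_M11_INV8.INV8 hG) (Cfsg.Agent.Lib.Helper52_M11_N5S.N5S h)
  exact ⟨h, h3.1, h3.2.1, h3.2.2, hN3, h3a,
    Cfsg.Agent.Lib.Helper21_M11_T3b.T3b h h3 hN3 h3a,
    Cfsg.Agent.Lib.Helper52_M11_N5S.N5S h, ⟨R, hR⟩⟩

end Cfsg.Agent.Lib.Helper53_M11_All
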