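import Mathlib
import Cfsg.Agent.Lib.Helper6_MXDefs

/-!
helper53: S4017 package MX-E4-0 (architect helper6), verbatim: the global facts of the CIT case
(`C(v)` is a conjugate of `Q` for every involution `v`).
-/

set_option autoImplicit false
set_option linter.unusedVariables false
open Cfsg.Agent.Lib.Helper6_MXDefs

namespace Cfsg.Agent.Lib.Helper53_MX_E40

variable {G : Type*} [Group G] [Finite G] {p a : ℕ} {Q : Subgroup G} {x : G}

/-- MX-E4-0.  S. v involution ⇒ c v c⁻¹ ∈ Q\{1} (F.syl); transport HCit: C(v) = c⁻¹ Q c, exponent 2 (F.elem), card 2^a = p + 1; conj from F.syl + F.trans. -/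
theorem cit_glob (hC : UConj G p a) (hF : UFacts G p a) : CitGProp G p a := by
  intro Q x h hcit
  have F := hF Q x h
  -- every involution is conjugate to a nontrivial element of `Q`
  have hinv : ∀ v : G, orderOf v = 2 → ∃ c : G, c * v * c⁻¹ ∈ Q ∧ c * v * c⁻¹ ≠ 1 := by
    intro v hv
    have hv2 : v ^ 2 ^ 1 = 1 := by
      rw [pow_one, ← hv]
      exact pow_orderOf_eq_one v
    obtain ⟨c, hc⟩ := F.syl v ⟨1, hv2⟩
    refine ⟨c, hc, ?_⟩
    intro h1
    have : v = 1 := by
      have h2 : c⁻¹ * (c * v * c⁻¹) * c = v := by group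
      rw [← h2, h1]
      group
    rw [this, orderOf_one] at hv
    omega
  -- the centralizer of an involution, conjugated into `Q`
  have hcent : ∀ (v c : G), c * v * c⁻¹ ∈ Q → c * v * c⁻¹ ≠ 1 →
      ∀ g : G, g * v = v * g ↔ c * g * c⁻¹ ∈ Q := by
    intro v c hcQ hc1 g
    constructor
    · intro hg
      apply hcit _ hcQ hc1
      calc c * g * c⁻¹ * (c * v * c⁻¹) = c * (g * v) * c⁻¹ := by group
        _ = c * (v * g) * c⁻¹ := by rw [hg]
        _ = c * v * c⁻¹ * (c * g * c⁻¹) := by group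
    · intro hg
      have h1 := F.elem.2 _ hg _ hcQ
      calc g * v = c⁻¹ * (c * g * c⁻¹ * (c * v * c⁻¹)) * c := by group
        _ = c⁻¹ * (c * v * c⁻¹ * (c * g * c⁻¹)) * c := by rw [h1]
        _ = v * g := by group
  refine ⟨?_, ?_, ?_⟩
  · intro v hv g hg
    obtain ⟨c, hcQ, hc1⟩ := hinv v hv
    have hgQ := (hcent v c hcQ hc1 g).mp hg
    have h1 := F.elem.1 _ hgQ
    calc g * g = c⁻¹ * (c * g * c⁻¹ * (c * g * c⁻¹)) * c := by group
      _ = 1 := by rw [h1]; group
  · intro v hv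
    obtain ⟨c, hcQ, hc1⟩ := hinv v hv
    have heq : Subgroup.centralizer ({v} : Set G) = Q.map (MulAut.conj c⁻¹).toMonoidHom := by
      ext g
      rw [Subgroup.mem_centralizer_singleton_iff, hcent v c hcQ hc1 g, Subgroup.mem_map]
      constructor
      · intro hg
        refine ⟨c * g * c⁻¹, hg, ?_⟩
        simp only [MulEquiv.coe_toMonoidHom, MulAut.conj_apply, inv_inv]
        group
      · rintro ⟨w, hw, rfl⟩
        simp only [MulEquiv.coe_toMonoidHom, MulAut.conj_apply, inv_inv]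
        have : c * (c⁻¹ * w * c) * c⁻¹ = w := by group
        rw [this]
        exact hw
    rw [heq, Subgroup.card_map_of_injective (MulAut.conj c⁻¹).injective, h.cardQ, h.hpa]
  · intro u v hu hv
    obtain ⟨c, hcQ, hc1⟩ := hinv u hu
    obtain ⟨c', hcQ', hc1'⟩ := hinv v hv
    obtain ⟨j, hj⟩ := F.trans _ hcQ hc1 _ hcQ' hc1'
    refine ⟨c'⁻¹ * x ^ j * c, ?_⟩
    calc c'⁻¹ * x ^ j * c * u * (c'⁻¹ * x ^ j * c)⁻¹
        = c'⁻¹ * (x ^ j * (c * u * c⁻¹) * (x ^ j)⁻¹) * c' := by group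
      _ = c'⁻¹ * (c' * v * c'⁻¹) * c' := by rw [hj]
      _ = v := by group

end Cfsg.Agent.Lib.Helper53_MX_E40
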