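import Mathlib
import Cfsg.Agent.Lib.Helper94_OD3Defs
import Cfsg.Agent.Lib.Helper31_OD3_NRMORB

set_option autoImplicit false
set_option linter.unusedSectionVars false
set_option linter.unusedVariables false

/-!
OD3-CLASS (helper94's OD3 market, rows S5692 / S5694), conditional form: `NrmA` is constant on the
norm classes (up to squares) of nonsingular block vectors.  `CLASS_of` takes the statement of
OD3-TRANS as a hypothesis; OD3-NRMORB is imported (helper31).
-/

namespace Cfsg.Agent.Lib.Helper53_OD3_CLASSof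

open Module Cfsg.Agent.Lib.Helper94_Symp Cfsg.Agent.Lib.Helper94_OrthSmall
  Cfsg.Agent.Lib.Helper94_OrthSiegel Cfsg.Agent.Lib.Helper94_OrthNondeg
  Cfsg.Agent.Lib.Helper29_ODDefs Cfsg.Agent.Lib.Helper94_Q2Defs Cfsg.Agent.Lib.Helper94_OD3Defs

variable {F V : Type*} [Field F] [AddCommGroup V] [Module F V] [Finite F] [FiniteDimensional F V]
  {Q : V → F} {B : LinearMap.BilinForm F V} {t k : ℕ} {D : Fin t → Submodule F V}
  {S M L : Subgroup (V ≃ₗ[F] V)}

/-- OD3-CLASS, with the statement of OD3-TRANS (at the two vectors needed) as a hypothesis. -/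
theorem CLASS_of (hC : Ctx3 Q B k D S M)
    (hTRANS : ∀ {x y : V}, IsBlN Q D x → IsBlN Q D y → Q x = Q y →
      ∃ h ∈ S ⊓ ⁅oG Q, oG Q⁆, h x = y)
    {x y : V} (hx : IsBlN Q D x) (hy : IsBlN Q D y)
    (hn : NrmA Q B hC.hQs hC.hQp M x) {c : F} (hc : Q y = c * c * Q x) :
    NrmA Q B hC.hQs hC.hQp M y := by
  have hc0 : c ≠ 0 := by
    rintro rfl
    apply hy.1
    rw [hc, zero_mul, zero_mul]
  have hQcx : Q (c • x) = Q y := by rw [hC.hQs, hc]
  have hcx : IsBlN Q D (c • x) := by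
    obtain ⟨l, hl⟩ := hx.2
    exact ⟨by rw [hQcx]; exact hy.1, l, (D l).smul_mem c hl⟩
  have hn' : NrmA Q B hC.hQs hC.hQp M (c • x) :=
    (Cfsg.Agent.Lib.Helper31_OD3_NRMORB.NRMORB hC hx hn).2 c hc0
  obtain ⟨h, hh, hhy⟩ := hTRANS hcx hy hQcx
  have := (Cfsg.Agent.Lib.Helper31_OD3_NRMORB.NRMORB hC hcx hn').1 h hh
  rwa [hhy] at this

end Cfsg.Agent.Lib.Helper53_OD3_CLASSof
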