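import Mathlib
import Cfsg.Agent.Lib.Helper95_OPDefs
import Cfsg.Agent.Lib.Helper95_OPBasic
import Cfsg.Agent.Lib.Helper48_OODefs
import Cfsg.Agent.Lib.Helper87_OO2Defs

/-!
OO2-NS (S2344 market, cutter helper87, owner helper48): the Fourier lemma 2.2.
-/

set_option autoImplicit false
set_option linter.unusedSectionVars false
set_option linter.unusedVariables false

namespace Cfsg.Agent.Lib.Helper53_OO2_NS

open Module Cfsg.Agent.Lib.Helper94_OrthSmall Cfsg.Agent.Lib.Helper44_QuadClass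
  Cfsg.Agent.Lib.Helper14_OmegaSimple Cfsg.Agent.Lib.Helper38_MIODefs
  Cfsg.Agent.Lib.Helper95_OPDefs Cfsg.Agent.Lib.Helper95_OPBasic Cfsg.Agent.Lib.Helper48_OODefs
  Cfsg.Agent.Lib.Helper87_OO2Defs

variable {F W : Type*} [Field F] [Fintype F] [AddCommGroup W] [Module F W] [FiniteDimensional F W]

/-- orthogonality: the sum of `ψ (-B(u, w))` over `w` vanishes for `u ≠ 0` -/
theorem sum_addChar_polar (Qw : QuadraticForm F W)
    (hnd : (QuadraticMap.polarBilin Qw).Nondegenerate) [Fintype W]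
    (ψ : AddChar F ℂ) (hψ : ψ ≠ 1) (u : W) (hu : u ≠ 0) :
    ∑ w : W, ψ (-QuadraticMap.polar (⇑Qw) u w) = 0 := by
  obtain ⟨y, hy⟩ : ∃ y, QuadraticMap.polar (⇑Qw) u y ≠ 0 := by
    by_contra hcon
    push Not at hcon
    exact hu (hnd.1 u (fun y => by rw [QuadraticMap.polarBilin_apply_apply]; exact hcon y))
  obtain ⟨a, ha⟩ : ∃ a, ψ a ≠ 1 := by
    by_contra hcon
    push Not at hcon
    apply hψ
    ext a
    rw [hcon a, AddChar.one_apply]
  set c := QuadraticMap.polar (⇑Qw) u y with hc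
  set w1 : W := (-(a / c)) • y with hw1d
  have hw1 : -QuadraticMap.polar (⇑Qw) u w1 = a := by
    rw [hw1d, QuadraticMap.polar_smul_right, ← hc, smul_eq_mul]
    field_simp
  have key : ∑ w : W, ψ (-QuadraticMap.polar (⇑Qw) u w) =
      ψ a * ∑ w : W, ψ (-QuadraticMap.polar (⇑Qw) u w) := by
    rw [Finset.mul_sum, ← Equiv.sum_comp (Equiv.addRight w1)]
    apply Finset.sum_congr rfl
    intro w _
    rw [Equiv.coe_addRight, QuadraticMap.polar_add_right, neg_add, AddChar.map_add_eq_mul, hw1,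
      mul_comm]
  have h2 : (1 - ψ a) * ∑ w : W, ψ (-QuadraticMap.polar (⇑Qw) u w) = 0 := by
    linear_combination key
  rcases mul_eq_zero.mp h2 with h | h
  · exact absurd (sub_eq_zero.mp h).symm ha
  · exact h

/-! ## OO2-NS (M/L): the Fourier lemma 2.2 -/
theorem fourier_ns (Qw : QuadraticForm F W) (m : ℕ) (hm : 1 ≤ m) (hP : IsOddT Qw m) [Fintype W]
    (ψ : AddChar F ℂ) (hψ : ψ ≠ 1)
    (hS : ∃ u₁ u₂ : W, Qw u₁ ≠ 0 ∧ Qw u₂ ≠ 0 ∧
      (∑ w : W, open Classical in if Qw w = 0 then ψ (QuadraticMap.polar (⇑Qw) u₁ w) else 0) ≠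
      (∑ w : W, open Classical in if Qw w = 0 then ψ (QuadraticMap.polar (⇑Qw) u₂ w) else 0))
    (α β : ℂ) (f : W → ℂ) (f0 : f 0 = 1) (fs : ∀ w : W, w ≠ 0 → Qw w = 0 → f w = α)
    (fn : ∀ w : W, Qw w ≠ 0 → f w = β)
    (hF : ∀ u : W, Qw u ≠ 0 → ∑ w : W, ψ (-QuadraticMap.polar (⇑Qw) u w) * f w = 0) :
    α = 1 ∧ β = 1 := by
  classical
  have hnd := hP.nondeg
  obtain ⟨u₁, u₂, hu₁, hu₂, hne⟩ := hS
  have key : ∀ u : W, Qw u ≠ 0 →
      (1 - α) + (α - β) *
        (∑ w : W, if Qw w = 0 then ψ (QuadraticMap.polar (⇑Qw) u w) else 0) = 0 := by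
    intro u hu
    have hu0 : u ≠ 0 := by
      rintro rfl
      exact hu (map_zero Qw)
    have hpt : ∀ w : W, ψ (-QuadraticMap.polar (⇑Qw) u w) * f w =
        β * ψ (-QuadraticMap.polar (⇑Qw) u w) +
          (α - β) * (if Qw w = 0 then ψ (-QuadraticMap.polar (⇑Qw) u w) else 0) +
          (1 - α) * (if w = 0 then 1 else 0) := by
      intro w
      by_cases hw0 : w = 0
      · subst hw0
        have hp0 : QuadraticMap.polar (⇑Qw) u 0 = 0 := by
          simp [QuadraticMap.polar]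
        rw [hp0, neg_zero, AddChar.map_zero_eq_one, f0, if_pos (map_zero Qw), if_pos rfl]
        ring
      · by_cases hQ : Qw w = 0
        · rw [fs w hw0 hQ, if_pos hQ, if_neg hw0]; ring
        · rw [fn w hQ, if_neg hQ, if_neg hw0]; ring
    have h1 := hF u hu
    rw [Finset.sum_congr rfl (fun w _ => hpt w), Finset.sum_add_distrib, Finset.sum_add_distrib,
      ← Finset.mul_sum, ← Finset.mul_sum, ← Finset.mul_sum, sum_addChar_polar Qw hnd ψ hψ u hu0,
      mul_zero, zero_add, Finset.sum_ite_eq' Finset.univ (0 : W) (fun _ => (1 : ℂ)),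
      if_pos (Finset.mem_univ _), mul_one] at h1
    have h2 : ∑ w : W, (if Qw w = 0 then ψ (-QuadraticMap.polar (⇑Qw) u w) else 0) =
        ∑ w : W, (if Qw w = 0 then ψ (QuadraticMap.polar (⇑Qw) u w) else 0) := by
      rw [← Equiv.sum_comp (Equiv.neg W)]
      apply Finset.sum_congr rfl
      intro w _
      rw [Equiv.neg_apply, QuadraticMap.map_neg, QuadraticMap.polar_neg_right, neg_neg]
    rw [h2] at h1
    linear_combination h1
  have k1 := key u₁ hu₁
  have k2 := key u₂ hu₂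
  have hαβ : α = β := by
    have h3 : (α - β) *
        ((∑ w : W, if Qw w = 0 then ψ (QuadraticMap.polar (⇑Qw) u₁ w) else 0) -
          (∑ w : W, if Qw w = 0 then ψ (QuadraticMap.polar (⇑Qw) u₂ w) else 0)) = 0 := by
      linear_combination k1 - k2
    rcases mul_eq_zero.mp h3 with h | h
    · exact sub_eq_zero.mp h
    · exact absurd (sub_eq_zero.mp h) hne
  have hα : α = 1 := by
    rw [hαβ, sub_self, zero_mul, add_zero] at k1
    have := sub_eq_zero.mp k1
    rw [← hαβ] at this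
    exact this.symm
  exact ⟨hα, by rw [← hαβ, hα]⟩

end Cfsg.Agent.Lib.Helper53_OO2_NS
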