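import Mathlib
import Cfsg.Agent.Lib.Helper20_PGroupOdd

/-!
# `Ω₁(Z(S))` and `Ω₁(Z₂(S))` of a subgroup `S` of an ambient group (for odd `s`-groups)

For `S : Subgroup G`:
* `omegaZ s S`  : the elements of `S ⊓ C_G(S)` with `x ^ s = 1`   (`= Ω₁(Z(S))`).
* `omegaZ2 hs hs2 S` : the elements `x ∈ S` with `x ^ s = 1` and `⁅x, g⁆ ∈ omegaZ s S` for all
  `g ∈ S`  (`= Ω₁(Z₂(S))`, a subgroup because `s` is odd).
Both are normalized by `N_G(S)`.
-/

set_option autoImplicit false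

namespace Cfsg.Agent.Lib.Helper53_Omega1Z2

open Subgroup
open scoped commutatorElement

variable {G : Type*} [Group G]

/-- `Ω₁(Z(S))` as a subgroup of the ambient group. -/
def omegaZ (s : ℕ) (S : Subgroup G) : Subgroup G where
  carrier := {x | x ∈ S ∧ (∀ g ∈ S, g * x = x * g) ∧ x ^ s = 1}
  one_mem' := ⟨S.one_mem, fun g _ => by simp, one_pow s⟩
  mul_mem' := by
    rintro x y ⟨hx, hxc, hxs⟩ ⟨hy, hyc, hys⟩
    refine ⟨S.mul_mem hx hy, fun g hg => ?_, ?_⟩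
    · rw [← mul_assoc, hxc g hg, mul_assoc, hyc g hg, mul_assoc]
    · have : Commute x y := (hxc y hy).symm
      rw [this.mul_pow, hxs, hys, one_mul]
  inv_mem' := by
    rintro x ⟨hx, hxc, hxs⟩
    refine ⟨S.inv_mem hx, fun g hg => ?_, by rw [inv_pow, hxs, inv_one]⟩
    have := hxc g hg
    calc g * x⁻¹ = x⁻¹ * (x * g) * x⁻¹ := by group
      _ = x⁻¹ * (g * x) * x⁻¹ := by rw [this]
      _ = x⁻¹ * g := by group

theorem mem_omegaZ {s : ℕ} {S : Subgroup G} {x : G} :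
    x ∈ omegaZ s S ↔ x ∈ S ∧ (∀ g ∈ S, g * x = x * g) ∧ x ^ s = 1 := Iff.rfl

theorem omegaZ_le (s : ℕ) (S : Subgroup G) : omegaZ s S ≤ S := fun _ hx => hx.1

theorem omegaZ_le_centralizer (s : ℕ) (S : Subgroup G) :
    omegaZ s S ≤ centralizer (S : Set G) := fun _ hx =>
  Subgroup.mem_centralizer_iff.mpr hx.2.1

theorem omegaZ_eq (s : ℕ) (S : Subgroup G) {x : G} :
    x ∈ omegaZ s S ↔ x ∈ S ⊓ centralizer (S : Set G) ∧ x ^ s = 1 := by
  rw [mem_omegaZ, Subgroup.mem_inf, Subgroup.mem_centralizer_iff]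
  exact ⟨fun h => ⟨⟨h.1, h.2.1⟩, h.2.2⟩, fun h => ⟨h.1.1, h.1.2, h.2⟩⟩

theorem pow_eq_one_of_mem_omegaZ {s : ℕ} {S : Subgroup G} {x : G} (hx : x ∈ omegaZ s S) :
    x ^ s = 1 := hx.2.2

theorem comm_of_mem_omegaZ {s : ℕ} {S : Subgroup G} {x g : G} (hx : x ∈ omegaZ s S)
    (hg : g ∈ S) : g * x = x * g := hx.2.1 g hg

theorem omegaZ_comm {s : ℕ} {S : Subgroup G} :
    ∀ x ∈ omegaZ s S, ∀ y ∈ omegaZ s S, x * y = y * x := fun _ hx _ hy =>
  (comm_of_mem_omegaZ hy hx.1)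

/-- Any `a` normalizing `S` normalizes `Ω₁(Z(S))`. -/
theorem conj_mem_omegaZ {s : ℕ} {S : Subgroup G} {a x : G}
    (ha : a ∈ normalizer (S : Set G)) (hx : x ∈ omegaZ s S) : a * x * a⁻¹ ∈ omegaZ s S := by
  rw [Subgroup.mem_normalizer_iff] at ha
  refine ⟨(ha x).mp hx.1, fun g hg => ?_, by rw [conj_pow, hx.2.2, mul_one, mul_inv_cancel]⟩
  have hg' : a⁻¹ * g * a ∈ S := by
    have := (ha (a⁻¹ * g * a))
    rw [this]
    simpa [mul_assoc] using hg
  have := hx.2.1 _ hg'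
  calc g * (a * x * a⁻¹) = a * ((a⁻¹ * g * a) * x) * a⁻¹ := by group
    _ = a * (x * (a⁻¹ * g * a)) * a⁻¹ := by rw [this]
    _ = a * x * a⁻¹ * g := by group

theorem normalizer_le_normalizer_omegaZ (s : ℕ) (S : Subgroup G) :
    normalizer (S : Set G) ≤ normalizer (omegaZ s S : Set G) := by
  intro a ha
  rw [Subgroup.mem_normalizer_iff]
  intro x
  refine ⟨fun hx => conj_mem_omegaZ ha hx, fun hx => ?_⟩
  have := conj_mem_omegaZ (s := s) ((normalizer (S : Set G)).inv_mem ha) hx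
  simpa [mul_assoc] using this

theorem le_normalizer_omegaZ (s : ℕ) (S : Subgroup G) :
    S ≤ normalizer (omegaZ s S : Set G) :=
  le_trans Subgroup.le_normalizer (normalizer_le_normalizer_omegaZ s S)


/-! ### `Ω₁(Z₂(S))` -/

theorem commutator_mul_aux {s : ℕ} {S : Subgroup G} {x y g : G} (hx : x ∈ S) (hg : g ∈ S)
    (hy : ⁅y, g⁆ ∈ omegaZ s S) : ⁅x * y, g⁆ = ⁅x, g⁆ * ⁅y, g⁆ := by
  have ht : g * x⁻¹ * g⁻¹ ∈ S := S.mul_mem (S.mul_mem hg (S.inv_mem hx)) (S.inv_mem hg)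
  have h := comm_of_mem_omegaZ hy ht
  calc ⁅x * y, g⁆ = x * (⁅y, g⁆ * (g * x⁻¹ * g⁻¹)) := by
        simp only [commutatorElement_def]; group
    _ = x * ((g * x⁻¹ * g⁻¹) * ⁅y, g⁆) := by rw [h]
    _ = ⁅x, g⁆ * ⁅y, g⁆ := by simp only [commutatorElement_def]; group

theorem commutator_inv_aux {s : ℕ} {S : Subgroup G} {x g : G} (hx : x ∈ S)
    (hc : ⁅x, g⁆ ∈ omegaZ s S) : ⁅x⁻¹, g⁆ = ⁅x, g⁆⁻¹ := by
  calc ⁅x⁻¹, g⁆ = x⁻¹ * ⁅x, g⁆⁻¹ * x := by simp only [commutatorElement_def]; group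
    _ = ⁅x, g⁆⁻¹ := by
        have h2 : x⁻¹ * ⁅x, g⁆⁻¹ = ⁅x, g⁆⁻¹ * x⁻¹ :=
          (comm_of_mem_omegaZ ((omegaZ s S).inv_mem hc) (S.inv_mem hx))
        rw [h2]; group

/-- `Ω₁(Z₂(S))` as a subgroup of the ambient group (`s` an odd prime). -/
def omegaZ2 {s : ℕ} (hs : s.Prime) (hs2 : s ≠ 2) (S : Subgroup G) : Subgroup G where
  carrier := {x | x ∈ S ∧ x ^ s = 1 ∧ ∀ g ∈ S, ⁅x, g⁆ ∈ omegaZ s S}
  one_mem' := ⟨S.one_mem, one_pow s, fun g _ => by
    rw [commutatorElement_one_left]; exact (omegaZ s S).one_mem⟩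
  mul_mem' := by
    rintro x y ⟨hx, hxs, hxc⟩ ⟨hy, hys, hyc⟩
    refine ⟨S.mul_mem hx hy, ?_, fun g hg => ?_⟩
    · -- `(x * y) ^ s = x ^ s * y ^ s`
      have hc : ⁅y, x⁆ ∈ omegaZ s S := hyc x hx
      have h1 : y * x = ⁅y, x⁆ * x * y := by rw [commutatorElement_def]; group
      have c1 : Commute ⁅y, x⁆ x := (comm_of_mem_omegaZ hc hx).symm
      have c2 : Commute ⁅y, x⁆ y := (comm_of_mem_omegaZ hc hy).symm
      rw [Cfsg.Agent.Lib.Helper20_PGroupOdd.mul_pow_prime_of_comm hs hs2 h1 c1 c2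
        (pow_eq_one_of_mem_omegaZ hc), hxs, hys, one_mul]
    · rw [commutator_mul_aux hx hg (hyc g hg)]
      exact (omegaZ s S).mul_mem (hxc g hg) (hyc g hg)
  inv_mem' := by
    rintro x ⟨hx, hxs, hxc⟩
    refine ⟨S.inv_mem hx, by rw [inv_pow, hxs, inv_one], fun g hg => ?_⟩
    rw [commutator_inv_aux hx (hxc g hg)]
    exact (omegaZ s S).inv_mem (hxc g hg)

section W
variable {s : ℕ} (hs : s.Prime) (hs2 : s ≠ 2) {S : Subgroup G}

theorem mem_omegaZ2 {x : G} :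
    x ∈ omegaZ2 hs hs2 S ↔ x ∈ S ∧ x ^ s = 1 ∧ ∀ g ∈ S, ⁅x, g⁆ ∈ omegaZ s S := Iff.rfl

theorem omegaZ2_le : omegaZ2 hs hs2 S ≤ S := fun _ hx => hx.1

theorem omegaZ_le_omegaZ2 : omegaZ s S ≤ omegaZ2 hs hs2 S := by
  intro x hx
  refine ⟨hx.1, hx.2.2, fun g hg => ?_⟩
  have : ⁅x, g⁆ = 1 := by
    rw [commutatorElement_eq_one_iff_mul_comm]; exact (hx.2.1 g hg).symm
  rw [this]; exact (omegaZ s S).one_mem

theorem pow_eq_one_of_mem_omegaZ2 {x : G} (hx : x ∈ omegaZ2 hs hs2 S) : x ^ s = 1 := hx.2.1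

/-- `[Ω₁(Z₂(S)), S] ≤ Ω₁(Z(S))`, elementwise. -/
theorem commutator_mem_omegaZ {x g : G} (hx : x ∈ omegaZ2 hs hs2 S) (hg : g ∈ S) :
    ⁅x, g⁆ ∈ omegaZ s S := hx.2.2 g hg

theorem commutator_mem_omegaZ' {x g : G} (hx : x ∈ omegaZ2 hs hs2 S) (hg : g ∈ S) :
    ⁅g, x⁆ ∈ omegaZ s S := by
  rw [← commutatorElement_inv]; exact (omegaZ s S).inv_mem (hx.2.2 g hg)

/-- `[Ω₁(Z₂(S)), S] ≤ Ω₁(Z(S))`. -/
theorem commutator_omegaZ2_le : ⁅omegaZ2 hs hs2 S, S⁆ ≤ omegaZ s S := by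
  rw [Subgroup.commutator_le]
  intro x hx g hg
  exact commutator_mem_omegaZ hs hs2 hx hg

/-- conjugating `x ∈ Ω₁(Z₂(S))` by `g ∈ S` multiplies it by an element of `Ω₁(Z(S))`. -/
theorem conj_eq_mul {x g : G} : g * x * g⁻¹ = ⁅g, x⁆ * x := by
  rw [commutatorElement_def]; group

/-- Every subgroup between `Ω₁(Z(S))` and `Ω₁(Z₂(S))` is normalized by `S`. -/
theorem le_normalizer_of_le_omegaZ2 {V : Subgroup G} (h1 : omegaZ s S ≤ V)
    (h2 : V ≤ omegaZ2 hs hs2 S) : S ≤ normalizer (V : Set G) := by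
  have key : ∀ g ∈ S, ∀ x ∈ V, g * x * g⁻¹ ∈ V := by
    intro g hg x hx
    rw [conj_eq_mul]
    exact V.mul_mem (h1 (commutator_mem_omegaZ' hs hs2 (h2 hx) hg)) hx
  intro g hg
  rw [Subgroup.mem_normalizer_iff]
  intro x
  refine ⟨key g hg x, fun hx => ?_⟩
  have := key g⁻¹ (S.inv_mem hg) _ hx
  simpa [mul_assoc] using this

theorem le_normalizer_omegaZ2 : S ≤ normalizer (omegaZ2 hs hs2 S : Set G) :=
  le_normalizer_of_le_omegaZ2 hs hs2 (omegaZ_le_omegaZ2 hs hs2) le_rfl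

/-- Any `a` normalizing `S` normalizes `Ω₁(Z₂(S))`. -/
theorem conj_mem_omegaZ2 {a x : G} (ha : a ∈ normalizer (S : Set G))
    (hx : x ∈ omegaZ2 hs hs2 S) : a * x * a⁻¹ ∈ omegaZ2 hs hs2 S := by
  have ha' := ha
  rw [Subgroup.mem_normalizer_iff] at ha
  refine ⟨(ha x).mp hx.1, by rw [conj_pow, hx.2.1, mul_one, mul_inv_cancel], fun g hg => ?_⟩
  have hg' : a⁻¹ * g * a ∈ S := by
    rw [ha (a⁻¹ * g * a)]
    simpa [mul_assoc] using hg
  have := conj_mem_omegaZ ha' (hx.2.2 _ hg')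
  have e : a * ⁅x, a⁻¹ * g * a⁆ * a⁻¹ = ⁅a * x * a⁻¹, g⁆ := by
    simp only [commutatorElement_def]; group
  rwa [e] at this

theorem normalizer_le_normalizer_omegaZ2 :
    normalizer (S : Set G) ≤ normalizer (omegaZ2 hs hs2 S : Set G) := by
  intro a ha
  rw [Subgroup.mem_normalizer_iff]
  intro x
  refine ⟨fun hx => conj_mem_omegaZ2 hs hs2 ha hx, fun hx => ?_⟩
  have := conj_mem_omegaZ2 hs hs2 ((normalizer (S : Set G)).inv_mem ha) hx
  simpa [mul_assoc] using this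

end W

/-! ### The cyclic-centre case: `|Ω₁(Z(S))| = s` -/

/-- `A ⊔ ⟨w⟩` is abelian if `A` is and `w` commutes with `A`. -/
theorem sup_zpowers_comm {A : Subgroup G} {w : G} (hA : ∀ x ∈ A, ∀ y ∈ A, x * y = y * x)
    (hw : ∀ x ∈ A, x * w = w * x) :
    ∀ x ∈ A ⊔ zpowers w, ∀ y ∈ A ⊔ zpowers w, x * y = y * x := by
  have h1 : A ⊔ zpowers w ≤ centralizer (A : Set G) ⊓ centralizer ({w} : Set G) := by
    refine sup_le (le_inf ?_ ?_) (le_inf ?_ ?_)
    · intro x hx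
      rw [Subgroup.mem_centralizer_iff]
      intro y hy
      exact hA y hy x hx
    · intro x hx
      rw [Subgroup.mem_centralizer_iff]
      intro y hy
      rw [Set.mem_singleton_iff] at hy
      rw [hy]; exact (hw x hx).symm
    · rw [Subgroup.zpowers_le, Subgroup.mem_centralizer_iff]
      intro y hy
      exact hw y hy
    · rw [Subgroup.zpowers_le, Subgroup.mem_centralizer_iff]
      intro y hy
      rw [Set.mem_singleton_iff] at hy
      rw [hy]
  intro x hx y hy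
  have hy' := h1 hy
  have h2 : A ⊔ zpowers w ≤ centralizer ({y} : Set G) := by
    refine sup_le ?_ ?_
    · intro a ha
      rw [Subgroup.mem_centralizer_iff]
      intro b hb
      rw [Set.mem_singleton_iff] at hb
      rw [hb]
      exact Subgroup.mem_centralizer_iff.mp hy'.1 a ha |>.symm
    · rw [Subgroup.zpowers_le, Subgroup.mem_centralizer_iff]
      intro b hb
      rw [Set.mem_singleton_iff] at hb
      rw [hb]
      exact (Subgroup.mem_centralizer_iff.mp hy'.2 w (Set.mem_singleton w)).symm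
  exact (Subgroup.mem_centralizer_iff.mp (h2 hx) y (Set.mem_singleton y)).symm

section Cyc
variable {s : ℕ} [hsf : Fact s.Prime] (hs2 : s ≠ 2) {S : Subgroup G}

/-- If `|Ω₁(Z(S))| = s` it is generated by each of its nontrivial elements. -/
theorem omegaZ_eq_zpowers (hZ : Nat.card (omegaZ s S) = s) {z : G} (hz : z ∈ omegaZ s S)
    (hz1 : z ≠ 1) : omegaZ s S = zpowers z := by
  have hfin : Finite (omegaZ s S) :=
    Nat.finite_of_card_ne_zero (by rw [hZ]; exact hsf.out.ne_zero)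
  have hle : zpowers z ≤ omegaZ s S := zpowers_le.mpr hz
  have ho : orderOf z = s := orderOf_eq_prime hz.2.2 hz1
  symm
  apply Subgroup.eq_of_le_of_card_ge hle
  rw [Nat.card_zpowers, ho, hZ]

/-- A generator of `Ω₁(Z(S))` when it has order `s`. -/
theorem exists_generator (hZ : Nat.card (omegaZ s S) = s) :
    ∃ z ∈ omegaZ s S, z ≠ 1 ∧ orderOf z = s ∧ omegaZ s S = zpowers z := by
  have hfin : Finite (omegaZ s S) :=
    Nat.finite_of_card_ne_zero (by rw [hZ]; exact hsf.out.ne_zero)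
  have hnt : Nontrivial (omegaZ s S) := by
    rw [← Finite.one_lt_card_iff_nontrivial, hZ]; exact hsf.out.one_lt
  obtain ⟨⟨z, hz⟩, hz1⟩ := exists_ne (1 : omegaZ s S)
  have hz1' : z ≠ 1 := fun h => hz1 (Subtype.ext h)
  exact ⟨z, hz, hz1', orderOf_eq_prime hz.2.2 hz1', omegaZ_eq_zpowers hZ hz hz1'⟩

/-- A nontrivial finite `s`-subgroup has `Ω₁(Z(S)) ≠ ⊥`. -/
theorem omegaZ_ne_bot [Finite S] (hS : IsPGroup s S) (hne : S ≠ ⊥) : omegaZ s S ≠ ⊥ := by
  have : Nontrivial S := (Subgroup.nontrivial_iff_ne_bot S).mpr hne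
  have hc : Nontrivial (center S) := hS.center_nontrivial
  have hcp : IsPGroup s (center S) := hS.to_subgroup _
  obtain ⟨k, hk⟩ := IsPGroup.iff_card.mp hcp
  have hk0 : k ≠ 0 := by
    rintro rfl
    rw [pow_zero] at hk
    have := Finite.one_lt_card_iff_nontrivial.mpr hc
    omega
  have hdvd : s ∣ Nat.card (center S) := by rw [hk]; exact dvd_pow_self s hk0
  obtain ⟨c, hc⟩ := exists_prime_orderOf_dvd_card' s hdvd
  intro hbot
  have hmem : ((c : S) : G) ∈ omegaZ s S := by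
    refine ⟨(c : S).2, fun g hg => ?_, ?_⟩
    · have := Subgroup.mem_center_iff.mp c.2 ⟨g, hg⟩
      exact congrArg Subtype.val this
    · have h1 : c ^ s = 1 := by rw [← hc]; exact pow_orderOf_eq_one c
      have h2 := congrArg (fun t : center S => ((t : S) : G)) h1
      simpa using h2
  rw [hbot, Subgroup.mem_bot] at hmem
  have hc1 : c = 1 := by
    apply Subtype.ext; apply Subtype.ext; simpa using hmem
  rw [hc1, orderOf_one] at hc
  exact hsf.out.one_lt.ne hc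

/-- **`W > Z₁`.**  `S` a finite noncyclic `s`-subgroup (`s` odd) with `|Ω₁(Z(S))| = s`:
then `Ω₁(Z₂(S))` is strictly bigger than `Ω₁(Z(S))`. -/
theorem exists_mem_omegaZ2_not_mem_omegaZ [Finite S] (hS : IsPGroup s S) (hnc : ¬ IsCyclic S)
    (hZ : Nat.card (omegaZ s S) = s) :
    ∃ w ∈ omegaZ2 hsf.out hs2 S, w ∉ omegaZ s S := by
  have hnc' : ¬ IsCyclic (⊤ : Subgroup S) := fun h =>
    hnc (isCyclic_of_surjective (Subgroup.topEquiv : (⊤ : Subgroup S) ≃* S)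
      Subgroup.topEquiv.surjective)
  obtain ⟨z', h', hg⟩ := Cfsg.Agent.Lib.Helper20_PGroupOdd.exists_good hs2 hS ⊤ hnc'
  obtain ⟨-, -, hzc, hzo, hhs, hhz, hcomm⟩ := hg
  have hz1 : (z' : G) ≠ 1 := by
    intro h
    have : z' = 1 := Subtype.ext h
    rw [this, orderOf_one] at hzo
    exact hsf.out.one_lt.ne hzo
  have hzZ : (z' : G) ∈ omegaZ s S := by
    refine ⟨z'.2, fun g hg => ?_, ?_⟩
    · exact congrArg Subtype.val (Subgroup.mem_center_iff.mp hzc ⟨g, hg⟩)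
    · have h1 : z' ^ s = 1 := by rw [← hzo]; exact pow_orderOf_eq_one z'
      simpa using congrArg Subtype.val h1
  have hZeq := omegaZ_eq_zpowers hZ hzZ hz1
  refine ⟨(h' : G), ⟨h'.2, by simpa using congrArg Subtype.val hhs, fun g hg => ?_⟩, ?_⟩
  · have h1 := hcomm ⟨g, hg⟩
    obtain ⟨i, hi⟩ := Subgroup.mem_zpowers_iff.mp h1
    have h2 : ⁅g, (h' : G)⁆ = (z' : G) ^ i := by
      have := congrArg Subtype.val hi
      rw [commutatorElement_def]
      simpa using this.symm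
    rw [← commutatorElement_inv, h2]
    exact (omegaZ s S).inv_mem ((omegaZ s S).zpow_mem hzZ i)
  · intro hmem
    rw [hZeq] at hmem
    obtain ⟨i, hi⟩ := Subgroup.mem_zpowers_iff.mp hmem
    apply hhz
    refine Subgroup.mem_zpowers_iff.mpr ⟨i, ?_⟩
    apply Subtype.ext
    simpa using hi

/-- For `w ∈ Ω₁(Z₂(S)) \ Ω₁(Z(S))`, `Y = Ω₁(Z(S))⟨w⟩` is elementary abelian of order `s²`,
contained in `Ω₁(Z₂(S))` and normalized by `S`. -/
theorem sup_zpowers_props (hZ : Nat.card (omegaZ s S) = s) {w : G}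
    (hw : w ∈ omegaZ2 hsf.out hs2 S) (hwZ : w ∉ omegaZ s S) :
    omegaZ s S ⊔ zpowers w ≤ omegaZ2 hsf.out hs2 S ∧
    S ≤ normalizer ((omegaZ s S ⊔ zpowers w : Subgroup G) : Set G) ∧
    (∀ x ∈ omegaZ s S ⊔ zpowers w, ∀ y ∈ omegaZ s S ⊔ zpowers w, x * y = y * x) ∧
    (∀ x ∈ omegaZ s S ⊔ zpowers w, x ^ s = 1) ∧
    Nat.card (omegaZ s S ⊔ zpowers w : Subgroup G) = s ^ 2 ∧
    ¬ IsCyclic (omegaZ s S ⊔ zpowers w : Subgroup G) := by
  have hle : omegaZ s S ⊔ zpowers w ≤ omegaZ2 hsf.out hs2 S :=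
    sup_le (omegaZ_le_omegaZ2 hsf.out hs2) (zpowers_le.mpr hw)
  have hexp : ∀ x ∈ omegaZ s S ⊔ zpowers w, x ^ s = 1 := fun x hx =>
    pow_eq_one_of_mem_omegaZ2 hsf.out hs2 (hle hx)
  have hcard : Nat.card (omegaZ s S ⊔ zpowers w : Subgroup G) = s ^ 2 := by
    obtain ⟨z, hz, hz1, hzo, hZeq⟩ := exists_generator hZ
    have hw1 : w ≠ 1 := fun h => hwZ (h ▸ (omegaZ s S).one_mem)
    have hwo : orderOf w = s := orderOf_eq_prime hw.2.1 hw1
    -- work inside `↥S`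
    have hzS : z ∈ S := hz.1
    have hwS : w ∈ S := hw.1
    have hzc : (⟨z, hzS⟩ : S) ∈ center S := by
      rw [Subgroup.mem_center_iff]
      intro g
      exact Subtype.ext (hz.2.1 g g.2)
    have hzo' : orderOf (⟨z, hzS⟩ : S) = s := (Subgroup.orderOf_mk z hzS).trans hzo
    have hwo' : orderOf (⟨w, hwS⟩ : S) = s := (Subgroup.orderOf_mk w hwS).trans hwo
    have hnot : (⟨w, hwS⟩ : S) ∉ zpowers (⟨z, hzS⟩ : S) := by
      intro hmem
      obtain ⟨i, hi⟩ := Subgroup.mem_zpowers_iff.mp hmem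
      apply hwZ
      rw [hZeq]
      refine Subgroup.mem_zpowers_iff.mpr ⟨i, ?_⟩
      simpa using congrArg Subtype.val hi
    have hc := Cfsg.Agent.Lib.Helper20_PGroupOdd.card_sup_zpowers hzc hzo' hwo' hnot
    have hmap : (zpowers (⟨z, hzS⟩ : S) ⊔ zpowers (⟨w, hwS⟩ : S)).map S.subtype
        = omegaZ s S ⊔ zpowers w := by
      rw [Subgroup.map_sup, MonoidHom.map_zpowers, MonoidHom.map_zpowers, hZeq]
      rfl
    rw [← hmap, Subgroup.card_map_of_injective S.subtype_injective, hc]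
  refine ⟨hle, le_normalizer_of_le_omegaZ2 hsf.out hs2 le_sup_left hle, ?_, hexp, hcard, ?_⟩
  · apply sup_zpowers_comm omegaZ_comm
    intro x hx
    exact (comm_of_mem_omegaZ hx hw.1).symm
  · intro hcyc
    have hfin : Finite (omegaZ s S ⊔ zpowers w : Subgroup G) :=
      Nat.finite_of_card_ne_zero (by rw [hcard]; exact pow_ne_zero 2 hsf.out.ne_zero)
    obtain ⟨g, hg⟩ := hcyc.exists_generator
    have ho : orderOf g = s ^ 2 := by
      rw [orderOf_eq_card_of_forall_mem_zpowers hg, hcard]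
    have hgs : g ^ s = 1 := by
      apply Subtype.ext
      simpa using hexp g g.2
    have hd : s ^ 2 ∣ s := by rw [← ho]; exact orderOf_dvd_of_pow_eq_one hgs
    have h2 : s ^ 2 ≤ s := Nat.le_of_dvd hsf.out.pos hd
    have := hsf.out.one_lt
    nlinarith

/-- the homomorphism `g ↦ ⁅g, w⁆` from `S` to `Ω₁(Z(S))`, for `w ∈ Ω₁(Z₂(S))`. -/
def commHom {w : G} (hw : w ∈ omegaZ2 hsf.out hs2 S) : S →* omegaZ s S :=
  MonoidHom.mk' (fun g => ⟨⁅(g : G), w⁆, commutator_mem_omegaZ' hsf.out hs2 hw g.2⟩) (by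
    intro a b
    apply Subtype.ext
    have hb := commutator_mem_omegaZ' hsf.out hs2 hw b.2
    have h1 := comm_of_mem_omegaZ hb a.2
    have h2 := comm_of_mem_omegaZ hb (S.inv_mem a.2)
    show ⁅(a : G) * (b : G), w⁆ = ⁅(a : G), w⁆ * ⁅(b : G), w⁆
    calc ⁅(a : G) * (b : G), w⁆ = (a : G) * ⁅(b : G), w⁆ * ((a : G)⁻¹ * ⁅(a : G), w⁆) := by
          simp only [commutatorElement_def]; group
      _ = ⁅(b : G), w⁆ * (a : G) * ((a : G)⁻¹ * ⁅(a : G), w⁆) := by rw [h1]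
      _ = ⁅(b : G), w⁆ * ⁅(a : G), w⁆ := by group
      _ = ⁅(a : G), w⁆ * ⁅(b : G), w⁆ :=
          omegaZ_comm _ hb _ (commutator_mem_omegaZ' hsf.out hs2 hw a.2))

/-- `|S : C_S(w)| = s` for `w ∈ Ω₁(Z₂(S)) \ Ω₁(Z(S))` when `|Ω₁(Z(S))| = s`. -/
theorem relIndex_centralizer_eq (hZ : Nat.card (omegaZ s S) = s) {w : G}
    (hw : w ∈ omegaZ2 hsf.out hs2 S) (hwZ : w ∉ omegaZ s S) :
    (centralizer ({w} : Set G)).relIndex S = s := by
  have hker : (commHom hs2 hw).ker = (centralizer ({w} : Set G)).subgroupOf S := by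
    ext g
    rw [MonoidHom.mem_ker, Subgroup.mem_subgroupOf, Subgroup.mem_centralizer_iff]
    constructor
    · intro h y hy
      rw [Set.mem_singleton_iff] at hy
      have h1 : ⁅(g : G), w⁆ = 1 := congrArg Subtype.val h
      rw [commutatorElement_eq_one_iff_mul_comm] at h1
      rw [hy]; exact h1.symm
    · intro h
      apply Subtype.ext
      show ⁅(g : G), w⁆ = 1
      rw [commutatorElement_eq_one_iff_mul_comm]
      exact (h w (Set.mem_singleton w)).symm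
  have hfin : Finite (omegaZ s S) :=
    Nat.finite_of_card_ne_zero (by rw [hZ]; exact hsf.out.ne_zero)
  have hpr : Fact (Nat.card (omegaZ s S)).Prime := ⟨by rw [hZ]; exact hsf.out⟩
  have hrange : (commHom hs2 hw).range = ⊤ := by
    rcases Subgroup.eq_bot_or_eq_top_of_prime_card (commHom hs2 hw).range with h | h
    · exfalso
      apply hwZ
      refine ⟨hw.1, fun g hg => ?_, hw.2.1⟩
      have h1 : commHom hs2 hw ⟨g, hg⟩ ∈ (commHom hs2 hw).range := ⟨_, rfl⟩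
      rw [h, Subgroup.mem_bot] at h1
      have h2 : ⁅g, w⁆ = 1 := congrArg Subtype.val h1
      rwa [commutatorElement_eq_one_iff_mul_comm] at h2
    · exact h
  rw [Subgroup.relIndex, ← hker, Subgroup.index_ker, hrange, Subgroup.card_top, hZ]

/-- same with the centralizer of the whole `Y = Ω₁(Z(S))⟨w⟩`. -/
theorem relIndex_centralizer_sup_eq (hZ : Nat.card (omegaZ s S) = s) {w : G}
    (hw : w ∈ omegaZ2 hsf.out hs2 S) (hwZ : w ∉ omegaZ s S) :
    (centralizer ((omegaZ s S ⊔ zpowers w : Subgroup G) : Set G)).relIndex S = s := by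
  have heq : centralizer ((omegaZ s S ⊔ zpowers w : Subgroup G) : Set G) ⊓ S
      = centralizer ({w} : Set G) ⊓ S := by
    ext g
    rw [Subgroup.mem_inf, Subgroup.mem_inf]
    constructor
    · rintro ⟨h1, h2⟩
      refine ⟨?_, h2⟩
      rw [Subgroup.mem_centralizer_iff] at h1 ⊢
      intro y hy
      rw [Set.mem_singleton_iff] at hy
      rw [hy]
      exact h1 w (Subgroup.mem_sup_right (Subgroup.mem_zpowers w))
    · rintro ⟨h1, h2⟩
      refine ⟨?_, h2⟩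
      have hle : omegaZ s S ⊔ zpowers w ≤ centralizer ({g} : Set G) := by
        refine sup_le ?_ ?_
        · intro x hx
          rw [Subgroup.mem_centralizer_iff]
          intro y hy
          rw [Set.mem_singleton_iff] at hy
          rw [hy]
          exact comm_of_mem_omegaZ hx h2
        · rw [Subgroup.zpowers_le, Subgroup.mem_centralizer_iff]
          intro y hy
          rw [Set.mem_singleton_iff] at hy
          rw [hy]
          exact (Subgroup.mem_centralizer_iff.mp h1 w (Set.mem_singleton w)).symm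
      rw [Subgroup.mem_centralizer_iff]
      intro y hy
      exact (Subgroup.mem_centralizer_iff.mp (hle hy) g (Set.mem_singleton g)).symm
  rw [← Subgroup.inf_relIndex_right, heq, Subgroup.inf_relIndex_right]
  exact relIndex_centralizer_eq hs2 hZ hw hwZ

end Cyc

end Cfsg.Agent.Lib.Helper53_Omega1Z2
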