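import Mathlib
import Cfsg.Agent.Lib.Helper32_P3Defs
import Cfsg.Agent.Lib.Helper32_OFRoot

/-!
helper53: P3 package AMB (architect helper32), auxiliary file: the ambient form of the platonic
lemma with the three-dimensional platonic lemma (`hcore`) and the rotation lemma (`hrot`) as
hypotheses.  The verbatim `AMB` is in `Helper53_P3_AMB`.
-/

set_option autoImplicit false
set_option linter.unusedSectionVars false
set_option linter.unusedVariables false

namespace Cfsg.Agent.Lib.Helper53_P3_AMBaux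

open Module Cfsg.Agent.Lib.Helper94_Symp Cfsg.Agent.Lib.Helper94_OrthSmall
  Cfsg.Agent.Lib.Helper94_OrthSiegel Cfsg.Agent.Lib.Helper32_P3Defs

variable {F : Type*} [Field F]
variable {V : Type*} [AddCommGroup V] [Module F V]

/-- restriction of an automorphism to an invariant subspace -/
def resE (U : Submodule F V) (g : V ≃ₗ[F] V) (h1 : ∀ x ∈ U, g x ∈ U) (h2 : ∀ x ∈ U, g⁻¹ x ∈ U) :
    ↥U ≃ₗ[F] ↥U where
  toFun x := ⟨g x, h1 x x.2⟩
  invFun x := ⟨g⁻¹ x, h2 x x.2⟩
  map_add' x y := by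
    apply Subtype.ext
    simp
  map_smul' c x := by
    apply Subtype.ext
    simp
  left_inv x := by
    apply Subtype.ext
    exact inv_apply_apply' g x.1
  right_inv x := by
    apply Subtype.ext
    exact apply_inv_apply' g x.1

@[simp] theorem resE_apply (U : Submodule F V) (g : V ≃ₗ[F] V) (h1 : ∀ x ∈ U, g x ∈ U)
    (h2 : ∀ x ∈ U, g⁻¹ x ∈ U) (x : ↥U) : ((resE U g h1 h2 x : ↥U) : V) = g x := rfl

/-- an isometry of a nondegenerate bilinear form has determinant of square one -/
theorem det_mul_self_of_isometry {U : Type*} [AddCommGroup U] [Module F U] [FiniteDimensional F U]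
    (B' : LinearMap.BilinForm F U) (hN : B'.Nondegenerate) (r : U ≃ₗ[F] U)
    (hr : ∀ x y, B' (r x) (r y) = B' x y) : LinearEquiv.det r * LinearEquiv.det r = 1 := by
  classical
  let b := Module.finBasis F U
  have hcomp : B'.comp (r : U →ₗ[F] U) (r : U →ₗ[F] U) = B' := by
    ext x y
    simp [hr]
  have hm := LinearMap.BilinForm.toMatrix_comp b b B' (r : U →ₗ[F] U) (r : U →ₗ[F] U)
  rw [hcomp] at hm
  have hdet := congrArg Matrix.det hm
  rw [Matrix.det_mul, Matrix.det_mul, Matrix.det_transpose, LinearMap.det_toMatrix] at hdet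
  have hS : (LinearMap.BilinForm.toMatrix b B').det ≠ 0 :=
    (LinearMap.BilinForm.nondegenerate_iff_det_ne_zero b).mp hN
  have h1 : LinearMap.det (r : U →ₗ[F] U) * LinearMap.det (r : U →ₗ[F] U) = 1 := by
    apply mul_right_cancel₀ hS
    linear_combination -hdet
  apply Units.ext
  rw [Units.val_mul, LinearEquiv.coe_det, Units.val_one]
  exact h1


theorem resE_pow (U : Submodule F V) (g : V ≃ₗ[F] V) (h1 : ∀ x ∈ U, g x ∈ U)
    (h2 : ∀ x ∈ U, g⁻¹ x ∈ U) (k : ℕ) (x : ↥U) :
    ((((resE U g h1 h2) ^ k) x : ↥U) : V) = (g ^ k) x := by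
  induction k generalizing x with
  | zero => simp
  | succ k ih =>
    rw [pow_succ, pow_succ, LinearEquiv.mul_apply, LinearEquiv.mul_apply, ih]
    rfl

/-- the scalar automorphisms -/
def sc (U : Submodule F V) : Fˣ →* (↥U ≃ₗ[F] ↥U) := DistribMulAction.toModuleAut F ↥U

@[simp] theorem sc_apply (U : Submodule F V) (d : Fˣ) (x : ↥U) : sc U d x = (d : F) • x := rfl

theorem sc_comm (U : Submodule F V) (d : Fˣ) (r : ↥U ≃ₗ[F] ↥U) : sc U d * r = r * sc U d := by
  ext x
  simp

theorem det_sc [FiniteDimensional F V] (U : Submodule F V) (d : Fˣ) :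
    LinearEquiv.det (sc U d) = d ^ finrank F U := by
  apply Units.ext
  rw [LinearEquiv.coe_det, Units.val_pow_eq_pow_val]
  have : ((sc U d : ↥U ≃ₗ[F] ↥U) : ↥U →ₗ[F] ↥U) = (d : F) • LinearMap.id := by
    ext x
    simp
  rw [this, LinearMap.det_smul, LinearMap.det_id, mul_one]

section Main

variable [FiniteDimensional F V] {Q : V → F} {B : LinearMap.BilinForm F V}

/-- the restriction of a reflection in `a ∈ U` to `U` has determinant `-1` -/
theorem det_resE_refl (hQs : ∀ (a : F) (v : V), Q (a • v) = a * a * Q v)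
    (hQp : ∀ u v : V, Q (u + v) = Q u + Q v + B u v) (U : Submodule F V) {a : V} (haU : a ∈ U)
    (ha : Q a ≠ 0) (h1 : ∀ x ∈ U, refl Q B hQs hQp ha x ∈ U)
    (h2 : ∀ x ∈ U, (refl Q B hQs hQp ha)⁻¹ x ∈ U) :
    LinearEquiv.det (resE U (refl Q B hQs hQp ha) h1 h2) = -1 := by
  apply Units.ext
  rw [LinearEquiv.coe_det, Units.val_neg, Units.val_one]
  let f : Module.Dual F ↥U := -((Q a)⁻¹ • ((B.flip a).domRestrict U))
  have hf : ∀ x : ↥U, f x = -((Q a)⁻¹ * B x a) := by
    intro x
    simp [f]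
  have e : ((resE U (refl Q B hQs hQp ha) h1 h2 : ↥U ≃ₗ[F] ↥U) : ↥U →ₗ[F] ↥U) =
      LinearMap.transvection f ⟨a, haU⟩ := by
    ext x
    rw [LinearMap.transvection.apply, hf]
    simp only [LinearEquiv.coe_coe, resE_apply, refl_apply, Submodule.coe_add, Submodule.coe_smul]
    rw [neg_smul, sub_eq_add_neg]
  rw [e, LinearMap.transvection.det, hf]
  show 1 + -((Q a)⁻¹ * B a a) = -1
  rw [B_self Q B hQs hQp a]
  field_simp
  ring


/-- P3-AMB with the three-dimensional platonic lemma and the rotation lemma as hypotheses -/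
theorem AMB_aux (hQs : ∀ (a : F) (v : V), Q (a • v) = a * a * Q v)
    (hQp : ∀ u v : V, Q (u + v) = Q u + Q v + B u v) (h2 : (2 : F) ≠ 0)
    (p : ℕ) [Fact p.Prime] (U : Submodule F V) (h3 : finrank F U = 3)
    (hU : ∀ a ∈ U, a ≠ 0 → ∃ x ∈ U, B x a ≠ 0) (K : Subgroup (V ≃ₗ[F] V)) [Finite K]
    (hKO : K ≤ oG Q) (hKU : ∀ g ∈ K, ∀ x ∈ U, g x ∈ U)
    (hirr : ∀ v ∈ U, v ≠ 0 → ∃ g ∈ K, g v ∉ Submodule.span F {v})
    (hcore : ∀ (G : Subgroup (↥U ≃ₗ[F] ↥U)) [Finite G], G ≤ oG (fun x : ↥U => Q x) →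
      (∀ g ∈ G, LinearEquiv.det g = 1) → ¬ p ∣ Nat.card G →
      (∀ v : ↥U, v ≠ 0 → ∃ g ∈ G, g v ∉ Submodule.span F {v}) → ∀ g ∈ G, orderOf g ≤ 5)
    (hrot : ∀ {a b : V} (ha : Q a ≠ 0) (hb : Q b ≠ 0) (k : ℕ), 1 ≤ k → k ≤ 5 →
      (((refl Q B hQs hQp ha * refl Q B hQs hQp hb) ^ k) a = a ∧
        ((refl Q B hQs hQp ha * refl Q B hQs hQp hb) ^ k) b = b) →
      rotPoly (B a b * B a b) (Q a * Q b) = 0) :
    (∃ g ∈ K, g ≠ 1 ∧ g ^ p = 1) ∨
    (∀ g ∈ K, ∀ a ∈ U, ∀ b ∈ U, ∀ (ha : Q a ≠ 0) (hb : Q b ≠ 0),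
      (∀ x ∈ U, g x = refl Q B hQs hQp ha (refl Q B hQs hQp hb x)) →
      rotPoly (B a b * B a b) (Q a * Q b) = 0) := by
  classical
  by_cases hpK : p ∣ Nat.card K
  · left
    obtain ⟨g, hg⟩ := exists_prime_orderOf_dvd_card' p hpK
    refine ⟨g.1, g.2, ?_, ?_⟩
    · intro h1
      have : g = 1 := Subtype.ext h1
      rw [this, orderOf_one] at hg
      exact (Fact.out : p.Prime).ne_one hg.symm
    · have := pow_orderOf_eq_one g
      rw [hg] at this
      have h' := congrArg Subtype.val this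
      simpa using h'
  · right
    have hKUi : ∀ g ∈ K, ∀ x ∈ U, g⁻¹ x ∈ U := fun g hg => hKU g⁻¹ (K.inv_mem hg)
    -- the restriction homomorphism
    let res : ↥K →* (↥U ≃ₗ[F] ↥U) :=
      { toFun := fun g => resE U g.1 (hKU g.1 g.2) (hKUi g.1 g.2)
        map_one' := by
          ext x
          rfl
        map_mul' := by
          intro g g'
          ext x
          rfl }
    have hres : ∀ (g : ↥K) (x : ↥U), ((res g x : ↥U) : V) = g.1 x := fun g x => rfl
    -- the restricted form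
    let B' : LinearMap.BilinForm F ↥U := B.restrict U
    have hB' : ∀ x y : ↥U, B' x y = B x y := fun x y => rfl
    have hsymm : ∀ u v : V, B u v = B v u := B_symm Q B hQp
    have hN : B'.Nondegenerate := by
      have hr : ∀ y : ↥U, (∀ x : ↥U, B' x y = 0) → y = 0 := by
        intro y hy
        by_contra h0
        obtain ⟨x, hxU, hx⟩ := hU y.1 y.2 (fun h => h0 (Subtype.ext h))
        exact hx (hy ⟨x, hxU⟩)
      refine ⟨?_, hr⟩
      intro x hx
      apply hr x
      intro y
      rw [hB', hsymm, ← hB']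
      exact hx y
    have hresiso : ∀ (g : ↥K) (x y : ↥U), B' (res g x) (res g y) = B' x y := by
      intro g x y
      rw [hB', hB', hres, hres]
      exact oG_B Q B hQp (hKO g.2) x y
    -- the determinant character
    let d : ↥K →* Fˣ := (LinearEquiv.det : (↥U ≃ₗ[F] ↥U) →* Fˣ).comp res
    have hd : ∀ g : ↥K, d g = LinearEquiv.det (res g) := fun g => rfl
    have hdd : ∀ g : ↥K, d g * d g = 1 := fun g =>
      det_mul_self_of_isometry B' hN (res g) (hresiso g)
    have hddF : ∀ g : ↥K, ((d g : Fˣ) : F) * ((d g : Fˣ) : F) = 1 := by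
      intro g
      rw [← Units.val_mul, hdd, Units.val_one]
    -- the twisted restriction
    let φ : ↥K →* (↥U ≃ₗ[F] ↥U) :=
      { toFun := fun g => sc U (d g) * res g
        map_one' := by
          rw [map_one, map_one, map_one, one_mul]
        map_mul' := by
          intro g g'
          rw [map_mul, map_mul, map_mul, mul_assoc, mul_assoc]
          congr 1
          rw [← mul_assoc, ← mul_assoc, sc_comm] }
    have hφ : ∀ (g : ↥K) (x : ↥U), ((φ g x : ↥U) : V) = ((d g : Fˣ) : F) • g.1 x := fun g x => rfl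
    have hφ1 : ∀ g : ↥K, d g = 1 → φ g = res g := by
      intro g hg
      show sc U (d g) * res g = res g
      rw [hg, map_one, one_mul]
    have hcard : ¬ p ∣ Nat.card φ.range := fun h => hpK (h.trans (Subgroup.card_range_dvd φ))
    have : Finite φ.range := Finite.of_surjective φ.rangeRestrict φ.rangeRestrict_surjective
    have h5 := hcore φ.range ?_ ?_ hcard ?_
    · intro g hgK a haU b hbU ha hb hx
      -- `r_a`, `r_b` on `U`
      have hra : ∀ {c : V} (hcU : c ∈ U) (hc : Q c ≠ 0), ∀ x ∈ U, refl Q B hQs hQp hc x ∈ U := by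
        intro c hcU hc x hxU
        rw [refl_apply]
        exact U.sub_mem hxU (U.smul_mem _ hcU)
      have hrai : ∀ {c : V} (hcU : c ∈ U) (hc : Q c ≠ 0), ∀ x ∈ U,
          (refl Q B hQs hQp hc)⁻¹ x ∈ U := by
        intro c hcU hc x hxU
        rw [refl_inv]
        exact hra hcU hc x hxU
      set ra := resE U (refl Q B hQs hQp ha) (hra haU ha) (hrai haU ha) with hradef
      set rb := resE U (refl Q B hQs hQp hb) (hra hbU hb) (hrai hbU hb) with hrbdef
      have hgres : res ⟨g, hgK⟩ = ra * rb := by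
        ext x
        rw [hres]
        show g x.1 = _
        rw [hx x.1 x.2]
        rfl
      have hdg : d ⟨g, hgK⟩ = 1 := by
        rw [hd, hgres, map_mul, hradef, hrbdef, det_resE_refl hQs hQp U haU ha,
          det_resE_refl hQs hQp U hbU hb]
        simp
      -- the product of the two reflections
      set ρ := refl Q B hQs hQp ha * refl Q B hQs hQp hb with hρ
      have hρU : ∀ x ∈ U, ρ x ∈ U := by
        intro x hxU
        rw [hρ, LinearEquiv.mul_apply]
        exact hra haU ha _ (hra hbU hb x hxU)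
      have hρUi : ∀ x ∈ U, ρ⁻¹ x ∈ U := by
        intro x hxU
        rw [hρ, mul_inv_rev, LinearEquiv.mul_apply]
        exact hrai hbU hb _ (hrai haU ha x hxU)
      have hρres : resE U ρ hρU hρUi = ra * rb := by
        ext x
        rfl
      have hmem : φ ⟨g, hgK⟩ ∈ φ.range := ⟨_, rfl⟩
      have hord := h5 _ hmem
      have hfin : IsOfFinOrder (φ ⟨g, hgK⟩) := φ.isOfFinOrder (isOfFinOrder_of_finite _)
      have hpos : 0 < orderOf (φ ⟨g, hgK⟩) := hfin.orderOf_pos
      have hpow : (resE U ρ hρU hρUi) ^ orderOf (φ ⟨g, hgK⟩) = 1 := by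
        rw [hρres, ← hgres, ← hφ1 _ hdg]
        exact pow_orderOf_eq_one _
      apply hrot ha hb (orderOf (φ ⟨g, hgK⟩)) hpos hord
      constructor
      · have := resE_pow U ρ hρU hρUi (orderOf (φ ⟨g, hgK⟩)) ⟨a, haU⟩
        rw [hpow] at this
        exact this.symm
      · have := resE_pow U ρ hρU hρUi (orderOf (φ ⟨g, hgK⟩)) ⟨b, hbU⟩
        rw [hpow] at this
        exact this.symm
    · -- isometries
      rintro _ ⟨g, rfl⟩
      intro x
      show Q ((φ g x : ↥U) : V) = Q x
      rw [hφ, hQs, hddF, one_mul]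
      exact hKO g.2 x
    · -- determinant one
      rintro _ ⟨g, rfl⟩
      show LinearEquiv.det (sc U (d g) * res g) = 1
      rw [map_mul, det_sc, h3, ← hd]
      calc d g ^ 3 * d g = (d g * d g) * (d g * d g) := by
            simp only [pow_succ, pow_zero, one_mul, mul_assoc]
        _ = 1 := by rw [hdd, one_mul]
    · -- no invariant line
      intro v hv
      have hv' : (v : V) ≠ 0 := fun h => hv (Subtype.ext h)
      obtain ⟨g, hgK, hg⟩ := hirr v.1 v.2 hv'
      refine ⟨φ ⟨g, hgK⟩, ⟨_, rfl⟩, ?_⟩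
      intro hmem
      obtain ⟨c, hc⟩ := Submodule.mem_span_singleton.mp hmem
      apply hg
      rw [Submodule.mem_span_singleton]
      refine ⟨((d ⟨g, hgK⟩ : Fˣ) : F) * c, ?_⟩
      have h' := congrArg Subtype.val hc
      rw [hφ] at h'
      simp only [Submodule.coe_smul] at h'
      rw [mul_smul, h', smul_smul, hddF, one_smul]

end Main

end Cfsg.Agent.Lib.Helper53_P3_AMBaux
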