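import Mathlib
import Cfsg.Agent.Lib.Helper41_P3_ARITH

set_option autoImplicit false

/-!
P3 market (architect helper32), package P3-PART: a partition of a finite group into non-trivial subgroups, closed
under conjugation, with `[N(C) : C] ≤ 2` for every member: a member of order at least six is normal.
The arithmetic core (package P3-ARITH) enters `PART_of` as a hypothesis.
-/

namespace Cfsg.Agent.Lib.Helper60_P3_PART

variable {G : Type*} [Group G]

/-- The conjugate subgroup. -/
abbrev cj (g : G) (H : Subgroup G) : Subgroup G := H.map (MulAut.conj g).toMonoidHom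

theorem mem_cj {g x : G} {H : Subgroup G} : x ∈ cj g H ↔ g⁻¹ * x * g ∈ H := by
  constructor
  · rintro ⟨y, hy, rfl⟩
    have : g⁻¹ * ((MulAut.conj g).toMonoidHom y) * g = y := by
      simp [MulAut.conj_apply, mul_assoc]
    rw [this]
    exact hy
  · intro h
    exact ⟨g⁻¹ * x * g, h, by simp [MulAut.conj_apply, mul_assoc]⟩

theorem cj_one (H : Subgroup G) : cj 1 H = H := by
  ext x
  simp

theorem cj_mul (g h : G) (H : Subgroup G) : cj (g * h) H = cj g (cj h H) := by
  ext x
  simp [mul_assoc]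

theorem card_cj (g : G) (H : Subgroup G) : Nat.card (cj g H) = Nat.card H :=
  Nat.card_congr (H.equivMapOfInjective _ (MulAut.conj g).injective).toEquiv.symm

theorem cj_eq_iff {g : G} {H : Subgroup G} : cj g H = H ↔ g ∈ Subgroup.normalizer (H : Set G) :=
  Subgroup.mem_normalizer_iff_map_conj_eq.symm

/-- The arithmetic statement (package P3-ARITH), for a fixed index type. -/
def ArithStmt (J : Type*) : Prop :=
  ∀ (N k e f : ℕ) (_ : 6 ≤ e) (_ : f = 1 ∨ f = 2) (_ : N = k * (f * e))
    (s : Finset J) (ki ei fi : J → ℕ)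
    (_ : ∀ i ∈ s, 2 ≤ ei i ∧ (fi i = 1 ∨ fi i = 2) ∧ N = ki i * (fi i * ei i))
    (_ : N = 1 + k * (e - 1) + ∑ i ∈ s, ki i * (ei i - 1)), k = 1

section Fin

variable [Fintype G]

/-- The class equation of a partition. -/
theorem card_eq_of_partition (S : Finset (Subgroup G))
    (hcov : ∀ g : G, g ≠ 1 → ∃ C ∈ S, g ∈ C)
    (hdisj : ∀ C ∈ S, ∀ C' ∈ S, C ≠ C' → C ⊓ C' = ⊥) :
    Nat.card G = 1 + ∑ C ∈ S, (Nat.card C - 1) := by
  classical
  have h1 : (Finset.univ.erase (1 : G)) =
      S.biUnion (fun C => (Finset.univ.filter (· ∈ C)).erase 1) := by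
    ext g
    simp only [Finset.mem_erase, Finset.mem_univ, and_true, Finset.mem_biUnion, Finset.mem_filter,
      true_and]
    constructor
    · intro hg
      obtain ⟨C, hC, hgC⟩ := hcov g hg
      exact ⟨C, hC, hg, hgC⟩
    · rintro ⟨C, hC, hg, hgC⟩
      exact hg
  have h2 : (S.biUnion (fun C => (Finset.univ.filter (· ∈ C)).erase (1 : G))).card =
      ∑ C ∈ S, ((Finset.univ.filter (· ∈ C)).erase (1 : G)).card := by
    apply Finset.card_biUnion
    intro C hC C' hC' hne
    show Disjoint _ _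
    rw [Finset.disjoint_left]
    intro g hg hg'
    simp only [Finset.mem_erase, Finset.mem_filter, Finset.mem_univ, true_and] at hg hg'
    have : g ∈ C ⊓ C' := ⟨hg.2, hg'.2⟩
    rw [hdisj C hC C' hC' hne, Subgroup.mem_bot] at this
    exact hg.1 this
  have h3 : ∀ C : Subgroup G, ((Finset.univ.filter (· ∈ C)).erase (1 : G)).card = Nat.card C - 1 := by
    intro C
    rw [Finset.card_erase_of_mem (by simp [C.one_mem])]
    congr 1
    rw [Nat.card_eq_fintype_card, Fintype.card_subtype]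
  have h4 : (Finset.univ.erase (1 : G)).card = Nat.card G - 1 := by
    rw [Finset.card_erase_of_mem (Finset.mem_univ _), Finset.card_univ, Nat.card_eq_fintype_card]
  have hpos : 1 ≤ Nat.card G := Nat.card_pos
  rw [h1, h2] at h4
  simp_rw [h3] at h4
  omega

open Classical in
/-- The conjugacy class of a subgroup, as a finset. -/
noncomputable def orb (H : Subgroup G) : Finset (Subgroup G) := Finset.univ.image (fun g => cj g H)

theorem mem_orb {H H' : Subgroup G} : H' ∈ orb H ↔ ∃ g, cj g H = H' := by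
  classical
  simp [orb]

theorem self_mem_orb (H : Subgroup G) : H ∈ orb H := mem_orb.mpr ⟨1, cj_one H⟩

theorem orb_eq_of_mem {H H' : Subgroup G} (h : H' ∈ orb H) : orb H' = orb H := by
  obtain ⟨g, rfl⟩ := mem_orb.mp h
  ext K
  rw [mem_orb, mem_orb]
  constructor
  · rintro ⟨k, rfl⟩
    exact ⟨k * g, cj_mul k g H⟩
  · rintro ⟨k, rfl⟩
    exact ⟨k * g⁻¹, by rw [← cj_mul, inv_mul_cancel_right]⟩

theorem card_of_mem_orb {H H' : Subgroup G} (h : H' ∈ orb H) : Nat.card H' = Nat.card H := by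
  obtain ⟨g, rfl⟩ := mem_orb.mp h
  exact card_cj g H

/-- Orbit-stabiliser for the conjugation action on subgroups. -/
theorem card_orb_mul (H : Subgroup G) :
    (orb H).card * Nat.card (Subgroup.normalizer (H : Set G)) = Nat.card G := by
  classical
  have h1 : (Finset.univ : Finset G).card =
      ∑ K ∈ orb H, (Finset.univ.filter (fun g => cj g H = K)).card :=
    Finset.card_eq_sum_card_fiberwise (fun g _ => mem_orb.mpr ⟨g, rfl⟩)
  have h2 : ∀ K ∈ orb H, (Finset.univ.filter (fun g => cj g H = K)).card =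
      Nat.card (Subgroup.normalizer (H : Set G)) := by
    intro K hK
    obtain ⟨g0, rfl⟩ := mem_orb.mp hK
    rw [Nat.card_eq_fintype_card, Fintype.card_subtype]
    symm
    apply Finset.card_bij (fun n _ => g0 * n)
    · intro n hn
      simp only [Finset.mem_filter, Finset.mem_univ, true_and] at hn ⊢
      rw [cj_mul, cj_eq_iff.mpr hn]
    · intro a _ b _ hab
      exact mul_left_cancel hab
    · intro g hg
      simp only [Finset.mem_filter, Finset.mem_univ, true_and] at hg
      refine ⟨g0⁻¹ * g, ?_, by simp⟩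
      simp only [Finset.mem_filter, Finset.mem_univ, true_and]
      rw [← cj_eq_iff, cj_mul, hg, ← cj_mul, inv_mul_cancel, cj_one]
  rw [Finset.sum_const_nat h2] at h1
  rw [Nat.card_eq_fintype_card (α := G), ← Finset.card_univ, h1]

/-- The index of `H` in its normaliser is one or two under the hypothesis `hidx`. -/
theorem card_normalizer_cases (H : Subgroup G)
    (hidx : ∀ g h : G, g ∈ Subgroup.normalizer (H : Set G) → h ∈ Subgroup.normalizer (H : Set G) →
      g ∉ H → h ∉ H → g⁻¹ * h ∈ H) :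
    ∃ f, (f = 1 ∨ f = 2) ∧ Nat.card (Subgroup.normalizer (H : Set G)) = f * Nat.card H := by
  classical
  by_cases hN : ∀ g ∈ Subgroup.normalizer (H : Set G), g ∈ H
  · refine ⟨1, Or.inl rfl, ?_⟩
    have : Subgroup.normalizer (H : Set G) = H := le_antisymm hN Subgroup.le_normalizer
    rw [this, one_mul]
  · push Not at hN
    obtain ⟨g, hgN, hgH⟩ := hN
    refine ⟨2, Or.inr rfl, ?_⟩
    have hset : (Finset.univ.filter (· ∈ Subgroup.normalizer (H : Set G))) =
        (Finset.univ.filter (· ∈ H)) ∪ (Finset.univ.filter (· ∈ H)).image (fun c => g * c) := by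
      ext x
      simp only [Finset.mem_filter, Finset.mem_univ, true_and, Finset.mem_union, Finset.mem_image]
      constructor
      · intro hx
        by_cases hxH : x ∈ H
        · exact Or.inl hxH
        · exact Or.inr ⟨g⁻¹ * x, hidx g x hgN hx hgH hxH, by simp⟩
      · rintro (hx | ⟨c, hc, rfl⟩)
        · exact Subgroup.le_normalizer hx
        · exact (Subgroup.normalizer (H : Set G)).mul_mem hgN (Subgroup.le_normalizer hc)
    have hdis : Disjoint (Finset.univ.filter (· ∈ H))
        ((Finset.univ.filter (· ∈ H)).image (fun c => g * c)) := by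
      rw [Finset.disjoint_left]
      intro x hx hx'
      simp only [Finset.mem_filter, Finset.mem_univ, true_and, Finset.mem_image] at hx hx'
      obtain ⟨c, hc, rfl⟩ := hx'
      apply hgH
      have : g = g * c * c⁻¹ := by group
      rw [this]
      exact H.mul_mem hx (H.inv_mem hc)
    have hcard : ((Finset.univ.filter (· ∈ H)).image (fun c => g * c)).card =
        (Finset.univ.filter (· ∈ H)).card :=
      Finset.card_image_of_injective _ (mul_right_injective g)
    rw [Nat.card_eq_fintype_card, Nat.card_eq_fintype_card, Fintype.card_subtype, Fintype.card_subtype, hset,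
      Finset.card_union_of_disjoint hdis, hcard]
    ring

open Classical in
/-- A representative of a non-empty finset of subgroups. -/
noncomputable def rep (O : Finset (Subgroup G)) : Subgroup G := if h : O.Nonempty then h.choose else ⊥

omit [Fintype G] in
theorem rep_mem {O : Finset (Subgroup G)} (h : O.Nonempty) : rep O ∈ O := by
  classical
  unfold rep
  rw [dif_pos h]
  exact h.choose_spec

/-- The finset form of PART: the conjugacy class of `C` is `{C}`. -/
theorem PART_fin (hA : ArithStmt (Finset (Subgroup G))) (S : Finset (Subgroup G))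
    (hcov : ∀ g : G, g ≠ 1 → ∃ C ∈ S, g ∈ C)
    (hdisj : ∀ C ∈ S, ∀ C' ∈ S, C ≠ C' → C ⊓ C' = ⊥)
    (hconj : ∀ C ∈ S, ∀ g : G, cj g C ∈ S)
    (hnt : ∀ C ∈ S, C ≠ ⊥)
    (hidx : ∀ C ∈ S, ∀ g h : G, g ∈ Subgroup.normalizer (C : Set G) →
      h ∈ Subgroup.normalizer (C : Set G) → g ∉ C → h ∉ C → g⁻¹ * h ∈ C)
    (C : Subgroup G) (hC : C ∈ S) (h6 : 6 ≤ Nat.card C) : orb C = {C} := by
  classical
  have horbS : ∀ H ∈ S, orb H ⊆ S := by
    intro H hH K hK
    obtain ⟨g, rfl⟩ := mem_orb.mp hK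
    exact hconj H hH g
  have hrep : ∀ O ∈ S.image orb, rep O ∈ S ∧ orb (rep O) = O := by
    intro O hO
    obtain ⟨H, hH, rfl⟩ := Finset.mem_image.mp hO
    have hm : rep (orb H) ∈ orb H := rep_mem ⟨H, self_mem_orb H⟩
    exact ⟨horbS H hH hm, orb_eq_of_mem hm⟩
  have hf : ∀ H ∈ S, ∃ f, (f = 1 ∨ f = 2) ∧
      Nat.card (Subgroup.normalizer (H : Set G)) = f * Nat.card H :=
    fun H hH => card_normalizer_cases H (hidx H hH)
  choose! ff hff1 hff2 using hf
  have hcl := card_eq_of_partition S hcov hdisj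
  have hre : ∑ H ∈ S, (Nat.card H - 1) = ∑ O ∈ S.image orb, O.card * (Nat.card (rep O) - 1) := by
    rw [← Finset.sum_fiberwise_of_maps_to (g := orb) (t := S.image orb)
      (fun x hx => Finset.mem_image_of_mem orb hx)]
    apply Finset.sum_congr rfl
    intro O hO
    obtain ⟨hrS, hrO⟩ := hrep O hO
    have hfil : S.filter (fun H => orb H = O) = O := by
      ext K
      simp only [Finset.mem_filter]
      constructor
      · rintro ⟨_, hK⟩
        rw [← hK]
        exact self_mem_orb K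
      · intro hK
        rw [← hrO] at hK
        exact ⟨horbS _ hrS hK, by rw [orb_eq_of_mem hK, hrO]⟩
    rw [hfil]
    rw [Finset.sum_const_nat (m := Nat.card (rep O) - 1)]
    intro K hK
    rw [← hrO] at hK
    rw [card_of_mem_orb hK]
  have hCO : orb C ∈ S.image orb := Finset.mem_image_of_mem orb hC
  have hrC : Nat.card (rep (orb C)) = Nat.card C := card_of_mem_orb (rep_mem ⟨C, self_mem_orb C⟩)
  have hk := hA (Nat.card G) (orb C).card (Nat.card C) (ff C) h6 (hff1 C hC)
    (by rw [← hff2 C hC, card_orb_mul])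
    ((S.image orb).erase (orb C)) (fun O => O.card) (fun O => Nat.card (rep O)) (fun O => ff (rep O))
    (by
      intro O hO
      have hO' := Finset.mem_of_mem_erase hO
      obtain ⟨hrS', hrO'⟩ := hrep O hO'
      refine ⟨?_, hff1 _ hrS', ?_⟩
      · have h1 : 1 < Nat.card (rep O) := (rep O).one_lt_card_iff_ne_bot.mpr (hnt _ hrS')
        exact h1
      · have := card_orb_mul (rep O)
        rw [hrO'] at this
        show Nat.card G = O.card * (ff (rep O) * Nat.card (rep O))
        rw [← hff2 _ hrS', this])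
    (by
      rw [hcl, hre, ← Finset.add_sum_erase _ _ hCO, hrC]
      ring)
  obtain ⟨a, ha⟩ := Finset.card_eq_one.mp hk
  have hCa : C ∈ ({a} : Finset (Subgroup G)) := ha ▸ self_mem_orb C
  rw [Finset.mem_singleton] at hCa
  rw [ha, hCa]

end Fin

/-- PART, with the arithmetic statement as a hypothesis. -/
theorem PART_of [Finite G] (hA : ArithStmt (Finset (Subgroup G))) (𝒞 : Set (Subgroup G))
    (hcov : ∀ g : G, g ≠ 1 → ∃ C ∈ 𝒞, g ∈ C)
    (hdisj : ∀ C ∈ 𝒞, ∀ C' ∈ 𝒞, C ≠ C' → C ⊓ C' = ⊥)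
    (hconj : ∀ C ∈ 𝒞, ∀ g : G, C.map (MulAut.conj g).toMonoidHom ∈ 𝒞)
    (hnt : ∀ C ∈ 𝒞, C ≠ ⊥)
    (hidx : ∀ C ∈ 𝒞, ∀ g h : G, g ∈ Subgroup.normalizer (C : Set G) →
      h ∈ Subgroup.normalizer (C : Set G) → g ∉ C → h ∉ C → g⁻¹ * h ∈ C)
    (C : Subgroup G) (hC : C ∈ 𝒞) (h6 : 6 ≤ Nat.card C) : C.Normal := by
  classical
  have := Fintype.ofFinite G
  have hfin : 𝒞.Finite := Set.toFinite 𝒞
  have hmem : ∀ H, H ∈ hfin.toFinset ↔ H ∈ 𝒞 := fun H => Set.Finite.mem_toFinset hfin
  have horb := PART_fin hA hfin.toFinset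
    (fun g hg => by
      obtain ⟨D, hD, hgD⟩ := hcov g hg
      exact ⟨D, (hmem D).mpr hD, hgD⟩)
    (fun D hD D' hD' hne => hdisj D ((hmem D).mp hD) D' ((hmem D').mp hD') hne)
    (fun D hD g => (hmem _).mpr (hconj D ((hmem D).mp hD) g))
    (fun D hD => hnt D ((hmem D).mp hD))
    (fun D hD => hidx D ((hmem D).mp hD))
    C ((hmem C).mpr hC) h6
  refine ⟨fun n hn g => ?_⟩
  have h1 : cj g C ∈ orb C := mem_orb.mpr ⟨g, rfl⟩
  rw [horb, Finset.mem_singleton] at h1
  rw [← h1, mem_cj]
  have : g⁻¹ * (g * n * g⁻¹) * g = n := by group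
  rw [this]
  exact hn

/-- P3-PART. -/
theorem PART {G : Type*} [Group G] [Finite G] (𝒞 : Set (Subgroup G))
    (hcov : ∀ g : G, g ≠ 1 → ∃ C ∈ 𝒞, g ∈ C)
    (hdisj : ∀ C ∈ 𝒞, ∀ C' ∈ 𝒞, C ≠ C' → C ⊓ C' = ⊥)
    (hconj : ∀ C ∈ 𝒞, ∀ g : G, C.map (MulAut.conj g).toMonoidHom ∈ 𝒞)
    (hnt : ∀ C ∈ 𝒞, C ≠ ⊥)
    (hidx : ∀ C ∈ 𝒞, ∀ g h : G, g ∈ Subgroup.normalizer (C : Set G) →
      h ∈ Subgroup.normalizer (C : Set G) → g ∉ C → h ∉ C → g⁻¹ * h ∈ C)
    (C : Subgroup G) (hC : C ∈ 𝒞) (h6 : 6 ≤ Nat.card C) : C.Normal :=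
  PART_of (fun N k e f he hf hN s ki ei fi hi heq =>
    Cfsg.Agent.Lib.Helper41_P3_ARITH.ARITH N k e f he hf hN s ki ei fi hi heq)
    𝒞 hcov hdisj hconj hnt hidx C hC h6

end Cfsg.Agent.Lib.Helper60_P3_PART
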