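import Mathlib
import Cfsg.Agent.Lib.Helper32_P3Defs
import Cfsg.Agent.Lib.Helper32_OFRoot

/-!
# P3 market (architect helper32), package P3-ROT (delivered by helper69)

`ROT` : if the rotation `r_a r_b` has order `k ≤ 5` on the vectors `a, b`, then
`rotPoly (B a b ^ 2) (Q a Q b) = 0`.
-/

set_option autoImplicit false

namespace Cfsg.Agent.Lib.Helper69_P3_ROT

open Module Cfsg.Agent.Lib.Helper94_Symp Cfsg.Agent.Lib.Helper94_OrthSmall
  Cfsg.Agent.Lib.Helper94_OrthSiegel Cfsg.Agent.Lib.Helper32_P3Defs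

variable {F : Type*} [Field F]

/-- `rotPoly` in terms of the trace `τ = t / n - 2` of the rotation -/
theorem rotPoly_tau (τ n : F) :
    rotPoly ((τ + 2) * n) n =
      n ^ 6 * (τ + 2) * (τ - 2) * (τ + 1) * τ * (τ * τ + τ - 1) := by
  unfold rotPoly
  ring

section Ambient

variable {V : Type*} [AddCommGroup V] [Module F V]
variable {Q : V → F} {B : LinearMap.BilinForm F V}

/-- a linear automorphism with `ρ (ρ x) = τ ρ x - x` : one step of the recursion for `ρ ^ k x` -/
theorem pow_step (ρ : V ≃ₗ[F] V) (τ : F) (x : V) (h : ρ (ρ x) = τ • ρ x - x) (k : ℕ) (A C : F)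
    (hk : (ρ ^ k) x = A • ρ x + C • x) :
    (ρ ^ (k + 1)) x = (τ * A + C) • ρ x + (-A) • x := by
  rw [pow_succ', LinearEquiv.mul_apply, hk, map_add, map_smul, map_smul, h]
  module

/-- P3-ROT -/
theorem ROT (hQs : ∀ (a : F) (v : V), Q (a • v) = a * a * Q v)
    (hQp : ∀ u v : V, Q (u + v) = Q u + Q v + B u v) (h2 : (2 : F) ≠ 0) {a b : V}
    (ha : Q a ≠ 0) (hb : Q b ≠ 0) (k : ℕ) (hk1 : 1 ≤ k) (hk5 : k ≤ 5)
    (hk : ((refl Q B hQs hQp ha * refl Q B hQs hQp hb) ^ k) a = a ∧
      ((refl Q B hQs hQp ha * refl Q B hQs hQp hb) ^ k) b = b) :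
    rotPoly (B a b * B a b) (Q a * Q b) = 0 := by
  obtain ⟨-, hkb⟩ := hk
  have hab : B b a = B a b := B_symm Q B hQp b a
  have haa : B a a = 2 * Q a := B_self Q B hQs hQp a
  have hbb : B b b = 2 * Q b := B_self Q B hQs hQp b
  obtain ⟨ρ, hρ⟩ : ∃ ρ : V ≃ₗ[F] V, ρ = refl Q B hQs hQp ha * refl Q B hQs hQp hb := ⟨_, rfl⟩
  rw [← hρ] at hkb
  obtain ⟨β, hβ⟩ : ∃ β : F, β = B a b := ⟨_, rfl⟩
  rw [← hβ] at hab ⊢
  obtain ⟨α, hα⟩ : ∃ α : F, α = (Q a)⁻¹ * β := ⟨_, rfl⟩
  obtain ⟨γ, hγ⟩ : ∃ γ : F, γ = (Q b)⁻¹ * β := ⟨_, rfl⟩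
  have hαa : α * Q a = β := by rw [hα]; field_simp
  have hγb : γ * Q b = β := by rw [hγ]; field_simp
  have hib : (Q b)⁻¹ * (2 * Q b) = 2 := by field_simp
  have hia : (Q a)⁻¹ * (2 * Q a) = 2 := by field_simp
  have hρb : ρ b = α • a - b := by
    rw [hρ, LinearEquiv.mul_apply, refl_apply Q B hQs hQp hb b, refl_apply Q B hQs hQp ha]
    simp only [map_sub, map_smul, LinearMap.sub_apply, LinearMap.smul_apply, smul_eq_mul]
    rw [hbb, hab, hib, hα]
    module
  have hρa : ρ a = (α * γ - 1) • a - γ • b := by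
    rw [hρ, LinearEquiv.mul_apply, refl_apply Q B hQs hQp hb a, refl_apply Q B hQs hQp ha]
    simp only [map_sub, map_smul, LinearMap.sub_apply, LinearMap.smul_apply, smul_eq_mul]
    rw [haa, hab, ← hβ, hα, hγ]
    match_scalars <;> field_simp <;> ring
  obtain ⟨τ, hτ⟩ : ∃ τ : F, τ = α * γ - 2 := ⟨_, rfl⟩
  have hquad : ρ (ρ b) = τ • ρ b - b := by
    rw [hρb, map_sub, map_smul, hρa, hρb, hτ]
    module
  -- the equation `t = (τ + 2) n`
  have ht : β * β = (τ + 2) * (Q a * Q b) := by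
    rw [hτ]
    linear_combination (-(γ * Q b)) * hαa - β * hγb
  rw [ht, rotPoly_tau]
  -- reduction of the vector equation to scalar equations
  have red : ∀ A C : F, A • ρ b + C • b = b →
      β = 0 ∨ (τ + 2) = 0 ∨ (τ - 2) = 0 ∨ (A = 0 ∧ C = 1) := by
    intro A C h
    rw [hρb] at h
    have e1 := congrArg (fun x => B x a) h
    have e2 := congrArg (fun x => B x b) h
    simp only [map_add, map_sub, map_smul, LinearMap.add_apply, LinearMap.sub_apply,
      LinearMap.smul_apply, smul_eq_mul] at e1 e2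
    rw [haa, hab] at e1
    rw [← hβ, hbb] at e2
    by_cases hβ0 : β = 0
    · exact Or.inl hβ0
    right
    have h1 : A + C = 1 := by
      have : β * (A + C - 1) = 0 := by linear_combination e1 - 2 * A * hαa
      rcases mul_eq_zero.mp this with h | h
      · exact absurd h hβ0
      · linear_combination h
    have hC : C = 1 - A := by linear_combination h1
    rw [hC] at e2
    have h3 : A * ((τ - 2) * (Q a * Q b)) = 0 := by
      rw [hτ]
      linear_combination Q a * e2 + A * α * Q a * hγb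
    rcases mul_eq_zero.mp h3 with h | h
    · exact Or.inr (Or.inr ⟨h, by rw [hC, h, sub_zero]⟩)
    · rcases mul_eq_zero.mp h with h | h
      · exact Or.inr (Or.inl h)
      · exact absurd h (mul_ne_zero ha hb)
  -- the recursion
  have p0 : (ρ ^ 0) b = (0 : F) • ρ b + (1 : F) • b := by
    simp
  have p1 := pow_step ρ τ b hquad 0 _ _ p0
  have p2 := pow_step ρ τ b hquad 1 _ _ p1
  have p3 := pow_step ρ τ b hquad 2 _ _ p2
  have p4 := pow_step ρ τ b hquad 3 _ _ p3
  have p5 := pow_step ρ τ b hquad 4 _ _ p4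
  have fin : ∀ A C : F, A • ρ b + C • b = b →
      (A = 0 → C = 1 → (τ + 1) * τ * (τ * τ + τ - 1) = 0) →
      (Q a * Q b) ^ 6 * (τ + 2) * (τ - 2) * (τ + 1) * τ * (τ * τ + τ - 1) = 0 := by
    intro A C h hfin
    rcases red A C h with h | h | h | ⟨h, h'⟩
    · have : τ + 2 = 0 := by
        have h0 : (τ + 2) * (Q a * Q b) = 0 := by rw [← ht, h, mul_zero]
        rcases mul_eq_zero.mp h0 with h | h
        · exact h
        · exact absurd h (mul_ne_zero ha hb)
      rw [this]; ring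
    · rw [h]; ring
    · rw [h]; ring
    · have := hfin h h'
      linear_combination ((Q a * Q b) ^ 6 * (τ + 2) * (τ - 2)) * this
  interval_cases k
  · rw [p1] at hkb
    refine fin _ _ hkb ?_
    intro hA hC
    norm_num at hA
  · rw [p2] at hkb
    refine fin _ _ hkb ?_
    intro hA hC
    exfalso
    apply h2
    linear_combination -hC
  · rw [p3] at hkb
    refine fin _ _ hkb ?_
    intro hA hC
    have : τ + 1 = 0 := by linear_combination -hC
    rw [this]; ring
  · rw [p4] at hkb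
    refine fin _ _ hkb ?_
    intro hA hC
    have : τ * τ = 0 := by linear_combination -hC
    have : τ = 0 := mul_self_eq_zero.mp this
    rw [this]; ring
  · rw [p5] at hkb
    refine fin _ _ hkb ?_
    intro hA hC
    have : τ * τ + τ - 1 = 0 := by linear_combination -hA - τ * hC
    rw [this]; ring

end Ambient

end Cfsg.Agent.Lib.Helper69_P3_ROT
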