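import Mathlib
import Cfsg.Agent.Lib.Helper32_P3Defs
import Cfsg.Agent.Lib.Helper32_OFRoot

/-!
# P3 market (architect helper32), package P3-AXIS

A rotation `g` (isometry of determinant one) of a nondegenerate quadratic space of dimension three in
odd characteristic `p` with `g ^ p ≠ 1` fixing `v ≠ 0`: `Q v ≠ 0` and the fixed space is `span {v}`.

Proof.  (1) If `g` fixes a plane pointwise then `g = 1 + f ⊗ z` is a (dila)transvection, of determinant
`1 + f z`; so `f z = 0`, `(g - 1)^2 = 0` and `g ^ p = 1`.  Hence the fixed space is the line `span {v}`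
(no form needed).  (2) If `Q v = 0`: `range (g - 1) = v^⊥ ∋ v` by dimensions, so `v = g e - e`; `Q (g e) = Q e`
gives `B e v = 0`, so `v^⊥ = span {v, e}` and `(g - 1)^3 = 0`, `g ^ p = 1`.
-/

set_option autoImplicit false

namespace Cfsg.Agent.Lib.Helper78_P3_AXIS

open Module Cfsg.Agent.Lib.Helper94_OrthSmall Cfsg.Agent.Lib.Helper32_P3Defs

variable {F : Type*} [Field F]

section Three

variable {U : Type*} [AddCommGroup U] [Module F U]

/-- Powers of a linear automorphism `g` with `(g - 1)^3 = 0`. -/
theorem pow_apply_of_nil3 (g : U ≃ₗ[F] U)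
    (hnil : ∀ x : U, g (g (g x - x) - (g x - x)) - (g (g x - x) - (g x - x)) = 0)
    (k : ℕ) (x : U) :
    (g ^ k) x = x + (k : F) • (g x - x) + ((k.choose 2 : ℕ) : F) • (g (g x - x) - (g x - x)) := by
  induction k with
  | zero => simp
  | succ k ih =>
    rw [pow_succ', LinearEquiv.mul_apply, ih]
    have h1 : (k + 1).choose 2 = k + k.choose 2 := by
      rw [Nat.choose_succ_succ' k 1, Nat.choose_one_right]
    rw [h1]
    have hn := hnil x
    set n1 := g x - x with hn1
    set n2 := g n1 - n1 with hn2
    have e1 : g x = x + n1 := by rw [hn1]; abel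
    have e2 : g n1 = n1 + n2 := by rw [hn2]; abel
    have e3 : g n2 = n2 := sub_eq_zero.mp hn
    simp only [map_add, map_smul, e1, e2, e3]
    push_cast
    module

/-- `g ^ p = 1` when `(g - 1)^3 = 0`, `p` an odd prime, the characteristic. -/
theorem pow_char_eq_one_of_nil3 (p : ℕ) [Fact p.Prime] [CharP F p] (hp2 : 2 < p) (g : U ≃ₗ[F] U)
    (hnil : ∀ x : U, g (g (g x - x) - (g x - x)) - (g (g x - x) - (g x - x)) = 0) :
    g ^ p = 1 := by
  have hp : p.Prime := Fact.out
  ext x
  rw [pow_apply_of_nil3 g hnil p x]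
  have h1 : ((p : ℕ) : F) = 0 := CharP.cast_eq_zero F p
  have h2 : ((p.choose 2 : ℕ) : F) = 0 :=
    (CharP.cast_eq_zero_iff F p _).mpr (hp.dvd_choose_self (by norm_num) hp2)
  rw [h1, h2, zero_smul, zero_smul, add_zero, add_zero]
  rfl

variable [FiniteDimensional F U]

/-- Two independent vectors in a subspace. -/
theorem two_le_finrank_of_pair (S : Submodule F U) {x y : U} (hx : x ∈ S) (hy : y ∈ S)
    (hind : ∀ s t : F, s • x + t • y = 0 → s = 0 ∧ t = 0) : 2 ≤ finrank F S := by
  have hli : LinearIndependent F ![(⟨x, hx⟩ : S), ⟨y, hy⟩] := by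
    rw [LinearIndependent.pair_iff]
    intro s t hst
    apply hind
    have := congrArg Subtype.val hst
    simpa using this
  have := hli.fintype_card_le_finrank
  simpa using this

/-- (1) The fixed space of a non-unipotent automorphism of determinant one of a 3-space with a fixed
vector is a line. -/
theorem fixed_mem_span (h3 : finrank F U = 3) (p : ℕ) [Fact p.Prime] [CharP F p] (hp2 : 2 < p)
    {g : U ≃ₗ[F] U} (hdet : LinearEquiv.det g = 1) (hgp : g ^ p ≠ 1) {v : U} (hv0 : v ≠ 0)
    (hgv : g v = v) : ∀ w : U, g w = w → w ∈ Submodule.span F {v} := by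
  intro w hgw
  by_contra hw
  apply hgp
  -- independence of `v`, `w`
  have hind : ∀ s t : F, s • v + t • w = 0 → s = 0 ∧ t = 0 := by
    intro s t hst
    have ht : t = 0 := by
      by_contra ht
      apply hw
      have : w = (-(t⁻¹ * s)) • v := by
        have h1 : t • w = -(s • v) := by
          rw [eq_neg_iff_add_eq_zero, add_comm]; exact hst
        calc w = t⁻¹ • (t • w) := by rw [smul_smul, inv_mul_cancel₀ ht, one_smul]
          _ = (-(t⁻¹ * s)) • v := by rw [h1, smul_neg, smul_smul, neg_smul]
      rw [this]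
      exact Submodule.smul_mem _ _ (Submodule.mem_span_singleton_self v)
    rw [ht, zero_smul, add_zero] at hst
    rcases smul_eq_zero.mp hst with h | h
    · exact ⟨h, ht⟩
    · exact absurd h hv0
  have hK2 : 2 ≤ finrank F (fixS g) :=
    two_le_finrank_of_pair (fixS g) (mem_fixS.mpr hgv) (mem_fixS.mpr hgw) hind
  by_cases hKtop : fixS g = ⊤
  · -- `g = 1`
    have : g = 1 := by
      ext x
      have : x ∈ fixS g := by rw [hKtop]; exact Submodule.mem_top
      exact mem_fixS.mp this
    rw [this, one_pow]
  obtain ⟨f, hf0, hKf⟩ := Submodule.exists_le_ker_of_lt_top (fixS g) (lt_top_iff_ne_top.mpr hKtop)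
  have hfin := Module.Dual.finrank_ker_add_one_of_ne_zero hf0
  have hKeq : fixS g = LinearMap.ker f :=
    Submodule.eq_of_le_of_finrank_le hKf (by omega)
  obtain ⟨x0, hx0⟩ : ∃ x, f x ≠ 0 := by
    by_contra hcon
    push Not at hcon
    exact hf0 (LinearMap.ext hcon)
  set e := (f x0)⁻¹ • x0 with he
  have hfe : f e = 1 := by
    rw [he, map_smul, smul_eq_mul, inv_mul_cancel₀ hx0]
  have hNx : ∀ x, g x - x = f x • (g e - e) := by
    intro x
    have hmem : x - f x • e ∈ fixS g := by
      rw [hKeq, LinearMap.mem_ker, map_sub, map_smul, hfe, smul_eq_mul, mul_one, sub_self]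
    have := mem_fixS.mp hmem
    rw [map_sub, map_smul] at this
    rw [smul_sub]
    rw [sub_eq_iff_eq_add] at this ⊢
    rw [this]
    abel
  have hgt : (g : U →ₗ[F] U) = LinearMap.transvection f (g e - e) := by
    ext x
    rw [LinearMap.transvection.apply, ← hNx x]
    simp
  have hdet' : LinearMap.det (g : U →ₗ[F] U) = 1 := by
    rw [← LinearEquiv.coe_det, hdet, Units.val_one]
  rw [hgt, LinearMap.transvection.det] at hdet'
  have hfz : f (g e - e) = 0 := by
    have := hdet'
    rwa [add_eq_left] at this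
  have hz : g (g e - e) = g e - e := by
    apply mem_fixS.mp
    rw [hKeq, LinearMap.mem_ker]
    exact hfz
  apply pow_char_eq_one_of_nil3 p hp2 g
  intro x
  have h1 : g (g x - x) - (g x - x) = 0 := by
    rw [hNx x, map_smul, hz, sub_self]
  rw [h1, map_zero, sub_zero]

variable {Q : U → F} {B : LinearMap.BilinForm F U}

/-! ## P3-AXIS (L) -/
theorem AXIS (hQs : ∀ (a : F) (v : U), Q (a • v) = a * a * Q v)
    (hQp : ∀ u v : U, Q (u + v) = Q u + Q v + B u v) (h2 : (2 : F) ≠ 0) (hN : B.Nondegenerate)
    (h3 : finrank F U = 3) (p : ℕ) [Fact p.Prime] [CharP F p] {g : U ≃ₗ[F] U} (hg : g ∈ oG Q)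
    (hdet : LinearEquiv.det g = 1) (hgp : g ^ p ≠ 1) {v : U} (hv0 : v ≠ 0) (hgv : g v = v) :
    Q v ≠ 0 ∧ ∀ w : U, g w = w → w ∈ Submodule.span F {v} := by
  have hp : p.Prime := Fact.out
  have hp2 : 2 < p := by
    have hne : p ≠ 2 := by
      intro h
      apply h2
      have := CharP.cast_eq_zero F p
      rw [h] at this
      exact_mod_cast this
    have := hp.two_le
    omega
  have hfix := fixed_mem_span h3 p hp2 hdet hgp hv0 hgv
  refine ⟨?_, hfix⟩
  intro hQv
  apply hgp
  have hvv : B v v = 0 := by rw [B_self Q B hQs hQp v, hQv, mul_zero]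
  -- the fixed space is the line through `v`
  have hKeq : fixS g = Submodule.span F {v} := by
    apply le_antisymm
    · intro x hx
      exact hfix x (mem_fixS.mp hx)
    · rw [Submodule.span_singleton_le_iff_mem]
      exact mem_fixS.mpr hgv
  have hK1 : finrank F (fixS g) = 1 := by rw [hKeq]; exact finrank_span_singleton hv0
  -- rank-nullity for `N = g - 1`
  set N : U →ₗ[F] U := (g : U →ₗ[F] U) - LinearMap.id with hNdef
  have hNapp : ∀ x, N x = g x - x := fun x => by simp [hNdef]
  have hrn := LinearMap.finrank_range_add_finrank_ker N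
  have hker : LinearMap.ker N = fixS g := rfl
  rw [hker, hK1, h3] at hrn
  -- the functional `B · v`
  set fv : Module.Dual F U := B.flip v with hfv
  have hfvapp : ∀ x, fv x = B x v := fun x => by simp [hfv]
  have hfv0 : fv ≠ 0 := by
    intro h0
    apply hv0
    apply hN.1 v
    intro y
    rw [B_symm Q B hQp v y, ← hfvapp, h0]
    rfl
  have hfin := Module.Dual.finrank_ker_add_one_of_ne_zero hfv0
  have hle : LinearMap.range N ≤ LinearMap.ker fv := by
    rintro _ ⟨x, rfl⟩
    rw [LinearMap.mem_ker, hfvapp, hNapp, map_sub, LinearMap.sub_apply]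
    have h1 : B (g x) v = B x v := by
      have := oG_B Q B hQp hg x v
      rwa [hgv] at this
    rw [h1, sub_self]
  have hrange : LinearMap.range N = LinearMap.ker fv :=
    Submodule.eq_of_le_of_finrank_le hle (by omega)
  have hvker : v ∈ LinearMap.ker fv := by
    rw [LinearMap.mem_ker, hfvapp]; exact hvv
  obtain ⟨e, hNe⟩ : v ∈ LinearMap.range N := by rw [hrange]; exact hvker
  rw [hNapp] at hNe
  have hge : g e = e + v := by rw [← hNe]; abel
  have hBev : B e v = 0 := by
    have h1 := hg e
    rw [hge, hQp, hQv] at h1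
    linear_combination h1
  have heker : e ∈ LinearMap.ker fv := by
    rw [LinearMap.mem_ker, hfvapp]; exact hBev
  -- `v^⊥ = span {v, e}`
  have hind : ∀ s t : F, s • v + t • e = 0 → s = 0 ∧ t = 0 := by
    intro s t hst
    have h1 := congrArg (fun y => g y - y) hst
    simp only [map_add, map_smul, hgv, hge, map_zero, sub_self] at h1
    have h2' : t • v = 0 := by
      rw [← h1]
      module
    have ht : t = 0 := by
      rcases smul_eq_zero.mp h2' with h | h
      · exact h
      · exact absurd h hv0
    rw [ht, zero_smul, add_zero] at hst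
    rcases smul_eq_zero.mp hst with h | h
    · exact ⟨h, ht⟩
    · exact absurd h hv0
  have hSle : Submodule.span F {v, e} ≤ LinearMap.ker fv := by
    rw [Submodule.span_le]
    intro y hy
    rcases hy with rfl | rfl
    · exact hvker
    · exact heker
  have hS2 : 2 ≤ finrank F (Submodule.span F {v, e}) :=
    two_le_finrank_of_pair _ (Submodule.subset_span (by simp)) (Submodule.subset_span (by simp)) hind
  have hSeq : Submodule.span F {v, e} = LinearMap.ker fv :=
    Submodule.eq_of_le_of_finrank_le hSle (by omega)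
  apply pow_char_eq_one_of_nil3 p hp2 g
  intro x
  have hx : g x - x ∈ Submodule.span F {v, e} := by
    rw [hSeq, ← hrange, ← hNapp]
    exact LinearMap.mem_range_self N x
  obtain ⟨α, β, hαβ⟩ := Submodule.mem_span_pair.mp hx
  rw [← hαβ]
  simp only [map_add, map_smul, hgv, hge, map_sub]
  module

end Three

end Cfsg.Agent.Lib.Helper78_P3_AXIS
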