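import Mathlib
import Cfsg.Agent.Lib.Helper32_P3Defs
import Cfsg.Agent.Lib.Helper32_OFRoot
import Cfsg.Agent.Lib.Helper53_P3_AMBof
import Cfsg.Agent.Lib.Helper78_P3_AXIS

/-!
helper53: P3 package AMB (architect helper32), verbatim: the platonic lemma in ambient form
(`AMB_of_axis` + helper78's `AXIS` on `↥U`).
-/

set_option autoImplicit false
set_option linter.unusedSectionVars false
set_option linter.unusedVariables false

namespace Cfsg.Agent.Lib.Helper53_P3_AMB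

open Module Cfsg.Agent.Lib.Helper94_Symp Cfsg.Agent.Lib.Helper94_OrthSmall
  Cfsg.Agent.Lib.Helper94_OrthSiegel Cfsg.Agent.Lib.Helper32_P3Defs

variable {F : Type*} [Field F]

section Ambient

variable {V : Type*} [AddCommGroup V] [Module F V]
variable {Q : V → F} {B : LinearMap.BilinForm F V}

/-- P3-AMB. -/
theorem AMB [FiniteDimensional F V] (hQs : ∀ (a : F) (v : V), Q (a • v) = a * a * Q v)
    (hQp : ∀ u v : V, Q (u + v) = Q u + Q v + B u v) (h2 : (2 : F) ≠ 0)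
    (p : ℕ) [Fact p.Prime] [CharP F p] (U : Submodule F V) (h3 : finrank F U = 3)
    (hU : ∀ a ∈ U, a ≠ 0 → ∃ x ∈ U, B x a ≠ 0) (K : Subgroup (V ≃ₗ[F] V)) [Finite K]
    (hKO : K ≤ oG Q) (hKU : ∀ g ∈ K, ∀ x ∈ U, g x ∈ U)
    (hirr : ∀ v ∈ U, v ≠ 0 → ∃ g ∈ K, g v ∉ Submodule.span F {v}) :
    (∃ g ∈ K, g ≠ 1 ∧ g ^ p = 1) ∨
    (∀ g ∈ K, ∀ a ∈ U, ∀ b ∈ U, ∀ (ha : Q a ≠ 0) (hb : Q b ≠ 0),
      (∀ x ∈ U, g x = refl Q B hQs hQp ha (refl Q B hQs hQp hb x)) →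
      rotPoly (B a b * B a b) (Q a * Q b) = 0) := by
  have hQs' : ∀ (a : F) (v : ↥U), (fun x : ↥U => Q x) (a • v) = a * a * (fun x : ↥U => Q x) v :=
    fun a v => hQs a v
  have hQp' : ∀ u v : ↥U, (fun x : ↥U => Q x) (u + v) =
      (fun x : ↥U => Q x) u + (fun x : ↥U => Q x) v + (B.restrict U) u v := fun u v => hQp u v
  have hsymm : ∀ u v : V, B u v = B v u := B_symm Q B hQp
  have hN : (B.restrict U).Nondegenerate := by
    have hr : ∀ y : ↥U, (∀ x : ↥U, (B.restrict U) x y = 0) → y = 0 := by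
      intro y hy
      by_contra h0
      obtain ⟨x, hxU, hx⟩ := hU y.1 y.2 (fun h => h0 (Subtype.ext h))
      exact hx (hy ⟨x, hxU⟩)
    refine ⟨?_, hr⟩
    intro x hx
    apply hr x
    intro y
    have := hx y
    show B y.1 x.1 = 0
    rw [hsymm]
    exact this
  refine Cfsg.Agent.Lib.Helper53_P3_AMBof.AMB_of_axis hQs hQp h2 p U h3 hU K hKO hKU hirr ?_
  intro g hg hdet hgp v hv0 hgv
  exact Cfsg.Agent.Lib.Helper78_P3_AXIS.AXIS (Q := fun x : ↥U => Q x) (B := B.restrict U)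
    hQs' hQp' h2 hN h3 p hg hdet hgp hv0 hgv

end Ambient

end Cfsg.Agent.Lib.Helper53_P3_AMB
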