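import Mathlib
import Cfsg.Agent.Lib.Helper53_Conj

/-!
Small lemmas on `p`-subgroups of a finite group, viewed inside the ambient group:
centre of a subgroup as a subgroup of `G`, normalizers grow, Sylow cardinalities.
-/

set_option autoImplicit false

namespace Cfsg.Agent.Lib.Helper53_PGroup

open Cfsg.Agent.Lib.Helper53_Conj

variable {G : Type*} [Group G]

/-- `Z(H)` viewed inside `G`. -/
abbrev centerOf (H : Subgroup G) : Subgroup G := (Subgroup.center ↥H).map H.subtype

theorem mem_centerOf {H : Subgroup G} {x : G} :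
    x ∈ centerOf H ↔ x ∈ H ∧ ∀ h ∈ H, h * x = x * h := by
  constructor
  · rintro ⟨z, hz, rfl⟩
    refine ⟨z.2, fun h hh => ?_⟩
    have := Subgroup.mem_center_iff.mp hz ⟨h, hh⟩
    exact congrArg Subtype.val this
  · rintro ⟨hx, hc⟩
    have hz : (⟨x, hx⟩ : ↥H) ∈ Subgroup.center ↥H := by
      rw [Subgroup.mem_center_iff]
      rintro ⟨h, hh⟩
      ext
      exact hc h hh
    exact ⟨⟨x, hx⟩, hz, rfl⟩

theorem centerOf_le (H : Subgroup G) : centerOf H ≤ H := fun _ hx => (mem_centerOf.mp hx).1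

theorem centerOf_cj (g : G) (H : Subgroup G) : centerOf (cj g H) = cj g (centerOf H) := by
  ext x
  rw [mem_cj, mem_centerOf, mem_centerOf, mem_cj]
  constructor
  · rintro ⟨hx, hc⟩
    refine ⟨hx, fun h hh => ?_⟩
    have h1 := hc (g * h * g⁻¹) (conj_mem_cj hh)
    have h2 : h * (g⁻¹ * x * g) = g⁻¹ * (g * h * g⁻¹ * x) * g := by group
    rw [h2, h1]; group
  · rintro ⟨hx, hc⟩
    refine ⟨hx, fun h hh => ?_⟩
    have h1 := hc (g⁻¹ * h * g) (mem_cj.mp hh)
    have h2 : h * x = g * (g⁻¹ * h * g * (g⁻¹ * x * g)) * g⁻¹ := by group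
    rw [h2, h1]; group

/-- In a finite `p`-subgroup `S`, a proper subgroup `D` is properly contained in its normalizer
in `S`. -/
theorem exists_mem_normalizer_not_mem [Finite G] {p : ℕ} [Fact p.Prime] {S D : Subgroup G}
    (hS : IsPGroup p ↥S) (hDS : D < S) :
    ∃ s ∈ S, s ∈ Subgroup.normalizer (D : Set G) ∧ s ∉ D := by
  haveI : Group.IsNilpotent ↥S := hS.isNilpotent
  have hnc := Group.normalizerCondition_of_isNilpotent (G := ↥S)
  have hlt : D.subgroupOf S < ⊤ := by
    rw [lt_top_iff_ne_top]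
    intro h
    rw [Subgroup.subgroupOf_eq_top] at h
    exact absurd (le_antisymm hDS.le h) hDS.ne
  have h1 := hnc _ hlt
  obtain ⟨s, hsN, hsD⟩ := SetLike.exists_of_lt h1
  refine ⟨s, s.2, ?_, ?_⟩
  · rw [Subgroup.mem_normalizer_iff] at hsN ⊢
    intro g
    constructor
    · intro hg
      have := (hsN ⟨g, hDS.le hg⟩).1 (by rw [Subgroup.mem_subgroupOf]; exact hg)
      rw [Subgroup.mem_subgroupOf] at this
      simpa using this
    · intro hg
      have hgS : g ∈ S := by
        have h5 : (s : G) * g * (s : G)⁻¹ ∈ S := hDS.le hg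
        have : g = (s : G)⁻¹ * ((s : G) * g * (s : G)⁻¹) * (s : G) := by group
        rw [this]
        exact S.mul_mem (S.mul_mem (S.inv_mem s.2) h5) s.2
      have := (hsN ⟨g, hgS⟩).2 (by rw [Subgroup.mem_subgroupOf]; simpa using hg)
      rw [Subgroup.mem_subgroupOf] at this
      exact this
  · intro h
    apply hsD
    rw [Subgroup.mem_subgroupOf]
    exact h

/-- a `p`-subgroup has at most the order of a Sylow `p`-subgroup -/
theorem card_le_card_sylow [Finite G] {p : ℕ} [Fact p.Prime] {P : Subgroup G}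
    (hP : IsPGroup p ↥P) (S : Sylow p G) : Nat.card ↥P ≤ Nat.card ↥(S : Subgroup G) := by
  obtain ⟨Q, hQ⟩ := hP.exists_le_sylow
  have h1 : Nat.card ↥P ≤ Nat.card ↥(Q : Subgroup G) := Subgroup.card_le_of_le hQ
  have h2 : Nat.card ↥(Q : Subgroup G) = Nat.card ↥(S : Subgroup G) := by
    rw [Sylow.card_eq_multiplicity, Sylow.card_eq_multiplicity]
  omega

/-- two Sylow subgroups with one contained in the other are equal -/
theorem sylow_eq_of_le [Finite G] {p : ℕ} [Fact p.Prime] {S T : Sylow p G}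
    (h : (S : Subgroup G) ≤ (T : Subgroup G)) : S = T := by
  apply Sylow.ext
  apply eq_of_le_of_card_le h
  rw [Sylow.card_eq_multiplicity, Sylow.card_eq_multiplicity]

end Cfsg.Agent.Lib.Helper53_PGroup
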