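import Cfsg.Agent.Lib.Helper36_TwistWeylE6

/-!
S2130 package INV (architect helper36): the elements of the twisted Weyl group `W¹` of `²E₆` (type `F₄`, 1152 elements)
with `0`, `1`, `2` inversions.  Instead of evaluating the Poincaré sum at a big numeral we factor an element along the
chain of parabolic subgroups (`factor_step`, from `exists_factor`, `step_closure`, `step_add`): the number of
inversions is the sum of the listed lengths of the four coset representatives.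
-/

set_option autoImplicit false

namespace Cfsg.Agent.Lib.Helper53_S2130_INV

open Cfsg.Agent.Lib.Helper36_WeylChain
  Cfsg.Agent.Lib.Helper36_WeylLit Cfsg.Agent.Lib.Helper36_WeylLit.RootLit Cfsg.Agent.Lib.Helper36_WeylPoin
  Cfsg.Agent.Lib.Helper36_TwistWeylE6 Cfsg.Agent.Lib.Helper36_ChevDataE6Lit

/-- One step of the chain, elementwise: `x = v u` with `v` a listed coset representative, and the number of inversions
is additive. -/
theorem factor_step (L : RootLit) (h : L.WF) (st : Step) (hst : L.StepOK st) (x : Equiv.Perm (Fin L.n))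
    (hx : x ∈ L.W h st.J) :
    ∃ k < st.V.length, ∃ u ∈ L.W h st.J', x = L.wPerm h (st.ent k).word * u ∧
      inv L.Pos x = st.lens.getD k 0 + inv L.Pos u := by
  have h1 : (1 : Equiv.Perm (Fin L.n)) ∈ (L.Vset h st : Set (Equiv.Perm (Fin L.n))) := by
    rw [Finset.mem_coe, L.mem_Vset]
    refine ⟨0, hst.hne, ?_⟩
    rcases hst.entries 0 hst.hne with ⟨-, hw, -⟩ | ⟨h0, -⟩
    · rw [hw]; rfl
    · exact absurd h0 (lt_irrefl 0)
  unfold W at hx
  obtain ⟨v, hv, u, hu, e⟩ := exists_factor {g | ∃ i ∈ st.J, g = L.sPerm h i}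
    (by rintro s ⟨i, -, rfl⟩; exact L.sPerm_mul_self h i) (L.W h st.J')
    (L.Vset h st : Set (Equiv.Perm (Fin L.n))) h1
    (by
      rintro s ⟨i, hi, rfl⟩ v hv
      obtain ⟨v', hv', u, hu, e⟩ := L.step_closure h st hst i hi v (by exact_mod_cast hv)
      exact ⟨v', by exact_mod_cast hv', u, hu, e⟩) x hx
  obtain ⟨k, hk, rfl⟩ := (L.mem_Vset h st v).mp (by exact_mod_cast hv)
  refine ⟨k, hk, u, hu, e, ?_⟩
  rw [e, L.step_add h st hst k hk u hu, L.inv_eq_invCount h st hst k hk, hst.hlens]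
  congr 1
  have hk' : k < (st.V.map (fun e => L.invCount e.img)).length := by
    rw [List.length_map]; exact hk
  unfold Step.ent
  rw [List.getD_eq_getElem _ _ hk', List.getElem_map, List.getD_eq_getElem _ _ hk]

/-- the factorisation of an element of the twisted Weyl group along the chain -/
theorem factor_all (x : Equiv.Perm (Fin lit.n)) (hx : x ∈ lit'.W wf' (List.range 4)) :
    ∃ k0 < tstep0.V.length, ∃ k1 < tstep1.V.length, ∃ k2 < tstep2.V.length, ∃ k3 < tstep3.V.length,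
      x = lit'.wPerm wf' (tstep0.ent k0).word * (lit'.wPerm wf' (tstep1.ent k1).word *
        (lit'.wPerm wf' (tstep2.ent k2).word * lit'.wPerm wf' (tstep3.ent k3).word)) ∧
      inv lit.Pos x = tstep0.lens.getD k0 0 + (tstep1.lens.getD k1 0 +
        (tstep2.lens.getD k2 0 + tstep3.lens.getD k3 0)) := by
  obtain ⟨k0, hk0, u0, hu0, e0, i0⟩ := factor_step lit' wf' tstep0 tstepOK0 x hx
  obtain ⟨k1, hk1, u1, hu1, e1, i1⟩ := factor_step lit' wf' tstep1 tstepOK1 u0 hu0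
  obtain ⟨k2, hk2, u2, hu2, e2, i2⟩ := factor_step lit' wf' tstep2 tstepOK2 u1 hu1
  obtain ⟨k3, hk3, u3, hu3, e3, i3⟩ := factor_step lit' wf' tstep3 tstepOK3 u2 hu2
  have hu3' : u3 = 1 := by
    have : u3 ∈ lit'.W wf' [] := hu3
    rw [lit'.W_nil wf', Subgroup.mem_bot] at this
    exact this
  refine ⟨k0, hk0, k1, hk1, k2, hk2, k3, hk3, ?_, ?_⟩
  · rw [e0, e1, e2, e3, hu3', mul_one]
  · have i0' : inv lit.Pos x = tstep0.lens.getD k0 0 + inv lit.Pos u0 := i0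
    have i1' : inv lit.Pos u0 = tstep1.lens.getD k1 0 + inv lit.Pos u1 := i1
    have i2' : inv lit.Pos u1 = tstep2.lens.getD k2 0 + inv lit.Pos u2 := i2
    have i3' : inv lit.Pos u2 = tstep3.lens.getD k3 0 + inv lit.Pos u3 := i3
    rw [i0', i1', i2', i3', hu3', Cfsg.Agent.Lib.Helper36_WeylChain.inv_one, add_zero]

theorem lens0 : ∀ k < tstep0.V.length, tstep0.lens.getD k 0 ≤ 2 → k < 3 := by decide
theorem lens1 : ∀ k < tstep1.V.length, tstep1.lens.getD k 0 ≤ 2 → k < 2 := by decide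
theorem lens2 : ∀ k < tstep2.V.length, tstep2.lens.getD k 0 ≤ 2 → k < 2 := by decide
theorem lens3 : ∀ k < tstep3.V.length, tstep3.lens.getD k 0 ≤ 2 → k < 2 := by decide

theorem case0 (k : ℕ) (hk : k < 3) :
    (lit'.wPerm wf' (tstep0.ent k).word = 1 ∧ tstep0.lens.getD k 0 = 0) ∨
    (lit'.wPerm wf' (tstep0.ent k).word = lit'.sPerm wf' 0 ∧ tstep0.lens.getD k 0 = 1) ∨
    (lit'.wPerm wf' (tstep0.ent k).word = lit'.sPerm wf' 1 * lit'.sPerm wf' 0 ∧
      tstep0.lens.getD k 0 = 2) := by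
  interval_cases k
  · left; exact ⟨rfl, rfl⟩
  · right; left
    refine ⟨?_, rfl⟩
    show lit'.wPerm wf' [0] = _
    rw [wPerm_cons, wPerm_nil, mul_one]
  · right; right
    refine ⟨?_, rfl⟩
    show lit'.wPerm wf' [1, 0] = _
    rw [wPerm_cons, wPerm_cons, wPerm_nil, mul_one]

theorem case1 (k : ℕ) (hk : k < 2) :
    (lit'.wPerm wf' (tstep1.ent k).word = 1 ∧ tstep1.lens.getD k 0 = 0) ∨
    (lit'.wPerm wf' (tstep1.ent k).word = lit'.sPerm wf' 2 ∧ tstep1.lens.getD k 0 = 2) := by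
  interval_cases k
  · left; exact ⟨rfl, rfl⟩
  · right
    refine ⟨?_, rfl⟩
    show lit'.wPerm wf' [2] = _
    rw [wPerm_cons, wPerm_nil, mul_one]

theorem case2 (k : ℕ) (hk : k < 2) :
    (lit'.wPerm wf' (tstep2.ent k).word = 1 ∧ tstep2.lens.getD k 0 = 0) ∨
    (lit'.wPerm wf' (tstep2.ent k).word = lit'.sPerm wf' 1 ∧ tstep2.lens.getD k 0 = 1) := by
  interval_cases k
  · left; exact ⟨rfl, rfl⟩
  · right
    refine ⟨?_, rfl⟩
    show lit'.wPerm wf' [1] = _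
    rw [wPerm_cons, wPerm_nil, mul_one]

theorem case3 (k : ℕ) (hk : k < 2) :
    (lit'.wPerm wf' (tstep3.ent k).word = 1 ∧ tstep3.lens.getD k 0 = 0) ∨
    (lit'.wPerm wf' (tstep3.ent k).word = lit'.sPerm wf' 3 ∧ tstep3.lens.getD k 0 = 2) := by
  interval_cases k
  · left; exact ⟨rfl, rfl⟩
  · right
    refine ⟨?_, rfl⟩
    show lit'.wPerm wf' [3] = _
    rw [wPerm_cons, wPerm_nil, mul_one]

/-- the elements with at most two inversions -/
theorem inv_le_two (x : Equiv.Perm (Fin lit.n)) (hx : x ∈ lit'.W wf' (List.range 4))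
    (h : inv lit.Pos x ≤ 2) :
    (x = 1 ∧ inv lit.Pos x = 0) ∨
    ((x = lit'.sPerm wf' 0 ∨ x = lit'.sPerm wf' 1) ∧ inv lit.Pos x = 1) ∨
    ((x = lit'.sPerm wf' 2 ∨ x = lit'.sPerm wf' 3 ∨ x = lit'.sPerm wf' 0 * lit'.sPerm wf' 1 ∨
      x = lit'.sPerm wf' 1 * lit'.sPerm wf' 0) ∧ inv lit.Pos x = 2) := by
  obtain ⟨k0, hk0, k1, hk1, k2, hk2, k3, hk3, hx', hinv⟩ := factor_all x hx
  have h0 := case0 k0 (lens0 k0 hk0 (by omega))
  have h1 := case1 k1 (lens1 k1 hk1 (by omega))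
  have h2 := case2 k2 (lens2 k2 hk2 (by omega))
  have h3 := case3 k3 (lens3 k3 hk3 (by omega))
  rcases h0 with ⟨w0, l0⟩ | ⟨w0, l0⟩ | ⟨w0, l0⟩ <;>
  rcases h1 with ⟨w1, l1⟩ | ⟨w1, l1⟩ <;>
  rcases h2 with ⟨w2, l2⟩ | ⟨w2, l2⟩ <;>
  rcases h3 with ⟨w3, l3⟩ | ⟨w3, l3⟩ <;>
  rw [w0, w1, w2, w3] at hx' <;>
  rw [l0, l1, l2, l3] at hinv <;>
  first
    | (exfalso; omega)
    | (simp only [mul_one, one_mul] at hx'; rw [hinv]; simp [hx'])

theorem inv_zero (x : Equiv.Perm (Fin lit.n)) (hx : x ∈ lit'.W wf' (List.range 4)) (h : inv lit.Pos x = 0) :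
    x = 1 := by
  rcases inv_le_two x hx (by omega) with ⟨h1, -⟩ | ⟨-, h2⟩ | ⟨-, h2⟩
  · exact h1
  · omega
  · omega

theorem inv_one (x : Equiv.Perm (Fin lit.n)) (hx : x ∈ lit'.W wf' (List.range 4)) (h : inv lit.Pos x = 1) :
    x = lit'.sPerm wf' 0 ∨ x = lit'.sPerm wf' 1 := by
  rcases inv_le_two x hx (by omega) with ⟨-, h2⟩ | ⟨h1, -⟩ | ⟨-, h2⟩
  · omega
  · exact h1
  · omega

theorem inv_two (x : Equiv.Perm (Fin lit.n)) (hx : x ∈ lit'.W wf' (List.range 4)) (h : inv lit.Pos x = 2) :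
    x = lit'.sPerm wf' 2 ∨ x = lit'.sPerm wf' 3 ∨ x = lit'.sPerm wf' 0 * lit'.sPerm wf' 1 ∨
      x = lit'.sPerm wf' 1 * lit'.sPerm wf' 0 := by
  rcases inv_le_two x hx (by omega) with ⟨-, h2⟩ | ⟨-, h2⟩ | ⟨h1, -⟩
  · omega
  · omega
  · exact h1

-- sanity: the values of inv on the candidates
theorem inv_gens : inv lit.Pos (lit'.sPerm wf' 0) = 1 ∧ inv lit.Pos (lit'.sPerm wf' 1) = 1 ∧
    inv lit.Pos (lit'.sPerm wf' 2) = 2 ∧ inv lit.Pos (lit'.sPerm wf' 3) = 2 := by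
  decide +kernel

end Cfsg.Agent.Lib.Helper53_S2130_INV
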