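import Mathlib
import Cfsg.Agent.Lib.Helper30_S2316Defs

/-!
# s2316_packages BLK (helper53 for helper30): the block function `blk` (pure combinatorics of
`Finset.range` / `filter` / `card`), the gap roots, and surjectivity of the height.
-/

set_option autoImplicit false
set_option linter.unusedSectionVars false
set_option linter.unusedVariables false

namespace Cfsg.Agent.Lib.Helper30_S2316

open Matrix Cfsg Cfsg.Agent.Lib.Helper68_MatGrp Cfsg.Agent.Lib.Helper5_SpPerfect
  Cfsg.Agent.Lib.Helper68_StSpDefs Cfsg.Agent.Lib.Helper68_StSp Cfsg.Agent.Lib.Helper44_SpUT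
  Cfsg.Agent.Lib.Helper68_StAbs Cfsg.Agent.Lib.Helper6_Word Cfsg.Agent.Lib.Helper6_BNPair
  Cfsg.Agent.Lib.Helper81_BNSteinberg Cfsg.Agent.Lib.Helper81_BNIndex Cfsg.Agent.Lib.Helper81_BNBorel

section blk

variable {m : ℕ} (J : Finset (Fin m))

theorem blk_mono {a b : Fin m ⊕ Fin m} (h : ht m a ≤ ht m b) : blk m J a ≤ blk m J b := by
  unfold blk
  apply Finset.card_le_card
  apply Finset.filter_subset_filter
  exact Finset.range_subset_range.mpr h

theorem blk_succ {a b : Fin m ⊕ Fin m} (h : ht m b = ht m a + 1) (hc : ¬ IsCut m J (ht m a)) :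
    blk m J b = blk m J a := by
  unfold blk
  rw [h, Finset.range_add_one, Finset.filter_insert, if_neg hc]

theorem not_isCut_of_blk_eq {a b : Fin m ⊕ Fin m} (hb : blk m J a = blk m J b) (g : ℕ)
    (h1 : ht m a ≤ g) (h2 : g < ht m b) : ¬ IsCut m J g := by
  intro hcut
  unfold blk at hb
  have hsub : (Finset.range (ht m a)).filter (IsCut m J) ⊂ (Finset.range (ht m b)).filter (IsCut m J) := by
    rw [Finset.ssubset_iff_of_subset
      (Finset.filter_subset_filter _ (Finset.range_subset_range.mpr (by omega)))]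
    refine ⟨g, ?_, ?_⟩
    · rw [Finset.mem_filter, Finset.mem_range]
      exact ⟨h2, hcut⟩
    · rw [Finset.mem_filter, Finset.mem_range]
      intro h
      omega
  have := Finset.card_lt_card hsub
  omega

theorem not_isCut_iff (g : ℕ) : ¬ IsCut m J g ↔ ∃ j ∈ J, (j : ℕ) = gapRoot m g := by
  unfold IsCut
  constructor
  · intro h
    by_contra hcon
    apply h
    intro j hj hjg
    exact hcon ⟨j, hj, hjg⟩
  · rintro ⟨j, hj, hjg⟩ h
    exact h j hj hjg

theorem gapRoot_low {g : ℕ} (hg : g + 1 ≤ m) : gapRoot m g = g := by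
  unfold gapRoot
  apply min_eq_left
  omega

theorem gapRoot_high {g : ℕ} (hg : m ≤ g + 1) (hg' : g + 2 ≤ 2 * m) : gapRoot m g = 2 * m - 2 - g := by
  unfold gapRoot
  apply min_eq_right
  omega

theorem exists_ht_eq {k : ℕ} (hk : k < 2 * m) : ∃ c : Fin m ⊕ Fin m, ht m c = k := by
  by_cases h : k < m
  · exact ⟨Sum.inl ⟨k, h⟩, rfl⟩
  · refine ⟨Sum.inr ⟨2 * m - 1 - k, by omega⟩, ?_⟩
    rw [ht_inr]
    show 2 * m - 1 - (2 * m - 1 - k) = k
    omega

end blk

end Cfsg.Agent.Lib.Helper30_S2316
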