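import Mathlib
import Cfsg.Agent.Lib.Helper77_SLnDefs

/-!
# S2332: basic facts on `NN q n = 1 + q + ... + q^(n-1)` (helper53 for helper77)
-/

set_option autoImplicit false
open Cfsg.Agent.Lib.Helper77_SLnDefs

namespace Cfsg.Agent.Lib.Helper53_S2332_NNBasic

theorem NN_zero (q : ℕ) : NN q 0 = 0 := by simp [NN]

theorem NN_succ (q n : ℕ) : NN q (n + 1) = NN q n + q ^ n := by
  simp [NN, Finset.sum_range_succ]

theorem NN_succ' (q n : ℕ) : NN q (n + 1) = 1 + q * NN q n := by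
  simp only [NN]
  rw [Finset.sum_range_succ', Finset.mul_sum, pow_zero, add_comm]
  congr 1
  apply Finset.sum_congr rfl
  intro i _
  rw [pow_succ, mul_comm]

/-- `(q - 1) N_n + 1 = q^n`, written with `q = p + 1`. -/
theorem pred_mul_NN (p n : ℕ) : p * NN (p + 1) n + 1 = (p + 1) ^ n := by
  induction n with
  | zero => simp [NN_zero]
  | succ n ih =>
    rw [NN_succ, pow_succ, ← ih]
    ring

theorem one_le_NN (q n : ℕ) (hn : 1 ≤ n) : 1 ≤ NN q n := by
  obtain ⟨k, rfl⟩ : ∃ k, n = k + 1 := ⟨n - 1, by omega⟩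
  rw [NN_succ']
  omega

end Cfsg.Agent.Lib.Helper53_S2332_NNBasic
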