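import Mathlib
import Cfsg.Agent.Lib.Helper77_SLnDefs
import Cfsg.Prelude.Def_Characters
import Cfsg.Agent.Lib.Helper53_S2332_NNBasic

set_option autoImplicit false
open Matrix Cfsg.Agent.Lib.Helper5_Transv Cfsg.Agent.Lib.Helper77_SLnDefs
open Cfsg.Agent.Lib.Helper53_S2332_NNBasic

namespace Cfsg.Agent.Lib.Helper53_S2332_B3ARITH

variable {F : Type*} [Field F] [Fintype F] [DecidableEq F] {κ : Type} [Fintype κ] [DecidableEq κ]
  {V : Type} [AddCommGroup V] [Module ℂ V] [FiniteDimensional ℂ V]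

theorem b3arith (q : ℕ) (hpp : IsPrimePow q) (hq2 : q ≠ 2) (hq4 : q ≠ 4) :
    ¬ (q ^ 2 + q - 2 ∣ NN q 3 * (q ^ 2 - 1) * (1 * q ^ 2)) := by
  have hq : 2 ≤ q := hpp.two_le
  obtain ⟨p, rfl⟩ : ∃ p, q = p + 1 := ⟨q - 1, by omega⟩
  have hp : 1 ≤ p := by omega
  have hNN : NN (p + 1) 3 = 1 + (p + 1) + (p + 1) ^ 2 := by
    simp [NN, Finset.sum_range_succ]
  have e1 : (p + 1) ^ 2 + (p + 1) - 2 = p * (p + 3) := by
    have : (p + 1) ^ 2 + (p + 1) = p * (p + 3) + 2 := by ring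
    omega
  have e2 : (p + 1) ^ 2 - 1 = p * (p + 2) := by
    have : (p + 1) ^ 2 = p * (p + 2) + 1 := by ring
    omega
  rw [hNN, e1, e2, one_mul]
  intro hdvd
  have h1 : p * (p + 3) ∣ p * ((1 + (p + 1) + (p + 1) ^ 2) * (p + 2) * (p + 1) ^ 2) := by
    have : (1 + (p + 1) + (p + 1) ^ 2) * (p * (p + 2)) * (p + 1) ^ 2 =
        p * ((1 + (p + 1) + (p + 1) ^ 2) * (p + 2) * (p + 1) ^ 2) := by ring
    rwa [this] at hdvd
  have h2 : p + 3 ∣ (1 + (p + 1) + (p + 1) ^ 2) * (p + 2) * (p + 1) ^ 2 :=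
    Nat.dvd_of_mul_dvd_mul_left (by omega) h1
  -- modulo `q + 2 = p + 3` the product is `-12`
  have h3 : p + 3 ∣ 12 := by
    have key : (1 + (p + 1) + (p + 1) ^ 2) * (p + 2) * (p + 1) ^ 2 + 12 + (p + 3) * (3 * (p + 1)) =
        (p + 3) * ((p + 1) ^ 4 + 2 * (p + 1) ^ 2 + 6) := by ring
    have h4 : p + 3 ∣ (1 + (p + 1) + (p + 1) ^ 2) * (p + 2) * (p + 1) ^ 2 + 12 +
        (p + 3) * (3 * (p + 1)) := by rw [key]; exact dvd_mul_right _ _
    have h5 : p + 3 ∣ (1 + (p + 1) + (p + 1) ^ 2) * (p + 2) * (p + 1) ^ 2 + 12 :=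
      (Nat.dvd_add_left (dvd_mul_right _ _)).mp h4
    exact (Nat.dvd_add_right h2).mp h5
  have h6 : p + 3 ≤ 12 := Nat.le_of_dvd (by norm_num) h3
  have hp9 : p ≤ 9 := by omega
  interval_cases p <;> first | omega | skip
  -- remaining: `q = 10`
  have := (isPrimePow_nat_iff 10).mp hpp
  obtain ⟨r, j, hr, hj, hrj⟩ := this
  have hr10 : r ∣ 10 := by
    rw [← hrj]; exact dvd_pow_self r hj.ne'
  have h25 : r = 2 ∨ r = 5 := by
    have : r ∣ 2 * 5 := hr10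
    rcases (Nat.Prime.dvd_mul hr).mp this with h | h
    · left; exact (Nat.prime_dvd_prime_iff_eq hr Nat.prime_two).mp h
    · right; exact (Nat.prime_dvd_prime_iff_eq hr Nat.prime_five).mp h
  rcases h25 with rfl | rfl
  · have : 5 ∣ 2 ^ j := by rw [hrj]; norm_num
    have := (Nat.Prime.dvd_of_dvd_pow Nat.prime_five this)
    omega
  · have : 2 ∣ 5 ^ j := by rw [hrj]; norm_num
    have := (Nat.Prime.dvd_of_dvd_pow Nat.prime_two this)
    omega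

end Cfsg.Agent.Lib.Helper53_S2332_B3ARITH
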