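import Mathlib
import Cfsg.Agent.Lib.Helper77_SLnDefs
import Cfsg.Prelude.Def_Characters
import Cfsg.Agent.Lib.Helper53_S2332_NNBasic

set_option autoImplicit false
open Matrix Cfsg.Agent.Lib.Helper5_Transv Cfsg.Agent.Lib.Helper77_SLnDefs
open Cfsg.Agent.Lib.Helper53_S2332_NNBasic

namespace Cfsg.Agent.Lib.Helper53_S2332_E2

variable {F : Type*} [Field F] [Fintype F] [DecidableEq F] {κ : Type} [Fintype κ] [DecidableEq κ]
  {V : Type} [AddCommGroup V] [Module ℂ V] [FiniteDimensional ℂ V]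

theorem e_ge_two (q m e f : ℕ) (hq : 2 ≤ q) (hm : 1 ≤ m) (he : 2 ≤ e) :
    NN q (m + 1) - 1 ≤ f + e * (q ^ m - 1) := by
  obtain ⟨p, rfl⟩ : ∃ p, q = p + 1 := ⟨q - 1, by omega⟩
  have hp : 1 ≤ p := by omega
  have h := pred_mul_NN p m
  rw [NN_succ', ← h]
  have e1 : 1 + (p + 1) * NN (p + 1) m - 1 = (p + 1) * NN (p + 1) m := by omega
  have e2 : p * NN (p + 1) m + 1 - 1 = p * NN (p + 1) m := by omega
  rw [e1, e2]
  have h2 : 2 * (p * NN (p + 1) m) ≤ e * (p * NN (p + 1) m) := Nat.mul_le_mul_right _ he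
  have h3 : NN (p + 1) m ≤ p * NN (p + 1) m := Nat.le_mul_of_pos_left _ hp
  nlinarith

end Cfsg.Agent.Lib.Helper53_S2332_E2
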