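import Mathlib
import Cfsg.Agent.Lib.Helper77_SLnDefs
import Cfsg.Prelude.Def_Characters
import Cfsg.Agent.Lib.Helper53_S2332_NNBasic

set_option autoImplicit false
open Matrix Cfsg.Agent.Lib.Helper5_Transv Cfsg.Agent.Lib.Helper77_SLnDefs
open Cfsg.Agent.Lib.Helper53_S2332_NNBasic

namespace Cfsg.Agent.Lib.Helper53_S2332_NNFORM

variable {F : Type*} [Field F] [Fintype F] [DecidableEq F] {κ : Type} [Fintype κ] [DecidableEq κ]
  {V : Type} [AddCommGroup V] [Module ℂ V] [FiniteDimensional ℂ V]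

theorem nn_form (q n : ℕ) (hq : 2 ≤ q) (hn : 1 ≤ n) : (q ^ n - q) / (q - 1) = NN q n - 1 := by
  obtain ⟨p, rfl⟩ : ∃ p, q = p + 1 := ⟨q - 1, by omega⟩
  have h := pred_mul_NN p n
  have h1 := one_le_NN (p + 1) n hn
  rw [Nat.add_sub_cancel]
  apply Nat.div_eq_of_eq_mul_right (by omega)
  obtain ⟨M, hM⟩ : ∃ M, NN (p + 1) n = M + 1 := ⟨NN (p + 1) n - 1, by omega⟩
  rw [hM] at h ⊢
  rw [Nat.add_sub_cancel, ← h]
  have : p * (M + 1) + 1 - (p + 1) = p * M := by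
    rw [mul_add, mul_one]; omega
  exact this

end Cfsg.Agent.Lib.Helper53_S2332_NNFORM
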