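import Mathlib
import Cfsg.Agent.Lib.Helper77_SLnDefs
import Cfsg.Prelude.Def_Characters
import Cfsg.Agent.Lib.Helper53_S2332_NNBasic

set_option autoImplicit false
open Matrix Cfsg.Agent.Lib.Helper5_Transv Cfsg.Agent.Lib.Helper77_SLnDefs
open Cfsg.Agent.Lib.Helper53_S2332_NNBasic

namespace Cfsg.Agent.Lib.Helper53_S2332_PHANTOM

variable {F : Type*} [Field F] [Fintype F] [DecidableEq F] {κ : Type} [Fintype κ] [DecidableEq κ]
  {V : Type} [AddCommGroup V] [Module ℂ V] [FiniteDimensional ℂ V]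

theorem phantom (q n : ℕ) (hq : 2 ≤ q) (hn : 3 ≤ n) :
    ¬ (NN q n - 2 ∣ NN q n * (q ^ (n - 1) - 1) * (1 * q ^ (n - 1))) := by
  obtain ⟨p, rfl⟩ : ∃ p, q = p + 1 := ⟨q - 1, by omega⟩
  obtain ⟨k, rfl⟩ : ∃ k, n = k + 2 := ⟨n - 2, by omega⟩
  have hp : 1 ≤ p := by omega
  have hk : 1 ≤ k := by omega
  rw [show k + 2 - 1 = k + 1 from rfl, one_mul]
  -- `M = N_{k+1}`, `Q = q^(k+1) = p M + 1`, `N = (p+1) M + 1`
  have hQ := pred_mul_NN p (k + 1)
  have hN : NN (p + 1) (k + 2) = 1 + (p + 1) * NN (p + 1) (k + 1) := NN_succ' _ _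
  have hM : NN (p + 1) (k + 1) = 1 + (p + 1) * NN (p + 1) k := NN_succ' _ _
  have hM1 : 1 ≤ NN (p + 1) k := one_le_NN _ _ hk
  obtain ⟨M, hMdef⟩ : ∃ M, M = NN (p + 1) (k + 1) := ⟨_, rfl⟩
  rw [← hMdef] at hQ hN hM
  have hMge : p + 2 ≤ M := by
    rw [hM]
    have : (p + 1) * 1 ≤ (p + 1) * NN (p + 1) k := Nat.mul_le_mul_left _ hM1
    omega
  rw [hN, ← hQ]
  obtain ⟨D, hD⟩ : ∃ D, D + 1 = (p + 1) * M := ⟨(p + 1) * M - 1, by
    have : 0 < (p + 1) * M := Nat.mul_pos (by omega) (by omega)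
    omega⟩
  have e1 : 1 + (p + 1) * M - 2 = D := by omega
  have e2 : p * M + 1 - 1 = p * M := by omega
  rw [e1, e2]
  intro hdvd
  -- `D` is coprime to `Q`
  have hcop1 : Nat.Coprime D (p + 1) := by
    have h0 : Nat.Coprime D (D + 1) := by simp
    exact Nat.Coprime.coprime_dvd_right (Dvd.intro _ hD.symm) h0
  have hcop : Nat.Coprime D (p * M + 1) := by
    rw [hQ]
    exact hcop1.pow_right _
  have h1 : D ∣ (1 + (p + 1) * M) * (p * M) := hcop.dvd_of_dvd_mul_right hdvd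
  have h2 : D ∣ 2 * (p * M) := by
    have : (1 + (p + 1) * M) * (p * M) = D * (p * M) + 2 * (p * M) := by
      rw [← hD]; ring
    rw [this] at h1
    exact (Nat.dvd_add_right (dvd_mul_right D _)).mp h1
  have h3 : D ∣ 2 * p := by
    have h4 : D ∣ (p + 1) * (2 * (p * M)) := Dvd.dvd.mul_left h2 _
    have : (p + 1) * (2 * (p * M)) = D * (2 * p) + 2 * p := by
      have : (p + 1) * (2 * (p * M)) = 2 * p * ((p + 1) * M) := by ring
      rw [this, ← hD]; ring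
    rw [this] at h4
    exact (Nat.dvd_add_right (dvd_mul_right D _)).mp h4
  have h5 : D ≤ 2 * p := Nat.le_of_dvd (by omega) h3
  nlinarith

end Cfsg.Agent.Lib.Helper53_S2332_PHANTOM
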