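import Mathlib
import Cfsg.Agent.Lib.Helper76_S2647Defs
import Cfsg.Agent.S0292
import Cfsg.Agent.S0821

/-!
# S2647, package ORD (helper53 for helper76): the 2-part of `|Ω₇(q)|` is `2⁹` for `q ≡ ±3 mod 8`
-/

set_option autoImplicit false
open Matrix Cfsg.Agent.Lib.Helper76_S2647Defs

namespace Cfsg.Agent.Lib.Helper53_S2647_ORD

/-- `v₂(2^k m) = k` for odd `m`. -/
theorem factorization_two_pow_mul (k m : ℕ) (hm : Odd m) : (2 ^ k * m).factorization 2 = k := by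
  have hm0 : m ≠ 0 := by
    rintro rfl
    simp at hm
  rw [Nat.factorization_mul (pow_ne_zero k (by norm_num)) hm0, Nat.Prime.factorization_pow Nat.prime_two]
  have h2 : m.factorization 2 = 0 := by
    apply Nat.factorization_eq_zero_of_not_dvd
    intro h
    exact (Nat.not_even_iff_odd.mpr hm) (even_iff_two_dvd.mpr h)
  simp [h2]

/-- the arithmetic: `q^9 (q²-1)(q⁴-1)(q⁶-1) = 2^10 * odd` for `q ≡ ±3 mod 8` -/
theorem arith (q : ℕ) (hq : q % 8 = 3 ∨ q % 8 = 5) :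
    ∃ M : ℕ, Odd M ∧ q ^ 9 * ((q ^ 2 - 1) * (q ^ 4 - 1) * (q ^ 6 - 1)) = 2 ^ 10 * M := by
  have hqodd : Odd q := by
    rw [Nat.odd_iff]; omega
  have h16 : q ^ 2 % 16 = 9 := by
    have h1 : q % 16 = 3 ∨ q % 16 = 5 ∨ q % 16 = 11 ∨ q % 16 = 13 := by omega
    rw [Nat.pow_mod]
    rcases h1 with h | h | h | h <;> rw [h]
  obtain ⟨u, hu⟩ : ∃ u, q ^ 2 = 16 * u + 9 := ⟨q ^ 2 / 16, by omega⟩
  have e2 : q ^ 2 - 1 = 8 * (2 * u + 1) := by omega
  have e4 : q ^ 4 - 1 = 16 * (16 * u ^ 2 + 18 * u + 5) := by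
    have : q ^ 4 = 16 * (16 * u ^ 2 + 18 * u + 5) + 1 := by
      rw [show q ^ 4 = (q ^ 2) ^ 2 by ring, hu]; ring
    omega
  have e6 : q ^ 6 - 1 = 8 * ((2 * u + 1) * (256 * u ^ 2 + 304 * u + 91)) := by
    have : q ^ 6 = 8 * ((2 * u + 1) * (256 * u ^ 2 + 304 * u + 91)) + 1 := by
      rw [show q ^ 6 = (q ^ 2) ^ 3 by ring, hu]; ring
    omega
  refine ⟨q ^ 9 * ((2 * u + 1) * (16 * u ^ 2 + 18 * u + 5) *
    ((2 * u + 1) * (256 * u ^ 2 + 304 * u + 91))), ?_, ?_⟩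
  · have o1 : Odd (2 * u + 1) := odd_two_mul_add_one u
    have o2 : Odd (16 * u ^ 2 + 18 * u + 5) := by
      rw [Nat.odd_iff]; omega
    have o3 : Odd (256 * u ^ 2 + 304 * u + 91) := by
      rw [Nat.odd_iff]; omega
    exact (hqodd.pow).mul ((o1.mul o2).mul (o1.mul o3))
  · rw [e2, e4, e6]; ring

variable {F : Type*} [Field F] [Fintype F]

theorem ord (hq : Fintype.card F % 8 = 3 ∨ Fintype.card F % 8 = 5) :
    (Nat.card ↥(Cfsg.Omega F (Cfsg.quadFormOdd 3 F))).factorization 2 = 9 := by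
  have hodd : Odd (Fintype.card F) := by
    rw [Nat.odd_iff]; omega
  have h1 := Cfsg.Agent.S0292.result (F := F) rfl hodd 3 (le_refl 3)
  -- `|PΩ| = |Ω|` since the centre is trivial
  have hcen := Cfsg.Agent.S0821.center_omega_odd (F := F) hodd 3 (le_refl 3)
  have hcard : Nat.card (Cfsg.POmega F (Cfsg.quadFormOdd 3 F)) =
      Nat.card ↥(Cfsg.Omega F (Cfsg.quadFormOdd 3 F)) := by
    have h := Subgroup.card_eq_card_quotient_mul_card_subgroup
      (Subgroup.center ↥(Cfsg.Omega F (Cfsg.quadFormOdd 3 F)))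
    have hc : Nat.card ↥(Subgroup.center ↥(Cfsg.Omega F (Cfsg.quadFormOdd 3 F))) = 1 := by
      rw [hcen]; exact Subgroup.card_bot
    rw [hc, mul_one] at h
    exact h.symm
  rw [hcard] at h1
  have hprod : ∏ i ∈ Finset.range 3, (Fintype.card F ^ (2 * (i + 1)) - 1) =
      (Fintype.card F ^ 2 - 1) * (Fintype.card F ^ 4 - 1) * (Fintype.card F ^ 6 - 1) := by
    simp [Finset.prod_range_succ]
  rw [hprod] at h1
  obtain ⟨M, hM, hMeq⟩ := arith (Fintype.card F) hq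
  have h2 : Nat.card ↥(Cfsg.Omega F (Cfsg.quadFormOdd 3 F)) = 2 ^ 9 * M := by
    have : 2 * Nat.card ↥(Cfsg.Omega F (Cfsg.quadFormOdd 3 F)) = 2 * (2 ^ 9 * M) := by
      rw [h1]
      norm_num at hMeq ⊢
      rw [hMeq]; ring
    exact Nat.eq_of_mul_eq_mul_left (by norm_num) this
  rw [h2]
  exact factorization_two_pow_mul 9 M hM

end Cfsg.Agent.Lib.Helper53_S2647_ORD
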