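import Mathlib
import Cfsg.Agent.Lib.Helper76_S2647Defs

/-!
# S2647, package RESTRICT (helper53 for helper76): from the ambient group `K` to the subgroup `Ω`
-/

set_option autoImplicit false
open Matrix Cfsg.Agent.Lib.Helper76_S2647Defs

namespace Cfsg.Agent.Lib.Helper53_S2647_RESTRICT

theorem restrict {K : Type*} [Group K] (Ω S' : Subgroup K) (hle : S' ≤ Ω)
    (hN : ∀ n ∈ Ω, (∀ s ∈ S', n * s * n⁻¹ ∈ S') → n ∈ S')
    (hSC : ∀ T : Subgroup K, T ≤ S' → T ≠ ⊥ →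
      (∀ t ∈ T, ∀ g ∈ Ω, g * t * g⁻¹ ∈ S' → g * t * g⁻¹ ∈ T) → T = S') :
    (∀ n : Ω, (∀ s ∈ S'.subgroupOf Ω, n * s * n⁻¹ ∈ S'.subgroupOf Ω) → n ∈ S'.subgroupOf Ω) ∧
    (∀ T : Subgroup Ω, T ≤ S'.subgroupOf Ω → T ≠ ⊥ →
      (∀ t ∈ T, ∀ g : Ω, g * t * g⁻¹ ∈ S'.subgroupOf Ω → g * t * g⁻¹ ∈ T) → T = S'.subgroupOf Ω) := by
  constructor
  · intro n hn
    rw [Subgroup.mem_subgroupOf]
    apply hN (n : K) n.2
    intro s hs
    have h1 : (⟨s, hle hs⟩ : Ω) ∈ S'.subgroupOf Ω := by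
      rw [Subgroup.mem_subgroupOf]; exact hs
    have h2 := hn _ h1
    rw [Subgroup.mem_subgroupOf] at h2
    simpa using h2
  · intro T hT hTb hcl
    have hmap : T.map Ω.subtype = S' := by
      apply hSC
      · rintro _ ⟨t, ht, rfl⟩
        have := hT ht
        rwa [Subgroup.mem_subgroupOf] at this
      · intro hbot
        apply hTb
        exact (Subgroup.map_eq_bot_iff_of_injective T Ω.subtype_injective).mp hbot
      · rintro _ ⟨t, ht, rfl⟩ g hg hmem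
        have h1 : (⟨g, hg⟩ : Ω) * t * (⟨g, hg⟩ : Ω)⁻¹ ∈ S'.subgroupOf Ω := by
          rw [Subgroup.mem_subgroupOf]
          simpa using hmem
        have h2 := hcl t ht ⟨g, hg⟩ h1
        refine ⟨_, h2, ?_⟩
        simp
    ext z
    rw [Subgroup.mem_subgroupOf, ← hmap]
    constructor
    · intro hz
      exact ⟨z, hz, rfl⟩
    · rintro ⟨t, ht, htz⟩
      have : t = z := Subtype.ext htz
      rwa [← this]

end Cfsg.Agent.Lib.Helper53_S2647_RESTRICT
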