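import Mathlib
import Cfsg.Agent.Lib.Helper5_Transv
import Cfsg.Agent.Lib.Helper5_RootSL
import Cfsg.Agent.Lib.Helper44_PSLnUT
import Cfsg.Agent.Lib.Helper44_PSLnTv
import Cfsg.Agent.Lib.Helper44_PSLnSyl
import Cfsg.Agent.Lib.Helper32_PGroup
import Cfsg.Agent.Lib.Helper88_PSLnFusDefs

/-!
# S5163 package CQ-2 (helper53; architect helper88)

`CQ_2`: an element of `PSL_{m+3}(F)` centralising the last-column radical `Hp (e last)` lies in
`UTbar`.  By-product `proj_mem_UTbar_of_smul`: an upper triangular `g ∈ SL_n(F)` with constant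
diagonal has image in `UTbar`.
-/
set_option autoImplicit false

namespace Cfsg.Agent.Lib.Helper53_S5163_CQ_2

open Matrix Cfsg.Agent.Lib.Helper5_Transv Cfsg.Agent.Lib.Helper44_PSLnUT
  Cfsg.Agent.Lib.Helper44_PSLnTv Cfsg.Agent.Lib.Helper44_PSLnSyl Cfsg.Agent.Lib.Helper88_PSLnFus

variable {F : Type*} [Field F]

theorem mulVec_e {n : ℕ} (A : Matrix (Fin n) (Fin n) F) (i k : Fin n) :
    (A *ᵥ (e i : Fin n → F)) k = A k i := by
  simp [e]

theorem e_vecMul {n : ℕ} (A : Matrix (Fin n) (Fin n) F) (i k : Fin n) :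
    ((e i : Fin n → F) ᵥ* A) k = A i k := by
  simp [e]

/-- a scalar multiple `r • 1` of an element of `UT` has image in `UTbar` -/
theorem proj_mem_UTbar_of_smul {n : ℕ} (g : SpecialLinearGroup (Fin n) F) (r : F) (hr : r ≠ 0)
    (hlow : ∀ i j : Fin n, j < i → g.1 i j = 0) (hdiag : ∀ i, g.1 i i = r) :
    proj g ∈ UTbar n F := by
  -- `r ^ n = 1`
  have hdet : r ^ n = 1 := by
    have h1 : g.1.det = ∏ i : Fin n, g.1 i i :=
      Matrix.det_of_isUpperTriangular (M := g.1) (fun i j hij => hlow i j hij)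
    rw [g.2] at h1
    simp only [hdiag, Finset.prod_const, Finset.card_univ, Fintype.card_fin] at h1
    exact h1.symm
  have hrinv : (r⁻¹) ^ n = 1 := by rw [inv_pow, hdet, inv_one]
  have hdetu : (r⁻¹ • g.1).det = 1 := by
    rw [Matrix.det_smul, g.2, Fintype.card_fin, hrinv, one_mul]
  let u : SpecialLinearGroup (Fin n) F := ⟨r⁻¹ • g.1, hdetu⟩
  have hu : u ∈ UT n F := by
    rw [mem_UT]
    constructor
    · intro i j hij
      show (r⁻¹ • g.1) i j = 0
      rw [Matrix.smul_apply, hlow i j hij, smul_zero]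
    · intro i
      show (r⁻¹ • g.1) i i = 1
      rw [Matrix.smul_apply, hdiag i, smul_eq_mul, inv_mul_cancel₀ hr]
  refine ⟨u, hu, ?_⟩
  show (QuotientGroup.mk u : ProjectiveSpecialLinearGroup (Fin n) F) = QuotientGroup.mk g
  rw [QuotientGroup.eq]
  rw [Matrix.SpecialLinearGroup.mem_center_iff]
  refine ⟨r, by rw [Fintype.card_fin]; exact hdet, ?_⟩
  -- `u⁻¹ * g = r • 1`
  have hsdet : (Matrix.scalar (Fin n) r).det = 1 := by
    rw [Matrix.scalar_apply, Matrix.det_diagonal]
    simp only [Finset.prod_const, Finset.card_univ, Fintype.card_fin]; exact hdet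
  let s : SpecialLinearGroup (Fin n) F := ⟨Matrix.scalar (Fin n) r, hsdet⟩
  have h2 : u * s = g := by
    apply Subtype.ext
    show (r⁻¹ • g.1) * Matrix.scalar (Fin n) r = g.1
    rw [Matrix.smul_mul]
    ext i j
    simp [Matrix.mul_apply, Matrix.diagonal_apply]
    field_simp
  have h3 : u⁻¹ * g = s := by
    rw [inv_mul_eq_iff_eq_mul]
    exact h2.symm
  rw [h3]

/-- **CQ-2**  `C_{PSL}(Hp (e last)) ≤ UTbar`. -/
theorem CQ_2 (m : ℕ) (g : SpecialLinearGroup (Fin (m + 3)) F)
    (h : ∀ q ∈ Hp (e (Fin.last (m + 2)) : Fin (m + 3) → F), proj g * q = q * proj g) :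
    proj g ∈ UTbar (m + 3) F := by
  set L : Fin (m + 3) := Fin.last (m + 2) with hL
  have hn : 3 ≤ m + 3 := by omega
  -- the key relation: for `i ≠ L`
  have key : ∀ i : Fin (m + 3), i ≠ L → ∀ k l : Fin (m + 3),
      g.1 k i * (g⁻¹).1 L l = (if k = i then 1 else 0) * (if l = L then 1 else 0) := by
    intro i hi k l
    have h0 : (e L : Fin (m + 3) → F) ⬝ᵥ e i = 0 := by
      rw [e_dot]
      simp [e, hi.symm]
    have hq := h _ (tvP_mem_Hp (e i) (e L) h0)
    have h1 : proj g * tvP (e i) (e L) h0 * (proj g)⁻¹ = tvP (e i) (e L) h0 := by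
      rw [hq, mul_inv_cancel_right]
    have h2 : proj g * tvP (e i) (e L) h0 * (proj g)⁻¹
        = tvP (g.1 *ᵥ e i) (e L ᵥ* (g⁻¹).1) ((conj_dot g _ _).trans h0) := by
      unfold tvP
      rw [← map_inv, ← map_mul, ← map_mul, conj_tvS]
    rw [h2] at h1
    have h3 := (tvP_eq_iff hn _ _ _ _ _ _).mp h1
    have h4 := congrFun (congrFun h3 k) l
    rw [vecMulVec_apply, vecMulVec_apply, mulVec_e, e_vecMul] at h4
    rw [h4]
    simp [e, Pi.single_apply]
  -- an index different from `L`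
  have h0L : (0 : Fin (m + 3)) ≠ L := by
    intro h0
    have := congrArg Fin.val h0
    simp [hL] at this
  set a : F := (g⁻¹).1 L L with ha
  have hga : ∀ i : Fin (m + 3), i ≠ L → g.1 i i * a = 1 := by
    intro i hi
    have := key i hi i L
    rw [if_pos rfl, if_pos rfl, mul_one] at this
    exact this
  have ha0 : a ≠ 0 := by
    intro h0
    have := hga 0 h0L
    rw [h0, mul_zero] at this
    exact zero_ne_one this
  have hdiag' : ∀ i : Fin (m + 3), i ≠ L → g.1 i i = a⁻¹ := by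
    intro i hi
    exact eq_inv_of_mul_eq_one_left (hga i hi)
  -- off-diagonal entries of the columns `i ≠ L`
  have hcol : ∀ i k : Fin (m + 3), i ≠ L → k ≠ i → g.1 k i = 0 := by
    intro i k hi hk
    have := key i hi k L
    rw [if_neg hk, zero_mul] at this
    exact (mul_eq_zero.mp this).resolve_right ha0
  -- row `L` of `g⁻¹`
  have hrow : ∀ l : Fin (m + 3), l ≠ L → (g⁻¹).1 L l = 0 := by
    intro l hl
    have := key 0 h0L 0 l
    rw [if_neg hl, mul_zero] at this
    have h00 : g.1 0 0 ≠ 0 := by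
      rw [hdiag' 0 h0L]
      exact inv_ne_zero ha0
    exact (mul_eq_zero.mp this).resolve_left h00
  -- the last diagonal entry
  have hLL : g.1 L L = a⁻¹ := by
    have h1 : ((g⁻¹).1 * g.1) L L = 1 := by
      have : (g⁻¹).1 * g.1 = 1 := congrArg Subtype.val (inv_mul_cancel g)
      rw [this, Matrix.one_apply_eq]
    rw [Matrix.mul_apply, Finset.sum_eq_single L] at h1
    · exact eq_inv_of_mul_eq_one_right h1
    · intro b _ hb
      rw [hrow b hb, zero_mul]
    · intro hh
      exact absurd (Finset.mem_univ L) hh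
  apply proj_mem_UTbar_of_smul g a⁻¹ (inv_ne_zero ha0)
  · intro i j hij
    apply hcol j i _ (ne_of_gt hij)
    intro hjL
    rw [hjL] at hij
    exact absurd (Fin.le_last i) (not_le.mpr hij)
  · intro i
    by_cases hi : i = L
    · rw [hi, hLL]
    · exact hdiag' i hi

end Cfsg.Agent.Lib.Helper53_S5163_CQ_2
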