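import Mathlib
import Cfsg.Agent.Lib.Helper53_SL2

/-!
# 2-elements of `SL₂(F)`, `F` a finite field of odd order

`exists_two_structure`: there is `b ≥ 2` such that every 2-element `y` of `SL₂(F)` satisfies
`y ^ 2 ^ b = 1`, and for every `x` with `x * x = -1` there are `r, w` with
`r ^ 2 ^ (b - 1) = -1`, `r` commuting with `x`, `w * w = -1`, and `w` inverting both `x` and `r`.
-/

set_option autoImplicit false

namespace Cfsg.Agent.Lib.Helper53_SL2Tor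

open Matrix Cfsg.Agent.Lib.Helper53_SL2

/-- In a finite group there is an element of maximal 2-power order `2 ^ b`; then every
2-element is killed by `2 ^ b`. -/
theorem exists_max_two_pow (H : Type*) [Group H] [Finite H] :
    ∃ (b : ℕ) (r : H), orderOf r = 2 ^ b ∧ ∀ (y : H) (k : ℕ), y ^ 2 ^ k = 1 → y ^ 2 ^ b = 1 := by
  classical
  let P : ℕ → Prop := fun k => ∃ y : H, orderOf y = 2 ^ k
  have hP0 : P 0 := ⟨1, by simp⟩
  have hPb : P (Nat.findGreatest P (Nat.card H)) := Nat.findGreatest_spec (Nat.zero_le _) hP0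
  obtain ⟨r, hr⟩ := hPb
  refine ⟨Nat.findGreatest P (Nat.card H), r, hr, fun y k hy => ?_⟩
  have hd : orderOf y ∣ 2 ^ k := orderOf_dvd_of_pow_eq_one hy
  obtain ⟨i, -, hi⟩ := (Nat.dvd_prime_pow Nat.prime_two).mp hd
  have hi_le : i ≤ Nat.card H := by
    have h1 : orderOf y ≤ Nat.card H := orderOf_le_card
    have h2 : i < 2 ^ i := Nat.lt_two_pow_self
    omega
  have hle : i ≤ Nat.findGreatest P (Nat.card H) := Nat.le_findGreatest hi_le ⟨y, hi⟩
  rw [← orderOf_dvd_iff_pow_eq_one, hi]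
  exact pow_dvd_pow 2 hle

variable {F : Type*} [Field F]

/-- the matrix `[[p, q], [q, -p]]` -/
def vMat (p q : F) : Matrix (Fin 2) (Fin 2) F := !![p, q; q, -p]

theorem vMat_det (p q : F) (h : p ^ 2 + q ^ 2 = -1) : (vMat p q).det = 1 := by
  simp only [vMat, det_fin_two_of]
  linear_combination -h

/-- `[[p, q], [q, -p]]` with `p² + q² = -1` as an element of `SL₂(F)` -/
def vElt (p q : F) (h : p ^ 2 + q ^ 2 = -1) : SpecialLinearGroup (Fin 2) F :=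
  ⟨vMat p q, vMat_det p q h⟩

theorem vElt_mul_self (p q : F) (h : p ^ 2 + q ^ 2 = -1) : vElt p q h * vElt p q h = negOne := by
  apply Subtype.ext
  show vMat p q * vMat p q = -1
  rw [mat_ext_iff]
  simp only [entries_mul, vMat, of_apply, cons_val', cons_val_zero, cons_val_fin_one,
    cons_val_one, Matrix.neg_apply, one_apply_eq, ne_eq, zero_ne_one, not_false_eq_true,
    one_apply_ne, one_ne_zero, neg_zero]
  refine ⟨by linear_combination h, by ring, by ring, by linear_combination h⟩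

/-- `vElt` inverts everything commuting with `wElt`. -/
theorem vElt_mul_of_commute (p q : F) (h : p ^ 2 + q ^ 2 = -1) (ρ : SpecialLinearGroup (Fin 2) F)
    (hρ : ρ * wElt = wElt * ρ) : vElt p q h * ρ = ρ⁻¹ * vElt p q h := by
  have h1 : ρ.1 * wMat = wMat * ρ.1 := congrArg Subtype.val hρ
  rw [mat_ext_iff] at h1
  simp only [entries_mul, wMat, of_apply, cons_val', cons_val_zero, cons_val_fin_one,
    cons_val_one] at h1
  obtain ⟨h00, h01, h10, h11⟩ := h1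
  have e : ((ρ⁻¹ : SpecialLinearGroup (Fin 2) F) : Matrix (Fin 2) (Fin 2) F)
      = adjugate (ρ : Matrix (Fin 2) (Fin 2) F) := Matrix.SpecialLinearGroup.coe_inv ρ
  apply Subtype.ext
  show vMat p q * (ρ : Matrix (Fin 2) (Fin 2) F)
    = ((ρ⁻¹ : SpecialLinearGroup (Fin 2) F) : Matrix (Fin 2) (Fin 2) F) * vMat p q
  rw [e, adjugate_fin_two, mat_ext_iff]
  simp only [entries_mul, vMat, of_apply, cons_val', cons_val_zero, cons_val_fin_one,
    cons_val_one]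
  have e1 : (ρ : Matrix (Fin 2) (Fin 2) F) 0 1 = -(ρ : Matrix (Fin 2) (Fin 2) F) 1 0 := by
    linear_combination h00
  have e2 : (ρ : Matrix (Fin 2) (Fin 2) F) 1 1 = (ρ : Matrix (Fin 2) (Fin 2) F) 0 0 := by
    linear_combination h10
  rw [e1, e2]
  refine ⟨by ring, by ring, by ring, by ring⟩


theorem orderOf_wElt (h2 : (2 : F) ≠ 0) :
    orderOf (wElt : SpecialLinearGroup (Fin 2) F) = 2 ^ 2 := by
  have : Fact (Nat.Prime 2) := ⟨Nat.prime_two⟩
  apply orderOf_eq_prime_pow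
  · rw [pow_one, pow_two, wElt_mul_self]
    exact negOne_ne_one h2
  · have e : (wElt : SpecialLinearGroup (Fin 2) F) ^ 2 ^ (1 + 1)
        = (wElt * wElt) * (wElt * wElt) := by
      norm_num [pow_succ, mul_assoc]
    rw [e, wElt_mul_self, negOne_mul_self]

theorem conj_negOne (Q : SpecialLinearGroup (Fin 2) F) : Q * negOne * Q⁻¹ = negOne := by
  rw [negOne_central Q, mul_assoc, mul_inv_cancel, mul_one]

/-- **2-structure of `SL₂(F)`**, `|F|` odd. -/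
theorem exists_two_structure [Fintype F] (hF : Fintype.card F % 2 = 1) :
    ∃ b : ℕ, 2 ≤ b ∧
      (∀ (y : SpecialLinearGroup (Fin 2) F) (k : ℕ), y ^ 2 ^ k = 1 → y ^ 2 ^ b = 1) ∧
      ∀ x : SpecialLinearGroup (Fin 2) F, x * x = negOne →
        ∃ r w : SpecialLinearGroup (Fin 2) F, r ^ 2 ^ (b - 1) = negOne ∧ r * x = x * r ∧
          w * w = negOne ∧ w * x * w⁻¹ = x⁻¹ ∧ w * r * w⁻¹ = r⁻¹ := by
  have h2 := two_ne_zero_of_card_odd hF
  obtain ⟨b, r₀, hr₀, hE⟩ := exists_max_two_pow (SpecialLinearGroup (Fin 2) F)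
  have hb2 : 2 ≤ b := by
    have h4 : orderOf (wElt : SpecialLinearGroup (Fin 2) F) = 2 ^ 2 := orderOf_wElt h2
    have h5 := hE wElt 2 (by rw [← h4]; exact pow_orderOf_eq_one _)
    have hd : 2 ^ 2 ∣ 2 ^ b := by rw [← h4]; exact orderOf_dvd_of_pow_eq_one h5
    exact (Nat.pow_dvd_pow_iff_le_right (by norm_num)).mp hd
  refine ⟨b, hb2, hE, fun x hx => ?_⟩
  have hinv : r₀ ^ 2 ^ (b - 1) = negOne := by
    have hsq : r₀ ^ 2 ^ (b - 1) * r₀ ^ 2 ^ (b - 1) = 1 := by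
      rw [← pow_add, ← two_mul, ← pow_succ', show b - 1 + 1 = b by omega, ← hr₀]
      exact pow_orderOf_eq_one _
    rcases eq_one_or_negOne_of_mul_self h2 _ hsq with h | h
    · exfalso
      have hd : orderOf r₀ ∣ 2 ^ (b - 1) := orderOf_dvd_of_pow_eq_one h
      rw [hr₀] at hd
      have := (Nat.pow_dvd_pow_iff_le_right (by norm_num)).mp hd
      omega
    · exact h
  have hx₀sq : r₀ ^ 2 ^ (b - 2) * r₀ ^ 2 ^ (b - 2) = negOne := by
    rw [← pow_add, ← two_mul, ← pow_succ', show b - 2 + 1 = b - 1 by omega, hinv]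
  obtain ⟨P, hP⟩ := exists_conj_of_mul_self_eq_negOne hF h2 x hx
  obtain ⟨P₀, hP₀⟩ := exists_conj_of_mul_self_eq_negOne hF h2 _ hx₀sq
  obtain ⟨p, q, hpq⟩ := exists_sq_add_sq hF (-1 : F)
  have hQ : (P * P₀⁻¹) * r₀ ^ 2 ^ (b - 2) * (P * P₀⁻¹)⁻¹ = x := by
    rw [← hP₀, ← hP]; group
  have hc : r₀ * r₀ ^ 2 ^ (b - 2) = r₀ ^ 2 ^ (b - 2) * r₀ :=
    ((Commute.refl r₀).pow_right _).eq
  have hrx : (P * P₀⁻¹) * r₀ * (P * P₀⁻¹)⁻¹ * x = x * ((P * P₀⁻¹) * r₀ * (P * P₀⁻¹)⁻¹) := by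
    rw [← hQ]
    calc (P * P₀⁻¹) * r₀ * (P * P₀⁻¹)⁻¹ * ((P * P₀⁻¹) * r₀ ^ 2 ^ (b - 2) * (P * P₀⁻¹)⁻¹)
        = (P * P₀⁻¹) * (r₀ * r₀ ^ 2 ^ (b - 2)) * (P * P₀⁻¹)⁻¹ := by group
      _ = (P * P₀⁻¹) * (r₀ ^ 2 ^ (b - 2) * r₀) * (P * P₀⁻¹)⁻¹ := by rw [hc]
      _ = _ := by group
  refine ⟨(P * P₀⁻¹) * r₀ * (P * P₀⁻¹)⁻¹, P * vElt p q hpq * P⁻¹, ?_, hrx, ?_, ?_, ?_⟩
  · rw [conj_pow, hinv, conj_negOne]
  · calc P * vElt p q hpq * P⁻¹ * (P * vElt p q hpq * P⁻¹)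
        = P * (vElt p q hpq * vElt p q hpq) * P⁻¹ := by group
      _ = negOne := by rw [vElt_mul_self, conj_negOne]
  · have h1 := vElt_mul_of_commute p q hpq wElt rfl
    rw [← hP]
    calc P * vElt p q hpq * P⁻¹ * (P * wElt * P⁻¹) * (P * vElt p q hpq * P⁻¹)⁻¹
        = P * (vElt p q hpq * wElt) * (vElt p q hpq)⁻¹ * P⁻¹ := by group
      _ = P * (wElt⁻¹ * vElt p q hpq) * (vElt p q hpq)⁻¹ * P⁻¹ := by rw [h1]
      _ = (P * wElt * P⁻¹)⁻¹ := by group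
  · set r := (P * P₀⁻¹) * r₀ * (P * P₀⁻¹)⁻¹ with hr
    have hcomm : (P⁻¹ * r * P) * wElt = wElt * (P⁻¹ * r * P) := by
      have h3 : r * (P * wElt * P⁻¹) = (P * wElt * P⁻¹) * r := by rw [hP]; exact hrx
      calc (P⁻¹ * r * P) * wElt = P⁻¹ * (r * (P * wElt * P⁻¹)) * P := by group
        _ = P⁻¹ * ((P * wElt * P⁻¹) * r) * P := by rw [h3]
        _ = wElt * (P⁻¹ * r * P) := by group
    have h1 := vElt_mul_of_commute p q hpq _ hcomm
    calc P * vElt p q hpq * P⁻¹ * r * (P * vElt p q hpq * P⁻¹)⁻¹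
        = P * (vElt p q hpq * (P⁻¹ * r * P)) * (vElt p q hpq)⁻¹ * P⁻¹ := by group
      _ = P * ((P⁻¹ * r * P)⁻¹ * vElt p q hpq) * (vElt p q hpq)⁻¹ * P⁻¹ := by rw [h1]
      _ = r⁻¹ := by group

end Cfsg.Agent.Lib.Helper53_SL2Tor
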