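import Mathlib

/-!
Two elementwise-commuting subgroups `L₁`, `L₂` of a group meeting in `{1, j}` with `j` a central
involution, in which centralizers of elements other than `1`, `j` are commutative (as in `SL₂(q)`).
If `K₁`, `K₂` are elementwise commuting subgroups of `L₁L₂`, with `K₂` non-commutative and generated
by elements of odd order, then `K₁ ≤ L₁` or `K₁ ≤ L₂`.
-/

set_option autoImplicit false

namespace Cfsg.Agent.Lib.Helper65_CommPair

variable {G : Type*} [Group G]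

/-- centralizers in `L` of elements of `L` other than `1`, `j` are commutative -/
def CentComm (L : Subgroup G) (j : G) : Prop :=
  ∀ a ∈ L, (a = 1 ∨ a = j) ∨
    ∀ c ∈ L, ∀ c' ∈ L, c * a = a * c → c' * a = a * c' → c * c' = c' * c

/-- `L` is generated by elements killed by an odd power -/
def OddGen (L : Subgroup G) : Prop :=
  ∀ P : Subgroup G, (∀ t ∈ L, (∃ m : ℕ, Odd m ∧ t ^ m = 1) → t ∈ P) → L ≤ P

/-- `L` is not commutative -/
def NonComm (L : Subgroup G) : Prop :=
  ∃ x ∈ L, ∃ y ∈ L, x * y ≠ y * x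

theorem exists_mul_of_mem_sup (L₁ L₂ : Subgroup G)
    (hc : ∀ x ∈ L₁, ∀ y ∈ L₂, x * y = y * x) (x : G) (hx : x ∈ L₁ ⊔ L₂) :
    ∃ a ∈ L₁, ∃ b ∈ L₂, x = a * b := by
  have hnorm : L₁ ≤ Subgroup.normalizer (L₂ : Set G) := by
    intro a ha
    rw [Subgroup.mem_normalizer_iff]
    intro b
    constructor
    · intro hb
      rw [hc a ha b hb]
      simpa using hb
    · intro hb
      have h3 := hc a⁻¹ (L₁.inv_mem ha) _ hb
      have h4 : b = a⁻¹ * (a * b * a⁻¹) * a := by group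
      rw [h4, h3]
      simpa using hb
  have hx' : x ∈ ((L₁ ⊔ L₂ : Subgroup G) : Set G) := hx
  rw [Subgroup.coe_mul_of_left_le_normalizer_right L₁ L₂ hnorm, Set.mem_mul] at hx'
  obtain ⟨a, ha, b, hb, rfl⟩ := hx'
  exact ⟨a, ha, b, hb, rfl⟩

theorem pow_mul_comm_twist (a c j : G) (hjc : c * j = j * c) (h : c * a = a * c * j) (k : ℕ) :
    c ^ k * a = a * c ^ k * j ^ k := by
  induction k with
  | zero => simp
  | succ k ih =>
    have hjck : c ^ k * j = j * c ^ k := by
      have : Commute c j := hjc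
      exact (this.pow_left k)
    calc c ^ (k + 1) * a = c ^ k * (c * a) := by rw [pow_succ]; group
      _ = c ^ k * (a * c * j) := by rw [h]
      _ = (c ^ k * a) * c * j := by group
      _ = (a * c ^ k * j ^ k) * c * j := by rw [ih]
      _ = a * c ^ k * (j ^ k * c) * j := by group
      _ = a * c ^ k * (c * j ^ k) * j := by
        have : Commute c j := hjc
        rw [(this.pow_right k).eq]
      _ = a * c ^ (k + 1) * j ^ (k + 1) := by rw [pow_succ, pow_succ]; group

theorem odd_pow_of_mul_self (j : G) (hjj : j * j = 1) (m : ℕ) (hm : Odd m) : j ^ m = j := by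
  obtain ⟨k, rfl⟩ := hm
  rw [pow_succ, pow_mul, pow_two, hjj, one_pow, one_mul]

theorem mem_or_mem (L₁ L₂ : Subgroup G) (j : G) (hj1 : j ≠ 1) (hjj : j * j = 1)
    (hj₁ : j ∈ L₁) (hj₂ : j ∈ L₂)
    (h₁ : CentComm L₁ j) (h₂ : CentComm L₂ j)
    (hc : ∀ x ∈ L₁, ∀ y ∈ L₂, x * y = y * x)
    (hinter : ∀ x, x ∈ L₁ → x ∈ L₂ → x = 1 ∨ x = j)
    (hjc : ∀ x ∈ L₁ ⊔ L₂, x * j = j * x)
    (K₂ : Subgroup G) (hK₂ : K₂ ≤ L₁ ⊔ L₂) (hgen : OddGen K₂) (hnc : NonComm K₂)
    (x : G) (hxM : x ∈ L₁ ⊔ L₂) (hxc : ∀ y ∈ K₂, x * y = y * x) :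
    x ∈ L₁ ∨ x ∈ L₂ := by
  obtain ⟨a, ha, b, hb, rfl⟩ := exists_mul_of_mem_sup L₁ L₂ hc x hxM
  rcases h₁ a ha with ha1 | hca
  · right
    rcases ha1 with rfl | rfl
    · simpa using hb
    · exact L₂.mul_mem hj₂ hb
  rcases h₂ b hb with hb1 | hcb
  · left
    rcases hb1 with rfl | rfl
    · simpa using ha
    · exact L₁.mul_mem ha hj₁
  exfalso
  -- the commutative subgroup
  set P : Subgroup G := (L₁ ⊓ Subgroup.centralizer {a}) ⊔ (L₂ ⊓ Subgroup.centralizer {b}) with hP
  have hKP : K₂ ≤ P := by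
    apply hgen
    rintro t ht ⟨m, hm, htm⟩
    obtain ⟨c, hcL, d, hdL, rfl⟩ := exists_mul_of_mem_sup L₁ L₂ hc t (hK₂ ht)
    have hcomm := hxc _ ht
    -- a b c d = c d a b
    have hda : d * a = a * d := (hc a ha d hdL).symm
    have hbc : b * c = c * b := (hc c hcL b hb).symm
    have hcd : c * d = d * c := hc c hcL d hdL
    have hab : a * b = b * a := hc a ha b hb
    have key : (a * c)⁻¹ * (c * a) = (b * d) * (d * b)⁻¹ := by
      have e1 : a * c * (b * d) = c * a * (d * b) := by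
        calc a * c * (b * d) = a * (c * b) * d := by group
          _ = a * (b * c) * d := by rw [hbc]
          _ = a * b * (c * d) := by group
          _ = c * d * (a * b) := hcomm
          _ = c * (d * a) * b := by group
          _ = c * (a * d) * b := by rw [hda]
          _ = c * a * (d * b) := by group
      calc (a * c)⁻¹ * (c * a) = (a * c)⁻¹ * (c * a * (d * b)) * (d * b)⁻¹ := by group
        _ = (a * c)⁻¹ * (a * c * (b * d)) * (d * b)⁻¹ := by rw [e1]
        _ = (b * d) * (d * b)⁻¹ := by group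
    have hz₁ : (a * c)⁻¹ * (c * a) ∈ L₁ :=
      L₁.mul_mem (L₁.inv_mem (L₁.mul_mem ha hcL)) (L₁.mul_mem hcL ha)
    have hz₂ : (a * c)⁻¹ * (c * a) ∈ L₂ := by
      rw [key]
      exact L₂.mul_mem (L₂.mul_mem hb hdL) (L₂.inv_mem (L₂.mul_mem hdL hb))
    have hca' : c * a = a * c := by
      rcases hinter _ hz₁ hz₂ with hz | hz
      · have : c * a = (a * c) * ((a * c)⁻¹ * (c * a)) := by group
        rw [this, hz, mul_one]
      · exfalso
        have htw : c * a = a * c * j := by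
          have : c * a = (a * c) * ((a * c)⁻¹ * (c * a)) := by group
          rw [this, hz]
        have hcj : c * j = j * c := hjc c (Subgroup.mem_sup_left hcL)
        have hpow := pow_mul_comm_twist a c j hcj htw m
        rw [odd_pow_of_mul_self j hjj m hm] at hpow
        -- c^m ∈ L₁ ∩ L₂
        have hcdm : c ^ m * d ^ m = 1 := by
          have : Commute c d := hcd
          rw [← this.mul_pow]; exact htm
        have hcm₂ : c ^ m ∈ L₂ := by
          have : c ^ m = (d ^ m)⁻¹ := eq_inv_of_mul_eq_one_left hcdm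
          rw [this]; exact L₂.inv_mem (L₂.pow_mem hdL m)
        have hcma : c ^ m * a = a * c ^ m := by
          rcases hinter _ (L₁.pow_mem hcL m) hcm₂ with h | h
          · rw [h]; simp
          · rw [h]; exact (hjc a (Subgroup.mem_sup_left ha)).symm
        apply hj1
        have : a * c ^ m = a * c ^ m * j := by rw [← hpow, hcma]
        have h2 : (a * c ^ m)⁻¹ * (a * c ^ m) = (a * c ^ m)⁻¹ * (a * c ^ m * j) := by rw [← this]
        rw [inv_mul_cancel, ← mul_assoc, inv_mul_cancel, one_mul] at h2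
        exact h2.symm
    have hdb' : d * b = b * d := by
      have : (b * d) * (d * b)⁻¹ = 1 := by rw [← key, hca']; group
      have h3 := mul_inv_eq_one.mp this
      exact h3.symm
    have hc_cent : c ∈ Subgroup.centralizer ({a} : Set G) := by
      rw [Subgroup.mem_centralizer_iff]
      intro g hg
      rw [Set.mem_singleton_iff] at hg
      rw [hg]; exact hca'.symm
    have hd_cent : d ∈ Subgroup.centralizer ({b} : Set G) := by
      rw [Subgroup.mem_centralizer_iff]
      intro g hg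
      rw [Set.mem_singleton_iff] at hg
      rw [hg]; exact hdb'.symm
    exact Subgroup.mul_mem_sup (Subgroup.mem_inf.mpr ⟨hcL, hc_cent⟩)
      (Subgroup.mem_inf.mpr ⟨hdL, hd_cent⟩)
  -- P is commutative
  have hPc : ∀ u ∈ P, ∀ v ∈ P, u * v = v * u := by
    have hcc : ∀ x ∈ L₁ ⊓ Subgroup.centralizer {a}, ∀ y ∈ L₂ ⊓ Subgroup.centralizer {b},
        x * y = y * x := fun x hx y hy => hc x (Subgroup.mem_inf.mp hx).1 y (Subgroup.mem_inf.mp hy).1
    intro u hu v hv
    obtain ⟨c, hc1, d, hd1, rfl⟩ := exists_mul_of_mem_sup _ _ hcc u hu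
    obtain ⟨c', hc1', d', hd1', rfl⟩ := exists_mul_of_mem_sup _ _ hcc v hv
    have e1 : c * c' = c' * c := by
      apply hca c (Subgroup.mem_inf.mp hc1).1 c' (Subgroup.mem_inf.mp hc1').1
      · have h9 : c ∈ Subgroup.centralizer ({a} : Set G) := (Subgroup.mem_inf.mp hc1).2
        rw [Subgroup.mem_centralizer_iff] at h9
        exact (h9 a rfl).symm
      · have h9 : c' ∈ Subgroup.centralizer ({a} : Set G) := (Subgroup.mem_inf.mp hc1').2
        rw [Subgroup.mem_centralizer_iff] at h9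
        exact (h9 a rfl).symm
    have e2 : d * d' = d' * d := by
      apply hcb d (Subgroup.mem_inf.mp hd1).1 d' (Subgroup.mem_inf.mp hd1').1
      · have h9 : d ∈ Subgroup.centralizer ({b} : Set G) := (Subgroup.mem_inf.mp hd1).2
        rw [Subgroup.mem_centralizer_iff] at h9
        exact (h9 b rfl).symm
      · have h9 : d' ∈ Subgroup.centralizer ({b} : Set G) := (Subgroup.mem_inf.mp hd1').2
        rw [Subgroup.mem_centralizer_iff] at h9
        exact (h9 b rfl).symm
    have e3 : d * c' = c' * d := (hc c' (Subgroup.mem_inf.mp hc1').1 d (Subgroup.mem_inf.mp hd1).1).symm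
    have e4 : d' * c = c * d' := (hc c (Subgroup.mem_inf.mp hc1).1 d' (Subgroup.mem_inf.mp hd1').1).symm
    calc c * d * (c' * d') = c * (d * c') * d' := by group
      _ = c * (c' * d) * d' := by rw [e3]
      _ = (c * c') * (d * d') := by group
      _ = (c' * c) * (d' * d) := by rw [e1, e2]
      _ = c' * (c * d') * d := by group
      _ = c' * (d' * c) * d := by rw [e4]
      _ = c' * d' * (c * d) := by group
  obtain ⟨u, hu, v, hv, huv⟩ := hnc
  exact huv (hPc u (hKP hu) v (hKP hv))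

/-- the main abstract lemma -/
theorem le_or_le (L₁ L₂ : Subgroup G) (j : G) (hj1 : j ≠ 1) (hjj : j * j = 1)
    (hj₁ : j ∈ L₁) (hj₂ : j ∈ L₂)
    (h₁ : CentComm L₁ j) (h₂ : CentComm L₂ j)
    (hc : ∀ x ∈ L₁, ∀ y ∈ L₂, x * y = y * x)
    (hinter : ∀ x, x ∈ L₁ → x ∈ L₂ → x = 1 ∨ x = j)
    (hjc : ∀ x ∈ L₁ ⊔ L₂, x * j = j * x)
    (K₁ K₂ : Subgroup G) (hK₁ : K₁ ≤ L₁ ⊔ L₂) (hK₂ : K₂ ≤ L₁ ⊔ L₂)
    (hK : ∀ x ∈ K₁, ∀ y ∈ K₂, x * y = y * x) (hgen : OddGen K₂) (hnc : NonComm K₂) :
    K₁ ≤ L₁ ∨ K₁ ≤ L₂ := by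
  have hmem : ∀ x ∈ K₁, x ∈ L₁ ∨ x ∈ L₂ := fun x hx =>
    mem_or_mem L₁ L₂ j hj1 hjj hj₁ hj₂ h₁ h₂ hc hinter hjc K₂ hK₂ hgen hnc x (hK₁ hx)
      (fun y hy => hK x hx y hy)
  by_contra hcon
  rw [not_or] at hcon
  obtain ⟨hn1, hn2⟩ := hcon
  obtain ⟨x, hxK, hx1⟩ := SetLike.not_le_iff_exists.mp hn1
  obtain ⟨y, hyK, hy2⟩ := SetLike.not_le_iff_exists.mp hn2
  have hx2 : x ∈ L₂ := (hmem x hxK).resolve_left hx1
  have hy1 : y ∈ L₁ := (hmem y hyK).resolve_right hy2
  rcases hmem (x * y) (K₁.mul_mem hxK hyK) with h | h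
  · apply hx1
    have : x = (x * y) * y⁻¹ := by group
    rw [this]; exact L₁.mul_mem h (L₁.inv_mem hy1)
  · apply hy2
    have : y = x⁻¹ * (x * y) := by group
    rw [this]; exact L₂.mul_mem (L₂.inv_mem hx2) h

end Cfsg.Agent.Lib.Helper65_CommPair
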