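import Mathlib
import Cfsg.Agent.Lib.Helper65_CommPair

/-!
# Two commuting `SL₂`-like subgroups swapped by an element squaring to the central involution

Abstract form of the configuration of S3211: `L₁, L₂ ≤ G` commute elementwise, `L₁ ⊓ L₂ = ⟨j⟩`,
`L₁L₂` has index 2 in `C_G(j)`, `n ∈ C_G(j)` with `n² = j` swaps `L₁` and `L₂`, and `L₁` has the
2-structure of `SL₂(q)` (`q` odd).  Then `j` is isolated: the only conjugate of `j` in `C_G(j)` is `j`.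
-/

set_option autoImplicit false
set_option linter.unusedSectionVars false

namespace Cfsg.Agent.Lib.Helper53_StdForm

open Subgroup

variable {G : Type*} [Group G]

/-- The configuration. -/
structure Setting (L₁ L₂ : Subgroup G) (j n : G) (b : ℕ) : Prop where
  hc : ∀ x ∈ L₁, ∀ y ∈ L₂, x * y = y * x
  hj : orderOf j = 2
  hm : L₁ ⊓ L₂ = Subgroup.zpowers j
  hle : L₁ ⊔ L₂ ≤ Subgroup.centralizer ({j} : Set G)
  hi : (L₁ ⊔ L₂).relIndex (Subgroup.centralizer ({j} : Set G)) = 2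
  hn : n ∈ Subgroup.centralizer ({j} : Set G)
  hn2 : n ^ 2 = j
  hswap : L₁.map (MulAut.conj n).toMonoidHom = L₂
  hU : ∀ x ∈ L₁, x * x = 1 → x = 1 ∨ x = j
  hE : ∀ y ∈ L₁, ∀ k : ℕ, y ^ 2 ^ k = 1 → y ^ 2 ^ b = 1
  hb : 1 ≤ b
  hT : ∀ x ∈ L₁, x * x = j → ∃ r ∈ L₁, ∃ w ∈ L₁, r ^ 2 ^ (b - 1) = j ∧ r * x = x * r ∧
    w * w = j ∧ w * x * w⁻¹ = x⁻¹ ∧ w * r * w⁻¹ = r⁻¹
  hex : ∃ x ∈ L₁, x * x = j

namespace Setting

variable {L₁ L₂ : Subgroup G} {j n : G} {b : ℕ} (S : Setting L₁ L₂ j n b)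
include S

theorem jj : j * j = 1 := by
  have := pow_orderOf_eq_one j
  rwa [S.hj, pow_two] at this

theorem j_ne_one : j ≠ 1 := by
  intro h
  have := S.hj
  rw [h, orderOf_one] at this
  omega

theorem j_inv : j⁻¹ = j := inv_eq_of_mul_eq_one_left S.jj

theorem j_mem₁ : j ∈ L₁ := by
  have : j ∈ L₁ ⊓ L₂ := by rw [S.hm]; exact Subgroup.mem_zpowers j
  exact this.1

theorem j_mem₂ : j ∈ L₂ := by
  have : j ∈ L₁ ⊓ L₂ := by rw [S.hm]; exact Subgroup.mem_zpowers j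
  exact this.2

theorem eq_of_mem_inf {x : G} (h1 : x ∈ L₁) (h2 : x ∈ L₂) : x = 1 ∨ x = j := by
  have : x ∈ L₁ ⊓ L₂ := ⟨h1, h2⟩
  rw [S.hm] at this
  obtain ⟨k, hk⟩ := Subgroup.mem_zpowers_iff.mp this
  rcases Int.even_or_odd' k with ⟨m, hm | hm⟩
  · left
    rw [← hk, hm, zpow_mul, zpow_ofNat, pow_two, S.jj, one_zpow]
  · right
    rw [← hk, hm, zpow_add, zpow_mul, zpow_ofNat, pow_two, S.jj, one_zpow, one_mul, zpow_one]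

theorem nn : n * n = j := by rw [← pow_two]; exact S.hn2

/-- `j` commutes with `C_G(j)` -/
theorem j_comm {x : G} (hx : x ∈ Subgroup.centralizer ({j} : Set G)) : j * x = x * j :=
  Subgroup.mem_centralizer_iff.mp hx j (Set.mem_singleton j)

theorem mem_cent_of_comm {x : G} (hx : j * x = x * j) :
    x ∈ Subgroup.centralizer ({j} : Set G) := by
  rw [Subgroup.mem_centralizer_iff]
  intro y hy
  rw [Set.mem_singleton_iff] at hy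
  rw [hy]; exact hx

theorem j_comm₁ {x : G} (hx : x ∈ L₁) : j * x = x * j :=
  S.j_comm (S.hle (Subgroup.mem_sup_left hx))

theorem j_comm₂ {x : G} (hx : x ∈ L₂) : j * x = x * j :=
  S.j_comm (S.hle (Subgroup.mem_sup_right hx))

theorem j_comm_n : j * n = n * j := S.j_comm S.hn

theorem n_inv_sq : n⁻¹ * n⁻¹ = j := by
  rw [← mul_inv_rev, S.nn, S.j_inv]

/-- `n L₁ n⁻¹ ⊆ L₂` -/
theorem n_conj₁ {x : G} (hx : x ∈ L₁) : n * x * n⁻¹ ∈ L₂ := by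
  rw [← S.hswap]
  exact ⟨x, hx, by simp [MulAut.conj_apply]⟩

/-- `n⁻¹ L₂ n ⊆ L₁` -/
theorem n_conj_inv₂ {y : G} (hy : y ∈ L₂) : n⁻¹ * y * n ∈ L₁ := by
  rw [← S.hswap] at hy
  obtain ⟨x, hx, rfl⟩ := hy
  have : n⁻¹ * ((MulAut.conj n).toMonoidHom x) * n = x := by
    simp [MulAut.conj_apply, mul_assoc]
  rw [this]; exact hx

/-- on `L₂`, conjugation by `n` and by `n⁻¹` agree -/
theorem n_conj_eq₂ {y : G} (hy : y ∈ L₂) : n * y * n⁻¹ = n⁻¹ * y * n := by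
  have h1 := S.j_comm₁ (S.n_conj_inv₂ hy)
  calc n * y * n⁻¹ = (n * n) * (n⁻¹ * y * n) * (n⁻¹ * n⁻¹) := by group
    _ = j * (n⁻¹ * y * n) * j := by rw [S.nn, S.n_inv_sq]
    _ = (n⁻¹ * y * n) * (j * j) := by rw [h1, mul_assoc]
    _ = n⁻¹ * y * n := by rw [S.jj, mul_one]

/-- `n L₂ n⁻¹ ⊆ L₁` -/
theorem n_conj₂ {y : G} (hy : y ∈ L₂) : n * y * n⁻¹ ∈ L₁ := by
  rw [S.n_conj_eq₂ hy]; exact S.n_conj_inv₂ hy

/-- on `L₁`, conjugation by `n` and by `n⁻¹` agree -/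
theorem n_conj_eq₁ {x : G} (hx : x ∈ L₁) : n⁻¹ * x * n = n * x * n⁻¹ := by
  have h1 := S.j_comm₂ (S.n_conj₁ hx)
  calc n⁻¹ * x * n = (n⁻¹ * n⁻¹) * (n * x * n⁻¹) * (n * n) := by group
    _ = j * (n * x * n⁻¹) * j := by rw [S.nn, S.n_inv_sq]
    _ = (n * x * n⁻¹) * (j * j) := by rw [h1, mul_assoc]
    _ = n * x * n⁻¹ := by rw [S.jj, mul_one]

theorem n_conj_inv₁ {x : G} (hx : x ∈ L₁) : n⁻¹ * x * n ∈ L₂ := by
  rw [S.n_conj_eq₁ hx]; exact S.n_conj₁ hx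

theorem n_conj_j : n * j * n⁻¹ = j := by
  rw [← S.j_comm_n, mul_assoc, mul_inv_cancel, mul_one]

theorem n_inv_conj_j : n⁻¹ * j * n = j := by
  rw [mul_assoc, S.j_comm_n, ← mul_assoc, inv_mul_cancel, one_mul]

/-- unique involution in `L₂` -/
theorem hU₂ : ∀ y ∈ L₂, y * y = 1 → y = 1 ∨ y = j := by
  intro y hy hyy
  have h1 : (n⁻¹ * y * n) * (n⁻¹ * y * n) = 1 := by
    calc (n⁻¹ * y * n) * (n⁻¹ * y * n) = n⁻¹ * (y * y) * n := by group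
      _ = 1 := by rw [hyy]; group
  rcases S.hU _ (S.n_conj_inv₂ hy) h1 with h | h
  · left
    have : y = n * (n⁻¹ * y * n) * n⁻¹ := by group
    rw [this, h]; group
  · right
    have : y = n * (n⁻¹ * y * n) * n⁻¹ := by group
    rw [this, h]; exact S.n_conj_j

theorem conj_inv_pow (y : G) (m : ℕ) : (n⁻¹ * y * n) ^ m = n⁻¹ * y ^ m * n := by
  have := conj_pow (i := m) (a := n⁻¹) (b := y)
  simpa using this

/-- bounded 2-exponent in `L₂` -/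
theorem hE₂ : ∀ y ∈ L₂, ∀ k : ℕ, y ^ 2 ^ k = 1 → y ^ 2 ^ b = 1 := by
  intro y hy k hk
  have h1 : (n⁻¹ * y * n) ^ 2 ^ k = 1 := by
    rw [S.conj_inv_pow, hk]; group
  have h2 := S.hE _ (S.n_conj_inv₂ hy) k h1
  rw [S.conj_inv_pow] at h2
  have : y ^ 2 ^ b = n * (n⁻¹ * y ^ 2 ^ b * n) * n⁻¹ := by group
  rw [this, h2]; group

/-- inverting elements of order 4 in `L₂` -/
theorem hT₂ : ∀ x ∈ L₂, x * x = j → ∃ w ∈ L₂, w * w = j ∧ w * x * w⁻¹ = x⁻¹ := by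
  intro x hx hxx
  have h1 : (n⁻¹ * x * n) * (n⁻¹ * x * n) = j := by
    calc (n⁻¹ * x * n) * (n⁻¹ * x * n) = n⁻¹ * (x * x) * n := by group
      _ = j := by rw [hxx]; exact S.n_inv_conj_j
  obtain ⟨r, -, w, hw, -, -, hww, hwx, -⟩ := S.hT _ (S.n_conj_inv₂ hx) h1
  refine ⟨n * w * n⁻¹, S.n_conj₁ hw, ?_, ?_⟩
  · calc n * w * n⁻¹ * (n * w * n⁻¹) = n * (w * w) * n⁻¹ := by group
      _ = j := by rw [hww]; exact S.n_conj_j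
  · calc n * w * n⁻¹ * x * (n * w * n⁻¹)⁻¹ = n * (w * (n⁻¹ * x * n) * w⁻¹) * n⁻¹ := by group
      _ = n * (n⁻¹ * x * n)⁻¹ * n⁻¹ := by rw [hwx]
      _ = x⁻¹ := by group


/-- elements of `L₁L₂` are products -/
theorem exists_mul {x : G} (hx : x ∈ L₁ ⊔ L₂) : ∃ a ∈ L₁, ∃ c ∈ L₂, x = a * c :=
  Cfsg.Agent.Lib.Helper65_CommPair.exists_mul_of_mem_sup L₁ L₂ S.hc x hx

theorem n_not_mem : n ∉ L₁ ⊔ L₂ := by
  intro hmem
  obtain ⟨a, ha, c, hc', hn⟩ := S.exists_mul hmem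
  obtain ⟨x, hx, hxx⟩ := S.hex
  have h1 : n * x * n⁻¹ = a * x * a⁻¹ := by
    have hcx : c * x = x * c := (S.hc x hx c hc').symm
    calc n * x * n⁻¹ = a * (c * x) * c⁻¹ * a⁻¹ := by rw [hn]; group
      _ = a * (x * c) * c⁻¹ * a⁻¹ := by rw [hcx]
      _ = a * x * a⁻¹ := by group
  have h2 : n * x * n⁻¹ ∈ L₁ := by
    rw [h1]; exact L₁.mul_mem (L₁.mul_mem ha hx) (L₁.inv_mem ha)
  have h3 : n * x * n⁻¹ ∈ L₂ := S.n_conj₁ hx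
  have h4 : (n * x * n⁻¹) * (n * x * n⁻¹) = j := by
    calc (n * x * n⁻¹) * (n * x * n⁻¹) = n * (x * x) * n⁻¹ := by group
      _ = j := by rw [hxx]; exact S.n_conj_j
  rcases S.eq_of_mem_inf h2 h3 with h | h
  · rw [h, one_mul] at h4
    exact S.j_ne_one h4.symm
  · rw [h, S.jj] at h4
    exact S.j_ne_one h4.symm

/-- the nontrivial coset of `L₁L₂` in `C_G(j)` is `L₁L₂ n` -/
theorem exists_mul_n {y : G} (hy : y ∈ Subgroup.centralizer ({j} : Set G))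
    (hyN : y ∉ L₁ ⊔ L₂) : ∃ m ∈ L₁ ⊔ L₂, y = m * n := by
  obtain ⟨a, -, ha⟩ := Subgroup.relIndex_eq_two_iff.mp S.hi
  have h1 : y * a ∈ L₁ ⊔ L₂ := by
    rcases ha y hy with ⟨h, -⟩ | ⟨h, -⟩
    · exact h
    · exact absurd h hyN
  have h2 : n * a ∈ L₁ ⊔ L₂ := by
    rcases ha n S.hn with ⟨h, -⟩ | ⟨h, -⟩
    · exact h
    · exact absurd h S.n_not_mem
  refine ⟨y * a * (n * a)⁻¹, (L₁ ⊔ L₂).mul_mem h1 ((L₁ ⊔ L₂).inv_mem h2), by group⟩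

/-- **Step B1**: every involution of `C_G(j)` lies in `L₁L₂`. -/
theorem mem_sup_of_sq_eq_one {y : G} (hy : y ∈ Subgroup.centralizer ({j} : Set G))
    (hyy : y * y = 1) : y ∈ L₁ ⊔ L₂ := by
  by_contra hyN
  obtain ⟨m, hm, rfl⟩ := S.exists_mul_n hy hyN
  obtain ⟨x₁, hx₁, x₂, hx₂, rfl⟩ := S.exists_mul hm
  -- notation
  have hx₁' : n * x₁ * n⁻¹ ∈ L₂ := S.n_conj₁ hx₁
  have hx₂' : n * x₂ * n⁻¹ ∈ L₁ := S.n_conj₂ hx₂
  set x₁' := n * x₁ * n⁻¹ with hx₁'def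
  set x₂' := n * x₂ * n⁻¹ with hx₂'def
  have e1 : n * x₁ = x₁' * n := by rw [hx₁'def]; group
  have e2 : n * x₂ = x₂' * n := by rw [hx₂'def]; group
  have c1 : x₂ * x₂' = x₂' * x₂ := (S.hc x₂' hx₂' x₂ hx₂).symm
  have c2 : x₁' * x₂' = x₂' * x₁' := (S.hc x₂' hx₂' x₁' hx₁').symm
  have hsq : x₁ * x₂ * n * (x₁ * x₂ * n) = (x₁ * x₂') * (x₂ * x₁') * j := by
    calc x₁ * x₂ * n * (x₁ * x₂ * n) = x₁ * x₂ * (n * x₁) * x₂ * n := by group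
      _ = x₁ * x₂ * (x₁' * n) * x₂ * n := by rw [e1]
      _ = x₁ * x₂ * x₁' * (n * x₂) * n := by group
      _ = x₁ * x₂ * x₁' * (x₂' * n) * n := by rw [e2]
      _ = x₁ * x₂ * (x₁' * x₂') * (n * n) := by group
      _ = x₁ * x₂ * (x₂' * x₁') * j := by rw [c2, S.nn]
      _ = x₁ * (x₂ * x₂') * x₁' * j := by group
      _ = x₁ * (x₂' * x₂) * x₁' * j := by rw [c1]
      _ = (x₁ * x₂') * (x₂ * x₁') * j := by group
  rw [hsq] at hyy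
  have hu₁ : x₁ * x₂' ∈ L₁ := L₁.mul_mem hx₁ hx₂'
  have hu₂ : x₂ * x₁' ∈ L₂ := L₂.mul_mem hx₂ hx₁'
  have hu₁' : x₁ * x₂' ∈ L₂ := by
    have : x₁ * x₂' = (x₂ * x₁' * j)⁻¹ := by
      rw [eq_inv_iff_mul_eq_one, ← mul_assoc]; exact hyy
    rw [this]
    exact L₂.inv_mem (L₂.mul_mem hu₂ S.j_mem₂)
  have hu₁sq : (x₁ * x₂') * (x₁ * x₂') = 1 := by
    rcases S.eq_of_mem_inf hu₁ hu₁' with h | h
    · rw [h, one_mul]
    · rw [h, S.jj]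
  have hu₁n : n * (x₁ * x₂') * n⁻¹ = x₁ * x₂' := by
    rcases S.eq_of_mem_inf hu₁ hu₁' with h | h
    · rw [h]; group
    · rw [h]; exact S.n_conj_j
  have e3 : n * x₂' * n⁻¹ = x₂ := by
    have h1 := S.j_comm₂ hx₂
    calc n * x₂' * n⁻¹ = (n * n) * x₂ * (n⁻¹ * n⁻¹) := by rw [hx₂'def]; group
      _ = j * x₂ * j := by rw [S.nn, S.n_inv_sq]
      _ = x₂ * (j * j) := by rw [h1, mul_assoc]
      _ = x₂ := by rw [S.jj, mul_one]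
  have e4 : x₁' * x₂ = x₁ * x₂' := by
    calc x₁' * x₂ = x₁' * (n * x₂' * n⁻¹) := by rw [e3]
      _ = n * (x₁ * x₂') * n⁻¹ := by rw [hx₁'def]; group
      _ = x₁ * x₂' := hu₁n
  have e5 : x₂ * x₁' = x₁ * x₂' := by
    have hcomm : x₂ * (x₁ * x₂') = (x₁ * x₂') * x₂ := (S.hc _ hu₁ x₂ hx₂).symm
    calc x₂ * x₁' = x₂ * (x₁' * x₂) * x₂⁻¹ := by group
      _ = x₂ * (x₁ * x₂') * x₂⁻¹ := by rw [e4]
      _ = (x₁ * x₂') * x₂ * x₂⁻¹ := by rw [hcomm]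
      _ = x₁ * x₂' := by group
  rw [e5, hu₁sq, one_mul] at hyy
  exact S.j_ne_one hyy

/-- **Step B2**: the involutions of `C_G(j)` other than `j` are diagonal. -/
theorem exists_diag {t : G} (ht : t ∈ Subgroup.centralizer ({j} : Set G))
    (htt : t * t = 1) (ht1 : t ≠ 1) (htj : t ≠ j) :
    ∃ x₁ ∈ L₁, ∃ x₂ ∈ L₂, t = x₁ * x₂ ∧ x₁ * x₁ = j ∧ x₂ * x₂ = j := by
  obtain ⟨x₁, hx₁, x₂, hx₂, rfl⟩ := S.exists_mul (S.mem_sup_of_sq_eq_one ht htt)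
  have hcomm : x₂ * x₁ = x₁ * x₂ := (S.hc x₁ hx₁ x₂ hx₂).symm
  have hsq : (x₁ * x₁) * (x₂ * x₂) = 1 := by
    calc (x₁ * x₁) * (x₂ * x₂) = x₁ * (x₁ * x₂) * x₂ := by group
      _ = x₁ * (x₂ * x₁) * x₂ := by rw [hcomm]
      _ = x₁ * x₂ * (x₁ * x₂) := by group
      _ = 1 := htt
  have h1 : x₁ * x₁ ∈ L₂ := by
    have : x₁ * x₁ = (x₂ * x₂)⁻¹ := eq_inv_of_mul_eq_one_left hsq
    rw [this]; exact L₂.inv_mem (L₂.mul_mem hx₂ hx₂)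
  rcases S.eq_of_mem_inf (L₁.mul_mem hx₁ hx₁) h1 with h | h
  · exfalso
    rw [h, one_mul] at hsq
    rcases S.hU x₁ hx₁ h with h₁ | h₁ <;> rcases S.hU₂ x₂ hx₂ hsq with h₂ | h₂
    · apply ht1; rw [h₁, h₂, one_mul]
    · apply htj; rw [h₁, h₂, one_mul]
    · apply htj; rw [h₁, h₂, mul_one]
    · apply ht1; rw [h₁, h₂, S.jj]
  · refine ⟨x₁, hx₁, x₂, hx₂, rfl, h, ?_⟩
    rw [h] at hsq
    calc x₂ * x₂ = j * (j * (x₂ * x₂)) := by rw [← mul_assoc, S.jj, one_mul]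
      _ = j := by rw [hsq, mul_one]


/-- pull back an involution of `C_G(g j g⁻¹)` into `L₁L₂` -/
theorem conj_mem_sup {g y : G} (hyt : y * (g * j * g⁻¹) = (g * j * g⁻¹) * y) (hyy : y * y = 1) :
    g⁻¹ * y * g ∈ L₁ ⊔ L₂ := by
  apply S.mem_sup_of_sq_eq_one
  · apply S.mem_cent_of_comm
    calc j * (g⁻¹ * y * g) = g⁻¹ * ((g * j * g⁻¹) * y) * g := by group
      _ = g⁻¹ * (y * (g * j * g⁻¹)) * g := by rw [hyt]
      _ = g⁻¹ * y * g * j := by group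
  · calc g⁻¹ * y * g * (g⁻¹ * y * g) = g⁻¹ * (y * y) * g := by group
      _ = 1 := by rw [hyy]; group

/-- **Main theorem**: `j` is isolated in `C_G(j)`. -/
theorem isolated (g : G) (hg : g * j * g⁻¹ ∈ Subgroup.centralizer ({j} : Set G)) :
    g * j * g⁻¹ = j := by
  by_contra htj
  have htt : (g * j * g⁻¹) * (g * j * g⁻¹) = 1 := by
    calc (g * j * g⁻¹) * (g * j * g⁻¹) = g * (j * j) * g⁻¹ := by group
      _ = 1 := by rw [S.jj]; group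
  have ht1 : g * j * g⁻¹ ≠ 1 := by
    intro h
    apply S.j_ne_one
    have : j = g⁻¹ * (g * j * g⁻¹) * g := by group
    rw [this, h]; group
  obtain ⟨x₁, hx₁, x₂, hx₂, ht, hx₁sq, hx₂sq⟩ := S.exists_diag hg htt ht1 htj
  obtain ⟨r, hr, w₁, hw₁, hrpow, hrx, hw₁sq, hw₁x, hw₁r⟩ := S.hT x₁ hx₁ hx₁sq
  obtain ⟨w₂, hw₂, hw₂sq, hw₂x⟩ := S.hT₂ x₂ hx₂ hx₂sq
  -- commutation facts
  have c_w : w₂ * w₁ = w₁ * w₂ := (S.hc w₁ hw₁ w₂ hw₂).symm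
  have c_rw : w₂ * r = r * w₂ := (S.hc r hr w₂ hw₂).symm
  have c_rx : x₂ * r = r * x₂ := (S.hc r hr x₂ hx₂).symm
  have c_w₁x₂ : x₂ * w₁ = w₁ * x₂ := (S.hc w₁ hw₁ x₂ hx₂).symm
  have c_w₂x₁ : w₂ * x₁ = x₁ * w₂ := (S.hc x₁ hx₁ w₂ hw₂).symm
  have c_x : x₂ * x₁ = x₁ * x₂ := (S.hc x₁ hx₁ x₂ hx₂).symm
  -- `u = w₁ w₂` and `v = r w₁ w₂` are involutions (or trivial) commuting with `t`
  have hu : (w₁ * w₂) * (w₁ * w₂) = 1 := by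
    calc (w₁ * w₂) * (w₁ * w₂) = w₁ * (w₂ * w₁) * w₂ := by group
      _ = w₁ * (w₁ * w₂) * w₂ := by rw [c_w]
      _ = (w₁ * w₁) * (w₂ * w₂) := by group
      _ = 1 := by rw [hw₁sq, hw₂sq, S.jj]
  have hrw : (r * w₁) * (r * w₁) = j := by
    calc (r * w₁) * (r * w₁) = r * (w₁ * r * w₁⁻¹) * (w₁ * w₁) := by group
      _ = j := by rw [hw₁r, hw₁sq]; group
  have hv : (r * (w₁ * w₂)) * (r * (w₁ * w₂)) = 1 := by
    have c1 : w₂ * (r * w₁) = (r * w₁) * w₂ := (S.hc _ (L₁.mul_mem hr hw₁) w₂ hw₂).symm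
    calc (r * (w₁ * w₂)) * (r * (w₁ * w₂)) = (r * w₁) * (w₂ * (r * w₁)) * w₂ := by group
      _ = (r * w₁) * ((r * w₁) * w₂) * w₂ := by rw [c1]
      _ = ((r * w₁) * (r * w₁)) * (w₂ * w₂) := by group
      _ = 1 := by rw [hrw, hw₂sq, S.jj]
  have e1 : w₁ * x₁ = x₁⁻¹ * w₁ := by
    calc w₁ * x₁ = (w₁ * x₁ * w₁⁻¹) * w₁ := by group
      _ = x₁⁻¹ * w₁ := by rw [hw₁x]
  have e2 : w₂ * x₂ = x₂⁻¹ * w₂ := by
    calc w₂ * x₂ = (w₂ * x₂ * w₂⁻¹) * w₂ := by group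
      _ = x₂⁻¹ * w₂ := by rw [hw₂x]
  have tinv : x₁⁻¹ * x₂⁻¹ = x₁ * x₂ := by
    have h1 : (x₁ * x₂)⁻¹ = x₁ * x₂ := by
      apply inv_eq_of_mul_eq_one_left
      rw [← ht]; exact htt
    calc x₁⁻¹ * x₂⁻¹ = (x₂ * x₁)⁻¹ := by group
      _ = (x₁ * x₂)⁻¹ := by rw [c_x]
      _ = x₁ * x₂ := h1
  have hut : (w₁ * w₂) * (g * j * g⁻¹) = (g * j * g⁻¹) * (w₁ * w₂) := by
    rw [ht]
    have c3 : w₁ * x₂⁻¹ = x₂⁻¹ * w₁ := (S.hc w₁ hw₁ _ (L₂.inv_mem hx₂))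
    calc (w₁ * w₂) * (x₁ * x₂) = w₁ * (w₂ * x₁) * x₂ := by group
      _ = w₁ * (x₁ * w₂) * x₂ := by rw [c_w₂x₁]
      _ = (w₁ * x₁) * (w₂ * x₂) := by group
      _ = (x₁⁻¹ * w₁) * (x₂⁻¹ * w₂) := by rw [e1, e2]
      _ = x₁⁻¹ * (w₁ * x₂⁻¹) * w₂ := by group
      _ = x₁⁻¹ * (x₂⁻¹ * w₁) * w₂ := by rw [c3]
      _ = (x₁⁻¹ * x₂⁻¹) * (w₁ * w₂) := by group
      _ = (x₁ * x₂) * (w₁ * w₂) := by rw [tinv]
  have hrt : r * (g * j * g⁻¹) = (g * j * g⁻¹) * r := by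
    rw [ht]
    calc r * (x₁ * x₂) = (r * x₁) * x₂ := by group
      _ = (x₁ * r) * x₂ := by rw [hrx]
      _ = x₁ * (r * x₂) := by group
      _ = x₁ * (x₂ * r) := by rw [c_rx]
      _ = (x₁ * x₂) * r := by group
  have hvt : (r * (w₁ * w₂)) * (g * j * g⁻¹) = (g * j * g⁻¹) * (r * (w₁ * w₂)) := by
    calc (r * (w₁ * w₂)) * (g * j * g⁻¹) = r * ((w₁ * w₂) * (g * j * g⁻¹)) := by group
      _ = r * ((g * j * g⁻¹) * (w₁ * w₂)) := by rw [hut]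
      _ = (r * (g * j * g⁻¹)) * (w₁ * w₂) := by group
      _ = ((g * j * g⁻¹) * r) * (w₁ * w₂) := by rw [hrt]
      _ = (g * j * g⁻¹) * (r * (w₁ * w₂)) := by group
  -- pull back
  have hu' := S.conj_mem_sup hut hu
  have hv' := S.conj_mem_sup hvt hv
  have hρ : g⁻¹ * r * g ∈ L₁ ⊔ L₂ := by
    have : g⁻¹ * r * g = (g⁻¹ * (r * (w₁ * w₂)) * g) * (g⁻¹ * (w₁ * w₂) * g)⁻¹ := by group
    rw [this]
    exact (L₁ ⊔ L₂).mul_mem hv' ((L₁ ⊔ L₂).inv_mem hu')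
  obtain ⟨m₁, hm₁, m₂, hm₂, hρeq⟩ := S.exists_mul hρ
  have cm : Commute m₁ m₂ := S.hc m₁ hm₁ m₂ hm₂
  -- powers
  have hpow : ∀ k : ℕ, g⁻¹ * r ^ k * g = m₁ ^ k * m₂ ^ k := by
    intro k
    have h1 : (g⁻¹ * r * g) ^ k = g⁻¹ * r ^ k * g := by
      have := conj_pow (i := k) (a := g⁻¹) (b := r)
      simpa using this
    rw [← h1, hρeq, cm.mul_pow]
  have hb' : 2 ^ b = 2 ^ (b - 1) * 2 := by
    rw [← pow_succ]; congr 1; have := S.hb; omega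
  have hrb : r ^ 2 ^ b = 1 := by
    rw [hb', pow_mul, hrpow, pow_two, S.jj]
  have h1 : m₁ ^ 2 ^ b * m₂ ^ 2 ^ b = 1 := by
    rw [← hpow, hrb]; group
  have hm₁L₂ : m₁ ^ 2 ^ b ∈ L₂ := by
    have : m₁ ^ 2 ^ b = (m₂ ^ 2 ^ b)⁻¹ := eq_inv_of_mul_eq_one_left h1
    rw [this]; exact L₂.inv_mem (L₂.pow_mem hm₂ _)
  have hm₁b : m₁ ^ 2 ^ b = 1 := by
    apply S.hE m₁ hm₁ (b + 1)
    rw [pow_succ, pow_mul, pow_two]
    rcases S.eq_of_mem_inf (L₁.pow_mem hm₁ _) hm₁L₂ with h | h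
    · rw [h, one_mul]
    · rw [h, S.jj]
  have hm₂b : m₂ ^ 2 ^ b = 1 := by
    rw [hm₁b, one_mul] at h1; exact h1
  have ha₁ : m₁ ^ 2 ^ (b - 1) = 1 ∨ m₁ ^ 2 ^ (b - 1) = j := by
    apply S.hU _ (L₁.pow_mem hm₁ _)
    rw [← pow_two, ← pow_mul, ← hb', hm₁b]
  have ha₂ : m₂ ^ 2 ^ (b - 1) = 1 ∨ m₂ ^ 2 ^ (b - 1) = j := by
    apply S.hU₂ _ (L₂.pow_mem hm₂ _)
    rw [← pow_two, ← pow_mul, ← hb', hm₂b]
  have hj' : g⁻¹ * j * g = m₁ ^ 2 ^ (b - 1) * m₂ ^ 2 ^ (b - 1) := by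
    rw [← hpow, hrpow]
  have hj'1 : g⁻¹ * j * g ≠ 1 := by
    intro h
    apply S.j_ne_one
    have : j = g * (g⁻¹ * j * g) * g⁻¹ := by group
    rw [this, h]; group
  have hj'j : g⁻¹ * j * g ≠ j := by
    intro h
    apply htj
    have : g * j * g⁻¹ = g * (g * (g⁻¹ * j * g) * g⁻¹) * g⁻¹ := by group
    rw [this, h]
    have h2 : j = g * (g⁻¹ * j * g) * g⁻¹ := by group
    rw [h] at h2
    rw [← h2]
    exact h2.symm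
  rcases ha₁ with h₁ | h₁ <;> rcases ha₂ with h₂ | h₂
  · apply hj'1; rw [hj', h₁, h₂, one_mul]
  · apply hj'j; rw [hj', h₁, h₂, one_mul]
  · apply hj'j; rw [hj', h₁, h₂, mul_one]
  · apply hj'1; rw [hj', h₁, h₂, S.jj]

end Setting

end Cfsg.Agent.Lib.Helper53_StdForm
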