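import Mathlib
import Cfsg.Agent.Lib.Helper38_MIODefs
import Cfsg.Agent.Lib.Helper38_MIODefs2
import Cfsg.Agent.Lib.Helper96_T5Fam
import Cfsg.Agent.Lib.Helper17_MIO_TR
import Cfsg.Agent.Lib.Helper78_MIO_MASS
import Cfsg.Agent.Lib.Helper24_T5_SPAN
import Cfsg.Agent.Lib.Helper14_Siegel

/-!
T6-FAMA (helper79's TIGHT6P market, S2145): a rank 2 member through `l` gives `q²` members through `l`.
-/

set_option autoImplicit false
set_option linter.unusedSectionVars false
set_option linter.unusedVariables false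

namespace Cfsg.Agent.Lib.Helper53_T6_FAMA

open Module Cfsg.Agent.Lib.Helper44_QuadClass Cfsg.Agent.Lib.Helper14_OmegaSimple
  Cfsg.Agent.Lib.Helper38_MIODefs Cfsg.Agent.Lib.Helper38_MIODefs2 Cfsg.Agent.Lib.Helper96_T5Defs
  Cfsg.Agent.Lib.Helper96_T5Fam

variable {F W : Type*} [Field F] [Fintype F] [AddCommGroup W] [Module F W] [FiniteDimensional F W]

/-! ## T6-FAMA (M): a rank 2 member through `l` gives `q²` members through `l`. -/
theorem mult_ge_of_rank2 (Q : QuadraticForm F W) (hQ : (QuadraticMap.polarBilin Q).Nondegenerate)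
    (hdim : finrank F W = 6)
    (hr2 : ∀ {l x : W}, l ≠ 0 → Q l = 0 → Q x = 0 → QuadraticMap.polar (⇑Q) l x = 0 →
      x ∉ Submodule.span F {l} → ∃ u z : F × F → W,
      (∀ i, Q (u i) = 0 ∧ QuadraticMap.polar (⇑Q) (u i) (z i) = 0 ∧ E Q (u i) (z i) l = l) ∧
      ∀ i j, E Q (u i) (z i) x ∈ Submodule.span F {l, E Q (u j) (z j) x} → i = j)
    {𝒪 : Type*} [Finite 𝒪] (C : 𝒪 → AddSubgroup W) (p : ℕ) (hS : SiegSym Q p C) {O : 𝒪}
    (hO : TSNL Q (C O)) (h2 : IsTS Q 2 (Submodule.span F ((C O : AddSubgroup W) : Set W))) {l : W}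
    (hl0 : l ≠ 0) (hl : l ∈ C O) : Fintype.card F ^ 2 ≤ mult C l := by
  classical
  -- a member vector outside `F l`
  obtain ⟨x, hx, hxl⟩ : ∃ x ∈ C O, x ∉ Submodule.span F {l} := by
    by_contra hcon
    push Not at hcon
    apply hO.2
    refine ⟨l, fun y hy => ?_⟩
    obtain ⟨a, ha⟩ := Submodule.mem_span_singleton.mp (hcon y hy)
    exact ⟨a, ha.symm⟩
  have hQl : Q l = 0 := hO.1 l hl
  have hQx : Q x = 0 := hO.1 x hx
  have hlx : QuadraticMap.polar (⇑Q) l x = 0 := by
    unfold QuadraticMap.polar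
    rw [hO.1 _ ((C O).add_mem hl hx), hQl, hQx]; ring
  obtain ⟨u, z, huz, hsep⟩ := hr2 hl0 hQl hQx hlx hxl
  -- the span of the member is `⟨l, x⟩`
  have hli : LinearIndependent F ![l, x] := by
    rw [LinearIndependent.pair_iff' hl0]
    intro a ha
    exact hxl (Submodule.mem_span_singleton.mpr ⟨a, ha⟩)
  have hle : Submodule.span F {l, x} ≤ Submodule.span F ((C O : AddSubgroup W) : Set W) := by
    apply Submodule.span_mono
    intro y hy
    rcases hy with rfl | hy
    · exact hl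
    · rw [Set.mem_singleton_iff] at hy
      rw [hy]; exact hx
  have hfr : finrank F ↥(Submodule.span F {l, x}) = 2 := by
    have h1 := finrank_span_eq_card hli
    rw [Matrix.range_cons, Matrix.range_cons, Matrix.range_empty, Set.union_empty] at h1
    have h3 : ({l} ∪ {x} : Set W) = {l, x} := by
      ext y; simp [Set.mem_insert_iff, or_comm]
    rw [h3] at h1
    rw [h1]; simp
  have hspan : Submodule.span F {l, x} = Submodule.span F ((C O : AddSubgroup W) : Set W) :=
    Submodule.eq_of_le_of_finrank_eq hle (by rw [hfr, h2.1])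
  have hmem : ∀ y ∈ C O, ∃ a b : F, a • l + b • x = y := by
    intro y hy
    have h1 : y ∈ Submodule.span F {l, x} := by
      rw [hspan]; exact Submodule.subset_span hy
    exact Submodule.mem_span_pair.mp h1
  -- the permutations
  have hperm : ∀ i : F × F, ∃ π : Equiv.Perm 𝒪, ∀ O' y, y ∈ C O' ↔ E Q (u i) (z i) y ∈ C (π O') := by
    intro i
    obtain ⟨π, -, hπ⟩ := hS (u i) (z i) (huz i).1 (huz i).2.1
    exact ⟨π, hπ⟩
  choose π hπ using hperm
  have hlmem : ∀ i, l ∈ C (π i O) := by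
    intro i
    have := (hπ i O l).1 hl
    rwa [(huz i).2.2] at this
  have hinj : Function.Injective (fun i : F × F => (⟨π i O, hlmem i⟩ : {O' : 𝒪 // l ∈ C O'})) := by
    intro i j hij
    have h1 : π i O = π j O := congrArg Subtype.val hij
    apply hsep i j
    have h3 : E Q (u i) (z i) x ∈ C (π j O) := by
      rw [← h1]; exact (hπ i O x).1 hx
    have h4 : E Q (u j) (-(z j)) (E Q (u i) (z i) x) ∈ C O :=
      (siegSym_back Q (huz j).1 (huz j).2.1 (hπ j) O _).1 h3
    obtain ⟨a, b, hab⟩ := hmem _ h4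
    have h5 := congrArg (E Q (u j) (z j)) hab
    rw [E_E_neg Q (huz j).1 (huz j).2.1, map_add, map_smul, map_smul, (huz j).2.2] at h5
    rw [← h5]
    exact Submodule.mem_span_pair.mpr ⟨a, b, rfl⟩
  have hcard := Nat.card_le_card_of_injective _ hinj
  rw [Nat.card_eq_fintype_card, Fintype.card_prod] at hcard
  unfold mult
  calc Fintype.card F ^ 2 = Fintype.card F * Fintype.card F := sq _
    _ ≤ _ := hcard

end Cfsg.Agent.Lib.Helper53_T6_FAMA
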