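import Mathlib
import Cfsg.Agent.Lib.Helper36_TwistD4
import Cfsg.Agent.Lib.Helper36_TwistOrderD4

/-!
# S2183 market (architect helper23), package SYL: an involution of `³D₄(q)`, `q` even, is conjugate
into `U = posUnipotent ⊓ twistedD4` (`|U| = q ^ 12` is the full power of two in `|³D₄(q)|`, Sylow).
-/

set_option autoImplicit false

namespace Cfsg.Agent.Lib.Helper53_TD4Inv_SYL

open Cfsg Cfsg.Lie Cfsg.Agent.Lib.Helper36_TwistD4

/-- If `U` is a subgroup of order `2 ^ e` of a finite group of order `2 ^ e * r`, `r` odd, then every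
element of order two is conjugate into `U`. -/
theorem exists_conj_mem_of_card {G : Type*} [Group G] [Finite G] (U : Subgroup G) (e r : ℕ)
    (hU : Nat.card U = 2 ^ e) (hG : Nat.card G = 2 ^ e * r) (hr : ¬ 2 ∣ r) (g : G)
    (hg : orderOf g = 2) : ∃ c : G, c * g * c⁻¹ ∈ U := by
  have : Fact (Nat.Prime 2) := ⟨Nat.prime_two⟩
  have hUp : IsPGroup 2 U := IsPGroup.of_card hU
  have hidx : ¬ 2 ∣ U.index := by
    have h1 := U.card_mul_index
    rw [hU, hG] at h1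
    have h2 : U.index = r := Nat.eq_of_mul_eq_mul_left (by positivity) h1
    rw [h2]
    exact hr
  let P : Sylow 2 G := hUp.toSylow hidx
  have hgp : IsPGroup 2 (Subgroup.zpowers g) := by
    apply IsPGroup.of_card (n := 1)
    rw [Nat.card_zpowers, hg, pow_one]
  obtain ⟨Q, hQ⟩ := hgp.exists_le_sylow
  obtain ⟨c, hc⟩ := MulAction.exists_smul_eq G Q P
  refine ⟨c, ?_⟩
  have hgQ : g ∈ Q := hQ (Subgroup.mem_zpowers g)
  have h3 : c * g * c⁻¹ ∈ ((c • Q : Sylow 2 G) : Subgroup G) := by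
    rw [Sylow.coe_subgroup_smul]
    have h4 := Subgroup.smul_mem_pointwise_smul g (MulAut.conj c) (Q : Subgroup G) hgQ
    rwa [MulAut.smul_def, MulAut.conj_apply] at h4
  rw [hc] at h3
  exact (IsPGroup.mem_toSylow hUp hidx).mp h3


/-- a field of characteristic two with `q ^ 3` elements: `q = 2 ^ m`, `m ≥ 1` -/
theorem h53_q_eq {K : Type*} [Field K] [Fintype K] [CharP K 2] {q : ℕ}
    (hK : Fintype.card K = q ^ 3) : ∃ m : ℕ, 0 < m ∧ q = 2 ^ m := by
  obtain ⟨n, -, hn⟩ := FiniteField.card K 2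
  have h1 : q ∣ 2 ^ (n : ℕ) := by
    rw [← hn, hK]
    exact dvd_pow_self q (by norm_num)
  obtain ⟨m, -, hm⟩ := (Nat.dvd_prime_pow Nat.prime_two).mp h1
  refine ⟨m, ?_, hm⟩
  rcases Nat.eq_zero_or_pos m with h0 | h0
  · exfalso
    rw [h0, pow_zero] at hm
    have h2 := Fintype.one_lt_card (α := K)
    rw [hK, hm] at h2
    norm_num at h2
  · exact h0

/-- the odd part of `|³D₄(q)|` for even `q` -/
theorem h53_odd_part {q : ℕ} (hq : 2 ∣ q) (hq0 : 0 < q) :
    ¬ 2 ∣ (q ^ 2 - 1) * (q ^ 6 - 1) * (q ^ 8 + q ^ 4 + 1) := by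
  obtain ⟨k, rfl⟩ := hq
  have hk : 0 < k := by omega
  have e2 : (2 * k) ^ 2 = 2 * (2 * k ^ 2) := by ring
  have e6 : (2 * k) ^ 6 = 2 * (32 * k ^ 6) := by ring
  have e8 : (2 * k) ^ 8 + (2 * k) ^ 4 = 2 * (128 * k ^ 8 + 8 * k ^ 4) := by ring
  have p2 : 0 < k ^ 2 := by positivity
  have p6 : 0 < k ^ 6 := by positivity
  intro h
  rcases (Nat.Prime.dvd_mul Nat.prime_two).mp h with h | h
  · rcases (Nat.Prime.dvd_mul Nat.prime_two).mp h with h | h
    · rw [e2] at h; omega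
    · rw [e6] at h; omega
  · rw [e8] at h; omega

section

variable {K : Type*} [Field K] [Fintype K] {q : ℕ} (hK : Fintype.card K = q ^ 3)

include hK in
theorem exists_conj_mem_U [CharP K 2] (g : ↥(twistedD4 K q)) (hg : orderOf g = 2) :
    ∃ c : ↥(twistedD4 K q), ((c * g * c⁻¹ : ↥(twistedD4 K q)) : GL chevD4.Idx K) ∈ chevD4.posUnipotent K := by
  obtain ⟨m, hm0, hm⟩ := h53_q_eq hK
  have hq : IsPrimePow q := ⟨2, m, Nat.prime_two.prime, hm0, hm.symm⟩
  have hcU := card_U hq hK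
  have hcG := Cfsg.Agent.Lib.Helper36_TwistOrderD4.card_twistedD4 hq hK
  have hodd : ¬ 2 ∣ (q ^ 2 - 1) * (q ^ 6 - 1) * (q ^ 8 + q ^ 4 + 1) :=
    h53_odd_part (by rw [hm]; exact dvd_pow_self 2 hm0.ne') hq.pos
  have hq12 : q ^ 12 = 2 ^ (m * 12) := by rw [hm, ← pow_mul]
  -- the copy of `U` inside the twisted group
  have hcU' : Nat.card ↥((chevD4.posUnipotent K).subgroupOf (twistedD4 K q)) = 2 ^ (m * 12) := by
    rw [← hq12, ← hcU, ← Subgroup.inf_subgroupOf_right]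
    exact Nat.card_congr (Subgroup.subgroupOfEquivOfLe inf_le_right).toEquiv
  have hcG' : Nat.card ↥(twistedD4 K q) =
      2 ^ (m * 12) * ((q ^ 2 - 1) * (q ^ 6 - 1) * (q ^ 8 + q ^ 4 + 1)) := by
    rw [hcG, hq12]
    ring
  obtain ⟨c, hc⟩ := exists_conj_mem_of_card
    ((chevD4.posUnipotent K).subgroupOf (twistedD4 K q)) (m * 12) _ hcU' hcG' hodd g hg
  exact ⟨c, Subgroup.mem_subgroupOf.mp hc⟩

end

end Cfsg.Agent.Lib.Helper53_TD4Inv_SYL
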