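import Mathlib
import Cfsg.Agent.Lib.Helper48_Generation
import Cfsg.Agent.Lib.Helper50_UniqueInv2
import Cfsg.Agent.S5112

/-!
# Helper53_ThreeSq

Tools for a noncyclic elementary abelian group `⟨α, β⟩` of odd order acting on a `2`-group `W`
such that every nonidentity element fixes at most one involution.
-/

set_option autoImplicit false

namespace Cfsg.Agent.Lib.Helper53_ThreeSq

variable {W : Type*} [Group W]

/-- The subgroup of fixed points of an automorphism. -/
def fixSub (γ : MulAut W) : Subgroup W where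
  carrier := {x | γ x = x}
  mul_mem' := by
    intro a b ha hb
    show γ (a * b) = a * b
    rw [map_mul, show γ a = a from ha, show γ b = b from hb]
  one_mem' := map_one γ
  inv_mem' := by
    intro a ha
    show γ a⁻¹ = a⁻¹
    rw [map_inv, show γ a = a from ha]

theorem mem_fixSub {γ : MulAut W} {x : W} : x ∈ fixSub γ ↔ γ x = x := Iff.rfl

/-- The "lines" of `⟨α, β⟩`. -/
def IsLine (α β γ : MulAut W) : Prop := γ = β ∨ ∃ i : ℕ, γ = α * β ^ i

/-- Restriction of an automorphism to an invariant subgroup. -/
def resAut (a : MulAut W) (L : Subgroup W) (hL : ∀ l ∈ L, a l ∈ L) (hL' : ∀ l ∈ L, a⁻¹ l ∈ L) :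
    MulAut L where
  toFun l := ⟨a l, hL l l.2⟩
  invFun l := ⟨a⁻¹ l, hL' l l.2⟩
  left_inv l := by ext; simp
  right_inv l := by ext; simp
  map_mul' x y := by ext; simp

@[simp] theorem resAut_apply (a : MulAut W) (L : Subgroup W) (hL : ∀ l ∈ L, a l ∈ L)
    (hL' : ∀ l ∈ L, a⁻¹ l ∈ L) (l : L) : ((resAut a L hL hL') l : W) = a l := rfl

theorem resAut_pow_apply (a : MulAut W) (L : Subgroup W) (hL : ∀ l ∈ L, a l ∈ L)
    (hL' : ∀ l ∈ L, a⁻¹ l ∈ L) (k : ℕ) (l : L) :
    (((resAut a L hL hL') ^ k) l : W) = (a ^ k) l := by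
  induction k generalizing l with
  | zero => simp
  | succ k ih =>
    rw [pow_succ, pow_succ, MulAut.mul_apply, MulAut.mul_apply, ih, resAut_apply]

theorem pow_inv_of_inv (a : MulAut W) (L : Subgroup W) (hL : ∀ l ∈ L, a l ∈ L) (k : ℕ) :
    ∀ l ∈ L, (a ^ k) l ∈ L := by
  induction k with
  | zero => intro l hl; simpa using hl
  | succ k ih =>
    intro l hl
    rw [pow_succ', MulAut.mul_apply]
    exact hL _ (ih l hl)

theorem inv_inv_of_pow {p : ℕ} (hp : 0 < p) (a : MulAut W) (ha : a ^ p = 1) (L : Subgroup W)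
    (hL : ∀ l ∈ L, a l ∈ L) : ∀ l ∈ L, a⁻¹ l ∈ L := by
  have h : a⁻¹ = a ^ (p - 1) := by
    rw [inv_eq_iff_mul_eq_one, ← pow_succ']
    rw [Nat.sub_add_cancel hp, ha]
  rw [h]
  exact pow_inv_of_inv a L hL (p - 1)

theorem not_dvd_card_of_two_group [Finite W] (hW : IsPGroup 2 W) {p : ℕ} [hp' : Fact p.Prime] (hp : p ≠ 2)
    (X : Subgroup W) : ¬ p ∣ Nat.card X := by
  intro hdvd
  obtain ⟨k, hk⟩ := (IsPGroup.iff_card).mp (hW.to_subgroup X)
  rw [hk] at hdvd
  have := (Nat.Prime.dvd_of_dvd_pow hp'.out hdvd)
  exact hp ((Nat.prime_dvd_prime_iff_eq hp'.out Nat.prime_two).mp this)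

/-- Generation by fixed points, for an invariant subgroup. -/
theorem gen_inv [Finite W] (hW : IsPGroup 2 W) {p : ℕ} [hp' : Fact p.Prime] (hp : p ≠ 2)
    (α β : MulAut W) (hα : α ^ p = 1) (hβ : β ^ p = 1) (hc : α * β = β * α)
    (X T : Subgroup W) (hαX : ∀ x ∈ X, α x ∈ X) (hβX : ∀ x ∈ X, β x ∈ X)
    (h : ∀ γ, IsLine α β γ → ∀ x ∈ X, γ x = x → x ∈ T) : X ≤ T := by
  have hpos : 0 < p := hp'.out.pos
  have hαX' := inv_inv_of_pow hpos α hα X hαX
  have hβX' := inv_inv_of_pow hpos β hβ X hβX
  have : Fact (Nat.Prime 2) := ⟨Nat.prime_two⟩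
  have : Group.IsNilpotent X := (hW.to_subgroup X).isNilpotent
  have key := Helper48_Generation.eq_top_of_fixed_le (p := p) X (not_dvd_card_of_two_group hW hp X)
    (resAut α X hαX hαX') (resAut β X hβX hβX')
    (by
      ext l
      rw [resAut_pow_apply, hα]; simp)
    (by
      ext l
      rw [resAut_pow_apply, hβ]; simp)
    (by
      ext l
      show (α * β) l = (β * α) l
      rw [hc])
    (T.subgroupOf X)
    (by
      intro x hx
      rw [Subgroup.mem_subgroupOf]
      apply h β (Or.inl rfl) x x.2
      exact congrArg Subtype.val hx)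
    (by
      intro i x hx
      rw [Subgroup.mem_subgroupOf]
      apply h (α * β ^ i) (Or.inr ⟨i, rfl⟩) x x.2
      have := congrArg Subtype.val hx
      rw [MulAut.mul_apply, resAut_apply, resAut_pow_apply] at this
      exact this)
  intro x hx
  have : (⟨x, hx⟩ : X) ∈ T.subgroupOf X := by rw [key]; trivial
  exact this

theorem mem_zpowers_two {z : W} (hz : orderOf z = 2) {y : W} :
    y ∈ Subgroup.zpowers z ↔ y = 1 ∨ y = z := by
  constructor
  · rintro ⟨k, rfl⟩
    have h := zpow_mod_orderOf z k
    rw [hz] at h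
    have h2 : k % 2 = 0 ∨ k % 2 = 1 := by omega
    rw [show ((2 : ℕ) : ℤ) = 2 from rfl] at h
    rcases h2 with h2 | h2
    · left
      show z ^ k = 1
      rw [← h, h2, zpow_zero]
    · right
      show z ^ k = z
      rw [← h, h2, zpow_one]
  · rintro (rfl | rfl)
    · exact Subgroup.one_mem _
    · exact Subgroup.mem_zpowers _

theorem sq_eq_one_of_order_two {z : W} (hz : orderOf z = 2) : z * z = 1 := by
  have := pow_orderOf_eq_one z
  rw [hz, pow_two] at this
  exact this

theorem ne_one_of_order_two {z : W} (hz : orderOf z = 2) : z ≠ 1 := by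
  intro h
  rw [h, orderOf_one] at hz
  omega

theorem card_zpowers_two {z : W} (hz : orderOf z = 2) : Nat.card (Subgroup.zpowers z) = 2 := by
  rw [Nat.card_zpowers, hz]

/-- An invariant subgroup of a group of order `8` on which an automorphism of order `3` acts
nontrivially is the whole group. -/
theorem inv8 [Finite W] (δ : MulAut W) (hδ3 : δ ^ 3 = 1) (z : W) (hz : orderOf z = 2) (hδz : δ z = z)
    (Q B : Subgroup W) (hBQ : B ≤ Q) (hQ : Nat.card Q = 8) (hzB : z ∈ B)
    (x : W) (hxB : x ∈ B) (hδxB : δ x ∈ B) (hδx : δ x ≠ x) : B = Q := by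
  have hzz := sq_eq_one_of_order_two hz
  have hz1 := ne_one_of_order_two hz
  have hZB : Subgroup.zpowers z ≤ B := by
    rw [Subgroup.zpowers_le]; exact hzB
  have hmul := Subgroup.relIndex_mul_relIndex ⊥ (Subgroup.zpowers z) B bot_le hZB
  rw [Subgroup.relIndex_bot_left, Subgroup.relIndex_bot_left, card_zpowers_two hz] at hmul
  have hdvd : Nat.card B ∣ 8 := hQ ▸ Subgroup.card_dvd_of_le hBQ
  have hxZ : x ∉ Subgroup.zpowers z := by
    intro hx
    rcases (mem_zpowers_two hz).mp hx with h | h
    · apply hδx; rw [h, map_one]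
    · apply hδx; rw [h, hδz]
  have hδxZ : δ x ∉ Subgroup.zpowers z := by
    intro hx
    rcases (mem_zpowers_two hz).mp hx with h | h
    · apply hδx
      have : x = 1 := δ.injective (by rw [h, map_one])
      rw [this, map_one]
    · apply hδx
      have : x = z := δ.injective (by rw [h, hδz])
      rw [this, hδz]
  have hr1 : (Subgroup.zpowers z).relIndex B ≠ 1 := by
    intro h
    rw [Subgroup.relIndex_eq_one] at h
    exact hxZ (h hxB)
  have hr2 : (Subgroup.zpowers z).relIndex B ≠ 2 := by
    intro h
    have h2 : ((Subgroup.zpowers z).subgroupOf B).index = 2 := h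
    have key := Subgroup.mul_mem_iff_of_index_two h2 (a := (⟨x⁻¹, B.inv_mem hxB⟩ : B))
      (b := (⟨δ x, hδxB⟩ : B))
    rw [Subgroup.mem_subgroupOf, Subgroup.mem_subgroupOf, Subgroup.mem_subgroupOf] at key
    have hmem : x⁻¹ * δ x ∈ Subgroup.zpowers z := by
      apply key.mpr
      constructor
      · intro h'
        exact absurd ((Subgroup.inv_mem_iff _).mp h') hxZ
      · intro h'
        exact absurd h' hδxZ
    rcases (mem_zpowers_two hz).mp hmem with h' | h'
    · apply hδx
      have := congrArg (fun t => x * t) h'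
      simpa using this
    · have h1 : δ x = x * z := by
        have := congrArg (fun t => x * t) h'
        simpa using this
      have h2' : δ (δ x) = x := by
        rw [h1, map_mul, hδz, h1, mul_assoc, hzz, mul_one]
      have h3 : (δ ^ 3) x = x * z := by
        rw [pow_succ, pow_succ, pow_one, MulAut.mul_apply, MulAut.mul_apply, h2', h1]
      rw [hδ3, MulAut.one_apply] at h3
      apply hz1
      have := congrArg (fun t => x⁻¹ * t) h3
      simpa using this.symm
  have hcard : Nat.card B = 8 := by
    have hne : (Subgroup.zpowers z).relIndex B ∣ 4 := by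
      have : 2 * (Subgroup.zpowers z).relIndex B ∣ 2 * 4 := by rw [hmul]; exact hdvd
      exact Nat.dvd_of_mul_dvd_mul_left (by norm_num) this
    have hle : (Subgroup.zpowers z).relIndex B ≤ 4 := Nat.le_of_dvd (by norm_num) hne
    have : (Subgroup.zpowers z).relIndex B = 4 := by
      interval_cases h : (Subgroup.zpowers z).relIndex B
      · simp at hne
      · exact absurd rfl hr1
      · exact absurd rfl hr2
      · norm_num at hne
      · rfl
    omega
  exact Subgroup.eq_of_le_of_card_ge hBQ (by rw [hcard, hQ])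

theorem isPGroup_mulAut_of_cyclic {Y : Type*} [Group Y] [Finite Y] (hY : IsPGroup 2 Y)
    [IsCyclic Y] : IsPGroup 2 (MulAut Y) := by
  have : Fact (Nat.Prime 2) := ⟨Nat.prime_two⟩
  obtain ⟨k, hk⟩ := IsPGroup.iff_card.mp hY
  have hcard := IsCyclic.card_mulAut Y
  rw [hk] at hcard
  rcases k with _ | k
  · apply IsPGroup.of_card (n := 0)
    simpa using hcard
  · apply IsPGroup.of_card (n := k)
    rw [Nat.totient_prime_pow Nat.prime_two (Nat.succ_pos k)] at hcard
    simpa using hcard

theorem eq_one_of_pow_of_two_group {A : Type*} [Group A] (hA : IsPGroup 2 A) {p : ℕ}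
    [hp' : Fact p.Prime] (hp : p ≠ 2) (a : A) (ha : a ^ p = 1) : a = 1 := by
  obtain ⟨k, hk⟩ := hA a
  have h1 : orderOf a ∣ p := orderOf_dvd_of_pow_eq_one ha
  have h2 : orderOf a ∣ 2 ^ k := orderOf_dvd_of_pow_eq_one hk
  have hcop : Nat.Coprime p (2 ^ k) :=
    Nat.Coprime.pow_right k ((Nat.coprime_primes hp'.out Nat.prime_two).mpr hp)
  have h3 : orderOf a ∣ 1 := by
    have := Nat.dvd_gcd h1 h2
    rwa [hcop] at this
  exact orderOf_eq_one_iff.mp (Nat.dvd_one.mp h3)

/-- The key dichotomy: an automorphism `δ` of odd prime order `p` commuting with `γ`, where the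
fixed points of `γ` contain at most one involution, fixes `C_W(γ)` pointwise unless `p = 3`
and `C_W(γ)` is a quaternion group of order `8`. -/
theorem dichotomy [Finite W] (hW : IsPGroup 2 W) {p : ℕ} [hp' : Fact p.Prime] (hp : p ≠ 2)
    (γ δ : MulAut W) (hδp : δ ^ p = 1) (hcomm : δ * γ = γ * δ)
    (huniq : ∀ x y : W, orderOf x = 2 → orderOf y = 2 → γ x = x → γ y = y → x = y) :
    (∀ x, γ x = x → δ x = x) ∨
    (p = 3 ∧ Nat.card (fixSub γ) = 8 ∧ (∃ a b, a ∈ fixSub γ ∧ b ∈ fixSub γ ∧ a * b ≠ b * a) ∧
      (∀ x, γ x = x → δ x = x → x ^ 2 = 1) ∧ ∀ q ∈ fixSub γ, q ^ 4 = 1) := by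
  classical
  have hF2 : Fact (Nat.Prime 2) := ⟨Nat.prime_two⟩
  have hδY : ∀ y ∈ fixSub γ, δ y ∈ fixSub γ := by
    intro y hy
    show γ (δ y) = δ y
    have : (γ * δ) y = (δ * γ) y := by rw [hcomm]
    rw [MulAut.mul_apply, MulAut.mul_apply] at this
    rw [this, show γ y = y from hy]
  have hδY' := inv_inv_of_pow hp'.out.pos δ hδp (fixSub γ) hδY
  obtain ⟨d, hd⟩ : ∃ d : MulAut (fixSub γ), d = resAut δ (fixSub γ) hδY hδY' := ⟨_, rfl⟩
  have hdapp : ∀ y : fixSub γ, ((d y : fixSub γ) : W) = δ y := by
    intro y; rw [hd]; rfl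
  have hdp : d ^ p = 1 := by
    ext l
    rw [hd, resAut_pow_apply, hδp]; simp
  have hYp : IsPGroup 2 (fixSub γ) := hW.to_subgroup (fixSub γ)
  have hord : ∀ u : fixSub γ, u ^ 2 = 1 → u ≠ 1 → orderOf (u : W) = 2 := by
    intro u hu hu1
    apply orderOf_eq_prime
    · have := congrArg Subtype.val hu
      simpa using this
    · intro h
      apply hu1
      exact Subtype.ext h
  have huY : Helper50_UniqueInv.UniqueInvolution (fixSub γ) := by
    intro u v hu hv hu1 hv1
    apply Subtype.ext
    exact huniq _ _ (hord u hu hu1) (hord v hv hv1) u.2 v.2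
  have htriv : d = 1 → ∀ x, γ x = x → δ x = x := by
    intro h1 x hx
    have := hdapp ⟨x, hx⟩
    rw [h1] at this
    simpa using this.symm
  rcases Helper50_UniqueInv2.isCyclic_or_quaternion hYp huY with hcyc | ⟨k, hk1, ⟨e⟩⟩
  · left
    exact htriv (eq_one_of_pow_of_two_group (isPGroup_mulAut_of_cyclic hYp) hp d hdp)
  · rcases Nat.lt_or_ge 1 k with hk2 | hk2
    · left
      have e' : fixSub γ ≃* QuaternionGroup (2 ^ (k + 2 - 2)) := by
        rw [Nat.add_sub_cancel]; exact e
      exact htriv (eq_one_of_pow_of_two_group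
        (S5112.isPGroup_mulAut_quaternion (k + 2) (by omega) e') hp d hdp)
    · have hk : k = 1 := by omega
      subst hk
      by_cases hd1 : d = 1
      · left; exact htriv hd1
      · right
        have e2 : fixSub γ ≃* QuaternionGroup 2 := e
        have hcardY : Nat.card (fixSub γ) = 8 := by
          rw [Nat.card_congr e2.toEquiv, Nat.card_eq_fintype_card, QuaternionGroup.card]
        -- the fixed points of `d`
        have hFtop : fixSub d ≠ ⊤ := by
          intro h
          apply hd1
          ext y
          have : y ∈ fixSub d := by rw [h]; trivial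
          rw [show d y = y from this]; rfl
        have hFdvd : Nat.card (fixSub d) ∣ 8 := hcardY ▸ Subgroup.card_subgroup_dvd_card (fixSub d)
        have hF8 : Nat.card (fixSub d) ≠ 8 := by
          intro h
          apply hFtop
          rw [← Subgroup.card_eq_iff_eq_top, h, hcardY]
        have hF1 : Nat.card (fixSub d) ≠ 1 := by
          intro h
          have hbot := Subgroup.eq_bot_of_card_eq _ h
          obtain ⟨t, ht⟩ := exists_prime_orderOf_dvd_card' (G := fixSub γ) 2 (by rw [hcardY]; norm_num)
          have ht1 : t ≠ 1 := ne_one_of_order_two ht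
          have ht2 : t ^ 2 = 1 := by rw [← ht]; exact pow_orderOf_eq_one t
          have hdt : orderOf (d t) = 2 := by rw [MulEquiv.orderOf_eq, ht]
          have hdt1 : d t ≠ 1 := ne_one_of_order_two hdt
          have hdt2 : (d t) ^ 2 = 1 := by rw [← hdt]; exact pow_orderOf_eq_one (d t)
          have hfix : d t = t := huY _ _ hdt2 ht2 hdt1 ht1
          have : t ∈ fixSub d := hfix
          rw [hbot, Subgroup.mem_bot] at this
          exact ht1 this
        -- counting
        let f : Function.End (fixSub γ) := fun y => d y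
        have hfpow : ∀ j : ℕ, f ^ j = (fun y => (d ^ j) y) := by
          intro j
          induction j with
          | zero => funext y; rw [pow_zero, pow_zero]; rfl
          | succ j ih =>
            rw [pow_succ, ih]
            funext y
            show (d ^ j) (d y) = (d ^ (j + 1)) y
            rw [pow_succ, MulAut.mul_apply]
        have hfp : f ^ p ^ 1 = 1 := by
          rw [pow_one, hfpow, hdp]
          funext y
          rfl
        let _ : Fintype (fixSub γ) := Fintype.ofFinite _
        have hmod := Equiv.Perm.card_fixedPoints_modEq (p := p) (n := 1) hfp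
        have hFcard : Fintype.card (Function.fixedPoints f) = Nat.card (fixSub d) := by
          rw [← Nat.card_eq_fintype_card]
          exact Nat.card_congr (Equiv.subtypeEquivRight (fun y => Iff.rfl))
        rw [hFcard, ← Nat.card_eq_fintype_card, hcardY] at hmod
        have hFle : Nat.card (fixSub d) ≤ 8 := Nat.le_of_dvd (by norm_num) hFdvd
        have hdvd := (Nat.modEq_iff_dvd' hFle).mp hmod.symm
        have hcases : p = 3 ∧ Nat.card (fixSub d) = 2 := by
          have hpprime := hp'.out
          interval_cases h : Nat.card (fixSub d)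
          · simp at hFdvd
          · exact absurd rfl hF1
          · have hle : p ≤ 6 := Nat.le_of_dvd (by norm_num) hdvd
            refine ⟨?_, rfl⟩
            interval_cases p <;> first | rfl | (exfalso; revert hdvd hpprime hp; norm_num)
          · norm_num at hFdvd
          · have hle : p ≤ 4 := Nat.le_of_dvd (by norm_num) hdvd
            exfalso
            interval_cases p <;> revert hdvd hpprime hp <;> norm_num
          · norm_num at hFdvd
          · norm_num at hFdvd
          · norm_num at hFdvd
          · exact absurd rfl hF8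
        refine ⟨hcases.1, hcardY, ?_, ?_, ?_⟩
        · refine ⟨e2.symm (QuaternionGroup.a 1), e2.symm (QuaternionGroup.xa 0),
            (e2.symm (QuaternionGroup.a 1)).2, (e2.symm (QuaternionGroup.xa 0)).2, ?_⟩
          intro h
          have h' : e2.symm (QuaternionGroup.a 1) * e2.symm (QuaternionGroup.xa 0) =
              e2.symm (QuaternionGroup.xa 0) * e2.symm (QuaternionGroup.a 1) := Subtype.ext h
          rw [← map_mul, ← map_mul] at h'
          have h'' := e2.symm.injective h'
          revert h''
          decide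
        · intro x hx hδx
          have hxF : (⟨x, hx⟩ : fixSub γ) ∈ fixSub d := by
            show d ⟨x, hx⟩ = ⟨x, hx⟩
            apply Subtype.ext
            rw [hdapp]; exact hδx
          have hpow : (⟨⟨x, hx⟩, hxF⟩ : fixSub d) ^ 2 = 1 := by
            rw [← hcases.2]; exact pow_card_eq_one'
          have := congrArg (fun u : fixSub d => ((u : fixSub γ) : W)) hpow
          simpa using this
        · intro q hq
          have h4 : ∀ g : QuaternionGroup 2, g ^ 4 = 1 := by decide
          have h := h4 (e2 ⟨q, hq⟩)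
          rw [← map_pow] at h
          have h' : (⟨q, hq⟩ : fixSub γ) ^ 4 = 1 := e2.injective (by rw [h, map_one])
          have := congrArg Subtype.val h'
          simpa using this

end Cfsg.Agent.Lib.Helper53_ThreeSq
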