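import Mathlib
import Cfsg.Agent.Lib.Helper53_ThreeSq

/-!
# Helper53_ThreeSq2

The configuration `Cfg α β z` and the main structural lemma: `W / ⟨z⟩` is elementary abelian.
-/

set_option autoImplicit false

namespace Cfsg.Agent.Lib.Helper53_ThreeSq

open scoped commutatorElement

variable {W : Type*} [Group W]

/-- The configuration reached after the first reduction. -/
structure Cfg (α β : MulAut W) (z : W) : Prop where
  hα : α ^ 3 = 1
  hβ : β ^ 3 = 1
  hc : α * β = β * α
  hz : orderOf z = 2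
  hαz : α z = z
  hβz : β z = z
  hzc : ∀ w : W, z * w = w * z
  h0 : ∀ x, α x = x → β x = x → x ∈ Subgroup.zpowers z
  hE : ∀ γ, IsLine α β γ → ∀ x, γ x = x → x ^ 2 = 1 → x ∈ Subgroup.zpowers z
  hd : ∀ γ, IsLine α β γ → fixSub γ ≤ Subgroup.zpowers z ∨
    (Nat.card (fixSub γ) = 8 ∧ (∃ a b, a ∈ fixSub γ ∧ b ∈ fixSub γ ∧ a * b ≠ b * a) ∧
      ∀ q ∈ fixSub γ, q ^ 4 = 1)

theorem pow_fix (δ : MulAut W) {x : W} (h : δ x = x) (k : ℕ) : (δ ^ k) x = x := by
  induction k with
  | zero => simp
  | succ k ih => rw [pow_succ, MulAut.mul_apply, h, ih]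

theorem IsLine.comm_left {α β γ : MulAut W} (hc : α * β = β * α) (h : IsLine α β γ) :
    α * γ = γ * α := by
  have hc' : Commute α β := hc
  rcases h with rfl | ⟨i, rfl⟩
  · exact hc
  · exact ((Commute.refl α).mul_right (hc'.pow_right i)).eq

theorem IsLine.comm_right {α β γ : MulAut W} (hc : α * β = β * α) (h : IsLine α β γ) :
    β * γ = γ * β := by
  have hc' : Commute α β := hc
  rcases h with rfl | ⟨i, rfl⟩
  · rfl
  · exact (hc'.symm.mul_right ((Commute.refl β).pow_right i)).eq

theorem IsLine.fix {α β γ : MulAut W} {x : W} (h : IsLine α β γ) (hα : α x = x) (hβ : β x = x) :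
    γ x = x := by
  rcases h with rfl | ⟨i, rfl⟩
  · exact hβ
  · rw [MulAut.mul_apply, pow_fix β hβ, hα]

theorem IsLine.pow_three {α β γ : MulAut W} (hα : α ^ 3 = 1) (hβ : β ^ 3 = 1) (hc : α * β = β * α)
    (h : IsLine α β γ) : γ ^ 3 = 1 := by
  have hc' : Commute α β := hc
  rcases h with rfl | ⟨i, rfl⟩
  · exact hβ
  · rw [(hc'.pow_right i).mul_pow, hα, ← pow_mul, mul_comm, pow_mul, hβ, one_pow, one_mul]

theorem fixSub_inv {γ δ : MulAut W} (h : δ * γ = γ * δ) : ∀ y ∈ fixSub γ, δ y ∈ fixSub γ := by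
  intro y hy
  show γ (δ y) = δ y
  have : (γ * δ) y = (δ * γ) y := by rw [h]
  rw [MulAut.mul_apply, MulAut.mul_apply] at this
  rw [this, show γ y = y from hy]

variable {α β : MulAut W} {z : W}

theorem Cfg.hzz (C : Cfg α β z) : z * z = 1 := sq_eq_one_of_order_two C.hz

theorem Cfg.hz2 (C : Cfg α β z) : z ^ 2 = 1 := by rw [pow_two]; exact C.hzz

theorem Cfg.line_z (C : Cfg α β z) {γ : MulAut W} (h : IsLine α β γ) : γ z = z :=
  h.fix C.hαz C.hβz

theorem Cfg.normal (C : Cfg α β z) : (Subgroup.zpowers z).Normal := by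
  constructor
  intro n hn g
  rcases (mem_zpowers_two C.hz).mp hn with h | h
  · rw [h, mul_one, mul_inv_cancel]; exact Subgroup.one_mem _
  · rw [h, ← C.hzc g, mul_assoc, mul_inv_cancel, mul_one]; exact Subgroup.mem_zpowers z

theorem Cfg.inv_fix [Finite W] (C : Cfg α β z) (B : Subgroup W) (hzB : z ∈ B)
    (hαB : ∀ x ∈ B, α x ∈ B) (hβB : ∀ x ∈ B, β x ∈ B) (γ : MulAut W) (hγ : IsLine α β γ)
    (x : W) (hxB : x ∈ B) (hγx : γ x = x) (hxZ : x ∉ Subgroup.zpowers z) :
    fixSub γ ≤ B ∧ Nat.card (fixSub γ) = 8 ∧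
      (∃ a b, a ∈ fixSub γ ∧ b ∈ fixSub γ ∧ a * b ≠ b * a) ∧ ∀ q ∈ fixSub γ, q ^ 4 = 1 := by
  rcases C.hd γ hγ with h | ⟨h8, hab, h4⟩
  · exact absurd (h hγx) hxZ
  · refine ⟨?_, h8, hab, h4⟩
    have key : ∀ δ : MulAut W, δ ^ 3 = 1 → δ z = z → δ * γ = γ * δ → (∀ x ∈ B, δ x ∈ B) →
        δ x ≠ x → fixSub γ ≤ B := by
      intro δ hδ3 hδz hδγ hδB hδx
      have := inv8 δ hδ3 z C.hz hδz (fixSub γ) (B ⊓ fixSub γ) inf_le_right h8
        (Subgroup.mem_inf.mpr ⟨hzB, C.line_z hγ⟩) x (Subgroup.mem_inf.mpr ⟨hxB, hγx⟩)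
        (Subgroup.mem_inf.mpr ⟨hδB x hxB, fixSub_inv hδγ x hγx⟩) hδx
      rw [← this]
      exact inf_le_left
    by_cases hαx : α x = x
    · by_cases hβx : β x = x
      · exact absurd (C.h0 x hαx hβx) hxZ
      · exact key β C.hβ C.hβz (hγ.comm_right C.hc) hβB hβx
    · exact key α C.hα C.hαz (hγ.comm_left C.hc) hαB hαx

theorem comm_mem_iff (N : Subgroup W) [N.Normal] (x y : W) :
    ⁅x, y⁆ ∈ N ↔ Commute (QuotientGroup.mk' N x) (QuotientGroup.mk' N y) := by
  rw [← commutatorElement_eq_one_iff_commute, ← map_commutatorElement, QuotientGroup.mk'_apply,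
    QuotientGroup.eq_one_iff]

theorem Cfg.R_of_comm_mem (C : Cfg α β z) {a y : W} (h : ⁅a, y⁆ ∈ Subgroup.zpowers z) :
    y * a = a * y * z ^ 0 ∨ y * a = a * y * z ^ 1 := by
  rcases (mem_zpowers_two C.hz).mp h with h | h
  · left
    rw [commutatorElement_eq_one_iff_commute] at h
    rw [pow_zero, mul_one]
    exact h.eq.symm
  · right
    rw [commutatorElement_def] at h
    have h1 : a * y = z * (y * a) := by
      rw [← h]; group
    rw [pow_one, ← C.hzc, h1, ← mul_assoc, C.hzz, one_mul]

theorem Cfg.R_mul (C : Cfg α β z) {u u' v : W} {k k' : ℕ} (m : ℕ) (hm : k + k' = m)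
    (h : u * v = v * u * z ^ k) (h' : u' * v = v * u' * z ^ k') :
    (u * u') * v = v * (u * u') * z ^ m := by
  have hzk : ∀ (k : ℕ) (w : W), z ^ k * w = w * z ^ k := by
    intro k w
    have : Commute z w := C.hzc w
    exact (this.pow_left k).eq
  calc (u * u') * v = u * (u' * v) := by rw [mul_assoc]
    _ = u * (v * u' * z ^ k') := by rw [h']
    _ = (u * v) * u' * z ^ k' := by simp only [mul_assoc]
    _ = (v * u * z ^ k) * u' * z ^ k' := by rw [h]
    _ = v * u * (z ^ k * u') * z ^ k' := by simp only [mul_assoc]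
    _ = v * u * (u' * z ^ k) * z ^ k' := by rw [hzk]
    _ = v * (u * u') * (z ^ k * z ^ k') := by simp only [mul_assoc]
    _ = v * (u * u') * z ^ m := by rw [← pow_add, hm]

theorem Cfg.decomp (C : Cfg α β z) {a b y : W} (hab : a * b = b * a * z ^ 1)
    (hba : b * a = a * b * z ^ 1)
    (hya : y * a = a * y * z ^ 0 ∨ y * a = a * y * z ^ 1)
    (hyb : y * b = b * y * z ^ 0 ∨ y * b = b * y * z ^ 1) :
    ∃ q, q ∈ Subgroup.closure {a, b} ∧ (y * q) * a = a * (y * q) ∧ (y * q) * b = b * (y * q) := by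
  have haS : a ∈ Subgroup.closure {a, b} := Subgroup.subset_closure (by simp)
  have hbS : b ∈ Subgroup.closure {a, b} := Subgroup.subset_closure (by simp)
  have haa : a * a = a * a * z ^ 0 := by rw [pow_zero, mul_one]
  have hbb : b * b = b * b * z ^ 0 := by rw [pow_zero, mul_one]
  have hz2 := C.hz2
  rcases hya with hya | hya <;> rcases hyb with hyb | hyb
  · refine ⟨1, Subgroup.one_mem _, ?_, ?_⟩
    · rw [mul_one, hya, pow_zero, mul_one]
    · rw [mul_one, hyb, pow_zero, mul_one]
  · refine ⟨a, haS, ?_, ?_⟩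
    · have := C.R_mul 0 rfl hya haa
      rw [this, pow_zero, mul_one]
    · have := C.R_mul 2 rfl hyb hab
      rw [this, hz2, mul_one]
  · refine ⟨b, hbS, ?_, ?_⟩
    · have := C.R_mul 2 rfl hya hba
      rw [this, hz2, mul_one]
    · have := C.R_mul 0 rfl hyb hbb
      rw [this, pow_zero, mul_one]
  · refine ⟨a * b, Subgroup.mul_mem _ haS hbS, ?_, ?_⟩
    · have h1 := C.R_mul 1 rfl haa hba
      have := C.R_mul 2 rfl hya h1
      rw [this, hz2, mul_one]
    · have h1 := C.R_mul 1 rfl hab hbb
      have := C.R_mul 2 rfl hyb h1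
      rw [this, hz2, mul_one]

/-- A subgroup of order `8` is generated by any two noncommuting elements. -/
theorem closure_eq_of_card_eight [Finite W] (Q : Subgroup W) (hQ : Nat.card Q = 8) {a b : W}
    (ha : a ∈ Q) (hb : b ∈ Q) (hab : a * b ≠ b * a) : Subgroup.closure {a, b} = Q := by
  have hF2 : Fact (Nat.Prime 2) := ⟨Nat.prime_two⟩
  have hle : Subgroup.closure {a, b} ≤ Q := by
    rw [Subgroup.closure_le]
    intro x hx
    rcases hx with rfl | rfl
    · exact ha
    · exact hb
  have haS : a ∈ Subgroup.closure {a, b} := Subgroup.subset_closure (by simp)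
  have hbS : b ∈ Subgroup.closure {a, b} := Subgroup.subset_closure (by simp)
  have hdvd : Nat.card (Subgroup.closure {a, b}) ∣ 8 := hQ ▸ Subgroup.card_dvd_of_le hle
  have hcomm : (∀ u v : Subgroup.closure {a, b}, u * v = v * u) → False := by
    intro h
    apply hab
    have := h ⟨a, haS⟩ ⟨b, hbS⟩
    exact congrArg Subtype.val this
  have hle8 : Nat.card (Subgroup.closure {a, b}) ≤ 8 := Nat.le_of_dvd (by norm_num) hdvd
  have hcard : Nat.card (Subgroup.closure {a, b}) = 8 := by
    interval_cases h : Nat.card (Subgroup.closure {a, b})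
    · simp at hdvd
    · exfalso
      apply hcomm
      have := (Nat.card_eq_one_iff_unique.mp h).1
      intro u v
      exact Subsingleton.elim _ _
    · exfalso
      apply hcomm
      have : IsCyclic (Subgroup.closure {a, b}) := isCyclic_of_prime_card (p := 2) h
      intro u v
      obtain ⟨g, hg⟩ := this
      obtain ⟨i, rfl⟩ := hg u
      obtain ⟨j, rfl⟩ := hg v
      exact ((Commute.refl g).zpow_zpow i j).eq
    · norm_num at hdvd
    · exfalso
      apply hcomm
      exact (IsPGroup.isMulCommutative_of_card_eq_prime_sq (p := 2) h).is_comm.comm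
    · norm_num at hdvd
    · norm_num at hdvd
    · norm_num at hdvd
    · rfl
  exact Subgroup.eq_of_le_of_card_ge hle (by rw [hcard, hQ])

/-- Main structural lemma: for every `⟨α, β⟩`-invariant subgroup `X` containing `z`, the quotient
`X / ⟨z⟩` is elementary abelian. -/
theorem Cfg.lemmaL [Finite W] (hW : IsPGroup 2 W) (C : Cfg α β z) :
    ∀ n : ℕ, ∀ X : Subgroup W, Nat.card X ≤ n → z ∈ X → (∀ x ∈ X, α x ∈ X) →
      (∀ x ∈ X, β x ∈ X) →
      ∀ a ∈ X, ∀ b ∈ X, ⁅a, b⁆ ∈ Subgroup.zpowers z ∧ a ^ 2 ∈ Subgroup.zpowers z := by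
  intro n
  induction n with
  | zero =>
    intro X hX
    exfalso
    have := Nat.card_pos (α := X)
    omega
  | succ n ih =>
    intro X hXn hzX hαX hβX
    by_cases hXZ : X ≤ Subgroup.zpowers z
    · intro a ha b hb
      have ha' := hXZ ha
      constructor
      · have : ⁅a, b⁆ = 1 := by
          rw [commutatorElement_eq_one_iff_commute]
          rcases (mem_zpowers_two C.hz).mp ha' with h | h
          · rw [h]; exact Commute.one_left b
          · rw [h]; exact C.hzc b
        rw [this]; exact Subgroup.one_mem _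
      · rcases (mem_zpowers_two C.hz).mp ha' with h | h
        · rw [h, one_pow]; exact Subgroup.one_mem _
        · rw [h, C.hz2]; exact Subgroup.one_mem _
    · have hnorm := C.normal
      have hF2 : Fact (Nat.Prime 2) := ⟨Nat.prime_two⟩
      have hF3 : Fact (Nat.Prime 3) := ⟨Nat.prime_three⟩
      -- the preimage of the centre of `X / ⟨z⟩`
      obtain ⟨N, hN_mem⟩ : ∃ N : Subgroup W, ∀ x, x ∈ N ↔ x ∈ X ∧ ∀ y ∈ X, ⁅x, y⁆ ∈ Subgroup.zpowers z := by
        refine ⟨X ⊓ (Subgroup.centralizer ((X.map (QuotientGroup.mk' (Subgroup.zpowers z)) :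
          Subgroup (W ⧸ Subgroup.zpowers z)) : Set (W ⧸ Subgroup.zpowers z))).comap
          (QuotientGroup.mk' (Subgroup.zpowers z)), ?_⟩
        intro x
        rw [Subgroup.mem_inf, Subgroup.mem_comap, Subgroup.mem_centralizer_iff]
        constructor
        · rintro ⟨hx, h⟩
          refine ⟨hx, fun y hy => ?_⟩
          rw [comm_mem_iff]
          exact (h _ (Subgroup.mem_map_of_mem _ hy)).symm
        · rintro ⟨hx, h⟩
          refine ⟨hx, ?_⟩
          rintro _ ⟨y, hy, rfl⟩
          exact ((comm_mem_iff _ x y).mp (h y hy)).eq.symm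
      have hNX : N ≤ X := fun x hx => ((hN_mem x).mp hx).1
      have hzN : z ∈ N := by
        rw [hN_mem]
        refine ⟨hzX, fun y _ => ?_⟩
        have : ⁅z, y⁆ = 1 := by
          rw [commutatorElement_eq_one_iff_commute]; exact C.hzc y
        rw [this]; exact Subgroup.one_mem _
      have hNZ : ¬ N ≤ Subgroup.zpowers z := by
        intro hNZ
        obtain ⟨x₁, hx₁X, hx₁Z⟩ := SetLike.not_le_iff_exists.mp hXZ
        have hnt : Nontrivial (X.map (QuotientGroup.mk' (Subgroup.zpowers z))) := by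
          refine ⟨⟨⟨QuotientGroup.mk' (Subgroup.zpowers z) x₁, Subgroup.mem_map_of_mem _ hx₁X⟩, 1, ?_⟩⟩
          intro h
          have := congrArg Subtype.val h
          exact hx₁Z ((QuotientGroup.eq_one_iff x₁).mp this)
        have hP : IsPGroup 2 (X.map (QuotientGroup.mk' (Subgroup.zpowers z))) :=
          (hW.to_quotient (Subgroup.zpowers z)).to_subgroup _
        have hcn := hP.center_nontrivial
        obtain ⟨c, hc⟩ := exists_ne (1 : Subgroup.center (X.map (QuotientGroup.mk' (Subgroup.zpowers z))))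
        obtain ⟨x₀, hx₀X, hx₀⟩ := c.1.2
        have hx₀N : x₀ ∈ N := by
          rw [hN_mem]
          refine ⟨hx₀X, fun y hy => ?_⟩
          rw [comm_mem_iff]
          have hcen := Subgroup.mem_center_iff.mp c.2
            ⟨QuotientGroup.mk' (Subgroup.zpowers z) y, Subgroup.mem_map_of_mem _ hy⟩
          have := congrArg Subtype.val hcen
          rw [Subgroup.coe_mul, Subgroup.coe_mul, ← hx₀] at this
          exact this.symm
        have hx₀Z := hNZ hx₀N
        apply hc
        apply Subtype.ext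
        apply Subtype.ext
        rw [← hx₀]
        exact (QuotientGroup.eq_one_iff x₀).mpr hx₀Z
      have hNinv : ∀ δ : MulAut W, δ ^ 3 = 1 → δ z = z → (∀ x ∈ X, δ x ∈ X) →
          ∀ x ∈ N, δ x ∈ N := by
        intro δ hδ3 hδz hδX x hx
        rw [hN_mem] at hx ⊢
        refine ⟨hδX x hx.1, fun y hy => ?_⟩
        have hδX' := inv_inv_of_pow (by norm_num) δ hδ3 X hδX
        have h1 := hx.2 (δ⁻¹ y) (hδX' y hy)
        have h2 : ⁅δ x, y⁆ = δ ⁅x, δ⁻¹ y⁆ := by
          rw [map_commutatorElement]; simp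
        rw [h2]
        rcases (mem_zpowers_two C.hz).mp h1 with h | h
        · rw [h, map_one]; exact Subgroup.one_mem _
        · rw [h, hδz]; exact Subgroup.mem_zpowers z
      have hαN := hNinv α C.hα C.hαz hαX
      have hβN := hNinv β C.hβ C.hβz hβX
      obtain ⟨γ, hγ, x, hxN, hγx, hxZ⟩ :
          ∃ γ, IsLine α β γ ∧ ∃ x ∈ N, γ x = x ∧ x ∉ Subgroup.zpowers z := by
        by_contra hcon
        push Not at hcon
        exact hNZ (gen_inv hW (p := 3) (by norm_num) α β C.hα C.hβ C.hc N (Subgroup.zpowers z)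
          hαN hβN (fun γ hγ x hx hγx => hcon γ hγ x hx hγx))
      obtain ⟨hQN, hQ8, ⟨a, b, haQ, hbQ, hab⟩, hQ4⟩ :=
        C.inv_fix N hzN hαN hβN γ hγ x hxN hγx hxZ
      have haN := hQN haQ
      have hbN := hQN hbQ
      have hcl := closure_eq_of_card_eight (fixSub γ) hQ8 haQ hbQ hab
      -- relations between a and b
      have hab1 : a * b = b * a * z ^ 1 := by
        rcases C.R_of_comm_mem (((hN_mem b).mp hbN).2 a (hNX haN)) with h | h
        · exfalso; apply hab; rw [h, pow_zero, mul_one]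
        · exact h
      have hba1 : b * a = a * b * z ^ 1 := by
        rcases C.R_of_comm_mem (((hN_mem a).mp haN).2 b (hNX hbN)) with h | h
        · exfalso; apply hab; rw [h, pow_zero, mul_one]
        · exact h
      -- the complement
      have hdec : ∀ y ∈ X, ∃ q ∈ fixSub γ, y * q ∈ X ⊓ Subgroup.centralizer (fixSub γ : Set W) := by
        intro y hy
        obtain ⟨q, hq, hqa, hqb⟩ := C.decomp hab1 hba1
          (C.R_of_comm_mem (((hN_mem a).mp haN).2 y hy))
          (C.R_of_comm_mem (((hN_mem b).mp hbN).2 y hy))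
        rw [hcl] at hq
        refine ⟨q, hq, Subgroup.mem_inf.mpr ⟨X.mul_mem hy (hNX (hQN hq)), ?_⟩⟩
        have hle : Subgroup.closure {a, b} ≤ Subgroup.centralizer {y * q} := by
          rw [Subgroup.closure_le]
          intro u hu
          rw [SetLike.mem_coe, Subgroup.mem_centralizer_iff]
          intro h hh
          rw [Set.mem_singleton_iff] at hh
          rw [hh]
          rcases hu with rfl | rfl
          · exact hqa
          · exact hqb
        rw [hcl] at hle
        rw [Subgroup.mem_centralizer_iff]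
        intro u hu
        have := Subgroup.mem_centralizer_iff.mp (hle hu) (y * q) rfl
        exact this.symm
      have hQinv : ∀ δ : MulAut W, δ ^ 3 = 1 → δ * γ = γ * δ → (∀ x ∈ X, δ x ∈ X) →
          ∀ x ∈ X ⊓ Subgroup.centralizer (fixSub γ : Set W),
            δ x ∈ X ⊓ Subgroup.centralizer (fixSub γ : Set W) := by
        intro δ hδ3 hδγ hδX x hx
        rw [Subgroup.mem_inf] at hx ⊢
        refine ⟨hδX x hx.1, ?_⟩
        rw [Subgroup.mem_centralizer_iff]
        intro u hu
        have hu' : δ⁻¹ u ∈ fixSub γ :=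
          inv_inv_of_pow (by norm_num) δ hδ3 (fixSub γ) (fixSub_inv hδγ) u hu
        have := Subgroup.mem_centralizer_iff.mp hx.2 (δ⁻¹ u) hu'
        have h2 := congrArg δ this
        rw [map_mul, map_mul] at h2
        simpa using h2
      have hX'lt : Nat.card (X ⊓ Subgroup.centralizer (fixSub γ : Set W) : Subgroup W) ≤ n := by
        by_contra hcon
        have hge : Nat.card X ≤ Nat.card (X ⊓ Subgroup.centralizer (fixSub γ : Set W) : Subgroup W) := by
          omega
        have heq := Subgroup.eq_of_le_of_card_ge (inf_le_left : X ⊓ Subgroup.centralizer (fixSub γ : Set W) ≤ X) hge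
        have : a ∈ X ⊓ Subgroup.centralizer (fixSub γ : Set W) := by rw [heq]; exact hNX haN
        have := Subgroup.mem_centralizer_iff.mp (Subgroup.mem_inf.mp this).2 b hbQ
        exact hab this.symm
      have hzX' : z ∈ X ⊓ Subgroup.centralizer (fixSub γ : Set W) := by
        refine Subgroup.mem_inf.mpr ⟨hzX, ?_⟩
        rw [Subgroup.mem_centralizer_iff]
        intro u _
        exact (C.hzc u).symm
      have IH := ih (X ⊓ Subgroup.centralizer (fixSub γ : Set W)) hX'lt hzX'
        (hQinv α C.hα (hγ.comm_left C.hc) hαX) (hQinv β C.hβ (hγ.comm_right C.hc) hβX)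
      -- the squares of elements of Q
      have hQsq : ∀ q ∈ fixSub γ, q ^ 2 ∈ Subgroup.zpowers z := by
        intro q hq
        apply C.hE γ hγ (q ^ 2) ((fixSub γ).pow_mem hq 2)
        rw [← pow_mul]
        exact hQ4 q hq
      -- combine in the quotient
      have hcomb : ∀ y ∈ X, ∀ y' ∈ X, Commute (QuotientGroup.mk' (Subgroup.zpowers z) y)
          (QuotientGroup.mk' (Subgroup.zpowers z) y') ∧
          (QuotientGroup.mk' (Subgroup.zpowers z) y) ^ 2 = 1 := by
        intro y hy y' hy'
        obtain ⟨q, hq, hyq⟩ := hdec y hy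
        obtain ⟨q', hq', hyq'⟩ := hdec y' hy'
        have hy_eq : QuotientGroup.mk' (Subgroup.zpowers z) y =
            QuotientGroup.mk' (Subgroup.zpowers z) (y * q) *
              QuotientGroup.mk' (Subgroup.zpowers z) q⁻¹ := by
          rw [← map_mul]; congr 1; group
        have hy'_eq : QuotientGroup.mk' (Subgroup.zpowers z) y' =
            QuotientGroup.mk' (Subgroup.zpowers z) (y' * q') *
              QuotientGroup.mk' (Subgroup.zpowers z) q'⁻¹ := by
          rw [← map_mul]; congr 1; group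
        have hqc : ∀ u ∈ fixSub γ, ∀ v ∈ X, Commute (QuotientGroup.mk' (Subgroup.zpowers z) u)
            (QuotientGroup.mk' (Subgroup.zpowers z) v) := by
          intro u hu v hv
          rw [← comm_mem_iff]
          exact ((hN_mem u).mp (hQN hu)).2 v hv
        have hq1 := (fixSub γ).inv_mem hq
        have hq1' := (fixSub γ).inv_mem hq'
        have hX1 : y * q ∈ X := (Subgroup.mem_inf.mp hyq).1
        have hX1' : y' * q' ∈ X := (Subgroup.mem_inf.mp hyq').1
        have hI := IH (y * q) hyq (y' * q') hyq'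
        have hI1 : Commute (QuotientGroup.mk' (Subgroup.zpowers z) (y * q))
            (QuotientGroup.mk' (Subgroup.zpowers z) (y' * q')) := (comm_mem_iff _ _ _).mp hI.1
        have hI2 : (QuotientGroup.mk' (Subgroup.zpowers z) (y * q)) ^ 2 = 1 := by
          rw [← map_pow]
          exact (QuotientGroup.eq_one_iff _).mpr hI.2
        have hq2 : (QuotientGroup.mk' (Subgroup.zpowers z) q⁻¹) ^ 2 = 1 := by
          rw [← map_pow]
          exact (QuotientGroup.eq_one_iff _).mpr (hQsq _ hq1)
        constructor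
        · rw [hy_eq, hy'_eq]
          apply Commute.mul_left
          · apply Commute.mul_right hI1
            exact (hqc _ hq1' _ hX1).symm
          · apply Commute.mul_right
            · exact hqc _ hq1 _ hX1'
            · exact hqc _ hq1 _ (hNX (hQN hq1'))
        · rw [hy_eq, (hqc _ hq1 _ hX1).symm.mul_pow, hI2, hq2, one_mul]
      intro a' ha' b' hb'
      have h := hcomb a' ha' b' hb'
      refine ⟨(comm_mem_iff _ _ _).mpr h.1, ?_⟩
      have h2 := h.2
      rw [← map_pow] at h2
      exact (QuotientGroup.eq_one_iff _).mp h2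

end Cfsg.Agent.Lib.Helper53_ThreeSq
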