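import Mathlib
import Cfsg.Prelude.Def_Transfer
import Cfsg.Agent.Lib.Helper53_ThreeSq2
import Cfsg.Agent.Lib.Helper1_Frattini
import Cfsg.Agent.Lib.Helper63_Extraspecial

/-!
# Helper53_ThreeSq3

Consequences of the configuration `Cfg α β z`: `W` is extraspecial of order `2^5`, `2^7`, `2^9`.
-/

set_option autoImplicit false

namespace Cfsg.Agent.Lib.Helper53_ThreeSq

open scoped commutatorElement

variable {W : Type*} [Group W] {α β : MulAut W} {z : W}

theorem Cfg.top [Finite W] (hW : IsPGroup 2 W) (C : Cfg α β z) (a b : W) :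
    ⁅a, b⁆ ∈ Subgroup.zpowers z ∧ a ^ 2 ∈ Subgroup.zpowers z :=
  C.lemmaL hW (Nat.card W) ⊤ (by rw [Subgroup.card_top]) (Subgroup.mem_top _)
    (fun _ _ => Subgroup.mem_top _) (fun _ _ => Subgroup.mem_top _) a (Subgroup.mem_top _) b
    (Subgroup.mem_top _)

theorem Cfg.gen_top [Finite W] (hW : IsPGroup 2 W) (C : Cfg α β z) (T : Subgroup W)
    (h : ∀ γ, IsLine α β γ → fixSub γ ≤ T) : T = ⊤ := by
  have hF3 : Fact (Nat.Prime 3) := ⟨Nat.prime_three⟩
  rw [eq_top_iff]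
  exact gen_inv hW (p := 3) (by norm_num) α β C.hα C.hβ C.hc ⊤ T
    (fun _ _ => Subgroup.mem_top _) (fun _ _ => Subgroup.mem_top _)
    (fun γ hγ x _ hx => h γ hγ hx)

theorem Cfg.exists_Q [Finite W] (hW : IsPGroup 2 W) (C : Cfg α β z)
    (hne : ∀ γ, IsLine α β γ → γ ≠ 1) :
    ∃ γ, IsLine α β γ ∧ Nat.card (fixSub γ) = 8 ∧
      ∃ a b, a ∈ fixSub γ ∧ b ∈ fixSub γ ∧ a * b ≠ b * a := by
  by_contra hcon
  push Not at hcon
  have hall : ∀ γ, IsLine α β γ → fixSub γ ≤ Subgroup.zpowers z := by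
    intro γ hγ
    rcases C.hd γ hγ with h | ⟨h8, ⟨a, b, ha, hb, hab⟩, _⟩
    · exact h
    · exact absurd (hcon γ hγ h8 a b ha hb) hab
  have htop := C.gen_top hW _ hall
  apply hne α (Or.inr ⟨0, by simp⟩)
  ext x
  have hx : x ∈ Subgroup.zpowers z := by rw [htop]; trivial
  rcases (mem_zpowers_two C.hz).mp hx with h | h
  · rw [h, map_one]; rfl
  · rw [h, C.hαz]; rfl

theorem Cfg.center_eq [Finite W] (hW : IsPGroup 2 W) (C : Cfg α β z) :
    Subgroup.center W = Subgroup.zpowers z := by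
  have hF3 : Fact (Nat.Prime 3) := ⟨Nat.prime_three⟩
  apply le_antisymm
  · have hinv : ∀ δ : MulAut W, ∀ x ∈ Subgroup.center W, δ x ∈ Subgroup.center W := by
      intro δ x hx
      rw [Subgroup.mem_center_iff] at hx ⊢
      intro g
      have := congrArg δ (hx (δ⁻¹ g))
      rw [map_mul, map_mul] at this
      simpa using this
    have hzc : z ∈ Subgroup.center W := by
      rw [Subgroup.mem_center_iff]
      intro g
      exact (C.hzc g).symm
    apply gen_inv hW (p := 3) (by norm_num) α β C.hα C.hβ C.hc _ _ (hinv α) (hinv β)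
    intro γ hγ x hx hγx
    by_contra hxZ
    obtain ⟨hle, _, ⟨a, b, ha, hb, hab⟩, _⟩ :=
      C.inv_fix (Subgroup.center W) hzc (hinv α) (hinv β) γ hγ x hx hγx hxZ
    apply hab
    exact Subgroup.mem_center_iff.mp (hle hb) a
  · rw [Subgroup.zpowers_le, Subgroup.mem_center_iff]
    intro g
    exact (C.hzc g).symm

theorem Cfg.commutator_eq [Finite W] (hW : IsPGroup 2 W) (C : Cfg α β z)
    (hne : ∀ γ, IsLine α β γ → γ ≠ 1) : commutator W = Subgroup.zpowers z := by
  apply le_antisymm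
  · rw [commutator_def, Subgroup.commutator_le]
    intro a _ b _
    exact (C.top hW a b).1
  · rw [Subgroup.zpowers_le]
    obtain ⟨γ, hγ, _, a, b, _, _, hab⟩ := C.exists_Q hW hne
    have h := (C.top hW a b).1
    rcases (mem_zpowers_two C.hz).mp h with h1 | h1
    · exfalso
      apply hab
      exact (commutatorElement_eq_one_iff_commute.mp h1).eq
    · rw [← h1, commutator_def]
      exact Subgroup.commutator_mem_commutator (Subgroup.mem_top _) (Subgroup.mem_top _)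

theorem Cfg.frattini_eq [Finite W] (hW : IsPGroup 2 W) (C : Cfg α β z)
    (hne : ∀ γ, IsLine α β γ → γ ≠ 1) : frattini W = Subgroup.zpowers z := by
  have hF2 : Fact (Nat.Prime 2) := ⟨Nat.prime_two⟩
  apply le_antisymm
  · apply Helper1_Frattini.frattini_le_of_elementary_quotient (p := 2)
    · rw [C.commutator_eq hW hne]
    · intro x
      exact (C.top hW x x).2
  · rw [← C.commutator_eq hW hne]
    exact Helper1_Frattini.commutator_le_frattini_of_isPGroup hW

theorem Cfg.extraspecial [Finite W] (hW : IsPGroup 2 W) (C : Cfg α β z)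
    (hne : ∀ γ, IsLine α β γ → γ ≠ 1) : Cfsg.IsExtraspecial 2 W := by
  refine ⟨⟨hW, ?_, ?_⟩, ?_⟩
  · rw [C.frattini_eq hW hne, C.center_eq hW]
  · rw [C.commutator_eq hW hne, C.center_eq hW]
  · rw [C.center_eq hW, card_zpowers_two C.hz]

theorem Cfg.card_ne_eight [Finite W] (_C : Cfg α β z)
    (hne : ∀ γ, IsLine α β γ → γ ≠ 1) (γ : MulAut W) (hγ : IsLine α β γ)
    (h8 : Nat.card (fixSub γ) = 8) : Nat.card W ≠ 8 := by
  intro h
  apply hne γ hγ
  have htop : fixSub γ = ⊤ := by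
    rw [← Subgroup.card_eq_iff_eq_top, h8, h]
  ext x
  have : x ∈ fixSub γ := by rw [htop]; trivial
  rw [show γ x = x from this]; rfl

theorem Cfg.normal_of_le [Finite W] (hW : IsPGroup 2 W) (C : Cfg α β z) (K : Subgroup W)
    (hK : Subgroup.zpowers z ≤ K) : K.Normal := by
  constructor
  intro k hk g
  have h1 : g * k * g⁻¹ = ⁅g, k⁆ * k := by
    rw [commutatorElement_def]; group
  rw [h1]
  exact K.mul_mem (hK (C.top hW g k).1) hk

theorem relIndex_sup_dvd (Z H K : Subgroup W) (hZH : Z ≤ H) (hZK : Z ≤ K) [K.Normal] :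
    Z.relIndex (H ⊔ K) ∣ Z.relIndex H * Z.relIndex K := by
  have h1 := Subgroup.relIndex_mul_relIndex Z K (H ⊔ K) hZK le_sup_right
  rw [Subgroup.relIndex_sup_right] at h1
  rw [← h1, mul_comm]
  apply Nat.mul_dvd_mul_right
  rw [← Subgroup.inf_relIndex_right]
  exact Subgroup.relIndex_dvd_of_le_left H (le_inf hZK hZH)

theorem Cfg.relIndex_fixSub_dvd [Finite W] (C : Cfg α β z) (γ : MulAut W) (hγ : IsLine α β γ) :
    Subgroup.zpowers z ≤ fixSub γ ∧ (Subgroup.zpowers z).relIndex (fixSub γ) ∣ 4 := by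
  have hle : Subgroup.zpowers z ≤ fixSub γ := by
    rw [Subgroup.zpowers_le]; exact C.line_z hγ
  refine ⟨hle, ?_⟩
  have hmul := Subgroup.relIndex_mul_relIndex ⊥ (Subgroup.zpowers z) (fixSub γ) bot_le hle
  rw [Subgroup.relIndex_bot_left, Subgroup.relIndex_bot_left, card_zpowers_two C.hz] at hmul
  rcases C.hd γ hγ with h | ⟨h8, _, _⟩
  · rw [Subgroup.relIndex_eq_one.mpr h]; norm_num
  · rw [h8] at hmul
    have : (Subgroup.zpowers z).relIndex (fixSub γ) = 4 := by omega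
    rw [this]

theorem Cfg.card_dvd [Finite W] (hW : IsPGroup 2 W) (C : Cfg α β z) : Nat.card W ∣ 2 ^ 9 := by
  have hZ0 := C.relIndex_fixSub_dvd β (Or.inl rfl)
  have hZ1 := C.relIndex_fixSub_dvd (α * β ^ 0) (Or.inr ⟨0, rfl⟩)
  have hZ2 := C.relIndex_fixSub_dvd (α * β ^ 1) (Or.inr ⟨1, rfl⟩)
  have hZ3 := C.relIndex_fixSub_dvd (α * β ^ 2) (Or.inr ⟨2, rfl⟩)
  have hn1 := C.normal_of_le hW _ hZ1.1
  have hn2 := C.normal_of_le hW _ hZ2.1
  have hn3 := C.normal_of_le hW _ hZ3.1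
  have htop : fixSub β ⊔ fixSub (α * β ^ 0) ⊔ fixSub (α * β ^ 1) ⊔ fixSub (α * β ^ 2) = ⊤ := by
    apply C.gen_top hW
    intro γ hγ
    rcases hγ with rfl | ⟨i, rfl⟩
    · exact le_sup_of_le_left (le_sup_of_le_left le_sup_left)
    · have hi : β ^ i = β ^ (i % 3) := by
        conv_lhs => rw [← Nat.mod_add_div i 3]
        rw [pow_add, pow_mul, C.hβ, one_pow, mul_one]
      rw [hi]
      have h3 : i % 3 < 3 := Nat.mod_lt _ (by norm_num)
      interval_cases (i % 3)
      · exact le_sup_of_le_left (le_sup_of_le_left le_sup_right)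
      · exact le_sup_of_le_left le_sup_right
      · exact le_sup_right
  have hd1 := relIndex_sup_dvd (Subgroup.zpowers z) (fixSub β) (fixSub (α * β ^ 0)) hZ0.1 hZ1.1
  have hd2 := relIndex_sup_dvd (Subgroup.zpowers z) (fixSub β ⊔ fixSub (α * β ^ 0))
    (fixSub (α * β ^ 1)) (le_sup_of_le_left hZ0.1) hZ2.1
  have hd3 := relIndex_sup_dvd (Subgroup.zpowers z)
    (fixSub β ⊔ fixSub (α * β ^ 0) ⊔ fixSub (α * β ^ 1))
    (fixSub (α * β ^ 2)) (le_sup_of_le_left (le_sup_of_le_left hZ0.1)) hZ3.1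
  rw [htop, Subgroup.relIndex_top_right] at hd3
  have hfin : (Subgroup.zpowers z).index ∣ 4 * 4 * 4 * 4 :=
    hd3.trans (Nat.mul_dvd_mul (hd2.trans (Nat.mul_dvd_mul (hd1.trans
      (Nat.mul_dvd_mul hZ0.2 hZ1.2)) hZ2.2)) hZ3.2)
  have hci := Subgroup.card_mul_index (Subgroup.zpowers z)
  rw [card_zpowers_two C.hz] at hci
  rw [← hci, show 2 ^ 9 = 2 * (4 * 4 * 4 * 4) by norm_num]
  exact Nat.mul_dvd_mul (dvd_refl 2) hfin

theorem Cfg.card_cases [Finite W] (hW : IsPGroup 2 W) (C : Cfg α β z)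
    (hne : ∀ γ, IsLine α β γ → γ ≠ 1) :
    Nat.card W = 2 ^ 5 ∨ Nat.card W = 2 ^ 7 ∨ Nat.card W = 2 ^ 9 := by
  have hF2 : Fact (Nat.Prime 2) := ⟨Nat.prime_two⟩
  obtain ⟨n, hn1, hn⟩ := Helper63_Extraspecial.card_of_extraspecial (C.extraspecial hW hne)
  obtain ⟨γ, hγ, h8, _⟩ := C.exists_Q hW hne
  have hne8 := C.card_ne_eight hne γ hγ h8
  have hdvd := C.card_dvd hW
  rw [hn] at hdvd hne8
  have hle : 2 * n + 1 ≤ 9 := (Nat.pow_dvd_pow_iff_le_right (by norm_num)).mp hdvd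
  have hn4 : n ≤ 4 := by omega
  rw [hn]
  interval_cases n
  · exact absurd rfl hne8
  · left; rfl
  · right; left; rfl
  · right; right; rfl

theorem Cfg.fix_z_of_comm (C : Cfg α β z) (e : MulAut W) (heα : e * α = α * e)
    (heβ : e * β = β * e) : e z = z := by
  have h1 : α (e z) = e z := by
    have : (α * e) z = (e * α) z := by rw [heα]
    rw [MulAut.mul_apply, MulAut.mul_apply, C.hαz] at this
    exact this
  have h2 : β (e z) = e z := by
    have : (β * e) z = (e * β) z := by rw [heβ]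
    rw [MulAut.mul_apply, MulAut.mul_apply, C.hβz] at this
    exact this
  rcases (mem_zpowers_two C.hz).mp (C.h0 _ h1 h2) with h | h
  · exfalso
    apply ne_one_of_order_two C.hz
    exact e.injective (by rw [h, map_one])
  · exact h

theorem Cfg.fix_Q_of_fix [Finite W] (C : Cfg α β z) (e : MulAut W) (heα : e * α = α * e)
    (heβ : e * β = β * e) (γ : MulAut W) (hγ : IsLine α β γ) (h8 : Nat.card (fixSub γ) = 8)
    (a : W) (haQ : a ∈ fixSub γ) (haZ : a ∉ Subgroup.zpowers z) (hea : e a = a) :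
    ∀ q ∈ fixSub γ, e q = q := by
  have key : ∀ δ : MulAut W, δ ^ 3 = 1 → δ z = z → δ * γ = γ * δ → e * δ = δ * e →
      δ a ≠ a → ∀ q ∈ fixSub γ, e q = q := by
    intro δ hδ3 hδz hδγ heδ hδa q hq
    have hB := inv8 δ hδ3 z C.hz hδz (fixSub γ) (fixSub e ⊓ fixSub γ) inf_le_right h8
      (Subgroup.mem_inf.mpr ⟨C.fix_z_of_comm e heα heβ, C.line_z hγ⟩) a
      (Subgroup.mem_inf.mpr ⟨hea, haQ⟩)
      (Subgroup.mem_inf.mpr ⟨by
        show e (δ a) = δ a
        have : (e * δ) a = (δ * e) a := by rw [heδ]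
        rw [MulAut.mul_apply, MulAut.mul_apply, hea] at this
        exact this, fixSub_inv hδγ a haQ⟩) hδa
    have : q ∈ fixSub e ⊓ fixSub γ := by rw [hB]; exact hq
    exact (Subgroup.mem_inf.mp this).1
  by_cases hαa : α a = a
  · by_cases hβa : β a = a
    · exact absurd (C.h0 a hαa hβa) haZ
    · exact key β C.hβ C.hβz (hγ.comm_right C.hc) heβ hβa
  · exact key α C.hα C.hαz (hγ.comm_left C.hc) heα hαa

end Cfsg.Agent.Lib.Helper53_ThreeSq
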