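import Mathlib
import Cfsg.Agent.Lib.Helper53_ThreeSq3

/-!
# Helper53_ThreeSq4

Reduction of the original hypotheses to the configuration `Cfg α β z`, and the bound `|E| ≤ 9`.
-/

set_option autoImplicit false

namespace Cfsg.Agent.Lib.Helper53_ThreeSq

open scoped commutatorElement

variable {W : Type*} [Group W]

theorem exists_cfg [Finite W] (hW : IsPGroup 2 W) {p : ℕ} [hp' : Fact p.Prime] (hp : p ≠ 2)
    (α β : MulAut W) (hα : α ^ p = 1) (hβ : β ^ p = 1) (hc : α * β = β * α)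
    (hne : ∀ γ, IsLine α β γ → γ ≠ 1)
    (hfix : ∀ γ, IsLine α β γ → ∀ x y : W, orderOf x = 2 → orderOf y = 2 → γ x = x → γ y = y →
      x = y) :
    p = 3 ∧ ∃ z, Cfg α β z := by
  have hF2 : Fact (Nat.Prime 2) := ⟨Nat.prime_two⟩
  have hdich : ∀ γ δ, IsLine α β γ → (δ = α ∨ δ = β) →
      (∀ x, γ x = x → δ x = x) ∨
      (p = 3 ∧ Nat.card (fixSub γ) = 8 ∧ (∃ a b, a ∈ fixSub γ ∧ b ∈ fixSub γ ∧ a * b ≠ b * a) ∧
        (∀ x, γ x = x → δ x = x → x ^ 2 = 1) ∧ ∀ q ∈ fixSub γ, q ^ 4 = 1) := by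
    intro γ δ hγ hδ
    rcases hδ with rfl | rfl
    · exact dichotomy hW hp γ δ hα (hγ.comm_left hc) (hfix γ hγ)
    · exact dichotomy hW hp γ δ hβ (hγ.comm_right hc) (hfix γ hγ)
  have hex : ∃ γ δ, IsLine α β γ ∧ (δ = α ∨ δ = β) ∧ ¬ (∀ x, γ x = x → δ x = x) := by
    by_contra hcon
    push Not at hcon
    have hle : (⊤ : Subgroup W) ≤ fixSub α :=
      gen_inv hW hp α β hα hβ hc ⊤ (fixSub α) (fun _ _ => Subgroup.mem_top _)
        (fun _ _ => Subgroup.mem_top _) (fun γ hγ x _ hx => hcon γ α hγ (Or.inl rfl) x hx)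
    apply hne α (Or.inr ⟨0, by simp⟩)
    ext x
    exact hle (Subgroup.mem_top x)
  obtain ⟨γ₁, δ, hγ₁, hδ, hnot⟩ := hex
  rcases hdich γ₁ δ hγ₁ hδ with h | ⟨hp3, h8, _, hsq, _⟩
  · exact absurd h hnot
  subst hp3
  refine ⟨rfl, ?_⟩
  obtain ⟨t, ht⟩ := exists_prime_orderOf_dvd_card' (G := fixSub γ₁) 2 (by rw [h8]; norm_num)
  have hz : orderOf (t : W) = 2 := by rw [Subgroup.orderOf_coe]; exact ht
  have hγ₁z : γ₁ (t : W) = t := t.2
  obtain ⟨z, hzdef⟩ : ∃ z : W, z = t := ⟨_, rfl⟩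
  rw [← hzdef] at hz hγ₁z
  -- uniqueness of the involution
  have huz : ∀ γ, IsLine α β γ → γ z = z → ∀ x, γ x = x → x ^ 2 = 1 →
      x ∈ Subgroup.zpowers z := by
    intro γ hγ hγz x hx hx2
    by_cases hx1 : x = 1
    · rw [hx1]; exact Subgroup.one_mem _
    · have : orderOf x = 2 := orderOf_eq_prime hx2 hx1
      rw [hfix γ hγ x z this hz hx hγz]
      exact Subgroup.mem_zpowers z
  have hδz : ∀ δ : MulAut W, δ * γ₁ = γ₁ * δ → δ z = z := by
    intro δ hδγ
    have h1 : γ₁ (δ z) = δ z := fixSub_inv hδγ z hγ₁z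
    have h2 : orderOf (δ z) = 2 := by rw [MulEquiv.orderOf_eq, hz]
    exact hfix γ₁ hγ₁ _ _ h2 hz h1 hγ₁z
  have hαz : α z = z := hδz α (hγ₁.comm_left hc)
  have hβz : β z = z := hδz β (hγ₁.comm_right hc)
  have hlz : ∀ γ, IsLine α β γ → γ z = z := fun γ hγ => hγ.fix hαz hβz
  have h0 : ∀ x, α x = x → β x = x → x ∈ Subgroup.zpowers z := by
    intro x hαx hβx
    have hγx : γ₁ x = x := hγ₁.fix hαx hβx
    have hδx : δ x = x := by
      rcases hδ with rfl | rfl
      · exact hαx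
      · exact hβx
    exact huz γ₁ hγ₁ hγ₁z x hγx (hsq x hγx hδx)
  have hd : ∀ γ, IsLine α β γ → fixSub γ ≤ Subgroup.zpowers z ∨
      (Nat.card (fixSub γ) = 8 ∧ (∃ a b, a ∈ fixSub γ ∧ b ∈ fixSub γ ∧ a * b ≠ b * a) ∧
        ∀ q ∈ fixSub γ, q ^ 4 = 1) := by
    intro γ hγ
    rcases hdich γ α hγ (Or.inl rfl) with h1 | ⟨_, h8, hab, _, h4⟩
    · rcases hdich γ β hγ (Or.inr rfl) with h2 | ⟨_, h8, hab, _, h4⟩
      · left
        intro x hx
        exact h0 x (h1 x hx) (h2 x hx)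
      · right; exact ⟨h8, hab, h4⟩
    · right; exact ⟨h8, hab, h4⟩
  have hzc : ∀ w : W, z * w = w * z := by
    have hle : (⊤ : Subgroup W) ≤ Subgroup.centralizer {z} := by
      apply gen_inv hW (p := 3) hp α β hα hβ hc ⊤ _ (fun _ _ => Subgroup.mem_top _)
        (fun _ _ => Subgroup.mem_top _)
      intro γ hγ x _ hγx
      rw [Subgroup.mem_centralizer_iff]
      intro y hy
      rw [Set.mem_singleton_iff] at hy
      rw [hy]
      have h1 : γ (x * z * x⁻¹) = x * z * x⁻¹ := by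
        rw [map_mul, map_mul, map_inv, hγx, hlz γ hγ]
      have h2 : (x * z * x⁻¹) ^ 2 = 1 := by
        rw [conj_pow, pow_two, sq_eq_one_of_order_two hz, mul_one, mul_inv_cancel]
      rcases (mem_zpowers_two hz).mp (huz γ hγ (hlz γ hγ) _ h1 h2) with h | h
      · exfalso
        apply ne_one_of_order_two hz
        have := congrArg (fun t => x⁻¹ * t * x) h
        simpa [mul_assoc] using this
      · have := congrArg (fun t => t * x) h
        simpa [mul_assoc] using this.symm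
    intro w
    have := Subgroup.mem_centralizer_iff.mp (hle (Subgroup.mem_top w)) z rfl
    exact this
  exact ⟨z, ⟨hα, hβ, hc, hz, hαz, hβz, hzc, h0, fun γ hγ => huz γ hγ (hlz γ hγ), hd⟩⟩

variable {α β : MulAut W} {z : W}

theorem Cfg.comm_line (e : MulAut W) (heα : e * α = α * e) (heβ : e * β = β * e) {γ : MulAut W}
    (hγ : IsLine α β γ) : e * γ = γ * e := by
  have h1 : Commute e α := heα
  have h2 : Commute e β := heβ
  rcases hγ with rfl | ⟨i, rfl⟩
  · exact heβ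
  · exact (h1.mul_right (h2.pow_right i)).eq

/-- The index of the stabiliser of a point of a line subgroup is at most `3`. -/
theorem index_stabilizer_le [Finite W] (E : Subgroup (MulAut W)) (hE3 : IsPGroup 3 E)
    (Q : Subgroup W) (hQ : Nat.card Q = 8) (hEQ : ∀ e ∈ E, ∀ q ∈ Q, e q ∈ Q) (a : W) (ha : a ∈ Q) :
    (MulAction.stabilizer E a).index ≤ 3 := by
  have hF3 : Fact (Nat.Prime 3) := ⟨Nat.prime_three⟩
  have hsub : MulAction.orbit E a ⊆ (Q : Set W) := by
    rintro _ ⟨e, rfl⟩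
    exact hEQ e e.2 a ha
  have hle : (MulAction.orbit E a).ncard ≤ 8 := by
    have := Set.ncard_le_ncard hsub (Set.toFinite _)
    rw [← Nat.card_coe_set_eq (Q : Set W)] at this
    have h8 : Nat.card ((Q : Set W) : Type _) = 8 := hQ
    omega
  rw [← MulAction.index_stabilizer] at hle
  obtain ⟨k, hk⟩ := IsPGroup.iff_card.mp hE3
  have hdvd := Subgroup.index_dvd_card (MulAction.stabilizer E a)
  rw [hk] at hdvd
  obtain ⟨m, _, hm⟩ := (Nat.dvd_prime_pow Nat.prime_three).mp hdvd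
  rw [hm] at hle ⊢
  rcases m with _ | _ | m
  · norm_num
  · norm_num
  · exfalso
    have : 3 ^ 2 ≤ 3 ^ (m + 1 + 1) := Nat.pow_le_pow_right (by norm_num) (by omega)
    omega

theorem Cfg.card_le_nine [Finite W] (hW : IsPGroup 2 W) (C : Cfg α β z)
    (hne : ∀ γ, IsLine α β γ → γ ≠ 1)
    (E : Subgroup (MulAut W)) (hE3 : IsPGroup 3 E)
    (hEc : ∀ e ∈ E, e * α = α * e ∧ e * β = β * e)
    (hfixE : ∀ e ∈ E, e ≠ 1 → ∀ x y : W, orderOf x = 2 → orderOf y = 2 → e x = x → e y = y →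
      x = y) : Nat.card E ≤ 9 := by
  obtain ⟨γ₁, hγ₁, h8₁, a₁, a₁', ha₁, ha₁', hab⟩ := C.exists_Q hW hne
  -- a second line
  obtain ⟨γ₂, hγ₂, b, hbQ₂, hbQ₁⟩ : ∃ γ₂, IsLine α β γ₂ ∧ ∃ b, b ∈ fixSub γ₂ ∧ b ∉ fixSub γ₁ := by
    by_contra hcon
    push Not at hcon
    have htop := C.gen_top hW (fixSub γ₁) (fun γ hγ x hx => hcon γ hγ x hx)
    apply C.card_ne_eight hne γ₁ hγ₁ h8₁
    rw [← h8₁, htop, Subgroup.card_top]
  have hZ₁ := (C.relIndex_fixSub_dvd γ₁ hγ₁).1
  have hbZ : b ∉ Subgroup.zpowers z := fun h => hbQ₁ (hZ₁ h)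
  have h8₂ : Nat.card (fixSub γ₂) = 8 := by
    rcases C.hd γ₂ hγ₂ with h | ⟨h8, _, _⟩
    · exact absurd (h hbQ₂) hbZ
    · exact h8
  -- central elements commute with everything
  have hcen : ∀ u ∈ Subgroup.zpowers z, ∀ w : W, u * w = w * u := by
    intro u hu w
    rcases (mem_zpowers_two C.hz).mp hu with h | h
    · rw [h, one_mul, mul_one]
    · rw [h]; exact C.hzc w
  -- an element of `Q₁ \ Z` commuting with `b`
  obtain ⟨a, haQ, haZ, hab'⟩ : ∃ a, a ∈ fixSub γ₁ ∧ a ∉ Subgroup.zpowers z ∧ a * b = b * a := by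
    rcases C.R_of_comm_mem (a := b) (y := a₁) (C.top hW b a₁).1 with h1 | h1
    · refine ⟨a₁, ha₁, ?_, by rw [h1, pow_zero, mul_one]⟩
      intro hz; exact hab (hcen a₁ hz a₁')
    · rcases C.R_of_comm_mem (a := b) (y := a₁') (C.top hW b a₁').1 with h2 | h2
      · refine ⟨a₁', ha₁', ?_, by rw [h2, pow_zero, mul_one]⟩
        intro hz; exact hab (hcen a₁' hz a₁).symm
      · refine ⟨a₁ * a₁', (fixSub γ₁).mul_mem ha₁ ha₁', ?_, ?_⟩
        · intro hz
          apply hab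
          have h3 := hcen _ hz a₁
          -- (a₁ * a₁') * a₁ = a₁ * (a₁ * a₁')
          have := congrArg (fun t => a₁⁻¹ * t) h3
          simp only [mul_assoc, inv_mul_cancel_left] at this
          exact this.symm
        · have := C.R_mul 2 rfl h1 h2
          rw [this, C.hz2, mul_one]
  -- squares
  have hsq : ∀ γ, IsLine α β γ → ∀ x ∈ fixSub γ, x ∉ Subgroup.zpowers z → x ^ 2 = z := by
    intro γ hγ x hx hxZ
    rcases (mem_zpowers_two C.hz).mp (C.top hW x x).2 with h | h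
    · exact absurd (C.hE γ hγ x hx h) hxZ
    · exact h
  have ha2 := hsq γ₁ hγ₁ a haQ haZ
  have hb2 := hsq γ₂ hγ₂ b hbQ₂ hbZ
  have habne : a * b ≠ z := by
    intro h
    apply hbQ₁
    have : b = a⁻¹ * z := by rw [← h]; group
    rw [this]
    exact (fixSub γ₁).mul_mem ((fixSub γ₁).inv_mem haQ) (hZ₁ (Subgroup.mem_zpowers z))
  have habo : orderOf (a * b) = 2 := by
    apply orderOf_eq_prime
    · have hc' : Commute a b := hab'
      rw [hc'.mul_pow, ha2, hb2, C.hzz]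
    · intro h
      apply hbQ₁
      have : b = a⁻¹ := by
        rw [eq_inv_iff_mul_eq_one, ← h]
        exact hab'.symm
      rw [this]
      exact (fixSub γ₁).inv_mem haQ
  -- stabilisers
  have hEQ : ∀ γ, IsLine α β γ → ∀ e ∈ E, ∀ q ∈ fixSub γ, e q ∈ fixSub γ := by
    intro γ hγ e he q hq
    exact fixSub_inv (Cfg.comm_line e (hEc e he).1 (hEc e he).2 hγ) q hq
  have hi₁ := index_stabilizer_le E hE3 (fixSub γ₁) h8₁ (hEQ γ₁ hγ₁) a haQ
  have hi₂ := index_stabilizer_le E hE3 (fixSub γ₂) h8₂ (hEQ γ₂ hγ₂) b hbQ₂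
  have hbot : MulAction.stabilizer E a ⊓ MulAction.stabilizer E b = ⊥ := by
    rw [eq_bot_iff]
    intro e he
    rw [Subgroup.mem_inf, MulAction.mem_stabilizer_iff, MulAction.mem_stabilizer_iff] at he
    rw [Subgroup.mem_bot]
    by_contra hne1
    have hne1' : (e : MulAut W) ≠ 1 := by
      intro h
      apply hne1
      exact Subtype.ext h
    have hea : (e : MulAut W) a = a := he.1
    have heb : (e : MulAut W) b = b := he.2
    have hez : (e : MulAut W) z = z := C.fix_z_of_comm e (hEc e e.2).1 (hEc e e.2).2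
    have heab : (e : MulAut W) (a * b) = a * b := by rw [map_mul, hea, heb]
    exact habne (hfixE e e.2 hne1' (a * b) z habo C.hz heab hez)
  have h1 := Subgroup.index_inf_le (H := MulAction.stabilizer E a) (K := MulAction.stabilizer E b)
  rw [hbot, Subgroup.index_bot] at h1
  calc Nat.card E ≤ (MulAction.stabilizer E a).index * (MulAction.stabilizer E b).index := h1
    _ ≤ 3 * 3 := Nat.mul_le_mul hi₁ hi₂

end Cfsg.Agent.Lib.Helper53_ThreeSq
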