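import Mathlib
import Cfsg.Prelude.Def_Solvable
import Cfsg.Prelude.Def_CaseTheorems
import Cfsg.Agent.Lib.Helper84_TutteDefs
import Cfsg.Agent.Lib.Helper84_TutteAPI
import Cfsg.Agent.Lib.Helper31_Tutte_C_RS

/-!
# S4385 package C-GEN (architect helper84): the chain `Y_l = RI (-l) (s-1-l)` generates `R_(s-1-j)`, and `H`
(paper (1.6)-(1.8)).
-/

set_option autoImplicit false
set_option linter.unusedSectionVars false
set_option linter.unusedVariables false

open scoped commutatorElement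
open Cfsg.Agent.Lib.Helper84_TutteDefs Cfsg.Agent.Lib.Helper31_Tutte_C_RS

namespace Cfsg.Agent.Lib.Helper53_Tutte_C_GEN

variable {G : Type*} [Group G] {H : Subgroup G} {g x0 : G} {s lam : ℕ}


/-- a subgroup between `A` and `B` with `|B : A| = 2` that is not inside `A` is `B` -/
theorem eq_of_relIndex_two {A B K : Subgroup G} (hAB : A.relIndex B = 2) (hAK : A ≤ K) (hKB : K ≤ B)
    (hne : ¬ K ≤ A) : K = B := by
  have h1 := Subgroup.relIndex_mul_relIndex A K B hAK hKB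
  rw [hAB] at h1
  have h2 : A.relIndex K ≠ 1 := fun h => hne (Subgroup.relIndex_eq_one.mp h)
  have h3 : A.relIndex K ∣ 2 := ⟨_, h1.symm⟩
  have h4 : A.relIndex K = 2 := by
    rcases (Nat.dvd_prime Nat.prime_two).mp h3 with h | h
    · exact absurd h h2
    · exact h
  rw [h4] at h1
  have h5 : K.relIndex B = 1 := by omega
  exact le_antisymm hKB (Subgroup.relIndex_eq_one.mp h5)

/-- (1.7) -/
theorem chain_gen1 (hd : ChainData H g s) (j : ℕ) (hj : j + 2 ≤ s) :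
    ⨆ l ∈ Finset.range (j + 1), RI H g (-(l : ℤ)) ((s : ℤ) - 1 - l) = RI H g 0 ((s : ℤ) - 1 - j) := by
  induction j with
  | zero =>
    simp
  | succ j ih =>
    have ih' := ih (by omega)
    rw [Finset.range_add_one, Finset.iSup_insert, ih']
    -- reparametrise `s = k + j + 2`, `k ≥ 1`
    obtain ⟨k, hk1, rfl⟩ : ∃ k : ℕ, 1 ≤ k ∧ s = k + j + 2 := ⟨s - j - 2, by omega, by omega⟩
    have e1 : ((k + j + 2 : ℕ) : ℤ) - 1 - ((j + 1 : ℕ) : ℤ) = (k : ℤ) := by push_cast; ring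
    have e2 : ((k + j + 2 : ℕ) : ℤ) - 1 - (j : ℤ) = (k : ℤ) + 1 := by push_cast; ring
    rw [e1, e2]
    have hidx := hd.idx k hk1 (by omega)
    apply eq_of_relIndex_two hidx le_sup_right
    · apply sup_le
      · exact RI_anti (by push_cast; omega) le_rfl
      · exact RI_anti le_rfl (by omega)
    · intro hle
      have hY : RI H g (-((j + 1 : ℕ) : ℤ)) (k : ℤ) ≤ RI H g 0 ((k : ℤ) + 1) := le_trans le_sup_left hle
      have h1 : RI H g (-((j + 1 : ℕ) : ℤ)) (k : ℤ) ≤ RI H g (-((j + 1 : ℕ) : ℤ)) ((k : ℤ) + 1) := by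
        rw [← RI_inf (H := H) (g := g) (i := -((j + 1 : ℕ) : ℤ)) (j := (k : ℤ)) (i' := 0)
          (j' := (k : ℤ) + 1) (by push_cast; omega) (by omega) (by omega)]
        exact le_inf le_rfl hY
      have h2 := cj_mono (g ^ ((j + 1 : ℕ) : ℤ)) h1
      rw [cj_zpow_RI, cj_zpow_RI] at h2
      have e3 : -((j + 1 : ℕ) : ℤ) + ((j + 1 : ℕ) : ℤ) = 0 := by ring
      have e4 : (k : ℤ) + ((j + 1 : ℕ) : ℤ) = (((k + j + 2 : ℕ) - 1 : ℕ) : ℤ) := by
        push_cast; omega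
      have e5 : (k : ℤ) + 1 + ((j + 1 : ℕ) : ℤ) = (((k + j + 2 : ℕ) - 1 : ℕ) : ℤ) + 1 := by
        push_cast; omega
      rw [e3, e4, e5] at h2
      have h3 := hd.idx (k + j + 2 - 1) (by omega) (by omega)
      rw [Subgroup.relIndex_eq_one.mpr h2] at h3
      omega

theorem iSup_range_split {α : Type*} [CompleteLattice α] (Y : ℕ → α) (n : ℕ) :
    ⨆ l ∈ Finset.range (n + 2), Y l =
      (⨆ l ∈ Finset.range (n + 1), Y l) ⊔ ⨆ l ∈ Finset.range (n + 1), Y (l + 1) := by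
  apply le_antisymm
  · apply iSup₂_le
    intro l hl
    rw [Finset.mem_range] at hl
    by_cases hln : l < n + 1
    · exact le_sup_of_le_left (le_iSup₂_of_le l (Finset.mem_range.mpr hln) le_rfl)
    · have hl' : l = n + 1 := by omega
      subst hl'
      exact le_sup_of_le_right (le_iSup₂_of_le n (Finset.mem_range.mpr (by omega)) le_rfl)
  · apply sup_le
    · apply iSup₂_le
      intro l hl
      rw [Finset.mem_range] at hl
      exact le_iSup₂_of_le l (Finset.mem_range.mpr (by omega)) le_rfl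
    · apply iSup₂_le
      intro l hl
      rw [Finset.mem_range] at hl
      exact le_iSup₂_of_le (l + 1) (Finset.mem_range.mpr (by omega)) le_rfl

/-- C-GEN (L), paper (1.6)-(1.8); `Y_l = RI (-l) (s-1-l)`. -/
theorem chain_gen (hc : ChainHyp H g) (hd : ChainData H g s) :
    (∀ j : ℕ, j + 2 ≤ s → ⨆ l ∈ Finset.range (j + 1), RI H g (-(l : ℤ)) ((s : ℤ) - 1 - l) = RI H g 0 ((s : ℤ) - 1 - j)) ∧
    ⨆ l ∈ Finset.range s, RI H g (-(l : ℤ)) ((s : ℤ) - 1 - l) = H := by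
  refine ⟨fun j hj => chain_gen1 hd j hj, ?_⟩
  have h2 := hd.two_le
  obtain ⟨n, rfl⟩ : ∃ n : ℕ, s = n + 2 := ⟨s - 2, by omega⟩
  -- `P = ⟨Y_0, …, Y_n⟩`
  have hP := chain_gen1 hd n le_rfl
  have e1 : ((n + 2 : ℕ) : ℤ) - 1 - (n : ℤ) = 1 := by push_cast; ring
  rw [e1, RI_zero_one] at hP
  have hsplit := iSup_range_split
    (fun l : ℕ => RI H g (-(l : ℤ)) (((n + 2 : ℕ) : ℤ) - 1 - (l : ℤ))) n
  beta_reduce at hsplit
  -- `cj g⁻¹ P = ⟨Y_1, …, Y_{n+1}⟩`
  have hP' : (⨆ l ∈ Finset.range (n + 1),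
      RI H g (-((l + 1 : ℕ) : ℤ)) (((n + 2 : ℕ) : ℤ) - 1 - ((l + 1 : ℕ) : ℤ))) =
      cj g⁻¹ (H ⊓ cj g H) := by
    rw [← hP]
    unfold cj
    rw [Subgroup.map_iSup]
    apply iSup_congr
    intro l
    rw [Subgroup.map_iSup]
    apply iSup_congr
    intro hl
    have h3 := cj_zpow_RI (H := H) (g := g) (-1) (-(l : ℤ)) (((n + 2 : ℕ) : ℤ) - 1 - (l : ℤ))
    rw [zpow_neg, zpow_one] at h3
    have e3 : -((l + 1 : ℕ) : ℤ) = -(l : ℤ) + -1 := by push_cast; ring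
    have e4 : ((n + 2 : ℕ) : ℤ) - 1 - ((l + 1 : ℕ) : ℤ) = ((n + 2 : ℕ) : ℤ) - 1 - (l : ℤ) + -1 := by
      push_cast; ring
    rw [e3, e4, ← h3]
  rw [hsplit, hP, hP']
  exact hc.gen

end Cfsg.Agent.Lib.Helper53_Tutte_C_GEN
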