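import Mathlib
import Cfsg.Agent.Lib.Helper67_UT2Defs
import Cfsg.Agent.Lib.Helper82_T2_KR
import Cfsg.Agent.Lib.Helper53_UT2_ST2Uaux
import Cfsg.Agent.Lib.Helper30_UT2_EIGU

set_option autoImplicit false
set_option linter.unusedSectionVars false
set_option linter.unusedVariables false

/-!
helper53: UTENS2 package ST2U (architect helper67), verbatim: under `RadStdU`, the stabiliser of
`G0 = W × 0` in `M` consists of Kronecker elements.  (`st2u_aux` + helper30's `eig_iso` for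
`D = ⊤`.)
-/

open Module
open Cfsg.Agent.Lib.Helper94_Symp Cfsg.Agent.Lib.Helper94_Herm Cfsg.Agent.Lib.Helper13_PSUSimple
  Cfsg.Agent.Lib.Helper94_FrmDefs Cfsg.Agent.Lib.Helper94_HermEich
  Cfsg.Agent.Lib.Helper67_Tens2Defs Cfsg.Agent.Lib.Helper67_UT2Defs

namespace Cfsg.Agent.Lib.Helper53_UT2_ST2U

variable {F W : Type*} [Field F] [Finite F] [AddCommGroup W] [Module F W] [FiniteDimensional F W]
variable {σ : F →+* F} {β : W →ₗ[F] W →ₛₗ[σ] F}

/-- ST2U : under `RadStdU`, the stabiliser of `G0` in `M` is Kronecker -/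
theorem st2u (hσ : Invol σ) (hβ : IsHerm β) (hN : NondegOn β ⊤) (h3 : 3 ≤ finrank F W)
    (M : Subgroup ((W × W) ≃ₗ[F] (W × W))) (hM : HypU β M) (hR : RadStdU M)
    (g : (W × W) ≃ₗ[F] (W × W)) (hg : g ∈ M)
    (hg0 : ∀ x ∈ (G0 : Submodule F (W × W)), g x ∈ (G0 : Submodule F (W × W))) :
    IsKron2 g := by
  refine Cfsg.Agent.Lib.Helper53_UT2_ST2Uaux.st2u_aux hσ hβ hN h3 ?_ M hM hR g hg hg0
  intro T hT
  obtain ⟨c, hc⟩ := Cfsg.Agent.Lib.Helper30_UT2_EIGU.eig_iso hσ hβ ⊤ hN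
    (by rw [finrank_top]; omega) T (fun y _ hy => hT y hy)
  exact ⟨c, fun u => hc u Submodule.mem_top⟩

end Cfsg.Agent.Lib.Helper53_UT2_ST2U
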