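import Mathlib

/-!
# utens package UT-KQE (helper53, parallel seat, for helper37): Kronecker quadratic elements of
rank `b` in characteristic `2`: if `c X = P X Qᵀ - X` has square zero and rank `b = card κ`, and
`card ι ≥ 3`, then `P` or `Q` is scalar.

Route: `c² = 0` in characteristic `2` gives `P² ⊗ Q² = 1`, so `P² = λ`, `Q² = λ⁻¹`; `λ = ν²`
(finite field), normalise `P² = Q² = 1`; `p = P - 1`, `q = Q - 1` have square zero.  If both are
nonzero, choose `x₁` with `p x₁ ≠ 0`, `a' ∈ ker p` outside `⟨x₁, p x₁⟩` (`card ι ≥ 3`), `w` with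
`q w ≠ 0`; then `(y, t) ↦ c (x₁ ⊗ y + a' ⊗ t w)` is injective, so `rank c ≥ b + 1`.
-/

set_option autoImplicit false
set_option linter.unusedSectionVars false
set_option linter.unusedVariables false

namespace Cfsg.Agent.Lib.Helper53_UT_KQE

open Matrix Module

variable {F : Type*} [Field F] {ι κ : Type*} [Fintype ι] [Fintype κ] [DecidableEq ι]
  [DecidableEq κ]

/-- `P X Qᵀ` on a pure tensor -/
theorem mul_vecMulVec_mul_transpose (P : Matrix ι ι F) (Q : Matrix κ κ F) (x : ι → F)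
    (y : κ → F) : P * vecMulVec x y * Qᵀ = vecMulVec (P *ᵥ x) (Q *ᵥ y) := by
  rw [mul_vecMulVec, vecMulVec_mul, vecMul_transpose]

/-- a matrix killing all vectors is zero -/
theorem eq_zero_of_mulVec {n : Type*} [Fintype n] [DecidableEq n] (p : Matrix n n F)
    (h : ∀ x, p *ᵥ x = 0) : p = 0 := by
  ext i j
  have := congrFun (h (Pi.single j 1)) i
  rw [mulVec_single_one] at this
  simpa using this

/-- if `R ⊗ S = 1` on pure tensors then `R`, `S` are inverse scalars -/
theorem scalars_of_kron_eq_one [Nonempty ι] [Nonempty κ] (R : Matrix ι ι F) (S : Matrix κ κ F)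
    (h : ∀ (x : ι → F) (y : κ → F), vecMulVec (R *ᵥ x) (S *ᵥ y) = vecMulVec x y) :
    ∃ lam : F, lam ≠ 0 ∧ R = lam • (1 : Matrix ι ι F) ∧ S = lam⁻¹ • (1 : Matrix κ κ F) := by
  have key : ∀ (k i : ι) (l j : κ), R k i * S l j = (if k = i then 1 else 0) * (if l = j then 1 else 0) := by
    intro k i l j
    have := congrFun (congrFun (h (Pi.single i 1) (Pi.single j 1)) k) l
    rw [vecMulVec_apply, vecMulVec_apply, mulVec_single_one, mulVec_single_one] at this
    simp only [Matrix.col_apply, Pi.single_apply] at this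
    exact this
  obtain ⟨i₀⟩ := ‹Nonempty ι›
  obtain ⟨j₀⟩ := ‹Nonempty κ›
  have h00 : R i₀ i₀ * S j₀ j₀ = 1 := by
    have := key i₀ i₀ j₀ j₀
    simpa using this
  have hS0 : S j₀ j₀ ≠ 0 := right_ne_zero_of_mul_eq_one h00
  have hR0 : R i₀ i₀ ≠ 0 := left_ne_zero_of_mul_eq_one h00
  refine ⟨R i₀ i₀, hR0, ?_, ?_⟩
  · ext k i
    have h1 := key k i j₀ j₀
    simp only [if_true, mul_one] at h1
    rw [Matrix.smul_apply, Matrix.one_apply, smul_eq_mul]
    by_cases hki : k = i
    · subst hki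
      rw [if_pos rfl, mul_one]
      rw [if_pos rfl] at h1
      -- R k k * S j₀ j₀ = 1 = R i₀ i₀ * S j₀ j₀
      have : R k k * S j₀ j₀ = R i₀ i₀ * S j₀ j₀ := by rw [h1, h00]
      exact mul_right_cancel₀ hS0 this
    · rw [if_neg hki, mul_zero]
      rw [if_neg hki] at h1
      rcases mul_eq_zero.mp h1 with h2 | h2
      · exact h2
      · exact absurd h2 hS0
  · ext l j
    have h1 := key i₀ i₀ l j
    simp only [if_true, one_mul] at h1
    rw [Matrix.smul_apply, Matrix.one_apply, smul_eq_mul]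
    by_cases hlj : l = j
    · subst hlj
      rw [if_pos rfl, mul_one]
      rw [if_pos rfl] at h1
      exact eq_inv_of_mul_eq_one_right h1
    · rw [if_neg hlj, mul_zero]
      rw [if_neg hlj] at h1
      rcases mul_eq_zero.mp h1 with h2 | h2
      · exact absurd h2 hR0
      · exact h2

/-- core: normalised case -/
theorem rank_gt_of_involutions (h2 : (2 : F) = 0) (h3 : 3 ≤ Fintype.card ι)
    (P : Matrix ι ι F) (Q : Matrix κ κ F) (c : Matrix ι κ F →ₗ[F] Matrix ι κ F)
    (hc : ∀ X, c X = P * X * Qᵀ - X) (hP : P * P = 1) (hQ : Q * Q = 1) (hP1 : P ≠ 1)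
    (hQ1 : Q ≠ 1) : Fintype.card κ + 1 ≤ finrank F (LinearMap.range c) := by
  -- `p = P - 1`, `q = Q - 1`
  have hPP : P + P = 0 := by rw [← two_smul F P, h2, zero_smul]
  have hQQ : Q + Q = 0 := by rw [← two_smul F Q, h2, zero_smul]
  have h11 : (1 : Matrix ι ι F) + 1 = 0 := by rw [← two_smul F (1 : Matrix ι ι F), h2, zero_smul]
  have h11' : (1 : Matrix κ κ F) + 1 = 0 := by
    rw [← two_smul F (1 : Matrix κ κ F), h2, zero_smul]
  have hpp : (P - 1) * (P - 1) = 0 := by
    have : (P - 1) * (P - 1) = P * P - (P + P) + 1 := by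
      rw [sub_mul, mul_sub, mul_sub, mul_one, one_mul, mul_one]; abel
    rw [this, hP, hPP, sub_zero, h11]
  have hqq : (Q - 1) * (Q - 1) = 0 := by
    have : (Q - 1) * (Q - 1) = Q * Q - (Q + Q) + 1 := by
      rw [sub_mul, mul_sub, mul_sub, mul_one, one_mul, mul_one]; abel
    rw [this, hQ, hQQ, sub_zero, h11']
  have hp0 : P - 1 ≠ 0 := sub_ne_zero.mpr hP1
  have hq0 : Q - 1 ≠ 0 := sub_ne_zero.mpr hQ1
  -- vectors
  obtain ⟨x₁, hx₁⟩ : ∃ x₁, (P - 1) *ᵥ x₁ ≠ 0 := by
    by_contra hcon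
    rw [not_exists] at hcon
    exact hp0 (eq_zero_of_mulVec _ (fun x => not_not.mp (hcon x)))
  obtain ⟨w, hw⟩ : ∃ w, (Q - 1) *ᵥ w ≠ 0 := by
    by_contra hcon
    rw [not_exists] at hcon
    exact hq0 (eq_zero_of_mulVec _ (fun x => not_not.mp (hcon x)))
  have hppv : ∀ x, (P - 1) *ᵥ ((P - 1) *ᵥ x) = 0 := by
    intro x
    rw [mulVec_mulVec, hpp, zero_mulVec]
  -- `a' ∈ ker p` outside `⟨x₁, p x₁⟩`
  obtain ⟨a', ha'0, ha'⟩ : ∃ a', (P - 1) *ᵥ a' = 0 ∧
      a' ∉ Submodule.span F {x₁, (P - 1) *ᵥ x₁} := by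
    by_contra hcon
    replace hcon : ∀ a', (P - 1) *ᵥ a' = 0 → a' ∈ Submodule.span F {x₁, (P - 1) *ᵥ x₁} := by
      intro a' h0
      by_contra h1
      exact hcon ⟨a', h0, h1⟩
    set f : (ι → F) →ₗ[F] (ι → F) := (P - 1).mulVecLin with hf
    have hker : LinearMap.ker f ≤ Submodule.span F {(P - 1) *ᵥ x₁} := by
      intro a ha
      rw [LinearMap.mem_ker, hf, mulVecLin_apply] at ha
      obtain ⟨α, β, hab⟩ := Submodule.mem_span_pair.mp (hcon a ha)
      have h4 : α • (P - 1) *ᵥ x₁ = 0 := by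
        have := ha
        rw [← hab, mulVec_add, mulVec_smul, mulVec_smul, hppv, smul_zero, add_zero] at this
        exact this
      have hα : α = 0 := by
        rcases smul_eq_zero.mp h4 with h5 | h5
        · exact h5
        · exact absurd h5 hx₁
      rw [hα, zero_smul, zero_add] at hab
      rw [← hab]
      exact Submodule.smul_mem _ _ (Submodule.mem_span_singleton_self _)
    have hrange : LinearMap.range f ≤ LinearMap.ker f := by
      rintro _ ⟨x, rfl⟩
      rw [LinearMap.mem_ker, hf, mulVecLin_apply, mulVecLin_apply]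
      exact hppv x
    have h5 : finrank F (LinearMap.ker f) ≤ 1 :=
      le_trans (Submodule.finrank_mono hker) (le_of_eq (finrank_span_singleton hx₁))
    have h6 : finrank F (LinearMap.range f) ≤ 1 := le_trans (Submodule.finrank_mono hrange) h5
    have h7 := LinearMap.finrank_range_add_finrank_ker f
    rw [Module.finrank_fintype_fun_eq_card] at h7
    omega
  -- independence
  have hind : ∀ α β γ : F, α • (P - 1) *ᵥ x₁ + β • x₁ + γ • a' = 0 → α = 0 ∧ γ = 0 := by
    intro α β γ h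
    have hγ : γ = 0 := by
      by_contra hγ
      apply ha'
      have : a' = (-γ⁻¹ * β) • x₁ + (-γ⁻¹ * α) • (P - 1) *ᵥ x₁ := by
        have h' : γ • a' = -(α • (P - 1) *ᵥ x₁ + β • x₁) := eq_neg_of_add_eq_zero_right h
        calc a' = γ⁻¹ • (γ • a') := by rw [smul_smul, inv_mul_cancel₀ hγ, one_smul]
          _ = (-γ⁻¹ * β) • x₁ + (-γ⁻¹ * α) • (P - 1) *ᵥ x₁ := by
            rw [h', smul_neg, smul_add, smul_smul, smul_smul, neg_add, neg_mul, neg_mul, neg_smul,
              neg_smul, add_comm]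
      rw [this]
      exact Submodule.add_mem _ (Submodule.smul_mem _ _ (Submodule.subset_span (by simp)))
        (Submodule.smul_mem _ _ (Submodule.subset_span (by simp)))
    refine ⟨?_, hγ⟩
    rw [hγ, zero_smul, add_zero] at h
    have h' := congrArg (fun v => (P - 1) *ᵥ v) h
    simp only [mulVec_add, mulVec_smul, hppv, smul_zero, zero_add, mulVec_zero] at h'
    have hβ : β = 0 := by
      rcases smul_eq_zero.mp h' with h5 | h5
      · exact h5
      · exact absurd h5 hx₁
    rw [hβ, zero_smul, add_zero] at h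
    rcases smul_eq_zero.mp h with h5 | h5
    · exact h5
    · exact absurd h5 hx₁
  -- the injective map
  let g : ((κ → F) × F) →ₗ[F] Matrix ι κ F :=
    (vecMulVecBilin F F x₁).coprod ((vecMulVecBilin F F a').comp (LinearMap.toSpanSingleton F _ w))
  have hg : ∀ (y : κ → F) (t : F), g (y, t) = vecMulVec x₁ y + vecMulVec a' (t • w) := by
    intro y t
    simp [g, LinearMap.coprod_apply, LinearMap.toSpanSingleton_apply]
  have hPx : ∀ x, P *ᵥ x = x + (P - 1) *ᵥ x := by
    intro x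
    rw [sub_mulVec, one_mulVec]; abel
  have hQy : ∀ y, Q *ᵥ y = y + (Q - 1) *ᵥ y := by
    intro y
    rw [sub_mulVec, one_mulVec]; abel
  have hψ : ∀ (y : κ → F) (t : F), c (g (y, t)) =
      vecMulVec ((P - 1) *ᵥ x₁) (Q *ᵥ y) + vecMulVec x₁ ((Q - 1) *ᵥ y)
        + vecMulVec a' (t • (Q - 1) *ᵥ w) := by
    intro y t
    rw [hg, map_add, hc, hc, mul_vecMulVec_mul_transpose, mul_vecMulVec_mul_transpose,
      hPx a', ha'0, add_zero, hPx x₁, add_vecMulVec]
    rw [hQy (t • w), mulVec_smul, vecMulVec_add, hQy y, vecMulVec_add, vecMulVec_add]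
    abel
  have hinj : Function.Injective (c ∘ₗ g) := by
    rw [← LinearMap.ker_eq_bot, LinearMap.ker_eq_bot']
    rintro ⟨y, t⟩ h
    rw [LinearMap.comp_apply, hψ] at h
    have hl : ∀ l : κ, (Q *ᵥ y) l = 0 ∧ (t • (Q - 1) *ᵥ w) l = 0 := by
      intro l
      apply hind _ (((Q - 1) *ᵥ y) l) _
      funext i
      have := congrFun (congrFun h i) l
      simp only [Matrix.add_apply, vecMulVec_apply, Matrix.zero_apply, Pi.smul_apply,
        smul_eq_mul] at this
      simp only [Pi.add_apply, Pi.smul_apply, smul_eq_mul, Pi.zero_apply]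
      linear_combination this
    have hy : y = 0 := by
      have h8 : Q *ᵥ y = 0 := funext fun l => (hl l).1
      have : y = Q *ᵥ (Q *ᵥ y) := by rw [mulVec_mulVec, hQ, one_mulVec]
      rw [this, h8, mulVec_zero]
    have ht : t = 0 := by
      have h8 : t • (Q - 1) *ᵥ w = 0 := funext fun l => (hl l).2
      rcases smul_eq_zero.mp h8 with h9 | h9
      · exact h9
      · exact absurd h9 hw
    rw [hy, ht]
    rfl
  have h9 : finrank F (LinearMap.range (c ∘ₗ g)) = Fintype.card κ + 1 := by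
    rw [LinearMap.finrank_range_of_inj hinj, Module.finrank_prod,
      Module.finrank_fintype_fun_eq_card, Module.finrank_self]
  rw [← h9]
  exact Submodule.finrank_mono (LinearMap.range_comp_le_range g c)

/-- KQ-even (L): Kronecker quadratic elements of rank `b`, characteristic `2`, `a ≥ 3`. -/
theorem kq_even [Finite F] (h2 : (2 : F) = 0) (h3 : 3 ≤ Fintype.card ι)
    (P : Matrix ι ι F) (Q : Matrix κ κ F) (c : Matrix ι κ F →ₗ[F] Matrix ι κ F)
    (hc : ∀ X, c X = P * X * Qᵀ - X) (hc2 : ∀ X, c (c X) = 0)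
    (hr : finrank F (LinearMap.range c) = Fintype.card κ) :
    (∃ q : F, Q = q • (1 : Matrix κ κ F)) ∨ (∃ p : F, P = p • (1 : Matrix ι ι F)) := by
  rcases isEmpty_or_nonempty κ with hκ | hκ
  · left
    exact ⟨0, by ext i; exact (hκ.false i).elim⟩
  have : Nonempty ι := by
    rw [← Fintype.card_pos_iff]; omega
  -- `P² ⊗ Q² = 1`
  have hsq : ∀ X : Matrix ι κ F, (P * P) * X * (Q * Q)ᵀ = X := by
    intro X
    have h := hc2 X
    rw [hc (c X), hc X] at h
    have hXX : ∀ Y : Matrix ι κ F, Y + Y = 0 := by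
      intro Y
      rw [← two_smul F Y, h2, zero_smul]
    have e1 : P * (P * X * Qᵀ - X) * Qᵀ = (P * P) * X * (Q * Q)ᵀ - P * X * Qᵀ := by
      rw [transpose_mul, Matrix.mul_sub, Matrix.sub_mul]
      simp only [Matrix.mul_assoc]
    have e : P * (P * X * Qᵀ - X) * Qᵀ - (P * X * Qᵀ - X)
        = (P * P) * X * (Q * Q)ᵀ - (P * X * Qᵀ + P * X * Qᵀ) + X := by
      rw [e1]
      abel
    rw [e, hXX, sub_zero] at h
    have := hXX X
    calc (P * P) * X * (Q * Q)ᵀ = ((P * P) * X * (Q * Q)ᵀ + X) + X := by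
          rw [add_assoc, this, add_zero]
      _ = X := by rw [h, zero_add]
  obtain ⟨lam, hlam, hPP, hQQ⟩ := scalars_of_kron_eq_one (P * P) (Q * Q) (by
    intro x y
    rw [← mul_vecMulVec_mul_transpose, hsq])
  -- square root
  have hchar : ringChar F = 2 := by
    have h4 : ringChar F ∣ 2 := ringChar.dvd (by exact_mod_cast h2)
    rcases (Nat.dvd_prime Nat.prime_two).mp h4 with h5 | h5
    · exact absurd h5 (CharP.ringChar_ne_one)
    · exact h5
  obtain ⟨ν, hν⟩ := FiniteField.isSquare_of_char_two hchar lam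
  have hν0 : ν ≠ 0 := by
    rintro rfl
    rw [mul_zero] at hν
    exact hlam hν
  -- normalise
  set P' : Matrix ι ι F := ν⁻¹ • P with hP'
  set Q' : Matrix κ κ F := ν • Q with hQ'
  have hP'2 : P' * P' = 1 := by
    rw [hP', Matrix.smul_mul, Matrix.mul_smul, hPP, smul_smul, smul_smul, hν]
    rw [show ν⁻¹ * ν⁻¹ * (ν * ν) = 1 by field_simp, one_smul]
  have hQ'2 : Q' * Q' = 1 := by
    rw [hQ', Matrix.smul_mul, Matrix.mul_smul, hQQ, smul_smul, smul_smul, hν]
    rw [show ν * ν * (ν * ν)⁻¹ = 1 by field_simp, one_smul]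
  have hc' : ∀ X, c X = P' * X * Q'ᵀ - X := by
    intro X
    rw [hc, hP', hQ', transpose_smul, Matrix.smul_mul, Matrix.smul_mul, Matrix.mul_smul, smul_smul,
      inv_mul_cancel₀ hν0, one_smul]
  by_contra hcon
  rw [not_or] at hcon
  obtain ⟨hQs, hPs⟩ := hcon
  have hP'1 : P' ≠ 1 := by
    intro h
    apply hPs
    refine ⟨ν, ?_⟩
    have : P = ν • P' := by rw [hP', smul_smul, mul_inv_cancel₀ hν0, one_smul]
    rw [this, h]
  have hQ'1 : Q' ≠ 1 := by
    intro h
    apply hQs
    refine ⟨ν⁻¹, ?_⟩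
    have : Q = ν⁻¹ • Q' := by rw [hQ', smul_smul, inv_mul_cancel₀ hν0, one_smul]
    rw [this, h]
  have := rank_gt_of_involutions h2 h3 P' Q' c hc' hP'2 hQ'2 hP'1 hQ'1
  omega

end Cfsg.Agent.Lib.Helper53_UT_KQE
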