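import Mathlib
import Cfsg.Agent.Lib.Helper98_AschDefs
import Cfsg.Agent.Lib.Helper23_FormDefs
import Cfsg.Agent.Lib.Helper97_SUDefs
import Cfsg.Agent.Lib.Helper10_Asch_PK4
import Cfsg.Agent.Lib.Helper29_Asch_PKP1
import Cfsg.Agent.Lib.Helper54_AschSp_F6c
import Cfsg.Agent.Lib.Helper13_HermHyp

/-!
# Lemmas for package UP6 of S5663 (helper97's cut)

Group theory of commuting factors (the factors of a perfect central product are perfect), the
sesquilinear form in a tensor-power basis (an isometry acting on one factor is an isometry of the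
factor Gram matrix), the hermitian rescaling of the factor Gram matrix, and realisability of a join.
-/

set_option autoImplicit false
set_option linter.unusedVariables false
set_option linter.unusedSectionVars false
set_option linter.style.haveILetI false

namespace Cfsg.Agent.Lib.Helper54_AschSU_UP6a

open Cfsg Cfsg.Geo Matrix Cfsg.Agent.Lib.Helper98_AschDefs Cfsg.Agent.Lib.Helper23_FormDefs
  Cfsg.Agent.Lib.Helper10_Asch_PK4 Cfsg.Agent.Lib.Helper54_AschSp_F6c
open Cfsg.Agent.Lib.Helper97_SUDefs Cfsg.Agent.Lib.Helper13_Herm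
open scoped Kronecker commutatorElement

variable {F : Type*} [Field F]

/-! ## group theory -/

section grp

variable {G : Type*} [Group G]

/-- the commutator subgroup of a join of pairwise commuting subgroups whose commutator subgroups lie in
a normal subgroup `Z` lies in `Z` -/
lemma commutator_iSup_le (Z : Subgroup G) (hZ : ∀ z ∈ Z, ∀ g : G, g * z * g⁻¹ ∈ Z)
    {k : ℕ} (S : Fin k → Subgroup G)
    (hcomm : ∀ i j, i ≠ j → ∀ x ∈ S i, ∀ y ∈ S j, x * y = y * x)
    (hder : ∀ i, ⁅S i, S i⁆ ≤ Z) : ⁅⨆ i, S i, ⨆ i, S i⁆ ≤ Z := by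
  rw [Subgroup.commutator_le]
  intro x hx y hy
  refine Subgroup.iSup_induction S (C := fun x => ∀ y ∈ ⨆ i, S i, ⁅x, y⁆ ∈ Z) hx ?_ ?_ ?_ y hy
  · intro i x hx y hy
    refine Subgroup.iSup_induction S (C := fun y => ⁅x, y⁆ ∈ Z) hy ?_ ?_ ?_
    · intro j y hy
      by_cases hij : i = j
      · subst hij
        exact hder i (Subgroup.commutator_mem_commutator hx hy)
      · have h1 : ⁅x, y⁆ = 1 := commutatorElement_eq_one_iff_commute.2 (hcomm i j hij x hx y hy)
        rw [h1]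
        exact Z.one_mem
    · rw [commutatorElement_one_right]
      exact Z.one_mem
    · intro y₁ y₂ h1 h2
      have h3 : ⁅x, y₁ * y₂⁆ = ⁅x, y₁⁆ * (y₁ * ⁅x, y₂⁆ * y₁⁻¹) := by
        simp only [commutatorElement_def]
        group
      rw [h3]
      exact Z.mul_mem h1 (hZ _ h2 y₁)
  · intro y hy
    rw [commutatorElement_one_left]
    exact Z.one_mem
  · intro x₁ x₂ h1 h2 y hy
    have h3 : ⁅x₁ * x₂, y⁆ = (x₁ * ⁅x₂, y⁆ * x₁⁻¹) * ⁅x₁, y⁆ := by
      simp only [commutatorElement_def]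
      group
    rw [h3]
    exact Z.mul_mem (hZ _ (h2 y hy) x₁) (h1 y hy)

lemma commutator_le_self' (T : Subgroup G) : ⁅T, T⁆ ≤ T := by
  rw [Subgroup.commutator_le]
  intro a ha b hb
  exact T.mul_mem (T.mul_mem (T.mul_mem ha hb) (T.inv_mem ha)) (T.inv_mem hb)

end grp

section gl

variable {ι : Type} [Fintype ι] [DecidableEq ι]

lemma conj_mem_scalars (z : GL ι F) (hz : z ∈ scalars ι F) (g : GL ι F) :
    g * z * g⁻¹ ∈ scalars ι F := by
  have h := Subgroup.mem_center_iff.1 (Cfsg.Agent.Lib.Helper29_Asch_PKP1.scalars_le_center hz) g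
  have h1 : g * z * g⁻¹ = z := by rw [h, mul_assoc, mul_inv_cancel, mul_one]
  rw [h1]
  exact hz

/-- the factors of a perfect central product of minimal conjugate factors are perfect -/
theorem factors_perfect (H N : Subgroup (GL ι F)) (hperf : ⁅N, N⁆ = N)
    (k : ℕ) (S : Fin k → Subgroup (GL ι F)) (hSN : ∀ i, S i ≤ N)
    (hSnorm : ∀ i, NormalizesGrp N (S i)) (hSZ : ∀ i, ¬ S i ≤ scalars ι F)
    (hcomm : ∀ i j, i ≠ j → ∀ x ∈ S i, ∀ y ∈ S j, x * y = y * x) (hsup : ⨆ i, S i = N)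
    (htrans : ∀ i j, ∃ h ∈ H, ∀ x, x ∈ S i ↔ h * x * h⁻¹ ∈ S j)
    (hSmin : ∀ i, ∀ T : Subgroup (GL ι F), T ≤ S i → NormalizesGrp N T →
      T = S i ∨ T ≤ scalars ι F) : ∀ i, ⁅S i, S i⁆ = S i := by
  intro i
  have hnormT : NormalizesGrp N ⁅S i, S i⁆ := by
    intro h hh x hx
    have h1 : (S i).map (MulAut.conj h).toMonoidHom ≤ S i := by
      rintro _ ⟨y, hy, rfl⟩
      exact hSnorm i h hh y hy
    have h2 : (⁅S i, S i⁆).map (MulAut.conj h).toMonoidHom ≤ ⁅S i, S i⁆ := by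
      rw [Subgroup.map_commutator]
      exact Subgroup.commutator_mono h1 h1
    exact h2 (Subgroup.mem_map_of_mem _ hx)
  rcases hSmin i ⁅S i, S i⁆ (commutator_le_self' _) hnormT with h | h
  · exact h
  · exfalso
    have hall : ∀ j, ⁅S j, S j⁆ ≤ scalars ι F := by
      intro j
      obtain ⟨h', hh', hij⟩ := htrans i j
      rw [Subgroup.commutator_le]
      intro a ha b hb
      have ha' : h'⁻¹ * a * h' ∈ S i := by
        apply (hij _).2
        have : h' * (h'⁻¹ * a * h') * h'⁻¹ = a := by group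
        rw [this]
        exact ha
      have hb' : h'⁻¹ * b * h' ∈ S i := by
        apply (hij _).2
        have : h' * (h'⁻¹ * b * h') * h'⁻¹ = b := by group
        rw [this]
        exact hb
      have h1 : ⁅h'⁻¹ * a * h', h'⁻¹ * b * h'⁆ ∈ scalars ι F :=
        h (Subgroup.commutator_mem_commutator ha' hb')
      have h2 : ⁅a, b⁆ = h' * ⁅h'⁻¹ * a * h', h'⁻¹ * b * h'⁆ * h'⁻¹ := by
        simp only [commutatorElement_def]
        group
      rw [h2]
      exact conj_mem_scalars _ h1 h'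
    have hN : ⁅N, N⁆ ≤ scalars ι F := by
      rw [← hsup]
      exact commutator_iSup_le _ conj_mem_scalars S hcomm hall
    rw [hperf] at hN
    exact hSZ i (le_trans (hSN i) hN)

/-- entries in a subfield pass to a join of subgroups -/
lemma realisable_iSup (F₀ : Subfield F) (B : GL ι F) {k : ℕ} (S : Fin k → Subgroup (GL ι F))
    (h : ∀ i, ∀ x ∈ S i, ∀ a b,
      ((B : Matrix ι ι F) * (x : Matrix ι ι F) * ((B⁻¹ : GL ι F) : Matrix ι ι F)) a b ∈ F₀) :
    ∀ x ∈ ⨆ i, S i, ∀ a b,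
      ((B : Matrix ι ι F) * (x : Matrix ι ι F) * ((B⁻¹ : GL ι F) : Matrix ι ι F)) a b ∈ F₀ := by
  intro x hx
  refine Subgroup.iSup_induction S (C := fun x : GL ι F => ∀ a b,
      ((B : Matrix ι ι F) * (x : Matrix ι ι F) * ((B⁻¹ : GL ι F) : Matrix ι ι F)) a b ∈ F₀)
    hx h ?_ ?_
  · intro a b
    rw [Units.val_one, mul_one, ← Units.val_mul, mul_inv_cancel, Units.val_one, Matrix.one_apply]
    split_ifs
    · exact F₀.one_mem
    · exact F₀.zero_mem
  · intro x y hx hy a b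
    have h1 : (B : Matrix ι ι F) * ((x * y : GL ι F) : Matrix ι ι F) * ((B⁻¹ : GL ι F) : Matrix ι ι F) =
        ((B : Matrix ι ι F) * (x : Matrix ι ι F) * ((B⁻¹ : GL ι F) : Matrix ι ι F)) *
          ((B : Matrix ι ι F) * (y : Matrix ι ι F) * ((B⁻¹ : GL ι F) : Matrix ι ι F)) := by
      have h2 : ((B⁻¹ : GL ι F) : Matrix ι ι F) * (B : Matrix ι ι F) = 1 := by
        rw [← Units.val_mul, inv_mul_cancel, Units.val_one]
      calc (B : Matrix ι ι F) * ((x * y : GL ι F) : Matrix ι ι F) * ((B⁻¹ : GL ι F) : Matrix ι ι F)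
          = (B : Matrix ι ι F) * (x : Matrix ι ι F) * 1 * (y : Matrix ι ι F) *
              ((B⁻¹ : GL ι F) : Matrix ι ι F) := by rw [Units.val_mul]; simp only [mul_assoc, one_mul]
        _ = _ := by rw [← h2]; simp only [mul_assoc]
    rw [h1, Matrix.mul_apply]
    exact Subfield.sum_mem _ (fun c _ => F₀.mul_mem (hx a c) (hy c b))

end gl

/-! ## the form in a tensor-power basis -/

section tform

variable {ι : Type} [Fintype ι] [DecidableEq ι] {σ : F ≃+* F} {f : (ι → F) → (ι → F) → F}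
  {k d : ℕ}

/-- the form in the tensor basis -/
def tform (f : (ι → F) → (ι → F) → F) (e : ι ≃ (Fin k → Fin d)) (P : GL ι F) :
    ((Fin k → Fin d) → F) → ((Fin k → Fin d) → F) → F :=
  fun x y => f ((P : Matrix ι ι F) *ᵥ (x ∘ e)) ((P : Matrix ι ι F) *ᵥ (y ∘ e))

lemma tform_apply (e : ι ≃ (Fin k → Fin d)) (P : GL ι F) (x y : (Fin k → Fin d) → F) :
    tform f e P x y = f ((P : Matrix ι ι F) *ᵥ (x ∘ e)) ((P : Matrix ι ι F) *ᵥ (y ∘ e)) := rfl

lemma tform_sesq (hf : IsSesq σ f) (e : ι ≃ (Fin k → Fin d)) (P : GL ι F) :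
    IsSesq σ (tform f e P) := by
  refine ⟨?_, ?_, ?_, ?_⟩
  · intro x y v
    rw [tform_apply, tform_apply, tform_apply]
    have : (x + y) ∘ e = x ∘ e + y ∘ e := rfl
    rw [this, Matrix.mulVec_add, hf.add_left]
  · intro c x v
    rw [tform_apply, tform_apply]
    have : (c • x) ∘ e = c • (x ∘ e) := rfl
    rw [this, Matrix.mulVec_smul, hf.smul_left]
  · intro v x y
    rw [tform_apply, tform_apply, tform_apply]
    have : (x + y) ∘ e = x ∘ e + y ∘ e := rfl
    rw [this, Matrix.mulVec_add, hf.add_right]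
  · intro c v x
    rw [tform_apply, tform_apply]
    have : (c • x) ∘ e = c • (x ∘ e) := rfl
    rw [this, Matrix.mulVec_smul, hf.smul_right]

lemma tform_key (e : ι ≃ (Fin k → Fin d)) (P : GL ι F)
    (A : Matrix (Fin k → Fin d) (Fin k → Fin d) F) (x : (Fin k → Fin d) → F) :
    (P : Matrix ι ι F) *ᵥ ((A *ᵥ x) ∘ e) =
      ((P : Matrix ι ι F) * Matrix.reindex e.symm e.symm A * ((P⁻¹ : GL ι F) : Matrix ι ι F)) *ᵥ
        ((P : Matrix ι ι F) *ᵥ (x ∘ e)) := by
  have hPP' : ((P⁻¹ : GL ι F) : Matrix ι ι F) * (P : Matrix ι ι F) = 1 := by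
    rw [← Units.val_mul, inv_mul_cancel, Units.val_one]
  rw [Matrix.mulVec_mulVec, mul_assoc, mul_assoc, hPP', mul_one, ← Matrix.mulVec_mulVec]
  congr 1
  rw [Matrix.reindex_apply, Matrix.submatrix_mulVec_equiv]
  simp only [Equiv.symm_symm]
  congr 2
  funext a
  simp

lemma sum_sum_single {κ : Type*} [Fintype κ] [DecidableEq κ] (σ : F ≃+* F) (X : κ → κ → F) (a b : κ) :
    ∑ a', ∑ b', (Pi.single a (1 : F) : κ → F) a' * X a' b' * σ ((Pi.single b (1 : F) : κ → F) b') =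
      X a b := by
  rw [Finset.sum_eq_single a]
  · rw [Finset.sum_eq_single b]
    · simp
    · intro b' _ hb'
      simp [Pi.single_eq_of_ne hb']
    · intro hb
      exact absurd (Finset.mem_univ _) hb
  · intro a' _ ha'
    simp [Pi.single_eq_of_ne ha']
  · intro ha
    exact absurd (Finset.mem_univ _) ha

/-- an isometry acting on one tensor factor is an isometry of the factor Gram matrix -/
theorem isom_factor (hf : IsSesq σ f) (e : ι ≃ (Fin k → Fin d)) (P : GL ι F)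
    (G₀ : Matrix (Fin d) (Fin d) F) (hG₀ : IsUnit G₀.det) (c : F) (hc : c ≠ 0)
    (hform : ∀ x y : (Fin k → Fin d) → F,
      f ((P : Matrix ι ι F) *ᵥ (x ∘ e)) ((P : Matrix ι ι F) *ᵥ (y ∘ e)) =
        c * ∑ a, ∑ b, x a * (∏ i, G₀ (a i) (b i)) * σ (y b))
    (i : Fin k) (M M'' : Matrix (Fin d) (Fin d) F) (hMM : M'' * M = 1)
    (hadj : ∀ u v : ι → F,
      f (((P : Matrix ι ι F) * Matrix.reindex e.symm e.symm (factorMat k d i M) *
          ((P⁻¹ : GL ι F) : Matrix ι ι F)) *ᵥ u) v =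
        f u (((P : Matrix ι ι F) * Matrix.reindex e.symm e.symm (factorMat k d i M'') *
          ((P⁻¹ : GL ι F) : Matrix ι ι F)) *ᵥ v)) :
    Mᵀ * G₀ * M.map σ = G₀ := by
  classical
  have hf' : IsSesq σ (tform f e P) := tform_sesq hf e P
  have hrel : ∀ x y, tform f e P (factorMat k d i M *ᵥ x) y =
      tform f e P x (factorMat k d i M'' *ᵥ y) := by
    intro x y
    rw [tform_apply, tform_apply, tform_key, tform_key, hadj]
  have h1 := adj_matrix hf' _ _ hrel
  have hΓ : Matrix.of (fun a b => tform f e P (Pi.single a 1) (Pi.single b 1)) =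
      c • pt k d (fun _ => G₀) := by
    ext a b
    rw [Matrix.of_apply, tform_apply, hform, sum_sum_single σ (fun a b : Fin k → Fin d => ∏ i, G₀ (a i) (b i)),
      Matrix.smul_apply, pt_apply, smul_eq_mul]
  rw [hΓ, factorMat_transpose, factorMat_map, Matrix.mul_smul, Matrix.smul_mul] at h1
  have h2 : factorMat k d i Mᵀ * pt k d (fun _ => G₀) =
      pt k d (fun _ => G₀) * factorMat k d i (M''.map σ) := by
    have h3 := congrArg (fun X => c⁻¹ • X) h1
    simpa [smul_smul, inv_mul_cancel₀ hc] using h3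
  obtain ⟨Gu, hGu⟩ : ∃ Gu : GL (Fin d) F, (Gu : Matrix (Fin d) (Fin d) F) = G₀ :=
    ⟨((Matrix.isUnit_iff_isUnit_det G₀).2 hG₀).unit, rfl⟩
  have hpt : ((ptGL k d (fun _ => Gu) : GL (Fin k → Fin d) F) :
      Matrix (Fin k → Fin d) (Fin k → Fin d) F) = pt k d (fun _ => G₀) := by
    show pt k d _ = _
    simp only [hGu]
  have h4 := ptGL_conj (fun _ => Gu) i (M''.map σ)
  have hTT' : (((ptGL k d (fun _ => Gu))⁻¹ : GL (Fin k → Fin d) F) :
      Matrix (Fin k → Fin d) (Fin k → Fin d) F) *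
      ((ptGL k d (fun _ => Gu) : GL (Fin k → Fin d) F) :
        Matrix (Fin k → Fin d) (Fin k → Fin d) F) = 1 := by
    rw [← Units.val_mul, inv_mul_cancel, Units.val_one]
  have hTT : ((ptGL k d (fun _ => Gu) : GL (Fin k → Fin d) F) :
        Matrix (Fin k → Fin d) (Fin k → Fin d) F) *
      (((ptGL k d (fun _ => Gu))⁻¹ : GL (Fin k → Fin d) F) :
      Matrix (Fin k → Fin d) (Fin k → Fin d) F) = 1 := by
    rw [← Units.val_mul, mul_inv_cancel, Units.val_one]
  have h5 : factorMat k d i Mᵀ =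
      factorMat k d i ((Gu : Matrix (Fin d) (Fin d) F) * M''.map σ *
        ((Gu⁻¹ : GL (Fin d) F) : Matrix (Fin d) (Fin d) F)) := by
    rw [← h4, hpt, ← h2, mul_assoc, ← hpt, hTT, mul_one]
  have h6 := factorMat_injective i h5
  have hGG : ((Gu⁻¹ : GL (Fin d) F) : Matrix (Fin d) (Fin d) F) * G₀ = 1 := by
    rw [← hGu, ← Units.val_mul, inv_mul_cancel, Units.val_one]
  have hone : (1 : Matrix (Fin d) (Fin d) F).map σ = 1 := Matrix.map_one _ (map_zero σ) (map_one σ)
  rw [h6, hGu]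
  calc G₀ * M''.map σ * ((Gu⁻¹ : GL (Fin d) F) : Matrix (Fin d) (Fin d) F) * G₀ * M.map σ
      = G₀ * M''.map σ * (((Gu⁻¹ : GL (Fin d) F) : Matrix (Fin d) (Fin d) F) * G₀) * M.map σ := by
        simp only [mul_assoc]
    _ = G₀ * (M''.map σ * M.map σ) := by rw [hGG, mul_one, mul_assoc]
    _ = G₀ := by rw [← map_mul', hMM, hone, mul_one]

end tform

/-! ## forms of Gram matrices -/

section gram

variable {κ : Type} [Fintype κ] [DecidableEq κ]

lemma formOfGram_eq_dot (τ : F → F) (G : Matrix κ κ F) (x y : κ → F) :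
    formOfGram τ G x y = x ⬝ᵥ G *ᵥ (τ ∘ y) := by
  simp only [formOfGram, dotProduct, Matrix.mulVec, Function.comp_apply, Finset.mul_sum]
  apply Finset.sum_congr rfl
  intro a _
  apply Finset.sum_congr rfl
  intro b _
  ring

lemma map_mulVec (σ : F ≃+* F) (M : Matrix κ κ F) (v : κ → F) :
    (σ : F → F) ∘ (M *ᵥ v) = M.map σ *ᵥ ((σ : F → F) ∘ v) := by
  funext a
  simp [Matrix.mulVec, dotProduct, map_sum]

lemma dot_mulVec_mulVec' (G h h' : Matrix κ κ F) (u v : κ → F) :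
    (h *ᵥ u) ⬝ᵥ G *ᵥ (h' *ᵥ v) = u ⬝ᵥ (hᵀ * G * h') *ᵥ v := by
  rw [← Matrix.mulVec_mulVec, ← Matrix.mulVec_mulVec, dotProduct_comm (h *ᵥ u),
    Matrix.dotProduct_mulVec, ← Matrix.mulVec_transpose, dotProduct_comm]

/-- a matrix preserving a Gram matrix is an isometry of its form -/
lemma formOfGram_isom (σ : F ≃+* F) (G M : Matrix κ κ F) (h : Mᵀ * G * M.map σ = G) (u v : κ → F) :
    formOfGram (σ : F → F) G (M *ᵥ u) (M *ᵥ v) = formOfGram (σ : F → F) G u v := by
  rw [formOfGram_eq_dot, formOfGram_eq_dot, map_mulVec, dot_mulVec_mulVec', h]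

end gram

/-! ## the hermitian rescaling -/

/-- a matrix whose tensor power is hermitian up to a scalar has a hermitian multiple -/
theorem exists_herm_scale [Fintype F] {q : ℕ} (hF : Fintype.card F = q ^ 2) {k d : ℕ} (hk : 0 < k)
    (G₀ : Matrix (Fin d) (Fin d) F) (hG₀ : G₀ ≠ 0) (c : F) (hc : c ≠ 0)
    (h : ∀ a b : Fin k → Fin d, c * ∏ i, G₀ (a i) (b i) = (c * ∏ i, G₀ (b i) (a i)) ^ q) :
    ∃ mu : F, mu ≠ 0 ∧ ∀ a b, (mu • G₀) a b = ((mu • G₀) b a) ^ q := by
  have hq : q ≠ 0 := q_ne_zero hF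
  obtain ⟨k', rfl⟩ : ∃ k', k = k' + 1 := ⟨k - 1, by omega⟩
  obtain ⟨a0, b0, h0⟩ : ∃ a0 b0, G₀ a0 b0 ≠ 0 := by
    by_contra hcon
    push Not at hcon
    apply hG₀
    ext a b
    exact hcon a b
  have key : ∀ a b, c * (G₀ a b * (G₀ a0 b0) ^ k') = (c * (G₀ b a * (G₀ b0 a0) ^ k')) ^ q := by
    intro a b
    have h1 := h (Fin.cons a (fun _ => a0)) (Fin.cons b (fun _ => b0))
    rw [Fin.prod_univ_succ, Fin.prod_univ_succ] at h1
    simpa using h1
  have hb : G₀ b0 a0 ≠ 0 := by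
    intro hb
    have h1 := key a0 b0
    rw [hb, zero_mul, mul_zero, zero_pow hq] at h1
    exact (mul_ne_zero hc (mul_ne_zero h0 (pow_ne_zero _ h0))) h1
  -- the scalar `lam` with `G₀ a b = lam * (G₀ b a) ^ q`
  obtain ⟨lam, hlam⟩ : ∃ lam : F, lam = (c * (G₀ b0 a0) ^ k') ^ q / (c * (G₀ a0 b0) ^ k') := ⟨_, rfl⟩
  have hden : c * (G₀ a0 b0) ^ k' ≠ 0 := mul_ne_zero hc (pow_ne_zero _ h0)
  have hG : ∀ a b, G₀ a b = lam * (G₀ b a) ^ q := by
    intro a b
    have h1 := key a b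
    rw [hlam]
    field_simp
    rw [mul_pow, mul_pow] at h1
    linear_combination h1
  have hnorm : lam ^ (q + 1) = 1 := by
    have h1 := hG a0 b0
    rw [hG b0 a0, mul_pow, pow_q_pow_q hF] at h1
    have : G₀ a0 b0 * (lam ^ (q + 1) - 1) = 0 := by
      rw [pow_succ]
      linear_combination -h1
    rcases mul_eq_zero.1 this with h2 | h2
    · exact absurd h2 h0
    · linear_combination h2
  obtain ⟨c', hc0, hc'⟩ := Cfsg.Agent.Lib.Helper13_HermHyp.hilbert90 hF lam hnorm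
  obtain ⟨mu, hmu⟩ : ∃ mu : F, mu = c'⁻¹ := ⟨_, rfl⟩
  have hmu0 : mu ≠ 0 := by rw [hmu]; exact inv_ne_zero hc0
  have hmulam : mu * lam = mu ^ q := by
    rw [← hc', hmu, ← mul_assoc, inv_mul_cancel₀ hc0, one_mul]
  refine ⟨mu, hmu0, ?_⟩
  intro a b
  rw [Matrix.smul_apply, Matrix.smul_apply, smul_eq_mul, smul_eq_mul, mul_pow, hG a b, ← hmulam]
  ring

end Cfsg.Agent.Lib.Helper54_AschSU_UP6a
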