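import Mathlib
import Cfsg.Agent.Lib.Helper98_AschDefs
import Cfsg.Agent.Lib.Helper54_Asch_PKP2
import Cfsg.Agent.Lib.Helper54_OrthOdd_OP6a

/-!
# Package T1 of S5662 (helper23's cut): the tensor-power structure given by at least two commuting
conjugate spanning factors, for a general index type (a reshaping of
`Helper54_OrthOdd_OP6a.tensor_data`).
-/

set_option autoImplicit false
set_option linter.unusedVariables false
set_option linter.style.haveILetI false

namespace Cfsg.Agent.Lib.Helper54_AschSp_T1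

open Cfsg Cfsg.Geo Matrix Cfsg.Agent.Lib.Helper98_AschDefs Cfsg.Agent.Lib.Helper54_Asch_PKP2
open scoped Kronecker

variable {ι : Type} [Fintype ι] [DecidableEq ι] {F : Type*} [Field F]

/-- T1: the tensor-power structure given by at least two commuting conjugate spanning factors
(general index type; port of `Helper54_Asch_PKP2.PKP2_aux`, which is stated for `Fin n`), keeping the
conjugating elements `g i ∈ H` and the common coordinatisation `ψ` of the factor algebras -/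
theorem T1 [Finite F] [Nonempty ι] (H N : Subgroup (GL ι F)) (hspan : spanAlg N = ⊤)
    (k : ℕ) (hk : 2 ≤ k) (S : Fin k → Subgroup (GL ι F)) (hSN : ∀ i, S i ≤ N)
    (hSnorm : ∀ i, NormalizesGrp N (S i)) (hSZ : ∀ i, ¬ S i ≤ scalars ι F)
    (hcomm : ∀ i j, i ≠ j → ∀ x ∈ S i, ∀ y ∈ S j, x * y = y * x) (hsup : ⨆ i, S i = N)
    (hperm : ∀ h ∈ H, ∃ π : Equiv.Perm (Fin k), ∀ i, ∀ x, x ∈ S i ↔ h * x * h⁻¹ ∈ S (π i))
    (htrans : ∀ i j, ∃ h ∈ H, ∀ x, x ∈ S i ↔ h * x * h⁻¹ ∈ S j) (i₀ : Fin k) :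
    ∃ (d : ℕ) (e : ι ≃ (Fin k → Fin d)) (P : GL ι F) (ψ : Matrix (Fin d) (Fin d) F →ₐ[F] Matrix ι ι F)
      (g : Fin k → GL ι F), 2 ≤ d ∧ H ≤ tensorWreathSubgroup d k e P ∧ (∀ i, g i ∈ H) ∧
      (∀ a : Matrix ι ι F, a ∈ spanAlg (S i₀) ↔ ∃ M : Matrix (Fin d) (Fin d) F, a = ψ M) ∧
      (∀ i (M : Matrix (Fin d) (Fin d) F),
        (P : Matrix ι ι F) * Matrix.reindex e.symm e.symm (factorMat k d i M) * ((P⁻¹ : GL ι F) : Matrix ι ι F) =
          (g i : Matrix ι ι F) * ψ M * (((g i)⁻¹ : GL ι F) : Matrix ι ι F)) ∧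
      ∀ i (a : Matrix ι ι F), a ∈ spanAlg (S i) ↔ ∃ M : Matrix (Fin d) (Fin d) F,
        a = (P : Matrix ι ι F) * Matrix.reindex e.symm e.symm (factorMat k d i M) *
          ((P⁻¹ : GL ι F) : Matrix ι ι F) := by
  classical
  cases nonempty_fintype F
  obtain ⟨d, ψ, g, e, P, hd2, hgH, hg, hψ0, hψ0', hφ, hle⟩ :=
    Cfsg.Agent.Lib.Helper54_OrthOdd_OP6a.tensor_data H N hspan k hk S hSN hSnorm hSZ hcomm hsup
      hperm htrans i₀
  refine ⟨d, e, P, ψ, g, hd2, hle, hgH, ?_, fun i M => (hφ i M).symm, ?_⟩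
  · intro a
    constructor
    · exact hψ0' a
    · rintro ⟨M, rfl⟩
      exact hψ0 M
  · intro i a
    constructor
    · intro ha
      have h1 : (((g i)⁻¹ : GL ι F) : Matrix ι ι F) * a *
          ((((g i)⁻¹)⁻¹ : GL ι F) : Matrix ι ι F) ∈ spanAlg (S i₀) := by
        apply conj_mem_spanAlg (g i)⁻¹ _ ha
        intro y hy
        apply (hg i _).2
        have : g i * ((g i)⁻¹ * y * (g i)⁻¹⁻¹) * (g i)⁻¹ = y := by group
        rw [this]; exact hy
      obtain ⟨M, hM⟩ := hψ0' _ h1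
      refine ⟨M, ?_⟩
      rw [← hφ i M, ← hM, inv_inv]
      have e1 : ((g i : GL ι F) : Matrix ι ι F) *
          (((g i)⁻¹ : GL ι F) : Matrix ι ι F) = 1 := by
        rw [← Units.val_mul, mul_inv_cancel, Units.val_one]
      calc a = (1 : Matrix ι ι F) * a * 1 := by simp
        _ = _ := by
          rw [← e1]
          simp only [mul_assoc]
    · rintro ⟨M, rfl⟩
      rw [← hφ i M]
      exact conj_mem_spanAlg (g i) (fun x hx => (hg i x).1 hx) (hψ0 M)

end Cfsg.Agent.Lib.Helper54_AschSp_T1
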