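import Mathlib
import Cfsg.Agent.Lib.Helper98_AschDefs
import Cfsg.Agent.Lib.Helper23_FormDefs
import Cfsg.Agent.Lib.Helper97_SUDefs
import Cfsg.Agent.Lib.Helper54_AschSp_T1
import Cfsg.Agent.Lib.Helper54_AschSp_F6c
import Cfsg.Agent.Lib.Helper54_AschSU_UP6a
import Cfsg.Agent.Lib.Helper10_AschSU_UP4F
import Cfsg.Agent.Lib.Helper87_AschSU_UPH
import Cfsg.Agent.Lib.Helper59_AschSU_GU32
import Cfsg.Agent.Lib.Helper89_AschSU_SU2Q
import Cfsg.Agent.Lib.Helper32_OrthOdd_OP7b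
import Cfsg.Agent.Lib.Helper54_OrthOdd_OP6

/-!
# Package UP6 of S5663 (helper97's cut), modulo the subfield package UP7a

At least two commuting conjugate perfect factors in a unitary group: class 7, or class 5 when the
factors have dimension 2 (through a hypothesis standing for UP7a).
-/

set_option autoImplicit false
set_option linter.unusedVariables false
set_option linter.unusedSectionVars false
set_option linter.style.haveILetI false

namespace Cfsg.Agent.Lib.Helper54_AschSU_UP6b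

open Cfsg Cfsg.Geo Matrix Cfsg.Agent.Lib.Helper98_AschDefs Cfsg.Agent.Lib.Helper23_FormDefs
  Cfsg.Agent.Lib.Helper10_Asch_PK4 Cfsg.Agent.Lib.Helper54_AschSp_F6c
  Cfsg.Agent.Lib.Helper54_AschSU_UP6a Cfsg.Agent.Lib.Helper54_Asch_PKP2
open Cfsg.Agent.Lib.Helper97_SUDefs Cfsg.Agent.Lib.Helper13_Herm
open scoped Kronecker commutatorElement

variable {F : Type*} [Field F]

/-- the isometry group of a form on `F^d` -/
def isomGrp {d : ℕ} (f₁ : (Fin d → F) → (Fin d → F) → F) : Subgroup (GL (Fin d) F) where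
  carrier := {g | ∀ u v, f₁ ((g : Matrix (Fin d) (Fin d) F) *ᵥ u)
    ((g : Matrix (Fin d) (Fin d) F) *ᵥ v) = f₁ u v}
  mul_mem' := by
    intro a b ha hb u v
    rw [Units.val_mul, ← Matrix.mulVec_mulVec, ← Matrix.mulVec_mulVec, ha, hb]
  one_mem' := by
    intro u v
    simp
  inv_mem' := by
    intro a ha u v
    have h := ha (((a⁻¹ : GL (Fin d) F) : Matrix (Fin d) (Fin d) F) *ᵥ u)
      (((a⁻¹ : GL (Fin d) F) : Matrix (Fin d) (Fin d) F) *ᵥ v)
    rw [Matrix.mulVec_mulVec, Matrix.mulVec_mulVec, ← Units.val_mul, mul_inv_cancel, Units.val_one,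
      Matrix.one_mulVec, Matrix.one_mulVec] at h
    exact h.symm

lemma mem_isomGrp {d : ℕ} (f₁ : (Fin d → F) → (Fin d → F) → F) (g : GL (Fin d) F) :
    g ∈ isomGrp f₁ ↔ ∀ u v, f₁ ((g : Matrix (Fin d) (Fin d) F) *ᵥ u)
      ((g : Matrix (Fin d) (Fin d) F) *ᵥ v) = f₁ u v := Iff.rfl

/-- `factorMat` as a monoid homomorphism -/
def factorMatHom (k d : ℕ) (i : Fin k) :
    Matrix (Fin d) (Fin d) F →* Matrix (Fin k → Fin d) (Fin k → Fin d) F where
  toFun := factorMat k d i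
  map_one' := factorMat_one i
  map_mul' := fun M N => (factorMat_mul i M N).symm

section psi

variable {ι : Type} [Fintype ι] [DecidableEq ι]

/-- the `i`-th tensor factor of a tensor-power basis, as a monoid homomorphism of matrix algebras -/
def psiHom (k d : ℕ) (e : ι ≃ (Fin k → Fin d)) (P : GL ι F) (i : Fin k) :
    Matrix (Fin d) (Fin d) F →* Matrix ι ι F where
  toFun := fun M => (P : Matrix ι ι F) * Matrix.reindex e.symm e.symm (factorMat k d i M) *
    ((P⁻¹ : GL ι F) : Matrix ι ι F)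
  map_one' := by
    rw [factorMat_one]
    have : Matrix.reindex e.symm e.symm (1 : Matrix (Fin k → Fin d) (Fin k → Fin d) F) = 1 := by
      ext a b
      simp [Matrix.one_apply]
    rw [this, mul_one, ← Units.val_mul, mul_inv_cancel, Units.val_one]
  map_mul' := by
    intro M N
    have hPP' : ((P⁻¹ : GL ι F) : Matrix ι ι F) * (P : Matrix ι ι F) = 1 := by
      rw [← Units.val_mul, inv_mul_cancel, Units.val_one]
    have h1 : Matrix.reindex e.symm e.symm (factorMat k d i (M * N)) =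
        Matrix.reindex e.symm e.symm (factorMat k d i M) *
          Matrix.reindex e.symm e.symm (factorMat k d i N) := by
      rw [← factorMat_mul]
      simp only [Matrix.reindex_apply, Matrix.submatrix_mul_equiv]
    rw [h1]
    calc (P : Matrix ι ι F) * (Matrix.reindex e.symm e.symm (factorMat k d i M) *
          Matrix.reindex e.symm e.symm (factorMat k d i N)) * ((P⁻¹ : GL ι F) : Matrix ι ι F)
        = (P : Matrix ι ι F) * Matrix.reindex e.symm e.symm (factorMat k d i M) * 1 *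
          Matrix.reindex e.symm e.symm (factorMat k d i N) * ((P⁻¹ : GL ι F) : Matrix ι ι F) := by
            simp only [mul_assoc, one_mul]
      _ = _ := by rw [← hPP']; simp only [mul_assoc]

lemma psiHom_apply (k d : ℕ) (e : ι ≃ (Fin k → Fin d)) (P : GL ι F) (i : Fin k)
    (M : Matrix (Fin d) (Fin d) F) :
    psiHom k d e P i M = (P : Matrix ι ι F) * Matrix.reindex e.symm e.symm (factorMat k d i M) *
      ((P⁻¹ : GL ι F) : Matrix ι ι F) := rfl

lemma psiHom_injective (k d : ℕ) (e : ι ≃ (Fin k → Fin d)) (P : GL ι F) (i : Fin k) :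
    Function.Injective (psiHom (F := F) k d e P i) := by
  intro M N h
  rw [psiHom_apply, psiHom_apply] at h
  have hPP' : ((P⁻¹ : GL ι F) : Matrix ι ι F) * (P : Matrix ι ι F) = 1 := by
    rw [← Units.val_mul, inv_mul_cancel, Units.val_one]
  have h1 : Matrix.reindex e.symm e.symm (factorMat k d i M) =
      Matrix.reindex e.symm e.symm (factorMat k d i N) := by
    have h2 := congrArg (fun X => ((P⁻¹ : GL ι F) : Matrix ι ι F) * X * (P : Matrix ι ι F)) h
    simp only [mul_assoc, hPP', mul_one] at h2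
    simp only [← mul_assoc, hPP', one_mul] at h2
    exact h2
  exact factorMat_injective i ((Matrix.reindex e.symm e.symm).injective h1)

/-- the embedding of `GL_d` as the `i`-th tensor factor -/
def factorGL (k d : ℕ) (e : ι ≃ (Fin k → Fin d)) (P : GL ι F) (i : Fin k) :
    GL (Fin d) F →* GL ι F := Units.map (psiHom k d e P i)

lemma factorGL_coe (k d : ℕ) (e : ι ≃ (Fin k → Fin d)) (P : GL ι F) (i : Fin k)
    (M : GL (Fin d) F) :
    ((factorGL k d e P i M : GL ι F) : Matrix ι ι F) =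
      (P : Matrix ι ι F) * Matrix.reindex e.symm e.symm
        (factorMat k d i (M : Matrix (Fin d) (Fin d) F)) * ((P⁻¹ : GL ι F) : Matrix ι ι F) := rfl

/-- conjugating a factor element by a pure tensor, in the tensor basis -/
lemma conj_factor (k d : ℕ) (e : ι ≃ (Fin k → Fin d)) (P : GL ι F) (B₀ : GL (Fin d) F) (i : Fin k)
    (M : Matrix (Fin d) (Fin d) F) :
    ((glReindex e.symm (ptGL k d (fun _ => B₀)) * P⁻¹ : GL ι F) : Matrix ι ι F) *
      ((P : Matrix ι ι F) * Matrix.reindex e.symm e.symm (factorMat k d i M) *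
        ((P⁻¹ : GL ι F) : Matrix ι ι F)) *
      (((glReindex e.symm (ptGL k d (fun _ => B₀)) * P⁻¹)⁻¹ : GL ι F) : Matrix ι ι F) =
    Matrix.reindex e.symm e.symm (factorMat k d i ((B₀ : Matrix (Fin d) (Fin d) F) * M *
      ((B₀⁻¹ : GL (Fin d) F) : Matrix (Fin d) (Fin d) F))) := by
  have hPP' : ((P⁻¹ : GL ι F) : Matrix ι ι F) * (P : Matrix ι ι F) = 1 := by
    rw [← Units.val_mul, inv_mul_cancel, Units.val_one]
  have hinv : ((glReindex e.symm (ptGL k d (fun _ => B₀)) * P⁻¹)⁻¹ : GL ι F) =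
      P * glReindex e.symm (ptGL k d (fun _ => B₀))⁻¹ := by
    rw [_root_.mul_inv_rev, inv_inv, map_inv]
  have hco : ∀ Z : GL (Fin k → Fin d) F, ((glReindex e.symm Z : GL ι F) : Matrix ι ι F) =
      Matrix.reindex e.symm e.symm (Z : Matrix (Fin k → Fin d) (Fin k → Fin d) F) := fun Z => rfl
  rw [hinv, Units.val_mul, Units.val_mul, hco, hco, ← ptGL_conj (fun _ => B₀) i M]
  have hr : ∀ X Y : Matrix (Fin k → Fin d) (Fin k → Fin d) F,
      Matrix.reindex e.symm e.symm (X * Y) =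
        Matrix.reindex e.symm e.symm X * Matrix.reindex e.symm e.symm Y := by
    intro X Y
    simp only [Matrix.reindex_apply, Matrix.submatrix_mul_equiv]
  rw [hr, hr]
  calc Matrix.reindex e.symm e.symm
          ((ptGL k d (fun _ => B₀) : GL (Fin k → Fin d) F) :
            Matrix (Fin k → Fin d) (Fin k → Fin d) F) * ((P⁻¹ : GL ι F) : Matrix ι ι F) *
        ((P : Matrix ι ι F) * Matrix.reindex e.symm e.symm (factorMat k d i M) *
          ((P⁻¹ : GL ι F) : Matrix ι ι F)) *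
        ((P : Matrix ι ι F) * Matrix.reindex e.symm e.symm
          (((ptGL k d (fun _ => B₀))⁻¹ : GL (Fin k → Fin d) F) :
            Matrix (Fin k → Fin d) (Fin k → Fin d) F))
      = Matrix.reindex e.symm e.symm
          ((ptGL k d (fun _ => B₀) : GL (Fin k → Fin d) F) :
            Matrix (Fin k → Fin d) (Fin k → Fin d) F) *
          (((P⁻¹ : GL ι F) : Matrix ι ι F) * (P : Matrix ι ι F)) *
          Matrix.reindex e.symm e.symm (factorMat k d i M) *
          (((P⁻¹ : GL ι F) : Matrix ι ι F) * (P : Matrix ι ι F)) *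
          Matrix.reindex e.symm e.symm
          (((ptGL k d (fun _ => B₀))⁻¹ : GL (Fin k → Fin d) F) :
            Matrix (Fin k → Fin d) (Fin k → Fin d) F) := by simp only [mul_assoc]
    _ = _ := by rw [hPP', mul_one, mul_one]

end psi

/-- UP6 with the subfield package UP7a as a hypothesis -/
theorem UP6_aux [Fintype F] (n q : ℕ) (hF : Fintype.card F = q ^ 2) (hn : 3 ≤ n)
    (H N : Subgroup (GL (Fin n) F)) (hH : H ≤ GU n F q) (hNH : N ≤ H) (hnorm : NormalizesGrp H N)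
    (hperf : ⁅N, N⁆ = N) (hspan : spanAlg N = ⊤)
    (k : ℕ) (hk : 2 ≤ k) (S : Fin k → Subgroup (GL (Fin n) F)) (hSN : ∀ i, S i ≤ N)
    (hSnorm : ∀ i, NormalizesGrp N (S i)) (hSZ : ∀ i, ¬ S i ≤ scalars (Fin n) F)
    (hcomm : ∀ i j, i ≠ j → ∀ x ∈ S i, ∀ y ∈ S j, x * y = y * x) (hsup : ⨆ i, S i = N)
    (hperm : ∀ h ∈ H, ∃ π : Equiv.Perm (Fin k), ∀ i, ∀ x, x ∈ S i ↔ h * x * h⁻¹ ∈ S (π i))
    (htrans : ∀ i j, ∃ h ∈ H, ∀ x, x ∈ S i ↔ h * x * h⁻¹ ∈ S j)
    (hSmin : ∀ i, ∀ T : Subgroup (GL (Fin n) F), T ≤ S i → NormalizesGrp N T →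
      T = S i ∨ T ≤ scalars (Fin n) F)
    (hUP7a : ∀ F₀ : Subfield F, F₀ ≠ ⊤ → RealisableOver F₀ (matrixSet N) → InSUClass n q H) :
    InSUClass n q H := by
  classical
  haveI : Nonempty (Fin n) := ⟨⟨0, by omega⟩⟩
  have hq : q ≠ 0 := q_ne_zero hF
  have hperfS := factors_perfect H N hperf k S hSN hSnorm hSZ hcomm hsup htrans hSmin
  obtain ⟨i0, hi0⟩ : ∃ i0 : Fin k, i0 = ⟨0, by omega⟩ := ⟨_, rfl⟩
  obtain ⟨d, e, P, ψ, g, hd2, hle, hgH, hψ, hφ, hSi⟩ :=
    Cfsg.Agent.Lib.Helper54_AschSp_T1.T1 H N hspan k hk S hSN hSnorm hSZ hcomm hsup hperm htrans i0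
  have hSGU : ∀ i, S i ≤ GU n F q := fun i => le_trans (hSN i) (le_trans hNH hH)
  have hfS : IsSesq (sigmaQ hF) (hermForm n F q) := isSesq_hermForm n hF
  have hnd := hermForm_nondegenerate (F := F) n hF
  have hgiso : ∀ i (u v : Fin n → F),
      hermForm n F q ((g i : Matrix (Fin n) (Fin n) F) *ᵥ u) ((g i : Matrix (Fin n) (Fin n) F) *ᵥ v) =
        hermForm n F q u v :=
    fun i => (Cfsg.Agent.Lib.Helper13_GU.mem_GU_iff (g i)).1 (hH (hgH i))
  have hψadj : ∀ M : Matrix (Fin d) (Fin d) F, ∃ M' : Matrix (Fin d) (Fin d) F, ∀ u v : Fin n → F,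
      hermForm n F q (ψ M *ᵥ u) v = hermForm n F q u (ψ M' *ᵥ v) := by
    intro M
    have h1 : ψ M ∈ spanAlg (S i0) := (hψ _).2 ⟨M, rfl⟩
    obtain ⟨k', hk', hkk⟩ := adjointClosed_spanAlg hF (hSGU i0) _ h1
    obtain ⟨M', hM'⟩ := (hψ _).1 hk'
    exact ⟨M', fun u v => by rw [← hM']; exact hkk u v⟩
  obtain ⟨G₀, c, hG₀, hc, hform⟩ := F6c (sigmaQ hF) (hermForm n F q) hfS hnd k d (by omega) (by omega)
    e P ψ g hgiso hψadj hφ
  -- the hermitian rescaling
  have hG₀0 : G₀ ≠ 0 := by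
    rintro rfl
    haveI : Nonempty (Fin d) := ⟨⟨0, by omega⟩⟩
    rw [Matrix.det_zero] at hG₀
    exact not_isUnit_zero hG₀
  have hherm0 : ∀ a b : Fin k → Fin d,
      c * ∏ i, G₀ (a i) (b i) = (c * ∏ i, G₀ (b i) (a i)) ^ q := by
    intro a b
    have h1 := hform (Pi.single a 1) (Pi.single b 1)
    have h2 := hform (Pi.single b 1) (Pi.single a 1)
    rw [sum_sum_single (sigmaQ hF) (fun a b : Fin k → Fin d => ∏ i, G₀ (a i) (b i))] at h1 h2
    rw [hermForm_herm n hF, h2] at h1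
    exact h1.symm
  obtain ⟨mu, hmu0, hmu⟩ := exists_herm_scale hF (by omega : 0 < k) G₀ hG₀0 c hc hherm0
  obtain ⟨G₁, hG₁def⟩ : ∃ G₁ : Matrix (Fin d) (Fin d) F, G₁ = mu • G₀ := ⟨_, rfl⟩
  rw [← hG₁def] at hmu
  have hdet₁ : IsUnit G₁.det := by
    rw [hG₁def, Matrix.det_smul]
    exact (IsUnit.mk0 _ (pow_ne_zero _ hmu0)).mul hG₀
  obtain ⟨f₁, hf₁def⟩ : ∃ f₁ : (Fin d → F) → (Fin d → F) → F,
      f₁ = formOfGram (fun x : F => x ^ q) G₁ := ⟨_, rfl⟩
  have hf₁ : IsUnitaryFormPow q f₁ := by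
    rw [hf₁def]
    exact Cfsg.Agent.Lib.Helper10_AschSU_UP4F.isUnitaryFormPow_formOfGram hF G₁ hdet₁ hmu
  have hgram : gramMatrix f₁ = G₁ := by
    rw [hf₁def]
    exact Cfsg.Agent.Lib.Helper10_AschSU_UP4F.gramMatrix_formOfGram hq G₁
  have hstruct : IsTensorPowerFormStructure (fun x : F => x ^ q) (hermForm n F q) f₁ e P := by
    refine ⟨c * (mu ^ k)⁻¹, mul_ne_zero hc (inv_ne_zero (pow_ne_zero _ hmu0)), ?_⟩
    intro x y
    rw [hform, hgram, hG₁def, mul_assoc]
    congr 1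
    rw [Finset.mul_sum]
    apply Finset.sum_congr rfl
    intro a _
    rw [Finset.mul_sum]
    apply Finset.sum_congr rfl
    intro b _
    have h1 : ∏ i, (mu • G₀) (a i) (b i) = mu ^ k * ∏ i, G₀ (a i) (b i) := by
      simp only [Matrix.smul_apply, smul_eq_mul]
      rw [Finset.prod_mul_distrib, Finset.prod_const, Finset.card_univ, Fintype.card_fin]
    rw [h1, sigmaQ_apply]
    have h2 : mu ^ k ≠ 0 := pow_ne_zero _ hmu0
    field_simp
  -- class 7
  by_cases hA : 3 ≤ d ∧ ¬ (q = 2 ∧ d = 3)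
  · refine ⟨tensorWreathSubgroup d k e P ⊓ GU n F q, ?_, le_inf hle hH⟩
    exact Or.inr (Or.inr (Or.inr ⟨d, k, e, P, f₁, hA.1, hk, hA.2, hf₁, hstruct, rfl⟩))
  -- the factors consist of isometries of `f₁`
  have hfac : ∀ i, S i ≤ (isomGrp f₁).map (factorGL k d e P i) := by
    intro i x hx
    obtain ⟨M, hM⟩ := (hSi i _).1 (coe_mem_spanAlg hx)
    obtain ⟨M'', hM''⟩ := (hSi i _).1 (coe_mem_spanAlg ((S i).inv_mem hx))
    rw [← psiHom_apply] at hM hM''
    have h1 : M * M'' = 1 := by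
      apply psiHom_injective k d e P i
      rw [map_mul, map_one, ← hM, ← hM'', ← Units.val_mul, mul_inv_cancel, Units.val_one]
    have h2 : M'' * M = 1 := by
      apply psiHom_injective k d e P i
      rw [map_mul, map_one, ← hM, ← hM'', ← Units.val_mul, inv_mul_cancel, Units.val_one]
    have hadj : ∀ u v : Fin n → F,
        hermForm n F q (psiHom k d e P i M *ᵥ u) v = hermForm n F q u (psiHom k d e P i M'' *ᵥ v) := by
      intro u v
      rw [← hM, ← hM'']
      exact hermForm_mulVec_left (hSGU i hx) u v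
    have h3 : Mᵀ * G₀ * M.map (sigmaQ hF) = G₀ :=
      isom_factor hfS e P G₀ hG₀ c hc hform i M M'' h2 hadj
    have h4 : Mᵀ * G₁ * M.map (sigmaQ hF) = G₁ := by
      rw [hG₁def, Matrix.mul_smul, Matrix.smul_mul, h3]
    refine ⟨⟨M, M'', h1, h2⟩, ?_, ?_⟩
    · intro u v
      rw [hf₁def]
      exact formOfGram_isom (sigmaQ hF) G₁ M h4 u v
    · apply Units.ext
      exact hM.symm
  -- ... of determinant one
  have hfac1 : ∀ i, S i ≤ (isomGrp f₁ ⊓ (Matrix.GeneralLinearGroup.det (n := Fin d) (R := F)).ker).map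
      (factorGL k d e P i) := by
    intro i
    have h1 : ⁅S i, S i⁆ ≤ ⁅(isomGrp f₁).map (factorGL k d e P i),
        (isomGrp f₁).map (factorGL k d e P i)⁆ := Subgroup.commutator_mono (hfac i) (hfac i)
    rw [← Subgroup.map_commutator, hperfS i] at h1
    refine le_trans h1 (Subgroup.map_mono ?_)
    rw [Subgroup.commutator_le]
    intro a ha b hb
    refine Subgroup.mem_inf.2 ⟨(isomGrp f₁).mul_mem ((isomGrp f₁).mul_mem ((isomGrp f₁).mul_mem ha hb)
      ((isomGrp f₁).inv_mem ha)) ((isomGrp f₁).inv_mem hb), ?_⟩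
    rw [MonoidHom.mem_ker, map_commutatorElement]
    exact commutatorElement_eq_one_iff_commute.2 (Commute.all _ _)
  have hd23 : d = 2 ∨ (q = 2 ∧ d = 3) := by
    by_cases h3 : 3 ≤ d
    · right
      by_contra hcon
      exact hA ⟨h3, hcon⟩
    · left
      omega
  rcases hd23 with rfl | ⟨rfl, rfl⟩
  · -- factors of dimension 2: realisable over the fixed field
    obtain ⟨B₀, hB₀⟩ := Cfsg.Agent.Lib.Helper89_AschSU_SU2Q.SU2Q q hF f₁ hf₁
    apply hUP7a (Cfsg.Agent.Lib.Helper32_OrthOdd_OP7b.fixF (sigmaQ hF))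
      (Cfsg.Agent.Lib.Helper32_OrthOdd_OP7b.fixF_ne_top _ (sigmaQ_ne_refl hF))
    refine ⟨glReindex e.symm (ptGL k 2 (fun _ => B₀)) * P⁻¹, ?_⟩
    rintro s ⟨y, hy, rfl⟩
    have hy' : y ∈ ⨆ i, S i := by rw [hsup]; exact hy
    refine realisable_iSup _ _ S ?_ y hy'
    intro i x hx a b
    obtain ⟨Mu, ⟨hMu, hdet⟩, rfl⟩ := hfac1 i hx
    rw [factorGL_coe, conj_factor]
    rw [Cfsg.Agent.Lib.Helper32_OrthOdd_OP7b.mem_fixF, sigmaQ_apply]
    have hdet1 : (Mu : Matrix (Fin 2) (Fin 2) F).det = 1 := by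
      have h1 := MonoidHom.mem_ker.1 hdet
      have h2 := congrArg (fun u : Fˣ => (u : F)) h1
      simpa using h2
    have h5 := hB₀ Mu ((mem_isomGrp f₁ Mu).1 hMu) hdet1
    rw [Matrix.reindex_apply, Matrix.submatrix_apply, factorMat]
    split_ifs
    · have h6 := h5 ((e.symm.symm a) i) ((e.symm.symm b) i)
      rw [Units.val_mul, Units.val_mul] at h6
      exact h6
    · exact zero_pow hq
  · -- factors of dimension 3 over the field with 4 elements: solvable
    exfalso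
    obtain ⟨B₁, hB₁⟩ := Cfsg.Agent.Lib.Helper87_AschSU_UPH.UPH 2 hF 3 f₁ hf₁
    haveI hsolGU : Group.IsSolvable (GU 3 F 2) := Cfsg.Agent.Lib.Helper59_AschSU_GU32.isSolvable_GU32 hF
    have hJ : isomGrp f₁ ≤ (GU 3 F 2).map (MulAut.conj B₁).toMonoidHom := by
      intro Mu hMu
      refine ⟨B₁⁻¹ * Mu * B₁, ?_, ?_⟩
      · rw [SetLike.mem_coe, Cfsg.Agent.Lib.Helper13_GU.mem_GU_iff]
        intro u v
        rw [← hB₁, Matrix.mulVec_mulVec, Matrix.mulVec_mulVec, ← Units.val_mul]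
        have h1 : B₁ * (B₁⁻¹ * Mu * B₁) = Mu * B₁ := by group
        rw [h1, Units.val_mul, ← Matrix.mulVec_mulVec, ← Matrix.mulVec_mulVec,
          (mem_isomGrp f₁ Mu).1 hMu, hB₁]
      · show B₁ * (B₁⁻¹ * Mu * B₁) * B₁⁻¹ = Mu
        group
    haveI hsolJ : Group.IsSolvable (isomGrp f₁) :=
      Cfsg.Agent.Lib.Helper54_OrthOdd_F3.isSolvable_of_le_map _ (GU 3 F 2) _ hJ
    haveI hsolS : Group.IsSolvable (S i0) :=
      Cfsg.Agent.Lib.Helper54_OrthOdd_F3.isSolvable_of_le_map _ (isomGrp f₁) _ (hfac i0)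
    have hbot := Cfsg.Agent.Lib.Helper54_OrthOdd_OP6.eq_bot_of_perfect (S i0) (hperfS i0)
    apply hSZ i0
    rw [hbot]
    exact bot_le

end Cfsg.Agent.Lib.Helper54_AschSU_UP6b
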