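import Mathlib
import Cfsg.Agent.Lib.Helper98_AschDefs
import Cfsg.Agent.Lib.Helper23_FormDefs
import Cfsg.Agent.Lib.Helper97_SUDefs
import Cfsg.Agent.Lib.Helper54_AschSU_UP6b
import Cfsg.Agent.Lib.Helper23_AschSU_UP7a

/-!
# Package UP6 of S5663 (helper97's cut)

At least two commuting conjugate perfect factors in a unitary group: class 7, or class 5 when the
factors have dimension 2 (`Helper54_AschSU_UP6b.UP6_aux` with helper23's subfield package UP7a).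
-/

set_option autoImplicit false

namespace Cfsg.Agent.Lib.Helper54_AschSU_UP6

open Cfsg Cfsg.Geo Matrix Cfsg.Agent.Lib.Helper98_AschDefs Cfsg.Agent.Lib.Helper23_FormDefs
open Cfsg.Agent.Lib.Helper97_SUDefs
open scoped Kronecker

variable {F : Type*} [Field F]

/-- UP6: at least two commuting conjugate perfect factors: class 7 (or 5 for factors of dimension 2) -/
theorem UP6 [Fintype F] (n q : ℕ) (hF : Fintype.card F = q ^ 2) (hn : 3 ≤ n)
    (H N : Subgroup (GL (Fin n) F)) (hH : H ≤ GU n F q) (hNH : N ≤ H) (hnorm : NormalizesGrp H N)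
    (hperf : ⁅N, N⁆ = N) (hspan : spanAlg N = ⊤)
    (k : ℕ) (hk : 2 ≤ k) (S : Fin k → Subgroup (GL (Fin n) F)) (hSN : ∀ i, S i ≤ N)
    (hSnorm : ∀ i, NormalizesGrp N (S i)) (hSZ : ∀ i, ¬ S i ≤ scalars (Fin n) F)
    (hcomm : ∀ i j, i ≠ j → ∀ x ∈ S i, ∀ y ∈ S j, x * y = y * x) (hsup : ⨆ i, S i = N)
    (hperm : ∀ h ∈ H, ∃ π : Equiv.Perm (Fin k), ∀ i, ∀ x, x ∈ S i ↔ h * x * h⁻¹ ∈ S (π i))
    (htrans : ∀ i j, ∃ h ∈ H, ∀ x, x ∈ S i ↔ h * x * h⁻¹ ∈ S j)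
    (hSmin : ∀ i, ∀ T : Subgroup (GL (Fin n) F), T ≤ S i → NormalizesGrp N T →
      T = S i ∨ T ≤ scalars (Fin n) F) :
    InSUClass n q H :=
  Cfsg.Agent.Lib.Helper54_AschSU_UP6b.UP6_aux n q hF hn H N hH hNH hnorm hperf hspan k hk S hSN
    hSnorm hSZ hcomm hsup hperm htrans hSmin
    (fun F₀ hF₀ hreal => Cfsg.Agent.Lib.Helper23_AschSU_UP7a.UP7a n q hF hn H N hH
      (le_trans hNH hH) hnorm hspan F₀ hF₀ hreal)

end Cfsg.Agent.Lib.Helper54_AschSU_UP6
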