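import Mathlib
import Cfsg.Prelude.Def_CaseTheorems
import Cfsg.Agent.Lib.Helper2_Coprime
import Cfsg.Agent.Lib.Helper22_Hyperplane

/-!
# The "eigenline" lemma for the proof of Bender-Glauberman 9.5 (helper54)

`exists_line`: an abelian `p`-group `A` of `p`-rank at least 3 normalizing an abelian subgroup `V` of
order prime to `p` which it does not centralize has a minimal invariant subgroup `E ≤ V` with
`⁅E, A⁆ = E ≠ ⊥` and such that `C_A(E)` has `p`-rank at least 2.
-/

set_option autoImplicit false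

namespace Cfsg.Agent.Lib.Helper54_BGLine

open Subgroup

variable {G : Type*} [Group G]

/-- an abelian group normalizing `E` normalizes `E ⊓ C(b)` for each of its elements `b` -/
theorem le_normalizer_inf_centralizer_singleton {A E : Subgroup G}
    (hAc : ∀ a ∈ A, ∀ b ∈ A, a * b = b * a) (hAE : A ≤ normalizer (E : Set G)) {b : G} (hb : b ∈ A) :
    A ≤ normalizer ((E ⊓ centralizer ({b} : Set G) : Subgroup G) : Set G) := by
  intro a ha
  have h := Cfsg.Agent.Lib.Helper22_Hyperplane.mem_normalizer_inf_centralizer (X := E) (D := zpowers b)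
    (a := a) (hAE ha) (by
      intro d hd
      obtain ⟨k, rfl⟩ := mem_zpowers_iff.mp hd
      have hc : Commute a b := hAc a ha b hb
      exact (hc.zpow_right k).eq)
  have heq : centralizer ((zpowers b : Subgroup G) : Set G) = centralizer ({b} : Set G) := by
    ext x
    rw [mem_centralizer_iff, mem_centralizer_iff]
    constructor
    · intro hx y hy
      rw [Set.mem_singleton_iff] at hy
      subst hy
      exact hx y (mem_zpowers y)
    · intro hx y hy
      obtain ⟨k, rfl⟩ := mem_zpowers_iff.mp hy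
      have hc : Commute b x := hx b rfl
      exact (hc.zpow_left k).eq
  rwa [heq] at h

variable [Finite G]

/-- a nontrivial `A`-invariant subgroup contains a minimal nontrivial `A`-invariant subgroup -/
theorem exists_minimal_invariant (A W : Subgroup G) (hW : W ≠ ⊥) (hAW : A ≤ normalizer (W : Set G)) :
    ∃ E : Subgroup G, E ≤ W ∧ E ≠ ⊥ ∧ A ≤ normalizer (E : Set G) ∧
      ∀ F : Subgroup G, F ≤ E → A ≤ normalizer (F : Set G) → F = ⊥ ∨ F = E := by
  classical
  have key : ∀ n : ℕ, ∀ W : Subgroup G, Nat.card W = n → W ≠ ⊥ → A ≤ normalizer (W : Set G) →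
      ∃ E : Subgroup G, E ≤ W ∧ E ≠ ⊥ ∧ A ≤ normalizer (E : Set G) ∧
        ∀ F : Subgroup G, F ≤ E → A ≤ normalizer (F : Set G) → F = ⊥ ∨ F = E := by
    intro n
    induction n using Nat.strong_induction_on with
    | _ n ih =>
      intro W hn hW hAW
      by_cases hmin : ∀ F : Subgroup G, F ≤ W → A ≤ normalizer (F : Set G) → F = ⊥ ∨ F = W
      · exact ⟨W, le_rfl, hW, hAW, hmin⟩
      · push Not at hmin
        obtain ⟨F, hFW, hAF, hF1, hF2⟩ := hmin
        have hlt : F < W := lt_of_le_of_ne hFW hF2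
        have hcard : Nat.card F < n := by
          rw [← hn]
          have hle := Subgroup.card_le_of_le hlt.le
          rcases hle.lt_or_eq with h1 | h1
          · exact h1
          · exact absurd (Subgroup.eq_of_le_of_card_ge hlt.le h1.ge) hlt.ne
        obtain ⟨E, hEF, hE, hAE, hEmin⟩ := ih _ hcard F rfl hF1 hAF
        exact ⟨E, hEF.trans hFW, hE, hAE, hEmin⟩
  exact key _ W rfl hW hAW

variable {p : ℕ} [Fact p.Prime]

theorem exists_line (A V : Subgroup G) (hAc : ∀ a ∈ A, ∀ b ∈ A, a * b = b * a)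
    (hAp : IsPGroup p A) (hA3 : ¬ Cfsg.PRankLE p 2 ↥A)
    [IsMulCommutative V] (hcop : (Nat.card A).Coprime (Nat.card V))
    (hAV : A ≤ normalizer (V : Set G)) (hVA : ¬ A ≤ centralizer (V : Set G)) :
    ∃ E : Subgroup G, E ≤ V ∧ E ≠ ⊥ ∧ A ≤ normalizer (E : Set G) ∧ ⁅E, A⁆ = E ∧
      (∀ F : Subgroup G, F ≤ E → A ≤ normalizer (F : Set G) → F = ⊥ ∨ F = E) ∧
      ¬ Cfsg.PRankLE p 1 ↥(A ⊓ centralizer (E : Set G)) := by
  classical
  have hpp : p.Prime := Fact.out
  -- W = [V, A] is nontrivial and A-invariant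
  have hWne : ⁅V, A⁆ ≠ ⊥ := by
    intro h
    apply hVA
    rw [Subgroup.commutator_eq_bot_iff_le_centralizer] at h
    exact Subgroup.le_centralizer_iff.mp h
  have hAW : A ≤ normalizer ((⁅V, A⁆ : Subgroup G) : Set G) := by
    intro a ha
    rw [mem_normalizer_iff]
    intro x
    have hconj : ∀ (a : G), a ∈ A → ∀ x ∈ ⁅V, A⁆, a * x * a⁻¹ ∈ ⁅V, A⁆ := by
      intro a ha x hx
      have hmap : (⁅V, A⁆).map (MulAut.conj a).toMonoidHom ≤ ⁅V, A⁆ := by
        rw [Subgroup.map_commutator]
        apply Subgroup.commutator_mono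
        · rintro _ ⟨v, hv, rfl⟩
          exact (mem_normalizer_iff.mp (hAV ha) v).mp hv
        · rintro _ ⟨b, hb, rfl⟩
          exact A.mul_mem (A.mul_mem ha hb) (A.inv_mem ha)
      exact hmap ⟨x, hx, rfl⟩
    constructor
    · exact hconj a ha x
    · intro h
      have := hconj a⁻¹ (A.inv_mem ha) _ h
      simpa [mul_assoc] using this
  have hWV : ⁅V, A⁆ ≤ V := Cfsg.Agent.Lib.Helper2_Coprime.commutator_le_of_le_normalizer V A hAV
  obtain ⟨E, hEW, hE, hAE, hEmin⟩ := exists_minimal_invariant A ⁅V, A⁆ hWne hAW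
  have hEV : E ≤ V := hEW.trans hWV
  -- [E, A] = E
  have hEA_le : ⁅E, A⁆ ≤ E := by
    rw [Subgroup.commutator_le]
    intro e he a ha
    rw [commutatorElement_def]
    have h1 : a * e⁻¹ * a⁻¹ ∈ E := (mem_normalizer_iff.mp (hAE ha) e⁻¹).mp (E.inv_mem he)
    have := E.mul_mem he h1
    simpa [mul_assoc] using this
  have hAEA : A ≤ normalizer ((⁅E, A⁆ : Subgroup G) : Set G) := by
    intro a ha
    rw [mem_normalizer_iff]
    intro x
    have hconj : ∀ (a : G), a ∈ A → ∀ x ∈ ⁅E, A⁆, a * x * a⁻¹ ∈ ⁅E, A⁆ := by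
      intro a ha x hx
      have hmap : (⁅E, A⁆).map (MulAut.conj a).toMonoidHom ≤ ⁅E, A⁆ := by
        rw [Subgroup.map_commutator]
        apply Subgroup.commutator_mono
        · rintro _ ⟨v, hv, rfl⟩
          exact (mem_normalizer_iff.mp (hAE ha) v).mp hv
        · rintro _ ⟨b, hb, rfl⟩
          exact A.mul_mem (A.mul_mem ha hb) (A.inv_mem ha)
      exact hmap ⟨x, hx, rfl⟩
    constructor
    · exact hconj a ha x
    · intro h
      have := hconj a⁻¹ (A.inv_mem ha) _ h
      simpa [mul_assoc] using this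
  have hEAeq : ⁅E, A⁆ = E := by
    rcases hEmin ⁅E, A⁆ hEA_le hAEA with h | h
    · exfalso
      rw [Subgroup.commutator_eq_bot_iff_le_centralizer] at h
      have hbot := Cfsg.Agent.Lib.Helper2_Coprime.commutator_inf_centralizer_eq_bot V A hAV hcop
      apply hE
      rw [eq_bot_iff, ← hbot]
      exact le_inf hEW (le_inf hEV h)
    · exact h
  refine ⟨E, hEV, hE, hAE, hEAeq, hEmin, ?_⟩
  -- the rank of C_A(E)
  intro hrank
  apply hA3
  intro B hBc hBp
  -- B' = image of B in G
  set B' : Subgroup G := B.map A.subtype with hB'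
  have hB'A : B' ≤ A := by
    rintro _ ⟨b, -, rfl⟩
    exact b.2
  have hB'c : ∀ a ∈ B', ∀ b ∈ B', a * b = b * a := fun a ha b hb => hAc a (hB'A ha) b (hB'A hb)
  have hB'p : ∀ a ∈ B', a ^ p = 1 := by
    rintro _ ⟨b, hb, rfl⟩
    have := hBp b hb
    simpa using congrArg Subtype.val this
  have hcardB : Nat.card B' = Nat.card B :=
    Nat.card_congr (B.equivMapOfInjective A.subtype A.subtype_injective).symm.toEquiv
  -- E is a p'-group
  have hEp : ¬ p ∣ Nat.card E := by
    intro h
    have h1 : p ∣ Nat.card V := h.trans (Subgroup.card_dvd_of_le hEV)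
    have hA1 : Nat.card A ≠ 1 := by
      intro h1A
      apply hVA
      have : A = ⊥ := Subgroup.card_eq_one.mp h1A
      rw [this]
      exact bot_le
    obtain ⟨n, hn⟩ := IsPGroup.iff_card.mp hAp
    have hn0 : n ≠ 0 := by
      rintro rfl
      exact hA1 (by simpa using hn)
    have h2 : p ∣ Nat.card A := by
      rw [hn]
      exact dvd_pow_self p hn0
    have h3 : p ∣ Nat.gcd (Nat.card A) (Nat.card V) := Nat.dvd_gcd h2 h1
    rw [hcop.gcd_eq_one] at h3
    exact hpp.one_lt.ne' (Nat.dvd_one.mp h3)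
  have hgen := Cfsg.Agent.Lib.Helper22_Hyperplane.le_iSup_centralizer_hyperplanes p B' E hB'c hB'p hEp
    (hB'A.trans hAE)
  -- some hyperplane H has nontrivial fixed points on E
  have hex : ∃ H : {H : Subgroup G // H ≤ B' ∧ H.relIndex B' ≤ p},
      E ⊓ centralizer ((H : Subgroup G) : Set G) ≠ ⊥ := by
    by_contra hno
    push Not at hno
    apply hE
    rw [eq_bot_iff]
    refine hgen.trans ?_
    apply iSup_le
    intro H
    rw [hno H]
  obtain ⟨⟨H, hHB, hHidx⟩, hHne⟩ := hex
  have hHcent : H ≤ A ⊓ centralizer (E : Set G) := by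
    intro h hh
    have hhA : h ∈ A := hB'A (hHB hh)
    refine ⟨hhA, ?_⟩
    have hinv := le_normalizer_inf_centralizer_singleton hAc hAE hhA
    have hsub : E ⊓ centralizer ((H : Subgroup G) : Set G) ≤ E ⊓ centralizer ({h} : Set G) := by
      apply inf_le_inf_left
      apply Subgroup.centralizer_le
      intro x hx
      rw [Set.mem_singleton_iff] at hx
      subst hx
      exact hh
    rcases hEmin (E ⊓ centralizer ({h} : Set G)) inf_le_left hinv with h0 | h0
    · exfalso
      apply hHne
      rw [eq_bot_iff, ← h0]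
      exact hsub
    · show h ∈ centralizer (E : Set G)
      rw [mem_centralizer_iff]
      intro e he
      have he' : e ∈ E ⊓ centralizer ({h} : Set G) := by rw [h0]; exact he
      have := (mem_centralizer_iff.mp he'.2) h rfl
      exact this.symm
  -- the rank bound on H
  have hHcard : Nat.card H ≤ p ^ 1 := by
    have h1 := hrank (H.subgroupOf (A ⊓ centralizer (E : Set G)))
      ⟨⟨fun x y => by
        apply Subtype.ext
        apply Subtype.ext
        have hx : ((x : ↥(A ⊓ centralizer (E : Set G))) : G) ∈ B' := hHB (mem_subgroupOf.mp x.2)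
        have hy : ((y : ↥(A ⊓ centralizer (E : Set G))) : G) ∈ B' := hHB (mem_subgroupOf.mp y.2)
        simpa using hB'c _ hx _ hy⟩⟩
      (by
        intro a ha
        apply Subtype.ext
        have hx : (a : G) ∈ B' := hHB (mem_subgroupOf.mp ha)
        simpa using hB'p _ hx)
    have h2 : Nat.card (H.subgroupOf (A ⊓ centralizer (E : Set G))) = Nat.card H :=
      Nat.card_congr (Subgroup.subgroupOfEquivOfLe hHcent).toEquiv
    rwa [h2] at h1
  have hmul := Cfsg.Agent.Lib.Helper22_Hyperplane.card_mul_relIndex hHB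
  rw [← hcardB, ← hmul]
  calc Nat.card H * H.relIndex B' ≤ p ^ 1 * p := Nat.mul_le_mul hHcard hHidx
    _ = p ^ 2 := by ring

end Cfsg.Agent.Lib.Helper54_BGLine
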