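import Mathlib
import Cfsg.Prelude.Def_Solvable
import Cfsg.Prelude.Def_Transfer
import Cfsg.Agent.Lib.Helper51_CMDefs

/-!
S3905 market (architect helper51), package CM-D3B: index arithmetic.  If `T` is normal with `T ⊓ P = O_p`,
`T ⊔ P = ⊤` and `H ⊔ T = ⊤`, then `H` contains a `p`-subgroup `S` whose order is divisible by `[P : O_p]`.
-/

set_option autoImplicit false
open Cfsg Cfsg.Agent.Lib.Helper51_CMDefs

namespace Cfsg.Agent.Lib.Helper54_CM_D3B

variable {G Γ : Type*} [Group G] [Group Γ] {ρ : G →* MulAut Γ}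

/-- CM-D3B. -/
theorem exists_S [Finite Γ] {p : ℕ} [Fact p.Prime] (P : Sylow p Γ) (T H : Subgroup Γ) [T.Normal]
    (hTP : T ⊓ (P : Subgroup Γ) = Op P) (hsup : T ⊔ (P : Subgroup Γ) = ⊤) (hHT : H ⊔ T = ⊤) :
    ∃ S : Subgroup Γ, S ≤ H ∧ IsPGroup p S ∧ (Op P).relIndex (P : Subgroup Γ) ∣ Nat.card S := by
  have hp : p.Prime := Fact.out
  -- `[P : O_p] = [Γ : T]`
  have h1 : (Op P).relIndex (P : Subgroup Γ) = T.index := by
    rw [← hTP, Subgroup.inf_relIndex_right, ← Subgroup.relIndex_sup_left (P : Subgroup Γ) T, hsup,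
      Subgroup.relIndex_top_right]
  -- it is a power of `p`
  obtain ⟨k, hk⟩ := (IsPGroup.iff_card.1 P.isPGroup')
  have h2 : (Op P).relIndex (P : Subgroup Γ) ∣ p ^ k := by
    rw [← hk]
    exact Subgroup.relIndex_dvd_card _ _
  obtain ⟨a, _, ha⟩ := (Nat.dvd_prime_pow hp).1 h2
  -- it divides `|H|`
  have h3 : T.index ∣ Nat.card H := by
    rw [← Subgroup.relIndex_top_right, ← hHT, Subgroup.relIndex_sup_right H T]
    exact Subgroup.relIndex_dvd_card _ _
  have h4 : p ^ a ∣ Nat.card H := by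
    rw [← ha, h1]
    exact h3
  obtain ⟨K, hK⟩ := Sylow.exists_subgroup_card_pow_prime p h4
  refine ⟨K.map H.subtype, ?_, ?_, ?_⟩
  · rintro x ⟨y, _, rfl⟩
    exact y.2
  · apply IsPGroup.of_card (n := a)
    rw [Subgroup.card_map_of_injective H.subtype_injective, hK]
  · rw [Subgroup.card_map_of_injective H.subtype_injective, hK, ha]

end Cfsg.Agent.Lib.Helper54_CM_D3B
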