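import Cfsg.Agent.Lib.Helper54_E8C_BADJCore

set_option autoImplicit false
set_option linter.unusedVariables false

/-!
E8C market (architect helper4, statement S5751): the core of the package BAD1, parametrised by the certificate of
the datum `E₈`, by the statements of the packages WORD, WORDT, PTRI and by table facts.

If `u ∈ Q 1` and `n u n⁻¹ ∈ P_J` for `n = n_{p₄}`, then the coordinate of `u` at `p₄` vanishes.
-/

namespace Cfsg.Agent.Lib.Helper54_E8C_BAD1Core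

open Cfsg Cfsg.Lie Cfsg.Agent.Lib.Helper18_MatTri Cfsg.Agent.Lib.Helper18_ChevTri
  Cfsg.Agent.Lib.Helper4_E8Defs Cfsg.Agent.Lib.Helper18_ChevWeyl Cfsg.Agent.Lib.Helper18_ChevGL
  Cfsg.Agent.Lib.Helper18_ChevUni Cfsg.Agent.Lib.Helper18_ChevN Cfsg.Agent.Lib.Helper18_ChevLevi
  Cfsg.Agent.Lib.Helper18_ChevEngine Cfsg.Agent.Lib.Helper54_E8C_BADJCore

theorem grIdx_inr_eq {D : ChevalleyDatum} (g : ℕ → ℤ) (s : Fin D.nroots) :
    grIdx D g (Sum.inr s) = g s.val := rfl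

theorem grIdx_inl_eq {D : ChevalleyDatum} (g : ℕ → ℤ) (i : Fin D.rank) :
    grIdx D g (Sum.inl i) = 0 := rfl

theorem wordGL_append {Ns : List NData} (c : DCert D8 Ns) (a b : List (ℕ × F2)) :
    wordGL c (a ++ b) = wordGL c a * wordGL c b := by
  unfold wordGL
  rw [List.map_append, List.prod_append]

/-- BAD1, with the certificate, the packages WORD, WORDT, PTRI and the table facts as hypotheses; `p` is the root
`p₄`, `q` its negative. -/
theorem tco_bad_one_core {Ns : List NData} (c : DCert D8 Ns)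
    (hWORD : ∀ (j : ℕ) (hj : 1 ≤ j) (u : GLE) (hu : u ∈ Q j),
      ∃ t : ℕ → F2, (u : Matrix D8.Idx D8.Idx F2) = D8.wordMat F2 ((lvRoots j).map fun r => (r, t r)))
    (hWORDT : ∀ (j : ℕ) (hj : 1 ≤ j) (L : List ℕ) (hL : L.Nodup)
      (hLj : ∀ r ∈ L, r < 240 ∧ (j : ℤ) ≤ lv r) (t : ℕ → F2) (u : GLE)
      (hu : (u : Matrix D8.Idx D8.Idx F2) = D8.wordMat F2 (L.map fun r => (r, t r)))
      (s : ℕ) (hs : s < 240) (hlv : lv s = j), tco s u = if s ∈ L then t s else 0)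
    (hPTRI : PJ ≤ T 0)
    (p q : ℕ) (hp : D8.IsPosRoot p) (hlp : lv p = 1) (hpq : D8.reflectRoot 3 p = q)
    (hq : q < D8.nroots) (hlq : lv q = -1)
    (hodd : ((D8.cartanSR.getD 2 #[]).getD q 0) % 2 = 1)
    (hrefl : ∀ a < 240, D8.IsPosRoot a → a ≠ p → D8.IsPosRoot (D8.reflectRoot 3 a))
    (n : GLE) (hn : n = nGL c 3) (u : GLE) (hu : u ∈ Q 1) (hu' : n * u * n⁻¹ ∈ PJ) :
    tco p u = 0 := by
  have h3 : 3 < D8.rank := by decide
  obtain ⟨t, hut⟩ := hWORD 1 (le_refl 1) u hu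
  have hLj : ∀ r ∈ lvRoots 1, r < 240 ∧ ((1 : ℕ) : ℤ) ≤ lv r := by
    intro r hr
    have := (mem_lvRoots 1 r).1 hr
    exact ⟨this.1.1, this.2⟩
  have hLnd := nodup_lvRoots 1
  have hpL : p ∈ lvRoots 1 := (mem_lvRoots 1 p).2 ⟨hp, by rw [hlp]; norm_num⟩
  have hp240 : p < 240 := hp.1
  have h1 : tco p u = t p := by
    rw [hWORDT 1 (le_refl 1) (lvRoots 1) hLnd hLj t u hut p hp240 (by rw [hlp]; norm_num), if_pos hpL]
  -- the conjugate of `u`
  have hu_eq : u = wordGL c ((lvRoots 1).map fun r => (r, t r)) := eq_wordGL c hut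
  have hconj : n * u * n⁻¹ = wordGL c ((lvRoots 1).map fun r => (D8.reflectRoot 3 r, t r)) := by
    rw [hu_eq, hn]
    exact conj_word c 3 h3 t (lvRoots 1) (fun r hr => (hLj r hr).1)
  -- split the word at `p`
  obtain ⟨L₁, L₂, hL⟩ := List.append_of_mem hpL
  rw [hL] at hLnd hconj
  have hnd1 : p ∉ L₁ := by
    intro h
    have := (List.nodup_append.mp hLnd).2.2 p h p (List.mem_cons_self ..)
    exact this rfl
  have hnd2 : p ∉ L₂ := by
    have := (List.nodup_append.mp hLnd).2.1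
    exact (List.nodup_cons.mp this).1
  have hmem1 : ∀ a ∈ L₁, a ∈ lvRoots 1 := by
    intro a ha
    rw [hL]
    exact List.mem_append_left _ ha
  have hmem2 : ∀ a ∈ L₂, a ∈ lvRoots 1 := by
    intro a ha
    rw [hL]
    exact List.mem_append_right _ (List.mem_cons_of_mem _ ha)
  have hA : ∀ L' : List ℕ, (∀ a ∈ L', a ∈ lvRoots 1) → p ∉ L' →
      wordGL c (L'.map fun r => (D8.reflectRoot 3 r, t r)) ∈ PJ := by
    intro L' hL' hpL'
    apply wordGL_mem c PJ
    intro x hx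
    rw [List.mem_map] at hx
    obtain ⟨a, ha, rfl⟩ := hx
    have haL := (mem_lvRoots 1 a).1 (hL' a ha)
    have hap : a ≠ p := fun h => hpL' (h ▸ ha)
    exact xGL_pos_mem_parabolic J3 c _ (hrefl a haL.1.1 haL.1 hap) (t a)
  rw [List.map_append, List.map_cons, wordGL_append, wordGL_cons, hpq] at hconj
  set A := wordGL c (L₁.map fun r => (D8.reflectRoot 3 r, t r)) with hAdef
  set A' := wordGL c (L₂.map fun r => (D8.reflectRoot 3 r, t r)) with hA'def
  have hX : xGL c q (t p) ∈ PJ := by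
    have e : xGL c q (t p) = A⁻¹ * (n * u * n⁻¹) * A'⁻¹ := by
      rw [hconj]
      group
    rw [e]
    exact Subgroup.mul_mem _ (Subgroup.mul_mem _ (Subgroup.inv_mem _ (hA L₁ hmem1 hnd1)) hu')
      (Subgroup.inv_mem _ (hA L₂ hmem2 hnd2))
  have hXT : Raises (grIdx D8 lv) 0 (D8.x F2 q (t p) - 1) := hPTRI hX
  have h2r : 2 < D8.rank := by decide
  have hent := hXT (Sum.inr ⟨q, hq⟩) (Sum.inl ⟨2, h2r⟩) (by
    rw [grIdx_inr_eq, grIdx_inl_eq, hlq]
    norm_num)
  rw [Matrix.sub_apply, Matrix.one_apply_ne (by simp), sub_zero] at hent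
  unfold ChevalleyDatum.x at hent
  rw [dif_pos hq, xMat_inr_inl, if_pos rfl] at hent
  have hc : (((D8.cartanSR.getD 2 #[]).getD q 0 : ℤ) : F2) = 1 := by
    have h2 : (D8.cartanSR.getD 2 #[]).getD q 0 = 2 * ((D8.cartanSR.getD 2 #[]).getD q 0 / 2) + 1 := by omega
    rw [h2]
    push_cast
    have h20 : (2 : F2) = 0 := by decide
    rw [h20, zero_mul, zero_add]
  simp only [] at hent
  rw [hc] at hent
  have h11 : (-(1 : F2)) = 1 := by decide
  rw [h11, one_mul] at hent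
  rw [h1, hent]

end Cfsg.Agent.Lib.Helper54_E8C_BAD1Core
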