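import Cfsg.Agent.Lib.Helper4_E8Defs

set_option autoImplicit false
set_option linter.unusedVariables false

/-!
E8C market (architect helper4, statement S5751): the core of the package BADJ, parametrised by the certificate of
the datum `E₈`, by the statements of the packages WORD, WORDT, QTRI, TADD, and by two table facts.

If `u ∈ Q j` (`j ≥ 2`) and `n u n⁻¹ ∈ Q j` for `n = n_{p₄}`, then the coordinate of `u` at every positive root `b` of
level `j` with `A_{p₄,b} = 1` vanishes.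
-/

namespace Cfsg.Agent.Lib.Helper54_E8C_BADJCore

open Cfsg Cfsg.Lie Cfsg.Agent.Lib.Helper18_MatTri Cfsg.Agent.Lib.Helper18_ChevTri
  Cfsg.Agent.Lib.Helper4_E8Defs Cfsg.Agent.Lib.Helper18_ChevWeyl Cfsg.Agent.Lib.Helper18_ChevGL
  Cfsg.Agent.Lib.Helper18_ChevUni Cfsg.Agent.Lib.Helper18_ChevN

/-- Over the field with two elements the signs are trivial. -/
theorem eta_cast_F2 {e : ℤ} (h : e = 1 ∨ e = -1) : ((e : ℤ) : F2) = 1 := by
  rcases h with h | h
  · rw [h]; simp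
  · rw [h]; decide

/-- Conjugation of a word by `n_i`, over the field with two elements. -/
theorem conj_word {Ns : List NData} (c : DCert D8 Ns) (i : ℕ) (hi : i < D8.rank) (t : ℕ → F2) :
    ∀ L : List ℕ, (∀ r ∈ L, r < D8.nroots) →
      nGL c i * wordGL c (L.map fun r => (r, t r)) * (nGL c i)⁻¹ =
        wordGL c (L.map fun r => (D8.reflectRoot i r, t r)) := by
  intro L
  induction L with
  | nil =>
    intro _
    rw [List.map_nil, List.map_nil, wordGL_nil, mul_one, mul_inv_cancel]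
  | cons a L ih =>
    intro hL
    have ha : a < D8.nroots := hL a (List.mem_cons_self ..)
    have hL' : ∀ r ∈ L, r < D8.nroots := fun r hr => hL r (List.mem_cons_of_mem _ hr)
    rw [List.map_cons, List.map_cons, wordGL_cons, wordGL_cons, ← ih hL']
    have e := nGL_conj c i hi a ha (t a)
    rw [eta_cast_F2 (c.etaZ_pm i hi a ha), one_mul] at e
    show nGL c i * (xGL c a (t a) * wordGL c (L.map fun r => (r, t r))) * (nGL c i)⁻¹ = _
    rw [← e]
    group

/-- The members of `lvRoots j`. -/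
theorem mem_lvRoots (j r : ℕ) : r ∈ lvRoots j ↔ D8.IsPosRoot r ∧ (j : ℤ) ≤ lv r := by
  unfold lvRoots ChevalleyDatum.posRoots
  rw [List.mem_filter, List.mem_filter, List.mem_range, decide_eq_true_eq, decide_eq_true_eq]
  constructor
  · rintro ⟨⟨_, h2⟩, h3⟩
    exact ⟨h2, h3⟩
  · rintro ⟨h2, h3⟩
    exact ⟨⟨h2.1, h2⟩, h3⟩

theorem nodup_lvRoots (j : ℕ) : (lvRoots j).Nodup := by
  unfold lvRoots ChevalleyDatum.posRoots
  exact (List.nodup_range.filter _).filter _

/-- BADJ, with the certificate, the packages WORD, WORDT, QTRI, TADD and the table facts as hypotheses. -/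
theorem tco_bad_core {Ns : List NData} (c : DCert D8 Ns)
    (hWORD : ∀ (j : ℕ) (hj : 1 ≤ j) (u : GLE) (hu : u ∈ Q j),
      ∃ t : ℕ → F2, (u : Matrix D8.Idx D8.Idx F2) = D8.wordMat F2 ((lvRoots j).map fun r => (r, t r)))
    (hWORDT : ∀ (j : ℕ) (hj : 1 ≤ j) (L : List ℕ) (hL : L.Nodup)
      (hLj : ∀ r ∈ L, r < 240 ∧ (j : ℤ) ≤ lv r) (t : ℕ → F2) (u : GLE)
      (hu : (u : Matrix D8.Idx D8.Idx F2) = D8.wordMat F2 (L.map fun r => (r, t r)))
      (s : ℕ) (hs : s < 240) (hlv : lv s = j), tco s u = if s ∈ L then t s else 0)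
    (hQTRI : ∀ (j : ℕ) (hj : 1 ≤ j), Q j ≤ T j)
    (hTADD : ∀ (j : ℕ) (hj : 1 ≤ j) (r : ℕ) (hr : r < 240) (hlv : lv r = j),
      (∀ g ∈ T j, ∀ g' ∈ T j, tco r (g * g') = tco r g + tco r g') ∧ (∀ g ∈ T (j + 1), tco r g = 0))
    (hT1 : ∀ r < 240, 2 ≤ lv r → D8.IsPosRoot (D8.reflectRoot 3 r) ∧ lv r - 1 ≤ lv (D8.reflectRoot 3 r))
    (hT2 : ∀ r < 240, lv (D8.reflectRoot 3 r) = lv r - D8.cartan 3 r)
    (n : GLE) (hn : IsNk n) (j : ℕ) (hj : 2 ≤ j) (u : GLE) (hu : u ∈ Q j)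
    (hu' : n * u * n⁻¹ ∈ Q j) (b : ℕ) (hb : D8.IsPosRoot b) (hlb : lv b = j) (hcb : D8.cartan 3 b = 1) :
    tco b u = 0 := by
  have h3 : 3 < D8.rank := by decide
  have hn' : n = nGL c 3 := Units.ext (by rw [nGL_coe]; exact hn)
  obtain ⟨t, hut⟩ := hWORD j (by omega) u hu
  have hLj : ∀ r ∈ lvRoots j, r < 240 ∧ (j : ℤ) ≤ lv r := by
    intro r hr
    have := (mem_lvRoots j r).1 hr
    exact ⟨this.1.1, this.2⟩
  have hLnd := nodup_lvRoots j
  have hbL : b ∈ lvRoots j := (mem_lvRoots j b).2 ⟨hb, by rw [hlb]⟩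
  have hb240 : b < 240 := hb.1
  -- the coordinate of `u` at `b`
  have h1 : tco b u = t b := by
    rw [hWORDT j (by omega) (lvRoots j) hLnd hLj t u hut b hb240 hlb, if_pos hbL]
  -- the conjugate of `u`
  have hu_eq : u = wordGL c ((lvRoots j).map fun r => (r, t r)) := eq_wordGL c hut
  have hconj : n * u * n⁻¹ = wordGL c ((lvRoots j).map fun r => (D8.reflectRoot 3 r, t r)) := by
    rw [hu_eq, hn']
    exact conj_word c 3 h3 t (lvRoots j) (fun r hr => (hLj r hr).1)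
  have hword' : ((lvRoots j).map fun r => (D8.reflectRoot 3 r, t r)) =
      ((lvRoots j).map (D8.reflectRoot 3)).map fun r' => (r', t (D8.reflectRoot 3 r')) := by
    rw [List.map_map]
    apply List.map_congr_left
    intro r hr
    show (D8.reflectRoot 3 r, t r) = (D8.reflectRoot 3 r, t (D8.reflectRoot 3 (D8.reflectRoot 3 r)))
    rw [c.reflect_reflect 3 h3 r (hLj r hr).1]
  have hL'nd : ((lvRoots j).map (D8.reflectRoot 3)).Nodup := by
    apply List.Nodup.map_on _ hLnd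
    intro x hx y hy hxy
    rw [← c.reflect_reflect 3 h3 x (hLj x hx).1, hxy, c.reflect_reflect 3 h3 y (hLj y hy).1]
  have hL'j : ∀ r' ∈ (lvRoots j).map (D8.reflectRoot 3), r' < 240 ∧ ((j - 1 : ℕ) : ℤ) ≤ lv r' := by
    intro r' hr'
    rw [List.mem_map] at hr'
    obtain ⟨r, hr, rfl⟩ := hr'
    obtain ⟨hr240, hrj⟩ := hLj r hr
    obtain ⟨hp, hl⟩ := hT1 r hr240 (by omega)
    refine ⟨hp.1, ?_⟩
    have : ((j - 1 : ℕ) : ℤ) = (j : ℤ) - 1 := by omega
    omega
  have hwb240 : D8.reflectRoot 3 b < 240 := c.reflect_lt 3 h3 b hb240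
  have hlwb : lv (D8.reflectRoot 3 b) = ((j - 1 : ℕ) : ℤ) := by
    rw [hT2 b hb240, hcb, hlb]
    omega
  have hwbL : D8.reflectRoot 3 b ∈ (lvRoots j).map (D8.reflectRoot 3) := List.mem_map_of_mem hbL
  have hmat : ((n * u * n⁻¹ : GLE) : Matrix D8.Idx D8.Idx F2) =
      D8.wordMat F2 (((lvRoots j).map (D8.reflectRoot 3)).map fun r' => (r', t (D8.reflectRoot 3 r'))) := by
    rw [hconj, wordGL_coe, hword']
  have h2 : tco (D8.reflectRoot 3 b) (n * u * n⁻¹) = t b := by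
    rw [hWORDT (j - 1) (by omega) _ hL'nd hL'j (fun r' => t (D8.reflectRoot 3 r')) (n * u * n⁻¹) hmat
      (D8.reflectRoot 3 b) hwb240 hlwb, if_pos hwbL, c.reflect_reflect 3 h3 b hb240]
  have h0 : tco (D8.reflectRoot 3 b) (n * u * n⁻¹) = 0 := by
    apply (hTADD (j - 1) (by omega) (D8.reflectRoot 3 b) hwb240 hlwb).2
    have := hQTRI j (by omega) hu'
    rwa [show j - 1 + 1 = j by omega]
  rw [h1, ← h2, h0]

end Cfsg.Agent.Lib.Helper54_E8C_BADJCore
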