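import Cfsg.Agent.Lib.Helper4_E8Defs
import Cfsg.Agent.Lib.Helper18_ChevDatumE8
import Cfsg.Agent.Lib.Helper18_ChevTCertE8
import Cfsg.Agent.Lib.Helper18_ChevACerts

set_option autoImplicit false

/-!
E8C market (architect helper4, statement S5751), package TX: the coordinates of the root elements,
`tco r (x_s(t)) = t` if `s = r` and `0` otherwise.
-/

namespace Cfsg.Agent.Lib.Helper54_E8C_TX

open Cfsg Cfsg.Lie Cfsg.Agent.Lib.Helper18_MatTri Cfsg.Agent.Lib.Helper18_ChevTri
  Cfsg.Agent.Lib.Helper4_E8Defs Cfsg.Agent.Lib.Helper18_ChevFacts Cfsg.Agent.Lib.Helper18_ChevUni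

set_option maxHeartbeats 0 in
/-- Table fact: the negative of a root is in range, and the coefficient of the coroot of `r` at the index `oddIx r`
is odd. -/
theorem odd_table : ∀ r < 240, D8.neg r < 240 ∧ oddIx r % 8 < 8 ∧ cor D8 r (oddIx r % 8) % 2 = 1 := by
  decide +kernel

/-- TX, with the certificates as hypotheses. -/
theorem tco_x_core {Ns : List Cfsg.Agent.Lib.Helper18_ChevN.NData} {wl : List ℤ} {ws : List (List ℤ)} {sc : ℤ}
    (c : Cfsg.Agent.Lib.Helper18_ChevWeyl.DCert D8 Ns) (tc : Cfsg.Agent.Lib.Helper18_ChevTorus.TCert D8)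
    (ac : Cfsg.Agent.Lib.Helper18_ChevAdd.ACert D8 wl ws sc)
    (r s : ℕ) (hr : r < 240) (hs : s < 240) (t : F2) (g : GLE)
    (hg : (g : Matrix D8.Idx D8.Idx F2) = D8.x F2 s t) : tco r g = if s = r then t else 0 := by
  obtain ⟨hn, _, hodd⟩ := odd_table r hr
  have hn' : D8.neg r < D8.nroots := hn
  unfold tco
  rw [dif_pos hn', hg]
  have h := x_entry_inl_neg (F := F2) c tc ac r s hr hs hn' ⟨oddIx r % 8, Nat.mod_lt _ (by decide)⟩ t
  rw [h]
  by_cases hsr : s = r
  · rw [if_pos hsr, if_pos hsr]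
    have hc : ((cor D8 r (oddIx r % 8) : ℤ) : F2) = 1 := by
      have h2 : cor D8 r (oddIx r % 8) = 2 * (cor D8 r (oddIx r % 8) / 2) + 1 := by omega
      rw [h2]
      push_cast
      have : (2 : F2) = 0 := by decide
      rw [this, zero_mul, zero_add]
    show ((cor D8 r (oddIx r % 8) : ℤ) : F2) * t = t
    rw [hc, one_mul]
  · rw [if_neg hsr, if_neg hsr]

/-- TX.  The coordinates of the root elements. -/
theorem tco_x (r s : ℕ) (hr : r < 240) (hs : s < 240) (t : F2) (g : GLE)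
    (hg : (g : Matrix D8.Idx D8.Idx F2) = D8.x F2 s t) : tco r g = if s = r then t else 0 :=
  tco_x_core Cfsg.Agent.Lib.Helper18_ChevDatumE8.dcert Cfsg.Agent.Lib.Helper18_ChevTCertE8.tcert
    Cfsg.Agent.Lib.Helper18_ChevACerts.acertE8 r s hr hs t g hg

end Cfsg.Agent.Lib.Helper54_E8C_TX
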