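import Cfsg.Agent.Lib.Helper54_E8C_CONJXCore
import Cfsg.Agent.Lib.Helper54_E8C_TX
import Cfsg.Agent.Lib.Helper43_E8C_GRADB
import Cfsg.Agent.Lib.Helper4_E8C_GRADA
import Cfsg.Agent.Lib.Helper58_E8C_TADD
import Cfsg.Agent.Lib.Helper78_E8C_WORD
import Cfsg.Agent.Lib.Helper99_E8C_WORDT
import Cfsg.Agent.Lib.Helper18_ChevPCertE8

set_option autoImplicit false

/-!
E8C market (architect helper4, statement S5751), package CONJX: for `β ∈ Φ_J`, `y = x_β(1)`, and positive roots `r`,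
`s = β + r` of level `j ≥ 1`, `tco_s (y u y⁻¹) = tco_s u + tco_r u` for `u ∈ Q j`.
-/

namespace Cfsg.Agent.Lib.Helper54_E8C_CONJX

open Cfsg Cfsg.Lie Cfsg.Agent.Lib.Helper18_MatTri Cfsg.Agent.Lib.Helper18_ChevTri
  Cfsg.Agent.Lib.Helper4_E8Defs Cfsg.Agent.Lib.Helper54_E8C_CONJXCore

set_option synthInstance.maxSize 2000 in
set_option synthInstance.maxHeartbeats 0 in
set_option maxHeartbeats 0 in
/-- Table fact: the commutator terms of a root of level `0` and a root of level `≥ 1` in type `E₈`. -/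
theorem commShape : CommShape := by
  unfold CommShape
  decide +kernel

/-- CONJX. -/
theorem tco_conj_x (j : ℕ) (hj : 1 ≤ j) (β r s : ℕ) (hβ : D8.InRootSub J3 β) (hr : D8.IsPosRoot r)
    (hlr : lv r = j) (hs : D8.chainRoot β r 1 = some s) (y : GLE)
    (hy : (y : Matrix D8.Idx D8.Idx F2) = D8.x F2 β 1) (u : GLE) (hu : u ∈ Q j) :
    tco s (y * u * y⁻¹) = tco s u + tco r u :=
  tco_conj_x_core Cfsg.Agent.Lib.Helper18_ChevDatumE8.dcert Cfsg.Agent.Lib.Helper18_ChevTCertE8.tcert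
    Cfsg.Agent.Lib.Helper18_ChevACerts.acertE8
    (Cfsg.Agent.Lib.Helper18_ChevComm2.r2_all Cfsg.Agent.Lib.Helper18_ChevDatumE8.dcert
      Cfsg.Agent.Lib.Helper18_ChevPCertE8.pcert)
    Cfsg.Agent.Lib.Helper4_E8C_GRADA.isGrading_lv
    Cfsg.Agent.Lib.Helper78_E8C_WORD.exists_word
    Cfsg.Agent.Lib.Helper99_E8C_WORDT.tco_word
    Cfsg.Agent.Lib.Helper54_E8C_TX.tco_x
    Cfsg.Agent.Lib.Helper58_E8C_TADD.tco_mul
    (fun r h => (Cfsg.Agent.Lib.Helper43_E8C_GRADB.inRootSub_iff r).1 h)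
    Cfsg.Agent.Lib.Helper43_E8C_GRADB.lv_neg
    commShape j hj β r s hβ hr hlr hs y hy u hu

end Cfsg.Agent.Lib.Helper54_E8C_CONJX
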