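import Cfsg.Agent.Lib.Helper4_E8Defs

set_option autoImplicit false
set_option linter.unusedVariables false

/-!
E8C market (architect helper4, statement S5751): the core of the package CONJX, parametrised by the certificates
of the datum `E₈`, by the statements of the packages WORD, WORDT, TX, TADD, GRAD-A and by table facts.

For `β ∈ Φ_J`, `y = x_β(1)`, and positive roots `r`, `s = β + r` of level `j ≥ 1`:
`tco_s (y u y⁻¹) = tco_s u + tco_r u` for `u ∈ Q j`.
-/

namespace Cfsg.Agent.Lib.Helper54_E8C_CONJXCore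

open Cfsg Cfsg.Lie Cfsg.Agent.Lib.Helper18_MatTri Cfsg.Agent.Lib.Helper18_ChevTri
  Cfsg.Agent.Lib.Helper4_E8Defs Cfsg.Agent.Lib.Helper18_ChevWeyl Cfsg.Agent.Lib.Helper18_ChevGL
  Cfsg.Agent.Lib.Helper18_ChevUni Cfsg.Agent.Lib.Helper18_ChevN Cfsg.Agent.Lib.Helper18_ChevAdd
  Cfsg.Agent.Lib.Helper18_ChevTorus Cfsg.Agent.Lib.Helper18_ChevComm

/-- An additive functional on a subgroup is additive on list products. -/
theorem list_prod_additive {G : Type*} [Group G] {A : Type*} [AddCommMonoid A] (K : Subgroup G) (f : G → A)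
    (hone : f 1 = 0) (hadd : ∀ g ∈ K, ∀ g' ∈ K, f (g * g') = f g + f g') :
    ∀ l : List G, (∀ g ∈ l, g ∈ K) → l.prod ∈ K ∧ f l.prod = (l.map f).sum := by
  intro l
  induction l with
  | nil =>
    intro _
    rw [List.prod_nil, List.map_nil, List.sum_nil]
    exact ⟨K.one_mem, hone⟩
  | cons a l ih =>
    intro h
    obtain ⟨ih1, ih2⟩ := ih (fun g hg => h g (List.mem_cons_of_mem _ hg))
    have ha := h a (List.mem_cons_self ..)
    rw [List.prod_cons, List.map_cons, List.sum_cons]
    exact ⟨K.mul_mem ha ih1, by rw [hadd a ha _ ih1, ih2]⟩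

/-- Conjugation of a list product. -/
theorem conj_list_prod {G : Type*} [Group G] (y : G) :
    ∀ l : List G, y * l.prod * y⁻¹ = (l.map fun g => y * g * y⁻¹).prod := by
  intro l
  induction l with
  | nil => rw [List.prod_nil, List.map_nil, List.prod_nil, mul_one, mul_inv_cancel]
  | cons a l ih =>
    rw [List.prod_cons, List.map_cons, List.prod_cons, ← ih]
    group

/-- The sum of a function supported at a single member of a list without duplicates. -/
theorem sum_map_ite {A : Type*} [AddCommMonoid A] (r : ℕ) (t : ℕ → A) :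
    ∀ L : List ℕ, L.Nodup → (L.map fun a => if a = r then t a else 0).sum = if r ∈ L then t r else 0 := by
  intro L
  induction L with
  | nil =>
    intro _
    rw [List.map_nil, List.sum_nil, if_neg (List.not_mem_nil)]
  | cons a L ih =>
    intro hnd
    have hnd' := List.nodup_cons.mp hnd
    rw [List.map_cons, List.sum_cons, ih hnd'.2]
    by_cases har : a = r
    · subst har
      rw [if_pos rfl, if_neg hnd'.1, add_zero, if_pos (List.mem_cons_self ..)]
    · rw [if_neg har, zero_add]
      by_cases hrL : r ∈ L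
      · rw [if_pos hrL, if_pos (List.mem_cons_of_mem _ hrL)]
      · rw [if_neg hrL, if_neg]
        intro h
        rcases List.mem_cons.mp h with h | h
        · exact har h.symm
        · exact hrL h

/-- The members of `lvRoots j`. -/
theorem mem_lvRoots (j r : ℕ) : r ∈ lvRoots j ↔ D8.IsPosRoot r ∧ (j : ℤ) ≤ lv r := by
  unfold lvRoots ChevalleyDatum.posRoots
  rw [List.mem_filter, List.mem_filter, List.mem_range, decide_eq_true_eq, decide_eq_true_eq]
  constructor
  · rintro ⟨⟨_, h2⟩, h3⟩
    exact ⟨h2, h3⟩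
  · rintro ⟨h2, h3⟩
    exact ⟨⟨h2.1, h2⟩, h3⟩

theorem nodup_lvRoots (j : ℕ) : (lvRoots j).Nodup := by
  unfold lvRoots ChevalleyDatum.posRoots
  exact (List.nodup_range.filter _).filter _

/-- The shape of the commutator terms in type `E₈` (a table fact): at most one term, of type `(1, 1)`, with an odd
coefficient. -/
def CommShape : Prop :=
  ∀ b < 240, lv b = 0 → ∀ a < 240, 1 ≤ lv a →
    D8.commTerms b a = (match D8.chainRoot b a 1 with
      | none => []
      | some k => [(k, D8.chainM b a 1, 1, 1)]) ∧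
    (D8.chainRoot b a 1 = none ∨ D8.chainM b a 1 % 2 = 1)

/-- CONJX, with the certificates, the packages and the table facts as hypotheses. -/
theorem tco_conj_x_core {Ns : List NData} {wl : List ℤ} {ws : List (List ℤ)} {sc : ℤ}
    (c : DCert D8 Ns) (tc : TCert D8) (ac : ACert D8 wl ws sc) (hR2 : R2All D8 F2)
    (hgr : IsGrading D8 lv)
    (hWORD : ∀ (j : ℕ) (hj : 1 ≤ j) (u : GLE) (hu : u ∈ Q j),
      ∃ t : ℕ → F2, (u : Matrix D8.Idx D8.Idx F2) = D8.wordMat F2 ((lvRoots j).map fun r => (r, t r)))
    (hWORDT : ∀ (j : ℕ) (hj : 1 ≤ j) (L : List ℕ) (hL : L.Nodup)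
      (hLj : ∀ r ∈ L, r < 240 ∧ (j : ℤ) ≤ lv r) (t : ℕ → F2) (u : GLE)
      (hu : (u : Matrix D8.Idx D8.Idx F2) = D8.wordMat F2 (L.map fun r => (r, t r)))
      (s : ℕ) (hs : s < 240) (hlv : lv s = j), tco s u = if s ∈ L then t s else 0)
    (hTX : ∀ (r s : ℕ) (hr : r < 240) (hs : s < 240) (t : F2) (g : GLE)
      (hg : (g : Matrix D8.Idx D8.Idx F2) = D8.x F2 s t), tco r g = if s = r then t else 0)
    (hTADD : ∀ (j : ℕ) (hj : 1 ≤ j) (r : ℕ) (hr : r < 240) (hlv : lv r = j),
      (∀ g ∈ T j, ∀ g' ∈ T j, tco r (g * g') = tco r g + tco r g') ∧ (∀ g ∈ T (j + 1), tco r g = 0))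
    (hlv0 : ∀ r, D8.InRootSub J3 r → r < 240 ∧ lv r = 0)
    (hneg : ∀ r < 240, lv (D8.neg r) = - lv r)
    (hshape : CommShape)
    (j : ℕ) (hj : 1 ≤ j) (β r s : ℕ) (hβ : D8.InRootSub J3 β) (hr : D8.IsPosRoot r)
    (hlr : lv r = j) (hs : D8.chainRoot β r 1 = some s) (y : GLE)
    (hy : (y : Matrix D8.Idx D8.Idx F2) = D8.x F2 β 1) (u : GLE) (hu : u ∈ Q j) :
    tco s (y * u * y⁻¹) = tco s u + tco r u := by
  obtain ⟨hβ240, hlβ⟩ := hlv0 β hβ
  have hβn : β < D8.nroots := hβ240
  have hr240 : r < 240 := hr.1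
  -- the root `s`
  obtain ⟨_, hs240, hlvs⟩ := chainRoot_grading c.rows ac.in_range hgr hβn (le_refl 1) hs
  have hls : lv s = j := by rw [hlvs, hlβ, hlr]; simp
  have hs240' : s < 240 := hs240
  -- additivity of the coordinate at `s`
  have hadd := (hTADD j hj s hs240' hls).1
  have hone : tco s (1 : GLE) = 0 := by
    have h := hadd 1 (Subgroup.one_mem _) 1 (Subgroup.one_mem _)
    rw [mul_one] at h
    exact left_eq_add.mp h
  -- root elements of level at least `j` lie in `T j`
  have hxT : ∀ a < 240, (j : ℤ) ≤ lv a → ∀ τ : F2, xGL c a τ ∈ T j := by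
    intro a ha hla τ
    show Raises _ _ _
    rw [xGL_coe]
    exact x_sub_one_raises hgr a ha (j : ℤ) (by exact_mod_cast hj) hla τ
  -- the word of `u`
  obtain ⟨t, hut⟩ := hWORD j hj u hu
  set L := lvRoots j with hLdef
  have hLj : ∀ a ∈ L, a < 240 ∧ (j : ℤ) ≤ lv a := by
    intro a ha
    have := (mem_lvRoots j a).1 ha
    exact ⟨this.1.1, this.2⟩
  have hLnd : L.Nodup := nodup_lvRoots j
  have hrL : r ∈ L := (mem_lvRoots j r).2 ⟨hr, by rw [hlr]⟩
  have hu_eq : u = (L.map fun a => xGL c a (t a)).prod := by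
    rw [eq_wordGL c hut]
    unfold wordGL
    rw [List.map_map]
    rfl
  have hy_eq : y = xGL c β 1 := eq_xGL c hy
  have hyinv : y⁻¹ = y := by
    rw [hy_eq, xGL_inv]
    congr 1
  -- the conjugate of a factor
  have hfac : ∀ a ∈ L, y * xGL c a (t a) * y⁻¹ =
      xGL c a (t a) * wordGL c (D8.commWord F2 β a 1 (t a)) := by
    intro a ha
    obtain ⟨ha240, hla⟩ := hLj a ha
    have hla1 : 1 ≤ lv a := by omega
    have hne : a ≠ β := by
      intro h
      rw [h, hlβ] at hla1
      omega
    have hne' : a ≠ D8.neg β := by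
      intro h
      rw [h, hneg β hβ240, hlβ] at hla1
      omega
    have h := conj_of_R2 c (hR2 β a hβn ha240 hne hne') (1 : F2) (t a)
    rw [← hy_eq] at h
    rw [← h]
    conv_lhs => rw [hyinv]
    conv_rhs => rw [hyinv]
  -- the conjugate of `u`
  have hconj : y * u * y⁻¹ =
      (L.map fun a => xGL c a (t a) * wordGL c (D8.commWord F2 β a 1 (t a))).prod := by
    rw [hu_eq, conj_list_prod, List.map_map]
    refine congrArg List.prod ?_
    apply List.map_congr_left
    intro a ha
    rw [Function.comp_apply]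
    exact hfac a ha
  -- the commutator words lie in `T j`; their coordinates
  have hW : ∀ a ∈ L, wordGL c (D8.commWord F2 β a 1 (t a)) ∈ T j ∧
      tco s (wordGL c (D8.commWord F2 β a 1 (t a))) = if a = r then t a else 0 := by
    intro a ha
    obtain ⟨ha240, hla⟩ := hLj a ha
    have hla1 : 1 ≤ lv a := by omega
    obtain ⟨hsh1, hsh2⟩ := hshape β hβ240 hlβ a ha240 hla1
    rw [commWord_eq, hsh1]
    rcases hk : D8.chainRoot β a 1 with _ | k
    · -- no term
      have har : a ≠ r := by
        intro h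
        rw [h, hs] at hk
        exact Option.some_ne_none _ hk
      simp only [termWord, List.map_nil]
      rw [wordGL_nil, hone, if_neg har]
      exact ⟨Subgroup.one_mem _, rfl⟩
    · -- one term
      obtain ⟨_, hk240, hlvk⟩ := chainRoot_grading c.rows ac.in_range hgr hβn (le_refl 1) hk
      have hlk : (j : ℤ) ≤ lv k := by rw [hlvk, hlβ]; simp; exact hla
      have hodd : D8.chainM β a 1 % 2 = 1 := by
        rcases hsh2 with h | h
        · rw [hk] at h
          exact absurd h (Option.some_ne_none _)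
        · exact h
      have hcoef : ((D8.chainM β a 1 : ℤ) : F2) * (-(1 : F2)) ^ 1 * (t a) ^ 1 = t a := by
        have h2 : D8.chainM β a 1 = 2 * (D8.chainM β a 1 / 2) + 1 := by omega
        rw [h2]
        push_cast
        have h20 : (2 : F2) = 0 := by decide
        have h11 : (-(1 : F2)) = 1 := by decide
        rw [h20, zero_mul, zero_add, h11, pow_one, pow_one, one_mul, one_mul]
      simp only [termWord, List.map_cons, List.map_nil]
      rw [wordGL_cons, wordGL_nil, mul_one]
      show xGL c k (((D8.chainM β a 1 : ℤ) : F2) * (-(1 : F2)) ^ 1 * (t a) ^ 1) ∈ T j ∧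
        tco s (xGL c k (((D8.chainM β a 1 : ℤ) : F2) * (-(1 : F2)) ^ 1 * (t a) ^ 1)) = _
      rw [hcoef]
      refine ⟨hxT k hk240 hlk (t a), ?_⟩
      rw [hTX s k hs240' hk240 (t a) _ (xGL_coe c k (t a))]
      -- `k = s ↔ a = r`
      have hgl := isGrading_w c tc wl
      obtain ⟨_, _, hglk⟩ := chainRoot_grading c.rows ac.in_range hgl hβn (le_refl 1) hk
      obtain ⟨_, _, hgls⟩ := chainRoot_grading c.rows ac.in_range hgl hβn (le_refl 1) hs
      by_cases har : a = r
      · have hks : k = s := by
          rw [har, hs] at hk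
          exact (Option.some.inj hk).symm
        rw [if_pos hks, if_pos har]
      · have hks : k ≠ s := by
          intro hks
          apply har
          rw [hks, hgls] at hglk
          have hgar : gl D8 wl a = gl D8 wl r := by
            unfold gl
            omega
          rcases lt_trichotomy a r with h | h | h
          · have := ac.gl_mono (a + 1) r (by omega) hr240
            have := ac.gl_succ a (by omega : a + 1 < D8.nroots)
            omega
          · exact h
          · have := ac.gl_mono (r + 1) a (by omega) ha240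
            have := ac.gl_succ r (by omega : r + 1 < D8.nroots)
            omega
        rw [if_neg hks, if_neg har]
  -- the sum
  have hmem : ∀ g ∈ L.map (fun a => xGL c a (t a) * wordGL c (D8.commWord F2 β a 1 (t a))), g ∈ T j := by
    intro g hg
    rw [List.mem_map] at hg
    obtain ⟨a, ha, rfl⟩ := hg
    exact Subgroup.mul_mem _ (hxT a (hLj a ha).1 (hLj a ha).2 (t a)) (hW a ha).1
  have hmem' : ∀ g ∈ L.map (fun a => xGL c a (t a)), g ∈ T j := by
    intro g hg
    rw [List.mem_map] at hg
    obtain ⟨a, ha, rfl⟩ := hg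
    exact hxT a (hLj a ha).1 (hLj a ha).2 (t a)
  have h1 := (list_prod_additive (T j) (tco s) hone hadd _ hmem).2
  have h2 := (list_prod_additive (T j) (tco s) hone hadd _ hmem').2
  have h4 : tco r u = t r := by
    rw [hWORDT j hj L hLnd hLj t u hut r hr240 hlr, if_pos hrL]
  have h5 : tco s u = (L.map fun a => tco s (xGL c a (t a))).sum := by
    have e : tco s u = tco s (L.map fun a => xGL c a (t a)).prod := congrArg (tco s) hu_eq
    rw [e, h2, List.map_map]
    refine congrArg List.sum ?_
    apply List.map_congr_left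
    intro a ha
    rw [Function.comp_apply]
  have h6 : tco s (y * u * y⁻¹) =
      (L.map fun a => tco s (xGL c a (t a)) + if a = r then t a else 0).sum := by
    rw [hconj, h1, List.map_map]
    refine congrArg List.sum ?_
    apply List.map_congr_left
    intro a ha
    rw [Function.comp_apply, hadd _ (hxT a (hLj a ha).1 (hLj a ha).2 (t a)) _ (hW a ha).1, (hW a ha).2]
  rw [h6, List.sum_map_add, sum_map_ite r t L hLnd, if_pos hrL, h5, h4]

end Cfsg.Agent.Lib.Helper54_E8C_CONJXCore
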