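import Cfsg.Agent.Lib.Helper4_E8Defs

set_option autoImplicit false

/-!
E8C market (architect helper4, statement S5751): the cores of the packages XPJ and NCONJ, parametrised by the
certificates of the datum `E₈` (so that this file does not need the kernel computations of the certificates).
-/

namespace Cfsg.Agent.Lib.Helper54_E8C_Core

open Cfsg Cfsg.Lie Cfsg.Agent.Lib.Helper18_MatTri Cfsg.Agent.Lib.Helper18_ChevTri
  Cfsg.Agent.Lib.Helper4_E8Defs Cfsg.Agent.Lib.Helper18_ChevWeyl Cfsg.Agent.Lib.Helper18_ChevGL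
  Cfsg.Agent.Lib.Helper18_ChevLevi Cfsg.Agent.Lib.Helper18_ChevAdd Cfsg.Agent.Lib.Helper18_ChevTorus
  Cfsg.Agent.Lib.Helper18_ChevR4 Cfsg.Agent.Lib.Helper18_ChevN Cfsg.Agent.Lib.Helper18_ChevJCerts

/-- XPJ, with the certificates as hypotheses. -/
theorem x_mem_PJ_core {Ns : List NData} {wl : List ℤ} {ws : List (List ℤ)} {sc : ℤ}
    (c : DCert D8 Ns) (tc : TCert D8) (ac : ACert D8 wl ws sc) (hdesc : Descent D8)
    (β : ℕ) (hβ : D8.InRootSub J3 β) (t : F2) (y : GLE)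
    (hy : (y : Matrix D8.Idx D8.Idx F2) = D8.x F2 β t) : y ∈ PJ := by
  unfold PJ
  apply levi_le_parabolic J3 c tc ac hdesc
  exact Subgroup.mem_sup_right (Subgroup.subset_closure ⟨β, t, hβ, hy⟩)

/-- NCONJ, with the certificate and the table fact as hypotheses. -/
theorem conj_nk_Q_core {Ns : List NData} (c : DCert D8 Ns)
    (hG : ∀ r < 240, 2 ≤ lv r → D8.IsPosRoot (D8.reflectRoot 3 r) ∧ lv r - 1 ≤ lv (D8.reflectRoot 3 r))
    (n : GLE) (hn : IsNk n) (j : ℕ) (hj : 1 ≤ j) :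
    (Q (j + 1)).map (MulAut.conj n).toMonoidHom ≤ Q j := by
  have hn' : n = nGL c 3 := Units.ext (by rw [nGL_coe]; exact hn)
  unfold Q
  rw [MonoidHom.map_closure, Subgroup.closure_le]
  rintro _ ⟨g, ⟨r, t, hr, hlv, hg⟩, rfl⟩
  show n * g * n⁻¹ ∈ _
  have h3 : 3 < D8.rank := by decide
  rw [eq_xGL c hg, hn', nGL_conj c 3 h3 r hr.1 t]
  apply Subgroup.subset_closure
  obtain ⟨hp, hl⟩ := hG r hr.1 (by push_cast at hlv; omega)
  refine ⟨_, _, hp, ?_, rfl⟩
  push_cast at hlv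
  omega

end Cfsg.Agent.Lib.Helper54_E8C_Core
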