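import Mathlib
import Cfsg.Agent.S5396
import Cfsg.Agent.Lib.Helper1_Frattini
import Cfsg.Agent.Lib.Helper48_Extraspecial

set_option autoImplicit false
open Cfsg

namespace Cfsg.Agent.Lib.Helper89_ESClass

open Cfsg.Agent.S5396

section block
variable {E : Type*} [Group E]

/-- `g ^ t` for `t : ZMod 2`. -/
def pw (g : E) (t : ZMod 2) : E := if t = 0 then 1 else g

@[simp] theorem pw_zero (g : E) : pw g 0 = 1 := by simp [pw]
@[simp] theorem pw_one (g : E) : pw g 1 = g := by simp [pw]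

theorem zmod2_cases (t : ZMod 2) : t = 0 ∨ t = 1 := by
  fin_cases t
  · left; rfl
  · right; rfl

theorem pw_add {z : E} (hzz : z * z = 1) (s t : ZMod 2) : pw z (s + t) = pw z s * pw z t := by
  rcases zmod2_cases s with rfl | rfl <;> rcases zmod2_cases t with rfl | rfl
  · simp
  · simp
  · simp
  · have : (1 : ZMod 2) + 1 = 0 := by decide
    rw [this]
    simp [hzz]

theorem pw_comm {z : E} (hzc : ∀ g, z * g = g * z) (t : ZMod 2) (g : E) : pw z t * g = g * pw z t := by
  rcases zmod2_cases t with rfl | rfl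
  · simp
  · simp [hzc]

/-- the basic block map `(a, b) ↦ y ^ b * x ^ a` -/
def φ₁ (x y : E) (u : ZMod 2 × ZMod 2) : E := pw y u.2 * pw x u.1

/-- the cocycle of a single block -/
def c₁ (ε : ZMod 2) (u u' : ZMod 2 × ZMod 2) : ZMod 2 :=
  u.1 * u'.2 + ε * (u.1 * u'.1 + u.2 * u'.2)

theorem pw_swap {x y z : E} (hxy : x * y = z * (y * x)) (a b : ZMod 2) :
    pw x a * pw y b = pw z (a * b) * (pw y b * pw x a) := by
  rcases zmod2_cases a with rfl | rfl <;> rcases zmod2_cases b with rfl | rfl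
  · simp
  · simp
  · simp
  · simp [hxy]

theorem pw_sq {x z : E} {ε : ZMod 2} (hx : x * x = pw z ε) (a a' : ZMod 2) :
    pw x a * pw x a' = pw x (a + a') * pw z (ε * (a * a')) := by
  rcases zmod2_cases a with rfl | rfl <;> rcases zmod2_cases a' with rfl | rfl
  · simp
  · simp
  · simp
  · have : (1 : ZMod 2) + 1 = 0 := by decide
    rw [this]
    simp [hx]

theorem central_rearrange {P Q R Y X : E} (hP : ∀ g, P * g = g * P) (hQ : ∀ g, Q * g = g * Q) :
    P * (Y * Q * (X * R)) = Y * X * (P * (Q * R)) := by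
  rw [hP (Y * Q * (X * R)), hP (Q * R), mul_assoc Y Q, ← mul_assoc Q X R, hQ X]
  simp only [mul_assoc]

theorem φ₁_mul {x y z : E} {ε : ZMod 2} (hzz : z * z = 1) (hzc : ∀ g, z * g = g * z)
    (hxy : x * y = z * (y * x)) (hx : x * x = pw z ε) (hy : y * y = pw z ε)
    (u u' : ZMod 2 × ZMod 2) :
    φ₁ x y u * φ₁ x y u' = φ₁ x y (u + u') * pw z (c₁ ε u u') := by
  obtain ⟨a, b⟩ := u
  obtain ⟨a', b'⟩ := u'
  simp only [φ₁, c₁, Prod.mk_add_mk]
  have e1 : pw y b * pw x a * (pw y b' * pw x a') = pw y b * (pw x a * pw y b') * pw x a' := by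
    simp only [mul_assoc]
  rw [e1, pw_swap hxy]
  have e2 : pw y b * (pw z (a * b') * (pw y b' * pw x a)) * pw x a' =
      pw z (a * b') * ((pw y b * pw y b') * (pw x a * pw x a')) := by
    rw [← mul_assoc (pw y b), ← pw_comm hzc]
    simp only [mul_assoc]
  rw [e2, pw_sq hy, pw_sq hx]
  have e3 : pw z (a * b') * (pw y (b + b') * pw z (ε * (b * b')) * (pw x (a + a') * pw z (ε * (a * a')))) =
      pw y (b + b') * pw x (a + a') * (pw z (a * b') * (pw z (ε * (b * b')) * pw z (ε * (a * a')))) :=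
    central_rearrange (pw_comm hzc _) (pw_comm hzc _)
  rw [e3, ← pw_add hzz, ← pw_add hzz]
  congr 2
  ring

theorem comm_pw {g x : E} (h : g * x = x * g) (t : ZMod 2) : g * pw x t = pw x t * g := by
  rcases zmod2_cases t with rfl | rfl
  · simp
  · simpa using h

theorem comm_φ₁ {g x y : E} (hx : g * x = x * g) (hy : g * y = y * g) (u : ZMod 2 × ZMod 2) :
    g * φ₁ x y u = φ₁ x y u * g := by
  unfold φ₁
  rw [← mul_assoc, comm_pw hy, mul_assoc, comm_pw hx, mul_assoc]

@[simp] theorem φ₁_zero (x y : E) : φ₁ x y 0 = 1 := by simp [φ₁]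

end block

section split
variable {E : Type*} [Group E] {m : ℕ} {e' : Fin m → ZMod 2}

/-- append a block type at the end -/
def snocE (e' : Fin m → ZMod 2) (ε : ZMod 2) : Fin (m + 1) → ZMod 2 :=
  Fin.snoc (α := fun _ => ZMod 2) e' ε

theorem β_snoc (ε : ZMod 2) (v w : Fin (m + 1) → ZMod 2 × ZMod 2) :
    β (snocE e' ε) v w =
      β e' (Fin.init v) (Fin.init w) + c₁ ε (v (Fin.last m)) (w (Fin.last m)) := by
  unfold β c₁ snocE
  rw [Fin.sum_univ_castSucc]
  simp [Fin.init]

/-- the central element `(0, t)` -/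
def cen (m : ℕ) (e' : Fin m → ZMod 2) (t : ZMod 2) : ES m e' := ⟨0, t⟩

theorem map_cen {z : E} (Φ₂ : ES m e' →* E) (hΦz : Φ₂ (cen m e' 1) = z) (t : ZMod 2) :
    Φ₂ (cen m e' t) = pw z t := by
  rcases zmod2_cases t with rfl | rfl
  · have : cen m e' 0 = 1 := rfl
    rw [this, map_one, pw_zero]
  · rw [hΦz, pw_one]

theorem mk_mul_mk_mul_cen (v w : Fin m → ZMod 2 × ZMod 2) (c d t : ZMod 2) :
    (⟨v + w, c + d + (β e' v w + t)⟩ : ES m e') = ⟨v, c⟩ * ⟨w, d⟩ * cen m e' t := by
  apply ES.ext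
  · simp [cen]
  · simp only [ES.mul_c, ES.mul_v, cen, β_zero_right]
    ring

/-- the homomorphism obtained by adjoining one block -/
def bigHom (x y z : E) (ε : ZMod 2) (hzz : z * z = 1) (hzc : ∀ g, z * g = g * z)
    (hxy : x * y = z * (y * x)) (hx : x * x = pw z ε) (hy : y * y = pw z ε)
    (Φ₂ : ES m e' →* E) (hΦz : Φ₂ (cen m e' 1) = z)
    (hcx : ∀ p, Φ₂ p * x = x * Φ₂ p) (hcy : ∀ p, Φ₂ p * y = y * Φ₂ p) :
    ES (m + 1) (snocE e' ε) →* E where
  toFun p := φ₁ x y (p.v (Fin.last m)) * Φ₂ ⟨Fin.init p.v, p.c⟩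
  map_one' := by
    have h1 : (⟨Fin.init (1 : ES (m + 1) (snocE e' ε)).v, (1 : ES (m + 1) (snocE e' ε)).c⟩ : ES m e') = 1 :=
      rfl
    rw [h1, map_one, mul_one]
    exact φ₁_zero x y
  map_mul' p q := by
    have h1 : (⟨Fin.init (p * q).v, (p * q).c⟩ : ES m e') =
        ⟨Fin.init p.v, p.c⟩ * ⟨Fin.init q.v, q.c⟩ *
          cen m e' (c₁ ε (p.v (Fin.last m)) (q.v (Fin.last m))) := by
      rw [← mk_mul_mk_mul_cen, ES.mul_c, β_snoc]
      rfl
    rw [h1, map_mul, map_mul, map_cen Φ₂ hΦz]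
    have h2 : (p * q).v (Fin.last m) = p.v (Fin.last m) + q.v (Fin.last m) := rfl
    rw [h2]
    have h3 : φ₁ x y (p.v (Fin.last m)) * Φ₂ ⟨Fin.init p.v, p.c⟩ *
        (φ₁ x y (q.v (Fin.last m)) * Φ₂ ⟨Fin.init q.v, q.c⟩) =
        φ₁ x y (p.v (Fin.last m)) * φ₁ x y (q.v (Fin.last m)) *
          (Φ₂ ⟨Fin.init p.v, p.c⟩ * Φ₂ ⟨Fin.init q.v, q.c⟩) := by
      rw [mul_assoc, ← mul_assoc (Φ₂ ⟨Fin.init p.v, p.c⟩), comm_φ₁ (hcx _) (hcy _)]
      simp only [mul_assoc]
    rw [h3, φ₁_mul hzz hzc hxy hx hy, mul_assoc, mul_assoc, pw_comm hzc]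
    simp only [mul_assoc]

theorem bigHom_apply (x y z : E) (ε : ZMod 2) (hzz : z * z = 1) (hzc : ∀ g, z * g = g * z)
    (hxy : x * y = z * (y * x)) (hx : x * x = pw z ε) (hy : y * y = pw z ε)
    (Φ₂ : ES m e' →* E) (hΦz : Φ₂ (cen m e' 1) = z)
    (hcx : ∀ p, Φ₂ p * x = x * Φ₂ p) (hcy : ∀ p, Φ₂ p * y = y * Φ₂ p)
    (p : ES (m + 1) (snocE e' ε)) :
    bigHom x y z ε hzz hzc hxy hx hy Φ₂ hΦz hcx hcy p =
      φ₁ x y (p.v (Fin.last m)) * Φ₂ ⟨Fin.init p.v, p.c⟩ := rfl

end split

section twisted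
variable {E : Type*} [Group E] {z : E}

/-- `g` and `h` commute up to the central factor `z ^ s`. -/
def SC (z : E) (s : ZMod 2) (g h : E) : Prop := g * h = pw z s * (h * g)

theorem SC_zero_iff {g h : E} : SC z 0 g h ↔ g * h = h * g := by
  unfold SC
  rw [pw_zero, one_mul]

theorem SC_mul (hzz : z * z = 1) (hzc : ∀ g, z * g = g * z) {s s' : ZMod 2} {g g' h : E}
    (h1 : SC z s g h) (h2 : SC z s' g' h) : SC z (s + s') (g * g') h := by
  unfold SC at *
  rw [mul_assoc, h2, ← mul_assoc, ← pw_comm hzc, mul_assoc, ← mul_assoc g, h1, pw_add hzz]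
  simp only [mul_assoc]
  rw [← mul_assoc (pw z s'), pw_comm hzc s', mul_assoc]

theorem SC_inv (hzz : z * z = 1) (hzc : ∀ g, z * g = g * z) {s : ZMod 2} {g h : E}
    (h1 : SC z s g h) : SC z s g⁻¹ h := by
  unfold SC at *
  have h2 : pw z s * pw z s = 1 := by
    rw [← pw_add hzz]
    have : s + s = 0 := by
      rcases zmod2_cases s with rfl | rfl <;> decide
    rw [this, pw_zero]
  have h3 : h * g⁻¹ = pw z s * (g⁻¹ * h) := by
    have : h = pw z s * (g⁻¹ * h * g) := by
      calc h = g⁻¹ * (g * h) := by group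
        _ = g⁻¹ * (pw z s * (h * g)) := by rw [h1]
        _ = pw z s * (g⁻¹ * h * g) := by
          rw [← mul_assoc, ← pw_comm hzc]
          simp only [mul_assoc]
    calc h * g⁻¹ = pw z s * (g⁻¹ * h * g) * g⁻¹ := by rw [← this]
      _ = pw z s * (g⁻¹ * h) := by group
  calc g⁻¹ * h = pw z s * pw z s * (g⁻¹ * h) := by rw [h2, one_mul]
    _ = pw z s * (h * g⁻¹) := by rw [mul_assoc, ← h3]

theorem SC_pw {s : ZMod 2} {g h : E}
    (h1 : SC z s g h) (t : ZMod 2) : SC z (t * s) (pw g t) h := by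
  rcases zmod2_cases t with rfl | rfl
  · rw [zero_mul, pw_zero, SC_zero_iff]
    simp
  · rw [one_mul, pw_one]
    exact h1

theorem SC_unique (hz1 : z ≠ 1) {s s' : ZMod 2} {g h : E} (h1 : SC z s g h) (h2 : SC z s' g h) :
    s = s' := by
  unfold SC at *
  rw [h1] at h2
  have h3 : pw z s = pw z s' := mul_right_cancel h2
  rcases zmod2_cases s with rfl | rfl <;> rcases zmod2_cases s' with rfl | rfl
  · rfl
  · rw [pw_zero, pw_one] at h3
    exact absurd h3.symm hz1
  · rw [pw_zero, pw_one] at h3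
    exact absurd h3 hz1
  · rfl

end twisted

/-- `E` has centre `{1, z}` of order two and all commutators and squares lie in it. -/
structure IsES2 (E : Type*) [Group E] (z : E) : Prop where
  ne_one : z ≠ 1
  sq : z * z = 1
  center : ∀ g : E, (∀ h, g * h = h * g) ↔ g = 1 ∨ g = z
  comm : ∀ g h : E, g * h = h * g ∨ g * h = z * (h * g)
  sqs : ∀ g : E, g * g = 1 ∨ g * g = z

namespace IsES2
variable {E : Type*} [Group E] {z : E}

theorem central (hE : IsES2 E z) (g : E) : z * g = g * z := (hE.center z).2 (Or.inr rfl) g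

theorem exists_SC (hE : IsES2 E z) (g h : E) : ∃ s, SC z s g h := by
  rcases hE.comm g h with h1 | h1
  · exact ⟨0, SC_zero_iff.2 h1⟩
  · exact ⟨1, by unfold SC; rw [pw_one]; exact h1⟩

theorem SC_symm (hE : IsES2 E z) {s : ZMod 2} {g h : E} (h1 : SC z s g h) : SC z s h g := by
  unfold SC at *
  have h2 : pw z s * pw z s = 1 := by
    rw [← pw_add hE.sq]
    have : s + s = 0 := by
      rcases zmod2_cases s with rfl | rfl <;> decide
    rw [this, pw_zero]
  rw [h1, ← mul_assoc, h2, one_mul]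

/-- the centralizer of the pair `x, y` -/
def cent (x y : E) : Subgroup E := Subgroup.centralizer ({x, y} : Set E)

theorem mem_cent {x y g : E} : g ∈ cent x y ↔ g * x = x * g ∧ g * y = y * g := by
  unfold cent
  rw [Subgroup.mem_centralizer_iff]
  constructor
  · intro h
    exact ⟨(h x (by simp)).symm, (h y (by simp)).symm⟩
  · rintro ⟨h1, h2⟩ k hk
    rcases hk with rfl | rfl
    · exact h1.symm
    · exact h2.symm

theorem SC_φ₁_x (hE : IsES2 E z) {x y : E} (hxy : x * y = z * (y * x)) (u : ZMod 2 × ZMod 2) :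
    SC z u.2 (φ₁ x y u) x := by
  have h1 : SC z 1 y x := hE.SC_symm (by unfold SC; rw [pw_one]; exact hxy)
  have h2 : SC z 0 x x := SC_zero_iff.2 rfl
  have h3 := SC_mul hE.sq hE.central (SC_pw h1 u.2) (SC_pw h2 u.1)
  have h4 : u.2 * 1 + u.1 * 0 = u.2 := by ring
  rw [h4] at h3
  exact h3

theorem SC_φ₁_y (hE : IsES2 E z) {x y : E} (hxy : x * y = z * (y * x)) (u : ZMod 2 × ZMod 2) :
    SC z u.1 (φ₁ x y u) y := by
  have h1 : SC z 1 x y := by unfold SC; rw [pw_one]; exact hxy
  have h2 : SC z 0 y y := SC_zero_iff.2 rfl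
  have h3 := SC_mul hE.sq hE.central (SC_pw h2 u.2) (SC_pw h1 u.1)
  have h4 : u.2 * 0 + u.1 * 1 = u.1 := by ring
  rw [h4] at h3
  exact h3

theorem add_self_zmod2 (s : ZMod 2) : s + s = 0 := by
  rcases zmod2_cases s with rfl | rfl <;> decide

theorem exists_factor (hE : IsES2 E z) {x y : E} (hxy : x * y = z * (y * x)) (g : E) :
    ∃ u : ZMod 2 × ZMod 2, (φ₁ x y u)⁻¹ * g ∈ cent x y := by
  obtain ⟨sx, hsx⟩ := hE.exists_SC g x
  obtain ⟨sy, hsy⟩ := hE.exists_SC g y
  refine ⟨(sy, sx), ?_⟩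
  rw [mem_cent]
  constructor
  · have h1 := SC_mul hE.sq hE.central (SC_inv hE.sq hE.central (hE.SC_φ₁_x hxy (sy, sx))) hsx
    rw [add_self_zmod2] at h1
    exact SC_zero_iff.1 h1
  · have h1 := SC_mul hE.sq hE.central (SC_inv hE.sq hE.central (hE.SC_φ₁_y hxy (sy, sx))) hsy
    rw [add_self_zmod2] at h1
    exact SC_zero_iff.1 h1

theorem z_mem_cent (hE : IsES2 E z) (x y : E) : z ∈ cent x y :=
  mem_cent.2 ⟨hE.central x, hE.central y⟩

theorem cent_isES2 (hE : IsES2 E z) {x y : E} (hxy : x * y = z * (y * x)) :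
    IsES2 (cent x y) ⟨z, hE.z_mem_cent x y⟩ where
  ne_one := fun h => hE.ne_one (congrArg Subtype.val h)
  sq := Subtype.ext hE.sq
  center := by
    intro w
    constructor
    · intro hw
      have h1 : ∀ g : E, (w : E) * g = g * w := by
        intro g
        obtain ⟨u, hu⟩ := hE.exists_factor hxy g
        have h2 := congrArg Subtype.val (hw ⟨_, hu⟩)
        have h3 : (w : E) * ((φ₁ x y u)⁻¹ * g) = (φ₁ x y u)⁻¹ * g * w := h2
        have hwc := mem_cent.1 w.2
        have h4 := comm_φ₁ hwc.1 hwc.2 u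
        have h5 : g = φ₁ x y u * ((φ₁ x y u)⁻¹ * g) := by group
        rw [h5, ← mul_assoc, h4, mul_assoc, h3]
        simp only [mul_assoc]
      rcases (hE.center w).1 h1 with h | h
      · left; exact Subtype.ext h
      · right; exact Subtype.ext h
    · rintro (rfl | rfl) h
      · simp
      · exact Subtype.ext (hE.central h)
  comm := by
    intro g h
    rcases hE.comm g h with h1 | h1
    · left; exact Subtype.ext h1
    · right; exact Subtype.ext h1
  sqs := by
    intro g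
    rcases hE.sqs g with h1 | h1
    · left; exact Subtype.ext h1
    · right; exact Subtype.ext h1

theorem x_not_mem_cent (hE : IsES2 E z) {x y : E} (hxy : x * y = z * (y * x)) : x ∉ cent x y := by
  intro h
  have h1 := (mem_cent.1 h).2
  rw [hxy] at h1
  have : z = 1 := by
    have := mul_right_cancel (b := y * x) (a := z) (c := 1) (by rw [one_mul]; exact h1)
    exact this
  exact hE.ne_one this

theorem exists_iso_snoc (hE : IsES2 E z) {x y : E} {ε : ZMod 2} (hxy : x * y = z * (y * x))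
    (hx : x * x = pw z ε) (hy : y * y = pw z ε) {m : ℕ} {e' : Fin m → ZMod 2}
    (Φ₂ : ES m e' ≃* cent x y) (hΦz : Φ₂ (cen m e' 1) = ⟨z, hE.z_mem_cent x y⟩) :
    ∃ Φ : ES (m + 1) (snocE e' ε) ≃* E, Φ (cen (m + 1) (snocE e' ε) 1) = z := by
  have hΦz' : ((cent x y).subtype.comp Φ₂.toMonoidHom) (cen m e' 1) = z := congrArg Subtype.val hΦz
  have hcx : ∀ p, ((cent x y).subtype.comp Φ₂.toMonoidHom) p * x =
      x * ((cent x y).subtype.comp Φ₂.toMonoidHom) p := fun p => (mem_cent.1 (Φ₂ p).2).1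
  have hcy : ∀ p, ((cent x y).subtype.comp Φ₂.toMonoidHom) p * y =
      y * ((cent x y).subtype.comp Φ₂.toMonoidHom) p := fun p => (mem_cent.1 (Φ₂ p).2).2
  have hinj : Function.Injective
      (bigHom x y z ε hE.sq hE.central hxy hx hy _ hΦz' hcx hcy) := by
    rw [injective_iff_map_eq_one]
    intro p hp
    rw [bigHom_apply] at hp
    have h1 : φ₁ x y (p.v (Fin.last m)) ∈ cent x y := by
      have : φ₁ x y (p.v (Fin.last m)) =
          (((cent x y).subtype.comp Φ₂.toMonoidHom) ⟨Fin.init p.v, p.c⟩)⁻¹ :=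
        eq_inv_of_mul_eq_one_left hp
      rw [this]
      exact (cent x y).inv_mem (Φ₂ _).2
    have h2 := mem_cent.1 h1
    have hb : (p.v (Fin.last m)).2 = 0 :=
      SC_unique hE.ne_one (hE.SC_φ₁_x hxy _) (SC_zero_iff.2 h2.1)
    have ha : (p.v (Fin.last m)).1 = 0 :=
      SC_unique hE.ne_one (hE.SC_φ₁_y hxy _) (SC_zero_iff.2 h2.2)
    have hl : p.v (Fin.last m) = 0 := Prod.ext ha hb
    rw [hl, φ₁_zero, one_mul] at hp
    have h3 : Φ₂ ⟨Fin.init p.v, p.c⟩ = 1 := Subtype.ext hp
    have h4 : (⟨Fin.init p.v, p.c⟩ : ES m e') = 1 := by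
      rw [← Φ₂.map_one] at h3
      exact Φ₂.injective h3
    have h5 : Fin.init p.v = 0 := congrArg ES.v h4
    have h6 : p.c = 0 := congrArg ES.c h4
    apply ES.ext
    · funext i
      refine Fin.lastCases ?_ (fun j => ?_) i
      · exact hl
      · exact congrFun h5 j
    · exact h6
  have hsurj : Function.Surjective
      (bigHom x y z ε hE.sq hE.central hxy hx hy _ hΦz' hcx hcy) := by
    intro g
    obtain ⟨u, hu⟩ := hE.exists_factor hxy g
    refine ⟨⟨Fin.snoc (α := fun _ => ZMod 2 × ZMod 2) (Φ₂.symm ⟨_, hu⟩).v u, (Φ₂.symm ⟨_, hu⟩).c⟩, ?_⟩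
    rw [bigHom_apply]
    simp only [Fin.snoc_last, Fin.init_snoc]
    have h1 : ((cent x y).subtype.comp Φ₂.toMonoidHom) ⟨(Φ₂.symm ⟨_, hu⟩).v, (Φ₂.symm ⟨_, hu⟩).c⟩ =
        (φ₁ x y u)⁻¹ * g := by
      show ((Φ₂ (Φ₂.symm ⟨_, hu⟩) : cent x y) : E) = _
      rw [MulEquiv.apply_symm_apply]
    rw [h1]
    group
  refine ⟨MulEquiv.ofBijective _ ⟨hinj, hsurj⟩, ?_⟩
  show bigHom x y z ε hE.sq hE.central hxy hx hy _ hΦz' hcx hcy (cen (m + 1) (snocE e' ε) 1) = z
  rw [bigHom_apply]
  have h1 : (cen (m + 1) (snocE e' ε) 1).v (Fin.last m) = 0 := rfl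
  rw [h1, φ₁_zero, one_mul]
  exact hΦz'

end IsES2

section base
variable {E : Type*} [Group E] {z : E}

theorem β_fin_zero (e : Fin 0 → ZMod 2) (v w : Fin 0 → ZMod 2 × ZMod 2) : β e v w = 0 := by
  unfold β
  simp

/-- the base case: a group of order two -/
theorem exists_iso_zero (hz1 : z ≠ 1) (hzz : z * z = 1) (hall : ∀ g : E, g = 1 ∨ g = z) :
    ∃ Φ : ES 0 0 ≃* E, Φ (cen 0 0 1) = z := by
  let f : ES 0 0 →* E :=
    { toFun := fun p => pw z p.c
      map_one' := by
        show pw z (1 : ES 0 0).c = 1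
        rw [ES.one_c, pw_zero]
      map_mul' := by
        intro p q
        show pw z (p * q).c = pw z p.c * pw z q.c
        rw [ES.mul_c, β_fin_zero, add_zero, pw_add hzz] }
  have hf : ∀ p, f p = pw z p.c := fun _ => rfl
  have hinj : Function.Injective f := by
    rw [injective_iff_map_eq_one]
    intro p hp
    rw [hf] at hp
    apply ES.ext
    · exact Subsingleton.elim _ _
    · rcases zmod2_cases p.c with h | h
      · rw [h]; rfl
      · rw [h, pw_one] at hp
        exact absurd hp hz1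
  have hsurj : Function.Surjective f := by
    intro g
    rcases hall g with h | h
    · exact ⟨1, by rw [h]; exact map_one f⟩
    · exact ⟨cen 0 0 1, by rw [hf, h]; exact pw_one z⟩
  refine ⟨MulEquiv.ofBijective f ⟨hinj, hsurj⟩, ?_⟩
  show f (cen 0 0 1) = z
  rw [hf]
  exact pw_one z

end base

theorem snocE_zero_zero (m : ℕ) : snocE (0 : Fin m → ZMod 2) 0 = 0 := by
  funext i
  refine Fin.lastCases ?_ (fun j => ?_) i
  · simp [snocE]
  · simp [snocE]

theorem snocE_single_zero (m : ℕ) (hm : 1 ≤ m) :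
    snocE (Pi.single (⟨0, hm⟩ : Fin m) (1 : ZMod 2)) 0 =
      Pi.single (⟨0, Nat.le_succ_of_le hm⟩ : Fin (m + 1)) (1 : ZMod 2) := by
  funext i
  refine Fin.lastCases ?_ (fun j => ?_) i
  · have h1 : (Fin.last m) ≠ (⟨0, Nat.le_succ_of_le hm⟩ : Fin (m + 1)) := by
      intro h
      have := congrArg Fin.val h
      simp at this
      omega
    show Fin.snoc (α := fun _ => ZMod 2) (Pi.single (⟨0, hm⟩ : Fin m) (1 : ZMod 2)) 0 (Fin.last m) = _
    rw [Fin.snoc_last, Pi.single_eq_of_ne h1]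
  · simp only [snocE, Fin.snoc_castSucc]
    by_cases hj : j = ⟨0, hm⟩
    · subst hj
      have : (Fin.castSucc (⟨0, hm⟩ : Fin m)) = (⟨0, Nat.le_succ_of_le hm⟩ : Fin (m + 1)) := rfl
      rw [this, Pi.single_eq_same, Pi.single_eq_same]
    · have h2 : Fin.castSucc j ≠ (⟨0, Nat.le_succ_of_le hm⟩ : Fin (m + 1)) := by
        intro h
        apply hj
        apply Fin.ext
        have := congrArg Fin.val h
        simpa using this
      rw [Pi.single_eq_of_ne hj, Pi.single_eq_of_ne h2]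

theorem snocE_zero_one : snocE (0 : Fin 0 → ZMod 2) 1 =
    Pi.single (⟨0, le_refl 1⟩ : Fin (0 + 1)) (1 : ZMod 2) := by
  funext i
  have hi : i = Fin.last 0 := by
    apply Fin.ext
    have := i.2
    simp only [Fin.val_last]
    omega
  subst hi
  have : (⟨0, le_refl 1⟩ : Fin (0 + 1)) = Fin.last 0 := rfl
  rw [this, Pi.single_eq_same]
  simp [snocE]

universe u

/-- **Classification**: a finite group with centre `{1, z}` and commutators and squares in the centre is
one of the two standard groups `ES m 0`, `ES m (single 0 1)`. -/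
theorem classify (n : ℕ) : ∀ (E : Type u) [Group E] [Finite E] (z : E), Nat.card E = n → IsES2 E z →
    ∃ m : ℕ, (∃ Φ : ES m 0 ≃* E, Φ (cen m 0 1) = z) ∨
      (∃ hm : 1 ≤ m, ∃ Φ : ES m (Pi.single (⟨0, hm⟩ : Fin m) (1 : ZMod 2)) ≃* E,
        Φ (cen m _ 1) = z) := by
  induction n using Nat.strong_induction_on with
  | _ n ih =>
  intro E _ _ z hn hE
  by_cases hab : ∀ g h : E, g * h = h * g
  · -- abelian: order two
    have hall : ∀ g : E, g = 1 ∨ g = z := fun g => (hE.center g).1 (hab g)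
    obtain ⟨Φ, hΦ⟩ := exists_iso_zero hE.ne_one hE.sq hall
    exact ⟨0, Or.inl ⟨Φ, hΦ⟩⟩
  · push Not at hab
    obtain ⟨g₀, h₀, hgh⟩ := hab
    -- a general step: from a pair and an isomorphism of the centralizer
    have hcard : ∀ x y : E, x * y = z * (y * x) → Nat.card (IsES2.cent x y) < n := by
      intro x y hxy
      rw [← hn]
      refine lt_of_le_of_ne (Subgroup.card_le_card_group _) (fun h => ?_)
      have := Subgroup.eq_top_of_card_eq _ h
      exact hE.x_not_mem_cent hxy (this ▸ Subgroup.mem_top x)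
    by_cases hinv : ∃ t : E, t * t = 1 ∧ t ≠ 1 ∧ t ≠ z
    · obtain ⟨t, htt, ht1, htz⟩ := hinv
      have hnc : ¬ ∀ h, t * h = h * t := fun h => by
        rcases (hE.center t).1 h with h1 | h1
        · exact ht1 h1
        · exact htz h1
      push Not at hnc
      obtain ⟨y', hy'⟩ := hnc
      have hty' : t * y' = z * (y' * t) := (hE.comm t y').resolve_left hy'
      -- find `y` of order two not commuting with `t`
      have hy : ∃ y : E, y * y = 1 ∧ t * y = z * (y * t) := by
        rcases hE.sqs y' with h1 | h1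
        · exact ⟨y', h1, hty'⟩
        · have hy't : y' * t = z * (t * y') := by
            have : SC z 1 y' t := hE.SC_symm (by unfold SC; rw [pw_one]; exact hty')
            unfold SC at this
            rwa [pw_one] at this
          refine ⟨t * y', ?_, ?_⟩
          · calc t * y' * (t * y') = t * (y' * t) * y' := by simp only [mul_assoc]
              _ = t * (z * (t * y')) * y' := by rw [hy't]
              _ = z * (t * t) * (y' * y') := by
                rw [← mul_assoc t z, ← hE.central t]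
                simp only [mul_assoc]
              _ = 1 := by rw [htt, h1, mul_one, hE.sq]
          · calc t * (t * y') = (t * t) * y' := by rw [mul_assoc]
              _ = y' := by rw [htt, one_mul]
              _ = z * z * (t * t) * y' := by rw [hE.sq, htt, one_mul, one_mul]
              _ = z * (t * y' * t) := by
                rw [mul_assoc t y' t, hy't, ← mul_assoc t z, ← hE.central t]
                simp only [mul_assoc]
      obtain ⟨y, hyy, hty⟩ := hy
      have hx0 : t * t = pw z 0 := by rw [pw_zero]; exact htt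
      have hy0 : y * y = pw z 0 := by rw [pw_zero]; exact hyy
      obtain ⟨m', hm'⟩ := ih _ (hcard t y hty) (IsES2.cent t y) ⟨z, hE.z_mem_cent t y⟩ rfl
        (hE.cent_isES2 hty)
      rcases hm' with ⟨Φ₂, hΦ₂⟩ | ⟨hm1, Φ₂, hΦ₂⟩
      · have := hE.exists_iso_snoc hty hx0 hy0 Φ₂ hΦ₂
        rw [snocE_zero_zero] at this
        exact ⟨m' + 1, Or.inl this⟩
      · have := hE.exists_iso_snoc hty hx0 hy0 Φ₂ hΦ₂
        rw [snocE_single_zero] at this
        exact ⟨m' + 1, Or.inr ⟨Nat.le_succ_of_le hm1, this⟩⟩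
    · push Not at hinv
      have hxy : g₀ * h₀ = z * (h₀ * g₀) := (hE.comm g₀ h₀).resolve_left hgh
      have hsq : ∀ w : E, (¬ ∀ h, w * h = h * w) → w * w = z := by
        intro w hw
        rcases hE.sqs w with h1 | h1
        · exfalso
          apply hw
          by_cases hw1 : w = 1
          · subst hw1; intro h; simp
          · have := hinv w h1 hw1
            subst this
            exact fun h => hE.central h
        · exact h1
      have hx1 : g₀ * g₀ = pw z 1 := by
        rw [pw_one]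
        exact hsq g₀ (fun h => hgh (h h₀))
      have hy1 : h₀ * h₀ = pw z 1 := by
        rw [pw_one]
        exact hsq h₀ (fun h => hgh (h g₀).symm)
      have hall : ∀ w : IsES2.cent g₀ h₀, w = 1 ∨ w = ⟨z, hE.z_mem_cent g₀ h₀⟩ := by
        intro w
        by_contra hcon
        push Not at hcon
        obtain ⟨hw1, hwz⟩ := hcon
        have hwc := IsES2.mem_cent.1 w.2
        have hww : (w : E) * w = z := by
          apply hsq
          intro hc
          rcases (hE.center w).1 hc with h | h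
          · exact hw1 (Subtype.ext h)
          · exact hwz (Subtype.ext h)
        have h1 : (g₀ * w) * (g₀ * w) = 1 := by
          calc g₀ * w * (g₀ * w) = g₀ * (w * g₀) * w := by simp only [mul_assoc]
            _ = g₀ * (g₀ * w) * w := by rw [hwc.1]
            _ = (g₀ * g₀) * (w * w) := by simp only [mul_assoc]
            _ = 1 := by rw [hx1, pw_one, hww, hE.sq]
        have h2 : g₀ * w = 1 ∨ g₀ * w = z := by
          by_contra hc
          push Not at hc
          exact absurd (hinv _ h1 hc.1) hc.2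
        have h3 : (g₀ * w) * h₀ = h₀ * (g₀ * w) := by
          rcases h2 with h | h
          · rw [h]; simp
          · rw [h]; exact hE.central h₀
        apply hgh
        calc g₀ * h₀ = g₀ * (w * h₀) * (w : E)⁻¹ := by rw [hwc.2]; group
          _ = (g₀ * w * h₀) * (w : E)⁻¹ := by simp only [mul_assoc]
          _ = h₀ * (g₀ * w) * (w : E)⁻¹ := by rw [h3]
          _ = h₀ * g₀ := by group
      obtain ⟨Φ₂, hΦ₂⟩ := exists_iso_zero (E := IsES2.cent g₀ h₀)
        (z := ⟨z, hE.z_mem_cent g₀ h₀⟩) (fun h => hE.ne_one (congrArg Subtype.val h))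
        (Subtype.ext hE.sq) hall
      have := hE.exists_iso_snoc hxy hx1 hy1 Φ₂ hΦ₂
      rw [snocE_zero_one] at this
      exact ⟨0 + 1, Or.inr ⟨le_refl 1, this⟩⟩

open scoped commutatorElement in
theorem isES2_of_isExtraspecial {E : Type*} [Group E] [Finite E] (h : IsExtraspecial 2 E) :
    ∃ z : E, IsES2 E z := by
  obtain ⟨⟨hp, hfr, hcm⟩, hc⟩ := h
  obtain ⟨zc, hz1, hzu⟩ := (Nat.card_eq_two_iff' (1 : Subgroup.center E)).1 hc
  have hcen : ∀ g : E, g ∈ Subgroup.center E → g = 1 ∨ g = (zc : E) := by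
    intro g hg
    by_cases h1 : (⟨g, hg⟩ : Subgroup.center E) = 1
    · left; exact congrArg Subtype.val h1
    · right; exact congrArg Subtype.val (hzu ⟨g, hg⟩ h1)
  have hzne : (zc : E) ≠ 1 := fun h => hz1 (Subtype.ext h)
  have hzcen : ∀ g : E, (zc : E) * g = g * zc := fun g =>
    ((Subgroup.mem_center_iff.1 zc.2) g).symm
  have hzz : (zc : E) * zc = 1 := by
    rcases hcen _ (Subgroup.mul_mem _ zc.2 zc.2) with h1 | h1
    · exact h1
    · exfalso
      apply hzne
      have : (zc : E) * zc = zc * 1 := by rw [h1, mul_one]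
      exact mul_left_cancel this
  have : Fact (Nat.Prime 2) := ⟨Nat.prime_two⟩
  refine ⟨zc, hzne, hzz, ?_, ?_, ?_⟩
  · intro g
    constructor
    · intro hg
      exact hcen g (Subgroup.mem_center_iff.2 (fun h => (hg h).symm))
    · rintro (rfl | rfl) h
      · simp
      · exact hzcen h
  · intro g k
    have h1 : ⁅g, k⁆ ∈ commutator E :=
      Subgroup.commutator_mem_commutator (Subgroup.mem_top g) (Subgroup.mem_top k)
    rw [hcm] at h1
    rcases hcen _ h1 with h2 | h2
    · left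
      exact commutatorElement_eq_one_iff_mul_comm.1 h2
    · right
      rw [commutatorElement_def] at h2
      calc g * k = (g * k * g⁻¹ * k⁻¹) * (k * g) := by group
        _ = zc * (k * g) := by rw [h2]
  · intro g
    have h1 : g ^ 2 ∈ frattini E := Cfsg.Agent.Lib.Helper1_Frattini.pow_mem_frattini_of_isPGroup hp g
    rw [hfr, pow_two] at h1
    exact hcen _ h1

/-- every finite extraspecial 2-group is isomorphic to one of the standard groups -/
theorem exists_iso_of_isExtraspecial {E : Type u} [Group E] [Finite E] (h : IsExtraspecial 2 E) :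
    ∃ m : ℕ, Nonempty (ES m 0 ≃* E) ∨
      ∃ hm : 1 ≤ m, Nonempty (ES m (Pi.single (⟨0, hm⟩ : Fin m) (1 : ZMod 2)) ≃* E) := by
  obtain ⟨z, hz⟩ := isES2_of_isExtraspecial h
  obtain ⟨m, hm⟩ := classify (Nat.card E) E z rfl hz
  refine ⟨m, ?_⟩
  rcases hm with ⟨Φ, -⟩ | ⟨hm1, Φ, -⟩
  · exact Or.inl ⟨Φ⟩
  · exact Or.inr ⟨hm1, ⟨Φ⟩⟩

/-- the two standard types: all blocks hyperbolic (`false`), or the first block anisotropic (`true`) -/
def eStd (m : ℕ) (b : Bool) : Fin m → ZMod 2 := fun i => if b = true ∧ i.val = 0 then 1 else 0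

theorem eStd_false (m : ℕ) : eStd m false = 0 := by
  funext i
  simp [eStd]

theorem eStd_true (m : ℕ) (hm : 1 ≤ m) : eStd m true = Pi.single (⟨0, hm⟩ : Fin m) (1 : ZMod 2) := by
  funext i
  by_cases hi : i = ⟨0, hm⟩
  · subst hi
    simp [eStd]
  · rw [Pi.single_eq_of_ne hi]
    have : i.val ≠ 0 := fun h => hi (Fin.ext h)
    simp [eStd, this]

theorem exists_iso_std {E : Type u} [Group E] [Finite E] (h : IsExtraspecial 2 E) :
    ∃ (m : ℕ) (b : Bool), Nonempty (ES m (eStd m b) ≃* E) := by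
  obtain ⟨m, hm⟩ := exists_iso_of_isExtraspecial h
  rcases hm with hΦ | ⟨hm1, hΦ⟩
  · refine ⟨m, false, ?_⟩
    rw [eStd_false]
    exact hΦ
  · refine ⟨m, true, ?_⟩
    rw [eStd_true m hm1]
    exact hΦ

theorem card_eq_of_iso {E : Type*} [Group E] {m : ℕ} {e : Fin m → ZMod 2} (Φ : ES m e ≃* E) :
    Nat.card E = 2 ^ (2 * m + 1) := by
  rw [← Nat.card_congr Φ.toEquiv, ES.card]

theorem eq_of_card_eq {m m' : ℕ} (h : 2 ^ (2 * m + 1) = 2 ^ (2 * m' + 1)) : m = m' := by
  have := Nat.pow_right_injective (le_refl 2) h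
  omega

end Cfsg.Agent.Lib.Helper89_ESClass
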