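import Mathlib
import Cfsg.Agent.Lib.Helper89_ESClass

/-!
# Automorphisms of 2-power order of the extraspecial groups of order 8 (helper54)

* `klein_aut`: an automorphism of `2`-power order of a four-group is trivial or a transvection;
* `card8_aut`: an automorphism `α` of `2`-power order of an extraspecial group `E` of order `8` is
  trivial on `E / Z(E)`, or `α²` is trivial on `E / Z(E)` and the fixed points of `α` lie in
  `Z(E) ∪ Z(E) x` with `x = α(y) y⁻¹`.
-/

set_option autoImplicit false
set_option linter.style.haveILetI false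

namespace Cfsg.Agent.Lib.Helper54_ES8

open Cfsg.Agent.Lib.Helper89_ESClass

theorem eq_of_card_four {K : Type*} [Finite K] (hK : Nat.card K = 4) (a b c d : K) (hab : a ≠ b)
    (hac : a ≠ c) (had : a ≠ d) (hbc : b ≠ c) (hbd : b ≠ d) (hcd : c ≠ d) (k : K) :
    k = a ∨ k = b ∨ k = c ∨ k = d := by
  by_contra h
  push Not at h
  obtain ⟨h1, h2, h3, h4⟩ := h
  let f : Fin 5 → K := ![a, b, c, d, k]
  have hf : Function.Injective f := by
    intro i j hij
    fin_cases i <;> fin_cases j <;> simp [f] at hij <;> first | rfl | (exfalso; tauto)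
  have := Nat.card_le_card_of_injective f hf
  rw [hK, Nat.card_fin] at this
  omega

/-- automorphisms of `2`-power order of a four-group -/
theorem klein_aut {Q : Type*} [Group Q] [Finite Q] (hexp : ∀ q : Q, q * q = 1)
    (hcard : Nat.card Q = 4) (β : Q ≃* Q) (k : ℕ) (hβ : ∀ q, (β : Q → Q)^[2 ^ k] q = q) :
    (∀ q, β q = q) ∨ ∃ y, (∀ q, β (β q) = q) ∧ ∀ f, β f = f → f = 1 ∨ f = β y * y⁻¹ := by
  have hinv : ∀ q : Q, q⁻¹ = q := fun q => inv_eq_of_mul_eq_one_left (hexp q)
  have hcomm : ∀ a b : Q, a * b = b * a := by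
    intro a b
    have h1 : a * b = (a * b)⁻¹ := (hinv _).symm
    rw [h1, mul_inv_rev, hinv, hinv]
  by_cases hid : ∀ q, β q = q
  · exact Or.inl hid
  right
  push Not at hid
  obtain ⟨y, hy⟩ := hid
  refine ⟨y, ?_⟩
  rw [hinv y]
  have hy1 : y ≠ 1 := by
    rintro rfl
    exact hy (map_one β)
  have hy₁1 : β y ≠ 1 := fun h => hy1 (β.injective (h.trans (map_one β).symm))
  have hall : ∀ q : Q, q = 1 ∨ q = y ∨ q = β y ∨ q = y * β y := by
    apply eq_of_card_four hcard 1 y (β y) (y * β y) (Ne.symm hy1) (Ne.symm hy₁1)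
    · intro h
      apply hy
      have h2 : β y = y⁻¹ := (inv_eq_of_mul_eq_one_right h.symm).symm
      rw [h2, hinv]
    · exact Ne.symm hy
    · intro h
      exact hy₁1 (mul_left_cancel (a := y) (by rw [← h, mul_one]))
    · intro h
      apply hy1
      have h2 : 1 * β y = y * β y := by rw [one_mul]; exact h
      exact (mul_right_cancel h2).symm
  have hy₂ : β (β y) = y ∨ β (β y) = y * β y := by
    rcases hall (β (β y)) with h | h | h | h
    · exact absurd (β.injective (h.trans (map_one β).symm)) hy₁1
    · exact Or.inl h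
    · exact absurd (β.injective h) hy
    · exact Or.inr h
  rcases hy₂ with h2 | h2
  · have hsq : ∀ q, β (β q) = q := by
      intro q
      rcases hall q with rfl | rfl | rfl | rfl
      · simp
      · exact h2
      · rw [h2]
      · rw [map_mul, map_mul, h2]
    refine ⟨hsq, ?_⟩
    intro f hf
    rcases hall f with rfl | rfl | rfl | rfl
    · left; rfl
    · exact absurd hf hy
    · exfalso
      exact hy (h2.symm.trans hf).symm
    · right
      exact hcomm _ _
  · exfalso
    have h3 : β (y * β y) = y := by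
      rw [map_mul, h2, hcomm y, ← mul_assoc, hexp, one_mul]
    have hcyc : ∀ j : ℕ, (β : Q → Q)^[3 * j] y = y ∧ (β : Q → Q)^[3 * j + 1] y = β y ∧
        (β : Q → Q)^[3 * j + 2] y = y * β y := by
      intro j
      induction j with
      | zero => exact ⟨rfl, rfl, h2⟩
      | succ j ih =>
        obtain ⟨-, -, h2'⟩ := ih
        have e0 : (β : Q → Q)^[3 * (j + 1)] y = y := by
          have : 3 * (j + 1) = (3 * j + 2) + 1 := by ring
          rw [this, Function.iterate_succ_apply', h2', h3]
        have e1 : (β : Q → Q)^[3 * (j + 1) + 1] y = β y := by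
          rw [Function.iterate_succ_apply', e0]
        have e2 : (β : Q → Q)^[3 * (j + 1) + 2] y = y * β y := by
          have : 3 * (j + 1) + 2 = (3 * (j + 1) + 1) + 1 := by ring
          rw [this, Function.iterate_succ_apply', e1, h2]
        exact ⟨e0, e1, e2⟩
    have hmod : 2 ^ k % 3 ≠ 0 := by
      intro h
      have h3 : 3 ∣ 2 ^ k := Nat.dvd_of_mod_eq_zero h
      have h4 : 3 ∣ 2 := (Nat.Prime.dvd_of_dvd_pow Nat.prime_three h3)
      omega
    obtain ⟨j, hj⟩ : ∃ j, 2 ^ k = 3 * j + 1 ∨ 2 ^ k = 3 * j + 2 := ⟨2 ^ k / 3, by omega⟩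
    rcases hj with hj | hj
    · have := (hcyc j).2.1
      rw [← hj, hβ] at this
      exact hy this.symm
    · have := (hcyc j).2.2
      rw [← hj, hβ] at this
      exact hy₁1 (mul_left_cancel (a := y) (by rw [← this, mul_one]))

section es

variable {E : Type*} [Group E] {z : E}

theorem mem_center_iff' (hE : IsES2 E z) (c : E) : c ∈ Subgroup.center E ↔ c = 1 ∨ c = z := by
  rw [Subgroup.mem_center_iff, ← hE.center c]
  constructor
  · intro h g; exact (h g).symm
  · intro h g; exact (h g).symm

theorem mk_eq_iff (hE : IsES2 E z) (a b : E) :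
    (QuotientGroup.mk a : E ⧸ Subgroup.center E) = QuotientGroup.mk b ↔ a = b ∨ a = z * b := by
  rw [QuotientGroup.eq, mem_center_iff' hE]
  constructor
  · rintro (h | h)
    · left
      have := inv_mul_eq_one.1 h
      exact this
    · right
      have h1 : b = a * z := by rw [← h]; group
      rw [h1, hE.central, mul_assoc, hE.sq, mul_one]
  · rintro (h | h)
    · left; rw [h]; group
    · right
      have hzi : z⁻¹ = z := inv_eq_of_mul_eq_one_left hE.sq
      calc a⁻¹ * b = b⁻¹ * z⁻¹ * b := by rw [h]; group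
        _ = b⁻¹ * (z * b) := by rw [hzi, mul_assoc]
        _ = b⁻¹ * (b * z) := by rw [hE.central]
        _ = z := by group

theorem card_center (hE : IsES2 E z) : Nat.card (Subgroup.center E) = 2 := by
  rw [Nat.card_eq_two_iff]
  refine ⟨1, ⟨z, (mem_center_iff' hE z).2 (Or.inr rfl)⟩, ?_, ?_⟩
  · intro h
    exact hE.ne_one (congrArg Subtype.val h).symm
  · ext c
    simp only [Set.mem_insert_iff, Set.mem_singleton_iff, Set.mem_univ, iff_true]
    rcases (mem_center_iff' hE c).1 c.2 with h | h
    · left; exact Subtype.ext h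
    · right; exact Subtype.ext h

/-- automorphisms of `2`-power order of an extraspecial group of order `8` -/
theorem card8_aut [Finite E] (hE : IsES2 E z) (hcard : Nat.card E = 8) (α : E ≃* E) (k : ℕ)
    (hα : ∀ e, (α : E → E)^[2 ^ k] e = e) :
    (∀ e, α e = e ∨ α e = z * e) ∨
      ∃ y, (∀ e, α (α e) = e ∨ α (α e) = z * e) ∧
        ∀ f, α f = f → (f = 1 ∨ f = z) ∨ (f = α y * y⁻¹ ∨ f = z * (α y * y⁻¹)) := by
  have hmap : (Subgroup.center E).map (α : E →* E) = Subgroup.center E :=
    Subgroup.characteristic_iff_map_eq.mp inferInstance α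
  let β : E ⧸ Subgroup.center E ≃* E ⧸ Subgroup.center E :=
    QuotientGroup.congr (Subgroup.center E) (Subgroup.center E) α hmap
  have hβmk : ∀ e : E, β (QuotientGroup.mk e) = QuotientGroup.mk (α e) :=
    fun e => QuotientGroup.congr_mk (Subgroup.center E) (Subgroup.center E) α hmap e
  have hiter : ∀ (j : ℕ) (e : E), (β : _ → _)^[j] (QuotientGroup.mk e) =
      QuotientGroup.mk ((α : E → E)^[j] e) := by
    intro j
    induction j with
    | zero => intro e; rfl
    | succ j ih =>
      intro e
      rw [Function.iterate_succ_apply', Function.iterate_succ_apply', ih, hβmk]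
  have hexp : ∀ q : E ⧸ Subgroup.center E, q * q = 1 := by
    intro q
    obtain ⟨e, rfl⟩ := QuotientGroup.mk_surjective q
    rw [← QuotientGroup.mk_mul, QuotientGroup.eq_one_iff, mem_center_iff' hE]
    exact hE.sqs e
  have hcardQ : Nat.card (E ⧸ Subgroup.center E) = 4 := by
    have h1 := Subgroup.card_mul_index (Subgroup.center E)
    rw [card_center hE, hcard] at h1
    have h2 : (Subgroup.center E).index = 4 := by omega
    exact h2
  have hβ : ∀ q, (β : _ → _)^[2 ^ k] q = q := by
    intro q
    obtain ⟨e, rfl⟩ := QuotientGroup.mk_surjective q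
    rw [hiter, hα]
  rcases klein_aut hexp hcardQ β k hβ with h | ⟨y, hsq, hfix⟩
  · left
    intro e
    have := h (QuotientGroup.mk e)
    rw [hβmk] at this
    exact (mk_eq_iff hE _ _).1 this
  · right
    obtain ⟨y, rfl⟩ := QuotientGroup.mk_surjective y
    refine ⟨y, ?_, ?_⟩
    · intro e
      have := hsq (QuotientGroup.mk e)
      rw [hβmk, hβmk] at this
      exact (mk_eq_iff hE _ _).1 this
    · intro f hf
      have h1 : β (QuotientGroup.mk f) = QuotientGroup.mk f := by rw [hβmk, hf]
      rcases hfix _ h1 with h2 | h2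
      · left
        have h3 : (QuotientGroup.mk f : E ⧸ Subgroup.center E) = QuotientGroup.mk 1 := h2
        have := (mk_eq_iff hE _ _).1 h3
        rwa [mul_one] at this
      · right
        rw [hβmk, ← QuotientGroup.mk_inv, ← QuotientGroup.mk_mul] at h2
        exact (mk_eq_iff hE _ _).1 h2

end es

end Cfsg.Agent.Lib.Helper54_ES8
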