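import Mathlib

/-!
# Helper54_F25

A computable model `F25 = (ℤ/5)[t]`, `t² = 2`, of the field with twenty-five elements (a type synonym
of `ZMod 5 × ZMod 5`), with `Field`, `Fintype`, `DecidableEq` instances, the Frobenius
`x ↦ x ^ 5 = conj x`, and a ring isomorphism from any field with twenty-five elements.
-/

set_option autoImplicit false

namespace Cfsg.Agent.Lib.Helper54_F25

/-- The field with twenty-five elements `(ℤ/5)[t]`, `t² = 2`. -/
def F25 : Type := ZMod 5 × ZMod 5

namespace F25

instance : DecidableEq F25 := inferInstanceAs (DecidableEq (ZMod 5 × ZMod 5))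
instance : Fintype F25 := inferInstanceAs (Fintype (ZMod 5 × ZMod 5))

/-- `a + b t`. -/
def mk (a b : ZMod 5) : F25 := (a, b)

def re (x : F25) : ZMod 5 := x.1
def im (x : F25) : ZMod 5 := x.2

@[ext] theorem ext {x y : F25} (h1 : x.re = y.re) (h2 : x.im = y.im) : x = y := Prod.ext h1 h2

instance : Zero F25 := ⟨mk 0 0⟩
instance : One F25 := ⟨mk 1 0⟩
instance : Add F25 := ⟨fun x y => mk (x.re + y.re) (x.im + y.im)⟩
instance : Neg F25 := ⟨fun x => mk (-x.re) (-x.im)⟩
instance : Mul F25 := ⟨fun x y => mk (x.re * y.re + 2 * (x.im * y.im)) (x.re * y.im + x.im * y.re)⟩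
instance : Inv F25 :=
  ⟨fun x => mk (x.re * (x.re * x.re - 2 * (x.im * x.im)) ^ 3)
    (-x.im * (x.re * x.re - 2 * (x.im * x.im)) ^ 3)⟩

@[simp] theorem zero_re : (0 : F25).re = 0 := rfl
@[simp] theorem zero_im : (0 : F25).im = 0 := rfl
@[simp] theorem one_re : (1 : F25).re = 1 := rfl
@[simp] theorem one_im : (1 : F25).im = 0 := rfl
@[simp] theorem add_re (x y : F25) : (x + y).re = x.re + y.re := rfl
@[simp] theorem add_im (x y : F25) : (x + y).im = x.im + y.im := rfl
@[simp] theorem neg_re (x : F25) : (-x).re = -x.re := rfl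
@[simp] theorem neg_im (x : F25) : (-x).im = -x.im := rfl
@[simp] theorem mul_re (x y : F25) : (x * y).re = x.re * y.re + 2 * (x.im * y.im) := rfl
@[simp] theorem mul_im (x y : F25) : (x * y).im = x.re * y.im + x.im * y.re := rfl
@[simp] theorem mk_re (a b : ZMod 5) : (mk a b).re = a := rfl
@[simp] theorem mk_im (a b : ZMod 5) : (mk a b).im = b := rfl

instance : CommRing F25 where
  add_assoc := by intro x y z; ext <;> simp <;> ring
  zero_add := by intro x; ext <;> simp
  add_zero := by intro x; ext <;> simp
  nsmul := nsmulRec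
  zsmul := zsmulRec
  neg_add_cancel := by intro x; ext <;> simp
  add_comm := by intro x y; ext <;> simp <;> ring
  left_distrib := by intro x y z; ext <;> simp <;> ring
  right_distrib := by intro x y z; ext <;> simp <;> ring
  zero_mul := by intro x; ext <;> simp
  mul_zero := by intro x; ext <;> simp
  mul_assoc := by intro x y z; ext <;> simp <;> ring
  one_mul := by intro x; ext <;> simp
  mul_one := by intro x; ext <;> simp
  mul_comm := by intro x y; ext <;> simp <;> ring

instance : Field F25 where
  exists_pair_ne := ⟨0, 1, by decide⟩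
  mul_inv_cancel := by decide
  inv_zero := by decide
  nnqsmul := _
  nnqsmul_def := fun _ _ => rfl
  qsmul := _
  qsmul_def := fun _ _ => rfl

theorem card : Fintype.card F25 = 25 := by decide

/-- the generator `t` with `t ^ 2 = 2` -/
def t : F25 := mk 0 1

theorem t_sq : t * t = 2 := by decide

/-- the conjugation `a + b t ↦ a - b t` -/
def conj (x : F25) : F25 := mk x.re (-x.im)

theorem pow_five : ∀ x : F25, x ^ 5 = conj x := by decide

theorem five_eq_zero : (5 : F25) = 0 := by decide

/-- Index of an element, `0 ≤ idx < 25`. -/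
def idx (x : F25) : ℕ := 5 * x.re.val + x.im.val

end F25

/-- Any field with twenty-five elements is isomorphic to `F25`. -/
noncomputable def ringEquivF25 {F : Type*} [Field F] [Fintype F] (hF : Fintype.card F = 25) :
    F ≃+* F25 :=
  FiniteField.ringEquivOfCardEq (hF.trans F25.card.symm)

end Cfsg.Agent.Lib.Helper54_F25
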