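import Mathlib
import Cfsg.Agent.Lib.Helper6_FT3Defs
import Cfsg.Agent.Lib.Helper54_FT3_A5F

/-!
# S3331 package FT3-HIGE (core): the preimage of an invariant four-group is 2-Engel

The facts of the packages BASIC and SIG enter as explicit hypotheses.
-/

set_option autoImplicit false

open Cfsg Cfsg.Agent.Lib.Helper6_FT3Defs

namespace Cfsg.Agent.Lib.Helper54_FT3_HIGECore

universe u

variable {G : Type u} [Group G] [Finite G] {X : Subgroup G}

/-- a generator of `X` -/
theorem exists_gen (h : Hyp G X) : ∃ x ∈ X, x ≠ 1 ∧ orderOf x = 3 ∧ X = Subgroup.zpowers x := by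
  have : Fact (Nat.Prime 3) := ⟨Nat.prime_three⟩
  rcases X.bot_or_exists_ne_one with hb | ⟨x, hx, hx1⟩
  · exfalso
    have := h.1
    rw [hb, Subgroup.card_bot] at this
    omega
  · have hle : Subgroup.zpowers x ≤ X := (Subgroup.zpowers_le).2 hx
    have hdvd : orderOf x ∣ 3 := by
      rw [← Nat.card_zpowers, ← h.1]
      exact Subgroup.card_dvd_of_le hle
    have hox : orderOf x = 3 := by
      rcases (Nat.dvd_prime Nat.prime_three).1 hdvd with h1 | h3
      · exact absurd (orderOf_eq_one_iff.1 h1) hx1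
      · exact h3
    refine ⟨x, hx, hx1, hox, ?_⟩
    exact (Subgroup.eq_of_le_of_card_ge hle (by rw [Nat.card_zpowers, hox, h.1])).symm

/-- the purely group theoretic Engel argument -/
theorem engel_of_comm {T : Subgroup G} {x : G} (hxT : x ∈ Subgroup.normalizer (T : Set G))
    (hA : ∀ w ∈ T, ∀ u ∈ T, Commute w (u * (x * w * x⁻¹) * u⁻¹))
    (hmul : ∀ w ∈ T, w * (x * w * x⁻¹) * (x⁻¹ * w * x) = 1) :
    ∀ w ∈ T, ∀ u ∈ T, Commute w (u * w * u⁻¹) := by
  have hphi : ∀ t ∈ T, x * t * x⁻¹ ∈ T := fun t ht => (Subgroup.mem_normalizer_iff.1 hxT t).1 ht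
  have hpsi : ∀ t ∈ T, x⁻¹ * t * x ∈ T := fun t ht =>
    (Subgroup.mem_normalizer_iff''.1 hxT t).1 ht
  intro w hw u hu
  -- (B): the conjugate commutes with `φ w`
  have hB : Commute (u * w * u⁻¹) (x * w * x⁻¹) := by
    have hw' : u * w * u⁻¹ ∈ T := T.mul_mem (T.mul_mem hu hw) (T.inv_mem hu)
    have hu' : x * u⁻¹ * x⁻¹ ∈ T := hphi _ (T.inv_mem hu)
    have := hA _ hw' _ hu'
    have e : x * u⁻¹ * x⁻¹ * (x * (u * w * u⁻¹) * x⁻¹) * (x * u⁻¹ * x⁻¹)⁻¹ = x * w * x⁻¹ := by
      group
    rwa [e] at this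
  -- (C): the conjugate commutes with `φ² w`
  have hC : Commute (u * w * u⁻¹) (x⁻¹ * w * x) := by
    have := hA _ (hpsi w hw) u hu
    have e : u * (x * (x⁻¹ * w * x) * x⁻¹) * u⁻¹ = u * w * u⁻¹ := by group
    rw [e] at this
    exact this.symm
  -- (D)
  have hD : w⁻¹ = (x * w * x⁻¹) * (x⁻¹ * w * x) := by
    have := hmul w hw
    rw [mul_assoc] at this
    exact inv_eq_of_mul_eq_one_right this
  have h1 : Commute (u * w * u⁻¹) w⁻¹ := by
    rw [hD]
    exact hB.mul_right hC
  exact (Commute.inv_right_iff.1 h1).symm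

/-- the core statement: the facts of BASIC and SIG as hypotheses -/
theorem engel_core
    (hB : ∀ Y : Subgroup G, Nat.card Y = 3 → Hyp G Y)
    (hS1 : ∀ X A : Subgroup G, Hyp G X → IsSig X A → ∀ x a : G, x ∈ X → x ≠ 1 → a ∈ A →
      a * (x * a * x⁻¹) * (x⁻¹ * a * x) = 1)
    (hS2 : ∀ X A : Subgroup G, Hyp G X → IsSig X A → ∀ x a : G, x ∈ X → x ≠ 1 → a ∈ A →
      Commute a (x * a * x⁻¹))
    (hS3 : ∀ X A : Subgroup G, Hyp G X → IsSig X A → ∀ x a : G, x ∈ X → x ≠ 1 → a ∈ A →
      orderOf (a * x) = 3)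
    (h : Hyp G X) (N : Subgroup G) [N.Normal] (hN2 : IsPGroup 2 N)
    (hN : Nonempty (G ⧸ N ≃* alternatingGroup (Fin 5))) :
    ∃ T : Subgroup G, N ≤ T ∧ Nat.card T = 4 * Nat.card N ∧ (∀ r ∈ T, r ^ 2 ∈ N) ∧
      ∀ w ∈ T, ∀ u ∈ T, Commute w (u * w * u⁻¹) := by
  have : Fact (Nat.Prime 3) := ⟨Nat.prime_three⟩
  obtain ⟨e⟩ := hN
  obtain ⟨x, hxX, hx1, hox, hXx⟩ := exists_gen h
  obtain ⟨k, hk⟩ := (IsPGroup.iff_card).1 hN2
  -- the projection
  let π : G →* alternatingGroup (Fin 5) := e.toMonoidHom.comp (QuotientGroup.mk' N)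
  have hπs : Function.Surjective π := e.surjective.comp (QuotientGroup.mk'_surjective N)
  have hπk : ∀ g : G, π g = 1 ↔ g ∈ N := by
    intro g
    show e (QuotientGroup.mk' N g) = 1 ↔ g ∈ N
    rw [map_eq_one_iff e e.injective]
    exact QuotientGroup.eq_one_iff g
  -- the image of `x` has order 3
  have hxN : x ∉ N := by
    intro hxN
    have h3 : 3 ∣ Nat.card N := by
      rw [← hox]
      exact Subgroup.orderOf_dvd_natCard N hxN
    rw [hk] at h3
    have := Nat.Prime.dvd_of_dvd_pow Nat.prime_three h3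
    omega
  have hoπ : orderOf (π x) = 3 := by
    apply orderOf_eq_prime
    · rw [← map_pow, ← hox, pow_orderOf_eq_one, map_one]
    · intro h1
      exact hxN ((hπk x).1 h1)
  obtain ⟨V, hV4, hV2, hVn⟩ := Cfsg.Agent.Lib.Helper54_FT3_A5F.exists_four_group
    (Subgroup.zpowers (π x)) (by rw [Nat.card_zpowers, hoπ])
  have hπxV : π x ∈ Subgroup.normalizer (V : Set (alternatingGroup (Fin 5))) :=
    hVn (Subgroup.mem_zpowers _)
  refine ⟨V.comap π, ?_, ?_, ?_, ?_⟩
  · intro n hn
    rw [Subgroup.mem_comap, (hπk n).2 hn]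
    exact V.one_mem
  · -- the order
    have h1 : Nat.card (V.comap π) * (V.comap π).index = Nat.card G := Subgroup.card_mul_index _
    have h2 : Nat.card V * V.index = Nat.card (alternatingGroup (Fin 5)) :=
      Subgroup.card_mul_index _
    have h3 : (V.comap π).index = V.index := Subgroup.index_comap_of_surjective V hπs
    have h4 : Nat.card G = Nat.card (G ⧸ N) * Nat.card N :=
      Subgroup.card_eq_card_quotient_mul_card_subgroup N
    have h5 : Nat.card (G ⧸ N) = Nat.card (alternatingGroup (Fin 5)) := Nat.card_congr e.toEquiv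
    have hpos : 0 < V.index := Nat.pos_of_ne_zero Subgroup.index_ne_zero_of_finite
    rw [h3, h4, h5, ← h2, hV4] at h1
    have : Nat.card (V.comap π) * V.index = 4 * Nat.card N * V.index := by
      rw [h1]; ring
    exact Nat.eq_of_mul_eq_mul_right hpos this
  · intro r hr
    rw [← hπk, map_pow]
    exact hV2 _ hr
  · -- the Engel property
    set T : Subgroup G := V.comap π with hT
    have hcardT : Nat.card T = 4 * Nat.card N := by
      have h1 : Nat.card (V.comap π) * (V.comap π).index = Nat.card G := Subgroup.card_mul_index _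
      have h2 : Nat.card V * V.index = Nat.card (alternatingGroup (Fin 5)) :=
        Subgroup.card_mul_index _
      have h3 : (V.comap π).index = V.index := Subgroup.index_comap_of_surjective V hπs
      have h4 : Nat.card G = Nat.card (G ⧸ N) * Nat.card N :=
        Subgroup.card_eq_card_quotient_mul_card_subgroup N
      have h5 : Nat.card (G ⧸ N) = Nat.card (alternatingGroup (Fin 5)) :=
        Nat.card_congr e.toEquiv
      have hpos : 0 < V.index := Nat.pos_of_ne_zero Subgroup.index_ne_zero_of_finite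
      rw [h3, h4, h5, ← h2, hV4] at h1
      have : Nat.card (V.comap π) * V.index = 4 * Nat.card N * V.index := by
        rw [h1]; ring
      exact Nat.eq_of_mul_eq_mul_right hpos this
    have h3T : ¬ 3 ∣ Nat.card T := by
      rw [hcardT, hk]
      intro h3
      have h4 : (3 : ℕ) ∣ 2 ^ (k + 2) := by
        have : (2 : ℕ) ^ (k + 2) = 4 * 2 ^ k := by ring
        rw [this]; exact h3
      have := Nat.Prime.dvd_of_dvd_pow Nat.prime_three h4
      omega
    have hxT : x ∈ Subgroup.normalizer (T : Set G) := by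
      rw [Subgroup.mem_normalizer_iff]
      intro t
      rw [hT, Subgroup.mem_comap, Subgroup.mem_comap, map_mul, map_mul, map_inv]
      exact Subgroup.mem_normalizer_iff.1 hπxV (π t)
    have hXT : X ≤ Subgroup.normalizer (T : Set G) := by
      rw [hXx, Subgroup.zpowers_le]
      exact hxT
    have hsigX : IsSig X T := ⟨hXT, h3T⟩
    apply engel_of_comm hxT
    · intro w hw u hu
      have hy3 : orderOf (u * x) = 3 := hS3 X T h hsigX x u hxX hx1 hu
      have hy1 : u * x ≠ 1 := by
        intro h1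
        rw [h1, orderOf_one] at hy3
        omega
      have hY : Hyp G (Subgroup.zpowers (u * x)) := hB _ (by rw [Nat.card_zpowers, hy3])
      have hyT : u * x ∈ Subgroup.normalizer (T : Set G) :=
        (Subgroup.normalizer (T : Set G)).mul_mem (Subgroup.le_normalizer hu) hxT
      have hsigY : IsSig (Subgroup.zpowers (u * x)) T :=
        ⟨(Subgroup.zpowers_le).2 hyT, h3T⟩
      have := hS2 _ T hY hsigY (u * x) w (Subgroup.mem_zpowers _) hy1 hw
      have e : u * x * w * (u * x)⁻¹ = u * (x * w * x⁻¹) * u⁻¹ := by group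
      rwa [e] at this
    · intro w hw
      exact hS1 X T h hsigX x w hxX hx1 hw

end Cfsg.Agent.Lib.Helper54_FT3_HIGECore
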