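import Mathlib
import Cfsg.Agent.Lib.Helper6_FT3Defs
import Cfsg.Agent.Lib.Helper17_FT3_SIG
import Cfsg.Agent.Lib.Helper52_FT3_BASIC
import Cfsg.Agent.Lib.Helper54_FT3_HIGECore

/-!
# S3331 package FT3-HIGE: Higman's lemma for `A5`, the Engel step
-/

set_option autoImplicit false

open Cfsg Cfsg.Agent.Lib.Helper6_FT3Defs

namespace Cfsg.Agent.Lib.Helper54_FT3_HIGE

universe u

variable {G : Type u} [Group G] [Finite G] {X : Subgroup G}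

theorem engel (h : Hyp G X) (N : Subgroup G) [N.Normal] (hN2 : IsPGroup 2 N)
    (hN : Nonempty (G ⧸ N ≃* alternatingGroup (Fin 5))) :
    ∃ T : Subgroup G, N ≤ T ∧ Nat.card T = 4 * Nat.card N ∧ (∀ r ∈ T, r ^ 2 ∈ N) ∧
      ∀ w ∈ T, ∀ u ∈ T, Commute w (u * w * u⁻¹) :=
  Cfsg.Agent.Lib.Helper54_FT3_HIGECore.engel_core
    (fun Y hY => Cfsg.Agent.Lib.Helper52_FT3_BASIC.hyp_of_card_three h Y hY)
    (fun _ _ hX hA _ _ hx hx1 ha => Cfsg.Agent.Lib.Helper17_FT3_SIG.sig_mul_conj hX hA hx hx1 ha)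
    (fun _ _ hX hA _ _ hx hx1 ha =>
      Cfsg.Agent.Lib.Helper17_FT3_SIG.sig_commute_conj hX hA hx hx1 ha)
    (fun _ _ hX hA _ _ hx hx1 ha =>
      Cfsg.Agent.Lib.Helper17_FT3_SIG.sig_orderOf_mul hX hA hx hx1 ha)
    h N hN2 hN

end Cfsg.Agent.Lib.Helper54_FT3_HIGE
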