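import Mathlib
import Cfsg.Agent.Lib.Helper4_HTDefs

/-!
# S3371 packages DIHGRP / SDGRP: common core

A finite group `G` of order `2 * (4 * c)`, `4 * c` a power of two, with `x` of order `4 * c`, an
involution `y` and `y x y⁻¹ = x ^ m`, `4 ∣ m + 1`, is `DihLike` with `z = x ^ (2 * c)`.
-/

set_option autoImplicit false

namespace Cfsg.Agent.Lib.Helper54_HT_DihCore

open Cfsg.Agent.Lib.Helper4_HTDefs

variable {G : Type*} [Group G] [Finite G]

theorem exists_pow_lt {x h : G} (hh : h ∈ Subgroup.zpowers x) : ∃ i < orderOf x, x ^ i = h := by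
  rw [← mem_powers_iff_mem_zpowers] at hh
  obtain ⟨n, hn⟩ := (Submonoid.mem_powers_iff h x).1 hh
  refine ⟨n % orderOf x, Nat.mod_lt _ (orderOf_pos x), ?_⟩
  rw [pow_mod_orderOf, hn]

section core

variable (c m : ℕ) (hc : 0 < c) (x y : G)
  (hcard : Nat.card G = 2 * (4 * c)) (hx : orderOf x = 4 * c) (hy : orderOf y = 2)
  (hrel : y * x * y⁻¹ = x ^ m) (hm : 4 ∣ m + 1)

include hx in
theorem z_sq : (x ^ (2 * c)) ^ 2 = 1 := by
  rw [← pow_mul]
  have : 2 * c * 2 = 4 * c := by ring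
  rw [this, ← hx, pow_orderOf_eq_one]

include hx hc in
theorem z_ne_one : x ^ (2 * c) ≠ 1 :=
  pow_ne_one_of_lt_orderOf (by omega) (by rw [hx]; omega)

include hrel in
theorem conj_pow' (j : ℕ) : y * x ^ j * y⁻¹ = x ^ (m * j) := by
  rw [← conj_pow, hrel, ← pow_mul]

include hrel in
theorem y_mul_pow (j : ℕ) : y * x ^ j = x ^ (m * j) * y := by
  rw [← conj_pow' m x y hrel j]
  group

include hy in
theorem y_mul_y : y * y = 1 := by
  have := pow_orderOf_eq_one y
  rwa [hy, pow_two] at this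

include hx hrel hm in
theorem y_mul_z : y * x ^ (2 * c) = x ^ (2 * c) * y := by
  rw [y_mul_pow m x y hrel]
  congr 1
  obtain ⟨s, hs⟩ := hm
  have hs1 : 1 ≤ s := by omega
  obtain ⟨t, rfl⟩ : ∃ t, s = t + 1 := ⟨s - 1, by omega⟩
  have hmm : m = 4 * t + 3 := by omega
  rw [pow_eq_pow_iff_modEq, hx, hmm]
  have : (4 * t + 3) * (2 * c) = 2 * c + 4 * c * (2 * t + 1) := by ring
  rw [this]
  exact Nat.add_mul_mod_self_left _ _ _


include hc hx hrel hm in
theorem y_not_mem : y ∉ Subgroup.zpowers x := by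
  intro hmem
  obtain ⟨j, _, hj⟩ := exists_pow_lt hmem
  have hcomm : y * x * y⁻¹ = x := by
    rw [← hj]
    have : x ^ j * x = x * x ^ j := by rw [← pow_succ, ← pow_succ']
    rw [this, mul_assoc, mul_inv_cancel, mul_one]
  rw [hcomm] at hrel
  have h1 : x ^ 1 = x ^ m := by rw [pow_one]; exact hrel
  rw [pow_eq_pow_iff_modEq, hx] at h1
  have h2 : (4 * c : ℤ) ∣ (m : ℤ) - 1 := by
    have := (Nat.modEq_iff_dvd).1 h1
    simpa using this
  have h3 : (4 : ℤ) ∣ (m : ℤ) - 1 := dvd_trans ⟨(c : ℤ), rfl⟩ h2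
  have h4 : (4 : ℤ) ∣ (m : ℤ) + 1 := by exact_mod_cast hm
  omega

include hcard hx in
theorem index_zpowers : (Subgroup.zpowers x).index = 2 := by
  have h1 := Subgroup.card_mul_index (Subgroup.zpowers x)
  rw [Nat.card_zpowers, hx, hcard] at h1
  have hpos : 0 < 4 * c := by
    rcases Nat.eq_zero_or_pos (4 * c) with h | h
    · rw [h] at hcard
      have := Nat.card_pos (α := G)
      omega
    · exact h
  have : 4 * c * (Subgroup.zpowers x).index = 4 * c * 2 := by rw [h1]; ring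
  exact Nat.eq_of_mul_eq_mul_left hpos this

include hc hcard hx hrel hm in
/-- every element is `x ^ i` or `x ^ i * y` -/
theorem decomp (g : G) : g ∈ Subgroup.zpowers x ∨ ∃ i < 4 * c, g = x ^ i * y := by
  by_cases hg : g ∈ Subgroup.zpowers x
  · exact Or.inl hg
  · right
    have hidx := index_zpowers c x hcard hx
    have hy' : y⁻¹ ∉ Subgroup.zpowers x := by
      rw [inv_mem_iff]
      exact y_not_mem c m hc x y hx hrel hm
    have h1 : g * y⁻¹ ∈ Subgroup.zpowers x := by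
      rw [Subgroup.mul_mem_iff_of_index_two hidx]
      exact ⟨fun h => absurd h hg, fun h => absurd h hy'⟩
    obtain ⟨i, hi, hxi⟩ := exists_pow_lt h1
    rw [hx] at hi
    refine ⟨i, hi, ?_⟩
    rw [hxi]
    group

include hc hx hrel hm in
theorem pow_mul_y_not_mem (i : ℕ) : x ^ i * y ∉ Subgroup.zpowers x := by
  intro h
  apply y_not_mem c m hc x y hx hrel hm
  have h1 : (x ^ i)⁻¹ * (x ^ i * y) ∈ Subgroup.zpowers x :=
    (Subgroup.zpowers x).mul_mem ((Subgroup.zpowers x).inv_mem (Subgroup.npow_mem_zpowers x i)) h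
  rwa [inv_mul_cancel_left] at h1

include hc hcard hx hrel hm in
theorem z_mem_center : x ^ (2 * c) ∈ Subgroup.center G := by
  rw [Subgroup.mem_center_iff]
  intro g
  rcases decomp c m hc x y hcard hx hrel hm g with hg | ⟨i, _, rfl⟩
  · obtain ⟨j, _, rfl⟩ := exists_pow_lt hg
    rw [← pow_add, ← pow_add, add_comm]
  · rw [mul_assoc, y_mul_z c m x y hx hrel hm, ← mul_assoc, ← mul_assoc, ← pow_add, ← pow_add,
      add_comm]

include hx in
/-- the involutions of the cyclic group: `x ^ a` with `(x ^ a) ^ 2 = 1` is `1` or `z` -/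
theorem pow_sq_eq_one {a : ℕ} (h : (x ^ a) ^ 2 = 1) : x ^ a = 1 ∨ x ^ a = x ^ (2 * c) := by
  rw [← pow_mul] at h
  have hdvd := orderOf_dvd_of_pow_eq_one h
  rw [hx] at hdvd
  obtain ⟨b, hb⟩ := hdvd
  have ha : a = 2 * c * b := by linarith
  rcases Nat.even_or_odd' b with ⟨t, ht | ht⟩
  · left
    rw [ha, ht]
    have : 2 * c * (2 * t) = 4 * c * t := by ring
    rw [this, pow_mul, ← hx, pow_orderOf_eq_one, one_pow]
  · right
    rw [ha, ht]
    have : 2 * c * (2 * t + 1) = 4 * c * t + 2 * c := by ring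
    rw [this, pow_add, pow_mul, ← hx, pow_orderOf_eq_one, one_pow, one_mul]

include hy hrel in
theorem sq_pow_mul_y (i : ℕ) : (x ^ i * y) ^ 2 = x ^ (i * (m + 1)) := by
  rw [pow_two]
  calc x ^ i * y * (x ^ i * y) = x ^ i * (y * x ^ i) * y := by group
    _ = x ^ i * (x ^ (m * i) * y) * y := by rw [y_mul_pow m x y hrel]
    _ = x ^ i * x ^ (m * i) * (y * y) := by group
    _ = x ^ (i * (m + 1)) := by
        rw [y_mul_y y hy, mul_one, ← pow_add]
        congr 1
        ring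


include hc hx in
/-- a nontrivial element of `⟨x⟩` has `z` among its powers -/
theorem z_mem_of_mem (h2 : ∃ e, 4 * c = 2 ^ e) {H : Subgroup G} {h : G} (hH : h ∈ H)
    (hh : h ∈ Subgroup.zpowers x) (h1 : h ≠ 1) : x ^ (2 * c) ∈ H := by
  obtain ⟨e, he⟩ := h2
  obtain ⟨i, _, rfl⟩ := exists_pow_lt hh
  have hdvd : orderOf (x ^ i) ∣ 2 ^ e := by
    rw [← he, ← hx]
    exact orderOf_pow_dvd i
  obtain ⟨j, _, hj⟩ := (Nat.dvd_prime_pow Nat.prime_two).1 hdvd
  have hj0 : j ≠ 0 := by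
    rintro rfl
    rw [pow_zero, orderOf_eq_one_iff] at hj
    exact h1 hj
  obtain ⟨j', rfl⟩ : ∃ j', j = j' + 1 := ⟨j - 1, by omega⟩
  have hw1 : (x ^ i) ^ (2 ^ j') ≠ 1 := by
    apply pow_ne_one_of_lt_orderOf (by positivity)
    rw [hj]
    exact Nat.pow_lt_pow_right (by norm_num) (by omega)
  have hw2 : ((x ^ i) ^ (2 ^ j')) ^ 2 = 1 := by
    rw [← pow_mul, ← pow_succ, ← hj, pow_orderOf_eq_one]
  have hwH : (x ^ i) ^ (2 ^ j') ∈ H := H.pow_mem hH _
  have e' : (x ^ i) ^ (2 ^ j') = x ^ (i * 2 ^ j') := (pow_mul x i _).symm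
  rw [e'] at hw1 hw2 hwH
  rcases pow_sq_eq_one c x hx hw2 with h | h
  · exact absurd h hw1
  · rwa [h] at hwH

include hc hcard hx hrel hm in
theorem card_le_two (h2 : ∃ e, 4 * c = 2 ^ e) (H : Subgroup G)
    (hH : ∀ h ∈ H, h ∈ Subgroup.center G → h = 1) : Nat.card H ≤ 2 := by
  have hzc := z_mem_center c m hc x y hcard hx hrel hm
  have hz1 := z_ne_one c hc x hx
  have hA : ∀ h ∈ H, h ∈ Subgroup.zpowers x → h = 1 := by
    intro h hh hhx
    by_contra hne
    exact hz1 (hH _ (z_mem_of_mem c hc x hx h2 hh hhx hne) hzc)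
  by_cases hall : ∀ h ∈ H, h = 1
  · have : H = ⊥ := (Subgroup.eq_bot_iff_forall H).2 hall
    rw [this, Subgroup.card_bot]
    norm_num
  · push Not at hall
    obtain ⟨h₁, hh₁, hne⟩ := hall
    have hh₁x : h₁ ∉ Subgroup.zpowers x := fun h => hne (hA h₁ hh₁ h)
    have hidx := index_zpowers c x hcard hx
    have hsub : (H : Set G) ⊆ {1, h₁} := by
      intro h hh
      by_cases hhx : h ∈ Subgroup.zpowers x
      · left
        exact hA h hh hhx
      · right
        have h3 : h * h₁⁻¹ ∈ Subgroup.zpowers x := by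
          rw [Subgroup.mul_mem_iff_of_index_two hidx]
          refine ⟨fun h' => absurd h' hhx, fun h' => ?_⟩
          rw [inv_mem_iff] at h'
          exact absurd h' hh₁x
        have h4 := hA _ (H.mul_mem hh (H.inv_mem hh₁)) h3
        exact mul_inv_eq_one.1 h4
    calc Nat.card H = (H : Set G).ncard := Nat.card_coe_set_eq (H : Set G)
      _ ≤ ({1, h₁} : Set G).ncard := Set.ncard_le_ncard hsub (Set.toFinite _)
      _ ≤ 2 := by
        have := Set.ncard_insert_le (1 : G) {h₁}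
        rw [Set.ncard_singleton] at this
        exact this

include hc hcard hx hrel hm in
theorem conj_invol (t : G) (ht : t ^ 2 = 1) (ht1 : t ≠ 1) (htz : t ≠ x ^ (2 * c)) :
    ∃ g : G, g * t * g⁻¹ = t * x ^ (2 * c) := by
  rcases decomp c m hc x y hcard hx hrel hm t with htx | ⟨i, _, rfl⟩
  · exfalso
    obtain ⟨a, _, rfl⟩ := exists_pow_lt htx
    rcases pow_sq_eq_one c x hx ht with h | h
    · exact ht1 h
    · exact htz h
  · refine ⟨x ^ c, ?_⟩
    rw [mul_inv_eq_iff_eq_mul]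
    have hR : x ^ i * y * x ^ (2 * c) * x ^ c = x ^ (i + m * (2 * c + c)) * y := by
      rw [mul_assoc, ← pow_add, mul_assoc, y_mul_pow m x y hrel, ← mul_assoc, ← pow_add]
    have hL : x ^ c * (x ^ i * y) = x ^ (c + i) * y := by
      rw [← mul_assoc, ← pow_add]
    rw [hR, hL]
    congr 1
    rw [pow_eq_pow_iff_modEq, hx]
    obtain ⟨s, hs⟩ := hm
    obtain ⟨t', rfl⟩ : ∃ t', s = t' + 1 := ⟨s - 1, by omega⟩
    have hmm : m = 4 * t' + 3 := by omega
    rw [hmm]
    have : i + (4 * t' + 3) * (2 * c + c) = (c + i) + 4 * c * (3 * t' + 2) := by ring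
    rw [this]
    exact (Nat.add_mul_mod_self_left _ _ _).symm

include hc hcard hx hy hrel hm in
/-- the involutions other than `z` -/
theorem invol_iff (t : G) : (t ^ 2 = 1 ∧ t ≠ 1 ∧ t ≠ x ^ (2 * c)) ↔
    ∃ i ∈ (Finset.range (4 * c)).filter (fun i => 4 * c ∣ i * (m + 1)), t = x ^ i * y := by
  constructor
  · rintro ⟨ht, ht1, htz⟩
    rcases decomp c m hc x y hcard hx hrel hm t with htx | ⟨i, hi, rfl⟩
    · exfalso
      obtain ⟨a, _, rfl⟩ := exists_pow_lt htx
      rcases pow_sq_eq_one c x hx ht with h | h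
      · exact ht1 h
      · exact htz h
    · refine ⟨i, ?_, rfl⟩
      rw [Finset.mem_filter, Finset.mem_range]
      refine ⟨hi, ?_⟩
      rw [sq_pow_mul_y m x y hy hrel] at ht
      rw [← hx]
      exact orderOf_dvd_of_pow_eq_one ht
  · rintro ⟨i, hi, rfl⟩
    rw [Finset.mem_filter] at hi
    have hnot := pow_mul_y_not_mem c m hc x y hx hrel hm i
    refine ⟨?_, ?_, ?_⟩
    · rw [sq_pow_mul_y m x y hy hrel]
      obtain ⟨b, hb⟩ := hi.2
      rw [hb, pow_mul, ← hx, pow_orderOf_eq_one, one_pow]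
    · intro h
      rw [h] at hnot
      exact hnot (Subgroup.one_mem _)
    · intro h
      rw [h] at hnot
      exact hnot (Subgroup.npow_mem_zpowers x _)

include hc hcard hx hy hrel hm in
theorem card_invol : Nat.card {t : G // t ^ 2 = 1 ∧ t ≠ 1 ∧ t ≠ x ^ (2 * c)} =
    ((Finset.range (4 * c)).filter (fun i => 4 * c ∣ i * (m + 1))).card := by
  have hset : {t : G | t ^ 2 = 1 ∧ t ≠ 1 ∧ t ≠ x ^ (2 * c)} =
      (fun i : ℕ => x ^ i * y) ''
        ((Finset.range (4 * c)).filter (fun i => 4 * c ∣ i * (m + 1)) : Set ℕ) := by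
    ext t
    constructor
    · intro ht
      obtain ⟨i, hi, rfl⟩ := (invol_iff c m hc x y hcard hx hy hrel hm t).1 ht
      exact ⟨i, hi, rfl⟩
    · rintro ⟨i, hi, rfl⟩
      exact (invol_iff c m hc x y hcard hx hy hrel hm _).2 ⟨i, hi, rfl⟩
  have hinj : Set.InjOn (fun i : ℕ => x ^ i * y)
      ((Finset.range (4 * c)).filter (fun i => 4 * c ∣ i * (m + 1)) : Set ℕ) := by
    intro i hi j hj hij
    rw [Finset.mem_coe, Finset.mem_filter, Finset.mem_range] at hi hj
    have h1 : x ^ i = x ^ j := mul_right_cancel hij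
    exact pow_injOn_Iio_orderOf (by rw [hx]; exact hi.1) (by rw [hx]; exact hj.1) h1
  calc Nat.card {t : G // t ^ 2 = 1 ∧ t ≠ 1 ∧ t ≠ x ^ (2 * c)}
      = {t : G | t ^ 2 = 1 ∧ t ≠ 1 ∧ t ≠ x ^ (2 * c)}.ncard :=
        Nat.card_coe_set_eq {t : G | t ^ 2 = 1 ∧ t ≠ 1 ∧ t ≠ x ^ (2 * c)}
    _ = _ := by rw [hset, Set.InjOn.ncard_image hinj, Set.ncard_coe_finset]

include hc hcard hx hy hrel hm in
/-- the core statement -/
theorem dihLike_core (h2 : ∃ e, 4 * c = 2 ^ e) :
    DihLike G (x ^ (2 * c))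
      ((Finset.range (4 * c)).filter (fun i => 4 * c ∣ i * (m + 1))).card :=
  ⟨z_mem_center c m hc x y hcard hx hrel hm, z_ne_one c hc x hx, z_sq c x hx,
    card_le_two c m hc x y hcard hx hrel hm h2,
    conj_invol c m hc x y hcard hx hrel hm,
    card_invol c m hc x y hcard hx hy hrel hm⟩

end core

end Cfsg.Agent.Lib.Helper54_HT_DihCore
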