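import Mathlib
import Cfsg.Agent.Lib.Helper4_HTDefs
import Cfsg.Agent.Lib.Helper54_HT_DihCore

/-!
# S3371 package DIHGRP: the nonabelian dihedral 2-groups are `DihLike`
-/

set_option autoImplicit false

namespace Cfsg.Agent.Lib.Helper54_HT_DIHGRP

open Cfsg.Agent.Lib.Helper4_HTDefs

variable {q : ℕ} [Fact q.Prime] {V : Type*} [AddCommGroup V] [Module (ZMod q) V] [Finite V]
  {G : Type*} [Group G] [Finite G]

/-- the small dihedral groups are commutative -/
theorem comm_small (n : ℕ) (hn : n = 1 ∨ n = 2) (a b : DihedralGroup n) : a * b = b * a := by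
  rcases hn with rfl | rfl
  · revert a b
    decide
  · revert a b
    decide

/-- the defining relation in the dihedral group -/
theorem dih_rel (n : ℕ) (hn : 0 < n) :
    (DihedralGroup.sr 0 : DihedralGroup n) * DihedralGroup.r 1 * (DihedralGroup.sr 0)⁻¹ =
      (DihedralGroup.r 1) ^ (n - 1) := by
  rw [DihedralGroup.r_one_pow, DihedralGroup.inv_sr, DihedralGroup.sr_mul_r,
    DihedralGroup.sr_mul_sr]
  congr 1
  rw [Nat.cast_sub hn, ZMod.natCast_self]
  simp

theorem dihLike_of_dihedral (p : ℕ) [Fact p.Prime] (hG : IsPGroup p G) (n : ℕ)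
    (e : G ≃* DihedralGroup n) (hna : ∃ a b : G, a * b ≠ b * a) :
    p = 2 ∧ ∃ k : ℕ, 2 ≤ k ∧ n = 2 ^ k ∧ ∃ z : G, DihLike G z n := by
  have hp : p.Prime := Fact.out
  have hcard : Nat.card G = 2 * n := by
    rw [Nat.card_congr e.toEquiv, DihedralGroup.nat_card]
  have hn0 : 0 < n := by
    have := Nat.card_pos (α := G)
    omega
  obtain ⟨j, hj⟩ := (IsPGroup.iff_card).1 hG
  rw [hcard] at hj
  -- `p = 2`
  have hp2 : p = 2 := by
    have h1 : 2 ∣ p ^ j := ⟨n, hj.symm⟩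
    have h2 : 2 ∣ p := Nat.Prime.dvd_of_dvd_pow Nat.prime_two h1
    exact ((Nat.prime_dvd_prime_iff_eq Nat.prime_two hp).1 h2).symm
  subst hp2
  have hj0 : j ≠ 0 := by
    rintro rfl
    rw [pow_zero] at hj
    omega
  obtain ⟨k, rfl⟩ : ∃ k, j = k + 1 := ⟨j - 1, by omega⟩
  have hnk : n = 2 ^ k := by
    rw [pow_succ] at hj
    omega
  -- nonabelian forces `k ≥ 2`
  have hk2 : 2 ≤ k := by
    by_contra hk
    have hsmall : n = 1 ∨ n = 2 := by
      have : k = 0 ∨ k = 1 := by omega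
      rcases this with rfl | rfl
      · left; rw [hnk]; norm_num
      · right; rw [hnk]; norm_num
    obtain ⟨a, b, hab⟩ := hna
    apply hab
    apply e.injective
    rw [map_mul, map_mul]
    exact comm_small n hsmall _ _
  refine ⟨rfl, k, hk2, hnk, ?_⟩
  obtain ⟨k', rfl⟩ : ∃ k', k = k' + 2 := ⟨k - 2, by omega⟩
  have h4c : 4 * 2 ^ k' = n := by rw [hnk]; ring
  have hcpos : 0 < 2 ^ k' := by positivity
  -- the generators
  have hx : orderOf (e.symm (DihedralGroup.r 1)) = 4 * 2 ^ k' := by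
    rw [MulEquiv.orderOf_eq, DihedralGroup.orderOf_r_one, h4c]
  have hy : orderOf (e.symm (DihedralGroup.sr 0)) = 2 := by
    rw [MulEquiv.orderOf_eq, DihedralGroup.orderOf_sr]
  have hrel : e.symm (DihedralGroup.sr 0) * e.symm (DihedralGroup.r 1) *
      (e.symm (DihedralGroup.sr 0))⁻¹ = (e.symm (DihedralGroup.r 1)) ^ (n - 1) := by
    rw [← map_inv, ← map_mul, ← map_mul, ← map_pow, dih_rel n hn0]
  have hcore := Cfsg.Agent.Lib.Helper54_HT_DihCore.dihLike_core (2 ^ k') (n - 1) hcpos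
    (e.symm (DihedralGroup.r 1)) (e.symm (DihedralGroup.sr 0))
    (by rw [hcard, h4c]) hx hy hrel
    (by rw [Nat.sub_add_cancel hn0, ← h4c]; exact ⟨2 ^ k', rfl⟩)
    ⟨k' + 2, by rw [h4c, hnk]⟩
  refine ⟨(e.symm (DihedralGroup.r 1)) ^ (2 * 2 ^ k'), ?_⟩
  have hN : ((Finset.range (4 * 2 ^ k')).filter
      (fun i => 4 * 2 ^ k' ∣ i * (n - 1 + 1))).card = n := by
    rw [Nat.sub_add_cancel hn0, ← h4c]
    rw [Finset.filter_true_of_mem (fun i _ => ⟨i, by ring⟩), Finset.card_range]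
  rw [hN] at hcore
  exact hcore

end Cfsg.Agent.Lib.Helper54_HT_DIHGRP
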