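import Mathlib
import Cfsg.Agent.Lib.Helper4_HTDefs
import Cfsg.Prelude.Def_CaseTheorems
import Cfsg.Agent.Lib.Helper54_HT_DihCore

/-!
# S3371 package SDGRP: quasidihedral groups are `DihLike`
-/

set_option autoImplicit false

namespace Cfsg.Agent.Lib.Helper54_HT_SDGRP

open Cfsg.Agent.Lib.Helper4_HTDefs

variable {q : ℕ} [Fact q.Prime] {V : Type*} [AddCommGroup V] [Module (ZMod q) V] [Finite V]
  {G : Type*} [Group G] [Finite G]

omit [Finite G] in
/-- a `p`-group with an involution has `p = 2` -/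
theorem p_eq_two (p : ℕ) [hp : Fact p.Prime] (hG : IsPGroup p G) {y : G} (hy : orderOf y = 2) :
    p = 2 := by
  obtain ⟨j, hj⟩ := hG y
  have h1 : 2 ∣ p ^ j := by
    rw [← hy]
    exact orderOf_dvd_of_pow_eq_one hj
  have h2 : 2 ∣ p := Nat.Prime.dvd_of_dvd_pow Nat.prime_two h1
  exact ((Nat.prime_dvd_prime_iff_eq Nat.prime_two hp.out).1 h2).symm

/-- the number of even residues -/
theorem card_filter_even (c : ℕ) (hc : 0 < c) :
    ((Finset.range (4 * c)).filter (fun i => 4 * c ∣ i * (2 * c))).card = 2 * c := by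
  have : (Finset.range (4 * c)).filter (fun i => 4 * c ∣ i * (2 * c)) =
      (Finset.range (2 * c)).image (fun j => 2 * j) := by
    ext i
    rw [Finset.mem_filter, Finset.mem_range, Finset.mem_image]
    constructor
    · rintro ⟨hi, b, hb⟩
      have h1 : i * (2 * c) = (2 * b) * (2 * c) := by rw [hb]; ring
      have h2 : i = 2 * b := Nat.eq_of_mul_eq_mul_right (by omega) h1
      exact ⟨b, Finset.mem_range.2 (by omega), h2.symm⟩
    · rintro ⟨j, hj, rfl⟩
      rw [Finset.mem_range] at hj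
      exact ⟨by omega, j, by ring⟩
  rw [this, Finset.card_image_of_injective _ (fun a b h => by
    have h' : 2 * a = 2 * b := h
    omega), Finset.card_range]

theorem dihLike_of_quasidihedral (p : ℕ) [Fact p.Prime] (hG : IsPGroup p G)
    (hsd : Cfsg.IsQuasiDihedral G) :
    p = 2 ∧ ∃ k : ℕ, 2 ≤ k ∧ Nat.card G = 2 ^ (k + 2) ∧ ∃ z : G, DihLike G z (2 ^ k) := by
  obtain ⟨n, hn, hcard, x, y, hx, hy, hrel⟩ := hsd
  refine ⟨p_eq_two p hG hy, n - 1, by omega, ?_, ?_⟩
  · rw [hcard]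
    congr 1
    omega
  · obtain ⟨n', rfl⟩ : ∃ n', n = n' + 3 := ⟨n - 3, by omega⟩
    -- `c = 2 ^ (n' + 1)`
    have h4c : 4 * 2 ^ (n' + 1) = 2 ^ (n' + 3) := by ring
    have h2c : 2 * 2 ^ (n' + 1) = 2 ^ (n' + 3 - 1) := by
      rw [show n' + 3 - 1 = n' + 2 by omega]
      ring
    have hcpos : 0 < 2 ^ (n' + 1) := by positivity
    have hcore := Cfsg.Agent.Lib.Helper54_HT_DihCore.dihLike_core (2 ^ (n' + 1))
      (2 ^ (n' + 3 - 1) - 1) hcpos x y
      (by rw [hcard, h4c]; ring) (by rw [hx, h4c]) hy hrel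
      (by
        have : 1 ≤ 2 ^ (n' + 3 - 1) := Nat.one_le_two_pow
        rw [Nat.sub_add_cancel this, show n' + 3 - 1 = n' + 2 by omega]
        exact ⟨2 ^ n', by ring⟩)
      ⟨n' + 3, h4c⟩
    refine ⟨x ^ (2 * 2 ^ (n' + 1)), ?_⟩
    have hN : ((Finset.range (4 * 2 ^ (n' + 1))).filter
        (fun i => 4 * 2 ^ (n' + 1) ∣ i * (2 ^ (n' + 3 - 1) - 1 + 1))).card = 2 ^ (n' + 3 - 1) := by
      have : 1 ≤ 2 ^ (n' + 3 - 1) := Nat.one_le_two_pow
      rw [Nat.sub_add_cancel this, ← h2c]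
      exact card_filter_even _ hcpos
    rw [hN] at hcore
    exact hcore

end Cfsg.Agent.Lib.Helper54_HT_SDGRP
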