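import Cfsg.Prelude.Def_Transfer
import Cfsg.Agent.Lib.Helper1_Frattini
import Mathlib.GroupTheory.Sylow
import Mathlib.GroupTheory.SpecificGroups.Cyclic
import Mathlib.GroupTheory.Coset.Basic
import Mathlib.GroupTheory.GroupAction.Quotient
import Mathlib.GroupTheory.Abelianization.Defs
import Mathlib.Dynamics.PeriodicPts.Lemmas
import Mathlib.GroupTheory.OrderOfElement
import Mathlib.Algebra.Group.ForwardDiff
import Mathlib.Data.Nat.Choose.Sum
import Mathlib.Data.Nat.Choose.Dvd

/-!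
# The Hall-Wielandt theorem (helper54)

`P` a Sylow `p`-subgroup, `W ≤ P` weakly closed, `N = N_G(W)`, and `[u, z; p-1] = 1` for `u ∈ P`,
`z ∈ W`.  Then `P ∩ G' ≤ N'`; in the form: every homomorphism `π : N → A` into a commutative group
kills `P ∩ G'`.

Proof: the transfer `G → A` of `π` is evaluated on an element `u ∈ P ∩ G'` of least order with
`π u ≠ 1`, using a hand-made partial transfer `ptr π S t` over finite sets `S` of cosets of `N`.
The cosets other than `N` are split into orbits of `U = ⟨u⟩W`; on each orbit a maximal subgroup `M`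
of `U` over a point stabiliser is used: if `u ∉ M` the orbit has no fixed point of `u`, and if
`u ∈ M` the orbit is the union of `p` translates by `z ∈ W \ M` of an `M`-orbit, on which the
partial transfer is multiplicative; the Engel condition and Newton's forward difference formula
show that the contribution is trivial.
-/

set_option autoImplicit false

namespace Cfsg.Agent.Lib.Helper54_HallWielandt

open scoped Classical

section PartialTransfer

variable {G : Type*} [Group G] {N : Subgroup G} {A : Type*} [CommGroup A]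

/-- The chosen section of `G → G ⧸ N`. -/
noncomputable def sec (ω : G ⧸ N) : G := Quotient.out ω

theorem sec_spec (ω : G ⧸ N) : ((sec ω : G) : G ⧸ N) = ω := QuotientGroup.out_eq' ω

theorem smul_eq_mk (t : G) (ω : G ⧸ N) : t • ω = ((t * sec ω : G) : G ⧸ N) := by
  conv_lhs => rw [← sec_spec ω]
  rfl

theorem cocycle_mem (t : G) (ω : G ⧸ N) : (sec (t • ω))⁻¹ * t * sec ω ∈ N := by
  have h2 : ((sec (t • ω) : G) : G ⧸ N) = ((t * sec ω : G) : G ⧸ N) := by
    rw [sec_spec, smul_eq_mk]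
  have := QuotientGroup.eq.mp h2
  simpa [mul_assoc] using this

/-- The cocycle `s(tω)⁻¹ t s(ω) ∈ N`. -/
noncomputable def coc (t : G) (ω : G ⧸ N) : N := ⟨(sec (t • ω))⁻¹ * t * sec ω, cocycle_mem t ω⟩

theorem coc_mul (t₁ t₂ : G) (ω : G ⧸ N) : coc (t₁ * t₂) ω = coc t₁ (t₂ • ω) * coc t₂ ω := by
  apply Subtype.ext
  simp only [coc, Subgroup.coe_mul, mul_smul]
  group

/-- The partial transfer over the finite set `S` of cosets. -/
noncomputable def ptr (π : N →* A) (S : Finset (G ⧸ N)) (t : G) : A := ∏ ω ∈ S, π (coc t ω)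

theorem image_smul_eq {S : Finset (G ⧸ N)} {t : G} (hS : ∀ ω ∈ S, t • ω ∈ S) :
    S.image (fun ω => t • ω) = S := by
  apply Finset.eq_of_subset_of_card_le
  · intro x hx
    obtain ⟨ω, hω, rfl⟩ := Finset.mem_image.mp hx
    exact hS ω hω
  · rw [Finset.card_image_of_injective _ (MulAction.injective t)]

theorem prod_smul_eq {S : Finset (G ⧸ N)} {t : G} (hS : ∀ ω ∈ S, t • ω ∈ S) (f : G ⧸ N → A) :
    ∏ ω ∈ S, f (t • ω) = ∏ ω ∈ S, f ω := by
  conv_rhs => rw [← image_smul_eq hS]
  rw [Finset.prod_image (fun x _ y _ h => MulAction.injective t h)]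

theorem ptr_mul (π : N →* A) {S : Finset (G ⧸ N)} (t₁ t₂ : G) (hS : ∀ ω ∈ S, t₂ • ω ∈ S) :
    ptr π S (t₁ * t₂) = ptr π S t₁ * ptr π S t₂ := by
  unfold ptr
  simp only [coc_mul, map_mul, Finset.prod_mul_distrib]
  rw [prod_smul_eq hS (fun ω => π (coc t₁ ω))]

theorem ptr_union (π : N →* A) {S S' : Finset (G ⧸ N)} (h : Disjoint S S') (t : G) :
    ptr π (S ∪ S') t = ptr π S t * ptr π S' t := by
  unfold ptr
  rw [Finset.prod_union h]

theorem ptr_empty (π : N →* A) (t : G) : ptr π (∅ : Finset (G ⧸ N)) t = 1 := by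
  unfold ptr; simp

theorem conj_aux_mem (h : G) (ω : G ⧸ N) : (sec ω)⁻¹ * h⁻¹ * sec (h • ω) ∈ N := by
  have h2 : ((sec (h • ω) : G) : G ⧸ N) = ((h * sec ω : G) : G ⧸ N) := by
    rw [sec_spec, smul_eq_mk]
  have := QuotientGroup.eq.mp h2.symm
  simpa [mul_assoc] using this

theorem ptr_conj (π : N →* A) {S : Finset (G ⧸ N)} (h t : G) (hS : ∀ ω ∈ S, t • ω ∈ S) :
    ptr π (S.image (fun ω => h • ω)) (h * t * h⁻¹) = ptr π S t := by
  unfold ptr
  rw [Finset.prod_image (fun x _ y _ hxy => MulAction.injective h hxy)]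
  set nn : G ⧸ N → N := fun ω => ⟨(sec ω)⁻¹ * h⁻¹ * sec (h • ω), conj_aux_mem h ω⟩ with hnn
  have key : ∀ ω, coc (h * t * h⁻¹) (h • ω) = (nn (t • ω))⁻¹ * coc t ω * nn ω := by
    intro ω
    apply Subtype.ext
    have e1 : (h * t * h⁻¹) • (h • ω) = h • (t • ω) := by
      rw [← mul_smul, ← mul_smul]; congr 1; group
    simp only [coc, hnn, Subgroup.coe_mul, Subgroup.coe_inv, e1]
    group
  simp only [key, map_mul, map_inv, Finset.prod_mul_distrib, Finset.prod_inv_distrib]
  rw [prod_smul_eq hS (fun ω => π (nn ω))]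
  rw [mul_comm (∏ ω ∈ S, π (nn ω))⁻¹, mul_assoc, inv_mul_cancel, mul_one]


theorem tele (π : N →* A) (t : G) (ω : G ⧸ N) (k : ℕ) :
    ∃ hm : (sec (t ^ k • ω))⁻¹ * t ^ k * sec ω ∈ N,
      π ⟨_, hm⟩ = ∏ i ∈ Finset.range k, π (coc t (t ^ i • ω)) := by
  induction k with
  | zero =>
    have h0 : (sec (t ^ 0 • ω))⁻¹ * t ^ 0 * sec ω = 1 := by simp
    refine ⟨h0 ▸ N.one_mem, ?_⟩
    have h1 : (⟨(sec (t ^ 0 • ω))⁻¹ * t ^ 0 * sec ω, h0 ▸ N.one_mem⟩ : N) = 1 := Subtype.ext h0
    rw [h1, map_one, Finset.range_zero, Finset.prod_empty]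
  | succ k ih =>
    obtain ⟨hm, hk⟩ := ih
    have e : (sec (t ^ (k + 1) • ω))⁻¹ * t ^ (k + 1) * sec ω =
        (coc t (t ^ k • ω) : G) * ((sec (t ^ k • ω))⁻¹ * t ^ k * sec ω) := by
      simp only [coc, pow_succ', mul_smul]
      group
    have hm' : (sec (t ^ (k + 1) • ω))⁻¹ * t ^ (k + 1) * sec ω ∈ N := by
      rw [e]; exact N.mul_mem (coc t (t ^ k • ω)).2 hm
    refine ⟨hm', ?_⟩
    rw [Finset.prod_range_succ, ← hk, mul_comm, ← map_mul]
    congr 1
    apply Subtype.ext
    exact e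

/-- If every cycle of `t` on the invariant set `S` contributes trivially, the partial transfer
is trivial. -/
theorem ptr_eq_one [Finite G] (π : N →* A) (t : G) :
    ∀ (S : Finset (G ⧸ N)), (∀ ω ∈ S, t • ω ∈ S) →
      (∀ ω ∈ S, ∀ hm : (sec ω)⁻¹ * t ^ (Function.minimalPeriod (fun x : G ⧸ N => t • x) ω) *
        sec ω ∈ N, π ⟨_, hm⟩ = 1) →
      ptr π S t = 1 := by
  intro S
  induction S using Finset.strongInduction with
  | H S ih =>
    intro hS h
    by_cases hne : S = ∅
    · subst hne; exact ptr_empty π t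
    obtain ⟨ω, hω⟩ := Finset.nonempty_iff_ne_empty.mpr hne
    set r := Function.minimalPeriod (fun x : G ⧸ N => t • x) ω with hr
    have hper : t ^ r • ω = ω := MulAction.pow_smul_eq_iff_minimalPeriod_dvd.mpr dvd_rfl
    set Orb : Finset (G ⧸ N) := (Finset.range r).image (fun i => t ^ i • ω) with hOrb
    have hinj : Set.InjOn (fun i => t ^ i • ω) (Finset.range r : Set ℕ) := by
      intro i hi j hj hij
      have hI := Function.iterate_injOn_Iio_minimalPeriod (f := fun x : G ⧸ N => t • x) (x := ω)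
      have hi' : i ∈ Set.Iio (Function.minimalPeriod (fun x : G ⧸ N => t • x) ω) := by
        simpa using hi
      have hj' : j ∈ Set.Iio (Function.minimalPeriod (fun x : G ⧸ N => t • x) ω) := by
        simpa using hj
      apply hI hi' hj'
      simp only [smul_iterate_apply]
      exact hij
    have hpowS : ∀ i, t ^ i • ω ∈ S := by
      intro i
      induction i with
      | zero => simpa using hω
      | succ i ihi => rw [pow_succ', mul_smul]; exact hS _ ihi
    have hOrbS : Orb ⊆ S := by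
      intro x hx
      obtain ⟨i, -, rfl⟩ := Finset.mem_image.mp hx
      exact hpowS i
    have hOrbinv : ∀ x ∈ Orb, t • x ∈ Orb := by
      intro x hx
      obtain ⟨i, hi, rfl⟩ := Finset.mem_image.mp hx
      have hi' : i < r := Finset.mem_range.mp hi
      rw [← mul_smul, ← pow_succ']
      by_cases hir : i + 1 < r
      · exact Finset.mem_image.mpr ⟨i + 1, Finset.mem_range.mpr hir, rfl⟩
      · have : i + 1 = r := by omega
        rw [this, hper]
        have hrpos : 0 < r := by omega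
        exact Finset.mem_image.mpr ⟨0, Finset.mem_range.mpr hrpos, by simp⟩
    have hωOrb : ω ∈ Orb := by
      have hrpos : 0 < r := by
        apply Function.IsPeriodicPt.minimalPeriod_pos (orderOf_pos t)
        show (fun x : G ⧸ N => t • x)^[orderOf t] ω = ω
        rw [smul_iterate_apply, pow_orderOf_eq_one, one_smul]
      exact Finset.mem_image.mpr ⟨0, Finset.mem_range.mpr hrpos, by simp⟩
    -- the orbit contributes trivially
    have hOrb1 : ptr π Orb t = 1 := by
      unfold ptr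
      rw [hOrb, Finset.prod_image hinj]
      obtain ⟨hm, hk⟩ := tele π t ω r
      rw [← hk]
      have hm2 : (sec ω)⁻¹ * t ^ r * sec ω ∈ N := by
        have := hm; rwa [hper] at this
      have h3 := h ω hω hm2
      rw [← h3]
      congr 1
      apply Subtype.ext
      show (sec (t ^ r • ω))⁻¹ * t ^ r * sec ω = (sec ω)⁻¹ * t ^ r * sec ω
      rw [hper]
    -- the rest
    have hrest_inv : ∀ x ∈ S \ Orb, t • x ∈ S \ Orb := by
      have h1 : (S \ Orb).image (fun x => t • x) = S \ Orb := by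
        rw [Finset.image_sdiff _ _ (MulAction.injective t), image_smul_eq hS, image_smul_eq hOrbinv]
      intro x hx
      rw [← h1]
      exact Finset.mem_image_of_mem _ hx
    have hlt : S \ Orb ⊂ S := by
      refine Finset.ssubset_iff_subset_ne.mpr ⟨Finset.sdiff_subset, ?_⟩
      intro heq
      have : ω ∈ S \ Orb := by rw [heq]; exact hω
      exact (Finset.mem_sdiff.mp this).2 hωOrb
    have hrest : ptr π (S \ Orb) t = 1 :=
      ih (S \ Orb) hlt hrest_inv (fun x hx => h x (Finset.mem_sdiff.mp hx).1)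
    have hsplit : S = Orb ∪ (S \ Orb) := (Finset.union_sdiff_of_subset hOrbS).symm
    rw [hsplit, ptr_union π Finset.disjoint_sdiff, hOrb1, hrest, mul_one]

end PartialTransfer


section Seq

theorem sum_range_choose_eq (n k : ℕ) : ∑ j ∈ Finset.range n, j.choose k = n.choose (k + 1) := by
  induction n with
  | zero => simp
  | succ n ih =>
    rw [Finset.sum_range_succ, ih, Nat.choose_succ_succ, add_comm]

theorem smul_fwdDiff_iter_eq_zero {B : Type*} [AddCommGroup B] (p : ℕ) (f : ℕ → B)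
    (hpf : ∀ j, p • f j = 0) : ∀ k j, p • ((fwdDiff (1 : ℕ))^[k] f) j = 0 := by
  intro k
  induction k with
  | zero => intro j; simpa using hpf j
  | succ k ih =>
    intro j
    rw [Function.iterate_succ_apply']
    simp only [fwdDiff]
    rw [smul_sub, ih, ih, sub_zero]

/-- A sequence of elements killed by `p` whose `(p-1)`-st forward difference vanishes at `0` has
`∑_{j<p} f j = 0`. -/
theorem sum_range_eq_zero_of_fwdDiff {B : Type*} [AddCommGroup B] (p : ℕ) (hp : p.Prime)
    (f : ℕ → B) (hpf : ∀ j, p • f j = 0) (hD : ((fwdDiff (1 : ℕ))^[p - 1] f) 0 = 0) :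
    ∑ j ∈ Finset.range p, f j = 0 := by
  set D : ℕ → B := fun k => ((fwdDiff (1 : ℕ))^[k] f) 0 with hDdef
  have hnewton : ∀ j ∈ Finset.range p, f j = ∑ k ∈ Finset.range p, j.choose k • D k := by
    intro j hj
    have hj' : j < p := Finset.mem_range.mp hj
    have h1 := shift_eq_sum_fwdDiff_iter (1 : ℕ) f j 0
    have h2 : (0 : ℕ) + j • (1 : ℕ) = j := by simp
    rw [h2] at h1
    rw [h1]
    apply Finset.sum_subset
    · intro k hk
      have := Finset.mem_range.mp hk
      exact Finset.mem_range.mpr (by omega)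
    · intro k _ hk
      have hk' : j < k := by
        have := Finset.mem_range.not.mp hk
        omega
      rw [Nat.choose_eq_zero_of_lt hk', zero_smul]
  rw [Finset.sum_congr rfl hnewton, Finset.sum_comm]
  apply Finset.sum_eq_zero
  intro k hk
  have hk' : k < p := Finset.mem_range.mp hk
  rw [← Finset.sum_smul, sum_range_choose_eq]
  by_cases hkp : k = p - 1
  · have : D k = 0 := by rw [hDdef]; simp only; rw [hkp]; exact hD
    rw [this, smul_zero]
  · have hlt : k + 1 < p := by omega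
    obtain ⟨c, hc⟩ := hp.dvd_choose_self (Nat.succ_ne_zero k) hlt
    rw [hc, mul_comm, mul_smul]
    have : p • D k = 0 := smul_fwdDiff_iter_eq_zero p f hpf k 0
    rw [this, smul_zero]

end Seq


section Aux

variable {G : Type*} [Group G]

theorem mem_normalizer_of_map_conj_eq {W : Subgroup G} {g : G}
    (h : W.map (MulAut.conj g).toMonoidHom = W) : g ∈ Subgroup.normalizer (W : Set G) := by
  rw [Subgroup.mem_normalizer_iff]
  intro x
  constructor
  · intro hx
    rw [← h]
    exact ⟨x, hx, by simp [MulAut.conj_apply]⟩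
  · intro hx
    rw [← h] at hx
    obtain ⟨y, hy, hyx⟩ := hx
    have : y = x := by
      simp only [MulEquiv.coe_toMonoidHom, MulAut.conj_apply] at hyx
      have := congrArg (fun t => g⁻¹ * t * g) hyx
      simpa [mul_assoc] using this
    rwa [← this]

variable [Finite G] {p : ℕ} [Fact p.Prime]

/-- A `p`-subgroup of `N ≥ P` is `N`-conjugate into the Sylow subgroup `P`. -/
theorem exists_conj_le_sylow (P : Sylow p G) (N : Subgroup G) (hPN : (P : Subgroup G) ≤ N)
    (R : Subgroup G) (hRN : R ≤ N) (hR : IsPGroup p R) :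
    ∃ c ∈ N, ∀ r ∈ R, c * r * c⁻¹ ∈ (P : Subgroup G) := by
  have hR' : IsPGroup p (R.subgroupOf N) := by
    have hinj : Function.Injective ((N.subtype).comp (R.subgroupOf N).subtype) :=
      (N.subtype_injective).comp (Subgroup.subtype_injective _)
    have hcod : ∀ x : R.subgroupOf N, ((N.subtype).comp (R.subgroupOf N).subtype) x ∈ R :=
      fun x => Subgroup.mem_subgroupOf.mp x.2
    exact hR.of_injective (((N.subtype).comp (R.subgroupOf N).subtype).codRestrict R hcod)
      (fun a b hab => hinj (by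
        have := congrArg Subtype.val hab
        simpa using this))
  obtain ⟨Q, hQ⟩ := hR'.exists_le_sylow
  obtain ⟨c, hc⟩ := MulAction.exists_smul_eq N Q (P.subtype hPN)
  refine ⟨c, c.2, ?_⟩
  intro r hr
  have hrQ : (⟨r, hRN hr⟩ : N) ∈ (Q : Subgroup N) := hQ (Subgroup.mem_subgroupOf.mpr hr)
  have h1 : c * ⟨r, hRN hr⟩ * c⁻¹ ∈ ((c • Q : Sylow p N) : Subgroup N) := by
    rw [Sylow.coe_subgroup_smul]
    exact ⟨_, hrQ, by simp [MulAut.conj_apply]⟩
  rw [hc] at h1
  have h2 := Subgroup.mem_subgroupOf.mp (by simpa [Sylow.coe_subtype] using h1 :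
    c * ⟨r, hRN hr⟩ * c⁻¹ ∈ (P : Subgroup G).subgroupOf N)
  simpa using h2

/-- Structure of a maximal subgroup of a `p`-subgroup `U` over a proper subgroup `K`. -/
theorem exists_maximal_over (U K : Subgroup G) (hU : IsPGroup p U) (hKU : K ≤ U) (hne : K ≠ U) :
    ∃ M : Subgroup G, K ≤ M ∧ M ≤ U ∧ M ≠ U ∧ (∀ y ∈ U, ∀ m ∈ M, y * m * y⁻¹ ∈ M) ∧
      ∀ z ∈ U, z ∉ M → (∀ y ∈ U, ∃ i < p, ∃ m ∈ M, y = z ^ i * m) ∧ (∀ i : ℕ, z ^ i ∈ M → p ∣ i) := by
  have hp : p.Prime := Fact.out
  have hK0 : K.subgroupOf U ≠ ⊤ := by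
    intro h
    apply hne
    exact le_antisymm hKU (Subgroup.subgroupOf_eq_top.mp h)
  obtain ⟨M₀, hM₀, hKM₀⟩ := (eq_top_or_exists_le_coatom (K.subgroupOf U)).resolve_left hK0
  have hnorm : M₀.Normal := Cfsg.Agent.Lib.Helper1_Frattini.normal_of_isCoatom_of_isPGroup hU hM₀
  have hidx : M₀.index = p := Cfsg.Agent.Lib.Helper1_Frattini.index_of_isCoatom_of_isPGroup hU hM₀
  have hmemM : ∀ x : G, x ∈ M₀.map U.subtype ↔ ∃ hx : x ∈ U, (⟨x, hx⟩ : U) ∈ M₀ := by
    intro x
    constructor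
    · rintro ⟨y, hy, rfl⟩
      exact ⟨y.2, hy⟩
    · rintro ⟨hx, hxm⟩
      exact ⟨⟨x, hx⟩, hxm, rfl⟩
  refine ⟨M₀.map U.subtype, ?_, Subgroup.map_subtype_le _, ?_, ?_, ?_⟩
  · intro k hk
    exact (hmemM k).mpr ⟨hKU hk, hKM₀ (Subgroup.mem_subgroupOf.mpr hk)⟩
  · intro h
    apply hM₀.1
    rw [eq_top_iff]
    intro x _
    have hx : (x : G) ∈ M₀.map U.subtype := by rw [h]; exact x.2
    obtain ⟨_, hx'⟩ := (hmemM x).mp hx
    exact hx'
  · intro y hy m hm
    obtain ⟨hmU, hm'⟩ := (hmemM m).mp hm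
    refine (hmemM _).mpr ⟨U.mul_mem (U.mul_mem hy hmU) (U.inv_mem hy), ?_⟩
    exact hnorm.conj_mem ⟨m, hmU⟩ hm' ⟨y, hy⟩
  · intro z hz hzM
    have hcard : Nat.card (U ⧸ M₀) = p := by rw [← Subgroup.index_eq_card, hidx]
    set zb : U ⧸ M₀ := QuotientGroup.mk ⟨z, hz⟩ with hzb
    have hzb1 : zb ≠ 1 := by
      intro h
      apply hzM
      exact (hmemM z).mpr ⟨hz, (QuotientGroup.eq_one_iff _).mp h⟩
    have hzbp : zb ^ p = 1 := by rw [← hcard]; exact pow_card_eq_one'
    have hord : orderOf zb = p := orderOf_eq_prime hzbp hzb1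
    constructor
    · intro y hy
      have hfin : Finite (U ⧸ M₀) := inferInstance
      have htop : Subgroup.zpowers zb = ⊤ := zpowers_eq_top_of_prime_card (p := p) hcard hzb1
      have hy' : (QuotientGroup.mk ⟨y, hy⟩ : U ⧸ M₀) ∈ Subgroup.zpowers zb := by rw [htop]; trivial
      rw [← mem_powers_iff_mem_zpowers] at hy'
      obtain ⟨k, hk⟩ := hy'
      refine ⟨k % p, Nat.mod_lt _ hp.pos, ?_⟩
      have h1 : zb ^ (k % p) = (QuotientGroup.mk ⟨y, hy⟩ : U ⧸ M₀) := by
        rw [← hk, ← hord, pow_mod_orderOf]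
      have h2 : ((⟨z, hz⟩ : U) ^ (k % p))⁻¹ * ⟨y, hy⟩ ∈ M₀ := by
        rw [← QuotientGroup.eq]
        rw [QuotientGroup.mk_pow]
        exact h1
      refine ⟨(z ^ (k % p))⁻¹ * y, ?_, by group⟩
      refine (hmemM _).mpr ⟨U.mul_mem (U.inv_mem (U.pow_mem hz _)) hy, ?_⟩
      exact h2
    · intro i hi
      obtain ⟨hiU, hi'⟩ := (hmemM _).mp hi
      have h1 : zb ^ i = 1 := by
        rw [hzb, ← QuotientGroup.mk_pow, QuotientGroup.eq_one_iff]
        exact hi'
      rw [← hord]
      exact orderOf_dvd_of_pow_eq_one h1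

end Aux


section Mult

/-- Multiplicative form of `sum_range_eq_zero_of_fwdDiff`. -/
theorem prod_range_eq_one_of_diff {A : Type*} [CommGroup A] (p : ℕ) (hp : p.Prime)
    (d : ℕ → ℕ → A) (hd : ∀ k j, d (k + 1) j = (d k j)⁻¹ * d k (j + 1))
    (hpow : ∀ j, d 0 j ^ p = 1) (hE : d (p - 1) 0 = 1) :
    ∏ j ∈ Finset.range p, d 0 j = 1 := by
  set f : ℕ → Additive A := fun j => Additive.ofMul (d 0 j) with hf
  have hiter : ∀ k, (fwdDiff (1 : ℕ))^[k] f = fun j => Additive.ofMul (d k j) := by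
    intro k
    induction k with
    | zero => rfl
    | succ k ih =>
      rw [Function.iterate_succ_apply', ih]
      funext j
      simp only [fwdDiff]
      rw [hd k j, ofMul_mul, ofMul_inv]
      abel
  have h1 : ∑ j ∈ Finset.range p, f j = 0 := by
    apply sum_range_eq_zero_of_fwdDiff p hp f
    · intro j
      simp only [hf]
      rw [← ofMul_pow, hpow j]
      rfl
    · rw [hiter]
      simp only
      rw [hE]
      rfl
  have h2 : Additive.ofMul (∏ j ∈ Finset.range p, d 0 j) = 0 := by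
    rw [ofMul_prod]
    exact h1
  exact h2

end Mult

section Conj

variable {G : Type*} [Group G]

theorem conj'_pow (g x : G) (n : ℕ) : (g⁻¹ * x * g) ^ n = g⁻¹ * x ^ n * g := by
  have := conj_pow (a := g⁻¹) (b := x) (i := n)
  simpa using this

theorem orderOf_conj' (g x : G) : orderOf (g⁻¹ * x * g) = orderOf x := by
  have : g⁻¹ * x * g = MulAut.conj g⁻¹ x := by simp
  rw [this, MulEquiv.orderOf_eq]

theorem conj'_mem {H : Subgroup G} [hH : H.Normal] {x : G} (hx : x ∈ H) (g : G) :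
    g⁻¹ * x * g ∈ H := by
  have := hH.conj_mem x hx g⁻¹
  simpa using this

end Conj


section Core

variable {G : Type*} [Group G] [Finite G] {p : ℕ} [Fact p.Prime]

/-- The contribution of one orbit of `U = ⟨u⟩W` (other than the trivial coset) is trivial. -/
theorem orbit_ptr_eq_one (P : Sylow p G) (W N : Subgroup G) (hWP : W ≤ (P : Subgroup G))
    (hfix : ∀ g : G, (∀ w ∈ W, g⁻¹ * w * g ∈ N) → g ∈ N)
    (hE : ∀ u ∈ (P : Subgroup G), ∀ z ∈ W, (fun y : G => y⁻¹ * z⁻¹ * y * z)^[p - 1] u = 1)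
    {A : Type*} [CommGroup A] (π : N →* A)
    (u : G) (hu : u ∈ (P : Subgroup G)) (huG : u ∈ commutator G) (hu1 : u ≠ 1)
    (hM : ∀ t : G, ∀ ht : t ∈ N, t ∈ commutator G → (∃ k, t ^ p ^ k = 1) →
      orderOf t < orderOf u → π ⟨t, ht⟩ = 1)
    (ω : G ⧸ N) (hω : ω ≠ ((1 : G) : G ⧸ N))
    (O : Finset (G ⧸ N)) (hO : ∀ x, x ∈ O ↔ ∃ y ∈ Subgroup.zpowers u ⊔ W, x = y • ω) :
    ptr π O u = 1 := by
  have hp : p.Prime := Fact.out
  set U := Subgroup.zpowers u ⊔ W with hUdef
  have huU : u ∈ U := Subgroup.mem_sup_left (Subgroup.mem_zpowers u)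
  have hWU : W ≤ U := le_sup_right
  have hUP : U ≤ (P : Subgroup G) := sup_le (by rw [Subgroup.zpowers_le]; exact hu) hWP
  have hUpg : IsPGroup p U := P.2.to_le hUP
  obtain ⟨k0, hk0⟩ : ∃ k, u ^ p ^ k = 1 := by
    obtain ⟨k, hk⟩ := P.2 ⟨u, hu⟩
    exact ⟨k, by simpa using congrArg Subtype.val hk⟩
  have hcomm : (commutator G).Normal := inferInstance
  -- order facts
  have hpdvd : p ∣ orderOf u := by
    have h1 : orderOf u ∣ p ^ k0 := orderOf_dvd_of_pow_eq_one hk0
    obtain ⟨i, -, hi⟩ := (Nat.dvd_prime_pow hp).mp h1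
    have hi0 : i ≠ 0 := by
      intro h0
      rw [h0, pow_zero, orderOf_eq_one_iff] at hi
      exact hu1 hi
    rw [hi]
    exact dvd_pow_self p hi0
  have hup_lt : orderOf (u ^ p) < orderOf u := by
    rw [orderOf_pow' u hp.ne_zero, Nat.gcd_eq_right hpdvd]
    exact Nat.div_lt_self (orderOf_pos u) hp.one_lt
  -- the stabilizer of `ω` in `U`
  set g := (sec ω : G) with hg
  have hgω : ((g : G) : G ⧸ N) = ω := sec_spec ω
  set K : Subgroup G := U ⊓ MulAction.stabilizer G ω with hK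
  have hKU : K ≤ U := inf_le_left
  have hKne : K ≠ U := by
    intro h
    apply hω
    have hWfix : ∀ w ∈ W, g⁻¹ * w * g ∈ N := by
      intro w hw
      have hwK : w ∈ K := by rw [h]; exact hWU hw
      have hstab : w • ω = ω := MulAction.mem_stabilizer_iff.mp hwK.2
      rw [← hgω] at hstab
      have h1 : ((w * g : G) : G ⧸ N) = ((g : G) : G ⧸ N) := hstab
      have h2 := QuotientGroup.eq.mp h1.symm
      simpa [mul_assoc] using h2
    have hgN : g ∈ N := hfix g hWfix
    rw [← hgω]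
    exact QuotientGroup.eq.mpr (by simpa using N.inv_mem hgN)
  obtain ⟨M, hKM, hMU, hMne, hMnorm, hMz⟩ := exists_maximal_over U K hUpg hKU hKne
  have hstabM : ∀ y ∈ U, ∀ x ∈ U, x • (y • ω) = y • ω → x ∈ M := by
    intro y hy x hx hfix'
    have h1 : (y⁻¹ * x * y) • ω = ω := by
      rw [mul_smul, mul_smul, hfix', ← mul_smul, inv_mul_cancel, one_smul]
    have h2 : y⁻¹ * x * y ∈ K :=
      ⟨U.mul_mem (U.mul_mem (U.inv_mem hy) hx) hy, MulAction.mem_stabilizer_iff.mpr h1⟩
    have h3 := hMnorm y hy _ (hKM h2)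
    have h4 : y * (y⁻¹ * x * y) * y⁻¹ = x := by group
    rwa [h4] at h3
  have hOinv : ∀ y ∈ U, ∀ x ∈ O, y • x ∈ O := by
    intro y hy x hx
    obtain ⟨y', hy', rfl⟩ := (hO x).mp hx
    exact (hO _).mpr ⟨y * y', U.mul_mem hy hy', (mul_smul _ _ _).symm⟩
  by_cases huM : u ∈ M
  swap
  · -- `u` has no fixed point on the orbit
    apply ptr_eq_one π u O (hOinv u huU)
    intro ω' hω' hm
    obtain ⟨y, hy, rfl⟩ := (hO ω').mp hω'
    set r := Function.minimalPeriod (fun x : G ⧸ N => u • x) (y • ω) with hr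
    have hrdvd : r ∣ orderOf u :=
      MulAction.pow_smul_eq_iff_minimalPeriod_dvd.mp (by rw [pow_orderOf_eq_one, one_smul])
    have hr1 : r ≠ 1 := by
      intro h1
      apply huM
      apply hstabM y hy u huU
      exact Function.minimalPeriod_eq_one_iff_isFixedPt.mp h1
    have hr0 : r ≠ 0 := by
      intro h0
      rw [h0] at hrdvd
      exact (orderOf_pos u).ne' (zero_dvd_iff.mp hrdvd)
    apply hM
    · exact conj'_mem (Subgroup.pow_mem _ huG r) _
    · refine ⟨k0, ?_⟩
      rw [conj'_pow, ← pow_mul, mul_comm, pow_mul, hk0, one_pow]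
      group
    · rw [orderOf_conj', orderOf_pow' u hr0, Nat.gcd_eq_right hrdvd]
      exact Nat.div_lt_self (orderOf_pos u) (by omega)
  · -- `u ∈ M`
    have hWM : ¬ W ≤ M := by
      intro h
      apply hMne
      apply le_antisymm hMU
      rw [hUdef]
      exact sup_le (by rw [Subgroup.zpowers_le]; exact huM) h
    obtain ⟨z, hzW, hzM⟩ := SetLike.not_le_iff_exists.mp hWM
    have hzU : z ∈ U := hWU hzW
    obtain ⟨hcov, hdvd⟩ := hMz z hzU hzM
    set O₀ : Finset (G ⧸ N) := O.filter (fun x => ∃ m ∈ M, x = m • ω) with hO₀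
    have hO₀mem : ∀ x, x ∈ O₀ ↔ ∃ m ∈ M, x = m • ω := by
      intro x
      rw [hO₀, Finset.mem_filter]
      constructor
      · exact fun h => h.2
      · rintro ⟨m, hm, rfl⟩
        exact ⟨(hO _).mpr ⟨m, hMU hm, rfl⟩, m, hm, rfl⟩
    have hO₀inv : ∀ m ∈ M, ∀ x ∈ O₀, m • x ∈ O₀ := by
      intro m hm x hx
      obtain ⟨m', hm', rfl⟩ := (hO₀mem x).mp hx
      exact (hO₀mem _).mpr ⟨m * m', M.mul_mem hm hm', (mul_smul _ _ _).symm⟩
    have hsep : ∀ i j : ℕ, i < j → j < p → ∀ m ∈ M, ∀ m' ∈ M,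
        z ^ i • m • ω ≠ z ^ j • m' • ω := by
      intro i j hij hjp m hm m' hm' heq
      have hx : (m⁻¹ * (z ^ i)⁻¹ * z ^ j * m') • ω = ω := by
        have h1 : (z ^ j * m') • ω = (z ^ i * m) • ω := by
          rw [mul_smul, mul_smul]; exact heq.symm
        have h2 : m⁻¹ * (z ^ i)⁻¹ * z ^ j * m' = (m⁻¹ * (z ^ i)⁻¹) * (z ^ j * m') := by group
        rw [h2, mul_smul, h1, ← mul_smul]
        have h3 : m⁻¹ * (z ^ i)⁻¹ * (z ^ i * m) = 1 := by group
        rw [h3, one_smul]
      have hxU : m⁻¹ * (z ^ i)⁻¹ * z ^ j * m' ∈ U :=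
        U.mul_mem (U.mul_mem (U.mul_mem (U.inv_mem (hMU hm)) (U.inv_mem (U.pow_mem hzU i)))
          (U.pow_mem hzU j)) (hMU hm')
      have hxM : m⁻¹ * (z ^ i)⁻¹ * z ^ j * m' ∈ M :=
        hKM ⟨hxU, MulAction.mem_stabilizer_iff.mpr hx⟩
      have hzz : z ^ (j - i) ∈ M := by
        have h1 : z ^ (j - i) = m * (m⁻¹ * (z ^ i)⁻¹ * z ^ j * m') * m'⁻¹ := by
          have h2 : z ^ j = z ^ i * z ^ (j - i) := by
            rw [← pow_add]; congr 1; omega
          rw [h2]; group
        rw [h1]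
        exact M.mul_mem (M.mul_mem hm hxM) (M.inv_mem hm')
      have h5 := hdvd _ hzz
      have h6 : p ≤ j - i := Nat.le_of_dvd (by omega) h5
      omega
    have hdecomp : O = (Finset.range p).biUnion (fun i => O₀.image (fun x => z ^ i • x)) := by
      ext x
      rw [Finset.mem_biUnion, hO]
      constructor
      · rintro ⟨y, hy, rfl⟩
        obtain ⟨i, hi, m, hm, rfl⟩ := hcov y hy
        exact ⟨i, Finset.mem_range.mpr hi, Finset.mem_image.mpr
          ⟨m • ω, (hO₀mem _).mpr ⟨m, hm, rfl⟩, (mul_smul _ _ _).symm⟩⟩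
      · rintro ⟨i, -, hx⟩
        obtain ⟨x', hx', rfl⟩ := Finset.mem_image.mp hx
        obtain ⟨m, hm, rfl⟩ := (hO₀mem _).mp hx'
        exact ⟨z ^ i * m, U.mul_mem (U.pow_mem hzU i) (hMU hm), (mul_smul _ _ _).symm⟩
    have hdisj : Set.PairwiseDisjoint (↑(Finset.range p) : Set ℕ)
        (fun i => O₀.image (fun x => z ^ i • x)) := by
      intro i hi j hj hij
      have hi' : i < p := Finset.mem_range.mp hi
      have hj' : j < p := Finset.mem_range.mp hj
      rw [Function.onFun, Finset.disjoint_left]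
      intro x hxi hxj
      obtain ⟨a, ha, hax⟩ := Finset.mem_image.mp hxi
      obtain ⟨b, hb, hbx⟩ := Finset.mem_image.mp hxj
      obtain ⟨m, hm, rfl⟩ := (hO₀mem _).mp ha
      obtain ⟨m', hm', rfl⟩ := (hO₀mem _).mp hb
      have heq : z ^ i • m • ω = z ^ j • m' • ω := by rw [hax, hbx]
      rcases lt_or_gt_of_ne hij with h | h
      · exact hsep i j h hj' m hm m' hm' heq
      · exact hsep j i h hi' m' hm' m hm heq.symm
    -- the conjugates
    set c : ℕ → G := fun k => (fun y : G => y⁻¹ * z⁻¹ * y * z)^[k] u with hc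
    have hcsucc : ∀ k, c (k + 1) = (c k)⁻¹ * z⁻¹ * c k * z := by
      intro k
      simp only [hc]
      rw [Function.iterate_succ_apply']
    have hconjM : ∀ j, ∀ m ∈ M, (z ^ j)⁻¹ * m * z ^ j ∈ M := by
      intro j m hm
      have := hMnorm (z ^ j)⁻¹ (U.inv_mem (U.pow_mem hzU j)) m hm
      simpa using this
    have hcM : ∀ k, c k ∈ M := by
      intro k
      induction k with
      | zero => exact huM
      | succ k ih =>
        rw [hcsucc]
        have h1 := hconjM 1 _ ih
        rw [pow_one] at h1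
        have h2 : (c k)⁻¹ * z⁻¹ * c k * z = (c k)⁻¹ * (z⁻¹ * c k * z) := by group
        rw [h2]
        exact M.mul_mem (M.inv_mem ih) h1
    have hρmul : ∀ a, ∀ b ∈ M, ptr π O₀ (a * b) = ptr π O₀ a * ptr π O₀ b :=
      fun a b hb => ptr_mul π a b (hO₀inv b hb)
    have hρone : ptr π O₀ 1 = 1 := by
      have h1 := hρmul 1 1 M.one_mem
      rw [mul_one] at h1
      exact (mul_eq_left.mp h1.symm)
    have hρinv : ∀ b ∈ M, ptr π O₀ b⁻¹ = (ptr π O₀ b)⁻¹ := by
      intro b hb
      have h1 := hρmul b⁻¹ b hb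
      rw [inv_mul_cancel, hρone] at h1
      exact eq_inv_of_mul_eq_one_left h1.symm
    have hρpow : ∀ b ∈ M, ∀ n : ℕ, ptr π O₀ (b ^ n) = (ptr π O₀ b) ^ n := by
      intro b hb n
      induction n with
      | zero => rw [pow_zero, pow_zero, hρone]
      | succ n ih => rw [pow_succ, pow_succ, hρmul _ b hb, ih]
    set d : ℕ → ℕ → A := fun k j => ptr π O₀ ((z ^ j)⁻¹ * c k * z ^ j) with hd
    have hd_rec : ∀ k j, d (k + 1) j = (d k j)⁻¹ * d k (j + 1) := by
      intro k j
      have e : (z ^ j)⁻¹ * c (k + 1) * z ^ j =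
          ((z ^ j)⁻¹ * c k * z ^ j)⁻¹ * ((z ^ (j + 1))⁻¹ * c k * z ^ (j + 1)) := by
        rw [hcsucc, pow_succ]; group
      simp only [hd]
      rw [e, hρmul _ _ (hconjM (j + 1) _ (hcM k)), hρinv _ (hconjM j _ (hcM k))]
    have hd_pow : ∀ j, d 0 j ^ p = 1 := by
      intro j
      have hxM : (z ^ j)⁻¹ * u * z ^ j ∈ M := hconjM j u huM
      have h0 : d 0 j = ptr π O₀ ((z ^ j)⁻¹ * u * z ^ j) := rfl
      rw [h0, ← hρpow _ hxM, conj'_pow]
      set t' := (z ^ j)⁻¹ * u ^ p * z ^ j with ht'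
      have ht'M : t' ∈ M := by
        rw [ht', ← conj'_pow]; exact M.pow_mem hxM p
      have ht'G : t' ∈ commutator G := conj'_mem (Subgroup.pow_mem _ huG p) _
      have ht'ord : orderOf t' = orderOf (u ^ p) := orderOf_conj' _ _
      apply ptr_eq_one π t' O₀ (hO₀inv t' ht'M)
      intro ω' _ hm
      apply hM
      · exact conj'_mem (Subgroup.pow_mem _ ht'G _) _
      · refine ⟨k0, ?_⟩
        rw [conj'_pow, ← pow_mul, mul_comm, pow_mul]
        have : t' ^ p ^ k0 = 1 := by
          rw [ht', conj'_pow, ← pow_mul, mul_comm, pow_mul, hk0, one_pow]; group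
        rw [this, one_pow]; group
      · rw [orderOf_conj']
        calc orderOf (t' ^ _) ≤ orderOf t' := Nat.le_of_dvd (orderOf_pos _) (orderOf_pow_dvd _)
          _ = orderOf (u ^ p) := ht'ord
          _ < orderOf u := hup_lt
    have hd_E : d (p - 1) 0 = 1 := by
      have h0 : d (p - 1) 0 = ptr π O₀ ((z ^ 0)⁻¹ * c (p - 1) * z ^ 0) := rfl
      have h1 : c (p - 1) = 1 := hE u hu z hzW
      rw [h0, h1]
      simp [hρone]
    have hfinal := prod_range_eq_one_of_diff p hp d hd_rec hd_pow hd_E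
    rw [hdecomp]
    unfold ptr
    rw [Finset.prod_biUnion hdisj]
    rw [← hfinal]
    apply Finset.prod_congr rfl
    intro i _
    have h1 : u = z ^ i * ((z ^ i)⁻¹ * u * z ^ i) * (z ^ i)⁻¹ := by group
    have h2 := ptr_conj π (S := O₀) (z ^ i) ((z ^ i)⁻¹ * u * z ^ i)
      (hO₀inv _ (hconjM i u huM))
    rw [← h1] at h2
    exact h2

end Core


section Main

variable {G : Type*} [Group G] [Finite G] {p : ℕ} [Fact p.Prime]

omit [Finite G] [Fact p.Prime] in
theorem isPGroup_zpowers_of_pow {t : G} {k : ℕ} (hk : t ^ p ^ k = 1) :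
    IsPGroup p (Subgroup.zpowers t) := by
  rintro ⟨x, hx⟩
  obtain ⟨n, rfl⟩ := Subgroup.mem_zpowers_iff.mp hx
  refine ⟨k, ?_⟩
  apply Subtype.ext
  show (t ^ n) ^ p ^ k = 1
  rw [← zpow_natCast, ← zpow_mul, mul_comm, zpow_mul, zpow_natCast, hk, one_zpow]

/-- Abstract form of the Hall-Wielandt theorem: `π` kills `P ∩ G'`. -/
theorem kills_focal_aux (P : Sylow p G) (W N : Subgroup G) (hWP : W ≤ (P : Subgroup G))
    (hPN : (P : Subgroup G) ≤ N)
    (hfix : ∀ g : G, (∀ w ∈ W, g⁻¹ * w * g ∈ N) → g ∈ N)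
    (hE : ∀ u ∈ (P : Subgroup G), ∀ z ∈ W, (fun y : G => y⁻¹ * z⁻¹ * y * z)^[p - 1] u = 1)
    {A : Type*} [CommGroup A] (π : N →* A) :
    ∀ n : ℕ, ∀ u : G, ∀ hu : u ∈ (P : Subgroup G), u ∈ commutator G → orderOf u = n →
      π ⟨u, hPN hu⟩ = 1 := by
  intro n
  induction n using Nat.strong_induction_on with
  | _ n ih =>
    intro u hu huG hn
    have hcomm : (commutator G).Normal := inferInstance
    by_cases hu1 : u = 1
    · subst hu1
      exact map_one π
    have hM : ∀ t : G, ∀ ht : t ∈ N, t ∈ commutator G → (∃ k, t ^ p ^ k = 1) →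
        orderOf t < orderOf u → π ⟨t, ht⟩ = 1 := by
      rintro t ht htG ⟨k, hk⟩ hlt
      obtain ⟨c, hcN, hc⟩ := exists_conj_le_sylow P N hPN (Subgroup.zpowers t)
        (by rw [Subgroup.zpowers_le]; exact ht) (isPGroup_zpowers_of_pow hk)
      have htP : c * t * c⁻¹ ∈ (P : Subgroup G) := hc t (Subgroup.mem_zpowers t)
      have hord : orderOf (c * t * c⁻¹) = orderOf t := by
        have := orderOf_conj' c⁻¹ t
        rwa [inv_inv] at this
      have h1 := ih (orderOf t) (hn ▸ hlt) (c * t * c⁻¹) htP (hcomm.conj_mem t htG c) hord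
      have h2 : (⟨c * t * c⁻¹, hPN htP⟩ : N) = ⟨c, hcN⟩ * ⟨t, ht⟩ * ⟨c, hcN⟩⁻¹ := rfl
      rw [h2, map_mul, map_mul, map_inv, mul_comm (π ⟨c, hcN⟩), mul_assoc, mul_inv_cancel,
        mul_one] at h1
      exact h1
    have : Fintype (G ⧸ N) := Fintype.ofFinite _
    let τ : G →* A := MonoidHom.mk' (ptr π (Finset.univ : Finset (G ⧸ N)))
      (fun a b => ptr_mul π a b (fun _ _ => Finset.mem_univ _))
    have hτ : ptr π (Finset.univ : Finset (G ⧸ N)) u = 1 := by
      have h1 := Abelianization.commutator_subset_ker τ huG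
      exact MonoidHom.mem_ker.mp h1
    set U := Subgroup.zpowers u ⊔ W with hUdef
    have huU : u ∈ U := Subgroup.mem_sup_left (Subgroup.mem_zpowers u)
    have hUN : U ≤ N := (sup_le (by rw [Subgroup.zpowers_le]; exact hu) hWP).trans hPN
    have hclaim : ∀ S : Finset (G ⧸ N), (∀ y ∈ U, ∀ x ∈ S, y • x ∈ S) →
        ((1 : G) : G ⧸ N) ∉ S → ptr π S u = 1 := by
      intro S
      induction S using Finset.strongInduction with
      | H S ihS =>
        intro hinv h0
        by_cases hne : S = ∅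
        · subst hne; exact ptr_empty π u
        obtain ⟨ω, hω⟩ := Finset.nonempty_iff_ne_empty.mpr hne
        set O : Finset (G ⧸ N) := S.filter (fun x => ∃ y ∈ U, x = y • ω) with hOdef
        have hOmem : ∀ x, x ∈ O ↔ ∃ y ∈ U, x = y • ω := by
          intro x
          rw [hOdef, Finset.mem_filter]
          constructor
          · exact fun h => h.2
          · rintro ⟨y, hy, rfl⟩
            exact ⟨hinv y hy ω hω, y, hy, rfl⟩
        have hω0 : ω ≠ ((1 : G) : G ⧸ N) := fun h => h0 (h ▸ hω)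
        have hO1 : ptr π O u = 1 :=
          orbit_ptr_eq_one P W N hWP hfix hE π u hu huG hu1 hM ω hω0 O hOmem
        have hOS : O ⊆ S := Finset.filter_subset _ _
        have hωO : ω ∈ O := (hOmem ω).mpr ⟨1, U.one_mem, (one_smul _ _).symm⟩
        have hrest_inv : ∀ y ∈ U, ∀ x ∈ S \ O, y • x ∈ S \ O := by
          intro y hy x hx
          obtain ⟨hxS, hxO⟩ := Finset.mem_sdiff.mp hx
          refine Finset.mem_sdiff.mpr ⟨hinv y hy x hxS, ?_⟩
          intro hyx
          obtain ⟨y', hy', hyy'⟩ := (hOmem _).mp hyx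
          apply hxO
          refine (hOmem x).mpr ⟨y⁻¹ * y', U.mul_mem (U.inv_mem hy) hy', ?_⟩
          rw [mul_smul, ← hyy', ← mul_smul, inv_mul_cancel, one_smul]
        have hlt : S \ O ⊂ S := by
          refine Finset.ssubset_iff_subset_ne.mpr ⟨Finset.sdiff_subset, ?_⟩
          intro heq
          have : ω ∈ S \ O := by rw [heq]; exact hω
          exact (Finset.mem_sdiff.mp this).2 hωO
        have hrest := ihS (S \ O) hlt hrest_inv (fun h => h0 (Finset.mem_sdiff.mp h).1)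
        rw [← Finset.union_sdiff_of_subset hOS, ptr_union π Finset.disjoint_sdiff, hO1, hrest,
          mul_one]
    set ω₀ : G ⧸ N := ((1 : G) : G ⧸ N) with hω₀
    have hfix0 : ∀ y ∈ U, y • ω₀ = ω₀ := by
      intro y hy
      show ((y * 1 : G) : G ⧸ N) = ((1 : G) : G ⧸ N)
      rw [mul_one]
      exact QuotientGroup.eq.mpr (by simpa using N.inv_mem (hUN hy))
    have h1 : ptr π (Finset.univ : Finset (G ⧸ N)) u =
        ptr π {ω₀} u * ptr π (Finset.univ \ {ω₀}) u := by
      rw [← ptr_union π Finset.disjoint_sdiff]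
      congr 1
      simp
    have h2 : ptr π (Finset.univ \ {ω₀}) u = 1 := by
      apply hclaim
      · intro y hy x hx
        rw [Finset.mem_sdiff, Finset.mem_singleton] at hx ⊢
        refine ⟨Finset.mem_univ _, ?_⟩
        intro hyx
        apply hx.2
        have : x = y⁻¹ • (y • x) := by rw [← mul_smul, inv_mul_cancel, one_smul]
        rw [this, hyx]
        exact hfix0 y⁻¹ (U.inv_mem hy)
      · simp
    have h3 : ptr π {ω₀} u = π ⟨u, hPN hu⟩ := by
      unfold ptr
      rw [Finset.prod_singleton]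
      have hs : (sec ω₀ : G) ∈ N := by
        have h4 := QuotientGroup.eq.mp (sec_spec ω₀)
        have h5 := N.inv_mem h4
        simpa using h5
      have h6 : coc u ω₀ = (⟨sec ω₀, hs⟩ : N)⁻¹ * ⟨u, hPN hu⟩ * ⟨sec ω₀, hs⟩ := by
        apply Subtype.ext
        simp only [coc, Subgroup.coe_mul, Subgroup.coe_inv]
        rw [hfix0 u huU]
      rw [h6, map_mul, map_mul, map_inv, mul_comm (π ⟨sec ω₀, hs⟩)⁻¹, mul_assoc, inv_mul_cancel,
        mul_one]
    rw [h1, h2, h3, mul_one] at hτ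
    exact hτ

/-- **Hall-Wielandt**: every homomorphism from `N_G(W)` to a commutative group kills `P ∩ G'`. -/
theorem kills_focal (P : Sylow p G) (W : Subgroup G)
    (hW : Cfsg.IsWeaklyClosed W (P : Subgroup G))
    (hE : ∀ u ∈ (P : Subgroup G), ∀ z ∈ W, (fun y : G => y⁻¹ * z⁻¹ * y * z)^[p - 1] u = 1)
    {A : Type*} [CommGroup A] (π : Subgroup.normalizer (W : Set G) →* A)
    (u : G) (hu : u ∈ (P : Subgroup G)) (huG : u ∈ commutator G) :
    ∃ huN : u ∈ Subgroup.normalizer (W : Set G), π ⟨u, huN⟩ = 1 := by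
  obtain ⟨hWP, hwc⟩ := hW
  have hPN : (P : Subgroup G) ≤ Subgroup.normalizer (W : Set G) := by
    intro g hg
    apply mem_normalizer_of_map_conj_eq
    apply hwc
    rintro _ ⟨w, hw, rfl⟩
    simp only [MulEquiv.coe_toMonoidHom, MulAut.conj_apply]
    exact Subgroup.mul_mem _ (Subgroup.mul_mem _ hg (hWP hw)) (Subgroup.inv_mem _ hg)
  have hfix : ∀ g : G, (∀ w ∈ W, g⁻¹ * w * g ∈ Subgroup.normalizer (W : Set G)) →
      g ∈ Subgroup.normalizer (W : Set G) := by
    intro g hg
    set R : Subgroup G := W.map (MulAut.conj g⁻¹).toMonoidHom with hR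
    have hRN : R ≤ Subgroup.normalizer (W : Set G) := by
      rintro _ ⟨w, hw, rfl⟩
      simp only [MulEquiv.coe_toMonoidHom, MulAut.conj_apply, inv_inv]
      exact hg w hw
    have hWpg : IsPGroup p W := P.2.to_le hWP
    have hRpg : IsPGroup p R := hWpg.map _
    obtain ⟨c, hcN, hc⟩ := exists_conj_le_sylow P _ hPN R hRN hRpg
    have h1 : W.map (MulAut.conj (c * g⁻¹)).toMonoidHom ≤ (P : Subgroup G) := by
      rintro _ ⟨w, hw, rfl⟩
      simp only [MulEquiv.coe_toMonoidHom, MulAut.conj_apply]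
      have h2 : g⁻¹ * w * g ∈ R := ⟨w, hw, by simp⟩
      have h3 := hc _ h2
      have h4 : c * g⁻¹ * w * (c * g⁻¹)⁻¹ = c * (g⁻¹ * w * g) * c⁻¹ := by group
      rw [h4]; exact h3
    have h5 := mem_normalizer_of_map_conj_eq (hwc _ h1)
    have h6 : g⁻¹ ∈ Subgroup.normalizer (W : Set G) := by
      have h7 : g⁻¹ = c⁻¹ * (c * g⁻¹) := by group
      rw [h7]
      exact Subgroup.mul_mem _ (Subgroup.inv_mem _ hcN) h5
    have h8 := Subgroup.inv_mem _ h6
    rwa [inv_inv] at h8
  exact ⟨hPN hu, kills_focal_aux P W _ hWP hPN hfix hE π (orderOf u) u hu huG rfl⟩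

end Main

end Cfsg.Agent.Lib.Helper54_HallWielandt
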