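import Mathlib
import Cfsg.Prelude.Def_PLocal
import Cfsg.Prelude.Def_LocalEven
import Cfsg.Agent.Lib.Helper54_KInf
import Cfsg.Agent.Lib.Helper54_KInfEngel
import Cfsg.Agent.Lib.Helper33_Critical
import Cfsg.Agent.Lib.Helper34_NPC
import Cfsg.Agent.Lib.Helper49_CharP
import Cfsg.Agent.S1979
import Cfsg.Prelude.Def_ConjugacyFunctors

set_option autoImplicit false
open Cfsg

/-!
# Engel conditions from the K-infinity subgroups, with the quadratic action on the centre

The same statement as `Helper54_KInfEngel.exists_engel_of_not_normal`, with the extra conjunct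
`[Z(O_p(L)), g, g] = 1`.
-/

namespace Cfsg.Agent.Lib.Helper54_KInfEngel2

open Cfsg.Agent.Lib.Helper54_KInf Cfsg.Agent.Lib.Helper54_KInfEngel
open scoped commutatorElement

universe u

variable {L : Type u} [Group L] [Finite L] {p : ℕ} [Fact p.Prime]

/-- **Glauberman.** If `K_∞(S)` or `K^∞(S)` is not normal in `L`, then some `g ∈ S` outside `O_p(L)`
satisfies `[U, g, g, g, g] ≤ V` for every chief factor `U / V` of `L` inside `O_p(L)`, and
`[Z(O_p(L)), g, g] = 1`. -/
theorem exists_engel_quadratic_of_not_normal (S : Sylow p L)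
    (hnot : ¬ (Cfsg.inducedFunctor Cfsg.kInfLower (S : Subgroup L)).Normal ∨
      ¬ (Cfsg.inducedFunctor Cfsg.kInfUpper (S : Subgroup L)).Normal) :
    ∃ g : L, g ∈ (S : Subgroup L) ∧ g ∉ Cfsg.pCore p L ∧
      Good (Subgroup.zpowers g) 4 (Cfsg.pCore p L) ∧
      ⁅⁅Cfsg.pCore p L ⊓ Subgroup.centralizer ((Cfsg.pCore p L : Subgroup L) : Set L),
        Subgroup.zpowers g⁆, Subgroup.zpowers g⁆ = ⊥ := by
  classical
  set R := Cfsg.pCore p L with hR
  haveI hRn : R.Normal := Cfsg.Agent.Lib.Helper49_CharP.pCoreNormal p L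
  have hRp : IsPGroup p ↥R := Cfsg.Agent.Lib.Helper49_CharP.pCore_isPGroup p L
  have hRS : R ≤ (S : Subgroup L) := Cfsg.Agent.Lib.Helper49_CharP.pCore_le_sylow S
  have hf : Function.Injective R.subtype := R.subtype_injective
  obtain ⟨M, C, hMC, -, -, hCinv, hCM, hcomm, -, hcentC⟩ :=
    Cfsg.Agent.Lib.Helper33_Critical.exists_critical_pair hRp (⊤ : Subgroup (MulAut ↥R)) le_top
      (⊤ : Subgroup ↥R) (fun _ _ _ _ => Subgroup.mem_top _)
  set A := C.map R.subtype with hA
  haveI hAn : A.Normal := by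
    constructor
    intro a ha l
    obtain ⟨c, hc, rfl⟩ := ha
    refine ⟨MulAut.conjNormal l c, hCinv _ (Subgroup.mem_top _) c hc, ?_⟩
    simp [MulAut.conjNormal_apply]
  have hAR : A ≤ R := by
    rintro _ ⟨c, -, rfl⟩
    exact c.2
  have hMZ : M.map R.subtype ≤ ZZ A := by
    have h1 : M ≤ ZZ C := le_inf hMC (Subgroup.le_centralizer_iff.mp hCM)
    have h2 := Subgroup.map_mono (f := R.subtype) h1
    rwa [Cfsg.Agent.S1979.map_ZZ hf] at h2
  have hRA : ⁅R, A⁆ ≤ ZZ A := by
    have h1 : (⊤ : Subgroup ↥R).map R.subtype = R := by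
      rw [← MonoidHom.range_eq_map, Subgroup.range_subtype]
    have h2 : ⁅(⊤ : Subgroup ↥R), C⁆ ≤ M := by
      rw [Subgroup.commutator_comm, Subgroup.commutator_le]
      intro c hc x _
      exact hcomm c hc x
    have h3 := Subgroup.map_mono (f := R.subtype) h2
    rw [Subgroup.map_commutator, h1] at h3
    exact h3.trans hMZ
  have hcent : R ⊓ Subgroup.centralizer (A : Set L) ≤ ZZ A := by
    intro x hx
    have hxc : (⟨x, hx.1⟩ : ↥R) ∈ Subgroup.centralizer (C : Set ↥R) := by
      rw [Subgroup.mem_centralizer_iff]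
      intro c hc
      apply Subtype.ext
      have hx2 : x ∈ Subgroup.centralizer (A : Set L) := hx.2
      exact Subgroup.mem_centralizer_iff.mp hx2 (c : L) ⟨c, hc, rfl⟩
    have hxM : (⟨x, hx.1⟩ : ↥R) ∈ M := hcentC ⟨Subgroup.mem_top _, hxc⟩
    exact hMZ ⟨⟨x, hx.1⟩, hxM, rfl⟩
  have hA2 : ⁅A, A⁆ ≤ Subgroup.centralizer (A : Set L) :=
    ((Subgroup.commutator_mono hAR le_rfl).trans hRA).trans inf_le_right
  have hZR : R ⊓ Subgroup.centralizer (R : Set L) ≤ ZZ A :=
    (inf_le_inf_left R (Subgroup.centralizer_le hAR)).trans hcent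
  have hnil : ∃ m, Cfsg.iterCommutator (ZZ A) R m = ⊥ := by
    haveI : Group.IsNilpotent ↥R := hRp.isNilpotent
    obtain ⟨n, hn⟩ := (Subgroup.isNilpotent_iff_lowerCentralSeries R).mp inferInstance
    refine ⟨n, le_bot_iff.mp ?_⟩
    rw [← hn]
    exact iter_le_lcs (inf_le_left.trans hAR) n
  by_contra hcon
  push Not at hcon
  have key := inducedFunctor_eq (p := p) (S : Subgroup L) R A S.isPGroup' hRS hAR
    Subgroup.le_normalizer_of_normal hA2 hRA
    (by
      intro g hg h3 h2
      by_contra hgR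
      refine hcon g hg hgR (good_four R A hRA hcent hnil (Subgroup.zpowers g) h3 h2) ?_
      rw [eq_bot_iff, ← h2]
      exact Subgroup.commutator_mono (Subgroup.commutator_mono hZR le_rfl) le_rfl)
  have hnL := Cfsg.Agent.Lib.Helper34_NPC.normalizer_le_normalizer_inducedFunctor
    (isCharPFunctor_kInfLower p) R hRp
  have hnU := Cfsg.Agent.Lib.Helper34_NPC.normalizer_le_normalizer_inducedFunctor
    (isCharPFunctor_kInfUpper p) R hRp
  rw [Subgroup.normalizer_eq_top] at hnL hnU
  rcases hnot with h | h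
  · apply h
    rw [key.1]
    exact Subgroup.normalizer_eq_top_iff.mp (top_le_iff.mp hnL)
  · apply h
    rw [key.2]
    exact Subgroup.normalizer_eq_top_iff.mp (top_le_iff.mp hnU)

end Cfsg.Agent.Lib.Helper54_KInfEngel2
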