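import Mathlib
import Cfsg.Agent.Lib.Helper89_ESClass

/-!
The squaring form and the commutator form of an extraspecial 2-group (in the elementary
description `IsES2` of `Helper89_ESClass`), with values in `ZMod 2`.
-/

set_option autoImplicit false
open Cfsg

namespace Cfsg.Agent.Lib.Helper63_ESForm

open Cfsg.Agent.Lib.Helper89_ESClass

variable {E : Type*} [Group E] {t : E}

/-- `0` if `x` squares to one, `1` otherwise. -/
noncomputable def sqv (x : E) : ZMod 2 := by
  classical exact if x * x = 1 then 0 else 1

/-- `0` if `x` and `y` commute, `1` otherwise. -/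
noncomputable def cmv (x y : E) : ZMod 2 := by
  classical exact if x * y = y * x then 0 else 1

theorem sqv_eq_zero_iff (x : E) : sqv x = 0 ↔ x * x = 1 := by
  classical
  unfold sqv
  split_ifs with h
  · simp [h]
  · simp [h]

theorem cmv_eq_zero_iff (x y : E) : cmv x y = 0 ↔ x * y = y * x := by
  classical
  unfold cmv
  split_ifs with h
  · simp [h]
  · simp [h]

theorem cmv_symm (x y : E) : cmv x y = cmv y x := by
  classical
  unfold cmv
  by_cases h : x * y = y * x
  · rw [if_pos h, if_pos h.symm]
  · rw [if_neg h, if_neg (fun h' => h h'.symm)]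

theorem cmv_self (x : E) : cmv x x = 0 := (cmv_eq_zero_iff x x).2 rfl

theorem sq_eq (hE : IsES2 E t) (x : E) : x * x = pw t (sqv x) := by
  classical
  unfold sqv
  rcases hE.sqs x with h | h
  · rw [if_pos h, pw_zero, h]
  · have : ¬ x * x = 1 := by rw [h]; exact hE.ne_one
    rw [if_neg this, pw_one, h]

theorem SC_cmv (hE : IsES2 E t) (x y : E) : SC t (cmv x y) x y := by
  classical
  unfold cmv
  rcases hE.comm x y with h | h
  · rw [if_pos h]; exact SC_zero_iff.2 h
  · have : ¬ x * y = y * x := by
      intro h'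
      rw [h'] at h
      have : t = 1 := by
        have h2 : 1 * (y * x) = t * (y * x) := by rw [one_mul]; exact h
        exact (mul_right_cancel h2).symm
      exact hE.ne_one this
    rw [if_neg this]
    unfold SC
    rw [pw_one]
    exact h

theorem cmv_eq_of_SC (hE : IsES2 E t) {s : ZMod 2} {x y : E} (h : SC t s x y) : cmv x y = s :=
  SC_unique hE.ne_one (SC_cmv hE x y) h

theorem cmv_mul_left (hE : IsES2 E t) (x y w : E) : cmv (x * y) w = cmv x w + cmv y w :=
  cmv_eq_of_SC hE (SC_mul hE.sq hE.central (SC_cmv hE x w) (SC_cmv hE y w))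

theorem cmv_mul_right (hE : IsES2 E t) (w x y : E) : cmv w (x * y) = cmv w x + cmv w y := by
  rw [cmv_symm, cmv_mul_left hE, cmv_symm x, cmv_symm y]

theorem pw_injective (hE : IsES2 E t) {a b : ZMod 2} (h : pw t a = pw t b) : a = b := by
  rcases zmod2_cases a with rfl | rfl <;> rcases zmod2_cases b with rfl | rfl
  · rfl
  · rw [pw_zero, pw_one] at h; exact absurd h.symm hE.ne_one
  · rw [pw_zero, pw_one] at h; exact absurd h hE.ne_one
  · rfl

theorem sqv_mul (hE : IsES2 E t) (x y : E) : sqv (x * y) = sqv x + sqv y + cmv x y := by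
  apply pw_injective hE
  rw [← sq_eq hE]
  have h1 : y * x = pw t (cmv x y) * (x * y) := by
    have := SC_cmv hE y x
    unfold SC at this
    rw [cmv_symm] at this
    exact this
  have hc := pw_comm hE.central
  calc x * y * (x * y) = x * (y * x) * y := by group
    _ = x * (pw t (cmv x y) * (x * y)) * y := by rw [h1]
    _ = pw t (cmv x y) * ((x * x) * (y * y)) := by
        rw [← mul_assoc x, ← hc]
        group
    _ = pw t (cmv x y) * (pw t (sqv x) * pw t (sqv y)) := by rw [sq_eq hE x, sq_eq hE y]
    _ = pw t (sqv x + sqv y + cmv x y) := by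
        rw [pw_add hE.sq, pw_add hE.sq]
        exact hc _ _

theorem cmv_central_left {c : E} (hc : ∀ h, c * h = h * c) (y : E) : cmv c y = 0 :=
  (cmv_eq_zero_iff c y).2 (hc y)

theorem cmv_central_right {c : E} (hc : ∀ h, c * h = h * c) (y : E) : cmv y c = 0 := by
  rw [cmv_symm]; exact cmv_central_left hc y

theorem sqv_central (hE : IsES2 E t) {c : E} (hc : ∀ h, c * h = h * c) : sqv c = 0 := by
  rw [sqv_eq_zero_iff]
  rcases (hE.center c).1 hc with rfl | rfl
  · simp
  · exact hE.sq

theorem sqv_mul_central (hE : IsES2 E t) (x : E) {c : E} (hc : ∀ h, c * h = h * c) :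
    sqv (x * c) = sqv x := by
  rw [sqv_mul hE, sqv_central hE hc, cmv_central_right hc]
  simp

theorem cmv_mul_central_left (hE : IsES2 E t) (x y : E) {c : E} (hc : ∀ h, c * h = h * c) :
    cmv (x * c) y = cmv x y := by
  rw [cmv_mul_left hE, cmv_central_left hc]
  simp

theorem cmv_mul_central_right (hE : IsES2 E t) (x y : E) {c : E} (hc : ∀ h, c * h = h * c) :
    cmv x (y * c) = cmv x y := by
  rw [cmv_mul_right hE, cmv_central_right hc]
  simp

/-- group automorphisms preserve the squaring value -/
theorem sqv_map (f : E ≃* E) (x : E) : sqv (f x) = sqv x := by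
  classical
  unfold sqv
  have : f x * f x = 1 ↔ x * x = 1 := by
    rw [← map_mul]
    exact MulEquiv.map_eq_one_iff f
  by_cases h : x * x = 1
  · rw [if_pos h, if_pos (this.2 h)]
  · rw [if_neg h, if_neg (fun h' => h (this.1 h'))]

end Cfsg.Agent.Lib.Helper63_ESForm
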