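import Mathlib
import Cfsg.Agent.Lib.Helper63_ESForm

/-!
In an extraspecial 2-group (elementary description `IsES2`) with more than 8 elements, no
centralizer of an element is abelian.
-/

set_option autoImplicit false
open Cfsg

namespace Cfsg.Agent.Lib.Helper63_ESCount

open Cfsg.Agent.Lib.Helper89_ESClass Cfsg.Agent.Lib.Helper63_ESForm

variable {E : Type*} [Group E] {t : E}

theorem card_le_two_of {S : Type*} [Finite S] (a0 a1 : S) (h : ∀ s : S, s = a0 ∨ s = a1) :
    Nat.card S ≤ 2 := by
  have hs : Function.Surjective (fun b : Bool => if b then a1 else a0) := by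
    intro s
    rcases h s with rfl | rfl
    · exact ⟨false, by simp⟩
    · exact ⟨true, by simp⟩
  have := Nat.card_le_card_of_surjective _ hs
  simpa using this

/-- the homomorphism `a ↦ [a, y]` -/
noncomputable def cmHom (hE : IsES2 E t) (y : E) : E →* Multiplicative (ZMod 2) where
  toFun a := Multiplicative.ofAdd (cmv a y)
  map_one' := by
    have : cmv (1 : E) y = 0 := (cmv_eq_zero_iff _ _).2 (by simp)
    rw [this]; rfl
  map_mul' a b := by
    rw [cmv_mul_left hE]; rfl

theorem mem_ker_cmHom (hE : IsES2 E t) (y a : E) : a ∈ (cmHom hE y).ker ↔ a * y = y * a := by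
  rw [MonoidHom.mem_ker]
  show Multiplicative.ofAdd (cmv a y) = 1 ↔ _
  rw [← cmv_eq_zero_iff]
  exact Iff.rfl

theorem card_le_two_mul_ker [Finite E] (hE : IsES2 E t) (y : E) :
    Nat.card E ≤ 2 * Nat.card (cmHom hE y).ker := by
  rw [← Subgroup.card_mul_index (cmHom hE y).ker, Subgroup.index_ker, mul_comm]
  apply Nat.mul_le_mul_right
  calc Nat.card (cmHom hE y).range ≤ Nat.card (Multiplicative (ZMod 2)) :=
        Subgroup.card_le_card_group _
    _ = 2 := by
        rw [Nat.card_eq_fintype_card]
        rfl

theorem cmv_inv_left (hE : IsES2 E t) (q y : E) : cmv q⁻¹ y = cmv q y := by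
  have h1 : cmv (q⁻¹ * q) y = cmv q⁻¹ y + cmv q y := cmv_mul_left hE _ _ _
  rw [inv_mul_cancel] at h1
  have h2 : cmv (1 : E) y = 0 := (cmv_eq_zero_iff _ _).2 (by simp)
  rw [h2] at h1
  have h3 : cmv q y + cmv q y = 0 := CharTwo.add_self_eq_zero _
  calc cmv q⁻¹ y = cmv q⁻¹ y + (cmv q y + cmv q y) := by rw [h3, add_zero]
    _ = (cmv q⁻¹ y + cmv q y) + cmv q y := by rw [add_assoc]
    _ = cmv q y := by rw [← h1, zero_add]

theorem card_le_of_abelian_centralizer [Finite E] (hE : IsES2 E t) (y : E)
    (hab : ∀ a b : E, a * y = y * a → b * y = y * b → a * b = b * a) : Nat.card E ≤ 8 := by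
  by_cases hq : ∃ q : E, q * y ≠ y * q
  · obtain ⟨q, hq⟩ := hq
    have h1 := card_le_two_mul_ker hE y
    -- the second homomorphism, on the centralizer of `y`
    let f2 : (cmHom hE y).ker →* Multiplicative (ZMod 2) := (cmHom hE q).comp (Subgroup.subtype _)
    have h2 : Nat.card (cmHom hE y).ker ≤ 2 * Nat.card f2.ker := by
      rw [← Subgroup.card_mul_index f2.ker, Subgroup.index_ker, mul_comm]
      apply Nat.mul_le_mul_right
      calc Nat.card f2.range ≤ Nat.card (Multiplicative (ZMod 2)) :=
            Subgroup.card_le_card_group _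
        _ = 2 := by
            rw [Nat.card_eq_fintype_card]
            rfl
    have hcen : ∀ a : f2.ker, ∀ k : E, ((a : (cmHom hE y).ker) : E) * k = k * a := by
      intro a k
      have ha1 : ((a : (cmHom hE y).ker) : E) * y = y * a :=
        (mem_ker_cmHom hE y _).1 (a : (cmHom hE y).ker).2
      have ha2 : ((a : (cmHom hE y).ker) : E) * q = q * a := by
        have := a.2
        rw [MonoidHom.mem_ker] at this
        exact (mem_ker_cmHom hE q _).1 this
      by_cases hk : k * y = y * k
      · exact hab _ _ ha1 hk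
      · have h3 : cmv k y = 1 := by
          rcases zmod2_cases (cmv k y) with h | h
          · exact absurd ((cmv_eq_zero_iff _ _).1 h) hk
          · exact h
        have h4 : cmv q y = 1 := by
          rcases zmod2_cases (cmv q y) with h | h
          · exact absurd ((cmv_eq_zero_iff _ _).1 h) hq
          · exact h
        have h5 : (q⁻¹ * k) * y = y * (q⁻¹ * k) := by
          rw [← cmv_eq_zero_iff, cmv_mul_left hE, cmv_inv_left hE, h3, h4]
          decide
        have h6 := hab _ _ ha1 h5
        calc ((a : (cmHom hE y).ker) : E) * k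
            = ((a : (cmHom hE y).ker) : E) * q * (q⁻¹ * k) := by group
          _ = q * (((a : (cmHom hE y).ker) : E) * (q⁻¹ * k)) := by rw [ha2]; group
          _ = q * ((q⁻¹ * k) * ((a : (cmHom hE y).ker) : E)) := by rw [h6]
          _ = k * a := by group
    have h3 : Nat.card f2.ker ≤ 2 := by
      have ht : ∃ a : f2.ker, ((a : (cmHom hE y).ker) : E) = t ∨ ∀ b : f2.ker, b = 1 := by
        by_cases h : ∃ a : f2.ker, ((a : (cmHom hE y).ker) : E) = t
        · obtain ⟨a, ha⟩ := h
          exact ⟨a, Or.inl ha⟩
        · refine ⟨1, Or.inr fun b => ?_⟩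
          rcases (hE.center _).1 (hcen b) with h' | h'
          · exact Subtype.ext (Subtype.ext h')
          · exact absurd ⟨b, h'⟩ h
      obtain ⟨a, ha⟩ := ht
      apply card_le_two_of (1 : f2.ker) a
      intro b
      rcases ha with ha | ha
      · rcases (hE.center _).1 (hcen b) with h' | h'
        · left; exact Subtype.ext (Subtype.ext h')
        · right; exact Subtype.ext (Subtype.ext (h'.trans ha.symm))
      · left; exact ha b
    omega
  · push Not at hq
    have hcen : ∀ a k : E, a * k = k * a := fun a k => hab a k (hq a) (hq k)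
    have : Nat.card E ≤ 2 := by
      apply card_le_two_of (1 : E) t
      intro b
      exact (hE.center b).1 (hcen b)
    omega

end Cfsg.Agent.Lib.Helper63_ESCount
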