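import Mathlib

/-!
# Tables of marks for finite group actions (helper88)

For a finite group `W` acting on finite sets `A` and `B`:
* the marks `|A^H|` on an upward closed family of subgroups determine the numbers of points with
  stabilizer exactly `H` for `H` in the family (`exactCard_eq_of_marks`);
* if a normal subgroup `K` acts trivially on `A` and `B` and the marks agree at all `H > K`, then
  `|A| ≡ |B|` modulo `|W : K|` (`card_modEq_of_marks`);
* if all marks agree, there is an equivariant bijection (`exists_equiv_of_marks`, Burnside).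
-/

set_option autoImplicit false
set_option linter.style.haveILetI false

namespace Cfsg.Agent.Lib.Helper88_Marks

open MulAction

variable {W : Type*} [Group W]

section Basic

variable {A : Type*} [MulAction W A]

theorem mem_fixedPoints_iff_le (H : Subgroup W) (a : A) :
    a ∈ fixedPoints H A ↔ H ≤ stabilizer W a := by
  constructor
  · intro h w hw
    exact h ⟨w, hw⟩
  · intro h w
    exact h w.2

variable (W A) in
/-- the number of points with stabilizer exactly `H` -/
noncomputable def exactCard (H : Subgroup W) : ℕ := Nat.card {a : A // stabilizer W a = H}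

variable (W A) in
/-- the mark of `H` -/
noncomputable def mark (H : Subgroup W) : ℕ := Nat.card (fixedPoints H A)

theorem mark_eq [Finite W] [Finite A] (H : Subgroup W) :
    mark W A H = exactCard W A H +
      ∑ᶠ K ∈ {K : Subgroup W | H < K}, exactCard W A K := by
  classical
  letI : Fintype A := Fintype.ofFinite A
  letI : Fintype (Subgroup W) := Fintype.ofFinite _
  have hfin : {K : Subgroup W | H < K}.Finite := Set.toFinite _
  rw [finsum_mem_eq_finite_toFinset_sum _ hfin]
  unfold mark exactCard
  have h1 : Nat.card (fixedPoints H A) =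
      (Finset.univ.filter (fun a : A => H ≤ stabilizer W a)).card := by
    rw [Nat.card_eq_fintype_card, Fintype.card_subtype]
    congr 1
    ext a
    simp only [Finset.mem_filter, Finset.mem_univ, true_and]
    exact mem_fixedPoints_iff_le H a
  have h2 : ∀ K : Subgroup W, Nat.card {a : A // stabilizer W a = K} =
      (Finset.univ.filter (fun a : A => stabilizer W a = K)).card := by
    intro K
    rw [Nat.card_eq_fintype_card, Fintype.card_subtype]
  rw [h1, h2 H]
  simp only [h2]
  have h3 := Finset.card_eq_sum_card_fiberwise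
    (f := fun a : A => stabilizer W a)
    (s := Finset.univ.filter (fun a : A => H ≤ stabilizer W a))
    (t := Finset.univ.filter (fun K : Subgroup W => H ≤ K))
    (by
      intro a ha
      simp only [Finset.coe_filter, Finset.mem_univ, true_and, Set.mem_ofPred_eq] at ha ⊢
      exact ha)
  rw [h3]
  have h4 : Finset.univ.filter (fun K : Subgroup W => H ≤ K) =
      insert H hfin.toFinset := by
    ext K
    simp only [Finset.mem_filter, Finset.mem_univ, true_and, Finset.mem_insert,
      Set.Finite.mem_toFinset, Set.mem_ofPred_eq]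
    constructor
    · intro h
      rcases eq_or_lt_of_le h with h | h
      · exact Or.inl h.symm
      · exact Or.inr h
    · rintro (h | h)
      · exact h ▸ le_rfl
      · exact h.le
  rw [h4, Finset.sum_insert (by simp)]
  have h5 : ∀ K : Subgroup W, H ≤ K →
      (Finset.filter (fun a : A => stabilizer W a = K)
        (Finset.univ.filter (fun a : A => H ≤ stabilizer W a))) =
      Finset.univ.filter (fun a : A => stabilizer W a = K) := by
    intro K hK
    ext a
    simp only [Finset.mem_filter, Finset.mem_univ, true_and]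
    constructor
    · exact fun h => h.2
    · exact fun h => ⟨h ▸ hK, h⟩
  rw [h5 H le_rfl]
  congr 1
  apply Finset.sum_congr rfl
  intro K hK
  simp only [Set.Finite.mem_toFinset, Set.mem_ofPred_eq] at hK
  rw [h5 K hK.le]

end Basic

section Compare

variable {A B : Type*} [MulAction W A] [MulAction W B]

/-- Marks on an upward closed family determine the exact stabilizer counts on it. -/
theorem exactCard_eq_of_marks [Finite W] [Finite A] [Finite B] (U : Set (Subgroup W))
    (hU : ∀ H K : Subgroup W, H ∈ U → H ≤ K → K ∈ U)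
    (hm : ∀ H ∈ U, mark W A H = mark W B H) :
    ∀ H ∈ U, exactCard W A H = exactCard W B H := by
  have hwf : WellFounded (fun H K : Subgroup W => K < H) := wellFounded_gt
  intro H
  induction H using hwf.induction with
  | _ H IH =>
  intro hH
  have h1 := mark_eq (A := A) H
  have h2 := mark_eq (A := B) H
  have h3 : ∑ᶠ K ∈ {K : Subgroup W | H < K}, exactCard W A K =
      ∑ᶠ K ∈ {K : Subgroup W | H < K}, exactCard W B K := by
    apply finsum_mem_congr rfl
    intro K hK
    exact IH K hK (hU H K hH (le_of_lt hK))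
  have h4 := hm H hH
  omega

end Compare

section Divisibility

variable {A : Type*} [MulAction W A]

theorem stabilizer_smul_of_normal (K : Subgroup W) [K.Normal] (w : W) (a : A)
    (h : stabilizer W a = K) : stabilizer W (w • a) = K := by
  rw [stabilizer_smul_eq_stabilizer_map_conj, h]
  ext x
  rw [Subgroup.mem_map_equiv, MulAut.conj_symm_apply]
  constructor
  · intro hx
    have := ‹K.Normal›.conj_mem _ hx w
    simpa [mul_assoc] using this
  · intro hx
    exact ‹K.Normal›.conj_mem _ hx w⁻¹ |> fun h => by simpa using h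

/-- If `K` is normal, the number of points with stabilizer exactly `K` is divisible by the
index of `K`. -/
theorem index_dvd_exactCard [Finite W] [Finite A] (K : Subgroup W) [K.Normal] :
    K.index ∣ exactCard W A K := by
  classical
  letI : Fintype A := Fintype.ofFinite A
  letI : Fintype (orbitRel.Quotient W A) := Fintype.ofFinite _
  unfold exactCard
  rw [Nat.card_eq_fintype_card, Fintype.card_subtype]
  have h3 := Finset.card_eq_sum_card_fiberwise
    (f := fun a : A => (Quotient.mk'' a : orbitRel.Quotient W A))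
    (s := Finset.univ.filter (fun a : A => stabilizer W a = K))
    (t := Finset.univ) (by intro a _; simp)
  rw [h3]
  apply Finset.dvd_sum
  intro q _
  by_cases hne : (Finset.filter (fun a : A => (Quotient.mk'' a : orbitRel.Quotient W A) = q)
      (Finset.univ.filter (fun a : A => stabilizer W a = K))).Nonempty
  · obtain ⟨a₀, ha₀⟩ := hne
    simp only [Finset.mem_filter, Finset.mem_univ, true_and] at ha₀
    have heq : (Finset.filter (fun a : A => (Quotient.mk'' a : orbitRel.Quotient W A) = q)
        (Finset.univ.filter (fun a : A => stabilizer W a = K))) =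
        (orbit W a₀).toFinset := by
      ext a
      simp only [Finset.mem_filter, Finset.mem_univ, true_and, Set.mem_toFinset]
      constructor
      · rintro ⟨_, h2⟩
        rw [← ha₀.2, Quotient.eq''] at h2
        exact (orbitRel_apply).1 h2
      · intro h
        obtain ⟨w, rfl⟩ := h
        refine ⟨stabilizer_smul_of_normal K w a₀ ha₀.1, ?_⟩
        rw [← ha₀.2, Quotient.eq'']
        exact (orbitRel_apply).2 ⟨w, rfl⟩
    rw [heq, Set.toFinset_card, ← Nat.card_eq_fintype_card, Nat.card_coe_set_eq,
      ← index_stabilizer, ha₀.1]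
  · rw [Finset.not_nonempty_iff_eq_empty] at hne
    rw [hne]
    simp

end Divisibility

section Congruence

variable {A B : Type*} [MulAction W A] [MulAction W B]

theorem card_eq_mark_of_le [Finite A] (K : Subgroup W) (hA : ∀ a : A, K ≤ stabilizer W a) :
    Nat.card A = mark W A K := by
  unfold mark
  have : fixedPoints K A = Set.univ := by
    ext a
    simp only [Set.mem_univ, iff_true]
    exact (mem_fixedPoints_iff_le K a).2 (hA a)
  rw [this, Nat.card_coe_set_eq, Set.ncard_univ]

/-- If `K` is normal and the marks of all `H > K` agree, then the marks of `K` are congruent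
modulo `|W : K|`. -/
theorem mark_modEq_of_marks [Finite W] [Finite A] [Finite B] (K : Subgroup W) [K.Normal]
    (hm : ∀ H : Subgroup W, K < H → mark W A H = mark W B H) :
    mark W A K ≡ mark W B K [MOD K.index] := by
  rw [mark_eq (A := A), mark_eq (A := B)]
  have h3 : ∑ᶠ H ∈ {H : Subgroup W | K < H}, exactCard W A H =
      ∑ᶠ H ∈ {H : Subgroup W | K < H}, exactCard W B H := by
    apply finsum_mem_congr rfl
    intro H hH
    exact exactCard_eq_of_marks {H : Subgroup W | K < H}
      (fun H₁ H₂ h1 h2 => lt_of_lt_of_le h1 h2) hm H hH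
  rw [h3]
  apply Nat.ModEq.add_right
  have h1 : exactCard W A K ≡ 0 [MOD K.index] :=
    (Nat.modEq_zero_iff_dvd).2 (index_dvd_exactCard K)
  have h2 : exactCard W B K ≡ 0 [MOD K.index] :=
    (Nat.modEq_zero_iff_dvd).2 (index_dvd_exactCard K)
  exact h1.trans h2.symm

/-- If a normal subgroup `K` acts trivially on `A` and `B` and the marks of all `H > K` agree,
then `|A| ≡ |B|` modulo `|W : K|`. -/
theorem card_modEq_of_marks [Finite W] [Finite A] [Finite B] (K : Subgroup W) [K.Normal]
    (hA : ∀ a : A, K ≤ stabilizer W a) (hB : ∀ b : B, K ≤ stabilizer W b)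
    (hm : ∀ H : Subgroup W, K < H → mark W A H = mark W B H) :
    Nat.card A ≡ Nat.card B [MOD K.index] := by
  rw [card_eq_mark_of_le K hA, card_eq_mark_of_le K hB]
  exact mark_modEq_of_marks K hm

end Congruence

section Burnside

variable {A B : Type*} [MulAction W A] [MulAction W B]

/-- the orbit map `w • a ↦ w • b` (junk outside the orbit of `a`) -/
noncomputable def orbitMap (a : A) (b : B) : A → B := by
  classical
  exact fun x => if h : x ∈ orbit W a then (Classical.choose h : W) • b else b

theorem orbitMap_smul {a : A} {b : B} (hab : stabilizer W a = stabilizer W b) (w : W) :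
    orbitMap (W := W) a b (w • a) = w • b := by
  classical
  have h : w • a ∈ orbit W a := ⟨w, rfl⟩
  unfold orbitMap
  rw [dif_pos h]
  have h1 : (Classical.choose h : W) • a = w • a := Classical.choose_spec h
  have h2 : w⁻¹ * Classical.choose h ∈ stabilizer W a := by
    rw [mem_stabilizer_iff, mul_smul, h1, inv_smul_smul]
  rw [hab, mem_stabilizer_iff, mul_smul] at h2
  have h3 := congrArg (fun y => w • y) h2
  simpa using h3

theorem stabilizer_orbitMap {a : A} {b : B} (hab : stabilizer W a = stabilizer W b) {x : A}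
    (hx : x ∈ orbit W a) : stabilizer W (orbitMap (W := W) a b x) = stabilizer W x := by
  obtain ⟨w, rfl⟩ := hx
  rw [orbitMap_smul hab, stabilizer_smul_eq_stabilizer_map_conj,
    stabilizer_smul_eq_stabilizer_map_conj, hab]

theorem ncard_orbit_inter_fixedPoints {a : A} {b : B} (hab : stabilizer W a = stabilizer W b)
    (L : Subgroup W) :
    (orbit W a ∩ fixedPoints L A).ncard = (orbit W b ∩ fixedPoints L B).ncard := by
  apply Set.ncard_congr (fun x _ => orbitMap (W := W) a b x)
  · rintro x ⟨hx1, hx2⟩
    refine ⟨?_, ?_⟩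
    · obtain ⟨w, rfl⟩ := hx1
      rw [orbitMap_smul hab]
      exact ⟨w, rfl⟩
    · rw [mem_fixedPoints_iff_le, stabilizer_orbitMap hab hx1]
      exact (mem_fixedPoints_iff_le L x).1 hx2
  · rintro x y ⟨hx1, _⟩ ⟨hy1, _⟩ hxy
    obtain ⟨w, rfl⟩ := hx1
    obtain ⟨w', rfl⟩ := hy1
    simp only [orbitMap_smul hab] at hxy
    have h1 : w'⁻¹ * w ∈ stabilizer W b := by
      rw [mem_stabilizer_iff, mul_smul, hxy, inv_smul_smul]
    rw [← hab, mem_stabilizer_iff, mul_smul] at h1
    have h3 := congrArg (fun y => w' • y) h1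
    simpa using h3
  · rintro y ⟨hy1, hy2⟩
    obtain ⟨w, rfl⟩ := hy1
    refine ⟨w • a, ⟨⟨w, rfl⟩, ?_⟩, orbitMap_smul hab w⟩
    rw [mem_fixedPoints_iff_le, ← stabilizer_orbitMap hab ⟨w, rfl⟩, orbitMap_smul hab]
    exact (mem_fixedPoints_iff_le L _).1 hy2

/-- The inductive form of Burnside's theorem on invariant subsets. -/
theorem exists_map_of_marks_aux [Finite W] [Finite A] [Finite B] [Nonempty B] :
    ∀ (n : ℕ) (s : Set A) (t : Set B), s.ncard = n →
      (∀ (w : W), ∀ x ∈ s, w • x ∈ s) → (∀ (w : W), ∀ y ∈ t, w • y ∈ t) →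
      (∀ L : Subgroup W, (s ∩ fixedPoints L A).ncard = (t ∩ fixedPoints L B).ncard) →
      ∃ f : A → B, Set.MapsTo f s t ∧ Set.InjOn f s ∧
        ∀ (w : W), ∀ x ∈ s, f (w • x) = w • f x := by
  classical
  intro n
  induction n using Nat.strong_induction_on with
  | _ n IH =>
  intro s t hn hs ht hm
  rcases s.eq_empty_or_nonempty with hse | hsne
  · subst hse
    obtain ⟨b⟩ := ‹Nonempty B›
    exact ⟨fun _ => b, fun x hx => hx.elim, fun x hx => hx.elim, fun w x hx => hx.elim⟩
  -- pick a point of `s` with stabilizer of maximal order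
  obtain ⟨a, has, hmax⟩ := Set.exists_max_image s (fun x : A => Nat.card (stabilizer W x))
    (Set.toFinite s) hsne
  set H := stabilizer W a with hH
  have h1 : (s ∩ fixedPoints H A).Nonempty :=
    ⟨a, has, (mem_fixedPoints_iff_le H a).2 le_rfl⟩
  have h2 : (t ∩ fixedPoints H B).Nonempty := by
    rw [← Set.ncard_pos (Set.toFinite _), ← hm H, Set.ncard_pos (Set.toFinite _)]
    exact h1
  obtain ⟨b, hbt, hbH⟩ := h2
  rw [mem_fixedPoints_iff_le] at hbH
  have h3 : (s ∩ fixedPoints (stabilizer W b) A).Nonempty := by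
    rw [← Set.ncard_pos (Set.toFinite _), hm (stabilizer W b), Set.ncard_pos (Set.toFinite _)]
    exact ⟨b, hbt, (mem_fixedPoints_iff_le _ b).2 le_rfl⟩
  obtain ⟨a', ha's, ha'⟩ := h3
  rw [mem_fixedPoints_iff_le] at ha'
  have hab : stabilizer W a = stabilizer W b := by
    apply Subgroup.eq_of_le_of_card_ge hbH
    exact (Subgroup.card_le_of_le ha').trans (hmax a' ha's)
  -- remove the orbits
  set s' := s \ orbit W a with hs'
  set t' := t \ orbit W b with ht'
  have horbs : orbit W a ⊆ s := by
    rintro _ ⟨w, rfl⟩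
    exact hs w a has
  have horbt : orbit W b ⊆ t := by
    rintro _ ⟨w, rfl⟩
    exact ht w b hbt
  have hs'inv : ∀ (w : W), ∀ x ∈ s', w • x ∈ s' := by
    rintro w x ⟨hx1, hx2⟩
    refine ⟨hs w x hx1, fun h => hx2 ?_⟩
    obtain ⟨w', hw'⟩ := h
    have hw'' : w' • a = w • x := hw'
    refine ⟨w⁻¹ * w', ?_⟩
    show (w⁻¹ * w') • a = x
    rw [mul_smul, hw'', inv_smul_smul]
  have ht'inv : ∀ (w : W), ∀ y ∈ t', w • y ∈ t' := by
    rintro w y ⟨hy1, hy2⟩
    refine ⟨ht w y hy1, fun h => hy2 ?_⟩
    obtain ⟨w', hw'⟩ := h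
    have hw'' : w' • b = w • y := hw'
    refine ⟨w⁻¹ * w', ?_⟩
    show (w⁻¹ * w') • b = y
    rw [mul_smul, hw'', inv_smul_smul]
  have hsplit : ∀ L : Subgroup W, (s ∩ fixedPoints L A).ncard =
      (s' ∩ fixedPoints L A).ncard + (orbit W a ∩ fixedPoints L A).ncard := by
    intro L
    rw [← Set.ncard_union_eq _ (Set.toFinite _) (Set.toFinite _)]
    · congr 1
      ext x
      simp only [Set.mem_inter_iff, Set.mem_union, hs', Set.mem_sdiff]
      constructor
      · rintro ⟨h1, h2⟩
        by_cases hx : x ∈ orbit W a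
        · exact Or.inr ⟨hx, h2⟩
        · exact Or.inl ⟨⟨h1, hx⟩, h2⟩
      · rintro (⟨⟨h1, _⟩, h2⟩ | ⟨h1, h2⟩)
        · exact ⟨h1, h2⟩
        · exact ⟨horbs h1, h2⟩
    · rw [Set.disjoint_left]
      rintro x ⟨⟨_, h1⟩, _⟩ ⟨h2, _⟩
      exact h1 h2
  have hsplit' : ∀ L : Subgroup W, (t ∩ fixedPoints L B).ncard =
      (t' ∩ fixedPoints L B).ncard + (orbit W b ∩ fixedPoints L B).ncard := by
    intro L
    rw [← Set.ncard_union_eq _ (Set.toFinite _) (Set.toFinite _)]
    · congr 1
      ext x
      simp only [Set.mem_inter_iff, Set.mem_union, ht', Set.mem_sdiff]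
      constructor
      · rintro ⟨h1, h2⟩
        by_cases hx : x ∈ orbit W b
        · exact Or.inr ⟨hx, h2⟩
        · exact Or.inl ⟨⟨h1, hx⟩, h2⟩
      · rintro (⟨⟨h1, _⟩, h2⟩ | ⟨h1, h2⟩)
        · exact ⟨h1, h2⟩
        · exact ⟨horbt h1, h2⟩
    · rw [Set.disjoint_left]
      rintro x ⟨⟨_, h1⟩, _⟩ ⟨h2, _⟩
      exact h1 h2
  have hm' : ∀ L : Subgroup W, (s' ∩ fixedPoints L A).ncard = (t' ∩ fixedPoints L B).ncard := by
    intro L
    have h1 := hsplit L
    have h2 := hsplit' L
    have h3 := ncard_orbit_inter_fixedPoints hab L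
    have h4 := hm L
    omega
  have hlt : s'.ncard < n := by
    rw [← hn]
    apply Set.ncard_lt_ncard _ (Set.toFinite s)
    refine ⟨Set.sdiff_subset, fun h => ?_⟩
    exact (h has).2 (mem_orbit_self a)
  obtain ⟨f', hf'1, hf'2, hf'3⟩ := IH s'.ncard hlt s' t' rfl hs'inv ht'inv hm'
  refine ⟨fun x => if x ∈ orbit W a then orbitMap (W := W) a b x else f' x, ?_, ?_, ?_⟩
  · intro x hx
    by_cases hxa : x ∈ orbit W a
    · simp only [if_pos hxa]
      obtain ⟨w, rfl⟩ := hxa
      rw [orbitMap_smul hab]
      exact horbt ⟨w, rfl⟩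
    · simp only [if_neg hxa]
      exact (hf'1 ⟨hx, hxa⟩).1
  · intro x hx y hy hxy
    by_cases hxa : x ∈ orbit W a <;> by_cases hya : y ∈ orbit W a
    · simp only [if_pos hxa, if_pos hya] at hxy
      obtain ⟨w, rfl⟩ := hxa
      obtain ⟨w', rfl⟩ := hya
      simp only [orbitMap_smul hab] at hxy
      have h1 : w'⁻¹ * w ∈ stabilizer W b := by
        rw [mem_stabilizer_iff, mul_smul, hxy, inv_smul_smul]
      rw [← hab, mem_stabilizer_iff, mul_smul] at h1
      have h3 := congrArg (fun y => w' • y) h1
      simpa using h3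
    · simp only [if_pos hxa, if_neg hya] at hxy
      exfalso
      obtain ⟨w, rfl⟩ := hxa
      rw [orbitMap_smul hab] at hxy
      exact (hf'1 ⟨hy, hya⟩).2 (hxy ▸ ⟨w, rfl⟩)
    · simp only [if_neg hxa, if_pos hya] at hxy
      exfalso
      obtain ⟨w, rfl⟩ := hya
      rw [orbitMap_smul hab] at hxy
      exact (hf'1 ⟨hx, hxa⟩).2 (hxy ▸ ⟨w, rfl⟩)
    · simp only [if_neg hxa, if_neg hya] at hxy
      exact hf'2 ⟨hx, hxa⟩ ⟨hy, hya⟩ hxy
  · intro w x hx
    by_cases hxa : x ∈ orbit W a
    · have hwx : w • x ∈ orbit W a := by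
        obtain ⟨w', rfl⟩ := hxa
        exact ⟨w * w', mul_smul _ _ _⟩
      simp only [if_pos hxa, if_pos hwx]
      obtain ⟨w', rfl⟩ := hxa
      rw [← mul_smul, orbitMap_smul hab, orbitMap_smul hab, mul_smul]
    · have hwx : w • x ∉ orbit W a := (hs'inv w x ⟨hx, hxa⟩).2
      simp only [if_neg hxa, if_neg hwx]
      exact hf'3 w x ⟨hx, hxa⟩

/-- **Burnside's theorem.** Two finite `W`-sets with the same marks are isomorphic. -/
theorem exists_equiv_of_marks [Finite W] [Finite A] [Finite B]
    (hm : ∀ L : Subgroup W, mark W A L = mark W B L) :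
    ∃ e : A ≃ B, ∀ (w : W) (a : A), e (w • a) = w • e a := by
  have hcard : Nat.card A = Nat.card B := by
    have h1 := card_eq_mark_of_le (W := W) (A := A) ⊥ (fun _ => bot_le)
    have h2 := card_eq_mark_of_le (W := W) (A := B) ⊥ (fun _ => bot_le)
    rw [h1, h2, hm]
  rcases isEmpty_or_nonempty B with hB | hB
  · have hA : IsEmpty A := by
      rw [← Finite.card_eq_zero_iff (α := A), hcard, Finite.card_eq_zero_iff]
      exact hB
    exact ⟨Equiv.equivOfIsEmpty A B, fun w a => (hA.false a).elim⟩
  obtain ⟨f, -, hf2, hf3⟩ := exists_map_of_marks_aux (W := W) (A := A) (B := B)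
    (Set.univ : Set A).ncard Set.univ Set.univ rfl (fun _ _ _ => Set.mem_univ _)
    (fun _ _ _ => Set.mem_univ _) (by
      intro L
      rw [Set.univ_inter, Set.univ_inter, ← Nat.card_coe_set_eq, ← Nat.card_coe_set_eq]
      exact hm L)
  have hinj : Function.Injective f := fun x y h => hf2 (Set.mem_univ x) (Set.mem_univ y) h
  have hbij : Function.Bijective f :=
    (Nat.bijective_iff_injective_and_card f).2 ⟨hinj, hcard⟩
  exact ⟨Equiv.ofBijective f hbij, fun w a => hf3 w a (Set.mem_univ a)⟩

end Burnside

end Cfsg.Agent.Lib.Helper88_Marks
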