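import Mathlib
import Cfsg.Agent.Lib.Helper88_Marks

/-!
# The automorphism group of a right-free biset and its transfer (helper88)

For a finite `(T × T)`-set `X` on which `1 × T` acts freely, `autR T X` is the group of
permutations of `X` commuting with the action of `1 × T`; `T` maps into it via the action of
`T × 1`.  The group is transitive on `X`, the stabilizer `H` of a right orbit has index `|X| / |T|`
and comes with a homomorphism to `T`, which gives a transfer map `T → T^ab`.
-/

set_option autoImplicit false
set_option linter.style.haveILetI false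

namespace Cfsg.Agent.Lib.Helper88_Biset7

open MulAction

universe u v

variable {T : Type u} [Group T] {X : Type v} [MulAction (T × T) X]

variable (T X) in
/-- The permutations of `X` commuting with the right action. -/
def autR : Subgroup (Equiv.Perm X) where
  carrier := {g | ∀ (t : T) (x : X), g (((1 : T), t) • x) = ((1 : T), t) • g x}
  mul_mem' := by
    intro g h hg hh t x
    show g (h (((1 : T), t) • x)) = ((1 : T), t) • g (h x)
    rw [hh, hg]
  one_mem' := fun _ _ => rfl
  inv_mem' := by
    intro g hg t x
    rw [Equiv.Perm.inv_eq_iff_eq, hg]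
    simp

theorem autR_apply (g : autR T X) (t : T) (x : X) :
    (g : Equiv.Perm X) (((1 : T), t) • x) = ((1 : T), t) • (g : Equiv.Perm X) x := g.2 t x

variable (T X) in
/-- The left action of `T` as a homomorphism into `autR T X`. -/
def iota : T →* autR T X where
  toFun s := ⟨MulAction.toPerm ((s, (1 : T)) : T × T), fun t x => by
    show (s, (1 : T)) • ((1 : T), t) • x = ((1 : T), t) • (s, (1 : T)) • x
    rw [← mul_smul, ← mul_smul]
    congr 1
    ext <;> simp⟩
  map_one' := by
    apply Subtype.ext
    ext x
    show ((1 : T), (1 : T)) • x = x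
    exact one_smul _ x
  map_mul' s s' := by
    apply Subtype.ext
    ext x
    show (s * s', (1 : T)) • x = (s, (1 : T)) • (s', (1 : T)) • x
    rw [← mul_smul]
    congr 1
    ext <;> simp

theorem iota_apply (s : T) (x : X) : ((iota T X s : autR T X) : Equiv.Perm X) x = (s, (1 : T)) • x :=
  rfl

section Transitive

variable (T X)

/-- The right orbit relation. -/
def rsetoid : Setoid X where
  r x y := ∃ t : T, ((1 : T), t) • x = y
  iseqv := by
    refine ⟨fun x => ⟨1, one_smul _ x⟩, ?_, ?_⟩
    · rintro x y ⟨t, rfl⟩
      refine ⟨t⁻¹, ?_⟩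
      rw [← mul_smul]
      have : (((1 : T), t⁻¹) : T × T) * ((1 : T), t) = 1 := by ext <;> simp
      rw [this, one_smul]
    · rintro x y z ⟨t, rfl⟩ ⟨t', rfl⟩
      refine ⟨t' * t, ?_⟩
      rw [← mul_smul]
      congr 1
      ext <;> simp

/-- The set of right orbits. -/
abbrev ROrb : Type v := Quotient (rsetoid T X)

variable {T X}

/-- The chosen representative of the right orbit of `x`. -/
noncomputable def rep (x : X) : X := Quotient.out (Quotient.mk (rsetoid T X) x)

theorem exists_coord (x : X) : ∃ t : T, ((1 : T), t) • rep (T := T) x = x :=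
  Quotient.exact (Quotient.out_eq (Quotient.mk (rsetoid T X) x))

/-- The coordinate of `x` with respect to the chosen representative of its orbit. -/
noncomputable def coord (x : X) : T := Classical.choose (exists_coord (T := T) x)

theorem coord_spec (x : X) : ((1 : T), coord (T := T) x) • rep (T := T) x = x :=
  Classical.choose_spec (exists_coord (T := T) x)

theorem rep_eq_of_mk_eq {x y : X}
    (h : Quotient.mk (rsetoid T X) x = Quotient.mk (rsetoid T X) y) :
    rep (T := T) x = rep (T := T) y := by
  unfold rep
  rw [h]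

theorem mk_rep (x : X) : Quotient.mk (rsetoid T X) (rep (T := T) x) = Quotient.mk (rsetoid T X) x :=
  Quotient.out_eq _

theorem mk_smul (t : T) (x : X) :
    Quotient.mk (rsetoid T X) (((1 : T), t) • x) = Quotient.mk (rsetoid T X) x :=
  Quotient.sound ((rsetoid T X).symm ⟨t, rfl⟩)

theorem smul_smul_right (t t' : T) (x : X) :
    ((1 : T), t) • ((1 : T), t') • x = ((1 : T), t * t') • x := by
  rw [← mul_smul]
  congr 1
  ext <;> simp

variable (hfree : ∀ (x : X) (t : T), ((1 : T), t) • x = x → t = 1)

include hfree in
theorem coord_unique {x y : X} {t t' : T} (h : ((1 : T), t) • y = x) (h' : ((1 : T), t') • y = x) :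
    t = t' := by
  have h1 : ((1 : T), t'⁻¹ * t) • y = y := by
    rw [← smul_smul_right, h, ← h', smul_smul_right, inv_mul_cancel]
    exact one_smul _ y
  have h2 := hfree y _ h1
  calc t = t' * (t'⁻¹ * t) := by group
    _ = t' := by rw [h2, mul_one]

include hfree in
theorem coord_smul (t : T) (x : X) : coord (T := T) (((1 : T), t) • x) = t * coord (T := T) x := by
  have h1 := coord_spec (T := T) (((1 : T), t) • x)
  rw [rep_eq_of_mk_eq (mk_smul t x)] at h1
  have h2 : ((1 : T), t * coord (T := T) x) • rep (T := T) x = ((1 : T), t) • x := by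
    rw [← smul_smul_right, coord_spec]
  exact coord_unique hfree h1 h2

/-- The permutation of `X` with orbit permutation `π` and twist `s`. -/
noncomputable def gfun (π : Equiv.Perm (ROrb T X)) (s : ROrb T X → T) (x : X) : X :=
  ((1 : T), coord (T := T) x * s (Quotient.mk _ x)) •
    Quotient.out (π (Quotient.mk (rsetoid T X) x))

theorem mk_gfun (π : Equiv.Perm (ROrb T X)) (s : ROrb T X → T) (x : X) :
    Quotient.mk (rsetoid T X) (gfun π s x) = π (Quotient.mk _ x) := by
  unfold gfun
  rw [mk_smul]
  exact Quotient.out_eq _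

include hfree in
theorem coord_gfun (π : Equiv.Perm (ROrb T X)) (s : ROrb T X → T) (x : X) :
    coord (T := T) (gfun π s x) = coord (T := T) x * s (Quotient.mk _ x) := by
  have h1 := coord_spec (T := T) (gfun π s x)
  have h2 : rep (T := T) (gfun π s x) = Quotient.out (π (Quotient.mk (rsetoid T X) x)) := by
    unfold rep
    rw [mk_gfun]
  rw [h2] at h1
  exact coord_unique hfree h1 rfl

include hfree in
theorem gfun_smul (π : Equiv.Perm (ROrb T X)) (s : ROrb T X → T) (t : T) (x : X) :
    gfun π s (((1 : T), t) • x) = ((1 : T), t) • gfun π s x := by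
  unfold gfun
  rw [coord_smul hfree, mk_smul, smul_smul_right, mul_assoc]

include hfree in
theorem gfun_injective (π : Equiv.Perm (ROrb T X)) (s : ROrb T X → T) :
    Function.Injective (gfun (T := T) (X := X) π s) := by
  intro x y h
  have h1 : Quotient.mk (rsetoid T X) x = Quotient.mk (rsetoid T X) y := by
    apply π.injective
    rw [← mk_gfun π s, ← mk_gfun π s, h]
  have h2 : coord (T := T) x = coord (T := T) y := by
    have h3 := coord_gfun hfree π s x
    have h4 := coord_gfun hfree π s y
    rw [h, h4, h1] at h3
    exact (mul_right_cancel h3).symm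
  rw [← coord_spec (T := T) x, ← coord_spec (T := T) y, h2, rep_eq_of_mk_eq h1]

include hfree in
/-- `autR T X` is transitive on `X`. -/
theorem exists_autR_apply_eq [Finite X] (ξ η : X) :
    ∃ g : autR T X, (g : Equiv.Perm X) ξ = η := by
  classical
  set π : Equiv.Perm (ROrb T X) :=
    Equiv.swap (Quotient.mk _ ξ) (Quotient.mk _ η) with hπ
  set s : ROrb T X → T := fun _ => (coord (T := T) ξ)⁻¹ * coord (T := T) η with hs
  have hbij : Function.Bijective (gfun (T := T) (X := X) π s) :=
    Finite.injective_iff_bijective.1 (gfun_injective hfree π s)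
  refine ⟨⟨Equiv.ofBijective _ hbij, fun t x => gfun_smul hfree π s t x⟩, ?_⟩
  show gfun π s ξ = η
  unfold gfun
  rw [hπ, Equiv.swap_apply_left, hs, mul_inv_cancel_left]
  exact coord_spec (T := T) η

end Transitive

section Transfer

variable (hfree : ∀ (x : X) (t : T), ((1 : T), t) • x = x → t = 1) (ω : X)

/-- The stabilizer of the right orbit of `ω`. -/
def stabR (ω : X) : Subgroup (autR T X) where
  carrier := {g | ∃ t : T, (g : Equiv.Perm X) ω = ((1 : T), t) • ω}
  one_mem' := ⟨1, (one_smul _ ω).symm⟩
  mul_mem' := by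
    rintro g h ⟨t, ht⟩ ⟨t', ht'⟩
    refine ⟨t' * t, ?_⟩
    show (g : Equiv.Perm X) ((h : Equiv.Perm X) ω) = _
    rw [ht', autR_apply, ht, smul_smul_right]
  inv_mem' := by
    rintro g ⟨t, ht⟩
    refine ⟨t⁻¹, ?_⟩
    show ((g : Equiv.Perm X))⁻¹ ω = _
    rw [Equiv.Perm.inv_eq_iff_eq, autR_apply, ht, smul_smul_right, inv_mul_cancel]
    exact (one_smul _ ω).symm

/-- The element `σ(g)` with `g ω = ω · σ(g)`, i.e. `g ω = (1, σ(g)⁻¹) • ω`. -/
noncomputable def sig (g : stabR (T := T) ω) : T := (Classical.choose g.2)⁻¹

theorem sig_spec (g : stabR (T := T) ω) :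
    ((g : autR T X) : Equiv.Perm X) ω = ((1 : T), (sig ω g)⁻¹) • ω := by
  unfold sig
  rw [inv_inv]
  exact Classical.choose_spec g.2

include hfree in
theorem sig_unique (g : stabR (T := T) ω) {t : T}
    (h : ((g : autR T X) : Equiv.Perm X) ω = ((1 : T), t⁻¹) • ω) : sig ω g = t := by
  have h1 := coord_unique hfree (sig_spec ω g).symm h.symm
  exact inv_injective h1

/-- `σ` as a homomorphism. -/
noncomputable def sigHom : stabR (T := T) ω →* T :=
  MonoidHom.mk' (sig ω) (by
    intro g h
    apply sig_unique hfree
    show ((g : autR T X) : Equiv.Perm X) (((h : autR T X) : Equiv.Perm X) ω) = _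
    rw [sig_spec ω h, autR_apply, sig_spec ω g, smul_smul_right, mul_inv_rev])

theorem sigHom_apply (g : stabR (T := T) ω) : sigHom hfree ω g = sig ω g := rfl

include hfree in
/-- The index of the stabilizer of a right orbit. -/
theorem index_stabR [Finite X] [Finite T] :
    (stabR (T := T) ω).index * Nat.card T = Nat.card X := by
  haveI : IsPretransitive (autR T X) X := ⟨fun ξ η => by
    obtain ⟨g, hg⟩ := exists_autR_apply_eq hfree ξ η
    exact ⟨g, hg⟩⟩
  have h1 : (stabilizer (autR T X) ω).index = Nat.card X := index_stabilizer_of_transitive _ ω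
  have hle : stabilizer (autR T X) ω ≤ stabR (T := T) ω := by
    intro g hg
    refine ⟨1, ?_⟩
    have : (g : Equiv.Perm X) ω = ω := hg
    rw [this]
    exact (one_smul _ ω).symm
  have h2 := Subgroup.relIndex_mul_index hle
  have hker : (sigHom hfree ω).ker = (stabilizer (autR T X) ω).subgroupOf (stabR (T := T) ω) := by
    ext g
    rw [MonoidHom.mem_ker, Subgroup.mem_subgroupOf, sigHom_apply]
    constructor
    · intro h
      have h3 := sig_spec ω g
      rw [h, inv_one] at h3
      show ((g : autR T X) : Equiv.Perm X) ω = ω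
      rw [h3]
      exact one_smul _ ω
    · intro h
      apply sig_unique hfree
      have h3 : ((g : autR T X) : Equiv.Perm X) ω = ω := h
      rw [h3, inv_one]
      exact (one_smul _ ω).symm
  have hsurj : Function.Surjective (sigHom hfree ω) := by
    intro t
    obtain ⟨g, hg⟩ := exists_autR_apply_eq hfree ω (((1 : T), t⁻¹) • ω)
    exact ⟨⟨g, t⁻¹, hg⟩, sig_unique hfree ω _ hg⟩
  have h3 : (stabilizer (autR T X) ω).relIndex (stabR (T := T) ω) = Nat.card T := by
    rw [Subgroup.relIndex, ← hker, Subgroup.index_ker, MonoidHom.range_eq_top.2 hsurj]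
    exact Nat.card_congr Subgroup.topEquiv.toEquiv
  rw [← h1, ← h2, h3, mul_comm]

/-- The homomorphism from the stabilizer of a right orbit to the abelianization. -/
noncomputable def phi : stabR (T := T) ω →* Abelianization T :=
  Abelianization.of.comp (sigHom hfree ω)

/-- **The transfer map of the biset.** -/
noncomputable def transferR [Finite X] : T →* Abelianization T :=
  (MonoidHom.transfer (phi hfree ω)).comp (iota T X)

/-- Conjugate elements of `autR T X` have the same transfer. -/
theorem transferR_eq_of_conj [Finite X] {s s' : T} (g : autR T X)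
    (h : g * iota T X s * g⁻¹ = iota T X s') :
    transferR hfree ω s' = transferR hfree ω s := by
  unfold transferR
  rw [MonoidHom.comp_apply, MonoidHom.comp_apply, ← h, map_mul, map_mul, map_inv, mul_comm,
    inv_mul_cancel_left]

/-- The transfer of an element all of whose powers are fixed by the maps in the point
stabilizers. -/
theorem transferR_eq_pow [Finite X] (z : T)
    (hz : ∀ (k : ℕ) (x : X) (t : T), (z ^ k, t) • x = x → t = z ^ k) :
    transferR hfree ω z = Abelianization.of z ^ (stabR (T := T) ω).index := by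
  classical
  unfold transferR
  rw [MonoidHom.comp_apply]
  letI : Fintype (Quotient (orbitRel (Subgroup.zpowers (iota T X z))
    (autR T X ⧸ stabR (T := T) ω))) := Fintype.ofFinite _
  rw [MonoidHom.transfer_eq_prod_quotient_orbitRel_zpowers_quot,
    Subgroup.index_eq_sum_minimalPeriod (stabR (T := T) ω) (iota T X z),
    ← Finset.prod_pow_eq_pow_sum]
  apply Finset.prod_congr rfl
  intro q _
  set k := Function.minimalPeriod (fun x : autR T X ⧸ stabR (T := T) ω => iota T X z • x)
    (Quotient.out q) with hk
  set g₀ : autR T X := (Quotient.out q).out with hg₀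
  have hmem : g₀⁻¹ * iota T X z ^ k * g₀ ∈ stabR (T := T) ω :=
    QuotientGroup.out_conj_pow_minimalPeriod_mem (stabR (T := T) ω) (iota T X z) (Quotient.out q)
  show phi hfree ω ⟨g₀⁻¹ * iota T X z ^ k * g₀, hmem⟩ = _
  unfold phi
  rw [MonoidHom.comp_apply, sigHom_apply]
  have hpow : Abelianization.of z ^ Function.minimalPeriod
      (fun x : autR T X ⧸ stabR (T := T) ω => iota T X z • x) (Quotient.out q) =
      Abelianization.of (z ^ k) := (map_pow _ _ _).symm
  rw [hpow]
  congr 1
  apply sig_unique hfree
  -- compute the action on `ω`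
  set h : stabR (T := T) ω := ⟨g₀⁻¹ * iota T X z ^ k * g₀, hmem⟩ with hh
  set η : X := (g₀ : Equiv.Perm X) ω with hη
  have h1 := sig_spec ω h
  have h2 : ((h : autR T X) : Equiv.Perm X) ω =
      ((g₀ : Equiv.Perm X))⁻¹ ((z ^ k, (1 : T)) • η) := by
    show ((g₀⁻¹ * iota T X z ^ k * g₀ : autR T X) : Equiv.Perm X) ω = _
    rw [← map_pow]
    rfl
  rw [h2, Equiv.Perm.inv_eq_iff_eq, autR_apply] at h1
  -- `(z ^ k, σ h) • η = η`
  have h3 : (z ^ k, sig ω h) • η = η := by
    have h4 : ((z ^ k, sig ω h) : T × T) = ((1 : T), sig ω h) * (z ^ k, (1 : T)) := by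
      ext <;> simp
    rw [h4, mul_smul, h1, smul_smul_right, mul_inv_cancel]
    exact one_smul _ η
  have h5 := hz k η _ h3
  have h6 := sig_spec ω h
  rw [h5] at h6
  exact h6

end Transfer

end Cfsg.Agent.Lib.Helper88_Biset7
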