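import Mathlib
import Cfsg.Agent.Lib.Helper88_Biset7

/-!
# Thompson's transfer lemma for involutions (helper88)

An abstract form of Thompson's transfer lemma (`transfer_involution`): the transfer of an involution
`g` into `{±1}` is `-1` as soon as the index is odd and the conjugates of `g` at the cosets fixed by
a `2`-group `K` centralizing `g` are sent to `-1`.  Then the version for the transfer of a right-free
biset (`lift_transferR_involution`).
-/

set_option autoImplicit false
set_option linter.style.haveILetI false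

namespace Cfsg.Agent.Lib.Helper88_Biset10

open MulAction

/-- Composing a transfer with a homomorphism of the target. -/
theorem map_transfer {G A B : Type*} [Group G] [CommGroup A] [CommGroup B] {H : Subgroup G}
    [H.FiniteIndex] (ϕ : H →* A) (f : A →* B) (g : G) :
    f (MonoidHom.transfer ϕ g) = MonoidHom.transfer (f.comp ϕ) g := by
  classical
  letI : Fintype (Quotient (orbitRel (Subgroup.zpowers g) (G ⧸ H))) := Fintype.ofFinite _
  rw [MonoidHom.transfer_eq_prod_quotient_orbitRel_zpowers_quot,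
    MonoidHom.transfer_eq_prod_quotient_orbitRel_zpowers_quot, map_prod]
  rfl

section Weight

variable {G : Type*} [Group G] {H : Subgroup G} (ψ : H →* ℤˣ) (g : G)

/-- The weight of a representative: the value of `ψ` on the conjugate of `g`, when it lies in `H`. -/
noncomputable def wt (g₀ : G) : ℤˣ := by
  classical
  exact if h : g₀⁻¹ * g * g₀ ∈ H then ψ ⟨_, h⟩ else 1

theorem wt_of_mem {g₀ : G} (h : g₀⁻¹ * g * g₀ ∈ H) : wt ψ g g₀ = ψ ⟨_, h⟩ := by
  unfold wt
  rw [dif_pos h]

theorem wt_congr {g₀ g₁ : G} (h : g₁⁻¹ * g * g₁ = g₀⁻¹ * g * g₀) : wt ψ g g₁ = wt ψ g g₀ := by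
  classical
  unfold wt
  by_cases h0 : g₀⁻¹ * g * g₀ ∈ H
  · have h1 : g₁⁻¹ * g * g₁ ∈ H := by rw [h]; exact h0
    rw [dif_pos h0, dif_pos h1]
    congr 1
    exact Subtype.ext h
  · have h1 : g₁⁻¹ * g * g₁ ∉ H := by rw [h]; exact h0
    rw [dif_neg h0, dif_neg h1]

theorem wt_mul_left {k : G} (hk : k * g = g * k) (g₀ : G) : wt ψ g (k * g₀) = wt ψ g g₀ := by
  apply wt_congr
  have : k⁻¹ * g * k = g := by rw [mul_assoc, ← hk, ← mul_assoc, inv_mul_cancel, one_mul]
  calc (k * g₀)⁻¹ * g * (k * g₀) = g₀⁻¹ * (k⁻¹ * g * k) * g₀ := by group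
    _ = g₀⁻¹ * g * g₀ := by rw [this]

theorem wt_mul_right (g₀ : G) {h : G} (hh : h ∈ H) : wt ψ g (g₀ * h) = wt ψ g g₀ := by
  classical
  have key : (g₀ * h)⁻¹ * g * (g₀ * h) = h⁻¹ * (g₀⁻¹ * g * g₀) * h := by group
  unfold wt
  by_cases h0 : g₀⁻¹ * g * g₀ ∈ H
  · have h1 : (g₀ * h)⁻¹ * g * (g₀ * h) ∈ H := by
      rw [key]
      exact H.mul_mem (H.mul_mem (H.inv_mem hh) h0) hh
    rw [dif_pos h0, dif_pos h1]
    have h2 : (⟨(g₀ * h)⁻¹ * g * (g₀ * h), h1⟩ : H) =
        (⟨h, hh⟩ : H)⁻¹ * ⟨g₀⁻¹ * g * g₀, h0⟩ * ⟨h, hh⟩ := Subtype.ext key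
    rw [h2, map_mul, map_mul, map_inv, mul_comm, mul_inv_cancel_left]
  · have h1 : (g₀ * h)⁻¹ * g * (g₀ * h) ∉ H := by
      intro h1
      apply h0
      have : g₀⁻¹ * g * g₀ = h * ((g₀ * h)⁻¹ * g * (g₀ * h)) * h⁻¹ := by group
      rw [this]
      exact H.mul_mem (H.mul_mem hh h1) (H.inv_mem hh)
    rw [dif_neg h0, dif_neg h1]

end Weight

section Thompson

variable {G : Type*} [Group G] {H : Subgroup G} (ψ : H →* ℤˣ) (g : G)

/-- The weight of a coset: the weight of its representative when `g` fixes the coset, `1`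
otherwise. -/
noncomputable def cwt (x : G ⧸ H) : ℤˣ := by
  classical
  exact if g • x = x then wt ψ g x.out else 1

theorem cwt_of_fixed {x : G ⧸ H} (h : g • x = x) : cwt ψ g x = wt ψ g x.out := by
  unfold cwt
  rw [if_pos h]

theorem cwt_of_not_fixed {x : G ⧸ H} (h : g • x ≠ x) : cwt ψ g x = 1 := by
  unfold cwt
  rw [if_neg h]

theorem cwt_smul {k : G} (hk : k * g = g * k) (x : G ⧸ H) : cwt ψ g (k • x) = cwt ψ g x := by
  have hfix : g • (k • x) = k • x ↔ g • x = x := by
    rw [← mul_smul, ← hk, mul_smul]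
    exact smul_left_cancel_iff k
  by_cases h : g • x = x
  · rw [cwt_of_fixed ψ g h, cwt_of_fixed ψ g (hfix.2 h)]
    have h1 : k • x = QuotientGroup.mk (k * x.out) := by
      conv_lhs => rw [← QuotientGroup.out_eq' x]
      rfl
    obtain ⟨h', hh'⟩ := QuotientGroup.mk_out_eq_mul H (k * x.out)
    rw [h1, hh', wt_mul_right ψ g _ h'.2, wt_mul_left ψ g hk]
  · rw [cwt_of_not_fixed ψ g h, cwt_of_not_fixed ψ g (fun h' => h (hfix.1 h'))]

theorem mem_of_smul_eq {k : G} {x : G ⧸ H} (h : k • x = x) : x.out⁻¹ * k * x.out ∈ H := by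
  have h1 : k • x = QuotientGroup.mk (k * x.out) := by
    conv_lhs => rw [← QuotientGroup.out_eq' x]
    rfl
  have h2 : (QuotientGroup.mk (k * x.out) : G ⧸ H) = QuotientGroup.mk x.out := by
    rw [← h1, h, QuotientGroup.out_eq']
  rw [QuotientGroup.eq] at h2
  have h3 := H.inv_mem h2
  have h4 : ((k * x.out)⁻¹ * x.out)⁻¹ = x.out⁻¹ * k * x.out := by group
  rwa [h4] at h3

theorem term_eq (hg : g ^ 2 = 1) (x : G ⧸ H) :
    ψ ⟨x.out⁻¹ * g ^ Function.minimalPeriod (g • ·) x * x.out,
      QuotientGroup.out_conj_pow_minimalPeriod_mem H g x⟩ = cwt ψ g x := by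
  have h1 : Function.IsPeriodicPt (g • ·) 2 x := by
    show (g • ·)^[2] x = x
    rw [Function.iterate_succ, Function.iterate_one, Function.comp_apply, ← mul_smul, ← pow_two,
      hg, one_smul]
  have h2 := h1.minimalPeriod_dvd
  rcases (Nat.dvd_prime Nat.prime_two).1 h2 with h | h
  · have hfix : g • x = x := Function.minimalPeriod_eq_one_iff_isFixedPt.1 h
    rw [cwt_of_fixed ψ g hfix, wt_of_mem ψ g (mem_of_smul_eq hfix)]
    congr 1
    apply Subtype.ext
    show x.out⁻¹ * g ^ Function.minimalPeriod (g • ·) x * x.out = x.out⁻¹ * g * x.out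
    rw [h, pow_one]
  · have hfix : g • x ≠ x := by
      intro hfix
      have h5 : Function.minimalPeriod (g • ·) x = 1 :=
        Function.minimalPeriod_eq_one_iff_isFixedPt.2 hfix
      rw [h5] at h
      exact absurd h (by norm_num)
    rw [cwt_of_not_fixed ψ g hfix]
    have h3 : (⟨x.out⁻¹ * g ^ Function.minimalPeriod (g • ·) x * x.out,
      QuotientGroup.out_conj_pow_minimalPeriod_mem H g x⟩ : H) = 1 := by
      apply Subtype.ext
      show x.out⁻¹ * g ^ Function.minimalPeriod (g • ·) x * x.out = 1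
      rw [h, hg, mul_one, inv_mul_cancel]
    rw [h3, map_one]

/-- The transfer of an involution is the product of the weights of the cosets. -/
theorem transfer_eq_prod_cwt [H.FiniteIndex] (hg : g ^ 2 = 1) :
    letI : Fintype (G ⧸ H) := Fintype.ofFinite _
    MonoidHom.transfer ψ g = ∏ x : G ⧸ H, cwt ψ g x := by
  classical
  letI : Fintype (G ⧸ H) := Fintype.ofFinite _
  letI : Fintype (Quotient (orbitRel (Subgroup.zpowers g) (G ⧸ H))) := Fintype.ofFinite _
  rw [MonoidHom.transfer_eq_prod_quotient_orbitRel_zpowers_quot]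
  have h0 : ∀ q : Quotient (orbitRel (Subgroup.zpowers g) (G ⧸ H)),
      ψ ⟨q.out.out⁻¹ * g ^ Function.minimalPeriod (g • ·) q.out * q.out.out,
        QuotientGroup.out_conj_pow_minimalPeriod_mem H g q.out⟩ = cwt ψ g q.out :=
    fun q => term_eq ψ g hg q.out
  rw [Finset.prod_congr rfl (fun q _ => h0 q)]
  apply Finset.prod_bij_ne_one (fun q _ _ => Quotient.out q)
  · intro q _ _
    exact Finset.mem_univ _
  · intro q _ _ q' _ _ h
    exact Quotient.out_injective h
  · intro x _ hx
    have hfix : g • x = x := by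
      by_contra hne
      exact hx (cwt_of_not_fixed ψ g hne)
    have hout : Quotient.out (Quotient.mk (orbitRel (Subgroup.zpowers g) (G ⧸ H)) x) = x := by
      have h1 : (orbitRel (Subgroup.zpowers g) (G ⧸ H)).r
          (Quotient.out (Quotient.mk (orbitRel (Subgroup.zpowers g) (G ⧸ H)) x)) x :=
        Quotient.exact (Quotient.out_eq _)
      obtain ⟨⟨k, hk⟩, hk'⟩ := h1
      obtain ⟨n, rfl⟩ := Subgroup.mem_zpowers_iff.1 hk
      rw [← hk']
      show g ^ n • x = x
      have : ∀ m : ℕ, g ^ m • x = x := by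
        intro m
        induction m with
        | zero => rw [pow_zero, one_smul]
        | succ m ih => rw [pow_succ, mul_smul, hfix, ih]
      rcases Int.natAbs_eq n with h | h
      · rw [h, zpow_natCast]; exact this _
      · rw [h, zpow_neg, zpow_natCast, inv_smul_eq_iff, this]
    refine ⟨Quotient.mk _ x, Finset.mem_univ _, ?_, hout⟩
    rw [hout]
    exact hx
  · intro q _ _
    rfl

/-- **Thompson's transfer lemma**, abstract form: if the `2`-group `K` contains and centralizes the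
involution `g`, the index of `H` is odd, and `ψ` takes the value `-1` on the conjugate of `g` at
every coset fixed by `K`, then the transfer of `g` is `-1`. -/
theorem transfer_involution [H.FiniteIndex] (hg : g ^ 2 = 1) (K : Subgroup G) (hK : IsPGroup 2 K)
    (hgK : g ∈ K) (hKg : ∀ k ∈ K, k * g = g * k) (hodd : Odd H.index)
    (hH : ∀ g₀ : G, (∀ k ∈ K, g₀⁻¹ * k * g₀ ∈ H) → ∀ h : g₀⁻¹ * g * g₀ ∈ H, ψ ⟨_, h⟩ = -1) :
    MonoidHom.transfer ψ g = -1 := by
  classical
  letI : Fintype (G ⧸ H) := Fintype.ofFinite _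
  rw [transfer_eq_prod_cwt ψ g hg]
  have hpm : ∀ x, cwt ψ g x = 1 ∨ cwt ψ g x = -1 := fun x => Int.units_eq_one_or _
  have h1 : ∏ x : G ⧸ H, cwt ψ g x =
      (-1) ^ (Finset.univ.filter (fun x => cwt ψ g x = -1)).card := by
    rw [← Finset.prod_const, Finset.prod_filter]
    apply Finset.prod_congr rfl
    intro x _
    rcases hpm x with h | h
    · rw [if_neg (by rw [h]; decide), h]
    · rw [if_pos h, h]
  rw [h1]
  apply Odd.neg_one_pow
  let Y : SubMulAction K (G ⧸ H) :=
    { carrier := {x | cwt ψ g x = -1}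
      smul_mem' := by
        intro k x hx
        show cwt ψ g ((k : G) • x) = -1
        rw [cwt_smul ψ g (hKg k k.2)]
        exact hx }
  have hcardY : (Finset.univ.filter (fun x => cwt ψ g x = -1)).card = Nat.card Y := by
    have : Nat.card Y = Nat.card {x : G ⧸ H // cwt ψ g x = -1} := rfl
    rw [this, Nat.card_eq_fintype_card, Fintype.card_subtype]
  rw [hcardY]
  have hmem : ∀ x ∈ fixedPoints K (G ⧸ H), cwt ψ g x = -1 := by
    intro x hx
    have hfix : g • x = x := hx ⟨g, hgK⟩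
    rw [cwt_of_fixed ψ g hfix, wt_of_mem ψ g (mem_of_smul_eq hfix)]
    exact hH x.out (fun k hk => mem_of_smul_eq (hx ⟨k, hk⟩)) _
  have h2 := hK.card_modEq_card_fixedPoints (G ⧸ H)
  have h3 := hK.card_modEq_card_fixedPoints Y
  have h4 : Nat.card (fixedPoints K Y) = Nat.card (fixedPoints K (G ⧸ H)) :=
    Nat.card_congr
      { toFun := fun y => ⟨y.1.1, fun k => congrArg Subtype.val (y.2 k)⟩
        invFun := fun x => ⟨⟨x.1, hmem x.1 x.2⟩, fun k => Subtype.ext (x.2 k)⟩
        left_inv := fun y => rfl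
        right_inv := fun x => rfl }
  rw [h4] at h3
  have h5 : Nat.card Y ≡ H.index [MOD 2] := h3.trans h2.symm
  rw [Nat.odd_iff] at hodd ⊢
  rw [← hodd]
  exact h5

end Thompson

section Biset

open Cfsg.Agent.Lib.Helper88_Biset7

universe u v

variable {T : Type u} [Group T] {X : Type v} [MulAction (T × T) X]
variable (hfree : ∀ (x : X) (t : T), ((1 : T), t) • x = x → t = 1) (ω : X)

/-- If the conjugate of `s` by `g₀` stabilizes the right orbit of `ω`, then `(s, σ)` fixes the point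
`g₀ ω`, where `σ` is the value of `sig` at that conjugate. -/
theorem smul_sig_eq (g₀ : autR T X) (s : T) (h : g₀⁻¹ * iota T X s * g₀ ∈ stabR (T := T) ω) :
    (s, sig ω ⟨_, h⟩) • ((g₀ : Equiv.Perm X) ω) = (g₀ : Equiv.Perm X) ω := by
  set h' : stabR (T := T) ω := ⟨g₀⁻¹ * iota T X s * g₀, h⟩ with hh'
  set η : X := (g₀ : Equiv.Perm X) ω with hη
  have h1 := sig_spec ω h'
  have h2 : ((h' : autR T X) : Equiv.Perm X) ω =
      ((g₀ : Equiv.Perm X))⁻¹ ((s, (1 : T)) • η) := rfl
  rw [h2, Equiv.Perm.inv_eq_iff_eq, autR_apply] at h1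
  have h4 : ((s, sig ω h') : T × T) = ((1 : T), sig ω h') * (s, (1 : T)) := by
    ext <;> simp
  rw [h4, mul_smul, h1, smul_smul_right, mul_inv_cancel]
  exact one_smul _ η

/-- **Thompson's transfer lemma for a biset.** -/
theorem lift_transferR_involution [Finite X] (z : T) (hz : z ^ 2 = 1) (θ : T →* ℤˣ)
    (C : Subgroup T) (hC2 : IsPGroup 2 C) (hzC : z ∈ C) (hCz : ∀ c ∈ C, c * z = z * c)
    (hodd : Odd (stabR (T := T) ω).index)
    (hH : ∀ x : X, (∀ c ∈ C, ∃ t : T, (c, t) • x = x) → ∀ s : T, (z, s) • x = x → θ s = -1) :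
    Abelianization.lift θ (transferR hfree ω z) = -1 := by
  unfold transferR
  rw [MonoidHom.comp_apply, map_transfer]
  have hcomp : (Abelianization.lift θ).comp (phi hfree ω) = θ.comp (sigHom hfree ω) := by
    ext x
    simp [phi]
  rw [hcomp]
  apply transfer_involution (θ.comp (sigHom hfree ω)) (iota T X z) _ (C.map (iota T X))
    (hC2.map (iota T X)) (Subgroup.mem_map_of_mem _ hzC) _ hodd
  · intro g₀ hK h
    rw [MonoidHom.comp_apply, sigHom_apply]
    refine hH ((g₀ : Equiv.Perm X) ω) (fun c hc => ?_) _ (smul_sig_eq ω g₀ z h)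
    exact ⟨_, smul_sig_eq ω g₀ c (hK _ (Subgroup.mem_map_of_mem _ hc))⟩
  · rw [← map_pow, hz, map_one]
  · rintro _ ⟨c, hc, rfl⟩
    rw [← map_mul, ← map_mul, hCz c hc]

end Biset

end Cfsg.Agent.Lib.Helper88_Biset10
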