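import Mathlib
import Cfsg.Prelude.Def_Transfer
import Cfsg.Agent.Lib.Helper89_ESClass
import Cfsg.Agent.Lib.Helper63_ESForm
import Cfsg.Agent.Lib.Helper63_ESCount
import Cfsg.Agent.Lib.Helper88_Biset10

/-!
# Large extraspecial 2-subgroups and transfer (helper54)

* facts on extraspecial `2`-groups in the elementary description `IsES2` (involutions outside a
  subgroup of index two, double centralizer of a noncentral involution);
* `ESub E z`: the same description for a subgroup `E` of a group `G`, stated with elements of `G`;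
* `ESub.eq_of_centralizes`: if `C_G(E) ≤ E` and `c` normalizes `E` and centralizes `C_E(u)` for a
  noncentral involution `u` of `E`, then `c ∈ {1, z, u, u z}`;
* `transfer_involution_of_unique`: the transfer of an involution `g` into `{±1}` is `-1` when the
  trivial coset is the only coset fixed by a `2`-group `D ≤ C_H(g)` at which the weight is `-1`.
-/

set_option autoImplicit false
set_option linter.style.haveILetI false

namespace Cfsg.Agent.Lib.Helper54_LargeES

open Cfsg.Agent.Lib.Helper89_ESClass Cfsg.Agent.Lib.Helper63_ESForm Cfsg.Agent.Lib.Helper63_ESCount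

section es

variable {E : Type*} [Group E] {t : E}

theorem isES2_of_central [Finite E] (h : Cfsg.IsExtraspecial 2 E) (c : E)
    (hc : ∀ g, c * g = g * c) (hc1 : c ≠ 1) : IsES2 E c := by
  obtain ⟨t, ht⟩ := isES2_of_isExtraspecial h
  rcases (ht.center c).1 hc with h1 | h1
  · exact absurd h1 hc1
  · rw [h1]; exact ht

theorem cmv_eq_one_iff' (x y : E) : cmv x y = 1 ↔ x * y ≠ y * x := by
  rcases zmod2_cases (cmv x y) with h | h
  · rw [h]
    constructor
    · intro h'; exact absurd h' (by decide)
    · intro h'; exact absurd ((cmv_eq_zero_iff x y).1 h) h'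
  · rw [h]
    constructor
    · intro _ h'
      rw [(cmv_eq_zero_iff x y).2 h'] at h
      exact zero_ne_one h
    · intro _; rfl

theorem cmv_inv_right' (hE : IsES2 E t) (q y : E) : cmv q y⁻¹ = cmv q y := by
  rw [cmv_symm, cmv_inv_left hE, cmv_symm]

/-- the double centralizer of a noncentral involution (copied from `Helper63_BabyData`, to avoid
its imports) -/
theorem double_cent' (hE : IsES2 E t) {y : E} (hy2 : y * y = 1) (hyc : ¬ ∀ k, y * k = k * y)
    {q : E} (hq : ∀ r, r * y = y * r → q * r = r * q) :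
    q = 1 ∨ q = y ∨ q = t ∨ q = t * y := by
  push Not at hyc
  obtain ⟨r₀, hr₀⟩ := hyc
  have h1 : cmv y r₀ = 1 := (cmv_eq_one_iff' _ _).2 hr₀
  have hchar : ∀ s : ZMod 2, s + s = 0 := fun s => CharTwo.add_self_eq_zero s
  have key : ∀ r, cmv q r = cmv q r₀ * cmv y r := by
    intro r
    rcases zmod2_cases (cmv y r) with h | h
    · rw [h, mul_zero, cmv_eq_zero_iff]
      exact hq r ((cmv_eq_zero_iff _ _).1 h).symm
    · rw [h, mul_one]
      have h2 : (r₀⁻¹ * r) * y = y * (r₀⁻¹ * r) := by
        rw [← cmv_eq_zero_iff, cmv_mul_left hE, cmv_inv_left hE, cmv_symm r₀, cmv_symm r, h1, h]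
        decide
      have h3 := hq _ h2
      rw [← cmv_eq_zero_iff, cmv_mul_right hE, cmv_inv_right' hE] at h3
      calc cmv q r = (cmv q r₀ + cmv q r₀) + cmv q r := by rw [hchar, zero_add]
        _ = cmv q r₀ + (cmv q r₀ + cmv q r) := by rw [add_assoc]
        _ = cmv q r₀ := by rw [h3, add_zero]
  have hyi : y⁻¹ = y := inv_eq_of_mul_eq_one_left hy2
  rcases zmod2_cases (cmv q r₀) with h | h
  · have hc : ∀ r, q * r = r * q := by
      intro r
      rw [← cmv_eq_zero_iff, key, h, zero_mul]
    rcases (hE.center q).1 hc with h' | h'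
    · exact Or.inl h'
    · exact Or.inr (Or.inr (Or.inl h'))
  · have hc : ∀ r, (q * y) * r = r * (q * y) := by
      intro r
      rw [← cmv_eq_zero_iff, cmv_mul_left hE, key, h, one_mul, hchar]
    rcases (hE.center (q * y)).1 hc with h' | h'
    · right; left
      calc q = (q * y) * y⁻¹ := by group
        _ = y := by rw [h', one_mul, hyi]
    · right; right; right
      calc q = (q * y) * y⁻¹ := by group
        _ = t * y := by rw [h', hyi]

/-- in an extraspecial `2`-group of order more than `8`, some pair of elements of the centralizer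
of `y` has commutator `t` -/
theorem exists_comm_pair [Finite E] (hE : IsES2 E t) (hcard : 8 < Nat.card E) (y : E) :
    ∃ a b : E, a * y = y * a ∧ b * y = y * b ∧ a * b = t * (b * a) := by
  by_contra hcon
  push Not at hcon
  have := card_le_of_abelian_centralizer hE y (fun a b ha hb => by
    rcases hE.comm a b with h | h
    · exact h
    · exact absurd h (hcon a b ha hb))
  omega

/-- In an extraspecial `2`-group of order more than `8`, every subgroup of index two (given as the
kernel of a sign character) misses some involution. -/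
theorem exists_invol_neg [Finite E] (hE : IsES2 E t) (hcard : 8 < Nat.card E)
    (χ : E →* ℤˣ) (hχ : ∃ x, χ x = -1) : ∃ u, u * u = 1 ∧ χ u = -1 := by
  by_contra hcon
  push Not at hcon
  obtain ⟨x₀, hx₀⟩ := hχ
  have h1 : ∀ x, χ x = -1 → sqv x = 1 := by
    intro x hx
    rcases zmod2_cases (sqv x) with h | h
    · exact absurd hx (hcon x ((sqv_eq_zero_iff x).1 h))
    · exact h
  have hz2 : ∀ a b : ZMod 2, 1 + a + b = 1 → a = b := by decide
  have h2 : ∀ m, χ m = 1 → sqv m = cmv x₀ m := by
    intro m hm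
    have h := h1 (x₀ * m) (by rw [map_mul, hx₀, hm, mul_one])
    rw [sqv_mul hE, h1 x₀ hx₀] at h
    exact hz2 _ _ h
  have hz3 : ∀ a b c : ZMod 2, a + b + c = a + b → c = 0 := by decide
  have h3 : ∀ a b, χ a = 1 → χ b = 1 → a * b = b * a := by
    intro a b ha hb
    rw [← cmv_eq_zero_iff]
    have hab := h2 (a * b) (by rw [map_mul, ha, hb, mul_one])
    rw [sqv_mul hE, h2 a ha, h2 b hb, cmv_mul_right hE] at hab
    exact hz3 _ _ _ hab
  have hneg : ∀ a, χ a = -1 → χ (x₀⁻¹ * a) = 1 := by
    intro a ha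
    rw [map_mul, map_inv, hx₀, ha]
    decide
  have key : ∀ a b, χ a = 1 → a * x₀ = x₀ * a → b * x₀ = x₀ * b → a * b = b * a := by
    intro a b ha hax hbx
    rcases Int.units_eq_one_or (χ b) with hb | hb
    · exact h3 a b ha hb
    · have h4 := h3 a (x₀⁻¹ * b) ha (hneg b hb)
      calc a * b = (a * x₀) * (x₀⁻¹ * b) := by group
        _ = x₀ * (a * (x₀⁻¹ * b)) := by rw [hax]; group
        _ = x₀ * ((x₀⁻¹ * b) * a) := by rw [h4]
        _ = b * a := by group
  have hab : ∀ a b : E, a * x₀ = x₀ * a → b * x₀ = x₀ * b → a * b = b * a := by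
    intro a b hax hbx
    rcases Int.units_eq_one_or (χ a) with ha | ha
    · exact key a b ha hax hbx
    · rcases Int.units_eq_one_or (χ b) with hb | hb
      · exact (key b a hb hbx hax).symm
      · have hax' : (x₀⁻¹ * a) * x₀ = x₀ * (x₀⁻¹ * a) := by
          calc (x₀⁻¹ * a) * x₀ = x₀⁻¹ * (a * x₀) := by group
            _ = x₀⁻¹ * (x₀ * a) := by rw [hax]
            _ = x₀ * (x₀⁻¹ * a) := by group
        have h4 := key (x₀⁻¹ * a) b (hneg a ha) hax' hbx
        calc a * b = x₀ * ((x₀⁻¹ * a) * b) := by group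
          _ = x₀ * (b * (x₀⁻¹ * a)) := by rw [h4]
          _ = (x₀ * b) * (x₀⁻¹ * a) := by group
          _ = (b * x₀) * (x₀⁻¹ * a) := by rw [hbx]
          _ = b * a := by group
  have := card_le_of_abelian_centralizer hE x₀ hab
  omega

/-- An automorphism of an extraspecial `2`-group centralizing the centralizer of a noncentral
involution `u` is the identity or conjugation by `u`. -/
theorem aut_cases (hE : IsES2 E t) {u : E} (hu2 : u * u = 1) (hunc : ¬ ∀ k, u * k = k * u)
    (α : E ≃* E) (hα : ∀ d, d * u = u * d → α d = d) :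
    (∀ e, α e = e) ∨ (∀ e, α e = u * e * u⁻¹) := by
  have hunc' := hunc
  push Not at hunc'
  obtain ⟨x, hx⟩ := hunc'
  have hxu : cmv x u = 1 := by
    rw [cmv_symm]; exact (cmv_eq_one_iff' _ _).2 hx
  have hui : u⁻¹ = u := inv_eq_of_mul_eq_one_left hu2
  have hsu : sqv u = 0 := (sqv_eq_zero_iff u).2 hu2
  have htc : ∀ h, t * h = h * t := hE.central
  -- elements not commuting with `u` are conjugated by `u` to their multiple by `t`
  have hconj : ∀ e, cmv e u = 1 → u * e * u⁻¹ = t * e := by
    intro e he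
    have h1 : u * e ≠ e * u := by
      rw [← cmv_eq_one_iff', cmv_symm]; exact he
    rcases hE.comm u e with h | h
    · exact absurd h h1
    · rw [h]; group
  have hconj0 : ∀ e, cmv e u = 0 → u * e * u⁻¹ = e := by
    intro e he
    have h1 : e * u = u * e := (cmv_eq_zero_iff _ _).1 he
    rw [← h1]; group
  -- `f = x⁻¹ α(x)` centralizes the centralizer of `u`
  have hf : ∀ r, r * u = u * r → (x⁻¹ * α x) * r = r * (x⁻¹ * α x) := by
    intro r hr
    have h1 : (x * r * x⁻¹) * u = u * (x * r * x⁻¹) := by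
      rw [← cmv_eq_zero_iff, cmv_mul_left hE, cmv_mul_left hE, cmv_inv_left hE, hxu,
        (cmv_eq_zero_iff r u).2 hr]
      decide
    have h2 := hα _ h1
    rw [map_mul, map_mul, map_inv, hα r hr] at h2
    calc (x⁻¹ * α x) * r = x⁻¹ * (α x * r * (α x)⁻¹) * α x := by group
      _ = x⁻¹ * (x * r * x⁻¹) * α x := by rw [h2]
      _ = r * (x⁻¹ * α x) := by group
  have hαx : α x = x * (x⁻¹ * α x) := by group
  have hsq : sqv (x * (x⁻¹ * α x)) = sqv x := by rw [← hαx, sqv_map]
  rw [sqv_mul hE] at hsq
  have hz1 : ∀ a : ZMod 2, a + 0 + 1 ≠ a := by decide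
  rcases double_cent' hE hu2 hunc hf with h | h | h | h
  · -- `α x = x`
    left
    have hx' : α x = x := by rw [hαx, h, mul_one]
    intro e
    rcases zmod2_cases (cmv e u) with he | he
    · exact hα e ((cmv_eq_zero_iff _ _).1 he)
    · have h1 : (x⁻¹ * e) * u = u * (x⁻¹ * e) := by
        rw [← cmv_eq_zero_iff, cmv_mul_left hE, cmv_inv_left hE, hxu, he]
        decide
      have h2 := hα _ h1
      calc α e = α x * α (x⁻¹ * e) := by rw [← map_mul]; congr 1; group
        _ = x * (x⁻¹ * e) := by rw [hx', h2]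
        _ = e := by group
  · exfalso
    rw [h, hsu, hxu] at hsq
    exact hz1 _ hsq
  · -- `α x = x t`
    right
    have hx' : α x = x * t := by rw [hαx, h]
    intro e
    rcases zmod2_cases (cmv e u) with he | he
    · rw [hconj0 e he]
      exact hα e ((cmv_eq_zero_iff _ _).1 he)
    · have h1 : (x⁻¹ * e) * u = u * (x⁻¹ * e) := by
        rw [← cmv_eq_zero_iff, cmv_mul_left hE, cmv_inv_left hE, hxu, he]
        decide
      have h2 := hα _ h1
      rw [hconj e he]
      calc α e = α x * α (x⁻¹ * e) := by rw [← map_mul]; congr 1; group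
        _ = x * t * (x⁻¹ * e) := by rw [hx', h2]
        _ = (x * t) * x⁻¹ * e := by group
        _ = (t * x) * x⁻¹ * e := by rw [htc x]
        _ = t * e := by group
  · exfalso
    have h1 : sqv (t * u) = 0 := by
      rw [sqv_mul hE, sqv_central hE htc, hsu, cmv_central_left htc]
      decide
    have h2 : cmv x (t * u) = 1 := by
      rw [cmv_mul_right hE, cmv_central_right htc, hxu]
      decide
    rw [h, h1, h2] at hsq
    exact hz1 _ hsq

end es

/-! ### extraspecial subgroups of a group -/

section sub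

variable {G : Type*} [Group G]

/-- conjugation by an element of the normalizer, as an automorphism of the subgroup -/
def conjEquiv (E : Subgroup G) (c : G) (hc : c ∈ Subgroup.normalizer (E : Set G)) : ↥E ≃* ↥E where
  toFun e := ⟨c * e * c⁻¹, (Subgroup.mem_normalizer_iff.1 hc e).1 e.2⟩
  invFun e := ⟨c⁻¹ * e * c, by
    have := (Subgroup.mem_normalizer_iff.1 ((Subgroup.normalizer (E : Set G)).inv_mem hc) e).1 e.2
    simpa using this⟩
  left_inv e := by
    apply Subtype.ext
    show c⁻¹ * (c * e * c⁻¹) * c = e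
    group
  right_inv e := by
    apply Subtype.ext
    show c * (c⁻¹ * e * c) * c⁻¹ = e
    group
  map_mul' a b := by
    apply Subtype.ext
    show c * (a * b) * c⁻¹ = (c * a * c⁻¹) * (c * b * c⁻¹)
    group

theorem conjEquiv_coe (E : Subgroup G) (c : G) (hc : c ∈ Subgroup.normalizer (E : Set G)) (e : ↥E) :
    ((conjEquiv E c hc e : ↥E) : G) = c * e * c⁻¹ := rfl

/-- Let `C_G(E) ≤ E` with `E` extraspecial, and `u` a noncentral involution of `E`. An element `c`
normalizing `E` and centralizing `C_E(u)` lies in `{1, z, u, u z}`. -/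
theorem eq_of_centralizes {E : Subgroup G} {z : G} (hz : z ∈ E) (hE : IsES2 ↥E ⟨z, hz⟩)
    (hcent : Subgroup.centralizer (E : Set G) ≤ E)
    (u : ↥E) (hu2 : u * u = 1) (hunc : ¬ ∀ k, u * k = k * u)
    (c : G) (hcN : c ∈ Subgroup.normalizer (E : Set G))
    (hcD : ∀ d : ↥E, d * u = u * d → c * (d : G) = d * c) :
    c = 1 ∨ c = z ∨ c = u ∨ c = u * z := by
  -- an element centralizing `E` is `1` or `z`
  have hcen : ∀ c' : G, (∀ e : ↥E, c' * (e : G) = e * c') → c' = 1 ∨ c' = z := by
    intro c' hc'
    have hc'E : c' ∈ E :=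
      hcent (Subgroup.mem_centralizer_iff.2 (fun e he => (hc' ⟨e, he⟩).symm))
    rcases (hE.center ⟨c', hc'E⟩).1 (fun e => Subtype.ext (hc' e)) with h | h
    · exact Or.inl (congrArg Subtype.val h)
    · exact Or.inr (congrArg Subtype.val h)
  have hα : ∀ d : ↥E, d * u = u * d → conjEquiv E c hcN d = d := by
    intro d hd
    apply Subtype.ext
    rw [conjEquiv_coe, hcD d hd]
    group
  rcases aut_cases hE hu2 hunc (conjEquiv E c hcN) hα with h | h
  · have h1 : ∀ e : ↥E, c * (e : G) = e * c := by
      intro e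
      have h2 := congrArg Subtype.val (h e)
      rw [conjEquiv_coe] at h2
      calc c * (e : G) = (c * e * c⁻¹) * c := by group
        _ = e * c := by rw [h2]
    rcases hcen c h1 with h2 | h2
    · exact Or.inl h2
    · exact Or.inr (Or.inl h2)
  · have h1 : ∀ e : ↥E, ((u : G)⁻¹ * c) * (e : G) = e * ((u : G)⁻¹ * c) := by
      intro e
      have h2 := congrArg Subtype.val (h e)
      rw [conjEquiv_coe] at h2
      have h3 : c * (e : G) * c⁻¹ = (u : G) * e * (u : G)⁻¹ := by
        rw [h2]; rfl
      calc ((u : G)⁻¹ * c) * (e : G) = (u : G)⁻¹ * (c * e * c⁻¹) * c := by group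
        _ = (u : G)⁻¹ * ((u : G) * e * (u : G)⁻¹) * c := by rw [h3]
        _ = e * ((u : G)⁻¹ * c) := by group
    rcases hcen _ h1 with h2 | h2
    · right; right; left
      calc c = (u : G) * ((u : G)⁻¹ * c) := by group
        _ = u := by rw [h2, mul_one]
    · right; right; right
      calc c = (u : G) * ((u : G)⁻¹ * c) := by group
        _ = u * z := by rw [h2]

end sub

/-! ### a variant of Thompson's transfer lemma -/

section transfer

open MulAction Cfsg.Agent.Lib.Helper88_Biset10

variable {G : Type*} [Group G] {H : Subgroup G}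

/-- The transfer of an involution `g ∈ H` into `{±1}` is `-1` as soon as `ψ g = -1` and the trivial
coset is the only coset fixed by the `2`-group `D ≤ C_H(g)` at which the conjugate of `g` is sent
to `-1`. -/
theorem transfer_involution_of_unique [H.FiniteIndex] (ψ : H →* ℤˣ) (g : G) (hg : g ^ 2 = 1)
    (D : Subgroup G) (hD : IsPGroup 2 D) (hDg : ∀ k ∈ D, k * g = g * k) (hDH : D ≤ H)
    (hgH : g ∈ H) (hψg : ψ ⟨g, hgH⟩ = -1)
    (huniq : ∀ g₀ : G, (∀ k ∈ D, g₀⁻¹ * k * g₀ ∈ H) → ∀ h : g₀⁻¹ * g * g₀ ∈ H,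
      ψ ⟨_, h⟩ = -1 → g₀ ∈ H) :
    MonoidHom.transfer ψ g = -1 := by
  classical
  letI : Fintype (G ⧸ H) := Fintype.ofFinite _
  rw [transfer_eq_prod_cwt ψ g hg]
  have hpm : ∀ x, cwt ψ g x = 1 ∨ cwt ψ g x = -1 := fun x => Int.units_eq_one_or _
  have h1 : ∏ x : G ⧸ H, cwt ψ g x =
      (-1) ^ (Finset.univ.filter (fun x => cwt ψ g x = -1)).card := by
    rw [← Finset.prod_const, Finset.prod_filter]
    apply Finset.prod_congr rfl
    intro x _
    rcases hpm x with h | h
    · rw [if_neg (by rw [h]; decide), h]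
    · rw [if_pos h, h]
  rw [h1]
  apply Odd.neg_one_pow
  let Y : SubMulAction D (G ⧸ H) :=
    { carrier := {x | cwt ψ g x = -1}
      smul_mem' := by
        intro k x hx
        show cwt ψ g ((k : G) • x) = -1
        rw [cwt_smul ψ g (hDg k k.2)]
        exact hx }
  have hcardY : (Finset.univ.filter (fun x => cwt ψ g x = -1)).card = Nat.card Y := by
    have : Nat.card Y = Nat.card {x : G ⧸ H // cwt ψ g x = -1} := rfl
    rw [this, Nat.card_eq_fintype_card, Fintype.card_subtype]
  rw [hcardY]
  -- the trivial coset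
  have hmk : ∀ a : G, a ∈ H → (QuotientGroup.mk a : G ⧸ H) = QuotientGroup.mk (1 : G) := by
    intro a ha
    rw [QuotientGroup.eq]
    simpa using ha
  have hfix1 : ∀ a : G, a ∈ H → a • (QuotientGroup.mk (1 : G) : G ⧸ H) = QuotientGroup.mk (1 : G) := by
    intro a ha
    have : a • (QuotientGroup.mk (1 : G) : G ⧸ H) = QuotientGroup.mk (a * 1) := rfl
    rw [this, mul_one]
    exact hmk a ha
  have hout1 : ((QuotientGroup.mk (1 : G) : G ⧸ H)).out ∈ H := by
    have h2 : (QuotientGroup.mk ((QuotientGroup.mk (1 : G) : G ⧸ H)).out : G ⧸ H) =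
        QuotientGroup.mk (1 : G) := QuotientGroup.out_eq' _
    rw [QuotientGroup.eq] at h2
    have h3 := H.inv_mem h2
    simpa using h3
  have hY1 : cwt ψ g (QuotientGroup.mk (1 : G) : G ⧸ H) = -1 := by
    rw [cwt_of_fixed ψ g (hfix1 g hgH)]
    have h2 : wt ψ g ((QuotientGroup.mk (1 : G) : G ⧸ H)).out
        = wt ψ g (1 * ((QuotientGroup.mk (1 : G) : G ⧸ H)).out) := by rw [one_mul]
    rw [h2, wt_mul_right ψ g 1 hout1]
    have h3 : (1 : G)⁻¹ * g * 1 ∈ H := by simpa using hgH
    rw [wt_of_mem ψ g h3]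
    have h4 : (⟨(1 : G)⁻¹ * g * 1, h3⟩ : H) = ⟨g, hgH⟩ := by
      apply Subtype.ext
      show (1 : G)⁻¹ * g * 1 = g
      group
    rw [h4, hψg]
  have hmod := hD.card_modEq_card_fixedPoints Y
  have hone : Nat.card (fixedPoints D Y) = 1 := by
    rw [Nat.card_eq_one_iff_unique]
    refine ⟨⟨?_⟩, ⟨⟨⟨QuotientGroup.mk (1 : G), hY1⟩, ?_⟩⟩⟩
    · intro a b
      have key : ∀ y : fixedPoints D Y, (y.1.1 : G ⧸ H) = QuotientGroup.mk (1 : G) := by
        intro y
        have hyfix : ∀ k : D, (k : G) • (y.1.1 : G ⧸ H) = y.1.1 := by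
          intro k
          exact congrArg Subtype.val (y.2 k)
        have hy : cwt ψ g (y.1.1 : G ⧸ H) = -1 := y.1.2
        have hgfix : g • (y.1.1 : G ⧸ H) = y.1.1 := by
          by_contra hne
          rw [cwt_of_not_fixed ψ g hne] at hy
          exact absurd hy (by decide)
        rw [cwt_of_fixed ψ g hgfix, wt_of_mem ψ g (mem_of_smul_eq hgfix)] at hy
        have h2 := huniq (y.1.1 : G ⧸ H).out
          (fun k hk => mem_of_smul_eq (hyfix ⟨k, hk⟩)) (mem_of_smul_eq hgfix) hy
        rw [← QuotientGroup.out_eq' (y.1.1 : G ⧸ H)]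
        exact hmk _ h2
      apply Subtype.ext
      apply Subtype.ext
      rw [key a, key b]
    · intro k
      apply Subtype.ext
      exact hfix1 k (hDH k.2)
  rw [hone] at hmod
  rw [Nat.odd_iff]
  exact hmod

end transfer

end Cfsg.Agent.Lib.Helper54_LargeES
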