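import Mathlib
import Cfsg.Agent.Lib.Helper54_HallWielandt

/-!
# Splitting orbits of a 2-group for the partial transfer (helper54)

On top of the partial transfer `ptr π S t` of `Helper54_HallWielandt`:

* `orb U ω`: the orbit of the coset `ω` under the subgroup `U`, as a finset;
* `orb_split`: for a `2`-subgroup `U` not fixing `ω` there is a subgroup `M` of index two in `U`
  over the stabilizer; the orbit is the disjoint union of `orb M ω` and its translate by any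
  `w ∈ U \ M`;
* `ptr_orb_of_mem`, `ptr_orb_of_notMem`: the partial transfer over `orb U ω` in terms of the one
  over `orb M ω`;
* `claimA`: the generic induction. If `E ≤ L` is normal in the `2`-group `L` and for every subgroup
  `M₁ ≤ L` cutting `E` in a subgroup of index two the partial transfers over `M₁`-orbits send
  `E ⊓ M₁` into a subgroup `A₁` containing all squares, then the partial transfer of every
  element of `L` over every `L`-orbit not fixed by `E` lies in `A₁`.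
-/

set_option autoImplicit false

namespace Cfsg.Agent.Lib.Helper54_OrbitSplit

open scoped Classical
open Cfsg.Agent.Lib.Helper54_HallWielandt

variable {G : Type*} [Group G] [Finite G] {N : Subgroup G} {A : Type*} [CommGroup A]

/-- the orbit of `ω` under `U` -/
noncomputable def orb (U : Subgroup G) (ω : G ⧸ N) : Finset (G ⧸ N) :=
  haveI : Fintype (G ⧸ N) := Fintype.ofFinite _
  Finset.univ.filter (fun x => ∃ y ∈ U, x = y • ω)

theorem mem_orb {U : Subgroup G} {ω x : G ⧸ N} : x ∈ orb U ω ↔ ∃ y ∈ U, x = y • ω := by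
  unfold orb
  simp

theorem self_mem_orb (U : Subgroup G) (ω : G ⧸ N) : ω ∈ orb U ω :=
  mem_orb.2 ⟨1, U.one_mem, (one_smul _ _).symm⟩

theorem smul_mem_orb {U : Subgroup G} {ω x : G ⧸ N} {y : G} (hy : y ∈ U) (hx : x ∈ orb U ω) :
    y • x ∈ orb U ω := by
  obtain ⟨y', hy', rfl⟩ := mem_orb.1 hx
  exact mem_orb.2 ⟨y * y', U.mul_mem hy hy', (mul_smul _ _ _).symm⟩

omit [Finite G] in
theorem ptr_swap (π : N →* A) (S : Finset (G ⧸ N)) (t : G)
    (hd : Disjoint S (S.image (fun x => t • x))) :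
    ptr π (S ∪ S.image (fun x => t • x)) t = ptr π S (t * t) := by
  rw [ptr_union π hd]
  unfold ptr
  rw [Finset.prod_image (fun x _ y _ h => MulAction.injective t h), ← Finset.prod_mul_distrib]
  apply Finset.prod_congr rfl
  intro x _
  rw [coc_mul, map_mul, mul_comm]

omit [Finite G] in
theorem ptr_image (π : N →* A) {S : Finset (G ⧸ N)} (w t : G)
    (hS : ∀ x ∈ S, (w⁻¹ * t * w) • x ∈ S) :
    ptr π (S.image (fun x => w • x)) t = ptr π S (w⁻¹ * t * w) := by
  have := ptr_conj π (S := S) w (w⁻¹ * t * w) hS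
  have h1 : w * (w⁻¹ * t * w) * w⁻¹ = t := by group
  rwa [h1] at this

omit [Finite G] in
theorem ptr_one (π : N →* A) (S : Finset (G ⧸ N)) : ptr π S 1 = 1 := by
  have h1 := ptr_mul π (S := S) 1 1 (fun x hx => by rwa [one_smul])
  rw [mul_one] at h1
  exact mul_eq_left.mp h1.symm

omit [Finite G] in
theorem ptr_inv (π : N →* A) {S : Finset (G ⧸ N)} (b : G) (hS : ∀ x ∈ S, b • x ∈ S) :
    ptr π S b⁻¹ = (ptr π S b)⁻¹ := by
  have h1 := ptr_mul π (S := S) b⁻¹ b hS
  rw [inv_mul_cancel, ptr_one] at h1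
  exact eq_inv_of_mul_eq_one_left h1.symm

/-- the data of a splitting of the orbit `orb U ω` -/
theorem orb_split (U : Subgroup G) (hU : IsPGroup 2 U) (ω : G ⧸ N) (hne : ∃ y ∈ U, y • ω ≠ ω) :
    ∃ M : Subgroup G, M ≤ U ∧ M ≠ U ∧ (∀ y ∈ U, ∀ m ∈ M, y * m * y⁻¹ ∈ M) ∧
      (∀ y ∈ U, y • ω = ω → y ∈ M) ∧
      ∀ w ∈ U, w ∉ M →
        (∀ y ∈ U, y ∈ M ∨ ∃ m ∈ M, y = w * m) ∧
        Disjoint (orb M ω) ((orb M ω).image (fun x => w • x)) ∧
        orb U ω = orb M ω ∪ (orb M ω).image (fun x => w • x) := by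
  have : Fact (Nat.Prime 2) := ⟨Nat.prime_two⟩
  set K : Subgroup G := U ⊓ MulAction.stabilizer G ω with hK
  have hKU : K ≤ U := inf_le_left
  have hKne : K ≠ U := by
    intro h
    obtain ⟨y, hy, hyω⟩ := hne
    have : y ∈ K := by rw [h]; exact hy
    exact hyω (MulAction.mem_stabilizer_iff.mp this.2)
  obtain ⟨M, hKM, hMU, hMne, hMnorm, hMz⟩ := exists_maximal_over U K hU hKU hKne
  refine ⟨M, hMU, hMne, hMnorm, ?_, ?_⟩
  · intro y hy hfix
    exact hKM ⟨hy, MulAction.mem_stabilizer_iff.mpr hfix⟩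
  · intro w hwU hwM
    obtain ⟨hcov, hdvd⟩ := hMz w hwU hwM
    have hcov' : ∀ y ∈ U, y ∈ M ∨ ∃ m ∈ M, y = w * m := by
      intro y hy
      obtain ⟨i, hi, m, hm, rfl⟩ := hcov y hy
      interval_cases i
      · left
        simpa using hm
      · right
        exact ⟨m, hm, by simp⟩
    refine ⟨hcov', ?_, ?_⟩
    · rw [Finset.disjoint_left]
      intro x hx hx'
      obtain ⟨m, hm, rfl⟩ := mem_orb.1 hx
      obtain ⟨x', hx'', hxx⟩ := Finset.mem_image.mp hx'
      obtain ⟨m', hm', rfl⟩ := mem_orb.1 hx''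
      have h1 : (m⁻¹ * w * m') • ω = ω := by
        have h2 : (w * m') • ω = m • ω := by rw [mul_smul]; exact hxx
        have h3 : m⁻¹ * w * m' = m⁻¹ * (w * m') := by group
        rw [h3, mul_smul, h2, ← mul_smul, inv_mul_cancel, one_smul]
      have h4 : m⁻¹ * w * m' ∈ M :=
        hKM ⟨U.mul_mem (U.mul_mem (U.inv_mem (hMU hm)) hwU) (hMU hm'),
          MulAction.mem_stabilizer_iff.mpr h1⟩
      apply hwM
      have h5 : w = m * (m⁻¹ * w * m') * m'⁻¹ := by group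
      rw [h5]
      exact M.mul_mem (M.mul_mem hm h4) (M.inv_mem hm')
    · ext x
      rw [Finset.mem_union, mem_orb, mem_orb, Finset.mem_image]
      constructor
      · rintro ⟨y, hy, rfl⟩
        rcases hcov' y hy with h | ⟨m, hm, rfl⟩
        · exact Or.inl ⟨y, h, rfl⟩
        · exact Or.inr ⟨m • ω, mem_orb.2 ⟨m, hm, rfl⟩, (mul_smul _ _ _).symm⟩
      · rintro (⟨m, hm, rfl⟩ | ⟨x', hx', rfl⟩)
        · exact ⟨m, hMU hm, rfl⟩
        · obtain ⟨m, hm, rfl⟩ := mem_orb.1 hx'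
          exact ⟨w * m, U.mul_mem hwU (hMU hm), (mul_smul _ _ _).symm⟩

/-- the partial transfer over `orb M ω` is multiplicative on `M` -/
theorem ptr_orb_mul (π : N →* A) (M : Subgroup G) (ω : G ⧸ N) (a : G) {b : G} (hb : b ∈ M) :
    ptr π (orb M ω) (a * b) = ptr π (orb M ω) a * ptr π (orb M ω) b :=
  ptr_mul π a b (fun _ hx => smul_mem_orb hb hx)

theorem ptr_orb_inv (π : N →* A) (M : Subgroup G) (ω : G ⧸ N) {b : G} (hb : b ∈ M) :
    ptr π (orb M ω) b⁻¹ = (ptr π (orb M ω) b)⁻¹ :=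
  ptr_inv π b (fun _ hx => smul_mem_orb hb hx)

/-- the partial transfer over `orb M ω` kills commutators of elements of `M` -/
theorem ptr_orb_comm (π : N →* A) (M : Subgroup G) (ω : G ⧸ N) {a b : G} (ha : a ∈ M)
    (hb : b ∈ M) : ptr π (orb M ω) (a * b * a⁻¹ * b⁻¹) = 1 := by
  rw [ptr_orb_mul π M ω _ (M.inv_mem hb), ptr_orb_mul π M ω _ (M.inv_mem ha),
    ptr_orb_mul π M ω _ hb, ptr_orb_inv π M ω ha, ptr_orb_inv π M ω hb,
    mul_comm (ptr π (orb M ω) a), mul_inv_cancel_right, mul_inv_cancel]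

theorem ptr_orb_of_mem (π : N →* A) {U M : Subgroup G} {ω : G ⧸ N}
    (hMnorm : ∀ y ∈ U, ∀ m ∈ M, y * m * y⁻¹ ∈ M) {w : G} (hwU : w ∈ U)
    (hd : Disjoint (orb M ω) ((orb M ω).image (fun x => w • x)))
    (hu : orb U ω = orb M ω ∪ (orb M ω).image (fun x => w • x)) {t : G} (ht : t ∈ M) :
    ptr π (orb U ω) t = ptr π (orb M ω) t * ptr π (orb M ω) (w⁻¹ * t * w) := by
  have h1 : w⁻¹ * t * w ∈ M := by
    have := hMnorm w⁻¹ (U.inv_mem hwU) t ht
    simpa using this
  rw [hu, ptr_union π hd, ptr_image π w t (fun x hx => smul_mem_orb h1 hx)]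

theorem ptr_orb_of_notMem (π : N →* A) {U M : Subgroup G} {ω : G ⧸ N} {t : G}
    (hd : Disjoint (orb M ω) ((orb M ω).image (fun x => t • x)))
    (hu : orb U ω = orb M ω ∪ (orb M ω).image (fun x => t • x)) :
    ptr π (orb U ω) t = ptr π (orb M ω) (t * t) := by
  rw [hu, ptr_swap π _ t hd]

theorem card_lt_of_le_of_ne {M U : Subgroup G} (h : M ≤ U) (hne : M ≠ U) :
    Nat.card M < Nat.card U := by
  have hlt : M < U := lt_of_le_of_ne h hne
  have h1 : (M : Set G) ⊂ (U : Set G) := hlt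
  have := Set.ncard_lt_ncard h1 (Set.toFinite _)
  rw [← Nat.card_coe_set_eq, ← Nat.card_coe_set_eq] at this
  exact this

/-- **The generic induction.** -/
theorem claimA (π : N →* A) (A₁ : Subgroup A) (hsq : ∀ a : A, a * a ∈ A₁)
    (E L : Subgroup G) (hL : IsPGroup 2 L)
    (hEn : ∀ y ∈ L, ∀ e ∈ E, y * e * y⁻¹ ∈ E)
    (hB : ∀ (M₁ : Subgroup G) (w : G) (ω : G ⧸ N), M₁ ≤ L → w ∈ E → w ∉ M₁ →
        (∀ e ∈ E, e ∈ M₁ ∨ ∃ m ∈ M₁, e = w * m) → (∃ e ∈ E, e • ω ≠ ω) →
        ∀ c ∈ E ⊓ M₁, ptr π (orb M₁ ω) c ∈ A₁) :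
    ∀ n : ℕ, ∀ M : Subgroup G, M ≤ L → E ≤ M → Nat.card M = n → ∀ ω : G ⧸ N,
      (∃ e ∈ E, e • ω ≠ ω) → ∀ t ∈ M, ptr π (orb M ω) t ∈ A₁ := by
  intro n
  induction n using Nat.strong_induction_on with
  | _ n ih =>
    intro M hML hEM hn ω hω t ht
    obtain ⟨e₀, he₀, he₀ω⟩ := hω
    obtain ⟨M₁, hM₁M, hM₁ne, hnorm, hstab, hsplit⟩ :=
      orb_split M (hL.to_le hML) ω ⟨e₀, hEM he₀, he₀ω⟩
    by_cases hEM₁ : E ≤ M₁
    · -- recursion into `M₁`
      have hIH : ∀ t' ∈ M₁, ptr π (orb M₁ ω) t' ∈ A₁ :=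
        ih (Nat.card M₁) (hn ▸ card_lt_of_le_of_ne hM₁M hM₁ne) M₁ (hM₁M.trans hML) hEM₁ rfl ω
          ⟨e₀, he₀, he₀ω⟩
      by_cases htM₁ : t ∈ M₁
      · obtain ⟨w, hwM, hwM₁⟩ := SetLike.not_le_iff_exists.mp
          (fun h : M ≤ M₁ => hM₁ne (le_antisymm hM₁M h))
        obtain ⟨-, hd, hu⟩ := hsplit w hwM hwM₁
        rw [ptr_orb_of_mem π hnorm hwM hd hu htM₁]
        have h1 : w⁻¹ * t * w ∈ M₁ := by
          have := hnorm w⁻¹ (M.inv_mem hwM) t htM₁
          simpa using this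
        exact A₁.mul_mem (hIH t htM₁) (hIH _ h1)
      · obtain ⟨hcov, hd, hu⟩ := hsplit t ht htM₁
        rw [ptr_orb_of_notMem π hd hu]
        apply hIH
        rcases hcov (t * t) (M.mul_mem ht ht) with h | ⟨m, hm, h⟩
        · exact h
        · exfalso
          apply htM₁
          have : t = m := mul_left_cancel h
          rw [this]; exact hm
    · -- `E` is not contained in `M₁`
      obtain ⟨w, hwE, hwM₁⟩ := SetLike.not_le_iff_exists.mp hEM₁
      have hwM : w ∈ M := hEM hwE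
      obtain ⟨hcov, hd, hu⟩ := hsplit w hwM hwM₁
      have hcovE : ∀ e ∈ E, e ∈ M₁ ∨ ∃ m ∈ M₁, e = w * m := fun e he => hcov e (hEM he)
      have hBB := hB M₁ w ω (hM₁M.trans hML) hwE hwM₁ hcovE ⟨e₀, he₀, he₀ω⟩
      by_cases htM₁ : t ∈ M₁
      · rw [ptr_orb_of_mem π hnorm hwM hd hu htM₁]
        have h1 : w⁻¹ * t * w ∈ M₁ := by
          have := hnorm w⁻¹ (M.inv_mem hwM) t htM₁
          simpa using this
        -- `w⁻¹ t w = t c` with `c ∈ E ⊓ M₁`
        have hcE : t⁻¹ * w⁻¹ * t * w ∈ E := by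
          have h2 := hEn t⁻¹ (L.inv_mem (hML ht)) w⁻¹ (E.inv_mem hwE)
          have h3 : t⁻¹ * w⁻¹ * t * w = (t⁻¹ * w⁻¹ * t⁻¹⁻¹) * w := by group
          rw [h3]
          exact E.mul_mem h2 hwE
        have hcM : t⁻¹ * w⁻¹ * t * w ∈ M₁ := by
          have h3 : t⁻¹ * w⁻¹ * t * w = t⁻¹ * (w⁻¹ * t * w) := by group
          rw [h3]
          exact M₁.mul_mem (M₁.inv_mem htM₁) h1
        have h4 : w⁻¹ * t * w = t * (t⁻¹ * w⁻¹ * t * w) := by group
        rw [h4, ptr_orb_mul π M₁ ω t hcM, ← mul_assoc]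
        exact A₁.mul_mem (hsq _) (hBB _ ⟨hcE, hcM⟩)
      · -- `t = w m`
        rcases hcov t ht with h | ⟨m, hm, htm⟩
        · exact absurd h htM₁
        · obtain ⟨hcov', hd', hu'⟩ := hsplit t ht htM₁
          rw [ptr_orb_of_notMem π hd' hu']
          have htt : t * t ∈ M₁ := by
            rcases hcov' (t * t) (M.mul_mem ht ht) with h | ⟨m', hm', h⟩
            · exact h
            · exfalso
              apply htM₁
              have : t = m' := mul_left_cancel h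
              rw [this]; exact hm'
          have hcE : w * (m * w * m⁻¹) ∈ E :=
            E.mul_mem hwE (hEn m (hML (hM₁M hm)) w hwE)
          have h5 : t * t = (w * (m * w * m⁻¹)) * (m * m) := by rw [htm]; group
          have hcM : w * (m * w * m⁻¹) ∈ M₁ := by
            have h6 : w * (m * w * m⁻¹) = (t * t) * (m * m)⁻¹ := by rw [h5]; group
            rw [h6]
            exact M₁.mul_mem htt (M₁.inv_mem (M₁.mul_mem hm hm))
          rw [h5, ptr_orb_mul π M₁ ω _ (M₁.mul_mem hm hm), ptr_orb_mul π M₁ ω m hm]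
          exact A₁.mul_mem (hBB _ ⟨hcE, hcM⟩) (hsq _)

/-- assembling orbits: an invariant set of cosets all of whose orbits contribute to `A₁` -/
theorem ptr_mem_of_orbits (π : N →* A) (A₁ : Subgroup A) (L : Subgroup G)
    (P : G ⧸ N → Prop)
    (horb : ∀ ω, P ω → ∀ t ∈ L, ptr π (orb L ω) t ∈ A₁) :
    ∀ S : Finset (G ⧸ N), (∀ y ∈ L, ∀ x ∈ S, y • x ∈ S) → (∀ x ∈ S, P x) →
      ∀ t ∈ L, ptr π S t ∈ A₁ := by
  intro S
  induction S using Finset.strongInduction with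
  | H S ihS =>
    intro hinv hSP t ht
    by_cases hne : S = ∅
    · subst hne
      rw [ptr_empty]
      exact A₁.one_mem
    obtain ⟨ω, hω⟩ := Finset.nonempty_iff_ne_empty.mpr hne
    have hOS : orb L ω ⊆ S := by
      intro x hx
      obtain ⟨y, hy, rfl⟩ := mem_orb.1 hx
      exact hinv y hy ω hω
    have hrest_inv : ∀ y ∈ L, ∀ x ∈ S \ orb L ω, y • x ∈ S \ orb L ω := by
      intro y hy x hx
      obtain ⟨hxS, hxO⟩ := Finset.mem_sdiff.mp hx
      refine Finset.mem_sdiff.mpr ⟨hinv y hy x hxS, ?_⟩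
      intro hyx
      apply hxO
      have := smul_mem_orb (L.inv_mem hy) hyx
      rwa [← mul_smul, inv_mul_cancel, one_smul] at this
    have hlt : S \ orb L ω ⊂ S := by
      refine Finset.ssubset_iff_subset_ne.mpr ⟨Finset.sdiff_subset, ?_⟩
      intro heq
      have : ω ∈ S \ orb L ω := by rw [heq]; exact hω
      exact (Finset.mem_sdiff.mp this).2 (self_mem_orb L ω)
    have hrest := ihS (S \ orb L ω) hlt hrest_inv
      (fun x hx => hSP x (Finset.mem_sdiff.mp hx).1) t ht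
    rw [← Finset.union_sdiff_of_subset hOS, ptr_union π Finset.disjoint_sdiff]
    exact A₁.mul_mem (horb ω (hSP ω hω) t ht) hrest

omit [Finite G] in
/-- the partial transfer over all cosets, at an element of `N` -/
theorem ptr_univ_eq (π : N →* A) [Fintype (G ⧸ N)] {t : G} (ht : t ∈ N) :
    ptr π (Finset.univ : Finset (G ⧸ N)) t =
      π ⟨t, ht⟩ * ptr π (Finset.univ \ {((1 : G) : G ⧸ N)}) t := by
  set ω₀ : G ⧸ N := ((1 : G) : G ⧸ N) with hω₀
  have hfix0 : t • ω₀ = ω₀ := by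
    show ((t * 1 : G) : G ⧸ N) = ((1 : G) : G ⧸ N)
    rw [mul_one]
    exact QuotientGroup.eq.mpr (by simpa using N.inv_mem ht)
  have h1 : ptr π (Finset.univ : Finset (G ⧸ N)) t =
      ptr π {ω₀} t * ptr π (Finset.univ \ {ω₀}) t := by
    rw [← ptr_union π Finset.disjoint_sdiff]
    congr 1
    simp
  have h3 : ptr π {ω₀} t = π ⟨t, ht⟩ := by
    unfold ptr
    rw [Finset.prod_singleton]
    have hs : (sec ω₀ : G) ∈ N := by
      have h4 := QuotientGroup.eq.mp (sec_spec ω₀)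
      have h5 := N.inv_mem h4
      simpa using h5
    have h6 : coc t ω₀ = (⟨sec ω₀, hs⟩ : N)⁻¹ * ⟨t, ht⟩ * ⟨sec ω₀, hs⟩ := by
      apply Subtype.ext
      simp only [coc, Subgroup.coe_mul, Subgroup.coe_inv]
      rw [hfix0]
    rw [h6, map_mul, map_mul, map_inv, mul_comm (π ⟨sec ω₀, hs⟩)⁻¹, mul_assoc, inv_mul_cancel,
      mul_one]
  rw [h1, h3]

end Cfsg.Agent.Lib.Helper54_OrbitSplit
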