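import Mathlib
import Cfsg.Agent.Lib.Helper54_LargeES
import Cfsg.Agent.Lib.Helper54_OrbitSplit

/-!
# Large extraspecial 2-subgroups and transfer, part 2 (helper54)

* `exists_comm_pair_of_cover`, `exists_comm_pair_of_cover2`: a subgroup of index at most two
  (resp. four) of an extraspecial `2`-group of order more than `8` (resp. `32`) is not abelian;
* `Bsub`: the subgroup of the elements of `C(z)` acting trivially on `E / ⟨z⟩`; it is a normal
  `2`-subgroup of `C(z)`;
* `mem_Bsub_of_centralizes`: an involution normalizing `E` and centralizing a subgroup of index two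
  of `E` acts trivially on `E / ⟨z⟩`;
* `claimB`: the second level of the induction of `Helper54_OrbitSplit.claimA`.
-/

set_option autoImplicit false
set_option linter.style.haveILetI false

namespace Cfsg.Agent.Lib.Helper54_LargeES2

open Cfsg.Agent.Lib.Helper89_ESClass Cfsg.Agent.Lib.Helper63_ESForm Cfsg.Agent.Lib.Helper63_ESCount
open Cfsg.Agent.Lib.Helper54_LargeES

section es

variable {E : Type*} [Group E] {t : E}

/-- a subgroup of index at most two of an extraspecial `2`-group of order more than `8` is not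
abelian -/
theorem exists_comm_pair_of_cover [Finite E] (hE : IsES2 E t) (hcard : 8 < Nat.card E)
    (F : Subgroup E) (w : E) (hcov : ∀ e, e ∈ F ∨ ∃ m ∈ F, e = w * m) :
    ∃ a ∈ F, ∃ b ∈ F, a * b = t * (b * a) := by
  by_contra hcon
  push Not at hcon
  have hab : ∀ a ∈ F, ∀ b ∈ F, a * b = b * a := by
    intro a ha b hb
    rcases hE.comm a b with h | h
    · exact h
    · exact absurd h (hcon a ha b hb)
  -- elements of `F` commuting with `w` are central
  have hcen : ∀ c ∈ F, c * w = w * c → ∀ e, c * e = e * c := by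
    intro c hc hcw e
    rcases hcov e with he | ⟨m, hm, rfl⟩
    · exact hab c hc e he
    · calc c * (w * m) = (c * w) * m := by group
        _ = w * (c * m) := by rw [hcw]; group
        _ = w * (m * c) := by rw [hab c hc m hm]
        _ = w * m * c := by group
  -- the centralizer of `w` is abelian
  have hCw : ∀ a b : E, a * w = w * a → b * w = w * b → a * b = b * a := by
    intro a b ha hb
    have key : ∀ a : E, a * w = w * a → (∀ e, a * e = e * a) ∨ ∃ m, (∀ e, m * e = e * m) ∧ a = w * m := by
      intro a ha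
      rcases hcov a with h | ⟨m, hm, rfl⟩
      · exact Or.inl (hcen a h ha)
      · right
        refine ⟨m, hcen m hm ?_, rfl⟩
        have h1 : w * (m * w) = w * (w * m) := by
          calc w * (m * w) = (w * m) * w := by group
            _ = w * (w * m) := ha
        exact mul_left_cancel h1
    rcases key a ha with h1 | ⟨m, hm, rfl⟩
    · exact h1 b
    · rcases key b hb with h2 | ⟨m', hm', rfl⟩
      · exact (h2 _).symm
      · calc w * m * (w * m') = w * (m * (w * m')) := by group
          _ = w * ((w * m') * m) := by rw [hm]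
          _ = w * (w * (m' * m)) := by group
          _ = w * (w * (m * m')) := by rw [hm' m]
          _ = w * ((w * m) * m') := by group
          _ = w * (m' * (w * m)) := by rw [hm' (w * m)]
          _ = w * m' * (w * m) := by group
  have := card_le_of_abelian_centralizer hE w hCw
  omega

/-- a subgroup of index at most four of an extraspecial `2`-group of order more than `32` is not
abelian -/
theorem exists_comm_pair_of_cover2 [Finite E] (hE : IsES2 E t) (hcard : 32 < Nat.card E)
    (F : Subgroup E) (w w' : E)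
    (hcov : ∀ e, ∃ f ∈ F, e = f ∨ e = w * f ∨ e = w' * f ∨ e = w * w' * f) :
    ∃ a ∈ F, ∃ b ∈ F, a * b = t * (b * a) := by
  by_contra hcon
  push Not at hcon
  have hab : ∀ a ∈ F, ∀ b ∈ F, a * b = b * a := by
    intro a ha b hb
    rcases hE.comm a b with h | h
    · exact h
    · exact absurd h (hcon a ha b hb)
  have hcen : ∀ c ∈ F, c * w = w * c → c * w' = w' * c → ∀ e, c * e = e * c := by
    intro c hc hcw hcw' e
    obtain ⟨f, hf, h⟩ := hcov e
    have hcf := hab c hc f hf
    rcases h with rfl | rfl | rfl | rfl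
    · exact hcf
    · calc c * (w * f) = (c * w) * f := by group
        _ = w * (c * f) := by rw [hcw]; group
        _ = w * f * c := by rw [hcf]; group
    · calc c * (w' * f) = (c * w') * f := by group
        _ = w' * (c * f) := by rw [hcw']; group
        _ = w' * f * c := by rw [hcf]; group
    · calc c * (w * w' * f) = (c * w) * w' * f := by group
        _ = w * (c * w') * f := by rw [hcw]; group
        _ = w * w' * (c * f) := by rw [hcw']; group
        _ = w * w' * f * c := by rw [hcf]; group
  let Φ : F →* Multiplicative (ZMod 2) × Multiplicative (ZMod 2) :=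
    ((cmHom hE w).comp F.subtype).prod ((cmHom hE w').comp F.subtype)
  have hker : Nat.card Φ.ker ≤ 2 := by
    have hcenk : ∀ c : Φ.ker, ∀ e : E, ((c : F) : E) * e = e * c := by
      intro c e
      have hc := c.2
      rw [MonoidHom.mem_ker] at hc
      have h1 : (cmHom hE w) ((c : F) : E) = 1 := congrArg Prod.fst hc
      have h2 : (cmHom hE w') ((c : F) : E) = 1 := congrArg Prod.snd hc
      exact hcen _ (c : F).2 ((mem_ker_cmHom hE w _).1 (MonoidHom.mem_ker.2 h1))
        ((mem_ker_cmHom hE w' _).1 (MonoidHom.mem_ker.2 h2)) e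
    by_cases h : ∃ a : Φ.ker, ((a : F) : E) = t
    · obtain ⟨a, ha⟩ := h
      apply card_le_two_of (1 : Φ.ker) a
      intro b
      rcases (hE.center _).1 (hcenk b) with h' | h'
      · left; exact Subtype.ext (Subtype.ext h')
      · right; exact Subtype.ext (Subtype.ext (h'.trans ha.symm))
    · apply card_le_two_of (1 : Φ.ker) 1
      intro b
      rcases (hE.center _).1 (hcenk b) with h' | h'
      · left; exact Subtype.ext (Subtype.ext h')
      · exact absurd ⟨b, h'⟩ h
  have hF : Nat.card F ≤ 8 := by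
    rw [← Subgroup.card_mul_index Φ.ker, Subgroup.index_ker]
    have h4 : Nat.card Φ.range ≤ 4 := by
      calc Nat.card Φ.range ≤ Nat.card (Multiplicative (ZMod 2) × Multiplicative (ZMod 2)) :=
            Subgroup.card_le_card_group _
        _ = 4 := by
            rw [Nat.card_eq_fintype_card]
            rfl
    calc Nat.card Φ.ker * Nat.card Φ.range ≤ 2 * 4 := Nat.mul_le_mul hker h4
      _ = 8 := by norm_num
  have hEF : Nat.card E ≤ 4 * Nat.card F := by
    let g : (Bool × Bool) × F → E := fun x =>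
      (if x.1.1 then w else 1) * (if x.1.2 then w' else 1) * (x.2 : E)
    have hg : Function.Surjective g := by
      intro e
      obtain ⟨f, hf, h⟩ := hcov e
      rcases h with h | h | h | h
      · exact ⟨((false, false), ⟨f, hf⟩), by simp [g, h]⟩
      · exact ⟨((true, false), ⟨f, hf⟩), by simp [g, h]⟩
      · exact ⟨((false, true), ⟨f, hf⟩), by simp [g, h]⟩
      · exact ⟨((true, true), ⟨f, hf⟩), by simp [g, h]⟩
    have h1 := Nat.card_le_card_of_surjective g hg
    have h2 : Nat.card ((Bool × Bool) × F) = 4 * Nat.card F := by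
      rw [Nat.card_prod, Nat.card_prod, Nat.card_eq_fintype_card (α := Bool)]
      rfl
    rwa [h2] at h1
  omega

end es

/-! ### subgroups of a group -/

section sub

variable {G : Type*} [Group G]

/-- the version of `exists_comm_pair_of_cover` for subgroups -/
theorem exists_comm_pair_inf [Finite G] {E : Subgroup G} {z : G} (hz : z ∈ E)
    (hE : IsES2 ↥E ⟨z, hz⟩) (hcard : 8 < Nat.card ↥E) (F : Subgroup G) (w : G) (hw : w ∈ E)
    (hcov : ∀ e ∈ E, e ∈ F ∨ ∃ m ∈ F, e = w * m) :
    ∃ a ∈ E ⊓ F, ∃ b ∈ E ⊓ F, a * b = z * (b * a) := by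
  obtain ⟨a, ha, b, hb, hab⟩ := exists_comm_pair_of_cover hE hcard (F.subgroupOf E) ⟨w, hw⟩ (by
    intro e
    rcases hcov e e.2 with h | ⟨m, hm, h⟩
    · exact Or.inl (Subgroup.mem_subgroupOf.2 h)
    · right
      have hmE : m ∈ E := by
        have : m = w⁻¹ * e := by rw [h]; group
        rw [this]
        exact E.mul_mem (E.inv_mem hw) e.2
      exact ⟨⟨m, hmE⟩, Subgroup.mem_subgroupOf.2 hm, Subtype.ext h⟩)
  exact ⟨a, ⟨a.2, Subgroup.mem_subgroupOf.1 ha⟩, b, ⟨b.2, Subgroup.mem_subgroupOf.1 hb⟩,
    congrArg Subtype.val hab⟩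

/-- the version of `exists_comm_pair_of_cover2` for subgroups -/
theorem exists_comm_pair_inf2 [Finite G] {E : Subgroup G} {z : G} (hz : z ∈ E)
    (hE : IsES2 ↥E ⟨z, hz⟩) (hcard : 32 < Nat.card ↥E) (F₁ F₂ : Subgroup G)
    (w w' : G) (hw : w ∈ E) (hw' : w' ∈ E)
    (hcov : ∀ e ∈ E, e ∈ F₁ ∨ ∃ m ∈ F₁, e = w * m)
    (hcov' : ∀ e ∈ E ⊓ F₁, e ∈ F₂ ∨ ∃ m ∈ F₂, e = w' * m) :
    ∃ a ∈ E ⊓ F₂, ∃ b ∈ E ⊓ F₂, a * b = z * (b * a) := by
  have hstep : ∀ e ∈ E ⊓ F₁, ∃ f ∈ E ⊓ F₂, e = f ∨ e = w' * f := by
    intro e he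
    rcases hcov' e he with h | ⟨m, hm, h⟩
    · exact ⟨e, ⟨he.1, h⟩, Or.inl rfl⟩
    · have hmE : m ∈ E := by
        have : m = w'⁻¹ * e := by rw [h]; group
        rw [this]
        exact E.mul_mem (E.inv_mem hw') he.1
      exact ⟨m, ⟨hmE, hm⟩, Or.inr h⟩
  obtain ⟨a, ha, b, hb, hab⟩ := exists_comm_pair_of_cover2 hE hcard (F₂.subgroupOf E)
    ⟨w, hw⟩ ⟨w', hw'⟩ (by
    intro e
    rcases hcov e e.2 with h | ⟨m, hm, h⟩
    · obtain ⟨f, hf, h'⟩ := hstep e ⟨e.2, h⟩
      refine ⟨⟨f, hf.1⟩, Subgroup.mem_subgroupOf.2 hf.2, ?_⟩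
      rcases h' with h' | h'
      · exact Or.inl (Subtype.ext h')
      · exact Or.inr (Or.inr (Or.inl (Subtype.ext h')))
    · have hmE : m ∈ E := by
        have : m = w⁻¹ * e := by rw [h]; group
        rw [this]
        exact E.mul_mem (E.inv_mem hw) e.2
      obtain ⟨f, hf, h'⟩ := hstep m ⟨hmE, hm⟩
      refine ⟨⟨f, hf.1⟩, Subgroup.mem_subgroupOf.2 hf.2, ?_⟩
      rcases h' with h' | h'
      · right; left
        apply Subtype.ext
        show (e : G) = w * f
        rw [h, h']
      · right; right; right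
        apply Subtype.ext
        show (e : G) = w * w' * f
        rw [h, h']
        group)
  exact ⟨a, ⟨a.2, Subgroup.mem_subgroupOf.1 ha⟩, b, ⟨b.2, Subgroup.mem_subgroupOf.1 hb⟩,
    congrArg Subtype.val hab⟩

end sub

end Cfsg.Agent.Lib.Helper54_LargeES2
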