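import Mathlib
import Cfsg.Prelude.Def_Transfer
import Cfsg.Prelude.Def_Amalgam
import Cfsg.Agent.Lib.Helper47_SubAPI
import Cfsg.Agent.Lib.Helper54_LargeES
import Cfsg.Agent.Lib.Helper54_LargeES2
import Cfsg.Agent.Lib.Helper54_OrbitSplit
import Cfsg.Agent.Lib.Helper54_HallWielandt
import Cfsg.Agent.Lib.Helper54_ES8

/-!
# Large extraspecial 2-subgroups and transfer, part 3 (helper54)

* `sqInv A`: the subgroup of the elements `a² b` with `b² = 1` of an abelian group;
* `hom_two_elt_eq_one`: a homomorphism from a group with `O^2(G) = G` to an abelian group kills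
  the `2`-elements;
* `mem_of_acts_trivially`: an element of `C(z)` acting trivially on `E / ⟨z⟩` lies in `E = O_2(C(z))`;
* `key_transfer`: the transfer argument.
-/

set_option autoImplicit false
set_option linter.style.haveILetI false

namespace Cfsg.Agent.Lib.Helper54_LargeES3

open Cfsg.Agent.Lib.Helper89_ESClass Cfsg.Agent.Lib.Helper63_ESForm Cfsg.Agent.Lib.Helper63_ESCount
open Cfsg.Agent.Lib.Helper54_LargeES Cfsg.Agent.Lib.Helper54_LargeES2
open Cfsg.Agent.Lib.Helper54_HallWielandt Cfsg.Agent.Lib.Helper54_OrbitSplit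

/-- the elements `x` of an abelian group with `(a² x)² = 1` for some `a` -/
def sqInv (A : Type*) [CommGroup A] : Subgroup A where
  carrier := {x | ∃ a : A, (a * a * x) * (a * a * x) = 1}
  one_mem' := ⟨1, by simp⟩
  mul_mem' := by
    rintro x y ⟨a, ha⟩ ⟨b, hb⟩
    refine ⟨a * b, ?_⟩
    have h : (a * b) * (a * b) * (x * y) * ((a * b) * (a * b) * (x * y)) =
        ((a * a * x) * (a * a * x)) * ((b * b * y) * (b * b * y)) := by
      simp only [mul_left_comm, mul_comm]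
    rw [h, ha, hb, one_mul]
  inv_mem' := by
    rintro x ⟨a, ha⟩
    refine ⟨a⁻¹, ?_⟩
    have h : a⁻¹ * a⁻¹ * x⁻¹ * (a⁻¹ * a⁻¹ * x⁻¹) = ((a * a * x) * (a * a * x))⁻¹ := by
      simp only [mul_inv_rev, mul_left_comm, mul_comm]
    rw [h, ha, inv_one]

theorem mem_sqInv {A : Type*} [CommGroup A] {x : A} :
    x ∈ sqInv A ↔ ∃ a : A, (a * a * x) * (a * a * x) = 1 := Iff.rfl

theorem sq_mem_sqInv {A : Type*} [CommGroup A] (a : A) : a * a ∈ sqInv A := by
  refine ⟨a⁻¹, ?_⟩
  simp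

theorem mem_sqInv_of_sq {A : Type*} [CommGroup A] {x : A} (h : x * x = 1) : x ∈ sqInv A :=
  ⟨1, by simpa using h⟩

/-- a homomorphism from a group generated by its elements of odd order to an abelian group kills
the `2`-elements -/
theorem hom_two_elt_eq_one {G : Type*} [Group G] [Finite G] {A : Type*} [CommGroup A]
    (hres : Cfsg.pResidual 2 G = ⊤) (τ : G →* A) (t : G) (k : ℕ) (ht : t ^ 2 ^ k = 1) :
    τ t = 1 := by
  obtain ⟨s, m, hm, hcard⟩ := Nat.exists_eq_two_pow_mul_odd (Nat.card_pos (α := G)).ne'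
  have h1 : Cfsg.pResidual 2 G ≤ ((powMonoidHom m : A →* A).ker).comap τ := by
    unfold Cfsg.pResidual
    rw [Subgroup.closure_le]
    intro x hx
    rw [SetLike.mem_coe, Subgroup.mem_comap, MonoidHom.mem_ker, powMonoidHom_apply, ← map_pow]
    have hdvd : orderOf x ∣ 2 ^ s * m := hcard ▸ orderOf_dvd_natCard x
    have hcop : Nat.Coprime (orderOf x) (2 ^ s) := Nat.Coprime.pow_right s hx
    have h2 : orderOf x ∣ m := hcop.dvd_of_dvd_mul_left hdvd
    rw [orderOf_dvd_iff_pow_eq_one.1 h2, map_one]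
  have h3 : t ∈ ((powMonoidHom m : A →* A).ker).comap τ := h1 (by rw [hres]; trivial)
  rw [Subgroup.mem_comap, MonoidHom.mem_ker, powMonoidHom_apply] at h3
  have h4 : τ t ^ 2 ^ k = 1 := by rw [← map_pow, ht, map_one]
  have h5 : τ t ^ (Nat.gcd m (2 ^ k)) = 1 := pow_gcd_eq_one.2 ⟨h3, h4⟩
  have h6 : Nat.gcd m (2 ^ k) = 1 := by
    apply Nat.Coprime.pow_right
    exact (Nat.coprime_comm.1 (Nat.coprime_two_left.2 hm))
  rwa [h6, pow_one] at h5

/-- the final argument in the abelianization -/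
theorem abelian_final {H : Type*} [Group H] [Finite H] {A : Type*} [CommGroup A] (lam : H →* A)
    (hsurj : Function.Surjective lam)
    (hstar : ∀ t : H, (∃ k : ℕ, t ^ 2 ^ k = 1) → lam t ∈ sqInv A) :
    ∀ q : A, (∃ k : ℕ, orderOf q = 2 ^ k) → q ^ 2 = 1 := by
  obtain ⟨r, m, hm, hcard⟩ := Nat.exists_eq_two_pow_mul_odd (Nat.card_pos (α := H)).ne'
  have hmem : ∀ c : A, c ^ m ∈ sqInv A := by
    intro c
    obtain ⟨h, rfl⟩ := hsurj c
    rw [← map_pow]
    apply hstar
    refine ⟨r, ?_⟩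
    rw [← pow_mul, mul_comm, ← hcard]
    exact pow_card_eq_one'
  have hbase : ∀ c : A, (c ^ m) ^ 2 ^ (r + 1) = 1 := by
    intro c
    obtain ⟨h, rfl⟩ := hsurj c
    rw [← map_pow, ← map_pow, ← pow_mul]
    have h1 : m * 2 ^ (r + 1) = Nat.card H * 2 := by rw [hcard, pow_succ]; ring
    rw [h1, pow_mul, pow_card_eq_one', one_pow, map_one]
  have hstep : ∀ e : ℕ, (∀ c : A, (c ^ m) ^ 2 ^ (e + 2) = 1) →
      ∀ c : A, (c ^ m) ^ 2 ^ (e + 1) = 1 := by
    intro e hP c
    obtain ⟨a, ha⟩ := hmem c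
    set x := c ^ m with hx
    have hxx : x * x = (a ^ 4)⁻¹ := by
      have h1 : a ^ 4 * (x * x) = 1 := by
        rw [← ha]
        have : a ^ 4 = a * a * a * a := by
          rw [pow_succ, pow_succ, pow_succ, pow_one]
        rw [this]
        simp only [mul_assoc, mul_left_comm, mul_comm]
      exact eq_inv_of_mul_eq_one_right h1
    have hy1 : (x ^ 2 ^ (e + 1)) ^ m = 1 := by
      have h2 : x ^ 2 ^ (e + 1) = ((a ^ 2 ^ (e + 2)))⁻¹ := by
        rw [pow_succ' 2 e, pow_mul, pow_two, hxx, inv_pow, ← pow_mul]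
        congr 2
        rw [pow_succ, pow_succ]
        ring
      rw [h2, inv_pow, ← pow_mul, mul_comm, pow_mul, hP a, inv_one]
    have hy2 : (x ^ 2 ^ (e + 1)) ^ 2 = 1 := by
      rw [← pow_mul, ← pow_succ]
      exact hP c
    have h3 : (x ^ 2 ^ (e + 1)) ^ (Nat.gcd m 2) = 1 := pow_gcd_eq_one.2 ⟨hy1, hy2⟩
    have h4 : Nat.gcd m 2 = 1 := Nat.coprime_comm.1 (Nat.coprime_two_left.2 hm)
    rwa [h4, pow_one] at h3
  have hdown : ∀ d : ℕ, (∀ c : A, (c ^ m) ^ 2 ^ (d + 1) = 1) → ∀ c : A, (c ^ m) ^ 2 ^ 1 = 1 := by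
    intro d
    induction d with
    | zero => intro h; simpa using h
    | succ d ih => intro h; exact ih (hstep d h)
  have hP1 := hdown r hbase
  rintro q ⟨k, hk⟩
  have h1 : q ^ (m * 2) = 1 := by
    have := hP1 q
    rwa [pow_one, ← pow_mul] at this
  have h2 : 2 ^ k ∣ m * 2 := hk ▸ orderOf_dvd_of_pow_eq_one h1
  have h3 : Nat.Coprime (2 ^ k) m := Nat.Coprime.pow_left k (Nat.coprime_two_left.2 hm)
  have h4 : 2 ^ k ∣ 2 := h3.dvd_of_dvd_mul_left h2
  rw [← hk] at h4
  exact orderOf_dvd_iff_pow_eq_one.1 h4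

/-! ### an involutory automorphism centralizing a subgroup of index two -/

section aut

variable {E : Type*} [Group E] {t : E}

/-- an involutory automorphism of an extraspecial `2`-group fixing pointwise a subgroup of index
at most two containing the centre acts trivially modulo the centre -/
theorem aut_trivial_mod_center (hE : IsES2 E t) (F : Subgroup E) (w : E)
    (hcov : ∀ e, e ∈ F ∨ ∃ m ∈ F, e = w * m) (htF : t ∈ F) (α : E ≃* E)
    (hfix : ∀ c ∈ F, α c = c) (hinv : ∀ e, α (α e) = e) : ∀ e, α e = e ∨ α e = t * e := by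
  by_cases hwF : w ∈ F
  · intro e
    left
    apply hfix
    rcases hcov e with h | ⟨m, hm, rfl⟩
    · exact h
    · exact F.mul_mem hwF hm
  -- `F` is normalized by `w`
  have hnorm : ∀ c ∈ F, w * c * w⁻¹ ∈ F := by
    intro c hc
    rcases hcov (w * c * w⁻¹) with h | ⟨m, hm, h⟩
    · exact h
    · exfalso
      apply hwF
      have h1 : w = m⁻¹ * c := by
        have h2 : c * w⁻¹ = m := by
          have h3 : w * (c * w⁻¹) = w * m := by rw [← h]; group
          exact mul_left_cancel h3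
        rw [← h2]; group
      rw [h1]
      exact F.mul_mem (F.inv_mem hm) hc
  set f : E := w⁻¹ * α w with hf
  have hfc : ∀ c ∈ F, f * c = c * f := by
    intro c hc
    have h1 := hfix _ (hnorm c hc)
    rw [map_mul, map_mul, map_inv, hfix c hc] at h1
    calc f * c = w⁻¹ * (α w * c * (α w)⁻¹) * α w := by rw [hf]; group
      _ = c * f := by rw [h1, hf]; group
  have hfF : f ∈ F := by
    rcases hcov f with h | ⟨m₀, hm₀, h⟩
    · exact h
    · exfalso
      have hcen : ∀ e, f * e = e * f := by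
        intro e
        have hwf : w = f * m₀⁻¹ := by rw [h]; group
        rcases hcov e with he | ⟨m, hm, rfl⟩
        · exact hfc e he
        · have h2 : w * m = f * (m₀⁻¹ * m) := by rw [hwf]; group
          rw [h2]
          calc f * (f * (m₀⁻¹ * m)) = f * ((m₀⁻¹ * m) * f) := by
                rw [hfc _ (F.mul_mem (F.inv_mem hm₀) hm)]
            _ = f * (m₀⁻¹ * m) * f := (mul_assoc _ _ _).symm
      have hfF : f ∈ F := by
        rcases (hE.center f).1 hcen with h1 | h1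
        · rw [h1]; exact F.one_mem
        · rw [h1]; exact htF
      apply hwF
      have hwf : w = f * m₀⁻¹ := by rw [h]; group
      rw [hwf]
      exact F.mul_mem hfF (F.inv_mem hm₀)
  have hαw : α w = w * f := by rw [hf]; group
  have hff : f * f = 1 := by
    have h1 := hinv w
    rw [hαw, map_mul, hαw, hfix f hfF] at h1
    have h2 : w * (f * f) = w * 1 := by rw [mul_one, ← mul_assoc]; exact h1
    exact mul_left_cancel h2
  have hcm : cmv w f = 0 := by
    have h1 : sqv (α w) = sqv w := sqv_map α w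
    rw [hαw, sqv_mul hE, (sqv_eq_zero_iff f).2 hff] at h1
    linear_combination h1
  have hwf : w * f = f * w := (cmv_eq_zero_iff w f).1 hcm
  have hcen : ∀ e, f * e = e * f := by
    intro e
    rcases hcov e with he | ⟨m, hm, rfl⟩
    · exact hfc e he
    · rw [← mul_assoc, ← hwf, mul_assoc, hfc m hm, ← mul_assoc]
  have hf1 : f = 1 ∨ f = t := (hE.center f).1 hcen
  have hαw' : α w = w ∨ α w = t * w := by
    rcases hf1 with h | h
    · left; rw [hαw, h, mul_one]
    · right; rw [hαw, h, hE.central]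
  intro e
  rcases hcov e with he | ⟨m, hm, rfl⟩
  · exact Or.inl (hfix e he)
  · rw [map_mul, hfix m hm]
    rcases hαw' with h | h
    · left; rw [h]
    · right; rw [h, mul_assoc]

end aut

/-! ### the common setting -/

section setting

variable {G : Type*} [Group G]

theorem pow_four_eq (g : G) : g ^ 2 ^ 2 = (g * g) * (g * g) := by
  have : (2 : ℕ) ^ 2 = 4 := rfl
  rw [this, pow_succ, pow_succ, pow_succ, pow_one]
  group

/-- the common setting: `E = O_2(C(z))` is extraspecial with centre `⟨z⟩` and self-centralizing -/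
structure Setup (z : G) (E : Subgroup G) : Prop where
  zz : z * z = 1
  z1 : z ≠ 1
  EH : E ≤ Subgroup.centralizer ({z} : Set G)
  conj : ∀ h ∈ Subgroup.centralizer ({z} : Set G), ∀ e ∈ E, h * e * h⁻¹ ∈ E
  zE : z ∈ E
  cent : Subgroup.centralizer (E : Set G) ≤ E
  core : E = Cfsg.pCoreOf 2 (Subgroup.centralizer ({z} : Set G))
  es : IsES2 ↥E ⟨z, zE⟩

theorem setup_of_hyps [Finite G] (z : G) (hz : orderOf z = 2) (E : Subgroup G)
    (hE : E = (Cfsg.pCore 2 ↥(Subgroup.centralizer ({z} : Set G))).map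
      (Subgroup.centralizer ({z} : Set G)).subtype)
    (hext : Cfsg.IsExtraspecial 2 ↥E) (hcent : Subgroup.centralizer (E : Set G) ≤ E) :
    Setup z E := by
  have hzmem : ∀ x : G, x ∈ Subgroup.centralizer ({z} : Set G) ↔ x * z = z * x :=
    fun x => Subgroup.mem_centralizer_singleton_iff
  have hEH : E ≤ Subgroup.centralizer ({z} : Set G) := by
    rw [hE]; exact Subgroup.map_subtype_le _
  have hconj : ∀ h ∈ Subgroup.centralizer ({z} : Set G), ∀ e ∈ E, h * e * h⁻¹ ∈ E := by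
    intro h hh e he
    rw [hE] at he ⊢
    obtain ⟨e', he', rfl⟩ := Subgroup.mem_map.1 he
    exact Subgroup.mem_map.2 ⟨⟨h, hh⟩ * e' * ⟨h, hh⟩⁻¹,
      (Cfsg.pCore_normal 2 _).conj_mem e' he' _, rfl⟩
  have hz1 : z ≠ 1 := by
    intro h
    rw [h, orderOf_one] at hz
    exact absurd hz (by norm_num)
  have hzz : z * z = 1 := by
    rw [← pow_two, ← hz, pow_orderOf_eq_one]
  have hzE : z ∈ E :=
    hcent (Subgroup.mem_centralizer_iff.2 (fun e he => ((hzmem e).1 (hEH he))))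
  exact
    { zz := hzz
      z1 := hz1
      EH := hEH
      conj := hconj
      zE := hzE
      cent := hcent
      core := hE
      es := isES2_of_central hext ⟨z, hzE⟩
        (fun g => Subtype.ext ((hzmem g).1 (hEH g.2)).symm)
        (fun h => hz1 (congrArg Subtype.val h)) }

namespace Setup

variable {z : G} {E : Subgroup G}

theorem mem_H (x : G) : x ∈ Subgroup.centralizer ({z} : Set G) ↔ x * z = z * x :=
  Subgroup.mem_centralizer_singleton_iff

theorem zH (z : G) : z ∈ Subgroup.centralizer ({z} : Set G) := (mem_H z).2 rfl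

theorem conj' (hS : Setup z E) {h : G} (hh : h ∈ Subgroup.centralizer ({z} : Set G)) {e : G}
    (he : e ∈ E) : h⁻¹ * e * h ∈ E := by
  have := hS.conj h⁻¹ (Subgroup.inv_mem _ hh) e he
  simpa using this

theorem normalizer (hS : Setup z E) {h : G} (hh : h ∈ Subgroup.centralizer ({z} : Set G)) :
    h ∈ Subgroup.normalizer (E : Set G) := by
  rw [Subgroup.mem_normalizer_iff]
  intro e
  constructor
  · exact hS.conj h hh e
  · intro he
    have := hS.conj' hh he
    have h2 : h⁻¹ * (h * e * h⁻¹) * h = e := by group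
    rwa [h2] at this

/-- squares of elements of `E` -/
theorem sq_mem (hS : Setup z E) {e : G} (he : e ∈ E) : e * e = 1 ∨ e * e = z := by
  rcases hS.es.sqs ⟨e, he⟩ with h | h
  · exact Or.inl (congrArg Subtype.val h)
  · exact Or.inr (congrArg Subtype.val h)

/-- commutators of elements of `E` -/
theorem comm_mem (hS : Setup z E) {a b : G} (ha : a ∈ E) (hb : b ∈ E) :
    a * b = b * a ∨ a * b = z * (b * a) := by
  rcases hS.es.comm ⟨a, ha⟩ ⟨b, hb⟩ with h | h
  · exact Or.inl (congrArg Subtype.val h)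
  · exact Or.inr (congrArg Subtype.val h)

/-- elements of `E` centralizing `E` -/
theorem central_mem (hS : Setup z E) {c : G} (hc : ∀ e ∈ E, c * e = e * c) : c = 1 ∨ c = z := by
  have hcE : c ∈ E := hS.cent (Subgroup.mem_centralizer_iff.2 (fun e he => (hc e he).symm))
  rcases (hS.es.center ⟨c, hcE⟩).1 (fun k => Subtype.ext (hc k k.2)) with h | h
  · exact Or.inl (congrArg Subtype.val h)
  · exact Or.inr (congrArg Subtype.val h)

theorem isPGroup (hS : Setup z E) : IsPGroup 2 ↥E := by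
  intro e
  refine ⟨2, ?_⟩
  apply Subtype.ext
  have h1 : ((e ^ 2 ^ 2 : ↥E) : G) = ((e : G) * e) * ((e : G) * e) := by
    rw [Subgroup.coe_pow]
    exact pow_four_eq _
  rw [h1]
  rcases hS.sq_mem e.2 with h | h
  · rw [h]; simp
  · rw [h, hS.zz]; rfl

/-- an element of `C(z)` acting trivially on `E / ⟨z⟩` lies in `E` -/
theorem mem_of_acts_trivially [Finite G] (hS : Setup z E) {h : G}
    (hh : h ∈ Subgroup.centralizer ({z} : Set G))
    (hact : ∀ e ∈ E, h * e * h⁻¹ = e ∨ h * e * h⁻¹ = z * e) : h ∈ E := by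
  have hzc : ∀ k ∈ Subgroup.centralizer ({z} : Set G), k * z = z * k := fun k hk => (mem_H k).1 hk
  let B : Subgroup G :=
    { carrier := {b | b ∈ Subgroup.centralizer ({z} : Set G) ∧
        ∀ e ∈ E, b * e * b⁻¹ = e ∨ b * e * b⁻¹ = z * e}
      one_mem' := ⟨Subgroup.one_mem _, fun e _ => Or.inl (by group)⟩
      mul_mem' := by
        rintro a b ⟨haH, ha⟩ ⟨hbH, hb⟩
        refine ⟨Subgroup.mul_mem _ haH hbH, ?_⟩
        intro e he
        have h1 : a * b * e * (a * b)⁻¹ = a * (b * e * b⁻¹) * a⁻¹ := by group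
        rw [h1]
        rcases hb e he with h2 | h2
        · rw [h2]; exact ha e he
        · rw [h2]
          have h3 : a * (z * e) * a⁻¹ = z * (a * e * a⁻¹) := by
            calc a * (z * e) * a⁻¹ = (a * z) * e * a⁻¹ := by group
              _ = z * (a * e * a⁻¹) := by rw [hzc a haH]; group
          rw [h3]
          rcases ha e he with h4 | h4
          · rw [h4]; exact Or.inr rfl
          · rw [h4, ← mul_assoc, hS.zz, one_mul]; exact Or.inl rfl
      inv_mem' := by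
        rintro a ⟨haH, ha⟩
        refine ⟨Subgroup.inv_mem _ haH, ?_⟩
        intro e he
        rw [inv_inv]
        rcases ha e he with h2 | h2
        · left
          calc a⁻¹ * e * a = a⁻¹ * (a * e * a⁻¹) * a := by rw [h2]
            _ = e := by group
        · right
          have h3 : a⁻¹ * z = z * a⁻¹ := ((hzc _ (Subgroup.inv_mem _ haH)))
          calc a⁻¹ * e * a = z * (z * (a⁻¹ * e * a)) := by rw [← mul_assoc, hS.zz, one_mul]
            _ = z * ((a⁻¹ * z) * e * a) := by rw [h3]; group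
            _ = z * (a⁻¹ * (z * e) * a) := by group
            _ = z * (a⁻¹ * (a * e * a⁻¹) * a) := by rw [h2]
            _ = z * e := by group }
  have hBmem : ∀ b : G, b ∈ B ↔ b ∈ Subgroup.centralizer ({z} : Set G) ∧
      ∀ e ∈ E, b * e * b⁻¹ = e ∨ b * e * b⁻¹ = z * e := fun b => Iff.rfl
  have hBH : B ≤ Subgroup.centralizer ({z} : Set G) := fun b hb => hb.1
  have hconjB : ∀ k ∈ Subgroup.centralizer ({z} : Set G), ∀ b ∈ B, k * b * k⁻¹ ∈ B := by
    intro k hk b hb
    refine ⟨Subgroup.mul_mem _ (Subgroup.mul_mem _ hk hb.1) (Subgroup.inv_mem _ hk), ?_⟩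
    intro e he
    have he' : k⁻¹ * e * k ∈ E := hS.conj' hk he
    have h1 : k * b * k⁻¹ * e * (k * b * k⁻¹)⁻¹ = k * (b * (k⁻¹ * e * k) * b⁻¹) * k⁻¹ := by group
    rw [h1]
    rcases hb.2 _ he' with h2 | h2
    · left; rw [h2]; group
    · right
      rw [h2]
      calc k * (z * (k⁻¹ * e * k)) * k⁻¹ = (k * z) * k⁻¹ * e := by group
        _ = z * e := by rw [hzc k hk]; group
  have hnorm : Subgroup.centralizer ({z} : Set G) ≤ Subgroup.normalizer (B : Set G) := by
    intro k hk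
    rw [Subgroup.mem_normalizer_iff]
    intro b
    constructor
    · exact hconjB k hk b
    · intro hb
      have := hconjB k⁻¹ (Subgroup.inv_mem _ hk) _ hb
      have h2 : k⁻¹ * (k * b * k⁻¹) * k⁻¹⁻¹ = b := by group
      rwa [h2] at this
  have hBp : IsPGroup 2 ↥B := by
    intro b
    refine ⟨2, ?_⟩
    apply Subtype.ext
    have h1 : ((b ^ 2 ^ 2 : ↥B) : G) = ((b : G) * b) * ((b : G) * b) := by
      rw [Subgroup.coe_pow]
      exact pow_four_eq _
    rw [h1]
    have hb := b.2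
    have h2 : ∀ e ∈ E, ((b : G) * b) * e = e * ((b : G) * b) := by
      intro e he
      have h3 : (b : G) * b * e * ((b : G) * b)⁻¹ = e := by
        have h4 : (b : G) * b * e * ((b : G) * b)⁻¹ = b * (b * e * (b : G)⁻¹) * (b : G)⁻¹ := by group
        rw [h4]
        rcases hb.2 e he with h5 | h5
        · rw [h5, h5]
        · rw [h5]
          have h6 : (b : G) * (z * e) * (b : G)⁻¹ = z * (b * e * (b : G)⁻¹) := by
            calc (b : G) * (z * e) * (b : G)⁻¹ = (b * z) * e * (b : G)⁻¹ := by group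
              _ = z * (b * e * (b : G)⁻¹) := by rw [hzc _ hb.1]; group
          rw [h6, h5, ← mul_assoc, hS.zz, one_mul]
      calc (b : G) * b * e = ((b : G) * b * e * ((b : G) * b)⁻¹) * ((b : G) * b) := by group
        _ = e * ((b : G) * b) := by rw [h3]
    rcases hS.central_mem h2 with h3 | h3
    · rw [h3]; simp
    · rw [h3, hS.zz]; rfl
  have h1 : B ≤ Cfsg.pCoreOf 2 (Subgroup.centralizer ({z} : Set G)) :=
    Cfsg.Agent.Lib.Helper47_SubAPI.le_pCoreOf hBH hnorm hBp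
  rw [hS.core]
  exact h1 ((hBmem h).2 ⟨hh, hact⟩)

/-- a coset other than `C(z)` is moved by `E` -/
theorem moved_of_ne (hS : Setup z E) (x : G ⧸ Subgroup.centralizer ({z} : Set G))
    (hx : x ≠ ((1 : G) : G ⧸ Subgroup.centralizer ({z} : Set G))) : ∃ e ∈ E, e • x ≠ x := by
  by_contra hcon
  push Not at hcon
  obtain ⟨g, rfl⟩ := QuotientGroup.mk_surjective x
  apply hx
  have hc : ∀ e ∈ E, (g * z * g⁻¹) * e = e * (g * z * g⁻¹) := by
    intro e he
    have h1 : ((e⁻¹ * g : G) : G ⧸ Subgroup.centralizer ({z} : Set G)) =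
        ((g : G) : G ⧸ Subgroup.centralizer ({z} : Set G)) := hcon e⁻¹ (E.inv_mem he)
    have h2 := (mem_H _).1 (QuotientGroup.eq.mp h1)
    have h3 : (e⁻¹ * g)⁻¹ * g = g⁻¹ * e * g := by group
    rw [h3] at h2
    calc (g * z * g⁻¹) * e = g * (z * (g⁻¹ * e * g)) * g⁻¹ := by group
      _ = g * ((g⁻¹ * e * g) * z) * g⁻¹ := by rw [h2]
      _ = e * (g * z * g⁻¹) := by group
  rcases hS.central_mem hc with h | h
  · exfalso
    apply hS.z1
    calc z = g⁻¹ * (g * z * g⁻¹) * g := by group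
      _ = 1 := by rw [h]; group
  · apply QuotientGroup.eq.mpr
    rw [mul_one]
    apply Subgroup.inv_mem
    rw [mem_H]
    calc g * z = (g * z * g⁻¹) * g := by group
      _ = z * g := by rw [h]

/-- **The transfer argument.** If the partial transfers of the elements of index-two subgroups of
`E` over suitable orbits lie in a subgroup `A₁` containing the squares, then `π` maps the
`2`-elements of `C(z)` into `A₁`. -/
theorem key_transfer [Finite G] (hres : Cfsg.pResidual 2 G = ⊤) (hS : Setup z E)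
    {A : Type*} [CommGroup A] (π : ↥(Subgroup.centralizer ({z} : Set G)) →* A) (A₁ : Subgroup A)
    (hsq : ∀ a : A, a * a ∈ A₁)
    (hB : ∀ (M₁ : Subgroup G) (w : G) (ω : G ⧸ Subgroup.centralizer ({z} : Set G)),
        IsPGroup 2 ↥M₁ → M₁ ≤ Subgroup.centralizer ({z} : Set G) → w ∈ E → w ∉ M₁ →
        (∀ e ∈ E, e ∈ M₁ ∨ ∃ m ∈ M₁, e = w * m) → (∃ e ∈ E, e • ω ≠ ω) →
        ∀ c ∈ E ⊓ M₁, ptr π (orb M₁ ω) c ∈ A₁)
    {t : G} (ht : t ∈ Subgroup.centralizer ({z} : Set G)) {k : ℕ} (htk : t ^ 2 ^ k = 1) :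
    π ⟨t, ht⟩ ∈ A₁ := by
  classical
  have : Fintype (G ⧸ Subgroup.centralizer ({z} : Set G)) := Fintype.ofFinite _
  let τ : G →* A :=
    MonoidHom.mk' (ptr π (Finset.univ : Finset (G ⧸ Subgroup.centralizer ({z} : Set G))))
      (fun a b => ptr_mul π a b (fun _ _ => Finset.mem_univ _))
  have hτ : ptr π (Finset.univ : Finset (G ⧸ Subgroup.centralizer ({z} : Set G))) t = 1 :=
    hom_two_elt_eq_one hres τ t k htk
  rw [ptr_univ_eq π ht] at hτ
  set L : Subgroup G := E ⊔ Subgroup.zpowers t with hLdef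
  have hLH : L ≤ Subgroup.centralizer ({z} : Set G) :=
    sup_le hS.EH (by rw [Subgroup.zpowers_le]; exact ht)
  have hL : IsPGroup 2 ↥L :=
    IsPGroup.to_sup_of_normal_left' hS.isPGroup (isPGroup_zpowers_of_pow htk)
      (by rw [Subgroup.zpowers_le]; exact hS.normalizer ht)
  have hEL : E ≤ L := le_sup_left
  have htL : t ∈ L := Subgroup.mem_sup_right (Subgroup.mem_zpowers t)
  have hfix0 : ∀ y ∈ L, y • (((1 : G) : G ⧸ Subgroup.centralizer ({z} : Set G))) =
      (((1 : G) : G ⧸ Subgroup.centralizer ({z} : Set G))) := by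
    intro y hy
    show ((y * 1 : G) : G ⧸ Subgroup.centralizer ({z} : Set G)) = _
    apply QuotientGroup.eq.mpr
    rw [mul_one, mul_one]
    exact Subgroup.inv_mem _ (hLH hy)
  have hrest : ptr π (Finset.univ \ {(((1 : G) : G ⧸ Subgroup.centralizer ({z} : Set G)))}) t
      ∈ A₁ := by
    apply ptr_mem_of_orbits π A₁ L (fun ω => ∃ e ∈ E, e • ω ≠ ω) ?_ _ ?_ ?_ t htL
    · intro ω hω t' ht'
      exact claimA π A₁ hsq E L hL (fun y hy e he => hS.conj y (hLH hy) e he)
        (fun M₁ w ω' hM₁L hwE hwM₁ hcov hmv =>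
          hB M₁ w ω' (hL.to_le hM₁L) (hM₁L.trans hLH) hwE hwM₁ hcov hmv)
        (Nat.card ↥L) L le_rfl hEL rfl ω hω t' ht'
    · intro y hy x hx
      rw [Finset.mem_sdiff, Finset.mem_singleton] at hx ⊢
      refine ⟨Finset.mem_univ _, ?_⟩
      intro h
      apply hx.2
      have h1 : y⁻¹ • (y • x) = x := by rw [← mul_smul, inv_mul_cancel, one_smul]
      rw [← h1, h, hfix0 _ (L.inv_mem hy)]
    · intro x hx
      rw [Finset.mem_sdiff, Finset.mem_singleton] at hx
      exact hS.moved_of_ne x hx.2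
  have h2 : π ⟨t, ht⟩ =
      (ptr π (Finset.univ \ {(((1 : G) : G ⧸ Subgroup.centralizer ({z} : Set G)))}) t)⁻¹ :=
    eq_inv_of_mul_eq_one_left hτ
  rw [h2]
  exact A₁.inv_mem hrest

/-- the partial transfers over the orbits of a subgroup cutting `E` in a subgroup of index two
have values of order at most two on that subgroup, when `E` has order more than `8` -/
theorem ptr_sq_of_card [Finite G] (hS : Setup z E) (hcard : 8 < Nat.card ↥E)
    {A : Type*} [CommGroup A] (π : ↥(Subgroup.centralizer ({z} : Set G)) →* A)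
    (M₁ : Subgroup G) (w : G) (ω : G ⧸ Subgroup.centralizer ({z} : Set G)) (hwE : w ∈ E)
    (hcov : ∀ e ∈ E, e ∈ M₁ ∨ ∃ m ∈ M₁, e = w * m) :
    ∀ c ∈ E ⊓ M₁, ptr π (orb M₁ ω) c * ptr π (orb M₁ ω) c = 1 := by
  obtain ⟨a, ha, b, hb, hab⟩ := exists_comm_pair_inf hS.zE hS.es hcard M₁ w hwE hcov
  have hzab : z = a * b * a⁻¹ * b⁻¹ := by rw [hab]; group
  have hμz : ptr π (orb M₁ ω) z = 1 := by
    have h := ptr_orb_comm π M₁ ω ha.2 hb.2
    rwa [← hzab] at h
  intro c hc
  rw [← ptr_orb_mul π M₁ ω c hc.2]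
  rcases hS.sq_mem hc.1 with h | h
  · rw [h, ptr_one]
  · rw [h, hμz]

/-- a homomorphism from `C(z)` to an abelian group kills `z` when `E` is not abelian -/
theorem hom_z_eq_one [Finite G] (hS : Setup z E) (hcard : 2 < Nat.card ↥E)
    {A : Type*} [CommGroup A] (π : ↥(Subgroup.centralizer ({z} : Set G)) →* A) :
    π ⟨z, zH z⟩ = 1 := by
  have hnab : ∃ a b : ↥E, a * b ≠ b * a := by
    by_contra hcon
    push Not at hcon
    have h1 : Nat.card ↥E ≤ 2 := by
      apply card_le_two_of (1 : ↥E) ⟨z, hS.zE⟩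
      intro e
      exact (hS.es.center e).1 (hcon e)
    omega
  obtain ⟨a, b, hab⟩ := hnab
  have hab' : (a : G) * b = z * (b * a) := by
    rcases hS.comm_mem a.2 b.2 with h | h
    · exact absurd (Subtype.ext h) hab
    · exact h
  have h1 : (⟨z, zH z⟩ : ↥(Subgroup.centralizer ({z} : Set G))) =
      ⟨a, hS.EH a.2⟩ * ⟨b, hS.EH b.2⟩ * ⟨a, hS.EH a.2⟩⁻¹ * ⟨b, hS.EH b.2⟩⁻¹ := by
    apply Subtype.ext
    show z = (a : G) * b * (a : G)⁻¹ * (b : G)⁻¹
    rw [hab']; group
  rw [h1, map_mul, map_mul, map_mul, map_inv, map_inv, mul_comm (π _) (π _), mul_inv_cancel_right,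
    mul_inv_cancel]

/-- in the case of order `8`, the square of a `2`-element of `C(z)` is killed by every
homomorphism to an abelian group -/
theorem hom_sq_of_card8 [Finite G] (hS : Setup z E) (hcard : Nat.card ↥E = 8)
    {A : Type*} [CommGroup A] (π : ↥(Subgroup.centralizer ({z} : Set G)) →* A)
    {t : G} (ht : t ∈ Subgroup.centralizer ({z} : Set G)) {k : ℕ} (htk : t ^ 2 ^ k = 1) :
    π ⟨t, ht⟩ * π ⟨t, ht⟩ = 1 := by
  have hπz : π ⟨z, zH z⟩ = 1 := hS.hom_z_eq_one (by omega) π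
  have hπE : ∀ (e : G) (he : e ∈ E), e = 1 ∨ e = z → π ⟨e, hS.EH he⟩ = 1 := by
    rintro e he (h | h)
    · subst h; exact map_one π
    · subst h; exact hπz
  set α : ↥E ≃* ↥E := conjEquiv E t (hS.normalizer ht) with hαdef
  have hαcoe : ∀ e : ↥E, ((α e : ↥E) : G) = t * e * t⁻¹ := fun e => rfl
  have hiter : ∀ (j : ℕ) (e : ↥E), (((α : ↥E → ↥E)^[j] e : ↥E) : G) = t ^ j * e * (t ^ j)⁻¹ := by
    intro j
    induction j with
    | zero => intro e; simp
    | succ j ih =>
      intro e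
      rw [Function.iterate_succ_apply', hαcoe, ih, pow_succ']
      group
  have hα : ∀ e, (α : ↥E → ↥E)^[2 ^ k] e = e := by
    intro e
    apply Subtype.ext
    rw [hiter, htk]
    group
  have hmul : π ⟨t, ht⟩ * π ⟨t, ht⟩ = π ⟨t * t, Subgroup.mul_mem _ ht ht⟩ := by
    rw [← map_mul]; rfl
  rcases Cfsg.Agent.Lib.Helper54_ES8.card8_aut hS.es hcard α k hα with h | ⟨y, hsq, hfix⟩
  · have htE : t ∈ E := by
      apply hS.mem_of_acts_trivially ht
      intro e he
      rcases h ⟨e, he⟩ with h1 | h1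
      · exact Or.inl (congrArg Subtype.val h1)
      · exact Or.inr (congrArg Subtype.val h1)
    rw [hmul]
    exact hπE _ (E.mul_mem htE htE) (hS.sq_mem htE)
  · have httE : t * t ∈ E := by
      apply hS.mem_of_acts_trivially (Subgroup.mul_mem _ ht ht)
      intro e he
      have h2 : t * t * e * (t * t)⁻¹ = t * (t * e * t⁻¹) * t⁻¹ := by group
      rw [h2]
      rcases hsq ⟨e, he⟩ with h1 | h1
      · exact Or.inl (congrArg Subtype.val h1)
      · exact Or.inr (congrArg Subtype.val h1)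
    have hf : α ⟨t * t, httE⟩ = ⟨t * t, httE⟩ := by
      apply Subtype.ext
      show t * (t * t) * t⁻¹ = t * t
      group
    -- the commutator `x = t y t⁻¹ y⁻¹`
    have hxH : t * (y : G) * t⁻¹ * (y : G)⁻¹ ∈ Subgroup.centralizer ({z} : Set G) :=
      hS.EH (E.mul_mem (hS.conj t ht y y.2) (E.inv_mem y.2))
    have hπx : π ⟨t * (y : G) * t⁻¹ * (y : G)⁻¹, hxH⟩ = 1 := by
      have h1 : (⟨t * (y : G) * t⁻¹ * (y : G)⁻¹, hxH⟩ : ↥(Subgroup.centralizer ({z} : Set G))) =
          ⟨t, ht⟩ * ⟨y, hS.EH y.2⟩ * ⟨t, ht⟩⁻¹ * ⟨y, hS.EH y.2⟩⁻¹ := rfl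
      rw [h1, map_mul, map_mul, map_mul, map_inv, map_inv, mul_comm (π _) (π _),
        mul_inv_cancel_right, mul_inv_cancel]
    rw [hmul]
    rcases hfix _ hf with h1 | h1
    · apply hπE _ httE
      rcases h1 with h1 | h1
      · exact Or.inl (congrArg Subtype.val h1)
      · exact Or.inr (congrArg Subtype.val h1)
    · rcases h1 with h1 | h1
      · have h2 : t * t = t * (y : G) * t⁻¹ * (y : G)⁻¹ := congrArg Subtype.val h1
        have h3 : (⟨t * t, Subgroup.mul_mem _ ht ht⟩ : ↥(Subgroup.centralizer ({z} : Set G))) =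
            ⟨t * (y : G) * t⁻¹ * (y : G)⁻¹, hxH⟩ := Subtype.ext h2
        rw [h3, hπx]
      · have h2 : t * t = z * (t * (y : G) * t⁻¹ * (y : G)⁻¹) := congrArg Subtype.val h1
        have h3 : (⟨t * t, Subgroup.mul_mem _ ht ht⟩ : ↥(Subgroup.centralizer ({z} : Set G))) =
            ⟨z, zH z⟩ * ⟨t * (y : G) * t⁻¹ * (y : G)⁻¹, hxH⟩ := Subtype.ext h2
        rw [h3, map_mul, hπx, hπz, one_mul]

/-- fixing a coset in terms of the conjugate of `z` -/
theorem fix_iff (g e : G) :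
    e • ((g : G) : G ⧸ Subgroup.centralizer ({z} : Set G)) =
        ((g : G) : G ⧸ Subgroup.centralizer ({z} : Set G)) ↔
      (g * z * g⁻¹) * e = e * (g * z * g⁻¹) := by
  have h0 : e • ((g : G) : G ⧸ Subgroup.centralizer ({z} : Set G)) =
      ((e * g : G) : G ⧸ Subgroup.centralizer ({z} : Set G)) := rfl
  rw [h0, QuotientGroup.eq, mem_H]
  have h3 : (e * g)⁻¹ * g = g⁻¹ * e⁻¹ * g := by group
  rw [h3]
  constructor
  · intro h2
    have h4 : (g * z * g⁻¹) * e⁻¹ = e⁻¹ * (g * z * g⁻¹) := by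
      calc (g * z * g⁻¹) * e⁻¹ = g * (z * (g⁻¹ * e⁻¹ * g)) * g⁻¹ := by group
        _ = g * ((g⁻¹ * e⁻¹ * g) * z) * g⁻¹ := by rw [h2]
        _ = e⁻¹ * (g * z * g⁻¹) := by group
    calc (g * z * g⁻¹) * e = e * (e⁻¹ * (g * z * g⁻¹)) * e := by group
      _ = e * ((g * z * g⁻¹) * e⁻¹) * e := by rw [h4]
      _ = e * (g * z * g⁻¹) := by group
  · intro h2
    have h4 : (g * z * g⁻¹) * e⁻¹ = e⁻¹ * (g * z * g⁻¹) := by
      calc (g * z * g⁻¹) * e⁻¹ = e⁻¹ * (e * (g * z * g⁻¹)) * e⁻¹ := by group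
        _ = e⁻¹ * ((g * z * g⁻¹) * e) * e⁻¹ := by rw [h2]
        _ = e⁻¹ * (g * z * g⁻¹) := by group
    calc g⁻¹ * e⁻¹ * g * z = g⁻¹ * (e⁻¹ * (g * z * g⁻¹)) * g := by group
      _ = g⁻¹ * ((g * z * g⁻¹) * e⁻¹) * g := by rw [h4]
      _ = z * (g⁻¹ * e⁻¹ * g) := by group

/-- if `z` is not fused to another element of `E`, a coset moved by `E` is moved by every subgroup
of index two of `E` -/
theorem moved_of_index_two [Finite G] (hS : Setup z E) (hcard : 8 < Nat.card ↥E)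
    (hwc : ∀ g : G, g * z * g⁻¹ ∈ E → g * z * g⁻¹ = z)
    (M₁ : Subgroup G) (w : G) (hwE : w ∈ E) (hcov : ∀ e ∈ E, e ∈ M₁ ∨ ∃ m ∈ M₁, e = w * m)
    (ω : G ⧸ Subgroup.centralizer ({z} : Set G)) (hω : ∃ e ∈ E, e • ω ≠ ω) :
    ∃ e ∈ E ⊓ M₁, e • ω ≠ ω := by
  by_contra hcon
  push Not at hcon
  obtain ⟨g, rfl⟩ := QuotientGroup.mk_surjective ω
  obtain ⟨e₁, he₁, he₁ω⟩ := hω
  apply he₁ω
  rw [fix_iff]
  have hac : ∀ e ∈ E ⊓ M₁, (g * z * g⁻¹) * e = e * (g * z * g⁻¹) :=
    fun e he => (fix_iff g e).1 (hcon e he)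
  -- `z` lies in `E ⊓ M₁`
  obtain ⟨a', ha', b', hb', hab'⟩ := exists_comm_pair_inf hS.zE hS.es hcard M₁ w hwE hcov
  have hzab : z = a' * b' * a'⁻¹ * b'⁻¹ := by rw [hab']; group
  have hzM : z ∈ E ⊓ M₁ := by
    rw [hzab]
    exact Subgroup.mul_mem _ (Subgroup.mul_mem _ (Subgroup.mul_mem _ ha' hb')
      (Subgroup.inv_mem _ ha')) (Subgroup.inv_mem _ hb')
  have haH : g * z * g⁻¹ ∈ Subgroup.centralizer ({z} : Set G) := (mem_H _).2 (hac z hzM)
  have haa : (g * z * g⁻¹) * (g * z * g⁻¹) = 1 := by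
    calc (g * z * g⁻¹) * (g * z * g⁻¹) = g * (z * z) * g⁻¹ := by group
      _ = 1 := by rw [hS.zz]; group
  have hact : ∀ e : ↥E, conjEquiv E _ (hS.normalizer haH) e = e ∨
      conjEquiv E _ (hS.normalizer haH) e = ⟨z, hS.zE⟩ * e := by
    apply aut_trivial_mod_center hS.es (M₁.subgroupOf E) ⟨w, hwE⟩ ?_
      (Subgroup.mem_subgroupOf.2 hzM.2)
    · intro c hc
      apply Subtype.ext
      show (g * z * g⁻¹) * c * (g * z * g⁻¹)⁻¹ = c
      rw [hac c ⟨c.2, Subgroup.mem_subgroupOf.1 hc⟩]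
      group
    · intro e
      apply Subtype.ext
      show (g * z * g⁻¹) * ((g * z * g⁻¹) * e * (g * z * g⁻¹)⁻¹) * (g * z * g⁻¹)⁻¹ = e
      calc (g * z * g⁻¹) * ((g * z * g⁻¹) * e * (g * z * g⁻¹)⁻¹) * (g * z * g⁻¹)⁻¹ =
            ((g * z * g⁻¹) * (g * z * g⁻¹)) * e * ((g * z * g⁻¹) * (g * z * g⁻¹))⁻¹ := by group
        _ = e := by rw [haa]; group
    · intro e
      rcases hcov e e.2 with h | ⟨m, hm, h⟩
      · exact Or.inl (Subgroup.mem_subgroupOf.2 h)
      · right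
        have hmE : m ∈ E := by
          have : m = w⁻¹ * e := by rw [h]; group
          rw [this]
          exact E.mul_mem (E.inv_mem hwE) e.2
        exact ⟨⟨m, hmE⟩, Subgroup.mem_subgroupOf.2 hm, Subtype.ext h⟩
  have haE : g * z * g⁻¹ ∈ E := by
    apply hS.mem_of_acts_trivially haH
    intro e he
    rcases hact ⟨e, he⟩ with h1 | h1
    · exact Or.inl (congrArg Subtype.val h1)
    · exact Or.inr (congrArg Subtype.val h1)
  rw [hwc g haE]
  exact ((mem_H _).1 (hS.EH he₁)).symm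

/-- **The second level of the induction.** -/
theorem claimB [Finite G] (hS : Setup z E) (hcard : 32 < Nat.card ↥E)
    {A : Type*} [CommGroup A] (π : ↥(Subgroup.centralizer ({z} : Set G)) →* A) (A₁ : Subgroup A)
    (hsq : ∀ a : A, a * a ∈ A₁)
    (M₁ : Subgroup G) (hM₁ : IsPGroup 2 ↥M₁) (hM₁H : M₁ ≤ Subgroup.centralizer ({z} : Set G))
    (w : G) (hwE : w ∈ E) (hcov : ∀ e ∈ E, e ∈ M₁ ∨ ∃ m ∈ M₁, e = w * m) :
    ∀ n : ℕ, ∀ M' : Subgroup G, M' ≤ M₁ → E ⊓ M₁ ≤ M' → Nat.card ↥M' = n →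
      ∀ ω : G ⧸ Subgroup.centralizer ({z} : Set G), (∃ e ∈ E ⊓ M₁, e • ω ≠ ω) →
      ∀ c ∈ E ⊓ M₁, ptr π (orb M' ω) c ∈ A₁ := by
  intro n
  induction n using Nat.strong_induction_on with
  | _ n ih =>
    intro M' hM'M₁ hE₁M' hn ω hω c hc
    obtain ⟨e₀, he₀, he₀ω⟩ := hω
    obtain ⟨M₂, hM₂M', hM₂ne, hnorm, hstab, hsplit⟩ :=
      orb_split M' (hM₁.to_le hM'M₁) ω ⟨e₀, hE₁M' he₀, he₀ω⟩
    have hcM' : c ∈ M' := hE₁M' hc
    have hE₁n : ∀ y ∈ M₁, ∀ e ∈ E ⊓ M₁, y⁻¹ * e * y ∈ E ⊓ M₁ := fun y hy e he =>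
      ⟨hS.conj' (hM₁H hy) he.1, M₁.mul_mem (M₁.mul_mem (M₁.inv_mem hy) he.2) hy⟩
    by_cases hEM₂ : E ⊓ M₁ ≤ M₂
    · have hIH : ∀ c' ∈ E ⊓ M₁, ptr π (orb M₂ ω) c' ∈ A₁ :=
        ih (Nat.card ↥M₂) (hn ▸ card_lt_of_le_of_ne hM₂M' hM₂ne) M₂ (hM₂M'.trans hM'M₁) hEM₂ rfl ω
          ⟨e₀, he₀, he₀ω⟩
      obtain ⟨w₀, hw₀M', hw₀M₂⟩ := SetLike.not_le_iff_exists.mp
        (fun h : M' ≤ M₂ => hM₂ne (le_antisymm hM₂M' h))
      obtain ⟨-, hd, hu⟩ := hsplit w₀ hw₀M' hw₀M₂
      rw [ptr_orb_of_mem π hnorm hw₀M' hd hu (hEM₂ hc)]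
      exact A₁.mul_mem (hIH c hc) (hIH _ (hE₁n w₀ (hM'M₁ hw₀M') c hc))
    · obtain ⟨w', hw'E₁, hw'M₂⟩ := SetLike.not_le_iff_exists.mp hEM₂
      have hw'M' : w' ∈ M' := hE₁M' hw'E₁
      obtain ⟨hcov', hd, hu⟩ := hsplit w' hw'M' hw'M₂
      have hcov₂ : ∀ e ∈ E ⊓ M₁, e ∈ M₂ ∨ ∃ m ∈ M₂, e = w' * m :=
        fun e he => hcov' e (hE₁M' he)
      obtain ⟨a, ha, b, hb, hab⟩ :=
        exists_comm_pair_inf2 hS.zE hS.es hcard M₁ M₂ w w' hwE hw'E₁.1 hcov hcov₂
      have hzab : z = a * b * a⁻¹ * b⁻¹ := by rw [hab]; group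
      have hμz : ptr π (orb M₂ ω) z = 1 := by
        have h := ptr_orb_comm π M₂ ω ha.2 hb.2
        rwa [← hzab] at h
      by_cases hcM₂ : c ∈ M₂
      · rw [ptr_orb_of_mem π hnorm hw'M' hd hu hcM₂]
        rcases hS.comm_mem hc.1 hw'E₁.1 with h | h
        · have h1 : w'⁻¹ * c * w' = c := by rw [mul_assoc, h]; group
          rw [h1]
          exact hsq _
        · have hzw : w' * z = z * w' := (mem_H _).1 (hS.EH hw'E₁.1)
          have h1 : w'⁻¹ * c * w' = z * c := by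
            calc w'⁻¹ * c * w' = w'⁻¹ * (c * w') := by group
              _ = w'⁻¹ * (z * (w' * c)) := by rw [h]
              _ = w'⁻¹ * ((z * w') * c) := by group
              _ = w'⁻¹ * ((w' * z) * c) := by rw [hzw]
              _ = z * c := by group
          rw [h1, ptr_orb_mul π M₂ ω z hcM₂, hμz, one_mul]
          exact hsq _
      · obtain ⟨-, hd', hu'⟩ := hsplit c hcM' hcM₂
        rw [ptr_orb_of_notMem π hd' hu']
        rcases hS.sq_mem hc.1 with h | h
        · rw [h, ptr_one]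
          exact A₁.one_mem
        · rw [h, hμz]
          exact A₁.one_mem

/-- the transfer argument when `z` is not fused to another element of `E` and `E` has order more
than `32`: every homomorphism from `C(z)` to an abelian group maps the `2`-elements to squares -/
theorem key_transfer_weakly_closed [Finite G] (hres : Cfsg.pResidual 2 G = ⊤) (hS : Setup z E)
    (hcard : 32 < Nat.card ↥E) (hwc : ∀ g : G, g * z * g⁻¹ ∈ E → g * z * g⁻¹ = z)
    {A : Type*} [CommGroup A] (π : ↥(Subgroup.centralizer ({z} : Set G)) →* A) (A₁ : Subgroup A)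
    (hsq : ∀ a : A, a * a ∈ A₁)
    {t : G} (ht : t ∈ Subgroup.centralizer ({z} : Set G)) {k : ℕ} (htk : t ^ 2 ^ k = 1) :
    π ⟨t, ht⟩ ∈ A₁ :=
  hS.key_transfer hres π A₁ hsq
    (fun M₁ w ω hM₁ hM₁H hwE _ hcov hω c hc =>
      hS.claimB hcard π A₁ hsq M₁ hM₁ hM₁H w hwE hcov (Nat.card ↥M₁) M₁ le_rfl inf_le_right rfl ω
        (hS.moved_of_index_two (by omega) hwc M₁ w hwE hcov ω hω) c hc)
    ht htk

end Setup

end setting

end Cfsg.Agent.Lib.Helper54_LargeES3
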