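import Mathlib
import Cfsg.Agent.Lib.Helper50_NatDefs

/-!
# S3009 package NAT-C: coordinates on a quadratic irreducible `SL(2, F)`-module
-/

set_option autoImplicit false

open Matrix Cfsg.Agent.Lib.Helper50_SL2Mat Cfsg.Agent.Lib.Helper50_NatDefs
open scoped MatrixGroups

namespace Cfsg.Agent.Lib.Helper54_Nat_NATC

variable {F : Type*} [Field F] {M : Type*} [AddCommGroup M]

/-- the torus action on `V0` -/
def mu (ρ : SL(2, F) →* AddMonoid.End M) (x : F) (v : M) : M := A ρ x (C ρ 1 v)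

/-- the coordinate map -/
def phi (ρ : SL(2, F) →* AddMonoid.End M) (v₀ : M) (w : Fin 2 → F) : M :=
  mu ρ (w 0) v₀ + C ρ 1 (mu ρ (w 1) v₀)

variable {ρ : SL(2, F) →* AddMonoid.End M}

theorem mu_add (hq : Quad ρ) (x y : F) (v : M) : mu ρ (x + y) v = mu ρ x v + mu ρ y v :=
  A_add hq x y _

theorem mu_zero (v : M) : mu ρ 0 v = 0 := A_zero ρ _

theorem mu_apply_zero (x : F) : mu ρ x (0 : M) = 0 := by
  unfold mu
  rw [map_zero, map_zero]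

theorem mu_mem_V0 (hq : Quad ρ) (x : F) (v : M) : mu ρ x v ∈ V0 ρ := A_mem_V0 hq _ _

theorem mu_one (hAC : ∀ t : F, t ≠ 0 → ∀ v ∈ V0 ρ, A ρ t (C ρ t⁻¹ v) = v) {v : M}
    (hv : v ∈ V0 ρ) : mu ρ 1 v = v := by
  have := hAC 1 one_ne_zero v hv
  rwa [inv_one] at this

theorem mu_mu
    (hmul : ∀ s t : F, s ≠ 0 → t ≠ 0 → ∀ v ∈ V0 ρ,
      A ρ (s * t) (C ρ 1 v) = A ρ s (C ρ 1 (A ρ t (C ρ 1 v))))
    (x y : F) {v : M} (hv : v ∈ V0 ρ) : mu ρ x (mu ρ y v) = mu ρ (x * y) v := by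
  by_cases hx : x = 0
  · subst hx
    rw [zero_mul, mu_zero, mu_zero]
  by_cases hy : y = 0
  · subst hy
    rw [mul_zero, mu_zero, mu_apply_zero]
  exact (hmul x y hx hy v hv).symm

theorem phi_add (hq : Quad ρ) (v₀ : M) (w w' : Fin 2 → F) :
    phi ρ v₀ (w + w') = phi ρ v₀ w + phi ρ v₀ w' := by
  unfold phi
  rw [Pi.add_apply, Pi.add_apply, mu_add hq, mu_add hq, map_add]
  abel

theorem phi_tU (hq : Quad ρ)
    (hmul : ∀ s t : F, s ≠ 0 → t ≠ 0 → ∀ v ∈ V0 ρ,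
      A ρ (s * t) (C ρ 1 v) = A ρ s (C ρ 1 (A ρ t (C ρ 1 v))))
    {v₀ : M} (hv₀ : v₀ ∈ V0 ρ) (s : F) (w : Fin 2 → F) :
    ρ (tU s) (phi ρ v₀ w) = phi ρ v₀ ![w 0 + s * w 1, w 1] := by
  have h1 : A ρ s (mu ρ (w 0) v₀) = 0 := A_of_mem_V0 ρ (mu_mem_V0 hq _ _) s
  have h2 : A ρ s (C ρ 1 (mu ρ (w 1) v₀)) = mu ρ (s * w 1) v₀ := mu_mu hmul s (w 1) hv₀
  rw [tU_apply]
  unfold phi
  rw [map_add, h1, h2, zero_add]
  simp only [Matrix.cons_val_zero, Matrix.cons_val_one]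
  rw [mu_add hq]
  abel

theorem phi_tL (hq : Quad ρ)
    (hmul : ∀ s t : F, s ≠ 0 → t ≠ 0 → ∀ v ∈ V0 ρ,
      A ρ (s * t) (C ρ 1 v) = A ρ s (C ρ 1 (A ρ t (C ρ 1 v))))
    (hCeq : ∀ s : F, ∀ v ∈ V0 ρ, C ρ s v = C ρ 1 (A ρ s (C ρ 1 v)))
    {v₀ : M} (hv₀ : v₀ ∈ V0 ρ) (s : F) (w : Fin 2 → F) :
    ρ (tL s) (phi ρ v₀ w) = phi ρ v₀ ![w 0, w 1 + s * w 0] := by
  have h1 : C ρ s (C ρ 1 (mu ρ (w 1) v₀)) = 0 := C_quad hq _ _ _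
  have h2 : C ρ s (mu ρ (w 0) v₀) = C ρ 1 (mu ρ (s * w 0) v₀) := by
    rw [hCeq s _ (mu_mem_V0 hq _ _)]
    congr 1
    exact mu_mu hmul s (w 0) hv₀
  rw [tL_apply]
  unfold phi
  rw [map_add, h1, h2, add_zero]
  simp only [Matrix.cons_val_zero, Matrix.cons_val_one]
  rw [mu_add hq, map_add]
  abel

theorem tU_mulVec (s : F) (w : Fin 2 → F) :
    ((tU s : SL(2, F)) : Matrix (Fin 2) (Fin 2) F).mulVec w = ![w 0 + s * w 1, w 1] := by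
  funext i
  fin_cases i
  · show ((tU s : SL(2, F)) : Matrix (Fin 2) (Fin 2) F).mulVec w 0 = w 0 + s * w 1
    rw [Matrix.mulVec, dotProduct, Fin.sum_univ_two]
    show (tU s) 0 0 * w 0 + (tU s) 0 1 * w 1 = _
    rw [tU00, tU01, one_mul]
  · show ((tU s : SL(2, F)) : Matrix (Fin 2) (Fin 2) F).mulVec w 1 = w 1
    rw [Matrix.mulVec, dotProduct, Fin.sum_univ_two]
    show (tU s) 1 0 * w 0 + (tU s) 1 1 * w 1 = _
    rw [tU10, tU11, zero_mul, zero_add, one_mul]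

theorem tL_mulVec (s : F) (w : Fin 2 → F) :
    ((tL s : SL(2, F)) : Matrix (Fin 2) (Fin 2) F).mulVec w = ![w 0, w 1 + s * w 0] := by
  funext i
  fin_cases i
  · show ((tL s : SL(2, F)) : Matrix (Fin 2) (Fin 2) F).mulVec w 0 = w 0
    rw [Matrix.mulVec, dotProduct, Fin.sum_univ_two]
    show (tL s) 0 0 * w 0 + (tL s) 0 1 * w 1 = _
    rw [tL00, tL01, one_mul, zero_mul, add_zero]
  · show ((tL s : SL(2, F)) : Matrix (Fin 2) (Fin 2) F).mulVec w 1 = w 1 + s * w 0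
    rw [Matrix.mulVec, dotProduct, Fin.sum_univ_two]
    show (tL s) 1 0 * w 0 + (tL s) 1 1 * w 1 = _
    rw [tL10, tL11, one_mul, add_comm]


theorem phi_e0 (hq : Quad ρ)
    (hAC : ∀ t : F, t ≠ 0 → ∀ v ∈ V0 ρ, A ρ t (C ρ t⁻¹ v) = v) {v₀ : M} (hv₀ : v₀ ∈ V0 ρ) :
    phi ρ v₀ ![1, 0] = v₀ := by
  unfold phi
  simp only [Matrix.cons_val_zero, Matrix.cons_val_one]
  rw [mu_one hAC hv₀, mu_zero, map_zero, add_zero]

theorem exists_ne_zero_mem_V0 (hnt : NonTriv ρ) (hq : Quad ρ) : ∃ v₀ ∈ V0 ρ, v₀ ≠ 0 := by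
  by_contra hcon
  push Not at hcon
  have hall : ∀ m : M, m = 0 := by
    intro m
    apply hcon m
    rw [mem_V0_iff_A]
    intro s
    exact hcon _ (A_mem_V0 hq s m)
  obtain ⟨g, m, hgm⟩ := hnt
  apply hgm
  rw [hall m, map_zero]

theorem mu_eq_zero
    (hAC : ∀ t : F, t ≠ 0 → ∀ v ∈ V0 ρ, A ρ t (C ρ t⁻¹ v) = v)
    (hmul : ∀ s t : F, s ≠ 0 → t ≠ 0 → ∀ v ∈ V0 ρ,
      A ρ (s * t) (C ρ 1 v) = A ρ s (C ρ 1 (A ρ t (C ρ 1 v))))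
    {v₀ : M} (hv₀ : v₀ ∈ V0 ρ) (hne : v₀ ≠ 0) {x : F} (hx : mu ρ x v₀ = 0) : x = 0 := by
  by_contra hx0
  apply hne
  have h1 : mu ρ x⁻¹ (mu ρ x v₀) = mu ρ (x⁻¹ * x) v₀ := mu_mu hmul _ _ hv₀
  rw [inv_mul_cancel₀ hx0, mu_one hAC hv₀, hx, mu_apply_zero] at h1
  exact h1.symm

theorem phi_injective (hq : Quad ρ)
    (hcap : ∀ m, m ∈ V0 ρ → m ∈ V0' ρ → m = 0)
    (hAC : ∀ t : F, t ≠ 0 → ∀ v ∈ V0 ρ, A ρ t (C ρ t⁻¹ v) = v)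
    (hmul : ∀ s t : F, s ≠ 0 → t ≠ 0 → ∀ v ∈ V0 ρ,
      A ρ (s * t) (C ρ 1 v) = A ρ s (C ρ 1 (A ρ t (C ρ 1 v))))
    {v₀ : M} (hv₀ : v₀ ∈ V0 ρ) (hne : v₀ ≠ 0) {w : Fin 2 → F} (hw : phi ρ v₀ w = 0) :
    w = 0 := by
  unfold phi at hw
  have ha : mu ρ (w 0) v₀ = -C ρ 1 (mu ρ (w 1) v₀) := eq_neg_of_add_eq_zero_left hw
  have h0 : mu ρ (w 0) v₀ = 0 := by
    apply hcap _ (mu_mem_V0 hq _ _)
    rw [ha]
    exact (V0' ρ).neg_mem (C_mem_V0' hq _ _)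
  have h1 : C ρ 1 (mu ρ (w 1) v₀) = 0 := by
    rw [h0, zero_add] at hw
    exact hw
  have h2 : mu ρ (w 1) v₀ = 0 := by
    have := hAC 1 one_ne_zero _ (mu_mem_V0 hq (w 1) v₀)
    rw [inv_one, h1, map_zero] at this
    exact this.symm
  funext i
  fin_cases i
  · exact mu_eq_zero hAC hmul hv₀ hne h0
  · exact mu_eq_zero hAC hmul hv₀ hne h2

theorem phi_equivariant (hq : Quad ρ)
    (hmul : ∀ s t : F, s ≠ 0 → t ≠ 0 → ∀ v ∈ V0 ρ,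
      A ρ (s * t) (C ρ 1 v) = A ρ s (C ρ 1 (A ρ t (C ρ 1 v))))
    (hCeq : ∀ s : F, ∀ v ∈ V0 ρ, C ρ s v = C ρ 1 (A ρ s (C ρ 1 v)))
    {v₀ : M} (hv₀ : v₀ ∈ V0 ρ) (g : SL(2, F)) :
    ∀ w : Fin 2 → F, ρ g (phi ρ v₀ w) = phi ρ v₀ ((g : Matrix (Fin 2) (Fin 2) F).mulVec w) := by
  refine sl2_induction
    (P := fun g : SL(2, F) => ∀ w : Fin 2 → F,
      ρ g (phi ρ v₀ w) = phi ρ v₀ ((g : Matrix (Fin 2) (Fin 2) F).mulVec w)) ?_ ?_ ?_ g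
  · intro w
    rw [one_apply', Matrix.SpecialLinearGroup.coe_one, Matrix.one_mulVec]
  · intro s g hg w
    rw [Cfsg.Agent.Lib.Helper50_NatDefs.mul_apply', hg w, phi_tU hq hmul hv₀,
      Matrix.SpecialLinearGroup.coe_mul, ← Matrix.mulVec_mulVec, tU_mulVec]
  · intro s g hg w
    rw [Cfsg.Agent.Lib.Helper50_NatDefs.mul_apply', hg w, phi_tL hq hmul hCeq hv₀,
      Matrix.SpecialLinearGroup.coe_mul, ← Matrix.mulVec_mulVec, tL_mulVec]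

theorem exists_equiv (hirr : Irr ρ) (hnt : NonTriv ρ) (hq : Quad ρ)
    (hcap : ∀ m, m ∈ V0 ρ → m ∈ V0' ρ → m = 0)
    (hsup : ∀ m : M, ∃ v ∈ V0 ρ, ∃ v' ∈ V0' ρ, m = v + v')
    (hAC : ∀ t : F, t ≠ 0 → ∀ v ∈ V0 ρ, A ρ t (C ρ t⁻¹ v) = v)
    (hCA : ∀ t : F, t ≠ 0 → ∀ v ∈ V0' ρ, C ρ t⁻¹ (A ρ t v) = v)
    (hmul : ∀ s t : F, s ≠ 0 → t ≠ 0 → ∀ v ∈ V0 ρ,
      A ρ (s * t) (C ρ 1 v) = A ρ s (C ρ 1 (A ρ t (C ρ 1 v))))
    (hCeq : ∀ s : F, ∀ v ∈ V0 ρ, C ρ s v = C ρ 1 (A ρ s (C ρ 1 v))) :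
    ∃ ψ : M ≃+ (Fin 2 → F), ∀ (g : SL(2, F)) (m : M),
      ψ (ρ g m) = (g : Matrix (Fin 2) (Fin 2) F).mulVec (ψ m) := by
  obtain ⟨v₀, hv₀, hne⟩ := exists_ne_zero_mem_V0 hnt hq
  let φ : (Fin 2 → F) →+ M := AddMonoidHom.mk' (phi ρ v₀) (phi_add hq v₀)
  have hφ : ∀ w, φ w = phi ρ v₀ w := fun _ => rfl
  have hinj : Function.Injective φ := by
    rw [injective_iff_map_eq_zero]
    intro w hw
    rw [hφ] at hw
    exact phi_injective hq hcap hAC hmul hv₀ hne hw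
  have hsurj : Function.Surjective φ := by
    have hN : ∀ g : SL(2, F), ∀ m ∈ φ.range, ρ g m ∈ φ.range := by
      intro g m hm
      obtain ⟨w, rfl⟩ := hm
      exact ⟨_, (phi_equivariant hq hmul hCeq hv₀ g w).symm⟩
    rcases hirr φ.range hN with h | h
    · exfalso
      apply hne
      have : v₀ ∈ φ.range := ⟨![1, 0], phi_e0 hq hAC hv₀⟩
      rw [h] at this
      exact (AddSubgroup.mem_bot).1 this
    · exact AddMonoidHom.range_eq_top.1 h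
  let e : (Fin 2 → F) ≃+ M := AddEquiv.ofBijective φ ⟨hinj, hsurj⟩
  refine ⟨e.symm, ?_⟩
  intro g m
  obtain ⟨w, rfl⟩ := e.surjective m
  have h1 : ρ g (e w) = e ((g : Matrix (Fin 2) (Fin 2) F).mulVec w) :=
    phi_equivariant hq hmul hCeq hv₀ g w
  rw [h1, AddEquiv.symm_apply_apply, AddEquiv.symm_apply_apply]

end Cfsg.Agent.Lib.Helper54_Nat_NATC
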