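import Mathlib

set_option autoImplicit false

namespace Cfsg.Agent.Lib.Helper54_NormSum

open Polynomial Finset

/-- over `ℤ`, the polynomial `1 + X + ... + X^(p-1)` is `(X-1)^(p-1)` up to a multiple of `p` -/
theorem poly_identity (p : ℕ) [hp : Fact p.Prime] :
    ∃ Q : ℤ[X], (∑ j ∈ range p, (X : ℤ[X]) ^ j) = (X - 1) ^ (p - 1) + C (p : ℤ) * Q := by
  have hfield : (∑ j ∈ range p, (X : (ZMod p)[X]) ^ j) = (X - 1) ^ (p - 1) := by
    have h1 : (∑ j ∈ range p, (X : (ZMod p)[X]) ^ j) * (X - 1) = X ^ p - 1 := geom_sum_mul X p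
    have h2 : ((X : (ZMod p)[X]) - 1) ^ (p - 1) * (X - 1) = X ^ p - 1 := by
      rw [← pow_succ, Nat.sub_add_cancel hp.out.one_le, sub_pow_char, one_pow]
    have hne : ((X : (ZMod p)[X]) - 1) ≠ 0 := by
      have := X_sub_C_ne_zero (1 : ZMod p)
      rwa [map_one] at this
    exact mul_right_cancel₀ hne (h1.trans h2.symm)
  have hdvd : C (p : ℤ) ∣ (∑ j ∈ range p, (X : ℤ[X]) ^ j) - (X - 1) ^ (p - 1) := by
    rw [C_dvd_iff_dvd_coeff]
    intro i
    have hmap : Polynomial.map (Int.castRingHom (ZMod p))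
        ((∑ j ∈ range p, (X : ℤ[X]) ^ j) - (X - 1) ^ (p - 1)) = 0 := by
      simp only [Polynomial.map_sub, Polynomial.map_sum, Polynomial.map_pow, Polynomial.map_X,
        Polynomial.map_one]
      rw [hfield, sub_self]
    have hc := congrArg (fun f => Polynomial.coeff f i) hmap
    simp only [Polynomial.coeff_map, Polynomial.coeff_zero] at hc
    exact (ZMod.intCast_zmod_eq_zero_iff_dvd _ p).mp hc
  obtain ⟨Q, hQ⟩ := hdvd
  exact ⟨Q, by rw [← hQ]; ring⟩

/-- the norm operator `1 + E + ... + E^(n-1)` kills `v` when `p ∣ n`, `p • v = 0` and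
`(E - 1)^(p-1) v = 0` -/
theorem geom_sum_apply_eq_zero {V : Type*} [AddCommGroup V] (p : ℕ) [hp : Fact p.Prime]
    (E : AddMonoid.End V) (v : V) (hpv : p • v = 0) (hE : ((E - 1) ^ (p - 1)) v = 0) :
    ∀ n : ℕ, p ∣ n → (∑ j ∈ range n, E ^ j) v = 0 := by
  obtain ⟨Q, hQ⟩ := poly_identity p
  have hp0 : (∑ j ∈ range p, E ^ j) v = 0 := by
    have h1 := congrArg (fun f => Polynomial.aeval E f) hQ
    simp only [map_sum, map_pow, aeval_X, map_add, map_sub, map_one, map_mul, aeval_C] at h1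
    rw [h1]
    have h2 : (algebraMap ℤ (AddMonoid.End V)) (p : ℤ) = (p : AddMonoid.End V) := by
      simp
    rw [h2]
    have h3 : ((p : AddMonoid.End V) * (aeval E) Q) = (aeval E) Q * (p : AddMonoid.End V) :=
      (Nat.cast_commute p _).eq
    rw [h3]
    show ((E - 1) ^ (p - 1)) v + ((aeval E) Q) ((p : AddMonoid.End V) v) = 0
    rw [hE, AddMonoid.End.natCast_apply, hpv, map_zero, add_zero]
  intro n hn
  obtain ⟨m, rfl⟩ := hn
  induction m with
  | zero => simp
  | succ m ih =>
    rw [Nat.mul_succ, Finset.sum_range_add]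
    show (∑ j ∈ range (p * m), E ^ j) v + (∑ j ∈ range p, E ^ (p * m + j)) v = 0
    rw [ih, zero_add]
    have h4 : (∑ j ∈ range p, E ^ (p * m + j)) = E ^ (p * m) * ∑ j ∈ range p, E ^ j := by
      rw [Finset.mul_sum]
      exact Finset.sum_congr rfl (fun j _ => pow_add _ _ _)
    rw [h4]
    show (E ^ (p * m)) ((∑ j ∈ range p, E ^ j) v) = 0
    rw [hp0, map_zero]


/-- the shift operator on sequences -/
def shift (V : Type*) [AddCommGroup V] : AddMonoid.End (ℕ → V) where
  toFun a := fun j => a (j + 1)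
  map_zero' := rfl
  map_add' _ _ := rfl

theorem shift_pow_apply {V : Type*} [AddCommGroup V] (a : ℕ → V) (k i : ℕ) :
    ((shift V) ^ k) a i = a (i + k) := by
  induction k generalizing a i with
  | zero => simp
  | succ k ih =>
    rw [pow_succ]
    show ((shift V) ^ k) ((shift V) a) i = a (i + (k + 1))
    rw [ih]
    show a (i + k + 1) = a (i + (k + 1))
    rw [add_assoc]

/-- the iterated "differences" of an element under an endomorphism -/
def diffSeq {N : Type*} [Group N] (κ : N →* N) (x : N) : ℕ → N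
  | 0 => x
  | k + 1 => κ (diffSeq κ x k) * (diffSeq κ x k)⁻¹

/-- products over `⟨κ⟩`-orbits are trivial when the `(p-1)`-st difference is killed -/
theorem prod_range_eq_one {A : Type*} [CommGroup A] {N : Type*} [Group N] (p : ℕ)
    [hp : Fact p.Prime] (κ : N →* N) (ψ : N →* A) (x : N) (hpow : ∀ y : N, ψ y ^ p = 1)
    (hkill : ∀ j : ℕ, ψ (κ^[j] (diffSeq κ x (p - 1))) = 1) {n : ℕ} (hn : p ∣ n) :
    ∏ j ∈ range n, ψ (κ^[j] x) = 1 := by
  set v : ℕ → Additive A := fun j => Additive.ofMul (ψ (κ^[j] x)) with hv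
  have hpv : p • v = 0 := by
    funext j
    show p • Additive.ofMul (ψ (κ^[j] x)) = 0
    rw [← ofMul_pow, hpow]; rfl
  have hdiff : ∀ k j : ℕ, (((shift (Additive A)) - 1) ^ k) v j =
      Additive.ofMul (ψ (κ^[j] (diffSeq κ x k))) := by
    intro k
    induction k with
    | zero => intro j; simp [hv, diffSeq]
    | succ k ih =>
      intro j
      rw [pow_succ']
      show ((shift (Additive A)) - 1) ((((shift (Additive A)) - 1) ^ k) v) j = _
      show (((shift (Additive A)) - 1) ^ k) v (j + 1) - (((shift (Additive A)) - 1) ^ k) v j = _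
      rw [ih, ih]
      show _ = Additive.ofMul (ψ (κ^[j] (κ (diffSeq κ x k) * (diffSeq κ x k)⁻¹)))
      rw [iterate_map_mul, iterate_map_inv, map_mul, map_inv, ← Function.iterate_succ_apply,
        ← div_eq_mul_inv, ofMul_div]
  have hE : (((shift (Additive A)) - 1) ^ (p - 1)) v = 0 := by
    funext j
    rw [hdiff, hkill]; rfl
  have h0 := geom_sum_apply_eq_zero p (shift (Additive A)) v hpv hE n hn
  have h1 := congrFun h0 0
  have h2 : (∑ j ∈ range n, (shift (Additive A)) ^ j) v 0 = ∑ j ∈ range n, v j := by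
    have : (∑ j ∈ range n, (shift (Additive A)) ^ j) v =
        ∑ j ∈ range n, ((shift (Additive A)) ^ j) v := by
      exact AddMonoidHom.finsetSum_apply _ _ _
    rw [this, Finset.sum_apply]
    exact Finset.sum_congr rfl (fun j _ => by rw [shift_pow_apply, zero_add])
  rw [h2] at h1
  have h3 : ∑ j ∈ range n, v j = Additive.ofMul (∏ j ∈ range n, ψ (κ^[j] x)) := by
    rw [ofMul_prod]
  rw [h3] at h1
  exact h1

end Cfsg.Agent.Lib.Helper54_NormSum
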