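import Mathlib
import Cfsg.Prelude.Def_PLocal
import Cfsg.Agent.Lib.Helper54_NormSum
import Cfsg.Agent.Lib.Helper54_OrbitProd

set_option autoImplicit false

namespace Cfsg.Agent.Lib.Helper54_NormalTransfer

open Cfsg Cfsg.Agent.Lib.Helper54_NormSum Cfsg.Agent.Lib.Helper54_OrbitProd
open scoped Pointwise

variable {G : Type*} [Group G]

theorem conj_inv_mem {N : Subgroup G} [hN : N.Normal] {x : G} (hx : x ∈ N) (k : G) :
    k⁻¹ * x * k ∈ N := by
  have := hN.conj_mem x hx k⁻¹
  rwa [inv_inv] at this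

/-- the value of `ϕ` at the conjugate `k⁻¹ x k` of an element `x` of the normal subgroup `N ≤ H` -/
noncomputable def Fc {H : Subgroup G} {A : Type*} [CommGroup A] (ϕ : H →* A) (N : Subgroup G)
    [N.Normal] (hNH : N ≤ H) (x : N) (k : G) : A :=
  ϕ ⟨k⁻¹ * x * k, hNH (conj_inv_mem x.2 k)⟩

variable {H : Subgroup G} {A : Type*} [CommGroup A] (ϕ : H →* A) (N : Subgroup G) [N.Normal]
  (hNH : N ≤ H)

theorem Fc_mul_right (x : N) (k : G) {m : G} (hm : m ∈ H) :
    Fc ϕ N hNH x (k * m) = Fc ϕ N hNH x k := by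
  unfold Fc
  have e : (⟨(k * m)⁻¹ * x * (k * m), hNH (conj_inv_mem x.2 (k * m))⟩ : H) =
      (⟨m, hm⟩ : H)⁻¹ * ⟨k⁻¹ * x * k, hNH (conj_inv_mem x.2 k)⟩ * ⟨m, hm⟩ := by
    apply Subtype.ext
    simp only [Subgroup.coe_mul, Subgroup.coe_inv]
    group
  rw [e, map_mul, map_mul, map_inv, mul_comm, mul_inv_cancel_left]

theorem Fc_eq_of_mk_eq (x : N) {k k' : G} (h : (k : G ⧸ H) = (k' : G ⧸ H)) :
    Fc ϕ N hNH x k = Fc ϕ N hNH x k' := by
  have hm : k⁻¹ * k' ∈ H := QuotientGroup.eq.mp h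
  have e : k' = k * (k⁻¹ * k') := by group
  rw [e, Fc_mul_right ϕ N hNH x k hm]

theorem Fc_one (x : N) : Fc ϕ N hNH x 1 = ϕ ⟨x, hNH x.2⟩ := by
  unfold Fc
  congr 1
  apply Subtype.ext
  simp

/-- the transfer of an element of a normal subgroup `N ≤ H` is the product of the values of `ϕ` at
its conjugates -/
theorem transfer_eq_prod_Fc [H.FiniteIndex] [Fintype (G ⧸ H)] (x : N) :
    MonoidHom.transfer ϕ (x : G) = ∏ q : G ⧸ H, Fc ϕ N hNH x q.out := by
  classical
  have htriv : ∀ q : G ⧸ H, (x : G)⁻¹ • q = q := by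
    intro q
    induction q using QuotientGroup.induction_on with
    | H k =>
      show ((((x : G)⁻¹ * k : G)) : G ⧸ H) = (k : G ⧸ H)
      rw [QuotientGroup.eq]
      have : ((x : G)⁻¹ * k)⁻¹ * k = k⁻¹ * x * k := by group
      rw [this]
      exact hNH (conj_inv_mem x.2 k)
  let T : H.LeftTransversal := default
  rw [MonoidHom.transfer_def ϕ T]
  unfold Subgroup.leftTransversals.diff
  simp only
  have hinst : (H.fintypeQuotientOfFiniteIndex : Fintype (G ⧸ H)) = ‹Fintype (G ⧸ H)› :=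
    Subsingleton.elim _ _
  rw [hinst]
  refine Finset.prod_congr rfl (fun q _ => ?_)
  have h1 : (((x : G) • T).2.leftQuotientEquiv q : G) =
      (x : G) * (T.2.leftQuotientEquiv q : G) := by
    rw [Subgroup.smul_apply_eq_smul_apply_inv_smul, htriv q]
    rfl
  have h2 : ((T.2.leftQuotientEquiv q : G) : G ⧸ H) = (q.out : G ⧸ H) := by
    rw [QuotientGroup.out_eq']
    exact Subgroup.IsComplement.quotientGroupMk_leftQuotientEquiv T.2 q
  rw [← Fc_eq_of_mk_eq ϕ N hNH x h2]
  unfold Fc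
  congr 1
  apply Subtype.ext
  show ((T.2.leftQuotientEquiv q : G))⁻¹ * (((x : G) • T).2.leftQuotientEquiv q : G) = _
  rw [h1]
  group


theorem Fc_mul (x y : N) (k : G) : Fc ϕ N hNH (x * y) k = Fc ϕ N hNH x k * Fc ϕ N hNH y k := by
  unfold Fc
  rw [← map_mul]
  congr 1
  apply Subtype.ext
  simp only [Subgroup.coe_mul]
  group

omit [N.Normal] in
theorem coe_iterate_conjNormal [N.Normal] (c : G) (y : N) (j : ℕ) :
    (((⇑(MulAut.conjNormal c⁻¹ : MulAut N).toMonoidHom)^[j] y : N) : G) =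
      (c ^ j)⁻¹ * y * c ^ j := by
  induction j with
  | zero => simp
  | succ j ih =>
    rw [Function.iterate_succ_apply']
    show ((MulAut.conjNormal c⁻¹ : MulAut N) _ : G) = _
    rw [MulAut.conjNormal_apply, ih, pow_succ]
    group

omit [N.Normal] in
theorem coe_diffSeq_mem [N.Normal] (c : G) (x : N) (k : ℕ) :
    ((diffSeq (MulAut.conjNormal c⁻¹ : MulAut N).toMonoidHom x k : N) : G) ∈
      iterCommutator N (Subgroup.zpowers c) k := by
  induction k with
  | zero => exact x.2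
  | succ k ih =>
    show ((MulAut.conjNormal c⁻¹ : MulAut N) (diffSeq _ x k) *
      (diffSeq (MulAut.conjNormal c⁻¹ : MulAut N).toMonoidHom x k)⁻¹ : N).1 ∈
        ⁅iterCommutator N (Subgroup.zpowers c) k, Subgroup.zpowers c⁆
    rw [Subgroup.commutator_comm]
    have hc : c⁻¹ ∈ Subgroup.zpowers c := Subgroup.inv_mem _ (Subgroup.mem_zpowers c)
    have := Subgroup.commutator_mem_commutator hc ih
    rw [commutatorElement_def] at this
    simp only [Subgroup.coe_mul, Subgroup.coe_inv, MulAut.conjNormal_apply]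
    exact this

/-- **Transfer of elements of a normal subgroup.** Let `N₁ ≤ N ≤ M` with `N, N₁` normal in `G` and
`N/N₁` of exponent `p`; let `D ≤ M` be a `p`-subgroup generated by a set `𝒞` of elements `c` with
`[N, c; p-1] ≤ N₁`, such that `M` is the only conjugate of `M` containing `D`.  Then the transfer
`G → M/M'` maps `x ∈ N` into `ϕ(x) ϕ(N₁)`. -/
theorem transfer_div_mem [Finite G] {p : ℕ} [hp : Fact p.Prime] {M : Subgroup G}
    (ϕ : M →* A) (N N₁ : Subgroup G) [N.Normal] [hN₁ : N₁.Normal] (hNM : N ≤ M)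
    (hpow : ∀ a ∈ N, a ^ p ∈ N₁)
    (𝒞 : Set G) (D : Subgroup G) (hD : D = Subgroup.closure 𝒞) (hDp : IsPGroup p D) (hDM : D ≤ M)
    (hfix : ∀ g : G, (∀ d ∈ D, g⁻¹ * d * g ∈ M) → g ∈ M)
    (hiter : ∀ c ∈ 𝒞, iterCommutator N (Subgroup.zpowers c) (p - 1) ≤ N₁)
    (x : N) :
    MonoidHom.transfer ϕ (x : G) * (ϕ ⟨x, hNM x.2⟩)⁻¹ ∈ (N₁.subgroupOf M).map ϕ := by
  classical
  let _ : Fintype (G ⧸ M) := Fintype.ofFinite _
  set B := (N₁.subgroupOf M).map ϕ with hB
  have hFB : ∀ z : N, (z : G) ∈ N₁ → ∀ k : G, Fc ϕ N hNM z k ∈ B := by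
    intro z hz k
    unfold Fc
    refine ⟨⟨k⁻¹ * z * k, hNM (conj_inv_mem z.2 k)⟩, ?_, rfl⟩
    rw [SetLike.mem_coe, Subgroup.mem_subgroupOf]
    exact conj_inv_mem hz k
  rw [transfer_eq_prod_Fc ϕ N hNM x]
  set q₀ : G ⧸ M := ((1 : G) : G ⧸ M) with hq₀
  rw [← Finset.mul_prod_erase Finset.univ (fun q : G ⧸ M => Fc ϕ N hNM x q.out)
    (Finset.mem_univ q₀)]
  have h0 : Fc ϕ N hNM x q₀.out = ϕ ⟨x, hNM x.2⟩ := by
    rw [← Fc_one ϕ N hNM x]
    apply Fc_eq_of_mk_eq
    rw [QuotientGroup.out_eq']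
  rw [h0, mul_comm, ← mul_assoc, inv_mul_cancel, one_mul]
  -- the group `D` and its generating set
  have : Group.IsNilpotent D := hDp.isNilpotent
  have hgen : Subgroup.closure (((↑) : D → G) ⁻¹' 𝒞) = ⊤ := by
    subst hD
    exact Subgroup.closure_closure_coe_preimage
  refine prod_mem_of_generated (D := D) B (((↑) : D → G) ⁻¹' 𝒞) hgen
    (fun q : G ⧸ M => Fc ϕ N hNM x q.out) ?_ _ ?_ ?_
  · -- the orbit products
    intro c hc q hcq
    induction q using QuotientGroup.induction_on with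
    | H g =>
    set n := Function.minimalPeriod (fun y : G ⧸ M => c • y) (g : G ⧸ M) with hn
    -- `p ∣ n`
    have hpn : p ∣ n := by
      have h1 : n ∣ orderOf c := by
        have := MulAction.period_dvd_orderOf c (g : G ⧸ M)
        rwa [MulAction.period_eq_minimalPeriod] at this
      obtain ⟨k, hk⟩ := hDp c
      have h2 : n ∣ p ^ k := h1.trans (orderOf_dvd_of_pow_eq_one hk)
      obtain ⟨i, -, hi⟩ := (Nat.dvd_prime_pow hp.out).mp h2
      rcases Nat.eq_zero_or_pos i with rfl | hipos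
      · exfalso
        apply hcq
        rw [pow_zero] at hi
        exact Function.minimalPeriod_eq_one_iff_isFixedPt.mp hi
      · rw [hi]
        exact dvd_pow_self p hipos.ne'
    set κ : N →* N := (MulAut.conjNormal (c : G)⁻¹ : MulAut N).toMonoidHom with hκ
    set ψ : N →* (A ⧸ B) := (QuotientGroup.mk' B).comp (ϕ.comp ((Subgroup.inclusion hNM).comp
      (MulAut.conjNormal g⁻¹ : MulAut N).toMonoidHom)) with hψ
    have hψ1 : ∀ z : N, (z : G) ∈ N₁ → ψ z = 1 := by
      intro z hz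
      rw [hψ]
      simp only [MonoidHom.coe_comp, Function.comp_apply]
      rw [QuotientGroup.mk'_apply, QuotientGroup.eq_one_iff]
      refine ⟨⟨g⁻¹ * z * g⁻¹⁻¹, hNM (by rw [inv_inv]; exact conj_inv_mem z.2 g)⟩, ?_, ?_⟩
      · rw [SetLike.mem_coe, Subgroup.mem_subgroupOf]
        show g⁻¹ * z * g⁻¹⁻¹ ∈ N₁
        rw [inv_inv]; exact conj_inv_mem hz g
      · congr 1
    have hψF : ∀ j : ℕ, ψ (κ^[j] x) =
        QuotientGroup.mk' B (Fc ϕ N hNM x ((c ^ j • (g : G ⧸ M)) : G ⧸ M).out) := by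
      intro j
      have h1 : Fc ϕ N hNM x ((c ^ j • (g : G ⧸ M)) : G ⧸ M).out =
          Fc ϕ N hNM x ((c : G) ^ j * g) := by
        apply Fc_eq_of_mk_eq
        rw [QuotientGroup.out_eq']
        rfl
      rw [h1, hψ]
      simp only [MonoidHom.coe_comp, Function.comp_apply]
      congr 1
      unfold Fc
      congr 1
      apply Subtype.ext
      show ((MulAut.conjNormal g⁻¹ : MulAut N) (κ^[j] x) : G) = _
      rw [MulAut.conjNormal_apply, hκ, coe_iterate_conjNormal]
      group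
    have hprod : ∏ j ∈ Finset.range n, ψ (κ^[j] x) = 1 := by
      apply prod_range_eq_one p κ ψ x
      · intro y
        rw [← map_pow]
        apply hψ1
        rw [Subgroup.coe_pow]
        exact hpow _ y.2
      · intro j
        apply hψ1
        rw [hκ, coe_iterate_conjNormal]
        apply conj_inv_mem
        exact hiter c hc (coe_diffSeq_mem N (c : G) x (p - 1))
      · exact hpn
    have h3 : QuotientGroup.mk' B (∏ j ∈ Finset.range n,
        Fc ϕ N hNM x ((c ^ j • (g : G ⧸ M)) : G ⧸ M).out) = 1 := by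
      rw [map_prod, ← hprod]
      exact Finset.prod_congr rfl (fun j _ => (hψF j).symm)
    exact (QuotientGroup.eq_one_iff _).mp h3
  · -- invariance
    intro d q hq
    rw [Finset.mem_erase] at hq ⊢
    refine ⟨fun h => hq.1 ?_, Finset.mem_univ _⟩
    have h1 : q = d⁻¹ • q₀ := by rw [← h, inv_smul_smul]
    rw [h1, hq₀]
    show ((((d⁻¹ : D) : G) * 1 : G) : G ⧸ M) = ((1 : G) : G ⧸ M)
    rw [QuotientGroup.eq]
    have : (((d⁻¹ : D) : G) * 1)⁻¹ * 1 = (d : G) := by simp
    rw [this]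
    exact hDM d.2
  · -- no fixed points
    intro q hq
    rw [Finset.mem_erase] at hq
    by_contra hcon
    push Not at hcon
    apply hq.1
    induction q using QuotientGroup.induction_on with
    | H g =>
    rw [hq₀, QuotientGroup.eq]
    have hg : g ∈ M := by
      apply hfix
      intro d hd
      have h1 := hcon (⟨d, hd⟩⁻¹ : D)
      have h2 : (((d⁻¹ * g : G)) : G ⧸ M) = (g : G ⧸ M) := h1
      rw [QuotientGroup.eq] at h2
      have : (d⁻¹ * g)⁻¹ * g = g⁻¹ * d * g := by group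
      rwa [this] at h2
    simpa using hg

end Cfsg.Agent.Lib.Helper54_NormalTransfer
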