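import Mathlib
import Cfsg.Agent.Lib.Helper38_OTDefs
import Cfsg.Agent.Lib.Helper17_UT_BAS1
import Cfsg.Agent.Lib.Helper94_OrthSiegel2

set_option autoImplicit false
set_option linter.unusedSectionVars false
set_option linter.unusedVariables false

/-!
OTENS4 package PROPER: the group `Ω = ⁅oG Q, oG Q⁆` of the tensor quadratic map contains an
element that is not a Kronecker map `X ↦ P * X * Rᵀ`: the Siegel element with data the two pure
tensors `x ⊗ y`, `x ⊗ w` (`β y w = 0`, `w ∉ ⟨y⟩`).  It sends the pure tensor `a ⊗ b`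
(`α a x = 1`, `β b y = 1`, `β b w = 0`) to `a ⊗ b + x ⊗ w`, which has a nonzero two by two minor,
whereas a Kronecker map sends pure tensors to pure tensors.
-/

namespace Cfsg.Agent.Lib.Helper54_OT_PROPER

open Matrix Module
open Cfsg.Agent.Lib.Helper98_ExtDefs Cfsg.Agent.Lib.Helper97_TensDefs
open Cfsg.Agent.Lib.Helper94_Herm
open Cfsg.Agent.Lib.Helper67_UT2Defs Cfsg.Agent.Lib.Helper37_UTDefs
open Cfsg.Agent.Lib.Helper37_UTPairDefs
open Cfsg.Agent.Lib.Helper94_OrthSmall Cfsg.Agent.Lib.Helper94_OrthSiegel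
open Cfsg.Agent.Lib.Helper38_OTDefs

variable {F : Type*} [Field F] {ι κ : Type*} [Fintype ι] [Fintype κ] [DecidableEq ι]
  [DecidableEq κ]
variable {α : LinearMap.BilinForm F (ι → F)} {β : LinearMap.BilinForm F (κ → F)}
variable {Q : Matrix ι κ F → F} {M : Subgroup (Matrix ι κ F ≃ₗ[F] Matrix ι κ F)}

/-- the Kronecker map on a pure tensor -/
theorem kron_pureO (P : Matrix ι ι F) (R : Matrix κ κ F) (a : ι → F) (b : κ → F) :
    P * vecMulVec a b * Rᵀ = vecMulVec (P *ᵥ a) (R *ᵥ b) := by
  rw [Matrix.mul_vecMulVec, Matrix.vecMulVec_mul, Matrix.vecMul_transpose]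

/-- two vectors of `ι → F` which are not proportional have a nonzero two by two minor -/
theorem exists_minor {ν : Type*} {a x : ν → F} (hx : x ≠ 0)
    (ha : a ∉ Submodule.span F {x}) : ∃ i i', a i * x i' - a i' * x i ≠ 0 := by
  by_contra hcon
  push Not at hcon
  obtain ⟨i', hi'⟩ : ∃ i', x i' ≠ 0 := by
    by_contra h
    push Not at h
    exact hx (funext h)
  apply ha
  rw [Submodule.mem_span_singleton]
  refine ⟨a i' / x i', ?_⟩
  funext i
  have h := hcon i i'
  rw [Pi.smul_apply, smul_eq_mul]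
  field_simp
  linear_combination -h

/-- in a nondegenerate alternating space of dimension at least three, a nonzero vector `y` has
a vector `w ⊥ y` outside `⟨y⟩` -/
theorem exists_perp_indep {ν : Type*} [Fintype ν] [DecidableEq ν]
    {ω : LinearMap.BilinForm F (ν → F)} (hω : ∀ x, ω x x = 0) (h3 : 3 ≤ Fintype.card ν)
    (y : ν → F) : ∃ w : ν → F, ω y w = 0 ∧ w ∉ Submodule.span F {y} := by
  -- the kernel of `ω y` has dimension at least `2`
  by_contra hcon
  push Not at hcon
  have hle : LinearMap.ker (ω y) ≤ Submodule.span F {y} := fun w hw => hcon w hw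
  have h1 : finrank F (LinearMap.ker (ω y)) ≤ 1 := by
    refine le_trans (Submodule.finrank_mono hle) ?_
    have := finrank_span_le_card (R := F) ({y} : Set (ν → F))
    simpa using this
  have h2 := LinearMap.finrank_range_add_finrank_ker (ω y)
  have h3' : finrank F (LinearMap.range (ω y)) ≤ 1 := by
    have := Submodule.finrank_le (LinearMap.range (ω y))
    rwa [finrank_self] at this
  rw [Module.finrank_fintype_fun_eq_card] at h2
  omega

/-- an alternating form is skew-symmetric -/
theorem alt_swapP {W : Type*} [AddCommGroup W] [Module F W] {ω : LinearMap.BilinForm F W}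
    (hω : ∀ x, ω x x = 0) (x y : W) : ω x y = - ω y x := by
  have h1 := hω (x + y)
  simp only [map_add, LinearMap.add_apply, hω, zero_add, add_zero] at h1
  linear_combination h1

/-- the tensor form of two alternating forms is symmetric -/
theorem tf_symmP (hα : ∀ x, α x x = 0) (hβ : ∀ y, β y y = 0) (X Y : Matrix ι κ F) :
    tf α β X Y = tf α β Y X := by
  rw [tf_apply, tf_apply, Finset.sum_comm]
  refine Finset.sum_congr rfl fun j _ => ?_
  refine Finset.sum_congr rfl fun l _ => ?_
  rw [alt_swapP hα (colv X l) (colv Y j), alt_swapP hβ (Pi.single l 1) (Pi.single j 1)]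
  ring

/-- the tensor form of two nondegenerate forms is nondegenerate -/
theorem tf_nondegP (hαN : NondegOn α ⊤) (hβN : NondegOn β ⊤) : NondegOn (tf α β) ⊤ := by
  intro X _ hX
  have hrow : ∃ i, X i ≠ 0 := by
    by_contra hcon
    push Not at hcon
    exact hX (by ext i j; rw [hcon i]; rfl)
  obtain ⟨i, hi⟩ := hrow
  obtain ⟨y, -, hy⟩ := hβN (X i) trivial hi
  have hc : ctrB β y X ≠ 0 := by
    intro h0
    apply hy
    have := congr_fun h0 i
    rwa [ctrB_apply] at this
  obtain ⟨x, -, hx⟩ := hαN (ctrB β y X) trivial hc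
  refine ⟨vecMulVec x y, trivial, ?_⟩
  rw [Cfsg.Agent.Lib.Helper17_UT_BAS1.tf_right_pure (σ := RingHom.id F)]
  exact hx

theorem tf_nondegenerateP (hα : ∀ x, α x x = 0) (hαN : NondegOn α ⊤) (hβ : ∀ y, β y y = 0)
    (hβN : NondegOn β ⊤) : LinearMap.BilinForm.Nondegenerate (tf α β) := by
  have h := tf_nondegP hαN hβN
  constructor
  · intro X hX
    by_contra h0
    obtain ⟨Y, -, hY⟩ := h X trivial h0
    exact hY (hX Y)
  · intro X hX
    by_contra h0
    obtain ⟨Y, -, hY⟩ := h X trivial h0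
    apply hY
    rw [tf_symmP hα hβ]
    exact hX Y

/-- Siegel elements are in `Ω` (dimension `a b ≥ 7`) -/
theorem sieg_mem_OmP [Finite F] (hC : OTCtx α β Q M) {u z : Matrix ι κ F} (hu : Q u = 0)
    (huz : tf α β u z = 0) : sieg Q (tf α β) u z ∈ ⁅oG Q, oG Q⁆ := by
  have hB : OTBase α β Q M := hC.base
  have hN : LinearMap.BilinForm.Nondegenerate (tf α β) :=
    tf_nondegenerateP hB.hα hB.hαN hB.hβ hB.hβN
  have h7 : 7 ≤ finrank F (Matrix ι κ F) := by
    rw [Module.finrank_matrix, Module.finrank_self, mul_one]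
    have h1 := hC.ha
    have h2 := hC.hab
    nlinarith
  exact Cfsg.Agent.Lib.Helper94_OrthSiegel2.sieg_mem_commutator' Q (tf α β) hB.hQs hB.hQp hN h7
    hu huz

/-- PROPER: `Ω` is not contained in the Kronecker maps. -/
theorem exists_not_isKron [Finite F] (hC : OTCtx α β Q M) :
    ∃ g ∈ ⁅oG Q, oG Q⁆, ¬ IsKron g := by
  have hB : OTBase α β Q M := hC.base
  have hpureT : ∀ (a a' : ι → F) (b b' : κ → F),
      tf α β (vecMulVec a b) (vecMulVec a' b') = α a a' * β b b' :=
    fun a a' b b' => Cfsg.Agent.Lib.Helper17_UT_BAS1.tf_pure (σ := RingHom.id F) a a' b b'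
  -- nonzero vectors `x`, `y`
  obtain ⟨x, hx0⟩ : ∃ x : ι → F, x ≠ 0 := by
    have hne : Nonempty ι := by
      rw [← Fintype.card_pos_iff]
      have := hC.ha
      omega
    obtain ⟨i⟩ := hne
    refine ⟨Pi.single i 1, fun h => ?_⟩
    have := congrFun h i
    simp at this
  obtain ⟨y, hy0⟩ : ∃ y : κ → F, y ≠ 0 := by
    have hne : Nonempty κ := by
      rw [← Fintype.card_pos_iff]
      have := hC.ha
      have := hC.hab
      omega
    obtain ⟨j⟩ := hne
    refine ⟨Pi.single j 1, fun h => ?_⟩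
    have := congrFun h j
    simp at this
  obtain ⟨w, hyw, hw⟩ := exists_perp_indep hB.hβ
    (by have := hC.ha; have := hC.hab; omega) y
  have hwy : β w y = 0 := by
    rw [alt_swapP hB.hβ, hyw, neg_zero]
  have hu : Q (vecMulVec x y) = 0 := hB.hpure x y
  have huz : tf α β (vecMulVec x y) (vecMulVec x w) = 0 := by
    rw [hpureT, hB.hα, zero_mul]
  refine ⟨sieg Q (tf α β) (vecMulVec x y) (vecMulVec x w),
    sieg_mem_OmP hC hu huz, ?_⟩
  rintro ⟨P, R, hPR⟩
  -- partners
  obtain ⟨a, -, ha⟩ := hB.hαN x (Submodule.mem_top) hx0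
  obtain ⟨b, -, hb⟩ := hB.hβN y (Submodule.mem_top) hy0
  have hax : α a x ≠ 0 := by
    intro h
    apply ha
    rw [alt_swapP hB.hα, h, neg_zero]
  have hby : β b y ≠ 0 := by
    intro h
    apply hb
    rw [alt_swapP hB.hβ, h, neg_zero]
  -- `a ∉ ⟨x⟩`
  have hanx : a ∉ Submodule.span F {x} := by
    intro h
    obtain ⟨l, rfl⟩ := Submodule.mem_span_singleton.mp h
    apply hax
    rw [map_smul, LinearMap.smul_apply, hB.hα, smul_zero]
  -- the vector `c`
  obtain ⟨c, hc⟩ : ∃ c : κ → F, c = β b y • w - β b w • y := ⟨_, rfl⟩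
  have hc0 : c ≠ 0 := by
    intro h
    apply hw
    rw [Submodule.mem_span_singleton]
    refine ⟨(β b y)⁻¹ * β b w, ?_⟩
    have h1 : β b y • w = β b w • y := by
      rw [← sub_eq_zero, ← hc, h]
    rw [mul_smul, ← h1, smul_smul, inv_mul_cancel₀ hby, one_smul]
  have hbnc : b ∉ Submodule.span F {c} := by
    intro h
    obtain ⟨l, hl⟩ := Submodule.mem_span_singleton.mp h
    apply hby
    have h2 : β c y = 0 := by
      rw [hc, map_sub, LinearMap.sub_apply, map_smul, map_smul, LinearMap.smul_apply,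
        LinearMap.smul_apply, hwy, hB.hβ, smul_zero, smul_zero, sub_zero]
    rw [← hl, map_smul, LinearMap.smul_apply, h2, smul_zero]
  obtain ⟨i, i', hii⟩ := exists_minor hx0 hanx
  obtain ⟨j, j', hjj⟩ := exists_minor hc0 hbnc
  -- the entry identity
  have key : ∀ (k : ι) (l : κ),
      (P *ᵥ a) k * (R *ᵥ b) l = a k * b l + α a x * x k * c l := by
    intro k l
    have h1 := hPR (vecMulVec a b)
    rw [sieg_apply Q (tf α β) hB.hQs hB.hQp hu huz, kron_pureO, hB.hpure, zero_mul, zero_smul,
      sub_zero, hpureT, hpureT] at h1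
    have h2 := congrFun (congrFun h1 k) l
    simp only [Matrix.add_apply, Matrix.sub_apply, Matrix.smul_apply, vecMulVec_apply,
      smul_eq_mul] at h2
    rw [← h2, hc]
    simp only [Pi.sub_apply, Pi.smul_apply, smul_eq_mul]
    ring
  have E1 := key i j
  have E2 := key i' j'
  have E3 := key i j'
  have E4 := key i' j
  have hμ : α a x * ((a i * x i' - a i' * x i) * (b j * c j' - b j' * c j)) = 0 := by
    linear_combination (-((P *ᵥ a) i' * (R *ᵥ b) j')) * E1 - (a i * b j + α a x * x i * c j) * E2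
      + ((P *ᵥ a) i' * (R *ᵥ b) j) * E3 + (a i * b j' + α a x * x i * c j') * E4
  exact mul_ne_zero hax (mul_ne_zero hii hjj) hμ

end Cfsg.Agent.Lib.Helper54_OT_PROPER
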