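import Mathlib
import Cfsg.Agent.Lib.Helper1_Frattini
import Cfsg.Agent.Lib.Helper54_ClassOrder
import Cfsg.Agent.Lib.Helper54_NormalTransfer

/-!
# Finite `p`-groups whose abelianization has order `p ^ 2` (helper54)

Type-level facts about a finite `p`-group `Q`:

* `card_le_commutator_mul_centralizer`: `|Q| ≤ |Q'| * |C_Q(x)|`.
* `card_le_of_index_commutator_le`: `|Q : Q'| ≤ p` forces `|Q| ≤ p`.
* `commutator_le_of_not_le`: if `|Q : Q'| = p ^ 2`, a normal subgroup not inside `Q'` contains `Q'`.
* `transfer_eq_self`: the transfer into a normal subgroup `D` fixes the value of `ψ` at an element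
  all of whose conjugates outside `D` are killed by `ψ`.
-/

set_option autoImplicit false

namespace Cfsg.Agent.Lib.Helper54_PSqGroup

open scoped commutatorElement

section Basic

variable {Q : Type*} [Group Q]

theorem comm_mem_commutator (y x : Q) : ⁅y, x⁆ ∈ commutator Q := by
  rw [commutator_def]
  exact Subgroup.commutator_mem_commutator (Subgroup.mem_top y) (Subgroup.mem_top x)

/-- the class bound: `|Q| ≤ |Q'| * |C_Q(x)|` -/
theorem card_le_commutator_mul_centralizer [Finite Q] (x : Q) :
    Nat.card Q ≤ Nat.card (commutator Q) * Nat.card (Subgroup.centralizer ({x} : Set Q)) := by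
  classical
  set C := Subgroup.centralizer ({x} : Set Q) with hC
  have hmemC : ∀ g : Q, g ∈ C ↔ x * g = g * x := by
    intro g
    rw [hC, Subgroup.mem_centralizer_iff]
    constructor
    · intro h; exact h x rfl
    · intro h y hy
      rw [Set.mem_singleton_iff] at hy
      rw [hy]; exact h
  let f : Q ⧸ C → commutator Q := fun q =>
    Quotient.liftOn' q (fun y => (⟨⁅y, x⁆, comm_mem_commutator y x⟩ : commutator Q))
      (by
        intro y z hyz
        rw [QuotientGroup.leftRel_apply] at hyz
        have h1 : x * (y⁻¹ * z) = (y⁻¹ * z) * x := (hmemC _).mp hyz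
        apply Subtype.ext
        show ⁅y, x⁆ = ⁅z, x⁆
        rw [commutatorElement_def, commutatorElement_def]
        have h2 : z = y * (y⁻¹ * z) := by group
        have h3 : z * x * z⁻¹ = y * x * y⁻¹ := by
          have : z * x = y * x * (y⁻¹ * z) := by
            rw [mul_assoc y x, h1]; group
          rw [this]; group
        rw [h3])
  have hf : Function.Injective f := by
    intro q r
    refine Quotient.inductionOn₂' q r (fun y z h => ?_)
    have h1 : ⁅y, x⁆ = ⁅z, x⁆ := congrArg Subtype.val h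
    rw [commutatorElement_def, commutatorElement_def] at h1
    have h2 : y * x * y⁻¹ = z * x * z⁻¹ := by
      have := congrArg (· * x) h1
      simpa using this
    apply Quotient.sound'
    rw [QuotientGroup.leftRel_apply, hmemC]
    calc x * (y⁻¹ * z) = y⁻¹ * (y * x * y⁻¹) * z := by group
      _ = y⁻¹ * (z * x * z⁻¹) * z := by rw [h2]
      _ = y⁻¹ * z * x := by group
  have h1 : Nat.card (Q ⧸ C) ≤ Nat.card (commutator Q) := Nat.card_le_card_of_injective f hf
  have h2 : Nat.card C * C.index = Nat.card Q := Subgroup.card_mul_index C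
  rw [← h2, mul_comm]
  exact Nat.mul_le_mul_right _ (by rw [Subgroup.index_eq_card]; exact h1)

end Basic

section PGroup

variable {Q : Type*} [Group Q] [Finite Q] {p : ℕ} [hp : Fact p.Prime]

/-- a finite `p`-group with `|Q : Q'| ≤ p` has order at most `p` -/
theorem card_le_of_index_commutator_le (hQ : IsPGroup p Q) (h : (commutator Q).index ≤ p) :
    Nat.card Q ≤ p := by
  obtain ⟨k, hk⟩ := hQ.index (commutator Q)
  have hk1 : k ≤ 1 := by
    by_contra hcon
    push Not at hcon
    have : p ^ 2 ≤ p ^ k := Nat.pow_le_pow_right hp.out.pos hcon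
    rw [← hk] at this
    have h2 : p ^ 2 ≤ p := this.trans h
    have : p * p ≤ p * 1 := by rw [← pow_two, mul_one]; exact h2
    have := Nat.le_of_mul_le_mul_left this hp.out.pos
    exact absurd hp.out.one_lt (not_lt_of_ge this)
  interval_cases k
  · -- commutator = ⊤, so `Q` is trivial
    rw [pow_zero, Subgroup.index_eq_one] at hk
    have hnil : Group.IsNilpotent Q := hQ.isNilpotent
    have hsub : Subsingleton Q := by
      by_contra hns
      rw [not_subsingleton_iff_nontrivial] at hns
      have := Group.IsSolvable.commutator_lt_top_of_nontrivial Q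
      rw [hk] at this
      exact lt_irrefl _ this
    rw [Nat.card_of_subsingleton (1 : Q)]
    exact hp.out.one_lt.le
  · rw [pow_one] at hk
    have hbot := Cfsg.Agent.Lib.Helper54_ClassOrder.commutator_eq_bot_of_index hQ hk
    rw [hbot, Subgroup.index_bot] at hk
    exact hk.le

omit [Finite Q] in
/-- if `Q = D ⟨c⟩` with `D` normal then `Q' ≤ D` -/
theorem commutator_le_of_sup_zpowers_eq_top (D : Subgroup Q) [hDn : D.Normal] (c : Q)
    (h : D ⊔ Subgroup.zpowers c = ⊤) : commutator Q ≤ D := by
  have hpow : ∀ a : Q, ∃ i : ℤ, (a : Q ⧸ D) = ((c ^ i : Q) : Q ⧸ D) := by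
    intro a
    have ha : a ∈ ((D ⊔ Subgroup.zpowers c : Subgroup Q) : Set Q) := by
      rw [h]; exact Subgroup.mem_top a
    rw [Subgroup.normal_mul] at ha
    obtain ⟨d, hd, z, hz, rfl⟩ := ha
    obtain ⟨i, rfl⟩ := hz
    refine ⟨i, ?_⟩
    rw [QuotientGroup.mk_mul, (QuotientGroup.eq_one_iff d).mpr hd, one_mul]
  rw [commutator_def, Subgroup.commutator_le]
  intro a _ b _
  rw [← QuotientGroup.eq_one_iff]
  obtain ⟨i, hi⟩ := hpow a
  obtain ⟨j, hj⟩ := hpow b
  rw [commutatorElement_def]
  simp only [QuotientGroup.mk_mul, QuotientGroup.mk_inv]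
  rw [hi, hj]
  rw [← QuotientGroup.mk_mul, ← QuotientGroup.mk_inv, ← QuotientGroup.mk_mul,
    ← QuotientGroup.mk_inv, ← QuotientGroup.mk_mul]
  have : c ^ i * c ^ j * (c ^ i)⁻¹ * (c ^ j)⁻¹ = 1 := by
    rw [← zpow_add, ← zpow_neg, ← zpow_add, ← zpow_neg, ← zpow_add]
    have : i + j + -i + -j = 0 := by ring
    rw [this, zpow_zero]
  rw [this]
  rfl

/-- the nongenerating property of `Q'` in a `p`-group -/
theorem eq_top_of_sup_commutator_eq_top (hQ : IsPGroup p Q) (H : Subgroup Q)
    (h : H ⊔ commutator Q = ⊤) : H = ⊤ := by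
  apply frattini_nongenerating
  rw [eq_top_iff, ← h]
  exact sup_le_sup_left (Cfsg.Agent.Lib.Helper1_Frattini.commutator_le_frattini_of_isPGroup hQ) H

/-- a subgroup of index `p` together with any element outside it generates -/
theorem sup_zpowers_eq_top_of_index (hQ : IsPGroup p Q) (D : Subgroup Q) (hD : D.index = p)
    (b : Q) (hb : b ∉ D) : D ⊔ Subgroup.zpowers b = ⊤ := by
  have hlt : D < D ⊔ Subgroup.zpowers b := by
    refine lt_of_le_of_ne le_sup_left ?_
    intro h
    apply hb
    rw [h]
    exact Subgroup.mem_sup_right (Subgroup.mem_zpowers b)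
  have h1 := Cfsg.Agent.Lib.Helper54_ClassOrder.index_le_of_lt hQ hlt
  rw [hD] at h1
  have h2 : (D ⊔ Subgroup.zpowers b).index ≤ 1 := by
    have : p * (D ⊔ Subgroup.zpowers b).index ≤ p * 1 := by rw [mul_one]; exact h1
    exact Nat.le_of_mul_le_mul_left this hp.out.pos
  have h3 : (D ⊔ Subgroup.zpowers b).index ≠ 0 := Subgroup.index_ne_zero_of_finite
  rw [← Subgroup.index_eq_one]
  omega

/-- **Key lemma**: if `|Q : Q'| = p ^ 2`, a normal subgroup not contained in `Q'` contains `Q'`. -/
theorem commutator_le_of_not_le (hQ : IsPGroup p Q) (hidx : (commutator Q).index = p ^ 2)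
    (D : Subgroup Q) [hDn : D.Normal] (hD : ¬ D ≤ commutator Q) : commutator Q ≤ D := by
  set M := D ⊔ commutator Q with hM
  have hlt : commutator Q < M := by
    refine lt_of_le_of_ne le_sup_right ?_
    intro h
    apply hD
    rw [h]
    exact le_sup_left
  have h1 := Cfsg.Agent.Lib.Helper54_ClassOrder.index_le_of_lt hQ hlt
  rw [hidx, pow_two] at h1
  have h2 : M.index ≤ p := Nat.le_of_mul_le_mul_left h1 hp.out.pos
  by_cases hMtop : M = ⊤
  · have : D = ⊤ := eq_top_of_sup_commutator_eq_top hQ D hMtop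
    rw [this]; exact le_top
  · obtain ⟨k, hk⟩ := hQ.index M
    have hMidx : M.index = p := by
      have hk0 : k ≠ 0 := by
        rintro rfl
        rw [pow_zero, Subgroup.index_eq_one] at hk
        exact hMtop hk
      have hk1 : k ≤ 1 := by
        by_contra hcon
        push Not at hcon
        have : p ^ 2 ≤ p ^ k := Nat.pow_le_pow_right hp.out.pos hcon
        rw [← hk] at this
        have h3 : p * p ≤ p * 1 := by rw [← pow_two, mul_one]; exact this.trans h2
        have := Nat.le_of_mul_le_mul_left h3 hp.out.pos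
        exact absurd hp.out.one_lt (not_lt_of_ge this)
      have : k = 1 := by omega
      rw [this, pow_one] at hk
      exact hk
    obtain ⟨c, hc⟩ : ∃ c : Q, c ∉ M := by
      by_contra hall
      push Not at hall
      exact hMtop (eq_top_iff.mpr (fun x _ => hall x))
    have h3 := sup_zpowers_eq_top_of_index hQ M hMidx c hc
    have h4 : (D ⊔ Subgroup.zpowers c) ⊔ commutator Q = ⊤ := by
      rw [← h3, hM]
      ac_rfl
    have h5 := eq_top_of_sup_commutator_eq_top hQ _ h4
    exact commutator_le_of_sup_zpowers_eq_top D c h5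

/-- in the situation of the key lemma, a proper such `D` has index `p` -/
theorem index_eq_of_not_le (hQ : IsPGroup p Q) (hidx : (commutator Q).index = p ^ 2)
    (D : Subgroup Q) [hDn : D.Normal] (hD : ¬ D ≤ commutator Q) (hne : D ≠ ⊤) : D.index = p := by
  have hle := commutator_le_of_not_le hQ hidx D hD
  have hlt : commutator Q < D := lt_of_le_of_ne hle (fun h => hD (h ▸ le_refl _))
  have h1 := Cfsg.Agent.Lib.Helper54_ClassOrder.index_le_of_lt hQ hlt
  rw [hidx, pow_two] at h1
  have h2 : D.index ≤ p := Nat.le_of_mul_le_mul_left h1 hp.out.pos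
  obtain ⟨k, hk⟩ := hQ.index D
  have hk0 : k ≠ 0 := by
    rintro rfl
    rw [pow_zero, Subgroup.index_eq_one] at hk
    exact hne hk
  have hk1 : k ≤ 1 := by
    by_contra hcon
    push Not at hcon
    have : p ^ 2 ≤ p ^ k := Nat.pow_le_pow_right hp.out.pos hcon
    rw [← hk] at this
    have h3 : p * p ≤ p * 1 := by rw [← pow_two, mul_one]; exact this.trans h2
    have := Nat.le_of_mul_le_mul_left h3 hp.out.pos
    exact absurd hp.out.one_lt (not_lt_of_ge this)
  have : k = 1 := by omega
  rw [this, pow_one] at hk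
  exact hk

end PGroup

section Transfer

variable {Q : Type*} [Group Q] [Finite Q]

open Cfsg.Agent.Lib.Helper54_NormalTransfer

/-- the transfer into a normal subgroup `D` agrees with `ψ` at an element all of whose conjugates
by elements outside `D` are killed by `ψ` -/
theorem transfer_eq_self (D : Subgroup Q) [hDn : D.Normal] {B : Type*} [CommGroup B]
    (ψ : D →* B) (x : D)
    (hx : ∀ g : Q, g ∉ D → ψ ⟨g⁻¹ * x * g, conj_inv_mem x.2 g⟩ = 1) :
    MonoidHom.transfer ψ (x : Q) = ψ x := by
  classical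
  let _ : Fintype (Q ⧸ D) := Fintype.ofFinite _
  rw [transfer_eq_prod_Fc ψ D le_rfl x]
  rw [Finset.prod_eq_single (1 : Q ⧸ D)]
  · have h1 : ((1 : Q ⧸ D).out : Q) ∈ D := by
      have : (((1 : Q ⧸ D).out : Q) : Q ⧸ D) = 1 := QuotientGroup.out_eq' _
      exact (QuotientGroup.eq_one_iff _).mp this
    have gen : ∀ (k : Q) (_ : k ∈ D) (h : k⁻¹ * x * k ∈ D), ψ ⟨k⁻¹ * x * k, h⟩ = ψ x := by
      intro k hk h
      have e : (⟨k⁻¹ * x * k, h⟩ : D) = (⟨k, hk⟩ : D)⁻¹ * x * ⟨k, hk⟩ := by
        apply Subtype.ext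
        simp
      rw [e, map_mul, map_mul, map_inv, mul_comm, mul_inv_cancel_left]
    unfold Fc
    exact gen _ h1 _
  · intro q _ hq
    unfold Fc
    apply hx
    intro hmem
    apply hq
    rw [← QuotientGroup.out_eq' q]
    exact (QuotientGroup.eq_one_iff _).mpr hmem
  · intro h
    exact absurd (Finset.mem_univ _) h

/-- if `ψ` on `D` is already surjective on a set of elements as in `transfer_eq_self`, its range
has order at most `|D : Q' ∩ D|` -/
theorem card_range_le (D : Subgroup Q) [hDn : D.Normal] {B : Type*} [CommGroup B]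
    (ψ : D →* B) (S : Set D)
    (hS : ∀ x ∈ S, ∀ g : Q, g ∉ D → ψ ⟨g⁻¹ * x * g, conj_inv_mem x.2 g⟩ = 1)
    (hsurj : ∀ y : D, ∃ x ∈ S, ψ x = ψ y) :
    Nat.card ψ.range ≤ (commutator Q).relIndex D := by
  set V : Q →* B := MonoidHom.transfer ψ with hV
  have h1 : ψ.range ≤ D.map V := by
    rintro _ ⟨y, rfl⟩
    obtain ⟨x, hxS, hxy⟩ := hsurj y
    refine ⟨(x : Q), x.2, ?_⟩
    rw [hV, transfer_eq_self D ψ x (hS x hxS), hxy]
  have : Finite ↥(D.map V) :=
    Finite.of_surjective (fun d : D => (⟨V d, Subgroup.mem_map_of_mem V d.2⟩ : D.map V))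
      (by rintro ⟨_, ⟨y, hy, rfl⟩⟩; exact ⟨⟨y, hy⟩, rfl⟩)
  have h2 : Nat.card ψ.range ≤ Nat.card (D.map V) := Subgroup.card_le_of_le h1
  have h3 : V.ker.relIndex D = Nat.card (D.map V) := Subgroup.relIndex_ker D V
  have h4 : commutator Q ≤ V.ker := Abelianization.commutator_subset_ker V
  have h5 : V.ker.relIndex D ≤ (commutator Q).relIndex D := by
    apply Subgroup.relIndex_le_of_le_left h4
    unfold Subgroup.relIndex
    exact Subgroup.index_ne_zero_of_finite
  omega

end Transfer

section AbelianSup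

variable {Q : Type*} [Group Q]

/-- if `Q = D ⟨b⟩`, and modulo the normal subgroup `I` the subgroup `D` is abelian and commutes
with `b`, then `Q' ≤ I` -/
theorem commutator_le_of_abelian_sup (D I : Subgroup Q) [hIn : I.Normal] (b : Q)
    (hD : ∀ a ∈ D, ∀ c ∈ D, ⁅a, c⁆ ∈ I) (hb : ∀ a ∈ D, ⁅a, b⁆ ∈ I)
    (htop : D ⊔ Subgroup.zpowers b = ⊤) : commutator Q ≤ I := by
  set mk := QuotientGroup.mk' I with hmk
  set S : Set (Q ⧸ I) := (mk '' (D : Set Q)) ∪ {mk b} with hS
  have hcomm_of : ∀ a c : Q, ⁅a, c⁆ ∈ I → mk a * mk c = mk c * mk a := by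
    intro a c h
    have h1 : mk ⁅a, c⁆ = 1 := (QuotientGroup.eq_one_iff _).mpr h
    rw [map_commutatorElement, commutatorElement_eq_one_iff_mul_comm] at h1
    exact h1
  have hScomm : ∀ s ∈ S, ∀ t ∈ S, t * s = s * t := by
    rintro s (⟨a, ha, rfl⟩ | hs) t (⟨c, hc, rfl⟩ | ht)
    · exact hcomm_of c a (hD c hc a ha)
    · rw [Set.mem_singleton_iff] at ht
      rw [ht]
      exact (hcomm_of a b (hb a ha)).symm
    · rw [Set.mem_singleton_iff] at hs
      rw [hs]
      exact hcomm_of c b (hb c hc)
    · rw [Set.mem_singleton_iff] at hs ht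
      rw [hs, ht]
  have hclos : Subgroup.closure S = ⊤ := by
    rw [eq_top_iff]
    have h1 : (⊤ : Subgroup (Q ⧸ I)) = (D ⊔ Subgroup.zpowers b).map mk := by
      rw [htop, ← MonoidHom.range_eq_map]
      exact (MonoidHom.range_eq_top.mpr (QuotientGroup.mk'_surjective I)).symm
    rw [h1, Subgroup.map_sup, MonoidHom.map_zpowers]
    apply sup_le
    · rintro _ ⟨a, ha, rfl⟩
      exact Subgroup.subset_closure (Or.inl ⟨a, ha, rfl⟩)
    · rw [Subgroup.zpowers_le]
      exact Subgroup.subset_closure (Or.inr rfl)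
  have hcenter : ∀ s ∈ S, s ∈ Subgroup.center (Q ⧸ I) := by
    intro s hs
    have h1 : s ∈ Subgroup.centralizer ((Subgroup.closure S : Subgroup (Q ⧸ I)) : Set (Q ⧸ I)) := by
      rw [Subgroup.centralizer_closure, Subgroup.mem_centralizer_iff]
      intro t ht
      exact hScomm s hs t ht
    rw [hclos, Subgroup.coe_top, Subgroup.centralizer_univ] at h1
    exact h1
  have hall : ∀ u v : Q ⧸ I, u * v = v * u := by
    intro u v
    have hu : u ∈ Subgroup.center (Q ⧸ I) := by
      have : Subgroup.closure S ≤ Subgroup.center (Q ⧸ I) := (Subgroup.closure_le _).mpr hcenter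
      exact this (hclos ▸ Subgroup.mem_top u)
    exact ((Subgroup.mem_center_iff.mp hu) v).symm
  rw [commutator_def, Subgroup.commutator_le]
  intro a _ c _
  rw [← QuotientGroup.eq_one_iff]
  show mk ⁅a, c⁆ = 1
  rw [map_commutatorElement, commutatorElement_eq_one_iff_mul_comm]
  exact hall _ _

end AbelianSup

end Cfsg.Agent.Lib.Helper54_PSqGroup
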