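import Mathlib
import Cfsg.Prelude.Def_Transfer
import Cfsg.Prelude.Def_Solvable
import Cfsg.Agent.Lib.Helper2_PResidual
import Cfsg.Agent.Lib.Helper32_Sylow
import Cfsg.Agent.Lib.Helper22_Cores
import Cfsg.Agent.Lib.Helper54_Tate
import Cfsg.Agent.Lib.Helper54_PSqGroup

/-!
# A consequence of Tate's theorem (helper54)

If a Sylow `p`-subgroup `P` normalizes `E`, `P ∩ E ≤ P'`, and `E` has no nontrivial `p'`-subgroup
normalized by `E`, then `E ≤ P`.  Consequently, when `|P : P'| = p ^ 2` and `O_{p'}(G) = 1`, every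
nontrivial `P`-invariant subnormal subgroup not inside `P'` contains `P'`.
-/

set_option autoImplicit false
open Cfsg

namespace Cfsg.Agent.Lib.Helper54_PSqTate

open Cfsg.Agent.Lib.Helper2_PResidual Cfsg.Agent.Lib.Helper54_PSqGroup

theorem pResidual_eq_bot_of_isPGroup {H : Type*} [Group H] {p : ℕ}
    (hH : IsPGroup p H) : pResidual p H = ⊥ := by
  unfold pResidual
  rw [Subgroup.closure_eq_bot_iff]
  intro g hg
  have hg' : Nat.Coprime (orderOf g) p := hg
  obtain ⟨k, hk⟩ := hH g
  have h1 : orderOf g ∣ p ^ k := orderOf_dvd_of_pow_eq_one hk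
  have h2 : orderOf g = 1 := Nat.Coprime.eq_one_of_dvd (hg'.pow_right k) h1
  exact orderOf_eq_one_iff.mp h2

theorem commutator_subgroupOf_self {G : Type*} [Group G] (P : Subgroup G) :
    (⁅P, P⁆).subgroupOf P = commutator P := by
  rw [← Subgroup.map_subtype_commutator P]
  exact Subgroup.comap_map_eq_self_of_injective P.subtype_injective _

theorem commutator_self_le {G : Type*} [Group G] (P : Subgroup G) : ⁅P, P⁆ ≤ P := by
  rw [Subgroup.commutator_le]
  intro a ha b hb
  rw [commutatorElement_def]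
  exact P.mul_mem (P.mul_mem (P.mul_mem ha hb) (P.inv_mem ha)) (P.inv_mem hb)

variable {G : Type*} [Group G] [Finite G] {p : ℕ} [hp : Fact p.Prime]

/-- **Tate consequence**: a subgroup `E` normalized by the Sylow subgroup `P`, with
`P ∩ E ≤ P'` and without nontrivial `E`-invariant `p'`-subgroups, lies in `P`. -/
theorem le_sylow_of_inf_le_commutator (P : Sylow p G) (E : Subgroup G)
    (hPE : (P : Subgroup G) ≤ Subgroup.normalizer (E : Set G))
    (hE : ∀ R : Subgroup G, R ≤ E → E ≤ Subgroup.normalizer (R : Set G) →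
      (Nat.card R).Coprime p → R = ⊥)
    (h : (P : Subgroup G) ⊓ E ≤ ⁅(P : Subgroup G), (P : Subgroup G)⁆) :
    E ≤ (P : Subgroup G) := by
  set K : Subgroup G := E ⊔ (P : Subgroup G) with hK
  have hEK : E ≤ K := le_sup_left
  have hPK : (P : Subgroup G) ≤ K := le_sup_right
  have hKE : K ≤ Subgroup.normalizer (E : Set G) := sup_le Subgroup.le_normalizer hPE
  have hEn : (E.subgroupOf K).Normal :=
    (Subgroup.normal_subgroupOf_iff_le_normalizer hEK).mpr hKE
  set PK : Sylow p K := P.subtype hPK with hPKdef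
  have hPKcoe : (PK : Subgroup K) = (P : Subgroup G).subgroupOf K := Sylow.coe_subtype P hPK
  have htop : E.subgroupOf K ⊔ (P : Subgroup G).subgroupOf K = ⊤ := by
    rw [← Subgroup.subgroupOf_sup hEK hPK, ← hK, Subgroup.subgroupOf_self]
  -- the quotient by `E` is a `p`-group
  have hquot : IsPGroup p (K ⧸ E.subgroupOf K) := by
    intro q
    obtain ⟨k, rfl⟩ := QuotientGroup.mk_surjective q
    have hk : k ∈ ((E.subgroupOf K ⊔ (P : Subgroup G).subgroupOf K : Subgroup K) : Set K) := by
      rw [htop]; exact Subgroup.mem_top k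
    rw [Subgroup.normal_mul] at hk
    obtain ⟨e, he, x, hx, rfl⟩ := hk
    have hxp : IsPGroup p ((P : Subgroup G).subgroupOf K) := P.isPGroup'.comap_subtype
    obtain ⟨n, hn⟩ := hxp ⟨x, hx⟩
    refine ⟨n, ?_⟩
    rw [QuotientGroup.mk_mul, (QuotientGroup.eq_one_iff e).mpr he, one_mul, ← QuotientGroup.mk_pow]
    have : x ^ p ^ n = 1 := by
      have := congrArg Subtype.val hn
      simpa using this
    rw [this]
    rfl
  set R : Subgroup K := pResidual p K with hR
  have hRn : R.Normal := pResidual_normal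
  have hRE : R ≤ E.subgroupOf K := pResidual_le_of_isPGroup_quotient _ hquot
  -- Tate
  have hcomm : (⁅(P : Subgroup G), (P : Subgroup G)⁆).subgroupOf K =
      ⁅(P : Subgroup G).subgroupOf K, (P : Subgroup G).subgroupOf K⁆ := by
    have h1 : ((P : Subgroup G).subgroupOf K).map K.subtype = (P : Subgroup G) := by
      rw [Subgroup.subgroupOf_map_subtype]
      exact inf_eq_left.mpr hPK
    have h2 : (⁅(P : Subgroup G).subgroupOf K, (P : Subgroup G).subgroupOf K⁆).map K.subtype =
        ⁅(P : Subgroup G), (P : Subgroup G)⁆ := by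
      rw [Subgroup.map_commutator, h1]
    rw [← h2]
    exact Subgroup.comap_map_eq_self_of_injective K.subtype_injective _
  have hVidx : ¬ p ∣ ((P : Subgroup G).subgroupOf K).index := by
    rw [← hPKcoe]; exact PK.not_dvd_index
  have htate := Cfsg.Agent.Lib.Helper54_Tate.tate (G := K) (p := p)
    ((P : Subgroup G).subgroupOf K) hVidx (by
      intro x hx
      apply Subgroup.mem_sup_left
      rw [← hcomm, Subgroup.mem_subgroupOf]
      apply h
      refine ⟨Subgroup.mem_subgroupOf.mp hx.1, ?_⟩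
      exact Subgroup.mem_subgroupOf.mp (hRE hx.2))
  have hPKp : IsPGroup p ((P : Subgroup G).subgroupOf K) := P.isPGroup'.comap_subtype
  rw [pResidual_eq_bot_of_isPGroup hPKp, Subgroup.map_bot, le_bot_iff] at htate
  -- so `R` is a `p'`-group
  have hRcop : (Nat.card R).Coprime p := by
    have h1 := Cfsg.Agent.Lib.Helper32_Sylow.not_dvd_relIndex_inf_normal PK R
    have htate' : (P : Subgroup G).subgroupOf K ⊓ R = ⊥ := htate
    rw [hPKcoe, htate', Subgroup.relIndex_bot_left] at h1
    exact ((Nat.Prime.coprime_iff_not_dvd hp.out).mpr h1).symm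
  -- push `R` to `G`
  have hRG : R.map K.subtype = ⊥ := by
    apply hE
    · rintro _ ⟨r, hr, rfl⟩
      exact Subgroup.mem_subgroupOf.mp (hRE hr)
    · have h1 : K ≤ Subgroup.normalizer ((R.map K.subtype : Subgroup G) : Set G) := by
        have h2 := Subgroup.le_normalizer_map (H := R) K.subtype
        rw [Subgroup.normalizer_eq_top] at h2
        have h3 : (⊤ : Subgroup K).map K.subtype = K := by
          rw [← MonoidHom.range_eq_map, Subgroup.range_subtype]
        rw [h3] at h2
        exact h2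
      exact hEK.trans h1
    · rw [Subgroup.card_map_of_injective K.subtype_injective]
      exact hRcop
  have hRbot : R = ⊥ := (Subgroup.map_eq_bot_iff_of_injective R K.subtype_injective).mp hRG
  have hKp : IsPGroup p K := by
    intro k
    obtain ⟨n, hn⟩ := (isPGroup_quotient_pResidual (p := p) (G := K)) (k : K ⧸ pResidual p K)
    refine ⟨n, ?_⟩
    rw [← QuotientGroup.mk_pow, QuotientGroup.eq_one_iff, ← hR, hRbot, Subgroup.mem_bot] at hn
    exact hn
  have hKP : K = (P : Subgroup G) := P.is_maximal' hKp hPK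
  rw [← hKP]
  exact hEK

/-- G-level key lemma: a `P`-invariant subgroup of `P` not inside `P'` contains `P'`, when
`|P : P'| = p ^ 2` -/
theorem commutator_le_of_not_le' (P : Subgroup G) (hP : IsPGroup p P)
    (hidx : (⁅P, P⁆).relIndex P = p ^ 2) (D : Subgroup G) (hDP : D ≤ P)
    (hPD : P ≤ Subgroup.normalizer (D : Set G)) (hD : ¬ D ≤ ⁅P, P⁆) : ⁅P, P⁆ ≤ D := by
  have : (D.subgroupOf P).Normal := (Subgroup.normal_subgroupOf_iff_le_normalizer hDP).mpr hPD
  have hidx' : (commutator P).index = p ^ 2 := by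
    rw [← commutator_subgroupOf_self]; exact hidx
  have h1 : ¬ D.subgroupOf P ≤ commutator P := by
    intro hle
    apply hD
    intro d hd
    have : (⟨d, hDP hd⟩ : P) ∈ commutator P := hle (Subgroup.mem_subgroupOf.mpr hd)
    rw [← commutator_subgroupOf_self, Subgroup.mem_subgroupOf] at this
    exact this
  have h2 := commutator_le_of_not_le hP hidx' (D.subgroupOf P) h1
  intro x hx
  have hxP : x ∈ P := commutator_self_le P hx
  have : (⟨x, hxP⟩ : P) ∈ commutator P := by
    rw [← commutator_subgroupOf_self, Subgroup.mem_subgroupOf]; exact hx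
  exact Subgroup.mem_subgroupOf.mp (h2 this)

/-- a `P`-invariant subnormal subgroup not inside `P'` is not met by `P` inside `P'` -/
theorem not_inf_le_commutator (P : Sylow p G) (hcore : pPrimeCore p G = ⊥)
    (E : Subgroup G) (hEsub : E.IsSubnormal)
    (hPE : (P : Subgroup G) ≤ Subgroup.normalizer (E : Set G))
    (hEP' : ¬ E ≤ ⁅(P : Subgroup G), (P : Subgroup G)⁆) :
    ¬ ((P : Subgroup G) ⊓ E ≤ ⁅(P : Subgroup G), (P : Subgroup G)⁆) := by
  intro hle
  have hEP : E ≤ (P : Subgroup G) := by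
    apply le_sylow_of_inf_le_commutator P E hPE _ hle
    intro R hRE hER hcop
    have := Cfsg.Agent.Lib.Helper22_Cores.le_pPrimeCore_of_le_isSubnormal p hEsub hRE hER hcop
    rw [hcore] at this
    exact le_bot_iff.mp this
  apply hEP'
  intro e he
  exact hle ⟨hEP he, he⟩

omit [Finite G] in
theorem le_normalizer_inf_self (P E : Subgroup G)
    (hPE : P ≤ Subgroup.normalizer (E : Set G)) :
    P ≤ Subgroup.normalizer ((P ⊓ E : Subgroup G) : Set G) := by
  intro g hg
  have hgE := hPE hg
  rw [Subgroup.mem_normalizer_iff] at hgE ⊢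
  intro x
  constructor
  · rintro ⟨hxP, hxE⟩
    exact ⟨P.mul_mem (P.mul_mem hg hxP) (P.inv_mem hg), (hgE x).mp hxE⟩
  · rintro ⟨hxP, hxE⟩
    refine ⟨?_, (hgE x).mpr hxE⟩
    have : x = g⁻¹ * (g * x * g⁻¹) * g := by group
    rw [this]
    exact P.mul_mem (P.mul_mem (P.inv_mem hg) hxP) hg

/-- every `P`-invariant subnormal subgroup not inside `P'` contains `P'` -/
theorem commutator_le_of_subnormal (P : Sylow p G) (hcore : pPrimeCore p G = ⊥)
    (hidx : (⁅(P : Subgroup G), (P : Subgroup G)⁆).relIndex (P : Subgroup G) = p ^ 2)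
    (E : Subgroup G) (hEsub : E.IsSubnormal)
    (hPE : (P : Subgroup G) ≤ Subgroup.normalizer (E : Set G))
    (hEP' : ¬ E ≤ ⁅(P : Subgroup G), (P : Subgroup G)⁆) :
    ⁅(P : Subgroup G), (P : Subgroup G)⁆ ≤ E := by
  have h1 := not_inf_le_commutator P hcore E hEsub hPE hEP'
  exact (commutator_le_of_not_le' (P : Subgroup G) P.isPGroup' hidx _ inf_le_left
    (le_normalizer_inf_self _ _ hPE) h1).trans inf_le_right

/-- if `N ⊴ G` meets `P` outside `P'` and does not contain `P`, then `|P : P ∩ N| = p` -/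
theorem relIndex_eq_of_not_le (P : Subgroup G) (hP : IsPGroup p P)
    (hidx : (⁅P, P⁆).relIndex P = p ^ 2) (N : Subgroup G) [hN : N.Normal]
    (hD : ¬ P ⊓ N ≤ ⁅P, P⁆) (hne : ¬ P ≤ N) : N.relIndex P = p := by
  have hidx' : (commutator P).index = p ^ 2 := by
    rw [← commutator_subgroupOf_self]; exact hidx
  have h1 : ¬ N.subgroupOf P ≤ commutator P := by
    intro hle
    apply hD
    rintro x ⟨hxP, hxN⟩
    have : (⟨x, hxP⟩ : P) ∈ commutator P := hle (Subgroup.mem_subgroupOf.mpr hxN)
    rw [← commutator_subgroupOf_self, Subgroup.mem_subgroupOf] at this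
    exact this
  have h2 : N.subgroupOf P ≠ ⊤ := by
    rw [Ne, Subgroup.subgroupOf_eq_top]
    exact hne
  exact index_eq_of_not_le hP hidx' (N.subgroupOf P) h1 h2

/-- if `|P : P ∩ N| = p` then `P = (P ∩ N) ⟨b⟩` for every `b ∈ P ∖ N` -/
theorem le_sup_zpowers_of_relIndex (P : Subgroup G) (hP : IsPGroup p P) (N : Subgroup G)
    (hidxN : N.relIndex P = p) (b : G) (hbP : b ∈ P) (hbN : b ∉ N) :
    P ≤ (P ⊓ N) ⊔ Subgroup.zpowers b := by
  have h1 := sup_zpowers_eq_top_of_index hP (N.subgroupOf P) hidxN ⟨b, hbP⟩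
    (fun h => hbN (Subgroup.mem_subgroupOf.mp h))
  intro y hy
  have h2 : (⟨y, hy⟩ : P) ∈ N.subgroupOf P ⊔ Subgroup.zpowers (⟨b, hbP⟩ : P) := by
    rw [h1]; exact Subgroup.mem_top _
  have h3 : (N.subgroupOf P ⊔ Subgroup.zpowers (⟨b, hbP⟩ : P)).map P.subtype =
      (P ⊓ N) ⊔ Subgroup.zpowers b := by
    rw [Subgroup.map_sup, MonoidHom.map_zpowers, Subgroup.subgroupOf_map_subtype, inf_comm]
    rfl
  rw [← h3]
  exact ⟨⟨y, hy⟩, h2, rfl⟩

end Cfsg.Agent.Lib.Helper54_PSqTate
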