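import Mathlib
import Cfsg.Agent.Lib.Helper32_Sylow
import Cfsg.Agent.Lib.Helper54_PSqGroup
import Cfsg.Agent.Lib.Helper54_PSqTate

/-!
# Bounds on `|C_D(b)|` (helper54)

* `card_centralizer_le_of_abelian`: `P = D ⟨b⟩` with `D` abelian normal gives
  `|C_D(b)| ≤ |D : P'|`.
* `relIndex_le_of_wreath`: the wreath-type situation, via transfer.
-/

set_option autoImplicit false

namespace Cfsg.Agent.Lib.Helper54_PSqBound

open Cfsg.Agent.Lib.Helper54_PSqGroup Cfsg.Agent.Lib.Helper54_PSqTate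
open scoped commutatorElement

variable {G : Type*} [Group G] [Finite G]

omit [Finite G] in
/-- `P ≤ D ⟨b⟩` lifted to the group `P` -/
theorem sup_zpowers_eq_top_of_le (P D : Subgroup G) (hDP : D ≤ P) (b : G) (hbP : b ∈ P)
    (htop : P ≤ D ⊔ Subgroup.zpowers b) :
    D.subgroupOf P ⊔ Subgroup.zpowers (⟨b, hbP⟩ : P) = ⊤ := by
  rw [eq_top_iff]
  intro y _
  have h1 : (D.subgroupOf P ⊔ Subgroup.zpowers (⟨b, hbP⟩ : P)).map P.subtype =
      D ⊔ Subgroup.zpowers b := by
    rw [Subgroup.map_sup, MonoidHom.map_zpowers, Subgroup.subgroupOf_map_subtype,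
      inf_eq_left.mpr hDP]
    rfl
  have h2 : (y : G) ∈ (D.subgroupOf P ⊔ Subgroup.zpowers (⟨b, hbP⟩ : P)).map P.subtype := by
    rw [h1]; exact htop y.2
  obtain ⟨z, hz, hzy⟩ := h2
  have : z = y := Subtype.ext hzy
  rwa [← this]

/-- **abelian case**: `P = D ⟨b⟩`, `D` abelian and normal in `P`; then `|C_D(b)| ≤ |D : P'|` -/
theorem card_centralizer_le_of_abelian (P D : Subgroup G) (hDP : D ≤ P)
    (hPD : P ≤ Subgroup.normalizer (D : Set G))
    (hab : ∀ a ∈ D, ∀ c ∈ D, a * c = c * a) (b : G) (hbP : b ∈ P)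
    (htop : P ≤ D ⊔ Subgroup.zpowers b) (hP'D : ⁅P, P⁆ ≤ D) :
    Nat.card (D ⊓ Subgroup.centralizer ({b} : Set G) : Subgroup G) ≤ (⁅P, P⁆).relIndex D := by
  have hbn : ∀ d ∈ D, b * d * b⁻¹ ∈ D := fun d hd =>
    (Subgroup.mem_normalizer_iff.mp (hPD hbP) d).mp hd
  have hbn' : ∀ d ∈ D, b⁻¹ * d * b ∈ D := fun d hd => by
    have := (Subgroup.mem_normalizer_iff.mp (hPD hbP) (b⁻¹ * d * b)).mpr
    apply this
    have e : b * (b⁻¹ * d * b) * b⁻¹ = d := by group
    rw [e]; exact hd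
  have hmem : ∀ d ∈ D, ⁅d, b⁆ ∈ D := by
    intro d hd
    have : ⁅d, b⁆ = d * (b * d⁻¹ * b⁻¹) := by rw [commutatorElement_def]; group
    rw [this]
    exact D.mul_mem hd (hbn _ (D.inv_mem hd))
  -- the commutator endomorphism
  let κ : D →* D :=
    { toFun := fun d => ⟨⁅(d : G), b⁆, hmem d d.2⟩
      map_one' := by
        apply Subtype.ext
        show ⁅((1 : D) : G), b⁆ = 1
        rw [Subgroup.coe_one, commutatorElement_one_left]
      map_mul' := by
        intro d d'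
        apply Subtype.ext
        show ⁅((d * d' : D) : G), b⁆ = ⁅(d : G), b⁆ * ⁅(d' : G), b⁆
        have hu : b * (d : G)⁻¹ * b⁻¹ ∈ D := hbn _ (D.inv_mem d.2)
        have hw : ⁅(d' : G), b⁆ ∈ D := hmem d' d'.2
        have h1 : ⁅((d * d' : D) : G), b⁆ = (d : G) * (⁅(d' : G), b⁆ * (b * (d : G)⁻¹ * b⁻¹)) := by
          rw [Subgroup.coe_mul, commutatorElement_def, commutatorElement_def]; group
        have h2 : ⁅(d : G), b⁆ * ⁅(d' : G), b⁆ =
            (d : G) * ((b * (d : G)⁻¹ * b⁻¹) * ⁅(d' : G), b⁆) := by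
          rw [commutatorElement_def (d : G) b]; group
        rw [h1, h2, hab _ hw _ hu] }
  have hκ : ∀ d : D, ((κ d : D) : G) = ⁅(d : G), b⁆ := fun d => rfl
  -- kernel
  have hker : κ.ker.map D.subtype = D ⊓ Subgroup.centralizer ({b} : Set G) := by
    ext y
    rw [Subgroup.mem_map, Subgroup.mem_inf, Subgroup.mem_centralizer_singleton_iff]
    constructor
    · rintro ⟨d, hd, rfl⟩
      refine ⟨d.2, ?_⟩
      rw [MonoidHom.mem_ker] at hd
      have h1 : ⁅(d : G), b⁆ = 1 := by rw [← hκ, hd]; rfl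
      exact commutatorElement_eq_one_iff_mul_comm.mp h1
    · rintro ⟨hyD, hy⟩
      refine ⟨⟨y, hyD⟩, ?_, rfl⟩
      rw [MonoidHom.mem_ker]
      apply Subtype.ext
      rw [hκ]
      exact commutatorElement_eq_one_iff_mul_comm.mpr hy
  set IG : Subgroup G := κ.range.map D.subtype with hIG
  have hIGD : IG ≤ D := by
    rintro _ ⟨d, _, rfl⟩
    exact d.2
  have hmemIG : ∀ d ∈ D, ⁅d, b⁆ ∈ IG := fun d hd => ⟨κ ⟨d, hd⟩, ⟨⟨d, hd⟩, rfl⟩, rfl⟩
  have hIGform : ∀ y ∈ IG, ∃ d ∈ D, y = ⁅d, b⁆ := by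
    rintro _ ⟨_, ⟨d, rfl⟩, rfl⟩
    exact ⟨d, d.2, rfl⟩
  -- `IG` is normalized by `D` and by `b`
  have hDnorm : D ≤ Subgroup.normalizer (IG : Set G) := by
    intro d hd
    rw [Subgroup.mem_normalizer_iff]
    intro y
    constructor
    · intro hy
      have : d * y * d⁻¹ = y := by
        rw [hab d hd y (hIGD hy)]; group
      rw [this]; exact hy
    · intro hy
      have hyD : y ∈ D := by
        have h1 : d⁻¹ * (d * y * d⁻¹) * d ∈ D :=
          D.mul_mem (D.mul_mem (D.inv_mem hd) (hIGD hy)) hd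
        have e : d⁻¹ * (d * y * d⁻¹) * d = y := by group
        rwa [e] at h1
      have : d * y * d⁻¹ = y := by
        rw [hab d hd y hyD]; group
      rwa [this] at hy
  have hbnorm : b ∈ Subgroup.normalizer (IG : Set G) := by
    rw [Subgroup.mem_normalizer_iff]
    intro y
    constructor
    · intro hy
      obtain ⟨d, hd, rfl⟩ := hIGform y hy
      have : b * ⁅d, b⁆ * b⁻¹ = ⁅b * d * b⁻¹, b⁆ := by
        rw [commutatorElement_def, commutatorElement_def]; group
      rw [this]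
      exact hmemIG _ (hbn d hd)
    · intro hy
      obtain ⟨d, hd, hyd⟩ := hIGform _ hy
      have : y = ⁅b⁻¹ * d * b, b⁆ := by
        have e : y = b⁻¹ * (b * y * b⁻¹) * b := by group
        rw [e, hyd, commutatorElement_def, commutatorElement_def]; group
      rw [this]
      exact hmemIG _ (hbn' d hd)
  have hPnorm : P ≤ Subgroup.normalizer (IG : Set G) :=
    htop.trans (sup_le hDnorm ((Subgroup.zpowers_le (H := Subgroup.normalizer (IG : Set G))).mpr hbnorm))
  have hIGP : IG ≤ P := hIGD.trans hDP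
  have hIn : (IG.subgroupOf P).Normal :=
    (Subgroup.normal_subgroupOf_iff_le_normalizer hIGP).mpr hPnorm
  -- `P' ≤ IG`
  have hcomm : commutator P ≤ IG.subgroupOf P := by
    apply commutator_le_of_abelian_sup (D.subgroupOf P) (IG.subgroupOf P) (⟨b, hbP⟩ : P)
    · intro a ha c hc
      rw [Subgroup.mem_subgroupOf]
      have : ((⁅a, c⁆ : P) : G) = ⁅(a : G), (c : G)⁆ := rfl
      rw [this, commutatorElement_eq_one_iff_mul_comm.mpr
        (hab _ (Subgroup.mem_subgroupOf.mp ha) _ (Subgroup.mem_subgroupOf.mp hc))]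
      exact IG.one_mem
    · intro a ha
      rw [Subgroup.mem_subgroupOf]
      exact hmemIG _ (Subgroup.mem_subgroupOf.mp ha)
    · exact sup_zpowers_eq_top_of_le P D hDP b hbP htop
  have hP'IG : ⁅P, P⁆ ≤ IG := by
    intro x hx
    have hxP : x ∈ P := commutator_self_le P hx
    have : (⟨x, hxP⟩ : P) ∈ commutator P := by
      rw [← commutator_subgroupOf_self, Subgroup.mem_subgroupOf]; exact hx
    exact Subgroup.mem_subgroupOf.mp (hcomm this)
  -- counting
  have hc1 : Nat.card κ.ker * Nat.card κ.range = Nat.card D := by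
    rw [← Subgroup.index_ker κ]
    exact Subgroup.card_mul_index κ.ker
  have hc2 : Nat.card IG = Nat.card κ.range := by
    rw [hIG, Subgroup.card_map_of_injective D.subtype_injective]
  have hc3 : Nat.card (⁅P, P⁆ : Subgroup G) ≤ Nat.card IG := Subgroup.card_le_of_le hP'IG
  have hc4 : Nat.card (⁅P, P⁆ : Subgroup G) * (⁅P, P⁆).relIndex D = Nat.card D :=
    Cfsg.Agent.Lib.Helper32_Sylow.card_mul_relIndex' hP'D
  have hc5 : Nat.card (D ⊓ Subgroup.centralizer ({b} : Set G) : Subgroup G) = Nat.card κ.ker := by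
    rw [← hker, Subgroup.card_map_of_injective D.subtype_injective]
  rw [hc5]
  have hpos : 0 < Nat.card κ.range := Nat.card_pos
  have h6 : Nat.card κ.ker * Nat.card κ.range ≤ (⁅P, P⁆).relIndex D * Nat.card κ.range := by
    rw [hc1, ← hc4, mul_comm]
    exact Nat.mul_le_mul_left _ (hc2 ▸ hc3)
  exact Nat.le_of_mul_le_mul_right h6 hpos

/-- **wreath case**: `D = D₁ C` normal in the `p`-group `P`, `C` normal in `D`, every conjugate of
`D₁` by an element of `P` outside `D` lies in `C`, and `|D : P'| ≤ p`; then `|D : C| ≤ p`. -/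
theorem relIndex_le_of_wreath {p : ℕ} [hp : Fact p.Prime] (P : Subgroup G) (hP : IsPGroup p P)
    (D C D₁ : Subgroup G) (hDP : D ≤ P) (hPD : P ≤ Subgroup.normalizer (D : Set G))
    (hCD : C ≤ D) (hDC : D ≤ Subgroup.normalizer (C : Set G)) (hD₁D : D₁ ≤ D)
    (hdec : ∀ d ∈ D, ∃ x ∈ D₁, ∃ c ∈ C, d = x * c)
    (hconj : ∀ g ∈ P, g ∉ D → ∀ x ∈ D₁, g⁻¹ * x * g ∈ C)
    (hr : (⁅P, P⁆).relIndex D ≤ p) : C.relIndex D ≤ p := by
  have hDn : (D.subgroupOf P).Normal :=
    (Subgroup.normal_subgroupOf_iff_le_normalizer hDP).mpr hPD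
  set DQ : Subgroup P := D.subgroupOf P with hDQ
  set CQ : Subgroup P := C.subgroupOf P with hCQ
  have hCQDQ : CQ ≤ DQ := fun y hy => Subgroup.mem_subgroupOf.mpr (hCD (Subgroup.mem_subgroupOf.mp hy))
  have hDQCQ : DQ ≤ Subgroup.normalizer (CQ : Set P) := by
    intro y hy
    have h1 := hDC (Subgroup.mem_subgroupOf.mp hy)
    rw [Subgroup.mem_normalizer_iff] at h1 ⊢
    intro z
    rw [hCQ, Subgroup.mem_subgroupOf, Subgroup.mem_subgroupOf]
    exact h1 z
  have hCn : (CQ.subgroupOf DQ).Normal :=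
    (Subgroup.normal_subgroupOf_iff_le_normalizer hCQDQ).mpr hDQCQ
  set C' : Subgroup DQ := CQ.subgroupOf DQ with hC'
  have hmemC' : ∀ t : DQ, t ∈ C' ↔ ((t : P) : G) ∈ C := by
    intro t
    rw [hC', Subgroup.mem_subgroupOf, hCQ, Subgroup.mem_subgroupOf]
  let ψ : DQ →* Abelianization (DQ ⧸ C') := Abelianization.of.comp (QuotientGroup.mk' C')
  have hψone : ∀ t : DQ, ((t : P) : G) ∈ C → ψ t = 1 := by
    intro t ht
    show Abelianization.of ((QuotientGroup.mk' C') t) = 1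
    have h0 : (QuotientGroup.mk' C') t = 1 := (QuotientGroup.eq_one_iff t).mpr ((hmemC' t).mpr ht)
    rw [h0, map_one]
  have hψsurj : Function.Surjective ψ := by
    intro y
    obtain ⟨q, rfl⟩ := QuotientGroup.mk'_surjective (commutator (DQ ⧸ C')) y
    obtain ⟨t, rfl⟩ := QuotientGroup.mk'_surjective C' q
    exact ⟨t, rfl⟩
  set S : Set DQ := {t | ((t : P) : G) ∈ D₁} with hS
  have h1 := card_range_le DQ ψ S
    (by
      intro x hx g hg
      apply hψone
      have hgD : (g : G) ∉ D := fun h => hg (Subgroup.mem_subgroupOf.mpr h)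
      exact hconj (g : G) g.2 hgD _ hx)
    (by
      intro y
      obtain ⟨x₀, hx₀, c, hc, hyc⟩ := hdec ((y : P) : G) (Subgroup.mem_subgroupOf.mp y.2)
      have hx₀D : x₀ ∈ D := hD₁D hx₀
      let x : DQ := ⟨⟨x₀, hDP hx₀D⟩, Subgroup.mem_subgroupOf.mpr hx₀D⟩
      let c' : DQ := ⟨⟨c, hDP (hCD hc)⟩, Subgroup.mem_subgroupOf.mpr (hCD hc)⟩
      refine ⟨x, hx₀, ?_⟩
      have hy : y = x * c' := by
        apply Subtype.ext
        apply Subtype.ext
        exact hyc
      rw [hy, map_mul, hψone c' hc, mul_one])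
  have h2 : Nat.card ψ.range = Nat.card (Abelianization (DQ ⧸ C')) := by
    rw [MonoidHom.range_eq_top.mpr hψsurj]
    exact Nat.card_congr (Subgroup.topEquiv).toEquiv
  have h3 : (commutator P).relIndex DQ = (⁅P, P⁆).relIndex D := by
    rw [← commutator_subgroupOf_self, hDQ, Subgroup.relIndex_subgroupOf hDP]
  have h4 : Nat.card (Abelianization (DQ ⧸ C')) = (commutator (DQ ⧸ C')).index := by
    rw [Subgroup.index_eq_card]
    rfl
  have hTp : IsPGroup p (DQ ⧸ C') := (hP.to_subgroup DQ).to_quotient C'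
  have h5 : (commutator (DQ ⧸ C')).index ≤ p := by
    rw [← h4, ← h2]
    exact h1.trans (h3 ▸ hr)
  have h6 := card_le_of_index_commutator_le hTp h5
  have h7 : Nat.card (DQ ⧸ C') = C.relIndex D := by
    rw [← Subgroup.index_eq_card, hC']
    show CQ.relIndex DQ = _
    rw [hCQ, hDQ, Subgroup.relIndex_subgroupOf hDP]
  rw [← h7]
  exact h6

end Cfsg.Agent.Lib.Helper54_PSqBound
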