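import Mathlib
import Cfsg.Agent.Lib.Helper32_Sylow
import Cfsg.Agent.Lib.Helper54_PSqGroup
import Cfsg.Agent.Lib.Helper54_PSqTate

/-!
# Counting lemmas for the statement on `|P : P'| = p ^ 2` (helper54)
-/

set_option autoImplicit false

namespace Cfsg.Agent.Lib.Helper54_PSqCount

open Cfsg.Agent.Lib.Helper54_PSqGroup Cfsg.Agent.Lib.Helper54_PSqTate
open scoped commutatorElement

section General

variable {G : Type*} [Group G]

theorem map_centralizer_singleton (P : Subgroup G) (x : G) (hx : x ∈ P) :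
    (Subgroup.centralizer ({(⟨x, hx⟩ : P)} : Set P)).map P.subtype =
      P ⊓ Subgroup.centralizer ({x} : Set G) := by
  ext y
  rw [Subgroup.mem_map, Subgroup.mem_inf, Subgroup.mem_centralizer_singleton_iff]
  constructor
  · rintro ⟨z, hz, rfl⟩
    rw [Subgroup.mem_centralizer_singleton_iff] at hz
    exact ⟨z.2, congrArg Subtype.val hz⟩
  · rintro ⟨hyP, hy⟩
    refine ⟨⟨y, hyP⟩, ?_, rfl⟩
    rw [Subgroup.mem_centralizer_singleton_iff]
    exact Subtype.ext hy

theorem card_centralizer_singleton [Finite G] (P : Subgroup G) (x : G) (hx : x ∈ P) :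
    Nat.card (Subgroup.centralizer ({(⟨x, hx⟩ : P)} : Set P)) =
      Nat.card (P ⊓ Subgroup.centralizer ({x} : Set G) : Subgroup G) := by
  rw [← map_centralizer_singleton P x hx, Subgroup.card_map_of_injective P.subtype_injective]

/-- `|P| ≤ |P'| * |C_P(x)|` at the level of subgroups -/
theorem card_le_commutator_mul_centralizer' [Finite G] (P : Subgroup G) (x : G) (hx : x ∈ P) :
    Nat.card P ≤ Nat.card (⁅P, P⁆ : Subgroup G) *
      Nat.card (P ⊓ Subgroup.centralizer ({x} : Set G) : Subgroup G) := by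
  have h := card_le_commutator_mul_centralizer (⟨x, hx⟩ : P)
  rw [card_centralizer_singleton P x hx] at h
  have h2 : Nat.card (commutator P) = Nat.card (⁅P, P⁆ : Subgroup G) := by
    rw [← Subgroup.map_subtype_commutator P, Subgroup.card_map_of_injective P.subtype_injective]
  rw [h2] at h
  exact h

end General

section Main

variable {G : Type*} [Group G] [Finite G] {p : ℕ} [hp : Fact p.Prime]

omit [Finite G] in
theorem card_eq_commutator_mul (P : Subgroup G) :
    Nat.card P = Nat.card (⁅P, P⁆ : Subgroup G) * (⁅P, P⁆).relIndex P :=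
  (Cfsg.Agent.Lib.Helper32_Sylow.card_mul_relIndex' (commutator_self_le P)).symm

/-- every element of `P` has `|C_P(x)| ≥ |P : P'|` -/
theorem relIndex_le_card_centralizer (P : Subgroup G) (x : G) (hx : x ∈ P) :
    (⁅P, P⁆).relIndex P ≤ Nat.card (P ⊓ Subgroup.centralizer ({x} : Set G) : Subgroup G) := by
  have h1 := card_le_commutator_mul_centralizer' P x hx
  rw [card_eq_commutator_mul P] at h1
  exact Nat.le_of_mul_le_mul_left h1 Nat.card_pos

/-- conjugating a `p`-element into the Sylow subgroup `P` -/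
theorem exists_conj_mem_sylow (P : Sylow p G) (x : G) (hx : ∃ k : ℕ, orderOf x = p ^ k) :
    ∃ c : G, c * x * c⁻¹ ∈ (P : Subgroup G) := by
  obtain ⟨k, hk⟩ := hx
  have hZ : IsPGroup p (Subgroup.zpowers x) := IsPGroup.of_card (n := k) (by rw [Nat.card_zpowers, hk])
  obtain ⟨c, -, hc⟩ := Cfsg.Agent.Lib.Helper32_Sylow.sylow_conj_into ⊤ P le_top
    (Subgroup.zpowers x) le_top hZ
  exact ⟨c, hc x (Subgroup.mem_zpowers x)⟩

omit [Finite G] in
theorem card_centralizer_conj (c x : G) :
    Nat.card (Subgroup.centralizer ({c * x * c⁻¹} : Set G)) =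
      Nat.card (Subgroup.centralizer ({x} : Set G)) := by
  have h : (Subgroup.centralizer ({x} : Set G)).map (MulAut.conj c).toMonoidHom =
      Subgroup.centralizer ({c * x * c⁻¹} : Set G) := by
    ext y
    rw [Subgroup.mem_map, Subgroup.mem_centralizer_singleton_iff]
    constructor
    · rintro ⟨z, hz, rfl⟩
      rw [Subgroup.mem_centralizer_singleton_iff] at hz
      show c * z * c⁻¹ * (c * x * c⁻¹) = c * x * c⁻¹ * (c * z * c⁻¹)
      have : c * z * c⁻¹ * (c * x * c⁻¹) = c * (z * x) * c⁻¹ := by group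
      rw [this, hz]; group
    · intro hy
      refine ⟨c⁻¹ * y * c, ?_, ?_⟩
      · rw [Subgroup.mem_centralizer_singleton_iff]
        have h1 : c⁻¹ * y * c * x = c⁻¹ * (y * (c * x * c⁻¹)) * c := by group
        rw [h1, hy]; group
      · show c * (c⁻¹ * y * c) * c⁻¹ = y
        group
  rw [← h, Subgroup.card_map_of_injective (MulAut.conj c).injective]

/-- the `p`-part of `|G|` is at least `p ^ 2` means `|P| ≥ p ^ 2` -/
theorem sq_le_card_sylow (P : Sylow p G) (hbig : p ^ 2 ∣ Nat.card G) :
    p ^ 2 ≤ Nat.card (P : Subgroup G) := by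
  rw [P.card_eq_multiplicity]
  apply Nat.pow_le_pow_right hp.out.pos
  exact (hp.out.pow_dvd_iff_le_factorization Nat.card_pos.ne').mp hbig

/-- a `p`-subgroup of `H` has order `p ^ j` with `j ≤ v_p(|H|)` -/
theorem card_le_pow_factorization (H K : Subgroup G) (hK : IsPGroup p K) (hKH : K ≤ H) :
    Nat.card K ≤ p ^ (Nat.card H).factorization p := by
  obtain ⟨j, hj⟩ := IsPGroup.iff_card.mp hK
  rw [hj]
  apply Nat.pow_le_pow_right hp.out.pos
  apply (hp.out.pow_dvd_iff_le_factorization Nat.card_pos.ne').mp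
  rw [← hj]
  exact Subgroup.card_dvd_of_le hKH

/-- the direction `(⇐)` -/
theorem relIndex_commutator_eq_of_exists (P : Sylow p G) (hbig : p ^ 2 ∣ Nat.card G)
    (x : G) (hx : ∃ k : ℕ, orderOf x = p ^ k)
    (hc : (Nat.card (Subgroup.centralizer ({x} : Set G))).factorization p = 2) :
    (⁅(P : Subgroup G), (P : Subgroup G)⁆).relIndex (P : Subgroup G) = p ^ 2 := by
  obtain ⟨c, hcx⟩ := exists_conj_mem_sylow P x hx
  set x' := c * x * c⁻¹ with hx'
  have h1 := relIndex_le_card_centralizer (P : Subgroup G) x' hcx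
  have h2 : Nat.card ((P : Subgroup G) ⊓ Subgroup.centralizer ({x'} : Set G) : Subgroup G) ≤ p ^ 2 := by
    have := card_le_pow_factorization (p := p) (Subgroup.centralizer ({x'} : Set G))
      ((P : Subgroup G) ⊓ Subgroup.centralizer ({x'} : Set G)) (P.isPGroup'.to_le inf_le_left) inf_le_right
    rw [hx', card_centralizer_conj, hc] at this
    exact this
  have hle : (⁅(P : Subgroup G), (P : Subgroup G)⁆).relIndex (P : Subgroup G) ≤ p ^ 2 := h1.trans h2
  -- lower bound
  have hidx : (commutator (P : Subgroup G)).index =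
      (⁅(P : Subgroup G), (P : Subgroup G)⁆).relIndex (P : Subgroup G) := by
    rw [← commutator_subgroupOf_self]; rfl
  obtain ⟨i, hi⟩ := P.isPGroup'.index (commutator (P : Subgroup G))
  rw [← hidx, hi] at hle ⊢
  have hi2 : 2 ≤ i := by
    by_contra hcon
    push Not at hcon
    have h3 : (commutator (P : Subgroup G)).index ≤ p := by
      rw [hi]
      calc p ^ i ≤ p ^ 1 := Nat.pow_le_pow_right hp.out.pos (by omega)
        _ = p := pow_one p
    have h4 := card_le_of_index_commutator_le P.isPGroup' h3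
    have h5 := sq_le_card_sylow P hbig
    have h6 : p ^ 2 ≤ p := h5.trans h4
    have h7 : p * p ≤ p * 1 := by rw [← pow_two, mul_one]; exact h6
    have := Nat.le_of_mul_le_mul_left h7 hp.out.pos
    exact absurd hp.out.one_lt (not_lt_of_ge this)
  have hi2' : i ≤ 2 := (Nat.pow_le_pow_iff_right hp.out.one_lt).mp hle
  have : i = 2 := le_antisymm hi2' hi2
  rw [this]

/-- the final count: if `|P : P ∩ N| = p` and `|C_{P ∩ N}(b')| ≤ p` for all `b' ∈ P ∖ N`, then any
`b ∈ P ∖ N` has `|C_G(b)|_p = p ^ 2` -/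
theorem factorization_centralizer_eq_two (P : Sylow p G)
    (hidx : (⁅(P : Subgroup G), (P : Subgroup G)⁆).relIndex (P : Subgroup G) = p ^ 2)
    (N : Subgroup G) [hN : N.Normal] (hD : N.relIndex (P : Subgroup G) = p)
    (hb : ∀ b' ∈ (P : Subgroup G), b' ∉ N →
      Nat.card (((P : Subgroup G) ⊓ N) ⊓ Subgroup.centralizer ({b'} : Set G) : Subgroup G) ≤ p)
    (b : G) (hbP : b ∈ (P : Subgroup G)) (hbN : b ∉ N) :
    (Nat.card (Subgroup.centralizer ({b} : Set G))).factorization p = 2 := by
  set Cb := Subgroup.centralizer ({b} : Set G) with hCb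
  have hge : 2 ≤ (Nat.card Cb).factorization p := by
    have h1 := relIndex_le_card_centralizer (P : Subgroup G) b hbP
    rw [hidx] at h1
    have h2 := card_le_pow_factorization (p := p) Cb ((P : Subgroup G) ⊓ Cb)
      (P.isPGroup'.to_le inf_le_left) inf_le_right
    exact (Nat.pow_le_pow_iff_right hp.out.one_lt).mp (h1.trans h2)
  have hle : (Nat.card Cb).factorization p ≤ 2 := by
    by_contra hcon
    push Not at hcon
    have hdvd : p ^ 3 ∣ Nat.card Cb :=
      (hp.out.pow_dvd_iff_le_factorization Nat.card_pos.ne').mpr hcon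
    obtain ⟨Q3, hQ3⟩ := Sylow.exists_subgroup_card_pow_prime p hdvd
    set Q3' : Subgroup G := Q3.map Cb.subtype with hQ3'
    have hQ3'card : Nat.card Q3' = p ^ 3 := by
      rw [hQ3', Subgroup.card_map_of_injective Cb.subtype_injective, hQ3]
    have hQ3'le : Q3' ≤ Cb := by
      rintro _ ⟨q, _, rfl⟩
      exact q.2
    have hQ3'p : IsPGroup p Q3' := IsPGroup.of_card hQ3'card
    have hbp : IsPGroup p (Subgroup.zpowers b) :=
      P.isPGroup'.to_le ((Subgroup.zpowers_le (H := (P : Subgroup G))).mpr hbP)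
    have hnorm : Q3' ≤ Subgroup.normalizer ((Subgroup.zpowers b : Subgroup G) : Set G) := by
      have h1 : Cb = Subgroup.centralizer ((Subgroup.zpowers b : Subgroup G) : Set G) := by
        rw [Subgroup.zpowers_eq_closure, Subgroup.centralizer_closure]
      rw [h1] at hQ3'le
      exact hQ3'le.trans (Subgroup.centralizer_le_normalizer _)
    set S := Q3' ⊔ Subgroup.zpowers b with hS
    have hSp : IsPGroup p S := IsPGroup.to_sup_of_normal_right' hQ3'p hbp hnorm
    have hbCb : b ∈ Cb := by rw [hCb, Subgroup.mem_centralizer_singleton_iff]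
    have hSle : S ≤ Cb := sup_le hQ3'le ((Subgroup.zpowers_le (H := Cb)).mpr hbCb)
    obtain ⟨c, -, hc⟩ := Cfsg.Agent.Lib.Helper32_Sylow.sylow_conj_into ⊤ P le_top S le_top hSp
    set b' := c * b * c⁻¹ with hb'
    have hb'P : b' ∈ (P : Subgroup G) := hc b (Subgroup.mem_sup_right (Subgroup.mem_zpowers b))
    have hb'N : b' ∉ N := by
      intro h
      apply hbN
      have h1 := hN.conj_mem b' h c⁻¹
      have h2 : c⁻¹ * b' * c⁻¹⁻¹ = b := by rw [hb']; group
      rwa [h2] at h1
    set S' := S.map (MulAut.conj c).toMonoidHom with hS'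
    set H := (P : Subgroup G) ⊓ Subgroup.centralizer ({b'} : Set G) with hH
    have hS'le : S' ≤ H := by
      rintro _ ⟨s, hs, rfl⟩
      refine ⟨hc s hs, ?_⟩
      show c * s * c⁻¹ ∈ Subgroup.centralizer ({b'} : Set G)
      rw [Subgroup.mem_centralizer_singleton_iff]
      have hsb : s * b = b * s := Subgroup.mem_centralizer_singleton_iff.mp (hSle hs)
      show c * s * c⁻¹ * (c * b * c⁻¹) = c * b * c⁻¹ * (c * s * c⁻¹)
      have : c * s * c⁻¹ * (c * b * c⁻¹) = c * (s * b) * c⁻¹ := by group
      rw [this, hsb]; group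
    have hS'card : p ^ 3 ≤ Nat.card S' := by
      rw [hS', Subgroup.card_map_of_injective (MulAut.conj c).injective, ← hQ3'card]
      exact Subgroup.card_le_of_le le_sup_left
    have h1 : Nat.card (H ⊓ N : Subgroup G) * (H ⊓ N).relIndex H = Nat.card H :=
      Cfsg.Agent.Lib.Helper32_Sylow.card_mul_relIndex' inf_le_left
    rw [Subgroup.inf_relIndex_left] at h1
    have h2 : N.relIndex H ≤ N.relIndex (P : Subgroup G) := by
      apply Subgroup.relIndex_le_of_le_right inf_le_left
      rw [hD]; exact hp.out.ne_zero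
    have h3 : Nat.card (H ⊓ N : Subgroup G) ≤ p := by
      have : H ⊓ N = ((P : Subgroup G) ⊓ N) ⊓ Subgroup.centralizer ({b'} : Set G) := by
        rw [hH, inf_right_comm]
      rw [this]
      exact hb b' hb'P hb'N
    have h4 : Nat.card H ≤ p * p := by
      rw [← h1]
      exact Nat.mul_le_mul h3 (h2.trans hD.le)
    have h5 : p ^ 3 ≤ p * p := hS'card.trans ((Subgroup.card_le_of_le hS'le).trans h4)
    have h6 : p ^ 3 ≤ p ^ 2 := by rw [pow_two]; exact h5
    have := (Nat.pow_le_pow_iff_right hp.out.one_lt).mp h6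
    omega
  omega

end Main

end Cfsg.Agent.Lib.Helper54_PSqCount
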