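import Mathlib
import Cfsg.Agent.Lib.Helper32_Sylow
import Cfsg.Agent.Lib.Helper61_MinNormal

/-!
# Structure of a nonabelian minimal normal subgroup (helper54)

A nonabelian minimal normal subgroup `N` of a finite group `G` contains a nonabelian simple subgroup
`A` normal in `N`; each conjugate of `A` equals `A` or centralizes `A`; `N = A C_N(A)`; and a Sylow
subgroup of `N` decomposes accordingly.
-/

set_option autoImplicit false

namespace Cfsg.Agent.Lib.Helper54_PSqStruct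

open scoped commutatorElement

section Normalizer

variable {G : Type*} [Group G]

theorem le_normalizer_of_conj_mem (H K : Subgroup G)
    (h : ∀ k ∈ K, ∀ a ∈ H, k * a * k⁻¹ ∈ H) : K ≤ Subgroup.normalizer (H : Set G) := by
  intro k hk
  rw [Subgroup.mem_normalizer_iff]
  intro a
  constructor
  · exact h k hk a
  · intro ha
    have h1 := h k⁻¹ (K.inv_mem hk) _ ha
    have e : k⁻¹ * (k * a * k⁻¹) * k⁻¹⁻¹ = a := by group
    rwa [e] at h1

theorem conj_mem_of_le_normalizer {H K : Subgroup G} (h : K ≤ Subgroup.normalizer (H : Set G))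
    {k a : G} (hk : k ∈ K) (ha : a ∈ H) : k * a * k⁻¹ ∈ H :=
  (Subgroup.mem_normalizer_iff.mp (h hk) a).mp ha

theorem conj_mem_of_le_normalizer' {H K : Subgroup G} (h : K ≤ Subgroup.normalizer (H : Set G))
    {k a : G} (hk : k ∈ K) (ha : a ∈ H) : k⁻¹ * a * k ∈ H := by
  have := conj_mem_of_le_normalizer h (K.inv_mem hk) ha
  rwa [inv_inv] at this

theorem le_normalizer_inf {H₁ H₂ K : Subgroup G} (h₁ : K ≤ Subgroup.normalizer (H₁ : Set G))
    (h₂ : K ≤ Subgroup.normalizer (H₂ : Set G)) :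
    K ≤ Subgroup.normalizer ((H₁ ⊓ H₂ : Subgroup G) : Set G) :=
  le_normalizer_of_conj_mem _ _ (fun _ hk _ ha =>
    ⟨conj_mem_of_le_normalizer h₁ hk ha.1, conj_mem_of_le_normalizer h₂ hk ha.2⟩)

theorem mem_centralizer_iff' {A : Subgroup G} {y : G} :
    y ∈ Subgroup.centralizer (A : Set G) ↔ ∀ a ∈ A, a * y = y * a :=
  Subgroup.mem_centralizer_iff

theorem le_normalizer_centralizer {A K : Subgroup G} (h : K ≤ Subgroup.normalizer (A : Set G)) :
    K ≤ Subgroup.normalizer ((Subgroup.centralizer (A : Set G) : Subgroup G) : Set G) := by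
  apply le_normalizer_of_conj_mem
  intro k hk y hy
  rw [mem_centralizer_iff'] at hy ⊢
  intro a ha
  have h1 := hy _ (conj_mem_of_le_normalizer' h hk ha)
  calc a * (k * y * k⁻¹) = k * ((k⁻¹ * a * k) * y) * k⁻¹ := by group
    _ = k * (y * (k⁻¹ * a * k)) * k⁻¹ := by rw [h1]
    _ = k * y * k⁻¹ * a := by group

theorem mem_normalizer_of_map_conj_eq {A : Subgroup G} {g : G}
    (h : A.map (MulAut.conj g).toMonoidHom = A) : g ∈ Subgroup.normalizer (A : Set G) := by
  rw [Subgroup.mem_normalizer_iff]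
  intro a
  constructor
  · intro ha
    rw [← h]
    exact ⟨a, ha, rfl⟩
  · intro ha
    rw [← h] at ha
    obtain ⟨a', ha', hh⟩ := ha
    have : a' = a := by
      have h2 : g * a' * g⁻¹ = g * a * g⁻¹ := hh
      have := congrArg (fun z => g⁻¹ * z * g) h2
      simpa [mul_assoc] using this
    rwa [← this]

theorem map_conj_eq_of_mem_normalizer {A : Subgroup G} {g : G}
    (h : g ∈ Subgroup.normalizer (A : Set G)) : A.map (MulAut.conj g).toMonoidHom = A := by
  ext y
  rw [Subgroup.mem_map]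
  constructor
  · rintro ⟨a, ha, rfl⟩
    exact (Subgroup.mem_normalizer_iff.mp h a).mp ha
  · intro hy
    refine ⟨g⁻¹ * y * g, ?_, ?_⟩
    · have hg' : g⁻¹ ∈ Subgroup.normalizer (A : Set G) := Subgroup.inv_mem _ h
      have := (Subgroup.mem_normalizer_iff.mp hg' y).mp hy
      rwa [inv_inv] at this
    · show g * (g⁻¹ * y * g) * g⁻¹ = y
      group

end Normalizer

section Simple

variable {G : Type*} [Group G] [Finite G]

omit [Finite G] in
/-- a simple nonabelian subgroup meets its centralizer trivially -/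
theorem inf_centralizer_eq_bot (A : Subgroup G) [hA : IsSimpleGroup A]
    (hnab : ¬ ∀ a ∈ A, ∀ c ∈ A, a * c = c * a) : A ⊓ Subgroup.centralizer (A : Set G) = ⊥ := by
  have hcn : (Subgroup.center A).Normal := inferInstance
  rcases hcn.eq_bot_or_eq_top with h | h
  · rw [eq_bot_iff]
    rintro y ⟨hyA, hyC⟩
    have : (⟨y, hyA⟩ : A) ∈ Subgroup.center A := by
      rw [Subgroup.mem_center_iff]
      intro g
      apply Subtype.ext
      exact (mem_centralizer_iff'.mp hyC) g g.2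
    rw [h, Subgroup.mem_bot] at this
    rw [Subgroup.mem_bot]
    exact congrArg Subtype.val this
  · exfalso
    apply hnab
    intro a ha c hc
    have : (⟨a, ha⟩ : A) ∈ Subgroup.center A := h ▸ Subgroup.mem_top _
    rw [Subgroup.mem_center_iff] at this
    have := this ⟨c, hc⟩
    exact (congrArg Subtype.val this).symm

/-- **dichotomy**: a conjugate of the simple subgroup `A ⊴ N ⊴ G` equals `A` or centralizes `A` -/
theorem conj_dichotomy (N A : Subgroup G) [hN : N.Normal] (hAN : A ≤ N)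
    (hNA : N ≤ Subgroup.normalizer (A : Set G)) [hA : IsSimpleGroup A] (g : G) :
    A.map (MulAut.conj g).toMonoidHom = A ∨
      ∀ a ∈ A, ∀ c ∈ A.map (MulAut.conj g).toMonoidHom, a * c = c * a := by
  set Ag := A.map (MulAut.conj g).toMonoidHom with hAg
  have hAgN : Ag ≤ N := by
    rintro _ ⟨a, ha, rfl⟩
    exact hN.conj_mem a (hAN ha) g
  have hNAg : N ≤ Subgroup.normalizer (Ag : Set G) := by
    apply le_normalizer_of_conj_mem
    rintro n hn _ ⟨a, ha, rfl⟩
    have hm : g⁻¹ * n * g ∈ N := by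
      have := hN.conj_mem n hn g⁻¹
      rwa [inv_inv] at this
    refine ⟨(g⁻¹ * n * g) * a * (g⁻¹ * n * g)⁻¹, conj_mem_of_le_normalizer hNA hm ha, ?_⟩
    show g * ((g⁻¹ * n * g) * a * (g⁻¹ * n * g)⁻¹) * g⁻¹ = n * (g * a * g⁻¹) * n⁻¹
    group
  have hAnorm : A ≤ Subgroup.normalizer ((A ⊓ Ag : Subgroup G) : Set G) :=
    le_normalizer_inf Subgroup.le_normalizer (hAN.trans hNAg)
  have hIn : ((A ⊓ Ag).subgroupOf A).Normal :=
    (Subgroup.normal_subgroupOf_iff_le_normalizer inf_le_left).mpr hAnorm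
  rcases hIn.eq_bot_or_eq_top with h | h
  · right
    rw [Subgroup.subgroupOf_eq_bot] at h
    have hdisj : A ⊓ Ag = ⊥ := by
      have := h.eq_bot
      rwa [inf_assoc, inf_comm Ag A, ← inf_assoc, inf_idem] at this
    intro a ha c hc
    have h1 : ⁅a, c⁆ ∈ A ⊓ Ag := by
      constructor
      · have : ⁅a, c⁆ = a * (c * a⁻¹ * c⁻¹) := by rw [commutatorElement_def]; group
        rw [this]
        exact A.mul_mem ha (conj_mem_of_le_normalizer hNA (hAgN hc) (A.inv_mem ha))
      · have : ⁅a, c⁆ = (a * c * a⁻¹) * c⁻¹ := by rw [commutatorElement_def]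
        rw [this]
        exact Ag.mul_mem (conj_mem_of_le_normalizer hNAg (hAN ha) hc) (Ag.inv_mem hc)
    rw [hdisj, Subgroup.mem_bot] at h1
    exact commutatorElement_eq_one_iff_mul_comm.mp h1
  · left
    rw [Subgroup.subgroupOf_eq_top] at h
    have hle : A ≤ Ag := h.trans inf_le_right
    have hcard : Nat.card Ag = Nat.card A := by
      rw [hAg, Subgroup.card_map_of_injective (MulAut.conj g).injective]
    exact (Subgroup.eq_of_le_of_card_ge hle hcard.le).symm

/-- `N = A C_N(A)` -/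
theorem decomp (N A : Subgroup G) [hN : N.Normal]
    (hmin : ∀ M : Subgroup G, M.Normal → M ≤ N → M = ⊥ ∨ M = N) (hAN : A ≤ N)
    (hNA : N ≤ Subgroup.normalizer (A : Set G)) [hA : IsSimpleGroup A] :
    ∀ n ∈ N, ∃ a ∈ A, ∃ c ∈ N ⊓ Subgroup.centralizer (A : Set G), n = a * c := by
  let M : Subgroup G :=
    { carrier := {n | ∃ a ∈ A, ∃ c ∈ N ⊓ Subgroup.centralizer (A : Set G), n = a * c}
      one_mem' := ⟨1, A.one_mem, 1, Subgroup.one_mem _, by simp⟩
      mul_mem' := by
        rintro _ _ ⟨a, ha, c, hc, rfl⟩ ⟨a', ha', c', hc', rfl⟩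
        refine ⟨a * a', A.mul_mem ha ha', c * c', Subgroup.mul_mem _ hc hc', ?_⟩
        have h1 : a' * c = c * a' := (mem_centralizer_iff'.mp hc.2) a' ha'
        calc a * c * (a' * c') = a * (c * a') * c' := by group
          _ = a * (a' * c) * c' := by rw [h1]
          _ = a * a' * (c * c') := by group
      inv_mem' := by
        rintro _ ⟨a, ha, c, hc, rfl⟩
        refine ⟨a⁻¹, A.inv_mem ha, c⁻¹, Subgroup.inv_mem _ hc, ?_⟩
        have h1 : a⁻¹ * c⁻¹ = c⁻¹ * a⁻¹ :=
          (mem_centralizer_iff'.mp (Subgroup.inv_mem _ hc.2)) a⁻¹ (A.inv_mem ha)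
        rw [mul_inv_rev, h1] }
  have hA1 : A ≠ ⊥ := by
    have : Nontrivial A := hA.toNontrivial
    exact (Subgroup.nontrivial_iff_ne_bot A).mp this
  have hnc : Subgroup.normalClosure (A : Set G) = N := by
    have hle : Subgroup.normalClosure (A : Set G) ≤ N := Subgroup.normalClosure_le_normal hAN
    rcases hmin _ Subgroup.normalClosure_normal hle with h | h
    · exfalso
      apply hA1
      rw [eq_bot_iff, ← h]
      exact Subgroup.subset_normalClosure
    · exact h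
  have hM : Subgroup.normalClosure (A : Set G) ≤ M := by
    unfold Subgroup.normalClosure
    rw [Subgroup.closure_le]
    intro y hy
    rw [Group.mem_conjugatesOfSet_iff] at hy
    obtain ⟨a, ha, hconj⟩ := hy
    rw [isConj_iff] at hconj
    obtain ⟨g, rfl⟩ := hconj
    have hmem : g * a * g⁻¹ ∈ A.map (MulAut.conj g).toMonoidHom := ⟨a, ha, rfl⟩
    rcases conj_dichotomy N A hAN hNA g with h | h
    · rw [h] at hmem
      exact ⟨g * a * g⁻¹, hmem, 1, Subgroup.one_mem _, by simp⟩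
    · refine ⟨1, A.one_mem, g * a * g⁻¹, ⟨hN.conj_mem a (hAN ha) g, ?_⟩, by simp⟩
      show g * a * g⁻¹ ∈ Subgroup.centralizer (A : Set G)
      rw [mem_centralizer_iff']
      intro a' ha'
      exact h a' ha' _ hmem
  intro n hn
  rw [← hnc] at hn
  exact hM hn

/-- a nonabelian minimal normal subgroup contains a nonabelian simple subgroup normal in it -/
theorem exists_simple_factor (N : Subgroup G) [hNn : N.Normal] (hN : N ≠ ⊥)
    (hmin : ∀ M : Subgroup G, M.Normal → M ≤ N → M = ⊥ ∨ M = N)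
    (hnab : ¬ ∀ a ∈ N, ∀ c ∈ N, a * c = c * a) :
    ∃ A : Subgroup G, A ≤ N ∧ N ≤ Subgroup.normalizer (A : Set G) ∧ IsSimpleGroup A ∧
      ¬ (∀ a ∈ A, ∀ c ∈ A, a * c = c * a) := by
  obtain ⟨T, hT, m, hTs, hm, ⟨e⟩⟩ :=
    Cfsg.Agent.Lib.Helper61_MinNormal.minNormal_simple_pow N hN hmin
  let i₀ : Fin m := ⟨0, hm⟩
  let ι : T →* (Fin m → T) := MonoidHom.mulSingle (fun _ => T) i₀
  let φ : T →* G := N.subtype.comp (e.symm.toMonoidHom.comp ι)
  have hφ : ∀ t : T, φ t = ((e.symm (ι t) : N) : G) := fun t => rfl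
  have hφinj : Function.Injective φ := by
    intro s t h
    rw [hφ, hφ] at h
    have h1 : e.symm (ι s) = e.symm (ι t) := Subtype.ext h
    have h2 : ι s = ι t := e.symm.injective h1
    exact Pi.mulSingle_injective i₀ h2
  have hconj : ∀ (f : Fin m → T) (t : T), f * ι t * f⁻¹ = ι (f i₀ * t * (f i₀)⁻¹) := by
    intro f t
    funext j
    by_cases hj : j = i₀
    · subst hj
      simp [ι]
    · simp [ι, Pi.mulSingle_eq_of_ne hj]
  refine ⟨φ.range, ?_, ?_, ?_, ?_⟩
  · rintro _ ⟨t, rfl⟩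
    rw [hφ]
    exact (e.symm (ι t)).2
  · apply le_normalizer_of_conj_mem
    rintro n hn _ ⟨t, rfl⟩
    refine ⟨(e ⟨n, hn⟩) i₀ * t * ((e ⟨n, hn⟩) i₀)⁻¹, ?_⟩
    rw [hφ, hφ, ← hconj]
    have h1 : e.symm (e ⟨n, hn⟩ * ι t * (e ⟨n, hn⟩)⁻¹) =
        (⟨n, hn⟩ : N) * e.symm (ι t) * (⟨n, hn⟩ : N)⁻¹ := by
      rw [map_mul, map_mul, map_inv, MulEquiv.symm_apply_apply]
    rw [h1]
    rfl
  · exact (MonoidHom.ofInjective hφinj).symm.isSimpleGroup
  · intro hab
    apply hnab
    have hTcomm : ∀ s t : T, s * t = t * s := by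
      intro s t
      apply hφinj
      rw [map_mul, map_mul]
      exact hab _ ⟨s, rfl⟩ _ ⟨t, rfl⟩
    intro x hx y hy
    have h1 : e (⟨x, hx⟩ * ⟨y, hy⟩) = e (⟨y, hy⟩ * ⟨x, hx⟩) := by
      rw [map_mul, map_mul]
      funext j
      exact hTcomm _ _
    have h2 := e.injective h1
    exact congrArg Subtype.val h2

/-- the Sylow subgroup `P` of `G` meets `A ⊴ N ⊴ G` in a subgroup of index prime to `p` -/
theorem not_dvd_relIndex_inf_of_normal_normal {p : ℕ} [Fact p.Prime] (P : Sylow p G)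
    (N A : Subgroup G) [hN : N.Normal] (hAN : A ≤ N)
    (hNA : N ≤ Subgroup.normalizer (A : Set G)) :
    ¬ p ∣ ((P : Subgroup G) ⊓ A).relIndex A := by
  have hAn : (A.subgroupOf N).Normal :=
    (Subgroup.normal_subgroupOf_iff_le_normalizer hAN).mpr hNA
  have h := Cfsg.Agent.Lib.Helper32_Sylow.not_dvd_relIndex_inf_normal
    (Cfsg.Agent.Lib.Helper32_Sylow.sylowInfNormal P N) (A.subgroupOf N)
  rw [Cfsg.Agent.Lib.Helper32_Sylow.coe_sylowInfNormal] at h
  have h2 : ((P : Subgroup G) ⊓ N).subgroupOf N ⊓ A.subgroupOf N =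
      ((P : Subgroup G) ⊓ A).subgroupOf N := by
    ext x
    simp only [Subgroup.mem_inf, Subgroup.mem_subgroupOf]
    constructor
    · rintro ⟨⟨h1, _⟩, h3⟩
      exact ⟨h1, h3⟩
    · rintro ⟨h1, h3⟩
      exact ⟨⟨h1, x.2⟩, h3⟩
  rw [h2, Subgroup.relIndex_subgroupOf hAN] at h
  exact h

/-- the Sylow subgroup of `N` decomposes along `N = A C_N(A)` -/
theorem sylow_decomp {p : ℕ} [hp : Fact p.Prime] (P : Sylow p G) (N A : Subgroup G)
    [hN : N.Normal] (hmin : ∀ M : Subgroup G, M.Normal → M ≤ N → M = ⊥ ∨ M = N) (hAN : A ≤ N)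
    (hNA : N ≤ Subgroup.normalizer (A : Set G)) [hA : IsSimpleGroup A]
    (hnab : ¬ ∀ a ∈ A, ∀ c ∈ A, a * c = c * a) :
    ∀ d ∈ (P : Subgroup G) ⊓ N, ∃ x ∈ (P : Subgroup G) ⊓ A,
      ∃ c ∈ ((P : Subgroup G) ⊓ N) ⊓ Subgroup.centralizer (A : Set G), d = x * c := by
  intro d hd
  obtain ⟨a, ha, c, hc, hdac⟩ := decomp N A hmin hAN hNA d hd.2
  have hac : a * c = c * a := (mem_centralizer_iff'.mp hc.2) a ha
  have hZ := inf_centralizer_eq_bot A hnab
  set D₁ := (P : Subgroup G) ⊓ A with hD₁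
  -- `a` is a `p`-element
  obtain ⟨k, hk⟩ := P.isPGroup' ⟨d, hd.1⟩
  have hdk : d ^ (p ^ k) = 1 := by
    have := congrArg Subtype.val hk
    simpa using this
  have hak : a ^ (p ^ k) = 1 := by
    have h1 : a ^ (p ^ k) * c ^ (p ^ k) = 1 := by
      rw [← (show Commute a c from hac).mul_pow, ← hdac, hdk]
    have h2 : a ^ (p ^ k) = (c ^ (p ^ k))⁻¹ := eq_inv_of_mul_eq_one_left h1
    have h3 : a ^ (p ^ k) ∈ A ⊓ Subgroup.centralizer (A : Set G) := by
      refine ⟨A.pow_mem ha _, ?_⟩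
      rw [h2]
      exact Subgroup.inv_mem _ (Subgroup.pow_mem _ hc.2 _)
    rw [hZ, Subgroup.mem_bot] at h3
    exact h3
  have hzp : IsPGroup p (Subgroup.zpowers a) := by
    rintro ⟨g, hg⟩
    obtain ⟨i, rfl⟩ := hg
    refine ⟨k, Subtype.ext ?_⟩
    show (a ^ i) ^ (p ^ k) = 1
    rw [← zpow_natCast, ← zpow_mul, mul_comm, zpow_mul, zpow_natCast, hak, one_zpow]
  have hD₁p : IsPGroup p D₁ := P.isPGroup'.to_le inf_le_left
  -- `a` normalizes `D₁`
  have hdn : d ∈ Subgroup.normalizer (D₁ : Set G) := by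
    have h1 : (P : Subgroup G) ⊓ N ≤ Subgroup.normalizer (D₁ : Set G) :=
      le_normalizer_inf (inf_le_left.trans Subgroup.le_normalizer) (inf_le_right.trans hNA)
    exact h1 hd
  have hcn : c ∈ Subgroup.normalizer (D₁ : Set G) := by
    have h1 : Subgroup.centralizer (A : Set G) ≤ Subgroup.centralizer (D₁ : Set G) :=
      Subgroup.centralizer_le (fun y hy => hy.2)
    exact Subgroup.centralizer_le_normalizer _ (h1 hc.2)
  have han : a ∈ Subgroup.normalizer (D₁ : Set G) := by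
    have : a = d * c⁻¹ := by rw [hdac]; group
    rw [this]
    exact Subgroup.mul_mem _ hdn (Subgroup.inv_mem _ hcn)
  have hle : Subgroup.zpowers a ≤ Subgroup.normalizer (D₁ : Set G) :=
    (Subgroup.zpowers_le (H := Subgroup.normalizer (D₁ : Set G))).mpr han
  set S := Subgroup.zpowers a ⊔ D₁ with hS
  have hSp : IsPGroup p S := IsPGroup.to_sup_of_normal_right' hzp hD₁p hle
  have hSA : S ≤ A := sup_le ((Subgroup.zpowers_le (H := A)).mpr ha) inf_le_right
  have hD₁S : D₁ ≤ S := le_sup_right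
  have hmul : D₁.relIndex S * S.relIndex A = D₁.relIndex A :=
    Subgroup.relIndex_mul_relIndex D₁ S A hD₁S hSA
  obtain ⟨j, hj⟩ := hSp.index (D₁.subgroupOf S)
  have hj' : D₁.relIndex S = p ^ j := hj
  have hndvd := not_dvd_relIndex_inf_of_normal_normal P N A hAN hNA
  have hj0 : j = 0 := by
    by_contra hne
    apply hndvd
    rw [← hD₁, ← hmul, hj']
    exact Dvd.dvd.mul_right (dvd_pow_self p hne) _
  rw [hj0, pow_zero, Subgroup.relIndex_eq_one] at hj'
  have haD₁ : a ∈ D₁ := hj' (Subgroup.mem_sup_left (Subgroup.mem_zpowers a))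
  refine ⟨a, haD₁, c, ⟨⟨?_, hc.1⟩, hc.2⟩, hdac⟩
  have : c = a⁻¹ * d := by rw [hdac]; group
  rw [this]
  exact Subgroup.mul_mem _ (Subgroup.inv_mem _ haD₁.1) hd.1

end Simple

end Cfsg.Agent.Lib.Helper54_PSqStruct
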