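import Mathlib
import Cfsg.Prelude.Def_Solvable
import Cfsg.Agent.Lib.Helper1_Cores
import Cfsg.Agent.Lib.Helper22_Cores
import Cfsg.Agent.Lib.Helper32_Sylow
import Cfsg.Agent.Lib.Helper54_PSqTate
import Cfsg.Agent.Lib.Helper54_PSqBound
import Cfsg.Agent.Lib.Helper54_PSqStruct

/-!
# The case of a nonabelian minimal normal subgroup (helper54)

`G` with `O_{p'}(G) = 1`, `P` a Sylow `p`-subgroup with `|P : P'| = p ^ 2`, `P' ≠ 1` contained in
every nontrivial normal subgroup, `G` not almost simple, `N` a nonabelian minimal normal subgroup.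
Then `|P : P ∩ N| = p` and `|C_{P ∩ N}(b)| ≤ p` for all `b ∈ P ∖ N`.
-/

set_option autoImplicit false
open Cfsg

namespace Cfsg.Agent.Lib.Helper54_PSqNonab

open Cfsg.Agent.Lib.Helper54_PSqGroup Cfsg.Agent.Lib.Helper54_PSqTate
  Cfsg.Agent.Lib.Helper54_PSqBound Cfsg.Agent.Lib.Helper54_PSqStruct
open scoped commutatorElement

variable {G : Type*} [Group G] [Finite G] {p : ℕ} [hp : Fact p.Prime]

theorem nonabelian_case (P : Sylow p G) (hcore : pPrimeCore p G = ⊥)
    (hidx : (⁅(P : Subgroup G), (P : Subgroup G)⁆).relIndex (P : Subgroup G) = p ^ 2)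
    (hP'ne : ⁅(P : Subgroup G), (P : Subgroup G)⁆ ≠ ⊥)
    (hnas : ¬ ∃ S : Subgroup G, S.Normal ∧ IsSimpleGroup S ∧ ¬ IsMulCommutative S ∧
      Subgroup.centralizer (S : Set G) = ⊥)
    (N : Subgroup G) [hN : N.Normal] (hN1 : N ≠ ⊥)
    (hmin : ∀ M : Subgroup G, M.Normal → M ≤ N → M = ⊥ ∨ M = N)
    (hall : ∀ M : Subgroup G, M.Normal → M ≠ ⊥ →
      ⁅(P : Subgroup G), (P : Subgroup G)⁆ ≤ M)
    (hnab : ¬ ∀ a ∈ N, ∀ c ∈ N, a * c = c * a) :
    N.relIndex (P : Subgroup G) = p ∧ ∀ b ∈ (P : Subgroup G), b ∉ N →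
      Nat.card (((P : Subgroup G) ⊓ N) ⊓ Subgroup.centralizer ({b} : Set G) : Subgroup G) ≤ p := by
  set P' := ⁅(P : Subgroup G), (P : Subgroup G)⁆ with hP'
  have hP'N : P' ≤ N := hall N hN hN1
  have hP'P : P' ≤ (P : Subgroup G) := commutator_self_le _
  -- Step 0: `O_p(G) = 1`
  have hOp : pCore p G = ⊥ := by
    by_contra hne
    have hOn : (pCore p G).Normal := Cfsg.Agent.Lib.Helper1_Cores.pCore_normal p
    have h1 : P' ≤ pCore p G := hall _ hOn hne
    have hinf : (N ⊓ pCore p G).Normal := inferInstance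
    rcases hmin _ hinf inf_le_left with h | h
    · apply hP'ne
      rw [eq_bot_iff, ← h]
      exact le_inf hP'N h1
    · have hNle : N ≤ pCore p G := by
        rw [← h]; exact inf_le_right
      have hNp : IsPGroup p N := (Cfsg.Agent.Lib.Helper1_Cores.pCore_isPGroup p).to_le hNle
      have hnt : Nontrivial N := (Subgroup.nontrivial_iff_ne_bot N).mpr hN1
      have hZ := hNp.center_nontrivial
      have hZn : (N ⊓ Subgroup.centralizer (N : Set G)).Normal := inferInstance
      rcases hmin _ hZn inf_le_left with h2 | h2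
      · obtain ⟨z, hz1⟩ := exists_ne (1 : Subgroup.center N)
        apply hz1
        have hz : ((z : N) : G) ∈ N ⊓ Subgroup.centralizer (N : Set G) := by
          refine Subgroup.mem_inf.mpr ⟨(z : N).2, ?_⟩
          rw [mem_centralizer_iff']
          intro a ha
          have := (Subgroup.mem_center_iff.mp z.2) ⟨a, ha⟩
          exact congrArg Subtype.val this
        rw [h2, Subgroup.mem_bot] at hz
        apply Subtype.ext
        apply Subtype.ext
        exact hz
      · apply hnab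
        intro a ha c hc
        have hc' : c ∈ N ⊓ Subgroup.centralizer (N : Set G) := by rw [h2]; exact hc
        exact (mem_centralizer_iff'.mp hc'.2) a ha
  -- Step 1: the tool
  have hNsub : N.IsSubnormal := hN.isSubnormal
  have tool : ∀ W : Subgroup G, W ≤ N → N ≤ Subgroup.normalizer (W : Set G) →
      (P : Subgroup G) ≤ Subgroup.normalizer (W : Set G) → W ≠ ⊥ → P' ≤ W := by
    intro W hWN hNW hPW hW1
    have hWsub : W.IsSubnormal :=
      Subgroup.IsSubnormal.trans hWN
        ((Subgroup.normal_subgroupOf_iff_le_normalizer hWN).mpr hNW).isSubnormal hNsub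
    apply commutator_le_of_subnormal P hcore hidx W hWsub hPW
    intro hle
    have hWp : IsPGroup p W := P.isPGroup'.to_le (hle.trans hP'P)
    have := Cfsg.Agent.Lib.Helper22_Cores.le_pCore_of_isSubnormal p hWsub hWp
    rw [hOp] at this
    exact hW1 (le_bot_iff.mp this)
  -- Step 2: the simple factor
  obtain ⟨A, hAN, hNA, hAs, hAnab⟩ := exists_simple_factor N hN1 hmin hnab
  have hZA := inf_centralizer_eq_bot A hAnab
  have hA1 : A ≠ ⊥ := (Subgroup.nontrivial_iff_ne_bot A).mp hAs.toNontrivial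
  have hAsub : A.IsSubnormal :=
    Subgroup.IsSubnormal.trans hAN
      ((Subgroup.normal_subgroupOf_iff_le_normalizer hAN).mpr hNA).isSubnormal hNsub
  have hpA : p ∣ Nat.card A := by
    by_contra h
    have hcop : (Nat.card A).Coprime p := ((Nat.Prime.coprime_iff_not_dvd hp.out).mpr h).symm
    have := Cfsg.Agent.Lib.Helper22_Cores.le_pPrimeCore_of_isSubnormal p hAsub hcop
    rw [hcore] at this
    exact hA1 (le_bot_iff.mp this)
  have hsyl := not_dvd_relIndex_inf_of_normal_normal P N A hAN hNA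
  set D₁ := (P : Subgroup G) ⊓ A with hD₁
  have hD₁ne : ∃ x ∈ D₁, x ≠ 1 := by
    by_contra hcon
    push Not at hcon
    have : D₁ = ⊥ := eq_bot_iff.mpr (fun x hx => Subgroup.mem_bot.mpr (hcon x hx))
    rw [this, Subgroup.relIndex_bot_left] at hsyl
    exact hsyl hpA
  -- Step 3: `P` does not normalize `A`
  set CA := N ⊓ Subgroup.centralizer (A : Set G) with hCA
  have hN_CA : N ≤ Subgroup.normalizer (CA : Set G) :=
    le_normalizer_inf Subgroup.le_normalizer (le_normalizer_centralizer hNA)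
  have hPNnorm : (P : Subgroup G) ≤ Subgroup.normalizer (N : Set G) := by
    rw [Subgroup.normalizer_eq_top]; exact le_top
  have hnotnorm : ¬ (P : Subgroup G) ≤ Subgroup.normalizer (A : Set G) := by
    intro hPA
    have h1 : P' ≤ A := tool A hAN hNA hPA hA1
    have hP_CA : (P : Subgroup G) ≤ Subgroup.normalizer (CA : Set G) :=
      le_normalizer_inf hPNnorm (le_normalizer_centralizer hPA)
    have hCAbot : CA = ⊥ := by
      by_contra hne
      have h2 : P' ≤ CA := tool CA inf_le_left hN_CA hP_CA hne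
      apply hP'ne
      rw [eq_bot_iff, ← hZA]
      exact le_inf h1 (h2.trans inf_le_right)
    have hNeqA : N = A := by
      apply le_antisymm _ hAN
      intro n hn
      obtain ⟨a, ha, c, hc, rfl⟩ := decomp N A hmin hAN hNA n hn
      have hc' : c ∈ CA := hc
      rw [hCAbot, Subgroup.mem_bot] at hc'
      rw [hc', mul_one]
      exact ha
    apply hnas
    subst hNeqA
    refine ⟨N, hN, hAs, ?_, ?_⟩
    · intro hc
      apply hnab
      intro a ha c hc'
      have := hc.is_comm.comm (⟨a, ha⟩ : N) ⟨c, hc'⟩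
      exact congrArg Subtype.val this
    · by_contra hne
      have hCn : (Subgroup.centralizer (N : Set G)).Normal := inferInstance
      have h3 : P' ≤ Subgroup.centralizer (N : Set G) := hall _ hCn hne
      apply hP'ne
      rw [eq_bot_iff, ← hZA]
      exact le_inf h1 h3
  -- Step 4: `|P : P ∩ N| = p`
  have hPnN : ¬ (P : Subgroup G) ≤ N := fun h => hnotnorm (h.trans hNA)
  have hNnotP' : ¬ N ≤ P' := by
    intro hle
    have hNp : IsPGroup p N := P.isPGroup'.to_le (hle.trans hP'P)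
    have := Cfsg.Agent.Lib.Helper1_Cores.le_pCore hN hNp
    rw [hOp] at this
    exact hN1 (le_bot_iff.mp this)
  have hinf : ¬ ((P : Subgroup G) ⊓ N ≤ P') :=
    not_inf_le_commutator P hcore N hNsub hPNnorm hNnotP'
  have hrel : N.relIndex (P : Subgroup G) = p :=
    relIndex_eq_of_not_le (P : Subgroup G) P.isPGroup' hidx N hinf hPnN
  refine ⟨hrel, ?_⟩
  -- Step 5: a fixed `b`
  intro b hbP hbN
  set D := (P : Subgroup G) ⊓ N with hD
  have hPsup : (P : Subgroup G) ≤ D ⊔ Subgroup.zpowers b :=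
    le_sup_zpowers_of_relIndex _ P.isPGroup' N hrel b hbP hbN
  have hDA : D ≤ Subgroup.normalizer (A : Set G) := inf_le_right.trans hNA
  have hgen : ∀ g ∈ (P : Subgroup G), g ∉ N → ∀ a ∈ A,
      ∀ c ∈ A.map (MulAut.conj g).toMonoidHom, a * c = c * a := by
    intro g hgP hgN
    rcases conj_dichotomy N A hAN hNA g with h | h
    · exfalso
      have hgn := mem_normalizer_of_map_conj_eq h
      have hPg : (P : Subgroup G) ≤ D ⊔ Subgroup.zpowers g :=
        le_sup_zpowers_of_relIndex _ P.isPGroup' N hrel g hgP hgN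
      exact hnotnorm (hPg.trans (sup_le hDA
        ((Subgroup.zpowers_le (H := Subgroup.normalizer (A : Set G))).mpr hgn)))
    · exact h
  -- Step 6: the wreath bound
  set C := D ⊓ Subgroup.centralizer (A : Set G) with hC
  have hDnormD : (P : Subgroup G) ≤ Subgroup.normalizer (D : Set G) :=
    le_normalizer_inf_self _ _ hPNnorm
  have hDC : D ≤ Subgroup.normalizer (C : Set G) :=
    le_normalizer_inf Subgroup.le_normalizer (le_normalizer_centralizer hDA)
  have hP'D : P' ≤ D := le_inf hP'P hP'N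
  have hr : P'.relIndex D ≤ p := by
    have h1 := Subgroup.relIndex_mul_relIndex P' D (P : Subgroup G) hP'D inf_le_left
    have h2 : D.relIndex (P : Subgroup G) = p := by
      have h3 := Subgroup.inf_relIndex_right N (P : Subgroup G)
      rw [inf_comm] at h3
      exact h3.trans hrel
    rw [h2, hidx, pow_two] at h1
    exact (Nat.eq_of_mul_eq_mul_right hp.out.pos h1).le
  have hwr : C.relIndex D ≤ p := by
    apply relIndex_le_of_wreath (P : Subgroup G) P.isPGroup' D C D₁ inf_le_left hDnormD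
      inf_le_left hDC (inf_le_inf_left _ hAN) (sylow_decomp P N A hmin hAN hNA hAnab) _ hr
    intro g hgP hgD x hx
    have hxP : x ∈ (P : Subgroup G) := (Subgroup.mem_inf.mp hx).1
    have hxA : x ∈ A := (Subgroup.mem_inf.mp hx).2
    have hgN : g ∉ N := fun h => hgD (Subgroup.mem_inf.mpr ⟨hgP, h⟩)
    have hg'N : g⁻¹ ∉ N := fun h => hgN (by simpa using N.inv_mem h)
    have hg'P : g⁻¹ ∈ (P : Subgroup G) := Subgroup.inv_mem _ hgP
    refine Subgroup.mem_inf.mpr ⟨Subgroup.mem_inf.mpr
      ⟨Subgroup.mul_mem _ (Subgroup.mul_mem _ hg'P hxP) hgP, ?_⟩, ?_⟩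
    · have := hN.conj_mem x (hAN hxA) g⁻¹
      rwa [inv_inv] at this
    · rw [mem_centralizer_iff']
      intro a ha
      apply hgen g⁻¹ hg'P hg'N a ha
      exact ⟨x, hxA, by show g⁻¹ * x * g⁻¹⁻¹ = _; rw [inv_inv]⟩
  -- Step 7: `C_D(b) ∩ C = 1`
  set H := D ⊓ Subgroup.centralizer ({b} : Set G) with hH
  have hHC : H ⊓ C = ⊥ := by
    rw [eq_bot_iff]
    intro z hz
    obtain ⟨hzH, hzC⟩ := Subgroup.mem_inf.mp hz
    obtain ⟨hzD, hzb⟩ := Subgroup.mem_inf.mp hzH
    have hzN : z ∈ N := (Subgroup.mem_inf.mp hzD).2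
    have hzCA : z ∈ Subgroup.centralizer (A : Set G) := (Subgroup.mem_inf.mp hzC).2
    rw [Subgroup.mem_bot]
    by_contra hz1
    let 𝒮 : Set G := {y | ∃ i : ℤ, ∃ a ∈ A, y = b ^ i * a * b ^ (-i)}
    set W := N ⊓ Subgroup.centralizer 𝒮 with hW
    have hzb' : z * b = b * z := Subgroup.mem_centralizer_singleton_iff.mp hzb
    have hzW : z ∈ W := by
      refine Subgroup.mem_inf.mpr ⟨hzN, ?_⟩
      rw [Subgroup.mem_centralizer_iff]
      rintro _ ⟨i, a, ha, rfl⟩
      have h1 : Commute z b := hzb'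
      have h2 : Commute z a := ((mem_centralizer_iff'.mp hzCA) a ha).symm
      exact (((h1.zpow_right i).mul_right h2).mul_right (h1.zpow_right (-i))).symm.eq
    have hW1 : W ≠ ⊥ := fun h => hz1 (by rw [h, Subgroup.mem_bot] at hzW; exact hzW)
    have hconjS : ∀ m : G, m ∈ N → ∀ y ∈ 𝒮, m⁻¹ * y * m ∈ 𝒮 := by
      rintro m hm _ ⟨i, a, ha, rfl⟩
      have hmN : b ^ (-i) * m * b ^ i ∈ N := by
        have := hN.conj_mem m hm (b ^ (-i))
        have e : (b ^ (-i))⁻¹ = b ^ i := by rw [zpow_neg, inv_inv]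
        rwa [e] at this
      refine ⟨i, (b ^ (-i) * m * b ^ i)⁻¹ * a * (b ^ (-i) * m * b ^ i),
        conj_mem_of_le_normalizer' hNA hmN ha, ?_⟩
      rw [zpow_neg]
      group
    have hNW : N ≤ Subgroup.normalizer (W : Set G) := by
      apply le_normalizer_of_conj_mem
      intro n hn w hw
      obtain ⟨hwN, hwS⟩ := Subgroup.mem_inf.mp hw
      refine Subgroup.mem_inf.mpr ⟨N.mul_mem (N.mul_mem hn hwN) (N.inv_mem hn), ?_⟩
      rw [Subgroup.mem_centralizer_iff] at hwS ⊢
      intro y hy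
      have h1 := hwS _ (hconjS n hn y hy)
      calc y * (n * w * n⁻¹) = n * ((n⁻¹ * y * n) * w) * n⁻¹ := by group
        _ = n * (w * (n⁻¹ * y * n)) * n⁻¹ := by rw [h1]
        _ = n * w * n⁻¹ * y := by group
    have hbW : b ∈ Subgroup.normalizer (W : Set G) := by
      have : Subgroup.zpowers b ≤ Subgroup.normalizer (W : Set G) := by
        apply le_normalizer_of_conj_mem
        intro k hk w hw
        obtain ⟨j, rfl⟩ := Subgroup.mem_zpowers_iff.mp hk
        obtain ⟨hwN, hwS⟩ := Subgroup.mem_inf.mp hw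
        refine Subgroup.mem_inf.mpr ⟨hN.conj_mem w hwN _, ?_⟩
        rw [Subgroup.mem_centralizer_iff] at hwS ⊢
        rintro _ ⟨i, a, ha, rfl⟩
        have h1 := hwS (b ^ (i - j) * a * b ^ (-(i - j))) ⟨i - j, a, ha, rfl⟩
        have e1 : b ^ i * a * b ^ (-i) =
            b ^ j * (b ^ (i - j) * a * b ^ (-(i - j))) * (b ^ j)⁻¹ := by
          rw [zpow_sub, zpow_neg, zpow_neg, zpow_sub]
          group
        rw [e1]
        calc b ^ j * (b ^ (i - j) * a * b ^ (-(i - j))) * (b ^ j)⁻¹ * (b ^ j * w * (b ^ j)⁻¹)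
            = b ^ j * ((b ^ (i - j) * a * b ^ (-(i - j))) * w) * (b ^ j)⁻¹ := by group
          _ = b ^ j * (w * (b ^ (i - j) * a * b ^ (-(i - j)))) * (b ^ j)⁻¹ := by rw [h1]
          _ = b ^ j * w * (b ^ j)⁻¹ * (b ^ j * (b ^ (i - j) * a * b ^ (-(i - j))) * (b ^ j)⁻¹) := by
              group
      exact this (Subgroup.mem_zpowers b)
    have hPW : (P : Subgroup G) ≤ Subgroup.normalizer (W : Set G) :=
      hPsup.trans (sup_le (inf_le_right.trans hNW)
        ((Subgroup.zpowers_le (H := Subgroup.normalizer (W : Set G))).mpr hbW))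
    have hP'W : P' ≤ W := tool W inf_le_left hNW hPW hW1
    obtain ⟨x, hxD₁, hx1⟩ := hD₁ne
    apply hx1
    have hxP : x ∈ (P : Subgroup G) := (Subgroup.mem_inf.mp hxD₁).1
    have hxA : x ∈ A := (Subgroup.mem_inf.mp hxD₁).2
    have hcomm : ⁅x, b⁆ ∈ P' := Subgroup.commutator_mem_commutator hxP hbP
    have h1 : ⁅x, b⁆ ∈ Subgroup.centralizer (A : Set G) := by
      have h0 : ⁅x, b⁆ ∈ Subgroup.centralizer 𝒮 := (Subgroup.mem_inf.mp (hP'W hcomm)).2
      rw [mem_centralizer_iff']
      intro a ha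
      rw [Subgroup.mem_centralizer_iff] at h0
      exact h0 a ⟨0, a, ha, by simp⟩
    have h2 : b * x⁻¹ * b⁻¹ ∈ Subgroup.centralizer (A : Set G) := by
      rw [mem_centralizer_iff']
      intro a ha
      exact hgen b hbP hbN a ha _ ⟨x⁻¹, A.inv_mem hxA, rfl⟩
    have h3 : x ∈ Subgroup.centralizer (A : Set G) := by
      have : x = ⁅x, b⁆ * (b * x⁻¹ * b⁻¹)⁻¹ := by rw [commutatorElement_def]; group
      rw [this]
      exact Subgroup.mul_mem _ h1 (Subgroup.inv_mem _ h2)
    have : x ∈ A ⊓ Subgroup.centralizer (A : Set G) := Subgroup.mem_inf.mpr ⟨hxA, h3⟩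
    rw [hZA, Subgroup.mem_bot] at this
    exact this
  -- Step 8: conclusion
  have h1 : Nat.card (H ⊓ C : Subgroup G) * (H ⊓ C).relIndex H = Nat.card H :=
    Cfsg.Agent.Lib.Helper32_Sylow.card_mul_relIndex' inf_le_left
  rw [Subgroup.inf_relIndex_left, hHC, Subgroup.card_bot, one_mul] at h1
  have h2 : C.relIndex H ≤ C.relIndex D := by
    apply Subgroup.relIndex_le_of_le_right inf_le_left
    unfold Subgroup.relIndex
    exact Subgroup.index_ne_zero_of_finite
  rw [← h1]
  exact h2.trans hwr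

end Cfsg.Agent.Lib.Helper54_PSqNonab
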