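import Mathlib
import Cfsg.Prelude.Def_TwoFusion
import Cfsg.Agent.Lib.Helper54_S2221Defs

/-!
# S2221 package PROJ (architect helper54): projections of the two factors to `W j`

`P := ker (epsJ J) = S₁ × S₂`; for `j ∈ J`, `j ≥ 2`, the projection `prj J j : P → W j` is onto,
so by Fact F one of the images of `S₁`, `S₂` is everything and the other one is central.
-/

set_option autoImplicit false

open Cfsg.Agent.Lib.Helper54_S2221Defs

namespace Cfsg.Agent.Lib.Helper55_S2221_PROJ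

/-- the sign of an element supported on one coordinate -/
theorem epsJ_mulSingle (J : Finset ℕ) (j : J) (x : W j.1) :
    epsJ J (Pi.mulSingle j x) = eps j.1 x := by
  rw [epsJ_apply, Finset.prod_eq_single j]
  · rw [Pi.mulSingle_eq_same]
  · intro i _ hij
    rw [Pi.mulSingle_eq_of_ne hij, map_one]
  · intro h
    exact absurd (Finset.mem_univ j) h

/-- a second index `≥ 2` in `J` -/
theorem exists_other (J : Finset ℕ) (h2 : 2 ≤ (J.filter (fun j => 2 ≤ j)).card) (j : J) :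
    ∃ j' : J, j' ≠ j ∧ 2 ≤ j'.1 := by
  have h1 : 1 < (J.filter (fun j => 2 ≤ j)).card := h2
  obtain ⟨a, ha, b, hb, hab⟩ := Finset.one_lt_card.1 h1
  rw [Finset.mem_filter] at ha hb
  by_cases haj : a = j.1
  · refine ⟨⟨b, hb.1⟩, ?_, hb.2⟩
    intro h
    apply hab
    rw [haj, ← h]
  · refine ⟨⟨a, ha.1⟩, ?_, ha.2⟩
    intro h
    apply haj
    rw [← h]

/-- the projection of `ker (epsJ J)` to `W j` is onto -/
theorem prj_surjective (hW : WFacts) (J : Finset ℕ)
    (h2 : 2 ≤ (J.filter (fun j => 2 ≤ j)).card) (j : J) :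
    Function.Surjective (prj J j) := by
  intro x
  rcases Int.units_eq_one_or (eps j.1 x) with hx | hx
  · refine ⟨⟨Pi.mulSingle j x, ?_⟩, ?_⟩
    · rw [MonoidHom.mem_ker, epsJ_mulSingle, hx]
    · rw [prj_apply]
      show (Pi.mulSingle j x : QJ J) j = x
      rw [Pi.mulSingle_eq_same]
  · obtain ⟨j', hj'j, hj'⟩ := exists_other J h2 j
    obtain ⟨t', ht'⟩ := hW.exists_odd j'.1 (by omega)
    refine ⟨⟨Pi.mulSingle j x * Pi.mulSingle j' t', ?_⟩, ?_⟩
    · rw [MonoidHom.mem_ker, map_mul, epsJ_mulSingle, epsJ_mulSingle, hx, ht']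
      rfl
    · rw [prj_apply]
      show (Pi.mulSingle j x * Pi.mulSingle j' t' : QJ J) j = x
      rw [Pi.mul_apply, Pi.mulSingle_eq_same, Pi.mulSingle_eq_of_ne hj'j.symm, mul_one]

section caseB2

variable (hW : WFacts) (J : Finset ℕ) (h1 : 1 ∉ J) (h2 : 2 ≤ (J.filter (fun j => 2 ≤ j)).card)
  (S₁ S₂ : Subgroup ↥(epsJ J).ker) (hcomm : ∀ a ∈ S₁, ∀ b ∈ S₂, a * b = b * a)
  (hinf : S₁ ⊓ S₂ = ⊥) (hsup : S₁ ⊔ S₂ = ⊤)

include hW h2 hcomm hsup in
/-- PROJ: one of the projections of `S₁`, `S₂` to `W j` is onto, the other one is central. -/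
theorem proj_cases (j : J) (hj : 2 ≤ j.1) :
    (S₁.map (prj J j) = ⊤ ∧ S₂.map (prj J j) ≤ Subgroup.center (W j.1)) ∨
    (S₂.map (prj J j) = ⊤ ∧ S₁.map (prj J j) ≤ Subgroup.center (W j.1)) := by
  have hsurj := prj_surjective hW J h2 j
  have hc : ∀ a ∈ S₁.map (prj J j), ∀ b ∈ S₂.map (prj J j), a * b = b * a := by
    rintro a ⟨s, hs, rfl⟩ b ⟨t, ht, rfl⟩
    rw [← map_mul, ← map_mul, hcomm s hs t ht]
  have hs : S₁.map (prj J j) ⊔ S₂.map (prj J j) = ⊤ := by
    rw [← Subgroup.map_sup, hsup, Subgroup.map_top_of_surjective _ hsurj]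
  rcases hW.factF j.1 hj _ _ hc hs with h | h
  · refine Or.inl ⟨h, ?_⟩
    intro b hb
    rw [Subgroup.mem_center_iff]
    intro g
    exact hc g (h ▸ Subgroup.mem_top g) b hb
  · refine Or.inr ⟨h, ?_⟩
    intro a ha
    rw [Subgroup.mem_center_iff]
    intro g
    exact (hc a ha g (h ▸ Subgroup.mem_top g)).symm

end caseB2

end Cfsg.Agent.Lib.Helper55_S2221_PROJ
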