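import Mathlib
import Cfsg.Prelude.Def_TwoFusion
import Cfsg.Agent.Lib.Helper54_S2221Defs

/-!
# S2221 package SIGNJ (architect helper54): the sign of `sigmaCongrRight σ` is the product of the
signs, and `embJ J` is injective
-/

set_option autoImplicit false

open Cfsg.Agent.Lib.Helper54_S2221Defs

namespace Cfsg.Agent.Lib.Helper70_S2221_SIGNJ

section general

variable {ι : Type*} [DecidableEq ι] [Fintype ι] {β : ι → Type*}
  [∀ i, DecidableEq (β i)] [∀ i, Fintype (β i)]

omit [Fintype ι] [∀ i, DecidableEq (β i)] [∀ i, Fintype (β i)] in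
/-- `sigmaCongrRight` of a permutation supported on one fibre -/
theorem sigmaCongrRight_mulSingle (i : ι) (τ : Equiv.Perm (β i)) :
    Equiv.Perm.sigmaCongrRight (Pi.mulSingle i τ) =
      τ.extendDomain (p := fun s : Sigma β => s.1 = i) (Equiv.sigmaSubtype i).symm := by
  ext x : 1
  obtain ⟨a, b⟩ := x
  by_cases h : a = i
  · subst h
    rw [Equiv.Perm.extendDomain_apply_subtype τ (Equiv.sigmaSubtype a).symm
      (show (fun s : Sigma β => s.1 = a) ⟨a, b⟩ from rfl)]
    show (⟨a, (Pi.mulSingle (M := fun i => Equiv.Perm (β i)) a τ a) b⟩ : Sigma β) = _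
    rw [Pi.mulSingle_eq_same]
    rfl
  · rw [Equiv.Perm.extendDomain_apply_not_subtype τ (Equiv.sigmaSubtype i).symm
      (show ¬ (fun s : Sigma β => s.1 = i) ⟨a, b⟩ from h)]
    show (⟨a, (Pi.mulSingle (M := fun i => Equiv.Perm (β i)) i τ a) b⟩ : Sigma β) = _
    rw [Pi.mulSingle_eq_of_ne h]
    rfl

theorem sign_sigmaCongrRight_mulSingle (i : ι) (τ : Equiv.Perm (β i)) :
    Equiv.Perm.sign (Equiv.Perm.sigmaCongrRight (Pi.mulSingle i τ)) = Equiv.Perm.sign τ := by
  rw [sigmaCongrRight_mulSingle, Equiv.Perm.sign_extendDomain]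

/-- the sign of `sigmaCongrRight σ` is the product of the signs -/
theorem sign_sigmaCongrRight (σ : ∀ i, Equiv.Perm (β i)) :
    Equiv.Perm.sign (Equiv.Perm.sigmaCongrRight σ) = ∏ i, Equiv.Perm.sign (σ i) := by
  have key : Equiv.Perm.sign.comp (Equiv.Perm.sigmaCongrRightHom β) =
      ∏ i, Equiv.Perm.sign.comp (Pi.evalMonoidHom (fun i => Equiv.Perm (β i)) i) := by
    apply MonoidHom.pi_ext
    intro i τ
    rw [MonoidHom.comp_apply, MonoidHom.finsetProd_apply]
    show Equiv.Perm.sign (Equiv.Perm.sigmaCongrRight (Pi.mulSingle i τ)) = _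
    rw [sign_sigmaCongrRight_mulSingle, Finset.prod_eq_single i]
    · simp
    · intro j _ hj
      simp [Pi.mulSingle_eq_of_ne hj]
    · intro h
      exact absurd (Finset.mem_univ i) h
  have h := DFunLike.congr_fun key σ
  rw [MonoidHom.comp_apply, MonoidHom.finsetProd_apply] at h
  exact h

end general

theorem sign_embJ (J : Finset ℕ) (f : QJ J) : Equiv.Perm.sign (embJ J f) = epsJ J f := by
  have h1 : embJ J f = Equiv.Perm.sigmaCongrRight (fun j : J => emb j.1 (f j)) := rfl
  rw [h1, sign_sigmaCongrRight]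
  rfl

theorem embJ_injective (J : Finset ℕ) : Function.Injective (embJ J) := by
  intro f g h
  have h1 : Equiv.Perm.sigmaCongrRightHom (fun j : J => (Fin j.1 → C2))
      (fun j : J => emb j.1 (f j)) =
      Equiv.Perm.sigmaCongrRightHom (fun j : J => (Fin j.1 → C2)) (fun j : J => emb j.1 (g j)) := h
  have h2 := Equiv.Perm.sigmaCongrRightHom_injective h1
  funext j
  exact iteratedWreathToPermHomInj C2 j.1 (congrFun h2 j)

end Cfsg.Agent.Lib.Helper70_S2221_SIGNJ
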