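import Mathlib
import Cfsg.Prelude.Def_TwoFusion
import Cfsg.Agent.Lib.Helper54_S2221Defs

/-!
# S2221 package CASEA (helper86, architect helper54)

If `1 ∈ J` then `ker (epsJ J) ≃* QJ (J.erase 1)`: the coordinate at `1` is determined by the others.
-/

set_option autoImplicit false

open Cfsg.Agent.Lib.Helper54_S2221Defs

namespace Cfsg.Agent.Lib.Helper86_S2221_CASEA

/-- splitting off the factor at `1` -/
theorem epsJ_split (J : Finset ℕ) (h1 : 1 ∈ J) (f : QJ J) :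
    epsJ J f = eps 1 (f ⟨1, h1⟩) *
      ∏ j : ↥(J.erase 1), eps j.1 (f ⟨j.1, Finset.mem_of_mem_erase j.2⟩) := by
  classical
  let φ : ℕ → ℤˣ := fun j => if hj : j ∈ J then eps j (f ⟨j, hj⟩) else 1
  have hφ : ∀ j : J, φ j.1 = eps j.1 (f j) := by
    intro j
    show (if hj : j.1 ∈ J then eps j.1 (f ⟨j.1, hj⟩) else 1) = _
    rw [dif_pos j.2]
  have hφ' : ∀ j : ↥(J.erase 1), φ j.1 = eps j.1 (f ⟨j.1, Finset.mem_of_mem_erase j.2⟩) := by
    intro j
    show (if hj : j.1 ∈ J then eps j.1 (f ⟨j.1, hj⟩) else 1) = _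
    rw [dif_pos (Finset.mem_of_mem_erase j.2)]
  have hφ1 : φ 1 = eps 1 (f ⟨1, h1⟩) := by
    show (if hj : 1 ∈ J then eps 1 (f ⟨1, hj⟩) else 1) = _
    rw [dif_pos h1]
  calc epsJ J f = ∏ j : J, eps j.1 (f j) := rfl
    _ = ∏ j : J, φ j.1 := by
        apply Finset.prod_congr rfl
        intro j _
        exact (hφ j).symm
    _ = ∏ j ∈ J, φ j := Finset.prod_coe_sort J φ
    _ = φ 1 * ∏ j ∈ J.erase 1, φ j := (Finset.mul_prod_erase J φ h1).symm
    _ = φ 1 * ∏ j : ↥(J.erase 1), φ j.1 := by rw [Finset.prod_coe_sort (J.erase 1) φ]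
    _ = eps 1 (f ⟨1, h1⟩) *
          ∏ j : ↥(J.erase 1), eps j.1 (f ⟨j.1, Finset.mem_of_mem_erase j.2⟩) := by
        rw [hφ1]
        congr 1
        apply Finset.prod_congr rfl
        intro j _
        exact hφ' j

/-- `eps 1` is injective -/
theorem eps_one_injective (hW : WFacts) : Function.Injective (eps 1) := by
  rw [← MonoidHom.ker_eq_bot_iff]
  have hcard : Nat.card (W 1) = 2 := by
    have := hW.card 1
    simpa using this
  have hfin : Finite (W 1) := Nat.finite_of_card_ne_zero (by rw [hcard]; norm_num)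
  obtain ⟨t, ht⟩ := hW.exists_odd 1 le_rfl
  have hdvd : Nat.card (eps 1).ker ∣ 2 := by
    have := Subgroup.card_subgroup_dvd_card (eps 1).ker
    rwa [hcard] at this
  rcases (Nat.dvd_prime Nat.prime_two).mp hdvd with h | h
  · exact Subgroup.card_eq_one.mp h
  · exfalso
    have htop : (eps 1).ker = ⊤ := by
      rw [← Subgroup.card_eq_iff_eq_top, h, hcard]
    have : t ∈ (eps 1).ker := by rw [htop]; trivial
    rw [MonoidHom.mem_ker, ht] at this
    exact absurd this (by decide)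

/-- `eps 1` is surjective -/
theorem eps_one_surjective (hW : WFacts) (u : ℤˣ) : ∃ x : W 1, eps 1 x = u := by
  rcases Int.units_eq_one_or u with h | h
  · exact ⟨1, by rw [map_one, h]⟩
  · obtain ⟨t, ht⟩ := hW.exists_odd 1 le_rfl
    exact ⟨t, by rw [ht, h]⟩

/-- restriction to the coordinates `≠ 1` -/
noncomputable def res (J : Finset ℕ) : ↥(epsJ J).ker →* QJ (J.erase 1) where
  toFun f := fun j => f.1 ⟨j.1, Finset.mem_of_mem_erase j.2⟩
  map_one' := rfl
  map_mul' _ _ := rfl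

theorem res_injective (hW : WFacts) (J : Finset ℕ) (h1 : 1 ∈ J) : Function.Injective (res J) := by
  intro f g hfg
  have hco : ∀ j : ↥(J.erase 1), f.1 ⟨j.1, Finset.mem_of_mem_erase j.2⟩ =
      g.1 ⟨j.1, Finset.mem_of_mem_erase j.2⟩ := fun j => congrFun hfg j
  have hf : epsJ J f.1 = 1 := MonoidHom.mem_ker.mp f.2
  have hg : epsJ J g.1 = 1 := MonoidHom.mem_ker.mp g.2
  rw [epsJ_split J h1] at hf hg
  have hP : (∏ j : ↥(J.erase 1), eps j.1 (f.1 ⟨j.1, Finset.mem_of_mem_erase j.2⟩)) =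
      ∏ j : ↥(J.erase 1), eps j.1 (g.1 ⟨j.1, Finset.mem_of_mem_erase j.2⟩) := by
    apply Finset.prod_congr rfl
    intro j _
    rw [hco j]
  rw [hP] at hf
  have h11 : eps 1 (f.1 ⟨1, h1⟩) = eps 1 (g.1 ⟨1, h1⟩) := mul_right_cancel (hf.trans hg.symm)
  have h1' : f.1 ⟨1, h1⟩ = g.1 ⟨1, h1⟩ := eps_one_injective hW h11
  apply Subtype.ext
  funext j
  by_cases hj : j.1 = 1
  · have : j = ⟨1, h1⟩ := Subtype.ext hj
    rw [this]; exact h1'
  · exact hco ⟨j.1, Finset.mem_erase.mpr ⟨hj, j.2⟩⟩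

theorem res_surjective (hW : WFacts) (J : Finset ℕ) (h1 : 1 ∈ J) : Function.Surjective (res J) := by
  classical
  intro h
  set P : ℤˣ := ∏ j : ↥(J.erase 1), eps j.1 (h j) with hP
  obtain ⟨t₀, ht₀⟩ := eps_one_surjective hW P
  let f : QJ J := fun j =>
    if hj : j.1 = 1 then (hj.symm ▸ t₀ : W j.1)
    else h ⟨j.1, Finset.mem_erase.mpr ⟨hj, j.2⟩⟩
  have hf1 : f ⟨1, h1⟩ = t₀ := by
    show (if hj : (1 : ℕ) = 1 then (hj.symm ▸ t₀ : W 1) else _) = t₀
    rw [dif_pos rfl]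
  have hfj : ∀ j : ↥(J.erase 1), f ⟨j.1, Finset.mem_of_mem_erase j.2⟩ = h j := by
    intro j
    have hj : j.1 ≠ 1 := (Finset.mem_erase.mp j.2).1
    show (if hj' : j.1 = 1 then (hj'.symm ▸ t₀ : W j.1) else
      h ⟨j.1, Finset.mem_erase.mpr ⟨hj', Finset.mem_of_mem_erase j.2⟩⟩) = h j
    rw [dif_neg hj]
  have hker : f ∈ (epsJ J).ker := by
    rw [MonoidHom.mem_ker, epsJ_split J h1, hf1, ht₀]
    have : (∏ j : ↥(J.erase 1), eps j.1 (f ⟨j.1, Finset.mem_of_mem_erase j.2⟩)) = P := by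
      rw [hP]
      apply Finset.prod_congr rfl
      intro j _
      rw [hfj j]
    rw [this]
    exact Int.units_mul_self P
  refine ⟨⟨f, hker⟩, ?_⟩
  funext j
  exact hfj j

theorem caseA (hW : WFacts) (J : Finset ℕ) (h1 : 1 ∈ J) :
    Nonempty (↥(epsJ J).ker ≃* QJ (J.erase 1)) :=
  ⟨MulEquiv.ofBijective (res J) ⟨res_injective hW J h1, res_surjective hW J h1⟩⟩

end Cfsg.Agent.Lib.Helper86_S2221_CASEA
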