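import Cfsg.Agent.Lib.Helper54_S2221Main
import Cfsg.Agent.Lib.Helper70_S2221_SIGNJ
import Cfsg.Agent.Lib.Helper55_S2221_PROJ
import Cfsg.Agent.Lib.Helper31_S2221_KER2
import Cfsg.Agent.Lib.Helper51_S2221_STEP4
import Cfsg.Agent.Lib.Helper51_S2221_STEP5
import Cfsg.Agent.Lib.Helper86_S2221_CASEA

/-!
# S2221: final assembly (architect helper54)
-/

set_option autoImplicit false

open Cfsg.Agent.Lib.Helper54_S2221Defs Cfsg.Agent.Lib.Helper54_S2221Main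

namespace Cfsg.Agent.Lib.Helper54_S2221Final

theorem wfacts : WFacts :=
  wfacts_of (Cfsg.Agent.Lib.Helper31_S2221_KER2.dec_ker_two
    (fun w => Cfsg.Agent.Lib.Helper54_S2221_SIGNSTEP.eps_succ 0 w)
    Cfsg.Agent.Lib.Helper54_S2221_SIGNSTEP.eps_one)

theorem b2facts : B2Facts wfacts where
  proj := fun J h2 S₁ S₂ hcomm hsup j hj =>
    Cfsg.Agent.Lib.Helper55_S2221_PROJ.proj_cases wfacts J h2 S₁ S₂ hcomm hsup j hj
  step4 := fun J h1 h2 S₁ S₂ hcomm hinf hsup hall =>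
    Cfsg.Agent.Lib.Helper51_S2221_STEP4.step4 wfacts J h1 h2 S₁ S₂ hcomm hinf hsup hall
  step5 := fun J h1 S₁ S₂ hcomm hsup i j hi hj hij hside hi' hj' =>
    Cfsg.Agent.Lib.Helper51_S2221_STEP5.step5 wfacts J h1 S₁ S₂ hcomm hsup i j hi hj hij hside hi' hj'

theorem main (n : ℕ) (hn : 4 ≤ n) (P : Sylow 2 (alternatingGroup (Fin n))) :
    (∃ S₁ S₂ : Subgroup (alternatingGroup (Fin n)), S₁ ≠ ⊥ ∧ S₂ ≠ ⊥ ∧
        Cfsg.IsInternalDirectProduct S₁ S₂ (P : Subgroup (alternatingGroup (Fin n)))) ↔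
      (n = 4 ∨ n = 5 ∨ ((n % 4 = 2 ∨ n % 4 = 3) ∧ ∀ r : ℕ, 4 * (n / 4) ≠ 2 ^ r)) :=
  main_of wfacts b2facts Cfsg.Agent.Lib.Helper70_S2221_SIGNJ.sign_embJ
    Cfsg.Agent.Lib.Helper70_S2221_SIGNJ.embJ_injective
    (fun J h1 => Cfsg.Agent.Lib.Helper86_S2221_CASEA.caseA wfacts J h1) n hn P

end Cfsg.Agent.Lib.Helper54_S2221Final
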