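import Mathlib
import Cfsg.Prelude.Def_TwoFusion
import Cfsg.Agent.Lib.Helper54_S2221Defs

/-!
# S2221, package DECQ: `∏_{j ∈ J} W j` is decomposable iff it has at least two nontrivial factors
-/

set_option autoImplicit false

open Cfsg.Agent.Lib.Helper54_S2221Defs

namespace Cfsg.Agent.Lib.Helper54_S2221_DECQ

theorem exists_ne_one (hW : WFacts) (k : ℕ) (hk : 1 ≤ k) : ∃ x : W k, x ≠ 1 := by
  have h : 1 < Nat.card (W k) := by
    rw [hW.card]
    have : 1 ≤ 2 ^ k - 1 := by
      have := Nat.one_lt_two_pow (n := k) (by omega)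
      omega
    calc 1 < 2 ^ 1 := by norm_num
      _ ≤ 2 ^ (2 ^ k - 1) := Nat.pow_le_pow_right (by norm_num) this
  have := (Finite.one_lt_card_iff_nontrivial).mp h
  exact exists_ne 1

theorem subsingleton_W_zero (k : ℕ) (hk : k = 0) : Subsingleton (W k) := by
  subst hk
  exact (inferInstance : Subsingleton PUnit)

/-- the element of `QJ J` with the single coordinate `x` at `j` -/
noncomputable def sg (J : Finset ℕ) (j : J) : W j.1 →* QJ J := by
  classical
  exact MonoidHom.mulSingle (fun j : J => W j.1) j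

theorem sg_same (J : Finset ℕ) (j : J) (x : W j.1) : sg J j x j = x := by
  classical
  unfold sg
  simp

theorem sg_ne (J : Finset ℕ) (j j' : J) (h : j' ≠ j) (x : W j.1) : sg J j x j' = 1 := by
  classical
  unfold sg
  simp [Pi.mulSingle_eq_of_ne h]

theorem dec_of_two (hW : WFacts) (J : Finset ℕ) (j₁ j₂ : J) (h1 : 1 ≤ j₁.1) (h2 : 1 ≤ j₂.1)
    (hne : j₁ ≠ j₂) : Dec (QJ J) := by
  refine ⟨(sg J j₁).range, (Pi.evalMonoidHom (fun j : J => W j.1) j₁).ker, ?_, ?_, ?_, ?_, ?_⟩
  · obtain ⟨x, hx⟩ := exists_ne_one hW j₁.1 h1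
    intro h
    have hm : sg J j₁ x ∈ (sg J j₁).range := ⟨x, rfl⟩
    rw [h, Subgroup.mem_bot] at hm
    apply hx
    have := congrFun hm j₁
    rw [sg_same] at this
    exact this
  · obtain ⟨y, hy⟩ := exists_ne_one hW j₂.1 h2
    intro h
    have hm : sg J j₂ y ∈ (Pi.evalMonoidHom (fun j : J => W j.1) j₁).ker := by
      rw [MonoidHom.mem_ker]
      show sg J j₂ y j₁ = 1
      exact sg_ne J j₂ j₁ hne y
    rw [h, Subgroup.mem_bot] at hm
    apply hy
    have := congrFun hm j₂
    rw [sg_same] at this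
    exact this
  · rintro a ⟨x, rfl⟩ b hb
    rw [MonoidHom.mem_ker] at hb
    have hb' : b j₁ = 1 := hb
    funext j
    by_cases hj : j = j₁
    · subst hj
      show sg J j x j * b j = b j * sg J j x j
      rw [hb', mul_one, one_mul]
    · show sg J j₁ x j * b j = b j * sg J j₁ x j
      rw [sg_ne J j₁ j hj, mul_one, one_mul]
  · rw [eq_bot_iff]
    rintro f ⟨⟨x, rfl⟩, hf⟩
    have hf' : sg J j₁ x j₁ = 1 := hf
    rw [sg_same] at hf'
    rw [Subgroup.mem_bot, hf', map_one]
  · rw [eq_top_iff]
    intro f _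
    have hf : f = sg J j₁ (f j₁) * ((sg J j₁ (f j₁))⁻¹ * f) := by
      rw [mul_inv_cancel_left]
    rw [hf]
    refine Subgroup.mul_mem_sup ⟨f j₁, rfl⟩ ?_
    rw [MonoidHom.mem_ker]
    show (sg J j₁ (f j₁))⁻¹ j₁ * f j₁ = 1
    rw [Pi.inv_apply, sg_same, inv_mul_cancel]

theorem not_dec_of_subsingleton {H : Type*} [Group H] [Subsingleton H] : ¬ Dec H := by
  rintro ⟨S₁, S₂, h1, -⟩
  exact h1 (Subsingleton.elim _ _)

theorem dec_QJ (hW : WFacts) (hcyc : ∀ k, 1 ≤ k → ¬ Dec (W k))
    (hcongr : ∀ {H K : Type} [Group H] [Group K], (H ≃* K) → (Dec H ↔ Dec K)) (J : Finset ℕ) :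
    Dec (QJ J) ↔ 2 ≤ (J.filter (fun j => 1 ≤ j)).card := by
  classical
  constructor
  · intro hdec
    by_contra hcard
    have hle : (J.filter (fun j => 1 ≤ j)).card ≤ 1 := by omega
    rcases Nat.eq_zero_or_pos (J.filter (fun j => 1 ≤ j)).card with h0 | hpos
    · -- all factors trivial
      rw [Finset.card_eq_zero] at h0
      have hall : ∀ j : J, j.1 = 0 := by
        intro j
        by_contra hj
        have : j.1 ∈ J.filter (fun j => 1 ≤ j) := by
          rw [Finset.mem_filter]
          exact ⟨j.2, by omega⟩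
        rw [h0] at this
        simp at this
      have : Subsingleton (QJ J) := by
        refine ⟨fun f g => ?_⟩
        funext j
        have := subsingleton_W_zero j.1 (hall j)
        exact Subsingleton.elim _ _
      exact not_dec_of_subsingleton hdec
    · have h1 : (J.filter (fun j => 1 ≤ j)).card = 1 := by omega
      obtain ⟨k, hk⟩ := Finset.card_eq_one.mp h1
      have hkmem : k ∈ J.filter (fun j => 1 ≤ j) := by rw [hk]; exact Finset.mem_singleton_self k
      rw [Finset.mem_filter] at hkmem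
      let jk : J := ⟨k, hkmem.1⟩
      have hother : ∀ j : J, j ≠ jk → j.1 = 0 := by
        intro j hj
        by_contra hj0
        have : j.1 ∈ J.filter (fun j => 1 ≤ j) := by
          rw [Finset.mem_filter]
          exact ⟨j.2, by omega⟩
        rw [hk, Finset.mem_singleton] at this
        exact hj (Subtype.ext this)
      have hinj : Function.Injective (Pi.evalMonoidHom (fun j : J => W j.1) jk) := by
        intro f g hfg
        funext j
        by_cases hj : j = jk
        · subst hj; exact hfg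
        · have := subsingleton_W_zero j.1 (hother j hj)
          exact Subsingleton.elim _ _
      have hsurj : Function.Surjective (Pi.evalMonoidHom (fun j : J => W j.1) jk) := by
        intro x
        exact ⟨sg J jk x, sg_same J jk x⟩
      let e : QJ J ≃* W k := MulEquiv.ofBijective (Pi.evalMonoidHom (fun j : J => W j.1) jk) ⟨hinj, hsurj⟩
      exact hcyc k hkmem.2 ((hcongr e).mp hdec)
  · intro h
    obtain ⟨a, ha, b, hb, hab⟩ := Finset.one_lt_card.mp (by omega : 1 < (J.filter (fun j => 1 ≤ j)).card)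
    rw [Finset.mem_filter] at ha hb
    exact dec_of_two hW J ⟨a, ha.1⟩ ⟨b, hb.1⟩ ha.2 hb.2 (fun h => hab (congrArg Subtype.val h))

end Cfsg.Agent.Lib.Helper54_S2221_DECQ
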