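import Mathlib
import Cfsg.Prelude.Def_TwoFusion
import Cfsg.Agent.Lib.Helper54_S2221Defs

/-!
# S2221, package SIGNSTEP: the sign of the wreath action
-/

set_option autoImplicit false

open Cfsg.Agent.Lib.Helper54_S2221Defs

namespace Cfsg.Agent.Lib.Helper54_S2221_SIGNSTEP

/-- the sign of the permutation of `Λ × C2` attached to an element of a regular wreath product -/
theorem sign_toPerm {D Λ : Type*} [Group D] [MulAction D Λ] [Fintype Λ] [DecidableEq Λ]
    (w : D ≀ᵣ C2) :
    Equiv.Perm.sign (RegularWreathProduct.toPerm D C2 Λ w) =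
      (∏ q : C2, Equiv.Perm.sign (MulAction.toPerm (w.left q) : Equiv.Perm Λ)) *
        (Equiv.Perm.sign (Equiv.mulLeft w.right)) ^ Fintype.card Λ := by
  have h : RegularWreathProduct.toPerm D C2 Λ w =
      (Equiv.prodCongrLeft (fun q : C2 => (MulAction.toPerm (w.left q) : Equiv.Perm Λ))) *
        (Equiv.prodCongrRight (fun _ : Λ => Equiv.mulLeft w.right)) := by
    ext ⟨l, q⟩ <;> rfl
  rw [h, Equiv.Perm.sign_mul, Equiv.Perm.sign_prodCongrLeft, Equiv.Perm.sign_prodCongrRight,
    Finset.prod_const, Finset.card_univ]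

theorem emb_succ (n : ℕ) (w : W n ≀ᵣ C2) :
    emb (n + 1) w =
      (Fin.succFunEquiv C2 n).symm.permCongr
        (letI := MulAction.compHom (Fin n → C2) (emb n)
         RegularWreathProduct.toPerm (W n) C2 (Fin n → C2) w) := rfl

theorem eps_succ_general (n : ℕ) (w : W n ≀ᵣ C2) :
    eps (n + 1) w =
      (∏ q : C2, eps n (w.left q)) * (Equiv.Perm.sign (Equiv.mulLeft w.right)) ^ (2 ^ n) := by
  have h0 : eps (n + 1) w = Equiv.Perm.sign (emb (n + 1) w) := rfl
  rw [h0, emb_succ, Equiv.Perm.sign_permCongr]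
  letI := MulAction.compHom (Fin n → C2) (emb n)
  rw [sign_toPerm]
  congr 1
  · apply Finset.prod_congr rfl
    intro q _
    show Equiv.Perm.sign (MulAction.toPerm (w.left q)) = Equiv.Perm.sign (emb n (w.left q))
    congr 1
    ext x
    rfl
  · rw [Fintype.card_fun, Fintype.card_fin]
    rfl

theorem eps_succ' (k : ℕ) (w : W (k + 1) ≀ᵣ C2) : eps (k + 2) w = wrSign (eps (k + 1)) w := by
  rw [eps_succ_general (k + 1) w, pow_succ, pow_mul, Int.units_sq, mul_one]
  rfl

theorem eps_succ (k : ℕ) (w : W (k + 2)) : eps (k + 2) w = wrSign (eps (k + 1)) w :=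
  eps_succ' k w

theorem eps_zero (w : W 0) : eps 0 w = 1 := by
  have : w = 1 := rfl
  rw [this, map_one]

theorem eps_one' (w : W 0 ≀ᵣ C2) : eps 1 w = if w.right = 1 then 1 else -1 := by
  rw [eps_succ_general 0 w, pow_zero, pow_one]
  have h1 : (∏ q : C2, eps 0 (w.left q)) = 1 := by
    apply Finset.prod_eq_one
    intro q _
    exact eps_zero _
  rw [h1, one_mul]
  generalize w.right = e
  revert e
  decide

theorem eps_one (w : W 1) : eps 1 w = if RegularWreathProduct.right w = 1 then 1 else -1 :=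
  eps_one' w

end Cfsg.Agent.Lib.Helper54_S2221_SIGNSTEP
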