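import Mathlib
import Cfsg.Prelude.Def_TwoFusion
import Cfsg.Agent.Lib.Helper54_S2221Defs

/-!
# S2221, package SYLOW: every Sylow 2-subgroup of `A_n` is isomorphic to `ker (epsJ (bits n))`
-/

set_option autoImplicit false

open Cfsg.Agent.Lib.Helper54_S2221Defs

namespace Cfsg.Agent.Lib.Helper54_S2221_SYLOW

theorem sum_sub_one (J : Finset ℕ) : ∑ j ∈ J, (2 ^ j - 1) + J.card = ∑ j ∈ J, 2 ^ j := by
  rw [Finset.card_eq_sum_ones, ← Finset.sum_add_distrib]
  apply Finset.sum_congr rfl
  intro j _
  have : 1 ≤ 2 ^ j := Nat.one_le_two_pow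
  omega

theorem exists_equiv (n : ℕ) (hn : 2 ≤ n)
    (hcardBlk : Fintype.card (Blk (bits n)) = n)
    (hleg : (Nat.factorial n).factorization 2 = n - (bits n).card)
    (hsum : ∑ j ∈ bits n, 2 ^ j = n)
    (hcardQ : Nat.card (QJ (bits n)) = 2 ^ (∑ j ∈ bits n, (2 ^ j - 1)))
    (hker : 2 * Nat.card ↥(epsJ (bits n)).ker = Nat.card (QJ (bits n)))
    (hsign : ∀ f : QJ (bits n), Equiv.Perm.sign (embJ (bits n) f) = epsJ (bits n) f)
    (hinj : Function.Injective (embJ (bits n)))
    (P : Sylow 2 (alternatingGroup (Fin n))) :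
    Nonempty (↥(P : Subgroup (alternatingGroup (Fin n))) ≃* ↥(epsJ (bits n)).ker) := by
  classical
  set J := bits n with hJ
  -- transport to `Fin n`
  let e : Blk J ≃ Fin n := Fintype.equivFinOfCardEq hcardBlk
  let φ : QJ J →* Equiv.Perm (Fin n) := e.permCongrHom.toMonoidHom.comp (embJ J)
  have hφinj : Function.Injective φ := by
    intro a b hab
    apply hinj
    exact e.permCongrHom.injective hab
  have hφsign : ∀ f : QJ J, Equiv.Perm.sign (φ f) = epsJ J f := by
    intro f
    show Equiv.Perm.sign (e.permCongr (embJ J f)) = _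
    rw [Equiv.Perm.sign_permCongr, hsign]
  let ψ : ↥(epsJ J).ker →* alternatingGroup (Fin n) :=
    (φ.comp (epsJ J).ker.subtype).codRestrict (alternatingGroup (Fin n)) (by
      intro f
      rw [Equiv.Perm.mem_alternatingGroup]
      show Equiv.Perm.sign (φ f.1) = 1
      rw [hφsign]
      exact f.2)
  have hψinj : Function.Injective ψ := by
    intro a b hab
    apply Subtype.ext
    apply hφinj
    exact congrArg Subtype.val hab
  -- the numbers
  have hs : ∑ j ∈ J, (2 ^ j - 1) = n - J.card := by
    have := sum_sub_one J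
    rw [hsum] at this
    omega
  have hv : 1 ≤ n - J.card := by
    rw [← hleg]
    have h2 : 2 ∣ Nat.factorial n := Nat.dvd_factorial (by norm_num) hn
    exact (Nat.Prime.dvd_iff_one_le_factorization Nat.prime_two (Nat.factorial_ne_zero n)).mp h2
  have hkercard : Nat.card ↥(epsJ J).ker = 2 ^ (n - J.card - 1) := by
    rw [hcardQ, hs] at hker
    have : 2 ^ (n - J.card) = 2 * 2 ^ (n - J.card - 1) := by
      rw [← pow_succ']
      congr 1
      omega
    rw [this] at hker
    omega
  have hA : 2 * Nat.card (alternatingGroup (Fin n)) = Nat.factorial n := by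
    haveI : Nontrivial (Fin n) := Fin.nontrivial_iff_two_le.mpr hn
    rw [Nat.card_eq_fintype_card, two_mul_card_alternatingGroup, Fintype.card_perm, Fintype.card_fin]
  have hAne : Nat.card (alternatingGroup (Fin n)) ≠ 0 := Nat.card_pos.ne'
  have hAfact : (Nat.card (alternatingGroup (Fin n))).factorization 2 = n - J.card - 1 := by
    have h1 : (2 * Nat.card (alternatingGroup (Fin n))).factorization 2 = n - J.card := by
      rw [hA, hleg]
    rw [Nat.factorization_mul (by norm_num) hAne, Finsupp.add_apply,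
      Nat.Prime.factorization_self Nat.prime_two] at h1
    omega
  have hRcard : Nat.card ψ.range = 2 ^ (Nat.card (alternatingGroup (Fin n))).factorization 2 := by
    rw [hAfact, ← hkercard]
    exact Nat.card_congr (MonoidHom.ofInjective hψinj).symm.toEquiv
  let P' : Sylow 2 (alternatingGroup (Fin n)) := Sylow.ofCard ψ.range hRcard
  exact ⟨(P.equiv P').trans (MonoidHom.ofInjective hψinj).symm⟩

end Cfsg.Agent.Lib.Helper54_S2221_SYLOW
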