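import Mathlib
import Cfsg.Prelude.Def_TwoFusion
import Cfsg.Agent.Lib.Helper54_S2221Defs

/-!
# S2221 package WRZKER (architect helper54): the centre of `ker (wrSign ε)` in `D ≀ᵣ C2`

If `|Z(D)| = 2` and `ker ε ≠ 1` then the centre of `A' := ker (wrSign ε)` has order 2: it is
the diagonal copy of `Z(D)`.
-/

set_option autoImplicit false

open Cfsg.Agent.Lib.Helper54_S2221Defs

namespace Cfsg.Agent.Lib.Helper55_S2221_WRZKER

section generic

variable {D : Type*} [Group D] [Finite D]

/-- the nontrivial element of `C2` -/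
def tau : C2 := Multiplicative.ofAdd 1

theorem c2_cases (q : C2) : q = 1 ∨ q = tau := by
  revert q; decide

theorem tau_ne_one : tau ≠ (1 : C2) := by decide

theorem tau_inv : tau⁻¹ = tau := by decide

theorem tau_mul_self : tau * tau = 1 := by decide

theorem prod_c2 {M : Type*} [CommMonoid M] (f : C2 → M) : ∏ q : C2, f q = f 1 * f tau := by
  have h : (Finset.univ : Finset C2) = {1, tau} := by decide
  rw [h, Finset.prod_insert (by decide), Finset.prod_singleton]

omit [Finite D] in
theorem const_mem_ker (ε : D →* ℤˣ) (x : D) :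
    (⟨fun _ => x, 1⟩ : D ≀ᵣ C2) ∈ (wrSign ε).ker := by
  rw [MonoidHom.mem_ker, wrSign_apply, prod_c2]
  exact Int.units_mul_self _

omit [Finite D] in
theorem update_mem_ker (ε : D →* ℤˣ) (x : D) (hx : ε x = 1) :
    (⟨Function.update 1 1 x, 1⟩ : D ≀ᵣ C2) ∈ (wrSign ε).ker := by
  rw [MonoidHom.mem_ker, wrSign_apply, prod_c2]
  simp [Function.update_of_ne tau_ne_one, hx]

omit [Finite D] in
theorem inl_mem_ker (ε : D →* ℤˣ) (e : C2) :
    (RegularWreathProduct.inl e : D ≀ᵣ C2) ∈ (wrSign ε).ker := by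
  rw [MonoidHom.mem_ker, wrSign_apply]
  simp

omit [Finite D] in
/-- the centre of `ker (wrSign ε)` is the diagonal copy of `Z(D)` -/
theorem center_ker_iff (ε : D →* ℤˣ) (hker : ε.ker ≠ ⊥) (c : ↥(wrSign ε).ker) :
    c ∈ Subgroup.center ↥(wrSign ε).ker ↔
      ∃ x ∈ Subgroup.center D, c.1 = ⟨fun _ => x, 1⟩ := by
  constructor
  · intro hc
    rw [Subgroup.mem_center_iff] at hc
    obtain ⟨⟨u, e⟩, hcm⟩ := c
    have he : e = 1 := by
      by_contra hne
      obtain ⟨x, hx, hx1⟩ : ∃ x ∈ ε.ker, x ≠ 1 := by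
        by_contra h
        push Not at h
        exact hker ((Subgroup.eq_bot_iff_forall _).2 h)
      have h1 := hc ⟨_, update_mem_ker ε x hx⟩
      have h2 := congrFun (congrArg RegularWreathProduct.left (congrArg Subtype.val h1)) e
      simp [Function.update_of_ne hne] at h2
      exact hx1 h2
    subst he
    have hu : u tau = u 1 := by
      have h1 := hc ⟨_, inl_mem_ker ε tau⟩
      have h2 := congrFun (congrArg RegularWreathProduct.left (congrArg Subtype.val h1)) tau
      simp [tau_inv, tau_mul_self] at h2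
      exact h2.symm
    have hconst : u = fun _ => u 1 := by
      funext q
      rcases c2_cases q with rfl | rfl
      · rfl
      · exact hu
    refine ⟨u 1, ?_, ?_⟩
    · rw [Subgroup.mem_center_iff]
      intro d
      rcases Int.units_eq_one_or (ε d) with hd | hd
      · have h1 := hc ⟨_, update_mem_ker ε d hd⟩
        have h2 := congrFun (congrArg RegularWreathProduct.left (congrArg Subtype.val h1)) 1
        simpa using h2
      · have h1 := hc ⟨_, const_mem_ker ε d⟩
        have h2 := congrFun (congrArg RegularWreathProduct.left (congrArg Subtype.val h1)) 1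
        simpa using h2
    · show (⟨u, 1⟩ : D ≀ᵣ C2) = _
      rw [← hconst]
  · rintro ⟨x, hx, hcx⟩
    rw [Subgroup.mem_center_iff] at hx ⊢
    intro g
    apply Subtype.ext
    show g.1 * c.1 = c.1 * g.1
    rw [hcx]
    ext q
    · simp [hx (g.1.left q)]
    · simp

/-- WRZKER: the centre of `ker (wrSign ε)` has order 2. -/
theorem card_center_ker_wr (hZ : Nat.card (Subgroup.center D) = 2) (ε : D →* ℤˣ)
    (hodd : ∃ t : D, ε t = -1) (hker : ε.ker ≠ ⊥) :
    Nat.card (Subgroup.center ↥(wrSign ε).ker) = 2 := by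
  have _ := hodd
  refine Eq.trans (Eq.symm ?_) hZ
  let φ : Subgroup.center D → Subgroup.center ↥(wrSign ε).ker := fun x =>
    ⟨⟨⟨fun _ => x.1, 1⟩, const_mem_ker ε x.1⟩,
      (center_ker_iff ε hker _).2 ⟨x.1, x.2, rfl⟩⟩
  refine Nat.card_congr (Equiv.ofBijective φ ⟨?_, ?_⟩)
  · intro x y hxy
    have h1 := congrFun (congrArg RegularWreathProduct.left
      (congrArg Subtype.val (congrArg Subtype.val hxy))) 1
    exact Subtype.ext h1
  · intro c
    obtain ⟨x, hx, hcx⟩ := (center_ker_iff ε hker c.1).1 c.2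
    refine ⟨⟨x, hx⟩, ?_⟩
    apply Subtype.ext
    apply Subtype.ext
    exact hcx.symm

end generic

end Cfsg.Agent.Lib.Helper55_S2221_WRZKER
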