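/-
helper79 — package CARDQ of helper54's S2221 market: the orders of `∏ W_j` and of the kernel of
the product sign.
-/
import Mathlib
import Cfsg.Prelude.Def_TwoFusion
import Cfsg.Agent.Lib.Helper54_S2221Defs

set_option autoImplicit false

open Cfsg.Agent.Lib.Helper54_S2221Defs

namespace Cfsg.Agent.Lib.Helper79_S2221_CARDQ

theorem card_QJ (hW : WFacts) (J : Finset ℕ) : Nat.card (QJ J) = 2 ^ (∑ j ∈ J, (2 ^ j - 1)) := by
  rw [Nat.card_pi]
  simp only [hW.card]
  rw [Finset.prod_pow_eq_pow_sum]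
  congr 1
  exact Finset.sum_coe_sort J (fun j => 2 ^ j - 1)

theorem epsJ_surjective (hW : WFacts) (J : Finset ℕ) (hJ : ∃ j ∈ J, 1 ≤ j) :
    Function.Surjective (epsJ J) := by
  classical
  obtain ⟨j, hjJ, hj1⟩ := hJ
  obtain ⟨t, ht⟩ := hW.exists_odd j hj1
  have hneg : epsJ J (Pi.mulSingle (⟨j, hjJ⟩ : J) t) = -1 := by
    rw [epsJ_apply]
    rw [Finset.prod_eq_single (⟨j, hjJ⟩ : J)]
    · rw [Pi.mulSingle_eq_same]
      exact ht
    · intro i _ hi
      rw [Pi.mulSingle_eq_of_ne hi, map_one]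
    · intro h
      exact absurd (Finset.mem_univ _) h
  intro u
  rcases Int.units_eq_one_or u with h | h
  · exact ⟨1, by rw [map_one, h]⟩
  · exact ⟨_, by rw [hneg, h]⟩

theorem card_ker (hW : WFacts) (J : Finset ℕ) (hJ : ∃ j ∈ J, 1 ≤ j) :
    2 * Nat.card ↥(epsJ J).ker = Nat.card (QJ J) := by
  have hsurj := epsJ_surjective hW J hJ
  have h1 := Subgroup.card_mul_index (epsJ J).ker
  have h2 : (epsJ J).ker.index = 2 := by
    rw [Subgroup.index_ker, MonoidHom.range_eq_top.2 hsurj, Subgroup.card_top,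
      Nat.card_eq_fintype_card, Fintype.card_units_int]
  rw [h2] at h1
  rw [← h1, mul_comm]

end Cfsg.Agent.Lib.Helper79_S2221_CARDQ
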