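import Mathlib
import Cfsg.Prelude.Def_TwoFusion
import Cfsg.Agent.Lib.Helper54_S2221Defs

/-!
# S2221 package WRCENTER (architect helper54): the centre of `D ≀ᵣ C2`.
-/

set_option autoImplicit false
open Cfsg.Agent.Lib.Helper54_S2221Defs

namespace Cfsg.Agent.Lib.Helper99_S2221_WRCENTER

theorem c2_cases (x : C2) : x = 1 ∨ x = Multiplicative.ofAdd 1 := by revert x; decide
theorem c2_tau_ne : (Multiplicative.ofAdd 1 : C2) ≠ 1 := by decide
theorem c2_inv (e : C2) : e⁻¹ = e := by revert e; decide
theorem c2_mul_self (e : C2) : e * e = 1 := by revert e; decide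
theorem c2_mul_ne (e q : C2) (he : e ≠ 1) : e * q ≠ q := by revert e q; decide
theorem c2_two (e x y : C2) (he : e ≠ 1) : y = x ∨ y = e * x := by revert e x y; decide
theorem c2_card : Fintype.card C2 = 2 := by decide
theorem c2_inv_mul_of_ne (s t : C2) (hs : s ≠ 1) (ht : t ≠ 1) : s⁻¹ * t = 1 := by
  revert s t; decide

section generic

open scoped commutatorElement

variable {D : Type*}

/-- the base element `⟨f, 1⟩`. -/
def base (f : C2 → D) : D ≀ᵣ C2 := ⟨f, 1⟩

@[simp] theorem base_left (f : C2 → D) : (base f).left = f := rfl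
@[simp] theorem base_right (f : C2 → D) : (base f).right = 1 := rfl

theorem eq_base_of_right (w : D ≀ᵣ C2) (h : w.right = 1) : w = base w.left := by
  ext x
  · rfl
  · exact h

variable [Group D]

theorem base_mul (f h : C2 → D) : base f * base h = base (f * h) := by
  ext x <;> simp [base]

theorem base_inv (f : C2 → D) : (base f)⁻¹ = base f⁻¹ := by
  ext x <;> simp [base]

theorem base_one : base (1 : C2 → D) = 1 := rfl

/-- conjugation of a base element. -/
theorem conj_base (g : D ≀ᵣ C2) (f : C2 → D) :
    g * base f * g⁻¹ = base (fun x => g.left x * f (g.right⁻¹ * x) * (g.left x)⁻¹) := by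
  ext x
  · simp [base, mul_assoc]
  · simp [base]

/-- a constant central function is central. -/
theorem const_mem_center (x : D) (hx : x ∈ Subgroup.center D) :
    base (fun _ : C2 => x) ∈ Subgroup.center (D ≀ᵣ C2) := by
  rw [Subgroup.mem_center_iff]
  intro v
  rw [Subgroup.mem_center_iff] at hx
  ext y
  · simp [base, hx]
  · simp [base]

theorem center_wr [Nontrivial D] (w : D ≀ᵣ C2) :
    w ∈ Subgroup.center (D ≀ᵣ C2) ↔ w.right = 1 ∧ ∃ x ∈ Subgroup.center D, w.left = fun _ => x := by
  constructor
  · intro hw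
    rw [Subgroup.mem_center_iff] at hw
    obtain ⟨d, hd⟩ := exists_ne (1 : D)
    have he : w.right = 1 := by
      by_contra he
      have hne : w.right⁻¹ * 1 ≠ 1 := by
        rw [c2_inv]; exact c2_mul_ne _ _ he
      have h := hw (base (Function.update 1 (w.right⁻¹ * 1) d))
      have h1 := congrArg (fun t => t.left 1) h
      simp only [RegularWreathProduct.mul_left, Pi.mul_apply, base_left, base_right, inv_one,
        one_mul] at h1
      rw [Function.update_of_ne (Ne.symm hne)] at h1
      simp only [Pi.one_apply, one_mul] at h1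
      rw [Function.update_self] at h1
      exact hd (by simpa using h1.symm)
    have hcen : ∀ q, w.left q ∈ Subgroup.center D := by
      intro q
      rw [Subgroup.mem_center_iff]
      intro d'
      have h := hw (base (Function.update 1 q d'))
      have h1 := congrArg (fun t => t.left q) h
      simp only [RegularWreathProduct.mul_left, Pi.mul_apply, base_left, base_right, inv_one,
        one_mul, he, Function.update_self] at h1
      exact h1
    have hconst : ∀ q, w.left q = w.left 1 := by
      have h := hw (RegularWreathProduct.inl (Multiplicative.ofAdd 1))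
      intro q
      rcases c2_cases q with rfl | rfl
      · rfl
      · have h1 := congrArg (fun t => t.left 1) h
        simp only [RegularWreathProduct.mul_left, Pi.mul_apply, RegularWreathProduct.left_inl,
          RegularWreathProduct.right_inl, Pi.one_apply, one_mul, mul_one, he, inv_one] at h1
        rw [c2_inv] at h1
        simpa using h1
    exact ⟨he, w.left 1, hcen 1, funext hconst⟩
  · rintro ⟨he, x, hx, hl⟩
    have : w = base (fun _ => x) := by
      rw [eq_base_of_right w he, hl]
    rw [this]
    exact const_mem_center x hx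

theorem card_center_wr [Nontrivial D] :
    Nat.card (Subgroup.center (D ≀ᵣ C2)) = Nat.card (Subgroup.center D) := by
  symm
  refine Nat.card_congr
    { toFun := fun x => ⟨base (fun _ => x.1), const_mem_center x.1 x.2⟩
      invFun := fun w => ⟨w.1.left 1, ?_⟩
      left_inv := fun x => rfl
      right_inv := ?_ }
  · obtain ⟨_, x, hx, hl⟩ := (center_wr w.1).1 w.2
    rw [hl]; exact hx
  · intro w
    obtain ⟨he, x, hx, hl⟩ := (center_wr w.1).1 w.2
    apply Subtype.ext
    show base (fun _ => w.1.left 1) = w.1
    conv_rhs => rw [eq_base_of_right w.1 he]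
    rw [hl]

theorem center_le_ker_wr [Nontrivial D] (ε : D →* ℤˣ) :
    Subgroup.center (D ≀ᵣ C2) ≤ (wrSign ε).ker := by
  intro w hw
  obtain ⟨he, x, hx, hl⟩ := (center_wr w).1 hw
  rw [MonoidHom.mem_ker, wrSign_apply, hl]
  rw [Finset.prod_const, Finset.card_univ, c2_card, pow_two]
  exact Int.units_mul_self _

theorem wrSign_inl (ε : D →* ℤˣ) (q : C2) : wrSign ε (RegularWreathProduct.inl q) = 1 := by
  rw [wrSign_apply]
  simp

/-- the key commutator: `⟨const z, 1⟩ = ⁅⟨update 1 1 z, 1⟩, inl τ⁆` for `z * z = 1`. -/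
theorem const_eq_commutator (z : D) (hz : z * z = 1) :
    base (fun _ : C2 => z) =
      ⁅base (Function.update 1 1 z), (RegularWreathProduct.inl (Multiplicative.ofAdd 1) : D ≀ᵣ C2)⁆ := by
  have hzi : z⁻¹ = z := inv_eq_of_mul_eq_one_right hz
  rw [commutatorElement_def]
  ext x
  · rcases c2_cases x with rfl | rfl
    · simp [base, c2_inv]
    · simp [base, c2_inv, c2_mul_self, hzi]
  · simp [base]

theorem center_le_comm_wr [Finite D] (hZ : Nat.card (Subgroup.center D) = 2) (ε : D →* ℤˣ) :
    Subgroup.center (D ≀ᵣ C2) ≤ ⁅(⊤ : Subgroup (D ≀ᵣ C2)), (wrSign ε).ker⁆ := by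
  obtain ⟨z, hz1, hzall⟩ := (Nat.card_eq_two_iff' (1 : Subgroup.center D)).1 hZ
  have hzne : (z : D) ≠ 1 := fun h => hz1 (Subtype.ext h)
  have : Nontrivial D := ⟨⟨z, 1, hzne⟩⟩
  have hzz : (z : D) * z = 1 := by
    by_contra h
    have h2 : z * z = z := hzall (z * z) (fun h' => h (by simpa using congrArg Subtype.val h'))
    have h3 : (z : D) * z = z * 1 := by rw [mul_one]; exact congrArg Subtype.val h2
    exact hzne (mul_left_cancel h3)
  intro w hw
  obtain ⟨he, x, hx, hl⟩ := (center_wr w).1 hw
  have hwb : w = base (fun _ => x) := by rw [eq_base_of_right w he, hl]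
  by_cases hx1 : x = 1
  · have : w = 1 := by rw [hwb, hx1]; rfl
    rw [this]; exact Subgroup.one_mem _
  · have hxz : x = z := by
      have := hzall ⟨x, hx⟩ (fun h => hx1 (by simpa using congrArg Subtype.val h))
      exact congrArg Subtype.val this
    rw [hwb, hxz, const_eq_commutator _ hzz]
    exact Subgroup.commutator_mem_commutator (Subgroup.mem_top _)
      (MonoidHom.mem_ker.2 (wrSign_inl ε _))

theorem exists_odd_wr (ε : D →* ℤˣ) (h : ∃ t : D, ε t = -1) : ∃ t : D ≀ᵣ C2, wrSign ε t = -1 := by
  obtain ⟨t, ht⟩ := h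
  refine ⟨base (Function.update 1 1 t), ?_⟩
  rw [wrSign_apply, Fintype.prod_eq_single (1 : C2)]
  · simp [ht]
  · intro q hq
    simp [Function.update_of_ne hq]

end generic

end Cfsg.Agent.Lib.Helper99_S2221_WRCENTER
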