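import Mathlib
import Cfsg.Prelude.Def_TwoFusion
import Cfsg.Agent.Lib.Helper54_S2221Defs
import Cfsg.Agent.Lib.Helper99_S2221_WRCENTER

/-!
# S2221 package WRFACTF (architect helper54): FACT F for `D ≀ᵣ C2`, `|Z(D)| = 2`.
-/

set_option autoImplicit false
open Cfsg.Agent.Lib.Helper54_S2221Defs

namespace Cfsg.Agent.Lib.Helper99_S2221_WRFACTF

open Cfsg.Agent.Lib.Helper99_S2221_WRCENTER

section anygroup
variable {G : Type*} [Group G]

theorem normal_of_comm (N₁ N₂ : Subgroup G) (hcomm : ∀ a ∈ N₁, ∀ b ∈ N₂, a * b = b * a)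
    (hsup : N₁ ⊔ N₂ = ⊤) : N₁.Normal := by
  constructor
  intro n hn g
  have hg : g ∈ N₁ ⊔ N₂ := by rw [hsup]; trivial
  have hle : N₁ ⊔ N₂ ≤ (Subgroup.normalizer (N₁ : Set G)) := by
    refine sup_le Subgroup.le_normalizer ?_
    intro b hb
    rw [Subgroup.mem_normalizer_iff]
    intro a
    constructor
    · intro ha
      have h := hcomm a ha b hb
      have : b * a * b⁻¹ = a := by rw [← h, mul_inv_cancel_right]
      rw [this]; exact ha
    · intro ha
      have h := hcomm _ ha b hb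
      have : a = b * a * b⁻¹ := by
        have h2 : b * a * b⁻¹ * b = b * (b * a * b⁻¹) := h
        have h3 : b * a = b * (b * a * b⁻¹) := by rw [← h2]; group
        exact mul_left_cancel h3
      rw [this]; exact ha
  have := hle hg
  rw [Subgroup.mem_normalizer_iff] at this
  exact (this n).1 hn

theorem mem_center_of_comm (N₁ N₂ : Subgroup G) (hsup : N₁ ⊔ N₂ = ⊤) (a : G)
    (h1 : ∀ b ∈ N₁, b * a = a * b) (h2 : ∀ b ∈ N₂, b * a = a * b) : a ∈ Subgroup.center G := by
  rw [Subgroup.mem_center_iff]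
  intro g
  have hg : g ∈ N₁ ⊔ N₂ := by rw [hsup]; trivial
  have hle : N₁ ⊔ N₂ ≤ Subgroup.centralizer {a} := by
    refine sup_le ?_ ?_
    · intro b hb
      rw [Subgroup.mem_centralizer_iff]
      intro w hw
      rw [Set.mem_singleton_iff.1 hw]
      exact (h1 b hb).symm
    · intro b hb
      rw [Subgroup.mem_centralizer_iff]
      intro w hw
      rw [Set.mem_singleton_iff.1 hw]
      exact (h2 b hb).symm
  have := hle hg
  rw [Subgroup.mem_centralizer_iff] at this
  exact (this a rfl).symm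

end anygroup

section generic

variable {D : Type*} [Group D]

/-- (a): the generator of `Z(X)` lies in `N₁`. -/
theorem const_mem_of_not_base (N₁ : Subgroup (D ≀ᵣ C2)) (hn : N₁.Normal) (g : D ≀ᵣ C2)
    (hg : g ∈ N₁) (he : g.right ≠ 1) (z : D) (hz : z ∈ Subgroup.center D) (hzz : z * z = 1) :
    base (fun _ : C2 => z) ∈ N₁ := by
  have hzi : z⁻¹ = z := inv_eq_of_mul_eq_one_right hzz
  have hzc := Subgroup.mem_center_iff.1 hz
  have hmem : g * (base (Function.update 1 1 z) * g⁻¹ * (base (Function.update 1 1 z))⁻¹) ∈ N₁ :=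
    N₁.mul_mem hg (hn.conj_mem _ (N₁.inv_mem hg) _)
  have hδc : ∀ y : C2, Function.update (1 : C2 → D) 1 z y ∈ Subgroup.center D := by
    intro y
    by_cases hy : y = 1
    · rw [hy, Function.update_self]; exact hz
    · rw [Function.update_of_ne hy]; exact Subgroup.one_mem _
  have hge : g.right = Multiplicative.ofAdd 1 := (c2_cases g.right).resolve_left he
  have heq : g * (base (Function.update 1 1 z) * g⁻¹ * (base (Function.update 1 1 z))⁻¹) =
      base (fun _ : C2 => z) := by
    have e1 : g * (base (Function.update 1 1 z) * g⁻¹ * (base (Function.update 1 1 z))⁻¹) =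
        g * base (Function.update 1 1 z) * g⁻¹ * (base (Function.update 1 1 z))⁻¹ := by group
    rw [e1, conj_base, base_inv, base_mul]
    congr 1
    funext x
    have hc := Subgroup.mem_center_iff.1 (hδc (g.right⁻¹ * x)) (g.left x)
    simp only [Pi.mul_apply, Pi.inv_apply]
    rw [hc, mul_inv_cancel_right, hge]
    rcases c2_cases x with rfl | rfl
    · simp [c2_inv, hzi]
    · simp [c2_inv, c2_mul_self]
  rw [heq] at hmem
  exact hmem

/-- (a'): `Z(X) ≤ N₁`. -/
theorem center_le_of_not_base [Finite D] (hZ : Nat.card (Subgroup.center D) = 2)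
    (N₁ : Subgroup (D ≀ᵣ C2)) (hn : N₁.Normal) (g : D ≀ᵣ C2)
    (hg : g ∈ N₁) (he : g.right ≠ 1) : Subgroup.center (D ≀ᵣ C2) ≤ N₁ := by
  obtain ⟨z, hz1, hzall⟩ := (Nat.card_eq_two_iff' (1 : Subgroup.center D)).1 hZ
  have hzne : (z : D) ≠ 1 := fun h => hz1 (Subtype.ext h)
  have : Nontrivial D := ⟨⟨z, 1, hzne⟩⟩
  have hzz : (z : D) * z = 1 := by
    by_contra h
    have h2 : z * z = z := hzall (z * z) (fun h' => h (by simpa using congrArg Subtype.val h'))
    have h3 : (z : D) * z = z * 1 := by rw [mul_one]; exact congrArg Subtype.val h2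
    exact hzne (mul_left_cancel h3)
  intro w hw
  obtain ⟨he', x, hx, hl⟩ := (center_wr w).1 hw
  have hwb : w = base (fun _ => x) := by rw [eq_base_of_right w he', hl]
  by_cases hx1 : x = 1
  · have : w = 1 := by rw [hwb, hx1]; rfl
    rw [this]; exact Subgroup.one_mem _
  · have hxz : x = z := by
      have := hzall ⟨x, hx⟩ (fun h => hx1 (by simpa using congrArg Subtype.val h))
      exact congrArg Subtype.val this
    rw [hwb, hxz]
    exact const_mem_of_not_base N₁ hn g hg he z z.2 hzz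

/-- (b): `N₂ ⊓ B ≤ Z(X)`. -/
theorem base_mem_center (N₂ : Subgroup (D ≀ᵣ C2)) (hn : N₂.Normal) (g : D ≀ᵣ C2)
    (he : g.right ≠ 1) (hcomm : ∀ b ∈ N₂, g * b = b * g) (h : D ≀ᵣ C2) (hh : h ∈ N₂)
    (hr : h.right = 1) : h ∈ Subgroup.center (D ≀ᵣ C2) := by
  -- the relation for base elements of `N₂`
  have hrel : ∀ f : C2 → D, base f ∈ N₂ →
      ∀ x, g.left x * f (g.right⁻¹ * x) * (g.left x)⁻¹ = f x := by
    intro f hf x
    have h1 : g * base f * g⁻¹ = base f := by rw [hcomm _ hf, mul_inv_cancel_right]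
    rw [conj_base] at h1
    exact congrFun (congrArg RegularWreathProduct.left h1) x
  have hne : ∀ q : C2, g.right⁻¹ * q ≠ q := fun q => by
    rw [c2_inv]; exact c2_mul_ne _ _ he
  have hhb : h = base h.left := eq_base_of_right h hr
  have hf : base h.left ∈ N₂ := by rw [← hhb]; exact hh
  -- every value is central
  have hcen : ∀ q, h.left q ∈ Subgroup.center D := by
    intro q
    rw [Subgroup.mem_center_iff]
    intro a
    have hf' : base (fun x => Function.update (1 : C2 → D) q a x * h.left x *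
        (Function.update (1 : C2 → D) q a x)⁻¹ * (h.left x)⁻¹) ∈ N₂ := by
      have h1 : base (Function.update (1 : C2 → D) q a) * base h.left *
          (base (Function.update (1 : C2 → D) q a))⁻¹ * (base h.left)⁻¹ ∈ N₂ :=
        N₂.mul_mem (hn.conj_mem _ hf _) (N₂.inv_mem hf)
      rw [conj_base, base_inv, base_mul] at h1
      have e : ((fun x => (base (Function.update (1 : C2 → D) q a)).left x *
          h.left ((base (Function.update (1 : C2 → D) q a)).right⁻¹ * x) *
          ((base (Function.update (1 : C2 → D) q a)).left x)⁻¹) * h.left⁻¹) =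
          (fun x => Function.update (1 : C2 → D) q a x * h.left x *
          (Function.update (1 : C2 → D) q a x)⁻¹ * (h.left x)⁻¹) := by
        funext x
        simp
      rw [e] at h1
      exact h1
    have h2 := hrel _ hf' q
    simp only [Function.update_of_ne (hne q), Function.update_self, Pi.one_apply, one_mul,
      inv_one, mul_one, mul_inv_cancel] at h2
    -- h2 : 1 = a * h.left q * a⁻¹ * (h.left q)⁻¹
    have h3 : a * h.left q * a⁻¹ * (h.left q)⁻¹ = 1 := h2.symm
    calc a * h.left q = (a * h.left q * a⁻¹ * (h.left q)⁻¹) * h.left q * a := by group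
      _ = h.left q * a := by rw [h3, one_mul]
  -- constant
  have hsh : ∀ x, h.left (g.right⁻¹ * x) = h.left x := by
    intro x
    have h1 := hrel _ hf x
    have hc := Subgroup.mem_center_iff.1 (hcen (g.right⁻¹ * x)) (g.left x)
    rw [hc, mul_inv_cancel_right] at h1
    exact h1
  have hconst : ∀ x, h.left x = h.left 1 := by
    intro x
    rcases c2_two g.right 1 x he with rfl | rfl
    · rfl
    · have := hsh (g.right * 1)
      rw [c2_inv, ← mul_assoc, c2_mul_self, one_mul] at this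
      exact this.symm
  rw [hhb, funext hconst]
  exact const_mem_center _ (hcen 1)

/-- Lemma M. -/
theorem eq_top_of_not_base [Finite D] (hZ : Nat.card (Subgroup.center D) = 2)
    (N₁ N₂ : Subgroup (D ≀ᵣ C2)) (hcomm : ∀ a ∈ N₁, ∀ b ∈ N₂, a * b = b * a)
    (hsup : N₁ ⊔ N₂ = ⊤) (g : D ≀ᵣ C2) (hg : g ∈ N₁) (he : g.right ≠ 1) : N₁ = ⊤ := by
  have hn1 : N₁.Normal := normal_of_comm N₁ N₂ hcomm hsup
  have hn2 : N₂.Normal := normal_of_comm N₂ N₁ (fun a ha b hb => (hcomm b hb a ha).symm)
    (by rw [sup_comm]; exact hsup)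
  have hZle := center_le_of_not_base hZ N₁ hn1 g hg he
  have hb : ∀ h ∈ N₂, h.right = 1 → h ∈ Subgroup.center (D ≀ᵣ C2) :=
    fun h hh hr => base_mem_center N₂ hn2 g he (fun b hb => hcomm g hg b hb) h hh hr
  have hN2 : N₂ ≤ Subgroup.center (D ≀ᵣ C2) := by
    intro a ha
    refine mem_center_of_comm N₁ N₂ hsup a (fun b hb => hcomm b hb a ha) ?_
    intro a' ha'
    by_cases h1 : a.right = 1
    · exact Subgroup.mem_center_iff.1 (hb a ha h1) a'
    by_cases h2 : a'.right = 1
    · exact (Subgroup.mem_center_iff.1 (hb a' ha' h2) a).symm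
    have hc : a⁻¹ * a' ∈ Subgroup.center (D ≀ᵣ C2) := by
      refine hb _ (N₂.mul_mem (N₂.inv_mem ha) ha') ?_
      rw [RegularWreathProduct.mul_right, RegularWreathProduct.inv_right]
      exact c2_inv_mul_of_ne _ _ h1 h2
    have hc' := Subgroup.mem_center_iff.1 hc a
    -- hc' : a * (a⁻¹ * a') = a⁻¹ * a' * a
    calc a' * a = a * (a⁻¹ * a' * a) := by group
      _ = a * (a * (a⁻¹ * a')) := by rw [hc']
      _ = a * a' := by group
  rw [eq_top_iff, ← hsup]
  exact sup_le le_rfl (hN2.trans hZle)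

theorem factF_wr [Finite D] (hZ : Nat.card (Subgroup.center D) = 2) (N₁ N₂ : Subgroup (D ≀ᵣ C2))
    (hcomm : ∀ a ∈ N₁, ∀ b ∈ N₂, a * b = b * a) (hsup : N₁ ⊔ N₂ = ⊤) : N₁ = ⊤ ∨ N₂ = ⊤ := by
  by_cases h1 : ∃ g ∈ N₁, g.right ≠ 1
  · obtain ⟨g, hg, he⟩ := h1
    exact Or.inl (eq_top_of_not_base hZ N₁ N₂ hcomm hsup g hg he)
  by_cases h2 : ∃ g ∈ N₂, g.right ≠ 1
  · obtain ⟨g, hg, he⟩ := h2
    exact Or.inr (eq_top_of_not_base hZ N₂ N₁ (fun a ha b hb => (hcomm b hb a ha).symm)
      (by rw [sup_comm]; exact hsup) g hg he)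
  exfalso
  push Not at h1 h2
  have hle : N₁ ⊔ N₂ ≤ (RegularWreathProduct.rightHom : D ≀ᵣ C2 →* C2).ker :=
    sup_le (fun g hg => MonoidHom.mem_ker.2 (h1 g hg)) (fun g hg => MonoidHom.mem_ker.2 (h2 g hg))
  rw [hsup] at hle
  have : (RegularWreathProduct.inl (Multiplicative.ofAdd 1) : D ≀ᵣ C2) ∈
      (RegularWreathProduct.rightHom : D ≀ᵣ C2 →* C2).ker := hle (Subgroup.mem_top _)
  rw [MonoidHom.mem_ker] at this
  exact c2_tau_ne this

end generic

end Cfsg.Agent.Lib.Helper99_S2221_WRFACTF
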