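import Mathlib
import Cfsg.Prelude.Def_TwoFusion
import Cfsg.Agent.Lib.Helper54_S2221Defs
import Cfsg.Agent.Lib.Helper54_S2221_SIGNSTEP
import Cfsg.Agent.Lib.Helper54_S2221_SYLOW
import Cfsg.Agent.Lib.Helper54_S2221_DECQ
import Cfsg.Agent.Lib.Helper44_S2221_ARITH
import Cfsg.Agent.Lib.Helper44_S2221_BITS
import Cfsg.Agent.Lib.Helper44_S2221_CASEB1
import Cfsg.Agent.Lib.Helper44_S2221_LEGENDRE
import Cfsg.Agent.Lib.Helper55_S2221_WRZKER
import Cfsg.Agent.Lib.Helper70_S2221_GENERIC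
import Cfsg.Agent.Lib.Helper79_S2221_CARDQ
import Cfsg.Agent.Lib.Helper99_S2221_WRCENTER
import Cfsg.Agent.Lib.Helper99_S2221_WRFACTF

/-!
# S2221: assembly (architect helper54)

The Sylow 2-subgroups of `A_n` (`n ≥ 4`) are directly decomposable iff `n = 4, 5` or
(`n ≡ 2, 3 mod 4` and `4 * (n / 4)` is not a power of 2).
-/

set_option autoImplicit false

open Cfsg.Agent.Lib.Helper54_S2221Defs
open Cfsg.Agent.Lib.Helper54_S2221_SIGNSTEP Cfsg.Agent.Lib.Helper54_S2221_SYLOW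
  Cfsg.Agent.Lib.Helper54_S2221_DECQ Cfsg.Agent.Lib.Helper44_S2221_ARITH
  Cfsg.Agent.Lib.Helper44_S2221_BITS Cfsg.Agent.Lib.Helper44_S2221_CASEB1
  Cfsg.Agent.Lib.Helper44_S2221_LEGENDRE Cfsg.Agent.Lib.Helper55_S2221_WRZKER
  Cfsg.Agent.Lib.Helper70_S2221_GENERIC Cfsg.Agent.Lib.Helper79_S2221_CARDQ
  Cfsg.Agent.Lib.Helper99_S2221_WRCENTER Cfsg.Agent.Lib.Helper99_S2221_WRFACTF

namespace Cfsg.Agent.Lib.Helper54_S2221Main

theorem card_W (k : ℕ) : Nat.card (W k) = 2 ^ (2 ^ k - 1) := by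
  have hC2 : Nat.card C2 = 2 := by
    rw [Nat.card_eq_fintype_card]; rfl
  rw [IteratedWreathProduct.card, hC2]
  congr 1
  have := Nat.geomSum_eq (le_refl 2) k
  simpa using this

theorem nontrivial_W (k : ℕ) (hk : 1 ≤ k) : Nontrivial (W k) := by
  have h : 1 < Nat.card (W k) := by
    rw [card_W]
    have : 1 ≤ 2 ^ k - 1 := by
      have := Nat.one_lt_two_pow (n := k) (by omega)
      omega
    calc 1 < 2 ^ 1 := by norm_num
      _ ≤ 2 ^ (2 ^ k - 1) := Nat.pow_le_pow_right (by norm_num) this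
  exact (Finite.one_lt_card_iff_nontrivial).mp h

theorem ker_eps_succ (k : ℕ) : (eps (k + 2)).ker = (wrSign (eps (k + 1))).ker := by
  ext w
  show eps (k + 2) w = 1 ↔ wrSign (eps (k + 1)) w = 1
  rw [eps_succ]

theorem center_card_W : ∀ k, 1 ≤ k → Nat.card (Subgroup.center (W k)) = 2 := by
  intro k hk
  induction k with
  | zero => omega
  | succ k ih =>
    rcases Nat.eq_zero_or_pos k with rfl | hk'
    · -- W 1 has order 2, so it is commutative
      have hc : Nat.card (W 1) = 2 := by rw [card_W]; norm_num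
      have hcyc : IsCyclic (W 1) := isCyclic_of_prime_card (p := 2) hc
      have : Subgroup.center (W 1) = ⊤ := by
        rw [Subgroup.eq_top_iff']
        intro g
        rw [Subgroup.mem_center_iff]
        intro h
        obtain ⟨x, hx⟩ := hcyc.exists_generator
        obtain ⟨a, rfl⟩ := Subgroup.mem_zpowers_iff.mp (hx g)
        obtain ⟨b, rfl⟩ := Subgroup.mem_zpowers_iff.mp (hx h)
        rw [← zpow_add, ← zpow_add, add_comm]
      rw [this, Subgroup.card_top, hc]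
    · obtain ⟨m, rfl⟩ : ∃ m, k = m + 1 := ⟨k - 1, by omega⟩
      have := nontrivial_W (m + 1) (by omega)
      have h := card_center_wr (D := W (m + 1))
      exact h.trans (ih (by omega))

theorem center_le_ker_W (k : ℕ) (hk : 2 ≤ k) : Subgroup.center (W k) ≤ (eps k).ker := by
  obtain ⟨m, rfl⟩ : ∃ m, k = m + 2 := ⟨k - 2, by omega⟩
  have := nontrivial_W (m + 1) (by omega)
  rw [ker_eps_succ]
  exact center_le_ker_wr (D := W (m + 1)) (eps (m + 1))

theorem exists_odd_W : ∀ k, 1 ≤ k → ∃ t : W k, eps k t = -1 := by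
  intro k hk
  induction k with
  | zero => omega
  | succ k ih =>
    rcases Nat.eq_zero_or_pos k with rfl | hk'
    · let t : W 1 := (⟨1, Multiplicative.ofAdd 1⟩ : PUnit ≀ᵣ C2)
      refine ⟨t, ?_⟩
      rw [eps_one t, if_neg]
      show ¬ (Multiplicative.ofAdd (1 : ZMod 2) = 1)
      decide
    · obtain ⟨m, rfl⟩ : ∃ m, k = m + 1 := ⟨k - 1, by omega⟩
      obtain ⟨t, ht⟩ := exists_odd_wr (D := W (m + 1)) (eps (m + 1)) (ih (by omega))
      exact ⟨t, (eps_succ m t).trans ht⟩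

/-- the facts about `W k`, given that `ker (eps 2)` is decomposable (package KER2) -/
theorem wfacts_of (hker2 : Dec ↥(eps 2).ker) : WFacts where
  card := card_W
  center_card := center_card_W
  center_le_ker := center_le_ker_W
  exists_odd := exists_odd_W
  factF := by
    intro k hk N₁ N₂ hcomm hsup
    obtain ⟨m, rfl⟩ : ∃ m, k = m + 2 := ⟨k - 2, by omega⟩
    exact factF_wr (D := W (m + 1)) (center_card_W (m + 1) (by omega)) N₁ N₂ hcomm hsup
  center_le_comm := by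
    intro k hk
    obtain ⟨m, rfl⟩ : ∃ m, k = m + 2 := ⟨k - 2, by omega⟩
    rw [ker_eps_succ]
    exact center_le_comm_wr (D := W (m + 1)) (center_card_W (m + 1) (by omega)) (eps (m + 1))
  center_ker := by
    intro k hk
    obtain ⟨m, rfl⟩ : ∃ m, k = m + 3 := ⟨k - 3, by omega⟩
    have hodd : ∃ t : W (m + 2), eps (m + 2) t = -1 := exists_odd_W (m + 2) (by omega)
    have hker : (eps (m + 2)).ker ≠ ⊥ := by
      intro h
      have h1 := center_le_ker_W (m + 2) (by omega)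
      rw [h, le_bot_iff] at h1
      have h2 := center_card_W (m + 2) (by omega)
      rw [h1, Subgroup.card_bot] at h2
      omega
    have := card_center_ker_wr (D := W (m + 2)) (center_card_W (m + 2) (by omega)) (eps (m + 2)) hodd hker
    rw [show (eps (m + 3)).ker = (wrSign (eps (m + 2))).ker from ker_eps_succ (m + 1)]
    exact this
  ker_two := hker2

/-- the statements of the packages PROJ, STEP4, STEP5 -/
structure B2Facts (hW : WFacts) : Prop where
  proj : ∀ (J : Finset ℕ) (_h2 : 2 ≤ (J.filter (fun j => 2 ≤ j)).card)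
    (S₁ S₂ : Subgroup ↥(epsJ J).ker) (_hcomm : ∀ a ∈ S₁, ∀ b ∈ S₂, a * b = b * a)
    (_hsup : S₁ ⊔ S₂ = ⊤) (j : J) (_hj : 2 ≤ j.1),
    (S₁.map (prj J j) = ⊤ ∧ S₂.map (prj J j) ≤ Subgroup.center (W j.1)) ∨
    (S₂.map (prj J j) = ⊤ ∧ S₁.map (prj J j) ≤ Subgroup.center (W j.1))
  step4 : ∀ (J : Finset ℕ) (_h1 : 1 ∉ J) (_h2 : 2 ≤ (J.filter (fun j => 2 ≤ j)).card)
    (S₁ S₂ : Subgroup ↥(epsJ J).ker) (_hcomm : ∀ a ∈ S₁, ∀ b ∈ S₂, a * b = b * a)
    (_hinf : S₁ ⊓ S₂ = ⊥) (_hsup : S₁ ⊔ S₂ = ⊤)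
    (_hall : ∀ j : J, 2 ≤ j.1 → S₂.map (prj J j) ≤ Subgroup.center (W j.1)), S₂ = ⊥
  step5 : ∀ (J : Finset ℕ) (_h1 : 1 ∉ J)
    (S₁ S₂ : Subgroup ↥(epsJ J).ker) (_hcomm : ∀ a ∈ S₁, ∀ b ∈ S₂, a * b = b * a)
    (_hsup : S₁ ⊔ S₂ = ⊤) (i j : J) (_hi : 2 ≤ i.1) (_hj : 2 ≤ j.1) (_hij : i ≠ j)
    (_hside : ∀ l : J, 2 ≤ l.1 → S₁.map (prj J l) ≤ Subgroup.center (W l.1) ∨
      S₂.map (prj J l) ≤ Subgroup.center (W l.1))
    (_hi' : S₂.map (prj J i) ≤ Subgroup.center (W i.1))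
    (_hj' : S₁.map (prj J j) ≤ Subgroup.center (W j.1)), False

theorem caseB2 (hW : WFacts) (hB : B2Facts hW) (J : Finset ℕ) (h1 : 1 ∉ J)
    (h2 : 2 ≤ (J.filter (fun j => 2 ≤ j)).card) : ¬ Dec ↥(epsJ J).ker := by
  rintro ⟨S₁, S₂, hS₁, hS₂, hcomm, hinf, hsup⟩
  have hcomm' : ∀ a ∈ S₂, ∀ b ∈ S₁, a * b = b * a := fun a ha b hb => (hcomm b hb a ha).symm
  have hinf' : S₂ ⊓ S₁ = ⊥ := by rw [inf_comm]; exact hinf
  have hsup' : S₂ ⊔ S₁ = ⊤ := by rw [sup_comm]; exact hsup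
  have hcases := fun (j : J) (hj : 2 ≤ j.1) => hB.proj J h2 S₁ S₂ hcomm hsup j hj
  by_cases hall2 : ∀ j : J, 2 ≤ j.1 → S₂.map (prj J j) ≤ Subgroup.center (W j.1)
  · exact hS₂ (hB.step4 J h1 h2 S₁ S₂ hcomm hinf hsup hall2)
  by_cases hall1 : ∀ j : J, 2 ≤ j.1 → S₁.map (prj J j) ≤ Subgroup.center (W j.1)
  · exact hS₁ (hB.step4 J h1 h2 S₂ S₁ hcomm' hinf' hsup' hall1)
  push Not at hall2 hall1
  obtain ⟨j, hj, hj2⟩ := hall2
  obtain ⟨i, hi, hi1⟩ := hall1
  have hj1 : S₁.map (prj J j) ≤ Subgroup.center (W j.1) := by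
    rcases hcases j hj with h | h
    · exact absurd h.2 hj2
    · exact h.2
  have hi2 : S₂.map (prj J i) ≤ Subgroup.center (W i.1) := by
    rcases hcases i hi with h | h
    · exact h.2
    · exact absurd h.2 hi1
  have hij : i ≠ j := by
    rintro rfl
    exact hi1 hj1
  refine hB.step5 J h1 S₁ S₂ hcomm hsup i j hi hj hij (fun l hl => ?_) hi2 hj1
  rcases hcases l hl with h | h
  · exact Or.inr h.2
  · exact Or.inl h.2

/-- the main theorem, from the facts of the packages not yet imported here -/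
theorem main_of (hW : WFacts) (hB : B2Facts hW)
    (hsignJ : ∀ (J : Finset ℕ) (f : QJ J), Equiv.Perm.sign (embJ J f) = epsJ J f)
    (hinjJ : ∀ J : Finset ℕ, Function.Injective (embJ J))
    (hcaseA : ∀ (J : Finset ℕ), 1 ∈ J → Nonempty (↥(epsJ J).ker ≃* QJ (J.erase 1)))
    (n : ℕ) (hn : 4 ≤ n) (P : Sylow 2 (alternatingGroup (Fin n))) :
    (∃ S₁ S₂ : Subgroup (alternatingGroup (Fin n)), S₁ ≠ ⊥ ∧ S₂ ≠ ⊥ ∧
        Cfsg.IsInternalDirectProduct S₁ S₂ (P : Subgroup (alternatingGroup (Fin n)))) ↔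
      (n = 4 ∨ n = 5 ∨ ((n % 4 = 2 ∨ n % 4 = 3) ∧ ∀ r : ℕ, 4 * (n / 4) ≠ 2 ^ r)) := by
  rw [dec_subgroup_iff]
  have hJ1 : ∃ j ∈ bits n, 1 ≤ j := by
    obtain ⟨j, hj⟩ := filter_bits_nonempty n hn
    rw [Finset.mem_filter] at hj
    exact ⟨j, hj.1, by omega⟩
  obtain ⟨e⟩ := exists_equiv n (by omega) (by rw [card_Blk, sum_bits]) (factorization_factorial n)
    (sum_bits n) (card_QJ hW _) (card_ker hW _ hJ1) (hsignJ _) (hinjJ _) P
  rw [dec_congr e]
  have h2grp : ∀ k, IsPGroup 2 (W k) := fun k => IsPGroup.of_card (hW.card k)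
  have hcyc : ∀ k, 1 ≤ k → ¬ Dec (W k) := fun k hk =>
    not_dec_of_card_center (h2grp k) (hW.center_card k hk)
  by_cases h1 : 1 ∈ bits n
  · obtain ⟨e'⟩ := hcaseA (bits n) h1
    rw [dec_congr e', dec_QJ hW hcyc (fun e => dec_congr e), card_filter_bits n hn]
    have hmod := (one_mem_bits n).mp h1
    constructor
    · intro h
      exact Or.inr (Or.inr ⟨hmod, h⟩)
    · rintro (h | h | h)
      · omega
      · omega
      · exact h.2
  · have hmod : ¬ (n % 4 = 2 ∨ n % 4 = 3) := fun h => h1 ((one_mem_bits n).mpr h)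
    have hne := filter_bits_nonempty n hn
    have hiff : (n = 4 ∨ n = 5 ∨ ((n % 4 = 2 ∨ n % 4 = 3) ∧ ∀ r : ℕ, 4 * (n / 4) ≠ 2 ^ r)) ↔
        (n = 4 ∨ n = 5) := by
      constructor
      · rintro (h | h | h)
        · exact Or.inl h
        · exact Or.inr h
        · exact absurd h.1 hmod
      · rintro (h | h)
        · exact Or.inl h
        · exact Or.inr (Or.inl h)
    rw [hiff, ← filter_bits_eq n hn h1]
    rcases Nat.lt_or_ge ((bits n).filter (fun j => 2 ≤ j)).card 2 with hc | hc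
    · have hc1 : ((bits n).filter (fun j => 2 ≤ j)).card = 1 := by
        have := Finset.card_pos.mpr hne
        omega
      obtain ⟨k, hk⟩ := Finset.card_eq_one.mp hc1
      rw [caseB1 hW (fun hH hZ => not_dec_of_card_center hH hZ) (fun e => dec_congr e) (bits n) h1 k hk,
        hk]
      constructor
      · rintro rfl; rfl
      · intro h
        exact Finset.singleton_injective h
    · constructor
      · intro h
        exact absurd h (caseB2 hW hB (bits n) h1 hc)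
      · intro h
        rw [h] at hc
        simp at hc

end Cfsg.Agent.Lib.Helper54_S2221Main
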