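import Mathlib
import Cfsg.Agent.Lib.Helper56_S3366Defs

/-!
# S3366 (architect helper56), package KAPMUL: the coordinate map `kap a b` is multiplicative
-/

set_option autoImplicit false

open Cfsg.Agent.Lib.Helper56_S3366Defs
open scoped commutatorElement

namespace Cfsg.Agent.Lib.Helper54_S3366_KAPMUL

variable {X : Type*} [Group X]

/-- powers of an element of exponent 3 depend only on the exponent mod 3 -/
theorem pow_val_eq {g : X} (hg : g ^ 3 = 1) (n : ℕ) (z : ZMod 3) (hz : (n : ZMod 3) = z) :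
    g ^ z.val = g ^ n := by
  rw [← hz, ZMod.val_natCast]
  exact (pow_eq_pow_mod n hg).symm

theorem comm_step1 (a b : X) (hca : ⁅a, b⁆ * a = a * ⁅a, b⁆) (hcb : ⁅a, b⁆ * b = b * ⁅a, b⁆)
    (m : ℕ) : a * b ^ m = ⁅a, b⁆ ^ m * b ^ m * a := by
  have hab : a * b = ⁅a, b⁆ * b * a := by
    rw [commutatorElement_def]; group
  have hcbm : ∀ j : ℕ, ⁅a, b⁆ ^ j * b = b * ⁅a, b⁆ ^ j := by
    intro j
    exact ((Commute.pow_left (show Commute ⁅a, b⁆ b from hcb) j)).eq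
  induction m with
  | zero => simp
  | succ m ih =>
    calc a * b ^ (m + 1) = (a * b ^ m) * b := by rw [pow_succ, mul_assoc]
      _ = ⁅a, b⁆ ^ m * b ^ m * (a * b) := by rw [ih]; group
      _ = ⁅a, b⁆ ^ m * b ^ m * (⁅a, b⁆ * b * a) := by rw [hab]
      _ = ⁅a, b⁆ ^ m * (b ^ m * ⁅a, b⁆) * b * a := by group
      _ = ⁅a, b⁆ ^ m * (⁅a, b⁆ * b ^ m) * b * a := by
          rw [((Commute.pow_right (show Commute ⁅a, b⁆ b from hcb) m)).eq]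
      _ = ⁅a, b⁆ ^ (m + 1) * b ^ (m + 1) * a := by
          rw [pow_succ, pow_succ]; group

theorem comm_step2 (a b : X) (hca : ⁅a, b⁆ * a = a * ⁅a, b⁆) (hcb : ⁅a, b⁆ * b = b * ⁅a, b⁆)
    (n m : ℕ) : a ^ n * b ^ m = ⁅a, b⁆ ^ (n * m) * b ^ m * a ^ n := by
  have hza : Commute ⁅a, b⁆ a := hca
  have hzb : Commute ⁅a, b⁆ b := hcb
  induction n with
  | zero => simp
  | succ n ih =>
    have h1 : a * (⁅a, b⁆ ^ (n * m)) = ⁅a, b⁆ ^ (n * m) * a := ((hza.pow_left (n * m)).eq).symm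
    calc a ^ (n + 1) * b ^ m = a * (a ^ n * b ^ m) := by rw [pow_succ']; group
      _ = a * (⁅a, b⁆ ^ (n * m) * b ^ m * a ^ n) := by rw [ih]
      _ = (a * ⁅a, b⁆ ^ (n * m)) * b ^ m * a ^ n := by group
      _ = ⁅a, b⁆ ^ (n * m) * (a * b ^ m) * a ^ n := by rw [h1]; group
      _ = ⁅a, b⁆ ^ (n * m) * (⁅a, b⁆ ^ m * b ^ m * a) * a ^ n := by
          rw [comm_step1 a b hca hcb m]
      _ = ⁅a, b⁆ ^ ((n + 1) * m) * b ^ m * a ^ (n + 1) := by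
          rw [add_mul, one_mul, pow_add, pow_succ' a n]; group

/-- the commutator has order dividing 3 -/
theorem comm_cube (a b : X) (ha3 : a ^ 3 = 1)
    (hca : ⁅a, b⁆ * a = a * ⁅a, b⁆) (hcb : ⁅a, b⁆ * b = b * ⁅a, b⁆) : ⁅a, b⁆ ^ 3 = 1 := by
  have h := comm_step2 a b hca hcb 3 1
  rw [ha3, pow_one, one_mul, mul_one, mul_one] at h
  exact (mul_eq_right.mp h.symm)

/-! ## PKG KAPMUL (M): `kap a b` is multiplicative (pure commutator calculus). -/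

theorem kap_mul (a b : X) (ha3 : a ^ 3 = 1) (hb3 : b ^ 3 = 1)
    (hca : ⁅a, b⁆ * a = a * ⁅a, b⁆) (hcb : ⁅a, b⁆ * b = b * ⁅a, b⁆) (h k : Hs) :
    kap a b (h * k) = kap a b h * kap a b k := by
  have hz3 : ⁅a, b⁆ ^ 3 = 1 := comm_cube a b ha3 hca hcb
  have hza : Commute ⁅a, b⁆ a := hca
  have hzb : Commute ⁅a, b⁆ b := hcb
  unfold kap
  -- natural exponents
  obtain ⟨x, hx⟩ : ∃ x : ℕ, x = h.x.val := ⟨_, rfl⟩
  obtain ⟨y, hy⟩ : ∃ y : ℕ, y = h.y.val := ⟨_, rfl⟩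
  obtain ⟨x', hx'⟩ : ∃ x' : ℕ, x' = k.x.val := ⟨_, rfl⟩
  obtain ⟨y', hy'⟩ : ∃ y' : ℕ, y' = k.y.val := ⟨_, rfl⟩
  obtain ⟨e₁, he₁⟩ : ∃ e₁ : ℕ, e₁ = (h.x * h.y + h.s).val := ⟨_, rfl⟩
  obtain ⟨e₂, he₂⟩ : ∃ e₂ : ℕ, e₂ = (k.x * k.y + k.s).val := ⟨_, rfl⟩
  have cx : (x : ZMod 3) = h.x := by rw [hx, ZMod.natCast_zmod_val]
  have cy : (y : ZMod 3) = h.y := by rw [hy, ZMod.natCast_zmod_val]
  have cx' : (x' : ZMod 3) = k.x := by rw [hx', ZMod.natCast_zmod_val]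
  have cy' : (y' : ZMod 3) = k.y := by rw [hy', ZMod.natCast_zmod_val]
  have ce₁ : (e₁ : ZMod 3) = h.x * h.y + h.s := by rw [he₁, ZMod.natCast_zmod_val]
  have ce₂ : (e₂ : ZMod 3) = k.x * k.y + k.s := by rw [he₂, ZMod.natCast_zmod_val]
  rw [← hx, ← hy, ← hx', ← hy', ← he₁, ← he₂]
  -- the left-hand side with natural exponents
  have hA : a ^ (h * k).x.val = a ^ (x + x') :=
    pow_val_eq ha3 (x + x') _ (by rw [Hs.mul_x]; push_cast; rw [cx, cx'])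
  have hBb : b ^ (h * k).y.val = b ^ (y + y') :=
    pow_val_eq hb3 (y + y') _ (by rw [Hs.mul_y]; push_cast; rw [cy, cy'])
  have hZ : ⁅a, b⁆ ^ ((h * k).x * (h * k).y + (h * k).s).val =
      ⁅a, b⁆ ^ (e₁ + e₂ + 2 * (x' * y)) := by
    apply pow_val_eq hz3
    rw [Hs.mul_x, Hs.mul_y, Hs.mul_s]
    push_cast
    rw [ce₁, ce₂, cx', cy]
    ring
  rw [hA, hBb, hZ]
  -- the right-hand side
  have hswap : b ^ y * a ^ x' * ⁅a, b⁆ ^ (x' * y) = a ^ x' * b ^ y := by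
    rw [comm_step2 a b hca hcb x' y]
    have h1 : Commute (⁅a, b⁆ ^ (x' * y)) (b ^ y * a ^ x') :=
      ((hzb.pow_right y).mul_right (hza.pow_right x')).pow_left (x' * y)
    rw [mul_assoc (⁅a, b⁆ ^ (x' * y)), h1.eq]
  have hz2 : ⁅a, b⁆ ^ (2 * (x' * y)) * ⁅a, b⁆ ^ (x' * y) = 1 := by
    rw [← pow_add, show 2 * (x' * y) + x' * y = 3 * (x' * y) by ring, pow_mul, hz3, one_pow]
  have hzinv : ⁅a, b⁆ ^ (2 * (x' * y)) = (⁅a, b⁆ ^ (x' * y))⁻¹ := eq_inv_of_mul_eq_one_left hz2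
  have hswap' : b ^ y * a ^ x' = a ^ x' * b ^ y * ⁅a, b⁆ ^ (2 * (x' * y)) := by
    rw [hzinv, ← hswap]; group
  -- centrality of powers of the commutator
  have hce : ∀ (j : ℕ) (g : X), Commute ⁅a, b⁆ g → ⁅a, b⁆ ^ j * g = g * ⁅a, b⁆ ^ j :=
    fun j g hg => (hg.pow_left j).eq
  calc a ^ (x + x') * b ^ (y + y') * ⁅a, b⁆ ^ (e₁ + e₂ + 2 * (x' * y))
      = a ^ x * (a ^ x' * b ^ y * ⁅a, b⁆ ^ (2 * (x' * y))) * b ^ y' * ⁅a, b⁆ ^ e₁ * ⁅a, b⁆ ^ e₂ := by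
        rw [pow_add a, pow_add b, pow_add, pow_add]
        have c1 := hce (2 * (x' * y)) (b ^ y') (hzb.pow_right y')
        have c2 : ⁅a, b⁆ ^ (2 * (x' * y)) * ⁅a, b⁆ ^ e₁ = ⁅a, b⁆ ^ e₁ * ⁅a, b⁆ ^ (2 * (x' * y)) :=
          (Commute.pow_pow (Commute.refl _) _ _).eq
        have c3 : ⁅a, b⁆ ^ (2 * (x' * y)) * ⁅a, b⁆ ^ e₂ = ⁅a, b⁆ ^ e₂ * ⁅a, b⁆ ^ (2 * (x' * y)) :=
          (Commute.pow_pow (Commute.refl _) _ _).eq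
        calc a ^ x * a ^ x' * (b ^ y * b ^ y') * (⁅a, b⁆ ^ e₁ * ⁅a, b⁆ ^ e₂ * ⁅a, b⁆ ^ (2 * (x' * y)))
            = a ^ x * a ^ x' * b ^ y * b ^ y' * ⁅a, b⁆ ^ e₁ * (⁅a, b⁆ ^ e₂ * ⁅a, b⁆ ^ (2 * (x' * y))) := by
              group
          _ = a ^ x * a ^ x' * b ^ y * b ^ y' * ⁅a, b⁆ ^ e₁ * (⁅a, b⁆ ^ (2 * (x' * y)) * ⁅a, b⁆ ^ e₂) := by
              rw [c3]
          _ = a ^ x * a ^ x' * b ^ y * b ^ y' * (⁅a, b⁆ ^ e₁ * ⁅a, b⁆ ^ (2 * (x' * y))) * ⁅a, b⁆ ^ e₂ := by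
              group
          _ = a ^ x * a ^ x' * b ^ y * b ^ y' * (⁅a, b⁆ ^ (2 * (x' * y)) * ⁅a, b⁆ ^ e₁) * ⁅a, b⁆ ^ e₂ := by
              rw [c2]
          _ = a ^ x * a ^ x' * b ^ y * (b ^ y' * ⁅a, b⁆ ^ (2 * (x' * y))) * ⁅a, b⁆ ^ e₁ * ⁅a, b⁆ ^ e₂ := by
              group
          _ = a ^ x * a ^ x' * b ^ y * (⁅a, b⁆ ^ (2 * (x' * y)) * b ^ y') * ⁅a, b⁆ ^ e₁ * ⁅a, b⁆ ^ e₂ := by
              rw [c1]
          _ = _ := by group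
    _ = a ^ x * (b ^ y * a ^ x') * b ^ y' * ⁅a, b⁆ ^ e₁ * ⁅a, b⁆ ^ e₂ := by rw [← hswap']
    _ = a ^ x * b ^ y * (a ^ x' * b ^ y' * ⁅a, b⁆ ^ e₁) * ⁅a, b⁆ ^ e₂ := by group
    _ = a ^ x * b ^ y * (⁅a, b⁆ ^ e₁ * (a ^ x' * b ^ y')) * ⁅a, b⁆ ^ e₂ := by
        rw [hce e₁ (a ^ x' * b ^ y') ((hza.pow_right x').mul_right (hzb.pow_right y'))]
    _ = a ^ x * b ^ y * ⁅a, b⁆ ^ e₁ * (a ^ x' * b ^ y' * ⁅a, b⁆ ^ e₂) := by group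

end Cfsg.Agent.Lib.Helper54_S3366_KAPMUL
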