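import Mathlib
import Cfsg.Agent.Lib.Helper56_S3366Defs

/-!
# S3366 (architect helper56), package SYL3: a 3-central element from the order of its centraliser
-/

set_option autoImplicit false

open Cfsg.Agent.Lib.Helper56_S3366Defs
open scoped commutatorElement

namespace Cfsg.Agent.Lib.Helper54_S3366_SYL3

theorem fact_648 : (648 : ℕ).factorization 3 = 4 := by
  have h : (648 : ℕ) = 3 ^ 4 * 8 := by norm_num
  rw [h, Nat.factorization_mul (by norm_num) (by norm_num)]
  rw [Finsupp.add_apply, Nat.Prime.factorization_pow Nat.prime_three]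
  rw [Nat.factorization_eq_zero_of_not_dvd (by norm_num : ¬ 3 ∣ 8)]
  simp

theorem fact_25920 : (25920 : ℕ).factorization 3 = 4 := by
  have h : (25920 : ℕ) = 3 ^ 4 * 320 := by norm_num
  rw [h, Nat.factorization_mul (by norm_num) (by norm_num)]
  rw [Finsupp.add_apply, Nat.Prime.factorization_pow Nat.prime_three]
  rw [Nat.factorization_eq_zero_of_not_dvd (by norm_num : ¬ 3 ∣ 320)]
  simp

/-! ## PKG SYL3 (M): a 3-central element from the order of its centraliser (generic). -/

theorem exists_sylow_of_card {G : Type*} [Group G] [Finite G] (c : G) (hc : orderOf c = 3)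
    (hG : Nat.card G = 25920) (hC : Nat.card (Subgroup.centralizer ({c} : Set G)) = 648) :
    ∃ S : Sylow 3 G, c ∈ (S : Subgroup G) ∧ c ∈ Subgroup.centralizer ((S : Subgroup G) : Set G) := by
  have : Fact (Nat.Prime 3) := ⟨Nat.prime_three⟩
  set C : Subgroup G := Subgroup.centralizer ({c} : Set G) with hCdef
  have hcC : c ∈ C := by
    rw [hCdef, Subgroup.mem_centralizer_iff]
    intro h hh
    rw [Set.mem_singleton_iff] at hh
    rw [hh]
  -- a Sylow 3-subgroup of `C`
  obtain ⟨S₀⟩ : Nonempty (Sylow 3 ↥C) := inferInstance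
  have hS₀card : Nat.card (S₀ : Subgroup ↥C) = 81 := by
    rw [Sylow.card_eq_multiplicity, hC, fact_648]; norm_num
  -- the cyclic group generated by `c` inside `C`
  set c' : ↥C := ⟨c, hcC⟩ with hc'
  have hc'central : ∀ g : ↥C, g * c' = c' * g := by
    intro g
    have hg : (g : G) ∈ Subgroup.centralizer ({c} : Set G) := g.2
    rw [Subgroup.mem_centralizer_iff] at hg
    have := hg c (Set.mem_singleton c)
    apply Subtype.ext
    show (g : G) * c = c * (g : G)
    exact this.symm
  set N : Subgroup ↥C := Subgroup.zpowers c' with hN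
  have hNn : N.Normal := by
    refine ⟨fun n hn g => ?_⟩
    obtain ⟨k, rfl⟩ := Subgroup.mem_zpowers_iff.mp hn
    have hcomm : Commute g c' := hc'central g
    have : g * c' ^ k * g⁻¹ = c' ^ k := by
      rw [(hcomm.zpow_right k).eq]; group
    rw [this]
    exact Subgroup.zpow_mem _ (Subgroup.mem_zpowers c') k
  have hordc' : orderOf c' = 3 := by
    have : orderOf (C.subtype c') = orderOf c' := orderOf_injective C.subtype C.subtype_injective c'
    rw [← this]; exact hc
  have hNp : IsPGroup 3 N := by
    apply IsPGroup.of_card (n := 1)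
    rw [hN, Nat.card_zpowers, hordc']; norm_num
  have hc'S₀ : c' ∈ (S₀ : Subgroup ↥C) := by
    have hsup : IsPGroup 3 ((S₀ : Subgroup ↥C) ⊔ N : Subgroup ↥C) :=
      IsPGroup.to_sup_of_normal_right S₀.isPGroup' hNp
    have heq : (S₀ : Subgroup ↥C) ⊔ N = S₀ := S₀.is_maximal' hsup le_sup_left
    have : N ≤ (S₀ : Subgroup ↥C) := by
      rw [← heq]; exact le_sup_right
    exact this (Subgroup.mem_zpowers c')
  -- transport to `G`
  set P : Subgroup G := (S₀ : Subgroup ↥C).map C.subtype with hP
  have hPcard : Nat.card P = 3 ^ (Nat.card G).factorization 3 := by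
    rw [hG, fact_25920, hP, Nat.card_congr
      ((S₀ : Subgroup ↥C).equivMapOfInjective C.subtype C.subtype_injective).symm.toEquiv, hS₀card]
    norm_num
  refine ⟨Sylow.ofCard P hPcard, ?_, ?_⟩
  · rw [Sylow.coe_ofCard]
    exact ⟨c', hc'S₀, rfl⟩
  · rw [Sylow.coe_ofCard, Subgroup.mem_centralizer_iff]
    intro h hh
    obtain ⟨s, _, rfl⟩ := hh
    have := hc'central s
    have h2 := congrArg Subtype.val this
    exact h2

end Cfsg.Agent.Lib.Helper54_S3366_SYL3
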