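import Mathlib
import Cfsg.Prelude.Def_Characters
import Cfsg.Agent.Lib.Helper3_CharEigen

/-!
# S4472 (architect helper74), package KER: the kernel of a character that is faithful on a normal
subgroup `N` centralises `N`
-/

set_option autoImplicit false

namespace Cfsg.Agent.Lib.Helper54_S4472_KER

open Cfsg

/-- **KER**.  If `ψ` is faithful on the normal subgroup `N` then every `x` with `ψ x = ψ 1`
centralises `N`. -/
theorem ker_centralizes {T : Type*} [Group T] [Finite T] (N : Subgroup T) [N.Normal]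
    (ψ : T → ℂ) (hψ : Cfsg.IsCharacter T ψ) (hfaith : ∀ n : N, ψ n = ψ 1 → n = 1)
    (x : T) (hx : ψ x = ψ 1) (n : N) : x * n = n * x := by
  obtain ⟨d, ρ, rfl⟩ := hψ
  have hker : ∀ g : T, ρ.character g = ρ.character 1 ↔ ρ g = LinearMap.id := by
    intro g
    rw [Representation.char_one, Cfsg.Agent.Lib.Helper3_CharEigen.char_eq_finrank_iff]
  have hρx : ρ x = 1 := (hker x).mp hx
  have hρxi : ρ x⁻¹ = 1 := by
    have h1 : ρ x⁻¹ * ρ x = 1 := by rw [← map_mul, inv_mul_cancel, map_one]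
    rwa [hρx, mul_one] at h1
  have hcN : x * (n : T) * x⁻¹ * (n : T)⁻¹ ∈ N :=
    N.mul_mem (Subgroup.Normal.conj_mem inferInstance (n : T) n.2 x) (N.inv_mem n.2)
  have hρc : ρ (x * (n : T) * x⁻¹ * (n : T)⁻¹) = 1 := by
    rw [map_mul, map_mul, map_mul, hρx, hρxi, one_mul, mul_one, ← map_mul, mul_inv_cancel, map_one]
  have hc1 := hfaith ⟨_, hcN⟩ ((hker _).mpr hρc)
  have hc : x * (n : T) * x⁻¹ * (n : T)⁻¹ = 1 := congrArg Subtype.val hc1
  have h2 : x * (n : T) * x⁻¹ = (n : T) := mul_inv_eq_one.mp hc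
  exact mul_inv_eq_iff_eq_mul.mp h2

end Cfsg.Agent.Lib.Helper54_S4472_KER
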