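import Mathlib
import Cfsg.Prelude.Def_Local
import Cfsg.Prelude.Def_Solvable
import Cfsg.Agent.Lib.Helper76_PSolvable
import Cfsg.Agent.Lib.Helper47_HH
import Cfsg.Agent.Lib.Helper10_QuadPair

/-!
# S4472 (architect helper74), package SETUP (auxiliary form, HALLFRAT as a hypothesis): the group theory of the `p`-solvable linear group
bound: a `p'`-subgroup `Q` and a `p`-subgroup `P` normalising `Q` with `C_P(Q) ≤ O_p(G)` and
`[P : P ∩ O_p(G)]` the full `p`-part of `[G : O_p(G)]`
-/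

set_option autoImplicit false

namespace Cfsg.Agent.Lib.Helper54_S4472_SETUPaux

open Cfsg

/-- **SETUP**, with the Frattini argument for Hall complements (package HALLFRAT) as a
hypothesis. -/
theorem setup_aux {G : Type*} [Group G] [Finite G] (p : ℕ) [Fact p.Prime]
    (hsolv : Cfsg.IsPSolvable p G)
    (hfrat : ∀ (K R Q : Subgroup G) [K.Normal] [R.Normal], R ≤ K → Q ≤ K → Group.IsSolvable R →
      (Nat.card R).Coprime (R.relIndex K) → Nat.card Q = R.relIndex K → ∀ g : G,
      ∃ k ∈ K, k * g ∈ Subgroup.normalizer (Q : Set G)) :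
    ∃ Q P : Subgroup G, (Nat.card Q).Coprime p ∧ IsPGroup p P ∧
      P ≤ Subgroup.normalizer (Q : Set G) ∧
      (∀ x ∈ P, (∀ y ∈ Q, x * y = y * x) → x ∈ Cfsg.pCore p G) ∧
      (Cfsg.pCore p G).relIndex P = p ^ ((Cfsg.pCore p G).index.factorization p) := by
  classical
  have hp : p.Prime := Fact.out
  obtain ⟨R, hR⟩ : ∃ R : Subgroup G, R = Cfsg.pCore p G := ⟨_, rfl⟩
  rw [← hR]
  haveI hRn : R.Normal := by rw [hR]; exact Cfsg.Agent.Lib.Helper76_PSolvable.pCore_normal p
  have hRp : IsPGroup p R := by rw [hR]; exact Cfsg.Agent.Lib.Helper76_PSolvable.pCore_isPGroup p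
  obtain ⟨π, hπ⟩ : ∃ π : G →* G ⧸ R, π = QuotientGroup.mk' R := ⟨_, rfl⟩
  have hπs : Function.Surjective π := by rw [hπ]; exact QuotientGroup.mk'_surjective R
  have hker : π.ker = R := by rw [hπ]; exact QuotientGroup.ker_mk' R
  have hsolq : IsPSolvable p (G ⧸ R) :=
    Cfsg.Agent.Lib.Helper76_PSolvable.isPSolvable_quotient p R hsolv
  have hcore : pCore p (G ⧸ R) = ⊥ := by
    subst hR
    exact Cfsg.Agent.Lib.Helper10_QuadPair.pCore_quotient_pCore' p
  obtain ⟨Hb, hHb⟩ : ∃ Hb : Subgroup (G ⧸ R), Hb = pPrimeCore p (G ⧸ R) := ⟨_, rfl⟩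
  haveI hHbn : Hb.Normal := by
    rw [hHb]; exact Cfsg.Agent.Lib.Helper76_PSolvable.pPrimeCore_normal p
  have hHbc : (Nat.card Hb).Coprime p := by
    rw [hHb]; exact Cfsg.Agent.Lib.Helper76_PSolvable.pPrimeCore_card_coprime p
  have hHH : Subgroup.centralizer (Hb : Set (G ⧸ R)) ≤ Hb := by
    rw [hHb]; exact Cfsg.Agent.Lib.Helper47_HH.centralizer_pPrimeCore_le p hsolq hcore
  obtain ⟨K, hK⟩ : ∃ K : Subgroup G, K = Hb.comap π := ⟨_, rfl⟩
  haveI hKn : K.Normal := by rw [hK]; exact Subgroup.Normal.comap hHbn π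
  have hRK : R ≤ K := by
    have h1 := MonoidHom.ker_le_comap π Hb
    rw [hker, ← hK] at h1
    exact h1
  have hrelker : ∀ L : Subgroup G, R.relIndex L = Nat.card (L.map π) := by
    intro L
    have h1 := Subgroup.relIndex_ker L π
    rw [hker] at h1
    exact h1
  have hrel : R.relIndex K = Nat.card Hb := by
    rw [hrelker, hK, Subgroup.map_comap_eq_self_of_surjective hπs]
  obtain ⟨a, ha⟩ := IsPGroup.iff_card.mp hRp
  have hcopRK : (Nat.card R).Coprime (R.relIndex K) := by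
    rw [ha, hrel]
    exact Nat.Coprime.pow_left a hHbc.symm
  -- the complement
  have hcardR' : Nat.card (R.subgroupOf K) = Nat.card R :=
    Nat.card_congr (Subgroup.subgroupOfEquivOfLe hRK).toEquiv
  have hcop' : (Nat.card (R.subgroupOf K)).Coprime (R.subgroupOf K).index := by
    rw [hcardR']
    exact hcopRK
  obtain ⟨Q₀, hQ₀⟩ := Subgroup.exists_right_complement'_of_coprime hcop'
  have hQ₀card : Nat.card Q₀ = R.relIndex K := (hQ₀.symm.index_eq_card).symm
  obtain ⟨Q, hQdef⟩ : ∃ Q : Subgroup G, Q = Q₀.map K.subtype := ⟨_, rfl⟩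
  have hQcard : Nat.card Q = R.relIndex K := by
    rw [hQdef, Subgroup.card_map_of_injective K.subtype_injective, hQ₀card]
  have hQK : Q ≤ K := by rw [hQdef]; exact Subgroup.map_subtype_le Q₀
  have hQcop : (Nat.card Q).Coprime p := by rw [hQcard, hrel]; exact hHbc
  have hQR : R ⊓ Q = ⊥ := by
    apply disjoint_iff.mp
    apply Subgroup.disjoint_of_coprime_natCard
    rw [ha]
    exact Nat.Coprime.pow_left a hQcop.symm
  have hQmapcard : Nat.card (Q.map π) = Nat.card Hb := by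
    rw [← hrelker, ← Subgroup.inf_relIndex_right, hQR,
      Subgroup.relIndex_bot_left, hQcard, hrel]
  have hQmap : Q.map π = Hb := by
    apply Subgroup.eq_of_le_of_card_ge
    · rw [Subgroup.map_le_iff_le_comap, ← hK]; exact hQK
    · rw [hQmapcard]
  -- Frattini
  have hsolvR : Group.IsSolvable R := by
    have : Group.IsNilpotent R := hRp.isNilpotent
    infer_instance
  obtain ⟨N, hN⟩ : ∃ N : Subgroup G, N = Subgroup.normalizer (Q : Set G) := ⟨_, rfl⟩
  have hQN : Q ≤ N := by rw [hN]; exact Subgroup.le_normalizer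
  have hsurj : Function.Surjective (π.comp N.subtype) := by
    intro gb
    obtain ⟨g, rfl⟩ := hπs gb
    obtain ⟨k, hk, hn⟩ := hfrat K R Q hRK hQK hsolvR
      hcopRK hQcard g
    have hπk : π k ∈ Q.map π := by
      rw [hQmap]
      rw [hK] at hk
      exact hk
    obtain ⟨y, hyQ, hy⟩ := hπk
    refine ⟨⟨y⁻¹ * (k * g), ?_⟩, ?_⟩
    · rw [hN]
      exact Subgroup.mul_mem _ (Subgroup.inv_mem _ (Subgroup.le_normalizer hyQ)) hn
    · show π (y⁻¹ * (k * g)) = π g
      rw [map_mul, map_mul, map_inv, hy, inv_mul_cancel_left]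
  -- the Sylow subgroup of the normalizer
  obtain ⟨P₀⟩ : Nonempty (Sylow p ↥N) := inferInstance
  obtain ⟨P, hPdef⟩ : ∃ P : Subgroup G, P = (P₀ : Subgroup ↥N).map N.subtype := ⟨_, rfl⟩
  have hPp : IsPGroup p P := by rw [hPdef]; exact P₀.isPGroup'.map N.subtype
  have hPN : P ≤ N := by rw [hPdef]; exact Subgroup.map_subtype_le _
  have hPmap : P.map π = ((P₀.mapSurjective hsurj : Sylow p (G ⧸ R)) : Subgroup (G ⧸ R)) := by
    rw [Sylow.coe_mapSurjective, hPdef, Subgroup.map_map]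
  have hPmapcard : Nat.card (P.map π) = p ^ (R.index.factorization p) := by
    rw [hPmap, Sylow.card_eq_multiplicity, Subgroup.index_eq_card]
  refine ⟨Q, P, hQcop, hPp, ?_, ?_, ?_⟩
  · rw [← hN]; exact hPN
  · intro x hxP hxQ
    have hcent : π x ∈ Subgroup.centralizer (Hb : Set (G ⧸ R)) := by
      rw [Subgroup.mem_centralizer_iff]
      intro h hh
      have hh' : h ∈ Q.map π := by rw [hQmap]; exact hh
      obtain ⟨y, hyQ, rfl⟩ := hh'
      rw [← map_mul, ← map_mul, hxQ y hyQ]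
    have h1 : π x ∈ Hb := hHH hcent
    have h2 : π x ∈ P.map π := Subgroup.mem_map_of_mem π hxP
    have hdisj : Hb ⊓ P.map π = ⊥ := by
      apply disjoint_iff.mp
      apply Subgroup.disjoint_of_coprime_natCard
      rw [hPmapcard]
      exact Nat.Coprime.pow_right _ hHbc
    have h3 : π x ∈ Hb ⊓ P.map π := ⟨h1, h2⟩
    rw [hdisj, Subgroup.mem_bot] at h3
    have h4 : x ∈ π.ker := h3
    rw [hker] at h4
    exact h4
  · rw [hrelker, hPmapcard]

end Cfsg.Agent.Lib.Helper54_S4472_SETUPaux
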