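import Mathlib
import Cfsg.Prelude.Def_Characters
import Cfsg.Agent.Lib.Helper3_CharEigen
import Cfsg.Agent.Lib.Helper1_SZ

/-!
# S4472 market (architect helper74): own copies of the packages KER and HALLFRAT

* `ker_centralizes`: a character `ψ` of `T` faithful on the normal subgroup `N`; every `x` with
  `ψ x = ψ 1` centralises `N`.
* `hall_frattini`: Frattini argument for a Hall complement: `R ≤ K` normal in `G`, `R` a solvable
  normal Hall subgroup of `K`, `Q ≤ K` of order `[K : R]`; then `G = K · N_G(Q)`.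
-/

set_option autoImplicit false
open Cfsg
open scoped Pointwise

namespace Cfsg.Agent.Lib.Helper74_S4472_Aux

theorem ker_centralizes {T : Type*} [Group T] [Finite T] (N : Subgroup T) [hN : N.Normal]
    (ψ : T → ℂ) (hψ : Cfsg.IsCharacter T ψ) (hfaith : ∀ n : N, ψ n = ψ 1 → n = 1)
    (x : T) (hx : ψ x = ψ 1) (n : N) : x * n = n * x := by
  obtain ⟨d, ρ, rfl⟩ := hψ
  have hker : ∀ g : T, ρ.character g = ρ.character 1 ↔ ρ g = 1 := by
    intro g
    rw [Representation.char_one, Cfsg.Agent.Lib.Helper3_CharEigen.char_eq_finrank_iff]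
    rfl
  have hx1 : ρ x = 1 := (hker x).mp hx
  have hc : x * n * x⁻¹ * (n : T)⁻¹ ∈ N :=
    N.mul_mem (hN.conj_mem n n.2 x) (N.inv_mem n.2)
  have hρc : ρ (x * n * x⁻¹ * (n : T)⁻¹) = 1 := by
    have hxi : ρ x⁻¹ = 1 := by
      have h : ρ x⁻¹ * ρ x = 1 := by rw [← map_mul, inv_mul_cancel, map_one]
      rwa [hx1, mul_one] at h
    rw [map_mul, map_mul, map_mul, hx1, hxi, one_mul, mul_one, ← map_mul, mul_inv_cancel, map_one]
  have h1 := hfaith ⟨_, hc⟩ ((hker _).mpr hρc)
  have h2 : x * n * x⁻¹ * (n : T)⁻¹ = 1 := congrArg Subtype.val h1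
  have h3 : x * n * x⁻¹ = n := by
    have := mul_inv_eq_one.mp h2
    exact this
  calc x * n = x * n * x⁻¹ * x := by group
    _ = n * x := by rw [h3]

theorem hall_frattini {G : Type*} [Group G] [Finite G] (K R Q : Subgroup G) [hK : K.Normal]
    [R.Normal]
    (hRK : R ≤ K) (hQK : Q ≤ K) (hsolv : Group.IsSolvable R)
    (hcop : (Nat.card R).Coprime (R.relIndex K)) (hQ : Nat.card Q = R.relIndex K) (g : G) :
    ∃ k ∈ K, k * g ∈ Subgroup.normalizer (Q : Set G) := by
  have hcardR : Nat.card (R.subgroupOf K) = Nat.card R :=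
    Nat.card_congr (Subgroup.subgroupOfEquivOfLe hRK).toEquiv
  have hsolv' : Group.IsSolvable (R.subgroupOf K) := by
    have := hsolv
    exact Group.isSolvable_of_isSolvable_injective
      (f := (Subgroup.subgroupOfEquivOfLe hRK).toMonoidHom)
      (Subgroup.subgroupOfEquivOfLe hRK).injective
  have hidx : (R.subgroupOf K).index = R.relIndex K := rfl
  have hcop' : (Nat.card (R.subgroupOf K)).Coprime (R.subgroupOf K).index := by
    rw [hcardR, hidx]; exact hcop
  set Qg : Subgroup G := Q.map (MulAut.conj g).toMonoidHom with hQg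
  have hQgK : Qg ≤ K := by
    rintro _ ⟨q, hq, rfl⟩
    exact hK.conj_mem q (hQK hq) g
  have hcardQg : Nat.card Qg = Nat.card Q :=
    Subgroup.card_map_of_injective (MulAut.conj g).injective
  have h0 : Nat.card (Q.subgroupOf K) = (R.subgroupOf K).index := by
    rw [hidx, ← hQ]
    exact Nat.card_congr (Subgroup.subgroupOfEquivOfLe hQK).toEquiv
  have h1 : Nat.card (Qg.subgroupOf K) = (R.subgroupOf K).index := by
    rw [hidx, ← hQ, ← hcardQg]
    exact Nat.card_congr (Subgroup.subgroupOfEquivOfLe hQgK).toEquiv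
  obtain ⟨y, hy⟩ := Cfsg.Agent.Lib.Helper1_SZ.sz_conj_card (R.subgroupOf K) hcop' (Or.inl hsolv')
    (Qg.subgroupOf K) (Q.subgroupOf K) h1 h0
  refine ⟨(y : G), y.2, ?_⟩
  rw [Subgroup.mem_normalizer_iff]
  intro h
  constructor
  · intro hh
    have hmem : (⟨g * h * g⁻¹, hK.conj_mem h (hQK hh) g⟩ : K) ∈ Qg.subgroupOf K := by
      rw [Subgroup.mem_subgroupOf]
      exact ⟨h, hh, rfl⟩
    have h2 : MulAut.conj y • (⟨g * h * g⁻¹, hK.conj_mem h (hQK hh) g⟩ : K) ∈
        MulAut.conj y • Qg.subgroupOf K := Subgroup.smul_mem_pointwise_smul _ _ _ hmem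
    rw [hy, Subgroup.mem_subgroupOf] at h2
    have h3 : ((MulAut.conj y • (⟨g * h * g⁻¹, hK.conj_mem h (hQK hh) g⟩ : K) : K) : G) =
        (y : G) * g * h * ((y : G) * g)⁻¹ := by
      rw [MulAut.smul_def, MulAut.conj_apply]
      push_cast
      group
    rw [h3] at h2
    exact h2
  · intro hh
    have hzK : (y : G) * g * h * ((y : G) * g)⁻¹ ∈ K := hQK hh
    have hz : (⟨_, hzK⟩ : K) ∈ Q.subgroupOf K := by
      rw [Subgroup.mem_subgroupOf]; exact hh
    rw [← hy, Subgroup.mem_pointwise_smul_iff_inv_smul_mem, Subgroup.mem_subgroupOf] at hz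
    have h3 : (((MulAut.conj y)⁻¹ • (⟨_, hzK⟩ : K) : K) : G) = g * h * g⁻¹ := by
      rw [MulAut.smul_def, ← map_inv, MulAut.conj_apply]
      push_cast
      group
    rw [h3] at hz
    obtain ⟨q, hq, hqe⟩ := hz
    have : q = h := by
      have h4 : g * q * g⁻¹ = g * h * g⁻¹ := hqe
      simpa using h4
    rw [← this]; exact hq

end Cfsg.Agent.Lib.Helper74_S4472_Aux
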