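import Mathlib
import Cfsg.Prelude.Def_Local
import Cfsg.Prelude.Def_Solvable
import Cfsg.Agent.Lib.Helper54_S4472_SETUPaux
import Cfsg.Agent.Lib.Helper74_S4472_Aux

/-!
# S4472 (architect helper74), package SETUP: verbatim form (`setup_aux` + helper74's HALLFRAT)
-/

set_option autoImplicit false

namespace Cfsg.Agent.Lib.Helper54_S4472_SETUP

open Cfsg

/-- **SETUP**. -/
theorem setup {G : Type*} [Group G] [Finite G] (p : ℕ) [Fact p.Prime]
    (hsolv : Cfsg.IsPSolvable p G) :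
    ∃ Q P : Subgroup G, (Nat.card Q).Coprime p ∧ IsPGroup p P ∧
      P ≤ Subgroup.normalizer (Q : Set G) ∧
      (∀ x ∈ P, (∀ y ∈ Q, x * y = y * x) → x ∈ Cfsg.pCore p G) ∧
      (Cfsg.pCore p G).relIndex P = p ^ ((Cfsg.pCore p G).index.factorization p) :=
  Cfsg.Agent.Lib.Helper54_S4472_SETUPaux.setup_aux p hsolv
    (fun K R Q _ _ h1 h2 h3 h4 h5 g =>
      Cfsg.Agent.Lib.Helper74_S4472_Aux.hall_frattini K R Q h1 h2 h3 h4 h5 g)

end Cfsg.Agent.Lib.Helper54_S4472_SETUP
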