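import Mathlib
import Cfsg.Prelude.Def_CaseTheorems
import Cfsg.Agent.Lib.Helper21_SCNCDefs
import Cfsg.Agent.Lib.Helper8_SCNC_NOSDCORE
import Cfsg.Agent.S1213

set_option autoImplicit false
open Cfsg.Agent.Lib.Helper21_SCNC

/-!
# S3921-NOSD: a simple `SCNC`-group has no quasi-dihedral Sylow 2-subgroups
-/

namespace Cfsg.Agent.Lib.Helper54_SCNC_NOSD

/-! ### the unique involution of a generalized quaternion group -/

theorem quat_sq_eq_one {n : ℕ} [NeZero n] (g : QuaternionGroup n) (hg : g ^ 2 = 1) :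
    g = 1 ∨ g = QuaternionGroup.a (n : ZMod (2 * n)) := by
  rcases g with i | i
  · have h2 : (QuaternionGroup.a i : QuaternionGroup n) ^ 2 = QuaternionGroup.a (i + i) := by
      rw [sq, QuaternionGroup.a_mul_a]
    rw [h2, QuaternionGroup.one_def] at hg
    have hii : i + i = 0 := by
      injection hg
    -- `2 i = 0` in `ZMod (2n)`
    have hn0 : n ≠ 0 := NeZero.ne n
    haveI : NeZero (2 * n) := ⟨by omega⟩
    have hval : (2 * n) ∣ i.val + i.val := by
      have h1 : ((i.val + i.val : ℕ) : ZMod (2 * n)) = 0 := by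
        rw [Nat.cast_add, ZMod.natCast_zmod_val, hii]
      exact (ZMod.natCast_eq_zero_iff _ _).mp h1
    have hlt : i.val < 2 * n := ZMod.val_lt i
    obtain ⟨c, hc⟩ := hval
    have hc' : i.val = n * c := by
      have : i.val + i.val = 2 * (n * c) := by rw [hc]; ring
      omega
    have hc01 : c = 0 ∨ c = 1 := by
      have : n * c < 2 * n := by rw [← hc']; exact hlt
      have : c < 2 := by
        by_contra hcon
        push Not at hcon
        have : 2 * n ≤ n * c := by nlinarith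
        omega
      omega
    rcases hc01 with rfl | rfl
    · left
      have : i = 0 := by
        rw [← ZMod.natCast_zmod_val i, hc', mul_zero, Nat.cast_zero]
      rw [this, QuaternionGroup.a_zero]
    · right
      have : i = (n : ZMod (2 * n)) := by
        rw [← ZMod.natCast_zmod_val i, hc', mul_one]
      rw [this]
  · exfalso
    have h4 := QuaternionGroup.orderOf_xa (n := n) i
    have : orderOf (QuaternionGroup.xa i : QuaternionGroup n) ∣ 2 := orderOf_dvd_of_pow_eq_one hg
    rw [h4] at this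
    norm_num at this

/-- in a group isomorphic to a generalized quaternion group any two involutions coincide -/
theorem invol_unique_of_quat {P : Type*} [Group P] {n : ℕ} [NeZero n] (φ : P ≃* QuaternionGroup n)
    (u v : P) (hu : orderOf u = 2) (hv : orderOf v = 2) : u = v := by
  have key : ∀ w : P, orderOf w = 2 → φ w = QuaternionGroup.a (n : ZMod (2 * n)) := by
    intro w hw
    have hw2 : w ^ 2 = 1 := by rw [← hw]; exact pow_orderOf_eq_one w
    have hw1 : w ≠ 1 := by
      intro h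
      rw [h, orderOf_one] at hw
      norm_num at hw
    have h1 : (φ w) ^ 2 = 1 := by rw [← map_pow, hw2, map_one]
    rcases quat_sq_eq_one (φ w) h1 with h | h
    · exfalso
      apply hw1
      exact φ.injective (by rw [h, map_one])
    · exact h
  exact φ.injective (by rw [key u hu, key v hv])

/-- a group isomorphic to a generalized quaternion group `Q_{4n}`, `n ≥ 2` even, has an involution -/
theorem exists_invol_of_quat {P : Type*} [Group P] {n : ℕ} [NeZero n] (φ : P ≃* QuaternionGroup n) :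
    ∃ u : P, orderOf u = 2 := by
  refine ⟨φ.symm (QuaternionGroup.xa 0 ^ 2), ?_⟩
  rw [MulEquiv.orderOf_eq]
  have h4 := QuaternionGroup.orderOf_xa (n := n) 0
  rw [orderOf_pow' _ (by norm_num), h4]
  norm_num


/-! ### the central involution of a quasi-dihedral group -/

theorem qd_facts {S : Type*} [Group S] (m : ℕ) (hm : 2 ≤ m) (x y : S)
    (hx : orderOf x = 2 ^ (m + 1)) (hrel : y * x * y⁻¹ = x ^ (2 ^ m - 1)) :
    orderOf (x ^ 2 ^ m) = 2 ∧ y * x ^ 2 ^ m = x ^ 2 ^ m * y ∧ y ≠ x ^ 2 ^ m := by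
  have h2m : 4 ≤ 2 ^ m := by
    calc 4 = 2 ^ 2 := by norm_num
      _ ≤ 2 ^ m := Nat.pow_le_pow_right (by norm_num) hm
  have hord : orderOf (x ^ 2 ^ m) = 2 := by
    rw [orderOf_pow' _ (by positivity), hx]
    have hg : Nat.gcd (2 ^ (m + 1)) (2 ^ m) = 2 ^ m :=
      Nat.gcd_eq_right (pow_dvd_pow 2 (Nat.le_succ m))
    rw [hg, pow_succ, Nat.mul_div_cancel_left _ (by positivity)]
  have ht2 : (x ^ 2 ^ m) ^ 2 = 1 := by
    have := pow_orderOf_eq_one (x ^ 2 ^ m)
    rwa [hord] at this
  refine ⟨hord, ?_, ?_⟩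
  · have h1 : y * x ^ 2 ^ m * y⁻¹ = x ^ 2 ^ m := by
      rw [← conj_pow, hrel, ← pow_mul, mul_comm, pow_mul]
      obtain ⟨j, hj⟩ : ∃ j, 2 ^ m - 1 = 2 * j + 1 := by
        obtain ⟨c, hc⟩ : ∃ c, 2 ^ m = 2 * c := ⟨2 ^ (m - 1), by
          rw [← pow_succ']; congr 1; omega⟩
        exact ⟨c - 1, by omega⟩
      rw [hj, pow_succ, pow_mul, ht2, one_pow, one_mul]
    calc y * x ^ 2 ^ m = (y * x ^ 2 ^ m * y⁻¹) * y := by group
      _ = x ^ 2 ^ m * y := by rw [h1]
  · intro hyt
    have hcomm : y * x * y⁻¹ = x := by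
      rw [hyt]
      have : x ^ 2 ^ m * x = x * x ^ 2 ^ m := by rw [← pow_succ, ← pow_succ']
      rw [this, mul_assoc, mul_inv_cancel, mul_one]
    rw [hcomm] at hrel
    have h1 : x ^ (2 ^ m - 2) = 1 := by
      have e : 2 ^ m - 1 = (2 ^ m - 2) + 1 := by omega
      rw [e, pow_succ] at hrel
      have : x ^ (2 ^ m - 2) * x = 1 * x := by rw [one_mul]; exact hrel.symm
      exact mul_right_cancel this
    have hdvd := orderOf_dvd_of_pow_eq_one h1
    rw [hx] at hdvd
    have hle := Nat.le_of_dvd (by omega) hdvd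
    have : 2 ^ (m + 1) = 2 * 2 ^ m := by rw [pow_succ]; ring
    omega


/-! ### involutions of `K` -/

theorem orderOf_conj_eq {C : Type*} [Group C] (g u : C) : orderOf (g * u * g⁻¹) = orderOf u := by
  have := orderOf_injective (MulAut.conj g).toMonoidHom (MulAut.conj g).injective u
  simpa using this

/-- step (i): the only involution of `K` is `t` -/
theorem invol_eq {C : Type*} [Group C] [Finite C] (h : SCNC C) (t : C) (ht : orderOf t = 2)
    (htZ : ∀ c : C, c * t = t * c) (K : Subgroup C) [hKn : K.Normal]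
    (hQ : ∀ P : Sylow 2 ↥K, ∃ m : ℕ, 1 ≤ m ∧
      Nonempty (↥(P : Subgroup ↥K) ≃* QuaternionGroup (2 ^ m)))
    (R : Sylow 2 C) (hR : 16 ≤ Nat.card R) :
    ∀ u ∈ K, orderOf u = 2 → u = t := by
  intro u huK hu
  by_contra hne
  have : Fact (Nat.Prime 2) := ⟨Nat.prime_two⟩
  set uK : ↥K := ⟨u, huK⟩ with huKdef
  have huK2 : orderOf uK = 2 := by rw [← hu]; exact Subgroup.orderOf_mk u huK
  have hU0 : IsPGroup 2 ↥(Subgroup.zpowers uK) := by
    apply IsPGroup.of_card (n := 1)
    rw [Nat.card_zpowers, huK2, pow_one]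
  obtain ⟨P, hP⟩ := hU0.exists_le_sylow
  have huP : uK ∈ (P : Subgroup ↥K) := hP (Subgroup.mem_zpowers uK)
  obtain ⟨m, hm, ⟨φ⟩⟩ := hQ P
  haveI : NeZero (2 ^ m) := ⟨by positivity⟩
  have hP' : IsPGroup 2 ↥((P : Subgroup ↥K).map K.subtype) := P.2.map K.subtype
  obtain ⟨R₁, hR₁⟩ := hP'.exists_le_sylow
  have huR : u ∈ (R₁ : Subgroup C) := hR₁ ⟨uK, huP, rfl⟩
  have hQ1 : IsPGroup 2 ↥((R₁ : Subgroup C).subgroupOf K) := R₁.2.comap_subtype
  have hPle : (P : Subgroup ↥K) ≤ (R₁ : Subgroup C).subgroupOf K := by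
    intro w hw
    rw [Subgroup.mem_subgroupOf]
    exact hR₁ ⟨w, hw, rfl⟩
  have hEq : (R₁ : Subgroup C).subgroupOf K = P := P.3 hQ1 hPle
  -- every element of `R₁` centralizes `u`
  have hcent : ∀ g ∈ (R₁ : Subgroup C), g * u = u * g := by
    intro g hg
    have hgu : g * u * g⁻¹ ∈ K := hKn.conj_mem u huK g
    have hvP : (⟨g * u * g⁻¹, hgu⟩ : ↥K) ∈ (P : Subgroup ↥K) := by
      rw [← hEq, Subgroup.mem_subgroupOf]
      exact (R₁ : Subgroup C).mul_mem ((R₁ : Subgroup C).mul_mem hg huR)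
        ((R₁ : Subgroup C).inv_mem hg)
    have hv2 : orderOf (⟨g * u * g⁻¹, hgu⟩ : ↥K) = 2 := by
      rw [Subgroup.orderOf_mk, orderOf_conj_eq, hu]
    have key := invol_unique_of_quat φ
      (⟨⟨g * u * g⁻¹, hgu⟩, hvP⟩ : ↥(P : Subgroup ↥K)) ⟨uK, huP⟩
      (by rw [Subgroup.orderOf_mk]; exact hv2) (by rw [Subgroup.orderOf_mk]; exact huK2)
    have key' : g * u * g⁻¹ = u := by
      have := congrArg (fun w : ↥(P : Subgroup ↥K) => ((w : ↥K) : C)) key
      simpa using this
    calc g * u = (g * u * g⁻¹) * g := by group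
      _ = u * g := by rw [key']
  -- `t ∈ R₁`
  have hZn : (Subgroup.zpowers t).Normal := by
    refine ⟨fun n hn g => ?_⟩
    obtain ⟨k, rfl⟩ := Subgroup.mem_zpowers_iff.1 hn
    have hcomm : g * t ^ k = t ^ k * g := by
      have : Commute g t := htZ g
      exact (this.zpow_right k)
    rw [hcomm, mul_assoc, mul_inv_cancel, mul_one]
    exact Subgroup.zpow_mem _ (Subgroup.mem_zpowers t) k
  have hZp : IsPGroup 2 ↥(Subgroup.zpowers t) := by
    apply IsPGroup.of_card (n := 1)
    rw [Nat.card_zpowers, ht, pow_one]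
  have htR : t ∈ (R₁ : Subgroup C) := by
    have hsup : IsPGroup 2 ↥((R₁ : Subgroup C) ⊔ Subgroup.zpowers t) :=
      IsPGroup.to_sup_of_normal_right R₁.2 hZp
    have := R₁.3 hsup le_sup_left
    rw [← this]
    exact le_sup_right (a := (R₁ : Subgroup C)) (Subgroup.mem_zpowers t)
  -- the four-group `⟨t, u⟩` contains `R₁`
  have hne' : t ≠ u := fun e => hne e.symm
  have hnc : ¬ IsCyclic ↥(Subgroup.closure ({t, u} : Set C)) :=
    not_isCyclic_of_two_invol ht hu hne' (Subgroup.subset_closure (by simp))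
      (Subgroup.subset_closure (by simp))
  have hle : (R₁ : Subgroup C) ≤ Subgroup.closure ({t, u} : Set C) := by
    intro g hg
    apply h _ hnc
    rw [Subgroup.mem_centralizer_iff]
    intro w hw
    have hcl : Subgroup.closure ({t, u} : Set C) ≤ Subgroup.centralizer ({g} : Set C) := by
      rw [Subgroup.closure_le]
      intro z hz
      rw [SetLike.mem_coe, Subgroup.mem_centralizer_iff]
      intro w' hw'
      rw [Set.mem_singleton_iff] at hw'
      subst hw'
      rcases hz with rfl | hz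
      · exact htZ w'
      · rw [Set.mem_singleton_iff] at hz
        subst hz
        exact hcent w' hg
    have h1 := hcl hw
    rw [Subgroup.mem_centralizer_iff] at h1
    exact (h1 g (Set.mem_singleton g)).symm
  have hcard4 : Nat.card ↥(Subgroup.closure ({t, u} : Set C)) = 4 :=
    card_closure_pair ht hu hne' (htZ u).symm
  have h1 : Nat.card (R₁ : Subgroup C) ≤ 4 := by
    rw [← hcard4]
    exact Subgroup.card_le_of_le hle
  have h2 : Nat.card (R₁ : Subgroup C) = Nat.card (R : Subgroup C) :=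
    Nat.card_congr (Sylow.equiv R₁ R).toEquiv
  omega


/-! ### the main statement -/

/-- a finite group without subgroups of index two whose order is a power of two is trivial -/
theorem not_isPGroup_of_no_index_two {K : Type*} [Group K] [Finite K]
    (hK2 : ∀ H : Subgroup K, H.index ≠ 2) (hnt : ∃ u : K, orderOf u = 2) : ¬ IsPGroup 2 K := by
  intro hp
  have : Fact (Nat.Prime 2) := ⟨Nat.prime_two⟩
  obtain ⟨k, hk⟩ := (IsPGroup.iff_card (p := 2) (G := K)).mp hp
  obtain ⟨u, hu⟩ := hnt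
  have hk1 : 1 ≤ k := by
    by_contra hcon
    have hk0 : k = 0 := by omega
    rw [hk0, pow_zero] at hk
    have := orderOf_dvd_natCard u
    rw [hu, hk] at this
    norm_num at this
  obtain ⟨H, hH⟩ := Sylow.exists_subgroup_card_pow_prime (G := K) 2 (n := k - 1) (by
    rw [hk]; exact pow_dvd_pow 2 (by omega))
  apply hK2 H
  have h1 := Subgroup.index_mul_card H
  rw [hH, hk] at h1
  have h2 : (2 : ℕ) ^ k = 2 * 2 ^ (k - 1) := by
    rw [← pow_succ']; congr 1; omega
  rw [h2] at h1
  exact Nat.eq_of_mul_eq_mul_right (by positivity) h1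

/-- **S3921-NOSD**. -/
theorem no_quasiDihedral {G : Type*} [Group G] [Finite G] [IsSimpleGroup G] (hna : ¬ IsMulCommutative G)
    (h : SCNC G) (S : Sylow 2 G) (hS : Cfsg.IsQuasiDihedral ↥(S : Subgroup G)) : False := by
  have : Fact (Nat.Prime 2) := ⟨Nat.prime_two⟩
  have hS' := hS
  obtain ⟨n, hn, hcard, x, y, hx, hy, hrel⟩ := hS
  obtain ⟨m, rfl⟩ : ∃ m, n = m + 1 := ⟨n - 1, by omega⟩
  have hm : 2 ≤ m := by omega
  simp only [Nat.add_sub_cancel] at hrel
  obtain ⟨hts, hyt, hyne⟩ := qd_facts m hm x y hx hrel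
  set t : G := ((x ^ 2 ^ m : ↥(S : Subgroup G)) : G) with htdef
  have ht : orderOf t = 2 := by rw [htdef, Subgroup.orderOf_coe]; exact hts
  -- no subgroup of index two
  have hG : ∀ H : Subgroup G, H.index ≠ 2 := by
    intro H hH
    haveI : H.Normal := Subgroup.normal_of_index_eq_two hH
    rcases (inferInstance : H.Normal).eq_bot_or_eq_top with hb | htop
    · rw [hb, Subgroup.index_bot] at hH
      apply hna
      haveI : Fact (Nat.Prime (Nat.card G)) := ⟨by rw [hH]; exact Nat.prime_two⟩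
      haveI := isCyclic_of_prime_card (α := G) (p := Nat.card G) rfl
      exact inferInstance
    · rw [htop, Subgroup.index_top] at hH
      norm_num at hH
  obtain ⟨R, hRcard, ⟨K, hKn, _, hK2, hKQ⟩, _⟩ :=
    Cfsg.Agent.S1213.result S (Or.inl hS') hG t ht
  haveI := hKn
  have hC : SCNC ↥(Subgroup.centralizer ({t} : Set G)) := h.subgroup _
  have htmem : t ∈ Subgroup.centralizer ({t} : Set G) := by
    rw [Subgroup.mem_centralizer_iff]
    intro w hw
    rw [Set.mem_singleton_iff] at hw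
    rw [hw]
  set t' : ↥(Subgroup.centralizer ({t} : Set G)) := ⟨t, htmem⟩ with ht'def
  have ht' : orderOf t' = 2 := by rw [← ht]; exact Subgroup.orderOf_mk t htmem
  have htZ : ∀ c : ↥(Subgroup.centralizer ({t} : Set G)), c * t' = t' * c := by
    intro c
    apply Subtype.ext
    have := (Subgroup.mem_centralizer_iff.mp c.2) t (Set.mem_singleton t)
    exact this.symm
  have hR16 : 16 ≤ Nat.card (R : Subgroup ↥(Subgroup.centralizer ({t} : Set G))) := by
    rw [hRcard, hcard]
    calc 16 = 2 ^ 4 := by norm_num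
      _ ≤ 2 ^ (m + 1 + 1) := Nat.pow_le_pow_right (by norm_num) (by omega)
  have hK1 := invol_eq hC t' ht' htZ K hKQ R hR16
  -- an involution of `K`
  have hexu : ∃ u : ↥K, orderOf u = 2 := by
    obtain ⟨P⟩ : Nonempty (Sylow 2 ↥K) := inferInstance
    obtain ⟨m', _, ⟨φ⟩⟩ := hKQ P
    haveI : NeZero (2 ^ m') := ⟨by positivity⟩
    obtain ⟨u, hu⟩ := exists_invol_of_quat φ
    exact ⟨(u : ↥K), by rw [Subgroup.orderOf_coe]; exact hu⟩
  have htK : t' ∈ K := by
    obtain ⟨u, hu⟩ := hexu
    have := hK1 (u : ↥(Subgroup.centralizer ({t} : Set G))) u.2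
      (by rw [Subgroup.orderOf_coe]; exact hu)
    rw [← this]
    exact u.2
  -- an element of odd prime order in `K`
  have hnp : ¬ IsPGroup 2 ↥K := not_isPGroup_of_no_index_two hK2 hexu
  obtain ⟨r, hr, hrd, hrodd⟩ : ∃ r : ℕ, r.Prime ∧ r ∣ Nat.card ↥K ∧ Odd r := by
    rcases Nat.eq_two_pow_or_exists_odd_prime_and_dvd (Nat.card ↥K) with ⟨k, hk⟩ | hex
    · exact absurd (IsPGroup.of_card hk) hnp
    · exact hex
  have hr2 : r ≠ 2 := by
    rintro rfl
    exact (Nat.not_odd_iff_even.mpr even_two) hrodd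
  haveI : Fact r.Prime := ⟨hr⟩
  obtain ⟨x₀, hx₀⟩ := exists_prime_orderOf_dvd_card' (G := ↥K) r hrd
  -- the involution `y`
  have hymem : (y : G) ∈ Subgroup.centralizer ({t} : Set G) := by
    rw [Subgroup.mem_centralizer_iff]
    intro w hw
    rw [Set.mem_singleton_iff] at hw
    rw [hw, htdef]
    have := congrArg (Subtype.val) hyt
    simpa using this.symm
  set b : ↥(Subgroup.centralizer ({t} : Set G)) := ⟨(y : G), hymem⟩ with hbdef
  have hb : orderOf b = 2 := by
    rw [hbdef, Subgroup.orderOf_mk, Subgroup.orderOf_coe]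
    exact hy
  have hbK : b ∉ K := by
    intro hbK
    have := hK1 b hbK hb
    apply hyne
    have h1 : (b : G) = (t' : G) := congrArg Subtype.val this
    have h2 : (y : G) = t := h1
    exact Subtype.ext h2
  exact Cfsg.Agent.Lib.Helper8_SCNC_NOSDCORE.nosd_core hC t' ht' htZ K hK1 htK
    (x₀ : ↥(Subgroup.centralizer ({t} : Set G))) x₀.2 r hr hr2
    (by rw [Subgroup.orderOf_coe]; exact hx₀) b hb hbK

end Cfsg.Agent.Lib.Helper54_SCNC_NOSD
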