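import Mathlib

set_option autoImplicit false
open Subgroup

/-!
# SO-CENT2: `n_p = 2p + 1`, `|P| = p`  ⇒  `|C_G(P)|` divides `2p²`
-/

namespace Cfsg.Agent.Lib.Helper54_SO_CENT2

/-- **SO-CENT2**. -/
theorem card_centralizer_dvd_of_card_sylow_eq {G : Type*} [Group G] [Finite G] [IsSimpleGroup G]
    (p : ℕ) [Fact p.Prime] (P : Sylow p G) (hP : Nat.card (P : Subgroup G) = p)
    (hn : Nat.card (Sylow p G) = 2 * p + 1) :
    Nat.card (centralizer ((P : Subgroup G) : Set G)) ∣ 2 * p ^ 2 := by
  classical
  have hpp : p.Prime := Fact.out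
  haveI : Fintype (Sylow p G) := Fintype.ofFinite _
  have hcardS : Fintype.card (Sylow p G) = 2 * p + 1 := by
    rw [← Nat.card_eq_fintype_card, hn]
  set φ : G →* Equiv.Perm (Sylow p G) := MulAction.toPermHom G (Sylow p G) with hφ
  have hφapp : ∀ (g : G) (Q : Sylow p G), φ g Q = g • Q := fun g Q => rfl
  -- `φ` is injective
  have hinj : Function.Injective φ := by
    rw [← MonoidHom.ker_eq_bot_iff]
    rcases (φ.normal_ker).eq_bot_or_eq_top with h | h
    · exact h
    · exfalso
      have hex : ∃ Q : Sylow p G, Q ≠ P := by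
        by_contra hcon
        push Not at hcon
        have : Fintype.card (Sylow p G) ≤ 1 :=
          Fintype.card_le_one_iff.mpr fun a b => by rw [hcon a, hcon b]
        rw [hcardS] at this
        have hp0 : 0 < p := hpp.pos
        omega
      obtain ⟨Q, hQ⟩ := hex
      obtain ⟨g, hg⟩ := MulAction.exists_smul_eq G P Q
      have hgk : g ∈ φ.ker := by rw [h]; exact Subgroup.mem_top g
      rw [MonoidHom.mem_ker] at hgk
      have := hφapp g P
      rw [hgk, Equiv.Perm.one_apply, hg] at this
      exact hQ this.symm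
  -- a generator of `P`
  have : Fact (Nat.card (P : Subgroup G)).Prime := ⟨by rw [hP]; exact hpp⟩
  have hex1 : ∃ x : G, x ∈ (P : Subgroup G) ∧ x ≠ 1 := by
    by_contra hcon
    push Not at hcon
    have : (P : Subgroup G) = ⊥ := (Subgroup.eq_bot_iff_forall _).mpr hcon
    rw [this, Subgroup.card_bot] at hP
    exact hpp.one_lt.ne hP
  obtain ⟨x, hxP, hx1⟩ := hex1
  have hgen : ∀ w ∈ (P : Subgroup G), w ∈ Subgroup.zpowers x := by
    intro w hw
    have htop : Subgroup.zpowers (⟨x, hxP⟩ : (P : Subgroup G)) = ⊤ := by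
      apply zpowers_eq_top_of_prime_card (p := Nat.card (P : Subgroup G)) rfl
      intro h
      exact hx1 (congrArg Subtype.val h)
    have hmem : (⟨w, hw⟩ : (P : Subgroup G)) ∈ Subgroup.zpowers (⟨x, hxP⟩ : (P : Subgroup G)) := by
      rw [htop]; exact Subgroup.mem_top _
    obtain ⟨k, hk⟩ := Subgroup.mem_zpowers_iff.mp hmem
    refine Subgroup.mem_zpowers_iff.mpr ⟨k, ?_⟩
    have := congrArg Subtype.val hk
    simpa using this
  have hordx : orderOf x = p := by
    have h1 : orderOf x ∣ p := by
      rw [← hP]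
      have := orderOf_dvd_natCard (⟨x, hxP⟩ : (P : Subgroup G))
      rwa [Subgroup.orderOf_mk] at this
    rcases (Nat.dvd_prime hpp).mp h1 with h | h
    · exact absurd (orderOf_eq_one_iff.mp h) hx1
    · exact h
  set σ : Equiv.Perm (Sylow p G) := φ x with hσ
  have hordσ : orderOf σ = p := by
    rw [hσ, orderOf_injective φ hinj, hordx]
  -- fixed points of `σ`
  have hfix : ∀ Q : Sylow p G, σ Q = Q ↔ Q = P := by
    intro Q
    rw [hσ, hφapp, Sylow.smul_eq_iff_mem_normalizer]
    constructor
    · intro hxN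
      have h1 : x ∈ (P : Subgroup G) ⊓ normalizer ((Q : Subgroup G) : Set G) := ⟨hxP, hxN⟩
      replace h1 : x ∈ (P : Subgroup G) ⊓ (Q : Subgroup G) :=
        (le_of_eq (P.2.inf_normalizer_sylow Q)) h1
      have hPQ : (P : Subgroup G) ≤ Q := by
        intro w hw
        obtain ⟨k, rfl⟩ := Subgroup.mem_zpowers_iff.mp (hgen w hw)
        exact (Q : Subgroup G).zpow_mem h1.2 k
      exact Sylow.ext (P.3 Q.2 hPQ)
    · rintro rfl
      exact Subgroup.le_normalizer hxP
  have hsupp : σ.support = Finset.univ.erase P := by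
    ext Q
    rw [Equiv.Perm.mem_support, Finset.mem_erase, Ne, hfix]
    simp
  have hsuppcard : σ.support.card = 2 * p := by
    rw [hsupp, Finset.card_erase_of_mem (Finset.mem_univ P), Finset.card_univ, hcardS]
    simp
  -- cycle type
  obtain ⟨n, hct⟩ := Equiv.Perm.cycleType_prime_order (σ := σ) (by rw [hordσ]; exact hpp)
  rw [hordσ] at hct
  have hn1 : n + 1 = 2 := by
    have h := Equiv.Perm.sum_cycleType σ
    rw [hct, Multiset.sum_replicate, hsuppcard, smul_eq_mul] at h
    have hp0 : 0 < p := hpp.pos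
    nlinarith [Nat.eq_of_mul_eq_mul_right hp0 h]
  rw [hn1] at hct
  -- the centralizer of `σ`
  have hcent : Nat.card (centralizer ({σ} : Set (Equiv.Perm (Sylow p G)))) = 2 * p ^ 2 := by
    rw [Equiv.Perm.nat_card_centralizer, hct, hcardS]
    have hsum : (Multiset.replicate 2 p).sum = 2 * p := by
      rw [Multiset.sum_replicate, smul_eq_mul]
    have hprod : (Multiset.replicate 2 p).prod = p ^ 2 := by
      rw [Multiset.prod_replicate]
    have hfin : (Multiset.replicate 2 p).toFinset = {p} := by
      rw [Multiset.toFinset_replicate]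
      simp
    rw [hsum, hprod, hfin, Finset.prod_singleton, Multiset.count_replicate_self]
    have : 2 * p + 1 - 2 * p = 1 := by omega
    rw [this]
    simp [Nat.factorial]
    ring
  -- `C_G(P)` embeds in it
  have hle : (centralizer ((P : Subgroup G) : Set G)).map φ ≤
      centralizer ({σ} : Set (Equiv.Perm (Sylow p G))) := by
    rintro _ ⟨g, hg, rfl⟩
    rw [mem_centralizer_iff]
    intro τ hτ
    rw [Set.mem_singleton_iff] at hτ
    subst hτ
    have hgx : x * g = g * x := (mem_centralizer_iff.mp hg) x hxP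
    rw [hσ, ← map_mul, ← map_mul, hgx]
  rw [← hcent, ← Subgroup.card_map_of_injective hinj]
  exact Subgroup.card_dvd_of_le hle

end Cfsg.Agent.Lib.Helper54_SO_CENT2
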