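import Mathlib
import Cfsg.Prelude.Def_GeometricClasses
import Cfsg.Prelude.Def_LieClassical

/-!
# Helper54_SUTransfer

Transport of the unitary set-up along a ring isomorphism `e : F ≃+* F'` of fields: the induced group
isomorphism `glEquiv e : GL_n(F) ≃* GL_n(F')` carries `GU n F q` to `GU n F' q`, the special linear group to the
special linear group, and maximality in a subgroup to maximality in the image.  Intended for replacing an
abstract field with `q ^ 2` elements by a computable model.
-/

set_option autoImplicit false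

namespace Cfsg.Agent.Lib.Helper54_SUTransfer

open Cfsg Cfsg.Geo Matrix
open scoped MatrixGroups

variable {F F' : Type*} [Field F] [Field F'] {n : ℕ}

/-- The group isomorphism `GL_n(F) ≃* GL_n(F')` induced by a ring isomorphism. -/
def glEquiv (e : F ≃+* F') : GL (Fin n) F ≃* GL (Fin n) F' where
  toFun := Matrix.GeneralLinearGroup.map (e : F →+* F')
  invFun := Matrix.GeneralLinearGroup.map (e.symm : F' →+* F)
  left_inv g := by
    apply Units.ext; ext i j
    simp
  right_inv g := by
    apply Units.ext; ext i j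
    simp
  map_mul' := map_mul _

@[simp] lemma glEquiv_apply (e : F ≃+* F') (g : GL (Fin n) F) (i j : Fin n) :
    (glEquiv e g : Matrix (Fin n) (Fin n) F') i j = e ((g : Matrix (Fin n) (Fin n) F) i j) := rfl

@[simp] lemma glEquiv_symm_apply (e : F ≃+* F') (g : GL (Fin n) F') (i j : Fin n) :
    ((glEquiv e).symm g : Matrix (Fin n) (Fin n) F) i j = e.symm ((g : Matrix (Fin n) (Fin n) F') i j) := rfl

lemma glEquiv_val (e : F ≃+* F') (g : GL (Fin n) F) :
    (glEquiv e g : Matrix (Fin n) (Fin n) F') = (g : Matrix (Fin n) (Fin n) F).map e := rfl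

lemma glEquiv_mulVec (e : F ≃+* F') (g : GL (Fin n) F) (v : Fin n → F) :
    (glEquiv e g : Matrix (Fin n) (Fin n) F') *ᵥ (fun i => e (v i)) =
      fun i => e (((g : Matrix (Fin n) (Fin n) F) *ᵥ v) i) := by
  ext i
  simp [Matrix.mulVec, dotProduct, map_sum]

lemma hermForm_map (e : F ≃+* F') (q : ℕ) (u v : Fin n → F) :
    hermForm n F' q (fun i => e (u i)) (fun i => e (v i)) = e (hermForm n F q u v) := by
  simp [hermForm, map_sum]

lemma glEquiv_mem_GU (e : F ≃+* F') (q : ℕ) (g : GL (Fin n) F) :
    glEquiv e g ∈ GU n F' q ↔ g ∈ GU n F q := by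
  constructor
  · intro h u v
    have h1 := h (fun i => e (u i)) (fun i => e (v i))
    simp only [Units.coeHom_apply] at h1 ⊢
    rw [glEquiv_mulVec, glEquiv_mulVec, hermForm_map, hermForm_map] at h1
    exact e.injective h1
  · intro h u v
    have h1 := h (fun i => e.symm (u i)) (fun i => e.symm (v i))
    simp only [Units.coeHom_apply] at h1 ⊢
    have hu : u = fun i => e (e.symm (u i)) := by ext i; simp
    have hv : v = fun i => e (e.symm (v i)) := by ext i; simp
    rw [hu, hv, glEquiv_mulVec, glEquiv_mulVec, hermForm_map, hermForm_map, h1]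

lemma map_GU (e : F ≃+* F') (q : ℕ) :
    (GU n F q).map (glEquiv e).toMonoidHom = GU n F' q := by
  ext g
  constructor
  · rintro ⟨x, hx, rfl⟩
    exact (glEquiv_mem_GU e q x).2 hx
  · intro hg
    refine ⟨(glEquiv e).symm g, ?_, by simp⟩
    show (glEquiv e).symm g ∈ GU n F q
    rw [← glEquiv_mem_GU e q]
    simpa using hg

lemma det_glEquiv (e : F ≃+* F') (g : GL (Fin n) F) :
    ((Matrix.GeneralLinearGroup.det (glEquiv e g) : F'ˣ) : F') =
      e ((Matrix.GeneralLinearGroup.det g : Fˣ) : F) := by
  simp only [Matrix.GeneralLinearGroup.val_det_apply, glEquiv_val]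
  exact (RingHom.map_det (e : F →+* F') _).symm

lemma glEquiv_mem_SL (e : F ≃+* F') (g : GL (Fin n) F) :
    glEquiv e g ∈ specialLinear (Fin n) F' ↔ g ∈ specialLinear (Fin n) F := by
  simp only [specialLinear, MonoidHom.mem_ker]
  rw [← Units.val_inj, ← Units.val_inj (a := Matrix.GeneralLinearGroup.det g), det_glEquiv]
  simp

lemma map_SL (e : F ≃+* F') :
    (specialLinear (Fin n) F).map (glEquiv e).toMonoidHom = specialLinear (Fin n) F' := by
  ext g
  constructor
  · rintro ⟨x, hx, rfl⟩
    exact (glEquiv_mem_SL e x).2 hx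
  · intro hg
    refine ⟨(glEquiv e).symm g, ?_, by simp⟩
    show (glEquiv e).symm g ∈ specialLinear (Fin n) F
    rw [← glEquiv_mem_SL e]
    simpa using hg

lemma map_SUg (e : F ≃+* F') (q : ℕ) :
    (GU n F q ⊓ specialLinear (Fin n) F).map (glEquiv e).toMonoidHom =
      GU n F' q ⊓ specialLinear (Fin n) F' := by
  have h := Subgroup.map_inf_eq (GU n F q) (specialLinear (Fin n) F) (glEquiv e).toMonoidHom
    (glEquiv e).injective
  rw [h, map_GU, map_SL]

section general

variable {G G' : Type*} [Group G] [Group G']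

lemma isMaximalIn_map (φ : G ≃* G') {K H : Subgroup G} (h : IsMaximalIn K H) :
    IsMaximalIn (K.map φ.toMonoidHom) (H.map φ.toMonoidHom) := by
  obtain ⟨hlt, hmax⟩ := h
  refine ⟨(Subgroup.map_lt_map_iff_of_injective φ.injective).2 hlt, fun M hHM hMK => ?_⟩
  have hM : (M.comap φ.toMonoidHom).map φ.toMonoidHom = M :=
    Subgroup.map_comap_eq_self_of_surjective φ.surjective M
  rcases hmax (M.comap φ.toMonoidHom) (Subgroup.map_le_iff_le_comap.1 hHM)
      (by rw [← hM] at hMK; exact (Subgroup.map_le_map_iff_of_injective φ.injective).1 hMK) with h1 | h1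
  · left; rw [← hM, h1]
  · right; rw [← hM, h1]

/-- Non-maximality can be checked after applying a group isomorphism. -/
lemma not_isMaximalIn_of_map (φ : G ≃* G') {K H : Subgroup G}
    (h : ¬ IsMaximalIn (K.map φ.toMonoidHom) (H.map φ.toMonoidHom)) : ¬ IsMaximalIn K H :=
  fun h' => h (isMaximalIn_map φ h')

lemma isMaximalIn_conj {K H : Subgroup G} (g : G) (hg : ∀ x, x ∈ K ↔ g * x * g⁻¹ ∈ K)
    (h : IsMaximalIn K H) : IsMaximalIn K (H.map (MulAut.conj g).toMonoidHom) := by
  have hK : K.map (MulAut.conj g).toMonoidHom = K := by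
    ext x
    constructor
    · rintro ⟨y, hy, rfl⟩
      exact (hg y).1 hy
    · intro hx
      refine ⟨g⁻¹ * x * g, ?_, by simp [mul_assoc]⟩
      show g⁻¹ * x * g ∈ K
      rw [hg]
      simpa [mul_assoc] using hx
  have := isMaximalIn_map (MulAut.conj g) h
  rwa [hK] at this

end general

end Cfsg.Agent.Lib.Helper54_SUTransfer
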