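import Mathlib
import Cfsg.Prelude.Def_GeometricClasses
import Cfsg.Prelude.Def_LieClassical
import Cfsg.Agent.Lib.Helper54_F25
import Cfsg.Agent.Lib.Helper54_SUTransfer
import Cfsg.Agent.Lib.Helper13_HermBridge

/-!
# Helper54_SU36_X5: the overgroup `X₅ ≅ 3.A₇` of `SU₃(5)` (shared core of SU36-E5a/E5b/E5c)

`SigmaP v` is helper27's predicate defining the 2520 vectors (105 points) `Σ`; `X5 F` is the stabiliser of `Σ` in
`SUg F = GU 3 F 5 ⊓ SL`.  Everything is stated for an arbitrary field `F` (with 25 elements where needed); the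
explicit computations are done in the computable model `F25` and transported along `glEquiv`.
-/

set_option autoImplicit false

namespace Cfsg.Agent.Lib.Helper54_SU36_X5

open Cfsg Cfsg.Geo Matrix
open Cfsg.Agent.Lib.Helper54_F25 Cfsg.Agent.Lib.Helper54_SUTransfer
open scoped MatrixGroups

section defs

variable {F : Type*} [Field F]

/-- the norm `x ↦ x ^ 6 = x * x ^ 5` of `F₂₅ / F₅` -/
def nm (x : F) : F := x ^ 6

/-- helper27's predicate: `v` is one of the 2520 vectors of `Σ`. -/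
def SigmaP (v : Fin 3 → F) : Prop :=
  Cfsg.hermForm 3 F 5 v v ≠ 0 ∧ (v 0 * v 1 * v 2) ^ 4 = (nm (v 0) * nm (v 1) * nm (v 2)) ^ 2 ∧
    (nm (v 0) - nm (v 1)) * (nm (v 1) - nm (v 2)) * (nm (v 0) - nm (v 2)) = 0

variable (F) in
/-- `SU₃(5)` inside `GL₃(F)`. -/
abbrev SUg : Subgroup (GL (Fin 3) F) := Cfsg.GU 3 F 5 ⊓ specialLinear (Fin 3) F

variable (F) in
/-- The stabiliser of `Σ` in `SU₃(5)`. -/
def X5 : Subgroup (GL (Fin 3) F) where
  carrier := {h | h ∈ SUg F ∧
    ∀ v : Fin 3 → F, SigmaP ((h : Matrix (Fin 3) (Fin 3) F) *ᵥ v) ↔ SigmaP v}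
  mul_mem' := by
    rintro a b ⟨ha, ha'⟩ ⟨hb, hb'⟩
    refine ⟨mul_mem ha hb, fun v => ?_⟩
    rw [Units.val_mul, ← Matrix.mulVec_mulVec, ha', hb']
  one_mem' := ⟨one_mem _, fun v => by simp⟩
  inv_mem' := by
    rintro a ⟨ha, ha'⟩
    refine ⟨inv_mem ha, fun v => ?_⟩
    rw [← ha', Matrix.mulVec_mulVec, ← Units.val_mul, mul_inv_cancel, Units.val_one, Matrix.one_mulVec]

lemma X5_le : X5 F ≤ SUg F := fun _ h => h.1

lemma mem_X5_iff {h : GL (Fin 3) F} : h ∈ X5 F ↔ h ∈ SUg F ∧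
    ∀ v : Fin 3 → F, SigmaP ((h : Matrix (Fin 3) (Fin 3) F) *ᵥ v) ↔ SigmaP v := Iff.rfl

/-- In a finite group it suffices to check one inclusion. -/
lemma mem_X5_of_forall [Finite F] {h : GL (Fin 3) F} (hS : h ∈ SUg F)
    (H : ∀ v : Fin 3 → F, SigmaP v → SigmaP ((h : Matrix (Fin 3) (Fin 3) F) *ᵥ v)) : h ∈ X5 F := by
  classical
  refine ⟨hS, fun v => ⟨fun hv => ?_, H v⟩⟩
  have hpow : ∀ k : ℕ, ∀ w : Fin 3 → F, SigmaP w →
      SigmaP (((h ^ k : GL (Fin 3) F) : Matrix (Fin 3) (Fin 3) F) *ᵥ w) := by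
    intro k
    induction k with
    | zero => intro w hw; simpa using hw
    | succ k ih =>
      intro w hw
      rw [pow_succ, Units.val_mul, ← Matrix.mulVec_mulVec]
      exact ih _ (H w hw)
  have hfin : IsOfFinOrder h := isOfFinOrder_of_finite h
  obtain ⟨n, hn, hn1⟩ := hfin.exists_pow_eq_one
  have h1 := hpow (n - 1) _ hv
  rw [Matrix.mulVec_mulVec, ← Units.val_mul, ← pow_succ, Nat.sub_add_cancel hn, hn1, Units.val_one,
    Matrix.one_mulVec] at h1
  exact h1

end defs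

/-! ### Scalar invariance and transport -/

section invariance

variable {F : Type*} [Field F]

lemma hermForm_three (u v : Fin 3 → F) :
    Cfsg.hermForm 3 F 5 u v = u 0 * v 0 ^ 5 + u 1 * v 1 ^ 5 + u 2 * v 2 ^ 5 := by
  simp [Cfsg.hermForm, Fin.sum_univ_three]

lemma sigmaP_smul [Fintype F] (hF : Fintype.card F = 25) {c : F} (hc : c ≠ 0) (v : Fin 3 → F) :
    SigmaP (c • v) ↔ SigmaP v := by
  have h24 : c ^ 24 = 1 := by
    have := FiniteField.pow_card_sub_one_eq_one c hc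
    rwa [hF] at this
  have h6 : c ^ 6 ≠ 0 := pow_ne_zero _ hc
  have h12 : c ^ 12 ≠ 0 := pow_ne_zero _ hc
  have h18 : c ^ 18 ≠ 0 := pow_ne_zero _ hc
  unfold SigmaP
  rw [hermForm_three, hermForm_three]
  simp only [Pi.smul_apply, smul_eq_mul, nm]
  have e1 : c * v 0 * (c * v 0) ^ 5 + c * v 1 * (c * v 1) ^ 5 + c * v 2 * (c * v 2) ^ 5 =
      c ^ 6 * (v 0 * v 0 ^ 5 + v 1 * v 1 ^ 5 + v 2 * v 2 ^ 5) := by ring
  have e2 : (c * v 0 * (c * v 1) * (c * v 2)) ^ 4 = c ^ 12 * (v 0 * v 1 * v 2) ^ 4 := by ring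
  have e3 : ((c * v 0) ^ 6 * (c * v 1) ^ 6 * (c * v 2) ^ 6) ^ 2 =
      c ^ 12 * (v 0 ^ 6 * v 1 ^ 6 * v 2 ^ 6) ^ 2 := by
    have : ((c * v 0) ^ 6 * (c * v 1) ^ 6 * (c * v 2) ^ 6) ^ 2 =
        c ^ 24 * (c ^ 12 * (v 0 ^ 6 * v 1 ^ 6 * v 2 ^ 6) ^ 2) := by ring
    rw [this, h24, one_mul]
  have e4 : ((c * v 0) ^ 6 - (c * v 1) ^ 6) * ((c * v 1) ^ 6 - (c * v 2) ^ 6) *
      ((c * v 0) ^ 6 - (c * v 2) ^ 6) =
      c ^ 18 * ((v 0 ^ 6 - v 1 ^ 6) * (v 1 ^ 6 - v 2 ^ 6) * (v 0 ^ 6 - v 2 ^ 6)) := by ring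
  rw [e1, e2, e3, e4, mul_ne_zero_iff, mul_eq_zero, mul_right_inj' h12]
  simp [h6, h18]

variable {F' : Type*} [Field F']

lemma sigmaP_map (e : F ≃+* F') (v : Fin 3 → F) : SigmaP (fun i => e (v i)) ↔ SigmaP v := by
  unfold SigmaP
  rw [hermForm_map]
  simp only [nm, ← map_pow, ← map_mul, ← map_sub]
  rw [EmbeddingLike.map_eq_zero_iff, e.injective.eq_iff, Ne, EmbeddingLike.map_eq_zero_iff]

lemma glEquiv_mem_X5 (e : F ≃+* F') (h : GL (Fin 3) F) : glEquiv e h ∈ X5 F' ↔ h ∈ X5 F := by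
  rw [mem_X5_iff, mem_X5_iff, Subgroup.mem_inf, Subgroup.mem_inf, glEquiv_mem_GU, glEquiv_mem_SL]
  refine and_congr Iff.rfl ⟨fun H v => ?_, fun H v => ?_⟩
  · have := H (fun i => e (v i))
    rwa [glEquiv_mulVec, sigmaP_map, sigmaP_map] at this
  · have hv : v = fun i => e (e.symm (v i)) := by ext i; simp
    rw [hv, glEquiv_mulVec, sigmaP_map, sigmaP_map]
    exact H _

lemma map_X5 (e : F ≃+* F') : (X5 F).map (glEquiv e).toMonoidHom = X5 F' := by
  ext g
  constructor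
  · rintro ⟨x, hx, rfl⟩
    exact (glEquiv_mem_X5 e x).2 hx
  · intro hg
    refine ⟨(glEquiv e).symm g, ?_, by simp⟩
    show (glEquiv e).symm g ∈ X5 F
    rw [← glEquiv_mem_X5 e]
    simpa using hg

end invariance

/-! ### The standard frame and the monomial group -/

section monomial

variable {F : Type*} [Field F]

variable (F) in
/-- The standard frame of coordinate lines. -/
def stdFrame : Fin 3 → Submodule F (Fin 3 → F) := fun i => Submodule.span F {Pi.single i (1 : F)}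

/-- Elements of the stabiliser of the standard frame are monomial. -/
lemma monomial_of_mem {g : GL (Fin 3) F} (hg : g ∈ decompositionStabilizer (stdFrame F)) :
    ∃ σ : Equiv.Perm (Fin 3), ∀ i k, k ≠ σ i → (g : Matrix (Fin 3) (Fin 3) F) k i = 0 := by
  obtain ⟨σ, hσ⟩ := hg
  refine ⟨σ, fun i k hk => ?_⟩
  have h1 : Matrix.toLin' (g : Matrix (Fin 3) (Fin 3) F) (Pi.single i 1) ∈ stdFrame F (σ i) := by
    rw [← hσ i]
    exact Submodule.mem_map_of_mem (Submodule.subset_span rfl)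
  rw [stdFrame, Submodule.mem_span_singleton] at h1
  obtain ⟨a, ha⟩ := h1
  have h2 := congrFun ha k
  rw [Matrix.toLin'_apply, Matrix.mulVec_single_one] at h2
  simp only [Pi.smul_apply, smul_eq_mul, Matrix.col_apply, Pi.single_apply, hk, if_false,
    mul_zero] at h2
  exact h2.symm

lemma monomial_mulVec {g : Matrix (Fin 3) (Fin 3) F} {σ : Equiv.Perm (Fin 3)}
    (hσ : ∀ i k, k ≠ σ i → g k i = 0) (v : Fin 3 → F) (i : Fin 3) :
    (g *ᵥ v) (σ i) = g (σ i) i * v i := by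
  rw [Matrix.mulVec, dotProduct, Finset.sum_eq_single i]
  · intro j _ hj
    rw [hσ j (σ i) (fun h => hj (σ.injective h).symm), zero_mul]
  · intro h; exact absurd (Finset.mem_univ i) h

lemma monomial_det {g : Matrix (Fin 3) (Fin 3) F} {σ : Equiv.Perm (Fin 3)}
    (hσ : ∀ i k, k ≠ σ i → g k i = 0) :
    g.det = (Equiv.Perm.sign σ : ℤ) * ∏ i, g (σ i) i := by
  rw [Matrix.det_apply', Finset.sum_eq_single σ]
  · intro τ _ hτ
    obtain ⟨i, hi⟩ : ∃ i, τ i ≠ σ i := by
      by_contra hcon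
      push Not at hcon
      exact hτ (Equiv.ext hcon)
    rw [Finset.prod_eq_zero (f := fun j => g (τ j) j) (Finset.mem_univ i) (hσ i (τ i) hi), mul_zero]
  · intro h; exact absurd (Finset.mem_univ σ) h

/-- two of the three values coincide -/
def Coll (a : Fin 3 → F) : Prop := ∃ i j, i ≠ j ∧ a i = a j

lemma coll_iff (a : Fin 3 → F) :
    (a 0 - a 1) * (a 1 - a 2) * (a 0 - a 2) = 0 ↔ Coll a := by
  constructor
  · intro h
    rcases mul_eq_zero.1 h with h | h
    · rcases mul_eq_zero.1 h with h | h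
      · exact ⟨0, 1, by decide, sub_eq_zero.1 h⟩
      · exact ⟨1, 2, by decide, sub_eq_zero.1 h⟩
    · exact ⟨0, 2, by decide, sub_eq_zero.1 h⟩
  · rintro ⟨i, j, hij, h⟩
    fin_cases i <;> fin_cases j <;> simp at hij h ⊢ <;> simp [h]

omit [Field F] in
lemma coll_comp (a : Fin 3 → F) (σ : Equiv.Perm (Fin 3)) : Coll (fun i => a (σ i)) ↔ Coll a := by
  constructor
  · rintro ⟨i, j, hij, h⟩
    exact ⟨σ i, σ j, fun h' => hij (σ.injective h'), h⟩
  · rintro ⟨i, j, hij, h⟩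
    refine ⟨σ.symm i, σ.symm j, fun h' => hij (σ.symm.injective h'), ?_⟩
    simpa using h

lemma sigmaP_iff (v : Fin 3 → F) : SigmaP v ↔
    Cfsg.hermForm 3 F 5 v v ≠ 0 ∧ (∏ i, v i) ^ 4 = (∏ i, nm (v i)) ^ 2 ∧ Coll (fun i => nm (v i)) := by
  unfold SigmaP
  rw [← coll_iff, Fin.prod_univ_three, Fin.prod_univ_three]

/-- The monomial unitary matrices of determinant one preserve `Σ`. -/
lemma sigmaP_of_monomial {h : GL (Fin 3) F} (hh : h ∈ decompositionStabilizer (stdFrame F) ⊓ SUg F)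
    (v : Fin 3 → F) (hv : SigmaP v) : SigmaP ((h : Matrix (Fin 3) (Fin 3) F) *ᵥ v) := by
  obtain ⟨hmon, hGU, hSL⟩ := hh
  obtain ⟨σ, hσ⟩ := monomial_of_mem hmon
  set g : Matrix (Fin 3) (Fin 3) F := (h : Matrix (Fin 3) (Fin 3) F) with hg
  -- the entries have norm one
  have hnm : ∀ i, nm (g (σ i) i) = 1 := by
    intro i
    have h1 := hGU (Pi.single i 1) (Pi.single i 1)
    simp only [Units.coeHom_apply] at h1
    have h2 : g *ᵥ (Pi.single i 1) = fun k => g k i := by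
      rw [Matrix.mulVec_single_one]; rfl
    rw [← hg, h2] at h1
    have h3 : Cfsg.hermForm 3 F 5 (fun k => g k i) (fun k => g k i) = g (σ i) i * g (σ i) i ^ 5 := by
      rw [Cfsg.hermForm, Finset.sum_eq_single (σ i)]
      · intro k _ hk
        rw [hσ i k hk, zero_mul]
      · intro h'; exact absurd (Finset.mem_univ _) h'
    have h4 : Cfsg.hermForm 3 F 5 (Pi.single i (1 : F)) (Pi.single i 1) = 1 := by
      rw [Cfsg.hermForm, Finset.sum_eq_single i]
      · simp
      · intro k _ hk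
        simp [hk]
      · intro h'; exact absurd (Finset.mem_univ _) h'
    rw [h3, h4] at h1
    rw [nm, pow_succ' _ 5]
    exact h1
  -- the product of the entries is a sign
  have hdet : g.det = 1 := by
    have : h ∈ specialLinear (Fin 3) F := hSL
    rw [specialLinear, MonoidHom.mem_ker] at this
    have h2 := congrArg (fun u : Fˣ => (u : F)) this
    simpa [Matrix.GeneralLinearGroup.val_det_apply] using h2
  have hprod : (∏ i, g (σ i) i) ^ 4 = 1 := by
    have h1 := monomial_det hσ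
    rw [hdet] at h1
    have h2 : ((Equiv.Perm.sign σ : ℤ) : F) ^ 2 = 1 := by
      rcases Int.units_eq_one_or (Equiv.Perm.sign σ) with h | h <;> simp [h]
    have h3 : (∏ i, g (σ i) i) ^ 2 = 1 := by
      have : ((Equiv.Perm.sign σ : ℤ) : F) ^ 2 * (∏ i, g (σ i) i) ^ 2 = 1 := by
        rw [← mul_pow, ← h1, one_pow]
      rwa [h2, one_mul] at this
    calc (∏ i, g (σ i) i) ^ 4 = ((∏ i, g (σ i) i) ^ 2) ^ 2 := by ring
      _ = 1 := by rw [h3, one_pow]
  rw [sigmaP_iff] at hv ⊢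
  obtain ⟨hv1, hv2, hv3⟩ := hv
  have hval : ∀ i, (g *ᵥ v) (σ i) = g (σ i) i * v i := monomial_mulVec hσ v
  have hnmv : ∀ i, nm ((g *ᵥ v) (σ i)) = nm (v i) := by
    intro i
    rw [hval, nm, mul_pow, ← nm, ← nm, hnm, one_mul]
  refine ⟨?_, ?_, ?_⟩
  · have := hGU v v
    simp only [Units.coeHom_apply] at this
    rw [this]; exact hv1
  · rw [← Equiv.prod_comp σ (fun k => (g *ᵥ v) k), ← Equiv.prod_comp σ (fun k => nm ((g *ᵥ v) k))]
    simp only [hnmv]
    simp only [hval, Finset.prod_mul_distrib, mul_pow, hprod, one_mul]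
    exact hv2
  · rw [← coll_comp _ σ]
    simp only [hnmv]
    exact hv3

theorem mon_le_X5 : decompositionStabilizer (stdFrame F) ⊓ SUg F ≤ X5 F := by
  intro h hh
  refine ⟨hh.2, fun v => ⟨fun hv => ?_, sigmaP_of_monomial hh v⟩⟩
  have := sigmaP_of_monomial (inv_mem hh) _ hv
  rwa [Matrix.mulVec_mulVec, ← Units.val_mul, inv_mul_cancel, Units.val_one, Matrix.one_mulVec] at this

end monomial

/-! ### Reduction of the invariance check to normalised vectors -/

section normalise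

variable {F : Type*} [Field F] [Fintype F]

omit [Field F] [Fintype F] in
lemma vec3_eta (v : Fin 3 → F) : v = ![v 0, v 1, v 2] := by
  funext i; fin_cases i <;> rfl

/-- It suffices to check `A Σ ⊆ Σ` on the normalised vectors `(1,y,z)`, `(0,1,z)`, `(0,0,1)`. -/
lemma forall_sigmaP_of_normalised (hF : Fintype.card F = 25) (A : Matrix (Fin 3) (Fin 3) F)
    (h1 : ∀ y z : F, SigmaP ![1, y, z] → SigmaP (A *ᵥ ![1, y, z]))
    (h2 : ∀ z : F, SigmaP ![0, 1, z] → SigmaP (A *ᵥ ![0, 1, z]))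
    (h3 : SigmaP ![0, 0, (1 : F)] → SigmaP (A *ᵥ ![0, 0, 1])) :
    ∀ v : Fin 3 → F, SigmaP v → SigmaP (A *ᵥ v) := by
  intro v hv
  have key : ∀ (c : F) (w : Fin 3 → F), c ≠ 0 → v = c • w → (SigmaP w → SigmaP (A *ᵥ w)) →
      SigmaP (A *ᵥ v) := by
    intro c w hc hvw hw
    rw [hvw, Matrix.mulVec_smul, sigmaP_smul hF hc]
    apply hw
    rwa [hvw, sigmaP_smul hF hc] at hv
  by_cases h0 : v 0 = 0
  · by_cases h1' : v 1 = 0
    · by_cases h2' : v 2 = 0
      · exfalso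
        have : v = 0 := by
          rw [vec3_eta v, h0, h1', h2']; ext i; fin_cases i <;> rfl
        rw [this] at hv
        exact hv.1 (by simp)
      · refine key (v 2) ![0, 0, 1] h2' ?_ h3
        rw [vec3_eta v, h0, h1']
        ext i; fin_cases i <;> simp
    · refine key (v 1) ![0, 1, v 2 / v 1] h1' ?_ (h2 _)
      rw [vec3_eta v, h0]
      ext i; fin_cases i <;> simp [mul_div_cancel₀ _ h1']
  · refine key (v 0) ![1, v 1 / v 0, v 2 / v 0] h0 ?_ (h1 _ _)
    rw [vec3_eta v]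
    ext i; fin_cases i <;> simp [mul_div_cancel₀ _ h0]

end normalise

/-! ### The computable model -/

section model

open F25

/-- the norm in the model -/
def nmB (x : F25) : F25 := x * F25.conj x

lemma nm_eq_nmB (x : F25) : nm x = nmB x := by
  rw [nm, nmB, pow_succ' x 5, F25.pow_five]

/-- Boolean form of `SigmaP` in the model. -/
def sigB (a b c : F25) : Bool :=
  (nmB a + nmB b + nmB c != 0) &&
  ((nmB a - nmB b) * (nmB b - nmB c) * (nmB a - nmB c) == 0) &&
  ((a * b * c) * (a * b * c) * ((a * b * c) * (a * b * c)) ==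
    (nmB a * nmB b * nmB c) * (nmB a * nmB b * nmB c))

lemma sigB_iff (a b c : F25) : sigB a b c = true ↔ SigmaP ![a, b, c] := by
  unfold sigB SigmaP
  rw [hermForm_three]
  simp only [nm_eq_nmB, Matrix.cons_val_zero, Matrix.cons_val_one, Matrix.cons_val,
    Bool.and_eq_true, bne_iff_ne, beq_iff_eq, F25.pow_five]
  constructor
  · rintro ⟨⟨h1, h2⟩, h3⟩
    refine ⟨h1, ?_, h2⟩
    rw [pow_succ, pow_succ, pow_succ, pow_one, sq, ← h3]
    ring
  · rintro ⟨h1, h2, h3⟩
    refine ⟨⟨h1, h3⟩, ?_⟩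
    rw [sq] at h2
    rw [← h2]
    ring

/-- a `3 × 3` matrix over the model given by its nine entries -/
def mat (a b c d e f g h i : F25) : Matrix (Fin 3) (Fin 3) F25 := !![a, b, c; d, e, f; g, h, i]

lemma mat_mulVec (a b c d e f g h i x y z : F25) :
    mat a b c d e f g h i *ᵥ ![x, y, z] =
      ![a * x + b * y + c * z, d * x + e * y + f * z, g * x + h * y + i * z] := by
  funext k
  fin_cases k <;> simp [mat, Matrix.mulVec, dotProduct, Fin.sum_univ_three]

/-- the Boolean check that `mat a … i` maps `Σ` into `Σ` (on normalised vectors) -/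
def chk (a b c d e f g h i : F25) : Prop :=
  (∀ y z : F25, sigB 1 y z = true →
    sigB (a + b * y + c * z) (d + e * y + f * z) (g + h * y + i * z) = true) ∧
  (∀ z : F25, sigB 0 1 z = true → sigB (b + c * z) (e + f * z) (h + i * z) = true) ∧
  (sigB 0 0 1 = true → sigB c f i = true)

instance (a b c d e f g h i : F25) : Decidable (chk a b c d e f g h i) := by
  unfold chk; infer_instance

lemma sigmaP_of_chk {a b c d e f g h i : F25} (hc : chk a b c d e f g h i) :
    ∀ v : Fin 3 → F25, SigmaP v → SigmaP (mat a b c d e f g h i *ᵥ v) := by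
  obtain ⟨h1, h2, h3⟩ := hc
  refine forall_sigmaP_of_normalised (by rw [F25.card]) _ ?_ ?_ ?_
  · intro y z hv
    rw [mat_mulVec, ← sigB_iff]
    rw [← sigB_iff] at hv
    have := h1 y z hv
    simpa using this
  · intro z hv
    rw [mat_mulVec, ← sigB_iff]
    rw [← sigB_iff] at hv
    have := h2 z hv
    simpa using this
  · intro hv
    rw [mat_mulVec, ← sigB_iff]
    rw [← sigB_iff] at hv
    have := h3 hv
    simpa using this

/-- membership in `SU₃(5)` of an explicit matrix of the model from its Gram identity and determinant -/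
lemma mem_SUg_F25 (M : Matrix (Fin 3) (Fin 3) F25) (h : Mᵀ * M.map (fun x => x ^ 5) = 1)
    (hd : M.det = 1) : Cfsg.Agent.Lib.Helper13_HermBridge.gramGL M h ∈ SUg F25 := by
  refine ⟨Cfsg.Agent.Lib.Helper13_HermBridge.gramGL_mem (by rw [F25.card]; norm_num) M h, ?_⟩
  show Cfsg.Agent.Lib.Helper13_HermBridge.gramGL M h ∈ specialLinear (Fin 3) F25
  rw [specialLinear, MonoidHom.mem_ker]
  apply Units.ext
  simpa [Matrix.GeneralLinearGroup.val_det_apply, Cfsg.Agent.Lib.Helper13_HermBridge.gramGL_val] using hd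

/-- membership in `X5 F25` of an explicit matrix from the Boolean check -/
lemma mem_X5_F25 {a b c d e f g h i : F25}
    (hg : (mat a b c d e f g h i)ᵀ * (mat a b c d e f g h i).map (fun x => x ^ 5) = 1)
    (hd : (mat a b c d e f g h i).det = 1) (hc : chk a b c d e f g h i) :
    Cfsg.Agent.Lib.Helper13_HermBridge.gramGL _ hg ∈ X5 F25 :=
  mem_X5_of_forall (mem_SUg_F25 _ hg hd) (sigmaP_of_chk hc)

/-- The Fourier-type matrix `W = c • (ζ^(i j))`, `ζ = 2 + 3t`, `c = 3t`. -/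
def Wm : Matrix (Fin 3) (Fin 3) F25 :=
  mat (mk 0 3) (mk 0 3) (mk 0 3) (mk 0 3) (mk 3 1) (mk 2 1) (mk 0 3) (mk 2 1) (mk 3 1)

set_option maxRecDepth 100000 in
lemma Wm_gram : Wmᵀ * Wm.map (fun x => x ^ 5) = 1 := by
  refine Matrix.ext fun i j => ?_
  fin_cases i <;> fin_cases j <;> decide +kernel

set_option maxRecDepth 100000 in
lemma Wm_det : Wm.det = 1 := by
  rw [Matrix.det_fin_three]
  decide +kernel

set_option maxRecDepth 100000 in
lemma Wm_chk : chk (mk 0 3) (mk 0 3) (mk 0 3) (mk 0 3) (mk 3 1) (mk 2 1) (mk 0 3) (mk 2 1) (mk 3 1) := by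
  decide +kernel

/-- `W` as an element of `GL₃(F25)`. -/
def W25 : GL (Fin 3) F25 := Cfsg.Agent.Lib.Helper13_HermBridge.gramGL Wm Wm_gram

lemma W25_mem : W25 ∈ X5 F25 := mem_X5_F25 Wm_gram Wm_det Wm_chk

set_option maxRecDepth 100000 in
lemma W25_entries : ∀ k : Fin 3, (W25 : Matrix (Fin 3) (Fin 3) F25) k 0 ≠ 0 := by
  intro k
  show Wm k 0 ≠ 0
  fin_cases k <;> decide +kernel

/-- An element of `SU₃(5)` moving `e₀ ∈ Σ` out of `Σ`. -/
def Gm : Matrix (Fin 3) (Fin 3) F25 :=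
  mat (mk 2 1) (mk 2 0) 0 (mk 3 0) (mk 2 4) 0 0 0 1

set_option maxRecDepth 100000 in
lemma Gm_gram : Gmᵀ * Gm.map (fun x => x ^ 5) = 1 := by
  refine Matrix.ext fun i j => ?_
  fin_cases i <;> fin_cases j <;> decide +kernel

set_option maxRecDepth 100000 in
lemma Gm_det : Gm.det = 1 := by
  rw [Matrix.det_fin_three]
  decide +kernel

def G25 : GL (Fin 3) F25 := Cfsg.Agent.Lib.Helper13_HermBridge.gramGL Gm Gm_gram

lemma G25_mem : G25 ∈ SUg F25 := mem_SUg_F25 Gm Gm_gram Gm_det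

set_option maxRecDepth 100000 in
lemma G25_not_mem : G25 ∉ X5 F25 := by
  intro h
  have h1 := (h.2 ![1, 0, 0]).2 ((sigB_iff _ _ _).1 (by decide +kernel))
  have h2 : (G25 : Matrix (Fin 3) (Fin 3) F25) *ᵥ ![1, 0, 0] = ![mk 2 1, mk 3 0, 0] := by
    show Gm *ᵥ ![1, 0, 0] = _
    rw [Gm, mat_mulVec]
    funext k
    fin_cases k <;> decide +kernel
  rw [h2, ← sigB_iff] at h1
  revert h1
  decide +kernel

end model

/-! ### The results for an arbitrary field with 25 elements -/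

section main

variable {F : Type*} [Field F] [Fintype F]

omit [Fintype F] in
lemma not_monomial_of_entries {g : GL (Fin 3) F}
    (h : ∀ k : Fin 3, (g : Matrix (Fin 3) (Fin 3) F) k 0 ≠ 0) :
    g ∉ decompositionStabilizer (stdFrame F) := by
  intro hg
  obtain ⟨σ, hσ⟩ := monomial_of_mem hg
  have hne : ∀ a : Fin 3, a + 1 ≠ a := by decide
  exact h (σ 0 + 1) (hσ 0 (σ 0 + 1) (hne _))

theorem exists_not_mem_X5 (hF : Fintype.card F = 25) : ∃ g ∈ SUg F, g ∉ X5 F := by
  let e := ringEquivF25 hF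
  refine ⟨(glEquiv e).symm G25, ?_, ?_⟩
  · have h := G25_mem
    rw [Subgroup.mem_inf] at h ⊢
    rw [← glEquiv_mem_GU e, ← glEquiv_mem_SL e]
    simpa using h
  · rw [← glEquiv_mem_X5 e]
    simpa using G25_not_mem

theorem X5_ne_SUg (hF : Fintype.card F = 25) : X5 F ≠ SUg F := by
  obtain ⟨g, hg, hg'⟩ := exists_not_mem_X5 hF
  intro h
  rw [h] at hg'
  exact hg' hg

theorem exists_mem_X5_not_monomial (hF : Fintype.card F = 25) :
    ∃ W ∈ X5 F, W ∉ decompositionStabilizer (stdFrame F) := by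
  let e := ringEquivF25 hF
  refine ⟨(glEquiv e).symm W25, ?_, ?_⟩
  · rw [← glEquiv_mem_X5 e]
    simpa using W25_mem
  · apply not_monomial_of_entries
    intro k
    rw [glEquiv_symm_apply]
    intro h
    exact W25_entries k (by simpa using h)

/-- The stabiliser of the standard frame is not maximal in `SU₃(5)`. -/
theorem not_max_mon (hF : Fintype.card F = 25) :
    ¬ IsMaximalIn (SUg F) (decompositionStabilizer (stdFrame F) ⊓ SUg F) := by
  intro hm
  obtain ⟨W, hW, hW'⟩ := exists_mem_X5_not_monomial hF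
  rcases hm.2 (X5 F) mon_le_X5 X5_le with h | h
  · rw [h] at hW
    exact hW' hW.1
  · exact X5_ne_SUg hF h

end main

end Cfsg.Agent.Lib.Helper54_SU36_X5
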