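import Mathlib
import Cfsg.Prelude.Def_GeometricClasses
import Cfsg.Prelude.Def_LieClassical
import Cfsg.Agent.Lib.Helper54_SU36_X5
import Cfsg.Agent.Lib.Helper13_SU3Graph
import Cfsg.Agent.Lib.Helper13_Herm
import Cfsg.Agent.Lib.Helper13_HermBridge

/-!
# SU36-E5a (helper27's market): a frame stabiliser `6² : S₃` is not maximal in `SU₃(5)`

Conjugate the frame to the standard one by an element of `GU₃(5)` (unit vectors on the three lines: the norm is onto),
then use the overgroup `X5` of `Helper54_SU36_X5`.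
-/

set_option autoImplicit false

namespace Cfsg.Agent.Lib.Helper54_SU36_E5a

open Matrix Cfsg Cfsg.Geo
open Cfsg.Agent.Lib.Helper54_SU36_X5 Cfsg.Agent.Lib.Helper54_SUTransfer
open Cfsg.Agent.Lib.Helper13_Herm Cfsg.Agent.Lib.Helper13_HermBridge
open scoped MatrixGroups

variable {F : Type*} [Field F] [Fintype F]

/-- unit vectors spanning the lines of a nondegenerate frame -/
lemma exists_frame (hF : Fintype.card F = 5 ^ 2) (D : Fin 3 → Submodule F (Fin 3 → F))
    (hD : IsNondegenerateMDecomposition (Cfsg.hermForm 3 F 5) 1 D) :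
    ∃ u : Fin 3 → (Fin 3 → F), (∀ i, D i = Submodule.span F {u i}) ∧
      ∀ i j, Cfsg.hermForm 3 F 5 (u i) (u j) = if i = j then 1 else 0 := by
  have hex : ∀ i, ∃ d : Fin 3 → F, D i = Submodule.span F {d} ∧ Cfsg.hermForm 3 F 5 d d = 1 := by
    intro i
    obtain ⟨⟨v, hv⟩, hv0, hgen⟩ := finrank_eq_one_iff'.mp (hD.decomp.finrank_eq i)
    have hv0' : v ≠ 0 := fun h => hv0 (Subtype.ext h)
    have hgen' : ∀ x ∈ D i, ∃ a : F, x = a • v := by
      intro x hx
      obtain ⟨a, ha⟩ := hgen ⟨x, hx⟩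
      exact ⟨a, by simpa using (congrArg Subtype.val ha).symm⟩
    obtain ⟨⟨x, hx, hxv⟩, -⟩ := hD.nondegenerate i v hv hv0'
    obtain ⟨a, rfl⟩ := hgen' x hx
    rw [hermForm_smul_left] at hxv
    have ha0 : Cfsg.hermForm 3 F 5 v v ≠ 0 := fun h => hxv (by rw [h, mul_zero])
    have haq : (Cfsg.hermForm 3 F 5 v v)⁻¹ ^ 5 = (Cfsg.hermForm 3 F 5 v v)⁻¹ := by
      rw [inv_pow, Cfsg.Agent.Lib.Helper13_Herm.hermForm_pow_q 3 hF]
    obtain ⟨m, hm⟩ := Cfsg.Agent.Lib.Helper13_SU3Graph.exists_norm_eq hF (inv_ne_zero ha0) haq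
    have hm0 : m ≠ 0 := by
      rintro rfl
      rw [zero_mul] at hm
      exact inv_ne_zero ha0 hm.symm
    refine ⟨m • v, ?_, ?_⟩
    · apply le_antisymm
      · intro x hx
        obtain ⟨a, rfl⟩ := hgen' x hx
        rw [Submodule.mem_span_singleton]
        exact ⟨a * m⁻¹, by rw [smul_smul, mul_assoc, inv_mul_cancel₀ hm0, mul_one]⟩
      · rw [Submodule.span_le, Set.singleton_subset_iff]
        exact (D i).smul_mem m hv
    · rw [hermForm_smul_left, hermForm_smul_right, ← mul_assoc, hm, inv_mul_cancel₀ ha0]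
  choose d hd1 hd2 using hex
  refine ⟨d, hd1, fun i j => ?_⟩
  by_cases hij : i = j
  · subst hij; rw [if_pos rfl]; exact hd2 i
  · rw [if_neg hij]
    refine hD.orthogonal i j hij _ ?_ _ ?_
    · rw [hd1 i]; exact Submodule.subset_span rfl
    · rw [hd1 j]; exact Submodule.subset_span rfl

/-- a unitary matrix carrying the standard frame to the given one -/
lemma exists_GU_frame (hF : Fintype.card F = 5 ^ 2) (D : Fin 3 → Submodule F (Fin 3 → F))
    (hD : IsNondegenerateMDecomposition (Cfsg.hermForm 3 F 5) 1 D) :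
    ∃ g : GL (Fin 3) F, g ∈ Cfsg.GU 3 F 5 ∧
      ∀ i, (stdFrame F i).map (Matrix.toLin' (g : Matrix (Fin 3) (Fin 3) F)) = D i := by
  obtain ⟨u, hu1, hu2⟩ := exists_frame hF D hD
  set M : Matrix (Fin 3) (Fin 3) F := Matrix.of fun k i => u i k with hM
  have hgram : Mᵀ * M.map (fun x => x ^ 5) = 1 := by
    ext a b
    rw [Matrix.mul_apply, Matrix.one_apply]
    have : ∑ k, Mᵀ a k * (M.map (fun x => x ^ 5)) k b = Cfsg.hermForm 3 F 5 (u a) (u b) := by
      unfold Cfsg.hermForm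
      rfl
    rw [this, hu2]
  refine ⟨gramGL M hgram, gramGL_mem hF M hgram, fun i => ?_⟩
  rw [stdFrame, Submodule.map_span, Set.image_singleton, hu1 i, Matrix.toLin'_apply, gramGL_val,
    Matrix.mulVec_single_one]
  rfl

omit [Fintype F] in
/-- conjugating the stabiliser of a frame -/
lemma stab_conj {D : Fin 3 → Submodule F (Fin 3 → F)} {g : GL (Fin 3) F}
    (hg : ∀ i, (stdFrame F i).map (Matrix.toLin' (g : Matrix (Fin 3) (Fin 3) F)) = D i)
    (x : GL (Fin 3) F) :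
    g * x * g⁻¹ ∈ decompositionStabilizer D ↔ x ∈ decompositionStabilizer (stdFrame F) := by
  have hinj : Function.Injective (Submodule.map (Matrix.toLin' (g : Matrix (Fin 3) (Fin 3) F))) := by
    apply Submodule.map_injective_of_injective
    intro a b hab
    rw [Matrix.toLin'_apply, Matrix.toLin'_apply] at hab
    have := congrArg (fun w => ((g⁻¹ : GL (Fin 3) F) : Matrix (Fin 3) (Fin 3) F) *ᵥ w) hab
    simpa [Matrix.mulVec_mulVec, ← Units.val_mul] using this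
  have key : ∀ i, (D i).map (Matrix.toLin' ((g * x * g⁻¹ : GL (Fin 3) F) : Matrix (Fin 3) (Fin 3) F)) =
      ((stdFrame F i).map (Matrix.toLin' (x : Matrix (Fin 3) (Fin 3) F))).map
        (Matrix.toLin' (g : Matrix (Fin 3) (Fin 3) F)) := by
    intro i
    rw [← hg i, ← Submodule.map_comp, ← Submodule.map_comp, ← Matrix.toLin'_mul, ← Matrix.toLin'_mul,
      ← Units.val_mul, ← Units.val_mul]
    congr 3
    group
  constructor
  · rintro ⟨σ, hσ⟩
    refine ⟨σ, fun i => hinj ?_⟩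
    rw [← key i, hσ i, hg]
  · rintro ⟨σ, hσ⟩
    refine ⟨σ, fun i => ?_⟩
    rw [key i, hσ i, hg]

omit [Fintype F] in
lemma conj_mem_SUg {g : GL (Fin 3) F} (hg : g ∈ Cfsg.GU 3 F 5) (x : GL (Fin 3) F) :
    x ∈ SUg F ↔ g * x * g⁻¹ ∈ SUg F := by
  have hdet : ∀ y : GL (Fin 3) F, y ∈ specialLinear (Fin 3) F ↔ g * y * g⁻¹ ∈ specialLinear (Fin 3) F := by
    intro y
    rw [specialLinear, MonoidHom.mem_ker, MonoidHom.mem_ker, map_mul, map_mul, map_inv,
      mul_comm (Matrix.GeneralLinearGroup.det g), mul_assoc, mul_inv_cancel, mul_one]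
  rw [Subgroup.mem_inf, Subgroup.mem_inf]
  constructor
  · rintro ⟨h1, h2⟩
    exact ⟨(Cfsg.GU 3 F 5).mul_mem ((Cfsg.GU 3 F 5).mul_mem hg h1) ((Cfsg.GU 3 F 5).inv_mem hg),
      (hdet x).1 h2⟩
  · rintro ⟨h1, h2⟩
    refine ⟨?_, (hdet x).2 h2⟩
    have := (Cfsg.GU 3 F 5).mul_mem ((Cfsg.GU 3 F 5).mul_mem ((Cfsg.GU 3 F 5).inv_mem hg) h1) hg
    simpa [mul_assoc] using this

/-- **SU36-E5a**. -/
theorem E5a (hF : Fintype.card F = 5 ^ 2) (D : Fin 3 → Submodule F (Fin 3 → F))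
    (hD : IsNondegenerateMDecomposition (Cfsg.hermForm 3 F 5) 1 D) :
    ¬ IsMaximalIn (Cfsg.GU 3 F 5 ⊓ specialLinear (Fin 3) F)
      (decompositionStabilizer D ⊓ (Cfsg.GU 3 F 5 ⊓ specialLinear (Fin 3) F)) := by
  intro hmax
  obtain ⟨g, hgU, hg⟩ := exists_GU_frame hF D hD
  have hF' : Fintype.card F = 25 := by rw [hF]; norm_num
  have hS : ∀ x, x ∈ SUg F ↔ g⁻¹ * x * g⁻¹⁻¹ ∈ SUg F := conj_mem_SUg (inv_mem hgU)
  have h1 := isMaximalIn_conj g⁻¹ hS hmax
  have h2 : (decompositionStabilizer D ⊓ SUg F).map (MulAut.conj g⁻¹).toMonoidHom =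
      decompositionStabilizer (stdFrame F) ⊓ SUg F := by
    ext x
    constructor
    · rintro ⟨y, ⟨hy1, hy2⟩, rfl⟩
      have hy : y = g * (g⁻¹ * y * g) * g⁻¹ := by group
      refine ⟨?_, ?_⟩
      · show g⁻¹ * y * g⁻¹⁻¹ ∈ decompositionStabilizer (stdFrame F)
        rw [inv_inv, ← stab_conj hg, ← hy]
        exact hy1
      · exact (hS y).1 hy2
    · rintro ⟨hx1, hx2⟩
      refine ⟨g * x * g⁻¹, ⟨(stab_conj hg x).2 hx1, (conj_mem_SUg hgU x).1 hx2⟩, ?_⟩
      show g⁻¹ * (g * x * g⁻¹) * g⁻¹⁻¹ = x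
      group
  rw [h2] at h1
  exact not_max_mon hF' h1

end Cfsg.Agent.Lib.Helper54_SU36_E5a
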