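import Mathlib
import Cfsg.Prelude.Def_GeometricClasses
import Cfsg.Prelude.Def_LieClassical
import Cfsg.Agent.Lib.Helper54_SU36_X5
import Cfsg.Agent.Lib.Helper13_HermBridge

/-!
# Helper54_SU36_E5bModel: the normaliser of a Sylow 7-subgroup of `SU₃(5)` lies in `X5`

Explicit element `z₁` of order 7 of `X5` (over the model `F25`), an element `t₁ ∈ X5` with `t₁ z₁ t₁⁻¹ = z₁²`, and the
description of `Σ` through the `z₁`-invariants `(v, z₁ v)/(v, v)` and `det[v, z₁ v, z₁² v]² /(v, v)`, which are visibly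
invariant under the centraliser of `z₁` in `SU₃(5)`; hence `N_SU(⟨z₁⟩) ≤ X5`.
-/

set_option autoImplicit false

namespace Cfsg.Agent.Lib.Helper54_SU36_E5bModel

open Cfsg Cfsg.Geo Matrix
open Cfsg.Agent.Lib.Helper54_F25 Cfsg.Agent.Lib.Helper54_SUTransfer Cfsg.Agent.Lib.Helper54_SU36_X5
open scoped MatrixGroups

/-! ### Invariants of the centraliser of a matrix `Z` -/

section invariants

variable {F : Type*} [Field F]

/-- the matrix with columns `v`, `Z v`, `Z² v` -/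
def cyc (Z : Matrix (Fin 3) (Fin 3) F) (v : Fin 3 → F) : Matrix (Fin 3) (Fin 3) F :=
  Matrix.of fun i j => (![v, Z *ᵥ v, (Z * Z) *ᵥ v] j) i

def phi0 (v : Fin 3 → F) : F := Cfsg.hermForm 3 F 5 v v

def phi1 (Z : Matrix (Fin 3) (Fin 3) F) (v : Fin 3 → F) : F := Cfsg.hermForm 3 F 5 v (Z *ᵥ v)

def psi (Z : Matrix (Fin 3) (Fin 3) F) (v : Fin 3 → F) : F := (cyc Z v).det

/-- the description of a point set through the invariants -/
def PbP (Z : Matrix (Fin 3) (Fin 3) F) (A : List (F × F)) (v : Fin 3 → F) : Prop :=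
  phi0 v ≠ 0 ∧ ∃ p ∈ A, phi1 Z v = p.1 * phi0 v ∧ psi Z v ^ 2 = p.2 * phi0 v

lemma cyc_mulVec {y Z : Matrix (Fin 3) (Fin 3) F} (h : y * Z = Z * y) (v : Fin 3 → F) :
    cyc Z (y *ᵥ v) = y * cyc Z v := by
  have h2 : y * (Z * Z) = (Z * Z) * y := by
    rw [← mul_assoc, h, mul_assoc, h, mul_assoc]
  have hcol : ∀ (M : Matrix (Fin 3) (Fin 3) F) (i j : Fin 3),
      (y * M) i j = (y *ᵥ (fun k => M k j)) i := fun _ _ _ => rfl
  ext i j
  rw [hcol]
  fin_cases j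
  · rfl
  · show (Z *ᵥ (y *ᵥ v)) i = (y *ᵥ (Z *ᵥ v)) i
    rw [Matrix.mulVec_mulVec, Matrix.mulVec_mulVec, h]
  · show ((Z * Z) *ᵥ (y *ᵥ v)) i = (y *ᵥ ((Z * Z) *ᵥ v)) i
    rw [Matrix.mulVec_mulVec, Matrix.mulVec_mulVec, h2]

lemma cyc_smul (Z : Matrix (Fin 3) (Fin 3) F) (c : F) (v : Fin 3 → F) :
    cyc Z (c • v) = c • cyc Z v := by
  ext i j
  fin_cases j <;> simp [cyc, Matrix.mulVec_smul]

lemma PbP_of_commute {Z : Matrix (Fin 3) (Fin 3) F} {A : List (F × F)} {y : GL (Fin 3) F}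
    (hy : y ∈ SUg F) (hc : (y : Matrix (Fin 3) (Fin 3) F) * Z = Z * (y : Matrix (Fin 3) (Fin 3) F))
    (v : Fin 3 → F) : PbP Z A ((y : Matrix (Fin 3) (Fin 3) F) *ᵥ v) ↔ PbP Z A v := by
  have hU : ∀ u w : Fin 3 → F, Cfsg.hermForm 3 F 5 ((y : Matrix (Fin 3) (Fin 3) F) *ᵥ u)
      ((y : Matrix (Fin 3) (Fin 3) F) *ᵥ w) = Cfsg.hermForm 3 F 5 u w := hy.1
  have hdet : (y : Matrix (Fin 3) (Fin 3) F).det = 1 := by
    have : y ∈ specialLinear (Fin 3) F := hy.2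
    rw [specialLinear, MonoidHom.mem_ker] at this
    have h2 := congrArg (fun u : Fˣ => (u : F)) this
    simpa [Matrix.GeneralLinearGroup.val_det_apply] using h2
  have e0 : phi0 ((y : Matrix (Fin 3) (Fin 3) F) *ᵥ v) = phi0 v := hU v v
  have e1 : phi1 Z ((y : Matrix (Fin 3) (Fin 3) F) *ᵥ v) = phi1 Z v := by
    unfold phi1
    rw [Matrix.mulVec_mulVec, ← hc, ← Matrix.mulVec_mulVec, hU]
  have e2 : psi Z ((y : Matrix (Fin 3) (Fin 3) F) *ᵥ v) = psi Z v := by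
    unfold psi
    rw [cyc_mulVec hc, Matrix.det_mul, hdet, one_mul]
  unfold PbP
  rw [e0, e1, e2]

lemma PbP_smul (Z : Matrix (Fin 3) (Fin 3) F) (A : List (F × F)) {c : F} (hc : c ≠ 0)
    (v : Fin 3 → F) : PbP Z A (c • v) ↔ PbP Z A v := by
  have h6 : c ^ 6 ≠ 0 := pow_ne_zero _ hc
  have e0 : phi0 (c • v) = c ^ 6 * phi0 v := by
    unfold phi0
    rw [hermForm_three, hermForm_three]
    simp only [Pi.smul_apply, smul_eq_mul]
    ring
  have e1 : phi1 Z (c • v) = c ^ 6 * phi1 Z v := by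
    unfold phi1
    rw [Matrix.mulVec_smul, hermForm_three, hermForm_three]
    simp only [Pi.smul_apply, smul_eq_mul]
    ring
  have e2 : psi Z (c • v) ^ 2 = c ^ 6 * psi Z v ^ 2 := by
    unfold psi
    rw [cyc_smul, Matrix.det_smul]
    simp only [Fintype.card_fin]
    ring
  unfold PbP
  rw [e0, e1, e2]
  constructor
  · rintro ⟨h0, p, hp, h1, h2⟩
    refine ⟨fun h => h0 (by rw [h, mul_zero]), p, hp, ?_, ?_⟩
    · apply mul_left_cancel₀ h6; rw [h1]; ring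
    · apply mul_left_cancel₀ h6; rw [h2]; ring
  · rintro ⟨h0, p, hp, h1, h2⟩
    refine ⟨mul_ne_zero h6 h0, p, hp, ?_, ?_⟩
    · rw [h1]; ring
    · rw [h2]; ring

/-- a statement about all vectors follows from the normalised ones -/
lemma normalised_induction {P : (Fin 3 → F) → Prop}
    (hsm : ∀ (c : F) (v : Fin 3 → F), c ≠ 0 → (P (c • v) ↔ P v)) (h0 : P 0)
    (h1 : ∀ y z : F, P ![1, y, z]) (h2 : ∀ z : F, P ![0, 1, z]) (h3 : P ![0, 0, 1]) :
    ∀ v : Fin 3 → F, P v := by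
  intro v
  by_cases h0' : v 0 = 0
  · by_cases h1' : v 1 = 0
    · by_cases h2' : v 2 = 0
      · have : v = 0 := by
          rw [vec3_eta v, h0', h1', h2']; funext i; fin_cases i <;> rfl
        rw [this]; exact h0
      · have : v = v 2 • ![0, 0, 1] := by
          rw [vec3_eta v, h0', h1']
          funext i; fin_cases i <;> simp
        rw [this, hsm _ _ h2']; exact h3
    · have : v = v 1 • ![0, 1, v 2 / v 1] := by
        rw [vec3_eta v, h0']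
        funext i; fin_cases i <;> simp [mul_div_cancel₀ _ h1']
      rw [this, hsm _ _ h1']; exact h2 _
  · have : v = v 0 • ![1, v 1 / v 0, v 2 / v 0] := by
      rw [vec3_eta v]
      funext i; fin_cases i <;> simp [mul_div_cancel₀ _ h0']
    rw [this, hsm _ _ h0']; exact h1 _ _

end invariants

/-! ### The explicit data over the model -/

section model

open F25

/-- an element of order 7 of `X5` -/
def z1m : Matrix (Fin 3) (Fin 3) F25 :=
  mat (mk 2 3) (mk 4 0) (mk 1 1) (mk 1 0) (mk 1 1) (mk 3 2) (mk 4 4) (mk 3 2) (mk 4 0)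

/-- its square -/
def z1sq : Matrix (Fin 3) (Fin 3) F25 :=
  mat (mk 3 0) (mk 4 1) (mk 4 2) (mk 1 4) (mk 4 4) (mk 0 4) (mk 1 3) (mk 0 4) (mk 0 0)

/-- an element of order 3 of `X5` with `t₁ z₁ t₁⁻¹ = z₁²` -/
def t1m : Matrix (Fin 3) (Fin 3) F25 :=
  mat (mk 4 0) (mk 4 1) (mk 3 3) (mk 1 0) (mk 3 2) (mk 4 4) (mk 3 0) (mk 2 3) (mk 3 3)

/-- the fifteen values of the invariants on `Σ` -/
def A25 : List (F25 × F25) :=
  [(mk 0 0, mk 4 0), (mk 2 0, mk 1 1), (mk 2 0, mk 1 4), (mk 3 0, mk 3 0), (mk 4 0, mk 4 0),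
   (mk 2 1, mk 1 0), (mk 3 1, mk 4 0), (mk 4 1, mk 1 0), (mk 2 2, mk 3 0), (mk 1 3, mk 1 1),
   (mk 1 3, mk 1 4), (mk 4 3, mk 1 1), (mk 4 3, mk 1 4), (mk 1 4, mk 1 0), (mk 2 4, mk 3 0)]

set_option maxRecDepth 100000 in
lemma z1m_sq : z1m * z1m = z1sq := by
  refine Matrix.ext fun i j => ?_
  fin_cases i <;> fin_cases j <;> decide +kernel

def det3 (a b c d e f g h i : F25) : F25 :=
  a * e * i - a * f * h - b * d * i + b * f * g + c * d * h - c * e * g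

/-- Boolean form of `PbP z1m A25` -/
def pbB (a b c : F25) : Bool :=
  let w0 := mk 2 3 * a + mk 4 0 * b + mk 1 1 * c
  let w1 := mk 1 0 * a + mk 1 1 * b + mk 3 2 * c
  let w2 := mk 4 4 * a + mk 3 2 * b + mk 4 0 * c
  let u0 := mk 3 0 * a + mk 4 1 * b + mk 4 2 * c
  let u1 := mk 1 4 * a + mk 4 4 * b + mk 0 4 * c
  let u2 := mk 1 3 * a + mk 0 4 * b + mk 0 0 * c
  let f0 := nmB a + nmB b + nmB c
  let f1 := a * F25.conj w0 + b * F25.conj w1 + c * F25.conj w2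
  let ps := det3 a w0 u0 b w1 u1 c w2 u2
  (f0 != 0) && A25.any (fun p => (f1 == p.1 * f0) && (ps * ps == p.2 * f0))

lemma pbB_iff (a b c : F25) : pbB a b c = true ↔ PbP z1m A25 ![a, b, c] := by
  have hw : z1m *ᵥ ![a, b, c] = ![mk 2 3 * a + mk 4 0 * b + mk 1 1 * c,
      mk 1 0 * a + mk 1 1 * b + mk 3 2 * c, mk 4 4 * a + mk 3 2 * b + mk 4 0 * c] := by
    rw [z1m, mat_mulVec]
  have hu : (z1m * z1m) *ᵥ ![a, b, c] = ![mk 3 0 * a + mk 4 1 * b + mk 4 2 * c,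
      mk 1 4 * a + mk 4 4 * b + mk 0 4 * c, mk 1 3 * a + mk 0 4 * b + mk 0 0 * c] := by
    rw [z1m_sq, z1sq, mat_mulVec]
  have e0 : phi0 ![a, b, c] = nmB a + nmB b + nmB c := by
    rw [phi0, hermForm_three]
    simp [F25.pow_five, nmB]
  have e1 : phi1 z1m ![a, b, c] =
      a * F25.conj (mk 2 3 * a + mk 4 0 * b + mk 1 1 * c) +
      b * F25.conj (mk 1 0 * a + mk 1 1 * b + mk 3 2 * c) +
      c * F25.conj (mk 4 4 * a + mk 3 2 * b + mk 4 0 * c) := by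
    rw [phi1, hw, hermForm_three]
    simp only [F25.pow_five, Matrix.cons_val_zero, Matrix.cons_val_one, Matrix.cons_val]
  have e2 : psi z1m ![a, b, c] =
      det3 a (mk 2 3 * a + mk 4 0 * b + mk 1 1 * c) (mk 3 0 * a + mk 4 1 * b + mk 4 2 * c)
        b (mk 1 0 * a + mk 1 1 * b + mk 3 2 * c) (mk 1 4 * a + mk 4 4 * b + mk 0 4 * c)
        c (mk 4 4 * a + mk 3 2 * b + mk 4 0 * c) (mk 1 3 * a + mk 0 4 * b + mk 0 0 * c) := by
    rw [psi, Matrix.det_fin_three]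
    simp only [cyc, hw, hu, Matrix.of_apply, Matrix.cons_val_zero, Matrix.cons_val_one,
      Matrix.cons_val, det3]
  unfold PbP pbB
  rw [e0, e1, e2]
  simp only [Bool.and_eq_true, bne_iff_ne, List.any_eq_true, beq_iff_eq, det3, sq]

set_option maxRecDepth 100000 in
lemma chk1 : ∀ y z : F25, sigB 1 y z = pbB 1 y z := by decide +kernel

set_option maxRecDepth 100000 in
lemma chk2 : ∀ z : F25, sigB 0 1 z = pbB 0 1 z := by decide +kernel

set_option maxRecDepth 100000 in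
lemma chk3 : sigB 0 0 1 = pbB 0 0 1 := by decide +kernel

/-- `Σ` is described by the `z₁`-invariants. -/
lemma sigmaP_iff_PbP : ∀ v : Fin 3 → F25, SigmaP v ↔ PbP z1m A25 v := by
  apply normalised_induction
  · intro c v hc
    rw [sigmaP_smul (by rw [F25.card]) hc, PbP_smul _ _ hc]
  · constructor
    · intro h; exact absurd (by simp) h.1
    · intro h; exact absurd (by simp [phi0]) h.1
  · intro y z
    rw [← sigB_iff, ← pbB_iff, chk1]
  · intro z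
    rw [← sigB_iff, ← pbB_iff, chk2]
  · rw [← sigB_iff, ← pbB_iff, chk3]

set_option maxRecDepth 100000 in
lemma z1m_gram : z1mᵀ * z1m.map (fun x => x ^ 5) = 1 := by
  refine Matrix.ext fun i j => ?_
  fin_cases i <;> fin_cases j <;> decide +kernel

set_option maxRecDepth 100000 in
lemma z1m_det : z1m.det = 1 := by
  rw [Matrix.det_fin_three]
  decide +kernel

set_option maxRecDepth 100000 in
lemma t1m_gram : t1mᵀ * t1m.map (fun x => x ^ 5) = 1 := by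
  refine Matrix.ext fun i j => ?_
  fin_cases i <;> fin_cases j <;> decide +kernel

set_option maxRecDepth 100000 in
lemma t1m_det : t1m.det = 1 := by
  rw [Matrix.det_fin_three]
  decide +kernel

set_option maxRecDepth 100000 in
lemma t1m_chk : chk (mk 4 0) (mk 4 1) (mk 3 3) (mk 1 0) (mk 3 2) (mk 4 4) (mk 3 0) (mk 2 3) (mk 3 3) := by
  decide +kernel

def Z1 : GL (Fin 3) F25 := Cfsg.Agent.Lib.Helper13_HermBridge.gramGL z1m z1m_gram

def T1 : GL (Fin 3) F25 := Cfsg.Agent.Lib.Helper13_HermBridge.gramGL t1m t1m_gram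

lemma Z1_val : (Z1 : Matrix (Fin 3) (Fin 3) F25) = z1m := rfl

lemma T1_val : (T1 : Matrix (Fin 3) (Fin 3) F25) = t1m := rfl

lemma Z1_mem : Z1 ∈ SUg F25 := mem_SUg_F25 z1m z1m_gram z1m_det

lemma T1_mem : T1 ∈ X5 F25 := mem_X5_F25 t1m_gram t1m_det t1m_chk

set_option maxRecDepth 100000 in
lemma z1m_pow : z1m ^ 7 = 1 := by
  have h3 : z1m ^ 3 = z1sq * z1m := by rw [pow_succ, sq, z1m_sq]
  have h7 : z1m ^ 7 = (z1sq * z1m) * (z1sq * z1m) * z1m := by
    rw [← h3]; rw [← pow_add, ← pow_succ]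
  rw [h7]
  refine Matrix.ext fun i j => ?_
  fin_cases i <;> fin_cases j <;> decide +kernel

lemma Z1_pow : Z1 ^ 7 = 1 := Units.ext (by rw [Units.val_pow_eq_pow_val, Z1_val, z1m_pow]; rfl)

set_option maxRecDepth 100000 in
lemma Z1_ne : Z1 ≠ 1 := by
  intro h
  have h1 : z1m 0 1 = (1 : Matrix (Fin 3) (Fin 3) F25) 0 1 := by
    rw [← Z1_val, h]; rfl
  revert h1
  decide +kernel

lemma Z1_order : orderOf Z1 = 7 :=
  haveI : Fact (Nat.Prime 7) := ⟨by norm_num⟩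
  orderOf_eq_prime Z1_pow Z1_ne

set_option maxRecDepth 100000 in
lemma T1_conj_mat : t1m * z1m = z1sq * t1m := by
  refine Matrix.ext fun i j => ?_
  fin_cases i <;> fin_cases j <;> decide +kernel

lemma T1_conj : T1 * Z1 = Z1 ^ 2 * T1 := by
  apply Units.ext
  rw [Units.val_mul, Units.val_mul, Units.val_pow_eq_pow_val, Z1_val, T1_val, sq, z1m_sq, T1_conj_mat]

/-- the centraliser of `z₁` in `SU₃(5)` lies in `X5` -/
lemma centralizer_le {x : GL (Fin 3) F25} (hx : x ∈ SUg F25) (hc : x * Z1 = Z1 * x) : x ∈ X5 F25 := by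
  have hc' : (x : Matrix (Fin 3) (Fin 3) F25) * z1m = z1m * (x : Matrix (Fin 3) (Fin 3) F25) := by
    have := congrArg Units.val hc
    simpa [Z1_val] using this
  refine ⟨hx, fun v => ?_⟩
  rw [sigmaP_iff_PbP, sigmaP_iff_PbP, PbP_of_commute hx hc']

set_option maxRecDepth 100000 in
lemma trace_pow : ∀ j : Fin 7, (z1m ^ (j : ℕ)).trace = z1m.trace → j = 1 ∨ j = 2 ∨ j = 4 := by
  decide +kernel

lemma exists_nat_pow {x : GL (Fin 3) F25} (h : x ∈ Subgroup.zpowers Z1) :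
    ∃ j : Fin 7, x = Z1 ^ (j : ℕ) := by
  obtain ⟨k, hk⟩ := Subgroup.mem_zpowers_iff.mp h
  have h1 : Z1 ^ (k % ((orderOf Z1 : ℕ) : ℤ)) = Z1 ^ k := zpow_mod_orderOf Z1 k
  rw [Z1_order] at h1
  have h2 : 0 ≤ k % 7 := Int.emod_nonneg k (by norm_num)
  have h3 : k % 7 < 7 := Int.emod_lt_of_pos k (by norm_num)
  obtain ⟨j, hj⟩ := Int.eq_ofNat_of_zero_le h2
  refine ⟨⟨j, by omega⟩, ?_⟩
  rw [← hk, ← h1]
  show Z1 ^ (k % ((7 : ℕ) : ℤ)) = Z1 ^ j
  rw [show ((7 : ℕ) : ℤ) = 7 from rfl, hj, zpow_natCast]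

/-- the normaliser of `⟨z₁⟩` in `SU₃(5)` lies in `X5` -/
theorem normalizer_le_F25 {x : GL (Fin 3) F25} (hx : x ∈ SUg F25)
    (h : x * Z1 * x⁻¹ ∈ Subgroup.zpowers Z1) : x ∈ X5 F25 := by
  obtain ⟨j, hj⟩ := exists_nat_pow h
  have htr : (z1m ^ (j : ℕ)).trace = z1m.trace := by
    have h1 := congrArg (fun g : GL (Fin 3) F25 => (g : Matrix (Fin 3) (Fin 3) F25).trace) hj
    simp only [Units.val_mul, Units.val_pow_eq_pow_val, Z1_val] at h1
    rw [← h1, ← Z1_val]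
    exact Matrix.trace_units_conj x _
  have hT : T1 ∈ SUg F25 := X5_le T1_mem
  rcases trace_pow j htr with rfl | rfl | rfl
  · apply centralizer_le hx
    have : x * Z1 * x⁻¹ = Z1 := by simpa using hj
    calc x * Z1 = (x * Z1 * x⁻¹) * x := by group
      _ = Z1 * x := by rw [this]
  · have hj' : x * Z1 * x⁻¹ = Z1 ^ 2 := by simpa using hj
    have hy : T1⁻¹ * x ∈ X5 F25 := by
      apply centralizer_le (mul_mem (inv_mem hT) hx)
      have e1 : T1⁻¹ * Z1 ^ 2 * T1 = Z1 := by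
        have := T1_conj
        calc T1⁻¹ * Z1 ^ 2 * T1 = T1⁻¹ * (Z1 ^ 2 * T1) := by group
          _ = T1⁻¹ * (T1 * Z1) := by rw [this]
          _ = Z1 := by group
      calc T1⁻¹ * x * Z1 = T1⁻¹ * (x * Z1 * x⁻¹) * x := by group
        _ = T1⁻¹ * Z1 ^ 2 * x := by rw [hj']
        _ = (T1⁻¹ * Z1 ^ 2 * T1) * (T1⁻¹ * x) := by group
        _ = Z1 * (T1⁻¹ * x) := by rw [e1]
    have := mul_mem T1_mem hy
    simpa using this
  · have hj' : x * Z1 * x⁻¹ = Z1 ^ 4 := by simpa using hj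
    have hT2 : T1 ^ 2 * Z1 = Z1 ^ 4 * T1 ^ 2 := by
      have := T1_conj
      calc T1 ^ 2 * Z1 = T1 * (T1 * Z1) := by rw [sq, mul_assoc]
        _ = T1 * (Z1 ^ 2 * T1) := by rw [this]
        _ = (T1 * Z1) * Z1 * T1 := by rw [sq]; simp only [mul_assoc]
        _ = (Z1 ^ 2 * T1) * Z1 * T1 := by rw [this]
        _ = Z1 ^ 2 * (T1 * Z1) * T1 := by simp only [mul_assoc]
        _ = Z1 ^ 2 * (Z1 ^ 2 * T1) * T1 := by rw [this]
        _ = Z1 ^ 4 * T1 ^ 2 := by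
          rw [sq T1, show (4 : ℕ) = 2 + 2 from rfl, pow_add]; simp only [mul_assoc]
    have hy : (T1 ^ 2)⁻¹ * x ∈ X5 F25 := by
      apply centralizer_le (mul_mem (inv_mem (pow_mem hT 2)) hx)
      have e1 : (T1 ^ 2)⁻¹ * Z1 ^ 4 * T1 ^ 2 = Z1 := by
        calc (T1 ^ 2)⁻¹ * Z1 ^ 4 * T1 ^ 2 = (T1 ^ 2)⁻¹ * (Z1 ^ 4 * T1 ^ 2) := by group
          _ = (T1 ^ 2)⁻¹ * (T1 ^ 2 * Z1) := by rw [hT2]
          _ = Z1 := by group
      calc (T1 ^ 2)⁻¹ * x * Z1 = (T1 ^ 2)⁻¹ * (x * Z1 * x⁻¹) * x := by group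
        _ = (T1 ^ 2)⁻¹ * Z1 ^ 4 * x := by rw [hj']
        _ = ((T1 ^ 2)⁻¹ * Z1 ^ 4 * T1 ^ 2) * ((T1 ^ 2)⁻¹ * x) := by group
        _ = Z1 * ((T1 ^ 2)⁻¹ * x) := by rw [e1]
    have := mul_mem (pow_mem T1_mem 2) hy
    simpa using this

set_option maxRecDepth 100000 in
lemma W_not_norm_mat : ∀ j : Fin 7, Wm * z1m ≠ z1m ^ (j : ℕ) * Wm := by
  decide +kernel

lemma W25_not_normalizes : W25 * Z1 * W25⁻¹ ∉ Subgroup.zpowers Z1 := by
  intro h
  obtain ⟨j, hj⟩ := exists_nat_pow h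
  apply W_not_norm_mat j
  have h1 : W25 * Z1 = Z1 ^ (j : ℕ) * W25 := by
    calc W25 * Z1 = (W25 * Z1 * W25⁻¹) * W25 := by group
      _ = Z1 ^ (j : ℕ) * W25 := by rw [hj]
  have := congrArg Units.val h1
  have hW : (W25 : Matrix (Fin 3) (Fin 3) F25) = Wm := rfl
  simpa [Units.val_mul, Units.val_pow_eq_pow_val, Z1_val, hW] using this

end model

/-! ### Transport to an arbitrary field with 25 elements -/

section main

variable {F : Type*} [Field F] [Fintype F]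

/-- The model: an element `z₁` of order 7 of `SU₃(5)` whose normaliser lies in `X5`, and an element of `X5` outside
this normaliser. -/
theorem model (hF : Fintype.card F = 25) : ∃ z₁ w₁ : GL (Fin 3) F, z₁ ∈ SUg F ∧ orderOf z₁ = 7 ∧
    (∀ x ∈ SUg F, x * z₁ * x⁻¹ ∈ Subgroup.zpowers z₁ → x ∈ X5 F) ∧
    w₁ ∈ X5 F ∧ w₁ * z₁ * w₁⁻¹ ∉ Subgroup.zpowers z₁ := by
  let e := ringEquivF25 hF
  let φ := glEquiv (n := 3) e
  have hzp : ∀ a b : GL (Fin 3) F, a ∈ Subgroup.zpowers b ↔ φ a ∈ Subgroup.zpowers (φ b) := by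
    intro a b
    rw [Subgroup.mem_zpowers_iff, Subgroup.mem_zpowers_iff]
    constructor
    · rintro ⟨k, rfl⟩; exact ⟨k, (map_zpow φ b k).symm⟩
    · rintro ⟨k, hk⟩
      refine ⟨k, φ.injective ?_⟩
      rw [map_zpow, hk]
  have hSU : ∀ a : GL (Fin 3) F, a ∈ SUg F ↔ φ a ∈ SUg F25 := by
    intro a
    rw [Subgroup.mem_inf, Subgroup.mem_inf, glEquiv_mem_GU, glEquiv_mem_SL]
  refine ⟨φ.symm Z1, φ.symm W25, ?_, ?_, ?_, ?_, ?_⟩
  · rw [hSU]; simpa using Z1_mem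
  · rw [← Z1_order]
    exact orderOf_injective φ.symm.toMonoidHom φ.symm.injective Z1
  · intro x hx h
    rw [← glEquiv_mem_X5 e]
    apply normalizer_le_F25 ((hSU x).1 hx)
    have := (hzp _ _).1 h
    simpa [φ] using this
  · rw [← glEquiv_mem_X5 e]; simpa [φ] using W25_mem
  · intro h
    apply W25_not_normalizes
    have := (hzp _ _).1 h
    simpa [φ] using this

end main

end Cfsg.Agent.Lib.Helper54_SU36_E5bModel
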