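import Mathlib
import Cfsg.Prelude.Def_GeometricClasses
import Cfsg.Prelude.Def_LieClassical
import Cfsg.Agent.Lib.Helper54_SU36_X5
import Cfsg.Agent.Lib.Helper54_SU36_E5bModel

/-!
# SU36-E5b, Sylow reduction (helper27's market): `3 × 7:3 < 3.A₇ < SU₃(5)`

The normaliser of an adjoint-closed cubic field subalgebra of `M₃(F₂₅)`, intersected with `SU₃(5)`, is not maximal in
`SU₃(5)`: it normalises a Sylow 7-subgroup `⟨z⟩` (field part: `Helper7_SU36_E5bField.field_part`), which is conjugate in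
`SU₃(5)` to the explicit `⟨z₁⟩` of `Helper54_SU36_E5bModel`, whose normaliser lies in the overgroup `X5`.
-/

set_option autoImplicit false

namespace Cfsg.Agent.Lib.Helper54_SU36_E5bReduce

open Matrix Cfsg Cfsg.Geo
open Cfsg.Agent.Lib.Helper54_SU36_X5 Cfsg.Agent.Lib.Helper54_SU36_E5bModel
open scoped MatrixGroups

/-! ### Sylow conjugacy for elements of prime order (as in `Helper61_SU36_E3a`) -/

theorem sylow_conj {G : Type*} [Group G] [Finite G] {p : ℕ} [Fact p.Prime]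
    (hp2 : ¬ p ^ 2 ∣ Nat.card G) (x y : G) (hx : orderOf x = p) (hy : orderOf y = p) :
    ∃ g : G, ∃ a : ℕ, g * x * g⁻¹ = y ^ a := by
  have hcard : ∀ z : G, orderOf z = p → ¬ p ∣ (Subgroup.zpowers z).index := by
    intro z hz hdiv
    apply hp2
    rw [← Subgroup.card_mul_index (Subgroup.zpowers z), Nat.card_zpowers, hz, pow_two]
    exact Nat.mul_dvd_mul_left p hdiv
  have hP : ∀ z : G, orderOf z = p → IsPGroup p (Subgroup.zpowers z) := fun z hz =>
    IsPGroup.of_card (n := 1) (by rw [Nat.card_zpowers, hz, pow_one])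
  let P : Sylow p G := (hP x hx).toSylow (hcard x hx)
  let Q : Sylow p G := (hP y hy).toSylow (hcard y hy)
  obtain ⟨g, hg⟩ := MulAction.exists_smul_eq G P Q
  have hmem : g * x * g⁻¹ ∈ (Q : Subgroup G) := by
    rw [← hg, Sylow.coe_subgroup_smul]
    have : x ∈ (P : Subgroup G) := Subgroup.mem_zpowers x
    have h2 := Subgroup.smul_mem_pointwise_smul x (MulAut.conj g) _ this
    simpa [MulAut.smul_def] using h2
  have hmem2 : g * x * g⁻¹ ∈ Subgroup.zpowers y := hmem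
  rw [← mem_powers_iff_mem_zpowers, Submonoid.mem_powers_iff] at hmem2
  obtain ⟨a, ha⟩ := hmem2
  exact ⟨g, a, ha.symm⟩

variable {F : Type*} [Field F] [Fintype F]

theorem not_sq_dvd_card_GL (hF : Fintype.card F = 5 ^ 2) :
    ¬ 7 ^ 2 ∣ Nat.card (GL (Fin 3) F) := by
  rw [Matrix.card_GL_field, Fin.prod_univ_three, hF]
  norm_num

/-- The Sylow reduction: from the field part to the non-maximality. -/
theorem reduce (hF : Fintype.card F = 5 ^ 2) (K : Subalgebra F (Matrix (Fin 3) (Fin 3) F))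
    (hfield : ∃ z : GL (Fin 3) F, z.1 ∈ K ∧ orderOf z = 7 ∧ z ∈ Cfsg.GU 3 F 5 ∧
      z ∈ specialLinear (Fin 3) F ∧
      ∀ t : GL (Fin 3) F, t.1 ∈ K → t ^ 7 = 1 → t ∈ Subgroup.zpowers z) :
    ¬ IsMaximalIn (Cfsg.GU 3 F 5 ⊓ specialLinear (Fin 3) F)
      (subalgebraNormalizer K ⊓ (Cfsg.GU 3 F 5 ⊓ specialLinear (Fin 3) F)) := by
  classical
  intro hmax
  have : Fact (Nat.Prime 7) := ⟨by norm_num⟩
  have hF' : Fintype.card F = 25 := by rw [hF]; norm_num
  obtain ⟨z, hzK, hzord, hzU, hzSL, hroots⟩ := hfield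
  obtain ⟨z₁, w₁, hz₁S, hz₁ord, hN, hw₁, hw₁n⟩ := model hF'
  set S : Subgroup (GL (Fin 3) F) := Cfsg.GU 3 F 5 ⊓ specialLinear (Fin 3) F with hS
  have hzS : z ∈ S := ⟨hzU, hzSL⟩
  have hcardS : ¬ 7 ^ 2 ∣ Nat.card S := fun h =>
    not_sq_dvd_card_GL hF (h.trans (Subgroup.card_subgroup_dvd_card S))
  obtain ⟨⟨s, hsS⟩, b, hsb⟩ := sylow_conj hcardS (⟨z₁, hz₁S⟩ : S) ⟨z, hzS⟩
    (by rw [Subgroup.orderOf_mk]; exact hz₁ord) (by rw [Subgroup.orderOf_mk]; exact hzord)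
  have hsb' : s * z₁ * s⁻¹ = z ^ b := by
    simpa using congrArg Subtype.val hsb
  set z' : GL (Fin 3) F := s * z₁ * s⁻¹ with hz'
  have hz'K : z'.1 ∈ K := by
    rw [hsb', Units.val_pow_eq_pow_val]; exact K.pow_mem hzK b
  have hz₁7 : z₁ ^ 7 = 1 := by rw [← hz₁ord]; exact pow_orderOf_eq_one z₁
  have hz₁ne : z₁ ≠ 1 := by
    intro h
    rw [h, orderOf_one] at hz₁ord
    norm_num at hz₁ord
  have hz'7 : z' ^ 7 = 1 := by rw [hz', conj_pow, hz₁7, mul_one, mul_inv_cancel]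
  have hz'ne : z' ≠ 1 := by
    intro h
    apply hz₁ne
    have : z₁ = s⁻¹ * z' * s := by rw [hz']; group
    rw [this, h]; group
  have hz'ord : orderOf z' = 7 := orderOf_eq_prime hz'7 hz'ne
  have hz'mem : z' ∈ Subgroup.zpowers z := by
    rw [hsb']; exact Subgroup.npow_mem_zpowers z b
  have hzz' : Subgroup.zpowers z' = Subgroup.zpowers z := by
    apply Subgroup.eq_of_le_of_card_ge
    · rw [Subgroup.zpowers_le]; exact hz'mem
    · rw [Nat.card_zpowers, Nat.card_zpowers, hz'ord, hzord]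
  -- Claim A: the elements of `H` normalize `⟨z'⟩`
  have claimA : ∀ g ∈ subalgebraNormalizer K ⊓ S, g * z' * g⁻¹ ∈ Subgroup.zpowers z' := by
    intro g hg
    rw [hzz']
    apply hroots
    · have h1 : ∀ k : Matrix (Fin 3) (Fin 3) F, k ∈ K ↔ g.1 * k * (g⁻¹ : GL (Fin 3) F).1 ∈ K := hg.1
      rw [Units.val_mul, Units.val_mul]
      exact (h1 _).mp hz'K
    · rw [conj_pow, hz'7, mul_one, mul_inv_cancel]
  -- Claim B: conjugating back, they lie in `X5`
  have claimB : ∀ g ∈ subalgebraNormalizer K ⊓ S, s⁻¹ * g * s ∈ X5 F := by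
    intro g hg
    apply hN
    · exact mul_mem (mul_mem (inv_mem hsS) hg.2) hsS
    · obtain ⟨k, hk⟩ := Subgroup.mem_zpowers_iff.mp (claimA g hg)
      rw [Subgroup.mem_zpowers_iff]
      refine ⟨k, ?_⟩
      have h1 : s⁻¹ * g * s * z₁ * (s⁻¹ * g * s)⁻¹ = s⁻¹ * (g * z' * g⁻¹) * s := by
        rw [hz']; group
      rw [h1, ← hk, hz', conj_zpow]
      group
  set M : Subgroup (GL (Fin 3) F) := (X5 F).map (MulAut.conj s).toMonoidHom with hM
  have hmemM : ∀ x : GL (Fin 3) F, x ∈ M ↔ s⁻¹ * x * s ∈ X5 F := by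
    intro x
    rw [hM, Subgroup.mem_map]
    constructor
    · rintro ⟨m, hm, rfl⟩
      have : s⁻¹ * (MulAut.conj s).toMonoidHom m * s = m := by
        show s⁻¹ * (s * m * s⁻¹) * s = m
        group
      rwa [this]
    · intro h
      refine ⟨_, h, ?_⟩
      simp [MulAut.conj_apply, mul_assoc]
  have hHM : subalgebraNormalizer K ⊓ S ≤ M := fun g hg => (hmemM g).mpr (claimB g hg)
  have hMle : M ≤ S := by
    intro x hx
    have h1 : s⁻¹ * x * s ∈ S := X5_le ((hmemM x).mp hx)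
    have h2 := mul_mem (mul_mem hsS h1) (inv_mem hsS)
    have : s * (s⁻¹ * x * s) * s⁻¹ = x := by group
    rwa [this] at h2
  have hMne : M ≠ S := by
    intro h
    apply X5_ne_SUg hF'
    apply le_antisymm X5_le
    intro y hy
    have h1 : s * y * s⁻¹ ∈ M := by
      rw [h]
      exact mul_mem (mul_mem hsS hy) (inv_mem hsS)
    have h2 := (hmemM _).mp h1
    have : s⁻¹ * (s * y * s⁻¹) * s = y := by group
    rwa [this] at h2
  rcases hmax.2 M hHM hMle with h | h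
  · -- `M = H`
    have hw : s * w₁ * s⁻¹ ∈ M := by
      rw [hmemM]
      have : s⁻¹ * (s * w₁ * s⁻¹) * s = w₁ := by group
      rw [this]
      exact hw₁
    rw [h] at hw
    obtain ⟨k, hk⟩ := Subgroup.mem_zpowers_iff.mp (claimA _ hw)
    apply hw₁n
    rw [Subgroup.mem_zpowers_iff]
    refine ⟨k, ?_⟩
    have h1 : s * w₁ * s⁻¹ * z' * (s * w₁ * s⁻¹)⁻¹ = s * (w₁ * z₁ * w₁⁻¹) * s⁻¹ := by
      rw [hz']; group
    rw [h1, hz', conj_zpow] at hk
    have h2 : s⁻¹ * (s * z₁ ^ k * s⁻¹) * s = s⁻¹ * (s * (w₁ * z₁ * w₁⁻¹) * s⁻¹) * s := by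
      rw [hk]
    have h3 : s⁻¹ * (s * z₁ ^ k * s⁻¹) * s = z₁ ^ k := by group
    have h4 : s⁻¹ * (s * (w₁ * z₁ * w₁⁻¹) * s⁻¹) * s = w₁ * z₁ * w₁⁻¹ := by group
    rw [h3, h4] at h2
    exact h2
  · exact hMne h

end Cfsg.Agent.Lib.Helper54_SU36_E5bReduce
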