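import Mathlib
import Cfsg.Prelude.Def_GeometricClasses
import Cfsg.Prelude.Def_LieClassical
import Cfsg.Agent.Lib.Helper54_SU36_E5bReduce
import Cfsg.Agent.Lib.Helper7_SU36_E5bField

/-!
# SU36-E5b (helper27's market): `3 × 7:3 < 3.A₇ < SU₃(5)`

Field part (`Helper7_SU36_E5bField.field_part`) + Sylow reduction and explicit model
(`Helper54_SU36_E5bReduce.reduce`, `Helper54_SU36_E5bModel`, `Helper54_SU36_X5`).
-/

set_option autoImplicit false

namespace Cfsg.Agent.Lib.Helper54_SU36_E5b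

open Matrix Cfsg Cfsg.Geo
open scoped MatrixGroups

variable {F : Type*} [Field F] [Fintype F]

/-- **SU36-E5b**. -/
theorem E5b (hF : Fintype.card F = 5 ^ 2) (K : Subalgebra F (Matrix (Fin 3) (Fin 3) F))
    (hK : IsFieldSubalgebra 3 K) (hadj : IsAdjointClosedFor (Cfsg.hermForm 3 F 5) K) :
    ¬ IsMaximalIn (Cfsg.GU 3 F 5 ⊓ specialLinear (Fin 3) F)
      (subalgebraNormalizer K ⊓ (Cfsg.GU 3 F 5 ⊓ specialLinear (Fin 3) F)) :=
  Cfsg.Agent.Lib.Helper54_SU36_E5bReduce.reduce hF K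
    (Cfsg.Agent.Lib.Helper7_SU36_E5bField.field_part hF K hK hadj)

end Cfsg.Agent.Lib.Helper54_SU36_E5b
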