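import Mathlib
import Cfsg.Prelude.Def_GeometricClasses
import Cfsg.Prelude.Def_LieClassical
import Cfsg.Agent.Lib.Helper54_SU36_X5
import Cfsg.Agent.Lib.Helper54_SU36_E5bModel
import Cfsg.Agent.Lib.Helper13_GU

/-!
# Helper54_SU36_X5Rat: `3 × SO₃(5) ≤ X5` (the `X5` half of SU36-E5c)

`Σ` is described through the `O₃(5)`-invariants `d v = v·v` (bilinear dot product), `f v = (v, v)` and rationality of the point
`⟨v⟩`; hence every unitary matrix of determinant one that is a scalar multiple of a matrix with entries in `F₅` lies in `X5`.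
-/

set_option autoImplicit false

namespace Cfsg.Agent.Lib.Helper54_SU36_X5Rat

open Cfsg Cfsg.Geo Matrix
open Cfsg.Agent.Lib.Helper54_F25 Cfsg.Agent.Lib.Helper54_SUTransfer Cfsg.Agent.Lib.Helper54_SU36_X5
open Cfsg.Agent.Lib.Helper54_SU36_E5bModel
open scoped MatrixGroups

section defs

variable {F : Type*} [Field F]

/-- the bilinear dot product `v · v` -/
def dd (v : Fin 3 → F) : F := v 0 ^ 2 + v 1 ^ 2 + v 2 ^ 2

/-- the hermitian norm -/
def ff (v : Fin 3 → F) : F := Cfsg.hermForm 3 F 5 v v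

/-- the point `⟨v⟩` is rational over the subfield of order 5 -/
def Rat (v : Fin 3 → F) : Prop := ∀ i j, v i * v j ^ 5 = v j * v i ^ 5

/-- the description of `Σ` by `O₃(5)`-invariants -/
def RatP (v : Fin 3 → F) : Prop :=
  ff v ≠ 0 ∧ (dd v ^ 3 = 0 ∨ dd v ^ 3 = 2 * ff v ∨ dd v ^ 3 = 4 * ff v ∨ (dd v ^ 3 = ff v ∧ Rat v))

lemma ff_eq (v : Fin 3 → F) : ff v = v 0 * v 0 ^ 5 + v 1 * v 1 ^ 5 + v 2 * v 2 ^ 5 := hermForm_three v v

lemma rat_iff (v : Fin 3 → F) : Rat v ↔
    v 0 * v 1 ^ 5 = v 1 * v 0 ^ 5 ∧ v 0 * v 2 ^ 5 = v 2 * v 0 ^ 5 ∧ v 1 * v 2 ^ 5 = v 2 * v 1 ^ 5 := by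
  constructor
  · intro h; exact ⟨h 0 1, h 0 2, h 1 2⟩
  · rintro ⟨h1, h2, h3⟩ i j
    fin_cases i <;> fin_cases j <;> first | rfl | assumption | (symm; assumption)

lemma ratP_smul {c : F} (hc : c ≠ 0) (v : Fin 3 → F) : RatP (c • v) ↔ RatP v := by
  have h6 : c ^ 6 ≠ 0 := pow_ne_zero _ hc
  have e1 : ff (c • v) = c ^ 6 * ff v := by
    rw [ff_eq, ff_eq]; simp only [Pi.smul_apply, smul_eq_mul]; ring
  have e2 : dd (c • v) ^ 3 = c ^ 6 * dd v ^ 3 := by
    unfold dd; simp only [Pi.smul_apply, smul_eq_mul]; ring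
  have e3 : Rat (c • v) ↔ Rat v := by
    unfold Rat
    simp only [Pi.smul_apply, smul_eq_mul]
    constructor
    · intro h i j
      have := h i j
      apply mul_left_cancel₀ h6
      linear_combination this
    · intro h i j
      have := h i j
      linear_combination c ^ 6 * this
  unfold RatP
  rw [e1, e2, e3]
  have k1 : c ^ 6 * dd v ^ 3 = 0 ↔ dd v ^ 3 = 0 := by
    rw [mul_eq_zero]; simp [h6]
  have k2 : c ^ 6 * dd v ^ 3 = 2 * (c ^ 6 * ff v) ↔ dd v ^ 3 = 2 * ff v := by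
    rw [show 2 * (c ^ 6 * ff v) = c ^ 6 * (2 * ff v) by ring, mul_right_inj' h6]
  have k3 : c ^ 6 * dd v ^ 3 = 4 * (c ^ 6 * ff v) ↔ dd v ^ 3 = 4 * ff v := by
    rw [show 4 * (c ^ 6 * ff v) = c ^ 6 * (4 * ff v) by ring, mul_right_inj' h6]
  have k4 : c ^ 6 * dd v ^ 3 = c ^ 6 * ff v ↔ dd v ^ 3 = ff v := mul_right_inj' h6
  rw [k1, k2, k3, k4, mul_ne_zero_iff]
  simp [h6]

variable {F' : Type*} [Field F']

lemma ratP_map (e : F ≃+* F') (v : Fin 3 → F) : RatP (fun i => e (v i)) ↔ RatP v := by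
  have e1 : ff (fun i => e (v i)) = e (ff v) := hermForm_map e 5 v v
  have e2 : dd (fun i => e (v i)) = e (dd v) := by
    unfold dd; simp only [map_add, map_pow]
  have e3 : Rat (fun i => e (v i)) ↔ Rat v := by
    unfold Rat
    simp only [← map_pow, ← map_mul, e.injective.eq_iff]
  unfold RatP
  rw [e1, e2, e3]
  have h2 : (2 : F') = e 2 := (map_ofNat e 2).symm
  have h4 : (4 : F') = e 4 := (map_ofNat e 4).symm
  rw [h2, h4]
  simp only [← map_pow, ← map_mul, e.injective.eq_iff, Ne, EmbeddingLike.map_eq_zero_iff]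

end defs

/-! ### The check in the model -/

section model

open F25

/-- Boolean form of `RatP` -/
def ratB (a b c : F25) : Bool :=
  let f := nmB a + nmB b + nmB c
  let d := a * a + b * b + c * c
  let d3 := d * d * d
  (f != 0) && ((d3 == 0) || (d3 == 2 * f) || (d3 == 4 * f) ||
    ((d3 == f) && (a * F25.conj b == b * F25.conj a) && (a * F25.conj c == c * F25.conj a) &&
      (b * F25.conj c == c * F25.conj b)))

lemma ratB_iff (a b c : F25) : ratB a b c = true ↔ RatP ![a, b, c] := by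
  have e1 : ff ![a, b, c] = nmB a + nmB b + nmB c := by
    rw [ff_eq]; simp [F25.pow_five, nmB]
  have e2 : dd ![a, b, c] ^ 3 = (a * a + b * b + c * c) * (a * a + b * b + c * c) * (a * a + b * b + c * c) := by
    unfold dd; simp only [Matrix.cons_val_zero, Matrix.cons_val_one, Matrix.cons_val]; ring
  unfold RatP ratB
  rw [e1, e2, rat_iff]
  simp only [Matrix.cons_val_zero, Matrix.cons_val_one, Matrix.cons_val, F25.pow_five,
    Bool.and_eq_true, Bool.or_eq_true, bne_iff_ne, beq_iff_eq, or_assoc, and_assoc]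

set_option maxRecDepth 100000 in
lemma rchk1 : ∀ y z : F25, sigB 1 y z = ratB 1 y z := by decide +kernel

set_option maxRecDepth 100000 in
lemma rchk2 : ∀ z : F25, sigB 0 1 z = ratB 0 1 z := by decide +kernel

set_option maxRecDepth 100000 in
lemma rchk3 : sigB 0 0 1 = ratB 0 0 1 := by decide +kernel

lemma sigmaP_iff_ratP_F25 : ∀ v : Fin 3 → F25, SigmaP v ↔ RatP v := by
  apply normalised_induction
  · intro c v hc
    rw [sigmaP_smul (by rw [F25.card]) hc, ratP_smul hc]
  · constructor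
    · intro h; exact absurd (by simp) h.1
    · intro h; exact absurd (by simp [ff]) h.1
  · intro y z
    rw [← sigB_iff, ← ratB_iff, rchk1]
  · intro z
    rw [← sigB_iff, ← ratB_iff, rchk2]
  · rw [← sigB_iff, ← ratB_iff, rchk3]

end model

section main

variable {F : Type*} [Field F] [Fintype F]

/-- `Σ` through the `O₃(5)`-invariants, over any field with 25 elements. -/
theorem sigmaP_iff_ratP (hF : Fintype.card F = 25) (v : Fin 3 → F) : SigmaP v ↔ RatP v := by
  let e := ringEquivF25 hF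
  rw [← sigmaP_map e, ← ratP_map e]
  exact sigmaP_iff_ratP_F25 _

lemma five_eq_zero (hF : Fintype.card F = 25) : (5 : F) = 0 := by
  have h := FiniteField.cast_card_eq_zero F
  rw [hF] at h
  have h2 : (5 : F) ^ 2 = 0 := by
    have : ((25 : ℕ) : F) = (5 : F) ^ 2 := by norm_num
    rw [← this]; exact h
  exact pow_eq_zero_iff (by norm_num) |>.1 h2

lemma add_pow_five (hF : Fintype.card F = 25) (x y : F) : (x + y) ^ 5 = x ^ 5 + y ^ 5 := by
  have h5 := five_eq_zero hF
  have : (x + y) ^ 5 = x ^ 5 + y ^ 5 + 5 * (x ^ 4 * y + 2 * x ^ 3 * y ^ 2 + 2 * x ^ 2 * y ^ 3 + x * y ^ 4) := by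
    ring
  rw [this, h5, zero_mul, add_zero]

lemma pow_25 (hF : Fintype.card F = 25) (x : F) : x ^ 25 = x := by
  have := FiniteField.pow_card x
  rwa [hF] at this

/-- The invariance: a unitary matrix which is a scalar multiple of a matrix over the subfield of order 5 preserves the
description. -/
lemma ratP_of_rational (hF : Fintype.card F = 25) {h : GL (Fin 3) F} (hGU : h ∈ Cfsg.GU 3 F 5)
    {c : F} {A : Matrix (Fin 3) (Fin 3) F} (hA : ∀ i j, A i j ^ 5 = A i j)
    (hcA : (h : Matrix (Fin 3) (Fin 3) F) = c • A) (v : Fin 3 → F) (hv : RatP v) :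
    RatP ((h : Matrix (Fin 3) (Fin 3) F) *ᵥ v) := by
  classical
  set M : Matrix (Fin 3) (Fin 3) F := (h : Matrix (Fin 3) (Fin 3) F) with hM
  have hgram : Mᵀ * M.map (fun x => x ^ 5) = 1 :=
    Cfsg.Agent.Lib.Helper13_GU.transpose_mul_map (by norm_num) h hGU
  have hmap : M.map (fun x => x ^ 5) = c ^ 5 • A := by
    ext i j
    rw [hcA]
    simp [mul_pow, hA]
  have hT : Mᵀ = c • Aᵀ := by rw [hcA, Matrix.transpose_smul]
  have hAA : c ^ 6 • (Aᵀ * A) = 1 := by
    rw [← hgram, hmap, hT, Matrix.smul_mul, Matrix.mul_smul, smul_smul]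
    congr 1
    ring
  have hc6 : c ^ 6 ≠ 0 := by
    intro h0
    rw [h0, zero_smul] at hAA
    have := congrFun (congrFun hAA 0) 0
    simp at this
  have hc : c ≠ 0 := fun h0 => hc6 (by rw [h0]; simp)
  set lam : F := (c ^ 6)⁻¹ with hlam
  have hlam0 : lam ≠ 0 := inv_ne_zero hc6
  have hAA' : Aᵀ * A = lam • (1 : Matrix (Fin 3) (Fin 3) F) := by
    have := congrArg (fun X => lam • X) hAA
    simp only [smul_smul] at this
    rw [hlam, inv_mul_cancel₀ hc6, one_smul] at this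
    rw [this]
  -- `lam ^ 2 = 1`
  have hlam5 : lam ^ 5 = lam := by
    rw [hlam, inv_pow, ← pow_mul]
    have : c ^ (6 * 5) = c ^ 25 * c ^ 5 := by rw [← pow_add]
    rw [this, pow_25 hF]
    have h24 : c ^ 24 = 1 := by
      have := FiniteField.pow_card_sub_one_eq_one c hc
      rwa [hF] at this
    have : c * c ^ 5 = c ^ 6 := by ring
    rw [this]
  have hdet5 : A.det ^ 5 = A.det := by
    have h5 := five_eq_zero hF
    have : Fact (Nat.Prime 5) := ⟨by norm_num⟩
    have : CharP F 5 := (CharP.charP_iff_prime_eq_zero (by norm_num : Nat.Prime 5)).2 (by exact_mod_cast h5)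
    have := RingHom.map_det (frobenius F 5) A
    simp only [frobenius_def] at this
    rw [this]
    congr 1
    ext i j
    simp [frobenius_def, hA]
  have hdetsq : A.det ^ 2 = lam ^ 3 := by
    have := congrArg Matrix.det hAA'
    rw [Matrix.det_mul, Matrix.det_transpose, Matrix.det_smul, Matrix.det_one, mul_one,
      Fintype.card_fin] at this
    rw [sq]; exact this
  have hlam2 : lam ^ 2 = 1 := by
    set mu : F := A.det / lam with hmu
    have hmu2 : mu ^ 2 = lam := by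
      rw [hmu, div_pow, hdetsq]
      field_simp
    have hmu5 : mu ^ 5 = mu := by rw [hmu, div_pow, hdet5, hlam5]
    have hmu0 : mu ≠ 0 := by
      intro h0
      rw [h0] at hmu2
      exact hlam0 (by rw [← hmu2]; simp)
    have hmu4 : mu ^ 4 = 1 := by
      apply mul_left_cancel₀ hmu0
      rw [mul_one, ← pow_succ', hmu5]
    calc lam ^ 2 = (mu ^ 2) ^ 2 := by rw [hmu2]
      _ = mu ^ 4 := by ring
      _ = 1 := hmu4
  -- the invariants
  have hMv : ∀ i, (M *ᵥ v) i = c * (A *ᵥ v) i := by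
    intro i
    rw [hcA, Matrix.smul_mulVec]; rfl
  have hff : ff (M *ᵥ v) = ff v := hGU v v
  have hdd : dd (M *ᵥ v) = c ^ 2 * lam * dd v := by
    have h1 : ∀ w : Fin 3 → F, dd w = w ⬝ᵥ w := by
      intro w
      simp [dd, dotProduct, Fin.sum_univ_three, sq]
    rw [h1, h1]
    have h2 : (M *ᵥ v) ⬝ᵥ (M *ᵥ v) = v ⬝ᵥ ((Mᵀ * M) *ᵥ v) := by
      rw [← Matrix.mulVec_mulVec, Matrix.dotProduct_mulVec v Mᵀ, Matrix.vecMul_transpose]
    have h3 : Mᵀ * M = (c ^ 2 * lam) • (1 : Matrix (Fin 3) (Fin 3) F) := by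
      rw [hT, hcA, Matrix.smul_mul, Matrix.mul_smul, smul_smul, hAA', smul_smul]
      congr 1; ring
    rw [h2, h3, Matrix.smul_mulVec, Matrix.one_mulVec, dotProduct_smul, smul_eq_mul]
  have hdd3 : dd (M *ᵥ v) ^ 3 = dd v ^ 3 := by
    rw [hdd]
    have hcl : c ^ 6 * lam = 1 := by rw [hlam, mul_inv_cancel₀ hc6]
    calc (c ^ 2 * lam * dd v) ^ 3 = (c ^ 6 * lam) * lam ^ 2 * dd v ^ 3 := by ring
      _ = dd v ^ 3 := by rw [hcl, hlam2]; ring
  have hAv5 : ∀ j, ((A *ᵥ v) j) ^ 5 = A j 0 * v 0 ^ 5 + A j 1 * v 1 ^ 5 + A j 2 * v 2 ^ 5 := by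
    intro j
    simp only [Matrix.mulVec, dotProduct, Fin.sum_univ_three]
    rw [add_pow_five hF, add_pow_five hF, mul_pow, mul_pow, mul_pow, hA, hA, hA]
  have hrat : Rat v → Rat (M *ᵥ v) := by
    intro hr
    obtain ⟨h01, h02, h12⟩ := (rat_iff v).1 hr
    intro i j
    rw [hMv, hMv, mul_pow, mul_pow, hAv5, hAv5]
    simp only [Matrix.mulVec, dotProduct, Fin.sum_univ_three]
    linear_combination (c * c ^ 5) * ((A i 0 * A j 1 - A j 0 * A i 1) * h01 +
      (A i 0 * A j 2 - A j 0 * A i 2) * h02 + (A i 1 * A j 2 - A j 1 * A i 2) * h12)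
  obtain ⟨h0, hcases⟩ := hv
  refine ⟨by rw [hff]; exact h0, ?_⟩
  rw [hdd3, hff]
  rcases hcases with h | h | h | ⟨h, hr⟩
  · exact Or.inl h
  · exact Or.inr (Or.inl h)
  · exact Or.inr (Or.inr (Or.inl h))
  · exact Or.inr (Or.inr (Or.inr ⟨h, hrat hr⟩))

/-- **The `X5` half of SU36-E5c**: a unitary matrix of determinant one which is a scalar multiple of a matrix with entries in
the subfield of order 5 lies in `X5`. -/
theorem rational_mem_X5 (hF : Fintype.card F = 25) {h : GL (Fin 3) F} (hh : h ∈ SUg F)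
    {c : F} {A : Matrix (Fin 3) (Fin 3) F} (hA : ∀ i j, A i j ^ 5 = A i j)
    (hcA : (h : Matrix (Fin 3) (Fin 3) F) = c • A) : h ∈ X5 F := by
  apply mem_X5_of_forall hh
  intro v hv
  rw [sigmaP_iff_ratP hF] at hv ⊢
  exact ratP_of_rational hF hh.1 hA hcA v hv

set_option maxRecDepth 100000 in
lemma Wm_not_rational : Wm 1 1 * Wm 0 0 ^ 5 ≠ Wm 0 0 * Wm 1 1 ^ 5 := by decide +kernel

/-- An element of `X5` that is not a scalar multiple of a matrix over the subfield of order 5. -/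
theorem exists_mem_X5_not_rational (hF : Fintype.card F = 25) :
    ∃ W ∈ X5 F, ¬ ∃ (c : F) (A : Matrix (Fin 3) (Fin 3) F), (∀ i j, A i j ^ 5 = A i j) ∧
      (W : Matrix (Fin 3) (Fin 3) F) = c • A := by
  let e := ringEquivF25 hF
  refine ⟨(glEquiv e).symm W25, ?_, ?_⟩
  · rw [← glEquiv_mem_X5 e]
    simpa using W25_mem
  · rintro ⟨c, A, hA, hWA⟩
    apply Wm_not_rational
    have hent : ∀ i j, e.symm (Wm i j) = c * A i j := by
      intro i j
      have := congrFun (congrFun hWA i) j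
      rw [glEquiv_symm_apply] at this
      have hW : (W25 : Matrix (Fin 3) (Fin 3) F25) = Wm := rfl
      rw [hW] at this
      simpa using this
    have h1 : e.symm (Wm 1 1) * e.symm (Wm 0 0) ^ 5 = e.symm (Wm 0 0) * e.symm (Wm 1 1) ^ 5 := by
      rw [hent, hent, mul_pow, mul_pow, hA, hA]
      ring
    have h2 := congrArg e h1
    simpa using h2

end main

end Cfsg.Agent.Lib.Helper54_SU36_X5Rat
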