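import Mathlib
import Cfsg.Agent.Lib.Helper98_ExtDefs
import Cfsg.Agent.Lib.Helper29_SpExtDefs

set_option autoImplicit false

/-!
# S5664-PAIR: over `F₄ / F₂` a `K`-transvection is a product of two `F`-transvections with centres
on the `K`-line
-/

namespace Cfsg.Agent.Lib.Helper54_SpExt_PAIR

open Cfsg.Agent.Lib.Helper98_ExtDefs Cfsg.Agent.Lib.Helper29_SpExtDefs

variable {F K V : Type*} [Field F] [Field K] [Algebra F K] [AddCommGroup V] [Module F V]
  [Module K V] [IsScalarTower F K V] [Finite F] [Finite K]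

/-- the trace of `F₄ / F₂` is `z + z²` -/
theorem trace_eq (hq : Nat.card F = 2) (hr : Module.finrank F K = 2) (z : K) :
    algebraMap F K (Algebra.trace F K z) = z + z ^ 2 := by
  rw [FiniteField.algebraMap_trace_eq_sum_pow, hr, hq]
  simp [Finset.sum_range_succ]

theorem card_K (hq : Nat.card F = 2) (hr : Module.finrank F K = 2) : Nat.card K = 4 := by
  have := Module.natCard_eq_pow_finrank (K := F) (V := K)
  rw [this, hq, hr]
  norm_num

theorem two_eq_zero (hq : Nat.card F = 2) : (2 : K) = 0 := by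
  have h2 : (2 : F) = 0 := by
    haveI := Fintype.ofFinite F
    have := Nat.cast_card_eq_zero F
    rw [← Nat.card_eq_fintype_card, hq] at this
    exact_mod_cast this
  have h3 := congrArg (algebraMap F K) h2
  rw [map_ofNat, map_zero] at h3
  exact h3

theorem pow_three (hq : Nat.card F = 2) (hr : Module.finrank F K = 2) (z : K) (hz : z ≠ 0) :
    z ^ 3 = 1 := by
  have h4 : z ^ 4 = z := by
    haveI := Fintype.ofFinite K
    have := FiniteField.pow_card z
    rwa [← Nat.card_eq_fintype_card, card_K hq hr] at this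
  have : z * z ^ 3 = z * 1 := by
    rw [mul_one, ← pow_succ', h4]
  exact mul_left_cancel₀ hz this

/-- the key identity `Tr(αc) α + Tr(βc) β = (α + β)² c` -/
theorem key (hq : Nat.card F = 2) (hr : Module.finrank F K = 2) (α β c : K) (hα : α ≠ 0)
    (hβ : β ≠ 0) :
    algebraMap F K (Algebra.trace F K (α * c)) * α + algebraMap F K (Algebra.trace F K (β * c)) * β
      = (α + β) ^ 2 * c := by
  rw [trace_eq hq hr, trace_eq hq hr]
  have h2 := two_eq_zero (F := F) (K := K) hq
  have hα3 := pow_three hq hr α hα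
  have hβ3 := pow_three hq hr β hβ
  have e : (α * c + (α * c) ^ 2) * α + (β * c + (β * c) ^ 2) * β
      = (α + β) ^ 2 * c + (α ^ 3 + β ^ 3) * c ^ 2 - 2 * (α * β * c) := by ring
  rw [e, hα3, hβ3, h2, zero_mul, sub_zero]
  have : ((1 : K) + 1) = 2 := by norm_num
  rw [this, h2, zero_mul, add_zero]

/-- **PAIR**. -/
theorem PAIR (hq : Nat.card F = 2) (hr : Module.finrank F K = 2)
    (B : LinearMap.BilinForm K V) (halt : B.IsAlt)
    (M : Subgroup (V ≃ₗ[F] V)) (hM : MSp F B M) (hS : SpHyp F B M)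
    (hktv : ∀ (κ : K) (w : V), ∃ g : V ≃ₗ[K] V, (∀ x, g x = x + (κ * B x w) • w) ∧
      ∀ x y, B (g x) (g y) = B x y)
    (y : V ≃ₗ[F] V) (hy : y ∈ M) (v₁ : V) (a b : V) (ha : a ∈ tsp F K V y v₁)
    (hb : b ∈ tsp F K V y v₁) (ha0 : a ≠ 0) (hb0 : b ≠ 0) (hab : a ≠ b) :
    HasMap M (fun x => x + fF F B x a • a + fF F B x b • b) := by
  obtain ⟨α, rfl⟩ := mem_tsp.mp ha
  obtain ⟨β, rfl⟩ := mem_tsp.mp hb
  have hα : α ≠ 0 := by
    rintro rfl
    exact ha0 (by rw [zero_smul, map_zero])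
  have hβ : β ≠ 0 := by
    rintro rfl
    exact hb0 (by rw [zero_smul, map_zero])
  obtain ⟨τ, hτ, hτiso⟩ := hktv ((α + β) ^ 2) v₁
  obtain ⟨m, hmM, hm⟩ := hS τ hτiso
  refine ⟨y * m * y⁻¹, M.mul_mem (M.mul_mem hy hmM) (M.inv_mem hy), ?_⟩
  intro x
  have hf : ∀ κ : K, fF F B x (y (κ • v₁)) = Algebra.trace F K (κ * B (y.symm x) v₁) := by
    intro κ
    have h1 := hM y hy (y.symm x) (κ • v₁)
    rw [LinearEquiv.apply_symm_apply] at h1
    rw [h1]
    unfold fF
    rw [map_smul, smul_eq_mul]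
  show y (m (y.symm x)) = x + fF F B x (y (α • v₁)) • y (α • v₁)
    + fF F B x (y (β • v₁)) • y (β • v₁)
  have hm' := hm (y.symm x)
  simp only [] at hm'
  rw [hm', hτ, map_add, LinearEquiv.apply_symm_apply, hf, hf, add_assoc]
  congr 1
  have e1 : ((α + β) ^ 2 * B (y.symm x) v₁) • v₁
      = Algebra.trace F K (α * B (y.symm x) v₁) • (α • v₁)
        + Algebra.trace F K (β * B (y.symm x) v₁) • (β • v₁) := by
    rw [← key hq hr α β (B (y.symm x) v₁) hα hβ, add_smul, mul_smul, mul_smul, algebraMap_smul,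
      algebraMap_smul]
  rw [e1, map_add, LinearEquiv.map_smul, LinearEquiv.map_smul]

end Cfsg.Agent.Lib.Helper54_SpExt_PAIR
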