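/-
StOo market (architect helper68, statement S2547), package CARDB: `|B| = |T| |UO|` for the Borel subgroup of
`Ω_{2m+1}(F)`, through the bijection `T × UO → B`, `(t, u) ↦ t u` (given that the unitriangular isometries lie in `Ω`).
-/
import Mathlib
import Cfsg.Agent.Lib.Helper68_StOoDefs
import Cfsg.Agent.Lib.Helper68_StAbs

set_option autoImplicit false
set_option linter.unusedVariables false
set_option linter.unusedSectionVars false

namespace Cfsg.Agent.Lib.Helper54_StOo_CARDB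

open Matrix Cfsg.Agent.Lib.Helper68_MatGrp Cfsg.Agent.Lib.Helper68_StOoDefs

variable {m : ℕ} {F : Type*} [Field F] [Fintype F] [NeZero (2 : F)]

/-- the product of the diagonal entries at `a` and `op a` of an upper triangular isometry is `1` -/
theorem diag_mul_op {b : OO m F} (hb : b ∈ BO m F) (a : I m) :
    φO m F b a a * φO m F b (op a) (op a) = 1 := by
  have h := UT_mul_apply_self (φO m F) (ht m) (ht_injective m) hb ((BO m F).inv_mem hb) a
  rw [mul_inv_cancel, map_one, Matrix.one_apply_eq, φO_inv_apply] at h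
  have hw : (wt a : F) ≠ 0 := wt_ne_zero a
  rw [h]
  field_simp

/-- the diagonal matrix of an upper triangular isometry preserves the Gram matrix -/
theorem diag_gram {b : OO m F} (hb : b ∈ BO m F) :
    (Matrix.diagonal fun a => φO m F b a a)ᵀ * (Cfsg.Agent.Lib.Helper68_StOoDefs.J : Matrix (I m) (I m) F) *
        (Matrix.diagonal fun a => φO m F b a a) =
      (Cfsg.Agent.Lib.Helper68_StOoDefs.J : Matrix (I m) (I m) F) := by
  ext a c
  rw [Matrix.diagonal_transpose, Matrix.mul_diagonal, Matrix.diagonal_mul, J_apply]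
  by_cases h : c = op a
  · rw [if_pos h, h, mul_comm (φO m F b a a), mul_assoc, diag_mul_op hb a, mul_one]
  · rw [if_neg h, mul_zero, zero_mul]

/-- the diagonal part of an upper triangular isometry -/
theorem exists_diag {b : OO m F} (hb : b ∈ BO m F) :
    ∃ t : OO m F, t ∈ Diag (φO m F) ∧ t⁻¹ * b ∈ UO m F := by
  refine ⟨mkO (Matrix.diagonal fun a => φO m F b a a) (diag_gram hb), ?_, ?_⟩
  · intro a c hac
    rw [φO_mkO, Matrix.diagonal_apply_ne _ hac]
  · apply inv_mul_mem_UU (φO m F) (ht m) (ht_injective m) hb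
    · intro a c hac
      rw [φO_mkO, Matrix.diagonal_apply_ne _ hac]
    · intro a
      rw [φO_mkO, Matrix.diagonal_apply_eq]

theorem Too_le_Boo : Too m F ≤ Boo m F := Diag_le_UT (φ m F) (ht m)

/-- **CARDB**. -/
theorem card_Boo (hU : UO m F ≤ Cfsg.Omega F (Cfsg.quadFormOdd m F)) :
    Nat.card (Boo m F) = Nat.card (Too m F) * Nat.card (UO m F) := by
  rw [← Nat.card_prod]
  symm
  have hUB : ∀ u : OO m F, ∀ hu : u ∈ UO m F, (⟨u, hU hu⟩ : GO m F) ∈ Boo m F := by
    intro u hu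
    exact hu.1
  refine Nat.card_congr (Equiv.ofBijective
    (fun p : ↥(Too m F) × ↥(UO m F) =>
      (⟨p.1.1 * ⟨p.2.1, hU p.2.2⟩, (Boo m F).mul_mem (Too_le_Boo p.1.2) (hUB p.2.1 p.2.2)⟩ : ↥(Boo m F)))
    ⟨?_, ?_⟩)
  · rintro ⟨⟨t, ht'⟩, ⟨u, hu⟩⟩ ⟨⟨t', ht''⟩, ⟨u', hu'⟩⟩ h
    have h0 : t * (⟨u, hU hu⟩ : GO m F) = t' * ⟨u', hU hu'⟩ := congrArg Subtype.val h
    set v : GO m F := ⟨u, hU hu⟩ with hv
    set v' : GO m F := ⟨u', hU hu'⟩ with hv'
    have hvU : v ∈ UU (φ m F) (ht m) (ht_injective m) := hu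
    have hv'U : v' ∈ UU (φ m F) (ht m) (ht_injective m) := hu'
    have h1 : t'⁻¹ * t = v' * v⁻¹ := by
      calc t'⁻¹ * t = t'⁻¹ * (t * v) * v⁻¹ := by group
        _ = t'⁻¹ * (t' * v') * v⁻¹ := by rw [h0]
        _ = v' * v⁻¹ := by group
    have h2 : t'⁻¹ * t ∈ UU (φ m F) (ht m) (ht_injective m) ⊓ Diag (φ m F) :=
      ⟨by rw [h1]; exact Subgroup.mul_mem _ hv'U (Subgroup.inv_mem _ hvU),
        (Too m F).mul_mem ((Too m F).inv_mem ht'') ht'⟩
    rw [UU_inf_Diag (φ m F) (ht m) φ_injective (ht_injective m), Subgroup.mem_bot] at h2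
    have ht : t = t' := by
      calc t = t' * (t'⁻¹ * t) := by group
        _ = t' := by rw [h2, mul_one]
    subst ht
    have hvv : v = v' := mul_left_cancel h0
    have huu : u = u' := congrArg Subtype.val hvv
    subst huu
    rfl
  · rintro ⟨b, hb⟩
    have hbO : b.1 ∈ BO m F := hb
    obtain ⟨t₀, ht₀, hu⟩ := exists_diag hbO
    have hmem : t₀ ∈ Cfsg.Omega F (Cfsg.quadFormOdd m F) := by
      have e : t₀ = b.1 * (t₀⁻¹ * b.1)⁻¹ := by group
      rw [e]
      exact Subgroup.mul_mem _ b.2 (Subgroup.inv_mem _ (hU hu))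
    refine ⟨(⟨⟨t₀, hmem⟩, ht₀⟩, ⟨t₀⁻¹ * b.1, hu⟩), ?_⟩
    apply Subtype.ext
    apply Subtype.ext
    show t₀ * (t₀⁻¹ * b.1) = b.1
    group

end Cfsg.Agent.Lib.Helper54_StOo_CARDB
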