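import Mathlib
import Cfsg.Agent.Lib.Helper75_TZDefs

set_option autoImplicit false

/-!
# S2524 market (architect helper75), package GRP-DS (helper54, parallel attempt): `d(s)` identities.
-/

namespace Cfsg.Agent.Lib.Helper75_TZ

open Matrix Module
open Cfsg.Agent.Lib.Helper5_SpPerfect Cfsg.Agent.Lib.Helper81_SpWeights
  Cfsg.Agent.Lib.Helper81_JointEigen Cfsg.Agent.Lib.Helper81_Heis Cfsg.Agent.Lib.Helper81_WeilLin
  Cfsg.Agent.Lib.Helper81_Schrodinger

namespace GRP_DSaux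

variable {F : Type*} [Field F] {m : ℕ}

theorem single_eq_ext0 (c : F) :
    (Matrix.single 0 0 c : Matrix (Fin (m + 1)) (Fin (m + 1)) F) = ext0 c 0 := by
  ext i j
  refine Fin.cases ?_ (fun i' => ?_) i <;> refine Fin.cases ?_ (fun j' => ?_) j <;>
    simp [(Fin.succ_ne_zero _).symm]

theorem cong_dA_zS (s c : F) : cong (dA s) (zS c : symSub (m + 1) F) = zS (s ^ 2 * c) := by
  apply Subtype.ext
  show dA s * Matrix.single 0 0 c * (dA s)ᵀ = Matrix.single 0 0 (s ^ 2 * c)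
  rw [single_eq_ext0, single_eq_ext0]
  unfold dA
  rw [ext0_transpose, ext0_mul, ext0_mul, Matrix.mul_zero, Matrix.zero_mul]
  congr 1
  ring

/-- the unit `diag (s,1,..,1)` -/
def dU54 (s : Fˣ) : GL (Fin (m + 1)) F :=
  ⟨dA (s : F), dA ((s⁻¹ : Fˣ) : F),
    by rw [dA_mul, ← Units.val_mul, mul_inv_cancel, Units.val_one]; exact ext0_one,
    by rw [dA_mul, ← Units.val_mul, inv_mul_cancel, Units.val_one]; exact ext0_one⟩

theorem ds_eq_lgH_dU (s : Fˣ) : (ds s : SpG (m + 1) F) = lgH (dU54 s) := rfl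

theorem dU54_mul (s s' : Fˣ) : (dU54 (s * s') : GL (Fin (m + 1)) F) = dU54 s * dU54 s' := by
  apply Units.ext
  show dA ((s * s' : Fˣ) : F) = dA (s : F) * dA (s' : F)
  rw [dA_mul, Units.val_mul]

end GRP_DSaux

section GRP

variable {F : Type*} [Field F] {m : ℕ}

/-- PACKAGE GRP-DS -/
theorem ds_conj_zc (s : Fˣ) (c : F) :
    (ds s : SpG (m + 1) F) * zc c * (ds s)⁻¹ = zc ((s : F) ^ 2 * c) := by
  have h1 : (ds s : SpG (m + 1) F) * zc c = zc ((s : F) ^ 2 * c) * ds s := by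
    unfold ds zc
    rw [lg_mul_xs, GRP_DSaux.cong_dA_zS]
  rw [h1, mul_assoc, mul_inv_cancel, mul_one]

theorem ds_mul (s s' : Fˣ) : (ds (s * s') : SpG (m + 1) F) = ds s * ds s' := by
  rw [GRP_DSaux.ds_eq_lgH_dU, GRP_DSaux.ds_eq_lgH_dU, GRP_DSaux.ds_eq_lgH_dU, GRP_DSaux.dU54_mul,
    map_mul]

theorem ds_eq_lgH (s : Fˣ) :
    (ds s : SpG (m + 1) F) = lgH ⟨dA (s : F), dA ((s⁻¹ : Fˣ) : F),
      by rw [dA_mul, ← Units.val_mul, mul_inv_cancel, Units.val_one]; exact ext0_one,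
      by rw [dA_mul, ← Units.val_mul, inv_mul_cancel, Units.val_one]; exact ext0_one⟩ := by
  rfl

end GRP

end Cfsg.Agent.Lib.Helper75_TZ
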