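import Cfsg.Agent.S1399
import Cfsg.Agent.S1400
import Cfsg.Agent.S1401
import Cfsg.Agent.Lib.Helper22_U1402a
import Cfsg.Agent.Lib.Helper22_Uniq5
import Cfsg.Agent.Lib.Helper22_BGTransUp
import Cfsg.Agent.Lib.Helper29_U1402L2
import Cfsg.Agent.Lib.Helper47_SubAPI
import Cfsg.Agent.Lib.Helper54_BGElemAb
import Cfsg.Agent.Lib.Helper54_BGLines

/-!
# Bender-Glauberman 9.5, step (L1): two lines in an alpha-type maximal subgroup (helper54)

`L1` is the statement (L1) of `notes/helper22_S1402_spec.lean.txt`, against `Helper22_U1402.IsLine`.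
-/

set_option autoImplicit false

namespace Cfsg.Agent.Lib.Helper54_U1402L1

open Subgroup Cfsg Cfsg.Agent.Lib.Helper22_U1402

variable {G : Type*} [Group G] [Finite G]

theorem L1 (hG : Cfsg.IsMinSimpleOddOrder G) (p : ℕ) [Fact p.Prime]
    (A : Subgroup G) (hAp : IsPGroup p A) (hAc : IsMulCommutative A)
    (B : Subgroup G) (hBA : B ≤ A) (hBe : Cfsg.IsElementaryAbelian p B) (hB3 : Nat.card B = p ^ 3)
    (hAU : ¬ Cfsg.InUniqueMaximal A)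
    (H : Subgroup G) (hH : IsCoatom H) (hAH : A ≤ H) (s : ℕ) [Fact s.Prime] (hsp : s ≠ p)
    (hF : ¬ Cfsg.PRankLE s 2 ↥(Cfsg.fittingOf H)) :
    ∃ E₁ E₂ : Subgroup G, IsLine A B H s E₁ ∧ IsLine A B H s E₂ ∧
      ∀ M : Subgroup G, IsCoatom M → E₁ ≤ M → E₂ ≤ M → M = H := by
  classical
  have hpP : p.Prime := Fact.out
  have hsP : s.Prime := Fact.out
  have hAc' : ∀ a ∈ A, ∀ b ∈ A, a * b = b * a := fun a ha b hb =>
    congrArg Subtype.val (hAc.is_comm.comm ⟨a, ha⟩ ⟨b, hb⟩)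
  have hBc : ∀ a ∈ B, ∀ b ∈ B, a * b = b * a := fun a ha b hb => hAc' a (hBA ha) b (hBA hb)
  have hBexp : ∀ b ∈ B, b ^ p = 1 := hBe.2
  -- the `s`-core of `H`
  have hS : IsPGroup s ↥(pCoreOf s H) := Cfsg.Agent.Lib.Helper47_SubAPI.isPGroup_pCoreOf H
  have hSH : pCoreOf s H ≤ H := Cfsg.Agent.Lib.Helper47_SubAPI.pCoreOf_le H
  have hHS : H ≤ normalizer ((pCoreOf s H : Subgroup G) : Set G) :=
    Cfsg.Agent.Lib.Helper47_SubAPI.le_normalizer_pCoreOf H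
  have hS3 : ¬ PRankLE s 2 ↥(pCoreOf s H) := Cfsg.Agent.Lib.Helper29_U1402L2.not_pRankLE_pCoreOf hF
  have hs2 : s ≠ 2 := by
    apply Cfsg.Agent.Lib.Helper22_Uniq.two_ne_of_dvd_card hG
    obtain ⟨E, hE, -, hEe, hE3⟩ := Cfsg.Agent.Lib.Helper54_BGElemAb.exists_elemAb_of_not_pRankLE hS3
    have hEs : IsPGroup s ↥E := fun g => ⟨1, by
      apply Subtype.ext
      rw [pow_one, Subgroup.coe_pow]
      exact hEe g.1 g.2⟩
    obtain ⟨k, hk⟩ := IsPGroup.iff_card.mp hEs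
    have hk0 : k ≠ 0 := by
      rintro rfl
      rw [pow_zero] at hk
      rw [hk] at hE3
      have : 0 < s ^ 2 := pow_pos hsP.pos 2
      omega
    have h1 : s ∣ Nat.card ↥E := by
      rw [hk]
      exact dvd_pow_self s hk0
    exact h1.trans (Subgroup.card_subgroup_dvd_card E)
  have hp23 : p ^ 2 < p ^ 3 := Nat.pow_lt_pow_right hpP.one_lt (by norm_num)
  have hp12 : p ^ 1 < p ^ 2 := Nat.pow_lt_pow_right hpP.one_lt (by norm_num)
  have hA3 : ¬ PRankLE p 2 ↥A :=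
    Cfsg.Agent.Lib.Helper54_BGElemAb.not_pRankLE_of_elemAb hBA hBc hBexp (by rw [hB3]; exact hp23)
  -- uniqueness of noncyclic subgroups of `O_s(H)` with a centralizer of rank at least 3
  have hUY : ∀ Y : Subgroup G, Y ≤ pCoreOf s H → ¬ IsCyclic ↥Y →
      ¬ PRankLE s 2 ↥(pCoreOf s H ⊓ centralizer (Y : Set G)) →
      InUniqueMaximal Y ∧ ∀ M : Subgroup G, IsCoatom M → Y ≤ M → M = H := by
    intro Y hYS hYnc hYr
    obtain ⟨F, hFle, hFc, hFe, hF3⟩ := Cfsg.Agent.Lib.Helper54_BGElemAb.exists_elemAb_of_not_pRankLE hYr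
    have hFs : IsPGroup s ↥F := fun g => ⟨1, by
      apply Subtype.ext
      rw [pow_one, Subgroup.coe_pow]
      exact hFe g.1 g.2⟩
    have hFcomm : IsMulCommutative ↥F := ⟨⟨fun a b => Subtype.ext (hFc a.1 a.2 b.1 b.2)⟩⟩
    have hFr : ¬ PRankLE s 2 ↥F :=
      Cfsg.Agent.Lib.Helper54_BGElemAb.not_pRankLE_of_elemAb le_rfl hFc hFe hF3
    have hFU : InUniqueMaximal F := Cfsg.Agent.S1401.result hG H hH s hF F hFs hFcomm hFr
    have hYs : IsPGroup s ↥Y := hS.to_le hYS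
    have hYC : ¬ PRankLE s 2 ↥(centralizer (Y : Set G)) :=
      Cfsg.Agent.Lib.Helper54_BGElemAb.not_pRankLE_of_elemAb (hFle.trans inf_le_right) hFc hFe hF3
    have hYU : InUniqueMaximal Y := Cfsg.Agent.S1400.result hG s F Y hFs hFcomm hFr hFU hYs hYnc hYC
    refine ⟨hYU, ?_⟩
    obtain ⟨M₀, -, hM₀⟩ := hYU
    intro M hM hYM
    rw [hM₀ M ⟨hM, hYM⟩, hM₀ H ⟨hH, hYS.trans hSH⟩]
  -- no noncyclic subgroup of `A` centralizes such a subgroup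
  have hNU : ∀ Y : Subgroup G, Y ≤ pCoreOf s H → ¬ IsCyclic ↥Y →
      ¬ PRankLE s 2 ↥(pCoreOf s H ⊓ centralizer (Y : Set G)) →
      PRankLE p 1 ↥(A ⊓ centralizer (Y : Set G)) := by
    intro Y hYS hYnc hYr
    by_contra hcon
    obtain ⟨B', hB'le, hB'c, hB'e, hB'card⟩ :=
      Cfsg.Agent.Lib.Helper54_BGElemAb.exists_elemAb_of_not_pRankLE hcon
    have hYU := (hUY Y hYS hYnc hYr).1
    have hB'r : ¬ RankLE 1 ↥B' := fun h =>
      Cfsg.Agent.Lib.Helper54_BGElemAb.not_pRankLE_of_elemAb le_rfl hB'c hB'e hB'card (h p hpP)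
    have hB'U : InUniqueMaximal B' :=
      Cfsg.Agent.S1399.result hG Y B' hYU (hB'le.trans inf_le_right) hB'r
    apply hAU
    obtain ⟨M₀, -, hM₀⟩ := hB'U
    refine ⟨H, ⟨hH, hAH⟩, ?_⟩
    rintro M ⟨hM, hAM⟩
    rw [hM₀ M ⟨hM, (hB'le.trans inf_le_left).trans hAM⟩,
      hM₀ H ⟨hH, (hB'le.trans inf_le_left).trans hAH⟩]
  -- the invariant elementary abelian subgroup
  obtain ⟨V, hVS, hAV, hVc, hVe, hVnc, hVr⟩ :=
    Cfsg.Agent.Lib.Helper54_BGElemAb.exists_invariant_elemAb hs2 hsp.symm A (pCoreOf s H) hAc' hAp hA3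
      hS hS3 (hAH.trans hHS) hNU
  obtain ⟨F, hFle, hFc, hFe, hF3⟩ := Cfsg.Agent.Lib.Helper54_BGElemAb.exists_elemAb_of_not_pRankLE hVr
  have hrank : ∀ Y : Subgroup G, Y ≤ V → ¬ PRankLE s 2 ↥(pCoreOf s H ⊓ centralizer (Y : Set G)) := by
    intro Y hYV
    refine Cfsg.Agent.Lib.Helper54_BGElemAb.not_pRankLE_of_elemAb
      (hFle.trans (inf_le_inf_left _ (centralizer_le hYV))) hFc hFe hF3
  have hbad : ∀ Y : Subgroup G, Y ≤ V → ¬ IsCyclic ↥Y → ∀ B' : Subgroup G, B' ≤ B →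
      p ^ 2 ≤ Nat.card B' → ¬ B' ≤ centralizer (Y : Set G) := by
    intro Y hYV hYnc B' hB'B hB'card hB'Y
    have h1 := hNU Y (hYV.trans hVS) hYnc (hrank Y hYV)
    exact Cfsg.Agent.Lib.Helper54_BGElemAb.not_pRankLE_of_elemAb (E := B')
      (le_inf (hB'B.trans hBA) hB'Y) (fun a ha b hb => hBc a (hB'B ha) b (hB'B hb))
      (fun a ha => hBexp a (hB'B ha)) (lt_of_lt_of_le hp12 hB'card) h1
  obtain ⟨E₁, E₂, hE₁V, hE₂V, hE₁card, hE₂card, hAE₁, hAE₂, hBE₁, hBE₂, hjoin⟩ :=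
    Cfsg.Agent.Lib.Helper54_BGLines.exists_two_lines hsp.symm A B V hAc' hBA hBexp hB3 hVe hVnc hAV hbad
  -- centralizers of the lines lie in `H`
  have hFs : IsPGroup s ↥F := fun g => ⟨1, by
    apply Subtype.ext
    rw [pow_one, Subgroup.coe_pow]
    exact hFe g.1 g.2⟩
  have hFcomm : IsMulCommutative ↥F := ⟨⟨fun a b => Subtype.ext (hFc a.1 a.2 b.1 b.2)⟩⟩
  have hFr : ¬ PRankLE s 2 ↥F :=
    Cfsg.Agent.Lib.Helper54_BGElemAb.not_pRankLE_of_elemAb le_rfl hFc hFe hF3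
  have hFU : InUniqueMaximal F := Cfsg.Agent.S1401.result hG H hH s hF F hFs hFcomm hFr
  have hFH : ∀ M : Subgroup G, IsCoatom M → F ≤ M → M = H := by
    obtain ⟨M₀, -, hM₀⟩ := hFU
    intro M hM hFM
    rw [hM₀ M ⟨hM, hFM⟩, hM₀ H ⟨hH, (hFle.trans inf_le_left).trans hSH⟩]
  have hcent : ∀ E : Subgroup G, E ≤ V → Nat.card E = s → centralizer (E : Set G) ≤ H := by
    intro E hEV hEcard
    have hEne : E ≠ ⊥ := by
      rintro rfl
      rw [Subgroup.card_bot] at hEcard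
      exact hsP.one_lt.ne hEcard
    have hCne := Cfsg.Agent.Lib.Helper22_BGTransUp.centralizer_ne_top hG hEne
    obtain ⟨M, hM, hCM⟩ := Cfsg.Agent.Lib.Helper22_Uniq.exists_isCoatom_ge hCne
    have hFM : F ≤ M := (hFle.trans inf_le_right).trans ((centralizer_le hEV).trans hCM)
    rw [← hFH M hM hFM]
    exact hCM
  refine ⟨E₁, E₂, ⟨hE₁V.trans hVS, hE₁card, hAE₁, hBE₁, hcent E₁ hE₁V hE₁card⟩,
    ⟨hE₂V.trans hVS, hE₂card, hAE₂, hBE₂, hcent E₂ hE₂V hE₂card⟩, ?_⟩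
  intro M hM h1 h2
  have hYV : E₁ ⊔ E₂ ≤ V := sup_le hE₁V hE₂V
  exact (hUY (E₁ ⊔ E₂) (hYV.trans hVS) hjoin (hrank _ hYV)).2 M hM (sup_le h1 h2)

end Cfsg.Agent.Lib.Helper54_U1402L1
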