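import Mathlib

set_option autoImplicit false

/-!
UTENS package UT-E2G (helper37's market): the dihedral trick.
`r = (s x' s) x'` has odd order `2t+1`; with `j = t+1` (`r^(2j) = r`) and `γ = r^(j*j)` the element
`δ = γ x' γ⁻¹ = r^j x'` commutes with `s` and conjugates `x'` to `s x' s`.
-/

namespace Cfsg.Agent.Lib.Helper75_UT_E2G

/-- E2-grp (M): the dihedral trick.  `s`, `x'` involutions, `(s x')² = (s x' s) x'` of odd order,
`s` not conjugate to `x'`: some conjugate `δ = γ x' γ⁻¹` (`γ ∈ ⟨x', s x' s⟩`) commutes with `s`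
and conjugates `x'` to `s x' s`. -/
theorem dihedral_central {G : Type*} [Group G] [Finite G] (s x' : G) (hs : s * s = 1)
    (hx : x' * x' = 1) (hodd : Odd (orderOf (s * x' * s * x'))) (hnc : ¬ IsConj s x') :
    ∃ γ ∈ Subgroup.closure ({x', s * x' * s} : Set G),
      Commute s (γ * x' * γ⁻¹) ∧ (γ * x' * γ⁻¹) * x' * (γ * x' * γ⁻¹)⁻¹ = s * x' * s := by
  obtain ⟨t, ht⟩ := hodd
  set r : G := s * x' * s * x' with hr
  have hsinv : s⁻¹ = s := inv_eq_of_mul_eq_one_right hs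
  have hxinv : x'⁻¹ = x' := inv_eq_of_mul_eq_one_right hx
  have hrinv : r⁻¹ = x' * s * x' * s := by
    rw [hr]
    simp only [mul_inv_rev, hsinv, hxinv, mul_assoc]
  have hxr : x' * r * x'⁻¹ = r⁻¹ := by
    rw [hrinv, hxinv, hr]
    calc x' * (s * x' * s * x') * x' = x' * s * x' * s * (x' * x') := by group
      _ = x' * s * x' * s := by rw [hx, mul_one]
  have hsr : s * r * s⁻¹ = r⁻¹ := by
    rw [hrinv, hsinv, hr]
    calc s * (s * x' * s * x') * s = (s * s) * x' * s * x' * s := by group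
      _ = x' * s * x' * s := by rw [hs, one_mul]
  have hxrk : ∀ k : ℕ, x' * r ^ k * x'⁻¹ = (r ^ k)⁻¹ := fun k => by
    rw [← inv_pow, ← hxr, conj_pow]
  have hsrk : ∀ k : ℕ, s * r ^ k * s⁻¹ = (r ^ k)⁻¹ := fun k => by
    rw [← inv_pow, ← hsr, conj_pow]
  -- `r ^ (2 j) = r` with `j = t + 1`
  have hr2j : r ^ (2 * (t + 1)) = r := by
    have h1 : r ^ (2 * t + 1) = 1 := by rw [← ht]; exact pow_orderOf_eq_one r
    have : 2 * (t + 1) = (2 * t + 1) + 1 := by ring
    rw [this, pow_succ, h1, one_mul]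
  -- `x' * (r^k)⁻¹ = r^k * x'`
  have hxk : ∀ k : ℕ, x' * (r ^ k)⁻¹ = r ^ k * x' := fun k => by
    have h := hxrk k
    have h2 : x' * (r ^ k)⁻¹ * x'⁻¹ = r ^ k := by
      calc x' * (r ^ k)⁻¹ * x'⁻¹ = (x' * r ^ k * x'⁻¹)⁻¹ := by group
        _ = ((r ^ k)⁻¹)⁻¹ := by rw [h]
        _ = r ^ k := inv_inv _
    calc x' * (r ^ k)⁻¹ = (x' * (r ^ k)⁻¹ * x'⁻¹) * x' := by group
      _ = r ^ k * x' := by rw [h2]
  have hrx : r * x' = s * x' * s := by
    rw [hr]
    calc s * x' * s * x' * x' = s * x' * s * (x' * x') := by group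
      _ = s * x' * s := by rw [hx, mul_one]
  have hrmem : r ∈ Subgroup.closure ({x', s * x' * s} : Set G) := by
    rw [hr]
    exact Subgroup.mul_mem _ (Subgroup.subset_closure (by simp)) (Subgroup.subset_closure (by simp))
  refine ⟨r ^ ((t + 1) * (t + 1)), Subgroup.pow_mem _ hrmem _, ?_⟩
  -- δ = r^j * x'
  have hδ : r ^ ((t + 1) * (t + 1)) * x' * (r ^ ((t + 1) * (t + 1)))⁻¹ = r ^ (t + 1) * x' := by
    have hgg : r ^ ((t + 1) * (t + 1)) * r ^ ((t + 1) * (t + 1)) = r ^ (t + 1) := by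
      rw [← pow_add]
      have : (t + 1) * (t + 1) + (t + 1) * (t + 1) = (2 * (t + 1)) * (t + 1) := by ring
      rw [this, pow_mul, hr2j]
    calc r ^ ((t + 1) * (t + 1)) * x' * (r ^ ((t + 1) * (t + 1)))⁻¹
        = r ^ ((t + 1) * (t + 1)) * (x' * (r ^ ((t + 1) * (t + 1)))⁻¹) := by group
      _ = r ^ ((t + 1) * (t + 1)) * (r ^ ((t + 1) * (t + 1)) * x') := by rw [hxk]
      _ = (r ^ ((t + 1) * (t + 1)) * r ^ ((t + 1) * (t + 1))) * x' := by group
      _ = r ^ (t + 1) * x' := by rw [hgg]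
  have hjj : r ^ (t + 1) * r ^ (t + 1) = r := by
    rw [← pow_add]
    have : t + 1 + (t + 1) = 2 * (t + 1) := by ring
    rw [this, hr2j]
  rw [hδ]
  constructor
  · -- Commute s (r^j * x')
    show s * (r ^ (t + 1) * x') = r ^ (t + 1) * x' * s
    have h1 : s * r ^ (t + 1) = (r ^ (t + 1))⁻¹ * s := by
      have h := hsrk (t + 1)
      calc s * r ^ (t + 1) = (s * r ^ (t + 1) * s⁻¹) * s := by group
        _ = (r ^ (t + 1))⁻¹ * s := by rw [h]
    have h2 : s * x' = r ^ (t + 1) * (r ^ (t + 1) * x' * s) := by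
      calc s * x' = s * x' * (s * s) := by rw [hs, mul_one]
        _ = (s * x' * s) * s := by group
        _ = r * x' * s := by rw [hrx]
        _ = (r ^ (t + 1) * r ^ (t + 1)) * x' * s := by rw [hjj]
        _ = r ^ (t + 1) * (r ^ (t + 1) * x' * s) := by group
    calc s * (r ^ (t + 1) * x') = (s * r ^ (t + 1)) * x' := by group
      _ = (r ^ (t + 1))⁻¹ * s * x' := by rw [h1]
      _ = (r ^ (t + 1))⁻¹ * (s * x') := by group
      _ = (r ^ (t + 1))⁻¹ * (r ^ (t + 1) * (r ^ (t + 1) * x' * s)) := by rw [← h2]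
      _ = r ^ (t + 1) * x' * s := by group
  · calc r ^ (t + 1) * x' * x' * (r ^ (t + 1) * x')⁻¹
        = r ^ (t + 1) * (x' * x') * (x'⁻¹ * (r ^ (t + 1))⁻¹) := by group
      _ = r ^ (t + 1) * (x' * (r ^ (t + 1))⁻¹) := by rw [hx, hxinv]; group
      _ = r ^ (t + 1) * (r ^ (t + 1) * x') := by rw [hxk]
      _ = (r ^ (t + 1) * r ^ (t + 1)) * x' := by group
      _ = s * x' * s := by rw [hjj, hrx]

end Cfsg.Agent.Lib.Helper75_UT_E2G
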