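import Mathlib
import Cfsg.Agent.Lib.Helper37_UTDefs
import Cfsg.Agent.Lib.Helper37_UTPairDefs
import Cfsg.Agent.Lib.Helper17_UT_BAS1
import Cfsg.Agent.Lib.Helper44_UT_BAS4
import Cfsg.Agent.Lib.Helper42_UT_BAS6
import Cfsg.Agent.Lib.Helper14_PSULocal1
import Cfsg.Agent.Lib.Helper53_UT_ZF
import Cfsg.Agent.Lib.Helper85_UT_RL
import Cfsg.Agent.Lib.Helper17_UT_G2I
import Cfsg.Agent.Lib.Helper63_UT_E1
import Cfsg.Agent.Lib.Helper75_UT_E2G
import Cfsg.Agent.Lib.Helper77_UT_G2IIaux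

set_option autoImplicit false
set_option linter.unusedSectionVars false
set_option linter.unusedVariables false

/-!
# UTENS market (architect helper37), package UT-E2 (second seat helper54): the dihedral trick.

`e2_of` : the statement of `e2` with the statement of the key lemma `key` (package UT-KEYG) as a
hypothesis.  Paper proof: `pending/helper37/UTENS_part2.md`, section E2.
-/

namespace Cfsg.Agent.Lib.Helper54_UT_E2

open Matrix Module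
open Cfsg.Agent.Lib.Helper98_ExtDefs Cfsg.Agent.Lib.Helper97_TensDefs
open Cfsg.Agent.Lib.Helper94_Herm Cfsg.Agent.Lib.Helper13_PSUSimple
open Cfsg.Agent.Lib.Helper67_UT2Defs Cfsg.Agent.Lib.Helper37_UTDefs
open Cfsg.Agent.Lib.Helper37_UTPairDefs

section Abstract

variable {F : Type*} [Field F] {V : Type*} [AddCommGroup V] [Module F V] {σ : F →+* F}
variable {f : V →ₗ[F] V →ₛₗ[σ] F}

/-- a root operator squares to zero -/
theorem rootOp_sq {ℓ : Submodule F V} {N : V →ₗ[F] V} (hℓ : IsRootOp f ℓ N) (v : V) :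
    N (N v) = 0 := by
  have h1 : N v ∈ ℓ := by
    rw [← hℓ.range_eq]
    exact LinearMap.mem_range_self N v
  have h2 : N v ∈ LinearMap.ker N := by
    rw [hℓ.ker_eq]
    exact hℓ.ti h1
  exact h2

/-- a root operator kills its line -/
theorem rootOp_line {ℓ : Submodule F V} {N : V →ₗ[F] V} (hℓ : IsRootOp f ℓ N) {v : V}
    (hv : v ∈ ℓ) : N v = 0 := by
  have h2 : v ∈ LinearMap.ker N := by
    rw [hℓ.ker_eq]
    exact hℓ.ti hv
  exact h2

/-- the elements of `Gam` fix the intersection of the two lines pointwise -/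
theorem gam_fix {ℓ₁ ℓ₂ : Submodule F V} {N₁ N₂ : V →ₗ[F] V} (h₁ : IsRootOp f ℓ₁ N₁)
    (h₂ : IsRootOp f ℓ₂ N₂) {γ : V ≃ₗ[F] V} (hγ : γ ∈ Gam σ N₁ N₂) :
    ∀ v ∈ ℓ₁ ⊓ ℓ₂, γ v = v := by
  unfold Gam at hγ
  induction hγ using Subgroup.closure_induction with
  | mem g hg =>
    obtain ⟨s, hs, hg | hg⟩ := hg
    · intro v hv
      rw [hg, rootOp_line h₁ hv.1, smul_zero, add_zero]
    · intro v hv
      rw [hg, rootOp_line h₂ hv.2, smul_zero, add_zero]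
  | one =>
    intro v _
    rfl
  | mul a b _ _ ha hb =>
    intro v hv
    rw [LinearEquiv.mul_apply, hb v hv, ha v hv]
  | inv a _ ha =>
    intro v hv
    have h1 := ha v hv
    calc a⁻¹ v = a⁻¹ (a v) := by rw [h1]
      _ = v := a.symm_apply_apply v

end Abstract

variable {F : Type*} [Field F] {ι κ : Type*} [Fintype ι] [Fintype κ] [DecidableEq ι]
  [DecidableEq κ] {σ : F →+* F}
variable {α : (ι → F) →ₗ[F] (ι → F) →ₛₗ[σ] F} {β : (κ → F) →ₗ[F] (κ → F) →ₛₗ[σ] F}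
variable {M : Subgroup (Matrix ι κ F ≃ₗ[F] Matrix ι κ F)}

/-- `1 ⊗ P_y` squares to zero, `y` isotropic -/
theorem nI_nI {y : κ → F} (hy : β y y = 0) (X : Matrix ι κ F) :
    nI (ι := ι) β y (nI β y X) = 0 := by
  rw [Cfsg.Agent.Lib.Helper17_UT_BAS1.nI_apply, Cfsg.Agent.Lib.Helper17_UT_BAS1.nI_apply,
    Cfsg.Agent.Lib.Helper17_UT_BAS1.ctrB_pure, hy, zero_smul]
  ext i j
  simp [vecMulVec_apply]

/-- **E2** with the key lemma as a hypothesis -/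
theorem e2_of [Finite F] (hC : UTCtx α β M) (hII : RadStdII α M) (hS : StabII α M)
    (hS' : StabI β M) (h2 : (2 : F) = 0) {x : ι → F} (hx0 : x ≠ 0) (hx : α x x = 0) {d : ℕ}
    (hd : 1 ≤ d) (hmax : MaxD x M d) {g : Matrix ι κ F ≃ₗ[F] Matrix ι κ F}
    (hp : IsPair x M d 1 g) {y : κ → F} (hy0 : y ≠ 0) (hy : β y y = 0) {c : F} (hc : σ c = -c)
    (hc0 : c ≠ 0)
    (hsI : ∀ X ∈ fibB x ⊓ Lg x g,
      tmE (1 : (ι → F) ≃ₗ[F] (ι → F)) (utv β y c) X ∈ fibB x ⊓ Lg x g)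
    (hkey : ∀ {g₁ g₂ : Matrix ι κ F ≃ₗ[F] Matrix ι κ F}, IsPair x M d g₁ g₂ →
      ∀ {γ : Matrix ι κ F ≃ₗ[F] Matrix ι κ F}, γ ∈ Gam σ (Ng α x g₁) (Ng α x g₂) →
      ((∀ X ∈ Lg x g₁, γ X ∈ Lg x g₁) → ∃ s : F, σ s = -s ∧ ∀ X, γ X = X + s • Ng α x g₁ X) ∧
      ((∀ X ∈ Lg x g₂, γ X ∈ Lg x g₂) → ∃ s : F, σ s = -s ∧ ∀ X, γ X = X + s • Ng α x g₂ X)) :
    ∃ s₁ : F, s₁ ≠ 0 ∧ σ s₁ = -s₁ ∧ ∀ X, tmE (utv α x s₁) (utv β y c) (Ng α x g X) =
      Ng α x g (tmE (utv α x s₁) (utv β y c) X) := by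
  have hB : UTBase α β M := UTCtx.base hC
  have hσ : Invol σ := hC.hσ
  have hκpos : 0 < Fintype.card κ := lt_of_le_of_lt (Nat.zero_le _) hC.hab
  -- the involution `s = 1 ⊗ t_y(c)`
  obtain ⟨s, hsdef⟩ : ∃ s : Matrix ι κ F ≃ₗ[F] Matrix ι κ F,
      s = tmE (1 : (ι → F) ≃ₗ[F] (ι → F)) (utv β y c) := ⟨_, rfl⟩
  rw [← hsdef] at hsI
  have hsM : s ∈ M := by
    rw [hsdef]
    exact Cfsg.Agent.Lib.Helper53_UT_ZF.tmE_mem_base hB (Subgroup.one_mem _)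
      (Cfsg.Agent.Lib.Helper14_PSULocal1.utv_mem_SUg hC.hβ y hc)
  have hsX : ∀ X, s X = X + c • nI β y X := fun X => by
    rw [hsdef]
    exact Cfsg.Agent.Lib.Helper42_UT_BAS6.tmE_utv_right hy c X
  have hss : s * s = 1 := Cfsg.Agent.Lib.Helper63_UT_E1.sq_eq_one_of_root h2 (nI_nI hy) hsX
  have hsinv : s⁻¹ = s := inv_eq_of_mul_eq_one_right hss
  have hssX : ∀ X, s (s X) = X := fun X => LinearEquiv.congr_fun hss X
  have hsgM : s * g ∈ M := M.mul_mem hsM hp.mem₂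
  -- root lines
  have hR' := Cfsg.Agent.Lib.Helper85_UT_RL.rootLine_Lg hB hII hx0 hx hp.mem₂
  have hR'' := Cfsg.Agent.Lib.Helper85_UT_RL.rootLine_Lg hB hII hx0 hx hsgM
  have hsq' : ∀ v, Ng α x g (Ng α x g v) = 0 := rootOp_sq hR'.toIsRootOp
  have hsq'' : ∀ v, Ng α x (s * g) (Ng α x (s * g) v) = 0 := rootOp_sq hR''.toIsRootOp
  -- `I ≤ s ℓ'`
  have hI_le : fibB x ⊓ Lg x g ≤ Lg x (s * g) := by
    intro X hX
    have h1 := hsI X hX
    rw [Lg_mul]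
    exact ⟨s X, h1.2, hssX X⟩
  have hIdim : finrank F ↥(fibB (κ := κ) x ⊓ Lg x g) = d := by
    have := hp.dim
    rwa [Lg_one] at this
  have hIne : fibB (κ := κ) x ⊓ Lg x g ≠ ⊥ := by
    intro h0
    rw [h0, finrank_bot] at hIdim
    omega
  -- `s ℓ' ≠ ℓ'`
  have hne' : Lg x (s * g) ≠ Lg x g := by
    intro heq
    have hst : ∀ X ∈ Lg x g,
        tmE (1 : (ι → F) ≃ₗ[F] (ι → F)) (utv β y c) X ∈ Lg x g := by
      intro X hX
      rw [← hsdef, ← heq, Lg_mul]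
      exact ⟨X, hX, rfl⟩
    obtain ⟨x', hx'0, hLg⟩ :=
      Cfsg.Agent.Lib.Helper17_UT_G2I.g2I hC hS hS' hx0 hx hp.mem₂ hy0 hy hc hc0 hst
    have hmeet : fibB (κ := κ) x ⊓ fibB x' ≠ ⊥ := by
      rw [← hLg]
      exact hIne
    have h1 := Cfsg.Agent.Lib.Helper77_UT_G2IIaux.fibB_eq_of_meet hmeet
    apply hp.ne
    rw [Lg_one, hLg, h1]
  -- the pair `(s g, g)`
  have hp2 : IsPair x M d (s * g) g := by
    refine ⟨hsgM, hp.mem₂, hne', le_antisymm (hmax _ hsgM _ hp.mem₂ hne') ?_⟩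
    rw [← hIdim]
    apply Submodule.finrank_mono
    intro X hX
    exact ⟨hI_le hX, hX.2⟩
  -- the root involutions
  obtain ⟨t, ht0, ht⟩ := exists_skew hσ
  obtain ⟨x', hx'def⟩ : ∃ x' : Matrix ι κ F ≃ₗ[F] Matrix ι κ F, x' = rtE α x g t := ⟨_, rfl⟩
  have hx'X : ∀ X, x' X = X + t • Ng α x g X := fun X => by
    rw [hx'def]
    exact Cfsg.Agent.Lib.Helper85_UT_RL.rtE_apply hx g t X
  have hx'M : x' ∈ M := by
    rw [hx'def]
    exact Cfsg.Agent.Lib.Helper85_UT_RL.rtE_mem hB hx hp.mem₂ ht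
  have hx''eq : rtE α x (s * g) t = s * x' * s := by
    rw [hx'def]
    simp only [rtE, _root_.mul_inv_rev, hsinv, mul_assoc]
  have hx''X : ∀ X, (s * x' * s) X = X + t • Ng α x (s * g) X := fun X => by
    rw [← hx''eq]
    exact Cfsg.Agent.Lib.Helper85_UT_RL.rtE_apply hx (s * g) t X
  have hx'x' : x' * x' = 1 := Cfsg.Agent.Lib.Helper63_UT_E1.sq_eq_one_of_root h2 hsq' hx'X
  -- odd order
  have hodd : Odd (orderOf (s * x' * s * x')) :=
    Cfsg.Agent.Lib.Helper63_UT_E1.e1_odd_order (σ := σ) h2 hR''.range_eq hR'.range_eq hne'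
      hsq'' hsq' (fun γ hγ hst => (hkey hp2 hγ).1 hst) (fun γ hγ hst => (hkey hp2 hγ).2 hst)
      ht ht ht0 ht0 hx''X hx'X
  -- `s` is not conjugate to `x'`
  have hnc : ¬ IsConj s x' := by
    intro hconj
    obtain ⟨u, hu⟩ := isConj_iff.mp hconj
    have hle : Lg x g ≤ (fiber (ι := ι) y).map u.toLinearMap := by
      intro X hX
      rw [← hR'.range_eq] at hX
      obtain ⟨Z, rfl⟩ := hX
      have h1 : x' Z = u (s (u⁻¹ Z)) := by
        rw [← hu]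
        rfl
      rw [hx'X, hsX, map_add, map_smul] at h1
      have h3 : u (u⁻¹ Z) = Z := u.apply_symm_apply Z
      rw [h3] at h1
      have h4 : t • Ng α x g Z = c • u (nI β y (u⁻¹ Z)) := add_left_cancel h1
      refine ⟨(t⁻¹ * c) • nI β y (u⁻¹ Z), Submodule.smul_mem _ _ ?_, ?_⟩
      · rw [Cfsg.Agent.Lib.Helper17_UT_BAS1.nI_apply]
        exact ⟨_, rfl⟩
      · show u ((t⁻¹ * c) • nI β y (u⁻¹ Z)) = Ng α x g Z
        rw [map_smul, mul_smul, ← h4, smul_smul, inv_mul_cancel₀ ht0, one_smul]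
    have h5 := Submodule.finrank_mono hle
    rw [Cfsg.Agent.Lib.Helper85_UT_RL.finrank_Lg hx0, LinearEquiv.finrank_map_eq] at h5
    have h6 := Cfsg.Agent.Lib.Helper77_UT_G2IIaux.finrank_fiber_le (ι := ι) y
    have := hC.hab
    omega
  -- the dihedral trick
  have hVfin : Finite (Matrix ι κ F) := Module.finite_of_finite F
  have hGfin : Finite (Matrix ι κ F ≃ₗ[F] Matrix ι κ F) :=
    Finite.of_injective (fun g : Matrix ι κ F ≃ₗ[F] Matrix ι κ F => (g : Matrix ι κ F → Matrix ι κ F))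
      DFunLike.coe_injective
  obtain ⟨γ, hγcl, hcomm, hconj2⟩ :=
    Cfsg.Agent.Lib.Helper75_UT_E2G.dihedral_central s x' hss hx'x' hodd hnc
  have hsx'sM : s * x' * s ∈ M := M.mul_mem (M.mul_mem hsM hx'M) hsM
  have hγM : γ ∈ M := by
    refine (Subgroup.closure_le M).mpr ?_ hγcl
    rintro z (rfl | rfl)
    · exact hx'M
    · exact hsx'sM
  have hγGam : γ ∈ Gam σ (Ng α x (s * g)) (Ng α x g) := by
    unfold Gam
    refine Subgroup.closure_mono ?_ hγcl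
    rintro z (rfl | rfl)
    · exact ⟨t, ht, Or.inr hx'X⟩
    · exact ⟨t, ht, Or.inl hx''X⟩
  obtain ⟨δ, hδdef⟩ : ∃ δ : Matrix ι κ F ≃ₗ[F] Matrix ι κ F, δ = γ * x' * γ⁻¹ := ⟨_, rfl⟩
  rw [← hδdef] at hcomm hconj2
  have hγgM : γ * g ∈ M := M.mul_mem hγM hp.mem₂
  have hδeq : δ = rtE α x (γ * g) t := by
    rw [hδdef, hx'def]
    simp only [rtE, _root_.mul_inv_rev, mul_assoc]
  have hδM : δ ∈ M := by
    rw [hδdef]
    exact M.mul_mem (M.mul_mem hγM hx'M) (M.inv_mem hγM)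
  have hδX : ∀ X, δ X = X + t • Ng α x (γ * g) X := fun X => by
    rw [hδeq]
    exact Cfsg.Agent.Lib.Helper85_UT_RL.rtE_apply hx (γ * g) t X
  have hRδ := Cfsg.Agent.Lib.Helper85_UT_RL.rootLine_Lg hB hII hx0 hx hγgM
  -- `s` stabilises the line of `δ`, which is therefore a fibre
  have hst3 : ∀ X ∈ Lg x (γ * g),
      tmE (1 : (ι → F) ≃ₗ[F] (ι → F)) (utv β y c) X ∈ Lg x (γ * g) := by
    intro X hX
    rw [← hsdef]
    rw [← hRδ.range_eq] at hX ⊢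
    obtain ⟨Z, rfl⟩ := hX
    exact ⟨s Z, (Cfsg.Agent.Lib.Helper63_UT_E1.comm_root ht0 hδX hcomm.eq Z).symm⟩
  obtain ⟨x₁, hx₁0, hLg₁⟩ :=
    Cfsg.Agent.Lib.Helper17_UT_G2I.g2I hC hS hS' hx0 hx hγgM hy0 hy hc hc0 hst3
  have hI3 : fibB x ⊓ Lg x g ≤ Lg x (γ * g) := by
    intro X hX
    have hfix : γ X = X :=
      gam_fix hR''.toIsRootOp hR'.toIsRootOp hγGam X ⟨hI_le hX, hX.2⟩
    rw [Lg_mul]
    exact ⟨X, hX.2, hfix⟩
  have hmeet₁ : fibB (κ := κ) x ⊓ fibB x₁ ≠ ⊥ := by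
    intro h0
    apply hIne
    rw [eq_bot_iff, ← h0, ← hLg₁]
    intro X hX
    exact ⟨hX.1, hI3 hX⟩
  have hLgδ : Lg x (γ * g) = fibB x := by
    rw [hLg₁]
    exact (Cfsg.Agent.Lib.Helper77_UT_G2IIaux.fibB_eq_of_meet hmeet₁).symm
  -- `δ = t_x(s₁) ⊗ 1`
  have hδfib : ∀ X, δ X - X ∈ fibB (κ := κ) x := by
    intro X
    rw [hδX, add_sub_cancel_left, ← hLgδ, ← hRδ.range_eq]
    exact Submodule.smul_mem _ _ (LinearMap.mem_range_self _ X)
  obtain ⟨s₁, hs₁, hδ1⟩ := Cfsg.Agent.Lib.Helper53_UT_ZF.radII_apply hB hII hx0 hx hδM hδfib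
  have hs₁0 : s₁ ≠ 0 := by
    rintro rfl
    have hδone : δ = 1 := by
      apply LinearEquiv.ext
      intro X
      rw [hδ1, zero_smul, add_zero]
      rfl
    have hx'one : x' = 1 := by
      rw [hδdef] at hδone
      exact conj_eq_one_iff.mp hδone
    have hN0 : ∀ X, Ng α x g X = 0 := by
      intro X
      have h1 := hx'X X
      rw [hx'one] at h1
      have h3 : t • Ng α x g X = 0 := by
        have : X = X + t • Ng α x g X := h1
        exact (add_eq_left.mp this.symm)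
      exact (smul_eq_zero.mp h3).resolve_left ht0
    have hbot : Lg x g = ⊥ := by
      rw [← hR'.range_eq, eq_bot_iff]
      rintro _ ⟨Z, rfl⟩
      rw [hN0 Z]
      exact Submodule.zero_mem _
    have h5 := Cfsg.Agent.Lib.Helper85_UT_RL.finrank_Lg (κ := κ) hx0 g
    rw [hbot, finrank_bot] at h5
    omega
  refine ⟨s₁, hs₁0, hs₁, ?_⟩
  -- `w = δ s`
  have hδtm : δ = tmE (utv α x s₁) (1 : (κ → F) ≃ₗ[F] (κ → F)) := by
    apply LinearEquiv.ext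
    intro X
    rw [hδ1, Cfsg.Agent.Lib.Helper42_UT_BAS6.tmE_utv_left hx]
  have hw : tmE (utv α x s₁) (utv β y c) = δ * s := by
    rw [hδtm, hsdef, Cfsg.Agent.Lib.Helper44_UT_BAS4.tmE_mul, mul_one, one_mul]
  have hδδ : δ * δ = 1 :=
    Cfsg.Agent.Lib.Helper63_UT_E1.sq_eq_one_of_root h2 (rootOp_sq hRδ.toIsRootOp) hδX
  have hδinv : δ⁻¹ = δ := inv_eq_of_mul_eq_one_right hδδ
  have h1 : δ * x' = s * x' * s * δ := by
    rw [← hconj2, hδinv]
    simp only [mul_assoc, hδδ, mul_one]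
  have hwx : (δ * s) * x' = x' * (δ * s) := by
    calc (δ * s) * x' = s * (δ * x') := by rw [← hcomm.eq, mul_assoc]
      _ = s * (s * x' * s * δ) := by rw [h1]
      _ = (s * s) * x' * (s * δ) := by simp only [mul_assoc]
      _ = x' * (δ * s) := by rw [hss, one_mul, hcomm.eq]
  intro X
  rw [hw]
  exact Cfsg.Agent.Lib.Helper63_UT_E1.comm_root ht0 hx'X hwx X

end Cfsg.Agent.Lib.Helper54_UT_E2
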