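import Mathlib
import Cfsg.Agent.Lib.Helper37_UTDefs
import Cfsg.Agent.Lib.Helper37_UTPairDefs
import Cfsg.Agent.Lib.Helper85_UT_RL
import Cfsg.Agent.Lib.Helper53_UT_ZF

set_option autoImplicit false
set_option linter.unusedSectionVars false
set_option linter.unusedVariables false

/-!
# UTENS wave 2, package LAYER (architect helper37), core: the action of `Stab_M(x ⊗ B)` on the
layers `x ⊗ B < x^⊥ ⊗ B < V`, with the statement of `qcomm` as a hypothesis (`layer_of`).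
-/

namespace Cfsg.Agent.Lib.Helper85_UT_LAYERaux

open Matrix Module
open Cfsg.Agent.Lib.Helper98_ExtDefs Cfsg.Agent.Lib.Helper97_TensDefs
open Cfsg.Agent.Lib.Helper94_Herm Cfsg.Agent.Lib.Helper13_PSUSimple
open Cfsg.Agent.Lib.Helper94_HermEich
open Cfsg.Agent.Lib.Helper67_UT2Defs Cfsg.Agent.Lib.Helper37_UTDefs
open Cfsg.Agent.Lib.Helper37_UTPairDefs
open Cfsg.Agent.Lib.Helper85_UT_RL
open Cfsg.Agent.Lib.Helper53_UT_ZF

variable {F : Type*} [Field F] {ι κ : Type*} [Fintype ι] [Fintype κ] [DecidableEq ι]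
  [DecidableEq κ] {σ : F →+* F}
variable {α : (ι → F) →ₗ[F] (ι → F) →ₛₗ[σ] F} {β : (κ → F) →ₗ[F] (κ → F) →ₛₗ[σ] F}
variable {M : Subgroup (Matrix ι κ F ≃ₗ[F] Matrix ι κ F)}

/-- the linear map `c ↦ c ⊗ w` -/
def h85_vmL (w : κ → F) : (ι → F) →ₗ[F] Matrix ι κ F where
  toFun c := vecMulVec c w
  map_add' c c' := add_vecMulVec c c' w
  map_smul' t c := smul_vecMulVec t c w

@[simp] theorem h85_vmL_apply (w : κ → F) (c : ι → F) : h85_vmL (ι := ι) w c = vecMulVec c w := rfl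

theorem h85_vmv_zero (c : ι → F) : vecMulVec c (0 : κ → F) = 0 := by
  ext i j
  simp [vecMulVec_apply]

/-- the Kronecker Eichler element on a general matrix -/
theorem h85_eich_apply {x c : ι → F} (hx : α x x = 0) (hcx : α c x = 0) (hxc : α x c = 0) (γ : F)
    (X : Matrix ι κ F) :
    tmE (eich α x c γ) (1 : (κ → F) ≃ₗ[F] (κ → F)) X =
      X + vecMulVec c (ctrA α x X) - vecMulVec x (ctrA α c X) + γ • vecMulVec x (ctrA α x X) := by
  refine Cfsg.Agent.Lib.Helper44_UT_BAS4.h44_induction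
    (p := fun X => tmE (eich α x c γ) (1 : (κ → F) ≃ₗ[F] (κ → F)) X =
      X + vecMulVec c (ctrA α x X) - vecMulVec x (ctrA α c X) + γ • vecMulVec x (ctrA α x X))
    ?_ ?_ ?_ X
  · simp only [map_zero, h85_vmv_zero, smul_zero, add_zero, sub_zero]
  · intro X Y hX hY
    simp only [map_add, vecMulVec_add, smul_add, hX, hY]
    abel
  · intro a b
    rw [tmE_pure, eich_apply α hx hcx hxc, Cfsg.Agent.Lib.Helper17_UT_BAS1.ctrA_pure,
      Cfsg.Agent.Lib.Helper17_UT_BAS1.ctrA_pure]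
    simp only [LinearEquiv.coe_one, id_eq, add_vecMulVec, sub_vecMulVec, smul_vecMulVec,
      vecMulVec_smul, smul_smul]

/-- a stabiliser of the fibre maps it onto itself -/
theorem h85_onto {x : ι → F} (hx0 : x ≠ 0) {g : Matrix ι κ F ≃ₗ[F] Matrix ι κ F}
    (hst : ∀ w : κ → F, ∃ w' : κ → F, g (vecMulVec x w) = vecMulVec x w') (w : κ → F) :
    ∃ w₀ : κ → F, vecMulVec x w = g (vecMulVec x w₀) := by
  have hle : Lg x g ≤ fibB (κ := κ) x := by
    intro X hX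
    obtain ⟨w, rfl⟩ := mem_Lg.mp hX
    exact hst w
  have hfr : finrank F ↥(Lg x g) = finrank F ↥(fibB (κ := κ) x) := by
    rw [finrank_Lg hx0 g, ← Lg_one x, finrank_Lg hx0 1]
  have heq : Lg x g = fibB (κ := κ) x := Submodule.eq_of_le_of_finrank_eq hle hfr
  have : vecMulVec x w ∈ Lg x g := by
    rw [heq]
    exact ⟨w, rfl⟩
  exact mem_Lg.mp this

/-- a stabiliser of the fibre `ℓ` in `M` preserves `ℓ^⊥ = ker (ctrA α x)` -/
theorem h85_perp (hB : UTBase α β M) {x : ι → F} {g : Matrix ι κ F ≃ₗ[F] Matrix ι κ F}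
    (hg : g ∈ M) (hon : ∀ w : κ → F, ∃ w₀ : κ → F, vecMulVec x w = g (vecMulVec x w₀))
    {Y : Matrix ι κ F} (hY : ctrA α x Y = 0) : ctrA α x (g Y) = 0 := by
  apply h85_beta_nondeg hB
  intro w
  obtain ⟨w₀, hw₀⟩ := hon w
  rw [← Cfsg.Agent.Lib.Helper17_UT_BAS1.tf_right_pure' (α := α), hw₀, h85_isom hB hg,
    Cfsg.Agent.Lib.Helper17_UT_BAS1.tf_right_pure', hY, map_zero, LinearMap.zero_apply]

/-- `layer`, with the statement of `qcomm` (package QCOMM) for this `x` as a hypothesis -/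
theorem layer_of (hB : UTBase α β M) {x : ι → F} (hx0 : x ≠ 0)
    (hx : α x x = 0)
    (hqc : ∀ h : Matrix ι κ F ≃ₗ[F] Matrix ι κ F, h ∈ M → InQ α x h →
      ∃ (c : ι → F) (γ : F), α c x = 0 ∧ γ + σ γ = -(α c c) ∧
        h = tmE (eich α x c γ) (1 : (κ → F) ≃ₗ[F] (κ → F)))
    {g : Matrix ι κ F ≃ₗ[F] Matrix ι κ F} (hg : g ∈ M)
    (hst : ∀ w : κ → F, ∃ w' : κ → F, g (vecMulVec x w) = vecMulVec x w') :
    ∃ (g₃ : (κ → F) →ₗ[F] (κ → F)) (φ : (ι → F) →ₗ[F] (ι → F)),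
      (∀ X, ctrA α x (g X) = g₃ (ctrA α x X)) ∧
      (∀ c, α c x = 0 → α (φ c) x = 0) ∧
      (∀ c w, α c x = 0 → g (vecMulVec c w) - vecMulVec (φ c) (g₃ w) ∈ fibB (κ := κ) x) := by
  obtain ⟨xs, hxs⟩ := h85_exists_dual hB hx0
  have hon := h85_onto hx0 hst
  have hginv : g⁻¹ ∈ M := M.inv_mem hg
  -- `g⁻¹` stabilises the fibre as well
  have hst' : ∀ w : κ → F, ∃ w₀ : κ → F, g⁻¹ (vecMulVec x w) = vecMulVec x w₀ := by
    intro w
    obtain ⟨w₀, hw₀⟩ := hon w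
    refine ⟨w₀, ?_⟩
    rw [hw₀]
    exact LinearEquiv.symm_apply_apply g _
  have hon' : ∀ w : κ → F, ∃ w₀ : κ → F, vecMulVec x w = g⁻¹ (vecMulVec x w₀) := by
    intro w
    obtain ⟨w', hw'⟩ := hst w
    refine ⟨w', ?_⟩
    rw [← hw']
    exact (LinearEquiv.symm_apply_apply g _).symm
  -- the map `g₃`
  let g₃ : (κ → F) →ₗ[F] (κ → F) := ctrA α x ∘ₗ g.toLinearMap ∘ₗ vmR xs
  have hg₃ : ∀ w, g₃ w = ctrA α x (g (vecMulVec xs w)) := fun w => rfl
  have h1 : ∀ X, ctrA α x (g X) = g₃ (ctrA α x X) := by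
    intro X
    have hY : ctrA α x (X - vecMulVec xs (ctrA α x X)) = 0 := by
      rw [map_sub, Cfsg.Agent.Lib.Helper17_UT_BAS1.ctrA_pure, hxs, one_smul, sub_self]
    have h2 := h85_perp hB hg hon hY
    rw [map_sub, map_sub, sub_eq_zero] at h2
    rw [h2, hg₃]
  -- `g₃` is injective
  have hg₃inj : ∀ w, g₃ w = 0 → w = 0 := by
    intro w hw
    rw [hg₃] at hw
    have h2 := h85_perp hB hginv hon' hw
    have h3 : g⁻¹ (g (vecMulVec xs w)) = vecMulVec xs w := LinearEquiv.symm_apply_apply g _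
    rw [h3, Cfsg.Agent.Lib.Helper17_UT_BAS1.ctrA_pure, hxs, one_smul] at h2
    exact h2
  -- the conjugated Eichler elements
  have hkey : ∀ c, α c x = 0 → ∃ c', α c' x = 0 ∧
      ∀ w, g (vecMulVec c w) - vecMulVec c' (g₃ w) ∈ fibB (κ := κ) x := by
    intro c hcx
    have hxc : α x c = 0 := herm_eq_zero hB.hα hcx
    obtain ⟨γ, hγ⟩ := tr_surj hB.hσ (-(α c c)) (by rw [map_neg, herm_self hB.hα])
    have hk : tmE (eich α x c γ) (1 : (κ → F) ≃ₗ[F] (κ → F)) ∈ M :=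
      tmE_mem_base hB (Cfsg.Agent.Lib.Helper14_PSULocal1.eich_mem_SUg hB.hα hγ)
        (Subgroup.one_mem _)
    have hh : g * tmE (eich α x c γ) (1 : (κ → F) ≃ₗ[F] (κ → F)) * g⁻¹ ∈ M :=
      M.mul_mem (M.mul_mem hg hk) hginv
    have hQ : InQ α x (g * tmE (eich α x c γ) (1 : (κ → F) ≃ₗ[F] (κ → F)) * g⁻¹) := by
      constructor
      · intro w
        obtain ⟨w₀, hw₀⟩ := hst' w
        rw [LinearEquiv.mul_apply, LinearEquiv.mul_apply, hw₀, h85_eich_apply hx hcx hxc,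
          Cfsg.Agent.Lib.Helper17_UT_BAS1.ctrA_pure, Cfsg.Agent.Lib.Helper17_UT_BAS1.ctrA_pure,
          hx, hxc]
        simp only [zero_smul, h85_vmv_zero, smul_zero, add_zero, sub_zero]
        rw [← hw₀]
        exact LinearEquiv.apply_symm_apply g _
      · intro X hX
        have hY := h85_perp hB hginv hon' hX
        rw [LinearEquiv.mul_apply, LinearEquiv.mul_apply, h85_eich_apply hx hcx hxc, hY,
          h85_vmv_zero, h85_vmv_zero, smul_zero, add_zero, add_zero, map_sub]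
        have h3 : g (g⁻¹ X) = X := LinearEquiv.apply_symm_apply g _
        rw [h3]
        obtain ⟨w', hw'⟩ := hst (ctrA α c (g⁻¹ X))
        rw [hw']
        refine ⟨-w', ?_⟩
        rw [vecMulVec_neg]
        abel
    obtain ⟨c', γ', hc'x, hγ', heq⟩ := hqc _ hh hQ
    have hxc' : α x c' = 0 := herm_eq_zero hB.hα hc'x
    refine ⟨c', hc'x, fun w => ?_⟩
    have h2 : (g * tmE (eich α x c γ) (1 : (κ → F) ≃ₗ[F] (κ → F)) * g⁻¹) (g (vecMulVec xs w)) =
        tmE (eich α x c' γ') (1 : (κ → F) ≃ₗ[F] (κ → F)) (g (vecMulVec xs w)) := by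
      rw [heq]
    rw [LinearEquiv.mul_apply, LinearEquiv.mul_apply] at h2
    have h3 : g⁻¹ (g (vecMulVec xs w)) = vecMulVec xs w := LinearEquiv.symm_apply_apply g _
    rw [h3, h85_eich_apply hx hcx hxc, h85_eich_apply hx hc'x hxc',
      Cfsg.Agent.Lib.Helper17_UT_BAS1.ctrA_pure, Cfsg.Agent.Lib.Helper17_UT_BAS1.ctrA_pure, hxs,
      one_smul, ← hg₃] at h2
    simp only [map_add, map_sub, map_smul] at h2
    obtain ⟨u₁, hu₁⟩ := hst (α xs c • w)
    obtain ⟨u₂, hu₂⟩ := hst w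
    rw [hu₁, hu₂] at h2
    refine ⟨-(ctrA α c' (g (vecMulVec xs w))) + γ' • g₃ w + u₁ - γ • u₂, ?_⟩
    have h4 : g (vecMulVec c w) - vecMulVec c' (g₃ w) =
        ((g (vecMulVec xs w) + g (vecMulVec c w) - vecMulVec x u₁ + γ • vecMulVec x u₂) -
          (g (vecMulVec xs w) + vecMulVec c' (g₃ w) -
            vecMulVec x ((ctrA α c') (g (vecMulVec xs w))) + γ' • vecMulVec x (g₃ w))) +
        (-(vecMulVec x ((ctrA α c') (g (vecMulVec xs w)))) + γ' • vecMulVec x (g₃ w)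
          + vecMulVec x u₁ - γ • vecMulVec x u₂) := by
      abel
    rw [h4, sub_eq_zero.mpr h2, zero_add, vecMulVec_sub, vecMulVec_add, vecMulVec_add,
      vecMulVec_neg, vecMulVec_smul, vecMulVec_smul]
  -- the map `φ`
  by_cases hw0 : ∃ w₀ : κ → F, w₀ ≠ 0
  · obtain ⟨w₀, hw₀⟩ := hw0
    have hne : g₃ w₀ ≠ 0 := fun h => hw₀ (hg₃inj w₀ h)
    obtain ⟨y, -, hy⟩ := hB.hβN (g₃ w₀) (Submodule.mem_top) hne
    let y₁ : κ → F := σ (β (g₃ w₀) y)⁻¹ • y
    have hy₁ : β (g₃ w₀) y₁ = 1 := by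
      show β (g₃ w₀) (σ (β (g₃ w₀) y)⁻¹ • y) = 1
      rw [map_smulₛₗ, smul_eq_mul, hB.hσ.invol, inv_mul_cancel₀ hy]
    let φ : (ι → F) →ₗ[F] (ι → F) := ctrB β y₁ ∘ₗ g.toLinearMap ∘ₗ h85_vmL w₀
    have hφ : ∀ c, φ c = ctrB β y₁ (g (vecMulVec c w₀)) := fun c => rfl
    have hφc : ∀ c, α c x = 0 → ∃ c' : ι → F, ∃ t : F, α c' x = 0 ∧ φ c = c' + t • x ∧
        ∀ w, g (vecMulVec c w) - vecMulVec c' (g₃ w) ∈ fibB (κ := κ) x := by
      intro c hcx
      obtain ⟨c', hc'x, hc'⟩ := hkey c hcx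
      obtain ⟨u, hu⟩ := hc' w₀
      refine ⟨c', β u y₁, hc'x, ?_, hc'⟩
      have h2 : g (vecMulVec c w₀) = vecMulVec c' (g₃ w₀) + vecMulVec x u := by
        rw [← hu]; abel
      rw [hφ, h2, map_add, Cfsg.Agent.Lib.Helper17_UT_BAS1.ctrB_pure,
        Cfsg.Agent.Lib.Helper17_UT_BAS1.ctrB_pure, hy₁, one_smul]
    refine ⟨g₃, φ, h1, ?_, ?_⟩
    · intro c hcx
      obtain ⟨c', t, hc'x, hφeq, -⟩ := hφc c hcx
      rw [hφeq, map_add, LinearMap.add_apply, map_smul, LinearMap.smul_apply, hc'x, hx, smul_zero,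
        add_zero]
    · intro c w hcx
      obtain ⟨c', t, hc'x, hφeq, hc'⟩ := hφc c hcx
      obtain ⟨u, hu⟩ := hc' w
      refine ⟨u - t • g₃ w, ?_⟩
      rw [hφeq, add_vecMulVec, smul_vecMulVec, vecMulVec_sub, vecMulVec_smul, ← hu]
      abel
  · push Not at hw0
    refine ⟨g₃, 0, h1, ?_, ?_⟩
    · intro c _
      rw [LinearMap.zero_apply, map_zero, LinearMap.zero_apply]
    · intro c w _
      rw [hw0 w, h85_vmv_zero, map_zero, hw0 (g₃ 0), h85_vmv_zero, sub_zero]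
      exact Submodule.zero_mem _

end Cfsg.Agent.Lib.Helper85_UT_LAYERaux
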