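import Mathlib
import Cfsg.Agent.Lib.Helper37_UTDefs
import Cfsg.Agent.Lib.Helper37_UTPairDefs
import Cfsg.Agent.Lib.Helper53_UT_ZF
import Cfsg.Agent.Lib.Helper85_UT_RL
import Cfsg.Agent.Lib.Helper47_UT_QCOMM
import Cfsg.Agent.Lib.Helper85_UT_LAYERaux
import Cfsg.Agent.Lib.Helper27_UT_STABA
import Cfsg.Agent.Lib.Helper44_UT_STABB
import Cfsg.Agent.Lib.Helper26_UT_STABIIaux
import Cfsg.Agent.Lib.Helper77_UT_TRANSPaux
import Cfsg.Agent.Lib.Helper77_UT_G2II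
import Cfsg.Agent.Lib.Helper17_UT_G2I
import Cfsg.Agent.Lib.Helper10_UT_PAIREX
import Cfsg.Agent.Lib.Helper10_UT_PGEOA
import Cfsg.Agent.Lib.Helper92_UT_PGEOB
import Cfsg.Agent.Lib.Helper53_UT_GAM
import Cfsg.Agent.Lib.Helper89_UT_PGM
import Cfsg.Agent.Lib.Helper78_UT_KEYBaux
import Cfsg.Agent.Lib.Helper91_UT_KEYGa
import Cfsg.Agent.Lib.Helper54_UT_E2
import Cfsg.Agent.Lib.Helper21_UT_DE
import Cfsg.Agent.Lib.Helper92_UT_E3D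
import Cfsg.Agent.Lib.Helper90_UT_E3E
import Cfsg.Agent.Lib.Helper42_UT_EVENFaux
import Cfsg.Agent.Lib.Helper42_UT_ODDFaux
import Cfsg.Agent.Lib.Helper51_UT_ODDTRmain
import Cfsg.Agent.Lib.Helper2_UT2_ISOEX

set_option autoImplicit false
set_option linter.unusedSectionVars false
set_option linter.unusedVariables false

/-!
# UTENS (`3 ≤ a < b`), PART II: the whole chain of verbatim package statements wired in one file
(second seat helper54, architect helper37): `layer`, `stab_b`, `stabII`, `stabI`, `pairGeo_model`,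
`key_base`, `key`, `e2`, `even_false`, `odd_false`, `case2`, from the cores landed by the market.
-/

namespace Cfsg.Agent.Lib.Helper54_UT_Chain

open Matrix Module
open Cfsg.Agent.Lib.Helper98_ExtDefs Cfsg.Agent.Lib.Helper97_TensDefs
open Cfsg.Agent.Lib.Helper94_Herm Cfsg.Agent.Lib.Helper13_PSUSimple
open Cfsg.Agent.Lib.Helper94_HermEich
open Cfsg.Agent.Lib.Helper67_UT2Defs Cfsg.Agent.Lib.Helper37_UTDefs
open Cfsg.Agent.Lib.Helper37_UTPairDefs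

variable {F : Type*} [Field F] {ι κ : Type*} [Fintype ι] [Fintype κ] [DecidableEq ι]
  [DecidableEq κ] {σ : F →+* F}
variable {α : (ι → F) →ₗ[F] (ι → F) →ₛₗ[σ] F} {β : (κ → F) →ₗ[F] (κ → F) →ₛₗ[σ] F}
variable {M : Subgroup (Matrix ι κ F ≃ₗ[F] Matrix ι κ F)}

theorem layer [Finite F] (hB : UTBase α β M) (hII : RadStdII α M) {x : ι → F} (hx0 : x ≠ 0)
    (hx : α x x = 0) {g : Matrix ι κ F ≃ₗ[F] Matrix ι κ F} (hg : g ∈ M)
    (hst : ∀ w : κ → F, ∃ w' : κ → F, g (vecMulVec x w) = vecMulVec x w') :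
    ∃ (g₃ : (κ → F) →ₗ[F] (κ → F)) (φ : (ι → F) →ₗ[F] (ι → F)),
      (∀ X, ctrA α x (g X) = g₃ (ctrA α x X)) ∧
      (∀ c, α c x = 0 → α (φ c) x = 0) ∧
      (∀ c w, α c x = 0 → g (vecMulVec c w) - vecMulVec (φ c) (g₃ w) ∈ fibB (κ := κ) x) :=
  Cfsg.Agent.Lib.Helper85_UT_LAYERaux.layer_of hB hx0 hx
    (fun h hh hQ => Cfsg.Agent.Lib.Helper47_UT_QCOMM.qcomm hB hII hx0 hx hh hQ) hg hst

theorem stab_b [Finite F] (hB : UTBase α β M) (hII : RadStdII α M) {x : ι → F} (hx0 : x ≠ 0)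
    (hx : α x x = 0) {g : Matrix ι κ F ≃ₗ[F] Matrix ι κ F} (hg : g ∈ M)
    {P : (ι → F) ≃ₗ[F] (ι → F)} {Q : (κ → F) ≃ₗ[F] (κ → F)} (hP : P ∈ uG α) (hQ : Q ∈ uG β)
    (hQ' : InQ α x (g * (tmE P Q)⁻¹)) : IsKron g := by
  refine Cfsg.Agent.Lib.Helper44_UT_STABB.stab_b_of hB (x := x) ?_ hg hP hQ hQ'
  intro h hh hQh
  obtain ⟨c, γ, -, -, rfl⟩ := Cfsg.Agent.Lib.Helper47_UT_QCOMM.qcomm hB hII hx0 hx hh hQh
  exact isKron_tmE _ _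

theorem stabII [Finite F] (hB : UTBase α β M) (h3 : 3 ≤ Fintype.card ι) (hII : RadStdII α M) :
    StabII α M :=
  Cfsg.Agent.Lib.Helper26_UT_STABIIaux.stabII_of hB h3
    (fun hx0 hx _ hg hst => layer hB hII hx0 hx hg hst)
    (fun hx0 hx _ hg hst g₃ φ h1 h2 h3' =>
      Cfsg.Agent.Lib.Helper27_UT_STABA.stab_a hB.hσ hB.hα hB.hαN hB.hβ hB.hβN h3 hx0 hx hg hst
        g₃ φ h1 h2 h3')
    (fun hx0 hx _ hg _ _ hP hQ hQ' => stab_b hB hII hx0 hx hg hP hQ hQ')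

theorem stabI [Finite F] (hB : UTBase α β M) (h3 : 3 ≤ Fintype.card κ) (hI : RadStdI β M) :
    StabI β M :=
  Cfsg.Agent.Lib.Helper77_UT_TRANSPaux.stabI_of hB hI (fun hB' hII' => stabII hB' h3 hII')

theorem pairGeo_model [Finite F] (hC : UTCtx α β M) (hII : RadStdII α M) (hS : StabII α M)
    {x : ι → F} (hx0 : x ≠ 0) (hx : α x x = 0) {d : ℕ} (hd : 1 ≤ d) (hmax : MaxD x M d)
    {g₁ g₂ : Matrix ι κ F ≃ₗ[F] Matrix ι κ F} (hp : IsPair x M d g₁ g₂) :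
    PairGeo (tf α β) (Lg x g₁) (Lg x g₂) (Ng α x g₁) (Ng α x g₂) ∧
      PairGeoU (tf α β) (Lg x g₁) (Lg x g₂) (Ng α x g₁) (Ng α x g₂) := by
  have hB : UTBase α β M := UTCtx.base hC
  have hR1 := Cfsg.Agent.Lib.Helper85_UT_RL.rootLine_Lg hB hII hx0 hx hp.mem₁
  have hR2 := Cfsg.Agent.Lib.Helper85_UT_RL.rootLine_Lg hB hII hx0 hx hp.mem₂
  have hT := Cfsg.Agent.Lib.Helper31_UT_BAS3.tf_isHerm hC.hσ hC.hα hC.hβ
  have hTN := Cfsg.Agent.Lib.Helper31_UT_BAS3.tf_nondeg hC.hσ hC.hα hC.hβ hC.hαN hC.hβN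
  refine Cfsg.Agent.Lib.Helper89_UT_PGM.pairGeo_model_of hC hd hmax hp hR1.toIsRootOp
    hR2.toIsRootOp ?_ ?_ ?_ ?_ ?_
  · rw [Cfsg.Agent.Lib.Helper85_UT_RL.finrank_Lg hx0, Cfsg.Agent.Lib.Helper85_UT_RL.finrank_Lg hx0]
  · intro g s X
    exact Cfsg.Agent.Lib.Helper85_UT_RL.rtE_apply hx g s X
  · intro g hg s hs
    exact Cfsg.Agent.Lib.Helper85_UT_RL.rtE_mem hB hx hg hs
  · intro g₁ hg₁ g₂ hg₂ s hs hs0 hst hmeet
    exact Cfsg.Agent.Lib.Helper77_UT_G2II.g2II hC hII hS hx0 hx hg₁ hg₂ hs hs0 hst hmeet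
  · intro hG
    exact Cfsg.Agent.Lib.Helper92_UT_PGEOB.pairGeoU hC.hσ hT hTN hR1.toIsRootOp hR2.toIsRootOp hG

theorem key_base [Finite F] (hC : UTCtx α β M) (hII : RadStdII α M) (hS : StabII α M)
    {x : ι → F} (hx0 : x ≠ 0) (hx : α x x = 0) {d : ℕ} (hd : 1 ≤ d) (hmax : MaxD x M d)
    {g : Matrix ι κ F ≃ₗ[F] Matrix ι κ F} (hp : IsPair x M d 1 g)
    {γ : Matrix ι κ F ≃ₗ[F] Matrix ι κ F} (hγ : γ ∈ Gam σ (nII (κ := κ) α x) (Ng α x g))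
    (hst : ∀ X ∈ fibB (κ := κ) x, γ X ∈ fibB (κ := κ) x) :
    ∃ s : F, σ s = -s ∧ ∀ X, γ X = X + s • nII α x X := by
  have hB : UTBase α β M := UTCtx.base hC
  have hR1 := Cfsg.Agent.Lib.Helper85_UT_RL.rootLine_Lg hB hII hx0 hx hp.mem₁
  have hR2 := Cfsg.Agent.Lib.Helper85_UT_RL.rootLine_Lg hB hII hx0 hx hp.mem₂
  have hT := Cfsg.Agent.Lib.Helper31_UT_BAS3.tf_isHerm hC.hσ hC.hα hC.hβ
  obtain ⟨hG, hU⟩ := pairGeo_model hC hII hS hx0 hx hd hmax hp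
  have hγ' : γ ∈ Gam σ (Ng (κ := κ) α x 1) (Ng α x g) := hγ
  have hfacts := Cfsg.Agent.Lib.Helper53_UT_GAM.gam_facts hC.hσ hT hR1.toIsRootOp hR2.toIsRootOp
    hG hU hγ'
  exact Cfsg.Agent.Lib.Helper78_UT_KEYBaux.key_base_of hC hS hx0 hx hd hp hR1 hR2 hG hU hγ hfacts
    hst

theorem key [Finite F] (hC : UTCtx α β M) (hII : RadStdII α M) (hS : StabII α M)
    {x : ι → F} (hx0 : x ≠ 0) (hx : α x x = 0) {d : ℕ} (hd : 1 ≤ d) (hmax : MaxD x M d)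
    {g₁ g₂ : Matrix ι κ F ≃ₗ[F] Matrix ι κ F} (hp : IsPair x M d g₁ g₂)
    {γ : Matrix ι κ F ≃ₗ[F] Matrix ι κ F} (hγ : γ ∈ Gam σ (Ng α x g₁) (Ng α x g₂)) :
    ((∀ X ∈ Lg x g₁, γ X ∈ Lg x g₁) → ∃ s : F, σ s = -s ∧ ∀ X, γ X = X + s • Ng α x g₁ X) ∧
    ((∀ X ∈ Lg x g₂, γ X ∈ Lg x g₂) → ∃ s : F, σ s = -s ∧ ∀ X, γ X = X + s • Ng α x g₂ X) :=
  Cfsg.Agent.Lib.Helper91_UT_KEYGa.key_aux
    (fun hp' _ hγ' hst' => key_base hC hII hS hx0 hx hd hmax hp' hγ' hst') hp hγ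

theorem e2 [Finite F] (hC : UTCtx α β M) (hII : RadStdII α M) (hS : StabII α M)
    (hS' : StabI β M) (h2 : (2 : F) = 0) {x : ι → F} (hx0 : x ≠ 0) (hx : α x x = 0) {d : ℕ}
    (hd : 1 ≤ d) (hmax : MaxD x M d) {g : Matrix ι κ F ≃ₗ[F] Matrix ι κ F}
    (hp : IsPair x M d 1 g) {y : κ → F} (hy0 : y ≠ 0) (hy : β y y = 0) {c : F} (hc : σ c = -c)
    (hc0 : c ≠ 0)
    (hsI : ∀ X ∈ fibB x ⊓ Lg x g,
      tmE (1 : (ι → F) ≃ₗ[F] (ι → F)) (utv β y c) X ∈ fibB x ⊓ Lg x g) :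
    ∃ s₁ : F, s₁ ≠ 0 ∧ σ s₁ = -s₁ ∧ ∀ X, tmE (utv α x s₁) (utv β y c) (Ng α x g X) =
      Ng α x g (tmE (utv α x s₁) (utv β y c) X) :=
  Cfsg.Agent.Lib.Helper54_UT_E2.e2_of hC hII hS hS' h2 hx0 hx hd hmax hp hy0 hy hc hc0 hsI
    (fun hp' _ hγ => key hC hII hS hx0 hx hd hmax hp' hγ)

theorem even_false [Finite F] (hC : UTCtx α β M) (hII : RadStdII α M) (hS : StabII α M)
    (hS' : StabI β M) (h2 : (2 : F) = 0) {x : ι → F} (hx0 : x ≠ 0) (hx : α x x = 0) {d : ℕ}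
    (hd : 1 ≤ d) (hmax : MaxD x M d) {g : Matrix ι κ F ≃ₗ[F] Matrix ι κ F}
    (hp : IsPair x M d 1 g) : False := by
  have hB : UTBase α β M := UTCtx.base hC
  have hR2 := Cfsg.Agent.Lib.Helper85_UT_RL.rootLine_Lg hB hII hx0 hx hp.mem₂
  obtain ⟨hG0, -⟩ := pairGeo_model hC hII hS hx0 hx hd hmax hp
  have hG : PairGeo (tf α β) (fibB x) (Lg x g) (nII α x) (Ng α x g) := by
    have h := hG0
    rw [Lg_one] at h
    exact h
  have hne : fibB (κ := κ) x ≠ Lg x g := by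
    have h := hp.ne
    rwa [Lg_one] at h
  have hdim : finrank F ↥(fibB (κ := κ) x ⊓ Lg x g) = d := by
    have h := hp.dim
    rwa [Lg_one] at h
  obtain ⟨-, -, hDE3, hDE4, -, hDE6, -, -, hDE9⟩ :=
    Cfsg.Agent.Lib.Helper21_UT_DE.de_facts hC.hσ hC.hα hC.hαN hC.hβ hC.hβN hx0 hx
      hR2.toIsRootOp hG
  have hb4 : 4 ≤ Fintype.card κ := by
    have h1 := hC.ha
    have h2' := hC.hab
    omega
  refine Cfsg.Agent.Lib.Helper42_UT_EVENFaux.even_false_of hC.hσ hC.hβ h2 hd hne hdim hG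
    ⟨hDE3, hDE4, hDE6, hDE9⟩ ?_ ?_ ?_
  · intro y hy0 hy c hc hc0 hsI
    exact e2 hC hII hS hS' h2 hx0 hx hd hmax hp hy0 hy hc hc0 hsI
  · intro y hy0 hy hyD s₁ c hs₁ hc0 hcomm
    exact Cfsg.Agent.Lib.Helper92_UT_E3D.e3_D hC.hσ hC.hα hC.hαN hC.hβ hC.hβN hx0 hx
      hR2.toIsRootOp hG hy0 hy hyD hs₁ hc0 hcomm
  · intro hI1 h
    exact Cfsg.Agent.Lib.Helper90_UT_E3E.e3_E hC.hσ hC.hα hC.hαN hC.hβ hC.hβN hb4 hx0 hx
      hR2.toIsRootOp hG hI1 h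

theorem odd_false [Finite F] (hC : UTCtx α β M) (hII : RadStdII α M) (hS : StabII α M)
    (h2 : (2 : F) ≠ 0) {x : ι → F} (hx0 : x ≠ 0) (hx : α x x = 0) {d : ℕ} (hd : 1 ≤ d)
    (hmax : MaxD x M d) {g : Matrix ι κ F ≃ₗ[F] Matrix ι κ F} (hp : IsPair x M d 1 g) : False := by
  have hB : UTBase α β M := UTCtx.base hC
  have hR1' := Cfsg.Agent.Lib.Helper85_UT_RL.rootLine_Lg hB hII hx0 hx hp.mem₁
  have hR1 : IsRootOp (tf α β) (fibB x) (nII (κ := κ) α x) := by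
    have h := hR1'.toIsRootOp
    rw [Lg_one] at h
    exact h
  have hR2 := Cfsg.Agent.Lib.Helper85_UT_RL.rootLine_Lg hB hII hx0 hx hp.mem₂
  obtain ⟨hG0, -⟩ := pairGeo_model hC hII hS hx0 hx hd hmax hp
  have hG : PairGeo (tf α β) (fibB x) (Lg x g) (nII α x) (Ng α x g) := by
    have h := hG0
    rw [Lg_one] at h
    exact h
  have hne : fibB (κ := κ) x ≠ Lg x g := by
    have h := hp.ne
    rwa [Lg_one] at h
  refine Cfsg.Agent.Lib.Helper42_UT_ODDFaux.odd_false_abs (σ := σ) hG hne ?_ ?_ ?_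
  · intro hJ
    exact Cfsg.Agent.Lib.Helper51_UT_ODDTRmain.odd_transfer hC.hσ h2 hR1 hR2.toIsRootOp hG hJ
  · intro γ hγ v hv
    exact Cfsg.Agent.Lib.Helper54_UT_E2.gam_fix hR1 hR2.toIsRootOp hγ v hv
  · intro γ hγ hst
    exact key_base hC hII hS hx0 hx hd hmax hp hγ hst

/-- both `RadStd` hold ⇒ every element of `M` is Kronecker -/
theorem case2 [Finite F] (hC : UTCtx α β M) (hII : RadStdII α M) (hI : RadStdI β M) :
    ∀ g ∈ M, IsKron g := by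
  have hB : UTBase α β M := UTCtx.base hC
  have ha := hC.ha
  have hab := hC.hab
  have hS : StabII α M := stabII hB ha hII
  have hS' : StabI β M := stabI hB (by omega) hI
  obtain ⟨x, -, hx0, hx⟩ := Cfsg.Agent.Lib.Helper2_UT2_ISOEX.exists_iso_in hC.hσ hC.hα ⊤ hC.hαN
    (by rw [finrank_top, Module.finrank_fintype_fun_eq_card]; omega)
  by_contra hcon
  push Not at hcon
  obtain ⟨g₀, hg₀, hnk⟩ := hcon
  obtain ⟨d, g, hd, hmax, hp⟩ :=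
    Cfsg.Agent.Lib.Helper10_UT_PAIREX.pair_exists hC hx0 hx hg₀ hnk
  by_cases h2 : (2 : F) = 0
  · exact even_false hC hII hS hS' h2 hx0 hx hd hmax hp
  · exact odd_false hC hII hS h2 hx0 hx hd hmax hp

end Cfsg.Agent.Lib.Helper54_UT_Chain
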