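import Mathlib
import Cfsg.Agent.Lib.Helper97_UExtDefs
import Cfsg.Agent.Lib.Helper94_UDDefs
import Cfsg.Agent.Lib.Helper98_ExtMult
import Cfsg.Agent.Lib.Helper54_UX_Q2BCore
import Cfsg.Agent.Lib.Helper78_UX_FAM2
import Cfsg.Agent.Lib.Helper55_UX_Q2PHI

set_option autoImplicit false
set_option linter.unusedSectionVars false
set_option linter.unusedVariables false

/-!
# UEXT2 package Q2B (helper54 for helper97): `F₀ = {0, 1}`, `E₀ ⊆ E₀'` gives a transvection in `M`.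
-/

namespace Cfsg.Agent.Lib.Helper54_UX_Q2B

open Module
open Cfsg.Agent.Lib.Helper94_Symp Cfsg.Agent.Lib.Helper94_Herm Cfsg.Agent.Lib.Helper13_PSUSimple
  Cfsg.Agent.Lib.Helper67_Tens2Defs Cfsg.Agent.Lib.Helper67_UT2Defs Cfsg.Agent.Lib.Helper98_ExtDefs
  Cfsg.Agent.Lib.Helper94_FrmDefs Cfsg.Agent.Lib.Helper94_UDDefs Cfsg.Agent.Lib.Helper97_UExtDefs

variable {F K : Type*} [Field F] [Field K] [Algebra F K] [Finite F] [Finite K]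
  {σ : F →+* F} {τ : K →+* K}

variable {M : Subgroup ((K × K) ≃ₗ[F] (K × K))}

/-- PKG Q2B (L; uses Q2PHI, FAM2, BASIC, FLD) -/
theorem q2_bad (h : TauExt σ τ) (hσ : Invol σ) (hr : (finrank F K).Prime)
    (hr2 : finrank F K ≠ 2) (hM : HypX h M)
    {y : (K × K) ≃ₗ[F] (K × K)} {p₀ a₀ j : K} (hc : Cfg h M y p₀ a₀ j)
    (hq : ∀ a : F, σ a = a → a = 0 ∨ a = 1)
    (hbad : ∀ κ : K, τ κ = -κ → tX h p₀ κ = 0 →
      ∃ κ' : K, τ κ' = -κ' ∧ sX h y j κ' = 0 ∧ eX p₀ κ = zX y j κ') :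
    HasTvX h M :=
  Cfsg.Agent.Lib.Helper54_UX_Q2BCore.q2_bad_core h hσ hr hr2 hM hc hq hbad
    (fun κ κ' hκ hκ' hs => Cfsg.Agent.Lib.Helper78_UX_FAM2.fam2 h hσ hM hc κ κ' hκ hκ' hs)
    (fun κ₁ κ₁' κ₂ κ₂' h1 h1' h2 h2' ht1 hs1 ht2 hs2 =>
      Cfsg.Agent.Lib.Helper55_UX_Q2PHI.q2_phi h hσ hM hc hq κ₁ κ₁' κ₂ κ₂' h1 h1' h2 h2' ht1 hs1 ht2 hs2)

end Cfsg.Agent.Lib.Helper54_UX_Q2B
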