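import Mathlib
import Cfsg.Agent.Lib.Helper54_UXmDefs
import Cfsg.Agent.Lib.Helper54_UXm_Basic

set_option autoImplicit false
set_option linter.unusedSectionVars false
set_option linter.unusedVariables false

/-!
# UEXTm package ENDB (helper54, parallel seat): the quadratic term of the commutator family gives a
transvection (pure `F`-linear algebra)
-/

open Module
open Cfsg.Agent.Lib.Helper94_Symp Cfsg.Agent.Lib.Helper94_Herm Cfsg.Agent.Lib.Helper13_PSUSimple
  Cfsg.Agent.Lib.Helper94_HermEich Cfsg.Agent.Lib.Helper98_ExtDefs Cfsg.Agent.Lib.Helper97_UExtDefs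
  Cfsg.Agent.Lib.Helper29_SpExtDefs Cfsg.Agent.Lib.Helper94_FrmDefs Cfsg.Agent.Lib.Helper94_UDDefs
  Cfsg.Agent.Lib.Helper54_UXmDefs

namespace Cfsg.Agent.Lib.Helper54_UXm_ENDB

variable {F K V : Type*} [Field F] [Field K] [Algebra F K] [AddCommGroup V] [Module F V]
  [Module K V] [IsScalarTower F K V] [Finite F] [Finite K] [Module.Finite K V]
  {σ : F →+* F} {τ : K →+* K}

/-- **ENDB** (M).  Pure `F`-linear algebra: the quadratic term of the family gives a transvection.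
Proof §8. -/
theorem endB (hσ : Invol σ) {W : Type*} [AddCommGroup W] [Module F W]
    (f : W →ₗ[F] W →ₛₗ[σ] F) (hf : IsHerm f) (M : Subgroup (W ≃ₗ[F] W)) (t : Submodule F W)
    (hti : ∀ a ∈ t, ∀ b ∈ t, f a b = 0) (ζ e : W) (hζ : ζ ∈ t) (he : e ∈ t) (s : F) (hs0 : s ≠ 0)
    (hs : σ s = -s)
    (hfam : ∀ a : F, HasMap M
      (fun x => x + f x (a • e) • ζ - f x ζ • (a • e) + (s * f x (a • e)) • (a • e))) :
    ∃ c : F, c ≠ 0 ∧ σ c = -c ∧ utv f e c ∈ M := by
  obtain ⟨θ, hθ⟩ := exists_tr_ne_zero hσ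
  obtain ⟨m1, hm1M, hm1⟩ := hfam 1
  obtain ⟨m2, hm2M, hm2⟩ := hfam θ
  obtain ⟨m3, hm3M, hm3⟩ := hfam (1 + θ)
  have hee : f e e = 0 := hti e he e he
  -- values of `f` on `x + E`, `E ∈ t`
  have hval : ∀ (x E : W), E ∈ t → ∀ a : F, f (x + E) (a • e) = σ a * f x e := by
    intro x E hE a
    rw [map_add, LinearMap.add_apply, hti E hE _ (t.smul_mem a he), add_zero,
      (f x).map_smulₛₗ, smul_eq_mul]
  have hvalζ : ∀ (x E : W), E ∈ t → f (x + E) ζ = f x ζ := by
    intro x E hE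
    rw [map_add, LinearMap.add_apply, hti E hE ζ hζ, add_zero]
  have hvale : ∀ (x E : W), E ∈ t → f (x + E) e = f x e := by
    intro x E hE
    rw [map_add, LinearMap.add_apply, hti E hE e he, add_zero]
  have hx0 : ∀ (x : W) (a : F), f x (a • e) = σ a * f x e := by
    intro x a
    rw [(f x).map_smulₛₗ, smul_eq_mul]
  -- the perturbation lies in `t`
  have hEt : ∀ (a : F) (x : W),
      (σ a * f x e) • ζ - f x ζ • (a • e) + (s * (σ a * f x e)) • (a • e) ∈ t := by
    intro a x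
    exact t.add_mem (t.sub_mem (t.smul_mem _ hζ) (t.smul_mem _ (t.smul_mem a he)))
      (t.smul_mem _ (t.smul_mem a he))
  have hm : ∀ (m : W ≃ₗ[F] W) (a : F), (∀ x, m x = x + f x (a • e) • ζ - f x ζ • (a • e) +
      (s * f x (a • e)) • (a • e)) → ∀ x, m x = x + ((σ a * f x e) • ζ - f x ζ • (a • e) +
      (s * (σ a * f x e)) • (a • e)) := by
    intro m a hma x
    rw [hma x, hx0]
    abel
  have h1 := hm m1 1 hm1
  have h2 := hm m2 θ hm2
  have h3 := hm m3 (1 + θ) hm3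
  refine ⟨-(s * (θ + σ θ)), ?_, ?_, ?_⟩
  · exact neg_ne_zero.mpr (mul_ne_zero hs0 hθ)
  · rw [map_neg, map_mul, map_add, hσ.invol, hs]
    ring
  · have key : m1 * m2 = utv f e (-(s * (θ + σ θ))) * m3 := by
      ext x
      rw [LinearEquiv.mul_apply, LinearEquiv.mul_apply, utv_apply f hee]
      rw [h2 x, h1, hvale x _ (hEt θ x), hvalζ x _ (hEt θ x), h3 x, hvale x _ (hEt (1 + θ) x)]
      simp only [map_one, map_add, one_mul, one_smul]
      module
    have : utv f e (-(s * (θ + σ θ))) = m1 * m2 * m3⁻¹ := by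
      rw [key, mul_assoc, mul_inv_cancel, mul_one]
    rw [this]
    exact M.mul_mem (M.mul_mem hm1M hm2M) (M.inv_mem hm3M)

end Cfsg.Agent.Lib.Helper54_UXm_ENDB
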