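import Mathlib
import Cfsg.Agent.Lib.Helper54_UXmDefs
import Cfsg.Agent.Lib.Helper54_UXm_Basic
import Cfsg.Agent.Lib.Helper47_UXm_CFGK
import Cfsg.Agent.Lib.Helper59_Ext_S5b
import Cfsg.Agent.Lib.Helper73_UX_FLD

set_option autoImplicit false
set_option linter.unusedSectionVars false
set_option linter.unusedVariables false

/-!
# UEXTm package GEN1 (helper54, parallel seat): the case `B(t, δ) ≠ 0`
-/

open Module
open Cfsg.Agent.Lib.Helper94_Symp Cfsg.Agent.Lib.Helper94_Herm Cfsg.Agent.Lib.Helper13_PSUSimple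
  Cfsg.Agent.Lib.Helper94_HermEich Cfsg.Agent.Lib.Helper98_ExtDefs Cfsg.Agent.Lib.Helper97_UExtDefs
  Cfsg.Agent.Lib.Helper29_SpExtDefs Cfsg.Agent.Lib.Helper94_FrmDefs Cfsg.Agent.Lib.Helper94_UDDefs
  Cfsg.Agent.Lib.Helper54_UXmDefs

namespace Cfsg.Agent.Lib.Helper54_UXm_GEN1

open Cfsg.Agent.Lib.Helper54_UXm_Basic Cfsg.Agent.Lib.Helper59_Ext_S5b

variable {F K V : Type*} [Field F] [Field K] [Algebra F K] [AddCommGroup V] [Module F V]
  [Module K V] [IsScalarTower F K V] [Finite F] [Finite K] [Module.Finite K V]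
  {σ : F →+* F} {τ : K →+* K}

/-- **GEN1** (M/L).  Case `B(t, δ) ≠ 0`: `t ⊆ K δ + F u₀` (uses CFGK and the `K`-transvections
`utv B δ κ`).  Proof §5. -/
theorem gen1 (h : TauExt σ τ) (hσ : Invol σ) (hr : (finrank F K).Prime)
    {B : V →ₗ[K] V →ₛₗ[τ] K} (hB : IsHerm B) (hN : NondegOn B ⊤)
    {M : Subgroup (V ≃ₗ[F] V)} (hM : HypU h B M) {y : V ≃ₗ[F] V} (hy : y ∈ M) {v₁ δ : V}
    (hv₁ : v₁ ≠ 0) (hv₁i : B v₁ v₁ = 0) (hδ : δ ≠ 0) (hδi : B δ δ = 0)
    (hδt : δ ∈ tsp F K V y v₁) (hne : tsp F K V y v₁ ≠ kline F K V δ)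
    (hdich : Dich F K V M y v₁ δ) (hE : ∃ u ∈ tsp F K V y v₁, B u δ ≠ 0) :
    ∃ u₀ : V, CfgU B M y v₁ δ u₀ ∧ B u₀ δ ≠ 0 := by
  classical
  have hτ : Invol τ := h.toInvol hσ
  have hfinV : Module.Finite F K := Module.Finite.of_finite
  have hfinV' : Module.Finite F V := Module.Finite.trans K V
  have hyf : y ∈ uG (trF h B) := hM.le hy
  have hti := tsp_iso h hyf hv₁i
  have hfint : finrank F (tsp F K V y v₁) = finrank F K := finrank_tsp' y hv₁
  -- the subspaces `D₀` and `E`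
  obtain ⟨D₀, hD₀def⟩ : ∃ D₀ : Submodule F K, D₀ = (tsp F K V y v₁).comap (smulMap F δ) := ⟨_, rfl⟩
  have memD₀ : ∀ c : K, c ∈ D₀ ↔ c • δ ∈ tsp F K V y v₁ := by
    intro c; rw [hD₀def]; rfl
  obtain ⟨βm, hβmdef⟩ : ∃ βm : V →ₗ[F] K, βm = (B.flip δ).restrictScalars F := ⟨_, rfl⟩
  have hβm : ∀ x : V, βm x = B x δ := by
    intro x; rw [hβmdef]; rfl
  obtain ⟨E, hEdef⟩ : ∃ E : Submodule F K, E = (tsp F K V y v₁).map βm := ⟨_, rfl⟩
  have memE : ∀ e : K, e ∈ E ↔ ∃ u ∈ tsp F K V y v₁, B u δ = e := by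
    intro e
    rw [hEdef, Submodule.mem_map]
    constructor
    · rintro ⟨u, hu, rfl⟩; exact ⟨u, hu, (hβm u).symm⟩
    · rintro ⟨u, hu, rfl⟩; exact ⟨u, hu, hβm u⟩
  -- the transvections
  have hxM : ∀ κ : K, τ κ = -κ → (utv B δ κ).restrictScalars F ∈ M := fun κ hκ =>
    ktv_mem h hB hM δ hκ
  have hxapp : ∀ (κ : K) (z : V), ((utv B δ κ).restrictScalars F) z = z + (κ * B z δ) • δ :=
    fun κ z => by rw [LinearEquiv.restrictScalars_apply, utv_apply B hδi]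
  have hxfix : ∀ κ : K, ∀ u ∈ kline F K V δ ⊓ tsp F K V y v₁,
      ((utv B δ κ).restrictScalars F) u = u := by
    rintro κ u ⟨hu1, -⟩
    obtain ⟨k, rfl⟩ := mem_kline.mp hu1
    rw [hxapp, B.map_smul, LinearMap.smul_apply, hδi, smul_zero, mul_zero, zero_smul, add_zero]
  -- (C1)
  have hC1 : ∀ κ : K, τ κ = -κ →
      (∀ e ∈ E, κ * e ∈ D₀) ∨ (∀ e ∈ E, κ * e ∈ D₀ → e = 0) := by
    intro κ hκ
    rcases hdich _ (hxM κ hκ) (hxfix κ) with h1 | h2
    · left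
      intro e he
      obtain ⟨u, hu, rfl⟩ := (memE e).mp he
      rw [memD₀]
      have h3 := h1 u hu
      rw [hxapp] at h3
      have h4 := (tsp F K V y v₁).sub_mem h3 hu
      rwa [add_sub_cancel_left] at h4
    · right
      intro e he hκe
      obtain ⟨u, hu, rfl⟩ := (memE e).mp he
      rw [memD₀] at hκe
      have h3 : ((utv B δ κ).restrictScalars F) u ∈ tsp F K V y v₁ := by
        rw [hxapp]; exact (tsp F K V y v₁).add_mem hu hκe
      have h4 := h2 u hu h3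
      rw [hxapp] at h4
      have h5 : (κ * B u δ) • δ ∈ kline F K V δ := mem_kline.mpr ⟨_, rfl⟩
      have h6 := (kline F K V δ).sub_mem h4 h5
      rw [add_sub_cancel_right] at h6
      obtain ⟨k, rfl⟩ := mem_kline.mp h6
      rw [B.map_smul, LinearMap.smul_apply, hδi, smul_zero]
  -- `E ≠ 0`, `D₀ ≠ 0`, `D₀ ≠ K`
  obtain ⟨uE, huEt, huE⟩ := hE
  have hEne : E ≠ ⊥ := by
    intro hbot
    have : B uE δ ∈ E := (memE _).mpr ⟨uE, huEt, rfl⟩
    rw [hbot, Submodule.mem_bot] at this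
    exact huE this
  have h1D₀ : (1 : K) ∈ D₀ := by rw [memD₀, one_smul]; exact hδt
  have hD0 : D₀ ≠ ⊥ := by
    intro hbot
    rw [hbot, Submodule.mem_bot] at h1D₀
    exact one_ne_zero h1D₀
  have hD1 : D₀ ≠ ⊤ := by
    intro htop
    apply hne
    symm
    apply Submodule.eq_of_le_of_finrank_eq
    · intro x hx
      obtain ⟨k, rfl⟩ := mem_kline.mp hx
      rw [← memD₀, htop]; exact Submodule.mem_top
    · rw [hfint, finrank_kline hδ]
  -- (a) the kernel of `β` on `t`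
  have hker : ∀ u ∈ tsp F K V y v₁, B u δ = 0 → u ∈ kline F K V δ := by
    intro u₁ hu₁ hu₁0
    by_contra hu₁k
    apply hD1
    -- every skew `κ` satisfies the first alternative
    have hall : ∀ κ : K, τ κ = -κ → ∀ e ∈ E, κ * e ∈ D₀ := by
      intro κ hκ e he
      rcases hdich _ (hxM κ hκ) (hxfix κ) with h1 | h2
      · obtain ⟨u, hu, rfl⟩ := (memE e).mp he
        rw [memD₀]
        have h3 := h1 u hu
        rw [hxapp] at h3
        have h4 := (tsp F K V y v₁).sub_mem h3 hu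
        rwa [add_sub_cancel_left] at h4
      · exfalso
        have h3 : ((utv B δ κ).restrictScalars F) u₁ = u₁ := by
          rw [hxapp, hu₁0, mul_zero, zero_smul, add_zero]
        have h4 := h2 u₁ hu₁ (by rw [h3]; exact hu₁)
        rw [h3] at h4
        exact hu₁k h4
    obtain ⟨ζ, hζ0, hζ⟩ := exists_skew hσ
    obtain ⟨θ, hθ⟩ := hσ.ne_id
    have he0 : B uE δ ∈ E := (memE _).mpr ⟨uE, huEt, rfl⟩
    rw [eq_top_iff]
    intro c _
    obtain ⟨a, b, ha, hb, hab⟩ := Cfsg.Agent.Lib.Helper73_UX_FLD.dec_K0 h hσ hθ (c / B uE δ)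
    have hsa : τ (ζ • a) = -(ζ • a) := by rw [h.map_smul, hζ, ha, neg_smul]
    have hsb : τ (ζ • b) = -(ζ • b) := by rw [h.map_smul, hζ, hb, neg_smul]
    have h1 := hall _ hsa _ he0
    have h2 := hall _ hsb _ he0
    have hc : c = ζ⁻¹ • ((ζ • a) * B uE δ) + (θ * ζ⁻¹) • ((ζ • b) * B uE δ) := by
      have h3 : c = (c / B uE δ) * B uE δ := by rw [div_mul_cancel₀ _ huE]
      rw [h3, hab]
      simp only [smul_mul_assoc, smul_smul]
      rw [inv_mul_cancel₀ hζ0, mul_assoc, inv_mul_cancel₀ hζ0, mul_one, one_smul, add_mul,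
        smul_mul_assoc]
    rw [hc]
    exact D₀.add_mem (D₀.smul_mem _ h1) (D₀.smul_mem _ h2)
  -- dimensions
  have hinj : Function.Injective (smulMap F (K := K) δ) := smulMap_injective hδ
  have hkerinf : tsp F K V y v₁ ⊓ LinearMap.ker βm = D₀.map (smulMap F δ) := by
    ext u
    rw [Submodule.mem_inf, LinearMap.mem_ker, hβm, Submodule.mem_map]
    constructor
    · rintro ⟨hu, hu0⟩
      obtain ⟨k, rfl⟩ := mem_kline.mp (hker u hu hu0)
      exact ⟨k, (memD₀ k).mpr hu, rfl⟩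
    · rintro ⟨k, hk, rfl⟩
      refine ⟨(memD₀ k).mp hk, ?_⟩
      rw [smulMap_apply, B.map_smul, LinearMap.smul_apply, hδi, smul_zero]
  have hdim : finrank F E + finrank F D₀ = finrank F K := by
    have hrn := LinearMap.finrank_range_add_finrank_ker (βm ∘ₗ (tsp F K V y v₁).subtype)
    rw [LinearMap.range_comp, Submodule.range_subtype, LinearMap.ker_comp,
      ← Submodule.finrank_map_subtype_eq (tsp F K V y v₁)
        ((LinearMap.ker βm).comap (tsp F K V y v₁).subtype),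
      Submodule.map_comap_subtype, hkerinf, hfint, ← hEdef] at hrn
    rw [← hrn, (LinearEquiv.finrank_eq (Submodule.equivMapOfInjective _ hinj D₀))]
  -- (C2)
  have hperp : ∀ e ∈ E, ∀ c ∈ D₀, trT h e c = 0 := by
    intro e he c hc
    obtain ⟨u, hu, rfl⟩ := (memE e).mp he
    have h1 := hti u hu _ ((memD₀ c).mp hc)
    rw [trF_smul_right] at h1
    rw [trT_apply, mul_comm]
    exact h1
  obtain ⟨e₀, he₀0, he₀E, hspan⟩ :=
    Cfsg.Agent.Lib.Helper47_UXm_CFGK.cfgK h hσ hr D₀ E hD0 hD1 hEne hdim hperp hC1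
  obtain ⟨u₀, hu₀t, hu₀⟩ := (memE e₀).mp he₀E
  have hu₀k : u₀ ∉ kline F K V δ := by
    intro hm
    obtain ⟨k, rfl⟩ := mem_kline.mp hm
    rw [B.map_smul, LinearMap.smul_apply, hδi, smul_zero] at hu₀
    exact he₀0 hu₀.symm
  refine ⟨u₀, ⟨hy, hv₁, hv₁i, hδ, hδi, hδt, hu₀t, hu₀k, ?_⟩, by rw [hu₀]; exact he₀0⟩
  intro u hu
  obtain ⟨a, ha⟩ := hspan (B u δ) ((memE _).mpr ⟨u, hu, rfl⟩)
  have h1 : B (u - a • u₀) δ = 0 := by
    rw [map_sub, LinearMap.sub_apply, ← algebraMap_smul K a u₀, B.map_smul, LinearMap.smul_apply,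
      hu₀, ha, algebraMap_smul, sub_self]
  have h2 := hker _ ((tsp F K V y v₁).sub_mem hu ((tsp F K V y v₁).smul_mem a hu₀t)) h1
  have h3 : u = (u - a • u₀) + a • u₀ := by abel
  rw [h3]
  exact Submodule.add_mem_sup h2 (Submodule.smul_mem _ _ (Submodule.mem_span_singleton_self _))

end Cfsg.Agent.Lib.Helper54_UXm_GEN1
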