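import Mathlib
import Cfsg.Agent.Lib.Helper54_UXmDefs
import Cfsg.Agent.Lib.Helper54_UXm_Basic
import Cfsg.Agent.Lib.Helper59_Ext_S5b
import Cfsg.Agent.Lib.Helper94_HermSim

set_option autoImplicit false
set_option linter.unusedSectionVars false
set_option linter.unusedVariables false

/-!
# UEXTm package GEN2 (helper54): the case `B(t, δ) = 0`
-/

open Module
open Cfsg.Agent.Lib.Helper94_Symp Cfsg.Agent.Lib.Helper94_Herm Cfsg.Agent.Lib.Helper13_PSUSimple
  Cfsg.Agent.Lib.Helper94_HermEich Cfsg.Agent.Lib.Helper98_ExtDefs Cfsg.Agent.Lib.Helper97_UExtDefs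
  Cfsg.Agent.Lib.Helper29_SpExtDefs Cfsg.Agent.Lib.Helper94_FrmDefs Cfsg.Agent.Lib.Helper94_UDDefs
  Cfsg.Agent.Lib.Helper54_UXmDefs

namespace Cfsg.Agent.Lib.Helper54_UXm_GEN2

open Cfsg.Agent.Lib.Helper54_UXm_Basic

variable {F K V : Type*} [Field F] [Field K] [Algebra F K] [AddCommGroup V] [Module F V]
  [Module K V] [IsScalarTower F K V] [Finite F] [Finite K] [Module.Finite K V]
  {σ : F →+* F} {τ : K →+* K}

/-- **GEN2** (M).  Case `B(t, δ) = 0`: `t ⊆ K δ + F u₀` (uses the landed `Helper59_Ext_S5b.S5b` and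
the Eichler elements `eich B δ w c`).  Proof §6. -/
theorem gen2 (h : TauExt σ τ) (hσ : Invol σ) (hr : (finrank F K).Prime)
    {B : V →ₗ[K] V →ₛₗ[τ] K} (hB : IsHerm B) (hN : NondegOn B ⊤)
    {M : Subgroup (V ≃ₗ[F] V)} (hM : HypU h B M) {y : V ≃ₗ[F] V} (hy : y ∈ M) {v₁ δ : V}
    (hv₁ : v₁ ≠ 0) (hv₁i : B v₁ v₁ = 0) (hδ : δ ≠ 0) (hδi : B δ δ = 0)
    (hδt : δ ∈ tsp F K V y v₁) (hne : tsp F K V y v₁ ≠ kline F K V δ)
    (hdich : Dich F K V M y v₁ δ) (hE : ∀ u ∈ tsp F K V y v₁, B u δ = 0) :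
    ∃ u₀ : V, CfgU B M y v₁ δ u₀ ∧ B u₀ δ = 0 := by
  classical
  have hτ : Invol τ := h.toInvol hσ
  have hfin : finrank F (tsp F K V y v₁) = finrank F K := finrank_tsp' y hv₁
  have hd : ∀ χ : V →ₗ[K] K, χ δ = 0 →
      (∀ u ∈ tsp F K V y v₁, χ u • δ ∈ tsp F K V y v₁) ∨
      (∀ u ∈ tsp F K V y v₁, χ u • δ ∈ tsp F K V y v₁ → u ∈ kline F K V δ) := by
    intro χ hχ
    obtain ⟨w, hw⟩ := Cfsg.Agent.Lib.Helper94_HermSim.exists_rep hB hN χ
    have hδw : B δ w = 0 := by rw [hw, hχ]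
    have hwδ : B w δ = 0 := herm_eq_zero hB hδw
    obtain ⟨c, hc⟩ := tr_surj hτ (-(B w w)) (by rw [map_neg, herm_self hB])
    have hxM : (eich B δ w c).restrictScalars F ∈ M := eich_mem h hB hM δ w hc
    have hxapp : ∀ z : V, ((eich B δ w c).restrictScalars F) z =
        z + B z δ • w - B z w • δ + (c * B z δ) • δ := fun z => by
      rw [LinearEquiv.restrictScalars_apply, eich_apply B hδi hwδ hδw]
    have hxt : ∀ u ∈ tsp F K V y v₁, ((eich B δ w c).restrictScalars F) u = u - χ u • δ := by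
      intro u hu
      rw [hxapp, hE u hu, hw, zero_smul, mul_zero, zero_smul, add_zero, add_zero]
    have hxfix : ∀ u ∈ kline F K V δ ⊓ tsp F K V y v₁,
        ((eich B δ w c).restrictScalars F) u = u := by
      rintro u ⟨hu1, -⟩
      obtain ⟨k, rfl⟩ := mem_kline.mp hu1
      rw [hxapp, map_smul, LinearMap.smul_apply, LinearMap.smul_apply, hδi, hδw, smul_zero,
        zero_smul, zero_smul, mul_zero, zero_smul, add_zero, sub_zero, add_zero]
    rcases hdich _ hxM hxfix with h1 | h2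
    · left
      intro u hu
      have h3 := h1 u hu
      rw [hxt u hu] at h3
      have h4 := (tsp F K V y v₁).sub_mem hu h3
      rwa [sub_sub_cancel] at h4
    · right
      intro u hu hχu
      have hxu : ((eich B δ w c).restrictScalars F) u ∈ tsp F K V y v₁ := by
        rw [hxt u hu]
        exact (tsp F K V y v₁).sub_mem hu hχu
      have h3 := h2 u hu hxu
      rw [hxt u hu] at h3
      have h4 : χ u • δ ∈ kline F K V δ := mem_kline.mpr ⟨χ u, rfl⟩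
      have h5 := (kline F K V δ).add_mem h3 h4
      rwa [sub_add_cancel] at h5
  obtain ⟨u₀, hu₀t, hu₀, hle⟩ :=
    Cfsg.Agent.Lib.Helper59_Ext_S5b.S5b hr δ hδ (tsp F K V y v₁) hfin hδt hne hd
  exact ⟨u₀, ⟨hy, hv₁, hv₁i, hδ, hδi, hδt, hu₀t, hu₀, hle⟩, hE u₀ hu₀t⟩

end Cfsg.Agent.Lib.Helper54_UXm_GEN2
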