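import Mathlib
import Cfsg.Agent.Lib.Helper54_UXmDefs
import Cfsg.Agent.Lib.Helper54_UXm_Basic
import Cfsg.Agent.Lib.Helper73_UX_FLD
import Cfsg.Agent.Lib.Helper10_UX_TRS
import Cfsg.Agent.Lib.Helper52_UXm_QCW

/-!
# UEXTm market (architect helper54): package MEET

A totally isotropic (for `Tr ∘ B`) `F`-subspace `t` of dimension `r = [K:F]` contains a nonzero
`B`-isotropic vector.  `meet_aux` takes the statement of QCW (Chevalley–Warning for a space of
hermitian forms, at `P := t`) as a hypothesis.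

Proof: `𝒜 := {s_λ : (u,u') ↦ Tr(λ B(u,u')) on t : τ λ = λ}` is an additive group of hermitian forms
closed under the fixed field of `σ`, the image of `K₀` with the fixed field `F₀` of `σ` in the kernel,
so `|𝒜|² |F| ≤ |K| = |F|^r`; QCW gives `u ≠ 0` in `t` with `Tr(λ B(u,u)) = 0` for all `λ ∈ K₀`, hence
(`K = K₀ + θ K₀`) for all `λ ∈ K`, hence `B(u,u) = 0`.
-/

set_option autoImplicit false
set_option linter.unusedSectionVars false
set_option linter.unusedVariables false

open Module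
open Cfsg.Agent.Lib.Helper94_Symp Cfsg.Agent.Lib.Helper94_Herm Cfsg.Agent.Lib.Helper13_PSUSimple
  Cfsg.Agent.Lib.Helper94_HermEich Cfsg.Agent.Lib.Helper98_ExtDefs Cfsg.Agent.Lib.Helper97_UExtDefs
  Cfsg.Agent.Lib.Helper29_SpExtDefs Cfsg.Agent.Lib.Helper94_FrmDefs Cfsg.Agent.Lib.Helper94_UDDefs
  Cfsg.Agent.Lib.Helper54_UXmDefs

namespace Cfsg.Agent.Lib.Helper85_UXm_MEET

variable {F K V : Type*} [Field F] [Field K] [Algebra F K] [AddCommGroup V] [Module F V]
  [Module K V] [IsScalarTower F K V] [Finite F] [Finite K] [Module.Finite K V]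
  {σ : F →+* F} {τ : K →+* K}

/-- multiplication by `l ∈ K` as an `F`-linear map of `V` -/
noncomputable def kmul (l : K) : V →ₗ[F] V := (LinearMap.lsmul K V l).restrictScalars F

omit [Finite F] [Finite K] [Module.Finite K V] in
@[simp] theorem kmul_apply (l : K) (x : V) : (kmul l : V →ₗ[F] V) x = l • x := rfl

/-- the form `(u, u') ↦ Tr(l B(u,u'))` on `t` -/
noncomputable def sform (h : TauExt σ τ) (B : V →ₗ[K] V →ₛₗ[τ] K) (t : Submodule F V) (l : K) :
    t →ₗ[F] t →ₛₗ[σ] F :=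
  ((trF h B).comp (kmul l)).domRestrict₁₂ t t

omit [Finite F] [Finite K] [Module.Finite K V] in
theorem sform_apply (h : TauExt σ τ) (B : V →ₗ[K] V →ₛₗ[τ] K) (t : Submodule F V) (l : K)
    (x y : t) : sform h B t l x y = Algebra.trace F K (l * B (x : V) (y : V)) := by
  unfold sform
  rw [LinearMap.domRestrict₁₂_apply, LinearMap.comp_apply, kmul_apply,
    Cfsg.Agent.Lib.Helper54_UXm_Basic.trF_smul_left]

/-- `l ↦ s_l` as an additive homomorphism -/
noncomputable def sformHom (h : TauExt σ τ) (B : V →ₗ[K] V →ₛₗ[τ] K) (t : Submodule F V) :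
    K →+ (t →ₗ[F] t →ₛₗ[σ] F) :=
  AddMonoidHom.mk' (sform h B t) (by
    intro l l'
    apply LinearMap.ext₂
    intro x y
    rw [LinearMap.add_apply, LinearMap.add_apply, sform_apply, sform_apply, sform_apply, add_mul,
      map_add])

omit [Finite F] [Finite K] [Module.Finite K V] in
theorem sformHom_apply (h : TauExt σ τ) (B : V →ₗ[K] V →ₛₗ[τ] K) (t : Submodule F V) (l : K)
    (x y : t) : sformHom h B t l x y = Algebra.trace F K (l * B (x : V) (y : V)) :=
  sform_apply h B t l x y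

/-- the fixed elements of `τ` as an additive subgroup -/
def fixK (τ : K →+* K) : AddSubgroup K where
  carrier := {k | τ k = k}
  add_mem' := by
    intro a b ha hb
    change τ a = a at ha; change τ b = b at hb; change τ (a + b) = a + b
    rw [map_add, ha, hb]
  zero_mem' := map_zero τ
  neg_mem' := by
    intro a ha
    change τ a = a at ha; change τ (-a) = -a
    rw [map_neg, ha]

omit [Algebra F K] [Finite K] in
theorem mem_fixK {τ : K →+* K} {k : K} : k ∈ fixK τ ↔ τ k = k := Iff.rfl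

/-- MEET with the statement of QCW (at `P := t`) as a hypothesis -/
theorem meet_aux (h : TauExt σ τ) (hσ : Invol σ) {B : V →ₗ[K] V →ₛₗ[τ] K} (hB : IsHerm B)
    (t : Submodule F V)
    (hqcw : ∀ (A : AddSubgroup (t →ₗ[F] t →ₛₗ[σ] F)),
      (∀ s ∈ A, ∀ x y, s y x = σ (s x y)) →
      (∀ s ∈ A, ∀ c : F, σ c = c → c • s ∈ A) →
      Nat.card A ^ 2 < Nat.card F ^ finrank F t →
      ∃ x : t, x ≠ 0 ∧ ∀ s ∈ A, s x x = 0)
    (hti : ∀ a ∈ t, ∀ b ∈ t, trF h B a b = 0)
    (hfin : finrank F t = finrank F K) : ∃ u ∈ t, u ≠ 0 ∧ B u u = 0 := by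
  classical
  have hτ : Invol τ := h.toInvol hσ
  have hVfin : Finite V := Module.finite_of_finite K
  have htfin : Finite t := inferInstance
  have hformsfin : Finite (t →ₗ[F] t →ₛₗ[σ] F) :=
    Finite.of_injective (fun s : t →ₗ[F] t →ₛₗ[σ] F => fun x y => s x y)
      (fun s s' hss => LinearMap.ext₂ (fun x y => congrFun (congrFun hss x) y))
  set Φ := sformHom h B t with hΦ
  set 𝒜 : AddSubgroup (t →ₗ[F] t →ₛₗ[σ] F) := AddSubgroup.map Φ (fixK τ) with h𝒜
  -- the fixed field of `σ` is in the kernel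
  have hker : ∀ a : F, Φ (algebraMap F K a) = 0 := by
    intro a
    apply LinearMap.ext₂
    intro x y
    rw [hΦ, sformHom_apply, LinearMap.zero_apply, LinearMap.zero_apply, ← Algebra.smul_def, map_smul,
      ← trF_apply h B, hti _ x.2 _ y.2, smul_zero]
  -- hermitian
  have hh : ∀ s ∈ 𝒜, ∀ x y, s y x = σ (s x y) := by
    intro s hs x y
    obtain ⟨l, hl, rfl⟩ := AddSubgroup.mem_map.mp hs
    rw [hΦ, sformHom_apply, sformHom_apply, hB (x : V) (y : V),
      ← Cfsg.Agent.Lib.Helper10_UX_TRS.trace_tau h (l * B (x : V) (y : V)), map_mul τ,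
      mem_fixK.mp hl]
  -- closed under the fixed field
  have hsm : ∀ s ∈ 𝒜, ∀ c : F, σ c = c → c • s ∈ 𝒜 := by
    intro s hs c hc
    obtain ⟨l, hl, rfl⟩ := AddSubgroup.mem_map.mp hs
    refine AddSubgroup.mem_map.mpr ⟨c • l, ?_, ?_⟩
    · rw [mem_fixK, h.map_smul, hc, mem_fixK.mp hl]
    · apply LinearMap.ext₂
      intro x y
      rw [LinearMap.smul_apply, LinearMap.smul_apply, hΦ, sformHom_apply, sformHom_apply,
        smul_mul_assoc, map_smul]
  -- the counting
  have hcount : Nat.card 𝒜 * Nat.card {c : F // σ c = c} ≤ Nat.card {k : K // τ k = k} := by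
    have hch : ∀ s : 𝒜, ∃ l : K, τ l = l ∧ Φ l = s.1 := fun s => by
      obtain ⟨l, hl, hls⟩ := AddSubgroup.mem_map.mp s.2
      exact ⟨l, mem_fixK.mp hl, hls⟩
    choose sec hsec1 hsec2 using hch
    let f : 𝒜 × {c : F // σ c = c} → {k : K // τ k = k} := fun p =>
      ⟨sec p.1 + algebraMap F K p.2.1, by rw [map_add, hsec1, h.ext, p.2.2]⟩
    have hf : Function.Injective f := by
      rintro ⟨s, a⟩ ⟨s', a'⟩ hff
      have h1 : sec s + algebraMap F K a.1 = sec s' + algebraMap F K a'.1 :=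
        congrArg Subtype.val hff
      have h2 := congrArg Φ h1
      rw [map_add, map_add, hker, hker, add_zero, add_zero, hsec2, hsec2] at h2
      have hs : s = s' := Subtype.ext h2
      subst hs
      have h3 : algebraMap F K a.1 = algebraMap F K a'.1 := add_left_cancel h1
      have ha : a = a' := Subtype.ext ((algebraMap F K).injective h3)
      rw [ha]
    have := Nat.card_le_card_of_injective f hf
    rwa [Nat.card_prod] at this
  have hF0 : Nat.card {c : F // σ c = c} ^ 2 = Nat.card F :=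
    Cfsg.Agent.Lib.Helper73_UX_FLD.card_fixF hσ
  have hK0 : Nat.card {k : K // τ k = k} ^ 2 = Nat.card K :=
    Cfsg.Agent.Lib.Helper73_UX_FLD.card_fixF hτ
  have hKF : Nat.card K = Nat.card F ^ finrank F K :=
    Module.natCard_eq_pow_finrank (K := F) (V := K)
  have hq : 1 < Nat.card F := Finite.one_lt_card
  have hA : 0 < Nat.card 𝒜 := Nat.card_pos
  have hcard : Nat.card 𝒜 ^ 2 < Nat.card F ^ finrank F t := by
    rw [hfin, ← hKF, ← hK0]
    have h1 : (Nat.card 𝒜 * Nat.card {c : F // σ c = c}) ^ 2 ≤ Nat.card {k : K // τ k = k} ^ 2 :=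
      Nat.pow_le_pow_left hcount 2
    rw [mul_pow, hF0] at h1
    have h2 : Nat.card 𝒜 ^ 2 < Nat.card 𝒜 ^ 2 * Nat.card F := by
      have : 0 < Nat.card 𝒜 ^ 2 := pow_pos hA 2
      nlinarith
    exact lt_of_lt_of_le h2 h1
  obtain ⟨x, hx0, hx⟩ := hqcw 𝒜 hh hsm hcard
  refine ⟨x.1, x.2, fun e => hx0 (Subtype.ext e), ?_⟩
  -- `Tr(l B(x,x)) = 0` for all fixed `l`, hence for all `l`
  have hfix : ∀ l : K, τ l = l → Algebra.trace F K (l * B (x : V) (x : V)) = 0 := by
    intro l hl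
    have := hx (Φ l) (AddSubgroup.mem_map.mpr ⟨l, mem_fixK.mpr hl, rfl⟩)
    rwa [hΦ, sformHom_apply] at this
  obtain ⟨θ, hθ⟩ := hσ.ne_id
  apply (Cfsg.Agent.Lib.Helper54_UXm_Basic.trF_perp h B (x : V) (x : V)).mp
  intro k
  rw [Cfsg.Agent.Lib.Helper54_UXm_Basic.trF_smul_left]
  obtain ⟨a, b, ha, hb, hk⟩ := Cfsg.Agent.Lib.Helper73_UX_FLD.dec_K0 h hσ hθ k
  rw [hk, add_mul, map_add, smul_mul_assoc, map_smul, hfix a ha, hfix b hb, smul_zero, add_zero]

/-- **MEET** (M).  A totally isotropic (for `Tr ∘ B`) `F`-subspace of dimension `r = [K:F]` contains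
a nonzero `B`-isotropic vector (uses QCW).  Proof §3. -/
theorem meet (h : TauExt σ τ) (hσ : Invol σ) {B : V →ₗ[K] V →ₛₗ[τ] K} (hB : IsHerm B)
    (t : Submodule F V) (hti : ∀ a ∈ t, ∀ b ∈ t, trF h B a b = 0)
    (hfin : finrank F t = finrank F K) : ∃ u ∈ t, u ≠ 0 ∧ B u u = 0 := by
  have hV : Finite V := Module.finite_of_finite K
  have ht : Module.Finite F t := Module.Finite.of_finite
  exact meet_aux h hσ hB t
    (fun A h1 h2 h3 => Cfsg.Agent.Lib.Helper52_UXm_QCW.qcw hσ A h1 h2 h3) hti hfin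

end Cfsg.Agent.Lib.Helper85_UXm_MEET
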