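import Mathlib
import Cfsg.Agent.Lib.Helper54_UXmDefs
import Cfsg.Agent.Lib.Helper54_UXm_Basic
import Cfsg.Agent.Lib.Helper94_Herm
import Cfsg.Agent.Lib.Helper94_UDDefs

set_option autoImplicit false
set_option linter.unusedSectionVars false
set_option linter.unusedVariables false

/-!
# UEXTm market (architect helper54), package FINA (proof helper88)

One unitary `F`-transvection with `B`-isotropic centre `e` in `M` gives the full root group of `e`:
scale `e` by `F^*` inside `SUg B` (`su_scale_mem`), the norm is onto the fixed field.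
-/

open Module
open Cfsg.Agent.Lib.Helper94_Symp Cfsg.Agent.Lib.Helper94_Herm Cfsg.Agent.Lib.Helper13_PSUSimple
  Cfsg.Agent.Lib.Helper94_HermEich Cfsg.Agent.Lib.Helper98_ExtDefs Cfsg.Agent.Lib.Helper97_UExtDefs
  Cfsg.Agent.Lib.Helper29_SpExtDefs Cfsg.Agent.Lib.Helper94_FrmDefs Cfsg.Agent.Lib.Helper94_UDDefs
  Cfsg.Agent.Lib.Helper54_UXmDefs

namespace Cfsg.Agent.Lib.Helper88_UXm_FINA

variable {F K V : Type*} [Field F] [Field K] [Algebra F K] [AddCommGroup V] [Module F V]
  [Module K V] [IsScalarTower F K V] [Finite F] [Finite K] [Module.Finite K V]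
  {σ : F →+* F} {τ : K →+* K}

/-- **FINA** -/
theorem finA (h : TauExt σ τ) (hσ : Invol σ) {B : V →ₗ[K] V →ₛₗ[τ] K} (hB : IsHerm B)
    (hN : NondegOn B ⊤) (hd : 3 ≤ finrank K V) {M : Subgroup (V ≃ₗ[F] V)} (hM : HypU h B M)
    (htv : HasTvU h B M) : ∃ e : V, e ≠ 0 ∧ B e e = 0 ∧ e ∈ UU (trF h B) M := by
  obtain ⟨e, c₁, he0, hei, hc₁0, hc₁, hmem⟩ := htv
  refine ⟨e, he0, hei, ?_, ?_⟩
  · rw [trF_apply, hei, map_zero]
  · intro c hc
    have hfe : trF h B e e = 0 := by rw [trF_apply, hei, map_zero]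
    by_cases hc0 : c = 0
    · have h1 : utv (trF h B) e c = 1 := by
        ext x
        rw [utv_apply (trF h B) hfe, hc0, zero_mul, zero_smul, add_zero]
        rfl
      rw [h1]
      exact M.one_mem
    -- `c = d c₁` with `d` fixed by `σ`, `d = a σ a`
    have hd' : σ (c / c₁) = c / c₁ := by
      rw [map_div₀, hc, hc₁, neg_div_neg_eq]
    obtain ⟨a, ha⟩ := norm_surj hσ (c / c₁) hd'
    have ha0 : a ≠ 0 := by
      intro h0
      rw [h0, zero_mul] at ha
      exact hc0 ((div_eq_zero_iff.mp ha.symm).resolve_right hc₁0)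
    have hμ : algebraMap F K a ≠ 0 := by
      intro h0
      exact ha0 ((algebraMap F K).injective (by rw [h0, map_zero]))
    obtain ⟨g, hgM, hge, _⟩ := Cfsg.Agent.Lib.Helper54_UXm_Basic.su_scale_mem h hσ hB hN hd hM
      he0 hei hμ
    have h2 := conj_utv (B := trF h B) (hM.le hgM) e c₁
    rw [hge, algebraMap_smul, utv_smul, ha] at h2
    have h3 : c / c₁ * c₁ = c := div_mul_cancel₀ c hc₁0
    rw [h3] at h2
    rw [← h2]
    exact M.mul_mem (M.mul_mem hgM hmem) (M.inv_mem hgM)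

end Cfsg.Agent.Lib.Helper88_UXm_FINA
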