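import Mathlib
import Cfsg.Agent.Lib.Helper54_UXmDefs
import Cfsg.Agent.Lib.Helper54_UXm_Basic
import Cfsg.Agent.Lib.Helper94_Herm
import Cfsg.Agent.Lib.Helper94_UDDefs
import Cfsg.Agent.Lib.Helper90_UX_TRM
import Cfsg.Agent.Lib.Helper10_UX_TRS

set_option autoImplicit false
set_option linter.unusedSectionVars false
set_option linter.unusedVariables false

/-!
# UEXTm market (architect helper54), package FINB (proof helper88)

If the root group of one nonzero `B`-isotropic vector lies in `M`, then the root groups of all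
`Tr ∘ B`-isotropic vectors lie in `M`: `SUg B` is transitive on `B`-isotropic vectors, and a
`Tr ∘ B`-isotropic vector `v` with `B v v ≠ 0` is the sum of two `B`-isotropic vectors `x`, `v - x`
with `Tr (B x (v - x)) ≠ 0` (`UU_add`).
-/

open Module
open Cfsg.Agent.Lib.Helper94_Symp Cfsg.Agent.Lib.Helper94_Herm Cfsg.Agent.Lib.Helper13_PSUSimple
  Cfsg.Agent.Lib.Helper94_HermEich Cfsg.Agent.Lib.Helper98_ExtDefs Cfsg.Agent.Lib.Helper97_UExtDefs
  Cfsg.Agent.Lib.Helper29_SpExtDefs Cfsg.Agent.Lib.Helper94_FrmDefs Cfsg.Agent.Lib.Helper94_UDDefs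
  Cfsg.Agent.Lib.Helper54_UXmDefs

namespace Cfsg.Agent.Lib.Helper88_UXm_FINB

variable {F K V : Type*} [Field F] [Field K] [Algebra F K] [AddCommGroup V] [Module F V]
  [Module K V] [IsScalarTower F K V] [Finite F] [Finite K] [Module.Finite K V]
  {σ : F →+* F} {τ : K →+* K}

/-- **FINB** -/
theorem finB (h : TauExt σ τ) (hσ : Invol σ) {B : V →ₗ[K] V →ₛₗ[τ] K} (hB : IsHerm B)
    (hN : NondegOn B ⊤) (hd : 3 ≤ finrank K V) {M : Subgroup (V ≃ₗ[F] V)} (hM : HypU h B M)
    {e : V} (he0 : e ≠ 0) (hei : B e e = 0) (he : e ∈ UU (trF h B) M) :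
    ∀ u : V, trF h B u u = 0 → u ∈ UU (trF h B) M := by
  have hτ : Invol τ := h.toInvol hσ
  have hf : IsHerm (trF h B) := Cfsg.Agent.Lib.Helper54_UXm_Basic.trF_isHerm h hB
  -- (i) `B`-isotropic vectors
  have hiso : ∀ v : V, B v v = 0 → v ∈ UU (trF h B) M := by
    intro v hv
    by_cases hv0 : v = 0
    · rw [hv0]
      exact UU_zero M
    · obtain ⟨g, hgM, hge, _⟩ := Cfsg.Agent.Lib.Helper54_UXm_Basic.su_trans_mem h hσ hB hN hd hM
        he0 hv0 hei hv
      rw [← hge]
      exact UU_map hM.le hgM he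
  intro u hu
  by_cases hν0 : B u u = 0
  · exact hiso u hν0
  -- (ii) `ν = B u u ≠ 0`, `Tr ν = 0`
  have hντ : τ (B u u) = B u u := herm_self hB u
  have hTrν : Algebra.trace F K (B u u) = 0 := by
    rw [← trF_apply h B u u]
    exact hu
  -- `β` with `β + τ β = ν` and `Tr β ≠ 0`
  obtain ⟨β₀, hβ₀⟩ := tr_surj hτ (B u u) hντ
  have hskew0 : σ (Algebra.trace F K β₀) = -(Algebra.trace F K β₀) := by
    rw [← Cfsg.Agent.Lib.Helper10_UX_TRS.trace_tau h β₀]
    have h1 : τ β₀ = B u u - β₀ := by rw [← hβ₀]; ring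
    rw [h1, map_sub, hTrν, zero_sub]
  obtain ⟨ζ, hζ0, hζ⟩ := exists_skew hσ
  obtain ⟨κ, hκ, hTrκ⟩ := Cfsg.Agent.Lib.Helper90_UX_TRM.trace_skew_onto h hσ
    (ζ - Algebra.trace F K β₀) (by rw [map_sub, hζ, hskew0]; ring)
  set β : K := β₀ + κ with hβdef
  have hβ : β + τ β = B u u := by
    rw [hβdef, map_add, hκ, ← hβ₀]
    ring
  have hTrβ : Algebra.trace F K β ≠ 0 := by
    rw [hβdef, map_add, hTrκ]
    intro h0
    apply hζ0
    linear_combination h0
  -- an isotropic `x₀` with `B x₀ u ≠ 0`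
  obtain ⟨x₀, hx₀i, hx₀u⟩ : ∃ x₀ : V, B x₀ x₀ = 0 ∧ B x₀ u ≠ 0 := by
    obtain ⟨e', _, he'i, hee'⟩ := exists_partner hτ hB hN (Submodule.mem_top (x := e)) he0 hei
    by_cases h1 : B e u = 0
    · by_cases h2 : B e' u = 0
      · obtain ⟨c, hc⟩ := tr_surj hτ (-(B u u)) (by rw [map_neg, hντ])
        have he'e : B e' e = 1 := by rw [hB e e', hee', map_one]
        have hue : B u e = 0 := herm_eq_zero hB h1
        have hue' : B u e' = 0 := herm_eq_zero hB h2
        have hww : B (c • e + e') (c • e + e') = c + τ c := by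
          rw [self_add hB, self_smul, hei, he'i, map_smul, LinearMap.smul_apply, hee', smul_eq_mul]
          simp only [mul_zero, add_zero, zero_add, mul_one]
        have huw : B u (c • e + e') = 0 := by
          rw [map_add, map_smulₛₗ, hue, hue', smul_zero, add_zero]
        refine ⟨u + (c • e + e'), ?_, ?_⟩
        · rw [self_add hB, hww, huw, map_zero, add_zero, add_zero]
          linear_combination hc
        · rw [map_add, LinearMap.add_apply, map_add, LinearMap.add_apply, map_smul,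
            LinearMap.smul_apply, h1, h2, smul_zero, add_zero, add_zero]
          exact hν0
      · exact ⟨e', he'i, h2⟩
    · exact ⟨e, hei, h1⟩
  -- `x` isotropic with `B x u = β`
  set x : V := (β / B x₀ u) • x₀ with hxdef
  have hxi : B x x = 0 := by rw [hxdef, self_smul, hx₀i, mul_zero]
  have hxu : B x u = β := by
    rw [hxdef, map_smul, LinearMap.smul_apply, smul_eq_mul, div_mul_cancel₀ β hx₀u]
  have hux : B u x = τ β := by rw [hB x u, hxu]
  have hyi : B (u - x) (u - x) = 0 := by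
    simp only [map_sub, LinearMap.sub_apply, hxi, hxu, hux]
    linear_combination -hβ
  have hne : trF h B x (u - x) ≠ 0 := by
    rw [trF_apply, map_sub, hxi, sub_zero, hxu]
    exact hTrβ
  have hsum : x + (u - x) = u := by abel
  have hw : trF h B (x + (u - x)) (x + (u - x)) = 0 := by rw [hsum]; exact hu
  have := UU_add hσ hf hM.le (hiso x hxi) (hiso (u - x) hyi) hne hw
  rwa [hsum] at this

end Cfsg.Agent.Lib.Helper88_UXm_FINB
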