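import Mathlib
import Cfsg.Agent.Lib.Helper54_UXmDefs
import Cfsg.Agent.Lib.Helper54_UXm_Basic
import Cfsg.Agent.Lib.Helper2_UXm_SKU2
import Cfsg.Agent.Lib.Helper41_UXm_RIGU
import Cfsg.Agent.Lib.Helper54_UXm_GEN2
import Cfsg.Agent.Lib.Helper31_UXm_ENDA
import Cfsg.Agent.Lib.Helper88_UXm_FINA
import Cfsg.Agent.Lib.Helper88_UXm_FINB
import Cfsg.Agent.Lib.Helper85_UXm_MEET
import Cfsg.Agent.Lib.Helper54_UXm_GEN1
import Cfsg.Agent.Lib.Helper12_UXm_CONV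
import Cfsg.Agent.Lib.Helper42_UXm_ENDB

set_option autoImplicit false
set_option linter.unusedSectionVars false
set_option linter.unusedVariables false

/-!
# UEXTm: the abstract main theorem (helper54)
-/

namespace Cfsg.Agent.Lib.Helper54_UXm_Main

open Module
open Cfsg.Agent.Lib.Helper94_Symp Cfsg.Agent.Lib.Helper94_Herm Cfsg.Agent.Lib.Helper13_PSUSimple
  Cfsg.Agent.Lib.Helper94_HermEich Cfsg.Agent.Lib.Helper98_ExtDefs Cfsg.Agent.Lib.Helper97_UExtDefs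
  Cfsg.Agent.Lib.Helper29_SpExtDefs Cfsg.Agent.Lib.Helper94_FrmDefs Cfsg.Agent.Lib.Helper94_UDDefs
  Cfsg.Agent.Lib.Helper54_UXmDefs Cfsg.Agent.Lib.Helper54_UXm_Basic

variable {F K V : Type*} [Field F] [Field K] [Algebra F K] [AddCommGroup V] [Module F V]
  [Module K V] [IsScalarTower F K V] [Finite F] [Finite K] [Module.Finite K V]
  {σ : F →+* F} {τ : K →+* K}

/-- from a configuration with `B(u₀, δ) = 0` to a transvection -/
theorem hasTvU_of_cfg (h : TauExt σ τ) (hσ : Invol σ) {B : V →ₗ[K] V →ₛₗ[τ] K} (hB : IsHerm B)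
    (hN : NondegOn B ⊤) {M : Subgroup (V ≃ₗ[F] V)} (hM : HypU h B M) {y : V ≃ₗ[F] V}
    {v₁ δ u₀ : V} (hc : CfgU B M y v₁ δ u₀) (h0 : B u₀ δ = 0) : HasTvU h B M := by
  obtain ⟨ζ, s, hζ, hs0, hs, hfam⟩ := Cfsg.Agent.Lib.Helper31_UXm_ENDA.endA h hσ hB hN hM hc h0
  have hti := tsp_iso h (hM.le hc.hy) hc.hv₁i
  have hδk : δ ∈ kline F K V δ := mem_kline.mpr ⟨1, one_smul _ _⟩
  obtain ⟨c, hc0, hcs, hmem⟩ :=
    Cfsg.Agent.Lib.Helper42_UXm_ENDB.endB hσ (trF h B) (trF_isHerm h hB) M (tsp F K V y v₁) hti ζ δ hζ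
    hc.hδt s hs0 hs (fun a => hfam (a • δ) ((tsp F K V y v₁).smul_mem a hc.hδt)
      ((kline F K V δ).smul_mem a hδk))
  exact ⟨δ, c, hc.hδ, hc.hδi, hc0, hcs, hmem⟩

/-- **UEXTm, abstract form.**  A group of isometries of `Tr ∘ B` containing `SU(V, B)`
(`dim_K V ≥ 3`, `[K : F]` prime) either consists of `K`-semilinear maps or contains
`SU(V, Tr ∘ B)`. -/
theorem main_abstract (h : TauExt σ τ) (hσ : Invol σ) (hr : (finrank F K).Prime)
    {B : V →ₗ[K] V →ₛₗ[τ] K} (hB : IsHerm B) (hN : NondegOn B ⊤) (hd : 3 ≤ finrank K V)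
    {M : Subgroup (V ≃ₗ[F] V)} (hM : HypU h B M) :
    (∀ g ∈ M, IsSemilin F K V g) ∨ SUg (trF h B) ≤ M := by
  classical
  by_cases hall : ∀ g ∈ M, IsSemilin F K V g
  · exact Or.inl hall
  right
  push Not at hall
  obtain ⟨g₀, hg₀, hns⟩ := hall
  -- an isotropic line not mapped onto a line
  have h1 : ∃ v₀ : V, B v₀ v₀ = 0 ∧
      (kline F K V v₀).map g₀.toLinearMap ≠ kline F K V (g₀ v₀) := by
    by_contra hcon
    push Not at hcon
    exact hns (Cfsg.Agent.Lib.Helper2_UXm_SKU2.sku h hσ hB hN (by omega) g₀ hcon)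
  obtain ⟨v₀, hv₀i, hv₀⟩ := h1
  have hv₀0 : v₀ ≠ 0 := by
    rintro rfl
    apply hv₀
    rw [map_zero, Cfsg.Agent.Lib.Helper59_Ext_S5a.kline_zero, Submodule.map_bot]
  have hgv₀0 : g₀ v₀ ≠ 0 := fun h0 => hv₀0 (g₀.map_eq_zero_iff.1 h0)
  have htsp : tsp F K V g₀ v₀ = (kline F K V v₀).map g₀.toLinearMap := rfl
  -- a nonzero isotropic vector in `t₀`
  obtain ⟨u, hut, hu0, hu⟩ := Cfsg.Agent.Lib.Helper85_UXm_MEET.meet h hσ hB (tsp F K V g₀ v₀)
    (tsp_iso h (hM.le hg₀) hv₀i) (finrank_tsp' g₀ hv₀0)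
  have hne : tsp F K V g₀ v₀ ≠ kline F K V u := by
    intro heq
    apply hv₀
    rw [← htsp, heq]
    have hmem : g₀ v₀ ∈ kline F K V u := by
      rw [← heq]
      exact mem_tsp.mpr ⟨1, by rw [one_smul]⟩
    obtain ⟨k, hk⟩ := mem_kline.mp hmem
    have hk0 : k ≠ 0 := by
      rintro rfl
      rw [zero_smul] at hk
      exact hgv₀0 hk.symm
    ext x
    rw [mem_kline, mem_kline]
    constructor
    · rintro ⟨c, rfl⟩
      exact ⟨c * k⁻¹, by rw [← hk, smul_smul, mul_assoc, inv_mul_cancel₀ hk0, mul_one]⟩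
    · rintro ⟨c, rfl⟩
      exact ⟨c * k, by rw [← hk, smul_smul]⟩
  -- the maximal-intersection configuration
  obtain ⟨y, hy, v₁, δ, hv₁, hv₁i, hδ, hδi, hδt, hneq, hdich⟩ :=
    Cfsg.Agent.Lib.Helper41_UXm_RIGU.rigU B M g₀ hg₀ v₀ hv₀i u hu0 hu hut hne
  -- a transvection
  have htv : HasTvU h B M := by
    by_cases hE : ∃ u ∈ tsp F K V y v₁, B u δ ≠ 0
    · obtain ⟨u₀, hc, hne0⟩ :=
        Cfsg.Agent.Lib.Helper54_UXm_GEN1.gen1 h hσ hr hB hN hM hy hv₁ hv₁i hδ hδi hδt hneq hdich hE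
      obtain ⟨y', δ', u₀', hc', h0⟩ :=
        Cfsg.Agent.Lib.Helper12_UXm_CONV.conv h hσ hr hB hN hd hM hc hne0
      exact hasTvU_of_cfg h hσ hB hN hM hc' h0
    · push Not at hE
      obtain ⟨u₀, hc, h0⟩ :=
        Cfsg.Agent.Lib.Helper54_UXm_GEN2.gen2 h hσ hr hB hN hM hy hv₁ hv₁i hδ hδi hδt hneq hdich hE
      exact hasTvU_of_cfg h hσ hB hN hM hc h0
  -- all transvections
  obtain ⟨e, he0, hei, he⟩ := Cfsg.Agent.Lib.Helper88_UXm_FINA.finA h hσ hB hN hd hM htv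
  have hall := Cfsg.Agent.Lib.Helper88_UXm_FINB.finB h hσ hB hN hd hM he0 hei he
  have : Module.Finite F K := Module.Finite.of_finite
  have : Module.Finite F V := Module.Finite.trans K V
  have h4 : 4 ≤ finrank F V := by
    have h3 := Module.finrank_mul_finrank F K V
    have h2 : 2 ≤ finrank F K := hr.two_le
    nlinarith
  exact SUg_le_of_UU hσ (trF_isHerm h hB) (trF_nondeg h hN) h4 hall

end Cfsg.Agent.Lib.Helper54_UXm_Main
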