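import Mathlib
import Cfsg.Prelude.Def_GeometricClasses
import Cfsg.Prelude.Def_LieClassical
import Cfsg.Agent.Lib.Helper54_UXmDefs
import Cfsg.Agent.Lib.Helper54_UXm_Main
import Cfsg.Agent.Lib.Helper29_UXm_BRIDGE

set_option autoImplicit false
set_option linter.unusedSectionVars false
set_option linter.unusedVariables false

/-!
# UEXTm: `N(K) ∩ SU_n(q)` is maximal in `SU_n(q)` for an adjoint-closed subfield `K` of `M_n(F)` of
prime degree `r` with `n / r ≥ 3` (helper54)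
-/

namespace Cfsg.Agent.Lib.Helper54_UXm_Final

open Module Matrix Cfsg.Geo
open Cfsg.Agent.Lib.Helper94_Symp Cfsg.Agent.Lib.Helper94_Herm Cfsg.Agent.Lib.Helper13_PSUSimple
  Cfsg.Agent.Lib.Helper98_ExtDefs Cfsg.Agent.Lib.Helper97_UExtDefs Cfsg.Agent.Lib.Helper54_UXmDefs

universe u

/-- the normaliser of an adjoint-closed field subalgebra of prime degree `r`, `3 r ≤ n`, is maximal
in `SU_n(q)` -/
theorem uextm_maximal {F : Type u} [Field F] [Fintype F] (q : ℕ) (hF : Fintype.card F = q ^ 2)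
    (n r : ℕ) (hr : r.Prime) (hn : 3 * r ≤ n)
    (K : Subalgebra F (Matrix (Fin n) (Fin n) F)) (hK : Cfsg.Geo.IsFieldSubalgebra r K)
    (hac : Cfsg.Geo.IsAdjointClosedFor (Cfsg.hermForm n F q) K) :
    Cfsg.Geo.IsMaximalIn (Cfsg.GU n F q ⊓ Cfsg.Geo.specialLinear (Fin n) F)
      (Cfsg.Geo.subalgebraNormalizer K ⊓
        (Cfsg.GU n F q ⊓ Cfsg.Geo.specialLinear (Fin n) F)) := by
  apply Cfsg.Agent.Lib.Helper29_UXm_BRIDGE.bridgeM n q r hF hr.two_le hn K hK hac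
  intro σ hσq hσ L _ _ _ V _ _ _ _ _ τ h B hB hN hfr hd M hM
  exact Cfsg.Agent.Lib.Helper54_UXm_Main.main_abstract h hσ (by rw [hfr]; exact hr) hB hN hd hM

/-- clause (9) of su12 S5864 -/
theorem su12_ext3 {F : Type u} [Field F] [Fintype F] (q : ℕ) (hF : Fintype.card F = q ^ 2) :
    ∀ K : Subalgebra F (Matrix (Fin 12) (Fin 12) F), Cfsg.Geo.IsFieldSubalgebra 3 K →
      Cfsg.Geo.IsAdjointClosedFor (Cfsg.hermForm 12 F q) K →
      Cfsg.Geo.IsMaximalIn (Cfsg.GU 12 F q ⊓ Cfsg.Geo.specialLinear (Fin 12) F)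
        (Cfsg.Geo.subalgebraNormalizer K ⊓
          (Cfsg.GU 12 F q ⊓ Cfsg.Geo.specialLinear (Fin 12) F)) :=
  fun K hK hac => uextm_maximal q hF 12 3 Nat.prime_three (by norm_num) K hK hac

/-- clause (5) of su9 S5831 -/
theorem su9_ext3 {F : Type u} [Field F] [Fintype F] (q : ℕ) (hF : Fintype.card F = q ^ 2) :
    ∀ K : Subalgebra F (Matrix (Fin 9) (Fin 9) F), Cfsg.Geo.IsFieldSubalgebra 3 K →
      Cfsg.Geo.IsAdjointClosedFor (Cfsg.hermForm 9 F q) K →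
      Cfsg.Geo.IsMaximalIn (Cfsg.GU 9 F q ⊓ Cfsg.Geo.specialLinear (Fin 9) F)
        (Cfsg.Geo.subalgebraNormalizer K ⊓
          (Cfsg.GU 9 F q ⊓ Cfsg.Geo.specialLinear (Fin 9) F)) :=
  fun K hK hac => uextm_maximal q hF 9 3 Nat.prime_three (by norm_num) K hK hac

end Cfsg.Agent.Lib.Helper54_UXm_Final
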