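import Mathlib
import Cfsg.Agent.Lib.Helper54_UXmDefs
import Cfsg.Agent.Lib.Helper54_UXm_Basic

set_option autoImplicit false
set_option linter.unusedSectionVars false
set_option linter.unusedVariables false

/-!
# UEXTm package SKU2, auxiliary form with SKU1 as a hypothesis (helper54, parallel seat): an `F`-linear automorphism mapping every isotropic
`K`-line onto a `K`-line is `K`-semilinear
-/

open Module
open Cfsg.Agent.Lib.Helper94_Symp Cfsg.Agent.Lib.Helper94_Herm Cfsg.Agent.Lib.Helper13_PSUSimple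
  Cfsg.Agent.Lib.Helper94_HermEich Cfsg.Agent.Lib.Helper98_ExtDefs Cfsg.Agent.Lib.Helper97_UExtDefs
  Cfsg.Agent.Lib.Helper29_SpExtDefs Cfsg.Agent.Lib.Helper94_FrmDefs Cfsg.Agent.Lib.Helper94_UDDefs
  Cfsg.Agent.Lib.Helper54_UXmDefs

namespace Cfsg.Agent.Lib.Helper54_UXm_SKU2aux

variable {F K V : Type*} [Field F] [Field K] [Algebra F K] [AddCommGroup V] [Module F V]
  [Module K V] [IsScalarTower F K V] [Finite F] [Finite K] [Module.Finite K V]
  {σ : F →+* F} {τ : K →+* K}

/-- **SKU2** (M/L).  An `F`-linear automorphism mapping every isotropic `K`-line onto a `K`-line is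
`K`-semilinear (uses SKU1 and `Helper94_Herm.exists_connect`, `exists_partner`, `exists_iso`). -/
theorem sku_aux (h : TauExt σ τ) (hσ : Invol σ) {B : V →ₗ[K] V →ₛₗ[τ] K} (hB : IsHerm B)
    (hN : NondegOn B ⊤) (hd : 2 ≤ finrank K V) (g : V ≃ₗ[F] V)
    (hg : ∀ v : V, B v v = 0 → (kline F K V v).map g.toLinearMap = kline F K V (g v))
    (hpair : ∀ {v w : V}, B v v = 0 → B w w = 0 → B v w ≠ 0 →
      ∃ ρ : K ≃+* K, (∀ k : K, g (k • v) = ρ k • g v) ∧ (∀ k : K, g (k • w) = ρ k • g w)) :
    IsSemilin F K V g := by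
  classical
  have hτ : Invol τ := h.toInvol hσ
  have hgne : ∀ {x : V}, x ≠ 0 → g x ≠ 0 := fun hx h0 => hx (g.map_eq_zero_iff.1 h0)
  -- an isotropic vector and a partner
  obtain ⟨x₀, hx₀⟩ : ∃ x₀ : V, x₀ ≠ 0 := by
    have : Nontrivial V := Module.nontrivial_of_finrank_pos (R := K) (by omega)
    exact exists_ne 0
  obtain ⟨y₀, hy₀⟩ := exists_linearIndependent_pair_of_one_lt_finrank (R := K)
    (by omega : 1 < finrank K V) hx₀
  have hy₀' : y₀ ∉ Submodule.span K {x₀} := by
    intro hmem
    obtain ⟨c, hc⟩ := Submodule.mem_span_singleton.mp hmem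
    have := (LinearIndependent.pair_iff.mp hy₀) c (-1) (by rw [hc, neg_smul, one_smul, add_neg_cancel])
    exact one_ne_zero (neg_eq_zero.mp this.2)
  obtain ⟨a, b, he0, hei⟩ := exists_iso hτ hB hx₀ hy₀'
  set e : V := a • x₀ + b • y₀ with he
  obtain ⟨e', -, he'i, hee'⟩ := exists_partner hτ hB hN (Submodule.mem_top (x := e)) he0 hei
  have hee'0 : B e e' ≠ 0 := by rw [hee']; exact one_ne_zero
  obtain ⟨ρ, hρe, hρe'⟩ := hpair hei he'i hee'0
  have hge : g e ≠ 0 := hgne he0
  -- every isotropic vector has the same automorphism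
  have hiso : ∀ v : V, B v v = 0 → ∀ k : K, g (k • v) = ρ k • g v := by
    -- the non-orthogonal case, relative to a vector with automorphism `ρ`
    have step : ∀ p v : V, p ≠ 0 → B p p = 0 → (∀ k : K, g (k • p) = ρ k • g p) → B v v = 0 →
        B p v ≠ 0 → ∀ k : K, g (k • v) = ρ k • g v := by
      intro p v hp0 hp hρp hv hpv k
      obtain ⟨ρ', hρ'p, hρ'v⟩ := hpair hp hv hpv
      have hk : ρ' k = ρ k := by
        have h1 : ρ' k • g p = ρ k • g p := by rw [← hρ'p, hρp]
        exact smul_left_injective K (hgne hp0) h1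
      rw [hρ'v, hk]
    intro v hv k
    by_cases hv0 : v = 0
    · rw [hv0, smul_zero, map_zero, smul_zero]
    by_cases hev : B e v = 0
    · obtain ⟨b'', -, hb''i, h1, h2⟩ := exists_connect hτ hB hN (Submodule.mem_top (x := e))
        (Submodule.mem_top (x := v)) he0 hv0 hei hev
      have hb''0 : b'' ≠ 0 := by
        rintro rfl
        exact h1 (map_zero _)
      have hρb : ∀ k : K, g (k • b'') = ρ k • g b'' := step e b'' he0 hei hρe hb''i h1
      exact step b'' v hb''0 hb''i hρb hv (herm_ne_zero hτ hB h2) k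
    · exact step e v he0 hei hρe hv hev k
  -- the set of good vectors is a `K`-subspace containing the isotropic vectors
  refine ⟨ρ, fun k x => ?_⟩
  have hx : x ∈ Submodule.span K {z : V | z ∈ (⊤ : Submodule K V) ∧ B z z = 0} :=
    span_iso hτ hB (Submodule.mem_top (x := e)) (Submodule.mem_top (x := e')) hei he'i hee' x
      Submodule.mem_top
  revert k
  induction hx using Submodule.span_induction with
  | mem z hz => exact hiso z hz.2
  | zero => intro k; rw [smul_zero, map_zero, smul_zero]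
  | add x y _ _ hx hy => intro k; rw [smul_add, map_add, map_add, hx k, hy k, smul_add]
  | smul l x _ hx =>
    intro k
    rw [smul_smul, hx (k * l), hx l, smul_smul, map_mul]

end Cfsg.Agent.Lib.Helper54_UXm_SKU2aux
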