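import Mathlib

/-!
# Involutory automorphisms of `A₆` fixing an element of order `3` (helper55)

An automorphism `φ` of `A₆` with `φ² = 1` fixing some element of order `3` maps some point
stabilizer into a point stabilizer.  (The exotic automorphisms interchange the `3`-cycles and the
products of two disjoint `3`-cycles; an involutory one fixing an element of order `3` would have to
preserve its class.)
-/

set_option autoImplicit false

namespace Cfsg.Agent.Lib.Helper55_A6Aut

open Equiv Subgroup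

theorem five_cycle : ∀ g : Perm (Fin 6), (g ^ 5 = 1 ∧ g ≠ 1) →
    ∃ i, g i = i ∧ ∀ j k, (j ≠ i ∧ k ≠ i) → ∃ n : Fin 5, (g ^ (n : ℕ)) j = k := by
  decide +kernel

set_option maxRecDepth 100000 in
theorem card_three_cycles :
    (Finset.univ.filter (fun x : Perm (Fin 6) => x ^ 3 = 1 ∧ x ≠ 1 ∧ ∃ i, x i = i)).card = 40 := by
  decide

set_option maxRecDepth 100000 in
theorem card_three_three :
    (Finset.univ.filter (fun x : Perm (Fin 6) => x ^ 3 = 1 ∧ x ≠ 1 ∧ ∀ i, x i ≠ i)).card = 40 := by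
  decide

set_option maxRecDepth 100000 in
theorem exists_even_map : ∀ i j : Fin 6, ∃ σ : Perm (Fin 6), Perm.sign σ = 1 ∧ σ i = j := by
  decide

instance isPretransitive_alt6 : MulAction.IsPretransitive (alternatingGroup (Fin 6)) (Fin 6) := by
  refine ⟨fun i j => ?_⟩
  obtain ⟨σ, h1, h2⟩ := exists_even_map i j
  exact ⟨⟨σ, Perm.mem_alternatingGroup.mpr h1⟩, h2⟩

theorem card_alt6 : Nat.card (alternatingGroup (Fin 6)) = 360 := by
  rw [nat_card_alternatingGroup]
  simp [Nat.factorial]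

theorem card_stabilizer_alt6 (i : Fin 6) :
    Nat.card (MulAction.stabilizer (alternatingGroup (Fin 6)) i) = 60 := by
  have h1 := MulAction.index_stabilizer_of_transitive (alternatingGroup (Fin 6)) i
  have h2 := (MulAction.stabilizer (alternatingGroup (Fin 6)) i).card_mul_index
  rw [h1, card_alt6, Nat.card_fin] at h2
  omega

theorem mem_alt_of_pow_three {x : Perm (Fin 6)} (h : x ^ 3 = 1) : x ∈ alternatingGroup (Fin 6) := by
  rw [Perm.mem_alternatingGroup]
  have h1 : Perm.sign x ^ 3 = 1 := by rw [← map_pow, h, map_one]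
  rcases Int.units_eq_one_or (Perm.sign x) with h2 | h2
  · exact h2
  · rw [h2] at h1
    exact absurd h1 (by decide)

/-- a subgroup of order `60` of `S₆` fixes a point or has only fixed-point-free elements of
order `3` -/
theorem fixes_or_fpf (P : Subgroup (Perm (Fin 6))) (hP : Nat.card P = 60) :
    (∃ j, ∀ p ∈ P, p j = j) ∨ (∀ x ∈ P, orderOf x = 3 → ∀ j, x j ≠ j) := by
  have : Fact (Nat.Prime 5) := ⟨by norm_num⟩
  obtain ⟨g', hg'⟩ := exists_prime_orderOf_dvd_card' (G := ↥P) 5 (by rw [hP]; norm_num)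
  have hgo : orderOf (g' : Perm (Fin 6)) = 5 := by rw [Subgroup.orderOf_coe]; exact hg'
  obtain ⟨g, hgP, hg⟩ : ∃ g ∈ P, orderOf g = 5 := ⟨g'.1, g'.2, hgo⟩
  have hg5 : g ^ 5 = 1 := by rw [← hg]; exact pow_orderOf_eq_one g
  have hg1 : g ≠ 1 := by
    rintro rfl; rw [orderOf_one] at hg; omega
  obtain ⟨i, hi, htr⟩ := five_cycle g ⟨hg5, hg1⟩
  by_cases hfix : ∀ p ∈ P, p i = i
  · exact Or.inl ⟨i, hfix⟩
  right
  push Not at hfix
  obtain ⟨p₀, hp₀, hp₀i⟩ := hfix
  -- transitivity
  have h1 : ∀ b, ∃ q ∈ P, q i = b := by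
    intro b
    by_cases hb : b = i
    · exact ⟨1, P.one_mem, by rw [hb]; rfl⟩
    · obtain ⟨n, hn⟩ := htr (p₀ i) b ⟨hp₀i, hb⟩
      exact ⟨g ^ (n : ℕ) * p₀, P.mul_mem (P.pow_mem hgP _) hp₀, hn⟩
  have : MulAction.IsPretransitive ↥P (Fin 6) := by
    refine ⟨fun a b => ?_⟩
    obtain ⟨qa, hqa, hqa'⟩ := h1 a
    obtain ⟨qb, hqb, hqb'⟩ := h1 b
    refine ⟨⟨qb * qa⁻¹, P.mul_mem hqb (P.inv_mem hqa)⟩, ?_⟩
    show (qb * qa⁻¹) a = b
    rw [Perm.mul_apply, ← hqa']
    show qb (qa.symm (qa i)) = b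
    rw [Equiv.symm_apply_apply, hqb']
  intro x hx hxo j hxj
  have h2 := MulAction.index_stabilizer_of_transitive ↥P j
  have h3 := (MulAction.stabilizer ↥P j).card_mul_index
  rw [h2, hP, Nat.card_fin] at h3
  have h4 : Nat.card (MulAction.stabilizer ↥P j) = 10 := by omega
  have hmem : (⟨x, hx⟩ : ↥P) ∈ MulAction.stabilizer ↥P j := hxj
  have h5 := orderOf_dvd_natCard (⟨⟨x, hx⟩, hmem⟩ : ↥(MulAction.stabilizer ↥P j))
  rw [← Subgroup.orderOf_coe, ← Subgroup.orderOf_coe, h4] at h5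
  simp only at h5
  rw [hxo] at h5
  omega

/-- the main lemma -/
theorem exists_point_stabilizers
    (φ : ↥(alternatingGroup (Fin 6)) ≃* ↥(alternatingGroup (Fin 6)))
    (hφ : ∀ x, φ (φ x) = x) (h : ↥(alternatingGroup (Fin 6))) (hh : orderOf h = 3)
    (hfix : φ h = h) :
    ∃ i j : Fin 6, ∀ x : ↥(alternatingGroup (Fin 6)), x.1 i = i → (φ x).1 j = j := by
  classical
  by_contra hcon
  push Not at hcon
  have key : ∀ c : ↥(alternatingGroup (Fin 6)), orderOf c = 3 → ∀ i, c.1 i = i →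
      ∀ j, (φ c).1 j ≠ j := by
    intro c hc i hci
    have hP : Nat.card (((MulAction.stabilizer (alternatingGroup (Fin 6)) i).map
        φ.toMonoidHom).map (alternatingGroup (Fin 6)).subtype) = 60 := by
      rw [Subgroup.card_map_of_injective (alternatingGroup (Fin 6)).subtype_injective,
        Subgroup.card_map_of_injective φ.injective, card_stabilizer_alt6]
    rcases fixes_or_fpf _ hP with ⟨j, hj⟩ | h3
    · exfalso
      obtain ⟨x, hx1, hx2⟩ := hcon i j
      apply hx2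
      apply hj
      exact ⟨φ x, ⟨x, hx1, rfl⟩, rfl⟩
    · apply h3 (φ c).1 ⟨φ c, ⟨c, hci, rfl⟩, rfl⟩
      rw [Subgroup.orderOf_coe, MulEquiv.orderOf_eq]
      exact hc
  -- counting
  have hcard : ∀ (p : Perm (Fin 6) → Prop) [DecidablePred p],
      (Finset.univ.filter (fun x : Perm (Fin 6) => x ^ 3 = 1 ∧ x ≠ 1 ∧ p x)).card = 40 →
      Nat.card {x : ↥(alternatingGroup (Fin 6)) // orderOf x = 3 ∧ p x.1} = 40 := by
    intro p _ hp
    rw [← hp, ← Fintype.card_subtype, ← Nat.card_eq_fintype_card]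
    apply Nat.card_congr
    exact
      { toFun := fun x => ⟨x.1.1, by
          obtain ⟨h1, h2⟩ := x.2
          rw [← Subgroup.orderOf_coe] at h1
          have := (orderOf_eq_prime_iff (p := 3)).mp h1
          exact ⟨this.1, this.2, h2⟩⟩
        invFun := fun y => ⟨⟨y.1, mem_alt_of_pow_three y.2.1⟩, by
          refine ⟨?_, y.2.2.2⟩
          rw [← Subgroup.orderOf_coe]
          exact (orderOf_eq_prime_iff (p := 3)).mpr ⟨y.2.1, y.2.2.1⟩⟩
        left_inv := fun x => rfl
        right_inv := fun y => rfl }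
  have hc1 := hcard (fun x => ∃ i, x i = i) card_three_cycles
  have hc2 := hcard (fun x => ∀ i, x i ≠ i) card_three_three
  let F : {x : ↥(alternatingGroup (Fin 6)) // orderOf x = 3 ∧ ∃ i, x.1 i = i} →
      {x : ↥(alternatingGroup (Fin 6)) // orderOf x = 3 ∧ ∀ i, x.1 i ≠ i} :=
    fun x => ⟨φ x.1, by rw [MulEquiv.orderOf_eq]; exact x.2.1, by
      obtain ⟨i, hi⟩ := x.2.2
      exact key x.1 x.2.1 i hi⟩
  have hF : Function.Injective F := by
    intro x y hxy
    apply Subtype.ext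
    apply φ.injective
    exact congrArg Subtype.val hxy
  have hFb : Function.Bijective F := hF.bijective_of_nat_card_le (by rw [hc1, hc2])
  by_cases hfp : ∃ i, h.1 i = i
  · obtain ⟨i, hi⟩ := hfp
    have := key h hh i hi i
    rw [hfix] at this
    exact this hi
  · push Not at hfp
    obtain ⟨c, hc⟩ := hFb.2 ⟨h, hh, hfp⟩
    have h1 : φ c.1 = h := congrArg Subtype.val hc
    have h2 : c.1 = h := by rw [← hφ c.1, h1, hfix]
    obtain ⟨i, hi⟩ := c.2.2
    rw [h2] at hi
    exact hfp i hi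

end Cfsg.Agent.Lib.Helper55_A6Aut
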