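import Mathlib
import Cfsg.Agent.Lib.Helper54_TwoGroups

/-!
# The centralizer of an involution of `A₆` is dihedral of order `8` (helper55)
-/

set_option autoImplicit false

namespace Cfsg.Agent.Lib.Helper55_A6Cent

open Equiv Subgroup

/-- centralizers of elements correspond under an isomorphism -/
def centralizerCongr {A B : Type*} [Group A] [Group B] (f : A ≃* B) (a : A) :
    ↥(centralizer ({a} : Set A)) ≃* ↥(centralizer ({f a} : Set B)) where
  toFun x := ⟨f x, by
    rw [mem_centralizer_singleton_iff, ← map_mul, ← map_mul]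
    exact congrArg f (mem_centralizer_singleton_iff.mp x.2)⟩
  invFun y := ⟨f.symm y, by
    rw [mem_centralizer_singleton_iff]
    apply f.injective
    rw [map_mul, map_mul, MulEquiv.apply_symm_apply]
    exact mem_centralizer_singleton_iff.mp y.2⟩
  left_inv x := by
    apply Subtype.ext
    exact f.symm_apply_apply _
  right_inv y := by
    apply Subtype.ext
    exact f.apply_symm_apply _
  map_mul' x y := by
    apply Subtype.ext
    exact map_mul f _ _

/-- `(0 2 1 3)(4 5)` -/
def c0 : Perm (Fin 6) := ⟨![2, 3, 1, 0, 5, 4], ![3, 2, 0, 1, 5, 4], by decide, by decide⟩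

/-- `(0 1)(2 3)` -/
def tau0 : Perm (Fin 6) := swap 0 1 * swap 2 3

/-- `(0 1)(4 5)` -/
def x0 : Perm (Fin 6) := swap 0 1 * swap 4 5

theorem tau0_mem : tau0 ∈ alternatingGroup (Fin 6) := by
  rw [Equiv.Perm.mem_alternatingGroup]
  decide

theorem c0_mem : c0 ∈ alternatingGroup (Fin 6) := by
  rw [Equiv.Perm.mem_alternatingGroup]
  decide

theorem x0_mem : x0 ∈ alternatingGroup (Fin 6) := by
  rw [Equiv.Perm.mem_alternatingGroup]
  decide

/-- `(0 1)(2 3)` as an element of `A₆` -/
def tauA : ↥(alternatingGroup (Fin 6)) := ⟨tau0, tau0_mem⟩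

theorem c0_comm : c0 * tau0 = tau0 * c0 := by decide

theorem x0_comm : x0 * tau0 = tau0 * x0 := by decide

/-- the element of order `4` of the centralizer -/
def cK : ↥(centralizer ({tauA} : Set ↥(alternatingGroup (Fin 6)))) :=
  ⟨⟨c0, c0_mem⟩, by
    rw [mem_centralizer_singleton_iff]
    apply Subtype.ext
    exact c0_comm⟩

/-- the reflection of the centralizer -/
def xK : ↥(centralizer ({tauA} : Set ↥(alternatingGroup (Fin 6)))) :=
  ⟨⟨x0, x0_mem⟩, by
    rw [mem_centralizer_singleton_iff]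
    apply Subtype.ext
    exact x0_comm⟩

theorem orderOf_c0 : orderOf c0 = 4 := by
  haveI : Fact (Nat.Prime 2) := ⟨Nat.prime_two⟩
  have h := orderOf_eq_prime_pow (x := c0) (n := 1) (p := 2) (by decide) (by decide)
  simpa using h

theorem orderOf_cK : orderOf cK = 4 := by
  have h1 : orderOf ((cK : ↥(alternatingGroup (Fin 6))) : Perm (Fin 6)) = 4 := orderOf_c0
  rwa [Subgroup.orderOf_coe, Subgroup.orderOf_coe] at h1

theorem xK_mul_self : xK * xK = 1 := by
  apply Subtype.ext
  apply Subtype.ext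
  show x0 * x0 = 1
  decide

theorem xK_conj : xK * cK * xK⁻¹ = cK⁻¹ := by
  apply Subtype.ext
  apply Subtype.ext
  show x0 * c0 * x0⁻¹ = c0⁻¹
  decide

theorem xK_not_mem : xK ∉ zpowers cK := by
  intro h
  obtain ⟨k, hk⟩ := h
  have hcomm : xK * cK = cK * xK := by
    rw [← hk]
    exact ((Commute.refl cK).zpow_left k).eq
  have h1 : cK = cK⁻¹ := by
    rw [← xK_conj, hcomm, mul_inv_cancel_right]
  have h2 : (((cK : ↥(alternatingGroup (Fin 6))) : Perm (Fin 6))) =
      (((cK⁻¹ : ↥(centralizer ({tauA} : Set ↥(alternatingGroup (Fin 6))))) :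
        ↥(alternatingGroup (Fin 6))) : Perm (Fin 6)) := by
    rw [← h1]
  have h3 : c0 = c0⁻¹ := h2
  revert h3
  decide

set_option maxRecDepth 100000 in
theorem card_filter : (Finset.univ.filter (fun g : Perm (Fin 6) =>
    Equiv.Perm.sign g = 1 ∧ g * tau0 = tau0 * g)).card = 8 := by
  decide

theorem card_centralizer_tauA :
    Nat.card ↥(centralizer ({tauA} : Set ↥(alternatingGroup (Fin 6)))) = 8 := by
  classical
  have e1 : ↥(centralizer ({tauA} : Set ↥(alternatingGroup (Fin 6)))) ≃
      {g : ↥(alternatingGroup (Fin 6)) // (g : Perm (Fin 6)) * tau0 = tau0 * g} :=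
    Equiv.subtypeEquivRight (fun g => by
      rw [mem_centralizer_singleton_iff, Subtype.ext_iff]
      rfl)
  have e2 : {g : ↥(alternatingGroup (Fin 6)) // (g : Perm (Fin 6)) * tau0 = tau0 * g} ≃
      {g : Perm (Fin 6) // g ∈ alternatingGroup (Fin 6) ∧ g * tau0 = tau0 * g} :=
    Equiv.subtypeSubtypeEquivSubtypeInter (fun g : Perm (Fin 6) => g ∈ alternatingGroup (Fin 6))
      (fun g : Perm (Fin 6) => g * tau0 = tau0 * g)
  have e3 : {g : Perm (Fin 6) // g ∈ alternatingGroup (Fin 6) ∧ g * tau0 = tau0 * g} ≃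
      {g : Perm (Fin 6) // Equiv.Perm.sign g = 1 ∧ g * tau0 = tau0 * g} :=
    Equiv.subtypeEquivRight (fun g => by rw [Equiv.Perm.mem_alternatingGroup])
  rw [Nat.card_congr ((e1.trans e2).trans e3), Nat.card_eq_fintype_card, Fintype.card_subtype]
  exact card_filter

/-- the centralizer of `(0 1)(2 3)` in `A₆` is dihedral of order `8` -/
theorem nonempty_equiv_tauA :
    Nonempty (↥(centralizer ({tauA} : Set ↥(alternatingGroup (Fin 6)))) ≃* DihedralGroup 4) :=
  Cfsg.Agent.Lib.Helper54_TwoGroups.nonempty_mulEquiv_dihedralGroup 4 cK xK orderOf_cK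
    xK_mul_self xK_conj xK_not_mem card_centralizer_tauA

/-- an involution moving four points has cycle type `{2, 2}` -/
theorem cycleType_of_involution (σ : Perm (Fin 6)) (ho : orderOf σ = 2)
    (hs : σ.support.card = 4) : σ.cycleType = {2, 2} := by
  obtain ⟨n, hn⟩ := Equiv.Perm.cycleType_prime_order (σ := σ) (by rw [ho]; exact Nat.prime_two)
  have h1 := Equiv.Perm.sum_cycleType σ
  rw [hn, hs, ho, Multiset.sum_replicate, smul_eq_mul] at h1
  have h2 : n = 1 := by omega
  rw [hn, h2, ho]
  rfl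

theorem orderOf_tau0 : orderOf tau0 = 2 :=
  orderOf_eq_prime (by decide) (by decide)

/-- the centralizer of an involution of `A₆` is dihedral of order `8` -/
theorem nonempty_equiv (αt : ↥(alternatingGroup (Fin 6))) (hαt : orderOf αt = 2)
    (hsupp : (αt : Perm (Fin 6)).support.card = 4) :
    Nonempty (↥(centralizer ({αt} : Set ↥(alternatingGroup (Fin 6)))) ≃* DihedralGroup 4) := by
  have ho : orderOf (αt : Perm (Fin 6)) = 2 := by rw [Subgroup.orderOf_coe]; exact hαt
  have hconj : IsConj (αt : Perm (Fin 6)) tau0 := by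
    rw [Equiv.Perm.isConj_iff_cycleType_eq, cycleType_of_involution _ ho hsupp,
      cycleType_of_involution tau0 orderOf_tau0 (by decide)]
  obtain ⟨σ, hσ⟩ := isConj_iff.mp hconj
  have hf : (MulAut.conjNormal σ : ↥(alternatingGroup (Fin 6)) ≃* ↥(alternatingGroup (Fin 6))) αt
      = tauA := by
    apply Subtype.ext
    rw [MulAut.conjNormal_apply]
    exact hσ
  obtain ⟨e0⟩ := nonempty_equiv_tauA
  have e1 := centralizerCongr (MulAut.conjNormal σ :
    ↥(alternatingGroup (Fin 6)) ≃* ↥(alternatingGroup (Fin 6))) αt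
  rw [hf] at e1
  exact ⟨e1.trans e0⟩

end Cfsg.Agent.Lib.Helper55_A6Cent
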