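import Mathlib
import Cfsg.Agent.Lib.Helper34_Sylow
import Cfsg.Agent.Lib.Helper1_MinNormal

/-!
# Groups whose abelian subgroups of equal order are conjugate: quotients, part A (helper55)

Property `(B)`, transport along isomorphisms, the pull-back criterion for a quotient to have `(B)`,
the coprime (Schur–Zassenhaus) case, and the induction along elementary abelian normal subgroups.
-/

set_option autoImplicit false

namespace Cfsg.Agent.Lib.Helper55_BQuotA

open Subgroup Cfsg.Agent.Lib.Helper34_Sylow
open scoped commutatorElement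

universe u

/-- property `(B)`: abelian subgroups of equal order are conjugate -/
def PropB (G : Type*) [Group G] : Prop :=
  ∀ A B : Subgroup G, IsMulCommutative ↥A → IsMulCommutative ↥B → Nat.card ↥A = Nat.card ↥B →
    ∃ g : G, B = A.map (MulAut.conj g).toMonoidHom

theorem PropB.of_mulEquiv {G H : Type*} [Group G] [Group H] (e : G ≃* H) (h : PropB G) :
    PropB H := by
  intro A B hA hB hc
  have hA' : IsMulCommutative ↥(A.map e.symm.toMonoidHom) := inferInstance
  have hB' : IsMulCommutative ↥(B.map e.symm.toMonoidHom) := inferInstance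
  obtain ⟨g, hg⟩ := h _ _ hA' hB' (by
    rw [Subgroup.card_map_of_injective e.symm.injective,
      Subgroup.card_map_of_injective e.symm.injective, hc])
  refine ⟨e g, ?_⟩
  ext x
  constructor
  · intro hx
    have h1 : e.symm x ∈ B.map e.symm.toMonoidHom := ⟨x, hx, rfl⟩
    rw [hg] at h1
    obtain ⟨y, ⟨a, ha, rfl⟩, hy⟩ := h1
    refine ⟨a, ha, ?_⟩
    apply e.symm.injective
    rw [← hy]
    simp [MulAut.conj_apply]
  · rintro ⟨a, ha, rfl⟩
    have h1 : (MulAut.conj g).toMonoidHom (e.symm a) ∈
        (A.map e.symm.toMonoidHom).map (MulAut.conj g).toMonoidHom := ⟨_, ⟨a, ha, rfl⟩, rfl⟩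
    rw [← hg] at h1
    obtain ⟨b, hb, hbe⟩ := h1
    have : b = (MulAut.conj (e g)).toMonoidHom a := by
      apply e.symm.injective
      have h2 : e.symm b = (MulAut.conj g).toMonoidHom (e.symm a) := hbe
      rw [h2]
      simp [MulAut.conj_apply]
    rw [← this]
    exact hb

/-- The pull-back criterion: `G ⧸ M` has `(B)` as soon as any two subgroups of `G` over `M` of equal
order which are abelian modulo `M` are conjugate. -/
theorem propB_quotient {G : Type*} [Group G] [Finite G] (M : Subgroup G) [M.Normal]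
    (h : ∀ A B : Subgroup G, M ≤ A → M ≤ B → (∀ x ∈ A, ∀ y ∈ A, ⁅x, y⁆ ∈ M) →
      (∀ x ∈ B, ∀ y ∈ B, ⁅x, y⁆ ∈ M) → Nat.card A = Nat.card B →
      ∃ g : G, B = A.map (MulAut.conj g).toMonoidHom) : PropB (G ⧸ M) := by
  intro A B hA hB hc
  have hsurj : Function.Surjective (QuotientGroup.mk' M) := QuotientGroup.mk'_surjective M
  have hle : ∀ X : Subgroup (G ⧸ M), M ≤ X.comap (QuotientGroup.mk' M) := by
    intro X m hm
    rw [Subgroup.mem_comap]
    have : (QuotientGroup.mk' M) m = 1 := (QuotientGroup.eq_one_iff m).mpr hm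
    rw [this]; exact X.one_mem
  have hcomm : ∀ X : Subgroup (G ⧸ M), IsMulCommutative ↥X →
      ∀ x ∈ X.comap (QuotientGroup.mk' M), ∀ y ∈ X.comap (QuotientGroup.mk' M), ⁅x, y⁆ ∈ M := by
    intro X hX x hx y hy
    rw [← QuotientGroup.eq_one_iff]
    have h1 : (QuotientGroup.mk' M x) * (QuotientGroup.mk' M y) =
        (QuotientGroup.mk' M y) * (QuotientGroup.mk' M x) :=
      setLike_mul_comm (s := X) (Subgroup.mem_comap.mp hx) (Subgroup.mem_comap.mp hy)
    change ((⁅x, y⁆ : G) : G ⧸ M) = 1
    rw [commutatorElement_def]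
    change (QuotientGroup.mk' M x) * (QuotientGroup.mk' M y) * (QuotientGroup.mk' M x)⁻¹ *
      (QuotientGroup.mk' M y)⁻¹ = 1
    rw [h1]; group
  have hcard : ∀ X : Subgroup (G ⧸ M),
      Nat.card (X.comap (QuotientGroup.mk' M)) * X.index = Nat.card G := by
    intro X
    rw [← Subgroup.index_comap_of_surjective X hsurj]
    exact Subgroup.card_mul_index _
  have hidx : A.index = B.index := by
    have h1 := Subgroup.card_mul_index A
    have h2 := Subgroup.card_mul_index B
    rw [hc] at h1
    have hpos : 0 < Nat.card B := Nat.card_pos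
    exact Nat.eq_of_mul_eq_mul_left hpos (h1.trans h2.symm)
  obtain ⟨g, hg⟩ := h _ _ (hle A) (hle B) (hcomm A hA) (hcomm B hB) (by
    have h1 := hcard A
    have h2 := hcard B
    rw [hidx] at h1
    have hpos : 0 < B.index := Nat.pos_of_ne_zero (Subgroup.index_ne_zero_of_finite)
    exact Nat.eq_of_mul_eq_mul_right hpos (h1.trans h2.symm))
  refine ⟨QuotientGroup.mk' M g, ?_⟩
  have hBm : B = (B.comap (QuotientGroup.mk' M)).map (QuotientGroup.mk' M) :=
    (Subgroup.map_comap_eq_self_of_surjective hsurj B).symm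
  have hAm : A = (A.comap (QuotientGroup.mk' M)).map (QuotientGroup.mk' M) :=
    (Subgroup.map_comap_eq_self_of_surjective hsurj A).symm
  rw [hBm, hg, Subgroup.map_map]
  conv_rhs => rw [hAm, Subgroup.map_map]
  congr 1

/-- Conjugation fixes a normal subgroup. -/
theorem cj_normal {G : Type*} [Group G] (M : Subgroup G) [hM : M.Normal] (g : G) : cj g M = M := by
  ext x
  rw [mem_cj]
  constructor
  · intro h
    have := hM.conj_mem _ h g
    have e : g * (g⁻¹ * x * g) * g⁻¹ = x := by group
    rwa [e] at this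
  · intro h
    have := hM.conj_mem _ h g⁻¹
    rwa [inv_inv] at this

theorem cj_sup {G : Type*} [Group G] (g : G) (U V : Subgroup G) :
    cj g (U ⊔ V) = cj g U ⊔ cj g V := Subgroup.map_sup U V _

/-- A complement of `M` in `A` when `|M|` is coprime to `|A : M|` and `A / M` is abelian. -/
theorem exists_compl {G : Type*} [Group G] [Finite G] (M A : Subgroup G) [M.Normal] (hMA : M ≤ A)
    (hA : ∀ x ∈ A, ∀ y ∈ A, ⁅x, y⁆ ∈ M)
    (hcop : (Nat.card M).Coprime (Nat.card A / Nat.card M)) :
    ∃ K : Subgroup G, K ≤ A ∧ IsMulCommutative ↥K ∧ Nat.card M * Nat.card K = Nat.card A ∧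
      M ⊔ K = A := by
  have hNc : Nat.card (M.subgroupOf A) = Nat.card M :=
    Nat.card_congr (Subgroup.subgroupOfEquivOfLe hMA).toEquiv
  have hidx : (M.subgroupOf A).index = Nat.card A / Nat.card M := by
    have h1 := Subgroup.card_mul_index (M.subgroupOf A)
    rw [hNc] at h1
    rw [← h1, Nat.mul_div_cancel_left _ Nat.card_pos]
  have hcop' : (Nat.card (M.subgroupOf A)).Coprime (M.subgroupOf A).index := by
    rw [hNc, hidx]; exact hcop
  obtain ⟨K₀, hK₀⟩ := Subgroup.exists_right_complement'_of_coprime hcop'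
  refine ⟨K₀.map A.subtype, Subgroup.map_subtype_le K₀, ?_, ?_, ?_⟩
  · have hdisj : M.subgroupOf A ⊓ K₀ = ⊥ := disjoint_iff.mp hK₀.disjoint
    have : IsMulCommutative ↥K₀ := by
      apply IsMulCommutative.of_setLike_mul_comm
      intro a ha b hb
      have h1 : ⁅a, b⁆ ∈ M.subgroupOf A ⊓ K₀ := by
        rw [Subgroup.mem_inf]
        refine ⟨?_, ?_⟩
        · rw [Subgroup.mem_subgroupOf]
          exact hA a.1 a.2 b.1 b.2
        · rw [commutatorElement_def]
          exact K₀.mul_mem (K₀.mul_mem (K₀.mul_mem ha hb) (K₀.inv_mem ha)) (K₀.inv_mem hb)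
      rw [hdisj, Subgroup.mem_bot] at h1
      exact commutatorElement_eq_one_iff_mul_comm.mp h1
    infer_instance
  · rw [Subgroup.card_map_of_injective A.subtype_injective, ← hNc]
    exact hK₀.card_mul_card
  · have h1 : M.subgroupOf A ⊔ K₀ = ⊤ := hK₀.sup_eq_top
    have h2 := congrArg (Subgroup.map A.subtype) h1
    rw [Subgroup.map_sup, Subgroup.map_subgroupOf_eq_of_le hMA, ← MonoidHom.range_eq_map,
      Subgroup.range_subtype] at h2
    exact h2

/-- The coprime case: if `|M|` is coprime to `|A : M|`, two subgroups over `M` of equal order which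
are abelian modulo `M` are conjugate. -/
theorem conj_of_coprime {G : Type*} [Group G] [Finite G] (hB : PropB G) (M A B : Subgroup G)
    [M.Normal] (hMA : M ≤ A) (hMB : M ≤ B)
    (hA : ∀ x ∈ A, ∀ y ∈ A, ⁅x, y⁆ ∈ M) (hB' : ∀ x ∈ B, ∀ y ∈ B, ⁅x, y⁆ ∈ M)
    (hcard : Nat.card A = Nat.card B) (hcop : (Nat.card M).Coprime (Nat.card A / Nat.card M)) :
    ∃ g : G, B = A.map (MulAut.conj g).toMonoidHom := by
  obtain ⟨K, -, hKc, hKcard, hKsup⟩ := exists_compl M A hMA hA hcop
  obtain ⟨L, -, hLc, hLcard, hLsup⟩ := exists_compl M B hMB hB' (by rw [← hcard]; exact hcop)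
  have hKL : Nat.card K = Nat.card L := by
    have hpos : 0 < Nat.card M := Nat.card_pos
    apply Nat.eq_of_mul_eq_mul_left hpos
    rw [hKcard, hLcard, hcard]
  obtain ⟨g, hg⟩ := hB K L hKc hLc hKL
  refine ⟨g, ?_⟩
  change B = cj g A
  rw [← hKsup, cj_sup, cj_normal, ← hLsup, hg]

theorem card_map_mk_mul {G : Type*} [Group G] [Finite G] (N M : Subgroup G) [N.Normal]
    (hNM : N ≤ M) : Nat.card (M.map (QuotientGroup.mk' N)) * Nat.card N = Nat.card M := by
  have h1 : (M.map (QuotientGroup.mk' N)).index = M.index := by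
    rw [Subgroup.index_map, QuotientGroup.ker_mk', sup_eq_left.mpr hNM,
      MonoidHom.range_eq_top.mpr (QuotientGroup.mk'_surjective N), Subgroup.index_top, mul_one]
  have h2 := Subgroup.card_mul_index (M.map (QuotientGroup.mk' N))
  have h3 := Subgroup.card_eq_card_quotient_mul_card_subgroup N
  have h4 := Subgroup.card_mul_index M
  rw [h1] at h2
  have hpos : 0 < M.index := Nat.pos_of_ne_zero Subgroup.index_ne_zero_of_finite
  apply Nat.eq_of_mul_eq_mul_right hpos
  calc Nat.card (M.map (QuotientGroup.mk' N)) * Nat.card N * M.index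
      = (Nat.card (M.map (QuotientGroup.mk' N)) * M.index) * Nat.card N := by ring
    _ = Nat.card (G ⧸ N) * Nat.card N := by rw [h2]
    _ = Nat.card G := h3.symm
    _ = Nat.card M * M.index := h4.symm

/-- Induction along elementary abelian normal subgroups: if quotients by elementary abelian normal
`p`-subgroups (`p` in a set `π` of primes) inherit `(B)` for solvable groups, so do quotients by normal
`π`-subgroups. -/
theorem quot_induction {π : ℕ → Prop}
    (step : ∀ (G : Type u) [Group G] [Finite G], PropB G → Group.IsSolvable G →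
      ∀ (N : Subgroup G) [N.Normal] (p : ℕ), p.Prime → π p → IsMulCommutative ↥N →
        (∀ x ∈ N, x ^ p = 1) → N ≠ ⊥ → PropB (G ⧸ N)) :
    ∀ (n : ℕ) (G : Type u) [Group G] [Finite G], PropB G → Group.IsSolvable G →
      ∀ (M : Subgroup G) [M.Normal], (∀ p : ℕ, p.Prime → p ∣ Nat.card M → π p) →
        Nat.card M = n → PropB (G ⧸ M) := by
  intro n
  induction n using Nat.strong_induction_on with
  | _ n ih =>
    intro G _ _ hB hsol M _ hπ hn
    by_cases hM : M = ⊥
    · subst hM
      exact PropB.of_mulEquiv (QuotientGroup.quotientBot (G := G)).symm hB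
    · have hMsol : Group.IsSolvable ↥M := inferInstance
      obtain ⟨N, hNn, hNM, hN, hNc, p, hp, hexp⟩ :=
        Helper1_MinNormal.exists_elementary_abelian_normal_le M hMsol hM
      have hpN : p ∣ Nat.card N := by
        obtain ⟨x, hx1⟩ := (Subgroup.ne_bot_iff_exists_ne_one).mp hN
        have hxp : (x : G) ^ p = 1 := hexp x x.2
        have ho : orderOf (x : G) = p := by
          rcases (Nat.dvd_prime hp).mp (orderOf_dvd_of_pow_eq_one hxp) with h | h
          · exfalso
            apply hx1
            apply Subtype.ext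
            rw [Subgroup.coe_one]
            exact orderOf_eq_one_iff.mp h
          · exact h
        rw [← ho, Subgroup.orderOf_coe]
        exact orderOf_dvd_natCard x
      have hNMc : Nat.card N ∣ Nat.card M := Subgroup.card_dvd_of_le hNM
      have hstep : PropB (G ⧸ N) := step G hB hsol N p hp (hπ p hp (hpN.trans hNMc)) hNc hexp hN
      have hsolq : Group.IsSolvable (G ⧸ N) := inferInstance
      have hMn : (M.map (QuotientGroup.mk' N)).Normal :=
        Subgroup.Normal.map inferInstance _ (QuotientGroup.mk'_surjective N)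
      have hcm := card_map_mk_mul N M hNM
      have hN2 : 2 ≤ Nat.card N := by
        have := Nat.le_of_dvd Nat.card_pos hpN
        have := hp.two_le
        omega
      have hlt : Nat.card (M.map (QuotientGroup.mk' N)) < n := by
        rw [← hn, ← hcm]
        have hpos : 0 < Nat.card (M.map (QuotientGroup.mk' N)) := Nat.card_pos
        nlinarith
      have hdvd : Nat.card (M.map (QuotientGroup.mk' N)) ∣ Nat.card M := ⟨_, hcm.symm⟩
      have hih := ih _ hlt (G ⧸ N) hstep hsolq (M.map (QuotientGroup.mk' N))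
        (fun q hq hqd => hπ q hq (hqd.trans hdvd)) rfl
      exact PropB.of_mulEquiv (QuotientGroup.quotientQuotientEquivQuotient N M hNM) hih

end Cfsg.Agent.Lib.Helper55_BQuotA
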