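import Mathlib
import Cfsg.Agent.Lib.Helper34_Sylow
import Cfsg.Agent.Lib.Helper55_BQuotA

/-!
# Groups whose abelian subgroups of equal order are conjugate: quotients, part B (helper55)

Subgroups `A ≥ M` with `A / M` abelian, `M` normal of prime order `p`: the decomposition
`A = A_p K`, when `K` centralizes `A_p`, and conjugacy of two such subgroups whose `p`-parts are
Sylow subgroups of the whole group.
-/

set_option autoImplicit false

namespace Cfsg.Agent.Lib.Helper55_BQuotB

open Subgroup Cfsg.Agent.Lib.Helper34_Sylow Cfsg.Agent.Lib.Helper55_BQuotA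
open scoped commutatorElement

theorem conj_pow_eq {G : Type*} [Group G] (k x : G) (hcomm : Commute k ⁅k, x⁆) (j : ℕ) :
    k ^ j * x * (k ^ j)⁻¹ = ⁅k, x⁆ ^ j * x := by
  induction j with
  | zero => simp
  | succ j ih =>
    have h1 : k * x * k⁻¹ = ⁅k, x⁆ * x := by rw [commutatorElement_def]; group
    have h2 : k * ⁅k, x⁆ ^ j * k⁻¹ = ⁅k, x⁆ ^ j := by
      rw [(hcomm.pow_right j).eq]; group
    calc k ^ (j + 1) * x * (k ^ (j + 1))⁻¹ = k * (k ^ j * x * (k ^ j)⁻¹) * k⁻¹ := by
          rw [pow_succ']; group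
      _ = k * (⁅k, x⁆ ^ j * x) * k⁻¹ := by rw [ih]
      _ = (k * ⁅k, x⁆ ^ j * k⁻¹) * (k * x * k⁻¹) := by group
      _ = ⁅k, x⁆ ^ j * (⁅k, x⁆ * x) := by rw [h1, h2]
      _ = ⁅k, x⁆ ^ (j + 1) * x := by rw [pow_succ]; group

/-- If `k` commutes with `⁅k, x⁆`, which has order dividing `p`, and `k` has order prime to `p`,
then `k` and `x` commute. -/
theorem commute_of_commutator {G : Type*} [Group G] (k x : G) (r p : ℕ) (hk : k ^ r = 1)
    (hc : ⁅k, x⁆ ^ p = 1) (hcop : r.Coprime p) (hcomm : Commute k ⁅k, x⁆) : k * x = x * k := by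
  have h1 := conj_pow_eq k x hcomm r
  rw [hk, inv_one, one_mul, mul_one] at h1
  have h2 : ⁅k, x⁆ ^ r = 1 := by
    have : ⁅k, x⁆ ^ r * x = 1 * x := by rw [← h1, one_mul]
    exact mul_right_cancel this
  have h3 : orderOf ⁅k, x⁆ ∣ Nat.gcd r p :=
    Nat.dvd_gcd (orderOf_dvd_of_pow_eq_one h2) (orderOf_dvd_of_pow_eq_one hc)
  rw [hcop] at h3
  have h4 : ⁅k, x⁆ = 1 := orderOf_eq_one_iff.mp (Nat.dvd_one.mp h3)
  exact commutatorElement_eq_one_iff_mul_comm.mp h4

/-- The decomposition `A = A_p K`. -/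
theorem decomp {G : Type*} [Group G] [Finite G] {p : ℕ} [hp : Fact p.Prime] (M A : Subgroup G)
    [M.Normal] (hMp : IsPGroup p M) (hMA : M ≤ A) (hA : ∀ x ∈ A, ∀ y ∈ A, ⁅x, y⁆ ∈ M) :
    ∃ Ap K : Subgroup G, M ≤ Ap ∧ Ap ≤ A ∧ K ≤ A ∧ Ap ⊔ K = A ∧
      Nat.card Ap = p ^ (Nat.card A).factorization p ∧ Nat.card Ap * Nat.card K = Nat.card A ∧
      (Nat.card K).Coprime p ∧ IsMulCommutative ↥K := by
  have hMp' : IsPGroup p (M.subgroupOf A) := hMp.comap_subtype
  obtain ⟨S, hS⟩ := hMp'.exists_le_sylow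
  have hSn : (S : Subgroup ↥A).Normal := by
    constructor
    intro n hn g
    have h1 : g * n * g⁻¹ = ⁅g, n⁆ * n := by rw [commutatorElement_def]; group
    rw [h1]
    apply (S : Subgroup ↥A).mul_mem _ hn
    apply hS
    rw [Subgroup.mem_subgroupOf]
    exact hA g.1 g.2 n.1 n.2
  have hcop : (Nat.card (S : Subgroup ↥A)).Coprime (S : Subgroup ↥A).index :=
    Sylow.card_coprime_index S
  obtain ⟨K₀, hK₀⟩ := Subgroup.exists_right_complement'_of_coprime hcop
  have hScard : Nat.card (S : Subgroup ↥A) = p ^ (Nat.card A).factorization p :=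
    Sylow.card_eq_multiplicity S
  have hmul : Nat.card (S : Subgroup ↥A) * Nat.card K₀ = Nat.card A := hK₀.card_mul_card
  have hdisj : (S : Subgroup ↥A) ⊓ K₀ = ⊥ := disjoint_iff.mp hK₀.disjoint
  refine ⟨(S : Subgroup ↥A).map A.subtype, K₀.map A.subtype, ?_, Subgroup.map_subtype_le _,
    Subgroup.map_subtype_le _, ?_, ?_, ?_, ?_, ?_⟩
  · intro m hm
    exact ⟨⟨m, hMA hm⟩, hS (Subgroup.mem_subgroupOf.mpr hm), rfl⟩
  · have h1 : (S : Subgroup ↥A) ⊔ K₀ = ⊤ := hK₀.sup_eq_top
    have h2 := congrArg (Subgroup.map A.subtype) h1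
    rw [Subgroup.map_sup, ← MonoidHom.range_eq_map, Subgroup.range_subtype] at h2
    exact h2
  · rw [Subgroup.card_map_of_injective A.subtype_injective, hScard]
  · rw [Subgroup.card_map_of_injective A.subtype_injective,
      Subgroup.card_map_of_injective A.subtype_injective, hmul]
  · rw [Subgroup.card_map_of_injective A.subtype_injective]
    apply Nat.Coprime.symm
    rw [Nat.Prime.coprime_iff_not_dvd hp.out]
    intro hdvd
    have hApos : Nat.card A ≠ 0 := Nat.card_pos.ne'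
    have h3 : p ^ ((Nat.card A).factorization p + 1) ∣ Nat.card A := by
      conv_rhs => rw [← hmul, hScard]
      rw [pow_succ]
      exact Nat.mul_dvd_mul_left _ hdvd
    exact Nat.pow_succ_factorization_not_dvd hApos hp.out h3
  · have : IsMulCommutative ↥K₀ := by
      apply IsMulCommutative.of_setLike_mul_comm
      intro a ha b hb
      have h1 : ⁅a, b⁆ ∈ (S : Subgroup ↥A) ⊓ K₀ := by
        rw [Subgroup.mem_inf]
        refine ⟨?_, ?_⟩
        · apply hS
          rw [Subgroup.mem_subgroupOf]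
          exact hA a.1 a.2 b.1 b.2
        · rw [commutatorElement_def]
          exact K₀.mul_mem (K₀.mul_mem (K₀.mul_mem ha hb) (K₀.inv_mem ha)) (K₀.inv_mem hb)
      rw [hdisj, Subgroup.mem_bot] at h1
      exact commutatorElement_eq_one_iff_mul_comm.mp h1
    infer_instance

/-- `K` centralizes `A_p` as soon as it centralizes `M`. -/
theorem centralizes {G : Type*} [Group G] [Finite G] {p : ℕ} (M A Ap K : Subgroup G)
    (hA : ∀ x ∈ A, ∀ y ∈ A, ⁅x, y⁆ ∈ M) (hMexp : ∀ m ∈ M, m ^ p = 1) (hApA : Ap ≤ A) (hKA : K ≤ A)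
    (hcop : (Nat.card K).Coprime p) (hc : ∀ k ∈ K, ∀ m ∈ M, k * m = m * k) :
    ∀ k ∈ K, ∀ x ∈ Ap, k * x = x * k := by
  intro k hk x hx
  have hcm : ⁅k, x⁆ ∈ M := hA k (hKA hk) x (hApA hx)
  apply commute_of_commutator k x (orderOf k) p (pow_orderOf_eq_one k) (hMexp _ hcm)
  · apply Nat.Coprime.coprime_dvd_left _ hcop
    have h1 : orderOf (⟨k, hk⟩ : K) ∣ Nat.card K := orderOf_dvd_natCard _
    rwa [← Subgroup.orderOf_coe] at h1
  · exact hc k hk _ hcm

/-- `A = A_p K` is abelian if `A_p` and `K` are and commute. -/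
theorem comm_of_decomp {G : Type*} [Group G] (A Ap K : Subgroup G) (hsup : Ap ⊔ K = A)
    (hAp : IsMulCommutative ↥Ap) (hK : IsMulCommutative ↥K)
    (hc : ∀ k ∈ K, ∀ x ∈ Ap, k * x = x * k) : IsMulCommutative ↥A := by
  have key : Ap ⊔ K ≤ centralizer ((Ap ⊔ K : Subgroup G) : Set G) := by
    apply sup_le
    · intro x hx
      rw [mem_centralizer_iff]
      have h1 : Ap ⊔ K ≤ centralizer ({x} : Set G) := by
        apply sup_le
        · intro y hy
          rw [mem_centralizer_iff]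
          intro z hz
          rw [Set.mem_singleton_iff] at hz
          subst hz
          exact setLike_mul_comm (s := Ap) hx hy
        · intro y hy
          rw [mem_centralizer_iff]
          intro z hz
          rw [Set.mem_singleton_iff] at hz
          subst hz
          exact (hc y hy z hx).symm
      intro y hy
      have := h1 hy
      rw [mem_centralizer_iff] at this
      exact (this x (Set.mem_singleton x)).symm
    · intro x hx
      rw [mem_centralizer_iff]
      have h1 : Ap ⊔ K ≤ centralizer ({x} : Set G) := by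
        apply sup_le
        · intro y hy
          rw [mem_centralizer_iff]
          intro z hz
          rw [Set.mem_singleton_iff] at hz
          subst hz
          exact hc z hx y hy
        · intro y hy
          rw [mem_centralizer_iff]
          intro z hz
          rw [Set.mem_singleton_iff] at hz
          subst hz
          exact setLike_mul_comm (s := K) hx hy
      intro y hy
      have := h1 hy
      rw [mem_centralizer_iff] at this
      exact (this x (Set.mem_singleton x)).symm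
  rw [hsup] at key
  apply IsMulCommutative.of_setLike_mul_comm
  intro a ha b hb
  have := key ha
  rw [mem_centralizer_iff] at this
  exact (this b hb).symm

/-- In a cyclic `p`-group `⟨a⟩` of order at least `p ^ 2`, an element `k` with `⁅k, a⁆` of order
dividing `p` and commuting with `a` centralizes the elements of order dividing `p`. -/
theorem commute_of_cyclic {G : Type*} [Group G] {p : ℕ} (hp : p.Prime) (a k m : G) (e : ℕ)
    (ha : orderOf a = p ^ (e + 2)) (hm : m ∈ zpowers a) (hmp : m ^ p = 1)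
    (hc : ⁅k, a⁆ ^ p = 1) (hca : Commute ⁅k, a⁆ a) : k * m = m * k := by
  have h1 : k * a * k⁻¹ = ⁅k, a⁆ * a := by rw [commutatorElement_def]; group
  have h2 : k * a ^ p * k⁻¹ = a ^ p := by
    rw [← conj_pow, h1, hca.mul_pow, hc, one_mul]
  have h3 : Commute k (a ^ p) := by
    unfold Commute SemiconjBy
    calc k * a ^ p = k * a ^ p * k⁻¹ * k := by group
      _ = a ^ p * k := by rw [h2]
  obtain ⟨j, rfl⟩ := Subgroup.mem_zpowers_iff.mp hm
  have h4 : a ^ (j * (p : ℤ)) = 1 := by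
    rw [zpow_mul, zpow_natCast]; exact hmp
  have h5 : ((p ^ (e + 2) : ℕ) : ℤ) ∣ j * (p : ℤ) := by
    rw [← ha]; exact orderOf_dvd_iff_zpow_eq_one.mpr h4
  have hp0 : (p : ℤ) ≠ 0 := by exact_mod_cast hp.ne_zero
  have h6 : (p : ℤ) ∣ j := by
    obtain ⟨t, ht⟩ := h5
    have h7 : j * (p : ℤ) = ((p : ℤ) * (p : ℤ) ^ e * t) * (p : ℤ) := by
      rw [ht]; push_cast; ring
    have h8 : j = (p : ℤ) * (p : ℤ) ^ e * t := mul_right_cancel₀ hp0 h7
    exact ⟨(p : ℤ) ^ e * t, by rw [h8]; ring⟩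
  obtain ⟨j', rfl⟩ := h6
  have h9 : a ^ ((p : ℤ) * j') = (a ^ p) ^ j' := by
    rw [zpow_mul, zpow_natCast]
  rw [h9]
  exact (h3.zpow_right j').eq

/-- If all Sylow `p`-subgroups of `G` are cyclic, `M` is normal of order `p`, `A ≥ M` is abelian
modulo `M` and `p ^ 2` divides `|A|`, then `A` is abelian. -/
theorem abelian_of_cyclic {G : Type*} [Group G] [Finite G] {p : ℕ} [hp : Fact p.Prime]
    (hcyc : ∀ P : Sylow p G, IsCyclic ↥(P : Subgroup G)) (M A : Subgroup G) [M.Normal]
    (hMcard : Nat.card M = p) (hMA : M ≤ A) (hA : ∀ x ∈ A, ∀ y ∈ A, ⁅x, y⁆ ∈ M)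
    (hp2 : p ^ 2 ∣ Nat.card A) : IsMulCommutative ↥A := by
  have hMp : IsPGroup p M := IsPGroup.of_card (n := 1) (by rw [hMcard, pow_one])
  have hMexp : ∀ m ∈ M, m ^ p = 1 := by
    intro m hm
    have h1 : (⟨m, hm⟩ : M) ^ Nat.card M = 1 := pow_card_eq_one'
    rw [hMcard] at h1
    exact congrArg Subtype.val h1
  obtain ⟨Ap, K, hMAp, hApA, hKA, hsup, hApcard, hmul, hcop, hKc⟩ := decomp M A hMp hMA hA
  -- `A_p` is cyclic
  have hApp : IsPGroup p Ap := IsPGroup.of_card hApcard
  obtain ⟨P, hP⟩ := hApp.exists_le_sylow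
  have hPc : IsCyclic ↥(P : Subgroup G) := hcyc P
  have hApc : IsCyclic ↥Ap :=
    isCyclic_of_surjective (Subgroup.subgroupOfEquivOfLe hP) (Subgroup.subgroupOfEquivOfLe hP).surjective
  obtain ⟨a, ha⟩ := IsCyclic.exists_generator (α := ↥Ap)
  have hAp_comm : IsMulCommutative ↥Ap := by
    apply IsMulCommutative.of_setLike_mul_comm
    intro x hx y hy
    obtain ⟨i, hi⟩ := Subgroup.mem_zpowers_iff.mp (ha ⟨x, hx⟩)
    obtain ⟨j, hj⟩ := Subgroup.mem_zpowers_iff.mp (ha ⟨y, hy⟩)
    have hx' : x = (a : G) ^ i := by rw [← Subgroup.coe_zpow, hi]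
    have hy' : y = (a : G) ^ j := by rw [← Subgroup.coe_zpow, hj]
    rw [hx', hy', ← zpow_add, ← zpow_add, add_comm]
  -- the exponent is at least `2`
  have he : 2 ≤ (Nat.card A).factorization p :=
    (hp.out.pow_dvd_iff_le_factorization Nat.card_pos.ne').mp hp2
  obtain ⟨e, he'⟩ : ∃ e, (Nat.card A).factorization p = e + 2 := ⟨_, (Nat.sub_add_cancel he).symm⟩
  have hao : orderOf (a : G) = p ^ (e + 2) := by
    rw [Subgroup.orderOf_coe, orderOf_eq_card_of_forall_mem_zpowers ha, hApcard, he']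
  have hmemz : ∀ x ∈ Ap, x ∈ zpowers (a : G) := by
    intro x hx
    obtain ⟨i, hi⟩ := Subgroup.mem_zpowers_iff.mp (ha ⟨x, hx⟩)
    exact Subgroup.mem_zpowers_iff.mpr ⟨i, by rw [← Subgroup.coe_zpow, hi]⟩
  have hc : ∀ k ∈ K, ∀ m ∈ M, k * m = m * k := by
    intro k hk m hm
    have hcm : ⁅k, (a : G)⁆ ∈ M := hA k (hKA hk) a (hApA a.2)
    apply commute_of_cyclic hp.out (a : G) k m e hao (hmemz m (hMAp hm)) (hMexp m hm)
      (hMexp _ hcm)
    exact setLike_mul_comm (s := Ap) (hMAp hcm) a.2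
  exact comm_of_decomp A Ap K hsup hAp_comm hKc
    (centralizes M A Ap K hA hMexp hApA hKA hcop hc)

/-- Two subgroups `A = A_p K`, `B = B_p L` with `A_p`, `B_p` Sylow `p`-subgroups of `G` centralized by
the abelian subgroups `K`, `L` of equal order are conjugate. -/
theorem conj_of_decomp {G : Type*} [Group G] [Finite G] {p : ℕ} [hp : Fact p.Prime] (hB : PropB G)
    (A B Ap K Bp L : Subgroup G) (hAsup : Ap ⊔ K = A) (hBsup : Bp ⊔ L = B)
    (hK : IsMulCommutative ↥K) (hL : IsMulCommutative ↥L) (hKL : Nat.card K = Nat.card L)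
    (hAp : Nat.card Ap = p ^ (Nat.card G).factorization p)
    (hBp : Nat.card Bp = p ^ (Nat.card G).factorization p)
    (hcA : ∀ k ∈ K, ∀ x ∈ Ap, k * x = x * k) (hcB : ∀ k ∈ L, ∀ x ∈ Bp, k * x = x * k) :
    ∃ g : G, B = A.map (MulAut.conj g).toMonoidHom := by
  obtain ⟨g, hg0⟩ := hB K L hK hL hKL
  have hg : L = cj g K := hg0
  have hA'C : cj g Ap ≤ centralizer (L : Set G) := by
    intro x hx
    rw [mem_cj] at hx
    rw [mem_centralizer_iff]
    intro l hl
    have hl' : l ∈ cj g K := by rw [← hg]; exact hl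
    rw [mem_cj] at hl'
    have h1 := hcA _ hl' _ hx
    have e1 : l * x = g * ((g⁻¹ * l * g) * (g⁻¹ * x * g)) * g⁻¹ := by group
    have e2 : x * l = g * ((g⁻¹ * x * g) * (g⁻¹ * l * g)) * g⁻¹ := by group
    rw [e1, e2, h1]
  have hBC : Bp ≤ centralizer (L : Set G) := by
    intro x hx
    rw [mem_centralizer_iff]
    intro l hl
    exact hcB l hl x hx
  have hBpp : IsPGroup p Bp := IsPGroup.of_card hBp
  have hA'p : IsPGroup p (cj g Ap) := isPGroup_cj (IsPGroup.of_card hAp)
  have hidx : ¬ p ∣ Bp.relIndex (centralizer (L : Set G)) := by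
    intro hdvd
    have h1 : Bp.relIndex (centralizer (L : Set G)) ∣ Bp.index :=
      Subgroup.relIndex_dvd_index_of_le hBC
    have h2 : p ∣ Bp.index := hdvd.trans h1
    have h3 := Subgroup.card_mul_index Bp
    have h4 : p ^ ((Nat.card G).factorization p + 1) ∣ Nat.card G := by
      conv_rhs => rw [← h3, hBp]
      rw [pow_succ]
      exact Nat.mul_dvd_mul_left _ h2
    exact Nat.pow_succ_factorization_not_dvd Nat.card_pos.ne' hp.out h4
  obtain ⟨x, hxC, hx⟩ := exists_cj_le_of_relIndex hBpp hidx hA'C hA'p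
  have hxeq : cj x (cj g Ap) = Bp := by
    apply Subgroup.eq_of_le_of_card_ge hx
    rw [card_cj, card_cj, hAp, hBp]
  have hxL : cj x L = L :=
    cj_eq_self_of_mem_normalizer (Subgroup.centralizer_le_normalizer _ hxC)
  refine ⟨x * g, ?_⟩
  change B = cj (x * g) A
  rw [cj_mul, ← hAsup, cj_sup, cj_sup, ← hg, hxL, hxeq, hBsup]

end Cfsg.Agent.Lib.Helper55_BQuotB
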