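import Mathlib
import Cfsg.Agent.Lib.Helper55_QuatCoord
import Cfsg.Agent.Lib.Helper55_QuatCoord2
import Cfsg.Agent.Lib.Helper55_BSQuat
import Cfsg.Agent.Lib.Helper55_BSInvol
import Cfsg.Agent.Lib.Helper55_Fitting
import Cfsg.Agent.Lib.Helper55_BQuotB

/-!
# Groups whose abelian subgroups of equal order are conjugate: quotients, part C (helper55)

A finite group with a normal self-centralizing generalized quaternion subgroup of order at least `16`
is a `2`-group.
-/

set_option autoImplicit false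

namespace Cfsg.Agent.Lib.Helper55_BQuotC

open Subgroup Cfsg.Agent.Lib.Helper55_QuatCoord Cfsg.Agent.Lib.Helper55_BQuotB
open scoped commutatorElement

section quaternion

variable {H : Type*} [Group H] {T : Subgroup H} {n : ℕ}
  (e : ↥T ≃* QuaternionGroup (2 ^ (n + 2)))

theorem orderOf_XA (i : ZMod (2 * 2 ^ (n + 2))) : orderOf (XA e i) = 4 := by
  have : NeZero (2 ^ (n + 2)) := ⟨by positivity⟩
  unfold XA
  rw [Subgroup.orderOf_coe, MulEquiv.orderOf_eq, QuaternionGroup.orderOf_xa]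

theorem conj_A_one_mem [hT : T.Normal] (h : H) : h * A e 1 * h⁻¹ ∈ zpowers (A e 1) := by
  have hmem : h * A e 1 * h⁻¹ ∈ T := hT.conj_mem _ (A_mem e 1) h
  rcases cases_mem e hmem with ⟨i, hi⟩ | ⟨i, hi⟩
  · rw [hi]; exact (mem_zpowers_iff e _).mpr ⟨i, rfl⟩
  · exfalso
    have h1 : orderOf (h * A e 1 * h⁻¹) = 2 ^ (n + 3) := by
      have := orderOf_injective (MulAut.conj h).toMonoidHom (MulAut.conj h).injective (A e 1)
      rw [Cfsg.Agent.Lib.Helper55_BSQuat.orderOf_A_one] at this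
      simpa [MulAut.conj_apply] using this
    rw [hi, orderOf_XA] at h1
    have : 8 ≤ 2 ^ (n + 3) := by
      calc 8 = 2 ^ 3 := by norm_num
        _ ≤ 2 ^ (n + 3) := Nat.pow_le_pow_right (by norm_num) (by omega)
    omega

theorem zpowers_normal [hT : T.Normal] : (zpowers (A e 1)).Normal := by
  constructor
  intro c hc h
  obtain ⟨k, rfl⟩ := Subgroup.mem_zpowers_iff.mp hc
  have h1 : h * A e 1 ^ k * h⁻¹ = (h * A e 1 * h⁻¹) ^ k := by
    rw [conj_zpow]
  rw [h1]
  exact Subgroup.zpow_mem _ (conj_A_one_mem e h) k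

include e in
/-- An element of odd order centralizes `T`. -/
theorem mem_centralizer_of_odd [Finite H] [hT : T.Normal] (h : H) (r : ℕ) (hr : Odd r)
    (hhr : h ^ r = 1) : h ∈ centralizer (T : Set H) := by
  have : Fact (Nat.Prime 2) := ⟨Nat.prime_two⟩
  have hCn : (zpowers (A e 1)).Normal := zpowers_normal e
  -- `h` centralizes `C`
  have hcardC : Nat.card (zpowers (A e 1)) = 2 ^ (n + 3) := by
    rw [Nat.card_zpowers, Cfsg.Agent.Lib.Helper55_BSQuat.orderOf_A_one]
  have hcardAut : Nat.card (MulAut ↥(zpowers (A e 1))) = 2 ^ (n + 2) := by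
    rw [IsCyclic.card_mulAut, hcardC, Nat.totient_prime_pow Nat.prime_two (by omega)]
    simp
  have h1 : (MulAut.conjNormal (H := zpowers (A e 1)) h) ^ r = 1 := by
    rw [← map_pow, hhr, map_one]
  have h2 : (MulAut.conjNormal (H := zpowers (A e 1)) h) ^ (2 ^ (n + 2)) = 1 := by
    have h2' : (MulAut.conjNormal (H := zpowers (A e 1)) h) ^
        Nat.card (MulAut ↥(zpowers (A e 1))) = 1 := pow_card_eq_one'
    rw [hcardAut] at h2'
    exact h2'
  have hcop : Nat.Coprime r (2 ^ (n + 2)) :=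
    Nat.Coprime.pow_right _ (Nat.coprime_two_right.mpr hr)
  have h3 : MulAut.conjNormal (H := zpowers (A e 1)) h = 1 := by
    have hd : orderOf (MulAut.conjNormal (H := zpowers (A e 1)) h) ∣ Nat.gcd r (2 ^ (n + 2)) :=
      Nat.dvd_gcd (orderOf_dvd_of_pow_eq_one h1) (orderOf_dvd_of_pow_eq_one h2)
    rw [hcop] at hd
    exact orderOf_eq_one_iff.mp (Nat.dvd_one.mp hd)
  have hhC : h ∈ centralizer ((zpowers (A e 1) : Subgroup H) : Set H) := by
    rw [← Cfsg.Agent.Lib.Helper55_Fitting.conjNormal_ker, MonoidHom.mem_ker]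
    exact h3
  rw [mem_centralizer_iff] at hhC
  -- the commutator with `XA e 0` lies in `C`
  have hx0 : h * XA e 0 * h⁻¹ ∈ T := hT.conj_mem _ (XA_mem e 0) h
  have hcC : ⁅h, XA e 0⁆ ∈ zpowers (A e 1) := by
    rcases cases_mem e hx0 with ⟨i, hi⟩ | ⟨i, hi⟩
    · exfalso
      have h4 : XA e 0 = h⁻¹ * A e i * h⁻¹⁻¹ := by rw [← hi]; group
      have h5 : h⁻¹ * A e i * h⁻¹⁻¹ ∈ zpowers (A e 1) :=
        hCn.conj_mem _ ((mem_zpowers_iff e _).mpr ⟨i, rfl⟩) h⁻¹
      rw [← h4] at h5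
      obtain ⟨j, hj⟩ := (mem_zpowers_iff e _).mp h5
      exact A_ne_XA e j 0 hj.symm
    · rw [commutatorElement_def, hi, XA_inv, XA_mul_XA]
      exact (mem_zpowers_iff e _).mpr ⟨_, rfl⟩
  have hcpow : ⁅h, XA e 0⁆ ^ (2 ^ (n + 3)) = 1 := by
    have h6 : (⟨⁅h, XA e 0⁆, hcC⟩ : zpowers (A e 1)) ^ Nat.card (zpowers (A e 1)) = 1 :=
      pow_card_eq_one'
    rw [hcardC] at h6
    exact congrArg Subtype.val h6
  have hcomm0 : h * XA e 0 = XA e 0 * h := by
    apply commute_of_commutator h (XA e 0) r (2 ^ (n + 3)) hhr hcpow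
    · exact Nat.Coprime.pow_right _ (Nat.coprime_two_right.mpr hr)
    · exact (hhC _ hcC).symm
  rw [mem_centralizer_iff]
  intro y hy
  rcases cases_mem e hy with ⟨i, hi⟩ | ⟨i, hi⟩
  · exact hhC y (by rw [hi]; exact (mem_zpowers_iff e _).mpr ⟨i, rfl⟩)
  · have h7 : y = XA e 0 * A e i := by rw [hi, XA_mul_A, zero_add]
    have h8 : A e i * h = h * A e i := hhC _ ((mem_zpowers_iff e _).mpr ⟨i, rfl⟩)
    rw [h7, mul_assoc, h8, ← mul_assoc, ← hcomm0, mul_assoc]

include e in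
/-- A finite group with a normal self-centralizing generalized quaternion subgroup of order at least
`16` is a `2`-group. -/
theorem isPGroup_two_of_quaternion_normal [Finite H] [hT : T.Normal]
    (hC : centralizer (T : Set H) ≤ T) : IsPGroup 2 H := by
  have : NeZero (2 ^ (n + 2)) := ⟨by positivity⟩
  have hcardT : Nat.card T = 2 ^ (n + 4) := by
    rw [Nat.card_congr e.toEquiv, Nat.card_eq_fintype_card, QuaternionGroup.card]
    ring
  have hodd : ∀ (h : H) (r : ℕ), Odd r → h ^ r = 1 → h = 1 := by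
    intro h r hr hhr
    have hhT : h ∈ T := hC (mem_centralizer_of_odd e h r hr hhr)
    have h1 : (⟨h, hhT⟩ : T) ^ Nat.card T = 1 := pow_card_eq_one'
    rw [hcardT] at h1
    have h2 : h ^ (2 ^ (n + 4)) = 1 := congrArg Subtype.val h1
    have hd : orderOf h ∣ Nat.gcd r (2 ^ (n + 4)) :=
      Nat.dvd_gcd (orderOf_dvd_of_pow_eq_one hhr) (orderOf_dvd_of_pow_eq_one h2)
    rw [Nat.Coprime.pow_right _ (Nat.coprime_two_right.mpr hr)] at hd
    exact orderOf_eq_one_iff.mp (Nat.dvd_one.mp hd)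
  intro g
  obtain ⟨k, m, hm, hkm⟩ := Nat.exists_eq_two_pow_mul_odd (orderOf_pos g).ne'
  refine ⟨k, hodd (g ^ 2 ^ k) m hm ?_⟩
  rw [← pow_mul, ← hkm, pow_orderOf_eq_one]

end quaternion

end Cfsg.Agent.Lib.Helper55_BQuotC
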