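/-
Helper library (helper86): miscellaneous p-group lemmas built on S0016 (unique subgroup of order p).
-/
import Cfsg.Agent.S0016

set_option autoImplicit false

namespace Cfsg.Agent.Lib.Helper86_PGroupMisc

/-- In a finite `p`-group with two distinct subgroups of order `p` there is an abelian subgroup of
order `p ^ 2` and exponent `p`. -/
theorem exists_elementary_sq {P : Type*} [Group P] [Finite P] {p : ℕ} [hp : Fact p.Prime]
    (hP : IsPGroup p P) (H K : Subgroup P) (hH : Nat.card H = p) (hK : Nat.card K = p)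
    (hne : H ≠ K) :
    ∃ E : Subgroup P, IsMulCommutative E ∧ Nat.card E = p ^ 2 ∧ ∀ e ∈ E, e ^ p = 1 := by
  have hnt : Nontrivial P := by
    have : Nontrivial H := by
      rw [← Finite.one_lt_card_iff_nontrivial, hH]; exact hp.out.one_lt
    obtain ⟨a, b, hab⟩ := this
    exact ⟨⟨a, b, fun h => hab (Subtype.ext h)⟩⟩
  have hZnt : Nontrivial (Subgroup.center P) := hP.center_nontrivial
  have hZp : IsPGroup p (Subgroup.center P) := hP.to_subgroup _
  have hdvd : p ∣ Nat.card (Subgroup.center P) := by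
    obtain ⟨k, hk⟩ := (IsPGroup.iff_card).mp hZp
    have hk0 : k ≠ 0 := by
      rintro rfl
      rw [pow_zero] at hk
      have := Finite.one_lt_card_iff_nontrivial.mpr hZnt
      omega
    rw [hk]; exact dvd_pow_self p hk0
  obtain ⟨z, hz⟩ := exists_prime_orderOf_dvd_card' p hdvd
  have hzc : ∀ g : P, g * (z : P) = (z : P) * g := fun g => (Subgroup.mem_center_iff.mp z.2 g)
  have hzo : orderOf (z : P) = p := by rw [Subgroup.orderOf_coe]; exact hz
  -- choose `Z'` among `H`, `K` different from `⟨z⟩`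
  obtain ⟨Z', hZ', hZ'ne⟩ : ∃ Z' : Subgroup P, Nat.card Z' = p ∧ Z' ≠ Subgroup.zpowers (z : P) := by
    by_cases h : H = Subgroup.zpowers (z : P)
    · exact ⟨K, hK, fun h' => hne (h.trans h'.symm)⟩
    · exact ⟨H, hH, h⟩
  -- the two subgroups meet trivially
  have hZcard : Nat.card (Subgroup.zpowers (z : P)) = p := by rw [Nat.card_zpowers, hzo]
  have hdisj : ∀ x : P, x ∈ Subgroup.zpowers (z : P) → x ∈ Z' → x = 1 := by
    intro x hx1 hx2
    by_contra hx
    apply hZ'ne
    have hxo : orderOf x = p := by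
      have h1 : orderOf x ∣ p := by
        have : (⟨x, hx2⟩ : Z') ^ Nat.card Z' = 1 := pow_card_eq_one'
        rw [hZ'] at this
        exact orderOf_dvd_of_pow_eq_one (congrArg Subtype.val this)
      rcases (Nat.dvd_prime hp.out).mp h1 with h | h
      · exact absurd (orderOf_eq_one_iff.mp h) hx
      · exact h
    have hcx : Nat.card (Subgroup.zpowers x) = p := by rw [Nat.card_zpowers, hxo]
    have h1 : Subgroup.zpowers x = Z' :=
      Subgroup.eq_of_le_of_card_ge (Subgroup.zpowers_le.mpr hx2) (by rw [hcx, hZ'])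
    have h2 : Subgroup.zpowers x = Subgroup.zpowers (z : P) :=
      Subgroup.eq_of_le_of_card_ge (Subgroup.zpowers_le.mpr hx1) (by rw [hcx, hZcard])
    rw [← h1, h2]
  -- the product map
  let f : Subgroup.zpowers (z : P) × Z' →* P :=
    { toFun := fun uv => (uv.1 : P) * (uv.2 : P)
      map_one' := by simp
      map_mul' := by
        rintro ⟨⟨u, hu⟩, ⟨v, hv⟩⟩ ⟨⟨u', hu'⟩, ⟨v', hv'⟩⟩
        show u * u' * (v * v') = u * v * (u' * v')
        obtain ⟨k, rfl⟩ := Subgroup.mem_zpowers_iff.mp hu'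
        have hc : v * (z : P) ^ k = (z : P) ^ k * v := by
          have : Commute v (z : P) := hzc v
          exact (this.zpow_right k).eq
        rw [mul_assoc, mul_assoc, ← mul_assoc ((z : P) ^ k) v, ← hc, mul_assoc] }
  have hfinj : Function.Injective f := by
    rw [injective_iff_map_eq_one]
    rintro ⟨⟨u, hu⟩, ⟨v, hv⟩⟩ h
    have h' : u * v = 1 := h
    have hu' : u = v⁻¹ := eq_inv_of_mul_eq_one_left h'
    have hu1 : u = 1 := hdisj u hu (by rw [hu']; exact Z'.inv_mem hv)
    have hv1 : v = 1 := by rw [hu1, one_mul] at h'; exact h'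
    ext
    · exact hu1
    · exact hv1
  refine ⟨f.range, ?_, ?_, ?_⟩
  · apply IsMulCommutative.of_setLike_mul_comm
    rintro _ ⟨⟨⟨u, hu⟩, ⟨v, hv⟩⟩, rfl⟩ _ ⟨⟨⟨u', hu'⟩, ⟨v', hv'⟩⟩, rfl⟩
    show u * v * (u' * v') = u' * v' * (u * v)
    obtain ⟨k, rfl⟩ := Subgroup.mem_zpowers_iff.mp hu
    obtain ⟨k', rfl⟩ := Subgroup.mem_zpowers_iff.mp hu'
    have hc : ∀ (g : P) (k : ℤ), g * (z : P) ^ k = (z : P) ^ k * g := by
      intro g k
      have : Commute g (z : P) := hzc g
      exact (this.zpow_right k).eq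
    have hvv : v * v' = v' * v := by
      have hZ'c : IsCyclic Z' := isCyclic_of_prime_card hZ'
      have := (IsCyclic.isMulCommutative (α := Z')).is_comm.comm ⟨v, hv⟩ ⟨v', hv'⟩
      exact congrArg Subtype.val this
    calc (z : P) ^ k * v * ((z : P) ^ k' * v') = (z : P) ^ k * ((z : P) ^ k' * v) * v' := by
          rw [mul_assoc, ← mul_assoc v, hc v k', mul_assoc, mul_assoc, mul_assoc]
      _ = (z : P) ^ k' * ((z : P) ^ k * (v * v')) := by
          rw [← mul_assoc, ← zpow_add, add_comm, zpow_add]; simp only [mul_assoc]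
      _ = (z : P) ^ k' * v' * ((z : P) ^ k * v) := by
          rw [hvv, ← mul_assoc ((z : P) ^ k) v' v, ← hc v' k]; simp only [mul_assoc]
  · rw [← Nat.card_congr (MonoidHom.ofInjective hfinj).toEquiv, Nat.card_prod, hZcard, hZ', pow_two]
  · rintro _ ⟨⟨⟨u, hu⟩, ⟨v, hv⟩⟩, rfl⟩
    show (u * v) ^ p = 1
    have hcuv : Commute u v := by
      obtain ⟨k, rfl⟩ := Subgroup.mem_zpowers_iff.mp hu
      have : Commute v (z : P) := hzc v
      exact (this.zpow_right k).symm
    rw [hcuv.mul_pow]
    have h1 : u ^ p = 1 := by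
      have : (⟨u, hu⟩ : Subgroup.zpowers (z : P)) ^ Nat.card (Subgroup.zpowers (z : P)) = 1 :=
        pow_card_eq_one'
      rw [hZcard] at this
      exact congrArg Subtype.val this
    have h2 : v ^ p = 1 := by
      have : (⟨v, hv⟩ : Z') ^ Nat.card Z' = 1 := pow_card_eq_one'
      rw [hZ'] at this
      exact congrArg Subtype.val this
    rw [h1, h2, one_mul]


/-- If abelian subgroups of equal order of `G` are isomorphic, a Sylow `p`-subgroup has exponent
dividing `p`, or is cyclic, or generalized quaternion. -/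
theorem sylow_of_abelian_iso {G : Type*} [Group G] [Finite G] {p : ℕ} [hp : Fact p.Prime]
    (P : Sylow p G)
    (hiso : ∀ A B : Subgroup G, IsMulCommutative A → IsMulCommutative B →
      Nat.card A = Nat.card B → Nonempty (A ≃* B)) :
    (∀ x ∈ (P : Subgroup G), x ^ p = 1) ∨ IsCyclic (P : Subgroup G) ∨
      (p = 2 ∧ ∃ n : ℕ, Nonempty ((P : Subgroup G) ≃* QuaternionGroup (2 ^ n))) := by
  by_cases hexp : ∀ x ∈ (P : Subgroup G), x ^ p = 1
  · left; exact hexp
  right
  push Not at hexp
  obtain ⟨x, hxP, hxp⟩ := hexp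
  have hPp : IsPGroup p (P : Subgroup G) := P.isPGroup'
  -- a cyclic subgroup of order `p ^ 2`
  obtain ⟨t, ht⟩ := (IsPGroup.iff_orderOf.mp hPp) ⟨x, hxP⟩
  have ht2 : 2 ≤ t := by
    by_contra hcon
    push Not at hcon
    apply hxp
    have h1 : (⟨x, hxP⟩ : (P : Subgroup G)) ^ p = 1 := by
      have hd : orderOf (⟨x, hxP⟩ : (P : Subgroup G)) ∣ p := by
        rw [ht]
        calc p ^ t ∣ p ^ 1 := pow_dvd_pow p (by omega)
          _ = p := pow_one p
      exact orderOf_dvd_iff_pow_eq_one.mp hd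
    exact congrArg Subtype.val h1
  have hcz : Nat.card (Subgroup.zpowers x) = p ^ t := by
    rw [Nat.card_zpowers, ← Subgroup.orderOf_mk x hxP, ht]
  have hdvd : p ^ 2 ∣ Nat.card (Subgroup.zpowers x) := by rw [hcz]; exact pow_dvd_pow p ht2
  obtain ⟨K', hK'⟩ := Sylow.exists_subgroup_card_pow_prime p hdvd
  set C : Subgroup G := K'.map (Subgroup.zpowers x).subtype with hC
  have eC : K' ≃* C := K'.equivMapOfInjective _ (Subgroup.subtype_injective _)
  have hCcard : Nat.card C = p ^ 2 := by rw [← hK']; exact (Nat.card_congr eC.toEquiv).symm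
  have hCcyc : IsCyclic C := (MulEquiv.isCyclic eC).mp inferInstance
  have hCcomm : IsMulCommutative C := IsCyclic.isMulCommutative
  -- unique subgroup of order `p` in `P`
  have huniq : ∀ H K : Subgroup (P : Subgroup G), Nat.card H = p → Nat.card K = p → H = K := by
    intro H K hH hK
    by_contra hne
    obtain ⟨E', hE'comm, hE'card, hE'exp⟩ := exists_elementary_sq hPp H K hH hK hne
    set E : Subgroup G := E'.map (P : Subgroup G).subtype with hE
    have eE : E' ≃* E := E'.equivMapOfInjective _ (Subgroup.subtype_injective _)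
    have hEcard : Nat.card E = p ^ 2 := by rw [← hE'card]; exact (Nat.card_congr eE.toEquiv).symm
    have hEcomm : IsMulCommutative E := Subgroup.map_isMulCommutative _ _
    obtain ⟨φ⟩ := hiso C E hCcomm hEcomm (by rw [hCcard, hEcard])
    have hEcyc : IsCyclic E := (MulEquiv.isCyclic φ).mp hCcyc
    obtain ⟨e, he⟩ := IsCyclic.exists_ofOrder_eq_natCard (α := E)
    rw [hEcard] at he
    have he1 : e ^ p = 1 := by
      obtain ⟨e', he'mem, he'eq⟩ := e.2
      apply Subtype.ext
      rw [Subgroup.coe_pow, ← he'eq, ← map_pow, Subgroup.coe_one]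
      rw [hE'exp e' he'mem, map_one]
    have := orderOf_dvd_of_pow_eq_one he1
    rw [he] at this
    have h2 : p ^ 2 ≤ p := Nat.le_of_dvd hp.out.pos this
    have h3 : p * 2 ≤ p ^ 2 := by rw [pow_two]; exact Nat.mul_le_mul_left p hp.out.two_le
    have := hp.out.pos
    omega
  rcases Cfsg.Agent.S0016.result p hPp huniq with h | h
  · left; exact h
  · right; exact h

end Cfsg.Agent.Lib.Helper86_PGroupMisc
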