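import Mathlib
import Cfsg.Agent.S3908
import Cfsg.Agent.S3909
import Cfsg.Agent.S3910
import Cfsg.Agent.Lib.Helper17_Sylow
import Cfsg.Agent.Lib.Helper1_Cores
import Cfsg.Agent.Lib.Helper55_Fitting
import Cfsg.Agent.Lib.Helper55_BQuotC

/-!
# Groups whose abelian subgroups of equal order are conjugate: quotients, part D (helper55)

Quotients of a finite solvable group with property `(B)` have property `(B)`.
-/

set_option autoImplicit false

namespace Cfsg.Agent.Lib.Helper55_BQuotD

open Subgroup Cfsg.Agent.Lib.Helper34_Sylow Cfsg.Agent.Lib.Helper55_BQuotA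
  Cfsg.Agent.Lib.Helper55_BQuotB Cfsg.Agent.Lib.Helper55_BQuotC
open scoped commutatorElement

universe u

/-- A normal subgroup of prime order `p` of a `(B)`-group contains all elements of order `p`. -/
theorem mem_of_orderOf {G : Type*} [Group G] [Finite G] (hB : PropB G) {p : ℕ} [hp : Fact p.Prime]
    (N : Subgroup G) [N.Normal] (hNcard : Nat.card N = p) (a : G) (ha : orderOf a = p) : a ∈ N := by
  obtain ⟨m, hm⟩ := exists_prime_orderOf_dvd_card' (G := N) p (by rw [hNcard])
  apply Cfsg.Agent.S3909.part1 hB N a ⟨m, m.2, ?_⟩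
  rw [Subgroup.orderOf_coe, hm, ha]

/-- If `N` is normal of prime order `p`, contains all elements of order `p`, and `p ^ 2` divides `|G|`,
no Sylow `p`-subgroup has exponent `p`. -/
theorem not_exponent {G : Type*} [Group G] [Finite G] {p : ℕ} [hp : Fact p.Prime]
    (N : Subgroup G) (hNcard : Nat.card N = p) (hmem : ∀ a : G, orderOf a = p → a ∈ N)
    (hp2 : p ^ 2 ∣ Nat.card G) (P : Sylow p G) : ¬ ∀ x ∈ (P : Subgroup G), x ^ p = 1 := by
  intro h
  have hPN : (P : Subgroup G) ≤ N := by
    intro x hx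
    rcases (Nat.dvd_prime hp.out).mp (orderOf_dvd_of_pow_eq_one (h x hx)) with h1 | h1
    · rw [orderOf_eq_one_iff.mp h1]; exact N.one_mem
    · exact hmem x h1
  have h1 : Nat.card (P : Subgroup G) ≤ Nat.card N := Subgroup.card_le_of_le hPN
  have h2 : p ^ 2 ∣ Nat.card (P : Subgroup G) := by
    rw [Sylow.card_eq_multiplicity P]
    exact pow_dvd_pow p ((hp.out.pow_dvd_iff_le_factorization Nat.card_pos.ne').mp hp2)
  have h3 := Nat.le_of_dvd Nat.card_pos h2
  rw [hNcard] at h1
  have h4 : p < p ^ 2 := by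
    calc p = p ^ 1 := (pow_one p).symm
      _ < p ^ 2 := Nat.pow_lt_pow_right hp.out.one_lt (by omega)
  omega

/-- The one-step reduction: everything except the case of a normal subgroup of order `p` with
`p ^ 2 ∣ |A|` and a non-cyclic Sylow `p`-subgroup. -/
theorem step_core {G : Type*} [Group G] [Finite G] (hB : PropB G) (N : Subgroup G) [N.Normal]
    (p : ℕ) [hp : Fact p.Prime] (hNc : IsMulCommutative ↥N) (hexp : ∀ x ∈ N, x ^ p = 1)
    (hN : N ≠ ⊥)
    (hQ : ∀ A B : Subgroup G, N ≤ A → N ≤ B → (∀ x ∈ A, ∀ y ∈ A, ⁅x, y⁆ ∈ N) →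
      (∀ x ∈ B, ∀ y ∈ B, ⁅x, y⁆ ∈ N) → Nat.card A = Nat.card B → Nat.card N = p →
      p ^ 2 ∣ Nat.card A → ¬ (∀ P : Sylow p G, IsCyclic ↥(P : Subgroup G)) →
      ∃ g : G, B = A.map (MulAut.conj g).toMonoidHom) : PropB (G ⧸ N) := by
  apply propB_quotient
  intro A B hNA hNB hA hB' hcard
  have hNp : IsPGroup p N := by
    intro x
    refine ⟨1, ?_⟩
    rw [pow_one]
    apply Subtype.ext
    rw [Subgroup.coe_pow, Subgroup.coe_one]
    exact hexp x x.2
  obtain ⟨t, ht⟩ := IsPGroup.iff_card.mp hNp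
  have hNA_card : Nat.card N * (Nat.card A / Nat.card N) = Nat.card A :=
    Nat.mul_div_cancel' (Subgroup.card_dvd_of_le hNA)
  by_cases hdiv : p ∣ Nat.card A / Nat.card N
  · -- `N` has order `p`
    have hAG : Nat.card A ∣ Nat.card G := Subgroup.card_subgroup_dvd_card A
    have hpt : p ^ (t + 1) ∣ Nat.card G := by
      apply Dvd.dvd.trans _ hAG
      rw [← hNA_card, pow_succ]
      conv_lhs => rw [← ht]
      exact Nat.mul_dvd_mul_left _ hdiv
    have ht1 : t = 1 := by
      by_contra hne
      rcases Nat.lt_or_ge t 2 with h2 | h2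
      · have ht0 : t = 0 := by omega
        rw [ht0, pow_zero] at ht
        exact hN (Subgroup.eq_bot_of_card_eq N ht)
      · have hS := (Cfsg.Agent.S3909.result hB N).2 p t h2 ht ⟨hNc, hexp⟩
        obtain ⟨P⟩ : Nonempty (Sylow p G) := inferInstance
        have h3 : Nat.card (P : Subgroup G) = p ^ t := by rw [hS P, ht]
        rw [Sylow.card_eq_multiplicity P] at h3
        have h4 : (Nat.card G).factorization p = t :=
          Nat.pow_right_injective hp.out.two_le h3
        have h5 := (hp.out.pow_dvd_iff_le_factorization Nat.card_pos.ne').mp hpt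
        omega
    rw [ht1, pow_one] at ht
    have hp2A : p ^ 2 ∣ Nat.card A := by
      have h1 : Nat.card N * p ∣ Nat.card N * (Nat.card A / Nat.card N) :=
        Nat.mul_dvd_mul_left _ hdiv
      rw [hNA_card] at h1
      have h2 : Nat.card N * p = p ^ 2 := by rw [ht, pow_two]
      rwa [h2] at h1
    by_cases hcyc : ∀ P : Sylow p G, IsCyclic ↥(P : Subgroup G)
    · have hAc := abelian_of_cyclic hcyc N A ht hNA hA hp2A
      have hBc := abelian_of_cyclic hcyc N B ht hNB hB' (by rw [← hcard]; exact hp2A)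
      exact hB A B hAc hBc hcard
    · exact hQ A B hNA hNB hA hB' hcard ht hp2A hcyc
  · apply conj_of_coprime hB N A B hNA hNB hA hB' hcard
    have h1 : (p ^ t).Coprime (Nat.card A / Nat.card N) :=
      Nat.Coprime.pow_left _ ((Nat.Prime.coprime_iff_not_dvd hp.out).mpr hdiv)
    rwa [← ht] at h1

/-- The odd step. -/
theorem step_odd (G : Type u) [Group G] [Finite G] (hB : PropB G) (_hsol : Group.IsSolvable G)
    (N : Subgroup G) [N.Normal] (p : ℕ) (hp : p.Prime) (hp2 : p ≠ 2) (hNc : IsMulCommutative ↥N)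
    (hexp : ∀ x ∈ N, x ^ p = 1) (hN : N ≠ ⊥) : PropB (G ⧸ N) := by
  have : Fact p.Prime := ⟨hp⟩
  apply step_core hB N p hNc hexp hN
  intro A B hNA hNB hA hB' hcard hNcard hp2A hncyc
  exfalso
  apply hncyc
  intro P
  rcases (Cfsg.Agent.S3908.result hB).2 p hp2 P with h | h
  · exact h
  · exfalso
    exact not_exponent N hNcard (mem_of_orderOf hB N hNcard)
      (hp2A.trans (Subgroup.card_subgroup_dvd_card A)) P h

/-- Quotients of a solvable `(B)`-group by normal subgroups of odd order have `(B)`. -/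
theorem propB_quotient_odd {G : Type u} [Group G] [Finite G] (hB : PropB G)
    (hsol : Group.IsSolvable G) (M : Subgroup G) [M.Normal] (hM : Odd (Nat.card M)) :
    PropB (G ⧸ M) :=
  quot_induction (π := fun p => p ≠ 2) step_odd (Nat.card M) G hB hsol M
    (fun p _ hpd h2 => by
      subst h2
      exact (Nat.not_even_iff_odd.mpr hM) (even_iff_two_dvd.mpr hpd)) rfl

end Cfsg.Agent.Lib.Helper55_BQuotD
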