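import Mathlib
import Cfsg.Agent.Lib.Helper55_BQuotD

/-!
# Groups whose abelian subgroups of equal order are conjugate: quotients, part E (helper55)

A finite solvable `(B)`-group has no generalized quaternion Sylow `2`-subgroup of order `≥ 16`.
-/

set_option autoImplicit false

namespace Cfsg.Agent.Lib.Helper55_BQuotE

open Subgroup Cfsg.Agent.Lib.Helper34_Sylow Cfsg.Agent.Lib.Helper55_BQuotA
  Cfsg.Agent.Lib.Helper55_BQuotB Cfsg.Agent.Lib.Helper55_BQuotC Cfsg.Agent.Lib.Helper55_BQuotD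
  Cfsg.Agent.Lib.Helper55_QuatCoord
open scoped commutatorElement

universe u

theorem no_big_quaternion {G : Type u} [Group G] [Finite G] (hB : PropB G)
    (hsol : Group.IsSolvable G) (P : Sylow 2 G) (n : ℕ)
    (e : ↥(P : Subgroup G) ≃* QuaternionGroup (2 ^ (n + 2))) : False := by
  have h2 : Fact (Nat.Prime 2) := ⟨Nat.prime_two⟩
  have hNZ : NeZero (2 ^ (n + 2)) := ⟨by positivity⟩
  obtain ⟨O, hO⟩ : ∃ O : Subgroup G, O = Cfsg.pPrimeCore 2 G := ⟨_, rfl⟩
  have hOn : O.Normal := by rw [hO]; exact Helper1_Cores.pPrimeCore_normal 2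
  have hOcop : (Nat.card O).Coprime 2 := by rw [hO]; exact Helper1_Cores.pPrimeCore_card_coprime 2
  have hOodd : Odd (Nat.card O) := Nat.coprime_two_right.mp hOcop
  have hBq : PropB (G ⧸ O) := propB_quotient_odd hB hsol O hOodd
  have hsolq : Group.IsSolvable (G ⧸ O) := inferInstance
  have hcore : Cfsg.pPrimeCore 2 (G ⧸ O) = ⊥ := by
    subst hO; exact Helper55_Fitting.pPrimeCore_quotient_pPrimeCore 2
  obtain ⟨T, hT⟩ : ∃ T : Subgroup (G ⧸ O), T = Cfsg.pCore 2 (G ⧸ O) := ⟨_, rfl⟩
  have hTn : T.Normal := by rw [hT]; exact Helper1_Cores.pCore_normal 2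
  have hTC : centralizer (T : Set (G ⧸ O)) ≤ T := by
    rw [hT]; exact Helper55_Fitting.centralizer_pCore_le 2 hcore
  have hTp : IsPGroup 2 T := by rw [hT]; exact Helper1_Cores.pCore_isPGroup 2
  -- the quotient map is injective on `P`
  have hcardP : Nat.card (P : Subgroup G) = 2 ^ (n + 4) := by
    rw [Nat.card_congr e.toEquiv, Nat.card_eq_fintype_card, QuaternionGroup.card]
    ring
  have hPO : (P : Subgroup G) ⊓ O = ⊥ := by
    apply disjoint_iff.mp
    apply Subgroup.disjoint_of_coprime_natCard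
    rw [hcardP]
    exact Nat.Coprime.pow_left _ hOcop.symm
  have hinj : ∀ x ∈ (P : Subgroup G), (QuotientGroup.mk' O) x = 1 → x = 1 := by
    intro x hx h1
    have h3 : x ∈ O := (QuotientGroup.eq_one_iff x).mp h1
    have h4 : x ∈ (P : Subgroup G) ⊓ O := ⟨hx, h3⟩
    rw [hPO] at h4
    exact h4
  obtain ⟨ψ, hψ⟩ : ∃ ψ : ↥(P : Subgroup G) →* G ⧸ O,
      ψ = (QuotientGroup.mk' O).comp (P : Subgroup G).subtype := ⟨_, rfl⟩
  have hψa : ∀ x : ↥(P : Subgroup G), ψ x = QuotientGroup.mk' O (x : G) := by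
    intro x; rw [hψ]; rfl
  have hψinj : Function.Injective ψ := by
    rw [injective_iff_map_eq_one]
    intro x hx
    rw [hψa] at hx
    exact Subtype.ext (hinj x x.2 hx)
  have hord : ∀ x ∈ (P : Subgroup G), orderOf (QuotientGroup.mk' O x) = orderOf x := by
    intro x hx
    have := orderOf_injective ψ hψinj ⟨x, hx⟩
    rw [hψa, Subgroup.orderOf_mk] at this
    exact this
  -- `ψ.range` is a Sylow `2`-subgroup of the quotient
  have hcardR : Nat.card ψ.range = 2 ^ (n + 4) := by
    rw [← Nat.card_congr (MonoidHom.ofInjective hψinj).toEquiv, hcardP]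
  have hfactG : (Nat.card G).factorization 2 = n + 4 := by
    have := Sylow.card_eq_multiplicity P
    rw [hcardP] at this
    exact (Nat.pow_right_injective (le_refl 2) this).symm
  have hfactQ : (Nat.card (G ⧸ O)).factorization 2 = n + 4 := by
    have h3 := Subgroup.card_eq_card_quotient_mul_card_subgroup O
    have h4 : (Nat.card O).factorization 2 = 0 :=
      Nat.factorization_eq_zero_of_not_dvd (fun hd => by
        have := Nat.Coprime.eq_one_of_dvd hOcop.symm hd
        omega)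
    have h5 := congrArg (fun m => m.factorization 2) h3
    rw [Nat.factorization_mul Nat.card_pos.ne' Nat.card_pos.ne', Finsupp.add_apply, h4,
      add_zero] at h5
    rw [← h5, hfactG]
  obtain ⟨Pbar, hPbar⟩ : ∃ Pbar : Sylow 2 (G ⧸ O), (Pbar : Subgroup (G ⧸ O)) = ψ.range :=
    ⟨Sylow.ofCard ψ.range (by rw [hcardR, hfactQ]), rfl⟩
  have hTR : T ≤ ψ.range := by
    rw [← hPbar, hT]; exact Helper1_Cores.pCore_le_sylow 2 Pbar
  -- elements of `T` of order dividing `2`
  have hinvol : ∀ t ∈ T, t ^ 2 = 1 → t = 1 ∨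
      t = QuotientGroup.mk' O (A e ((2 ^ (n + 2) : ℕ) : ZMod (2 * 2 ^ (n + 2)))) := by
    intro t ht ht2
    obtain ⟨x, rfl⟩ := hTR ht
    rw [hψa] at ht2 ⊢
    have hx2 : (x : G) ^ 2 = 1 := by
      apply hinj _ (Subgroup.pow_mem _ x.2 2)
      rw [map_pow]; exact ht2
    by_cases hx1 : (x : G) = 1
    · left; rw [hx1, map_one]
    · right
      rw [eq_of_sq_eq_one e x.2 hx2 hx1]
  -- an element of order `4` in `T`
  have hex4 : ∃ u ∈ T, orderOf u = 4 := by
    by_cases hsq : ∀ t ∈ T, t ^ 2 = 1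
    · exfalso
      have hcent : ∀ g : G ⧸ O, g ∈ centralizer (T : Set (G ⧸ O)) := by
        intro g
        rw [mem_centralizer_iff]
        intro t ht
        have hc : g * t * g⁻¹ ∈ T := hTn.conj_mem t ht g
        have hne : t ≠ 1 → g * t * g⁻¹ ≠ 1 := by
          intro h1 h3
          apply h1
          have : t = g⁻¹ * (g * t * g⁻¹) * g := by group
          rw [this, h3]; group
        have heq : g * t * g⁻¹ = t := by
          by_cases ht1 : t = 1
          · rw [ht1]; group
          · rcases hinvol t ht (hsq t ht) with h1 | h1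
            · exact absurd h1 ht1
            · rcases hinvol _ hc (hsq _ hc) with h3 | h3
              · exact absurd h3 (hne ht1)
              · rw [h3, ← h1]
        calc t * g = (g * t * g⁻¹) * g := by rw [heq]
          _ = g * t := by group
      have h3 : QuotientGroup.mk' O (A e 1) ∈ T := hTC (hcent _)
      have h4 := hsq _ h3
      rw [← map_pow] at h4
      have h5 : (A e 1) ^ 2 = 1 := hinj _ (Subgroup.pow_mem _ (A_mem e 1) 2) h4
      have h6 := orderOf_dvd_of_pow_eq_one h5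
      rw [Cfsg.Agent.Lib.Helper55_BSQuat.orderOf_A_one] at h6
      have h7 := Nat.le_of_dvd (by norm_num) h6
      have : 8 ≤ 2 ^ (n + 3) := by
        calc 8 = 2 ^ 3 := by norm_num
          _ ≤ 2 ^ (n + 3) := Nat.pow_le_pow_right (by norm_num) (by omega)
      omega
    · push Not at hsq
      obtain ⟨t, ht, ht2⟩ := hsq
      obtain ⟨k, hk⟩ := (IsPGroup.iff_orderOf.mp hTp) ⟨t, ht⟩
      rw [Subgroup.orderOf_mk] at hk
      have hk2 : 2 ≤ k := by
        by_contra hcon
        push Not at hcon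
        apply ht2
        have hd : orderOf t ∣ 2 := by
          rw [hk]
          calc 2 ^ k ∣ 2 ^ 1 := pow_dvd_pow 2 (by omega)
            _ = 2 := pow_one 2
        exact orderOf_dvd_iff_pow_eq_one.mp hd
      refine ⟨t ^ 2 ^ (k - 2), Subgroup.pow_mem _ ht _, ?_⟩
      rw [orderOf_pow' _ (pow_ne_zero _ (by norm_num)), hk,
        Nat.gcd_eq_right (pow_dvd_pow 2 (by omega)), Nat.pow_div (by omega) (by norm_num)]
      have : k - (k - 2) = 2 := by omega
      rw [this]
  obtain ⟨u, huT, hu4⟩ := hex4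
  have hall4 : ∀ a : G ⧸ O, orderOf a = 4 → a ∈ T := by
    intro a ha
    exact Cfsg.Agent.S3909.part1 hBq T a ⟨u, huT, by rw [hu4, ha]⟩
  have hXA : ∀ i, QuotientGroup.mk' O (XA e i) ∈ T := by
    intro i
    apply hall4
    rw [hord _ (XA_mem e i), orderOf_XA]
  have hRT : ψ.range ≤ T := by
    rintro _ ⟨x, rfl⟩
    rw [hψa]
    rcases cases_mem e x.2 with ⟨i, hi⟩ | ⟨i, hi⟩
    · have h3 : A e i = XA e 0 * XA e (i - ((2 ^ (n + 2) : ℕ) : ZMod (2 * 2 ^ (n + 2)))) := by
        rw [XA_mul_XA]; congr 1; ring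
      rw [hi, h3, map_mul]
      exact T.mul_mem (hXA _) (hXA _)
    · rw [hi]; exact hXA i
  have hTeq : T = ψ.range := le_antisymm hTR hRT
  have hpg : IsPGroup 2 (G ⧸ O) :=
    isPGroup_two_of_quaternion_normal
      ((MulEquiv.subgroupCongr hTeq).trans ((MonoidHom.ofInjective hψinj).symm.trans e)) hTC
  have hnil : Group.IsNilpotent (G ⧸ O) := hpg.isNilpotent
  have hcyc : IsCyclic (G ⧸ O) := Cfsg.Agent.S3910.result hBq hnil
  obtain ⟨g, hg⟩ := IsCyclic.exists_generator (α := G ⧸ O)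
  have hcomm : ∀ a b : G ⧸ O, a * b = b * a := by
    intro a b
    obtain ⟨i, rfl⟩ := Subgroup.mem_zpowers_iff.mp (hg a)
    obtain ⟨j, rfl⟩ := Subgroup.mem_zpowers_iff.mp (hg b)
    rw [← zpow_add, ← zpow_add, add_comm]
  have h5 := hcomm (QuotientGroup.mk' O (A e 1)) (QuotientGroup.mk' O (XA e 0))
  rw [← map_mul, ← map_mul, A_mul_XA, XA_mul_A] at h5
  have h6 : QuotientGroup.mk' O (XA e (0 - 1) * (XA e (0 + 1))⁻¹) = 1 := by
    rw [map_mul, map_inv, h5, mul_inv_cancel]
  have h7 := hinj _ (Subgroup.mul_mem _ (XA_mem e _) (Subgroup.inv_mem _ (XA_mem e _))) h6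
  have h8 : XA e (0 - 1) = XA e (0 + 1) := mul_inv_eq_one.mp h7
  have h9 := XA_injective e h8
  have h10 : ((2 : ℕ) : ZMod (2 * 2 ^ (n + 2))) = 0 := by
    push_cast
    linear_combination -h9
  rw [ZMod.natCast_eq_zero_iff] at h10
  have h11 := Nat.le_of_dvd (by norm_num) h10
  have h12 : 2 ^ (n + 2) = 4 * 2 ^ n := by ring
  have h13 : 0 < 2 ^ n := by positivity
  omega

/-- The case of quaternion Sylow `2`-subgroups of order `8`. -/
theorem conj_of_Q8 {G : Type u} [Group G] [Finite G] (hB : PropB G) (N : Subgroup G) [N.Normal]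
    (hNcard : Nat.card N = 2) (P : Sylow 2 G) (hP : Nat.card (P : Subgroup G) = 8)
    (A B : Subgroup G) (hNA : N ≤ A) (hNB : N ≤ B) (hA : ∀ x ∈ A, ∀ y ∈ A, ⁅x, y⁆ ∈ N)
    (hB' : ∀ x ∈ B, ∀ y ∈ B, ⁅x, y⁆ ∈ N) (hcard : Nat.card A = Nat.card B)
    (h4 : 2 ^ 2 ∣ Nat.card A) : ∃ g : G, B = A.map (MulAut.conj g).toMonoidHom := by
  have h2 : Fact (Nat.Prime 2) := ⟨Nat.prime_two⟩
  have hNp : IsPGroup 2 N := IsPGroup.of_card (n := 1) (by rw [hNcard, pow_one])
  have hNexp : ∀ m ∈ N, m ^ 2 = 1 := by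
    intro m hm
    have h1 : (⟨m, hm⟩ : N) ^ Nat.card N = 1 := pow_card_eq_one'
    rw [hNcard] at h1
    exact congrArg Subtype.val h1
  obtain ⟨Ap, K, -, hApA, hKA, hAsup, hApcard, hAmul, hKcop, hKc⟩ := decomp N A hNp hNA hA
  obtain ⟨Bp, L, -, hBpB, hLB, hBsup, hBpcard, hBmul, hLcop, hLc⟩ := decomp N B hNp hNB hB'
  have hfactG : (Nat.card G).factorization 2 = 3 := by
    have := Sylow.card_eq_multiplicity P
    rw [hP] at this
    have h8 : (8 : ℕ) = 2 ^ 3 := by norm_num
    rw [h8] at this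
    exact (Nat.pow_right_injective (le_refl 2) this).symm
  have hfA2 : 2 ≤ (Nat.card A).factorization 2 :=
    (Nat.prime_two.pow_dvd_iff_le_factorization Nat.card_pos.ne').mp h4
  have hfA3 : (Nat.card A).factorization 2 ≤ 3 := by
    rw [← hfactG]
    exact (Nat.factorization_le_iff_dvd Nat.card_pos.ne' Nat.card_pos.ne').mpr
      (Subgroup.card_subgroup_dvd_card A) 2
  have hc : ∀ (X : Subgroup G), ∀ k ∈ X, ∀ m ∈ N, k * m = m * k := fun _ k _ m hm =>
    (Cfsg.Agent.Lib.Helper17_Sylow.commute_of_normal_of_card_eq_two N hNcard m hm k).eq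
  have hcA := centralizes N A Ap K hA hNexp hApA hKA hKcop (hc K)
  have hcB := centralizes N B Bp L hB' hNexp hBpB hLB hLcop (hc L)
  rw [← hcard] at hBpcard
  have hKL : Nat.card K = Nat.card L := by
    have hpos : 0 < Nat.card Ap := Nat.card_pos
    apply Nat.eq_of_mul_eq_mul_left hpos
    rw [hAmul, hApcard, ← hBpcard, hBmul, hcard]
  have hcases : (Nat.card A).factorization 2 = 2 ∨ (Nat.card A).factorization 2 = 3 := by omega
  rcases hcases with h | h
  · rw [h] at hApcard hBpcard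
    have hApc : IsMulCommutative ↥Ap := IsPGroup.isMulCommutative_of_card_eq_prime_sq hApcard
    have hBpc : IsMulCommutative ↥Bp := IsPGroup.isMulCommutative_of_card_eq_prime_sq hBpcard
    exact hB A B (comm_of_decomp A Ap K hAsup hApc hKc hcA)
      (comm_of_decomp B Bp L hBsup hBpc hLc hcB) hcard
  · rw [h, ← hfactG] at hApcard hBpcard
    exact conj_of_decomp hB A B Ap K Bp L hAsup hBsup hKc hLc hKL hApcard hBpcard hcA hcB

/-- The general step. -/
theorem step_all (G : Type u) [Group G] [Finite G] (hB : PropB G) (hsol : Group.IsSolvable G)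
    (N : Subgroup G) [N.Normal] (p : ℕ) (hp : p.Prime) (_h : True) (hNc : IsMulCommutative ↥N)
    (hexp : ∀ x ∈ N, x ^ p = 1) (hN : N ≠ ⊥) : PropB (G ⧸ N) := by
  by_cases hp2 : p = 2
  · subst hp2
    have : Fact (Nat.Prime 2) := ⟨hp⟩
    apply step_core hB N 2 hNc hexp hN
    intro A B hNA hNB hA hB' hcard hNcard hp2A hncyc
    push Not at hncyc
    obtain ⟨P, hPnc⟩ := hncyc
    have hp2G : 2 ^ 2 ∣ Nat.card G := hp2A.trans (Subgroup.card_subgroup_dvd_card A)
    rcases (Cfsg.Agent.S3908.result hB).1 P with h | h | ⟨k, ⟨e⟩⟩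
    · exact absurd h hPnc
    · exact absurd h.2 (not_exponent N hNcard (mem_of_orderOf hB N hNcard) hp2G P)
    · rcases k with _ | _ | k
      · exfalso
        apply hPnc
        have hc1 : IsCyclic (QuaternionGroup (2 ^ 0)) := QuaternionGroup.quaternionGroup_one_isCyclic
        exact isCyclic_of_surjective e.symm e.symm.surjective
      · have hNZ : NeZero (2 ^ (0 + 1)) := ⟨by norm_num⟩
        have hPcard : Nat.card (P : Subgroup G) = 8 := by
          rw [Nat.card_congr e.toEquiv, Nat.card_eq_fintype_card, QuaternionGroup.card]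
          norm_num
        exact conj_of_Q8 hB N hNcard P hPcard A B hNA hNB hA hB' hcard hp2A
      · exact (no_big_quaternion hB hsol P k e).elim
  · exact step_odd G hB hsol N p hp hp2 hNc hexp hN

/-- Quotients of a finite solvable `(B)`-group have `(B)`. -/
theorem main {G : Type u} [Group G] [Finite G] (hB : PropB G) (hsol : Group.IsSolvable G)
    (M : Subgroup G) [M.Normal] : PropB (G ⧸ M) :=
  quot_induction (π := fun _ => True) step_all (Nat.card M) G hB hsol M
    (fun _ _ _ => trivial) rfl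

end Cfsg.Agent.Lib.Helper55_BQuotE
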