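import Mathlib
import Cfsg.Agent.Lib.Helper77_BSWDefs
import Cfsg.Agent.Lib.Helper1_FPF
import Cfsg.Agent.S0739

/-!
# S3282 package B6b (helper55): the subgroup `D` in the case `q = 2k + 1`

`N(Q)` has even order `qk`; an involution `u` of it inverts `Q`, `N(Q) = Q ⋊ C_{N(Q)}(u)` and
`C_{N(Q)}(u)` is a conjugate `D` of `K`.
-/

set_option autoImplicit false
open Cfsg

namespace Cfsg.Agent.Lib.Helper55_BSW_B6b

open Cfsg.Agent.Lib.Helper77_BSWDefs

variable {G : Type*} [Group G]

/-- An involution of `N(Q)` is fixed-point-free on `Q` and inverts it. -/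
theorem invol_inverts [Finite G] {Q : Subgroup G} {k : ℕ} (hQ : Nat.card Q = 2 * k + 1)
    (hcent : ∀ x ∈ Q, x ≠ 1 → Subgroup.centralizer ({x} : Set G) = Q)
    {v : G} (hv : orderOf v = 2) (hvN : v ∈ Subgroup.normalizer (Q : Set G)) :
    (∀ x ∈ Q, v * x = x * v → x = 1) ∧ ∀ x ∈ Q, v * x * v⁻¹ = x⁻¹ := by
  have hvv : v * v = 1 := by rw [← pow_two, ← hv, pow_orderOf_eq_one]
  have hfpf : ∀ x ∈ Q, v * x = x * v → x = 1 := by
    intro x hx hc
    by_contra hne
    have hvQ : v ∈ Q := by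
      rw [← hcent x hx hne, Subgroup.mem_centralizer_iff]
      intro y hy
      rw [Set.mem_singleton_iff] at hy
      subst hy
      exact hc.symm
    have hdvd : orderOf v ∣ Nat.card Q := Subgroup.orderOf_dvd_natCard Q hvQ
    rw [hv, hQ] at hdvd
    omega
  refine ⟨hfpf, Cfsg.Agent.S0739.inverts_of_fpf Q v hvv ?_ hfpf⟩
  intro x hx
  exact (Subgroup.mem_normalizer_iff.mp hvN x).mp hx

/-- The product of two involutions of `N(Q)` lies in `Q`. -/
theorem mul_invol_mem [Finite G] {Q : Subgroup G} {k : ℕ} (hk : 0 < k)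
    (hQ : Nat.card Q = 2 * k + 1)
    (hcent : ∀ x ∈ Q, x ≠ 1 → Subgroup.centralizer ({x} : Set G) = Q)
    {u v : G} (hu : orderOf u = 2) (huN : u ∈ Subgroup.normalizer (Q : Set G))
    (hv : orderOf v = 2) (hvN : v ∈ Subgroup.normalizer (Q : Set G)) : v * u ∈ Q := by
  have hne : Q ≠ ⊥ := by
    intro hbot
    rw [hbot, Subgroup.card_bot] at hQ
    omega
  obtain ⟨⟨x, hx⟩, hx1⟩ := (Subgroup.ne_bot_iff_exists_ne_one).mp hne
  have hx1' : x ≠ 1 := fun h => hx1 (Subtype.ext h)
  have h1 := (invol_inverts hQ hcent hu huN).2 x hx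
  have h2 := (invol_inverts hQ hcent hv hvN).2 x⁻¹ (Q.inv_mem hx)
  rw [inv_inv] at h2
  rw [← hcent x hx hx1', Subgroup.mem_centralizer_iff]
  intro y hy
  rw [Set.mem_singleton_iff] at hy
  subst hy
  have e1 : u * y = y⁻¹ * u := by
    calc u * y = (u * y * u⁻¹) * u := by group
      _ = y⁻¹ * u := by rw [h1]
  have e2 : v * y⁻¹ = y * v := by
    calc v * y⁻¹ = (v * y⁻¹ * v⁻¹) * v := by group
      _ = y * v := by rw [h2]
  calc y * (v * u) = (y * v) * u := by group
    _ = v * y⁻¹ * u := by rw [e2]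
    _ = v * (y⁻¹ * u) := by group
    _ = v * (u * y) := by rw [e1]
    _ = v * u * y := by group

/-- Every element of `N(Q)` is the product of an element of `Q` and an element centralizing the
involution `u`. -/
theorem decomp [Finite G] {Q : Subgroup G} {k : ℕ} (hk : 0 < k) (hQ : Nat.card Q = 2 * k + 1)
    (hcent : ∀ x ∈ Q, x ≠ 1 → Subgroup.centralizer ({x} : Set G) = Q)
    {u : G} (hu : orderOf u = 2) (huN : u ∈ Subgroup.normalizer (Q : Set G))
    {n : G} (hn : n ∈ Subgroup.normalizer (Q : Set G)) :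
    ∃ y ∈ Q, u * (y⁻¹ * n) = (y⁻¹ * n) * u := by
  have huu : u * u = 1 := by rw [← pow_two, ← hu, pow_orderOf_eq_one]
  have hv : orderOf (n * u * n⁻¹) = 2 := by
    rw [← MulAut.conj_apply, MulEquiv.orderOf_eq]; exact hu
  have hvN : n * u * n⁻¹ ∈ Subgroup.normalizer (Q : Set G) :=
    Subgroup.mul_mem _ (Subgroup.mul_mem _ hn huN) (Subgroup.inv_mem _ hn)
  have hz : n * u * n⁻¹ * u ∈ Q := mul_invol_mem hk hQ hcent hu huN hv hvN
  obtain ⟨z, hzdef⟩ : ∃ z, z = n * u * n⁻¹ * u := ⟨_, rfl⟩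
  rw [← hzdef] at hz
  have hzq : z ^ (2 * k + 1) = 1 := by
    have := pow_card_eq_one' (G := Q) (x := ⟨z, hz⟩)
    rw [hQ] at this
    simpa using congrArg Subtype.val this
  have hy : z ^ (k + 1) ∈ Q := Q.pow_mem hz _
  refine ⟨z ^ (k + 1), hy, ?_⟩
  have hyy : z ^ (k + 1) * z ^ (k + 1) = z := by
    rw [← pow_add]
    have : k + 1 + (k + 1) = (2 * k + 1) + 1 := by ring
    rw [this, pow_succ, hzq, one_mul]
  have hinv := (invol_inverts hQ hcent hu huN).2 _ (Q.inv_mem hy)
  rw [inv_inv] at hinv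
  -- `u y⁻¹ u⁻¹ = y`
  obtain ⟨y, hydef⟩ : ∃ y, y = z ^ (k + 1) := ⟨_, rfl⟩
  rw [← hydef] at hinv hyy ⊢
  have e1 : u * y⁻¹ = y * u := by
    calc u * y⁻¹ = (u * y⁻¹ * u⁻¹) * u := by group
      _ = y * u := by rw [hinv]
  have e2 : y * u * y⁻¹ = n * u * n⁻¹ := by
    calc y * u * y⁻¹ = y * (u * y⁻¹) := by group
      _ = y * (y * u) := by rw [e1]
      _ = (y * y) * u := by group
      _ = z * u := by rw [hyy]
      _ = n * u * n⁻¹ * (u * u) := by rw [hzdef]; group
      _ = n * u * n⁻¹ := by rw [huu, mul_one]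
  calc u * (y⁻¹ * n) = y⁻¹ * (y * u * y⁻¹) * n := by group
    _ = y⁻¹ * (n * u * n⁻¹) * n := by rw [e2]
    _ = y⁻¹ * n * u := by group

/-- The normalizer of a non-trivial subgroup of `K` is `C(t)`. -/
theorem normalizer_eq_of_le_K [Finite G] {t s : G} {K : Subgroup G}
    (hB : Basics t s K) (X : Subgroup G) (hXK : X ≤ K) (hX : X ≠ ⊥) :
    Subgroup.normalizer (X : Set G) = Subgroup.centralizer ({t} : Set G) := by
  apply le_antisymm
  · intro g hg
    obtain ⟨⟨y, hy⟩, hy1⟩ := (Subgroup.ne_bot_iff_exists_ne_one).mp hX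
    have hy1' : y ≠ 1 := fun e => hy1 (Subtype.ext e)
    have hmem : g⁻¹ * y * g ∈ X := (Subgroup.mem_normalizer_iff''.mp hg y).mp hy
    exact hB.mem_H_of_conj_mem y (hXK hy) hy1' g (hXK hmem)
  · intro g hg
    have hginv : g⁻¹ ∈ Subgroup.normalizer (X : Set G) := by
      apply Subgroup.mem_normalizer_fintype
      intro n hn
      have hnX : n ∈ X := hn
      rw [inv_inv]
      rcases (hB.mem_H_iff g).mp hg with hgK | ⟨a, ha, rfl⟩
      · rw [hB.conj_of_mem_K n (hXK hnX) g hgK]; exact hn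
      · rw [hB.conj_of_mem_Ks n (hXK hnX) a ha]; exact X.inv_mem hnX
    simpa using Subgroup.inv_mem _ hginv

/-- Transport of the local structure of `K` to a conjugate `D = x₀ K x₀⁻¹`. -/
theorem transport [Finite G] {t s : G} {K : Subgroup G}
    (h : Setup t s K) (hB : Basics t s K) (x₀ : G) :
    ∀ X : Subgroup G, X ≤ K.map (MulAut.conj x₀).toMonoidHom → X ≠ ⊥ →
      Subgroup.normalizer (X : Set G) =
        Subgroup.normalizer ((K.map (MulAut.conj x₀).toMonoidHom : Subgroup G) : Set G) ∧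
      ∃ u : G, orderOf u = 2 ∧ u ∉ K.map (MulAut.conj x₀).toMonoidHom ∧
        (∀ d ∈ K.map (MulAut.conj x₀).toMonoidHom, u * d * u⁻¹ = d⁻¹) ∧
        Subgroup.normalizer ((K.map (MulAut.conj x₀).toMonoidHom : Subgroup G) : Set G) =
          K.map (MulAut.conj x₀).toMonoidHom ⊔ Subgroup.zpowers u := by
  obtain ⟨φ, hφ⟩ : ∃ φ : G ≃* G, φ = MulAut.conj x₀ := ⟨_, rfl⟩
  rw [← hφ]
  have hinj : Function.Injective φ.toMonoidHom := φ.injective
  have hsurj : Function.Surjective φ.toMonoidHom := φ.surjective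
  have hKne : K ≠ ⊥ := by
    intro hbot
    have : t ∈ (⊥ : Subgroup G) := hbot ▸ h.htK
    rw [Subgroup.mem_bot] at this
    have h2 := h.ht
    rw [this, orderOf_one] at h2
    omega
  have hNK : Subgroup.normalizer (K : Set G) = Subgroup.centralizer ({t} : Set G) :=
    normalizer_eq_of_le_K hB K le_rfl hKne
  have hND : Subgroup.normalizer ((K.map φ.toMonoidHom : Subgroup G) : Set G) =
      (Subgroup.centralizer ({t} : Set G)).map φ.toMonoidHom := by
    rw [← Subgroup.map_equiv_normalizer_eq, hNK]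
  intro X hXD hX
  refine ⟨?_, φ s, ?_, ?_, ?_, ?_⟩
  · have hXmap : (X.comap φ.toMonoidHom).map φ.toMonoidHom = X :=
      Subgroup.map_comap_eq_self_of_surjective hsurj X
    have hX'K : X.comap φ.toMonoidHom ≤ K := by
      have := Subgroup.comap_mono (f := φ.toMonoidHom) hXD
      rwa [Subgroup.comap_map_eq_self_of_injective hinj] at this
    have hX'ne : X.comap φ.toMonoidHom ≠ ⊥ := by
      intro hbot
      rw [hbot, Subgroup.map_bot] at hXmap
      exact hX hXmap.symm
    have hNX' := normalizer_eq_of_le_K hB _ hX'K hX'ne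
    rw [hND, ← hNX', Subgroup.map_equiv_normalizer_eq, hXmap]
  · rw [MulEquiv.orderOf_eq]; exact h.hs
  · intro hmem
    obtain ⟨a, ha, hae⟩ := Subgroup.mem_map.mp hmem
    have : a = s := hinj hae
    exact h.hsK (this ▸ ha)
  · intro d hd
    obtain ⟨a, ha, rfl⟩ := Subgroup.mem_map.mp hd
    have := h.hinv a ha
    change φ s * φ a * (φ s)⁻¹ = (φ a)⁻¹
    rw [← map_inv, ← map_mul, ← map_mul, this, map_inv]
  · rw [hND, ← h.hH, Subgroup.map_sup, MonoidHom.map_zpowers]
    rfl

/-- **PKG B6b**: the subgroup `D` in the case `q = 2k + 1`. -/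
theorem exists_D_plus {G : Type*} [Group G] [Finite G] {t s : G} {K : Subgroup G}
    (h : Setup t s K) (hB : Basics t s K) (q : ℕ) (hq : q = 2 * Nat.card K + 1)
    (Q : Subgroup G) (hQ : Nat.card Q = q)
    (hcent : ∀ x ∈ Q, x ≠ 1 → Subgroup.centralizer ({x} : Set G) = Q)
    (hN : 2 * Nat.card (Subgroup.normalizer (Q : Set G)) = q * (q - 1)) :
    ∃ D : Subgroup G, IsMulCommutative ↥D ∧ 2 * Nat.card ↥D + 1 = q ∧ Q ⊓ D = ⊥ ∧
      Subgroup.normalizer (Q : Set G) = Q ⊔ D ∧
      ∀ X : Subgroup G, X ≤ D → X ≠ ⊥ →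
        Subgroup.normalizer (X : Set G) = Subgroup.normalizer (D : Set G) ∧
        ∃ u : G, orderOf u = 2 ∧ u ∉ D ∧ (∀ d ∈ D, u * d * u⁻¹ = d⁻¹) ∧
          Subgroup.normalizer (D : Set G) = D ⊔ Subgroup.zpowers u := by
  obtain ⟨k, hkdef⟩ : ∃ k, k = Nat.card K := ⟨_, rfl⟩
  rw [← hkdef] at hq
  have hkpos : 0 < k := by rw [hkdef]; exact Nat.card_pos
  have hkeven : Even k := hkdef ▸ hB.even_card
  have hQ' : Nat.card Q = 2 * k + 1 := by rw [hQ, hq]
  -- the order of `N(Q)`
  have hNcard : Nat.card (Subgroup.normalizer (Q : Set G)) = (2 * k + 1) * k := by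
    have e : q - 1 = 2 * k := by omega
    rw [e, hq] at hN
    have : 2 * Nat.card (Subgroup.normalizer (Q : Set G)) = 2 * ((2 * k + 1) * k) := by
      rw [hN]; ring
    exact Nat.eq_of_mul_eq_mul_left (by norm_num) this
  -- an involution of `N(Q)`
  obtain ⟨u, hu, huN⟩ : ∃ u : G, orderOf u = 2 ∧ u ∈ Subgroup.normalizer (Q : Set G) := by
    have h2 : 2 ∣ Nat.card (Subgroup.normalizer (Q : Set G)) := by
      rw [hNcard]; exact Dvd.dvd.mul_left hkeven.two_dvd _
    have : Fact (Nat.Prime 2) := ⟨Nat.prime_two⟩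
    obtain ⟨w, hw⟩ := exists_prime_orderOf_dvd_card' (G := ↥(Subgroup.normalizer (Q : Set G))) 2 h2
    exact ⟨(w : G), by rw [Subgroup.orderOf_coe]; exact hw, w.2⟩
  have huu : u * u = 1 := by rw [← pow_two, ← hu, pow_orderOf_eq_one]
  have hfpf := (invol_inverts hQ' hcent hu huN).1
  -- `D₀ = C_{N(Q)}(u)`
  obtain ⟨D₀, hD₀⟩ : ∃ D₀ : Subgroup G,
      D₀ = Subgroup.normalizer (Q : Set G) ⊓ Subgroup.centralizer ({u} : Set G) := ⟨_, rfl⟩
  have hD₀N : D₀ ≤ Subgroup.normalizer (Q : Set G) := hD₀ ▸ inf_le_left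
  have hD₀C : ∀ d ∈ D₀, u * d = d * u := by
    intro d hd
    rw [hD₀] at hd
    have : d ∈ Subgroup.centralizer ({u} : Set G) := hd.2
    exact Subgroup.mem_centralizer_iff.mp this u (Set.mem_singleton u)
  have hQD₀ : Q ⊓ D₀ = ⊥ := by
    rw [Subgroup.eq_bot_iff_forall]
    intro x hx
    have hxQ : x ∈ Q := hx.1
    have hxD : x ∈ D₀ := hx.2
    exact hfpf x hxQ (hD₀C x hxD)
  have hNsup : Subgroup.normalizer (Q : Set G) = Q ⊔ D₀ := by
    apply le_antisymm
    · intro n hn
      obtain ⟨y, hy, hc⟩ := decomp hkpos hQ' hcent hu huN hn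
      have hmem : y⁻¹ * n ∈ D₀ := by
        rw [hD₀]
        refine Subgroup.mem_inf.mpr
          ⟨Subgroup.mul_mem _ (Subgroup.inv_mem _ (Subgroup.le_normalizer hy)) hn, ?_⟩
        rw [Subgroup.mem_centralizer_iff]
        intro w hw
        rw [Set.mem_singleton_iff] at hw
        subst hw
        exact hc
      have : n = y * (y⁻¹ * n) := by group
      rw [this]
      exact Subgroup.mul_mem_sup hy hmem
    · exact sup_le Subgroup.le_normalizer hD₀N
  have hD₀card : Nat.card D₀ = k := by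
    have hc := Cfsg.Agent.Lib.Helper1_FPF.card_sup_of_le_normalizer D₀ Q hD₀N
      (by rw [inf_comm]; exact hQD₀)
    rw [sup_comm, ← hNsup, hNcard, hQ'] at hc
    have : (2 * k + 1) * k = (2 * k + 1) * Nat.card D₀ := by rw [hc]; ring
    exact (Nat.eq_of_mul_eq_mul_left (by omega) this).symm
  -- `u` is a conjugate of `t`
  obtain ⟨x₀, hx₀⟩ := hB.exists_conj_invol u hu
  refine ⟨K.map (MulAut.conj x₀).toMonoidHom, ?_, ?_, ?_, ?_, transport h hB x₀⟩
  · have : IsMulCommutative ↥K := ⟨⟨fun a b => Subtype.ext (h.comm a a.2 b b.2)⟩⟩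
    infer_instance
  · rw [Subgroup.card_map_of_injective (MulAut.conj x₀).injective, ← hkdef, hq]
  all_goals
    have hDeq : D₀ = K.map (MulAut.conj x₀).toMonoidHom := by
      apply Subgroup.eq_of_le_of_card_ge
      · intro d hd
        have hdu := hD₀C d hd
        have hd'H : x₀⁻¹ * d * x₀ ∈ Subgroup.centralizer ({t} : Set G) := by
          rw [Subgroup.mem_centralizer_iff]
          intro w hw
          rw [Set.mem_singleton_iff] at hw
          subst hw
          rw [hx₀] at hdu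
          calc w * (x₀⁻¹ * d * x₀) = x₀⁻¹ * (x₀ * w * x₀⁻¹ * d) * x₀ := by group
            _ = x₀⁻¹ * (d * (x₀ * w * x₀⁻¹)) * x₀ := by rw [hdu]
            _ = x₀⁻¹ * d * x₀ * w := by group
        rcases (hB.mem_H_iff _).mp hd'H with hdK | ⟨a, ha, hda⟩
        · refine Subgroup.mem_map.mpr ⟨x₀⁻¹ * d * x₀, hdK, ?_⟩
          change x₀ * (x₀⁻¹ * d * x₀) * x₀⁻¹ = d
          group
        · exfalso
          have hdord : orderOf d = 2 := by
            have e : d = (MulAut.conj x₀) (a * s) := by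
              rw [MulAut.conj_apply, ← hda]; group
            rw [e, MulEquiv.orderOf_eq]
            exact hB.orderOf_mul_s a ha
          have hduQ : d * u ∈ Q := mul_invol_mem hkpos hQ' hcent hu huN hdord (hD₀N hd)
          have hdu1 : d * u = 1 := by
            apply hfpf _ hduQ
            rw [← mul_assoc, hdu]
          have hdu' : d = u := by
            have : d = (d * u) * u := by rw [mul_assoc, huu, mul_one]
            rw [this, hdu1, one_mul]
          have hts : t = a * s := by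
            rw [← hda, hdu', hx₀]; group
          apply h.hsK
          have : s = a⁻¹ * t := by rw [hts]; group
          rw [this]
          exact K.mul_mem (K.inv_mem ha) h.htK
      · rw [Subgroup.card_map_of_injective (MulAut.conj x₀).injective, hD₀card, hkdef]
    rw [← hDeq]
  · exact hQD₀
  · exact hNsup

end Cfsg.Agent.Lib.Helper55_BSW_B6b
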