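import Mathlib
import Cfsg.Prelude.Def_Solvable
import Cfsg.Prelude.Def_Transfer
import Cfsg.Agent.Lib.Helper51_CMDefs
import Cfsg.Agent.Lib.Helper51_CMRho

set_option autoImplicit false

/-!
# S3905 package CM-P0-A1 (architect helper51): paper Case A, `x ^ r ∈ Z(N)` for a prime `r`
-/

open Cfsg Cfsg.Agent.Lib.Helper51_CMDefs Cfsg.Agent.Lib.Helper51_CMRho

namespace Cfsg.Agent.Lib.Helper55_CM_P0_A1

section Aux

variable {G : Type*} [Group G]

/-- the commutator `g x g⁻¹ x⁻¹` -/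
def cm (x g : G) : G := g * x * g⁻¹ * x⁻¹

theorem cm_one (x : G) : cm x 1 = 1 := by
  unfold cm; group

theorem cm_mul (x a b : G) : cm x (a * b) = a * cm x b * a⁻¹ * cm x a := by
  unfold cm; group

theorem cm_eq_one_iff (x g : G) : cm x g = 1 ↔ g * x = x * g := by
  unfold cm
  rw [mul_inv_eq_one, mul_inv_eq_iff_eq_mul]

theorem cm_conj (x m g : G) (hm : m * x = x * m) :
    cm x (m * g * m⁻¹) = m * cm x g * m⁻¹ := by
  have h1 : m⁻¹ * x * m = x := by
    rw [mul_assoc, ← hm, ← mul_assoc, inv_mul_cancel, one_mul]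
  have h2 : m⁻¹ * x⁻¹ = x⁻¹ * m⁻¹ := by
    rw [← mul_inv_rev, ← mul_inv_rev, hm]
  unfold cm
  calc m * g * m⁻¹ * x * (m * g * m⁻¹)⁻¹ * x⁻¹
      = m * g * (m⁻¹ * x * m) * g⁻¹ * (m⁻¹ * x⁻¹) := by group
    _ = m * g * x * g⁻¹ * (x⁻¹ * m⁻¹) := by rw [h1, h2]
    _ = m * (g * x * g⁻¹ * x⁻¹) * m⁻¹ := by group

end Aux

variable {G Γ : Type*} [Group G] [Group Γ] {ρ : G →* MulAut Γ}

theorem pow_mem_of_caseA [Finite G] (N : Subgroup G) [N.Normal]
    (h : ∀ x : G, x ∈ N → x ∉ Subgroup.centralizer (N : Set G) →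
      IsCoatom (Subgroup.centralizer ({x} : Set G)))
    (hA : ∀ (g : G) (y : ↥N ⧸ Subgroup.center ↥N), rho N g y = y) (x : ↥N)
    (hx : (x : G) ∉ Subgroup.centralizer (N : Set G)) :
    ∃ r : ℕ, r.Prime ∧ (x : G) ^ r ∈ Subgroup.centralizer (N : Set G) := by
  have hNn : N.Normal := inferInstance
  set xg : G := (x : G) with hxg
  have hxN : xg ∈ N := x.2
  -- the commutators with `x` are central elements of `N`
  have hcZ : ∀ g : G, cm xg g ∈ Subgroup.centralizer (N : Set G) := by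
    intro g
    have := hA g (QuotientGroup.mk x)
    exact (mem_St_mk_iff N g x).mp (mem_St.mpr this)
  have hcN : ∀ g : G, cm xg g ∈ N := by
    intro g
    unfold cm
    exact N.mul_mem (hNn.conj_mem _ hxN g) (N.inv_mem hxN)
  have hcomm : ∀ g : G, ∀ n ∈ N, n * cm xg g = cm xg g * n := fun g n hn =>
    (Subgroup.mem_centralizer_iff.mp (hcZ g)) n hn
  have hmul : ∀ a ∈ N, ∀ b : G, cm xg (a * b) = cm xg b * cm xg a := by
    intro a ha b
    rw [cm_mul, hcomm b a ha, mul_inv_cancel_right]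
  have hcc : ∀ a b : G, cm xg a * cm xg b = cm xg b * cm xg a := fun a b =>
    hcomm b (cm xg a) (hcN a)
  have hpow : ∀ a ∈ N, ∀ k : ℕ, cm xg (a ^ k) = cm xg a ^ k := by
    intro a ha k
    induction k with
    | zero => rw [pow_zero, pow_zero, cm_one]
    | succ k ih => rw [pow_succ', hmul a ha, ih, pow_succ]
  -- an element of `N` not commuting with `x`
  obtain ⟨n₀, hn₀N, hn₀⟩ : ∃ n₀ ∈ N, cm xg n₀ ≠ 1 := by
    by_contra hcon
    push Not at hcon
    apply hx
    rw [Subgroup.mem_centralizer_iff]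
    intro n hn
    exact (cm_eq_one_iff xg n).mp (hcon n hn)
  -- the prime `r`
  have hd1 : orderOf (cm xg n₀) ≠ 1 := fun e => hn₀ (orderOf_eq_one_iff.mp e)
  have hdpos : 0 < orderOf (cm xg n₀) := orderOf_pos _
  set d := orderOf (cm xg n₀) with hd
  have hr : d.minFac.Prime := Nat.minFac_prime hd1
  set r := d.minFac with hrdef
  have hrd : r ∣ d := Nat.minFac_dvd d
  refine ⟨r, hr, ?_⟩
  set n₁ : G := n₀ ^ (d / r) with hn₁
  have hn₁N : n₁ ∈ N := N.pow_mem hn₀N _
  have hc₁ : cm xg n₁ = cm xg n₀ ^ (d / r) := hpow n₀ hn₀N _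
  have hc₁r : cm xg n₁ ^ r = 1 := by
    rw [hc₁, ← pow_mul, Nat.div_mul_cancel hrd, hd, pow_orderOf_eq_one]
  have hc₁ne : cm xg n₁ ≠ 1 := by
    rw [hc₁]
    apply pow_ne_one_of_lt_orderOf
    · have : r ≤ d := Nat.le_of_dvd hdpos hrd
      exact (Nat.div_pos this hr.pos).ne'
    · rw [← hd]
      exact Nat.div_lt_self hdpos hr.one_lt
  -- the subgroup `T`
  let T : Subgroup G :=
    { carrier := {g | g ∈ N ∧ cm xg g ^ r = 1}
      mul_mem' := by
        rintro a b ⟨ha, ha'⟩ ⟨hb, hb'⟩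
        refine ⟨N.mul_mem ha hb, ?_⟩
        rw [hmul a ha b, (show Commute (cm xg b) (cm xg a) from hcc b a).mul_pow, ha', hb',
          one_mul]
      one_mem' := ⟨N.one_mem, by rw [cm_one, one_pow]⟩
      inv_mem' := by
        rintro a ⟨ha, ha'⟩
        refine ⟨N.inv_mem ha, ?_⟩
        have h1 : cm xg a⁻¹ * cm xg a = 1 := by
          rw [← hmul a ha a⁻¹, mul_inv_cancel, cm_one]
        have e : cm xg a⁻¹ = (cm xg a)⁻¹ := eq_inv_of_mul_eq_one_left h1
        rw [e, inv_pow, ha', inv_one] }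
  have hT : ∀ g : G, g ∈ T ↔ g ∈ N ∧ cm xg g ^ r = 1 := fun g => Iff.rfl
  -- `M = C(x)` is a coatom normalizing `T`
  have hM : IsCoatom (Subgroup.centralizer ({xg} : Set G)) := h xg hxN hx
  have hMmem : ∀ m : G, m ∈ Subgroup.centralizer ({xg} : Set G) ↔ m * xg = xg * m := by
    intro m
    rw [Subgroup.mem_centralizer_singleton_iff]
  have hconjT : ∀ m ∈ Subgroup.centralizer ({xg} : Set G), ∀ g ∈ T, m * g * m⁻¹ ∈ T := by
    intro m hm g hg
    rw [hT] at hg ⊢
    refine ⟨hNn.conj_mem g hg.1 m, ?_⟩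
    rw [cm_conj xg m g ((hMmem m).mp hm), conj_pow, hg.2, mul_one, mul_inv_cancel]
  have hnorm : Subgroup.centralizer ({xg} : Set G) ≤ Subgroup.normalizer (T : Set G) := by
    intro m hm
    rw [Subgroup.mem_normalizer_iff]
    intro g
    constructor
    · exact hconjT m hm g
    · intro hg
      have := hconjT m⁻¹ (Subgroup.inv_mem _ hm) _ hg
      have e : m⁻¹ * (m * g * m⁻¹) * m⁻¹⁻¹ = g := by group
      rwa [e] at this
  have hsup : T ⊔ Subgroup.centralizer ({xg} : Set G) = ⊤ := by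
    rcases hM.le_iff.mp (le_sup_right : Subgroup.centralizer ({xg} : Set G) ≤
        T ⊔ Subgroup.centralizer ({xg} : Set G)) with htop | heq
    · exact htop
    · exfalso
      have hle : T ≤ Subgroup.centralizer ({xg} : Set G) := by
        rw [← heq]; exact le_sup_left
      have h1 : n₁ ∈ T := (hT n₁).mpr ⟨hn₁N, hc₁r⟩
      exact hc₁ne ((cm_eq_one_iff xg n₁).mpr ((hMmem n₁).mp (hle h1)))
  have hcoe := Subgroup.coe_mul_of_right_le_normalizer_left T
    (Subgroup.centralizer ({xg} : Set G)) hnorm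
  -- every element of `N` lies in `T`
  have hNT : ∀ n ∈ N, cm xg n ^ r = 1 := by
    intro n hn
    have hmem : n ∈ ((T ⊔ Subgroup.centralizer ({xg} : Set G) : Subgroup G) : Set G) := by
      rw [hsup]; trivial
    rw [hcoe] at hmem
    obtain ⟨t, ht, m, hm, rfl⟩ := hmem
    have ht' := (hT t).mp ht
    have hmN : m ∈ N := by
      have : m = t⁻¹ * (t * m) := by group
      rw [this]
      exact N.mul_mem (N.inv_mem ht'.1) hn
    have hcm : cm xg m = 1 := (cm_eq_one_iff xg m).mpr ((hMmem m).mp hm)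
    rw [hmul t ht'.1 m, hcm, one_mul, ht'.2]
  -- conclusion
  rw [Subgroup.mem_centralizer_iff]
  intro n hn
  have h1 : n * xg * n⁻¹ = cm xg n * xg := by
    unfold cm; group
  have h2 : Commute (cm xg n) xg := (hcomm n xg hxN).symm
  have h3 : n * xg ^ r * n⁻¹ = xg ^ r := by
    rw [← conj_pow, h1, h2.mul_pow, hNT n hn, one_mul]
  exact mul_inv_eq_iff_eq_mul.mp h3

end Cfsg.Agent.Lib.Helper55_CM_P0_A1
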