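/-
Steinberg's presentation (helper81): the kernel of any homomorphism from the presented group to the Chevalley group
matching the generators lies in the subgroup generated by the `h̄_p(t)`, `p` fundamental.
-/
import Mathlib
import Cfsg.Agent.Lib.Helper81_StMain
import Cfsg.Agent.Lib.Helper81_StTorus

set_option autoImplicit false
set_option linter.unusedSectionVars false
set_option linter.unusedVariables false

namespace Cfsg.Agent.Lib.Helper81_StMainB

open Cfsg Cfsg.Lie Cfsg.Agent.Lib.Helper18_ChevFast Cfsg.Agent.Lib.Helper18_ChevEngine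
  Cfsg.Agent.Lib.Helper18_ChevR1 Cfsg.Agent.Lib.Helper18_ChevN Cfsg.Agent.Lib.Helper18_ChevR4
  Cfsg.Agent.Lib.Helper18_ChevSimple Cfsg.Agent.Lib.Helper18_ChevSimple2 Cfsg.Agent.Lib.Helper18_ChevFacts
  Cfsg.Agent.Lib.Helper18_ChevWeyl Cfsg.Agent.Lib.Helper18_ChevDiag Cfsg.Agent.Lib.Helper18_ChevCar
  Cfsg.Agent.Lib.Helper18_ChevTorus Cfsg.Agent.Lib.Helper18_ChevGL Cfsg.Agent.Lib.Helper18_ChevComm
  Cfsg.Agent.Lib.Helper18_ChevComm2 Cfsg.Agent.Lib.Helper18_MatTri Cfsg.Agent.Lib.Helper18_ChevTri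
  Cfsg.Agent.Lib.Helper18_ChevBorel Cfsg.Agent.Lib.Helper18_ChevAdd Cfsg.Agent.Lib.Helper18_ChevUni
  Cfsg.Agent.Lib.Helper18_ChevBN Cfsg.Agent.Lib.Helper18_ChevMono Cfsg.Agent.Lib.Helper18_ChevBNPair
  Cfsg.Agent.Lib.Helper18_ChevLevi
  Cfsg.Agent.Lib.Helper81_StUniq Cfsg.Agent.Lib.Helper81_StAbs Cfsg.Agent.Lib.Helper81_StL37
  Cfsg.Agent.Lib.Helper81_StBruhat Cfsg.Agent.Lib.Helper81_StMain Cfsg.Agent.Lib.Helper81_StTorus

variable {D : ChevalleyDatum} {Ns : List NData} {F : Type*} [Field F]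

theorem hBar_pGen (rels : Set (FreeGroup (Fin D.nroots × F))) (i : ℕ) (a : F) :
    hBar D (pGen D rels) i a = PresentedGroup.mk rels (D.stH (D.simple i) a) := by
  unfold hBar ChevalleyDatum.stH
  rw [mk_stWord]

/-- The kernel of a homomorphism from a group presented by relators containing (R1), (R2) to the Chevalley group,
matching the generators, lies in the subgroup generated by the `h̄_p(t)`, `p` fundamental. -/
theorem ker_le_closure_h (D : ChevalleyDatum)
    (hD : D ∈ [chevG2, chevB2, chevD4, chevF4, chevE6, chevE7, chevE8])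
    (rels : Set (FreeGroup (Fin D.nroots × F))) (hAB : D.steinbergRelsAB F ⊆ rels)
    (θ : PresentedGroup rels →* ↥(D.group F))
    (hθ : ∀ (r : ℕ) (t : F), r < D.nroots →
      ((θ (pGen D rels r t) : GL D.Idx F) : Matrix D.Idx D.Idx F) = D.x F r t) :
    θ.ker ≤ Subgroup.closure {h | ∃ (i : ℕ) (t : F), i < D.rank ∧ t ≠ 0 ∧
      h = PresentedGroup.mk rels (D.stH (D.simple i) t)} := by
  obtain ⟨Ns, w, d, Ts, hT, K, base, stepT, wl, ws, sc, c, tc, gc, pc, ac⟩ :=
    Cfsg.Agent.Lib.Helper18_ChevData5.exists_cert5 D hD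
  obtain ⟨hA, bs, hB⟩ := Cfsg.Agent.Lib.Helper81_StCerts.exists_certAB D hD
  have hX := stGrp_pGen (D := D) (F := F) hAB
  set π : PresentedGroup rels →* GL D.Idx F := (D.group F).subtype.comp θ with hπdef
  have hπ : IsLift c (pGen D rels) π := by
    intro r hr t
    apply Units.ext
    rw [xGL_coe]
    exact hθ r t hr
  have hHB : HB D (pGen D rels) = Subgroup.closure {h | ∃ (i : ℕ) (t : F), i < D.rank ∧ t ≠ 0 ∧
      h = PresentedGroup.mk rels (D.stH (D.simple i) t)} := by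
    unfold HB
    congr 1
    ext y
    constructor
    · rintro ⟨i, hi, a, ha, rfl⟩
      exact ⟨i, a, hi, ha, hBar_pGen rels i a⟩
    · rintro ⟨i, a, hi, ha, rfl⟩
      exact ⟨i, hi, a, ha, (hBar_pGen rels i a).symm⟩
  intro g hg
  rw [← hHB]
  apply ker_le_HB c tc ac gc hA hB hX hπ gen_pGen g
  rw [MonoidHom.mem_ker] at hg
  show ((θ g : ↥(D.group F)) : GL D.Idx F) = 1
  rw [hg]
  rfl

end Cfsg.Agent.Lib.Helper81_StMainB
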