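/-
Steinberg's presentation (helper81): the check that the commutator tables of a datum are the restriction of those of a
bigger datum (kept in a file with few imports, for the certificates).
-/
import Cfsg.Prelude.Def_ChevStructure

set_option autoImplicit false

namespace Cfsg.Agent.Lib.Helper81_StSubDef

open Cfsg Cfsg.Lie

/-- The commutator tables of `D₂` at the images of `r` and of all `s` are the images of those of `D₁`. -/
def commOK (D₁ D₂ : ChevalleyDatum) (ι : ℕ → ℕ) (r : ℕ) : Bool :=
  (List.range D₁.nroots).all fun s => s == r || s == D₁.neg r ||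
    decide (D₂.commTerms (ι r) (ι s) = (D₁.commTerms r s).map fun c => (ι c.1, c.2))

/-- The commutator tables agree on the block of `len` roots `r` starting at `lo`. -/
def commBlock (D₁ D₂ : ChevalleyDatum) (ι : ℕ → ℕ) (lo len : ℕ) : Bool :=
  (List.range' lo len).all (commOK D₁ D₂ ι)

theorem commBlock_spec {D₁ D₂ : ChevalleyDatum} {ι : ℕ → ℕ} {lo len : ℕ} (h : commBlock D₁ D₂ ι lo len = true)
    (r : ℕ) (h1 : lo ≤ r) (h2 : r < lo + len) : commOK D₁ D₂ ι r = true := by
  unfold commBlock at h
  rw [List.all_eq_true] at h
  apply h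
  rw [List.mem_range'_1]
  exact ⟨h1, h2⟩

end Cfsg.Agent.Lib.Helper81_StSubDef
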