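/-
Steinberg's presentation (helper81), abstract part 5: with the relations (R3) the subgroup `H̄` is abelian and its
elements are the products `∏ h_{p_i}(t_i)`; if the Cartan matrix is unimodular (types `G₂`, `F₄`, `E₈`), a
homomorphism to the Chevalley group matching the generators is injective on `H̄`, hence injective.
-/
import Mathlib
import Cfsg.Agent.Lib.Helper81_StTorus

set_option autoImplicit false
set_option linter.unusedSectionVars false
set_option linter.unusedVariables false

namespace Cfsg.Agent.Lib.Helper81_StUni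

open Cfsg Cfsg.Lie Cfsg.Agent.Lib.Helper18_ChevFast Cfsg.Agent.Lib.Helper18_ChevEngine
  Cfsg.Agent.Lib.Helper18_ChevR1 Cfsg.Agent.Lib.Helper18_ChevN Cfsg.Agent.Lib.Helper18_ChevR4
  Cfsg.Agent.Lib.Helper18_ChevSimple Cfsg.Agent.Lib.Helper18_ChevSimple2 Cfsg.Agent.Lib.Helper18_ChevFacts
  Cfsg.Agent.Lib.Helper18_ChevWeyl Cfsg.Agent.Lib.Helper18_ChevDiag Cfsg.Agent.Lib.Helper18_ChevCar
  Cfsg.Agent.Lib.Helper18_ChevTorus Cfsg.Agent.Lib.Helper18_ChevGL Cfsg.Agent.Lib.Helper18_ChevComm
  Cfsg.Agent.Lib.Helper18_ChevComm2 Cfsg.Agent.Lib.Helper18_MatTri Cfsg.Agent.Lib.Helper18_ChevTri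
  Cfsg.Agent.Lib.Helper18_ChevBorel Cfsg.Agent.Lib.Helper18_ChevAdd Cfsg.Agent.Lib.Helper18_ChevUni
  Cfsg.Agent.Lib.Helper18_ChevBN Cfsg.Agent.Lib.Helper18_ChevMono Cfsg.Agent.Lib.Helper18_ChevBNPair
  Cfsg.Agent.Lib.Helper18_ChevLevi Cfsg.Agent.Lib.Helper18_ChevSimp Cfsg.Agent.Lib.Helper18_ChevBruhat
  Cfsg.Agent.Lib.Helper81_StUniq Cfsg.Agent.Lib.Helper81_StAbs Cfsg.Agent.Lib.Helper81_StL37
  Cfsg.Agent.Lib.Helper81_StBruhat Cfsg.Agent.Lib.Helper81_StTorus

variable {D : ChevalleyDatum} {Ns : List NData} {F : Type*} [Field F] {Γ : Type*} [Group Γ]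
variable {wl : List ℤ} {ws : List (List ℤ)} {sc : ℤ} {X : ℕ → F → Γ}

/-- The relations (R3) for the fundamental roots. -/
def R3 (D : ChevalleyDatum) (X : ℕ → F → Γ) : Prop :=
  ∀ i < D.rank, ∀ a b : F, a ≠ 0 → b ≠ 0 → hBar D X i a * hBar D X i b = hBar D X i (a * b)

theorem hBar_one (h3 : R3 D X) (i : ℕ) (hi : i < D.rank) : hBar D X i 1 = 1 := by
  have := h3 i hi 1 1 one_ne_zero one_ne_zero
  rw [mul_one] at this
  exact mul_eq_left.mp this

theorem hBar_inv (h3 : R3 D X) (i : ℕ) (hi : i < D.rank) (a : F) (ha : a ≠ 0) :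
    (hBar D X i a)⁻¹ = hBar D X i a⁻¹ := by
  rw [inv_eq_iff_mul_eq_one, h3 i hi a a⁻¹ ha (inv_ne_zero ha), mul_inv_cancel₀ ha, hBar_one h3 i hi]

theorem hBar_comm_self (h3 : R3 D X) (i : ℕ) (hi : i < D.rank) (a b : F) (ha : a ≠ 0) (hb : b ≠ 0) :
    hBar D X i a * hBar D X i b = hBar D X i b * hBar D X i a := by
  rw [h3 i hi a b ha hb, h3 i hi b a hb ha, mul_comm]

/-- The `h_p(a)` commute. -/
theorem hBar_comm (c : DCert D Ns) (tc : TCert D) (ac : ACert D wl ws sc) (hA : CertA D) {bs : List BData}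
    (hB : CertB D bs) (hX : StGrp D X) {π : Γ →* GL D.Idx F} (hπ : IsLift c X π) (h3 : R3 D X) (i j : ℕ)
    (hi : i < D.rank) (hj : j < D.rank) (a b : F) (ha : a ≠ 0) (hb : b ≠ 0) :
    hBar D X i a * hBar D X j b = hBar D X j b * hBar D X i a := by
  have hI := HB_le_IdAct c tc ac hA hB hX hπ (hB_mem_HB (X := X) hi ha)
  obtain ⟨e, he, hconj⟩ := conj_nB hI.1 c j j hj rfl
  have key : hBar D X i a * (nB D X j b * nB D X j (-1)) * (hBar D X i a)⁻¹ = hBar D X j b := by
    have e1 : hBar D X i a * (nB D X j b * nB D X j (-1)) * (hBar D X i a)⁻¹ =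
        (hBar D X i a * nB D X j b * (hBar D X i a)⁻¹) * (hBar D X i a * nB D X j (-1) * (hBar D X i a)⁻¹) := by
      group
    rw [e1, hconj, hconj]
    -- `n_j(e b) n_j(-e) = h_j(e b) h_j(e)⁻¹`
    have e0 : nB D X j (-1) * nB D X j 1 = 1 := by
      rw [← nB_inv c hX j hj 1, inv_mul_cancel]
    have e2 : nB D X j (e * b) * nB D X j (e * -1) = hBar D X j (e * b) * (hBar D X j e)⁻¹ := by
      rw [hB_eq X j (e * b), hB_eq X j e, mul_inv_rev, nB_inv c hX j hj, nB_inv c hX j hj, neg_neg, mul_neg_one]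
      calc nB D X j (e * b) * nB D X j (-e)
          = nB D X j (e * b) * (nB D X j (-1) * nB D X j 1) * nB D X j (-e) := by rw [e0, mul_one]
        _ = _ := by group
    rw [e2, ← h3 j hj e b he hb, hBar_comm_self h3 j hj e b he hb]
    group
  have h1 : hBar D X i a * hBar D X j b * (hBar D X i a)⁻¹ = hBar D X j b := by
    have := hB_eq (D := D) X j b
    rw [← this] at key
    exact key
  have := mul_inv_eq_iff_eq_mul.mp h1
  exact this

/-! ### Products of the `h_{p_i}(t_i)` -/

/-- The product `∏ h_{p_i}(t_i)` over a list of nodes. -/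
def torL (D : ChevalleyDatum) (X : ℕ → F → Γ) (L : List ℕ) (t : ℕ → F) : Γ :=
  (L.map fun i => hBar D X i (t i)).prod

/-- The product `∏ h_{p_i}(t_i)` over all nodes. -/
def tor (D : ChevalleyDatum) (X : ℕ → F → Γ) (t : ℕ → F) : Γ := torL D X (List.range D.rank) t

theorem torL_mul (c : DCert D Ns) (tc : TCert D) (ac : ACert D wl ws sc) (hA : CertA D) {bs : List BData}
    (hB : CertB D bs) (hX : StGrp D X) {π : Γ →* GL D.Idx F} (hπ : IsLift c X π) (h3 : R3 D X) (t t' : ℕ → F)
    (ht : ∀ i, t i ≠ 0) (ht' : ∀ i, t' i ≠ 0) :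
    ∀ L : List ℕ, (∀ i ∈ L, i < D.rank) → torL D X L t * torL D X L t' = torL D X L (fun i => t i * t' i)
  | [], _ => by simp [torL]
  | i :: L, hL => by
    have ih := torL_mul c tc ac hA hB hX hπ h3 t t' ht ht' L (fun j hj => hL j (List.mem_cons_of_mem _ hj))
    have hi := hL i (by simp)
    unfold torL at ih ⊢
    rw [List.map_cons, List.map_cons, List.map_cons, List.prod_cons, List.prod_cons, List.prod_cons, ← ih,
      ← h3 i hi _ _ (ht i) (ht' i)]
    have hcomm : Commute (L.map fun i => hBar D X i (t i)).prod (hBar D X i (t' i)) := by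
      apply Commute.list_prod_left
      intro y hy
      rw [List.mem_map] at hy
      obtain ⟨j, hj, rfl⟩ := hy
      exact hBar_comm c tc ac hA hB hX hπ h3 j i (hL j (List.mem_cons_of_mem _ hj)) hi _ _ (ht j) (ht' i)
    calc hBar D X i (t i) * (L.map fun i => hBar D X i (t i)).prod *
          (hBar D X i (t' i) * (L.map fun i => hBar D X i (t' i)).prod)
        = hBar D X i (t i) * ((L.map fun i => hBar D X i (t i)).prod * hBar D X i (t' i)) *
          (L.map fun i => hBar D X i (t' i)).prod := by group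
      _ = _ := by rw [hcomm.eq]; group

theorem torL_single (h3 : R3 D X) (i : ℕ) (a : F) :
    ∀ L : List ℕ, (∀ j ∈ L, j < D.rank) → L.Nodup → i ∈ L →
      torL D X L (Function.update (fun _ => (1 : F)) i a) = hBar D X i a
  | [], _, _, hi => by simp at hi
  | j :: L, hL, hnd, hi => by
    rw [List.nodup_cons] at hnd
    unfold torL
    rw [List.map_cons, List.prod_cons]
    have hone : ∀ L' : List ℕ, (∀ k ∈ L', k < D.rank) → i ∉ L' →
        (L'.map fun k => hBar D X k (Function.update (fun _ => (1 : F)) i a k)).prod = 1 := by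
      intro L' hL' hi'
      apply List.prod_eq_one
      intro y hy
      rw [List.mem_map] at hy
      obtain ⟨k, hk, rfl⟩ := hy
      have : k ≠ i := by
        rintro rfl
        exact hi' hk
      rw [Function.update_of_ne this]
      exact hBar_one h3 k (hL' k hk)
    by_cases hji : j = i
    · subst hji
      rw [Function.update_self, hone L (fun k hk => hL k (List.mem_cons_of_mem _ hk)) hnd.1, mul_one]
    · have hi' : i ∈ L := by
        rcases List.mem_cons.mp hi with h | h
        · exact absurd h.symm hji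
        · exact h
      rw [Function.update_of_ne hji, hBar_one h3 j (hL j (by simp)), one_mul]
      exact torL_single h3 i a L (fun k hk => hL k (List.mem_cons_of_mem _ hk)) hnd.2 hi'

/-- Every element of `H̄` is a product `∏ h_{p_i}(t_i)`. -/
theorem exists_tor (c : DCert D Ns) (tc : TCert D) (ac : ACert D wl ws sc) (hA : CertA D) {bs : List BData}
    (hB : CertB D bs) (hX : StGrp D X) {π : Γ →* GL D.Idx F} (hπ : IsLift c X π) (h3 : R3 D X) (g : Γ)
    (hg : g ∈ HB D X) : ∃ t : ℕ → F, (∀ i, t i ≠ 0) ∧ g = tor D X t := by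
  have hr : ∀ i ∈ List.range D.rank, i < D.rank := fun i hi => List.mem_range.mp hi
  unfold HB at hg
  induction hg using Subgroup.closure_induction with
  | mem y hy =>
    obtain ⟨i, hi, a, ha, rfl⟩ := hy
    refine ⟨Function.update (fun _ => (1 : F)) i a, ?_, ?_⟩
    · intro k
      by_cases hk : k = i
      · subst hk
        rw [Function.update_self]
        exact ha
      · rw [Function.update_of_ne hk]
        exact one_ne_zero
    · unfold tor
      rw [torL_single h3 i a _ hr List.nodup_range (List.mem_range.mpr hi)]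
  | one =>
    refine ⟨fun _ => 1, fun _ => one_ne_zero, ?_⟩
    unfold tor torL
    symm
    apply List.prod_eq_one
    intro y hy
    rw [List.mem_map] at hy
    obtain ⟨k, hk, rfl⟩ := hy
    exact hBar_one h3 k (hr k hk)
  | mul a b _ _ iha ihb =>
    obtain ⟨t, ht, rfl⟩ := iha
    obtain ⟨t', ht', rfl⟩ := ihb
    refine ⟨fun i => t i * t' i, fun i => mul_ne_zero (ht i) (ht' i), ?_⟩
    unfold tor
    exact torL_mul c tc ac hA hB hX hπ h3 t t' ht ht' _ hr
  | inv a _ iha =>
    obtain ⟨t, ht, rfl⟩ := iha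
    refine ⟨fun i => (t i)⁻¹, fun i => inv_ne_zero (ht i), ?_⟩
    rw [inv_eq_iff_mul_eq_one]
    unfold tor
    rw [torL_mul c tc ac hA hB hX hπ h3 t _ ht (fun i => inv_ne_zero (ht i)) _ hr]
    unfold torL
    apply List.prod_eq_one
    intro y hy
    rw [List.mem_map] at hy
    obtain ⟨k, hk, rfl⟩ := hy
    simp only
    rw [mul_inv_cancel₀ (ht k)]
    exact hBar_one h3 k (hr k hk)

/-! ### The image of a product in the Chevalley group -/

theorem prod_range_eq_list {M : Type*} [CommMonoid M] (f : ℕ → M) : ∀ n : ℕ,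
    ∏ j ∈ Finset.range n, f j = ((List.range n).map f).prod
  | 0 => by simp
  | n + 1 => by
    rw [Finset.prod_range_succ, prod_range_eq_list f n, List.range_succ, List.map_append, List.prod_append]
    simp

theorem list_prod_diagMat (χ : ℕ → ℕ → F) : ∀ L : List ℕ,
    (L.map fun i => diagMat D (χ i)).prod = diagMat D (fun s => (L.map fun i => χ i s).prod)
  | [] => by
    simp only [List.map_nil, List.prod_nil]
    exact diagMat_one.symm
  | i :: L => by
    rw [List.map_cons, List.prod_cons, list_prod_diagMat χ L, diagMat_mul]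
    apply diagMat_congr
    intro s _
    rw [List.map_cons, List.prod_cons]

/-- The image of `∏ h_{p_i}(t_i)` is the torus element with parameters `t`. -/
theorem map_tor (c : DCert D Ns) (tc : TCert D) {π : Γ →* GL D.Idx F} (hπ : IsLift c X π) (t : ℕ → F)
    (ht : ∀ i, t i ≠ 0) : ((π (tor D X t) : GL D.Idx F) : Matrix D.Idx D.Idx F) = torusMat D t := by
  unfold tor torL
  rw [map_list_prod, List.map_map]
  have h1 : ∀ L : List ℕ, (∀ i ∈ L, i < D.rank) →
      ((((L.map (π ∘ fun i => hBar D X i (t i))).prod : GL D.Idx F)) : Matrix D.Idx D.Idx F) =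
        (L.map fun i => diagMat D (fun s => t i ^ D.cartan i s)).prod := by
    intro L
    induction L with
    | nil => intro _; simp
    | cons i L ih =>
      intro hL
      have hi := hL i (by simp)
      rw [List.map_cons, List.prod_cons, Units.val_mul, ih (fun j hj => hL j (List.mem_cons_of_mem _ hj)),
        List.map_cons, List.prod_cons]
      congr 1
      show ((π (hBar D X i (t i)) : GL D.Idx F) : Matrix D.Idx D.Idx F) = _
      rw [map_hB c hπ i hi, hGL_coe, hMat_all c tc _ (c.ncert i hi).simple_lt _ (ht i)]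
      apply diagMat_congr
      intro s _
      rw [tc.cartanR_simple i hi s]
  rw [h1 _ (fun i hi => List.mem_range.mp hi), list_prod_diagMat]
  unfold torusMat
  apply diagMat_congr
  intro s _
  unfold torusChar
  rw [prod_range_eq_list]

/-! ### The unimodular case -/

/-- The certificate: `M` is the inverse transpose of the Cartan matrix. -/
def UCert (D : ChevalleyDatum) (M : List (List ℤ)) : Prop :=
  ∀ i < D.rank, ∀ j < D.rank,
    ((List.range D.rank).map fun k => (M.getD i []).getD k 0 * D.cartan j (D.simple k)).sum = if i = j then 1 else 0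

instance (D : ChevalleyDatum) (M : List (List ℤ)) : Decidable (UCert D M) := by
  unfold UCert
  infer_instance

/-- If all characters of the torus element with parameters `t` at the fundamental roots are trivial and the Cartan
matrix is unimodular, then `t = 1`. -/
theorem eq_one_of_torusChar {M : List (List ℤ)} (hM : UCert D M) (t : ℕ → F) (ht : ∀ i, t i ≠ 0)
    (h : ∀ k < D.rank, torusChar D t (D.simple k) = 1) (i : ℕ) (hi : i < D.rank) : t i = 1 := by
  have h1 : t i = ∏ j ∈ Finset.range D.rank, t j ^ (if i = j then (1 : ℤ) else 0) := by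
    rw [Finset.prod_eq_single i]
    · rw [if_pos rfl, zpow_one]
    · intro j _ hji
      rw [if_neg (Ne.symm hji), zpow_zero]
    · intro hi'
      exact absurd (Finset.mem_range.mpr hi) hi'
  have h2 : ∏ j ∈ Finset.range D.rank, t j ^ (if i = j then (1 : ℤ) else 0) =
      ∏ j ∈ Finset.range D.rank, ∏ k ∈ Finset.range D.rank,
        (t j ^ D.cartan j (D.simple k)) ^ (M.getD i []).getD k 0 := by
    apply Finset.prod_congr rfl
    intro j hj
    rw [← hM i hi j (Finset.mem_range.mp hj), ← sum_range_eq_list, zpow_sum_range _ (ht j)]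
    apply Finset.prod_congr rfl
    intro k _
    rw [← zpow_mul, mul_comm]
  rw [h1, h2, Finset.prod_comm]
  apply Finset.prod_eq_one
  intro k hk
  rw [Finset.prod_zpow]
  have := h k (Finset.mem_range.mp hk)
  unfold torusChar at this
  rw [this, one_zpow]

/-- With (R3) and a unimodular Cartan matrix the kernel is trivial. -/
theorem ker_eq_bot (c : DCert D Ns) (tc : TCert D) (ac : ACert D wl ws sc) {w : List ℤ} {d : ℕ}
    (gc : GCert D w d) (hA : CertA D) {bs : List BData} (hB : CertB D bs) (hX : StGrp D X)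
    {π : Γ →* GL D.Idx F} (hπ : IsLift c X π) (hgen : Gen D X) (h3 : R3 D X) {M : List (List ℤ)}
    (hM : UCert D M) (g : Γ) (hg : π g = 1) : g = 1 := by
  have hgH := ker_le_HB c tc ac gc hA hB hX hπ hgen g hg
  obtain ⟨t, ht, rfl⟩ := exists_tor c tc ac hA hB hX hπ h3 g hgH
  have h1 := map_tor c tc hπ t ht
  rw [hg, Units.val_one] at h1
  have hchar : ∀ s < D.nroots, torusChar D t s = 1 := by
    intro s hs
    have := congrFun (congrFun h1 (Sum.inr ⟨s, hs⟩)) (Sum.inr ⟨s, hs⟩)
    unfold torusMat diagMat at this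
    rw [Matrix.one_apply_eq, Matrix.diagonal_apply_eq] at this
    exact this.symm
  have ht1 : ∀ i < D.rank, t i = 1 :=
    eq_one_of_torusChar hM t ht (fun k hk => hchar _ (c.ncert k hk).simple_lt)
  -- the product is trivial
  unfold tor torL
  apply List.prod_eq_one
  intro y hy
  rw [List.mem_map] at hy
  obtain ⟨k, hk, rfl⟩ := hy
  have hk' := List.mem_range.mp hk
  rw [ht1 k hk']
  -- `h_k(1) = 1` from the definition
  have := h3 k hk' 1 1 one_ne_zero one_ne_zero
  rw [mul_one] at this
  exact mul_eq_left.mp this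

end Cfsg.Agent.Lib.Helper81_StUni
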