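/-
Steinberg's presentation (helper81): a closed subsystem of a bigger datum as a model.  If the tables of the datum `D₁`
are the tables of `D₂` restricted along an embedding `ι` of the roots, then `x̄_r(t) ↦ x_{ι r}(t)` defines a
homomorphism from the group presented by (R1), (R2), (R3) for `D₁` to the Chevalley group of `D₂`, and the torus
elements `∏ h_{p_i}(t_i)` of the presented group are determined by `t` as soon as the Cartan integers of `D₂`
separate them.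
-/
import Mathlib
import Cfsg.Agent.Lib.Helper81_StMainB
import Cfsg.Agent.Lib.Helper81_StUni
import Cfsg.Agent.Lib.Helper81_StSubDef

set_option autoImplicit false
set_option linter.unusedSectionVars false
set_option linter.unusedVariables false

namespace Cfsg.Agent.Lib.Helper81_StSub

open Cfsg Cfsg.Lie Cfsg.Agent.Lib.Helper18_ChevFast Cfsg.Agent.Lib.Helper18_ChevEngine
  Cfsg.Agent.Lib.Helper18_ChevR1 Cfsg.Agent.Lib.Helper18_ChevN Cfsg.Agent.Lib.Helper18_ChevR4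
  Cfsg.Agent.Lib.Helper18_ChevSimple Cfsg.Agent.Lib.Helper18_ChevSimple2 Cfsg.Agent.Lib.Helper18_ChevFacts
  Cfsg.Agent.Lib.Helper18_ChevWeyl Cfsg.Agent.Lib.Helper18_ChevDiag Cfsg.Agent.Lib.Helper18_ChevCar
  Cfsg.Agent.Lib.Helper18_ChevTorus Cfsg.Agent.Lib.Helper18_ChevGL Cfsg.Agent.Lib.Helper18_ChevComm
  Cfsg.Agent.Lib.Helper18_ChevComm2 Cfsg.Agent.Lib.Helper18_MatTri Cfsg.Agent.Lib.Helper18_ChevTri
  Cfsg.Agent.Lib.Helper18_ChevBorel Cfsg.Agent.Lib.Helper18_ChevAdd Cfsg.Agent.Lib.Helper18_ChevUni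
  Cfsg.Agent.Lib.Helper18_ChevBN Cfsg.Agent.Lib.Helper18_ChevMono Cfsg.Agent.Lib.Helper18_ChevBNPair
  Cfsg.Agent.Lib.Helper18_ChevLevi
  Cfsg.Agent.Lib.Helper81_StUniq Cfsg.Agent.Lib.Helper81_StAbs Cfsg.Agent.Lib.Helper81_StL37
  Cfsg.Agent.Lib.Helper81_StBruhat Cfsg.Agent.Lib.Helper81_StMain Cfsg.Agent.Lib.Helper81_StTorus
  Cfsg.Agent.Lib.Helper81_StMainB Cfsg.Agent.Lib.Helper81_StUni Cfsg.Agent.Lib.Helper81_StSubDef

variable {D₁ D₂ : ChevalleyDatum} {Ns₂ : List NData} {F : Type*} [Field F] {ι : ℕ → ℕ}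

/-- The datum `D₁` is the restriction of `D₂` along `ι`. -/
structure SubCert (D₁ D₂ : ChevalleyDatum) (ι : ℕ → ℕ) : Prop where
  lt : ∀ r < D₁.nroots, ι r < D₂.nroots
  ge : ∀ r, ¬ r < D₁.nroots → ¬ ι r < D₂.nroots
  inj : ∀ r < D₁.nroots, ∀ s < D₁.nroots, ι r = ι s → r = s
  neg : ∀ r < D₁.nroots, ι (D₁.neg r) = D₂.neg (ι r)
  neg_lt : ∀ r < D₁.nroots, D₁.neg r < D₁.nroots
  comm : ∀ r < D₁.nroots, commOK D₁ D₂ ι r = true
  simple : ∀ i < D₁.rank, ι (D₁.simple i) = D₂.simple i ∧ D₁.simple i < D₁.nroots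
  rank_le : D₁.rank ≤ D₂.rank

theorem SubCert.commTerms_eq (sc : SubCert D₁ D₂ ι) (r s : ℕ) (hr : r < D₁.nroots) (hs : s < D₁.nroots)
    (h1 : s ≠ r) (h2 : s ≠ D₁.neg r) :
    D₂.commTerms (ι r) (ι s) = (D₁.commTerms r s).map fun c => (ι c.1, c.2) := by
  have h := sc.comm r hr
  unfold commOK at h
  rw [List.all_eq_true] at h
  have := h s (List.mem_range.mpr hs)
  simp only [Bool.or_eq_true, beq_iff_eq, decide_eq_true_eq] at this
  rcases this with (h | h) | h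
  · exact absurd h h1
  · exact absurd h h2
  · exact h

/-- The images of the generators. -/
def subGen (c₂ : DCert D₂ Ns₂) (ι : ℕ → ℕ) (D₁ : ChevalleyDatum) (F : Type*) [Field F] :
    Fin D₁.nroots × F → GL D₂.Idx F := fun p => xGL c₂ (ι p.1) p.2

/-- The word with the roots mapped by `ι`. -/
def mapW (ι : ℕ → ℕ) (w : List (ℕ × F)) : List (ℕ × F) := w.map fun p => (ι p.1, p.2)

theorem lift_stX_sub (c₂ : DCert D₂ Ns₂) (sc : SubCert D₁ D₂ ι) (r : ℕ) (t : F) :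
    FreeGroup.lift (subGen c₂ ι D₁ F) (D₁.stX r t) = xGL c₂ (ι r) t := by
  unfold ChevalleyDatum.stX
  by_cases hr : r < D₁.nroots
  · rw [dif_pos hr, FreeGroup.lift_apply_of]
    rfl
  · rw [dif_neg hr, map_one, xGL_ge c₂ (ι r) (sc.ge r hr)]

theorem lift_stWord_sub (c₂ : DCert D₂ Ns₂) (sc : SubCert D₁ D₂ ι) (w : List (ℕ × F)) :
    FreeGroup.lift (subGen c₂ ι D₁ F) (D₁.stWord w) = wordGL c₂ (mapW ι w) := by
  unfold ChevalleyDatum.stWord wordGL mapW
  rw [map_list_prod, List.map_map, List.map_map]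
  congr 1
  apply List.map_congr_left
  intro p _
  exact lift_stX_sub c₂ sc p.1 p.2

theorem mapW_nWord (sc : SubCert D₁ D₂ ι) (r : ℕ) (hr : r < D₁.nroots) (t : F) :
    mapW ι (D₁.nWord r t) = D₂.nWord (ι r) t := by
  unfold mapW ChevalleyDatum.nWord
  simp only [List.map_cons, List.map_nil]
  rw [sc.neg r hr]

theorem mapW_hWord (sc : SubCert D₁ D₂ ι) (r : ℕ) (hr : r < D₁.nroots) (t : F) :
    mapW ι (D₁.hWord r t) = D₂.hWord (ι r) t := by
  unfold ChevalleyDatum.hWord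
  have : mapW ι (D₁.nWord r t ++ D₁.nWord r (-1)) = mapW ι (D₁.nWord r t) ++ mapW ι (D₁.nWord r (-1)) := by
    unfold mapW
    rw [List.map_append]
  rw [this, mapW_nWord sc r hr, mapW_nWord sc r hr]

theorem mapW_commWord (sc : SubCert D₁ D₂ ι) (r s : ℕ) (hr : r < D₁.nroots) (hs : s < D₁.nroots)
    (h1 : s ≠ r) (h2 : s ≠ D₁.neg r) (t u : F) :
    mapW ι (D₁.commWord F r s t u) = D₂.commWord F (ι r) (ι s) t u := by
  unfold ChevalleyDatum.commWord mapW
  rw [sc.commTerms_eq r s hr hs h1 h2, List.map_map, List.map_map]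
  rfl

theorem lift_stH_sub (c₂ : DCert D₂ Ns₂) (sc : SubCert D₁ D₂ ι) (r : ℕ) (hr : r < D₁.nroots) (t : F) :
    FreeGroup.lift (subGen c₂ ι D₁ F) (D₁.stH r t) = hGL c₂ (ι r) t := by
  unfold ChevalleyDatum.stH hGL
  rw [lift_stWord_sub c₂ sc, mapW_hWord sc r hr]

/-- The relators of `D₁` hold in the Chevalley group of `D₂`. -/
theorem lift_rels_sub (c₂ : DCert D₂ Ns₂) (tc₂ : TCert D₂) (hR2 : R2All D₂ F) (sc : SubCert D₁ D₂ ι) :
    ∀ g ∈ D₁.steinbergRels F, FreeGroup.lift (subGen c₂ ι D₁ F) g = 1 := by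
  rintro g ((⟨r, t₁, t₂, hr, rfl⟩ | ⟨r, s, t, u, hr, hs, h1, h2, rfl⟩) | ⟨r, t₁, t₂, hr, h₁, h₂, rfl⟩)
  · rw [map_mul, map_mul, map_inv, lift_stX_sub c₂ sc, lift_stX_sub c₂ sc, lift_stX_sub c₂ sc, xGL_mul,
      mul_inv_cancel]
  · rw [map_mul, map_mul, map_mul, map_mul, map_inv, map_inv, map_inv, lift_stX_sub c₂ sc, lift_stX_sub c₂ sc,
      lift_stWord_sub c₂ sc, mapW_commWord sc r s hr hs h1 h2]
    have hne1 : ι s ≠ ι r := fun h => h1 (sc.inj s hs r hr h)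
    have hne2 : ι s ≠ D₂.neg (ι r) := by
      rw [← sc.neg r hr]
      exact fun h => h2 (sc.inj s hs _ (sc.neg_lt r hr) h)
    have := conj_of_R2 c₂ (hR2 (ι r) (ι s) (sc.lt r hr) (sc.lt s hs) hne1 hne2) t u
    have e : (xGL c₂ (ι s) u)⁻¹ * (xGL c₂ (ι r) t)⁻¹ * xGL c₂ (ι s) u * xGL c₂ (ι r) t =
        (xGL c₂ (ι s) u)⁻¹ * ((xGL c₂ (ι r) t)⁻¹ * xGL c₂ (ι s) u * xGL c₂ (ι r) t) := by group
    rw [e, this]
    group
  · rw [map_mul, map_mul, map_inv, lift_stH_sub c₂ sc r hr, lift_stH_sub c₂ sc r hr, lift_stH_sub c₂ sc r hr,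
      hGL_mul c₂ tc₂ (ι r) (sc.lt r hr) t₁ t₂ h₁ h₂, mul_inv_cancel]

/-- The homomorphism from the presented group of `D₁` to the Chevalley group of `D₂`. -/
def toModel (c₂ : DCert D₂ Ns₂) (tc₂ : TCert D₂) (hR2 : R2All D₂ F) (sc : SubCert D₁ D₂ ι) :
    D₁.SteinbergGroup F →* GL D₂.Idx F := PresentedGroup.toGroup (lift_rels_sub c₂ tc₂ hR2 sc)

theorem toModel_mk (c₂ : DCert D₂ Ns₂) (tc₂ : TCert D₂) (hR2 : R2All D₂ F) (sc : SubCert D₁ D₂ ι)
    (x : FreeGroup (Fin D₁.nroots × F)) :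
    toModel c₂ tc₂ hR2 sc (PresentedGroup.mk (D₁.steinbergRels F) x) = FreeGroup.lift (subGen c₂ ι D₁ F) x := by
  induction x using FreeGroup.induction_on with
  | C1 => rw [map_one, map_one, map_one]
  | of x =>
    rw [FreeGroup.lift_apply_of]
    exact PresentedGroup.toGroup.of (lift_rels_sub c₂ tc₂ hR2 sc)
  | inv_of x ih => rw [map_inv, map_inv, map_inv, ih]
  | mul x y ihx ihy => rw [map_mul, map_mul, map_mul, ihx, ihy]

/-- The image of `h̄_{p_i}(a)` is `h_{p_i}(a)`. -/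
theorem toModel_hBar (c₂ : DCert D₂ Ns₂) (tc₂ : TCert D₂) (hR2 : R2All D₂ F) (sc : SubCert D₁ D₂ ι) (i : ℕ)
    (hi : i < D₁.rank) (a : F) :
    toModel c₂ tc₂ hR2 sc (hBar D₁ (pGen D₁ (D₁.steinbergRels F)) i a) = hGL c₂ (D₂.simple i) a := by
  rw [hBar_pGen, toModel_mk, lift_stH_sub c₂ sc _ (sc.simple i hi).2, (sc.simple i hi).1]

/-- The image of `∏ h̄_{p_i}(t_i)` is the diagonal matrix of the character `s ↦ ∏ t_i ^ A_{p_i, s}`. -/
theorem toModel_tor (c₂ : DCert D₂ Ns₂) (tc₂ : TCert D₂) (hR2 : R2All D₂ F) (sc : SubCert D₁ D₂ ι) (t : ℕ → F)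
    (ht : ∀ i, t i ≠ 0) :
    ((toModel c₂ tc₂ hR2 sc (tor D₁ (pGen D₁ (D₁.steinbergRels F)) t) : GL D₂.Idx F) :
        Matrix D₂.Idx D₂.Idx F) =
      diagMat D₂ (fun s => ((List.range D₁.rank).map fun i => t i ^ D₂.cartan i s).prod) := by
  unfold tor torL
  rw [map_list_prod, List.map_map]
  have h1 : ∀ L : List ℕ, (∀ i ∈ L, i < D₁.rank) →
      ((((L.map (toModel c₂ tc₂ hR2 sc ∘ fun i => hBar D₁ (pGen D₁ (D₁.steinbergRels F)) i (t i))).prod :
        GL D₂.Idx F)) : Matrix D₂.Idx D₂.Idx F) =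
        (L.map fun i => diagMat D₂ (fun s => t i ^ D₂.cartan i s)).prod := by
    intro L
    induction L with
    | nil => intro _; simp
    | cons i L ih =>
      intro hL
      have hi := hL i (by simp)
      have hi₂ : i < D₂.rank := lt_of_lt_of_le hi sc.rank_le
      rw [List.map_cons, List.prod_cons, Units.val_mul, ih (fun j hj => hL j (List.mem_cons_of_mem _ hj)),
        List.map_cons, List.prod_cons]
      congr 1
      show ((toModel c₂ tc₂ hR2 sc (hBar D₁ (pGen D₁ (D₁.steinbergRels F)) i (t i)) : GL D₂.Idx F) :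
        Matrix D₂.Idx D₂.Idx F) = _
      rw [toModel_hBar c₂ tc₂ hR2 sc i hi, hGL_coe, hMat_all c₂ tc₂ _ (c₂.ncert i hi₂).simple_lt _ (ht i)]
      apply diagMat_congr
      intro s _
      rw [tc₂.cartanR_simple i hi₂ s]
  rw [h1 _ (fun i hi => List.mem_range.mp hi), list_prod_diagMat]

/-- The certificate that the Cartan integers of `D₂` separate the torus parameters of `D₁`. -/
def MCert (D₁ D₂ : ChevalleyDatum) (M : List (List ℤ)) : Prop :=
  ∀ i < D₁.rank, ∀ j < D₁.rank,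
    ((List.range D₂.rank).map fun k => (M.getD i []).getD k 0 * D₂.cartan j (D₂.simple k)).sum =
      if i = j then 1 else 0

instance (D₁ D₂ : ChevalleyDatum) (M : List (List ℤ)) : Decidable (MCert D₁ D₂ M) := by
  unfold MCert
  infer_instance

/-- If the characters of two parameter vectors agree on the fundamental roots of `D₂`, the vectors agree. -/
theorem eq_of_char_eq {M : List (List ℤ)} (hM : MCert D₁ D₂ M) (t t' : ℕ → F) (ht : ∀ i, t i ≠ 0)
    (ht' : ∀ i, t' i ≠ 0)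
    (h : ∀ k < D₂.rank, ((List.range D₁.rank).map fun i => t i ^ D₂.cartan i (D₂.simple k)).prod =
      ((List.range D₁.rank).map fun i => t' i ^ D₂.cartan i (D₂.simple k)).prod)
    (i : ℕ) (hi : i < D₁.rank) : t i = t' i := by
  set u : ℕ → F := fun j => t j * (t' j)⁻¹ with hu
  have hu0 : ∀ j, u j ≠ 0 := fun j => mul_ne_zero (ht j) (inv_ne_zero (ht' j))
  have hchar : ∀ k < D₂.rank, ∏ j ∈ Finset.range D₁.rank, u j ^ D₂.cartan j (D₂.simple k) = 1 := by
    intro k hk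
    have e1 : ∏ j ∈ Finset.range D₁.rank, u j ^ D₂.cartan j (D₂.simple k) =
        (∏ j ∈ Finset.range D₁.rank, t j ^ D₂.cartan j (D₂.simple k)) *
          (∏ j ∈ Finset.range D₁.rank, t' j ^ D₂.cartan j (D₂.simple k))⁻¹ := by
      rw [← Finset.prod_inv_distrib, ← Finset.prod_mul_distrib]
      apply Finset.prod_congr rfl
      intro j _
      rw [hu, mul_zpow, inv_zpow]
    rw [e1, prod_range_eq_list, prod_range_eq_list, h k hk, mul_inv_cancel₀]
    apply List.prod_ne_zero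
    intro h0
    rw [List.mem_map] at h0
    obtain ⟨j, _, hj⟩ := h0
    exact zpow_ne_zero _ (ht' j) hj
  have h1 : u i = ∏ j ∈ Finset.range D₁.rank, u j ^ (if i = j then (1 : ℤ) else 0) := by
    rw [Finset.prod_eq_single i]
    · rw [if_pos rfl, zpow_one]
    · intro j _ hji
      rw [if_neg (Ne.symm hji), zpow_zero]
    · intro hi'
      exact absurd (Finset.mem_range.mpr hi) hi'
  have h2 : ∏ j ∈ Finset.range D₁.rank, u j ^ (if i = j then (1 : ℤ) else 0) =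
      ∏ j ∈ Finset.range D₁.rank, ∏ k ∈ Finset.range D₂.rank,
        (u j ^ D₂.cartan j (D₂.simple k)) ^ (M.getD i []).getD k 0 := by
    apply Finset.prod_congr rfl
    intro j hj
    rw [← hM i hi j (Finset.mem_range.mp hj), ← sum_range_eq_list, zpow_sum_range _ (hu0 j)]
    apply Finset.prod_congr rfl
    intro k _
    rw [← zpow_mul, mul_comm]
  have h3 : u i = 1 := by
    rw [h1, h2, Finset.prod_comm]
    apply Finset.prod_eq_one
    intro k hk
    rw [Finset.prod_zpow, hchar k (Finset.mem_range.mp hk), one_zpow]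
  rw [hu] at h3
  exact (mul_inv_eq_one₀ (ht' i)).mp h3

/-- In the group presented by (R1), (R2), (R3) for `D₁` the element `∏ h̄_{p_i}(t_i)` determines `t`. -/
theorem tor_injective (c₂ : DCert D₂ Ns₂) (tc₂ : TCert D₂) (hR2 : R2All D₂ F) (sc : SubCert D₁ D₂ ι)
    {M : List (List ℤ)} (hM : MCert D₁ D₂ M) (t t' : ℕ → F) (ht : ∀ i, t i ≠ 0) (ht' : ∀ i, t' i ≠ 0)
    (h : tor D₁ (pGen D₁ (D₁.steinbergRels F)) t = tor D₁ (pGen D₁ (D₁.steinbergRels F)) t') (i : ℕ)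
    (hi : i < D₁.rank) : t i = t' i := by
  have h1 := toModel_tor c₂ tc₂ hR2 sc t ht
  have h2 := toModel_tor c₂ tc₂ hR2 sc t' ht'
  rw [h, h2] at h1
  apply eq_of_char_eq hM t t' ht ht' _ i hi
  intro k hk
  have hs := (c₂.ncert k hk).simple_lt
  have := congrFun (congrFun h1 (Sum.inr ⟨D₂.simple k, hs⟩)) (Sum.inr ⟨D₂.simple k, hs⟩)
  unfold diagMat at this
  rw [Matrix.diagonal_apply_eq, Matrix.diagonal_apply_eq] at this
  exact this.symm

end Cfsg.Agent.Lib.Helper81_StSub
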