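/-
Steinberg's presentation (helper81): for `G₂`, `F₄`, `E₈` the presented group has trivial centre (and maps
isomorphically onto the Chevalley group).
-/
import Mathlib
import Cfsg.Agent.Lib.Helper81_StMainB
import Cfsg.Agent.Lib.Helper81_StUni

set_option autoImplicit false
set_option linter.unusedSectionVars false
set_option linter.unusedVariables false

namespace Cfsg.Agent.Lib.Helper81_StUniB

open Cfsg Cfsg.Lie Cfsg.Agent.Lib.Helper18_ChevFast Cfsg.Agent.Lib.Helper18_ChevEngine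
  Cfsg.Agent.Lib.Helper18_ChevR1 Cfsg.Agent.Lib.Helper18_ChevN Cfsg.Agent.Lib.Helper18_ChevR4
  Cfsg.Agent.Lib.Helper18_ChevSimple Cfsg.Agent.Lib.Helper18_ChevSimple2 Cfsg.Agent.Lib.Helper18_ChevFacts
  Cfsg.Agent.Lib.Helper18_ChevWeyl Cfsg.Agent.Lib.Helper18_ChevDiag Cfsg.Agent.Lib.Helper18_ChevCar
  Cfsg.Agent.Lib.Helper18_ChevTorus Cfsg.Agent.Lib.Helper18_ChevGL Cfsg.Agent.Lib.Helper18_ChevComm
  Cfsg.Agent.Lib.Helper18_ChevComm2 Cfsg.Agent.Lib.Helper18_MatTri Cfsg.Agent.Lib.Helper18_ChevTri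
  Cfsg.Agent.Lib.Helper18_ChevBorel Cfsg.Agent.Lib.Helper18_ChevAdd Cfsg.Agent.Lib.Helper18_ChevUni
  Cfsg.Agent.Lib.Helper18_ChevBN Cfsg.Agent.Lib.Helper18_ChevMono Cfsg.Agent.Lib.Helper18_ChevBNPair
  Cfsg.Agent.Lib.Helper18_ChevLevi
  Cfsg.Agent.Lib.Helper81_StUniq Cfsg.Agent.Lib.Helper81_StAbs Cfsg.Agent.Lib.Helper81_StL37
  Cfsg.Agent.Lib.Helper81_StBruhat Cfsg.Agent.Lib.Helper81_StMain Cfsg.Agent.Lib.Helper81_StTorus
  Cfsg.Agent.Lib.Helper81_StMainB Cfsg.Agent.Lib.Helper81_StUni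

variable {F : Type*} [Field F]

theorem uCert_G2 : UCert chevG2 [[2, 1], [3, 2]] := by decide +kernel

theorem uCert_F4 : UCert chevF4 [[2, 3, 2, 1], [3, 6, 4, 2], [4, 8, 6, 3], [2, 4, 3, 2]] := by decide +kernel

theorem uCert_E8 : UCert chevE8 [[4, 5, 7, 10, 8, 6, 4, 2], [5, 8, 10, 15, 12, 9, 6, 3],
    [7, 10, 14, 20, 16, 12, 8, 4], [10, 15, 20, 30, 24, 18, 12, 6], [8, 12, 16, 24, 20, 15, 10, 5],
    [6, 9, 12, 18, 15, 12, 8, 4], [4, 6, 8, 12, 10, 8, 6, 3], [2, 3, 4, 6, 5, 4, 3, 2]] := by decide +kernel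

theorem exists_uCert (D : ChevalleyDatum) (hD : D ∈ [chevG2, chevF4, chevE8]) : ∃ M, UCert D M := by
  simp only [List.mem_cons, List.not_mem_nil, or_false] at hD
  rcases hD with rfl | rfl | rfl
  · exact ⟨_, uCert_G2⟩
  · exact ⟨_, uCert_F4⟩
  · exact ⟨_, uCert_E8⟩

theorem r3_pGen (D : ChevalleyDatum) {Ns : List NData} (c : DCert D Ns) :
    R3 D (pGen D (D.steinbergRels F)) := by
  intro i hi a b ha hb
  rw [hBar_pGen, hBar_pGen, hBar_pGen, ← map_mul, ← mul_inv_eq_one, ← map_inv, ← map_mul]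
  apply PresentedGroup.one_of_mem
  right
  exact ⟨D.simple i, a, b, (c.ncert i hi).simple_lt, ha, hb, rfl⟩

/-- For `G₂`, `F₄`, `E₈`: a homomorphism from the presented group to the Chevalley group matching the generators is
injective. -/
theorem injective_of_lift (D : ChevalleyDatum) (hD : D ∈ [chevG2, chevF4, chevE8])
    (θ : D.SteinbergGroup F →* ↥(D.group F))
    (hθ : ∀ (r : ℕ) (t : F), r < D.nroots →
      ((θ (D.stGen F r t) : GL D.Idx F) : Matrix D.Idx D.Idx F) = D.x F r t) :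
    Function.Injective θ := by
  have hD' : D ∈ [chevG2, chevB2, chevD4, chevF4, chevE6, chevE7, chevE8] := by
    simp only [List.mem_cons, List.not_mem_nil, or_false] at hD ⊢
    rcases hD with rfl | rfl | rfl <;> simp
  obtain ⟨Ns, w, d, Ts, hT, K, base, stepT, wl, ws, sc, c, tc, gc, pc, ac⟩ :=
    Cfsg.Agent.Lib.Helper18_ChevData5.exists_cert5 D hD'
  obtain ⟨hA, bs, hB⟩ := Cfsg.Agent.Lib.Helper81_StCerts.exists_certAB D hD'
  obtain ⟨M, hM⟩ := exists_uCert D hD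
  have hX := stGrp_pGen (D := D) (F := F) (rels := D.steinbergRels F) relsAB_subset
  set π : D.SteinbergGroup F →* GL D.Idx F := (D.group F).subtype.comp θ with hπdef
  have hπ : IsLift c (pGen D (D.steinbergRels F)) π := by
    intro r hr t
    apply Units.ext
    rw [xGL_coe]
    exact hθ r t hr
  rw [injective_iff_map_eq_one]
  intro g hg
  apply ker_eq_bot c tc ac gc hA hB hX hπ gen_pGen (r3_pGen D c) hM g
  show ((θ g : ↥(D.group F)) : GL D.Idx F) = 1
  rw [hg]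
  rfl

/-- For `G₂`, `F₄`, `E₈` the presented group has trivial centre. -/
theorem center_eq_bot (D : ChevalleyDatum) (hD : D ∈ [chevG2, chevF4, chevE8]) :
    Subgroup.center (D.SteinbergGroup F) = ⊥ := by
  have hD' : D ∈ [chevG2, chevB2, chevD4, chevF4, chevE6, chevE7, chevE8] := by
    simp only [List.mem_cons, List.not_mem_nil, or_false] at hD ⊢
    rcases hD with rfl | rfl | rfl <;> simp
  obtain ⟨θ, -, hker, hθ⟩ := exists_hom_ker_eq_center (F := F) D hD'
  rw [← hker, MonoidHom.ker_eq_bot_iff]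
  exact injective_of_lift D hD θ hθ

/-- For `G₂`, `F₄`, `E₈` the presented group is isomorphic to the Chevalley group, matching the generators. -/
theorem exists_mulEquiv (D : ChevalleyDatum) (hD : D ∈ [chevG2, chevF4, chevE8]) :
    ∃ θ : D.SteinbergGroup F ≃* ↥(D.group F), ∀ (r : ℕ) (t : F), r < D.nroots →
      ((θ (D.stGen F r t) : GL D.Idx F) : Matrix D.Idx D.Idx F) = D.x F r t := by
  have hD' : D ∈ [chevG2, chevB2, chevD4, chevF4, chevE6, chevE7, chevE8] := by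
    simp only [List.mem_cons, List.not_mem_nil, or_false] at hD ⊢
    rcases hD with rfl | rfl | rfl <;> simp
  obtain ⟨θ, hsurj, -, hθ⟩ := exists_hom_ker_eq_center (F := F) D hD'
  exact ⟨MulEquiv.ofBijective θ ⟨injective_of_lift D hD θ hθ, hsurj⟩, hθ⟩

end Cfsg.Agent.Lib.Helper81_StUniB
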