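/-
Curtis–Tits (market `ct_packages` of helper72, S1164), package INJ_B2, main part: the evident homomorphism from the
Curtis–Tits group of type F4 to the Steinberg group is injective on the rank two subgroup of the `B2`-pair `(1, 2)`,
given that the Chevalley group of type `B2` is simple.
-/
import Mathlib
import Cfsg.Agent.Lib.Helper72_CT_Certs
import Cfsg.Agent.Lib.Helper81_StTorus
import Cfsg.Agent.Lib.Helper81_StUniB
import Cfsg.Agent.Lib.Helper81_StSub
import Cfsg.Agent.Lib.Helper18_ChevJCerts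

set_option autoImplicit false
set_option linter.unusedSectionVars false
set_option linter.unusedVariables false

namespace Cfsg.Agent.Lib.Helper55_CT_INJ_B2aux

open Cfsg Cfsg.Lie Cfsg.Agent.Lib.Helper72_CT
  Cfsg.Agent.Lib.Helper18_ChevFast Cfsg.Agent.Lib.Helper18_ChevEngine
  Cfsg.Agent.Lib.Helper18_ChevR1 Cfsg.Agent.Lib.Helper18_ChevN Cfsg.Agent.Lib.Helper18_ChevR4
  Cfsg.Agent.Lib.Helper18_ChevSimple Cfsg.Agent.Lib.Helper18_ChevSimple2 Cfsg.Agent.Lib.Helper18_ChevFacts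
  Cfsg.Agent.Lib.Helper18_ChevWeyl Cfsg.Agent.Lib.Helper18_ChevDiag Cfsg.Agent.Lib.Helper18_ChevCar
  Cfsg.Agent.Lib.Helper18_ChevTorus Cfsg.Agent.Lib.Helper18_ChevGL Cfsg.Agent.Lib.Helper18_ChevComm
  Cfsg.Agent.Lib.Helper18_ChevComm2 Cfsg.Agent.Lib.Helper18_MatTri Cfsg.Agent.Lib.Helper18_ChevTri
  Cfsg.Agent.Lib.Helper18_ChevBorel Cfsg.Agent.Lib.Helper18_ChevAdd Cfsg.Agent.Lib.Helper18_ChevUni
  Cfsg.Agent.Lib.Helper18_ChevBN Cfsg.Agent.Lib.Helper18_ChevMono Cfsg.Agent.Lib.Helper18_ChevBNPair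
  Cfsg.Agent.Lib.Helper18_ChevLevi Cfsg.Agent.Lib.Helper18_ChevSimp Cfsg.Agent.Lib.Helper18_ChevBruhat
  Cfsg.Agent.Lib.Helper18_ChevJCerts
  Cfsg.Agent.Lib.Helper81_StUniq Cfsg.Agent.Lib.Helper81_StAbs Cfsg.Agent.Lib.Helper81_StL37
  Cfsg.Agent.Lib.Helper81_StBruhat Cfsg.Agent.Lib.Helper81_StMain Cfsg.Agent.Lib.Helper81_StTorus
  Cfsg.Agent.Lib.Helper81_StMainB Cfsg.Agent.Lib.Helper81_StUni Cfsg.Agent.Lib.Helper81_StUniB
  Cfsg.Agent.Lib.Helper81_StSubDef

/-! ### The embedding of the roots of `B2` into the roots of `F4` -/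

/-- The indices in the datum of type F4 of the roots of the subsystem spanned by the fundamental roots `1, 2`. -/
def iotaL : List ℕ := [17, 19, 20, 22, 25, 27, 28, 30]

/-- The embedding of the roots (out of range for an index that is out of range). -/
def iota (r : ℕ) : ℕ := iotaL.getD r chevF4.nroots

theorem iota_lt : ∀ r < chevB2.nroots, iota r < chevF4.nroots := by decide +kernel

theorem iota_ge : ∀ r, ¬ r < chevB2.nroots → iota r = chevF4.nroots := by
  intro r hr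
  have hlen : iotaL.length = chevB2.nroots := by decide +kernel
  unfold iota
  rw [List.getD_eq_default _ _ (by rw [hlen]; exact Nat.le_of_not_lt hr)]

theorem iota_inj : ∀ r < chevB2.nroots, ∀ s < chevB2.nroots, iota r = iota s → r = s := by decide +kernel

theorem iota_neg : ∀ r < chevB2.nroots, iota (chevB2.neg r) = chevF4.neg (iota r) := by decide +kernel

theorem neg_lt : ∀ r < chevB2.nroots, chevB2.neg r < chevB2.nroots := by decide +kernel

set_option maxRecDepth 100000 in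
theorem iota_comm : ∀ r < chevB2.nroots, commOK chevB2 chevF4 iota r = true := by decide +kernel

set_option maxRecDepth 100000 in
theorem iota_sub : ∀ r < chevB2.nroots, chevF4.InRankTwoSub 1 2 (iota r) := by decide +kernel

set_option maxRecDepth 100000 in
theorem sub_iota_aux : ∀ r < chevF4.nroots, chevF4.InRankTwoSub 1 2 r → ∃ r' < chevB2.nroots, r = iota r' := by
  decide +kernel

theorem sub_iota {r : ℕ} (hr : chevF4.InRankTwoSub 1 2 r) : ∃ r' < chevB2.nroots, r = iota r' :=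
  sub_iota_aux r hr.1 hr

theorem iota_simple : iota (chevB2.simple 0) = chevF4.simple 1 ∧ iota (chevB2.simple 1) = chevF4.simple 2 ∧
    chevB2.simple 0 < chevB2.nroots ∧ chevB2.simple 1 < chevB2.nroots := by decide +kernel

theorem commTerms_eq (r s : ℕ) (hr : r < chevB2.nroots) (hs : s < chevB2.nroots)
    (h1 : s ≠ r) (h2 : s ≠ chevB2.neg r) :
    chevF4.commTerms (iota r) (iota s) = (chevB2.commTerms r s).map fun c => (iota c.1, c.2) := by
  have h := iota_comm r hr
  unfold commOK at h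
  rw [List.all_eq_true] at h
  have := h s (List.mem_range.mpr hs)
  simp only [Bool.or_eq_true, beq_iff_eq, decide_eq_true_eq] at this
  rcases this with (h | h) | h
  · exact absurd h h1
  · exact absurd h h2
  · exact h

/-! ### The relations of the Curtis–Tits group -/

section CT

variable {D : ChevalleyDatum} {K : Type*} [Field K]

theorem ct_add {i j r : ℕ} (hr : D.InRankTwoSub i j r) (t u : K) :
    xh D K r t * xh D K r u = xh D K r (t + u) := by
  have h : D.stX r t * D.stX r u * (D.stX r (t + u))⁻¹ ∈ D.curtisTitsRels K :=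
    Or.inl (Or.inl (Or.inr ⟨i, j, r, t, u, hr, rfl⟩))
  have := PresentedGroup.one_of_mem h
  rw [map_mul, map_mul, map_inv, mul_inv_eq_one] at this
  exact this

theorem ct_comm {i j r s : ℕ} (hr : D.InRankTwoSub i j r) (hs : D.InRankTwoSub i j s) (h1 : s ≠ r)
    (h2 : s ≠ D.neg r) (t u : K) :
    (xh D K s u)⁻¹ * (xh D K r t)⁻¹ * xh D K s u * xh D K r t = wordP (xh D K) (D.commWord K r s t u) := by
  have h : (D.stX s u)⁻¹ * (D.stX r t)⁻¹ * D.stX s u * D.stX r t * (D.stWord (D.commWord K r s t u))⁻¹ ∈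
      D.curtisTitsRels K := Or.inl (Or.inr ⟨i, j, r, s, t, u, hr, hs, h1, h2, rfl⟩)
  have := PresentedGroup.one_of_mem h
  rw [map_mul, map_mul, map_mul, map_mul, map_inv, map_inv, map_inv, mul_inv_eq_one, mk_stWord] at this
  exact this

theorem ct_R3 {i j r : ℕ} (hr : D.InRankTwoSub i j r) (t₁ t₂ : K) (h₁ : t₁ ≠ 0) (h₂ : t₂ ≠ 0) :
    wordP (xh D K) (D.hWord r t₁) * wordP (xh D K) (D.hWord r t₂) = wordP (xh D K) (D.hWord r (t₁ * t₂)) := by
  have h : D.stH r t₁ * D.stH r t₂ * (D.stH r (t₁ * t₂))⁻¹ ∈ D.curtisTitsRels K :=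
    Or.inr ⟨i, j, r, t₁, t₂, hr, h₁, h₂, rfl⟩
  have := PresentedGroup.one_of_mem h
  rw [map_mul, map_mul, map_inv, mul_inv_eq_one] at this
  unfold ChevalleyDatum.stH at this
  rw [mk_stWord, mk_stWord, mk_stWord] at this
  exact this

theorem xh_ge {r : ℕ} (hr : ¬ r < D.nroots) (t : K) : xh D K r t = 1 := by
  show PresentedGroup.mk _ (D.stX r t) = 1
  unfold ChevalleyDatum.stX
  rw [dif_neg hr, map_one]

end CT

/-! ### The homomorphism from the Steinberg group of type `B2` to the Curtis–Tits group of type `F4` -/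

section Phi

variable (K : Type*) [Field K]

/-- The word with the roots mapped by `iota`. -/
def mapI (w : List (ℕ × K)) : List (ℕ × K) := w.map fun p => (iota p.1, p.2)

/-- The images of the free generators. -/
def phiGen : Fin chevB2.nroots × K → chevF4.CurtisTitsGroup K := fun p => xh chevF4 K (iota p.1) p.2

variable {K}

theorem lift_phiGen_stX (r : ℕ) (t : K) :
    FreeGroup.lift (phiGen K) (chevB2.stX r t) = xh chevF4 K (iota r) t := by
  unfold ChevalleyDatum.stX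
  by_cases hr : r < chevB2.nroots
  · rw [dif_pos hr, FreeGroup.lift_apply_of]
    rfl
  · rw [dif_neg hr, map_one, iota_ge r hr, xh_ge (lt_irrefl _)]

theorem lift_phiGen_stWord (w : List (ℕ × K)) :
    FreeGroup.lift (phiGen K) (chevB2.stWord w) = wordP (xh chevF4 K) (mapI K w) := by
  unfold ChevalleyDatum.stWord wordP mapI
  rw [map_list_prod, List.map_map, List.map_map]
  congr 1
  apply List.map_congr_left
  intro p _
  exact lift_phiGen_stX p.1 p.2

theorem mapI_nWord (r : ℕ) (hr : r < chevB2.nroots) (t : K) :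
    mapI K (chevB2.nWord r t) = chevF4.nWord (iota r) t := by
  unfold mapI ChevalleyDatum.nWord
  simp only [List.map_cons, List.map_nil]
  rw [iota_neg r hr]

theorem mapI_hWord (r : ℕ) (hr : r < chevB2.nroots) (t : K) :
    mapI K (chevB2.hWord r t) = chevF4.hWord (iota r) t := by
  unfold ChevalleyDatum.hWord
  have : mapI K (chevB2.nWord r t ++ chevB2.nWord r (-1)) =
      mapI K (chevB2.nWord r t) ++ mapI K (chevB2.nWord r (-1)) := by
    unfold mapI
    rw [List.map_append]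
  rw [this, mapI_nWord r hr, mapI_nWord r hr]

theorem mapI_commWord (r s : ℕ) (hr : r < chevB2.nroots) (hs : s < chevB2.nroots)
    (h1 : s ≠ r) (h2 : s ≠ chevB2.neg r) (t u : K) :
    mapI K (chevB2.commWord K r s t u) = chevF4.commWord K (iota r) (iota s) t u := by
  unfold ChevalleyDatum.commWord mapI
  rw [commTerms_eq r s hr hs h1 h2, List.map_map, List.map_map]
  rfl

theorem lift_phiGen_stH (r : ℕ) (hr : r < chevB2.nroots) (t : K) :
    FreeGroup.lift (phiGen K) (chevB2.stH r t) = wordP (xh chevF4 K) (chevF4.hWord (iota r) t) := by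
  unfold ChevalleyDatum.stH
  rw [lift_phiGen_stWord, mapI_hWord r hr]

/-- The relators of `B2` hold in the Curtis–Tits group of type `F4`. -/
theorem phi_rels : ∀ g ∈ chevB2.steinbergRels K, FreeGroup.lift (phiGen K) g = 1 := by
  rintro g ((⟨r, t₁, t₂, hr, rfl⟩ | ⟨r, s, t, u, hr, hs, h1, h2, rfl⟩) | ⟨r, t₁, t₂, hr, h₁, h₂, rfl⟩)
  · rw [map_mul, map_mul, map_inv, lift_phiGen_stX, lift_phiGen_stX, lift_phiGen_stX,
      ct_add (iota_sub r hr), mul_inv_cancel]
  · have hne1 : iota s ≠ iota r := fun h => h1 (iota_inj s hs r hr h)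
    have hne2 : iota s ≠ chevF4.neg (iota r) := by
      rw [← iota_neg r hr]
      exact fun h => h2 (iota_inj s hs _ (neg_lt r hr) h)
    rw [map_mul, map_mul, map_mul, map_mul, map_inv, map_inv, map_inv, lift_phiGen_stX, lift_phiGen_stX,
      lift_phiGen_stWord, mapI_commWord r s hr hs h1 h2,
      ct_comm (iota_sub r hr) (iota_sub s hs) hne1 hne2, mul_inv_cancel]
  · rw [map_mul, map_mul, map_inv, lift_phiGen_stH r hr, lift_phiGen_stH r hr, lift_phiGen_stH r hr,
      ct_R3 (iota_sub r hr) t₁ t₂ h₁ h₂, mul_inv_cancel]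

variable (K)

/-- The homomorphism `x̄_r(t) ↦ x̂_{ι r}(t)`. -/
def phi : chevB2.SteinbergGroup K →* chevF4.CurtisTitsGroup K := PresentedGroup.toGroup phi_rels

variable {K}

theorem phi_mk (x : FreeGroup (Fin chevB2.nroots × K)) :
    phi K (PresentedGroup.mk (chevB2.steinbergRels K) x) = FreeGroup.lift (phiGen K) x := by
  induction x using FreeGroup.induction_on with
  | C1 => rw [map_one, map_one, map_one]
  | of x =>
    rw [FreeGroup.lift_apply_of]
    exact PresentedGroup.toGroup.of phi_rels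
  | inv_of x ih => rw [map_inv, map_inv, map_inv, ih]
  | mul x y ihx ihy => rw [map_mul, map_mul, map_mul, ihx, ihy]

theorem phi_xs (r : ℕ) (t : K) : phi K (xs chevB2 K r t) = xh chevF4 K (iota r) t := by
  show phi K (PresentedGroup.mk _ (chevB2.stX r t)) = _
  rw [phi_mk, lift_phiGen_stX]

/-- The rank two subgroup is in the range of `phi`. -/
theorem G2_le_range : G2 chevF4 K 1 2 ≤ (phi K).range := by
  unfold G2
  rw [Subgroup.closure_le]
  rintro y ⟨r, t, hr, rfl⟩
  obtain ⟨r', hr', rfl⟩ := sub_iota hr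
  exact ⟨xs chevB2 K r' t, phi_xs r' t⟩

end Phi

/-! ### The composite homomorphism to the general linear group of type `F4` -/

section Fm

variable {K : Type*} [Field K] {Ns₂ : List NData}

/-- The composite `St(B2) → CT(F4) → St(F4) → GL`. -/
def Fm (h : VisCert chevF4) (c₂ : DCert chevF4 Ns₂) (tc₂ : TCert chevF4) (hR2 : R2All chevF4 K) :
    chevB2.SteinbergGroup K →* GL chevF4.Idx K :=
  (toGL c₂ (lift_rels c₂ tc₂ hR2)).comp ((ctToSt h).comp (phi K))

theorem Fm_apply (h : VisCert chevF4) (c₂ : DCert chevF4 Ns₂) (tc₂ : TCert chevF4) (hR2 : R2All chevF4 K)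
    (y : chevB2.SteinbergGroup K) :
    Fm h c₂ tc₂ hR2 y = toGL c₂ (lift_rels c₂ tc₂ hR2) (ctToSt h (phi K y)) := rfl

theorem vis_iota {r : ℕ} (hr : r < chevB2.nroots) : Vis chevF4 (iota r) :=
  (vis_iff chevF4).mpr ⟨1, 2, iota_sub r hr⟩

theorem Fm_xs (h : VisCert chevF4) (c₂ : DCert chevF4 Ns₂) (tc₂ : TCert chevF4) (hR2 : R2All chevF4 K)
    (r : ℕ) (hr : r < chevB2.nroots) (t : K) :
    Fm h c₂ tc₂ hR2 (xs chevB2 K r t) = xGL c₂ (iota r) t := by
  rw [Fm_apply, phi_xs, ctToSt_xh h (vis_iota hr)]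
  exact isLift_toGL c₂ (lift_rels c₂ tc₂ hR2) (iota r) (iota_lt r hr) t

theorem Fm_wordP (h : VisCert chevF4) (c₂ : DCert chevF4 Ns₂) (tc₂ : TCert chevF4) (hR2 : R2All chevF4 K)
    (w : List (ℕ × K)) (hw : ∀ p ∈ w, p.1 < chevB2.nroots) :
    Fm h c₂ tc₂ hR2 (wordP (xs chevB2 K) w) = wordGL c₂ (mapI K w) := by
  induction w with
  | nil =>
    unfold mapI
    rw [wordP_nil, List.map_nil, wordGL_nil, map_one]
  | cons p w ih =>
    have e : mapI K (p :: w) = (iota p.1, p.2) :: mapI K w := by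
      unfold mapI
      rw [List.map_cons]
    rw [wordP_cons, e, wordGL_cons, map_mul, Fm_xs h c₂ tc₂ hR2 p.1 (hw p (by simp)),
      ih (fun q hq => hw q (List.mem_cons_of_mem _ hq))]

theorem Fm_hBar (h : VisCert chevF4) (c₂ : DCert chevF4 Ns₂) (tc₂ : TCert chevF4) (hR2 : R2All chevF4 K)
    (i : ℕ) (hi : i < 2) (a : K) :
    Fm h c₂ tc₂ hR2 (hBar chevB2 (xs chevB2 K) i a) = hGL c₂ (chevF4.simple (i + 1)) a := by
  obtain ⟨h0, h1, h2, h3⟩ := iota_simple
  have hs : chevB2.simple i < chevB2.nroots ∧ iota (chevB2.simple i) = chevF4.simple (i + 1) := by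
    interval_cases i
    · exact ⟨h2, h0⟩
    · exact ⟨h3, h1⟩
  unfold hBar hGL
  rw [Fm_wordP, mapI_hWord _ hs.1, hs.2]
  intro p hp
  unfold ChevalleyDatum.hWord ChevalleyDatum.nWord at hp
  simp only [List.cons_append, List.nil_append, List.mem_cons, List.not_mem_nil, or_false] at hp
  rcases hp with rfl | rfl | rfl | rfl | rfl | rfl
  · exact hs.1
  · exact neg_lt _ hs.1
  · exact hs.1
  · exact hs.1
  · exact neg_lt _ hs.1
  · exact hs.1

theorem Fm_tor (h : VisCert chevF4) (c₂ : DCert chevF4 Ns₂) (tc₂ : TCert chevF4) (hR2 : R2All chevF4 K)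
    (t : ℕ → K) (ht : ∀ i, t i ≠ 0) :
    ((Fm h c₂ tc₂ hR2 (tor chevB2 (xs chevB2 K) t) : GL chevF4.Idx K) : Matrix chevF4.Idx chevF4.Idx K) =
      diagMat chevF4 (fun s => t 0 ^ chevF4.cartan 1 s * t 1 ^ chevF4.cartan 2 s) := by
  have hrk : chevB2.rank = 2 := rfl
  have e : tor chevB2 (xs chevB2 K) t =
      hBar chevB2 (xs chevB2 K) 0 (t 0) * hBar chevB2 (xs chevB2 K) 1 (t 1) := by
    unfold tor torL
    rw [hrk]
    simp [List.range_succ]
  have h1 : (1 : ℕ) < chevF4.rank := by decide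
  have h2 : (2 : ℕ) < chevF4.rank := by decide
  rw [e, map_mul, Fm_hBar h c₂ tc₂ hR2 0 (by norm_num), Fm_hBar h c₂ tc₂ hR2 1 (by norm_num), Units.val_mul,
    hGL_coe, hGL_coe, hMat_all c₂ tc₂ _ (c₂.ncert 1 h1).simple_lt _ (ht 0),
    hMat_all c₂ tc₂ _ (c₂.ncert 2 h2).simple_lt _ (ht 1), diagMat_mul]
  apply diagMat_congr
  intro s _
  rw [tc₂.cartanR_simple 1 h1 s, tc₂.cartanR_simple 2 h2 s]

/-- Two root elements in the image that do not commute. -/
theorem not_comm {wl : List ℤ} {ws : List (List ℤ)} {sc : ℤ} (c₂ : DCert chevF4 Ns₂) (tc₂ : TCert chevF4)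
    (ac₂ : ACert chevF4 wl ws sc) (hR2 : R2All chevF4 K) :
    xGL c₂ 27 (1 : K) * xGL c₂ 25 1 ≠ xGL c₂ 25 1 * xGL c₂ 27 1 := by
  intro hcomm
  have h1 := conj_of_R2 c₂ (hR2 27 25 (by decide) (by decide) (by decide) (by decide)) (1 : K) 1
  have h2 : (xGL c₂ 27 (1 : K))⁻¹ * xGL c₂ 25 1 * xGL c₂ 27 1 = xGL c₂ 25 1 := by
    rw [mul_assoc, ← hcomm, inv_mul_cancel_left]
  rw [h2] at h1
  have h3 : wordGL c₂ (chevF4.commWord K 27 25 1 1) = 1 := (mul_eq_left.mp h1.symm)
  have hct : chevF4.commTerms 27 25 = [(28, -1, 1, 1), (30, -1, 2, 1)] := by decide +kernel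
  unfold ChevalleyDatum.commWord at h3
  rw [hct] at h3
  simp only [List.map_cons, List.map_nil] at h3
  have hpos : ∀ r ∈ [28, 30], r < chevF4.nroots ∧ 1 ≤ grRoot chevF4 wl r := by
    intro r hr
    have hr' : r < chevF4.nroots ∧ chevF4.IsPosRoot r := by
      simp only [List.mem_cons, List.not_mem_nil, or_false] at hr
      rcases hr with rfl | rfl <;> decide
    refine ⟨hr'.1, ?_⟩
    have := (ac₂.at r hr'.1).2.2.2.2.1 hr'.2
    unfold gl at this
    omega
  set t : ℕ → K := fun r => if r = 28 then ((-1 : ℤ) : K) * (-1) ^ 1 * 1 ^ 1 else ((-1 : ℤ) : K) * (-1) ^ 2 * 1 ^ 1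
    with ht
  have key := unique_word_gr c₂ tc₂ ac₂ wl [28, 30] (by decide) hpos t (fun _ => 0) ?_ 28 (by simp)
  · rw [ht] at key
    simp at key
  · rw [← wordGL_coe c₂, ← wordGL_coe c₂]
    have e1 : wordGL c₂ (List.map (fun r => (r, t r)) [28, 30]) = 1 := by
      rw [← h3]
      rfl
    have e2 : wordGL c₂ (List.map (fun r => (r, (0 : K))) [28, 30]) = 1 := by
      simp only [List.map_cons, List.map_nil]
      rw [wordGL_cons, wordGL_cons, wordGL_nil, xGL_zero, xGL_zero, mul_one, mul_one]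
    rw [e1, e2]

end Fm

/-! ### The main theorem -/

/-- INJ_B2, given that the Chevalley group of type `B2` over `K` is simple. -/
theorem injOn2_B2_of (K : Type*) [Field K] (hsimp : IsSimpleGroup ↥(chevB2.group K)) (h : VisCert chevF4) :
    InjOn2 h K 1 2 := by
  have hD4 : chevF4 ∈ [chevG2, chevB2, chevD4, chevF4, chevE6, chevE7, chevE8] := by simp
  have hD2 : chevB2 ∈ [chevG2, chevB2, chevD4, chevF4, chevE6, chevE7, chevE8] := by simp
  obtain ⟨Ns₂, w₂, d₂, Ts₂, hT₂, K₂, base₂, stepT₂, wl₂, ws₂, sc₂, c₂, tc₂, gc₂, pc₂, ac₂⟩ :=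
    Cfsg.Agent.Lib.Helper18_ChevData5.exists_cert5 chevF4 hD4
  have hR2 : R2All chevF4 K := r2All_of_mem chevF4 hD4
  obtain ⟨Ns₁, w₁, d₁, Ts₁, hT₁, K₁, base₁, stepT₁, wl₁, ws₁, sc₁, c₁, tc₁, gc₁, pc₁, ac₁⟩ :=
    Cfsg.Agent.Lib.Helper18_ChevData5.exists_cert5 chevB2 hD2
  obtain ⟨hA₁, bs₁, hB₁⟩ := Cfsg.Agent.Lib.Helper81_StCerts.exists_certAB chevB2 hD2
  obtain ⟨θ, hθsurj, hθker, hθx⟩ := exists_hom_ker_eq_center (F := K) chevB2 hD2
  have hX₁ : StGrp chevB2 (xs chevB2 K) := stGrp_pGen relsAB_subset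
  set π₁ : chevB2.SteinbergGroup K →* GL chevB2.Idx K := (chevB2.group K).subtype.comp θ with hπ₁def
  have hπ₁ : IsLift c₁ (xs chevB2 K) π₁ := by
    intro r hr t
    apply Units.ext
    rw [xGL_coe]
    exact hθx r t hr
  -- the kernel of the composite is central
  have hkerc : (Fm h c₂ tc₂ hR2).ker ≤ Subgroup.center (chevB2.SteinbergGroup K) := by
    have hMn : ((Fm h c₂ tc₂ hR2).ker.map θ).Normal :=
      Subgroup.Normal.map (MonoidHom.normal_ker _) θ hθsurj
    rcases hMn.eq_bot_or_eq_top with hbot | htop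
    · intro m hm
      rw [← hθker, MonoidHom.mem_ker]
      have : θ m ∈ (Fm h c₂ tc₂ hR2).ker.map θ := Subgroup.mem_map_of_mem θ hm
      rw [hbot, Subgroup.mem_bot] at this
      exact this
    · exfalso
      have hcomm : ∀ y₁ y₂ : chevB2.SteinbergGroup K,
          Fm h c₂ tc₂ hR2 (y₁ * y₂) = Fm h c₂ tc₂ hR2 (y₂ * y₁) := by
        intro y₁ y₂
        have h1 : θ y₁ ∈ (Fm h c₂ tc₂ hR2).ker.map θ := by
          rw [htop]
          exact Subgroup.mem_top _
        obtain ⟨n, hn, hny⟩ := h1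
        have hz : y₁ * n⁻¹ ∈ Subgroup.center (chevB2.SteinbergGroup K) := by
          rw [← hθker, MonoidHom.mem_ker, map_mul, map_inv, hny, mul_inv_cancel]
        have hFn : Fm h c₂ tc₂ hR2 n = 1 := MonoidHom.mem_ker.mp hn
        have hFy : Fm h c₂ tc₂ hR2 y₁ = Fm h c₂ tc₂ hR2 (y₁ * n⁻¹) := by
          rw [map_mul, map_inv, hFn, inv_one, mul_one]
        rw [map_mul, map_mul, hFy, ← map_mul, ← map_mul, Subgroup.mem_center_iff.mp hz y₂]
      have h2 := hcomm (xs chevB2 K 5 1) (xs chevB2 K 4 1)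
      rw [map_mul, map_mul, Fm_xs h c₂ tc₂ hR2 5 (by decide), Fm_xs h c₂ tc₂ hR2 4 (by decide)] at h2
      exact not_comm c₂ tc₂ ac₂ hR2 h2
  intro g hg hπg
  obtain ⟨m, rfl⟩ := G2_le_range hg
  have hFm : Fm h c₂ tc₂ hR2 m = 1 := by rw [Fm_apply, hπg, map_one]
  have hmc : m ∈ Subgroup.center (chevB2.SteinbergGroup K) := hkerc (MonoidHom.mem_ker.mpr hFm)
  have hπm : π₁ m = 1 := by
    have h1 : θ m = 1 := by
      rw [← MonoidHom.mem_ker, hθker]
      exact hmc
    show ((θ m : ↥(chevB2.group K)) : GL chevB2.Idx K) = 1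
    rw [h1]
    rfl
  have hmH : m ∈ HB chevB2 (xs chevB2 K) := ker_le_HB c₁ tc₁ ac₁ gc₁ hA₁ hB₁ hX₁ hπ₁ gen_pGen m hπm
  have h3 : R3 chevB2 (xs chevB2 K) := r3_pGen chevB2 c₁
  obtain ⟨t, ht, rfl⟩ := exists_tor c₁ tc₁ ac₁ hA₁ hB₁ hX₁ hπ₁ h3 m hmH
  have h1 := Fm_tor h c₂ tc₂ hR2 t ht
  rw [hFm, Units.val_one] at h1
  have hchar : ∀ s < chevF4.nroots, t 0 ^ chevF4.cartan 1 s * t 1 ^ chevF4.cartan 2 s = 1 := by
    intro s hs
    have := congrFun (congrFun h1 (Sum.inr ⟨s, hs⟩)) (Sum.inr ⟨s, hs⟩)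
    unfold diagMat at this
    rw [Matrix.one_apply_eq, Matrix.diagonal_apply_eq] at this
    exact this.symm
  have ht0 : t 0 = 1 := by
    have h4 := hchar 33 (by decide)
    have e1 : chevF4.cartan 1 33 = -1 := by decide +kernel
    have e2 : chevF4.cartan 2 33 = 0 := by decide +kernel
    rw [e1, e2, zpow_zero, mul_one, zpow_neg_one, inv_eq_one] at h4
    exact h4
  have ht1 : t 1 = 1 := by
    have h4 := hchar 24 (by decide)
    have e1 : chevF4.cartan 1 24 = 0 := by decide +kernel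
    have e2 : chevF4.cartan 2 24 = -1 := by decide +kernel
    rw [e1, e2, zpow_zero, one_mul, zpow_neg_one, inv_eq_one] at h4
    exact h4
  have hrk : chevB2.rank = 2 := rfl
  have e : tor chevB2 (xs chevB2 K) t =
      hBar chevB2 (xs chevB2 K) 0 (t 0) * hBar chevB2 (xs chevB2 K) 1 (t 1) := by
    unfold tor torL
    rw [hrk]
    simp [List.range_succ]
  rw [e, ht0, ht1, hBar_one h3 0 (by decide), hBar_one h3 1 (by decide), mul_one, map_one]

end Cfsg.Agent.Lib.Helper55_CT_INJ_B2aux
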