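/-
Curtis–Tits (market `ct_packages` of helper72, S1164), package INJ_B2: the evident homomorphism from the
Curtis–Tits group of type F4 to the Steinberg group is injective on the rank two subgroup of the `B2`-pair `(1, 2)`.
The work is done in `Helper55_CT_INJ_B2aux`; here the simplicity of `B2(K)` (landed S1056) is plugged in.
-/
import Mathlib
import Cfsg.Agent.Lib.Helper55_CT_INJ_B2aux
import Cfsg.Agent.S1056

set_option autoImplicit false
set_option linter.unusedSectionVars false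
set_option linter.unusedVariables false

namespace Cfsg.Agent.Lib.Helper55_CT_INJ_B2

open Cfsg Cfsg.Lie Cfsg.Agent.Lib.Helper72_CT
  Cfsg.Agent.Lib.Helper18_ChevFast Cfsg.Agent.Lib.Helper18_ChevEngine
  Cfsg.Agent.Lib.Helper18_ChevR1 Cfsg.Agent.Lib.Helper18_ChevN Cfsg.Agent.Lib.Helper18_ChevR4
  Cfsg.Agent.Lib.Helper18_ChevSimple Cfsg.Agent.Lib.Helper18_ChevSimple2 Cfsg.Agent.Lib.Helper18_ChevFacts
  Cfsg.Agent.Lib.Helper18_ChevWeyl Cfsg.Agent.Lib.Helper18_ChevDiag Cfsg.Agent.Lib.Helper18_ChevCar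
  Cfsg.Agent.Lib.Helper18_ChevTorus Cfsg.Agent.Lib.Helper18_ChevGL Cfsg.Agent.Lib.Helper18_ChevComm
  Cfsg.Agent.Lib.Helper18_ChevComm2 Cfsg.Agent.Lib.Helper18_MatTri Cfsg.Agent.Lib.Helper18_ChevTri
  Cfsg.Agent.Lib.Helper18_ChevBorel Cfsg.Agent.Lib.Helper18_ChevAdd Cfsg.Agent.Lib.Helper18_ChevUni
  Cfsg.Agent.Lib.Helper18_ChevBN Cfsg.Agent.Lib.Helper18_ChevMono Cfsg.Agent.Lib.Helper18_ChevBNPair
  Cfsg.Agent.Lib.Helper18_ChevLevi Cfsg.Agent.Lib.Helper18_ChevSimp Cfsg.Agent.Lib.Helper18_ChevBruhat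
  Cfsg.Agent.Lib.Helper18_ChevJCerts
  Cfsg.Agent.Lib.Helper81_StUniq Cfsg.Agent.Lib.Helper81_StAbs Cfsg.Agent.Lib.Helper81_StL37
  Cfsg.Agent.Lib.Helper81_StBruhat Cfsg.Agent.Lib.Helper81_StMain Cfsg.Agent.Lib.Helper81_StTorus

/-- A field with at least three elements has an element different from `0` and `1`. -/
theorem exists_ne_zero_one (K : Type*) [Field K] [Fintype K] (hK : 3 ≤ Fintype.card K) :
    ∃ a : K, a ≠ 0 ∧ a ≠ 1 := by
  classical
  by_contra hne
  push Not at hne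
  have h1 : (Finset.univ : Finset K) ⊆ {0, 1} := by
    intro a _
    by_cases h0 : a = 0
    · simp [h0]
    · simp [hne a h0]
  have h2 := Finset.card_le_card h1
  rw [Finset.card_univ] at h2
  have h3 : ({0, 1} : Finset K).card ≤ 2 := Finset.card_le_two
  omega

/-- INJ_B2 for fields with at least three elements. -/
theorem injOn2_B2_three (K : Type*) [Field K] [Fintype K] (hK : 3 ≤ Fintype.card K) :
    InjOn2 (visCert_of_mem chevF4 (by simp)) K 1 2 :=
  Cfsg.Agent.Lib.Helper55_CT_INJ_B2aux.injOn2_B2_of K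
    (Cfsg.Agent.S1056.result (exists_ne_zero_one K hK)).1 _

/-! PKG INJ_B2 -/
theorem injOn2_B2 (K : Type*) [Field K] [Fintype K] (hK : 4 ≤ Fintype.card K) :
    InjOn2 (visCert_of_mem chevF4 (by simp)) K 1 2 :=
  injOn2_B2_three K (by omega)

end Cfsg.Agent.Lib.Helper55_CT_INJ_B2
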