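import Mathlib
import Cfsg.Agent.S2119

/-!
# Recognition of symmetric groups as extensions of alternating groups (helper55)

A group with a normal subgroup `K ≅ Aₙ` of index `2` (`n ≥ 4`, `n ≠ 6`) and `C_G(K) = 1` is
isomorphic to `Sₙ`, since `Aut(Aₙ) = Sₙ`.
-/

set_option autoImplicit false

namespace Cfsg.Agent.Lib.Helper55_SymExt

open Subgroup

variable {G : Type*} [Group G]

theorem nonempty_equiv_perm [Finite G] (K : Subgroup G) [K.Normal] (hK : K.index = 2) (n : ℕ)
    (hn : 4 ≤ n) (h6 : n ≠ 6) (ψ : ↥K ≃* ↥(alternatingGroup (Fin n)))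
    (hcent : ∀ g : G, (∀ k ∈ K, g * k * g⁻¹ = k) → g = 1) :
    Nonempty (G ≃* Equiv.Perm (Fin n)) := by
  have hbij := Cfsg.Agent.S2119.result n hn h6
  let E : Equiv.Perm (Fin n) ≃* MulAut ↥(alternatingGroup (Fin n)) :=
    MulEquiv.ofBijective _ hbij
  let f : G →* Equiv.Perm (Fin n) :=
    (E.symm.toMonoidHom.comp (MulAut.congr ψ).toMonoidHom).comp (MulAut.conjNormal (H := K))
  have hinj : Function.Injective f := by
    rw [injective_iff_map_eq_one]
    intro g hg
    have h1 : (MulAut.conjNormal (H := K)) g = 1 := by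
      have h2 : (MulAut.congr ψ) ((MulAut.conjNormal (H := K)) g) = 1 := by
        have h3 : E.symm ((MulAut.congr ψ) ((MulAut.conjNormal (H := K)) g)) = 1 := hg
        exact (MulEquiv.map_eq_one_iff E.symm).mp h3
      exact (MulEquiv.map_eq_one_iff (MulAut.congr ψ)).mp h2
    apply hcent
    intro k hk
    have h4 : ((MulAut.conjNormal (H := K)) g) ⟨k, hk⟩ = ⟨k, hk⟩ := by
      rw [h1]; rfl
    have h5 := congrArg Subtype.val h4
    rwa [MulAut.conjNormal_apply] at h5
  haveI : Nontrivial (Fin n) := Fin.nontrivial_iff_two_le.mpr (by omega)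
  have hcard : Nat.card G = Nat.card (Equiv.Perm (Fin n)) := by
    rw [← two_mul_nat_card_alternatingGroup, ← Nat.card_congr ψ.toEquiv, ← K.card_mul_index, hK,
      mul_comm]
  have hb : Function.Bijective f := hinj.bijective_of_nat_card_le (by rw [hcard])
  exact ⟨MulEquiv.ofBijective f hb⟩

end Cfsg.Agent.Lib.Helper55_SymExt
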