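import Mathlib

/-!
# Arithmetic for groups with a four-group as involution centralizer (helper55)

Signed degrees `D₂, D₃, D₄ ≡ 1 (mod 4)` with `D₂ + D₃ + D₄ = -1`,
`32·D₂D₃D₄ = N·(D₂D₃D₄ + D₃D₄ + D₂D₄ + D₂D₃)` and `Dᵢ² ≤ N` force `N = 12`, or `N = 60` and
`Dᵢ ∈ {-3, 5}`.
-/

set_option autoImplicit false

namespace Cfsg.Agent.Lib.Helper55_V4Arith

theorem inv_ge (D : ℤ) (h : D % 4 = 1) : (-1 / 3 : ℚ) ≤ 1 / (D : ℚ) := by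
  have h' : D ≤ -3 ∨ 1 ≤ D := by omega
  rcases h' with h | h
  · have h1 : (D : ℚ) ≤ -3 := by exact_mod_cast h
    have h2 : (D : ℚ) < 0 := by linarith
    have hne : (D : ℚ) ≠ 0 := ne_of_lt h2
    rw [← sub_nonneg]
    have h3 : 1 / (D : ℚ) - (-1 / 3) = (3 + (D : ℚ)) / (3 * (D : ℚ)) := by
      field_simp
      ring
    rw [h3]
    exact div_nonneg_of_nonpos (by linarith) (by linarith)
  · have h1 : (1 : ℚ) ≤ (D : ℚ) := by exact_mod_cast h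
    have h2 : (0 : ℚ) < 1 / (D : ℚ) := by positivity
    linarith

theorem inv_pos' (D : ℤ) (h : 1 ≤ D) : (0 : ℚ) < 1 / (D : ℚ) := by
  have h1 : (1 : ℚ) ≤ (D : ℚ) := by exact_mod_cast h
  positivity

/-- the bound `N < 96` -/
theorem bound (N D₂ D₃ D₄ : ℤ) (h₂ : D₂ % 4 = 1) (h₃ : D₃ % 4 = 1) (h₄ : D₄ % 4 = 1)
    (hsum : D₂ + D₃ + D₄ = -1) (hN : 0 < N)
    (heq : 32 * (D₂ * D₃ * D₄) = N * (D₂ * D₃ * D₄ + D₃ * D₄ + D₂ * D₄ + D₂ * D₃)) :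
    N < 96 := by
  have hD₂ : (D₂ : ℚ) ≠ 0 := by
    have : D₂ ≠ 0 := by omega
    exact_mod_cast this
  have hD₃ : (D₃ : ℚ) ≠ 0 := by
    have : D₃ ≠ 0 := by omega
    exact_mod_cast this
  have hD₄ : (D₄ : ℚ) ≠ 0 := by
    have : D₄ ≠ 0 := by omega
    exact_mod_cast this
  have hq : (N : ℚ) * (1 + 1 / (D₂ : ℚ) + 1 / (D₃ : ℚ) + 1 / (D₄ : ℚ)) = 32 := by
    have h1 : (32 : ℚ) * ((D₂ : ℚ) * D₃ * D₄) =
        (N : ℚ) * ((D₂ : ℚ) * D₃ * D₄ + D₃ * D₄ + D₂ * D₄ + D₂ * D₃) := by exact_mod_cast heq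
    field_simp
    linarith
  have hR : (1 / 3 : ℚ) < 1 + 1 / (D₂ : ℚ) + 1 / (D₃ : ℚ) + 1 / (D₄ : ℚ) := by
    have i₂ := inv_ge D₂ h₂
    have i₃ := inv_ge D₃ h₃
    have i₄ := inv_ge D₄ h₄
    have hpos : 1 ≤ D₂ ∨ 1 ≤ D₃ ∨ 1 ≤ D₄ := by omega
    rcases hpos with h | h | h
    · have := inv_pos' D₂ h; linarith
    · have := inv_pos' D₃ h; linarith
    · have := inv_pos' D₄ h; linarith
  have hNq : (N : ℚ) < 96 := by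
    have hNpos : (0 : ℚ) < N := by exact_mod_cast hN
    nlinarith
  exact_mod_cast hNq

/-- the enumeration -/
theorem endgame (N D₂ D₃ D₄ : ℤ) (h₂ : D₂ % 4 = 1) (h₃ : D₃ % 4 = 1) (h₄ : D₄ % 4 = 1)
    (hsum : D₂ + D₃ + D₄ = -1) (hN : 0 < N)
    (heq : 32 * (D₂ * D₃ * D₄) = N * (D₂ * D₃ * D₄ + D₃ * D₄ + D₂ * D₄ + D₂ * D₃))
    (hs₂ : D₂ * D₂ ≤ N) (hs₃ : D₃ * D₃ ≤ N) (hs₄ : D₄ * D₄ ≤ N) :
    N = 12 ∨ (N = 60 ∧ (D₂ = -3 ∨ D₂ = 5) ∧ (D₃ = -3 ∨ D₃ = 5) ∧ (D₄ = -3 ∨ D₄ = 5)) := by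
  have hb := bound N D₂ D₃ D₄ h₂ h₃ h₄ hsum hN heq
  have hb₂ : -10 < D₂ ∧ D₂ < 10 := by constructor <;> nlinarith
  have hb₃ : -10 < D₃ ∧ D₃ < 10 := by constructor <;> nlinarith
  obtain ⟨j, hj⟩ : ∃ j : ℤ, D₂ = 4 * j + 1 := ⟨(D₂ - 1) / 4, by omega⟩
  obtain ⟨k, hk⟩ : ∃ k : ℤ, D₃ = 4 * k + 1 := ⟨(D₃ - 1) / 4, by omega⟩
  have hD₄ : D₄ = -3 - 4 * j - 4 * k := by omega
  subst hj hk hD₄
  have hj1 : -2 ≤ j := by omega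
  have hj2 : j ≤ 2 := by omega
  have hk1 : -2 ≤ k := by omega
  have hk2 : k ≤ 2 := by omega
  clear hb₂ hb₃ h₂ h₃ h₄ hsum
  interval_cases j <;> interval_cases k <;> omega

end Cfsg.Agent.Lib.Helper55_V4Arith
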