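import Mathlib
import Cfsg.Prelude.Def_Characters
import Cfsg.Agent.Lib.Helper55_V4Cent
import Cfsg.Agent.Lib.Helper55_V4Arith
import Cfsg.Agent.Lib.Helper55_ExcQuad
import Cfsg.Agent.Lib.Helper55_ColOrth
import Cfsg.Agent.Lib.Helper55_D8Main
import Cfsg.Agent.Lib.Helper3_CharColumn
import Cfsg.Agent.Lib.Helper3_CharBridge
import Cfsg.Agent.Lib.Helper3_CharComplete
import Cfsg.Agent.Lib.Helper17_Sylow
import Cfsg.Agent.Lib.Helper75_LinChar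
import Cfsg.Agent.Lib.Helper75_CharArith
import Cfsg.Agent.Lib.Helper79_CharVals
import Cfsg.Agent.Lib.Helper80_CharBasic
import Cfsg.Agent.S0840

/-!
# Groups in which the centralizer of an involution is a four-group: characters (helper55)

If `C(t)` is a four-group and all involutions are conjugate, then exactly four irreducible
characters do not vanish at `t`; the class equation for the pairs of involutions with product `t`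
gives `|G| = 12` or `|G| = 60`.
-/

set_option autoImplicit false

namespace Cfsg.Agent.Lib.Helper55_V4Char

open Subgroup Cfsg.Agent.Lib.Helper55_V4Cent Cfsg.Agent.Lib.Helper55_ExcQuad
  Cfsg.Agent.Lib.Helper55_ColOrth Cfsg.Agent.Lib.Helper3_CharColumn
  Cfsg.Agent.Lib.Helper3_CharComplete Cfsg.Agent.Lib.Helper75_LinChar
  Cfsg.Agent.Lib.Helper75_CharArith
open scoped ComplexConjugate

variable {G : Type*} [Group G] {t : G}

/-- the sum over the centralizer -/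
theorem sum_V (h : V4Hyp t) {u : G} (hu : u ∈ centralizer ({t} : Set G)) (hu1 : u ≠ 1)
    (hut : u ≠ t) [Fintype ↥(centralizer ({t} : Set G))]
    (F : ↥(centralizer ({t} : Set G)) → ℂ) :
    ∑ x, F x = F 1 + F ⟨t, t_mem⟩ + F ⟨u, hu⟩ + F (⟨t, t_mem⟩ * ⟨u, hu⟩) := by
  rw [← Fintype.sum_equiv (Equiv.ofBijective (four hu) (four_bijective h hu hu1 hut))
    (fun i => F (four hu i)) F (fun i => rfl)]
  exact Fin.sum_univ_four (fun i : Fin 4 => F (four hu i))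

/-- the multiplicity of the principal character of `V` in the restriction of a character -/
theorem restrict_mult [Finite G] (h : V4Hyp t) {χ : G → ℂ} (hχ : Cfsg.IsCharacter G χ) :
    ∃ m : ℕ, 4 * (m : ℂ) = χ 1 + 3 * χ t := by
  classical
  have : Fintype G := Fintype.ofFinite G
  have : Fintype ↥(centralizer ({t} : Set G)) := Fintype.ofFinite _
  obtain ⟨u, hu, hu1, hut⟩ := exists_u h
  have hcf := Cfsg.Agent.Lib.Helper3_CharBridge.isClassFunction_of_isCharacter hχ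
  have hres := isCharacter_restrict (centralizer ({t} : Set G)) hχ
  have hl0 : IsLin ↥(centralizer ({t} : Set G)) (fun _ => (1 : ℂ)) := isLin_one
  obtain ⟨m, hm⟩ := classInner_isCharacter_nat hres hl0.1
  have hcard : (Nat.card ↥(centralizer ({t} : Set G)) : ℂ) = 4 := by rw [h.hcard]; norm_num
  have hcu : χ u = χ t :=
    (classFunction_apply_of_isConj hcf (h.hconj u (orderOf_u h hu hu1))).symm
  have hctu : χ (t * u) = χ t :=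
    (classFunction_apply_of_isConj hcf (h.hconj _ (orderOf_tu h hu hut))).symm
  refine ⟨m, ?_⟩
  rw [← hm]
  unfold Cfsg.classInner
  rw [hcard, sum_V h hu hu1 hut]
  simp only [map_one, mul_one, Subgroup.coe_one, Subgroup.coe_mul]
  rw [hcu, hctu]
  ring

/-- arithmetic data of an irreducible character -/
theorem char_data [Finite G] (h : V4Hyp t) {χ : G → ℂ} (hχ : Cfsg.IsIrrCharacter G χ) :
    ∃ (d : ℕ) (z : ℤ), 0 < d ∧ χ 1 = (d : ℂ) ∧ χ t = (z : ℂ) ∧ ((d : ℤ) - z) % 4 = 0 := by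
  classical
  have : Fintype G := Fintype.ofFinite G
  obtain ⟨d, hd0, hd⟩ := irr_one_eq_natCast hχ
  have hch := Cfsg.Agent.Lib.Helper3_CharBridge.isCharacter_of_isIrrCharacter hχ
  obtain ⟨z, hz⟩ := Cfsg.Agent.Lib.Helper79_CharVals.char_int_of_orderOf_two hch h.ht
  obtain ⟨m, hm⟩ := restrict_mult h hch
  rw [hd, hz] at hm
  have h4 : ((4 * (m : ℤ) : ℤ) : ℂ) = (((d : ℤ) + 3 * z : ℤ) : ℂ) := by
    push_cast
    exact hm
  have h5 : 4 * (m : ℤ) = (d : ℤ) + 3 * z := by exact_mod_cast h4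
  exact ⟨d, z, hd0, hd, hz, by omega⟩

/-- `t` is not conjugate to `1` -/
theorem not_isConj_one (h : V4Hyp t) : ¬ IsConj (1 : G) t := by
  intro hc
  exact t_ne_one h (isConj_one_right.mp hc)

section fintype

variable [Fintype G]

/-- exactly three nonprincipal irreducible characters do not vanish at `t`, with values `±1` -/
theorem exists_three (h : V4Hyp t) :
    ∃ (χ₂ χ₃ χ₄ : G → ℂ) (δ₂ δ₃ δ₄ : ℤ), Cfsg.IsIrrCharacter G χ₂ ∧ Cfsg.IsIrrCharacter G χ₃ ∧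
      Cfsg.IsIrrCharacter G χ₄ ∧
      χ₂ ≠ (fun _ => (1 : ℂ)) ∧ χ₃ ≠ (fun _ => (1 : ℂ)) ∧ χ₄ ≠ (fun _ => (1 : ℂ)) ∧
      χ₂ ≠ χ₃ ∧ χ₂ ≠ χ₄ ∧ χ₃ ≠ χ₄ ∧
      (δ₂ = 1 ∨ δ₂ = -1) ∧ (δ₃ = 1 ∨ δ₃ = -1) ∧ (δ₄ = 1 ∨ δ₄ = -1) ∧
      χ₂ t = (δ₂ : ℂ) ∧ χ₃ t = (δ₃ : ℂ) ∧ χ₄ t = (δ₄ : ℂ) ∧
      ∀ ψ : Cfsg.IrrCharacter G, (ψ : G → ℂ) ≠ (fun _ => (1 : ℂ)) → (ψ : G → ℂ) ≠ χ₂ →
        (ψ : G → ℂ) ≠ χ₃ → (ψ : G → ℂ) ≠ χ₄ → (ψ : G → ℂ) t = 0 := by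
  classical
  have hint : ∀ ψ : Cfsg.IrrCharacter G, ∃ k : ℤ, (ψ : G → ℂ) t = k := fun ψ =>
    Cfsg.Agent.Lib.Helper79_CharVals.char_int_of_orderOf_two
      (Cfsg.Agent.Lib.Helper3_CharBridge.isCharacter_of_isIrrCharacter ψ.2) h.ht
  choose v hv using hint
  have hone := Cfsg.Agent.Lib.Helper80_CharBasic.isIrrCharacter_one G
  obtain ⟨i₀, hi₀⟩ : ∃ i₀ : Cfsg.IrrCharacter G, i₀ = ⟨fun _ => (1 : ℂ), hone⟩ := ⟨_, rfl⟩
  have hv0 : v i₀ = 1 := by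
    have h1 := hv i₀
    rw [hi₀] at h1
    have h2 : ((1 : ℤ) : ℂ) = ((v ⟨fun _ => (1 : ℂ), hone⟩ : ℤ) : ℂ) := by
      rw [← h1]; norm_num
    rw [hi₀]
    exact_mod_cast h2.symm
  have h4 : ∑ ψ : Cfsg.IrrCharacter G, v ψ * v ψ = 4 := by
    have hs := sum_normSq (G := G) t
    rw [h.hcard] at hs
    have hs' : ∑ ψ : Cfsg.IrrCharacter G, Complex.normSq ((ψ : G → ℂ) t) = 4 := by
      rw [hs]; norm_num
    have h5 : ((∑ ψ : Cfsg.IrrCharacter G, v ψ * v ψ : ℤ) : ℝ) = ((4 : ℤ) : ℝ) := by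
      push_cast
      rw [← hs']
      apply Finset.sum_congr rfl
      intro ψ _
      rw [hv ψ, Complex.normSq_intCast]
    exact_mod_cast h5
  obtain ⟨a, b, c, ha0, hb0, hc0, hab, hac, hbc, hva, hvb, hvc, hrest⟩ :=
    eq_of_norm_four v i₀ h4 hv0
  refine ⟨a, b, c, v a, v b, v c, a.2, b.2, c.2, ?_, ?_, ?_, ?_, ?_, ?_, hva, hvb, hvc,
    hv a, hv b, hv c, ?_⟩
  · intro h1; apply ha0; rw [hi₀]; exact Subtype.ext h1
  · intro h1; apply hb0; rw [hi₀]; exact Subtype.ext h1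
  · intro h1; apply hc0; rw [hi₀]; exact Subtype.ext h1
  · intro h1; exact hab (Subtype.ext h1)
  · intro h1; exact hac (Subtype.ext h1)
  · intro h1; exact hbc (Subtype.ext h1)
  · intro ψ h0 h1 h2 h3
    rw [hv ψ, hrest ψ]
    · norm_num
    · intro h5; apply h0; rw [h5, hi₀]
    · intro h5; apply h1; rw [h5]
    · intro h5; apply h2; rw [h5]
    · intro h5; apply h3; rw [h5]

/-- the class equation and the orthogonality of the columns of `1` and `t` -/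
theorem class_eq (h : V4Hyp t)
    {χ₂ χ₃ χ₄ : G → ℂ} (h2 : Cfsg.IsIrrCharacter G χ₂)
    (h3 : Cfsg.IsIrrCharacter G χ₃) (h4 : Cfsg.IsIrrCharacter G χ₄)
    (hn2 : χ₂ ≠ (fun _ => (1 : ℂ))) (hn3 : χ₃ ≠ (fun _ => (1 : ℂ)))
    (hn4 : χ₄ ≠ (fun _ => (1 : ℂ))) (h23 : χ₂ ≠ χ₃) (h24 : χ₂ ≠ χ₄) (h34 : χ₃ ≠ χ₄)
    (δ₂ δ₃ δ₄ : ℤ) (d₂ d₃ d₄ : ℕ)
    (hd₂0 : 0 < d₂) (hd₃0 : 0 < d₃) (hd₄0 : 0 < d₄)
    (hd₂ : χ₂ 1 = (d₂ : ℂ)) (hd₃ : χ₃ 1 = (d₃ : ℂ)) (hd₄ : χ₄ 1 = (d₄ : ℂ))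
    (hz₂ : χ₂ t = (δ₂ : ℂ)) (hz₃ : χ₃ t = (δ₃ : ℂ)) (hz₄ : χ₄ t = (δ₄ : ℂ))
    (hzz₂ : δ₂ * δ₂ = 1) (hzz₃ : δ₃ * δ₃ = 1) (hzz₄ : δ₄ * δ₄ = 1)
    (hrest : ∀ ψ : Cfsg.IrrCharacter G, (ψ : G → ℂ) ≠ (fun _ => (1 : ℂ)) → (ψ : G → ℂ) ≠ χ₂ →
        (ψ : G → ℂ) ≠ χ₃ → (ψ : G → ℂ) ≠ χ₄ → (ψ : G → ℂ) t = 0) :
    32 * ((d₂ : ℤ) * d₃ * d₄) = (Nat.card G : ℤ) *
        ((d₂ : ℤ) * d₃ * d₄ + δ₂ * (d₃ * d₄) + δ₃ * (d₂ * d₄) + δ₄ * (d₂ * d₃)) ∧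
      1 + δ₂ * (d₂ : ℤ) + δ₃ * (d₃ : ℤ) + δ₄ * (d₄ : ℤ) = 0 := by
  classical
  obtain ⟨u, hu, hu1, hut⟩ := exists_u h
  have hS := Cfsg.Agent.S0840.result t t t
  rw [card_pairs h hu hu1 hut] at hS
  have hK := Cfsg.Agent.Lib.Helper17_Sylow.card_centralizer_mul_card_conj t
  rw [h.hcard] at hK
  obtain ⟨K, hKdef⟩ : ∃ K : ℕ, K = Nat.card {x : G // IsConj t x} := ⟨_, rfl⟩
  rw [← hKdef] at hS hK
  rw [finsum_eq_sum_of_fintype] at hS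
  have hone := Cfsg.Agent.Lib.Helper80_CharBasic.isIrrCharacter_one G
  obtain ⟨i₀, hi₀⟩ : ∃ i₀ : Cfsg.IrrCharacter G, i₀ = ⟨fun _ => (1 : ℂ), hone⟩ := ⟨_, rfl⟩
  obtain ⟨ia, hia⟩ : ∃ ia : Cfsg.IrrCharacter G, ia = ⟨χ₂, h2⟩ := ⟨_, rfl⟩
  obtain ⟨ib, hib⟩ : ∃ ib : Cfsg.IrrCharacter G, ib = ⟨χ₃, h3⟩ := ⟨_, rfl⟩
  obtain ⟨ic, hic⟩ : ∃ ic : Cfsg.IrrCharacter G, ic = ⟨χ₄, h4⟩ := ⟨_, rfl⟩
  have d01 : i₀ ≠ ia := by
    rw [hi₀, hia]; intro h; exact hn2 (congrArg Subtype.val h).symm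
  have d02 : i₀ ≠ ib := by
    rw [hi₀, hib]; intro h; exact hn3 (congrArg Subtype.val h).symm
  have d03 : i₀ ≠ ic := by
    rw [hi₀, hic]; intro h; exact hn4 (congrArg Subtype.val h).symm
  have d12 : ia ≠ ib := by
    rw [hia, hib]; intro h; exact h23 (congrArg Subtype.val h)
  have d13 : ia ≠ ic := by
    rw [hia, hic]; intro h; exact h24 (congrArg Subtype.val h)
  have d23 : ib ≠ ic := by
    rw [hib, hic]; intro h; exact h34 (congrArg Subtype.val h)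
  have hvan : ∀ ψ ∈ Finset.univ \ four i₀ ia ib ic, (ψ : G → ℂ) t = 0 := by
    intro ψ hψ
    rw [Finset.mem_sdiff, mem_four] at hψ
    apply hrest ψ
    · intro h; apply hψ.2; left; rw [hi₀]; exact Subtype.ext h
    · intro h; apply hψ.2; right; left; rw [hia]; exact Subtype.ext h
    · intro h; apply hψ.2; right; right; left; rw [hib]; exact Subtype.ext h
    · intro h; apply hψ.2; right; right; right; rw [hic]; exact Subtype.ext h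
  have hd₂' : (d₂ : ℂ) ≠ 0 := by
    have : d₂ ≠ 0 := by omega
    exact_mod_cast this
  have hd₃' : (d₃ : ℂ) ≠ 0 := by
    have : d₃ ≠ 0 := by omega
    exact_mod_cast this
  have hd₄' : (d₄ : ℂ) ≠ 0 := by
    have : d₄ ≠ 0 := by omega
    exact_mod_cast this
  constructor
  · rw [sum_split (fun ψ : Cfsg.IrrCharacter G => (ψ : G → ℂ) t * (ψ : G → ℂ) t *
      conj ((ψ : G → ℂ) t) / (ψ : G → ℂ) 1) d01 d02 d03 d12 d13 d23] at hS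
    have hrest0 : ∑ ψ ∈ Finset.univ \ four i₀ ia ib ic, (ψ : G → ℂ) t * (ψ : G → ℂ) t *
        conj ((ψ : G → ℂ) t) / (ψ : G → ℂ) 1 = 0 := by
      apply Finset.sum_eq_zero
      intro ψ hψ
      rw [hvan ψ hψ, map_zero, mul_zero, zero_div]
    rw [hrest0, add_zero, hi₀, hia, hib, hic] at hS
    simp only [hd₂, hd₃, hd₄, hz₂, hz₃, hz₄, map_intCast, map_one, mul_one, div_one] at hS
    have hN : (Nat.card G : ℂ) = 4 * (K : ℂ) := by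
      rw [← hK]; push_cast; ring
    have hK0 : (K : ℂ) ≠ 0 := by
      intro h0
      have h1 : K = 0 := by exact_mod_cast h0
      rw [h1] at hK
      have := Nat.card_pos (α := G)
      omega
    have hzc₂ : (δ₂ : ℂ) * δ₂ = 1 := by exact_mod_cast hzz₂
    have hzc₃ : (δ₃ : ℂ) * δ₃ = 1 := by exact_mod_cast hzz₃
    have hzc₄ : (δ₄ : ℂ) * δ₄ = 1 := by exact_mod_cast hzz₄
    rw [hzc₂, hzc₃, hzc₄, hN] at hS
    have hmain : (32 : ℂ) * ((d₂ : ℂ) * d₃ * d₄) = (4 * (K : ℂ)) *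
        ((d₂ : ℂ) * d₃ * d₄ + δ₂ * (d₃ * d₄) + δ₃ * (d₂ * d₄) + δ₄ * (d₂ * d₃)) := by
      have h5 : (K : ℂ) * K / (4 * K) = K / 4 := by
        field_simp
      rw [h5] at hS
      field_simp at hS
      push_cast at hS
      linear_combination (4 : ℂ) * hS
    rw [← hN] at hmain
    exact_mod_cast hmain
  · have hcol := column_orthogonality (1 : G) t
    rw [if_neg (not_isConj_one h), sum_split (fun ψ : Cfsg.IrrCharacter G =>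
        (ψ : G → ℂ) 1 * conj ((ψ : G → ℂ) t)) d01 d02 d03 d12 d13 d23] at hcol
    have hrest2 : ∑ ψ ∈ Finset.univ \ four i₀ ia ib ic,
        (ψ : G → ℂ) 1 * conj ((ψ : G → ℂ) t) = 0 := by
      apply Finset.sum_eq_zero
      intro ψ hψ
      rw [hvan ψ hψ, map_zero, mul_zero]
    rw [hrest2, add_zero, hi₀, hia, hib, hic] at hcol
    simp only [hd₂, hd₃, hd₄, hz₂, hz₃, hz₄, map_intCast, map_one, mul_one] at hcol
    have h5 : ((1 + δ₂ * (d₂ : ℤ) + δ₃ * (d₃ : ℤ) + δ₄ * (d₄ : ℤ) : ℤ) : ℂ) = 0 := by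
      push_cast
      linear_combination hcol
    exact_mod_cast h5

end fintype

/-- **the order**: `|G| = 12`, or `|G| = 60` and every nonprincipal irreducible character
vanishes at `t` or has degree divisible by `3` or `5`. -/
theorem main [Finite G] (h : V4Hyp t) :
    Nat.card G = 12 ∨ (Nat.card G = 60 ∧ ∀ χ : G → ℂ, Cfsg.IsIrrCharacter G χ →
      χ ≠ (fun _ => (1 : ℂ)) → χ t = 0 ∨ ∃ d : ℕ, χ 1 = (d : ℂ) ∧ (3 ∣ d ∨ 5 ∣ d)) := by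
  classical
  have : Fintype G := Fintype.ofFinite G
  obtain ⟨χ₂, χ₃, χ₄, δ₂, δ₃, δ₄, h2, h3, h4, hn2, hn3, hn4, h23, h24, h34, he2, he3, he4,
    hz₂, hz₃, hz₄, hrest⟩ := exists_three h
  obtain ⟨d₂, z₂, hd₂0, hd₂, hz₂', hmod₂⟩ := char_data h h2
  obtain ⟨d₃, z₃, hd₃0, hd₃, hz₃', hmod₃⟩ := char_data h h3
  obtain ⟨d₄, z₄, hd₄0, hd₄, hz₄', hmod₄⟩ := char_data h h4
  have e₂ : z₂ = δ₂ := by
    rw [hz₂] at hz₂'; exact_mod_cast hz₂'.symm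
  have e₃ : z₃ = δ₃ := by
    rw [hz₃] at hz₃'; exact_mod_cast hz₃'.symm
  have e₄ : z₄ = δ₄ := by
    rw [hz₄] at hz₄'; exact_mod_cast hz₄'.symm
  subst e₂ e₃ e₄
  have hee : ∀ ε : ℤ, (ε = 1 ∨ ε = -1) → ε * ε = 1 := by
    rintro ε (rfl | rfl) <;> norm_num
  have q2 := hee z₂ he2
  have q3 := hee z₃ he3
  have q4 := hee z₄ he4
  obtain ⟨heq, hcol⟩ := class_eq h h2 h3 h4 hn2 hn3 hn4 h23 h24 h34 z₂ z₃ z₄ d₂ d₃ d₄
    hd₂0 hd₃0 hd₄0 hd₂ hd₃ hd₄ hz₂ hz₃ hz₄ q2 q3 q4 hrest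
  have hs₂ := Cfsg.Agent.Lib.Helper55_D8Main.deg_sq_le h2 d₂ hd₂
  have hs₃ := Cfsg.Agent.Lib.Helper55_D8Main.deg_sq_le h3 d₃ hd₃
  have hs₄ := Cfsg.Agent.Lib.Helper55_D8Main.deg_sq_le h4 d₄ hd₄
  obtain ⟨N, hN⟩ : ∃ N : ℤ, N = (Nat.card G : ℤ) := ⟨_, rfl⟩
  have hNpos : 0 < N := by
    rw [hN]
    have := Nat.card_pos (α := G)
    exact_mod_cast this
  have hs₂' : (d₂ : ℤ) * d₂ ≤ N := by rw [hN]; exact_mod_cast hs₂
  have hs₃' : (d₃ : ℤ) * d₃ ≤ N := by rw [hN]; exact_mod_cast hs₃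
  have hs₄' : (d₄ : ℤ) * d₄ ≤ N := by rw [hN]; exact_mod_cast hs₄
  rw [← hN] at heq
  have hDm : ∀ (ε : ℤ) (d : ℕ), (ε = 1 ∨ ε = -1) → ((d : ℤ) - ε) % 4 = 0 → (ε * d) % 4 = 1 := by
    rintro ε d (rfl | rfl) hm <;> omega
  have hfin := Cfsg.Agent.Lib.Helper55_V4Arith.endgame N (z₂ * d₂) (z₃ * d₃) (z₄ * d₄)
    (hDm z₂ d₂ he2 hmod₂) (hDm z₃ d₃ he3 hmod₃) (hDm z₄ d₄ he4 hmod₄) (by linarith) hNpos
    (by
      linear_combination (z₂ * z₃ * z₄) * heq + (N * z₃ * z₄ * d₃ * d₄) * q2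
        + (N * z₂ * z₄ * d₂ * d₄) * q3 + (N * z₂ * z₃ * d₂ * d₃) * q4)
    (by
      calc z₂ * ↑d₂ * (z₂ * ↑d₂) = (z₂ * z₂) * ((d₂ : ℤ) * d₂) := by ring
        _ = (d₂ : ℤ) * d₂ := by rw [q2, one_mul]
        _ ≤ N := hs₂')
    (by
      calc z₃ * ↑d₃ * (z₃ * ↑d₃) = (z₃ * z₃) * ((d₃ : ℤ) * d₃) := by ring
        _ = (d₃ : ℤ) * d₃ := by rw [q3, one_mul]
        _ ≤ N := hs₃')
    (by
      calc z₄ * ↑d₄ * (z₄ * ↑d₄) = (z₄ * z₄) * ((d₄ : ℤ) * d₄) := by ring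
        _ = (d₄ : ℤ) * d₄ := by rw [q4, one_mul]
        _ ≤ N := hs₄')
  rcases hfin with h12 | ⟨h60, hD₂, hD₃, hD₄⟩
  · left
    rw [hN] at h12
    exact_mod_cast h12
  · right
    refine ⟨by rw [hN] at h60; exact_mod_cast h60, ?_⟩
    have hdd : ∀ (ε : ℤ) (d : ℕ), (ε = 1 ∨ ε = -1) → (ε * d = -3 ∨ ε * (d : ℤ) = 5) →
        (3 ∣ d ∨ 5 ∣ d) := by
      rintro ε d (rfl | rfl) hD
      · right
        have : d = 5 := by omega
        rw [this]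
      · left
        have : d = 3 := by omega
        rw [this]
    intro χ hχ hn
    by_cases hc2 : χ = χ₂
    · right; exact ⟨d₂, by rw [hc2]; exact hd₂, hdd z₂ d₂ he2 hD₂⟩
    by_cases hc3 : χ = χ₃
    · right; exact ⟨d₃, by rw [hc3]; exact hd₃, hdd z₃ d₃ he3 hD₃⟩
    by_cases hc4 : χ = χ₄
    · right; exact ⟨d₄, by rw [hc4]; exact hd₄, hdd z₄ d₄ he4 hD₄⟩
    left
    exact hrest ⟨χ, hχ⟩ hn hc2 hc3 hc4

end Cfsg.Agent.Lib.Helper55_V4Char
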