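import Mathlib
import Cfsg.Prelude.Def_Solvable
import Cfsg.Prelude.Def_CaseTheorems
import Cfsg.Prelude.Def_Transfer
import Cfsg.Agent.Lib.Helper55_DihedralCoord
import Cfsg.Agent.Lib.Helper55_D8Cent
import Cfsg.Agent.Lib.Helper55_V4Cent
import Cfsg.Agent.Lib.Helper55_V4Char
import Cfsg.Agent.Lib.Helper55_V4Gen60
import Cfsg.Agent.Lib.Helper55_V4A4
import Cfsg.Agent.Lib.Helper55_SymExt
import Cfsg.Agent.Lib.Helper22_Cores
import Cfsg.Agent.Lib.Helper4_InvPairs
import Cfsg.Agent.S0202
import Cfsg.Agent.S0203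
import Cfsg.Agent.S3031

/-!
# Dihedral involution centralizer of order 8: groups with a subgroup of index 2 (helper55)

If `C_G(t)` is dihedral of order `8` and `G` has a subgroup `K` of index `2`, then `C_K(t)` is a
Sylow `2`-subgroup of `K` of order `4`; either `K` has a normal `2`-complement (and then
`G = C_G(t) O(G)`), or `C_K(t)` is a four-group and all involutions of `K` are conjugate, in
which case `K` is `A₄` or `A₅` and `G` is `S₄` or `S₅`.
-/

set_option autoImplicit false

namespace Cfsg.Agent.Lib.Helper55_D8Index2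

open Subgroup DihedralGroup Cfsg.Agent.Lib.Helper55_DihedralCoord Cfsg.Agent.Lib.Helper55_D8Cent
  Cfsg.Agent.Lib.Helper4_InvPairs

variable {G : Type*} [Group G] {t : G} (e : ↥(centralizer ({t} : Set G)) ≃* DihedralGroup 4)

include e in
/-- `t` lies in every subgroup of index `2` -/
theorem t_mem_of_index_two (ht : orderOf t = 2) (K : Subgroup G) (hK : K.index = 2) : t ∈ K := by
  rw [← R_one_sq e ht, ← pow_two]
  exact Subgroup.sq_mem_of_index_two hK _

section

variable [Finite G] (ht : orderOf t = 2) (K : Subgroup G) (hK : K.index = 2)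

include e ht hK in
/-- the order of `K` -/
theorem exists_card : ∃ m : ℕ, ¬ 2 ∣ m ∧ Nat.card G = 8 * m ∧ Nat.card K = 4 * m := by
  haveI : Fact (Nat.Prime 2) := ⟨Nat.prime_two⟩
  obtain ⟨S, hS⟩ := exists_sylow e ht
  have h1 := S.not_dvd_index
  rw [hS] at h1
  have h2 := (centralizer ({t} : Set G)).card_mul_index
  rw [card_D e] at h2
  have h3 := K.card_mul_index
  rw [hK] at h3
  exact ⟨(centralizer ({t} : Set G)).index, h1, h2.symm, by omega⟩

theorem factorization_two (m : ℕ) (hm : ¬ 2 ∣ m) : (4 * m).factorization 2 = 2 := by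
  have hm0 : m ≠ 0 := by rintro rfl; exact hm (dvd_zero 2)
  have h4 : (4 : ℕ) = 2 ^ 2 := by norm_num
  rw [Nat.factorization_mul (by norm_num) hm0, h4,
    Nat.Prime.factorization_pow Nat.prime_two]
  simp
  exact Nat.factorization_eq_zero_of_not_dvd hm

include e ht hK in
/-- the centralizer of `t` in `K` has order `4` -/
theorem card_centralizer_K (htK : t ∈ K) :
    Nat.card (centralizer ({(⟨t, htK⟩ : ↥K)} : Set ↥K)) = 4 := by
  haveI : Fact (Nat.Prime 2) := ⟨Nat.prime_two⟩
  haveI : K.Normal := Subgroup.normal_of_index_eq_two hK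
  obtain ⟨S, hS⟩ := exists_sylow e ht
  -- `K ∩ D` has index `2` in `D`
  have hrel : K.relIndex (centralizer ({t} : Set G)) = 2 := by
    have hdvd := Subgroup.relIndex_dvd_index_of_normal K (centralizer ({t} : Set G))
    rw [hK] at hdvd
    rcases (Nat.dvd_prime Nat.prime_two).mp hdvd with h1 | h2
    · exfalso
      have hle : centralizer ({t} : Set G) ≤ K := Subgroup.relIndex_eq_one.mp h1
      have h3 := Subgroup.index_dvd_of_le hle
      rw [hK, ← hS] at h3
      exact S.not_dvd_index h3
    · exact h2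
  have hc : Nat.card (K.subgroupOf (centralizer ({t} : Set G))) = 4 := by
    have h1 := (K.subgroupOf (centralizer ({t} : Set G))).index_mul_card
    have h2 : (K.subgroupOf (centralizer ({t} : Set G))).index = 2 := hrel
    rw [h2, card_D e] at h1
    omega
  rw [← hc]
  apply Nat.card_congr
  exact
    { toFun := fun x => ⟨⟨x.1.1, by
          rw [mem_cent_iff]
          exact congrArg Subtype.val (mem_centralizer_singleton_iff.mp x.2)⟩, by
          rw [Subgroup.mem_subgroupOf]; exact x.1.2⟩
      invFun := fun y => ⟨⟨y.1.1, by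
          have := y.2; rwa [Subgroup.mem_subgroupOf] at this⟩, by
          rw [mem_centralizer_singleton_iff]
          apply Subtype.ext
          exact (mem_cent_iff _).mp y.1.2⟩
      left_inv := fun x => rfl
      right_inv := fun y => rfl }


include e ht hK in
/-- if `K` has a normal `2`-complement then `G = C_G(t) O(G)` -/
theorem sup_oddCore_of_complement (hc : Cfsg.HasNormalPComplement 2 ↥K) :
    centralizer ({t} : Set G) ⊔ Cfsg.oddCore G = ⊤ := by
  haveI : Fact (Nat.Prime 2) := ⟨Nat.prime_two⟩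
  haveI hKn : K.Normal := Subgroup.normal_of_index_eq_two hK
  obtain ⟨m, hm, hG, hKc⟩ := exists_card e ht K hK
  obtain ⟨Q, N, hN, hcomp⟩ := hc
  have hQ : Nat.card (Q : Subgroup ↥K) = 4 := by
    rw [Q.card_eq_multiplicity, hKc, factorization_two m hm]
    norm_num
  have hNc : Nat.card N = m := by
    have h1 := hcomp.card_mul
    rw [hQ, hKc] at h1
    omega
  have hN'c : Nat.card (N.map K.subtype) = m := by
    rw [Subgroup.card_map_of_injective K.subtype_injective, hNc]
  have hle : N.map K.subtype ≤ K := Subgroup.map_subtype_le N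
  have hsub : (N.map K.subtype).IsSubnormal := by
    apply Subgroup.IsSubnormal.step _ K hle hKn.isSubnormal
    have h1 : (N.map K.subtype).subgroupOf K = N :=
      Subgroup.comap_map_eq_self_of_injective K.subtype_injective N
    rw [h1]
    exact hN
  have hcop : (Nat.card (N.map K.subtype)).Coprime 2 := by
    rw [hN'c]
    exact (Nat.Prime.coprime_iff_not_dvd Nat.prime_two).mpr hm |>.symm
  have hodd : N.map K.subtype ≤ Cfsg.oddCore G :=
    Cfsg.Agent.Lib.Helper22_Cores.le_pPrimeCore_of_isSubnormal 2 hsub hcop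
  apply Subgroup.eq_top_of_le_card
  rw [hG]
  have h8 : 8 ∣ Nat.card ↥(centralizer ({t} : Set G) ⊔ Cfsg.oddCore G) := by
    rw [← card_D e]
    exact Subgroup.card_dvd_of_le le_sup_left
  have hmd : m ∣ Nat.card ↥(centralizer ({t} : Set G) ⊔ Cfsg.oddCore G) := by
    rw [← hN'c]
    exact Subgroup.card_dvd_of_le (hodd.trans le_sup_right)
  have hcop8 : Nat.Coprime 8 m := by
    have h2 : Nat.Coprime 2 m := (Nat.Prime.coprime_iff_not_dvd Nat.prime_two).mpr hm
    have : (8 : ℕ) = 2 ^ 3 := by norm_num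
    rw [this]
    exact Nat.Coprime.pow_left 3 h2
  have hdvd := Nat.Coprime.mul_dvd_of_dvd_of_dvd hcop8 h8 hmd
  exact Nat.le_of_dvd Nat.card_pos hdvd

include e ht hK in
/-- the centralizer of `K` in `G` is trivial when `C_K(t)` is a four-group with fusion -/
theorem centralizer_K_trivial (htK : t ∈ K)
    (hV : Cfsg.Agent.Lib.Helper55_V4Cent.V4Hyp (⟨t, htK⟩ : ↥K)) (h4 : Nat.card K ≠ 4)
    (g : G) (hg : ∀ k ∈ K, g * k * g⁻¹ = k) : g = 1 := by
  have hcomm : ∀ k ∈ K, g * k = k * g := by
    intro k hk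
    have := hg k hk
    calc g * k = g * k * g⁻¹ * g := by group
      _ = k * g := by rw [this]
  by_cases hgK : g ∈ K
  · by_contra hne
    have hgP : (⟨g, hgK⟩ : ↥K) ∈ centralizer ({(⟨t, htK⟩ : ↥K)} : Set ↥K) := by
      rw [mem_centralizer_singleton_iff]
      apply Subtype.ext
      exact hcomm t htK
    have hsq := hV.hexp _ hgP
    have hne' : (⟨g, hgK⟩ : ↥K) ≠ 1 := fun h1 => hne (congrArg Subtype.val h1)
    have ho : orderOf (⟨g, hgK⟩ : ↥K) = 2 := orderOf_two_of_mul_self hsq hne'
    obtain ⟨k, hk⟩ := isConj_iff.mp (hV.hconj _ ho)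
    -- `g` is central in `K`, so `t = g`
    have htg : (⟨t, htK⟩ : ↥K) = ⟨g, hgK⟩ := by
      have h1 : k * ⟨t, htK⟩ = ⟨g, hgK⟩ * k := by
        rw [← hk]; group
      have h2 : (⟨g, hgK⟩ : ↥K) * k = k * ⟨g, hgK⟩ := by
        apply Subtype.ext
        exact hcomm k k.2
      rw [h2] at h1
      exact mul_left_cancel h1
    -- so `t` is central in `K`
    have htop : centralizer ({(⟨t, htK⟩ : ↥K)} : Set ↥K) = ⊤ := by
      rw [eq_top_iff]
      intro x _
      rw [mem_centralizer_singleton_iff, htg]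
      apply Subtype.ext
      exact (hcomm x x.2).symm
    have h5 := hV.hcard
    rw [htop, Subgroup.card_top] at h5
    exact h4 h5
  · exfalso
    -- `g` is central in `G`
    have hcen : ∀ x : G, g * x = x * g := by
      intro x
      by_cases hx : x ∈ K
      · exact hcomm x hx
      · have h1 : g⁻¹ * x ∈ K := by
          rw [Subgroup.mul_mem_iff_of_index_two hK]
          constructor
          · intro h2; exact absurd (inv_mem_iff.mp h2) hgK
          · intro h2; exact absurd h2 hx
        have h2 := hcomm _ h1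
        calc g * x = g * (g * (g⁻¹ * x)) := by group
          _ = g * (g⁻¹ * x * g) := by rw [h2]
          _ = x * g := by group
    have hgD : g ∈ centralizer ({t} : Set G) := (mem_cent_iff g).mpr (hcen t)
    rcases central_cases e hgD (hcen _) (hcen _) with h1 | h1
    · exact hgK (h1 ▸ one_mem K)
    · rw [← t_eq e ht] at h1
      exact hgK (h1 ▸ htK)

include e ht hK in
/-- **groups with a subgroup of index 2** -/
theorem index_two_case :
    centralizer ({t} : Set G) ⊔ Cfsg.oddCore G = ⊤ ∨ Nonempty (G ≃* Equiv.Perm (Fin 4)) ∨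
      Nonempty (G ≃* Equiv.Perm (Fin 5)) := by
  haveI : Fact (Nat.Prime 2) := ⟨Nat.prime_two⟩
  haveI hKn : K.Normal := Subgroup.normal_of_index_eq_two hK
  have htK := t_mem_of_index_two e ht K hK
  obtain ⟨m, hm, hG, hKc⟩ := exists_card e ht K hK
  have hPc := card_centralizer_K e ht K hK htK
  have ht' : orderOf (⟨t, htK⟩ : ↥K) = 2 := by
    rw [← Subgroup.orderOf_coe]; exact ht
  -- the Sylow 2-subgroup of `K`
  obtain ⟨P, hP⟩ : ∃ P : Sylow 2 ↥K,
      (P : Subgroup ↥K) = centralizer ({(⟨t, htK⟩ : ↥K)} : Set ↥K) :=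
    ⟨Sylow.ofCard (centralizer ({(⟨t, htK⟩ : ↥K)} : Set ↥K))
      (by rw [hPc, hKc, factorization_two m hm]; norm_num), rfl⟩
  by_cases hexp : ∀ v ∈ centralizer ({(⟨t, htK⟩ : ↥K)} : Set ↥K), v * v = 1
  · -- a four-group
    have hKF : IsKleinFour ↥(P : Subgroup ↥K) := by
      rw [hP]
      refine ⟨hPc, ?_⟩
      have hd : Monoid.exponent ↥(centralizer ({(⟨t, htK⟩ : ↥K)} : Set ↥K)) ∣ 2 := by
        apply Monoid.exponent_dvd_of_forall_pow_eq_one
        intro v
        apply Subtype.ext
        rw [Subgroup.coe_pow, pow_two]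
        exact hexp v v.2
      rcases (Nat.dvd_prime Nat.prime_two).mp hd with h1 | h2
      · exfalso
        have hss : Subsingleton ↥(centralizer ({(⟨t, htK⟩ : ↥K)} : Set ↥K)) :=
          Monoid.exp_eq_one_iff.mp h1
        have := Nat.card_unique (α := ↥(centralizer ({(⟨t, htK⟩ : ↥K)} : Set ↥K)))
        omega
      · exact h2
    rcases Cfsg.Agent.S0202.result P hKF with h1 | h3
    · -- one class of involutions
      have hV : Cfsg.Agent.Lib.Helper55_V4Cent.V4Hyp (⟨t, htK⟩ : ↥K) := by
        refine ⟨ht', hPc, hexp, ?_⟩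
        intro u hu
        have hsub : Subsingleton {C : ConjClasses ↥K //
            ∃ s : ↥K, orderOf s = 2 ∧ ConjClasses.mk s = C} :=
          (Nat.card_eq_one_iff_unique.mp h1).1
        have h5 := @Subsingleton.elim _ hsub
          ⟨ConjClasses.mk (⟨t, htK⟩ : ↥K), ⟨_, ht', rfl⟩⟩ ⟨ConjClasses.mk u, ⟨u, hu, rfl⟩⟩
        exact ConjClasses.mk_eq_mk_iff_isConj.mp (congrArg Subtype.val h5)
      right
      rcases Cfsg.Agent.Lib.Helper55_V4Char.main hV with h12 | ⟨h60, hdeg⟩
      · left
        obtain ⟨ψ⟩ := Cfsg.Agent.Lib.Helper55_V4A4.nonempty_equiv_A4 hV h12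
        exact Cfsg.Agent.Lib.Helper55_SymExt.nonempty_equiv_perm K hK 4 (by norm_num)
          (by norm_num) ψ (centralizer_K_trivial e ht K hK htK hV (by rw [h12]; norm_num))
      · right
        obtain ⟨ψ⟩ := Cfsg.Agent.Lib.Helper55_V4Gen60.nonempty_equiv_A5 ht' h60 hdeg
        exact Cfsg.Agent.Lib.Helper55_SymExt.nonempty_equiv_perm K hK 5 (by norm_num)
          (by norm_num) ψ (centralizer_K_trivial e ht K hK htK hV (by rw [h60]; norm_num))
    · -- three classes: a normal complement
      left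
      obtain ⟨N, hN, hcomp⟩ := (Cfsg.Agent.S0203.result P hKF).mp h3
      exact sup_oddCore_of_complement e ht K hK ⟨P, N, hN, hcomp⟩
  · -- a cyclic group
    left
    push Not at hexp
    obtain ⟨v, hv, hvv⟩ := hexp
    have hcyc : IsCyclic ↥(P : Subgroup ↥K) := by
      rw [hP]
      have hov : orderOf (⟨v, hv⟩ : ↥(centralizer ({(⟨t, htK⟩ : ↥K)} : Set ↥K))) = 4 := by
        have hd := orderOf_dvd_natCard (⟨v, hv⟩ : ↥(centralizer ({(⟨t, htK⟩ : ↥K)} : Set ↥K)))
        rw [hPc] at hd
        have h4 : (4 : ℕ) = 2 ^ 2 := by norm_num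
        rw [h4, Nat.dvd_prime_pow Nat.prime_two] at hd
        obtain ⟨k, hk, hk'⟩ := hd
        have hne : ¬ orderOf (⟨v, hv⟩ : ↥(centralizer ({(⟨t, htK⟩ : ↥K)} : Set ↥K))) ∣ 2 := by
          intro h2
          apply hvv
          have h3 := orderOf_dvd_iff_pow_eq_one.mp h2
          have h5 := congrArg Subtype.val h3
          rw [Subgroup.coe_pow, pow_two] at h5
          exact h5
        interval_cases k
        · exfalso; apply hne; rw [hk']; norm_num
        · exfalso; apply hne; rw [hk']; norm_num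
        · rw [hk']; norm_num
      exact isCyclic_of_orderOf_eq_card _ (by rw [hov, hPc])
    have hdiv : 2 ∣ Nat.card ↥K := by rw [hKc]; exact ⟨2 * m, by ring⟩
    have hnpc := Cfsg.Agent.S3031.result (p := 2) hdiv
      (fun q hq _ => hq.two_le) P (Or.inl hcyc)
    exact sup_oddCore_of_complement e ht K hK hnpc

end

end Cfsg.Agent.Lib.Helper55_D8Index2
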