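import Mathlib
import Cfsg.Prelude.Def_Characters
import Cfsg.Prelude.Def_ParabolicCharacters
import Cfsg.Prelude.Def_LieTypes
import Cfsg.Prelude.Def_ChevB2
import Cfsg.Agent.Lib.Helper40_DefZeroDefs
import Cfsg.Agent.Lib.Helper40_ChevDZDefs
import Cfsg.Agent.S2326

set_option autoImplicit false

/-!
# DEFZERO wave 3, package CHCARDU (architect helper40): `|U|` is the `p`-part of `|D.group F|`
-/

namespace Cfsg.Agent.Lib.Helper55_DZ_CHCARDU

open Cfsg Cfsg.Lie Cfsg.Agent.Lib.Helper40_DefZeroDefs Cfsg.Agent.Lib.Helper40_ChevDZDefs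

variable {F : Type*} [Field F] (D : ChevalleyDatum)
  (hD : D ∈ [chevG2, chevB2, chevD4, chevF4, chevE6, chevE7, chevE8])
include hD

theorem ch_card_U [Fintype F] (p : ℕ) [Fact p.Prime] [CharP F p] :
    Nat.card (cU D F) = p ^ (Nat.card ↥(D.group F)).factorization p := by
  obtain ⟨P, hP⟩ := Cfsg.Agent.S2326.result (F := F) p D hD
  have e : cU D F = (P : Subgroup ↥(D.group F)) := by
    rw [hP]; rfl
  rw [e]
  exact P.card_eq_multiplicity

end Cfsg.Agent.Lib.Helper55_DZ_CHCARDU
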