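import Mathlib
import Cfsg.Agent.Lib.Helper55_DihedralNPC

/-!
Normal 2-complements for groups with a dihedral-like Sylow 2-subgroup in which the involutions of
the cyclic part are isolated (not fused to the rest of the Sylow subgroup); a generalization of
`Helper55_DihedralNPC.hasNPC_of_dihedralLike` with the same proof (helper55).
-/

set_option autoImplicit false

namespace Cfsg.Agent.Lib.Helper55_DihedralNPC2

open Subgroup Cfsg.Agent.Lib.Helper35_FrobeniusNPC Cfsg.Agent.Lib.Helper55_DihedralNPC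

universe u

/-- **Dihedral-like Sylow 2-subgroups with an isolated involution.** Let `T = ⟨ρ⟩ ∪ σ⁻¹⟨ρ⟩` be a
Sylow `2`-subgroup of `H` with `σ² = 1`, `σ ρ σ⁻¹ = ρ⁻¹`, and suppose that no involution of `⟨ρ⟩` is
conjugate in `H` to an element of `T` outside `⟨ρ⟩`. Then `H` has a normal `2`-complement. -/
theorem hasNPC_of_dihedralLike_of_not_isConj : ∀ (n : ℕ) (H : Type u) [Group H] [Finite H], Nat.card H = n →
    ∀ (T : Sylow 2 H) (ρ σ : H), ρ ∈ (T : Subgroup H) → σ ∈ (T : Subgroup H) →
    (∀ y ∈ zpowers ρ, orderOf y = 2 → ∀ x ∈ (T : Subgroup H), x ∉ zpowers ρ → ¬ IsConj x y) →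
    σ * σ = 1 → σ * ρ * σ⁻¹ = ρ⁻¹ →
    (∀ x ∈ (T : Subgroup H), x ∈ zpowers ρ ∨ σ * x ∈ zpowers ρ) → HasNPC 2 H := by
  intro n
  induction n using Nat.strong_induction_on with
  | _ n ih =>
  intro H _ _ hcard T ρ σ hρ hσ hcent hσ2 hrel hform
  have hQT : zpowers ρ ≤ (T : Subgroup H) := zpowers_le.mpr hρ
  by_cases hσρ : σ ∈ zpowers ρ
  · -- cyclic
    have hT : (T : Subgroup H) = zpowers ρ := by
      apply le_antisymm
      · intro x hx
        rcases hform x hx with h | h
        · exact h
        · have e : x = σ⁻¹ * (σ * x) := by group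
          rw [e]; exact mul_mem (inv_mem hσρ) h
      · exact hQT
    apply hasNPC_of_isCyclic_sylow T
    rw [hT]; infer_instance
  · have hσinv : σ⁻¹ = σ := inv_eq_of_mul_eq_one_right hσ2
    have hσ1 : σ ≠ 1 := fun h => hσρ (h ▸ one_mem _)
    have hσo : orderOf σ = 2 := orderOf_eq_prime (by rw [pow_two]; exact hσ2) hσ1
    have hnorm : ∀ x ∈ zpowers ρ, σ * x * σ⁻¹ ∈ zpowers ρ := by
      intro x hx
      obtain ⟨k, rfl⟩ := hx
      have e : σ * ρ ^ k * σ⁻¹ = (ρ⁻¹) ^ k := by rw [← hrel, conj_zpow]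
      rw [e]; exact zpow_mem (inv_mem (mem_zpowers ρ)) k
    have hQi : (zpowers ρ).relIndex (T : Subgroup H) = 2 := by
      rw [Subgroup.relIndex, Subgroup.index_eq_two_iff]
      refine ⟨⟨σ, hσ⟩, ?_⟩
      intro b
      simp only [mem_subgroupOf, Subgroup.coe_mul]
      by_cases hb : (b : H) ∈ zpowers ρ
      · right
        refine ⟨hb, fun h => hσρ ?_⟩
        have e : σ = (b : H)⁻¹ * (b * σ) := by group
        rw [e]; exact mul_mem (inv_mem hb) h
      · left
        refine ⟨?_, hb⟩
        rcases hform b b.2 with h | h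
        · exact absurd h hb
        · have h1 := hnorm _ h
          have e : σ * (σ * b) * σ⁻¹ = b * σ := by rw [← mul_assoc, hσ2, one_mul, hσinv]
          rwa [e] at h1
    obtain ⟨M, hM2, hσM⟩ := Helper55_Transfer.exists_index_two_of_nonextremal T (zpowers ρ) hQT hQi
      σ hσo (by
        intro y hy hconj
        exfalso
        obtain ⟨g, hg⟩ := isConj_iff.mp hconj
        have hyo : orderOf y = 2 := by rw [← hg, Helper34_Sylow.orderOf_conj', hσo]
        exact hcent y hy hyo σ hσ hσρ hconj)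
    have hMn : M.Normal := Subgroup.normal_of_index_eq_two hM2
    have hMi : M.index = 2 ^ 1 := by rw [hM2, pow_one]
    by_cases hρM : ρ ∈ M
    · have hTM : (T : Subgroup H) ⊓ M = zpowers ρ := by
        apply le_antisymm
        · rintro x ⟨hxT, hxM⟩
          rcases hform x hxT with h | h
          · exact h
          · exfalso; apply hσM
            have e : σ = (σ * x) * x⁻¹ := by group
            rw [e]; exact mul_mem (zpowers_le.mpr hρM h) (inv_mem hxM)
        · exact le_inf hQT (zpowers_le.mpr hρM)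
      have hcyc : IsCyclic ((Helper32_Sylow.sylowInfNormal T M : Sylow 2 M) : Subgroup M) := by
        rw [Helper32_Sylow.coe_sylowInfNormal, hTM]
        exact isCyclic_of_injective
          ((zpowers ρ).subgroupOfEquivOfLe (zpowers_le.mpr hρM)).toMonoidHom (MulEquiv.injective _)
      exact hasNPC_of_normal_of_index_pow M 1 hMi (hasNPC_of_isCyclic_sylow _ hcyc)
    · have hmul := fun a b => Subgroup.mul_mem_iff_of_index_two hM2 (a := a) (b := b)
      have hσρM : σ * ρ ∈ M := (hmul σ ρ).mpr ⟨fun h => absurd h hσM, fun h => absurd h hρM⟩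
      have hρ2M : ρ * ρ ∈ M := (hmul ρ ρ).mpr Iff.rfl
      have hlt : Nat.card M < n := by
        have h1 := M.card_mul_index
        rw [hM2, hcard] at h1
        have h2 : 0 < Nat.card M := Nat.card_pos
        omega
      -- parity of exponents
      have hpar : ∀ k : ℤ, (ρ ^ k ∈ M → ρ ^ k ∈ zpowers (ρ * ρ)) ∧
          (ρ ^ k ∉ M → ρ⁻¹ * ρ ^ k ∈ zpowers (ρ * ρ)) := by
        intro k
        rcases Int.even_or_odd' k with ⟨j, rfl | rfl⟩
        · have e : ρ ^ (2 * j) = (ρ * ρ) ^ j := by rw [zpow_mul, zpow_two]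
          refine ⟨fun _ => e ▸ zpow_mem (mem_zpowers _) j, fun h => absurd ?_ h⟩
          rw [e]; exact zpow_mem hρ2M j
        · have e : ρ ^ (2 * j + 1) = (ρ * ρ) ^ j * ρ := by rw [zpow_add_one, zpow_mul, zpow_two]
          refine ⟨fun h => absurd ?_ hρM, fun _ => ?_⟩
          · have e2 : ρ = ((ρ * ρ) ^ j)⁻¹ * ρ ^ (2 * j + 1) := by rw [e]; group
            rw [e2]; exact mul_mem (inv_mem (zpow_mem hρ2M j)) h
          · have e2 : ρ⁻¹ * ρ ^ (2 * j + 1) = (ρ * ρ) ^ j := by
              rw [zpow_add_one, zpow_mul, zpow_two]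
              have hc : Commute ρ⁻¹ ((ρ * ρ) ^ j) :=
                ((Commute.refl ρ).inv_left.mul_right (Commute.refl ρ).inv_left).zpow_right j
              rw [← mul_assoc, hc.eq, mul_assoc, inv_mul_cancel, mul_one]
            rw [e2]; exact zpow_mem (mem_zpowers _) j
      let T' : Sylow 2 M := Helper32_Sylow.sylowInfNormal T M
      have hT' : ∀ x : M, x ∈ (T' : Subgroup M) ↔ (x : H) ∈ (T : Subgroup H) := by
        intro x
        rw [Helper32_Sylow.coe_sylowInfNormal, mem_subgroupOf, mem_inf]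
        exact ⟨fun h => h.1, fun h => ⟨h, x.2⟩⟩
      -- transfer of membership in cyclic subgroups
      have hzp : ∀ y : M, (y : H) ∈ zpowers (ρ * ρ) → y ∈ zpowers (⟨ρ * ρ, hρ2M⟩ : M) := by
        intro y hy
        obtain ⟨k, hk⟩ := hy
        refine ⟨k, Subtype.ext ?_⟩
        rw [Subgroup.coe_zpow]
        exact hk
      apply hasNPC_of_normal_of_index_pow M 1 hMi
      apply ih (Nat.card M) hlt ↥M rfl T' ⟨ρ * ρ, hρ2M⟩ ⟨σ * ρ, hσρM⟩
      · rw [hT']; exact mul_mem hρ hρ
      · rw [hT']; exact mul_mem hσ hρ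
      · intro y hy hyo x hx hxρ hconj
        have hyH : (y : H) ∈ zpowers ρ := by
          obtain ⟨k, hk⟩ := hy
          have e : (y : H) = (ρ * ρ) ^ k := by rw [← hk, Subgroup.coe_zpow]
          rw [e]; exact zpow_mem (mul_mem (mem_zpowers ρ) (mem_zpowers ρ)) k
        have hyoH : orderOf (y : H) = 2 := by rw [Subgroup.orderOf_coe]; exact hyo
        have hxT : (x : H) ∈ (T : Subgroup H) := (hT' x).mp hx
        have hxρH : (x : H) ∉ zpowers ρ := by
          intro hmem
          apply hxρ
          apply hzp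
          obtain ⟨k, hk⟩ := hmem
          have hk' : ρ ^ k = (x : H) := hk
          rw [← hk']
          exact (hpar k).1 (by rw [hk']; exact x.2)
        apply hcent _ hyH hyoH _ hxT hxρH
        obtain ⟨g, hg⟩ := isConj_iff.mp hconj
        rw [isConj_iff]
        exact ⟨(g : H), by rw [← hg]; simp⟩
      · apply Subtype.ext
        show σ * ρ * (σ * ρ) = 1
        calc σ * ρ * (σ * ρ) = (σ * ρ * σ⁻¹) * ρ := by rw [hσinv]; simp only [mul_assoc]
          _ = 1 := by rw [hrel, inv_mul_cancel]
      · apply Subtype.ext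
        show σ * ρ * (ρ * ρ) * (σ * ρ)⁻¹ = (ρ * ρ)⁻¹
        calc σ * ρ * (ρ * ρ) * (σ * ρ)⁻¹ = (σ * ρ * σ⁻¹) * (σ * ρ * σ⁻¹) := by group
          _ = (ρ * ρ)⁻¹ := by rw [hrel, mul_inv_rev]
      · intro x hx
        rw [hT'] at hx
        rcases hform x hx with h | h
        · left
          apply hzp
          obtain ⟨k, hk⟩ := h
          have hk' : ρ ^ k = (x : H) := hk
          rw [← hk']
          exact (hpar k).1 (by rw [hk']; exact x.2)
        · right
          apply hzp
          show σ * ρ * (x : H) ∈ zpowers (ρ * ρ)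
          obtain ⟨k, hk⟩ := h
          have hk' : ρ ^ k = σ * x := hk
          have hnot : ρ ^ k ∉ M := by
            rw [hk', hmul σ x]
            intro hiff
            exact hσM (hiff.mpr x.2)
          have e : σ * ρ * (x : H) = ρ⁻¹ * ρ ^ k := by
            rw [hk', ← hrel]
            have : σ * ρ * σ⁻¹ * (σ * x) = σ * ρ * (x : H) := by group
            rw [this]
          rw [e]
          exact (hpar k).2 hnot

end Cfsg.Agent.Lib.Helper55_DihedralNPC2
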