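import Mathlib
import Cfsg.Agent.Lib.Helper27_EA2SUDefs
import Cfsg.Agent.Lib.Helper27_StSU_Asm
import Cfsg.Agent.Lib.Helper68_EA2
import Cfsg.Agent.Lib.Helper43_EA2_SUSTRUCT

set_option autoImplicit false
set_option linter.unusedSectionVars false
set_option linter.unusedVariables false

/-!
S4625, share SU (helper27 for architect helper68), package SU-CQ: clearing a non-zero entry in the
middle column of a unitriangular element of `SUJ n σ` with a root element `xQ`.  `clear_Q_of` takes
the statements `row_rel`, `su_struct` of package SU-STRUCT as hypotheses.  (helper55)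
-/

namespace Cfsg.Agent.Lib.Helper55_EA2_SUCQ

open Matrix Cfsg.Agent.Lib.Helper68_MatGrp Cfsg.Agent.Lib.Helper27_StSUDefs
  Cfsg.Agent.Lib.Helper27_StSUBasic Cfsg.Agent.Lib.Helper27_GenRow Cfsg.Agent.Lib.Helper27_EA2SUDefs
  Cfsg.Agent.Lib.Helper27_StSU_Asm
open scoped commutatorElement

variable {n : ℕ} {F : Type*} [Field F] (σ : F →+* F)

theorem mul_single_apply' (M : Matrix (Fin n) (Fin n) F) (i j a' b' : Fin n) (c : F) :
    (M * single i j c) a' b' = if j = b' then M a' i * c else 0 := by
  by_cases h : j = b'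
  · subst h
    rw [if_pos rfl, Matrix.mul_single_apply_same]
  · rw [if_neg h]
    exact Matrix.mul_single_apply_of_ne c i j a' b' (Ne.symm h) M

theorem mul_xQm_apply (U : Matrix (Fin n) (Fin n) F) (i c : Fin n) (α β : F) (a' b' : Fin n) :
    (U * xQm σ i c α β) a' b' = U a' b' + (if c = b' then U a' i * α else 0) -
      (if Fin.rev i = b' then U a' c * σ α else 0) +
      (if Fin.rev i = b' then U a' i * β else 0) := by
  unfold xQm
  rw [Matrix.mul_add, Matrix.mul_sub, Matrix.mul_add, Matrix.mul_one, Matrix.add_apply,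
    Matrix.sub_apply, Matrix.add_apply, mul_single_apply', mul_single_apply', mul_single_apply']

theorem xQm_apply (i c : Fin n) (α β : F) (a' b' : Fin n) :
    xQm σ i c α β a' b' = (if a' = b' then 1 else 0) + (if c = b' then (if a' = i then α else 0) else 0) -
      (if Fin.rev i = b' then (if a' = c then σ α else 0) else 0) +
      (if Fin.rev i = b' then (if a' = i then β else 0) else 0) := by
  have h := mul_xQm_apply σ (1 : Matrix (Fin n) (Fin n) F) i c α β a' b'
  rw [Matrix.one_mul] at h
  rw [h]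
  simp only [Matrix.one_apply, ite_mul, one_mul, zero_mul]

/-- **SU-CQ**, with the statements `row_rel`, `su_struct` of SU-STRUCT as hypotheses. -/
theorem clear_Q_of
    (h_row_rel : ∀ (g : ↥(SUJ n σ)) (a b : Fin n),
      ∑ x, g.1.1 a x * σ (g.1.1 b (Fin.rev x)) = if a = Fin.rev b then 1 else 0)
    (h_su_struct : ∀ (u : ↥(SUJ n σ)), u ∈ UUsu n σ → ∀ a b : Fin n, a < b → u.1.1 a b ≠ 0 →
      ClearedBefore (φ n σ) (ht n) u a b →
      b ≤ Fin.rev a ∧ (∀ l : Fin n, Fin.rev a < l → u.1.1 a l = 0) ∧
        ∀ i l : Fin n, i < a → u.1.1 i l = if i = l then 1 else 0)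
    (hσ : ∀ x, σ (σ x) = x) (u : ↥(SUJ n σ)) (hu : u ∈ UUsu n σ) (a b : Fin n) (hab : a < b)
    (hne : u.1.1 a b ≠ 0) (hcl : ClearedBefore (φ n σ) (ht n) u a b) (hb1 : b ≠ Fin.rev a)
    (hb2 : b = Fin.rev b) :
    ∃ s ∈ rootSU n σ, u * s ∈ UUsu n σ ∧ (u * s).1.1 a b = 0 ∧
      ClearedBefore (φ n σ) (ht n) (u * s) a b := by
  classical
  obtain ⟨h1, h2, h3⟩ := h_su_struct u hu a b hab hne hcl
  obtain ⟨hc1, hc2⟩ := (clearedBefore_iff σ u a b).mp hcl
  obtain ⟨hlow, hdiag⟩ := (mem_UUsu σ).mp hu
  have hblt : b < Fin.rev a := lt_of_le_of_ne h1 hb1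
  have ha_ne : a ≠ Fin.rev a := ne_of_lt (lt_trans hab hblt)
  have hab_ne : a ≠ b := ne_of_lt hab
  -- numerical forms
  have hvab : a.val < b.val := hab
  have hvb : b.val < (Fin.rev a).val := hblt
  have hvra : (Fin.rev a).val = n - (a.val + 1) := Fin.val_rev a
  have hvrb : (Fin.rev b).val = n - (b.val + 1) := Fin.val_rev b
  have hvbb : b.val = n - (b.val + 1) := by
    have := congrArg Fin.val hb2
    rw [hvrb] at this
    exact this
  have han : a.val < n := a.2
  have hbn : b.val < n := b.2
  -- the condition on the parameters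
  have hcond : u.1.1 a (Fin.rev a) + σ (u.1.1 a (Fin.rev a)) +
      (-u.1.1 a b) * σ (-u.1.1 a b) = 0 := by
    have h := h_row_rel u a a
    rw [if_neg ha_ne] at h
    rw [← Finset.sum_subset (Finset.subset_univ ({a, b, Fin.rev a} : Finset (Fin n)))] at h
    · rw [Finset.sum_insert, Finset.sum_pair (ne_of_lt hblt)] at h
      · rw [hdiag a, Fin.rev_rev, hdiag a, ← hb2, map_one] at h
        rw [map_neg]
        linear_combination h
      · simp only [Finset.mem_insert, Finset.mem_singleton, not_or]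
        exact ⟨hab_ne, ha_ne⟩
    · intro x _ hx
      simp only [Finset.mem_insert, Finset.mem_singleton, not_or] at hx
      obtain ⟨hxa, hxb, hxra⟩ := hx
      have hxa' : x.val ≠ a.val := fun h => hxa (Fin.ext h)
      have hxb' : x.val ≠ b.val := fun h => hxb (Fin.ext h)
      have hxra' : x.val ≠ (Fin.rev a).val := fun h => hxra (Fin.ext h)
      have hxn : x.val < n := x.2
      have hvrx : (Fin.rev x).val = n - (x.val + 1) := Fin.val_rev x
      by_cases c1 : x.val < a.val
      · rw [hlow a x c1, zero_mul]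
      by_cases c2 : x.val < b.val
      · rw [hc2 x (show a.val < x.val by omega) c2, zero_mul]
      by_cases c3 : x.val < (Fin.rev a).val
      · have e1 : a < Fin.rev x := by
          show a.val < (Fin.rev x).val
          omega
        have e2 : Fin.rev x < b := by
          show (Fin.rev x).val < b.val
          omega
        rw [hc2 (Fin.rev x) e1 e2, map_zero, mul_zero]
      · rw [h2 x (show (Fin.rev a).val < x.val by omega), zero_mul]
  have hval : (xQ σ a b (-u.1.1 a b) (u.1.1 a (Fin.rev a))).1.1 =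
      xQm σ a b (-u.1.1 a b) (u.1.1 a (Fin.rev a)) :=
    xQ_val σ hσ a b hb2 hab_ne _ _ hcond
  have hsU : xQ σ a b (-u.1.1 a b) (u.1.1 a (Fin.rev a)) ∈ UUsu n σ := by
    rw [mem_UUsu, hval]
    refine ⟨fun a' b' hlt => ?_, fun a' => ?_⟩
    · have hlt' : b'.val < a'.val := hlt
      have e0 : (if a' = b' then (1 : F) else 0) = 0 :=
        if_neg (fun h => by rw [h] at hlt'; omega)
      rw [xQm_apply, e0]
      have e1 : (if b = b' then (if a' = a then -u.1.1 a b else 0) else 0) = 0 := by
        split_ifs with h1 h2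
        · exfalso
          rw [← h1, h2] at hlt'
          omega
        · rfl
        · rfl
      have e2 : (if Fin.rev a = b' then (if a' = b then σ (-u.1.1 a b) else 0) else 0) = 0 := by
        split_ifs with h1 h2
        · exfalso
          rw [← h1, h2] at hlt'
          omega
        · rfl
        · rfl
      have e3 : (if Fin.rev a = b' then (if a' = a then u.1.1 a (Fin.rev a) else 0) else 0) = 0 := by
        split_ifs with h1 h2
        · exfalso
          rw [← h1, h2] at hlt'
          omega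
        · rfl
        · rfl
      rw [e1, e2, e3]
      ring
    · rw [xQm_apply, if_pos rfl]
      have e1 : (if b = a' then (if a' = a then -u.1.1 a b else 0) else 0) = 0 := by
        split_ifs with h1 h2
        · exfalso
          rw [← h1] at h2
          exact hab_ne h2.symm
        · rfl
        · rfl
      have e2 : (if Fin.rev a = a' then (if a' = b then σ (-u.1.1 a b) else 0) else 0) = 0 := by
        split_ifs with h1 h2
        · exfalso
          rw [← h1] at h2
          exact hb1 h2.symm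
        · rfl
        · rfl
      have e3 : (if Fin.rev a = a' then (if a' = a then u.1.1 a (Fin.rev a) else 0) else 0) = 0 := by
        split_ifs with h1 h2
        · exfalso
          rw [← h1] at h2
          exact ha_ne h2.symm
        · rfl
        · rfl
      rw [e1, e2, e3]
      ring
  have hmul : ∀ a' b' : Fin n, (u * xQ σ a b (-u.1.1 a b) (u.1.1 a (Fin.rev a))).1.1 a' b' =
      u.1.1 a' b' + (if b = b' then u.1.1 a' a * (-u.1.1 a b) else 0) -
      (if Fin.rev a = b' then u.1.1 a' b * σ (-u.1.1 a b) else 0) +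
      (if Fin.rev a = b' then u.1.1 a' a * u.1.1 a (Fin.rev a) else 0) := by
    intro a' b'
    rw [mul_val, hval, mul_xQm_apply]
  refine ⟨xQ σ a b (-u.1.1 a b) (u.1.1 a (Fin.rev a)), ?_, (UUsu n σ).mul_mem hu hsU, ?_, ?_⟩
  · right; right
    exact ⟨a, b, _, _, hb2, hab, hcond, rfl⟩
  · rw [hmul, if_pos rfl, if_neg (fun h => hb1 h.symm), if_neg (fun h => hb1 h.symm), hdiag a]
    ring
  · rw [clearedBefore_iff]
    refine ⟨fun a' b' hlt hlta => ?_, fun b' hlt1 hlt2 => ?_⟩
    · have z1 : u.1.1 a' b' = 0 := by rw [h3 a' b' hlta, if_neg (ne_of_lt hlt)]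
      have z2 : u.1.1 a' a = 0 := by rw [h3 a' a hlta, if_neg (ne_of_lt hlta)]
      have z3 : u.1.1 a' b = 0 := by rw [h3 a' b hlta, if_neg (ne_of_lt (lt_trans hlta hab))]
      rw [hmul, z1, z2, z3]
      simp
    · have z1 := hc2 b' hlt1 hlt2
      have n1 : ¬ b = b' := fun h => by rw [h] at hlt2; exact lt_irrefl _ hlt2
      have n2 : ¬ Fin.rev a = b' := fun h => by
        rw [← h] at hlt2
        exact lt_irrefl _ (lt_trans hblt hlt2)
      rw [hmul, z1, if_neg n1, if_neg n2, if_neg n2]
      ring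

/-- PKG SU-CQ (M).  `b = rev b` is the middle index (`n` odd).  `s = xQ σ a b (-u_{a,b}) (u_{a,rev a})`; the condition
`β + σ β + α σ α = 0` is `row_rel σ hσ u a a` (`a ≠ rev a`): the terms `x = a`, `x = rev a`, `x = b` survive. -/
theorem clear_Q (hσ : ∀ x, σ (σ x) = x) (u : ↥(SUJ n σ)) (hu : u ∈ UUsu n σ) (a b : Fin n) (hab : a < b)
    (hne : u.1.1 a b ≠ 0) (hcl : ClearedBefore (φ n σ) (ht n) u a b) (hb1 : b ≠ Fin.rev a)
    (hb2 : b = Fin.rev b) :
    ∃ s ∈ rootSU n σ, u * s ∈ UUsu n σ ∧ (u * s).1.1 a b = 0 ∧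
      ClearedBefore (φ n σ) (ht n) (u * s) a b :=
  clear_Q_of σ (Cfsg.Agent.Lib.Helper43_EA2_SUSTRUCT.row_rel σ hσ)
    (Cfsg.Agent.Lib.Helper43_EA2_SUSTRUCT.su_struct σ hσ) hσ u hu a b hab hne hcl hb1 hb2

end Cfsg.Agent.Lib.Helper55_EA2_SUCQ
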