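import Mathlib
import Cfsg.Agent.Lib.Helper83_HP2Defs
import Cfsg.Agent.Lib.Helper55_HP2_TRANS

set_option autoImplicit false
set_option linter.unusedSectionVars false
set_option linter.unusedVariables false

/-!
# HP2 package C0 (architect helper83): under (C∗) for the nonsingular block vectors with norm in
`s`, an element of `M` mapping a plane onto a plane lies in `S`.  `C0_of` takes the statement of
HP2-TRANS as a hypothesis.  (helper55)
-/

namespace Cfsg.Agent.Lib.Helper55_HP2_C0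

open Module Cfsg.Agent.Lib.Helper94_Symp Cfsg.Agent.Lib.Helper94_OrthSmall
  Cfsg.Agent.Lib.Helper94_OrthSiegel Cfsg.Agent.Lib.Helper94_OrthNondeg
  Cfsg.Agent.Lib.Helper29_ODDefs Cfsg.Agent.Lib.Helper94_Q2Defs Cfsg.Agent.Lib.Helper83_HP2Defs

variable {F : Type*} [Field F] [Finite F] {t : ℕ} {S M L : Subgroup (PV F t ≃ₗ[F] PV F t)}

theorem h55_pQ_single (l : Fin t) (ζ : F × F) :
    pQ F t (Pi.single l ζ : PV F t) = ζ.1 * ζ.2 := by
  rw [pQ_apply, Finset.sum_eq_single l]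
  · rw [Pi.single_eq_same]
  · intro j _ hj
    rw [Pi.single_eq_of_ne hj]
    simp
  · intro h
    exact absurd (Finset.mem_univ l) h

theorem h55_single_mem (l : Fin t) (ζ : F × F) : (Pi.single l ζ : PV F t) ∈ pD F t l := by
  intro j hj
  simp [hj]

/-- **HP2-C0**, with the statement of HP2-TRANS as a hypothesis. -/
theorem C0_of
    (hTR : IsDStab (pD F t) S → 3 ≤ t → ∀ {x y : PV F t}, IsPBl x → IsPBl y →
      pQ F t x = pQ F t y → ∃ h ∈ S ⊓ pOm F t, h x = y)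
    (hC : PCtx2 F t S M) (s : Set F) (hs : ∃ c ∈ s, c ≠ 0)
    (hCs : ∀ x, IsPBl x → pQ F t x ∈ s → PCStar S M x) :
    ∀ g ∈ M, ∀ i j, (pD F t i).map (g : PV F t →ₗ[F] PV F t) = pD F t j → g ∈ S := by
  intro g hg i j hij
  obtain ⟨c, hcs, hc0⟩ := hs
  obtain ⟨x, hx⟩ : ∃ x : PV F t, x = Pi.single i (c, 1) := ⟨_, rfl⟩
  have hxQ : pQ F t x = c := by rw [hx, h55_pQ_single, mul_one]
  have hxB : IsPBl x := ⟨by rw [hxQ]; exact hc0, i, by rw [hx]; exact h55_single_mem i _⟩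
  have hgO : g ∈ oG (pQ F t) := (Subgroup.commutator_le_self _) (hC.hMO hg)
  have hgxQ : pQ F t (g x) = pQ F t x := hgO x
  have hgxD : g x ∈ pD F t j := by
    rw [← hij]
    exact Submodule.mem_map_of_mem (by rw [hx]; exact h55_single_mem i _)
  have hgxB : IsPBl (g x) := ⟨by rw [hgxQ, hxQ]; exact hc0, j, hgxD⟩
  obtain ⟨h₁, hh₁, hh₁x⟩ := hTR hC.hS (le_trans (by norm_num) hC.ht) hgxB hxB hgxQ
  have hmem : h₁ * g ∈ M := Subgroup.mul_mem _ (hC.hmin.le hh₁) hg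
  have hfix : (h₁ * g) x = (1 : F) • x := by
    rw [LinearEquiv.mul_apply, hh₁x, one_smul]
  have hS1 : h₁ * g ∈ S := hCs x hxB (by rw [hxQ]; exact hcs) (h₁ * g) hmem ⟨1, hfix⟩
  have : g = h₁⁻¹ * (h₁ * g) := by group
  rw [this]
  exact Subgroup.mul_mem _ (Subgroup.inv_mem _ hh₁.1) hS1

/-- **HP2-C0** [M] (twin Q2-C0). -/
theorem C0 (hC : PCtx2 F t S M) (s : Set F) (hs : ∃ c ∈ s, c ≠ 0)
    (hCs : ∀ x, IsPBl x → pQ F t x ∈ s → PCStar S M x) :
    ∀ g ∈ M, ∀ i j, (pD F t i).map (g : PV F t →ₗ[F] PV F t) = pD F t j → g ∈ S :=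
  C0_of (fun hS ht {_ _} hx hy h => Cfsg.Agent.Lib.Helper55_HP2_TRANS.TRANS hS ht hx hy h)
    hC s hs hCs

end Cfsg.Agent.Lib.Helper55_HP2_C0
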