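import Mathlib
import Cfsg.Agent.Lib.Helper94_OD3Defs
import Cfsg.Agent.Lib.Helper74_OD_BASIC

set_option autoImplicit false
set_option linter.unusedSectionVars false
set_option linter.unusedVariables false

/-!
OD3 market (helper94), package OD3-FS: under (C∗) for the nonsingular block vectors with value in
`s`, an element of `M` outside `S` maps such a block vector to a vector which is perpendicular to
no block.  `FS_of` takes the (specialised) statements of OD3-SIEGH, OD3-KEY, OD3-C0 as hypotheses.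
(helper55)
-/

namespace Cfsg.Agent.Lib.Helper55_OD3_FS

open Module Cfsg.Agent.Lib.Helper94_Symp Cfsg.Agent.Lib.Helper94_OrthSmall
  Cfsg.Agent.Lib.Helper94_OrthSiegel Cfsg.Agent.Lib.Helper94_OrthNondeg
  Cfsg.Agent.Lib.Helper29_ODDefs Cfsg.Agent.Lib.Helper94_Q2Defs Cfsg.Agent.Lib.Helper94_OD3Defs

variable {F V : Type*} [Field F] [AddCommGroup V] [Module F V] [Finite F] [FiniteDimensional F V]
  {Q : V → F} {B : LinearMap.BilinForm F V} {t k : ℕ} {D : Fin t → Submodule F V}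
  {S M L : Subgroup (V ≃ₗ[F] V)}

/-- `Ω ≤ O` -/
theorem Om_le_oG : ⁅oG Q, oG Q⁆ ≤ oG Q := by
  rw [Subgroup.commutator_le]
  intro g₁ hg₁ g₂ hg₂
  exact (oG Q).mul_mem ((oG Q).mul_mem ((oG Q).mul_mem hg₁ hg₂)
    ((oG Q).inv_mem hg₁)) ((oG Q).inv_mem hg₂)

/-- **OD3-FS**, with the statements of OD3-SIEGH, OD3-KEY, OD3-C0 (specialised to the context) as
hypotheses. -/
theorem FS_of
    (hSIEGH : ∀ {j : Fin t} {u v : V}, u ∈ D j → v ∈ D j → Q u = 0 → B u v = 0 →
      sieg Q B u v ∈ S ⊓ ⁅oG Q, oG Q⁆)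
    (hKEY : ∀ {g c : V ≃ₗ[F] V}, g ∈ oG Q → ∀ W : Submodule F V, finrank F W < k →
      (∀ v, c v - v ∈ W) →
      (∀ j, ∃ j', ((D j).map (g : V →ₗ[F] V)).map (c : V →ₗ[F] V) =
        (D j').map (g : V →ₗ[F] V)) →
      ∀ j, ((D j).map (g : V →ₗ[F] V)).map (c : V →ₗ[F] V) = (D j).map (g : V →ₗ[F] V))
    (hC0 : ∀ g ∈ M, ∀ i j, (D i).map (g : V →ₗ[F] V) = D j → g ∈ S)
    (hC : Ctx3 Q B k D S M) (hIrr : IrrBlocks Q B D) (s : Set F)
    (hCs : ∀ x, IsBlN Q D x → Q x ∈ s → CStarA S M x) :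
    ∀ g ∈ M, g ∉ S → ∀ x, IsBlN Q D x → Q x ∈ s → ∀ l, ¬ Perp B D (g x) l := by
  classical
  intro g hgM hgS x hx hxs l hperp
  apply hgS
  have hsymm := B_symm Q B hC.hQp
  have hgO : g ∈ oG Q := Om_le_oG (hC.hMO hgM)
  obtain ⟨π, hπ⟩ := Helper74_OD_BASIC.exists_projs hC.hQs hC.hQp hC.hN hC.hD
  -- every `g (D j)` is invariant under the Siegel elements of `D l`
  have hinv : ∀ j, ∀ u ∈ D l, ∀ v ∈ D l, Q u = 0 → B u v = 0 →
      ∀ w ∈ (D j).map (g : V →ₗ[F] V), sieg Q B u v w ∈ (D j).map (g : V →ₗ[F] V) := by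
    intro j u hu v hv hQu huv w hw
    have hcH : sieg Q B u v ∈ S ⊓ ⁅oG Q, oG Q⁆ := hSIEGH hu hv hQu huv
    have hcM : sieg Q B u v ∈ M := hC.hmin.le hcH
    have hfix : sieg Q B u v (g x) = g x := by
      rw [sieg_apply Q B hC.hQs hC.hQp hQu huv, hperp u hu, hperp v hv]
      simp
    have hconjM : g⁻¹ * sieg Q B u v * g ∈ M :=
      M.mul_mem (M.mul_mem (M.inv_mem hgM) hcM) hgM
    have hconjx : (g⁻¹ * sieg Q B u v * g) x = (1 : F) • x := by
      rw [LinearEquiv.mul_apply, LinearEquiv.mul_apply, hfix, one_smul]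
      exact inv_apply_apply' g x
    have hconjS : g⁻¹ * sieg Q B u v * g ∈ S := hCs x hx hxs _ hconjM ⟨1, hconjx⟩
    obtain ⟨σ, hσ⟩ := (hC.hS _).mp hconjS
    have hperm : ∀ j, ∃ j', ((D j).map (g : V →ₗ[F] V)).map
        (sieg Q B u v : V →ₗ[F] V) = (D j').map (g : V →ₗ[F] V) := by
      intro j
      refine ⟨σ j, ?_⟩
      rw [← hσ j]
      ext y
      simp only [Submodule.mem_map]
      constructor
      · rintro ⟨y₁, ⟨y₀, hy₀, rfl⟩, rfl⟩
        refine ⟨(g⁻¹ * sieg Q B u v * g) y₀, ⟨y₀, hy₀, rfl⟩, ?_⟩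
        change g ((g⁻¹ * sieg Q B u v * g) y₀) = sieg Q B u v (g y₀)
        rw [LinearEquiv.mul_apply, LinearEquiv.mul_apply]
        exact apply_inv_apply' g _
      · rintro ⟨y₁, ⟨y₀, hy₀, rfl⟩, rfl⟩
        refine ⟨g y₀, ⟨y₀, hy₀, rfl⟩, ?_⟩
        change sieg Q B u v (g y₀) = g ((g⁻¹ * sieg Q B u v * g) y₀)
        rw [LinearEquiv.mul_apply, LinearEquiv.mul_apply]
        exact (apply_inv_apply' g _).symm
    have hW : finrank F (Submodule.span F ({u, v} : Set V)) < k := by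
      have h1 : finrank F (Submodule.span F (({u, v} : Finset V) : Set V)) ≤
          ({u, v} : Finset V).card := finrank_span_finset_le_card _
      have h2 : ({u, v} : Finset V).card ≤ 2 := Finset.card_le_two
      have h3 : (({u, v} : Finset V) : Set V) = ({u, v} : Set V) := by
        simp
      rw [h3] at h1
      have := hC.hk
      omega
    have hcW : ∀ w, sieg Q B u v w - w ∈ Submodule.span F ({u, v} : Set V) := by
      intro w
      rw [sieg_apply Q B hC.hQs hC.hQp hQu huv]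
      have he : w + B w u • v - B w v • u - (Q v * B w u) • u - w =
          B w u • v + (-(B w v) - Q v * B w u) • u := by module
      rw [he]
      exact add_mem (Submodule.smul_mem _ _ (Submodule.subset_span (by simp)))
        (Submodule.smul_mem _ _ (Submodule.subset_span (by simp)))
    have hkey := hKEY hgO _ hW hcW hperm j
    rw [← hkey]
    exact Submodule.mem_map_of_mem hw
  -- a nonzero vector of `D l`
  have hDl : D l ≠ ⊥ := by
    intro h0
    have := hC.hD.fr l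
    rw [h0, finrank_bot] at this
    have := hC.hk
    omega
  obtain ⟨d, hd, hd0⟩ := Submodule.exists_mem_ne_zero_of_ne_bot hDl
  obtain ⟨x', hx', hx'd⟩ := hC.hD.nd l d hd hd0
  -- some `g (D j)` is not perpendicular to `d`
  have hex : ∃ j, ∃ w ∈ (D j).map (g : V →ₗ[F] V), B w d ≠ 0 := by
    by_contra hne
    push Not at hne
    have hle : (⨆ j, (D j).map (g : V →ₗ[F] V)) ≤ LinearMap.ker (B.flip d) := by
      refine iSup_le (fun j w hw => ?_)
      rw [LinearMap.mem_ker, LinearMap.BilinForm.flip_apply]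
      exact hne j w hw
    have htop : (⨆ j, (D j).map (g : V →ₗ[F] V)) = ⊤ := by
      rw [← Submodule.map_iSup, hC.hD.sup, Submodule.map_top, LinearMap.range_eq_top]
      exact g.surjective
    have hx'k : x' ∈ LinearMap.ker (B.flip d) := hle (by rw [htop]; exact Submodule.mem_top)
    rw [LinearMap.mem_ker, LinearMap.BilinForm.flip_apply] at hx'k
    exact hx'd hx'k
  obtain ⟨j, w, hw, hwd⟩ := hex
  have ha0 : π l w ≠ 0 := by
    intro h0
    apply hwd
    rw [hπ.B_left l w d hd, h0, map_zero, LinearMap.zero_apply]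
  have ha' : ∀ y ∈ D l, B y (w - π l w) = 0 := by
    intro y hy
    rw [hsymm]
    exact hπ.perp l w y hy
  have hle : D l ≤ (D j).map (g : V →ₗ[F] V) :=
    hIrr l _ (hinv j) (π l w) (w - π l w) (by rw [add_sub_cancel]; exact hw) (hπ.mem l w) ha0 ha'
  have hfr : finrank F (D l) = finrank F ((D j).map (g : V →ₗ[F] V)) := by
    rw [LinearEquiv.finrank_map_eq, hC.hD.fr, hC.hD.fr]
  have heq : D l = (D j).map (g : V →ₗ[F] V) := Submodule.eq_of_le_of_finrank_eq hle hfr
  exact hC0 g hgM j l heq.symm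

end Cfsg.Agent.Lib.Helper55_OD3_FS
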