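import Mathlib
import Cfsg.Agent.Lib.Helper99_OrthTSDefs
import Cfsg.Agent.Lib.Helper35_OTS_OS

set_option autoImplicit false

/-!
Package OS of helper99's orthogonal core (S5973 / S5987): invariant totally singular subspaces of
`[V, a]` from the symplectic structure theorems for the twisted form (helper55).
-/

namespace Cfsg.Agent.Lib.Helper55_OrthTS_OS

open Polynomial Module Matrix
open Cfsg.Agent.Lib.Helper40_SpBasic Cfsg.Agent.Lib.Helper40_OConj Cfsg.Agent.Lib.Helper40_OConj.OData
  Cfsg.Agent.Lib.Helper99_OrthTSDefs Cfsg.Agent.Lib.Helper99_SpAtoms Cfsg.Agent.Lib.Helper99_SpTI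

universe u

section transfer

variable {F : Type u} [Field F] {V : Type u} [AddCommGroup V] [Module F V] [FiniteDimensional F V]

/-- an `a`-invariant subspace of `[V, a]` that is totally isotropic for the twisted form is totally
isotropic for the polar form (any characteristic). -/
theorem isoOn_pol_of_isoOn_tw {Q : QuadraticForm F V} {a : Module.End F V} {N : ℕ}
    (h : OData Q a N) {U : Submodule F V} (hUC : U ≤ comm a) (hUinv : Inv a U)
    (hUti : IsoOn (tw Q a N) U) : IsoOn (pol Q) U := by
  have hdel : ∀ x ∈ U, del a N x ∈ U := by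
    intro x hx
    show (a - a ^ (N - 1)) x ∈ U
    rw [LinearMap.sub_apply]
    exact U.sub_mem (hUinv x hx) (hUinv.pow_mem (N - 1) hx)
  let dU : U →ₗ[F] U := (del a N).restrict hdel
  have hinj : Function.Injective dU := by
    rw [← LinearMap.ker_eq_bot, LinearMap.ker_eq_bot']
    intro x hx
    apply Subtype.ext
    exact h.del_injOn x (hUC x.2) (congrArg Subtype.val hx)
  have hsurj := LinearMap.surjective_of_injective hinj
  intro z hz y hy
  obtain ⟨x, hx⟩ := hsurj ⟨z, hz⟩
  have hx' : del a N (x : V) = z := congrArg Subtype.val hx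
  rw [← hx']
  exact hUti x x.2 y hy

/-- an `a`-invariant subspace of `[V, a]` that is totally isotropic for the twisted form is totally
singular (any characteristic). -/
theorem ts_of_isoOn_tw {Q : QuadraticForm F V} {a : Module.End F V} {N : ℕ}
    (h : OData Q a N) {U : Submodule F V} (hUC : U ≤ comm a) (hUinv : Inv a U)
    (hUti : IsoOn (tw Q a N) U) : ∀ u ∈ U, Q u = 0 := by
  have hpol := isoOn_pol_of_isoOn_tw h hUC hUinv hUti
  have hsub : ∀ x ∈ U, (a - 1) x ∈ U := by
    intro x hx
    rw [LinearMap.sub_apply, Module.End.one_apply]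
    exact U.sub_mem (hUinv x hx) hx
  let dU : U →ₗ[F] U := (a - 1).restrict hsub
  have hinj : Function.Injective dU := by
    rw [← LinearMap.ker_eq_bot, LinearMap.ker_eq_bot']
    intro x hx
    apply Subtype.ext
    have h1 : (a - 1) (x : V) = 0 := congrArg Subtype.val hx
    rw [LinearMap.sub_apply, Module.End.one_apply, sub_eq_zero] at h1
    exact h.eq_zero_of_fixed x (hUC x.2) h1
  have hsurj := LinearMap.surjective_of_injective hinj
  intro u hu
  obtain ⟨x, hx⟩ := hsurj ⟨u, hu⟩
  have hx' : (a - 1) (x : V) = u := congrArg Subtype.val hx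
  rw [← hx', h.Q_comm, hx', hpol u hu x x.2, neg_zero]

end transfer

section main

variable {F : Type u} [Field F] [Fintype F] {p : ℕ} [Fact p.Prime] [CharP F p]
variable {V : Type u} [AddCommGroup V] [Module F V] [FiniteDimensional F V]
variable {Q : QuadraticForm F V} {a : Module.End F V} {r : ℕ}

/-- the structure of `[V, a]`: `cnt` atoms, and invariant totally singular subspaces -/
theorem exists_cnt (hQ : (pol Q).Nondegenerate) (h : OData Q a r) (hr : r.Prime) (hrp : r ≠ p) :
    ∃ cnt : ℕ, atomDim F r * cnt = finrank F (comm a) ∧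
      ∀ s' : ℕ,
        ((Odd (orderOf ((Fintype.card F : ℕ) : ZMod r)) ∧ s' ≤ cnt) ∨
         (Even (orderOf ((Fintype.card F : ℕ) : ZMod r)) ∧
           (s' = 0 ∨ (r - 1) / orderOf ((Fintype.card F : ℕ) : ZMod r) + 2 * s' ≤ cnt + 1))) →
        OHasTS Q a (comm a) (orderOf ((Fintype.card F : ℕ) : ZMod r) * s') := by
  classical
  have hr2 : r ≠ 2 := by
    intro h2
    have := h.odd
    rw [h2] at this
    exact absurd this (by decide)
  have hCinv : Inv a (comm a) := inv_comm a
  have hiso' : IsoData ((tw Q a r).restrict (comm a)) (a.restrict hCinv) r :=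
    h.isoData.restrict hCinv
  have hB' : ((tw Q a r).restrict (comm a)).Nondegenerate :=
    nondegenerate_restrict h.isoData (h.ndOn_tw hQ)
  have hfix' : ∀ w : comm a, (a.restrict hCinv) w = w → w = 0 := by
    intro w hw
    apply Subtype.ext
    have h1 : a (w : V) = w := by
      have := congrArg Subtype.val hw
      rwa [LinearMap.coe_restrict_apply] at this
    exact h.eq_zero_of_fixed w w.2 h1
  obtain ⟨cnt, hcnt, hS⟩ :=
    Cfsg.Agent.Lib.Helper35_OTS_OS.struct_nofix (p := p) hiso' hB' hr hr2 hrp hfix'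
  refine ⟨cnt, hcnt, ?_⟩
  intro s' hs'
  obtain ⟨U', -, hU'inv, hU'ti, hU'd⟩ := hS s' hs'
  have hUC : U'.map (comm a).subtype ≤ comm a := by
    rintro _ ⟨x, -, rfl⟩
    exact x.2
  have hUinv : Inv a (U'.map (comm a).subtype) := by
    rintro _ ⟨x, hx, rfl⟩
    refine ⟨(a.restrict hCinv) x, hU'inv x hx, ?_⟩
    show (((a.restrict hCinv) x : comm a) : V) = a (x : V)
    rw [LinearMap.coe_restrict_apply]
  have hUd : finrank F (U'.map (comm a).subtype) =
      orderOf ((Fintype.card F : ℕ) : ZMod r) * s' := by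
    rw [← hU'd]
    exact (Submodule.equivMapOfInjective (comm a).subtype (comm a).injective_subtype
      U').finrank_eq.symm
  have hUti : IsoOn (tw Q a r) (U'.map (comm a).subtype) := by
    rintro _ ⟨x, hx, rfl⟩ _ ⟨y, hy, rfl⟩
    exact hU'ti x hx y hy
  exact ⟨U'.map (comm a).subtype, hUC, hUinv, ts_of_isoOn_tw h hUC hUinv hUti, hUd⟩

/-- OS: invariant totally singular subspaces of `[V, a]` (from the symplectic structure theorems
`Helper99_SpTI.exists_struct_odd`, `Helper99_SpTI2.exists_struct_even` for the twisted form). -/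
theorem OS (hQ : (pol Q).Nondegenerate) (h : OData Q a r) (hr : r.Prime) (hrp : r ≠ p) :
    (Odd (orderOf ((Fintype.card F : ℕ) : ZMod r)) →
      ∀ s' : ℕ, 2 * (orderOf ((Fintype.card F : ℕ) : ZMod r) * s') ≤ finrank F (comm a) →
        OHasTS Q a (comm a) (orderOf ((Fintype.card F : ℕ) : ZMod r) * s')) ∧
    (Even (orderOf ((Fintype.card F : ℕ) : ZMod r)) →
      ∀ s' : ℕ, (s' = 0 ∨ orderOf ((Fintype.card F : ℕ) : ZMod r) * ((r - 1) / orderOf ((Fintype.card F : ℕ) : ZMod r) + 2 * s')
          ≤ finrank F (comm a) + orderOf ((Fintype.card F : ℕ) : ZMod r)) →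
        OHasTS Q a (comm a) (orderOf ((Fintype.card F : ℕ) : ZMod r) * s')) := by
  obtain ⟨cnt, hcnt, hS⟩ := exists_cnt hQ h hr hrp
  have hipos : 0 < orderOf ((Fintype.card F : ℕ) : ZMod r) := ord_pos (F := F) hr hrp
  constructor
  · intro hodd s' hs'
    apply hS s'
    left
    refine ⟨hodd, ?_⟩
    have hne : ¬ Even (orderOf ((Fintype.card F : ℕ) : ZMod r)) := Nat.not_even_iff_odd.2 hodd
    rw [atomDim, if_neg hne] at hcnt
    rw [← hcnt] at hs'
    have h1 : orderOf ((Fintype.card F : ℕ) : ZMod r) * s' ≤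
        orderOf ((Fintype.card F : ℕ) : ZMod r) * cnt := by
      have : 2 * (orderOf ((Fintype.card F : ℕ) : ZMod r) * s') ≤
          2 * (orderOf ((Fintype.card F : ℕ) : ZMod r) * cnt) := by
        calc 2 * (orderOf ((Fintype.card F : ℕ) : ZMod r) * s')
            ≤ 2 * orderOf ((Fintype.card F : ℕ) : ZMod r) * cnt := hs'
          _ = 2 * (orderOf ((Fintype.card F : ℕ) : ZMod r) * cnt) := by ring
      omega
    exact Nat.le_of_mul_le_mul_left h1 hipos
  · intro heven s' hs'
    apply hS s'
    right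
    refine ⟨heven, ?_⟩
    rcases hs' with h0 | hs'
    · left; exact h0
    · right
      rw [atomDim, if_pos heven] at hcnt
      rw [← hcnt] at hs'
      have h1 : orderOf ((Fintype.card F : ℕ) : ZMod r) *
          ((r - 1) / orderOf ((Fintype.card F : ℕ) : ZMod r) + 2 * s') ≤
          orderOf ((Fintype.card F : ℕ) : ZMod r) * (cnt + 1) := by
        calc _ ≤ orderOf ((Fintype.card F : ℕ) : ZMod r) * cnt +
              orderOf ((Fintype.card F : ℕ) : ZMod r) := hs'
          _ = orderOf ((Fintype.card F : ℕ) : ZMod r) * (cnt + 1) := by ring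
      exact Nat.le_of_mul_le_mul_left h1 hipos

end main

end Cfsg.Agent.Lib.Helper55_OrthTS_OS
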