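import Mathlib
import Cfsg.Agent.Lib.Helper99_OrthTSDefs
import Cfsg.Agent.Lib.Helper40_OEven
import Cfsg.Agent.Lib.Helper40_QuadStd
import Cfsg.Agent.Lib.Helper55_OrthTS_OS

set_option autoImplicit false
set_option linter.unusedSectionVars false

/-!
Package OC3 of helper99's orthogonal core (S5973 / S5987): the type of `[V, a]` (helper55).
-/

namespace Cfsg.Agent.Lib.Helper55_OrthTS_OC3

open Polynomial Module Matrix
open Cfsg.Agent.Lib.Helper40_SpBasic Cfsg.Agent.Lib.Helper40_OConj Cfsg.Agent.Lib.Helper40_OConj.OData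
  Cfsg.Agent.Lib.Helper40_QuadIso Cfsg.Agent.Lib.Helper40_OClasses
  Cfsg.Agent.Lib.Helper99_OrthTSDefs Cfsg.Agent.Lib.Helper99_SpAtoms Cfsg.Agent.Lib.Helper99_SpTI
  Cfsg.Agent.Lib.Helper40_QuadStd Cfsg.Agent.Lib.Helper40_OEven Cfsg.Agent.Lib.Helper44_StdForms

universe u

section restr

variable {F : Type u} [Field F] {V : Type u} [AddCommGroup V] [Module F V] [FiniteDimensional F V]

theorem polar_restr (Q : QuadraticForm F V) (C : Submodule F V) (x y : C) :
    QuadraticMap.polar (Q.comp C.subtype) x y = QuadraticMap.polar Q (x : V) (y : V) := by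
  simp [QuadraticMap.polar]

/-- the restriction of `Q` to a subspace on which the polar form is nondegenerate -/
theorem nondegenerate_restr (Q : QuadraticForm F V) (C : Submodule F V) (hC : NDOn (pol Q) C) :
    (QuadraticMap.polarBilin (Q.comp C.subtype)).Nondegenerate := by
  apply LinearMap.BilinForm.Nondegenerate.ofSeparatingLeft
  intro x hx
  apply Subtype.ext
  apply hC x x.2
  intro y hy
  have h1 := hx ⟨y, hy⟩
  rw [QuadraticMap.polarBilin_apply_apply, polar_restr] at h1
  exact h1

/-- `OHypOn` in terms of the restricted form -/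
theorem oHypOn_iff_isHyp (Q : QuadraticForm F V) (C : Submodule F V) :
    OHypOn Q C ↔ IsHyp (Q.comp C.subtype) := by
  constructor
  · rintro ⟨U, hUC, hU, hdim⟩
    refine ⟨U.comap C.subtype, ?_, ?_⟩
    · intro u hu
      exact hU _ hu
    · have h1 : finrank F (U.comap C.subtype) = finrank F U := by
        have h2 : (U.comap C.subtype).map C.subtype = U := by
          rw [Submodule.map_comap_eq, Submodule.range_subtype]
          exact inf_eq_right.2 hUC
        rw [← Submodule.finrank_map_subtype_eq C (U.comap C.subtype), h2]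
      rw [h1]
      exact hdim
  · rintro ⟨U', hU', hdim⟩
    refine ⟨U'.map C.subtype, ?_, ?_, ?_⟩
    · rintro _ ⟨x, -, rfl⟩
      exact x.2
    · rintro _ ⟨x, hx, rfl⟩
      exact hU' x hx
    · rw [Submodule.finrank_map_subtype_eq]
      exact hdim

end restr

section main

variable {F : Type u} [Field F] [Fintype F] {p : ℕ} [Fact p.Prime] [CharP F p]
variable {V : Type u} [AddCommGroup V] [Module F V] [FiniteDimensional F V]
variable {Q : QuadraticForm F V} {a : Module.End F V} {r : ℕ}

/-- `[V, a]` is nondegenerate -/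
theorem ndOn_comm (hQ : (pol Q).Nondegenerate) (h : OData Q a r) : NDOn (pol Q) (comm a) := by
  intro x hx hxy
  exact h.eq_zero_of_fixed x hx (h.fixed_of_orth hQ x hxy)

/-- OC3: the type of `[V, a]`. -/
theorem OC3 (hQ : (pol Q).Nondegenerate) (h : OData Q a r) (hr : r.Prime) (hrp : r ≠ p) :
    (Odd (orderOf ((Fintype.card F : ℕ) : ZMod r)) →
      OHypOn Q (comm a) ∧ ∃ A : ℕ, finrank F (comm a) = 2 * orderOf ((Fintype.card F : ℕ) : ZMod r) * A) ∧
    (Even (orderOf ((Fintype.card F : ℕ) : ZMod r)) →
      ∃ A : ℕ, finrank F (comm a) = orderOf ((Fintype.card F : ℕ) : ZMod r) * A ∧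
        (OHypOn Q (comm a) ↔ Even A)) := by
  classical
  obtain ⟨cnt, hcnt, hS⟩ := Cfsg.Agent.Lib.Helper55_OrthTS_OS.exists_cnt hQ h hr hrp
  have hipos : 0 < orderOf ((Fintype.card F : ℕ) : ZMod r) := ord_pos (F := F) hr hrp
  have hr2 : r ≠ 2 := by
    intro h2
    have := h.odd
    rw [h2] at this
    exact absurd this (by decide)
  constructor
  · intro hodd
    have hne : ¬ Even (orderOf ((Fintype.card F : ℕ) : ZMod r)) := Nat.not_even_iff_odd.2 hodd
    rw [atomDim, if_neg hne] at hcnt
    refine ⟨?_, cnt, hcnt.symm⟩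
    obtain ⟨U, hUC, -, hU, hUd⟩ := hS cnt (Or.inl ⟨hodd, le_rfl⟩)
    refine ⟨U, hUC, hU, ?_⟩
    rw [hUd, ← hcnt]
    exact le_of_eq (by ring)
  · intro heven
    rw [atomDim, if_pos heven] at hcnt
    refine ⟨cnt, hcnt.symm, ?_⟩
    obtain ⟨j, hj⟩ := heven
    -- the trivial case
    rcases Nat.eq_zero_or_pos cnt with h0 | hpos
    · subst h0
      constructor
      · intro _
        exact ⟨0, rfl⟩
      · intro _
        refine ⟨⊥, bot_le, ?_, ?_⟩
        · intro u hu
          rw [Submodule.mem_bot] at hu
          rw [hu, map_zero]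
        · rw [← hcnt]
          simp
    -- the restricted data
    have hCinv : Inv a (comm a) := inv_comm a
    have hdim : finrank F (comm a) = 2 * (j * cnt) := by
      rw [← hcnt, hj]
      ring
    have hm : 1 ≤ j * cnt := by
      have : 0 < j := by omega
      exact Nat.mul_pos this hpos
    have hnd := nondegenerate_restr Q (comm a) (ndOn_comm hQ h)
    obtain ⟨ζ, hζ⟩ := exists_aniso (F := F)
    have hisoC : ∀ x : comm a, (Q.comp (comm a).subtype) ((a.restrict hCinv) x) =
        (Q.comp (comm a).subtype) x := by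
      intro x
      show Q (((a.restrict hCinv) x : comm a) : V) = Q (x : V)
      rw [LinearMap.coe_restrict_apply]
      exact h.iso x
    have hpowC : (a.restrict hCinv) ^ r = 1 := by
      have h1 : ∀ k : ℕ, ∀ x : comm a, ((((a.restrict hCinv) ^ k) x : comm a) : V) =
          (a ^ k) (x : V) := by
        intro k
        induction k with
        | zero => intro x; simp
        | succ k ih =>
          intro x
          rw [pow_succ, Module.End.mul_apply, ih, LinearMap.coe_restrict_apply, pow_succ,
            Module.End.mul_apply]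
      apply LinearMap.ext
      intro x
      apply Subtype.ext
      rw [h1, h.pow]
      rfl
    have hnd1 : ¬ ((X : F[X]) - 1) ∣ (a.restrict hCinv).charpoly := by
      intro hdvd
      have h1 : ((X : F[X]) - C 1) ∣ (a.restrict hCinv).charpoly := by rwa [map_one]
      rw [Polynomial.dvd_iff_isRoot, ← Module.End.hasEigenvalue_iff_isRoot_charpoly] at h1
      obtain ⟨w, hw⟩ := h1.exists_hasEigenvector
      have h2 := hw.apply_eq_smul
      rw [one_smul] at h2
      apply hw.2
      apply Subtype.ext
      have h3 : a (w : V) = w := by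
        have := congrArg Subtype.val h2
        rwa [LinearMap.coe_restrict_apply] at this
      exact h.eq_zero_of_fixed w w.2 h3
    rcases iso_plus_or_minus (j * cnt) hm hdim (Q.comp (comm a).subtype) hnd 1 ζ hζ with hI | hI
    · -- plus type
      obtain ⟨g, hg, hgc⟩ := exists_of_iso (qfPlus (j * cnt) F) _ hI _ hisoC r h.pos hpowC
      have hex := plus_excl p (j * cnt) hm r hr hr2 hrp g hg (by rw [hgc]; exact hnd1)
      have hi1 : orderOf ((Fintype.card F : ℕ) : ZMod r) ≠ 1 := by omega
      obtain ⟨k, hk⟩ := hex.2 hi1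
      have hA : Even cnt := by
        refine ⟨k, ?_⟩
        have h1 : j * cnt = j * (k + k) := by
          rw [hk, hj]
          ring
        have : 0 < j := by omega
        exact Nat.eq_of_mul_eq_mul_left this h1
      constructor
      · intro _
        exact hA
      · intro _
        rw [oHypOn_iff_isHyp]
        exact (isHyp_qfPlus (j * cnt)).of_iso hI.symm
    · -- minus type
      obtain ⟨g, hg, hgc⟩ := exists_of_iso (qfMinus (j * cnt - 1) F 1 ζ) _ hI _ hisoC r h.pos hpowC
      have hex := minus_excl p (j * cnt) hm r hr hr2 hrp 1 ζ hζ g hg (by rw [hgc]; exact hnd1)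
      have hA : ¬ Even cnt := by
        rintro ⟨k, hk⟩
        apply hex.2.2
        refine ⟨k, ?_⟩
        rw [hk, hj]
        ring
      constructor
      · intro hH
        exfalso
        rw [oHypOn_iff_isHyp] at hH
        exact not_isHyp_qfMinus (j * cnt - 1) 1 ζ hζ (hH.of_iso hI)
      · intro hE
        exact absurd hE hA

end main

end Cfsg.Agent.Lib.Helper55_OrthTS_OC3
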