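/-
S4892 package PR-DETK (architect: helper78): the determinantal order of a `K₀`-valued irreducible
character is prime to `p` when the roots of unity of `K₀` have order prime to `p`.
-/
import Mathlib
import Cfsg.Prelude.Def_Characters
import Cfsg.Prelude.Def_CharExt
import Cfsg.Agent.Lib.Helper78_PRDefs
import Cfsg.Agent.Lib.Helper75_GalDescent
import Cfsg.Agent.Lib.Helper75_DetChar
import Cfsg.Agent.Lib.Helper75_LinChar
import Cfsg.Agent.Lib.Helper75_CanonExt

set_option autoImplicit false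

namespace Cfsg.Agent.Lib.Helper55_PR_DETK

open Cfsg Cfsg.Agent.Lib.Helper78_PRDefs Cfsg.Agent.Lib.Helper75_GalDescent
  Cfsg.Agent.Lib.Helper75_LinChar

universe u

variable {p : ℕ}

theorem not_dvd_detOrder {G : Type u} [Group G] [Finite G] [Fact p.Prime] (K₀ : Subfield ℂ)
    (hK₀ : PTorsionFree p K₀) (θ : G → ℂ) (hθ : IsIrrCharacter G θ) (hval : ∀ g, θ g ∈ K₀) :
    ¬ p ∣ detOrder θ := by
  classical
  have : Fintype G := Fintype.ofFinite G
  have hpp : p.Prime := Fact.out
  have hθc : IsCharacter G θ := isCharacter_of_isIrr hθ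
  have hlin : IsLin G (detChar θ) := Cfsg.Agent.Lib.Helper75_DetChar.isCharacter_detChar hθc
  have hirr : IsIrrCharacter G (detChar θ) := hlin.irr
  obtain ⟨S, -, hcop, -, -, h5, h6⟩ := exists_galois_powers (G := G) K₀
  -- `λ (g ^ k) = λ g` for `k ∈ S`
  have hpow : ∀ k ∈ S, ∀ g, detChar θ (g ^ k) = detChar θ g := by
    intro k hk g
    have e1 : (fun g => θ (g ^ k)) = θ := funext fun g => h5 θ hθc hval k hk g
    have e2 := Cfsg.Agent.Lib.Helper75_CanonExt.detChar_powMap hθ k (hcop k hk)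
    rw [e1] at e2
    rw [hlin.map_pow, ← Pi.pow_apply, ← e2]
  -- the values of `λ` lie in `K₀`
  have hmem : ∀ g, detChar θ g ∈ K₀ := by
    intro g
    have h := h6 {(⟨detChar θ, hirr⟩ : IrrCharacter G)} (fun _ => 1)
      (fun _ _ => K₀.one_mem) (fun k hk g => by
        simp only [Finset.sum_singleton, one_mul]
        exact hpow k hk g) g
    simpa only [Finset.sum_singleton, one_mul] using h
  -- exponents prime to `p`
  have hr : ∀ g : G, ∃ r : ℕ, ¬ p ∣ r ∧ detChar θ g ^ r = 1 := fun g =>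
    hK₀ _ (hmem g) (Nat.card G) Nat.card_pos (hlin.pow_card_eq_one g)
  choose r hr1 hr2 using hr
  have hR : detChar θ ^ (∏ g : G, r g) = 1 := by
    funext g
    rw [Pi.pow_apply, Pi.one_apply]
    obtain ⟨c, hc⟩ := Finset.dvd_prod_of_mem r (Finset.mem_univ g)
    rw [hc, pow_mul, hr2, one_pow]
  have hdvd : detOrder θ ∣ ∏ g : G, r g := orderOf_dvd_of_pow_eq_one hR
  intro hp
  have h1 : p ∣ ∏ g : G, r g := hp.trans hdvd
  obtain ⟨g, -, hg⟩ := (Prime.dvd_finsetProd_iff hpp.prime _).1 h1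
  exact hr1 g hg

end Cfsg.Agent.Lib.Helper55_PR_DETK
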