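/-
S4892 package PR-GAL (architect: helper78): Galois descent from power-map invariance.
An irreducible character fixed by every power map that fixes its restriction to `N`,
with `K₀`-valued restriction to `N`, is `K₀`-valued.
-/
import Mathlib
import Cfsg.Prelude.Def_Characters
import Cfsg.Agent.Lib.Helper75_GalDescent

set_option autoImplicit false

namespace Cfsg.Agent.Lib.Helper55_PR_GAL

open Cfsg Cfsg.Agent.Lib.Helper75_GalDescent

universe u

theorem values_mem_of_powMap_fixed {G : Type u} [Group G] [Finite G] (K₀ : Subfield ℂ)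
    (N : Subgroup G) (χ : G → ℂ) (hχ : IsIrrCharacter G χ) (hN : ∀ n : N, χ n ∈ K₀)
    (hfix : ∀ k : ℕ, k.Coprime (Nat.card G) → (∀ n : N, χ ((n : G) ^ k) = χ n) →
      ∀ g : G, χ (g ^ k) = χ g) :
    ∀ g, χ g ∈ K₀ := by
  have hne : NeZero (Nat.card G) := ⟨Nat.card_pos.ne'⟩
  obtain ⟨f, hf, hfσ⟩ := exists_lift_of_isCharacter K₀ (isCharacter_of_isIrr hχ)
  -- per-element invariance for elements with value in `K₀`
  have hstep : ∀ k ∈ galPowers K₀ (Nat.card G), ∀ g : G, χ g ∈ K₀ → χ (g ^ k) = χ g := by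
    intro k hk g hg
    obtain ⟨σ, hσ⟩ := hk
    rw [← hfσ σ k hσ g]
    have h1 : f g = algebraMap K₀ (cycK K₀ (Nat.card G)) ⟨χ g, hg⟩ := by
      apply Subtype.ext
      rw [hf]
      rfl
    rw [h1, AlgEquiv.commutes, ← h1, hf]
  have hall : ∀ k ∈ galPowers K₀ (Nat.card G), ∀ g : G, χ (g ^ k) = χ g := by
    intro k hk
    exact hfix k (coprime_of_mem_galPowers K₀ _ hk) (fun n => hstep k hk (n : G) (hN n))
  intro g
  have hfixed : ∀ σ : cycK K₀ (Nat.card G) ≃ₐ[K₀] cycK K₀ (Nat.card G), σ (f g) = f g := by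
    intro σ
    obtain ⟨m, hm, hσ⟩ := exists_mem_galPowers K₀ (Nat.card G) σ
    apply Subtype.ext
    rw [hfσ σ m hσ g, hall m hm g, hf]
  have hbot := (IsGalois.mem_bot_iff_fixed (F := K₀) (f g)).mpr hfixed
  obtain ⟨q, hq⟩ := IntermediateField.mem_bot.mp hbot
  rw [← hf, ← hq]
  exact q.2

end Cfsg.Agent.Lib.Helper55_PR_GAL
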