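import Cfsg.Agent.Lib.Helper50_PUDefs
import Cfsg.Agent.Lib.Helper1_LocalZJ

/-!
# Package NNORMAL of the market `pu_packages` (helper50, S2768 / S2769 / S2770)

`⁅Y, S⁆ = ⁅Y ⊔ V, Q⁆` is normal and lies in `Y`.
-/

set_option autoImplicit false
set_option linter.unusedVariables false
set_option linter.unusedSectionVars false
set_option linter.deprecated false

namespace Cfsg.Agent.Lib.Helper55_PU_NNORMAL

open scoped commutatorElement
open Cfsg.Agent.Lib.Helper50_PUDefs Cfsg.Agent.Lib.Helper51_Offender Cfsg.Agent.Lib.Helper72_AbelianJ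

section General

variable {G : Type*} [Group G]

theorem comm_mul_left (x v a : G) : ⁅x * v, a⁆ = x * ⁅v, a⁆ * x⁻¹ * ⁅x, a⁆ := by
  simp only [commutatorElement_def]; group

theorem comm_mul_right' (g a c : G) : ⁅g, a * c⁆ = ⁅g, a⁆ * ⁅a * g * a⁻¹, a * c * a⁻¹⁆ := by
  simp only [commutatorElement_def]; group

end General

section Main

variable {G : Type*} [Group G] [Finite G] {p : ℕ} [Fact p.Prime] {S : Sylow p G}

local notation "Q" => Cfsg.pCore p G
local notation "V" => VS (S : Subgroup G)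
local notation "Z" => ZS (S : Subgroup G)
local notation "J" => JS (S : Subgroup G)
local notation "Y" => YS (S : Subgroup G)
local notation "B" => BS (S : Subgroup G)
local notation "ZD" => YS (Cfsg.pCore p G)
local notation "LJ" => Subgroup.normalClosure ((JS (S : Subgroup G) : Subgroup G) : Set G)
local notation "Q₀" => Cfsg.pCore p G ⊓ Subgroup.centralizer ((YS (S : Subgroup G) : Subgroup G) : Set G)

-- PKG NNORMAL
theorem n_normal (h : MainCase p S) (hvb : VBasic p S) (hJQ : J ⊔ Q = (S : Subgroup G))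
    (hYZD : Y ≤ ZD) (hVZD : V ≤ ZD) (hzdc : IsMulCommutative ZD) (hR : (Y ⊔ V).Normal) :
    ⁅Y, (S : Subgroup G)⁆ = ⁅Y ⊔ V, Q⁆ ∧ (⁅Y, (S : Subgroup G)⁆).Normal ∧
      ⁅Y, (S : Subgroup G)⁆ ≤ Y := by
  have hVn : (V).Normal := Subgroup.normalClosure_normal
  have hQn : (Q).Normal := hvb.core_normal
  have hQS : Q ≤ (S : Subgroup G) := hvb.core_le
  -- `⁅Y, S⁆ ≤ ⁅Y, Q⁆`
  have key1 : ⁅Y, (S : Subgroup G)⁆ ≤ ⁅Y, Q⁆ := by
    rw [Subgroup.commutator_le]
    intro y hy s hs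
    rw [← hJQ, Subgroup.mem_sup_of_normal_right] at hs
    obtain ⟨j, hj, u, hu, rfl⟩ := hs
    have hyc : y ∈ Subgroup.centralizer ((J : Subgroup G) : Set G) := hy.2
    have h1 : j * y = y * j := Subgroup.mem_centralizer_iff.mp hyc j hj
    have h2 : ⁅y, j⁆ = 1 := by
      rw [commutatorElement_eq_one_iff_mul_comm]; exact h1.symm
    have h3 : j * y * j⁻¹ = y := by rw [h1]; group
    rw [comm_mul_right', h2, one_mul, h3]
    exact Subgroup.commutator_mem_commutator hy (hQn.conj_mem u hu j)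
  -- `⁅Y ⊔ V, Q⁆ ≤ ⁅Y, Q⁆`
  have key2 : ⁅Y ⊔ V, Q⁆ ≤ ⁅Y, Q⁆ := by
    rw [Subgroup.commutator_le]
    intro w hw u hu
    rw [Subgroup.mem_sup_of_normal_right] at hw
    obtain ⟨y, hy, v, hv, rfl⟩ := hw
    have huc : u ∈ Subgroup.centralizer ((V : Subgroup G) : Set G) := hvb.cent hu
    have h1 : v * u = u * v := Subgroup.mem_centralizer_iff.mp huc v hv
    have h2 : ⁅v, u⁆ = 1 := by
      rw [commutatorElement_eq_one_iff_mul_comm]; exact h1
    rw [comm_mul_left, h2, mul_one, mul_inv_cancel, one_mul]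
    exact Subgroup.commutator_mem_commutator hy hu
  have e1 : ⁅Y, (S : Subgroup G)⁆ = ⁅Y, Q⁆ :=
    le_antisymm key1 (Subgroup.commutator_mono le_rfl hQS)
  have e2 : ⁅Y ⊔ V, Q⁆ = ⁅Y, Q⁆ :=
    le_antisymm key2 (Subgroup.commutator_mono le_sup_left le_rfl)
  have e3 : ⁅Y, (S : Subgroup G)⁆ = ⁅Y ⊔ V, Q⁆ := e1.trans e2.symm
  refine ⟨e3, ?_, ?_⟩
  · rw [e3]
    exact Subgroup.commutator_normal (Y ⊔ V) Q
  · have hSp : IsPGroup p (S : Subgroup G) := S.isPGroup'
    have hN : (S : Subgroup G) ≤ Subgroup.normalizer ((Y : Subgroup G) : Set G) :=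
      Subgroup.le_normalizer.trans
        (Cfsg.Agent.Lib.Helper1_LocalZJ.normalizer_le_normalizer_zj hSp)
    rw [Subgroup.commutator_le]
    intro y hy s hs
    have h1 : s * y⁻¹ * s⁻¹ ∈ Y :=
      (Subgroup.mem_normalizer_iff.mp (hN hs) y⁻¹).mp (Subgroup.inv_mem _ hy)
    have h2 : ⁅y, s⁆ = y * (s * y⁻¹ * s⁻¹) := by
      rw [commutatorElement_def]; group
    rw [h2]
    exact Subgroup.mul_mem _ hy h1

end Main

end Cfsg.Agent.Lib.Helper55_PU_NNORMAL
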