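import Mathlib
import Cfsg.Agent.Lib.Helper55_QDCases

/-!
The local indices `|N(T) : C(T)|` and `|N(Q) : Q C(Q)|` in a finite group with a quasi-dihedral
Sylow `2`-subgroup are `2` or `6` (helper55): an orbit count for the conjugation action of a
subgroup on subsets.
-/

set_option autoImplicit false
set_option linter.unusedSectionVars false

namespace Cfsg.Agent.Lib.Helper55_QDFusion

open Subgroup Cfsg.Agent.Lib.Helper86_QuasiDihedral Cfsg.Agent.Lib.Helper55_QDCoord

/-- the conjugation action of a subgroup on subsets -/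
@[instance_reducible]
def conjSetAction {G : Type*} [Group G] (N : Subgroup G) : MulAction N (Set G) where
  smul n A := (fun x => (n : G) * x * (n : G)⁻¹) '' A
  one_smul A := by
    show (fun x => ((1 : N) : G) * x * ((1 : N) : G)⁻¹) '' A = A
    simp
  mul_smul a b A := by
    show (fun x => ((a * b : N) : G) * x * ((a * b : N) : G)⁻¹) '' A =
      (fun x => (a : G) * x * (a : G)⁻¹) '' ((fun x => (b : G) * x * (b : G)⁻¹) '' A)
    rw [Set.image_image]
    congr 1
    funext x
    rw [Subgroup.coe_mul]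
    group

/-- a subgroup `N₀` which is the stabilizer in `N` of a subset with an orbit of length three has
relative index three -/
theorem relIndex_eq_three_of_orbit {G : Type*} [Group G] {N N₀ : Subgroup G} (A B C : Set G)
    (hAB : A ≠ B) (hAC : A ≠ C) (hBC : B ≠ C)
    (hstab : ∀ n ∈ N, n ∈ N₀ ↔ (fun x => n * x * n⁻¹) '' A = A)
    (horb : ∀ n ∈ N, (fun x => n * x * n⁻¹) '' A = A ∨ (fun x => n * x * n⁻¹) '' A = B ∨
      (fun x => n * x * n⁻¹) '' A = C)
    (hB : ∃ n ∈ N, (fun x => n * x * n⁻¹) '' A = B)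
    (hC : ∃ n ∈ N, (fun x => n * x * n⁻¹) '' A = C) : N₀.relIndex N = 3 := by
  letI := conjSetAction N
  have h1 := MulAction.index_stabilizer N A
  have h2 : MulAction.stabilizer N A = N₀.subgroupOf N := by
    ext n
    rw [MulAction.mem_stabilizer_iff, mem_subgroupOf, hstab n n.2]
    rfl
  have h3 : MulAction.orbit N A = {A, B, C} := by
    ext D
    rw [MulAction.mem_orbit_iff]
    constructor
    · rintro ⟨n, rfl⟩
      rcases horb n n.2 with h | h | h
      · left; exact h
      · right; left; exact h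
      · right; right; exact h
    · rintro (rfl | rfl | rfl)
      · exact ⟨1, one_smul _ _⟩
      · obtain ⟨n, hn, h⟩ := hB
        exact ⟨⟨n, hn⟩, h⟩
      · obtain ⟨n, hn, h⟩ := hC
        exact ⟨⟨n, hn⟩, h⟩
  unfold relIndex
  rw [← h2, h1, h3]
  exact Set.ncard_eq_three.mpr ⟨A, B, C, hAB, hAC, hBC, rfl⟩

variable {G : Type*} [Group G] [Finite G] {S : Sylow 2 G} {K : ℕ} [NeZero K]
  (e : QD K ≃* ↥(S : Subgroup G))

/-- with `TF`, the stabilizer of `z` has index three in `N(T)` -/
theorem relIndex_T_stab_of_TF (i : ZMod (8 * K)) (hi : par K i = 0) (h : TF e) :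
    (normalizer (Tsub e i : Set G) ⊓ centralizer {X e (hh K)}).relIndex
      (normalizer (Tsub e i : Set G)) = 3 := by
  obtain ⟨g, hgN, hgz, hgt⟩ := exists_three_cycle_T e i hi h
  have hne : Y e i ≠ Y e (i + hh K) := by
    intro h'
    have := Y_injective e h'
    have h0 : hh K = 0 := by linear_combination -this
    exact hh_ne_zero K h0
  apply relIndex_eq_three_of_orbit {X e (hh K)} {Y e i} {Y e (i + hh K)}
  · intro h'
    exact z_ne_Y e i (Set.singleton_injective h')
  · intro h'
    exact z_ne_Y e _ (Set.singleton_injective h')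
  · intro h'
    exact hne (Set.singleton_injective h')
  · intro n hn
    rw [Set.image_singleton]
    constructor
    · rintro ⟨-, h2⟩
      have h3 : n * X e (hh K) * n⁻¹ = X e (hh K) := by
        rw [conj_eq_iff_comm]
        exact (mem_centralizer_iff.mp h2 _ rfl).symm
      rw [h3]
    · intro h2
      have h3 := Set.singleton_injective h2
      refine ⟨hn, ?_⟩
      show n ∈ centralizer {X e (hh K)}
      rw [mem_centralizer_iff]
      intro y hy
      rw [Set.mem_singleton_iff] at hy
      rw [hy]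
      exact (conj_eq_iff_comm.mp h3).symm
  · intro n hn
    rw [Set.image_singleton]
    have hmem : n * X e (hh K) * n⁻¹ ∈ Tsub e i :=
      (mem_normalizer_iff.mp hn _).mp (z_mem_Tsub e i)
    rcases (mem_Tsub' e i _).mp hmem with h1 | h1 | h1 | h1
    · exfalso
      apply z_ne_one e
      have : n⁻¹ * (n * X e (hh K) * n⁻¹) * n = 1 := by rw [h1]; group
      rw [← this]; group
    · left; rw [h1]
    · right; left; rw [h1]
    · right; right; rw [h1]
  · exact ⟨g, hgN, by rw [Set.image_singleton, hgz]⟩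
  · refine ⟨g * g, mul_mem hgN hgN, ?_⟩
    rw [Set.image_singleton]
    have : g * g * X e (hh K) * (g * g)⁻¹ = g * (g * X e (hh K) * g⁻¹) * g⁻¹ := by group
    rw [this, hgz, hgt]

/-- with `QF`, the stabilizer of `⟨u⟩` has index three in `N(Q)` -/
theorem relIndex_Q_stab_of_QF (hq : ∀ j, par K j = 1 → Nonempty (Qsub e j ≃* QuaternionGroup 2))
    (i : ZMod (8 * K)) (hi : par K i = 1) (h : QF e) :
    (normalizer (Qsub e i : Set G) ⊓ normalizer (zpowers (X e (QD.qq K)) : Set G)).relIndex
      (normalizer (Qsub e i : Set G)) = 3 := by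
  obtain ⟨g, hgN, hgu, hgv⟩ := exists_three_cycle_Q e hq i hi h
  have hinv : ∀ n w : G, n * w⁻¹ * n⁻¹ = (n * w * n⁻¹)⁻¹ := fun n w => by group
  -- images of the pair `{u, u⁻¹}`
  have himg : ∀ n : G, (fun x => n * x * n⁻¹) '' {X e (QD.qq K), (X e (QD.qq K))⁻¹} =
      {n * X e (QD.qq K) * n⁻¹, (n * X e (QD.qq K) * n⁻¹)⁻¹} := by
    intro n
    rw [Set.image_pair, hinv]
  -- a pair `{a, a⁻¹}` is determined by one of its elements
  have hpair : ∀ a b : G, a = b ∨ a = b⁻¹ → ({a, a⁻¹} : Set G) = {b, b⁻¹} := by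
    rintro a b (rfl | rfl)
    · rfl
    · rw [inv_inv, Set.pair_comm]
  have hmemp : ∀ a b : G, ({a, a⁻¹} : Set G) = {b, b⁻¹} → a = b ∨ a = b⁻¹ := by
    intro a b hab
    have : a ∈ ({b, b⁻¹} : Set G) := by rw [← hab]; exact Set.mem_insert _ _
    exact this
  have hp1 : par K (i + QD.qq K) = 1 := by rw [map_add, hi, QD.par_qq, add_zero]
  apply relIndex_eq_three_of_orbit {X e (QD.qq K), (X e (QD.qq K))⁻¹} {Y e i, (Y e i)⁻¹}
    {Y e (i + QD.qq K), (Y e (i + QD.qq K))⁻¹}
  · intro h'
    have := hmemp _ _ h'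
    exact not_inU_inV e i (inU_u e) ((inV_iff e i hi _).mpr this)
  · intro h'
    have := hmemp _ _ h'
    exact not_inU_inW e i (inU_u e) ((inW_iff e i hi _).mpr this)
  · intro h'
    have := hmemp _ _ h'
    exact not_inV_inW e i ((inV_iff e i hi _).mpr (Or.inl rfl)) ((inW_iff e i hi _).mpr this)
  · intro n hn
    rw [himg]
    constructor
    · rintro ⟨-, h2⟩
      have h3 : n ∈ normalizer (zpowers (X e (QD.qq K)) : Set G) := h2
      rw [mem_normalizer_zpowers_u, inU_iff] at h3
      exact hpair _ _ h3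
    · intro h2
      refine ⟨hn, ?_⟩
      show n ∈ normalizer (zpowers (X e (QD.qq K)) : Set G)
      rw [mem_normalizer_zpowers_u, inU_iff]
      exact hmemp _ _ h2
  · intro n hn
    rw [himg]
    have hmem : n * X e (QD.qq K) * n⁻¹ ∈ Qsub e i :=
      (mem_normalizer_iff.mp hn _).mp (u_mem_Qsub e i)
    have ho : orderOf (n * X e (QD.qq K) * n⁻¹) = 4 := by rw [orderOf_conj, orderOf_X_qq]
    rcases Qsub_order_four e i hi hmem ho with h1 | h1 | h1
    · left; exact hpair _ _ ((inU_iff e _).mp h1)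
    · right; left; exact hpair _ _ ((inV_iff e i hi _).mp h1)
    · right; right; exact hpair _ _ ((inW_iff e i hi _).mp h1)
  · exact ⟨g, hgN, by rw [himg]; exact hpair _ _ ((inV_iff e i hi _).mp hgu)⟩
  · refine ⟨g * g, mul_mem hgN hgN, ?_⟩
    rw [himg]
    apply hpair
    rw [← inW_iff e i hi]
    have : g * g * X e (QD.qq K) * (g * g)⁻¹ = g * (g * X e (QD.qq K) * g⁻¹) * g⁻¹ := by group
    rw [this]
    rcases (inV_iff e i hi _).mp hgu with h1 | h1
    · rw [h1]; exact hgv
    · rw [h1, hinv]; exact inW_inv e i hi hgv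

/-- `|N(T) : C(T)|` is `2` or `6` -/
theorem relIndex_T_two_or_six (i : ZMod (8 * K)) (hi : par K i = 0) :
    (centralizer (Tsub e i : Set G)).relIndex (normalizer (Tsub e i : Set G)) = 2 ∨
    (centralizer (Tsub e i : Set G)).relIndex (normalizer (Tsub e i : Set G)) = 6 := by
  by_cases h : TF e
  · right
    rw [relIndex_T e i hi, relIndex_T_stab_of_TF e i hi h]
  · left
    exact (relIndex_T_eq_two_iff e i hi).mpr h

/-- `|N(Q) : Q C(Q)|` is `2` or `6` -/
theorem relIndex_Q_two_or_six (hq : ∀ j, par K j = 1 → Nonempty (Qsub e j ≃* QuaternionGroup 2))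
    (i : ZMod (8 * K)) (hi : par K i = 1) :
    (Qsub e i ⊔ centralizer (Qsub e i : Set G)).relIndex (normalizer (Qsub e i : Set G)) = 2 ∨
    (Qsub e i ⊔ centralizer (Qsub e i : Set G)).relIndex (normalizer (Qsub e i : Set G)) = 6 := by
  by_cases h : QF e
  · right
    rw [relIndex_Q e i hi, relIndex_Q_stab_of_QF e hq i hi h]
  · left
    exact (relIndex_Q_eq_two_iff e hq i hi).mpr h

end Cfsg.Agent.Lib.Helper55_QDFusion
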