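import Mathlib
import Cfsg.Agent.Lib.Helper94_Herm
import Cfsg.Agent.Lib.Helper94_HermTrans
import Cfsg.Agent.Lib.Helper94_HermEich
import Cfsg.Agent.Lib.Helper94_HermPara
import Cfsg.Agent.Lib.Helper94_HermWitt
import Cfsg.Agent.Lib.Helper94_HermIrr
import Cfsg.Agent.Lib.Helper13_SUGen
import Cfsg.Agent.Lib.Helper33_U2Defs
import Cfsg.Agent.Lib.Helper33_U2Geo
import Cfsg.Agent.Lib.Helper33_S2153_F4
import Cfsg.Agent.Lib.Helper27_UQ_KISO
import Cfsg.Agent.Lib.Helper9_S2151_CNT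

/-!
# S2153 package GATT (architect helper33): the index of the stabiliser of a norm-one point in `tvGroup B U`
over the field with four elements.
-/

set_option autoImplicit false

open Module Cfsg.Agent.Lib.Helper94_Symp Cfsg.Agent.Lib.Helper94_Herm
  Cfsg.Agent.Lib.Helper94_HermTrans Cfsg.Agent.Lib.Helper94_HermEich
  Cfsg.Agent.Lib.Helper13_SUGen
  Cfsg.Agent.Lib.Helper33_U2Defs Cfsg.Agent.Lib.Helper33_U2Geo

namespace Cfsg.Agent.Lib.Helper55_S2153_GATT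

variable {F V : Type*} [Field F] [Fintype F] [AddCommGroup V] [Module F V] [FiniteDimensional F V]
variable {σ : F →+* F} {B : V →ₗ[F] V →ₛₗ[σ] F}

/-- pure arithmetic: solving `Helper9_S2151_CNT.PB` at `q = 2`, `n = 2m` -/
theorem arith (m c : ℕ) (hm : 1 ≤ m) (h : 2 * c + 2 ^ (2 * m) = 2 ^ (2 * (2 * m)) + 0) :
    c = 2 ^ (2 * m - 1) * (2 ^ (2 * m) - 1) := by
  obtain ⟨j, rfl⟩ : ∃ j, m = j + 1 := ⟨m - 1, by omega⟩
  obtain ⟨P, hP⟩ : ∃ P, P = 2 ^ (2 * j + 1) := ⟨_, rfl⟩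
  have hP1 : 1 ≤ P := by rw [hP]; exact Nat.one_le_two_pow
  have e1 : 2 ^ (2 * (j + 1)) = 2 * P := by rw [hP]; ring
  have e2 : 2 ^ (2 * (2 * (j + 1))) = 4 * P * P := by rw [hP]; ring
  have e5 : 2 * (j + 1) - 1 = 2 * j + 1 := by omega
  rw [e1, e2] at h
  rw [e1, e5, ← hP]
  obtain ⟨P', rfl⟩ : ∃ P', P = P' + 1 := ⟨P - 1, by omega⟩
  have e6 : 2 * (P' + 1) - 1 = 2 * P' + 1 := by omega
  rw [e6]
  nlinarith

theorem GATT (hF : Fintype.card F = 4) (hσ : Invol σ) (hB : IsHerm B) {U : Submodule F V}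
    (hU : NondegOn B U) (m : ℕ) (hm : 2 ≤ m) (hdim : finrank F U = 2 * m) {x : V} (hxU : x ∈ U)
    (hx : B x x = 1) :
    (tvGroup B U ⊓ stab (Submodule.span F {x})).relIndex (tvGroup B U) * 3 =
      2 ^ (2 * m - 1) * (2 ^ (2 * m) - 1) := by
  classical
  have hF' : Nat.card F = 2 ^ 2 := by rw [Nat.card_eq_fintype_card, hF]; norm_num
  have hVfin : Finite V := Module.finite_of_finite F
  have hnorm : ∀ a : F, a ≠ 0 → a * σ a = 1 := (Cfsg.Agent.Lib.Helper33_S2153_F4.F4 hF hσ).2.2.2.1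
  have hx0 : x ≠ 0 := by
    intro h0
    rw [h0] at hx
    simp at hx
  have h4 : 4 ≤ finrank F U := by omega
  -- the count of norm-one vectors
  have hcnt := (Cfsg.Agent.Lib.Helper9_S2151_CNT.aux hσ hF' (2 * m) ↥U
    (Cfsg.Agent.Lib.Helper27_UQ_KISO.Bw B U) (Cfsg.Agent.Lib.Helper27_UQ_KISO.isHerm_Bw hB U)
    (Cfsg.Agent.Lib.Helper27_UQ_KISO.nondeg_Bw hU) hdim).2 1 (map_one σ) one_ne_zero
  unfold Cfsg.Agent.Lib.Helper9_S2151_CNT.PB at hcnt
  rw [if_pos (even_two_mul m), if_pos (even_two_mul m)] at hcnt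
  rw [← arith m _ (by omega) hcnt]
  -- the bijection
  obtain ⟨H', hH'⟩ : ∃ H' : Subgroup ↥(tvGroup B U),
      H' = (tvGroup B U ⊓ stab (Submodule.span F {x})).subgroupOf (tvGroup B U) := ⟨_, rfl⟩
  have hmemH : ∀ g : ↥(tvGroup B U), g ∈ H' ↔ ∃ b : F, (g : V ≃ₗ[F] V) x = b • x := by
    intro g
    rw [hH', Subgroup.mem_subgroupOf, Subgroup.mem_inf]
    constructor
    · rintro ⟨-, hg⟩
      have h1 := (mem_stab.mp hg x).mp (Submodule.mem_span_singleton_self x)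
      obtain ⟨b, hb⟩ := Submodule.mem_span_singleton.mp h1
      exact ⟨b, hb.symm⟩
    · rintro ⟨b, hb⟩
      refine ⟨g.2, mem_stab_of_forall_mem ?_⟩
      intro v hv
      obtain ⟨t, rfl⟩ := Submodule.mem_span_singleton.mp hv
      rw [map_smul, hb, smul_smul]
      exact Submodule.mem_span_singleton.mpr ⟨_, rfl⟩
  have hindex : (tvGroup B U ⊓ stab (Submodule.span F {x})).relIndex (tvGroup B U) =
      Nat.card (↥(tvGroup B U) ⧸ H') := by
    rw [hH']; rfl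
  have hUnits : Nat.card Fˣ = 3 := by
    rw [Nat.card_units, Nat.card_eq_fintype_card, hF]
  rw [hindex, ← hUnits, ← Nat.card_prod]
  apply Nat.card_congr
  have hgx : ∀ g : ↥(tvGroup B U), B ((g : V ≃ₗ[F] V) x) ((g : V ≃ₗ[F] V) x) = 1 := by
    intro g
    rw [tvGroup_le_uG hB U g.2 x x, hx]
  refine Equiv.ofBijective
    (fun p : (↥(tvGroup B U) ⧸ H') × Fˣ =>
      (⟨⟨(p.2 : F) • ((Quotient.out p.1 : ↥(tvGroup B U)) : V ≃ₗ[F] V) x,
          U.smul_mem _ (tvGroup_map_mem (Quotient.out p.1 : ↥(tvGroup B U)).2 x hxU)⟩, by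
        show B ((p.2 : F) • ((Quotient.out p.1 : ↥(tvGroup B U)) : V ≃ₗ[F] V) x)
          ((p.2 : F) • ((Quotient.out p.1 : ↥(tvGroup B U)) : V ≃ₗ[F] V) x) = 1
        rw [self_smul, hgx, mul_one]
        exact hnorm _ p.2.ne_zero⟩ :
        {y : ↥U // Cfsg.Agent.Lib.Helper27_UQ_KISO.Bw B U y y = 1})) ⟨?_, ?_⟩
  · rintro ⟨c, a⟩ ⟨c', a'⟩ hcc
    have h1 : (a : F) • ((Quotient.out c : ↥(tvGroup B U)) : V ≃ₗ[F] V) x =
        (a' : F) • ((Quotient.out c' : ↥(tvGroup B U)) : V ≃ₗ[F] V) x :=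
      congrArg (fun y : {y : ↥U // Cfsg.Agent.Lib.Helper27_UQ_KISO.Bw B U y y = 1} => ((y : ↥U) : V)) hcc
    have h2 : (((Quotient.out c')⁻¹ * Quotient.out c : ↥(tvGroup B U)) : V ≃ₗ[F] V) x =
        ((a : F)⁻¹ * (a' : F)) • x := by
      have h3 : ((Quotient.out c : ↥(tvGroup B U)) : V ≃ₗ[F] V) x =
          ((a : F)⁻¹ * (a' : F)) • ((Quotient.out c' : ↥(tvGroup B U)) : V ≃ₗ[F] V) x := by
        rw [mul_smul, ← h1, smul_smul, inv_mul_cancel₀ a.ne_zero, one_smul]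
      rw [Subgroup.coe_mul, LinearEquiv.mul_apply, h3, map_smul, Subgroup.coe_inv]
      congr 1
      rw [← LinearEquiv.mul_apply, inv_mul_cancel]
      rfl
    have h4 : (Quotient.out c')⁻¹ * Quotient.out c ∈ H' := (hmemH _).mpr ⟨_, h2⟩
    have h5 : c' = c := by
      rw [← Quotient.out_eq' c', ← Quotient.out_eq' c]
      exact QuotientGroup.eq.mpr h4
    subst h5
    have h6 : ((a : F) - (a' : F)) • ((Quotient.out c' : ↥(tvGroup B U)) : V ≃ₗ[F] V) x = 0 := by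
      rw [sub_smul, h1, sub_self]
    rcases smul_eq_zero.mp h6 with h7 | h7
    · have : a = a' := Units.ext (sub_eq_zero.mp h7)
      rw [this]
    · exact absurd ((LinearEquiv.map_eq_zero_iff _).mp h7) hx0
  · rintro ⟨⟨y, hyU⟩, hy⟩
    have hy1 : B y y = 1 := hy
    obtain ⟨t, ht, hty⟩ := Cfsg.Agent.Lib.Helper94_HermWitt.exists_tv_aniso hσ hB hU h4 hxU hyU (by rw [hx]; exact one_ne_zero)
      (by rw [hy1, hx])
    obtain ⟨c, hc⟩ : ∃ c : ↥(tvGroup B U) ⧸ H', c = QuotientGroup.mk ⟨t, ht⟩ := ⟨_, rfl⟩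
    have h1 : (Quotient.out c)⁻¹ * ⟨t, ht⟩ ∈ H' := by
      apply QuotientGroup.eq.mp
      rw [← hc]
      exact Quotient.out_eq' c
    obtain ⟨b, hb⟩ := (hmemH _).mp h1
    have hb0 : b ≠ 0 := by
      intro h0
      rw [h0, zero_smul] at hb
      exact hx0 ((LinearEquiv.map_eq_zero_iff _).mp hb)
    have h2 : y = b • ((Quotient.out c : ↥(tvGroup B U)) : V ≃ₗ[F] V) x := by
      rw [← map_smul, ← hb, Subgroup.coe_mul, LinearEquiv.mul_apply, Subgroup.coe_inv]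
      show y = ((Quotient.out c : ↥(tvGroup B U)) : V ≃ₗ[F] V)
        ((((Quotient.out c : ↥(tvGroup B U)) : V ≃ₗ[F] V))⁻¹ (t x))
      rw [← LinearEquiv.mul_apply, mul_inv_cancel, hty]
      rfl
    refine ⟨(c, Units.mk0 b hb0), ?_⟩
    apply Subtype.ext
    apply Subtype.ext
    exact h2.symm

end Cfsg.Agent.Lib.Helper55_S2153_GATT
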