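import Mathlib
import Cfsg.Agent.Lib.Helper77_SLnDefs
import Cfsg.Prelude.Def_Characters

/-!
# S2332 package AVG (architect helper77): the sum of the traces over a root group is `|F|` times a natural number
-/

set_option autoImplicit false
open Matrix Cfsg.Agent.Lib.Helper5_Transv Cfsg.Agent.Lib.Helper77_SLnDefs

namespace Cfsg.Agent.Lib.Helper55_S2332_AVG

variable {F : Type*} [Field F] [Fintype F] [DecidableEq F] {κ : Type} [Fintype κ] [DecidableEq κ]
  {V : Type} [AddCommGroup V] [Module ℂ V] [FiniteDimensional ℂ V]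

theorem sum_trace_rootEl {X : Type*} [AddCommGroup X] [Module ℂ X] [FiniteDimensional ℂ X]
    (σ : Representation ℂ (Matrix.SpecialLinearGroup κ F) X) (j k : κ) (hjk : j ≠ k) :
    ∃ d : ℕ, ∑ t : F, LinearMap.trace ℂ X (σ (rootEl j k hjk t)) = (Fintype.card F : ℂ) * d := by
  classical
  let φ : Multiplicative F →* Matrix.SpecialLinearGroup κ F :=
    { toFun := fun t => rootEl j k hjk (Multiplicative.toAdd t)
      map_one' := tvS_zero _ _ _
      map_mul' := fun a b => (tvS_add _ _ _ _ _).symm }
  let τ : Representation ℂ (Multiplicative F) X := σ.comp φ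
  have hcard : Nat.card (Multiplicative F) = Fintype.card F := by
    rw [Nat.card_eq_fintype_card, Fintype.card_multiplicative]
  have hN : (Nat.card (Multiplicative F) : ℂ) ≠ 0 := by
    rw [hcard, Nat.cast_ne_zero]; exact Fintype.card_ne_zero
  have : Invertible (Nat.card (Multiplicative F) : ℂ) := invertibleOfNonzero hN
  have h := Representation.card_inv_mul_sum_char_eq_finrank τ
  refine ⟨Module.finrank ℂ (Representation.invariants τ), ?_⟩
  rw [← h, ← mul_assoc, hcard, mul_inv_cancel₀ (by rw [← hcard]; exact hN), one_mul]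
  exact (Fintype.sum_equiv Multiplicative.ofAdd _ _ (fun t => rfl))

end Cfsg.Agent.Lib.Helper55_S2332_AVG
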