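import Mathlib
import Cfsg.Agent.Lib.Helper77_SLnDefs
import Cfsg.Prelude.Def_Characters

/-!
# S2332 package WSNUM (architect helper77): the numerical weight data from the weight decomposition
-/

set_option autoImplicit false
open Matrix Cfsg.Agent.Lib.Helper5_Transv Cfsg.Agent.Lib.Helper77_SLnDefs

namespace Cfsg.Agent.Lib.Helper55_S2332_WSNUM

variable {F : Type*} [Field F] [Fintype F] [DecidableEq F] {κ : Type} [Fintype κ] [DecidableEq κ]
  {V : Type} [AddCommGroup V] [Module ℂ V] [FiniteDimensional ℂ V]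

/-- the Levi complement maps weight spaces injectively -/
theorem finrank_wsp_le (ρ : Representation ℂ (Matrix.SpecialLinearGroup (Unit ⊕ κ) F) V)
    (ψ : AddChar F ℂ) (A : Matrix.SpecialLinearGroup κ F) (a : κ → F) :
    Module.finrank ℂ (wsp ρ ψ a) ≤ Module.finrank ℂ (wsp ρ ψ (A.1 *ᵥ a)) := by
  let L : wsp ρ ψ a →ₗ[ℂ] wsp ρ ψ (A.1 *ᵥ a) :=
    (ρ (emb A)).restrict (fun w hw => wsp_emb ρ ψ A a w hw)
  apply LinearMap.finrank_le_finrank_of_injective (f := L)
  intro x y hxy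
  have h1 : ρ (emb A) (x : V) = ρ (emb A) (y : V) := congrArg Subtype.val hxy
  have h2 : ∀ z : V, ρ (emb A)⁻¹ (ρ (emb A) z) = z := by
    intro z
    rw [← Module.End.mul_apply, ← map_mul, inv_mul_cancel, map_one, Module.End.one_apply]
  apply Subtype.ext
  rw [← h2 (x : V), h1, h2]

/-- the sum of a nontrivial character of `F` along a nonzero covector vanishes -/
theorem sum_psi_dot (ψ : AddChar F ℂ) (hψ : ψ ≠ 1) (u : κ → F) (hu : u ≠ 0) :
    ∑ v : κ → F, ψ (u ⬝ᵥ v) = 0 := by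
  let f : (κ → F) →+ F :=
    { toFun := fun v => u ⬝ᵥ v
      map_zero' := dotProduct_zero u
      map_add' := fun a b => dotProduct_add u a b }
  have hχ : ψ.compAddMonoidHom f ≠ 1 := by
    obtain ⟨a, ha⟩ := AddChar.ne_one_iff.mp hψ
    obtain ⟨i, hi⟩ : ∃ i, u i ≠ 0 := by
      by_contra hcon
      push Not at hcon
      exact hu (funext hcon)
    rw [AddChar.ne_one_iff]
    refine ⟨Pi.single i (a / u i), ?_⟩
    rw [AddChar.compAddMonoidHom_apply]
    show ψ (u ⬝ᵥ Pi.single i (a / u i)) ≠ 1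
    rw [dotProduct_single, mul_div_cancel₀ _ hi]
    exact ha
  exact AddChar.sum_eq_zero_of_ne_one hχ

theorem exists_wdata (hκ : 2 ≤ Fintype.card κ)
    (ρ : Representation ℂ (Matrix.SpecialLinearGroup (Unit ⊕ κ) F) V)
    (ψ : AddChar F ℂ) (hψ : ψ ≠ 1)
    (hint : DirectSum.IsInternal (fun v : κ → F => wsp ρ ψ v)) : ∃ e f : ℕ, WData ρ ψ e f := by
  classical
  obtain ⟨i0, i1, h01⟩ := Fintype.exists_pair_of_one_lt_card (by omega : 1 < Fintype.card κ)
  have he : ∀ v : κ → F, v ≠ 0 →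
      Module.finrank ℂ (wsp ρ ψ v) = Module.finrank ℂ (wsp ρ ψ (e i0 : κ → F)) := by
    intro v hv
    obtain ⟨g, hg⟩ := exists_mulVec_eq h01 v hv
    apply le_antisymm
    · have h1 := finrank_wsp_le ρ ψ g⁻¹ v
      have h2 : (g⁻¹).1 *ᵥ v = e i0 := by
        rw [← hg, Matrix.mulVec_mulVec]
        have : (g⁻¹).1 * g.1 = 1 := congrArg Subtype.val (inv_mul_cancel g)
        rw [this, Matrix.one_mulVec]
      rwa [h2] at h1
    · have h1 := finrank_wsp_le ρ ψ g (e i0)
      rwa [hg] at h1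
  have hsum : Module.finrank ℂ V = ∑ v : κ → F, Module.finrank ℂ (wsp ρ ψ v) := by
    rw [← Module.finrank_directSum]
    exact (LinearEquiv.ofBijective (DirectSum.coeLinearMap _) hint).finrank_eq.symm
  have hcardv : (Finset.univ.erase (0 : κ → F)).card = Fintype.card F ^ Fintype.card κ - 1 := by
    rw [Finset.card_erase_of_mem (Finset.mem_univ _), Finset.card_univ, Fintype.card_fun]
  refine ⟨Module.finrank ℂ (wsp ρ ψ (e i0 : κ → F)), Module.finrank ℂ (wsp ρ ψ (0 : κ → F)),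
    he, rfl, ?_, ?_⟩
  · rw [hsum, ← Finset.add_sum_erase _ _ (Finset.mem_univ (0 : κ → F))]
    congr 1
    rw [Finset.sum_congr rfl (fun v hv => he v (Finset.ne_of_mem_erase hv)), Finset.sum_const,
      hcardv, smul_eq_mul, mul_comm]
  · intro u hu
    have hmaps : ∀ v : κ → F, Set.MapsTo (ρ (xu u)) (wsp ρ ψ v) (wsp ρ ψ v) := by
      intro v w hw
      rw [SetLike.mem_coe] at hw ⊢
      rw [hw u]
      exact (wsp ρ ψ v).smul_mem _ hw
    rw [LinearMap.trace_eq_sum_trace_restrict hint hmaps]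
    have hres : ∀ v : κ → F, (ρ (xu u)).restrict (hmaps v) = ψ (u ⬝ᵥ v) • LinearMap.id := by
      intro v
      ext w
      exact w.2 u
    have htr : ∀ v : κ → F, LinearMap.trace ℂ (wsp ρ ψ v) ((ρ (xu u)).restrict (hmaps v)) =
        ψ (u ⬝ᵥ v) * (Module.finrank ℂ (wsp ρ ψ v) : ℂ) := by
      intro v
      rw [hres v, map_smul, LinearMap.trace_id, smul_eq_mul]
    rw [Finset.sum_congr rfl (fun v _ => htr v),
      ← Finset.add_sum_erase _ _ (Finset.mem_univ (0 : κ → F))]
    have h0 := sum_psi_dot ψ hψ u hu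
    rw [← Finset.add_sum_erase _ _ (Finset.mem_univ (0 : κ → F)), dotProduct_zero,
      AddChar.map_zero_eq_one] at h0
    rw [dotProduct_zero, AddChar.map_zero_eq_one, one_mul,
      Finset.sum_congr rfl (fun v hv => by rw [he v (Finset.ne_of_mem_erase hv)]),
      ← Finset.sum_mul]
    linear_combination (Module.finrank ℂ (wsp ρ ψ (e i0 : κ → F)) : ℂ) * h0

end Cfsg.Agent.Lib.Helper55_S2332_WSNUM
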