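/-
S4699 package PK-DEC (architect: helper57): decomposition of the Sylow trace for a TI Sylow subgroup.
`P` acts freely on the Sylow subgroups different from `P`; summing over orbit representatives.
-/
import Mathlib
import Cfsg.Agent.Lib.Helper71_S4504_G1

set_option autoImplicit false

namespace Cfsg.Agent.Lib.Helper55_S4699_DEC

open Cfsg.Agent.Lib.Helper71_S4504_G1

/-- summation over orbit representatives of a free action -/
theorem sum_free_orbits {H : Type*} [Group H] [Fintype H] {Ω : Type*} [Fintype Ω]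
    [MulAction H Ω] (hfree : ∀ (h : H) (ω : Ω), h • ω = ω → h = 1) {E : Type*} [AddCommMonoid E]
    (f : Ω → E) : ∃ R : Finset Ω, ∑ ω, f ω = ∑ r ∈ R, ∑ h : H, f (h • r) := by
  classical
  let rep : Ω → Ω := fun ω => (Quotient.mk (MulAction.orbitRel H Ω) ω).out
  have hrep : ∀ ω, ∃ h : H, h • rep ω = ω := by
    intro ω
    have h1 : (MulAction.orbitRel H Ω) (rep ω) ω := Quotient.mk_out (s := MulAction.orbitRel H Ω) ω
    rw [MulAction.orbitRel_apply] at h1
    obtain ⟨h, hh⟩ := MulAction.mem_orbit_iff.1 h1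
    refine ⟨h⁻¹, ?_⟩
    rw [← hh, inv_smul_smul]
  have hrep2 : ∀ (h : H) (ω : Ω), rep (h • ω) = rep ω := by
    intro h ω
    have : (Quotient.mk (MulAction.orbitRel H Ω) (h • ω)) = Quotient.mk (MulAction.orbitRel H Ω) ω := by
      apply Quotient.sound
      change (MulAction.orbitRel H Ω) (h • ω) ω
      rw [MulAction.orbitRel_apply]
      exact MulAction.mem_orbit _ _
    simp only [rep, this]
  have hrep3 : ∀ ω, rep (rep ω) = rep ω := by
    intro ω
    simp only [rep, Quotient.out_eq]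
  refine ⟨Finset.univ.image rep, ?_⟩
  rw [← Finset.sum_product (Finset.univ.image rep) (Finset.univ : Finset H) (fun x => f (x.2 • x.1))]
  symm
  refine Finset.sum_nbij (fun x => x.2 • x.1) (fun _ _ => Finset.mem_univ _) ?_ ?_ (fun _ _ => rfl)
  · rintro ⟨r, h⟩ hx ⟨r', h'⟩ hx' hxx
    simp only [Finset.coe_product, Set.mem_prod, Finset.mem_coe, Finset.mem_image, Finset.mem_univ,
      true_and, and_true] at hx hx'
    simp only at hxx
    obtain ⟨ω, rfl⟩ := hx
    obtain ⟨ω', rfl⟩ := hx'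
    have e1 : rep ω = rep ω' := by
      have := congrArg rep hxx
      rwa [hrep2, hrep2, hrep3, hrep3] at this
    have e2 : h = h' := by
      rw [← e1] at hxx
      have : (h'⁻¹ * h) • rep ω = rep ω := by
        rw [mul_smul, hxx, inv_smul_smul]
      have := hfree _ _ this
      exact (inv_mul_eq_one.1 this).symm
    rw [e1, e2]
  · intro ω _
    obtain ⟨h, hh⟩ := hrep ω
    refine ⟨(rep ω, h), ?_, hh⟩
    simp only [Finset.coe_product, Set.mem_prod, Finset.mem_coe, Finset.mem_image, Finset.mem_univ,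
      true_and, and_true]
    exact ⟨ω, rfl⟩

theorem tr_decomp_TI {F : Type*} [Field F] {p : ℕ} [Fact p.Prime] {G : Type*} [Group G] [Finite G]
    (P : Sylow p G)
    (hTI : ∀ Q : Sylow p G, Q ≠ P → (P : Subgroup G) ⊓ (Q : Subgroup G) = ⊥)
    {V : Type*} [AddCommGroup V] [Module F V] (ρ : Representation F G V)
    [Fintype (Sylow p G)] [Fintype (P : Subgroup G)]
    (gQ : Sylow p G → G) (hgQ : ∀ Q, gQ Q • P = Q) (φ : Module.End F V)
    (hφ : ∀ n ∈ Subgroup.normalizer ((P : Subgroup G) : Set G), φ * ρ n = ρ n * φ) :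
    ∃ c : Module.End F V, ∑ Q : Sylow p G, cj ρ (gQ Q) φ =
      φ + ∑ u : (P : Subgroup G), cj ρ (u : G) c := by
  classical
  -- the sub-action on the Sylow subgroups different from `P`
  let S : SubMulAction ↥(P : Subgroup G) (Sylow p G) :=
    { carrier := {Q | Q ≠ P}
      smul_mem' := by
        intro u Q hQ hu
        apply hQ
        have h1 : (u : G) • Q = P := hu
        have h2 : (u : G) • P = P :=
          Sylow.smul_eq_iff_mem_normalizer.2 (Subgroup.le_normalizer u.2)
        exact smul_left_cancel _ (h1.trans h2.symm) }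
  have hSmem : ∀ Q : Sylow p G, Q ∈ S ↔ Q ≠ P := fun Q => Iff.rfl
  let _ : Fintype ↥S := Fintype.ofFinite _
  have hfree : ∀ (u : ↥(P : Subgroup G)) (ω : ↥S), u • ω = ω → u = 1 := by
    intro u ω h
    have h1 : (u : G) • (ω : Sylow p G) = ω := by
      have := congrArg (Subtype.val) h
      exact this
    have h3 : (u : G) ∈ (P : Subgroup G) ⊓ ((ω : Sylow p G) : Subgroup G) := by
      rw [← P.2.inf_normalizer_sylow (ω : Sylow p G)]
      exact ⟨u.2, Sylow.smul_eq_iff_mem_normalizer.1 h1⟩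
    rw [hTI _ ((hSmem _).1 ω.2), Subgroup.mem_bot] at h3
    exact Subtype.ext h3
  obtain ⟨R, hR⟩ := sum_free_orbits hfree (fun ω : ↥S => cj ρ (gQ (ω : Sylow p G)) φ)
  refine ⟨∑ r ∈ R, cj ρ (gQ (r : Sylow p G)) φ, ?_⟩
  have hP : cj ρ (gQ P) φ = φ := by
    rw [cj_eq_self_iff]
    exact hφ _ (Sylow.smul_eq_iff_mem_normalizer.1 (hgQ P))
  rw [Fintype.sum_eq_add_sum_subtype_ne (fun Q => cj ρ (gQ Q) φ) P, hP]
  congr 1
  have e1 : ∑ i : {Q : Sylow p G // Q ≠ P}, cj ρ (gQ (i : Sylow p G)) φ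
      = ∑ ω : ↥S, cj ρ (gQ (ω : Sylow p G)) φ := by
    refine Fintype.sum_equiv (Equiv.subtypeEquivRight (fun Q => ((hSmem Q).symm))) _ _ (fun _ => rfl)
  rw [e1, hR, Finset.sum_comm]
  refine Finset.sum_congr rfl fun u _ => ?_
  rw [cj_sum]
  refine Finset.sum_congr rfl fun r _ => ?_
  rw [← cj_mul, cj_key ρ P gQ hgQ φ hφ]
  rfl

end Cfsg.Agent.Lib.Helper55_S4699_DEC
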