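import Mathlib

/-!
# The model group `Z₂ × S₄` (helper55)

Concrete facts, all by kernel evaluation, about `Multiplicative (ZMod 2) × Perm (Fin 4)`: its
centre, the centralizer `D` of the involution `zH = (1, (02)(13))` (of order `16`, with commutators
in `{1, zH}` and centre `{1, tH, zH, tH zH}`), and the dihedral relations used to find a dihedral
subgroup of order `8` inside any subgroup of index `2` of `D` avoiding `tH`.
-/

set_option autoImplicit false

namespace Cfsg.Agent.Lib.Helper55_Z2S4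

open Equiv

/-- the model group `Z₂ × S₄` -/
abbrev H := Multiplicative (ZMod 2) × Equiv.Perm (Fin 4)

/-- the central involution -/
def tH : H := (Multiplicative.ofAdd (1 : ZMod 2), 1)
/-- the involution `(02)(13)` -/
def zH : H := (1, swap (0 : Fin 4) 2 * swap (1 : Fin 4) 3)
/-- the four-cycle `(0123)` -/
def rH : H := (1, finRotate 4)
/-- the transposition `(02)` -/
def aH : H := (1, swap (0 : Fin 4) 2)
/-- the involution `(01)(23)` -/
def bH : H := (1, swap (0 : Fin 4) 1 * swap (2 : Fin 4) 3)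
/-- the transposition `(12)` -/
def gH : H := (1, swap (1 : Fin 4) 2)
/-- the transposition `(23)` -/
def gH' : H := (1, swap (2 : Fin 4) 3)

/-- the three-cycle `(012)` -/
def uH : H := (1, swap (0 : Fin 4) 1 * swap (1 : Fin 4) 2)

theorem card_H : Nat.card H = 48 := by
  rw [Nat.card_prod, Nat.card_perm]
  simp [Nat.factorial]

set_option maxRecDepth 100000 in
theorem center_H : ∀ x : H, (∀ y : H, x * y = y * x) → x = 1 ∨ x = tH := by decide

set_option maxRecDepth 100000 in
theorem card_D_filter : (Finset.univ.filter (fun x : H => x * zH = zH * x)).card = 16 := by decide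

set_option maxRecDepth 100000 in
theorem card_Q_filter :
    (Finset.univ.filter (fun x : H => x * zH = zH * x ∧ x.1 = 1)).card = 8 := by decide

set_option maxRecDepth 100000 in
theorem comm_D : ∀ x y : H, x * zH = zH * x → y * zH = zH * y →
    x * y * x⁻¹ * y⁻¹ = 1 ∨ x * y * x⁻¹ * y⁻¹ = zH := by decide

set_option maxRecDepth 100000 in
theorem noncentral_Q : ∀ y : H, (y * zH = zH * y ∧ y.1 = 1 ∧ y ≠ 1 ∧ y ≠ zH) →
    ∃ d : H, d * zH = zH * d ∧ d * y ≠ y * d := by decide

set_option maxRecDepth 100000 in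
theorem center_D : ∀ w : H, w * zH = zH * w → (∀ d : H, d * zH = zH * d → w * d = d * w) →
    w = 1 ∨ w = tH ∨ w = zH ∨ w = tH * zH := by decide

set_option maxRecDepth 100000 in
theorem dihedral_rel : ∀ c ∈ [rH, tH * rH], ∀ x ∈ [aH, tH * aH],
    c * c = zH ∧ x * x = 1 ∧ x * c * x⁻¹ = c⁻¹ ∧ c * zH = zH * c ∧ x * zH = zH * x := by decide

set_option maxRecDepth 100000 in
theorem basic_rel : tH ≠ 1 ∧ zH ≠ 1 ∧ tH * tH = 1 ∧ zH * zH = 1 ∧ tH * zH = zH * tH ∧
    tH.1 ≠ 1 ∧ rH * zH = zH * rH ∧ aH * zH = zH * aH ∧ rH * rH = zH := by decide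

set_option maxRecDepth 100000 in
theorem conj_rel : gH * zH * gH⁻¹ = bH ∧ gH' * zH * gH'⁻¹ = zH * bH := by decide

set_option maxRecDepth 100000 in
theorem u_rel : uH ≠ 1 ∧ uH * uH * uH = 1 := by decide

end Cfsg.Agent.Lib.Helper55_Z2S4
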