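import Mathlib
import Cfsg.Agent.Lib.Helper55_Z2S4
import Cfsg.Agent.Lib.Helper55_Transfer
import Cfsg.Agent.Lib.Helper55_Ord360
import Cfsg.Agent.Lib.Helper17_Sylow
import Cfsg.Agent.Lib.Helper54_TwoGroups

/-!
# Groups with an involution centralizer `Z₂ × S₄` (helper55): setup

`t` is an involution of the finite group `G` with `C_G(t) ≅ Z₂ × S₄`, central in a Sylow
`2`-subgroup, and every Sylow `2`-subgroup `S` satisfies `C_G(S') = S`.  We introduce coordinates
`τ : Z₂ × S₄ → G`, the Sylow `2`-subgroup `T0 = C_G(t) ∩ C_G(z)`, prove `C_G(z) = T0`, and apply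
Thompson's transfer lemma to get a subgroup `M` of index `2` avoiding `t`, in which `z` has a
dihedral centralizer of order `8`.
-/

set_option autoImplicit false

namespace Cfsg.Agent.Lib.Helper55_S6Setup

open Subgroup Cfsg.Agent.Lib.Helper55_Z2S4

variable {G : Type*} [Group G] {t : G} (e : ↥(centralizer ({t} : Set G)) ≃* H)

/-- coordinates on the centralizer of `t` -/
def τ : H →* G := (centralizer ({t} : Set G)).subtype.comp e.symm.toMonoidHom

theorem τ_injective : Function.Injective (τ e) :=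
  (Subtype.val_injective).comp e.symm.injective

theorem τ_mem (x : H) : τ e x ∈ centralizer ({t} : Set G) := (e.symm x).2

theorem τ_e (g : G) (hg : g ∈ centralizer ({t} : Set G)) : τ e (e ⟨g, hg⟩) = g := by
  simp [τ]

theorem exists_τ (g : G) (hg : g ∈ centralizer ({t} : Set G)) : ∃ x : H, τ e x = g :=
  ⟨_, τ_e e g hg⟩

theorem τ_eq_one {x : H} (h : τ e x = 1) : x = 1 := by
  apply τ_injective e
  rw [h, map_one]

include e in
theorem card_centT : Nat.card (centralizer ({t} : Set G)) = 48 := by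
  rw [Nat.card_congr e.toEquiv, card_H]

theorem τ_tH (ht : orderOf t = 2) : τ e tH = t := by
  have htc : t ∈ centralizer ({t} : Set G) := mem_centralizer_singleton_iff.mpr rfl
  have h1 : ∀ y : H, e ⟨t, htc⟩ * y = y * e ⟨t, htc⟩ := by
    intro y
    obtain ⟨g, rfl⟩ := e.surjective y
    rw [← map_mul, ← map_mul]
    congr 1
    apply Subtype.ext
    exact (mem_centralizer_singleton_iff.mp g.2).symm
  rcases center_H _ h1 with h | h
  · exfalso
    have h2 : τ e (e ⟨t, htc⟩) = t := τ_e e t htc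
    rw [h, map_one] at h2
    rw [← h2, orderOf_one] at ht
    omega
  · rw [← h, τ_e]

/-- the involution `z` -/
def zG : G := τ e zH

/-- the Sylow `2`-subgroup -/
def T0 : Subgroup G := (centralizer ({zH} : Set H)).map (τ e)

theorem mem_T0_iff {g : G} : g ∈ T0 e ↔ ∃ x : H, x * zH = zH * x ∧ τ e x = g := by
  unfold T0
  rw [mem_map]
  constructor
  · rintro ⟨x, hx, rfl⟩
    exact ⟨x, mem_centralizer_singleton_iff.mp hx, rfl⟩
  · rintro ⟨x, hx, rfl⟩
    exact ⟨x, mem_centralizer_singleton_iff.mpr hx, rfl⟩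

theorem card_Dsub : Nat.card (centralizer ({zH} : Set H)) = 16 := by
  classical
  rw [← card_D_filter]
  rw [Nat.card_congr (Equiv.subtypeEquivRight
    (fun x => (mem_centralizer_singleton_iff (g := zH) (k := x)))),
    Nat.card_eq_fintype_card, Fintype.card_subtype]

theorem card_T0 : Nat.card (T0 e) = 16 := by
  unfold T0
  rw [card_map_of_injective (τ_injective e), card_Dsub]

theorem T0_le_centT : T0 e ≤ centralizer ({t} : Set G) := by
  intro g hg
  obtain ⟨x, _, rfl⟩ := (mem_T0_iff e).mp hg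
  exact τ_mem e x

theorem T0_eq : T0 e = centralizer ({t} : Set G) ⊓ centralizer ({zG e} : Set G) := by
  apply le_antisymm
  · intro g hg
    obtain ⟨x, hx, rfl⟩ := (mem_T0_iff e).mp hg
    refine mem_inf.mpr ⟨τ_mem e x, ?_⟩
    rw [mem_centralizer_singleton_iff, zG, ← map_mul, ← map_mul, hx]
  · intro g hg
    obtain ⟨h1, h2⟩ := mem_inf.mp hg
    obtain ⟨x, rfl⟩ := exists_τ e g h1
    rw [mem_T0_iff]
    refine ⟨x, ?_, rfl⟩
    apply τ_injective e
    rw [map_mul, map_mul]
    exact mem_centralizer_singleton_iff.mp h2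

theorem t_mem_T0 (ht : orderOf t = 2) : t ∈ T0 e := by
  rw [mem_T0_iff]
  exact ⟨tH, basic_rel.2.2.2.2.1, τ_tH e ht⟩

theorem zG_mem_T0 : zG e ∈ T0 e := by
  rw [mem_T0_iff]
  exact ⟨zH, rfl, rfl⟩

theorem zG_ne_one : zG e ≠ 1 := fun h => basic_rel.2.1 (τ_eq_one e h)

theorem zG_mul_self : zG e * zG e = 1 := by
  rw [zG, ← map_mul, basic_rel.2.2.2.1, map_one]

theorem orderOf_zG : orderOf (zG e) = 2 :=
  orderOf_eq_prime (by rw [pow_two]; exact zG_mul_self e) (zG_ne_one e)

theorem commutator_T0_le : ⁅T0 e, T0 e⁆ ≤ zpowers (zG e) := by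
  rw [Subgroup.commutator_le]
  intro g₁ h₁ g₂ h₂
  obtain ⟨x, hx, rfl⟩ := (mem_T0_iff e).mp h₁
  obtain ⟨y, hy, rfl⟩ := (mem_T0_iff e).mp h₂
  rw [commutatorElement_def, ← map_mul, ← map_inv, ← map_mul, ← map_inv, ← map_mul]
  rcases comm_D x y hx hy with h | h
  · rw [h, map_one]; exact one_mem _
  · rw [h]; exact mem_zpowers _

section Sylow

variable [Finite G]

theorem exists_sylow (T : Sylow 2 G)
    (htc : ∀ s ∈ (T : Subgroup G), s * t = t * s) :
    ∃ S : Sylow 2 G, (S : Subgroup G) = T0 e := by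
  have : Fact (Nat.Prime 2) := ⟨Nat.prime_two⟩
  have hTle : (T : Subgroup G) ≤ centralizer ({t} : Set G) :=
    fun s hs => mem_centralizer_singleton_iff.mpr (htc s hs)
  have h1 : Nat.card (T : Subgroup G) ∣ 48 := by
    rw [← card_centT e]; exact Subgroup.card_dvd_of_le hTle
  obtain ⟨k, hk⟩ := T.2.exists_card_eq
  have hT16 : Nat.card (T : Subgroup G) ≤ 16 := by
    rw [hk] at h1 ⊢
    have hk4 : k ≤ 4 := by
      by_contra hcon
      push Not at hcon
      have h5 : 2 ^ 5 ∣ 2 ^ k := pow_dvd_pow 2 hcon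
      have h6 := h5.trans h1
      norm_num at h6
    calc 2 ^ k ≤ 2 ^ 4 := Nat.pow_le_pow_right (by norm_num) hk4
      _ = 16 := by norm_num
  have hp : IsPGroup 2 (T0 e) := IsPGroup.of_card (n := 4) (by rw [card_T0]; norm_num)
  obtain ⟨S, hS⟩ := hp.exists_le_sylow
  refine ⟨S, (Subgroup.eq_of_le_of_card_ge hS ?_).symm⟩
  rw [card_T0, Sylow.card_eq_multiplicity S, ← Sylow.card_eq_multiplicity T]
  exact hT16

theorem centralizer_zG (T : Sylow 2 G)
    (htc : ∀ s ∈ (T : Subgroup G), s * t = t * s)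
    (h2 : ∀ S : Sylow 2 G,
      centralizer ((⁅(S : Subgroup G), (S : Subgroup G)⁆ : Subgroup G) : Set G) = (S : Subgroup G)) :
    centralizer ({zG e} : Set G) = T0 e := by
  obtain ⟨S, hS⟩ := exists_sylow e T htc
  apply le_antisymm
  · intro g hg
    rw [← hS, ← h2 S, hS, mem_centralizer_iff]
    intro c hc
    have hc' := commutator_T0_le e hc
    obtain ⟨k, rfl⟩ := mem_zpowers_iff.mp hc'
    have hgz : g * zG e = zG e * g := mem_centralizer_singleton_iff.mp hg
    have hcm : Commute g (zG e) := hgz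
    exact (hcm.zpow_right k).eq.symm
  · rw [T0_eq]; exact inf_le_right

end Sylow

/-- the subgroup `Q` of index `2` of `T0` avoiding `t` -/
def Q0 : Subgroup G :=
  (centralizer ({zH} : Set H) ⊓ (MonoidHom.fst (Multiplicative (ZMod 2)) (Equiv.Perm (Fin 4))).ker).map
    (τ e)

theorem mem_Q0_iff {g : G} : g ∈ Q0 e ↔ ∃ x : H, (x * zH = zH * x ∧ x.1 = 1) ∧ τ e x = g := by
  unfold Q0
  rw [mem_map]
  constructor
  · rintro ⟨x, hx, rfl⟩
    obtain ⟨h1, h2⟩ := mem_inf.mp hx
    exact ⟨x, ⟨mem_centralizer_singleton_iff.mp h1, h2⟩, rfl⟩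
  · rintro ⟨x, ⟨h1, h2⟩, rfl⟩
    exact ⟨x, mem_inf.mpr ⟨mem_centralizer_singleton_iff.mpr h1, h2⟩, rfl⟩

theorem card_Q0 : Nat.card (Q0 e) = 8 := by
  classical
  unfold Q0
  rw [card_map_of_injective (τ_injective e), ← card_Q_filter]
  rw [Nat.card_congr (Equiv.subtypeEquivRight (q := fun x : H => x * zH = zH * x ∧ x.1 = 1)
    (fun x => ?_)),
    Nat.card_eq_fintype_card, Fintype.card_subtype]
  rw [mem_inf, mem_centralizer_singleton_iff, MonoidHom.mem_ker]
  rfl

theorem Q0_le : Q0 e ≤ T0 e := Subgroup.map_mono inf_le_left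

theorem relIndex_Q0 : (Q0 e).relIndex (T0 e) = 2 := by
  have h := Cfsg.Agent.Lib.Helper55_Ord360.card_mul_relIndex' (Q0_le e)
  rw [card_Q0, card_T0] at h
  omega

section Transfer

variable [Finite G]

theorem exists_index_two (ht : orderOf t = 2) (S : Sylow 2 G) (hS : (S : Subgroup G) = T0 e)
    (hCz : centralizer ({zG e} : Set G) = T0 e) :
    ∃ M : Subgroup G, M.index = 2 ∧ t ∉ M := by
  have ht1 : t ≠ 1 := by
    rintro rfl; rw [orderOf_one] at ht; omega
  refine Cfsg.Agent.Lib.Helper55_Transfer.exists_index_two_of_nonextremal S (Q0 e)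
    (by rw [hS]; exact Q0_le e) (by rw [hS]; exact relIndex_Q0 e) t ht ?_
  intro y hy hconj
  rw [hS, card_centT e]
  obtain ⟨c, hc⟩ := isConj_iff.mp hconj
  have hcard : Nat.card (centralizer ({y} : Set G)) = 48 := by
    have h := Cfsg.Agent.Lib.Helper17_Sylow.card_centralizer_conj t c⁻¹
    rw [inv_inv, hc, card_centT e] at h
    exact h
  obtain ⟨y', ⟨hy1, hy2⟩, rfl⟩ := (mem_Q0_iff e).mp hy
  have hne1 : y' ≠ 1 := by
    rintro rfl
    rw [map_one] at hc
    exact ht1 (conj_eq_one_iff.mp hc)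
  have hnez : y' ≠ zH := by
    rintro rfl
    have : Nat.card (centralizer ({zG e} : Set G)) = 48 := hcard
    rw [hCz, card_T0] at this
    omega
  obtain ⟨d, hd1, hd2⟩ := noncentral_Q y' ⟨hy1, hy2, hne1, hnez⟩
  have hlt : T0 e ⊓ centralizer ({τ e y'} : Set G) ≠ T0 e := by
    intro heq
    have hdm : τ e d ∈ T0 e := (mem_T0_iff e).mpr ⟨d, hd1, rfl⟩
    rw [← heq] at hdm
    have h3 := mem_centralizer_singleton_iff.mp (mem_inf.mp hdm).2
    apply hd2
    apply τ_injective e
    rw [map_mul, map_mul]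
    exact h3
  have hdvd : Nat.card ↥(T0 e ⊓ centralizer ({τ e y'} : Set G)) ∣ 16 := by
    rw [← card_T0 e]
    exact Subgroup.card_dvd_of_le inf_le_left
  have hne16 : Nat.card ↥(T0 e ⊓ centralizer ({τ e y'} : Set G)) ≠ 16 := by
    intro h16
    apply hlt
    apply Subgroup.eq_of_le_of_card_ge inf_le_left
    rw [h16, card_T0]
  generalize Nat.card ↥(T0 e ⊓ centralizer ({τ e y'} : Set G)) = n at hdvd hne16
  have hn : n ≤ 16 := Nat.le_of_dvd (by norm_num) hdvd
  interval_cases n <;> omega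

end Transfer

end Cfsg.Agent.Lib.Helper55_S6Setup
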