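import Mathlib
import Cfsg.Agent.Lib.Helper55_S6Setup

/-!
# Groups with an involution centralizer `Z₂ × S₄` (helper55): the subgroup of index `2`

With the notation of `Helper55_S6Setup`, let `M` be a subgroup of index `2` avoiding `t`.  Then
`C_M(z)` is dihedral of order `8`.  Moreover, if `C_G(t) ≠ G` then `G` has trivial centre, every
normal subgroup meeting `M` trivially is trivial, and the action of `G` on the cosets of a subgroup
`N` is faithful as soon as no nontrivial normal subgroup of `G` lies in `N ∩ M`.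
-/

set_option autoImplicit false

namespace Cfsg.Agent.Lib.Helper55_S6Index2

open Subgroup Cfsg.Agent.Lib.Helper55_Z2S4 Cfsg.Agent.Lib.Helper55_S6Setup

section Generic

variable {G : Type*} [Group G]

/-- the centralizer of `z` inside a subgroup `M`, as a subgroup of `G` -/
theorem card_centralizer_subtype (M : Subgroup G) (z : G) (hz : z ∈ M) :
    Nat.card (centralizer ({(⟨z, hz⟩ : ↥M)} : Set ↥M)) =
      Nat.card ↥(M ⊓ centralizer ({z} : Set G)) := by
  apply Nat.card_congr
  exact
    { toFun := fun x => ⟨x.1.1, mem_inf.mpr ⟨x.1.2, by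
          rw [mem_centralizer_singleton_iff]
          exact congrArg Subtype.val (mem_centralizer_singleton_iff.mp x.2)⟩⟩
      invFun := fun y => ⟨⟨y.1, (mem_inf.mp y.2).1⟩, by
          rw [mem_centralizer_singleton_iff]
          apply Subtype.ext
          exact mem_centralizer_singleton_iff.mp (mem_inf.mp y.2).2⟩
      left_inv := fun x => rfl
      right_inv := fun y => rfl }

/-- a normal subgroup of order `2` is central -/
theorem le_center_of_card_two (K : Subgroup G) [hK : K.Normal] (h : Nat.card K = 2) :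
    K ≤ center G := by
  intro w hw
  rw [mem_center_iff]
  intro g
  by_cases hw1 : w = 1
  · rw [hw1, mul_one, one_mul]
  obtain ⟨y, _, hy2⟩ := (Nat.card_eq_two_iff' (1 : K)).mp h
  have h1 : (⟨w, hw⟩ : K) = y := hy2 _ (fun h' => hw1 (congrArg Subtype.val h'))
  have h2 : (⟨g * w * g⁻¹, hK.conj_mem w hw g⟩ : K) = y :=
    hy2 _ (fun h' => hw1 (conj_eq_one_iff.mp (congrArg Subtype.val h')))
  have h3 : g * w * g⁻¹ = w := congrArg Subtype.val (h2.trans h1.symm)
  exact mul_inv_eq_iff_eq_mul.mp h3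

/-- one-sided criterion for membership in the normalizer, finite case -/
theorem mem_normalizer_of_forall_conj_mem [Finite G] (A : Subgroup G) (g : G)
    (h : ∀ x ∈ A, g * x * g⁻¹ ∈ A) : g ∈ normalizer (A : Set G) := by
  rw [mem_normalizer_iff]
  intro x
  refine ⟨h x, fun hx => ?_⟩
  let f : A → A := fun a => ⟨g * a.1 * g⁻¹, h a.1 a.2⟩
  have hf : Function.Injective f := by
    intro a b hab
    apply Subtype.ext
    have h1 : g * a.1 * g⁻¹ = g * b.1 * g⁻¹ := congrArg Subtype.val hab
    exact mul_left_cancel (mul_right_cancel h1)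
  obtain ⟨a, ha⟩ := (Finite.surjective_of_injective hf) ⟨g * x * g⁻¹, hx⟩
  have h1 : g * a.1 * g⁻¹ = g * x * g⁻¹ := congrArg Subtype.val ha
  have h2 : a.1 = x := mul_left_cancel (mul_right_cancel h1)
  rw [← h2]
  exact a.2

end Generic

variable {G : Type*} [Group G] {t : G} (e : ↥(centralizer ({t} : Set G)) ≃* H)

section Index

variable (M : Subgroup G) (hM : M.index = 2)

include hM in
theorem mem_or_t_mul_mem (htM : t ∉ M) (g : G) : g ∈ M ∨ t * g ∈ M := by
  by_cases hg : g ∈ M
  · exact Or.inl hg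
  · right
    rw [Subgroup.mul_mem_iff_of_index_two hM]
    exact ⟨fun h => (htM h).elim, fun h => (hg h).elim⟩

include hM in
theorem zG_mem_M : zG e ∈ M := by
  have h : zG e = τ e rH ^ 2 := by
    rw [zG, pow_two, ← map_mul, basic_rel.2.2.2.2.2.2.2.2]
  rw [h]
  exact Subgroup.sq_mem_of_index_two hM _

variable [Finite G]

include hM in
theorem card_G_of_card_M (n : ℕ) (h : Nat.card M = n) : Nat.card G = 2 * n := by
  have := M.card_mul_index
  rw [hM, h] at this
  omega

include hM in
theorem card_M_inf_T0 (ht : orderOf t = 2) (htM : t ∉ M) : Nat.card ↥(M ⊓ T0 e) = 8 := by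
  have : M.Normal := Subgroup.normal_of_index_eq_two hM
  have hrel : M.relIndex (T0 e) = 2 := by
    have hdvd := Subgroup.relIndex_dvd_index_of_normal M (T0 e)
    rw [hM] at hdvd
    rcases (Nat.dvd_prime Nat.prime_two).mp hdvd with h1 | h2
    · exfalso
      exact htM (Subgroup.relIndex_eq_one.mp h1 (t_mem_T0 e ht))
    · exact h2
  have h := Cfsg.Agent.Lib.Helper55_Ord360.card_mul_relIndex' (inf_le_right : M ⊓ T0 e ≤ T0 e)
  rw [Subgroup.inf_relIndex_right, hrel, card_T0] at h
  omega

include hM in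
theorem card_centralizer_M (ht : orderOf t = 2) (htM : t ∉ M)
    (hCz : centralizer ({zG e} : Set G) = T0 e) :
    Nat.card (centralizer ({(⟨zG e, zG_mem_M e M hM⟩ : ↥M)} : Set ↥M)) = 8 := by
  rw [card_centralizer_subtype, hCz]
  exact card_M_inf_T0 e M hM ht htM

include hM in
/-- the centralizer of `z` in `M` is dihedral of order `8` -/
theorem nonempty_dihedral (ht : orderOf t = 2) (htM : t ∉ M)
    (hCz : centralizer ({zG e} : Set G) = T0 e) :
    Nonempty (↥(centralizer ({(⟨zG e, zG_mem_M e M hM⟩ : ↥M)} : Set ↥M)) ≃* DihedralGroup 4) := by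
  -- choose the generators inside `M`
  obtain ⟨cH, hcH, hcM⟩ : ∃ cH ∈ [rH, tH * rH], τ e cH ∈ M := by
    rcases mem_or_t_mul_mem M hM htM (τ e rH) with h | h
    · exact ⟨rH, by simp, h⟩
    · refine ⟨tH * rH, by simp, ?_⟩
      rw [map_mul, τ_tH e ht]; exact h
  obtain ⟨xH, hxH, hxM⟩ : ∃ xH ∈ [aH, tH * aH], τ e xH ∈ M := by
    rcases mem_or_t_mul_mem M hM htM (τ e aH) with h | h
    · exact ⟨aH, by simp, h⟩
    · refine ⟨tH * aH, by simp, ?_⟩
      rw [map_mul, τ_tH e ht]; exact h
  obtain ⟨r1, r2, r3, r4, r5⟩ := dihedral_rel cH hcH xH hxH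
  have hcc : (⟨τ e cH, hcM⟩ : ↥M) ∈ centralizer ({(⟨zG e, zG_mem_M e M hM⟩ : ↥M)} : Set ↥M) := by
    rw [mem_centralizer_singleton_iff]
    apply Subtype.ext
    show τ e cH * zG e = zG e * τ e cH
    rw [zG, ← map_mul, ← map_mul, r4]
  have hxc : (⟨τ e xH, hxM⟩ : ↥M) ∈ centralizer ({(⟨zG e, zG_mem_M e M hM⟩ : ↥M)} : Set ↥M) := by
    rw [mem_centralizer_singleton_iff]
    apply Subtype.ext
    show τ e xH * zG e = zG e * τ e xH
    rw [zG, ← map_mul, ← map_mul, r5]
  have hinj : ∀ u v : ↥(centralizer ({(⟨zG e, zG_mem_M e M hM⟩ : ↥M)} : Set ↥M)),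
      (u.1.1 : G) = v.1.1 → u = v := fun u v h => Subtype.ext (Subtype.ext h)
  have hc2 : (⟨⟨τ e cH, hcM⟩, hcc⟩ : ↥(centralizer ({(⟨zG e, zG_mem_M e M hM⟩ : ↥M)} : Set ↥M))) *
      ⟨⟨τ e cH, hcM⟩, hcc⟩ ≠ 1 := by
    intro h
    have h' : τ e cH * τ e cH = 1 := congrArg (fun u => (u.1.1 : G)) h
    rw [← map_mul, r1] at h'
    exact zG_ne_one e h'
  refine Cfsg.Agent.Lib.Helper54_TwoGroups.nonempty_mulEquiv_dihedralGroup 4
    ⟨⟨τ e cH, hcM⟩, hcc⟩ ⟨⟨τ e xH, hxM⟩, hxc⟩ ?_ ?_ ?_ ?_ ?_
  · have h4 : orderOf (⟨⟨τ e cH, hcM⟩, hcc⟩ :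
        ↥(centralizer ({(⟨zG e, zG_mem_M e M hM⟩ : ↥M)} : Set ↥M))) = 2 ^ (1 + 1) := by
      apply orderOf_eq_prime_pow
      · rw [pow_one, pow_two]; exact hc2
      · apply hinj
        show τ e cH ^ 2 ^ (1 + 1) = 1
        have : τ e cH ^ 2 ^ (1 + 1) = (τ e cH * τ e cH) * (τ e cH * τ e cH) := by
          norm_num [pow_succ, mul_assoc]
        rw [this, ← map_mul, r1]
        exact zG_mul_self e
    rw [h4]
    norm_num
  · apply hinj
    show τ e xH * τ e xH = 1
    rw [← map_mul, r2, map_one]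
  · apply hinj
    show τ e xH * τ e cH * (τ e xH)⁻¹ = (τ e cH)⁻¹
    rw [← map_mul, ← map_inv, ← map_mul, r3, map_inv]
  · intro hmem
    obtain ⟨k, hk⟩ := mem_zpowers_iff.mp hmem
    apply hc2
    -- x commutes with c
    have hcomm : (⟨⟨τ e xH, hxM⟩, hxc⟩ :
        ↥(centralizer ({(⟨zG e, zG_mem_M e M hM⟩ : ↥M)} : Set ↥M))) * ⟨⟨τ e cH, hcM⟩, hcc⟩ =
        ⟨⟨τ e cH, hcM⟩, hcc⟩ * ⟨⟨τ e xH, hxM⟩, hxc⟩ := by
      rw [← hk]
      exact ((Commute.refl _).zpow_left k).eq
    have h1 : τ e xH * τ e cH = τ e cH * τ e xH := congrArg (fun u => (u.1.1 : G)) hcomm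
    have h2 : τ e xH * τ e cH * (τ e xH)⁻¹ = (τ e cH)⁻¹ := by
      rw [← map_mul, ← map_inv, ← map_mul, r3, map_inv]
    rw [h1, mul_inv_cancel_right] at h2
    apply hinj
    show τ e cH * τ e cH = 1
    nth_rewrite 1 [h2]
    exact inv_mul_cancel _
  · rw [card_centralizer_M e M hM ht htM hCz]

end Index

section Central

variable [Finite G]

/-- if `C_G(t) ≠ G` then the centre of `G` is trivial -/
theorem no_central_element (ht : orderOf t = 2) (hCz : centralizer ({zG e} : Set G) = T0 e)
    (hne : centralizer ({t} : Set G) ≠ ⊤) (w : G) (hw : w ≠ 1) (hcen : ∀ g : G, g * w = w * g) :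
    False := by
  have htt : t * t = 1 := by rw [← pow_two, ← ht]; exact pow_orderOf_eq_one t
  have hwT : w ∈ T0 e := by
    rw [← hCz, mem_centralizer_singleton_iff]; exact (hcen _).symm
  obtain ⟨w', hw1, rfl⟩ := (mem_T0_iff e).mp hwT
  have hw2 : ∀ d : H, d * zH = zH * d → w' * d = d * w' := by
    intro d _
    apply τ_injective e
    rw [map_mul, map_mul]
    exact (hcen _).symm
  rcases center_D w' hw1 hw2 with h | h | h | h
  · exact hw (by rw [h, map_one])
  · apply hne
    rw [eq_top_iff]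
    intro g _
    rw [mem_centralizer_singleton_iff, ← τ_tH e ht, ← h]
    exact hcen g
  · have hle : centralizer ({t} : Set G) ≤ T0 e := by
      rw [← hCz]
      intro g _
      rw [mem_centralizer_singleton_iff, zG, ← h]
      exact hcen g
    have := Subgroup.card_le_of_le hle
    rw [card_centT e, card_T0] at this
    omega
  · have hle : centralizer ({t} : Set G) ≤ T0 e := by
      rw [← hCz]
      intro g hg
      rw [mem_centralizer_singleton_iff] at hg ⊢
      have hz : zG e = t * τ e w' := by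
        rw [h, map_mul, τ_tH e ht, ← mul_assoc, htt, one_mul]; rfl
      rw [hz, ← mul_assoc, hg, mul_assoc, hcen g, mul_assoc]
    have := Subgroup.card_le_of_le hle
    rw [card_centT e, card_T0] at this
    omega

variable (M : Subgroup G) (hM : M.index = 2)

include hM in
/-- a normal subgroup meeting `M` trivially is trivial -/
theorem eq_bot_of_inf_eq_bot (ht : orderOf t = 2) (hCz : centralizer ({zG e} : Set G) = T0 e)
    (hne : centralizer ({t} : Set G) ≠ ⊤) (K : Subgroup G) [K.Normal] (hK : K ⊓ M = ⊥) :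
    K = ⊥ := by
  have : M.Normal := Subgroup.normal_of_index_eq_two hM
  have h := Cfsg.Agent.Lib.Helper55_Ord360.card_mul_relIndex' (inf_le_left : K ⊓ M ≤ K)
  rw [Subgroup.inf_relIndex_left, hK, Subgroup.card_bot, one_mul] at h
  have hdvd := Subgroup.relIndex_dvd_index_of_normal M K
  rw [hM, h] at hdvd
  rcases (Nat.dvd_prime Nat.prime_two).mp hdvd with h1 | h2
  · exact Subgroup.card_eq_one.mp h1
  · exfalso
    have hcen := le_center_of_card_two K h2
    obtain ⟨w, hw, hw1⟩ : ∃ w ∈ K, w ≠ 1 := by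
      by_contra hcon
      push Not at hcon
      have : K = ⊥ := (Subgroup.eq_bot_iff_forall K).mpr hcon
      rw [this, Subgroup.card_bot] at h2
      omega
    exact no_central_element e ht hCz hne w hw1 (fun g => mem_center_iff.mp (hcen hw) g)

include hM in
/-- faithfulness of coset actions -/
theorem toPermHom_injective_of (ht : orderOf t = 2) (hCz : centralizer ({zG e} : Set G) = T0 e)
    (hne : centralizer ({t} : Set G) ≠ ⊤) (N : Subgroup G)
    (hN : ∀ L : Subgroup G, L.Normal → L ≤ N → L ≤ M → L = ⊥) :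
    Function.Injective (MulAction.toPermHom G (G ⧸ N)) := by
  have : M.Normal := Subgroup.normal_of_index_eq_two hM
  rw [← MonoidHom.ker_eq_bot_iff, ← Subgroup.normalCore_eq_ker]
  apply eq_bot_of_inf_eq_bot e M hM ht hCz hne
  exact hN _ inferInstance (inf_le_left.trans N.normalCore_le) inf_le_right

include hM in
/-- faithfulness of coset actions when `M` is simple -/
theorem toPermHom_injective_of_simple (ht : orderOf t = 2)
    (hCz : centralizer ({zG e} : Set G) = T0 e)
    (hne : centralizer ({t} : Set G) ≠ ⊤) (hsimple : IsSimpleGroup ↥M) (N : Subgroup G)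
    (hcard : Nat.card N < Nat.card M) :
    Function.Injective (MulAction.toPermHom G (G ⧸ N)) := by
  apply toPermHom_injective_of e M hM ht hCz hne N
  intro L hL hLN hLM
  haveI := hL
  rcases (inferInstance : (L.subgroupOf M).Normal).eq_bot_or_eq_top with h | h
  · rw [Subgroup.subgroupOf_eq_bot] at h
    have := h.eq_bot
    rwa [inf_eq_left.mpr hLM] at this
  · exfalso
    rw [Subgroup.subgroupOf_eq_top] at h
    have := Subgroup.card_le_of_le (h.trans hLN)
    omega

end Central

end Cfsg.Agent.Lib.Helper55_S6Index2
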