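import Mathlib
import Cfsg.Prelude.Def_Solvable
import Cfsg.Prelude.Def_CaseTheorems
import Cfsg.Agent.Lib.Helper55_S6Index2
import Cfsg.Agent.Lib.Helper22_Cores
import Cfsg.Agent.Lib.Helper5_SLCard
import Cfsg.Agent.S0739
import Cfsg.Agent.S0249
import Cfsg.Agent.S4337

/-!
# Groups with an involution centralizer `Z₂ × S₄` (helper55): the small cases

With the notation of `Helper55_S6Setup` and `M` of index `2` avoiding `t`: the cases
`M = C_M(z) O(M)`, `M ≅ S₅` and `M ≅ SL₃(2)` are impossible, and `M ≅ S₄` forces `G = C_G(t)`.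
-/

set_option autoImplicit false

namespace Cfsg.Agent.Lib.Helper55_S6Cases

open Subgroup Cfsg.Agent.Lib.Helper55_Z2S4 Cfsg.Agent.Lib.Helper55_S6Setup
  Cfsg.Agent.Lib.Helper55_S6Index2

section Generic

variable {G : Type*} [Group G] [Finite G]

/-- an involution whose centralizer is a `2`-group inverts every invariant subgroup of odd order -/
theorem inverts_of_card_centralizer (X : Subgroup G) (u : G) (huu : u * u = 1)
    (hnorm : ∀ h ∈ X, u * h * u⁻¹ ∈ X) (k : ℕ)
    (hC : Nat.card (centralizer ({u} : Set G)) = 2 ^ k) (hodd : (Nat.card X).Coprime 2) :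
    ∀ h ∈ X, u * h * u⁻¹ = h⁻¹ := by
  apply Cfsg.Agent.S0739.inverts_of_fpf X u huu hnorm
  intro h hh hcomm
  have h1 : orderOf h ∣ 2 ^ k := by
    rw [← hC]
    have hm : h ∈ centralizer ({u} : Set G) := mem_centralizer_singleton_iff.mpr hcomm.symm
    have := orderOf_dvd_natCard (⟨h, hm⟩ : ↥(centralizer ({u} : Set G)))
    rwa [← Subgroup.orderOf_coe] at this
  have h2 : orderOf h ∣ Nat.card X := by
    have := orderOf_dvd_natCard (⟨h, hh⟩ : ↥X)
    rwa [← Subgroup.orderOf_coe] at this
  have h3 : (2 ^ k).Coprime (Nat.card X) := (Nat.Coprime.pow_right k hodd).symm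
  have h4 := Nat.eq_one_of_dvd_coprimes h3 h1 h2
  exact orderOf_eq_one_iff.mp h4

set_option maxRecDepth 100000 in
/-- the centre of `S₅` is trivial -/
theorem center_perm_five : ∀ x : Equiv.Perm (Fin 5),
    (∀ y ∈ [Equiv.swap (0 : Fin 5) 1, finRotate 5], x * y = y * x) → x = 1 := by
  decide

/-- a normal subgroup of `S₅` of order less than `60` is trivial -/
theorem perm_five_normal_eq_bot (L : Subgroup (Equiv.Perm (Fin 5))) [hL : L.Normal]
    (h : Nat.card L < 60) : L = ⊥ := by
  have hA : Nat.card (alternatingGroup (Fin 5)) = 60 := by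
    rw [nat_card_alternatingGroup]
    simp [Nat.factorial]
  rcases (inferInstance : (L.subgroupOf (alternatingGroup (Fin 5))).Normal).eq_bot_or_eq_top
    with h1 | h1
  · rw [Subgroup.subgroupOf_eq_bot] at h1
    have h2 : L ⊓ alternatingGroup (Fin 5) = ⊥ := h1.eq_bot
    have h3 := Cfsg.Agent.Lib.Helper55_Ord360.card_mul_relIndex'
      (inf_le_left : L ⊓ alternatingGroup (Fin 5) ≤ L)
    rw [Subgroup.inf_relIndex_left, h2, Subgroup.card_bot, one_mul] at h3
    have hdvd := Subgroup.relIndex_dvd_index_of_normal (alternatingGroup (Fin 5)) L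
    rw [alternatingGroup.index_eq_two, h3] at hdvd
    rcases (Nat.dvd_prime Nat.prime_two).mp hdvd with h4 | h4
    · exact Subgroup.card_eq_one.mp h4
    · have hcen := le_center_of_card_two L h4
      rw [eq_bot_iff]
      intro x hx
      rw [mem_bot]
      apply center_perm_five
      intro y _
      exact (mem_center_iff.mp (hcen hx) y).symm
  · exfalso
    rw [Subgroup.subgroupOf_eq_top] at h1
    have := Subgroup.card_le_of_le h1
    omega

theorem center_sl32 :
    center (Matrix.SpecialLinearGroup (Fin 3) (ZMod 2)) = ⊥ := by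
  rw [eq_bot_iff]
  intro A hA
  rw [Matrix.SpecialLinearGroup.mem_center_iff] at hA
  obtain ⟨r, hr, hA⟩ := hA
  have hr1 : r = 1 := by
    have key : ∀ r : ZMod 2, r ^ Fintype.card (Fin 3) = 1 → r = 1 := by decide
    exact key r hr
  rw [mem_bot]
  apply Subtype.ext
  rw [← hA, hr1, map_one]
  rfl

theorem isSimpleGroup_sl32 : IsSimpleGroup (Matrix.SpecialLinearGroup (Fin 3) (ZMod 2)) := by
  have : IsSimpleGroup (Matrix.ProjectiveSpecialLinearGroup (Fin 3) (ZMod 2)) :=
    Cfsg.Agent.S0249.result 3 le_rfl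
  let f : Matrix.SpecialLinearGroup (Fin 3) (ZMod 2) →*
      Matrix.ProjectiveSpecialLinearGroup (Fin 3) (ZMod 2) :=
    QuotientGroup.mk' (center (Matrix.SpecialLinearGroup (Fin 3) (ZMod 2)))
  have hf : Function.Bijective f := by
    refine ⟨?_, QuotientGroup.mk'_surjective _⟩
    rw [← MonoidHom.ker_eq_bot_iff, QuotientGroup.ker_mk', center_sl32]
  exact (MulEquiv.ofBijective f hf).isSimpleGroup

theorem card_sl32 : Nat.card (Matrix.SpecialLinearGroup (Fin 3) (ZMod 2)) = 168 := by
  have h1 := Cfsg.Agent.Lib.Helper5_SLCard.card_GL_eq_card_SL_mul (F := ZMod 2) 3 (by norm_num)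
  rw [Matrix.card_GL_field] at h1
  simp only [ZMod.card] at h1
  rw [Fin.prod_univ_three] at h1
  simp at h1
  rw [Nat.card_eq_fintype_card]
  exact h1.symm

/-- a Sylow `2`-subgroup of a symmetric group contains a transposition -/
theorem exists_isSwap_mem_sylow {X : Type*} [Fintype X] [DecidableEq X]
    (hX : 2 ≤ Fintype.card X) (P : Sylow 2 (Equiv.Perm X)) :
    ∃ s ∈ (P : Subgroup (Equiv.Perm X)), s.IsSwap := by
  have : Fact (Nat.Prime 2) := ⟨Nat.prime_two⟩
  obtain ⟨a, b, hab⟩ := Fintype.exists_pair_of_one_lt_card (by omega : 1 < Fintype.card X)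
  have ho : orderOf (Equiv.swap a b) = 2 :=
    orderOf_eq_prime (by rw [pow_two, Equiv.swap_mul_self]) (by
      rw [Ne, Equiv.swap_eq_one_iff]; exact hab)
  have hu2 : IsPGroup 2 (zpowers (Equiv.swap a b)) := by
    apply IsPGroup.of_card (n := 1)
    rw [Nat.card_zpowers, ho]; norm_num
  obtain ⟨P', hP'⟩ := hu2.exists_le_sylow
  obtain ⟨g, hg⟩ := MulAction.exists_smul_eq (Equiv.Perm X) P' P
  refine ⟨g * Equiv.swap a b * g⁻¹, ?_, g a, g b, fun h => hab (g.injective h),
    (Equiv.swap_apply_apply g a b).symm⟩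
  rw [← hg, Sylow.coe_subgroup_smul, Subgroup.mem_pointwise_smul_iff_inv_smul_mem]
  simp only [MulAut.smul_def, MulAut.conj_inv_apply]
  rw [show g⁻¹ * (g * Equiv.swap a b * g⁻¹) * g = Equiv.swap a b by group]
  exact hP' (mem_zpowers _)

end Generic

variable {G : Type*} [Group G] [Finite G] {t : G} (e : ↥(centralizer ({t} : Set G)) ≃* H)
  (M : Subgroup G) (hM : M.index = 2)

include e in
theorem centT_ne_top (n : ℕ) (hn : Nat.card G = n) (h48 : n ≠ 48) :
    centralizer ({t} : Set G) ≠ ⊤ := by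
  intro h
  have := card_centT e
  rw [h, Subgroup.card_top, hn] at this
  exact h48 this

include e in
theorem dvd_card_G : 48 ∣ Nat.card G := by
  rw [← card_centT e]
  exact Subgroup.card_subgroup_dvd_card _

include hM in
/-- the case `M = C_M(z) O(M)` is impossible -/
theorem case_core (ht : orderOf t = 2) (htM : t ∉ M)
    (hCz : centralizer ({zG e} : Set G) = T0 e)
    (h : centralizer ({(⟨zG e, zG_mem_M e M hM⟩ : ↥M)} : Set ↥M) ⊔ Cfsg.oddCore ↥M = ⊤) :
    False := by
  have hMn : M.Normal := Subgroup.normal_of_index_eq_two hM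
  have hzM := zG_mem_M e M hM
  have hodd : (Nat.card ((Cfsg.oddCore ↥M).map M.subtype)).Coprime 2 := by
    rw [Subgroup.card_map_of_injective M.subtype_injective]
    exact Cfsg.Agent.Lib.Helper22_Cores.pPrimeCore_coprime 2
  -- conjugates of `z` invert `O(M)`
  have key : ∀ g : G, ∀ h ∈ (Cfsg.oddCore ↥M).map M.subtype,
      (g * zG e * g⁻¹) * h * (g * zG e * g⁻¹)⁻¹ = h⁻¹ := by
    intro g
    have huM : g * zG e * g⁻¹ ∈ M := hMn.conj_mem _ hzM g
    apply inverts_of_card_centralizer _ _ ?_ ?_ 4 ?_ hodd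
    · rw [show g * zG e * g⁻¹ * (g * zG e * g⁻¹) = g * (zG e * zG e) * g⁻¹ by group,
        zG_mul_self, mul_one, mul_inv_cancel]
    · rintro _ ⟨o, ho, rfl⟩
      refine ⟨⟨g * zG e * g⁻¹, huM⟩ * o * ⟨g * zG e * g⁻¹, huM⟩⁻¹, ?_, rfl⟩
      exact (Cfsg.pPrimeCore_normal 2 ↥M).conj_mem o ho _
    · have h1 := Cfsg.Agent.Lib.Helper17_Sylow.card_centralizer_conj (zG e) g⁻¹
      rw [inv_inv, hCz, card_T0] at h1
      rw [h1]; norm_num
  have hb : τ e bH = τ e gH * zG e * (τ e gH)⁻¹ := by
    rw [zG, ← map_mul, ← map_inv, ← map_mul, conj_rel.1]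
  have hzb : zG e * τ e bH = τ e gH' * zG e * (τ e gH')⁻¹ := by
    rw [zG, ← map_mul, ← map_mul, ← map_inv, ← map_mul, conj_rel.2]
  have hbot : (Cfsg.oddCore ↥M).map M.subtype = ⊥ := by
    rw [eq_bot_iff]
    intro h hh
    rw [mem_bot]
    have h1 := key 1 h hh
    rw [one_mul, inv_one, mul_one] at h1
    have h2 := key (τ e gH) h hh
    rw [← hb] at h2
    have h3 := key (τ e gH') h hh
    rw [← hzb] at h3
    have h4 : zG e * τ e bH * h * (zG e * τ e bH)⁻¹ = h := by
      rw [show zG e * τ e bH * h * (zG e * τ e bH)⁻¹ =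
        zG e * (τ e bH * h * (τ e bH)⁻¹) * (zG e)⁻¹ by group, h2]
      rw [show zG e * h⁻¹ * (zG e)⁻¹ = (zG e * h * (zG e)⁻¹)⁻¹ by group, h1, inv_inv]
    rw [h4] at h3
    have h5 : h * h = 1 := by
      nth_rewrite 1 [h3]; exact inv_mul_cancel h
    have h6 : orderOf h ∣ 2 := orderOf_dvd_of_pow_eq_one (by rw [pow_two]; exact h5)
    have h7 : orderOf h ∣ Nat.card ((Cfsg.oddCore ↥M).map M.subtype) := by
      have := orderOf_dvd_natCard (⟨h, hh⟩ : ↥((Cfsg.oddCore ↥M).map M.subtype))
      rwa [← Subgroup.orderOf_coe] at this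
    exact orderOf_eq_one_iff.mp (Nat.eq_one_of_dvd_coprimes hodd.symm h6 h7)
  have hbot' : Cfsg.oddCore ↥M = ⊥ :=
    (Subgroup.map_eq_bot_iff_of_injective _ M.subtype_injective).mp hbot
  rw [hbot', sup_bot_eq] at h
  have hc := card_centralizer_M e M hM ht htM hCz
  rw [h, Subgroup.card_top] at hc
  have hG := card_G_of_card_M M hM 8 hc
  have := dvd_card_G e
  rw [hG] at this
  omega

include e hM in
/-- the case `M ≅ S₄` -/
theorem case_S4 (h : Nonempty (↥M ≃* Equiv.Perm (Fin 4))) : centralizer ({t} : Set G) = ⊤ := by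
  obtain ⟨f⟩ := h
  have hc : Nat.card M = 24 := by
    rw [Nat.card_congr f.toEquiv, Nat.card_perm]; simp [Nat.factorial]
  have hG := card_G_of_card_M M hM 24 hc
  apply Subgroup.eq_top_of_card_eq
  rw [card_centT e, hG]

include e in
theorem isSolvable_of_centT_eq_top (h : centralizer ({t} : Set G) = ⊤) : Group.IsSolvable G := by
  have : Group.IsSolvable (Equiv.Perm (Fin 4)) := Cfsg.Agent.S4337.solvable_S4
  let f : G ≃* H :=
    (Subgroup.topEquiv : (⊤ : Subgroup G) ≃* G).symm.trans ((MulEquiv.subgroupCongr h.symm).trans e)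
  exact Group.isSolvable_of_isSolvable_injective (f := f.toMonoidHom) f.injective

include hM in
/-- the case `M ≅ S₅` is impossible -/
theorem case_S5 (ht : orderOf t = 2) (hCz : centralizer ({zG e} : Set G) = T0 e)
    (h : Nonempty (↥M ≃* Equiv.Perm (Fin 5))) : False := by
  classical
  obtain ⟨f⟩ := h
  have hc : Nat.card M = 120 := by
    rw [Nat.card_congr f.toEquiv, Nat.card_perm]; simp [Nat.factorial]
  have hG := card_G_of_card_M M hM 120 hc
  have hne := centT_ne_top e _ hG (by norm_num)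
  have hinj := toPermHom_injective_of e M hM ht hCz hne (centralizer ({t} : Set G)) (by
    intro L hL hLC hLM
    have := hL
    have hn : ((L.subgroupOf M).map f.toMonoidHom).Normal :=
      Subgroup.Normal.map inferInstance _ f.surjective
    have hcard : Nat.card ((L.subgroupOf M).map f.toMonoidHom) < 60 := by
      rw [Subgroup.card_map_of_injective f.injective,
        Nat.card_congr (Subgroup.subgroupOfEquivOfLe hLM).toEquiv]
      have := Subgroup.card_le_of_le hLC
      rw [card_centT e] at this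
      omega
    have h1 := perm_five_normal_eq_bot _ hcard
    have h2 := (Subgroup.map_eq_bot_iff_of_injective _ f.injective).mp h1
    rw [Subgroup.subgroupOf_eq_bot] at h2
    have := h2.eq_bot
    rwa [inf_eq_left.mpr hLM] at this)
  have : Fintype (G ⧸ centralizer ({t} : Set G)) := Fintype.ofFinite _
  have h1 := Subgroup.card_dvd_of_injective _ hinj
  rw [Nat.card_perm, ← Subgroup.index_eq_card] at h1
  have h2 := (centralizer ({t} : Set G)).card_mul_index
  rw [card_centT e, hG] at h2
  have h3 : (centralizer ({t} : Set G)).index = 5 := by omega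
  rw [h3, hG] at h1
  norm_num [Nat.factorial] at h1

include hM in
/-- the case `M ≅ SL₃(2)` is impossible -/
theorem case_SL3 (ht : orderOf t = 2) (hCz : centralizer ({zG e} : Set G) = T0 e)
    (h : Nonempty (↥M ≃* Matrix.SpecialLinearGroup (Fin 3) (ZMod 2))) : False := by
  classical
  obtain ⟨f⟩ := h
  have : Fact (Nat.Prime 2) := ⟨Nat.prime_two⟩
  have hc : Nat.card M = 168 := by
    rw [Nat.card_congr f.toEquiv, card_sl32]
  have hG := card_G_of_card_M M hM 168 hc
  have hne := centT_ne_top e _ hG (by norm_num)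
  have := isSimpleGroup_sl32
  have hsimple : IsSimpleGroup ↥M := f.isSimpleGroup
  have hinj := toPermHom_injective_of_simple e M hM ht hCz hne hsimple (centralizer ({t} : Set G))
    (by rw [card_centT e, hc]; norm_num)
  have : Fintype (G ⧸ centralizer ({t} : Set G)) := Fintype.ofFinite _
  have h2 := (centralizer ({t} : Set G)).card_mul_index
  rw [card_centT e, hG] at h2
  have h3 : (centralizer ({t} : Set G)).index = 7 := by omega
  have hX : Fintype.card (G ⧸ centralizer ({t} : Set G)) = 7 := by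
    rw [← Nat.card_eq_fintype_card, ← Subgroup.index_eq_card, h3]
  have hPerm : Nat.card (Equiv.Perm (G ⧸ centralizer ({t} : Set G))) = 5040 := by
    rw [Nat.card_perm, Nat.card_eq_fintype_card, hX]; simp [Nat.factorial]
  -- the image of `T0` is a Sylow `2`-subgroup of the symmetric group
  have hT0' : Nat.card ((T0 e).map (MulAction.toPermHom G (G ⧸ centralizer ({t} : Set G)))) = 16 := by
    rw [Subgroup.card_map_of_injective hinj, card_T0]
  have hp : IsPGroup 2 ((T0 e).map (MulAction.toPermHom G (G ⧸ centralizer ({t} : Set G)))) :=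
    IsPGroup.of_card (n := 4) (by rw [hT0']; norm_num)
  obtain ⟨P, hP⟩ := hp.exists_le_sylow
  have hPeq : (T0 e).map (MulAction.toPermHom G (G ⧸ centralizer ({t} : Set G))) = P := by
    apply Subgroup.eq_of_le_of_card_ge hP
    rw [hT0']
    obtain ⟨k, hk⟩ := P.2.exists_card_eq
    have h1 : Nat.card (P : Subgroup (Equiv.Perm (G ⧸ centralizer ({t} : Set G)))) ∣ 5040 := by
      rw [← hPerm]; exact Subgroup.card_subgroup_dvd_card _
    rw [hk] at h1 ⊢
    have hk4 : k ≤ 4 := by
      by_contra hcon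
      push Not at hcon
      have h5 : 2 ^ 5 ∣ 2 ^ k := pow_dvd_pow 2 hcon
      have h6 := h5.trans h1
      norm_num at h6
    calc 2 ^ k ≤ 2 ^ 4 := Nat.pow_le_pow_right (by norm_num) hk4
      _ = 16 := by norm_num
  obtain ⟨s, hsP, hs⟩ := exists_isSwap_mem_sylow (by rw [hX]; norm_num) P
  have hsR : s ∈ (MulAction.toPermHom G (G ⧸ centralizer ({t} : Set G))).range := by
    rw [← hPeq] at hsP
    obtain ⟨x, _, rfl⟩ := hsP
    exact ⟨x, rfl⟩
  -- primitivity
  haveI : MulAction.IsPretransitive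
      ↥(MulAction.toPermHom G (G ⧸ centralizer ({t} : Set G))).range
      (G ⧸ centralizer ({t} : Set G)) := by
    refine ⟨fun a b => ?_⟩
    obtain ⟨g, hg⟩ := MulAction.exists_smul_eq G a b
    exact ⟨⟨MulAction.toPermHom G _ g, ⟨g, rfl⟩⟩, hg⟩
  have hprim : MulAction.IsPreprimitive
      ↥(MulAction.toPermHom G (G ⧸ centralizer ({t} : Set G))).range
      (G ⧸ centralizer ({t} : Set G)) := by
    apply MulAction.IsPreprimitive.of_prime_card
    rw [Nat.card_eq_fintype_card, hX]; norm_num
  have htop := Equiv.Perm.subgroup_eq_top_of_isPreprimitive_of_isSwap_mem hprim s hs hsR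
  have hcr : Nat.card (MulAction.toPermHom G (G ⧸ centralizer ({t} : Set G))).range =
      Nat.card G := (Nat.card_congr (MonoidHom.ofInjective hinj).toEquiv).symm
  rw [htop, Subgroup.card_top, hPerm, hG] at hcr
  omega

end Cfsg.Agent.Lib.Helper55_S6Cases
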