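import Mathlib
import Cfsg.Agent.Lib.Helper55_S6Index2
import Cfsg.Agent.Lib.Helper55_A6Aut

/-!
# Groups with an involution centralizer `Z₂ × S₄` (helper55): the case `M ≅ A₆`

With the notation of `Helper55_S6Setup` and `M` of index `2` avoiding `t`: if `M ≅ A₆` then
`G ≅ S₆`.  Conjugation by `t` is an involutory automorphism of `M` fixing an element of order `3`,
hence maps a point stabilizer `A` to a point stabilizer; so `N_G(A)` has index `6` in `G`, and the
action on its cosets is faithful.
-/

set_option autoImplicit false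

namespace Cfsg.Agent.Lib.Helper55_S6Final

open Subgroup Cfsg.Agent.Lib.Helper55_Z2S4 Cfsg.Agent.Lib.Helper55_S6Setup
  Cfsg.Agent.Lib.Helper55_S6Index2 Cfsg.Agent.Lib.Helper55_A6Aut

section Generic

variable {G : Type*} [Group G] [Finite G]

/-- the normalizer in `G` of a subgroup of order `60` of the simple subgroup `M` of order `360` and
index `2`, when it is not contained in `M`, has order `120` -/
theorem card_normalizer_eq (M : Subgroup G) (hM : M.index = 2) (hsimple : IsSimpleGroup ↥M)
    (hc : Nat.card M = 360) (A' : Subgroup ↥M) (hA' : Nat.card A' = 60) (s : G) (hsM : s ∉ M)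
    (hsN : s ∈ normalizer ((A'.map M.subtype : Subgroup G) : Set G)) :
    Nat.card (normalizer ((A'.map M.subtype : Subgroup G) : Set G)) = 120 := by
  have : M.Normal := normal_of_index_eq_two hM
  obtain ⟨N, hN⟩ : ∃ N : Subgroup G, N = normalizer ((A'.map M.subtype : Subgroup G) : Set G) :=
    ⟨_, rfl⟩
  rw [← hN] at hsN ⊢
  have hAN : A'.map M.subtype ≤ N := by rw [hN]; exact le_normalizer
  have hA'N' : A' ≤ (N ⊓ M).subgroupOf M := by
    intro a ha
    rw [mem_subgroupOf]
    exact mem_inf.mpr ⟨hAN ⟨a, ha, rfl⟩, a.2⟩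
  have hne : (N ⊓ M).subgroupOf M ≠ ⊤ := by
    intro htop
    have hnorm : A'.Normal := by
      constructor
      intro a ha m
      have hm : (m : G) ∈ N := by
        have : m ∈ (N ⊓ M).subgroupOf M := by rw [htop]; exact mem_top m
        exact (mem_inf.mp (mem_subgroupOf.mp this)).1
      rw [hN] at hm
      have h1 := (mem_normalizer_iff.mp hm (a : G)).mp ⟨a, ha, rfl⟩
      obtain ⟨b, hb, hb'⟩ := h1
      have : b = m * a * m⁻¹ := Subtype.ext (by
        have hb'' : (b : G) = ↑m * ↑a * (↑m)⁻¹ := hb'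
        rw [hb'']; rfl)
      rw [← this]; exact hb
    rcases hnorm.eq_bot_or_eq_top with h | h
    · rw [h, card_bot] at hA'; omega
    · rw [h, card_top, hc] at hA'; omega
  have h60 : Nat.card ((N ⊓ M).subgroupOf M) = 60 := by
    have h1 := Cfsg.Agent.Lib.Helper55_Ord360.card_le_sixty hc _ hne
    have h2 := card_le_of_le hA'N'
    omega
  have h60' : Nat.card ↥(N ⊓ M) = 60 := by
    rw [← h60]
    exact (Nat.card_congr (subgroupOfEquivOfLe (inf_le_right : N ⊓ M ≤ M)).toEquiv).symm
  have hrel : M.relIndex N = 2 := by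
    have hdvd := relIndex_dvd_index_of_normal M N
    rw [hM] at hdvd
    rcases (Nat.dvd_prime Nat.prime_two).mp hdvd with h1 | h2
    · exact absurd (relIndex_eq_one.mp h1 hsN) hsM
    · exact h2
  have h := Cfsg.Agent.Lib.Helper55_Ord360.card_mul_relIndex' (inf_le_left : N ⊓ M ≤ N)
  rw [inf_relIndex_left, hrel, h60'] at h
  omega

end Generic

variable {G : Type*} [Group G] [Finite G] {t : G} (e : ↥(centralizer ({t} : Set G)) ≃* H)
  (M : Subgroup G) (hM : M.index = 2)

include hM in
/-- with a subgroup of order `120`, `G ≅ S₆` -/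
theorem nonempty_equiv_of_card_120 (ht : orderOf t = 2)
    (hCz : centralizer ({zG e} : Set G) = T0 e) (hsimple : IsSimpleGroup ↥M)
    (hc : Nat.card M = 360) (N : Subgroup G) (hN : Nat.card N = 120) :
    Nonempty (G ≃* Equiv.Perm (Fin 6)) := by
  classical
  have hG := card_G_of_card_M M hM 360 hc
  have hne : centralizer ({t} : Set G) ≠ ⊤ := by
    intro h
    have := card_centT e
    rw [h, Subgroup.card_top, hG] at this
    omega
  have hinj := toPermHom_injective_of_simple e M hM ht hCz hne hsimple N (by rw [hN, hc]; norm_num)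
  have h2 := N.card_mul_index
  rw [hN, hG] at h2
  have h3 : N.index = 6 := by omega
  have hX : Nat.card (G ⧸ N) = 6 := by rw [← Subgroup.index_eq_card, h3]
  have hbij : Function.Bijective (MulAction.toPermHom G (G ⧸ N)) := by
    apply hinj.bijective_of_nat_card_le
    rw [Nat.card_perm, hX, hG]
    norm_num [Nat.factorial]
  exact ⟨(MulEquiv.ofBijective _ hbij).trans (Equiv.permCongrHom (Finite.equivFinOfCardEq hX))⟩

include hM in
/-- the case `M ≅ A₆` -/
theorem case_A6 (ht : orderOf t = 2) (htM : t ∉ M)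
    (hCz : centralizer ({zG e} : Set G) = T0 e)
    (h : Nonempty (↥M ≃* ↥(alternatingGroup (Fin 6)))) : Nonempty (G ≃* Equiv.Perm (Fin 6)) := by
  classical
  obtain ⟨f⟩ := h
  have hMn : M.Normal := normal_of_index_eq_two hM
  have hc : Nat.card M = 360 := by rw [Nat.card_congr f.toEquiv, card_alt6]
  have hsA : IsSimpleGroup ↥(alternatingGroup (Fin 6)) :=
    alternatingGroup.isSimpleGroup (by rw [Nat.card_fin]; norm_num)
  have hsimple : IsSimpleGroup ↥M := f.isSimpleGroup
  have htt : t * t = 1 := by rw [← pow_two, ← ht]; exact pow_orderOf_eq_one t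
  -- the automorphism
  obtain ⟨c, hcdef⟩ : ∃ c : ↥M ≃* ↥M, c = MulAut.conjNormal t := ⟨_, rfl⟩
  have hc_apply : ∀ m : ↥M, ((c m : ↥M) : G) = t * m * t⁻¹ := by
    intro m; rw [hcdef]; exact MulAut.conjNormal_apply t m
  have hcc : ∀ m : ↥M, c (c m) = m := by
    intro m
    apply Subtype.ext
    rw [hc_apply, hc_apply]
    calc t * (t * (m : G) * t⁻¹) * t⁻¹ = (t * t) * (m : G) * (t * t)⁻¹ := by group
      _ = (m : G) := by rw [htt]; simp
  obtain ⟨φ, hφdef⟩ : ∃ φ : ↥(alternatingGroup (Fin 6)) ≃* ↥(alternatingGroup (Fin 6)),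
      φ = f.symm.trans (c.trans f) := ⟨_, rfl⟩
  have hφ_apply : ∀ m : ↥M, φ (f m) = f (c m) := by
    intro m; rw [hφdef]; simp
  have hφ : ∀ x, φ (φ x) = x := by
    intro x
    obtain ⟨m, rfl⟩ := f.surjective x
    rw [hφ_apply, hφ_apply, hcc]
  -- an element of order `3` fixed by `t`
  have hu3 : τ e uH * τ e uH * τ e uH = 1 := by
    rw [← map_mul, ← map_mul, u_rel.2, map_one]
  have hu1 : τ e uH ≠ 1 := fun h => u_rel.1 (τ_eq_one e h)
  have hu : τ e uH ∈ M := by
    have h1 : τ e uH = (τ e uH * τ e uH) ^ 2 := by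
      rw [pow_two]
      calc τ e uH = (τ e uH * τ e uH * τ e uH) * τ e uH := by rw [hu3, one_mul]
        _ = τ e uH * τ e uH * (τ e uH * τ e uH) := by group
    rw [h1]
    exact sq_mem_of_index_two hM _
  have huo : orderOf (τ e uH) = 3 :=
    orderOf_eq_prime (by rw [pow_succ, pow_two]; exact hu3) hu1
  have hut : t * τ e uH * t⁻¹ = τ e uH := by
    have := mem_centralizer_singleton_iff.mp (τ_mem e uH)
    rw [← this, mul_inv_cancel_right]
  have hh : orderOf (f ⟨τ e uH, hu⟩) = 3 := by
    rw [MulEquiv.orderOf_eq, ← Subgroup.orderOf_coe]; exact huo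
  have hfix : φ (f ⟨τ e uH, hu⟩) = f ⟨τ e uH, hu⟩ := by
    rw [hφ_apply]
    congr 1
    apply Subtype.ext
    rw [hc_apply]
    exact hut
  obtain ⟨i, j, hij⟩ := exists_point_stabilizers φ hφ _ hh hfix
  obtain ⟨σ, hσ⟩ := MulAction.exists_smul_eq (alternatingGroup (Fin 6)) j i
  -- the subgroup `A'`
  have hA' : Nat.card ((MulAction.stabilizer (alternatingGroup (Fin 6)) i).comap
      f.toMonoidHom) = 60 := by
    have : (MulAction.stabilizer (alternatingGroup (Fin 6)) i).comap f.toMonoidHom =
        (MulAction.stabilizer (alternatingGroup (Fin 6)) i).map f.symm.toMonoidHom :=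
      Subgroup.comap_equiv_eq_map_symm f _
    rw [this, Subgroup.card_map_of_injective f.symm.injective, card_stabilizer_alt6]
  have hsM : (f.symm σ : G) * t ∉ M := by
    intro h
    apply htM
    have := M.mul_mem (M.inv_mem (f.symm σ).2) h
    rwa [inv_mul_cancel_left] at this
  have hsN : (f.symm σ : G) * t ∈ normalizer
      ((((MulAction.stabilizer (alternatingGroup (Fin 6)) i).comap f.toMonoidHom).map
        M.subtype : Subgroup G) : Set G) := by
    apply mem_normalizer_of_forall_conj_mem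
    rintro _ ⟨m, hm, rfl⟩
    refine ⟨f.symm σ * c m * (f.symm σ)⁻¹, ?_, ?_⟩
    · show f (f.symm σ * c m * (f.symm σ)⁻¹) ∈ MulAction.stabilizer (alternatingGroup (Fin 6)) i
      rw [map_mul, map_mul, map_inv, f.apply_symm_apply, ← hφ_apply]
      rw [MulAction.mem_stabilizer_iff, mul_smul, mul_smul]
      have h1 : σ⁻¹ • i = j := by rw [← hσ, inv_smul_smul]
      have h2 : φ (f m) • j = j := hij (f m) hm
      rw [h1, h2, hσ]
    · show ((f.symm σ * c m * (f.symm σ)⁻¹ : ↥M) : G) =
        (f.symm σ : G) * t * (m : G) * ((f.symm σ : G) * t)⁻¹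
      rw [Subgroup.coe_mul, Subgroup.coe_mul, hc_apply, Subgroup.coe_inv]
      group
  have h120 := card_normalizer_eq M hM hsimple hc _ hA' _ hsM hsN
  exact nonempty_equiv_of_card_120 e M hM ht hCz hsimple hc _ h120

end Cfsg.Agent.Lib.Helper55_S6Final
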