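import Mathlib
import Cfsg.Prelude.Def_GeometricClasses
import Cfsg.Prelude.Def_LieClassical
import Cfsg.Agent.Lib.Helper13_Herm
import Cfsg.Agent.Lib.Helper13_GU
import Cfsg.Agent.Lib.Helper13_HermBridge
import Cfsg.Agent.Lib.Helper13_SU3Graph
import Cfsg.Agent.Lib.Helper54_SUTransfer

set_option autoImplicit false

/-!
# SU36-E5d, part (A): the Heisenberg normal form

A subgroup `R ≤ GL_3(F)`, `|F| = 25`, of order 27 and exponent 3 with centre of order 3, acting absolutely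
irreducibly and by similarities of the standard hermitian form, is conjugate by an element of `GU_3(5)` to
the standard Heisenberg group `{z^i Sh^j Dg^k}`, `Sh` the cyclic shift and `Dg = diag(1, z, z^2)`.

* `heis_normal_form`: for EVERY root `z` of `X^2 + X + 1` there is `g ∈ GU_3(5)` with
  `x ∈ R ↔ ∃ t, x = g * hm z t * g⁻¹`, where `hm z (i, j, k) = z^i • (Sh^j * Dg z^k)`.
* `E5d_of_std`: the statement SU36-E5d follows from the same statement for one standard Heisenberg group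
  (`IsStdHeis z H`), for one root `z`.
-/

namespace Cfsg.Agent.Lib.Helper55_SU36_E5dA

open Matrix Cfsg.Geo Cfsg.Agent.Lib.Helper13_Herm Cfsg.Agent.Lib.Helper13_GU
  Cfsg.Agent.Lib.Helper13_HermBridge

section mat
variable {F : Type*} [Field F]

/-- the cyclic shift `e_j ↦ e_{j+1}` -/
def Sh : Matrix (Fin 3) (Fin 3) F := Matrix.of fun i j => if i = j + 1 then 1 else 0

/-- `diag(1, z, z^2)` -/
def Dg (z : F) : Matrix (Fin 3) (Fin 3) F := Matrix.diagonal ![1, z, z ^ 2]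

/-- the matrix with the given columns -/
def colMat (v0 v1 v2 : Fin 3 → F) : Matrix (Fin 3) (Fin 3) F := Matrix.of fun i j => ![v0, v1, v2] j i

theorem mul_colMat (A : Matrix (Fin 3) (Fin 3) F) (v0 v1 v2 : Fin 3 → F) :
    A * colMat v0 v1 v2 = colMat (A *ᵥ v0) (A *ᵥ v1) (A *ᵥ v2) := by
  ext i j
  fin_cases j <;> simp [colMat, Matrix.mul_apply, Matrix.mulVec, dotProduct]

theorem colMat_mul_Sh (v0 v1 v2 : Fin 3 → F) : colMat v0 v1 v2 * Sh = colMat v1 v2 v0 := by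
  ext i j
  fin_cases j <;> simp [colMat, Sh, Matrix.mul_apply, Fin.sum_univ_three]

theorem colMat_mul_Dg (z : F) (v0 v1 v2 : Fin 3 → F) :
    colMat v0 v1 v2 * Dg z = colMat v0 (z • v1) (z ^ 2 • v2) := by
  ext i j
  fin_cases j <;> simp [colMat, Dg, Matrix.mul_apply, Fin.sum_univ_three, Matrix.diagonal_apply, mul_comm]

theorem gram_colMat (q : ℕ) (v0 v1 v2 : Fin 3 → F) :
    (colMat v0 v1 v2)ᵀ * (colMat v0 v1 v2).map (fun x => x ^ q) =
      Matrix.of fun a b => Cfsg.hermForm 3 F q (![v0, v1, v2] a) (![v0, v1, v2] b) := by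
  ext a b
  simp only [Matrix.mul_apply, Matrix.transpose_apply, Matrix.map_apply, colMat, Matrix.of_apply,
    Cfsg.hermForm]

end mat

section frame
variable {F : Type*} [Field F] [Fintype F]

theorem five_eq_zero (hF : Fintype.card F = 5 ^ 2) : (5 : F) = 0 := by
  have h := Nat.cast_card_eq_zero F
  rw [hF] at h
  have h2 : ((5 : F)) ^ 2 = 0 := by exact_mod_cast h
  exact (pow_eq_zero_iff (by norm_num)).mp h2

theorem three_ne_zero_F (hF : Fintype.card F = 5 ^ 2) : (3 : F) ≠ 0 := by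
  intro h3
  have h5 := five_eq_zero hF
  have : (1 : F) = 0 := by linear_combination 2 * h3 - h5
  exact one_ne_zero this

omit [Fintype F] in
/-- a vector fixed by `A` -/
theorem exists_fixed {A B : Matrix (Fin 3) (Fin 3) F} {ω : F} (hω : ω ^ 2 + ω + 1 = 0)
    (hA3 : ∀ x, A *ᵥ (A *ᵥ (A *ᵥ x)) = x) (hB3 : ∀ x, B *ᵥ (B *ᵥ (B *ᵥ x)) = x)
    (hAB : ∀ x, A *ᵥ (B *ᵥ x) = ω • (B *ᵥ (A *ᵥ x))) :
    ∃ v : Fin 3 → F, v ≠ 0 ∧ A *ᵥ v = v := by
  have hω3 : ω ^ 3 = 1 := by linear_combination (ω - 1) * hω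
  obtain ⟨u, hu⟩ : ∃ u : Fin 3 → F, u ≠ 0 := ⟨Pi.single 0 1, by
    intro h
    have := congrFun h 0
    simp at this⟩
  by_cases hp : u + A *ᵥ u + A *ᵥ (A *ᵥ u) = 0
  · by_cases h1 : A *ᵥ u - ω ^ 2 • u = 0
    · refine ⟨B *ᵥ u, ?_, ?_⟩
      · intro h
        apply hu
        rw [← hB3 u, h]
        simp
      · rw [hAB, sub_eq_zero.mp h1, Matrix.mulVec_smul, smul_smul, ← pow_succ', hω3, one_smul]
    · refine ⟨B *ᵥ (B *ᵥ (A *ᵥ u - ω ^ 2 • u)), ?_, ?_⟩
      · intro h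
        apply h1
        rw [← hB3 (A *ᵥ u - ω ^ 2 • u), h]
        simp
      · have h2 : A *ᵥ (A *ᵥ u - ω ^ 2 • u) = ω • (A *ᵥ u - ω ^ 2 • u) := by
          rw [Matrix.mulVec_sub, Matrix.mulVec_smul]
          have h3 : A *ᵥ (A *ᵥ u) = -u - A *ᵥ u := by
            linear_combination (norm := module) hp
          rw [h3]
          have h4 : (1 : F) = -ω ^ 2 - ω := by linear_combination hω
          have h5 : ω * ω ^ 2 = 1 := by rw [← pow_succ', hω3]
          rw [smul_sub, smul_smul, h5, one_smul]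
          have h6 : -u - A *ᵥ u - ω ^ 2 • A *ᵥ u = -u + (-ω ^ 2 - 1) • A *ᵥ u := by module
          rw [h6]
          have h7 : (-ω ^ 2 - 1 : F) = ω := by linear_combination -hω
          rw [h7]
          module
        rw [hAB, hAB, h2]
        simp only [Matrix.mulVec_smul, smul_smul]
        have h8 : ω * (ω * ω) = 1 := by linear_combination hω3
        rw [h8, one_smul]
  · refine ⟨_, hp, ?_⟩
    rw [Matrix.mulVec_add, Matrix.mulVec_add, hA3]
    abel

omit [Fintype F] in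
theorem omega_facts (h3 : (3 : F) ≠ 0) {ω : F} (hω : ω ^ 2 + ω + 1 = 0) :
    ω ^ 3 = 1 ∧ ω ≠ 1 ∧ ω ^ 2 ≠ 1 ∧ ω ≠ ω ^ 2 ∧ ω ≠ 0 := by
  refine ⟨by linear_combination (ω - 1) * hω, ?_, ?_, ?_, ?_⟩
  · rintro rfl
    apply h3
    linear_combination hω
  · intro h
    apply h3
    linear_combination (ω - 1) * h - (ω - 2) * hω
  · intro h
    apply h3
    linear_combination -(2 * ω + 1) * h - (2 * ω - 3) * hω
  · rintro rfl
    simp at hω

/-- an orthonormal frame adapted to a Heisenberg pair of unitary matrices -/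
theorem exists_frame (hF : Fintype.card F = 5 ^ 2) {A B : Matrix (Fin 3) (Fin 3) F} {ω : F}
    (hω : ω ^ 2 + ω + 1 = 0)
    (hA3 : A ^ 3 = 1) (hB3 : B ^ 3 = 1) (hAB : A * B = ω • (B * A))
    (hAu : ∀ u v, Cfsg.hermForm 3 F 5 (A *ᵥ u) (A *ᵥ v) = Cfsg.hermForm 3 F 5 u v)
    (hBu : ∀ u v, Cfsg.hermForm 3 F 5 (B *ᵥ u) (B *ᵥ v) = Cfsg.hermForm 3 F 5 u v) :
    ∃ M : Matrix (Fin 3) (Fin 3) F, Mᵀ * M.map (fun x => x ^ 5) = 1 ∧ A * M = M * Dg ω ∧
      B * M = M * Sh := by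
  have h3 := three_ne_zero_F hF
  obtain ⟨hω3, hω1, hω2, hωω, hω0⟩ := omega_facts h3 hω
  have hA3' : ∀ x, A *ᵥ (A *ᵥ (A *ᵥ x)) = x := by
    intro x
    rw [Matrix.mulVec_mulVec, Matrix.mulVec_mulVec, ← pow_two, ← pow_succ, hA3, Matrix.one_mulVec]
  have hB3' : ∀ x, B *ᵥ (B *ᵥ (B *ᵥ x)) = x := by
    intro x
    rw [Matrix.mulVec_mulVec, Matrix.mulVec_mulVec, ← pow_two, ← pow_succ, hB3, Matrix.one_mulVec]
  have hAB' : ∀ x, A *ᵥ (B *ᵥ x) = ω • (B *ᵥ (A *ᵥ x)) := by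
    intro x
    rw [Matrix.mulVec_mulVec, hAB, Matrix.smul_mulVec, ← Matrix.mulVec_mulVec]
  obtain ⟨v, hv0, hAv⟩ := exists_fixed hω hA3' hB3' hAB'
  obtain ⟨v₁, hv₁⟩ : ∃ v₁, v₁ = B *ᵥ v := ⟨_, rfl⟩
  obtain ⟨v₂, hv₂⟩ : ∃ v₂, v₂ = B *ᵥ v₁ := ⟨_, rfl⟩
  have hBv₂ : B *ᵥ v₂ = v := by rw [hv₂, hv₁, hB3']
  have hAv₁ : A *ᵥ v₁ = ω • v₁ := by rw [hv₁, hAB', hAv]
  have hAv₂ : A *ᵥ v₂ = ω ^ 2 • v₂ := by
    rw [hv₂, hAB', hAv₁, Matrix.mulVec_smul, smul_smul, pow_two]
  have hv₁0 : v₁ ≠ 0 := by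
    intro h
    apply hv0
    rw [← hB3' v, ← hv₁, h]
    simp
  have hv₂0 : v₂ ≠ 0 := by
    intro h
    apply hv0
    rw [← hB3' v, ← hv₁, ← hv₂, h]
    simp
  have hli : LinearIndependent F ![v, v₁, v₂] := by
    have hinj : Function.Injective ![(1 : F), ω, ω ^ 2] := by
      intro i j hij
      fin_cases i <;> fin_cases j
      · rfl
      · exact absurd (show (1 : F) = ω from hij).symm hω1
      · exact absurd (show (1 : F) = ω ^ 2 from hij).symm hω2
      · exact absurd (show ω = 1 from hij) hω1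
      · rfl
      · exact absurd (show ω = ω ^ 2 from hij) hωω
      · exact absurd (show ω ^ 2 = 1 from hij) hω2
      · exact absurd (show ω ^ 2 = ω from hij).symm hωω
      · rfl
    apply Module.End.eigenvectors_linearIndependent' (Matrix.toLin' A) ![1, ω, ω ^ 2] hinj
    intro i
    fin_cases i
    · refine ⟨?_, hv0⟩
      rw [Module.End.mem_eigenspace_iff]
      simpa using hAv
    · refine ⟨?_, hv₁0⟩
      rw [Module.End.mem_eigenspace_iff]
      simpa using hAv₁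
    · refine ⟨?_, hv₂0⟩
      rw [Module.End.mem_eigenspace_iff]
      simpa using hAv₂
  have hq5 : (5 : ℕ) ≠ 0 := by norm_num
  have hω5 : ω ^ 5 = ω ^ 2 := by
    rw [show (5 : ℕ) = 3 + 2 by norm_num, pow_add, hω3, one_mul]
  have hω10 : (ω ^ 2) ^ 5 = ω := by
    rw [← pow_mul, show 2 * 5 = 3 * 3 + 1 by norm_num, pow_add, pow_mul, hω3, one_pow, one_mul,
      pow_one]
  have h01 : Cfsg.hermForm 3 F 5 v v₁ = 0 := by
    have h := hAu v v₁
    rw [hAv, hAv₁, hermForm_smul_right, hω5] at h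
    have h' : (ω ^ 2 - 1) * Cfsg.hermForm 3 F 5 v v₁ = 0 := by linear_combination h
    rcases mul_eq_zero.mp h' with h'' | h''
    · exact absurd (sub_eq_zero.mp h'') hω2
    · exact h''
  have h02 : Cfsg.hermForm 3 F 5 v v₂ = 0 := by
    have h := hAu v v₂
    rw [hAv, hAv₂, hermForm_smul_right, hω10] at h
    have h' : (ω - 1) * Cfsg.hermForm 3 F 5 v v₂ = 0 := by linear_combination h
    rcases mul_eq_zero.mp h' with h'' | h''
    · exact absurd (sub_eq_zero.mp h'') hω1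
    · exact h''
  have h12 : Cfsg.hermForm 3 F 5 v₁ v₂ = 0 := by
    have h := hBu v v₁
    rw [← hv₁, ← hv₂] at h
    rw [h]
    exact h01
  have h10 : Cfsg.hermForm 3 F 5 v₁ v = 0 := by
    have h := hBu v v₂
    rw [← hv₁, hBv₂] at h
    rw [h]
    exact h02
  have h20 : Cfsg.hermForm 3 F 5 v₂ v = 0 := by
    have h := hBu v₁ v₂
    rw [← hv₂, hBv₂] at h
    rw [h]
    exact h12
  have h21 : Cfsg.hermForm 3 F 5 v₂ v₁ = 0 := by
    have h := hBu v₁ v
    rw [← hv₂, ← hv₁] at h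
    rw [h]
    exact h10
  have h11 : Cfsg.hermForm 3 F 5 v₁ v₁ = Cfsg.hermForm 3 F 5 v v := by
    have h := hBu v v
    rw [← hv₁] at h
    exact h
  have h22 : Cfsg.hermForm 3 F 5 v₂ v₂ = Cfsg.hermForm 3 F 5 v v := by
    have h := hBu v₁ v₁
    rw [← hv₂] at h
    rw [h, h11]
  have hn0 : Cfsg.hermForm 3 F 5 v v ≠ 0 := by
    intro hn
    have hspan : Submodule.span F (Set.range ![v, v₁, v₂]) = ⊤ :=
      hli.span_eq_top_of_card_eq_finrank' (by simp)
    let φ : (Fin 3 → F) →ₗ[F] F :=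
      { toFun := fun x => Cfsg.hermForm 3 F 5 x v
        map_add' := fun x y => hermForm_add_left 3 x y v
        map_smul' := fun a x => by simp [hermForm_smul_left] }
    have hker : Submodule.span F (Set.range ![v, v₁, v₂]) ≤ LinearMap.ker φ := by
      rw [Submodule.span_le]
      rintro _ ⟨i, rfl⟩
      fin_cases i
      · exact hn
      · exact h10
      · exact h20
    rw [hspan] at hker
    apply hv0
    ext i
    have h := hker (Submodule.mem_top : Pi.single i 1 ∈ (⊤ : Submodule F (Fin 3 → F)))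
    rw [LinearMap.mem_ker] at h
    change Cfsg.hermForm 3 F 5 (Pi.single i 1) v = 0 at h
    rw [hermForm_single_left] at h
    exact (pow_eq_zero_iff hq5).mp h
  have hnq : (Cfsg.hermForm 3 F 5 v v) ^ 5 = Cfsg.hermForm 3 F 5 v v := hermForm_pow_q 3 hF v v
  obtain ⟨μ, hμ⟩ := Cfsg.Agent.Lib.Helper13_SU3Graph.exists_norm_eq hF (inv_ne_zero hn0)
    (by rw [inv_pow, hnq])
  refine ⟨μ • colMat v v₁ v₂, ?_, ?_, ?_⟩
  · have hmap : (μ • colMat v v₁ v₂).map (fun x => x ^ 5) =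
        μ ^ 5 • (colMat v v₁ v₂).map (fun x => x ^ 5) := by
      ext i j
      simp [mul_pow]
    rw [hmap, Matrix.transpose_smul, Matrix.smul_mul, Matrix.mul_smul, smul_smul, gram_colMat, hμ]
    ext a b
    rw [Matrix.smul_apply, Matrix.of_apply, Matrix.one_apply]
    fin_cases a <;> fin_cases b <;>
      simp [h01, h02, h12, h10, h20, h21, h11, h22, inv_mul_cancel₀ hn0]
  · rw [Matrix.mul_smul, mul_colMat, hAv, hAv₁, hAv₂, Matrix.smul_mul, colMat_mul_Dg]
  · rw [Matrix.mul_smul, mul_colMat, ← hv₁, ← hv₂, hBv₂, Matrix.smul_mul, colMat_mul_Sh]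

end frame

section heis
variable {F : Type*} [Field F]

/-- the 27 matrices `z^i Sh^j Dg^k` -/
def hm (z : F) (t : Fin 3 × Fin 3 × Fin 3) : Matrix (Fin 3) (Fin 3) F :=
  z ^ (t.1 : ℕ) • (Sh ^ (t.2.1 : ℕ) * Dg z ^ (t.2.2 : ℕ))

theorem Sh_pow_apply (j r c : Fin 3) : (Sh ^ (j : ℕ) : Matrix (Fin 3) (Fin 3) F) r c = if r = c + j then 1 else 0 := by
  fin_cases j <;> fin_cases r <;> fin_cases c <;>
    simp [Sh, pow_succ, Matrix.mul_apply, Fin.sum_univ_three, Matrix.one_apply]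

theorem hm_col0 (z : F) (i j k r : Fin 3) :
    hm z (i, j, k) r 0 = if r = j then z ^ (i : ℕ) else 0 := by
  simp only [hm, Matrix.smul_apply, Matrix.mul_apply, Fin.sum_univ_three, Sh_pow_apply, Dg,
    Matrix.diagonal_pow, Matrix.diagonal_apply]
  fin_cases j <;> fin_cases r <;> simp

theorem hm_col1 (z : F) (i j k r : Fin 3) :
    hm z (i, j, k) r 1 = if r = j + 1 then z ^ (i : ℕ) * z ^ (k : ℕ) else 0 := by
  simp only [hm, Matrix.smul_apply, Matrix.mul_apply, Fin.sum_univ_three, Sh_pow_apply, Dg,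
    Matrix.diagonal_pow, Matrix.diagonal_apply]
  fin_cases j <;> fin_cases r <;> simp

theorem zpow_inj (h3 : (3 : F) ≠ 0) {z : F} (hz : z ^ 2 + z + 1 = 0) (i i' : Fin 3)
    (h : z ^ (i : ℕ) = z ^ (i' : ℕ)) : i = i' := by
  obtain ⟨hz3, hz1, hz2, hzz, hz0⟩ := omega_facts h3 hz
  fin_cases i <;> fin_cases i'
  · rfl
  · have h' : z ^ 0 = z ^ 1 := h
    rw [pow_zero, pow_one] at h'
    exact absurd h'.symm hz1
  · have h' : z ^ 0 = z ^ 2 := h
    rw [pow_zero] at h'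
    exact absurd h'.symm hz2
  · have h' : z ^ 1 = z ^ 0 := h
    rw [pow_zero, pow_one] at h'
    exact absurd h' hz1
  · rfl
  · have h' : z ^ 1 = z ^ 2 := h
    rw [pow_one] at h'
    exact absurd h' hzz
  · have h' : z ^ 2 = z ^ 0 := h
    rw [pow_zero] at h'
    exact absurd h' hz2
  · have h' : z ^ 2 = z ^ 1 := h
    rw [pow_one] at h'
    exact absurd h'.symm hzz
  · rfl

theorem hm_injective (h3 : (3 : F) ≠ 0) {z : F} (hz : z ^ 2 + z + 1 = 0) :
    Function.Injective (hm z) := by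
  obtain ⟨hz3, hz1, hz2, hzz, hz0⟩ := omega_facts h3 hz
  rintro ⟨i, j, k⟩ ⟨i', j', k'⟩ h
  have e0 := congrFun (congrFun h j) 0
  rw [hm_col0, hm_col0, if_pos rfl] at e0
  have hj : j = j' := by
    by_contra hne
    rw [if_neg hne] at e0
    exact pow_ne_zero _ hz0 e0
  subst hj
  rw [if_pos rfl] at e0
  have hi := zpow_inj h3 hz i i' e0
  subst hi
  have e1 := congrFun (congrFun h (j + 1)) 1
  rw [hm_col1, hm_col1, if_pos rfl, if_pos rfl] at e1
  have hk := zpow_inj h3 hz k k' (mul_left_cancel₀ (pow_ne_zero _ hz0) e1)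
  subst hk
  rfl

end heis

section group
variable {F : Type*} [Field F] [Fintype F]

/-- the matrix of an element of `R` -/
def matHom (R : Subgroup (GL (Fin 3) F)) : R →* Matrix (Fin 3) (Fin 3) F :=
  (Units.coeHom (Matrix (Fin 3) (Fin 3) F)).comp R.subtype

omit [Fintype F] in
theorem matHom_apply (R : Subgroup (GL (Fin 3) F)) (x : R) :
    matHom R x = ((x : GL (Fin 3) F) : Matrix (Fin 3) (Fin 3) F) := rfl

omit [Fintype F] in
theorem matHom_injective (R : Subgroup (GL (Fin 3) F)) : Function.Injective (matHom R) := by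
  intro x y h
  exact Subtype.ext (Units.ext h)

/-- elements of order dividing 3 in the similarity group are isometries -/
theorem unitary_of_cube (hF : Fintype.card F = 5 ^ 2) {x : GL (Fin 3) F}
    (hx : x ∈ similarityGroup (Cfsg.hermForm 3 F 5)) (hx3 : x ^ 3 = 1) :
    ∀ u v, Cfsg.hermForm 3 F 5 (x.1 *ᵥ u) (x.1 *ᵥ v) = Cfsg.hermForm 3 F 5 u v := by
  obtain ⟨c, hc⟩ := hx
  have hx3' : ∀ y, x.1 *ᵥ (x.1 *ᵥ (x.1 *ᵥ y)) = y := by
    intro y
    have h := congrArg (fun g : GL (Fin 3) F => (g : Matrix (Fin 3) (Fin 3) F)) hx3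
    simp only [Units.val_pow_eq_pow_val, Units.val_one] at h
    rw [Matrix.mulVec_mulVec, Matrix.mulVec_mulVec, ← pow_two, ← pow_succ, h, Matrix.one_mulVec]
  have he : Cfsg.hermForm 3 F 5 (Pi.single 0 1) (Pi.single (0 : Fin 3) (1 : F)) = 1 := by
    rw [hermForm_single_left]
    simp
  have hc3 : (c : F) ^ 3 = 1 := by
    have h := hc (x.1 *ᵥ (x.1 *ᵥ Pi.single 0 1)) (x.1 *ᵥ (x.1 *ᵥ Pi.single 0 1))
    rw [hx3', hc, hc, he] at h
    linear_combination -h
  have hc5 : (c : F) ^ 5 = c := by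
    have h := hc (Pi.single 0 1) (Pi.single 0 1)
    rw [he, mul_one] at h
    rw [← h]
    exact hermForm_pow_q 3 hF _ _
  have hc1 : (c : F) = 1 := by
    have hc0 : (c : F) ≠ 0 := c.ne_zero
    have h4 : (c : F) ^ 4 = 1 := by
      apply mul_left_cancel₀ hc0
      linear_combination hc5
    calc (c : F) = c * (c : F) ^ 3 := by rw [hc3, mul_one]
      _ = 1 := by rw [← h4]; ring
  intro u v
  rw [hc, hc1, one_mul]

/-- a pair in `R` with commutator the scalar `z` -/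
theorem exists_pair (hF : Fintype.card F = 5 ^ 2) (R : Subgroup (GL (Fin 3) F))
    (hR : IsSymplecticTypeGroup 3 R) (hirr : ActsAbsolutelyIrreducibly (matrixSet R))
    (hRc : Nat.card R = 27) (hZ : Nat.card (Subgroup.center R) = 3)
    {z : F} (hz : z ^ 2 + z + 1 = 0) :
    ∃ a b : R, matHom R a * matHom R b = z • (matHom R b * matHom R a) := by
  have h3 := three_ne_zero_F hF
  obtain ⟨hz3, hz1, hz2, hzz, hz0⟩ := omega_facts h3 hz
  have : Finite R := Nat.finite_of_card_ne_zero (by rw [hRc]; norm_num)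
  have hexp : ∀ x : R, x ^ 3 = 1 := by
    intro x
    have h := Monoid.pow_exponent_eq_one x
    rw [hR.exponent_eq] at h
    have h' : 3 * Nat.gcd 2 3 = 3 := by norm_num
    rwa [h'] at h
  obtain ⟨a, b, hab⟩ : ∃ a b : R, a * b ≠ b * a := by
    by_contra hcon
    push Not at hcon
    have hc : Subgroup.center R = ⊤ := by
      rw [Subgroup.eq_top_iff']
      intro x
      rw [Subgroup.mem_center_iff]
      intro y
      exact hcon y x
    rw [hc, Subgroup.card_top, hRc] at hZ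
    norm_num at hZ
  have hcomm : a * b * a⁻¹ * b⁻¹ ∈ Subgroup.center R := by
    have hq : Nat.card (R ⧸ Subgroup.center R) = 3 ^ 2 := by
      have h := Subgroup.card_eq_card_quotient_mul_card_subgroup (Subgroup.center R)
      rw [hRc, hZ] at h
      omega
    have : Fact (Nat.Prime 3) := ⟨by norm_num⟩
    have hc := IsPGroup.isMulCommutative_of_card_eq_prime_sq hq
    rw [← QuotientGroup.eq_one_iff]
    simp only [QuotientGroup.mk_mul, QuotientGroup.mk_inv]
    rw [mul_comm' (a : R ⧸ Subgroup.center R) (b : R ⧸ Subgroup.center R)]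
    group
  obtain ⟨w, hw⟩ : ∃ w : R, w = a * b * a⁻¹ * b⁻¹ := ⟨_, rfl⟩
  rw [← hw] at hcomm
  have hwba : w * b * a = a * b := by rw [hw]; group
  obtain ⟨ω, hω⟩ := hirr.2 (matHom R w) (by
    rintro s ⟨r, hr, rfl⟩
    have h := (Subgroup.mem_center_iff.mp hcomm) ⟨r, hr⟩
    have h' := congrArg (matHom R) h
    rw [map_mul, map_mul] at h'
    exact h'.symm)
  have hω3 : ω ^ 3 = 1 := by
    have h := congrArg (matHom R) (hexp w)
    rw [map_pow, map_one, hω, smul_pow, one_pow] at h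
    have h' := congrFun (congrFun h 0) 0
    simpa using h'
  have hω1 : ω ≠ 1 := by
    rintro rfl
    rw [one_smul, ← map_one (matHom R)] at hω
    have h1 : w = 1 := matHom_injective R hω
    apply hab
    rw [← hwba, h1, one_mul]
  have hω2 : ω ^ 2 + ω + 1 = 0 := by
    have h : (ω - 1) * (ω ^ 2 + ω + 1) = 0 := by linear_combination hω3
    rcases mul_eq_zero.mp h with h' | h'
    · exact absurd (sub_eq_zero.mp h') hω1
    · exact h'
  have hAB : matHom R a * matHom R b = ω • (matHom R b * matHom R a) := by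
    have h := congrArg (matHom R) hwba
    rw [map_mul, map_mul, map_mul, hω, mul_assoc, Matrix.smul_mul, one_mul] at h
    exact h.symm
  have hcase : (ω - z) * (ω - z ^ 2) = 0 := by
    linear_combination hω2 + (-ω + z - 1) * hz
  rcases mul_eq_zero.mp hcase with h | h
  · refine ⟨a, b, ?_⟩
    rw [hAB, sub_eq_zero.mp h]
  · refine ⟨a, b * b, ?_⟩
    have hω' : ω = z ^ 2 := sub_eq_zero.mp h
    rw [map_mul, ← mul_assoc, hAB, Matrix.smul_mul, mul_assoc, hAB, Matrix.mul_smul, smul_smul,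
      ← mul_assoc, hω']
    congr 1
    linear_combination z * hz3

/-- **Heisenberg normal form.** -/
theorem heis_normal_form (hF : Fintype.card F = 5 ^ 2) (R : Subgroup (GL (Fin 3) F))
    (hR : IsSymplecticTypeGroup 3 R) (hirr : ActsAbsolutelyIrreducibly (matrixSet R))
    (hsim : R ≤ similarityGroup (Cfsg.hermForm 3 F 5))
    (hRc : Nat.card R = 27) (hZ : Nat.card (Subgroup.center R) = 3)
    {z : F} (hz : z ^ 2 + z + 1 = 0) :
    ∃ g : GL (Fin 3) F, g ∈ Cfsg.GU 3 F 5 ∧ ∀ x : GL (Fin 3) F, x ∈ R ↔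
      ∃ t : Fin 3 × Fin 3 × Fin 3, (x : Matrix (Fin 3) (Fin 3) F) =
        (g : Matrix (Fin 3) (Fin 3) F) * hm z t * ((g⁻¹ : GL (Fin 3) F) : Matrix (Fin 3) (Fin 3) F) := by
  have h3 := three_ne_zero_F hF
  obtain ⟨hz3, hz1, hz2, hzz, hz0⟩ := omega_facts h3 hz
  have hfin : Finite R := Nat.finite_of_card_ne_zero (by rw [hRc]; norm_num)
  have hexp : ∀ x : R, x ^ 3 = 1 := by
    intro x
    have h := Monoid.pow_exponent_eq_one x
    rw [hR.exponent_eq] at h
    have h' : 3 * Nat.gcd 2 3 = 3 := by norm_num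
    rwa [h'] at h
  have hexpM : ∀ x : R, matHom R x ^ 3 = 1 := by
    intro x
    rw [← map_pow, hexp, map_one]
  have huni : ∀ x : R, ∀ u v, Cfsg.hermForm 3 F 5 (matHom R x *ᵥ u) (matHom R x *ᵥ v) =
      Cfsg.hermForm 3 F 5 u v := by
    intro x
    apply unitary_of_cube hF (hsim x.2)
    have h := congrArg (Subgroup.subtype R) (hexp x)
    simpa using h
  obtain ⟨a, b, hAB⟩ := exists_pair hF R hR hirr hRc hZ hz
  obtain ⟨M, hM, hAM, hBM⟩ := exists_frame hF hz (hexpM a) (hexpM b) hAB (huni a) (huni b)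
  obtain ⟨g, hg⟩ : ∃ g : GL (Fin 3) F, g = gramGL M hM := ⟨_, rfl⟩
  have hgM : (g : Matrix (Fin 3) (Fin 3) F) = M := by rw [hg]; rfl
  have hgi : M * ((g⁻¹ : GL (Fin 3) F) : Matrix (Fin 3) (Fin 3) F) = 1 := by
    rw [← hgM, ← Units.val_mul, mul_inv_cancel, Units.val_one]
  have hgi' : ((g⁻¹ : GL (Fin 3) F) : Matrix (Fin 3) (Fin 3) F) * M = 1 := by
    rw [← hgM, ← Units.val_mul, inv_mul_cancel, Units.val_one]
  -- the scalar `z` as an element of `R`
  obtain ⟨w, hw⟩ : ∃ w : R, w = a * b * a⁻¹ * b⁻¹ := ⟨_, rfl⟩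
  have hwM : matHom R w = z • 1 := by
    have hwba : w * (b * a) = a * b := by rw [hw]; group
    have h := congrArg (matHom R) hwba
    rw [map_mul, map_mul, map_mul, hAB] at h
    have hinv : (matHom R b * matHom R a) * matHom R (b * a)⁻¹ = 1 := by
      rw [← map_mul, ← map_mul, mul_inv_cancel, map_one]
    calc matHom R w = matHom R w * ((matHom R b * matHom R a) * matHom R (b * a)⁻¹) := by
          rw [hinv, mul_one]
      _ = (matHom R w * (matHom R b * matHom R a)) * matHom R (b * a)⁻¹ := (mul_assoc _ _ _).symm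
      _ = z • 1 := by rw [h, Matrix.smul_mul, hinv]
  -- the parametrization
  obtain ⟨ψ, hψ⟩ : ∃ ψ : Fin 3 × Fin 3 × Fin 3 → R,
      ψ = fun t => w ^ (t.1 : ℕ) * b ^ (t.2.1 : ℕ) * a ^ (t.2.2 : ℕ) := ⟨_, rfl⟩
  have hψM : ∀ t, matHom R (ψ t) = M * hm z t * ((g⁻¹ : GL (Fin 3) F) : Matrix (Fin 3) (Fin 3) F) := by
    intro t
    have hB : ∀ n : ℕ, matHom R b ^ n * M = M * Sh ^ n := by
      intro n
      have h : SemiconjBy M Sh (matHom R b) := hBM.symm
      exact (h.pow_right n).symm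
    have hA : ∀ n : ℕ, matHom R a ^ n * M = M * Dg z ^ n := by
      intro n
      have h : SemiconjBy M (Dg z) (matHom R a) := hAM.symm
      exact (h.pow_right n).symm
    have h1 : matHom R (ψ t) * M = M * hm z t := by
      rw [hψ]
      simp only [map_mul, map_pow, hwM, hm]
      rw [smul_pow, one_pow, mul_assoc, mul_assoc, hA, ← mul_assoc (matHom R b ^ _), hB,
        Matrix.smul_mul, one_mul, Matrix.mul_smul, mul_assoc]
    calc matHom R (ψ t) = matHom R (ψ t) * (M * ((g⁻¹ : GL (Fin 3) F) : Matrix (Fin 3) (Fin 3) F)) := by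
          rw [hgi, mul_one]
      _ = M * hm z t * ((g⁻¹ : GL (Fin 3) F) : Matrix (Fin 3) (Fin 3) F) := by
          rw [← mul_assoc, h1]
  have hψinj : Function.Injective ψ := by
    intro t t' h
    apply hm_injective h3 hz
    have h' := congrArg (matHom R) h
    rw [hψM, hψM] at h'
    have h'' : ((g⁻¹ : GL (Fin 3) F) : Matrix (Fin 3) (Fin 3) F) *
        (M * hm z t * ((g⁻¹ : GL (Fin 3) F) : Matrix (Fin 3) (Fin 3) F)) * M =
        ((g⁻¹ : GL (Fin 3) F) : Matrix (Fin 3) (Fin 3) F) *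
        (M * hm z t' * ((g⁻¹ : GL (Fin 3) F) : Matrix (Fin 3) (Fin 3) F)) * M := by rw [h']
    rw [mul_assoc, mul_assoc, hgi', mul_one, ← mul_assoc, hgi', one_mul] at h''
    rw [mul_assoc, mul_assoc, hgi', mul_one, ← mul_assoc, hgi', one_mul] at h''
    exact h''
  have hψbij : Function.Bijective ψ := by
    apply hψinj.bijective_of_nat_card_le
    rw [hRc]
    simp
  refine ⟨g, by rw [hg]; exact gramGL_mem hF M hM, fun x => ⟨fun hx => ?_, fun hx => ?_⟩⟩
  · obtain ⟨t, ht⟩ := hψbij.2 ⟨x, hx⟩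
    refine ⟨t, ?_⟩
    rw [hgM, ← hψM, ht]
    rfl
  · obtain ⟨t, ht⟩ := hx
    rw [hgM, ← hψM] at ht
    have : x = ((ψ t : R) : GL (Fin 3) F) := Units.ext ht
    rw [this]
    exact (ψ t).2

/-- `H` is the standard Heisenberg group `{z^i Sh^j Dg^k}` -/
def IsStdHeis (z : F) (H : Subgroup (GL (Fin 3) F)) : Prop :=
  ∀ x : GL (Fin 3) F, x ∈ H ↔
    ∃ t : Fin 3 × Fin 3 × Fin 3, (x : Matrix (Fin 3) (Fin 3) F) = hm z t

omit [Fintype F] in
theorem SU_conj_iff {g : GL (Fin 3) F} (hg : g ∈ Cfsg.GU 3 F 5) (x : GL (Fin 3) F) :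
    x ∈ Cfsg.GU 3 F 5 ⊓ specialLinear (Fin 3) F ↔
      g⁻¹ * x * g⁻¹⁻¹ ∈ Cfsg.GU 3 F 5 ⊓ specialLinear (Fin 3) F := by
  have hn : (specialLinear (Fin 3) F).Normal := by
    unfold specialLinear
    infer_instance
  rw [inv_inv, Subgroup.mem_inf, Subgroup.mem_inf]
  constructor
  · rintro ⟨h1, h2⟩
    refine ⟨mul_mem (mul_mem (inv_mem hg) h1) hg, ?_⟩
    have := hn.conj_mem x h2 g⁻¹
    rwa [inv_inv] at this
  · rintro ⟨h1, h2⟩
    have e : x = g * (g⁻¹ * x * g) * g⁻¹ := by group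
    rw [e]
    exact ⟨mul_mem (mul_mem hg h1) (inv_mem hg), hn.conj_mem _ h2 g⟩

/-- **SU36-E5d from the standard case.** -/
theorem E5d_of_std (hF : Fintype.card F = 5 ^ 2) {z : F} (hz : z ^ 2 + z + 1 = 0)
    (hstd : ∀ H : Subgroup (GL (Fin 3) F), IsStdHeis z H →
      ¬ IsMaximalIn (Cfsg.GU 3 F 5 ⊓ specialLinear (Fin 3) F)
        (subgroupNormalizer H ⊓ (Cfsg.GU 3 F 5 ⊓ specialLinear (Fin 3) F)))
    (R : Subgroup (GL (Fin 3) F)) (hR : IsSymplecticTypeGroup 3 R)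
    (hirr : ActsAbsolutelyIrreducibly (matrixSet R))
    (hsim : R ≤ similarityGroup (Cfsg.hermForm 3 F 5))
    (hRc : Nat.card R = 27) (hZ : Nat.card (Subgroup.center R) = 3) :
    ¬ IsMaximalIn (Cfsg.GU 3 F 5 ⊓ specialLinear (Fin 3) F)
      (subgroupNormalizer R ⊓ (Cfsg.GU 3 F 5 ⊓ specialLinear (Fin 3) F)) := by
  obtain ⟨g, hgU, hgR⟩ := heis_normal_form hF R hR hirr hsim hRc hZ hz
  have hgi : (g : Matrix (Fin 3) (Fin 3) F) * ((g⁻¹ : GL (Fin 3) F) : Matrix (Fin 3) (Fin 3) F) = 1 := by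
    rw [← Units.val_mul, mul_inv_cancel, Units.val_one]
  have hgi' : ((g⁻¹ : GL (Fin 3) F) : Matrix (Fin 3) (Fin 3) F) * (g : Matrix (Fin 3) (Fin 3) F) = 1 := by
    rw [← Units.val_mul, inv_mul_cancel, Units.val_one]
  intro hmax
  have hH : IsStdHeis z (R.map (MulAut.conj g⁻¹).toMonoidHom) := by
    intro x
    constructor
    · rintro ⟨r, hr, rfl⟩
      obtain ⟨t, ht⟩ := (hgR r).1 hr
      refine ⟨t, ?_⟩
      change ((g⁻¹ * r * g⁻¹⁻¹ : GL (Fin 3) F) : Matrix (Fin 3) (Fin 3) F) = hm z t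
      rw [inv_inv, Units.val_mul, Units.val_mul, ht]
      calc ((g⁻¹ : GL (Fin 3) F) : Matrix (Fin 3) (Fin 3) F) *
            ((g : Matrix (Fin 3) (Fin 3) F) * hm z t * ((g⁻¹ : GL (Fin 3) F) : Matrix (Fin 3) (Fin 3) F)) *
            (g : Matrix (Fin 3) (Fin 3) F)
          = (((g⁻¹ : GL (Fin 3) F) : Matrix (Fin 3) (Fin 3) F) * (g : Matrix (Fin 3) (Fin 3) F)) * hm z t *
            (((g⁻¹ : GL (Fin 3) F) : Matrix (Fin 3) (Fin 3) F) * (g : Matrix (Fin 3) (Fin 3) F)) := by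
            simp only [mul_assoc]
        _ = hm z t := by rw [hgi', one_mul, mul_one]
    · rintro ⟨t, ht⟩
      refine ⟨g * x * g⁻¹, (hgR _).2 ⟨t, ?_⟩, ?_⟩
      · rw [Units.val_mul, Units.val_mul, ht]
      · change g⁻¹ * (g * x * g⁻¹) * g⁻¹⁻¹ = x
        group
  apply hstd _ hH
  have h1 := Cfsg.Agent.Lib.Helper54_SUTransfer.isMaximalIn_conj g⁻¹ (SU_conj_iff hgU) hmax
  have h2 : (subgroupNormalizer R ⊓ (Cfsg.GU 3 F 5 ⊓ specialLinear (Fin 3) F)).map
      (MulAut.conj g⁻¹).toMonoidHom =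
      subgroupNormalizer (R.map (MulAut.conj g⁻¹).toMonoidHom) ⊓
        (Cfsg.GU 3 F 5 ⊓ specialLinear (Fin 3) F) := by
    rw [Subgroup.map_inf_eq _ _ _ (MulAut.conj g⁻¹).injective]
    congr 1
    · exact Subgroup.map_equiv_normalizer_eq R (MulAut.conj g⁻¹)
    · ext x
      constructor
      · rintro ⟨y, hy, rfl⟩
        exact (SU_conj_iff hgU y).1 hy
      · intro hx
        refine ⟨g * x * g⁻¹, ?_, ?_⟩
        · rw [SetLike.mem_coe, SU_conj_iff hgU]
          have e : g⁻¹ * (g * x * g⁻¹) * g⁻¹⁻¹ = x := by group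
          rw [e]
          exact hx
        · change g⁻¹ * (g * x * g⁻¹) * g⁻¹⁻¹ = x
          group
  rw [h2] at h1
  exact h1

end group

end Cfsg.Agent.Lib.Helper55_SU36_E5dA
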