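import Mathlib
import Cfsg.Prelude.Def_GeometricClasses
import Cfsg.Prelude.Def_LieClassical
import Cfsg.Agent.Lib.Helper55_SU36_E5dA

set_option autoImplicit false

/-!
# SU36-E5d: glue between part (A) (`Helper55_SU36_E5dA`) and the announced shape of part (B)

Part (B) (helper71, message 3736) is stated with `!![0,0,1;1,0,0;0,1,0]`, `Matrix.diagonal ![1, z, z^2]` and
`∃ i j k : Fin 3`.  `E5d_of_heis_not_max` takes exactly that statement as a hypothesis and returns the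
conclusion of SU36-E5d.
-/

namespace Cfsg.Agent.Lib.Helper55_SU36_E5dGlue

open Matrix Cfsg.Geo Cfsg.Agent.Lib.Helper55_SU36_E5dA

variable {F : Type*} [Field F]

theorem Sh_eq : (Sh : Matrix (Fin 3) (Fin 3) F) = !![0, 0, 1; 1, 0, 0; 0, 1, 0] := by
  ext i j
  fin_cases i <;> fin_cases j <;> simp [Sh]

theorem hm_eq (z : F) (i j k : Fin 3) :
    hm z (i, j, k) = z ^ (i : ℕ) •
      ((!![0, 0, 1; 1, 0, 0; 0, 1, 0] : Matrix (Fin 3) (Fin 3) F) ^ (j : ℕ) *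
        (Matrix.diagonal ![1, z, z ^ 2]) ^ (k : ℕ)) := by
  rw [← Sh_eq]
  rfl

theorem isStdHeis_iff (z : F) (H : Subgroup (GL (Fin 3) F)) :
    IsStdHeis z H ↔ ∀ x : GL (Fin 3) F, x ∈ H ↔ ∃ i j k : Fin 3,
      (x : Matrix (Fin 3) (Fin 3) F) = z ^ (i : ℕ) •
        ((!![0, 0, 1; 1, 0, 0; 0, 1, 0] : Matrix (Fin 3) (Fin 3) F) ^ (j : ℕ) *
          (Matrix.diagonal ![1, z, z ^ 2]) ^ (k : ℕ)) := by
  unfold IsStdHeis
  apply forall_congr'
  intro x
  apply Iff.intro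
  · intro h
    rw [h]
    constructor
    · rintro ⟨⟨i, j, k⟩, ht⟩
      exact ⟨i, j, k, by rw [ht, hm_eq]⟩
    · rintro ⟨i, j, k, ht⟩
      exact ⟨(i, j, k), by rw [ht, hm_eq]⟩
  · intro h
    rw [h]
    constructor
    · rintro ⟨i, j, k, ht⟩
      exact ⟨(i, j, k), by rw [ht, hm_eq]⟩
    · rintro ⟨⟨i, j, k⟩, ht⟩
      exact ⟨i, j, k, by rw [ht, hm_eq]⟩

/-- SU36-E5d from part (B) in the shape announced by helper71 (for one root `z` of `X^2 + X + 1`). -/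
theorem E5d_of_heis_not_max [Fintype F] (hF : Fintype.card F = 5 ^ 2) (z : F) (hz : z ^ 2 + z + 1 = 0)
    (hB : ∀ H : Subgroup (GL (Fin 3) F),
      (∀ x : GL (Fin 3) F, x ∈ H ↔ ∃ i j k : Fin 3,
        (x : Matrix (Fin 3) (Fin 3) F) = z ^ (i : ℕ) •
          ((!![0, 0, 1; 1, 0, 0; 0, 1, 0] : Matrix (Fin 3) (Fin 3) F) ^ (j : ℕ) *
            (Matrix.diagonal ![1, z, z ^ 2]) ^ (k : ℕ))) →
      ¬ IsMaximalIn (Cfsg.GU 3 F 5 ⊓ specialLinear (Fin 3) F)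
        (subgroupNormalizer H ⊓ (Cfsg.GU 3 F 5 ⊓ specialLinear (Fin 3) F)))
    (R : Subgroup (GL (Fin 3) F)) (hR : IsSymplecticTypeGroup 3 R)
    (hirr : ActsAbsolutelyIrreducibly (matrixSet R))
    (hsim : R ≤ similarityGroup (Cfsg.hermForm 3 F 5))
    (hRc : Nat.card R = 27) (hZ : Nat.card (Subgroup.center R) = 3) :
    ¬ IsMaximalIn (Cfsg.GU 3 F 5 ⊓ specialLinear (Fin 3) F)
      (subgroupNormalizer R ⊓ (Cfsg.GU 3 F 5 ⊓ specialLinear (Fin 3) F)) :=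
  E5d_of_std hF hz (fun H hH => hB H ((isStdHeis_iff z H).1 hH)) R hR hirr hsim hRc hZ

/-- a root of `X^2 + X + 1` exists in a field with 25 elements -/
theorem exists_root [Fintype F] (hF : Fintype.card F = 5 ^ 2) : ∃ z : F, z ^ 2 + z + 1 = 0 := by
  classical
  obtain ⟨g, hg⟩ := IsCyclic.exists_generator (α := Fˣ)
  have hord : orderOf g = 24 := by
    rw [orderOf_eq_card_of_forall_mem_zpowers hg, Nat.card_eq_fintype_card, Fintype.card_units, hF]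
    norm_num
  have h3 := three_ne_zero_F hF
  refine ⟨((g ^ 8 : Fˣ) : F), ?_⟩
  have h1 : ((g ^ 8 : Fˣ) : F) ^ 3 = 1 := by
    rw [← Units.val_pow_eq_pow_val, ← pow_mul, show 8 * 3 = 24 by norm_num, ← hord, pow_orderOf_eq_one,
      Units.val_one]
  have h2 : ((g ^ 8 : Fˣ) : F) ≠ 1 := by
    intro h
    have h' : g ^ 8 = 1 := Units.ext h
    have := orderOf_dvd_of_pow_eq_one h'
    rw [hord] at this
    norm_num at this
  have h4 : (((g ^ 8 : Fˣ) : F) - 1) * (((g ^ 8 : Fˣ) : F) ^ 2 + ((g ^ 8 : Fˣ) : F) + 1) = 0 := by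
    linear_combination h1
  rcases mul_eq_zero.mp h4 with h5 | h5
  · exact absurd (sub_eq_zero.mp h5) h2
  · exact h5

end Cfsg.Agent.Lib.Helper55_SU36_E5dGlue
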