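import Mathlib
import Cfsg.Agent.Lib.Helper99_SUNDDefs
import Cfsg.Agent.Lib.Helper40_UCases
import Cfsg.Agent.Lib.Helper40_UExistMatrix
import Cfsg.Agent.Lib.Helper99_SpAtoms
import Cfsg.Agent.Lib.Helper55_SUND_PU1

set_option autoImplicit false

/-!
Structure of a semisimple isometry of odd prime order `r ≠ p` of a nondegenerate hermitian space over the
field with `q²` elements: orthogonal sum of atoms (of dimension `ord_r(-q)`) and an orthogonal basis of the
fixed space; all sub-sums are available (package PU2 of S5954).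
-/

namespace Cfsg.Agent.Lib.Helper99_SUND_PU2

open Polynomial Module
open Cfsg.Agent.Lib.Helper40_SpBasic Cfsg.Agent.Lib.Helper40_UBasic Cfsg.Agent.Lib.Helper99_SUNDDefs
  Cfsg.Agent.Lib.Helper94_Herm Cfsg.Agent.Lib.Helper99_SpAtoms

universe u

section basic

variable {K : Type*} [Field K] {σ : K →+* K} {V : Type*} [AddCommGroup V] [Module K V]
variable {B : V →ₗ[K] V →ₛₗ[σ] K}

theorem und_sup (hrefl : ∀ x y, B x y = 0 → B y x = 0) {Z Z' : Submodule K V} (hZ : UNDOn B Z)
    (hZ' : UNDOn B Z') (h : ∀ u ∈ Z, ∀ v ∈ Z', B u v = 0) : UNDOn B (Z ⊔ Z') := by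
  intro x hx hxy
  obtain ⟨z, hz, z', hz', rfl⟩ := Submodule.mem_sup.1 hx
  have h1 : z = 0 := by
    apply hZ z hz
    intro y hy
    have := hxy y (Submodule.mem_sup_left hy)
    rw [map_add, LinearMap.add_apply, hrefl _ _ (h y hy z' hz'), add_zero] at this
    exact this
  have h2 : z' = 0 := by
    apply hZ' z' hz'
    intro y hy
    have := hxy y (Submodule.mem_sup_right hy)
    rw [map_add, LinearMap.add_apply, h z hz y hy, zero_add] at this
    exact this
  rw [h1, h2, add_zero]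

theorem disjoint_of_orth' (hrefl : ∀ x y, B x y = 0 → B y x = 0) {Z Z' : Submodule K V}
    (hZ : UNDOn B Z) (h : ∀ u ∈ Z, ∀ v ∈ Z', B u v = 0) : Disjoint Z Z' := by
  rw [Submodule.disjoint_def]
  intro x hx hx'
  apply hZ x hx
  intro y hy
  exact hrefl _ _ (h y hy x hx')

theorem inv_sup' {T : Module.End K V} {Z Z' : Submodule K V} (hZ : Inv T Z) (hZ' : Inv T Z') :
    Inv T (Z ⊔ Z') := by
  intro x hx
  obtain ⟨z, hz, z', hz', rfl⟩ := Submodule.mem_sup.1 hx
  rw [map_add]
  exact Submodule.add_mem_sup (hZ z hz) (hZ' z' hz')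

theorem inv_map_subtype {T : Module.End K V} {Y : Submodule K V} (hY : ∀ x ∈ Y, T x ∈ Y)
    {W : Submodule K Y} (hW : Inv (T.restrict hY) W) : Inv T (W.map Y.subtype) := by
  rintro _ ⟨w, hw, rfl⟩
  exact ⟨(T.restrict hY) w, hW w hw, rfl⟩

theorem und_map_subtype {Y : Submodule K V} {W : Submodule K Y} (hW : UNDOn (UData.res B Y) W) :
    UNDOn B (W.map Y.subtype) := by
  rintro _ ⟨w, hw, rfl⟩ hxy
  have : w = 0 := by
    apply hW w hw
    intro y hy
    rw [UData.res_apply]
    exact hxy _ ⟨y, hy, rfl⟩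
  rw [this, map_zero]

end basic

section lines

variable {K : Type u} [Field K] [Finite K] {σ : K →+* K}

/-- nondegenerate subspaces of every dimension in a nondegenerate hermitian space -/
theorem exists_und_sub (hσ : Invol σ) :
    ∀ (d : ℕ) {V : Type u} [AddCommGroup V] [Module K V] [FiniteDimensional K V]
      (B : V →ₗ[K] V →ₛₗ[σ] K), finrank K V = d → (∀ x y, B y x = σ (B x y)) → UND B →
      ∀ e' : ℕ, e' ≤ d → ∃ W : Submodule K V, UNDOn B W ∧ finrank K W = e' := by
  intro d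
  induction d with
  | zero =>
    intro V _ _ _ B _ _ _ e' he'
    refine ⟨⊥, ?_, by rw [finrank_bot]; omega⟩
    intro x hx _
    rwa [Submodule.mem_bot] at hx
  | succ d ih =>
    intro V _ _ _ B hd hherm hB e' he'
    rcases Nat.eq_zero_or_pos e' with h0 | hpos
    · refine ⟨⊥, ?_, by rw [finrank_bot]; omega⟩
      intro x hx _
      rwa [Submodule.mem_bot] at hx
    have hU := Cfsg.Agent.Lib.Helper40_UExistMatrix.uData_one σ B hσ.invol hherm
    have hrefl : ∀ x y, B x y = 0 → B y x = 0 := fun x y h => hU.eq_zero h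
    -- a non-isotropic vector
    have hV : ∃ v : V, v ≠ 0 := by
      by_contra hcon
      push Not at hcon
      have : Subsingleton V := ⟨fun a b => by rw [hcon a, hcon b]⟩
      have := finrank_zero_of_subsingleton (R := K) (M := V)
      omega
    obtain ⟨v₀, hv₀⟩ := hV
    have hnd : NondegOn B ⊤ := by
      intro x _ hx0
      by_contra hcon
      push Not at hcon
      exact hx0 (hB x (fun y => hcon y trivial))
    obtain ⟨v, -, hv⟩ := exists_aniso hσ hherm hnd (Submodule.mem_top : v₀ ∈ ⊤) hv₀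
    have hv0 : v ≠ 0 := by
      rintro rfl
      apply hv
      simp
    set P : Submodule K V := Submodule.span K {v} with hP
    have hPnd : UNDOn B P := by
      intro x hx hxy
      obtain ⟨c, rfl⟩ := Submodule.mem_span_singleton.1 hx
      have h1 := hxy v (Submodule.mem_span_singleton_self v)
      rw [map_smul, LinearMap.smul_apply, smul_eq_mul] at h1
      rcases mul_eq_zero.1 h1 with h | h
      · rw [h, zero_smul]
      · exact absurd h hv
    have hPdim : finrank K P = 1 := finrank_span_singleton hv0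
    set Y := orth B P with hY
    have hcompl : IsCompl P Y := isCompl_orth hU hPnd
    have hYnd : UNDOn B Y := undOn_orth hU hB hPnd
    have hdim : finrank K P + finrank K Y = d + 1 := by
      rw [← hd]; exact Submodule.finrank_add_eq_of_isCompl hcompl
    obtain ⟨W', hW'nd, hW'd⟩ := ih (UData.res B Y) (by omega) (fun x y => hherm x y) (und_res hYnd)
      (e' - 1) (by omega)
    have horth : ∀ u ∈ P, ∀ w ∈ W'.map Y.subtype, B u w = 0 := by
      rintro u hu _ ⟨w, _, rfl⟩
      exact w.2 u hu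
    refine ⟨P ⊔ W'.map Y.subtype, und_sup hrefl hPnd (und_map_subtype hW'nd) horth, ?_⟩
    rw [Cfsg.Agent.Lib.Helper99_InvSub.finrank_sup_of_disjoint
      (disjoint_of_orth' hrefl hPnd horth), hPdim, Submodule.finrank_map_subtype_eq, hW'd]
    omega

end lines

section atoms

variable {K : Type u} [Field K] [Fintype K] {p : ℕ} [Fact p.Prime] [CharP K p] {q : ℕ} {σ : K →+* K}

/-- a space without fixed vectors is an orthogonal sum of atoms -/
theorem exists_atoms (hK : Fintype.card K = q ^ 2) (hσq : ∀ x, σ x = x ^ q) {r : ℕ} (hr : r.Prime)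
    (hr2 : r ≠ 2) (hrp : r ≠ p) (hcpos : 0 < uAtomDim q r) :
    ∀ (d : ℕ) {V : Type u} [AddCommGroup V] [Module K V] [FiniteDimensional K V]
      (B : V →ₗ[K] V →ₛₗ[σ] K) (T : Module.End K V), finrank K V = d → UData B T r → UND B →
      Module.End.eigenspace T 1 = ⊥ →
      ∃ a : ℕ, uAtomDim q r * a = d ∧ ∀ a' : ℕ, a' ≤ a →
        ∃ W : Submodule K V, Inv T W ∧ UNDOn B W ∧ finrank K W = uAtomDim q r * a' := by
  intro d
  induction d using Nat.strong_induction_on with
  | _ d ih =>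
  intro V _ _ _ B T hd hU hB hfix
  have hbot : Inv T (⊥ : Submodule K V) ∧ UNDOn B (⊥ : Submodule K V) ∧ finrank K (⊥ : Submodule K V) = 0 := by
    refine ⟨?_, ?_, finrank_bot K V⟩
    · intro x hx
      rw [Submodule.mem_bot] at hx
      rw [hx, map_zero]
      exact Submodule.zero_mem _
    · intro x hx _
      rwa [Submodule.mem_bot] at hx
  rcases Nat.eq_zero_or_pos d with hd0 | hdpos
  · refine ⟨0, by rw [hd0, mul_zero], ?_⟩
    intro a' ha'
    have : a' = 0 := by omega
    subst this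
    exact ⟨⊥, hbot.1, hbot.2.1, by rw [hbot.2.2, mul_zero]⟩
  have hrefl : ∀ x y, B x y = 0 → B y x = 0 := fun x y h => hU.eq_zero h
  have hC : LinearMap.range (T - 1) ≠ ⊥ := by
    intro hC
    have hT1 : ∀ x, T x = x := by
      intro x
      have : (T - 1) x ∈ LinearMap.range (T - 1) := LinearMap.mem_range_self _ _
      rw [hC, Submodule.mem_bot, LinearMap.sub_apply, Module.End.one_apply, sub_eq_zero] at this
      exact this
    have hall : ∀ x : V, x = 0 := by
      intro x
      have : x ∈ Module.End.eigenspace T 1 := by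
        rw [Module.End.mem_eigenspace_iff, one_smul]
        exact hT1 x
      rwa [hfix, Submodule.mem_bot] at this
    have : Subsingleton V := ⟨fun a b => by rw [hall a, hall b]⟩
    have := finrank_zero_of_subsingleton (R := K) (M := V)
    omega
  obtain ⟨Z, hZinv, hZnd, hZdim, -⟩ :=
    Cfsg.Agent.Lib.Helper55_SUND_PU1.PU1 hK hσq hU hB hr hr2 hrp hC
  set Y := orth B Z with hY
  have hYinv : Inv T Y := hU.inv_orth hZinv
  have hcompl : IsCompl Z Y := isCompl_orth hU hZnd
  have hYnd : UNDOn B Y := undOn_orth hU hB hZnd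
  have hdim : finrank K Z + finrank K Y = d := by
    rw [← hd]; exact Submodule.finrank_add_eq_of_isCompl hcompl
  have hfixY : Module.End.eigenspace (T.restrict hYinv) 1 = ⊥ := by
    rw [eq_bot_iff]
    intro x hx
    rw [Module.End.mem_eigenspace_iff, one_smul] at hx
    have h1 : T (x : V) = x := congrArg (fun y : Y => (y : V)) hx
    have h2 : (x : V) ∈ Module.End.eigenspace T 1 := by
      rw [Module.End.mem_eigenspace_iff, one_smul]
      exact h1
    rw [hfix, Submodule.mem_bot] at h2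
    rw [Submodule.mem_bot]
    exact Subtype.ext h2
  obtain ⟨aY, haY, HY⟩ := ih (finrank K Y) (by omega) (UData.res B Y) (T.restrict hYinv) rfl
    (hU.restrict hYinv) (und_res hYnd) hfixY
  refine ⟨aY + 1, by rw [mul_add, mul_one, haY]; omega, ?_⟩
  intro a' ha'
  rcases Nat.eq_zero_or_pos a' with h0 | hpos
  · subst h0
    exact ⟨⊥, hbot.1, hbot.2.1, by rw [hbot.2.2, mul_zero]⟩
  obtain ⟨W', hW'inv, hW'nd, hW'd⟩ := HY (a' - 1) (by omega)
  have horth : ∀ u ∈ Z, ∀ w ∈ W'.map Y.subtype, B u w = 0 := by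
    rintro u hu _ ⟨w, _, rfl⟩
    exact w.2 u hu
  refine ⟨Z ⊔ W'.map Y.subtype, inv_sup' hZinv (inv_map_subtype hYinv hW'inv),
    und_sup hrefl hZnd (und_map_subtype hW'nd) horth, ?_⟩
  rw [Cfsg.Agent.Lib.Helper99_InvSub.finrank_sup_of_disjoint
    (disjoint_of_orth' hrefl hZnd horth), hZdim, Submodule.finrank_map_subtype_eq, hW'd]
  have : a' = (a' - 1) + 1 := by omega
  nth_rewrite 2 [this]
  ring

end atoms

section struct

variable {K : Type u} [Field K] [Fintype K] {p : ℕ} [Fact p.Prime] [CharP K p] {q : ℕ} {σ : K →+* K}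

theorem not_dvd_q' (hK : Fintype.card K = q ^ 2) {r : ℕ} (hr : r.Prime) (hrp : r ≠ p) : ¬ r ∣ q := by
  intro h
  obtain ⟨f, hp, hf⟩ := FiniteField.card K p
  have h1 : r ∣ p ^ (f : ℕ) := by
    rw [← hf, hK]
    exact h.trans (dvd_pow_self q two_ne_zero)
  exact hrp ((Nat.prime_dvd_prime_iff_eq hr hp).1 (hr.dvd_of_dvd_pow h1))

theorem ord_pos'' {r : ℕ} (hr : r.Prime) (hrq : ¬ r ∣ q) : 0 < orderOf ((q : ℕ) : ZMod r) := by
  have : Fact r.Prime := ⟨hr⟩
  have h0 : ((q : ℕ) : ZMod r) ≠ 0 := by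
    rwa [Ne, ZMod.natCast_eq_zero_iff]
  rw [orderOf_pos_iff]
  exact isOfFinOrder_iff_pow_eq_one.2 ⟨r - 1, by have := hr.two_le; omega,
    ZMod.pow_card_sub_one_eq_one h0⟩

/-- **PU2**: structure theorem. -/
theorem PU2 (hK : Fintype.card K = q ^ 2) (hσq : ∀ x, σ x = x ^ q)
    {V : Type u} [AddCommGroup V] [Module K V] [FiniteDimensional K V]
    {B : V →ₗ[K] V →ₛₗ[σ] K} {T : Module.End K V} {r : ℕ}
    (h : UData B T r) (hB : UND B) (hr : r.Prime) (hr2 : r ≠ 2) (hrp : r ≠ p) :
    ∃ a : ℕ, uAtomDim q r * a + finrank K (Module.End.eigenspace T 1) = finrank K V ∧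
      ∀ a' e' : ℕ, a' ≤ a → e' ≤ finrank K (Module.End.eigenspace T 1) →
        ∃ W : Submodule K V, Inv T W ∧ UNDOn B W ∧ finrank K W = uAtomDim q r * a' + e' := by
  classical
  have hcpos : 0 < uAtomDim q r := uAtomDim_pos (ord_pos'' hr (not_dvd_q' hK hr hrp))
  have hrF : ((r : ℕ) : K) ≠ 0 := Cfsg.Agent.Lib.Helper99_PrimeOrderSL.natCast_ne_zero hr hrp
  have hσ : Invol σ := by
    obtain ⟨σ', hσ'q, hσ'⟩ := Cfsg.Agent.Lib.Helper94_HermBridge.exists_frob hK
    have : σ = σ' := by
      ext x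
      rw [hσq, hσ'q]
    rw [this]
    exact hσ'
  have hrefl : ∀ x y, B x y = 0 → B y x = 0 := fun x y hxy => h.eq_zero hxy
  set Fx := Module.End.eigenspace T 1 with hFx
  set R := LinearMap.range (T - 1) with hR
  have hsup : Fx ⊔ R = ⊤ := fix_sup_range hr.pos hrF h.pow
  have hdisj : Disjoint Fx R := disjoint_fix_range hrF h.pow
  have hfixmem : ∀ x ∈ Fx, T x = x := by
    intro x hx
    rwa [hFx, Module.End.mem_eigenspace_iff, one_smul] at hx
  have horthRF : ∀ u ∈ R, ∀ v ∈ Fx, B u v = 0 := by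
    rintro _ ⟨x, rfl⟩ v hv
    rw [LinearMap.sub_apply, Module.End.one_apply, map_sub, LinearMap.sub_apply]
    nth_rewrite 1 [← hfixmem v hv]
    rw [h.iso, sub_self]
  have hFinv : Inv T Fx := by
    intro x hx
    rw [hfixmem x hx]
    exact hx
  have hRinv : Inv T R := inv_range_sub_one T
  have hFnd : UNDOn B Fx := by
    intro x hx hxy
    apply hB x
    intro v
    have hv : v ∈ Fx ⊔ R := by rw [hsup]; trivial
    obtain ⟨f, hf, ρ, hρ, rfl⟩ := Submodule.mem_sup.1 hv
    rw [map_add, hxy f hf, hrefl _ _ (horthRF ρ hρ x hx), add_zero]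
  have hRnd : UNDOn B R := by
    intro x hx hxy
    apply hB x
    intro v
    have hv : v ∈ Fx ⊔ R := by rw [hsup]; trivial
    obtain ⟨f, hf, ρ, hρ, rfl⟩ := Submodule.mem_sup.1 hv
    rw [map_add, hxy ρ hρ, horthRF x hx f hf, add_zero]
  have hdim : finrank K Fx + finrank K R = finrank K V :=
    Submodule.finrank_add_eq_of_isCompl ⟨hdisj, codisjoint_iff.2 hsup⟩
  have hfixR : Module.End.eigenspace (T.restrict hRinv) 1 = ⊥ := by
    rw [eq_bot_iff]
    intro x hx
    rw [Module.End.mem_eigenspace_iff, one_smul] at hx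
    have h1 : T (x : V) = x := congrArg (fun y : R => (y : V)) hx
    have h2 : (x : V) ∈ Fx := by
      rw [hFx, Module.End.mem_eigenspace_iff, one_smul]
      exact h1
    have h3 := Submodule.disjoint_def.1 hdisj _ h2 x.2
    rw [Submodule.mem_bot]
    exact Subtype.ext h3
  obtain ⟨a, ha, HR⟩ := exists_atoms hK hσq hr hr2 hrp hcpos (finrank K R) (UData.res B R)
    (T.restrict hRinv) rfl (h.restrict hRinv) (und_res hRnd) hfixR
  have HF := exists_und_sub hσ (finrank K Fx) (UData.res B Fx) rfl (fun x y => h.herm x y)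
    (und_res hFnd)
  refine ⟨a, by omega, ?_⟩
  intro a' e' ha' he'
  obtain ⟨WR, hWRinv, hWRnd, hWRd⟩ := HR a' ha'
  obtain ⟨WF, hWFnd, hWFd⟩ := HF e' he'
  have horth : ∀ u ∈ WR.map R.subtype, ∀ w ∈ WF.map Fx.subtype, B u w = 0 := by
    rintro _ ⟨u, _, rfl⟩ _ ⟨w, _, rfl⟩
    exact horthRF u u.2 w w.2
  have hWFinv : Inv T (WF.map Fx.subtype) := by
    rintro _ ⟨w, hw, rfl⟩
    refine ⟨w, hw, ?_⟩
    exact (hfixmem w w.2).symm
  refine ⟨WR.map R.subtype ⊔ WF.map Fx.subtype, inv_sup' (inv_map_subtype hRinv hWRinv) hWFinv,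
    und_sup hrefl (und_map_subtype hWRnd) (und_map_subtype hWFnd) horth, ?_⟩
  rw [Cfsg.Agent.Lib.Helper99_InvSub.finrank_sup_of_disjoint
    (disjoint_of_orth' hrefl (und_map_subtype hWRnd) horth), Submodule.finrank_map_subtype_eq,
    Submodule.finrank_map_subtype_eq, hWRd, hWFd]

end struct

end Cfsg.Agent.Lib.Helper99_SUND_PU2
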