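import Mathlib
import Cfsg.Agent.Lib.Helper40_UBasic
import Cfsg.Agent.Lib.Helper99_SUNDDefs

set_option autoImplicit false

/-!
Definitions for S5953 (prime-order elements of `PSU_n(q)` and totally isotropic `m`-spaces).
-/

namespace Cfsg.Agent.Lib.Helper99_SUTIDefs

open Module Cfsg.Agent.Lib.Helper40_SpBasic Cfsg.Agent.Lib.Helper40_UBasic

/-- the degree `ord_r(q²)` of the irreducible factors `≠ X - 1` of `X ^ r - 1` over the field with
`q²` elements, in terms of `i = ord_r(q)`. -/
noncomputable def uBlockDim (q r : ℕ) : ℕ :=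
  if Even (orderOf ((q : ℕ) : ZMod r)) then orderOf ((q : ℕ) : ZMod r) / 2
  else orderOf ((q : ℕ) : ZMod r)

theorem uBlockDim_def (q r : ℕ) : uBlockDim q r =
    if Even (orderOf ((q : ℕ) : ZMod r)) then orderOf ((q : ℕ) : ZMod r) / 2
    else orderOf ((q : ℕ) : ZMod r) := rfl

/-- `q ^ k - (-1) ^ k` as a natural number -/
def usgn (q k : ℕ) : ℕ := if Even k then q ^ k - 1 else q ^ k + 1

/-- `W` contains a `T`-invariant totally isotropic subspace of dimension `k`. -/
def UHasTI {K : Type*} [Field K] {σ : K →+* K} {V : Type*} [AddCommGroup V] [Module K V]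
    (B : V →ₗ[K] V →ₛₗ[σ] K) (T : Module.End K V) (W : Submodule K V) (k : ℕ) : Prop :=
  ∃ U : Submodule K V, U ≤ W ∧ Inv T U ∧ UIsoOn B U ∧ finrank K U = k

end Cfsg.Agent.Lib.Helper99_SUTIDefs
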