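import Mathlib
import Cfsg.Agent.Lib.Helper99_SUNDDefs
import Cfsg.Agent.Lib.Helper99_SUTIDefs
import Cfsg.Agent.Lib.Helper40_UCases
import Cfsg.Agent.Lib.Helper40_UPrimeOrder
import Cfsg.Agent.Lib.Helper99_SpAtoms
import Cfsg.Agent.Lib.Helper99_SUND_PU2
import Cfsg.Agent.Lib.Helper55_SUND_PU1
import Cfsg.Agent.Lib.Helper55_SUTI_TS0

set_option autoImplicit false

/-!
Package TS1 of S5953 (for helper99): structure theorem for a semisimple unitary isometry of odd prime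
order `r ≠ p` with hyperbolic atoms (`ord_r(q) % 4 ≠ 2`): invariant totally isotropic subspaces of all
dimensions `uBlockDim q r * s' + e'`.
-/

namespace Cfsg.Agent.Lib.Helper55_SUTI_TS1

open Polynomial Module
open Cfsg.Agent.Lib.Helper40_SpBasic Cfsg.Agent.Lib.Helper40_UBasic Cfsg.Agent.Lib.Helper99_SUNDDefs
  Cfsg.Agent.Lib.Helper99_SUTIDefs Cfsg.Agent.Lib.Helper94_Herm
open Cfsg.Agent.Lib.Helper40_Semisimple Cfsg.Agent.Lib.Helper40_SpCyclic
  Cfsg.Agent.Lib.Helper40_UCyclic Cfsg.Agent.Lib.Helper40_UMatch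
  Cfsg.Agent.Lib.Helper40_UPrimeOrder Cfsg.Agent.Lib.Helper40_SpPrimeOrder
  Cfsg.Agent.Lib.Helper40_PrimeOrderClasses
open Cfsg.Agent.Lib.Helper99_InvSub Cfsg.Agent.Lib.Helper99_PrimeOrderSL
  Cfsg.Agent.Lib.Helper99_SpAtoms Cfsg.Agent.Lib.Helper99_SUND_PU2

universe u

section arith

/-- `uBlockDim` is the order of `q²` modulo `r`. -/
theorem uBlockDim_eq (q r : ℕ) : uBlockDim q r = orderOf (((q ^ 2 : ℕ) : ℕ) : ZMod r) := by
  rw [Nat.cast_pow, orderOf_pow' _ two_ne_zero, uBlockDim_def]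
  obtain ⟨i, hi⟩ : ∃ i, i = orderOf ((q : ℕ) : ZMod r) := ⟨_, rfl⟩
  rw [← hi]
  by_cases he : Even i
  · rw [if_pos he]
    have h2 : 2 ∣ i := even_iff_two_dvd.1 he
    rw [Nat.gcd_eq_right h2]
  · rw [if_neg he]
    have h2 : ¬ 2 ∣ i := fun h => he (even_iff_two_dvd.2 h)
    have hg : Nat.gcd i 2 = 1 :=
      Nat.Coprime.symm ((Nat.Prime.coprime_iff_not_dvd Nat.prime_two).2 h2)
    rw [hg, Nat.div_one]

/-- in the hyperbolic case an atom has twice the block dimension -/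
theorem uAtomDim_eq_two_mul (q r : ℕ) (hi4 : orderOf ((q : ℕ) : ZMod r) % 4 ≠ 2) :
    uAtomDim q r = uBlockDim q r + uBlockDim q r := by
  have h := (Cfsg.Agent.Lib.Helper55_SUND_PU1.degree_cases q r (uBlockDim q r) (uBlockDim_eq q r)).2 hi4
  exact h

end arith

section cyc

variable {K : Type u} [Field K] [Fintype K] {p : ℕ} [Fact p.Prime] [CharP K p] {q : ℕ} {σ : K →+* K}
variable {V : Type u} [AddCommGroup V] [Module K V] [FiniteDimensional K V]
variable {B : V →ₗ[K] V →ₛₗ[σ] K} {T : Module.End K V} {r : ℕ}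

/-- in the hyperbolic case a nonzero invariant subspace without fixed vectors contains an invariant
totally isotropic subspace of dimension `uBlockDim q r` -/
theorem exists_ti_block (hK : Fintype.card K = q ^ 2) (hσq : ∀ x, σ x = x ^ q)
    (h : UData B T r) (hr : r.Prime) (hr2 : r ≠ 2) (hrp : r ≠ p)
    (hi4 : orderOf ((q : ℕ) : ZMod r) % 4 ≠ 2)
    {Z : Submodule K V} (hZ : Inv T Z) (hZ0 : Z ≠ ⊥)
    (hZfix : Disjoint Z (Module.End.eigenspace T 1)) :
    ∃ U : Submodule K V, U ≤ Z ∧ Inv T U ∧ UIsoOn B U ∧ finrank K U = uBlockDim q r := by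
  classical
  have hinv : ∀ c, σ (σ c) = c := h.invol
  have hσne : ∃ θ, σ θ ≠ θ := by
    obtain ⟨σ', hσ', hI⟩ := Cfsg.Agent.Lib.Helper94_HermBridge.exists_frob hK
    have : σ = σ' := RingHom.ext (fun x => by rw [hσq, hσ'])
    rw [this]
    exact hI.ne_id
  have hTr : T ^ r = 1 := h.pow
  obtain ⟨-, W, -, hW1, hW2⟩ := exists_cyclotomic_factors (F := K) p r hr hrp
  obtain ⟨v, hvZ, hv0⟩ := Submodule.exists_mem_ne_zero_of_ne_bot hZ0
  have hP0 : (X ^ r - 1 : K[X]) ≠ 0 := by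
    have : (X ^ r - 1 : K[X]) = X ^ r - C 1 := by rw [map_one]
    rw [this]; exact X_pow_sub_C_ne_zero hr.pos 1
  have hPT : aeval T (X ^ r - 1 : K[X]) = 0 := by
    rw [map_sub, map_pow, aeval_X, map_one, hTr, sub_self]
  obtain ⟨w, hwm, hwi, hwd, Q, hQ1, hQ2⟩ :=
    exists_irreducible_factor_vec T _ (X ^ r - 1) rfl hP0 v hv0 (by rw [hPT]; rfl)
  obtain ⟨u, hu⟩ : ∃ u, u = aeval T Q v := ⟨_, rfl⟩
  rw [← hu] at hQ1 hQ2
  have huZ : u ∈ Z := by rw [hu]; exact hZ.aeval_mem Q hvZ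
  have hw1 : w ≠ X - 1 := by
    intro h'
    rw [h', map_sub, aeval_X, map_one, LinearMap.sub_apply, Module.End.one_apply, sub_eq_zero]
      at hQ2
    apply hQ1
    apply Submodule.disjoint_def.1 hZfix u huZ
    rw [Module.End.mem_eigenspace_iff, one_smul]
    exact hQ2
  have hwW : w ∈ W := (hW2 w hwm hwi hwd).resolve_left hw1
  have hwdeg : w.natDegree = uBlockDim q r := by
    rw [uBlockDim_eq, ← hK]
    exact (hW1 w hwW).2.2.2.2
  have hcase : ∀ q' : K[X], B (aeval T q' u) u = 0 := by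
    intro q'
    by_contra hne
    have h1 := dvd_pstar_of_moment h u w hwi hQ2 q' hne
    have h2 := (Cfsg.Agent.Lib.Helper55_SUND_PU1.dvd_pstar_iff_udual_eq σ hinv r hr.pos w hwm hwi hwd).1 h1
    exact hi4 (mod4_of_udual_eq σ p hK hσq hσne r _ hr hr2 rfl w hwm hwi hw1 hwd h2)
  refine ⟨cyc T u, ?_, inv_range_orbitMap T u, uIsoOn_cyc h u hcase, ?_⟩
  · rintro _ ⟨q', rfl⟩
    rw [orbitMap_apply]
    exact hZ.aeval_mem q' huZ
  · rw [finrank_cyc T u hQ1 w hwi hQ2, hwdeg]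

end cyc

section struct

variable {K : Type u} [Field K] [Fintype K] {p : ℕ} [Fact p.Prime] [CharP K p] {q : ℕ} {σ : K →+* K}

/-- a space without fixed vectors, hyperbolic case: invariant totally isotropic subspaces of all
dimensions `uBlockDim q r * s'`, `s' ≤` number of atoms -/
theorem exists_ti_atoms (hK : Fintype.card K = q ^ 2) (hσq : ∀ x, σ x = x ^ q) {r : ℕ} (hr : r.Prime)
    (hr2 : r ≠ 2) (hrp : r ≠ p) (hi4 : orderOf ((q : ℕ) : ZMod r) % 4 ≠ 2)
    (hcpos : 0 < uAtomDim q r) :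
    ∀ (d : ℕ) {V : Type u} [AddCommGroup V] [Module K V] [FiniteDimensional K V]
      (B : V →ₗ[K] V →ₛₗ[σ] K) (T : Module.End K V), finrank K V = d → UData B T r → UND B →
      Module.End.eigenspace T 1 = ⊥ →
      ∃ a : ℕ, uAtomDim q r * a = d ∧ ∀ s' : ℕ, s' ≤ a →
        ∃ U : Submodule K V, Inv T U ∧ UIsoOn B U ∧ finrank K U = uBlockDim q r * s' := by
  intro d
  induction d using Nat.strong_induction_on with
  | _ d ih =>
  intro V _ _ _ B T hd hU hB hfix
  have hbot : Inv T (⊥ : Submodule K V) ∧ UIsoOn B (⊥ : Submodule K V) ∧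
      finrank K (⊥ : Submodule K V) = 0 := by
    refine ⟨?_, ?_, finrank_bot K V⟩
    · intro x hx
      rw [Submodule.mem_bot] at hx
      rw [hx, map_zero]
      exact Submodule.zero_mem _
    · intro x hx y _
      rw [Submodule.mem_bot] at hx
      rw [hx, map_zero, LinearMap.zero_apply]
  rcases Nat.eq_zero_or_pos d with hd0 | hdpos
  · refine ⟨0, by rw [hd0, mul_zero], ?_⟩
    intro s' hs'
    have : s' = 0 := by omega
    subst this
    exact ⟨⊥, hbot.1, hbot.2.1, by rw [hbot.2.2, mul_zero]⟩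
  have hrefl : ∀ x y, B x y = 0 → B y x = 0 := fun x y h => hU.eq_zero h
  have hC : LinearMap.range (T - 1) ≠ ⊥ := by
    intro hC
    have hT1 : ∀ x, T x = x := by
      intro x
      have : (T - 1) x ∈ LinearMap.range (T - 1) := LinearMap.mem_range_self _ _
      rw [hC, Submodule.mem_bot, LinearMap.sub_apply, Module.End.one_apply, sub_eq_zero] at this
      exact this
    have hall : ∀ x : V, x = 0 := by
      intro x
      have : x ∈ Module.End.eigenspace T 1 := by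
        rw [Module.End.mem_eigenspace_iff, one_smul]
        exact hT1 x
      rwa [hfix, Submodule.mem_bot] at this
    have : Subsingleton V := ⟨fun a b => by rw [hall a, hall b]⟩
    have := finrank_zero_of_subsingleton (R := K) (M := V)
    omega
  obtain ⟨Z, hZinv, hZnd, hZdim, -⟩ :=
    Cfsg.Agent.Lib.Helper55_SUND_PU1.PU1 hK hσq hU hB hr hr2 hrp hC
  have hZ0 : Z ≠ ⊥ := by
    intro h0
    rw [h0, finrank_bot] at hZdim
    omega
  obtain ⟨U₀, hU₀Z, hU₀inv, hU₀ti, hU₀d⟩ := exists_ti_block hK hσq hU hr hr2 hrp hi4 hZinv hZ0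
    (by rw [hfix]; exact disjoint_bot_right)
  set Y := orth B Z with hY
  have hYinv : Inv T Y := hU.inv_orth hZinv
  have hcompl : IsCompl Z Y := isCompl_orth hU hZnd
  have hYnd : UNDOn B Y := undOn_orth hU hB hZnd
  have hdim : finrank K Z + finrank K Y = d := by
    rw [← hd]; exact Submodule.finrank_add_eq_of_isCompl hcompl
  have hfixY : Module.End.eigenspace (T.restrict hYinv) 1 = ⊥ := by
    rw [eq_bot_iff]
    intro x hx
    rw [Module.End.mem_eigenspace_iff, one_smul] at hx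
    have h1 : T (x : V) = x := congrArg (fun y : Y => (y : V)) hx
    have h2 : (x : V) ∈ Module.End.eigenspace T 1 := by
      rw [Module.End.mem_eigenspace_iff, one_smul]
      exact h1
    rw [hfix, Submodule.mem_bot] at h2
    rw [Submodule.mem_bot]
    exact Subtype.ext h2
  obtain ⟨aY, haY, HY⟩ := ih (finrank K Y) (by omega) (UData.res B Y) (T.restrict hYinv) rfl
    (hU.restrict hYinv) (und_res hYnd) hfixY
  refine ⟨aY + 1, by rw [mul_add, mul_one, haY]; omega, ?_⟩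
  intro s' hs'
  rcases Nat.eq_zero_or_pos s' with h0 | hpos
  · subst h0
    exact ⟨⊥, hbot.1, hbot.2.1, by rw [hbot.2.2, mul_zero]⟩
  obtain ⟨U', hU'inv, hU'ti, hU'd⟩ := HY (s' - 1) (by omega)
  have horth : ∀ u ∈ Z, ∀ w ∈ U'.map Y.subtype, B u w = 0 := by
    rintro u hu _ ⟨w, _, rfl⟩
    exact w.2 u hu
  have hU'ti' : UIsoOn B (U'.map Y.subtype) := by
    rintro _ ⟨x, hx, rfl⟩ _ ⟨y, hy, rfl⟩
    exact hU'ti x hx y hy
  have hdisj : Disjoint U₀ (U'.map Y.subtype) := by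
    rw [Submodule.disjoint_def]
    intro x hx1 hx2
    obtain ⟨y, _, rfl⟩ := hx2
    exact Submodule.disjoint_def.1 hcompl.disjoint _ (hU₀Z hx1) y.2
  refine ⟨U₀ ⊔ U'.map Y.subtype, inv_sup' hU₀inv (inv_map_subtype hYinv hU'inv), ?_, ?_⟩
  · intro x hx y hy
    obtain ⟨x1, hx1, x2, hx2, rfl⟩ := Submodule.mem_sup.1 hx
    obtain ⟨y1, hy1, y2, hy2, rfl⟩ := Submodule.mem_sup.1 hy
    simp only [map_add, LinearMap.add_apply]
    rw [hU₀ti x1 hx1 y1 hy1, hU'ti' x2 hx2 y2 hy2, horth x1 (hU₀Z hx1) y2 hy2,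
      hrefl _ _ (horth y1 (hU₀Z hy1) x2 hx2)]
    simp
  · rw [Cfsg.Agent.Lib.Helper99_InvSub.finrank_sup_of_disjoint hdisj, hU₀d,
      Submodule.finrank_map_subtype_eq, hU'd]
    have : s' = (s' - 1) + 1 := by omega
    nth_rewrite 2 [this]
    ring

/-- TS1: structure theorem, hyperbolic atoms (`ord_r(q) % 4 ≠ 2`); port of `Helper99_SpTI.exists_struct_odd`. -/
theorem TS1 (hK : Fintype.card K = q ^ 2) (hσq : ∀ x, σ x = x ^ q)
    {V : Type u} [AddCommGroup V] [Module K V] [FiniteDimensional K V]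
    {B : V →ₗ[K] V →ₛₗ[σ] K} {T : Module.End K V} {r : ℕ}
    (h : UData B T r) (hB : UND B) (hr : r.Prime) (hr2 : r ≠ 2) (hrp : r ≠ p)
    (hi4 : orderOf ((q : ℕ) : ZMod r) % 4 ≠ 2) :
    ∃ a : ℕ, uAtomDim q r * a + finrank K (Module.End.eigenspace T 1) = finrank K V ∧
      ∀ s' e' : ℕ, s' ≤ a → 2 * e' ≤ finrank K (Module.End.eigenspace T 1) →
        UHasTI B T ⊤ (uBlockDim q r * s' + e') := by
  classical
  have hcpos : 0 < uAtomDim q r := uAtomDim_pos (ord_pos'' hr (not_dvd_q' hK hr hrp))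
  have hrF : ((r : ℕ) : K) ≠ 0 := Cfsg.Agent.Lib.Helper99_PrimeOrderSL.natCast_ne_zero hr hrp
  have hσ : Invol σ := by
    obtain ⟨σ', hσ'q, hσ'⟩ := Cfsg.Agent.Lib.Helper94_HermBridge.exists_frob hK
    have : σ = σ' := by
      ext x
      rw [hσq, hσ'q]
    rw [this]
    exact hσ'
  have hrefl : ∀ x y, B x y = 0 → B y x = 0 := fun x y hxy => h.eq_zero hxy
  set Fx := Module.End.eigenspace T 1 with hFx
  set R := LinearMap.range (T - 1) with hR
  have hsup : Fx ⊔ R = ⊤ := fix_sup_range hr.pos hrF h.pow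
  have hdisj : Disjoint Fx R := disjoint_fix_range hrF h.pow
  have hfixmem : ∀ x ∈ Fx, T x = x := by
    intro x hx
    rwa [hFx, Module.End.mem_eigenspace_iff, one_smul] at hx
  have horthRF : ∀ u ∈ R, ∀ v ∈ Fx, B u v = 0 := by
    rintro _ ⟨x, rfl⟩ v hv
    rw [LinearMap.sub_apply, Module.End.one_apply, map_sub, LinearMap.sub_apply]
    nth_rewrite 1 [← hfixmem v hv]
    rw [h.iso, sub_self]
  have hRinv : Inv T R := inv_range_sub_one T
  have hFnd : UNDOn B Fx := by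
    intro x hx hxy
    apply hB x
    intro v
    have hv : v ∈ Fx ⊔ R := by rw [hsup]; trivial
    obtain ⟨f, hf, ρ, hρ, rfl⟩ := Submodule.mem_sup.1 hv
    rw [map_add, hxy f hf, hrefl _ _ (horthRF ρ hρ x hx), add_zero]
  have hRnd : UNDOn B R := by
    intro x hx hxy
    apply hB x
    intro v
    have hv : v ∈ Fx ⊔ R := by rw [hsup]; trivial
    obtain ⟨f, hf, ρ, hρ, rfl⟩ := Submodule.mem_sup.1 hv
    rw [map_add, hxy ρ hρ, horthRF x hx f hf, add_zero]
  have hdim : finrank K Fx + finrank K R = finrank K V :=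
    Submodule.finrank_add_eq_of_isCompl ⟨hdisj, codisjoint_iff.2 hsup⟩
  have hfixR : Module.End.eigenspace (T.restrict hRinv) 1 = ⊥ := by
    rw [eq_bot_iff]
    intro x hx
    rw [Module.End.mem_eigenspace_iff, one_smul] at hx
    have h1 : T (x : V) = x := congrArg (fun y : R => (y : V)) hx
    have h2 : (x : V) ∈ Fx := by
      rw [hFx, Module.End.mem_eigenspace_iff, one_smul]
      exact h1
    have h3 := Submodule.disjoint_def.1 hdisj _ h2 x.2
    rw [Submodule.mem_bot]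
    exact Subtype.ext h3
  obtain ⟨a, ha, HR⟩ := exists_ti_atoms hK hσq hr hr2 hrp hi4 hcpos (finrank K R) (UData.res B R)
    (T.restrict hRinv) rfl (h.restrict hRinv) (und_res hRnd) hfixR
  refine ⟨a, by omega, ?_⟩
  intro s' e' hs' he'
  obtain ⟨UR, hURinv, hURti, hURd⟩ := HR s' hs'
  obtain ⟨UF, hUFti, hUFd⟩ := Cfsg.Agent.Lib.Helper55_SUTI_TS0.TS0 hσ (UData.res B Fx)
    (fun x y => h.herm x y) (und_res hFnd) e' he'
  have horth : ∀ u ∈ UR.map R.subtype, ∀ w ∈ UF.map Fx.subtype, B u w = 0 := by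
    rintro _ ⟨u, _, rfl⟩ _ ⟨w, _, rfl⟩
    exact horthRF u u.2 w w.2
  have hUFinv : Inv T (UF.map Fx.subtype) := by
    rintro _ ⟨w, hw, rfl⟩
    refine ⟨w, hw, ?_⟩
    exact (hfixmem w w.2).symm
  have hURti' : UIsoOn B (UR.map R.subtype) := by
    rintro _ ⟨x, hx, rfl⟩ _ ⟨y, hy, rfl⟩
    exact hURti x hx y hy
  have hUFti' : UIsoOn B (UF.map Fx.subtype) := by
    rintro _ ⟨x, hx, rfl⟩ _ ⟨y, hy, rfl⟩
    exact hUFti x hx y hy
  have hdisj' : Disjoint (UR.map R.subtype) (UF.map Fx.subtype) := by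
    rw [Submodule.disjoint_def]
    rintro _ ⟨x, _, rfl⟩ ⟨y, _, hxy⟩
    have hy : (x : V) ∈ Fx := by
      rw [← show (y : V) = (x : V) from hxy]
      exact y.2
    exact Submodule.disjoint_def.1 hdisj _ hy x.2
  refine ⟨UR.map R.subtype ⊔ UF.map Fx.subtype, le_top,
    inv_sup' (inv_map_subtype hRinv hURinv) hUFinv, ?_, ?_⟩
  · intro x hx y hy
    obtain ⟨x1, hx1, x2, hx2, rfl⟩ := Submodule.mem_sup.1 hx
    obtain ⟨y1, hy1, y2, hy2, rfl⟩ := Submodule.mem_sup.1 hy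
    simp only [map_add, LinearMap.add_apply]
    rw [hURti' x1 hx1 y1 hy1, hUFti' x2 hx2 y2 hy2, horth x1 hx1 y2 hy2,
      hrefl _ _ (horth y1 hy1 x2 hx2)]
    simp
  · rw [Cfsg.Agent.Lib.Helper99_InvSub.finrank_sup_of_disjoint hdisj',
      Submodule.finrank_map_subtype_eq, Submodule.finrank_map_subtype_eq, hURd, hUFd]

end struct

end Cfsg.Agent.Lib.Helper55_SUTI_TS1
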