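import Mathlib
import Cfsg.Agent.Lib.Helper99_SUNDDefs
import Cfsg.Agent.Lib.Helper99_SUTIDefs
import Cfsg.Agent.Lib.Helper40_UCases
import Cfsg.Agent.Lib.Helper40_UConj
import Cfsg.Agent.Lib.Helper40_UPrimeOrder
import Cfsg.Agent.Lib.Helper99_SpAtoms
import Cfsg.Agent.Lib.Helper99_SUND_PU2
import Cfsg.Agent.Lib.Helper55_SUND_PU1
import Cfsg.Agent.Lib.Helper55_SUTI_TS0
import Cfsg.Agent.Lib.Helper55_SUTI_TS1

set_option autoImplicit false

/-!
Package TS2 of S5953 (for helper99): structure theorem for a semisimple unitary isometry of odd prime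
order `r ≠ p` with self-dual atoms (`ord_r(q) % 4 = 2`): two orthogonal atoms of the same type contain
an invariant totally isotropic subspace of the dimension of one atom.
-/

namespace Cfsg.Agent.Lib.Helper55_SUTI_TS2

open Polynomial Module
open Cfsg.Agent.Lib.Helper40_SpBasic Cfsg.Agent.Lib.Helper40_UBasic Cfsg.Agent.Lib.Helper99_SUNDDefs
  Cfsg.Agent.Lib.Helper99_SUTIDefs Cfsg.Agent.Lib.Helper94_Herm
open Cfsg.Agent.Lib.Helper40_Semisimple
open Cfsg.Agent.Lib.Helper99_InvSub Cfsg.Agent.Lib.Helper99_PrimeOrderSL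
  Cfsg.Agent.Lib.Helper99_SpAtoms Cfsg.Agent.Lib.Helper99_SUND_PU2

universe u

section pair

variable {K : Type u} [Field K] [Finite K] {σ : K →+* K}
variable {V : Type u} [AddCommGroup V] [Module K V] [FiniteDimensional K V]
variable {B : V →ₗ[K] V →ₛₗ[σ] K} {T : Module.End K V} {N : ℕ}

/-- two orthogonal nondegenerate invariant subspaces with the same characteristic polynomial contain in
their sum an invariant totally isotropic subspace of the dimension of one of them (the graph of an
equivariant anti-isometry) -/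
theorem exists_ti_in_pair (hσne : ∃ θ, σ θ ≠ θ) (h : UData B T N) (hss : T.IsSemisimple)
    {P Q : Submodule K V} (hP : Inv T P) (hQ : Inv T Q) (hPnd : UNDOn B P) (hQnd : UNDOn B Q)
    (horth : ∀ u ∈ P, ∀ v ∈ Q, B u v = 0)
    (hch : (T.restrict hP).charpoly = (T.restrict hQ).charpoly) :
    ∃ U : Submodule K V, U ≤ P ⊔ Q ∧ Inv T U ∧ UIsoOn B U ∧ finrank K U = finrank K P := by
  have hP' : UData (UData.res B P) (T.restrict hP) N := h.restrict hP
  have hQ0 : UData (UData.res B Q) (T.restrict hQ) N := h.restrict hQ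
  have hQ' : UData (-(UData.res B Q)) (T.restrict hQ) N :=
    { invol := h.invol
      herm := fun x y => by
        rw [LinearMap.neg_apply, LinearMap.neg_apply, LinearMap.neg_apply, LinearMap.neg_apply,
          hQ0.herm x y, map_neg]
      iso := fun x y => by
        rw [LinearMap.neg_apply, LinearMap.neg_apply, LinearMap.neg_apply, LinearMap.neg_apply,
          hQ0.iso]
      pow := hQ0.pow
      pos := hQ0.pos }
  have hndP : UND (UData.res B P) := und_res hPnd
  have hndQ0 : UND (UData.res B Q) := und_res hQnd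
  have hndQ : UND (-(UData.res B Q)) := by
    intro x hx
    apply hndQ0 x
    intro y
    have := hx y
    rw [LinearMap.neg_apply, LinearMap.neg_apply, neg_eq_zero] at this
    exact this
  have hssP : Module.End.IsSemisimple (T.restrict hP) :=
    hss.restrict (by rw [Module.End.mem_invtSubmodule]; exact hP)
  have hssQ : Module.End.IsSemisimple (T.restrict hQ) :=
    hss.restrict (by rw [Module.End.mem_invtSubmodule]; exact hQ)
  obtain ⟨e, he_int, he_iso⟩ :=
    Cfsg.Agent.Lib.Helper40_UConj.exists_isometry_conj hσne (finrank K P)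
      (UData.res B P) (-(UData.res B Q)) (T.restrict hP) (T.restrict hQ) N rfl hP' hQ' hndP hndQ
      hssP hssQ hch
  have hanti : ∀ x y : P, B ((e x : Q) : V) ((e y : Q) : V) = - B (x : V) (y : V) := by
    intro x y
    have h1 := he_iso x y
    rw [LinearMap.neg_apply, LinearMap.neg_apply] at h1
    have h2 : B ((e x : Q) : V) ((e y : Q) : V) = (UData.res B Q) (e x) (e y) := rfl
    have h3 : B (x : V) (y : V) = (UData.res B P) x y := rfl
    rw [h2, h3, ← h1, neg_neg]
  have hint : ∀ x : P, ((e ((T.restrict hP) x) : Q) : V) = T ((e x : Q) : V) := by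
    intro x
    rw [he_int]
    rfl
  let f : P →ₗ[K] V := P.subtype + Q.subtype ∘ₗ e.toLinearMap
  have hf : ∀ x : P, f x = (x : V) + ((e x : Q) : V) := fun x => rfl
  have hcross1 : ∀ x y : P, B (x : V) ((e y : Q) : V) = 0 := fun x y =>
    horth _ x.2 _ (e y).2
  have hcross2 : ∀ x y : P, B ((e x : Q) : V) (y : V) = 0 := fun x y =>
    h.eq_zero (horth _ y.2 _ (e x).2)
  have hinj : Function.Injective f := by
    rw [← LinearMap.ker_eq_bot, LinearMap.ker_eq_bot']
    intro x hx
    rw [hf] at hx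
    apply Subtype.ext
    apply hPnd (x : V) x.2
    intro y hy
    have hxe : (x : V) = - ((e x : Q) : V) := eq_neg_of_add_eq_zero_left hx
    rw [hxe, map_neg, LinearMap.neg_apply, hcross2 x ⟨y, hy⟩, neg_zero]
  refine ⟨LinearMap.range f, ?_, ?_, ?_, ?_⟩
  · rintro _ ⟨x, rfl⟩
    rw [hf]
    exact Submodule.add_mem_sup x.2 (e x).2
  · rintro _ ⟨x, rfl⟩
    refine ⟨(T.restrict hP) x, ?_⟩
    rw [hf, hf, map_add, hint]
    rfl
  · rintro _ ⟨x, rfl⟩ _ ⟨y, rfl⟩
    rw [hf, hf]
    simp only [map_add, LinearMap.add_apply]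
    rw [hcross1, hcross2, hanti]
    ring
  · exact LinearMap.finrank_range_of_inj hinj

end pair

section typ

variable {K : Type u} [Field K] {σ : K →+* K}
variable {V : Type u} [AddCommGroup V] [Module K V] [FiniteDimensional K V]
variable {B : V →ₗ[K] V →ₛₗ[σ] K} {T : Module.End K V} {r : ℕ}

/-- the characteristic polynomial of `T` on an invariant subspace of dimension `d` without fixed
vectors is one of the irreducible factors of degree `d` of `X ^ r - 1`. -/
theorem charpoly_mem_of_atom (h : UData B T r) (Wset : Finset K[X]) (d : ℕ) (hd : 0 < d)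
    (hW1 : ∀ w ∈ Wset, w.Monic ∧ Irreducible w ∧ w ≠ X - 1 ∧ w ∣ X ^ r - 1 ∧ w.natDegree = d)
    (hW2 : ∀ f : K[X], f.Monic → Irreducible f → f ∣ X ^ r - 1 → f = X - 1 ∨ f ∈ Wset)
    {P : Submodule K V} (hP : Inv T P) (hPfix : Disjoint P (Module.End.eigenspace T 1))
    (hPd : finrank K P = d) :
    (T.restrict hP).charpoly ∈ Wset := by
  classical
  obtain ⟨φ, hφ⟩ : ∃ φ, φ = T.restrict hP := ⟨_, rfl⟩
  rw [← hφ]
  have hφr : φ ^ r = 1 := by rw [hφ]; exact (h.restrict hP).pow
  have hmon : φ.charpoly.Monic := LinearMap.charpoly_monic φ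
  have hdeg : φ.charpoly.natDegree = d := by rw [LinearMap.charpoly_natDegree, hPd]
  have hnu : ¬ IsUnit φ.charpoly := Polynomial.not_isUnit_of_natDegree_pos _ (by omega)
  obtain ⟨f0, hf0, hf0d⟩ := WfDvdMonoid.exists_irreducible_factor hnu hmon.ne_zero
  obtain ⟨f, hf⟩ : ∃ f, f = normalize f0 := ⟨_, rfl⟩
  have hfm : f.Monic := by rw [hf]; exact Polynomial.monic_normalize hf0.ne_zero
  have hfi : Irreducible f := by rw [hf]; exact (associated_normalize f0).irreducible hf0
  have hfd : f ∣ φ.charpoly := by rw [hf]; exact normalize_dvd_iff.2 hf0d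
  obtain ⟨v, hv0, hv⟩ := exists_ne_zero_aeval_eq_zero φ f hfi hfd
  have hkill : aeval φ (X ^ r - 1 : K[X]) = 0 := by
    rw [map_sub, map_pow, aeval_X, map_one, hφr, sub_self]
  have hfX : f ∣ X ^ r - 1 := by
    by_contra hnd
    obtain ⟨a, b, hab⟩ := (Irreducible.coprime_iff_not_dvd hfi).2 hnd
    apply hv0
    have h1 := congrArg (fun g => aeval φ g v) hab
    simp only [map_add, map_mul, map_one, LinearMap.add_apply, Module.End.mul_apply,
      Module.End.one_apply, hv, hkill, LinearMap.zero_apply, map_zero, add_zero] at h1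
    exact h1.symm
  rcases hW2 f hfm hfi hfX with h1 | h1
  · exfalso
    apply hv0
    rw [h1, map_sub, aeval_X, map_one, LinearMap.sub_apply, Module.End.one_apply, sub_eq_zero] at hv
    have hv' : T (v : V) = v := by
      have := congrArg Subtype.val hv
      rwa [hφ, LinearMap.coe_restrict_apply] at this
    have h2 : (v : V) ∈ Module.End.eigenspace T 1 := by
      rw [Module.End.mem_eigenspace_iff, one_smul]
      exact hv'
    have h3 := Submodule.disjoint_def.1 hPfix _ v.2 h2
    exact Subtype.ext h3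
  · have h2 := (hW1 f h1).2.2.2.2
    have : φ.charpoly = f :=
      Polynomial.eq_of_monic_of_dvd_of_natDegree_le hfm hmon hfd (by rw [hdeg, h2])
    rw [this]
    exact h1

open Classical in
/-- the type of an invariant subspace: the characteristic polynomial of `T` on it. -/
noncomputable def typ (T : Module.End K V) (P : Submodule K V) : K[X] :=
  if h : Inv T P then (T.restrict h).charpoly else 0

theorem typ_eq {P : Submodule K V} (h : Inv T P) : typ T P = (T.restrict h).charpoly := by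
  unfold typ
  rw [dif_pos h]

end typ

section struct

variable {K : Type u} [Field K] [Fintype K] {p : ℕ} [Fact p.Prime] [CharP K p] {q : ℕ} {σ : K →+* K}

/-- a space without fixed vectors is an orthogonal sum of a list of atoms -/
theorem exists_atom_list (hK : Fintype.card K = q ^ 2) (hσq : ∀ x, σ x = x ^ q) {r : ℕ} (hr : r.Prime)
    (hr2 : r ≠ 2) (hrp : r ≠ p) (hcpos : 0 < uAtomDim q r) :
    ∀ (d : ℕ) {V : Type u} [AddCommGroup V] [Module K V] [FiniteDimensional K V]
      (B : V →ₗ[K] V →ₛₗ[σ] K) (T : Module.End K V), finrank K V = d → UData B T r → UND B →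
      Module.End.eigenspace T 1 = ⊥ →
      ∃ L : List (Submodule K V),
        (∀ P ∈ L, Inv T P ∧ UNDOn B P ∧ finrank K P = uAtomDim q r) ∧
        L.Pairwise (fun P Q => ∀ u ∈ P, ∀ v ∈ Q, B u v = 0) ∧
        uAtomDim q r * L.length = d := by
  intro d
  induction d using Nat.strong_induction_on with
  | _ d ih =>
  intro V _ _ _ B T hd hU hB hfix
  rcases Nat.eq_zero_or_pos d with hd0 | hdpos
  · exact ⟨[], by simp, List.Pairwise.nil, by simp [hd0]⟩
  have hC : LinearMap.range (T - 1) ≠ ⊥ := by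
    intro hC
    have hT1 : ∀ x, T x = x := by
      intro x
      have : (T - 1) x ∈ LinearMap.range (T - 1) := LinearMap.mem_range_self _ _
      rw [hC, Submodule.mem_bot, LinearMap.sub_apply, Module.End.one_apply, sub_eq_zero] at this
      exact this
    have hall : ∀ x : V, x = 0 := by
      intro x
      have : x ∈ Module.End.eigenspace T 1 := by
        rw [Module.End.mem_eigenspace_iff, one_smul]
        exact hT1 x
      rwa [hfix, Submodule.mem_bot] at this
    have : Subsingleton V := ⟨fun a b => by rw [hall a, hall b]⟩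
    have := finrank_zero_of_subsingleton (R := K) (M := V)
    omega
  obtain ⟨Z, hZinv, hZnd, hZdim, -⟩ :=
    Cfsg.Agent.Lib.Helper55_SUND_PU1.PU1 hK hσq hU hB hr hr2 hrp hC
  set Y := orth B Z with hY
  have hYinv : Inv T Y := hU.inv_orth hZinv
  have hcompl : IsCompl Z Y := isCompl_orth hU hZnd
  have hYnd : UNDOn B Y := undOn_orth hU hB hZnd
  have hdim : finrank K Z + finrank K Y = d := by
    rw [← hd]; exact Submodule.finrank_add_eq_of_isCompl hcompl
  have hfixY : Module.End.eigenspace (T.restrict hYinv) 1 = ⊥ := by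
    rw [eq_bot_iff]
    intro x hx
    rw [Module.End.mem_eigenspace_iff, one_smul] at hx
    have h1 : T (x : V) = x := congrArg (fun y : Y => (y : V)) hx
    have h2 : (x : V) ∈ Module.End.eigenspace T 1 := by
      rw [Module.End.mem_eigenspace_iff, one_smul]
      exact h1
    rw [hfix, Submodule.mem_bot] at h2
    rw [Submodule.mem_bot]
    exact Subtype.ext h2
  obtain ⟨L', hL', hp', hlen'⟩ := ih (finrank K Y) (by omega) (UData.res B Y) (T.restrict hYinv) rfl
    (hU.restrict hYinv) (und_res hYnd) hfixY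
  refine ⟨Z :: L'.map (Submodule.map Y.subtype), ?_, ?_, ?_⟩
  · intro P hP
    rcases List.mem_cons.1 hP with rfl | hP
    · exact ⟨hZinv, hZnd, hZdim⟩
    · obtain ⟨P', hP', rfl⟩ := List.mem_map.1 hP
      obtain ⟨h1, h2, h3⟩ := hL' P' hP'
      exact ⟨inv_map_subtype hYinv h1, und_map_subtype h2,
        by rw [Submodule.finrank_map_subtype_eq, h3]⟩
  · rw [List.pairwise_cons]
    refine ⟨?_, ?_⟩
    · intro P hP u hu v hv
      obtain ⟨P', _, rfl⟩ := List.mem_map.1 hP
      obtain ⟨w, _, rfl⟩ := hv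
      exact w.2 u hu
    · rw [List.pairwise_map]
      refine hp'.imp ?_
      intro P' Q' hPQ
      rintro _ ⟨x, hx, rfl⟩ _ ⟨y, hy, rfl⟩
      exact hPQ x hx y hy
  · rw [List.length_cons, List.length_map, mul_add, mul_one, hlen']
    omega

/-- the self-dual case, no fixed vectors: invariant totally isotropic subspaces from pairs of atoms of
the same type -/
theorem exists_ti_pairs (hK : Fintype.card K = q ^ 2) (hσq : ∀ x, σ x = x ^ q) {r : ℕ} (hr : r.Prime)
    (hr2 : r ≠ 2) (hrp : r ≠ p) (hi4 : orderOf ((q : ℕ) : ZMod r) % 4 = 2)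
    (hcpos : 0 < uAtomDim q r) :
    ∀ (s' : ℕ) {V : Type u} [AddCommGroup V] [Module K V] [FiniteDimensional K V]
      (B : V →ₗ[K] V →ₛₗ[σ] K) (T : Module.End K V) (a : ℕ), uAtomDim q r * a = finrank K V →
      UData B T r → UND B → Module.End.eigenspace T 1 = ⊥ →
      (s' = 0 ∨ (r - 1) / uAtomDim q r + 2 * s' ≤ a + 1) →
      ∃ U : Submodule K V, Inv T U ∧ UIsoOn B U ∧ finrank K U = uAtomDim q r * s' := by
  classical
  obtain ⟨hipos, Wset, hWcard, hW1, hW2⟩ :=
    Cfsg.Agent.Lib.Helper40_PrimeOrderClasses.exists_cyclotomic_factors (F := K) p r hr hrp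
  have hrF : ((r : ℕ) : K) ≠ 0 := natCast_ne_zero hr hrp
  have hcdeg : uAtomDim q r = orderOf ((Fintype.card K : ℕ) : ZMod r) := by
    have h1 := (Cfsg.Agent.Lib.Helper55_SUND_PU1.degree_cases q r
      (orderOf (((q ^ 2 : ℕ) : ℕ) : ZMod r)) rfl).1 hi4
    rw [h1, hK]
  rw [← hcdeg] at hWcard hW1
  have hσne : ∃ θ, σ θ ≠ θ := by
    obtain ⟨σ', hσ', hI⟩ := Cfsg.Agent.Lib.Helper94_HermBridge.exists_frob hK
    have : σ = σ' := RingHom.ext (fun x => by rw [hσq, hσ'])
    rw [this]
    exact hI.ne_id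
  intro s'
  induction s' with
  | zero =>
    intro V _ _ _ B T a _ _ _ _ _
    refine ⟨⊥, ?_, ?_, by rw [finrank_bot, mul_zero]⟩
    · intro x hx
      rw [Submodule.mem_bot] at hx
      rw [hx, map_zero]
      exact Submodule.zero_mem _
    · intro x hx y _
      rw [Submodule.mem_bot] at hx
      rw [hx, map_zero, LinearMap.zero_apply]
  | succ s ih =>
    intro V _ _ _ B T a ha hU hB hfix hs
    have hs' : (r - 1) / uAtomDim q r + 2 * (s + 1) ≤ a + 1 := by
      rcases hs with h0 | h0
      · omega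
      · exact h0
    have hrefl : ∀ x y, B x y = 0 → B y x = 0 := fun x y h => hU.eq_zero h
    have hss := isSemisimple_of_pow_eq_one T r hrF hU.pow
    obtain ⟨L, hL, hp, hlen⟩ := exists_atom_list hK hσq hr hr2 hrp hcpos (finrank K V) B T rfl hU hB hfix
    have hLa : L.length = a := by
      have : uAtomDim q r * L.length = uAtomDim q r * a := by rw [hlen, ha]
      exact Nat.eq_of_mul_eq_mul_left hcpos this
    have hsymm : Std.Symm (fun P Q : Submodule K V => ∀ u ∈ P, ∀ v ∈ Q, B u v = 0) :=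
      ⟨fun P Q hPQ u hu v hv => hrefl _ _ (hPQ v hv u hu)⟩
    have hnodup : L.Nodup := by
      refine List.Pairwise.imp_of_mem ?_ hp
      intro P Q hP hQ horth hPQ
      subst hPQ
      have hnd := (hL P hP).2.1
      have h0 : P = ⊥ := by
        rw [eq_bot_iff]
        intro x hx
        rw [Submodule.mem_bot]
        exact hnd x hx (fun y hy => horth x hx y hy)
      have hd := (hL P hP).2.2
      rw [h0, finrank_bot] at hd
      omega
    have hdisjfix : ∀ P : Submodule K V, Disjoint P (Module.End.eigenspace T 1) := by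
      intro P
      rw [hfix]
      exact disjoint_bot_right
    have hex : ∃ P ∈ L, ∃ Q ∈ L, P ≠ Q ∧ typ T P = typ T Q := by
      by_contra hcon
      push Not at hcon
      have hnd2 : (L.map (typ T)).Nodup :=
        List.Nodup.map_on (fun P hP Q hQ h => by
          by_contra hne
          exact hcon P hP Q hQ hne h) hnodup
      have hsub : (L.map (typ T)).toFinset ⊆ Wset := by
        intro w hw
        rw [List.mem_toFinset, List.mem_map] at hw
        obtain ⟨P, hP, rfl⟩ := hw
        have hPL := hL P hP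
        rw [typ_eq hPL.1]
        exact charpoly_mem_of_atom hU Wset (uAtomDim q r) hcpos hW1 hW2 hPL.1 (hdisjfix P) hPL.2.2
      have := Finset.card_le_card hsub
      rw [List.toFinset_card_of_nodup hnd2, List.length_map, hWcard, hLa] at this
      omega
    obtain ⟨P, hP, Q, hQ, hPQ, htyp⟩ := hex
    have hPL := hL P hP
    have hQL := hL Q hQ
    have horthPQ : ∀ u ∈ P, ∀ v ∈ Q, B u v = 0 := hp.forall hP hQ hPQ
    have hch : (T.restrict hPL.1).charpoly = (T.restrict hQL.1).charpoly := by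
      rw [← typ_eq hPL.1, ← typ_eq hQL.1]
      exact htyp
    obtain ⟨U₀, hU₀le, hU₀inv, hU₀ti, hU₀d⟩ := exists_ti_in_pair hσne hU hss hPL.1 hQL.1 hPL.2.1
      hQL.2.1 horthPQ hch
    rw [hPL.2.2] at hU₀d
    -- the orthogonal complement of the pair
    have hZinv : Inv T (P ⊔ Q) := inv_sup' hPL.1 hQL.1
    have hZnd : UNDOn B (P ⊔ Q) := und_sup hrefl hPL.2.1 hQL.2.1 horthPQ
    have hZdim : finrank K (P ⊔ Q : Submodule K V) = uAtomDim q r + uAtomDim q r := by
      rw [Cfsg.Agent.Lib.Helper99_InvSub.finrank_sup_of_disjoint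
        (disjoint_of_orth' hrefl hPL.2.1 horthPQ), hPL.2.2, hQL.2.2]
    set Y := orth B (P ⊔ Q) with hY
    have hYinv : Inv T Y := hU.inv_orth hZinv
    have hcompl : IsCompl (P ⊔ Q) Y := isCompl_orth hU hZnd
    have hYnd : UNDOn B Y := undOn_orth hU hB hZnd
    have hdim : finrank K (P ⊔ Q : Submodule K V) + finrank K Y = finrank K V :=
      Submodule.finrank_add_eq_of_isCompl hcompl
    have hfixY : Module.End.eigenspace (T.restrict hYinv) 1 = ⊥ := by
      rw [eq_bot_iff]
      intro x hx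
      rw [Module.End.mem_eigenspace_iff, one_smul] at hx
      have h1 : T (x : V) = x := congrArg (fun y : Y => (y : V)) hx
      have h2 : (x : V) ∈ Module.End.eigenspace T 1 := by
        rw [Module.End.mem_eigenspace_iff, one_smul]
        exact h1
      rw [hfix, Submodule.mem_bot] at h2
      rw [Submodule.mem_bot]
      exact Subtype.ext h2
    have hd1 : 1 ≤ (r - 1) / uAtomDim q r := by
      rw [← hWcard]
      exact Finset.card_pos.2 ⟨_, charpoly_mem_of_atom hU Wset (uAtomDim q r) hcpos hW1 hW2 hPL.1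
        (hdisjfix P) hPL.2.2⟩
    have ha2 : 2 ≤ a := by omega
    have haY : uAtomDim q r * (a - 2) = finrank K Y := by
      have h1 : uAtomDim q r * a = uAtomDim q r * (a - 2) + (uAtomDim q r + uAtomDim q r) := by
        have : a = (a - 2) + 2 := by omega
        nth_rewrite 1 [this]
        ring
      omega
    obtain ⟨U', hU'inv, hU'ti, hU'd⟩ := ih (UData.res B Y) (T.restrict hYinv) (a - 2) haY
      (hU.restrict hYinv) (und_res hYnd) hfixY (by right; omega)
    have horth : ∀ u ∈ P ⊔ Q, ∀ w ∈ U'.map Y.subtype, B u w = 0 := by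
      rintro u hu _ ⟨w, _, rfl⟩
      exact w.2 u hu
    have hU'ti' : UIsoOn B (U'.map Y.subtype) := by
      rintro _ ⟨x, hx, rfl⟩ _ ⟨y, hy, rfl⟩
      exact hU'ti x hx y hy
    have hdisj : Disjoint U₀ (U'.map Y.subtype) := by
      rw [Submodule.disjoint_def]
      intro x hx1 hx2
      obtain ⟨y, _, rfl⟩ := hx2
      exact Submodule.disjoint_def.1 hcompl.disjoint _ (hU₀le hx1) y.2
    refine ⟨U₀ ⊔ U'.map Y.subtype, inv_sup' hU₀inv (inv_map_subtype hYinv hU'inv), ?_, ?_⟩
    · intro x hx y hy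
      obtain ⟨x1, hx1, x2, hx2, rfl⟩ := Submodule.mem_sup.1 hx
      obtain ⟨y1, hy1, y2, hy2, rfl⟩ := Submodule.mem_sup.1 hy
      simp only [map_add, LinearMap.add_apply]
      rw [hU₀ti x1 hx1 y1 hy1, hU'ti' x2 hx2 y2 hy2, horth x1 (hU₀le hx1) y2 hy2,
        hrefl _ _ (horth y1 (hU₀le hy1) x2 hx2)]
      simp
    · rw [Cfsg.Agent.Lib.Helper99_InvSub.finrank_sup_of_disjoint hdisj, hU₀d,
        Submodule.finrank_map_subtype_eq, hU'd]
      ring

/-- TS2: structure theorem, self-dual atoms (`ord_r(q) % 4 = 2`); port of `Helper99_SpTI2.exists_struct_even`. -/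
theorem TS2 (hK : Fintype.card K = q ^ 2) (hσq : ∀ x, σ x = x ^ q)
    {V : Type u} [AddCommGroup V] [Module K V] [FiniteDimensional K V]
    {B : V →ₗ[K] V →ₛₗ[σ] K} {T : Module.End K V} {r : ℕ}
    (h : UData B T r) (hB : UND B) (hr : r.Prime) (hr2 : r ≠ 2) (hrp : r ≠ p)
    (hi4 : orderOf ((q : ℕ) : ZMod r) % 4 = 2) :
    ∃ a : ℕ, uAtomDim q r * a + finrank K (Module.End.eigenspace T 1) = finrank K V ∧
      ∀ s' e' : ℕ, (s' = 0 ∨ (r - 1) / uAtomDim q r + 2 * s' ≤ a + 1) →
        2 * e' ≤ finrank K (Module.End.eigenspace T 1) →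
        UHasTI B T ⊤ (uAtomDim q r * s' + e') := by
  classical
  have hcpos : 0 < uAtomDim q r := uAtomDim_pos (ord_pos'' hr (not_dvd_q' hK hr hrp))
  have hrF : ((r : ℕ) : K) ≠ 0 := Cfsg.Agent.Lib.Helper99_PrimeOrderSL.natCast_ne_zero hr hrp
  have hσ : Invol σ := by
    obtain ⟨σ', hσ'q, hσ'⟩ := Cfsg.Agent.Lib.Helper94_HermBridge.exists_frob hK
    have : σ = σ' := by
      ext x
      rw [hσq, hσ'q]
    rw [this]
    exact hσ'
  have hrefl : ∀ x y, B x y = 0 → B y x = 0 := fun x y hxy => h.eq_zero hxy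
  set Fx := Module.End.eigenspace T 1 with hFx
  set R := LinearMap.range (T - 1) with hR
  have hsup : Fx ⊔ R = ⊤ := fix_sup_range hr.pos hrF h.pow
  have hdisj : Disjoint Fx R := disjoint_fix_range hrF h.pow
  have hfixmem : ∀ x ∈ Fx, T x = x := by
    intro x hx
    rwa [hFx, Module.End.mem_eigenspace_iff, one_smul] at hx
  have horthRF : ∀ u ∈ R, ∀ v ∈ Fx, B u v = 0 := by
    rintro _ ⟨x, rfl⟩ v hv
    rw [LinearMap.sub_apply, Module.End.one_apply, map_sub, LinearMap.sub_apply]
    nth_rewrite 1 [← hfixmem v hv]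
    rw [h.iso, sub_self]
  have hRinv : Inv T R := inv_range_sub_one T
  have hFnd : UNDOn B Fx := by
    intro x hx hxy
    apply hB x
    intro v
    have hv : v ∈ Fx ⊔ R := by rw [hsup]; trivial
    obtain ⟨f, hf, ρ, hρ, rfl⟩ := Submodule.mem_sup.1 hv
    rw [map_add, hxy f hf, hrefl _ _ (horthRF ρ hρ x hx), add_zero]
  have hRnd : UNDOn B R := by
    intro x hx hxy
    apply hB x
    intro v
    have hv : v ∈ Fx ⊔ R := by rw [hsup]; trivial
    obtain ⟨f, hf, ρ, hρ, rfl⟩ := Submodule.mem_sup.1 hv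
    rw [map_add, hxy ρ hρ, horthRF x hx f hf, add_zero]
  have hdim : finrank K Fx + finrank K R = finrank K V :=
    Submodule.finrank_add_eq_of_isCompl ⟨hdisj, codisjoint_iff.2 hsup⟩
  have hfixR : Module.End.eigenspace (T.restrict hRinv) 1 = ⊥ := by
    rw [eq_bot_iff]
    intro x hx
    rw [Module.End.mem_eigenspace_iff, one_smul] at hx
    have h1 : T (x : V) = x := congrArg (fun y : R => (y : V)) hx
    have h2 : (x : V) ∈ Fx := by
      rw [hFx, Module.End.mem_eigenspace_iff, one_smul]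
      exact h1
    have h3 := Submodule.disjoint_def.1 hdisj _ h2 x.2
    rw [Submodule.mem_bot]
    exact Subtype.ext h3
  obtain ⟨a, ha, -⟩ := exists_atoms hK hσq hr hr2 hrp hcpos (finrank K R) (UData.res B R)
    (T.restrict hRinv) rfl (h.restrict hRinv) (und_res hRnd) hfixR
  refine ⟨a, by omega, ?_⟩
  intro s' e' hs' he'
  obtain ⟨UR, hURinv, hURti, hURd⟩ := exists_ti_pairs hK hσq hr hr2 hrp hi4 hcpos s' (UData.res B R)
    (T.restrict hRinv) a ha (h.restrict hRinv) (und_res hRnd) hfixR hs'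
  obtain ⟨UF, hUFti, hUFd⟩ := Cfsg.Agent.Lib.Helper55_SUTI_TS0.TS0 hσ (UData.res B Fx)
    (fun x y => h.herm x y) (und_res hFnd) e' he'
  have horth : ∀ u ∈ UR.map R.subtype, ∀ w ∈ UF.map Fx.subtype, B u w = 0 := by
    rintro _ ⟨u, _, rfl⟩ _ ⟨w, _, rfl⟩
    exact horthRF u u.2 w w.2
  have hUFinv : Inv T (UF.map Fx.subtype) := by
    rintro _ ⟨w, hw, rfl⟩
    refine ⟨w, hw, ?_⟩
    exact (hfixmem w w.2).symm
  have hURti' : UIsoOn B (UR.map R.subtype) := by
    rintro _ ⟨x, hx, rfl⟩ _ ⟨y, hy, rfl⟩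
    exact hURti x hx y hy
  have hUFti' : UIsoOn B (UF.map Fx.subtype) := by
    rintro _ ⟨x, hx, rfl⟩ _ ⟨y, hy, rfl⟩
    exact hUFti x hx y hy
  have hdisj' : Disjoint (UR.map R.subtype) (UF.map Fx.subtype) := by
    rw [Submodule.disjoint_def]
    rintro _ ⟨x, _, rfl⟩ ⟨y, _, hxy⟩
    have hy : (x : V) ∈ Fx := by
      rw [← show (y : V) = (x : V) from hxy]
      exact y.2
    exact Submodule.disjoint_def.1 hdisj _ hy x.2
  refine ⟨UR.map R.subtype ⊔ UF.map Fx.subtype, le_top,
    inv_sup' (inv_map_subtype hRinv hURinv) hUFinv, ?_, ?_⟩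
  · intro x hx y hy
    obtain ⟨x1, hx1, x2, hx2, rfl⟩ := Submodule.mem_sup.1 hx
    obtain ⟨y1, hy1, y2, hy2, rfl⟩ := Submodule.mem_sup.1 hy
    simp only [map_add, LinearMap.add_apply]
    rw [hURti' x1 hx1 y1 hy1, hUFti' x2 hx2 y2 hy2, horth x1 hx1 y2 hy2,
      hrefl _ _ (horth y1 hy1 x2 hx2)]
    simp
  · rw [Cfsg.Agent.Lib.Helper99_InvSub.finrank_sup_of_disjoint hdisj',
      Submodule.finrank_map_subtype_eq, Submodule.finrank_map_subtype_eq, hURd, hUFd]

end struct

end Cfsg.Agent.Lib.Helper55_SUTI_TS2
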