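import Mathlib
import Cfsg.Agent.Lib.Helper68_StOoDefs
import Cfsg.Agent.Lib.Helper68_StAbs
import Cfsg.Agent.Lib.Helper70_StOo_MONOW

set_option autoImplicit false

namespace Cfsg.Agent.Lib.Helper55_StOo_INJ

open Matrix Cfsg.Agent.Lib.Helper68_MatGrp Cfsg.Agent.Lib.Helper68_StOoDefs

variable {m : ℕ} {F : Type*} [Field F] [Fintype F] [NeZero (2 : F)]


/-- every simple reflection is monomial, with a permutation fixing `ie i` for `i` below the index -/
theorem ss_mono (j : Fin m) :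
    ∃ σ : Equiv.Perm (I m), IsMono (φ m F) (ss j : GO m F) σ ∧
      ∀ i : Fin m, i < j → σ (ie i) = ie i := by
  by_cases h : j.val + 1 < m
  · refine ⟨Equiv.swap (ie j) (ie (⟨j.val + 1, h⟩ : Fin m)) *
      Equiv.swap (op (ie j)) (op (ie (⟨j.val + 1, h⟩ : Fin m))), ?_, ?_⟩
    · rw [ss_of_lt j h]
      exact Cfsg.Agent.Lib.Helper70_StOo_MONOW.wl_isMono (lxOK_ie (succ_ne j h))
    · intro i hij
      have hij' : i.val < j.val := hij
      have h1 : ie i ≠ ie j := fun e => by
        have := congrArg Fin.val (ie_injective e); omega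
      have h2 : ie i ≠ ie (⟨j.val + 1, h⟩ : Fin m) := fun e => by
        have := congrArg Fin.val (ie_injective e); simp only at this; omega
      have h3 : ie i ≠ op (ie j) := by rw [op_ie]; exact ie_ne_jf i j
      have h4 : ie i ≠ op (ie (⟨j.val + 1, h⟩ : Fin m)) := by rw [op_ie]; exact ie_ne_jf i _
      rw [Equiv.Perm.mul_apply, Equiv.swap_apply_of_ne_of_ne h3 h4,
        Equiv.swap_apply_of_ne_of_ne h1 h2]
  · refine ⟨Equiv.swap (ie j) (op (ie j)), ?_, ?_⟩
    · rw [ss_of_not_lt j h]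
      exact Cfsg.Agent.Lib.Helper70_StOo_MONOW.ws_isMono (ie_ne_z0 j)
    · intro i hij
      have hij' : i.val < j.val := hij
      have h1 : ie i ≠ ie j := fun e => by
        have := congrArg Fin.val (ie_injective e); omega
      have h3 : ie i ≠ op (ie j) := by rw [op_ie]; exact ie_ne_jf i j
      rw [Equiv.swap_apply_of_ne_of_ne h1 h3]

theorem ss_not_mem_of_lt (i j : Fin m) (hij : i < j) :
    (ss i : GO m F)⁻¹ * ss j ∉ Boo m F := by
  intro hB
  have hij' : i.val < j.val := hij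
  have hi : i.val + 1 < m := by have := j.2; omega
  obtain ⟨σj, hσj, hfix⟩ := ss_mono (F := F) j
  set i' : Fin m := ⟨i.val + 1, hi⟩ with hi'
  have hmi : IsMono (φ m F) (ss i : GO m F)
      (Equiv.swap (ie i) (ie i') * Equiv.swap (op (ie i)) (op (ie i'))) := by
    rw [ss_of_lt i hi]
    exact Cfsg.Agent.Lib.Helper70_StOo_MONOW.wl_isMono (lxOK_ie (succ_ne i hi))
  have hg := hmi.inv.mul hσj
  have hne := hg.ne_zero (ie i)
  have hrow : ((Equiv.swap (ie i) (ie i') * Equiv.swap (op (ie i)) (op (ie i')))⁻¹ * σj) (ie i) =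
      ie i' := by
    rw [Equiv.Perm.mul_apply, hfix i hij, Equiv.Perm.inv_eq_iff_eq, Equiv.Perm.mul_apply]
    have h3 : ie i' ≠ op (ie i) := by rw [op_ie]; exact ie_ne_jf i' i
    have h4 : ie i' ≠ op (ie i') := by rw [op_ie]; exact ie_ne_jf i' i'
    rw [Equiv.swap_apply_of_ne_of_ne h3 h4, Equiv.swap_apply_right]
  rw [hrow] at hne
  apply hne
  apply (mem_Boo).1 hB
  simp only [ht_ie, hi']
  omega

theorem ss_inj (i j : Fin m) (h : (ss i : GO m F)⁻¹ * ss j ∈ Boo m F) : i = j := by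
  by_contra hne
  rcases lt_or_gt_of_ne hne with hlt | hgt
  · exact ss_not_mem_of_lt i j hlt h
  · apply ss_not_mem_of_lt (F := F) j i hgt
    have := (Boo m F).inv_mem h
    rwa [_root_.mul_inv_rev, inv_inv] at this

end Cfsg.Agent.Lib.Helper55_StOo_INJ
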