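import Mathlib
import Cfsg.Agent.Lib.Helper27_StSUDefs
import Cfsg.Agent.Lib.Helper27_StSUBasic
import Cfsg.Agent.Lib.Helper55_StSU_MEMX

/-!
# S2546 package OPPX (architect helper27): conjugation by `wX` gives the opposite type `X` root element
-/

set_option autoImplicit false
set_option linter.unusedSectionVars false
set_option linter.unusedVariables false

namespace Cfsg.Agent.Lib.Helper55_StSU_OPPX

open Matrix Cfsg.Agent.Lib.Helper68_MatGrp Cfsg.Agent.Lib.Helper27_StSUDefs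
  Cfsg.Agent.Lib.Helper27_StSUBasic

variable {n : ℕ} {F : Type*} [Field F] (σ : F →+* F)

theorem xX_val (i : Fin n) (h : i ≠ Fin.rev i) (t : F) (ht : σ t = -t) : (xX σ i t).1.1 = xXm i t :=
  mkE_val σ (Cfsg.Agent.Lib.Helper55_StSU_MEMX.xXm_mem σ i h t ht).1
    (Cfsg.Agent.Lib.Helper55_StSU_MEMX.xXm_mem σ i h t ht).2

theorem wX_val (ε : F) (hε0 : ε ≠ 0) (hε : σ ε = -ε) (i : Fin n) (h : i ≠ Fin.rev i) :
    (wX σ ε i).1.1 = wXm ε i :=
  mkE_val σ (Cfsg.Agent.Lib.Helper55_StSU_MEMX.wXm_mem σ ε hε0 hε i h).1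
    (Cfsg.Agent.Lib.Helper55_StSU_MEMX.wXm_mem σ ε hε0 hε i h).2

/-- `x w = w x'` for the matrices -/
theorem mat_oppX (ε t s : F) (hs : ε * s = -(t * ε⁻¹)) (i : Fin n) (h : i ≠ Fin.rev i) :
    xXm i t * wXm ε i = wXm ε i * xXm (Fin.rev i) s := by
  unfold wXm xXm
  rw [Fin.rev_rev]
  simp only [Matrix.mul_add, Matrix.add_mul, Matrix.mul_sub, Matrix.sub_mul,
    single_mul_single_same, single_mul_single_of_ne _ _ _ _ h.symm,
    single_mul_single_of_ne _ _ _ _ h, mul_one, one_mul, hs, ← single_neg]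
  abel

/-- `w x = x' w` for the matrices -/
theorem mat_oppX' (ε t s : F) (hs : s * ε = -(ε⁻¹ * t)) (i : Fin n) (h : i ≠ Fin.rev i) :
    wXm ε i * xXm i t = xXm (Fin.rev i) s * wXm ε i := by
  unfold wXm xXm
  rw [Fin.rev_rev]
  simp only [Matrix.mul_add, Matrix.add_mul, Matrix.mul_sub, Matrix.sub_mul,
    single_mul_single_same, single_mul_single_of_ne _ _ _ _ h.symm,
    single_mul_single_of_ne _ _ _ _ h, mul_one, one_mul, hs, ← single_neg]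
  abel

theorem oppX (hσ : ∀ x, σ (σ x) = x) (ε : F) (hε0 : ε ≠ 0) (hε : σ ε = -ε) (i : Fin n) (h : i ≠ Fin.rev i)
    (t : F) (ht : σ t = -t) :
    (wX σ ε i)⁻¹ * xX σ i t * wX σ ε i = xX σ (Fin.rev i) (-(ε⁻¹ * ε⁻¹ * t)) := by
  have h' : Fin.rev i ≠ Fin.rev (Fin.rev i) := by rw [Fin.rev_rev]; exact h.symm
  have hs : σ (-(ε⁻¹ * ε⁻¹ * t)) = -(-(ε⁻¹ * ε⁻¹ * t)) := by
    rw [map_neg, map_mul, map_mul, map_inv₀, hε, ht, inv_neg]
    ring
  have key : xX σ i t * wX σ ε i = wX σ ε i * xX σ (Fin.rev i) (-(ε⁻¹ * ε⁻¹ * t)) := by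
    apply ext_val σ
    rw [mul_val, mul_val, xX_val σ i h t ht, wX_val σ ε hε0 hε i h, xX_val σ (Fin.rev i) h' _ hs]
    apply mat_oppX _ _ _ _ i h
    field_simp
  rw [mul_assoc, key, inv_mul_cancel_left]

theorem oppX' (hσ : ∀ x, σ (σ x) = x) (ε : F) (hε0 : ε ≠ 0) (hε : σ ε = -ε) (i : Fin n) (h : i ≠ Fin.rev i)
    (t : F) (ht : σ t = -t) :
    wX σ ε i * xX σ i t * (wX σ ε i)⁻¹ = xX σ (Fin.rev i) (-(ε⁻¹ * ε⁻¹ * t)) := by
  have h' : Fin.rev i ≠ Fin.rev (Fin.rev i) := by rw [Fin.rev_rev]; exact h.symm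
  have hs : σ (-(ε⁻¹ * ε⁻¹ * t)) = -(-(ε⁻¹ * ε⁻¹ * t)) := by
    rw [map_neg, map_mul, map_mul, map_inv₀, hε, ht, inv_neg]
    ring
  have key : wX σ ε i * xX σ i t = xX σ (Fin.rev i) (-(ε⁻¹ * ε⁻¹ * t)) * wX σ ε i := by
    apply ext_val σ
    rw [mul_val, mul_val, xX_val σ i h t ht, wX_val σ ε hε0 hε i h, xX_val σ (Fin.rev i) h' _ hs]
    apply mat_oppX' _ _ _ _ i h
    field_simp
  rw [key, mul_inv_cancel_right]

end Cfsg.Agent.Lib.Helper55_StSU_OPPX
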