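import Mathlib
import Cfsg.Agent.Lib.Helper56_U320Defs
import Cfsg.Agent.Lib.Helper56_U320_REL

/-! S1903 market, package XSQ: `x * x = c1 * c2` from `X4 = x * X1 * X2 * X3`. -/

set_option autoImplicit false
set_option linter.unusedSimpArgs false
open Cfsg.Agent.Lib.Helper56_U320Defs Cfsg.Agent.Lib.Helper56_U320_REL

namespace Cfsg.Agent.Lib.Helper56_U320_XSQ

variable {G : Type*} [Group G]

/-- the square of a conjugate of `x` when `x * x` is central -/
theorem cj_sq {s x : G} (hq : ∀ g : G, (x * x) * g = g * (x * x)) (i : ℕ) :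
    cj s x i * cj s x i = x * x := by
  have : cj s x i * cj s x i = s ^ i * (x * x) * (s ^ i)⁻¹ := by
    simp only [cj]; group
  rw [this, ← hq (s ^ i)]
  group

/-- the square of a product of four elements with central commutators -/
theorem sq_four (y0 y1 y2 y3 c1 c2 q : G)
    (hc1 : ∀ g : G, c1 * g = g * c1) (hc2 : ∀ g : G, c2 * g = g * c2) (hq : ∀ g : G, q * g = g * q)
    (c1sq : c1 * c1 = 1) (c2sq : c2 * c2 = 1) (qsq : q * q = 1)
    (q0 : y0 * y0 = q) (q1 : y1 * y1 = q) (q2 : y2 * y2 = q) (q3 : y3 * y3 = q)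
    (h10 : y1 * y0 = y0 * y1 * c1) (h20 : y2 * y0 = y0 * y2 * c2) (h30 : y3 * y0 = y0 * y3 * c2)
    (h21 : y2 * y1 = y1 * y2 * c1) (h31 : y3 * y1 = y1 * y3 * c2) (h32 : y3 * y2 = y2 * y3 * c1) :
    (y0 * y1 * y2 * y3) * (y0 * y1 * y2 * y3) = c1 * c2 := by
  -- tail forms
  have t10 : ∀ r : G, y1 * (y0 * r) = y0 * (y1 * (c1 * r)) := fun r => by
    rw [← mul_assoc, h10]; simp only [mul_assoc]
  have t20 : ∀ r : G, y2 * (y0 * r) = y0 * (y2 * (c2 * r)) := fun r => by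
    rw [← mul_assoc, h20]; simp only [mul_assoc]
  have t30 : ∀ r : G, y3 * (y0 * r) = y0 * (y3 * (c2 * r)) := fun r => by
    rw [← mul_assoc, h30]; simp only [mul_assoc]
  have t21 : ∀ r : G, y2 * (y1 * r) = y1 * (y2 * (c1 * r)) := fun r => by
    rw [← mul_assoc, h21]; simp only [mul_assoc]
  have t31 : ∀ r : G, y3 * (y1 * r) = y1 * (y3 * (c2 * r)) := fun r => by
    rw [← mul_assoc, h31]; simp only [mul_assoc]
  have t32 : ∀ r : G, y3 * (y2 * r) = y2 * (y3 * (c1 * r)) := fun r => by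
    rw [← mul_assoc, h32]; simp only [mul_assoc]
  have s0 : ∀ r : G, y0 * (y0 * r) = q * r := fun r => by rw [← mul_assoc, q0]
  have s1 : ∀ r : G, y1 * (y1 * r) = q * r := fun r => by rw [← mul_assoc, q1]
  have s2 : ∀ r : G, y2 * (y2 * r) = q * r := fun r => by rw [← mul_assoc, q2]
  -- centrals move to the left past the `y`'s
  have mv : ∀ c : G, (∀ g : G, c * g = g * c) → ∀ g r : G, g * (c * r) = c * (g * r) :=
    fun c hc g r => by rw [← mul_assoc, ← hc g, mul_assoc]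
  have a1 := mv c1 hc1 y1
  have a2 := mv c1 hc1 y2
  have a3 := mv c1 hc1 y3
  have b1 := mv c2 hc2 y1
  have b2 := mv c2 hc2 y2
  have b3 := mv c2 hc2 y3
  have d1 := mv q hq y1
  have d2 := mv q hq y2
  have d3 := mv q hq y3
  have e : (y0 * y1 * y2 * y3) * (y0 * y1 * y2 * y3) =
      y0 * (y1 * (y2 * (y3 * (y0 * (y1 * (y2 * y3)))))) := by simp only [mul_assoc]
  rw [e, t30, t20, t10, s0]
  simp only [a1, a2, a3, b1, b2, b3]
  rw [t31, t21, s1]
  simp only [a1, a2, a3, b1, b2, b3, d1, d2, d3]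
  rw [t32, s2]
  simp only [a1, a2, a3, b1, b2, b3, d1, d2, d3]
  rw [q3]
  -- a product of central elements
  have k2 : ∀ r : G, c2 * (c2 * r) = r := fun r => by rw [← mul_assoc, c2sq, one_mul]
  have k1 : ∀ r : G, c1 * (c1 * r) = r := fun r => by rw [← mul_assoc, c1sq, one_mul]
  have kq : ∀ r : G, q * (q * r) = r := fun r => by rw [← mul_assoc, qsq, one_mul]
  rw [k2, mv q hq c1, kq, k1, hc1 q, kq, hc2 c1]

theorem xsq_of_r4 {s x c1 c2 : G} (h : Core s x c1 c2) (hq : ∀ g : G, (x * x) * g = g * (x * x))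
    (hq2 : (x * x) * (x * x) = 1)
    (r4 : cj s x 4 = x * cj s x 1 * cj s x 2 * cj s x 3) : x * x = c1 * c2 := by
  obtain ⟨h10, h20, h30, h21, h31, h32⟩ := rel_all h
  have key := sq_four x (cj s x 1) (cj s x 2) (cj s x 3) c1 c2 (x * x) h.c1c h.c2c hq h.c1sq h.c2sq hq2
    rfl (cj_sq hq 1) (cj_sq hq 2) (cj_sq hq 3) h10 h20 h30 h21 h31 h32
  rw [← r4, cj_sq hq 4] at key
  exact key

end Cfsg.Agent.Lib.Helper56_U320_XSQ
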