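import Mathlib
import Cfsg.Agent.Lib.Helper56_U320Defs
import Cfsg.Agent.Lib.Helper56_U320_XSQ
import Cfsg.Agent.Lib.Helper88_U320_ZP
import Cfsg.Agent.Lib.Helper31_U320_SYL
import Cfsg.Agent.Lib.Helper27_U320_ZC

set_option autoImplicit false

/-!
# S1903 market (architect helper56), package DATA: the hypotheses of S1903 give `Data G`.
`data_of_hyp_of` takes the statements of the packages SYL (`exists_s`), ZC, LIFT, GENSX as
hypotheses (ZP and XSQ are imported).  (helper55)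
-/

open Cfsg.Agent.Lib.Helper56_U320Defs

namespace Cfsg.Agent.Lib.Helper55_U320_DATA

section
variable {G : Type*} [Group G]

theorem h55_cj_mul_central (s x w : G) (hw : ∀ g : G, w * g = g * w) (i : ℕ) :
    cj s (x * w) i = cj s x i * w := by
  unfold cj
  calc s ^ i * (x * w) * (s ^ i)⁻¹ = s ^ i * (x * (w * (s ^ i)⁻¹)) := by simp only [mul_assoc]
    _ = s ^ i * (x * ((s ^ i)⁻¹ * w)) := by rw [hw]
    _ = s ^ i * x * (s ^ i)⁻¹ * w := by simp only [mul_assoc]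

theorem h55_L1 (w : G) (hw : ∀ g : G, w * g = g * w) (hww : w * w = 1) (p q : G) :
    p * w * (q * w) = p * q := by
  rw [mul_assoc p w, hw (q * w), mul_assoc q w w, hww, mul_one]

theorem h55_r4 (w : G) (hw : ∀ g : G, w * g = g * w) (hww : w * w = 1) (x A B C : G) :
    x * A * B * C * w * w = x * w * (A * w) * (B * w) * (C * w) := by
  have e1 : x * w * (A * w) = x * A := h55_L1 w hw hww x A
  have e2 : x * A * (B * w) * (C * w) = x * A * B * C := by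
    rw [← mul_assoc (x * A) B w]
    exact h55_L1 w hw hww (x * A * B) C
  rw [e1, e2, mul_assoc (x * A * B * C) w w, hww, mul_one]

theorem h55_cj_mem {P : Subgroup G} [P.Normal] (s : G) {x : G} (hx : x ∈ P) (i : ℕ) :
    cj s x i ∈ P := by
  unfold cj
  exact Subgroup.Normal.conj_mem inferInstance x hx (s ^ i)

end

section
variable {G : Type*} [Group G] [Finite G]

/-- **S1903-DATA**, with the statements of SYL (`exists_s`), ZC, LIFT, GENSX as hypotheses. -/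
theorem data_of_hyp_of
    (hSYL : ∃ s : G, orderOf s = 5)
    (hZC : ∀ z ∈ ZP G, ∀ g : G, z * g = g * z)
    (hLIFT : (∀ a ∈ commutator G, ∀ b ∈ commutator G, a * b * a⁻¹ * b⁻¹ ∈ ZP G) ∧
      (∀ a ∈ commutator G, a * a ∈ ZP G) ∧
      ∀ s : G, orderOf s = 5 → ∀ x ∈ commutator G, x ∉ ZP G →
        (∃ w ∈ ZP G, cj s x 4 = x * cj s x 1 * cj s x 2 * cj s x 3 * w) ∧
        ∀ b ∈ commutator G, ∃ β : Bits, ∃ z ∈ ZP G,
          b = xpw x (cj s x 1) (cj s x 2) (cj s x 3) β * z)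
    (hGENSX : ∀ s : G, orderOf s = 5 → ∀ x : G, x ∈ commutator G → x ∉ ZP G →
      Subgroup.closure ({s, x} : Set G) = ⊤)
    (hG : Nat.card G = 320) (hD : Nat.card (commutator G) = 64)
    (hZ : IsKleinFour (Subgroup.center (commutator G))) : Nonempty (Data G) := by
  classical
  obtain ⟨hZ4, hZle, hZsq, -, -⟩ := Cfsg.Agent.Lib.Helper88_U320_ZP.ZP_facts hZ
  obtain ⟨hL1, hL2, hL3⟩ := hLIFT
  obtain ⟨s, hs⟩ := hSYL
  have hs5 : s ^ 5 = 1 := by
    rw [← hs]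
    exact pow_orderOf_eq_one s
  -- an element of `G'` outside `Z(G')`
  obtain ⟨x₀, hx₀P, hx₀Z⟩ : ∃ x₀ : G, x₀ ∈ commutator G ∧ x₀ ∉ ZP G := by
    by_contra hcon
    push Not at hcon
    have hle : commutator G ≤ ZP G := fun a ha => hcon a ha
    have := Subgroup.card_le_of_le hle
    rw [hD, hZ4] at this
    omega
  obtain ⟨⟨w, hwZ, hw4⟩, -⟩ := hL3 s hs x₀ hx₀P hx₀Z
  have hwc : ∀ g : G, w * g = g * w := hZC w hwZ
  have hww : w * w = 1 := hZsq w hwZ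
  -- the normalised `x`
  have hxP : x₀ * w ∈ commutator G := (commutator G).mul_mem hx₀P (hZle hwZ)
  have hxZ : x₀ * w ∉ ZP G := by
    intro h
    apply hx₀Z
    have h' : x₀ * w * w⁻¹ ∈ ZP G := (ZP G).mul_mem h ((ZP G).inv_mem hwZ)
    rwa [mul_inv_cancel_right] at h'
  have hr4 : cj s (x₀ * w) 4 = x₀ * w * cj s (x₀ * w) 1 * cj s (x₀ * w) 2 * cj s (x₀ * w) 3 := by
    rw [h55_cj_mul_central s x₀ w hwc 4, h55_cj_mul_central s x₀ w hwc 1,
      h55_cj_mul_central s x₀ w hwc 2, h55_cj_mul_central s x₀ w hwc 3, hw4]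
    exact h55_r4 w hwc hww x₀ _ _ _
  obtain ⟨x, hx⟩ : ∃ x : G, x = x₀ * w := ⟨_, rfl⟩
  rw [← hx] at hxP hxZ hr4
  have hX1 : cj s x 1 ∈ commutator G := h55_cj_mem s hxP 1
  have hX2 : cj s x 2 ∈ commutator G := h55_cj_mem s hxP 2
  -- the central elements `c1`, `c2`
  have hc1Z : (x * cj s x 1)⁻¹ * (cj s x 1 * x) ∈ ZP G := by
    have h := hL1 (cj s x 1)⁻¹ ((commutator G).inv_mem hX1) x⁻¹ ((commutator G).inv_mem hxP)
    have e : (cj s x 1)⁻¹ * x⁻¹ * (cj s x 1)⁻¹⁻¹ * x⁻¹⁻¹ = (x * cj s x 1)⁻¹ * (cj s x 1 * x) := by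
      rw [inv_inv, inv_inv, mul_inv_rev, mul_assoc ((cj s x 1)⁻¹ * x⁻¹)]
    rwa [e] at h
  have hc2Z : (x * cj s x 2)⁻¹ * (cj s x 2 * x) ∈ ZP G := by
    have h := hL1 (cj s x 2)⁻¹ ((commutator G).inv_mem hX2) x⁻¹ ((commutator G).inv_mem hxP)
    have e : (cj s x 2)⁻¹ * x⁻¹ * (cj s x 2)⁻¹⁻¹ * x⁻¹⁻¹ = (x * cj s x 2)⁻¹ * (cj s x 2 * x) := by
      rw [inv_inv, inv_inv, mul_inv_rev, mul_assoc ((cj s x 2)⁻¹ * x⁻¹)]
    rwa [e] at h
  have hcore : Core s x ((x * cj s x 1)⁻¹ * (cj s x 1 * x)) ((x * cj s x 2)⁻¹ * (cj s x 2 * x)) :=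
    { s5 := hs5
      c1c := hZC _ hc1Z
      c2c := hZC _ hc2Z
      c1sq := hZsq _ hc1Z
      c2sq := hZsq _ hc2Z
      r1 := by rw [mul_inv_cancel_left]
      r2 := by rw [mul_inv_cancel_left] }
  have hxxZ : x * x ∈ ZP G := hL2 x hxP
  have hxsq : x * x = (x * cj s x 1)⁻¹ * (cj s x 1 * x) * ((x * cj s x 2)⁻¹ * (cj s x 2 * x)) :=
    Cfsg.Agent.Lib.Helper56_U320_XSQ.xsq_of_r4 hcore (hZC _ hxxZ) (hZsq _ hxxZ) hr4
  exact ⟨{ s := s
           x := x
           c1 := (x * cj s x 1)⁻¹ * (cj s x 1 * x)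
           c2 := (x * cj s x 2)⁻¹ * (cj s x 2 * x)
           core := hcore
           xsq := hxsq
           r4 := hr4
           gen := hGENSX s hs x hxP hxZ
           card := hG }⟩

/-- **S1903-DATA**, with only the statements of LIFT and GENSX as hypotheses. -/
theorem data_of_hyp_of'
    (hLIFT : (∀ a ∈ commutator G, ∀ b ∈ commutator G, a * b * a⁻¹ * b⁻¹ ∈ ZP G) ∧
      (∀ a ∈ commutator G, a * a ∈ ZP G) ∧
      ∀ s : G, orderOf s = 5 → ∀ x ∈ commutator G, x ∉ ZP G →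
        (∃ w ∈ ZP G, cj s x 4 = x * cj s x 1 * cj s x 2 * cj s x 3 * w) ∧
        ∀ b ∈ commutator G, ∃ β : Bits, ∃ z ∈ ZP G,
          b = xpw x (cj s x 1) (cj s x 2) (cj s x 3) β * z)
    (hGENSX : ∀ s : G, orderOf s = 5 → ∀ x : G, x ∈ commutator G → x ∉ ZP G →
      Subgroup.closure ({s, x} : Set G) = ⊤)
    (hG : Nat.card G = 320) (hD : Nat.card (commutator G) = 64)
    (hZ : IsKleinFour (Subgroup.center (commutator G))) : Nonempty (Data G) :=
  data_of_hyp_of (Cfsg.Agent.Lib.Helper31_U320_SYL.exists_s hG)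
    (Cfsg.Agent.Lib.Helper27_U320_ZC.ZP_central hG hD hZ) hLIFT hGENSX hG hD hZ

end

end Cfsg.Agent.Lib.Helper55_U320_DATA
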