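import Mathlib
import Cfsg.Agent.Lib.Helper83_U3PJ

/-!
# S2148 concrete half, package U3C-N (architect helper83): the restriction of the block stabiliser
to the hyperbolic line is unitary; it is scalar iff the element is a homology.
-/

set_option autoImplicit false
set_option linter.unusedSectionVars false
set_option linter.unusedVariables false

open Matrix Cfsg.Agent.Lib.Helper83_SU3J Cfsg.Agent.Lib.Helper83_U3Model
  Cfsg.Agent.Lib.Helper83_U3Bruhat Cfsg.Agent.Lib.Helper83_U3Group Cfsg.Agent.Lib.Helper83_U3PJ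

namespace Cfsg.Agent.Lib.Helper55_U3C_N

variable {F : Type*} [Field F] {σ : F →+* F}

/-- **N**.  Entrywise from `rel g i j`, `i, j ∈ {0, 2}`, using `g₁₀ = g₁₂ = 0`. -/
theorem rho2_unitary (hσ : ∀ x, σ (σ x) = x) {g : ↥(SUJ σ)} (hg : g ∈ NJ hσ) :
    (rho2 g)ᵀ * J2 * (rho2 g).map σ = J2 := by
  obtain ⟨g1, g2, g3, g4⟩ := hg
  have r00 := rel g.2 0 0
  have r02 := rel g.2 0 2
  have r20 := rel g.2 2 0
  have r22 := rel g.2 2 2
  have j00 : (J3 : Matrix (Fin 3) (Fin 3) F) 0 0 = 0 := by simp [J3]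
  have j02 : (J3 : Matrix (Fin 3) (Fin 3) F) 0 2 = 1 := by simp [J3]
  have j20 : (J3 : Matrix (Fin 3) (Fin 3) F) 2 0 = 1 := by simp [J3]
  have j22 : (J3 : Matrix (Fin 3) (Fin 3) F) 2 2 = 0 := by simp [J3]
  rw [j00] at r00
  rw [j02] at r02
  rw [j20] at r20
  rw [j22] at r22
  change mat g 0 0 * σ (mat g 2 0) + mat g 1 0 * σ (mat g 1 0) + mat g 2 0 * σ (mat g 0 0) = 0 at r00
  change mat g 0 0 * σ (mat g 2 2) + mat g 1 0 * σ (mat g 1 2) + mat g 2 0 * σ (mat g 0 2) = 1 at r02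
  change mat g 0 2 * σ (mat g 2 0) + mat g 1 2 * σ (mat g 1 0) + mat g 2 2 * σ (mat g 0 0) = 1 at r20
  change mat g 0 2 * σ (mat g 2 2) + mat g 1 2 * σ (mat g 1 2) + mat g 2 2 * σ (mat g 0 2) = 0 at r22
  rw [g1] at r00 r02
  rw [g2] at r20 r22
  unfold rho2 J2
  ext i j
  fin_cases i <;> fin_cases j <;>
    simp [Matrix.mul_apply, Fin.sum_univ_two]
  · linear_combination r00
  · linear_combination r02
  · linear_combination r20
  · linear_combination r22

/-- the middle entry has norm one -/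
theorem mid_norm (hσ : ∀ x, σ (σ x) = x) {g : ↥(SUJ σ)} (hg : g ∈ NJ hσ) :
    mat g 1 1 * σ (mat g 1 1) = 1 := by
  obtain ⟨g1, g2, g3, g4⟩ := hg
  have r11 := rel g.2 1 1
  have j11 : (J3 : Matrix (Fin 3) (Fin 3) F) 1 1 = 1 := by simp [J3]
  rw [j11] at r11
  change mat g 0 1 * σ (mat g 2 1) + mat g 1 1 * σ (mat g 1 1) + mat g 2 1 * σ (mat g 0 1) = 1 at r11
  rw [g3, g4] at r11
  linear_combination r11

/-- **N**.  Determinant of `rho2_unitary` (or: `g₁₁ σ g₁₁ = 1` from `rel g 1 1` and `det_rho2`). -/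
theorem det_rho2_norm (hσ : ∀ x, σ (σ x) = x) {g : ↥(SUJ σ)} (hg : g ∈ NJ hσ) :
    (rho2 g).det * σ (rho2 g).det = 1 := by
  have h1 := det_rho2 hσ hg
  have h3 := mid_norm hσ hg
  have h2 : σ (mat g 1 1) * σ (rho2 g).det = 1 := by
    rw [← map_mul, h1, map_one]
  linear_combination (-((rho2 g).det * σ (rho2 g).det)) * h3 +
    (σ (mat g 1 1) * σ (rho2 g).det) * h1 + h2

/-- **N**.  `g = diag(c, m, c)`, `c σ c = 1` (`rel g 0 2`), `m = c⁻²` (det), and
`tS σ c = diag(c, σ c / c, (σ c)⁻¹) = diag(c, c⁻², c)`. -/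
theorem rho2_scalar_iff (hσ : ∀ x, σ (σ x) = x) {g : ↥(SUJ σ)} (hg : g ∈ NJ hσ) :
    (∃ c : F, rho2 g = c • (1 : Matrix (Fin 2) (Fin 2) F)) ↔ g ∈ T1J hσ := by
  constructor
  · rintro ⟨c, hc⟩
    have hdet := det_rho2 hσ hg
    obtain ⟨g1, g2, g3, g4⟩ := hg
    have e00 : mat g 0 0 = c := by
      have := congrFun (congrFun hc 0) 0
      simpa [rho2] using this
    have e02 : mat g 0 2 = 0 := by
      have := congrFun (congrFun hc 0) 1
      simpa [rho2] using this
    have e20 : mat g 2 0 = 0 := by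
      have := congrFun (congrFun hc 1) 0
      simpa [rho2] using this
    have e22 : mat g 2 2 = c := by
      have := congrFun (congrFun hc 1) 1
      simpa [rho2] using this
    have r02 := rel g.2 0 2
    have j02 : (J3 : Matrix (Fin 3) (Fin 3) F) 0 2 = 1 := by simp [J3]
    rw [j02] at r02
    change mat g 0 0 * σ (mat g 2 2) + mat g 1 0 * σ (mat g 1 2) + mat g 2 0 * σ (mat g 0 2) = 1
      at r02
    rw [g1, e20, e00, e22, zero_mul, zero_mul, add_zero, add_zero] at r02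
    have hc0 : c ≠ 0 := by
      rintro rfl
      rw [zero_mul] at r02
      exact zero_ne_one r02
    have hσc : σ c = c⁻¹ := eq_inv_of_mul_eq_one_right r02
    have hm : mat g 1 1 * (c * c) = 1 := by
      unfold rho2 at hdet
      rw [Matrix.det_fin_two_of, e00, e02, e20, e22] at hdet
      linear_combination hdet
    have hm' : mat g 1 1 = c⁻¹ * c⁻¹ := by
      field_simp
      linear_combination hm
    refine ⟨Units.mk0 c hc0, ?_, ?_⟩
    · rw [Units.val_mk0]; exact r02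
    · apply mat_ext
      show mat g = (tS σ (Units.mk0 c hc0)).1
      rw [tS_val, Units.val_mk0, hσc, inv_inv]
      ext i j
      fin_cases i <;> fin_cases j <;> simp [g1, g2, g3, g4, e00, e02, e20, e22, hm']
  · rintro ⟨l, hl, rfl⟩
    refine ⟨(l : F), ?_⟩
    have h1 : (l : F) ≠ 0 := l.ne_zero
    have hσl : (σ (l : F))⁻¹ = l := by
      rw [inv_eq_iff_eq_inv]
      exact (eq_inv_of_mul_eq_one_right hl)
    unfold rho2
    show !![(tS σ l).1 0 0, (tS σ l).1 0 2; (tS σ l).1 2 0, (tS σ l).1 2 2] = _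
    rw [tS_val]
    ext i j
    fin_cases i <;> fin_cases j <;> simp [hσl]

end Cfsg.Agent.Lib.Helper55_U3C_N
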