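import Mathlib
import Cfsg.Agent.Lib.Helper67_UT2Defs
import Cfsg.Agent.Lib.Helper82_T2_KR
import Cfsg.Agent.Lib.Helper94_HermOrth
import Cfsg.Agent.Lib.Helper79_T2_NDG

set_option autoImplicit false
set_option linter.unusedSectionVars false
set_option linter.unusedVariables false

/-!
# UTENS2 package NDGU (architect helper67): for a maximal `g`, the space `DI g` is nondegenerate
(hermitian twin of `Helper79_T2_NDG`)
-/

namespace Cfsg.Agent.Lib.Helper55_UT2_NDGU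

open Module
open Cfsg.Agent.Lib.Helper94_Symp Cfsg.Agent.Lib.Helper94_Herm Cfsg.Agent.Lib.Helper13_PSUSimple
  Cfsg.Agent.Lib.Helper94_FrmDefs Cfsg.Agent.Lib.Helper94_HermEich
  Cfsg.Agent.Lib.Helper67_Tens2Defs Cfsg.Agent.Lib.Helper67_UT2Defs
open Cfsg.Agent.Lib.Helper94_HermOrth Cfsg.Agent.Lib.Helper79_T2_NDG

variable {F W : Type*} [Field F] [Finite F] [AddCommGroup W] [Module F W] [FiniteDimensional F W]
variable {σ : F →+* F} {β : W →ₗ[F] W →ₛₗ[σ] F}

theorem uf_Lg_zero {g : (W × W) ≃ₗ[F] (W × W)} (hg : g ∈ uG (uf β)) {x y : W × W}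
    (hx : x ∈ Lg g) (hy : y ∈ Lg g) : uf β x y = 0 := by
  obtain ⟨u, rfl⟩ := mem_Lg.1 hx
  obtain ⟨u', rfl⟩ := mem_Lg.1 hy
  rw [hg (u, 0) (u', 0), uf_apply]; simp

theorem snd_mem_orthS {g : (W × W) ≃ₗ[F] (W × W)} (hg : g ∈ uG (uf β)) {x : W × W}
    (hx : x ∈ Lg g) : x.2 ∈ orthS β (DI g) := by
  intro n hn
  have := uf_Lg_zero hg (mem_DI.1 hn) hx
  rw [uf_apply] at this
  simpa using this

theorem exists_snd (hβ : IsHerm β) (hN : NondegOn β ⊤)
    {g : (W × W) ≃ₗ[F] (W × W)} (hg : g ∈ uG (uf β)) {r : W}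
    (hr : r ∈ orthS β (DI g)) : ∃ x ∈ Lg g, x.2 = r := by
  set φ : Lg g →ₗ[F] W := (LinearMap.snd F W W).domRestrict (Lg g) with hφ
  have hrange : LinearMap.range φ ≤ orthS β (DI g) := by
    rintro _ ⟨x, rfl⟩
    exact snd_mem_orthS hg x.2
  have e : (LinearMap.ker φ).map (Lg g).subtype = Lg g ⊓ G0 := by
    ext y
    rw [Submodule.mem_map, Submodule.mem_inf, mem_G0]
    constructor
    · rintro ⟨x, hx, rfl⟩
      exact ⟨x.2, LinearMap.mem_ker.1 hx⟩
    · rintro ⟨hy, h2⟩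
      exact ⟨⟨y, hy⟩, LinearMap.mem_ker.2 h2, rfl⟩
  have hker : finrank F (LinearMap.ker φ) = finrank F (DI g) := by
    rw [finrank_DI, ← e, Submodule.finrank_map_subtype_eq]
  have h1 := LinearMap.finrank_range_add_finrank_ker φ
  rw [hker, finrank_Lg] at h1
  have h2 := finrank_orthS hβ hN (DI g)
  have heq : LinearMap.range φ = orthS β (DI g) :=
    Submodule.eq_of_le_of_finrank_eq hrange (by omega)
  rw [← heq] at hr
  obtain ⟨x, rfl⟩ := hr
  exact ⟨x, x.2, rfl⟩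

/-- NDGU : for such a maximal `g`, the space `DI g` is nondegenerate -/
theorem ndgu (hσ : Invol σ) (hβ : IsHerm β) (hN : NondegOn β ⊤)
    (M : Subgroup ((W × W) ≃ₗ[F] (W × W))) (hM : HypU β M)
    (hSEMI : ∀ g ∈ M,
      (∀ c : F, σ c = -c → ∀ x ∈ Lg g, ux (c • (LinearMap.id : W →ₗ[F] W)) x ∈ Lg g) →
      Lg g = (G0 : Submodule F (W × W)))
    (g : (W × W) ≃ₗ[F] (W × W)) (hg : g ∈ M) (hne : Lg g ≠ (G0 : Submodule F (W × W)))
    (hmax : ∀ g' ∈ M, Lg g' ≠ (G0 : Submodule F (W × W)) →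
      finrank F (DI g') ≤ finrank F (DI g)) :
    NondegOn β (DI g) := by
  intro r hrD hr0
  by_contra hcon
  push Not at hcon
  have hguG : g ∈ uG (uf β) := (mem_SUg.mp (hM.le hg)).1
  have hrorth : r ∈ orthS β (DI g) := by
    intro n hn'
    exact herm_eq_zero hβ (hcon n hn')
  obtain ⟨x, hxL, hx2⟩ := exists_snd hβ hN hguG hrorth
  apply hne
  apply hSEMI g hg
  intro c hc
  by_cases hc0 : c = 0
  · intro y hy
    have : ux (c • (LinearMap.id : W →ₗ[F] W)) y = y := by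
      rw [hc0, zero_smul, ux_zero]; rfl
    rw [this]; exact hy
  set v : (W × W) ≃ₗ[F] (W × W) := ux (c • (LinearMap.id : W →ₗ[F] W)) with hv
  have hvM : v ∈ M := hM.ux_mem c hc
  -- `v x = x + (c • r, 0) ∈ L`
  have hvx : v x = x + (c • r, 0) := by
    rw [hv, ux_apply]
    ext
    · simp [hx2]
    · simp
  have hvxL : v x ∈ Lg g := by
    rw [hvx]
    exact (Lg g).add_mem hxL (mem_DI.1 ((DI g).smul_mem c hrD))
  set g' : (W × W) ≃ₗ[F] (W × W) := g⁻¹ * v * g with hg'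
  have hg'M : g' ∈ M := M.mul_mem (M.mul_mem (M.inv_mem hg) hvM) hg
  have hgg' : ∀ y : W × W, g (g' y) = v (g y) := by
    intro y
    rw [hg']
    simp only [LinearEquiv.mul_apply]
    exact apply_inv_apply' g _
  by_cases hLg' : Lg g' = (G0 : Submodule F (W × W))
  · -- then `v` stabilises `L`
    intro y hy
    obtain ⟨u, rfl⟩ := mem_Lg.1 hy
    rw [← hgg']
    have h1 : g' (u, 0) ∈ Lg g' := mem_Lg.2 ⟨u, rfl⟩
    rw [hLg', mem_G0] at h1
    have e : g' (u, 0) = ((g' (u, 0)).1, 0) := Prod.ext rfl h1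
    rw [e]
    exact mem_Lg.2 ⟨_, rfl⟩
  · exfalso
    have hle := hmax g' hg'M hLg'
    have hmapg : (Lg g').map g.toLinearMap = (Lg g).map v.toLinearMap := by
      ext y
      constructor
      · rintro ⟨z, hz, rfl⟩
        obtain ⟨u, rfl⟩ := mem_Lg.1 hz
        refine ⟨g (u, 0), mem_Lg.2 ⟨u, rfl⟩, ?_⟩
        exact (hgg' (u, 0)).symm
      · rintro ⟨z, hz, rfl⟩
        obtain ⟨u, rfl⟩ := mem_Lg.1 hz
        refine ⟨g' (u, 0), mem_Lg.2 ⟨u, rfl⟩, ?_⟩
        exact hgg' (u, 0)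
    have hinf : (Lg g' ⊓ (G0 : Submodule F (W × W))).map g.toLinearMap
        = (Lg g).map v.toLinearMap ⊓ Lg g := by
      rw [Submodule.map_inf _ g.injective, hmapg]
      rfl
    have hfin1 : finrank F (DI g') = finrank F ↥((Lg g).map v.toLinearMap ⊓ Lg g) := by
      rw [finrank_DI, ← hinf, LinearEquiv.finrank_map_eq]
    have hlt : Lg g ⊓ (G0 : Submodule F (W × W)) < (Lg g).map v.toLinearMap ⊓ Lg g := by
      rw [lt_iff_le_and_ne]
      constructor
      · rintro z ⟨hzL, hz0⟩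
        refine ⟨⟨z, hzL, ?_⟩, hzL⟩
        have hz0' : z.2 = 0 := hz0
        show v z = z
        rw [hv, ux_apply]
        ext
        · simp [hz0']
        · rfl
      · intro heq
        have h1 : v x ∈ (Lg g).map v.toLinearMap ⊓ Lg g := ⟨⟨x, hxL, rfl⟩, hvxL⟩
        rw [← heq] at h1
        have h2' := mem_G0.1 h1.2
        rw [hvx] at h2'
        apply hr0
        rw [← hx2]
        simpa using h2'
    have hfin2 := Submodule.finrank_lt_finrank_of_lt hlt
    rw [← finrank_DI, ← hfin1] at hfin2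
    omega

end Cfsg.Agent.Lib.Helper55_UT2_NDGU
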