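import Cfsg.Agent.Lib.Helper56_WordLB

/-!
# Abstract counting lemmas for centralisers and presented groups (helper56, for S2134)

* `card_le_orbit_mul`: `|K| ≤ |O| * |K ⊓ stab x|` when the `K`-orbit of `x` lies in `O`;
* `conj_count`: distinct `H`-conjugates of `z` bound `|C_H(z)|` from above;
* `card_step_gen`: the orbit lower bound step for an arbitrary action;
* `iso_of_bounds`: a homomorphism from a group of order `≤ N` whose range has order `≥ N` and
  lies in a subgroup of order `≤ N` is an isomorphism onto that subgroup;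
* `lift_expand`: substitution of words for generators.
-/

set_option autoImplicit false
set_option linter.unusedSectionVars false
set_option linter.unusedVariables false

namespace Cfsg.Agent.Lib.Helper56_CentIso

open Cfsg.Agent.Lib.Helper56_WordLB

section Perm

variable {G : Type*} [Group G] [Finite G] {n : ℕ}

/-- If all images of `x` under `K` lie in `O`, then `|K| ≤ |O| * |K ∩ stab x|`. -/
theorem card_le_orbit_mul (ρ : G →* Equiv.Perm (Fin n)) (K : Subgroup G) (x : Fin n)
    (O : Finset (Fin n)) (hO : ∀ g ∈ K, ρ g x ∈ O) :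
    Nat.card K ≤ O.card * Nat.card (K ⊓ pstab ρ [x] : Subgroup G) := by
  classical
  let _ : MulAction K (Fin n) := MulAction.compHom (Fin n) (ρ.comp K.subtype)
  have hsm : ∀ (k : K) (y : Fin n), k • y = ρ (k : G) y := fun _ _ => rfl
  have h1 : Nat.card (MulAction.stabilizer K x) * (MulAction.orbit K x).ncard = Nat.card K := by
    rw [← MulAction.index_stabilizer]
    exact (MulAction.stabilizer K x).card_mul_index
  have h2 : (MulAction.orbit K x).ncard ≤ O.card := by
    have hsub : MulAction.orbit K x ⊆ (O : Set (Fin n)) := by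
      rintro y ⟨k, rfl⟩
      exact hO k k.2
    have := Set.ncard_le_ncard hsub (Finset.finite_toSet O)
    rwa [Set.ncard_coe_finset] at this
  have h3 : Nat.card (MulAction.stabilizer K x) ≤ Nat.card (K ⊓ pstab ρ [x] : Subgroup G) := by
    let f : MulAction.stabilizer K x → (K ⊓ pstab ρ [x] : Subgroup G) := fun k =>
      ⟨((k : K) : G), ⟨(k : K).2, by
        show ((k : K) : G) ∈ pstab ρ [x]
        rw [mem_pstab]
        intro y hy
        rw [List.mem_singleton] at hy
        subst hy
        have := k.2
        rw [MulAction.mem_stabilizer_iff, hsm] at this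
        exact this⟩⟩
    apply Nat.card_le_card_of_injective f
    intro a b hab
    have := congrArg (fun t : (K ⊓ pstab ρ [x] : Subgroup G) => (t : G)) hab
    exact Subtype.ext (Subtype.ext this)
  rw [← h1, Nat.mul_comm]
  exact Nat.mul_le_mul h2 h3

/-- Distinct `H`-conjugates of `z` bound the centraliser of `z` in `H`. -/
theorem conj_count (H : Subgroup G) (z : G) (l : List G) (hl : ∀ h ∈ l, h ∈ H)
    (hnd : (l.map (fun h => h⁻¹ * z * h)).Nodup) :
    l.length * Nat.card (H ⊓ Subgroup.centralizer {z} : Subgroup G) ≤ Nat.card H := by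
  classical
  let f : Fin l.length × (H ⊓ Subgroup.centralizer {z} : Subgroup G) → H := fun p =>
    ⟨(p.2 : G) * l[p.1.val], H.mul_mem p.2.2.1 (hl _ (List.getElem_mem _))⟩
  have hf : Function.Injective f := by
    rintro ⟨i, b⟩ ⟨j, c⟩ h
    have h' : (b : G) * l[i.val] = (c : G) * l[j.val] := congrArg Subtype.val h
    have hb : z * (b : G) = (b : G) * z :=
      Subgroup.mem_centralizer_iff.mp b.2.2 z (Set.mem_singleton z)
    have hc : z * (c : G) = (c : G) * z :=
      Subgroup.mem_centralizer_iff.mp c.2.2 z (Set.mem_singleton z)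
    have e1 : ∀ (d x : G), z * d = d * z → (d * x)⁻¹ * z * (d * x) = x⁻¹ * z * x := by
      intro d x hd
      calc (d * x)⁻¹ * z * (d * x) = x⁻¹ * (d⁻¹ * (z * d)) * x := by group
        _ = x⁻¹ * (d⁻¹ * (d * z)) * x := by rw [hd]
        _ = x⁻¹ * z * x := by group
    have hconj : (l[i.val])⁻¹ * z * l[i.val] = (l[j.val])⁻¹ * z * l[j.val] := by
      have t1 := e1 (b : G) (l[i.val]) hb
      have t2 := e1 (c : G) (l[j.val]) hc
      rw [← t1, ← t2, h']
    have hij : i = j := by
      have hi : i.val < (l.map (fun h => h⁻¹ * z * h)).length := by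
        rw [List.length_map]; exact i.2
      have hj : j.val < (l.map (fun h => h⁻¹ * z * h)).length := by
        rw [List.length_map]; exact j.2
      have h2 : (l.map (fun h => h⁻¹ * z * h))[i.val] = (l.map (fun h => h⁻¹ * z * h))[j.val] := by
        rw [List.getElem_map, List.getElem_map]
        exact hconj
      exact Fin.ext ((List.Nodup.getElem_inj_iff hnd).mp h2)
    subst hij
    have hbc : (b : G) = (c : G) := mul_right_cancel h'
    have : b = c := Subtype.ext hbc
    rw [this]
  have := Nat.card_le_card_of_injective f hf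
  rwa [Nat.card_prod, Nat.card_fin] at this

end Perm

section Gen

/-- The orbit lower bound step for an arbitrary action. -/
theorem card_step_gen {G X : Type*} [Group G] [Finite G] [MulAction G X]
    (K L : Subgroup G) (hLK : L ≤ K) (x : X) (hL : ∀ g ∈ L, g • x = x)
    (O : Finset X) (hO : ∀ y ∈ O, ∃ g ∈ K, g • x = y) :
    O.card * Nat.card L ≤ Nat.card K := by
  classical
  have hsm : ∀ (k : K) (y : X), k • y = (k : G) • y := fun _ _ => rfl
  have h1 : Nat.card (MulAction.stabilizer K x) * (MulAction.orbit K x).ncard = Nat.card K := by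
    rw [← MulAction.index_stabilizer]
    exact (MulAction.stabilizer K x).card_mul_index
  have hfin : (MulAction.orbit K x).Finite := Set.finite_range _
  have h2 : O.card ≤ (MulAction.orbit K x).ncard := by
    have hsub : (O : Set X) ⊆ MulAction.orbit K x := by
      intro y hy
      obtain ⟨g, hg, hgy⟩ := hO y hy
      exact ⟨⟨g, hg⟩, hgy⟩
    have := Set.ncard_le_ncard hsub hfin
    rwa [Set.ncard_coe_finset] at this
  have h3 : Nat.card L ≤ Nat.card (MulAction.stabilizer K x) := by
    have hle : L.subgroupOf K ≤ MulAction.stabilizer K x := by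
      intro k hk
      rw [MulAction.mem_stabilizer_iff, hsm]
      exact hL k hk
    have e : Nat.card (L.subgroupOf K) = Nat.card L :=
      Nat.card_congr (Subgroup.subgroupOfEquivOfLe hLK).toEquiv
    rw [← e]
    exact Nat.card_le_card_of_injective (Subgroup.inclusion hle) (Subgroup.inclusion_injective hle)
  rw [← h1, Nat.mul_comm]
  exact Nat.mul_le_mul h3 h2

/-- Bijectivity from cardinalities. -/
theorem iso_of_bounds {P G : Type*} [Group P] [Group G] [Finite P] (φ : P →* G)
    (A : Subgroup G) [Finite A] (hle : φ.range ≤ A) (N : ℕ) (hP : Nat.card P ≤ N)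
    (hR : N ≤ Nat.card φ.range) (hA : Nat.card A ≤ N) : Nonempty (P ≃* A) := by
  have heq : φ.range = A := Subgroup.eq_of_le_of_card_ge hle (by omega)
  have hbij : Function.Bijective φ.rangeRestrict :=
    Function.Surjective.bijective_of_nat_card_le φ.rangeRestrict_surjective (by omega)
  exact ⟨(MulEquiv.ofBijective _ hbij).trans (MulEquiv.subgroupCongr heq)⟩

end Gen

section Expand

variable {α β : Type*}

/-- Substitute words for the letters of a word. -/
def expand (hw : α → List (β × Bool)) : List (α × Bool) → List (β × Bool)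
  | [] => []
  | (x, true) :: l => hw x ++ expand hw l
  | (x, false) :: l => FreeGroup.invRev (hw x) ++ expand hw l

theorem mk_append (u v : List (β × Bool)) :
    (FreeGroup.mk (u ++ v) : FreeGroup β) = FreeGroup.mk u * FreeGroup.mk v := by
  rw [FreeGroup.mul_mk]

theorem lift_expand (rels : Set (FreeGroup β)) (hw : α → List (β × Bool))
    (u : List (α × Bool)) :
    FreeGroup.lift (fun x => PresentedGroup.mk rels (FreeGroup.mk (hw x))) (FreeGroup.mk u) =
      PresentedGroup.mk rels (FreeGroup.mk (expand hw u)) := by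
  induction u with
  | nil => simp [expand, FreeGroup.lift_mk]; rfl
  | cons l ls ih =>
    obtain ⟨x, b⟩ := l
    have h1 : (FreeGroup.mk ((x, b) :: ls) : FreeGroup α) =
        FreeGroup.mk [(x, b)] * FreeGroup.mk ls := by
      rw [FreeGroup.mul_mk]; rfl
    rw [h1, map_mul, ih]
    cases b with
    | true =>
      show FreeGroup.lift _ (FreeGroup.of x) * _ = _
      rw [FreeGroup.lift_apply_of]
      show _ = PresentedGroup.mk rels (FreeGroup.mk (hw x ++ expand hw ls))
      rw [mk_append, map_mul]
    | false =>
      show FreeGroup.lift _ (FreeGroup.of x)⁻¹ * _ = _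
      rw [map_inv, FreeGroup.lift_apply_of]
      show _ = PresentedGroup.mk rels (FreeGroup.mk (FreeGroup.invRev (hw x) ++ expand hw ls))
      rw [mk_append, map_mul, ← FreeGroup.inv_mk, map_inv]

end Expand

section TableA

open Cfsg.Agent.Lib.Helper28_CosetPerm Cfsg.Agent.Lib.Helper28_OrbitLB

variable {α : Type} {n w mask : ℕ} {col : α → Bool → ℕ} [NeZero n]
variable {rels : Set (FreeGroup α)} {S : Set (FreeGroup α)}

/-- One verified step of the stabiliser chain of a subgroup `A`: the words `ws` lie in `A`, fix the
earlier base points `bs` and move `base` to `m` different points. -/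
theorem wstepA [Finite (PresentedGroup rels)] (V : Verified n w mask col rels S)
    (A : Subgroup (PresentedGroup rels))
    (bs : List (Fin n)) (base : Fin n) (lab : ℕ) (ws : List (List (α × Bool)))
    (hA : ∀ u ∈ ws, PresentedGroup.mk rels (FreeGroup.mk u) ∈ A)
    (hfix : ∀ u ∈ ws, ∀ b ∈ bs, walk mask col u ((b : ℕ) * w) = (b : ℕ) * w)
    (hchk : ∀ k < n, wchk mask col lab ((base : ℕ) * w) ws (k * w) = true)
    (m : ℕ) (hm : cntB (fun k => Nat.blt 0 (nxt mask lab (Nat.mul k w))) n = m) :
    m * Nat.card (A ⊓ pstab (psi (perm V.hv) V.hrel) (base :: bs) : Subgroup (PresentedGroup rels)) ≤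
      Nat.card (A ⊓ pstab (psi (perm V.hv) V.hrel) bs : Subgroup (PresentedGroup rels)) := by
  have hv := V.hv
  rw [← hm, ← card_labSet]
  apply card_step (psi (perm hv) V.hrel) _ _
    (inf_le_inf_left A (pstab_cons_le (psi (perm hv) V.hrel) base bs)) base
    (fun g hg => hg.2 base List.mem_cons_self)
  intro y hy
  obtain ⟨g, hg, hgy⟩ := reach_of_wchk hv lab base ws hchk y hy
  refine ⟨PresentedGroup.mk rels g, ?_, ?_⟩
  · have hle : Subgroup.closure {s : FreeGroup α | ∃ u ∈ ws, s = FreeGroup.mk u} ≤
        (A ⊓ pstab (psi (perm hv) V.hrel) bs).comap (PresentedGroup.mk rels) := by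
      rw [Subgroup.closure_le]
      rintro s ⟨u, hu, rfl⟩
      show PresentedGroup.mk rels (FreeGroup.mk u) ∈ A ⊓ pstab (psi (perm hv) V.hrel) bs
      refine ⟨hA u hu, ?_⟩
      show PresentedGroup.mk rels (FreeGroup.mk u) ∈ pstab (psi (perm hv) V.hrel) bs
      rw [mem_pstab]
      intro b hb
      rw [psi_mk]
      exact lift_fix_of_walk hv u b (hfix u hu b hb)
    exact hle hg
  · rw [psi_mk]; exact hgy

end TableA

section FixB

open Cfsg.Agent.Lib.Helper28_CosetPerm

variable {α : Type}

/-- Boolean check that all the words fix all the offsets.  (A `decide` on a statement quantified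
over a list of elements of `Fin n` enumerates the whole of `Fin n`; this avoids it.) -/
def fixB (mask : ℕ) (col : α → Bool → ℕ) (us : List (List (α × Bool))) (offs : List ℕ) : Bool :=
  us.all (fun u => offs.all (fun x => Nat.beq (walk mask col u x) x))

theorem fixB_spec {n : ℕ} (mask w : ℕ) (col : α → Bool → ℕ) (us : List (List (α × Bool)))
    (bs : List (Fin n))
    (h : fixB mask col us (bs.map (fun b : Fin n => (b : ℕ) * w)) = true) :
    ∀ u ∈ us, ∀ b ∈ bs, walk mask col u ((b : ℕ) * w) = (b : ℕ) * w := by
  intro u hu b hb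
  unfold fixB at h
  have h1 := (List.all_eq_true.mp h) u hu
  have h2 := (List.all_eq_true.mp h1) ((b : ℕ) * w) (List.mem_map.mpr ⟨b, hb, rfl⟩)
  exact Nat.eq_of_beq_eq_true h2

end FixB

end Cfsg.Agent.Lib.Helper56_CentIso
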