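import Mathlib

/-!
# A coprime-action fixed point lemma (helper56)

`M` a normal subgroup of a finite group `G`, `u` an element with `u ^ q = 1` (`q` prime) and
`q ∤ |M|`.  Then `u` normalises some Sylow `r`-subgroup `P` of `M`, and if `|P| ≢ 1 mod q`, some
nontrivial element of `P` commutes with `u`.
-/

set_option autoImplicit false

namespace Cfsg.Agent.Lib.Helper56_CoprimeFix

open MulAction
open scoped Pointwise

theorem exists_commuting_of_sylow {G : Type*} [Group G] [Finite G] (M : Subgroup G) [M.Normal]
    (q r : ℕ) [hq' : Fact q.Prime] [hr' : Fact r.Prime] (u : G) (hu : u ^ q = 1)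
    (hq : ¬ q ∣ Nat.card M) (hr : ¬ (r ^ (Nat.card M).factorization r ≡ 1 [MOD q])) :
    ∃ p : G, p ∈ M ∧ p ≠ 1 ∧ p ^ (r ^ (Nat.card M).factorization r) = 1 ∧ u * p = p * u := by
  classical
  set c : ConjAct G := ConjAct.toConjAct u with hc
  have hcq : c ^ q = 1 := by
    rw [hc, ← map_pow, hu, map_one]
  let U : Subgroup (ConjAct G) := Subgroup.zpowers c
  have hU : IsPGroup q U := by
    intro z
    refine ⟨1, ?_⟩
    obtain ⟨z, hz⟩ := z
    obtain ⟨k, rfl⟩ := Subgroup.mem_zpowers_iff.mp hz
    apply Subtype.ext
    show (c ^ k) ^ (q ^ 1) = 1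
    rw [pow_one, ← zpow_natCast, ← zpow_mul, mul_comm, zpow_mul, zpow_natCast, hcq, one_zpow]
  have hcard : ¬ q ∣ Nat.card (Sylow r M) := by
    intro h
    obtain ⟨P⟩ : Nonempty (Sylow r M) := inferInstance
    exact hq (h.trans ((Sylow.card_dvd_index P).trans (Subgroup.index_dvd_card _)))
  obtain ⟨P, hP⟩ := hU.nonempty_fixed_point_of_prime_not_dvd_card (Sylow r M) hcard
  have hzP : ∀ z : U, (z : ConjAct G) • P = P := fun z => hP z
  let PS : SubMulAction U M :=
    { carrier := ((P : Subgroup M) : Set M)
      smul_mem' := by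
        intro z x hx
        have h1 : (z : ConjAct G) • x ∈ ((z : ConjAct G) • (P : Subgroup M)) :=
          Subgroup.smul_mem_pointwise_smul x (z : ConjAct G) (P : Subgroup M) hx
        rw [← Sylow.pointwise_smul_def, hzP z] at h1
        exact h1 }
  have hmod := hU.card_modEq_card_fixedPoints PS
  have hPS : Nat.card PS = r ^ (Nat.card M).factorization r := by
    rw [← Sylow.card_eq_multiplicity P]
    rfl
  rw [hPS] at hmod
  by_contra hne
  push Not at hne
  apply hr
  have hone : Nat.card (fixedPoints U PS) = 1 := by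
    rw [Nat.card_eq_one_iff_unique]
    constructor
    · constructor
      intro x y
      have key : ∀ x : fixedPoints U PS, ((x : PS) : M) = 1 := by
        intro x
        obtain ⟨⟨p, hpP⟩, hx⟩ := x
        show p = 1
        have hfix : (⟨c, Subgroup.mem_zpowers c⟩ : U) • (⟨p, hpP⟩ : PS) = ⟨p, hpP⟩ := hx _
        have hfix' : c • p = p := congrArg (fun t : PS => (t : M)) hfix
        have hfix'' : u * (p : G) * u⁻¹ = p := by
          have := congrArg (fun t : M => (t : G)) hfix'
          simpa [ConjAct.Subgroup.val_conj_smul, ConjAct.smul_def, hc] using this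
        have hpow : (p : G) ^ (r ^ (Nat.card M).factorization r) = 1 := by
          have h1 : (⟨p, hpP⟩ : (P : Subgroup M)) ^ Nat.card (P : Subgroup M) = 1 := pow_card_eq_one'
          rw [Sylow.card_eq_multiplicity P] at h1
          have h2 := congrArg (fun t : (P : Subgroup M) => ((t : M) : G)) h1
          simpa using h2
        have hcomm : u * (p : G) = p * u := by
          calc u * (p : G) = (u * (p : G) * u⁻¹) * u := by group
            _ = p * u := by rw [hfix'']
        by_contra hp1
        have hp1' : (p : G) ≠ 1 := fun h => hp1 (Subtype.ext h)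
        exact hne p p.2 hp1' hpow hcomm
      apply Subtype.ext
      apply Subtype.ext
      rw [key x, key y]
    · refine ⟨⟨⟨1, (P : Subgroup M).one_mem⟩, ?_⟩⟩
      intro z
      apply Subtype.ext
      show (z : ConjAct G) • (1 : M) = 1
      exact smul_one _
  rw [hone] at hmod
  exact hmod

end Cfsg.Agent.Lib.Helper56_CoprimeFix
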