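import Cfsg.Prelude.Def_SporCoxeter

set_option autoImplicit false

/-!
# A presentation of the group `2^{1+6}:L3(2)` on eight involutions (helper56, for S2134)

The generators are the images of `a, b, c, e, f, g` of the Held group and of two conjugates
`p = c^(dfed)`, `q = c^(dged)`; the group is the centraliser of the involution `e` of `He`.
-/

namespace Cfsg.Agent.Lib.Helper56_Cz

open Cfsg.Spor

/-- the eight generators -/
inductive Gen
  | a
  | b
  | c
  | e
  | f
  | g
  | p
  | q
  deriving DecidableEq

/-- the generator a as a word -/ abbrev a : FreeGroup Gen := FreeGroup.of Gen.a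
/-- the generator b as a word -/ abbrev b : FreeGroup Gen := FreeGroup.of Gen.b
/-- the generator c as a word -/ abbrev c : FreeGroup Gen := FreeGroup.of Gen.c
/-- the generator e as a word -/ abbrev e : FreeGroup Gen := FreeGroup.of Gen.e
/-- the generator f as a word -/ abbrev f : FreeGroup Gen := FreeGroup.of Gen.f
/-- the generator g as a word -/ abbrev g : FreeGroup Gen := FreeGroup.of Gen.g
/-- the generator p as a word -/ abbrev p : FreeGroup Gen := FreeGroup.of Gen.p
/-- the generator q as a word -/ abbrev q : FreeGroup Gen := FreeGroup.of Gen.q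

/-- the Coxeter graph -/
def edges : List (Gen × ℕ × Gen) :=
  [(.a, 4, .b), (.b, 3, .c), (.b, 3, .p), (.b, 3, .q), (.f, 4, .g), (.f, 4, .q), (.g, 4, .p), (.p, 4, .q), (.e, 2, .a)]

/-- the further relators -/
def extra : List (FreeGroup Gen) := [
  e * g * f * g * f,
  e * c * b * a * c * b * a * c * b * a,
  q * p * q * p * e * c,
  p * b * a * b * p * f * b * a * b * a,
  q * b * a * b * q * g * b * a * b * a ]

/-- the presented group -/
abbrev P : Type := CoxPresented Gen edges extra

end Cfsg.Agent.Lib.Helper56_Cz
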