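import Cfsg.Agent.Lib.Helper28_OrderChain
import Cfsg.Agent.Lib.Helper56_CzDef

set_option autoImplicit false

namespace Cfsg.Agent.Lib.Helper56_CzChain

open Cfsg.Spor Cfsg.Agent.Lib.Helper28_OrderChain Cfsg.Agent.Lib.Helper56_Cz

def edges1 : List (Cfsg.Agent.Lib.Helper56_Cz.Gen × ℕ × Cfsg.Agent.Lib.Helper56_Cz.Gen) := [(.a, 4, .b), (.b, 3, .c), (.f, 4, .g), (.e, 2, .a)]
def kept1 : List (List (Cfsg.Agent.Lib.Helper56_Cz.Gen × Bool)) := [[(.e, true), (.g, true), (.f, true), (.g, true), (.f, true)], [(.e, true), (.c, true), (.b, true), (.a, true), (.c, true), (.b, true), (.a, true), (.c, true), (.b, true), (.a, true)]]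
def dropped1 : List Cfsg.Agent.Lib.Helper56_Cz.Gen := [.p, .q]
def extra1 : List (FreeGroup Cfsg.Agent.Lib.Helper56_Cz.Gen) := subExtra kept1 dropped1
theorem h1_1 : ∀ x ∈ coxNodes edges1, x ∈ coxNodes Cfsg.Agent.Lib.Helper56_Cz.edges ∧ x ∉ dropped1 := by decide
theorem h2_1 : ∀ x ∈ coxNodes edges1, ∀ y ∈ coxNodes edges1, coxLabel edges1 x y = coxLabel Cfsg.Agent.Lib.Helper56_Cz.edges x y := by decide
set_option maxRecDepth 100000 in
theorem h3_1 : ∀ u ∈ kept1, InRels Cfsg.Agent.Lib.Helper56_Cz.edges Cfsg.Agent.Lib.Helper56_Cz.extra (FreeGroup.mk u) ∧ ∀ l ∈ u, l.1 ∉ dropped1 := by decide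

end Cfsg.Agent.Lib.Helper56_CzChain
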