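import Cfsg.Agent.Lib.Helper56_CzDef
import Cfsg.Agent.Lib.Helper56_CentIso
import Cfsg.Agent.Lib.Helper28_CosetCox

set_option autoImplicit false
set_option linter.constructorNameAsVariable false
set_option linter.unusedVariables false

/-!
# The presented group `2^{1+6}:L3(2)` inside `SL(5, 2)`: the homomorphism onto the centraliser of a
transvection and the lower bound for its range (helper56, for S2134)
-/

namespace Cfsg.Agent.Lib.Helper56_CzMat

open Cfsg.Spor Cfsg.Agent.Lib.Helper28_CosetCox Cfsg.Agent.Lib.Helper56_CentIso Matrix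

/-- 5 × 5 matrices over the field with two elements -/
abbrev M5 : Type := Matrix (Fin 5) (Fin 5) (ZMod 2)
/-- the special linear group -/
abbrev SL5 : Type := Matrix.SpecialLinearGroup (Fin 5) (ZMod 2)
/-- vectors -/
abbrev V5 : Type := Fin 5 → ZMod 2
/-- the relators of the presented group `P` -/
abbrev PRELS : Set (FreeGroup Cfsg.Agent.Lib.Helper56_Cz.Gen) :=
  coxRelators Cfsg.Agent.Lib.Helper56_Cz.edges ∪ {r | r ∈ Cfsg.Agent.Lib.Helper56_Cz.extra}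

instance finSL5 : Finite SL5 := Finite.of_injective (fun g : SL5 => g.1) Subtype.val_injective

theorem zmod2_mul_eq_one : ∀ a b : ZMod 2, a * b = 1 → a = 1 := by decide

theorem det_eq_one_of_sq {A : M5} (h : A * A = 1) : A.det = 1 := by
  have h1 := congrArg Matrix.det h
  rw [Matrix.det_mul, Matrix.det_one] at h1
  exact zmod2_mul_eq_one _ _ h1

/-- the matrix of the generator a -/
def mA : M5 := !![1, 1, 1, 1, 0; 0, 1, 0, 0, 0; 0, 1, 1, 0, 0; 0, 1, 0, 1, 0; 0, 1, 0, 0, 1]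
theorem mA_sq : mA * mA = 1 := by decide +kernel
/-- the generator a in the special linear group -/
def sA : SL5 := ⟨mA, det_eq_one_of_sq mA_sq⟩

/-- the matrix of the generator b -/
def mB : M5 := !![1, 1, 0, 0, 0; 0, 1, 0, 0, 0; 0, 0, 1, 1, 0; 0, 0, 0, 1, 0; 0, 0, 0, 1, 1]
theorem mB_sq : mB * mB = 1 := by decide +kernel
/-- the generator b in the special linear group -/
def sB : SL5 := ⟨mB, det_eq_one_of_sq mB_sq⟩

/-- the matrix of the generator c -/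
def mC : M5 := !![1, 1, 0, 0, 0; 0, 1, 0, 0, 0; 0, 1, 0, 1, 0; 0, 1, 1, 0, 0; 0, 1, 1, 1, 1]
theorem mC_sq : mC * mC = 1 := by decide +kernel
/-- the generator c in the special linear group -/
def sC : SL5 := ⟨mC, det_eq_one_of_sq mC_sq⟩

/-- the matrix of the generator e -/
def mE : M5 := !![1, 1, 0, 0, 0; 0, 1, 0, 0, 0; 0, 0, 1, 0, 0; 0, 0, 0, 1, 0; 0, 0, 0, 0, 1]
theorem mE_sq : mE * mE = 1 := by decide +kernel
/-- the generator e in the special linear group -/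
def sE : SL5 := ⟨mE, det_eq_one_of_sq mE_sq⟩

/-- the matrix of the generator f -/
def mF : M5 := !![1, 1, 0, 0, 0; 0, 1, 0, 0, 0; 0, 0, 1, 0, 0; 0, 0, 0, 1, 0; 0, 1, 0, 0, 1]
theorem mF_sq : mF * mF = 1 := by decide +kernel
/-- the generator f in the special linear group -/
def sF : SL5 := ⟨mF, det_eq_one_of_sq mF_sq⟩

/-- the matrix of the generator g -/
def mG : M5 := !![1, 1, 1, 0, 1; 0, 1, 0, 0, 0; 0, 0, 1, 0, 0; 0, 0, 0, 1, 0; 0, 0, 0, 0, 1]
theorem mG_sq : mG * mG = 1 := by decide +kernel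
/-- the generator g in the special linear group -/
def sG : SL5 := ⟨mG, det_eq_one_of_sq mG_sq⟩

/-- the matrix of the generator p -/
def mP : M5 := !![1, 1, 0, 0, 0; 0, 1, 0, 0, 0; 0, 1, 0, 1, 0; 0, 1, 1, 0, 0; 0, 0, 0, 0, 1]
theorem mP_sq : mP * mP = 1 := by decide +kernel
/-- the generator p in the special linear group -/
def sP : SL5 := ⟨mP, det_eq_one_of_sq mP_sq⟩

/-- the matrix of the generator q -/
def mQ : M5 := !![1, 1, 0, 0, 0; 0, 1, 0, 0, 0; 0, 1, 1, 1, 1; 0, 1, 0, 0, 1; 0, 1, 0, 1, 0]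
theorem mQ_sq : mQ * mQ = 1 := by decide +kernel
/-- the generator q in the special linear group -/
def sQ : SL5 := ⟨mQ, det_eq_one_of_sq mQ_sq⟩

/-- the images of the generators -/
def mimg : Cfsg.Agent.Lib.Helper56_Cz.Gen → SL5
  | .a => sA
  | .b => sB
  | .c => sC
  | .e => sE
  | .f => sF
  | .g => sG
  | .p => sP
  | .q => sQ

theorem pair_rel : ∀ x ∈ coxNodes Cfsg.Agent.Lib.Helper56_Cz.edges, ∀ y ∈ coxNodes Cfsg.Agent.Lib.Helper56_Cz.edges,
    (mimg x * mimg y) ^ coxLabel Cfsg.Agent.Lib.Helper56_Cz.edges x y = 1 := by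
  intro x _ y _
  cases x <;> cases y <;> (apply Subtype.ext; decide +kernel)

theorem extra_rel : ∀ r ∈ Cfsg.Agent.Lib.Helper56_Cz.extra, FreeGroup.lift mimg r = 1 := by
  intro r hr
  simp only [Cfsg.Agent.Lib.Helper56_Cz.extra, List.mem_cons, List.not_mem_nil, or_false] at hr
  rcases hr with rfl | rfl | rfl | rfl | rfl <;>
    (simp only [map_mul, FreeGroup.lift_apply_of]; apply Subtype.ext; decide +kernel)

theorem rels_ok : ∀ r ∈ PRELS, FreeGroup.lift mimg r = 1 := by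
  rintro r (hr | hr)
  · exact cox_lift_eq_one Cfsg.Agent.Lib.Helper56_Cz.edges mimg pair_rel r hr
  · exact extra_rel r hr

/-- the homomorphism from the presented group to the special linear group -/
noncomputable def psiM : Cfsg.Agent.Lib.Helper56_Cz.P →* SL5 := PresentedGroup.toGroup rels_ok

theorem psiM_of (x : Cfsg.Agent.Lib.Helper56_Cz.Gen) : psiM (PresentedGroup.of x) = mimg x :=
  PresentedGroup.toGroup.of rels_ok

theorem mE_eq : mE = Matrix.transvection 0 1 1 := by decide +kernel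

theorem mimg_comm (x : Cfsg.Agent.Lib.Helper56_Cz.Gen) : mimg x * sE = sE * mimg x := by
  cases x <;> (apply Subtype.ext; decide +kernel)

theorem range_le (s : SL5) (hs : (s : M5) = Matrix.transvection 0 1 1) :
    psiM.range ≤ Subgroup.centralizer {s} := by
  have hsE : s = sE := Subtype.ext (by rw [hs]; exact mE_eq.symm)
  subst hsE
  rw [MonoidHom.range_eq_map, ← PresentedGroup.closure_range_of PRELS, MonoidHom.map_closure,
    Subgroup.closure_le]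
  rintro _ ⟨_, ⟨x, rfl⟩, rfl⟩
  rw [SetLike.mem_coe, Subgroup.mem_centralizer_iff]
  intro y hy
  rw [Set.mem_singleton_iff] at hy
  subst hy
  rw [psiM_of]
  exact (mimg_comm x).symm

/-- the value of a positive word -/
def evalw (u : List Cfsg.Agent.Lib.Helper56_Cz.Gen) : SL5 := (u.map mimg).prod

theorem evalw_mem (u : List Cfsg.Agent.Lib.Helper56_Cz.Gen) : evalw u ∈ psiM.range := by
  refine ⟨PresentedGroup.mk PRELS (FreeGroup.mk (u.map fun x => (x, true))), ?_⟩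
  show FreeGroup.lift mimg (FreeGroup.mk (u.map fun x => (x, true))) = evalw u
  unfold evalw
  induction u with
  | nil => simp [FreeGroup.lift_mk]
  | cons x xs ih =>
    have h1 : (FreeGroup.mk ((x :: xs).map fun x => (x, true)) : FreeGroup Cfsg.Agent.Lib.Helper56_Cz.Gen) =
        FreeGroup.of x * FreeGroup.mk (xs.map fun x => (x, true)) := by
      rw [FreeGroup.of, FreeGroup.mul_mk]; rfl
    rw [h1, map_mul, FreeGroup.lift_apply_of, ih, List.map_cons, List.prod_cons]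

/-- the action on vectors -/
@[reducible] def actV : MulAction SL5 V5 where
  smul g v := (g : M5) *ᵥ v
  one_smul v := by
    show ((1 : SL5) : M5) *ᵥ v = v
    simp
  mul_smul g h v := by
    show ((g * h : SL5) : M5) *ᵥ v = (g : M5) *ᵥ ((h : M5) *ᵥ v)
    simp [Matrix.mulVec_mulVec]

theorem mulVec_mul (g h : SL5) (v : V5) : ((g * h : SL5) : M5) *ᵥ v = (g : M5) *ᵥ ((h : M5) *ᵥ v) := by
  simp [Matrix.mulVec_mulVec]

/-- the pointwise stabiliser of a list of vectors -/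
def pstabV (l : List V5) : Subgroup SL5 where
  carrier := {g | ∀ v ∈ l, (g : M5) *ᵥ v = v}
  one_mem' := by
    intro v _
    show ((1 : SL5) : M5) *ᵥ v = v
    simp
  mul_mem' := by
    intro a b ha hb v hv
    show ((a * b : SL5) : M5) *ᵥ v = v
    rw [mulVec_mul, hb v hv, ha v hv]
  inv_mem' := by
    intro a ha v hv
    show ((a⁻¹ : SL5) : M5) *ᵥ v = v
    have h1 : ((a⁻¹ : SL5) : M5) *ᵥ ((a : M5) *ᵥ v) = v := by
      rw [← mulVec_mul, inv_mul_cancel]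
      simp
    rw [ha v hv] at h1
    exact h1

theorem mem_pstabV (l : List V5) (g : SL5) : g ∈ pstabV l ↔ ∀ v ∈ l, (g : M5) *ᵥ v = v := Iff.rfl

theorem pstabV_nil : pstabV [] = ⊤ := by
  rw [eq_top_iff]
  intro g _ v hv
  simp at hv

/-- one step of the stabiliser chain -/
theorem stepV (prev : List V5) (v : V5) (PW : List (V5 × List Cfsg.Agent.Lib.Helper56_Cz.Gen)) (m : ℕ)
    (hchk : ∀ p ∈ PW, ((evalw p.2 : SL5) : M5) *ᵥ v = p.1 ∧
      ∀ b ∈ prev, ((evalw p.2 : SL5) : M5) *ᵥ b = b)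
    (hcard : (PW.map Prod.fst).toFinset.card = m) :
    m * Nat.card (psiM.range ⊓ pstabV (v :: prev) : Subgroup SL5) ≤
      Nat.card (psiM.range ⊓ pstabV prev : Subgroup SL5) := by
  rw [← hcard]
  letI := actV
  apply card_step_gen (psiM.range ⊓ pstabV prev) (psiM.range ⊓ pstabV (v :: prev)) _ v
  · intro g hg
    exact hg.2 v List.mem_cons_self
  · intro y hy
    rw [List.mem_toFinset, List.mem_map] at hy
    obtain ⟨p, hp, rfl⟩ := hy
    obtain ⟨h1, h2⟩ := hchk p hp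
    exact ⟨evalw p.2, ⟨evalw_mem _, fun b hb => h2 b hb⟩, h1⟩
  · intro g hg
    exact ⟨hg.1, fun b hb => hg.2 b (List.mem_cons_of_mem _ hb)⟩

/-- base vector 0 -/
def v0 : V5 := ![0, 1, 0, 0, 0]

/-- base vector 1 -/
def v1 : V5 := ![0, 0, 1, 0, 0]

/-- base vector 2 -/
def v2 : V5 := ![0, 0, 0, 1, 0]

/-- base vector 3 -/
def v3 : V5 := ![0, 0, 0, 0, 1]

/-- the orbit of the base vector 0 with witnesses -/
def PW0 : List (V5 × List Cfsg.Agent.Lib.Helper56_Cz.Gen) := [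
  (![0, 1, 0, 0, 0], ([] : List Cfsg.Agent.Lib.Helper56_Cz.Gen)),
  (![0, 1, 0, 0, 1], [.a, .p]),
  (![0, 1, 0, 1, 0], [.b, .a]),
  (![0, 1, 0, 1, 1], [.b, .p]),
  (![0, 1, 1, 0, 0], [.a, .b, .p]),
  (![0, 1, 1, 0, 1], [.a, .b, .a]),
  (![0, 1, 1, 1, 0], [.a, .f]),
  (![0, 1, 1, 1, 1], [.a, .b]),
  (![1, 1, 0, 0, 0], [.b]),
  (![1, 1, 0, 0, 1], [.f]),
  (![1, 1, 0, 1, 0], [.b, .a, .b]),
  (![1, 1, 0, 1, 1], [.b, .a, .f]),
  (![1, 1, 1, 0, 0], [.q, .b, .p]),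
  (![1, 1, 1, 0, 1], [.a, .b, .a, .b]),
  (![1, 1, 1, 1, 0], [.p]),
  (![1, 1, 1, 1, 1], [.a])]

theorem chk0 : ∀ p ∈ PW0, ((evalw p.2 : SL5) : M5) *ᵥ v0 = p.1 ∧
    ∀ b ∈ ([] : List V5), ((evalw p.2 : SL5) : M5) *ᵥ b = b := by decide +kernel

theorem card0 : (PW0.map Prod.fst).toFinset.card = 16 := by decide +kernel

theorem step0 : 16 * Nat.card (psiM.range ⊓ pstabV (v0 :: []) : Subgroup SL5) ≤
    Nat.card (psiM.range ⊓ pstabV [] : Subgroup SL5) :=
  stepV [] v0 PW0 16 chk0 card0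

/-- the orbit of the base vector 1 with witnesses -/
def PW1 : List (V5 × List Cfsg.Agent.Lib.Helper56_Cz.Gen) := [
  (![0, 0, 0, 0, 1], [.a, .b, .c, .q, .b, .c]),
  (![0, 0, 0, 1, 0], [.a, .f, .p, .g]),
  (![0, 0, 0, 1, 1], [.c, .q]),
  (![0, 0, 1, 0, 0], ([] : List Cfsg.Agent.Lib.Helper56_Cz.Gen)),
  (![0, 0, 1, 0, 1], [.b, .c, .f, .p]),
  (![0, 0, 1, 1, 0], [.b, .a, .c, .g]),
  (![0, 0, 1, 1, 1], [.b, .f, .p, .q]),
  (![1, 0, 0, 0, 1], [.a, .b, .g, .q, .b, .c]),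
  (![1, 0, 0, 1, 0], [.a, .e, .f, .p]),
  (![1, 0, 0, 1, 1], [.a, .c]),
  (![1, 0, 1, 0, 0], [.a, .q]),
  (![1, 0, 1, 0, 1], [.a, .f, .q, .p]),
  (![1, 0, 1, 1, 0], [.b, .a, .c, .b]),
  (![1, 0, 1, 1, 1], [.b, .a, .f, .p])]

theorem chk1 : ∀ p ∈ PW1, ((evalw p.2 : SL5) : M5) *ᵥ v1 = p.1 ∧
    ∀ b ∈ ([v0] : List V5), ((evalw p.2 : SL5) : M5) *ᵥ b = b := by decide +kernel

theorem card1 : (PW1.map Prod.fst).toFinset.card = 14 := by decide +kernel

theorem step1 : 14 * Nat.card (psiM.range ⊓ pstabV (v1 :: [v0]) : Subgroup SL5) ≤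
    Nat.card (psiM.range ⊓ pstabV [v0] : Subgroup SL5) :=
  stepV [v0] v1 PW1 14 chk1 card1

/-- the orbit of the base vector 2 with witnesses -/
def PW2 : List (V5 × List Cfsg.Agent.Lib.Helper56_Cz.Gen) := [
  (![0, 0, 0, 0, 1], [.a, .c, .q, .b, .p, .b, .c, .g]),
  (![0, 0, 0, 1, 0], ([] : List Cfsg.Agent.Lib.Helper56_Cz.Gen)),
  (![0, 0, 0, 1, 1], [.b, .c, .b, .p, .b, .c]),
  (![0, 0, 1, 0, 1], [.b, .f, .q, .f]),
  (![0, 0, 1, 1, 0], [.c, .b, .e, .p, .b, .c]),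
  (![0, 0, 1, 1, 1], [.b, .e]),
  (![1, 0, 0, 0, 1], [.a, .c, .g, .q, .b, .p, .b, .c]),
  (![1, 0, 0, 1, 0], [.p, .g, .p]),
  (![1, 0, 0, 1, 1], [.b, .c, .p, .b, .c, .g, .p]),
  (![1, 0, 1, 0, 1], [.a, .e, .g, .q]),
  (![1, 0, 1, 1, 0], [.c, .e, .p, .b, .c, .g, .p]),
  (![1, 0, 1, 1, 1], [.b, .e, .p, .g, .p])]

theorem chk2 : ∀ p ∈ PW2, ((evalw p.2 : SL5) : M5) *ᵥ v2 = p.1 ∧
    ∀ b ∈ ([v1, v0] : List V5), ((evalw p.2 : SL5) : M5) *ᵥ b = b := by decide +kernel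

theorem card2 : (PW2.map Prod.fst).toFinset.card = 12 := by decide +kernel

theorem step2 : 12 * Nat.card (psiM.range ⊓ pstabV (v2 :: [v1, v0]) : Subgroup SL5) ≤
    Nat.card (psiM.range ⊓ pstabV [v1, v0] : Subgroup SL5) :=
  stepV [v1, v0] v2 PW2 12 chk2 card2

/-- the orbit of the base vector 3 with witnesses -/
def PW3 : List (V5 × List Cfsg.Agent.Lib.Helper56_Cz.Gen) := [
  (![0, 0, 0, 0, 1], ([] : List Cfsg.Agent.Lib.Helper56_Cz.Gen)),
  (![0, 0, 0, 1, 1], [.b, .e, .f, .q, .b, .f]),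
  (![0, 0, 1, 0, 1], [.c, .f, .q, .p, .b, .q, .f, .p]),
  (![0, 0, 1, 1, 1], [.p, .q, .b, .c, .f, .p, .b, .q]),
  (![1, 0, 0, 0, 1], [.b, .p, .g, .p, .b]),
  (![1, 0, 0, 1, 1], [.a, .b, .e, .q, .b, .a]),
  (![1, 0, 1, 0, 1], [.a, .c, .q, .p, .b, .a, .q, .p]),
  (![1, 0, 1, 1, 1], [.g, .p, .q, .b, .c, .f, .p, .b, .g, .q])]

theorem chk3 : ∀ p ∈ PW3, ((evalw p.2 : SL5) : M5) *ᵥ v3 = p.1 ∧
    ∀ b ∈ ([v2, v1, v0] : List V5), ((evalw p.2 : SL5) : M5) *ᵥ b = b := by decide +kernel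

theorem card3 : (PW3.map Prod.fst).toFinset.card = 8 := by decide +kernel

theorem step3 : 8 * Nat.card (psiM.range ⊓ pstabV (v3 :: [v2, v1, v0]) : Subgroup SL5) ≤
    Nat.card (psiM.range ⊓ pstabV [v2, v1, v0] : Subgroup SL5) :=
  stepV [v2, v1, v0] v3 PW3 8 chk3 card3

/-- the range of `psiM` has at least 21504 elements -/
theorem card_range_ge : 21504 ≤ Nat.card psiM.range := by
  have h0 := step0
  have h1 := step1
  have h2 := step2
  have h3 := step3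
  have hpos : 1 ≤ Nat.card (psiM.range ⊓ pstabV [v3, v2, v1, v0] : Subgroup SL5) := Nat.card_pos
  rw [pstabV_nil, inf_top_eq] at h0
  calc 21504 = 16 * (14 * (12 * (8 * 1))) := by norm_num
    _ ≤ 16 * (14 * (12 * (8 * Nat.card (psiM.range ⊓ pstabV [v3, v2, v1, v0] : Subgroup SL5)))) :=
        Nat.mul_le_mul_left _ (Nat.mul_le_mul_left _ (Nat.mul_le_mul_left _ (Nat.mul_le_mul_left _ hpos)))
    _ ≤ 16 * (14 * (12 * Nat.card (psiM.range ⊓ pstabV [v2, v1, v0] : Subgroup SL5))) :=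
        Nat.mul_le_mul_left _ (Nat.mul_le_mul_left _ (Nat.mul_le_mul_left _ h3))
    _ ≤ 16 * (14 * Nat.card (psiM.range ⊓ pstabV [v1, v0] : Subgroup SL5)) :=
        Nat.mul_le_mul_left _ (Nat.mul_le_mul_left _ h2)
    _ ≤ 16 * Nat.card (psiM.range ⊓ pstabV [v0] : Subgroup SL5) := Nat.mul_le_mul_left _ h1
    _ ≤ _ := h0

end Cfsg.Agent.Lib.Helper56_CzMat
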