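import Cfsg.Agent.Lib.Helper56_Czc0U
import Cfsg.Agent.Lib.Helper56_Czc1U

set_option autoImplicit false

namespace Cfsg.Agent.Lib.Helper56_CzOrder

open Cfsg.Spor Cfsg.Agent.Lib.Helper28_OrderChain Cfsg.Agent.Lib.Helper56_CzChain Cfsg.Agent.Lib.Helper56_Cz

theorem card1 : Finite (PresentedGroup (coxRelators edges1 ∪ {r | r ∈ extra1})) ∧ Nat.card (PresentedGroup (coxRelators edges1 ∪ {r | r ∈ extra1})) ≤ 192 :=
  card_le_empty _ 192 Cfsg.Agent.Lib.Helper56_Czc1.U.upper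

theorem hS0 : ∀ s ∈ ({Cfsg.Agent.Lib.Helper56_Cz.a, Cfsg.Agent.Lib.Helper56_Cz.b, Cfsg.Agent.Lib.Helper56_Cz.c, Cfsg.Agent.Lib.Helper56_Cz.e, Cfsg.Agent.Lib.Helper56_Cz.f, Cfsg.Agent.Lib.Helper56_Cz.g} : Set (FreeGroup Cfsg.Agent.Lib.Helper56_Cz.Gen)), ∃ x, x ∉ dropped1 ∧ s = FreeGroup.of x := by
  intro s hs
  simp only [Set.mem_insert_iff, Set.mem_singleton_iff] at hs
  rcases hs with rfl | rfl | rfl | rfl | rfl | rfl
  · exact ⟨.a, by decide, rfl⟩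
  · exact ⟨.b, by decide, rfl⟩
  · exact ⟨.c, by decide, rfl⟩
  · exact ⟨.e, by decide, rfl⟩
  · exact ⟨.f, by decide, rfl⟩
  · exact ⟨.g, by decide, rfl⟩

theorem card0 : Finite (PresentedGroup (coxRelators Cfsg.Agent.Lib.Helper56_Cz.edges ∪ {r | r ∈ Cfsg.Agent.Lib.Helper56_Cz.extra})) ∧ Nat.card (PresentedGroup (coxRelators Cfsg.Agent.Lib.Helper56_Cz.edges ∪ {r | r ∈ Cfsg.Agent.Lib.Helper56_Cz.extra})) ≤ 112 * 192 :=
  card_le_sub Cfsg.Agent.Lib.Helper56_Cz.edges edges1 Cfsg.Agent.Lib.Helper56_Cz.extra kept1 dropped1 h1_1 h2_1 h3_1 ({Cfsg.Agent.Lib.Helper56_Cz.a, Cfsg.Agent.Lib.Helper56_Cz.b, Cfsg.Agent.Lib.Helper56_Cz.c, Cfsg.Agent.Lib.Helper56_Cz.e, Cfsg.Agent.Lib.Helper56_Cz.f, Cfsg.Agent.Lib.Helper56_Cz.g} : Set (FreeGroup Cfsg.Agent.Lib.Helper56_Cz.Gen)) hS0 112 192 Cfsg.Agent.Lib.Helper56_Czc0.U.upper card1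

/-- the upper bound for the order -/
theorem card_le : Finite Cfsg.Agent.Lib.Helper56_Cz.P ∧ Nat.card Cfsg.Agent.Lib.Helper56_Cz.P ≤ 21504 := by
  have := card0
  norm_num at this ⊢
  exact this

end Cfsg.Agent.Lib.Helper56_CzOrder
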