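import Cfsg.Agent.Lib.Helper56_CzUBData

set_option autoImplicit false
set_option linter.constructorNameAsVariable false
set_option Elab.async false

namespace Cfsg.Agent.Lib.Helper56_CzUB

open Cfsg.Spor Cfsg.Agent.Lib.Helper28_CosetPerm Cfsg.Agent.Lib.Helper28_OrbitLB Cfsg.Agent.Lib.Helper56_WordLB Cfsg.Agent.Lib.Helper28_S1683 Cfsg.Agent.Lib.Helper28_S1683Tab Cfsg.Agent.Lib.Helper56_HeLB Cfsg.Agent.Lib.Helper56_CentIso Cfsg.Agent.Lib.Helper56_CzHe Cfsg.Agent.Lib.Helper56_PermAct

/-- the elements of the point stabiliser -/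
def hel (c : ℕ) : G := PresentedGroup.mk RELS (FreeGroup.mk (wordOf c))

theorem hel_mem (c : ℕ) (hc : c ∈ codes) : hel c ∈ pstab rho [b0] := by
  have h := (List.all_eq_true.mp codes_fix) c hc
  have h0 : walk 32767 col (wordOf c) 0 = 0 := Nat.eq_of_beq_eq_true h
  apply Verified.mk_mem_pstab Cfsg.Agent.Lib.Helper28_S1683.verified [b0] (wordOf c)
  intro b hb
  rw [List.mem_singleton] at hb
  subst hb
  exact h0

theorem conj_eq (c : ℕ) : (hel c)⁻¹ * zG * hel c = PresentedGroup.mk RELS (FreeGroup.mk (conjW c)) := by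
  unfold conjW hel zG
  rw [mk_append, mk_append, ← FreeGroup.inv_mk, map_mul, map_mul, map_inv, mul_assoc]

/-- three points separating the conjugates -/
def p1 : Fin 2058 := ⟨1, by norm_num⟩
/-- second point -/
def p2 : Fin 2058 := ⟨92, by norm_num⟩
/-- third point -/
def p3 : Fin 2058 := ⟨2, by norm_num⟩

/-- the signature of a group element -/
noncomputable def Sg (g : G) : ℕ :=
  (((rho g)⁻¹ p1 : Fin 2058) : ℕ) * 15 + 32768 * ((((rho g)⁻¹ p2 : Fin 2058) : ℕ) * 15 + 32768 * ((((rho g)⁻¹ p3 : Fin 2058) : ℕ) * 15))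

theorem walk_rho (u : List (Cfsg.Spor.He.Gen × Bool)) (k : Fin 2058) :
    walk 32767 col u ((k : ℕ) * 15) = (((rho (PresentedGroup.mk RELS (FreeGroup.mk u)))⁻¹ k : Fin 2058) : ℕ) * 15 := by
  rw [walk_fin Cfsg.Agent.Lib.Helper28_S1683.verified.hv u k]
  rfl

theorem sig_eq (c : ℕ) : sig c = Sg (PresentedGroup.mk RELS (FreeGroup.mk (conjW c))) := by
  unfold Sg
  rw [← walk_rho, ← walk_rho, ← walk_rho]
  rfl

theorem conj_nodup : ((codes.map hel).map (fun h => h⁻¹ * zG * h)).Nodup := by
  apply List.Nodup.of_map Sg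
  have h : ((codes.map hel).map (fun h => h⁻¹ * zG * h)).map Sg = codes.map sig := by
    rw [List.map_map, List.map_map]
    apply List.map_congr_left
    intro c _
    show Sg ((hel c)⁻¹ * zG * hel c) = sig c
    rw [conj_eq, sig_eq]
  rw [h]
  exact nodup_of_sortedB _ sig_sorted

/-- the order of the point stabiliser -/
theorem card_pstab0 : Nat.card (pstab rho [b0]) = 1958400 := by
  have h := card_pstab_single rho b0 Cfsg.Agent.S1695.trans0
  rw [Cfsg.Agent.S1695.card_eq] at h
  omega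

/-- the centraliser of `e` in the point stabiliser has at most 512 elements -/
theorem card_cent_stab : Nat.card (pstab rho [b0] ⊓ Subgroup.centralizer {zG} : Subgroup G) ≤ 512 := by
  have h := conj_count (pstab rho [b0]) zG (codes.map hel)
    (fun h hh => by
      obtain ⟨c, hc, rfl⟩ := List.mem_map.mp hh
      exact hel_mem c hc) conj_nodup
  rw [List.length_map, codes_length, card_pstab0] at h
  have h2 : 3825 * Nat.card (pstab rho [b0] ⊓ Subgroup.centralizer {zG} : Subgroup G) ≤ 3825 * 512 := h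
  exact Nat.le_of_mul_le_mul_left h2 (by norm_num)

/-- the fixed points of `e` -/
def fixSet : Finset (Fin 2058) :=
  Finset.univ.filter (fun k : Fin 2058 => nxt 32767 cE ((k : ℕ) * 15) = (k : ℕ) * 15)

theorem card_fix_general (c : ℕ) :
    (Finset.univ.filter (fun k : Fin 2058 => nxt 32767 c ((k : ℕ) * 15) = (k : ℕ) * 15)).card =
      cntB (fun k => Nat.beq (nxt 32767 c (Nat.mul k 15)) (Nat.mul k 15)) 2058 := by
  rw [← card_filter_range_eq_cntB]
  rw [card_filter_fin 2058 (fun k => nxt 32767 c (k * 15) = k * 15)]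
  apply congrArg Finset.card
  apply Finset.filter_congr
  intro k _
  rw [show Nat.mul k 15 = k * 15 from rfl]
  exact ⟨fun h => by rw [h]; exact Nat.beq_refl _, fun h => Nat.eq_of_beq_eq_true h⟩

theorem card_fixSet : fixSet.card = 42 := by
  unfold fixSet
  rw [card_fix_general]
  exact fix_cnt

theorem mem_fixSet_of_fix (k : Fin 2058) (h : rho zG k = k) : k ∈ fixSet := by
  unfold fixSet
  rw [Finset.mem_filter]
  refine ⟨Finset.mem_univ _, ?_⟩
  have h1 := walk_rho [(.e, true)] k
  have h2 : (rho zG)⁻¹ k = k := by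
    rw [Equiv.Perm.inv_eq_iff_eq]; exact h.symm
  show walk 32767 col [(.e, true)] ((k : ℕ) * 15) = (k : ℕ) * 15
  rw [h1]
  show ((((rho zG)⁻¹ k : Fin 2058) : ℕ)) * 15 = _
  rw [h2]

theorem zG_fix0 : rho zG b0 = b0 := by
  have h := lift_fix_of_walk Cfsg.Agent.Lib.Helper28_S1683.verified.hv [(.e, true)] b0 (by decide +kernel)
  rw [← psi_mk (perm Cfsg.Agent.Lib.Helper28_S1683.verified.hv) Cfsg.Agent.Lib.Helper28_S1683.verified.hrel] at h
  exact h

/-- the centraliser of `e` has at most 21504 elements -/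
theorem card_centralizer_le : Nat.card (Subgroup.centralizer {zG} : Subgroup G) ≤ 21504 := by
  have h1 := card_le_orbit_mul rho (Subgroup.centralizer {zG}) b0 fixSet (by
    intro g hg
    apply mem_fixSet_of_fix
    have hc : zG * g = g * zG := Subgroup.mem_centralizer_iff.mp hg zG (Set.mem_singleton zG)
    rw [← Equiv.Perm.mul_apply, ← map_mul, hc, map_mul, Equiv.Perm.mul_apply, zG_fix0])
  rw [card_fixSet, inf_comm] at h1
  have h2 := card_cent_stab
  calc _ ≤ 42 * Nat.card (pstab rho [b0] ⊓ Subgroup.centralizer {zG} : Subgroup G) := h1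
    _ ≤ 42 * 512 := Nat.mul_le_mul_left _ h2
    _ = 21504 := by norm_num

end Cfsg.Agent.Lib.Helper56_CzUB
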