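import Cfsg.Agent.Lib.Helper56_Czc0UDef

set_option autoImplicit false
set_option linter.constructorNameAsVariable false
set_option linter.unusedVariables false
set_option Elab.async false

namespace Cfsg.Agent.Lib.Helper56_Czc0.U

open Cfsg.Agent.Lib.Helper28_CosetPerm

theorem q0r0 : allRange parOk 1 0 142 = true := by decide +kernel
theorem q0u0 : ∀ k, 0 ≤ k → k < 142 → parOk (k * 1) = true := between_extend parOk 1 0 0 142 (between_start parOk 1 0) q0r0

theorem q0 : ∀ k, 0 ≤ k → k < 142 → parOk (k * 1) = true := q0u0

end Cfsg.Agent.Lib.Helper56_Czc0.U
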