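import Cfsg.Agent.Lib.Helper28_CosetUpCox
import Cfsg.Agent.Lib.Helper28_CosetPerm
import Cfsg.Agent.Lib.Helper56_Czc0UTab0
import Cfsg.Agent.Lib.Helper56_CzDef

set_option autoImplicit false
set_option linter.constructorNameAsVariable false
set_option linter.unusedVariables false
set_option Elab.async false

namespace Cfsg.Agent.Lib.Helper56_Czc0.U

open Cfsg.Spor Cfsg.Agent.Lib.Helper28_CosetUp Cfsg.Agent.Lib.Helper28_CosetUpCox Cfsg.Agent.Lib.Helper56_Czc0UTab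

def factBlk (i : ℕ) : ℕ := (@Bool.rec (fun _ => ℕ) fb0 (@Bool.rec (fun _ => ℕ) fb1 fb2 (Nat.ble (nat_lit 2) i)) (Nat.ble (nat_lit 1) i))

def certBlk (i : ℕ) : ℕ := (@Bool.rec (fun _ => ℕ) cb0 (@Bool.rec (fun _ => ℕ) cb1 cb2 (Nat.ble (nat_lit 2) i)) (Nat.ble (nat_lit 1) i))

def parBlk (i : ℕ) : ℕ := pb0

def finBlk (i : ℕ) : ℕ := nb0

def rowBlk (i : ℕ) : ℕ := (@Bool.rec (fun _ => ℕ) (@Bool.rec (fun _ => ℕ) (@Bool.rec (fun _ => ℕ) rb0 rb1 (Nat.ble (nat_lit 1) i)) (@Bool.rec (fun _ => ℕ) rb2 rb3 (Nat.ble (nat_lit 3) i)) (Nat.ble (nat_lit 2) i)) (@Bool.rec (fun _ => ℕ) (@Bool.rec (fun _ => ℕ) rb4 rb5 (Nat.ble (nat_lit 5) i)) (@Bool.rec (fun _ => ℕ) rb6 (@Bool.rec (fun _ => ℕ) rb7 rb8 (Nat.ble (nat_lit 8) i)) (Nat.ble (nat_lit 7) i)) (Nat.ble (nat_lit 6) i)) (Nat.ble (nat_lit 4) i))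

def word_n0_0 (i : ℕ) : List ℕ := (@Bool.rec (fun _ => List ℕ) (@Bool.rec (fun _ => List ℕ) (@Bool.rec (fun _ => List ℕ) (@Bool.rec (fun _ => List ℕ) (@Bool.rec (fun _ => List ℕ) [0, 0] [0, 2, 0, 2, 0, 2, 0, 2] (Nat.ble (nat_lit 1) i)) (@Bool.rec (fun _ => List ℕ) [0, 8, 0, 8] [0, 10, 0, 10] (Nat.ble (nat_lit 3) i)) (Nat.ble (nat_lit 2) i)) (@Bool.rec (fun _ => List ℕ) (@Bool.rec (fun _ => List ℕ) [0, 12, 0, 12] [0, 6, 0, 6] (Nat.ble (nat_lit 5) i)) (@Bool.rec (fun _ => List ℕ) [0, 4, 0, 4] [0, 14, 0, 14] (Nat.ble (nat_lit 7) i)) (Nat.ble (nat_lit 6) i)) (Nat.ble (nat_lit 4) i)) (@Bool.rec (fun _ => List ℕ) (@Bool.rec (fun _ => List ℕ) (@Bool.rec (fun _ => List ℕ) [2, 2] [2, 8, 2, 8] (Nat.ble (nat_lit 9) i)) (@Bool.rec (fun _ => List ℕ) [2, 10, 2, 10] [2, 12, 2, 12, 2, 12] (Nat.ble (nat_lit 11) i)) (Nat.ble (nat_lit 10) i)) (@Bool.rec (fun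 _ => List ℕ) (@Bool.rec (fun _ => List ℕ) [2, 6, 2, 6] [2, 4, 2, 4, 2, 4] (Nat.ble (nat_lit 13) i)) (@Bool.rec (fun _ => List ℕ) [2, 14, 2, 14, 2, 14] [8, 8] (Nat.ble (nat_lit 15) i)) (Nat.ble (nat_lit 14) i)) (Nat.ble (nat_lit 12) i)) (Nat.ble (nat_lit 8) i)) (@Bool.rec (fun _ => List ℕ) (@Bool.rec (fun _ => List ℕ) (@Bool.rec (fun _ => List ℕ) (@Bool.rec (fun _ => List ℕ) [8, 10, 8, 10, 8, 10, 8, 10] [8, 12, 8, 12] (Nat.ble (nat_lit 17) i)) (@Bool.rec (fun _ => List ℕ) [8, 14, 8, 14, 8, 14, 8, 14] [10, 10] (Nat.ble (nat_lit 19) i)) (Nat.ble (nat_lit 18) i)) (@Bool.rec (fun _ => List ℕ) (@Bool.rec (fun _ => List ℕ) [10, 12, 10, 12, 10, 12, 10, 12] [10, 14, 10, 14] (Nat.ble (nat_lit 21) i)) (@Bool.rec (fun _ => List ℕ) [12, 12] [12, 14, 12, 14, 12, 14, 12, 14] (Nat.ble (nat_lit 23) i)) (Nat.ble (nat_lit 22) i)) (Nat.ble (nat_lit 20) i)) (@Bool.rec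 (fun _ => List ℕ) (@Bool.rec (fun _ => List ℕ) (@Bool.rec (fun _ => List ℕ) [6, 8, 6, 8] [6, 10, 6, 10] (Nat.ble (nat_lit 25) i)) (@Bool.rec (fun _ => List ℕ) [6, 12, 6, 12] [6, 6] (Nat.ble (nat_lit 27) i)) (Nat.ble (nat_lit 26) i)) (@Bool.rec (fun _ => List ℕ) (@Bool.rec (fun _ => List ℕ) [6, 14, 6, 14] [4, 8, 4, 8] (Nat.ble (nat_lit 29) i)) (@Bool.rec (fun _ => List ℕ) [4, 10, 4, 10] [4, 12, 4, 12] (Nat.ble (nat_lit 31) i)) (Nat.ble (nat_lit 30) i)) (Nat.ble (nat_lit 28) i)) (Nat.ble (nat_lit 24) i)) (Nat.ble (nat_lit 16) i))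

def word_n0_1 (i : ℕ) : List ℕ := (@Bool.rec (fun _ => List ℕ) (@Bool.rec (fun _ => List ℕ) (@Bool.rec (fun _ => List ℕ) (@Bool.rec (fun _ => List ℕ) (@Bool.rec (fun _ => List ℕ) [4, 6, 4, 6] [4, 4] (Nat.ble (nat_lit 33) i)) (@Bool.rec (fun _ => List ℕ) [4, 14, 4, 14] [14, 14] (Nat.ble (nat_lit 35) i)) (Nat.ble (nat_lit 34) i)) (@Bool.rec (fun _ => List ℕ) (@Bool.rec (fun _ => List ℕ) [6, 10, 8, 10, 8] [6, 4, 2, 0, 4, 2, 0, 4, 2, 0] (Nat.ble (nat_lit 37) i)) (@Bool.rec (fun _ => List ℕ) [14, 12, 14, 12, 6, 4] [12, 2, 0, 2, 12, 8, 2, 0, 2, 0] (Nat.ble (nat_lit 39) i)) (Nat.ble (nat_lit 38) i)) (Nat.ble (nat_lit 36) i)) (@Bool.rec (fun _ => List ℕ) (@Bool.rec (fun _ => List ℕ) (@Bool.rec (fun _ => List ℕ) [14, 2, 0, 2, 14, 10, 2, 0, 2, 0] ([] : List ℕ) (Nat.ble (nat_lit 41) i)) (@Bool.rec (fun _ => List ℕ) [0, 1] [1, 0] (Nat.ble (nat_lit 43)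 i)) (Nat.ble (nat_lit 42) i)) (@Bool.rec (fun _ => List ℕ) (@Bool.rec (fun _ => List ℕ) [2, 3] [3, 2] (Nat.ble (nat_lit 45) i)) (@Bool.rec (fun _ => List ℕ) [4, 5] [5, 4] (Nat.ble (nat_lit 47) i)) (Nat.ble (nat_lit 46) i)) (Nat.ble (nat_lit 44) i)) (Nat.ble (nat_lit 40) i)) (@Bool.rec (fun _ => List ℕ) (@Bool.rec (fun _ => List ℕ) (@Bool.rec (fun _ => List ℕ) (@Bool.rec (fun _ => List ℕ) [6, 7] [7, 6] (Nat.ble (nat_lit 49) i)) (@Bool.rec (fun _ => List ℕ) [8, 9] [9, 8] (Nat.ble (nat_lit 51) i)) (Nat.ble (nat_lit 50) i)) (@Bool.rec (fun _ => List ℕ) (@Bool.rec (fun _ => List ℕ) [10, 11] [11, 10] (Nat.ble (nat_lit 53) i)) (@Bool.rec (fun _ => List ℕ) [12, 13] [13, 12] (Nat.ble (nat_lit 55) i)) (Nat.ble (nat_lit 54) i)) (Nat.ble (nat_lit 52) i)) (@Bool.rec (fun _ => List ℕ) (@Bool.rec (fun _ => List ℕ) (@Bool.rec (fun _ => List ℕ) [14, 15] [15,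 14] (Nat.ble (nat_lit 57) i)) (@Bool.rec (fun _ => List ℕ) [0] [2] (Nat.ble (nat_lit 59) i)) (Nat.ble (nat_lit 58) i)) (@Bool.rec (fun _ => List ℕ) (@Bool.rec (fun _ => List ℕ) [4] [6] (Nat.ble (nat_lit 61) i)) (@Bool.rec (fun _ => List ℕ) [8] [10] (Nat.ble (nat_lit 63) i)) (Nat.ble (nat_lit 62) i)) (Nat.ble (nat_lit 60) i)) (Nat.ble (nat_lit 56) i)) (Nat.ble (nat_lit 48) i))

def word (i : ℕ) : List ℕ := (@Bool.rec (fun _ => List ℕ) (word_n0_0 i) (word_n0_1 i) (Nat.ble (nat_lit 32) i))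

def fact (k : ℕ) : ℕ := Nat.land (Nat.shiftRight (factBlk (Nat.shiftRight k (nat_lit 8))) (Nat.mul (Nat.land k (nat_lit 255)) (nat_lit 48))) (nat_lit 281474976710655)

def slot (v : ℕ) : ℕ := Nat.land (Nat.shiftRight (parBlk (Nat.shiftRight v (nat_lit 8))) (Nat.mul (Nat.land v (nat_lit 255)) (nat_lit 32))) (nat_lit 4294967295)

def par (v : ℕ) : ℕ := Nat.land (slot v) (nat_lit 1048575)

def plet (v : ℕ) : ℕ := Nat.shiftRight (slot v) (nat_lit 20)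

def isFin (v : ℕ) : Bool := Nat.beq (Nat.land (Nat.shiftRight (finBlk (Nat.shiftRight v (nat_lit 12))) (Nat.land v (nat_lit 4095))) (nat_lit 1)) (nat_lit 1)

def row (v : ℕ) : ℕ := Nat.land (Nat.shiftRight (rowBlk (Nat.shiftRight v (nat_lit 4))) (Nat.mul (Nat.land v (nat_lit 15)) (nat_lit 384))) (nat_lit 39402006196394479212279040100143613805079739270465446667948293404245721771497210611414266254884915640806627990306815)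

def inv (g : ℕ) : Bool := and (Nat.blt g 8) (Nat.beq (Nat.land (Nat.shiftRight (nat_lit 255) g) (nat_lit 1)) (nat_lit 1))

def blockOk (j : ℕ) : Bool := blockF par plet fact inv word (nat_lit 58) (nat_lit 64) (nat_lit 142) (Nat.mul j (nat_lit 256)) (nat_lit 256) (nat_lit 0) (certBlk j)

def rowOk (v : ℕ) : Bool := rowF fact inv (nat_lit 142) isFin row (nat_lit 768) (nat_lit 16) v

def parOk (v : ℕ) : Bool := or (Nat.beq v 0) (Nat.blt (par v) v)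

def gname : ℕ → Cfsg.Agent.Lib.Helper56_Cz.Gen
  | 0 => .a
  | 1 => .b
  | 2 => .c
  | 3 => .e
  | 4 => .f
  | 5 => .g
  | 6 => .p
  | 7 => .q
  | _ => .a

end Cfsg.Agent.Lib.Helper56_Czc0.U
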