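import Mathlib
import Cfsg.Prelude.Def_Characters
import Cfsg.Prelude.Def_ParabolicCharacters
import Cfsg.Agent.Lib.Helper40_DefZeroDefs
import Cfsg.Agent.Lib.Helper40_DefZeroDefs2
import Cfsg.Agent.Lib.Helper3_CharOrtho
import Cfsg.Agent.Lib.Helper39_Clifford
import Cfsg.Agent.Lib.Helper56_DZ_ASM2

/-!
# DEFZERO market, package ASM3 (helper56): `⟨χ, 1_Q^G⟩ = |Q|⁻¹ ∑_Q χ`, and `A1 + A2 ⇒ χ = St`.
-/

set_option autoImplicit false

open Cfsg Cfsg.Agent.Lib.Helper40_DefZeroDefs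
open Cfsg.Agent.Lib.Helper56_DZ_ASM2
open scoped ComplexConjugate

namespace Cfsg.Agent.Lib.Helper56_DZ_ASM3

variable {G : Type*} [Group G] [Fintype G]

open Classical in
theorem ssum_eq_sum_subtype (H : Subgroup G) [Fintype H] (f : G → ℂ) :
    ssum (H : Set G) f = ∑ n : H, f n := by
  unfold ssum
  rw [← Finset.sum_filter]
  exact Finset.sum_subtype (Finset.univ.filter (fun g => g ∈ (H : Set G)))
    (p := fun g => g ∈ H) (by intro x; simp) f

open Classical in
/-- the stabilizer sum: `∑_{g fixing xQ} χ g = ∑_Q χ` for a class function -/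
theorem sum_fix_coset (Q : Subgroup G) (χ : G → ℂ) (hχ : Cfsg.IsClassFunction G χ) (x : G) :
    (∑ g : G, if g • (x : G ⧸ Q) = (x : G ⧸ Q) then χ g else 0) = ssum (Q : Set G) χ := by
  classical
  unfold ssum
  refine Fintype.sum_equiv (MulAut.conj x⁻¹).toEquiv _ _ ?_
  intro g
  have h1 : g • (x : G ⧸ Q) = (x : G ⧸ Q) ↔ x⁻¹ * g * x ∈ Q := by
    rw [show g • (x : G ⧸ Q) = ((g * x : G) : G ⧸ Q) from rfl, eq_comm, QuotientGroup.eq]
    constructor
    · intro h; simpa [mul_assoc] using h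
    · intro h; simpa [mul_assoc] using h
  have h2 : (MulAut.conj x⁻¹).toEquiv g = x⁻¹ * g * x := by
    simp
  rw [h2]
  by_cases hg : x⁻¹ * g * x ∈ Q
  · rw [if_pos (h1.mpr hg), if_pos (show x⁻¹ * g * x ∈ (Q : Set G) from hg)]
    have := hχ g x⁻¹
    rw [inv_inv] at this
    exact this.symm
  · rw [if_neg (fun h => hg (h1.mp h)), if_neg (show ¬ x⁻¹ * g * x ∈ (Q : Set G) from hg)]

/-- `∑_g χ g · 1_Q^G g = [G:Q] ∑_Q χ` -/
theorem sum_mul_fpc (Q : Subgroup G) (χ : G → ℂ) (hχ : Cfsg.IsClassFunction G χ) :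
    ∑ g : G, χ g * Cfsg.fixedPointCharacter Q g = (Q.index : ℂ) * ssum (Q : Set G) χ := by
  classical
  have : Fintype (G ⧸ Q) := Fintype.ofFinite _
  have h1 : ∀ g : G, Cfsg.fixedPointCharacter Q g =
      ∑ c : G ⧸ Q, if g • c = c then (1 : ℂ) else 0 := by
    intro g
    unfold Cfsg.fixedPointCharacter
    rw [Finset.sum_boole, Nat.card_eq_fintype_card]
    congr 1
    rw [Fintype.card_subtype]
    rfl
  have h2 : ∑ g : G, χ g * Cfsg.fixedPointCharacter Q g =
      ∑ c : G ⧸ Q, ∑ g : G, if g • c = c then χ g else 0 := by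
    simp_rw [h1, Finset.mul_sum]
    rw [Finset.sum_comm]
    refine Finset.sum_congr rfl (fun c _ => Finset.sum_congr rfl (fun g _ => ?_))
    by_cases h : g • c = c
    · simp [h]
    · simp [h]
  rw [h2]
  have h3 : ∀ c : G ⧸ Q, (∑ g : G, if g • c = c then χ g else 0) = ssum (Q : Set G) χ := by
    intro c
    obtain ⟨x, rfl⟩ := QuotientGroup.mk_surjective c
    exact sum_fix_coset Q χ hχ x
  simp_rw [h3]
  rw [Finset.sum_const, nsmul_eq_mul, Finset.card_univ, Subgroup.index_eq_card,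
    Nat.card_eq_fintype_card]

/-- if `∑_P χ = 0` and `P ≤ Q` then `∑_Q χ = 0` -/
theorem ssum_eq_zero_of_le (P Q : Subgroup G) (hPQ : P ≤ Q) (χ : G → ℂ)
    (hχ : Cfsg.IsCharacter G χ) (h0 : ssum (P : Set G) χ = 0) : ssum (Q : Set G) χ = 0 := by
  classical
  have : Fintype P := Fintype.ofFinite _
  have hz : ∀ z : G, ssum (P : Set G) (fun y => χ (z * y)) = 0 := by
    intro z
    rw [ssum_eq_sum_subtype]
    apply Cfsg.Agent.Lib.Helper39_Clifford.sum_isCharacter_mul_eq_zero hχ P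
    rw [← ssum_eq_sum_subtype]
    exact h0
  have h1 : ssum (Q : Set G) (fun z => ssum (P : Set G) (fun y => χ (z * y))) = 0 := by
    rw [ssum_congr (Q : Set G) _ (fun _ => 0) (fun z _ => hz z), ssum_const, mul_zero]
  rw [ssum_comm] at h1
  rw [ssum_congr (P : Set G) _ (fun _ => ssum (Q : Set G) χ)
    (fun y hy => ssum_mul_right Q y (hPQ hy) χ), ssum_const] at h1
  have hP : (Nat.card P : ℂ) ≠ 0 := by
    have : 0 < Nat.card P := Nat.card_pos
    exact_mod_cast this.ne'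
  exact (mul_eq_zero.mp h1).resolve_left hP

theorem dz_asm3 (B : Subgroup G) {ι : Type*} (P : ι → Subgroup G) (χ : G → ℂ)
    (hχ : Cfsg.IsIrrCharacter G χ)
    (hA1 : ∀ i, ssum (P i : Set G) χ = 0) (hA2 : ssum (B : Set G) χ ≠ 0)
    {κ : Type*} (s : Finset κ) (Q : κ → Subgroup G) (ε : κ → ℤ) (k₀ : κ) (hk₀ : k₀ ∈ s)
    (hQ₀ : Q k₀ = B) (hε₀ : ε k₀ = 1) (hQ : ∀ k ∈ s, k ≠ k₀ → ∃ i, P i ≤ Q k)
    (St : G → ℂ) (hSt : Cfsg.IsIrrCharacter G St)
    (hStf : ∀ g, St g = ∑ k ∈ s, (ε k : ℂ) * Cfsg.fixedPointCharacter (Q k) g) :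
    χ = St := by
  classical
  have hχc : Cfsg.IsCharacter G χ :=
    Cfsg.Agent.Lib.Helper3_CharBridge.isCharacter_of_isIrrCharacter hχ
  have hχcl : Cfsg.IsClassFunction G χ :=
    Cfsg.Agent.Lib.Helper3_CharBridge.isClassFunction_of_isIrrCharacter hχ
  -- `St` is real valued
  have hreal : ∀ g, conj (St g) = St g := by
    intro g
    rw [hStf g, map_sum]
    refine Finset.sum_congr rfl (fun k _ => ?_)
    unfold Cfsg.fixedPointCharacter
    rw [map_mul, Complex.conj_natCast, map_intCast]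
  -- the inner product
  have hinner : Cfsg.classInner χ St =
      (Nat.card G : ℂ)⁻¹ * ((B.index : ℂ) * ssum (B : Set G) χ) := by
    unfold Cfsg.classInner
    congr 1
    have h1 : ∑ g : G, χ g * conj (St g) =
        ∑ k ∈ s, (ε k : ℂ) * ∑ g : G, χ g * Cfsg.fixedPointCharacter (Q k) g := by
      simp_rw [hreal, hStf, Finset.mul_sum]
      rw [Finset.sum_comm]
      refine Finset.sum_congr rfl (fun k _ => Finset.sum_congr rfl (fun g _ => ?_))
      ring
    rw [h1]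
    simp_rw [sum_mul_fpc _ χ hχcl]
    rw [Finset.sum_eq_single_of_mem k₀ hk₀]
    · rw [hε₀, hQ₀, Int.cast_one, one_mul]
    · intro k hk hkne
      obtain ⟨i, hi⟩ := hQ k hk hkne
      rw [ssum_eq_zero_of_le (P i) (Q k) hi χ hχc (hA1 i), mul_zero, mul_zero]
  have hne : Cfsg.classInner χ St ≠ 0 := by
    rw [hinner]
    have hG : (Nat.card G : ℂ) ≠ 0 := by
      have : 0 < Nat.card G := Nat.card_pos
      exact_mod_cast this.ne'
    have hB : (B.index : ℂ) ≠ 0 := by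
      have : B.index ≠ 0 := Subgroup.index_ne_zero_of_finite
      exact_mod_cast this
    exact mul_ne_zero (inv_ne_zero hG) (mul_ne_zero hB hA2)
  rw [Cfsg.Agent.Lib.Helper3_CharOrtho.classInner_irr hχ hSt] at hne
  by_contra h
  rw [if_neg h] at hne
  exact hne rfl

end Cfsg.Agent.Lib.Helper56_DZ_ASM3
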