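import Mathlib.LinearAlgebra.Matrix.Determinant.Basic
import Mathlib.LinearAlgebra.Matrix.NonsingularInverse
import Mathlib.Data.ZMod.Basic
import Mathlib.Data.Matrix.Mul

/-!
# Decidable facts about `2 × 2` matrices over `ZMod 3` (helper56)

These finite checks (over the `81` matrices of `M₂(𝔽₃)`) are the computational input for the
recognition of the `2`-subgroups of `GL(2,3)` which are transitive on the non-zero vectors
(cyclic of order `8`, quaternion of order `8`, semidihedral of order `16`).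
-/

set_option autoImplicit false

namespace Cfsg.Agent.Lib.Helper56_GL23

/-- `2 × 2` matrices over the field with three elements -/
abbrev M3 := Matrix (Fin 2) (Fin 2) (ZMod 3)
/-- coordinate vectors -/
abbrev W3 := Fin 2 → ZMod 3

set_option maxRecDepth 1000000 in
/-- an invertible matrix fixing a non-zero vector has order dividing `6` -/
theorem pow_six_of_fix : ∀ m : M3, m.det ≠ 0 → ∀ w : W3, w ≠ 0 → m.mulVec w = w → m ^ 6 = 1 := by
  decide +kernel

set_option maxRecDepth 1000000 in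
set_option synthInstance.maxSize 2000 in
set_option synthInstance.maxHeartbeats 200000 in
/-- two commuting non-trivial involutions fixing the same non-zero vector are equal -/
theorem invol_eq_of_fix : ∀ m₁ : M3, m₁ * m₁ = 1 → m₁ ≠ 1 → ∀ w : W3, w ≠ 0 → m₁.mulVec w = w →
    ∀ m₂ : M3, m₂ * m₂ = 1 → m₂ ≠ 1 → m₂.mulVec w = w → (m₁ * m₂) * (m₁ * m₂) = 1 → m₁ = m₂ := by
  decide +kernel

set_option maxRecDepth 1000000 in
/-- a non-trivial involution without non-zero fixed vectors is `-1` -/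
theorem invol_eq_neg_one : ∀ m : M3, m * m = 1 → m ≠ 1 →
    (∀ w : W3, w ≠ 0 → m.mulVec w ≠ w) → m = -1 := by
  decide +kernel

set_option maxRecDepth 1000000 in
/-- the semidihedral relation -/
theorem semidihedral_rel : ∀ x : M3, x ^ 4 = -1 → ∀ t : M3, t * t = 1 → t ≠ 1 → t ≠ -1 →
    (t * x) ^ 16 = 1 → t * x * t = x ^ 3 := by
  decide +kernel

set_option maxRecDepth 1000000 in
set_option synthInstance.maxSize 2000 in
set_option synthInstance.maxHeartbeats 200000 in
/-- finding an element of order `8` -/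
theorem exists_order_eight : ∀ t : M3, t * t = 1 → t ≠ 1 → ∀ w₀ : W3, w₀ ≠ 0 → t.mulVec w₀ = w₀ →
    ∀ g : M3, t.mulVec (g.mulVec w₀) ≠ g.mulVec w₀ → t.mulVec (g.mulVec w₀) ≠ -(g.mulVec w₀) →
    g ^ 16 = 1 → (t * g) ^ 16 = 1 → g ^ 4 = -1 ∨ (t * g) ^ 4 = -1 := by
  decide +kernel

set_option maxRecDepth 1000000 in
/-- a reflection has a non-eigenvector -/
theorem exists_non_eigenvector : ∀ t : M3, t * t = 1 → t ≠ 1 → ∀ w₀ : W3, w₀ ≠ 0 →
    t.mulVec w₀ = w₀ → ∃ w₂ : W3, w₂ ≠ 0 ∧ t.mulVec w₂ ≠ w₂ ∧ t.mulVec w₂ ≠ -w₂ := by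
  decide +kernel

/-- `-1` fixes no non-zero vector -/
theorem neg_one_no_fix : ∀ w : W3, w ≠ 0 → (-1 : M3).mulVec w ≠ w := by
  decide +kernel

theorem one_ne_neg_one : (1 : M3) ≠ -1 := by decide +kernel

theorem neg_one_sq : (-1 : M3) ^ 2 = 1 := by decide +kernel

end Cfsg.Agent.Lib.Helper56_GL23
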