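import Cfsg.Agent.Lib.Helper28_S1683
import Cfsg.Agent.Lib.Helper28_OrbitLB

set_option autoImplicit false
set_option linter.constructorNameAsVariable false
set_option Elab.async false

namespace Cfsg.Agent.Lib.Helper56_HeFacts

open Cfsg.Spor Cfsg.Agent.Lib.Helper28_CosetPerm Cfsg.Agent.Lib.Helper28_S1683 Cfsg.Agent.Lib.Helper28_S1683Tab

/-- the word `b c d f` -/
def uw : List (Cfsg.Spor.He.Gen × Bool) := [(.b, true), (.c, true), (.d, true), (.f, true)]

/-- the word `(b c d f)^17` -/
def u17 : List (Cfsg.Spor.He.Gen × Bool) := [(.b, true), (.c, true), (.d, true), (.f, true), (.b, true), (.c, true), (.d, true), (.f, true), (.b, true), (.c, true), (.d, true), (.f, true), (.b, true), (.c, true), (.d, true), (.f, true), (.b, true), (.c, true), (.d, true), (.f, true), (.b, true), (.c, true), (.d, true), (.f, true), (.b, true), (.c, true), (.d, true), (.f, true), (.b, true), (.c, true), (.d, true), (.f, true), (.b, true), (.c, true), (.d, true), (.f, true), (.b, true), (.c, true), (.d, true), (.f, true), (.b, true), (.c, true), (.d,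 true), (.f, true), (.b, true), (.c, true), (.d, true), (.f, true), (.b, true), (.c, true), (.d, true), (.f, true), (.b, true), (.c, true), (.d, true), (.f, true), (.b, true), (.c, true), (.d, true), (.f, true), (.b, true), (.c, true), (.d, true), (.f, true), (.b, true), (.c, true), (.d, true), (.f, true)]

/-- the word `d f g` -/
def tw : List (Cfsg.Spor.He.Gen × Bool) := [(.d, true), (.f, true), (.g, true)]

/-- the word `(d f g)^7` -/
def t7 : List (Cfsg.Spor.He.Gen × Bool) := [(.d, true), (.f, true), (.g, true), (.d, true), (.f, true), (.g, true), (.d, true), (.f, true), (.g, true), (.d, true), (.f, true), (.g, true), (.d, true), (.f, true), (.g, true), (.d, true), (.f, true), (.g, true), (.d, true), (.f, true), (.g, true)]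

/-- the fixed point of `b c d f` -/
def x0 : Fin 2058 := ⟨1462, by norm_num⟩

def chk_u17 (x : ℕ) : Bool := Nat.beq (walk 32767 col u17 x) x

theorem r_u17 : allRange chk_u17 15 0 2058 = true := by decide +kernel

theorem a_u17 : ∀ k, 0 ≤ k → k < 2058 → chk_u17 (k * 15) = true := between_extend chk_u17 15 0 0 2058 (between_start chk_u17 15 0) r_u17

theorem u17_triv : FreeGroup.lift (perm Cfsg.Agent.Lib.Helper28_S1683.verified.hv) (FreeGroup.mk u17) = 1 := by
  apply lift_eq_one_of_walk
  intro k hk
  exact Nat.eq_of_beq_eq_true (between_all chk_u17 15 2058 a_u17 k hk)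

def chk_t7 (x : ℕ) : Bool := Nat.beq (walk 32767 col t7 x) x

theorem r_t7 : allRange chk_t7 15 0 2058 = true := by decide +kernel

theorem a_t7 : ∀ k, 0 ≤ k → k < 2058 → chk_t7 (k * 15) = true := between_extend chk_t7 15 0 0 2058 (between_start chk_t7 15 0) r_t7

theorem t7_triv : FreeGroup.lift (perm Cfsg.Agent.Lib.Helper28_S1683.verified.hv) (FreeGroup.mk t7) = 1 := by
  apply lift_eq_one_of_walk
  intro k hk
  exact Nat.eq_of_beq_eq_true (between_all chk_t7 15 2058 a_t7 k hk)

def chk_fix (x : ℕ) : Bool := or (not (Nat.beq (walk 32767 col uw x) x)) (Nat.beq x 21930)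

theorem r_fix : allRange chk_fix 15 0 2058 = true := by decide +kernel

theorem a_fix : ∀ k, 0 ≤ k → k < 2058 → chk_fix (k * 15) = true := between_extend chk_fix 15 0 0 2058 (between_start chk_fix 15 0) r_fix

/-- `b c d f` has exactly one fixed point -/
theorem u_fix_unique (k : Fin 2058)
    (h : FreeGroup.lift (perm Cfsg.Agent.Lib.Helper28_S1683.verified.hv) (FreeGroup.mk uw) k = k) : k = x0 := by
  have hv := Cfsg.Agent.Lib.Helper28_S1683.verified.hv
  have hw := walk_fin hv uw k
  have hinv : (FreeGroup.lift (perm hv) (FreeGroup.mk uw))⁻¹ k = k := by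
    rw [Equiv.Perm.inv_eq_iff_eq]
    exact h.symm
  rw [hinv] at hw
  have hc := between_all chk_fix 15 2058 a_fix k k.2
  simp only [chk_fix, Bool.or_eq_true, Bool.not_eq_true'] at hc
  rcases hc with hc | hc
  · rw [hw] at hc
    rw [Nat.beq_refl] at hc
    exact absurd hc (by decide)
  · have h1 : (k : ℕ) * 15 = 21930 := Nat.eq_of_beq_eq_true hc
    apply Fin.ext
    show (k : ℕ) = 1462
    omega

theorem u_fix_x0 : FreeGroup.lift (perm Cfsg.Agent.Lib.Helper28_S1683.verified.hv) (FreeGroup.mk uw) x0 = x0 := by
  apply Cfsg.Agent.Lib.Helper28_OrbitLB.lift_fix_of_walk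
  decide +kernel

end Cfsg.Agent.Lib.Helper56_HeFacts
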