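import Cfsg.Agent.S1695
import Cfsg.Agent.Lib.Helper56_CentIso

set_option autoImplicit false
set_option linter.constructorNameAsVariable false

/-!
# Words of the Held group for the computation of its Schur multiplier (helper56, for S2049)

The elements are words in the seven generators; equality of words is decided by walking the four
base points through the table of the action on 2058 points (faithful by `S1695`).

The list `wl`: `0, …, 63` are the elements of an elementary abelian group `E` of order 64 (the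
index is the coordinate vector), normal in a subgroup `2^6 : 3·S₆`; `64` is an element `c` of order
three acting on `E` without fixed points; `65, 66, 67` are involutions `s, t, u` generating a group
`D₈ × C₂` normalising `E` and `⟨c⟩`; `67 + v` conjugates the element `1` or `21` of `E` (according
to its class) to the element `v`; `131, …, 136` conjugate one of these two to
`s, t, u, (s t)², u s, u t`; `137, …, 140` are `x, y, h₁, h₂` for the prime three (`x, y` generate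
an extraspecial group of order 27, `h₁` centralises `x` and inverts `y`, `h₂` inverts `x` and
centralises `y`); `141, 142, 143` are `x, y, t` for the prime five (`x, y` commuting of order five,
`t` centralises `x` and inverts `y`); `144, …, 147` are `x, y, h₁, h₂` for the prime seven; `148`
has order 17.
-/

namespace Cfsg.Agent.Lib.Helper56_HeMult

open Cfsg.Spor Cfsg.Agent.Lib.Helper28_CosetPerm Cfsg.Agent.Lib.Helper56_WordLB Cfsg.Agent.Lib.Helper28_S1683 Cfsg.Agent.Lib.Helper28_S1683Tab Cfsg.Agent.Lib.Helper56_HeLB Cfsg.Agent.Lib.Helper56_CentIso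

/-- the relators of the Held group -/
abbrev RELS : Set (FreeGroup He.Gen) := coxRelators He.edges ∪ {r | r ∈ He.extra}

/-- the Held group -/
abbrev G : Type := PresentedGroup RELS

/-- the generators by number -/
def gn : ℕ → He.Gen
  | 0 => .a
  | 1 => .b
  | 2 => .c
  | 3 => .d
  | 4 => .e
  | 5 => .f
  | _ => .g

/-- a positive word from the numbers of its letters -/
def lw (l : List ℕ) : List (He.Gen × Bool) := l.map (fun i => (gn i, true))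

/-- the list of words -/
def wl : List (List (He.Gen × Bool)) := [
  lw [],
  lw [6],
  lw [0, 2],
  lw [0, 2, 6],
  lw [4, 3, 4, 6, 3, 2, 3, 6, 4, 3],
  lw [4, 6, 3, 4, 6, 3, 2, 3, 6, 4, 3],
  lw [0, 2, 4, 3, 4, 6, 3, 2, 3, 6, 4, 3],
  lw [0, 2, 4, 6, 3, 4, 6, 3, 2, 3, 6, 4, 3],
  lw [0],
  lw [0, 6],
  lw [2],
  lw [2, 6],
  lw [0, 4, 3, 4, 6, 3, 2, 3, 6, 4, 3],
  lw [0, 4, 6, 3, 4, 6, 3, 2, 3, 6, 4, 3],
  lw [2, 4, 3, 4, 6, 3, 2, 3, 6, 4, 3],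
  lw [2, 4, 6, 3, 4, 6, 3, 2, 3, 6, 4, 3],
  lw [2, 4],
  lw [2, 4, 6],
  lw [0, 4],
  lw [0, 4, 6],
  lw [2, 3, 4, 6, 3, 2, 3, 6, 4, 3],
  lw [2, 6, 3, 4, 6, 3, 2, 3, 6, 4, 3],
  lw [0, 3, 4, 6, 3, 2, 3, 6, 4, 3],
  lw [0, 6, 3, 4, 6, 3, 2, 3, 6, 4, 3],
  lw [0, 2, 4],
  lw [0, 2, 4, 6],
  lw [4],
  lw [4, 6],
  lw [0, 2, 3, 4, 6, 3, 2, 3, 6, 4, 3],
  lw [0, 2, 6, 3, 4, 6, 3, 2, 3, 6, 4, 3],
  lw [3, 4, 6, 3, 2, 3, 6, 4, 3],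
  lw [6, 3, 4, 6, 3, 2, 3, 6, 4, 3],
  lw [5, 3, 4, 6, 3, 2, 3, 6, 4, 3, 5],
  lw [5, 3, 4, 6, 3, 2, 3, 6, 4, 3, 5, 6],
  lw [0, 2, 5, 3, 4, 6, 3, 2, 3, 6, 4, 3, 5],
  lw [0, 2, 5, 3, 4, 6, 3, 2, 3, 4, 6, 3, 5, 6],
  lw [3, 2, 3, 2, 6, 3, 2, 3, 2, 6, 3, 2, 3, 4, 6],
  lw [3, 2, 3, 2, 6, 3, 2, 3, 2, 6, 3, 2, 3, 4],
  lw [3, 2, 3, 2, 3, 6, 3, 2, 3, 2, 6, 3, 2, 3, 4, 6],
  lw [2, 3, 2, 3, 6, 3, 2, 3, 2, 3, 6, 3, 2, 3, 4],
  lw [0, 5, 3, 4, 6, 3, 2, 3, 6, 4, 3, 5],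
  lw [0, 5, 3, 4, 6, 3, 2, 3, 4, 6, 3, 5, 6],
  lw [2, 5, 3, 4, 6, 3, 2, 3, 6, 4, 3, 5],
  lw [2, 5, 3, 4, 6, 3, 2, 3, 6, 4, 3, 5, 6],
  lw [3, 2, 3, 2, 5, 3, 2, 3, 2, 5, 3, 2, 3, 4, 5],
  lw [3, 2, 3, 6, 3, 2, 3, 2, 3, 6, 3, 2, 3, 4],
  lw [3, 2, 3, 2, 3, 5, 3, 2, 3, 2, 5, 3, 2, 3, 4, 5],
  lw [2, 3, 2, 3, 2, 6, 3, 2, 3, 2, 6, 3, 2, 3, 4],
  lw [2, 4, 5, 3, 4, 6, 3, 2, 3, 6, 4, 3, 5],
  lw [2, 5, 3, 4, 6, 3, 2, 3, 4, 3, 6, 3, 5],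
  lw [0, 4, 5, 3, 4, 6, 3, 2, 3, 6, 4, 3, 5],
  lw [0, 5, 6, 3, 4, 6, 3, 2, 3, 6, 4, 3, 5],
  lw [2, 3, 2, 3, 2, 6, 3, 2, 3, 2, 6, 3, 2, 3, 6],
  lw [2, 3, 2, 3, 2, 6, 3, 2, 3, 2, 6, 3, 2, 3],
  lw [3, 2, 3, 2, 5, 3, 2, 3, 2, 5, 3, 2, 3, 5],
  lw [3, 2, 3, 6, 3, 2, 3, 2, 3, 6, 3, 2, 3],
  lw [3, 2, 4, 3, 2, 3, 6, 3, 2, 3, 2, 4, 3],
  lw [3, 2, 3, 2, 4, 3, 6, 3, 2, 4, 3, 2, 3],
  lw [4, 5, 3, 4, 6, 3, 2, 3, 6, 4, 3, 5],
  lw [5, 6, 3, 4, 6, 3, 2, 3, 6, 4, 3, 5],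
  lw [2, 3, 2, 3, 2, 5, 3, 2, 3, 2, 5, 3, 2, 3, 5],
  lw [2, 3, 2, 3, 6, 3, 2, 3, 2, 3, 6, 3, 2, 3],
  lw [3, 2, 3, 2, 6, 3, 2, 3, 2, 6, 3, 2, 3, 6],
  lw [3, 2, 3, 2, 6, 3, 2, 3, 2, 6, 3, 2, 3],
  lw [1, 2, 3, 6, 3, 5, 3, 2, 3, 1, 2, 4, 3, 2, 1, 3, 2, 1, 3, 5, 6, 3, 2, 1],
  lw [3, 2, 3, 2, 5, 3, 2, 3, 2, 5, 3, 2, 3, 4],
  lw [1, 2, 1, 3, 4, 3, 6, 3, 2, 1, 3, 4, 6, 3, 2],
  lw [0, 1, 0, 1, 4, 6],
  lw [],
  lw [3, 2, 3, 6, 2, 3],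
  lw [5, 1, 2, 3, 6, 4, 3, 2, 3, 1, 2, 3, 6, 2, 3],
  lw [1, 2, 3, 6, 4, 3, 2, 3, 1, 2, 3, 6, 3, 4, 2, 3],
  lw [1, 3, 2, 6, 3, 2, 3, 6, 3, 2, 3, 1, 2, 3, 1, 2, 3, 5],
  lw [5, 3, 4, 2, 3, 2, 3],
  lw [5, 1, 2, 3, 6, 4, 3, 2, 3, 6, 1, 2, 3, 2, 3],
  lw [1, 2, 3, 2, 3, 6, 3, 2, 3, 1, 2, 3, 1, 2, 3, 5],
  lw [3, 4, 2, 3, 2, 3, 5],
  lw [3, 6, 2, 3, 4, 3, 2, 3],
  lw [1, 2, 3, 6, 4, 3, 2, 3, 0, 1, 2, 3, 6, 2, 3],
  lw [1, 0, 3, 2, 6, 3, 2, 3, 6, 3, 2, 3, 1, 2, 3, 1, 2, 3, 5],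
  lw [1, 2, 3, 6, 4, 3, 2, 3, 4, 1, 2, 3, 6, 3, 2, 3],
  lw [1, 0, 1],
  lw [3, 1, 2, 3, 6, 4, 3, 2, 3, 1, 2, 3, 5],
  lw [3, 4, 2, 3, 6, 4, 2, 3],
  lw [1, 5, 2, 3, 6, 4, 3, 2, 3, 0, 1, 2, 3, 6, 2, 3],
  lw [3, 6, 2, 3, 2, 3, 5],
  lw [5, 3, 4, 2, 3, 2, 3, 5],
  lw [3, 1, 2, 3, 6, 4, 3, 2, 3, 0, 1, 2, 3, 5],
  lw [],
  lw [3, 4, 2, 3, 6, 3, 2, 3],
  lw [3, 2, 3, 6, 2, 3, 5],
  lw [3, 2, 3, 6, 3, 4, 2, 3],
  lw [1, 2, 3, 6, 4, 3, 2, 3, 1, 2, 3, 6, 2, 3],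
  lw [3, 6, 4, 3],
  lw [5],
  lw [1, 5, 2, 3, 6, 4, 3, 2, 3, 6, 0, 1, 2, 3, 2, 3],
  lw [5, 3, 2, 3, 4, 2, 3],
  lw [3, 2, 3, 4, 2, 3],
  lw [3, 2, 3, 6, 3, 4, 2, 3],
  lw [5, 3, 2, 3, 4, 2, 3],
  lw [1, 3, 2, 3, 6, 3, 2, 3, 6, 2, 3, 4, 1, 2, 3, 6, 1, 2, 3],
  lw [1, 2, 3, 6, 4, 3, 2, 3, 6, 0, 1, 2, 3, 2, 3],
  lw [1, 2, 3, 6, 4, 3, 2, 3, 6, 1, 2, 3, 2, 3],
  lw [1, 2, 3, 5, 4, 3, 2, 3, 0, 1, 2, 3, 6, 5, 2, 3],
  lw [3, 6, 4, 3, 5],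
  lw [1, 3, 2, 3, 6, 2, 3, 2, 3, 6, 2, 3, 1, 2, 3, 6, 1, 2, 3],
  lw [1, 2, 3, 6, 4, 3, 2, 3, 4, 1, 2, 3, 2, 3, 5],
  lw [3, 4, 2, 3, 2, 3, 5],
  lw [1, 2, 5, 3, 6, 4, 3, 2, 3, 4, 1, 2, 3, 6, 3, 2, 3],
  lw [1, 2, 3, 6, 5, 3, 2, 3, 1, 2, 3, 6, 5, 2, 3],
  lw [5, 3, 1, 2, 3, 6, 4, 3, 2, 3, 1, 2, 3, 5],
  lw [1, 2, 3, 6, 4, 3, 2, 3, 4, 1, 2, 3, 2, 3],
  lw [5, 3, 6, 2, 3, 2, 3],
  lw [1, 3, 2, 3, 6, 3, 2, 3, 6, 2, 3, 1, 2, 3, 6, 3, 1, 2, 3],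
  lw [1, 2, 3, 6, 4, 3, 2, 3, 1, 2, 3, 4, 2, 3, 5],
  lw [5, 1, 0, 1],
  lw [5],
  lw [1, 3, 2, 3, 6, 3, 2, 3, 6, 2, 3, 1, 2, 3, 6, 0, 1, 2, 3],
  lw [5, 3, 2, 3, 6, 2, 3, 5],
  lw [1, 2, 3, 6, 4, 3, 5, 2, 3, 1, 2, 3, 4, 2, 3],
  lw [1, 5, 2, 3, 6, 4, 3, 2, 3, 1, 2, 3, 4, 2, 3, 5],
  lw [1, 2, 3, 6, 4, 3, 2, 3, 1, 2, 3, 4, 2, 3],
  lw [3, 6, 2, 3, 2, 3],
  lw [3, 4, 2, 3, 2, 3],
  lw [3, 2, 3, 4, 2, 3],
  lw [1, 2, 5, 3, 6, 4, 3, 2, 3, 1, 2, 3, 6, 3, 4, 2, 3],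
  lw [3, 2, 3, 4, 2, 3, 5],
  lw [1, 2, 3, 5, 4, 3, 2, 3, 6, 1, 2, 3, 5, 6, 3],
  lw [1, 5, 2, 3, 6, 4, 3, 2, 3, 4, 1, 2, 3, 2, 3, 5],
  lw [1, 2, 3, 5, 4, 3, 2, 3, 1, 2, 3, 6, 5, 2, 3],
  lw [3, 4, 2, 3, 2, 3],
  lw [6, 3, 2, 3, 6, 5, 3, 4, 2, 3],
  lw [2, 0, 1],
  lw [2, 3, 4, 1, 2, 3, 2, 3, 5],
  lw [3, 6, 4, 3, 5, 2, 0, 1],
  lw [3, 5, 4, 3, 1, 2, 3, 5, 6, 3, 5, 1],
  lw [5, 3, 6, 4, 3, 2, 3, 6, 1, 2, 3, 2, 3],
  lw [1, 3, 2, 1, 3, 2, 1, 3, 2, 1, 3, 2],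
  lw [1, 2, 1, 3, 2, 3, 2, 1, 3, 2, 1, 3, 2, 3, 2, 3, 2, 1],
  lw [3, 2, 1, 3, 2, 1, 3, 2, 3, 2, 3, 2, 3, 2, 1, 3, 2, 3, 2, 3],
  lw [2, 3, 2, 1, 3, 2, 1, 3, 2, 3, 2, 3, 2, 3, 2, 1, 3, 2, 3, 2, 3],
  lw [0, 2, 3, 4, 3, 2, 3, 5, 1, 2, 3, 4, 1, 2, 3, 4, 1, 2, 3, 4, 1, 2, 3, 4, 1, 2, 3, 4, 1, 2, 3, 4, 1, 2, 3, 4, 5, 3, 2, 3, 4, 0, 2, 3, 4, 3, 2, 3, 5, 1, 2, 3, 4, 1, 2, 3, 4, 1, 2, 3, 4, 1, 2, 3, 4, 1, 2, 3, 4, 1, 2, 3, 4, 1, 2, 3, 4, 5, 3, 2, 3, 4],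
  lw [0, 2, 4, 3, 2, 3, 5, 1, 2, 3, 4, 1, 2, 3, 4, 1, 2, 3, 4, 1, 2, 3, 4, 1, 2, 3, 4, 1, 2, 3, 4, 1, 2, 3, 4, 5, 3, 2, 3, 4, 3, 0, 2, 4, 3, 2, 3, 5, 1, 2, 3, 4, 1, 2, 3, 4, 1, 2, 3, 4, 1, 2, 3, 4, 1, 2, 3, 4, 1, 2, 3, 4, 1, 2, 3, 4, 5, 3, 2, 3, 4, 3],
  lw [0, 2, 3, 4, 3, 2, 3, 5, 1, 2, 3, 4, 1, 2, 3, 4, 1, 2, 3, 4, 1, 2, 3, 4, 1, 2, 3, 4, 1, 2, 3, 4, 1, 2, 3, 4, 5, 3, 2, 3, 4],
  lw [3, 5, 6, 3, 4, 1, 2, 3, 1, 2, 6, 3, 2, 1, 3, 2, 1, 6, 3, 2, 1, 3, 5],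
  lw [6, 3, 5, 1, 2, 3, 1, 2, 3, 6, 4, 1, 2, 3, 2, 1, 3, 2, 3, 6, 3, 2, 1, 3, 4, 3, 2],
  lw [4, 3, 1, 2, 3, 5, 1, 2, 3, 2, 1, 5, 3, 2, 6, 3, 2, 1, 5, 3, 2, 1, 3, 6],
  lw [3, 5, 2, 3, 6, 1, 2, 3, 2, 1, 3, 5, 3, 2, 1, 3, 2, 1, 0, 3, 5, 3, 2, 4],
  lw [1, 2, 3, 5]]

/-- the `k`-th word -/
def wd (k : ℕ) : List (He.Gen × Bool) := wl.getD k []

/-- the word of a list of indices -/
def ex : List ℕ → List (He.Gen × Bool)
  | [] => []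
  | k :: w => wd k ++ ex w

theorem ex_append (u v : List ℕ) : ex (u ++ v) = ex u ++ ex v := by
  induction u with
  | nil => rfl
  | cons k u ih => show wd k ++ ex (u ++ v) = wd k ++ ex u ++ ex v; rw [ih, List.append_assoc]

/-- the element of the group given by a list of indices -/
noncomputable def gw (w : List ℕ) : G := PresentedGroup.mk RELS (FreeGroup.mk (ex w))

/-- the offsets of the four base points -/
def offs : List ℕ := [285, 45, 270, 0]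

/-- the check that two lists of indices describe the same element -/
def eqW (u v : List ℕ) : Bool := fixB 32767 col [ex u ++ FreeGroup.invRev (ex v)] offs

/-- the check that two lists of indices describe different elements -/
def neW (u v : List ℕ) : Bool := !eqW u v

theorem gw_nil : gw [] = 1 := rfl

theorem mk_append (u v : List (He.Gen × Bool)) :
    (PresentedGroup.mk RELS (FreeGroup.mk (u ++ v)) : G) =
      PresentedGroup.mk RELS (FreeGroup.mk u) * PresentedGroup.mk RELS (FreeGroup.mk v) := by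
  rw [← map_mul]; rfl

theorem gw_append (u v : List ℕ) : gw u * gw v = gw (u ++ v) := by
  unfold gw; rw [ex_append, mk_append]

theorem gw_cons (k : ℕ) (w : List ℕ) : gw (k :: w) = gw [k] * gw w := by
  rw [gw_append]; rfl

/-- an element fixing the four base points is trivial -/
theorem eq_one_of_walk (u : List (He.Gen × Bool))
    (h : fixB 32767 col [u] offs = true) : (PresentedGroup.mk RELS (FreeGroup.mk u) : G) = 1 := by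
  have h' : ∀ b ∈ ([b3, b2, b1, b0] : List (Fin 2058)),
      walk 32767 col u ((b : ℕ) * 15) = (b : ℕ) * 15 :=
    fixB_spec 32767 15 col [u] [b3, b2, b1, b0] h u List.mem_cons_self
  have hm : PresentedGroup.mk RELS (FreeGroup.mk u) ∈ pstab rho [b3, b2, b1, b0] :=
    Verified.mk_mem_pstab Cfsg.Agent.Lib.Helper28_S1683.verified [b3, b2, b1, b0] u h'
  have hb : pstab rho [b3, b2, b1, b0] = ⊥ :=
    Subgroup.eq_bot_of_card_eq _ Cfsg.Agent.S1695.pstab_card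
  rw [hb, Subgroup.mem_bot] at hm
  exact hm

/-- the walk computes the inverse of the action -/
theorem walk_rho (u : List (He.Gen × Bool)) (k : Fin 2058) :
    walk 32767 col u ((k : ℕ) * 15) =
      (((rho (PresentedGroup.mk RELS (FreeGroup.mk u)))⁻¹ k : Fin 2058) : ℕ) * 15 := by
  rw [walk_fin Cfsg.Agent.Lib.Helper28_S1683.verified.hv u k]
  rfl

/-- a trivial element fixes all points -/
theorem walk_of_eq_one (u : List (He.Gen × Bool))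
    (h : (PresentedGroup.mk RELS (FreeGroup.mk u) : G) = 1) (k : Fin 2058) :
    walk 32767 col u ((k : ℕ) * 15) = (k : ℕ) * 15 := by
  rw [walk_rho, h, map_one, inv_one]; rfl

theorem inv_mk (u : List (He.Gen × Bool)) :
    (PresentedGroup.mk RELS (FreeGroup.mk u) : G)⁻¹ =
      PresentedGroup.mk RELS (FreeGroup.mk (FreeGroup.invRev u)) := by
  rw [← map_inv, FreeGroup.inv_mk]

theorem gw_eq {u v : List ℕ} (h : eqW u v = true) : gw u = gw v := by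
  have h1 := eq_one_of_walk _ h
  rw [mk_append, ← inv_mk] at h1
  exact mul_inv_eq_one.mp h1

theorem gw_ne {u v : List ℕ} (h : neW u v = true) : gw u ≠ gw v := by
  intro he
  unfold neW at h
  rw [Bool.not_eq_true'] at h
  have h1 : (PresentedGroup.mk RELS (FreeGroup.mk (ex u ++ FreeGroup.invRev (ex v))) : G) = 1 := by
    rw [mk_append, ← inv_mk]
    exact mul_inv_eq_one.mpr he
  have h2 : eqW u v = true := by
    unfold eqW fixB offs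
    simp only [List.all_cons, List.all_nil, Bool.and_true, Bool.and_eq_true]
    have w3 := walk_of_eq_one _ h1 b3
    have w2 := walk_of_eq_one _ h1 b2
    have w1 := walk_of_eq_one _ h1 b1
    have w0 := walk_of_eq_one _ h1 b0
    refine ⟨?_, ?_, ?_, ?_⟩
    · show Nat.beq (walk 32767 col _ ((b3 : ℕ) * 15)) ((b3 : ℕ) * 15) = true
      rw [w3]; exact Nat.beq_refl _
    · show Nat.beq (walk 32767 col _ ((b2 : ℕ) * 15)) ((b2 : ℕ) * 15) = true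
      rw [w2]; exact Nat.beq_refl _
    · show Nat.beq (walk 32767 col _ ((b1 : ℕ) * 15)) ((b1 : ℕ) * 15) = true
      rw [w1]; exact Nat.beq_refl _
    · show Nat.beq (walk 32767 col _ ((b0 : ℕ) * 15)) ((b0 : ℕ) * 15) = true
      rw [w0]; exact Nat.beq_refl _
  rw [h2] at h
  exact Bool.noConfusion h

/-- repeat a list of indices -/
def rep : ℕ → List ℕ → List ℕ
  | 0, _ => []
  | n + 1, w => rep n w ++ w

theorem gw_pow (w : List ℕ) (n : ℕ) : gw w ^ n = gw (rep n w) := by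
  induction n with
  | zero => rfl
  | succ n ih => rw [pow_succ, ih, gw_append]; rfl

/-- from `g e0 = e g` to `g e0 g⁻¹ = e` -/
theorem conj_of_words {u e0 e : List ℕ} (h : eqW (u ++ e0) (e ++ u) = true) :
    gw u * gw e0 * (gw u)⁻¹ = gw e := by
  rw [gw_append, gw_eq h, ← gw_append]
  group

/-- the inverse of an element from a word multiplying it to one -/
theorem inv_of_mul {w w' : List ℕ} (h : eqW (w ++ w') [] = true) : (gw w)⁻¹ = gw w' := by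
  apply inv_eq_of_mul_eq_one_right
  rw [gw_append, gw_eq h, gw_nil]

/-- a kernel-friendly conjunction over `0, …, n - 1` -/
def allFold (f : ℕ → Bool) (n : ℕ) : Bool :=
  Nat.rec (motive := fun _ => Bool) true (fun k acc => f k && acc) n

theorem allFold_succ (f : ℕ → Bool) (n : ℕ) : allFold f (n + 1) = (f n && allFold f n) := rfl

theorem allFold_eq_true (f : ℕ → Bool) (n : ℕ) :
    allFold f n = true ↔ ∀ k < n, f k = true := by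
  induction n with
  | zero => simp [allFold]
  | succ n ih =>
    rw [allFold_succ, Bool.and_eq_true, ih]
    constructor
    · rintro ⟨h1, h2⟩ k hk
      by_cases hkn : k = n
      · subst hkn; exact h1
      · exact h2 k (by omega)
    · intro h
      exact ⟨h n (by omega), fun k hk => h k (by omega)⟩

/-- the action of `c`, `s`, `t`, `u` on `E` -/
def cm (v : ℕ) : ℕ := ([0, 43, 46, 5, 45, 6, 3, 40, 60, 23, 18, 57, 17, 58, 63, 20, 54, 29, 24, 51, 27, 48, 53, 30, 10, 33, 36, 15, 39, 12, 9, 34, 19, 56, 61, 22, 62, 21, 16, 59, 47, 4, 1, 42, 2, 41, 44, 7, 37, 14, 11, 32, 8, 35, 38, 13, 25, 50, 55, 28, 52, 31, 26, 49] : List ℕ).getD v 0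
def sm (v : ℕ) : ℕ := ([0, 27, 2, 25, 58, 33, 56, 35, 8, 19, 10, 17, 50, 41, 48, 43, 16, 11, 18, 9, 42, 49, 40, 51, 24, 3, 26, 1, 34, 57, 32, 59, 30, 5, 28, 7, 36, 63, 38, 61, 22, 13, 20, 15, 44, 55, 46, 53, 14, 21, 12, 23, 52, 47, 54, 45, 6, 29, 4, 31, 60, 39, 62, 37] : List ℕ).getD v 0
def tm (v : ℕ) : ℕ := ([0, 1, 13, 12, 16, 17, 29, 28, 19, 18, 30, 31, 3, 2, 14, 15, 4, 5, 9, 8, 20, 21, 25, 24, 23, 22, 26, 27, 7, 6, 10, 11, 52, 53, 57, 56, 36, 37, 41, 40, 39, 38, 42, 43, 55, 54, 58, 59, 48, 49, 61, 60, 32, 33, 45, 44, 35, 34, 46, 47, 51, 50, 62, 63] : List ℕ).getD v 0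
def um (v : ℕ) : ℕ := ([0, 1, 16, 17, 13, 12, 29, 28, 8, 9, 24, 25, 5, 4, 21, 20, 2, 3, 18, 19, 15, 14, 31, 30, 10, 11, 26, 27, 7, 6, 23, 22, 51, 50, 35, 34, 62, 63, 46, 47, 59, 58, 43, 42, 54, 55, 38, 39, 49, 48, 33, 32, 60, 61, 44, 45, 57, 56, 41, 40, 52, 53, 36, 37] : List ℕ).getD v 0

/-- the representative (`1` or `21`) of the class of the element `v` of `E` -/
def srcE (v : ℕ) : ℕ := ([0, 1, 1, 1, 1, 1, 1, 1, 21, 21, 21, 1, 1, 1, 21, 1, 1, 1, 21, 21, 1, 21, 1, 21, 21, 1, 1, 1, 1, 1, 21, 1, 21, 1, 1, 1, 1, 21, 1, 1, 1, 1, 1, 1, 1, 1, 1, 1, 21, 21, 1, 21, 21, 1, 1, 1, 1, 1, 1, 1, 21, 1, 1, 21] : List ℕ).getD v 0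

/-! ### The checks -/

theorem chk_E : allFold (fun v => allFold (fun w => eqW [v, w] [v ^^^ w] &&
    (v == w || neW [v] [w])) 64) 64 = true := by decide +kernel

theorem chk_one : eqW [0] [] = true := by decide +kernel

theorem chk_conjE : allFold (fun v => v == 0 || eqW [67 + v, srcE v] [v, 67 + v]) 64 = true := by
  decide +kernel

theorem chk_c : allFold (fun v => eqW [64, v] [cm v, 64] && decide (cm v < 64) &&
    (v == 0 || neW [cm v] [v])) 64 = true := by decide +kernel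

theorem chk_s : allFold (fun v => eqW [65, v] [sm v, 65] && decide (sm v < 64)) 64 = true := by
  decide +kernel

theorem chk_t : allFold (fun v => eqW [66, v] [tm v, 66] && decide (tm v < 64)) 64 = true := by
  decide +kernel

theorem chk_u : allFold (fun v => eqW [67, v] [um v, 67] && decide (um v < 64)) 64 = true := by
  decide +kernel

theorem chk_src : allFold (fun v => v == 0 || srcE v == 1 || srcE v == 21) 64 = true ∧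
    srcE 1 = 1 ∧ srcE 2 = 1 ∧ srcE 4 = 1 ∧ srcE 3 = 1 ∧ srcE 5 = 1 ∧ srcE 6 = 1 ∧ srcE 7 = 1 ∧
    srcE 16 = 1 ∧ srcE 17 = 1 ∧ srcE 20 = 1 := by decide +kernel

theorem chk_misc : eqW [64, 64, 64] [] = true ∧ eqW [131, 21] [65, 131] = true ∧
    eqW [132, 21] [66, 132] = true ∧ eqW [133, 21] [67, 133] = true ∧
    eqW [134, 21] [65, 66, 65, 66, 134] = true ∧ eqW [135, 21] [67, 65, 135] = true ∧
    eqW [136, 1] [67, 66, 136] = true ∧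
    eqW [65, 64] [64, 65] = true ∧ eqW [66, 64] [64, 66] = true ∧
    eqW [64, 67, 64] [67] = true ∧ eqW [67, 65] [65, 67] = true ∧
    eqW [67, 66] [66, 67] = true ∧ neW [1] [] = true ∧
    eqW [65, 65] [] = true ∧ eqW [66, 66] [] = true ∧ eqW [67, 67] [] = true ∧
    neW [67] [] = true ∧ eqW [65, 66, 65, 66, 65, 66, 65, 66] [] = true ∧
    neW [65, 66, 65, 66] [] = true := by decide +kernel

/-- the point `997` is fixed by `s` and `t` and moved by `u` -/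
theorem chk_fix : walk 32767 col (wd 65) 14955 = 14955 ∧ walk 32767 col (wd 66) 14955 = 14955 ∧
    walk 32767 col (wd 67) 14955 ≠ 14955 := by decide +kernel

/-- the commutator word of two indices of elements of order `p` -/
def cmw (p x y : ℕ) : List ℕ := [x, y] ++ rep (p - 1) [x] ++ rep (p - 1) [y]

/-- the relations of an extraspecial group `p^{1+2}` generated by `x, y`, with `h₁` centralising
`x` and mapping `y, z` to their `k`-th powers, and `h₂` centralising `y` and mapping `x, z` to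
their `l`-th powers -/
def heisB (p x y h1 h2 k l : ℕ) : Bool :=
  eqW (rep p [x]) [] && eqW (rep p [y]) [] && eqW (rep p (cmw p x y)) [] &&
  neW (cmw p x y) [] && eqW (cmw p x y ++ [x]) (x :: cmw p x y) &&
  eqW (cmw p x y ++ [y]) (y :: cmw p x y) &&
  eqW [h1, x] [x, h1] && eqW [h1, y] (rep k [y] ++ [h1]) &&
  eqW (h1 :: cmw p x y) (rep k (cmw p x y) ++ [h1]) &&
  eqW [h2, x] (rep l [x] ++ [h2]) && eqW [h2, y] [y, h2] &&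
  eqW (h2 :: cmw p x y) (rep l (cmw p x y) ++ [h2])

theorem chk_heis3 : heisB 3 137 138 139 140 2 2 = true := by decide +kernel

theorem chk_heis7 : heisB 7 144 145 146 147 2 4 = true := by decide +kernel

theorem chk_five : eqW (rep 5 [141]) [] = true ∧ neW [141] [] = true ∧
    eqW (rep 5 [142]) [] = true ∧ neW [142] [] = true ∧ eqW [141, 142] [142, 141] = true ∧
    eqW [143, 141] [141, 143] = true ∧ eqW [143, 142] [142, 142, 142, 142, 143] = true := by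
  decide +kernel

theorem chk_seventeen : eqW (rep 17 [148]) [] = true ∧ neW [148] [] = true := by decide +kernel

end Cfsg.Agent.Lib.Helper56_HeMult
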