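import Cfsg.Agent.Lib.Helper56_HeNormDef

set_option autoImplicit false

/-!
# The certificate for conjugating elements in the Held group (helper56, for S2075)

See `Helper56_HeNorm.cert_sound`.
-/

namespace Cfsg.Agent.Lib.Helper56_HeNormCert

open Cfsg.Spor Cfsg.Agent.Lib.Helper28_CosetPerm Cfsg.Agent.Lib.Helper28_S1683
  Cfsg.Agent.Lib.Helper28_S1683Tab Cfsg.Agent.Lib.Helper56_HeMult
  Cfsg.Agent.Lib.Helper56_HeNormData Cfsg.Agent.Lib.Helper56_HeNormDef

/-- evaluate the number first (the kernel then shares the value) -/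
def forceN (q : ℕ) (f : ℕ → Bool) : Bool :=
  Nat.rec (motive := fun _ => Bool) (f 0) (fun q' _ => f (Nat.succ q')) q

theorem forceN_eq (q : ℕ) (f : ℕ → Bool) : forceN q f = f q := by
  cases q <;> rfl

/-- the test on the labels of the orbits of `K` -/
def sepM (wk : Wk) (A B : Wd) (y : ℕ) : ℕ → ℕ → ℕ → Bool
  | 0, _, _ => false
  | n + 1, p, r => !(Nat.beq (mu (walkP wk 12 y p)) (mu r)) ||
      sepM wk A B y n (wk A p) (wk B r)

/-- the test of a single element -/
def sepL (wk : Wk) (A B T K : Wd) : ℕ → ℕ → ℕ → Bool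
  | 0, _, _ => false
  | n + 1, p, r => !(Nat.beq (wk K (wk T p)) r) ||
      sepL wk A B T K n (wk A p) (wk B r)

/-- the certificate for the point `y`, the word `T` and the `j`-th element of `K` -/
def certJ (wk : Wk) (A B : Wd) (S : List Wd) (n : ℕ) (T : Wd) (p1 r1 q1 j : ℕ) : Bool :=
  !(Nat.beq (walkK wk 9 (lle j) q1) r1) ||
    (sepL wk A B T (kw j) n p1 r1 ||
      (!(eqL wk [T, kw j, B] [A, T, kw j]) || S.any (fun s => eqL wk [T, kw j] [s])))

/-- the certificate for the point `y` -/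
def certY (wk : Wk) (A B : Wd) (S : List Wd) (n y : ℕ) : Bool :=
  forceN (wk A y) (fun p1 => forceN (wk B 270) (fun r1 =>
    sepM wk A B y n p1 r1 ||
      forceN (walkP wk 12 y p1) (fun q1 =>
        allFold (certJ wk A B S n (path 12 y) p1 r1 q1) 1440)))

/-- the certificate -/
def cert (wk : Wk) (A B : Wd) (S : List Wd) (n : ℕ) : Bool :=
  allFold (fun k => !(inY (k * 15)) || certY wk A B S n (k * 15)) 2058

end Cfsg.Agent.Lib.Helper56_HeNormCert
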