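import Cfsg.Agent.Lib.Helper56_HeNormChk
import Cfsg.Agent.Lib.Helper56_HeNormCert

set_option autoImplicit false
set_option linter.constructorNameAsVariable false

/-!
# Conjugating elements in the Held group: soundness of the certificate (helper56, for S2075)

`cert_sound`: if `cert A B S n = true` (a Boolean evaluated by the kernel on the table of the
action on 2058 points), then every element `z` of the stabiliser of the point `0` with
`z * B = A * z` (`A`, `B` words) is one of the words of the list `S`.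
-/

namespace Cfsg.Agent.Lib.Helper56_HeNorm

open Cfsg.Spor Cfsg.Agent.Lib.Helper28_CosetPerm Cfsg.Agent.Lib.Helper56_WordLB
  Cfsg.Agent.Lib.Helper28_S1683 Cfsg.Agent.Lib.Helper28_S1683Tab Cfsg.Agent.Lib.Helper56_HeLB
  Cfsg.Agent.Lib.Helper56_CentIso Cfsg.Agent.Lib.Helper56_HeMult
  Cfsg.Agent.Lib.Helper56_HeNormData Cfsg.Agent.Lib.Helper56_HeNormDef
  Cfsg.Agent.Lib.Helper56_HeNormChk Cfsg.Agent.Lib.Helper56_HeNormCert
  Cfsg.Agent.Lib.Helper56_PermAct

instance finG : Finite G := Cfsg.Agent.S1695.finG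

theorem perm_inv_apply_self (f : Equiv.Perm (Fin 2058)) (x : Fin 2058) : f⁻¹ (f x) = x := by
  rw [Equiv.Perm.inv_def, Equiv.symm_apply_apply]

theorem perm_apply_inv_self (f : Equiv.Perm (Fin 2058)) (x : Fin 2058) : f (f⁻¹ x) = x := by
  rw [Equiv.Perm.inv_def, Equiv.apply_symm_apply]

/-! ### the elements of `K` -/

theorem kgw_lt (g : ℕ) (hg : g < 8) : Inv mu (kgw g) ∧ Fx (kgw g) := by
  have c1 := chk_mu
  have c2 := chk_kfix
  rw [wk1_eq] at c1 c2
  have h1 : allFold (fun k => Nat.beq (mu (wk0 (kgw g) (k * 15))) (mu (k * 15))) 2058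
      = true := (allFold_eq_true _ _).mp c1 g hg
  have h2 : (Nat.beq (wk0 (kgw g) 0) 0 && Nat.beq (wk0 (kgw g) 270) 270)
      = true := (allFold_eq_true _ _).mp c2 g hg
  refine ⟨fun k => ?_, ?_⟩
  · have h3 : Nat.beq (mu (wk0 (kgw g) (cd k))) (mu (cd k)) = true :=
      (allFold_eq_true _ _).mp h1 k.val k.isLt
    exact Nat.eq_of_beq_eq_true h3
  · rw [Bool.and_eq_true] at h2
    exact ⟨Nat.eq_of_beq_eq_true h2.1, Nat.eq_of_beq_eq_true h2.2⟩

theorem kwd_prop (f c : ℕ) : Inv mu (kwd f c) ∧ Fx (kwd f c) := by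
  induction f generalizing c with
  | zero => exact ⟨Inv.nil _, Fx.nil⟩
  | succ f ih =>
    have h := kgw_lt (c % 8) (Nat.mod_lt _ (by norm_num))
    show Inv mu (kgw (c % 8) ++ kwd f (c / 8)) ∧ Fx (kgw (c % 8) ++ kwd f (c / 8))
    exact ⟨Inv.append h.1 (ih _).1, Fx.append h.2 (ih _).2⟩

theorem kw_mem (j : ℕ) : mkW (kw j) ∈ pstab rho [b1, b0] := by
  have hf := (kwd_prop 9 (lle j)).2
  apply Verified.mk_mem_pstab Cfsg.Agent.Lib.Helper28_S1683.verified [b1, b0] (kw j)
  intro b hb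
  simp only [List.mem_cons, List.not_mem_nil, or_false] at hb
  rcases hb with rfl | rfl
  · exact hf.2
  · exact hf.1

theorem sig_step (j : ℕ) (hj : j < 1439) : sig wk0 j < sig wk0 (j + 1) := by
  have c := chk_sig
  rw [wk1_eq] at c
  have h : Nat.blt (sig wk0 j) (sig wk0 (j + 1)) = true := (allFold_eq_true _ _).mp c j hj
  rw [Nat.blt_eq] at h
  exact h

theorem sig_lt : ∀ d i : ℕ, i + d + 1 < 1440 → sig wk0 i < sig wk0 (i + d + 1) := by
  intro d
  induction d with
  | zero => intro i h; exact sig_step i (by omega)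
  | succ d ih =>
    intro i h
    exact lt_trans (ih i (by omega)) (sig_step (i + d + 1) (by omega))

theorem sig_eq_of_eq {i j : ℕ} (h : mkW (kw i) = mkW (kw j)) : sig wk0 i = sig wk0 j := by
  have e2 : wk0 (kw i) (cd b2) = wk0 (kw j) (cd b2) := by
    rw [wk0_cd, wk0_cd, h]
  have e3 : wk0 (kw i) (cd b3) = wk0 (kw j) (cd b3) := by
    rw [wk0_cd, wk0_cd, h]
  unfold sig
  rw [walkK_eq, walkK_eq, walkK_eq, walkK_eq]
  show wk0 (kw i) (cd b2) * 65536 + wk0 (kw i) (cd b3) =
    wk0 (kw j) (cd b2) * 65536 + wk0 (kw j) (cd b3)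
  rw [e2, e3]

theorem kw_inj {i j : ℕ} (hi : i < 1440) (hj : j < 1440) (h : mkW (kw i) = mkW (kw j)) :
    i = j := by
  have hs := sig_eq_of_eq h
  rcases lt_trichotomy i j with hl | he | hg
  · exfalso
    have h1 := sig_lt (j - i - 1) i (by omega)
    rw [show i + (j - i - 1) + 1 = j by omega] at h1
    omega
  · exact he
  · exfalso
    have h1 := sig_lt (i - j - 1) j (by omega)
    rw [show j + (i - j - 1) + 1 = i by omega] at h1
    omega

theorem card_K : Nat.card (pstab rho [b1, b0]) = 1440 := by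
  have h0 := L0.step
  have h1 := L1.step
  have h2 := L2.step
  have h3 := L3.step
  rw [pstab_nil, Subgroup.card_top] at h0
  have hc : Nat.card G = 4030387200 := Cfsg.Agent.S1695.card_eq
  have hp : Nat.card (pstab rho [b3, b2, b1, b0]) = 1 := Cfsg.Agent.S1695.pstab_card
  rw [hp] at h3
  rw [hc] at h0
  omega

theorem K_list (l : G) (hl : l ∈ pstab rho [b1, b0]) : ∃ j, j < 1440 ∧ l = mkW (kw j) := by
  let f : Fin 1440 → pstab rho [b1, b0] := fun j => ⟨mkW (kw j.val), kw_mem j.val⟩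
  have hinj : Function.Injective f := by
    intro i j hij
    have h : mkW (kw i.val) = mkW (kw j.val) := congrArg Subtype.val hij
    exact Fin.ext (kw_inj i.isLt j.isLt h)
  have hbij := hinj.bijective_of_nat_card_le (by rw [card_K, Nat.card_fin])
  obtain ⟨j, hj⟩ := hbij.2 ⟨l, hl⟩
  exact ⟨j.val, j.isLt, (congrArg Subtype.val hj).symm⟩

theorem mu_inv_of_mem (l : G) (hl : l ∈ pstab rho [b1, b0]) (k : Fin 2058) :
    mu (cd ((rho l)⁻¹ k)) = mu (cd k) := by
  obtain ⟨j, _, rfl⟩ := K_list l hl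
  rw [← wk0_cd]
  exact (kwd_prop 9 (lle j)).1 k

/-! ### the stabiliser of the point `0` -/

theorem H_eq_pstab : Cfsg.Agent.S1695.H = pstab rho [b0] := by
  have hle : Cfsg.Agent.S1695.H ≤ pstab rho [b0] := by
    intro h hh
    rw [mem_pstab]
    intro x hx
    rw [List.mem_singleton] at hx
    rw [hx]
    exact Cfsg.Agent.S1695.H_fix h hh
  have hidx : Cfsg.Agent.S1695.H.index = 2058 := Cfsg.Agent.S1683.result.1
  have hc : Nat.card G = 4030387200 := Cfsg.Agent.S1695.card_eq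
  have hc1 := Subgroup.card_mul_index Cfsg.Agent.S1695.H
  rw [hidx] at hc1
  have hc2 := card_pstab_single rho b0 Cfsg.Agent.S1695.trans0
  apply Subgroup.eq_of_le_of_card_ge hle
  have hc1' : Nat.card Cfsg.Agent.S1695.H * 2058 = 4030387200 := by rw [← hc]; exact hc1
  have hc2' : 2058 * Nat.card (pstab rho [b0]) = 4030387200 := by rw [← hc]; exact hc2
  have e0 : (4030387200 : ℕ) = 2058 * 1958400 := by norm_num
  have e1 : Nat.card Cfsg.Agent.S1695.H = 1958400 := by
    rw [Nat.mul_comm] at hc1'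
    exact Nat.eq_of_mul_eq_mul_left (by norm_num : 0 < 2058) (hc1'.trans e0)
  have e2 : Nat.card (pstab rho [b0]) = 1958400 :=
    Nat.eq_of_mul_eq_mul_left (by norm_num : 0 < 2058) (hc2'.trans e0)
  exact le_of_eq (e2.trans e1.symm)

theorem hgw_lt (g : ℕ) (hg : g < 8) : Inv inY (hgw g) := by
  have c := chk_nu
  rw [wk1_eq] at c
  have h1 : allFold (fun k => inY (wk0 (hgw g) (k * 15)) == inY (k * 15)) 2058
      = true := (allFold_eq_true _ _).mp c g hg
  intro k
  have h3 : (inY (wk0 (hgw g) (cd k)) == inY (cd k)) = true :=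
    (allFold_eq_true _ _).mp h1 k.val k.isLt
  exact eq_of_beq h3

theorem gen_cases (s : FreeGroup He.Gen) (hs : s ∈ Cfsg.Agent.S1695.SH) :
    ∃ g, g < 8 ∧ s = FreeGroup.mk (hgw g) := by
  simp only [Set.mem_insert_iff, Set.mem_singleton_iff] at hs
  rcases hs with rfl | rfl | rfl | rfl | rfl | rfl | rfl
  · exact ⟨1, by norm_num, by decide⟩
  · exact ⟨2, by norm_num, by decide⟩
  · exact ⟨3, by norm_num, by decide⟩
  · exact ⟨4, by norm_num, by decide⟩
  · exact ⟨5, by norm_num, by decide⟩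
  · exact ⟨6, by norm_num, by decide⟩
  · exact ⟨7, by norm_num, by decide⟩

theorem inY_inv_of_mem_H (z : G) (hz : z ∈ Cfsg.Agent.S1695.H) :
    ∀ k : Fin 2058, inY (cd ((rho z)⁻¹ k)) = inY (cd k) := by
  obtain ⟨w, hw, rfl⟩ := Subgroup.mem_map.mp hz
  clear hz
  induction hw using Subgroup.closure_induction with
  | mem s hs =>
    obtain ⟨g, hg, rfl⟩ := gen_cases s hs
    intro k
    show inY (cd ((rho (mkW (hgw g)))⁻¹ k)) = inY (cd k)
    rw [← wk0_cd]
    exact hgw_lt g hg k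
  | one =>
    intro k
    rw [map_one, map_one, inv_one]
    rfl
  | mul x y _ _ hx hy =>
    intro k
    rw [map_mul, map_mul, mul_inv_rev, Equiv.Perm.mul_apply, hy, hx]
  | inv x _ hx =>
    intro k
    have h := hx (rho (PresentedGroup.mk RELS x) k)
    rw [perm_inv_apply_self] at h
    rw [map_inv, map_inv, inv_inv]
    exact h.symm

theorem inY_of_fix (z : G) (hz : rho z b0 = b0) : inY (cd (rho z b1)) = true := by
  have hm : z ∈ Cfsg.Agent.S1695.H := by
    rw [H_eq_pstab, mem_pstab]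
    intro x hx
    rw [List.mem_singleton] at hx
    rw [hx]
    exact hz
  have h := inY_inv_of_mem_H z hm (rho z b1)
  rw [perm_inv_apply_self] at h
  rw [← h]
  rfl

theorem path_spec (k : Fin 2058) (h : inY (cd k) = true) :
    wk0 (path 12 (cd k)) (cd k) = 270 ∧ wk0 (path 12 (cd k)) 0 = 0 := by
  have c := chk_path
  rw [wk1_eq] at c
  have h1 : (!(inY (cd k)) || (Nat.beq (walkP wk0 12 (cd k) (cd k)) 270 &&
      Nat.beq (walkP wk0 12 (cd k) 0) 0)) = true :=
    (allFold_eq_true _ _).mp c k.val k.isLt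
  rw [h, walkP_eq, walkP_eq] at h1
  simp only [Bool.not_true, Bool.false_or, Bool.and_eq_true] at h1
  exact ⟨Nat.eq_of_beq_eq_true h1.1, Nat.eq_of_beq_eq_true h1.2⟩

/-! ### soundness -/

theorem step_inv {A B : Wd} {z : G} (hrel : z * mkW B = mkW A * z) {p r : Fin 2058}
    (h : (rho z)⁻¹ p = r) : (rho z)⁻¹ ((rho (mkW A))⁻¹ p) = (rho (mkW B))⁻¹ r := by
  rw [← h]
  have e : (rho z)⁻¹ * (rho (mkW A))⁻¹ = (rho (mkW B))⁻¹ * (rho z)⁻¹ := by
    rw [← mul_inv_rev, ← mul_inv_rev, ← map_mul, ← map_mul, hrel]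
  exact congrArg (fun f : Equiv.Perm (Fin 2058) => f p) e

theorem sepL_false {A B T K : Wd} (hrel : mkW (T ++ K) * mkW B = mkW A * mkW (T ++ K)) :
    ∀ (n : ℕ) (p r : Fin 2058), (rho (mkW (T ++ K)))⁻¹ p = r →
      sepL wk0 A B T K n (cd p) (cd r) = false := by
  intro n
  induction n with
  | zero => intro p r _; rfl
  | succ n ih =>
    intro p r h
    show (!(Nat.beq (wk0 K (wk0 T (cd p))) (cd r)) ||
      sepL wk0 A B T K n (wk0 A (cd p)) (wk0 B (cd r))) = false
    rw [← wk0_append, wk0_cd (T ++ K) p, h, Nat.beq_refl, wk0_cd A p, wk0_cd B r,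
      ih _ _ (step_inv hrel h)]
    rfl

theorem sepM_false {A B : Wd} {yc : ℕ} {z l : G} (hz : z = mkW (path 12 yc) * l)
    (hl : ∀ k : Fin 2058, mu (cd ((rho l)⁻¹ k)) = mu (cd k))
    (hrel : z * mkW B = mkW A * z) :
    ∀ (n : ℕ) (p r : Fin 2058), (rho z)⁻¹ p = r → sepM wk0 A B yc n (cd p) (cd r) = false := by
  intro n
  induction n with
  | zero => intro p r _; rfl
  | succ n ih =>
    intro p r h
    show (!(Nat.beq (mu (walkP wk0 12 yc (cd p))) (mu (cd r))) ||
      sepM wk0 A B yc n (wk0 A (cd p)) (wk0 B (cd r))) = false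
    have e : mu (cd r) = mu (walkP wk0 12 yc (cd p)) := by
      rw [walkP_eq, wk0_cd _ p, ← h, hz, map_mul, mul_inv_rev, Equiv.Perm.mul_apply, hl]
    rw [e, Nat.beq_refl, wk0_cd A p, wk0_cd B r, ih _ _ (step_inv hrel h)]
    rfl

/-- Soundness of the certificate. -/
theorem cert_sound {A B : Wd} {S : List Wd} {n : ℕ} (hc1 : cert wk1 A B S n = true) (z : G)
    (hz0 : rho z b0 = b0) (hrel : z * mkW B = mkW A * z) : ∃ s ∈ S, z = mkW s := by
  have hc : cert wk0 A B S n = true := by rw [← wk1_eq]; exact hc1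
  set y : Fin 2058 := rho z b1 with hy
  have hyY : inY (cd y) = true := inY_of_fix z hz0
  have hcy : (!(inY (cd y)) || certY wk0 A B S n (cd y)) = true :=
    (allFold_eq_true _ _).mp hc y.val y.isLt
  rw [hyY] at hcy
  simp only [Bool.not_true, Bool.false_or, certY, forceN_eq] at hcy
  obtain ⟨hT1, hT0⟩ := path_spec y hyY
  set T : Wd := path 12 (cd y) with hT
  -- the element of `K`
  have hTy : (rho (mkW T))⁻¹ y = b1 := by
    apply cd_inj
    rw [← wk0_cd, hT1]
    rfl
  have hTb : (rho (mkW T))⁻¹ b0 = b0 := by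
    apply cd_inj
    rw [← wk0_cd]
    exact hT0
  have hl : (mkW T)⁻¹ * z ∈ pstab rho [b1, b0] := by
    rw [mem_pstab]
    intro x hx
    simp only [List.mem_cons, List.not_mem_nil, or_false] at hx
    rcases hx with rfl | rfl
    · rw [map_mul, map_inv, Equiv.Perm.mul_apply, ← hy, hTy]
    · rw [map_mul, map_inv, Equiv.Perm.mul_apply, hz0, hTb]
  obtain ⟨j, hj, hlj⟩ := K_list _ hl
  have hzj : z = mkW (T ++ kw j) := by
    rw [mkW_append, ← hlj]
    group
  have hinit : (rho z)⁻¹ y = b1 := by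
    rw [hy, perm_inv_apply_self]
  have hinit' := step_inv hrel hinit
  have hp1 : wk0 A (cd y) = cd ((rho (mkW A))⁻¹ y) := wk0_cd A y
  have hr1 : wk0 B 270 = cd ((rho (mkW B))⁻¹ b1) := wk0_cd B b1
  rw [hp1, hr1] at hcy
  -- the two tests
  have hM : sepM wk0 A B (cd y) n (cd ((rho (mkW A))⁻¹ y)) (cd ((rho (mkW B))⁻¹ b1)) = false :=
    sepM_false (l := (mkW T)⁻¹ * z) (by show z = mkW T * ((mkW T)⁻¹ * z); group)
      (mu_inv_of_mem _ hl) hrel n _ _ hinit'
  rw [hM, Bool.false_or] at hcy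
  have hJ := (allFold_eq_true _ _).mp hcy j hj
  have hrel' : mkW (T ++ kw j) * mkW B = mkW A * mkW (T ++ kw j) := by
    rw [← hzj]; exact hrel
  have hF : Nat.beq (walkK wk0 9 (lle j) (walkP wk0 12 (cd y) (cd ((rho (mkW A))⁻¹ y))))
      (cd ((rho (mkW B))⁻¹ b1)) = true := by
    rw [walkK_eq, walkP_eq]
    show Nat.beq (wk0 (kw j) (wk0 T (cd ((rho (mkW A))⁻¹ y)))) _ = true
    rw [← wk0_append, wk0_cd, ← hzj, hinit']
    exact Nat.beq_refl _
  have hL : sepL wk0 A B T (kw j) n (cd ((rho (mkW A))⁻¹ y)) (cd ((rho (mkW B))⁻¹ b1)) = false := by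
    apply sepL_false hrel'
    rw [← hzj]
    exact hinit'
  have hE : eqL wk0 [T, kw j, B] [A, T, kw j] = true := by
    apply eqL_of_eq
    simp only [List.flatten_cons, List.flatten_nil, List.append_nil]
    rw [← List.append_assoc, mkW_append, mkW_append A]
    exact hrel'
  unfold certJ at hJ
  rw [hF, hL, hE] at hJ
  simp only [Bool.not_true, Bool.false_or] at hJ
  rw [List.any_eq_true] at hJ
  obtain ⟨s, hs, hse⟩ := hJ
  refine ⟨s, hs, ?_⟩
  have h2 := eq_of_eqL hse
  simp only [List.flatten_cons, List.flatten_nil, List.append_nil] at h2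
  rw [hzj]
  exact h2

end Cfsg.Agent.Lib.Helper56_HeNorm
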