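import Cfsg.Agent.Lib.Helper56_HeNormDef

set_option autoImplicit false

/-!
# The checks of the tables of `Helper56_HeNormData` (helper56, for S2075)
-/

namespace Cfsg.Agent.Lib.Helper56_HeNormChk

open Cfsg.Spor Cfsg.Agent.Lib.Helper28_CosetPerm Cfsg.Agent.Lib.Helper28_S1683
  Cfsg.Agent.Lib.Helper28_S1683Tab
  Cfsg.Agent.Lib.Helper56_HeMult Cfsg.Agent.Lib.Helper56_HeNormData
  Cfsg.Agent.Lib.Helper56_HeNormDef

theorem chk_mu : allFold (fun g => allFold (fun k =>
    Nat.beq (mu (wk1 (kgw g) (k * 15))) (mu (k * 15))) 2058) 8 = true := by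
  decide +kernel

theorem chk_kfix : allFold (fun g => Nat.beq (wk1 (kgw g) 0) 0 &&
    Nat.beq (wk1 (kgw g) 270) 270) 8 = true := by
  decide +kernel

theorem chk_sig : allFold (fun j => Nat.blt (sig wk1 j) (sig wk1 (j + 1))) 1439 = true := by
  decide +kernel

theorem chk_nu : allFold (fun g => allFold (fun k =>
    inY (wk1 (hgw g) (k * 15)) == inY (k * 15)) 2058) 8 = true := by
  decide +kernel

theorem chk_path : allFold (fun k => !(inY (k * 15)) ||
    (Nat.beq (walkP wk1 12 (k * 15) (k * 15)) 270 &&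
      Nat.beq (walkP wk1 12 (k * 15) 0) 0)) 2058 = true := by
  decide +kernel

end Cfsg.Agent.Lib.Helper56_HeNormChk
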