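import Cfsg.Agent.Lib.Helper56_HeNormData

set_option autoImplicit false
set_option linter.constructorNameAsVariable false

/-!
# Conjugating elements in the Held group (helper56, for S2075)

`cert_sound`: a Boolean certificate `cert A B S n` (evaluated by the kernel on the table of the
action on 2058 points) proves that every element `z` of the stabiliser of the point `0` with
`z * B = A * z` (`A`, `B` words) is one of the words of the list `S`.

The method: `y = z 18` lies in the orbit of `18` under the stabiliser `H` of `0` (generators of `H`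
are known from `S1683`/`S1695`); a word `T` in these generators leads `y` back to `18`, so
`T⁻¹ z` lies in the stabiliser `K` of `0` and `18`, whose 1440 elements are listed; `z` maps the
sequence `y A^i` to the sequence `18 B^i`, which is tested first on the labels of the orbits of
`K` and then for each of the 1440 elements.
-/

namespace Cfsg.Agent.Lib.Helper56_HeNormDef

open Cfsg.Spor Cfsg.Agent.Lib.Helper28_CosetPerm Cfsg.Agent.Lib.Helper56_WordLB
  Cfsg.Agent.Lib.Helper28_S1683 Cfsg.Agent.Lib.Helper28_S1683Tab Cfsg.Agent.Lib.Helper56_HeLB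
  Cfsg.Agent.Lib.Helper56_CentIso Cfsg.Agent.Lib.Helper56_HeMult
  Cfsg.Agent.Lib.Helper56_HeNormData

/-- words -/
abbrev Wd : Type := List (He.Gen × Bool)

/-- the element of a word -/
noncomputable def mkW (u : Wd) : G := PresentedGroup.mk RELS (FreeGroup.mk u)

theorem mkW_nil : mkW [] = 1 := rfl

theorem mkW_append (u v : Wd) : mkW (u ++ v) = mkW u * mkW v := Helper56_HeMult.mk_append u v

theorem mkW_inv (u : Wd) : (mkW u)⁻¹ = mkW (FreeGroup.invRev u) := inv_mk u

/-- the code of a point -/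
def cd (k : Fin 2058) : ℕ := (k : ℕ) * 15

theorem cd_inj {k l : Fin 2058} (h : cd k = cd l) : k = l := by
  unfold cd at h
  exact Fin.ext (by omega)

theorem walk_cd (u : Wd) (k : Fin 2058) :
    walk 32767 col u (cd k) = cd ((rho (mkW u))⁻¹ k) := walk_rho u k

/-- the check that two words describe the same element -/
def eqR (u v : Wd) : Bool := fixB 32767 col [u ++ FreeGroup.invRev v] offs

theorem mkW_eq_of_eqR {u v : Wd} (h : eqR u v = true) : mkW u = mkW v := by
  have h1 := eq_one_of_walk _ h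
  rw [Helper56_HeMult.mk_append, ← inv_mk] at h1
  exact mul_inv_eq_one.mp h1

theorem eqR_of_mkW_eq {u v : Wd} (he : mkW u = mkW v) : eqR u v = true := by
  have h1 : (PresentedGroup.mk RELS (FreeGroup.mk (u ++ FreeGroup.invRev v)) : G) = 1 := by
    rw [Helper56_HeMult.mk_append, ← inv_mk]
    exact mul_inv_eq_one.mpr he
  unfold eqR fixB offs
  simp only [List.all_cons, List.all_nil, Bool.and_true, Bool.and_eq_true]
  have w3 := walk_of_eq_one _ h1 b3
  have w2 := walk_of_eq_one _ h1 b2
  have w1 := walk_of_eq_one _ h1 b1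
  have w0 := walk_of_eq_one _ h1 b0
  refine ⟨?_, ?_, ?_, ?_⟩
  · show Nat.beq (walk 32767 col _ ((b3 : ℕ) * 15)) ((b3 : ℕ) * 15) = true
    rw [w3]; exact Nat.beq_refl _
  · show Nat.beq (walk 32767 col _ ((b2 : ℕ) * 15)) ((b2 : ℕ) * 15) = true
    rw [w2]; exact Nat.beq_refl _
  · show Nat.beq (walk 32767 col _ ((b1 : ℕ) * 15)) ((b1 : ℕ) * 15) = true
    rw [w1]; exact Nat.beq_refl _
  · show Nat.beq (walk 32767 col _ ((b0 : ℕ) * 15)) ((b0 : ℕ) * 15) = true
    rw [w0]; exact Nat.beq_refl _

theorem mkW_ne_of_eqR {u v : Wd} (h : eqR u v = false) : mkW u ≠ mkW v := by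
  intro he
  rw [eqR_of_mkW_eq he] at h
  exact Bool.noConfusion h

/-! ### walkers -/

/-- a walk which the kernel evaluates faster -/
def walkR (cl : He.Gen → Bool → ℕ) (l : Wd) : ℕ → ℕ :=
  List.rec (motive := fun _ => ℕ → ℕ) (fun x => x)
    (fun p _ ih x => ih (nxt 32767 (cl p.1 p.2) x)) l

theorem walkR_eq (l : Wd) (x : ℕ) : walkR col l x = walk 32767 col l x := by
  induction l generalizing x with
  | nil => rfl
  | cons p l ih =>
    obtain ⟨a, b⟩ := p
    exact ih _

/-- walkers -/
abbrev Wk : Type := Wd → ℕ → ℕ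

/-- the walker of the theory -/
def wk0 : Wk := walk 32767 col

/-- the walker of the checks -/
def wk1 : Wk := walkR col

theorem wk1_eq : wk1 = wk0 := by
  funext l x
  exact walkR_eq l x

theorem wk0_append (u v : Wd) (x : ℕ) : wk0 (u ++ v) x = wk0 v (wk0 u x) :=
  walk_append 32767 col u v x

theorem wk0_cd (u : Wd) (k : Fin 2058) : wk0 u (cd k) = cd ((rho (mkW u))⁻¹ k) := walk_rho u k

/-- walk along a list of words -/
def walkL (wk : Wk) (ws : List Wd) (x : ℕ) : ℕ := ws.foldl (fun x w => wk w x) x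

theorem walkL_eq (ws : List Wd) (x : ℕ) : walkL wk0 ws x = wk0 ws.flatten x := by
  induction ws generalizing x with
  | nil => rfl
  | cons w ws ih =>
    show walkL wk0 ws (wk0 w x) = wk0 (w ++ ws.flatten) x
    rw [ih, wk0_append]

/-- the check that two lists of words describe the same element -/
def eqL (wk : Wk) (u v : List Wd) : Bool :=
  Nat.beq (walkL wk u 285) (walkL wk v 285) && (Nat.beq (walkL wk u 45) (walkL wk v 45) &&
    (Nat.beq (walkL wk u 270) (walkL wk v 270) && Nat.beq (walkL wk u 0) (walkL wk v 0)))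

theorem eqL_of_eq {u v : List Wd} (h : mkW u.flatten = mkW v.flatten) : eqL wk0 u v = true := by
  have e : ∀ k : Fin 2058, walkL wk0 u (cd k) = walkL wk0 v (cd k) := by
    intro k
    rw [walkL_eq, walkL_eq, wk0_cd, wk0_cd, h]
  unfold eqL
  rw [show (285 : ℕ) = cd b3 from rfl, show (45 : ℕ) = cd b2 from rfl,
    show (270 : ℕ) = cd b1 from rfl, show (0 : ℕ) = cd b0 from rfl, e, e, e, e]
  simp [Nat.beq_refl]

theorem eq_of_eqL {u v : List Wd} (h : eqL wk0 u v = true) : mkW u.flatten = mkW v.flatten := by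
  unfold eqL at h
  simp only [Bool.and_eq_true] at h
  obtain ⟨h3, h2, h1, h0⟩ := h
  have key : ∀ k : Fin 2058, walkL wk0 u (cd k) = walkL wk0 v (cd k) →
      walk 32767 col (u.flatten ++ FreeGroup.invRev v.flatten) ((k : ℕ) * 15) = (k : ℕ) * 15 := by
    intro k hk
    rw [walkL_eq, walkL_eq] at hk
    show wk0 (u.flatten ++ FreeGroup.invRev v.flatten) (cd k) = cd k
    rw [wk0_append, hk, ← wk0_append, wk0_cd, mkW_append, ← mkW_inv, mul_inv_cancel, map_one,
      inv_one]
    rfl
  apply mkW_eq_of_eqR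
  unfold eqR fixB offs
  simp only [List.all_cons, List.all_nil, Bool.and_true, Bool.and_eq_true]
  refine ⟨?_, ?_, ?_, ?_⟩
  · have e := key b3 (Nat.eq_of_beq_eq_true h3)
    show Nat.beq (walk 32767 col _ ((b3 : ℕ) * 15)) ((b3 : ℕ) * 15) = true
    rw [e]; exact Nat.beq_refl _
  · have e := key b2 (Nat.eq_of_beq_eq_true h2)
    show Nat.beq (walk 32767 col _ ((b2 : ℕ) * 15)) ((b2 : ℕ) * 15) = true
    rw [e]; exact Nat.beq_refl _
  · have e := key b1 (Nat.eq_of_beq_eq_true h1)
    show Nat.beq (walk 32767 col _ ((b1 : ℕ) * 15)) ((b1 : ℕ) * 15) = true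
    rw [e]; exact Nat.beq_refl _
  · have e := key b0 (Nat.eq_of_beq_eq_true h0)
    show Nat.beq (walk 32767 col _ ((b0 : ℕ) * 15)) ((b0 : ℕ) * 15) = true
    rw [e]; exact Nat.beq_refl _

/-! ### the tables -/

/-- the step table -/
def stp (x : ℕ) : ℕ := nxt 32767 STEP x

/-- the orbit labels -/
def mu (x : ℕ) : ℕ := nxt 32767 MU x

/-- the generators of `H` -/
def hgw (i : ℕ) : Wd := hgl.getD i []

/-- the generators of `K` -/
def kgw (i : ℕ) : Wd := kgl.getD i []

/-- the code of the `j`-th element of `K` -/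
def lle (j : ℕ) : ℕ := Nat.land (Nat.shiftRight LL (Nat.mul j 32)) 4294967295

/-- the word of a code -/
def kwd : ℕ → ℕ → Wd
  | 0, _ => []
  | f + 1, c => kgw (c % 8) ++ kwd f (c / 8)

/-- the word of the `j`-th element of `K` -/
def kw (j : ℕ) : Wd := kwd 9 (lle j)

/-- walk along the word of a code without building it -/
def walkK (wk : Wk) (f : ℕ) : ℕ → ℕ → ℕ :=
  Nat.rec (motive := fun _ => ℕ → ℕ → ℕ) (fun _ x => x)
    (fun _ ih c x => ih (c / 8) (wk (kgw (c % 8)) x)) f

theorem walkK_eq (f c x : ℕ) : walkK wk0 f c x = wk0 (kwd f c) x := by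
  induction f generalizing c x with
  | zero => rfl
  | succ f ih =>
    show walkK wk0 f (c / 8) (wk0 (kgw (c % 8)) x) = wk0 (kgw (c % 8) ++ kwd f (c / 8)) x
    rw [ih, wk0_append]

/-- the orbit of the point `18` under `H` -/
def inY (x : ℕ) : Bool := Nat.beq x 270 || !(Nat.beq (stp x) 0)

/-- the word leading back to the point `18` -/
def path : ℕ → ℕ → Wd
  | 0, _ => []
  | f + 1, x => cond (Nat.beq x 270) [] (hgw (stp x) ++ path f (wk0 (hgw (stp x)) x))

/-- walk along the path without building it -/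
def walkP (wk : Wk) (f : ℕ) : ℕ → ℕ → ℕ :=
  Nat.rec (motive := fun _ => ℕ → ℕ → ℕ) (fun _ p => p)
    (fun _ ih x p => cond (Nat.beq x 270) p
      (ih (wk (hgw (stp x)) x) (wk (hgw (stp x)) p))) f

theorem walkP_eq (f x p : ℕ) : walkP wk0 f x p = wk0 (path f x) p := by
  induction f generalizing x p with
  | zero => rfl
  | succ f ih =>
    show cond (Nat.beq x 270) p (walkP wk0 f (wk0 (hgw (stp x)) x) (wk0 (hgw (stp x)) p)) =
      wk0 (cond (Nat.beq x 270) [] (hgw (stp x) ++ path f (wk0 (hgw (stp x)) x))) p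
    cases Nat.beq x 270 with
    | true => rfl
    | false =>
      show walkP wk0 f (wk0 (hgw (stp x)) x) (wk0 (hgw (stp x)) p) =
        wk0 (hgw (stp x) ++ path f (wk0 (hgw (stp x)) x)) p
      rw [ih, wk0_append]

/-! ### invariance of labels -/

/-- a function on the codes of the points is invariant under a word -/
def Inv {α : Type} (φ : ℕ → α) (u : Wd) : Prop :=
  ∀ k : Fin 2058, φ (wk0 u (cd k)) = φ (cd k)

theorem Inv.nil {α : Type} (φ : ℕ → α) : Inv φ [] := fun _ => rfl

theorem Inv.append {α : Type} {φ : ℕ → α} {u v : Wd} (hu : Inv φ u) (hv : Inv φ v) :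
    Inv φ (u ++ v) := by
  intro k
  rw [wk0_append, wk0_cd u k, hv, ← wk0_cd, hu]

/-- a word fixes the points `0` and `18` -/
def Fx (u : Wd) : Prop := wk0 u 0 = 0 ∧ wk0 u 270 = 270

theorem Fx.nil : Fx [] := ⟨rfl, rfl⟩

theorem Fx.append {u v : Wd} (hu : Fx u) (hv : Fx v) : Fx (u ++ v) := by
  constructor
  · rw [wk0_append, hu.1, hv.1]
  · rw [wk0_append, hu.2, hv.2]

/-- the signature of the `j`-th element of `K` -/
def sig (wk : Wk) (j : ℕ) : ℕ := walkK wk 9 (lle j) 45 * 65536 + walkK wk 9 (lle j) 285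

end Cfsg.Agent.Lib.Helper56_HeNormDef
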