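import Cfsg.Agent.Lib.Helper56_HeTopU
import Cfsg.Agent.Lib.Helper56_Hec1U
import Cfsg.Agent.Lib.Helper56_Hec2U
import Cfsg.Agent.Lib.Helper56_Hec3U

set_option autoImplicit false

namespace Cfsg.Agent.Lib.Helper56_HeOrder

open Cfsg.Spor Cfsg.Agent.Lib.Helper28_OrderChain Cfsg.Agent.Lib.Helper56_HeChain

theorem card3 : Finite (PresentedGroup (coxRelators edges3 ∪ {r | r ∈ extra3})) ∧ Nat.card (PresentedGroup (coxRelators edges3 ∪ {r | r ∈ extra3})) ≤ 8 :=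
  card_le_empty _ 8 Cfsg.Agent.Lib.Helper56_Hec3.U.upper

theorem hS2 : ∀ s ∈ ({Cfsg.Spor.He.a, Cfsg.Spor.He.b} : Set (FreeGroup Cfsg.Spor.He.Gen)), ∃ x, x ∉ dropped3 ∧ s = FreeGroup.of x := by
  intro s hs
  simp only [Set.mem_insert_iff, Set.mem_singleton_iff] at hs
  rcases hs with rfl | rfl
  · exact ⟨.a, by decide, rfl⟩
  · exact ⟨.b, by decide, rfl⟩

theorem card2 : Finite (PresentedGroup (coxRelators edges2 ∪ {r | r ∈ extra2})) ∧ Nat.card (PresentedGroup (coxRelators edges2 ∪ {r | r ∈ extra2})) ≤ 6 * 8 :=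
  card_le_sub edges2 edges3 extra2 kept3 dropped3 h1_3 h2_3 h3_3 ({Cfsg.Spor.He.a, Cfsg.Spor.He.b} : Set (FreeGroup Cfsg.Spor.He.Gen)) hS2 6 8 Cfsg.Agent.Lib.Helper56_Hec2.U.upper (by have := card3; norm_num at this ⊢; exact this)

theorem hS1 : ∀ s ∈ ({Cfsg.Spor.He.a, Cfsg.Spor.He.b, Cfsg.Spor.He.c} : Set (FreeGroup Cfsg.Spor.He.Gen)), ∃ x, x ∉ dropped2 ∧ s = FreeGroup.of x := by
  intro s hs
  simp only [Set.mem_insert_iff, Set.mem_singleton_iff] at hs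
  rcases hs with rfl | rfl | rfl
  · exact ⟨.a, by decide, rfl⟩
  · exact ⟨.b, by decide, rfl⟩
  · exact ⟨.c, by decide, rfl⟩

theorem card1 : Finite (PresentedGroup (coxRelators edges1 ∪ {r | r ∈ extra1})) ∧ Nat.card (PresentedGroup (coxRelators edges1 ∪ {r | r ∈ extra1})) ≤ 315 * 48 :=
  card_le_sub edges1 edges2 extra1 kept2 dropped2 h1_2 h2_2 h3_2 ({Cfsg.Spor.He.a, Cfsg.Spor.He.b, Cfsg.Spor.He.c} : Set (FreeGroup Cfsg.Spor.He.Gen)) hS1 315 48 Cfsg.Agent.Lib.Helper56_Hec1.U.upper (by have := card2; norm_num at this ⊢; exact this)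

theorem hS0 : ∀ s ∈ ({Cfsg.Spor.He.a, Cfsg.Spor.He.b, Cfsg.Spor.He.c, Cfsg.Spor.He.d, Cfsg.Spor.He.e} : Set (FreeGroup Cfsg.Spor.He.Gen)), ∃ x, x ∉ dropped1 ∧ s = FreeGroup.of x := by
  intro s hs
  simp only [Set.mem_insert_iff, Set.mem_singleton_iff] at hs
  rcases hs with rfl | rfl | rfl | rfl | rfl
  · exact ⟨.a, by decide, rfl⟩
  · exact ⟨.b, by decide, rfl⟩
  · exact ⟨.c, by decide, rfl⟩
  · exact ⟨.d, by decide, rfl⟩
  · exact ⟨.e, by decide, rfl⟩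

theorem card0 : Finite (PresentedGroup (coxRelators Cfsg.Spor.He.edges ∪ {r | r ∈ Cfsg.Spor.He.extra})) ∧ Nat.card (PresentedGroup (coxRelators Cfsg.Spor.He.edges ∪ {r | r ∈ Cfsg.Spor.He.extra})) ≤ 266560 * 15120 :=
  card_le_sub Cfsg.Spor.He.edges edges1 Cfsg.Spor.He.extra kept1 dropped1 h1_1 h2_1 h3_1 ({Cfsg.Spor.He.a, Cfsg.Spor.He.b, Cfsg.Spor.He.c, Cfsg.Spor.He.d, Cfsg.Spor.He.e} : Set (FreeGroup Cfsg.Spor.He.Gen)) hS0 266560 15120 Cfsg.Agent.Lib.Helper56_HeTop.U.upper (by have := card1; norm_num at this ⊢; exact this)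

/-- the upper bound for the order -/
theorem card_le : Finite (Cfsg.Spor.He) ∧ Nat.card (Cfsg.Spor.He) ≤ 4030387200 := by
  have := card0
  norm_num at this ⊢
  exact this

end Cfsg.Agent.Lib.Helper56_HeOrder
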