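import Cfsg.Agent.Lib.Helper56_HeNormCert

set_option autoImplicit false

/-!
# Words and checks for the outer automorphism group of the Held group (helper56, for S2075)

`U0` has order 17 and fixes the point `0` only; `W0` has order 8, normalises `⟨U0⟩` (it squares
`U0`) and fixes the points `0` and `306`; `Y0` is an involution inverting `W0`; the three generate
the group (`gwl`: the seven generators as words in them); `CP` conjugates the cube of `U0` to the
image of `U0` under the automorphism interchanging the generators `f` and `g`; `CWL`: the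
centraliser of `W0`.
-/

namespace Cfsg.Agent.Lib.Helper56_HeOutChk

open Cfsg.Spor Cfsg.Agent.Lib.Helper28_CosetPerm Cfsg.Agent.Lib.Helper28_S1683
  Cfsg.Agent.Lib.Helper28_S1683Tab Cfsg.Agent.Lib.Helper56_HeMult
  Cfsg.Agent.Lib.Helper56_HeNormData Cfsg.Agent.Lib.Helper56_HeNormDef
  Cfsg.Agent.Lib.Helper56_HeNormCert

/-- an element of order 17 -/
def U0 : Wd := [(.g, true), (.d, true), (.c, true), (.d, true), (.b, true), (.c, true), (.d, true), (.b, true), (.c, true), (.d, true), (.b, true), (.c, true), (.d, true), (.b, true), (.c, true), (.d, true), (.f, true), (.d, true), (.c, true), (.b, true), (.d, true), (.c, true), (.b, true), (.d, true), (.c, true), (.b, true), (.d, true), (.c, true), (.d, true), (.g, true)]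

/-- its cube -/
def U3 : Wd := [(.g, true), (.d, true), (.c, true), (.d, true), (.b, true), (.c, true), (.d, true), (.b, true), (.c, true), (.d, true), (.b, true), (.c, true), (.d, true), (.b, true), (.c, true), (.d, true), (.f, true), (.d, true), (.c, true), (.b, true), (.d, true), (.c, true), (.b, true), (.d, true), (.c, true), (.b, true), (.d, true), (.c, true), (.d, true), (.g, true), (.g, true), (.d, true), (.c, true), (.d, true), (.b, true), (.c, true), (.d, true), (.b, true), (.c, true), (.d, true), (.b, true), (.c, true), (.d, true), (.b, true), (.c, true), (.d, true), (.f, true), (.d, true), (.c, true), (.b, true), (.d, true), (.c, true), (.b, true), (.d, true), (.c, true), (.b, true), (.d, true), (.c, true), (.d, true), (.g, true), (.g, true), (.d, true), (.c, true), (.d, true), (.b, true), (.c, true), (.d, true), (.b, true), (.c, true), (.d, true), (.b, true), (.c, true), (.d, true), (.b, true), (.c, true), (.d, true), (.f, true), (.d, true), (.c, true), (.b, true), (.d, true), (.c, true), (.b, true), (.d, true), (.c, true), (.b, true), (.d, true), (.c, true), (.d, true),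 (.g, true)]

/-- an element of order 8 normalising `⟨U0⟩` -/
def W0 : Wd := [(.d, true), (.a, true), (.b, true), (.c, true), (.d, true), (.f, true), (.d, true), (.c, true), (.d, true), (.c, true), (.b, true), (.f, true), (.d, true), (.c, true), (.b, true), (.e, true), (.d, true), (.c, true), (.d, true), (.f, true), (.d, true), (.g, true), (.d, true)]

/-- its inverse -/
def W0I : Wd := [(.d, false), (.g, false), (.d, false), (.f, false), (.d, false), (.c, false), (.d, false), (.e, false), (.b, false), (.c, false), (.d, false), (.f, false), (.b, false), (.c, false), (.d, false), (.c, false), (.d, false), (.f, false), (.d, false), (.c, false), (.b, false), (.a, false), (.d, false)]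

/-- an involution inverting `W0` -/
def Y0 : Wd := [(.f, true), (.d, true), (.e, true), (.d, true), (.c, true), (.b, true), (.f, true), (.d, true), (.c, true), (.b, true), (.d, true), (.c, true), (.b, true), (.d, true), (.c, true), (.e, true), (.d, true), (.f, true), (.d, true), (.e, true)]

/-- the conjugating element -/
def CP : Wd := [(.e, true), (.c, true), (.d, true), (.f, true), (.g, true), (.c, true), (.d, true), (.b, true), (.c, true), (.d, true), (.f, true), (.g, true), (.d, true), (.c, true), (.d, true), (.c, true), (.b, true), (.d, true), (.c, true), (.d, true), (.c, true), (.d, true), (.f, true), (.d, true)]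

/-- the centraliser of `W0` -/
def CWL : List Wd := [
  [],
  [(.f, true), (.d, true), (.e, true), (.d, true), (.c, true), (.d, true), (.b, true), (.c, true), (.d, true), (.g, true), (.d, true), (.c, true), (.b, true), (.d, true), (.e, true), (.f, true), (.d, true), (.c, true), (.d, true), (.e, true), (.f, true)],
  [(.f, true), (.e, true), (.d, true), (.c, true), (.d, true), (.f, true), (.d, true), (.g, true), (.a, true), (.b, true), (.c, true), (.d, true), (.c, true), (.d, true), (.g, true), (.d, true), (.c, true), (.b, true), (.d, true), (.c, true), (.b, true), (.g, true), (.d, true), (.e, true), (.f, true)],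
  [(.a, true), (.b, true), (.d, true), (.e, true), (.d, true), (.c, true), (.d, true), (.g, true), (.d, true), (.c, true), (.b, true), (.d, true), (.e, true)],
  [(.f, true), (.d, true), (.e, true), (.c, true), (.d, true), (.f, true), (.b, true), (.c, true), (.d, true), (.a, true), (.b, true), (.c, true), (.d, true), (.b, true), (.c, true), (.e, true), (.d, true), (.c, true), (.b, true), (.d, true), (.c, true), (.d, true), (.g, true), (.f, true), (.d, true), (.c, true), (.b, true), (.g, true)],
  [(.f, true), (.c, true), (.d, true), (.c, true), (.a, true), (.b, true), (.a, true), (.d, true), (.c, true), (.d, true), (.g, true), (.d, true), (.c, true), (.b, true), (.f, true), (.d, true), (.c, true), (.d, true), (.c, true), (.f, true), (.d, true)],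
  [(.d, true), (.g, true), (.d, true), (.f, true), (.d, true), (.c, true), (.d, true), (.c, true), (.b, true), (.c, true), (.e, true), (.d, true), (.c, true), (.d, true), (.f, true), (.d, true), (.c, true), (.d, true), (.c, true), (.b, true), (.a, true), (.f, true), (.d, true)],
  [(.g, true), (.c, true), (.d, true), (.b, true), (.c, true), (.d, true), (.f, true), (.g, true), (.d, true), (.c, true), (.d, true), (.b, true), (.c, true), (.d, true), (.f, true), (.g, true), (.d, true), (.c, true), (.b, true), (.d, true), (.c, true), (.e, true), (.g, true), (.d, true), (.c, true), (.e, true), (.d, true), (.g, true)],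
  [(.e, true), (.c, true), (.d, true), (.f, true), (.b, true), (.c, true), (.d, true), (.e, true), (.c, true), (.d, true), (.c, true), (.b, true), (.a, true), (.c, true), (.d, true), (.c, true), (.b, true), (.d, true), (.c, true), (.g, true), (.d, true), (.c, true), (.b, true), (.a, true), (.f, true), (.d, true), (.e, true)],
  [(.d, true), (.f, true), (.d, true), (.a, true), (.b, true), (.c, true), (.d, true), (.g, true), (.e, true), (.d, true), (.b, true), (.c, true), (.d, true), (.c, true), (.b, true), (.d, true), (.c, true), (.d, true), (.c, true), (.b, true), (.d, true), (.c, true), (.g, true), (.d, true), (.c, true), (.b, true)],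
  [(.e, true), (.d, true), (.f, true), (.a, true), (.b, true), (.c, true), (.d, true), (.g, true), (.c, true), (.d, true), (.b, true), (.c, true), (.a, true), (.b, true), (.d, true), (.c, true), (.b, true), (.d, true), (.c, true), (.e, true), (.d, true), (.c, true), (.b, true), (.f, true), (.d, true), (.c, true), (.e, true)],
  [(.b, true), (.c, true), (.d, true), (.g, true), (.c, true), (.d, true), (.b, true), (.c, true), (.d, true), (.c, true), (.d, true), (.b, true), (.c, true), (.d, true), (.c, true), (.b, true), (.d, true), (.e, true), (.g, true), (.d, true), (.c, true), (.b, true), (.a, true), (.d, true), (.f, true), (.d, true)],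
  [(.g, true), (.d, true), (.e, true), (.c, true), (.d, true), (.g, true), (.e, true), (.c, true), (.d, true), (.b, true), (.c, true), (.d, true), (.g, true), (.f, true), (.d, true), (.c, true), (.b, true), (.d, true), (.c, true), (.d, true), (.g, true), (.f, true), (.d, true), (.c, true), (.b, true), (.d, true), (.c, true), (.g, true)],
  [(.d, true), (.a, true), (.b, true), (.c, true), (.d, true), (.f, true), (.d, true), (.c, true), (.d, true), (.c, true), (.b, true), (.f, true), (.d, true), (.c, true), (.b, true), (.e, true), (.d, true), (.c, true), (.d, true), (.f, true), (.d, true), (.g, true), (.d, true)],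
  [(.d, true), (.f, true), (.c, true), (.d, true), (.c, true), (.b, true), (.a, true), (.d, true), (.c, true), (.f, true), (.d, true), (.g, true), (.d, true), (.c, true), (.b, true), (.a, true), (.d, true), (.c, true), (.d, true), (.c, true), (.f, true)],
  [(.g, true), (.b, true), (.c, true), (.d, true), (.f, true), (.g, true), (.d, true), (.c, true), (.d, true), (.b, true), (.c, true), (.d, true), (.c, true), (.b, true), (.e, true), (.d, true), (.c, true), (.b, true), (.a, true), (.d, true), (.c, true), (.b, true), (.f, true), (.d, true), (.c, true), (.e, true), (.d, true), (.f, true)]]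

/-- the generators as words in `U0`, `U0⁻¹`, `W0`, `W0⁻¹`, `Y0` -/
def gwl : List (List ℕ) := [
  [3, 0, 4, 0, 4, 2, 1, 1, 1, 4, 1, 3, 1, 4, 1, 3, 1, 4, 0, 0, 4],
  [1, 1, 3, 1, 4, 1, 4, 0, 4, 1, 1, 4, 1, 1, 1, 3, 4, 1, 2, 4, 0, 2, 0, 4, 1],
  [4, 0, 4, 0, 3, 3, 1, 4, 1, 3, 4, 1, 4, 0, 2, 0, 2, 4, 0, 4, 1],
  [1, 2, 1, 1, 4, 0, 4, 1, 2, 4, 1, 3, 4, 1, 2, 4, 1, 4, 0, 4, 0, 3],
  [0, 0, 4, 0, 4, 3, 0, 4, 1, 1, 1, 1, 1, 4, 0, 4, 1, 4, 1, 1, 1, 4, 0, 0, 4, 1, 1],
  [0, 2, 0, 0, 4, 1, 4, 0, 4, 0, 3, 4, 1, 4, 1, 4, 0, 4, 1, 1, 3, 1],
  [3, 0, 4, 1, 4, 1, 1, 1, 4, 0, 4, 0, 4, 1, 1, 1, 4, 1, 1, 1, 4]]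

/-- the four further relators -/
def R1 : Wd := [(.e, true), (.g, false), (.f, false), (.g, false), (.f, false)]

/-- the four further relators -/
def R2 : Wd := [(.e, true), (.c, false), (.b, false), (.a, false), (.c, false), (.b, false), (.a, false), (.c, false), (.b, false), (.a, false)]

/-- the four further relators -/
def R3 : Wd := [(.a, true), (.d, false), (.c, false), (.d, false), (.c, false), (.d, false), (.c, false), (.d, false), (.c, false), (.d, false), (.c, false)]

/-- the four further relators -/
def R4 : Wd := [(.c, true), (.d, true), (.f, true), (.g, true), (.c, true), (.d, true), (.f, true), (.g, true), (.c, true), (.d, true), (.f, true), (.g, true), (.c, true), (.d, true), (.f, true), (.g, true)]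

/-- the interchange of the generators `f` and `g` -/
def sw : He.Gen → He.Gen
  | .f => .g
  | .g => .f
  | x => x

/-- the interchange of `f` and `g` in a word -/
def swW (L : Wd) : Wd := L.map (fun p => (sw p.1, p.2))

/-- the power of a word -/
def repW : ℕ → Wd → Wd
  | 0, _ => []
  | n + 1, u => repW n u ++ u

/-- the powers of a word -/
def powL (u : Wd) : ℕ → List Wd
  | 0 => []
  | n + 1 => repW n u :: powL u n

/-- the pieces -/
def piece : ℕ → Wd
  | 0 => U0
  | 1 => FreeGroup.invRev U0
  | 2 => W0
  | 3 => FreeGroup.invRev W0
  | 4 => Y0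
  | _ => []

/-- eight times -/
def rep8 (l : List Wd) : List Wd := l ++ l ++ l ++ l ++ l ++ l ++ l ++ l

theorem chk_cu : cert wk1 U0 U0 (powL U0 17) 17 = true := by decide +kernel

theorem chk_u3 : cert wk1 U3 U0 [] 17 = true := by decide +kernel

theorem chk_cw : cert wk1 W0 W0 CWL 8 = true := by decide +kernel

theorem chk_w7 : cert wk1 W0I W0 [] 8 = true := by decide +kernel

theorem chk_fixu : allFold (fun k => !(Nat.beq (wk1 U0 (k * 15)) (k * 15)) || Nat.beq k 0) 2058
    = true := by decide +kernel

theorem chk_fixu3 : allFold (fun k => !(Nat.beq (wk1 U3 (k * 15)) (k * 15)) || Nat.beq k 0) 2058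
    = true := by decide +kernel

theorem chk_fixw : allFold (fun k => !(Nat.beq (wk1 W0 (k * 15)) (k * 15)) ||
    (Nat.beq k 0 || Nat.beq k 306)) 2058 = true := by decide +kernel

theorem chk_pts : wk1 U0 0 = 0 ∧ wk1 W0 0 = 0 ∧ wk1 Y0 0 = 4590 := by decide +kernel

theorem chk_u17 : eqL wk1 [repW 17 U0] [] = true ∧ eqL wk1 [U0] [] = false := by decide +kernel

theorem chk_u3w : U3 = U0 ++ U0 ++ U0 ∧ W0I = FreeGroup.invRev W0 := by decide +kernel

theorem chk_wu : eqL wk1 [W0, U0] [U0, U0, W0] = true := by decide +kernel

theorem chk_y : eqL wk1 [Y0, Y0] [] = true ∧ eqL wk1 [Y0, W0, Y0, W0] [] = true ∧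
    eqL wk1 (rep8 [U0, Y0]) [] = true := by decide +kernel

theorem chk_sigma : eqL wk1 [swW U0, CP] [CP, U3] = true := by decide +kernel

theorem chk_adj : allFold (fun i => eqL wk1 [repW ((15 * i) % 17) U0, W0]
    [W0, repW i U0, repW ((15 * i) % 17) U0]) 17 = true := by decide +kernel

theorem chk_pin : CWL.all (fun s => s.isEmpty || (!(eqL wk1 [Y0, s, Y0, s] []) ||
    !(eqL wk1 (rep8 [U0, Y0, s]) []))) = true := by decide +kernel

theorem chk_gen : allFold (fun x => eqL wk1 [[(gn x, true)]] ((gwl.getD x []).map piece)) 7
    = true := by decide +kernel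

theorem chk_rels : eqL wk1 [swW R1] [] = true ∧ eqL wk1 [swW R2] [] = true ∧
    eqL wk1 [swW R3] [] = true ∧ eqL wk1 [swW R4] [] = true := by decide +kernel

end Cfsg.Agent.Lib.Helper56_HeOutChk
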