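import Mathlib
import Cfsg.Prelude.Def_KGroupFacts
import Cfsg.Agent.Lib.Helper90_OutCyc

/-!
# A criterion for `|Out G| = 2` through a Sylow subgroup of prime order (helper56)

`G` is a finite group whose order is divisible by the prime `p` exactly once, `y` an element of
order `p`, and `g` a primitive root modulo `p`.  If an automorphism `σ` with `σ² = 1`, not inner,
maps `y` to a conjugate of `y ^ g`, and every automorphism fixing `y` is inner, then `Out G` has
order 2.  (After `Helper90_OutCyc.card_out_eq_two`, which is the case `p = 19`, `g = 2`, with the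
last hypothesis in the form used there.)
-/

set_option autoImplicit false
open Cfsg

namespace Cfsg.Agent.Lib.Helper56_OutP

open Cfsg.Agent.Lib.Helper90_OutCyc

variable {G : Type*} [Group G]

theorem pow_apply_of_pow (τ : MulAut G) {y : G} {g : ℕ} (h : τ y = y ^ g) (m : ℕ) :
    (τ ^ m) y = y ^ (g ^ m) := by
  induction m with
  | zero => simp
  | succ m ih =>
    rw [pow_succ, MulAut.mul_apply, h, map_pow, ih, ← pow_mul, pow_succ]

/-- The criterion. -/
theorem card_out_eq_two_of_fix [Finite G] (p g s : ℕ) [hp : Fact p.Prime]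
    (hcard : Nat.card G = p * s) (hs : ¬ p ∣ s)
    (hg : ∀ k, k < p → k ≠ 0 → ∃ m : ℕ, g ^ m % p = k)
    (y X : G) (σ : MulAut G) (hy : orderOf y = p) (hσ2 : σ * σ = 1) (hσ : σ ∉ Inn G)
    (hX : X * σ y * X⁻¹ = y ^ g)
    (hsurv : ∀ α : MulAut G, α y = y → α ∈ Inn G) : Nat.card (Out G) = 2 := by
  set τ : MulAut G := MulAut.conj X * σ with hτ
  have hτy : τ y = y ^ g := by
    rw [hτ, MulAut.mul_apply, MulAut.conj_apply, hX]
  have hconj : ∀ c : G, (QuotientGroup.mk (MulAut.conj c) : Out G) = 1 := by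
    intro c
    rw [QuotientGroup.eq_one_iff]
    exact ⟨c, rfl⟩
  have hτq : (QuotientGroup.mk τ : Out G) = QuotientGroup.mk σ := by
    rw [hτ, QuotientGroup.mk_mul, hconj, one_mul]
  have key : ∀ α : MulAut G, ∃ m : ℕ,
      (QuotientGroup.mk α : Out G) = (QuotientGroup.mk σ) ^ m := by
    intro α
    have hoα : orderOf (α y) = p := by
      rw [← hy]
      exact MulEquiv.orderOf_eq α y
    obtain ⟨c, k, hk, hk0, hck⟩ := exists_conj_pow p hcard hs hy hoα
    obtain ⟨m, hm⟩ := hg k hk hk0
    have hm' : y ^ (g ^ m) = y ^ k := by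
      rw [← pow_mod_orderOf y (g ^ m), hy, hm]
    set γ : MulAut G := (τ ^ m)⁻¹ * ((MulAut.conj c)⁻¹ * α) with hγ
    have hγy : γ y = y := by
      rw [hγ, MulAut.mul_apply, MulAut.mul_apply, ← hck, ← map_inv, MulAut.conj_apply, inv_inv]
      have e : c⁻¹ * (c * y ^ k * c⁻¹) * c = y ^ k := by group
      rw [e, ← hm', ← pow_apply_of_pow τ hτy m]
      exact MulAut.inv_apply_self _ _ y
    have hγq : (QuotientGroup.mk γ : Out G) = 1 :=
      (QuotientGroup.eq_one_iff γ).mpr (hsurv γ hγy)
    have hα : α = MulAut.conj c * (τ ^ m * γ) := by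
      rw [hγ]
      group
    refine ⟨m, ?_⟩
    rw [hα, QuotientGroup.mk_mul, QuotientGroup.mk_mul, hconj, hγq, one_mul, mul_one,
      QuotientGroup.mk_pow, hτq]
  have htop : Subgroup.zpowers (QuotientGroup.mk σ : Out G) = ⊤ := by
    rw [eq_top_iff]
    rintro a -
    induction a using QuotientGroup.induction_on with
    | H α =>
      obtain ⟨m, hm⟩ := key α
      rw [hm]
      exact Subgroup.pow_mem _ (Subgroup.mem_zpowers _) m
  have hcardO : Nat.card (Out G) = orderOf (QuotientGroup.mk σ : Out G) := by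
    rw [← Nat.card_zpowers, htop, Subgroup.card_top]
  rw [hcardO]
  have hdvd : orderOf (QuotientGroup.mk σ : Out G) ∣ 2 := by
    apply orderOf_dvd_of_pow_eq_one
    rw [pow_two, ← QuotientGroup.mk_mul, hσ2]
    rfl
  rcases (Nat.dvd_prime Nat.prime_two).mp hdvd with h1 | h2
  · exfalso
    apply hσ
    rw [orderOf_eq_one_iff, QuotientGroup.eq_one_iff] at h1
    exact h1
  · exact h2

end Cfsg.Agent.Lib.Helper56_OutP
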