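import Cfsg.Agent.Lib.Helper56_HeNorm
import Cfsg.Agent.Lib.Helper56_HeOutChk
import Cfsg.Agent.Lib.Helper56_OutP

set_option autoImplicit false
set_option linter.constructorNameAsVariable false

/-!
# The outer automorphism group of the Held group has order two (helper56, for S2075)

The automorphism `sigma` interchanging the generators `f` and `g` is not inner (it maps the element
`u0` of order 17 to a conjugate of its cube, and no element conjugates `u0` to its cube), and every
automorphism fixing `u0` is inner (through the normaliser `17 : 8` of `⟨u0⟩` and the centraliser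
of its complement `⟨w0⟩`).  The centralisers are computed by `Helper56_HeNorm.cert_sound`.
-/

namespace Cfsg.Agent.Lib.Helper56_HeOut

open Cfsg Cfsg.Spor Cfsg.Agent.Lib.Helper28_CosetPerm Cfsg.Agent.Lib.Helper56_WordLB
  Cfsg.Agent.Lib.Helper28_S1683 Cfsg.Agent.Lib.Helper28_S1683Tab Cfsg.Agent.Lib.Helper56_HeLB
  Cfsg.Agent.Lib.Helper56_HeMult
  Cfsg.Agent.Lib.Helper56_HeNormData Cfsg.Agent.Lib.Helper56_HeNormDef
  Cfsg.Agent.Lib.Helper56_HeNormCert Cfsg.Agent.Lib.Helper56_HeNorm
  Cfsg.Agent.Lib.Helper56_HeOutChk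

/-! ### from the checks to the group -/

theorem eqL1 {u v : List Wd} (h : eqL wk1 u v = true) : mkW u.flatten = mkW v.flatten := by
  rw [wk1_eq] at h
  exact eq_of_eqL h

theorem neL1 {u v : List Wd} (h : eqL wk1 u v = false) : mkW u.flatten ≠ mkW v.flatten := by
  intro he
  rw [wk1_eq, eqL_of_eq he] at h
  exact Bool.noConfusion h

theorem mkW_repW (n : ℕ) (u : Wd) : mkW (repW n u) = mkW u ^ n := by
  induction n with
  | zero => rfl
  | succ n ih =>
    show mkW (repW n u ++ u) = _
    rw [mkW_append, ih, pow_succ]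

theorem mem_powL {u s : Wd} {n : ℕ} (h : s ∈ powL u n) : ∃ i, i < n ∧ s = repW i u := by
  induction n with
  | zero => exact absurd h (List.not_mem_nil)
  | succ n ih =>
    rcases List.mem_cons.mp h with h | h
    · exact ⟨n, Nat.lt_succ_self n, h⟩
    · obtain ⟨i, hi, hs⟩ := ih h
      exact ⟨i, Nat.lt_succ_of_lt hi, hs⟩

/-- the point `306` -/
def p306 : Fin 2058 := ⟨306, by norm_num⟩

/-- an element with a relation fixes the point `0` if the word `A` fixes this point only -/
theorem fix0_of_rel {A B : Wd} (hA : ∀ k : Fin 2058, wk0 A (cd k) = cd k → k = b0)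
    (hB : wk0 B 0 = 0) {z : G} (hrel : z * mkW B = mkW A * z) : rho z b0 = b0 := by
  have hB' : (rho (mkW B))⁻¹ b0 = b0 := by
    apply cd_inj
    rw [← wk0_cd]
    exact hB
  have hB'' : rho (mkW B) b0 = b0 := by
    have := congrArg (rho (mkW B)) hB'
    rw [perm_apply_inv_self] at this
    exact this.symm
  have h1 : rho z (rho (mkW B) b0) = rho (mkW A) (rho z b0) := by
    rw [← Equiv.Perm.mul_apply, ← Equiv.Perm.mul_apply, ← map_mul, ← map_mul, hrel]
  rw [hB''] at h1
  apply hA
  rw [wk0_cd]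
  congr 1
  have := congrArg (fun k => (rho (mkW A))⁻¹ k) h1
  simp only [perm_inv_apply_self] at this
  exact this

/-- the same with two fixed points -/
theorem fix2_of_rel {A B : Wd} (hA : ∀ k : Fin 2058, wk0 A (cd k) = cd k → k = b0 ∨ k = p306)
    (hB : wk0 B 0 = 0) {z : G} (hrel : z * mkW B = mkW A * z) :
    rho z b0 = b0 ∨ rho z b0 = p306 := by
  have hB' : (rho (mkW B))⁻¹ b0 = b0 := by
    apply cd_inj
    rw [← wk0_cd]
    exact hB
  have hB'' : rho (mkW B) b0 = b0 := by
    have := congrArg (rho (mkW B)) hB'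
    rw [perm_apply_inv_self] at this
    exact this.symm
  have h1 : rho z (rho (mkW B) b0) = rho (mkW A) (rho z b0) := by
    rw [← Equiv.Perm.mul_apply, ← Equiv.Perm.mul_apply, ← map_mul, ← map_mul, hrel]
  rw [hB''] at h1
  apply hA
  rw [wk0_cd]
  congr 1
  have := congrArg (fun k => (rho (mkW A))⁻¹ k) h1
  simp only [perm_inv_apply_self] at this
  exact this

/-! ### the elements -/

/-- an element of order 17 -/
noncomputable def u0 : G := mkW U0

/-- an element of order 8 -/
noncomputable def w0 : G := mkW W0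

/-- an involution -/
noncomputable def y0 : G := mkW Y0

/-- the conjugating element -/
noncomputable def cp : G := mkW CP

theorem pts : wk0 U0 0 = 0 ∧ wk0 W0 0 = 0 ∧ wk0 Y0 0 = 4590 := by
  have := chk_pts
  rw [wk1_eq] at this
  exact this

theorem fixU (k : Fin 2058) (h : wk0 U0 (cd k) = cd k) : k = b0 := by
  have c := chk_fixu
  rw [wk1_eq] at c
  have h1 : (!(Nat.beq (wk0 U0 (cd k)) (cd k)) || Nat.beq k.val 0) = true :=
    (allFold_eq_true _ _).mp c k.val k.isLt
  rw [h, Nat.beq_refl] at h1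
  simp only [Bool.not_true, Bool.false_or] at h1
  exact Fin.ext (Nat.eq_of_beq_eq_true h1)

theorem fixU3 (k : Fin 2058) (h : wk0 U3 (cd k) = cd k) : k = b0 := by
  have c := chk_fixu3
  rw [wk1_eq] at c
  have h1 : (!(Nat.beq (wk0 U3 (cd k)) (cd k)) || Nat.beq k.val 0) = true :=
    (allFold_eq_true _ _).mp c k.val k.isLt
  rw [h, Nat.beq_refl] at h1
  simp only [Bool.not_true, Bool.false_or] at h1
  exact Fin.ext (Nat.eq_of_beq_eq_true h1)

theorem fixW (k : Fin 2058) (h : wk0 W0 (cd k) = cd k) : k = b0 ∨ k = p306 := by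
  have c := chk_fixw
  rw [wk1_eq] at c
  have h1 : (!(Nat.beq (wk0 W0 (cd k)) (cd k)) || (Nat.beq k.val 0 || Nat.beq k.val 306)) = true :=
    (allFold_eq_true _ _).mp c k.val k.isLt
  rw [h, Nat.beq_refl] at h1
  simp only [Bool.not_true, Bool.false_or, Bool.or_eq_true] at h1
  rcases h1 with h1 | h1
  · exact Or.inl (Fin.ext (Nat.eq_of_beq_eq_true h1))
  · exact Or.inr (Fin.ext (Nat.eq_of_beq_eq_true h1))

theorem u0_pow : u0 ^ 17 = 1 := by
  have h := eqL1 chk_u17.1
  simp only [List.flatten_cons, List.flatten_nil, List.append_nil] at h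
  rw [mkW_repW] at h
  exact h

theorem u0_ne : u0 ≠ 1 := by
  have h := neL1 chk_u17.2
  simp only [List.flatten_cons, List.flatten_nil, List.append_nil] at h
  exact h

theorem u0_order : orderOf u0 = 17 := by
  have : Fact (Nat.Prime 17) := ⟨by norm_num⟩
  exact orderOf_eq_prime u0_pow u0_ne

theorem wu : w0 * u0 = u0 * u0 * w0 := by
  have h := eqL1 chk_wu
  simp only [List.flatten_cons, List.flatten_nil, List.append_nil, mkW_append] at h
  rw [← mul_assoc] at h
  exact h

theorem y_sq : y0 * y0 = 1 := by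
  have h := eqL1 chk_y.1
  simp only [List.flatten_cons, List.flatten_nil, List.append_nil, mkW_append] at h
  exact h

theorem ywyw : y0 * w0 * y0 * w0 = 1 := by
  have h := eqL1 chk_y.2.1
  simp only [List.flatten_cons, List.flatten_nil, List.append_nil, mkW_append] at h
  rw [← mul_assoc, ← mul_assoc] at h
  exact h

theorem uy8 : (u0 * y0) ^ 8 = 1 := by
  have h := eqL1 chk_y.2.2
  simp only [rep8, List.flatten_append, List.flatten_cons, List.flatten_nil, List.append_nil,
    mkW_append] at h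
  rw [mkW_nil] at h
  rw [← h]
  show (mkW U0 * mkW Y0) ^ 8 = _
  simp only [pow_succ, pow_zero, one_mul]

theorem u3_eq : mkW U3 = u0 ^ 3 := by
  rw [chk_u3w.1, mkW_append, mkW_append]
  show u0 * u0 * u0 = u0 ^ 3
  simp only [pow_succ, pow_zero, one_mul]

theorem w0i_eq : mkW W0I = w0⁻¹ := by
  rw [chk_u3w.2, ← mkW_inv]
  rfl

/-! ### the automorphism -/

/-- the images of the generators -/
noncomputable def sigF (x : He.Gen) : G := PresentedGroup.of (sw x)

theorem sw_sw (x : He.Gen) : sw (sw x) = x := by cases x <;> rfl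

theorem lift_letter (x : He.Gen) (b : Bool) :
    FreeGroup.lift sigF (FreeGroup.mk [(x, b)]) = mkW [(sw x, b)] := by
  cases b
  · have e : (FreeGroup.mk [(x, false)] : FreeGroup He.Gen) = (FreeGroup.of x)⁻¹ := rfl
    rw [e, map_inv, FreeGroup.lift_apply_of]
    show (mkW [(sw x, true)])⁻¹ = mkW [(sw x, false)]
    rw [mkW_inv]
    rfl
  · show FreeGroup.lift sigF (FreeGroup.of x) = _
    rw [FreeGroup.lift_apply_of]
    rfl

theorem lift_sigF_mk (L : Wd) : FreeGroup.lift sigF (FreeGroup.mk L) = mkW (swW L) := by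
  induction L with
  | nil => exact map_one _
  | cons p L ih =>
    obtain ⟨x, b⟩ := p
    have e : (FreeGroup.mk ((x, b) :: L) : FreeGroup He.Gen) =
        FreeGroup.mk [(x, b)] * FreeGroup.mk L := rfl
    rw [e, map_mul, ih, lift_letter]
    show mkW [(sw x, b)] * mkW (swW L) = mkW ([(sw x, b)] ++ swW L)
    rw [mkW_append]

theorem label_sw (x y : He.Gen) :
    coxLabel He.edges (sw x) (sw y) = coxLabel He.edges x y := by
  cases x <;> cases y <;> decide

theorem sig_rel : ∀ r ∈ RELS, FreeGroup.lift sigF r = 1 := by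
  intro r hr
  rcases hr with hr | hr
  · obtain ⟨x, _, y, _, rfl⟩ := hr
    rw [map_pow, map_mul, FreeGroup.lift_apply_of, FreeGroup.lift_apply_of, ← label_sw]
    exact Cfsg.Agent.S1695.cox_rel (sw x) (sw y)
  · have hr' : r ∈ He.extra := hr
    simp only [He.extra, List.mem_cons, List.not_mem_nil, or_false] at hr'
    rcases hr' with rfl | rfl | rfl | rfl
    · rw [show He.e * ((He.f * He.g) ^ 2)⁻¹ = FreeGroup.mk R1 by decide, lift_sigF_mk]
      have h := eqL1 chk_rels.1
      simpa only [List.flatten_cons, List.flatten_nil, List.append_nil, mkW_nil] using h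
    · rw [show He.e * ((He.a * He.b * He.c) ^ 3)⁻¹ = FreeGroup.mk R2 by decide, lift_sigF_mk]
      have h := eqL1 chk_rels.2.1
      simpa only [List.flatten_cons, List.flatten_nil, List.append_nil, mkW_nil] using h
    · rw [show He.a * ((He.c * He.d) ^ 5)⁻¹ = FreeGroup.mk R3 by decide, lift_sigF_mk]
      have h := eqL1 chk_rels.2.2.1
      simpa only [List.flatten_cons, List.flatten_nil, List.append_nil, mkW_nil] using h
    · rw [show (He.c * He.d * He.f * He.g) ^ 4 = FreeGroup.mk R4 by decide, lift_sigF_mk]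
      have h := eqL1 chk_rels.2.2.2
      simpa only [List.flatten_cons, List.flatten_nil, List.append_nil, mkW_nil] using h

/-- the endomorphism interchanging `f` and `g` -/
noncomputable def sigHom : G →* G := PresentedGroup.toGroup (f := sigF) sig_rel

theorem sigHom_of (x : He.Gen) : sigHom (PresentedGroup.of x) = PresentedGroup.of (sw x) :=
  PresentedGroup.toGroup.of sig_rel

theorem sigHom_sigHom (z : G) : sigHom (sigHom z) = z := by
  have h : sigHom.comp sigHom = MonoidHom.id G := by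
    apply PresentedGroup.ext
    intro x
    show sigHom (sigHom (PresentedGroup.of x)) = PresentedGroup.of x
    rw [sigHom_of, sigHom_of, sw_sw]
  exact DFunLike.congr_fun h z

/-- the automorphism interchanging `f` and `g` -/
noncomputable def sigma : MulAut G where
  toFun := sigHom
  invFun := sigHom
  left_inv := sigHom_sigHom
  right_inv := sigHom_sigHom
  map_mul' := map_mul sigHom

theorem sigma_sq : sigma * sigma = 1 := by
  ext z
  exact sigHom_sigHom z

theorem sigma_mkW (L : Wd) : sigma (mkW L) = mkW (swW L) := lift_sigF_mk L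

theorem sigma_u0_cp : sigma u0 * cp = cp * mkW U3 := by
  have h := eqL1 chk_sigma
  simp only [List.flatten_cons, List.flatten_nil, List.append_nil, mkW_append] at h
  rw [← sigma_mkW] at h
  exact h

theorem sigma_u0 : cp⁻¹ * sigma u0 * cp⁻¹⁻¹ = u0 ^ 3 := by
  rw [inv_inv, mul_assoc, sigma_u0_cp, ← mul_assoc, inv_mul_cancel, one_mul, u3_eq]

theorem sigma_not_inn : sigma ∉ Inn G := by
  rintro ⟨g, hg⟩
  have h1 : sigma u0 = g * u0 * g⁻¹ := by
    rw [← hg]
    rfl
  have hrel : (cp⁻¹ * g) * mkW U0 = mkW U3 * (cp⁻¹ * g) := by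
    calc (cp⁻¹ * g) * mkW U0 = cp⁻¹ * (g * u0 * g⁻¹ * cp) * (cp⁻¹ * g) := by
          show (cp⁻¹ * g) * u0 = _
          group
      _ = cp⁻¹ * (cp * mkW U3) * (cp⁻¹ * g) := by rw [← h1, sigma_u0_cp]
      _ = mkW U3 * (cp⁻¹ * g) := by group
  have hz0 := fix0_of_rel fixU3 pts.1 hrel
  obtain ⟨s, hs, _⟩ := cert_sound chk_u3 _ hz0 hrel
  exact absurd hs List.not_mem_nil

/-! ### automorphisms fixing `u0` -/

theorem fix_piece (β : MulAut G) (hu : β u0 = u0) (hw : β w0 = w0) (hy : β y0 = y0) (c : ℕ) :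
    β (mkW (piece c)) = mkW (piece c) := by
  match c with
  | 0 => exact hu
  | 1 =>
    show β (mkW (FreeGroup.invRev U0)) = mkW (FreeGroup.invRev U0)
    rw [← mkW_inv, map_inv]
    exact congrArg _ hu
  | 2 => exact hw
  | 3 =>
    show β (mkW (FreeGroup.invRev W0)) = mkW (FreeGroup.invRev W0)
    rw [← mkW_inv, map_inv]
    exact congrArg _ hw
  | 4 => exact hy
  | n + 5 =>
    show β (mkW []) = mkW []
    rw [mkW_nil, map_one]

theorem fix_pieces (β : MulAut G) (hu : β u0 = u0) (hw : β w0 = w0) (hy : β y0 = y0)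
    (l : List ℕ) : β (mkW (l.map piece).flatten) = mkW (l.map piece).flatten := by
  induction l with
  | nil =>
    show β (mkW []) = mkW []
    rw [mkW_nil, map_one]
  | cons c l ih =>
    show β (mkW (piece c ++ (l.map piece).flatten)) = mkW (piece c ++ (l.map piece).flatten)
    rw [mkW_append, map_mul, fix_piece β hu hw hy c, ih]

theorem fix_all (β : MulAut G) (hu : β u0 = u0) (hw : β w0 = w0) (hy : β y0 = y0) : β = 1 := by
  have hgen : ∀ i, i < 7 → β (PresentedGroup.of (gn i)) = PresentedGroup.of (gn i) := by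
    intro i hi
    have c : eqL wk1 [[(gn i, true)]] ((gwl.getD i []).map piece) = true :=
      (allFold_eq_true _ _).mp chk_gen i hi
    have h := eqL1 c
    simp only [List.flatten_cons, List.flatten_nil, List.append_nil] at h
    show β (mkW [(gn i, true)]) = mkW [(gn i, true)]
    rw [h]
    exact fix_pieces β hu hw hy _
  have hall : ∀ x : He.Gen, β (PresentedGroup.of x) = PresentedGroup.of x := by
    intro x
    cases x
    · exact hgen 0 (by norm_num)
    · exact hgen 1 (by norm_num)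
    · exact hgen 2 (by norm_num)
    · exact hgen 3 (by norm_num)
    · exact hgen 4 (by norm_num)
    · exact hgen 5 (by norm_num)
    · exact hgen 6 (by norm_num)
  have h : β.toMonoidHom = MonoidHom.id G := PresentedGroup.ext hall
  ext z
  exact DFunLike.congr_fun h z

theorem surv (α : MulAut G) (hα : α u0 = u0) : α ∈ Inn G := by
  -- the image of `w0`
  have E1 : w0⁻¹ * u0 * u0 = u0 * w0⁻¹ := by
    calc w0⁻¹ * u0 * u0 = w0⁻¹ * (u0 * u0 * w0) * w0⁻¹ := by group
      _ = w0⁻¹ * (w0 * u0) * w0⁻¹ := by rw [wu]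
      _ = u0 * w0⁻¹ := by group
  have h1 : α w0 * u0 = u0 * u0 * α w0 := by
    have := congrArg α wu
    rwa [map_mul, map_mul, map_mul, hα] at this
  have hzc : (w0⁻¹ * α w0) * mkW U0 = mkW U0 * (w0⁻¹ * α w0) := by
    show (w0⁻¹ * α w0) * u0 = u0 * (w0⁻¹ * α w0)
    calc (w0⁻¹ * α w0) * u0 = w0⁻¹ * (α w0 * u0) := by group
      _ = w0⁻¹ * (u0 * u0 * α w0) := by rw [h1]
      _ = (w0⁻¹ * u0 * u0) * α w0 := by group
      _ = u0 * w0⁻¹ * α w0 := by rw [E1]
      _ = u0 * (w0⁻¹ * α w0) := by group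
  have hz0 := fix0_of_rel fixU pts.1 hzc
  obtain ⟨s, hs, hzs⟩ := cert_sound chk_cu _ hz0 hzc
  obtain ⟨i, hi, rfl⟩ := mem_powL hs
  rw [mkW_repW] at hzs
  have hαw : α w0 = w0 * u0 ^ i := by
    show α w0 = w0 * mkW U0 ^ i
    rw [← hzs]
    group
  -- the adjustment
  have hadj : u0 ^ ((15 * i) % 17) * w0 = w0 * u0 ^ i * u0 ^ ((15 * i) % 17) := by
    have c : eqL wk1 [repW ((15 * i) % 17) U0, W0] [W0, repW i U0, repW ((15 * i) % 17) U0]
        = true := (allFold_eq_true _ _).mp chk_adj i hi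
    have h := eqL1 c
    simp only [List.flatten_cons, List.flatten_nil, List.append_nil, mkW_append, mkW_repW] at h
    rw [← mul_assoc] at h
    exact h
  generalize (15 * i) % 17 = m at hadj
  have hβ_apply : ∀ t, ((MulAut.conj (u0 ^ m))⁻¹ * α) t = (u0 ^ m)⁻¹ * α t * u0 ^ m := by
    intro t
    rw [MulAut.mul_apply, ← map_inv, MulAut.conj_apply, inv_inv]
  have hβu : ((MulAut.conj (u0 ^ m))⁻¹ * α) u0 = u0 := by
    rw [hβ_apply, hα, mul_assoc, ← pow_succ', pow_succ, ← mul_assoc, inv_mul_cancel, one_mul]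
  have hβw : ((MulAut.conj (u0 ^ m))⁻¹ * α) w0 = w0 := by
    rw [hβ_apply, hαw]
    calc (u0 ^ m)⁻¹ * (w0 * u0 ^ i) * u0 ^ m = (u0 ^ m)⁻¹ * (w0 * u0 ^ i * u0 ^ m) := by group
      _ = (u0 ^ m)⁻¹ * (u0 ^ m * w0) := by rw [← hadj]
      _ = w0 := by group
  -- it suffices that the adjusted automorphism is trivial
  suffices hβ1 : (MulAut.conj (u0 ^ m))⁻¹ * α = 1 by
    refine ⟨u0 ^ m, ?_⟩
    have e : α = MulAut.conj (u0 ^ m) * ((MulAut.conj (u0 ^ m))⁻¹ * α) := by group
    rw [e, hβ1, mul_one]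
  generalize (MulAut.conj (u0 ^ m))⁻¹ * α = β at hβu hβw ⊢
  -- the image of `y0`
  have hy2 : β y0 * β y0 = 1 := by rw [← map_mul, y_sq, map_one]
  have hyw : β y0 * w0 * β y0 * w0 = 1 := by
    have := congrArg β ywyw
    rwa [map_mul, map_mul, map_mul, hβw, map_one] at this
  have huy : (u0 * β y0) ^ 8 = 1 := by
    have := congrArg β uy8
    rwa [map_pow, map_mul, hβu, map_one] at this
  have A1 : y0 * w0 * y0 = w0⁻¹ := mul_eq_one_iff_eq_inv.mp ywyw
  have A2 : β y0 * w0 * β y0 = w0⁻¹ := mul_eq_one_iff_eq_inv.mp hyw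
  have Y1 : y0⁻¹ = y0 := inv_eq_of_mul_eq_one_left y_sq
  have Y2 : (β y0)⁻¹ = β y0 := inv_eq_of_mul_eq_one_left hy2
  have B1 : y0 * w0⁻¹ = w0 * y0 := by
    rw [← A1, ← mul_assoc, ← mul_assoc, y_sq, one_mul]
  have hcw : (y0⁻¹ * β y0) * mkW W0 = mkW W0 * (y0⁻¹ * β y0) := by
    show (y0⁻¹ * β y0) * w0 = w0 * (y0⁻¹ * β y0)
    calc (y0⁻¹ * β y0) * w0 = y0⁻¹ * (β y0 * w0 * β y0) * (β y0)⁻¹ := by group
      _ = y0 * w0⁻¹ * β y0 := by rw [A2, Y1, Y2]
      _ = w0 * y0 * β y0 := by rw [B1]
      _ = w0 * (y0⁻¹ * β y0) := by rw [Y1]; group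
  have hcs : ∃ s ∈ CWL, y0⁻¹ * β y0 = mkW s := by
    rcases fix2_of_rel fixW pts.2.1 hcw with hc0 | hc306
    · exact cert_sound chk_cw _ hc0 hcw
    · exfalso
      have hy306 : rho y0 p306 = b0 := by
        have h : (rho (mkW Y0))⁻¹ b0 = p306 := by
          apply cd_inj
          rw [← wk0_cd]
          exact pts.2.2
        show rho (mkW Y0) p306 = b0
        rw [← h, perm_apply_inv_self]
      have hz0 : rho (y0 * (y0⁻¹ * β y0)) b0 = b0 := by
        rw [map_mul, Equiv.Perm.mul_apply, hc306, hy306]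
      have hrel : (y0 * (y0⁻¹ * β y0)) * mkW W0 = mkW W0I * (y0 * (y0⁻¹ * β y0)) := by
        rw [w0i_eq]
        show y0 * (y0⁻¹ * β y0) * w0 = w0⁻¹ * (y0 * (y0⁻¹ * β y0))
        have hcw' : (y0⁻¹ * β y0) * w0 = w0 * (y0⁻¹ * β y0) := hcw
        calc y0 * (y0⁻¹ * β y0) * w0 = y0 * ((y0⁻¹ * β y0) * w0) := by group
          _ = y0 * (w0 * (y0⁻¹ * β y0)) := by rw [hcw']
          _ = (y0 * w0 * y0) * y0⁻¹ * (y0⁻¹ * β y0) := by group
          _ = w0⁻¹ * y0 * (y0⁻¹ * β y0) := by rw [A1, Y1]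
          _ = w0⁻¹ * (y0 * (y0⁻¹ * β y0)) := by group
      obtain ⟨s, hs, _⟩ := cert_sound chk_w7 _ hz0 hrel
      exact absurd hs List.not_mem_nil
  obtain ⟨s, hs, hcs⟩ := hcs
  have hy's : β y0 = y0 * mkW s := by
    rw [← hcs]
    group
  have hpin := (List.all_eq_true.mp chk_pin) s hs
  simp only [Bool.or_eq_true, Bool.not_eq_true'] at hpin
  have hyy : β y0 = y0 := by
    rcases hpin with he | hn | hn
    · have e : s = [] := List.isEmpty_iff.mp he
      rw [hy's, e, mkW_nil, mul_one]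
    · exfalso
      have h := neL1 hn
      simp only [List.flatten_cons, List.flatten_nil, List.append_nil, mkW_append, mkW_nil] at h
      apply h
      have e : mkW Y0 * (mkW s * (mkW Y0 * mkW s)) = (y0 * mkW s) * (y0 * mkW s) := by
        show y0 * (mkW s * (y0 * mkW s)) = _
        group
      rw [e, ← hy's]
      exact hy2
    · exfalso
      have h := neL1 hn
      simp only [rep8, List.flatten_append, List.flatten_cons, List.flatten_nil, List.append_nil,
        mkW_append, mkW_nil] at h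
      apply h
      rw [hy's] at huy
      rw [← huy]
      show _ = (mkW U0 * (mkW Y0 * mkW s)) ^ 8
      simp only [pow_succ, pow_zero, one_mul, mul_assoc]
  exact fix_all β hβu hβw hyy

end Cfsg.Agent.Lib.Helper56_HeOut
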