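import Cfsg.Agent.Lib.Helper56_HeTopUDef

set_option autoImplicit false
set_option linter.constructorNameAsVariable false
set_option linter.unusedVariables false
set_option Elab.async false

namespace Cfsg.Agent.Lib.Helper56_HeTop.U

open Cfsg.Agent.Lib.Helper28_CosetPerm

theorem f1r0 : allRange blockOk 1 193 69 = true := by decide +kernel
theorem f1u0 : ∀ k, 193 ≤ k → k < 262 → blockOk (k * 1) = true := between_extend blockOk 1 193 193 69 (between_start blockOk 1 193) f1r0

theorem f1r1 : allRange blockOk 1 262 67 = true := by decide +kernel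
theorem f1u1 : ∀ k, 193 ≤ k → k < 329 → blockOk (k * 1) = true := between_extend blockOk 1 193 262 67 (f1u0) f1r1

theorem f1r2 : allRange blockOk 1 329 46 = true := by decide +kernel
theorem f1u2 : ∀ k, 193 ≤ k → k < 375 → blockOk (k * 1) = true := between_extend blockOk 1 193 329 46 (f1u1) f1r2

theorem f1 : ∀ k, 193 ≤ k → k < 375 → blockOk (k * 1) = true := f1u2

end Cfsg.Agent.Lib.Helper56_HeTop.U
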