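import Cfsg.Agent.Lib.Helper56_HeTopUDef

set_option autoImplicit false
set_option linter.constructorNameAsVariable false
set_option linter.unusedVariables false
set_option Elab.async false

namespace Cfsg.Agent.Lib.Helper56_HeTop.U

open Cfsg.Agent.Lib.Helper28_CosetPerm

theorem f10r0 : allRange blockOk 1 1693 61 = true := by decide +kernel
theorem f10u0 : ∀ k, 1693 ≤ k → k < 1754 → blockOk (k * 1) = true := between_extend blockOk 1 1693 1693 61 (between_start blockOk 1 1693) f10r0

theorem f10r1 : allRange blockOk 1 1754 60 = true := by decide +kernel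
theorem f10u1 : ∀ k, 1693 ≤ k → k < 1814 → blockOk (k * 1) = true := between_extend blockOk 1 1693 1754 60 (f10u0) f10r1

theorem f10r2 : allRange blockOk 1 1814 43 = true := by decide +kernel
theorem f10u2 : ∀ k, 1693 ≤ k → k < 1857 → blockOk (k * 1) = true := between_extend blockOk 1 1693 1814 43 (f10u1) f10r2

theorem f10 : ∀ k, 1693 ≤ k → k < 1857 → blockOk (k * 1) = true := f10u2

end Cfsg.Agent.Lib.Helper56_HeTop.U
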