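import Cfsg.Agent.Lib.Helper56_HeTopUDef

set_option autoImplicit false
set_option linter.constructorNameAsVariable false
set_option linter.unusedVariables false
set_option Elab.async false

namespace Cfsg.Agent.Lib.Helper56_HeTop.U

open Cfsg.Agent.Lib.Helper28_CosetPerm

theorem f12r0 : allRange blockOk 1 2021 57 = true := by decide +kernel
theorem f12u0 : ∀ k, 2021 ≤ k → k < 2078 → blockOk (k * 1) = true := between_extend blockOk 1 2021 2021 57 (between_start blockOk 1 2021) f12r0

theorem f12r1 : allRange blockOk 1 2078 56 = true := by decide +kernel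
theorem f12u1 : ∀ k, 2021 ≤ k → k < 2134 → blockOk (k * 1) = true := between_extend blockOk 1 2021 2078 56 (f12u0) f12r1

theorem f12r2 : allRange blockOk 1 2134 41 = true := by decide +kernel
theorem f12u2 : ∀ k, 2021 ≤ k → k < 2175 → blockOk (k * 1) = true := between_extend blockOk 1 2021 2134 41 (f12u1) f12r2

theorem f12 : ∀ k, 2021 ≤ k → k < 2175 → blockOk (k * 1) = true := f12u2

end Cfsg.Agent.Lib.Helper56_HeTop.U
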