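import Cfsg.Agent.Lib.Helper56_HeTopUDef

set_option autoImplicit false
set_option linter.constructorNameAsVariable false
set_option linter.unusedVariables false
set_option Elab.async false

namespace Cfsg.Agent.Lib.Helper56_HeTop.U

open Cfsg.Agent.Lib.Helper28_CosetPerm

theorem f13r0 : allRange blockOk 1 2175 57 = true := by decide +kernel
theorem f13u0 : ∀ k, 2175 ≤ k → k < 2232 → blockOk (k * 1) = true := between_extend blockOk 1 2175 2175 57 (between_start blockOk 1 2175) f13r0

theorem f13r1 : allRange blockOk 1 2232 57 = true := by decide +kernel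
theorem f13u1 : ∀ k, 2175 ≤ k → k < 2289 → blockOk (k * 1) = true := between_extend blockOk 1 2175 2232 57 (f13u0) f13r1

theorem f13r2 : allRange blockOk 1 2289 41 = true := by decide +kernel
theorem f13u2 : ∀ k, 2175 ≤ k → k < 2330 → blockOk (k * 1) = true := between_extend blockOk 1 2175 2289 41 (f13u1) f13r2

theorem f13 : ∀ k, 2175 ≤ k → k < 2330 → blockOk (k * 1) = true := f13u2

end Cfsg.Agent.Lib.Helper56_HeTop.U
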