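import Cfsg.Agent.Lib.Helper56_HeTopUDef

set_option autoImplicit false
set_option linter.constructorNameAsVariable false
set_option linter.unusedVariables false
set_option Elab.async false

namespace Cfsg.Agent.Lib.Helper56_HeTop.U

open Cfsg.Agent.Lib.Helper28_CosetPerm

theorem f14r0 : allRange blockOk 1 2330 57 = true := by decide +kernel
theorem f14u0 : ∀ k, 2330 ≤ k → k < 2387 → blockOk (k * 1) = true := between_extend blockOk 1 2330 2330 57 (between_start blockOk 1 2330) f14r0

theorem f14r1 : allRange blockOk 1 2387 55 = true := by decide +kernel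
theorem f14u1 : ∀ k, 2330 ≤ k → k < 2442 → blockOk (k * 1) = true := between_extend blockOk 1 2330 2387 55 (f14u0) f14r1

theorem f14r2 : allRange blockOk 1 2442 40 = true := by decide +kernel
theorem f14u2 : ∀ k, 2330 ≤ k → k < 2482 → blockOk (k * 1) = true := between_extend blockOk 1 2330 2442 40 (f14u1) f14r2

theorem f14 : ∀ k, 2330 ≤ k → k < 2482 → blockOk (k * 1) = true := f14u2

end Cfsg.Agent.Lib.Helper56_HeTop.U
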