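import Cfsg.Agent.Lib.Helper56_HeTopUDef

set_option autoImplicit false
set_option linter.constructorNameAsVariable false
set_option linter.unusedVariables false
set_option Elab.async false

namespace Cfsg.Agent.Lib.Helper56_HeTop.U

open Cfsg.Agent.Lib.Helper28_CosetPerm

theorem f15r0 : allRange blockOk 1 2482 55 = true := by decide +kernel
theorem f15u0 : ∀ k, 2482 ≤ k → k < 2537 → blockOk (k * 1) = true := between_extend blockOk 1 2482 2482 55 (between_start blockOk 1 2482) f15r0

theorem f15r1 : allRange blockOk 1 2537 55 = true := by decide +kernel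
theorem f15u1 : ∀ k, 2482 ≤ k → k < 2592 → blockOk (k * 1) = true := between_extend blockOk 1 2482 2537 55 (f15u0) f15r1

theorem f15r2 : allRange blockOk 1 2592 39 = true := by decide +kernel
theorem f15u2 : ∀ k, 2482 ≤ k → k < 2631 → blockOk (k * 1) = true := between_extend blockOk 1 2482 2592 39 (f15u1) f15r2

theorem f15 : ∀ k, 2482 ≤ k → k < 2631 → blockOk (k * 1) = true := f15u2

end Cfsg.Agent.Lib.Helper56_HeTop.U
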