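import Cfsg.Agent.Lib.Helper56_HeTopUDef

set_option autoImplicit false
set_option linter.constructorNameAsVariable false
set_option linter.unusedVariables false
set_option Elab.async false

namespace Cfsg.Agent.Lib.Helper56_HeTop.U

open Cfsg.Agent.Lib.Helper28_CosetPerm

theorem f16r0 : allRange blockOk 1 2631 54 = true := by decide +kernel
theorem f16u0 : ∀ k, 2631 ≤ k → k < 2685 → blockOk (k * 1) = true := between_extend blockOk 1 2631 2631 54 (between_start blockOk 1 2631) f16r0

theorem f16r1 : allRange blockOk 1 2685 53 = true := by decide +kernel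
theorem f16u1 : ∀ k, 2631 ≤ k → k < 2738 → blockOk (k * 1) = true := between_extend blockOk 1 2631 2685 53 (f16u0) f16r1

theorem f16r2 : allRange blockOk 1 2738 38 = true := by decide +kernel
theorem f16u2 : ∀ k, 2631 ≤ k → k < 2776 → blockOk (k * 1) = true := between_extend blockOk 1 2631 2738 38 (f16u1) f16r2

theorem f16 : ∀ k, 2631 ≤ k → k < 2776 → blockOk (k * 1) = true := f16u2

end Cfsg.Agent.Lib.Helper56_HeTop.U
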