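import Cfsg.Agent.Lib.Helper56_HeTopUDef

set_option autoImplicit false
set_option linter.constructorNameAsVariable false
set_option linter.unusedVariables false
set_option Elab.async false

namespace Cfsg.Agent.Lib.Helper56_HeTop.U

open Cfsg.Agent.Lib.Helper28_CosetPerm

theorem f17r0 : allRange blockOk 1 2776 53 = true := by decide +kernel
theorem f17u0 : ∀ k, 2776 ≤ k → k < 2829 → blockOk (k * 1) = true := between_extend blockOk 1 2776 2776 53 (between_start blockOk 1 2776) f17r0

theorem f17r1 : allRange blockOk 1 2829 51 = true := by decide +kernel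
theorem f17u1 : ∀ k, 2776 ≤ k → k < 2880 → blockOk (k * 1) = true := between_extend blockOk 1 2776 2829 51 (f17u0) f17r1

theorem f17r2 : allRange blockOk 1 2880 37 = true := by decide +kernel
theorem f17u2 : ∀ k, 2776 ≤ k → k < 2917 → blockOk (k * 1) = true := between_extend blockOk 1 2776 2880 37 (f17u1) f17r2

theorem f17 : ∀ k, 2776 ≤ k → k < 2917 → blockOk (k * 1) = true := f17u2

end Cfsg.Agent.Lib.Helper56_HeTop.U
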