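import Cfsg.Agent.Lib.Helper56_HeTopUDef

set_option autoImplicit false
set_option linter.constructorNameAsVariable false
set_option linter.unusedVariables false
set_option Elab.async false

namespace Cfsg.Agent.Lib.Helper56_HeTop.U

open Cfsg.Agent.Lib.Helper28_CosetPerm

theorem f18r0 : allRange blockOk 1 2917 51 = true := by decide +kernel
theorem f18u0 : ∀ k, 2917 ≤ k → k < 2968 → blockOk (k * 1) = true := between_extend blockOk 1 2917 2917 51 (between_start blockOk 1 2917) f18r0

theorem f18r1 : allRange blockOk 1 2968 51 = true := by decide +kernel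
theorem f18u1 : ∀ k, 2917 ≤ k → k < 3019 → blockOk (k * 1) = true := between_extend blockOk 1 2917 2968 51 (f18u0) f18r1

theorem f18r2 : allRange blockOk 1 3019 37 = true := by decide +kernel
theorem f18u2 : ∀ k, 2917 ≤ k → k < 3056 → blockOk (k * 1) = true := between_extend blockOk 1 2917 3019 37 (f18u1) f18r2

theorem f18 : ∀ k, 2917 ≤ k → k < 3056 → blockOk (k * 1) = true := f18u2

end Cfsg.Agent.Lib.Helper56_HeTop.U
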