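import Cfsg.Agent.Lib.Helper56_HeTopUDef

set_option autoImplicit false
set_option linter.constructorNameAsVariable false
set_option linter.unusedVariables false
set_option Elab.async false

namespace Cfsg.Agent.Lib.Helper56_HeTop.U

open Cfsg.Agent.Lib.Helper28_CosetPerm

theorem f19r0 : allRange blockOk 1 3056 50 = true := by decide +kernel
theorem f19u0 : ∀ k, 3056 ≤ k → k < 3106 → blockOk (k * 1) = true := between_extend blockOk 1 3056 3056 50 (between_start blockOk 1 3056) f19r0

theorem f19r1 : allRange blockOk 1 3106 50 = true := by decide +kernel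
theorem f19u1 : ∀ k, 3056 ≤ k → k < 3156 → blockOk (k * 1) = true := between_extend blockOk 1 3056 3106 50 (f19u0) f19r1

theorem f19r2 : allRange blockOk 1 3156 35 = true := by decide +kernel
theorem f19u2 : ∀ k, 3056 ≤ k → k < 3191 → blockOk (k * 1) = true := between_extend blockOk 1 3056 3156 35 (f19u1) f19r2

theorem f19 : ∀ k, 3056 ≤ k → k < 3191 → blockOk (k * 1) = true := f19u2

end Cfsg.Agent.Lib.Helper56_HeTop.U
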