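import Cfsg.Agent.Lib.Helper56_HeTopUDef

set_option autoImplicit false
set_option linter.constructorNameAsVariable false
set_option linter.unusedVariables false
set_option Elab.async false

namespace Cfsg.Agent.Lib.Helper56_HeTop.U

open Cfsg.Agent.Lib.Helper28_CosetPerm

theorem f2r0 : allRange blockOk 1 375 67 = true := by decide +kernel
theorem f2u0 : ∀ k, 375 ≤ k → k < 442 → blockOk (k * 1) = true := between_extend blockOk 1 375 375 67 (between_start blockOk 1 375) f2r0

theorem f2r1 : allRange blockOk 1 442 64 = true := by decide +kernel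
theorem f2u1 : ∀ k, 375 ≤ k → k < 506 → blockOk (k * 1) = true := between_extend blockOk 1 375 442 64 (f2u0) f2r1

theorem f2r2 : allRange blockOk 1 506 45 = true := by decide +kernel
theorem f2u2 : ∀ k, 375 ≤ k → k < 551 → blockOk (k * 1) = true := between_extend blockOk 1 375 506 45 (f2u1) f2r2

theorem f2 : ∀ k, 375 ≤ k → k < 551 → blockOk (k * 1) = true := f2u2

end Cfsg.Agent.Lib.Helper56_HeTop.U
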