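import Cfsg.Agent.Lib.Helper56_HeTopUDef

set_option autoImplicit false
set_option linter.constructorNameAsVariable false
set_option linter.unusedVariables false
set_option Elab.async false

namespace Cfsg.Agent.Lib.Helper56_HeTop.U

open Cfsg.Agent.Lib.Helper28_CosetPerm

theorem f20r0 : allRange blockOk 1 3191 49 = true := by decide +kernel
theorem f20u0 : ∀ k, 3191 ≤ k → k < 3240 → blockOk (k * 1) = true := between_extend blockOk 1 3191 3191 49 (between_start blockOk 1 3191) f20r0

theorem f20r1 : allRange blockOk 1 3240 49 = true := by decide +kernel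
theorem f20u1 : ∀ k, 3191 ≤ k → k < 3289 → blockOk (k * 1) = true := between_extend blockOk 1 3191 3240 49 (f20u0) f20r1

theorem f20r2 : allRange blockOk 1 3289 34 = true := by decide +kernel
theorem f20u2 : ∀ k, 3191 ≤ k → k < 3323 → blockOk (k * 1) = true := between_extend blockOk 1 3191 3289 34 (f20u1) f20r2

theorem f20 : ∀ k, 3191 ≤ k → k < 3323 → blockOk (k * 1) = true := f20u2

end Cfsg.Agent.Lib.Helper56_HeTop.U
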