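import Cfsg.Agent.Lib.Helper56_HeTopUDef

set_option autoImplicit false
set_option linter.constructorNameAsVariable false
set_option linter.unusedVariables false
set_option Elab.async false

namespace Cfsg.Agent.Lib.Helper56_HeTop.U

open Cfsg.Agent.Lib.Helper28_CosetPerm

theorem f21r0 : allRange blockOk 1 3323 48 = true := by decide +kernel
theorem f21u0 : ∀ k, 3323 ≤ k → k < 3371 → blockOk (k * 1) = true := between_extend blockOk 1 3323 3323 48 (between_start blockOk 1 3323) f21r0

theorem f21r1 : allRange blockOk 1 3371 47 = true := by decide +kernel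
theorem f21u1 : ∀ k, 3323 ≤ k → k < 3418 → blockOk (k * 1) = true := between_extend blockOk 1 3323 3371 47 (f21u0) f21r1

theorem f21r2 : allRange blockOk 1 3418 34 = true := by decide +kernel
theorem f21u2 : ∀ k, 3323 ≤ k → k < 3452 → blockOk (k * 1) = true := between_extend blockOk 1 3323 3418 34 (f21u1) f21r2

theorem f21 : ∀ k, 3323 ≤ k → k < 3452 → blockOk (k * 1) = true := f21u2

end Cfsg.Agent.Lib.Helper56_HeTop.U
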