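import Cfsg.Agent.Lib.Helper56_HeTopUDef

set_option autoImplicit false
set_option linter.constructorNameAsVariable false
set_option linter.unusedVariables false
set_option Elab.async false

namespace Cfsg.Agent.Lib.Helper56_HeTop.U

open Cfsg.Agent.Lib.Helper28_CosetPerm

theorem f22r0 : allRange blockOk 1 3452 46 = true := by decide +kernel
theorem f22u0 : ∀ k, 3452 ≤ k → k < 3498 → blockOk (k * 1) = true := between_extend blockOk 1 3452 3452 46 (between_start blockOk 1 3452) f22r0

theorem f22r1 : allRange blockOk 1 3498 46 = true := by decide +kernel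
theorem f22u1 : ∀ k, 3452 ≤ k → k < 3544 → blockOk (k * 1) = true := between_extend blockOk 1 3452 3498 46 (f22u0) f22r1

theorem f22r2 : allRange blockOk 1 3544 33 = true := by decide +kernel
theorem f22u2 : ∀ k, 3452 ≤ k → k < 3577 → blockOk (k * 1) = true := between_extend blockOk 1 3452 3544 33 (f22u1) f22r2

theorem f22 : ∀ k, 3452 ≤ k → k < 3577 → blockOk (k * 1) = true := f22u2

end Cfsg.Agent.Lib.Helper56_HeTop.U
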