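import Cfsg.Agent.Lib.Helper56_HeTopUDef

set_option autoImplicit false
set_option linter.constructorNameAsVariable false
set_option linter.unusedVariables false
set_option Elab.async false

namespace Cfsg.Agent.Lib.Helper56_HeTop.U

open Cfsg.Agent.Lib.Helper28_CosetPerm

theorem f3r0 : allRange blockOk 1 551 62 = true := by decide +kernel
theorem f3u0 : ∀ k, 551 ≤ k → k < 613 → blockOk (k * 1) = true := between_extend blockOk 1 551 551 62 (between_start blockOk 1 551) f3r0

theorem f3r1 : allRange blockOk 1 613 63 = true := by decide +kernel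
theorem f3u1 : ∀ k, 551 ≤ k → k < 676 → blockOk (k * 1) = true := between_extend blockOk 1 551 613 63 (f3u0) f3r1

theorem f3r2 : allRange blockOk 1 676 45 = true := by decide +kernel
theorem f3u2 : ∀ k, 551 ≤ k → k < 721 → blockOk (k * 1) = true := between_extend blockOk 1 551 676 45 (f3u1) f3r2

theorem f3 : ∀ k, 551 ≤ k → k < 721 → blockOk (k * 1) = true := f3u2

end Cfsg.Agent.Lib.Helper56_HeTop.U
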