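import Cfsg.Agent.Lib.Helper56_HeTopUDef

set_option autoImplicit false
set_option linter.constructorNameAsVariable false
set_option linter.unusedVariables false
set_option Elab.async false

namespace Cfsg.Agent.Lib.Helper56_HeTop.U

open Cfsg.Agent.Lib.Helper28_CosetPerm

theorem f4r0 : allRange blockOk 1 721 59 = true := by decide +kernel
theorem f4u0 : ∀ k, 721 ≤ k → k < 780 → blockOk (k * 1) = true := between_extend blockOk 1 721 721 59 (between_start blockOk 1 721) f4r0

theorem f4r1 : allRange blockOk 1 780 60 = true := by decide +kernel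
theorem f4u1 : ∀ k, 721 ≤ k → k < 840 → blockOk (k * 1) = true := between_extend blockOk 1 721 780 60 (f4u0) f4r1

theorem f4r2 : allRange blockOk 1 840 44 = true := by decide +kernel
theorem f4u2 : ∀ k, 721 ≤ k → k < 884 → blockOk (k * 1) = true := between_extend blockOk 1 721 840 44 (f4u1) f4r2

theorem f4 : ∀ k, 721 ≤ k → k < 884 → blockOk (k * 1) = true := f4u2

end Cfsg.Agent.Lib.Helper56_HeTop.U
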