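import Cfsg.Agent.Lib.Helper56_HeTopUDef

set_option autoImplicit false
set_option linter.constructorNameAsVariable false
set_option linter.unusedVariables false
set_option Elab.async false

namespace Cfsg.Agent.Lib.Helper56_HeTop.U

open Cfsg.Agent.Lib.Helper28_CosetPerm

theorem f6r0 : allRange blockOk 1 1047 60 = true := by decide +kernel
theorem f6u0 : ∀ k, 1047 ≤ k → k < 1107 → blockOk (k * 1) = true := between_extend blockOk 1 1047 1047 60 (between_start blockOk 1 1047) f6r0

theorem f6r1 : allRange blockOk 1 1107 58 = true := by decide +kernel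
theorem f6u1 : ∀ k, 1047 ≤ k → k < 1165 → blockOk (k * 1) = true := between_extend blockOk 1 1047 1107 58 (f6u0) f6r1

theorem f6r2 : allRange blockOk 1 1165 44 = true := by decide +kernel
theorem f6u2 : ∀ k, 1047 ≤ k → k < 1209 → blockOk (k * 1) = true := between_extend blockOk 1 1047 1165 44 (f6u1) f6r2

theorem f6 : ∀ k, 1047 ≤ k → k < 1209 → blockOk (k * 1) = true := f6u2

end Cfsg.Agent.Lib.Helper56_HeTop.U
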