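import Cfsg.Agent.Lib.Helper56_HeTopUDef

set_option autoImplicit false
set_option linter.constructorNameAsVariable false
set_option linter.unusedVariables false
set_option Elab.async false

namespace Cfsg.Agent.Lib.Helper56_HeTop.U

open Cfsg.Agent.Lib.Helper28_CosetPerm

theorem f7r0 : allRange blockOk 1 1209 57 = true := by decide +kernel
theorem f7u0 : ∀ k, 1209 ≤ k → k < 1266 → blockOk (k * 1) = true := between_extend blockOk 1 1209 1209 57 (between_start blockOk 1 1209) f7r0

theorem f7r1 : allRange blockOk 1 1266 59 = true := by decide +kernel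
theorem f7u1 : ∀ k, 1209 ≤ k → k < 1325 → blockOk (k * 1) = true := between_extend blockOk 1 1209 1266 59 (f7u0) f7r1

theorem f7r2 : allRange blockOk 1 1325 44 = true := by decide +kernel
theorem f7u2 : ∀ k, 1209 ≤ k → k < 1369 → blockOk (k * 1) = true := between_extend blockOk 1 1209 1325 44 (f7u1) f7r2

theorem f7 : ∀ k, 1209 ≤ k → k < 1369 → blockOk (k * 1) = true := f7u2

end Cfsg.Agent.Lib.Helper56_HeTop.U
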