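import Cfsg.Agent.Lib.Helper56_HeTopUDef

set_option autoImplicit false
set_option linter.constructorNameAsVariable false
set_option linter.unusedVariables false
set_option Elab.async false

namespace Cfsg.Agent.Lib.Helper56_HeTop.U

open Cfsg.Agent.Lib.Helper28_CosetPerm

theorem f8r0 : allRange blockOk 1 1369 64 = true := by decide +kernel
theorem f8u0 : ∀ k, 1369 ≤ k → k < 1433 → blockOk (k * 1) = true := between_extend blockOk 1 1369 1369 64 (between_start blockOk 1 1369) f8r0

theorem f8r1 : allRange blockOk 1 1433 59 = true := by decide +kernel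
theorem f8u1 : ∀ k, 1369 ≤ k → k < 1492 → blockOk (k * 1) = true := between_extend blockOk 1 1369 1433 59 (f8u0) f8r1

theorem f8r2 : allRange blockOk 1 1492 41 = true := by decide +kernel
theorem f8u2 : ∀ k, 1369 ≤ k → k < 1533 → blockOk (k * 1) = true := between_extend blockOk 1 1369 1492 41 (f8u1) f8r2

theorem f8 : ∀ k, 1369 ≤ k → k < 1533 → blockOk (k * 1) = true := f8u2

end Cfsg.Agent.Lib.Helper56_HeTop.U
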