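import Cfsg.Agent.Lib.Helper56_HeTopUDef

set_option autoImplicit false
set_option linter.constructorNameAsVariable false
set_option linter.unusedVariables false
set_option Elab.async false

namespace Cfsg.Agent.Lib.Helper56_HeTop.U

open Cfsg.Agent.Lib.Helper28_CosetPerm

theorem f9r0 : allRange blockOk 1 1533 59 = true := by decide +kernel
theorem f9u0 : ∀ k, 1533 ≤ k → k < 1592 → blockOk (k * 1) = true := between_extend blockOk 1 1533 1533 59 (between_start blockOk 1 1533) f9r0

theorem f9r1 : allRange blockOk 1 1592 58 = true := by decide +kernel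
theorem f9u1 : ∀ k, 1533 ≤ k → k < 1650 → blockOk (k * 1) = true := between_extend blockOk 1 1533 1592 58 (f9u0) f9r1

theorem f9r2 : allRange blockOk 1 1650 43 = true := by decide +kernel
theorem f9u2 : ∀ k, 1533 ≤ k → k < 1693 → blockOk (k * 1) = true := between_extend blockOk 1 1533 1650 43 (f9u1) f9r2

theorem f9 : ∀ k, 1533 ≤ k → k < 1693 → blockOk (k * 1) = true := f9u2

end Cfsg.Agent.Lib.Helper56_HeTop.U
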