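import Cfsg.Agent.Lib.Helper56_HeTopUDef

set_option autoImplicit false
set_option linter.constructorNameAsVariable false
set_option linter.unusedVariables false
set_option Elab.async false

namespace Cfsg.Agent.Lib.Helper56_HeTop.U

open Cfsg.Agent.Lib.Helper28_CosetPerm

theorem q0r0 : allRange parOk 1 0 100000 = true := by decide +kernel
theorem q0u0 : ∀ k, 0 ≤ k → k < 100000 → parOk (k * 1) = true := between_extend parOk 1 0 0 100000 (between_start parOk 1 0) q0r0

theorem q0r1 : allRange parOk 1 100000 100000 = true := by decide +kernel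
theorem q0u1 : ∀ k, 0 ≤ k → k < 200000 → parOk (k * 1) = true := between_extend parOk 1 0 100000 100000 (q0u0) q0r1

theorem q0r2 : allRange parOk 1 200000 68973 = true := by decide +kernel
theorem q0u2 : ∀ k, 0 ≤ k → k < 268973 → parOk (k * 1) = true := between_extend parOk 1 0 200000 68973 (q0u1) q0r2

theorem q0 : ∀ k, 0 ≤ k → k < 268973 → parOk (k * 1) = true := q0u2

end Cfsg.Agent.Lib.Helper56_HeTop.U
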