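import Cfsg.Agent.Lib.Helper56_HeTopUDef

set_option autoImplicit false
set_option linter.constructorNameAsVariable false
set_option linter.unusedVariables false
set_option Elab.async false

namespace Cfsg.Agent.Lib.Helper56_HeTop.U

open Cfsg.Agent.Lib.Helper28_CosetPerm

theorem r1r0 : allRange rowOk 1 22694 5245 = true := by decide +kernel
theorem r1u0 : ∀ k, 22694 ≤ k → k < 27939 → rowOk (k * 1) = true := between_extend rowOk 1 22694 22694 5245 (between_start rowOk 1 22694) r1r0

theorem r1r1 : allRange rowOk 1 27939 5137 = true := by decide +kernel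
theorem r1u1 : ∀ k, 22694 ≤ k → k < 33076 → rowOk (k * 1) = true := between_extend rowOk 1 22694 27939 5137 (r1u0) r1r1

theorem r1r2 : allRange rowOk 1 33076 5154 = true := by decide +kernel
theorem r1u2 : ∀ k, 22694 ≤ k → k < 38230 → rowOk (k * 1) = true := between_extend rowOk 1 22694 33076 5154 (r1u1) r1r2

theorem r1r3 : allRange rowOk 1 38230 5158 = true := by decide +kernel
theorem r1u3 : ∀ k, 22694 ≤ k → k < 43388 → rowOk (k * 1) = true := between_extend rowOk 1 22694 38230 5158 (r1u2) r1r3

theorem r1r4 : allRange rowOk 1 43388 1867 = true := by decide +kernel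
theorem r1u4 : ∀ k, 22694 ≤ k → k < 45255 → rowOk (k * 1) = true := between_extend rowOk 1 22694 43388 1867 (r1u3) r1r4

theorem r1 : ∀ k, 22694 ≤ k → k < 45255 → rowOk (k * 1) = true := r1u4

end Cfsg.Agent.Lib.Helper56_HeTop.U
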