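import Cfsg.Agent.Lib.Helper56_HeTopUDef

set_option autoImplicit false
set_option linter.constructorNameAsVariable false
set_option linter.unusedVariables false
set_option Elab.async false

namespace Cfsg.Agent.Lib.Helper56_HeTop.U

open Cfsg.Agent.Lib.Helper28_CosetPerm

theorem r10r0 : allRange rowOk 1 224479 5105 = true := by decide +kernel
theorem r10u0 : ∀ k, 224479 ≤ k → k < 229584 → rowOk (k * 1) = true := between_extend rowOk 1 224479 224479 5105 (between_start rowOk 1 224479) r10r0

theorem r10r1 : allRange rowOk 1 229584 5105 = true := by decide +kernel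
theorem r10u1 : ∀ k, 224479 ≤ k → k < 234689 → rowOk (k * 1) = true := between_extend rowOk 1 224479 229584 5105 (r10u0) r10r1

theorem r10r2 : allRange rowOk 1 234689 5100 = true := by decide +kernel
theorem r10u2 : ∀ k, 224479 ≤ k → k < 239789 → rowOk (k * 1) = true := between_extend rowOk 1 224479 234689 5100 (r10u1) r10r2

theorem r10r3 : allRange rowOk 1 239789 5098 = true := by decide +kernel
theorem r10u3 : ∀ k, 224479 ≤ k → k < 244887 → rowOk (k * 1) = true := between_extend rowOk 1 224479 239789 5098 (r10u2) r10r3

theorem r10r4 : allRange rowOk 1 244887 1857 = true := by decide +kernel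
theorem r10u4 : ∀ k, 224479 ≤ k → k < 246744 → rowOk (k * 1) = true := between_extend rowOk 1 224479 244887 1857 (r10u3) r10r4

theorem r10 : ∀ k, 224479 ≤ k → k < 246744 → rowOk (k * 1) = true := r10u4

end Cfsg.Agent.Lib.Helper56_HeTop.U
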