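import Cfsg.Agent.Lib.Helper56_HeTopUDef

set_option autoImplicit false
set_option linter.constructorNameAsVariable false
set_option linter.unusedVariables false
set_option Elab.async false

namespace Cfsg.Agent.Lib.Helper56_HeTop.U

open Cfsg.Agent.Lib.Helper28_CosetPerm

theorem r2r0 : allRange rowOk 1 45255 5177 = true := by decide +kernel
theorem r2u0 : ∀ k, 45255 ≤ k → k < 50432 → rowOk (k * 1) = true := between_extend rowOk 1 45255 45255 5177 (between_start rowOk 1 45255) r2r0

theorem r2r1 : allRange rowOk 1 50432 5133 = true := by decide +kernel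
theorem r2u1 : ∀ k, 45255 ≤ k → k < 55565 → rowOk (k * 1) = true := between_extend rowOk 1 45255 50432 5133 (r2u0) r2r1

theorem r2r2 : allRange rowOk 1 55565 5139 = true := by decide +kernel
theorem r2u2 : ∀ k, 45255 ≤ k → k < 60704 → rowOk (k * 1) = true := between_extend rowOk 1 45255 55565 5139 (r2u1) r2r2

theorem r2r3 : allRange rowOk 1 60704 5153 = true := by decide +kernel
theorem r2u3 : ∀ k, 45255 ≤ k → k < 65857 → rowOk (k * 1) = true := between_extend rowOk 1 45255 60704 5153 (r2u2) r2r3

theorem r2r4 : allRange rowOk 1 65857 1881 = true := by decide +kernel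
theorem r2u4 : ∀ k, 45255 ≤ k → k < 67738 → rowOk (k * 1) = true := between_extend rowOk 1 45255 65857 1881 (r2u3) r2r4

theorem r2 : ∀ k, 45255 ≤ k → k < 67738 → rowOk (k * 1) = true := r2u4

end Cfsg.Agent.Lib.Helper56_HeTop.U
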