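import Cfsg.Agent.Lib.Helper56_HeTopUDef

set_option autoImplicit false
set_option linter.constructorNameAsVariable false
set_option linter.unusedVariables false
set_option Elab.async false

namespace Cfsg.Agent.Lib.Helper56_HeTop.U

open Cfsg.Agent.Lib.Helper28_CosetPerm

theorem r3r0 : allRange rowOk 1 67738 5131 = true := by decide +kernel
theorem r3u0 : ∀ k, 67738 ≤ k → k < 72869 → rowOk (k * 1) = true := between_extend rowOk 1 67738 67738 5131 (between_start rowOk 1 67738) r3r0

theorem r3r1 : allRange rowOk 1 72869 5135 = true := by decide +kernel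
theorem r3u1 : ∀ k, 67738 ≤ k → k < 78004 → rowOk (k * 1) = true := between_extend rowOk 1 67738 72869 5135 (r3u0) r3r1

theorem r3r2 : allRange rowOk 1 78004 5146 = true := by decide +kernel
theorem r3u2 : ∀ k, 67738 ≤ k → k < 83150 → rowOk (k * 1) = true := between_extend rowOk 1 67738 78004 5146 (r3u1) r3r2

theorem r3r3 : allRange rowOk 1 83150 5132 = true := by decide +kernel
theorem r3u3 : ∀ k, 67738 ≤ k → k < 88282 → rowOk (k * 1) = true := between_extend rowOk 1 67738 83150 5132 (r3u2) r3r3

theorem r3r4 : allRange rowOk 1 88282 1888 = true := by decide +kernel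
theorem r3u4 : ∀ k, 67738 ≤ k → k < 90170 → rowOk (k * 1) = true := between_extend rowOk 1 67738 88282 1888 (r3u3) r3r4

theorem r3 : ∀ k, 67738 ≤ k → k < 90170 → rowOk (k * 1) = true := r3u4

end Cfsg.Agent.Lib.Helper56_HeTop.U
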