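import Cfsg.Agent.Lib.Helper56_HeTopUDef

set_option autoImplicit false
set_option linter.constructorNameAsVariable false
set_option linter.unusedVariables false
set_option Elab.async false

namespace Cfsg.Agent.Lib.Helper56_HeTop.U

open Cfsg.Agent.Lib.Helper28_CosetPerm

theorem r4r0 : allRange rowOk 1 90170 5110 = true := by decide +kernel
theorem r4u0 : ∀ k, 90170 ≤ k → k < 95280 → rowOk (k * 1) = true := between_extend rowOk 1 90170 90170 5110 (between_start rowOk 1 90170) r4r0

theorem r4r1 : allRange rowOk 1 95280 5154 = true := by decide +kernel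
theorem r4u1 : ∀ k, 90170 ≤ k → k < 100434 → rowOk (k * 1) = true := between_extend rowOk 1 90170 95280 5154 (r4u0) r4r1

theorem r4r2 : allRange rowOk 1 100434 5153 = true := by decide +kernel
theorem r4u2 : ∀ k, 90170 ≤ k → k < 105587 → rowOk (k * 1) = true := between_extend rowOk 1 90170 100434 5153 (r4u1) r4r2

theorem r4r3 : allRange rowOk 1 105587 5122 = true := by decide +kernel
theorem r4u3 : ∀ k, 90170 ≤ k → k < 110709 → rowOk (k * 1) = true := between_extend rowOk 1 90170 105587 5122 (r4u2) r4r3

theorem r4r4 : allRange rowOk 1 110709 1863 = true := by decide +kernel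
theorem r4u4 : ∀ k, 90170 ≤ k → k < 112572 → rowOk (k * 1) = true := between_extend rowOk 1 90170 110709 1863 (r4u3) r4r4

theorem r4 : ∀ k, 90170 ≤ k → k < 112572 → rowOk (k * 1) = true := r4u4

end Cfsg.Agent.Lib.Helper56_HeTop.U
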