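import Cfsg.Agent.Lib.Helper56_HeTopUDef

set_option autoImplicit false
set_option linter.constructorNameAsVariable false
set_option linter.unusedVariables false
set_option Elab.async false

namespace Cfsg.Agent.Lib.Helper56_HeTop.U

open Cfsg.Agent.Lib.Helper28_CosetPerm

theorem r5r0 : allRange rowOk 1 112572 5163 = true := by decide +kernel
theorem r5u0 : ∀ k, 112572 ≤ k → k < 117735 → rowOk (k * 1) = true := between_extend rowOk 1 112572 112572 5163 (between_start rowOk 1 112572) r5r0

theorem r5r1 : allRange rowOk 1 117735 5143 = true := by decide +kernel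
theorem r5u1 : ∀ k, 112572 ≤ k → k < 122878 → rowOk (k * 1) = true := between_extend rowOk 1 112572 117735 5143 (r5u0) r5r1

theorem r5r2 : allRange rowOk 1 122878 5112 = true := by decide +kernel
theorem r5u2 : ∀ k, 112572 ≤ k → k < 127990 → rowOk (k * 1) = true := between_extend rowOk 1 112572 122878 5112 (r5u1) r5r2

theorem r5r3 : allRange rowOk 1 127990 5122 = true := by decide +kernel
theorem r5u3 : ∀ k, 112572 ≤ k → k < 133112 → rowOk (k * 1) = true := between_extend rowOk 1 112572 127990 5122 (r5u2) r5r3

theorem r5r4 : allRange rowOk 1 133112 1868 = true := by decide +kernel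
theorem r5u4 : ∀ k, 112572 ≤ k → k < 134980 → rowOk (k * 1) = true := between_extend rowOk 1 112572 133112 1868 (r5u3) r5r4

theorem r5 : ∀ k, 112572 ≤ k → k < 134980 → rowOk (k * 1) = true := r5u4

end Cfsg.Agent.Lib.Helper56_HeTop.U
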