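import Cfsg.Agent.Lib.Helper56_HeTopUDef

set_option autoImplicit false
set_option linter.constructorNameAsVariable false
set_option linter.unusedVariables false
set_option Elab.async false

namespace Cfsg.Agent.Lib.Helper56_HeTop.U

open Cfsg.Agent.Lib.Helper28_CosetPerm

theorem r6r0 : allRange rowOk 1 134980 5124 = true := by decide +kernel
theorem r6u0 : ∀ k, 134980 ≤ k → k < 140104 → rowOk (k * 1) = true := between_extend rowOk 1 134980 134980 5124 (between_start rowOk 1 134980) r6r0

theorem r6r1 : allRange rowOk 1 140104 5116 = true := by decide +kernel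
theorem r6u1 : ∀ k, 134980 ≤ k → k < 145220 → rowOk (k * 1) = true := between_extend rowOk 1 134980 140104 5116 (r6u0) r6r1

theorem r6r2 : allRange rowOk 1 145220 5144 = true := by decide +kernel
theorem r6u2 : ∀ k, 134980 ≤ k → k < 150364 → rowOk (k * 1) = true := between_extend rowOk 1 134980 145220 5144 (r6u1) r6r2

theorem r6r3 : allRange rowOk 1 150364 5128 = true := by decide +kernel
theorem r6u3 : ∀ k, 134980 ≤ k → k < 155492 → rowOk (k * 1) = true := between_extend rowOk 1 134980 150364 5128 (r6u2) r6r3

theorem r6r4 : allRange rowOk 1 155492 1872 = true := by decide +kernel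
theorem r6u4 : ∀ k, 134980 ≤ k → k < 157364 → rowOk (k * 1) = true := between_extend rowOk 1 134980 155492 1872 (r6u3) r6r4

theorem r6 : ∀ k, 134980 ≤ k → k < 157364 → rowOk (k * 1) = true := r6u4

end Cfsg.Agent.Lib.Helper56_HeTop.U
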