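import Cfsg.Agent.Lib.Helper56_HeTopUDef

set_option autoImplicit false
set_option linter.constructorNameAsVariable false
set_option linter.unusedVariables false
set_option Elab.async false

namespace Cfsg.Agent.Lib.Helper56_HeTop.U

open Cfsg.Agent.Lib.Helper28_CosetPerm

theorem r7r0 : allRange rowOk 1 157364 5150 = true := by decide +kernel
theorem r7u0 : ∀ k, 157364 ≤ k → k < 162514 → rowOk (k * 1) = true := between_extend rowOk 1 157364 157364 5150 (between_start rowOk 1 157364) r7r0

theorem r7r1 : allRange rowOk 1 162514 5137 = true := by decide +kernel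
theorem r7u1 : ∀ k, 157364 ≤ k → k < 167651 → rowOk (k * 1) = true := between_extend rowOk 1 157364 162514 5137 (r7u0) r7r1

theorem r7r2 : allRange rowOk 1 167651 5140 = true := by decide +kernel
theorem r7u2 : ∀ k, 157364 ≤ k → k < 172791 → rowOk (k * 1) = true := between_extend rowOk 1 157364 167651 5140 (r7u1) r7r2

theorem r7r3 : allRange rowOk 1 172791 5145 = true := by decide +kernel
theorem r7u3 : ∀ k, 157364 ≤ k → k < 177936 → rowOk (k * 1) = true := between_extend rowOk 1 157364 172791 5145 (r7u2) r7r3

theorem r7r4 : allRange rowOk 1 177936 1876 = true := by decide +kernel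
theorem r7u4 : ∀ k, 157364 ≤ k → k < 179812 → rowOk (k * 1) = true := between_extend rowOk 1 157364 177936 1876 (r7u3) r7r4

theorem r7 : ∀ k, 157364 ≤ k → k < 179812 → rowOk (k * 1) = true := r7u4

end Cfsg.Agent.Lib.Helper56_HeTop.U
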