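import Cfsg.Agent.Lib.Helper56_HeTopUDef

set_option autoImplicit false
set_option linter.constructorNameAsVariable false
set_option linter.unusedVariables false
set_option Elab.async false

namespace Cfsg.Agent.Lib.Helper56_HeTop.U

open Cfsg.Agent.Lib.Helper28_CosetPerm

theorem r8r0 : allRange rowOk 1 179812 5111 = true := by decide +kernel
theorem r8u0 : ∀ k, 179812 ≤ k → k < 184923 → rowOk (k * 1) = true := between_extend rowOk 1 179812 179812 5111 (between_start rowOk 1 179812) r8r0

theorem r8r1 : allRange rowOk 1 184923 5125 = true := by decide +kernel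
theorem r8u1 : ∀ k, 179812 ≤ k → k < 190048 → rowOk (k * 1) = true := between_extend rowOk 1 179812 184923 5125 (r8u0) r8r1

theorem r8r2 : allRange rowOk 1 190048 5123 = true := by decide +kernel
theorem r8u2 : ∀ k, 179812 ≤ k → k < 195171 → rowOk (k * 1) = true := between_extend rowOk 1 179812 190048 5123 (r8u1) r8r2

theorem r8r3 : allRange rowOk 1 195171 5130 = true := by decide +kernel
theorem r8u3 : ∀ k, 179812 ≤ k → k < 200301 → rowOk (k * 1) = true := between_extend rowOk 1 179812 195171 5130 (r8u2) r8r3

theorem r8r4 : allRange rowOk 1 200301 1869 = true := by decide +kernel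
theorem r8u4 : ∀ k, 179812 ≤ k → k < 202170 → rowOk (k * 1) = true := between_extend rowOk 1 179812 200301 1869 (r8u3) r8r4

theorem r8 : ∀ k, 179812 ≤ k → k < 202170 → rowOk (k * 1) = true := r8u4

end Cfsg.Agent.Lib.Helper56_HeTop.U
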