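import Cfsg.Agent.Lib.Helper56_HeTopUDef

set_option autoImplicit false
set_option linter.constructorNameAsVariable false
set_option linter.unusedVariables false
set_option Elab.async false

namespace Cfsg.Agent.Lib.Helper56_HeTop.U

open Cfsg.Agent.Lib.Helper28_CosetPerm

theorem r9r0 : allRange rowOk 1 202170 5118 = true := by decide +kernel
theorem r9u0 : ∀ k, 202170 ≤ k → k < 207288 → rowOk (k * 1) = true := between_extend rowOk 1 202170 202170 5118 (between_start rowOk 1 202170) r9r0

theorem r9r1 : allRange rowOk 1 207288 5115 = true := by decide +kernel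
theorem r9u1 : ∀ k, 202170 ≤ k → k < 212403 → rowOk (k * 1) = true := between_extend rowOk 1 202170 207288 5115 (r9u0) r9r1

theorem r9r2 : allRange rowOk 1 212403 5107 = true := by decide +kernel
theorem r9u2 : ∀ k, 202170 ≤ k → k < 217510 → rowOk (k * 1) = true := between_extend rowOk 1 202170 212403 5107 (r9u1) r9r2

theorem r9r3 : allRange rowOk 1 217510 5109 = true := by decide +kernel
theorem r9u3 : ∀ k, 202170 ≤ k → k < 222619 → rowOk (k * 1) = true := between_extend rowOk 1 202170 217510 5109 (r9u2) r9r3

theorem r9r4 : allRange rowOk 1 222619 1860 = true := by decide +kernel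
theorem r9u4 : ∀ k, 202170 ≤ k → k < 224479 → rowOk (k * 1) = true := between_extend rowOk 1 202170 222619 1860 (r9u3) r9r4

theorem r9 : ∀ k, 202170 ≤ k → k < 224479 → rowOk (k * 1) = true := r9u4

end Cfsg.Agent.Lib.Helper56_HeTop.U
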