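import Cfsg.Agent.Lib.Helper56_HeTopUF0
import Cfsg.Agent.Lib.Helper56_HeTopUF1
import Cfsg.Agent.Lib.Helper56_HeTopUF2
import Cfsg.Agent.Lib.Helper56_HeTopUF3
import Cfsg.Agent.Lib.Helper56_HeTopUF4
import Cfsg.Agent.Lib.Helper56_HeTopUF5
import Cfsg.Agent.Lib.Helper56_HeTopUF6
import Cfsg.Agent.Lib.Helper56_HeTopUF7
import Cfsg.Agent.Lib.Helper56_HeTopUF8
import Cfsg.Agent.Lib.Helper56_HeTopUF9
import Cfsg.Agent.Lib.Helper56_HeTopUF10
import Cfsg.Agent.Lib.Helper56_HeTopUF11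
import Cfsg.Agent.Lib.Helper56_HeTopUF12
import Cfsg.Agent.Lib.Helper56_HeTopUF13
import Cfsg.Agent.Lib.Helper56_HeTopUF14
import Cfsg.Agent.Lib.Helper56_HeTopUF15
import Cfsg.Agent.Lib.Helper56_HeTopUF16
import Cfsg.Agent.Lib.Helper56_HeTopUF17
import Cfsg.Agent.Lib.Helper56_HeTopUF18
import Cfsg.Agent.Lib.Helper56_HeTopUF19
import Cfsg.Agent.Lib.Helper56_HeTopUF20
import Cfsg.Agent.Lib.Helper56_HeTopUF21
import Cfsg.Agent.Lib.Helper56_HeTopUF22
import Cfsg.Agent.Lib.Helper56_HeTopUF23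
import Cfsg.Agent.Lib.Helper56_HeTopUR0
import Cfsg.Agent.Lib.Helper56_HeTopUR1
import Cfsg.Agent.Lib.Helper56_HeTopUR2
import Cfsg.Agent.Lib.Helper56_HeTopUR3
import Cfsg.Agent.Lib.Helper56_HeTopUR4
import Cfsg.Agent.Lib.Helper56_HeTopUR5
import Cfsg.Agent.Lib.Helper56_HeTopUR6
import Cfsg.Agent.Lib.Helper56_HeTopUR7
import Cfsg.Agent.Lib.Helper56_HeTopUR8
import Cfsg.Agent.Lib.Helper56_HeTopUR9
import Cfsg.Agent.Lib.Helper56_HeTopUR10
import Cfsg.Agent.Lib.Helper56_HeTopUR11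
import Cfsg.Agent.Lib.Helper56_HeTopUQ0

set_option autoImplicit false
set_option linter.constructorNameAsVariable false
set_option linter.unusedVariables false
set_option Elab.async false

namespace Cfsg.Agent.Lib.Helper56_HeTop.U

open Cfsg.Spor Cfsg.Agent.Lib.Helper28_CosetUp Cfsg.Agent.Lib.Helper28_CosetUpCox Cfsg.Agent.Lib.Helper28_CosetPerm Cfsg.Agent.Lib.Helper28_CosetCox

theorem blocks_ok : ∀ j, j < 3688 → blockB par plet fact inv word 47 52 268973 (Nat.mul j 256) 256 0 (certBlk j) = true := by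
  intro j hj
  have h := between_all blockOk 1 3688 (between_trans blockOk 1 0 3577 3688 (between_trans blockOk 1 0 3452 3577 (between_trans blockOk 1 0 3323 3452 (between_trans blockOk 1 0 3191 3323 (between_trans blockOk 1 0 3056 3191 (between_trans blockOk 1 0 2917 3056 (between_trans blockOk 1 0 2776 2917 (between_trans blockOk 1 0 2631 2776 (between_trans blockOk 1 0 2482 2631 (between_trans blockOk 1 0 2330 2482 (between_trans blockOk 1 0 2175 2330 (between_trans blockOk 1 0 2021 2175 (between_trans blockOk 1 0 1857 2021 (between_trans blockOk 1 0 1693 1857 (between_trans blockOk 1 0 1533 1693 (between_trans blockOk 1 0 1369 1533 (between_trans blockOk 1 0 1209 1369 (between_trans blockOk 1 0 1047 1209 (between_trans blockOk 1 0 884 1047 (between_trans blockOk 1 0 721 884 (between_trans blockOk 1 0 551 721 (between_trans blockOk 1 0 375 551 (between_trans blockOk 1 0 193 375 f0 f1) f2) f3) f4) f5) f6) f7) f8) f9) f10) f11) f12)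 f13) f14) f15) f16) f17) f18) f19) f20) f21) f22) f23) j hj
  rw [Nat.mul_one] at h
  rw [← blockF_eq]
  exact h

theorem rows_ok : ∀ v, v < 268973 → rowB fact inv 268973 isFin row 944128 (2 * 7) v = true := by
  intro v hv
  have h := between_all rowOk 1 268973 (between_trans rowOk 1 0 246744 268973 (between_trans rowOk 1 0 224479 246744 (between_trans rowOk 1 0 202170 224479 (between_trans rowOk 1 0 179812 202170 (between_trans rowOk 1 0 157364 179812 (between_trans rowOk 1 0 134980 157364 (between_trans rowOk 1 0 112572 134980 (between_trans rowOk 1 0 90170 112572 (between_trans rowOk 1 0 67738 90170 (between_trans rowOk 1 0 45255 67738 (between_trans rowOk 1 0 22694 45255 r0 r1) r2) r3) r4) r5) r6) r7) r8) r9) r10) r11) v hv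
  rw [Nat.mul_one] at h
  rw [← rowF_eq]
  exact h

theorem par_ok : ∀ v, 0 < v → v < 268973 → par v < v := by
  intro v h0 hv
  have h := between_all parOk 1 268973 q0 v hv
  rw [Nat.mul_one] at h
  unfold parOk at h
  rw [Bool.or_eq_true] at h
  rcases h with h | h
  · exact absurd (Nat.eq_of_beq_eq_true h) (Nat.ne_of_gt h0)
  · exact lt_of_blt h

theorem inv_ok : ∀ g, inv g = true → genP gname (Cfsg.Spor.coxRelators Cfsg.Spor.He.edges ∪ {r | r ∈ Cfsg.Spor.He.extra}) g * genP gname (Cfsg.Spor.coxRelators Cfsg.Spor.He.edges ∪ {r | r ∈ Cfsg.Spor.He.extra}) g = 1 := by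
  intro g hg
  apply gen_sq_of_node
  have h1 : g < 7 := by
    unfold inv at hg
    rw [Bool.and_eq_true] at hg
    exact lt_of_blt hg.1
  interval_cases g <;> first | (exact absurd hg (by decide)) | decide

set_option maxRecDepth 100000 in
theorem relwords_ok : ∀ wid, wid < 47 → RelWordT Cfsg.Spor.He.edges Cfsg.Spor.He.extra (toWord gname (word wid)) := by decide

theorem free_ok : ∀ wid, wid < 47 → wordVal (genP gname (Cfsg.Spor.coxRelators Cfsg.Spor.He.edges ∪ {r | r ∈ Cfsg.Spor.He.extra})) (word wid) = 1 := by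
  intro wid h
  rw [wordVal_eq]
  exact mk_eq_one_of_relWordT _ _ _ (relwords_ok wid h)

theorem sub_ok : ∀ wid, wid < 52 → wordVal (genP gname (Cfsg.Spor.coxRelators Cfsg.Spor.He.edges ∪ {r | r ∈ Cfsg.Spor.He.extra})) (word wid) ∈ ((Subgroup.closure ({Cfsg.Spor.He.a, Cfsg.Spor.He.b, Cfsg.Spor.He.c, Cfsg.Spor.He.d, Cfsg.Spor.He.e} : Set (FreeGroup Cfsg.Spor.He.Gen))).map (PresentedGroup.mk (Cfsg.Spor.coxRelators Cfsg.Spor.He.edges ∪ {r | r ∈ Cfsg.Spor.He.extra}))) := by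
  intro wid h
  rcases Nat.lt_or_ge wid 47 with h1 | h1
  · rw [free_ok wid h1]; exact Subgroup.one_mem _
  · rw [wordVal_eq]
    apply Subgroup.mem_map_of_mem
    apply Subgroup.subset_closure
    interval_cases wid <;> (simp only [Set.mem_insert_iff, Set.mem_singleton_iff]; decide)

theorem holds_all : ∀ f, f < 944128 → Holds ((Subgroup.closure ({Cfsg.Spor.He.a, Cfsg.Spor.He.b, Cfsg.Spor.He.c, Cfsg.Spor.He.d, Cfsg.Spor.He.e} : Set (FreeGroup Cfsg.Spor.He.Gen))).map (PresentedGroup.mk (Cfsg.Spor.coxRelators Cfsg.Spor.He.edges ∪ {r | r ∈ Cfsg.Spor.He.extra}))) (genP gname (Cfsg.Spor.coxRelators Cfsg.Spor.He.edges ∪ {r | r ∈ Cfsg.Spor.He.extra})) par plet (fact f) := by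
  have h := holds_of_blocks ((Subgroup.closure ({Cfsg.Spor.He.a, Cfsg.Spor.He.b, Cfsg.Spor.He.c, Cfsg.Spor.He.d, Cfsg.Spor.He.e} : Set (FreeGroup Cfsg.Spor.He.Gen))).map (PresentedGroup.mk (Cfsg.Spor.coxRelators Cfsg.Spor.He.edges ∪ {r | r ∈ Cfsg.Spor.He.extra}))) (genP gname (Cfsg.Spor.coxRelators Cfsg.Spor.He.edges ∪ {r | r ∈ Cfsg.Spor.He.extra})) par plet fact inv word 47 52 268973 inv_ok free_ok sub_ok par_ok 256 certBlk 3688 blocks_ok
  intro f hf
  exact h f (by norm_num; exact hf)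

theorem gen_top : Subgroup.closure (Set.range fun g : Fin 7 => genP gname (Cfsg.Spor.coxRelators Cfsg.Spor.He.edges ∪ {r | r ∈ Cfsg.Spor.He.extra}) g) = ⊤ := by
  apply closure_genP
  intro a
  cases a
  · exact ⟨0, by decide, rfl⟩
  · exact ⟨1, by decide, rfl⟩
  · exact ⟨2, by decide, rfl⟩
  · exact ⟨3, by decide, rfl⟩
  · exact ⟨4, by decide, rfl⟩
  · exact ⟨5, by decide, rfl⟩
  · exact ⟨6, by decide, rfl⟩

theorem cnt_fin : cntB isFin 268973 = 266560 := by decide +kernel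

/-- the upper bound -/
theorem upper : ((Subgroup.closure ({Cfsg.Spor.He.a, Cfsg.Spor.He.b, Cfsg.Spor.He.c, Cfsg.Spor.He.d, Cfsg.Spor.He.e} : Set (FreeGroup Cfsg.Spor.He.Gen))).map (PresentedGroup.mk (Cfsg.Spor.coxRelators Cfsg.Spor.He.edges ∪ {r | r ∈ Cfsg.Spor.He.extra}))).index ≠ 0 ∧ ((Subgroup.closure ({Cfsg.Spor.He.a, Cfsg.Spor.He.b, Cfsg.Spor.He.c, Cfsg.Spor.He.d, Cfsg.Spor.He.e} : Set (FreeGroup Cfsg.Spor.He.Gen))).map (PresentedGroup.mk (Cfsg.Spor.coxRelators Cfsg.Spor.He.edges ∪ {r | r ∈ Cfsg.Spor.He.extra}))).index ≤ 266560 := by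
  have h := index_le_of_cert ((Subgroup.closure ({Cfsg.Spor.He.a, Cfsg.Spor.He.b, Cfsg.Spor.He.c, Cfsg.Spor.He.d, Cfsg.Spor.He.e} : Set (FreeGroup Cfsg.Spor.He.Gen))).map (PresentedGroup.mk (Cfsg.Spor.coxRelators Cfsg.Spor.He.edges ∪ {r | r ∈ Cfsg.Spor.He.extra}))) (genP gname (Cfsg.Spor.coxRelators Cfsg.Spor.He.edges ∪ {r | r ∈ Cfsg.Spor.He.extra})) par plet fact inv word 47 52 268973 isFin row 944128 inv_ok free_ok sub_ok par_ok holds_all 7 rows_ok (by decide +kernel) (by norm_num) gen_top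
  rw [card_filter_range_eq_cntB, cnt_fin] at h
  exact h

end Cfsg.Agent.Lib.Helper56_HeTop.U
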