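import Cfsg.Agent.Lib.Helper28_CosetUpCox
import Cfsg.Agent.Lib.Helper28_CosetPerm
import Cfsg.Agent.Lib.Helper56_HeTopUTab0
import Cfsg.Agent.Lib.Helper56_HeTopUTab1
import Cfsg.Agent.Lib.Helper56_HeTopUTab2
import Cfsg.Agent.Lib.Helper56_HeTopUTab3
import Cfsg.Agent.Lib.Helper56_HeTopUTab4
import Cfsg.Agent.Lib.Helper56_HeTopUTab5
import Cfsg.Agent.Lib.Helper56_HeTopUTab6
import Cfsg.Agent.Lib.Helper56_HeTopUTab7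
import Cfsg.Agent.Lib.Helper56_HeTopUTab8
import Cfsg.Agent.Lib.Helper56_HeTopUTab9
import Cfsg.Agent.Lib.Helper56_HeTopUTab10
import Cfsg.Prelude.Def_Spor_He

set_option autoImplicit false
set_option linter.constructorNameAsVariable false
set_option linter.unusedVariables false
set_option Elab.async false

namespace Cfsg.Agent.Lib.Helper56_HeTop.U

open Cfsg.Spor Cfsg.Agent.Lib.Helper28_CosetUp Cfsg.Agent.Lib.Helper28_CosetUpCox Cfsg.Agent.Lib.Helper56_HeTopUTab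

def factBlk_n0_0 (i : ℕ) : ℕ := (@Bool.rec (fun _ => ℕ) (@Bool.rec (fun _ => ℕ) (@Bool.rec (fun _ => ℕ) (@Bool.rec (fun _ => ℕ) (@Bool.rec (fun _ => ℕ) fb0 fb1 (Nat.ble (nat_lit 1) i)) (@Bool.rec (fun _ => ℕ) fb2 fb3 (Nat.ble (nat_lit 3) i)) (Nat.ble (nat_lit 2) i)) (@Bool.rec (fun _ => ℕ) (@Bool.rec (fun _ => ℕ) fb4 fb5 (Nat.ble (nat_lit 5) i)) (@Bool.rec (fun _ => ℕ) fb6 fb7 (Nat.ble (nat_lit 7) i)) (Nat.ble (nat_lit 6) i)) (Nat.ble (nat_lit 4) i)) (@Bool.rec (fun _ => ℕ) (@Bool.rec (fun _ => ℕ) (@Bool.rec (fun _ => ℕ) fb8 fb9 (Nat.ble (nat_lit 9) i)) (@Bool.rec (fun _ => ℕ) fb10 fb11 (Nat.ble (nat_lit 11) i)) (Nat.ble (nat_lit 10) i)) (@Bool.rec (fun _ => ℕ) (@Bool.rec (fun _ => ℕ) fb12 fb13 (Nat.ble (nat_lit 13) i)) (@Bool.rec (fun _ => ℕ) fb14 fb15 (Nat.ble (nat_lit 15) i)) (Nat.ble (nat_lit 14)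 i)) (Nat.ble (nat_lit 12) i)) (Nat.ble (nat_lit 8) i)) (@Bool.rec (fun _ => ℕ) (@Bool.rec (fun _ => ℕ) (@Bool.rec (fun _ => ℕ) (@Bool.rec (fun _ => ℕ) fb16 fb17 (Nat.ble (nat_lit 17) i)) (@Bool.rec (fun _ => ℕ) fb18 fb19 (Nat.ble (nat_lit 19) i)) (Nat.ble (nat_lit 18) i)) (@Bool.rec (fun _ => ℕ) (@Bool.rec (fun _ => ℕ) fb20 fb21 (Nat.ble (nat_lit 21) i)) (@Bool.rec (fun _ => ℕ) fb22 fb23 (Nat.ble (nat_lit 23) i)) (Nat.ble (nat_lit 22) i)) (Nat.ble (nat_lit 20) i)) (@Bool.rec (fun _ => ℕ) (@Bool.rec (fun _ => ℕ) (@Bool.rec (fun _ => ℕ) fb24 fb25 (Nat.ble (nat_lit 25) i)) (@Bool.rec (fun _ => ℕ) fb26 fb27 (Nat.ble (nat_lit 27) i)) (Nat.ble (nat_lit 26) i)) (@Bool.rec (fun _ => ℕ) (@Bool.rec (fun _ => ℕ) fb28 fb29 (Nat.ble (nat_lit 29) i)) (@Bool.rec (fun _ => ℕ) fb30 fb31 (Nat.ble (nat_lit 31) i)) (Nat.ble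 (nat_lit 30) i)) (Nat.ble (nat_lit 28) i)) (Nat.ble (nat_lit 24) i)) (Nat.ble (nat_lit 16) i))

def factBlk_n0_1 (i : ℕ) : ℕ := (@Bool.rec (fun _ => ℕ) (@Bool.rec (fun _ => ℕ) (@Bool.rec (fun _ => ℕ) (@Bool.rec (fun _ => ℕ) (@Bool.rec (fun _ => ℕ) fb32 fb33 (Nat.ble (nat_lit 33) i)) (@Bool.rec (fun _ => ℕ) fb34 fb35 (Nat.ble (nat_lit 35) i)) (Nat.ble (nat_lit 34) i)) (@Bool.rec (fun _ => ℕ) (@Bool.rec (fun _ => ℕ) fb36 fb37 (Nat.ble (nat_lit 37) i)) (@Bool.rec (fun _ => ℕ) fb38 fb39 (Nat.ble (nat_lit 39) i)) (Nat.ble (nat_lit 38) i)) (Nat.ble (nat_lit 36) i)) (@Bool.rec (fun _ => ℕ) (@Bool.rec (fun _ => ℕ) (@Bool.rec (fun _ => ℕ) fb40 fb41 (Nat.ble (nat_lit 41) i)) (@Bool.rec (fun _ => ℕ) fb42 fb43 (Nat.ble (nat_lit 43) i)) (Nat.ble (nat_lit 42) i)) (@Bool.rec (fun _ => ℕ) (@Bool.rec (fun _ => ℕ) fb44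 fb45 (Nat.ble (nat_lit 45) i)) (@Bool.rec (fun _ => ℕ) fb46 fb47 (Nat.ble (nat_lit 47) i)) (Nat.ble (nat_lit 46) i)) (Nat.ble (nat_lit 44) i)) (Nat.ble (nat_lit 40) i)) (@Bool.rec (fun _ => ℕ) (@Bool.rec (fun _ => ℕ) (@Bool.rec (fun _ => ℕ) (@Bool.rec (fun _ => ℕ) fb48 fb49 (Nat.ble (nat_lit 49) i)) (@Bool.rec (fun _ => ℕ) fb50 fb51 (Nat.ble (nat_lit 51) i)) (Nat.ble (nat_lit 50) i)) (@Bool.rec (fun _ => ℕ) (@Bool.rec (fun _ => ℕ) fb52 fb53 (Nat.ble (nat_lit 53) i)) (@Bool.rec (fun _ => ℕ) fb54 fb55 (Nat.ble (nat_lit 55) i)) (Nat.ble (nat_lit 54) i)) (Nat.ble (nat_lit 52) i)) (@Bool.rec (fun _ => ℕ) (@Bool.rec (fun _ => ℕ) (@Bool.rec (fun _ => ℕ) fb56 fb57 (Nat.ble (nat_lit 57) i)) (@Bool.rec (fun _ => ℕ) fb58 fb59 (Nat.ble (nat_lit 59) i)) (Nat.ble (nat_lit 58) i)) (@Bool.rec (fun _ => ℕ) (@Bool.rec (fun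 _ => ℕ) fb60 fb61 (Nat.ble (nat_lit 61) i)) (@Bool.rec (fun _ => ℕ) fb62 fb63 (Nat.ble (nat_lit 63) i)) (Nat.ble (nat_lit 62) i)) (Nat.ble (nat_lit 60) i)) (Nat.ble (nat_lit 56) i)) (Nat.ble (nat_lit 48) i))

def factBlk_n0_2 (i : ℕ) : ℕ := (@Bool.rec (fun _ => ℕ) (@Bool.rec (fun _ => ℕ) (@Bool.rec (fun _ => ℕ) (@Bool.rec (fun _ => ℕ) (@Bool.rec (fun _ => ℕ) fb64 fb65 (Nat.ble (nat_lit 65) i)) (@Bool.rec (fun _ => ℕ) fb66 fb67 (Nat.ble (nat_lit 67) i)) (Nat.ble (nat_lit 66) i)) (@Bool.rec (fun _ => ℕ) (@Bool.rec (fun _ => ℕ) fb68 fb69 (Nat.ble (nat_lit 69) i)) (@Bool.rec (fun _ => ℕ) fb70 fb71 (Nat.ble (nat_lit 71) i)) (Nat.ble (nat_lit 70) i)) (Nat.ble (nat_lit 68) i)) (@Bool.rec (fun _ => ℕ) (@Bool.rec (fun _ => ℕ) (@Bool.rec (fun _ => ℕ) fb72 fb73 (Nat.ble (nat_lit 73) i)) (@Bool.rec (fun _ => ℕ) fb74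 fb75 (Nat.ble (nat_lit 75) i)) (Nat.ble (nat_lit 74) i)) (@Bool.rec (fun _ => ℕ) (@Bool.rec (fun _ => ℕ) fb76 fb77 (Nat.ble (nat_lit 77) i)) (@Bool.rec (fun _ => ℕ) fb78 fb79 (Nat.ble (nat_lit 79) i)) (Nat.ble (nat_lit 78) i)) (Nat.ble (nat_lit 76) i)) (Nat.ble (nat_lit 72) i)) (@Bool.rec (fun _ => ℕ) (@Bool.rec (fun _ => ℕ) (@Bool.rec (fun _ => ℕ) (@Bool.rec (fun _ => ℕ) fb80 fb81 (Nat.ble (nat_lit 81) i)) (@Bool.rec (fun _ => ℕ) fb82 fb83 (Nat.ble (nat_lit 83) i)) (Nat.ble (nat_lit 82) i)) (@Bool.rec (fun _ => ℕ) (@Bool.rec (fun _ => ℕ) fb84 fb85 (Nat.ble (nat_lit 85) i)) (@Bool.rec (fun _ => ℕ) fb86 fb87 (Nat.ble (nat_lit 87) i)) (Nat.ble (nat_lit 86) i)) (Nat.ble (nat_lit 84) i)) (@Bool.rec (fun _ => ℕ) (@Bool.rec (fun _ => ℕ) (@Bool.rec (fun _ => ℕ) fb88 fb89 (Nat.ble (nat_lit 89) i)) (@Bool.rec (fun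 _ => ℕ) fb90 fb91 (Nat.ble (nat_lit 91) i)) (Nat.ble (nat_lit 90) i)) (@Bool.rec (fun _ => ℕ) (@Bool.rec (fun _ => ℕ) fb92 fb93 (Nat.ble (nat_lit 93) i)) (@Bool.rec (fun _ => ℕ) fb94 fb95 (Nat.ble (nat_lit 95) i)) (Nat.ble (nat_lit 94) i)) (Nat.ble (nat_lit 92) i)) (Nat.ble (nat_lit 88) i)) (Nat.ble (nat_lit 80) i))

def factBlk_n0_3 (i : ℕ) : ℕ := (@Bool.rec (fun _ => ℕ) (@Bool.rec (fun _ => ℕ) (@Bool.rec (fun _ => ℕ) (@Bool.rec (fun _ => ℕ) (@Bool.rec (fun _ => ℕ) fb96 fb97 (Nat.ble (nat_lit 97) i)) (@Bool.rec (fun _ => ℕ) fb98 fb99 (Nat.ble (nat_lit 99) i)) (Nat.ble (nat_lit 98) i)) (@Bool.rec (fun _ => ℕ) (@Bool.rec (fun _ => ℕ) fb100 fb101 (Nat.ble (nat_lit 101) i)) (@Bool.rec (fun _ => ℕ) fb102 fb103 (Nat.ble (nat_lit 103) i)) (Nat.ble (nat_lit 102) i)) (Nat.ble (nat_lit 100) i)) (@Bool.rec (fun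 _ => ℕ) (@Bool.rec (fun _ => ℕ) (@Bool.rec (fun _ => ℕ) fb104 fb105 (Nat.ble (nat_lit 105) i)) (@Bool.rec (fun _ => ℕ) fb106 fb107 (Nat.ble (nat_lit 107) i)) (Nat.ble (nat_lit 106) i)) (@Bool.rec (fun _ => ℕ) (@Bool.rec (fun _ => ℕ) fb108 fb109 (Nat.ble (nat_lit 109) i)) (@Bool.rec (fun _ => ℕ) fb110 fb111 (Nat.ble (nat_lit 111) i)) (Nat.ble (nat_lit 110) i)) (Nat.ble (nat_lit 108) i)) (Nat.ble (nat_lit 104) i)) (@Bool.rec (fun _ => ℕ) (@Bool.rec (fun _ => ℕ) (@Bool.rec (fun _ => ℕ) (@Bool.rec (fun _ => ℕ) fb112 fb113 (Nat.ble (nat_lit 113) i)) (@Bool.rec (fun _ => ℕ) fb114 fb115 (Nat.ble (nat_lit 115) i)) (Nat.ble (nat_lit 114) i)) (@Bool.rec (fun _ => ℕ) (@Bool.rec (fun _ => ℕ) fb116 fb117 (Nat.ble (nat_lit 117) i)) (@Bool.rec (fun _ => ℕ) fb118 fb119 (Nat.ble (nat_lit 119) i)) (Nat.ble (nat_lit 118)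 i)) (Nat.ble (nat_lit 116) i)) (@Bool.rec (fun _ => ℕ) (@Bool.rec (fun _ => ℕ) (@Bool.rec (fun _ => ℕ) fb120 fb121 (Nat.ble (nat_lit 121) i)) (@Bool.rec (fun _ => ℕ) fb122 fb123 (Nat.ble (nat_lit 123) i)) (Nat.ble (nat_lit 122) i)) (@Bool.rec (fun _ => ℕ) (@Bool.rec (fun _ => ℕ) fb124 fb125 (Nat.ble (nat_lit 125) i)) (@Bool.rec (fun _ => ℕ) fb126 fb127 (Nat.ble (nat_lit 127) i)) (Nat.ble (nat_lit 126) i)) (Nat.ble (nat_lit 124) i)) (Nat.ble (nat_lit 120) i)) (Nat.ble (nat_lit 112) i))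

def factBlk_n0_4 (i : ℕ) : ℕ := (@Bool.rec (fun _ => ℕ) (@Bool.rec (fun _ => ℕ) (@Bool.rec (fun _ => ℕ) (@Bool.rec (fun _ => ℕ) (@Bool.rec (fun _ => ℕ) fb128 fb129 (Nat.ble (nat_lit 129) i)) (@Bool.rec (fun _ => ℕ) fb130 fb131 (Nat.ble (nat_lit 131) i)) (Nat.ble (nat_lit 130) i)) (@Bool.rec (fun _ => ℕ) (@Bool.rec (fun _ => ℕ) fb132 fb133 (Nat.ble (nat_lit 133) i)) (@Bool.rec (fun _ => ℕ) fb134 fb135 (Nat.ble (nat_lit 135) i)) (Nat.ble (nat_lit 134) i)) (Nat.ble (nat_lit 132) i)) (@Bool.rec (fun _ => ℕ) (@Bool.rec (fun _ => ℕ) (@Bool.rec (fun _ => ℕ) fb136 fb137 (Nat.ble (nat_lit 137) i)) (@Bool.rec (fun _ => ℕ) fb138 fb139 (Nat.ble (nat_lit 139) i)) (Nat.ble (nat_lit 138) i)) (@Bool.rec (fun _ => ℕ) (@Bool.rec (fun _ => ℕ) fb140 fb141 (Nat.ble (nat_lit 141) i)) (@Bool.rec (fun _ => ℕ) fb142 fb143 (Nat.ble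 (nat_lit 143) i)) (Nat.ble (nat_lit 142) i)) (Nat.ble (nat_lit 140) i)) (Nat.ble (nat_lit 136) i)) (@Bool.rec (fun _ => ℕ) (@Bool.rec (fun _ => ℕ) (@Bool.rec (fun _ => ℕ) (@Bool.rec (fun _ => ℕ) fb144 fb145 (Nat.ble (nat_lit 145) i)) (@Bool.rec (fun _ => ℕ) fb146 fb147 (Nat.ble (nat_lit 147) i)) (Nat.ble (nat_lit 146) i)) (@Bool.rec (fun _ => ℕ) (@Bool.rec (fun _ => ℕ) fb148 fb149 (Nat.ble (nat_lit 149) i)) (@Bool.rec (fun _ => ℕ) fb150 fb151 (Nat.ble (nat_lit 151) i)) (Nat.ble (nat_lit 150) i)) (Nat.ble (nat_lit 148) i)) (@Bool.rec (fun _ => ℕ) (@Bool.rec (fun _ => ℕ) (@Bool.rec (fun _ => ℕ) fb152 fb153 (Nat.ble (nat_lit 153) i)) (@Bool.rec (fun _ => ℕ) fb154 fb155 (Nat.ble (nat_lit 155) i)) (Nat.ble (nat_lit 154) i)) (@Bool.rec (fun _ => ℕ) (@Bool.rec (fun _ => ℕ) fb156 fb157 (Nat.ble (nat_lit 157) i))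 (@Bool.rec (fun _ => ℕ) fb158 fb159 (Nat.ble (nat_lit 159) i)) (Nat.ble (nat_lit 158) i)) (Nat.ble (nat_lit 156) i)) (Nat.ble (nat_lit 152) i)) (Nat.ble (nat_lit 144) i))

def factBlk_n0_5 (i : ℕ) : ℕ := (@Bool.rec (fun _ => ℕ) (@Bool.rec (fun _ => ℕ) (@Bool.rec (fun _ => ℕ) (@Bool.rec (fun _ => ℕ) (@Bool.rec (fun _ => ℕ) fb160 fb161 (Nat.ble (nat_lit 161) i)) (@Bool.rec (fun _ => ℕ) fb162 fb163 (Nat.ble (nat_lit 163) i)) (Nat.ble (nat_lit 162) i)) (@Bool.rec (fun _ => ℕ) (@Bool.rec (fun _ => ℕ) fb164 fb165 (Nat.ble (nat_lit 165) i)) (@Bool.rec (fun _ => ℕ) fb166 fb167 (Nat.ble (nat_lit 167) i)) (Nat.ble (nat_lit 166) i)) (Nat.ble (nat_lit 164) i)) (@Bool.rec (fun _ => ℕ) (@Bool.rec (fun _ => ℕ) (@Bool.rec (fun _ => ℕ) fb168 fb169 (Nat.ble (nat_lit 169) i)) (@Bool.rec (fun _ => ℕ) fb170 fb171 (Nat.ble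 (nat_lit 171) i)) (Nat.ble (nat_lit 170) i)) (@Bool.rec (fun _ => ℕ) (@Bool.rec (fun _ => ℕ) fb172 fb173 (Nat.ble (nat_lit 173) i)) (@Bool.rec (fun _ => ℕ) fb174 fb175 (Nat.ble (nat_lit 175) i)) (Nat.ble (nat_lit 174) i)) (Nat.ble (nat_lit 172) i)) (Nat.ble (nat_lit 168) i)) (@Bool.rec (fun _ => ℕ) (@Bool.rec (fun _ => ℕ) (@Bool.rec (fun _ => ℕ) (@Bool.rec (fun _ => ℕ) fb176 fb177 (Nat.ble (nat_lit 177) i)) (@Bool.rec (fun _ => ℕ) fb178 fb179 (Nat.ble (nat_lit 179) i)) (Nat.ble (nat_lit 178) i)) (@Bool.rec (fun _ => ℕ) (@Bool.rec (fun _ => ℕ) fb180 fb181 (Nat.ble (nat_lit 181) i)) (@Bool.rec (fun _ => ℕ) fb182 fb183 (Nat.ble (nat_lit 183) i)) (Nat.ble (nat_lit 182) i)) (Nat.ble (nat_lit 180) i)) (@Bool.rec (fun _ => ℕ) (@Bool.rec (fun _ => ℕ) (@Bool.rec (fun _ => ℕ) fb184 fb185 (Nat.ble (nat_lit 185) i))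 (@Bool.rec (fun _ => ℕ) fb186 fb187 (Nat.ble (nat_lit 187) i)) (Nat.ble (nat_lit 186) i)) (@Bool.rec (fun _ => ℕ) (@Bool.rec (fun _ => ℕ) fb188 fb189 (Nat.ble (nat_lit 189) i)) (@Bool.rec (fun _ => ℕ) fb190 fb191 (Nat.ble (nat_lit 191) i)) (Nat.ble (nat_lit 190) i)) (Nat.ble (nat_lit 188) i)) (Nat.ble (nat_lit 184) i)) (Nat.ble (nat_lit 176) i))

def factBlk_n0_6 (i : ℕ) : ℕ := (@Bool.rec (fun _ => ℕ) (@Bool.rec (fun _ => ℕ) (@Bool.rec (fun _ => ℕ) (@Bool.rec (fun _ => ℕ) (@Bool.rec (fun _ => ℕ) fb192 fb193 (Nat.ble (nat_lit 193) i)) (@Bool.rec (fun _ => ℕ) fb194 fb195 (Nat.ble (nat_lit 195) i)) (Nat.ble (nat_lit 194) i)) (@Bool.rec (fun _ => ℕ) (@Bool.rec (fun _ => ℕ) fb196 fb197 (Nat.ble (nat_lit 197) i)) (@Bool.rec (fun _ => ℕ) fb198 fb199 (Nat.ble (nat_lit 199) i)) (Nat.ble (nat_lit 198) i)) (Nat.ble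 (nat_lit 196) i)) (@Bool.rec (fun _ => ℕ) (@Bool.rec (fun _ => ℕ) (@Bool.rec (fun _ => ℕ) fb200 fb201 (Nat.ble (nat_lit 201) i)) (@Bool.rec (fun _ => ℕ) fb202 fb203 (Nat.ble (nat_lit 203) i)) (Nat.ble (nat_lit 202) i)) (@Bool.rec (fun _ => ℕ) (@Bool.rec (fun _ => ℕ) fb204 fb205 (Nat.ble (nat_lit 205) i)) (@Bool.rec (fun _ => ℕ) fb206 fb207 (Nat.ble (nat_lit 207) i)) (Nat.ble (nat_lit 206) i)) (Nat.ble (nat_lit 204) i)) (Nat.ble (nat_lit 200) i)) (@Bool.rec (fun _ => ℕ) (@Bool.rec (fun _ => ℕ) (@Bool.rec (fun _ => ℕ) (@Bool.rec (fun _ => ℕ) fb208 fb209 (Nat.ble (nat_lit 209) i)) (@Bool.rec (fun _ => ℕ) fb210 fb211 (Nat.ble (nat_lit 211) i)) (Nat.ble (nat_lit 210) i)) (@Bool.rec (fun _ => ℕ) (@Bool.rec (fun _ => ℕ) fb212 fb213 (Nat.ble (nat_lit 213) i)) (@Bool.rec (fun _ => ℕ) fb214 fb215 (Nat.ble (nat_lit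 215) i)) (Nat.ble (nat_lit 214) i)) (Nat.ble (nat_lit 212) i)) (@Bool.rec (fun _ => ℕ) (@Bool.rec (fun _ => ℕ) (@Bool.rec (fun _ => ℕ) fb216 fb217 (Nat.ble (nat_lit 217) i)) (@Bool.rec (fun _ => ℕ) fb218 fb219 (Nat.ble (nat_lit 219) i)) (Nat.ble (nat_lit 218) i)) (@Bool.rec (fun _ => ℕ) (@Bool.rec (fun _ => ℕ) fb220 fb221 (Nat.ble (nat_lit 221) i)) (@Bool.rec (fun _ => ℕ) fb222 fb223 (Nat.ble (nat_lit 223) i)) (Nat.ble (nat_lit 222) i)) (Nat.ble (nat_lit 220) i)) (Nat.ble (nat_lit 216) i)) (Nat.ble (nat_lit 208) i))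

def factBlk_n0_7 (i : ℕ) : ℕ := (@Bool.rec (fun _ => ℕ) (@Bool.rec (fun _ => ℕ) (@Bool.rec (fun _ => ℕ) (@Bool.rec (fun _ => ℕ) (@Bool.rec (fun _ => ℕ) fb224 fb225 (Nat.ble (nat_lit 225) i)) (@Bool.rec (fun _ => ℕ) fb226 fb227 (Nat.ble (nat_lit 227) i)) (Nat.ble (nat_lit 226) i)) (@Bool.rec (fun _ => ℕ) (@Bool.rec (fun _ => ℕ) fb228 fb229 (Nat.ble (nat_lit 229) i)) (@Bool.rec (fun _ => ℕ) fb230 fb231 (Nat.ble (nat_lit 231) i)) (Nat.ble (nat_lit 230) i)) (Nat.ble (nat_lit 228) i)) (@Bool.rec (fun _ => ℕ) (@Bool.rec (fun _ => ℕ) (@Bool.rec (fun _ => ℕ) fb232 fb233 (Nat.ble (nat_lit 233) i)) (@Bool.rec (fun _ => ℕ) fb234 fb235 (Nat.ble (nat_lit 235) i)) (Nat.ble (nat_lit 234) i)) (@Bool.rec (fun _ => ℕ) (@Bool.rec (fun _ => ℕ) fb236 fb237 (Nat.ble (nat_lit 237) i)) (@Bool.rec (fun _ => ℕ) fb238 fb239 (Nat.ble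 (nat_lit 239) i)) (Nat.ble (nat_lit 238) i)) (Nat.ble (nat_lit 236) i)) (Nat.ble (nat_lit 232) i)) (@Bool.rec (fun _ => ℕ) (@Bool.rec (fun _ => ℕ) (@Bool.rec (fun _ => ℕ) (@Bool.rec (fun _ => ℕ) fb240 fb241 (Nat.ble (nat_lit 241) i)) (@Bool.rec (fun _ => ℕ) fb242 fb243 (Nat.ble (nat_lit 243) i)) (Nat.ble (nat_lit 242) i)) (@Bool.rec (fun _ => ℕ) (@Bool.rec (fun _ => ℕ) fb244 fb245 (Nat.ble (nat_lit 245) i)) (@Bool.rec (fun _ => ℕ) fb246 fb247 (Nat.ble (nat_lit 247) i)) (Nat.ble (nat_lit 246) i)) (Nat.ble (nat_lit 244) i)) (@Bool.rec (fun _ => ℕ) (@Bool.rec (fun _ => ℕ) (@Bool.rec (fun _ => ℕ) fb248 fb249 (Nat.ble (nat_lit 249) i)) (@Bool.rec (fun _ => ℕ) fb250 fb251 (Nat.ble (nat_lit 251) i)) (Nat.ble (nat_lit 250) i)) (@Bool.rec (fun _ => ℕ) (@Bool.rec (fun _ => ℕ) fb252 fb253 (Nat.ble (nat_lit 253) i))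 (@Bool.rec (fun _ => ℕ) fb254 fb255 (Nat.ble (nat_lit 255) i)) (Nat.ble (nat_lit 254) i)) (Nat.ble (nat_lit 252) i)) (Nat.ble (nat_lit 248) i)) (Nat.ble (nat_lit 240) i))

def factBlk_n0_8 (i : ℕ) : ℕ := (@Bool.rec (fun _ => ℕ) (@Bool.rec (fun _ => ℕ) (@Bool.rec (fun _ => ℕ) (@Bool.rec (fun _ => ℕ) (@Bool.rec (fun _ => ℕ) fb256 fb257 (Nat.ble (nat_lit 257) i)) (@Bool.rec (fun _ => ℕ) fb258 fb259 (Nat.ble (nat_lit 259) i)) (Nat.ble (nat_lit 258) i)) (@Bool.rec (fun _ => ℕ) (@Bool.rec (fun _ => ℕ) fb260 fb261 (Nat.ble (nat_lit 261) i)) (@Bool.rec (fun _ => ℕ) fb262 fb263 (Nat.ble (nat_lit 263) i)) (Nat.ble (nat_lit 262) i)) (Nat.ble (nat_lit 260) i)) (@Bool.rec (fun _ => ℕ) (@Bool.rec (fun _ => ℕ) (@Bool.rec (fun _ => ℕ) fb264 fb265 (Nat.ble (nat_lit 265) i)) (@Bool.rec (fun _ => ℕ) fb266 fb267 (Nat.ble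 (nat_lit 267) i)) (Nat.ble (nat_lit 266) i)) (@Bool.rec (fun _ => ℕ) (@Bool.rec (fun _ => ℕ) fb268 fb269 (Nat.ble (nat_lit 269) i)) (@Bool.rec (fun _ => ℕ) fb270 fb271 (Nat.ble (nat_lit 271) i)) (Nat.ble (nat_lit 270) i)) (Nat.ble (nat_lit 268) i)) (Nat.ble (nat_lit 264) i)) (@Bool.rec (fun _ => ℕ) (@Bool.rec (fun _ => ℕ) (@Bool.rec (fun _ => ℕ) (@Bool.rec (fun _ => ℕ) fb272 fb273 (Nat.ble (nat_lit 273) i)) (@Bool.rec (fun _ => ℕ) fb274 fb275 (Nat.ble (nat_lit 275) i)) (Nat.ble (nat_lit 274) i)) (@Bool.rec (fun _ => ℕ) (@Bool.rec (fun _ => ℕ) fb276 fb277 (Nat.ble (nat_lit 277) i)) (@Bool.rec (fun _ => ℕ) fb278 fb279 (Nat.ble (nat_lit 279) i)) (Nat.ble (nat_lit 278) i)) (Nat.ble (nat_lit 276) i)) (@Bool.rec (fun _ => ℕ) (@Bool.rec (fun _ => ℕ) (@Bool.rec (fun _ => ℕ) fb280 fb281 (Nat.ble (nat_lit 281) i))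 (@Bool.rec (fun _ => ℕ) fb282 fb283 (Nat.ble (nat_lit 283) i)) (Nat.ble (nat_lit 282) i)) (@Bool.rec (fun _ => ℕ) (@Bool.rec (fun _ => ℕ) fb284 fb285 (Nat.ble (nat_lit 285) i)) (@Bool.rec (fun _ => ℕ) fb286 fb287 (Nat.ble (nat_lit 287) i)) (Nat.ble (nat_lit 286) i)) (Nat.ble (nat_lit 284) i)) (Nat.ble (nat_lit 280) i)) (Nat.ble (nat_lit 272) i))

def factBlk_n0_9 (i : ℕ) : ℕ := (@Bool.rec (fun _ => ℕ) (@Bool.rec (fun _ => ℕ) (@Bool.rec (fun _ => ℕ) (@Bool.rec (fun _ => ℕ) (@Bool.rec (fun _ => ℕ) fb288 fb289 (Nat.ble (nat_lit 289) i)) (@Bool.rec (fun _ => ℕ) fb290 fb291 (Nat.ble (nat_lit 291) i)) (Nat.ble (nat_lit 290) i)) (@Bool.rec (fun _ => ℕ) (@Bool.rec (fun _ => ℕ) fb292 fb293 (Nat.ble (nat_lit 293) i)) (@Bool.rec (fun _ => ℕ) fb294 fb295 (Nat.ble (nat_lit 295) i)) (Nat.ble (nat_lit 294) i)) (Nat.ble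 (nat_lit 292) i)) (@Bool.rec (fun _ => ℕ) (@Bool.rec (fun _ => ℕ) (@Bool.rec (fun _ => ℕ) fb296 fb297 (Nat.ble (nat_lit 297) i)) (@Bool.rec (fun _ => ℕ) fb298 fb299 (Nat.ble (nat_lit 299) i)) (Nat.ble (nat_lit 298) i)) (@Bool.rec (fun _ => ℕ) (@Bool.rec (fun _ => ℕ) fb300 fb301 (Nat.ble (nat_lit 301) i)) (@Bool.rec (fun _ => ℕ) fb302 fb303 (Nat.ble (nat_lit 303) i)) (Nat.ble (nat_lit 302) i)) (Nat.ble (nat_lit 300) i)) (Nat.ble (nat_lit 296) i)) (@Bool.rec (fun _ => ℕ) (@Bool.rec (fun _ => ℕ) (@Bool.rec (fun _ => ℕ) (@Bool.rec (fun _ => ℕ) fb304 fb305 (Nat.ble (nat_lit 305) i)) (@Bool.rec (fun _ => ℕ) fb306 fb307 (Nat.ble (nat_lit 307) i)) (Nat.ble (nat_lit 306) i)) (@Bool.rec (fun _ => ℕ) (@Bool.rec (fun _ => ℕ) fb308 fb309 (Nat.ble (nat_lit 309) i)) (@Bool.rec (fun _ => ℕ) fb310 fb311 (Nat.ble (nat_lit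 311) i)) (Nat.ble (nat_lit 310) i)) (Nat.ble (nat_lit 308) i)) (@Bool.rec (fun _ => ℕ) (@Bool.rec (fun _ => ℕ) (@Bool.rec (fun _ => ℕ) fb312 fb313 (Nat.ble (nat_lit 313) i)) (@Bool.rec (fun _ => ℕ) fb314 fb315 (Nat.ble (nat_lit 315) i)) (Nat.ble (nat_lit 314) i)) (@Bool.rec (fun _ => ℕ) (@Bool.rec (fun _ => ℕ) fb316 fb317 (Nat.ble (nat_lit 317) i)) (@Bool.rec (fun _ => ℕ) fb318 fb319 (Nat.ble (nat_lit 319) i)) (Nat.ble (nat_lit 318) i)) (Nat.ble (nat_lit 316) i)) (Nat.ble (nat_lit 312) i)) (Nat.ble (nat_lit 304) i))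

def factBlk_n0_10 (i : ℕ) : ℕ := (@Bool.rec (fun _ => ℕ) (@Bool.rec (fun _ => ℕ) (@Bool.rec (fun _ => ℕ) (@Bool.rec (fun _ => ℕ) (@Bool.rec (fun _ => ℕ) fb320 fb321 (Nat.ble (nat_lit 321) i)) (@Bool.rec (fun _ => ℕ) fb322 fb323 (Nat.ble (nat_lit 323) i)) (Nat.ble (nat_lit 322) i)) (@Bool.rec (fun _ => ℕ) (@Bool.rec (fun _ => ℕ) fb324 fb325 (Nat.ble (nat_lit 325) i)) (@Bool.rec (fun _ => ℕ) fb326 fb327 (Nat.ble (nat_lit 327) i)) (Nat.ble (nat_lit 326) i)) (Nat.ble (nat_lit 324) i)) (@Bool.rec (fun _ => ℕ) (@Bool.rec (fun _ => ℕ) (@Bool.rec (fun _ => ℕ) fb328 fb329 (Nat.ble (nat_lit 329) i)) (@Bool.rec (fun _ => ℕ) fb330 fb331 (Nat.ble (nat_lit 331) i)) (Nat.ble (nat_lit 330) i)) (@Bool.rec (fun _ => ℕ) (@Bool.rec (fun _ => ℕ) fb332 fb333 (Nat.ble (nat_lit 333) i)) (@Bool.rec (fun _ => ℕ) fb334 fb335 (Nat.ble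 (nat_lit 335) i)) (Nat.ble (nat_lit 334) i)) (Nat.ble (nat_lit 332) i)) (Nat.ble (nat_lit 328) i)) (@Bool.rec (fun _ => ℕ) (@Bool.rec (fun _ => ℕ) (@Bool.rec (fun _ => ℕ) (@Bool.rec (fun _ => ℕ) fb336 fb337 (Nat.ble (nat_lit 337) i)) (@Bool.rec (fun _ => ℕ) fb338 fb339 (Nat.ble (nat_lit 339) i)) (Nat.ble (nat_lit 338) i)) (@Bool.rec (fun _ => ℕ) (@Bool.rec (fun _ => ℕ) fb340 fb341 (Nat.ble (nat_lit 341) i)) (@Bool.rec (fun _ => ℕ) fb342 fb343 (Nat.ble (nat_lit 343) i)) (Nat.ble (nat_lit 342) i)) (Nat.ble (nat_lit 340) i)) (@Bool.rec (fun _ => ℕ) (@Bool.rec (fun _ => ℕ) (@Bool.rec (fun _ => ℕ) fb344 fb345 (Nat.ble (nat_lit 345) i)) (@Bool.rec (fun _ => ℕ) fb346 fb347 (Nat.ble (nat_lit 347) i)) (Nat.ble (nat_lit 346) i)) (@Bool.rec (fun _ => ℕ) (@Bool.rec (fun _ => ℕ) fb348 fb349 (Nat.ble (nat_lit 349) i))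 (@Bool.rec (fun _ => ℕ) fb350 fb351 (Nat.ble (nat_lit 351) i)) (Nat.ble (nat_lit 350) i)) (Nat.ble (nat_lit 348) i)) (Nat.ble (nat_lit 344) i)) (Nat.ble (nat_lit 336) i))

def factBlk_n0_11 (i : ℕ) : ℕ := (@Bool.rec (fun _ => ℕ) (@Bool.rec (fun _ => ℕ) (@Bool.rec (fun _ => ℕ) (@Bool.rec (fun _ => ℕ) (@Bool.rec (fun _ => ℕ) fb352 fb353 (Nat.ble (nat_lit 353) i)) (@Bool.rec (fun _ => ℕ) fb354 fb355 (Nat.ble (nat_lit 355) i)) (Nat.ble (nat_lit 354) i)) (@Bool.rec (fun _ => ℕ) (@Bool.rec (fun _ => ℕ) fb356 fb357 (Nat.ble (nat_lit 357) i)) (@Bool.rec (fun _ => ℕ) fb358 fb359 (Nat.ble (nat_lit 359) i)) (Nat.ble (nat_lit 358) i)) (Nat.ble (nat_lit 356) i)) (@Bool.rec (fun _ => ℕ) (@Bool.rec (fun _ => ℕ) (@Bool.rec (fun _ => ℕ) fb360 fb361 (Nat.ble (nat_lit 361) i)) (@Bool.rec (fun _ => ℕ) fb362 fb363 (Nat.ble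 (nat_lit 363) i)) (Nat.ble (nat_lit 362) i)) (@Bool.rec (fun _ => ℕ) (@Bool.rec (fun _ => ℕ) fb364 fb365 (Nat.ble (nat_lit 365) i)) (@Bool.rec (fun _ => ℕ) fb366 fb367 (Nat.ble (nat_lit 367) i)) (Nat.ble (nat_lit 366) i)) (Nat.ble (nat_lit 364) i)) (Nat.ble (nat_lit 360) i)) (@Bool.rec (fun _ => ℕ) (@Bool.rec (fun _ => ℕ) (@Bool.rec (fun _ => ℕ) (@Bool.rec (fun _ => ℕ) fb368 fb369 (Nat.ble (nat_lit 369) i)) (@Bool.rec (fun _ => ℕ) fb370 fb371 (Nat.ble (nat_lit 371) i)) (Nat.ble (nat_lit 370) i)) (@Bool.rec (fun _ => ℕ) (@Bool.rec (fun _ => ℕ) fb372 fb373 (Nat.ble (nat_lit 373) i)) (@Bool.rec (fun _ => ℕ) fb374 fb375 (Nat.ble (nat_lit 375) i)) (Nat.ble (nat_lit 374) i)) (Nat.ble (nat_lit 372) i)) (@Bool.rec (fun _ => ℕ) (@Bool.rec (fun _ => ℕ) (@Bool.rec (fun _ => ℕ) fb376 fb377 (Nat.ble (nat_lit 377) i))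 (@Bool.rec (fun _ => ℕ) fb378 fb379 (Nat.ble (nat_lit 379) i)) (Nat.ble (nat_lit 378) i)) (@Bool.rec (fun _ => ℕ) (@Bool.rec (fun _ => ℕ) fb380 fb381 (Nat.ble (nat_lit 381) i)) (@Bool.rec (fun _ => ℕ) fb382 fb383 (Nat.ble (nat_lit 383) i)) (Nat.ble (nat_lit 382) i)) (Nat.ble (nat_lit 380) i)) (Nat.ble (nat_lit 376) i)) (Nat.ble (nat_lit 368) i))

def factBlk_n0_12 (i : ℕ) : ℕ := (@Bool.rec (fun _ => ℕ) (@Bool.rec (fun _ => ℕ) (@Bool.rec (fun _ => ℕ) (@Bool.rec (fun _ => ℕ) (@Bool.rec (fun _ => ℕ) fb384 fb385 (Nat.ble (nat_lit 385) i)) (@Bool.rec (fun _ => ℕ) fb386 fb387 (Nat.ble (nat_lit 387) i)) (Nat.ble (nat_lit 386) i)) (@Bool.rec (fun _ => ℕ) (@Bool.rec (fun _ => ℕ) fb388 fb389 (Nat.ble (nat_lit 389) i)) (@Bool.rec (fun _ => ℕ) fb390 fb391 (Nat.ble (nat_lit 391) i)) (Nat.ble (nat_lit 390) i)) (Nat.ble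 (nat_lit 388) i)) (@Bool.rec (fun _ => ℕ) (@Bool.rec (fun _ => ℕ) (@Bool.rec (fun _ => ℕ) fb392 fb393 (Nat.ble (nat_lit 393) i)) (@Bool.rec (fun _ => ℕ) fb394 fb395 (Nat.ble (nat_lit 395) i)) (Nat.ble (nat_lit 394) i)) (@Bool.rec (fun _ => ℕ) (@Bool.rec (fun _ => ℕ) fb396 fb397 (Nat.ble (nat_lit 397) i)) (@Bool.rec (fun _ => ℕ) fb398 fb399 (Nat.ble (nat_lit 399) i)) (Nat.ble (nat_lit 398) i)) (Nat.ble (nat_lit 396) i)) (Nat.ble (nat_lit 392) i)) (@Bool.rec (fun _ => ℕ) (@Bool.rec (fun _ => ℕ) (@Bool.rec (fun _ => ℕ) (@Bool.rec (fun _ => ℕ) fb400 fb401 (Nat.ble (nat_lit 401) i)) (@Bool.rec (fun _ => ℕ) fb402 fb403 (Nat.ble (nat_lit 403) i)) (Nat.ble (nat_lit 402) i)) (@Bool.rec (fun _ => ℕ) (@Bool.rec (fun _ => ℕ) fb404 fb405 (Nat.ble (nat_lit 405) i)) (@Bool.rec (fun _ => ℕ) fb406 fb407 (Nat.ble (nat_lit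 407) i)) (Nat.ble (nat_lit 406) i)) (Nat.ble (nat_lit 404) i)) (@Bool.rec (fun _ => ℕ) (@Bool.rec (fun _ => ℕ) (@Bool.rec (fun _ => ℕ) fb408 fb409 (Nat.ble (nat_lit 409) i)) (@Bool.rec (fun _ => ℕ) fb410 fb411 (Nat.ble (nat_lit 411) i)) (Nat.ble (nat_lit 410) i)) (@Bool.rec (fun _ => ℕ) (@Bool.rec (fun _ => ℕ) fb412 fb413 (Nat.ble (nat_lit 413) i)) (@Bool.rec (fun _ => ℕ) fb414 fb415 (Nat.ble (nat_lit 415) i)) (Nat.ble (nat_lit 414) i)) (Nat.ble (nat_lit 412) i)) (Nat.ble (nat_lit 408) i)) (Nat.ble (nat_lit 400) i))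

def factBlk_n0_13 (i : ℕ) : ℕ := (@Bool.rec (fun _ => ℕ) (@Bool.rec (fun _ => ℕ) (@Bool.rec (fun _ => ℕ) (@Bool.rec (fun _ => ℕ) (@Bool.rec (fun _ => ℕ) fb416 fb417 (Nat.ble (nat_lit 417) i)) (@Bool.rec (fun _ => ℕ) fb418 fb419 (Nat.ble (nat_lit 419) i)) (Nat.ble (nat_lit 418) i)) (@Bool.rec (fun _ => ℕ) (@Bool.rec (fun _ => ℕ) fb420 fb421 (Nat.ble (nat_lit 421) i)) (@Bool.rec (fun _ => ℕ) fb422 fb423 (Nat.ble (nat_lit 423) i)) (Nat.ble (nat_lit 422) i)) (Nat.ble (nat_lit 420) i)) (@Bool.rec (fun _ => ℕ) (@Bool.rec (fun _ => ℕ) (@Bool.rec (fun _ => ℕ) fb424 fb425 (Nat.ble (nat_lit 425) i)) (@Bool.rec (fun _ => ℕ) fb426 fb427 (Nat.ble (nat_lit 427) i)) (Nat.ble (nat_lit 426) i)) (@Bool.rec (fun _ => ℕ) (@Bool.rec (fun _ => ℕ) fb428 fb429 (Nat.ble (nat_lit 429) i)) (@Bool.rec (fun _ => ℕ) fb430 fb431 (Nat.ble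 (nat_lit 431) i)) (Nat.ble (nat_lit 430) i)) (Nat.ble (nat_lit 428) i)) (Nat.ble (nat_lit 424) i)) (@Bool.rec (fun _ => ℕ) (@Bool.rec (fun _ => ℕ) (@Bool.rec (fun _ => ℕ) (@Bool.rec (fun _ => ℕ) fb432 fb433 (Nat.ble (nat_lit 433) i)) (@Bool.rec (fun _ => ℕ) fb434 fb435 (Nat.ble (nat_lit 435) i)) (Nat.ble (nat_lit 434) i)) (@Bool.rec (fun _ => ℕ) (@Bool.rec (fun _ => ℕ) fb436 fb437 (Nat.ble (nat_lit 437) i)) (@Bool.rec (fun _ => ℕ) fb438 fb439 (Nat.ble (nat_lit 439) i)) (Nat.ble (nat_lit 438) i)) (Nat.ble (nat_lit 436) i)) (@Bool.rec (fun _ => ℕ) (@Bool.rec (fun _ => ℕ) (@Bool.rec (fun _ => ℕ) fb440 fb441 (Nat.ble (nat_lit 441) i)) (@Bool.rec (fun _ => ℕ) fb442 fb443 (Nat.ble (nat_lit 443) i)) (Nat.ble (nat_lit 442) i)) (@Bool.rec (fun _ => ℕ) (@Bool.rec (fun _ => ℕ) fb444 fb445 (Nat.ble (nat_lit 445) i))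 (@Bool.rec (fun _ => ℕ) fb446 fb447 (Nat.ble (nat_lit 447) i)) (Nat.ble (nat_lit 446) i)) (Nat.ble (nat_lit 444) i)) (Nat.ble (nat_lit 440) i)) (Nat.ble (nat_lit 432) i))

def factBlk_n0_14 (i : ℕ) : ℕ := (@Bool.rec (fun _ => ℕ) (@Bool.rec (fun _ => ℕ) (@Bool.rec (fun _ => ℕ) (@Bool.rec (fun _ => ℕ) (@Bool.rec (fun _ => ℕ) fb448 fb449 (Nat.ble (nat_lit 449) i)) (@Bool.rec (fun _ => ℕ) fb450 fb451 (Nat.ble (nat_lit 451) i)) (Nat.ble (nat_lit 450) i)) (@Bool.rec (fun _ => ℕ) (@Bool.rec (fun _ => ℕ) fb452 fb453 (Nat.ble (nat_lit 453) i)) (@Bool.rec (fun _ => ℕ) fb454 fb455 (Nat.ble (nat_lit 455) i)) (Nat.ble (nat_lit 454) i)) (Nat.ble (nat_lit 452) i)) (@Bool.rec (fun _ => ℕ) (@Bool.rec (fun _ => ℕ) (@Bool.rec (fun _ => ℕ) fb456 fb457 (Nat.ble (nat_lit 457) i)) (@Bool.rec (fun _ => ℕ) fb458 fb459 (Nat.ble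 (nat_lit 459) i)) (Nat.ble (nat_lit 458) i)) (@Bool.rec (fun _ => ℕ) (@Bool.rec (fun _ => ℕ) fb460 fb461 (Nat.ble (nat_lit 461) i)) (@Bool.rec (fun _ => ℕ) fb462 fb463 (Nat.ble (nat_lit 463) i)) (Nat.ble (nat_lit 462) i)) (Nat.ble (nat_lit 460) i)) (Nat.ble (nat_lit 456) i)) (@Bool.rec (fun _ => ℕ) (@Bool.rec (fun _ => ℕ) (@Bool.rec (fun _ => ℕ) (@Bool.rec (fun _ => ℕ) fb464 fb465 (Nat.ble (nat_lit 465) i)) (@Bool.rec (fun _ => ℕ) fb466 fb467 (Nat.ble (nat_lit 467) i)) (Nat.ble (nat_lit 466) i)) (@Bool.rec (fun _ => ℕ) (@Bool.rec (fun _ => ℕ) fb468 fb469 (Nat.ble (nat_lit 469) i)) (@Bool.rec (fun _ => ℕ) fb470 fb471 (Nat.ble (nat_lit 471) i)) (Nat.ble (nat_lit 470) i)) (Nat.ble (nat_lit 468) i)) (@Bool.rec (fun _ => ℕ) (@Bool.rec (fun _ => ℕ) (@Bool.rec (fun _ => ℕ) fb472 fb473 (Nat.ble (nat_lit 473) i))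 (@Bool.rec (fun _ => ℕ) fb474 fb475 (Nat.ble (nat_lit 475) i)) (Nat.ble (nat_lit 474) i)) (@Bool.rec (fun _ => ℕ) (@Bool.rec (fun _ => ℕ) fb476 fb477 (Nat.ble (nat_lit 477) i)) (@Bool.rec (fun _ => ℕ) fb478 fb479 (Nat.ble (nat_lit 479) i)) (Nat.ble (nat_lit 478) i)) (Nat.ble (nat_lit 476) i)) (Nat.ble (nat_lit 472) i)) (Nat.ble (nat_lit 464) i))

def factBlk_n0_15 (i : ℕ) : ℕ := (@Bool.rec (fun _ => ℕ) (@Bool.rec (fun _ => ℕ) (@Bool.rec (fun _ => ℕ) (@Bool.rec (fun _ => ℕ) (@Bool.rec (fun _ => ℕ) fb480 fb481 (Nat.ble (nat_lit 481) i)) (@Bool.rec (fun _ => ℕ) fb482 fb483 (Nat.ble (nat_lit 483) i)) (Nat.ble (nat_lit 482) i)) (@Bool.rec (fun _ => ℕ) (@Bool.rec (fun _ => ℕ) fb484 fb485 (Nat.ble (nat_lit 485) i)) (@Bool.rec (fun _ => ℕ) fb486 fb487 (Nat.ble (nat_lit 487) i)) (Nat.ble (nat_lit 486) i)) (Nat.ble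 (nat_lit 484) i)) (@Bool.rec (fun _ => ℕ) (@Bool.rec (fun _ => ℕ) (@Bool.rec (fun _ => ℕ) fb488 fb489 (Nat.ble (nat_lit 489) i)) (@Bool.rec (fun _ => ℕ) fb490 fb491 (Nat.ble (nat_lit 491) i)) (Nat.ble (nat_lit 490) i)) (@Bool.rec (fun _ => ℕ) (@Bool.rec (fun _ => ℕ) fb492 fb493 (Nat.ble (nat_lit 493) i)) (@Bool.rec (fun _ => ℕ) fb494 fb495 (Nat.ble (nat_lit 495) i)) (Nat.ble (nat_lit 494) i)) (Nat.ble (nat_lit 492) i)) (Nat.ble (nat_lit 488) i)) (@Bool.rec (fun _ => ℕ) (@Bool.rec (fun _ => ℕ) (@Bool.rec (fun _ => ℕ) (@Bool.rec (fun _ => ℕ) fb496 fb497 (Nat.ble (nat_lit 497) i)) (@Bool.rec (fun _ => ℕ) fb498 fb499 (Nat.ble (nat_lit 499) i)) (Nat.ble (nat_lit 498) i)) (@Bool.rec (fun _ => ℕ) (@Bool.rec (fun _ => ℕ) fb500 fb501 (Nat.ble (nat_lit 501) i)) (@Bool.rec (fun _ => ℕ) fb502 fb503 (Nat.ble (nat_lit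 503) i)) (Nat.ble (nat_lit 502) i)) (Nat.ble (nat_lit 500) i)) (@Bool.rec (fun _ => ℕ) (@Bool.rec (fun _ => ℕ) (@Bool.rec (fun _ => ℕ) fb504 fb505 (Nat.ble (nat_lit 505) i)) (@Bool.rec (fun _ => ℕ) fb506 fb507 (Nat.ble (nat_lit 507) i)) (Nat.ble (nat_lit 506) i)) (@Bool.rec (fun _ => ℕ) (@Bool.rec (fun _ => ℕ) fb508 fb509 (Nat.ble (nat_lit 509) i)) (@Bool.rec (fun _ => ℕ) fb510 fb511 (Nat.ble (nat_lit 511) i)) (Nat.ble (nat_lit 510) i)) (Nat.ble (nat_lit 508) i)) (Nat.ble (nat_lit 504) i)) (Nat.ble (nat_lit 496) i))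

def factBlk_n0_16 (i : ℕ) : ℕ := (@Bool.rec (fun _ => ℕ) (@Bool.rec (fun _ => ℕ) (@Bool.rec (fun _ => ℕ) (@Bool.rec (fun _ => ℕ) (@Bool.rec (fun _ => ℕ) fb512 fb513 (Nat.ble (nat_lit 513) i)) (@Bool.rec (fun _ => ℕ) fb514 fb515 (Nat.ble (nat_lit 515) i)) (Nat.ble (nat_lit 514) i)) (@Bool.rec (fun _ => ℕ) (@Bool.rec (fun _ => ℕ) fb516 fb517 (Nat.ble (nat_lit 517) i)) (@Bool.rec (fun _ => ℕ) fb518 fb519 (Nat.ble (nat_lit 519) i)) (Nat.ble (nat_lit 518) i)) (Nat.ble (nat_lit 516) i)) (@Bool.rec (fun _ => ℕ) (@Bool.rec (fun _ => ℕ) (@Bool.rec (fun _ => ℕ) fb520 fb521 (Nat.ble (nat_lit 521) i)) (@Bool.rec (fun _ => ℕ) fb522 fb523 (Nat.ble (nat_lit 523) i)) (Nat.ble (nat_lit 522) i)) (@Bool.rec (fun _ => ℕ) (@Bool.rec (fun _ => ℕ) fb524 fb525 (Nat.ble (nat_lit 525) i)) (@Bool.rec (fun _ => ℕ) fb526 fb527 (Nat.ble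 (nat_lit 527) i)) (Nat.ble (nat_lit 526) i)) (Nat.ble (nat_lit 524) i)) (Nat.ble (nat_lit 520) i)) (@Bool.rec (fun _ => ℕ) (@Bool.rec (fun _ => ℕ) (@Bool.rec (fun _ => ℕ) (@Bool.rec (fun _ => ℕ) fb528 fb529 (Nat.ble (nat_lit 529) i)) (@Bool.rec (fun _ => ℕ) fb530 fb531 (Nat.ble (nat_lit 531) i)) (Nat.ble (nat_lit 530) i)) (@Bool.rec (fun _ => ℕ) (@Bool.rec (fun _ => ℕ) fb532 fb533 (Nat.ble (nat_lit 533) i)) (@Bool.rec (fun _ => ℕ) fb534 fb535 (Nat.ble (nat_lit 535) i)) (Nat.ble (nat_lit 534) i)) (Nat.ble (nat_lit 532) i)) (@Bool.rec (fun _ => ℕ) (@Bool.rec (fun _ => ℕ) (@Bool.rec (fun _ => ℕ) fb536 fb537 (Nat.ble (nat_lit 537) i)) (@Bool.rec (fun _ => ℕ) fb538 fb539 (Nat.ble (nat_lit 539) i)) (Nat.ble (nat_lit 538) i)) (@Bool.rec (fun _ => ℕ) (@Bool.rec (fun _ => ℕ) fb540 fb541 (Nat.ble (nat_lit 541) i))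 (@Bool.rec (fun _ => ℕ) fb542 fb543 (Nat.ble (nat_lit 543) i)) (Nat.ble (nat_lit 542) i)) (Nat.ble (nat_lit 540) i)) (Nat.ble (nat_lit 536) i)) (Nat.ble (nat_lit 528) i))

def factBlk_n0_17 (i : ℕ) : ℕ := (@Bool.rec (fun _ => ℕ) (@Bool.rec (fun _ => ℕ) (@Bool.rec (fun _ => ℕ) (@Bool.rec (fun _ => ℕ) (@Bool.rec (fun _ => ℕ) fb544 fb545 (Nat.ble (nat_lit 545) i)) (@Bool.rec (fun _ => ℕ) fb546 fb547 (Nat.ble (nat_lit 547) i)) (Nat.ble (nat_lit 546) i)) (@Bool.rec (fun _ => ℕ) (@Bool.rec (fun _ => ℕ) fb548 fb549 (Nat.ble (nat_lit 549) i)) (@Bool.rec (fun _ => ℕ) fb550 fb551 (Nat.ble (nat_lit 551) i)) (Nat.ble (nat_lit 550) i)) (Nat.ble (nat_lit 548) i)) (@Bool.rec (fun _ => ℕ) (@Bool.rec (fun _ => ℕ) (@Bool.rec (fun _ => ℕ) fb552 fb553 (Nat.ble (nat_lit 553) i)) (@Bool.rec (fun _ => ℕ) fb554 fb555 (Nat.ble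 (nat_lit 555) i)) (Nat.ble (nat_lit 554) i)) (@Bool.rec (fun _ => ℕ) (@Bool.rec (fun _ => ℕ) fb556 fb557 (Nat.ble (nat_lit 557) i)) (@Bool.rec (fun _ => ℕ) fb558 fb559 (Nat.ble (nat_lit 559) i)) (Nat.ble (nat_lit 558) i)) (Nat.ble (nat_lit 556) i)) (Nat.ble (nat_lit 552) i)) (@Bool.rec (fun _ => ℕ) (@Bool.rec (fun _ => ℕ) (@Bool.rec (fun _ => ℕ) (@Bool.rec (fun _ => ℕ) fb560 fb561 (Nat.ble (nat_lit 561) i)) (@Bool.rec (fun _ => ℕ) fb562 fb563 (Nat.ble (nat_lit 563) i)) (Nat.ble (nat_lit 562) i)) (@Bool.rec (fun _ => ℕ) (@Bool.rec (fun _ => ℕ) fb564 fb565 (Nat.ble (nat_lit 565) i)) (@Bool.rec (fun _ => ℕ) fb566 fb567 (Nat.ble (nat_lit 567) i)) (Nat.ble (nat_lit 566) i)) (Nat.ble (nat_lit 564) i)) (@Bool.rec (fun _ => ℕ) (@Bool.rec (fun _ => ℕ) (@Bool.rec (fun _ => ℕ) fb568 fb569 (Nat.ble (nat_lit 569) i))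 (@Bool.rec (fun _ => ℕ) fb570 fb571 (Nat.ble (nat_lit 571) i)) (Nat.ble (nat_lit 570) i)) (@Bool.rec (fun _ => ℕ) (@Bool.rec (fun _ => ℕ) fb572 fb573 (Nat.ble (nat_lit 573) i)) (@Bool.rec (fun _ => ℕ) fb574 fb575 (Nat.ble (nat_lit 575) i)) (Nat.ble (nat_lit 574) i)) (Nat.ble (nat_lit 572) i)) (Nat.ble (nat_lit 568) i)) (Nat.ble (nat_lit 560) i))

def factBlk_n0_18 (i : ℕ) : ℕ := (@Bool.rec (fun _ => ℕ) (@Bool.rec (fun _ => ℕ) (@Bool.rec (fun _ => ℕ) (@Bool.rec (fun _ => ℕ) (@Bool.rec (fun _ => ℕ) fb576 fb577 (Nat.ble (nat_lit 577) i)) (@Bool.rec (fun _ => ℕ) fb578 fb579 (Nat.ble (nat_lit 579) i)) (Nat.ble (nat_lit 578) i)) (@Bool.rec (fun _ => ℕ) (@Bool.rec (fun _ => ℕ) fb580 fb581 (Nat.ble (nat_lit 581) i)) (@Bool.rec (fun _ => ℕ) fb582 fb583 (Nat.ble (nat_lit 583) i)) (Nat.ble (nat_lit 582) i)) (Nat.ble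 (nat_lit 580) i)) (@Bool.rec (fun _ => ℕ) (@Bool.rec (fun _ => ℕ) (@Bool.rec (fun _ => ℕ) fb584 fb585 (Nat.ble (nat_lit 585) i)) (@Bool.rec (fun _ => ℕ) fb586 fb587 (Nat.ble (nat_lit 587) i)) (Nat.ble (nat_lit 586) i)) (@Bool.rec (fun _ => ℕ) (@Bool.rec (fun _ => ℕ) fb588 fb589 (Nat.ble (nat_lit 589) i)) (@Bool.rec (fun _ => ℕ) fb590 fb591 (Nat.ble (nat_lit 591) i)) (Nat.ble (nat_lit 590) i)) (Nat.ble (nat_lit 588) i)) (Nat.ble (nat_lit 584) i)) (@Bool.rec (fun _ => ℕ) (@Bool.rec (fun _ => ℕ) (@Bool.rec (fun _ => ℕ) (@Bool.rec (fun _ => ℕ) fb592 fb593 (Nat.ble (nat_lit 593) i)) (@Bool.rec (fun _ => ℕ) fb594 fb595 (Nat.ble (nat_lit 595) i)) (Nat.ble (nat_lit 594) i)) (@Bool.rec (fun _ => ℕ) (@Bool.rec (fun _ => ℕ) fb596 fb597 (Nat.ble (nat_lit 597) i)) (@Bool.rec (fun _ => ℕ) fb598 fb599 (Nat.ble (nat_lit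 599) i)) (Nat.ble (nat_lit 598) i)) (Nat.ble (nat_lit 596) i)) (@Bool.rec (fun _ => ℕ) (@Bool.rec (fun _ => ℕ) (@Bool.rec (fun _ => ℕ) fb600 fb601 (Nat.ble (nat_lit 601) i)) (@Bool.rec (fun _ => ℕ) fb602 fb603 (Nat.ble (nat_lit 603) i)) (Nat.ble (nat_lit 602) i)) (@Bool.rec (fun _ => ℕ) (@Bool.rec (fun _ => ℕ) fb604 fb605 (Nat.ble (nat_lit 605) i)) (@Bool.rec (fun _ => ℕ) fb606 fb607 (Nat.ble (nat_lit 607) i)) (Nat.ble (nat_lit 606) i)) (Nat.ble (nat_lit 604) i)) (Nat.ble (nat_lit 600) i)) (Nat.ble (nat_lit 592) i))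

def factBlk_n0_19 (i : ℕ) : ℕ := (@Bool.rec (fun _ => ℕ) (@Bool.rec (fun _ => ℕ) (@Bool.rec (fun _ => ℕ) (@Bool.rec (fun _ => ℕ) (@Bool.rec (fun _ => ℕ) fb608 fb609 (Nat.ble (nat_lit 609) i)) (@Bool.rec (fun _ => ℕ) fb610 fb611 (Nat.ble (nat_lit 611) i)) (Nat.ble (nat_lit 610) i)) (@Bool.rec (fun _ => ℕ) (@Bool.rec (fun _ => ℕ) fb612 fb613 (Nat.ble (nat_lit 613) i)) (@Bool.rec (fun _ => ℕ) fb614 fb615 (Nat.ble (nat_lit 615) i)) (Nat.ble (nat_lit 614) i)) (Nat.ble (nat_lit 612) i)) (@Bool.rec (fun _ => ℕ) (@Bool.rec (fun _ => ℕ) (@Bool.rec (fun _ => ℕ) fb616 fb617 (Nat.ble (nat_lit 617) i)) (@Bool.rec (fun _ => ℕ) fb618 fb619 (Nat.ble (nat_lit 619) i)) (Nat.ble (nat_lit 618) i)) (@Bool.rec (fun _ => ℕ) (@Bool.rec (fun _ => ℕ) fb620 fb621 (Nat.ble (nat_lit 621) i)) (@Bool.rec (fun _ => ℕ) fb622 fb623 (Nat.ble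 (nat_lit 623) i)) (Nat.ble (nat_lit 622) i)) (Nat.ble (nat_lit 620) i)) (Nat.ble (nat_lit 616) i)) (@Bool.rec (fun _ => ℕ) (@Bool.rec (fun _ => ℕ) (@Bool.rec (fun _ => ℕ) (@Bool.rec (fun _ => ℕ) fb624 fb625 (Nat.ble (nat_lit 625) i)) (@Bool.rec (fun _ => ℕ) fb626 fb627 (Nat.ble (nat_lit 627) i)) (Nat.ble (nat_lit 626) i)) (@Bool.rec (fun _ => ℕ) (@Bool.rec (fun _ => ℕ) fb628 fb629 (Nat.ble (nat_lit 629) i)) (@Bool.rec (fun _ => ℕ) fb630 fb631 (Nat.ble (nat_lit 631) i)) (Nat.ble (nat_lit 630) i)) (Nat.ble (nat_lit 628) i)) (@Bool.rec (fun _ => ℕ) (@Bool.rec (fun _ => ℕ) (@Bool.rec (fun _ => ℕ) fb632 fb633 (Nat.ble (nat_lit 633) i)) (@Bool.rec (fun _ => ℕ) fb634 fb635 (Nat.ble (nat_lit 635) i)) (Nat.ble (nat_lit 634) i)) (@Bool.rec (fun _ => ℕ) (@Bool.rec (fun _ => ℕ) fb636 fb637 (Nat.ble (nat_lit 637) i))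 (@Bool.rec (fun _ => ℕ) fb638 fb639 (Nat.ble (nat_lit 639) i)) (Nat.ble (nat_lit 638) i)) (Nat.ble (nat_lit 636) i)) (Nat.ble (nat_lit 632) i)) (Nat.ble (nat_lit 624) i))

def factBlk_n0_20 (i : ℕ) : ℕ := (@Bool.rec (fun _ => ℕ) (@Bool.rec (fun _ => ℕ) (@Bool.rec (fun _ => ℕ) (@Bool.rec (fun _ => ℕ) (@Bool.rec (fun _ => ℕ) fb640 fb641 (Nat.ble (nat_lit 641) i)) (@Bool.rec (fun _ => ℕ) fb642 fb643 (Nat.ble (nat_lit 643) i)) (Nat.ble (nat_lit 642) i)) (@Bool.rec (fun _ => ℕ) (@Bool.rec (fun _ => ℕ) fb644 fb645 (Nat.ble (nat_lit 645) i)) (@Bool.rec (fun _ => ℕ) fb646 fb647 (Nat.ble (nat_lit 647) i)) (Nat.ble (nat_lit 646) i)) (Nat.ble (nat_lit 644) i)) (@Bool.rec (fun _ => ℕ) (@Bool.rec (fun _ => ℕ) (@Bool.rec (fun _ => ℕ) fb648 fb649 (Nat.ble (nat_lit 649) i)) (@Bool.rec (fun _ => ℕ) fb650 fb651 (Nat.ble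 (nat_lit 651) i)) (Nat.ble (nat_lit 650) i)) (@Bool.rec (fun _ => ℕ) (@Bool.rec (fun _ => ℕ) fb652 fb653 (Nat.ble (nat_lit 653) i)) (@Bool.rec (fun _ => ℕ) fb654 fb655 (Nat.ble (nat_lit 655) i)) (Nat.ble (nat_lit 654) i)) (Nat.ble (nat_lit 652) i)) (Nat.ble (nat_lit 648) i)) (@Bool.rec (fun _ => ℕ) (@Bool.rec (fun _ => ℕ) (@Bool.rec (fun _ => ℕ) (@Bool.rec (fun _ => ℕ) fb656 fb657 (Nat.ble (nat_lit 657) i)) (@Bool.rec (fun _ => ℕ) fb658 fb659 (Nat.ble (nat_lit 659) i)) (Nat.ble (nat_lit 658) i)) (@Bool.rec (fun _ => ℕ) (@Bool.rec (fun _ => ℕ) fb660 fb661 (Nat.ble (nat_lit 661) i)) (@Bool.rec (fun _ => ℕ) fb662 fb663 (Nat.ble (nat_lit 663) i)) (Nat.ble (nat_lit 662) i)) (Nat.ble (nat_lit 660) i)) (@Bool.rec (fun _ => ℕ) (@Bool.rec (fun _ => ℕ) (@Bool.rec (fun _ => ℕ) fb664 fb665 (Nat.ble (nat_lit 665) i))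 (@Bool.rec (fun _ => ℕ) fb666 fb667 (Nat.ble (nat_lit 667) i)) (Nat.ble (nat_lit 666) i)) (@Bool.rec (fun _ => ℕ) (@Bool.rec (fun _ => ℕ) fb668 fb669 (Nat.ble (nat_lit 669) i)) (@Bool.rec (fun _ => ℕ) fb670 fb671 (Nat.ble (nat_lit 671) i)) (Nat.ble (nat_lit 670) i)) (Nat.ble (nat_lit 668) i)) (Nat.ble (nat_lit 664) i)) (Nat.ble (nat_lit 656) i))

def factBlk_n0_21 (i : ℕ) : ℕ := (@Bool.rec (fun _ => ℕ) (@Bool.rec (fun _ => ℕ) (@Bool.rec (fun _ => ℕ) (@Bool.rec (fun _ => ℕ) (@Bool.rec (fun _ => ℕ) fb672 fb673 (Nat.ble (nat_lit 673) i)) (@Bool.rec (fun _ => ℕ) fb674 fb675 (Nat.ble (nat_lit 675) i)) (Nat.ble (nat_lit 674) i)) (@Bool.rec (fun _ => ℕ) (@Bool.rec (fun _ => ℕ) fb676 fb677 (Nat.ble (nat_lit 677) i)) (@Bool.rec (fun _ => ℕ) fb678 fb679 (Nat.ble (nat_lit 679) i)) (Nat.ble (nat_lit 678) i)) (Nat.ble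 (nat_lit 676) i)) (@Bool.rec (fun _ => ℕ) (@Bool.rec (fun _ => ℕ) (@Bool.rec (fun _ => ℕ) fb680 fb681 (Nat.ble (nat_lit 681) i)) (@Bool.rec (fun _ => ℕ) fb682 fb683 (Nat.ble (nat_lit 683) i)) (Nat.ble (nat_lit 682) i)) (@Bool.rec (fun _ => ℕ) (@Bool.rec (fun _ => ℕ) fb684 fb685 (Nat.ble (nat_lit 685) i)) (@Bool.rec (fun _ => ℕ) fb686 fb687 (Nat.ble (nat_lit 687) i)) (Nat.ble (nat_lit 686) i)) (Nat.ble (nat_lit 684) i)) (Nat.ble (nat_lit 680) i)) (@Bool.rec (fun _ => ℕ) (@Bool.rec (fun _ => ℕ) (@Bool.rec (fun _ => ℕ) (@Bool.rec (fun _ => ℕ) fb688 fb689 (Nat.ble (nat_lit 689) i)) (@Bool.rec (fun _ => ℕ) fb690 fb691 (Nat.ble (nat_lit 691) i)) (Nat.ble (nat_lit 690) i)) (@Bool.rec (fun _ => ℕ) (@Bool.rec (fun _ => ℕ) fb692 fb693 (Nat.ble (nat_lit 693) i)) (@Bool.rec (fun _ => ℕ) fb694 fb695 (Nat.ble (nat_lit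 695) i)) (Nat.ble (nat_lit 694) i)) (Nat.ble (nat_lit 692) i)) (@Bool.rec (fun _ => ℕ) (@Bool.rec (fun _ => ℕ) (@Bool.rec (fun _ => ℕ) fb696 fb697 (Nat.ble (nat_lit 697) i)) (@Bool.rec (fun _ => ℕ) fb698 fb699 (Nat.ble (nat_lit 699) i)) (Nat.ble (nat_lit 698) i)) (@Bool.rec (fun _ => ℕ) (@Bool.rec (fun _ => ℕ) fb700 fb701 (Nat.ble (nat_lit 701) i)) (@Bool.rec (fun _ => ℕ) fb702 fb703 (Nat.ble (nat_lit 703) i)) (Nat.ble (nat_lit 702) i)) (Nat.ble (nat_lit 700) i)) (Nat.ble (nat_lit 696) i)) (Nat.ble (nat_lit 688) i))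

def factBlk_n0_22 (i : ℕ) : ℕ := (@Bool.rec (fun _ => ℕ) (@Bool.rec (fun _ => ℕ) (@Bool.rec (fun _ => ℕ) (@Bool.rec (fun _ => ℕ) (@Bool.rec (fun _ => ℕ) fb704 fb705 (Nat.ble (nat_lit 705) i)) (@Bool.rec (fun _ => ℕ) fb706 fb707 (Nat.ble (nat_lit 707) i)) (Nat.ble (nat_lit 706) i)) (@Bool.rec (fun _ => ℕ) (@Bool.rec (fun _ => ℕ) fb708 fb709 (Nat.ble (nat_lit 709) i)) (@Bool.rec (fun _ => ℕ) fb710 fb711 (Nat.ble (nat_lit 711) i)) (Nat.ble (nat_lit 710) i)) (Nat.ble (nat_lit 708) i)) (@Bool.rec (fun _ => ℕ) (@Bool.rec (fun _ => ℕ) (@Bool.rec (fun _ => ℕ) fb712 fb713 (Nat.ble (nat_lit 713) i)) (@Bool.rec (fun _ => ℕ) fb714 fb715 (Nat.ble (nat_lit 715) i)) (Nat.ble (nat_lit 714) i)) (@Bool.rec (fun _ => ℕ) (@Bool.rec (fun _ => ℕ) fb716 fb717 (Nat.ble (nat_lit 717) i)) (@Bool.rec (fun _ => ℕ) fb718 fb719 (Nat.ble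 (nat_lit 719) i)) (Nat.ble (nat_lit 718) i)) (Nat.ble (nat_lit 716) i)) (Nat.ble (nat_lit 712) i)) (@Bool.rec (fun _ => ℕ) (@Bool.rec (fun _ => ℕ) (@Bool.rec (fun _ => ℕ) (@Bool.rec (fun _ => ℕ) fb720 fb721 (Nat.ble (nat_lit 721) i)) (@Bool.rec (fun _ => ℕ) fb722 fb723 (Nat.ble (nat_lit 723) i)) (Nat.ble (nat_lit 722) i)) (@Bool.rec (fun _ => ℕ) (@Bool.rec (fun _ => ℕ) fb724 fb725 (Nat.ble (nat_lit 725) i)) (@Bool.rec (fun _ => ℕ) fb726 fb727 (Nat.ble (nat_lit 727) i)) (Nat.ble (nat_lit 726) i)) (Nat.ble (nat_lit 724) i)) (@Bool.rec (fun _ => ℕ) (@Bool.rec (fun _ => ℕ) (@Bool.rec (fun _ => ℕ) fb728 fb729 (Nat.ble (nat_lit 729) i)) (@Bool.rec (fun _ => ℕ) fb730 fb731 (Nat.ble (nat_lit 731) i)) (Nat.ble (nat_lit 730) i)) (@Bool.rec (fun _ => ℕ) (@Bool.rec (fun _ => ℕ) fb732 fb733 (Nat.ble (nat_lit 733) i))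 (@Bool.rec (fun _ => ℕ) fb734 fb735 (Nat.ble (nat_lit 735) i)) (Nat.ble (nat_lit 734) i)) (Nat.ble (nat_lit 732) i)) (Nat.ble (nat_lit 728) i)) (Nat.ble (nat_lit 720) i))

def factBlk_n0_23 (i : ℕ) : ℕ := (@Bool.rec (fun _ => ℕ) (@Bool.rec (fun _ => ℕ) (@Bool.rec (fun _ => ℕ) (@Bool.rec (fun _ => ℕ) (@Bool.rec (fun _ => ℕ) fb736 fb737 (Nat.ble (nat_lit 737) i)) (@Bool.rec (fun _ => ℕ) fb738 fb739 (Nat.ble (nat_lit 739) i)) (Nat.ble (nat_lit 738) i)) (@Bool.rec (fun _ => ℕ) (@Bool.rec (fun _ => ℕ) fb740 fb741 (Nat.ble (nat_lit 741) i)) (@Bool.rec (fun _ => ℕ) fb742 fb743 (Nat.ble (nat_lit 743) i)) (Nat.ble (nat_lit 742) i)) (Nat.ble (nat_lit 740) i)) (@Bool.rec (fun _ => ℕ) (@Bool.rec (fun _ => ℕ) (@Bool.rec (fun _ => ℕ) fb744 fb745 (Nat.ble (nat_lit 745) i)) (@Bool.rec (fun _ => ℕ) fb746 fb747 (Nat.ble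 (nat_lit 747) i)) (Nat.ble (nat_lit 746) i)) (@Bool.rec (fun _ => ℕ) (@Bool.rec (fun _ => ℕ) fb748 fb749 (Nat.ble (nat_lit 749) i)) (@Bool.rec (fun _ => ℕ) fb750 fb751 (Nat.ble (nat_lit 751) i)) (Nat.ble (nat_lit 750) i)) (Nat.ble (nat_lit 748) i)) (Nat.ble (nat_lit 744) i)) (@Bool.rec (fun _ => ℕ) (@Bool.rec (fun _ => ℕ) (@Bool.rec (fun _ => ℕ) (@Bool.rec (fun _ => ℕ) fb752 fb753 (Nat.ble (nat_lit 753) i)) (@Bool.rec (fun _ => ℕ) fb754 fb755 (Nat.ble (nat_lit 755) i)) (Nat.ble (nat_lit 754) i)) (@Bool.rec (fun _ => ℕ) (@Bool.rec (fun _ => ℕ) fb756 fb757 (Nat.ble (nat_lit 757) i)) (@Bool.rec (fun _ => ℕ) fb758 fb759 (Nat.ble (nat_lit 759) i)) (Nat.ble (nat_lit 758) i)) (Nat.ble (nat_lit 756) i)) (@Bool.rec (fun _ => ℕ) (@Bool.rec (fun _ => ℕ) (@Bool.rec (fun _ => ℕ) fb760 fb761 (Nat.ble (nat_lit 761) i))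 (@Bool.rec (fun _ => ℕ) fb762 fb763 (Nat.ble (nat_lit 763) i)) (Nat.ble (nat_lit 762) i)) (@Bool.rec (fun _ => ℕ) (@Bool.rec (fun _ => ℕ) fb764 fb765 (Nat.ble (nat_lit 765) i)) (@Bool.rec (fun _ => ℕ) fb766 fb767 (Nat.ble (nat_lit 767) i)) (Nat.ble (nat_lit 766) i)) (Nat.ble (nat_lit 764) i)) (Nat.ble (nat_lit 760) i)) (Nat.ble (nat_lit 752) i))

def factBlk_n0_24 (i : ℕ) : ℕ := (@Bool.rec (fun _ => ℕ) (@Bool.rec (fun _ => ℕ) (@Bool.rec (fun _ => ℕ) (@Bool.rec (fun _ => ℕ) (@Bool.rec (fun _ => ℕ) fb768 fb769 (Nat.ble (nat_lit 769) i)) (@Bool.rec (fun _ => ℕ) fb770 fb771 (Nat.ble (nat_lit 771) i)) (Nat.ble (nat_lit 770) i)) (@Bool.rec (fun _ => ℕ) (@Bool.rec (fun _ => ℕ) fb772 fb773 (Nat.ble (nat_lit 773) i)) (@Bool.rec (fun _ => ℕ) fb774 fb775 (Nat.ble (nat_lit 775) i)) (Nat.ble (nat_lit 774) i)) (Nat.ble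 (nat_lit 772) i)) (@Bool.rec (fun _ => ℕ) (@Bool.rec (fun _ => ℕ) (@Bool.rec (fun _ => ℕ) fb776 fb777 (Nat.ble (nat_lit 777) i)) (@Bool.rec (fun _ => ℕ) fb778 fb779 (Nat.ble (nat_lit 779) i)) (Nat.ble (nat_lit 778) i)) (@Bool.rec (fun _ => ℕ) (@Bool.rec (fun _ => ℕ) fb780 fb781 (Nat.ble (nat_lit 781) i)) (@Bool.rec (fun _ => ℕ) fb782 fb783 (Nat.ble (nat_lit 783) i)) (Nat.ble (nat_lit 782) i)) (Nat.ble (nat_lit 780) i)) (Nat.ble (nat_lit 776) i)) (@Bool.rec (fun _ => ℕ) (@Bool.rec (fun _ => ℕ) (@Bool.rec (fun _ => ℕ) (@Bool.rec (fun _ => ℕ) fb784 fb785 (Nat.ble (nat_lit 785) i)) (@Bool.rec (fun _ => ℕ) fb786 fb787 (Nat.ble (nat_lit 787) i)) (Nat.ble (nat_lit 786) i)) (@Bool.rec (fun _ => ℕ) (@Bool.rec (fun _ => ℕ) fb788 fb789 (Nat.ble (nat_lit 789) i)) (@Bool.rec (fun _ => ℕ) fb790 fb791 (Nat.ble (nat_lit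 791) i)) (Nat.ble (nat_lit 790) i)) (Nat.ble (nat_lit 788) i)) (@Bool.rec (fun _ => ℕ) (@Bool.rec (fun _ => ℕ) (@Bool.rec (fun _ => ℕ) fb792 fb793 (Nat.ble (nat_lit 793) i)) (@Bool.rec (fun _ => ℕ) fb794 fb795 (Nat.ble (nat_lit 795) i)) (Nat.ble (nat_lit 794) i)) (@Bool.rec (fun _ => ℕ) (@Bool.rec (fun _ => ℕ) fb796 fb797 (Nat.ble (nat_lit 797) i)) (@Bool.rec (fun _ => ℕ) fb798 fb799 (Nat.ble (nat_lit 799) i)) (Nat.ble (nat_lit 798) i)) (Nat.ble (nat_lit 796) i)) (Nat.ble (nat_lit 792) i)) (Nat.ble (nat_lit 784) i))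

def factBlk_n0_25 (i : ℕ) : ℕ := (@Bool.rec (fun _ => ℕ) (@Bool.rec (fun _ => ℕ) (@Bool.rec (fun _ => ℕ) (@Bool.rec (fun _ => ℕ) (@Bool.rec (fun _ => ℕ) fb800 fb801 (Nat.ble (nat_lit 801) i)) (@Bool.rec (fun _ => ℕ) fb802 fb803 (Nat.ble (nat_lit 803) i)) (Nat.ble (nat_lit 802) i)) (@Bool.rec (fun _ => ℕ) (@Bool.rec (fun _ => ℕ) fb804 fb805 (Nat.ble (nat_lit 805) i)) (@Bool.rec (fun _ => ℕ) fb806 fb807 (Nat.ble (nat_lit 807) i)) (Nat.ble (nat_lit 806) i)) (Nat.ble (nat_lit 804) i)) (@Bool.rec (fun _ => ℕ) (@Bool.rec (fun _ => ℕ) (@Bool.rec (fun _ => ℕ) fb808 fb809 (Nat.ble (nat_lit 809) i)) (@Bool.rec (fun _ => ℕ) fb810 fb811 (Nat.ble (nat_lit 811) i)) (Nat.ble (nat_lit 810) i)) (@Bool.rec (fun _ => ℕ) (@Bool.rec (fun _ => ℕ) fb812 fb813 (Nat.ble (nat_lit 813) i)) (@Bool.rec (fun _ => ℕ) fb814 fb815 (Nat.ble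 (nat_lit 815) i)) (Nat.ble (nat_lit 814) i)) (Nat.ble (nat_lit 812) i)) (Nat.ble (nat_lit 808) i)) (@Bool.rec (fun _ => ℕ) (@Bool.rec (fun _ => ℕ) (@Bool.rec (fun _ => ℕ) (@Bool.rec (fun _ => ℕ) fb816 fb817 (Nat.ble (nat_lit 817) i)) (@Bool.rec (fun _ => ℕ) fb818 fb819 (Nat.ble (nat_lit 819) i)) (Nat.ble (nat_lit 818) i)) (@Bool.rec (fun _ => ℕ) (@Bool.rec (fun _ => ℕ) fb820 fb821 (Nat.ble (nat_lit 821) i)) (@Bool.rec (fun _ => ℕ) fb822 fb823 (Nat.ble (nat_lit 823) i)) (Nat.ble (nat_lit 822) i)) (Nat.ble (nat_lit 820) i)) (@Bool.rec (fun _ => ℕ) (@Bool.rec (fun _ => ℕ) (@Bool.rec (fun _ => ℕ) fb824 fb825 (Nat.ble (nat_lit 825) i)) (@Bool.rec (fun _ => ℕ) fb826 fb827 (Nat.ble (nat_lit 827) i)) (Nat.ble (nat_lit 826) i)) (@Bool.rec (fun _ => ℕ) (@Bool.rec (fun _ => ℕ) fb828 fb829 (Nat.ble (nat_lit 829) i))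 (@Bool.rec (fun _ => ℕ) fb830 fb831 (Nat.ble (nat_lit 831) i)) (Nat.ble (nat_lit 830) i)) (Nat.ble (nat_lit 828) i)) (Nat.ble (nat_lit 824) i)) (Nat.ble (nat_lit 816) i))

def factBlk_n0_26 (i : ℕ) : ℕ := (@Bool.rec (fun _ => ℕ) (@Bool.rec (fun _ => ℕ) (@Bool.rec (fun _ => ℕ) (@Bool.rec (fun _ => ℕ) (@Bool.rec (fun _ => ℕ) fb832 fb833 (Nat.ble (nat_lit 833) i)) (@Bool.rec (fun _ => ℕ) fb834 fb835 (Nat.ble (nat_lit 835) i)) (Nat.ble (nat_lit 834) i)) (@Bool.rec (fun _ => ℕ) (@Bool.rec (fun _ => ℕ) fb836 fb837 (Nat.ble (nat_lit 837) i)) (@Bool.rec (fun _ => ℕ) fb838 fb839 (Nat.ble (nat_lit 839) i)) (Nat.ble (nat_lit 838) i)) (Nat.ble (nat_lit 836) i)) (@Bool.rec (fun _ => ℕ) (@Bool.rec (fun _ => ℕ) (@Bool.rec (fun _ => ℕ) fb840 fb841 (Nat.ble (nat_lit 841) i)) (@Bool.rec (fun _ => ℕ) fb842 fb843 (Nat.ble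 (nat_lit 843) i)) (Nat.ble (nat_lit 842) i)) (@Bool.rec (fun _ => ℕ) (@Bool.rec (fun _ => ℕ) fb844 fb845 (Nat.ble (nat_lit 845) i)) (@Bool.rec (fun _ => ℕ) fb846 fb847 (Nat.ble (nat_lit 847) i)) (Nat.ble (nat_lit 846) i)) (Nat.ble (nat_lit 844) i)) (Nat.ble (nat_lit 840) i)) (@Bool.rec (fun _ => ℕ) (@Bool.rec (fun _ => ℕ) (@Bool.rec (fun _ => ℕ) (@Bool.rec (fun _ => ℕ) fb848 fb849 (Nat.ble (nat_lit 849) i)) (@Bool.rec (fun _ => ℕ) fb850 fb851 (Nat.ble (nat_lit 851) i)) (Nat.ble (nat_lit 850) i)) (@Bool.rec (fun _ => ℕ) (@Bool.rec (fun _ => ℕ) fb852 fb853 (Nat.ble (nat_lit 853) i)) (@Bool.rec (fun _ => ℕ) fb854 fb855 (Nat.ble (nat_lit 855) i)) (Nat.ble (nat_lit 854) i)) (Nat.ble (nat_lit 852) i)) (@Bool.rec (fun _ => ℕ) (@Bool.rec (fun _ => ℕ) (@Bool.rec (fun _ => ℕ) fb856 fb857 (Nat.ble (nat_lit 857) i))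 (@Bool.rec (fun _ => ℕ) fb858 fb859 (Nat.ble (nat_lit 859) i)) (Nat.ble (nat_lit 858) i)) (@Bool.rec (fun _ => ℕ) (@Bool.rec (fun _ => ℕ) fb860 fb861 (Nat.ble (nat_lit 861) i)) (@Bool.rec (fun _ => ℕ) fb862 fb863 (Nat.ble (nat_lit 863) i)) (Nat.ble (nat_lit 862) i)) (Nat.ble (nat_lit 860) i)) (Nat.ble (nat_lit 856) i)) (Nat.ble (nat_lit 848) i))

def factBlk_n0_27 (i : ℕ) : ℕ := (@Bool.rec (fun _ => ℕ) (@Bool.rec (fun _ => ℕ) (@Bool.rec (fun _ => ℕ) (@Bool.rec (fun _ => ℕ) (@Bool.rec (fun _ => ℕ) fb864 fb865 (Nat.ble (nat_lit 865) i)) (@Bool.rec (fun _ => ℕ) fb866 fb867 (Nat.ble (nat_lit 867) i)) (Nat.ble (nat_lit 866) i)) (@Bool.rec (fun _ => ℕ) (@Bool.rec (fun _ => ℕ) fb868 fb869 (Nat.ble (nat_lit 869) i)) (@Bool.rec (fun _ => ℕ) fb870 fb871 (Nat.ble (nat_lit 871) i)) (Nat.ble (nat_lit 870) i)) (Nat.ble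 (nat_lit 868) i)) (@Bool.rec (fun _ => ℕ) (@Bool.rec (fun _ => ℕ) (@Bool.rec (fun _ => ℕ) fb872 fb873 (Nat.ble (nat_lit 873) i)) (@Bool.rec (fun _ => ℕ) fb874 fb875 (Nat.ble (nat_lit 875) i)) (Nat.ble (nat_lit 874) i)) (@Bool.rec (fun _ => ℕ) (@Bool.rec (fun _ => ℕ) fb876 fb877 (Nat.ble (nat_lit 877) i)) (@Bool.rec (fun _ => ℕ) fb878 fb879 (Nat.ble (nat_lit 879) i)) (Nat.ble (nat_lit 878) i)) (Nat.ble (nat_lit 876) i)) (Nat.ble (nat_lit 872) i)) (@Bool.rec (fun _ => ℕ) (@Bool.rec (fun _ => ℕ) (@Bool.rec (fun _ => ℕ) (@Bool.rec (fun _ => ℕ) fb880 fb881 (Nat.ble (nat_lit 881) i)) (@Bool.rec (fun _ => ℕ) fb882 fb883 (Nat.ble (nat_lit 883) i)) (Nat.ble (nat_lit 882) i)) (@Bool.rec (fun _ => ℕ) (@Bool.rec (fun _ => ℕ) fb884 fb885 (Nat.ble (nat_lit 885) i)) (@Bool.rec (fun _ => ℕ) fb886 fb887 (Nat.ble (nat_lit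 887) i)) (Nat.ble (nat_lit 886) i)) (Nat.ble (nat_lit 884) i)) (@Bool.rec (fun _ => ℕ) (@Bool.rec (fun _ => ℕ) (@Bool.rec (fun _ => ℕ) fb888 fb889 (Nat.ble (nat_lit 889) i)) (@Bool.rec (fun _ => ℕ) fb890 fb891 (Nat.ble (nat_lit 891) i)) (Nat.ble (nat_lit 890) i)) (@Bool.rec (fun _ => ℕ) (@Bool.rec (fun _ => ℕ) fb892 fb893 (Nat.ble (nat_lit 893) i)) (@Bool.rec (fun _ => ℕ) fb894 fb895 (Nat.ble (nat_lit 895) i)) (Nat.ble (nat_lit 894) i)) (Nat.ble (nat_lit 892) i)) (Nat.ble (nat_lit 888) i)) (Nat.ble (nat_lit 880) i))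

def factBlk_n0_28 (i : ℕ) : ℕ := (@Bool.rec (fun _ => ℕ) (@Bool.rec (fun _ => ℕ) (@Bool.rec (fun _ => ℕ) (@Bool.rec (fun _ => ℕ) (@Bool.rec (fun _ => ℕ) fb896 fb897 (Nat.ble (nat_lit 897) i)) (@Bool.rec (fun _ => ℕ) fb898 fb899 (Nat.ble (nat_lit 899) i)) (Nat.ble (nat_lit 898) i)) (@Bool.rec (fun _ => ℕ) (@Bool.rec (fun _ => ℕ) fb900 fb901 (Nat.ble (nat_lit 901) i)) (@Bool.rec (fun _ => ℕ) fb902 fb903 (Nat.ble (nat_lit 903) i)) (Nat.ble (nat_lit 902) i)) (Nat.ble (nat_lit 900) i)) (@Bool.rec (fun _ => ℕ) (@Bool.rec (fun _ => ℕ) (@Bool.rec (fun _ => ℕ) fb904 fb905 (Nat.ble (nat_lit 905) i)) (@Bool.rec (fun _ => ℕ) fb906 fb907 (Nat.ble (nat_lit 907) i)) (Nat.ble (nat_lit 906) i)) (@Bool.rec (fun _ => ℕ) (@Bool.rec (fun _ => ℕ) fb908 fb909 (Nat.ble (nat_lit 909) i)) (@Bool.rec (fun _ => ℕ) fb910 fb911 (Nat.ble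 (nat_lit 911) i)) (Nat.ble (nat_lit 910) i)) (Nat.ble (nat_lit 908) i)) (Nat.ble (nat_lit 904) i)) (@Bool.rec (fun _ => ℕ) (@Bool.rec (fun _ => ℕ) (@Bool.rec (fun _ => ℕ) (@Bool.rec (fun _ => ℕ) fb912 fb913 (Nat.ble (nat_lit 913) i)) (@Bool.rec (fun _ => ℕ) fb914 fb915 (Nat.ble (nat_lit 915) i)) (Nat.ble (nat_lit 914) i)) (@Bool.rec (fun _ => ℕ) (@Bool.rec (fun _ => ℕ) fb916 fb917 (Nat.ble (nat_lit 917) i)) (@Bool.rec (fun _ => ℕ) fb918 fb919 (Nat.ble (nat_lit 919) i)) (Nat.ble (nat_lit 918) i)) (Nat.ble (nat_lit 916) i)) (@Bool.rec (fun _ => ℕ) (@Bool.rec (fun _ => ℕ) (@Bool.rec (fun _ => ℕ) fb920 fb921 (Nat.ble (nat_lit 921) i)) (@Bool.rec (fun _ => ℕ) fb922 fb923 (Nat.ble (nat_lit 923) i)) (Nat.ble (nat_lit 922) i)) (@Bool.rec (fun _ => ℕ) (@Bool.rec (fun _ => ℕ) fb924 fb925 (Nat.ble (nat_lit 925) i))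 (@Bool.rec (fun _ => ℕ) fb926 fb927 (Nat.ble (nat_lit 927) i)) (Nat.ble (nat_lit 926) i)) (Nat.ble (nat_lit 924) i)) (Nat.ble (nat_lit 920) i)) (Nat.ble (nat_lit 912) i))

def factBlk_n0_29 (i : ℕ) : ℕ := (@Bool.rec (fun _ => ℕ) (@Bool.rec (fun _ => ℕ) (@Bool.rec (fun _ => ℕ) (@Bool.rec (fun _ => ℕ) (@Bool.rec (fun _ => ℕ) fb928 fb929 (Nat.ble (nat_lit 929) i)) (@Bool.rec (fun _ => ℕ) fb930 fb931 (Nat.ble (nat_lit 931) i)) (Nat.ble (nat_lit 930) i)) (@Bool.rec (fun _ => ℕ) (@Bool.rec (fun _ => ℕ) fb932 fb933 (Nat.ble (nat_lit 933) i)) (@Bool.rec (fun _ => ℕ) fb934 fb935 (Nat.ble (nat_lit 935) i)) (Nat.ble (nat_lit 934) i)) (Nat.ble (nat_lit 932) i)) (@Bool.rec (fun _ => ℕ) (@Bool.rec (fun _ => ℕ) (@Bool.rec (fun _ => ℕ) fb936 fb937 (Nat.ble (nat_lit 937) i)) (@Bool.rec (fun _ => ℕ) fb938 fb939 (Nat.ble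 (nat_lit 939) i)) (Nat.ble (nat_lit 938) i)) (@Bool.rec (fun _ => ℕ) (@Bool.rec (fun _ => ℕ) fb940 fb941 (Nat.ble (nat_lit 941) i)) (@Bool.rec (fun _ => ℕ) fb942 fb943 (Nat.ble (nat_lit 943) i)) (Nat.ble (nat_lit 942) i)) (Nat.ble (nat_lit 940) i)) (Nat.ble (nat_lit 936) i)) (@Bool.rec (fun _ => ℕ) (@Bool.rec (fun _ => ℕ) (@Bool.rec (fun _ => ℕ) (@Bool.rec (fun _ => ℕ) fb944 fb945 (Nat.ble (nat_lit 945) i)) (@Bool.rec (fun _ => ℕ) fb946 fb947 (Nat.ble (nat_lit 947) i)) (Nat.ble (nat_lit 946) i)) (@Bool.rec (fun _ => ℕ) (@Bool.rec (fun _ => ℕ) fb948 fb949 (Nat.ble (nat_lit 949) i)) (@Bool.rec (fun _ => ℕ) fb950 fb951 (Nat.ble (nat_lit 951) i)) (Nat.ble (nat_lit 950) i)) (Nat.ble (nat_lit 948) i)) (@Bool.rec (fun _ => ℕ) (@Bool.rec (fun _ => ℕ) (@Bool.rec (fun _ => ℕ) fb952 fb953 (Nat.ble (nat_lit 953) i))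 (@Bool.rec (fun _ => ℕ) fb954 fb955 (Nat.ble (nat_lit 955) i)) (Nat.ble (nat_lit 954) i)) (@Bool.rec (fun _ => ℕ) (@Bool.rec (fun _ => ℕ) fb956 fb957 (Nat.ble (nat_lit 957) i)) (@Bool.rec (fun _ => ℕ) fb958 fb959 (Nat.ble (nat_lit 959) i)) (Nat.ble (nat_lit 958) i)) (Nat.ble (nat_lit 956) i)) (Nat.ble (nat_lit 952) i)) (Nat.ble (nat_lit 944) i))

def factBlk_n0_30 (i : ℕ) : ℕ := (@Bool.rec (fun _ => ℕ) (@Bool.rec (fun _ => ℕ) (@Bool.rec (fun _ => ℕ) (@Bool.rec (fun _ => ℕ) (@Bool.rec (fun _ => ℕ) fb960 fb961 (Nat.ble (nat_lit 961) i)) (@Bool.rec (fun _ => ℕ) fb962 fb963 (Nat.ble (nat_lit 963) i)) (Nat.ble (nat_lit 962) i)) (@Bool.rec (fun _ => ℕ) (@Bool.rec (fun _ => ℕ) fb964 fb965 (Nat.ble (nat_lit 965) i)) (@Bool.rec (fun _ => ℕ) fb966 fb967 (Nat.ble (nat_lit 967) i)) (Nat.ble (nat_lit 966) i)) (Nat.ble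 (nat_lit 964) i)) (@Bool.rec (fun _ => ℕ) (@Bool.rec (fun _ => ℕ) (@Bool.rec (fun _ => ℕ) fb968 fb969 (Nat.ble (nat_lit 969) i)) (@Bool.rec (fun _ => ℕ) fb970 fb971 (Nat.ble (nat_lit 971) i)) (Nat.ble (nat_lit 970) i)) (@Bool.rec (fun _ => ℕ) (@Bool.rec (fun _ => ℕ) fb972 fb973 (Nat.ble (nat_lit 973) i)) (@Bool.rec (fun _ => ℕ) fb974 fb975 (Nat.ble (nat_lit 975) i)) (Nat.ble (nat_lit 974) i)) (Nat.ble (nat_lit 972) i)) (Nat.ble (nat_lit 968) i)) (@Bool.rec (fun _ => ℕ) (@Bool.rec (fun _ => ℕ) (@Bool.rec (fun _ => ℕ) (@Bool.rec (fun _ => ℕ) fb976 fb977 (Nat.ble (nat_lit 977) i)) (@Bool.rec (fun _ => ℕ) fb978 fb979 (Nat.ble (nat_lit 979) i)) (Nat.ble (nat_lit 978) i)) (@Bool.rec (fun _ => ℕ) (@Bool.rec (fun _ => ℕ) fb980 fb981 (Nat.ble (nat_lit 981) i)) (@Bool.rec (fun _ => ℕ) fb982 fb983 (Nat.ble (nat_lit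 983) i)) (Nat.ble (nat_lit 982) i)) (Nat.ble (nat_lit 980) i)) (@Bool.rec (fun _ => ℕ) (@Bool.rec (fun _ => ℕ) (@Bool.rec (fun _ => ℕ) fb984 fb985 (Nat.ble (nat_lit 985) i)) (@Bool.rec (fun _ => ℕ) fb986 fb987 (Nat.ble (nat_lit 987) i)) (Nat.ble (nat_lit 986) i)) (@Bool.rec (fun _ => ℕ) (@Bool.rec (fun _ => ℕ) fb988 fb989 (Nat.ble (nat_lit 989) i)) (@Bool.rec (fun _ => ℕ) fb990 fb991 (Nat.ble (nat_lit 991) i)) (Nat.ble (nat_lit 990) i)) (Nat.ble (nat_lit 988) i)) (Nat.ble (nat_lit 984) i)) (Nat.ble (nat_lit 976) i))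

def factBlk_n0_31 (i : ℕ) : ℕ := (@Bool.rec (fun _ => ℕ) (@Bool.rec (fun _ => ℕ) (@Bool.rec (fun _ => ℕ) (@Bool.rec (fun _ => ℕ) (@Bool.rec (fun _ => ℕ) fb992 fb993 (Nat.ble (nat_lit 993) i)) (@Bool.rec (fun _ => ℕ) fb994 fb995 (Nat.ble (nat_lit 995) i)) (Nat.ble (nat_lit 994) i)) (@Bool.rec (fun _ => ℕ) (@Bool.rec (fun _ => ℕ) fb996 fb997 (Nat.ble (nat_lit 997) i)) (@Bool.rec (fun _ => ℕ) fb998 fb999 (Nat.ble (nat_lit 999) i)) (Nat.ble (nat_lit 998) i)) (Nat.ble (nat_lit 996) i)) (@Bool.rec (fun _ => ℕ) (@Bool.rec (fun _ => ℕ) (@Bool.rec (fun _ => ℕ) fb1000 fb1001 (Nat.ble (nat_lit 1001) i)) (@Bool.rec (fun _ => ℕ) fb1002 fb1003 (Nat.ble (nat_lit 1003) i)) (Nat.ble (nat_lit 1002) i)) (@Bool.rec (fun _ => ℕ) (@Bool.rec (fun _ => ℕ) fb1004 fb1005 (Nat.ble (nat_lit 1005) i)) (@Bool.rec (fun _ => ℕ) fb1006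 fb1007 (Nat.ble (nat_lit 1007) i)) (Nat.ble (nat_lit 1006) i)) (Nat.ble (nat_lit 1004) i)) (Nat.ble (nat_lit 1000) i)) (@Bool.rec (fun _ => ℕ) (@Bool.rec (fun _ => ℕ) (@Bool.rec (fun _ => ℕ) (@Bool.rec (fun _ => ℕ) fb1008 fb1009 (Nat.ble (nat_lit 1009) i)) (@Bool.rec (fun _ => ℕ) fb1010 fb1011 (Nat.ble (nat_lit 1011) i)) (Nat.ble (nat_lit 1010) i)) (@Bool.rec (fun _ => ℕ) (@Bool.rec (fun _ => ℕ) fb1012 fb1013 (Nat.ble (nat_lit 1013) i)) (@Bool.rec (fun _ => ℕ) fb1014 fb1015 (Nat.ble (nat_lit 1015) i)) (Nat.ble (nat_lit 1014) i)) (Nat.ble (nat_lit 1012) i)) (@Bool.rec (fun _ => ℕ) (@Bool.rec (fun _ => ℕ) (@Bool.rec (fun _ => ℕ) fb1016 fb1017 (Nat.ble (nat_lit 1017) i)) (@Bool.rec (fun _ => ℕ) fb1018 fb1019 (Nat.ble (nat_lit 1019) i)) (Nat.ble (nat_lit 1018) i)) (@Bool.rec (fun _ => ℕ) (@Bool.rec (fun _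 => ℕ) fb1020 fb1021 (Nat.ble (nat_lit 1021) i)) (@Bool.rec (fun _ => ℕ) fb1022 fb1023 (Nat.ble (nat_lit 1023) i)) (Nat.ble (nat_lit 1022) i)) (Nat.ble (nat_lit 1020) i)) (Nat.ble (nat_lit 1016) i)) (Nat.ble (nat_lit 1008) i))

def factBlk_n0_32 (i : ℕ) : ℕ := (@Bool.rec (fun _ => ℕ) (@Bool.rec (fun _ => ℕ) (@Bool.rec (fun _ => ℕ) (@Bool.rec (fun _ => ℕ) (@Bool.rec (fun _ => ℕ) fb1024 fb1025 (Nat.ble (nat_lit 1025) i)) (@Bool.rec (fun _ => ℕ) fb1026 fb1027 (Nat.ble (nat_lit 1027) i)) (Nat.ble (nat_lit 1026) i)) (@Bool.rec (fun _ => ℕ) (@Bool.rec (fun _ => ℕ) fb1028 fb1029 (Nat.ble (nat_lit 1029) i)) (@Bool.rec (fun _ => ℕ) fb1030 fb1031 (Nat.ble (nat_lit 1031) i)) (Nat.ble (nat_lit 1030) i)) (Nat.ble (nat_lit 1028) i)) (@Bool.rec (fun _ => ℕ) (@Bool.rec (fun _ => ℕ) (@Bool.rec (fun _ => ℕ) fb1032 fb1033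 (Nat.ble (nat_lit 1033) i)) (@Bool.rec (fun _ => ℕ) fb1034 fb1035 (Nat.ble (nat_lit 1035) i)) (Nat.ble (nat_lit 1034) i)) (@Bool.rec (fun _ => ℕ) (@Bool.rec (fun _ => ℕ) fb1036 fb1037 (Nat.ble (nat_lit 1037) i)) (@Bool.rec (fun _ => ℕ) fb1038 fb1039 (Nat.ble (nat_lit 1039) i)) (Nat.ble (nat_lit 1038) i)) (Nat.ble (nat_lit 1036) i)) (Nat.ble (nat_lit 1032) i)) (@Bool.rec (fun _ => ℕ) (@Bool.rec (fun _ => ℕ) (@Bool.rec (fun _ => ℕ) (@Bool.rec (fun _ => ℕ) fb1040 fb1041 (Nat.ble (nat_lit 1041) i)) (@Bool.rec (fun _ => ℕ) fb1042 fb1043 (Nat.ble (nat_lit 1043) i)) (Nat.ble (nat_lit 1042) i)) (@Bool.rec (fun _ => ℕ) (@Bool.rec (fun _ => ℕ) fb1044 fb1045 (Nat.ble (nat_lit 1045) i)) (@Bool.rec (fun _ => ℕ) fb1046 fb1047 (Nat.ble (nat_lit 1047) i)) (Nat.ble (nat_lit 1046) i)) (Nat.ble (nat_lit 1044) i)) (@Bool.rec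 (fun _ => ℕ) (@Bool.rec (fun _ => ℕ) (@Bool.rec (fun _ => ℕ) fb1048 fb1049 (Nat.ble (nat_lit 1049) i)) (@Bool.rec (fun _ => ℕ) fb1050 fb1051 (Nat.ble (nat_lit 1051) i)) (Nat.ble (nat_lit 1050) i)) (@Bool.rec (fun _ => ℕ) (@Bool.rec (fun _ => ℕ) fb1052 fb1053 (Nat.ble (nat_lit 1053) i)) (@Bool.rec (fun _ => ℕ) fb1054 fb1055 (Nat.ble (nat_lit 1055) i)) (Nat.ble (nat_lit 1054) i)) (Nat.ble (nat_lit 1052) i)) (Nat.ble (nat_lit 1048) i)) (Nat.ble (nat_lit 1040) i))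

def factBlk_n0_33 (i : ℕ) : ℕ := (@Bool.rec (fun _ => ℕ) (@Bool.rec (fun _ => ℕ) (@Bool.rec (fun _ => ℕ) (@Bool.rec (fun _ => ℕ) (@Bool.rec (fun _ => ℕ) fb1056 fb1057 (Nat.ble (nat_lit 1057) i)) (@Bool.rec (fun _ => ℕ) fb1058 fb1059 (Nat.ble (nat_lit 1059) i)) (Nat.ble (nat_lit 1058) i)) (@Bool.rec (fun _ => ℕ) (@Bool.rec (fun _ => ℕ) fb1060 fb1061 (Nat.ble (nat_lit 1061) i)) (@Bool.rec (fun _ => ℕ) fb1062 fb1063 (Nat.ble (nat_lit 1063) i)) (Nat.ble (nat_lit 1062) i)) (Nat.ble (nat_lit 1060) i)) (@Bool.rec (fun _ => ℕ) (@Bool.rec (fun _ => ℕ) (@Bool.rec (fun _ => ℕ) fb1064 fb1065 (Nat.ble (nat_lit 1065) i)) (@Bool.rec (fun _ => ℕ) fb1066 fb1067 (Nat.ble (nat_lit 1067) i)) (Nat.ble (nat_lit 1066) i)) (@Bool.rec (fun _ => ℕ) (@Bool.rec (fun _ => ℕ) fb1068 fb1069 (Nat.ble (nat_lit 1069) i)) (@Bool.rec (fun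 _ => ℕ) fb1070 fb1071 (Nat.ble (nat_lit 1071) i)) (Nat.ble (nat_lit 1070) i)) (Nat.ble (nat_lit 1068) i)) (Nat.ble (nat_lit 1064) i)) (@Bool.rec (fun _ => ℕ) (@Bool.rec (fun _ => ℕ) (@Bool.rec (fun _ => ℕ) (@Bool.rec (fun _ => ℕ) fb1072 fb1073 (Nat.ble (nat_lit 1073) i)) (@Bool.rec (fun _ => ℕ) fb1074 fb1075 (Nat.ble (nat_lit 1075) i)) (Nat.ble (nat_lit 1074) i)) (@Bool.rec (fun _ => ℕ) (@Bool.rec (fun _ => ℕ) fb1076 fb1077 (Nat.ble (nat_lit 1077) i)) (@Bool.rec (fun _ => ℕ) fb1078 fb1079 (Nat.ble (nat_lit 1079) i)) (Nat.ble (nat_lit 1078) i)) (Nat.ble (nat_lit 1076) i)) (@Bool.rec (fun _ => ℕ) (@Bool.rec (fun _ => ℕ) (@Bool.rec (fun _ => ℕ) fb1080 fb1081 (Nat.ble (nat_lit 1081) i)) (@Bool.rec (fun _ => ℕ) fb1082 fb1083 (Nat.ble (nat_lit 1083) i)) (Nat.ble (nat_lit 1082) i)) (@Bool.rec (fun _ => ℕ) (@Bool.rec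 (fun _ => ℕ) fb1084 fb1085 (Nat.ble (nat_lit 1085) i)) (@Bool.rec (fun _ => ℕ) fb1086 fb1087 (Nat.ble (nat_lit 1087) i)) (Nat.ble (nat_lit 1086) i)) (Nat.ble (nat_lit 1084) i)) (Nat.ble (nat_lit 1080) i)) (Nat.ble (nat_lit 1072) i))

def factBlk_n0_34 (i : ℕ) : ℕ := (@Bool.rec (fun _ => ℕ) (@Bool.rec (fun _ => ℕ) (@Bool.rec (fun _ => ℕ) (@Bool.rec (fun _ => ℕ) (@Bool.rec (fun _ => ℕ) fb1088 fb1089 (Nat.ble (nat_lit 1089) i)) (@Bool.rec (fun _ => ℕ) fb1090 fb1091 (Nat.ble (nat_lit 1091) i)) (Nat.ble (nat_lit 1090) i)) (@Bool.rec (fun _ => ℕ) (@Bool.rec (fun _ => ℕ) fb1092 fb1093 (Nat.ble (nat_lit 1093) i)) (@Bool.rec (fun _ => ℕ) fb1094 fb1095 (Nat.ble (nat_lit 1095) i)) (Nat.ble (nat_lit 1094) i)) (Nat.ble (nat_lit 1092) i)) (@Bool.rec (fun _ => ℕ) (@Bool.rec (fun _ => ℕ) (@Bool.rec (fun _ => ℕ) fb1096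 fb1097 (Nat.ble (nat_lit 1097) i)) (@Bool.rec (fun _ => ℕ) fb1098 fb1099 (Nat.ble (nat_lit 1099) i)) (Nat.ble (nat_lit 1098) i)) (@Bool.rec (fun _ => ℕ) (@Bool.rec (fun _ => ℕ) fb1100 fb1101 (Nat.ble (nat_lit 1101) i)) (@Bool.rec (fun _ => ℕ) fb1102 fb1103 (Nat.ble (nat_lit 1103) i)) (Nat.ble (nat_lit 1102) i)) (Nat.ble (nat_lit 1100) i)) (Nat.ble (nat_lit 1096) i)) (@Bool.rec (fun _ => ℕ) (@Bool.rec (fun _ => ℕ) (@Bool.rec (fun _ => ℕ) (@Bool.rec (fun _ => ℕ) fb1104 fb1105 (Nat.ble (nat_lit 1105) i)) (@Bool.rec (fun _ => ℕ) fb1106 fb1107 (Nat.ble (nat_lit 1107) i)) (Nat.ble (nat_lit 1106) i)) (@Bool.rec (fun _ => ℕ) (@Bool.rec (fun _ => ℕ) fb1108 fb1109 (Nat.ble (nat_lit 1109) i)) (@Bool.rec (fun _ => ℕ) fb1110 fb1111 (Nat.ble (nat_lit 1111) i)) (Nat.ble (nat_lit 1110) i)) (Nat.ble (nat_lit 1108) i))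 (@Bool.rec (fun _ => ℕ) (@Bool.rec (fun _ => ℕ) (@Bool.rec (fun _ => ℕ) fb1112 fb1113 (Nat.ble (nat_lit 1113) i)) (@Bool.rec (fun _ => ℕ) fb1114 fb1115 (Nat.ble (nat_lit 1115) i)) (Nat.ble (nat_lit 1114) i)) (@Bool.rec (fun _ => ℕ) (@Bool.rec (fun _ => ℕ) fb1116 fb1117 (Nat.ble (nat_lit 1117) i)) (@Bool.rec (fun _ => ℕ) fb1118 fb1119 (Nat.ble (nat_lit 1119) i)) (Nat.ble (nat_lit 1118) i)) (Nat.ble (nat_lit 1116) i)) (Nat.ble (nat_lit 1112) i)) (Nat.ble (nat_lit 1104) i))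

def factBlk_n0_35 (i : ℕ) : ℕ := (@Bool.rec (fun _ => ℕ) (@Bool.rec (fun _ => ℕ) (@Bool.rec (fun _ => ℕ) (@Bool.rec (fun _ => ℕ) (@Bool.rec (fun _ => ℕ) fb1120 fb1121 (Nat.ble (nat_lit 1121) i)) (@Bool.rec (fun _ => ℕ) fb1122 fb1123 (Nat.ble (nat_lit 1123) i)) (Nat.ble (nat_lit 1122) i)) (@Bool.rec (fun _ => ℕ) (@Bool.rec (fun _ => ℕ) fb1124 fb1125 (Nat.ble (nat_lit 1125) i)) (@Bool.rec (fun _ => ℕ) fb1126 fb1127 (Nat.ble (nat_lit 1127) i)) (Nat.ble (nat_lit 1126) i)) (Nat.ble (nat_lit 1124) i)) (@Bool.rec (fun _ => ℕ) (@Bool.rec (fun _ => ℕ) (@Bool.rec (fun _ => ℕ) fb1128 fb1129 (Nat.ble (nat_lit 1129) i)) (@Bool.rec (fun _ => ℕ) fb1130 fb1131 (Nat.ble (nat_lit 1131) i)) (Nat.ble (nat_lit 1130) i)) (@Bool.rec (fun _ => ℕ) (@Bool.rec (fun _ => ℕ) fb1132 fb1133 (Nat.ble (nat_lit 1133) i)) (@Bool.rec (fun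 _ => ℕ) fb1134 fb1135 (Nat.ble (nat_lit 1135) i)) (Nat.ble (nat_lit 1134) i)) (Nat.ble (nat_lit 1132) i)) (Nat.ble (nat_lit 1128) i)) (@Bool.rec (fun _ => ℕ) (@Bool.rec (fun _ => ℕ) (@Bool.rec (fun _ => ℕ) (@Bool.rec (fun _ => ℕ) fb1136 fb1137 (Nat.ble (nat_lit 1137) i)) (@Bool.rec (fun _ => ℕ) fb1138 fb1139 (Nat.ble (nat_lit 1139) i)) (Nat.ble (nat_lit 1138) i)) (@Bool.rec (fun _ => ℕ) (@Bool.rec (fun _ => ℕ) fb1140 fb1141 (Nat.ble (nat_lit 1141) i)) (@Bool.rec (fun _ => ℕ) fb1142 fb1143 (Nat.ble (nat_lit 1143) i)) (Nat.ble (nat_lit 1142) i)) (Nat.ble (nat_lit 1140) i)) (@Bool.rec (fun _ => ℕ) (@Bool.rec (fun _ => ℕ) (@Bool.rec (fun _ => ℕ) fb1144 fb1145 (Nat.ble (nat_lit 1145) i)) (@Bool.rec (fun _ => ℕ) fb1146 fb1147 (Nat.ble (nat_lit 1147) i)) (Nat.ble (nat_lit 1146) i)) (@Bool.rec (fun _ => ℕ) (@Bool.rec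 (fun _ => ℕ) fb1148 fb1149 (Nat.ble (nat_lit 1149) i)) (@Bool.rec (fun _ => ℕ) fb1150 fb1151 (Nat.ble (nat_lit 1151) i)) (Nat.ble (nat_lit 1150) i)) (Nat.ble (nat_lit 1148) i)) (Nat.ble (nat_lit 1144) i)) (Nat.ble (nat_lit 1136) i))

def factBlk_n0_36 (i : ℕ) : ℕ := (@Bool.rec (fun _ => ℕ) (@Bool.rec (fun _ => ℕ) (@Bool.rec (fun _ => ℕ) (@Bool.rec (fun _ => ℕ) (@Bool.rec (fun _ => ℕ) fb1152 fb1153 (Nat.ble (nat_lit 1153) i)) (@Bool.rec (fun _ => ℕ) fb1154 fb1155 (Nat.ble (nat_lit 1155) i)) (Nat.ble (nat_lit 1154) i)) (@Bool.rec (fun _ => ℕ) (@Bool.rec (fun _ => ℕ) fb1156 fb1157 (Nat.ble (nat_lit 1157) i)) (@Bool.rec (fun _ => ℕ) fb1158 fb1159 (Nat.ble (nat_lit 1159) i)) (Nat.ble (nat_lit 1158) i)) (Nat.ble (nat_lit 1156) i)) (@Bool.rec (fun _ => ℕ) (@Bool.rec (fun _ => ℕ) (@Bool.rec (fun _ => ℕ) fb1160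 fb1161 (Nat.ble (nat_lit 1161) i)) (@Bool.rec (fun _ => ℕ) fb1162 fb1163 (Nat.ble (nat_lit 1163) i)) (Nat.ble (nat_lit 1162) i)) (@Bool.rec (fun _ => ℕ) (@Bool.rec (fun _ => ℕ) fb1164 fb1165 (Nat.ble (nat_lit 1165) i)) (@Bool.rec (fun _ => ℕ) fb1166 fb1167 (Nat.ble (nat_lit 1167) i)) (Nat.ble (nat_lit 1166) i)) (Nat.ble (nat_lit 1164) i)) (Nat.ble (nat_lit 1160) i)) (@Bool.rec (fun _ => ℕ) (@Bool.rec (fun _ => ℕ) (@Bool.rec (fun _ => ℕ) (@Bool.rec (fun _ => ℕ) fb1168 fb1169 (Nat.ble (nat_lit 1169) i)) (@Bool.rec (fun _ => ℕ) fb1170 fb1171 (Nat.ble (nat_lit 1171) i)) (Nat.ble (nat_lit 1170) i)) (@Bool.rec (fun _ => ℕ) (@Bool.rec (fun _ => ℕ) fb1172 fb1173 (Nat.ble (nat_lit 1173) i)) (@Bool.rec (fun _ => ℕ) fb1174 fb1175 (Nat.ble (nat_lit 1175) i)) (Nat.ble (nat_lit 1174) i)) (Nat.ble (nat_lit 1172) i))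 (@Bool.rec (fun _ => ℕ) (@Bool.rec (fun _ => ℕ) (@Bool.rec (fun _ => ℕ) fb1176 fb1177 (Nat.ble (nat_lit 1177) i)) (@Bool.rec (fun _ => ℕ) fb1178 fb1179 (Nat.ble (nat_lit 1179) i)) (Nat.ble (nat_lit 1178) i)) (@Bool.rec (fun _ => ℕ) (@Bool.rec (fun _ => ℕ) fb1180 fb1181 (Nat.ble (nat_lit 1181) i)) (@Bool.rec (fun _ => ℕ) fb1182 fb1183 (Nat.ble (nat_lit 1183) i)) (Nat.ble (nat_lit 1182) i)) (Nat.ble (nat_lit 1180) i)) (Nat.ble (nat_lit 1176) i)) (Nat.ble (nat_lit 1168) i))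

def factBlk_n0_37 (i : ℕ) : ℕ := (@Bool.rec (fun _ => ℕ) (@Bool.rec (fun _ => ℕ) (@Bool.rec (fun _ => ℕ) (@Bool.rec (fun _ => ℕ) (@Bool.rec (fun _ => ℕ) fb1184 fb1185 (Nat.ble (nat_lit 1185) i)) (@Bool.rec (fun _ => ℕ) fb1186 fb1187 (Nat.ble (nat_lit 1187) i)) (Nat.ble (nat_lit 1186) i)) (@Bool.rec (fun _ => ℕ) (@Bool.rec (fun _ => ℕ) fb1188 fb1189 (Nat.ble (nat_lit 1189) i)) (@Bool.rec (fun _ => ℕ) fb1190 fb1191 (Nat.ble (nat_lit 1191) i)) (Nat.ble (nat_lit 1190) i)) (Nat.ble (nat_lit 1188) i)) (@Bool.rec (fun _ => ℕ) (@Bool.rec (fun _ => ℕ) (@Bool.rec (fun _ => ℕ) fb1192 fb1193 (Nat.ble (nat_lit 1193) i)) (@Bool.rec (fun _ => ℕ) fb1194 fb1195 (Nat.ble (nat_lit 1195) i)) (Nat.ble (nat_lit 1194) i)) (@Bool.rec (fun _ => ℕ) (@Bool.rec (fun _ => ℕ) fb1196 fb1197 (Nat.ble (nat_lit 1197) i)) (@Bool.rec (fun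 _ => ℕ) fb1198 fb1199 (Nat.ble (nat_lit 1199) i)) (Nat.ble (nat_lit 1198) i)) (Nat.ble (nat_lit 1196) i)) (Nat.ble (nat_lit 1192) i)) (@Bool.rec (fun _ => ℕ) (@Bool.rec (fun _ => ℕ) (@Bool.rec (fun _ => ℕ) (@Bool.rec (fun _ => ℕ) fb1200 fb1201 (Nat.ble (nat_lit 1201) i)) (@Bool.rec (fun _ => ℕ) fb1202 fb1203 (Nat.ble (nat_lit 1203) i)) (Nat.ble (nat_lit 1202) i)) (@Bool.rec (fun _ => ℕ) (@Bool.rec (fun _ => ℕ) fb1204 fb1205 (Nat.ble (nat_lit 1205) i)) (@Bool.rec (fun _ => ℕ) fb1206 fb1207 (Nat.ble (nat_lit 1207) i)) (Nat.ble (nat_lit 1206) i)) (Nat.ble (nat_lit 1204) i)) (@Bool.rec (fun _ => ℕ) (@Bool.rec (fun _ => ℕ) (@Bool.rec (fun _ => ℕ) fb1208 fb1209 (Nat.ble (nat_lit 1209) i)) (@Bool.rec (fun _ => ℕ) fb1210 fb1211 (Nat.ble (nat_lit 1211) i)) (Nat.ble (nat_lit 1210) i)) (@Bool.rec (fun _ => ℕ) (@Bool.rec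 (fun _ => ℕ) fb1212 fb1213 (Nat.ble (nat_lit 1213) i)) (@Bool.rec (fun _ => ℕ) fb1214 fb1215 (Nat.ble (nat_lit 1215) i)) (Nat.ble (nat_lit 1214) i)) (Nat.ble (nat_lit 1212) i)) (Nat.ble (nat_lit 1208) i)) (Nat.ble (nat_lit 1200) i))

def factBlk_n0_38 (i : ℕ) : ℕ := (@Bool.rec (fun _ => ℕ) (@Bool.rec (fun _ => ℕ) (@Bool.rec (fun _ => ℕ) (@Bool.rec (fun _ => ℕ) (@Bool.rec (fun _ => ℕ) fb1216 fb1217 (Nat.ble (nat_lit 1217) i)) (@Bool.rec (fun _ => ℕ) fb1218 fb1219 (Nat.ble (nat_lit 1219) i)) (Nat.ble (nat_lit 1218) i)) (@Bool.rec (fun _ => ℕ) (@Bool.rec (fun _ => ℕ) fb1220 fb1221 (Nat.ble (nat_lit 1221) i)) (@Bool.rec (fun _ => ℕ) fb1222 fb1223 (Nat.ble (nat_lit 1223) i)) (Nat.ble (nat_lit 1222) i)) (Nat.ble (nat_lit 1220) i)) (@Bool.rec (fun _ => ℕ) (@Bool.rec (fun _ => ℕ) (@Bool.rec (fun _ => ℕ) fb1224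 fb1225 (Nat.ble (nat_lit 1225) i)) (@Bool.rec (fun _ => ℕ) fb1226 fb1227 (Nat.ble (nat_lit 1227) i)) (Nat.ble (nat_lit 1226) i)) (@Bool.rec (fun _ => ℕ) (@Bool.rec (fun _ => ℕ) fb1228 fb1229 (Nat.ble (nat_lit 1229) i)) (@Bool.rec (fun _ => ℕ) fb1230 fb1231 (Nat.ble (nat_lit 1231) i)) (Nat.ble (nat_lit 1230) i)) (Nat.ble (nat_lit 1228) i)) (Nat.ble (nat_lit 1224) i)) (@Bool.rec (fun _ => ℕ) (@Bool.rec (fun _ => ℕ) (@Bool.rec (fun _ => ℕ) (@Bool.rec (fun _ => ℕ) fb1232 fb1233 (Nat.ble (nat_lit 1233) i)) (@Bool.rec (fun _ => ℕ) fb1234 fb1235 (Nat.ble (nat_lit 1235) i)) (Nat.ble (nat_lit 1234) i)) (@Bool.rec (fun _ => ℕ) (@Bool.rec (fun _ => ℕ) fb1236 fb1237 (Nat.ble (nat_lit 1237) i)) (@Bool.rec (fun _ => ℕ) fb1238 fb1239 (Nat.ble (nat_lit 1239) i)) (Nat.ble (nat_lit 1238) i)) (Nat.ble (nat_lit 1236) i))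 (@Bool.rec (fun _ => ℕ) (@Bool.rec (fun _ => ℕ) (@Bool.rec (fun _ => ℕ) fb1240 fb1241 (Nat.ble (nat_lit 1241) i)) (@Bool.rec (fun _ => ℕ) fb1242 fb1243 (Nat.ble (nat_lit 1243) i)) (Nat.ble (nat_lit 1242) i)) (@Bool.rec (fun _ => ℕ) (@Bool.rec (fun _ => ℕ) fb1244 fb1245 (Nat.ble (nat_lit 1245) i)) (@Bool.rec (fun _ => ℕ) fb1246 fb1247 (Nat.ble (nat_lit 1247) i)) (Nat.ble (nat_lit 1246) i)) (Nat.ble (nat_lit 1244) i)) (Nat.ble (nat_lit 1240) i)) (Nat.ble (nat_lit 1232) i))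

def factBlk_n0_39 (i : ℕ) : ℕ := (@Bool.rec (fun _ => ℕ) (@Bool.rec (fun _ => ℕ) (@Bool.rec (fun _ => ℕ) (@Bool.rec (fun _ => ℕ) (@Bool.rec (fun _ => ℕ) fb1248 fb1249 (Nat.ble (nat_lit 1249) i)) (@Bool.rec (fun _ => ℕ) fb1250 fb1251 (Nat.ble (nat_lit 1251) i)) (Nat.ble (nat_lit 1250) i)) (@Bool.rec (fun _ => ℕ) (@Bool.rec (fun _ => ℕ) fb1252 fb1253 (Nat.ble (nat_lit 1253) i)) (@Bool.rec (fun _ => ℕ) fb1254 fb1255 (Nat.ble (nat_lit 1255) i)) (Nat.ble (nat_lit 1254) i)) (Nat.ble (nat_lit 1252) i)) (@Bool.rec (fun _ => ℕ) (@Bool.rec (fun _ => ℕ) (@Bool.rec (fun _ => ℕ) fb1256 fb1257 (Nat.ble (nat_lit 1257) i)) (@Bool.rec (fun _ => ℕ) fb1258 fb1259 (Nat.ble (nat_lit 1259) i)) (Nat.ble (nat_lit 1258) i)) (@Bool.rec (fun _ => ℕ) (@Bool.rec (fun _ => ℕ) fb1260 fb1261 (Nat.ble (nat_lit 1261) i)) (@Bool.rec (fun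 _ => ℕ) fb1262 fb1263 (Nat.ble (nat_lit 1263) i)) (Nat.ble (nat_lit 1262) i)) (Nat.ble (nat_lit 1260) i)) (Nat.ble (nat_lit 1256) i)) (@Bool.rec (fun _ => ℕ) (@Bool.rec (fun _ => ℕ) (@Bool.rec (fun _ => ℕ) (@Bool.rec (fun _ => ℕ) fb1264 fb1265 (Nat.ble (nat_lit 1265) i)) (@Bool.rec (fun _ => ℕ) fb1266 fb1267 (Nat.ble (nat_lit 1267) i)) (Nat.ble (nat_lit 1266) i)) (@Bool.rec (fun _ => ℕ) (@Bool.rec (fun _ => ℕ) fb1268 fb1269 (Nat.ble (nat_lit 1269) i)) (@Bool.rec (fun _ => ℕ) fb1270 fb1271 (Nat.ble (nat_lit 1271) i)) (Nat.ble (nat_lit 1270) i)) (Nat.ble (nat_lit 1268) i)) (@Bool.rec (fun _ => ℕ) (@Bool.rec (fun _ => ℕ) (@Bool.rec (fun _ => ℕ) fb1272 fb1273 (Nat.ble (nat_lit 1273) i)) (@Bool.rec (fun _ => ℕ) fb1274 fb1275 (Nat.ble (nat_lit 1275) i)) (Nat.ble (nat_lit 1274) i)) (@Bool.rec (fun _ => ℕ) (@Bool.rec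 (fun _ => ℕ) fb1276 fb1277 (Nat.ble (nat_lit 1277) i)) (@Bool.rec (fun _ => ℕ) fb1278 fb1279 (Nat.ble (nat_lit 1279) i)) (Nat.ble (nat_lit 1278) i)) (Nat.ble (nat_lit 1276) i)) (Nat.ble (nat_lit 1272) i)) (Nat.ble (nat_lit 1264) i))

def factBlk_n0_40 (i : ℕ) : ℕ := (@Bool.rec (fun _ => ℕ) (@Bool.rec (fun _ => ℕ) (@Bool.rec (fun _ => ℕ) (@Bool.rec (fun _ => ℕ) (@Bool.rec (fun _ => ℕ) fb1280 fb1281 (Nat.ble (nat_lit 1281) i)) (@Bool.rec (fun _ => ℕ) fb1282 fb1283 (Nat.ble (nat_lit 1283) i)) (Nat.ble (nat_lit 1282) i)) (@Bool.rec (fun _ => ℕ) (@Bool.rec (fun _ => ℕ) fb1284 fb1285 (Nat.ble (nat_lit 1285) i)) (@Bool.rec (fun _ => ℕ) fb1286 fb1287 (Nat.ble (nat_lit 1287) i)) (Nat.ble (nat_lit 1286) i)) (Nat.ble (nat_lit 1284) i)) (@Bool.rec (fun _ => ℕ) (@Bool.rec (fun _ => ℕ) (@Bool.rec (fun _ => ℕ) fb1288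 fb1289 (Nat.ble (nat_lit 1289) i)) (@Bool.rec (fun _ => ℕ) fb1290 fb1291 (Nat.ble (nat_lit 1291) i)) (Nat.ble (nat_lit 1290) i)) (@Bool.rec (fun _ => ℕ) (@Bool.rec (fun _ => ℕ) fb1292 fb1293 (Nat.ble (nat_lit 1293) i)) (@Bool.rec (fun _ => ℕ) fb1294 fb1295 (Nat.ble (nat_lit 1295) i)) (Nat.ble (nat_lit 1294) i)) (Nat.ble (nat_lit 1292) i)) (Nat.ble (nat_lit 1288) i)) (@Bool.rec (fun _ => ℕ) (@Bool.rec (fun _ => ℕ) (@Bool.rec (fun _ => ℕ) (@Bool.rec (fun _ => ℕ) fb1296 fb1297 (Nat.ble (nat_lit 1297) i)) (@Bool.rec (fun _ => ℕ) fb1298 fb1299 (Nat.ble (nat_lit 1299) i)) (Nat.ble (nat_lit 1298) i)) (@Bool.rec (fun _ => ℕ) (@Bool.rec (fun _ => ℕ) fb1300 fb1301 (Nat.ble (nat_lit 1301) i)) (@Bool.rec (fun _ => ℕ) fb1302 fb1303 (Nat.ble (nat_lit 1303) i)) (Nat.ble (nat_lit 1302) i)) (Nat.ble (nat_lit 1300) i))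 (@Bool.rec (fun _ => ℕ) (@Bool.rec (fun _ => ℕ) (@Bool.rec (fun _ => ℕ) fb1304 fb1305 (Nat.ble (nat_lit 1305) i)) (@Bool.rec (fun _ => ℕ) fb1306 fb1307 (Nat.ble (nat_lit 1307) i)) (Nat.ble (nat_lit 1306) i)) (@Bool.rec (fun _ => ℕ) (@Bool.rec (fun _ => ℕ) fb1308 fb1309 (Nat.ble (nat_lit 1309) i)) (@Bool.rec (fun _ => ℕ) fb1310 fb1311 (Nat.ble (nat_lit 1311) i)) (Nat.ble (nat_lit 1310) i)) (Nat.ble (nat_lit 1308) i)) (Nat.ble (nat_lit 1304) i)) (Nat.ble (nat_lit 1296) i))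

def factBlk_n0_41 (i : ℕ) : ℕ := (@Bool.rec (fun _ => ℕ) (@Bool.rec (fun _ => ℕ) (@Bool.rec (fun _ => ℕ) (@Bool.rec (fun _ => ℕ) (@Bool.rec (fun _ => ℕ) fb1312 fb1313 (Nat.ble (nat_lit 1313) i)) (@Bool.rec (fun _ => ℕ) fb1314 fb1315 (Nat.ble (nat_lit 1315) i)) (Nat.ble (nat_lit 1314) i)) (@Bool.rec (fun _ => ℕ) (@Bool.rec (fun _ => ℕ) fb1316 fb1317 (Nat.ble (nat_lit 1317) i)) (@Bool.rec (fun _ => ℕ) fb1318 fb1319 (Nat.ble (nat_lit 1319) i)) (Nat.ble (nat_lit 1318) i)) (Nat.ble (nat_lit 1316) i)) (@Bool.rec (fun _ => ℕ) (@Bool.rec (fun _ => ℕ) (@Bool.rec (fun _ => ℕ) fb1320 fb1321 (Nat.ble (nat_lit 1321) i)) (@Bool.rec (fun _ => ℕ) fb1322 fb1323 (Nat.ble (nat_lit 1323) i)) (Nat.ble (nat_lit 1322) i)) (@Bool.rec (fun _ => ℕ) (@Bool.rec (fun _ => ℕ) fb1324 fb1325 (Nat.ble (nat_lit 1325) i)) (@Bool.rec (fun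 _ => ℕ) fb1326 fb1327 (Nat.ble (nat_lit 1327) i)) (Nat.ble (nat_lit 1326) i)) (Nat.ble (nat_lit 1324) i)) (Nat.ble (nat_lit 1320) i)) (@Bool.rec (fun _ => ℕ) (@Bool.rec (fun _ => ℕ) (@Bool.rec (fun _ => ℕ) (@Bool.rec (fun _ => ℕ) fb1328 fb1329 (Nat.ble (nat_lit 1329) i)) (@Bool.rec (fun _ => ℕ) fb1330 fb1331 (Nat.ble (nat_lit 1331) i)) (Nat.ble (nat_lit 1330) i)) (@Bool.rec (fun _ => ℕ) (@Bool.rec (fun _ => ℕ) fb1332 fb1333 (Nat.ble (nat_lit 1333) i)) (@Bool.rec (fun _ => ℕ) fb1334 fb1335 (Nat.ble (nat_lit 1335) i)) (Nat.ble (nat_lit 1334) i)) (Nat.ble (nat_lit 1332) i)) (@Bool.rec (fun _ => ℕ) (@Bool.rec (fun _ => ℕ) (@Bool.rec (fun _ => ℕ) fb1336 fb1337 (Nat.ble (nat_lit 1337) i)) (@Bool.rec (fun _ => ℕ) fb1338 fb1339 (Nat.ble (nat_lit 1339) i)) (Nat.ble (nat_lit 1338) i)) (@Bool.rec (fun _ => ℕ) (@Bool.rec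 (fun _ => ℕ) fb1340 fb1341 (Nat.ble (nat_lit 1341) i)) (@Bool.rec (fun _ => ℕ) fb1342 fb1343 (Nat.ble (nat_lit 1343) i)) (Nat.ble (nat_lit 1342) i)) (Nat.ble (nat_lit 1340) i)) (Nat.ble (nat_lit 1336) i)) (Nat.ble (nat_lit 1328) i))

def factBlk_n0_42 (i : ℕ) : ℕ := (@Bool.rec (fun _ => ℕ) (@Bool.rec (fun _ => ℕ) (@Bool.rec (fun _ => ℕ) (@Bool.rec (fun _ => ℕ) (@Bool.rec (fun _ => ℕ) fb1344 fb1345 (Nat.ble (nat_lit 1345) i)) (@Bool.rec (fun _ => ℕ) fb1346 fb1347 (Nat.ble (nat_lit 1347) i)) (Nat.ble (nat_lit 1346) i)) (@Bool.rec (fun _ => ℕ) (@Bool.rec (fun _ => ℕ) fb1348 fb1349 (Nat.ble (nat_lit 1349) i)) (@Bool.rec (fun _ => ℕ) fb1350 fb1351 (Nat.ble (nat_lit 1351) i)) (Nat.ble (nat_lit 1350) i)) (Nat.ble (nat_lit 1348) i)) (@Bool.rec (fun _ => ℕ) (@Bool.rec (fun _ => ℕ) (@Bool.rec (fun _ => ℕ) fb1352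 fb1353 (Nat.ble (nat_lit 1353) i)) (@Bool.rec (fun _ => ℕ) fb1354 fb1355 (Nat.ble (nat_lit 1355) i)) (Nat.ble (nat_lit 1354) i)) (@Bool.rec (fun _ => ℕ) (@Bool.rec (fun _ => ℕ) fb1356 fb1357 (Nat.ble (nat_lit 1357) i)) (@Bool.rec (fun _ => ℕ) fb1358 fb1359 (Nat.ble (nat_lit 1359) i)) (Nat.ble (nat_lit 1358) i)) (Nat.ble (nat_lit 1356) i)) (Nat.ble (nat_lit 1352) i)) (@Bool.rec (fun _ => ℕ) (@Bool.rec (fun _ => ℕ) (@Bool.rec (fun _ => ℕ) (@Bool.rec (fun _ => ℕ) fb1360 fb1361 (Nat.ble (nat_lit 1361) i)) (@Bool.rec (fun _ => ℕ) fb1362 fb1363 (Nat.ble (nat_lit 1363) i)) (Nat.ble (nat_lit 1362) i)) (@Bool.rec (fun _ => ℕ) (@Bool.rec (fun _ => ℕ) fb1364 fb1365 (Nat.ble (nat_lit 1365) i)) (@Bool.rec (fun _ => ℕ) fb1366 fb1367 (Nat.ble (nat_lit 1367) i)) (Nat.ble (nat_lit 1366) i)) (Nat.ble (nat_lit 1364) i))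 (@Bool.rec (fun _ => ℕ) (@Bool.rec (fun _ => ℕ) (@Bool.rec (fun _ => ℕ) fb1368 fb1369 (Nat.ble (nat_lit 1369) i)) (@Bool.rec (fun _ => ℕ) fb1370 fb1371 (Nat.ble (nat_lit 1371) i)) (Nat.ble (nat_lit 1370) i)) (@Bool.rec (fun _ => ℕ) (@Bool.rec (fun _ => ℕ) fb1372 fb1373 (Nat.ble (nat_lit 1373) i)) (@Bool.rec (fun _ => ℕ) fb1374 fb1375 (Nat.ble (nat_lit 1375) i)) (Nat.ble (nat_lit 1374) i)) (Nat.ble (nat_lit 1372) i)) (Nat.ble (nat_lit 1368) i)) (Nat.ble (nat_lit 1360) i))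

def factBlk_n0_43 (i : ℕ) : ℕ := (@Bool.rec (fun _ => ℕ) (@Bool.rec (fun _ => ℕ) (@Bool.rec (fun _ => ℕ) (@Bool.rec (fun _ => ℕ) (@Bool.rec (fun _ => ℕ) fb1376 fb1377 (Nat.ble (nat_lit 1377) i)) (@Bool.rec (fun _ => ℕ) fb1378 fb1379 (Nat.ble (nat_lit 1379) i)) (Nat.ble (nat_lit 1378) i)) (@Bool.rec (fun _ => ℕ) (@Bool.rec (fun _ => ℕ) fb1380 fb1381 (Nat.ble (nat_lit 1381) i)) (@Bool.rec (fun _ => ℕ) fb1382 fb1383 (Nat.ble (nat_lit 1383) i)) (Nat.ble (nat_lit 1382) i)) (Nat.ble (nat_lit 1380) i)) (@Bool.rec (fun _ => ℕ) (@Bool.rec (fun _ => ℕ) (@Bool.rec (fun _ => ℕ) fb1384 fb1385 (Nat.ble (nat_lit 1385) i)) (@Bool.rec (fun _ => ℕ) fb1386 fb1387 (Nat.ble (nat_lit 1387) i)) (Nat.ble (nat_lit 1386) i)) (@Bool.rec (fun _ => ℕ) (@Bool.rec (fun _ => ℕ) fb1388 fb1389 (Nat.ble (nat_lit 1389) i)) (@Bool.rec (fun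 _ => ℕ) fb1390 fb1391 (Nat.ble (nat_lit 1391) i)) (Nat.ble (nat_lit 1390) i)) (Nat.ble (nat_lit 1388) i)) (Nat.ble (nat_lit 1384) i)) (@Bool.rec (fun _ => ℕ) (@Bool.rec (fun _ => ℕ) (@Bool.rec (fun _ => ℕ) (@Bool.rec (fun _ => ℕ) fb1392 fb1393 (Nat.ble (nat_lit 1393) i)) (@Bool.rec (fun _ => ℕ) fb1394 fb1395 (Nat.ble (nat_lit 1395) i)) (Nat.ble (nat_lit 1394) i)) (@Bool.rec (fun _ => ℕ) (@Bool.rec (fun _ => ℕ) fb1396 fb1397 (Nat.ble (nat_lit 1397) i)) (@Bool.rec (fun _ => ℕ) fb1398 fb1399 (Nat.ble (nat_lit 1399) i)) (Nat.ble (nat_lit 1398) i)) (Nat.ble (nat_lit 1396) i)) (@Bool.rec (fun _ => ℕ) (@Bool.rec (fun _ => ℕ) (@Bool.rec (fun _ => ℕ) fb1400 fb1401 (Nat.ble (nat_lit 1401) i)) (@Bool.rec (fun _ => ℕ) fb1402 fb1403 (Nat.ble (nat_lit 1403) i)) (Nat.ble (nat_lit 1402) i)) (@Bool.rec (fun _ => ℕ) (@Bool.rec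 (fun _ => ℕ) fb1404 fb1405 (Nat.ble (nat_lit 1405) i)) (@Bool.rec (fun _ => ℕ) fb1406 fb1407 (Nat.ble (nat_lit 1407) i)) (Nat.ble (nat_lit 1406) i)) (Nat.ble (nat_lit 1404) i)) (Nat.ble (nat_lit 1400) i)) (Nat.ble (nat_lit 1392) i))

def factBlk_n0_44 (i : ℕ) : ℕ := (@Bool.rec (fun _ => ℕ) (@Bool.rec (fun _ => ℕ) (@Bool.rec (fun _ => ℕ) (@Bool.rec (fun _ => ℕ) (@Bool.rec (fun _ => ℕ) fb1408 fb1409 (Nat.ble (nat_lit 1409) i)) (@Bool.rec (fun _ => ℕ) fb1410 fb1411 (Nat.ble (nat_lit 1411) i)) (Nat.ble (nat_lit 1410) i)) (@Bool.rec (fun _ => ℕ) (@Bool.rec (fun _ => ℕ) fb1412 fb1413 (Nat.ble (nat_lit 1413) i)) (@Bool.rec (fun _ => ℕ) fb1414 fb1415 (Nat.ble (nat_lit 1415) i)) (Nat.ble (nat_lit 1414) i)) (Nat.ble (nat_lit 1412) i)) (@Bool.rec (fun _ => ℕ) (@Bool.rec (fun _ => ℕ) (@Bool.rec (fun _ => ℕ) fb1416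 fb1417 (Nat.ble (nat_lit 1417) i)) (@Bool.rec (fun _ => ℕ) fb1418 fb1419 (Nat.ble (nat_lit 1419) i)) (Nat.ble (nat_lit 1418) i)) (@Bool.rec (fun _ => ℕ) (@Bool.rec (fun _ => ℕ) fb1420 fb1421 (Nat.ble (nat_lit 1421) i)) (@Bool.rec (fun _ => ℕ) fb1422 fb1423 (Nat.ble (nat_lit 1423) i)) (Nat.ble (nat_lit 1422) i)) (Nat.ble (nat_lit 1420) i)) (Nat.ble (nat_lit 1416) i)) (@Bool.rec (fun _ => ℕ) (@Bool.rec (fun _ => ℕ) (@Bool.rec (fun _ => ℕ) (@Bool.rec (fun _ => ℕ) fb1424 fb1425 (Nat.ble (nat_lit 1425) i)) (@Bool.rec (fun _ => ℕ) fb1426 fb1427 (Nat.ble (nat_lit 1427) i)) (Nat.ble (nat_lit 1426) i)) (@Bool.rec (fun _ => ℕ) (@Bool.rec (fun _ => ℕ) fb1428 fb1429 (Nat.ble (nat_lit 1429) i)) (@Bool.rec (fun _ => ℕ) fb1430 fb1431 (Nat.ble (nat_lit 1431) i)) (Nat.ble (nat_lit 1430) i)) (Nat.ble (nat_lit 1428) i))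 (@Bool.rec (fun _ => ℕ) (@Bool.rec (fun _ => ℕ) (@Bool.rec (fun _ => ℕ) fb1432 fb1433 (Nat.ble (nat_lit 1433) i)) (@Bool.rec (fun _ => ℕ) fb1434 fb1435 (Nat.ble (nat_lit 1435) i)) (Nat.ble (nat_lit 1434) i)) (@Bool.rec (fun _ => ℕ) (@Bool.rec (fun _ => ℕ) fb1436 fb1437 (Nat.ble (nat_lit 1437) i)) (@Bool.rec (fun _ => ℕ) fb1438 fb1439 (Nat.ble (nat_lit 1439) i)) (Nat.ble (nat_lit 1438) i)) (Nat.ble (nat_lit 1436) i)) (Nat.ble (nat_lit 1432) i)) (Nat.ble (nat_lit 1424) i))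

def factBlk_n0_45 (i : ℕ) : ℕ := (@Bool.rec (fun _ => ℕ) (@Bool.rec (fun _ => ℕ) (@Bool.rec (fun _ => ℕ) (@Bool.rec (fun _ => ℕ) (@Bool.rec (fun _ => ℕ) fb1440 fb1441 (Nat.ble (nat_lit 1441) i)) (@Bool.rec (fun _ => ℕ) fb1442 fb1443 (Nat.ble (nat_lit 1443) i)) (Nat.ble (nat_lit 1442) i)) (@Bool.rec (fun _ => ℕ) (@Bool.rec (fun _ => ℕ) fb1444 fb1445 (Nat.ble (nat_lit 1445) i)) (@Bool.rec (fun _ => ℕ) fb1446 fb1447 (Nat.ble (nat_lit 1447) i)) (Nat.ble (nat_lit 1446) i)) (Nat.ble (nat_lit 1444) i)) (@Bool.rec (fun _ => ℕ) (@Bool.rec (fun _ => ℕ) (@Bool.rec (fun _ => ℕ) fb1448 fb1449 (Nat.ble (nat_lit 1449) i)) (@Bool.rec (fun _ => ℕ) fb1450 fb1451 (Nat.ble (nat_lit 1451) i)) (Nat.ble (nat_lit 1450) i)) (@Bool.rec (fun _ => ℕ) (@Bool.rec (fun _ => ℕ) fb1452 fb1453 (Nat.ble (nat_lit 1453) i)) (@Bool.rec (fun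 _ => ℕ) fb1454 fb1455 (Nat.ble (nat_lit 1455) i)) (Nat.ble (nat_lit 1454) i)) (Nat.ble (nat_lit 1452) i)) (Nat.ble (nat_lit 1448) i)) (@Bool.rec (fun _ => ℕ) (@Bool.rec (fun _ => ℕ) (@Bool.rec (fun _ => ℕ) (@Bool.rec (fun _ => ℕ) fb1456 fb1457 (Nat.ble (nat_lit 1457) i)) (@Bool.rec (fun _ => ℕ) fb1458 fb1459 (Nat.ble (nat_lit 1459) i)) (Nat.ble (nat_lit 1458) i)) (@Bool.rec (fun _ => ℕ) (@Bool.rec (fun _ => ℕ) fb1460 fb1461 (Nat.ble (nat_lit 1461) i)) (@Bool.rec (fun _ => ℕ) fb1462 fb1463 (Nat.ble (nat_lit 1463) i)) (Nat.ble (nat_lit 1462) i)) (Nat.ble (nat_lit 1460) i)) (@Bool.rec (fun _ => ℕ) (@Bool.rec (fun _ => ℕ) (@Bool.rec (fun _ => ℕ) fb1464 fb1465 (Nat.ble (nat_lit 1465) i)) (@Bool.rec (fun _ => ℕ) fb1466 fb1467 (Nat.ble (nat_lit 1467) i)) (Nat.ble (nat_lit 1466) i)) (@Bool.rec (fun _ => ℕ) (@Bool.rec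 (fun _ => ℕ) fb1468 fb1469 (Nat.ble (nat_lit 1469) i)) (@Bool.rec (fun _ => ℕ) fb1470 fb1471 (Nat.ble (nat_lit 1471) i)) (Nat.ble (nat_lit 1470) i)) (Nat.ble (nat_lit 1468) i)) (Nat.ble (nat_lit 1464) i)) (Nat.ble (nat_lit 1456) i))

def factBlk_n0_46 (i : ℕ) : ℕ := (@Bool.rec (fun _ => ℕ) (@Bool.rec (fun _ => ℕ) (@Bool.rec (fun _ => ℕ) (@Bool.rec (fun _ => ℕ) (@Bool.rec (fun _ => ℕ) fb1472 fb1473 (Nat.ble (nat_lit 1473) i)) (@Bool.rec (fun _ => ℕ) fb1474 fb1475 (Nat.ble (nat_lit 1475) i)) (Nat.ble (nat_lit 1474) i)) (@Bool.rec (fun _ => ℕ) (@Bool.rec (fun _ => ℕ) fb1476 fb1477 (Nat.ble (nat_lit 1477) i)) (@Bool.rec (fun _ => ℕ) fb1478 fb1479 (Nat.ble (nat_lit 1479) i)) (Nat.ble (nat_lit 1478) i)) (Nat.ble (nat_lit 1476) i)) (@Bool.rec (fun _ => ℕ) (@Bool.rec (fun _ => ℕ) (@Bool.rec (fun _ => ℕ) fb1480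 fb1481 (Nat.ble (nat_lit 1481) i)) (@Bool.rec (fun _ => ℕ) fb1482 fb1483 (Nat.ble (nat_lit 1483) i)) (Nat.ble (nat_lit 1482) i)) (@Bool.rec (fun _ => ℕ) (@Bool.rec (fun _ => ℕ) fb1484 fb1485 (Nat.ble (nat_lit 1485) i)) (@Bool.rec (fun _ => ℕ) fb1486 fb1487 (Nat.ble (nat_lit 1487) i)) (Nat.ble (nat_lit 1486) i)) (Nat.ble (nat_lit 1484) i)) (Nat.ble (nat_lit 1480) i)) (@Bool.rec (fun _ => ℕ) (@Bool.rec (fun _ => ℕ) (@Bool.rec (fun _ => ℕ) (@Bool.rec (fun _ => ℕ) fb1488 fb1489 (Nat.ble (nat_lit 1489) i)) (@Bool.rec (fun _ => ℕ) fb1490 fb1491 (Nat.ble (nat_lit 1491) i)) (Nat.ble (nat_lit 1490) i)) (@Bool.rec (fun _ => ℕ) (@Bool.rec (fun _ => ℕ) fb1492 fb1493 (Nat.ble (nat_lit 1493) i)) (@Bool.rec (fun _ => ℕ) fb1494 fb1495 (Nat.ble (nat_lit 1495) i)) (Nat.ble (nat_lit 1494) i)) (Nat.ble (nat_lit 1492) i))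 (@Bool.rec (fun _ => ℕ) (@Bool.rec (fun _ => ℕ) (@Bool.rec (fun _ => ℕ) fb1496 fb1497 (Nat.ble (nat_lit 1497) i)) (@Bool.rec (fun _ => ℕ) fb1498 fb1499 (Nat.ble (nat_lit 1499) i)) (Nat.ble (nat_lit 1498) i)) (@Bool.rec (fun _ => ℕ) (@Bool.rec (fun _ => ℕ) fb1500 fb1501 (Nat.ble (nat_lit 1501) i)) (@Bool.rec (fun _ => ℕ) fb1502 fb1503 (Nat.ble (nat_lit 1503) i)) (Nat.ble (nat_lit 1502) i)) (Nat.ble (nat_lit 1500) i)) (Nat.ble (nat_lit 1496) i)) (Nat.ble (nat_lit 1488) i))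

def factBlk_n0_47 (i : ℕ) : ℕ := (@Bool.rec (fun _ => ℕ) (@Bool.rec (fun _ => ℕ) (@Bool.rec (fun _ => ℕ) (@Bool.rec (fun _ => ℕ) (@Bool.rec (fun _ => ℕ) fb1504 fb1505 (Nat.ble (nat_lit 1505) i)) (@Bool.rec (fun _ => ℕ) fb1506 fb1507 (Nat.ble (nat_lit 1507) i)) (Nat.ble (nat_lit 1506) i)) (@Bool.rec (fun _ => ℕ) (@Bool.rec (fun _ => ℕ) fb1508 fb1509 (Nat.ble (nat_lit 1509) i)) (@Bool.rec (fun _ => ℕ) fb1510 fb1511 (Nat.ble (nat_lit 1511) i)) (Nat.ble (nat_lit 1510) i)) (Nat.ble (nat_lit 1508) i)) (@Bool.rec (fun _ => ℕ) (@Bool.rec (fun _ => ℕ) (@Bool.rec (fun _ => ℕ) fb1512 fb1513 (Nat.ble (nat_lit 1513) i)) (@Bool.rec (fun _ => ℕ) fb1514 fb1515 (Nat.ble (nat_lit 1515) i)) (Nat.ble (nat_lit 1514) i)) (@Bool.rec (fun _ => ℕ) (@Bool.rec (fun _ => ℕ) fb1516 fb1517 (Nat.ble (nat_lit 1517) i)) (@Bool.rec (fun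 _ => ℕ) fb1518 fb1519 (Nat.ble (nat_lit 1519) i)) (Nat.ble (nat_lit 1518) i)) (Nat.ble (nat_lit 1516) i)) (Nat.ble (nat_lit 1512) i)) (@Bool.rec (fun _ => ℕ) (@Bool.rec (fun _ => ℕ) (@Bool.rec (fun _ => ℕ) (@Bool.rec (fun _ => ℕ) fb1520 fb1521 (Nat.ble (nat_lit 1521) i)) (@Bool.rec (fun _ => ℕ) fb1522 fb1523 (Nat.ble (nat_lit 1523) i)) (Nat.ble (nat_lit 1522) i)) (@Bool.rec (fun _ => ℕ) (@Bool.rec (fun _ => ℕ) fb1524 fb1525 (Nat.ble (nat_lit 1525) i)) (@Bool.rec (fun _ => ℕ) fb1526 fb1527 (Nat.ble (nat_lit 1527) i)) (Nat.ble (nat_lit 1526) i)) (Nat.ble (nat_lit 1524) i)) (@Bool.rec (fun _ => ℕ) (@Bool.rec (fun _ => ℕ) (@Bool.rec (fun _ => ℕ) fb1528 fb1529 (Nat.ble (nat_lit 1529) i)) (@Bool.rec (fun _ => ℕ) fb1530 fb1531 (Nat.ble (nat_lit 1531) i)) (Nat.ble (nat_lit 1530) i)) (@Bool.rec (fun _ => ℕ) (@Bool.rec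 (fun _ => ℕ) fb1532 fb1533 (Nat.ble (nat_lit 1533) i)) (@Bool.rec (fun _ => ℕ) fb1534 fb1535 (Nat.ble (nat_lit 1535) i)) (Nat.ble (nat_lit 1534) i)) (Nat.ble (nat_lit 1532) i)) (Nat.ble (nat_lit 1528) i)) (Nat.ble (nat_lit 1520) i))

def factBlk_n0_48 (i : ℕ) : ℕ := (@Bool.rec (fun _ => ℕ) (@Bool.rec (fun _ => ℕ) (@Bool.rec (fun _ => ℕ) (@Bool.rec (fun _ => ℕ) (@Bool.rec (fun _ => ℕ) fb1536 fb1537 (Nat.ble (nat_lit 1537) i)) (@Bool.rec (fun _ => ℕ) fb1538 fb1539 (Nat.ble (nat_lit 1539) i)) (Nat.ble (nat_lit 1538) i)) (@Bool.rec (fun _ => ℕ) (@Bool.rec (fun _ => ℕ) fb1540 fb1541 (Nat.ble (nat_lit 1541) i)) (@Bool.rec (fun _ => ℕ) fb1542 fb1543 (Nat.ble (nat_lit 1543) i)) (Nat.ble (nat_lit 1542) i)) (Nat.ble (nat_lit 1540) i)) (@Bool.rec (fun _ => ℕ) (@Bool.rec (fun _ => ℕ) (@Bool.rec (fun _ => ℕ) fb1544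 fb1545 (Nat.ble (nat_lit 1545) i)) (@Bool.rec (fun _ => ℕ) fb1546 fb1547 (Nat.ble (nat_lit 1547) i)) (Nat.ble (nat_lit 1546) i)) (@Bool.rec (fun _ => ℕ) (@Bool.rec (fun _ => ℕ) fb1548 fb1549 (Nat.ble (nat_lit 1549) i)) (@Bool.rec (fun _ => ℕ) fb1550 fb1551 (Nat.ble (nat_lit 1551) i)) (Nat.ble (nat_lit 1550) i)) (Nat.ble (nat_lit 1548) i)) (Nat.ble (nat_lit 1544) i)) (@Bool.rec (fun _ => ℕ) (@Bool.rec (fun _ => ℕ) (@Bool.rec (fun _ => ℕ) (@Bool.rec (fun _ => ℕ) fb1552 fb1553 (Nat.ble (nat_lit 1553) i)) (@Bool.rec (fun _ => ℕ) fb1554 fb1555 (Nat.ble (nat_lit 1555) i)) (Nat.ble (nat_lit 1554) i)) (@Bool.rec (fun _ => ℕ) (@Bool.rec (fun _ => ℕ) fb1556 fb1557 (Nat.ble (nat_lit 1557) i)) (@Bool.rec (fun _ => ℕ) fb1558 fb1559 (Nat.ble (nat_lit 1559) i)) (Nat.ble (nat_lit 1558) i)) (Nat.ble (nat_lit 1556) i))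 (@Bool.rec (fun _ => ℕ) (@Bool.rec (fun _ => ℕ) (@Bool.rec (fun _ => ℕ) fb1560 fb1561 (Nat.ble (nat_lit 1561) i)) (@Bool.rec (fun _ => ℕ) fb1562 fb1563 (Nat.ble (nat_lit 1563) i)) (Nat.ble (nat_lit 1562) i)) (@Bool.rec (fun _ => ℕ) (@Bool.rec (fun _ => ℕ) fb1564 fb1565 (Nat.ble (nat_lit 1565) i)) (@Bool.rec (fun _ => ℕ) fb1566 fb1567 (Nat.ble (nat_lit 1567) i)) (Nat.ble (nat_lit 1566) i)) (Nat.ble (nat_lit 1564) i)) (Nat.ble (nat_lit 1560) i)) (Nat.ble (nat_lit 1552) i))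

def factBlk_n0_49 (i : ℕ) : ℕ := (@Bool.rec (fun _ => ℕ) (@Bool.rec (fun _ => ℕ) (@Bool.rec (fun _ => ℕ) (@Bool.rec (fun _ => ℕ) (@Bool.rec (fun _ => ℕ) fb1568 fb1569 (Nat.ble (nat_lit 1569) i)) (@Bool.rec (fun _ => ℕ) fb1570 fb1571 (Nat.ble (nat_lit 1571) i)) (Nat.ble (nat_lit 1570) i)) (@Bool.rec (fun _ => ℕ) (@Bool.rec (fun _ => ℕ) fb1572 fb1573 (Nat.ble (nat_lit 1573) i)) (@Bool.rec (fun _ => ℕ) fb1574 fb1575 (Nat.ble (nat_lit 1575) i)) (Nat.ble (nat_lit 1574) i)) (Nat.ble (nat_lit 1572) i)) (@Bool.rec (fun _ => ℕ) (@Bool.rec (fun _ => ℕ) (@Bool.rec (fun _ => ℕ) fb1576 fb1577 (Nat.ble (nat_lit 1577) i)) (@Bool.rec (fun _ => ℕ) fb1578 fb1579 (Nat.ble (nat_lit 1579) i)) (Nat.ble (nat_lit 1578) i)) (@Bool.rec (fun _ => ℕ) (@Bool.rec (fun _ => ℕ) fb1580 fb1581 (Nat.ble (nat_lit 1581) i)) (@Bool.rec (fun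 _ => ℕ) fb1582 fb1583 (Nat.ble (nat_lit 1583) i)) (Nat.ble (nat_lit 1582) i)) (Nat.ble (nat_lit 1580) i)) (Nat.ble (nat_lit 1576) i)) (@Bool.rec (fun _ => ℕ) (@Bool.rec (fun _ => ℕ) (@Bool.rec (fun _ => ℕ) (@Bool.rec (fun _ => ℕ) fb1584 fb1585 (Nat.ble (nat_lit 1585) i)) (@Bool.rec (fun _ => ℕ) fb1586 fb1587 (Nat.ble (nat_lit 1587) i)) (Nat.ble (nat_lit 1586) i)) (@Bool.rec (fun _ => ℕ) (@Bool.rec (fun _ => ℕ) fb1588 fb1589 (Nat.ble (nat_lit 1589) i)) (@Bool.rec (fun _ => ℕ) fb1590 fb1591 (Nat.ble (nat_lit 1591) i)) (Nat.ble (nat_lit 1590) i)) (Nat.ble (nat_lit 1588) i)) (@Bool.rec (fun _ => ℕ) (@Bool.rec (fun _ => ℕ) (@Bool.rec (fun _ => ℕ) fb1592 fb1593 (Nat.ble (nat_lit 1593) i)) (@Bool.rec (fun _ => ℕ) fb1594 fb1595 (Nat.ble (nat_lit 1595) i)) (Nat.ble (nat_lit 1594) i)) (@Bool.rec (fun _ => ℕ) (@Bool.rec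 (fun _ => ℕ) fb1596 fb1597 (Nat.ble (nat_lit 1597) i)) (@Bool.rec (fun _ => ℕ) fb1598 fb1599 (Nat.ble (nat_lit 1599) i)) (Nat.ble (nat_lit 1598) i)) (Nat.ble (nat_lit 1596) i)) (Nat.ble (nat_lit 1592) i)) (Nat.ble (nat_lit 1584) i))

def factBlk_n0_50 (i : ℕ) : ℕ := (@Bool.rec (fun _ => ℕ) (@Bool.rec (fun _ => ℕ) (@Bool.rec (fun _ => ℕ) (@Bool.rec (fun _ => ℕ) (@Bool.rec (fun _ => ℕ) fb1600 fb1601 (Nat.ble (nat_lit 1601) i)) (@Bool.rec (fun _ => ℕ) fb1602 fb1603 (Nat.ble (nat_lit 1603) i)) (Nat.ble (nat_lit 1602) i)) (@Bool.rec (fun _ => ℕ) (@Bool.rec (fun _ => ℕ) fb1604 fb1605 (Nat.ble (nat_lit 1605) i)) (@Bool.rec (fun _ => ℕ) fb1606 fb1607 (Nat.ble (nat_lit 1607) i)) (Nat.ble (nat_lit 1606) i)) (Nat.ble (nat_lit 1604) i)) (@Bool.rec (fun _ => ℕ) (@Bool.rec (fun _ => ℕ) (@Bool.rec (fun _ => ℕ) fb1608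 fb1609 (Nat.ble (nat_lit 1609) i)) (@Bool.rec (fun _ => ℕ) fb1610 fb1611 (Nat.ble (nat_lit 1611) i)) (Nat.ble (nat_lit 1610) i)) (@Bool.rec (fun _ => ℕ) (@Bool.rec (fun _ => ℕ) fb1612 fb1613 (Nat.ble (nat_lit 1613) i)) (@Bool.rec (fun _ => ℕ) fb1614 fb1615 (Nat.ble (nat_lit 1615) i)) (Nat.ble (nat_lit 1614) i)) (Nat.ble (nat_lit 1612) i)) (Nat.ble (nat_lit 1608) i)) (@Bool.rec (fun _ => ℕ) (@Bool.rec (fun _ => ℕ) (@Bool.rec (fun _ => ℕ) (@Bool.rec (fun _ => ℕ) fb1616 fb1617 (Nat.ble (nat_lit 1617) i)) (@Bool.rec (fun _ => ℕ) fb1618 fb1619 (Nat.ble (nat_lit 1619) i)) (Nat.ble (nat_lit 1618) i)) (@Bool.rec (fun _ => ℕ) (@Bool.rec (fun _ => ℕ) fb1620 fb1621 (Nat.ble (nat_lit 1621) i)) (@Bool.rec (fun _ => ℕ) fb1622 fb1623 (Nat.ble (nat_lit 1623) i)) (Nat.ble (nat_lit 1622) i)) (Nat.ble (nat_lit 1620) i))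 (@Bool.rec (fun _ => ℕ) (@Bool.rec (fun _ => ℕ) (@Bool.rec (fun _ => ℕ) fb1624 fb1625 (Nat.ble (nat_lit 1625) i)) (@Bool.rec (fun _ => ℕ) fb1626 fb1627 (Nat.ble (nat_lit 1627) i)) (Nat.ble (nat_lit 1626) i)) (@Bool.rec (fun _ => ℕ) (@Bool.rec (fun _ => ℕ) fb1628 fb1629 (Nat.ble (nat_lit 1629) i)) (@Bool.rec (fun _ => ℕ) fb1630 fb1631 (Nat.ble (nat_lit 1631) i)) (Nat.ble (nat_lit 1630) i)) (Nat.ble (nat_lit 1628) i)) (Nat.ble (nat_lit 1624) i)) (Nat.ble (nat_lit 1616) i))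

def factBlk_n0_51 (i : ℕ) : ℕ := (@Bool.rec (fun _ => ℕ) (@Bool.rec (fun _ => ℕ) (@Bool.rec (fun _ => ℕ) (@Bool.rec (fun _ => ℕ) (@Bool.rec (fun _ => ℕ) fb1632 fb1633 (Nat.ble (nat_lit 1633) i)) (@Bool.rec (fun _ => ℕ) fb1634 fb1635 (Nat.ble (nat_lit 1635) i)) (Nat.ble (nat_lit 1634) i)) (@Bool.rec (fun _ => ℕ) (@Bool.rec (fun _ => ℕ) fb1636 fb1637 (Nat.ble (nat_lit 1637) i)) (@Bool.rec (fun _ => ℕ) fb1638 fb1639 (Nat.ble (nat_lit 1639) i)) (Nat.ble (nat_lit 1638) i)) (Nat.ble (nat_lit 1636) i)) (@Bool.rec (fun _ => ℕ) (@Bool.rec (fun _ => ℕ) (@Bool.rec (fun _ => ℕ) fb1640 fb1641 (Nat.ble (nat_lit 1641) i)) (@Bool.rec (fun _ => ℕ) fb1642 fb1643 (Nat.ble (nat_lit 1643) i)) (Nat.ble (nat_lit 1642) i)) (@Bool.rec (fun _ => ℕ) (@Bool.rec (fun _ => ℕ) fb1644 fb1645 (Nat.ble (nat_lit 1645) i)) (@Bool.rec (fun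 _ => ℕ) fb1646 fb1647 (Nat.ble (nat_lit 1647) i)) (Nat.ble (nat_lit 1646) i)) (Nat.ble (nat_lit 1644) i)) (Nat.ble (nat_lit 1640) i)) (@Bool.rec (fun _ => ℕ) (@Bool.rec (fun _ => ℕ) (@Bool.rec (fun _ => ℕ) (@Bool.rec (fun _ => ℕ) fb1648 fb1649 (Nat.ble (nat_lit 1649) i)) (@Bool.rec (fun _ => ℕ) fb1650 fb1651 (Nat.ble (nat_lit 1651) i)) (Nat.ble (nat_lit 1650) i)) (@Bool.rec (fun _ => ℕ) (@Bool.rec (fun _ => ℕ) fb1652 fb1653 (Nat.ble (nat_lit 1653) i)) (@Bool.rec (fun _ => ℕ) fb1654 fb1655 (Nat.ble (nat_lit 1655) i)) (Nat.ble (nat_lit 1654) i)) (Nat.ble (nat_lit 1652) i)) (@Bool.rec (fun _ => ℕ) (@Bool.rec (fun _ => ℕ) (@Bool.rec (fun _ => ℕ) fb1656 fb1657 (Nat.ble (nat_lit 1657) i)) (@Bool.rec (fun _ => ℕ) fb1658 fb1659 (Nat.ble (nat_lit 1659) i)) (Nat.ble (nat_lit 1658) i)) (@Bool.rec (fun _ => ℕ) (@Bool.rec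 (fun _ => ℕ) fb1660 fb1661 (Nat.ble (nat_lit 1661) i)) (@Bool.rec (fun _ => ℕ) fb1662 fb1663 (Nat.ble (nat_lit 1663) i)) (Nat.ble (nat_lit 1662) i)) (Nat.ble (nat_lit 1660) i)) (Nat.ble (nat_lit 1656) i)) (Nat.ble (nat_lit 1648) i))

def factBlk_n0_52 (i : ℕ) : ℕ := (@Bool.rec (fun _ => ℕ) (@Bool.rec (fun _ => ℕ) (@Bool.rec (fun _ => ℕ) (@Bool.rec (fun _ => ℕ) (@Bool.rec (fun _ => ℕ) fb1664 fb1665 (Nat.ble (nat_lit 1665) i)) (@Bool.rec (fun _ => ℕ) fb1666 fb1667 (Nat.ble (nat_lit 1667) i)) (Nat.ble (nat_lit 1666) i)) (@Bool.rec (fun _ => ℕ) (@Bool.rec (fun _ => ℕ) fb1668 fb1669 (Nat.ble (nat_lit 1669) i)) (@Bool.rec (fun _ => ℕ) fb1670 fb1671 (Nat.ble (nat_lit 1671) i)) (Nat.ble (nat_lit 1670) i)) (Nat.ble (nat_lit 1668) i)) (@Bool.rec (fun _ => ℕ) (@Bool.rec (fun _ => ℕ) (@Bool.rec (fun _ => ℕ) fb1672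 fb1673 (Nat.ble (nat_lit 1673) i)) (@Bool.rec (fun _ => ℕ) fb1674 fb1675 (Nat.ble (nat_lit 1675) i)) (Nat.ble (nat_lit 1674) i)) (@Bool.rec (fun _ => ℕ) (@Bool.rec (fun _ => ℕ) fb1676 fb1677 (Nat.ble (nat_lit 1677) i)) (@Bool.rec (fun _ => ℕ) fb1678 fb1679 (Nat.ble (nat_lit 1679) i)) (Nat.ble (nat_lit 1678) i)) (Nat.ble (nat_lit 1676) i)) (Nat.ble (nat_lit 1672) i)) (@Bool.rec (fun _ => ℕ) (@Bool.rec (fun _ => ℕ) (@Bool.rec (fun _ => ℕ) (@Bool.rec (fun _ => ℕ) fb1680 fb1681 (Nat.ble (nat_lit 1681) i)) (@Bool.rec (fun _ => ℕ) fb1682 fb1683 (Nat.ble (nat_lit 1683) i)) (Nat.ble (nat_lit 1682) i)) (@Bool.rec (fun _ => ℕ) (@Bool.rec (fun _ => ℕ) fb1684 fb1685 (Nat.ble (nat_lit 1685) i)) (@Bool.rec (fun _ => ℕ) fb1686 fb1687 (Nat.ble (nat_lit 1687) i)) (Nat.ble (nat_lit 1686) i)) (Nat.ble (nat_lit 1684) i))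 (@Bool.rec (fun _ => ℕ) (@Bool.rec (fun _ => ℕ) (@Bool.rec (fun _ => ℕ) fb1688 fb1689 (Nat.ble (nat_lit 1689) i)) (@Bool.rec (fun _ => ℕ) fb1690 fb1691 (Nat.ble (nat_lit 1691) i)) (Nat.ble (nat_lit 1690) i)) (@Bool.rec (fun _ => ℕ) (@Bool.rec (fun _ => ℕ) fb1692 fb1693 (Nat.ble (nat_lit 1693) i)) (@Bool.rec (fun _ => ℕ) fb1694 fb1695 (Nat.ble (nat_lit 1695) i)) (Nat.ble (nat_lit 1694) i)) (Nat.ble (nat_lit 1692) i)) (Nat.ble (nat_lit 1688) i)) (Nat.ble (nat_lit 1680) i))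

def factBlk_n0_53 (i : ℕ) : ℕ := (@Bool.rec (fun _ => ℕ) (@Bool.rec (fun _ => ℕ) (@Bool.rec (fun _ => ℕ) (@Bool.rec (fun _ => ℕ) (@Bool.rec (fun _ => ℕ) fb1696 fb1697 (Nat.ble (nat_lit 1697) i)) (@Bool.rec (fun _ => ℕ) fb1698 fb1699 (Nat.ble (nat_lit 1699) i)) (Nat.ble (nat_lit 1698) i)) (@Bool.rec (fun _ => ℕ) (@Bool.rec (fun _ => ℕ) fb1700 fb1701 (Nat.ble (nat_lit 1701) i)) (@Bool.rec (fun _ => ℕ) fb1702 fb1703 (Nat.ble (nat_lit 1703) i)) (Nat.ble (nat_lit 1702) i)) (Nat.ble (nat_lit 1700) i)) (@Bool.rec (fun _ => ℕ) (@Bool.rec (fun _ => ℕ) (@Bool.rec (fun _ => ℕ) fb1704 fb1705 (Nat.ble (nat_lit 1705) i)) (@Bool.rec (fun _ => ℕ) fb1706 fb1707 (Nat.ble (nat_lit 1707) i)) (Nat.ble (nat_lit 1706) i)) (@Bool.rec (fun _ => ℕ) (@Bool.rec (fun _ => ℕ) fb1708 fb1709 (Nat.ble (nat_lit 1709) i)) (@Bool.rec (fun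 _ => ℕ) fb1710 fb1711 (Nat.ble (nat_lit 1711) i)) (Nat.ble (nat_lit 1710) i)) (Nat.ble (nat_lit 1708) i)) (Nat.ble (nat_lit 1704) i)) (@Bool.rec (fun _ => ℕ) (@Bool.rec (fun _ => ℕ) (@Bool.rec (fun _ => ℕ) (@Bool.rec (fun _ => ℕ) fb1712 fb1713 (Nat.ble (nat_lit 1713) i)) (@Bool.rec (fun _ => ℕ) fb1714 fb1715 (Nat.ble (nat_lit 1715) i)) (Nat.ble (nat_lit 1714) i)) (@Bool.rec (fun _ => ℕ) (@Bool.rec (fun _ => ℕ) fb1716 fb1717 (Nat.ble (nat_lit 1717) i)) (@Bool.rec (fun _ => ℕ) fb1718 fb1719 (Nat.ble (nat_lit 1719) i)) (Nat.ble (nat_lit 1718) i)) (Nat.ble (nat_lit 1716) i)) (@Bool.rec (fun _ => ℕ) (@Bool.rec (fun _ => ℕ) (@Bool.rec (fun _ => ℕ) fb1720 fb1721 (Nat.ble (nat_lit 1721) i)) (@Bool.rec (fun _ => ℕ) fb1722 fb1723 (Nat.ble (nat_lit 1723) i)) (Nat.ble (nat_lit 1722) i)) (@Bool.rec (fun _ => ℕ) (@Bool.rec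 (fun _ => ℕ) fb1724 fb1725 (Nat.ble (nat_lit 1725) i)) (@Bool.rec (fun _ => ℕ) fb1726 fb1727 (Nat.ble (nat_lit 1727) i)) (Nat.ble (nat_lit 1726) i)) (Nat.ble (nat_lit 1724) i)) (Nat.ble (nat_lit 1720) i)) (Nat.ble (nat_lit 1712) i))

def factBlk_n0_54 (i : ℕ) : ℕ := (@Bool.rec (fun _ => ℕ) (@Bool.rec (fun _ => ℕ) (@Bool.rec (fun _ => ℕ) (@Bool.rec (fun _ => ℕ) (@Bool.rec (fun _ => ℕ) fb1728 fb1729 (Nat.ble (nat_lit 1729) i)) (@Bool.rec (fun _ => ℕ) fb1730 fb1731 (Nat.ble (nat_lit 1731) i)) (Nat.ble (nat_lit 1730) i)) (@Bool.rec (fun _ => ℕ) (@Bool.rec (fun _ => ℕ) fb1732 fb1733 (Nat.ble (nat_lit 1733) i)) (@Bool.rec (fun _ => ℕ) fb1734 fb1735 (Nat.ble (nat_lit 1735) i)) (Nat.ble (nat_lit 1734) i)) (Nat.ble (nat_lit 1732) i)) (@Bool.rec (fun _ => ℕ) (@Bool.rec (fun _ => ℕ) (@Bool.rec (fun _ => ℕ) fb1736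 fb1737 (Nat.ble (nat_lit 1737) i)) (@Bool.rec (fun _ => ℕ) fb1738 fb1739 (Nat.ble (nat_lit 1739) i)) (Nat.ble (nat_lit 1738) i)) (@Bool.rec (fun _ => ℕ) (@Bool.rec (fun _ => ℕ) fb1740 fb1741 (Nat.ble (nat_lit 1741) i)) (@Bool.rec (fun _ => ℕ) fb1742 fb1743 (Nat.ble (nat_lit 1743) i)) (Nat.ble (nat_lit 1742) i)) (Nat.ble (nat_lit 1740) i)) (Nat.ble (nat_lit 1736) i)) (@Bool.rec (fun _ => ℕ) (@Bool.rec (fun _ => ℕ) (@Bool.rec (fun _ => ℕ) (@Bool.rec (fun _ => ℕ) fb1744 fb1745 (Nat.ble (nat_lit 1745) i)) (@Bool.rec (fun _ => ℕ) fb1746 fb1747 (Nat.ble (nat_lit 1747) i)) (Nat.ble (nat_lit 1746) i)) (@Bool.rec (fun _ => ℕ) (@Bool.rec (fun _ => ℕ) fb1748 fb1749 (Nat.ble (nat_lit 1749) i)) (@Bool.rec (fun _ => ℕ) fb1750 fb1751 (Nat.ble (nat_lit 1751) i)) (Nat.ble (nat_lit 1750) i)) (Nat.ble (nat_lit 1748) i))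 (@Bool.rec (fun _ => ℕ) (@Bool.rec (fun _ => ℕ) (@Bool.rec (fun _ => ℕ) fb1752 fb1753 (Nat.ble (nat_lit 1753) i)) (@Bool.rec (fun _ => ℕ) fb1754 fb1755 (Nat.ble (nat_lit 1755) i)) (Nat.ble (nat_lit 1754) i)) (@Bool.rec (fun _ => ℕ) (@Bool.rec (fun _ => ℕ) fb1756 fb1757 (Nat.ble (nat_lit 1757) i)) (@Bool.rec (fun _ => ℕ) fb1758 fb1759 (Nat.ble (nat_lit 1759) i)) (Nat.ble (nat_lit 1758) i)) (Nat.ble (nat_lit 1756) i)) (Nat.ble (nat_lit 1752) i)) (Nat.ble (nat_lit 1744) i))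

def factBlk_n0_55 (i : ℕ) : ℕ := (@Bool.rec (fun _ => ℕ) (@Bool.rec (fun _ => ℕ) (@Bool.rec (fun _ => ℕ) (@Bool.rec (fun _ => ℕ) (@Bool.rec (fun _ => ℕ) fb1760 fb1761 (Nat.ble (nat_lit 1761) i)) (@Bool.rec (fun _ => ℕ) fb1762 fb1763 (Nat.ble (nat_lit 1763) i)) (Nat.ble (nat_lit 1762) i)) (@Bool.rec (fun _ => ℕ) (@Bool.rec (fun _ => ℕ) fb1764 fb1765 (Nat.ble (nat_lit 1765) i)) (@Bool.rec (fun _ => ℕ) fb1766 fb1767 (Nat.ble (nat_lit 1767) i)) (Nat.ble (nat_lit 1766) i)) (Nat.ble (nat_lit 1764) i)) (@Bool.rec (fun _ => ℕ) (@Bool.rec (fun _ => ℕ) (@Bool.rec (fun _ => ℕ) fb1768 fb1769 (Nat.ble (nat_lit 1769) i)) (@Bool.rec (fun _ => ℕ) fb1770 fb1771 (Nat.ble (nat_lit 1771) i)) (Nat.ble (nat_lit 1770) i)) (@Bool.rec (fun _ => ℕ) (@Bool.rec (fun _ => ℕ) fb1772 fb1773 (Nat.ble (nat_lit 1773) i)) (@Bool.rec (fun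 _ => ℕ) fb1774 fb1775 (Nat.ble (nat_lit 1775) i)) (Nat.ble (nat_lit 1774) i)) (Nat.ble (nat_lit 1772) i)) (Nat.ble (nat_lit 1768) i)) (@Bool.rec (fun _ => ℕ) (@Bool.rec (fun _ => ℕ) (@Bool.rec (fun _ => ℕ) (@Bool.rec (fun _ => ℕ) fb1776 fb1777 (Nat.ble (nat_lit 1777) i)) (@Bool.rec (fun _ => ℕ) fb1778 fb1779 (Nat.ble (nat_lit 1779) i)) (Nat.ble (nat_lit 1778) i)) (@Bool.rec (fun _ => ℕ) (@Bool.rec (fun _ => ℕ) fb1780 fb1781 (Nat.ble (nat_lit 1781) i)) (@Bool.rec (fun _ => ℕ) fb1782 fb1783 (Nat.ble (nat_lit 1783) i)) (Nat.ble (nat_lit 1782) i)) (Nat.ble (nat_lit 1780) i)) (@Bool.rec (fun _ => ℕ) (@Bool.rec (fun _ => ℕ) (@Bool.rec (fun _ => ℕ) fb1784 fb1785 (Nat.ble (nat_lit 1785) i)) (@Bool.rec (fun _ => ℕ) fb1786 fb1787 (Nat.ble (nat_lit 1787) i)) (Nat.ble (nat_lit 1786) i)) (@Bool.rec (fun _ => ℕ) (@Bool.rec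 (fun _ => ℕ) fb1788 fb1789 (Nat.ble (nat_lit 1789) i)) (@Bool.rec (fun _ => ℕ) fb1790 fb1791 (Nat.ble (nat_lit 1791) i)) (Nat.ble (nat_lit 1790) i)) (Nat.ble (nat_lit 1788) i)) (Nat.ble (nat_lit 1784) i)) (Nat.ble (nat_lit 1776) i))

def factBlk_n0_56 (i : ℕ) : ℕ := (@Bool.rec (fun _ => ℕ) (@Bool.rec (fun _ => ℕ) (@Bool.rec (fun _ => ℕ) (@Bool.rec (fun _ => ℕ) (@Bool.rec (fun _ => ℕ) fb1792 fb1793 (Nat.ble (nat_lit 1793) i)) (@Bool.rec (fun _ => ℕ) fb1794 fb1795 (Nat.ble (nat_lit 1795) i)) (Nat.ble (nat_lit 1794) i)) (@Bool.rec (fun _ => ℕ) (@Bool.rec (fun _ => ℕ) fb1796 fb1797 (Nat.ble (nat_lit 1797) i)) (@Bool.rec (fun _ => ℕ) fb1798 fb1799 (Nat.ble (nat_lit 1799) i)) (Nat.ble (nat_lit 1798) i)) (Nat.ble (nat_lit 1796) i)) (@Bool.rec (fun _ => ℕ) (@Bool.rec (fun _ => ℕ) (@Bool.rec (fun _ => ℕ) fb1800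 fb1801 (Nat.ble (nat_lit 1801) i)) (@Bool.rec (fun _ => ℕ) fb1802 fb1803 (Nat.ble (nat_lit 1803) i)) (Nat.ble (nat_lit 1802) i)) (@Bool.rec (fun _ => ℕ) (@Bool.rec (fun _ => ℕ) fb1804 fb1805 (Nat.ble (nat_lit 1805) i)) (@Bool.rec (fun _ => ℕ) fb1806 fb1807 (Nat.ble (nat_lit 1807) i)) (Nat.ble (nat_lit 1806) i)) (Nat.ble (nat_lit 1804) i)) (Nat.ble (nat_lit 1800) i)) (@Bool.rec (fun _ => ℕ) (@Bool.rec (fun _ => ℕ) (@Bool.rec (fun _ => ℕ) (@Bool.rec (fun _ => ℕ) fb1808 fb1809 (Nat.ble (nat_lit 1809) i)) (@Bool.rec (fun _ => ℕ) fb1810 fb1811 (Nat.ble (nat_lit 1811) i)) (Nat.ble (nat_lit 1810) i)) (@Bool.rec (fun _ => ℕ) (@Bool.rec (fun _ => ℕ) fb1812 fb1813 (Nat.ble (nat_lit 1813) i)) (@Bool.rec (fun _ => ℕ) fb1814 fb1815 (Nat.ble (nat_lit 1815) i)) (Nat.ble (nat_lit 1814) i)) (Nat.ble (nat_lit 1812) i))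 (@Bool.rec (fun _ => ℕ) (@Bool.rec (fun _ => ℕ) (@Bool.rec (fun _ => ℕ) fb1816 fb1817 (Nat.ble (nat_lit 1817) i)) (@Bool.rec (fun _ => ℕ) fb1818 fb1819 (Nat.ble (nat_lit 1819) i)) (Nat.ble (nat_lit 1818) i)) (@Bool.rec (fun _ => ℕ) (@Bool.rec (fun _ => ℕ) fb1820 fb1821 (Nat.ble (nat_lit 1821) i)) (@Bool.rec (fun _ => ℕ) fb1822 fb1823 (Nat.ble (nat_lit 1823) i)) (Nat.ble (nat_lit 1822) i)) (Nat.ble (nat_lit 1820) i)) (Nat.ble (nat_lit 1816) i)) (Nat.ble (nat_lit 1808) i))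

def factBlk_n0_57 (i : ℕ) : ℕ := (@Bool.rec (fun _ => ℕ) (@Bool.rec (fun _ => ℕ) (@Bool.rec (fun _ => ℕ) (@Bool.rec (fun _ => ℕ) (@Bool.rec (fun _ => ℕ) fb1824 fb1825 (Nat.ble (nat_lit 1825) i)) (@Bool.rec (fun _ => ℕ) fb1826 fb1827 (Nat.ble (nat_lit 1827) i)) (Nat.ble (nat_lit 1826) i)) (@Bool.rec (fun _ => ℕ) (@Bool.rec (fun _ => ℕ) fb1828 fb1829 (Nat.ble (nat_lit 1829) i)) (@Bool.rec (fun _ => ℕ) fb1830 fb1831 (Nat.ble (nat_lit 1831) i)) (Nat.ble (nat_lit 1830) i)) (Nat.ble (nat_lit 1828) i)) (@Bool.rec (fun _ => ℕ) (@Bool.rec (fun _ => ℕ) (@Bool.rec (fun _ => ℕ) fb1832 fb1833 (Nat.ble (nat_lit 1833) i)) (@Bool.rec (fun _ => ℕ) fb1834 fb1835 (Nat.ble (nat_lit 1835) i)) (Nat.ble (nat_lit 1834) i)) (@Bool.rec (fun _ => ℕ) (@Bool.rec (fun _ => ℕ) fb1836 fb1837 (Nat.ble (nat_lit 1837) i)) (@Bool.rec (fun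 _ => ℕ) fb1838 fb1839 (Nat.ble (nat_lit 1839) i)) (Nat.ble (nat_lit 1838) i)) (Nat.ble (nat_lit 1836) i)) (Nat.ble (nat_lit 1832) i)) (@Bool.rec (fun _ => ℕ) (@Bool.rec (fun _ => ℕ) (@Bool.rec (fun _ => ℕ) (@Bool.rec (fun _ => ℕ) fb1840 fb1841 (Nat.ble (nat_lit 1841) i)) (@Bool.rec (fun _ => ℕ) fb1842 fb1843 (Nat.ble (nat_lit 1843) i)) (Nat.ble (nat_lit 1842) i)) (@Bool.rec (fun _ => ℕ) (@Bool.rec (fun _ => ℕ) fb1844 fb1845 (Nat.ble (nat_lit 1845) i)) (@Bool.rec (fun _ => ℕ) fb1846 fb1847 (Nat.ble (nat_lit 1847) i)) (Nat.ble (nat_lit 1846) i)) (Nat.ble (nat_lit 1844) i)) (@Bool.rec (fun _ => ℕ) (@Bool.rec (fun _ => ℕ) (@Bool.rec (fun _ => ℕ) fb1848 fb1849 (Nat.ble (nat_lit 1849) i)) (@Bool.rec (fun _ => ℕ) fb1850 fb1851 (Nat.ble (nat_lit 1851) i)) (Nat.ble (nat_lit 1850) i)) (@Bool.rec (fun _ => ℕ) (@Bool.rec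 (fun _ => ℕ) fb1852 fb1853 (Nat.ble (nat_lit 1853) i)) (@Bool.rec (fun _ => ℕ) fb1854 fb1855 (Nat.ble (nat_lit 1855) i)) (Nat.ble (nat_lit 1854) i)) (Nat.ble (nat_lit 1852) i)) (Nat.ble (nat_lit 1848) i)) (Nat.ble (nat_lit 1840) i))

def factBlk_n0_58 (i : ℕ) : ℕ := (@Bool.rec (fun _ => ℕ) (@Bool.rec (fun _ => ℕ) (@Bool.rec (fun _ => ℕ) (@Bool.rec (fun _ => ℕ) (@Bool.rec (fun _ => ℕ) fb1856 fb1857 (Nat.ble (nat_lit 1857) i)) (@Bool.rec (fun _ => ℕ) fb1858 fb1859 (Nat.ble (nat_lit 1859) i)) (Nat.ble (nat_lit 1858) i)) (@Bool.rec (fun _ => ℕ) (@Bool.rec (fun _ => ℕ) fb1860 fb1861 (Nat.ble (nat_lit 1861) i)) (@Bool.rec (fun _ => ℕ) fb1862 fb1863 (Nat.ble (nat_lit 1863) i)) (Nat.ble (nat_lit 1862) i)) (Nat.ble (nat_lit 1860) i)) (@Bool.rec (fun _ => ℕ) (@Bool.rec (fun _ => ℕ) (@Bool.rec (fun _ => ℕ) fb1864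 fb1865 (Nat.ble (nat_lit 1865) i)) (@Bool.rec (fun _ => ℕ) fb1866 fb1867 (Nat.ble (nat_lit 1867) i)) (Nat.ble (nat_lit 1866) i)) (@Bool.rec (fun _ => ℕ) (@Bool.rec (fun _ => ℕ) fb1868 fb1869 (Nat.ble (nat_lit 1869) i)) (@Bool.rec (fun _ => ℕ) fb1870 fb1871 (Nat.ble (nat_lit 1871) i)) (Nat.ble (nat_lit 1870) i)) (Nat.ble (nat_lit 1868) i)) (Nat.ble (nat_lit 1864) i)) (@Bool.rec (fun _ => ℕ) (@Bool.rec (fun _ => ℕ) (@Bool.rec (fun _ => ℕ) (@Bool.rec (fun _ => ℕ) fb1872 fb1873 (Nat.ble (nat_lit 1873) i)) (@Bool.rec (fun _ => ℕ) fb1874 fb1875 (Nat.ble (nat_lit 1875) i)) (Nat.ble (nat_lit 1874) i)) (@Bool.rec (fun _ => ℕ) (@Bool.rec (fun _ => ℕ) fb1876 fb1877 (Nat.ble (nat_lit 1877) i)) (@Bool.rec (fun _ => ℕ) fb1878 fb1879 (Nat.ble (nat_lit 1879) i)) (Nat.ble (nat_lit 1878) i)) (Nat.ble (nat_lit 1876) i))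 (@Bool.rec (fun _ => ℕ) (@Bool.rec (fun _ => ℕ) (@Bool.rec (fun _ => ℕ) fb1880 fb1881 (Nat.ble (nat_lit 1881) i)) (@Bool.rec (fun _ => ℕ) fb1882 fb1883 (Nat.ble (nat_lit 1883) i)) (Nat.ble (nat_lit 1882) i)) (@Bool.rec (fun _ => ℕ) (@Bool.rec (fun _ => ℕ) fb1884 fb1885 (Nat.ble (nat_lit 1885) i)) (@Bool.rec (fun _ => ℕ) fb1886 fb1887 (Nat.ble (nat_lit 1887) i)) (Nat.ble (nat_lit 1886) i)) (Nat.ble (nat_lit 1884) i)) (Nat.ble (nat_lit 1880) i)) (Nat.ble (nat_lit 1872) i))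

def factBlk_n0_59 (i : ℕ) : ℕ := (@Bool.rec (fun _ => ℕ) (@Bool.rec (fun _ => ℕ) (@Bool.rec (fun _ => ℕ) (@Bool.rec (fun _ => ℕ) (@Bool.rec (fun _ => ℕ) fb1888 fb1889 (Nat.ble (nat_lit 1889) i)) (@Bool.rec (fun _ => ℕ) fb1890 fb1891 (Nat.ble (nat_lit 1891) i)) (Nat.ble (nat_lit 1890) i)) (@Bool.rec (fun _ => ℕ) (@Bool.rec (fun _ => ℕ) fb1892 fb1893 (Nat.ble (nat_lit 1893) i)) (@Bool.rec (fun _ => ℕ) fb1894 fb1895 (Nat.ble (nat_lit 1895) i)) (Nat.ble (nat_lit 1894) i)) (Nat.ble (nat_lit 1892) i)) (@Bool.rec (fun _ => ℕ) (@Bool.rec (fun _ => ℕ) (@Bool.rec (fun _ => ℕ) fb1896 fb1897 (Nat.ble (nat_lit 1897) i)) (@Bool.rec (fun _ => ℕ) fb1898 fb1899 (Nat.ble (nat_lit 1899) i)) (Nat.ble (nat_lit 1898) i)) (@Bool.rec (fun _ => ℕ) (@Bool.rec (fun _ => ℕ) fb1900 fb1901 (Nat.ble (nat_lit 1901) i)) (@Bool.rec (fun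 _ => ℕ) fb1902 fb1903 (Nat.ble (nat_lit 1903) i)) (Nat.ble (nat_lit 1902) i)) (Nat.ble (nat_lit 1900) i)) (Nat.ble (nat_lit 1896) i)) (@Bool.rec (fun _ => ℕ) (@Bool.rec (fun _ => ℕ) (@Bool.rec (fun _ => ℕ) (@Bool.rec (fun _ => ℕ) fb1904 fb1905 (Nat.ble (nat_lit 1905) i)) (@Bool.rec (fun _ => ℕ) fb1906 fb1907 (Nat.ble (nat_lit 1907) i)) (Nat.ble (nat_lit 1906) i)) (@Bool.rec (fun _ => ℕ) (@Bool.rec (fun _ => ℕ) fb1908 fb1909 (Nat.ble (nat_lit 1909) i)) (@Bool.rec (fun _ => ℕ) fb1910 fb1911 (Nat.ble (nat_lit 1911) i)) (Nat.ble (nat_lit 1910) i)) (Nat.ble (nat_lit 1908) i)) (@Bool.rec (fun _ => ℕ) (@Bool.rec (fun _ => ℕ) (@Bool.rec (fun _ => ℕ) fb1912 fb1913 (Nat.ble (nat_lit 1913) i)) (@Bool.rec (fun _ => ℕ) fb1914 fb1915 (Nat.ble (nat_lit 1915) i)) (Nat.ble (nat_lit 1914) i)) (@Bool.rec (fun _ => ℕ) (@Bool.rec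 (fun _ => ℕ) fb1916 fb1917 (Nat.ble (nat_lit 1917) i)) (@Bool.rec (fun _ => ℕ) fb1918 fb1919 (Nat.ble (nat_lit 1919) i)) (Nat.ble (nat_lit 1918) i)) (Nat.ble (nat_lit 1916) i)) (Nat.ble (nat_lit 1912) i)) (Nat.ble (nat_lit 1904) i))

def factBlk_n0_60 (i : ℕ) : ℕ := (@Bool.rec (fun _ => ℕ) (@Bool.rec (fun _ => ℕ) (@Bool.rec (fun _ => ℕ) (@Bool.rec (fun _ => ℕ) (@Bool.rec (fun _ => ℕ) fb1920 fb1921 (Nat.ble (nat_lit 1921) i)) (@Bool.rec (fun _ => ℕ) fb1922 fb1923 (Nat.ble (nat_lit 1923) i)) (Nat.ble (nat_lit 1922) i)) (@Bool.rec (fun _ => ℕ) (@Bool.rec (fun _ => ℕ) fb1924 fb1925 (Nat.ble (nat_lit 1925) i)) (@Bool.rec (fun _ => ℕ) fb1926 fb1927 (Nat.ble (nat_lit 1927) i)) (Nat.ble (nat_lit 1926) i)) (Nat.ble (nat_lit 1924) i)) (@Bool.rec (fun _ => ℕ) (@Bool.rec (fun _ => ℕ) (@Bool.rec (fun _ => ℕ) fb1928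 fb1929 (Nat.ble (nat_lit 1929) i)) (@Bool.rec (fun _ => ℕ) fb1930 fb1931 (Nat.ble (nat_lit 1931) i)) (Nat.ble (nat_lit 1930) i)) (@Bool.rec (fun _ => ℕ) (@Bool.rec (fun _ => ℕ) fb1932 fb1933 (Nat.ble (nat_lit 1933) i)) (@Bool.rec (fun _ => ℕ) fb1934 fb1935 (Nat.ble (nat_lit 1935) i)) (Nat.ble (nat_lit 1934) i)) (Nat.ble (nat_lit 1932) i)) (Nat.ble (nat_lit 1928) i)) (@Bool.rec (fun _ => ℕ) (@Bool.rec (fun _ => ℕ) (@Bool.rec (fun _ => ℕ) (@Bool.rec (fun _ => ℕ) fb1936 fb1937 (Nat.ble (nat_lit 1937) i)) (@Bool.rec (fun _ => ℕ) fb1938 fb1939 (Nat.ble (nat_lit 1939) i)) (Nat.ble (nat_lit 1938) i)) (@Bool.rec (fun _ => ℕ) (@Bool.rec (fun _ => ℕ) fb1940 fb1941 (Nat.ble (nat_lit 1941) i)) (@Bool.rec (fun _ => ℕ) fb1942 fb1943 (Nat.ble (nat_lit 1943) i)) (Nat.ble (nat_lit 1942) i)) (Nat.ble (nat_lit 1940) i))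 (@Bool.rec (fun _ => ℕ) (@Bool.rec (fun _ => ℕ) (@Bool.rec (fun _ => ℕ) fb1944 fb1945 (Nat.ble (nat_lit 1945) i)) (@Bool.rec (fun _ => ℕ) fb1946 fb1947 (Nat.ble (nat_lit 1947) i)) (Nat.ble (nat_lit 1946) i)) (@Bool.rec (fun _ => ℕ) (@Bool.rec (fun _ => ℕ) fb1948 fb1949 (Nat.ble (nat_lit 1949) i)) (@Bool.rec (fun _ => ℕ) fb1950 fb1951 (Nat.ble (nat_lit 1951) i)) (Nat.ble (nat_lit 1950) i)) (Nat.ble (nat_lit 1948) i)) (Nat.ble (nat_lit 1944) i)) (Nat.ble (nat_lit 1936) i))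

def factBlk_n0_61 (i : ℕ) : ℕ := (@Bool.rec (fun _ => ℕ) (@Bool.rec (fun _ => ℕ) (@Bool.rec (fun _ => ℕ) (@Bool.rec (fun _ => ℕ) (@Bool.rec (fun _ => ℕ) fb1952 fb1953 (Nat.ble (nat_lit 1953) i)) (@Bool.rec (fun _ => ℕ) fb1954 fb1955 (Nat.ble (nat_lit 1955) i)) (Nat.ble (nat_lit 1954) i)) (@Bool.rec (fun _ => ℕ) (@Bool.rec (fun _ => ℕ) fb1956 fb1957 (Nat.ble (nat_lit 1957) i)) (@Bool.rec (fun _ => ℕ) fb1958 fb1959 (Nat.ble (nat_lit 1959) i)) (Nat.ble (nat_lit 1958) i)) (Nat.ble (nat_lit 1956) i)) (@Bool.rec (fun _ => ℕ) (@Bool.rec (fun _ => ℕ) (@Bool.rec (fun _ => ℕ) fb1960 fb1961 (Nat.ble (nat_lit 1961) i)) (@Bool.rec (fun _ => ℕ) fb1962 fb1963 (Nat.ble (nat_lit 1963) i)) (Nat.ble (nat_lit 1962) i)) (@Bool.rec (fun _ => ℕ) (@Bool.rec (fun _ => ℕ) fb1964 fb1965 (Nat.ble (nat_lit 1965) i)) (@Bool.rec (fun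 _ => ℕ) fb1966 fb1967 (Nat.ble (nat_lit 1967) i)) (Nat.ble (nat_lit 1966) i)) (Nat.ble (nat_lit 1964) i)) (Nat.ble (nat_lit 1960) i)) (@Bool.rec (fun _ => ℕ) (@Bool.rec (fun _ => ℕ) (@Bool.rec (fun _ => ℕ) (@Bool.rec (fun _ => ℕ) fb1968 fb1969 (Nat.ble (nat_lit 1969) i)) (@Bool.rec (fun _ => ℕ) fb1970 fb1971 (Nat.ble (nat_lit 1971) i)) (Nat.ble (nat_lit 1970) i)) (@Bool.rec (fun _ => ℕ) (@Bool.rec (fun _ => ℕ) fb1972 fb1973 (Nat.ble (nat_lit 1973) i)) (@Bool.rec (fun _ => ℕ) fb1974 fb1975 (Nat.ble (nat_lit 1975) i)) (Nat.ble (nat_lit 1974) i)) (Nat.ble (nat_lit 1972) i)) (@Bool.rec (fun _ => ℕ) (@Bool.rec (fun _ => ℕ) (@Bool.rec (fun _ => ℕ) fb1976 fb1977 (Nat.ble (nat_lit 1977) i)) (@Bool.rec (fun _ => ℕ) fb1978 fb1979 (Nat.ble (nat_lit 1979) i)) (Nat.ble (nat_lit 1978) i)) (@Bool.rec (fun _ => ℕ) (@Bool.rec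 (fun _ => ℕ) fb1980 fb1981 (Nat.ble (nat_lit 1981) i)) (@Bool.rec (fun _ => ℕ) fb1982 fb1983 (Nat.ble (nat_lit 1983) i)) (Nat.ble (nat_lit 1982) i)) (Nat.ble (nat_lit 1980) i)) (Nat.ble (nat_lit 1976) i)) (Nat.ble (nat_lit 1968) i))

def factBlk_n0_62 (i : ℕ) : ℕ := (@Bool.rec (fun _ => ℕ) (@Bool.rec (fun _ => ℕ) (@Bool.rec (fun _ => ℕ) (@Bool.rec (fun _ => ℕ) (@Bool.rec (fun _ => ℕ) fb1984 fb1985 (Nat.ble (nat_lit 1985) i)) (@Bool.rec (fun _ => ℕ) fb1986 fb1987 (Nat.ble (nat_lit 1987) i)) (Nat.ble (nat_lit 1986) i)) (@Bool.rec (fun _ => ℕ) (@Bool.rec (fun _ => ℕ) fb1988 fb1989 (Nat.ble (nat_lit 1989) i)) (@Bool.rec (fun _ => ℕ) fb1990 fb1991 (Nat.ble (nat_lit 1991) i)) (Nat.ble (nat_lit 1990) i)) (Nat.ble (nat_lit 1988) i)) (@Bool.rec (fun _ => ℕ) (@Bool.rec (fun _ => ℕ) (@Bool.rec (fun _ => ℕ) fb1992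 fb1993 (Nat.ble (nat_lit 1993) i)) (@Bool.rec (fun _ => ℕ) fb1994 fb1995 (Nat.ble (nat_lit 1995) i)) (Nat.ble (nat_lit 1994) i)) (@Bool.rec (fun _ => ℕ) (@Bool.rec (fun _ => ℕ) fb1996 fb1997 (Nat.ble (nat_lit 1997) i)) (@Bool.rec (fun _ => ℕ) fb1998 fb1999 (Nat.ble (nat_lit 1999) i)) (Nat.ble (nat_lit 1998) i)) (Nat.ble (nat_lit 1996) i)) (Nat.ble (nat_lit 1992) i)) (@Bool.rec (fun _ => ℕ) (@Bool.rec (fun _ => ℕ) (@Bool.rec (fun _ => ℕ) (@Bool.rec (fun _ => ℕ) fb2000 fb2001 (Nat.ble (nat_lit 2001) i)) (@Bool.rec (fun _ => ℕ) fb2002 fb2003 (Nat.ble (nat_lit 2003) i)) (Nat.ble (nat_lit 2002) i)) (@Bool.rec (fun _ => ℕ) (@Bool.rec (fun _ => ℕ) fb2004 fb2005 (Nat.ble (nat_lit 2005) i)) (@Bool.rec (fun _ => ℕ) fb2006 fb2007 (Nat.ble (nat_lit 2007) i)) (Nat.ble (nat_lit 2006) i)) (Nat.ble (nat_lit 2004) i))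 (@Bool.rec (fun _ => ℕ) (@Bool.rec (fun _ => ℕ) (@Bool.rec (fun _ => ℕ) fb2008 fb2009 (Nat.ble (nat_lit 2009) i)) (@Bool.rec (fun _ => ℕ) fb2010 fb2011 (Nat.ble (nat_lit 2011) i)) (Nat.ble (nat_lit 2010) i)) (@Bool.rec (fun _ => ℕ) (@Bool.rec (fun _ => ℕ) fb2012 fb2013 (Nat.ble (nat_lit 2013) i)) (@Bool.rec (fun _ => ℕ) fb2014 fb2015 (Nat.ble (nat_lit 2015) i)) (Nat.ble (nat_lit 2014) i)) (Nat.ble (nat_lit 2012) i)) (Nat.ble (nat_lit 2008) i)) (Nat.ble (nat_lit 2000) i))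

def factBlk_n0_63 (i : ℕ) : ℕ := (@Bool.rec (fun _ => ℕ) (@Bool.rec (fun _ => ℕ) (@Bool.rec (fun _ => ℕ) (@Bool.rec (fun _ => ℕ) (@Bool.rec (fun _ => ℕ) fb2016 fb2017 (Nat.ble (nat_lit 2017) i)) (@Bool.rec (fun _ => ℕ) fb2018 fb2019 (Nat.ble (nat_lit 2019) i)) (Nat.ble (nat_lit 2018) i)) (@Bool.rec (fun _ => ℕ) (@Bool.rec (fun _ => ℕ) fb2020 fb2021 (Nat.ble (nat_lit 2021) i)) (@Bool.rec (fun _ => ℕ) fb2022 fb2023 (Nat.ble (nat_lit 2023) i)) (Nat.ble (nat_lit 2022) i)) (Nat.ble (nat_lit 2020) i)) (@Bool.rec (fun _ => ℕ) (@Bool.rec (fun _ => ℕ) (@Bool.rec (fun _ => ℕ) fb2024 fb2025 (Nat.ble (nat_lit 2025) i)) (@Bool.rec (fun _ => ℕ) fb2026 fb2027 (Nat.ble (nat_lit 2027) i)) (Nat.ble (nat_lit 2026) i)) (@Bool.rec (fun _ => ℕ) (@Bool.rec (fun _ => ℕ) fb2028 fb2029 (Nat.ble (nat_lit 2029) i)) (@Bool.rec (fun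 _ => ℕ) fb2030 fb2031 (Nat.ble (nat_lit 2031) i)) (Nat.ble (nat_lit 2030) i)) (Nat.ble (nat_lit 2028) i)) (Nat.ble (nat_lit 2024) i)) (@Bool.rec (fun _ => ℕ) (@Bool.rec (fun _ => ℕ) (@Bool.rec (fun _ => ℕ) (@Bool.rec (fun _ => ℕ) fb2032 fb2033 (Nat.ble (nat_lit 2033) i)) (@Bool.rec (fun _ => ℕ) fb2034 fb2035 (Nat.ble (nat_lit 2035) i)) (Nat.ble (nat_lit 2034) i)) (@Bool.rec (fun _ => ℕ) (@Bool.rec (fun _ => ℕ) fb2036 fb2037 (Nat.ble (nat_lit 2037) i)) (@Bool.rec (fun _ => ℕ) fb2038 fb2039 (Nat.ble (nat_lit 2039) i)) (Nat.ble (nat_lit 2038) i)) (Nat.ble (nat_lit 2036) i)) (@Bool.rec (fun _ => ℕ) (@Bool.rec (fun _ => ℕ) (@Bool.rec (fun _ => ℕ) fb2040 fb2041 (Nat.ble (nat_lit 2041) i)) (@Bool.rec (fun _ => ℕ) fb2042 fb2043 (Nat.ble (nat_lit 2043) i)) (Nat.ble (nat_lit 2042) i)) (@Bool.rec (fun _ => ℕ) (@Bool.rec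 (fun _ => ℕ) fb2044 fb2045 (Nat.ble (nat_lit 2045) i)) (@Bool.rec (fun _ => ℕ) fb2046 fb2047 (Nat.ble (nat_lit 2047) i)) (Nat.ble (nat_lit 2046) i)) (Nat.ble (nat_lit 2044) i)) (Nat.ble (nat_lit 2040) i)) (Nat.ble (nat_lit 2032) i))

def factBlk_n0_64 (i : ℕ) : ℕ := (@Bool.rec (fun _ => ℕ) (@Bool.rec (fun _ => ℕ) (@Bool.rec (fun _ => ℕ) (@Bool.rec (fun _ => ℕ) (@Bool.rec (fun _ => ℕ) fb2048 fb2049 (Nat.ble (nat_lit 2049) i)) (@Bool.rec (fun _ => ℕ) fb2050 fb2051 (Nat.ble (nat_lit 2051) i)) (Nat.ble (nat_lit 2050) i)) (@Bool.rec (fun _ => ℕ) (@Bool.rec (fun _ => ℕ) fb2052 fb2053 (Nat.ble (nat_lit 2053) i)) (@Bool.rec (fun _ => ℕ) fb2054 fb2055 (Nat.ble (nat_lit 2055) i)) (Nat.ble (nat_lit 2054) i)) (Nat.ble (nat_lit 2052) i)) (@Bool.rec (fun _ => ℕ) (@Bool.rec (fun _ => ℕ) (@Bool.rec (fun _ => ℕ) fb2056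 fb2057 (Nat.ble (nat_lit 2057) i)) (@Bool.rec (fun _ => ℕ) fb2058 fb2059 (Nat.ble (nat_lit 2059) i)) (Nat.ble (nat_lit 2058) i)) (@Bool.rec (fun _ => ℕ) (@Bool.rec (fun _ => ℕ) fb2060 fb2061 (Nat.ble (nat_lit 2061) i)) (@Bool.rec (fun _ => ℕ) fb2062 fb2063 (Nat.ble (nat_lit 2063) i)) (Nat.ble (nat_lit 2062) i)) (Nat.ble (nat_lit 2060) i)) (Nat.ble (nat_lit 2056) i)) (@Bool.rec (fun _ => ℕ) (@Bool.rec (fun _ => ℕ) (@Bool.rec (fun _ => ℕ) (@Bool.rec (fun _ => ℕ) fb2064 fb2065 (Nat.ble (nat_lit 2065) i)) (@Bool.rec (fun _ => ℕ) fb2066 fb2067 (Nat.ble (nat_lit 2067) i)) (Nat.ble (nat_lit 2066) i)) (@Bool.rec (fun _ => ℕ) (@Bool.rec (fun _ => ℕ) fb2068 fb2069 (Nat.ble (nat_lit 2069) i)) (@Bool.rec (fun _ => ℕ) fb2070 fb2071 (Nat.ble (nat_lit 2071) i)) (Nat.ble (nat_lit 2070) i)) (Nat.ble (nat_lit 2068) i))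 (@Bool.rec (fun _ => ℕ) (@Bool.rec (fun _ => ℕ) (@Bool.rec (fun _ => ℕ) fb2072 fb2073 (Nat.ble (nat_lit 2073) i)) (@Bool.rec (fun _ => ℕ) fb2074 fb2075 (Nat.ble (nat_lit 2075) i)) (Nat.ble (nat_lit 2074) i)) (@Bool.rec (fun _ => ℕ) (@Bool.rec (fun _ => ℕ) fb2076 fb2077 (Nat.ble (nat_lit 2077) i)) (@Bool.rec (fun _ => ℕ) fb2078 fb2079 (Nat.ble (nat_lit 2079) i)) (Nat.ble (nat_lit 2078) i)) (Nat.ble (nat_lit 2076) i)) (Nat.ble (nat_lit 2072) i)) (Nat.ble (nat_lit 2064) i))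

def factBlk_n0_65 (i : ℕ) : ℕ := (@Bool.rec (fun _ => ℕ) (@Bool.rec (fun _ => ℕ) (@Bool.rec (fun _ => ℕ) (@Bool.rec (fun _ => ℕ) (@Bool.rec (fun _ => ℕ) fb2080 fb2081 (Nat.ble (nat_lit 2081) i)) (@Bool.rec (fun _ => ℕ) fb2082 fb2083 (Nat.ble (nat_lit 2083) i)) (Nat.ble (nat_lit 2082) i)) (@Bool.rec (fun _ => ℕ) (@Bool.rec (fun _ => ℕ) fb2084 fb2085 (Nat.ble (nat_lit 2085) i)) (@Bool.rec (fun _ => ℕ) fb2086 fb2087 (Nat.ble (nat_lit 2087) i)) (Nat.ble (nat_lit 2086) i)) (Nat.ble (nat_lit 2084) i)) (@Bool.rec (fun _ => ℕ) (@Bool.rec (fun _ => ℕ) (@Bool.rec (fun _ => ℕ) fb2088 fb2089 (Nat.ble (nat_lit 2089) i)) (@Bool.rec (fun _ => ℕ) fb2090 fb2091 (Nat.ble (nat_lit 2091) i)) (Nat.ble (nat_lit 2090) i)) (@Bool.rec (fun _ => ℕ) (@Bool.rec (fun _ => ℕ) fb2092 fb2093 (Nat.ble (nat_lit 2093) i)) (@Bool.rec (fun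 _ => ℕ) fb2094 fb2095 (Nat.ble (nat_lit 2095) i)) (Nat.ble (nat_lit 2094) i)) (Nat.ble (nat_lit 2092) i)) (Nat.ble (nat_lit 2088) i)) (@Bool.rec (fun _ => ℕ) (@Bool.rec (fun _ => ℕ) (@Bool.rec (fun _ => ℕ) (@Bool.rec (fun _ => ℕ) fb2096 fb2097 (Nat.ble (nat_lit 2097) i)) (@Bool.rec (fun _ => ℕ) fb2098 fb2099 (Nat.ble (nat_lit 2099) i)) (Nat.ble (nat_lit 2098) i)) (@Bool.rec (fun _ => ℕ) (@Bool.rec (fun _ => ℕ) fb2100 fb2101 (Nat.ble (nat_lit 2101) i)) (@Bool.rec (fun _ => ℕ) fb2102 fb2103 (Nat.ble (nat_lit 2103) i)) (Nat.ble (nat_lit 2102) i)) (Nat.ble (nat_lit 2100) i)) (@Bool.rec (fun _ => ℕ) (@Bool.rec (fun _ => ℕ) (@Bool.rec (fun _ => ℕ) fb2104 fb2105 (Nat.ble (nat_lit 2105) i)) (@Bool.rec (fun _ => ℕ) fb2106 fb2107 (Nat.ble (nat_lit 2107) i)) (Nat.ble (nat_lit 2106) i)) (@Bool.rec (fun _ => ℕ) (@Bool.rec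 (fun _ => ℕ) fb2108 fb2109 (Nat.ble (nat_lit 2109) i)) (@Bool.rec (fun _ => ℕ) fb2110 fb2111 (Nat.ble (nat_lit 2111) i)) (Nat.ble (nat_lit 2110) i)) (Nat.ble (nat_lit 2108) i)) (Nat.ble (nat_lit 2104) i)) (Nat.ble (nat_lit 2096) i))

def factBlk_n0_66 (i : ℕ) : ℕ := (@Bool.rec (fun _ => ℕ) (@Bool.rec (fun _ => ℕ) (@Bool.rec (fun _ => ℕ) (@Bool.rec (fun _ => ℕ) (@Bool.rec (fun _ => ℕ) fb2112 fb2113 (Nat.ble (nat_lit 2113) i)) (@Bool.rec (fun _ => ℕ) fb2114 fb2115 (Nat.ble (nat_lit 2115) i)) (Nat.ble (nat_lit 2114) i)) (@Bool.rec (fun _ => ℕ) (@Bool.rec (fun _ => ℕ) fb2116 fb2117 (Nat.ble (nat_lit 2117) i)) (@Bool.rec (fun _ => ℕ) fb2118 fb2119 (Nat.ble (nat_lit 2119) i)) (Nat.ble (nat_lit 2118) i)) (Nat.ble (nat_lit 2116) i)) (@Bool.rec (fun _ => ℕ) (@Bool.rec (fun _ => ℕ) (@Bool.rec (fun _ => ℕ) fb2120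 fb2121 (Nat.ble (nat_lit 2121) i)) (@Bool.rec (fun _ => ℕ) fb2122 fb2123 (Nat.ble (nat_lit 2123) i)) (Nat.ble (nat_lit 2122) i)) (@Bool.rec (fun _ => ℕ) (@Bool.rec (fun _ => ℕ) fb2124 fb2125 (Nat.ble (nat_lit 2125) i)) (@Bool.rec (fun _ => ℕ) fb2126 fb2127 (Nat.ble (nat_lit 2127) i)) (Nat.ble (nat_lit 2126) i)) (Nat.ble (nat_lit 2124) i)) (Nat.ble (nat_lit 2120) i)) (@Bool.rec (fun _ => ℕ) (@Bool.rec (fun _ => ℕ) (@Bool.rec (fun _ => ℕ) (@Bool.rec (fun _ => ℕ) fb2128 fb2129 (Nat.ble (nat_lit 2129) i)) (@Bool.rec (fun _ => ℕ) fb2130 fb2131 (Nat.ble (nat_lit 2131) i)) (Nat.ble (nat_lit 2130) i)) (@Bool.rec (fun _ => ℕ) (@Bool.rec (fun _ => ℕ) fb2132 fb2133 (Nat.ble (nat_lit 2133) i)) (@Bool.rec (fun _ => ℕ) fb2134 fb2135 (Nat.ble (nat_lit 2135) i)) (Nat.ble (nat_lit 2134) i)) (Nat.ble (nat_lit 2132) i))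 (@Bool.rec (fun _ => ℕ) (@Bool.rec (fun _ => ℕ) (@Bool.rec (fun _ => ℕ) fb2136 fb2137 (Nat.ble (nat_lit 2137) i)) (@Bool.rec (fun _ => ℕ) fb2138 fb2139 (Nat.ble (nat_lit 2139) i)) (Nat.ble (nat_lit 2138) i)) (@Bool.rec (fun _ => ℕ) (@Bool.rec (fun _ => ℕ) fb2140 fb2141 (Nat.ble (nat_lit 2141) i)) (@Bool.rec (fun _ => ℕ) fb2142 fb2143 (Nat.ble (nat_lit 2143) i)) (Nat.ble (nat_lit 2142) i)) (Nat.ble (nat_lit 2140) i)) (Nat.ble (nat_lit 2136) i)) (Nat.ble (nat_lit 2128) i))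

def factBlk_n0_67 (i : ℕ) : ℕ := (@Bool.rec (fun _ => ℕ) (@Bool.rec (fun _ => ℕ) (@Bool.rec (fun _ => ℕ) (@Bool.rec (fun _ => ℕ) (@Bool.rec (fun _ => ℕ) fb2144 fb2145 (Nat.ble (nat_lit 2145) i)) (@Bool.rec (fun _ => ℕ) fb2146 fb2147 (Nat.ble (nat_lit 2147) i)) (Nat.ble (nat_lit 2146) i)) (@Bool.rec (fun _ => ℕ) (@Bool.rec (fun _ => ℕ) fb2148 fb2149 (Nat.ble (nat_lit 2149) i)) (@Bool.rec (fun _ => ℕ) fb2150 fb2151 (Nat.ble (nat_lit 2151) i)) (Nat.ble (nat_lit 2150) i)) (Nat.ble (nat_lit 2148) i)) (@Bool.rec (fun _ => ℕ) (@Bool.rec (fun _ => ℕ) (@Bool.rec (fun _ => ℕ) fb2152 fb2153 (Nat.ble (nat_lit 2153) i)) (@Bool.rec (fun _ => ℕ) fb2154 fb2155 (Nat.ble (nat_lit 2155) i)) (Nat.ble (nat_lit 2154) i)) (@Bool.rec (fun _ => ℕ) (@Bool.rec (fun _ => ℕ) fb2156 fb2157 (Nat.ble (nat_lit 2157) i)) (@Bool.rec (fun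 _ => ℕ) fb2158 fb2159 (Nat.ble (nat_lit 2159) i)) (Nat.ble (nat_lit 2158) i)) (Nat.ble (nat_lit 2156) i)) (Nat.ble (nat_lit 2152) i)) (@Bool.rec (fun _ => ℕ) (@Bool.rec (fun _ => ℕ) (@Bool.rec (fun _ => ℕ) (@Bool.rec (fun _ => ℕ) fb2160 fb2161 (Nat.ble (nat_lit 2161) i)) (@Bool.rec (fun _ => ℕ) fb2162 fb2163 (Nat.ble (nat_lit 2163) i)) (Nat.ble (nat_lit 2162) i)) (@Bool.rec (fun _ => ℕ) (@Bool.rec (fun _ => ℕ) fb2164 fb2165 (Nat.ble (nat_lit 2165) i)) (@Bool.rec (fun _ => ℕ) fb2166 fb2167 (Nat.ble (nat_lit 2167) i)) (Nat.ble (nat_lit 2166) i)) (Nat.ble (nat_lit 2164) i)) (@Bool.rec (fun _ => ℕ) (@Bool.rec (fun _ => ℕ) (@Bool.rec (fun _ => ℕ) fb2168 fb2169 (Nat.ble (nat_lit 2169) i)) (@Bool.rec (fun _ => ℕ) fb2170 fb2171 (Nat.ble (nat_lit 2171) i)) (Nat.ble (nat_lit 2170) i)) (@Bool.rec (fun _ => ℕ) (@Bool.rec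 (fun _ => ℕ) fb2172 fb2173 (Nat.ble (nat_lit 2173) i)) (@Bool.rec (fun _ => ℕ) fb2174 fb2175 (Nat.ble (nat_lit 2175) i)) (Nat.ble (nat_lit 2174) i)) (Nat.ble (nat_lit 2172) i)) (Nat.ble (nat_lit 2168) i)) (Nat.ble (nat_lit 2160) i))

def factBlk_n0_68 (i : ℕ) : ℕ := (@Bool.rec (fun _ => ℕ) (@Bool.rec (fun _ => ℕ) (@Bool.rec (fun _ => ℕ) (@Bool.rec (fun _ => ℕ) (@Bool.rec (fun _ => ℕ) fb2176 fb2177 (Nat.ble (nat_lit 2177) i)) (@Bool.rec (fun _ => ℕ) fb2178 fb2179 (Nat.ble (nat_lit 2179) i)) (Nat.ble (nat_lit 2178) i)) (@Bool.rec (fun _ => ℕ) (@Bool.rec (fun _ => ℕ) fb2180 fb2181 (Nat.ble (nat_lit 2181) i)) (@Bool.rec (fun _ => ℕ) fb2182 fb2183 (Nat.ble (nat_lit 2183) i)) (Nat.ble (nat_lit 2182) i)) (Nat.ble (nat_lit 2180) i)) (@Bool.rec (fun _ => ℕ) (@Bool.rec (fun _ => ℕ) (@Bool.rec (fun _ => ℕ) fb2184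 fb2185 (Nat.ble (nat_lit 2185) i)) (@Bool.rec (fun _ => ℕ) fb2186 fb2187 (Nat.ble (nat_lit 2187) i)) (Nat.ble (nat_lit 2186) i)) (@Bool.rec (fun _ => ℕ) (@Bool.rec (fun _ => ℕ) fb2188 fb2189 (Nat.ble (nat_lit 2189) i)) (@Bool.rec (fun _ => ℕ) fb2190 fb2191 (Nat.ble (nat_lit 2191) i)) (Nat.ble (nat_lit 2190) i)) (Nat.ble (nat_lit 2188) i)) (Nat.ble (nat_lit 2184) i)) (@Bool.rec (fun _ => ℕ) (@Bool.rec (fun _ => ℕ) (@Bool.rec (fun _ => ℕ) (@Bool.rec (fun _ => ℕ) fb2192 fb2193 (Nat.ble (nat_lit 2193) i)) (@Bool.rec (fun _ => ℕ) fb2194 fb2195 (Nat.ble (nat_lit 2195) i)) (Nat.ble (nat_lit 2194) i)) (@Bool.rec (fun _ => ℕ) (@Bool.rec (fun _ => ℕ) fb2196 fb2197 (Nat.ble (nat_lit 2197) i)) (@Bool.rec (fun _ => ℕ) fb2198 fb2199 (Nat.ble (nat_lit 2199) i)) (Nat.ble (nat_lit 2198) i)) (Nat.ble (nat_lit 2196) i))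 (@Bool.rec (fun _ => ℕ) (@Bool.rec (fun _ => ℕ) (@Bool.rec (fun _ => ℕ) fb2200 fb2201 (Nat.ble (nat_lit 2201) i)) (@Bool.rec (fun _ => ℕ) fb2202 fb2203 (Nat.ble (nat_lit 2203) i)) (Nat.ble (nat_lit 2202) i)) (@Bool.rec (fun _ => ℕ) (@Bool.rec (fun _ => ℕ) fb2204 fb2205 (Nat.ble (nat_lit 2205) i)) (@Bool.rec (fun _ => ℕ) fb2206 fb2207 (Nat.ble (nat_lit 2207) i)) (Nat.ble (nat_lit 2206) i)) (Nat.ble (nat_lit 2204) i)) (Nat.ble (nat_lit 2200) i)) (Nat.ble (nat_lit 2192) i))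

def factBlk_n0_69 (i : ℕ) : ℕ := (@Bool.rec (fun _ => ℕ) (@Bool.rec (fun _ => ℕ) (@Bool.rec (fun _ => ℕ) (@Bool.rec (fun _ => ℕ) (@Bool.rec (fun _ => ℕ) fb2208 fb2209 (Nat.ble (nat_lit 2209) i)) (@Bool.rec (fun _ => ℕ) fb2210 fb2211 (Nat.ble (nat_lit 2211) i)) (Nat.ble (nat_lit 2210) i)) (@Bool.rec (fun _ => ℕ) (@Bool.rec (fun _ => ℕ) fb2212 fb2213 (Nat.ble (nat_lit 2213) i)) (@Bool.rec (fun _ => ℕ) fb2214 fb2215 (Nat.ble (nat_lit 2215) i)) (Nat.ble (nat_lit 2214) i)) (Nat.ble (nat_lit 2212) i)) (@Bool.rec (fun _ => ℕ) (@Bool.rec (fun _ => ℕ) (@Bool.rec (fun _ => ℕ) fb2216 fb2217 (Nat.ble (nat_lit 2217) i)) (@Bool.rec (fun _ => ℕ) fb2218 fb2219 (Nat.ble (nat_lit 2219) i)) (Nat.ble (nat_lit 2218) i)) (@Bool.rec (fun _ => ℕ) (@Bool.rec (fun _ => ℕ) fb2220 fb2221 (Nat.ble (nat_lit 2221) i)) (@Bool.rec (fun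 _ => ℕ) fb2222 fb2223 (Nat.ble (nat_lit 2223) i)) (Nat.ble (nat_lit 2222) i)) (Nat.ble (nat_lit 2220) i)) (Nat.ble (nat_lit 2216) i)) (@Bool.rec (fun _ => ℕ) (@Bool.rec (fun _ => ℕ) (@Bool.rec (fun _ => ℕ) (@Bool.rec (fun _ => ℕ) fb2224 fb2225 (Nat.ble (nat_lit 2225) i)) (@Bool.rec (fun _ => ℕ) fb2226 fb2227 (Nat.ble (nat_lit 2227) i)) (Nat.ble (nat_lit 2226) i)) (@Bool.rec (fun _ => ℕ) (@Bool.rec (fun _ => ℕ) fb2228 fb2229 (Nat.ble (nat_lit 2229) i)) (@Bool.rec (fun _ => ℕ) fb2230 fb2231 (Nat.ble (nat_lit 2231) i)) (Nat.ble (nat_lit 2230) i)) (Nat.ble (nat_lit 2228) i)) (@Bool.rec (fun _ => ℕ) (@Bool.rec (fun _ => ℕ) (@Bool.rec (fun _ => ℕ) fb2232 fb2233 (Nat.ble (nat_lit 2233) i)) (@Bool.rec (fun _ => ℕ) fb2234 fb2235 (Nat.ble (nat_lit 2235) i)) (Nat.ble (nat_lit 2234) i)) (@Bool.rec (fun _ => ℕ) (@Bool.rec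 (fun _ => ℕ) fb2236 fb2237 (Nat.ble (nat_lit 2237) i)) (@Bool.rec (fun _ => ℕ) fb2238 fb2239 (Nat.ble (nat_lit 2239) i)) (Nat.ble (nat_lit 2238) i)) (Nat.ble (nat_lit 2236) i)) (Nat.ble (nat_lit 2232) i)) (Nat.ble (nat_lit 2224) i))

def factBlk_n0_70 (i : ℕ) : ℕ := (@Bool.rec (fun _ => ℕ) (@Bool.rec (fun _ => ℕ) (@Bool.rec (fun _ => ℕ) (@Bool.rec (fun _ => ℕ) (@Bool.rec (fun _ => ℕ) fb2240 fb2241 (Nat.ble (nat_lit 2241) i)) (@Bool.rec (fun _ => ℕ) fb2242 fb2243 (Nat.ble (nat_lit 2243) i)) (Nat.ble (nat_lit 2242) i)) (@Bool.rec (fun _ => ℕ) (@Bool.rec (fun _ => ℕ) fb2244 fb2245 (Nat.ble (nat_lit 2245) i)) (@Bool.rec (fun _ => ℕ) fb2246 fb2247 (Nat.ble (nat_lit 2247) i)) (Nat.ble (nat_lit 2246) i)) (Nat.ble (nat_lit 2244) i)) (@Bool.rec (fun _ => ℕ) (@Bool.rec (fun _ => ℕ) (@Bool.rec (fun _ => ℕ) fb2248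 fb2249 (Nat.ble (nat_lit 2249) i)) (@Bool.rec (fun _ => ℕ) fb2250 fb2251 (Nat.ble (nat_lit 2251) i)) (Nat.ble (nat_lit 2250) i)) (@Bool.rec (fun _ => ℕ) (@Bool.rec (fun _ => ℕ) fb2252 fb2253 (Nat.ble (nat_lit 2253) i)) (@Bool.rec (fun _ => ℕ) fb2254 fb2255 (Nat.ble (nat_lit 2255) i)) (Nat.ble (nat_lit 2254) i)) (Nat.ble (nat_lit 2252) i)) (Nat.ble (nat_lit 2248) i)) (@Bool.rec (fun _ => ℕ) (@Bool.rec (fun _ => ℕ) (@Bool.rec (fun _ => ℕ) (@Bool.rec (fun _ => ℕ) fb2256 fb2257 (Nat.ble (nat_lit 2257) i)) (@Bool.rec (fun _ => ℕ) fb2258 fb2259 (Nat.ble (nat_lit 2259) i)) (Nat.ble (nat_lit 2258) i)) (@Bool.rec (fun _ => ℕ) (@Bool.rec (fun _ => ℕ) fb2260 fb2261 (Nat.ble (nat_lit 2261) i)) (@Bool.rec (fun _ => ℕ) fb2262 fb2263 (Nat.ble (nat_lit 2263) i)) (Nat.ble (nat_lit 2262) i)) (Nat.ble (nat_lit 2260) i))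 (@Bool.rec (fun _ => ℕ) (@Bool.rec (fun _ => ℕ) (@Bool.rec (fun _ => ℕ) fb2264 fb2265 (Nat.ble (nat_lit 2265) i)) (@Bool.rec (fun _ => ℕ) fb2266 fb2267 (Nat.ble (nat_lit 2267) i)) (Nat.ble (nat_lit 2266) i)) (@Bool.rec (fun _ => ℕ) (@Bool.rec (fun _ => ℕ) fb2268 fb2269 (Nat.ble (nat_lit 2269) i)) (@Bool.rec (fun _ => ℕ) fb2270 fb2271 (Nat.ble (nat_lit 2271) i)) (Nat.ble (nat_lit 2270) i)) (Nat.ble (nat_lit 2268) i)) (Nat.ble (nat_lit 2264) i)) (Nat.ble (nat_lit 2256) i))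

def factBlk_n0_71 (i : ℕ) : ℕ := (@Bool.rec (fun _ => ℕ) (@Bool.rec (fun _ => ℕ) (@Bool.rec (fun _ => ℕ) (@Bool.rec (fun _ => ℕ) (@Bool.rec (fun _ => ℕ) fb2272 fb2273 (Nat.ble (nat_lit 2273) i)) (@Bool.rec (fun _ => ℕ) fb2274 fb2275 (Nat.ble (nat_lit 2275) i)) (Nat.ble (nat_lit 2274) i)) (@Bool.rec (fun _ => ℕ) (@Bool.rec (fun _ => ℕ) fb2276 fb2277 (Nat.ble (nat_lit 2277) i)) (@Bool.rec (fun _ => ℕ) fb2278 fb2279 (Nat.ble (nat_lit 2279) i)) (Nat.ble (nat_lit 2278) i)) (Nat.ble (nat_lit 2276) i)) (@Bool.rec (fun _ => ℕ) (@Bool.rec (fun _ => ℕ) (@Bool.rec (fun _ => ℕ) fb2280 fb2281 (Nat.ble (nat_lit 2281) i)) (@Bool.rec (fun _ => ℕ) fb2282 fb2283 (Nat.ble (nat_lit 2283) i)) (Nat.ble (nat_lit 2282) i)) (@Bool.rec (fun _ => ℕ) (@Bool.rec (fun _ => ℕ) fb2284 fb2285 (Nat.ble (nat_lit 2285) i)) (@Bool.rec (fun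 _ => ℕ) fb2286 fb2287 (Nat.ble (nat_lit 2287) i)) (Nat.ble (nat_lit 2286) i)) (Nat.ble (nat_lit 2284) i)) (Nat.ble (nat_lit 2280) i)) (@Bool.rec (fun _ => ℕ) (@Bool.rec (fun _ => ℕ) (@Bool.rec (fun _ => ℕ) (@Bool.rec (fun _ => ℕ) fb2288 fb2289 (Nat.ble (nat_lit 2289) i)) (@Bool.rec (fun _ => ℕ) fb2290 fb2291 (Nat.ble (nat_lit 2291) i)) (Nat.ble (nat_lit 2290) i)) (@Bool.rec (fun _ => ℕ) (@Bool.rec (fun _ => ℕ) fb2292 fb2293 (Nat.ble (nat_lit 2293) i)) (@Bool.rec (fun _ => ℕ) fb2294 fb2295 (Nat.ble (nat_lit 2295) i)) (Nat.ble (nat_lit 2294) i)) (Nat.ble (nat_lit 2292) i)) (@Bool.rec (fun _ => ℕ) (@Bool.rec (fun _ => ℕ) (@Bool.rec (fun _ => ℕ) fb2296 fb2297 (Nat.ble (nat_lit 2297) i)) (@Bool.rec (fun _ => ℕ) fb2298 fb2299 (Nat.ble (nat_lit 2299) i)) (Nat.ble (nat_lit 2298) i)) (@Bool.rec (fun _ => ℕ) (@Bool.rec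 (fun _ => ℕ) fb2300 fb2301 (Nat.ble (nat_lit 2301) i)) (@Bool.rec (fun _ => ℕ) fb2302 fb2303 (Nat.ble (nat_lit 2303) i)) (Nat.ble (nat_lit 2302) i)) (Nat.ble (nat_lit 2300) i)) (Nat.ble (nat_lit 2296) i)) (Nat.ble (nat_lit 2288) i))

def factBlk_n0_72 (i : ℕ) : ℕ := (@Bool.rec (fun _ => ℕ) (@Bool.rec (fun _ => ℕ) (@Bool.rec (fun _ => ℕ) (@Bool.rec (fun _ => ℕ) (@Bool.rec (fun _ => ℕ) fb2304 fb2305 (Nat.ble (nat_lit 2305) i)) (@Bool.rec (fun _ => ℕ) fb2306 fb2307 (Nat.ble (nat_lit 2307) i)) (Nat.ble (nat_lit 2306) i)) (@Bool.rec (fun _ => ℕ) (@Bool.rec (fun _ => ℕ) fb2308 fb2309 (Nat.ble (nat_lit 2309) i)) (@Bool.rec (fun _ => ℕ) fb2310 fb2311 (Nat.ble (nat_lit 2311) i)) (Nat.ble (nat_lit 2310) i)) (Nat.ble (nat_lit 2308) i)) (@Bool.rec (fun _ => ℕ) (@Bool.rec (fun _ => ℕ) (@Bool.rec (fun _ => ℕ) fb2312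 fb2313 (Nat.ble (nat_lit 2313) i)) (@Bool.rec (fun _ => ℕ) fb2314 fb2315 (Nat.ble (nat_lit 2315) i)) (Nat.ble (nat_lit 2314) i)) (@Bool.rec (fun _ => ℕ) (@Bool.rec (fun _ => ℕ) fb2316 fb2317 (Nat.ble (nat_lit 2317) i)) (@Bool.rec (fun _ => ℕ) fb2318 fb2319 (Nat.ble (nat_lit 2319) i)) (Nat.ble (nat_lit 2318) i)) (Nat.ble (nat_lit 2316) i)) (Nat.ble (nat_lit 2312) i)) (@Bool.rec (fun _ => ℕ) (@Bool.rec (fun _ => ℕ) (@Bool.rec (fun _ => ℕ) (@Bool.rec (fun _ => ℕ) fb2320 fb2321 (Nat.ble (nat_lit 2321) i)) (@Bool.rec (fun _ => ℕ) fb2322 fb2323 (Nat.ble (nat_lit 2323) i)) (Nat.ble (nat_lit 2322) i)) (@Bool.rec (fun _ => ℕ) (@Bool.rec (fun _ => ℕ) fb2324 fb2325 (Nat.ble (nat_lit 2325) i)) (@Bool.rec (fun _ => ℕ) fb2326 fb2327 (Nat.ble (nat_lit 2327) i)) (Nat.ble (nat_lit 2326) i)) (Nat.ble (nat_lit 2324) i))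 (@Bool.rec (fun _ => ℕ) (@Bool.rec (fun _ => ℕ) (@Bool.rec (fun _ => ℕ) fb2328 fb2329 (Nat.ble (nat_lit 2329) i)) (@Bool.rec (fun _ => ℕ) fb2330 fb2331 (Nat.ble (nat_lit 2331) i)) (Nat.ble (nat_lit 2330) i)) (@Bool.rec (fun _ => ℕ) (@Bool.rec (fun _ => ℕ) fb2332 fb2333 (Nat.ble (nat_lit 2333) i)) (@Bool.rec (fun _ => ℕ) fb2334 fb2335 (Nat.ble (nat_lit 2335) i)) (Nat.ble (nat_lit 2334) i)) (Nat.ble (nat_lit 2332) i)) (Nat.ble (nat_lit 2328) i)) (Nat.ble (nat_lit 2320) i))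

def factBlk_n0_73 (i : ℕ) : ℕ := (@Bool.rec (fun _ => ℕ) (@Bool.rec (fun _ => ℕ) (@Bool.rec (fun _ => ℕ) (@Bool.rec (fun _ => ℕ) (@Bool.rec (fun _ => ℕ) fb2336 fb2337 (Nat.ble (nat_lit 2337) i)) (@Bool.rec (fun _ => ℕ) fb2338 fb2339 (Nat.ble (nat_lit 2339) i)) (Nat.ble (nat_lit 2338) i)) (@Bool.rec (fun _ => ℕ) (@Bool.rec (fun _ => ℕ) fb2340 fb2341 (Nat.ble (nat_lit 2341) i)) (@Bool.rec (fun _ => ℕ) fb2342 fb2343 (Nat.ble (nat_lit 2343) i)) (Nat.ble (nat_lit 2342) i)) (Nat.ble (nat_lit 2340) i)) (@Bool.rec (fun _ => ℕ) (@Bool.rec (fun _ => ℕ) (@Bool.rec (fun _ => ℕ) fb2344 fb2345 (Nat.ble (nat_lit 2345) i)) (@Bool.rec (fun _ => ℕ) fb2346 fb2347 (Nat.ble (nat_lit 2347) i)) (Nat.ble (nat_lit 2346) i)) (@Bool.rec (fun _ => ℕ) (@Bool.rec (fun _ => ℕ) fb2348 fb2349 (Nat.ble (nat_lit 2349) i)) (@Bool.rec (fun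 _ => ℕ) fb2350 fb2351 (Nat.ble (nat_lit 2351) i)) (Nat.ble (nat_lit 2350) i)) (Nat.ble (nat_lit 2348) i)) (Nat.ble (nat_lit 2344) i)) (@Bool.rec (fun _ => ℕ) (@Bool.rec (fun _ => ℕ) (@Bool.rec (fun _ => ℕ) (@Bool.rec (fun _ => ℕ) fb2352 fb2353 (Nat.ble (nat_lit 2353) i)) (@Bool.rec (fun _ => ℕ) fb2354 fb2355 (Nat.ble (nat_lit 2355) i)) (Nat.ble (nat_lit 2354) i)) (@Bool.rec (fun _ => ℕ) (@Bool.rec (fun _ => ℕ) fb2356 fb2357 (Nat.ble (nat_lit 2357) i)) (@Bool.rec (fun _ => ℕ) fb2358 fb2359 (Nat.ble (nat_lit 2359) i)) (Nat.ble (nat_lit 2358) i)) (Nat.ble (nat_lit 2356) i)) (@Bool.rec (fun _ => ℕ) (@Bool.rec (fun _ => ℕ) (@Bool.rec (fun _ => ℕ) fb2360 fb2361 (Nat.ble (nat_lit 2361) i)) (@Bool.rec (fun _ => ℕ) fb2362 fb2363 (Nat.ble (nat_lit 2363) i)) (Nat.ble (nat_lit 2362) i)) (@Bool.rec (fun _ => ℕ) (@Bool.rec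 (fun _ => ℕ) fb2364 fb2365 (Nat.ble (nat_lit 2365) i)) (@Bool.rec (fun _ => ℕ) fb2366 fb2367 (Nat.ble (nat_lit 2367) i)) (Nat.ble (nat_lit 2366) i)) (Nat.ble (nat_lit 2364) i)) (Nat.ble (nat_lit 2360) i)) (Nat.ble (nat_lit 2352) i))

def factBlk_n0_74 (i : ℕ) : ℕ := (@Bool.rec (fun _ => ℕ) (@Bool.rec (fun _ => ℕ) (@Bool.rec (fun _ => ℕ) (@Bool.rec (fun _ => ℕ) (@Bool.rec (fun _ => ℕ) fb2368 fb2369 (Nat.ble (nat_lit 2369) i)) (@Bool.rec (fun _ => ℕ) fb2370 fb2371 (Nat.ble (nat_lit 2371) i)) (Nat.ble (nat_lit 2370) i)) (@Bool.rec (fun _ => ℕ) (@Bool.rec (fun _ => ℕ) fb2372 fb2373 (Nat.ble (nat_lit 2373) i)) (@Bool.rec (fun _ => ℕ) fb2374 fb2375 (Nat.ble (nat_lit 2375) i)) (Nat.ble (nat_lit 2374) i)) (Nat.ble (nat_lit 2372) i)) (@Bool.rec (fun _ => ℕ) (@Bool.rec (fun _ => ℕ) (@Bool.rec (fun _ => ℕ) fb2376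 fb2377 (Nat.ble (nat_lit 2377) i)) (@Bool.rec (fun _ => ℕ) fb2378 fb2379 (Nat.ble (nat_lit 2379) i)) (Nat.ble (nat_lit 2378) i)) (@Bool.rec (fun _ => ℕ) (@Bool.rec (fun _ => ℕ) fb2380 fb2381 (Nat.ble (nat_lit 2381) i)) (@Bool.rec (fun _ => ℕ) fb2382 fb2383 (Nat.ble (nat_lit 2383) i)) (Nat.ble (nat_lit 2382) i)) (Nat.ble (nat_lit 2380) i)) (Nat.ble (nat_lit 2376) i)) (@Bool.rec (fun _ => ℕ) (@Bool.rec (fun _ => ℕ) (@Bool.rec (fun _ => ℕ) (@Bool.rec (fun _ => ℕ) fb2384 fb2385 (Nat.ble (nat_lit 2385) i)) (@Bool.rec (fun _ => ℕ) fb2386 fb2387 (Nat.ble (nat_lit 2387) i)) (Nat.ble (nat_lit 2386) i)) (@Bool.rec (fun _ => ℕ) (@Bool.rec (fun _ => ℕ) fb2388 fb2389 (Nat.ble (nat_lit 2389) i)) (@Bool.rec (fun _ => ℕ) fb2390 fb2391 (Nat.ble (nat_lit 2391) i)) (Nat.ble (nat_lit 2390) i)) (Nat.ble (nat_lit 2388) i))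 (@Bool.rec (fun _ => ℕ) (@Bool.rec (fun _ => ℕ) (@Bool.rec (fun _ => ℕ) fb2392 fb2393 (Nat.ble (nat_lit 2393) i)) (@Bool.rec (fun _ => ℕ) fb2394 fb2395 (Nat.ble (nat_lit 2395) i)) (Nat.ble (nat_lit 2394) i)) (@Bool.rec (fun _ => ℕ) (@Bool.rec (fun _ => ℕ) fb2396 fb2397 (Nat.ble (nat_lit 2397) i)) (@Bool.rec (fun _ => ℕ) fb2398 fb2399 (Nat.ble (nat_lit 2399) i)) (Nat.ble (nat_lit 2398) i)) (Nat.ble (nat_lit 2396) i)) (Nat.ble (nat_lit 2392) i)) (Nat.ble (nat_lit 2384) i))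

def factBlk_n0_75 (i : ℕ) : ℕ := (@Bool.rec (fun _ => ℕ) (@Bool.rec (fun _ => ℕ) (@Bool.rec (fun _ => ℕ) (@Bool.rec (fun _ => ℕ) (@Bool.rec (fun _ => ℕ) fb2400 fb2401 (Nat.ble (nat_lit 2401) i)) (@Bool.rec (fun _ => ℕ) fb2402 fb2403 (Nat.ble (nat_lit 2403) i)) (Nat.ble (nat_lit 2402) i)) (@Bool.rec (fun _ => ℕ) (@Bool.rec (fun _ => ℕ) fb2404 fb2405 (Nat.ble (nat_lit 2405) i)) (@Bool.rec (fun _ => ℕ) fb2406 fb2407 (Nat.ble (nat_lit 2407) i)) (Nat.ble (nat_lit 2406) i)) (Nat.ble (nat_lit 2404) i)) (@Bool.rec (fun _ => ℕ) (@Bool.rec (fun _ => ℕ) (@Bool.rec (fun _ => ℕ) fb2408 fb2409 (Nat.ble (nat_lit 2409) i)) (@Bool.rec (fun _ => ℕ) fb2410 fb2411 (Nat.ble (nat_lit 2411) i)) (Nat.ble (nat_lit 2410) i)) (@Bool.rec (fun _ => ℕ) (@Bool.rec (fun _ => ℕ) fb2412 fb2413 (Nat.ble (nat_lit 2413) i)) (@Bool.rec (fun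 _ => ℕ) fb2414 fb2415 (Nat.ble (nat_lit 2415) i)) (Nat.ble (nat_lit 2414) i)) (Nat.ble (nat_lit 2412) i)) (Nat.ble (nat_lit 2408) i)) (@Bool.rec (fun _ => ℕ) (@Bool.rec (fun _ => ℕ) (@Bool.rec (fun _ => ℕ) (@Bool.rec (fun _ => ℕ) fb2416 fb2417 (Nat.ble (nat_lit 2417) i)) (@Bool.rec (fun _ => ℕ) fb2418 fb2419 (Nat.ble (nat_lit 2419) i)) (Nat.ble (nat_lit 2418) i)) (@Bool.rec (fun _ => ℕ) (@Bool.rec (fun _ => ℕ) fb2420 fb2421 (Nat.ble (nat_lit 2421) i)) (@Bool.rec (fun _ => ℕ) fb2422 fb2423 (Nat.ble (nat_lit 2423) i)) (Nat.ble (nat_lit 2422) i)) (Nat.ble (nat_lit 2420) i)) (@Bool.rec (fun _ => ℕ) (@Bool.rec (fun _ => ℕ) (@Bool.rec (fun _ => ℕ) fb2424 fb2425 (Nat.ble (nat_lit 2425) i)) (@Bool.rec (fun _ => ℕ) fb2426 fb2427 (Nat.ble (nat_lit 2427) i)) (Nat.ble (nat_lit 2426) i)) (@Bool.rec (fun _ => ℕ) (@Bool.rec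 (fun _ => ℕ) fb2428 fb2429 (Nat.ble (nat_lit 2429) i)) (@Bool.rec (fun _ => ℕ) fb2430 fb2431 (Nat.ble (nat_lit 2431) i)) (Nat.ble (nat_lit 2430) i)) (Nat.ble (nat_lit 2428) i)) (Nat.ble (nat_lit 2424) i)) (Nat.ble (nat_lit 2416) i))

def factBlk_n0_76 (i : ℕ) : ℕ := (@Bool.rec (fun _ => ℕ) (@Bool.rec (fun _ => ℕ) (@Bool.rec (fun _ => ℕ) (@Bool.rec (fun _ => ℕ) (@Bool.rec (fun _ => ℕ) fb2432 fb2433 (Nat.ble (nat_lit 2433) i)) (@Bool.rec (fun _ => ℕ) fb2434 fb2435 (Nat.ble (nat_lit 2435) i)) (Nat.ble (nat_lit 2434) i)) (@Bool.rec (fun _ => ℕ) (@Bool.rec (fun _ => ℕ) fb2436 fb2437 (Nat.ble (nat_lit 2437) i)) (@Bool.rec (fun _ => ℕ) fb2438 fb2439 (Nat.ble (nat_lit 2439) i)) (Nat.ble (nat_lit 2438) i)) (Nat.ble (nat_lit 2436) i)) (@Bool.rec (fun _ => ℕ) (@Bool.rec (fun _ => ℕ) (@Bool.rec (fun _ => ℕ) fb2440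 fb2441 (Nat.ble (nat_lit 2441) i)) (@Bool.rec (fun _ => ℕ) fb2442 fb2443 (Nat.ble (nat_lit 2443) i)) (Nat.ble (nat_lit 2442) i)) (@Bool.rec (fun _ => ℕ) (@Bool.rec (fun _ => ℕ) fb2444 fb2445 (Nat.ble (nat_lit 2445) i)) (@Bool.rec (fun _ => ℕ) fb2446 fb2447 (Nat.ble (nat_lit 2447) i)) (Nat.ble (nat_lit 2446) i)) (Nat.ble (nat_lit 2444) i)) (Nat.ble (nat_lit 2440) i)) (@Bool.rec (fun _ => ℕ) (@Bool.rec (fun _ => ℕ) (@Bool.rec (fun _ => ℕ) (@Bool.rec (fun _ => ℕ) fb2448 fb2449 (Nat.ble (nat_lit 2449) i)) (@Bool.rec (fun _ => ℕ) fb2450 fb2451 (Nat.ble (nat_lit 2451) i)) (Nat.ble (nat_lit 2450) i)) (@Bool.rec (fun _ => ℕ) (@Bool.rec (fun _ => ℕ) fb2452 fb2453 (Nat.ble (nat_lit 2453) i)) (@Bool.rec (fun _ => ℕ) fb2454 fb2455 (Nat.ble (nat_lit 2455) i)) (Nat.ble (nat_lit 2454) i)) (Nat.ble (nat_lit 2452) i))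 (@Bool.rec (fun _ => ℕ) (@Bool.rec (fun _ => ℕ) (@Bool.rec (fun _ => ℕ) fb2456 fb2457 (Nat.ble (nat_lit 2457) i)) (@Bool.rec (fun _ => ℕ) fb2458 fb2459 (Nat.ble (nat_lit 2459) i)) (Nat.ble (nat_lit 2458) i)) (@Bool.rec (fun _ => ℕ) (@Bool.rec (fun _ => ℕ) fb2460 fb2461 (Nat.ble (nat_lit 2461) i)) (@Bool.rec (fun _ => ℕ) fb2462 fb2463 (Nat.ble (nat_lit 2463) i)) (Nat.ble (nat_lit 2462) i)) (Nat.ble (nat_lit 2460) i)) (Nat.ble (nat_lit 2456) i)) (Nat.ble (nat_lit 2448) i))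

def factBlk_n0_77 (i : ℕ) : ℕ := (@Bool.rec (fun _ => ℕ) (@Bool.rec (fun _ => ℕ) (@Bool.rec (fun _ => ℕ) (@Bool.rec (fun _ => ℕ) (@Bool.rec (fun _ => ℕ) fb2464 fb2465 (Nat.ble (nat_lit 2465) i)) (@Bool.rec (fun _ => ℕ) fb2466 fb2467 (Nat.ble (nat_lit 2467) i)) (Nat.ble (nat_lit 2466) i)) (@Bool.rec (fun _ => ℕ) (@Bool.rec (fun _ => ℕ) fb2468 fb2469 (Nat.ble (nat_lit 2469) i)) (@Bool.rec (fun _ => ℕ) fb2470 fb2471 (Nat.ble (nat_lit 2471) i)) (Nat.ble (nat_lit 2470) i)) (Nat.ble (nat_lit 2468) i)) (@Bool.rec (fun _ => ℕ) (@Bool.rec (fun _ => ℕ) (@Bool.rec (fun _ => ℕ) fb2472 fb2473 (Nat.ble (nat_lit 2473) i)) (@Bool.rec (fun _ => ℕ) fb2474 fb2475 (Nat.ble (nat_lit 2475) i)) (Nat.ble (nat_lit 2474) i)) (@Bool.rec (fun _ => ℕ) (@Bool.rec (fun _ => ℕ) fb2476 fb2477 (Nat.ble (nat_lit 2477) i)) (@Bool.rec (fun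 _ => ℕ) fb2478 fb2479 (Nat.ble (nat_lit 2479) i)) (Nat.ble (nat_lit 2478) i)) (Nat.ble (nat_lit 2476) i)) (Nat.ble (nat_lit 2472) i)) (@Bool.rec (fun _ => ℕ) (@Bool.rec (fun _ => ℕ) (@Bool.rec (fun _ => ℕ) (@Bool.rec (fun _ => ℕ) fb2480 fb2481 (Nat.ble (nat_lit 2481) i)) (@Bool.rec (fun _ => ℕ) fb2482 fb2483 (Nat.ble (nat_lit 2483) i)) (Nat.ble (nat_lit 2482) i)) (@Bool.rec (fun _ => ℕ) (@Bool.rec (fun _ => ℕ) fb2484 fb2485 (Nat.ble (nat_lit 2485) i)) (@Bool.rec (fun _ => ℕ) fb2486 fb2487 (Nat.ble (nat_lit 2487) i)) (Nat.ble (nat_lit 2486) i)) (Nat.ble (nat_lit 2484) i)) (@Bool.rec (fun _ => ℕ) (@Bool.rec (fun _ => ℕ) (@Bool.rec (fun _ => ℕ) fb2488 fb2489 (Nat.ble (nat_lit 2489) i)) (@Bool.rec (fun _ => ℕ) fb2490 fb2491 (Nat.ble (nat_lit 2491) i)) (Nat.ble (nat_lit 2490) i)) (@Bool.rec (fun _ => ℕ) (@Bool.rec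 (fun _ => ℕ) fb2492 fb2493 (Nat.ble (nat_lit 2493) i)) (@Bool.rec (fun _ => ℕ) fb2494 fb2495 (Nat.ble (nat_lit 2495) i)) (Nat.ble (nat_lit 2494) i)) (Nat.ble (nat_lit 2492) i)) (Nat.ble (nat_lit 2488) i)) (Nat.ble (nat_lit 2480) i))

def factBlk_n0_78 (i : ℕ) : ℕ := (@Bool.rec (fun _ => ℕ) (@Bool.rec (fun _ => ℕ) (@Bool.rec (fun _ => ℕ) (@Bool.rec (fun _ => ℕ) (@Bool.rec (fun _ => ℕ) fb2496 fb2497 (Nat.ble (nat_lit 2497) i)) (@Bool.rec (fun _ => ℕ) fb2498 fb2499 (Nat.ble (nat_lit 2499) i)) (Nat.ble (nat_lit 2498) i)) (@Bool.rec (fun _ => ℕ) (@Bool.rec (fun _ => ℕ) fb2500 fb2501 (Nat.ble (nat_lit 2501) i)) (@Bool.rec (fun _ => ℕ) fb2502 fb2503 (Nat.ble (nat_lit 2503) i)) (Nat.ble (nat_lit 2502) i)) (Nat.ble (nat_lit 2500) i)) (@Bool.rec (fun _ => ℕ) (@Bool.rec (fun _ => ℕ) (@Bool.rec (fun _ => ℕ) fb2504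 fb2505 (Nat.ble (nat_lit 2505) i)) (@Bool.rec (fun _ => ℕ) fb2506 fb2507 (Nat.ble (nat_lit 2507) i)) (Nat.ble (nat_lit 2506) i)) (@Bool.rec (fun _ => ℕ) (@Bool.rec (fun _ => ℕ) fb2508 fb2509 (Nat.ble (nat_lit 2509) i)) (@Bool.rec (fun _ => ℕ) fb2510 fb2511 (Nat.ble (nat_lit 2511) i)) (Nat.ble (nat_lit 2510) i)) (Nat.ble (nat_lit 2508) i)) (Nat.ble (nat_lit 2504) i)) (@Bool.rec (fun _ => ℕ) (@Bool.rec (fun _ => ℕ) (@Bool.rec (fun _ => ℕ) (@Bool.rec (fun _ => ℕ) fb2512 fb2513 (Nat.ble (nat_lit 2513) i)) (@Bool.rec (fun _ => ℕ) fb2514 fb2515 (Nat.ble (nat_lit 2515) i)) (Nat.ble (nat_lit 2514) i)) (@Bool.rec (fun _ => ℕ) (@Bool.rec (fun _ => ℕ) fb2516 fb2517 (Nat.ble (nat_lit 2517) i)) (@Bool.rec (fun _ => ℕ) fb2518 fb2519 (Nat.ble (nat_lit 2519) i)) (Nat.ble (nat_lit 2518) i)) (Nat.ble (nat_lit 2516) i))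 (@Bool.rec (fun _ => ℕ) (@Bool.rec (fun _ => ℕ) (@Bool.rec (fun _ => ℕ) fb2520 fb2521 (Nat.ble (nat_lit 2521) i)) (@Bool.rec (fun _ => ℕ) fb2522 fb2523 (Nat.ble (nat_lit 2523) i)) (Nat.ble (nat_lit 2522) i)) (@Bool.rec (fun _ => ℕ) (@Bool.rec (fun _ => ℕ) fb2524 fb2525 (Nat.ble (nat_lit 2525) i)) (@Bool.rec (fun _ => ℕ) fb2526 fb2527 (Nat.ble (nat_lit 2527) i)) (Nat.ble (nat_lit 2526) i)) (Nat.ble (nat_lit 2524) i)) (Nat.ble (nat_lit 2520) i)) (Nat.ble (nat_lit 2512) i))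

def factBlk_n0_79 (i : ℕ) : ℕ := (@Bool.rec (fun _ => ℕ) (@Bool.rec (fun _ => ℕ) (@Bool.rec (fun _ => ℕ) (@Bool.rec (fun _ => ℕ) (@Bool.rec (fun _ => ℕ) fb2528 fb2529 (Nat.ble (nat_lit 2529) i)) (@Bool.rec (fun _ => ℕ) fb2530 fb2531 (Nat.ble (nat_lit 2531) i)) (Nat.ble (nat_lit 2530) i)) (@Bool.rec (fun _ => ℕ) (@Bool.rec (fun _ => ℕ) fb2532 fb2533 (Nat.ble (nat_lit 2533) i)) (@Bool.rec (fun _ => ℕ) fb2534 fb2535 (Nat.ble (nat_lit 2535) i)) (Nat.ble (nat_lit 2534) i)) (Nat.ble (nat_lit 2532) i)) (@Bool.rec (fun _ => ℕ) (@Bool.rec (fun _ => ℕ) (@Bool.rec (fun _ => ℕ) fb2536 fb2537 (Nat.ble (nat_lit 2537) i)) (@Bool.rec (fun _ => ℕ) fb2538 fb2539 (Nat.ble (nat_lit 2539) i)) (Nat.ble (nat_lit 2538) i)) (@Bool.rec (fun _ => ℕ) (@Bool.rec (fun _ => ℕ) fb2540 fb2541 (Nat.ble (nat_lit 2541) i)) (@Bool.rec (fun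 _ => ℕ) fb2542 fb2543 (Nat.ble (nat_lit 2543) i)) (Nat.ble (nat_lit 2542) i)) (Nat.ble (nat_lit 2540) i)) (Nat.ble (nat_lit 2536) i)) (@Bool.rec (fun _ => ℕ) (@Bool.rec (fun _ => ℕ) (@Bool.rec (fun _ => ℕ) (@Bool.rec (fun _ => ℕ) fb2544 fb2545 (Nat.ble (nat_lit 2545) i)) (@Bool.rec (fun _ => ℕ) fb2546 fb2547 (Nat.ble (nat_lit 2547) i)) (Nat.ble (nat_lit 2546) i)) (@Bool.rec (fun _ => ℕ) (@Bool.rec (fun _ => ℕ) fb2548 fb2549 (Nat.ble (nat_lit 2549) i)) (@Bool.rec (fun _ => ℕ) fb2550 fb2551 (Nat.ble (nat_lit 2551) i)) (Nat.ble (nat_lit 2550) i)) (Nat.ble (nat_lit 2548) i)) (@Bool.rec (fun _ => ℕ) (@Bool.rec (fun _ => ℕ) (@Bool.rec (fun _ => ℕ) fb2552 fb2553 (Nat.ble (nat_lit 2553) i)) (@Bool.rec (fun _ => ℕ) fb2554 fb2555 (Nat.ble (nat_lit 2555) i)) (Nat.ble (nat_lit 2554) i)) (@Bool.rec (fun _ => ℕ) (@Bool.rec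 (fun _ => ℕ) fb2556 fb2557 (Nat.ble (nat_lit 2557) i)) (@Bool.rec (fun _ => ℕ) fb2558 fb2559 (Nat.ble (nat_lit 2559) i)) (Nat.ble (nat_lit 2558) i)) (Nat.ble (nat_lit 2556) i)) (Nat.ble (nat_lit 2552) i)) (Nat.ble (nat_lit 2544) i))

def factBlk_n0_80 (i : ℕ) : ℕ := (@Bool.rec (fun _ => ℕ) (@Bool.rec (fun _ => ℕ) (@Bool.rec (fun _ => ℕ) (@Bool.rec (fun _ => ℕ) (@Bool.rec (fun _ => ℕ) fb2560 fb2561 (Nat.ble (nat_lit 2561) i)) (@Bool.rec (fun _ => ℕ) fb2562 fb2563 (Nat.ble (nat_lit 2563) i)) (Nat.ble (nat_lit 2562) i)) (@Bool.rec (fun _ => ℕ) (@Bool.rec (fun _ => ℕ) fb2564 fb2565 (Nat.ble (nat_lit 2565) i)) (@Bool.rec (fun _ => ℕ) fb2566 fb2567 (Nat.ble (nat_lit 2567) i)) (Nat.ble (nat_lit 2566) i)) (Nat.ble (nat_lit 2564) i)) (@Bool.rec (fun _ => ℕ) (@Bool.rec (fun _ => ℕ) (@Bool.rec (fun _ => ℕ) fb2568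 fb2569 (Nat.ble (nat_lit 2569) i)) (@Bool.rec (fun _ => ℕ) fb2570 fb2571 (Nat.ble (nat_lit 2571) i)) (Nat.ble (nat_lit 2570) i)) (@Bool.rec (fun _ => ℕ) (@Bool.rec (fun _ => ℕ) fb2572 fb2573 (Nat.ble (nat_lit 2573) i)) (@Bool.rec (fun _ => ℕ) fb2574 fb2575 (Nat.ble (nat_lit 2575) i)) (Nat.ble (nat_lit 2574) i)) (Nat.ble (nat_lit 2572) i)) (Nat.ble (nat_lit 2568) i)) (@Bool.rec (fun _ => ℕ) (@Bool.rec (fun _ => ℕ) (@Bool.rec (fun _ => ℕ) (@Bool.rec (fun _ => ℕ) fb2576 fb2577 (Nat.ble (nat_lit 2577) i)) (@Bool.rec (fun _ => ℕ) fb2578 fb2579 (Nat.ble (nat_lit 2579) i)) (Nat.ble (nat_lit 2578) i)) (@Bool.rec (fun _ => ℕ) (@Bool.rec (fun _ => ℕ) fb2580 fb2581 (Nat.ble (nat_lit 2581) i)) (@Bool.rec (fun _ => ℕ) fb2582 fb2583 (Nat.ble (nat_lit 2583) i)) (Nat.ble (nat_lit 2582) i)) (Nat.ble (nat_lit 2580) i))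 (@Bool.rec (fun _ => ℕ) (@Bool.rec (fun _ => ℕ) (@Bool.rec (fun _ => ℕ) fb2584 fb2585 (Nat.ble (nat_lit 2585) i)) (@Bool.rec (fun _ => ℕ) fb2586 fb2587 (Nat.ble (nat_lit 2587) i)) (Nat.ble (nat_lit 2586) i)) (@Bool.rec (fun _ => ℕ) (@Bool.rec (fun _ => ℕ) fb2588 fb2589 (Nat.ble (nat_lit 2589) i)) (@Bool.rec (fun _ => ℕ) fb2590 fb2591 (Nat.ble (nat_lit 2591) i)) (Nat.ble (nat_lit 2590) i)) (Nat.ble (nat_lit 2588) i)) (Nat.ble (nat_lit 2584) i)) (Nat.ble (nat_lit 2576) i))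

def factBlk_n0_81 (i : ℕ) : ℕ := (@Bool.rec (fun _ => ℕ) (@Bool.rec (fun _ => ℕ) (@Bool.rec (fun _ => ℕ) (@Bool.rec (fun _ => ℕ) (@Bool.rec (fun _ => ℕ) fb2592 fb2593 (Nat.ble (nat_lit 2593) i)) (@Bool.rec (fun _ => ℕ) fb2594 fb2595 (Nat.ble (nat_lit 2595) i)) (Nat.ble (nat_lit 2594) i)) (@Bool.rec (fun _ => ℕ) (@Bool.rec (fun _ => ℕ) fb2596 fb2597 (Nat.ble (nat_lit 2597) i)) (@Bool.rec (fun _ => ℕ) fb2598 fb2599 (Nat.ble (nat_lit 2599) i)) (Nat.ble (nat_lit 2598) i)) (Nat.ble (nat_lit 2596) i)) (@Bool.rec (fun _ => ℕ) (@Bool.rec (fun _ => ℕ) (@Bool.rec (fun _ => ℕ) fb2600 fb2601 (Nat.ble (nat_lit 2601) i)) (@Bool.rec (fun _ => ℕ) fb2602 fb2603 (Nat.ble (nat_lit 2603) i)) (Nat.ble (nat_lit 2602) i)) (@Bool.rec (fun _ => ℕ) (@Bool.rec (fun _ => ℕ) fb2604 fb2605 (Nat.ble (nat_lit 2605) i)) (@Bool.rec (fun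 _ => ℕ) fb2606 fb2607 (Nat.ble (nat_lit 2607) i)) (Nat.ble (nat_lit 2606) i)) (Nat.ble (nat_lit 2604) i)) (Nat.ble (nat_lit 2600) i)) (@Bool.rec (fun _ => ℕ) (@Bool.rec (fun _ => ℕ) (@Bool.rec (fun _ => ℕ) (@Bool.rec (fun _ => ℕ) fb2608 fb2609 (Nat.ble (nat_lit 2609) i)) (@Bool.rec (fun _ => ℕ) fb2610 fb2611 (Nat.ble (nat_lit 2611) i)) (Nat.ble (nat_lit 2610) i)) (@Bool.rec (fun _ => ℕ) (@Bool.rec (fun _ => ℕ) fb2612 fb2613 (Nat.ble (nat_lit 2613) i)) (@Bool.rec (fun _ => ℕ) fb2614 fb2615 (Nat.ble (nat_lit 2615) i)) (Nat.ble (nat_lit 2614) i)) (Nat.ble (nat_lit 2612) i)) (@Bool.rec (fun _ => ℕ) (@Bool.rec (fun _ => ℕ) (@Bool.rec (fun _ => ℕ) fb2616 fb2617 (Nat.ble (nat_lit 2617) i)) (@Bool.rec (fun _ => ℕ) fb2618 fb2619 (Nat.ble (nat_lit 2619) i)) (Nat.ble (nat_lit 2618) i)) (@Bool.rec (fun _ => ℕ) (@Bool.rec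 (fun _ => ℕ) fb2620 fb2621 (Nat.ble (nat_lit 2621) i)) (@Bool.rec (fun _ => ℕ) fb2622 fb2623 (Nat.ble (nat_lit 2623) i)) (Nat.ble (nat_lit 2622) i)) (Nat.ble (nat_lit 2620) i)) (Nat.ble (nat_lit 2616) i)) (Nat.ble (nat_lit 2608) i))

def factBlk_n0_82 (i : ℕ) : ℕ := (@Bool.rec (fun _ => ℕ) (@Bool.rec (fun _ => ℕ) (@Bool.rec (fun _ => ℕ) (@Bool.rec (fun _ => ℕ) (@Bool.rec (fun _ => ℕ) fb2624 fb2625 (Nat.ble (nat_lit 2625) i)) (@Bool.rec (fun _ => ℕ) fb2626 fb2627 (Nat.ble (nat_lit 2627) i)) (Nat.ble (nat_lit 2626) i)) (@Bool.rec (fun _ => ℕ) (@Bool.rec (fun _ => ℕ) fb2628 fb2629 (Nat.ble (nat_lit 2629) i)) (@Bool.rec (fun _ => ℕ) fb2630 fb2631 (Nat.ble (nat_lit 2631) i)) (Nat.ble (nat_lit 2630) i)) (Nat.ble (nat_lit 2628) i)) (@Bool.rec (fun _ => ℕ) (@Bool.rec (fun _ => ℕ) (@Bool.rec (fun _ => ℕ) fb2632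 fb2633 (Nat.ble (nat_lit 2633) i)) (@Bool.rec (fun _ => ℕ) fb2634 fb2635 (Nat.ble (nat_lit 2635) i)) (Nat.ble (nat_lit 2634) i)) (@Bool.rec (fun _ => ℕ) (@Bool.rec (fun _ => ℕ) fb2636 fb2637 (Nat.ble (nat_lit 2637) i)) (@Bool.rec (fun _ => ℕ) fb2638 fb2639 (Nat.ble (nat_lit 2639) i)) (Nat.ble (nat_lit 2638) i)) (Nat.ble (nat_lit 2636) i)) (Nat.ble (nat_lit 2632) i)) (@Bool.rec (fun _ => ℕ) (@Bool.rec (fun _ => ℕ) (@Bool.rec (fun _ => ℕ) (@Bool.rec (fun _ => ℕ) fb2640 fb2641 (Nat.ble (nat_lit 2641) i)) (@Bool.rec (fun _ => ℕ) fb2642 fb2643 (Nat.ble (nat_lit 2643) i)) (Nat.ble (nat_lit 2642) i)) (@Bool.rec (fun _ => ℕ) (@Bool.rec (fun _ => ℕ) fb2644 fb2645 (Nat.ble (nat_lit 2645) i)) (@Bool.rec (fun _ => ℕ) fb2646 fb2647 (Nat.ble (nat_lit 2647) i)) (Nat.ble (nat_lit 2646) i)) (Nat.ble (nat_lit 2644) i))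 (@Bool.rec (fun _ => ℕ) (@Bool.rec (fun _ => ℕ) (@Bool.rec (fun _ => ℕ) fb2648 fb2649 (Nat.ble (nat_lit 2649) i)) (@Bool.rec (fun _ => ℕ) fb2650 fb2651 (Nat.ble (nat_lit 2651) i)) (Nat.ble (nat_lit 2650) i)) (@Bool.rec (fun _ => ℕ) (@Bool.rec (fun _ => ℕ) fb2652 fb2653 (Nat.ble (nat_lit 2653) i)) (@Bool.rec (fun _ => ℕ) fb2654 fb2655 (Nat.ble (nat_lit 2655) i)) (Nat.ble (nat_lit 2654) i)) (Nat.ble (nat_lit 2652) i)) (Nat.ble (nat_lit 2648) i)) (Nat.ble (nat_lit 2640) i))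

def factBlk_n0_83 (i : ℕ) : ℕ := (@Bool.rec (fun _ => ℕ) (@Bool.rec (fun _ => ℕ) (@Bool.rec (fun _ => ℕ) (@Bool.rec (fun _ => ℕ) (@Bool.rec (fun _ => ℕ) fb2656 fb2657 (Nat.ble (nat_lit 2657) i)) (@Bool.rec (fun _ => ℕ) fb2658 fb2659 (Nat.ble (nat_lit 2659) i)) (Nat.ble (nat_lit 2658) i)) (@Bool.rec (fun _ => ℕ) (@Bool.rec (fun _ => ℕ) fb2660 fb2661 (Nat.ble (nat_lit 2661) i)) (@Bool.rec (fun _ => ℕ) fb2662 fb2663 (Nat.ble (nat_lit 2663) i)) (Nat.ble (nat_lit 2662) i)) (Nat.ble (nat_lit 2660) i)) (@Bool.rec (fun _ => ℕ) (@Bool.rec (fun _ => ℕ) (@Bool.rec (fun _ => ℕ) fb2664 fb2665 (Nat.ble (nat_lit 2665) i)) (@Bool.rec (fun _ => ℕ) fb2666 fb2667 (Nat.ble (nat_lit 2667) i)) (Nat.ble (nat_lit 2666) i)) (@Bool.rec (fun _ => ℕ) (@Bool.rec (fun _ => ℕ) fb2668 fb2669 (Nat.ble (nat_lit 2669) i)) (@Bool.rec (fun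 _ => ℕ) fb2670 fb2671 (Nat.ble (nat_lit 2671) i)) (Nat.ble (nat_lit 2670) i)) (Nat.ble (nat_lit 2668) i)) (Nat.ble (nat_lit 2664) i)) (@Bool.rec (fun _ => ℕ) (@Bool.rec (fun _ => ℕ) (@Bool.rec (fun _ => ℕ) (@Bool.rec (fun _ => ℕ) fb2672 fb2673 (Nat.ble (nat_lit 2673) i)) (@Bool.rec (fun _ => ℕ) fb2674 fb2675 (Nat.ble (nat_lit 2675) i)) (Nat.ble (nat_lit 2674) i)) (@Bool.rec (fun _ => ℕ) (@Bool.rec (fun _ => ℕ) fb2676 fb2677 (Nat.ble (nat_lit 2677) i)) (@Bool.rec (fun _ => ℕ) fb2678 fb2679 (Nat.ble (nat_lit 2679) i)) (Nat.ble (nat_lit 2678) i)) (Nat.ble (nat_lit 2676) i)) (@Bool.rec (fun _ => ℕ) (@Bool.rec (fun _ => ℕ) (@Bool.rec (fun _ => ℕ) fb2680 fb2681 (Nat.ble (nat_lit 2681) i)) (@Bool.rec (fun _ => ℕ) fb2682 fb2683 (Nat.ble (nat_lit 2683) i)) (Nat.ble (nat_lit 2682) i)) (@Bool.rec (fun _ => ℕ) (@Bool.rec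 (fun _ => ℕ) fb2684 fb2685 (Nat.ble (nat_lit 2685) i)) (@Bool.rec (fun _ => ℕ) fb2686 fb2687 (Nat.ble (nat_lit 2687) i)) (Nat.ble (nat_lit 2686) i)) (Nat.ble (nat_lit 2684) i)) (Nat.ble (nat_lit 2680) i)) (Nat.ble (nat_lit 2672) i))

def factBlk_n0_84 (i : ℕ) : ℕ := (@Bool.rec (fun _ => ℕ) (@Bool.rec (fun _ => ℕ) (@Bool.rec (fun _ => ℕ) (@Bool.rec (fun _ => ℕ) (@Bool.rec (fun _ => ℕ) fb2688 fb2689 (Nat.ble (nat_lit 2689) i)) (@Bool.rec (fun _ => ℕ) fb2690 fb2691 (Nat.ble (nat_lit 2691) i)) (Nat.ble (nat_lit 2690) i)) (@Bool.rec (fun _ => ℕ) (@Bool.rec (fun _ => ℕ) fb2692 fb2693 (Nat.ble (nat_lit 2693) i)) (@Bool.rec (fun _ => ℕ) fb2694 fb2695 (Nat.ble (nat_lit 2695) i)) (Nat.ble (nat_lit 2694) i)) (Nat.ble (nat_lit 2692) i)) (@Bool.rec (fun _ => ℕ) (@Bool.rec (fun _ => ℕ) (@Bool.rec (fun _ => ℕ) fb2696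 fb2697 (Nat.ble (nat_lit 2697) i)) (@Bool.rec (fun _ => ℕ) fb2698 fb2699 (Nat.ble (nat_lit 2699) i)) (Nat.ble (nat_lit 2698) i)) (@Bool.rec (fun _ => ℕ) (@Bool.rec (fun _ => ℕ) fb2700 fb2701 (Nat.ble (nat_lit 2701) i)) (@Bool.rec (fun _ => ℕ) fb2702 fb2703 (Nat.ble (nat_lit 2703) i)) (Nat.ble (nat_lit 2702) i)) (Nat.ble (nat_lit 2700) i)) (Nat.ble (nat_lit 2696) i)) (@Bool.rec (fun _ => ℕ) (@Bool.rec (fun _ => ℕ) (@Bool.rec (fun _ => ℕ) (@Bool.rec (fun _ => ℕ) fb2704 fb2705 (Nat.ble (nat_lit 2705) i)) (@Bool.rec (fun _ => ℕ) fb2706 fb2707 (Nat.ble (nat_lit 2707) i)) (Nat.ble (nat_lit 2706) i)) (@Bool.rec (fun _ => ℕ) (@Bool.rec (fun _ => ℕ) fb2708 fb2709 (Nat.ble (nat_lit 2709) i)) (@Bool.rec (fun _ => ℕ) fb2710 fb2711 (Nat.ble (nat_lit 2711) i)) (Nat.ble (nat_lit 2710) i)) (Nat.ble (nat_lit 2708) i))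 (@Bool.rec (fun _ => ℕ) (@Bool.rec (fun _ => ℕ) (@Bool.rec (fun _ => ℕ) fb2712 fb2713 (Nat.ble (nat_lit 2713) i)) (@Bool.rec (fun _ => ℕ) fb2714 fb2715 (Nat.ble (nat_lit 2715) i)) (Nat.ble (nat_lit 2714) i)) (@Bool.rec (fun _ => ℕ) (@Bool.rec (fun _ => ℕ) fb2716 fb2717 (Nat.ble (nat_lit 2717) i)) (@Bool.rec (fun _ => ℕ) fb2718 fb2719 (Nat.ble (nat_lit 2719) i)) (Nat.ble (nat_lit 2718) i)) (Nat.ble (nat_lit 2716) i)) (Nat.ble (nat_lit 2712) i)) (Nat.ble (nat_lit 2704) i))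

def factBlk_n0_85 (i : ℕ) : ℕ := (@Bool.rec (fun _ => ℕ) (@Bool.rec (fun _ => ℕ) (@Bool.rec (fun _ => ℕ) (@Bool.rec (fun _ => ℕ) (@Bool.rec (fun _ => ℕ) fb2720 fb2721 (Nat.ble (nat_lit 2721) i)) (@Bool.rec (fun _ => ℕ) fb2722 fb2723 (Nat.ble (nat_lit 2723) i)) (Nat.ble (nat_lit 2722) i)) (@Bool.rec (fun _ => ℕ) (@Bool.rec (fun _ => ℕ) fb2724 fb2725 (Nat.ble (nat_lit 2725) i)) (@Bool.rec (fun _ => ℕ) fb2726 fb2727 (Nat.ble (nat_lit 2727) i)) (Nat.ble (nat_lit 2726) i)) (Nat.ble (nat_lit 2724) i)) (@Bool.rec (fun _ => ℕ) (@Bool.rec (fun _ => ℕ) (@Bool.rec (fun _ => ℕ) fb2728 fb2729 (Nat.ble (nat_lit 2729) i)) (@Bool.rec (fun _ => ℕ) fb2730 fb2731 (Nat.ble (nat_lit 2731) i)) (Nat.ble (nat_lit 2730) i)) (@Bool.rec (fun _ => ℕ) (@Bool.rec (fun _ => ℕ) fb2732 fb2733 (Nat.ble (nat_lit 2733) i)) (@Bool.rec (fun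 _ => ℕ) fb2734 fb2735 (Nat.ble (nat_lit 2735) i)) (Nat.ble (nat_lit 2734) i)) (Nat.ble (nat_lit 2732) i)) (Nat.ble (nat_lit 2728) i)) (@Bool.rec (fun _ => ℕ) (@Bool.rec (fun _ => ℕ) (@Bool.rec (fun _ => ℕ) (@Bool.rec (fun _ => ℕ) fb2736 fb2737 (Nat.ble (nat_lit 2737) i)) (@Bool.rec (fun _ => ℕ) fb2738 fb2739 (Nat.ble (nat_lit 2739) i)) (Nat.ble (nat_lit 2738) i)) (@Bool.rec (fun _ => ℕ) (@Bool.rec (fun _ => ℕ) fb2740 fb2741 (Nat.ble (nat_lit 2741) i)) (@Bool.rec (fun _ => ℕ) fb2742 fb2743 (Nat.ble (nat_lit 2743) i)) (Nat.ble (nat_lit 2742) i)) (Nat.ble (nat_lit 2740) i)) (@Bool.rec (fun _ => ℕ) (@Bool.rec (fun _ => ℕ) (@Bool.rec (fun _ => ℕ) fb2744 fb2745 (Nat.ble (nat_lit 2745) i)) (@Bool.rec (fun _ => ℕ) fb2746 fb2747 (Nat.ble (nat_lit 2747) i)) (Nat.ble (nat_lit 2746) i)) (@Bool.rec (fun _ => ℕ) (@Bool.rec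 (fun _ => ℕ) fb2748 fb2749 (Nat.ble (nat_lit 2749) i)) (@Bool.rec (fun _ => ℕ) fb2750 fb2751 (Nat.ble (nat_lit 2751) i)) (Nat.ble (nat_lit 2750) i)) (Nat.ble (nat_lit 2748) i)) (Nat.ble (nat_lit 2744) i)) (Nat.ble (nat_lit 2736) i))

def factBlk_n0_86 (i : ℕ) : ℕ := (@Bool.rec (fun _ => ℕ) (@Bool.rec (fun _ => ℕ) (@Bool.rec (fun _ => ℕ) (@Bool.rec (fun _ => ℕ) (@Bool.rec (fun _ => ℕ) fb2752 fb2753 (Nat.ble (nat_lit 2753) i)) (@Bool.rec (fun _ => ℕ) fb2754 fb2755 (Nat.ble (nat_lit 2755) i)) (Nat.ble (nat_lit 2754) i)) (@Bool.rec (fun _ => ℕ) (@Bool.rec (fun _ => ℕ) fb2756 fb2757 (Nat.ble (nat_lit 2757) i)) (@Bool.rec (fun _ => ℕ) fb2758 fb2759 (Nat.ble (nat_lit 2759) i)) (Nat.ble (nat_lit 2758) i)) (Nat.ble (nat_lit 2756) i)) (@Bool.rec (fun _ => ℕ) (@Bool.rec (fun _ => ℕ) (@Bool.rec (fun _ => ℕ) fb2760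 fb2761 (Nat.ble (nat_lit 2761) i)) (@Bool.rec (fun _ => ℕ) fb2762 fb2763 (Nat.ble (nat_lit 2763) i)) (Nat.ble (nat_lit 2762) i)) (@Bool.rec (fun _ => ℕ) (@Bool.rec (fun _ => ℕ) fb2764 fb2765 (Nat.ble (nat_lit 2765) i)) (@Bool.rec (fun _ => ℕ) fb2766 fb2767 (Nat.ble (nat_lit 2767) i)) (Nat.ble (nat_lit 2766) i)) (Nat.ble (nat_lit 2764) i)) (Nat.ble (nat_lit 2760) i)) (@Bool.rec (fun _ => ℕ) (@Bool.rec (fun _ => ℕ) (@Bool.rec (fun _ => ℕ) (@Bool.rec (fun _ => ℕ) fb2768 fb2769 (Nat.ble (nat_lit 2769) i)) (@Bool.rec (fun _ => ℕ) fb2770 fb2771 (Nat.ble (nat_lit 2771) i)) (Nat.ble (nat_lit 2770) i)) (@Bool.rec (fun _ => ℕ) (@Bool.rec (fun _ => ℕ) fb2772 fb2773 (Nat.ble (nat_lit 2773) i)) (@Bool.rec (fun _ => ℕ) fb2774 fb2775 (Nat.ble (nat_lit 2775) i)) (Nat.ble (nat_lit 2774) i)) (Nat.ble (nat_lit 2772) i))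 (@Bool.rec (fun _ => ℕ) (@Bool.rec (fun _ => ℕ) (@Bool.rec (fun _ => ℕ) fb2776 fb2777 (Nat.ble (nat_lit 2777) i)) (@Bool.rec (fun _ => ℕ) fb2778 fb2779 (Nat.ble (nat_lit 2779) i)) (Nat.ble (nat_lit 2778) i)) (@Bool.rec (fun _ => ℕ) (@Bool.rec (fun _ => ℕ) fb2780 fb2781 (Nat.ble (nat_lit 2781) i)) (@Bool.rec (fun _ => ℕ) fb2782 fb2783 (Nat.ble (nat_lit 2783) i)) (Nat.ble (nat_lit 2782) i)) (Nat.ble (nat_lit 2780) i)) (Nat.ble (nat_lit 2776) i)) (Nat.ble (nat_lit 2768) i))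

def factBlk_n0_87 (i : ℕ) : ℕ := (@Bool.rec (fun _ => ℕ) (@Bool.rec (fun _ => ℕ) (@Bool.rec (fun _ => ℕ) (@Bool.rec (fun _ => ℕ) (@Bool.rec (fun _ => ℕ) fb2784 fb2785 (Nat.ble (nat_lit 2785) i)) (@Bool.rec (fun _ => ℕ) fb2786 fb2787 (Nat.ble (nat_lit 2787) i)) (Nat.ble (nat_lit 2786) i)) (@Bool.rec (fun _ => ℕ) (@Bool.rec (fun _ => ℕ) fb2788 fb2789 (Nat.ble (nat_lit 2789) i)) (@Bool.rec (fun _ => ℕ) fb2790 fb2791 (Nat.ble (nat_lit 2791) i)) (Nat.ble (nat_lit 2790) i)) (Nat.ble (nat_lit 2788) i)) (@Bool.rec (fun _ => ℕ) (@Bool.rec (fun _ => ℕ) (@Bool.rec (fun _ => ℕ) fb2792 fb2793 (Nat.ble (nat_lit 2793) i)) (@Bool.rec (fun _ => ℕ) fb2794 fb2795 (Nat.ble (nat_lit 2795) i)) (Nat.ble (nat_lit 2794) i)) (@Bool.rec (fun _ => ℕ) (@Bool.rec (fun _ => ℕ) fb2796 fb2797 (Nat.ble (nat_lit 2797) i)) (@Bool.rec (fun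 _ => ℕ) fb2798 fb2799 (Nat.ble (nat_lit 2799) i)) (Nat.ble (nat_lit 2798) i)) (Nat.ble (nat_lit 2796) i)) (Nat.ble (nat_lit 2792) i)) (@Bool.rec (fun _ => ℕ) (@Bool.rec (fun _ => ℕ) (@Bool.rec (fun _ => ℕ) (@Bool.rec (fun _ => ℕ) fb2800 fb2801 (Nat.ble (nat_lit 2801) i)) (@Bool.rec (fun _ => ℕ) fb2802 fb2803 (Nat.ble (nat_lit 2803) i)) (Nat.ble (nat_lit 2802) i)) (@Bool.rec (fun _ => ℕ) (@Bool.rec (fun _ => ℕ) fb2804 fb2805 (Nat.ble (nat_lit 2805) i)) (@Bool.rec (fun _ => ℕ) fb2806 fb2807 (Nat.ble (nat_lit 2807) i)) (Nat.ble (nat_lit 2806) i)) (Nat.ble (nat_lit 2804) i)) (@Bool.rec (fun _ => ℕ) (@Bool.rec (fun _ => ℕ) (@Bool.rec (fun _ => ℕ) fb2808 fb2809 (Nat.ble (nat_lit 2809) i)) (@Bool.rec (fun _ => ℕ) fb2810 fb2811 (Nat.ble (nat_lit 2811) i)) (Nat.ble (nat_lit 2810) i)) (@Bool.rec (fun _ => ℕ) (@Bool.rec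 (fun _ => ℕ) fb2812 fb2813 (Nat.ble (nat_lit 2813) i)) (@Bool.rec (fun _ => ℕ) fb2814 fb2815 (Nat.ble (nat_lit 2815) i)) (Nat.ble (nat_lit 2814) i)) (Nat.ble (nat_lit 2812) i)) (Nat.ble (nat_lit 2808) i)) (Nat.ble (nat_lit 2800) i))

def factBlk_n0_88 (i : ℕ) : ℕ := (@Bool.rec (fun _ => ℕ) (@Bool.rec (fun _ => ℕ) (@Bool.rec (fun _ => ℕ) (@Bool.rec (fun _ => ℕ) (@Bool.rec (fun _ => ℕ) fb2816 fb2817 (Nat.ble (nat_lit 2817) i)) (@Bool.rec (fun _ => ℕ) fb2818 fb2819 (Nat.ble (nat_lit 2819) i)) (Nat.ble (nat_lit 2818) i)) (@Bool.rec (fun _ => ℕ) (@Bool.rec (fun _ => ℕ) fb2820 fb2821 (Nat.ble (nat_lit 2821) i)) (@Bool.rec (fun _ => ℕ) fb2822 fb2823 (Nat.ble (nat_lit 2823) i)) (Nat.ble (nat_lit 2822) i)) (Nat.ble (nat_lit 2820) i)) (@Bool.rec (fun _ => ℕ) (@Bool.rec (fun _ => ℕ) (@Bool.rec (fun _ => ℕ) fb2824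 fb2825 (Nat.ble (nat_lit 2825) i)) (@Bool.rec (fun _ => ℕ) fb2826 fb2827 (Nat.ble (nat_lit 2827) i)) (Nat.ble (nat_lit 2826) i)) (@Bool.rec (fun _ => ℕ) (@Bool.rec (fun _ => ℕ) fb2828 fb2829 (Nat.ble (nat_lit 2829) i)) (@Bool.rec (fun _ => ℕ) fb2830 fb2831 (Nat.ble (nat_lit 2831) i)) (Nat.ble (nat_lit 2830) i)) (Nat.ble (nat_lit 2828) i)) (Nat.ble (nat_lit 2824) i)) (@Bool.rec (fun _ => ℕ) (@Bool.rec (fun _ => ℕ) (@Bool.rec (fun _ => ℕ) (@Bool.rec (fun _ => ℕ) fb2832 fb2833 (Nat.ble (nat_lit 2833) i)) (@Bool.rec (fun _ => ℕ) fb2834 fb2835 (Nat.ble (nat_lit 2835) i)) (Nat.ble (nat_lit 2834) i)) (@Bool.rec (fun _ => ℕ) (@Bool.rec (fun _ => ℕ) fb2836 fb2837 (Nat.ble (nat_lit 2837) i)) (@Bool.rec (fun _ => ℕ) fb2838 fb2839 (Nat.ble (nat_lit 2839) i)) (Nat.ble (nat_lit 2838) i)) (Nat.ble (nat_lit 2836) i))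 (@Bool.rec (fun _ => ℕ) (@Bool.rec (fun _ => ℕ) (@Bool.rec (fun _ => ℕ) fb2840 fb2841 (Nat.ble (nat_lit 2841) i)) (@Bool.rec (fun _ => ℕ) fb2842 fb2843 (Nat.ble (nat_lit 2843) i)) (Nat.ble (nat_lit 2842) i)) (@Bool.rec (fun _ => ℕ) (@Bool.rec (fun _ => ℕ) fb2844 fb2845 (Nat.ble (nat_lit 2845) i)) (@Bool.rec (fun _ => ℕ) fb2846 fb2847 (Nat.ble (nat_lit 2847) i)) (Nat.ble (nat_lit 2846) i)) (Nat.ble (nat_lit 2844) i)) (Nat.ble (nat_lit 2840) i)) (Nat.ble (nat_lit 2832) i))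

def factBlk_n0_89 (i : ℕ) : ℕ := (@Bool.rec (fun _ => ℕ) (@Bool.rec (fun _ => ℕ) (@Bool.rec (fun _ => ℕ) (@Bool.rec (fun _ => ℕ) (@Bool.rec (fun _ => ℕ) fb2848 fb2849 (Nat.ble (nat_lit 2849) i)) (@Bool.rec (fun _ => ℕ) fb2850 fb2851 (Nat.ble (nat_lit 2851) i)) (Nat.ble (nat_lit 2850) i)) (@Bool.rec (fun _ => ℕ) (@Bool.rec (fun _ => ℕ) fb2852 fb2853 (Nat.ble (nat_lit 2853) i)) (@Bool.rec (fun _ => ℕ) fb2854 fb2855 (Nat.ble (nat_lit 2855) i)) (Nat.ble (nat_lit 2854) i)) (Nat.ble (nat_lit 2852) i)) (@Bool.rec (fun _ => ℕ) (@Bool.rec (fun _ => ℕ) (@Bool.rec (fun _ => ℕ) fb2856 fb2857 (Nat.ble (nat_lit 2857) i)) (@Bool.rec (fun _ => ℕ) fb2858 fb2859 (Nat.ble (nat_lit 2859) i)) (Nat.ble (nat_lit 2858) i)) (@Bool.rec (fun _ => ℕ) (@Bool.rec (fun _ => ℕ) fb2860 fb2861 (Nat.ble (nat_lit 2861) i)) (@Bool.rec (fun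 _ => ℕ) fb2862 fb2863 (Nat.ble (nat_lit 2863) i)) (Nat.ble (nat_lit 2862) i)) (Nat.ble (nat_lit 2860) i)) (Nat.ble (nat_lit 2856) i)) (@Bool.rec (fun _ => ℕ) (@Bool.rec (fun _ => ℕ) (@Bool.rec (fun _ => ℕ) (@Bool.rec (fun _ => ℕ) fb2864 fb2865 (Nat.ble (nat_lit 2865) i)) (@Bool.rec (fun _ => ℕ) fb2866 fb2867 (Nat.ble (nat_lit 2867) i)) (Nat.ble (nat_lit 2866) i)) (@Bool.rec (fun _ => ℕ) (@Bool.rec (fun _ => ℕ) fb2868 fb2869 (Nat.ble (nat_lit 2869) i)) (@Bool.rec (fun _ => ℕ) fb2870 fb2871 (Nat.ble (nat_lit 2871) i)) (Nat.ble (nat_lit 2870) i)) (Nat.ble (nat_lit 2868) i)) (@Bool.rec (fun _ => ℕ) (@Bool.rec (fun _ => ℕ) (@Bool.rec (fun _ => ℕ) fb2872 fb2873 (Nat.ble (nat_lit 2873) i)) (@Bool.rec (fun _ => ℕ) fb2874 fb2875 (Nat.ble (nat_lit 2875) i)) (Nat.ble (nat_lit 2874) i)) (@Bool.rec (fun _ => ℕ) (@Bool.rec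 (fun _ => ℕ) fb2876 fb2877 (Nat.ble (nat_lit 2877) i)) (@Bool.rec (fun _ => ℕ) fb2878 fb2879 (Nat.ble (nat_lit 2879) i)) (Nat.ble (nat_lit 2878) i)) (Nat.ble (nat_lit 2876) i)) (Nat.ble (nat_lit 2872) i)) (Nat.ble (nat_lit 2864) i))

def factBlk_n0_90 (i : ℕ) : ℕ := (@Bool.rec (fun _ => ℕ) (@Bool.rec (fun _ => ℕ) (@Bool.rec (fun _ => ℕ) (@Bool.rec (fun _ => ℕ) (@Bool.rec (fun _ => ℕ) fb2880 fb2881 (Nat.ble (nat_lit 2881) i)) (@Bool.rec (fun _ => ℕ) fb2882 fb2883 (Nat.ble (nat_lit 2883) i)) (Nat.ble (nat_lit 2882) i)) (@Bool.rec (fun _ => ℕ) (@Bool.rec (fun _ => ℕ) fb2884 fb2885 (Nat.ble (nat_lit 2885) i)) (@Bool.rec (fun _ => ℕ) fb2886 fb2887 (Nat.ble (nat_lit 2887) i)) (Nat.ble (nat_lit 2886) i)) (Nat.ble (nat_lit 2884) i)) (@Bool.rec (fun _ => ℕ) (@Bool.rec (fun _ => ℕ) (@Bool.rec (fun _ => ℕ) fb2888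 fb2889 (Nat.ble (nat_lit 2889) i)) (@Bool.rec (fun _ => ℕ) fb2890 fb2891 (Nat.ble (nat_lit 2891) i)) (Nat.ble (nat_lit 2890) i)) (@Bool.rec (fun _ => ℕ) (@Bool.rec (fun _ => ℕ) fb2892 fb2893 (Nat.ble (nat_lit 2893) i)) (@Bool.rec (fun _ => ℕ) fb2894 fb2895 (Nat.ble (nat_lit 2895) i)) (Nat.ble (nat_lit 2894) i)) (Nat.ble (nat_lit 2892) i)) (Nat.ble (nat_lit 2888) i)) (@Bool.rec (fun _ => ℕ) (@Bool.rec (fun _ => ℕ) (@Bool.rec (fun _ => ℕ) (@Bool.rec (fun _ => ℕ) fb2896 fb2897 (Nat.ble (nat_lit 2897) i)) (@Bool.rec (fun _ => ℕ) fb2898 fb2899 (Nat.ble (nat_lit 2899) i)) (Nat.ble (nat_lit 2898) i)) (@Bool.rec (fun _ => ℕ) (@Bool.rec (fun _ => ℕ) fb2900 fb2901 (Nat.ble (nat_lit 2901) i)) (@Bool.rec (fun _ => ℕ) fb2902 fb2903 (Nat.ble (nat_lit 2903) i)) (Nat.ble (nat_lit 2902) i)) (Nat.ble (nat_lit 2900) i))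 (@Bool.rec (fun _ => ℕ) (@Bool.rec (fun _ => ℕ) (@Bool.rec (fun _ => ℕ) fb2904 fb2905 (Nat.ble (nat_lit 2905) i)) (@Bool.rec (fun _ => ℕ) fb2906 fb2907 (Nat.ble (nat_lit 2907) i)) (Nat.ble (nat_lit 2906) i)) (@Bool.rec (fun _ => ℕ) (@Bool.rec (fun _ => ℕ) fb2908 fb2909 (Nat.ble (nat_lit 2909) i)) (@Bool.rec (fun _ => ℕ) fb2910 fb2911 (Nat.ble (nat_lit 2911) i)) (Nat.ble (nat_lit 2910) i)) (Nat.ble (nat_lit 2908) i)) (Nat.ble (nat_lit 2904) i)) (Nat.ble (nat_lit 2896) i))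

def factBlk_n0_91 (i : ℕ) : ℕ := (@Bool.rec (fun _ => ℕ) (@Bool.rec (fun _ => ℕ) (@Bool.rec (fun _ => ℕ) (@Bool.rec (fun _ => ℕ) (@Bool.rec (fun _ => ℕ) fb2912 fb2913 (Nat.ble (nat_lit 2913) i)) (@Bool.rec (fun _ => ℕ) fb2914 fb2915 (Nat.ble (nat_lit 2915) i)) (Nat.ble (nat_lit 2914) i)) (@Bool.rec (fun _ => ℕ) (@Bool.rec (fun _ => ℕ) fb2916 fb2917 (Nat.ble (nat_lit 2917) i)) (@Bool.rec (fun _ => ℕ) fb2918 fb2919 (Nat.ble (nat_lit 2919) i)) (Nat.ble (nat_lit 2918) i)) (Nat.ble (nat_lit 2916) i)) (@Bool.rec (fun _ => ℕ) (@Bool.rec (fun _ => ℕ) (@Bool.rec (fun _ => ℕ) fb2920 fb2921 (Nat.ble (nat_lit 2921) i)) (@Bool.rec (fun _ => ℕ) fb2922 fb2923 (Nat.ble (nat_lit 2923) i)) (Nat.ble (nat_lit 2922) i)) (@Bool.rec (fun _ => ℕ) (@Bool.rec (fun _ => ℕ) fb2924 fb2925 (Nat.ble (nat_lit 2925) i)) (@Bool.rec (fun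 _ => ℕ) fb2926 fb2927 (Nat.ble (nat_lit 2927) i)) (Nat.ble (nat_lit 2926) i)) (Nat.ble (nat_lit 2924) i)) (Nat.ble (nat_lit 2920) i)) (@Bool.rec (fun _ => ℕ) (@Bool.rec (fun _ => ℕ) (@Bool.rec (fun _ => ℕ) (@Bool.rec (fun _ => ℕ) fb2928 fb2929 (Nat.ble (nat_lit 2929) i)) (@Bool.rec (fun _ => ℕ) fb2930 fb2931 (Nat.ble (nat_lit 2931) i)) (Nat.ble (nat_lit 2930) i)) (@Bool.rec (fun _ => ℕ) (@Bool.rec (fun _ => ℕ) fb2932 fb2933 (Nat.ble (nat_lit 2933) i)) (@Bool.rec (fun _ => ℕ) fb2934 fb2935 (Nat.ble (nat_lit 2935) i)) (Nat.ble (nat_lit 2934) i)) (Nat.ble (nat_lit 2932) i)) (@Bool.rec (fun _ => ℕ) (@Bool.rec (fun _ => ℕ) (@Bool.rec (fun _ => ℕ) fb2936 fb2937 (Nat.ble (nat_lit 2937) i)) (@Bool.rec (fun _ => ℕ) fb2938 fb2939 (Nat.ble (nat_lit 2939) i)) (Nat.ble (nat_lit 2938) i)) (@Bool.rec (fun _ => ℕ) (@Bool.rec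 (fun _ => ℕ) fb2940 fb2941 (Nat.ble (nat_lit 2941) i)) (@Bool.rec (fun _ => ℕ) fb2942 fb2943 (Nat.ble (nat_lit 2943) i)) (Nat.ble (nat_lit 2942) i)) (Nat.ble (nat_lit 2940) i)) (Nat.ble (nat_lit 2936) i)) (Nat.ble (nat_lit 2928) i))

def factBlk_n0_92 (i : ℕ) : ℕ := (@Bool.rec (fun _ => ℕ) (@Bool.rec (fun _ => ℕ) (@Bool.rec (fun _ => ℕ) (@Bool.rec (fun _ => ℕ) (@Bool.rec (fun _ => ℕ) fb2944 fb2945 (Nat.ble (nat_lit 2945) i)) (@Bool.rec (fun _ => ℕ) fb2946 fb2947 (Nat.ble (nat_lit 2947) i)) (Nat.ble (nat_lit 2946) i)) (@Bool.rec (fun _ => ℕ) (@Bool.rec (fun _ => ℕ) fb2948 fb2949 (Nat.ble (nat_lit 2949) i)) (@Bool.rec (fun _ => ℕ) fb2950 fb2951 (Nat.ble (nat_lit 2951) i)) (Nat.ble (nat_lit 2950) i)) (Nat.ble (nat_lit 2948) i)) (@Bool.rec (fun _ => ℕ) (@Bool.rec (fun _ => ℕ) (@Bool.rec (fun _ => ℕ) fb2952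 fb2953 (Nat.ble (nat_lit 2953) i)) (@Bool.rec (fun _ => ℕ) fb2954 fb2955 (Nat.ble (nat_lit 2955) i)) (Nat.ble (nat_lit 2954) i)) (@Bool.rec (fun _ => ℕ) (@Bool.rec (fun _ => ℕ) fb2956 fb2957 (Nat.ble (nat_lit 2957) i)) (@Bool.rec (fun _ => ℕ) fb2958 fb2959 (Nat.ble (nat_lit 2959) i)) (Nat.ble (nat_lit 2958) i)) (Nat.ble (nat_lit 2956) i)) (Nat.ble (nat_lit 2952) i)) (@Bool.rec (fun _ => ℕ) (@Bool.rec (fun _ => ℕ) (@Bool.rec (fun _ => ℕ) (@Bool.rec (fun _ => ℕ) fb2960 fb2961 (Nat.ble (nat_lit 2961) i)) (@Bool.rec (fun _ => ℕ) fb2962 fb2963 (Nat.ble (nat_lit 2963) i)) (Nat.ble (nat_lit 2962) i)) (@Bool.rec (fun _ => ℕ) (@Bool.rec (fun _ => ℕ) fb2964 fb2965 (Nat.ble (nat_lit 2965) i)) (@Bool.rec (fun _ => ℕ) fb2966 fb2967 (Nat.ble (nat_lit 2967) i)) (Nat.ble (nat_lit 2966) i)) (Nat.ble (nat_lit 2964) i))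 (@Bool.rec (fun _ => ℕ) (@Bool.rec (fun _ => ℕ) (@Bool.rec (fun _ => ℕ) fb2968 fb2969 (Nat.ble (nat_lit 2969) i)) (@Bool.rec (fun _ => ℕ) fb2970 fb2971 (Nat.ble (nat_lit 2971) i)) (Nat.ble (nat_lit 2970) i)) (@Bool.rec (fun _ => ℕ) (@Bool.rec (fun _ => ℕ) fb2972 fb2973 (Nat.ble (nat_lit 2973) i)) (@Bool.rec (fun _ => ℕ) fb2974 fb2975 (Nat.ble (nat_lit 2975) i)) (Nat.ble (nat_lit 2974) i)) (Nat.ble (nat_lit 2972) i)) (Nat.ble (nat_lit 2968) i)) (Nat.ble (nat_lit 2960) i))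

def factBlk_n0_93 (i : ℕ) : ℕ := (@Bool.rec (fun _ => ℕ) (@Bool.rec (fun _ => ℕ) (@Bool.rec (fun _ => ℕ) (@Bool.rec (fun _ => ℕ) (@Bool.rec (fun _ => ℕ) fb2976 fb2977 (Nat.ble (nat_lit 2977) i)) (@Bool.rec (fun _ => ℕ) fb2978 fb2979 (Nat.ble (nat_lit 2979) i)) (Nat.ble (nat_lit 2978) i)) (@Bool.rec (fun _ => ℕ) (@Bool.rec (fun _ => ℕ) fb2980 fb2981 (Nat.ble (nat_lit 2981) i)) (@Bool.rec (fun _ => ℕ) fb2982 fb2983 (Nat.ble (nat_lit 2983) i)) (Nat.ble (nat_lit 2982) i)) (Nat.ble (nat_lit 2980) i)) (@Bool.rec (fun _ => ℕ) (@Bool.rec (fun _ => ℕ) (@Bool.rec (fun _ => ℕ) fb2984 fb2985 (Nat.ble (nat_lit 2985) i)) (@Bool.rec (fun _ => ℕ) fb2986 fb2987 (Nat.ble (nat_lit 2987) i)) (Nat.ble (nat_lit 2986) i)) (@Bool.rec (fun _ => ℕ) (@Bool.rec (fun _ => ℕ) fb2988 fb2989 (Nat.ble (nat_lit 2989) i)) (@Bool.rec (fun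 _ => ℕ) fb2990 fb2991 (Nat.ble (nat_lit 2991) i)) (Nat.ble (nat_lit 2990) i)) (Nat.ble (nat_lit 2988) i)) (Nat.ble (nat_lit 2984) i)) (@Bool.rec (fun _ => ℕ) (@Bool.rec (fun _ => ℕ) (@Bool.rec (fun _ => ℕ) (@Bool.rec (fun _ => ℕ) fb2992 fb2993 (Nat.ble (nat_lit 2993) i)) (@Bool.rec (fun _ => ℕ) fb2994 fb2995 (Nat.ble (nat_lit 2995) i)) (Nat.ble (nat_lit 2994) i)) (@Bool.rec (fun _ => ℕ) (@Bool.rec (fun _ => ℕ) fb2996 fb2997 (Nat.ble (nat_lit 2997) i)) (@Bool.rec (fun _ => ℕ) fb2998 fb2999 (Nat.ble (nat_lit 2999) i)) (Nat.ble (nat_lit 2998) i)) (Nat.ble (nat_lit 2996) i)) (@Bool.rec (fun _ => ℕ) (@Bool.rec (fun _ => ℕ) (@Bool.rec (fun _ => ℕ) fb3000 fb3001 (Nat.ble (nat_lit 3001) i)) (@Bool.rec (fun _ => ℕ) fb3002 fb3003 (Nat.ble (nat_lit 3003) i)) (Nat.ble (nat_lit 3002) i)) (@Bool.rec (fun _ => ℕ) (@Bool.rec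 (fun _ => ℕ) fb3004 fb3005 (Nat.ble (nat_lit 3005) i)) (@Bool.rec (fun _ => ℕ) fb3006 fb3007 (Nat.ble (nat_lit 3007) i)) (Nat.ble (nat_lit 3006) i)) (Nat.ble (nat_lit 3004) i)) (Nat.ble (nat_lit 3000) i)) (Nat.ble (nat_lit 2992) i))

def factBlk_n0_94 (i : ℕ) : ℕ := (@Bool.rec (fun _ => ℕ) (@Bool.rec (fun _ => ℕ) (@Bool.rec (fun _ => ℕ) (@Bool.rec (fun _ => ℕ) (@Bool.rec (fun _ => ℕ) fb3008 fb3009 (Nat.ble (nat_lit 3009) i)) (@Bool.rec (fun _ => ℕ) fb3010 fb3011 (Nat.ble (nat_lit 3011) i)) (Nat.ble (nat_lit 3010) i)) (@Bool.rec (fun _ => ℕ) (@Bool.rec (fun _ => ℕ) fb3012 fb3013 (Nat.ble (nat_lit 3013) i)) (@Bool.rec (fun _ => ℕ) fb3014 fb3015 (Nat.ble (nat_lit 3015) i)) (Nat.ble (nat_lit 3014) i)) (Nat.ble (nat_lit 3012) i)) (@Bool.rec (fun _ => ℕ) (@Bool.rec (fun _ => ℕ) (@Bool.rec (fun _ => ℕ) fb3016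 fb3017 (Nat.ble (nat_lit 3017) i)) (@Bool.rec (fun _ => ℕ) fb3018 fb3019 (Nat.ble (nat_lit 3019) i)) (Nat.ble (nat_lit 3018) i)) (@Bool.rec (fun _ => ℕ) (@Bool.rec (fun _ => ℕ) fb3020 fb3021 (Nat.ble (nat_lit 3021) i)) (@Bool.rec (fun _ => ℕ) fb3022 fb3023 (Nat.ble (nat_lit 3023) i)) (Nat.ble (nat_lit 3022) i)) (Nat.ble (nat_lit 3020) i)) (Nat.ble (nat_lit 3016) i)) (@Bool.rec (fun _ => ℕ) (@Bool.rec (fun _ => ℕ) (@Bool.rec (fun _ => ℕ) (@Bool.rec (fun _ => ℕ) fb3024 fb3025 (Nat.ble (nat_lit 3025) i)) (@Bool.rec (fun _ => ℕ) fb3026 fb3027 (Nat.ble (nat_lit 3027) i)) (Nat.ble (nat_lit 3026) i)) (@Bool.rec (fun _ => ℕ) (@Bool.rec (fun _ => ℕ) fb3028 fb3029 (Nat.ble (nat_lit 3029) i)) (@Bool.rec (fun _ => ℕ) fb3030 fb3031 (Nat.ble (nat_lit 3031) i)) (Nat.ble (nat_lit 3030) i)) (Nat.ble (nat_lit 3028) i))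 (@Bool.rec (fun _ => ℕ) (@Bool.rec (fun _ => ℕ) (@Bool.rec (fun _ => ℕ) fb3032 fb3033 (Nat.ble (nat_lit 3033) i)) (@Bool.rec (fun _ => ℕ) fb3034 fb3035 (Nat.ble (nat_lit 3035) i)) (Nat.ble (nat_lit 3034) i)) (@Bool.rec (fun _ => ℕ) (@Bool.rec (fun _ => ℕ) fb3036 fb3037 (Nat.ble (nat_lit 3037) i)) (@Bool.rec (fun _ => ℕ) fb3038 fb3039 (Nat.ble (nat_lit 3039) i)) (Nat.ble (nat_lit 3038) i)) (Nat.ble (nat_lit 3036) i)) (Nat.ble (nat_lit 3032) i)) (Nat.ble (nat_lit 3024) i))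

def factBlk_n0_95 (i : ℕ) : ℕ := (@Bool.rec (fun _ => ℕ) (@Bool.rec (fun _ => ℕ) (@Bool.rec (fun _ => ℕ) (@Bool.rec (fun _ => ℕ) (@Bool.rec (fun _ => ℕ) fb3040 fb3041 (Nat.ble (nat_lit 3041) i)) (@Bool.rec (fun _ => ℕ) fb3042 fb3043 (Nat.ble (nat_lit 3043) i)) (Nat.ble (nat_lit 3042) i)) (@Bool.rec (fun _ => ℕ) (@Bool.rec (fun _ => ℕ) fb3044 fb3045 (Nat.ble (nat_lit 3045) i)) (@Bool.rec (fun _ => ℕ) fb3046 fb3047 (Nat.ble (nat_lit 3047) i)) (Nat.ble (nat_lit 3046) i)) (Nat.ble (nat_lit 3044) i)) (@Bool.rec (fun _ => ℕ) (@Bool.rec (fun _ => ℕ) (@Bool.rec (fun _ => ℕ) fb3048 fb3049 (Nat.ble (nat_lit 3049) i)) (@Bool.rec (fun _ => ℕ) fb3050 fb3051 (Nat.ble (nat_lit 3051) i)) (Nat.ble (nat_lit 3050) i)) (@Bool.rec (fun _ => ℕ) (@Bool.rec (fun _ => ℕ) fb3052 fb3053 (Nat.ble (nat_lit 3053) i)) (@Bool.rec (fun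 _ => ℕ) fb3054 fb3055 (Nat.ble (nat_lit 3055) i)) (Nat.ble (nat_lit 3054) i)) (Nat.ble (nat_lit 3052) i)) (Nat.ble (nat_lit 3048) i)) (@Bool.rec (fun _ => ℕ) (@Bool.rec (fun _ => ℕ) (@Bool.rec (fun _ => ℕ) (@Bool.rec (fun _ => ℕ) fb3056 fb3057 (Nat.ble (nat_lit 3057) i)) (@Bool.rec (fun _ => ℕ) fb3058 fb3059 (Nat.ble (nat_lit 3059) i)) (Nat.ble (nat_lit 3058) i)) (@Bool.rec (fun _ => ℕ) (@Bool.rec (fun _ => ℕ) fb3060 fb3061 (Nat.ble (nat_lit 3061) i)) (@Bool.rec (fun _ => ℕ) fb3062 fb3063 (Nat.ble (nat_lit 3063) i)) (Nat.ble (nat_lit 3062) i)) (Nat.ble (nat_lit 3060) i)) (@Bool.rec (fun _ => ℕ) (@Bool.rec (fun _ => ℕ) (@Bool.rec (fun _ => ℕ) fb3064 fb3065 (Nat.ble (nat_lit 3065) i)) (@Bool.rec (fun _ => ℕ) fb3066 fb3067 (Nat.ble (nat_lit 3067) i)) (Nat.ble (nat_lit 3066) i)) (@Bool.rec (fun _ => ℕ) (@Bool.rec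 (fun _ => ℕ) fb3068 fb3069 (Nat.ble (nat_lit 3069) i)) (@Bool.rec (fun _ => ℕ) fb3070 fb3071 (Nat.ble (nat_lit 3071) i)) (Nat.ble (nat_lit 3070) i)) (Nat.ble (nat_lit 3068) i)) (Nat.ble (nat_lit 3064) i)) (Nat.ble (nat_lit 3056) i))

def factBlk_n0_96 (i : ℕ) : ℕ := (@Bool.rec (fun _ => ℕ) (@Bool.rec (fun _ => ℕ) (@Bool.rec (fun _ => ℕ) (@Bool.rec (fun _ => ℕ) (@Bool.rec (fun _ => ℕ) fb3072 fb3073 (Nat.ble (nat_lit 3073) i)) (@Bool.rec (fun _ => ℕ) fb3074 fb3075 (Nat.ble (nat_lit 3075) i)) (Nat.ble (nat_lit 3074) i)) (@Bool.rec (fun _ => ℕ) (@Bool.rec (fun _ => ℕ) fb3076 fb3077 (Nat.ble (nat_lit 3077) i)) (@Bool.rec (fun _ => ℕ) fb3078 fb3079 (Nat.ble (nat_lit 3079) i)) (Nat.ble (nat_lit 3078) i)) (Nat.ble (nat_lit 3076) i)) (@Bool.rec (fun _ => ℕ) (@Bool.rec (fun _ => ℕ) (@Bool.rec (fun _ => ℕ) fb3080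 fb3081 (Nat.ble (nat_lit 3081) i)) (@Bool.rec (fun _ => ℕ) fb3082 fb3083 (Nat.ble (nat_lit 3083) i)) (Nat.ble (nat_lit 3082) i)) (@Bool.rec (fun _ => ℕ) (@Bool.rec (fun _ => ℕ) fb3084 fb3085 (Nat.ble (nat_lit 3085) i)) (@Bool.rec (fun _ => ℕ) fb3086 fb3087 (Nat.ble (nat_lit 3087) i)) (Nat.ble (nat_lit 3086) i)) (Nat.ble (nat_lit 3084) i)) (Nat.ble (nat_lit 3080) i)) (@Bool.rec (fun _ => ℕ) (@Bool.rec (fun _ => ℕ) (@Bool.rec (fun _ => ℕ) (@Bool.rec (fun _ => ℕ) fb3088 fb3089 (Nat.ble (nat_lit 3089) i)) (@Bool.rec (fun _ => ℕ) fb3090 fb3091 (Nat.ble (nat_lit 3091) i)) (Nat.ble (nat_lit 3090) i)) (@Bool.rec (fun _ => ℕ) (@Bool.rec (fun _ => ℕ) fb3092 fb3093 (Nat.ble (nat_lit 3093) i)) (@Bool.rec (fun _ => ℕ) fb3094 fb3095 (Nat.ble (nat_lit 3095) i)) (Nat.ble (nat_lit 3094) i)) (Nat.ble (nat_lit 3092) i))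 (@Bool.rec (fun _ => ℕ) (@Bool.rec (fun _ => ℕ) (@Bool.rec (fun _ => ℕ) fb3096 fb3097 (Nat.ble (nat_lit 3097) i)) (@Bool.rec (fun _ => ℕ) fb3098 fb3099 (Nat.ble (nat_lit 3099) i)) (Nat.ble (nat_lit 3098) i)) (@Bool.rec (fun _ => ℕ) (@Bool.rec (fun _ => ℕ) fb3100 fb3101 (Nat.ble (nat_lit 3101) i)) (@Bool.rec (fun _ => ℕ) fb3102 fb3103 (Nat.ble (nat_lit 3103) i)) (Nat.ble (nat_lit 3102) i)) (Nat.ble (nat_lit 3100) i)) (Nat.ble (nat_lit 3096) i)) (Nat.ble (nat_lit 3088) i))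

def factBlk_n0_97 (i : ℕ) : ℕ := (@Bool.rec (fun _ => ℕ) (@Bool.rec (fun _ => ℕ) (@Bool.rec (fun _ => ℕ) (@Bool.rec (fun _ => ℕ) (@Bool.rec (fun _ => ℕ) fb3104 fb3105 (Nat.ble (nat_lit 3105) i)) (@Bool.rec (fun _ => ℕ) fb3106 fb3107 (Nat.ble (nat_lit 3107) i)) (Nat.ble (nat_lit 3106) i)) (@Bool.rec (fun _ => ℕ) (@Bool.rec (fun _ => ℕ) fb3108 fb3109 (Nat.ble (nat_lit 3109) i)) (@Bool.rec (fun _ => ℕ) fb3110 fb3111 (Nat.ble (nat_lit 3111) i)) (Nat.ble (nat_lit 3110) i)) (Nat.ble (nat_lit 3108) i)) (@Bool.rec (fun _ => ℕ) (@Bool.rec (fun _ => ℕ) (@Bool.rec (fun _ => ℕ) fb3112 fb3113 (Nat.ble (nat_lit 3113) i)) (@Bool.rec (fun _ => ℕ) fb3114 fb3115 (Nat.ble (nat_lit 3115) i)) (Nat.ble (nat_lit 3114) i)) (@Bool.rec (fun _ => ℕ) (@Bool.rec (fun _ => ℕ) fb3116 fb3117 (Nat.ble (nat_lit 3117) i)) (@Bool.rec (fun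 _ => ℕ) fb3118 fb3119 (Nat.ble (nat_lit 3119) i)) (Nat.ble (nat_lit 3118) i)) (Nat.ble (nat_lit 3116) i)) (Nat.ble (nat_lit 3112) i)) (@Bool.rec (fun _ => ℕ) (@Bool.rec (fun _ => ℕ) (@Bool.rec (fun _ => ℕ) (@Bool.rec (fun _ => ℕ) fb3120 fb3121 (Nat.ble (nat_lit 3121) i)) (@Bool.rec (fun _ => ℕ) fb3122 fb3123 (Nat.ble (nat_lit 3123) i)) (Nat.ble (nat_lit 3122) i)) (@Bool.rec (fun _ => ℕ) (@Bool.rec (fun _ => ℕ) fb3124 fb3125 (Nat.ble (nat_lit 3125) i)) (@Bool.rec (fun _ => ℕ) fb3126 fb3127 (Nat.ble (nat_lit 3127) i)) (Nat.ble (nat_lit 3126) i)) (Nat.ble (nat_lit 3124) i)) (@Bool.rec (fun _ => ℕ) (@Bool.rec (fun _ => ℕ) (@Bool.rec (fun _ => ℕ) fb3128 fb3129 (Nat.ble (nat_lit 3129) i)) (@Bool.rec (fun _ => ℕ) fb3130 fb3131 (Nat.ble (nat_lit 3131) i)) (Nat.ble (nat_lit 3130) i)) (@Bool.rec (fun _ => ℕ) (@Bool.rec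 (fun _ => ℕ) fb3132 fb3133 (Nat.ble (nat_lit 3133) i)) (@Bool.rec (fun _ => ℕ) fb3134 fb3135 (Nat.ble (nat_lit 3135) i)) (Nat.ble (nat_lit 3134) i)) (Nat.ble (nat_lit 3132) i)) (Nat.ble (nat_lit 3128) i)) (Nat.ble (nat_lit 3120) i))

def factBlk_n0_98 (i : ℕ) : ℕ := (@Bool.rec (fun _ => ℕ) (@Bool.rec (fun _ => ℕ) (@Bool.rec (fun _ => ℕ) (@Bool.rec (fun _ => ℕ) (@Bool.rec (fun _ => ℕ) fb3136 fb3137 (Nat.ble (nat_lit 3137) i)) (@Bool.rec (fun _ => ℕ) fb3138 fb3139 (Nat.ble (nat_lit 3139) i)) (Nat.ble (nat_lit 3138) i)) (@Bool.rec (fun _ => ℕ) (@Bool.rec (fun _ => ℕ) fb3140 fb3141 (Nat.ble (nat_lit 3141) i)) (@Bool.rec (fun _ => ℕ) fb3142 fb3143 (Nat.ble (nat_lit 3143) i)) (Nat.ble (nat_lit 3142) i)) (Nat.ble (nat_lit 3140) i)) (@Bool.rec (fun _ => ℕ) (@Bool.rec (fun _ => ℕ) (@Bool.rec (fun _ => ℕ) fb3144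 fb3145 (Nat.ble (nat_lit 3145) i)) (@Bool.rec (fun _ => ℕ) fb3146 fb3147 (Nat.ble (nat_lit 3147) i)) (Nat.ble (nat_lit 3146) i)) (@Bool.rec (fun _ => ℕ) (@Bool.rec (fun _ => ℕ) fb3148 fb3149 (Nat.ble (nat_lit 3149) i)) (@Bool.rec (fun _ => ℕ) fb3150 fb3151 (Nat.ble (nat_lit 3151) i)) (Nat.ble (nat_lit 3150) i)) (Nat.ble (nat_lit 3148) i)) (Nat.ble (nat_lit 3144) i)) (@Bool.rec (fun _ => ℕ) (@Bool.rec (fun _ => ℕ) (@Bool.rec (fun _ => ℕ) (@Bool.rec (fun _ => ℕ) fb3152 fb3153 (Nat.ble (nat_lit 3153) i)) (@Bool.rec (fun _ => ℕ) fb3154 fb3155 (Nat.ble (nat_lit 3155) i)) (Nat.ble (nat_lit 3154) i)) (@Bool.rec (fun _ => ℕ) (@Bool.rec (fun _ => ℕ) fb3156 fb3157 (Nat.ble (nat_lit 3157) i)) (@Bool.rec (fun _ => ℕ) fb3158 fb3159 (Nat.ble (nat_lit 3159) i)) (Nat.ble (nat_lit 3158) i)) (Nat.ble (nat_lit 3156) i))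 (@Bool.rec (fun _ => ℕ) (@Bool.rec (fun _ => ℕ) (@Bool.rec (fun _ => ℕ) fb3160 fb3161 (Nat.ble (nat_lit 3161) i)) (@Bool.rec (fun _ => ℕ) fb3162 fb3163 (Nat.ble (nat_lit 3163) i)) (Nat.ble (nat_lit 3162) i)) (@Bool.rec (fun _ => ℕ) (@Bool.rec (fun _ => ℕ) fb3164 fb3165 (Nat.ble (nat_lit 3165) i)) (@Bool.rec (fun _ => ℕ) fb3166 fb3167 (Nat.ble (nat_lit 3167) i)) (Nat.ble (nat_lit 3166) i)) (Nat.ble (nat_lit 3164) i)) (Nat.ble (nat_lit 3160) i)) (Nat.ble (nat_lit 3152) i))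

def factBlk_n0_99 (i : ℕ) : ℕ := (@Bool.rec (fun _ => ℕ) (@Bool.rec (fun _ => ℕ) (@Bool.rec (fun _ => ℕ) (@Bool.rec (fun _ => ℕ) (@Bool.rec (fun _ => ℕ) fb3168 fb3169 (Nat.ble (nat_lit 3169) i)) (@Bool.rec (fun _ => ℕ) fb3170 fb3171 (Nat.ble (nat_lit 3171) i)) (Nat.ble (nat_lit 3170) i)) (@Bool.rec (fun _ => ℕ) (@Bool.rec (fun _ => ℕ) fb3172 fb3173 (Nat.ble (nat_lit 3173) i)) (@Bool.rec (fun _ => ℕ) fb3174 fb3175 (Nat.ble (nat_lit 3175) i)) (Nat.ble (nat_lit 3174) i)) (Nat.ble (nat_lit 3172) i)) (@Bool.rec (fun _ => ℕ) (@Bool.rec (fun _ => ℕ) (@Bool.rec (fun _ => ℕ) fb3176 fb3177 (Nat.ble (nat_lit 3177) i)) (@Bool.rec (fun _ => ℕ) fb3178 fb3179 (Nat.ble (nat_lit 3179) i)) (Nat.ble (nat_lit 3178) i)) (@Bool.rec (fun _ => ℕ) (@Bool.rec (fun _ => ℕ) fb3180 fb3181 (Nat.ble (nat_lit 3181) i)) (@Bool.rec (fun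 _ => ℕ) fb3182 fb3183 (Nat.ble (nat_lit 3183) i)) (Nat.ble (nat_lit 3182) i)) (Nat.ble (nat_lit 3180) i)) (Nat.ble (nat_lit 3176) i)) (@Bool.rec (fun _ => ℕ) (@Bool.rec (fun _ => ℕ) (@Bool.rec (fun _ => ℕ) (@Bool.rec (fun _ => ℕ) fb3184 fb3185 (Nat.ble (nat_lit 3185) i)) (@Bool.rec (fun _ => ℕ) fb3186 fb3187 (Nat.ble (nat_lit 3187) i)) (Nat.ble (nat_lit 3186) i)) (@Bool.rec (fun _ => ℕ) (@Bool.rec (fun _ => ℕ) fb3188 fb3189 (Nat.ble (nat_lit 3189) i)) (@Bool.rec (fun _ => ℕ) fb3190 fb3191 (Nat.ble (nat_lit 3191) i)) (Nat.ble (nat_lit 3190) i)) (Nat.ble (nat_lit 3188) i)) (@Bool.rec (fun _ => ℕ) (@Bool.rec (fun _ => ℕ) (@Bool.rec (fun _ => ℕ) fb3192 fb3193 (Nat.ble (nat_lit 3193) i)) (@Bool.rec (fun _ => ℕ) fb3194 fb3195 (Nat.ble (nat_lit 3195) i)) (Nat.ble (nat_lit 3194) i)) (@Bool.rec (fun _ => ℕ) (@Bool.rec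 (fun _ => ℕ) fb3196 fb3197 (Nat.ble (nat_lit 3197) i)) (@Bool.rec (fun _ => ℕ) fb3198 fb3199 (Nat.ble (nat_lit 3199) i)) (Nat.ble (nat_lit 3198) i)) (Nat.ble (nat_lit 3196) i)) (Nat.ble (nat_lit 3192) i)) (Nat.ble (nat_lit 3184) i))

def factBlk_n0_100 (i : ℕ) : ℕ := (@Bool.rec (fun _ => ℕ) (@Bool.rec (fun _ => ℕ) (@Bool.rec (fun _ => ℕ) (@Bool.rec (fun _ => ℕ) (@Bool.rec (fun _ => ℕ) fb3200 fb3201 (Nat.ble (nat_lit 3201) i)) (@Bool.rec (fun _ => ℕ) fb3202 fb3203 (Nat.ble (nat_lit 3203) i)) (Nat.ble (nat_lit 3202) i)) (@Bool.rec (fun _ => ℕ) (@Bool.rec (fun _ => ℕ) fb3204 fb3205 (Nat.ble (nat_lit 3205) i)) (@Bool.rec (fun _ => ℕ) fb3206 fb3207 (Nat.ble (nat_lit 3207) i)) (Nat.ble (nat_lit 3206) i)) (Nat.ble (nat_lit 3204) i)) (@Bool.rec (fun _ => ℕ) (@Bool.rec (fun _ => ℕ) (@Bool.rec (fun _ => ℕ) fb3208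 fb3209 (Nat.ble (nat_lit 3209) i)) (@Bool.rec (fun _ => ℕ) fb3210 fb3211 (Nat.ble (nat_lit 3211) i)) (Nat.ble (nat_lit 3210) i)) (@Bool.rec (fun _ => ℕ) (@Bool.rec (fun _ => ℕ) fb3212 fb3213 (Nat.ble (nat_lit 3213) i)) (@Bool.rec (fun _ => ℕ) fb3214 fb3215 (Nat.ble (nat_lit 3215) i)) (Nat.ble (nat_lit 3214) i)) (Nat.ble (nat_lit 3212) i)) (Nat.ble (nat_lit 3208) i)) (@Bool.rec (fun _ => ℕ) (@Bool.rec (fun _ => ℕ) (@Bool.rec (fun _ => ℕ) (@Bool.rec (fun _ => ℕ) fb3216 fb3217 (Nat.ble (nat_lit 3217) i)) (@Bool.rec (fun _ => ℕ) fb3218 fb3219 (Nat.ble (nat_lit 3219) i)) (Nat.ble (nat_lit 3218) i)) (@Bool.rec (fun _ => ℕ) (@Bool.rec (fun _ => ℕ) fb3220 fb3221 (Nat.ble (nat_lit 3221) i)) (@Bool.rec (fun _ => ℕ) fb3222 fb3223 (Nat.ble (nat_lit 3223) i)) (Nat.ble (nat_lit 3222) i)) (Nat.ble (nat_lit 3220) i))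 (@Bool.rec (fun _ => ℕ) (@Bool.rec (fun _ => ℕ) (@Bool.rec (fun _ => ℕ) fb3224 fb3225 (Nat.ble (nat_lit 3225) i)) (@Bool.rec (fun _ => ℕ) fb3226 fb3227 (Nat.ble (nat_lit 3227) i)) (Nat.ble (nat_lit 3226) i)) (@Bool.rec (fun _ => ℕ) (@Bool.rec (fun _ => ℕ) fb3228 fb3229 (Nat.ble (nat_lit 3229) i)) (@Bool.rec (fun _ => ℕ) fb3230 fb3231 (Nat.ble (nat_lit 3231) i)) (Nat.ble (nat_lit 3230) i)) (Nat.ble (nat_lit 3228) i)) (Nat.ble (nat_lit 3224) i)) (Nat.ble (nat_lit 3216) i))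

def factBlk_n0_101 (i : ℕ) : ℕ := (@Bool.rec (fun _ => ℕ) (@Bool.rec (fun _ => ℕ) (@Bool.rec (fun _ => ℕ) (@Bool.rec (fun _ => ℕ) (@Bool.rec (fun _ => ℕ) fb3232 fb3233 (Nat.ble (nat_lit 3233) i)) (@Bool.rec (fun _ => ℕ) fb3234 fb3235 (Nat.ble (nat_lit 3235) i)) (Nat.ble (nat_lit 3234) i)) (@Bool.rec (fun _ => ℕ) (@Bool.rec (fun _ => ℕ) fb3236 fb3237 (Nat.ble (nat_lit 3237) i)) (@Bool.rec (fun _ => ℕ) fb3238 fb3239 (Nat.ble (nat_lit 3239) i)) (Nat.ble (nat_lit 3238) i)) (Nat.ble (nat_lit 3236) i)) (@Bool.rec (fun _ => ℕ) (@Bool.rec (fun _ => ℕ) (@Bool.rec (fun _ => ℕ) fb3240 fb3241 (Nat.ble (nat_lit 3241) i)) (@Bool.rec (fun _ => ℕ) fb3242 fb3243 (Nat.ble (nat_lit 3243) i)) (Nat.ble (nat_lit 3242) i)) (@Bool.rec (fun _ => ℕ) (@Bool.rec (fun _ => ℕ) fb3244 fb3245 (Nat.ble (nat_lit 3245) i)) (@Bool.rec (fun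 _ => ℕ) fb3246 fb3247 (Nat.ble (nat_lit 3247) i)) (Nat.ble (nat_lit 3246) i)) (Nat.ble (nat_lit 3244) i)) (Nat.ble (nat_lit 3240) i)) (@Bool.rec (fun _ => ℕ) (@Bool.rec (fun _ => ℕ) (@Bool.rec (fun _ => ℕ) (@Bool.rec (fun _ => ℕ) fb3248 fb3249 (Nat.ble (nat_lit 3249) i)) (@Bool.rec (fun _ => ℕ) fb3250 fb3251 (Nat.ble (nat_lit 3251) i)) (Nat.ble (nat_lit 3250) i)) (@Bool.rec (fun _ => ℕ) (@Bool.rec (fun _ => ℕ) fb3252 fb3253 (Nat.ble (nat_lit 3253) i)) (@Bool.rec (fun _ => ℕ) fb3254 fb3255 (Nat.ble (nat_lit 3255) i)) (Nat.ble (nat_lit 3254) i)) (Nat.ble (nat_lit 3252) i)) (@Bool.rec (fun _ => ℕ) (@Bool.rec (fun _ => ℕ) (@Bool.rec (fun _ => ℕ) fb3256 fb3257 (Nat.ble (nat_lit 3257) i)) (@Bool.rec (fun _ => ℕ) fb3258 fb3259 (Nat.ble (nat_lit 3259) i)) (Nat.ble (nat_lit 3258) i)) (@Bool.rec (fun _ => ℕ) (@Bool.rec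 (fun _ => ℕ) fb3260 fb3261 (Nat.ble (nat_lit 3261) i)) (@Bool.rec (fun _ => ℕ) fb3262 fb3263 (Nat.ble (nat_lit 3263) i)) (Nat.ble (nat_lit 3262) i)) (Nat.ble (nat_lit 3260) i)) (Nat.ble (nat_lit 3256) i)) (Nat.ble (nat_lit 3248) i))

def factBlk_n0_102 (i : ℕ) : ℕ := (@Bool.rec (fun _ => ℕ) (@Bool.rec (fun _ => ℕ) (@Bool.rec (fun _ => ℕ) (@Bool.rec (fun _ => ℕ) (@Bool.rec (fun _ => ℕ) fb3264 fb3265 (Nat.ble (nat_lit 3265) i)) (@Bool.rec (fun _ => ℕ) fb3266 fb3267 (Nat.ble (nat_lit 3267) i)) (Nat.ble (nat_lit 3266) i)) (@Bool.rec (fun _ => ℕ) (@Bool.rec (fun _ => ℕ) fb3268 fb3269 (Nat.ble (nat_lit 3269) i)) (@Bool.rec (fun _ => ℕ) fb3270 fb3271 (Nat.ble (nat_lit 3271) i)) (Nat.ble (nat_lit 3270) i)) (Nat.ble (nat_lit 3268) i)) (@Bool.rec (fun _ => ℕ) (@Bool.rec (fun _ => ℕ) (@Bool.rec (fun _ => ℕ) fb3272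 fb3273 (Nat.ble (nat_lit 3273) i)) (@Bool.rec (fun _ => ℕ) fb3274 fb3275 (Nat.ble (nat_lit 3275) i)) (Nat.ble (nat_lit 3274) i)) (@Bool.rec (fun _ => ℕ) (@Bool.rec (fun _ => ℕ) fb3276 fb3277 (Nat.ble (nat_lit 3277) i)) (@Bool.rec (fun _ => ℕ) fb3278 fb3279 (Nat.ble (nat_lit 3279) i)) (Nat.ble (nat_lit 3278) i)) (Nat.ble (nat_lit 3276) i)) (Nat.ble (nat_lit 3272) i)) (@Bool.rec (fun _ => ℕ) (@Bool.rec (fun _ => ℕ) (@Bool.rec (fun _ => ℕ) (@Bool.rec (fun _ => ℕ) fb3280 fb3281 (Nat.ble (nat_lit 3281) i)) (@Bool.rec (fun _ => ℕ) fb3282 fb3283 (Nat.ble (nat_lit 3283) i)) (Nat.ble (nat_lit 3282) i)) (@Bool.rec (fun _ => ℕ) (@Bool.rec (fun _ => ℕ) fb3284 fb3285 (Nat.ble (nat_lit 3285) i)) (@Bool.rec (fun _ => ℕ) fb3286 fb3287 (Nat.ble (nat_lit 3287) i)) (Nat.ble (nat_lit 3286) i)) (Nat.ble (nat_lit 3284) i))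 (@Bool.rec (fun _ => ℕ) (@Bool.rec (fun _ => ℕ) (@Bool.rec (fun _ => ℕ) fb3288 fb3289 (Nat.ble (nat_lit 3289) i)) (@Bool.rec (fun _ => ℕ) fb3290 fb3291 (Nat.ble (nat_lit 3291) i)) (Nat.ble (nat_lit 3290) i)) (@Bool.rec (fun _ => ℕ) (@Bool.rec (fun _ => ℕ) fb3292 fb3293 (Nat.ble (nat_lit 3293) i)) (@Bool.rec (fun _ => ℕ) fb3294 fb3295 (Nat.ble (nat_lit 3295) i)) (Nat.ble (nat_lit 3294) i)) (Nat.ble (nat_lit 3292) i)) (Nat.ble (nat_lit 3288) i)) (Nat.ble (nat_lit 3280) i))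

def factBlk_n0_103 (i : ℕ) : ℕ := (@Bool.rec (fun _ => ℕ) (@Bool.rec (fun _ => ℕ) (@Bool.rec (fun _ => ℕ) (@Bool.rec (fun _ => ℕ) (@Bool.rec (fun _ => ℕ) fb3296 fb3297 (Nat.ble (nat_lit 3297) i)) (@Bool.rec (fun _ => ℕ) fb3298 fb3299 (Nat.ble (nat_lit 3299) i)) (Nat.ble (nat_lit 3298) i)) (@Bool.rec (fun _ => ℕ) (@Bool.rec (fun _ => ℕ) fb3300 fb3301 (Nat.ble (nat_lit 3301) i)) (@Bool.rec (fun _ => ℕ) fb3302 fb3303 (Nat.ble (nat_lit 3303) i)) (Nat.ble (nat_lit 3302) i)) (Nat.ble (nat_lit 3300) i)) (@Bool.rec (fun _ => ℕ) (@Bool.rec (fun _ => ℕ) (@Bool.rec (fun _ => ℕ) fb3304 fb3305 (Nat.ble (nat_lit 3305) i)) (@Bool.rec (fun _ => ℕ) fb3306 fb3307 (Nat.ble (nat_lit 3307) i)) (Nat.ble (nat_lit 3306) i)) (@Bool.rec (fun _ => ℕ) (@Bool.rec (fun _ => ℕ) fb3308 fb3309 (Nat.ble (nat_lit 3309) i)) (@Bool.rec (fun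 _ => ℕ) fb3310 fb3311 (Nat.ble (nat_lit 3311) i)) (Nat.ble (nat_lit 3310) i)) (Nat.ble (nat_lit 3308) i)) (Nat.ble (nat_lit 3304) i)) (@Bool.rec (fun _ => ℕ) (@Bool.rec (fun _ => ℕ) (@Bool.rec (fun _ => ℕ) (@Bool.rec (fun _ => ℕ) fb3312 fb3313 (Nat.ble (nat_lit 3313) i)) (@Bool.rec (fun _ => ℕ) fb3314 fb3315 (Nat.ble (nat_lit 3315) i)) (Nat.ble (nat_lit 3314) i)) (@Bool.rec (fun _ => ℕ) (@Bool.rec (fun _ => ℕ) fb3316 fb3317 (Nat.ble (nat_lit 3317) i)) (@Bool.rec (fun _ => ℕ) fb3318 fb3319 (Nat.ble (nat_lit 3319) i)) (Nat.ble (nat_lit 3318) i)) (Nat.ble (nat_lit 3316) i)) (@Bool.rec (fun _ => ℕ) (@Bool.rec (fun _ => ℕ) (@Bool.rec (fun _ => ℕ) fb3320 fb3321 (Nat.ble (nat_lit 3321) i)) (@Bool.rec (fun _ => ℕ) fb3322 fb3323 (Nat.ble (nat_lit 3323) i)) (Nat.ble (nat_lit 3322) i)) (@Bool.rec (fun _ => ℕ) (@Bool.rec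 (fun _ => ℕ) fb3324 fb3325 (Nat.ble (nat_lit 3325) i)) (@Bool.rec (fun _ => ℕ) fb3326 fb3327 (Nat.ble (nat_lit 3327) i)) (Nat.ble (nat_lit 3326) i)) (Nat.ble (nat_lit 3324) i)) (Nat.ble (nat_lit 3320) i)) (Nat.ble (nat_lit 3312) i))

def factBlk_n0_104 (i : ℕ) : ℕ := (@Bool.rec (fun _ => ℕ) (@Bool.rec (fun _ => ℕ) (@Bool.rec (fun _ => ℕ) (@Bool.rec (fun _ => ℕ) (@Bool.rec (fun _ => ℕ) fb3328 fb3329 (Nat.ble (nat_lit 3329) i)) (@Bool.rec (fun _ => ℕ) fb3330 fb3331 (Nat.ble (nat_lit 3331) i)) (Nat.ble (nat_lit 3330) i)) (@Bool.rec (fun _ => ℕ) (@Bool.rec (fun _ => ℕ) fb3332 fb3333 (Nat.ble (nat_lit 3333) i)) (@Bool.rec (fun _ => ℕ) fb3334 fb3335 (Nat.ble (nat_lit 3335) i)) (Nat.ble (nat_lit 3334) i)) (Nat.ble (nat_lit 3332) i)) (@Bool.rec (fun _ => ℕ) (@Bool.rec (fun _ => ℕ) (@Bool.rec (fun _ => ℕ) fb3336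 fb3337 (Nat.ble (nat_lit 3337) i)) (@Bool.rec (fun _ => ℕ) fb3338 fb3339 (Nat.ble (nat_lit 3339) i)) (Nat.ble (nat_lit 3338) i)) (@Bool.rec (fun _ => ℕ) (@Bool.rec (fun _ => ℕ) fb3340 fb3341 (Nat.ble (nat_lit 3341) i)) (@Bool.rec (fun _ => ℕ) fb3342 fb3343 (Nat.ble (nat_lit 3343) i)) (Nat.ble (nat_lit 3342) i)) (Nat.ble (nat_lit 3340) i)) (Nat.ble (nat_lit 3336) i)) (@Bool.rec (fun _ => ℕ) (@Bool.rec (fun _ => ℕ) (@Bool.rec (fun _ => ℕ) (@Bool.rec (fun _ => ℕ) fb3344 fb3345 (Nat.ble (nat_lit 3345) i)) (@Bool.rec (fun _ => ℕ) fb3346 fb3347 (Nat.ble (nat_lit 3347) i)) (Nat.ble (nat_lit 3346) i)) (@Bool.rec (fun _ => ℕ) (@Bool.rec (fun _ => ℕ) fb3348 fb3349 (Nat.ble (nat_lit 3349) i)) (@Bool.rec (fun _ => ℕ) fb3350 fb3351 (Nat.ble (nat_lit 3351) i)) (Nat.ble (nat_lit 3350) i)) (Nat.ble (nat_lit 3348) i))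 (@Bool.rec (fun _ => ℕ) (@Bool.rec (fun _ => ℕ) (@Bool.rec (fun _ => ℕ) fb3352 fb3353 (Nat.ble (nat_lit 3353) i)) (@Bool.rec (fun _ => ℕ) fb3354 fb3355 (Nat.ble (nat_lit 3355) i)) (Nat.ble (nat_lit 3354) i)) (@Bool.rec (fun _ => ℕ) (@Bool.rec (fun _ => ℕ) fb3356 fb3357 (Nat.ble (nat_lit 3357) i)) (@Bool.rec (fun _ => ℕ) fb3358 fb3359 (Nat.ble (nat_lit 3359) i)) (Nat.ble (nat_lit 3358) i)) (Nat.ble (nat_lit 3356) i)) (Nat.ble (nat_lit 3352) i)) (Nat.ble (nat_lit 3344) i))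

def factBlk_n0_105 (i : ℕ) : ℕ := (@Bool.rec (fun _ => ℕ) (@Bool.rec (fun _ => ℕ) (@Bool.rec (fun _ => ℕ) (@Bool.rec (fun _ => ℕ) (@Bool.rec (fun _ => ℕ) fb3360 fb3361 (Nat.ble (nat_lit 3361) i)) (@Bool.rec (fun _ => ℕ) fb3362 fb3363 (Nat.ble (nat_lit 3363) i)) (Nat.ble (nat_lit 3362) i)) (@Bool.rec (fun _ => ℕ) (@Bool.rec (fun _ => ℕ) fb3364 fb3365 (Nat.ble (nat_lit 3365) i)) (@Bool.rec (fun _ => ℕ) fb3366 fb3367 (Nat.ble (nat_lit 3367) i)) (Nat.ble (nat_lit 3366) i)) (Nat.ble (nat_lit 3364) i)) (@Bool.rec (fun _ => ℕ) (@Bool.rec (fun _ => ℕ) (@Bool.rec (fun _ => ℕ) fb3368 fb3369 (Nat.ble (nat_lit 3369) i)) (@Bool.rec (fun _ => ℕ) fb3370 fb3371 (Nat.ble (nat_lit 3371) i)) (Nat.ble (nat_lit 3370) i)) (@Bool.rec (fun _ => ℕ) (@Bool.rec (fun _ => ℕ) fb3372 fb3373 (Nat.ble (nat_lit 3373) i)) (@Bool.rec (fun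 _ => ℕ) fb3374 fb3375 (Nat.ble (nat_lit 3375) i)) (Nat.ble (nat_lit 3374) i)) (Nat.ble (nat_lit 3372) i)) (Nat.ble (nat_lit 3368) i)) (@Bool.rec (fun _ => ℕ) (@Bool.rec (fun _ => ℕ) (@Bool.rec (fun _ => ℕ) (@Bool.rec (fun _ => ℕ) fb3376 fb3377 (Nat.ble (nat_lit 3377) i)) (@Bool.rec (fun _ => ℕ) fb3378 fb3379 (Nat.ble (nat_lit 3379) i)) (Nat.ble (nat_lit 3378) i)) (@Bool.rec (fun _ => ℕ) (@Bool.rec (fun _ => ℕ) fb3380 fb3381 (Nat.ble (nat_lit 3381) i)) (@Bool.rec (fun _ => ℕ) fb3382 fb3383 (Nat.ble (nat_lit 3383) i)) (Nat.ble (nat_lit 3382) i)) (Nat.ble (nat_lit 3380) i)) (@Bool.rec (fun _ => ℕ) (@Bool.rec (fun _ => ℕ) (@Bool.rec (fun _ => ℕ) fb3384 fb3385 (Nat.ble (nat_lit 3385) i)) (@Bool.rec (fun _ => ℕ) fb3386 fb3387 (Nat.ble (nat_lit 3387) i)) (Nat.ble (nat_lit 3386) i)) (@Bool.rec (fun _ => ℕ) (@Bool.rec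 (fun _ => ℕ) fb3388 fb3389 (Nat.ble (nat_lit 3389) i)) (@Bool.rec (fun _ => ℕ) fb3390 fb3391 (Nat.ble (nat_lit 3391) i)) (Nat.ble (nat_lit 3390) i)) (Nat.ble (nat_lit 3388) i)) (Nat.ble (nat_lit 3384) i)) (Nat.ble (nat_lit 3376) i))

def factBlk_n0_106 (i : ℕ) : ℕ := (@Bool.rec (fun _ => ℕ) (@Bool.rec (fun _ => ℕ) (@Bool.rec (fun _ => ℕ) (@Bool.rec (fun _ => ℕ) (@Bool.rec (fun _ => ℕ) fb3392 fb3393 (Nat.ble (nat_lit 3393) i)) (@Bool.rec (fun _ => ℕ) fb3394 fb3395 (Nat.ble (nat_lit 3395) i)) (Nat.ble (nat_lit 3394) i)) (@Bool.rec (fun _ => ℕ) (@Bool.rec (fun _ => ℕ) fb3396 fb3397 (Nat.ble (nat_lit 3397) i)) (@Bool.rec (fun _ => ℕ) fb3398 fb3399 (Nat.ble (nat_lit 3399) i)) (Nat.ble (nat_lit 3398) i)) (Nat.ble (nat_lit 3396) i)) (@Bool.rec (fun _ => ℕ) (@Bool.rec (fun _ => ℕ) (@Bool.rec (fun _ => ℕ) fb3400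 fb3401 (Nat.ble (nat_lit 3401) i)) (@Bool.rec (fun _ => ℕ) fb3402 fb3403 (Nat.ble (nat_lit 3403) i)) (Nat.ble (nat_lit 3402) i)) (@Bool.rec (fun _ => ℕ) (@Bool.rec (fun _ => ℕ) fb3404 fb3405 (Nat.ble (nat_lit 3405) i)) (@Bool.rec (fun _ => ℕ) fb3406 fb3407 (Nat.ble (nat_lit 3407) i)) (Nat.ble (nat_lit 3406) i)) (Nat.ble (nat_lit 3404) i)) (Nat.ble (nat_lit 3400) i)) (@Bool.rec (fun _ => ℕ) (@Bool.rec (fun _ => ℕ) (@Bool.rec (fun _ => ℕ) (@Bool.rec (fun _ => ℕ) fb3408 fb3409 (Nat.ble (nat_lit 3409) i)) (@Bool.rec (fun _ => ℕ) fb3410 fb3411 (Nat.ble (nat_lit 3411) i)) (Nat.ble (nat_lit 3410) i)) (@Bool.rec (fun _ => ℕ) (@Bool.rec (fun _ => ℕ) fb3412 fb3413 (Nat.ble (nat_lit 3413) i)) (@Bool.rec (fun _ => ℕ) fb3414 fb3415 (Nat.ble (nat_lit 3415) i)) (Nat.ble (nat_lit 3414) i)) (Nat.ble (nat_lit 3412) i))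 (@Bool.rec (fun _ => ℕ) (@Bool.rec (fun _ => ℕ) (@Bool.rec (fun _ => ℕ) fb3416 fb3417 (Nat.ble (nat_lit 3417) i)) (@Bool.rec (fun _ => ℕ) fb3418 fb3419 (Nat.ble (nat_lit 3419) i)) (Nat.ble (nat_lit 3418) i)) (@Bool.rec (fun _ => ℕ) (@Bool.rec (fun _ => ℕ) fb3420 fb3421 (Nat.ble (nat_lit 3421) i)) (@Bool.rec (fun _ => ℕ) fb3422 fb3423 (Nat.ble (nat_lit 3423) i)) (Nat.ble (nat_lit 3422) i)) (Nat.ble (nat_lit 3420) i)) (Nat.ble (nat_lit 3416) i)) (Nat.ble (nat_lit 3408) i))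

def factBlk_n0_107 (i : ℕ) : ℕ := (@Bool.rec (fun _ => ℕ) (@Bool.rec (fun _ => ℕ) (@Bool.rec (fun _ => ℕ) (@Bool.rec (fun _ => ℕ) (@Bool.rec (fun _ => ℕ) fb3424 fb3425 (Nat.ble (nat_lit 3425) i)) (@Bool.rec (fun _ => ℕ) fb3426 fb3427 (Nat.ble (nat_lit 3427) i)) (Nat.ble (nat_lit 3426) i)) (@Bool.rec (fun _ => ℕ) (@Bool.rec (fun _ => ℕ) fb3428 fb3429 (Nat.ble (nat_lit 3429) i)) (@Bool.rec (fun _ => ℕ) fb3430 fb3431 (Nat.ble (nat_lit 3431) i)) (Nat.ble (nat_lit 3430) i)) (Nat.ble (nat_lit 3428) i)) (@Bool.rec (fun _ => ℕ) (@Bool.rec (fun _ => ℕ) (@Bool.rec (fun _ => ℕ) fb3432 fb3433 (Nat.ble (nat_lit 3433) i)) (@Bool.rec (fun _ => ℕ) fb3434 fb3435 (Nat.ble (nat_lit 3435) i)) (Nat.ble (nat_lit 3434) i)) (@Bool.rec (fun _ => ℕ) (@Bool.rec (fun _ => ℕ) fb3436 fb3437 (Nat.ble (nat_lit 3437) i)) (@Bool.rec (fun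 _ => ℕ) fb3438 fb3439 (Nat.ble (nat_lit 3439) i)) (Nat.ble (nat_lit 3438) i)) (Nat.ble (nat_lit 3436) i)) (Nat.ble (nat_lit 3432) i)) (@Bool.rec (fun _ => ℕ) (@Bool.rec (fun _ => ℕ) (@Bool.rec (fun _ => ℕ) (@Bool.rec (fun _ => ℕ) fb3440 fb3441 (Nat.ble (nat_lit 3441) i)) (@Bool.rec (fun _ => ℕ) fb3442 fb3443 (Nat.ble (nat_lit 3443) i)) (Nat.ble (nat_lit 3442) i)) (@Bool.rec (fun _ => ℕ) (@Bool.rec (fun _ => ℕ) fb3444 fb3445 (Nat.ble (nat_lit 3445) i)) (@Bool.rec (fun _ => ℕ) fb3446 fb3447 (Nat.ble (nat_lit 3447) i)) (Nat.ble (nat_lit 3446) i)) (Nat.ble (nat_lit 3444) i)) (@Bool.rec (fun _ => ℕ) (@Bool.rec (fun _ => ℕ) (@Bool.rec (fun _ => ℕ) fb3448 fb3449 (Nat.ble (nat_lit 3449) i)) (@Bool.rec (fun _ => ℕ) fb3450 fb3451 (Nat.ble (nat_lit 3451) i)) (Nat.ble (nat_lit 3450) i)) (@Bool.rec (fun _ => ℕ) (@Bool.rec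 (fun _ => ℕ) fb3452 fb3453 (Nat.ble (nat_lit 3453) i)) (@Bool.rec (fun _ => ℕ) fb3454 fb3455 (Nat.ble (nat_lit 3455) i)) (Nat.ble (nat_lit 3454) i)) (Nat.ble (nat_lit 3452) i)) (Nat.ble (nat_lit 3448) i)) (Nat.ble (nat_lit 3440) i))

def factBlk_n0_108 (i : ℕ) : ℕ := (@Bool.rec (fun _ => ℕ) (@Bool.rec (fun _ => ℕ) (@Bool.rec (fun _ => ℕ) (@Bool.rec (fun _ => ℕ) (@Bool.rec (fun _ => ℕ) fb3456 fb3457 (Nat.ble (nat_lit 3457) i)) (@Bool.rec (fun _ => ℕ) fb3458 fb3459 (Nat.ble (nat_lit 3459) i)) (Nat.ble (nat_lit 3458) i)) (@Bool.rec (fun _ => ℕ) (@Bool.rec (fun _ => ℕ) fb3460 fb3461 (Nat.ble (nat_lit 3461) i)) (@Bool.rec (fun _ => ℕ) fb3462 fb3463 (Nat.ble (nat_lit 3463) i)) (Nat.ble (nat_lit 3462) i)) (Nat.ble (nat_lit 3460) i)) (@Bool.rec (fun _ => ℕ) (@Bool.rec (fun _ => ℕ) (@Bool.rec (fun _ => ℕ) fb3464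 fb3465 (Nat.ble (nat_lit 3465) i)) (@Bool.rec (fun _ => ℕ) fb3466 fb3467 (Nat.ble (nat_lit 3467) i)) (Nat.ble (nat_lit 3466) i)) (@Bool.rec (fun _ => ℕ) (@Bool.rec (fun _ => ℕ) fb3468 fb3469 (Nat.ble (nat_lit 3469) i)) (@Bool.rec (fun _ => ℕ) fb3470 fb3471 (Nat.ble (nat_lit 3471) i)) (Nat.ble (nat_lit 3470) i)) (Nat.ble (nat_lit 3468) i)) (Nat.ble (nat_lit 3464) i)) (@Bool.rec (fun _ => ℕ) (@Bool.rec (fun _ => ℕ) (@Bool.rec (fun _ => ℕ) (@Bool.rec (fun _ => ℕ) fb3472 fb3473 (Nat.ble (nat_lit 3473) i)) (@Bool.rec (fun _ => ℕ) fb3474 fb3475 (Nat.ble (nat_lit 3475) i)) (Nat.ble (nat_lit 3474) i)) (@Bool.rec (fun _ => ℕ) (@Bool.rec (fun _ => ℕ) fb3476 fb3477 (Nat.ble (nat_lit 3477) i)) (@Bool.rec (fun _ => ℕ) fb3478 fb3479 (Nat.ble (nat_lit 3479) i)) (Nat.ble (nat_lit 3478) i)) (Nat.ble (nat_lit 3476) i))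 (@Bool.rec (fun _ => ℕ) (@Bool.rec (fun _ => ℕ) (@Bool.rec (fun _ => ℕ) fb3480 fb3481 (Nat.ble (nat_lit 3481) i)) (@Bool.rec (fun _ => ℕ) fb3482 fb3483 (Nat.ble (nat_lit 3483) i)) (Nat.ble (nat_lit 3482) i)) (@Bool.rec (fun _ => ℕ) (@Bool.rec (fun _ => ℕ) fb3484 fb3485 (Nat.ble (nat_lit 3485) i)) (@Bool.rec (fun _ => ℕ) fb3486 fb3487 (Nat.ble (nat_lit 3487) i)) (Nat.ble (nat_lit 3486) i)) (Nat.ble (nat_lit 3484) i)) (Nat.ble (nat_lit 3480) i)) (Nat.ble (nat_lit 3472) i))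

def factBlk_n0_109 (i : ℕ) : ℕ := (@Bool.rec (fun _ => ℕ) (@Bool.rec (fun _ => ℕ) (@Bool.rec (fun _ => ℕ) (@Bool.rec (fun _ => ℕ) (@Bool.rec (fun _ => ℕ) fb3488 fb3489 (Nat.ble (nat_lit 3489) i)) (@Bool.rec (fun _ => ℕ) fb3490 fb3491 (Nat.ble (nat_lit 3491) i)) (Nat.ble (nat_lit 3490) i)) (@Bool.rec (fun _ => ℕ) (@Bool.rec (fun _ => ℕ) fb3492 fb3493 (Nat.ble (nat_lit 3493) i)) (@Bool.rec (fun _ => ℕ) fb3494 fb3495 (Nat.ble (nat_lit 3495) i)) (Nat.ble (nat_lit 3494) i)) (Nat.ble (nat_lit 3492) i)) (@Bool.rec (fun _ => ℕ) (@Bool.rec (fun _ => ℕ) (@Bool.rec (fun _ => ℕ) fb3496 fb3497 (Nat.ble (nat_lit 3497) i)) (@Bool.rec (fun _ => ℕ) fb3498 fb3499 (Nat.ble (nat_lit 3499) i)) (Nat.ble (nat_lit 3498) i)) (@Bool.rec (fun _ => ℕ) (@Bool.rec (fun _ => ℕ) fb3500 fb3501 (Nat.ble (nat_lit 3501) i)) (@Bool.rec (fun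 _ => ℕ) fb3502 fb3503 (Nat.ble (nat_lit 3503) i)) (Nat.ble (nat_lit 3502) i)) (Nat.ble (nat_lit 3500) i)) (Nat.ble (nat_lit 3496) i)) (@Bool.rec (fun _ => ℕ) (@Bool.rec (fun _ => ℕ) (@Bool.rec (fun _ => ℕ) (@Bool.rec (fun _ => ℕ) fb3504 fb3505 (Nat.ble (nat_lit 3505) i)) (@Bool.rec (fun _ => ℕ) fb3506 fb3507 (Nat.ble (nat_lit 3507) i)) (Nat.ble (nat_lit 3506) i)) (@Bool.rec (fun _ => ℕ) (@Bool.rec (fun _ => ℕ) fb3508 fb3509 (Nat.ble (nat_lit 3509) i)) (@Bool.rec (fun _ => ℕ) fb3510 fb3511 (Nat.ble (nat_lit 3511) i)) (Nat.ble (nat_lit 3510) i)) (Nat.ble (nat_lit 3508) i)) (@Bool.rec (fun _ => ℕ) (@Bool.rec (fun _ => ℕ) (@Bool.rec (fun _ => ℕ) fb3512 fb3513 (Nat.ble (nat_lit 3513) i)) (@Bool.rec (fun _ => ℕ) fb3514 fb3515 (Nat.ble (nat_lit 3515) i)) (Nat.ble (nat_lit 3514) i)) (@Bool.rec (fun _ => ℕ) (@Bool.rec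 (fun _ => ℕ) fb3516 fb3517 (Nat.ble (nat_lit 3517) i)) (@Bool.rec (fun _ => ℕ) fb3518 fb3519 (Nat.ble (nat_lit 3519) i)) (Nat.ble (nat_lit 3518) i)) (Nat.ble (nat_lit 3516) i)) (Nat.ble (nat_lit 3512) i)) (Nat.ble (nat_lit 3504) i))

def factBlk_n0_110 (i : ℕ) : ℕ := (@Bool.rec (fun _ => ℕ) (@Bool.rec (fun _ => ℕ) (@Bool.rec (fun _ => ℕ) (@Bool.rec (fun _ => ℕ) (@Bool.rec (fun _ => ℕ) fb3520 fb3521 (Nat.ble (nat_lit 3521) i)) (@Bool.rec (fun _ => ℕ) fb3522 fb3523 (Nat.ble (nat_lit 3523) i)) (Nat.ble (nat_lit 3522) i)) (@Bool.rec (fun _ => ℕ) (@Bool.rec (fun _ => ℕ) fb3524 fb3525 (Nat.ble (nat_lit 3525) i)) (@Bool.rec (fun _ => ℕ) fb3526 fb3527 (Nat.ble (nat_lit 3527) i)) (Nat.ble (nat_lit 3526) i)) (Nat.ble (nat_lit 3524) i)) (@Bool.rec (fun _ => ℕ) (@Bool.rec (fun _ => ℕ) (@Bool.rec (fun _ => ℕ) fb3528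 fb3529 (Nat.ble (nat_lit 3529) i)) (@Bool.rec (fun _ => ℕ) fb3530 fb3531 (Nat.ble (nat_lit 3531) i)) (Nat.ble (nat_lit 3530) i)) (@Bool.rec (fun _ => ℕ) (@Bool.rec (fun _ => ℕ) fb3532 fb3533 (Nat.ble (nat_lit 3533) i)) (@Bool.rec (fun _ => ℕ) fb3534 fb3535 (Nat.ble (nat_lit 3535) i)) (Nat.ble (nat_lit 3534) i)) (Nat.ble (nat_lit 3532) i)) (Nat.ble (nat_lit 3528) i)) (@Bool.rec (fun _ => ℕ) (@Bool.rec (fun _ => ℕ) (@Bool.rec (fun _ => ℕ) (@Bool.rec (fun _ => ℕ) fb3536 fb3537 (Nat.ble (nat_lit 3537) i)) (@Bool.rec (fun _ => ℕ) fb3538 fb3539 (Nat.ble (nat_lit 3539) i)) (Nat.ble (nat_lit 3538) i)) (@Bool.rec (fun _ => ℕ) (@Bool.rec (fun _ => ℕ) fb3540 fb3541 (Nat.ble (nat_lit 3541) i)) (@Bool.rec (fun _ => ℕ) fb3542 fb3543 (Nat.ble (nat_lit 3543) i)) (Nat.ble (nat_lit 3542) i)) (Nat.ble (nat_lit 3540) i))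 (@Bool.rec (fun _ => ℕ) (@Bool.rec (fun _ => ℕ) (@Bool.rec (fun _ => ℕ) fb3544 fb3545 (Nat.ble (nat_lit 3545) i)) (@Bool.rec (fun _ => ℕ) fb3546 fb3547 (Nat.ble (nat_lit 3547) i)) (Nat.ble (nat_lit 3546) i)) (@Bool.rec (fun _ => ℕ) (@Bool.rec (fun _ => ℕ) fb3548 fb3549 (Nat.ble (nat_lit 3549) i)) (@Bool.rec (fun _ => ℕ) fb3550 fb3551 (Nat.ble (nat_lit 3551) i)) (Nat.ble (nat_lit 3550) i)) (Nat.ble (nat_lit 3548) i)) (Nat.ble (nat_lit 3544) i)) (Nat.ble (nat_lit 3536) i))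

def factBlk_n0_111 (i : ℕ) : ℕ := (@Bool.rec (fun _ => ℕ) (@Bool.rec (fun _ => ℕ) (@Bool.rec (fun _ => ℕ) (@Bool.rec (fun _ => ℕ) (@Bool.rec (fun _ => ℕ) fb3552 fb3553 (Nat.ble (nat_lit 3553) i)) (@Bool.rec (fun _ => ℕ) fb3554 fb3555 (Nat.ble (nat_lit 3555) i)) (Nat.ble (nat_lit 3554) i)) (@Bool.rec (fun _ => ℕ) (@Bool.rec (fun _ => ℕ) fb3556 fb3557 (Nat.ble (nat_lit 3557) i)) (@Bool.rec (fun _ => ℕ) fb3558 fb3559 (Nat.ble (nat_lit 3559) i)) (Nat.ble (nat_lit 3558) i)) (Nat.ble (nat_lit 3556) i)) (@Bool.rec (fun _ => ℕ) (@Bool.rec (fun _ => ℕ) (@Bool.rec (fun _ => ℕ) fb3560 fb3561 (Nat.ble (nat_lit 3561) i)) (@Bool.rec (fun _ => ℕ) fb3562 fb3563 (Nat.ble (nat_lit 3563) i)) (Nat.ble (nat_lit 3562) i)) (@Bool.rec (fun _ => ℕ) (@Bool.rec (fun _ => ℕ) fb3564 fb3565 (Nat.ble (nat_lit 3565) i)) (@Bool.rec (fun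 _ => ℕ) fb3566 fb3567 (Nat.ble (nat_lit 3567) i)) (Nat.ble (nat_lit 3566) i)) (Nat.ble (nat_lit 3564) i)) (Nat.ble (nat_lit 3560) i)) (@Bool.rec (fun _ => ℕ) (@Bool.rec (fun _ => ℕ) (@Bool.rec (fun _ => ℕ) (@Bool.rec (fun _ => ℕ) fb3568 fb3569 (Nat.ble (nat_lit 3569) i)) (@Bool.rec (fun _ => ℕ) fb3570 fb3571 (Nat.ble (nat_lit 3571) i)) (Nat.ble (nat_lit 3570) i)) (@Bool.rec (fun _ => ℕ) (@Bool.rec (fun _ => ℕ) fb3572 fb3573 (Nat.ble (nat_lit 3573) i)) (@Bool.rec (fun _ => ℕ) fb3574 fb3575 (Nat.ble (nat_lit 3575) i)) (Nat.ble (nat_lit 3574) i)) (Nat.ble (nat_lit 3572) i)) (@Bool.rec (fun _ => ℕ) (@Bool.rec (fun _ => ℕ) (@Bool.rec (fun _ => ℕ) fb3576 fb3577 (Nat.ble (nat_lit 3577) i)) (@Bool.rec (fun _ => ℕ) fb3578 fb3579 (Nat.ble (nat_lit 3579) i)) (Nat.ble (nat_lit 3578) i)) (@Bool.rec (fun _ => ℕ) (@Bool.rec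 (fun _ => ℕ) fb3580 fb3581 (Nat.ble (nat_lit 3581) i)) (@Bool.rec (fun _ => ℕ) fb3582 fb3583 (Nat.ble (nat_lit 3583) i)) (Nat.ble (nat_lit 3582) i)) (Nat.ble (nat_lit 3580) i)) (Nat.ble (nat_lit 3576) i)) (Nat.ble (nat_lit 3568) i))

def factBlk_n0_112 (i : ℕ) : ℕ := (@Bool.rec (fun _ => ℕ) (@Bool.rec (fun _ => ℕ) (@Bool.rec (fun _ => ℕ) (@Bool.rec (fun _ => ℕ) (@Bool.rec (fun _ => ℕ) fb3584 fb3585 (Nat.ble (nat_lit 3585) i)) (@Bool.rec (fun _ => ℕ) fb3586 fb3587 (Nat.ble (nat_lit 3587) i)) (Nat.ble (nat_lit 3586) i)) (@Bool.rec (fun _ => ℕ) (@Bool.rec (fun _ => ℕ) fb3588 fb3589 (Nat.ble (nat_lit 3589) i)) (@Bool.rec (fun _ => ℕ) fb3590 fb3591 (Nat.ble (nat_lit 3591) i)) (Nat.ble (nat_lit 3590) i)) (Nat.ble (nat_lit 3588) i)) (@Bool.rec (fun _ => ℕ) (@Bool.rec (fun _ => ℕ) (@Bool.rec (fun _ => ℕ) fb3592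 fb3593 (Nat.ble (nat_lit 3593) i)) (@Bool.rec (fun _ => ℕ) fb3594 fb3595 (Nat.ble (nat_lit 3595) i)) (Nat.ble (nat_lit 3594) i)) (@Bool.rec (fun _ => ℕ) (@Bool.rec (fun _ => ℕ) fb3596 fb3597 (Nat.ble (nat_lit 3597) i)) (@Bool.rec (fun _ => ℕ) fb3598 fb3599 (Nat.ble (nat_lit 3599) i)) (Nat.ble (nat_lit 3598) i)) (Nat.ble (nat_lit 3596) i)) (Nat.ble (nat_lit 3592) i)) (@Bool.rec (fun _ => ℕ) (@Bool.rec (fun _ => ℕ) (@Bool.rec (fun _ => ℕ) (@Bool.rec (fun _ => ℕ) fb3600 fb3601 (Nat.ble (nat_lit 3601) i)) (@Bool.rec (fun _ => ℕ) fb3602 fb3603 (Nat.ble (nat_lit 3603) i)) (Nat.ble (nat_lit 3602) i)) (@Bool.rec (fun _ => ℕ) (@Bool.rec (fun _ => ℕ) fb3604 fb3605 (Nat.ble (nat_lit 3605) i)) (@Bool.rec (fun _ => ℕ) fb3606 fb3607 (Nat.ble (nat_lit 3607) i)) (Nat.ble (nat_lit 3606) i)) (Nat.ble (nat_lit 3604) i))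 (@Bool.rec (fun _ => ℕ) (@Bool.rec (fun _ => ℕ) (@Bool.rec (fun _ => ℕ) fb3608 fb3609 (Nat.ble (nat_lit 3609) i)) (@Bool.rec (fun _ => ℕ) fb3610 fb3611 (Nat.ble (nat_lit 3611) i)) (Nat.ble (nat_lit 3610) i)) (@Bool.rec (fun _ => ℕ) (@Bool.rec (fun _ => ℕ) fb3612 fb3613 (Nat.ble (nat_lit 3613) i)) (@Bool.rec (fun _ => ℕ) fb3614 fb3615 (Nat.ble (nat_lit 3615) i)) (Nat.ble (nat_lit 3614) i)) (Nat.ble (nat_lit 3612) i)) (Nat.ble (nat_lit 3608) i)) (Nat.ble (nat_lit 3600) i))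

def factBlk_n0_113 (i : ℕ) : ℕ := (@Bool.rec (fun _ => ℕ) (@Bool.rec (fun _ => ℕ) (@Bool.rec (fun _ => ℕ) (@Bool.rec (fun _ => ℕ) (@Bool.rec (fun _ => ℕ) fb3616 fb3617 (Nat.ble (nat_lit 3617) i)) (@Bool.rec (fun _ => ℕ) fb3618 fb3619 (Nat.ble (nat_lit 3619) i)) (Nat.ble (nat_lit 3618) i)) (@Bool.rec (fun _ => ℕ) (@Bool.rec (fun _ => ℕ) fb3620 fb3621 (Nat.ble (nat_lit 3621) i)) (@Bool.rec (fun _ => ℕ) fb3622 fb3623 (Nat.ble (nat_lit 3623) i)) (Nat.ble (nat_lit 3622) i)) (Nat.ble (nat_lit 3620) i)) (@Bool.rec (fun _ => ℕ) (@Bool.rec (fun _ => ℕ) (@Bool.rec (fun _ => ℕ) fb3624 fb3625 (Nat.ble (nat_lit 3625) i)) (@Bool.rec (fun _ => ℕ) fb3626 fb3627 (Nat.ble (nat_lit 3627) i)) (Nat.ble (nat_lit 3626) i)) (@Bool.rec (fun _ => ℕ) (@Bool.rec (fun _ => ℕ) fb3628 fb3629 (Nat.ble (nat_lit 3629) i)) (@Bool.rec (fun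 _ => ℕ) fb3630 fb3631 (Nat.ble (nat_lit 3631) i)) (Nat.ble (nat_lit 3630) i)) (Nat.ble (nat_lit 3628) i)) (Nat.ble (nat_lit 3624) i)) (@Bool.rec (fun _ => ℕ) (@Bool.rec (fun _ => ℕ) (@Bool.rec (fun _ => ℕ) (@Bool.rec (fun _ => ℕ) fb3632 fb3633 (Nat.ble (nat_lit 3633) i)) (@Bool.rec (fun _ => ℕ) fb3634 fb3635 (Nat.ble (nat_lit 3635) i)) (Nat.ble (nat_lit 3634) i)) (@Bool.rec (fun _ => ℕ) (@Bool.rec (fun _ => ℕ) fb3636 fb3637 (Nat.ble (nat_lit 3637) i)) (@Bool.rec (fun _ => ℕ) fb3638 fb3639 (Nat.ble (nat_lit 3639) i)) (Nat.ble (nat_lit 3638) i)) (Nat.ble (nat_lit 3636) i)) (@Bool.rec (fun _ => ℕ) (@Bool.rec (fun _ => ℕ) (@Bool.rec (fun _ => ℕ) fb3640 fb3641 (Nat.ble (nat_lit 3641) i)) (@Bool.rec (fun _ => ℕ) fb3642 fb3643 (Nat.ble (nat_lit 3643) i)) (Nat.ble (nat_lit 3642) i)) (@Bool.rec (fun _ => ℕ) (@Bool.rec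 (fun _ => ℕ) fb3644 fb3645 (Nat.ble (nat_lit 3645) i)) (@Bool.rec (fun _ => ℕ) fb3646 fb3647 (Nat.ble (nat_lit 3647) i)) (Nat.ble (nat_lit 3646) i)) (Nat.ble (nat_lit 3644) i)) (Nat.ble (nat_lit 3640) i)) (Nat.ble (nat_lit 3632) i))

def factBlk_n0_114 (i : ℕ) : ℕ := (@Bool.rec (fun _ => ℕ) (@Bool.rec (fun _ => ℕ) (@Bool.rec (fun _ => ℕ) (@Bool.rec (fun _ => ℕ) (@Bool.rec (fun _ => ℕ) fb3648 fb3649 (Nat.ble (nat_lit 3649) i)) (@Bool.rec (fun _ => ℕ) fb3650 fb3651 (Nat.ble (nat_lit 3651) i)) (Nat.ble (nat_lit 3650) i)) (@Bool.rec (fun _ => ℕ) (@Bool.rec (fun _ => ℕ) fb3652 fb3653 (Nat.ble (nat_lit 3653) i)) (@Bool.rec (fun _ => ℕ) fb3654 fb3655 (Nat.ble (nat_lit 3655) i)) (Nat.ble (nat_lit 3654) i)) (Nat.ble (nat_lit 3652) i)) (@Bool.rec (fun _ => ℕ) (@Bool.rec (fun _ => ℕ) (@Bool.rec (fun _ => ℕ) fb3656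 fb3657 (Nat.ble (nat_lit 3657) i)) (@Bool.rec (fun _ => ℕ) fb3658 fb3659 (Nat.ble (nat_lit 3659) i)) (Nat.ble (nat_lit 3658) i)) (@Bool.rec (fun _ => ℕ) (@Bool.rec (fun _ => ℕ) fb3660 fb3661 (Nat.ble (nat_lit 3661) i)) (@Bool.rec (fun _ => ℕ) fb3662 fb3663 (Nat.ble (nat_lit 3663) i)) (Nat.ble (nat_lit 3662) i)) (Nat.ble (nat_lit 3660) i)) (Nat.ble (nat_lit 3656) i)) (@Bool.rec (fun _ => ℕ) (@Bool.rec (fun _ => ℕ) (@Bool.rec (fun _ => ℕ) (@Bool.rec (fun _ => ℕ) fb3664 fb3665 (Nat.ble (nat_lit 3665) i)) (@Bool.rec (fun _ => ℕ) fb3666 fb3667 (Nat.ble (nat_lit 3667) i)) (Nat.ble (nat_lit 3666) i)) (@Bool.rec (fun _ => ℕ) (@Bool.rec (fun _ => ℕ) fb3668 fb3669 (Nat.ble (nat_lit 3669) i)) (@Bool.rec (fun _ => ℕ) fb3670 fb3671 (Nat.ble (nat_lit 3671) i)) (Nat.ble (nat_lit 3670) i)) (Nat.ble (nat_lit 3668) i))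 (@Bool.rec (fun _ => ℕ) (@Bool.rec (fun _ => ℕ) (@Bool.rec (fun _ => ℕ) fb3672 fb3673 (Nat.ble (nat_lit 3673) i)) (@Bool.rec (fun _ => ℕ) fb3674 fb3675 (Nat.ble (nat_lit 3675) i)) (Nat.ble (nat_lit 3674) i)) (@Bool.rec (fun _ => ℕ) (@Bool.rec (fun _ => ℕ) fb3676 fb3677 (Nat.ble (nat_lit 3677) i)) (@Bool.rec (fun _ => ℕ) fb3678 fb3679 (Nat.ble (nat_lit 3679) i)) (Nat.ble (nat_lit 3678) i)) (Nat.ble (nat_lit 3676) i)) (Nat.ble (nat_lit 3672) i)) (Nat.ble (nat_lit 3664) i))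

def factBlk_n0_115 (i : ℕ) : ℕ := (@Bool.rec (fun _ => ℕ) (@Bool.rec (fun _ => ℕ) (@Bool.rec (fun _ => ℕ) fb3680 fb3681 (Nat.ble (nat_lit 3681) i)) (@Bool.rec (fun _ => ℕ) fb3682 fb3683 (Nat.ble (nat_lit 3683) i)) (Nat.ble (nat_lit 3682) i)) (@Bool.rec (fun _ => ℕ) (@Bool.rec (fun _ => ℕ) fb3684 fb3685 (Nat.ble (nat_lit 3685) i)) (@Bool.rec (fun _ => ℕ) fb3686 fb3687 (Nat.ble (nat_lit 3687) i)) (Nat.ble (nat_lit 3686) i)) (Nat.ble (nat_lit 3684) i))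

def factBlk_n1_0 (i : ℕ) : ℕ := (@Bool.rec (fun _ => ℕ) (@Bool.rec (fun _ => ℕ) (@Bool.rec (fun _ => ℕ) (@Bool.rec (fun _ => ℕ) (@Bool.rec (fun _ => ℕ) (factBlk_n0_0 i) (factBlk_n0_1 i) (Nat.ble (nat_lit 32) i)) (@Bool.rec (fun _ => ℕ) (factBlk_n0_2 i) (factBlk_n0_3 i) (Nat.ble (nat_lit 96) i)) (Nat.ble (nat_lit 64) i)) (@Bool.rec (fun _ => ℕ) (@Bool.rec (fun _ => ℕ) (factBlk_n0_4 i) (factBlk_n0_5 i) (Nat.ble (nat_lit 160) i)) (@Bool.rec (fun _ => ℕ) (factBlk_n0_6 i) (factBlk_n0_7 i) (Nat.ble (nat_lit 224) i)) (Nat.ble (nat_lit 192) i)) (Nat.ble (nat_lit 128) i)) (@Bool.rec (fun _ => ℕ) (@Bool.rec (fun _ => ℕ) (@Bool.rec (fun _ => ℕ) (factBlk_n0_8 i) (factBlk_n0_9 i) (Nat.ble (nat_lit 288) i)) (@Bool.rec (fun _ => ℕ) (factBlk_n0_10 i) (factBlk_n0_11 i) (Nat.ble (nat_lit 352) i)) (Nat.ble (nat_lit 320)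 i)) (@Bool.rec (fun _ => ℕ) (@Bool.rec (fun _ => ℕ) (factBlk_n0_12 i) (factBlk_n0_13 i) (Nat.ble (nat_lit 416) i)) (@Bool.rec (fun _ => ℕ) (factBlk_n0_14 i) (factBlk_n0_15 i) (Nat.ble (nat_lit 480) i)) (Nat.ble (nat_lit 448) i)) (Nat.ble (nat_lit 384) i)) (Nat.ble (nat_lit 256) i)) (@Bool.rec (fun _ => ℕ) (@Bool.rec (fun _ => ℕ) (@Bool.rec (fun _ => ℕ) (@Bool.rec (fun _ => ℕ) (factBlk_n0_16 i) (factBlk_n0_17 i) (Nat.ble (nat_lit 544) i)) (@Bool.rec (fun _ => ℕ) (factBlk_n0_18 i) (factBlk_n0_19 i) (Nat.ble (nat_lit 608) i)) (Nat.ble (nat_lit 576) i)) (@Bool.rec (fun _ => ℕ) (@Bool.rec (fun _ => ℕ) (factBlk_n0_20 i) (factBlk_n0_21 i) (Nat.ble (nat_lit 672) i)) (@Bool.rec (fun _ => ℕ) (factBlk_n0_22 i) (factBlk_n0_23 i) (Nat.ble (nat_lit 736) i)) (Nat.ble (nat_lit 704) i)) (Nat.ble (nat_lit 640) i)) (@Bool.rec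 (fun _ => ℕ) (@Bool.rec (fun _ => ℕ) (@Bool.rec (fun _ => ℕ) (factBlk_n0_24 i) (factBlk_n0_25 i) (Nat.ble (nat_lit 800) i)) (@Bool.rec (fun _ => ℕ) (factBlk_n0_26 i) (factBlk_n0_27 i) (Nat.ble (nat_lit 864) i)) (Nat.ble (nat_lit 832) i)) (@Bool.rec (fun _ => ℕ) (@Bool.rec (fun _ => ℕ) (factBlk_n0_28 i) (factBlk_n0_29 i) (Nat.ble (nat_lit 928) i)) (@Bool.rec (fun _ => ℕ) (factBlk_n0_30 i) (factBlk_n0_31 i) (Nat.ble (nat_lit 992) i)) (Nat.ble (nat_lit 960) i)) (Nat.ble (nat_lit 896) i)) (Nat.ble (nat_lit 768) i)) (Nat.ble (nat_lit 512) i))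

def factBlk_n1_1 (i : ℕ) : ℕ := (@Bool.rec (fun _ => ℕ) (@Bool.rec (fun _ => ℕ) (@Bool.rec (fun _ => ℕ) (@Bool.rec (fun _ => ℕ) (@Bool.rec (fun _ => ℕ) (factBlk_n0_32 i) (factBlk_n0_33 i) (Nat.ble (nat_lit 1056) i)) (@Bool.rec (fun _ => ℕ) (factBlk_n0_34 i) (factBlk_n0_35 i) (Nat.ble (nat_lit 1120) i)) (Nat.ble (nat_lit 1088) i)) (@Bool.rec (fun _ => ℕ) (@Bool.rec (fun _ => ℕ) (factBlk_n0_36 i) (factBlk_n0_37 i) (Nat.ble (nat_lit 1184) i)) (@Bool.rec (fun _ => ℕ) (factBlk_n0_38 i) (factBlk_n0_39 i) (Nat.ble (nat_lit 1248) i)) (Nat.ble (nat_lit 1216) i)) (Nat.ble (nat_lit 1152) i)) (@Bool.rec (fun _ => ℕ) (@Bool.rec (fun _ => ℕ) (@Bool.rec (fun _ => ℕ) (factBlk_n0_40 i) (factBlk_n0_41 i) (Nat.ble (nat_lit 1312) i)) (@Bool.rec (fun _ => ℕ) (factBlk_n0_42 i) (factBlk_n0_43 i) (Nat.ble (nat_lit 1376) i))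 (Nat.ble (nat_lit 1344) i)) (@Bool.rec (fun _ => ℕ) (@Bool.rec (fun _ => ℕ) (factBlk_n0_44 i) (factBlk_n0_45 i) (Nat.ble (nat_lit 1440) i)) (@Bool.rec (fun _ => ℕ) (factBlk_n0_46 i) (factBlk_n0_47 i) (Nat.ble (nat_lit 1504) i)) (Nat.ble (nat_lit 1472) i)) (Nat.ble (nat_lit 1408) i)) (Nat.ble (nat_lit 1280) i)) (@Bool.rec (fun _ => ℕ) (@Bool.rec (fun _ => ℕ) (@Bool.rec (fun _ => ℕ) (@Bool.rec (fun _ => ℕ) (factBlk_n0_48 i) (factBlk_n0_49 i) (Nat.ble (nat_lit 1568) i)) (@Bool.rec (fun _ => ℕ) (factBlk_n0_50 i) (factBlk_n0_51 i) (Nat.ble (nat_lit 1632) i)) (Nat.ble (nat_lit 1600) i)) (@Bool.rec (fun _ => ℕ) (@Bool.rec (fun _ => ℕ) (factBlk_n0_52 i) (factBlk_n0_53 i) (Nat.ble (nat_lit 1696) i)) (@Bool.rec (fun _ => ℕ) (factBlk_n0_54 i) (factBlk_n0_55 i) (Nat.ble (nat_lit 1760) i)) (Nat.ble (nat_lit 1728) i))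 (Nat.ble (nat_lit 1664) i)) (@Bool.rec (fun _ => ℕ) (@Bool.rec (fun _ => ℕ) (@Bool.rec (fun _ => ℕ) (factBlk_n0_56 i) (factBlk_n0_57 i) (Nat.ble (nat_lit 1824) i)) (@Bool.rec (fun _ => ℕ) (factBlk_n0_58 i) (factBlk_n0_59 i) (Nat.ble (nat_lit 1888) i)) (Nat.ble (nat_lit 1856) i)) (@Bool.rec (fun _ => ℕ) (@Bool.rec (fun _ => ℕ) (factBlk_n0_60 i) (factBlk_n0_61 i) (Nat.ble (nat_lit 1952) i)) (@Bool.rec (fun _ => ℕ) (factBlk_n0_62 i) (factBlk_n0_63 i) (Nat.ble (nat_lit 2016) i)) (Nat.ble (nat_lit 1984) i)) (Nat.ble (nat_lit 1920) i)) (Nat.ble (nat_lit 1792) i)) (Nat.ble (nat_lit 1536) i))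

def factBlk_n1_2 (i : ℕ) : ℕ := (@Bool.rec (fun _ => ℕ) (@Bool.rec (fun _ => ℕ) (@Bool.rec (fun _ => ℕ) (@Bool.rec (fun _ => ℕ) (@Bool.rec (fun _ => ℕ) (factBlk_n0_64 i) (factBlk_n0_65 i) (Nat.ble (nat_lit 2080) i)) (@Bool.rec (fun _ => ℕ) (factBlk_n0_66 i) (factBlk_n0_67 i) (Nat.ble (nat_lit 2144) i)) (Nat.ble (nat_lit 2112) i)) (@Bool.rec (fun _ => ℕ) (@Bool.rec (fun _ => ℕ) (factBlk_n0_68 i) (factBlk_n0_69 i) (Nat.ble (nat_lit 2208) i)) (@Bool.rec (fun _ => ℕ) (factBlk_n0_70 i) (factBlk_n0_71 i) (Nat.ble (nat_lit 2272) i)) (Nat.ble (nat_lit 2240) i)) (Nat.ble (nat_lit 2176) i)) (@Bool.rec (fun _ => ℕ) (@Bool.rec (fun _ => ℕ) (@Bool.rec (fun _ => ℕ) (factBlk_n0_72 i) (factBlk_n0_73 i) (Nat.ble (nat_lit 2336) i)) (@Bool.rec (fun _ => ℕ) (factBlk_n0_74 i) (factBlk_n0_75 i) (Nat.ble (nat_lit 2400) i))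 (Nat.ble (nat_lit 2368) i)) (@Bool.rec (fun _ => ℕ) (@Bool.rec (fun _ => ℕ) (factBlk_n0_76 i) (factBlk_n0_77 i) (Nat.ble (nat_lit 2464) i)) (@Bool.rec (fun _ => ℕ) (factBlk_n0_78 i) (factBlk_n0_79 i) (Nat.ble (nat_lit 2528) i)) (Nat.ble (nat_lit 2496) i)) (Nat.ble (nat_lit 2432) i)) (Nat.ble (nat_lit 2304) i)) (@Bool.rec (fun _ => ℕ) (@Bool.rec (fun _ => ℕ) (@Bool.rec (fun _ => ℕ) (@Bool.rec (fun _ => ℕ) (factBlk_n0_80 i) (factBlk_n0_81 i) (Nat.ble (nat_lit 2592) i)) (@Bool.rec (fun _ => ℕ) (factBlk_n0_82 i) (factBlk_n0_83 i) (Nat.ble (nat_lit 2656) i)) (Nat.ble (nat_lit 2624) i)) (@Bool.rec (fun _ => ℕ) (@Bool.rec (fun _ => ℕ) (factBlk_n0_84 i) (factBlk_n0_85 i) (Nat.ble (nat_lit 2720) i)) (@Bool.rec (fun _ => ℕ) (factBlk_n0_86 i) (factBlk_n0_87 i) (Nat.ble (nat_lit 2784) i)) (Nat.ble (nat_lit 2752) i))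 (Nat.ble (nat_lit 2688) i)) (@Bool.rec (fun _ => ℕ) (@Bool.rec (fun _ => ℕ) (@Bool.rec (fun _ => ℕ) (factBlk_n0_88 i) (factBlk_n0_89 i) (Nat.ble (nat_lit 2848) i)) (@Bool.rec (fun _ => ℕ) (factBlk_n0_90 i) (factBlk_n0_91 i) (Nat.ble (nat_lit 2912) i)) (Nat.ble (nat_lit 2880) i)) (@Bool.rec (fun _ => ℕ) (@Bool.rec (fun _ => ℕ) (factBlk_n0_92 i) (factBlk_n0_93 i) (Nat.ble (nat_lit 2976) i)) (@Bool.rec (fun _ => ℕ) (factBlk_n0_94 i) (factBlk_n0_95 i) (Nat.ble (nat_lit 3040) i)) (Nat.ble (nat_lit 3008) i)) (Nat.ble (nat_lit 2944) i)) (Nat.ble (nat_lit 2816) i)) (Nat.ble (nat_lit 2560) i))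

def factBlk_n1_3 (i : ℕ) : ℕ := (@Bool.rec (fun _ => ℕ) (@Bool.rec (fun _ => ℕ) (@Bool.rec (fun _ => ℕ) (@Bool.rec (fun _ => ℕ) (factBlk_n0_96 i) (factBlk_n0_97 i) (Nat.ble (nat_lit 3104) i)) (@Bool.rec (fun _ => ℕ) (factBlk_n0_98 i) (@Bool.rec (fun _ => ℕ) (factBlk_n0_99 i) (factBlk_n0_100 i) (Nat.ble (nat_lit 3200) i)) (Nat.ble (nat_lit 3168) i)) (Nat.ble (nat_lit 3136) i)) (@Bool.rec (fun _ => ℕ) (@Bool.rec (fun _ => ℕ) (factBlk_n0_101 i) (factBlk_n0_102 i) (Nat.ble (nat_lit 3264) i)) (@Bool.rec (fun _ => ℕ) (factBlk_n0_103 i) (@Bool.rec (fun _ => ℕ) (factBlk_n0_104 i) (factBlk_n0_105 i) (Nat.ble (nat_lit 3360) i)) (Nat.ble (nat_lit 3328) i)) (Nat.ble (nat_lit 3296) i)) (Nat.ble (nat_lit 3232) i)) (@Bool.rec (fun _ => ℕ) (@Bool.rec (fun _ => ℕ) (@Bool.rec (fun _ => ℕ) (factBlk_n0_106 i) (factBlk_n0_107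 i) (Nat.ble (nat_lit 3424) i)) (@Bool.rec (fun _ => ℕ) (factBlk_n0_108 i) (@Bool.rec (fun _ => ℕ) (factBlk_n0_109 i) (factBlk_n0_110 i) (Nat.ble (nat_lit 3520) i)) (Nat.ble (nat_lit 3488) i)) (Nat.ble (nat_lit 3456) i)) (@Bool.rec (fun _ => ℕ) (@Bool.rec (fun _ => ℕ) (factBlk_n0_111 i) (factBlk_n0_112 i) (Nat.ble (nat_lit 3584) i)) (@Bool.rec (fun _ => ℕ) (factBlk_n0_113 i) (@Bool.rec (fun _ => ℕ) (factBlk_n0_114 i) (factBlk_n0_115 i) (Nat.ble (nat_lit 3680) i)) (Nat.ble (nat_lit 3648) i)) (Nat.ble (nat_lit 3616) i)) (Nat.ble (nat_lit 3552) i)) (Nat.ble (nat_lit 3392) i))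

def factBlk (i : ℕ) : ℕ := (@Bool.rec (fun _ => ℕ) (@Bool.rec (fun _ => ℕ) (factBlk_n1_0 i) (factBlk_n1_1 i) (Nat.ble (nat_lit 1024) i)) (@Bool.rec (fun _ => ℕ) (factBlk_n1_2 i) (factBlk_n1_3 i) (Nat.ble (nat_lit 3072) i)) (Nat.ble (nat_lit 2048) i))

def certBlk_n0_0 (i : ℕ) : ℕ := (@Bool.rec (fun _ => ℕ) (@Bool.rec (fun _ => ℕ) (@Bool.rec (fun _ => ℕ) (@Bool.rec (fun _ => ℕ) (@Bool.rec (fun _ => ℕ) cb0 cb1 (Nat.ble (nat_lit 1) i)) (@Bool.rec (fun _ => ℕ) cb2 cb3 (Nat.ble (nat_lit 3) i)) (Nat.ble (nat_lit 2) i)) (@Bool.rec (fun _ => ℕ) (@Bool.rec (fun _ => ℕ) cb4 cb5 (Nat.ble (nat_lit 5) i)) (@Bool.rec (fun _ => ℕ) cb6 cb7 (Nat.ble (nat_lit 7) i)) (Nat.ble (nat_lit 6) i)) (Nat.ble (nat_lit 4) i)) (@Bool.rec (fun _ => ℕ) (@Bool.rec (fun _ => ℕ) (@Bool.rec (fun _ => ℕ) cb8 cb9 (Nat.ble (nat_lit 9) i))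 (@Bool.rec (fun _ => ℕ) cb10 cb11 (Nat.ble (nat_lit 11) i)) (Nat.ble (nat_lit 10) i)) (@Bool.rec (fun _ => ℕ) (@Bool.rec (fun _ => ℕ) cb12 cb13 (Nat.ble (nat_lit 13) i)) (@Bool.rec (fun _ => ℕ) cb14 cb15 (Nat.ble (nat_lit 15) i)) (Nat.ble (nat_lit 14) i)) (Nat.ble (nat_lit 12) i)) (Nat.ble (nat_lit 8) i)) (@Bool.rec (fun _ => ℕ) (@Bool.rec (fun _ => ℕ) (@Bool.rec (fun _ => ℕ) (@Bool.rec (fun _ => ℕ) cb16 cb17 (Nat.ble (nat_lit 17) i)) (@Bool.rec (fun _ => ℕ) cb18 cb19 (Nat.ble (nat_lit 19) i)) (Nat.ble (nat_lit 18) i)) (@Bool.rec (fun _ => ℕ) (@Bool.rec (fun _ => ℕ) cb20 cb21 (Nat.ble (nat_lit 21) i)) (@Bool.rec (fun _ => ℕ) cb22 cb23 (Nat.ble (nat_lit 23) i)) (Nat.ble (nat_lit 22) i)) (Nat.ble (nat_lit 20) i)) (@Bool.rec (fun _ => ℕ) (@Bool.rec (fun _ => ℕ) (@Bool.rec (fun _ => ℕ) cb24 cb25 (Nat.ble (nat_lit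 25) i)) (@Bool.rec (fun _ => ℕ) cb26 cb27 (Nat.ble (nat_lit 27) i)) (Nat.ble (nat_lit 26) i)) (@Bool.rec (fun _ => ℕ) (@Bool.rec (fun _ => ℕ) cb28 cb29 (Nat.ble (nat_lit 29) i)) (@Bool.rec (fun _ => ℕ) cb30 cb31 (Nat.ble (nat_lit 31) i)) (Nat.ble (nat_lit 30) i)) (Nat.ble (nat_lit 28) i)) (Nat.ble (nat_lit 24) i)) (Nat.ble (nat_lit 16) i))

def certBlk_n0_1 (i : ℕ) : ℕ := (@Bool.rec (fun _ => ℕ) (@Bool.rec (fun _ => ℕ) (@Bool.rec (fun _ => ℕ) (@Bool.rec (fun _ => ℕ) (@Bool.rec (fun _ => ℕ) cb32 cb33 (Nat.ble (nat_lit 33) i)) (@Bool.rec (fun _ => ℕ) cb34 cb35 (Nat.ble (nat_lit 35) i)) (Nat.ble (nat_lit 34) i)) (@Bool.rec (fun _ => ℕ) (@Bool.rec (fun _ => ℕ) cb36 cb37 (Nat.ble (nat_lit 37) i)) (@Bool.rec (fun _ => ℕ) cb38 cb39 (Nat.ble (nat_lit 39) i)) (Nat.ble (nat_lit 38) i)) (Nat.ble (nat_lit 36) i))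 (@Bool.rec (fun _ => ℕ) (@Bool.rec (fun _ => ℕ) (@Bool.rec (fun _ => ℕ) cb40 cb41 (Nat.ble (nat_lit 41) i)) (@Bool.rec (fun _ => ℕ) cb42 cb43 (Nat.ble (nat_lit 43) i)) (Nat.ble (nat_lit 42) i)) (@Bool.rec (fun _ => ℕ) (@Bool.rec (fun _ => ℕ) cb44 cb45 (Nat.ble (nat_lit 45) i)) (@Bool.rec (fun _ => ℕ) cb46 cb47 (Nat.ble (nat_lit 47) i)) (Nat.ble (nat_lit 46) i)) (Nat.ble (nat_lit 44) i)) (Nat.ble (nat_lit 40) i)) (@Bool.rec (fun _ => ℕ) (@Bool.rec (fun _ => ℕ) (@Bool.rec (fun _ => ℕ) (@Bool.rec (fun _ => ℕ) cb48 cb49 (Nat.ble (nat_lit 49) i)) (@Bool.rec (fun _ => ℕ) cb50 cb51 (Nat.ble (nat_lit 51) i)) (Nat.ble (nat_lit 50) i)) (@Bool.rec (fun _ => ℕ) (@Bool.rec (fun _ => ℕ) cb52 cb53 (Nat.ble (nat_lit 53) i)) (@Bool.rec (fun _ => ℕ) cb54 cb55 (Nat.ble (nat_lit 55) i)) (Nat.ble (nat_lit 54) i)) (Nat.ble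 (nat_lit 52) i)) (@Bool.rec (fun _ => ℕ) (@Bool.rec (fun _ => ℕ) (@Bool.rec (fun _ => ℕ) cb56 cb57 (Nat.ble (nat_lit 57) i)) (@Bool.rec (fun _ => ℕ) cb58 cb59 (Nat.ble (nat_lit 59) i)) (Nat.ble (nat_lit 58) i)) (@Bool.rec (fun _ => ℕ) (@Bool.rec (fun _ => ℕ) cb60 cb61 (Nat.ble (nat_lit 61) i)) (@Bool.rec (fun _ => ℕ) cb62 cb63 (Nat.ble (nat_lit 63) i)) (Nat.ble (nat_lit 62) i)) (Nat.ble (nat_lit 60) i)) (Nat.ble (nat_lit 56) i)) (Nat.ble (nat_lit 48) i))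

def certBlk_n0_2 (i : ℕ) : ℕ := (@Bool.rec (fun _ => ℕ) (@Bool.rec (fun _ => ℕ) (@Bool.rec (fun _ => ℕ) (@Bool.rec (fun _ => ℕ) (@Bool.rec (fun _ => ℕ) cb64 cb65 (Nat.ble (nat_lit 65) i)) (@Bool.rec (fun _ => ℕ) cb66 cb67 (Nat.ble (nat_lit 67) i)) (Nat.ble (nat_lit 66) i)) (@Bool.rec (fun _ => ℕ) (@Bool.rec (fun _ => ℕ) cb68 cb69 (Nat.ble (nat_lit 69) i)) (@Bool.rec (fun _ => ℕ) cb70 cb71 (Nat.ble (nat_lit 71) i)) (Nat.ble (nat_lit 70) i)) (Nat.ble (nat_lit 68) i)) (@Bool.rec (fun _ => ℕ) (@Bool.rec (fun _ => ℕ) (@Bool.rec (fun _ => ℕ) cb72 cb73 (Nat.ble (nat_lit 73) i)) (@Bool.rec (fun _ => ℕ) cb74 cb75 (Nat.ble (nat_lit 75) i)) (Nat.ble (nat_lit 74) i)) (@Bool.rec (fun _ => ℕ) (@Bool.rec (fun _ => ℕ) cb76 cb77 (Nat.ble (nat_lit 77) i)) (@Bool.rec (fun _ => ℕ) cb78 cb79 (Nat.ble (nat_lit 79) i)) (Nat.ble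 (nat_lit 78) i)) (Nat.ble (nat_lit 76) i)) (Nat.ble (nat_lit 72) i)) (@Bool.rec (fun _ => ℕ) (@Bool.rec (fun _ => ℕ) (@Bool.rec (fun _ => ℕ) (@Bool.rec (fun _ => ℕ) cb80 cb81 (Nat.ble (nat_lit 81) i)) (@Bool.rec (fun _ => ℕ) cb82 cb83 (Nat.ble (nat_lit 83) i)) (Nat.ble (nat_lit 82) i)) (@Bool.rec (fun _ => ℕ) (@Bool.rec (fun _ => ℕ) cb84 cb85 (Nat.ble (nat_lit 85) i)) (@Bool.rec (fun _ => ℕ) cb86 cb87 (Nat.ble (nat_lit 87) i)) (Nat.ble (nat_lit 86) i)) (Nat.ble (nat_lit 84) i)) (@Bool.rec (fun _ => ℕ) (@Bool.rec (fun _ => ℕ) (@Bool.rec (fun _ => ℕ) cb88 cb89 (Nat.ble (nat_lit 89) i)) (@Bool.rec (fun _ => ℕ) cb90 cb91 (Nat.ble (nat_lit 91) i)) (Nat.ble (nat_lit 90) i)) (@Bool.rec (fun _ => ℕ) (@Bool.rec (fun _ => ℕ) cb92 cb93 (Nat.ble (nat_lit 93) i)) (@Bool.rec (fun _ => ℕ) cb94 cb95 (Nat.ble (nat_lit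 95) i)) (Nat.ble (nat_lit 94) i)) (Nat.ble (nat_lit 92) i)) (Nat.ble (nat_lit 88) i)) (Nat.ble (nat_lit 80) i))

def certBlk_n0_3 (i : ℕ) : ℕ := (@Bool.rec (fun _ => ℕ) (@Bool.rec (fun _ => ℕ) (@Bool.rec (fun _ => ℕ) (@Bool.rec (fun _ => ℕ) (@Bool.rec (fun _ => ℕ) cb96 cb97 (Nat.ble (nat_lit 97) i)) (@Bool.rec (fun _ => ℕ) cb98 cb99 (Nat.ble (nat_lit 99) i)) (Nat.ble (nat_lit 98) i)) (@Bool.rec (fun _ => ℕ) (@Bool.rec (fun _ => ℕ) cb100 cb101 (Nat.ble (nat_lit 101) i)) (@Bool.rec (fun _ => ℕ) cb102 cb103 (Nat.ble (nat_lit 103) i)) (Nat.ble (nat_lit 102) i)) (Nat.ble (nat_lit 100) i)) (@Bool.rec (fun _ => ℕ) (@Bool.rec (fun _ => ℕ) (@Bool.rec (fun _ => ℕ) cb104 cb105 (Nat.ble (nat_lit 105) i)) (@Bool.rec (fun _ => ℕ) cb106 cb107 (Nat.ble (nat_lit 107) i)) (Nat.ble (nat_lit 106) i)) (@Bool.rec (fun _ =>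 ℕ) (@Bool.rec (fun _ => ℕ) cb108 cb109 (Nat.ble (nat_lit 109) i)) (@Bool.rec (fun _ => ℕ) cb110 cb111 (Nat.ble (nat_lit 111) i)) (Nat.ble (nat_lit 110) i)) (Nat.ble (nat_lit 108) i)) (Nat.ble (nat_lit 104) i)) (@Bool.rec (fun _ => ℕ) (@Bool.rec (fun _ => ℕ) (@Bool.rec (fun _ => ℕ) (@Bool.rec (fun _ => ℕ) cb112 cb113 (Nat.ble (nat_lit 113) i)) (@Bool.rec (fun _ => ℕ) cb114 cb115 (Nat.ble (nat_lit 115) i)) (Nat.ble (nat_lit 114) i)) (@Bool.rec (fun _ => ℕ) (@Bool.rec (fun _ => ℕ) cb116 cb117 (Nat.ble (nat_lit 117) i)) (@Bool.rec (fun _ => ℕ) cb118 cb119 (Nat.ble (nat_lit 119) i)) (Nat.ble (nat_lit 118) i)) (Nat.ble (nat_lit 116) i)) (@Bool.rec (fun _ => ℕ) (@Bool.rec (fun _ => ℕ) (@Bool.rec (fun _ => ℕ) cb120 cb121 (Nat.ble (nat_lit 121) i)) (@Bool.rec (fun _ => ℕ) cb122 cb123 (Nat.ble (nat_lit 123) i))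 (Nat.ble (nat_lit 122) i)) (@Bool.rec (fun _ => ℕ) (@Bool.rec (fun _ => ℕ) cb124 cb125 (Nat.ble (nat_lit 125) i)) (@Bool.rec (fun _ => ℕ) cb126 cb127 (Nat.ble (nat_lit 127) i)) (Nat.ble (nat_lit 126) i)) (Nat.ble (nat_lit 124) i)) (Nat.ble (nat_lit 120) i)) (Nat.ble (nat_lit 112) i))

def certBlk_n0_4 (i : ℕ) : ℕ := (@Bool.rec (fun _ => ℕ) (@Bool.rec (fun _ => ℕ) (@Bool.rec (fun _ => ℕ) (@Bool.rec (fun _ => ℕ) (@Bool.rec (fun _ => ℕ) cb128 cb129 (Nat.ble (nat_lit 129) i)) (@Bool.rec (fun _ => ℕ) cb130 cb131 (Nat.ble (nat_lit 131) i)) (Nat.ble (nat_lit 130) i)) (@Bool.rec (fun _ => ℕ) (@Bool.rec (fun _ => ℕ) cb132 cb133 (Nat.ble (nat_lit 133) i)) (@Bool.rec (fun _ => ℕ) cb134 cb135 (Nat.ble (nat_lit 135) i)) (Nat.ble (nat_lit 134) i)) (Nat.ble (nat_lit 132) i)) (@Bool.rec (fun _ => ℕ) (@Bool.rec (fun _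 => ℕ) (@Bool.rec (fun _ => ℕ) cb136 cb137 (Nat.ble (nat_lit 137) i)) (@Bool.rec (fun _ => ℕ) cb138 cb139 (Nat.ble (nat_lit 139) i)) (Nat.ble (nat_lit 138) i)) (@Bool.rec (fun _ => ℕ) (@Bool.rec (fun _ => ℕ) cb140 cb141 (Nat.ble (nat_lit 141) i)) (@Bool.rec (fun _ => ℕ) cb142 cb143 (Nat.ble (nat_lit 143) i)) (Nat.ble (nat_lit 142) i)) (Nat.ble (nat_lit 140) i)) (Nat.ble (nat_lit 136) i)) (@Bool.rec (fun _ => ℕ) (@Bool.rec (fun _ => ℕ) (@Bool.rec (fun _ => ℕ) (@Bool.rec (fun _ => ℕ) cb144 cb145 (Nat.ble (nat_lit 145) i)) (@Bool.rec (fun _ => ℕ) cb146 cb147 (Nat.ble (nat_lit 147) i)) (Nat.ble (nat_lit 146) i)) (@Bool.rec (fun _ => ℕ) (@Bool.rec (fun _ => ℕ) cb148 cb149 (Nat.ble (nat_lit 149) i)) (@Bool.rec (fun _ => ℕ) cb150 cb151 (Nat.ble (nat_lit 151) i)) (Nat.ble (nat_lit 150) i)) (Nat.ble (nat_lit 148)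 i)) (@Bool.rec (fun _ => ℕ) (@Bool.rec (fun _ => ℕ) (@Bool.rec (fun _ => ℕ) cb152 cb153 (Nat.ble (nat_lit 153) i)) (@Bool.rec (fun _ => ℕ) cb154 cb155 (Nat.ble (nat_lit 155) i)) (Nat.ble (nat_lit 154) i)) (@Bool.rec (fun _ => ℕ) (@Bool.rec (fun _ => ℕ) cb156 cb157 (Nat.ble (nat_lit 157) i)) (@Bool.rec (fun _ => ℕ) cb158 cb159 (Nat.ble (nat_lit 159) i)) (Nat.ble (nat_lit 158) i)) (Nat.ble (nat_lit 156) i)) (Nat.ble (nat_lit 152) i)) (Nat.ble (nat_lit 144) i))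

def certBlk_n0_5 (i : ℕ) : ℕ := (@Bool.rec (fun _ => ℕ) (@Bool.rec (fun _ => ℕ) (@Bool.rec (fun _ => ℕ) (@Bool.rec (fun _ => ℕ) (@Bool.rec (fun _ => ℕ) cb160 cb161 (Nat.ble (nat_lit 161) i)) (@Bool.rec (fun _ => ℕ) cb162 cb163 (Nat.ble (nat_lit 163) i)) (Nat.ble (nat_lit 162) i)) (@Bool.rec (fun _ => ℕ) (@Bool.rec (fun _ => ℕ) cb164 cb165 (Nat.ble (nat_lit 165) i)) (@Bool.rec (fun _ => ℕ) cb166 cb167 (Nat.ble (nat_lit 167) i)) (Nat.ble (nat_lit 166) i)) (Nat.ble (nat_lit 164) i)) (@Bool.rec (fun _ => ℕ) (@Bool.rec (fun _ => ℕ) (@Bool.rec (fun _ => ℕ) cb168 cb169 (Nat.ble (nat_lit 169) i)) (@Bool.rec (fun _ => ℕ) cb170 cb171 (Nat.ble (nat_lit 171) i)) (Nat.ble (nat_lit 170) i)) (@Bool.rec (fun _ => ℕ) (@Bool.rec (fun _ => ℕ) cb172 cb173 (Nat.ble (nat_lit 173) i)) (@Bool.rec (fun _ => ℕ) cb174 cb175 (Nat.ble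 (nat_lit 175) i)) (Nat.ble (nat_lit 174) i)) (Nat.ble (nat_lit 172) i)) (Nat.ble (nat_lit 168) i)) (@Bool.rec (fun _ => ℕ) (@Bool.rec (fun _ => ℕ) (@Bool.rec (fun _ => ℕ) (@Bool.rec (fun _ => ℕ) cb176 cb177 (Nat.ble (nat_lit 177) i)) (@Bool.rec (fun _ => ℕ) cb178 cb179 (Nat.ble (nat_lit 179) i)) (Nat.ble (nat_lit 178) i)) (@Bool.rec (fun _ => ℕ) (@Bool.rec (fun _ => ℕ) cb180 cb181 (Nat.ble (nat_lit 181) i)) (@Bool.rec (fun _ => ℕ) cb182 cb183 (Nat.ble (nat_lit 183) i)) (Nat.ble (nat_lit 182) i)) (Nat.ble (nat_lit 180) i)) (@Bool.rec (fun _ => ℕ) (@Bool.rec (fun _ => ℕ) (@Bool.rec (fun _ => ℕ) cb184 cb185 (Nat.ble (nat_lit 185) i)) (@Bool.rec (fun _ => ℕ) cb186 cb187 (Nat.ble (nat_lit 187) i)) (Nat.ble (nat_lit 186) i)) (@Bool.rec (fun _ => ℕ) (@Bool.rec (fun _ => ℕ) cb188 cb189 (Nat.ble (nat_lit 189) i))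 (@Bool.rec (fun _ => ℕ) cb190 cb191 (Nat.ble (nat_lit 191) i)) (Nat.ble (nat_lit 190) i)) (Nat.ble (nat_lit 188) i)) (Nat.ble (nat_lit 184) i)) (Nat.ble (nat_lit 176) i))

def certBlk_n0_6 (i : ℕ) : ℕ := (@Bool.rec (fun _ => ℕ) (@Bool.rec (fun _ => ℕ) (@Bool.rec (fun _ => ℕ) (@Bool.rec (fun _ => ℕ) (@Bool.rec (fun _ => ℕ) cb192 cb193 (Nat.ble (nat_lit 193) i)) (@Bool.rec (fun _ => ℕ) cb194 cb195 (Nat.ble (nat_lit 195) i)) (Nat.ble (nat_lit 194) i)) (@Bool.rec (fun _ => ℕ) (@Bool.rec (fun _ => ℕ) cb196 cb197 (Nat.ble (nat_lit 197) i)) (@Bool.rec (fun _ => ℕ) cb198 cb199 (Nat.ble (nat_lit 199) i)) (Nat.ble (nat_lit 198) i)) (Nat.ble (nat_lit 196) i)) (@Bool.rec (fun _ => ℕ) (@Bool.rec (fun _ => ℕ) (@Bool.rec (fun _ => ℕ) cb200 cb201 (Nat.ble (nat_lit 201) i)) (@Bool.rec (fun _ => ℕ) cb202 cb203 (Nat.ble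 (nat_lit 203) i)) (Nat.ble (nat_lit 202) i)) (@Bool.rec (fun _ => ℕ) (@Bool.rec (fun _ => ℕ) cb204 cb205 (Nat.ble (nat_lit 205) i)) (@Bool.rec (fun _ => ℕ) cb206 cb207 (Nat.ble (nat_lit 207) i)) (Nat.ble (nat_lit 206) i)) (Nat.ble (nat_lit 204) i)) (Nat.ble (nat_lit 200) i)) (@Bool.rec (fun _ => ℕ) (@Bool.rec (fun _ => ℕ) (@Bool.rec (fun _ => ℕ) (@Bool.rec (fun _ => ℕ) cb208 cb209 (Nat.ble (nat_lit 209) i)) (@Bool.rec (fun _ => ℕ) cb210 cb211 (Nat.ble (nat_lit 211) i)) (Nat.ble (nat_lit 210) i)) (@Bool.rec (fun _ => ℕ) (@Bool.rec (fun _ => ℕ) cb212 cb213 (Nat.ble (nat_lit 213) i)) (@Bool.rec (fun _ => ℕ) cb214 cb215 (Nat.ble (nat_lit 215) i)) (Nat.ble (nat_lit 214) i)) (Nat.ble (nat_lit 212) i)) (@Bool.rec (fun _ => ℕ) (@Bool.rec (fun _ => ℕ) (@Bool.rec (fun _ => ℕ) cb216 cb217 (Nat.ble (nat_lit 217) i))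 (@Bool.rec (fun _ => ℕ) cb218 cb219 (Nat.ble (nat_lit 219) i)) (Nat.ble (nat_lit 218) i)) (@Bool.rec (fun _ => ℕ) (@Bool.rec (fun _ => ℕ) cb220 cb221 (Nat.ble (nat_lit 221) i)) (@Bool.rec (fun _ => ℕ) cb222 cb223 (Nat.ble (nat_lit 223) i)) (Nat.ble (nat_lit 222) i)) (Nat.ble (nat_lit 220) i)) (Nat.ble (nat_lit 216) i)) (Nat.ble (nat_lit 208) i))

def certBlk_n0_7 (i : ℕ) : ℕ := (@Bool.rec (fun _ => ℕ) (@Bool.rec (fun _ => ℕ) (@Bool.rec (fun _ => ℕ) (@Bool.rec (fun _ => ℕ) (@Bool.rec (fun _ => ℕ) cb224 cb225 (Nat.ble (nat_lit 225) i)) (@Bool.rec (fun _ => ℕ) cb226 cb227 (Nat.ble (nat_lit 227) i)) (Nat.ble (nat_lit 226) i)) (@Bool.rec (fun _ => ℕ) (@Bool.rec (fun _ => ℕ) cb228 cb229 (Nat.ble (nat_lit 229) i)) (@Bool.rec (fun _ => ℕ) cb230 cb231 (Nat.ble (nat_lit 231) i)) (Nat.ble (nat_lit 230) i)) (Nat.ble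 (nat_lit 228) i)) (@Bool.rec (fun _ => ℕ) (@Bool.rec (fun _ => ℕ) (@Bool.rec (fun _ => ℕ) cb232 cb233 (Nat.ble (nat_lit 233) i)) (@Bool.rec (fun _ => ℕ) cb234 cb235 (Nat.ble (nat_lit 235) i)) (Nat.ble (nat_lit 234) i)) (@Bool.rec (fun _ => ℕ) (@Bool.rec (fun _ => ℕ) cb236 cb237 (Nat.ble (nat_lit 237) i)) (@Bool.rec (fun _ => ℕ) cb238 cb239 (Nat.ble (nat_lit 239) i)) (Nat.ble (nat_lit 238) i)) (Nat.ble (nat_lit 236) i)) (Nat.ble (nat_lit 232) i)) (@Bool.rec (fun _ => ℕ) (@Bool.rec (fun _ => ℕ) (@Bool.rec (fun _ => ℕ) (@Bool.rec (fun _ => ℕ) cb240 cb241 (Nat.ble (nat_lit 241) i)) (@Bool.rec (fun _ => ℕ) cb242 cb243 (Nat.ble (nat_lit 243) i)) (Nat.ble (nat_lit 242) i)) (@Bool.rec (fun _ => ℕ) (@Bool.rec (fun _ => ℕ) cb244 cb245 (Nat.ble (nat_lit 245) i)) (@Bool.rec (fun _ => ℕ) cb246 cb247 (Nat.ble (nat_lit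 247) i)) (Nat.ble (nat_lit 246) i)) (Nat.ble (nat_lit 244) i)) (@Bool.rec (fun _ => ℕ) (@Bool.rec (fun _ => ℕ) (@Bool.rec (fun _ => ℕ) cb248 cb249 (Nat.ble (nat_lit 249) i)) (@Bool.rec (fun _ => ℕ) cb250 cb251 (Nat.ble (nat_lit 251) i)) (Nat.ble (nat_lit 250) i)) (@Bool.rec (fun _ => ℕ) (@Bool.rec (fun _ => ℕ) cb252 cb253 (Nat.ble (nat_lit 253) i)) (@Bool.rec (fun _ => ℕ) cb254 cb255 (Nat.ble (nat_lit 255) i)) (Nat.ble (nat_lit 254) i)) (Nat.ble (nat_lit 252) i)) (Nat.ble (nat_lit 248) i)) (Nat.ble (nat_lit 240) i))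

def certBlk_n0_8 (i : ℕ) : ℕ := (@Bool.rec (fun _ => ℕ) (@Bool.rec (fun _ => ℕ) (@Bool.rec (fun _ => ℕ) (@Bool.rec (fun _ => ℕ) (@Bool.rec (fun _ => ℕ) cb256 cb257 (Nat.ble (nat_lit 257) i)) (@Bool.rec (fun _ => ℕ) cb258 cb259 (Nat.ble (nat_lit 259) i)) (Nat.ble (nat_lit 258) i)) (@Bool.rec (fun _ => ℕ) (@Bool.rec (fun _ => ℕ) cb260 cb261 (Nat.ble (nat_lit 261) i)) (@Bool.rec (fun _ => ℕ) cb262 cb263 (Nat.ble (nat_lit 263) i)) (Nat.ble (nat_lit 262) i)) (Nat.ble (nat_lit 260) i)) (@Bool.rec (fun _ => ℕ) (@Bool.rec (fun _ => ℕ) (@Bool.rec (fun _ => ℕ) cb264 cb265 (Nat.ble (nat_lit 265) i)) (@Bool.rec (fun _ => ℕ) cb266 cb267 (Nat.ble (nat_lit 267) i)) (Nat.ble (nat_lit 266) i)) (@Bool.rec (fun _ => ℕ) (@Bool.rec (fun _ => ℕ) cb268 cb269 (Nat.ble (nat_lit 269) i)) (@Bool.rec (fun _ => ℕ) cb270 cb271 (Nat.ble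 (nat_lit 271) i)) (Nat.ble (nat_lit 270) i)) (Nat.ble (nat_lit 268) i)) (Nat.ble (nat_lit 264) i)) (@Bool.rec (fun _ => ℕ) (@Bool.rec (fun _ => ℕ) (@Bool.rec (fun _ => ℕ) (@Bool.rec (fun _ => ℕ) cb272 cb273 (Nat.ble (nat_lit 273) i)) (@Bool.rec (fun _ => ℕ) cb274 cb275 (Nat.ble (nat_lit 275) i)) (Nat.ble (nat_lit 274) i)) (@Bool.rec (fun _ => ℕ) (@Bool.rec (fun _ => ℕ) cb276 cb277 (Nat.ble (nat_lit 277) i)) (@Bool.rec (fun _ => ℕ) cb278 cb279 (Nat.ble (nat_lit 279) i)) (Nat.ble (nat_lit 278) i)) (Nat.ble (nat_lit 276) i)) (@Bool.rec (fun _ => ℕ) (@Bool.rec (fun _ => ℕ) (@Bool.rec (fun _ => ℕ) cb280 cb281 (Nat.ble (nat_lit 281) i)) (@Bool.rec (fun _ => ℕ) cb282 cb283 (Nat.ble (nat_lit 283) i)) (Nat.ble (nat_lit 282) i)) (@Bool.rec (fun _ => ℕ) (@Bool.rec (fun _ => ℕ) cb284 cb285 (Nat.ble (nat_lit 285) i))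 (@Bool.rec (fun _ => ℕ) cb286 cb287 (Nat.ble (nat_lit 287) i)) (Nat.ble (nat_lit 286) i)) (Nat.ble (nat_lit 284) i)) (Nat.ble (nat_lit 280) i)) (Nat.ble (nat_lit 272) i))

def certBlk_n0_9 (i : ℕ) : ℕ := (@Bool.rec (fun _ => ℕ) (@Bool.rec (fun _ => ℕ) (@Bool.rec (fun _ => ℕ) (@Bool.rec (fun _ => ℕ) (@Bool.rec (fun _ => ℕ) cb288 cb289 (Nat.ble (nat_lit 289) i)) (@Bool.rec (fun _ => ℕ) cb290 cb291 (Nat.ble (nat_lit 291) i)) (Nat.ble (nat_lit 290) i)) (@Bool.rec (fun _ => ℕ) (@Bool.rec (fun _ => ℕ) cb292 cb293 (Nat.ble (nat_lit 293) i)) (@Bool.rec (fun _ => ℕ) cb294 cb295 (Nat.ble (nat_lit 295) i)) (Nat.ble (nat_lit 294) i)) (Nat.ble (nat_lit 292) i)) (@Bool.rec (fun _ => ℕ) (@Bool.rec (fun _ => ℕ) (@Bool.rec (fun _ => ℕ) cb296 cb297 (Nat.ble (nat_lit 297) i)) (@Bool.rec (fun _ => ℕ) cb298 cb299 (Nat.ble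 (nat_lit 299) i)) (Nat.ble (nat_lit 298) i)) (@Bool.rec (fun _ => ℕ) (@Bool.rec (fun _ => ℕ) cb300 cb301 (Nat.ble (nat_lit 301) i)) (@Bool.rec (fun _ => ℕ) cb302 cb303 (Nat.ble (nat_lit 303) i)) (Nat.ble (nat_lit 302) i)) (Nat.ble (nat_lit 300) i)) (Nat.ble (nat_lit 296) i)) (@Bool.rec (fun _ => ℕ) (@Bool.rec (fun _ => ℕ) (@Bool.rec (fun _ => ℕ) (@Bool.rec (fun _ => ℕ) cb304 cb305 (Nat.ble (nat_lit 305) i)) (@Bool.rec (fun _ => ℕ) cb306 cb307 (Nat.ble (nat_lit 307) i)) (Nat.ble (nat_lit 306) i)) (@Bool.rec (fun _ => ℕ) (@Bool.rec (fun _ => ℕ) cb308 cb309 (Nat.ble (nat_lit 309) i)) (@Bool.rec (fun _ => ℕ) cb310 cb311 (Nat.ble (nat_lit 311) i)) (Nat.ble (nat_lit 310) i)) (Nat.ble (nat_lit 308) i)) (@Bool.rec (fun _ => ℕ) (@Bool.rec (fun _ => ℕ) (@Bool.rec (fun _ => ℕ) cb312 cb313 (Nat.ble (nat_lit 313) i))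 (@Bool.rec (fun _ => ℕ) cb314 cb315 (Nat.ble (nat_lit 315) i)) (Nat.ble (nat_lit 314) i)) (@Bool.rec (fun _ => ℕ) (@Bool.rec (fun _ => ℕ) cb316 cb317 (Nat.ble (nat_lit 317) i)) (@Bool.rec (fun _ => ℕ) cb318 cb319 (Nat.ble (nat_lit 319) i)) (Nat.ble (nat_lit 318) i)) (Nat.ble (nat_lit 316) i)) (Nat.ble (nat_lit 312) i)) (Nat.ble (nat_lit 304) i))

def certBlk_n0_10 (i : ℕ) : ℕ := (@Bool.rec (fun _ => ℕ) (@Bool.rec (fun _ => ℕ) (@Bool.rec (fun _ => ℕ) (@Bool.rec (fun _ => ℕ) (@Bool.rec (fun _ => ℕ) cb320 cb321 (Nat.ble (nat_lit 321) i)) (@Bool.rec (fun _ => ℕ) cb322 cb323 (Nat.ble (nat_lit 323) i)) (Nat.ble (nat_lit 322) i)) (@Bool.rec (fun _ => ℕ) (@Bool.rec (fun _ => ℕ) cb324 cb325 (Nat.ble (nat_lit 325) i)) (@Bool.rec (fun _ => ℕ) cb326 cb327 (Nat.ble (nat_lit 327) i)) (Nat.ble (nat_lit 326) i)) (Nat.ble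 (nat_lit 324) i)) (@Bool.rec (fun _ => ℕ) (@Bool.rec (fun _ => ℕ) (@Bool.rec (fun _ => ℕ) cb328 cb329 (Nat.ble (nat_lit 329) i)) (@Bool.rec (fun _ => ℕ) cb330 cb331 (Nat.ble (nat_lit 331) i)) (Nat.ble (nat_lit 330) i)) (@Bool.rec (fun _ => ℕ) (@Bool.rec (fun _ => ℕ) cb332 cb333 (Nat.ble (nat_lit 333) i)) (@Bool.rec (fun _ => ℕ) cb334 cb335 (Nat.ble (nat_lit 335) i)) (Nat.ble (nat_lit 334) i)) (Nat.ble (nat_lit 332) i)) (Nat.ble (nat_lit 328) i)) (@Bool.rec (fun _ => ℕ) (@Bool.rec (fun _ => ℕ) (@Bool.rec (fun _ => ℕ) (@Bool.rec (fun _ => ℕ) cb336 cb337 (Nat.ble (nat_lit 337) i)) (@Bool.rec (fun _ => ℕ) cb338 cb339 (Nat.ble (nat_lit 339) i)) (Nat.ble (nat_lit 338) i)) (@Bool.rec (fun _ => ℕ) (@Bool.rec (fun _ => ℕ) cb340 cb341 (Nat.ble (nat_lit 341) i)) (@Bool.rec (fun _ => ℕ) cb342 cb343 (Nat.ble (nat_lit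 343) i)) (Nat.ble (nat_lit 342) i)) (Nat.ble (nat_lit 340) i)) (@Bool.rec (fun _ => ℕ) (@Bool.rec (fun _ => ℕ) (@Bool.rec (fun _ => ℕ) cb344 cb345 (Nat.ble (nat_lit 345) i)) (@Bool.rec (fun _ => ℕ) cb346 cb347 (Nat.ble (nat_lit 347) i)) (Nat.ble (nat_lit 346) i)) (@Bool.rec (fun _ => ℕ) (@Bool.rec (fun _ => ℕ) cb348 cb349 (Nat.ble (nat_lit 349) i)) (@Bool.rec (fun _ => ℕ) cb350 cb351 (Nat.ble (nat_lit 351) i)) (Nat.ble (nat_lit 350) i)) (Nat.ble (nat_lit 348) i)) (Nat.ble (nat_lit 344) i)) (Nat.ble (nat_lit 336) i))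

def certBlk_n0_11 (i : ℕ) : ℕ := (@Bool.rec (fun _ => ℕ) (@Bool.rec (fun _ => ℕ) (@Bool.rec (fun _ => ℕ) (@Bool.rec (fun _ => ℕ) (@Bool.rec (fun _ => ℕ) cb352 cb353 (Nat.ble (nat_lit 353) i)) (@Bool.rec (fun _ => ℕ) cb354 cb355 (Nat.ble (nat_lit 355) i)) (Nat.ble (nat_lit 354) i)) (@Bool.rec (fun _ => ℕ) (@Bool.rec (fun _ => ℕ) cb356 cb357 (Nat.ble (nat_lit 357) i)) (@Bool.rec (fun _ => ℕ) cb358 cb359 (Nat.ble (nat_lit 359) i)) (Nat.ble (nat_lit 358) i)) (Nat.ble (nat_lit 356) i)) (@Bool.rec (fun _ => ℕ) (@Bool.rec (fun _ => ℕ) (@Bool.rec (fun _ => ℕ) cb360 cb361 (Nat.ble (nat_lit 361) i)) (@Bool.rec (fun _ => ℕ) cb362 cb363 (Nat.ble (nat_lit 363) i)) (Nat.ble (nat_lit 362) i)) (@Bool.rec (fun _ => ℕ) (@Bool.rec (fun _ => ℕ) cb364 cb365 (Nat.ble (nat_lit 365) i)) (@Bool.rec (fun _ => ℕ) cb366 cb367 (Nat.ble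 (nat_lit 367) i)) (Nat.ble (nat_lit 366) i)) (Nat.ble (nat_lit 364) i)) (Nat.ble (nat_lit 360) i)) (@Bool.rec (fun _ => ℕ) (@Bool.rec (fun _ => ℕ) (@Bool.rec (fun _ => ℕ) (@Bool.rec (fun _ => ℕ) cb368 cb369 (Nat.ble (nat_lit 369) i)) (@Bool.rec (fun _ => ℕ) cb370 cb371 (Nat.ble (nat_lit 371) i)) (Nat.ble (nat_lit 370) i)) (@Bool.rec (fun _ => ℕ) (@Bool.rec (fun _ => ℕ) cb372 cb373 (Nat.ble (nat_lit 373) i)) (@Bool.rec (fun _ => ℕ) cb374 cb375 (Nat.ble (nat_lit 375) i)) (Nat.ble (nat_lit 374) i)) (Nat.ble (nat_lit 372) i)) (@Bool.rec (fun _ => ℕ) (@Bool.rec (fun _ => ℕ) (@Bool.rec (fun _ => ℕ) cb376 cb377 (Nat.ble (nat_lit 377) i)) (@Bool.rec (fun _ => ℕ) cb378 cb379 (Nat.ble (nat_lit 379) i)) (Nat.ble (nat_lit 378) i)) (@Bool.rec (fun _ => ℕ) (@Bool.rec (fun _ => ℕ) cb380 cb381 (Nat.ble (nat_lit 381) i))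 (@Bool.rec (fun _ => ℕ) cb382 cb383 (Nat.ble (nat_lit 383) i)) (Nat.ble (nat_lit 382) i)) (Nat.ble (nat_lit 380) i)) (Nat.ble (nat_lit 376) i)) (Nat.ble (nat_lit 368) i))

def certBlk_n0_12 (i : ℕ) : ℕ := (@Bool.rec (fun _ => ℕ) (@Bool.rec (fun _ => ℕ) (@Bool.rec (fun _ => ℕ) (@Bool.rec (fun _ => ℕ) (@Bool.rec (fun _ => ℕ) cb384 cb385 (Nat.ble (nat_lit 385) i)) (@Bool.rec (fun _ => ℕ) cb386 cb387 (Nat.ble (nat_lit 387) i)) (Nat.ble (nat_lit 386) i)) (@Bool.rec (fun _ => ℕ) (@Bool.rec (fun _ => ℕ) cb388 cb389 (Nat.ble (nat_lit 389) i)) (@Bool.rec (fun _ => ℕ) cb390 cb391 (Nat.ble (nat_lit 391) i)) (Nat.ble (nat_lit 390) i)) (Nat.ble (nat_lit 388) i)) (@Bool.rec (fun _ => ℕ) (@Bool.rec (fun _ => ℕ) (@Bool.rec (fun _ => ℕ) cb392 cb393 (Nat.ble (nat_lit 393) i)) (@Bool.rec (fun _ => ℕ) cb394 cb395 (Nat.ble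 (nat_lit 395) i)) (Nat.ble (nat_lit 394) i)) (@Bool.rec (fun _ => ℕ) (@Bool.rec (fun _ => ℕ) cb396 cb397 (Nat.ble (nat_lit 397) i)) (@Bool.rec (fun _ => ℕ) cb398 cb399 (Nat.ble (nat_lit 399) i)) (Nat.ble (nat_lit 398) i)) (Nat.ble (nat_lit 396) i)) (Nat.ble (nat_lit 392) i)) (@Bool.rec (fun _ => ℕ) (@Bool.rec (fun _ => ℕ) (@Bool.rec (fun _ => ℕ) (@Bool.rec (fun _ => ℕ) cb400 cb401 (Nat.ble (nat_lit 401) i)) (@Bool.rec (fun _ => ℕ) cb402 cb403 (Nat.ble (nat_lit 403) i)) (Nat.ble (nat_lit 402) i)) (@Bool.rec (fun _ => ℕ) (@Bool.rec (fun _ => ℕ) cb404 cb405 (Nat.ble (nat_lit 405) i)) (@Bool.rec (fun _ => ℕ) cb406 cb407 (Nat.ble (nat_lit 407) i)) (Nat.ble (nat_lit 406) i)) (Nat.ble (nat_lit 404) i)) (@Bool.rec (fun _ => ℕ) (@Bool.rec (fun _ => ℕ) (@Bool.rec (fun _ => ℕ) cb408 cb409 (Nat.ble (nat_lit 409) i))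 (@Bool.rec (fun _ => ℕ) cb410 cb411 (Nat.ble (nat_lit 411) i)) (Nat.ble (nat_lit 410) i)) (@Bool.rec (fun _ => ℕ) (@Bool.rec (fun _ => ℕ) cb412 cb413 (Nat.ble (nat_lit 413) i)) (@Bool.rec (fun _ => ℕ) cb414 cb415 (Nat.ble (nat_lit 415) i)) (Nat.ble (nat_lit 414) i)) (Nat.ble (nat_lit 412) i)) (Nat.ble (nat_lit 408) i)) (Nat.ble (nat_lit 400) i))

def certBlk_n0_13 (i : ℕ) : ℕ := (@Bool.rec (fun _ => ℕ) (@Bool.rec (fun _ => ℕ) (@Bool.rec (fun _ => ℕ) (@Bool.rec (fun _ => ℕ) (@Bool.rec (fun _ => ℕ) cb416 cb417 (Nat.ble (nat_lit 417) i)) (@Bool.rec (fun _ => ℕ) cb418 cb419 (Nat.ble (nat_lit 419) i)) (Nat.ble (nat_lit 418) i)) (@Bool.rec (fun _ => ℕ) (@Bool.rec (fun _ => ℕ) cb420 cb421 (Nat.ble (nat_lit 421) i)) (@Bool.rec (fun _ => ℕ) cb422 cb423 (Nat.ble (nat_lit 423) i)) (Nat.ble (nat_lit 422) i)) (Nat.ble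 (nat_lit 420) i)) (@Bool.rec (fun _ => ℕ) (@Bool.rec (fun _ => ℕ) (@Bool.rec (fun _ => ℕ) cb424 cb425 (Nat.ble (nat_lit 425) i)) (@Bool.rec (fun _ => ℕ) cb426 cb427 (Nat.ble (nat_lit 427) i)) (Nat.ble (nat_lit 426) i)) (@Bool.rec (fun _ => ℕ) (@Bool.rec (fun _ => ℕ) cb428 cb429 (Nat.ble (nat_lit 429) i)) (@Bool.rec (fun _ => ℕ) cb430 cb431 (Nat.ble (nat_lit 431) i)) (Nat.ble (nat_lit 430) i)) (Nat.ble (nat_lit 428) i)) (Nat.ble (nat_lit 424) i)) (@Bool.rec (fun _ => ℕ) (@Bool.rec (fun _ => ℕ) (@Bool.rec (fun _ => ℕ) (@Bool.rec (fun _ => ℕ) cb432 cb433 (Nat.ble (nat_lit 433) i)) (@Bool.rec (fun _ => ℕ) cb434 cb435 (Nat.ble (nat_lit 435) i)) (Nat.ble (nat_lit 434) i)) (@Bool.rec (fun _ => ℕ) (@Bool.rec (fun _ => ℕ) cb436 cb437 (Nat.ble (nat_lit 437) i)) (@Bool.rec (fun _ => ℕ) cb438 cb439 (Nat.ble (nat_lit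 439) i)) (Nat.ble (nat_lit 438) i)) (Nat.ble (nat_lit 436) i)) (@Bool.rec (fun _ => ℕ) (@Bool.rec (fun _ => ℕ) (@Bool.rec (fun _ => ℕ) cb440 cb441 (Nat.ble (nat_lit 441) i)) (@Bool.rec (fun _ => ℕ) cb442 cb443 (Nat.ble (nat_lit 443) i)) (Nat.ble (nat_lit 442) i)) (@Bool.rec (fun _ => ℕ) (@Bool.rec (fun _ => ℕ) cb444 cb445 (Nat.ble (nat_lit 445) i)) (@Bool.rec (fun _ => ℕ) cb446 cb447 (Nat.ble (nat_lit 447) i)) (Nat.ble (nat_lit 446) i)) (Nat.ble (nat_lit 444) i)) (Nat.ble (nat_lit 440) i)) (Nat.ble (nat_lit 432) i))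

def certBlk_n0_14 (i : ℕ) : ℕ := (@Bool.rec (fun _ => ℕ) (@Bool.rec (fun _ => ℕ) (@Bool.rec (fun _ => ℕ) (@Bool.rec (fun _ => ℕ) (@Bool.rec (fun _ => ℕ) cb448 cb449 (Nat.ble (nat_lit 449) i)) (@Bool.rec (fun _ => ℕ) cb450 cb451 (Nat.ble (nat_lit 451) i)) (Nat.ble (nat_lit 450) i)) (@Bool.rec (fun _ => ℕ) (@Bool.rec (fun _ => ℕ) cb452 cb453 (Nat.ble (nat_lit 453) i)) (@Bool.rec (fun _ => ℕ) cb454 cb455 (Nat.ble (nat_lit 455) i)) (Nat.ble (nat_lit 454) i)) (Nat.ble (nat_lit 452) i)) (@Bool.rec (fun _ => ℕ) (@Bool.rec (fun _ => ℕ) (@Bool.rec (fun _ => ℕ) cb456 cb457 (Nat.ble (nat_lit 457) i)) (@Bool.rec (fun _ => ℕ) cb458 cb459 (Nat.ble (nat_lit 459) i)) (Nat.ble (nat_lit 458) i)) (@Bool.rec (fun _ => ℕ) (@Bool.rec (fun _ => ℕ) cb460 cb461 (Nat.ble (nat_lit 461) i)) (@Bool.rec (fun _ => ℕ) cb462 cb463 (Nat.ble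 (nat_lit 463) i)) (Nat.ble (nat_lit 462) i)) (Nat.ble (nat_lit 460) i)) (Nat.ble (nat_lit 456) i)) (@Bool.rec (fun _ => ℕ) (@Bool.rec (fun _ => ℕ) (@Bool.rec (fun _ => ℕ) (@Bool.rec (fun _ => ℕ) cb464 cb465 (Nat.ble (nat_lit 465) i)) (@Bool.rec (fun _ => ℕ) cb466 cb467 (Nat.ble (nat_lit 467) i)) (Nat.ble (nat_lit 466) i)) (@Bool.rec (fun _ => ℕ) (@Bool.rec (fun _ => ℕ) cb468 cb469 (Nat.ble (nat_lit 469) i)) (@Bool.rec (fun _ => ℕ) cb470 cb471 (Nat.ble (nat_lit 471) i)) (Nat.ble (nat_lit 470) i)) (Nat.ble (nat_lit 468) i)) (@Bool.rec (fun _ => ℕ) (@Bool.rec (fun _ => ℕ) (@Bool.rec (fun _ => ℕ) cb472 cb473 (Nat.ble (nat_lit 473) i)) (@Bool.rec (fun _ => ℕ) cb474 cb475 (Nat.ble (nat_lit 475) i)) (Nat.ble (nat_lit 474) i)) (@Bool.rec (fun _ => ℕ) (@Bool.rec (fun _ => ℕ) cb476 cb477 (Nat.ble (nat_lit 477) i))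 (@Bool.rec (fun _ => ℕ) cb478 cb479 (Nat.ble (nat_lit 479) i)) (Nat.ble (nat_lit 478) i)) (Nat.ble (nat_lit 476) i)) (Nat.ble (nat_lit 472) i)) (Nat.ble (nat_lit 464) i))

def certBlk_n0_15 (i : ℕ) : ℕ := (@Bool.rec (fun _ => ℕ) (@Bool.rec (fun _ => ℕ) (@Bool.rec (fun _ => ℕ) (@Bool.rec (fun _ => ℕ) (@Bool.rec (fun _ => ℕ) cb480 cb481 (Nat.ble (nat_lit 481) i)) (@Bool.rec (fun _ => ℕ) cb482 cb483 (Nat.ble (nat_lit 483) i)) (Nat.ble (nat_lit 482) i)) (@Bool.rec (fun _ => ℕ) (@Bool.rec (fun _ => ℕ) cb484 cb485 (Nat.ble (nat_lit 485) i)) (@Bool.rec (fun _ => ℕ) cb486 cb487 (Nat.ble (nat_lit 487) i)) (Nat.ble (nat_lit 486) i)) (Nat.ble (nat_lit 484) i)) (@Bool.rec (fun _ => ℕ) (@Bool.rec (fun _ => ℕ) (@Bool.rec (fun _ => ℕ) cb488 cb489 (Nat.ble (nat_lit 489) i)) (@Bool.rec (fun _ => ℕ) cb490 cb491 (Nat.ble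 (nat_lit 491) i)) (Nat.ble (nat_lit 490) i)) (@Bool.rec (fun _ => ℕ) (@Bool.rec (fun _ => ℕ) cb492 cb493 (Nat.ble (nat_lit 493) i)) (@Bool.rec (fun _ => ℕ) cb494 cb495 (Nat.ble (nat_lit 495) i)) (Nat.ble (nat_lit 494) i)) (Nat.ble (nat_lit 492) i)) (Nat.ble (nat_lit 488) i)) (@Bool.rec (fun _ => ℕ) (@Bool.rec (fun _ => ℕ) (@Bool.rec (fun _ => ℕ) (@Bool.rec (fun _ => ℕ) cb496 cb497 (Nat.ble (nat_lit 497) i)) (@Bool.rec (fun _ => ℕ) cb498 cb499 (Nat.ble (nat_lit 499) i)) (Nat.ble (nat_lit 498) i)) (@Bool.rec (fun _ => ℕ) (@Bool.rec (fun _ => ℕ) cb500 cb501 (Nat.ble (nat_lit 501) i)) (@Bool.rec (fun _ => ℕ) cb502 cb503 (Nat.ble (nat_lit 503) i)) (Nat.ble (nat_lit 502) i)) (Nat.ble (nat_lit 500) i)) (@Bool.rec (fun _ => ℕ) (@Bool.rec (fun _ => ℕ) (@Bool.rec (fun _ => ℕ) cb504 cb505 (Nat.ble (nat_lit 505) i))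 (@Bool.rec (fun _ => ℕ) cb506 cb507 (Nat.ble (nat_lit 507) i)) (Nat.ble (nat_lit 506) i)) (@Bool.rec (fun _ => ℕ) (@Bool.rec (fun _ => ℕ) cb508 cb509 (Nat.ble (nat_lit 509) i)) (@Bool.rec (fun _ => ℕ) cb510 cb511 (Nat.ble (nat_lit 511) i)) (Nat.ble (nat_lit 510) i)) (Nat.ble (nat_lit 508) i)) (Nat.ble (nat_lit 504) i)) (Nat.ble (nat_lit 496) i))

def certBlk_n0_16 (i : ℕ) : ℕ := (@Bool.rec (fun _ => ℕ) (@Bool.rec (fun _ => ℕ) (@Bool.rec (fun _ => ℕ) (@Bool.rec (fun _ => ℕ) (@Bool.rec (fun _ => ℕ) cb512 cb513 (Nat.ble (nat_lit 513) i)) (@Bool.rec (fun _ => ℕ) cb514 cb515 (Nat.ble (nat_lit 515) i)) (Nat.ble (nat_lit 514) i)) (@Bool.rec (fun _ => ℕ) (@Bool.rec (fun _ => ℕ) cb516 cb517 (Nat.ble (nat_lit 517) i)) (@Bool.rec (fun _ => ℕ) cb518 cb519 (Nat.ble (nat_lit 519) i)) (Nat.ble (nat_lit 518) i)) (Nat.ble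 (nat_lit 516) i)) (@Bool.rec (fun _ => ℕ) (@Bool.rec (fun _ => ℕ) (@Bool.rec (fun _ => ℕ) cb520 cb521 (Nat.ble (nat_lit 521) i)) (@Bool.rec (fun _ => ℕ) cb522 cb523 (Nat.ble (nat_lit 523) i)) (Nat.ble (nat_lit 522) i)) (@Bool.rec (fun _ => ℕ) (@Bool.rec (fun _ => ℕ) cb524 cb525 (Nat.ble (nat_lit 525) i)) (@Bool.rec (fun _ => ℕ) cb526 cb527 (Nat.ble (nat_lit 527) i)) (Nat.ble (nat_lit 526) i)) (Nat.ble (nat_lit 524) i)) (Nat.ble (nat_lit 520) i)) (@Bool.rec (fun _ => ℕ) (@Bool.rec (fun _ => ℕ) (@Bool.rec (fun _ => ℕ) (@Bool.rec (fun _ => ℕ) cb528 cb529 (Nat.ble (nat_lit 529) i)) (@Bool.rec (fun _ => ℕ) cb530 cb531 (Nat.ble (nat_lit 531) i)) (Nat.ble (nat_lit 530) i)) (@Bool.rec (fun _ => ℕ) (@Bool.rec (fun _ => ℕ) cb532 cb533 (Nat.ble (nat_lit 533) i)) (@Bool.rec (fun _ => ℕ) cb534 cb535 (Nat.ble (nat_lit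 535) i)) (Nat.ble (nat_lit 534) i)) (Nat.ble (nat_lit 532) i)) (@Bool.rec (fun _ => ℕ) (@Bool.rec (fun _ => ℕ) (@Bool.rec (fun _ => ℕ) cb536 cb537 (Nat.ble (nat_lit 537) i)) (@Bool.rec (fun _ => ℕ) cb538 cb539 (Nat.ble (nat_lit 539) i)) (Nat.ble (nat_lit 538) i)) (@Bool.rec (fun _ => ℕ) (@Bool.rec (fun _ => ℕ) cb540 cb541 (Nat.ble (nat_lit 541) i)) (@Bool.rec (fun _ => ℕ) cb542 cb543 (Nat.ble (nat_lit 543) i)) (Nat.ble (nat_lit 542) i)) (Nat.ble (nat_lit 540) i)) (Nat.ble (nat_lit 536) i)) (Nat.ble (nat_lit 528) i))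

def certBlk_n0_17 (i : ℕ) : ℕ := (@Bool.rec (fun _ => ℕ) (@Bool.rec (fun _ => ℕ) (@Bool.rec (fun _ => ℕ) (@Bool.rec (fun _ => ℕ) (@Bool.rec (fun _ => ℕ) cb544 cb545 (Nat.ble (nat_lit 545) i)) (@Bool.rec (fun _ => ℕ) cb546 cb547 (Nat.ble (nat_lit 547) i)) (Nat.ble (nat_lit 546) i)) (@Bool.rec (fun _ => ℕ) (@Bool.rec (fun _ => ℕ) cb548 cb549 (Nat.ble (nat_lit 549) i)) (@Bool.rec (fun _ => ℕ) cb550 cb551 (Nat.ble (nat_lit 551) i)) (Nat.ble (nat_lit 550) i)) (Nat.ble (nat_lit 548) i)) (@Bool.rec (fun _ => ℕ) (@Bool.rec (fun _ => ℕ) (@Bool.rec (fun _ => ℕ) cb552 cb553 (Nat.ble (nat_lit 553) i)) (@Bool.rec (fun _ => ℕ) cb554 cb555 (Nat.ble (nat_lit 555) i)) (Nat.ble (nat_lit 554) i)) (@Bool.rec (fun _ => ℕ) (@Bool.rec (fun _ => ℕ) cb556 cb557 (Nat.ble (nat_lit 557) i)) (@Bool.rec (fun _ => ℕ) cb558 cb559 (Nat.ble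 (nat_lit 559) i)) (Nat.ble (nat_lit 558) i)) (Nat.ble (nat_lit 556) i)) (Nat.ble (nat_lit 552) i)) (@Bool.rec (fun _ => ℕ) (@Bool.rec (fun _ => ℕ) (@Bool.rec (fun _ => ℕ) (@Bool.rec (fun _ => ℕ) cb560 cb561 (Nat.ble (nat_lit 561) i)) (@Bool.rec (fun _ => ℕ) cb562 cb563 (Nat.ble (nat_lit 563) i)) (Nat.ble (nat_lit 562) i)) (@Bool.rec (fun _ => ℕ) (@Bool.rec (fun _ => ℕ) cb564 cb565 (Nat.ble (nat_lit 565) i)) (@Bool.rec (fun _ => ℕ) cb566 cb567 (Nat.ble (nat_lit 567) i)) (Nat.ble (nat_lit 566) i)) (Nat.ble (nat_lit 564) i)) (@Bool.rec (fun _ => ℕ) (@Bool.rec (fun _ => ℕ) (@Bool.rec (fun _ => ℕ) cb568 cb569 (Nat.ble (nat_lit 569) i)) (@Bool.rec (fun _ => ℕ) cb570 cb571 (Nat.ble (nat_lit 571) i)) (Nat.ble (nat_lit 570) i)) (@Bool.rec (fun _ => ℕ) (@Bool.rec (fun _ => ℕ) cb572 cb573 (Nat.ble (nat_lit 573) i))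 (@Bool.rec (fun _ => ℕ) cb574 cb575 (Nat.ble (nat_lit 575) i)) (Nat.ble (nat_lit 574) i)) (Nat.ble (nat_lit 572) i)) (Nat.ble (nat_lit 568) i)) (Nat.ble (nat_lit 560) i))

def certBlk_n0_18 (i : ℕ) : ℕ := (@Bool.rec (fun _ => ℕ) (@Bool.rec (fun _ => ℕ) (@Bool.rec (fun _ => ℕ) (@Bool.rec (fun _ => ℕ) (@Bool.rec (fun _ => ℕ) cb576 cb577 (Nat.ble (nat_lit 577) i)) (@Bool.rec (fun _ => ℕ) cb578 cb579 (Nat.ble (nat_lit 579) i)) (Nat.ble (nat_lit 578) i)) (@Bool.rec (fun _ => ℕ) (@Bool.rec (fun _ => ℕ) cb580 cb581 (Nat.ble (nat_lit 581) i)) (@Bool.rec (fun _ => ℕ) cb582 cb583 (Nat.ble (nat_lit 583) i)) (Nat.ble (nat_lit 582) i)) (Nat.ble (nat_lit 580) i)) (@Bool.rec (fun _ => ℕ) (@Bool.rec (fun _ => ℕ) (@Bool.rec (fun _ => ℕ) cb584 cb585 (Nat.ble (nat_lit 585) i)) (@Bool.rec (fun _ => ℕ) cb586 cb587 (Nat.ble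 (nat_lit 587) i)) (Nat.ble (nat_lit 586) i)) (@Bool.rec (fun _ => ℕ) (@Bool.rec (fun _ => ℕ) cb588 cb589 (Nat.ble (nat_lit 589) i)) (@Bool.rec (fun _ => ℕ) cb590 cb591 (Nat.ble (nat_lit 591) i)) (Nat.ble (nat_lit 590) i)) (Nat.ble (nat_lit 588) i)) (Nat.ble (nat_lit 584) i)) (@Bool.rec (fun _ => ℕ) (@Bool.rec (fun _ => ℕ) (@Bool.rec (fun _ => ℕ) (@Bool.rec (fun _ => ℕ) cb592 cb593 (Nat.ble (nat_lit 593) i)) (@Bool.rec (fun _ => ℕ) cb594 cb595 (Nat.ble (nat_lit 595) i)) (Nat.ble (nat_lit 594) i)) (@Bool.rec (fun _ => ℕ) (@Bool.rec (fun _ => ℕ) cb596 cb597 (Nat.ble (nat_lit 597) i)) (@Bool.rec (fun _ => ℕ) cb598 cb599 (Nat.ble (nat_lit 599) i)) (Nat.ble (nat_lit 598) i)) (Nat.ble (nat_lit 596) i)) (@Bool.rec (fun _ => ℕ) (@Bool.rec (fun _ => ℕ) (@Bool.rec (fun _ => ℕ) cb600 cb601 (Nat.ble (nat_lit 601) i))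 (@Bool.rec (fun _ => ℕ) cb602 cb603 (Nat.ble (nat_lit 603) i)) (Nat.ble (nat_lit 602) i)) (@Bool.rec (fun _ => ℕ) (@Bool.rec (fun _ => ℕ) cb604 cb605 (Nat.ble (nat_lit 605) i)) (@Bool.rec (fun _ => ℕ) cb606 cb607 (Nat.ble (nat_lit 607) i)) (Nat.ble (nat_lit 606) i)) (Nat.ble (nat_lit 604) i)) (Nat.ble (nat_lit 600) i)) (Nat.ble (nat_lit 592) i))

def certBlk_n0_19 (i : ℕ) : ℕ := (@Bool.rec (fun _ => ℕ) (@Bool.rec (fun _ => ℕ) (@Bool.rec (fun _ => ℕ) (@Bool.rec (fun _ => ℕ) (@Bool.rec (fun _ => ℕ) cb608 cb609 (Nat.ble (nat_lit 609) i)) (@Bool.rec (fun _ => ℕ) cb610 cb611 (Nat.ble (nat_lit 611) i)) (Nat.ble (nat_lit 610) i)) (@Bool.rec (fun _ => ℕ) (@Bool.rec (fun _ => ℕ) cb612 cb613 (Nat.ble (nat_lit 613) i)) (@Bool.rec (fun _ => ℕ) cb614 cb615 (Nat.ble (nat_lit 615) i)) (Nat.ble (nat_lit 614) i)) (Nat.ble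 (nat_lit 612) i)) (@Bool.rec (fun _ => ℕ) (@Bool.rec (fun _ => ℕ) (@Bool.rec (fun _ => ℕ) cb616 cb617 (Nat.ble (nat_lit 617) i)) (@Bool.rec (fun _ => ℕ) cb618 cb619 (Nat.ble (nat_lit 619) i)) (Nat.ble (nat_lit 618) i)) (@Bool.rec (fun _ => ℕ) (@Bool.rec (fun _ => ℕ) cb620 cb621 (Nat.ble (nat_lit 621) i)) (@Bool.rec (fun _ => ℕ) cb622 cb623 (Nat.ble (nat_lit 623) i)) (Nat.ble (nat_lit 622) i)) (Nat.ble (nat_lit 620) i)) (Nat.ble (nat_lit 616) i)) (@Bool.rec (fun _ => ℕ) (@Bool.rec (fun _ => ℕ) (@Bool.rec (fun _ => ℕ) (@Bool.rec (fun _ => ℕ) cb624 cb625 (Nat.ble (nat_lit 625) i)) (@Bool.rec (fun _ => ℕ) cb626 cb627 (Nat.ble (nat_lit 627) i)) (Nat.ble (nat_lit 626) i)) (@Bool.rec (fun _ => ℕ) (@Bool.rec (fun _ => ℕ) cb628 cb629 (Nat.ble (nat_lit 629) i)) (@Bool.rec (fun _ => ℕ) cb630 cb631 (Nat.ble (nat_lit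 631) i)) (Nat.ble (nat_lit 630) i)) (Nat.ble (nat_lit 628) i)) (@Bool.rec (fun _ => ℕ) (@Bool.rec (fun _ => ℕ) (@Bool.rec (fun _ => ℕ) cb632 cb633 (Nat.ble (nat_lit 633) i)) (@Bool.rec (fun _ => ℕ) cb634 cb635 (Nat.ble (nat_lit 635) i)) (Nat.ble (nat_lit 634) i)) (@Bool.rec (fun _ => ℕ) (@Bool.rec (fun _ => ℕ) cb636 cb637 (Nat.ble (nat_lit 637) i)) (@Bool.rec (fun _ => ℕ) cb638 cb639 (Nat.ble (nat_lit 639) i)) (Nat.ble (nat_lit 638) i)) (Nat.ble (nat_lit 636) i)) (Nat.ble (nat_lit 632) i)) (Nat.ble (nat_lit 624) i))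

def certBlk_n0_20 (i : ℕ) : ℕ := (@Bool.rec (fun _ => ℕ) (@Bool.rec (fun _ => ℕ) (@Bool.rec (fun _ => ℕ) (@Bool.rec (fun _ => ℕ) (@Bool.rec (fun _ => ℕ) cb640 cb641 (Nat.ble (nat_lit 641) i)) (@Bool.rec (fun _ => ℕ) cb642 cb643 (Nat.ble (nat_lit 643) i)) (Nat.ble (nat_lit 642) i)) (@Bool.rec (fun _ => ℕ) (@Bool.rec (fun _ => ℕ) cb644 cb645 (Nat.ble (nat_lit 645) i)) (@Bool.rec (fun _ => ℕ) cb646 cb647 (Nat.ble (nat_lit 647) i)) (Nat.ble (nat_lit 646) i)) (Nat.ble (nat_lit 644) i)) (@Bool.rec (fun _ => ℕ) (@Bool.rec (fun _ => ℕ) (@Bool.rec (fun _ => ℕ) cb648 cb649 (Nat.ble (nat_lit 649) i)) (@Bool.rec (fun _ => ℕ) cb650 cb651 (Nat.ble (nat_lit 651) i)) (Nat.ble (nat_lit 650) i)) (@Bool.rec (fun _ => ℕ) (@Bool.rec (fun _ => ℕ) cb652 cb653 (Nat.ble (nat_lit 653) i)) (@Bool.rec (fun _ => ℕ) cb654 cb655 (Nat.ble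 (nat_lit 655) i)) (Nat.ble (nat_lit 654) i)) (Nat.ble (nat_lit 652) i)) (Nat.ble (nat_lit 648) i)) (@Bool.rec (fun _ => ℕ) (@Bool.rec (fun _ => ℕ) (@Bool.rec (fun _ => ℕ) (@Bool.rec (fun _ => ℕ) cb656 cb657 (Nat.ble (nat_lit 657) i)) (@Bool.rec (fun _ => ℕ) cb658 cb659 (Nat.ble (nat_lit 659) i)) (Nat.ble (nat_lit 658) i)) (@Bool.rec (fun _ => ℕ) (@Bool.rec (fun _ => ℕ) cb660 cb661 (Nat.ble (nat_lit 661) i)) (@Bool.rec (fun _ => ℕ) cb662 cb663 (Nat.ble (nat_lit 663) i)) (Nat.ble (nat_lit 662) i)) (Nat.ble (nat_lit 660) i)) (@Bool.rec (fun _ => ℕ) (@Bool.rec (fun _ => ℕ) (@Bool.rec (fun _ => ℕ) cb664 cb665 (Nat.ble (nat_lit 665) i)) (@Bool.rec (fun _ => ℕ) cb666 cb667 (Nat.ble (nat_lit 667) i)) (Nat.ble (nat_lit 666) i)) (@Bool.rec (fun _ => ℕ) (@Bool.rec (fun _ => ℕ) cb668 cb669 (Nat.ble (nat_lit 669) i))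 (@Bool.rec (fun _ => ℕ) cb670 cb671 (Nat.ble (nat_lit 671) i)) (Nat.ble (nat_lit 670) i)) (Nat.ble (nat_lit 668) i)) (Nat.ble (nat_lit 664) i)) (Nat.ble (nat_lit 656) i))

def certBlk_n0_21 (i : ℕ) : ℕ := (@Bool.rec (fun _ => ℕ) (@Bool.rec (fun _ => ℕ) (@Bool.rec (fun _ => ℕ) (@Bool.rec (fun _ => ℕ) (@Bool.rec (fun _ => ℕ) cb672 cb673 (Nat.ble (nat_lit 673) i)) (@Bool.rec (fun _ => ℕ) cb674 cb675 (Nat.ble (nat_lit 675) i)) (Nat.ble (nat_lit 674) i)) (@Bool.rec (fun _ => ℕ) (@Bool.rec (fun _ => ℕ) cb676 cb677 (Nat.ble (nat_lit 677) i)) (@Bool.rec (fun _ => ℕ) cb678 cb679 (Nat.ble (nat_lit 679) i)) (Nat.ble (nat_lit 678) i)) (Nat.ble (nat_lit 676) i)) (@Bool.rec (fun _ => ℕ) (@Bool.rec (fun _ => ℕ) (@Bool.rec (fun _ => ℕ) cb680 cb681 (Nat.ble (nat_lit 681) i)) (@Bool.rec (fun _ => ℕ) cb682 cb683 (Nat.ble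 (nat_lit 683) i)) (Nat.ble (nat_lit 682) i)) (@Bool.rec (fun _ => ℕ) (@Bool.rec (fun _ => ℕ) cb684 cb685 (Nat.ble (nat_lit 685) i)) (@Bool.rec (fun _ => ℕ) cb686 cb687 (Nat.ble (nat_lit 687) i)) (Nat.ble (nat_lit 686) i)) (Nat.ble (nat_lit 684) i)) (Nat.ble (nat_lit 680) i)) (@Bool.rec (fun _ => ℕ) (@Bool.rec (fun _ => ℕ) (@Bool.rec (fun _ => ℕ) (@Bool.rec (fun _ => ℕ) cb688 cb689 (Nat.ble (nat_lit 689) i)) (@Bool.rec (fun _ => ℕ) cb690 cb691 (Nat.ble (nat_lit 691) i)) (Nat.ble (nat_lit 690) i)) (@Bool.rec (fun _ => ℕ) (@Bool.rec (fun _ => ℕ) cb692 cb693 (Nat.ble (nat_lit 693) i)) (@Bool.rec (fun _ => ℕ) cb694 cb695 (Nat.ble (nat_lit 695) i)) (Nat.ble (nat_lit 694) i)) (Nat.ble (nat_lit 692) i)) (@Bool.rec (fun _ => ℕ) (@Bool.rec (fun _ => ℕ) (@Bool.rec (fun _ => ℕ) cb696 cb697 (Nat.ble (nat_lit 697) i))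 (@Bool.rec (fun _ => ℕ) cb698 cb699 (Nat.ble (nat_lit 699) i)) (Nat.ble (nat_lit 698) i)) (@Bool.rec (fun _ => ℕ) (@Bool.rec (fun _ => ℕ) cb700 cb701 (Nat.ble (nat_lit 701) i)) (@Bool.rec (fun _ => ℕ) cb702 cb703 (Nat.ble (nat_lit 703) i)) (Nat.ble (nat_lit 702) i)) (Nat.ble (nat_lit 700) i)) (Nat.ble (nat_lit 696) i)) (Nat.ble (nat_lit 688) i))

def certBlk_n0_22 (i : ℕ) : ℕ := (@Bool.rec (fun _ => ℕ) (@Bool.rec (fun _ => ℕ) (@Bool.rec (fun _ => ℕ) (@Bool.rec (fun _ => ℕ) (@Bool.rec (fun _ => ℕ) cb704 cb705 (Nat.ble (nat_lit 705) i)) (@Bool.rec (fun _ => ℕ) cb706 cb707 (Nat.ble (nat_lit 707) i)) (Nat.ble (nat_lit 706) i)) (@Bool.rec (fun _ => ℕ) (@Bool.rec (fun _ => ℕ) cb708 cb709 (Nat.ble (nat_lit 709) i)) (@Bool.rec (fun _ => ℕ) cb710 cb711 (Nat.ble (nat_lit 711) i)) (Nat.ble (nat_lit 710) i)) (Nat.ble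 (nat_lit 708) i)) (@Bool.rec (fun _ => ℕ) (@Bool.rec (fun _ => ℕ) (@Bool.rec (fun _ => ℕ) cb712 cb713 (Nat.ble (nat_lit 713) i)) (@Bool.rec (fun _ => ℕ) cb714 cb715 (Nat.ble (nat_lit 715) i)) (Nat.ble (nat_lit 714) i)) (@Bool.rec (fun _ => ℕ) (@Bool.rec (fun _ => ℕ) cb716 cb717 (Nat.ble (nat_lit 717) i)) (@Bool.rec (fun _ => ℕ) cb718 cb719 (Nat.ble (nat_lit 719) i)) (Nat.ble (nat_lit 718) i)) (Nat.ble (nat_lit 716) i)) (Nat.ble (nat_lit 712) i)) (@Bool.rec (fun _ => ℕ) (@Bool.rec (fun _ => ℕ) (@Bool.rec (fun _ => ℕ) (@Bool.rec (fun _ => ℕ) cb720 cb721 (Nat.ble (nat_lit 721) i)) (@Bool.rec (fun _ => ℕ) cb722 cb723 (Nat.ble (nat_lit 723) i)) (Nat.ble (nat_lit 722) i)) (@Bool.rec (fun _ => ℕ) (@Bool.rec (fun _ => ℕ) cb724 cb725 (Nat.ble (nat_lit 725) i)) (@Bool.rec (fun _ => ℕ) cb726 cb727 (Nat.ble (nat_lit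 727) i)) (Nat.ble (nat_lit 726) i)) (Nat.ble (nat_lit 724) i)) (@Bool.rec (fun _ => ℕ) (@Bool.rec (fun _ => ℕ) (@Bool.rec (fun _ => ℕ) cb728 cb729 (Nat.ble (nat_lit 729) i)) (@Bool.rec (fun _ => ℕ) cb730 cb731 (Nat.ble (nat_lit 731) i)) (Nat.ble (nat_lit 730) i)) (@Bool.rec (fun _ => ℕ) (@Bool.rec (fun _ => ℕ) cb732 cb733 (Nat.ble (nat_lit 733) i)) (@Bool.rec (fun _ => ℕ) cb734 cb735 (Nat.ble (nat_lit 735) i)) (Nat.ble (nat_lit 734) i)) (Nat.ble (nat_lit 732) i)) (Nat.ble (nat_lit 728) i)) (Nat.ble (nat_lit 720) i))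

def certBlk_n0_23 (i : ℕ) : ℕ := (@Bool.rec (fun _ => ℕ) (@Bool.rec (fun _ => ℕ) (@Bool.rec (fun _ => ℕ) (@Bool.rec (fun _ => ℕ) (@Bool.rec (fun _ => ℕ) cb736 cb737 (Nat.ble (nat_lit 737) i)) (@Bool.rec (fun _ => ℕ) cb738 cb739 (Nat.ble (nat_lit 739) i)) (Nat.ble (nat_lit 738) i)) (@Bool.rec (fun _ => ℕ) (@Bool.rec (fun _ => ℕ) cb740 cb741 (Nat.ble (nat_lit 741) i)) (@Bool.rec (fun _ => ℕ) cb742 cb743 (Nat.ble (nat_lit 743) i)) (Nat.ble (nat_lit 742) i)) (Nat.ble (nat_lit 740) i)) (@Bool.rec (fun _ => ℕ) (@Bool.rec (fun _ => ℕ) (@Bool.rec (fun _ => ℕ) cb744 cb745 (Nat.ble (nat_lit 745) i)) (@Bool.rec (fun _ => ℕ) cb746 cb747 (Nat.ble (nat_lit 747) i)) (Nat.ble (nat_lit 746) i)) (@Bool.rec (fun _ => ℕ) (@Bool.rec (fun _ => ℕ) cb748 cb749 (Nat.ble (nat_lit 749) i)) (@Bool.rec (fun _ => ℕ) cb750 cb751 (Nat.ble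 (nat_lit 751) i)) (Nat.ble (nat_lit 750) i)) (Nat.ble (nat_lit 748) i)) (Nat.ble (nat_lit 744) i)) (@Bool.rec (fun _ => ℕ) (@Bool.rec (fun _ => ℕ) (@Bool.rec (fun _ => ℕ) (@Bool.rec (fun _ => ℕ) cb752 cb753 (Nat.ble (nat_lit 753) i)) (@Bool.rec (fun _ => ℕ) cb754 cb755 (Nat.ble (nat_lit 755) i)) (Nat.ble (nat_lit 754) i)) (@Bool.rec (fun _ => ℕ) (@Bool.rec (fun _ => ℕ) cb756 cb757 (Nat.ble (nat_lit 757) i)) (@Bool.rec (fun _ => ℕ) cb758 cb759 (Nat.ble (nat_lit 759) i)) (Nat.ble (nat_lit 758) i)) (Nat.ble (nat_lit 756) i)) (@Bool.rec (fun _ => ℕ) (@Bool.rec (fun _ => ℕ) (@Bool.rec (fun _ => ℕ) cb760 cb761 (Nat.ble (nat_lit 761) i)) (@Bool.rec (fun _ => ℕ) cb762 cb763 (Nat.ble (nat_lit 763) i)) (Nat.ble (nat_lit 762) i)) (@Bool.rec (fun _ => ℕ) (@Bool.rec (fun _ => ℕ) cb764 cb765 (Nat.ble (nat_lit 765) i))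 (@Bool.rec (fun _ => ℕ) cb766 cb767 (Nat.ble (nat_lit 767) i)) (Nat.ble (nat_lit 766) i)) (Nat.ble (nat_lit 764) i)) (Nat.ble (nat_lit 760) i)) (Nat.ble (nat_lit 752) i))

def certBlk_n0_24 (i : ℕ) : ℕ := (@Bool.rec (fun _ => ℕ) (@Bool.rec (fun _ => ℕ) (@Bool.rec (fun _ => ℕ) (@Bool.rec (fun _ => ℕ) (@Bool.rec (fun _ => ℕ) cb768 cb769 (Nat.ble (nat_lit 769) i)) (@Bool.rec (fun _ => ℕ) cb770 cb771 (Nat.ble (nat_lit 771) i)) (Nat.ble (nat_lit 770) i)) (@Bool.rec (fun _ => ℕ) (@Bool.rec (fun _ => ℕ) cb772 cb773 (Nat.ble (nat_lit 773) i)) (@Bool.rec (fun _ => ℕ) cb774 cb775 (Nat.ble (nat_lit 775) i)) (Nat.ble (nat_lit 774) i)) (Nat.ble (nat_lit 772) i)) (@Bool.rec (fun _ => ℕ) (@Bool.rec (fun _ => ℕ) (@Bool.rec (fun _ => ℕ) cb776 cb777 (Nat.ble (nat_lit 777) i)) (@Bool.rec (fun _ => ℕ) cb778 cb779 (Nat.ble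 (nat_lit 779) i)) (Nat.ble (nat_lit 778) i)) (@Bool.rec (fun _ => ℕ) (@Bool.rec (fun _ => ℕ) cb780 cb781 (Nat.ble (nat_lit 781) i)) (@Bool.rec (fun _ => ℕ) cb782 cb783 (Nat.ble (nat_lit 783) i)) (Nat.ble (nat_lit 782) i)) (Nat.ble (nat_lit 780) i)) (Nat.ble (nat_lit 776) i)) (@Bool.rec (fun _ => ℕ) (@Bool.rec (fun _ => ℕ) (@Bool.rec (fun _ => ℕ) (@Bool.rec (fun _ => ℕ) cb784 cb785 (Nat.ble (nat_lit 785) i)) (@Bool.rec (fun _ => ℕ) cb786 cb787 (Nat.ble (nat_lit 787) i)) (Nat.ble (nat_lit 786) i)) (@Bool.rec (fun _ => ℕ) (@Bool.rec (fun _ => ℕ) cb788 cb789 (Nat.ble (nat_lit 789) i)) (@Bool.rec (fun _ => ℕ) cb790 cb791 (Nat.ble (nat_lit 791) i)) (Nat.ble (nat_lit 790) i)) (Nat.ble (nat_lit 788) i)) (@Bool.rec (fun _ => ℕ) (@Bool.rec (fun _ => ℕ) (@Bool.rec (fun _ => ℕ) cb792 cb793 (Nat.ble (nat_lit 793) i))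 (@Bool.rec (fun _ => ℕ) cb794 cb795 (Nat.ble (nat_lit 795) i)) (Nat.ble (nat_lit 794) i)) (@Bool.rec (fun _ => ℕ) (@Bool.rec (fun _ => ℕ) cb796 cb797 (Nat.ble (nat_lit 797) i)) (@Bool.rec (fun _ => ℕ) cb798 cb799 (Nat.ble (nat_lit 799) i)) (Nat.ble (nat_lit 798) i)) (Nat.ble (nat_lit 796) i)) (Nat.ble (nat_lit 792) i)) (Nat.ble (nat_lit 784) i))

def certBlk_n0_25 (i : ℕ) : ℕ := (@Bool.rec (fun _ => ℕ) (@Bool.rec (fun _ => ℕ) (@Bool.rec (fun _ => ℕ) (@Bool.rec (fun _ => ℕ) (@Bool.rec (fun _ => ℕ) cb800 cb801 (Nat.ble (nat_lit 801) i)) (@Bool.rec (fun _ => ℕ) cb802 cb803 (Nat.ble (nat_lit 803) i)) (Nat.ble (nat_lit 802) i)) (@Bool.rec (fun _ => ℕ) (@Bool.rec (fun _ => ℕ) cb804 cb805 (Nat.ble (nat_lit 805) i)) (@Bool.rec (fun _ => ℕ) cb806 cb807 (Nat.ble (nat_lit 807) i)) (Nat.ble (nat_lit 806) i)) (Nat.ble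 (nat_lit 804) i)) (@Bool.rec (fun _ => ℕ) (@Bool.rec (fun _ => ℕ) (@Bool.rec (fun _ => ℕ) cb808 cb809 (Nat.ble (nat_lit 809) i)) (@Bool.rec (fun _ => ℕ) cb810 cb811 (Nat.ble (nat_lit 811) i)) (Nat.ble (nat_lit 810) i)) (@Bool.rec (fun _ => ℕ) (@Bool.rec (fun _ => ℕ) cb812 cb813 (Nat.ble (nat_lit 813) i)) (@Bool.rec (fun _ => ℕ) cb814 cb815 (Nat.ble (nat_lit 815) i)) (Nat.ble (nat_lit 814) i)) (Nat.ble (nat_lit 812) i)) (Nat.ble (nat_lit 808) i)) (@Bool.rec (fun _ => ℕ) (@Bool.rec (fun _ => ℕ) (@Bool.rec (fun _ => ℕ) (@Bool.rec (fun _ => ℕ) cb816 cb817 (Nat.ble (nat_lit 817) i)) (@Bool.rec (fun _ => ℕ) cb818 cb819 (Nat.ble (nat_lit 819) i)) (Nat.ble (nat_lit 818) i)) (@Bool.rec (fun _ => ℕ) (@Bool.rec (fun _ => ℕ) cb820 cb821 (Nat.ble (nat_lit 821) i)) (@Bool.rec (fun _ => ℕ) cb822 cb823 (Nat.ble (nat_lit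 823) i)) (Nat.ble (nat_lit 822) i)) (Nat.ble (nat_lit 820) i)) (@Bool.rec (fun _ => ℕ) (@Bool.rec (fun _ => ℕ) (@Bool.rec (fun _ => ℕ) cb824 cb825 (Nat.ble (nat_lit 825) i)) (@Bool.rec (fun _ => ℕ) cb826 cb827 (Nat.ble (nat_lit 827) i)) (Nat.ble (nat_lit 826) i)) (@Bool.rec (fun _ => ℕ) (@Bool.rec (fun _ => ℕ) cb828 cb829 (Nat.ble (nat_lit 829) i)) (@Bool.rec (fun _ => ℕ) cb830 cb831 (Nat.ble (nat_lit 831) i)) (Nat.ble (nat_lit 830) i)) (Nat.ble (nat_lit 828) i)) (Nat.ble (nat_lit 824) i)) (Nat.ble (nat_lit 816) i))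

def certBlk_n0_26 (i : ℕ) : ℕ := (@Bool.rec (fun _ => ℕ) (@Bool.rec (fun _ => ℕ) (@Bool.rec (fun _ => ℕ) (@Bool.rec (fun _ => ℕ) (@Bool.rec (fun _ => ℕ) cb832 cb833 (Nat.ble (nat_lit 833) i)) (@Bool.rec (fun _ => ℕ) cb834 cb835 (Nat.ble (nat_lit 835) i)) (Nat.ble (nat_lit 834) i)) (@Bool.rec (fun _ => ℕ) (@Bool.rec (fun _ => ℕ) cb836 cb837 (Nat.ble (nat_lit 837) i)) (@Bool.rec (fun _ => ℕ) cb838 cb839 (Nat.ble (nat_lit 839) i)) (Nat.ble (nat_lit 838) i)) (Nat.ble (nat_lit 836) i)) (@Bool.rec (fun _ => ℕ) (@Bool.rec (fun _ => ℕ) (@Bool.rec (fun _ => ℕ) cb840 cb841 (Nat.ble (nat_lit 841) i)) (@Bool.rec (fun _ => ℕ) cb842 cb843 (Nat.ble (nat_lit 843) i)) (Nat.ble (nat_lit 842) i)) (@Bool.rec (fun _ => ℕ) (@Bool.rec (fun _ => ℕ) cb844 cb845 (Nat.ble (nat_lit 845) i)) (@Bool.rec (fun _ => ℕ) cb846 cb847 (Nat.ble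 (nat_lit 847) i)) (Nat.ble (nat_lit 846) i)) (Nat.ble (nat_lit 844) i)) (Nat.ble (nat_lit 840) i)) (@Bool.rec (fun _ => ℕ) (@Bool.rec (fun _ => ℕ) (@Bool.rec (fun _ => ℕ) (@Bool.rec (fun _ => ℕ) cb848 cb849 (Nat.ble (nat_lit 849) i)) (@Bool.rec (fun _ => ℕ) cb850 cb851 (Nat.ble (nat_lit 851) i)) (Nat.ble (nat_lit 850) i)) (@Bool.rec (fun _ => ℕ) (@Bool.rec (fun _ => ℕ) cb852 cb853 (Nat.ble (nat_lit 853) i)) (@Bool.rec (fun _ => ℕ) cb854 cb855 (Nat.ble (nat_lit 855) i)) (Nat.ble (nat_lit 854) i)) (Nat.ble (nat_lit 852) i)) (@Bool.rec (fun _ => ℕ) (@Bool.rec (fun _ => ℕ) (@Bool.rec (fun _ => ℕ) cb856 cb857 (Nat.ble (nat_lit 857) i)) (@Bool.rec (fun _ => ℕ) cb858 cb859 (Nat.ble (nat_lit 859) i)) (Nat.ble (nat_lit 858) i)) (@Bool.rec (fun _ => ℕ) (@Bool.rec (fun _ => ℕ) cb860 cb861 (Nat.ble (nat_lit 861) i))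 (@Bool.rec (fun _ => ℕ) cb862 cb863 (Nat.ble (nat_lit 863) i)) (Nat.ble (nat_lit 862) i)) (Nat.ble (nat_lit 860) i)) (Nat.ble (nat_lit 856) i)) (Nat.ble (nat_lit 848) i))

def certBlk_n0_27 (i : ℕ) : ℕ := (@Bool.rec (fun _ => ℕ) (@Bool.rec (fun _ => ℕ) (@Bool.rec (fun _ => ℕ) (@Bool.rec (fun _ => ℕ) (@Bool.rec (fun _ => ℕ) cb864 cb865 (Nat.ble (nat_lit 865) i)) (@Bool.rec (fun _ => ℕ) cb866 cb867 (Nat.ble (nat_lit 867) i)) (Nat.ble (nat_lit 866) i)) (@Bool.rec (fun _ => ℕ) (@Bool.rec (fun _ => ℕ) cb868 cb869 (Nat.ble (nat_lit 869) i)) (@Bool.rec (fun _ => ℕ) cb870 cb871 (Nat.ble (nat_lit 871) i)) (Nat.ble (nat_lit 870) i)) (Nat.ble (nat_lit 868) i)) (@Bool.rec (fun _ => ℕ) (@Bool.rec (fun _ => ℕ) (@Bool.rec (fun _ => ℕ) cb872 cb873 (Nat.ble (nat_lit 873) i)) (@Bool.rec (fun _ => ℕ) cb874 cb875 (Nat.ble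 (nat_lit 875) i)) (Nat.ble (nat_lit 874) i)) (@Bool.rec (fun _ => ℕ) (@Bool.rec (fun _ => ℕ) cb876 cb877 (Nat.ble (nat_lit 877) i)) (@Bool.rec (fun _ => ℕ) cb878 cb879 (Nat.ble (nat_lit 879) i)) (Nat.ble (nat_lit 878) i)) (Nat.ble (nat_lit 876) i)) (Nat.ble (nat_lit 872) i)) (@Bool.rec (fun _ => ℕ) (@Bool.rec (fun _ => ℕ) (@Bool.rec (fun _ => ℕ) (@Bool.rec (fun _ => ℕ) cb880 cb881 (Nat.ble (nat_lit 881) i)) (@Bool.rec (fun _ => ℕ) cb882 cb883 (Nat.ble (nat_lit 883) i)) (Nat.ble (nat_lit 882) i)) (@Bool.rec (fun _ => ℕ) (@Bool.rec (fun _ => ℕ) cb884 cb885 (Nat.ble (nat_lit 885) i)) (@Bool.rec (fun _ => ℕ) cb886 cb887 (Nat.ble (nat_lit 887) i)) (Nat.ble (nat_lit 886) i)) (Nat.ble (nat_lit 884) i)) (@Bool.rec (fun _ => ℕ) (@Bool.rec (fun _ => ℕ) (@Bool.rec (fun _ => ℕ) cb888 cb889 (Nat.ble (nat_lit 889) i))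 (@Bool.rec (fun _ => ℕ) cb890 cb891 (Nat.ble (nat_lit 891) i)) (Nat.ble (nat_lit 890) i)) (@Bool.rec (fun _ => ℕ) (@Bool.rec (fun _ => ℕ) cb892 cb893 (Nat.ble (nat_lit 893) i)) (@Bool.rec (fun _ => ℕ) cb894 cb895 (Nat.ble (nat_lit 895) i)) (Nat.ble (nat_lit 894) i)) (Nat.ble (nat_lit 892) i)) (Nat.ble (nat_lit 888) i)) (Nat.ble (nat_lit 880) i))

def certBlk_n0_28 (i : ℕ) : ℕ := (@Bool.rec (fun _ => ℕ) (@Bool.rec (fun _ => ℕ) (@Bool.rec (fun _ => ℕ) (@Bool.rec (fun _ => ℕ) (@Bool.rec (fun _ => ℕ) cb896 cb897 (Nat.ble (nat_lit 897) i)) (@Bool.rec (fun _ => ℕ) cb898 cb899 (Nat.ble (nat_lit 899) i)) (Nat.ble (nat_lit 898) i)) (@Bool.rec (fun _ => ℕ) (@Bool.rec (fun _ => ℕ) cb900 cb901 (Nat.ble (nat_lit 901) i)) (@Bool.rec (fun _ => ℕ) cb902 cb903 (Nat.ble (nat_lit 903) i)) (Nat.ble (nat_lit 902) i)) (Nat.ble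 (nat_lit 900) i)) (@Bool.rec (fun _ => ℕ) (@Bool.rec (fun _ => ℕ) (@Bool.rec (fun _ => ℕ) cb904 cb905 (Nat.ble (nat_lit 905) i)) (@Bool.rec (fun _ => ℕ) cb906 cb907 (Nat.ble (nat_lit 907) i)) (Nat.ble (nat_lit 906) i)) (@Bool.rec (fun _ => ℕ) (@Bool.rec (fun _ => ℕ) cb908 cb909 (Nat.ble (nat_lit 909) i)) (@Bool.rec (fun _ => ℕ) cb910 cb911 (Nat.ble (nat_lit 911) i)) (Nat.ble (nat_lit 910) i)) (Nat.ble (nat_lit 908) i)) (Nat.ble (nat_lit 904) i)) (@Bool.rec (fun _ => ℕ) (@Bool.rec (fun _ => ℕ) (@Bool.rec (fun _ => ℕ) (@Bool.rec (fun _ => ℕ) cb912 cb913 (Nat.ble (nat_lit 913) i)) (@Bool.rec (fun _ => ℕ) cb914 cb915 (Nat.ble (nat_lit 915) i)) (Nat.ble (nat_lit 914) i)) (@Bool.rec (fun _ => ℕ) (@Bool.rec (fun _ => ℕ) cb916 cb917 (Nat.ble (nat_lit 917) i)) (@Bool.rec (fun _ => ℕ) cb918 cb919 (Nat.ble (nat_lit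 919) i)) (Nat.ble (nat_lit 918) i)) (Nat.ble (nat_lit 916) i)) (@Bool.rec (fun _ => ℕ) (@Bool.rec (fun _ => ℕ) (@Bool.rec (fun _ => ℕ) cb920 cb921 (Nat.ble (nat_lit 921) i)) (@Bool.rec (fun _ => ℕ) cb922 cb923 (Nat.ble (nat_lit 923) i)) (Nat.ble (nat_lit 922) i)) (@Bool.rec (fun _ => ℕ) (@Bool.rec (fun _ => ℕ) cb924 cb925 (Nat.ble (nat_lit 925) i)) (@Bool.rec (fun _ => ℕ) cb926 cb927 (Nat.ble (nat_lit 927) i)) (Nat.ble (nat_lit 926) i)) (Nat.ble (nat_lit 924) i)) (Nat.ble (nat_lit 920) i)) (Nat.ble (nat_lit 912) i))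

def certBlk_n0_29 (i : ℕ) : ℕ := (@Bool.rec (fun _ => ℕ) (@Bool.rec (fun _ => ℕ) (@Bool.rec (fun _ => ℕ) (@Bool.rec (fun _ => ℕ) (@Bool.rec (fun _ => ℕ) cb928 cb929 (Nat.ble (nat_lit 929) i)) (@Bool.rec (fun _ => ℕ) cb930 cb931 (Nat.ble (nat_lit 931) i)) (Nat.ble (nat_lit 930) i)) (@Bool.rec (fun _ => ℕ) (@Bool.rec (fun _ => ℕ) cb932 cb933 (Nat.ble (nat_lit 933) i)) (@Bool.rec (fun _ => ℕ) cb934 cb935 (Nat.ble (nat_lit 935) i)) (Nat.ble (nat_lit 934) i)) (Nat.ble (nat_lit 932) i)) (@Bool.rec (fun _ => ℕ) (@Bool.rec (fun _ => ℕ) (@Bool.rec (fun _ => ℕ) cb936 cb937 (Nat.ble (nat_lit 937) i)) (@Bool.rec (fun _ => ℕ) cb938 cb939 (Nat.ble (nat_lit 939) i)) (Nat.ble (nat_lit 938) i)) (@Bool.rec (fun _ => ℕ) (@Bool.rec (fun _ => ℕ) cb940 cb941 (Nat.ble (nat_lit 941) i)) (@Bool.rec (fun _ => ℕ) cb942 cb943 (Nat.ble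 (nat_lit 943) i)) (Nat.ble (nat_lit 942) i)) (Nat.ble (nat_lit 940) i)) (Nat.ble (nat_lit 936) i)) (@Bool.rec (fun _ => ℕ) (@Bool.rec (fun _ => ℕ) (@Bool.rec (fun _ => ℕ) (@Bool.rec (fun _ => ℕ) cb944 cb945 (Nat.ble (nat_lit 945) i)) (@Bool.rec (fun _ => ℕ) cb946 cb947 (Nat.ble (nat_lit 947) i)) (Nat.ble (nat_lit 946) i)) (@Bool.rec (fun _ => ℕ) (@Bool.rec (fun _ => ℕ) cb948 cb949 (Nat.ble (nat_lit 949) i)) (@Bool.rec (fun _ => ℕ) cb950 cb951 (Nat.ble (nat_lit 951) i)) (Nat.ble (nat_lit 950) i)) (Nat.ble (nat_lit 948) i)) (@Bool.rec (fun _ => ℕ) (@Bool.rec (fun _ => ℕ) (@Bool.rec (fun _ => ℕ) cb952 cb953 (Nat.ble (nat_lit 953) i)) (@Bool.rec (fun _ => ℕ) cb954 cb955 (Nat.ble (nat_lit 955) i)) (Nat.ble (nat_lit 954) i)) (@Bool.rec (fun _ => ℕ) (@Bool.rec (fun _ => ℕ) cb956 cb957 (Nat.ble (nat_lit 957) i))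 (@Bool.rec (fun _ => ℕ) cb958 cb959 (Nat.ble (nat_lit 959) i)) (Nat.ble (nat_lit 958) i)) (Nat.ble (nat_lit 956) i)) (Nat.ble (nat_lit 952) i)) (Nat.ble (nat_lit 944) i))

def certBlk_n0_30 (i : ℕ) : ℕ := (@Bool.rec (fun _ => ℕ) (@Bool.rec (fun _ => ℕ) (@Bool.rec (fun _ => ℕ) (@Bool.rec (fun _ => ℕ) (@Bool.rec (fun _ => ℕ) cb960 cb961 (Nat.ble (nat_lit 961) i)) (@Bool.rec (fun _ => ℕ) cb962 cb963 (Nat.ble (nat_lit 963) i)) (Nat.ble (nat_lit 962) i)) (@Bool.rec (fun _ => ℕ) (@Bool.rec (fun _ => ℕ) cb964 cb965 (Nat.ble (nat_lit 965) i)) (@Bool.rec (fun _ => ℕ) cb966 cb967 (Nat.ble (nat_lit 967) i)) (Nat.ble (nat_lit 966) i)) (Nat.ble (nat_lit 964) i)) (@Bool.rec (fun _ => ℕ) (@Bool.rec (fun _ => ℕ) (@Bool.rec (fun _ => ℕ) cb968 cb969 (Nat.ble (nat_lit 969) i)) (@Bool.rec (fun _ => ℕ) cb970 cb971 (Nat.ble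 (nat_lit 971) i)) (Nat.ble (nat_lit 970) i)) (@Bool.rec (fun _ => ℕ) (@Bool.rec (fun _ => ℕ) cb972 cb973 (Nat.ble (nat_lit 973) i)) (@Bool.rec (fun _ => ℕ) cb974 cb975 (Nat.ble (nat_lit 975) i)) (Nat.ble (nat_lit 974) i)) (Nat.ble (nat_lit 972) i)) (Nat.ble (nat_lit 968) i)) (@Bool.rec (fun _ => ℕ) (@Bool.rec (fun _ => ℕ) (@Bool.rec (fun _ => ℕ) (@Bool.rec (fun _ => ℕ) cb976 cb977 (Nat.ble (nat_lit 977) i)) (@Bool.rec (fun _ => ℕ) cb978 cb979 (Nat.ble (nat_lit 979) i)) (Nat.ble (nat_lit 978) i)) (@Bool.rec (fun _ => ℕ) (@Bool.rec (fun _ => ℕ) cb980 cb981 (Nat.ble (nat_lit 981) i)) (@Bool.rec (fun _ => ℕ) cb982 cb983 (Nat.ble (nat_lit 983) i)) (Nat.ble (nat_lit 982) i)) (Nat.ble (nat_lit 980) i)) (@Bool.rec (fun _ => ℕ) (@Bool.rec (fun _ => ℕ) (@Bool.rec (fun _ => ℕ) cb984 cb985 (Nat.ble (nat_lit 985) i))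 (@Bool.rec (fun _ => ℕ) cb986 cb987 (Nat.ble (nat_lit 987) i)) (Nat.ble (nat_lit 986) i)) (@Bool.rec (fun _ => ℕ) (@Bool.rec (fun _ => ℕ) cb988 cb989 (Nat.ble (nat_lit 989) i)) (@Bool.rec (fun _ => ℕ) cb990 cb991 (Nat.ble (nat_lit 991) i)) (Nat.ble (nat_lit 990) i)) (Nat.ble (nat_lit 988) i)) (Nat.ble (nat_lit 984) i)) (Nat.ble (nat_lit 976) i))

def certBlk_n0_31 (i : ℕ) : ℕ := (@Bool.rec (fun _ => ℕ) (@Bool.rec (fun _ => ℕ) (@Bool.rec (fun _ => ℕ) (@Bool.rec (fun _ => ℕ) (@Bool.rec (fun _ => ℕ) cb992 cb993 (Nat.ble (nat_lit 993) i)) (@Bool.rec (fun _ => ℕ) cb994 cb995 (Nat.ble (nat_lit 995) i)) (Nat.ble (nat_lit 994) i)) (@Bool.rec (fun _ => ℕ) (@Bool.rec (fun _ => ℕ) cb996 cb997 (Nat.ble (nat_lit 997) i)) (@Bool.rec (fun _ => ℕ) cb998 cb999 (Nat.ble (nat_lit 999) i)) (Nat.ble (nat_lit 998) i)) (Nat.ble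 (nat_lit 996) i)) (@Bool.rec (fun _ => ℕ) (@Bool.rec (fun _ => ℕ) (@Bool.rec (fun _ => ℕ) cb1000 cb1001 (Nat.ble (nat_lit 1001) i)) (@Bool.rec (fun _ => ℕ) cb1002 cb1003 (Nat.ble (nat_lit 1003) i)) (Nat.ble (nat_lit 1002) i)) (@Bool.rec (fun _ => ℕ) (@Bool.rec (fun _ => ℕ) cb1004 cb1005 (Nat.ble (nat_lit 1005) i)) (@Bool.rec (fun _ => ℕ) cb1006 cb1007 (Nat.ble (nat_lit 1007) i)) (Nat.ble (nat_lit 1006) i)) (Nat.ble (nat_lit 1004) i)) (Nat.ble (nat_lit 1000) i)) (@Bool.rec (fun _ => ℕ) (@Bool.rec (fun _ => ℕ) (@Bool.rec (fun _ => ℕ) (@Bool.rec (fun _ => ℕ) cb1008 cb1009 (Nat.ble (nat_lit 1009) i)) (@Bool.rec (fun _ => ℕ) cb1010 cb1011 (Nat.ble (nat_lit 1011) i)) (Nat.ble (nat_lit 1010) i)) (@Bool.rec (fun _ => ℕ) (@Bool.rec (fun _ => ℕ) cb1012 cb1013 (Nat.ble (nat_lit 1013) i)) (@Bool.rec (fun _ => ℕ) cb1014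 cb1015 (Nat.ble (nat_lit 1015) i)) (Nat.ble (nat_lit 1014) i)) (Nat.ble (nat_lit 1012) i)) (@Bool.rec (fun _ => ℕ) (@Bool.rec (fun _ => ℕ) (@Bool.rec (fun _ => ℕ) cb1016 cb1017 (Nat.ble (nat_lit 1017) i)) (@Bool.rec (fun _ => ℕ) cb1018 cb1019 (Nat.ble (nat_lit 1019) i)) (Nat.ble (nat_lit 1018) i)) (@Bool.rec (fun _ => ℕ) (@Bool.rec (fun _ => ℕ) cb1020 cb1021 (Nat.ble (nat_lit 1021) i)) (@Bool.rec (fun _ => ℕ) cb1022 cb1023 (Nat.ble (nat_lit 1023) i)) (Nat.ble (nat_lit 1022) i)) (Nat.ble (nat_lit 1020) i)) (Nat.ble (nat_lit 1016) i)) (Nat.ble (nat_lit 1008) i))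

def certBlk_n0_32 (i : ℕ) : ℕ := (@Bool.rec (fun _ => ℕ) (@Bool.rec (fun _ => ℕ) (@Bool.rec (fun _ => ℕ) (@Bool.rec (fun _ => ℕ) (@Bool.rec (fun _ => ℕ) cb1024 cb1025 (Nat.ble (nat_lit 1025) i)) (@Bool.rec (fun _ => ℕ) cb1026 cb1027 (Nat.ble (nat_lit 1027) i)) (Nat.ble (nat_lit 1026) i)) (@Bool.rec (fun _ => ℕ) (@Bool.rec (fun _ => ℕ) cb1028 cb1029 (Nat.ble (nat_lit 1029) i)) (@Bool.rec (fun _ => ℕ) cb1030 cb1031 (Nat.ble (nat_lit 1031) i)) (Nat.ble (nat_lit 1030) i)) (Nat.ble (nat_lit 1028) i)) (@Bool.rec (fun _ => ℕ) (@Bool.rec (fun _ => ℕ) (@Bool.rec (fun _ => ℕ) cb1032 cb1033 (Nat.ble (nat_lit 1033) i)) (@Bool.rec (fun _ => ℕ) cb1034 cb1035 (Nat.ble (nat_lit 1035) i)) (Nat.ble (nat_lit 1034) i)) (@Bool.rec (fun _ => ℕ) (@Bool.rec (fun _ => ℕ) cb1036 cb1037 (Nat.ble (nat_lit 1037) i)) (@Bool.rec (fun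 _ => ℕ) cb1038 cb1039 (Nat.ble (nat_lit 1039) i)) (Nat.ble (nat_lit 1038) i)) (Nat.ble (nat_lit 1036) i)) (Nat.ble (nat_lit 1032) i)) (@Bool.rec (fun _ => ℕ) (@Bool.rec (fun _ => ℕ) (@Bool.rec (fun _ => ℕ) (@Bool.rec (fun _ => ℕ) cb1040 cb1041 (Nat.ble (nat_lit 1041) i)) (@Bool.rec (fun _ => ℕ) cb1042 cb1043 (Nat.ble (nat_lit 1043) i)) (Nat.ble (nat_lit 1042) i)) (@Bool.rec (fun _ => ℕ) (@Bool.rec (fun _ => ℕ) cb1044 cb1045 (Nat.ble (nat_lit 1045) i)) (@Bool.rec (fun _ => ℕ) cb1046 cb1047 (Nat.ble (nat_lit 1047) i)) (Nat.ble (nat_lit 1046) i)) (Nat.ble (nat_lit 1044) i)) (@Bool.rec (fun _ => ℕ) (@Bool.rec (fun _ => ℕ) (@Bool.rec (fun _ => ℕ) cb1048 cb1049 (Nat.ble (nat_lit 1049) i)) (@Bool.rec (fun _ => ℕ) cb1050 cb1051 (Nat.ble (nat_lit 1051) i)) (Nat.ble (nat_lit 1050) i)) (@Bool.rec (fun _ => ℕ) (@Bool.rec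 (fun _ => ℕ) cb1052 cb1053 (Nat.ble (nat_lit 1053) i)) (@Bool.rec (fun _ => ℕ) cb1054 cb1055 (Nat.ble (nat_lit 1055) i)) (Nat.ble (nat_lit 1054) i)) (Nat.ble (nat_lit 1052) i)) (Nat.ble (nat_lit 1048) i)) (Nat.ble (nat_lit 1040) i))

def certBlk_n0_33 (i : ℕ) : ℕ := (@Bool.rec (fun _ => ℕ) (@Bool.rec (fun _ => ℕ) (@Bool.rec (fun _ => ℕ) (@Bool.rec (fun _ => ℕ) (@Bool.rec (fun _ => ℕ) cb1056 cb1057 (Nat.ble (nat_lit 1057) i)) (@Bool.rec (fun _ => ℕ) cb1058 cb1059 (Nat.ble (nat_lit 1059) i)) (Nat.ble (nat_lit 1058) i)) (@Bool.rec (fun _ => ℕ) (@Bool.rec (fun _ => ℕ) cb1060 cb1061 (Nat.ble (nat_lit 1061) i)) (@Bool.rec (fun _ => ℕ) cb1062 cb1063 (Nat.ble (nat_lit 1063) i)) (Nat.ble (nat_lit 1062) i)) (Nat.ble (nat_lit 1060) i)) (@Bool.rec (fun _ => ℕ) (@Bool.rec (fun _ => ℕ) (@Bool.rec (fun _ => ℕ) cb1064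 cb1065 (Nat.ble (nat_lit 1065) i)) (@Bool.rec (fun _ => ℕ) cb1066 cb1067 (Nat.ble (nat_lit 1067) i)) (Nat.ble (nat_lit 1066) i)) (@Bool.rec (fun _ => ℕ) (@Bool.rec (fun _ => ℕ) cb1068 cb1069 (Nat.ble (nat_lit 1069) i)) (@Bool.rec (fun _ => ℕ) cb1070 cb1071 (Nat.ble (nat_lit 1071) i)) (Nat.ble (nat_lit 1070) i)) (Nat.ble (nat_lit 1068) i)) (Nat.ble (nat_lit 1064) i)) (@Bool.rec (fun _ => ℕ) (@Bool.rec (fun _ => ℕ) (@Bool.rec (fun _ => ℕ) (@Bool.rec (fun _ => ℕ) cb1072 cb1073 (Nat.ble (nat_lit 1073) i)) (@Bool.rec (fun _ => ℕ) cb1074 cb1075 (Nat.ble (nat_lit 1075) i)) (Nat.ble (nat_lit 1074) i)) (@Bool.rec (fun _ => ℕ) (@Bool.rec (fun _ => ℕ) cb1076 cb1077 (Nat.ble (nat_lit 1077) i)) (@Bool.rec (fun _ => ℕ) cb1078 cb1079 (Nat.ble (nat_lit 1079) i)) (Nat.ble (nat_lit 1078) i)) (Nat.ble (nat_lit 1076) i))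 (@Bool.rec (fun _ => ℕ) (@Bool.rec (fun _ => ℕ) (@Bool.rec (fun _ => ℕ) cb1080 cb1081 (Nat.ble (nat_lit 1081) i)) (@Bool.rec (fun _ => ℕ) cb1082 cb1083 (Nat.ble (nat_lit 1083) i)) (Nat.ble (nat_lit 1082) i)) (@Bool.rec (fun _ => ℕ) (@Bool.rec (fun _ => ℕ) cb1084 cb1085 (Nat.ble (nat_lit 1085) i)) (@Bool.rec (fun _ => ℕ) cb1086 cb1087 (Nat.ble (nat_lit 1087) i)) (Nat.ble (nat_lit 1086) i)) (Nat.ble (nat_lit 1084) i)) (Nat.ble (nat_lit 1080) i)) (Nat.ble (nat_lit 1072) i))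

def certBlk_n0_34 (i : ℕ) : ℕ := (@Bool.rec (fun _ => ℕ) (@Bool.rec (fun _ => ℕ) (@Bool.rec (fun _ => ℕ) (@Bool.rec (fun _ => ℕ) (@Bool.rec (fun _ => ℕ) cb1088 cb1089 (Nat.ble (nat_lit 1089) i)) (@Bool.rec (fun _ => ℕ) cb1090 cb1091 (Nat.ble (nat_lit 1091) i)) (Nat.ble (nat_lit 1090) i)) (@Bool.rec (fun _ => ℕ) (@Bool.rec (fun _ => ℕ) cb1092 cb1093 (Nat.ble (nat_lit 1093) i)) (@Bool.rec (fun _ => ℕ) cb1094 cb1095 (Nat.ble (nat_lit 1095) i)) (Nat.ble (nat_lit 1094) i)) (Nat.ble (nat_lit 1092) i)) (@Bool.rec (fun _ => ℕ) (@Bool.rec (fun _ => ℕ) (@Bool.rec (fun _ => ℕ) cb1096 cb1097 (Nat.ble (nat_lit 1097) i)) (@Bool.rec (fun _ => ℕ) cb1098 cb1099 (Nat.ble (nat_lit 1099) i)) (Nat.ble (nat_lit 1098) i)) (@Bool.rec (fun _ => ℕ) (@Bool.rec (fun _ => ℕ) cb1100 cb1101 (Nat.ble (nat_lit 1101) i)) (@Bool.rec (fun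 _ => ℕ) cb1102 cb1103 (Nat.ble (nat_lit 1103) i)) (Nat.ble (nat_lit 1102) i)) (Nat.ble (nat_lit 1100) i)) (Nat.ble (nat_lit 1096) i)) (@Bool.rec (fun _ => ℕ) (@Bool.rec (fun _ => ℕ) (@Bool.rec (fun _ => ℕ) (@Bool.rec (fun _ => ℕ) cb1104 cb1105 (Nat.ble (nat_lit 1105) i)) (@Bool.rec (fun _ => ℕ) cb1106 cb1107 (Nat.ble (nat_lit 1107) i)) (Nat.ble (nat_lit 1106) i)) (@Bool.rec (fun _ => ℕ) (@Bool.rec (fun _ => ℕ) cb1108 cb1109 (Nat.ble (nat_lit 1109) i)) (@Bool.rec (fun _ => ℕ) cb1110 cb1111 (Nat.ble (nat_lit 1111) i)) (Nat.ble (nat_lit 1110) i)) (Nat.ble (nat_lit 1108) i)) (@Bool.rec (fun _ => ℕ) (@Bool.rec (fun _ => ℕ) (@Bool.rec (fun _ => ℕ) cb1112 cb1113 (Nat.ble (nat_lit 1113) i)) (@Bool.rec (fun _ => ℕ) cb1114 cb1115 (Nat.ble (nat_lit 1115) i)) (Nat.ble (nat_lit 1114) i)) (@Bool.rec (fun _ => ℕ) (@Bool.rec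 (fun _ => ℕ) cb1116 cb1117 (Nat.ble (nat_lit 1117) i)) (@Bool.rec (fun _ => ℕ) cb1118 cb1119 (Nat.ble (nat_lit 1119) i)) (Nat.ble (nat_lit 1118) i)) (Nat.ble (nat_lit 1116) i)) (Nat.ble (nat_lit 1112) i)) (Nat.ble (nat_lit 1104) i))

def certBlk_n0_35 (i : ℕ) : ℕ := (@Bool.rec (fun _ => ℕ) (@Bool.rec (fun _ => ℕ) (@Bool.rec (fun _ => ℕ) (@Bool.rec (fun _ => ℕ) (@Bool.rec (fun _ => ℕ) cb1120 cb1121 (Nat.ble (nat_lit 1121) i)) (@Bool.rec (fun _ => ℕ) cb1122 cb1123 (Nat.ble (nat_lit 1123) i)) (Nat.ble (nat_lit 1122) i)) (@Bool.rec (fun _ => ℕ) (@Bool.rec (fun _ => ℕ) cb1124 cb1125 (Nat.ble (nat_lit 1125) i)) (@Bool.rec (fun _ => ℕ) cb1126 cb1127 (Nat.ble (nat_lit 1127) i)) (Nat.ble (nat_lit 1126) i)) (Nat.ble (nat_lit 1124) i)) (@Bool.rec (fun _ => ℕ) (@Bool.rec (fun _ => ℕ) (@Bool.rec (fun _ => ℕ) cb1128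 cb1129 (Nat.ble (nat_lit 1129) i)) (@Bool.rec (fun _ => ℕ) cb1130 cb1131 (Nat.ble (nat_lit 1131) i)) (Nat.ble (nat_lit 1130) i)) (@Bool.rec (fun _ => ℕ) (@Bool.rec (fun _ => ℕ) cb1132 cb1133 (Nat.ble (nat_lit 1133) i)) (@Bool.rec (fun _ => ℕ) cb1134 cb1135 (Nat.ble (nat_lit 1135) i)) (Nat.ble (nat_lit 1134) i)) (Nat.ble (nat_lit 1132) i)) (Nat.ble (nat_lit 1128) i)) (@Bool.rec (fun _ => ℕ) (@Bool.rec (fun _ => ℕ) (@Bool.rec (fun _ => ℕ) (@Bool.rec (fun _ => ℕ) cb1136 cb1137 (Nat.ble (nat_lit 1137) i)) (@Bool.rec (fun _ => ℕ) cb1138 cb1139 (Nat.ble (nat_lit 1139) i)) (Nat.ble (nat_lit 1138) i)) (@Bool.rec (fun _ => ℕ) (@Bool.rec (fun _ => ℕ) cb1140 cb1141 (Nat.ble (nat_lit 1141) i)) (@Bool.rec (fun _ => ℕ) cb1142 cb1143 (Nat.ble (nat_lit 1143) i)) (Nat.ble (nat_lit 1142) i)) (Nat.ble (nat_lit 1140) i))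 (@Bool.rec (fun _ => ℕ) (@Bool.rec (fun _ => ℕ) (@Bool.rec (fun _ => ℕ) cb1144 cb1145 (Nat.ble (nat_lit 1145) i)) (@Bool.rec (fun _ => ℕ) cb1146 cb1147 (Nat.ble (nat_lit 1147) i)) (Nat.ble (nat_lit 1146) i)) (@Bool.rec (fun _ => ℕ) (@Bool.rec (fun _ => ℕ) cb1148 cb1149 (Nat.ble (nat_lit 1149) i)) (@Bool.rec (fun _ => ℕ) cb1150 cb1151 (Nat.ble (nat_lit 1151) i)) (Nat.ble (nat_lit 1150) i)) (Nat.ble (nat_lit 1148) i)) (Nat.ble (nat_lit 1144) i)) (Nat.ble (nat_lit 1136) i))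

def certBlk_n0_36 (i : ℕ) : ℕ := (@Bool.rec (fun _ => ℕ) (@Bool.rec (fun _ => ℕ) (@Bool.rec (fun _ => ℕ) (@Bool.rec (fun _ => ℕ) (@Bool.rec (fun _ => ℕ) cb1152 cb1153 (Nat.ble (nat_lit 1153) i)) (@Bool.rec (fun _ => ℕ) cb1154 cb1155 (Nat.ble (nat_lit 1155) i)) (Nat.ble (nat_lit 1154) i)) (@Bool.rec (fun _ => ℕ) (@Bool.rec (fun _ => ℕ) cb1156 cb1157 (Nat.ble (nat_lit 1157) i)) (@Bool.rec (fun _ => ℕ) cb1158 cb1159 (Nat.ble (nat_lit 1159) i)) (Nat.ble (nat_lit 1158) i)) (Nat.ble (nat_lit 1156) i)) (@Bool.rec (fun _ => ℕ) (@Bool.rec (fun _ => ℕ) (@Bool.rec (fun _ => ℕ) cb1160 cb1161 (Nat.ble (nat_lit 1161) i)) (@Bool.rec (fun _ => ℕ) cb1162 cb1163 (Nat.ble (nat_lit 1163) i)) (Nat.ble (nat_lit 1162) i)) (@Bool.rec (fun _ => ℕ) (@Bool.rec (fun _ => ℕ) cb1164 cb1165 (Nat.ble (nat_lit 1165) i)) (@Bool.rec (fun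 _ => ℕ) cb1166 cb1167 (Nat.ble (nat_lit 1167) i)) (Nat.ble (nat_lit 1166) i)) (Nat.ble (nat_lit 1164) i)) (Nat.ble (nat_lit 1160) i)) (@Bool.rec (fun _ => ℕ) (@Bool.rec (fun _ => ℕ) (@Bool.rec (fun _ => ℕ) (@Bool.rec (fun _ => ℕ) cb1168 cb1169 (Nat.ble (nat_lit 1169) i)) (@Bool.rec (fun _ => ℕ) cb1170 cb1171 (Nat.ble (nat_lit 1171) i)) (Nat.ble (nat_lit 1170) i)) (@Bool.rec (fun _ => ℕ) (@Bool.rec (fun _ => ℕ) cb1172 cb1173 (Nat.ble (nat_lit 1173) i)) (@Bool.rec (fun _ => ℕ) cb1174 cb1175 (Nat.ble (nat_lit 1175) i)) (Nat.ble (nat_lit 1174) i)) (Nat.ble (nat_lit 1172) i)) (@Bool.rec (fun _ => ℕ) (@Bool.rec (fun _ => ℕ) (@Bool.rec (fun _ => ℕ) cb1176 cb1177 (Nat.ble (nat_lit 1177) i)) (@Bool.rec (fun _ => ℕ) cb1178 cb1179 (Nat.ble (nat_lit 1179) i)) (Nat.ble (nat_lit 1178) i)) (@Bool.rec (fun _ => ℕ) (@Bool.rec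 (fun _ => ℕ) cb1180 cb1181 (Nat.ble (nat_lit 1181) i)) (@Bool.rec (fun _ => ℕ) cb1182 cb1183 (Nat.ble (nat_lit 1183) i)) (Nat.ble (nat_lit 1182) i)) (Nat.ble (nat_lit 1180) i)) (Nat.ble (nat_lit 1176) i)) (Nat.ble (nat_lit 1168) i))

def certBlk_n0_37 (i : ℕ) : ℕ := (@Bool.rec (fun _ => ℕ) (@Bool.rec (fun _ => ℕ) (@Bool.rec (fun _ => ℕ) (@Bool.rec (fun _ => ℕ) (@Bool.rec (fun _ => ℕ) cb1184 cb1185 (Nat.ble (nat_lit 1185) i)) (@Bool.rec (fun _ => ℕ) cb1186 cb1187 (Nat.ble (nat_lit 1187) i)) (Nat.ble (nat_lit 1186) i)) (@Bool.rec (fun _ => ℕ) (@Bool.rec (fun _ => ℕ) cb1188 cb1189 (Nat.ble (nat_lit 1189) i)) (@Bool.rec (fun _ => ℕ) cb1190 cb1191 (Nat.ble (nat_lit 1191) i)) (Nat.ble (nat_lit 1190) i)) (Nat.ble (nat_lit 1188) i)) (@Bool.rec (fun _ => ℕ) (@Bool.rec (fun _ => ℕ) (@Bool.rec (fun _ => ℕ) cb1192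 cb1193 (Nat.ble (nat_lit 1193) i)) (@Bool.rec (fun _ => ℕ) cb1194 cb1195 (Nat.ble (nat_lit 1195) i)) (Nat.ble (nat_lit 1194) i)) (@Bool.rec (fun _ => ℕ) (@Bool.rec (fun _ => ℕ) cb1196 cb1197 (Nat.ble (nat_lit 1197) i)) (@Bool.rec (fun _ => ℕ) cb1198 cb1199 (Nat.ble (nat_lit 1199) i)) (Nat.ble (nat_lit 1198) i)) (Nat.ble (nat_lit 1196) i)) (Nat.ble (nat_lit 1192) i)) (@Bool.rec (fun _ => ℕ) (@Bool.rec (fun _ => ℕ) (@Bool.rec (fun _ => ℕ) (@Bool.rec (fun _ => ℕ) cb1200 cb1201 (Nat.ble (nat_lit 1201) i)) (@Bool.rec (fun _ => ℕ) cb1202 cb1203 (Nat.ble (nat_lit 1203) i)) (Nat.ble (nat_lit 1202) i)) (@Bool.rec (fun _ => ℕ) (@Bool.rec (fun _ => ℕ) cb1204 cb1205 (Nat.ble (nat_lit 1205) i)) (@Bool.rec (fun _ => ℕ) cb1206 cb1207 (Nat.ble (nat_lit 1207) i)) (Nat.ble (nat_lit 1206) i)) (Nat.ble (nat_lit 1204) i))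 (@Bool.rec (fun _ => ℕ) (@Bool.rec (fun _ => ℕ) (@Bool.rec (fun _ => ℕ) cb1208 cb1209 (Nat.ble (nat_lit 1209) i)) (@Bool.rec (fun _ => ℕ) cb1210 cb1211 (Nat.ble (nat_lit 1211) i)) (Nat.ble (nat_lit 1210) i)) (@Bool.rec (fun _ => ℕ) (@Bool.rec (fun _ => ℕ) cb1212 cb1213 (Nat.ble (nat_lit 1213) i)) (@Bool.rec (fun _ => ℕ) cb1214 cb1215 (Nat.ble (nat_lit 1215) i)) (Nat.ble (nat_lit 1214) i)) (Nat.ble (nat_lit 1212) i)) (Nat.ble (nat_lit 1208) i)) (Nat.ble (nat_lit 1200) i))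

def certBlk_n0_38 (i : ℕ) : ℕ := (@Bool.rec (fun _ => ℕ) (@Bool.rec (fun _ => ℕ) (@Bool.rec (fun _ => ℕ) (@Bool.rec (fun _ => ℕ) (@Bool.rec (fun _ => ℕ) cb1216 cb1217 (Nat.ble (nat_lit 1217) i)) (@Bool.rec (fun _ => ℕ) cb1218 cb1219 (Nat.ble (nat_lit 1219) i)) (Nat.ble (nat_lit 1218) i)) (@Bool.rec (fun _ => ℕ) (@Bool.rec (fun _ => ℕ) cb1220 cb1221 (Nat.ble (nat_lit 1221) i)) (@Bool.rec (fun _ => ℕ) cb1222 cb1223 (Nat.ble (nat_lit 1223) i)) (Nat.ble (nat_lit 1222) i)) (Nat.ble (nat_lit 1220) i)) (@Bool.rec (fun _ => ℕ) (@Bool.rec (fun _ => ℕ) (@Bool.rec (fun _ => ℕ) cb1224 cb1225 (Nat.ble (nat_lit 1225) i)) (@Bool.rec (fun _ => ℕ) cb1226 cb1227 (Nat.ble (nat_lit 1227) i)) (Nat.ble (nat_lit 1226) i)) (@Bool.rec (fun _ => ℕ) (@Bool.rec (fun _ => ℕ) cb1228 cb1229 (Nat.ble (nat_lit 1229) i)) (@Bool.rec (fun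 _ => ℕ) cb1230 cb1231 (Nat.ble (nat_lit 1231) i)) (Nat.ble (nat_lit 1230) i)) (Nat.ble (nat_lit 1228) i)) (Nat.ble (nat_lit 1224) i)) (@Bool.rec (fun _ => ℕ) (@Bool.rec (fun _ => ℕ) (@Bool.rec (fun _ => ℕ) (@Bool.rec (fun _ => ℕ) cb1232 cb1233 (Nat.ble (nat_lit 1233) i)) (@Bool.rec (fun _ => ℕ) cb1234 cb1235 (Nat.ble (nat_lit 1235) i)) (Nat.ble (nat_lit 1234) i)) (@Bool.rec (fun _ => ℕ) (@Bool.rec (fun _ => ℕ) cb1236 cb1237 (Nat.ble (nat_lit 1237) i)) (@Bool.rec (fun _ => ℕ) cb1238 cb1239 (Nat.ble (nat_lit 1239) i)) (Nat.ble (nat_lit 1238) i)) (Nat.ble (nat_lit 1236) i)) (@Bool.rec (fun _ => ℕ) (@Bool.rec (fun _ => ℕ) (@Bool.rec (fun _ => ℕ) cb1240 cb1241 (Nat.ble (nat_lit 1241) i)) (@Bool.rec (fun _ => ℕ) cb1242 cb1243 (Nat.ble (nat_lit 1243) i)) (Nat.ble (nat_lit 1242) i)) (@Bool.rec (fun _ => ℕ) (@Bool.rec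 (fun _ => ℕ) cb1244 cb1245 (Nat.ble (nat_lit 1245) i)) (@Bool.rec (fun _ => ℕ) cb1246 cb1247 (Nat.ble (nat_lit 1247) i)) (Nat.ble (nat_lit 1246) i)) (Nat.ble (nat_lit 1244) i)) (Nat.ble (nat_lit 1240) i)) (Nat.ble (nat_lit 1232) i))

def certBlk_n0_39 (i : ℕ) : ℕ := (@Bool.rec (fun _ => ℕ) (@Bool.rec (fun _ => ℕ) (@Bool.rec (fun _ => ℕ) (@Bool.rec (fun _ => ℕ) (@Bool.rec (fun _ => ℕ) cb1248 cb1249 (Nat.ble (nat_lit 1249) i)) (@Bool.rec (fun _ => ℕ) cb1250 cb1251 (Nat.ble (nat_lit 1251) i)) (Nat.ble (nat_lit 1250) i)) (@Bool.rec (fun _ => ℕ) (@Bool.rec (fun _ => ℕ) cb1252 cb1253 (Nat.ble (nat_lit 1253) i)) (@Bool.rec (fun _ => ℕ) cb1254 cb1255 (Nat.ble (nat_lit 1255) i)) (Nat.ble (nat_lit 1254) i)) (Nat.ble (nat_lit 1252) i)) (@Bool.rec (fun _ => ℕ) (@Bool.rec (fun _ => ℕ) (@Bool.rec (fun _ => ℕ) cb1256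 cb1257 (Nat.ble (nat_lit 1257) i)) (@Bool.rec (fun _ => ℕ) cb1258 cb1259 (Nat.ble (nat_lit 1259) i)) (Nat.ble (nat_lit 1258) i)) (@Bool.rec (fun _ => ℕ) (@Bool.rec (fun _ => ℕ) cb1260 cb1261 (Nat.ble (nat_lit 1261) i)) (@Bool.rec (fun _ => ℕ) cb1262 cb1263 (Nat.ble (nat_lit 1263) i)) (Nat.ble (nat_lit 1262) i)) (Nat.ble (nat_lit 1260) i)) (Nat.ble (nat_lit 1256) i)) (@Bool.rec (fun _ => ℕ) (@Bool.rec (fun _ => ℕ) (@Bool.rec (fun _ => ℕ) (@Bool.rec (fun _ => ℕ) cb1264 cb1265 (Nat.ble (nat_lit 1265) i)) (@Bool.rec (fun _ => ℕ) cb1266 cb1267 (Nat.ble (nat_lit 1267) i)) (Nat.ble (nat_lit 1266) i)) (@Bool.rec (fun _ => ℕ) (@Bool.rec (fun _ => ℕ) cb1268 cb1269 (Nat.ble (nat_lit 1269) i)) (@Bool.rec (fun _ => ℕ) cb1270 cb1271 (Nat.ble (nat_lit 1271) i)) (Nat.ble (nat_lit 1270) i)) (Nat.ble (nat_lit 1268) i))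 (@Bool.rec (fun _ => ℕ) (@Bool.rec (fun _ => ℕ) (@Bool.rec (fun _ => ℕ) cb1272 cb1273 (Nat.ble (nat_lit 1273) i)) (@Bool.rec (fun _ => ℕ) cb1274 cb1275 (Nat.ble (nat_lit 1275) i)) (Nat.ble (nat_lit 1274) i)) (@Bool.rec (fun _ => ℕ) (@Bool.rec (fun _ => ℕ) cb1276 cb1277 (Nat.ble (nat_lit 1277) i)) (@Bool.rec (fun _ => ℕ) cb1278 cb1279 (Nat.ble (nat_lit 1279) i)) (Nat.ble (nat_lit 1278) i)) (Nat.ble (nat_lit 1276) i)) (Nat.ble (nat_lit 1272) i)) (Nat.ble (nat_lit 1264) i))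

def certBlk_n0_40 (i : ℕ) : ℕ := (@Bool.rec (fun _ => ℕ) (@Bool.rec (fun _ => ℕ) (@Bool.rec (fun _ => ℕ) (@Bool.rec (fun _ => ℕ) (@Bool.rec (fun _ => ℕ) cb1280 cb1281 (Nat.ble (nat_lit 1281) i)) (@Bool.rec (fun _ => ℕ) cb1282 cb1283 (Nat.ble (nat_lit 1283) i)) (Nat.ble (nat_lit 1282) i)) (@Bool.rec (fun _ => ℕ) (@Bool.rec (fun _ => ℕ) cb1284 cb1285 (Nat.ble (nat_lit 1285) i)) (@Bool.rec (fun _ => ℕ) cb1286 cb1287 (Nat.ble (nat_lit 1287) i)) (Nat.ble (nat_lit 1286) i)) (Nat.ble (nat_lit 1284) i)) (@Bool.rec (fun _ => ℕ) (@Bool.rec (fun _ => ℕ) (@Bool.rec (fun _ => ℕ) cb1288 cb1289 (Nat.ble (nat_lit 1289) i)) (@Bool.rec (fun _ => ℕ) cb1290 cb1291 (Nat.ble (nat_lit 1291) i)) (Nat.ble (nat_lit 1290) i)) (@Bool.rec (fun _ => ℕ) (@Bool.rec (fun _ => ℕ) cb1292 cb1293 (Nat.ble (nat_lit 1293) i)) (@Bool.rec (fun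 _ => ℕ) cb1294 cb1295 (Nat.ble (nat_lit 1295) i)) (Nat.ble (nat_lit 1294) i)) (Nat.ble (nat_lit 1292) i)) (Nat.ble (nat_lit 1288) i)) (@Bool.rec (fun _ => ℕ) (@Bool.rec (fun _ => ℕ) (@Bool.rec (fun _ => ℕ) (@Bool.rec (fun _ => ℕ) cb1296 cb1297 (Nat.ble (nat_lit 1297) i)) (@Bool.rec (fun _ => ℕ) cb1298 cb1299 (Nat.ble (nat_lit 1299) i)) (Nat.ble (nat_lit 1298) i)) (@Bool.rec (fun _ => ℕ) (@Bool.rec (fun _ => ℕ) cb1300 cb1301 (Nat.ble (nat_lit 1301) i)) (@Bool.rec (fun _ => ℕ) cb1302 cb1303 (Nat.ble (nat_lit 1303) i)) (Nat.ble (nat_lit 1302) i)) (Nat.ble (nat_lit 1300) i)) (@Bool.rec (fun _ => ℕ) (@Bool.rec (fun _ => ℕ) (@Bool.rec (fun _ => ℕ) cb1304 cb1305 (Nat.ble (nat_lit 1305) i)) (@Bool.rec (fun _ => ℕ) cb1306 cb1307 (Nat.ble (nat_lit 1307) i)) (Nat.ble (nat_lit 1306) i)) (@Bool.rec (fun _ => ℕ) (@Bool.rec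 (fun _ => ℕ) cb1308 cb1309 (Nat.ble (nat_lit 1309) i)) (@Bool.rec (fun _ => ℕ) cb1310 cb1311 (Nat.ble (nat_lit 1311) i)) (Nat.ble (nat_lit 1310) i)) (Nat.ble (nat_lit 1308) i)) (Nat.ble (nat_lit 1304) i)) (Nat.ble (nat_lit 1296) i))

def certBlk_n0_41 (i : ℕ) : ℕ := (@Bool.rec (fun _ => ℕ) (@Bool.rec (fun _ => ℕ) (@Bool.rec (fun _ => ℕ) (@Bool.rec (fun _ => ℕ) (@Bool.rec (fun _ => ℕ) cb1312 cb1313 (Nat.ble (nat_lit 1313) i)) (@Bool.rec (fun _ => ℕ) cb1314 cb1315 (Nat.ble (nat_lit 1315) i)) (Nat.ble (nat_lit 1314) i)) (@Bool.rec (fun _ => ℕ) (@Bool.rec (fun _ => ℕ) cb1316 cb1317 (Nat.ble (nat_lit 1317) i)) (@Bool.rec (fun _ => ℕ) cb1318 cb1319 (Nat.ble (nat_lit 1319) i)) (Nat.ble (nat_lit 1318) i)) (Nat.ble (nat_lit 1316) i)) (@Bool.rec (fun _ => ℕ) (@Bool.rec (fun _ => ℕ) (@Bool.rec (fun _ => ℕ) cb1320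 cb1321 (Nat.ble (nat_lit 1321) i)) (@Bool.rec (fun _ => ℕ) cb1322 cb1323 (Nat.ble (nat_lit 1323) i)) (Nat.ble (nat_lit 1322) i)) (@Bool.rec (fun _ => ℕ) (@Bool.rec (fun _ => ℕ) cb1324 cb1325 (Nat.ble (nat_lit 1325) i)) (@Bool.rec (fun _ => ℕ) cb1326 cb1327 (Nat.ble (nat_lit 1327) i)) (Nat.ble (nat_lit 1326) i)) (Nat.ble (nat_lit 1324) i)) (Nat.ble (nat_lit 1320) i)) (@Bool.rec (fun _ => ℕ) (@Bool.rec (fun _ => ℕ) (@Bool.rec (fun _ => ℕ) (@Bool.rec (fun _ => ℕ) cb1328 cb1329 (Nat.ble (nat_lit 1329) i)) (@Bool.rec (fun _ => ℕ) cb1330 cb1331 (Nat.ble (nat_lit 1331) i)) (Nat.ble (nat_lit 1330) i)) (@Bool.rec (fun _ => ℕ) (@Bool.rec (fun _ => ℕ) cb1332 cb1333 (Nat.ble (nat_lit 1333) i)) (@Bool.rec (fun _ => ℕ) cb1334 cb1335 (Nat.ble (nat_lit 1335) i)) (Nat.ble (nat_lit 1334) i)) (Nat.ble (nat_lit 1332) i))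 (@Bool.rec (fun _ => ℕ) (@Bool.rec (fun _ => ℕ) (@Bool.rec (fun _ => ℕ) cb1336 cb1337 (Nat.ble (nat_lit 1337) i)) (@Bool.rec (fun _ => ℕ) cb1338 cb1339 (Nat.ble (nat_lit 1339) i)) (Nat.ble (nat_lit 1338) i)) (@Bool.rec (fun _ => ℕ) (@Bool.rec (fun _ => ℕ) cb1340 cb1341 (Nat.ble (nat_lit 1341) i)) (@Bool.rec (fun _ => ℕ) cb1342 cb1343 (Nat.ble (nat_lit 1343) i)) (Nat.ble (nat_lit 1342) i)) (Nat.ble (nat_lit 1340) i)) (Nat.ble (nat_lit 1336) i)) (Nat.ble (nat_lit 1328) i))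

def certBlk_n0_42 (i : ℕ) : ℕ := (@Bool.rec (fun _ => ℕ) (@Bool.rec (fun _ => ℕ) (@Bool.rec (fun _ => ℕ) (@Bool.rec (fun _ => ℕ) (@Bool.rec (fun _ => ℕ) cb1344 cb1345 (Nat.ble (nat_lit 1345) i)) (@Bool.rec (fun _ => ℕ) cb1346 cb1347 (Nat.ble (nat_lit 1347) i)) (Nat.ble (nat_lit 1346) i)) (@Bool.rec (fun _ => ℕ) (@Bool.rec (fun _ => ℕ) cb1348 cb1349 (Nat.ble (nat_lit 1349) i)) (@Bool.rec (fun _ => ℕ) cb1350 cb1351 (Nat.ble (nat_lit 1351) i)) (Nat.ble (nat_lit 1350) i)) (Nat.ble (nat_lit 1348) i)) (@Bool.rec (fun _ => ℕ) (@Bool.rec (fun _ => ℕ) (@Bool.rec (fun _ => ℕ) cb1352 cb1353 (Nat.ble (nat_lit 1353) i)) (@Bool.rec (fun _ => ℕ) cb1354 cb1355 (Nat.ble (nat_lit 1355) i)) (Nat.ble (nat_lit 1354) i)) (@Bool.rec (fun _ => ℕ) (@Bool.rec (fun _ => ℕ) cb1356 cb1357 (Nat.ble (nat_lit 1357) i)) (@Bool.rec (fun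 _ => ℕ) cb1358 cb1359 (Nat.ble (nat_lit 1359) i)) (Nat.ble (nat_lit 1358) i)) (Nat.ble (nat_lit 1356) i)) (Nat.ble (nat_lit 1352) i)) (@Bool.rec (fun _ => ℕ) (@Bool.rec (fun _ => ℕ) (@Bool.rec (fun _ => ℕ) (@Bool.rec (fun _ => ℕ) cb1360 cb1361 (Nat.ble (nat_lit 1361) i)) (@Bool.rec (fun _ => ℕ) cb1362 cb1363 (Nat.ble (nat_lit 1363) i)) (Nat.ble (nat_lit 1362) i)) (@Bool.rec (fun _ => ℕ) (@Bool.rec (fun _ => ℕ) cb1364 cb1365 (Nat.ble (nat_lit 1365) i)) (@Bool.rec (fun _ => ℕ) cb1366 cb1367 (Nat.ble (nat_lit 1367) i)) (Nat.ble (nat_lit 1366) i)) (Nat.ble (nat_lit 1364) i)) (@Bool.rec (fun _ => ℕ) (@Bool.rec (fun _ => ℕ) (@Bool.rec (fun _ => ℕ) cb1368 cb1369 (Nat.ble (nat_lit 1369) i)) (@Bool.rec (fun _ => ℕ) cb1370 cb1371 (Nat.ble (nat_lit 1371) i)) (Nat.ble (nat_lit 1370) i)) (@Bool.rec (fun _ => ℕ) (@Bool.rec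 (fun _ => ℕ) cb1372 cb1373 (Nat.ble (nat_lit 1373) i)) (@Bool.rec (fun _ => ℕ) cb1374 cb1375 (Nat.ble (nat_lit 1375) i)) (Nat.ble (nat_lit 1374) i)) (Nat.ble (nat_lit 1372) i)) (Nat.ble (nat_lit 1368) i)) (Nat.ble (nat_lit 1360) i))

def certBlk_n0_43 (i : ℕ) : ℕ := (@Bool.rec (fun _ => ℕ) (@Bool.rec (fun _ => ℕ) (@Bool.rec (fun _ => ℕ) (@Bool.rec (fun _ => ℕ) (@Bool.rec (fun _ => ℕ) cb1376 cb1377 (Nat.ble (nat_lit 1377) i)) (@Bool.rec (fun _ => ℕ) cb1378 cb1379 (Nat.ble (nat_lit 1379) i)) (Nat.ble (nat_lit 1378) i)) (@Bool.rec (fun _ => ℕ) (@Bool.rec (fun _ => ℕ) cb1380 cb1381 (Nat.ble (nat_lit 1381) i)) (@Bool.rec (fun _ => ℕ) cb1382 cb1383 (Nat.ble (nat_lit 1383) i)) (Nat.ble (nat_lit 1382) i)) (Nat.ble (nat_lit 1380) i)) (@Bool.rec (fun _ => ℕ) (@Bool.rec (fun _ => ℕ) (@Bool.rec (fun _ => ℕ) cb1384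 cb1385 (Nat.ble (nat_lit 1385) i)) (@Bool.rec (fun _ => ℕ) cb1386 cb1387 (Nat.ble (nat_lit 1387) i)) (Nat.ble (nat_lit 1386) i)) (@Bool.rec (fun _ => ℕ) (@Bool.rec (fun _ => ℕ) cb1388 cb1389 (Nat.ble (nat_lit 1389) i)) (@Bool.rec (fun _ => ℕ) cb1390 cb1391 (Nat.ble (nat_lit 1391) i)) (Nat.ble (nat_lit 1390) i)) (Nat.ble (nat_lit 1388) i)) (Nat.ble (nat_lit 1384) i)) (@Bool.rec (fun _ => ℕ) (@Bool.rec (fun _ => ℕ) (@Bool.rec (fun _ => ℕ) (@Bool.rec (fun _ => ℕ) cb1392 cb1393 (Nat.ble (nat_lit 1393) i)) (@Bool.rec (fun _ => ℕ) cb1394 cb1395 (Nat.ble (nat_lit 1395) i)) (Nat.ble (nat_lit 1394) i)) (@Bool.rec (fun _ => ℕ) (@Bool.rec (fun _ => ℕ) cb1396 cb1397 (Nat.ble (nat_lit 1397) i)) (@Bool.rec (fun _ => ℕ) cb1398 cb1399 (Nat.ble (nat_lit 1399) i)) (Nat.ble (nat_lit 1398) i)) (Nat.ble (nat_lit 1396) i))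 (@Bool.rec (fun _ => ℕ) (@Bool.rec (fun _ => ℕ) (@Bool.rec (fun _ => ℕ) cb1400 cb1401 (Nat.ble (nat_lit 1401) i)) (@Bool.rec (fun _ => ℕ) cb1402 cb1403 (Nat.ble (nat_lit 1403) i)) (Nat.ble (nat_lit 1402) i)) (@Bool.rec (fun _ => ℕ) (@Bool.rec (fun _ => ℕ) cb1404 cb1405 (Nat.ble (nat_lit 1405) i)) (@Bool.rec (fun _ => ℕ) cb1406 cb1407 (Nat.ble (nat_lit 1407) i)) (Nat.ble (nat_lit 1406) i)) (Nat.ble (nat_lit 1404) i)) (Nat.ble (nat_lit 1400) i)) (Nat.ble (nat_lit 1392) i))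

def certBlk_n0_44 (i : ℕ) : ℕ := (@Bool.rec (fun _ => ℕ) (@Bool.rec (fun _ => ℕ) (@Bool.rec (fun _ => ℕ) (@Bool.rec (fun _ => ℕ) (@Bool.rec (fun _ => ℕ) cb1408 cb1409 (Nat.ble (nat_lit 1409) i)) (@Bool.rec (fun _ => ℕ) cb1410 cb1411 (Nat.ble (nat_lit 1411) i)) (Nat.ble (nat_lit 1410) i)) (@Bool.rec (fun _ => ℕ) (@Bool.rec (fun _ => ℕ) cb1412 cb1413 (Nat.ble (nat_lit 1413) i)) (@Bool.rec (fun _ => ℕ) cb1414 cb1415 (Nat.ble (nat_lit 1415) i)) (Nat.ble (nat_lit 1414) i)) (Nat.ble (nat_lit 1412) i)) (@Bool.rec (fun _ => ℕ) (@Bool.rec (fun _ => ℕ) (@Bool.rec (fun _ => ℕ) cb1416 cb1417 (Nat.ble (nat_lit 1417) i)) (@Bool.rec (fun _ => ℕ) cb1418 cb1419 (Nat.ble (nat_lit 1419) i)) (Nat.ble (nat_lit 1418) i)) (@Bool.rec (fun _ => ℕ) (@Bool.rec (fun _ => ℕ) cb1420 cb1421 (Nat.ble (nat_lit 1421) i)) (@Bool.rec (fun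 _ => ℕ) cb1422 cb1423 (Nat.ble (nat_lit 1423) i)) (Nat.ble (nat_lit 1422) i)) (Nat.ble (nat_lit 1420) i)) (Nat.ble (nat_lit 1416) i)) (@Bool.rec (fun _ => ℕ) (@Bool.rec (fun _ => ℕ) (@Bool.rec (fun _ => ℕ) (@Bool.rec (fun _ => ℕ) cb1424 cb1425 (Nat.ble (nat_lit 1425) i)) (@Bool.rec (fun _ => ℕ) cb1426 cb1427 (Nat.ble (nat_lit 1427) i)) (Nat.ble (nat_lit 1426) i)) (@Bool.rec (fun _ => ℕ) (@Bool.rec (fun _ => ℕ) cb1428 cb1429 (Nat.ble (nat_lit 1429) i)) (@Bool.rec (fun _ => ℕ) cb1430 cb1431 (Nat.ble (nat_lit 1431) i)) (Nat.ble (nat_lit 1430) i)) (Nat.ble (nat_lit 1428) i)) (@Bool.rec (fun _ => ℕ) (@Bool.rec (fun _ => ℕ) (@Bool.rec (fun _ => ℕ) cb1432 cb1433 (Nat.ble (nat_lit 1433) i)) (@Bool.rec (fun _ => ℕ) cb1434 cb1435 (Nat.ble (nat_lit 1435) i)) (Nat.ble (nat_lit 1434) i)) (@Bool.rec (fun _ => ℕ) (@Bool.rec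 (fun _ => ℕ) cb1436 cb1437 (Nat.ble (nat_lit 1437) i)) (@Bool.rec (fun _ => ℕ) cb1438 cb1439 (Nat.ble (nat_lit 1439) i)) (Nat.ble (nat_lit 1438) i)) (Nat.ble (nat_lit 1436) i)) (Nat.ble (nat_lit 1432) i)) (Nat.ble (nat_lit 1424) i))

def certBlk_n0_45 (i : ℕ) : ℕ := (@Bool.rec (fun _ => ℕ) (@Bool.rec (fun _ => ℕ) (@Bool.rec (fun _ => ℕ) (@Bool.rec (fun _ => ℕ) (@Bool.rec (fun _ => ℕ) cb1440 cb1441 (Nat.ble (nat_lit 1441) i)) (@Bool.rec (fun _ => ℕ) cb1442 cb1443 (Nat.ble (nat_lit 1443) i)) (Nat.ble (nat_lit 1442) i)) (@Bool.rec (fun _ => ℕ) (@Bool.rec (fun _ => ℕ) cb1444 cb1445 (Nat.ble (nat_lit 1445) i)) (@Bool.rec (fun _ => ℕ) cb1446 cb1447 (Nat.ble (nat_lit 1447) i)) (Nat.ble (nat_lit 1446) i)) (Nat.ble (nat_lit 1444) i)) (@Bool.rec (fun _ => ℕ) (@Bool.rec (fun _ => ℕ) (@Bool.rec (fun _ => ℕ) cb1448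 cb1449 (Nat.ble (nat_lit 1449) i)) (@Bool.rec (fun _ => ℕ) cb1450 cb1451 (Nat.ble (nat_lit 1451) i)) (Nat.ble (nat_lit 1450) i)) (@Bool.rec (fun _ => ℕ) (@Bool.rec (fun _ => ℕ) cb1452 cb1453 (Nat.ble (nat_lit 1453) i)) (@Bool.rec (fun _ => ℕ) cb1454 cb1455 (Nat.ble (nat_lit 1455) i)) (Nat.ble (nat_lit 1454) i)) (Nat.ble (nat_lit 1452) i)) (Nat.ble (nat_lit 1448) i)) (@Bool.rec (fun _ => ℕ) (@Bool.rec (fun _ => ℕ) (@Bool.rec (fun _ => ℕ) (@Bool.rec (fun _ => ℕ) cb1456 cb1457 (Nat.ble (nat_lit 1457) i)) (@Bool.rec (fun _ => ℕ) cb1458 cb1459 (Nat.ble (nat_lit 1459) i)) (Nat.ble (nat_lit 1458) i)) (@Bool.rec (fun _ => ℕ) (@Bool.rec (fun _ => ℕ) cb1460 cb1461 (Nat.ble (nat_lit 1461) i)) (@Bool.rec (fun _ => ℕ) cb1462 cb1463 (Nat.ble (nat_lit 1463) i)) (Nat.ble (nat_lit 1462) i)) (Nat.ble (nat_lit 1460) i))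 (@Bool.rec (fun _ => ℕ) (@Bool.rec (fun _ => ℕ) (@Bool.rec (fun _ => ℕ) cb1464 cb1465 (Nat.ble (nat_lit 1465) i)) (@Bool.rec (fun _ => ℕ) cb1466 cb1467 (Nat.ble (nat_lit 1467) i)) (Nat.ble (nat_lit 1466) i)) (@Bool.rec (fun _ => ℕ) (@Bool.rec (fun _ => ℕ) cb1468 cb1469 (Nat.ble (nat_lit 1469) i)) (@Bool.rec (fun _ => ℕ) cb1470 cb1471 (Nat.ble (nat_lit 1471) i)) (Nat.ble (nat_lit 1470) i)) (Nat.ble (nat_lit 1468) i)) (Nat.ble (nat_lit 1464) i)) (Nat.ble (nat_lit 1456) i))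

def certBlk_n0_46 (i : ℕ) : ℕ := (@Bool.rec (fun _ => ℕ) (@Bool.rec (fun _ => ℕ) (@Bool.rec (fun _ => ℕ) (@Bool.rec (fun _ => ℕ) (@Bool.rec (fun _ => ℕ) cb1472 cb1473 (Nat.ble (nat_lit 1473) i)) (@Bool.rec (fun _ => ℕ) cb1474 cb1475 (Nat.ble (nat_lit 1475) i)) (Nat.ble (nat_lit 1474) i)) (@Bool.rec (fun _ => ℕ) (@Bool.rec (fun _ => ℕ) cb1476 cb1477 (Nat.ble (nat_lit 1477) i)) (@Bool.rec (fun _ => ℕ) cb1478 cb1479 (Nat.ble (nat_lit 1479) i)) (Nat.ble (nat_lit 1478) i)) (Nat.ble (nat_lit 1476) i)) (@Bool.rec (fun _ => ℕ) (@Bool.rec (fun _ => ℕ) (@Bool.rec (fun _ => ℕ) cb1480 cb1481 (Nat.ble (nat_lit 1481) i)) (@Bool.rec (fun _ => ℕ) cb1482 cb1483 (Nat.ble (nat_lit 1483) i)) (Nat.ble (nat_lit 1482) i)) (@Bool.rec (fun _ => ℕ) (@Bool.rec (fun _ => ℕ) cb1484 cb1485 (Nat.ble (nat_lit 1485) i)) (@Bool.rec (fun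 _ => ℕ) cb1486 cb1487 (Nat.ble (nat_lit 1487) i)) (Nat.ble (nat_lit 1486) i)) (Nat.ble (nat_lit 1484) i)) (Nat.ble (nat_lit 1480) i)) (@Bool.rec (fun _ => ℕ) (@Bool.rec (fun _ => ℕ) (@Bool.rec (fun _ => ℕ) (@Bool.rec (fun _ => ℕ) cb1488 cb1489 (Nat.ble (nat_lit 1489) i)) (@Bool.rec (fun _ => ℕ) cb1490 cb1491 (Nat.ble (nat_lit 1491) i)) (Nat.ble (nat_lit 1490) i)) (@Bool.rec (fun _ => ℕ) (@Bool.rec (fun _ => ℕ) cb1492 cb1493 (Nat.ble (nat_lit 1493) i)) (@Bool.rec (fun _ => ℕ) cb1494 cb1495 (Nat.ble (nat_lit 1495) i)) (Nat.ble (nat_lit 1494) i)) (Nat.ble (nat_lit 1492) i)) (@Bool.rec (fun _ => ℕ) (@Bool.rec (fun _ => ℕ) (@Bool.rec (fun _ => ℕ) cb1496 cb1497 (Nat.ble (nat_lit 1497) i)) (@Bool.rec (fun _ => ℕ) cb1498 cb1499 (Nat.ble (nat_lit 1499) i)) (Nat.ble (nat_lit 1498) i)) (@Bool.rec (fun _ => ℕ) (@Bool.rec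 (fun _ => ℕ) cb1500 cb1501 (Nat.ble (nat_lit 1501) i)) (@Bool.rec (fun _ => ℕ) cb1502 cb1503 (Nat.ble (nat_lit 1503) i)) (Nat.ble (nat_lit 1502) i)) (Nat.ble (nat_lit 1500) i)) (Nat.ble (nat_lit 1496) i)) (Nat.ble (nat_lit 1488) i))

def certBlk_n0_47 (i : ℕ) : ℕ := (@Bool.rec (fun _ => ℕ) (@Bool.rec (fun _ => ℕ) (@Bool.rec (fun _ => ℕ) (@Bool.rec (fun _ => ℕ) (@Bool.rec (fun _ => ℕ) cb1504 cb1505 (Nat.ble (nat_lit 1505) i)) (@Bool.rec (fun _ => ℕ) cb1506 cb1507 (Nat.ble (nat_lit 1507) i)) (Nat.ble (nat_lit 1506) i)) (@Bool.rec (fun _ => ℕ) (@Bool.rec (fun _ => ℕ) cb1508 cb1509 (Nat.ble (nat_lit 1509) i)) (@Bool.rec (fun _ => ℕ) cb1510 cb1511 (Nat.ble (nat_lit 1511) i)) (Nat.ble (nat_lit 1510) i)) (Nat.ble (nat_lit 1508) i)) (@Bool.rec (fun _ => ℕ) (@Bool.rec (fun _ => ℕ) (@Bool.rec (fun _ => ℕ) cb1512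 cb1513 (Nat.ble (nat_lit 1513) i)) (@Bool.rec (fun _ => ℕ) cb1514 cb1515 (Nat.ble (nat_lit 1515) i)) (Nat.ble (nat_lit 1514) i)) (@Bool.rec (fun _ => ℕ) (@Bool.rec (fun _ => ℕ) cb1516 cb1517 (Nat.ble (nat_lit 1517) i)) (@Bool.rec (fun _ => ℕ) cb1518 cb1519 (Nat.ble (nat_lit 1519) i)) (Nat.ble (nat_lit 1518) i)) (Nat.ble (nat_lit 1516) i)) (Nat.ble (nat_lit 1512) i)) (@Bool.rec (fun _ => ℕ) (@Bool.rec (fun _ => ℕ) (@Bool.rec (fun _ => ℕ) (@Bool.rec (fun _ => ℕ) cb1520 cb1521 (Nat.ble (nat_lit 1521) i)) (@Bool.rec (fun _ => ℕ) cb1522 cb1523 (Nat.ble (nat_lit 1523) i)) (Nat.ble (nat_lit 1522) i)) (@Bool.rec (fun _ => ℕ) (@Bool.rec (fun _ => ℕ) cb1524 cb1525 (Nat.ble (nat_lit 1525) i)) (@Bool.rec (fun _ => ℕ) cb1526 cb1527 (Nat.ble (nat_lit 1527) i)) (Nat.ble (nat_lit 1526) i)) (Nat.ble (nat_lit 1524) i))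 (@Bool.rec (fun _ => ℕ) (@Bool.rec (fun _ => ℕ) (@Bool.rec (fun _ => ℕ) cb1528 cb1529 (Nat.ble (nat_lit 1529) i)) (@Bool.rec (fun _ => ℕ) cb1530 cb1531 (Nat.ble (nat_lit 1531) i)) (Nat.ble (nat_lit 1530) i)) (@Bool.rec (fun _ => ℕ) (@Bool.rec (fun _ => ℕ) cb1532 cb1533 (Nat.ble (nat_lit 1533) i)) (@Bool.rec (fun _ => ℕ) cb1534 cb1535 (Nat.ble (nat_lit 1535) i)) (Nat.ble (nat_lit 1534) i)) (Nat.ble (nat_lit 1532) i)) (Nat.ble (nat_lit 1528) i)) (Nat.ble (nat_lit 1520) i))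

def certBlk_n0_48 (i : ℕ) : ℕ := (@Bool.rec (fun _ => ℕ) (@Bool.rec (fun _ => ℕ) (@Bool.rec (fun _ => ℕ) (@Bool.rec (fun _ => ℕ) (@Bool.rec (fun _ => ℕ) cb1536 cb1537 (Nat.ble (nat_lit 1537) i)) (@Bool.rec (fun _ => ℕ) cb1538 cb1539 (Nat.ble (nat_lit 1539) i)) (Nat.ble (nat_lit 1538) i)) (@Bool.rec (fun _ => ℕ) (@Bool.rec (fun _ => ℕ) cb1540 cb1541 (Nat.ble (nat_lit 1541) i)) (@Bool.rec (fun _ => ℕ) cb1542 cb1543 (Nat.ble (nat_lit 1543) i)) (Nat.ble (nat_lit 1542) i)) (Nat.ble (nat_lit 1540) i)) (@Bool.rec (fun _ => ℕ) (@Bool.rec (fun _ => ℕ) (@Bool.rec (fun _ => ℕ) cb1544 cb1545 (Nat.ble (nat_lit 1545) i)) (@Bool.rec (fun _ => ℕ) cb1546 cb1547 (Nat.ble (nat_lit 1547) i)) (Nat.ble (nat_lit 1546) i)) (@Bool.rec (fun _ => ℕ) (@Bool.rec (fun _ => ℕ) cb1548 cb1549 (Nat.ble (nat_lit 1549) i)) (@Bool.rec (fun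 _ => ℕ) cb1550 cb1551 (Nat.ble (nat_lit 1551) i)) (Nat.ble (nat_lit 1550) i)) (Nat.ble (nat_lit 1548) i)) (Nat.ble (nat_lit 1544) i)) (@Bool.rec (fun _ => ℕ) (@Bool.rec (fun _ => ℕ) (@Bool.rec (fun _ => ℕ) (@Bool.rec (fun _ => ℕ) cb1552 cb1553 (Nat.ble (nat_lit 1553) i)) (@Bool.rec (fun _ => ℕ) cb1554 cb1555 (Nat.ble (nat_lit 1555) i)) (Nat.ble (nat_lit 1554) i)) (@Bool.rec (fun _ => ℕ) (@Bool.rec (fun _ => ℕ) cb1556 cb1557 (Nat.ble (nat_lit 1557) i)) (@Bool.rec (fun _ => ℕ) cb1558 cb1559 (Nat.ble (nat_lit 1559) i)) (Nat.ble (nat_lit 1558) i)) (Nat.ble (nat_lit 1556) i)) (@Bool.rec (fun _ => ℕ) (@Bool.rec (fun _ => ℕ) (@Bool.rec (fun _ => ℕ) cb1560 cb1561 (Nat.ble (nat_lit 1561) i)) (@Bool.rec (fun _ => ℕ) cb1562 cb1563 (Nat.ble (nat_lit 1563) i)) (Nat.ble (nat_lit 1562) i)) (@Bool.rec (fun _ => ℕ) (@Bool.rec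 (fun _ => ℕ) cb1564 cb1565 (Nat.ble (nat_lit 1565) i)) (@Bool.rec (fun _ => ℕ) cb1566 cb1567 (Nat.ble (nat_lit 1567) i)) (Nat.ble (nat_lit 1566) i)) (Nat.ble (nat_lit 1564) i)) (Nat.ble (nat_lit 1560) i)) (Nat.ble (nat_lit 1552) i))

def certBlk_n0_49 (i : ℕ) : ℕ := (@Bool.rec (fun _ => ℕ) (@Bool.rec (fun _ => ℕ) (@Bool.rec (fun _ => ℕ) (@Bool.rec (fun _ => ℕ) (@Bool.rec (fun _ => ℕ) cb1568 cb1569 (Nat.ble (nat_lit 1569) i)) (@Bool.rec (fun _ => ℕ) cb1570 cb1571 (Nat.ble (nat_lit 1571) i)) (Nat.ble (nat_lit 1570) i)) (@Bool.rec (fun _ => ℕ) (@Bool.rec (fun _ => ℕ) cb1572 cb1573 (Nat.ble (nat_lit 1573) i)) (@Bool.rec (fun _ => ℕ) cb1574 cb1575 (Nat.ble (nat_lit 1575) i)) (Nat.ble (nat_lit 1574) i)) (Nat.ble (nat_lit 1572) i)) (@Bool.rec (fun _ => ℕ) (@Bool.rec (fun _ => ℕ) (@Bool.rec (fun _ => ℕ) cb1576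 cb1577 (Nat.ble (nat_lit 1577) i)) (@Bool.rec (fun _ => ℕ) cb1578 cb1579 (Nat.ble (nat_lit 1579) i)) (Nat.ble (nat_lit 1578) i)) (@Bool.rec (fun _ => ℕ) (@Bool.rec (fun _ => ℕ) cb1580 cb1581 (Nat.ble (nat_lit 1581) i)) (@Bool.rec (fun _ => ℕ) cb1582 cb1583 (Nat.ble (nat_lit 1583) i)) (Nat.ble (nat_lit 1582) i)) (Nat.ble (nat_lit 1580) i)) (Nat.ble (nat_lit 1576) i)) (@Bool.rec (fun _ => ℕ) (@Bool.rec (fun _ => ℕ) (@Bool.rec (fun _ => ℕ) (@Bool.rec (fun _ => ℕ) cb1584 cb1585 (Nat.ble (nat_lit 1585) i)) (@Bool.rec (fun _ => ℕ) cb1586 cb1587 (Nat.ble (nat_lit 1587) i)) (Nat.ble (nat_lit 1586) i)) (@Bool.rec (fun _ => ℕ) (@Bool.rec (fun _ => ℕ) cb1588 cb1589 (Nat.ble (nat_lit 1589) i)) (@Bool.rec (fun _ => ℕ) cb1590 cb1591 (Nat.ble (nat_lit 1591) i)) (Nat.ble (nat_lit 1590) i)) (Nat.ble (nat_lit 1588) i))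 (@Bool.rec (fun _ => ℕ) (@Bool.rec (fun _ => ℕ) (@Bool.rec (fun _ => ℕ) cb1592 cb1593 (Nat.ble (nat_lit 1593) i)) (@Bool.rec (fun _ => ℕ) cb1594 cb1595 (Nat.ble (nat_lit 1595) i)) (Nat.ble (nat_lit 1594) i)) (@Bool.rec (fun _ => ℕ) (@Bool.rec (fun _ => ℕ) cb1596 cb1597 (Nat.ble (nat_lit 1597) i)) (@Bool.rec (fun _ => ℕ) cb1598 cb1599 (Nat.ble (nat_lit 1599) i)) (Nat.ble (nat_lit 1598) i)) (Nat.ble (nat_lit 1596) i)) (Nat.ble (nat_lit 1592) i)) (Nat.ble (nat_lit 1584) i))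

def certBlk_n0_50 (i : ℕ) : ℕ := (@Bool.rec (fun _ => ℕ) (@Bool.rec (fun _ => ℕ) (@Bool.rec (fun _ => ℕ) (@Bool.rec (fun _ => ℕ) (@Bool.rec (fun _ => ℕ) cb1600 cb1601 (Nat.ble (nat_lit 1601) i)) (@Bool.rec (fun _ => ℕ) cb1602 cb1603 (Nat.ble (nat_lit 1603) i)) (Nat.ble (nat_lit 1602) i)) (@Bool.rec (fun _ => ℕ) (@Bool.rec (fun _ => ℕ) cb1604 cb1605 (Nat.ble (nat_lit 1605) i)) (@Bool.rec (fun _ => ℕ) cb1606 cb1607 (Nat.ble (nat_lit 1607) i)) (Nat.ble (nat_lit 1606) i)) (Nat.ble (nat_lit 1604) i)) (@Bool.rec (fun _ => ℕ) (@Bool.rec (fun _ => ℕ) (@Bool.rec (fun _ => ℕ) cb1608 cb1609 (Nat.ble (nat_lit 1609) i)) (@Bool.rec (fun _ => ℕ) cb1610 cb1611 (Nat.ble (nat_lit 1611) i)) (Nat.ble (nat_lit 1610) i)) (@Bool.rec (fun _ => ℕ) (@Bool.rec (fun _ => ℕ) cb1612 cb1613 (Nat.ble (nat_lit 1613) i)) (@Bool.rec (fun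 _ => ℕ) cb1614 cb1615 (Nat.ble (nat_lit 1615) i)) (Nat.ble (nat_lit 1614) i)) (Nat.ble (nat_lit 1612) i)) (Nat.ble (nat_lit 1608) i)) (@Bool.rec (fun _ => ℕ) (@Bool.rec (fun _ => ℕ) (@Bool.rec (fun _ => ℕ) (@Bool.rec (fun _ => ℕ) cb1616 cb1617 (Nat.ble (nat_lit 1617) i)) (@Bool.rec (fun _ => ℕ) cb1618 cb1619 (Nat.ble (nat_lit 1619) i)) (Nat.ble (nat_lit 1618) i)) (@Bool.rec (fun _ => ℕ) (@Bool.rec (fun _ => ℕ) cb1620 cb1621 (Nat.ble (nat_lit 1621) i)) (@Bool.rec (fun _ => ℕ) cb1622 cb1623 (Nat.ble (nat_lit 1623) i)) (Nat.ble (nat_lit 1622) i)) (Nat.ble (nat_lit 1620) i)) (@Bool.rec (fun _ => ℕ) (@Bool.rec (fun _ => ℕ) (@Bool.rec (fun _ => ℕ) cb1624 cb1625 (Nat.ble (nat_lit 1625) i)) (@Bool.rec (fun _ => ℕ) cb1626 cb1627 (Nat.ble (nat_lit 1627) i)) (Nat.ble (nat_lit 1626) i)) (@Bool.rec (fun _ => ℕ) (@Bool.rec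 (fun _ => ℕ) cb1628 cb1629 (Nat.ble (nat_lit 1629) i)) (@Bool.rec (fun _ => ℕ) cb1630 cb1631 (Nat.ble (nat_lit 1631) i)) (Nat.ble (nat_lit 1630) i)) (Nat.ble (nat_lit 1628) i)) (Nat.ble (nat_lit 1624) i)) (Nat.ble (nat_lit 1616) i))

def certBlk_n0_51 (i : ℕ) : ℕ := (@Bool.rec (fun _ => ℕ) (@Bool.rec (fun _ => ℕ) (@Bool.rec (fun _ => ℕ) (@Bool.rec (fun _ => ℕ) (@Bool.rec (fun _ => ℕ) cb1632 cb1633 (Nat.ble (nat_lit 1633) i)) (@Bool.rec (fun _ => ℕ) cb1634 cb1635 (Nat.ble (nat_lit 1635) i)) (Nat.ble (nat_lit 1634) i)) (@Bool.rec (fun _ => ℕ) (@Bool.rec (fun _ => ℕ) cb1636 cb1637 (Nat.ble (nat_lit 1637) i)) (@Bool.rec (fun _ => ℕ) cb1638 cb1639 (Nat.ble (nat_lit 1639) i)) (Nat.ble (nat_lit 1638) i)) (Nat.ble (nat_lit 1636) i)) (@Bool.rec (fun _ => ℕ) (@Bool.rec (fun _ => ℕ) (@Bool.rec (fun _ => ℕ) cb1640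 cb1641 (Nat.ble (nat_lit 1641) i)) (@Bool.rec (fun _ => ℕ) cb1642 cb1643 (Nat.ble (nat_lit 1643) i)) (Nat.ble (nat_lit 1642) i)) (@Bool.rec (fun _ => ℕ) (@Bool.rec (fun _ => ℕ) cb1644 cb1645 (Nat.ble (nat_lit 1645) i)) (@Bool.rec (fun _ => ℕ) cb1646 cb1647 (Nat.ble (nat_lit 1647) i)) (Nat.ble (nat_lit 1646) i)) (Nat.ble (nat_lit 1644) i)) (Nat.ble (nat_lit 1640) i)) (@Bool.rec (fun _ => ℕ) (@Bool.rec (fun _ => ℕ) (@Bool.rec (fun _ => ℕ) (@Bool.rec (fun _ => ℕ) cb1648 cb1649 (Nat.ble (nat_lit 1649) i)) (@Bool.rec (fun _ => ℕ) cb1650 cb1651 (Nat.ble (nat_lit 1651) i)) (Nat.ble (nat_lit 1650) i)) (@Bool.rec (fun _ => ℕ) (@Bool.rec (fun _ => ℕ) cb1652 cb1653 (Nat.ble (nat_lit 1653) i)) (@Bool.rec (fun _ => ℕ) cb1654 cb1655 (Nat.ble (nat_lit 1655) i)) (Nat.ble (nat_lit 1654) i)) (Nat.ble (nat_lit 1652) i))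 (@Bool.rec (fun _ => ℕ) (@Bool.rec (fun _ => ℕ) (@Bool.rec (fun _ => ℕ) cb1656 cb1657 (Nat.ble (nat_lit 1657) i)) (@Bool.rec (fun _ => ℕ) cb1658 cb1659 (Nat.ble (nat_lit 1659) i)) (Nat.ble (nat_lit 1658) i)) (@Bool.rec (fun _ => ℕ) (@Bool.rec (fun _ => ℕ) cb1660 cb1661 (Nat.ble (nat_lit 1661) i)) (@Bool.rec (fun _ => ℕ) cb1662 cb1663 (Nat.ble (nat_lit 1663) i)) (Nat.ble (nat_lit 1662) i)) (Nat.ble (nat_lit 1660) i)) (Nat.ble (nat_lit 1656) i)) (Nat.ble (nat_lit 1648) i))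

def certBlk_n0_52 (i : ℕ) : ℕ := (@Bool.rec (fun _ => ℕ) (@Bool.rec (fun _ => ℕ) (@Bool.rec (fun _ => ℕ) (@Bool.rec (fun _ => ℕ) (@Bool.rec (fun _ => ℕ) cb1664 cb1665 (Nat.ble (nat_lit 1665) i)) (@Bool.rec (fun _ => ℕ) cb1666 cb1667 (Nat.ble (nat_lit 1667) i)) (Nat.ble (nat_lit 1666) i)) (@Bool.rec (fun _ => ℕ) (@Bool.rec (fun _ => ℕ) cb1668 cb1669 (Nat.ble (nat_lit 1669) i)) (@Bool.rec (fun _ => ℕ) cb1670 cb1671 (Nat.ble (nat_lit 1671) i)) (Nat.ble (nat_lit 1670) i)) (Nat.ble (nat_lit 1668) i)) (@Bool.rec (fun _ => ℕ) (@Bool.rec (fun _ => ℕ) (@Bool.rec (fun _ => ℕ) cb1672 cb1673 (Nat.ble (nat_lit 1673) i)) (@Bool.rec (fun _ => ℕ) cb1674 cb1675 (Nat.ble (nat_lit 1675) i)) (Nat.ble (nat_lit 1674) i)) (@Bool.rec (fun _ => ℕ) (@Bool.rec (fun _ => ℕ) cb1676 cb1677 (Nat.ble (nat_lit 1677) i)) (@Bool.rec (fun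 _ => ℕ) cb1678 cb1679 (Nat.ble (nat_lit 1679) i)) (Nat.ble (nat_lit 1678) i)) (Nat.ble (nat_lit 1676) i)) (Nat.ble (nat_lit 1672) i)) (@Bool.rec (fun _ => ℕ) (@Bool.rec (fun _ => ℕ) (@Bool.rec (fun _ => ℕ) (@Bool.rec (fun _ => ℕ) cb1680 cb1681 (Nat.ble (nat_lit 1681) i)) (@Bool.rec (fun _ => ℕ) cb1682 cb1683 (Nat.ble (nat_lit 1683) i)) (Nat.ble (nat_lit 1682) i)) (@Bool.rec (fun _ => ℕ) (@Bool.rec (fun _ => ℕ) cb1684 cb1685 (Nat.ble (nat_lit 1685) i)) (@Bool.rec (fun _ => ℕ) cb1686 cb1687 (Nat.ble (nat_lit 1687) i)) (Nat.ble (nat_lit 1686) i)) (Nat.ble (nat_lit 1684) i)) (@Bool.rec (fun _ => ℕ) (@Bool.rec (fun _ => ℕ) (@Bool.rec (fun _ => ℕ) cb1688 cb1689 (Nat.ble (nat_lit 1689) i)) (@Bool.rec (fun _ => ℕ) cb1690 cb1691 (Nat.ble (nat_lit 1691) i)) (Nat.ble (nat_lit 1690) i)) (@Bool.rec (fun _ => ℕ) (@Bool.rec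 (fun _ => ℕ) cb1692 cb1693 (Nat.ble (nat_lit 1693) i)) (@Bool.rec (fun _ => ℕ) cb1694 cb1695 (Nat.ble (nat_lit 1695) i)) (Nat.ble (nat_lit 1694) i)) (Nat.ble (nat_lit 1692) i)) (Nat.ble (nat_lit 1688) i)) (Nat.ble (nat_lit 1680) i))

def certBlk_n0_53 (i : ℕ) : ℕ := (@Bool.rec (fun _ => ℕ) (@Bool.rec (fun _ => ℕ) (@Bool.rec (fun _ => ℕ) (@Bool.rec (fun _ => ℕ) (@Bool.rec (fun _ => ℕ) cb1696 cb1697 (Nat.ble (nat_lit 1697) i)) (@Bool.rec (fun _ => ℕ) cb1698 cb1699 (Nat.ble (nat_lit 1699) i)) (Nat.ble (nat_lit 1698) i)) (@Bool.rec (fun _ => ℕ) (@Bool.rec (fun _ => ℕ) cb1700 cb1701 (Nat.ble (nat_lit 1701) i)) (@Bool.rec (fun _ => ℕ) cb1702 cb1703 (Nat.ble (nat_lit 1703) i)) (Nat.ble (nat_lit 1702) i)) (Nat.ble (nat_lit 1700) i)) (@Bool.rec (fun _ => ℕ) (@Bool.rec (fun _ => ℕ) (@Bool.rec (fun _ => ℕ) cb1704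 cb1705 (Nat.ble (nat_lit 1705) i)) (@Bool.rec (fun _ => ℕ) cb1706 cb1707 (Nat.ble (nat_lit 1707) i)) (Nat.ble (nat_lit 1706) i)) (@Bool.rec (fun _ => ℕ) (@Bool.rec (fun _ => ℕ) cb1708 cb1709 (Nat.ble (nat_lit 1709) i)) (@Bool.rec (fun _ => ℕ) cb1710 cb1711 (Nat.ble (nat_lit 1711) i)) (Nat.ble (nat_lit 1710) i)) (Nat.ble (nat_lit 1708) i)) (Nat.ble (nat_lit 1704) i)) (@Bool.rec (fun _ => ℕ) (@Bool.rec (fun _ => ℕ) (@Bool.rec (fun _ => ℕ) (@Bool.rec (fun _ => ℕ) cb1712 cb1713 (Nat.ble (nat_lit 1713) i)) (@Bool.rec (fun _ => ℕ) cb1714 cb1715 (Nat.ble (nat_lit 1715) i)) (Nat.ble (nat_lit 1714) i)) (@Bool.rec (fun _ => ℕ) (@Bool.rec (fun _ => ℕ) cb1716 cb1717 (Nat.ble (nat_lit 1717) i)) (@Bool.rec (fun _ => ℕ) cb1718 cb1719 (Nat.ble (nat_lit 1719) i)) (Nat.ble (nat_lit 1718) i)) (Nat.ble (nat_lit 1716) i))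 (@Bool.rec (fun _ => ℕ) (@Bool.rec (fun _ => ℕ) (@Bool.rec (fun _ => ℕ) cb1720 cb1721 (Nat.ble (nat_lit 1721) i)) (@Bool.rec (fun _ => ℕ) cb1722 cb1723 (Nat.ble (nat_lit 1723) i)) (Nat.ble (nat_lit 1722) i)) (@Bool.rec (fun _ => ℕ) (@Bool.rec (fun _ => ℕ) cb1724 cb1725 (Nat.ble (nat_lit 1725) i)) (@Bool.rec (fun _ => ℕ) cb1726 cb1727 (Nat.ble (nat_lit 1727) i)) (Nat.ble (nat_lit 1726) i)) (Nat.ble (nat_lit 1724) i)) (Nat.ble (nat_lit 1720) i)) (Nat.ble (nat_lit 1712) i))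

def certBlk_n0_54 (i : ℕ) : ℕ := (@Bool.rec (fun _ => ℕ) (@Bool.rec (fun _ => ℕ) (@Bool.rec (fun _ => ℕ) (@Bool.rec (fun _ => ℕ) (@Bool.rec (fun _ => ℕ) cb1728 cb1729 (Nat.ble (nat_lit 1729) i)) (@Bool.rec (fun _ => ℕ) cb1730 cb1731 (Nat.ble (nat_lit 1731) i)) (Nat.ble (nat_lit 1730) i)) (@Bool.rec (fun _ => ℕ) (@Bool.rec (fun _ => ℕ) cb1732 cb1733 (Nat.ble (nat_lit 1733) i)) (@Bool.rec (fun _ => ℕ) cb1734 cb1735 (Nat.ble (nat_lit 1735) i)) (Nat.ble (nat_lit 1734) i)) (Nat.ble (nat_lit 1732) i)) (@Bool.rec (fun _ => ℕ) (@Bool.rec (fun _ => ℕ) (@Bool.rec (fun _ => ℕ) cb1736 cb1737 (Nat.ble (nat_lit 1737) i)) (@Bool.rec (fun _ => ℕ) cb1738 cb1739 (Nat.ble (nat_lit 1739) i)) (Nat.ble (nat_lit 1738) i)) (@Bool.rec (fun _ => ℕ) (@Bool.rec (fun _ => ℕ) cb1740 cb1741 (Nat.ble (nat_lit 1741) i)) (@Bool.rec (fun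 _ => ℕ) cb1742 cb1743 (Nat.ble (nat_lit 1743) i)) (Nat.ble (nat_lit 1742) i)) (Nat.ble (nat_lit 1740) i)) (Nat.ble (nat_lit 1736) i)) (@Bool.rec (fun _ => ℕ) (@Bool.rec (fun _ => ℕ) (@Bool.rec (fun _ => ℕ) (@Bool.rec (fun _ => ℕ) cb1744 cb1745 (Nat.ble (nat_lit 1745) i)) (@Bool.rec (fun _ => ℕ) cb1746 cb1747 (Nat.ble (nat_lit 1747) i)) (Nat.ble (nat_lit 1746) i)) (@Bool.rec (fun _ => ℕ) (@Bool.rec (fun _ => ℕ) cb1748 cb1749 (Nat.ble (nat_lit 1749) i)) (@Bool.rec (fun _ => ℕ) cb1750 cb1751 (Nat.ble (nat_lit 1751) i)) (Nat.ble (nat_lit 1750) i)) (Nat.ble (nat_lit 1748) i)) (@Bool.rec (fun _ => ℕ) (@Bool.rec (fun _ => ℕ) (@Bool.rec (fun _ => ℕ) cb1752 cb1753 (Nat.ble (nat_lit 1753) i)) (@Bool.rec (fun _ => ℕ) cb1754 cb1755 (Nat.ble (nat_lit 1755) i)) (Nat.ble (nat_lit 1754) i)) (@Bool.rec (fun _ => ℕ) (@Bool.rec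 (fun _ => ℕ) cb1756 cb1757 (Nat.ble (nat_lit 1757) i)) (@Bool.rec (fun _ => ℕ) cb1758 cb1759 (Nat.ble (nat_lit 1759) i)) (Nat.ble (nat_lit 1758) i)) (Nat.ble (nat_lit 1756) i)) (Nat.ble (nat_lit 1752) i)) (Nat.ble (nat_lit 1744) i))

def certBlk_n0_55 (i : ℕ) : ℕ := (@Bool.rec (fun _ => ℕ) (@Bool.rec (fun _ => ℕ) (@Bool.rec (fun _ => ℕ) (@Bool.rec (fun _ => ℕ) (@Bool.rec (fun _ => ℕ) cb1760 cb1761 (Nat.ble (nat_lit 1761) i)) (@Bool.rec (fun _ => ℕ) cb1762 cb1763 (Nat.ble (nat_lit 1763) i)) (Nat.ble (nat_lit 1762) i)) (@Bool.rec (fun _ => ℕ) (@Bool.rec (fun _ => ℕ) cb1764 cb1765 (Nat.ble (nat_lit 1765) i)) (@Bool.rec (fun _ => ℕ) cb1766 cb1767 (Nat.ble (nat_lit 1767) i)) (Nat.ble (nat_lit 1766) i)) (Nat.ble (nat_lit 1764) i)) (@Bool.rec (fun _ => ℕ) (@Bool.rec (fun _ => ℕ) (@Bool.rec (fun _ => ℕ) cb1768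 cb1769 (Nat.ble (nat_lit 1769) i)) (@Bool.rec (fun _ => ℕ) cb1770 cb1771 (Nat.ble (nat_lit 1771) i)) (Nat.ble (nat_lit 1770) i)) (@Bool.rec (fun _ => ℕ) (@Bool.rec (fun _ => ℕ) cb1772 cb1773 (Nat.ble (nat_lit 1773) i)) (@Bool.rec (fun _ => ℕ) cb1774 cb1775 (Nat.ble (nat_lit 1775) i)) (Nat.ble (nat_lit 1774) i)) (Nat.ble (nat_lit 1772) i)) (Nat.ble (nat_lit 1768) i)) (@Bool.rec (fun _ => ℕ) (@Bool.rec (fun _ => ℕ) (@Bool.rec (fun _ => ℕ) (@Bool.rec (fun _ => ℕ) cb1776 cb1777 (Nat.ble (nat_lit 1777) i)) (@Bool.rec (fun _ => ℕ) cb1778 cb1779 (Nat.ble (nat_lit 1779) i)) (Nat.ble (nat_lit 1778) i)) (@Bool.rec (fun _ => ℕ) (@Bool.rec (fun _ => ℕ) cb1780 cb1781 (Nat.ble (nat_lit 1781) i)) (@Bool.rec (fun _ => ℕ) cb1782 cb1783 (Nat.ble (nat_lit 1783) i)) (Nat.ble (nat_lit 1782) i)) (Nat.ble (nat_lit 1780) i))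 (@Bool.rec (fun _ => ℕ) (@Bool.rec (fun _ => ℕ) (@Bool.rec (fun _ => ℕ) cb1784 cb1785 (Nat.ble (nat_lit 1785) i)) (@Bool.rec (fun _ => ℕ) cb1786 cb1787 (Nat.ble (nat_lit 1787) i)) (Nat.ble (nat_lit 1786) i)) (@Bool.rec (fun _ => ℕ) (@Bool.rec (fun _ => ℕ) cb1788 cb1789 (Nat.ble (nat_lit 1789) i)) (@Bool.rec (fun _ => ℕ) cb1790 cb1791 (Nat.ble (nat_lit 1791) i)) (Nat.ble (nat_lit 1790) i)) (Nat.ble (nat_lit 1788) i)) (Nat.ble (nat_lit 1784) i)) (Nat.ble (nat_lit 1776) i))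

def certBlk_n0_56 (i : ℕ) : ℕ := (@Bool.rec (fun _ => ℕ) (@Bool.rec (fun _ => ℕ) (@Bool.rec (fun _ => ℕ) (@Bool.rec (fun _ => ℕ) (@Bool.rec (fun _ => ℕ) cb1792 cb1793 (Nat.ble (nat_lit 1793) i)) (@Bool.rec (fun _ => ℕ) cb1794 cb1795 (Nat.ble (nat_lit 1795) i)) (Nat.ble (nat_lit 1794) i)) (@Bool.rec (fun _ => ℕ) (@Bool.rec (fun _ => ℕ) cb1796 cb1797 (Nat.ble (nat_lit 1797) i)) (@Bool.rec (fun _ => ℕ) cb1798 cb1799 (Nat.ble (nat_lit 1799) i)) (Nat.ble (nat_lit 1798) i)) (Nat.ble (nat_lit 1796) i)) (@Bool.rec (fun _ => ℕ) (@Bool.rec (fun _ => ℕ) (@Bool.rec (fun _ => ℕ) cb1800 cb1801 (Nat.ble (nat_lit 1801) i)) (@Bool.rec (fun _ => ℕ) cb1802 cb1803 (Nat.ble (nat_lit 1803) i)) (Nat.ble (nat_lit 1802) i)) (@Bool.rec (fun _ => ℕ) (@Bool.rec (fun _ => ℕ) cb1804 cb1805 (Nat.ble (nat_lit 1805) i)) (@Bool.rec (fun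 _ => ℕ) cb1806 cb1807 (Nat.ble (nat_lit 1807) i)) (Nat.ble (nat_lit 1806) i)) (Nat.ble (nat_lit 1804) i)) (Nat.ble (nat_lit 1800) i)) (@Bool.rec (fun _ => ℕ) (@Bool.rec (fun _ => ℕ) (@Bool.rec (fun _ => ℕ) (@Bool.rec (fun _ => ℕ) cb1808 cb1809 (Nat.ble (nat_lit 1809) i)) (@Bool.rec (fun _ => ℕ) cb1810 cb1811 (Nat.ble (nat_lit 1811) i)) (Nat.ble (nat_lit 1810) i)) (@Bool.rec (fun _ => ℕ) (@Bool.rec (fun _ => ℕ) cb1812 cb1813 (Nat.ble (nat_lit 1813) i)) (@Bool.rec (fun _ => ℕ) cb1814 cb1815 (Nat.ble (nat_lit 1815) i)) (Nat.ble (nat_lit 1814) i)) (Nat.ble (nat_lit 1812) i)) (@Bool.rec (fun _ => ℕ) (@Bool.rec (fun _ => ℕ) (@Bool.rec (fun _ => ℕ) cb1816 cb1817 (Nat.ble (nat_lit 1817) i)) (@Bool.rec (fun _ => ℕ) cb1818 cb1819 (Nat.ble (nat_lit 1819) i)) (Nat.ble (nat_lit 1818) i)) (@Bool.rec (fun _ => ℕ) (@Bool.rec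 (fun _ => ℕ) cb1820 cb1821 (Nat.ble (nat_lit 1821) i)) (@Bool.rec (fun _ => ℕ) cb1822 cb1823 (Nat.ble (nat_lit 1823) i)) (Nat.ble (nat_lit 1822) i)) (Nat.ble (nat_lit 1820) i)) (Nat.ble (nat_lit 1816) i)) (Nat.ble (nat_lit 1808) i))

def certBlk_n0_57 (i : ℕ) : ℕ := (@Bool.rec (fun _ => ℕ) (@Bool.rec (fun _ => ℕ) (@Bool.rec (fun _ => ℕ) (@Bool.rec (fun _ => ℕ) (@Bool.rec (fun _ => ℕ) cb1824 cb1825 (Nat.ble (nat_lit 1825) i)) (@Bool.rec (fun _ => ℕ) cb1826 cb1827 (Nat.ble (nat_lit 1827) i)) (Nat.ble (nat_lit 1826) i)) (@Bool.rec (fun _ => ℕ) (@Bool.rec (fun _ => ℕ) cb1828 cb1829 (Nat.ble (nat_lit 1829) i)) (@Bool.rec (fun _ => ℕ) cb1830 cb1831 (Nat.ble (nat_lit 1831) i)) (Nat.ble (nat_lit 1830) i)) (Nat.ble (nat_lit 1828) i)) (@Bool.rec (fun _ => ℕ) (@Bool.rec (fun _ => ℕ) (@Bool.rec (fun _ => ℕ) cb1832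 cb1833 (Nat.ble (nat_lit 1833) i)) (@Bool.rec (fun _ => ℕ) cb1834 cb1835 (Nat.ble (nat_lit 1835) i)) (Nat.ble (nat_lit 1834) i)) (@Bool.rec (fun _ => ℕ) (@Bool.rec (fun _ => ℕ) cb1836 cb1837 (Nat.ble (nat_lit 1837) i)) (@Bool.rec (fun _ => ℕ) cb1838 cb1839 (Nat.ble (nat_lit 1839) i)) (Nat.ble (nat_lit 1838) i)) (Nat.ble (nat_lit 1836) i)) (Nat.ble (nat_lit 1832) i)) (@Bool.rec (fun _ => ℕ) (@Bool.rec (fun _ => ℕ) (@Bool.rec (fun _ => ℕ) (@Bool.rec (fun _ => ℕ) cb1840 cb1841 (Nat.ble (nat_lit 1841) i)) (@Bool.rec (fun _ => ℕ) cb1842 cb1843 (Nat.ble (nat_lit 1843) i)) (Nat.ble (nat_lit 1842) i)) (@Bool.rec (fun _ => ℕ) (@Bool.rec (fun _ => ℕ) cb1844 cb1845 (Nat.ble (nat_lit 1845) i)) (@Bool.rec (fun _ => ℕ) cb1846 cb1847 (Nat.ble (nat_lit 1847) i)) (Nat.ble (nat_lit 1846) i)) (Nat.ble (nat_lit 1844) i))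 (@Bool.rec (fun _ => ℕ) (@Bool.rec (fun _ => ℕ) (@Bool.rec (fun _ => ℕ) cb1848 cb1849 (Nat.ble (nat_lit 1849) i)) (@Bool.rec (fun _ => ℕ) cb1850 cb1851 (Nat.ble (nat_lit 1851) i)) (Nat.ble (nat_lit 1850) i)) (@Bool.rec (fun _ => ℕ) (@Bool.rec (fun _ => ℕ) cb1852 cb1853 (Nat.ble (nat_lit 1853) i)) (@Bool.rec (fun _ => ℕ) cb1854 cb1855 (Nat.ble (nat_lit 1855) i)) (Nat.ble (nat_lit 1854) i)) (Nat.ble (nat_lit 1852) i)) (Nat.ble (nat_lit 1848) i)) (Nat.ble (nat_lit 1840) i))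

def certBlk_n0_58 (i : ℕ) : ℕ := (@Bool.rec (fun _ => ℕ) (@Bool.rec (fun _ => ℕ) (@Bool.rec (fun _ => ℕ) (@Bool.rec (fun _ => ℕ) (@Bool.rec (fun _ => ℕ) cb1856 cb1857 (Nat.ble (nat_lit 1857) i)) (@Bool.rec (fun _ => ℕ) cb1858 cb1859 (Nat.ble (nat_lit 1859) i)) (Nat.ble (nat_lit 1858) i)) (@Bool.rec (fun _ => ℕ) (@Bool.rec (fun _ => ℕ) cb1860 cb1861 (Nat.ble (nat_lit 1861) i)) (@Bool.rec (fun _ => ℕ) cb1862 cb1863 (Nat.ble (nat_lit 1863) i)) (Nat.ble (nat_lit 1862) i)) (Nat.ble (nat_lit 1860) i)) (@Bool.rec (fun _ => ℕ) (@Bool.rec (fun _ => ℕ) (@Bool.rec (fun _ => ℕ) cb1864 cb1865 (Nat.ble (nat_lit 1865) i)) (@Bool.rec (fun _ => ℕ) cb1866 cb1867 (Nat.ble (nat_lit 1867) i)) (Nat.ble (nat_lit 1866) i)) (@Bool.rec (fun _ => ℕ) (@Bool.rec (fun _ => ℕ) cb1868 cb1869 (Nat.ble (nat_lit 1869) i)) (@Bool.rec (fun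 _ => ℕ) cb1870 cb1871 (Nat.ble (nat_lit 1871) i)) (Nat.ble (nat_lit 1870) i)) (Nat.ble (nat_lit 1868) i)) (Nat.ble (nat_lit 1864) i)) (@Bool.rec (fun _ => ℕ) (@Bool.rec (fun _ => ℕ) (@Bool.rec (fun _ => ℕ) (@Bool.rec (fun _ => ℕ) cb1872 cb1873 (Nat.ble (nat_lit 1873) i)) (@Bool.rec (fun _ => ℕ) cb1874 cb1875 (Nat.ble (nat_lit 1875) i)) (Nat.ble (nat_lit 1874) i)) (@Bool.rec (fun _ => ℕ) (@Bool.rec (fun _ => ℕ) cb1876 cb1877 (Nat.ble (nat_lit 1877) i)) (@Bool.rec (fun _ => ℕ) cb1878 cb1879 (Nat.ble (nat_lit 1879) i)) (Nat.ble (nat_lit 1878) i)) (Nat.ble (nat_lit 1876) i)) (@Bool.rec (fun _ => ℕ) (@Bool.rec (fun _ => ℕ) (@Bool.rec (fun _ => ℕ) cb1880 cb1881 (Nat.ble (nat_lit 1881) i)) (@Bool.rec (fun _ => ℕ) cb1882 cb1883 (Nat.ble (nat_lit 1883) i)) (Nat.ble (nat_lit 1882) i)) (@Bool.rec (fun _ => ℕ) (@Bool.rec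 (fun _ => ℕ) cb1884 cb1885 (Nat.ble (nat_lit 1885) i)) (@Bool.rec (fun _ => ℕ) cb1886 cb1887 (Nat.ble (nat_lit 1887) i)) (Nat.ble (nat_lit 1886) i)) (Nat.ble (nat_lit 1884) i)) (Nat.ble (nat_lit 1880) i)) (Nat.ble (nat_lit 1872) i))

def certBlk_n0_59 (i : ℕ) : ℕ := (@Bool.rec (fun _ => ℕ) (@Bool.rec (fun _ => ℕ) (@Bool.rec (fun _ => ℕ) (@Bool.rec (fun _ => ℕ) (@Bool.rec (fun _ => ℕ) cb1888 cb1889 (Nat.ble (nat_lit 1889) i)) (@Bool.rec (fun _ => ℕ) cb1890 cb1891 (Nat.ble (nat_lit 1891) i)) (Nat.ble (nat_lit 1890) i)) (@Bool.rec (fun _ => ℕ) (@Bool.rec (fun _ => ℕ) cb1892 cb1893 (Nat.ble (nat_lit 1893) i)) (@Bool.rec (fun _ => ℕ) cb1894 cb1895 (Nat.ble (nat_lit 1895) i)) (Nat.ble (nat_lit 1894) i)) (Nat.ble (nat_lit 1892) i)) (@Bool.rec (fun _ => ℕ) (@Bool.rec (fun _ => ℕ) (@Bool.rec (fun _ => ℕ) cb1896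 cb1897 (Nat.ble (nat_lit 1897) i)) (@Bool.rec (fun _ => ℕ) cb1898 cb1899 (Nat.ble (nat_lit 1899) i)) (Nat.ble (nat_lit 1898) i)) (@Bool.rec (fun _ => ℕ) (@Bool.rec (fun _ => ℕ) cb1900 cb1901 (Nat.ble (nat_lit 1901) i)) (@Bool.rec (fun _ => ℕ) cb1902 cb1903 (Nat.ble (nat_lit 1903) i)) (Nat.ble (nat_lit 1902) i)) (Nat.ble (nat_lit 1900) i)) (Nat.ble (nat_lit 1896) i)) (@Bool.rec (fun _ => ℕ) (@Bool.rec (fun _ => ℕ) (@Bool.rec (fun _ => ℕ) (@Bool.rec (fun _ => ℕ) cb1904 cb1905 (Nat.ble (nat_lit 1905) i)) (@Bool.rec (fun _ => ℕ) cb1906 cb1907 (Nat.ble (nat_lit 1907) i)) (Nat.ble (nat_lit 1906) i)) (@Bool.rec (fun _ => ℕ) (@Bool.rec (fun _ => ℕ) cb1908 cb1909 (Nat.ble (nat_lit 1909) i)) (@Bool.rec (fun _ => ℕ) cb1910 cb1911 (Nat.ble (nat_lit 1911) i)) (Nat.ble (nat_lit 1910) i)) (Nat.ble (nat_lit 1908) i))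 (@Bool.rec (fun _ => ℕ) (@Bool.rec (fun _ => ℕ) (@Bool.rec (fun _ => ℕ) cb1912 cb1913 (Nat.ble (nat_lit 1913) i)) (@Bool.rec (fun _ => ℕ) cb1914 cb1915 (Nat.ble (nat_lit 1915) i)) (Nat.ble (nat_lit 1914) i)) (@Bool.rec (fun _ => ℕ) (@Bool.rec (fun _ => ℕ) cb1916 cb1917 (Nat.ble (nat_lit 1917) i)) (@Bool.rec (fun _ => ℕ) cb1918 cb1919 (Nat.ble (nat_lit 1919) i)) (Nat.ble (nat_lit 1918) i)) (Nat.ble (nat_lit 1916) i)) (Nat.ble (nat_lit 1912) i)) (Nat.ble (nat_lit 1904) i))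

def certBlk_n0_60 (i : ℕ) : ℕ := (@Bool.rec (fun _ => ℕ) (@Bool.rec (fun _ => ℕ) (@Bool.rec (fun _ => ℕ) (@Bool.rec (fun _ => ℕ) (@Bool.rec (fun _ => ℕ) cb1920 cb1921 (Nat.ble (nat_lit 1921) i)) (@Bool.rec (fun _ => ℕ) cb1922 cb1923 (Nat.ble (nat_lit 1923) i)) (Nat.ble (nat_lit 1922) i)) (@Bool.rec (fun _ => ℕ) (@Bool.rec (fun _ => ℕ) cb1924 cb1925 (Nat.ble (nat_lit 1925) i)) (@Bool.rec (fun _ => ℕ) cb1926 cb1927 (Nat.ble (nat_lit 1927) i)) (Nat.ble (nat_lit 1926) i)) (Nat.ble (nat_lit 1924) i)) (@Bool.rec (fun _ => ℕ) (@Bool.rec (fun _ => ℕ) (@Bool.rec (fun _ => ℕ) cb1928 cb1929 (Nat.ble (nat_lit 1929) i)) (@Bool.rec (fun _ => ℕ) cb1930 cb1931 (Nat.ble (nat_lit 1931) i)) (Nat.ble (nat_lit 1930) i)) (@Bool.rec (fun _ => ℕ) (@Bool.rec (fun _ => ℕ) cb1932 cb1933 (Nat.ble (nat_lit 1933) i)) (@Bool.rec (fun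 _ => ℕ) cb1934 cb1935 (Nat.ble (nat_lit 1935) i)) (Nat.ble (nat_lit 1934) i)) (Nat.ble (nat_lit 1932) i)) (Nat.ble (nat_lit 1928) i)) (@Bool.rec (fun _ => ℕ) (@Bool.rec (fun _ => ℕ) (@Bool.rec (fun _ => ℕ) (@Bool.rec (fun _ => ℕ) cb1936 cb1937 (Nat.ble (nat_lit 1937) i)) (@Bool.rec (fun _ => ℕ) cb1938 cb1939 (Nat.ble (nat_lit 1939) i)) (Nat.ble (nat_lit 1938) i)) (@Bool.rec (fun _ => ℕ) (@Bool.rec (fun _ => ℕ) cb1940 cb1941 (Nat.ble (nat_lit 1941) i)) (@Bool.rec (fun _ => ℕ) cb1942 cb1943 (Nat.ble (nat_lit 1943) i)) (Nat.ble (nat_lit 1942) i)) (Nat.ble (nat_lit 1940) i)) (@Bool.rec (fun _ => ℕ) (@Bool.rec (fun _ => ℕ) (@Bool.rec (fun _ => ℕ) cb1944 cb1945 (Nat.ble (nat_lit 1945) i)) (@Bool.rec (fun _ => ℕ) cb1946 cb1947 (Nat.ble (nat_lit 1947) i)) (Nat.ble (nat_lit 1946) i)) (@Bool.rec (fun _ => ℕ) (@Bool.rec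 (fun _ => ℕ) cb1948 cb1949 (Nat.ble (nat_lit 1949) i)) (@Bool.rec (fun _ => ℕ) cb1950 cb1951 (Nat.ble (nat_lit 1951) i)) (Nat.ble (nat_lit 1950) i)) (Nat.ble (nat_lit 1948) i)) (Nat.ble (nat_lit 1944) i)) (Nat.ble (nat_lit 1936) i))

def certBlk_n0_61 (i : ℕ) : ℕ := (@Bool.rec (fun _ => ℕ) (@Bool.rec (fun _ => ℕ) (@Bool.rec (fun _ => ℕ) (@Bool.rec (fun _ => ℕ) (@Bool.rec (fun _ => ℕ) cb1952 cb1953 (Nat.ble (nat_lit 1953) i)) (@Bool.rec (fun _ => ℕ) cb1954 cb1955 (Nat.ble (nat_lit 1955) i)) (Nat.ble (nat_lit 1954) i)) (@Bool.rec (fun _ => ℕ) (@Bool.rec (fun _ => ℕ) cb1956 cb1957 (Nat.ble (nat_lit 1957) i)) (@Bool.rec (fun _ => ℕ) cb1958 cb1959 (Nat.ble (nat_lit 1959) i)) (Nat.ble (nat_lit 1958) i)) (Nat.ble (nat_lit 1956) i)) (@Bool.rec (fun _ => ℕ) (@Bool.rec (fun _ => ℕ) (@Bool.rec (fun _ => ℕ) cb1960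 cb1961 (Nat.ble (nat_lit 1961) i)) (@Bool.rec (fun _ => ℕ) cb1962 cb1963 (Nat.ble (nat_lit 1963) i)) (Nat.ble (nat_lit 1962) i)) (@Bool.rec (fun _ => ℕ) (@Bool.rec (fun _ => ℕ) cb1964 cb1965 (Nat.ble (nat_lit 1965) i)) (@Bool.rec (fun _ => ℕ) cb1966 cb1967 (Nat.ble (nat_lit 1967) i)) (Nat.ble (nat_lit 1966) i)) (Nat.ble (nat_lit 1964) i)) (Nat.ble (nat_lit 1960) i)) (@Bool.rec (fun _ => ℕ) (@Bool.rec (fun _ => ℕ) (@Bool.rec (fun _ => ℕ) (@Bool.rec (fun _ => ℕ) cb1968 cb1969 (Nat.ble (nat_lit 1969) i)) (@Bool.rec (fun _ => ℕ) cb1970 cb1971 (Nat.ble (nat_lit 1971) i)) (Nat.ble (nat_lit 1970) i)) (@Bool.rec (fun _ => ℕ) (@Bool.rec (fun _ => ℕ) cb1972 cb1973 (Nat.ble (nat_lit 1973) i)) (@Bool.rec (fun _ => ℕ) cb1974 cb1975 (Nat.ble (nat_lit 1975) i)) (Nat.ble (nat_lit 1974) i)) (Nat.ble (nat_lit 1972) i))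 (@Bool.rec (fun _ => ℕ) (@Bool.rec (fun _ => ℕ) (@Bool.rec (fun _ => ℕ) cb1976 cb1977 (Nat.ble (nat_lit 1977) i)) (@Bool.rec (fun _ => ℕ) cb1978 cb1979 (Nat.ble (nat_lit 1979) i)) (Nat.ble (nat_lit 1978) i)) (@Bool.rec (fun _ => ℕ) (@Bool.rec (fun _ => ℕ) cb1980 cb1981 (Nat.ble (nat_lit 1981) i)) (@Bool.rec (fun _ => ℕ) cb1982 cb1983 (Nat.ble (nat_lit 1983) i)) (Nat.ble (nat_lit 1982) i)) (Nat.ble (nat_lit 1980) i)) (Nat.ble (nat_lit 1976) i)) (Nat.ble (nat_lit 1968) i))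

def certBlk_n0_62 (i : ℕ) : ℕ := (@Bool.rec (fun _ => ℕ) (@Bool.rec (fun _ => ℕ) (@Bool.rec (fun _ => ℕ) (@Bool.rec (fun _ => ℕ) (@Bool.rec (fun _ => ℕ) cb1984 cb1985 (Nat.ble (nat_lit 1985) i)) (@Bool.rec (fun _ => ℕ) cb1986 cb1987 (Nat.ble (nat_lit 1987) i)) (Nat.ble (nat_lit 1986) i)) (@Bool.rec (fun _ => ℕ) (@Bool.rec (fun _ => ℕ) cb1988 cb1989 (Nat.ble (nat_lit 1989) i)) (@Bool.rec (fun _ => ℕ) cb1990 cb1991 (Nat.ble (nat_lit 1991) i)) (Nat.ble (nat_lit 1990) i)) (Nat.ble (nat_lit 1988) i)) (@Bool.rec (fun _ => ℕ) (@Bool.rec (fun _ => ℕ) (@Bool.rec (fun _ => ℕ) cb1992 cb1993 (Nat.ble (nat_lit 1993) i)) (@Bool.rec (fun _ => ℕ) cb1994 cb1995 (Nat.ble (nat_lit 1995) i)) (Nat.ble (nat_lit 1994) i)) (@Bool.rec (fun _ => ℕ) (@Bool.rec (fun _ => ℕ) cb1996 cb1997 (Nat.ble (nat_lit 1997) i)) (@Bool.rec (fun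 _ => ℕ) cb1998 cb1999 (Nat.ble (nat_lit 1999) i)) (Nat.ble (nat_lit 1998) i)) (Nat.ble (nat_lit 1996) i)) (Nat.ble (nat_lit 1992) i)) (@Bool.rec (fun _ => ℕ) (@Bool.rec (fun _ => ℕ) (@Bool.rec (fun _ => ℕ) (@Bool.rec (fun _ => ℕ) cb2000 cb2001 (Nat.ble (nat_lit 2001) i)) (@Bool.rec (fun _ => ℕ) cb2002 cb2003 (Nat.ble (nat_lit 2003) i)) (Nat.ble (nat_lit 2002) i)) (@Bool.rec (fun _ => ℕ) (@Bool.rec (fun _ => ℕ) cb2004 cb2005 (Nat.ble (nat_lit 2005) i)) (@Bool.rec (fun _ => ℕ) cb2006 cb2007 (Nat.ble (nat_lit 2007) i)) (Nat.ble (nat_lit 2006) i)) (Nat.ble (nat_lit 2004) i)) (@Bool.rec (fun _ => ℕ) (@Bool.rec (fun _ => ℕ) (@Bool.rec (fun _ => ℕ) cb2008 cb2009 (Nat.ble (nat_lit 2009) i)) (@Bool.rec (fun _ => ℕ) cb2010 cb2011 (Nat.ble (nat_lit 2011) i)) (Nat.ble (nat_lit 2010) i)) (@Bool.rec (fun _ => ℕ) (@Bool.rec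 (fun _ => ℕ) cb2012 cb2013 (Nat.ble (nat_lit 2013) i)) (@Bool.rec (fun _ => ℕ) cb2014 cb2015 (Nat.ble (nat_lit 2015) i)) (Nat.ble (nat_lit 2014) i)) (Nat.ble (nat_lit 2012) i)) (Nat.ble (nat_lit 2008) i)) (Nat.ble (nat_lit 2000) i))

def certBlk_n0_63 (i : ℕ) : ℕ := (@Bool.rec (fun _ => ℕ) (@Bool.rec (fun _ => ℕ) (@Bool.rec (fun _ => ℕ) (@Bool.rec (fun _ => ℕ) (@Bool.rec (fun _ => ℕ) cb2016 cb2017 (Nat.ble (nat_lit 2017) i)) (@Bool.rec (fun _ => ℕ) cb2018 cb2019 (Nat.ble (nat_lit 2019) i)) (Nat.ble (nat_lit 2018) i)) (@Bool.rec (fun _ => ℕ) (@Bool.rec (fun _ => ℕ) cb2020 cb2021 (Nat.ble (nat_lit 2021) i)) (@Bool.rec (fun _ => ℕ) cb2022 cb2023 (Nat.ble (nat_lit 2023) i)) (Nat.ble (nat_lit 2022) i)) (Nat.ble (nat_lit 2020) i)) (@Bool.rec (fun _ => ℕ) (@Bool.rec (fun _ => ℕ) (@Bool.rec (fun _ => ℕ) cb2024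 cb2025 (Nat.ble (nat_lit 2025) i)) (@Bool.rec (fun _ => ℕ) cb2026 cb2027 (Nat.ble (nat_lit 2027) i)) (Nat.ble (nat_lit 2026) i)) (@Bool.rec (fun _ => ℕ) (@Bool.rec (fun _ => ℕ) cb2028 cb2029 (Nat.ble (nat_lit 2029) i)) (@Bool.rec (fun _ => ℕ) cb2030 cb2031 (Nat.ble (nat_lit 2031) i)) (Nat.ble (nat_lit 2030) i)) (Nat.ble (nat_lit 2028) i)) (Nat.ble (nat_lit 2024) i)) (@Bool.rec (fun _ => ℕ) (@Bool.rec (fun _ => ℕ) (@Bool.rec (fun _ => ℕ) (@Bool.rec (fun _ => ℕ) cb2032 cb2033 (Nat.ble (nat_lit 2033) i)) (@Bool.rec (fun _ => ℕ) cb2034 cb2035 (Nat.ble (nat_lit 2035) i)) (Nat.ble (nat_lit 2034) i)) (@Bool.rec (fun _ => ℕ) (@Bool.rec (fun _ => ℕ) cb2036 cb2037 (Nat.ble (nat_lit 2037) i)) (@Bool.rec (fun _ => ℕ) cb2038 cb2039 (Nat.ble (nat_lit 2039) i)) (Nat.ble (nat_lit 2038) i)) (Nat.ble (nat_lit 2036) i))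 (@Bool.rec (fun _ => ℕ) (@Bool.rec (fun _ => ℕ) (@Bool.rec (fun _ => ℕ) cb2040 cb2041 (Nat.ble (nat_lit 2041) i)) (@Bool.rec (fun _ => ℕ) cb2042 cb2043 (Nat.ble (nat_lit 2043) i)) (Nat.ble (nat_lit 2042) i)) (@Bool.rec (fun _ => ℕ) (@Bool.rec (fun _ => ℕ) cb2044 cb2045 (Nat.ble (nat_lit 2045) i)) (@Bool.rec (fun _ => ℕ) cb2046 cb2047 (Nat.ble (nat_lit 2047) i)) (Nat.ble (nat_lit 2046) i)) (Nat.ble (nat_lit 2044) i)) (Nat.ble (nat_lit 2040) i)) (Nat.ble (nat_lit 2032) i))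

def certBlk_n0_64 (i : ℕ) : ℕ := (@Bool.rec (fun _ => ℕ) (@Bool.rec (fun _ => ℕ) (@Bool.rec (fun _ => ℕ) (@Bool.rec (fun _ => ℕ) (@Bool.rec (fun _ => ℕ) cb2048 cb2049 (Nat.ble (nat_lit 2049) i)) (@Bool.rec (fun _ => ℕ) cb2050 cb2051 (Nat.ble (nat_lit 2051) i)) (Nat.ble (nat_lit 2050) i)) (@Bool.rec (fun _ => ℕ) (@Bool.rec (fun _ => ℕ) cb2052 cb2053 (Nat.ble (nat_lit 2053) i)) (@Bool.rec (fun _ => ℕ) cb2054 cb2055 (Nat.ble (nat_lit 2055) i)) (Nat.ble (nat_lit 2054) i)) (Nat.ble (nat_lit 2052) i)) (@Bool.rec (fun _ => ℕ) (@Bool.rec (fun _ => ℕ) (@Bool.rec (fun _ => ℕ) cb2056 cb2057 (Nat.ble (nat_lit 2057) i)) (@Bool.rec (fun _ => ℕ) cb2058 cb2059 (Nat.ble (nat_lit 2059) i)) (Nat.ble (nat_lit 2058) i)) (@Bool.rec (fun _ => ℕ) (@Bool.rec (fun _ => ℕ) cb2060 cb2061 (Nat.ble (nat_lit 2061) i)) (@Bool.rec (fun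 _ => ℕ) cb2062 cb2063 (Nat.ble (nat_lit 2063) i)) (Nat.ble (nat_lit 2062) i)) (Nat.ble (nat_lit 2060) i)) (Nat.ble (nat_lit 2056) i)) (@Bool.rec (fun _ => ℕ) (@Bool.rec (fun _ => ℕ) (@Bool.rec (fun _ => ℕ) (@Bool.rec (fun _ => ℕ) cb2064 cb2065 (Nat.ble (nat_lit 2065) i)) (@Bool.rec (fun _ => ℕ) cb2066 cb2067 (Nat.ble (nat_lit 2067) i)) (Nat.ble (nat_lit 2066) i)) (@Bool.rec (fun _ => ℕ) (@Bool.rec (fun _ => ℕ) cb2068 cb2069 (Nat.ble (nat_lit 2069) i)) (@Bool.rec (fun _ => ℕ) cb2070 cb2071 (Nat.ble (nat_lit 2071) i)) (Nat.ble (nat_lit 2070) i)) (Nat.ble (nat_lit 2068) i)) (@Bool.rec (fun _ => ℕ) (@Bool.rec (fun _ => ℕ) (@Bool.rec (fun _ => ℕ) cb2072 cb2073 (Nat.ble (nat_lit 2073) i)) (@Bool.rec (fun _ => ℕ) cb2074 cb2075 (Nat.ble (nat_lit 2075) i)) (Nat.ble (nat_lit 2074) i)) (@Bool.rec (fun _ => ℕ) (@Bool.rec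 (fun _ => ℕ) cb2076 cb2077 (Nat.ble (nat_lit 2077) i)) (@Bool.rec (fun _ => ℕ) cb2078 cb2079 (Nat.ble (nat_lit 2079) i)) (Nat.ble (nat_lit 2078) i)) (Nat.ble (nat_lit 2076) i)) (Nat.ble (nat_lit 2072) i)) (Nat.ble (nat_lit 2064) i))

def certBlk_n0_65 (i : ℕ) : ℕ := (@Bool.rec (fun _ => ℕ) (@Bool.rec (fun _ => ℕ) (@Bool.rec (fun _ => ℕ) (@Bool.rec (fun _ => ℕ) (@Bool.rec (fun _ => ℕ) cb2080 cb2081 (Nat.ble (nat_lit 2081) i)) (@Bool.rec (fun _ => ℕ) cb2082 cb2083 (Nat.ble (nat_lit 2083) i)) (Nat.ble (nat_lit 2082) i)) (@Bool.rec (fun _ => ℕ) (@Bool.rec (fun _ => ℕ) cb2084 cb2085 (Nat.ble (nat_lit 2085) i)) (@Bool.rec (fun _ => ℕ) cb2086 cb2087 (Nat.ble (nat_lit 2087) i)) (Nat.ble (nat_lit 2086) i)) (Nat.ble (nat_lit 2084) i)) (@Bool.rec (fun _ => ℕ) (@Bool.rec (fun _ => ℕ) (@Bool.rec (fun _ => ℕ) cb2088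 cb2089 (Nat.ble (nat_lit 2089) i)) (@Bool.rec (fun _ => ℕ) cb2090 cb2091 (Nat.ble (nat_lit 2091) i)) (Nat.ble (nat_lit 2090) i)) (@Bool.rec (fun _ => ℕ) (@Bool.rec (fun _ => ℕ) cb2092 cb2093 (Nat.ble (nat_lit 2093) i)) (@Bool.rec (fun _ => ℕ) cb2094 cb2095 (Nat.ble (nat_lit 2095) i)) (Nat.ble (nat_lit 2094) i)) (Nat.ble (nat_lit 2092) i)) (Nat.ble (nat_lit 2088) i)) (@Bool.rec (fun _ => ℕ) (@Bool.rec (fun _ => ℕ) (@Bool.rec (fun _ => ℕ) (@Bool.rec (fun _ => ℕ) cb2096 cb2097 (Nat.ble (nat_lit 2097) i)) (@Bool.rec (fun _ => ℕ) cb2098 cb2099 (Nat.ble (nat_lit 2099) i)) (Nat.ble (nat_lit 2098) i)) (@Bool.rec (fun _ => ℕ) (@Bool.rec (fun _ => ℕ) cb2100 cb2101 (Nat.ble (nat_lit 2101) i)) (@Bool.rec (fun _ => ℕ) cb2102 cb2103 (Nat.ble (nat_lit 2103) i)) (Nat.ble (nat_lit 2102) i)) (Nat.ble (nat_lit 2100) i))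 (@Bool.rec (fun _ => ℕ) (@Bool.rec (fun _ => ℕ) (@Bool.rec (fun _ => ℕ) cb2104 cb2105 (Nat.ble (nat_lit 2105) i)) (@Bool.rec (fun _ => ℕ) cb2106 cb2107 (Nat.ble (nat_lit 2107) i)) (Nat.ble (nat_lit 2106) i)) (@Bool.rec (fun _ => ℕ) (@Bool.rec (fun _ => ℕ) cb2108 cb2109 (Nat.ble (nat_lit 2109) i)) (@Bool.rec (fun _ => ℕ) cb2110 cb2111 (Nat.ble (nat_lit 2111) i)) (Nat.ble (nat_lit 2110) i)) (Nat.ble (nat_lit 2108) i)) (Nat.ble (nat_lit 2104) i)) (Nat.ble (nat_lit 2096) i))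

def certBlk_n0_66 (i : ℕ) : ℕ := (@Bool.rec (fun _ => ℕ) (@Bool.rec (fun _ => ℕ) (@Bool.rec (fun _ => ℕ) (@Bool.rec (fun _ => ℕ) (@Bool.rec (fun _ => ℕ) cb2112 cb2113 (Nat.ble (nat_lit 2113) i)) (@Bool.rec (fun _ => ℕ) cb2114 cb2115 (Nat.ble (nat_lit 2115) i)) (Nat.ble (nat_lit 2114) i)) (@Bool.rec (fun _ => ℕ) (@Bool.rec (fun _ => ℕ) cb2116 cb2117 (Nat.ble (nat_lit 2117) i)) (@Bool.rec (fun _ => ℕ) cb2118 cb2119 (Nat.ble (nat_lit 2119) i)) (Nat.ble (nat_lit 2118) i)) (Nat.ble (nat_lit 2116) i)) (@Bool.rec (fun _ => ℕ) (@Bool.rec (fun _ => ℕ) (@Bool.rec (fun _ => ℕ) cb2120 cb2121 (Nat.ble (nat_lit 2121) i)) (@Bool.rec (fun _ => ℕ) cb2122 cb2123 (Nat.ble (nat_lit 2123) i)) (Nat.ble (nat_lit 2122) i)) (@Bool.rec (fun _ => ℕ) (@Bool.rec (fun _ => ℕ) cb2124 cb2125 (Nat.ble (nat_lit 2125) i)) (@Bool.rec (fun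 _ => ℕ) cb2126 cb2127 (Nat.ble (nat_lit 2127) i)) (Nat.ble (nat_lit 2126) i)) (Nat.ble (nat_lit 2124) i)) (Nat.ble (nat_lit 2120) i)) (@Bool.rec (fun _ => ℕ) (@Bool.rec (fun _ => ℕ) (@Bool.rec (fun _ => ℕ) (@Bool.rec (fun _ => ℕ) cb2128 cb2129 (Nat.ble (nat_lit 2129) i)) (@Bool.rec (fun _ => ℕ) cb2130 cb2131 (Nat.ble (nat_lit 2131) i)) (Nat.ble (nat_lit 2130) i)) (@Bool.rec (fun _ => ℕ) (@Bool.rec (fun _ => ℕ) cb2132 cb2133 (Nat.ble (nat_lit 2133) i)) (@Bool.rec (fun _ => ℕ) cb2134 cb2135 (Nat.ble (nat_lit 2135) i)) (Nat.ble (nat_lit 2134) i)) (Nat.ble (nat_lit 2132) i)) (@Bool.rec (fun _ => ℕ) (@Bool.rec (fun _ => ℕ) (@Bool.rec (fun _ => ℕ) cb2136 cb2137 (Nat.ble (nat_lit 2137) i)) (@Bool.rec (fun _ => ℕ) cb2138 cb2139 (Nat.ble (nat_lit 2139) i)) (Nat.ble (nat_lit 2138) i)) (@Bool.rec (fun _ => ℕ) (@Bool.rec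 (fun _ => ℕ) cb2140 cb2141 (Nat.ble (nat_lit 2141) i)) (@Bool.rec (fun _ => ℕ) cb2142 cb2143 (Nat.ble (nat_lit 2143) i)) (Nat.ble (nat_lit 2142) i)) (Nat.ble (nat_lit 2140) i)) (Nat.ble (nat_lit 2136) i)) (Nat.ble (nat_lit 2128) i))

def certBlk_n0_67 (i : ℕ) : ℕ := (@Bool.rec (fun _ => ℕ) (@Bool.rec (fun _ => ℕ) (@Bool.rec (fun _ => ℕ) (@Bool.rec (fun _ => ℕ) (@Bool.rec (fun _ => ℕ) cb2144 cb2145 (Nat.ble (nat_lit 2145) i)) (@Bool.rec (fun _ => ℕ) cb2146 cb2147 (Nat.ble (nat_lit 2147) i)) (Nat.ble (nat_lit 2146) i)) (@Bool.rec (fun _ => ℕ) (@Bool.rec (fun _ => ℕ) cb2148 cb2149 (Nat.ble (nat_lit 2149) i)) (@Bool.rec (fun _ => ℕ) cb2150 cb2151 (Nat.ble (nat_lit 2151) i)) (Nat.ble (nat_lit 2150) i)) (Nat.ble (nat_lit 2148) i)) (@Bool.rec (fun _ => ℕ) (@Bool.rec (fun _ => ℕ) (@Bool.rec (fun _ => ℕ) cb2152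 cb2153 (Nat.ble (nat_lit 2153) i)) (@Bool.rec (fun _ => ℕ) cb2154 cb2155 (Nat.ble (nat_lit 2155) i)) (Nat.ble (nat_lit 2154) i)) (@Bool.rec (fun _ => ℕ) (@Bool.rec (fun _ => ℕ) cb2156 cb2157 (Nat.ble (nat_lit 2157) i)) (@Bool.rec (fun _ => ℕ) cb2158 cb2159 (Nat.ble (nat_lit 2159) i)) (Nat.ble (nat_lit 2158) i)) (Nat.ble (nat_lit 2156) i)) (Nat.ble (nat_lit 2152) i)) (@Bool.rec (fun _ => ℕ) (@Bool.rec (fun _ => ℕ) (@Bool.rec (fun _ => ℕ) (@Bool.rec (fun _ => ℕ) cb2160 cb2161 (Nat.ble (nat_lit 2161) i)) (@Bool.rec (fun _ => ℕ) cb2162 cb2163 (Nat.ble (nat_lit 2163) i)) (Nat.ble (nat_lit 2162) i)) (@Bool.rec (fun _ => ℕ) (@Bool.rec (fun _ => ℕ) cb2164 cb2165 (Nat.ble (nat_lit 2165) i)) (@Bool.rec (fun _ => ℕ) cb2166 cb2167 (Nat.ble (nat_lit 2167) i)) (Nat.ble (nat_lit 2166) i)) (Nat.ble (nat_lit 2164) i))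 (@Bool.rec (fun _ => ℕ) (@Bool.rec (fun _ => ℕ) (@Bool.rec (fun _ => ℕ) cb2168 cb2169 (Nat.ble (nat_lit 2169) i)) (@Bool.rec (fun _ => ℕ) cb2170 cb2171 (Nat.ble (nat_lit 2171) i)) (Nat.ble (nat_lit 2170) i)) (@Bool.rec (fun _ => ℕ) (@Bool.rec (fun _ => ℕ) cb2172 cb2173 (Nat.ble (nat_lit 2173) i)) (@Bool.rec (fun _ => ℕ) cb2174 cb2175 (Nat.ble (nat_lit 2175) i)) (Nat.ble (nat_lit 2174) i)) (Nat.ble (nat_lit 2172) i)) (Nat.ble (nat_lit 2168) i)) (Nat.ble (nat_lit 2160) i))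

def certBlk_n0_68 (i : ℕ) : ℕ := (@Bool.rec (fun _ => ℕ) (@Bool.rec (fun _ => ℕ) (@Bool.rec (fun _ => ℕ) (@Bool.rec (fun _ => ℕ) (@Bool.rec (fun _ => ℕ) cb2176 cb2177 (Nat.ble (nat_lit 2177) i)) (@Bool.rec (fun _ => ℕ) cb2178 cb2179 (Nat.ble (nat_lit 2179) i)) (Nat.ble (nat_lit 2178) i)) (@Bool.rec (fun _ => ℕ) (@Bool.rec (fun _ => ℕ) cb2180 cb2181 (Nat.ble (nat_lit 2181) i)) (@Bool.rec (fun _ => ℕ) cb2182 cb2183 (Nat.ble (nat_lit 2183) i)) (Nat.ble (nat_lit 2182) i)) (Nat.ble (nat_lit 2180) i)) (@Bool.rec (fun _ => ℕ) (@Bool.rec (fun _ => ℕ) (@Bool.rec (fun _ => ℕ) cb2184 cb2185 (Nat.ble (nat_lit 2185) i)) (@Bool.rec (fun _ => ℕ) cb2186 cb2187 (Nat.ble (nat_lit 2187) i)) (Nat.ble (nat_lit 2186) i)) (@Bool.rec (fun _ => ℕ) (@Bool.rec (fun _ => ℕ) cb2188 cb2189 (Nat.ble (nat_lit 2189) i)) (@Bool.rec (fun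 _ => ℕ) cb2190 cb2191 (Nat.ble (nat_lit 2191) i)) (Nat.ble (nat_lit 2190) i)) (Nat.ble (nat_lit 2188) i)) (Nat.ble (nat_lit 2184) i)) (@Bool.rec (fun _ => ℕ) (@Bool.rec (fun _ => ℕ) (@Bool.rec (fun _ => ℕ) (@Bool.rec (fun _ => ℕ) cb2192 cb2193 (Nat.ble (nat_lit 2193) i)) (@Bool.rec (fun _ => ℕ) cb2194 cb2195 (Nat.ble (nat_lit 2195) i)) (Nat.ble (nat_lit 2194) i)) (@Bool.rec (fun _ => ℕ) (@Bool.rec (fun _ => ℕ) cb2196 cb2197 (Nat.ble (nat_lit 2197) i)) (@Bool.rec (fun _ => ℕ) cb2198 cb2199 (Nat.ble (nat_lit 2199) i)) (Nat.ble (nat_lit 2198) i)) (Nat.ble (nat_lit 2196) i)) (@Bool.rec (fun _ => ℕ) (@Bool.rec (fun _ => ℕ) (@Bool.rec (fun _ => ℕ) cb2200 cb2201 (Nat.ble (nat_lit 2201) i)) (@Bool.rec (fun _ => ℕ) cb2202 cb2203 (Nat.ble (nat_lit 2203) i)) (Nat.ble (nat_lit 2202) i)) (@Bool.rec (fun _ => ℕ) (@Bool.rec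 (fun _ => ℕ) cb2204 cb2205 (Nat.ble (nat_lit 2205) i)) (@Bool.rec (fun _ => ℕ) cb2206 cb2207 (Nat.ble (nat_lit 2207) i)) (Nat.ble (nat_lit 2206) i)) (Nat.ble (nat_lit 2204) i)) (Nat.ble (nat_lit 2200) i)) (Nat.ble (nat_lit 2192) i))

def certBlk_n0_69 (i : ℕ) : ℕ := (@Bool.rec (fun _ => ℕ) (@Bool.rec (fun _ => ℕ) (@Bool.rec (fun _ => ℕ) (@Bool.rec (fun _ => ℕ) (@Bool.rec (fun _ => ℕ) cb2208 cb2209 (Nat.ble (nat_lit 2209) i)) (@Bool.rec (fun _ => ℕ) cb2210 cb2211 (Nat.ble (nat_lit 2211) i)) (Nat.ble (nat_lit 2210) i)) (@Bool.rec (fun _ => ℕ) (@Bool.rec (fun _ => ℕ) cb2212 cb2213 (Nat.ble (nat_lit 2213) i)) (@Bool.rec (fun _ => ℕ) cb2214 cb2215 (Nat.ble (nat_lit 2215) i)) (Nat.ble (nat_lit 2214) i)) (Nat.ble (nat_lit 2212) i)) (@Bool.rec (fun _ => ℕ) (@Bool.rec (fun _ => ℕ) (@Bool.rec (fun _ => ℕ) cb2216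 cb2217 (Nat.ble (nat_lit 2217) i)) (@Bool.rec (fun _ => ℕ) cb2218 cb2219 (Nat.ble (nat_lit 2219) i)) (Nat.ble (nat_lit 2218) i)) (@Bool.rec (fun _ => ℕ) (@Bool.rec (fun _ => ℕ) cb2220 cb2221 (Nat.ble (nat_lit 2221) i)) (@Bool.rec (fun _ => ℕ) cb2222 cb2223 (Nat.ble (nat_lit 2223) i)) (Nat.ble (nat_lit 2222) i)) (Nat.ble (nat_lit 2220) i)) (Nat.ble (nat_lit 2216) i)) (@Bool.rec (fun _ => ℕ) (@Bool.rec (fun _ => ℕ) (@Bool.rec (fun _ => ℕ) (@Bool.rec (fun _ => ℕ) cb2224 cb2225 (Nat.ble (nat_lit 2225) i)) (@Bool.rec (fun _ => ℕ) cb2226 cb2227 (Nat.ble (nat_lit 2227) i)) (Nat.ble (nat_lit 2226) i)) (@Bool.rec (fun _ => ℕ) (@Bool.rec (fun _ => ℕ) cb2228 cb2229 (Nat.ble (nat_lit 2229) i)) (@Bool.rec (fun _ => ℕ) cb2230 cb2231 (Nat.ble (nat_lit 2231) i)) (Nat.ble (nat_lit 2230) i)) (Nat.ble (nat_lit 2228) i))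 (@Bool.rec (fun _ => ℕ) (@Bool.rec (fun _ => ℕ) (@Bool.rec (fun _ => ℕ) cb2232 cb2233 (Nat.ble (nat_lit 2233) i)) (@Bool.rec (fun _ => ℕ) cb2234 cb2235 (Nat.ble (nat_lit 2235) i)) (Nat.ble (nat_lit 2234) i)) (@Bool.rec (fun _ => ℕ) (@Bool.rec (fun _ => ℕ) cb2236 cb2237 (Nat.ble (nat_lit 2237) i)) (@Bool.rec (fun _ => ℕ) cb2238 cb2239 (Nat.ble (nat_lit 2239) i)) (Nat.ble (nat_lit 2238) i)) (Nat.ble (nat_lit 2236) i)) (Nat.ble (nat_lit 2232) i)) (Nat.ble (nat_lit 2224) i))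

def certBlk_n0_70 (i : ℕ) : ℕ := (@Bool.rec (fun _ => ℕ) (@Bool.rec (fun _ => ℕ) (@Bool.rec (fun _ => ℕ) (@Bool.rec (fun _ => ℕ) (@Bool.rec (fun _ => ℕ) cb2240 cb2241 (Nat.ble (nat_lit 2241) i)) (@Bool.rec (fun _ => ℕ) cb2242 cb2243 (Nat.ble (nat_lit 2243) i)) (Nat.ble (nat_lit 2242) i)) (@Bool.rec (fun _ => ℕ) (@Bool.rec (fun _ => ℕ) cb2244 cb2245 (Nat.ble (nat_lit 2245) i)) (@Bool.rec (fun _ => ℕ) cb2246 cb2247 (Nat.ble (nat_lit 2247) i)) (Nat.ble (nat_lit 2246) i)) (Nat.ble (nat_lit 2244) i)) (@Bool.rec (fun _ => ℕ) (@Bool.rec (fun _ => ℕ) (@Bool.rec (fun _ => ℕ) cb2248 cb2249 (Nat.ble (nat_lit 2249) i)) (@Bool.rec (fun _ => ℕ) cb2250 cb2251 (Nat.ble (nat_lit 2251) i)) (Nat.ble (nat_lit 2250) i)) (@Bool.rec (fun _ => ℕ) (@Bool.rec (fun _ => ℕ) cb2252 cb2253 (Nat.ble (nat_lit 2253) i)) (@Bool.rec (fun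 _ => ℕ) cb2254 cb2255 (Nat.ble (nat_lit 2255) i)) (Nat.ble (nat_lit 2254) i)) (Nat.ble (nat_lit 2252) i)) (Nat.ble (nat_lit 2248) i)) (@Bool.rec (fun _ => ℕ) (@Bool.rec (fun _ => ℕ) (@Bool.rec (fun _ => ℕ) (@Bool.rec (fun _ => ℕ) cb2256 cb2257 (Nat.ble (nat_lit 2257) i)) (@Bool.rec (fun _ => ℕ) cb2258 cb2259 (Nat.ble (nat_lit 2259) i)) (Nat.ble (nat_lit 2258) i)) (@Bool.rec (fun _ => ℕ) (@Bool.rec (fun _ => ℕ) cb2260 cb2261 (Nat.ble (nat_lit 2261) i)) (@Bool.rec (fun _ => ℕ) cb2262 cb2263 (Nat.ble (nat_lit 2263) i)) (Nat.ble (nat_lit 2262) i)) (Nat.ble (nat_lit 2260) i)) (@Bool.rec (fun _ => ℕ) (@Bool.rec (fun _ => ℕ) (@Bool.rec (fun _ => ℕ) cb2264 cb2265 (Nat.ble (nat_lit 2265) i)) (@Bool.rec (fun _ => ℕ) cb2266 cb2267 (Nat.ble (nat_lit 2267) i)) (Nat.ble (nat_lit 2266) i)) (@Bool.rec (fun _ => ℕ) (@Bool.rec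 (fun _ => ℕ) cb2268 cb2269 (Nat.ble (nat_lit 2269) i)) (@Bool.rec (fun _ => ℕ) cb2270 cb2271 (Nat.ble (nat_lit 2271) i)) (Nat.ble (nat_lit 2270) i)) (Nat.ble (nat_lit 2268) i)) (Nat.ble (nat_lit 2264) i)) (Nat.ble (nat_lit 2256) i))

def certBlk_n0_71 (i : ℕ) : ℕ := (@Bool.rec (fun _ => ℕ) (@Bool.rec (fun _ => ℕ) (@Bool.rec (fun _ => ℕ) (@Bool.rec (fun _ => ℕ) (@Bool.rec (fun _ => ℕ) cb2272 cb2273 (Nat.ble (nat_lit 2273) i)) (@Bool.rec (fun _ => ℕ) cb2274 cb2275 (Nat.ble (nat_lit 2275) i)) (Nat.ble (nat_lit 2274) i)) (@Bool.rec (fun _ => ℕ) (@Bool.rec (fun _ => ℕ) cb2276 cb2277 (Nat.ble (nat_lit 2277) i)) (@Bool.rec (fun _ => ℕ) cb2278 cb2279 (Nat.ble (nat_lit 2279) i)) (Nat.ble (nat_lit 2278) i)) (Nat.ble (nat_lit 2276) i)) (@Bool.rec (fun _ => ℕ) (@Bool.rec (fun _ => ℕ) (@Bool.rec (fun _ => ℕ) cb2280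 cb2281 (Nat.ble (nat_lit 2281) i)) (@Bool.rec (fun _ => ℕ) cb2282 cb2283 (Nat.ble (nat_lit 2283) i)) (Nat.ble (nat_lit 2282) i)) (@Bool.rec (fun _ => ℕ) (@Bool.rec (fun _ => ℕ) cb2284 cb2285 (Nat.ble (nat_lit 2285) i)) (@Bool.rec (fun _ => ℕ) cb2286 cb2287 (Nat.ble (nat_lit 2287) i)) (Nat.ble (nat_lit 2286) i)) (Nat.ble (nat_lit 2284) i)) (Nat.ble (nat_lit 2280) i)) (@Bool.rec (fun _ => ℕ) (@Bool.rec (fun _ => ℕ) (@Bool.rec (fun _ => ℕ) (@Bool.rec (fun _ => ℕ) cb2288 cb2289 (Nat.ble (nat_lit 2289) i)) (@Bool.rec (fun _ => ℕ) cb2290 cb2291 (Nat.ble (nat_lit 2291) i)) (Nat.ble (nat_lit 2290) i)) (@Bool.rec (fun _ => ℕ) (@Bool.rec (fun _ => ℕ) cb2292 cb2293 (Nat.ble (nat_lit 2293) i)) (@Bool.rec (fun _ => ℕ) cb2294 cb2295 (Nat.ble (nat_lit 2295) i)) (Nat.ble (nat_lit 2294) i)) (Nat.ble (nat_lit 2292) i))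 (@Bool.rec (fun _ => ℕ) (@Bool.rec (fun _ => ℕ) (@Bool.rec (fun _ => ℕ) cb2296 cb2297 (Nat.ble (nat_lit 2297) i)) (@Bool.rec (fun _ => ℕ) cb2298 cb2299 (Nat.ble (nat_lit 2299) i)) (Nat.ble (nat_lit 2298) i)) (@Bool.rec (fun _ => ℕ) (@Bool.rec (fun _ => ℕ) cb2300 cb2301 (Nat.ble (nat_lit 2301) i)) (@Bool.rec (fun _ => ℕ) cb2302 cb2303 (Nat.ble (nat_lit 2303) i)) (Nat.ble (nat_lit 2302) i)) (Nat.ble (nat_lit 2300) i)) (Nat.ble (nat_lit 2296) i)) (Nat.ble (nat_lit 2288) i))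

def certBlk_n0_72 (i : ℕ) : ℕ := (@Bool.rec (fun _ => ℕ) (@Bool.rec (fun _ => ℕ) (@Bool.rec (fun _ => ℕ) (@Bool.rec (fun _ => ℕ) (@Bool.rec (fun _ => ℕ) cb2304 cb2305 (Nat.ble (nat_lit 2305) i)) (@Bool.rec (fun _ => ℕ) cb2306 cb2307 (Nat.ble (nat_lit 2307) i)) (Nat.ble (nat_lit 2306) i)) (@Bool.rec (fun _ => ℕ) (@Bool.rec (fun _ => ℕ) cb2308 cb2309 (Nat.ble (nat_lit 2309) i)) (@Bool.rec (fun _ => ℕ) cb2310 cb2311 (Nat.ble (nat_lit 2311) i)) (Nat.ble (nat_lit 2310) i)) (Nat.ble (nat_lit 2308) i)) (@Bool.rec (fun _ => ℕ) (@Bool.rec (fun _ => ℕ) (@Bool.rec (fun _ => ℕ) cb2312 cb2313 (Nat.ble (nat_lit 2313) i)) (@Bool.rec (fun _ => ℕ) cb2314 cb2315 (Nat.ble (nat_lit 2315) i)) (Nat.ble (nat_lit 2314) i)) (@Bool.rec (fun _ => ℕ) (@Bool.rec (fun _ => ℕ) cb2316 cb2317 (Nat.ble (nat_lit 2317) i)) (@Bool.rec (fun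 _ => ℕ) cb2318 cb2319 (Nat.ble (nat_lit 2319) i)) (Nat.ble (nat_lit 2318) i)) (Nat.ble (nat_lit 2316) i)) (Nat.ble (nat_lit 2312) i)) (@Bool.rec (fun _ => ℕ) (@Bool.rec (fun _ => ℕ) (@Bool.rec (fun _ => ℕ) (@Bool.rec (fun _ => ℕ) cb2320 cb2321 (Nat.ble (nat_lit 2321) i)) (@Bool.rec (fun _ => ℕ) cb2322 cb2323 (Nat.ble (nat_lit 2323) i)) (Nat.ble (nat_lit 2322) i)) (@Bool.rec (fun _ => ℕ) (@Bool.rec (fun _ => ℕ) cb2324 cb2325 (Nat.ble (nat_lit 2325) i)) (@Bool.rec (fun _ => ℕ) cb2326 cb2327 (Nat.ble (nat_lit 2327) i)) (Nat.ble (nat_lit 2326) i)) (Nat.ble (nat_lit 2324) i)) (@Bool.rec (fun _ => ℕ) (@Bool.rec (fun _ => ℕ) (@Bool.rec (fun _ => ℕ) cb2328 cb2329 (Nat.ble (nat_lit 2329) i)) (@Bool.rec (fun _ => ℕ) cb2330 cb2331 (Nat.ble (nat_lit 2331) i)) (Nat.ble (nat_lit 2330) i)) (@Bool.rec (fun _ => ℕ) (@Bool.rec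 (fun _ => ℕ) cb2332 cb2333 (Nat.ble (nat_lit 2333) i)) (@Bool.rec (fun _ => ℕ) cb2334 cb2335 (Nat.ble (nat_lit 2335) i)) (Nat.ble (nat_lit 2334) i)) (Nat.ble (nat_lit 2332) i)) (Nat.ble (nat_lit 2328) i)) (Nat.ble (nat_lit 2320) i))

def certBlk_n0_73 (i : ℕ) : ℕ := (@Bool.rec (fun _ => ℕ) (@Bool.rec (fun _ => ℕ) (@Bool.rec (fun _ => ℕ) (@Bool.rec (fun _ => ℕ) (@Bool.rec (fun _ => ℕ) cb2336 cb2337 (Nat.ble (nat_lit 2337) i)) (@Bool.rec (fun _ => ℕ) cb2338 cb2339 (Nat.ble (nat_lit 2339) i)) (Nat.ble (nat_lit 2338) i)) (@Bool.rec (fun _ => ℕ) (@Bool.rec (fun _ => ℕ) cb2340 cb2341 (Nat.ble (nat_lit 2341) i)) (@Bool.rec (fun _ => ℕ) cb2342 cb2343 (Nat.ble (nat_lit 2343) i)) (Nat.ble (nat_lit 2342) i)) (Nat.ble (nat_lit 2340) i)) (@Bool.rec (fun _ => ℕ) (@Bool.rec (fun _ => ℕ) (@Bool.rec (fun _ => ℕ) cb2344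 cb2345 (Nat.ble (nat_lit 2345) i)) (@Bool.rec (fun _ => ℕ) cb2346 cb2347 (Nat.ble (nat_lit 2347) i)) (Nat.ble (nat_lit 2346) i)) (@Bool.rec (fun _ => ℕ) (@Bool.rec (fun _ => ℕ) cb2348 cb2349 (Nat.ble (nat_lit 2349) i)) (@Bool.rec (fun _ => ℕ) cb2350 cb2351 (Nat.ble (nat_lit 2351) i)) (Nat.ble (nat_lit 2350) i)) (Nat.ble (nat_lit 2348) i)) (Nat.ble (nat_lit 2344) i)) (@Bool.rec (fun _ => ℕ) (@Bool.rec (fun _ => ℕ) (@Bool.rec (fun _ => ℕ) (@Bool.rec (fun _ => ℕ) cb2352 cb2353 (Nat.ble (nat_lit 2353) i)) (@Bool.rec (fun _ => ℕ) cb2354 cb2355 (Nat.ble (nat_lit 2355) i)) (Nat.ble (nat_lit 2354) i)) (@Bool.rec (fun _ => ℕ) (@Bool.rec (fun _ => ℕ) cb2356 cb2357 (Nat.ble (nat_lit 2357) i)) (@Bool.rec (fun _ => ℕ) cb2358 cb2359 (Nat.ble (nat_lit 2359) i)) (Nat.ble (nat_lit 2358) i)) (Nat.ble (nat_lit 2356) i))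 (@Bool.rec (fun _ => ℕ) (@Bool.rec (fun _ => ℕ) (@Bool.rec (fun _ => ℕ) cb2360 cb2361 (Nat.ble (nat_lit 2361) i)) (@Bool.rec (fun _ => ℕ) cb2362 cb2363 (Nat.ble (nat_lit 2363) i)) (Nat.ble (nat_lit 2362) i)) (@Bool.rec (fun _ => ℕ) (@Bool.rec (fun _ => ℕ) cb2364 cb2365 (Nat.ble (nat_lit 2365) i)) (@Bool.rec (fun _ => ℕ) cb2366 cb2367 (Nat.ble (nat_lit 2367) i)) (Nat.ble (nat_lit 2366) i)) (Nat.ble (nat_lit 2364) i)) (Nat.ble (nat_lit 2360) i)) (Nat.ble (nat_lit 2352) i))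

def certBlk_n0_74 (i : ℕ) : ℕ := (@Bool.rec (fun _ => ℕ) (@Bool.rec (fun _ => ℕ) (@Bool.rec (fun _ => ℕ) (@Bool.rec (fun _ => ℕ) (@Bool.rec (fun _ => ℕ) cb2368 cb2369 (Nat.ble (nat_lit 2369) i)) (@Bool.rec (fun _ => ℕ) cb2370 cb2371 (Nat.ble (nat_lit 2371) i)) (Nat.ble (nat_lit 2370) i)) (@Bool.rec (fun _ => ℕ) (@Bool.rec (fun _ => ℕ) cb2372 cb2373 (Nat.ble (nat_lit 2373) i)) (@Bool.rec (fun _ => ℕ) cb2374 cb2375 (Nat.ble (nat_lit 2375) i)) (Nat.ble (nat_lit 2374) i)) (Nat.ble (nat_lit 2372) i)) (@Bool.rec (fun _ => ℕ) (@Bool.rec (fun _ => ℕ) (@Bool.rec (fun _ => ℕ) cb2376 cb2377 (Nat.ble (nat_lit 2377) i)) (@Bool.rec (fun _ => ℕ) cb2378 cb2379 (Nat.ble (nat_lit 2379) i)) (Nat.ble (nat_lit 2378) i)) (@Bool.rec (fun _ => ℕ) (@Bool.rec (fun _ => ℕ) cb2380 cb2381 (Nat.ble (nat_lit 2381) i)) (@Bool.rec (fun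 _ => ℕ) cb2382 cb2383 (Nat.ble (nat_lit 2383) i)) (Nat.ble (nat_lit 2382) i)) (Nat.ble (nat_lit 2380) i)) (Nat.ble (nat_lit 2376) i)) (@Bool.rec (fun _ => ℕ) (@Bool.rec (fun _ => ℕ) (@Bool.rec (fun _ => ℕ) (@Bool.rec (fun _ => ℕ) cb2384 cb2385 (Nat.ble (nat_lit 2385) i)) (@Bool.rec (fun _ => ℕ) cb2386 cb2387 (Nat.ble (nat_lit 2387) i)) (Nat.ble (nat_lit 2386) i)) (@Bool.rec (fun _ => ℕ) (@Bool.rec (fun _ => ℕ) cb2388 cb2389 (Nat.ble (nat_lit 2389) i)) (@Bool.rec (fun _ => ℕ) cb2390 cb2391 (Nat.ble (nat_lit 2391) i)) (Nat.ble (nat_lit 2390) i)) (Nat.ble (nat_lit 2388) i)) (@Bool.rec (fun _ => ℕ) (@Bool.rec (fun _ => ℕ) (@Bool.rec (fun _ => ℕ) cb2392 cb2393 (Nat.ble (nat_lit 2393) i)) (@Bool.rec (fun _ => ℕ) cb2394 cb2395 (Nat.ble (nat_lit 2395) i)) (Nat.ble (nat_lit 2394) i)) (@Bool.rec (fun _ => ℕ) (@Bool.rec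 (fun _ => ℕ) cb2396 cb2397 (Nat.ble (nat_lit 2397) i)) (@Bool.rec (fun _ => ℕ) cb2398 cb2399 (Nat.ble (nat_lit 2399) i)) (Nat.ble (nat_lit 2398) i)) (Nat.ble (nat_lit 2396) i)) (Nat.ble (nat_lit 2392) i)) (Nat.ble (nat_lit 2384) i))

def certBlk_n0_75 (i : ℕ) : ℕ := (@Bool.rec (fun _ => ℕ) (@Bool.rec (fun _ => ℕ) (@Bool.rec (fun _ => ℕ) (@Bool.rec (fun _ => ℕ) (@Bool.rec (fun _ => ℕ) cb2400 cb2401 (Nat.ble (nat_lit 2401) i)) (@Bool.rec (fun _ => ℕ) cb2402 cb2403 (Nat.ble (nat_lit 2403) i)) (Nat.ble (nat_lit 2402) i)) (@Bool.rec (fun _ => ℕ) (@Bool.rec (fun _ => ℕ) cb2404 cb2405 (Nat.ble (nat_lit 2405) i)) (@Bool.rec (fun _ => ℕ) cb2406 cb2407 (Nat.ble (nat_lit 2407) i)) (Nat.ble (nat_lit 2406) i)) (Nat.ble (nat_lit 2404) i)) (@Bool.rec (fun _ => ℕ) (@Bool.rec (fun _ => ℕ) (@Bool.rec (fun _ => ℕ) cb2408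 cb2409 (Nat.ble (nat_lit 2409) i)) (@Bool.rec (fun _ => ℕ) cb2410 cb2411 (Nat.ble (nat_lit 2411) i)) (Nat.ble (nat_lit 2410) i)) (@Bool.rec (fun _ => ℕ) (@Bool.rec (fun _ => ℕ) cb2412 cb2413 (Nat.ble (nat_lit 2413) i)) (@Bool.rec (fun _ => ℕ) cb2414 cb2415 (Nat.ble (nat_lit 2415) i)) (Nat.ble (nat_lit 2414) i)) (Nat.ble (nat_lit 2412) i)) (Nat.ble (nat_lit 2408) i)) (@Bool.rec (fun _ => ℕ) (@Bool.rec (fun _ => ℕ) (@Bool.rec (fun _ => ℕ) (@Bool.rec (fun _ => ℕ) cb2416 cb2417 (Nat.ble (nat_lit 2417) i)) (@Bool.rec (fun _ => ℕ) cb2418 cb2419 (Nat.ble (nat_lit 2419) i)) (Nat.ble (nat_lit 2418) i)) (@Bool.rec (fun _ => ℕ) (@Bool.rec (fun _ => ℕ) cb2420 cb2421 (Nat.ble (nat_lit 2421) i)) (@Bool.rec (fun _ => ℕ) cb2422 cb2423 (Nat.ble (nat_lit 2423) i)) (Nat.ble (nat_lit 2422) i)) (Nat.ble (nat_lit 2420) i))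 (@Bool.rec (fun _ => ℕ) (@Bool.rec (fun _ => ℕ) (@Bool.rec (fun _ => ℕ) cb2424 cb2425 (Nat.ble (nat_lit 2425) i)) (@Bool.rec (fun _ => ℕ) cb2426 cb2427 (Nat.ble (nat_lit 2427) i)) (Nat.ble (nat_lit 2426) i)) (@Bool.rec (fun _ => ℕ) (@Bool.rec (fun _ => ℕ) cb2428 cb2429 (Nat.ble (nat_lit 2429) i)) (@Bool.rec (fun _ => ℕ) cb2430 cb2431 (Nat.ble (nat_lit 2431) i)) (Nat.ble (nat_lit 2430) i)) (Nat.ble (nat_lit 2428) i)) (Nat.ble (nat_lit 2424) i)) (Nat.ble (nat_lit 2416) i))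

def certBlk_n0_76 (i : ℕ) : ℕ := (@Bool.rec (fun _ => ℕ) (@Bool.rec (fun _ => ℕ) (@Bool.rec (fun _ => ℕ) (@Bool.rec (fun _ => ℕ) (@Bool.rec (fun _ => ℕ) cb2432 cb2433 (Nat.ble (nat_lit 2433) i)) (@Bool.rec (fun _ => ℕ) cb2434 cb2435 (Nat.ble (nat_lit 2435) i)) (Nat.ble (nat_lit 2434) i)) (@Bool.rec (fun _ => ℕ) (@Bool.rec (fun _ => ℕ) cb2436 cb2437 (Nat.ble (nat_lit 2437) i)) (@Bool.rec (fun _ => ℕ) cb2438 cb2439 (Nat.ble (nat_lit 2439) i)) (Nat.ble (nat_lit 2438) i)) (Nat.ble (nat_lit 2436) i)) (@Bool.rec (fun _ => ℕ) (@Bool.rec (fun _ => ℕ) (@Bool.rec (fun _ => ℕ) cb2440 cb2441 (Nat.ble (nat_lit 2441) i)) (@Bool.rec (fun _ => ℕ) cb2442 cb2443 (Nat.ble (nat_lit 2443) i)) (Nat.ble (nat_lit 2442) i)) (@Bool.rec (fun _ => ℕ) (@Bool.rec (fun _ => ℕ) cb2444 cb2445 (Nat.ble (nat_lit 2445) i)) (@Bool.rec (fun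 _ => ℕ) cb2446 cb2447 (Nat.ble (nat_lit 2447) i)) (Nat.ble (nat_lit 2446) i)) (Nat.ble (nat_lit 2444) i)) (Nat.ble (nat_lit 2440) i)) (@Bool.rec (fun _ => ℕ) (@Bool.rec (fun _ => ℕ) (@Bool.rec (fun _ => ℕ) (@Bool.rec (fun _ => ℕ) cb2448 cb2449 (Nat.ble (nat_lit 2449) i)) (@Bool.rec (fun _ => ℕ) cb2450 cb2451 (Nat.ble (nat_lit 2451) i)) (Nat.ble (nat_lit 2450) i)) (@Bool.rec (fun _ => ℕ) (@Bool.rec (fun _ => ℕ) cb2452 cb2453 (Nat.ble (nat_lit 2453) i)) (@Bool.rec (fun _ => ℕ) cb2454 cb2455 (Nat.ble (nat_lit 2455) i)) (Nat.ble (nat_lit 2454) i)) (Nat.ble (nat_lit 2452) i)) (@Bool.rec (fun _ => ℕ) (@Bool.rec (fun _ => ℕ) (@Bool.rec (fun _ => ℕ) cb2456 cb2457 (Nat.ble (nat_lit 2457) i)) (@Bool.rec (fun _ => ℕ) cb2458 cb2459 (Nat.ble (nat_lit 2459) i)) (Nat.ble (nat_lit 2458) i)) (@Bool.rec (fun _ => ℕ) (@Bool.rec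 (fun _ => ℕ) cb2460 cb2461 (Nat.ble (nat_lit 2461) i)) (@Bool.rec (fun _ => ℕ) cb2462 cb2463 (Nat.ble (nat_lit 2463) i)) (Nat.ble (nat_lit 2462) i)) (Nat.ble (nat_lit 2460) i)) (Nat.ble (nat_lit 2456) i)) (Nat.ble (nat_lit 2448) i))

def certBlk_n0_77 (i : ℕ) : ℕ := (@Bool.rec (fun _ => ℕ) (@Bool.rec (fun _ => ℕ) (@Bool.rec (fun _ => ℕ) (@Bool.rec (fun _ => ℕ) (@Bool.rec (fun _ => ℕ) cb2464 cb2465 (Nat.ble (nat_lit 2465) i)) (@Bool.rec (fun _ => ℕ) cb2466 cb2467 (Nat.ble (nat_lit 2467) i)) (Nat.ble (nat_lit 2466) i)) (@Bool.rec (fun _ => ℕ) (@Bool.rec (fun _ => ℕ) cb2468 cb2469 (Nat.ble (nat_lit 2469) i)) (@Bool.rec (fun _ => ℕ) cb2470 cb2471 (Nat.ble (nat_lit 2471) i)) (Nat.ble (nat_lit 2470) i)) (Nat.ble (nat_lit 2468) i)) (@Bool.rec (fun _ => ℕ) (@Bool.rec (fun _ => ℕ) (@Bool.rec (fun _ => ℕ) cb2472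 cb2473 (Nat.ble (nat_lit 2473) i)) (@Bool.rec (fun _ => ℕ) cb2474 cb2475 (Nat.ble (nat_lit 2475) i)) (Nat.ble (nat_lit 2474) i)) (@Bool.rec (fun _ => ℕ) (@Bool.rec (fun _ => ℕ) cb2476 cb2477 (Nat.ble (nat_lit 2477) i)) (@Bool.rec (fun _ => ℕ) cb2478 cb2479 (Nat.ble (nat_lit 2479) i)) (Nat.ble (nat_lit 2478) i)) (Nat.ble (nat_lit 2476) i)) (Nat.ble (nat_lit 2472) i)) (@Bool.rec (fun _ => ℕ) (@Bool.rec (fun _ => ℕ) (@Bool.rec (fun _ => ℕ) (@Bool.rec (fun _ => ℕ) cb2480 cb2481 (Nat.ble (nat_lit 2481) i)) (@Bool.rec (fun _ => ℕ) cb2482 cb2483 (Nat.ble (nat_lit 2483) i)) (Nat.ble (nat_lit 2482) i)) (@Bool.rec (fun _ => ℕ) (@Bool.rec (fun _ => ℕ) cb2484 cb2485 (Nat.ble (nat_lit 2485) i)) (@Bool.rec (fun _ => ℕ) cb2486 cb2487 (Nat.ble (nat_lit 2487) i)) (Nat.ble (nat_lit 2486) i)) (Nat.ble (nat_lit 2484) i))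 (@Bool.rec (fun _ => ℕ) (@Bool.rec (fun _ => ℕ) (@Bool.rec (fun _ => ℕ) cb2488 cb2489 (Nat.ble (nat_lit 2489) i)) (@Bool.rec (fun _ => ℕ) cb2490 cb2491 (Nat.ble (nat_lit 2491) i)) (Nat.ble (nat_lit 2490) i)) (@Bool.rec (fun _ => ℕ) (@Bool.rec (fun _ => ℕ) cb2492 cb2493 (Nat.ble (nat_lit 2493) i)) (@Bool.rec (fun _ => ℕ) cb2494 cb2495 (Nat.ble (nat_lit 2495) i)) (Nat.ble (nat_lit 2494) i)) (Nat.ble (nat_lit 2492) i)) (Nat.ble (nat_lit 2488) i)) (Nat.ble (nat_lit 2480) i))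

def certBlk_n0_78 (i : ℕ) : ℕ := (@Bool.rec (fun _ => ℕ) (@Bool.rec (fun _ => ℕ) (@Bool.rec (fun _ => ℕ) (@Bool.rec (fun _ => ℕ) (@Bool.rec (fun _ => ℕ) cb2496 cb2497 (Nat.ble (nat_lit 2497) i)) (@Bool.rec (fun _ => ℕ) cb2498 cb2499 (Nat.ble (nat_lit 2499) i)) (Nat.ble (nat_lit 2498) i)) (@Bool.rec (fun _ => ℕ) (@Bool.rec (fun _ => ℕ) cb2500 cb2501 (Nat.ble (nat_lit 2501) i)) (@Bool.rec (fun _ => ℕ) cb2502 cb2503 (Nat.ble (nat_lit 2503) i)) (Nat.ble (nat_lit 2502) i)) (Nat.ble (nat_lit 2500) i)) (@Bool.rec (fun _ => ℕ) (@Bool.rec (fun _ => ℕ) (@Bool.rec (fun _ => ℕ) cb2504 cb2505 (Nat.ble (nat_lit 2505) i)) (@Bool.rec (fun _ => ℕ) cb2506 cb2507 (Nat.ble (nat_lit 2507) i)) (Nat.ble (nat_lit 2506) i)) (@Bool.rec (fun _ => ℕ) (@Bool.rec (fun _ => ℕ) cb2508 cb2509 (Nat.ble (nat_lit 2509) i)) (@Bool.rec (fun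 _ => ℕ) cb2510 cb2511 (Nat.ble (nat_lit 2511) i)) (Nat.ble (nat_lit 2510) i)) (Nat.ble (nat_lit 2508) i)) (Nat.ble (nat_lit 2504) i)) (@Bool.rec (fun _ => ℕ) (@Bool.rec (fun _ => ℕ) (@Bool.rec (fun _ => ℕ) (@Bool.rec (fun _ => ℕ) cb2512 cb2513 (Nat.ble (nat_lit 2513) i)) (@Bool.rec (fun _ => ℕ) cb2514 cb2515 (Nat.ble (nat_lit 2515) i)) (Nat.ble (nat_lit 2514) i)) (@Bool.rec (fun _ => ℕ) (@Bool.rec (fun _ => ℕ) cb2516 cb2517 (Nat.ble (nat_lit 2517) i)) (@Bool.rec (fun _ => ℕ) cb2518 cb2519 (Nat.ble (nat_lit 2519) i)) (Nat.ble (nat_lit 2518) i)) (Nat.ble (nat_lit 2516) i)) (@Bool.rec (fun _ => ℕ) (@Bool.rec (fun _ => ℕ) (@Bool.rec (fun _ => ℕ) cb2520 cb2521 (Nat.ble (nat_lit 2521) i)) (@Bool.rec (fun _ => ℕ) cb2522 cb2523 (Nat.ble (nat_lit 2523) i)) (Nat.ble (nat_lit 2522) i)) (@Bool.rec (fun _ => ℕ) (@Bool.rec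 (fun _ => ℕ) cb2524 cb2525 (Nat.ble (nat_lit 2525) i)) (@Bool.rec (fun _ => ℕ) cb2526 cb2527 (Nat.ble (nat_lit 2527) i)) (Nat.ble (nat_lit 2526) i)) (Nat.ble (nat_lit 2524) i)) (Nat.ble (nat_lit 2520) i)) (Nat.ble (nat_lit 2512) i))

def certBlk_n0_79 (i : ℕ) : ℕ := (@Bool.rec (fun _ => ℕ) (@Bool.rec (fun _ => ℕ) (@Bool.rec (fun _ => ℕ) (@Bool.rec (fun _ => ℕ) (@Bool.rec (fun _ => ℕ) cb2528 cb2529 (Nat.ble (nat_lit 2529) i)) (@Bool.rec (fun _ => ℕ) cb2530 cb2531 (Nat.ble (nat_lit 2531) i)) (Nat.ble (nat_lit 2530) i)) (@Bool.rec (fun _ => ℕ) (@Bool.rec (fun _ => ℕ) cb2532 cb2533 (Nat.ble (nat_lit 2533) i)) (@Bool.rec (fun _ => ℕ) cb2534 cb2535 (Nat.ble (nat_lit 2535) i)) (Nat.ble (nat_lit 2534) i)) (Nat.ble (nat_lit 2532) i)) (@Bool.rec (fun _ => ℕ) (@Bool.rec (fun _ => ℕ) (@Bool.rec (fun _ => ℕ) cb2536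 cb2537 (Nat.ble (nat_lit 2537) i)) (@Bool.rec (fun _ => ℕ) cb2538 cb2539 (Nat.ble (nat_lit 2539) i)) (Nat.ble (nat_lit 2538) i)) (@Bool.rec (fun _ => ℕ) (@Bool.rec (fun _ => ℕ) cb2540 cb2541 (Nat.ble (nat_lit 2541) i)) (@Bool.rec (fun _ => ℕ) cb2542 cb2543 (Nat.ble (nat_lit 2543) i)) (Nat.ble (nat_lit 2542) i)) (Nat.ble (nat_lit 2540) i)) (Nat.ble (nat_lit 2536) i)) (@Bool.rec (fun _ => ℕ) (@Bool.rec (fun _ => ℕ) (@Bool.rec (fun _ => ℕ) (@Bool.rec (fun _ => ℕ) cb2544 cb2545 (Nat.ble (nat_lit 2545) i)) (@Bool.rec (fun _ => ℕ) cb2546 cb2547 (Nat.ble (nat_lit 2547) i)) (Nat.ble (nat_lit 2546) i)) (@Bool.rec (fun _ => ℕ) (@Bool.rec (fun _ => ℕ) cb2548 cb2549 (Nat.ble (nat_lit 2549) i)) (@Bool.rec (fun _ => ℕ) cb2550 cb2551 (Nat.ble (nat_lit 2551) i)) (Nat.ble (nat_lit 2550) i)) (Nat.ble (nat_lit 2548) i))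 (@Bool.rec (fun _ => ℕ) (@Bool.rec (fun _ => ℕ) (@Bool.rec (fun _ => ℕ) cb2552 cb2553 (Nat.ble (nat_lit 2553) i)) (@Bool.rec (fun _ => ℕ) cb2554 cb2555 (Nat.ble (nat_lit 2555) i)) (Nat.ble (nat_lit 2554) i)) (@Bool.rec (fun _ => ℕ) (@Bool.rec (fun _ => ℕ) cb2556 cb2557 (Nat.ble (nat_lit 2557) i)) (@Bool.rec (fun _ => ℕ) cb2558 cb2559 (Nat.ble (nat_lit 2559) i)) (Nat.ble (nat_lit 2558) i)) (Nat.ble (nat_lit 2556) i)) (Nat.ble (nat_lit 2552) i)) (Nat.ble (nat_lit 2544) i))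

def certBlk_n0_80 (i : ℕ) : ℕ := (@Bool.rec (fun _ => ℕ) (@Bool.rec (fun _ => ℕ) (@Bool.rec (fun _ => ℕ) (@Bool.rec (fun _ => ℕ) (@Bool.rec (fun _ => ℕ) cb2560 cb2561 (Nat.ble (nat_lit 2561) i)) (@Bool.rec (fun _ => ℕ) cb2562 cb2563 (Nat.ble (nat_lit 2563) i)) (Nat.ble (nat_lit 2562) i)) (@Bool.rec (fun _ => ℕ) (@Bool.rec (fun _ => ℕ) cb2564 cb2565 (Nat.ble (nat_lit 2565) i)) (@Bool.rec (fun _ => ℕ) cb2566 cb2567 (Nat.ble (nat_lit 2567) i)) (Nat.ble (nat_lit 2566) i)) (Nat.ble (nat_lit 2564) i)) (@Bool.rec (fun _ => ℕ) (@Bool.rec (fun _ => ℕ) (@Bool.rec (fun _ => ℕ) cb2568 cb2569 (Nat.ble (nat_lit 2569) i)) (@Bool.rec (fun _ => ℕ) cb2570 cb2571 (Nat.ble (nat_lit 2571) i)) (Nat.ble (nat_lit 2570) i)) (@Bool.rec (fun _ => ℕ) (@Bool.rec (fun _ => ℕ) cb2572 cb2573 (Nat.ble (nat_lit 2573) i)) (@Bool.rec (fun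 _ => ℕ) cb2574 cb2575 (Nat.ble (nat_lit 2575) i)) (Nat.ble (nat_lit 2574) i)) (Nat.ble (nat_lit 2572) i)) (Nat.ble (nat_lit 2568) i)) (@Bool.rec (fun _ => ℕ) (@Bool.rec (fun _ => ℕ) (@Bool.rec (fun _ => ℕ) (@Bool.rec (fun _ => ℕ) cb2576 cb2577 (Nat.ble (nat_lit 2577) i)) (@Bool.rec (fun _ => ℕ) cb2578 cb2579 (Nat.ble (nat_lit 2579) i)) (Nat.ble (nat_lit 2578) i)) (@Bool.rec (fun _ => ℕ) (@Bool.rec (fun _ => ℕ) cb2580 cb2581 (Nat.ble (nat_lit 2581) i)) (@Bool.rec (fun _ => ℕ) cb2582 cb2583 (Nat.ble (nat_lit 2583) i)) (Nat.ble (nat_lit 2582) i)) (Nat.ble (nat_lit 2580) i)) (@Bool.rec (fun _ => ℕ) (@Bool.rec (fun _ => ℕ) (@Bool.rec (fun _ => ℕ) cb2584 cb2585 (Nat.ble (nat_lit 2585) i)) (@Bool.rec (fun _ => ℕ) cb2586 cb2587 (Nat.ble (nat_lit 2587) i)) (Nat.ble (nat_lit 2586) i)) (@Bool.rec (fun _ => ℕ) (@Bool.rec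 (fun _ => ℕ) cb2588 cb2589 (Nat.ble (nat_lit 2589) i)) (@Bool.rec (fun _ => ℕ) cb2590 cb2591 (Nat.ble (nat_lit 2591) i)) (Nat.ble (nat_lit 2590) i)) (Nat.ble (nat_lit 2588) i)) (Nat.ble (nat_lit 2584) i)) (Nat.ble (nat_lit 2576) i))

def certBlk_n0_81 (i : ℕ) : ℕ := (@Bool.rec (fun _ => ℕ) (@Bool.rec (fun _ => ℕ) (@Bool.rec (fun _ => ℕ) (@Bool.rec (fun _ => ℕ) (@Bool.rec (fun _ => ℕ) cb2592 cb2593 (Nat.ble (nat_lit 2593) i)) (@Bool.rec (fun _ => ℕ) cb2594 cb2595 (Nat.ble (nat_lit 2595) i)) (Nat.ble (nat_lit 2594) i)) (@Bool.rec (fun _ => ℕ) (@Bool.rec (fun _ => ℕ) cb2596 cb2597 (Nat.ble (nat_lit 2597) i)) (@Bool.rec (fun _ => ℕ) cb2598 cb2599 (Nat.ble (nat_lit 2599) i)) (Nat.ble (nat_lit 2598) i)) (Nat.ble (nat_lit 2596) i)) (@Bool.rec (fun _ => ℕ) (@Bool.rec (fun _ => ℕ) (@Bool.rec (fun _ => ℕ) cb2600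 cb2601 (Nat.ble (nat_lit 2601) i)) (@Bool.rec (fun _ => ℕ) cb2602 cb2603 (Nat.ble (nat_lit 2603) i)) (Nat.ble (nat_lit 2602) i)) (@Bool.rec (fun _ => ℕ) (@Bool.rec (fun _ => ℕ) cb2604 cb2605 (Nat.ble (nat_lit 2605) i)) (@Bool.rec (fun _ => ℕ) cb2606 cb2607 (Nat.ble (nat_lit 2607) i)) (Nat.ble (nat_lit 2606) i)) (Nat.ble (nat_lit 2604) i)) (Nat.ble (nat_lit 2600) i)) (@Bool.rec (fun _ => ℕ) (@Bool.rec (fun _ => ℕ) (@Bool.rec (fun _ => ℕ) (@Bool.rec (fun _ => ℕ) cb2608 cb2609 (Nat.ble (nat_lit 2609) i)) (@Bool.rec (fun _ => ℕ) cb2610 cb2611 (Nat.ble (nat_lit 2611) i)) (Nat.ble (nat_lit 2610) i)) (@Bool.rec (fun _ => ℕ) (@Bool.rec (fun _ => ℕ) cb2612 cb2613 (Nat.ble (nat_lit 2613) i)) (@Bool.rec (fun _ => ℕ) cb2614 cb2615 (Nat.ble (nat_lit 2615) i)) (Nat.ble (nat_lit 2614) i)) (Nat.ble (nat_lit 2612) i))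 (@Bool.rec (fun _ => ℕ) (@Bool.rec (fun _ => ℕ) (@Bool.rec (fun _ => ℕ) cb2616 cb2617 (Nat.ble (nat_lit 2617) i)) (@Bool.rec (fun _ => ℕ) cb2618 cb2619 (Nat.ble (nat_lit 2619) i)) (Nat.ble (nat_lit 2618) i)) (@Bool.rec (fun _ => ℕ) (@Bool.rec (fun _ => ℕ) cb2620 cb2621 (Nat.ble (nat_lit 2621) i)) (@Bool.rec (fun _ => ℕ) cb2622 cb2623 (Nat.ble (nat_lit 2623) i)) (Nat.ble (nat_lit 2622) i)) (Nat.ble (nat_lit 2620) i)) (Nat.ble (nat_lit 2616) i)) (Nat.ble (nat_lit 2608) i))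

def certBlk_n0_82 (i : ℕ) : ℕ := (@Bool.rec (fun _ => ℕ) (@Bool.rec (fun _ => ℕ) (@Bool.rec (fun _ => ℕ) (@Bool.rec (fun _ => ℕ) (@Bool.rec (fun _ => ℕ) cb2624 cb2625 (Nat.ble (nat_lit 2625) i)) (@Bool.rec (fun _ => ℕ) cb2626 cb2627 (Nat.ble (nat_lit 2627) i)) (Nat.ble (nat_lit 2626) i)) (@Bool.rec (fun _ => ℕ) (@Bool.rec (fun _ => ℕ) cb2628 cb2629 (Nat.ble (nat_lit 2629) i)) (@Bool.rec (fun _ => ℕ) cb2630 cb2631 (Nat.ble (nat_lit 2631) i)) (Nat.ble (nat_lit 2630) i)) (Nat.ble (nat_lit 2628) i)) (@Bool.rec (fun _ => ℕ) (@Bool.rec (fun _ => ℕ) (@Bool.rec (fun _ => ℕ) cb2632 cb2633 (Nat.ble (nat_lit 2633) i)) (@Bool.rec (fun _ => ℕ) cb2634 cb2635 (Nat.ble (nat_lit 2635) i)) (Nat.ble (nat_lit 2634) i)) (@Bool.rec (fun _ => ℕ) (@Bool.rec (fun _ => ℕ) cb2636 cb2637 (Nat.ble (nat_lit 2637) i)) (@Bool.rec (fun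 _ => ℕ) cb2638 cb2639 (Nat.ble (nat_lit 2639) i)) (Nat.ble (nat_lit 2638) i)) (Nat.ble (nat_lit 2636) i)) (Nat.ble (nat_lit 2632) i)) (@Bool.rec (fun _ => ℕ) (@Bool.rec (fun _ => ℕ) (@Bool.rec (fun _ => ℕ) (@Bool.rec (fun _ => ℕ) cb2640 cb2641 (Nat.ble (nat_lit 2641) i)) (@Bool.rec (fun _ => ℕ) cb2642 cb2643 (Nat.ble (nat_lit 2643) i)) (Nat.ble (nat_lit 2642) i)) (@Bool.rec (fun _ => ℕ) (@Bool.rec (fun _ => ℕ) cb2644 cb2645 (Nat.ble (nat_lit 2645) i)) (@Bool.rec (fun _ => ℕ) cb2646 cb2647 (Nat.ble (nat_lit 2647) i)) (Nat.ble (nat_lit 2646) i)) (Nat.ble (nat_lit 2644) i)) (@Bool.rec (fun _ => ℕ) (@Bool.rec (fun _ => ℕ) (@Bool.rec (fun _ => ℕ) cb2648 cb2649 (Nat.ble (nat_lit 2649) i)) (@Bool.rec (fun _ => ℕ) cb2650 cb2651 (Nat.ble (nat_lit 2651) i)) (Nat.ble (nat_lit 2650) i)) (@Bool.rec (fun _ => ℕ) (@Bool.rec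 (fun _ => ℕ) cb2652 cb2653 (Nat.ble (nat_lit 2653) i)) (@Bool.rec (fun _ => ℕ) cb2654 cb2655 (Nat.ble (nat_lit 2655) i)) (Nat.ble (nat_lit 2654) i)) (Nat.ble (nat_lit 2652) i)) (Nat.ble (nat_lit 2648) i)) (Nat.ble (nat_lit 2640) i))

def certBlk_n0_83 (i : ℕ) : ℕ := (@Bool.rec (fun _ => ℕ) (@Bool.rec (fun _ => ℕ) (@Bool.rec (fun _ => ℕ) (@Bool.rec (fun _ => ℕ) (@Bool.rec (fun _ => ℕ) cb2656 cb2657 (Nat.ble (nat_lit 2657) i)) (@Bool.rec (fun _ => ℕ) cb2658 cb2659 (Nat.ble (nat_lit 2659) i)) (Nat.ble (nat_lit 2658) i)) (@Bool.rec (fun _ => ℕ) (@Bool.rec (fun _ => ℕ) cb2660 cb2661 (Nat.ble (nat_lit 2661) i)) (@Bool.rec (fun _ => ℕ) cb2662 cb2663 (Nat.ble (nat_lit 2663) i)) (Nat.ble (nat_lit 2662) i)) (Nat.ble (nat_lit 2660) i)) (@Bool.rec (fun _ => ℕ) (@Bool.rec (fun _ => ℕ) (@Bool.rec (fun _ => ℕ) cb2664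 cb2665 (Nat.ble (nat_lit 2665) i)) (@Bool.rec (fun _ => ℕ) cb2666 cb2667 (Nat.ble (nat_lit 2667) i)) (Nat.ble (nat_lit 2666) i)) (@Bool.rec (fun _ => ℕ) (@Bool.rec (fun _ => ℕ) cb2668 cb2669 (Nat.ble (nat_lit 2669) i)) (@Bool.rec (fun _ => ℕ) cb2670 cb2671 (Nat.ble (nat_lit 2671) i)) (Nat.ble (nat_lit 2670) i)) (Nat.ble (nat_lit 2668) i)) (Nat.ble (nat_lit 2664) i)) (@Bool.rec (fun _ => ℕ) (@Bool.rec (fun _ => ℕ) (@Bool.rec (fun _ => ℕ) (@Bool.rec (fun _ => ℕ) cb2672 cb2673 (Nat.ble (nat_lit 2673) i)) (@Bool.rec (fun _ => ℕ) cb2674 cb2675 (Nat.ble (nat_lit 2675) i)) (Nat.ble (nat_lit 2674) i)) (@Bool.rec (fun _ => ℕ) (@Bool.rec (fun _ => ℕ) cb2676 cb2677 (Nat.ble (nat_lit 2677) i)) (@Bool.rec (fun _ => ℕ) cb2678 cb2679 (Nat.ble (nat_lit 2679) i)) (Nat.ble (nat_lit 2678) i)) (Nat.ble (nat_lit 2676) i))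 (@Bool.rec (fun _ => ℕ) (@Bool.rec (fun _ => ℕ) (@Bool.rec (fun _ => ℕ) cb2680 cb2681 (Nat.ble (nat_lit 2681) i)) (@Bool.rec (fun _ => ℕ) cb2682 cb2683 (Nat.ble (nat_lit 2683) i)) (Nat.ble (nat_lit 2682) i)) (@Bool.rec (fun _ => ℕ) (@Bool.rec (fun _ => ℕ) cb2684 cb2685 (Nat.ble (nat_lit 2685) i)) (@Bool.rec (fun _ => ℕ) cb2686 cb2687 (Nat.ble (nat_lit 2687) i)) (Nat.ble (nat_lit 2686) i)) (Nat.ble (nat_lit 2684) i)) (Nat.ble (nat_lit 2680) i)) (Nat.ble (nat_lit 2672) i))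

def certBlk_n0_84 (i : ℕ) : ℕ := (@Bool.rec (fun _ => ℕ) (@Bool.rec (fun _ => ℕ) (@Bool.rec (fun _ => ℕ) (@Bool.rec (fun _ => ℕ) (@Bool.rec (fun _ => ℕ) cb2688 cb2689 (Nat.ble (nat_lit 2689) i)) (@Bool.rec (fun _ => ℕ) cb2690 cb2691 (Nat.ble (nat_lit 2691) i)) (Nat.ble (nat_lit 2690) i)) (@Bool.rec (fun _ => ℕ) (@Bool.rec (fun _ => ℕ) cb2692 cb2693 (Nat.ble (nat_lit 2693) i)) (@Bool.rec (fun _ => ℕ) cb2694 cb2695 (Nat.ble (nat_lit 2695) i)) (Nat.ble (nat_lit 2694) i)) (Nat.ble (nat_lit 2692) i)) (@Bool.rec (fun _ => ℕ) (@Bool.rec (fun _ => ℕ) (@Bool.rec (fun _ => ℕ) cb2696 cb2697 (Nat.ble (nat_lit 2697) i)) (@Bool.rec (fun _ => ℕ) cb2698 cb2699 (Nat.ble (nat_lit 2699) i)) (Nat.ble (nat_lit 2698) i)) (@Bool.rec (fun _ => ℕ) (@Bool.rec (fun _ => ℕ) cb2700 cb2701 (Nat.ble (nat_lit 2701) i)) (@Bool.rec (fun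 _ => ℕ) cb2702 cb2703 (Nat.ble (nat_lit 2703) i)) (Nat.ble (nat_lit 2702) i)) (Nat.ble (nat_lit 2700) i)) (Nat.ble (nat_lit 2696) i)) (@Bool.rec (fun _ => ℕ) (@Bool.rec (fun _ => ℕ) (@Bool.rec (fun _ => ℕ) (@Bool.rec (fun _ => ℕ) cb2704 cb2705 (Nat.ble (nat_lit 2705) i)) (@Bool.rec (fun _ => ℕ) cb2706 cb2707 (Nat.ble (nat_lit 2707) i)) (Nat.ble (nat_lit 2706) i)) (@Bool.rec (fun _ => ℕ) (@Bool.rec (fun _ => ℕ) cb2708 cb2709 (Nat.ble (nat_lit 2709) i)) (@Bool.rec (fun _ => ℕ) cb2710 cb2711 (Nat.ble (nat_lit 2711) i)) (Nat.ble (nat_lit 2710) i)) (Nat.ble (nat_lit 2708) i)) (@Bool.rec (fun _ => ℕ) (@Bool.rec (fun _ => ℕ) (@Bool.rec (fun _ => ℕ) cb2712 cb2713 (Nat.ble (nat_lit 2713) i)) (@Bool.rec (fun _ => ℕ) cb2714 cb2715 (Nat.ble (nat_lit 2715) i)) (Nat.ble (nat_lit 2714) i)) (@Bool.rec (fun _ => ℕ) (@Bool.rec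 (fun _ => ℕ) cb2716 cb2717 (Nat.ble (nat_lit 2717) i)) (@Bool.rec (fun _ => ℕ) cb2718 cb2719 (Nat.ble (nat_lit 2719) i)) (Nat.ble (nat_lit 2718) i)) (Nat.ble (nat_lit 2716) i)) (Nat.ble (nat_lit 2712) i)) (Nat.ble (nat_lit 2704) i))

def certBlk_n0_85 (i : ℕ) : ℕ := (@Bool.rec (fun _ => ℕ) (@Bool.rec (fun _ => ℕ) (@Bool.rec (fun _ => ℕ) (@Bool.rec (fun _ => ℕ) (@Bool.rec (fun _ => ℕ) cb2720 cb2721 (Nat.ble (nat_lit 2721) i)) (@Bool.rec (fun _ => ℕ) cb2722 cb2723 (Nat.ble (nat_lit 2723) i)) (Nat.ble (nat_lit 2722) i)) (@Bool.rec (fun _ => ℕ) (@Bool.rec (fun _ => ℕ) cb2724 cb2725 (Nat.ble (nat_lit 2725) i)) (@Bool.rec (fun _ => ℕ) cb2726 cb2727 (Nat.ble (nat_lit 2727) i)) (Nat.ble (nat_lit 2726) i)) (Nat.ble (nat_lit 2724) i)) (@Bool.rec (fun _ => ℕ) (@Bool.rec (fun _ => ℕ) (@Bool.rec (fun _ => ℕ) cb2728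 cb2729 (Nat.ble (nat_lit 2729) i)) (@Bool.rec (fun _ => ℕ) cb2730 cb2731 (Nat.ble (nat_lit 2731) i)) (Nat.ble (nat_lit 2730) i)) (@Bool.rec (fun _ => ℕ) (@Bool.rec (fun _ => ℕ) cb2732 cb2733 (Nat.ble (nat_lit 2733) i)) (@Bool.rec (fun _ => ℕ) cb2734 cb2735 (Nat.ble (nat_lit 2735) i)) (Nat.ble (nat_lit 2734) i)) (Nat.ble (nat_lit 2732) i)) (Nat.ble (nat_lit 2728) i)) (@Bool.rec (fun _ => ℕ) (@Bool.rec (fun _ => ℕ) (@Bool.rec (fun _ => ℕ) (@Bool.rec (fun _ => ℕ) cb2736 cb2737 (Nat.ble (nat_lit 2737) i)) (@Bool.rec (fun _ => ℕ) cb2738 cb2739 (Nat.ble (nat_lit 2739) i)) (Nat.ble (nat_lit 2738) i)) (@Bool.rec (fun _ => ℕ) (@Bool.rec (fun _ => ℕ) cb2740 cb2741 (Nat.ble (nat_lit 2741) i)) (@Bool.rec (fun _ => ℕ) cb2742 cb2743 (Nat.ble (nat_lit 2743) i)) (Nat.ble (nat_lit 2742) i)) (Nat.ble (nat_lit 2740) i))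 (@Bool.rec (fun _ => ℕ) (@Bool.rec (fun _ => ℕ) (@Bool.rec (fun _ => ℕ) cb2744 cb2745 (Nat.ble (nat_lit 2745) i)) (@Bool.rec (fun _ => ℕ) cb2746 cb2747 (Nat.ble (nat_lit 2747) i)) (Nat.ble (nat_lit 2746) i)) (@Bool.rec (fun _ => ℕ) (@Bool.rec (fun _ => ℕ) cb2748 cb2749 (Nat.ble (nat_lit 2749) i)) (@Bool.rec (fun _ => ℕ) cb2750 cb2751 (Nat.ble (nat_lit 2751) i)) (Nat.ble (nat_lit 2750) i)) (Nat.ble (nat_lit 2748) i)) (Nat.ble (nat_lit 2744) i)) (Nat.ble (nat_lit 2736) i))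

def certBlk_n0_86 (i : ℕ) : ℕ := (@Bool.rec (fun _ => ℕ) (@Bool.rec (fun _ => ℕ) (@Bool.rec (fun _ => ℕ) (@Bool.rec (fun _ => ℕ) (@Bool.rec (fun _ => ℕ) cb2752 cb2753 (Nat.ble (nat_lit 2753) i)) (@Bool.rec (fun _ => ℕ) cb2754 cb2755 (Nat.ble (nat_lit 2755) i)) (Nat.ble (nat_lit 2754) i)) (@Bool.rec (fun _ => ℕ) (@Bool.rec (fun _ => ℕ) cb2756 cb2757 (Nat.ble (nat_lit 2757) i)) (@Bool.rec (fun _ => ℕ) cb2758 cb2759 (Nat.ble (nat_lit 2759) i)) (Nat.ble (nat_lit 2758) i)) (Nat.ble (nat_lit 2756) i)) (@Bool.rec (fun _ => ℕ) (@Bool.rec (fun _ => ℕ) (@Bool.rec (fun _ => ℕ) cb2760 cb2761 (Nat.ble (nat_lit 2761) i)) (@Bool.rec (fun _ => ℕ) cb2762 cb2763 (Nat.ble (nat_lit 2763) i)) (Nat.ble (nat_lit 2762) i)) (@Bool.rec (fun _ => ℕ) (@Bool.rec (fun _ => ℕ) cb2764 cb2765 (Nat.ble (nat_lit 2765) i)) (@Bool.rec (fun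 _ => ℕ) cb2766 cb2767 (Nat.ble (nat_lit 2767) i)) (Nat.ble (nat_lit 2766) i)) (Nat.ble (nat_lit 2764) i)) (Nat.ble (nat_lit 2760) i)) (@Bool.rec (fun _ => ℕ) (@Bool.rec (fun _ => ℕ) (@Bool.rec (fun _ => ℕ) (@Bool.rec (fun _ => ℕ) cb2768 cb2769 (Nat.ble (nat_lit 2769) i)) (@Bool.rec (fun _ => ℕ) cb2770 cb2771 (Nat.ble (nat_lit 2771) i)) (Nat.ble (nat_lit 2770) i)) (@Bool.rec (fun _ => ℕ) (@Bool.rec (fun _ => ℕ) cb2772 cb2773 (Nat.ble (nat_lit 2773) i)) (@Bool.rec (fun _ => ℕ) cb2774 cb2775 (Nat.ble (nat_lit 2775) i)) (Nat.ble (nat_lit 2774) i)) (Nat.ble (nat_lit 2772) i)) (@Bool.rec (fun _ => ℕ) (@Bool.rec (fun _ => ℕ) (@Bool.rec (fun _ => ℕ) cb2776 cb2777 (Nat.ble (nat_lit 2777) i)) (@Bool.rec (fun _ => ℕ) cb2778 cb2779 (Nat.ble (nat_lit 2779) i)) (Nat.ble (nat_lit 2778) i)) (@Bool.rec (fun _ => ℕ) (@Bool.rec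 (fun _ => ℕ) cb2780 cb2781 (Nat.ble (nat_lit 2781) i)) (@Bool.rec (fun _ => ℕ) cb2782 cb2783 (Nat.ble (nat_lit 2783) i)) (Nat.ble (nat_lit 2782) i)) (Nat.ble (nat_lit 2780) i)) (Nat.ble (nat_lit 2776) i)) (Nat.ble (nat_lit 2768) i))

def certBlk_n0_87 (i : ℕ) : ℕ := (@Bool.rec (fun _ => ℕ) (@Bool.rec (fun _ => ℕ) (@Bool.rec (fun _ => ℕ) (@Bool.rec (fun _ => ℕ) (@Bool.rec (fun _ => ℕ) cb2784 cb2785 (Nat.ble (nat_lit 2785) i)) (@Bool.rec (fun _ => ℕ) cb2786 cb2787 (Nat.ble (nat_lit 2787) i)) (Nat.ble (nat_lit 2786) i)) (@Bool.rec (fun _ => ℕ) (@Bool.rec (fun _ => ℕ) cb2788 cb2789 (Nat.ble (nat_lit 2789) i)) (@Bool.rec (fun _ => ℕ) cb2790 cb2791 (Nat.ble (nat_lit 2791) i)) (Nat.ble (nat_lit 2790) i)) (Nat.ble (nat_lit 2788) i)) (@Bool.rec (fun _ => ℕ) (@Bool.rec (fun _ => ℕ) (@Bool.rec (fun _ => ℕ) cb2792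 cb2793 (Nat.ble (nat_lit 2793) i)) (@Bool.rec (fun _ => ℕ) cb2794 cb2795 (Nat.ble (nat_lit 2795) i)) (Nat.ble (nat_lit 2794) i)) (@Bool.rec (fun _ => ℕ) (@Bool.rec (fun _ => ℕ) cb2796 cb2797 (Nat.ble (nat_lit 2797) i)) (@Bool.rec (fun _ => ℕ) cb2798 cb2799 (Nat.ble (nat_lit 2799) i)) (Nat.ble (nat_lit 2798) i)) (Nat.ble (nat_lit 2796) i)) (Nat.ble (nat_lit 2792) i)) (@Bool.rec (fun _ => ℕ) (@Bool.rec (fun _ => ℕ) (@Bool.rec (fun _ => ℕ) (@Bool.rec (fun _ => ℕ) cb2800 cb2801 (Nat.ble (nat_lit 2801) i)) (@Bool.rec (fun _ => ℕ) cb2802 cb2803 (Nat.ble (nat_lit 2803) i)) (Nat.ble (nat_lit 2802) i)) (@Bool.rec (fun _ => ℕ) (@Bool.rec (fun _ => ℕ) cb2804 cb2805 (Nat.ble (nat_lit 2805) i)) (@Bool.rec (fun _ => ℕ) cb2806 cb2807 (Nat.ble (nat_lit 2807) i)) (Nat.ble (nat_lit 2806) i)) (Nat.ble (nat_lit 2804) i))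 (@Bool.rec (fun _ => ℕ) (@Bool.rec (fun _ => ℕ) (@Bool.rec (fun _ => ℕ) cb2808 cb2809 (Nat.ble (nat_lit 2809) i)) (@Bool.rec (fun _ => ℕ) cb2810 cb2811 (Nat.ble (nat_lit 2811) i)) (Nat.ble (nat_lit 2810) i)) (@Bool.rec (fun _ => ℕ) (@Bool.rec (fun _ => ℕ) cb2812 cb2813 (Nat.ble (nat_lit 2813) i)) (@Bool.rec (fun _ => ℕ) cb2814 cb2815 (Nat.ble (nat_lit 2815) i)) (Nat.ble (nat_lit 2814) i)) (Nat.ble (nat_lit 2812) i)) (Nat.ble (nat_lit 2808) i)) (Nat.ble (nat_lit 2800) i))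

def certBlk_n0_88 (i : ℕ) : ℕ := (@Bool.rec (fun _ => ℕ) (@Bool.rec (fun _ => ℕ) (@Bool.rec (fun _ => ℕ) (@Bool.rec (fun _ => ℕ) (@Bool.rec (fun _ => ℕ) cb2816 cb2817 (Nat.ble (nat_lit 2817) i)) (@Bool.rec (fun _ => ℕ) cb2818 cb2819 (Nat.ble (nat_lit 2819) i)) (Nat.ble (nat_lit 2818) i)) (@Bool.rec (fun _ => ℕ) (@Bool.rec (fun _ => ℕ) cb2820 cb2821 (Nat.ble (nat_lit 2821) i)) (@Bool.rec (fun _ => ℕ) cb2822 cb2823 (Nat.ble (nat_lit 2823) i)) (Nat.ble (nat_lit 2822) i)) (Nat.ble (nat_lit 2820) i)) (@Bool.rec (fun _ => ℕ) (@Bool.rec (fun _ => ℕ) (@Bool.rec (fun _ => ℕ) cb2824 cb2825 (Nat.ble (nat_lit 2825) i)) (@Bool.rec (fun _ => ℕ) cb2826 cb2827 (Nat.ble (nat_lit 2827) i)) (Nat.ble (nat_lit 2826) i)) (@Bool.rec (fun _ => ℕ) (@Bool.rec (fun _ => ℕ) cb2828 cb2829 (Nat.ble (nat_lit 2829) i)) (@Bool.rec (fun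 _ => ℕ) cb2830 cb2831 (Nat.ble (nat_lit 2831) i)) (Nat.ble (nat_lit 2830) i)) (Nat.ble (nat_lit 2828) i)) (Nat.ble (nat_lit 2824) i)) (@Bool.rec (fun _ => ℕ) (@Bool.rec (fun _ => ℕ) (@Bool.rec (fun _ => ℕ) (@Bool.rec (fun _ => ℕ) cb2832 cb2833 (Nat.ble (nat_lit 2833) i)) (@Bool.rec (fun _ => ℕ) cb2834 cb2835 (Nat.ble (nat_lit 2835) i)) (Nat.ble (nat_lit 2834) i)) (@Bool.rec (fun _ => ℕ) (@Bool.rec (fun _ => ℕ) cb2836 cb2837 (Nat.ble (nat_lit 2837) i)) (@Bool.rec (fun _ => ℕ) cb2838 cb2839 (Nat.ble (nat_lit 2839) i)) (Nat.ble (nat_lit 2838) i)) (Nat.ble (nat_lit 2836) i)) (@Bool.rec (fun _ => ℕ) (@Bool.rec (fun _ => ℕ) (@Bool.rec (fun _ => ℕ) cb2840 cb2841 (Nat.ble (nat_lit 2841) i)) (@Bool.rec (fun _ => ℕ) cb2842 cb2843 (Nat.ble (nat_lit 2843) i)) (Nat.ble (nat_lit 2842) i)) (@Bool.rec (fun _ => ℕ) (@Bool.rec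 (fun _ => ℕ) cb2844 cb2845 (Nat.ble (nat_lit 2845) i)) (@Bool.rec (fun _ => ℕ) cb2846 cb2847 (Nat.ble (nat_lit 2847) i)) (Nat.ble (nat_lit 2846) i)) (Nat.ble (nat_lit 2844) i)) (Nat.ble (nat_lit 2840) i)) (Nat.ble (nat_lit 2832) i))

def certBlk_n0_89 (i : ℕ) : ℕ := (@Bool.rec (fun _ => ℕ) (@Bool.rec (fun _ => ℕ) (@Bool.rec (fun _ => ℕ) (@Bool.rec (fun _ => ℕ) (@Bool.rec (fun _ => ℕ) cb2848 cb2849 (Nat.ble (nat_lit 2849) i)) (@Bool.rec (fun _ => ℕ) cb2850 cb2851 (Nat.ble (nat_lit 2851) i)) (Nat.ble (nat_lit 2850) i)) (@Bool.rec (fun _ => ℕ) (@Bool.rec (fun _ => ℕ) cb2852 cb2853 (Nat.ble (nat_lit 2853) i)) (@Bool.rec (fun _ => ℕ) cb2854 cb2855 (Nat.ble (nat_lit 2855) i)) (Nat.ble (nat_lit 2854) i)) (Nat.ble (nat_lit 2852) i)) (@Bool.rec (fun _ => ℕ) (@Bool.rec (fun _ => ℕ) (@Bool.rec (fun _ => ℕ) cb2856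 cb2857 (Nat.ble (nat_lit 2857) i)) (@Bool.rec (fun _ => ℕ) cb2858 cb2859 (Nat.ble (nat_lit 2859) i)) (Nat.ble (nat_lit 2858) i)) (@Bool.rec (fun _ => ℕ) (@Bool.rec (fun _ => ℕ) cb2860 cb2861 (Nat.ble (nat_lit 2861) i)) (@Bool.rec (fun _ => ℕ) cb2862 cb2863 (Nat.ble (nat_lit 2863) i)) (Nat.ble (nat_lit 2862) i)) (Nat.ble (nat_lit 2860) i)) (Nat.ble (nat_lit 2856) i)) (@Bool.rec (fun _ => ℕ) (@Bool.rec (fun _ => ℕ) (@Bool.rec (fun _ => ℕ) (@Bool.rec (fun _ => ℕ) cb2864 cb2865 (Nat.ble (nat_lit 2865) i)) (@Bool.rec (fun _ => ℕ) cb2866 cb2867 (Nat.ble (nat_lit 2867) i)) (Nat.ble (nat_lit 2866) i)) (@Bool.rec (fun _ => ℕ) (@Bool.rec (fun _ => ℕ) cb2868 cb2869 (Nat.ble (nat_lit 2869) i)) (@Bool.rec (fun _ => ℕ) cb2870 cb2871 (Nat.ble (nat_lit 2871) i)) (Nat.ble (nat_lit 2870) i)) (Nat.ble (nat_lit 2868) i))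 (@Bool.rec (fun _ => ℕ) (@Bool.rec (fun _ => ℕ) (@Bool.rec (fun _ => ℕ) cb2872 cb2873 (Nat.ble (nat_lit 2873) i)) (@Bool.rec (fun _ => ℕ) cb2874 cb2875 (Nat.ble (nat_lit 2875) i)) (Nat.ble (nat_lit 2874) i)) (@Bool.rec (fun _ => ℕ) (@Bool.rec (fun _ => ℕ) cb2876 cb2877 (Nat.ble (nat_lit 2877) i)) (@Bool.rec (fun _ => ℕ) cb2878 cb2879 (Nat.ble (nat_lit 2879) i)) (Nat.ble (nat_lit 2878) i)) (Nat.ble (nat_lit 2876) i)) (Nat.ble (nat_lit 2872) i)) (Nat.ble (nat_lit 2864) i))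

def certBlk_n0_90 (i : ℕ) : ℕ := (@Bool.rec (fun _ => ℕ) (@Bool.rec (fun _ => ℕ) (@Bool.rec (fun _ => ℕ) (@Bool.rec (fun _ => ℕ) (@Bool.rec (fun _ => ℕ) cb2880 cb2881 (Nat.ble (nat_lit 2881) i)) (@Bool.rec (fun _ => ℕ) cb2882 cb2883 (Nat.ble (nat_lit 2883) i)) (Nat.ble (nat_lit 2882) i)) (@Bool.rec (fun _ => ℕ) (@Bool.rec (fun _ => ℕ) cb2884 cb2885 (Nat.ble (nat_lit 2885) i)) (@Bool.rec (fun _ => ℕ) cb2886 cb2887 (Nat.ble (nat_lit 2887) i)) (Nat.ble (nat_lit 2886) i)) (Nat.ble (nat_lit 2884) i)) (@Bool.rec (fun _ => ℕ) (@Bool.rec (fun _ => ℕ) (@Bool.rec (fun _ => ℕ) cb2888 cb2889 (Nat.ble (nat_lit 2889) i)) (@Bool.rec (fun _ => ℕ) cb2890 cb2891 (Nat.ble (nat_lit 2891) i)) (Nat.ble (nat_lit 2890) i)) (@Bool.rec (fun _ => ℕ) (@Bool.rec (fun _ => ℕ) cb2892 cb2893 (Nat.ble (nat_lit 2893) i)) (@Bool.rec (fun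 _ => ℕ) cb2894 cb2895 (Nat.ble (nat_lit 2895) i)) (Nat.ble (nat_lit 2894) i)) (Nat.ble (nat_lit 2892) i)) (Nat.ble (nat_lit 2888) i)) (@Bool.rec (fun _ => ℕ) (@Bool.rec (fun _ => ℕ) (@Bool.rec (fun _ => ℕ) (@Bool.rec (fun _ => ℕ) cb2896 cb2897 (Nat.ble (nat_lit 2897) i)) (@Bool.rec (fun _ => ℕ) cb2898 cb2899 (Nat.ble (nat_lit 2899) i)) (Nat.ble (nat_lit 2898) i)) (@Bool.rec (fun _ => ℕ) (@Bool.rec (fun _ => ℕ) cb2900 cb2901 (Nat.ble (nat_lit 2901) i)) (@Bool.rec (fun _ => ℕ) cb2902 cb2903 (Nat.ble (nat_lit 2903) i)) (Nat.ble (nat_lit 2902) i)) (Nat.ble (nat_lit 2900) i)) (@Bool.rec (fun _ => ℕ) (@Bool.rec (fun _ => ℕ) (@Bool.rec (fun _ => ℕ) cb2904 cb2905 (Nat.ble (nat_lit 2905) i)) (@Bool.rec (fun _ => ℕ) cb2906 cb2907 (Nat.ble (nat_lit 2907) i)) (Nat.ble (nat_lit 2906) i)) (@Bool.rec (fun _ => ℕ) (@Bool.rec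 (fun _ => ℕ) cb2908 cb2909 (Nat.ble (nat_lit 2909) i)) (@Bool.rec (fun _ => ℕ) cb2910 cb2911 (Nat.ble (nat_lit 2911) i)) (Nat.ble (nat_lit 2910) i)) (Nat.ble (nat_lit 2908) i)) (Nat.ble (nat_lit 2904) i)) (Nat.ble (nat_lit 2896) i))

def certBlk_n0_91 (i : ℕ) : ℕ := (@Bool.rec (fun _ => ℕ) (@Bool.rec (fun _ => ℕ) (@Bool.rec (fun _ => ℕ) (@Bool.rec (fun _ => ℕ) (@Bool.rec (fun _ => ℕ) cb2912 cb2913 (Nat.ble (nat_lit 2913) i)) (@Bool.rec (fun _ => ℕ) cb2914 cb2915 (Nat.ble (nat_lit 2915) i)) (Nat.ble (nat_lit 2914) i)) (@Bool.rec (fun _ => ℕ) (@Bool.rec (fun _ => ℕ) cb2916 cb2917 (Nat.ble (nat_lit 2917) i)) (@Bool.rec (fun _ => ℕ) cb2918 cb2919 (Nat.ble (nat_lit 2919) i)) (Nat.ble (nat_lit 2918) i)) (Nat.ble (nat_lit 2916) i)) (@Bool.rec (fun _ => ℕ) (@Bool.rec (fun _ => ℕ) (@Bool.rec (fun _ => ℕ) cb2920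 cb2921 (Nat.ble (nat_lit 2921) i)) (@Bool.rec (fun _ => ℕ) cb2922 cb2923 (Nat.ble (nat_lit 2923) i)) (Nat.ble (nat_lit 2922) i)) (@Bool.rec (fun _ => ℕ) (@Bool.rec (fun _ => ℕ) cb2924 cb2925 (Nat.ble (nat_lit 2925) i)) (@Bool.rec (fun _ => ℕ) cb2926 cb2927 (Nat.ble (nat_lit 2927) i)) (Nat.ble (nat_lit 2926) i)) (Nat.ble (nat_lit 2924) i)) (Nat.ble (nat_lit 2920) i)) (@Bool.rec (fun _ => ℕ) (@Bool.rec (fun _ => ℕ) (@Bool.rec (fun _ => ℕ) (@Bool.rec (fun _ => ℕ) cb2928 cb2929 (Nat.ble (nat_lit 2929) i)) (@Bool.rec (fun _ => ℕ) cb2930 cb2931 (Nat.ble (nat_lit 2931) i)) (Nat.ble (nat_lit 2930) i)) (@Bool.rec (fun _ => ℕ) (@Bool.rec (fun _ => ℕ) cb2932 cb2933 (Nat.ble (nat_lit 2933) i)) (@Bool.rec (fun _ => ℕ) cb2934 cb2935 (Nat.ble (nat_lit 2935) i)) (Nat.ble (nat_lit 2934) i)) (Nat.ble (nat_lit 2932) i))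 (@Bool.rec (fun _ => ℕ) (@Bool.rec (fun _ => ℕ) (@Bool.rec (fun _ => ℕ) cb2936 cb2937 (Nat.ble (nat_lit 2937) i)) (@Bool.rec (fun _ => ℕ) cb2938 cb2939 (Nat.ble (nat_lit 2939) i)) (Nat.ble (nat_lit 2938) i)) (@Bool.rec (fun _ => ℕ) (@Bool.rec (fun _ => ℕ) cb2940 cb2941 (Nat.ble (nat_lit 2941) i)) (@Bool.rec (fun _ => ℕ) cb2942 cb2943 (Nat.ble (nat_lit 2943) i)) (Nat.ble (nat_lit 2942) i)) (Nat.ble (nat_lit 2940) i)) (Nat.ble (nat_lit 2936) i)) (Nat.ble (nat_lit 2928) i))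

def certBlk_n0_92 (i : ℕ) : ℕ := (@Bool.rec (fun _ => ℕ) (@Bool.rec (fun _ => ℕ) (@Bool.rec (fun _ => ℕ) (@Bool.rec (fun _ => ℕ) (@Bool.rec (fun _ => ℕ) cb2944 cb2945 (Nat.ble (nat_lit 2945) i)) (@Bool.rec (fun _ => ℕ) cb2946 cb2947 (Nat.ble (nat_lit 2947) i)) (Nat.ble (nat_lit 2946) i)) (@Bool.rec (fun _ => ℕ) (@Bool.rec (fun _ => ℕ) cb2948 cb2949 (Nat.ble (nat_lit 2949) i)) (@Bool.rec (fun _ => ℕ) cb2950 cb2951 (Nat.ble (nat_lit 2951) i)) (Nat.ble (nat_lit 2950) i)) (Nat.ble (nat_lit 2948) i)) (@Bool.rec (fun _ => ℕ) (@Bool.rec (fun _ => ℕ) (@Bool.rec (fun _ => ℕ) cb2952 cb2953 (Nat.ble (nat_lit 2953) i)) (@Bool.rec (fun _ => ℕ) cb2954 cb2955 (Nat.ble (nat_lit 2955) i)) (Nat.ble (nat_lit 2954) i)) (@Bool.rec (fun _ => ℕ) (@Bool.rec (fun _ => ℕ) cb2956 cb2957 (Nat.ble (nat_lit 2957) i)) (@Bool.rec (fun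 _ => ℕ) cb2958 cb2959 (Nat.ble (nat_lit 2959) i)) (Nat.ble (nat_lit 2958) i)) (Nat.ble (nat_lit 2956) i)) (Nat.ble (nat_lit 2952) i)) (@Bool.rec (fun _ => ℕ) (@Bool.rec (fun _ => ℕ) (@Bool.rec (fun _ => ℕ) (@Bool.rec (fun _ => ℕ) cb2960 cb2961 (Nat.ble (nat_lit 2961) i)) (@Bool.rec (fun _ => ℕ) cb2962 cb2963 (Nat.ble (nat_lit 2963) i)) (Nat.ble (nat_lit 2962) i)) (@Bool.rec (fun _ => ℕ) (@Bool.rec (fun _ => ℕ) cb2964 cb2965 (Nat.ble (nat_lit 2965) i)) (@Bool.rec (fun _ => ℕ) cb2966 cb2967 (Nat.ble (nat_lit 2967) i)) (Nat.ble (nat_lit 2966) i)) (Nat.ble (nat_lit 2964) i)) (@Bool.rec (fun _ => ℕ) (@Bool.rec (fun _ => ℕ) (@Bool.rec (fun _ => ℕ) cb2968 cb2969 (Nat.ble (nat_lit 2969) i)) (@Bool.rec (fun _ => ℕ) cb2970 cb2971 (Nat.ble (nat_lit 2971) i)) (Nat.ble (nat_lit 2970) i)) (@Bool.rec (fun _ => ℕ) (@Bool.rec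 (fun _ => ℕ) cb2972 cb2973 (Nat.ble (nat_lit 2973) i)) (@Bool.rec (fun _ => ℕ) cb2974 cb2975 (Nat.ble (nat_lit 2975) i)) (Nat.ble (nat_lit 2974) i)) (Nat.ble (nat_lit 2972) i)) (Nat.ble (nat_lit 2968) i)) (Nat.ble (nat_lit 2960) i))

def certBlk_n0_93 (i : ℕ) : ℕ := (@Bool.rec (fun _ => ℕ) (@Bool.rec (fun _ => ℕ) (@Bool.rec (fun _ => ℕ) (@Bool.rec (fun _ => ℕ) (@Bool.rec (fun _ => ℕ) cb2976 cb2977 (Nat.ble (nat_lit 2977) i)) (@Bool.rec (fun _ => ℕ) cb2978 cb2979 (Nat.ble (nat_lit 2979) i)) (Nat.ble (nat_lit 2978) i)) (@Bool.rec (fun _ => ℕ) (@Bool.rec (fun _ => ℕ) cb2980 cb2981 (Nat.ble (nat_lit 2981) i)) (@Bool.rec (fun _ => ℕ) cb2982 cb2983 (Nat.ble (nat_lit 2983) i)) (Nat.ble (nat_lit 2982) i)) (Nat.ble (nat_lit 2980) i)) (@Bool.rec (fun _ => ℕ) (@Bool.rec (fun _ => ℕ) (@Bool.rec (fun _ => ℕ) cb2984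 cb2985 (Nat.ble (nat_lit 2985) i)) (@Bool.rec (fun _ => ℕ) cb2986 cb2987 (Nat.ble (nat_lit 2987) i)) (Nat.ble (nat_lit 2986) i)) (@Bool.rec (fun _ => ℕ) (@Bool.rec (fun _ => ℕ) cb2988 cb2989 (Nat.ble (nat_lit 2989) i)) (@Bool.rec (fun _ => ℕ) cb2990 cb2991 (Nat.ble (nat_lit 2991) i)) (Nat.ble (nat_lit 2990) i)) (Nat.ble (nat_lit 2988) i)) (Nat.ble (nat_lit 2984) i)) (@Bool.rec (fun _ => ℕ) (@Bool.rec (fun _ => ℕ) (@Bool.rec (fun _ => ℕ) (@Bool.rec (fun _ => ℕ) cb2992 cb2993 (Nat.ble (nat_lit 2993) i)) (@Bool.rec (fun _ => ℕ) cb2994 cb2995 (Nat.ble (nat_lit 2995) i)) (Nat.ble (nat_lit 2994) i)) (@Bool.rec (fun _ => ℕ) (@Bool.rec (fun _ => ℕ) cb2996 cb2997 (Nat.ble (nat_lit 2997) i)) (@Bool.rec (fun _ => ℕ) cb2998 cb2999 (Nat.ble (nat_lit 2999) i)) (Nat.ble (nat_lit 2998) i)) (Nat.ble (nat_lit 2996) i))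 (@Bool.rec (fun _ => ℕ) (@Bool.rec (fun _ => ℕ) (@Bool.rec (fun _ => ℕ) cb3000 cb3001 (Nat.ble (nat_lit 3001) i)) (@Bool.rec (fun _ => ℕ) cb3002 cb3003 (Nat.ble (nat_lit 3003) i)) (Nat.ble (nat_lit 3002) i)) (@Bool.rec (fun _ => ℕ) (@Bool.rec (fun _ => ℕ) cb3004 cb3005 (Nat.ble (nat_lit 3005) i)) (@Bool.rec (fun _ => ℕ) cb3006 cb3007 (Nat.ble (nat_lit 3007) i)) (Nat.ble (nat_lit 3006) i)) (Nat.ble (nat_lit 3004) i)) (Nat.ble (nat_lit 3000) i)) (Nat.ble (nat_lit 2992) i))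

def certBlk_n0_94 (i : ℕ) : ℕ := (@Bool.rec (fun _ => ℕ) (@Bool.rec (fun _ => ℕ) (@Bool.rec (fun _ => ℕ) (@Bool.rec (fun _ => ℕ) (@Bool.rec (fun _ => ℕ) cb3008 cb3009 (Nat.ble (nat_lit 3009) i)) (@Bool.rec (fun _ => ℕ) cb3010 cb3011 (Nat.ble (nat_lit 3011) i)) (Nat.ble (nat_lit 3010) i)) (@Bool.rec (fun _ => ℕ) (@Bool.rec (fun _ => ℕ) cb3012 cb3013 (Nat.ble (nat_lit 3013) i)) (@Bool.rec (fun _ => ℕ) cb3014 cb3015 (Nat.ble (nat_lit 3015) i)) (Nat.ble (nat_lit 3014) i)) (Nat.ble (nat_lit 3012) i)) (@Bool.rec (fun _ => ℕ) (@Bool.rec (fun _ => ℕ) (@Bool.rec (fun _ => ℕ) cb3016 cb3017 (Nat.ble (nat_lit 3017) i)) (@Bool.rec (fun _ => ℕ) cb3018 cb3019 (Nat.ble (nat_lit 3019) i)) (Nat.ble (nat_lit 3018) i)) (@Bool.rec (fun _ => ℕ) (@Bool.rec (fun _ => ℕ) cb3020 cb3021 (Nat.ble (nat_lit 3021) i)) (@Bool.rec (fun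 _ => ℕ) cb3022 cb3023 (Nat.ble (nat_lit 3023) i)) (Nat.ble (nat_lit 3022) i)) (Nat.ble (nat_lit 3020) i)) (Nat.ble (nat_lit 3016) i)) (@Bool.rec (fun _ => ℕ) (@Bool.rec (fun _ => ℕ) (@Bool.rec (fun _ => ℕ) (@Bool.rec (fun _ => ℕ) cb3024 cb3025 (Nat.ble (nat_lit 3025) i)) (@Bool.rec (fun _ => ℕ) cb3026 cb3027 (Nat.ble (nat_lit 3027) i)) (Nat.ble (nat_lit 3026) i)) (@Bool.rec (fun _ => ℕ) (@Bool.rec (fun _ => ℕ) cb3028 cb3029 (Nat.ble (nat_lit 3029) i)) (@Bool.rec (fun _ => ℕ) cb3030 cb3031 (Nat.ble (nat_lit 3031) i)) (Nat.ble (nat_lit 3030) i)) (Nat.ble (nat_lit 3028) i)) (@Bool.rec (fun _ => ℕ) (@Bool.rec (fun _ => ℕ) (@Bool.rec (fun _ => ℕ) cb3032 cb3033 (Nat.ble (nat_lit 3033) i)) (@Bool.rec (fun _ => ℕ) cb3034 cb3035 (Nat.ble (nat_lit 3035) i)) (Nat.ble (nat_lit 3034) i)) (@Bool.rec (fun _ => ℕ) (@Bool.rec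 (fun _ => ℕ) cb3036 cb3037 (Nat.ble (nat_lit 3037) i)) (@Bool.rec (fun _ => ℕ) cb3038 cb3039 (Nat.ble (nat_lit 3039) i)) (Nat.ble (nat_lit 3038) i)) (Nat.ble (nat_lit 3036) i)) (Nat.ble (nat_lit 3032) i)) (Nat.ble (nat_lit 3024) i))

def certBlk_n0_95 (i : ℕ) : ℕ := (@Bool.rec (fun _ => ℕ) (@Bool.rec (fun _ => ℕ) (@Bool.rec (fun _ => ℕ) (@Bool.rec (fun _ => ℕ) (@Bool.rec (fun _ => ℕ) cb3040 cb3041 (Nat.ble (nat_lit 3041) i)) (@Bool.rec (fun _ => ℕ) cb3042 cb3043 (Nat.ble (nat_lit 3043) i)) (Nat.ble (nat_lit 3042) i)) (@Bool.rec (fun _ => ℕ) (@Bool.rec (fun _ => ℕ) cb3044 cb3045 (Nat.ble (nat_lit 3045) i)) (@Bool.rec (fun _ => ℕ) cb3046 cb3047 (Nat.ble (nat_lit 3047) i)) (Nat.ble (nat_lit 3046) i)) (Nat.ble (nat_lit 3044) i)) (@Bool.rec (fun _ => ℕ) (@Bool.rec (fun _ => ℕ) (@Bool.rec (fun _ => ℕ) cb3048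 cb3049 (Nat.ble (nat_lit 3049) i)) (@Bool.rec (fun _ => ℕ) cb3050 cb3051 (Nat.ble (nat_lit 3051) i)) (Nat.ble (nat_lit 3050) i)) (@Bool.rec (fun _ => ℕ) (@Bool.rec (fun _ => ℕ) cb3052 cb3053 (Nat.ble (nat_lit 3053) i)) (@Bool.rec (fun _ => ℕ) cb3054 cb3055 (Nat.ble (nat_lit 3055) i)) (Nat.ble (nat_lit 3054) i)) (Nat.ble (nat_lit 3052) i)) (Nat.ble (nat_lit 3048) i)) (@Bool.rec (fun _ => ℕ) (@Bool.rec (fun _ => ℕ) (@Bool.rec (fun _ => ℕ) (@Bool.rec (fun _ => ℕ) cb3056 cb3057 (Nat.ble (nat_lit 3057) i)) (@Bool.rec (fun _ => ℕ) cb3058 cb3059 (Nat.ble (nat_lit 3059) i)) (Nat.ble (nat_lit 3058) i)) (@Bool.rec (fun _ => ℕ) (@Bool.rec (fun _ => ℕ) cb3060 cb3061 (Nat.ble (nat_lit 3061) i)) (@Bool.rec (fun _ => ℕ) cb3062 cb3063 (Nat.ble (nat_lit 3063) i)) (Nat.ble (nat_lit 3062) i)) (Nat.ble (nat_lit 3060) i))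 (@Bool.rec (fun _ => ℕ) (@Bool.rec (fun _ => ℕ) (@Bool.rec (fun _ => ℕ) cb3064 cb3065 (Nat.ble (nat_lit 3065) i)) (@Bool.rec (fun _ => ℕ) cb3066 cb3067 (Nat.ble (nat_lit 3067) i)) (Nat.ble (nat_lit 3066) i)) (@Bool.rec (fun _ => ℕ) (@Bool.rec (fun _ => ℕ) cb3068 cb3069 (Nat.ble (nat_lit 3069) i)) (@Bool.rec (fun _ => ℕ) cb3070 cb3071 (Nat.ble (nat_lit 3071) i)) (Nat.ble (nat_lit 3070) i)) (Nat.ble (nat_lit 3068) i)) (Nat.ble (nat_lit 3064) i)) (Nat.ble (nat_lit 3056) i))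

def certBlk_n0_96 (i : ℕ) : ℕ := (@Bool.rec (fun _ => ℕ) (@Bool.rec (fun _ => ℕ) (@Bool.rec (fun _ => ℕ) (@Bool.rec (fun _ => ℕ) (@Bool.rec (fun _ => ℕ) cb3072 cb3073 (Nat.ble (nat_lit 3073) i)) (@Bool.rec (fun _ => ℕ) cb3074 cb3075 (Nat.ble (nat_lit 3075) i)) (Nat.ble (nat_lit 3074) i)) (@Bool.rec (fun _ => ℕ) (@Bool.rec (fun _ => ℕ) cb3076 cb3077 (Nat.ble (nat_lit 3077) i)) (@Bool.rec (fun _ => ℕ) cb3078 cb3079 (Nat.ble (nat_lit 3079) i)) (Nat.ble (nat_lit 3078) i)) (Nat.ble (nat_lit 3076) i)) (@Bool.rec (fun _ => ℕ) (@Bool.rec (fun _ => ℕ) (@Bool.rec (fun _ => ℕ) cb3080 cb3081 (Nat.ble (nat_lit 3081) i)) (@Bool.rec (fun _ => ℕ) cb3082 cb3083 (Nat.ble (nat_lit 3083) i)) (Nat.ble (nat_lit 3082) i)) (@Bool.rec (fun _ => ℕ) (@Bool.rec (fun _ => ℕ) cb3084 cb3085 (Nat.ble (nat_lit 3085) i)) (@Bool.rec (fun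 _ => ℕ) cb3086 cb3087 (Nat.ble (nat_lit 3087) i)) (Nat.ble (nat_lit 3086) i)) (Nat.ble (nat_lit 3084) i)) (Nat.ble (nat_lit 3080) i)) (@Bool.rec (fun _ => ℕ) (@Bool.rec (fun _ => ℕ) (@Bool.rec (fun _ => ℕ) (@Bool.rec (fun _ => ℕ) cb3088 cb3089 (Nat.ble (nat_lit 3089) i)) (@Bool.rec (fun _ => ℕ) cb3090 cb3091 (Nat.ble (nat_lit 3091) i)) (Nat.ble (nat_lit 3090) i)) (@Bool.rec (fun _ => ℕ) (@Bool.rec (fun _ => ℕ) cb3092 cb3093 (Nat.ble (nat_lit 3093) i)) (@Bool.rec (fun _ => ℕ) cb3094 cb3095 (Nat.ble (nat_lit 3095) i)) (Nat.ble (nat_lit 3094) i)) (Nat.ble (nat_lit 3092) i)) (@Bool.rec (fun _ => ℕ) (@Bool.rec (fun _ => ℕ) (@Bool.rec (fun _ => ℕ) cb3096 cb3097 (Nat.ble (nat_lit 3097) i)) (@Bool.rec (fun _ => ℕ) cb3098 cb3099 (Nat.ble (nat_lit 3099) i)) (Nat.ble (nat_lit 3098) i)) (@Bool.rec (fun _ => ℕ) (@Bool.rec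 (fun _ => ℕ) cb3100 cb3101 (Nat.ble (nat_lit 3101) i)) (@Bool.rec (fun _ => ℕ) cb3102 cb3103 (Nat.ble (nat_lit 3103) i)) (Nat.ble (nat_lit 3102) i)) (Nat.ble (nat_lit 3100) i)) (Nat.ble (nat_lit 3096) i)) (Nat.ble (nat_lit 3088) i))

def certBlk_n0_97 (i : ℕ) : ℕ := (@Bool.rec (fun _ => ℕ) (@Bool.rec (fun _ => ℕ) (@Bool.rec (fun _ => ℕ) (@Bool.rec (fun _ => ℕ) (@Bool.rec (fun _ => ℕ) cb3104 cb3105 (Nat.ble (nat_lit 3105) i)) (@Bool.rec (fun _ => ℕ) cb3106 cb3107 (Nat.ble (nat_lit 3107) i)) (Nat.ble (nat_lit 3106) i)) (@Bool.rec (fun _ => ℕ) (@Bool.rec (fun _ => ℕ) cb3108 cb3109 (Nat.ble (nat_lit 3109) i)) (@Bool.rec (fun _ => ℕ) cb3110 cb3111 (Nat.ble (nat_lit 3111) i)) (Nat.ble (nat_lit 3110) i)) (Nat.ble (nat_lit 3108) i)) (@Bool.rec (fun _ => ℕ) (@Bool.rec (fun _ => ℕ) (@Bool.rec (fun _ => ℕ) cb3112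 cb3113 (Nat.ble (nat_lit 3113) i)) (@Bool.rec (fun _ => ℕ) cb3114 cb3115 (Nat.ble (nat_lit 3115) i)) (Nat.ble (nat_lit 3114) i)) (@Bool.rec (fun _ => ℕ) (@Bool.rec (fun _ => ℕ) cb3116 cb3117 (Nat.ble (nat_lit 3117) i)) (@Bool.rec (fun _ => ℕ) cb3118 cb3119 (Nat.ble (nat_lit 3119) i)) (Nat.ble (nat_lit 3118) i)) (Nat.ble (nat_lit 3116) i)) (Nat.ble (nat_lit 3112) i)) (@Bool.rec (fun _ => ℕ) (@Bool.rec (fun _ => ℕ) (@Bool.rec (fun _ => ℕ) (@Bool.rec (fun _ => ℕ) cb3120 cb3121 (Nat.ble (nat_lit 3121) i)) (@Bool.rec (fun _ => ℕ) cb3122 cb3123 (Nat.ble (nat_lit 3123) i)) (Nat.ble (nat_lit 3122) i)) (@Bool.rec (fun _ => ℕ) (@Bool.rec (fun _ => ℕ) cb3124 cb3125 (Nat.ble (nat_lit 3125) i)) (@Bool.rec (fun _ => ℕ) cb3126 cb3127 (Nat.ble (nat_lit 3127) i)) (Nat.ble (nat_lit 3126) i)) (Nat.ble (nat_lit 3124) i))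 (@Bool.rec (fun _ => ℕ) (@Bool.rec (fun _ => ℕ) (@Bool.rec (fun _ => ℕ) cb3128 cb3129 (Nat.ble (nat_lit 3129) i)) (@Bool.rec (fun _ => ℕ) cb3130 cb3131 (Nat.ble (nat_lit 3131) i)) (Nat.ble (nat_lit 3130) i)) (@Bool.rec (fun _ => ℕ) (@Bool.rec (fun _ => ℕ) cb3132 cb3133 (Nat.ble (nat_lit 3133) i)) (@Bool.rec (fun _ => ℕ) cb3134 cb3135 (Nat.ble (nat_lit 3135) i)) (Nat.ble (nat_lit 3134) i)) (Nat.ble (nat_lit 3132) i)) (Nat.ble (nat_lit 3128) i)) (Nat.ble (nat_lit 3120) i))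

def certBlk_n0_98 (i : ℕ) : ℕ := (@Bool.rec (fun _ => ℕ) (@Bool.rec (fun _ => ℕ) (@Bool.rec (fun _ => ℕ) (@Bool.rec (fun _ => ℕ) (@Bool.rec (fun _ => ℕ) cb3136 cb3137 (Nat.ble (nat_lit 3137) i)) (@Bool.rec (fun _ => ℕ) cb3138 cb3139 (Nat.ble (nat_lit 3139) i)) (Nat.ble (nat_lit 3138) i)) (@Bool.rec (fun _ => ℕ) (@Bool.rec (fun _ => ℕ) cb3140 cb3141 (Nat.ble (nat_lit 3141) i)) (@Bool.rec (fun _ => ℕ) cb3142 cb3143 (Nat.ble (nat_lit 3143) i)) (Nat.ble (nat_lit 3142) i)) (Nat.ble (nat_lit 3140) i)) (@Bool.rec (fun _ => ℕ) (@Bool.rec (fun _ => ℕ) (@Bool.rec (fun _ => ℕ) cb3144 cb3145 (Nat.ble (nat_lit 3145) i)) (@Bool.rec (fun _ => ℕ) cb3146 cb3147 (Nat.ble (nat_lit 3147) i)) (Nat.ble (nat_lit 3146) i)) (@Bool.rec (fun _ => ℕ) (@Bool.rec (fun _ => ℕ) cb3148 cb3149 (Nat.ble (nat_lit 3149) i)) (@Bool.rec (fun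 _ => ℕ) cb3150 cb3151 (Nat.ble (nat_lit 3151) i)) (Nat.ble (nat_lit 3150) i)) (Nat.ble (nat_lit 3148) i)) (Nat.ble (nat_lit 3144) i)) (@Bool.rec (fun _ => ℕ) (@Bool.rec (fun _ => ℕ) (@Bool.rec (fun _ => ℕ) (@Bool.rec (fun _ => ℕ) cb3152 cb3153 (Nat.ble (nat_lit 3153) i)) (@Bool.rec (fun _ => ℕ) cb3154 cb3155 (Nat.ble (nat_lit 3155) i)) (Nat.ble (nat_lit 3154) i)) (@Bool.rec (fun _ => ℕ) (@Bool.rec (fun _ => ℕ) cb3156 cb3157 (Nat.ble (nat_lit 3157) i)) (@Bool.rec (fun _ => ℕ) cb3158 cb3159 (Nat.ble (nat_lit 3159) i)) (Nat.ble (nat_lit 3158) i)) (Nat.ble (nat_lit 3156) i)) (@Bool.rec (fun _ => ℕ) (@Bool.rec (fun _ => ℕ) (@Bool.rec (fun _ => ℕ) cb3160 cb3161 (Nat.ble (nat_lit 3161) i)) (@Bool.rec (fun _ => ℕ) cb3162 cb3163 (Nat.ble (nat_lit 3163) i)) (Nat.ble (nat_lit 3162) i)) (@Bool.rec (fun _ => ℕ) (@Bool.rec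 (fun _ => ℕ) cb3164 cb3165 (Nat.ble (nat_lit 3165) i)) (@Bool.rec (fun _ => ℕ) cb3166 cb3167 (Nat.ble (nat_lit 3167) i)) (Nat.ble (nat_lit 3166) i)) (Nat.ble (nat_lit 3164) i)) (Nat.ble (nat_lit 3160) i)) (Nat.ble (nat_lit 3152) i))

def certBlk_n0_99 (i : ℕ) : ℕ := (@Bool.rec (fun _ => ℕ) (@Bool.rec (fun _ => ℕ) (@Bool.rec (fun _ => ℕ) (@Bool.rec (fun _ => ℕ) (@Bool.rec (fun _ => ℕ) cb3168 cb3169 (Nat.ble (nat_lit 3169) i)) (@Bool.rec (fun _ => ℕ) cb3170 cb3171 (Nat.ble (nat_lit 3171) i)) (Nat.ble (nat_lit 3170) i)) (@Bool.rec (fun _ => ℕ) (@Bool.rec (fun _ => ℕ) cb3172 cb3173 (Nat.ble (nat_lit 3173) i)) (@Bool.rec (fun _ => ℕ) cb3174 cb3175 (Nat.ble (nat_lit 3175) i)) (Nat.ble (nat_lit 3174) i)) (Nat.ble (nat_lit 3172) i)) (@Bool.rec (fun _ => ℕ) (@Bool.rec (fun _ => ℕ) (@Bool.rec (fun _ => ℕ) cb3176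 cb3177 (Nat.ble (nat_lit 3177) i)) (@Bool.rec (fun _ => ℕ) cb3178 cb3179 (Nat.ble (nat_lit 3179) i)) (Nat.ble (nat_lit 3178) i)) (@Bool.rec (fun _ => ℕ) (@Bool.rec (fun _ => ℕ) cb3180 cb3181 (Nat.ble (nat_lit 3181) i)) (@Bool.rec (fun _ => ℕ) cb3182 cb3183 (Nat.ble (nat_lit 3183) i)) (Nat.ble (nat_lit 3182) i)) (Nat.ble (nat_lit 3180) i)) (Nat.ble (nat_lit 3176) i)) (@Bool.rec (fun _ => ℕ) (@Bool.rec (fun _ => ℕ) (@Bool.rec (fun _ => ℕ) (@Bool.rec (fun _ => ℕ) cb3184 cb3185 (Nat.ble (nat_lit 3185) i)) (@Bool.rec (fun _ => ℕ) cb3186 cb3187 (Nat.ble (nat_lit 3187) i)) (Nat.ble (nat_lit 3186) i)) (@Bool.rec (fun _ => ℕ) (@Bool.rec (fun _ => ℕ) cb3188 cb3189 (Nat.ble (nat_lit 3189) i)) (@Bool.rec (fun _ => ℕ) cb3190 cb3191 (Nat.ble (nat_lit 3191) i)) (Nat.ble (nat_lit 3190) i)) (Nat.ble (nat_lit 3188) i))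 (@Bool.rec (fun _ => ℕ) (@Bool.rec (fun _ => ℕ) (@Bool.rec (fun _ => ℕ) cb3192 cb3193 (Nat.ble (nat_lit 3193) i)) (@Bool.rec (fun _ => ℕ) cb3194 cb3195 (Nat.ble (nat_lit 3195) i)) (Nat.ble (nat_lit 3194) i)) (@Bool.rec (fun _ => ℕ) (@Bool.rec (fun _ => ℕ) cb3196 cb3197 (Nat.ble (nat_lit 3197) i)) (@Bool.rec (fun _ => ℕ) cb3198 cb3199 (Nat.ble (nat_lit 3199) i)) (Nat.ble (nat_lit 3198) i)) (Nat.ble (nat_lit 3196) i)) (Nat.ble (nat_lit 3192) i)) (Nat.ble (nat_lit 3184) i))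

def certBlk_n0_100 (i : ℕ) : ℕ := (@Bool.rec (fun _ => ℕ) (@Bool.rec (fun _ => ℕ) (@Bool.rec (fun _ => ℕ) (@Bool.rec (fun _ => ℕ) (@Bool.rec (fun _ => ℕ) cb3200 cb3201 (Nat.ble (nat_lit 3201) i)) (@Bool.rec (fun _ => ℕ) cb3202 cb3203 (Nat.ble (nat_lit 3203) i)) (Nat.ble (nat_lit 3202) i)) (@Bool.rec (fun _ => ℕ) (@Bool.rec (fun _ => ℕ) cb3204 cb3205 (Nat.ble (nat_lit 3205) i)) (@Bool.rec (fun _ => ℕ) cb3206 cb3207 (Nat.ble (nat_lit 3207) i)) (Nat.ble (nat_lit 3206) i)) (Nat.ble (nat_lit 3204) i)) (@Bool.rec (fun _ => ℕ) (@Bool.rec (fun _ => ℕ) (@Bool.rec (fun _ => ℕ) cb3208 cb3209 (Nat.ble (nat_lit 3209) i)) (@Bool.rec (fun _ => ℕ) cb3210 cb3211 (Nat.ble (nat_lit 3211) i)) (Nat.ble (nat_lit 3210) i)) (@Bool.rec (fun _ => ℕ) (@Bool.rec (fun _ => ℕ) cb3212 cb3213 (Nat.ble (nat_lit 3213) i)) (@Bool.rec (fun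 _ => ℕ) cb3214 cb3215 (Nat.ble (nat_lit 3215) i)) (Nat.ble (nat_lit 3214) i)) (Nat.ble (nat_lit 3212) i)) (Nat.ble (nat_lit 3208) i)) (@Bool.rec (fun _ => ℕ) (@Bool.rec (fun _ => ℕ) (@Bool.rec (fun _ => ℕ) (@Bool.rec (fun _ => ℕ) cb3216 cb3217 (Nat.ble (nat_lit 3217) i)) (@Bool.rec (fun _ => ℕ) cb3218 cb3219 (Nat.ble (nat_lit 3219) i)) (Nat.ble (nat_lit 3218) i)) (@Bool.rec (fun _ => ℕ) (@Bool.rec (fun _ => ℕ) cb3220 cb3221 (Nat.ble (nat_lit 3221) i)) (@Bool.rec (fun _ => ℕ) cb3222 cb3223 (Nat.ble (nat_lit 3223) i)) (Nat.ble (nat_lit 3222) i)) (Nat.ble (nat_lit 3220) i)) (@Bool.rec (fun _ => ℕ) (@Bool.rec (fun _ => ℕ) (@Bool.rec (fun _ => ℕ) cb3224 cb3225 (Nat.ble (nat_lit 3225) i)) (@Bool.rec (fun _ => ℕ) cb3226 cb3227 (Nat.ble (nat_lit 3227) i)) (Nat.ble (nat_lit 3226) i)) (@Bool.rec (fun _ => ℕ) (@Bool.rec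 (fun _ => ℕ) cb3228 cb3229 (Nat.ble (nat_lit 3229) i)) (@Bool.rec (fun _ => ℕ) cb3230 cb3231 (Nat.ble (nat_lit 3231) i)) (Nat.ble (nat_lit 3230) i)) (Nat.ble (nat_lit 3228) i)) (Nat.ble (nat_lit 3224) i)) (Nat.ble (nat_lit 3216) i))

def certBlk_n0_101 (i : ℕ) : ℕ := (@Bool.rec (fun _ => ℕ) (@Bool.rec (fun _ => ℕ) (@Bool.rec (fun _ => ℕ) (@Bool.rec (fun _ => ℕ) (@Bool.rec (fun _ => ℕ) cb3232 cb3233 (Nat.ble (nat_lit 3233) i)) (@Bool.rec (fun _ => ℕ) cb3234 cb3235 (Nat.ble (nat_lit 3235) i)) (Nat.ble (nat_lit 3234) i)) (@Bool.rec (fun _ => ℕ) (@Bool.rec (fun _ => ℕ) cb3236 cb3237 (Nat.ble (nat_lit 3237) i)) (@Bool.rec (fun _ => ℕ) cb3238 cb3239 (Nat.ble (nat_lit 3239) i)) (Nat.ble (nat_lit 3238) i)) (Nat.ble (nat_lit 3236) i)) (@Bool.rec (fun _ => ℕ) (@Bool.rec (fun _ => ℕ) (@Bool.rec (fun _ => ℕ) cb3240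 cb3241 (Nat.ble (nat_lit 3241) i)) (@Bool.rec (fun _ => ℕ) cb3242 cb3243 (Nat.ble (nat_lit 3243) i)) (Nat.ble (nat_lit 3242) i)) (@Bool.rec (fun _ => ℕ) (@Bool.rec (fun _ => ℕ) cb3244 cb3245 (Nat.ble (nat_lit 3245) i)) (@Bool.rec (fun _ => ℕ) cb3246 cb3247 (Nat.ble (nat_lit 3247) i)) (Nat.ble (nat_lit 3246) i)) (Nat.ble (nat_lit 3244) i)) (Nat.ble (nat_lit 3240) i)) (@Bool.rec (fun _ => ℕ) (@Bool.rec (fun _ => ℕ) (@Bool.rec (fun _ => ℕ) (@Bool.rec (fun _ => ℕ) cb3248 cb3249 (Nat.ble (nat_lit 3249) i)) (@Bool.rec (fun _ => ℕ) cb3250 cb3251 (Nat.ble (nat_lit 3251) i)) (Nat.ble (nat_lit 3250) i)) (@Bool.rec (fun _ => ℕ) (@Bool.rec (fun _ => ℕ) cb3252 cb3253 (Nat.ble (nat_lit 3253) i)) (@Bool.rec (fun _ => ℕ) cb3254 cb3255 (Nat.ble (nat_lit 3255) i)) (Nat.ble (nat_lit 3254) i)) (Nat.ble (nat_lit 3252) i))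 (@Bool.rec (fun _ => ℕ) (@Bool.rec (fun _ => ℕ) (@Bool.rec (fun _ => ℕ) cb3256 cb3257 (Nat.ble (nat_lit 3257) i)) (@Bool.rec (fun _ => ℕ) cb3258 cb3259 (Nat.ble (nat_lit 3259) i)) (Nat.ble (nat_lit 3258) i)) (@Bool.rec (fun _ => ℕ) (@Bool.rec (fun _ => ℕ) cb3260 cb3261 (Nat.ble (nat_lit 3261) i)) (@Bool.rec (fun _ => ℕ) cb3262 cb3263 (Nat.ble (nat_lit 3263) i)) (Nat.ble (nat_lit 3262) i)) (Nat.ble (nat_lit 3260) i)) (Nat.ble (nat_lit 3256) i)) (Nat.ble (nat_lit 3248) i))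

def certBlk_n0_102 (i : ℕ) : ℕ := (@Bool.rec (fun _ => ℕ) (@Bool.rec (fun _ => ℕ) (@Bool.rec (fun _ => ℕ) (@Bool.rec (fun _ => ℕ) (@Bool.rec (fun _ => ℕ) cb3264 cb3265 (Nat.ble (nat_lit 3265) i)) (@Bool.rec (fun _ => ℕ) cb3266 cb3267 (Nat.ble (nat_lit 3267) i)) (Nat.ble (nat_lit 3266) i)) (@Bool.rec (fun _ => ℕ) (@Bool.rec (fun _ => ℕ) cb3268 cb3269 (Nat.ble (nat_lit 3269) i)) (@Bool.rec (fun _ => ℕ) cb3270 cb3271 (Nat.ble (nat_lit 3271) i)) (Nat.ble (nat_lit 3270) i)) (Nat.ble (nat_lit 3268) i)) (@Bool.rec (fun _ => ℕ) (@Bool.rec (fun _ => ℕ) (@Bool.rec (fun _ => ℕ) cb3272 cb3273 (Nat.ble (nat_lit 3273) i)) (@Bool.rec (fun _ => ℕ) cb3274 cb3275 (Nat.ble (nat_lit 3275) i)) (Nat.ble (nat_lit 3274) i)) (@Bool.rec (fun _ => ℕ) (@Bool.rec (fun _ => ℕ) cb3276 cb3277 (Nat.ble (nat_lit 3277) i)) (@Bool.rec (fun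 _ => ℕ) cb3278 cb3279 (Nat.ble (nat_lit 3279) i)) (Nat.ble (nat_lit 3278) i)) (Nat.ble (nat_lit 3276) i)) (Nat.ble (nat_lit 3272) i)) (@Bool.rec (fun _ => ℕ) (@Bool.rec (fun _ => ℕ) (@Bool.rec (fun _ => ℕ) (@Bool.rec (fun _ => ℕ) cb3280 cb3281 (Nat.ble (nat_lit 3281) i)) (@Bool.rec (fun _ => ℕ) cb3282 cb3283 (Nat.ble (nat_lit 3283) i)) (Nat.ble (nat_lit 3282) i)) (@Bool.rec (fun _ => ℕ) (@Bool.rec (fun _ => ℕ) cb3284 cb3285 (Nat.ble (nat_lit 3285) i)) (@Bool.rec (fun _ => ℕ) cb3286 cb3287 (Nat.ble (nat_lit 3287) i)) (Nat.ble (nat_lit 3286) i)) (Nat.ble (nat_lit 3284) i)) (@Bool.rec (fun _ => ℕ) (@Bool.rec (fun _ => ℕ) (@Bool.rec (fun _ => ℕ) cb3288 cb3289 (Nat.ble (nat_lit 3289) i)) (@Bool.rec (fun _ => ℕ) cb3290 cb3291 (Nat.ble (nat_lit 3291) i)) (Nat.ble (nat_lit 3290) i)) (@Bool.rec (fun _ => ℕ) (@Bool.rec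 (fun _ => ℕ) cb3292 cb3293 (Nat.ble (nat_lit 3293) i)) (@Bool.rec (fun _ => ℕ) cb3294 cb3295 (Nat.ble (nat_lit 3295) i)) (Nat.ble (nat_lit 3294) i)) (Nat.ble (nat_lit 3292) i)) (Nat.ble (nat_lit 3288) i)) (Nat.ble (nat_lit 3280) i))

def certBlk_n0_103 (i : ℕ) : ℕ := (@Bool.rec (fun _ => ℕ) (@Bool.rec (fun _ => ℕ) (@Bool.rec (fun _ => ℕ) (@Bool.rec (fun _ => ℕ) (@Bool.rec (fun _ => ℕ) cb3296 cb3297 (Nat.ble (nat_lit 3297) i)) (@Bool.rec (fun _ => ℕ) cb3298 cb3299 (Nat.ble (nat_lit 3299) i)) (Nat.ble (nat_lit 3298) i)) (@Bool.rec (fun _ => ℕ) (@Bool.rec (fun _ => ℕ) cb3300 cb3301 (Nat.ble (nat_lit 3301) i)) (@Bool.rec (fun _ => ℕ) cb3302 cb3303 (Nat.ble (nat_lit 3303) i)) (Nat.ble (nat_lit 3302) i)) (Nat.ble (nat_lit 3300) i)) (@Bool.rec (fun _ => ℕ) (@Bool.rec (fun _ => ℕ) (@Bool.rec (fun _ => ℕ) cb3304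 cb3305 (Nat.ble (nat_lit 3305) i)) (@Bool.rec (fun _ => ℕ) cb3306 cb3307 (Nat.ble (nat_lit 3307) i)) (Nat.ble (nat_lit 3306) i)) (@Bool.rec (fun _ => ℕ) (@Bool.rec (fun _ => ℕ) cb3308 cb3309 (Nat.ble (nat_lit 3309) i)) (@Bool.rec (fun _ => ℕ) cb3310 cb3311 (Nat.ble (nat_lit 3311) i)) (Nat.ble (nat_lit 3310) i)) (Nat.ble (nat_lit 3308) i)) (Nat.ble (nat_lit 3304) i)) (@Bool.rec (fun _ => ℕ) (@Bool.rec (fun _ => ℕ) (@Bool.rec (fun _ => ℕ) (@Bool.rec (fun _ => ℕ) cb3312 cb3313 (Nat.ble (nat_lit 3313) i)) (@Bool.rec (fun _ => ℕ) cb3314 cb3315 (Nat.ble (nat_lit 3315) i)) (Nat.ble (nat_lit 3314) i)) (@Bool.rec (fun _ => ℕ) (@Bool.rec (fun _ => ℕ) cb3316 cb3317 (Nat.ble (nat_lit 3317) i)) (@Bool.rec (fun _ => ℕ) cb3318 cb3319 (Nat.ble (nat_lit 3319) i)) (Nat.ble (nat_lit 3318) i)) (Nat.ble (nat_lit 3316) i))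 (@Bool.rec (fun _ => ℕ) (@Bool.rec (fun _ => ℕ) (@Bool.rec (fun _ => ℕ) cb3320 cb3321 (Nat.ble (nat_lit 3321) i)) (@Bool.rec (fun _ => ℕ) cb3322 cb3323 (Nat.ble (nat_lit 3323) i)) (Nat.ble (nat_lit 3322) i)) (@Bool.rec (fun _ => ℕ) (@Bool.rec (fun _ => ℕ) cb3324 cb3325 (Nat.ble (nat_lit 3325) i)) (@Bool.rec (fun _ => ℕ) cb3326 cb3327 (Nat.ble (nat_lit 3327) i)) (Nat.ble (nat_lit 3326) i)) (Nat.ble (nat_lit 3324) i)) (Nat.ble (nat_lit 3320) i)) (Nat.ble (nat_lit 3312) i))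

def certBlk_n0_104 (i : ℕ) : ℕ := (@Bool.rec (fun _ => ℕ) (@Bool.rec (fun _ => ℕ) (@Bool.rec (fun _ => ℕ) (@Bool.rec (fun _ => ℕ) (@Bool.rec (fun _ => ℕ) cb3328 cb3329 (Nat.ble (nat_lit 3329) i)) (@Bool.rec (fun _ => ℕ) cb3330 cb3331 (Nat.ble (nat_lit 3331) i)) (Nat.ble (nat_lit 3330) i)) (@Bool.rec (fun _ => ℕ) (@Bool.rec (fun _ => ℕ) cb3332 cb3333 (Nat.ble (nat_lit 3333) i)) (@Bool.rec (fun _ => ℕ) cb3334 cb3335 (Nat.ble (nat_lit 3335) i)) (Nat.ble (nat_lit 3334) i)) (Nat.ble (nat_lit 3332) i)) (@Bool.rec (fun _ => ℕ) (@Bool.rec (fun _ => ℕ) (@Bool.rec (fun _ => ℕ) cb3336 cb3337 (Nat.ble (nat_lit 3337) i)) (@Bool.rec (fun _ => ℕ) cb3338 cb3339 (Nat.ble (nat_lit 3339) i)) (Nat.ble (nat_lit 3338) i)) (@Bool.rec (fun _ => ℕ) (@Bool.rec (fun _ => ℕ) cb3340 cb3341 (Nat.ble (nat_lit 3341) i)) (@Bool.rec (fun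 _ => ℕ) cb3342 cb3343 (Nat.ble (nat_lit 3343) i)) (Nat.ble (nat_lit 3342) i)) (Nat.ble (nat_lit 3340) i)) (Nat.ble (nat_lit 3336) i)) (@Bool.rec (fun _ => ℕ) (@Bool.rec (fun _ => ℕ) (@Bool.rec (fun _ => ℕ) (@Bool.rec (fun _ => ℕ) cb3344 cb3345 (Nat.ble (nat_lit 3345) i)) (@Bool.rec (fun _ => ℕ) cb3346 cb3347 (Nat.ble (nat_lit 3347) i)) (Nat.ble (nat_lit 3346) i)) (@Bool.rec (fun _ => ℕ) (@Bool.rec (fun _ => ℕ) cb3348 cb3349 (Nat.ble (nat_lit 3349) i)) (@Bool.rec (fun _ => ℕ) cb3350 cb3351 (Nat.ble (nat_lit 3351) i)) (Nat.ble (nat_lit 3350) i)) (Nat.ble (nat_lit 3348) i)) (@Bool.rec (fun _ => ℕ) (@Bool.rec (fun _ => ℕ) (@Bool.rec (fun _ => ℕ) cb3352 cb3353 (Nat.ble (nat_lit 3353) i)) (@Bool.rec (fun _ => ℕ) cb3354 cb3355 (Nat.ble (nat_lit 3355) i)) (Nat.ble (nat_lit 3354) i)) (@Bool.rec (fun _ => ℕ) (@Bool.rec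 (fun _ => ℕ) cb3356 cb3357 (Nat.ble (nat_lit 3357) i)) (@Bool.rec (fun _ => ℕ) cb3358 cb3359 (Nat.ble (nat_lit 3359) i)) (Nat.ble (nat_lit 3358) i)) (Nat.ble (nat_lit 3356) i)) (Nat.ble (nat_lit 3352) i)) (Nat.ble (nat_lit 3344) i))

def certBlk_n0_105 (i : ℕ) : ℕ := (@Bool.rec (fun _ => ℕ) (@Bool.rec (fun _ => ℕ) (@Bool.rec (fun _ => ℕ) (@Bool.rec (fun _ => ℕ) (@Bool.rec (fun _ => ℕ) cb3360 cb3361 (Nat.ble (nat_lit 3361) i)) (@Bool.rec (fun _ => ℕ) cb3362 cb3363 (Nat.ble (nat_lit 3363) i)) (Nat.ble (nat_lit 3362) i)) (@Bool.rec (fun _ => ℕ) (@Bool.rec (fun _ => ℕ) cb3364 cb3365 (Nat.ble (nat_lit 3365) i)) (@Bool.rec (fun _ => ℕ) cb3366 cb3367 (Nat.ble (nat_lit 3367) i)) (Nat.ble (nat_lit 3366) i)) (Nat.ble (nat_lit 3364) i)) (@Bool.rec (fun _ => ℕ) (@Bool.rec (fun _ => ℕ) (@Bool.rec (fun _ => ℕ) cb3368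 cb3369 (Nat.ble (nat_lit 3369) i)) (@Bool.rec (fun _ => ℕ) cb3370 cb3371 (Nat.ble (nat_lit 3371) i)) (Nat.ble (nat_lit 3370) i)) (@Bool.rec (fun _ => ℕ) (@Bool.rec (fun _ => ℕ) cb3372 cb3373 (Nat.ble (nat_lit 3373) i)) (@Bool.rec (fun _ => ℕ) cb3374 cb3375 (Nat.ble (nat_lit 3375) i)) (Nat.ble (nat_lit 3374) i)) (Nat.ble (nat_lit 3372) i)) (Nat.ble (nat_lit 3368) i)) (@Bool.rec (fun _ => ℕ) (@Bool.rec (fun _ => ℕ) (@Bool.rec (fun _ => ℕ) (@Bool.rec (fun _ => ℕ) cb3376 cb3377 (Nat.ble (nat_lit 3377) i)) (@Bool.rec (fun _ => ℕ) cb3378 cb3379 (Nat.ble (nat_lit 3379) i)) (Nat.ble (nat_lit 3378) i)) (@Bool.rec (fun _ => ℕ) (@Bool.rec (fun _ => ℕ) cb3380 cb3381 (Nat.ble (nat_lit 3381) i)) (@Bool.rec (fun _ => ℕ) cb3382 cb3383 (Nat.ble (nat_lit 3383) i)) (Nat.ble (nat_lit 3382) i)) (Nat.ble (nat_lit 3380) i))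 (@Bool.rec (fun _ => ℕ) (@Bool.rec (fun _ => ℕ) (@Bool.rec (fun _ => ℕ) cb3384 cb3385 (Nat.ble (nat_lit 3385) i)) (@Bool.rec (fun _ => ℕ) cb3386 cb3387 (Nat.ble (nat_lit 3387) i)) (Nat.ble (nat_lit 3386) i)) (@Bool.rec (fun _ => ℕ) (@Bool.rec (fun _ => ℕ) cb3388 cb3389 (Nat.ble (nat_lit 3389) i)) (@Bool.rec (fun _ => ℕ) cb3390 cb3391 (Nat.ble (nat_lit 3391) i)) (Nat.ble (nat_lit 3390) i)) (Nat.ble (nat_lit 3388) i)) (Nat.ble (nat_lit 3384) i)) (Nat.ble (nat_lit 3376) i))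

def certBlk_n0_106 (i : ℕ) : ℕ := (@Bool.rec (fun _ => ℕ) (@Bool.rec (fun _ => ℕ) (@Bool.rec (fun _ => ℕ) (@Bool.rec (fun _ => ℕ) (@Bool.rec (fun _ => ℕ) cb3392 cb3393 (Nat.ble (nat_lit 3393) i)) (@Bool.rec (fun _ => ℕ) cb3394 cb3395 (Nat.ble (nat_lit 3395) i)) (Nat.ble (nat_lit 3394) i)) (@Bool.rec (fun _ => ℕ) (@Bool.rec (fun _ => ℕ) cb3396 cb3397 (Nat.ble (nat_lit 3397) i)) (@Bool.rec (fun _ => ℕ) cb3398 cb3399 (Nat.ble (nat_lit 3399) i)) (Nat.ble (nat_lit 3398) i)) (Nat.ble (nat_lit 3396) i)) (@Bool.rec (fun _ => ℕ) (@Bool.rec (fun _ => ℕ) (@Bool.rec (fun _ => ℕ) cb3400 cb3401 (Nat.ble (nat_lit 3401) i)) (@Bool.rec (fun _ => ℕ) cb3402 cb3403 (Nat.ble (nat_lit 3403) i)) (Nat.ble (nat_lit 3402) i)) (@Bool.rec (fun _ => ℕ) (@Bool.rec (fun _ => ℕ) cb3404 cb3405 (Nat.ble (nat_lit 3405) i)) (@Bool.rec (fun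 _ => ℕ) cb3406 cb3407 (Nat.ble (nat_lit 3407) i)) (Nat.ble (nat_lit 3406) i)) (Nat.ble (nat_lit 3404) i)) (Nat.ble (nat_lit 3400) i)) (@Bool.rec (fun _ => ℕ) (@Bool.rec (fun _ => ℕ) (@Bool.rec (fun _ => ℕ) (@Bool.rec (fun _ => ℕ) cb3408 cb3409 (Nat.ble (nat_lit 3409) i)) (@Bool.rec (fun _ => ℕ) cb3410 cb3411 (Nat.ble (nat_lit 3411) i)) (Nat.ble (nat_lit 3410) i)) (@Bool.rec (fun _ => ℕ) (@Bool.rec (fun _ => ℕ) cb3412 cb3413 (Nat.ble (nat_lit 3413) i)) (@Bool.rec (fun _ => ℕ) cb3414 cb3415 (Nat.ble (nat_lit 3415) i)) (Nat.ble (nat_lit 3414) i)) (Nat.ble (nat_lit 3412) i)) (@Bool.rec (fun _ => ℕ) (@Bool.rec (fun _ => ℕ) (@Bool.rec (fun _ => ℕ) cb3416 cb3417 (Nat.ble (nat_lit 3417) i)) (@Bool.rec (fun _ => ℕ) cb3418 cb3419 (Nat.ble (nat_lit 3419) i)) (Nat.ble (nat_lit 3418) i)) (@Bool.rec (fun _ => ℕ) (@Bool.rec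 (fun _ => ℕ) cb3420 cb3421 (Nat.ble (nat_lit 3421) i)) (@Bool.rec (fun _ => ℕ) cb3422 cb3423 (Nat.ble (nat_lit 3423) i)) (Nat.ble (nat_lit 3422) i)) (Nat.ble (nat_lit 3420) i)) (Nat.ble (nat_lit 3416) i)) (Nat.ble (nat_lit 3408) i))

def certBlk_n0_107 (i : ℕ) : ℕ := (@Bool.rec (fun _ => ℕ) (@Bool.rec (fun _ => ℕ) (@Bool.rec (fun _ => ℕ) (@Bool.rec (fun _ => ℕ) (@Bool.rec (fun _ => ℕ) cb3424 cb3425 (Nat.ble (nat_lit 3425) i)) (@Bool.rec (fun _ => ℕ) cb3426 cb3427 (Nat.ble (nat_lit 3427) i)) (Nat.ble (nat_lit 3426) i)) (@Bool.rec (fun _ => ℕ) (@Bool.rec (fun _ => ℕ) cb3428 cb3429 (Nat.ble (nat_lit 3429) i)) (@Bool.rec (fun _ => ℕ) cb3430 cb3431 (Nat.ble (nat_lit 3431) i)) (Nat.ble (nat_lit 3430) i)) (Nat.ble (nat_lit 3428) i)) (@Bool.rec (fun _ => ℕ) (@Bool.rec (fun _ => ℕ) (@Bool.rec (fun _ => ℕ) cb3432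 cb3433 (Nat.ble (nat_lit 3433) i)) (@Bool.rec (fun _ => ℕ) cb3434 cb3435 (Nat.ble (nat_lit 3435) i)) (Nat.ble (nat_lit 3434) i)) (@Bool.rec (fun _ => ℕ) (@Bool.rec (fun _ => ℕ) cb3436 cb3437 (Nat.ble (nat_lit 3437) i)) (@Bool.rec (fun _ => ℕ) cb3438 cb3439 (Nat.ble (nat_lit 3439) i)) (Nat.ble (nat_lit 3438) i)) (Nat.ble (nat_lit 3436) i)) (Nat.ble (nat_lit 3432) i)) (@Bool.rec (fun _ => ℕ) (@Bool.rec (fun _ => ℕ) (@Bool.rec (fun _ => ℕ) (@Bool.rec (fun _ => ℕ) cb3440 cb3441 (Nat.ble (nat_lit 3441) i)) (@Bool.rec (fun _ => ℕ) cb3442 cb3443 (Nat.ble (nat_lit 3443) i)) (Nat.ble (nat_lit 3442) i)) (@Bool.rec (fun _ => ℕ) (@Bool.rec (fun _ => ℕ) cb3444 cb3445 (Nat.ble (nat_lit 3445) i)) (@Bool.rec (fun _ => ℕ) cb3446 cb3447 (Nat.ble (nat_lit 3447) i)) (Nat.ble (nat_lit 3446) i)) (Nat.ble (nat_lit 3444) i))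 (@Bool.rec (fun _ => ℕ) (@Bool.rec (fun _ => ℕ) (@Bool.rec (fun _ => ℕ) cb3448 cb3449 (Nat.ble (nat_lit 3449) i)) (@Bool.rec (fun _ => ℕ) cb3450 cb3451 (Nat.ble (nat_lit 3451) i)) (Nat.ble (nat_lit 3450) i)) (@Bool.rec (fun _ => ℕ) (@Bool.rec (fun _ => ℕ) cb3452 cb3453 (Nat.ble (nat_lit 3453) i)) (@Bool.rec (fun _ => ℕ) cb3454 cb3455 (Nat.ble (nat_lit 3455) i)) (Nat.ble (nat_lit 3454) i)) (Nat.ble (nat_lit 3452) i)) (Nat.ble (nat_lit 3448) i)) (Nat.ble (nat_lit 3440) i))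

def certBlk_n0_108 (i : ℕ) : ℕ := (@Bool.rec (fun _ => ℕ) (@Bool.rec (fun _ => ℕ) (@Bool.rec (fun _ => ℕ) (@Bool.rec (fun _ => ℕ) (@Bool.rec (fun _ => ℕ) cb3456 cb3457 (Nat.ble (nat_lit 3457) i)) (@Bool.rec (fun _ => ℕ) cb3458 cb3459 (Nat.ble (nat_lit 3459) i)) (Nat.ble (nat_lit 3458) i)) (@Bool.rec (fun _ => ℕ) (@Bool.rec (fun _ => ℕ) cb3460 cb3461 (Nat.ble (nat_lit 3461) i)) (@Bool.rec (fun _ => ℕ) cb3462 cb3463 (Nat.ble (nat_lit 3463) i)) (Nat.ble (nat_lit 3462) i)) (Nat.ble (nat_lit 3460) i)) (@Bool.rec (fun _ => ℕ) (@Bool.rec (fun _ => ℕ) (@Bool.rec (fun _ => ℕ) cb3464 cb3465 (Nat.ble (nat_lit 3465) i)) (@Bool.rec (fun _ => ℕ) cb3466 cb3467 (Nat.ble (nat_lit 3467) i)) (Nat.ble (nat_lit 3466) i)) (@Bool.rec (fun _ => ℕ) (@Bool.rec (fun _ => ℕ) cb3468 cb3469 (Nat.ble (nat_lit 3469) i)) (@Bool.rec (fun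 _ => ℕ) cb3470 cb3471 (Nat.ble (nat_lit 3471) i)) (Nat.ble (nat_lit 3470) i)) (Nat.ble (nat_lit 3468) i)) (Nat.ble (nat_lit 3464) i)) (@Bool.rec (fun _ => ℕ) (@Bool.rec (fun _ => ℕ) (@Bool.rec (fun _ => ℕ) (@Bool.rec (fun _ => ℕ) cb3472 cb3473 (Nat.ble (nat_lit 3473) i)) (@Bool.rec (fun _ => ℕ) cb3474 cb3475 (Nat.ble (nat_lit 3475) i)) (Nat.ble (nat_lit 3474) i)) (@Bool.rec (fun _ => ℕ) (@Bool.rec (fun _ => ℕ) cb3476 cb3477 (Nat.ble (nat_lit 3477) i)) (@Bool.rec (fun _ => ℕ) cb3478 cb3479 (Nat.ble (nat_lit 3479) i)) (Nat.ble (nat_lit 3478) i)) (Nat.ble (nat_lit 3476) i)) (@Bool.rec (fun _ => ℕ) (@Bool.rec (fun _ => ℕ) (@Bool.rec (fun _ => ℕ) cb3480 cb3481 (Nat.ble (nat_lit 3481) i)) (@Bool.rec (fun _ => ℕ) cb3482 cb3483 (Nat.ble (nat_lit 3483) i)) (Nat.ble (nat_lit 3482) i)) (@Bool.rec (fun _ => ℕ) (@Bool.rec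 (fun _ => ℕ) cb3484 cb3485 (Nat.ble (nat_lit 3485) i)) (@Bool.rec (fun _ => ℕ) cb3486 cb3487 (Nat.ble (nat_lit 3487) i)) (Nat.ble (nat_lit 3486) i)) (Nat.ble (nat_lit 3484) i)) (Nat.ble (nat_lit 3480) i)) (Nat.ble (nat_lit 3472) i))

def certBlk_n0_109 (i : ℕ) : ℕ := (@Bool.rec (fun _ => ℕ) (@Bool.rec (fun _ => ℕ) (@Bool.rec (fun _ => ℕ) (@Bool.rec (fun _ => ℕ) (@Bool.rec (fun _ => ℕ) cb3488 cb3489 (Nat.ble (nat_lit 3489) i)) (@Bool.rec (fun _ => ℕ) cb3490 cb3491 (Nat.ble (nat_lit 3491) i)) (Nat.ble (nat_lit 3490) i)) (@Bool.rec (fun _ => ℕ) (@Bool.rec (fun _ => ℕ) cb3492 cb3493 (Nat.ble (nat_lit 3493) i)) (@Bool.rec (fun _ => ℕ) cb3494 cb3495 (Nat.ble (nat_lit 3495) i)) (Nat.ble (nat_lit 3494) i)) (Nat.ble (nat_lit 3492) i)) (@Bool.rec (fun _ => ℕ) (@Bool.rec (fun _ => ℕ) (@Bool.rec (fun _ => ℕ) cb3496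 cb3497 (Nat.ble (nat_lit 3497) i)) (@Bool.rec (fun _ => ℕ) cb3498 cb3499 (Nat.ble (nat_lit 3499) i)) (Nat.ble (nat_lit 3498) i)) (@Bool.rec (fun _ => ℕ) (@Bool.rec (fun _ => ℕ) cb3500 cb3501 (Nat.ble (nat_lit 3501) i)) (@Bool.rec (fun _ => ℕ) cb3502 cb3503 (Nat.ble (nat_lit 3503) i)) (Nat.ble (nat_lit 3502) i)) (Nat.ble (nat_lit 3500) i)) (Nat.ble (nat_lit 3496) i)) (@Bool.rec (fun _ => ℕ) (@Bool.rec (fun _ => ℕ) (@Bool.rec (fun _ => ℕ) (@Bool.rec (fun _ => ℕ) cb3504 cb3505 (Nat.ble (nat_lit 3505) i)) (@Bool.rec (fun _ => ℕ) cb3506 cb3507 (Nat.ble (nat_lit 3507) i)) (Nat.ble (nat_lit 3506) i)) (@Bool.rec (fun _ => ℕ) (@Bool.rec (fun _ => ℕ) cb3508 cb3509 (Nat.ble (nat_lit 3509) i)) (@Bool.rec (fun _ => ℕ) cb3510 cb3511 (Nat.ble (nat_lit 3511) i)) (Nat.ble (nat_lit 3510) i)) (Nat.ble (nat_lit 3508) i))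 (@Bool.rec (fun _ => ℕ) (@Bool.rec (fun _ => ℕ) (@Bool.rec (fun _ => ℕ) cb3512 cb3513 (Nat.ble (nat_lit 3513) i)) (@Bool.rec (fun _ => ℕ) cb3514 cb3515 (Nat.ble (nat_lit 3515) i)) (Nat.ble (nat_lit 3514) i)) (@Bool.rec (fun _ => ℕ) (@Bool.rec (fun _ => ℕ) cb3516 cb3517 (Nat.ble (nat_lit 3517) i)) (@Bool.rec (fun _ => ℕ) cb3518 cb3519 (Nat.ble (nat_lit 3519) i)) (Nat.ble (nat_lit 3518) i)) (Nat.ble (nat_lit 3516) i)) (Nat.ble (nat_lit 3512) i)) (Nat.ble (nat_lit 3504) i))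

def certBlk_n0_110 (i : ℕ) : ℕ := (@Bool.rec (fun _ => ℕ) (@Bool.rec (fun _ => ℕ) (@Bool.rec (fun _ => ℕ) (@Bool.rec (fun _ => ℕ) (@Bool.rec (fun _ => ℕ) cb3520 cb3521 (Nat.ble (nat_lit 3521) i)) (@Bool.rec (fun _ => ℕ) cb3522 cb3523 (Nat.ble (nat_lit 3523) i)) (Nat.ble (nat_lit 3522) i)) (@Bool.rec (fun _ => ℕ) (@Bool.rec (fun _ => ℕ) cb3524 cb3525 (Nat.ble (nat_lit 3525) i)) (@Bool.rec (fun _ => ℕ) cb3526 cb3527 (Nat.ble (nat_lit 3527) i)) (Nat.ble (nat_lit 3526) i)) (Nat.ble (nat_lit 3524) i)) (@Bool.rec (fun _ => ℕ) (@Bool.rec (fun _ => ℕ) (@Bool.rec (fun _ => ℕ) cb3528 cb3529 (Nat.ble (nat_lit 3529) i)) (@Bool.rec (fun _ => ℕ) cb3530 cb3531 (Nat.ble (nat_lit 3531) i)) (Nat.ble (nat_lit 3530) i)) (@Bool.rec (fun _ => ℕ) (@Bool.rec (fun _ => ℕ) cb3532 cb3533 (Nat.ble (nat_lit 3533) i)) (@Bool.rec (fun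 _ => ℕ) cb3534 cb3535 (Nat.ble (nat_lit 3535) i)) (Nat.ble (nat_lit 3534) i)) (Nat.ble (nat_lit 3532) i)) (Nat.ble (nat_lit 3528) i)) (@Bool.rec (fun _ => ℕ) (@Bool.rec (fun _ => ℕ) (@Bool.rec (fun _ => ℕ) (@Bool.rec (fun _ => ℕ) cb3536 cb3537 (Nat.ble (nat_lit 3537) i)) (@Bool.rec (fun _ => ℕ) cb3538 cb3539 (Nat.ble (nat_lit 3539) i)) (Nat.ble (nat_lit 3538) i)) (@Bool.rec (fun _ => ℕ) (@Bool.rec (fun _ => ℕ) cb3540 cb3541 (Nat.ble (nat_lit 3541) i)) (@Bool.rec (fun _ => ℕ) cb3542 cb3543 (Nat.ble (nat_lit 3543) i)) (Nat.ble (nat_lit 3542) i)) (Nat.ble (nat_lit 3540) i)) (@Bool.rec (fun _ => ℕ) (@Bool.rec (fun _ => ℕ) (@Bool.rec (fun _ => ℕ) cb3544 cb3545 (Nat.ble (nat_lit 3545) i)) (@Bool.rec (fun _ => ℕ) cb3546 cb3547 (Nat.ble (nat_lit 3547) i)) (Nat.ble (nat_lit 3546) i)) (@Bool.rec (fun _ => ℕ) (@Bool.rec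 (fun _ => ℕ) cb3548 cb3549 (Nat.ble (nat_lit 3549) i)) (@Bool.rec (fun _ => ℕ) cb3550 cb3551 (Nat.ble (nat_lit 3551) i)) (Nat.ble (nat_lit 3550) i)) (Nat.ble (nat_lit 3548) i)) (Nat.ble (nat_lit 3544) i)) (Nat.ble (nat_lit 3536) i))

def certBlk_n0_111 (i : ℕ) : ℕ := (@Bool.rec (fun _ => ℕ) (@Bool.rec (fun _ => ℕ) (@Bool.rec (fun _ => ℕ) (@Bool.rec (fun _ => ℕ) (@Bool.rec (fun _ => ℕ) cb3552 cb3553 (Nat.ble (nat_lit 3553) i)) (@Bool.rec (fun _ => ℕ) cb3554 cb3555 (Nat.ble (nat_lit 3555) i)) (Nat.ble (nat_lit 3554) i)) (@Bool.rec (fun _ => ℕ) (@Bool.rec (fun _ => ℕ) cb3556 cb3557 (Nat.ble (nat_lit 3557) i)) (@Bool.rec (fun _ => ℕ) cb3558 cb3559 (Nat.ble (nat_lit 3559) i)) (Nat.ble (nat_lit 3558) i)) (Nat.ble (nat_lit 3556) i)) (@Bool.rec (fun _ => ℕ) (@Bool.rec (fun _ => ℕ) (@Bool.rec (fun _ => ℕ) cb3560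 cb3561 (Nat.ble (nat_lit 3561) i)) (@Bool.rec (fun _ => ℕ) cb3562 cb3563 (Nat.ble (nat_lit 3563) i)) (Nat.ble (nat_lit 3562) i)) (@Bool.rec (fun _ => ℕ) (@Bool.rec (fun _ => ℕ) cb3564 cb3565 (Nat.ble (nat_lit 3565) i)) (@Bool.rec (fun _ => ℕ) cb3566 cb3567 (Nat.ble (nat_lit 3567) i)) (Nat.ble (nat_lit 3566) i)) (Nat.ble (nat_lit 3564) i)) (Nat.ble (nat_lit 3560) i)) (@Bool.rec (fun _ => ℕ) (@Bool.rec (fun _ => ℕ) (@Bool.rec (fun _ => ℕ) (@Bool.rec (fun _ => ℕ) cb3568 cb3569 (Nat.ble (nat_lit 3569) i)) (@Bool.rec (fun _ => ℕ) cb3570 cb3571 (Nat.ble (nat_lit 3571) i)) (Nat.ble (nat_lit 3570) i)) (@Bool.rec (fun _ => ℕ) (@Bool.rec (fun _ => ℕ) cb3572 cb3573 (Nat.ble (nat_lit 3573) i)) (@Bool.rec (fun _ => ℕ) cb3574 cb3575 (Nat.ble (nat_lit 3575) i)) (Nat.ble (nat_lit 3574) i)) (Nat.ble (nat_lit 3572) i))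 (@Bool.rec (fun _ => ℕ) (@Bool.rec (fun _ => ℕ) (@Bool.rec (fun _ => ℕ) cb3576 cb3577 (Nat.ble (nat_lit 3577) i)) (@Bool.rec (fun _ => ℕ) cb3578 cb3579 (Nat.ble (nat_lit 3579) i)) (Nat.ble (nat_lit 3578) i)) (@Bool.rec (fun _ => ℕ) (@Bool.rec (fun _ => ℕ) cb3580 cb3581 (Nat.ble (nat_lit 3581) i)) (@Bool.rec (fun _ => ℕ) cb3582 cb3583 (Nat.ble (nat_lit 3583) i)) (Nat.ble (nat_lit 3582) i)) (Nat.ble (nat_lit 3580) i)) (Nat.ble (nat_lit 3576) i)) (Nat.ble (nat_lit 3568) i))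

def certBlk_n0_112 (i : ℕ) : ℕ := (@Bool.rec (fun _ => ℕ) (@Bool.rec (fun _ => ℕ) (@Bool.rec (fun _ => ℕ) (@Bool.rec (fun _ => ℕ) (@Bool.rec (fun _ => ℕ) cb3584 cb3585 (Nat.ble (nat_lit 3585) i)) (@Bool.rec (fun _ => ℕ) cb3586 cb3587 (Nat.ble (nat_lit 3587) i)) (Nat.ble (nat_lit 3586) i)) (@Bool.rec (fun _ => ℕ) (@Bool.rec (fun _ => ℕ) cb3588 cb3589 (Nat.ble (nat_lit 3589) i)) (@Bool.rec (fun _ => ℕ) cb3590 cb3591 (Nat.ble (nat_lit 3591) i)) (Nat.ble (nat_lit 3590) i)) (Nat.ble (nat_lit 3588) i)) (@Bool.rec (fun _ => ℕ) (@Bool.rec (fun _ => ℕ) (@Bool.rec (fun _ => ℕ) cb3592 cb3593 (Nat.ble (nat_lit 3593) i)) (@Bool.rec (fun _ => ℕ) cb3594 cb3595 (Nat.ble (nat_lit 3595) i)) (Nat.ble (nat_lit 3594) i)) (@Bool.rec (fun _ => ℕ) (@Bool.rec (fun _ => ℕ) cb3596 cb3597 (Nat.ble (nat_lit 3597) i)) (@Bool.rec (fun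 _ => ℕ) cb3598 cb3599 (Nat.ble (nat_lit 3599) i)) (Nat.ble (nat_lit 3598) i)) (Nat.ble (nat_lit 3596) i)) (Nat.ble (nat_lit 3592) i)) (@Bool.rec (fun _ => ℕ) (@Bool.rec (fun _ => ℕ) (@Bool.rec (fun _ => ℕ) (@Bool.rec (fun _ => ℕ) cb3600 cb3601 (Nat.ble (nat_lit 3601) i)) (@Bool.rec (fun _ => ℕ) cb3602 cb3603 (Nat.ble (nat_lit 3603) i)) (Nat.ble (nat_lit 3602) i)) (@Bool.rec (fun _ => ℕ) (@Bool.rec (fun _ => ℕ) cb3604 cb3605 (Nat.ble (nat_lit 3605) i)) (@Bool.rec (fun _ => ℕ) cb3606 cb3607 (Nat.ble (nat_lit 3607) i)) (Nat.ble (nat_lit 3606) i)) (Nat.ble (nat_lit 3604) i)) (@Bool.rec (fun _ => ℕ) (@Bool.rec (fun _ => ℕ) (@Bool.rec (fun _ => ℕ) cb3608 cb3609 (Nat.ble (nat_lit 3609) i)) (@Bool.rec (fun _ => ℕ) cb3610 cb3611 (Nat.ble (nat_lit 3611) i)) (Nat.ble (nat_lit 3610) i)) (@Bool.rec (fun _ => ℕ) (@Bool.rec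 (fun _ => ℕ) cb3612 cb3613 (Nat.ble (nat_lit 3613) i)) (@Bool.rec (fun _ => ℕ) cb3614 cb3615 (Nat.ble (nat_lit 3615) i)) (Nat.ble (nat_lit 3614) i)) (Nat.ble (nat_lit 3612) i)) (Nat.ble (nat_lit 3608) i)) (Nat.ble (nat_lit 3600) i))

def certBlk_n0_113 (i : ℕ) : ℕ := (@Bool.rec (fun _ => ℕ) (@Bool.rec (fun _ => ℕ) (@Bool.rec (fun _ => ℕ) (@Bool.rec (fun _ => ℕ) (@Bool.rec (fun _ => ℕ) cb3616 cb3617 (Nat.ble (nat_lit 3617) i)) (@Bool.rec (fun _ => ℕ) cb3618 cb3619 (Nat.ble (nat_lit 3619) i)) (Nat.ble (nat_lit 3618) i)) (@Bool.rec (fun _ => ℕ) (@Bool.rec (fun _ => ℕ) cb3620 cb3621 (Nat.ble (nat_lit 3621) i)) (@Bool.rec (fun _ => ℕ) cb3622 cb3623 (Nat.ble (nat_lit 3623) i)) (Nat.ble (nat_lit 3622) i)) (Nat.ble (nat_lit 3620) i)) (@Bool.rec (fun _ => ℕ) (@Bool.rec (fun _ => ℕ) (@Bool.rec (fun _ => ℕ) cb3624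 cb3625 (Nat.ble (nat_lit 3625) i)) (@Bool.rec (fun _ => ℕ) cb3626 cb3627 (Nat.ble (nat_lit 3627) i)) (Nat.ble (nat_lit 3626) i)) (@Bool.rec (fun _ => ℕ) (@Bool.rec (fun _ => ℕ) cb3628 cb3629 (Nat.ble (nat_lit 3629) i)) (@Bool.rec (fun _ => ℕ) cb3630 cb3631 (Nat.ble (nat_lit 3631) i)) (Nat.ble (nat_lit 3630) i)) (Nat.ble (nat_lit 3628) i)) (Nat.ble (nat_lit 3624) i)) (@Bool.rec (fun _ => ℕ) (@Bool.rec (fun _ => ℕ) (@Bool.rec (fun _ => ℕ) (@Bool.rec (fun _ => ℕ) cb3632 cb3633 (Nat.ble (nat_lit 3633) i)) (@Bool.rec (fun _ => ℕ) cb3634 cb3635 (Nat.ble (nat_lit 3635) i)) (Nat.ble (nat_lit 3634) i)) (@Bool.rec (fun _ => ℕ) (@Bool.rec (fun _ => ℕ) cb3636 cb3637 (Nat.ble (nat_lit 3637) i)) (@Bool.rec (fun _ => ℕ) cb3638 cb3639 (Nat.ble (nat_lit 3639) i)) (Nat.ble (nat_lit 3638) i)) (Nat.ble (nat_lit 3636) i))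 (@Bool.rec (fun _ => ℕ) (@Bool.rec (fun _ => ℕ) (@Bool.rec (fun _ => ℕ) cb3640 cb3641 (Nat.ble (nat_lit 3641) i)) (@Bool.rec (fun _ => ℕ) cb3642 cb3643 (Nat.ble (nat_lit 3643) i)) (Nat.ble (nat_lit 3642) i)) (@Bool.rec (fun _ => ℕ) (@Bool.rec (fun _ => ℕ) cb3644 cb3645 (Nat.ble (nat_lit 3645) i)) (@Bool.rec (fun _ => ℕ) cb3646 cb3647 (Nat.ble (nat_lit 3647) i)) (Nat.ble (nat_lit 3646) i)) (Nat.ble (nat_lit 3644) i)) (Nat.ble (nat_lit 3640) i)) (Nat.ble (nat_lit 3632) i))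

def certBlk_n0_114 (i : ℕ) : ℕ := (@Bool.rec (fun _ => ℕ) (@Bool.rec (fun _ => ℕ) (@Bool.rec (fun _ => ℕ) (@Bool.rec (fun _ => ℕ) (@Bool.rec (fun _ => ℕ) cb3648 cb3649 (Nat.ble (nat_lit 3649) i)) (@Bool.rec (fun _ => ℕ) cb3650 cb3651 (Nat.ble (nat_lit 3651) i)) (Nat.ble (nat_lit 3650) i)) (@Bool.rec (fun _ => ℕ) (@Bool.rec (fun _ => ℕ) cb3652 cb3653 (Nat.ble (nat_lit 3653) i)) (@Bool.rec (fun _ => ℕ) cb3654 cb3655 (Nat.ble (nat_lit 3655) i)) (Nat.ble (nat_lit 3654) i)) (Nat.ble (nat_lit 3652) i)) (@Bool.rec (fun _ => ℕ) (@Bool.rec (fun _ => ℕ) (@Bool.rec (fun _ => ℕ) cb3656 cb3657 (Nat.ble (nat_lit 3657) i)) (@Bool.rec (fun _ => ℕ) cb3658 cb3659 (Nat.ble (nat_lit 3659) i)) (Nat.ble (nat_lit 3658) i)) (@Bool.rec (fun _ => ℕ) (@Bool.rec (fun _ => ℕ) cb3660 cb3661 (Nat.ble (nat_lit 3661) i)) (@Bool.rec (fun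 _ => ℕ) cb3662 cb3663 (Nat.ble (nat_lit 3663) i)) (Nat.ble (nat_lit 3662) i)) (Nat.ble (nat_lit 3660) i)) (Nat.ble (nat_lit 3656) i)) (@Bool.rec (fun _ => ℕ) (@Bool.rec (fun _ => ℕ) (@Bool.rec (fun _ => ℕ) (@Bool.rec (fun _ => ℕ) cb3664 cb3665 (Nat.ble (nat_lit 3665) i)) (@Bool.rec (fun _ => ℕ) cb3666 cb3667 (Nat.ble (nat_lit 3667) i)) (Nat.ble (nat_lit 3666) i)) (@Bool.rec (fun _ => ℕ) (@Bool.rec (fun _ => ℕ) cb3668 cb3669 (Nat.ble (nat_lit 3669) i)) (@Bool.rec (fun _ => ℕ) cb3670 cb3671 (Nat.ble (nat_lit 3671) i)) (Nat.ble (nat_lit 3670) i)) (Nat.ble (nat_lit 3668) i)) (@Bool.rec (fun _ => ℕ) (@Bool.rec (fun _ => ℕ) (@Bool.rec (fun _ => ℕ) cb3672 cb3673 (Nat.ble (nat_lit 3673) i)) (@Bool.rec (fun _ => ℕ) cb3674 cb3675 (Nat.ble (nat_lit 3675) i)) (Nat.ble (nat_lit 3674) i)) (@Bool.rec (fun _ => ℕ) (@Bool.rec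 (fun _ => ℕ) cb3676 cb3677 (Nat.ble (nat_lit 3677) i)) (@Bool.rec (fun _ => ℕ) cb3678 cb3679 (Nat.ble (nat_lit 3679) i)) (Nat.ble (nat_lit 3678) i)) (Nat.ble (nat_lit 3676) i)) (Nat.ble (nat_lit 3672) i)) (Nat.ble (nat_lit 3664) i))

def certBlk_n0_115 (i : ℕ) : ℕ := (@Bool.rec (fun _ => ℕ) (@Bool.rec (fun _ => ℕ) (@Bool.rec (fun _ => ℕ) cb3680 cb3681 (Nat.ble (nat_lit 3681) i)) (@Bool.rec (fun _ => ℕ) cb3682 cb3683 (Nat.ble (nat_lit 3683) i)) (Nat.ble (nat_lit 3682) i)) (@Bool.rec (fun _ => ℕ) (@Bool.rec (fun _ => ℕ) cb3684 cb3685 (Nat.ble (nat_lit 3685) i)) (@Bool.rec (fun _ => ℕ) cb3686 cb3687 (Nat.ble (nat_lit 3687) i)) (Nat.ble (nat_lit 3686) i)) (Nat.ble (nat_lit 3684) i))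

def certBlk_n1_0 (i : ℕ) : ℕ := (@Bool.rec (fun _ => ℕ) (@Bool.rec (fun _ => ℕ) (@Bool.rec (fun _ => ℕ) (@Bool.rec (fun _ => ℕ) (@Bool.rec (fun _ => ℕ) (certBlk_n0_0 i) (certBlk_n0_1 i) (Nat.ble (nat_lit 32) i)) (@Bool.rec (fun _ => ℕ) (certBlk_n0_2 i) (certBlk_n0_3 i) (Nat.ble (nat_lit 96) i)) (Nat.ble (nat_lit 64) i)) (@Bool.rec (fun _ => ℕ) (@Bool.rec (fun _ => ℕ) (certBlk_n0_4 i) (certBlk_n0_5 i) (Nat.ble (nat_lit 160) i)) (@Bool.rec (fun _ => ℕ) (certBlk_n0_6 i) (certBlk_n0_7 i) (Nat.ble (nat_lit 224) i)) (Nat.ble (nat_lit 192) i)) (Nat.ble (nat_lit 128) i)) (@Bool.rec (fun _ => ℕ) (@Bool.rec (fun _ => ℕ) (@Bool.rec (fun _ => ℕ) (certBlk_n0_8 i) (certBlk_n0_9 i) (Nat.ble (nat_lit 288) i)) (@Bool.rec (fun _ => ℕ) (certBlk_n0_10 i) (certBlk_n0_11 i) (Nat.ble (nat_lit 352) i)) (Nat.ble (nat_lit 320)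 i)) (@Bool.rec (fun _ => ℕ) (@Bool.rec (fun _ => ℕ) (certBlk_n0_12 i) (certBlk_n0_13 i) (Nat.ble (nat_lit 416) i)) (@Bool.rec (fun _ => ℕ) (certBlk_n0_14 i) (certBlk_n0_15 i) (Nat.ble (nat_lit 480) i)) (Nat.ble (nat_lit 448) i)) (Nat.ble (nat_lit 384) i)) (Nat.ble (nat_lit 256) i)) (@Bool.rec (fun _ => ℕ) (@Bool.rec (fun _ => ℕ) (@Bool.rec (fun _ => ℕ) (@Bool.rec (fun _ => ℕ) (certBlk_n0_16 i) (certBlk_n0_17 i) (Nat.ble (nat_lit 544) i)) (@Bool.rec (fun _ => ℕ) (certBlk_n0_18 i) (certBlk_n0_19 i) (Nat.ble (nat_lit 608) i)) (Nat.ble (nat_lit 576) i)) (@Bool.rec (fun _ => ℕ) (@Bool.rec (fun _ => ℕ) (certBlk_n0_20 i) (certBlk_n0_21 i) (Nat.ble (nat_lit 672) i)) (@Bool.rec (fun _ => ℕ) (certBlk_n0_22 i) (certBlk_n0_23 i) (Nat.ble (nat_lit 736) i)) (Nat.ble (nat_lit 704) i)) (Nat.ble (nat_lit 640) i)) (@Bool.rec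 (fun _ => ℕ) (@Bool.rec (fun _ => ℕ) (@Bool.rec (fun _ => ℕ) (certBlk_n0_24 i) (certBlk_n0_25 i) (Nat.ble (nat_lit 800) i)) (@Bool.rec (fun _ => ℕ) (certBlk_n0_26 i) (certBlk_n0_27 i) (Nat.ble (nat_lit 864) i)) (Nat.ble (nat_lit 832) i)) (@Bool.rec (fun _ => ℕ) (@Bool.rec (fun _ => ℕ) (certBlk_n0_28 i) (certBlk_n0_29 i) (Nat.ble (nat_lit 928) i)) (@Bool.rec (fun _ => ℕ) (certBlk_n0_30 i) (certBlk_n0_31 i) (Nat.ble (nat_lit 992) i)) (Nat.ble (nat_lit 960) i)) (Nat.ble (nat_lit 896) i)) (Nat.ble (nat_lit 768) i)) (Nat.ble (nat_lit 512) i))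

def certBlk_n1_1 (i : ℕ) : ℕ := (@Bool.rec (fun _ => ℕ) (@Bool.rec (fun _ => ℕ) (@Bool.rec (fun _ => ℕ) (@Bool.rec (fun _ => ℕ) (@Bool.rec (fun _ => ℕ) (certBlk_n0_32 i) (certBlk_n0_33 i) (Nat.ble (nat_lit 1056) i)) (@Bool.rec (fun _ => ℕ) (certBlk_n0_34 i) (certBlk_n0_35 i) (Nat.ble (nat_lit 1120) i)) (Nat.ble (nat_lit 1088) i)) (@Bool.rec (fun _ => ℕ) (@Bool.rec (fun _ => ℕ) (certBlk_n0_36 i) (certBlk_n0_37 i) (Nat.ble (nat_lit 1184) i)) (@Bool.rec (fun _ => ℕ) (certBlk_n0_38 i) (certBlk_n0_39 i) (Nat.ble (nat_lit 1248) i)) (Nat.ble (nat_lit 1216) i)) (Nat.ble (nat_lit 1152) i)) (@Bool.rec (fun _ => ℕ) (@Bool.rec (fun _ => ℕ) (@Bool.rec (fun _ => ℕ) (certBlk_n0_40 i) (certBlk_n0_41 i) (Nat.ble (nat_lit 1312) i)) (@Bool.rec (fun _ => ℕ) (certBlk_n0_42 i) (certBlk_n0_43 i) (Nat.ble (nat_lit 1376) i))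 (Nat.ble (nat_lit 1344) i)) (@Bool.rec (fun _ => ℕ) (@Bool.rec (fun _ => ℕ) (certBlk_n0_44 i) (certBlk_n0_45 i) (Nat.ble (nat_lit 1440) i)) (@Bool.rec (fun _ => ℕ) (certBlk_n0_46 i) (certBlk_n0_47 i) (Nat.ble (nat_lit 1504) i)) (Nat.ble (nat_lit 1472) i)) (Nat.ble (nat_lit 1408) i)) (Nat.ble (nat_lit 1280) i)) (@Bool.rec (fun _ => ℕ) (@Bool.rec (fun _ => ℕ) (@Bool.rec (fun _ => ℕ) (@Bool.rec (fun _ => ℕ) (certBlk_n0_48 i) (certBlk_n0_49 i) (Nat.ble (nat_lit 1568) i)) (@Bool.rec (fun _ => ℕ) (certBlk_n0_50 i) (certBlk_n0_51 i) (Nat.ble (nat_lit 1632) i)) (Nat.ble (nat_lit 1600) i)) (@Bool.rec (fun _ => ℕ) (@Bool.rec (fun _ => ℕ) (certBlk_n0_52 i) (certBlk_n0_53 i) (Nat.ble (nat_lit 1696) i)) (@Bool.rec (fun _ => ℕ) (certBlk_n0_54 i) (certBlk_n0_55 i) (Nat.ble (nat_lit 1760) i)) (Nat.ble (nat_lit 1728) i))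 (Nat.ble (nat_lit 1664) i)) (@Bool.rec (fun _ => ℕ) (@Bool.rec (fun _ => ℕ) (@Bool.rec (fun _ => ℕ) (certBlk_n0_56 i) (certBlk_n0_57 i) (Nat.ble (nat_lit 1824) i)) (@Bool.rec (fun _ => ℕ) (certBlk_n0_58 i) (certBlk_n0_59 i) (Nat.ble (nat_lit 1888) i)) (Nat.ble (nat_lit 1856) i)) (@Bool.rec (fun _ => ℕ) (@Bool.rec (fun _ => ℕ) (certBlk_n0_60 i) (certBlk_n0_61 i) (Nat.ble (nat_lit 1952) i)) (@Bool.rec (fun _ => ℕ) (certBlk_n0_62 i) (certBlk_n0_63 i) (Nat.ble (nat_lit 2016) i)) (Nat.ble (nat_lit 1984) i)) (Nat.ble (nat_lit 1920) i)) (Nat.ble (nat_lit 1792) i)) (Nat.ble (nat_lit 1536) i))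

def certBlk_n1_2 (i : ℕ) : ℕ := (@Bool.rec (fun _ => ℕ) (@Bool.rec (fun _ => ℕ) (@Bool.rec (fun _ => ℕ) (@Bool.rec (fun _ => ℕ) (@Bool.rec (fun _ => ℕ) (certBlk_n0_64 i) (certBlk_n0_65 i) (Nat.ble (nat_lit 2080) i)) (@Bool.rec (fun _ => ℕ) (certBlk_n0_66 i) (certBlk_n0_67 i) (Nat.ble (nat_lit 2144) i)) (Nat.ble (nat_lit 2112) i)) (@Bool.rec (fun _ => ℕ) (@Bool.rec (fun _ => ℕ) (certBlk_n0_68 i) (certBlk_n0_69 i) (Nat.ble (nat_lit 2208) i)) (@Bool.rec (fun _ => ℕ) (certBlk_n0_70 i) (certBlk_n0_71 i) (Nat.ble (nat_lit 2272) i)) (Nat.ble (nat_lit 2240) i)) (Nat.ble (nat_lit 2176) i)) (@Bool.rec (fun _ => ℕ) (@Bool.rec (fun _ => ℕ) (@Bool.rec (fun _ => ℕ) (certBlk_n0_72 i) (certBlk_n0_73 i) (Nat.ble (nat_lit 2336) i)) (@Bool.rec (fun _ => ℕ) (certBlk_n0_74 i) (certBlk_n0_75 i) (Nat.ble (nat_lit 2400) i))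 (Nat.ble (nat_lit 2368) i)) (@Bool.rec (fun _ => ℕ) (@Bool.rec (fun _ => ℕ) (certBlk_n0_76 i) (certBlk_n0_77 i) (Nat.ble (nat_lit 2464) i)) (@Bool.rec (fun _ => ℕ) (certBlk_n0_78 i) (certBlk_n0_79 i) (Nat.ble (nat_lit 2528) i)) (Nat.ble (nat_lit 2496) i)) (Nat.ble (nat_lit 2432) i)) (Nat.ble (nat_lit 2304) i)) (@Bool.rec (fun _ => ℕ) (@Bool.rec (fun _ => ℕ) (@Bool.rec (fun _ => ℕ) (@Bool.rec (fun _ => ℕ) (certBlk_n0_80 i) (certBlk_n0_81 i) (Nat.ble (nat_lit 2592) i)) (@Bool.rec (fun _ => ℕ) (certBlk_n0_82 i) (certBlk_n0_83 i) (Nat.ble (nat_lit 2656) i)) (Nat.ble (nat_lit 2624) i)) (@Bool.rec (fun _ => ℕ) (@Bool.rec (fun _ => ℕ) (certBlk_n0_84 i) (certBlk_n0_85 i) (Nat.ble (nat_lit 2720) i)) (@Bool.rec (fun _ => ℕ) (certBlk_n0_86 i) (certBlk_n0_87 i) (Nat.ble (nat_lit 2784) i)) (Nat.ble (nat_lit 2752) i))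 (Nat.ble (nat_lit 2688) i)) (@Bool.rec (fun _ => ℕ) (@Bool.rec (fun _ => ℕ) (@Bool.rec (fun _ => ℕ) (certBlk_n0_88 i) (certBlk_n0_89 i) (Nat.ble (nat_lit 2848) i)) (@Bool.rec (fun _ => ℕ) (certBlk_n0_90 i) (certBlk_n0_91 i) (Nat.ble (nat_lit 2912) i)) (Nat.ble (nat_lit 2880) i)) (@Bool.rec (fun _ => ℕ) (@Bool.rec (fun _ => ℕ) (certBlk_n0_92 i) (certBlk_n0_93 i) (Nat.ble (nat_lit 2976) i)) (@Bool.rec (fun _ => ℕ) (certBlk_n0_94 i) (certBlk_n0_95 i) (Nat.ble (nat_lit 3040) i)) (Nat.ble (nat_lit 3008) i)) (Nat.ble (nat_lit 2944) i)) (Nat.ble (nat_lit 2816) i)) (Nat.ble (nat_lit 2560) i))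

def certBlk_n1_3 (i : ℕ) : ℕ := (@Bool.rec (fun _ => ℕ) (@Bool.rec (fun _ => ℕ) (@Bool.rec (fun _ => ℕ) (@Bool.rec (fun _ => ℕ) (certBlk_n0_96 i) (certBlk_n0_97 i) (Nat.ble (nat_lit 3104) i)) (@Bool.rec (fun _ => ℕ) (certBlk_n0_98 i) (@Bool.rec (fun _ => ℕ) (certBlk_n0_99 i) (certBlk_n0_100 i) (Nat.ble (nat_lit 3200) i)) (Nat.ble (nat_lit 3168) i)) (Nat.ble (nat_lit 3136) i)) (@Bool.rec (fun _ => ℕ) (@Bool.rec (fun _ => ℕ) (certBlk_n0_101 i) (certBlk_n0_102 i) (Nat.ble (nat_lit 3264) i)) (@Bool.rec (fun _ => ℕ) (certBlk_n0_103 i) (@Bool.rec (fun _ => ℕ) (certBlk_n0_104 i) (certBlk_n0_105 i) (Nat.ble (nat_lit 3360) i)) (Nat.ble (nat_lit 3328) i)) (Nat.ble (nat_lit 3296) i)) (Nat.ble (nat_lit 3232) i)) (@Bool.rec (fun _ => ℕ) (@Bool.rec (fun _ => ℕ) (@Bool.rec (fun _ => ℕ) (certBlk_n0_106 i) (certBlk_n0_107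 i) (Nat.ble (nat_lit 3424) i)) (@Bool.rec (fun _ => ℕ) (certBlk_n0_108 i) (@Bool.rec (fun _ => ℕ) (certBlk_n0_109 i) (certBlk_n0_110 i) (Nat.ble (nat_lit 3520) i)) (Nat.ble (nat_lit 3488) i)) (Nat.ble (nat_lit 3456) i)) (@Bool.rec (fun _ => ℕ) (@Bool.rec (fun _ => ℕ) (certBlk_n0_111 i) (certBlk_n0_112 i) (Nat.ble (nat_lit 3584) i)) (@Bool.rec (fun _ => ℕ) (certBlk_n0_113 i) (@Bool.rec (fun _ => ℕ) (certBlk_n0_114 i) (certBlk_n0_115 i) (Nat.ble (nat_lit 3680) i)) (Nat.ble (nat_lit 3648) i)) (Nat.ble (nat_lit 3616) i)) (Nat.ble (nat_lit 3552) i)) (Nat.ble (nat_lit 3392) i))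

def certBlk (i : ℕ) : ℕ := (@Bool.rec (fun _ => ℕ) (@Bool.rec (fun _ => ℕ) (certBlk_n1_0 i) (certBlk_n1_1 i) (Nat.ble (nat_lit 1024) i)) (@Bool.rec (fun _ => ℕ) (certBlk_n1_2 i) (certBlk_n1_3 i) (Nat.ble (nat_lit 3072) i)) (Nat.ble (nat_lit 2048) i))

def parBlk_n0_0 (i : ℕ) : ℕ := (@Bool.rec (fun _ => ℕ) (@Bool.rec (fun _ => ℕ) (@Bool.rec (fun _ => ℕ) (@Bool.rec (fun _ => ℕ) (@Bool.rec (fun _ => ℕ) pb0 pb1 (Nat.ble (nat_lit 1) i)) (@Bool.rec (fun _ => ℕ) pb2 pb3 (Nat.ble (nat_lit 3) i)) (Nat.ble (nat_lit 2) i)) (@Bool.rec (fun _ => ℕ) (@Bool.rec (fun _ => ℕ) pb4 pb5 (Nat.ble (nat_lit 5) i)) (@Bool.rec (fun _ => ℕ) pb6 pb7 (Nat.ble (nat_lit 7) i)) (Nat.ble (nat_lit 6) i)) (Nat.ble (nat_lit 4) i)) (@Bool.rec (fun _ => ℕ) (@Bool.rec (fun _ => ℕ) (@Bool.rec (fun _ => ℕ) pb8 pb9 (Nat.ble (nat_lit 9) i)) (@Bool.rec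 (fun _ => ℕ) pb10 pb11 (Nat.ble (nat_lit 11) i)) (Nat.ble (nat_lit 10) i)) (@Bool.rec (fun _ => ℕ) (@Bool.rec (fun _ => ℕ) pb12 pb13 (Nat.ble (nat_lit 13) i)) (@Bool.rec (fun _ => ℕ) pb14 pb15 (Nat.ble (nat_lit 15) i)) (Nat.ble (nat_lit 14) i)) (Nat.ble (nat_lit 12) i)) (Nat.ble (nat_lit 8) i)) (@Bool.rec (fun _ => ℕ) (@Bool.rec (fun _ => ℕ) (@Bool.rec (fun _ => ℕ) (@Bool.rec (fun _ => ℕ) pb16 pb17 (Nat.ble (nat_lit 17) i)) (@Bool.rec (fun _ => ℕ) pb18 pb19 (Nat.ble (nat_lit 19) i)) (Nat.ble (nat_lit 18) i)) (@Bool.rec (fun _ => ℕ) (@Bool.rec (fun _ => ℕ) pb20 pb21 (Nat.ble (nat_lit 21) i)) (@Bool.rec (fun _ => ℕ) pb22 pb23 (Nat.ble (nat_lit 23) i)) (Nat.ble (nat_lit 22) i)) (Nat.ble (nat_lit 20) i)) (@Bool.rec (fun _ => ℕ) (@Bool.rec (fun _ => ℕ) (@Bool.rec (fun _ => ℕ) pb24 pb25 (Nat.ble (nat_lit 25)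 i)) (@Bool.rec (fun _ => ℕ) pb26 pb27 (Nat.ble (nat_lit 27) i)) (Nat.ble (nat_lit 26) i)) (@Bool.rec (fun _ => ℕ) (@Bool.rec (fun _ => ℕ) pb28 pb29 (Nat.ble (nat_lit 29) i)) (@Bool.rec (fun _ => ℕ) pb30 pb31 (Nat.ble (nat_lit 31) i)) (Nat.ble (nat_lit 30) i)) (Nat.ble (nat_lit 28) i)) (Nat.ble (nat_lit 24) i)) (Nat.ble (nat_lit 16) i))

def parBlk_n0_1 (i : ℕ) : ℕ := (@Bool.rec (fun _ => ℕ) (@Bool.rec (fun _ => ℕ) (@Bool.rec (fun _ => ℕ) (@Bool.rec (fun _ => ℕ) (@Bool.rec (fun _ => ℕ) pb32 pb33 (Nat.ble (nat_lit 33) i)) (@Bool.rec (fun _ => ℕ) pb34 pb35 (Nat.ble (nat_lit 35) i)) (Nat.ble (nat_lit 34) i)) (@Bool.rec (fun _ => ℕ) (@Bool.rec (fun _ => ℕ) pb36 pb37 (Nat.ble (nat_lit 37) i)) (@Bool.rec (fun _ => ℕ) pb38 pb39 (Nat.ble (nat_lit 39) i)) (Nat.ble (nat_lit 38) i)) (Nat.ble (nat_lit 36) i)) (@Bool.rec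 (fun _ => ℕ) (@Bool.rec (fun _ => ℕ) (@Bool.rec (fun _ => ℕ) pb40 pb41 (Nat.ble (nat_lit 41) i)) (@Bool.rec (fun _ => ℕ) pb42 pb43 (Nat.ble (nat_lit 43) i)) (Nat.ble (nat_lit 42) i)) (@Bool.rec (fun _ => ℕ) (@Bool.rec (fun _ => ℕ) pb44 pb45 (Nat.ble (nat_lit 45) i)) (@Bool.rec (fun _ => ℕ) pb46 pb47 (Nat.ble (nat_lit 47) i)) (Nat.ble (nat_lit 46) i)) (Nat.ble (nat_lit 44) i)) (Nat.ble (nat_lit 40) i)) (@Bool.rec (fun _ => ℕ) (@Bool.rec (fun _ => ℕ) (@Bool.rec (fun _ => ℕ) (@Bool.rec (fun _ => ℕ) pb48 pb49 (Nat.ble (nat_lit 49) i)) (@Bool.rec (fun _ => ℕ) pb50 pb51 (Nat.ble (nat_lit 51) i)) (Nat.ble (nat_lit 50) i)) (@Bool.rec (fun _ => ℕ) (@Bool.rec (fun _ => ℕ) pb52 pb53 (Nat.ble (nat_lit 53) i)) (@Bool.rec (fun _ => ℕ) pb54 pb55 (Nat.ble (nat_lit 55) i)) (Nat.ble (nat_lit 54) i)) (Nat.ble (nat_lit 52)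 i)) (@Bool.rec (fun _ => ℕ) (@Bool.rec (fun _ => ℕ) (@Bool.rec (fun _ => ℕ) pb56 pb57 (Nat.ble (nat_lit 57) i)) (@Bool.rec (fun _ => ℕ) pb58 pb59 (Nat.ble (nat_lit 59) i)) (Nat.ble (nat_lit 58) i)) (@Bool.rec (fun _ => ℕ) (@Bool.rec (fun _ => ℕ) pb60 pb61 (Nat.ble (nat_lit 61) i)) (@Bool.rec (fun _ => ℕ) pb62 pb63 (Nat.ble (nat_lit 63) i)) (Nat.ble (nat_lit 62) i)) (Nat.ble (nat_lit 60) i)) (Nat.ble (nat_lit 56) i)) (Nat.ble (nat_lit 48) i))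

def parBlk_n0_2 (i : ℕ) : ℕ := (@Bool.rec (fun _ => ℕ) (@Bool.rec (fun _ => ℕ) (@Bool.rec (fun _ => ℕ) (@Bool.rec (fun _ => ℕ) (@Bool.rec (fun _ => ℕ) pb64 pb65 (Nat.ble (nat_lit 65) i)) (@Bool.rec (fun _ => ℕ) pb66 pb67 (Nat.ble (nat_lit 67) i)) (Nat.ble (nat_lit 66) i)) (@Bool.rec (fun _ => ℕ) (@Bool.rec (fun _ => ℕ) pb68 pb69 (Nat.ble (nat_lit 69) i)) (@Bool.rec (fun _ => ℕ) pb70 pb71 (Nat.ble (nat_lit 71) i)) (Nat.ble (nat_lit 70) i)) (Nat.ble (nat_lit 68) i)) (@Bool.rec (fun _ => ℕ) (@Bool.rec (fun _ => ℕ) (@Bool.rec (fun _ => ℕ) pb72 pb73 (Nat.ble (nat_lit 73) i)) (@Bool.rec (fun _ => ℕ) pb74 pb75 (Nat.ble (nat_lit 75) i)) (Nat.ble (nat_lit 74) i)) (@Bool.rec (fun _ => ℕ) (@Bool.rec (fun _ => ℕ) pb76 pb77 (Nat.ble (nat_lit 77) i)) (@Bool.rec (fun _ => ℕ) pb78 pb79 (Nat.ble (nat_lit 79) i)) (Nat.ble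 (nat_lit 78) i)) (Nat.ble (nat_lit 76) i)) (Nat.ble (nat_lit 72) i)) (@Bool.rec (fun _ => ℕ) (@Bool.rec (fun _ => ℕ) (@Bool.rec (fun _ => ℕ) (@Bool.rec (fun _ => ℕ) pb80 pb81 (Nat.ble (nat_lit 81) i)) (@Bool.rec (fun _ => ℕ) pb82 pb83 (Nat.ble (nat_lit 83) i)) (Nat.ble (nat_lit 82) i)) (@Bool.rec (fun _ => ℕ) (@Bool.rec (fun _ => ℕ) pb84 pb85 (Nat.ble (nat_lit 85) i)) (@Bool.rec (fun _ => ℕ) pb86 pb87 (Nat.ble (nat_lit 87) i)) (Nat.ble (nat_lit 86) i)) (Nat.ble (nat_lit 84) i)) (@Bool.rec (fun _ => ℕ) (@Bool.rec (fun _ => ℕ) (@Bool.rec (fun _ => ℕ) pb88 pb89 (Nat.ble (nat_lit 89) i)) (@Bool.rec (fun _ => ℕ) pb90 pb91 (Nat.ble (nat_lit 91) i)) (Nat.ble (nat_lit 90) i)) (@Bool.rec (fun _ => ℕ) (@Bool.rec (fun _ => ℕ) pb92 pb93 (Nat.ble (nat_lit 93) i)) (@Bool.rec (fun _ => ℕ) pb94 pb95 (Nat.ble (nat_lit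 95) i)) (Nat.ble (nat_lit 94) i)) (Nat.ble (nat_lit 92) i)) (Nat.ble (nat_lit 88) i)) (Nat.ble (nat_lit 80) i))

def parBlk_n0_3 (i : ℕ) : ℕ := (@Bool.rec (fun _ => ℕ) (@Bool.rec (fun _ => ℕ) (@Bool.rec (fun _ => ℕ) (@Bool.rec (fun _ => ℕ) (@Bool.rec (fun _ => ℕ) pb96 pb97 (Nat.ble (nat_lit 97) i)) (@Bool.rec (fun _ => ℕ) pb98 pb99 (Nat.ble (nat_lit 99) i)) (Nat.ble (nat_lit 98) i)) (@Bool.rec (fun _ => ℕ) (@Bool.rec (fun _ => ℕ) pb100 pb101 (Nat.ble (nat_lit 101) i)) (@Bool.rec (fun _ => ℕ) pb102 pb103 (Nat.ble (nat_lit 103) i)) (Nat.ble (nat_lit 102) i)) (Nat.ble (nat_lit 100) i)) (@Bool.rec (fun _ => ℕ) (@Bool.rec (fun _ => ℕ) (@Bool.rec (fun _ => ℕ) pb104 pb105 (Nat.ble (nat_lit 105) i)) (@Bool.rec (fun _ => ℕ) pb106 pb107 (Nat.ble (nat_lit 107) i)) (Nat.ble (nat_lit 106) i)) (@Bool.rec (fun _ => ℕ)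 (@Bool.rec (fun _ => ℕ) pb108 pb109 (Nat.ble (nat_lit 109) i)) (@Bool.rec (fun _ => ℕ) pb110 pb111 (Nat.ble (nat_lit 111) i)) (Nat.ble (nat_lit 110) i)) (Nat.ble (nat_lit 108) i)) (Nat.ble (nat_lit 104) i)) (@Bool.rec (fun _ => ℕ) (@Bool.rec (fun _ => ℕ) (@Bool.rec (fun _ => ℕ) (@Bool.rec (fun _ => ℕ) pb112 pb113 (Nat.ble (nat_lit 113) i)) (@Bool.rec (fun _ => ℕ) pb114 pb115 (Nat.ble (nat_lit 115) i)) (Nat.ble (nat_lit 114) i)) (@Bool.rec (fun _ => ℕ) (@Bool.rec (fun _ => ℕ) pb116 pb117 (Nat.ble (nat_lit 117) i)) (@Bool.rec (fun _ => ℕ) pb118 pb119 (Nat.ble (nat_lit 119) i)) (Nat.ble (nat_lit 118) i)) (Nat.ble (nat_lit 116) i)) (@Bool.rec (fun _ => ℕ) (@Bool.rec (fun _ => ℕ) (@Bool.rec (fun _ => ℕ) pb120 pb121 (Nat.ble (nat_lit 121) i)) (@Bool.rec (fun _ => ℕ) pb122 pb123 (Nat.ble (nat_lit 123) i)) (Nat.ble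 (nat_lit 122) i)) (@Bool.rec (fun _ => ℕ) (@Bool.rec (fun _ => ℕ) pb124 pb125 (Nat.ble (nat_lit 125) i)) (@Bool.rec (fun _ => ℕ) pb126 pb127 (Nat.ble (nat_lit 127) i)) (Nat.ble (nat_lit 126) i)) (Nat.ble (nat_lit 124) i)) (Nat.ble (nat_lit 120) i)) (Nat.ble (nat_lit 112) i))

def parBlk_n0_4 (i : ℕ) : ℕ := (@Bool.rec (fun _ => ℕ) (@Bool.rec (fun _ => ℕ) (@Bool.rec (fun _ => ℕ) (@Bool.rec (fun _ => ℕ) (@Bool.rec (fun _ => ℕ) pb128 pb129 (Nat.ble (nat_lit 129) i)) (@Bool.rec (fun _ => ℕ) pb130 pb131 (Nat.ble (nat_lit 131) i)) (Nat.ble (nat_lit 130) i)) (@Bool.rec (fun _ => ℕ) (@Bool.rec (fun _ => ℕ) pb132 pb133 (Nat.ble (nat_lit 133) i)) (@Bool.rec (fun _ => ℕ) pb134 pb135 (Nat.ble (nat_lit 135) i)) (Nat.ble (nat_lit 134) i)) (Nat.ble (nat_lit 132) i)) (@Bool.rec (fun _ => ℕ) (@Bool.rec (fun _ => ℕ) (@Bool.rec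 (fun _ => ℕ) pb136 pb137 (Nat.ble (nat_lit 137) i)) (@Bool.rec (fun _ => ℕ) pb138 pb139 (Nat.ble (nat_lit 139) i)) (Nat.ble (nat_lit 138) i)) (@Bool.rec (fun _ => ℕ) (@Bool.rec (fun _ => ℕ) pb140 pb141 (Nat.ble (nat_lit 141) i)) (@Bool.rec (fun _ => ℕ) pb142 pb143 (Nat.ble (nat_lit 143) i)) (Nat.ble (nat_lit 142) i)) (Nat.ble (nat_lit 140) i)) (Nat.ble (nat_lit 136) i)) (@Bool.rec (fun _ => ℕ) (@Bool.rec (fun _ => ℕ) (@Bool.rec (fun _ => ℕ) (@Bool.rec (fun _ => ℕ) pb144 pb145 (Nat.ble (nat_lit 145) i)) (@Bool.rec (fun _ => ℕ) pb146 pb147 (Nat.ble (nat_lit 147) i)) (Nat.ble (nat_lit 146) i)) (@Bool.rec (fun _ => ℕ) (@Bool.rec (fun _ => ℕ) pb148 pb149 (Nat.ble (nat_lit 149) i)) (@Bool.rec (fun _ => ℕ) pb150 pb151 (Nat.ble (nat_lit 151) i)) (Nat.ble (nat_lit 150) i)) (Nat.ble (nat_lit 148) i)) (@Bool.rec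 (fun _ => ℕ) (@Bool.rec (fun _ => ℕ) (@Bool.rec (fun _ => ℕ) pb152 pb153 (Nat.ble (nat_lit 153) i)) (@Bool.rec (fun _ => ℕ) pb154 pb155 (Nat.ble (nat_lit 155) i)) (Nat.ble (nat_lit 154) i)) (@Bool.rec (fun _ => ℕ) (@Bool.rec (fun _ => ℕ) pb156 pb157 (Nat.ble (nat_lit 157) i)) (@Bool.rec (fun _ => ℕ) pb158 pb159 (Nat.ble (nat_lit 159) i)) (Nat.ble (nat_lit 158) i)) (Nat.ble (nat_lit 156) i)) (Nat.ble (nat_lit 152) i)) (Nat.ble (nat_lit 144) i))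

def parBlk_n0_5 (i : ℕ) : ℕ := (@Bool.rec (fun _ => ℕ) (@Bool.rec (fun _ => ℕ) (@Bool.rec (fun _ => ℕ) (@Bool.rec (fun _ => ℕ) (@Bool.rec (fun _ => ℕ) pb160 pb161 (Nat.ble (nat_lit 161) i)) (@Bool.rec (fun _ => ℕ) pb162 pb163 (Nat.ble (nat_lit 163) i)) (Nat.ble (nat_lit 162) i)) (@Bool.rec (fun _ => ℕ) (@Bool.rec (fun _ => ℕ) pb164 pb165 (Nat.ble (nat_lit 165) i)) (@Bool.rec (fun _ => ℕ) pb166 pb167 (Nat.ble (nat_lit 167) i)) (Nat.ble (nat_lit 166) i)) (Nat.ble (nat_lit 164) i)) (@Bool.rec (fun _ => ℕ) (@Bool.rec (fun _ => ℕ) (@Bool.rec (fun _ => ℕ) pb168 pb169 (Nat.ble (nat_lit 169) i)) (@Bool.rec (fun _ => ℕ) pb170 pb171 (Nat.ble (nat_lit 171) i)) (Nat.ble (nat_lit 170) i)) (@Bool.rec (fun _ => ℕ) (@Bool.rec (fun _ => ℕ) pb172 pb173 (Nat.ble (nat_lit 173) i)) (@Bool.rec (fun _ => ℕ) pb174 pb175 (Nat.ble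 (nat_lit 175) i)) (Nat.ble (nat_lit 174) i)) (Nat.ble (nat_lit 172) i)) (Nat.ble (nat_lit 168) i)) (@Bool.rec (fun _ => ℕ) (@Bool.rec (fun _ => ℕ) (@Bool.rec (fun _ => ℕ) (@Bool.rec (fun _ => ℕ) pb176 pb177 (Nat.ble (nat_lit 177) i)) (@Bool.rec (fun _ => ℕ) pb178 pb179 (Nat.ble (nat_lit 179) i)) (Nat.ble (nat_lit 178) i)) (@Bool.rec (fun _ => ℕ) (@Bool.rec (fun _ => ℕ) pb180 pb181 (Nat.ble (nat_lit 181) i)) (@Bool.rec (fun _ => ℕ) pb182 pb183 (Nat.ble (nat_lit 183) i)) (Nat.ble (nat_lit 182) i)) (Nat.ble (nat_lit 180) i)) (@Bool.rec (fun _ => ℕ) (@Bool.rec (fun _ => ℕ) (@Bool.rec (fun _ => ℕ) pb184 pb185 (Nat.ble (nat_lit 185) i)) (@Bool.rec (fun _ => ℕ) pb186 pb187 (Nat.ble (nat_lit 187) i)) (Nat.ble (nat_lit 186) i)) (@Bool.rec (fun _ => ℕ) (@Bool.rec (fun _ => ℕ) pb188 pb189 (Nat.ble (nat_lit 189) i))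 (@Bool.rec (fun _ => ℕ) pb190 pb191 (Nat.ble (nat_lit 191) i)) (Nat.ble (nat_lit 190) i)) (Nat.ble (nat_lit 188) i)) (Nat.ble (nat_lit 184) i)) (Nat.ble (nat_lit 176) i))

def parBlk_n0_6 (i : ℕ) : ℕ := (@Bool.rec (fun _ => ℕ) (@Bool.rec (fun _ => ℕ) (@Bool.rec (fun _ => ℕ) (@Bool.rec (fun _ => ℕ) (@Bool.rec (fun _ => ℕ) pb192 pb193 (Nat.ble (nat_lit 193) i)) (@Bool.rec (fun _ => ℕ) pb194 pb195 (Nat.ble (nat_lit 195) i)) (Nat.ble (nat_lit 194) i)) (@Bool.rec (fun _ => ℕ) (@Bool.rec (fun _ => ℕ) pb196 pb197 (Nat.ble (nat_lit 197) i)) (@Bool.rec (fun _ => ℕ) pb198 pb199 (Nat.ble (nat_lit 199) i)) (Nat.ble (nat_lit 198) i)) (Nat.ble (nat_lit 196) i)) (@Bool.rec (fun _ => ℕ) (@Bool.rec (fun _ => ℕ) (@Bool.rec (fun _ => ℕ) pb200 pb201 (Nat.ble (nat_lit 201) i)) (@Bool.rec (fun _ => ℕ) pb202 pb203 (Nat.ble (nat_lit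 203) i)) (Nat.ble (nat_lit 202) i)) (@Bool.rec (fun _ => ℕ) (@Bool.rec (fun _ => ℕ) pb204 pb205 (Nat.ble (nat_lit 205) i)) (@Bool.rec (fun _ => ℕ) pb206 pb207 (Nat.ble (nat_lit 207) i)) (Nat.ble (nat_lit 206) i)) (Nat.ble (nat_lit 204) i)) (Nat.ble (nat_lit 200) i)) (@Bool.rec (fun _ => ℕ) (@Bool.rec (fun _ => ℕ) (@Bool.rec (fun _ => ℕ) (@Bool.rec (fun _ => ℕ) pb208 pb209 (Nat.ble (nat_lit 209) i)) (@Bool.rec (fun _ => ℕ) pb210 pb211 (Nat.ble (nat_lit 211) i)) (Nat.ble (nat_lit 210) i)) (@Bool.rec (fun _ => ℕ) (@Bool.rec (fun _ => ℕ) pb212 pb213 (Nat.ble (nat_lit 213) i)) (@Bool.rec (fun _ => ℕ) pb214 pb215 (Nat.ble (nat_lit 215) i)) (Nat.ble (nat_lit 214) i)) (Nat.ble (nat_lit 212) i)) (@Bool.rec (fun _ => ℕ) (@Bool.rec (fun _ => ℕ) (@Bool.rec (fun _ => ℕ) pb216 pb217 (Nat.ble (nat_lit 217) i)) (@Bool.rec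 (fun _ => ℕ) pb218 pb219 (Nat.ble (nat_lit 219) i)) (Nat.ble (nat_lit 218) i)) (@Bool.rec (fun _ => ℕ) (@Bool.rec (fun _ => ℕ) pb220 pb221 (Nat.ble (nat_lit 221) i)) (@Bool.rec (fun _ => ℕ) pb222 pb223 (Nat.ble (nat_lit 223) i)) (Nat.ble (nat_lit 222) i)) (Nat.ble (nat_lit 220) i)) (Nat.ble (nat_lit 216) i)) (Nat.ble (nat_lit 208) i))

def parBlk_n0_7 (i : ℕ) : ℕ := (@Bool.rec (fun _ => ℕ) (@Bool.rec (fun _ => ℕ) (@Bool.rec (fun _ => ℕ) (@Bool.rec (fun _ => ℕ) (@Bool.rec (fun _ => ℕ) pb224 pb225 (Nat.ble (nat_lit 225) i)) (@Bool.rec (fun _ => ℕ) pb226 pb227 (Nat.ble (nat_lit 227) i)) (Nat.ble (nat_lit 226) i)) (@Bool.rec (fun _ => ℕ) (@Bool.rec (fun _ => ℕ) pb228 pb229 (Nat.ble (nat_lit 229) i)) (@Bool.rec (fun _ => ℕ) pb230 pb231 (Nat.ble (nat_lit 231) i)) (Nat.ble (nat_lit 230) i)) (Nat.ble (nat_lit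 228) i)) (@Bool.rec (fun _ => ℕ) (@Bool.rec (fun _ => ℕ) (@Bool.rec (fun _ => ℕ) pb232 pb233 (Nat.ble (nat_lit 233) i)) (@Bool.rec (fun _ => ℕ) pb234 pb235 (Nat.ble (nat_lit 235) i)) (Nat.ble (nat_lit 234) i)) (@Bool.rec (fun _ => ℕ) (@Bool.rec (fun _ => ℕ) pb236 pb237 (Nat.ble (nat_lit 237) i)) (@Bool.rec (fun _ => ℕ) pb238 pb239 (Nat.ble (nat_lit 239) i)) (Nat.ble (nat_lit 238) i)) (Nat.ble (nat_lit 236) i)) (Nat.ble (nat_lit 232) i)) (@Bool.rec (fun _ => ℕ) (@Bool.rec (fun _ => ℕ) (@Bool.rec (fun _ => ℕ) (@Bool.rec (fun _ => ℕ) pb240 pb241 (Nat.ble (nat_lit 241) i)) (@Bool.rec (fun _ => ℕ) pb242 pb243 (Nat.ble (nat_lit 243) i)) (Nat.ble (nat_lit 242) i)) (@Bool.rec (fun _ => ℕ) (@Bool.rec (fun _ => ℕ) pb244 pb245 (Nat.ble (nat_lit 245) i)) (@Bool.rec (fun _ => ℕ) pb246 pb247 (Nat.ble (nat_lit 247) i))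 (Nat.ble (nat_lit 246) i)) (Nat.ble (nat_lit 244) i)) (@Bool.rec (fun _ => ℕ) (@Bool.rec (fun _ => ℕ) (@Bool.rec (fun _ => ℕ) pb248 pb249 (Nat.ble (nat_lit 249) i)) (@Bool.rec (fun _ => ℕ) pb250 pb251 (Nat.ble (nat_lit 251) i)) (Nat.ble (nat_lit 250) i)) (@Bool.rec (fun _ => ℕ) (@Bool.rec (fun _ => ℕ) pb252 pb253 (Nat.ble (nat_lit 253) i)) (@Bool.rec (fun _ => ℕ) pb254 pb255 (Nat.ble (nat_lit 255) i)) (Nat.ble (nat_lit 254) i)) (Nat.ble (nat_lit 252) i)) (Nat.ble (nat_lit 248) i)) (Nat.ble (nat_lit 240) i))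

def parBlk_n0_8 (i : ℕ) : ℕ := (@Bool.rec (fun _ => ℕ) (@Bool.rec (fun _ => ℕ) (@Bool.rec (fun _ => ℕ) (@Bool.rec (fun _ => ℕ) (@Bool.rec (fun _ => ℕ) pb256 pb257 (Nat.ble (nat_lit 257) i)) (@Bool.rec (fun _ => ℕ) pb258 pb259 (Nat.ble (nat_lit 259) i)) (Nat.ble (nat_lit 258) i)) (@Bool.rec (fun _ => ℕ) (@Bool.rec (fun _ => ℕ) pb260 pb261 (Nat.ble (nat_lit 261) i)) (@Bool.rec (fun _ => ℕ) pb262 pb263 (Nat.ble (nat_lit 263) i)) (Nat.ble (nat_lit 262) i)) (Nat.ble (nat_lit 260) i)) (@Bool.rec (fun _ => ℕ) (@Bool.rec (fun _ => ℕ) (@Bool.rec (fun _ => ℕ) pb264 pb265 (Nat.ble (nat_lit 265) i)) (@Bool.rec (fun _ => ℕ) pb266 pb267 (Nat.ble (nat_lit 267) i)) (Nat.ble (nat_lit 266) i)) (@Bool.rec (fun _ => ℕ) (@Bool.rec (fun _ => ℕ) pb268 pb269 (Nat.ble (nat_lit 269) i)) (@Bool.rec (fun _ => ℕ) pb270 pb271 (Nat.ble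 (nat_lit 271) i)) (Nat.ble (nat_lit 270) i)) (Nat.ble (nat_lit 268) i)) (Nat.ble (nat_lit 264) i)) (@Bool.rec (fun _ => ℕ) (@Bool.rec (fun _ => ℕ) (@Bool.rec (fun _ => ℕ) (@Bool.rec (fun _ => ℕ) pb272 pb273 (Nat.ble (nat_lit 273) i)) (@Bool.rec (fun _ => ℕ) pb274 pb275 (Nat.ble (nat_lit 275) i)) (Nat.ble (nat_lit 274) i)) (@Bool.rec (fun _ => ℕ) (@Bool.rec (fun _ => ℕ) pb276 pb277 (Nat.ble (nat_lit 277) i)) (@Bool.rec (fun _ => ℕ) pb278 pb279 (Nat.ble (nat_lit 279) i)) (Nat.ble (nat_lit 278) i)) (Nat.ble (nat_lit 276) i)) (@Bool.rec (fun _ => ℕ) (@Bool.rec (fun _ => ℕ) (@Bool.rec (fun _ => ℕ) pb280 pb281 (Nat.ble (nat_lit 281) i)) (@Bool.rec (fun _ => ℕ) pb282 pb283 (Nat.ble (nat_lit 283) i)) (Nat.ble (nat_lit 282) i)) (@Bool.rec (fun _ => ℕ) (@Bool.rec (fun _ => ℕ) pb284 pb285 (Nat.ble (nat_lit 285) i))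 (@Bool.rec (fun _ => ℕ) pb286 pb287 (Nat.ble (nat_lit 287) i)) (Nat.ble (nat_lit 286) i)) (Nat.ble (nat_lit 284) i)) (Nat.ble (nat_lit 280) i)) (Nat.ble (nat_lit 272) i))

def parBlk_n0_9 (i : ℕ) : ℕ := (@Bool.rec (fun _ => ℕ) (@Bool.rec (fun _ => ℕ) (@Bool.rec (fun _ => ℕ) (@Bool.rec (fun _ => ℕ) (@Bool.rec (fun _ => ℕ) pb288 pb289 (Nat.ble (nat_lit 289) i)) (@Bool.rec (fun _ => ℕ) pb290 pb291 (Nat.ble (nat_lit 291) i)) (Nat.ble (nat_lit 290) i)) (@Bool.rec (fun _ => ℕ) (@Bool.rec (fun _ => ℕ) pb292 pb293 (Nat.ble (nat_lit 293) i)) (@Bool.rec (fun _ => ℕ) pb294 pb295 (Nat.ble (nat_lit 295) i)) (Nat.ble (nat_lit 294) i)) (Nat.ble (nat_lit 292) i)) (@Bool.rec (fun _ => ℕ) (@Bool.rec (fun _ => ℕ) (@Bool.rec (fun _ => ℕ) pb296 pb297 (Nat.ble (nat_lit 297) i)) (@Bool.rec (fun _ => ℕ) pb298 pb299 (Nat.ble (nat_lit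 299) i)) (Nat.ble (nat_lit 298) i)) (@Bool.rec (fun _ => ℕ) (@Bool.rec (fun _ => ℕ) pb300 pb301 (Nat.ble (nat_lit 301) i)) (@Bool.rec (fun _ => ℕ) pb302 pb303 (Nat.ble (nat_lit 303) i)) (Nat.ble (nat_lit 302) i)) (Nat.ble (nat_lit 300) i)) (Nat.ble (nat_lit 296) i)) (@Bool.rec (fun _ => ℕ) (@Bool.rec (fun _ => ℕ) (@Bool.rec (fun _ => ℕ) (@Bool.rec (fun _ => ℕ) pb304 pb305 (Nat.ble (nat_lit 305) i)) (@Bool.rec (fun _ => ℕ) pb306 pb307 (Nat.ble (nat_lit 307) i)) (Nat.ble (nat_lit 306) i)) (@Bool.rec (fun _ => ℕ) (@Bool.rec (fun _ => ℕ) pb308 pb309 (Nat.ble (nat_lit 309) i)) (@Bool.rec (fun _ => ℕ) pb310 pb311 (Nat.ble (nat_lit 311) i)) (Nat.ble (nat_lit 310) i)) (Nat.ble (nat_lit 308) i)) (@Bool.rec (fun _ => ℕ) (@Bool.rec (fun _ => ℕ) (@Bool.rec (fun _ => ℕ) pb312 pb313 (Nat.ble (nat_lit 313) i)) (@Bool.rec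 (fun _ => ℕ) pb314 pb315 (Nat.ble (nat_lit 315) i)) (Nat.ble (nat_lit 314) i)) (@Bool.rec (fun _ => ℕ) (@Bool.rec (fun _ => ℕ) pb316 pb317 (Nat.ble (nat_lit 317) i)) (@Bool.rec (fun _ => ℕ) pb318 pb319 (Nat.ble (nat_lit 319) i)) (Nat.ble (nat_lit 318) i)) (Nat.ble (nat_lit 316) i)) (Nat.ble (nat_lit 312) i)) (Nat.ble (nat_lit 304) i))

def parBlk_n0_10 (i : ℕ) : ℕ := (@Bool.rec (fun _ => ℕ) (@Bool.rec (fun _ => ℕ) (@Bool.rec (fun _ => ℕ) (@Bool.rec (fun _ => ℕ) (@Bool.rec (fun _ => ℕ) pb320 pb321 (Nat.ble (nat_lit 321) i)) (@Bool.rec (fun _ => ℕ) pb322 pb323 (Nat.ble (nat_lit 323) i)) (Nat.ble (nat_lit 322) i)) (@Bool.rec (fun _ => ℕ) (@Bool.rec (fun _ => ℕ) pb324 pb325 (Nat.ble (nat_lit 325) i)) (@Bool.rec (fun _ => ℕ) pb326 pb327 (Nat.ble (nat_lit 327) i)) (Nat.ble (nat_lit 326) i)) (Nat.ble (nat_lit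 324) i)) (@Bool.rec (fun _ => ℕ) (@Bool.rec (fun _ => ℕ) (@Bool.rec (fun _ => ℕ) pb328 pb329 (Nat.ble (nat_lit 329) i)) (@Bool.rec (fun _ => ℕ) pb330 pb331 (Nat.ble (nat_lit 331) i)) (Nat.ble (nat_lit 330) i)) (@Bool.rec (fun _ => ℕ) (@Bool.rec (fun _ => ℕ) pb332 pb333 (Nat.ble (nat_lit 333) i)) (@Bool.rec (fun _ => ℕ) pb334 pb335 (Nat.ble (nat_lit 335) i)) (Nat.ble (nat_lit 334) i)) (Nat.ble (nat_lit 332) i)) (Nat.ble (nat_lit 328) i)) (@Bool.rec (fun _ => ℕ) (@Bool.rec (fun _ => ℕ) (@Bool.rec (fun _ => ℕ) (@Bool.rec (fun _ => ℕ) pb336 pb337 (Nat.ble (nat_lit 337) i)) (@Bool.rec (fun _ => ℕ) pb338 pb339 (Nat.ble (nat_lit 339) i)) (Nat.ble (nat_lit 338) i)) (@Bool.rec (fun _ => ℕ) (@Bool.rec (fun _ => ℕ) pb340 pb341 (Nat.ble (nat_lit 341) i)) (@Bool.rec (fun _ => ℕ) pb342 pb343 (Nat.ble (nat_lit 343) i))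 (Nat.ble (nat_lit 342) i)) (Nat.ble (nat_lit 340) i)) (@Bool.rec (fun _ => ℕ) (@Bool.rec (fun _ => ℕ) (@Bool.rec (fun _ => ℕ) pb344 pb345 (Nat.ble (nat_lit 345) i)) (@Bool.rec (fun _ => ℕ) pb346 pb347 (Nat.ble (nat_lit 347) i)) (Nat.ble (nat_lit 346) i)) (@Bool.rec (fun _ => ℕ) (@Bool.rec (fun _ => ℕ) pb348 pb349 (Nat.ble (nat_lit 349) i)) (@Bool.rec (fun _ => ℕ) pb350 pb351 (Nat.ble (nat_lit 351) i)) (Nat.ble (nat_lit 350) i)) (Nat.ble (nat_lit 348) i)) (Nat.ble (nat_lit 344) i)) (Nat.ble (nat_lit 336) i))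

def parBlk_n0_11 (i : ℕ) : ℕ := (@Bool.rec (fun _ => ℕ) (@Bool.rec (fun _ => ℕ) (@Bool.rec (fun _ => ℕ) (@Bool.rec (fun _ => ℕ) (@Bool.rec (fun _ => ℕ) pb352 pb353 (Nat.ble (nat_lit 353) i)) (@Bool.rec (fun _ => ℕ) pb354 pb355 (Nat.ble (nat_lit 355) i)) (Nat.ble (nat_lit 354) i)) (@Bool.rec (fun _ => ℕ) (@Bool.rec (fun _ => ℕ) pb356 pb357 (Nat.ble (nat_lit 357) i)) (@Bool.rec (fun _ => ℕ) pb358 pb359 (Nat.ble (nat_lit 359) i)) (Nat.ble (nat_lit 358) i)) (Nat.ble (nat_lit 356) i)) (@Bool.rec (fun _ => ℕ) (@Bool.rec (fun _ => ℕ) (@Bool.rec (fun _ => ℕ) pb360 pb361 (Nat.ble (nat_lit 361) i)) (@Bool.rec (fun _ => ℕ) pb362 pb363 (Nat.ble (nat_lit 363) i)) (Nat.ble (nat_lit 362) i)) (@Bool.rec (fun _ => ℕ) (@Bool.rec (fun _ => ℕ) pb364 pb365 (Nat.ble (nat_lit 365) i)) (@Bool.rec (fun _ => ℕ) pb366 pb367 (Nat.ble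 (nat_lit 367) i)) (Nat.ble (nat_lit 366) i)) (Nat.ble (nat_lit 364) i)) (Nat.ble (nat_lit 360) i)) (@Bool.rec (fun _ => ℕ) (@Bool.rec (fun _ => ℕ) (@Bool.rec (fun _ => ℕ) (@Bool.rec (fun _ => ℕ) pb368 pb369 (Nat.ble (nat_lit 369) i)) (@Bool.rec (fun _ => ℕ) pb370 pb371 (Nat.ble (nat_lit 371) i)) (Nat.ble (nat_lit 370) i)) (@Bool.rec (fun _ => ℕ) (@Bool.rec (fun _ => ℕ) pb372 pb373 (Nat.ble (nat_lit 373) i)) (@Bool.rec (fun _ => ℕ) pb374 pb375 (Nat.ble (nat_lit 375) i)) (Nat.ble (nat_lit 374) i)) (Nat.ble (nat_lit 372) i)) (@Bool.rec (fun _ => ℕ) (@Bool.rec (fun _ => ℕ) (@Bool.rec (fun _ => ℕ) pb376 pb377 (Nat.ble (nat_lit 377) i)) (@Bool.rec (fun _ => ℕ) pb378 pb379 (Nat.ble (nat_lit 379) i)) (Nat.ble (nat_lit 378) i)) (@Bool.rec (fun _ => ℕ) (@Bool.rec (fun _ => ℕ) pb380 pb381 (Nat.ble (nat_lit 381) i))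 (@Bool.rec (fun _ => ℕ) pb382 pb383 (Nat.ble (nat_lit 383) i)) (Nat.ble (nat_lit 382) i)) (Nat.ble (nat_lit 380) i)) (Nat.ble (nat_lit 376) i)) (Nat.ble (nat_lit 368) i))

def parBlk_n0_12 (i : ℕ) : ℕ := (@Bool.rec (fun _ => ℕ) (@Bool.rec (fun _ => ℕ) (@Bool.rec (fun _ => ℕ) (@Bool.rec (fun _ => ℕ) (@Bool.rec (fun _ => ℕ) pb384 pb385 (Nat.ble (nat_lit 385) i)) (@Bool.rec (fun _ => ℕ) pb386 pb387 (Nat.ble (nat_lit 387) i)) (Nat.ble (nat_lit 386) i)) (@Bool.rec (fun _ => ℕ) (@Bool.rec (fun _ => ℕ) pb388 pb389 (Nat.ble (nat_lit 389) i)) (@Bool.rec (fun _ => ℕ) pb390 pb391 (Nat.ble (nat_lit 391) i)) (Nat.ble (nat_lit 390) i)) (Nat.ble (nat_lit 388) i)) (@Bool.rec (fun _ => ℕ) (@Bool.rec (fun _ => ℕ) (@Bool.rec (fun _ => ℕ) pb392 pb393 (Nat.ble (nat_lit 393) i)) (@Bool.rec (fun _ => ℕ) pb394 pb395 (Nat.ble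 (nat_lit 395) i)) (Nat.ble (nat_lit 394) i)) (@Bool.rec (fun _ => ℕ) (@Bool.rec (fun _ => ℕ) pb396 pb397 (Nat.ble (nat_lit 397) i)) (@Bool.rec (fun _ => ℕ) pb398 pb399 (Nat.ble (nat_lit 399) i)) (Nat.ble (nat_lit 398) i)) (Nat.ble (nat_lit 396) i)) (Nat.ble (nat_lit 392) i)) (@Bool.rec (fun _ => ℕ) (@Bool.rec (fun _ => ℕ) (@Bool.rec (fun _ => ℕ) (@Bool.rec (fun _ => ℕ) pb400 pb401 (Nat.ble (nat_lit 401) i)) (@Bool.rec (fun _ => ℕ) pb402 pb403 (Nat.ble (nat_lit 403) i)) (Nat.ble (nat_lit 402) i)) (@Bool.rec (fun _ => ℕ) (@Bool.rec (fun _ => ℕ) pb404 pb405 (Nat.ble (nat_lit 405) i)) (@Bool.rec (fun _ => ℕ) pb406 pb407 (Nat.ble (nat_lit 407) i)) (Nat.ble (nat_lit 406) i)) (Nat.ble (nat_lit 404) i)) (@Bool.rec (fun _ => ℕ) (@Bool.rec (fun _ => ℕ) (@Bool.rec (fun _ => ℕ) pb408 pb409 (Nat.ble (nat_lit 409) i))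 (@Bool.rec (fun _ => ℕ) pb410 pb411 (Nat.ble (nat_lit 411) i)) (Nat.ble (nat_lit 410) i)) (@Bool.rec (fun _ => ℕ) (@Bool.rec (fun _ => ℕ) pb412 pb413 (Nat.ble (nat_lit 413) i)) (@Bool.rec (fun _ => ℕ) pb414 pb415 (Nat.ble (nat_lit 415) i)) (Nat.ble (nat_lit 414) i)) (Nat.ble (nat_lit 412) i)) (Nat.ble (nat_lit 408) i)) (Nat.ble (nat_lit 400) i))

def parBlk_n0_13 (i : ℕ) : ℕ := (@Bool.rec (fun _ => ℕ) (@Bool.rec (fun _ => ℕ) (@Bool.rec (fun _ => ℕ) (@Bool.rec (fun _ => ℕ) (@Bool.rec (fun _ => ℕ) pb416 pb417 (Nat.ble (nat_lit 417) i)) (@Bool.rec (fun _ => ℕ) pb418 pb419 (Nat.ble (nat_lit 419) i)) (Nat.ble (nat_lit 418) i)) (@Bool.rec (fun _ => ℕ) (@Bool.rec (fun _ => ℕ) pb420 pb421 (Nat.ble (nat_lit 421) i)) (@Bool.rec (fun _ => ℕ) pb422 pb423 (Nat.ble (nat_lit 423) i)) (Nat.ble (nat_lit 422) i)) (Nat.ble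 (nat_lit 420) i)) (@Bool.rec (fun _ => ℕ) (@Bool.rec (fun _ => ℕ) (@Bool.rec (fun _ => ℕ) pb424 pb425 (Nat.ble (nat_lit 425) i)) (@Bool.rec (fun _ => ℕ) pb426 pb427 (Nat.ble (nat_lit 427) i)) (Nat.ble (nat_lit 426) i)) (@Bool.rec (fun _ => ℕ) (@Bool.rec (fun _ => ℕ) pb428 pb429 (Nat.ble (nat_lit 429) i)) (@Bool.rec (fun _ => ℕ) pb430 pb431 (Nat.ble (nat_lit 431) i)) (Nat.ble (nat_lit 430) i)) (Nat.ble (nat_lit 428) i)) (Nat.ble (nat_lit 424) i)) (@Bool.rec (fun _ => ℕ) (@Bool.rec (fun _ => ℕ) (@Bool.rec (fun _ => ℕ) (@Bool.rec (fun _ => ℕ) pb432 pb433 (Nat.ble (nat_lit 433) i)) (@Bool.rec (fun _ => ℕ) pb434 pb435 (Nat.ble (nat_lit 435) i)) (Nat.ble (nat_lit 434) i)) (@Bool.rec (fun _ => ℕ) (@Bool.rec (fun _ => ℕ) pb436 pb437 (Nat.ble (nat_lit 437) i)) (@Bool.rec (fun _ => ℕ) pb438 pb439 (Nat.ble (nat_lit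 439) i)) (Nat.ble (nat_lit 438) i)) (Nat.ble (nat_lit 436) i)) (@Bool.rec (fun _ => ℕ) (@Bool.rec (fun _ => ℕ) (@Bool.rec (fun _ => ℕ) pb440 pb441 (Nat.ble (nat_lit 441) i)) (@Bool.rec (fun _ => ℕ) pb442 pb443 (Nat.ble (nat_lit 443) i)) (Nat.ble (nat_lit 442) i)) (@Bool.rec (fun _ => ℕ) (@Bool.rec (fun _ => ℕ) pb444 pb445 (Nat.ble (nat_lit 445) i)) (@Bool.rec (fun _ => ℕ) pb446 pb447 (Nat.ble (nat_lit 447) i)) (Nat.ble (nat_lit 446) i)) (Nat.ble (nat_lit 444) i)) (Nat.ble (nat_lit 440) i)) (Nat.ble (nat_lit 432) i))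

def parBlk_n0_14 (i : ℕ) : ℕ := (@Bool.rec (fun _ => ℕ) (@Bool.rec (fun _ => ℕ) (@Bool.rec (fun _ => ℕ) (@Bool.rec (fun _ => ℕ) (@Bool.rec (fun _ => ℕ) pb448 pb449 (Nat.ble (nat_lit 449) i)) (@Bool.rec (fun _ => ℕ) pb450 pb451 (Nat.ble (nat_lit 451) i)) (Nat.ble (nat_lit 450) i)) (@Bool.rec (fun _ => ℕ) (@Bool.rec (fun _ => ℕ) pb452 pb453 (Nat.ble (nat_lit 453) i)) (@Bool.rec (fun _ => ℕ) pb454 pb455 (Nat.ble (nat_lit 455) i)) (Nat.ble (nat_lit 454) i)) (Nat.ble (nat_lit 452) i)) (@Bool.rec (fun _ => ℕ) (@Bool.rec (fun _ => ℕ) (@Bool.rec (fun _ => ℕ) pb456 pb457 (Nat.ble (nat_lit 457) i)) (@Bool.rec (fun _ => ℕ) pb458 pb459 (Nat.ble (nat_lit 459) i)) (Nat.ble (nat_lit 458) i)) (@Bool.rec (fun _ => ℕ) (@Bool.rec (fun _ => ℕ) pb460 pb461 (Nat.ble (nat_lit 461) i)) (@Bool.rec (fun _ => ℕ) pb462 pb463 (Nat.ble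 (nat_lit 463) i)) (Nat.ble (nat_lit 462) i)) (Nat.ble (nat_lit 460) i)) (Nat.ble (nat_lit 456) i)) (@Bool.rec (fun _ => ℕ) (@Bool.rec (fun _ => ℕ) (@Bool.rec (fun _ => ℕ) (@Bool.rec (fun _ => ℕ) pb464 pb465 (Nat.ble (nat_lit 465) i)) (@Bool.rec (fun _ => ℕ) pb466 pb467 (Nat.ble (nat_lit 467) i)) (Nat.ble (nat_lit 466) i)) (@Bool.rec (fun _ => ℕ) (@Bool.rec (fun _ => ℕ) pb468 pb469 (Nat.ble (nat_lit 469) i)) (@Bool.rec (fun _ => ℕ) pb470 pb471 (Nat.ble (nat_lit 471) i)) (Nat.ble (nat_lit 470) i)) (Nat.ble (nat_lit 468) i)) (@Bool.rec (fun _ => ℕ) (@Bool.rec (fun _ => ℕ) (@Bool.rec (fun _ => ℕ) pb472 pb473 (Nat.ble (nat_lit 473) i)) (@Bool.rec (fun _ => ℕ) pb474 pb475 (Nat.ble (nat_lit 475) i)) (Nat.ble (nat_lit 474) i)) (@Bool.rec (fun _ => ℕ) (@Bool.rec (fun _ => ℕ) pb476 pb477 (Nat.ble (nat_lit 477) i))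 (@Bool.rec (fun _ => ℕ) pb478 pb479 (Nat.ble (nat_lit 479) i)) (Nat.ble (nat_lit 478) i)) (Nat.ble (nat_lit 476) i)) (Nat.ble (nat_lit 472) i)) (Nat.ble (nat_lit 464) i))

def parBlk_n0_15 (i : ℕ) : ℕ := (@Bool.rec (fun _ => ℕ) (@Bool.rec (fun _ => ℕ) (@Bool.rec (fun _ => ℕ) (@Bool.rec (fun _ => ℕ) (@Bool.rec (fun _ => ℕ) pb480 pb481 (Nat.ble (nat_lit 481) i)) (@Bool.rec (fun _ => ℕ) pb482 pb483 (Nat.ble (nat_lit 483) i)) (Nat.ble (nat_lit 482) i)) (@Bool.rec (fun _ => ℕ) (@Bool.rec (fun _ => ℕ) pb484 pb485 (Nat.ble (nat_lit 485) i)) (@Bool.rec (fun _ => ℕ) pb486 pb487 (Nat.ble (nat_lit 487) i)) (Nat.ble (nat_lit 486) i)) (Nat.ble (nat_lit 484) i)) (@Bool.rec (fun _ => ℕ) (@Bool.rec (fun _ => ℕ) (@Bool.rec (fun _ => ℕ) pb488 pb489 (Nat.ble (nat_lit 489) i)) (@Bool.rec (fun _ => ℕ) pb490 pb491 (Nat.ble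 (nat_lit 491) i)) (Nat.ble (nat_lit 490) i)) (@Bool.rec (fun _ => ℕ) (@Bool.rec (fun _ => ℕ) pb492 pb493 (Nat.ble (nat_lit 493) i)) (@Bool.rec (fun _ => ℕ) pb494 pb495 (Nat.ble (nat_lit 495) i)) (Nat.ble (nat_lit 494) i)) (Nat.ble (nat_lit 492) i)) (Nat.ble (nat_lit 488) i)) (@Bool.rec (fun _ => ℕ) (@Bool.rec (fun _ => ℕ) (@Bool.rec (fun _ => ℕ) (@Bool.rec (fun _ => ℕ) pb496 pb497 (Nat.ble (nat_lit 497) i)) (@Bool.rec (fun _ => ℕ) pb498 pb499 (Nat.ble (nat_lit 499) i)) (Nat.ble (nat_lit 498) i)) (@Bool.rec (fun _ => ℕ) (@Bool.rec (fun _ => ℕ) pb500 pb501 (Nat.ble (nat_lit 501) i)) (@Bool.rec (fun _ => ℕ) pb502 pb503 (Nat.ble (nat_lit 503) i)) (Nat.ble (nat_lit 502) i)) (Nat.ble (nat_lit 500) i)) (@Bool.rec (fun _ => ℕ) (@Bool.rec (fun _ => ℕ) (@Bool.rec (fun _ => ℕ) pb504 pb505 (Nat.ble (nat_lit 505) i))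 (@Bool.rec (fun _ => ℕ) pb506 pb507 (Nat.ble (nat_lit 507) i)) (Nat.ble (nat_lit 506) i)) (@Bool.rec (fun _ => ℕ) (@Bool.rec (fun _ => ℕ) pb508 pb509 (Nat.ble (nat_lit 509) i)) (@Bool.rec (fun _ => ℕ) pb510 pb511 (Nat.ble (nat_lit 511) i)) (Nat.ble (nat_lit 510) i)) (Nat.ble (nat_lit 508) i)) (Nat.ble (nat_lit 504) i)) (Nat.ble (nat_lit 496) i))

def parBlk_n0_16 (i : ℕ) : ℕ := (@Bool.rec (fun _ => ℕ) (@Bool.rec (fun _ => ℕ) (@Bool.rec (fun _ => ℕ) (@Bool.rec (fun _ => ℕ) (@Bool.rec (fun _ => ℕ) pb512 pb513 (Nat.ble (nat_lit 513) i)) (@Bool.rec (fun _ => ℕ) pb514 pb515 (Nat.ble (nat_lit 515) i)) (Nat.ble (nat_lit 514) i)) (@Bool.rec (fun _ => ℕ) (@Bool.rec (fun _ => ℕ) pb516 pb517 (Nat.ble (nat_lit 517) i)) (@Bool.rec (fun _ => ℕ) pb518 pb519 (Nat.ble (nat_lit 519) i)) (Nat.ble (nat_lit 518) i)) (Nat.ble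 (nat_lit 516) i)) (@Bool.rec (fun _ => ℕ) (@Bool.rec (fun _ => ℕ) (@Bool.rec (fun _ => ℕ) pb520 pb521 (Nat.ble (nat_lit 521) i)) (@Bool.rec (fun _ => ℕ) pb522 pb523 (Nat.ble (nat_lit 523) i)) (Nat.ble (nat_lit 522) i)) (@Bool.rec (fun _ => ℕ) (@Bool.rec (fun _ => ℕ) pb524 pb525 (Nat.ble (nat_lit 525) i)) (@Bool.rec (fun _ => ℕ) pb526 pb527 (Nat.ble (nat_lit 527) i)) (Nat.ble (nat_lit 526) i)) (Nat.ble (nat_lit 524) i)) (Nat.ble (nat_lit 520) i)) (@Bool.rec (fun _ => ℕ) (@Bool.rec (fun _ => ℕ) (@Bool.rec (fun _ => ℕ) (@Bool.rec (fun _ => ℕ) pb528 pb529 (Nat.ble (nat_lit 529) i)) (@Bool.rec (fun _ => ℕ) pb530 pb531 (Nat.ble (nat_lit 531) i)) (Nat.ble (nat_lit 530) i)) (@Bool.rec (fun _ => ℕ) (@Bool.rec (fun _ => ℕ) pb532 pb533 (Nat.ble (nat_lit 533) i)) (@Bool.rec (fun _ => ℕ) pb534 pb535 (Nat.ble (nat_lit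 535) i)) (Nat.ble (nat_lit 534) i)) (Nat.ble (nat_lit 532) i)) (@Bool.rec (fun _ => ℕ) (@Bool.rec (fun _ => ℕ) (@Bool.rec (fun _ => ℕ) pb536 pb537 (Nat.ble (nat_lit 537) i)) (@Bool.rec (fun _ => ℕ) pb538 pb539 (Nat.ble (nat_lit 539) i)) (Nat.ble (nat_lit 538) i)) (@Bool.rec (fun _ => ℕ) (@Bool.rec (fun _ => ℕ) pb540 pb541 (Nat.ble (nat_lit 541) i)) (@Bool.rec (fun _ => ℕ) pb542 pb543 (Nat.ble (nat_lit 543) i)) (Nat.ble (nat_lit 542) i)) (Nat.ble (nat_lit 540) i)) (Nat.ble (nat_lit 536) i)) (Nat.ble (nat_lit 528) i))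

def parBlk_n0_17 (i : ℕ) : ℕ := (@Bool.rec (fun _ => ℕ) (@Bool.rec (fun _ => ℕ) (@Bool.rec (fun _ => ℕ) (@Bool.rec (fun _ => ℕ) (@Bool.rec (fun _ => ℕ) pb544 pb545 (Nat.ble (nat_lit 545) i)) (@Bool.rec (fun _ => ℕ) pb546 pb547 (Nat.ble (nat_lit 547) i)) (Nat.ble (nat_lit 546) i)) (@Bool.rec (fun _ => ℕ) (@Bool.rec (fun _ => ℕ) pb548 pb549 (Nat.ble (nat_lit 549) i)) (@Bool.rec (fun _ => ℕ) pb550 pb551 (Nat.ble (nat_lit 551) i)) (Nat.ble (nat_lit 550) i)) (Nat.ble (nat_lit 548) i)) (@Bool.rec (fun _ => ℕ) (@Bool.rec (fun _ => ℕ) (@Bool.rec (fun _ => ℕ) pb552 pb553 (Nat.ble (nat_lit 553) i)) (@Bool.rec (fun _ => ℕ) pb554 pb555 (Nat.ble (nat_lit 555) i)) (Nat.ble (nat_lit 554) i)) (@Bool.rec (fun _ => ℕ) (@Bool.rec (fun _ => ℕ) pb556 pb557 (Nat.ble (nat_lit 557) i)) (@Bool.rec (fun _ => ℕ) pb558 pb559 (Nat.ble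 (nat_lit 559) i)) (Nat.ble (nat_lit 558) i)) (Nat.ble (nat_lit 556) i)) (Nat.ble (nat_lit 552) i)) (@Bool.rec (fun _ => ℕ) (@Bool.rec (fun _ => ℕ) (@Bool.rec (fun _ => ℕ) (@Bool.rec (fun _ => ℕ) pb560 pb561 (Nat.ble (nat_lit 561) i)) (@Bool.rec (fun _ => ℕ) pb562 pb563 (Nat.ble (nat_lit 563) i)) (Nat.ble (nat_lit 562) i)) (@Bool.rec (fun _ => ℕ) (@Bool.rec (fun _ => ℕ) pb564 pb565 (Nat.ble (nat_lit 565) i)) (@Bool.rec (fun _ => ℕ) pb566 pb567 (Nat.ble (nat_lit 567) i)) (Nat.ble (nat_lit 566) i)) (Nat.ble (nat_lit 564) i)) (@Bool.rec (fun _ => ℕ) (@Bool.rec (fun _ => ℕ) (@Bool.rec (fun _ => ℕ) pb568 pb569 (Nat.ble (nat_lit 569) i)) (@Bool.rec (fun _ => ℕ) pb570 pb571 (Nat.ble (nat_lit 571) i)) (Nat.ble (nat_lit 570) i)) (@Bool.rec (fun _ => ℕ) (@Bool.rec (fun _ => ℕ) pb572 pb573 (Nat.ble (nat_lit 573) i))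 (@Bool.rec (fun _ => ℕ) pb574 pb575 (Nat.ble (nat_lit 575) i)) (Nat.ble (nat_lit 574) i)) (Nat.ble (nat_lit 572) i)) (Nat.ble (nat_lit 568) i)) (Nat.ble (nat_lit 560) i))

def parBlk_n0_18 (i : ℕ) : ℕ := (@Bool.rec (fun _ => ℕ) (@Bool.rec (fun _ => ℕ) (@Bool.rec (fun _ => ℕ) (@Bool.rec (fun _ => ℕ) (@Bool.rec (fun _ => ℕ) pb576 pb577 (Nat.ble (nat_lit 577) i)) (@Bool.rec (fun _ => ℕ) pb578 pb579 (Nat.ble (nat_lit 579) i)) (Nat.ble (nat_lit 578) i)) (@Bool.rec (fun _ => ℕ) (@Bool.rec (fun _ => ℕ) pb580 pb581 (Nat.ble (nat_lit 581) i)) (@Bool.rec (fun _ => ℕ) pb582 pb583 (Nat.ble (nat_lit 583) i)) (Nat.ble (nat_lit 582) i)) (Nat.ble (nat_lit 580) i)) (@Bool.rec (fun _ => ℕ) (@Bool.rec (fun _ => ℕ) (@Bool.rec (fun _ => ℕ) pb584 pb585 (Nat.ble (nat_lit 585) i)) (@Bool.rec (fun _ => ℕ) pb586 pb587 (Nat.ble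 (nat_lit 587) i)) (Nat.ble (nat_lit 586) i)) (@Bool.rec (fun _ => ℕ) (@Bool.rec (fun _ => ℕ) pb588 pb589 (Nat.ble (nat_lit 589) i)) (@Bool.rec (fun _ => ℕ) pb590 pb591 (Nat.ble (nat_lit 591) i)) (Nat.ble (nat_lit 590) i)) (Nat.ble (nat_lit 588) i)) (Nat.ble (nat_lit 584) i)) (@Bool.rec (fun _ => ℕ) (@Bool.rec (fun _ => ℕ) (@Bool.rec (fun _ => ℕ) (@Bool.rec (fun _ => ℕ) pb592 pb593 (Nat.ble (nat_lit 593) i)) (@Bool.rec (fun _ => ℕ) pb594 pb595 (Nat.ble (nat_lit 595) i)) (Nat.ble (nat_lit 594) i)) (@Bool.rec (fun _ => ℕ) (@Bool.rec (fun _ => ℕ) pb596 pb597 (Nat.ble (nat_lit 597) i)) (@Bool.rec (fun _ => ℕ) pb598 pb599 (Nat.ble (nat_lit 599) i)) (Nat.ble (nat_lit 598) i)) (Nat.ble (nat_lit 596) i)) (@Bool.rec (fun _ => ℕ) (@Bool.rec (fun _ => ℕ) (@Bool.rec (fun _ => ℕ) pb600 pb601 (Nat.ble (nat_lit 601) i))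 (@Bool.rec (fun _ => ℕ) pb602 pb603 (Nat.ble (nat_lit 603) i)) (Nat.ble (nat_lit 602) i)) (@Bool.rec (fun _ => ℕ) (@Bool.rec (fun _ => ℕ) pb604 pb605 (Nat.ble (nat_lit 605) i)) (@Bool.rec (fun _ => ℕ) pb606 pb607 (Nat.ble (nat_lit 607) i)) (Nat.ble (nat_lit 606) i)) (Nat.ble (nat_lit 604) i)) (Nat.ble (nat_lit 600) i)) (Nat.ble (nat_lit 592) i))

def parBlk_n0_19 (i : ℕ) : ℕ := (@Bool.rec (fun _ => ℕ) (@Bool.rec (fun _ => ℕ) (@Bool.rec (fun _ => ℕ) (@Bool.rec (fun _ => ℕ) (@Bool.rec (fun _ => ℕ) pb608 pb609 (Nat.ble (nat_lit 609) i)) (@Bool.rec (fun _ => ℕ) pb610 pb611 (Nat.ble (nat_lit 611) i)) (Nat.ble (nat_lit 610) i)) (@Bool.rec (fun _ => ℕ) (@Bool.rec (fun _ => ℕ) pb612 pb613 (Nat.ble (nat_lit 613) i)) (@Bool.rec (fun _ => ℕ) pb614 pb615 (Nat.ble (nat_lit 615) i)) (Nat.ble (nat_lit 614) i)) (Nat.ble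 (nat_lit 612) i)) (@Bool.rec (fun _ => ℕ) (@Bool.rec (fun _ => ℕ) (@Bool.rec (fun _ => ℕ) pb616 pb617 (Nat.ble (nat_lit 617) i)) (@Bool.rec (fun _ => ℕ) pb618 pb619 (Nat.ble (nat_lit 619) i)) (Nat.ble (nat_lit 618) i)) (@Bool.rec (fun _ => ℕ) (@Bool.rec (fun _ => ℕ) pb620 pb621 (Nat.ble (nat_lit 621) i)) (@Bool.rec (fun _ => ℕ) pb622 pb623 (Nat.ble (nat_lit 623) i)) (Nat.ble (nat_lit 622) i)) (Nat.ble (nat_lit 620) i)) (Nat.ble (nat_lit 616) i)) (@Bool.rec (fun _ => ℕ) (@Bool.rec (fun _ => ℕ) (@Bool.rec (fun _ => ℕ) (@Bool.rec (fun _ => ℕ) pb624 pb625 (Nat.ble (nat_lit 625) i)) (@Bool.rec (fun _ => ℕ) pb626 pb627 (Nat.ble (nat_lit 627) i)) (Nat.ble (nat_lit 626) i)) (@Bool.rec (fun _ => ℕ) (@Bool.rec (fun _ => ℕ) pb628 pb629 (Nat.ble (nat_lit 629) i)) (@Bool.rec (fun _ => ℕ) pb630 pb631 (Nat.ble (nat_lit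 631) i)) (Nat.ble (nat_lit 630) i)) (Nat.ble (nat_lit 628) i)) (@Bool.rec (fun _ => ℕ) (@Bool.rec (fun _ => ℕ) (@Bool.rec (fun _ => ℕ) pb632 pb633 (Nat.ble (nat_lit 633) i)) (@Bool.rec (fun _ => ℕ) pb634 pb635 (Nat.ble (nat_lit 635) i)) (Nat.ble (nat_lit 634) i)) (@Bool.rec (fun _ => ℕ) (@Bool.rec (fun _ => ℕ) pb636 pb637 (Nat.ble (nat_lit 637) i)) (@Bool.rec (fun _ => ℕ) pb638 pb639 (Nat.ble (nat_lit 639) i)) (Nat.ble (nat_lit 638) i)) (Nat.ble (nat_lit 636) i)) (Nat.ble (nat_lit 632) i)) (Nat.ble (nat_lit 624) i))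

def parBlk_n0_20 (i : ℕ) : ℕ := (@Bool.rec (fun _ => ℕ) (@Bool.rec (fun _ => ℕ) (@Bool.rec (fun _ => ℕ) (@Bool.rec (fun _ => ℕ) (@Bool.rec (fun _ => ℕ) pb640 pb641 (Nat.ble (nat_lit 641) i)) (@Bool.rec (fun _ => ℕ) pb642 pb643 (Nat.ble (nat_lit 643) i)) (Nat.ble (nat_lit 642) i)) (@Bool.rec (fun _ => ℕ) (@Bool.rec (fun _ => ℕ) pb644 pb645 (Nat.ble (nat_lit 645) i)) (@Bool.rec (fun _ => ℕ) pb646 pb647 (Nat.ble (nat_lit 647) i)) (Nat.ble (nat_lit 646) i)) (Nat.ble (nat_lit 644) i)) (@Bool.rec (fun _ => ℕ) (@Bool.rec (fun _ => ℕ) (@Bool.rec (fun _ => ℕ) pb648 pb649 (Nat.ble (nat_lit 649) i)) (@Bool.rec (fun _ => ℕ) pb650 pb651 (Nat.ble (nat_lit 651) i)) (Nat.ble (nat_lit 650) i)) (@Bool.rec (fun _ => ℕ) (@Bool.rec (fun _ => ℕ) pb652 pb653 (Nat.ble (nat_lit 653) i)) (@Bool.rec (fun _ => ℕ) pb654 pb655 (Nat.ble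 (nat_lit 655) i)) (Nat.ble (nat_lit 654) i)) (Nat.ble (nat_lit 652) i)) (Nat.ble (nat_lit 648) i)) (@Bool.rec (fun _ => ℕ) (@Bool.rec (fun _ => ℕ) (@Bool.rec (fun _ => ℕ) (@Bool.rec (fun _ => ℕ) pb656 pb657 (Nat.ble (nat_lit 657) i)) (@Bool.rec (fun _ => ℕ) pb658 pb659 (Nat.ble (nat_lit 659) i)) (Nat.ble (nat_lit 658) i)) (@Bool.rec (fun _ => ℕ) (@Bool.rec (fun _ => ℕ) pb660 pb661 (Nat.ble (nat_lit 661) i)) (@Bool.rec (fun _ => ℕ) pb662 pb663 (Nat.ble (nat_lit 663) i)) (Nat.ble (nat_lit 662) i)) (Nat.ble (nat_lit 660) i)) (@Bool.rec (fun _ => ℕ) (@Bool.rec (fun _ => ℕ) (@Bool.rec (fun _ => ℕ) pb664 pb665 (Nat.ble (nat_lit 665) i)) (@Bool.rec (fun _ => ℕ) pb666 pb667 (Nat.ble (nat_lit 667) i)) (Nat.ble (nat_lit 666) i)) (@Bool.rec (fun _ => ℕ) (@Bool.rec (fun _ => ℕ) pb668 pb669 (Nat.ble (nat_lit 669) i))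 (@Bool.rec (fun _ => ℕ) pb670 pb671 (Nat.ble (nat_lit 671) i)) (Nat.ble (nat_lit 670) i)) (Nat.ble (nat_lit 668) i)) (Nat.ble (nat_lit 664) i)) (Nat.ble (nat_lit 656) i))

def parBlk_n0_21 (i : ℕ) : ℕ := (@Bool.rec (fun _ => ℕ) (@Bool.rec (fun _ => ℕ) (@Bool.rec (fun _ => ℕ) (@Bool.rec (fun _ => ℕ) (@Bool.rec (fun _ => ℕ) pb672 pb673 (Nat.ble (nat_lit 673) i)) (@Bool.rec (fun _ => ℕ) pb674 pb675 (Nat.ble (nat_lit 675) i)) (Nat.ble (nat_lit 674) i)) (@Bool.rec (fun _ => ℕ) (@Bool.rec (fun _ => ℕ) pb676 pb677 (Nat.ble (nat_lit 677) i)) (@Bool.rec (fun _ => ℕ) pb678 pb679 (Nat.ble (nat_lit 679) i)) (Nat.ble (nat_lit 678) i)) (Nat.ble (nat_lit 676) i)) (@Bool.rec (fun _ => ℕ) (@Bool.rec (fun _ => ℕ) (@Bool.rec (fun _ => ℕ) pb680 pb681 (Nat.ble (nat_lit 681) i)) (@Bool.rec (fun _ => ℕ) pb682 pb683 (Nat.ble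 (nat_lit 683) i)) (Nat.ble (nat_lit 682) i)) (@Bool.rec (fun _ => ℕ) (@Bool.rec (fun _ => ℕ) pb684 pb685 (Nat.ble (nat_lit 685) i)) (@Bool.rec (fun _ => ℕ) pb686 pb687 (Nat.ble (nat_lit 687) i)) (Nat.ble (nat_lit 686) i)) (Nat.ble (nat_lit 684) i)) (Nat.ble (nat_lit 680) i)) (@Bool.rec (fun _ => ℕ) (@Bool.rec (fun _ => ℕ) (@Bool.rec (fun _ => ℕ) (@Bool.rec (fun _ => ℕ) pb688 pb689 (Nat.ble (nat_lit 689) i)) (@Bool.rec (fun _ => ℕ) pb690 pb691 (Nat.ble (nat_lit 691) i)) (Nat.ble (nat_lit 690) i)) (@Bool.rec (fun _ => ℕ) (@Bool.rec (fun _ => ℕ) pb692 pb693 (Nat.ble (nat_lit 693) i)) (@Bool.rec (fun _ => ℕ) pb694 pb695 (Nat.ble (nat_lit 695) i)) (Nat.ble (nat_lit 694) i)) (Nat.ble (nat_lit 692) i)) (@Bool.rec (fun _ => ℕ) (@Bool.rec (fun _ => ℕ) (@Bool.rec (fun _ => ℕ) pb696 pb697 (Nat.ble (nat_lit 697) i))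 (@Bool.rec (fun _ => ℕ) pb698 pb699 (Nat.ble (nat_lit 699) i)) (Nat.ble (nat_lit 698) i)) (@Bool.rec (fun _ => ℕ) (@Bool.rec (fun _ => ℕ) pb700 pb701 (Nat.ble (nat_lit 701) i)) (@Bool.rec (fun _ => ℕ) pb702 pb703 (Nat.ble (nat_lit 703) i)) (Nat.ble (nat_lit 702) i)) (Nat.ble (nat_lit 700) i)) (Nat.ble (nat_lit 696) i)) (Nat.ble (nat_lit 688) i))

def parBlk_n0_22 (i : ℕ) : ℕ := (@Bool.rec (fun _ => ℕ) (@Bool.rec (fun _ => ℕ) (@Bool.rec (fun _ => ℕ) (@Bool.rec (fun _ => ℕ) (@Bool.rec (fun _ => ℕ) pb704 pb705 (Nat.ble (nat_lit 705) i)) (@Bool.rec (fun _ => ℕ) pb706 pb707 (Nat.ble (nat_lit 707) i)) (Nat.ble (nat_lit 706) i)) (@Bool.rec (fun _ => ℕ) (@Bool.rec (fun _ => ℕ) pb708 pb709 (Nat.ble (nat_lit 709) i)) (@Bool.rec (fun _ => ℕ) pb710 pb711 (Nat.ble (nat_lit 711) i)) (Nat.ble (nat_lit 710) i)) (Nat.ble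 (nat_lit 708) i)) (@Bool.rec (fun _ => ℕ) (@Bool.rec (fun _ => ℕ) (@Bool.rec (fun _ => ℕ) pb712 pb713 (Nat.ble (nat_lit 713) i)) (@Bool.rec (fun _ => ℕ) pb714 pb715 (Nat.ble (nat_lit 715) i)) (Nat.ble (nat_lit 714) i)) (@Bool.rec (fun _ => ℕ) (@Bool.rec (fun _ => ℕ) pb716 pb717 (Nat.ble (nat_lit 717) i)) (@Bool.rec (fun _ => ℕ) pb718 pb719 (Nat.ble (nat_lit 719) i)) (Nat.ble (nat_lit 718) i)) (Nat.ble (nat_lit 716) i)) (Nat.ble (nat_lit 712) i)) (@Bool.rec (fun _ => ℕ) (@Bool.rec (fun _ => ℕ) (@Bool.rec (fun _ => ℕ) (@Bool.rec (fun _ => ℕ) pb720 pb721 (Nat.ble (nat_lit 721) i)) (@Bool.rec (fun _ => ℕ) pb722 pb723 (Nat.ble (nat_lit 723) i)) (Nat.ble (nat_lit 722) i)) (@Bool.rec (fun _ => ℕ) (@Bool.rec (fun _ => ℕ) pb724 pb725 (Nat.ble (nat_lit 725) i)) (@Bool.rec (fun _ => ℕ) pb726 pb727 (Nat.ble (nat_lit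 727) i)) (Nat.ble (nat_lit 726) i)) (Nat.ble (nat_lit 724) i)) (@Bool.rec (fun _ => ℕ) (@Bool.rec (fun _ => ℕ) (@Bool.rec (fun _ => ℕ) pb728 pb729 (Nat.ble (nat_lit 729) i)) (@Bool.rec (fun _ => ℕ) pb730 pb731 (Nat.ble (nat_lit 731) i)) (Nat.ble (nat_lit 730) i)) (@Bool.rec (fun _ => ℕ) (@Bool.rec (fun _ => ℕ) pb732 pb733 (Nat.ble (nat_lit 733) i)) (@Bool.rec (fun _ => ℕ) pb734 pb735 (Nat.ble (nat_lit 735) i)) (Nat.ble (nat_lit 734) i)) (Nat.ble (nat_lit 732) i)) (Nat.ble (nat_lit 728) i)) (Nat.ble (nat_lit 720) i))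

def parBlk_n0_23 (i : ℕ) : ℕ := (@Bool.rec (fun _ => ℕ) (@Bool.rec (fun _ => ℕ) (@Bool.rec (fun _ => ℕ) (@Bool.rec (fun _ => ℕ) (@Bool.rec (fun _ => ℕ) pb736 pb737 (Nat.ble (nat_lit 737) i)) (@Bool.rec (fun _ => ℕ) pb738 pb739 (Nat.ble (nat_lit 739) i)) (Nat.ble (nat_lit 738) i)) (@Bool.rec (fun _ => ℕ) (@Bool.rec (fun _ => ℕ) pb740 pb741 (Nat.ble (nat_lit 741) i)) (@Bool.rec (fun _ => ℕ) pb742 pb743 (Nat.ble (nat_lit 743) i)) (Nat.ble (nat_lit 742) i)) (Nat.ble (nat_lit 740) i)) (@Bool.rec (fun _ => ℕ) (@Bool.rec (fun _ => ℕ) (@Bool.rec (fun _ => ℕ) pb744 pb745 (Nat.ble (nat_lit 745) i)) (@Bool.rec (fun _ => ℕ) pb746 pb747 (Nat.ble (nat_lit 747) i)) (Nat.ble (nat_lit 746) i)) (@Bool.rec (fun _ => ℕ) (@Bool.rec (fun _ => ℕ) pb748 pb749 (Nat.ble (nat_lit 749) i)) (@Bool.rec (fun _ => ℕ) pb750 pb751 (Nat.ble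 (nat_lit 751) i)) (Nat.ble (nat_lit 750) i)) (Nat.ble (nat_lit 748) i)) (Nat.ble (nat_lit 744) i)) (@Bool.rec (fun _ => ℕ) (@Bool.rec (fun _ => ℕ) (@Bool.rec (fun _ => ℕ) (@Bool.rec (fun _ => ℕ) pb752 pb753 (Nat.ble (nat_lit 753) i)) (@Bool.rec (fun _ => ℕ) pb754 pb755 (Nat.ble (nat_lit 755) i)) (Nat.ble (nat_lit 754) i)) (@Bool.rec (fun _ => ℕ) (@Bool.rec (fun _ => ℕ) pb756 pb757 (Nat.ble (nat_lit 757) i)) (@Bool.rec (fun _ => ℕ) pb758 pb759 (Nat.ble (nat_lit 759) i)) (Nat.ble (nat_lit 758) i)) (Nat.ble (nat_lit 756) i)) (@Bool.rec (fun _ => ℕ) (@Bool.rec (fun _ => ℕ) (@Bool.rec (fun _ => ℕ) pb760 pb761 (Nat.ble (nat_lit 761) i)) (@Bool.rec (fun _ => ℕ) pb762 pb763 (Nat.ble (nat_lit 763) i)) (Nat.ble (nat_lit 762) i)) (@Bool.rec (fun _ => ℕ) (@Bool.rec (fun _ => ℕ) pb764 pb765 (Nat.ble (nat_lit 765) i))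 (@Bool.rec (fun _ => ℕ) pb766 pb767 (Nat.ble (nat_lit 767) i)) (Nat.ble (nat_lit 766) i)) (Nat.ble (nat_lit 764) i)) (Nat.ble (nat_lit 760) i)) (Nat.ble (nat_lit 752) i))

def parBlk_n0_24 (i : ℕ) : ℕ := (@Bool.rec (fun _ => ℕ) (@Bool.rec (fun _ => ℕ) (@Bool.rec (fun _ => ℕ) (@Bool.rec (fun _ => ℕ) (@Bool.rec (fun _ => ℕ) pb768 pb769 (Nat.ble (nat_lit 769) i)) (@Bool.rec (fun _ => ℕ) pb770 pb771 (Nat.ble (nat_lit 771) i)) (Nat.ble (nat_lit 770) i)) (@Bool.rec (fun _ => ℕ) (@Bool.rec (fun _ => ℕ) pb772 pb773 (Nat.ble (nat_lit 773) i)) (@Bool.rec (fun _ => ℕ) pb774 pb775 (Nat.ble (nat_lit 775) i)) (Nat.ble (nat_lit 774) i)) (Nat.ble (nat_lit 772) i)) (@Bool.rec (fun _ => ℕ) (@Bool.rec (fun _ => ℕ) (@Bool.rec (fun _ => ℕ) pb776 pb777 (Nat.ble (nat_lit 777) i)) (@Bool.rec (fun _ => ℕ) pb778 pb779 (Nat.ble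 (nat_lit 779) i)) (Nat.ble (nat_lit 778) i)) (@Bool.rec (fun _ => ℕ) (@Bool.rec (fun _ => ℕ) pb780 pb781 (Nat.ble (nat_lit 781) i)) (@Bool.rec (fun _ => ℕ) pb782 pb783 (Nat.ble (nat_lit 783) i)) (Nat.ble (nat_lit 782) i)) (Nat.ble (nat_lit 780) i)) (Nat.ble (nat_lit 776) i)) (@Bool.rec (fun _ => ℕ) (@Bool.rec (fun _ => ℕ) (@Bool.rec (fun _ => ℕ) (@Bool.rec (fun _ => ℕ) pb784 pb785 (Nat.ble (nat_lit 785) i)) (@Bool.rec (fun _ => ℕ) pb786 pb787 (Nat.ble (nat_lit 787) i)) (Nat.ble (nat_lit 786) i)) (@Bool.rec (fun _ => ℕ) (@Bool.rec (fun _ => ℕ) pb788 pb789 (Nat.ble (nat_lit 789) i)) (@Bool.rec (fun _ => ℕ) pb790 pb791 (Nat.ble (nat_lit 791) i)) (Nat.ble (nat_lit 790) i)) (Nat.ble (nat_lit 788) i)) (@Bool.rec (fun _ => ℕ) (@Bool.rec (fun _ => ℕ) (@Bool.rec (fun _ => ℕ) pb792 pb793 (Nat.ble (nat_lit 793) i))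 (@Bool.rec (fun _ => ℕ) pb794 pb795 (Nat.ble (nat_lit 795) i)) (Nat.ble (nat_lit 794) i)) (@Bool.rec (fun _ => ℕ) (@Bool.rec (fun _ => ℕ) pb796 pb797 (Nat.ble (nat_lit 797) i)) (@Bool.rec (fun _ => ℕ) pb798 pb799 (Nat.ble (nat_lit 799) i)) (Nat.ble (nat_lit 798) i)) (Nat.ble (nat_lit 796) i)) (Nat.ble (nat_lit 792) i)) (Nat.ble (nat_lit 784) i))

def parBlk_n0_25 (i : ℕ) : ℕ := (@Bool.rec (fun _ => ℕ) (@Bool.rec (fun _ => ℕ) (@Bool.rec (fun _ => ℕ) (@Bool.rec (fun _ => ℕ) (@Bool.rec (fun _ => ℕ) pb800 pb801 (Nat.ble (nat_lit 801) i)) (@Bool.rec (fun _ => ℕ) pb802 pb803 (Nat.ble (nat_lit 803) i)) (Nat.ble (nat_lit 802) i)) (@Bool.rec (fun _ => ℕ) (@Bool.rec (fun _ => ℕ) pb804 pb805 (Nat.ble (nat_lit 805) i)) (@Bool.rec (fun _ => ℕ) pb806 pb807 (Nat.ble (nat_lit 807) i)) (Nat.ble (nat_lit 806) i)) (Nat.ble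 (nat_lit 804) i)) (@Bool.rec (fun _ => ℕ) (@Bool.rec (fun _ => ℕ) (@Bool.rec (fun _ => ℕ) pb808 pb809 (Nat.ble (nat_lit 809) i)) (@Bool.rec (fun _ => ℕ) pb810 pb811 (Nat.ble (nat_lit 811) i)) (Nat.ble (nat_lit 810) i)) (@Bool.rec (fun _ => ℕ) (@Bool.rec (fun _ => ℕ) pb812 pb813 (Nat.ble (nat_lit 813) i)) (@Bool.rec (fun _ => ℕ) pb814 pb815 (Nat.ble (nat_lit 815) i)) (Nat.ble (nat_lit 814) i)) (Nat.ble (nat_lit 812) i)) (Nat.ble (nat_lit 808) i)) (@Bool.rec (fun _ => ℕ) (@Bool.rec (fun _ => ℕ) (@Bool.rec (fun _ => ℕ) (@Bool.rec (fun _ => ℕ) pb816 pb817 (Nat.ble (nat_lit 817) i)) (@Bool.rec (fun _ => ℕ) pb818 pb819 (Nat.ble (nat_lit 819) i)) (Nat.ble (nat_lit 818) i)) (@Bool.rec (fun _ => ℕ) (@Bool.rec (fun _ => ℕ) pb820 pb821 (Nat.ble (nat_lit 821) i)) (@Bool.rec (fun _ => ℕ) pb822 pb823 (Nat.ble (nat_lit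 823) i)) (Nat.ble (nat_lit 822) i)) (Nat.ble (nat_lit 820) i)) (@Bool.rec (fun _ => ℕ) (@Bool.rec (fun _ => ℕ) (@Bool.rec (fun _ => ℕ) pb824 pb825 (Nat.ble (nat_lit 825) i)) (@Bool.rec (fun _ => ℕ) pb826 pb827 (Nat.ble (nat_lit 827) i)) (Nat.ble (nat_lit 826) i)) (@Bool.rec (fun _ => ℕ) (@Bool.rec (fun _ => ℕ) pb828 pb829 (Nat.ble (nat_lit 829) i)) (@Bool.rec (fun _ => ℕ) pb830 pb831 (Nat.ble (nat_lit 831) i)) (Nat.ble (nat_lit 830) i)) (Nat.ble (nat_lit 828) i)) (Nat.ble (nat_lit 824) i)) (Nat.ble (nat_lit 816) i))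

def parBlk_n0_26 (i : ℕ) : ℕ := (@Bool.rec (fun _ => ℕ) (@Bool.rec (fun _ => ℕ) (@Bool.rec (fun _ => ℕ) (@Bool.rec (fun _ => ℕ) (@Bool.rec (fun _ => ℕ) pb832 pb833 (Nat.ble (nat_lit 833) i)) (@Bool.rec (fun _ => ℕ) pb834 pb835 (Nat.ble (nat_lit 835) i)) (Nat.ble (nat_lit 834) i)) (@Bool.rec (fun _ => ℕ) (@Bool.rec (fun _ => ℕ) pb836 pb837 (Nat.ble (nat_lit 837) i)) (@Bool.rec (fun _ => ℕ) pb838 pb839 (Nat.ble (nat_lit 839) i)) (Nat.ble (nat_lit 838) i)) (Nat.ble (nat_lit 836) i)) (@Bool.rec (fun _ => ℕ) (@Bool.rec (fun _ => ℕ) (@Bool.rec (fun _ => ℕ) pb840 pb841 (Nat.ble (nat_lit 841) i)) (@Bool.rec (fun _ => ℕ) pb842 pb843 (Nat.ble (nat_lit 843) i)) (Nat.ble (nat_lit 842) i)) (@Bool.rec (fun _ => ℕ) (@Bool.rec (fun _ => ℕ) pb844 pb845 (Nat.ble (nat_lit 845) i)) (@Bool.rec (fun _ => ℕ) pb846 pb847 (Nat.ble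 (nat_lit 847) i)) (Nat.ble (nat_lit 846) i)) (Nat.ble (nat_lit 844) i)) (Nat.ble (nat_lit 840) i)) (@Bool.rec (fun _ => ℕ) (@Bool.rec (fun _ => ℕ) (@Bool.rec (fun _ => ℕ) (@Bool.rec (fun _ => ℕ) pb848 pb849 (Nat.ble (nat_lit 849) i)) (@Bool.rec (fun _ => ℕ) pb850 pb851 (Nat.ble (nat_lit 851) i)) (Nat.ble (nat_lit 850) i)) (@Bool.rec (fun _ => ℕ) (@Bool.rec (fun _ => ℕ) pb852 pb853 (Nat.ble (nat_lit 853) i)) (@Bool.rec (fun _ => ℕ) pb854 pb855 (Nat.ble (nat_lit 855) i)) (Nat.ble (nat_lit 854) i)) (Nat.ble (nat_lit 852) i)) (@Bool.rec (fun _ => ℕ) (@Bool.rec (fun _ => ℕ) (@Bool.rec (fun _ => ℕ) pb856 pb857 (Nat.ble (nat_lit 857) i)) (@Bool.rec (fun _ => ℕ) pb858 pb859 (Nat.ble (nat_lit 859) i)) (Nat.ble (nat_lit 858) i)) (@Bool.rec (fun _ => ℕ) (@Bool.rec (fun _ => ℕ) pb860 pb861 (Nat.ble (nat_lit 861) i))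 (@Bool.rec (fun _ => ℕ) pb862 pb863 (Nat.ble (nat_lit 863) i)) (Nat.ble (nat_lit 862) i)) (Nat.ble (nat_lit 860) i)) (Nat.ble (nat_lit 856) i)) (Nat.ble (nat_lit 848) i))

def parBlk_n0_27 (i : ℕ) : ℕ := (@Bool.rec (fun _ => ℕ) (@Bool.rec (fun _ => ℕ) (@Bool.rec (fun _ => ℕ) (@Bool.rec (fun _ => ℕ) (@Bool.rec (fun _ => ℕ) pb864 pb865 (Nat.ble (nat_lit 865) i)) (@Bool.rec (fun _ => ℕ) pb866 pb867 (Nat.ble (nat_lit 867) i)) (Nat.ble (nat_lit 866) i)) (@Bool.rec (fun _ => ℕ) (@Bool.rec (fun _ => ℕ) pb868 pb869 (Nat.ble (nat_lit 869) i)) (@Bool.rec (fun _ => ℕ) pb870 pb871 (Nat.ble (nat_lit 871) i)) (Nat.ble (nat_lit 870) i)) (Nat.ble (nat_lit 868) i)) (@Bool.rec (fun _ => ℕ) (@Bool.rec (fun _ => ℕ) (@Bool.rec (fun _ => ℕ) pb872 pb873 (Nat.ble (nat_lit 873) i)) (@Bool.rec (fun _ => ℕ) pb874 pb875 (Nat.ble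 (nat_lit 875) i)) (Nat.ble (nat_lit 874) i)) (@Bool.rec (fun _ => ℕ) (@Bool.rec (fun _ => ℕ) pb876 pb877 (Nat.ble (nat_lit 877) i)) (@Bool.rec (fun _ => ℕ) pb878 pb879 (Nat.ble (nat_lit 879) i)) (Nat.ble (nat_lit 878) i)) (Nat.ble (nat_lit 876) i)) (Nat.ble (nat_lit 872) i)) (@Bool.rec (fun _ => ℕ) (@Bool.rec (fun _ => ℕ) (@Bool.rec (fun _ => ℕ) (@Bool.rec (fun _ => ℕ) pb880 pb881 (Nat.ble (nat_lit 881) i)) (@Bool.rec (fun _ => ℕ) pb882 pb883 (Nat.ble (nat_lit 883) i)) (Nat.ble (nat_lit 882) i)) (@Bool.rec (fun _ => ℕ) (@Bool.rec (fun _ => ℕ) pb884 pb885 (Nat.ble (nat_lit 885) i)) (@Bool.rec (fun _ => ℕ) pb886 pb887 (Nat.ble (nat_lit 887) i)) (Nat.ble (nat_lit 886) i)) (Nat.ble (nat_lit 884) i)) (@Bool.rec (fun _ => ℕ) (@Bool.rec (fun _ => ℕ) (@Bool.rec (fun _ => ℕ) pb888 pb889 (Nat.ble (nat_lit 889) i))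 (@Bool.rec (fun _ => ℕ) pb890 pb891 (Nat.ble (nat_lit 891) i)) (Nat.ble (nat_lit 890) i)) (@Bool.rec (fun _ => ℕ) (@Bool.rec (fun _ => ℕ) pb892 pb893 (Nat.ble (nat_lit 893) i)) (@Bool.rec (fun _ => ℕ) pb894 pb895 (Nat.ble (nat_lit 895) i)) (Nat.ble (nat_lit 894) i)) (Nat.ble (nat_lit 892) i)) (Nat.ble (nat_lit 888) i)) (Nat.ble (nat_lit 880) i))

def parBlk_n0_28 (i : ℕ) : ℕ := (@Bool.rec (fun _ => ℕ) (@Bool.rec (fun _ => ℕ) (@Bool.rec (fun _ => ℕ) (@Bool.rec (fun _ => ℕ) (@Bool.rec (fun _ => ℕ) pb896 pb897 (Nat.ble (nat_lit 897) i)) (@Bool.rec (fun _ => ℕ) pb898 pb899 (Nat.ble (nat_lit 899) i)) (Nat.ble (nat_lit 898) i)) (@Bool.rec (fun _ => ℕ) (@Bool.rec (fun _ => ℕ) pb900 pb901 (Nat.ble (nat_lit 901) i)) (@Bool.rec (fun _ => ℕ) pb902 pb903 (Nat.ble (nat_lit 903) i)) (Nat.ble (nat_lit 902) i)) (Nat.ble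 (nat_lit 900) i)) (@Bool.rec (fun _ => ℕ) (@Bool.rec (fun _ => ℕ) (@Bool.rec (fun _ => ℕ) pb904 pb905 (Nat.ble (nat_lit 905) i)) (@Bool.rec (fun _ => ℕ) pb906 pb907 (Nat.ble (nat_lit 907) i)) (Nat.ble (nat_lit 906) i)) (@Bool.rec (fun _ => ℕ) (@Bool.rec (fun _ => ℕ) pb908 pb909 (Nat.ble (nat_lit 909) i)) (@Bool.rec (fun _ => ℕ) pb910 pb911 (Nat.ble (nat_lit 911) i)) (Nat.ble (nat_lit 910) i)) (Nat.ble (nat_lit 908) i)) (Nat.ble (nat_lit 904) i)) (@Bool.rec (fun _ => ℕ) (@Bool.rec (fun _ => ℕ) (@Bool.rec (fun _ => ℕ) (@Bool.rec (fun _ => ℕ) pb912 pb913 (Nat.ble (nat_lit 913) i)) (@Bool.rec (fun _ => ℕ) pb914 pb915 (Nat.ble (nat_lit 915) i)) (Nat.ble (nat_lit 914) i)) (@Bool.rec (fun _ => ℕ) (@Bool.rec (fun _ => ℕ) pb916 pb917 (Nat.ble (nat_lit 917) i)) (@Bool.rec (fun _ => ℕ) pb918 pb919 (Nat.ble (nat_lit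 919) i)) (Nat.ble (nat_lit 918) i)) (Nat.ble (nat_lit 916) i)) (@Bool.rec (fun _ => ℕ) (@Bool.rec (fun _ => ℕ) (@Bool.rec (fun _ => ℕ) pb920 pb921 (Nat.ble (nat_lit 921) i)) (@Bool.rec (fun _ => ℕ) pb922 pb923 (Nat.ble (nat_lit 923) i)) (Nat.ble (nat_lit 922) i)) (@Bool.rec (fun _ => ℕ) (@Bool.rec (fun _ => ℕ) pb924 pb925 (Nat.ble (nat_lit 925) i)) (@Bool.rec (fun _ => ℕ) pb926 pb927 (Nat.ble (nat_lit 927) i)) (Nat.ble (nat_lit 926) i)) (Nat.ble (nat_lit 924) i)) (Nat.ble (nat_lit 920) i)) (Nat.ble (nat_lit 912) i))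

def parBlk_n0_29 (i : ℕ) : ℕ := (@Bool.rec (fun _ => ℕ) (@Bool.rec (fun _ => ℕ) (@Bool.rec (fun _ => ℕ) (@Bool.rec (fun _ => ℕ) (@Bool.rec (fun _ => ℕ) pb928 pb929 (Nat.ble (nat_lit 929) i)) (@Bool.rec (fun _ => ℕ) pb930 pb931 (Nat.ble (nat_lit 931) i)) (Nat.ble (nat_lit 930) i)) (@Bool.rec (fun _ => ℕ) (@Bool.rec (fun _ => ℕ) pb932 pb933 (Nat.ble (nat_lit 933) i)) (@Bool.rec (fun _ => ℕ) pb934 pb935 (Nat.ble (nat_lit 935) i)) (Nat.ble (nat_lit 934) i)) (Nat.ble (nat_lit 932) i)) (@Bool.rec (fun _ => ℕ) (@Bool.rec (fun _ => ℕ) (@Bool.rec (fun _ => ℕ) pb936 pb937 (Nat.ble (nat_lit 937) i)) (@Bool.rec (fun _ => ℕ) pb938 pb939 (Nat.ble (nat_lit 939) i)) (Nat.ble (nat_lit 938) i)) (@Bool.rec (fun _ => ℕ) (@Bool.rec (fun _ => ℕ) pb940 pb941 (Nat.ble (nat_lit 941) i)) (@Bool.rec (fun _ => ℕ) pb942 pb943 (Nat.ble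 (nat_lit 943) i)) (Nat.ble (nat_lit 942) i)) (Nat.ble (nat_lit 940) i)) (Nat.ble (nat_lit 936) i)) (@Bool.rec (fun _ => ℕ) (@Bool.rec (fun _ => ℕ) (@Bool.rec (fun _ => ℕ) (@Bool.rec (fun _ => ℕ) pb944 pb945 (Nat.ble (nat_lit 945) i)) (@Bool.rec (fun _ => ℕ) pb946 pb947 (Nat.ble (nat_lit 947) i)) (Nat.ble (nat_lit 946) i)) (@Bool.rec (fun _ => ℕ) (@Bool.rec (fun _ => ℕ) pb948 pb949 (Nat.ble (nat_lit 949) i)) (@Bool.rec (fun _ => ℕ) pb950 pb951 (Nat.ble (nat_lit 951) i)) (Nat.ble (nat_lit 950) i)) (Nat.ble (nat_lit 948) i)) (@Bool.rec (fun _ => ℕ) (@Bool.rec (fun _ => ℕ) (@Bool.rec (fun _ => ℕ) pb952 pb953 (Nat.ble (nat_lit 953) i)) (@Bool.rec (fun _ => ℕ) pb954 pb955 (Nat.ble (nat_lit 955) i)) (Nat.ble (nat_lit 954) i)) (@Bool.rec (fun _ => ℕ) (@Bool.rec (fun _ => ℕ) pb956 pb957 (Nat.ble (nat_lit 957) i))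 (@Bool.rec (fun _ => ℕ) pb958 pb959 (Nat.ble (nat_lit 959) i)) (Nat.ble (nat_lit 958) i)) (Nat.ble (nat_lit 956) i)) (Nat.ble (nat_lit 952) i)) (Nat.ble (nat_lit 944) i))

def parBlk_n0_30 (i : ℕ) : ℕ := (@Bool.rec (fun _ => ℕ) (@Bool.rec (fun _ => ℕ) (@Bool.rec (fun _ => ℕ) (@Bool.rec (fun _ => ℕ) (@Bool.rec (fun _ => ℕ) pb960 pb961 (Nat.ble (nat_lit 961) i)) (@Bool.rec (fun _ => ℕ) pb962 pb963 (Nat.ble (nat_lit 963) i)) (Nat.ble (nat_lit 962) i)) (@Bool.rec (fun _ => ℕ) (@Bool.rec (fun _ => ℕ) pb964 pb965 (Nat.ble (nat_lit 965) i)) (@Bool.rec (fun _ => ℕ) pb966 pb967 (Nat.ble (nat_lit 967) i)) (Nat.ble (nat_lit 966) i)) (Nat.ble (nat_lit 964) i)) (@Bool.rec (fun _ => ℕ) (@Bool.rec (fun _ => ℕ) (@Bool.rec (fun _ => ℕ) pb968 pb969 (Nat.ble (nat_lit 969) i)) (@Bool.rec (fun _ => ℕ) pb970 pb971 (Nat.ble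 (nat_lit 971) i)) (Nat.ble (nat_lit 970) i)) (@Bool.rec (fun _ => ℕ) (@Bool.rec (fun _ => ℕ) pb972 pb973 (Nat.ble (nat_lit 973) i)) (@Bool.rec (fun _ => ℕ) pb974 pb975 (Nat.ble (nat_lit 975) i)) (Nat.ble (nat_lit 974) i)) (Nat.ble (nat_lit 972) i)) (Nat.ble (nat_lit 968) i)) (@Bool.rec (fun _ => ℕ) (@Bool.rec (fun _ => ℕ) (@Bool.rec (fun _ => ℕ) (@Bool.rec (fun _ => ℕ) pb976 pb977 (Nat.ble (nat_lit 977) i)) (@Bool.rec (fun _ => ℕ) pb978 pb979 (Nat.ble (nat_lit 979) i)) (Nat.ble (nat_lit 978) i)) (@Bool.rec (fun _ => ℕ) (@Bool.rec (fun _ => ℕ) pb980 pb981 (Nat.ble (nat_lit 981) i)) (@Bool.rec (fun _ => ℕ) pb982 pb983 (Nat.ble (nat_lit 983) i)) (Nat.ble (nat_lit 982) i)) (Nat.ble (nat_lit 980) i)) (@Bool.rec (fun _ => ℕ) (@Bool.rec (fun _ => ℕ) (@Bool.rec (fun _ => ℕ) pb984 pb985 (Nat.ble (nat_lit 985) i))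 (@Bool.rec (fun _ => ℕ) pb986 pb987 (Nat.ble (nat_lit 987) i)) (Nat.ble (nat_lit 986) i)) (@Bool.rec (fun _ => ℕ) (@Bool.rec (fun _ => ℕ) pb988 pb989 (Nat.ble (nat_lit 989) i)) (@Bool.rec (fun _ => ℕ) pb990 pb991 (Nat.ble (nat_lit 991) i)) (Nat.ble (nat_lit 990) i)) (Nat.ble (nat_lit 988) i)) (Nat.ble (nat_lit 984) i)) (Nat.ble (nat_lit 976) i))

def parBlk_n0_31 (i : ℕ) : ℕ := (@Bool.rec (fun _ => ℕ) (@Bool.rec (fun _ => ℕ) (@Bool.rec (fun _ => ℕ) (@Bool.rec (fun _ => ℕ) (@Bool.rec (fun _ => ℕ) pb992 pb993 (Nat.ble (nat_lit 993) i)) (@Bool.rec (fun _ => ℕ) pb994 pb995 (Nat.ble (nat_lit 995) i)) (Nat.ble (nat_lit 994) i)) (@Bool.rec (fun _ => ℕ) (@Bool.rec (fun _ => ℕ) pb996 pb997 (Nat.ble (nat_lit 997) i)) (@Bool.rec (fun _ => ℕ) pb998 pb999 (Nat.ble (nat_lit 999) i)) (Nat.ble (nat_lit 998) i)) (Nat.ble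 (nat_lit 996) i)) (@Bool.rec (fun _ => ℕ) (@Bool.rec (fun _ => ℕ) (@Bool.rec (fun _ => ℕ) pb1000 pb1001 (Nat.ble (nat_lit 1001) i)) (@Bool.rec (fun _ => ℕ) pb1002 pb1003 (Nat.ble (nat_lit 1003) i)) (Nat.ble (nat_lit 1002) i)) (@Bool.rec (fun _ => ℕ) (@Bool.rec (fun _ => ℕ) pb1004 pb1005 (Nat.ble (nat_lit 1005) i)) (@Bool.rec (fun _ => ℕ) pb1006 pb1007 (Nat.ble (nat_lit 1007) i)) (Nat.ble (nat_lit 1006) i)) (Nat.ble (nat_lit 1004) i)) (Nat.ble (nat_lit 1000) i)) (@Bool.rec (fun _ => ℕ) (@Bool.rec (fun _ => ℕ) (@Bool.rec (fun _ => ℕ) (@Bool.rec (fun _ => ℕ) pb1008 pb1009 (Nat.ble (nat_lit 1009) i)) (@Bool.rec (fun _ => ℕ) pb1010 pb1011 (Nat.ble (nat_lit 1011) i)) (Nat.ble (nat_lit 1010) i)) (@Bool.rec (fun _ => ℕ) (@Bool.rec (fun _ => ℕ) pb1012 pb1013 (Nat.ble (nat_lit 1013) i)) (@Bool.rec (fun _ => ℕ) pb1014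 pb1015 (Nat.ble (nat_lit 1015) i)) (Nat.ble (nat_lit 1014) i)) (Nat.ble (nat_lit 1012) i)) (@Bool.rec (fun _ => ℕ) (@Bool.rec (fun _ => ℕ) (@Bool.rec (fun _ => ℕ) pb1016 pb1017 (Nat.ble (nat_lit 1017) i)) (@Bool.rec (fun _ => ℕ) pb1018 pb1019 (Nat.ble (nat_lit 1019) i)) (Nat.ble (nat_lit 1018) i)) (@Bool.rec (fun _ => ℕ) (@Bool.rec (fun _ => ℕ) pb1020 pb1021 (Nat.ble (nat_lit 1021) i)) (@Bool.rec (fun _ => ℕ) pb1022 pb1023 (Nat.ble (nat_lit 1023) i)) (Nat.ble (nat_lit 1022) i)) (Nat.ble (nat_lit 1020) i)) (Nat.ble (nat_lit 1016) i)) (Nat.ble (nat_lit 1008) i))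

def parBlk_n0_32 (i : ℕ) : ℕ := (@Bool.rec (fun _ => ℕ) (@Bool.rec (fun _ => ℕ) (@Bool.rec (fun _ => ℕ) (@Bool.rec (fun _ => ℕ) pb1024 (@Bool.rec (fun _ => ℕ) pb1025 pb1026 (Nat.ble (nat_lit 1026) i)) (Nat.ble (nat_lit 1025) i)) (@Bool.rec (fun _ => ℕ) pb1027 (@Bool.rec (fun _ => ℕ) pb1028 pb1029 (Nat.ble (nat_lit 1029) i)) (Nat.ble (nat_lit 1028) i)) (Nat.ble (nat_lit 1027) i)) (@Bool.rec (fun _ => ℕ) (@Bool.rec (fun _ => ℕ) pb1030 (@Bool.rec (fun _ => ℕ) pb1031 pb1032 (Nat.ble (nat_lit 1032) i)) (Nat.ble (nat_lit 1031) i)) (@Bool.rec (fun _ => ℕ) (@Bool.rec (fun _ => ℕ) pb1033 pb1034 (Nat.ble (nat_lit 1034) i)) (@Bool.rec (fun _ => ℕ) pb1035 pb1036 (Nat.ble (nat_lit 1036) i)) (Nat.ble (nat_lit 1035) i)) (Nat.ble (nat_lit 1033) i)) (Nat.ble (nat_lit 1030) i)) (@Bool.rec (fun _ => ℕ) (@Bool.rec (fun _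 => ℕ) (@Bool.rec (fun _ => ℕ) pb1037 (@Bool.rec (fun _ => ℕ) pb1038 pb1039 (Nat.ble (nat_lit 1039) i)) (Nat.ble (nat_lit 1038) i)) (@Bool.rec (fun _ => ℕ) (@Bool.rec (fun _ => ℕ) pb1040 pb1041 (Nat.ble (nat_lit 1041) i)) (@Bool.rec (fun _ => ℕ) pb1042 pb1043 (Nat.ble (nat_lit 1043) i)) (Nat.ble (nat_lit 1042) i)) (Nat.ble (nat_lit 1040) i)) (@Bool.rec (fun _ => ℕ) (@Bool.rec (fun _ => ℕ) pb1044 (@Bool.rec (fun _ => ℕ) pb1045 pb1046 (Nat.ble (nat_lit 1046) i)) (Nat.ble (nat_lit 1045) i)) (@Bool.rec (fun _ => ℕ) (@Bool.rec (fun _ => ℕ) pb1047 pb1048 (Nat.ble (nat_lit 1048) i)) (@Bool.rec (fun _ => ℕ) pb1049 pb1050 (Nat.ble (nat_lit 1050) i)) (Nat.ble (nat_lit 1049) i)) (Nat.ble (nat_lit 1047) i)) (Nat.ble (nat_lit 1044) i)) (Nat.ble (nat_lit 1037) i))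

def parBlk_n1_0 (i : ℕ) : ℕ := (@Bool.rec (fun _ => ℕ) (@Bool.rec (fun _ => ℕ) (@Bool.rec (fun _ => ℕ) (@Bool.rec (fun _ => ℕ) (@Bool.rec (fun _ => ℕ) (parBlk_n0_0 i) (parBlk_n0_1 i) (Nat.ble (nat_lit 32) i)) (@Bool.rec (fun _ => ℕ) (parBlk_n0_2 i) (parBlk_n0_3 i) (Nat.ble (nat_lit 96) i)) (Nat.ble (nat_lit 64) i)) (@Bool.rec (fun _ => ℕ) (@Bool.rec (fun _ => ℕ) (parBlk_n0_4 i) (parBlk_n0_5 i) (Nat.ble (nat_lit 160) i)) (@Bool.rec (fun _ => ℕ) (parBlk_n0_6 i) (parBlk_n0_7 i) (Nat.ble (nat_lit 224) i)) (Nat.ble (nat_lit 192) i)) (Nat.ble (nat_lit 128) i)) (@Bool.rec (fun _ => ℕ) (@Bool.rec (fun _ => ℕ) (@Bool.rec (fun _ => ℕ) (parBlk_n0_8 i) (parBlk_n0_9 i) (Nat.ble (nat_lit 288) i)) (@Bool.rec (fun _ => ℕ) (parBlk_n0_10 i) (parBlk_n0_11 i) (Nat.ble (nat_lit 352) i)) (Nat.ble (nat_lit 320) i)) (@Bool.rec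 (fun _ => ℕ) (@Bool.rec (fun _ => ℕ) (parBlk_n0_12 i) (parBlk_n0_13 i) (Nat.ble (nat_lit 416) i)) (@Bool.rec (fun _ => ℕ) (parBlk_n0_14 i) (parBlk_n0_15 i) (Nat.ble (nat_lit 480) i)) (Nat.ble (nat_lit 448) i)) (Nat.ble (nat_lit 384) i)) (Nat.ble (nat_lit 256) i)) (@Bool.rec (fun _ => ℕ) (@Bool.rec (fun _ => ℕ) (@Bool.rec (fun _ => ℕ) (@Bool.rec (fun _ => ℕ) (parBlk_n0_16 i) (parBlk_n0_17 i) (Nat.ble (nat_lit 544) i)) (@Bool.rec (fun _ => ℕ) (parBlk_n0_18 i) (parBlk_n0_19 i) (Nat.ble (nat_lit 608) i)) (Nat.ble (nat_lit 576) i)) (@Bool.rec (fun _ => ℕ) (@Bool.rec (fun _ => ℕ) (parBlk_n0_20 i) (parBlk_n0_21 i) (Nat.ble (nat_lit 672) i)) (@Bool.rec (fun _ => ℕ) (parBlk_n0_22 i) (parBlk_n0_23 i) (Nat.ble (nat_lit 736) i)) (Nat.ble (nat_lit 704) i)) (Nat.ble (nat_lit 640) i)) (@Bool.rec (fun _ => ℕ) (@Bool.rec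 (fun _ => ℕ) (@Bool.rec (fun _ => ℕ) (parBlk_n0_24 i) (parBlk_n0_25 i) (Nat.ble (nat_lit 800) i)) (@Bool.rec (fun _ => ℕ) (parBlk_n0_26 i) (parBlk_n0_27 i) (Nat.ble (nat_lit 864) i)) (Nat.ble (nat_lit 832) i)) (@Bool.rec (fun _ => ℕ) (@Bool.rec (fun _ => ℕ) (parBlk_n0_28 i) (parBlk_n0_29 i) (Nat.ble (nat_lit 928) i)) (@Bool.rec (fun _ => ℕ) (parBlk_n0_30 i) (parBlk_n0_31 i) (Nat.ble (nat_lit 992) i)) (Nat.ble (nat_lit 960) i)) (Nat.ble (nat_lit 896) i)) (Nat.ble (nat_lit 768) i)) (Nat.ble (nat_lit 512) i))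

def parBlk_n1_1 (i : ℕ) : ℕ := (parBlk_n0_32 i)

def parBlk (i : ℕ) : ℕ := (@Bool.rec (fun _ => ℕ) (parBlk_n1_0 i) (parBlk_n1_1 i) (Nat.ble (nat_lit 1024) i))

def finBlk_n0_0 (i : ℕ) : ℕ := (@Bool.rec (fun _ => ℕ) (@Bool.rec (fun _ => ℕ) (@Bool.rec (fun _ => ℕ) (@Bool.rec (fun _ => ℕ) (@Bool.rec (fun _ => ℕ) nb0 nb1 (Nat.ble (nat_lit 1) i)) (@Bool.rec (fun _ => ℕ) nb2 nb3 (Nat.ble (nat_lit 3) i)) (Nat.ble (nat_lit 2) i)) (@Bool.rec (fun _ => ℕ) (@Bool.rec (fun _ => ℕ) nb4 nb5 (Nat.ble (nat_lit 5) i)) (@Bool.rec (fun _ => ℕ) nb6 nb7 (Nat.ble (nat_lit 7) i)) (Nat.ble (nat_lit 6) i)) (Nat.ble (nat_lit 4) i)) (@Bool.rec (fun _ => ℕ) (@Bool.rec (fun _ => ℕ) (@Bool.rec (fun _ => ℕ) nb8 nb9 (Nat.ble (nat_lit 9) i)) (@Bool.rec (fun _ => ℕ) nb10 nb11 (Nat.ble (nat_lit 11) i)) (Nat.ble (nat_lit 10) i)) (@Bool.rec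 (fun _ => ℕ) (@Bool.rec (fun _ => ℕ) nb12 nb13 (Nat.ble (nat_lit 13) i)) (@Bool.rec (fun _ => ℕ) nb14 nb15 (Nat.ble (nat_lit 15) i)) (Nat.ble (nat_lit 14) i)) (Nat.ble (nat_lit 12) i)) (Nat.ble (nat_lit 8) i)) (@Bool.rec (fun _ => ℕ) (@Bool.rec (fun _ => ℕ) (@Bool.rec (fun _ => ℕ) (@Bool.rec (fun _ => ℕ) nb16 nb17 (Nat.ble (nat_lit 17) i)) (@Bool.rec (fun _ => ℕ) nb18 nb19 (Nat.ble (nat_lit 19) i)) (Nat.ble (nat_lit 18) i)) (@Bool.rec (fun _ => ℕ) (@Bool.rec (fun _ => ℕ) nb20 nb21 (Nat.ble (nat_lit 21) i)) (@Bool.rec (fun _ => ℕ) nb22 nb23 (Nat.ble (nat_lit 23) i)) (Nat.ble (nat_lit 22) i)) (Nat.ble (nat_lit 20) i)) (@Bool.rec (fun _ => ℕ) (@Bool.rec (fun _ => ℕ) (@Bool.rec (fun _ => ℕ) nb24 nb25 (Nat.ble (nat_lit 25) i)) (@Bool.rec (fun _ => ℕ) nb26 nb27 (Nat.ble (nat_lit 27) i)) (Nat.ble (nat_lit 26)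 i)) (@Bool.rec (fun _ => ℕ) (@Bool.rec (fun _ => ℕ) nb28 nb29 (Nat.ble (nat_lit 29) i)) (@Bool.rec (fun _ => ℕ) nb30 nb31 (Nat.ble (nat_lit 31) i)) (Nat.ble (nat_lit 30) i)) (Nat.ble (nat_lit 28) i)) (Nat.ble (nat_lit 24) i)) (Nat.ble (nat_lit 16) i))

def finBlk_n0_1 (i : ℕ) : ℕ := (@Bool.rec (fun _ => ℕ) (@Bool.rec (fun _ => ℕ) (@Bool.rec (fun _ => ℕ) (@Bool.rec (fun _ => ℕ) (@Bool.rec (fun _ => ℕ) nb32 nb33 (Nat.ble (nat_lit 33) i)) (@Bool.rec (fun _ => ℕ) nb34 nb35 (Nat.ble (nat_lit 35) i)) (Nat.ble (nat_lit 34) i)) (@Bool.rec (fun _ => ℕ) (@Bool.rec (fun _ => ℕ) nb36 nb37 (Nat.ble (nat_lit 37) i)) (@Bool.rec (fun _ => ℕ) nb38 nb39 (Nat.ble (nat_lit 39) i)) (Nat.ble (nat_lit 38) i)) (Nat.ble (nat_lit 36) i)) (@Bool.rec (fun _ => ℕ) (@Bool.rec (fun _ => ℕ) (@Bool.rec (fun _ => ℕ) nb40 nb41 (Nat.ble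 (nat_lit 41) i)) (@Bool.rec (fun _ => ℕ) nb42 nb43 (Nat.ble (nat_lit 43) i)) (Nat.ble (nat_lit 42) i)) (@Bool.rec (fun _ => ℕ) (@Bool.rec (fun _ => ℕ) nb44 nb45 (Nat.ble (nat_lit 45) i)) (@Bool.rec (fun _ => ℕ) nb46 nb47 (Nat.ble (nat_lit 47) i)) (Nat.ble (nat_lit 46) i)) (Nat.ble (nat_lit 44) i)) (Nat.ble (nat_lit 40) i)) (@Bool.rec (fun _ => ℕ) (@Bool.rec (fun _ => ℕ) (@Bool.rec (fun _ => ℕ) (@Bool.rec (fun _ => ℕ) nb48 nb49 (Nat.ble (nat_lit 49) i)) (@Bool.rec (fun _ => ℕ) nb50 nb51 (Nat.ble (nat_lit 51) i)) (Nat.ble (nat_lit 50) i)) (@Bool.rec (fun _ => ℕ) (@Bool.rec (fun _ => ℕ) nb52 nb53 (Nat.ble (nat_lit 53) i)) (@Bool.rec (fun _ => ℕ) nb54 nb55 (Nat.ble (nat_lit 55) i)) (Nat.ble (nat_lit 54) i)) (Nat.ble (nat_lit 52) i)) (@Bool.rec (fun _ => ℕ) (@Bool.rec (fun _ => ℕ) (@Bool.rec (fun _ => ℕ) nb56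 nb57 (Nat.ble (nat_lit 57) i)) (@Bool.rec (fun _ => ℕ) nb58 nb59 (Nat.ble (nat_lit 59) i)) (Nat.ble (nat_lit 58) i)) (@Bool.rec (fun _ => ℕ) (@Bool.rec (fun _ => ℕ) nb60 nb61 (Nat.ble (nat_lit 61) i)) (@Bool.rec (fun _ => ℕ) nb62 nb63 (Nat.ble (nat_lit 63) i)) (Nat.ble (nat_lit 62) i)) (Nat.ble (nat_lit 60) i)) (Nat.ble (nat_lit 56) i)) (Nat.ble (nat_lit 48) i))

def finBlk_n0_2 (i : ℕ) : ℕ := (@Bool.rec (fun _ => ℕ) nb64 nb65 (Nat.ble (nat_lit 65) i))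

def finBlk (i : ℕ) : ℕ := (@Bool.rec (fun _ => ℕ) (finBlk_n0_0 i) (@Bool.rec (fun _ => ℕ) (finBlk_n0_1 i) (finBlk_n0_2 i) (Nat.ble (nat_lit 64) i)) (Nat.ble (nat_lit 32) i))

def rowBlk_n0_0 (i : ℕ) : ℕ := (@Bool.rec (fun _ => ℕ) (@Bool.rec (fun _ => ℕ) (@Bool.rec (fun _ => ℕ) (@Bool.rec (fun _ => ℕ) (@Bool.rec (fun _ => ℕ) rb0 rb1 (Nat.ble (nat_lit 1) i)) (@Bool.rec (fun _ => ℕ) rb2 rb3 (Nat.ble (nat_lit 3) i)) (Nat.ble (nat_lit 2) i)) (@Bool.rec (fun _ => ℕ) (@Bool.rec (fun _ => ℕ) rb4 rb5 (Nat.ble (nat_lit 5) i)) (@Bool.rec (fun _ => ℕ) rb6 rb7 (Nat.ble (nat_lit 7) i)) (Nat.ble (nat_lit 6) i)) (Nat.ble (nat_lit 4) i)) (@Bool.rec (fun _ => ℕ) (@Bool.rec (fun _ => ℕ) (@Bool.rec (fun _ => ℕ) rb8 rb9 (Nat.ble (nat_lit 9) i)) (@Bool.rec (fun _ => ℕ) rb10 rb11 (Nat.ble (nat_lit 11) i)) (Nat.ble (nat_lit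 10) i)) (@Bool.rec (fun _ => ℕ) (@Bool.rec (fun _ => ℕ) rb12 rb13 (Nat.ble (nat_lit 13) i)) (@Bool.rec (fun _ => ℕ) rb14 rb15 (Nat.ble (nat_lit 15) i)) (Nat.ble (nat_lit 14) i)) (Nat.ble (nat_lit 12) i)) (Nat.ble (nat_lit 8) i)) (@Bool.rec (fun _ => ℕ) (@Bool.rec (fun _ => ℕ) (@Bool.rec (fun _ => ℕ) (@Bool.rec (fun _ => ℕ) rb16 rb17 (Nat.ble (nat_lit 17) i)) (@Bool.rec (fun _ => ℕ) rb18 rb19 (Nat.ble (nat_lit 19) i)) (Nat.ble (nat_lit 18) i)) (@Bool.rec (fun _ => ℕ) (@Bool.rec (fun _ => ℕ) rb20 rb21 (Nat.ble (nat_lit 21) i)) (@Bool.rec (fun _ => ℕ) rb22 rb23 (Nat.ble (nat_lit 23) i)) (Nat.ble (nat_lit 22) i)) (Nat.ble (nat_lit 20) i)) (@Bool.rec (fun _ => ℕ) (@Bool.rec (fun _ => ℕ) (@Bool.rec (fun _ => ℕ) rb24 rb25 (Nat.ble (nat_lit 25) i)) (@Bool.rec (fun _ => ℕ) rb26 rb27 (Nat.ble (nat_lit 27) i)) (Nat.ble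 (nat_lit 26) i)) (@Bool.rec (fun _ => ℕ) (@Bool.rec (fun _ => ℕ) rb28 rb29 (Nat.ble (nat_lit 29) i)) (@Bool.rec (fun _ => ℕ) rb30 rb31 (Nat.ble (nat_lit 31) i)) (Nat.ble (nat_lit 30) i)) (Nat.ble (nat_lit 28) i)) (Nat.ble (nat_lit 24) i)) (Nat.ble (nat_lit 16) i))

def rowBlk_n0_1 (i : ℕ) : ℕ := (@Bool.rec (fun _ => ℕ) (@Bool.rec (fun _ => ℕ) (@Bool.rec (fun _ => ℕ) (@Bool.rec (fun _ => ℕ) (@Bool.rec (fun _ => ℕ) rb32 rb33 (Nat.ble (nat_lit 33) i)) (@Bool.rec (fun _ => ℕ) rb34 rb35 (Nat.ble (nat_lit 35) i)) (Nat.ble (nat_lit 34) i)) (@Bool.rec (fun _ => ℕ) (@Bool.rec (fun _ => ℕ) rb36 rb37 (Nat.ble (nat_lit 37) i)) (@Bool.rec (fun _ => ℕ) rb38 rb39 (Nat.ble (nat_lit 39) i)) (Nat.ble (nat_lit 38) i)) (Nat.ble (nat_lit 36) i)) (@Bool.rec (fun _ => ℕ) (@Bool.rec (fun _ => ℕ) (@Bool.rec (fun _ => ℕ) rb40 rb41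 (Nat.ble (nat_lit 41) i)) (@Bool.rec (fun _ => ℕ) rb42 rb43 (Nat.ble (nat_lit 43) i)) (Nat.ble (nat_lit 42) i)) (@Bool.rec (fun _ => ℕ) (@Bool.rec (fun _ => ℕ) rb44 rb45 (Nat.ble (nat_lit 45) i)) (@Bool.rec (fun _ => ℕ) rb46 rb47 (Nat.ble (nat_lit 47) i)) (Nat.ble (nat_lit 46) i)) (Nat.ble (nat_lit 44) i)) (Nat.ble (nat_lit 40) i)) (@Bool.rec (fun _ => ℕ) (@Bool.rec (fun _ => ℕ) (@Bool.rec (fun _ => ℕ) (@Bool.rec (fun _ => ℕ) rb48 rb49 (Nat.ble (nat_lit 49) i)) (@Bool.rec (fun _ => ℕ) rb50 rb51 (Nat.ble (nat_lit 51) i)) (Nat.ble (nat_lit 50) i)) (@Bool.rec (fun _ => ℕ) (@Bool.rec (fun _ => ℕ) rb52 rb53 (Nat.ble (nat_lit 53) i)) (@Bool.rec (fun _ => ℕ) rb54 rb55 (Nat.ble (nat_lit 55) i)) (Nat.ble (nat_lit 54) i)) (Nat.ble (nat_lit 52) i)) (@Bool.rec (fun _ => ℕ) (@Bool.rec (fun _ => ℕ) (@Bool.rec (fun _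 => ℕ) rb56 rb57 (Nat.ble (nat_lit 57) i)) (@Bool.rec (fun _ => ℕ) rb58 rb59 (Nat.ble (nat_lit 59) i)) (Nat.ble (nat_lit 58) i)) (@Bool.rec (fun _ => ℕ) (@Bool.rec (fun _ => ℕ) rb60 rb61 (Nat.ble (nat_lit 61) i)) (@Bool.rec (fun _ => ℕ) rb62 rb63 (Nat.ble (nat_lit 63) i)) (Nat.ble (nat_lit 62) i)) (Nat.ble (nat_lit 60) i)) (Nat.ble (nat_lit 56) i)) (Nat.ble (nat_lit 48) i))

def rowBlk_n0_2 (i : ℕ) : ℕ := (@Bool.rec (fun _ => ℕ) (@Bool.rec (fun _ => ℕ) (@Bool.rec (fun _ => ℕ) (@Bool.rec (fun _ => ℕ) (@Bool.rec (fun _ => ℕ) rb64 rb65 (Nat.ble (nat_lit 65) i)) (@Bool.rec (fun _ => ℕ) rb66 rb67 (Nat.ble (nat_lit 67) i)) (Nat.ble (nat_lit 66) i)) (@Bool.rec (fun _ => ℕ) (@Bool.rec (fun _ => ℕ) rb68 rb69 (Nat.ble (nat_lit 69) i)) (@Bool.rec (fun _ => ℕ) rb70 rb71 (Nat.ble (nat_lit 71) i)) (Nat.ble (nat_lit 70)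 i)) (Nat.ble (nat_lit 68) i)) (@Bool.rec (fun _ => ℕ) (@Bool.rec (fun _ => ℕ) (@Bool.rec (fun _ => ℕ) rb72 rb73 (Nat.ble (nat_lit 73) i)) (@Bool.rec (fun _ => ℕ) rb74 rb75 (Nat.ble (nat_lit 75) i)) (Nat.ble (nat_lit 74) i)) (@Bool.rec (fun _ => ℕ) (@Bool.rec (fun _ => ℕ) rb76 rb77 (Nat.ble (nat_lit 77) i)) (@Bool.rec (fun _ => ℕ) rb78 rb79 (Nat.ble (nat_lit 79) i)) (Nat.ble (nat_lit 78) i)) (Nat.ble (nat_lit 76) i)) (Nat.ble (nat_lit 72) i)) (@Bool.rec (fun _ => ℕ) (@Bool.rec (fun _ => ℕ) (@Bool.rec (fun _ => ℕ) (@Bool.rec (fun _ => ℕ) rb80 rb81 (Nat.ble (nat_lit 81) i)) (@Bool.rec (fun _ => ℕ) rb82 rb83 (Nat.ble (nat_lit 83) i)) (Nat.ble (nat_lit 82) i)) (@Bool.rec (fun _ => ℕ) (@Bool.rec (fun _ => ℕ) rb84 rb85 (Nat.ble (nat_lit 85) i)) (@Bool.rec (fun _ => ℕ) rb86 rb87 (Nat.ble (nat_lit 87) i)) (Nat.ble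 (nat_lit 86) i)) (Nat.ble (nat_lit 84) i)) (@Bool.rec (fun _ => ℕ) (@Bool.rec (fun _ => ℕ) (@Bool.rec (fun _ => ℕ) rb88 rb89 (Nat.ble (nat_lit 89) i)) (@Bool.rec (fun _ => ℕ) rb90 rb91 (Nat.ble (nat_lit 91) i)) (Nat.ble (nat_lit 90) i)) (@Bool.rec (fun _ => ℕ) (@Bool.rec (fun _ => ℕ) rb92 rb93 (Nat.ble (nat_lit 93) i)) (@Bool.rec (fun _ => ℕ) rb94 rb95 (Nat.ble (nat_lit 95) i)) (Nat.ble (nat_lit 94) i)) (Nat.ble (nat_lit 92) i)) (Nat.ble (nat_lit 88) i)) (Nat.ble (nat_lit 80) i))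

def rowBlk_n0_3 (i : ℕ) : ℕ := (@Bool.rec (fun _ => ℕ) (@Bool.rec (fun _ => ℕ) (@Bool.rec (fun _ => ℕ) (@Bool.rec (fun _ => ℕ) (@Bool.rec (fun _ => ℕ) rb96 rb97 (Nat.ble (nat_lit 97) i)) (@Bool.rec (fun _ => ℕ) rb98 rb99 (Nat.ble (nat_lit 99) i)) (Nat.ble (nat_lit 98) i)) (@Bool.rec (fun _ => ℕ) (@Bool.rec (fun _ => ℕ) rb100 rb101 (Nat.ble (nat_lit 101) i)) (@Bool.rec (fun _ => ℕ) rb102 rb103 (Nat.ble (nat_lit 103) i)) (Nat.ble (nat_lit 102) i)) (Nat.ble (nat_lit 100) i)) (@Bool.rec (fun _ => ℕ) (@Bool.rec (fun _ => ℕ) (@Bool.rec (fun _ => ℕ) rb104 rb105 (Nat.ble (nat_lit 105) i)) (@Bool.rec (fun _ => ℕ) rb106 rb107 (Nat.ble (nat_lit 107) i)) (Nat.ble (nat_lit 106) i)) (@Bool.rec (fun _ => ℕ) (@Bool.rec (fun _ => ℕ) rb108 rb109 (Nat.ble (nat_lit 109) i)) (@Bool.rec (fun _ => ℕ) rb110 rb111 (Nat.ble (nat_lit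 111) i)) (Nat.ble (nat_lit 110) i)) (Nat.ble (nat_lit 108) i)) (Nat.ble (nat_lit 104) i)) (@Bool.rec (fun _ => ℕ) (@Bool.rec (fun _ => ℕ) (@Bool.rec (fun _ => ℕ) (@Bool.rec (fun _ => ℕ) rb112 rb113 (Nat.ble (nat_lit 113) i)) (@Bool.rec (fun _ => ℕ) rb114 rb115 (Nat.ble (nat_lit 115) i)) (Nat.ble (nat_lit 114) i)) (@Bool.rec (fun _ => ℕ) (@Bool.rec (fun _ => ℕ) rb116 rb117 (Nat.ble (nat_lit 117) i)) (@Bool.rec (fun _ => ℕ) rb118 rb119 (Nat.ble (nat_lit 119) i)) (Nat.ble (nat_lit 118) i)) (Nat.ble (nat_lit 116) i)) (@Bool.rec (fun _ => ℕ) (@Bool.rec (fun _ => ℕ) (@Bool.rec (fun _ => ℕ) rb120 rb121 (Nat.ble (nat_lit 121) i)) (@Bool.rec (fun _ => ℕ) rb122 rb123 (Nat.ble (nat_lit 123) i)) (Nat.ble (nat_lit 122) i)) (@Bool.rec (fun _ => ℕ) (@Bool.rec (fun _ => ℕ) rb124 rb125 (Nat.ble (nat_lit 125) i)) (@Bool.rec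 (fun _ => ℕ) rb126 rb127 (Nat.ble (nat_lit 127) i)) (Nat.ble (nat_lit 126) i)) (Nat.ble (nat_lit 124) i)) (Nat.ble (nat_lit 120) i)) (Nat.ble (nat_lit 112) i))

def rowBlk_n0_4 (i : ℕ) : ℕ := (@Bool.rec (fun _ => ℕ) (@Bool.rec (fun _ => ℕ) (@Bool.rec (fun _ => ℕ) (@Bool.rec (fun _ => ℕ) (@Bool.rec (fun _ => ℕ) rb128 rb129 (Nat.ble (nat_lit 129) i)) (@Bool.rec (fun _ => ℕ) rb130 rb131 (Nat.ble (nat_lit 131) i)) (Nat.ble (nat_lit 130) i)) (@Bool.rec (fun _ => ℕ) (@Bool.rec (fun _ => ℕ) rb132 rb133 (Nat.ble (nat_lit 133) i)) (@Bool.rec (fun _ => ℕ) rb134 rb135 (Nat.ble (nat_lit 135) i)) (Nat.ble (nat_lit 134) i)) (Nat.ble (nat_lit 132) i)) (@Bool.rec (fun _ => ℕ) (@Bool.rec (fun _ => ℕ) (@Bool.rec (fun _ => ℕ) rb136 rb137 (Nat.ble (nat_lit 137) i)) (@Bool.rec (fun _ => ℕ) rb138 rb139 (Nat.ble (nat_lit 139)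 i)) (Nat.ble (nat_lit 138) i)) (@Bool.rec (fun _ => ℕ) (@Bool.rec (fun _ => ℕ) rb140 rb141 (Nat.ble (nat_lit 141) i)) (@Bool.rec (fun _ => ℕ) rb142 rb143 (Nat.ble (nat_lit 143) i)) (Nat.ble (nat_lit 142) i)) (Nat.ble (nat_lit 140) i)) (Nat.ble (nat_lit 136) i)) (@Bool.rec (fun _ => ℕ) (@Bool.rec (fun _ => ℕ) (@Bool.rec (fun _ => ℕ) (@Bool.rec (fun _ => ℕ) rb144 rb145 (Nat.ble (nat_lit 145) i)) (@Bool.rec (fun _ => ℕ) rb146 rb147 (Nat.ble (nat_lit 147) i)) (Nat.ble (nat_lit 146) i)) (@Bool.rec (fun _ => ℕ) (@Bool.rec (fun _ => ℕ) rb148 rb149 (Nat.ble (nat_lit 149) i)) (@Bool.rec (fun _ => ℕ) rb150 rb151 (Nat.ble (nat_lit 151) i)) (Nat.ble (nat_lit 150) i)) (Nat.ble (nat_lit 148) i)) (@Bool.rec (fun _ => ℕ) (@Bool.rec (fun _ => ℕ) (@Bool.rec (fun _ => ℕ) rb152 rb153 (Nat.ble (nat_lit 153) i)) (@Bool.rec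 (fun _ => ℕ) rb154 rb155 (Nat.ble (nat_lit 155) i)) (Nat.ble (nat_lit 154) i)) (@Bool.rec (fun _ => ℕ) (@Bool.rec (fun _ => ℕ) rb156 rb157 (Nat.ble (nat_lit 157) i)) (@Bool.rec (fun _ => ℕ) rb158 rb159 (Nat.ble (nat_lit 159) i)) (Nat.ble (nat_lit 158) i)) (Nat.ble (nat_lit 156) i)) (Nat.ble (nat_lit 152) i)) (Nat.ble (nat_lit 144) i))

def rowBlk_n0_5 (i : ℕ) : ℕ := (@Bool.rec (fun _ => ℕ) (@Bool.rec (fun _ => ℕ) (@Bool.rec (fun _ => ℕ) (@Bool.rec (fun _ => ℕ) (@Bool.rec (fun _ => ℕ) rb160 rb161 (Nat.ble (nat_lit 161) i)) (@Bool.rec (fun _ => ℕ) rb162 rb163 (Nat.ble (nat_lit 163) i)) (Nat.ble (nat_lit 162) i)) (@Bool.rec (fun _ => ℕ) (@Bool.rec (fun _ => ℕ) rb164 rb165 (Nat.ble (nat_lit 165) i)) (@Bool.rec (fun _ => ℕ) rb166 rb167 (Nat.ble (nat_lit 167) i)) (Nat.ble (nat_lit 166) i)) (Nat.ble (nat_lit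 164) i)) (@Bool.rec (fun _ => ℕ) (@Bool.rec (fun _ => ℕ) (@Bool.rec (fun _ => ℕ) rb168 rb169 (Nat.ble (nat_lit 169) i)) (@Bool.rec (fun _ => ℕ) rb170 rb171 (Nat.ble (nat_lit 171) i)) (Nat.ble (nat_lit 170) i)) (@Bool.rec (fun _ => ℕ) (@Bool.rec (fun _ => ℕ) rb172 rb173 (Nat.ble (nat_lit 173) i)) (@Bool.rec (fun _ => ℕ) rb174 rb175 (Nat.ble (nat_lit 175) i)) (Nat.ble (nat_lit 174) i)) (Nat.ble (nat_lit 172) i)) (Nat.ble (nat_lit 168) i)) (@Bool.rec (fun _ => ℕ) (@Bool.rec (fun _ => ℕ) (@Bool.rec (fun _ => ℕ) (@Bool.rec (fun _ => ℕ) rb176 rb177 (Nat.ble (nat_lit 177) i)) (@Bool.rec (fun _ => ℕ) rb178 rb179 (Nat.ble (nat_lit 179) i)) (Nat.ble (nat_lit 178) i)) (@Bool.rec (fun _ => ℕ) (@Bool.rec (fun _ => ℕ) rb180 rb181 (Nat.ble (nat_lit 181) i)) (@Bool.rec (fun _ => ℕ) rb182 rb183 (Nat.ble (nat_lit 183) i))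 (Nat.ble (nat_lit 182) i)) (Nat.ble (nat_lit 180) i)) (@Bool.rec (fun _ => ℕ) (@Bool.rec (fun _ => ℕ) (@Bool.rec (fun _ => ℕ) rb184 rb185 (Nat.ble (nat_lit 185) i)) (@Bool.rec (fun _ => ℕ) rb186 rb187 (Nat.ble (nat_lit 187) i)) (Nat.ble (nat_lit 186) i)) (@Bool.rec (fun _ => ℕ) (@Bool.rec (fun _ => ℕ) rb188 rb189 (Nat.ble (nat_lit 189) i)) (@Bool.rec (fun _ => ℕ) rb190 rb191 (Nat.ble (nat_lit 191) i)) (Nat.ble (nat_lit 190) i)) (Nat.ble (nat_lit 188) i)) (Nat.ble (nat_lit 184) i)) (Nat.ble (nat_lit 176) i))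

def rowBlk_n0_6 (i : ℕ) : ℕ := (@Bool.rec (fun _ => ℕ) (@Bool.rec (fun _ => ℕ) (@Bool.rec (fun _ => ℕ) (@Bool.rec (fun _ => ℕ) (@Bool.rec (fun _ => ℕ) rb192 rb193 (Nat.ble (nat_lit 193) i)) (@Bool.rec (fun _ => ℕ) rb194 rb195 (Nat.ble (nat_lit 195) i)) (Nat.ble (nat_lit 194) i)) (@Bool.rec (fun _ => ℕ) (@Bool.rec (fun _ => ℕ) rb196 rb197 (Nat.ble (nat_lit 197) i)) (@Bool.rec (fun _ => ℕ) rb198 rb199 (Nat.ble (nat_lit 199) i)) (Nat.ble (nat_lit 198) i)) (Nat.ble (nat_lit 196) i)) (@Bool.rec (fun _ => ℕ) (@Bool.rec (fun _ => ℕ) (@Bool.rec (fun _ => ℕ) rb200 rb201 (Nat.ble (nat_lit 201) i)) (@Bool.rec (fun _ => ℕ) rb202 rb203 (Nat.ble (nat_lit 203) i)) (Nat.ble (nat_lit 202) i)) (@Bool.rec (fun _ => ℕ) (@Bool.rec (fun _ => ℕ) rb204 rb205 (Nat.ble (nat_lit 205) i)) (@Bool.rec (fun _ => ℕ) rb206 rb207 (Nat.ble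 (nat_lit 207) i)) (Nat.ble (nat_lit 206) i)) (Nat.ble (nat_lit 204) i)) (Nat.ble (nat_lit 200) i)) (@Bool.rec (fun _ => ℕ) (@Bool.rec (fun _ => ℕ) (@Bool.rec (fun _ => ℕ) (@Bool.rec (fun _ => ℕ) rb208 rb209 (Nat.ble (nat_lit 209) i)) (@Bool.rec (fun _ => ℕ) rb210 rb211 (Nat.ble (nat_lit 211) i)) (Nat.ble (nat_lit 210) i)) (@Bool.rec (fun _ => ℕ) (@Bool.rec (fun _ => ℕ) rb212 rb213 (Nat.ble (nat_lit 213) i)) (@Bool.rec (fun _ => ℕ) rb214 rb215 (Nat.ble (nat_lit 215) i)) (Nat.ble (nat_lit 214) i)) (Nat.ble (nat_lit 212) i)) (@Bool.rec (fun _ => ℕ) (@Bool.rec (fun _ => ℕ) (@Bool.rec (fun _ => ℕ) rb216 rb217 (Nat.ble (nat_lit 217) i)) (@Bool.rec (fun _ => ℕ) rb218 rb219 (Nat.ble (nat_lit 219) i)) (Nat.ble (nat_lit 218) i)) (@Bool.rec (fun _ => ℕ) (@Bool.rec (fun _ => ℕ) rb220 rb221 (Nat.ble (nat_lit 221) i))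 (@Bool.rec (fun _ => ℕ) rb222 rb223 (Nat.ble (nat_lit 223) i)) (Nat.ble (nat_lit 222) i)) (Nat.ble (nat_lit 220) i)) (Nat.ble (nat_lit 216) i)) (Nat.ble (nat_lit 208) i))

def rowBlk_n0_7 (i : ℕ) : ℕ := (@Bool.rec (fun _ => ℕ) (@Bool.rec (fun _ => ℕ) (@Bool.rec (fun _ => ℕ) (@Bool.rec (fun _ => ℕ) (@Bool.rec (fun _ => ℕ) rb224 rb225 (Nat.ble (nat_lit 225) i)) (@Bool.rec (fun _ => ℕ) rb226 rb227 (Nat.ble (nat_lit 227) i)) (Nat.ble (nat_lit 226) i)) (@Bool.rec (fun _ => ℕ) (@Bool.rec (fun _ => ℕ) rb228 rb229 (Nat.ble (nat_lit 229) i)) (@Bool.rec (fun _ => ℕ) rb230 rb231 (Nat.ble (nat_lit 231) i)) (Nat.ble (nat_lit 230) i)) (Nat.ble (nat_lit 228) i)) (@Bool.rec (fun _ => ℕ) (@Bool.rec (fun _ => ℕ) (@Bool.rec (fun _ => ℕ) rb232 rb233 (Nat.ble (nat_lit 233) i)) (@Bool.rec (fun _ => ℕ) rb234 rb235 (Nat.ble (nat_lit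 235) i)) (Nat.ble (nat_lit 234) i)) (@Bool.rec (fun _ => ℕ) (@Bool.rec (fun _ => ℕ) rb236 rb237 (Nat.ble (nat_lit 237) i)) (@Bool.rec (fun _ => ℕ) rb238 rb239 (Nat.ble (nat_lit 239) i)) (Nat.ble (nat_lit 238) i)) (Nat.ble (nat_lit 236) i)) (Nat.ble (nat_lit 232) i)) (@Bool.rec (fun _ => ℕ) (@Bool.rec (fun _ => ℕ) (@Bool.rec (fun _ => ℕ) (@Bool.rec (fun _ => ℕ) rb240 rb241 (Nat.ble (nat_lit 241) i)) (@Bool.rec (fun _ => ℕ) rb242 rb243 (Nat.ble (nat_lit 243) i)) (Nat.ble (nat_lit 242) i)) (@Bool.rec (fun _ => ℕ) (@Bool.rec (fun _ => ℕ) rb244 rb245 (Nat.ble (nat_lit 245) i)) (@Bool.rec (fun _ => ℕ) rb246 rb247 (Nat.ble (nat_lit 247) i)) (Nat.ble (nat_lit 246) i)) (Nat.ble (nat_lit 244) i)) (@Bool.rec (fun _ => ℕ) (@Bool.rec (fun _ => ℕ) (@Bool.rec (fun _ => ℕ) rb248 rb249 (Nat.ble (nat_lit 249) i)) (@Bool.rec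 (fun _ => ℕ) rb250 rb251 (Nat.ble (nat_lit 251) i)) (Nat.ble (nat_lit 250) i)) (@Bool.rec (fun _ => ℕ) (@Bool.rec (fun _ => ℕ) rb252 rb253 (Nat.ble (nat_lit 253) i)) (@Bool.rec (fun _ => ℕ) rb254 rb255 (Nat.ble (nat_lit 255) i)) (Nat.ble (nat_lit 254) i)) (Nat.ble (nat_lit 252) i)) (Nat.ble (nat_lit 248) i)) (Nat.ble (nat_lit 240) i))

def rowBlk_n0_8 (i : ℕ) : ℕ := (@Bool.rec (fun _ => ℕ) (@Bool.rec (fun _ => ℕ) (@Bool.rec (fun _ => ℕ) (@Bool.rec (fun _ => ℕ) (@Bool.rec (fun _ => ℕ) rb256 rb257 (Nat.ble (nat_lit 257) i)) (@Bool.rec (fun _ => ℕ) rb258 rb259 (Nat.ble (nat_lit 259) i)) (Nat.ble (nat_lit 258) i)) (@Bool.rec (fun _ => ℕ) (@Bool.rec (fun _ => ℕ) rb260 rb261 (Nat.ble (nat_lit 261) i)) (@Bool.rec (fun _ => ℕ) rb262 rb263 (Nat.ble (nat_lit 263) i)) (Nat.ble (nat_lit 262) i)) (Nat.ble (nat_lit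 260) i)) (@Bool.rec (fun _ => ℕ) (@Bool.rec (fun _ => ℕ) (@Bool.rec (fun _ => ℕ) rb264 rb265 (Nat.ble (nat_lit 265) i)) (@Bool.rec (fun _ => ℕ) rb266 rb267 (Nat.ble (nat_lit 267) i)) (Nat.ble (nat_lit 266) i)) (@Bool.rec (fun _ => ℕ) (@Bool.rec (fun _ => ℕ) rb268 rb269 (Nat.ble (nat_lit 269) i)) (@Bool.rec (fun _ => ℕ) rb270 rb271 (Nat.ble (nat_lit 271) i)) (Nat.ble (nat_lit 270) i)) (Nat.ble (nat_lit 268) i)) (Nat.ble (nat_lit 264) i)) (@Bool.rec (fun _ => ℕ) (@Bool.rec (fun _ => ℕ) (@Bool.rec (fun _ => ℕ) (@Bool.rec (fun _ => ℕ) rb272 rb273 (Nat.ble (nat_lit 273) i)) (@Bool.rec (fun _ => ℕ) rb274 rb275 (Nat.ble (nat_lit 275) i)) (Nat.ble (nat_lit 274) i)) (@Bool.rec (fun _ => ℕ) (@Bool.rec (fun _ => ℕ) rb276 rb277 (Nat.ble (nat_lit 277) i)) (@Bool.rec (fun _ => ℕ) rb278 rb279 (Nat.ble (nat_lit 279) i))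 (Nat.ble (nat_lit 278) i)) (Nat.ble (nat_lit 276) i)) (@Bool.rec (fun _ => ℕ) (@Bool.rec (fun _ => ℕ) (@Bool.rec (fun _ => ℕ) rb280 rb281 (Nat.ble (nat_lit 281) i)) (@Bool.rec (fun _ => ℕ) rb282 rb283 (Nat.ble (nat_lit 283) i)) (Nat.ble (nat_lit 282) i)) (@Bool.rec (fun _ => ℕ) (@Bool.rec (fun _ => ℕ) rb284 rb285 (Nat.ble (nat_lit 285) i)) (@Bool.rec (fun _ => ℕ) rb286 rb287 (Nat.ble (nat_lit 287) i)) (Nat.ble (nat_lit 286) i)) (Nat.ble (nat_lit 284) i)) (Nat.ble (nat_lit 280) i)) (Nat.ble (nat_lit 272) i))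

def rowBlk_n0_9 (i : ℕ) : ℕ := (@Bool.rec (fun _ => ℕ) (@Bool.rec (fun _ => ℕ) (@Bool.rec (fun _ => ℕ) (@Bool.rec (fun _ => ℕ) (@Bool.rec (fun _ => ℕ) rb288 rb289 (Nat.ble (nat_lit 289) i)) (@Bool.rec (fun _ => ℕ) rb290 rb291 (Nat.ble (nat_lit 291) i)) (Nat.ble (nat_lit 290) i)) (@Bool.rec (fun _ => ℕ) (@Bool.rec (fun _ => ℕ) rb292 rb293 (Nat.ble (nat_lit 293) i)) (@Bool.rec (fun _ => ℕ) rb294 rb295 (Nat.ble (nat_lit 295) i)) (Nat.ble (nat_lit 294) i)) (Nat.ble (nat_lit 292) i)) (@Bool.rec (fun _ => ℕ) (@Bool.rec (fun _ => ℕ) (@Bool.rec (fun _ => ℕ) rb296 rb297 (Nat.ble (nat_lit 297) i)) (@Bool.rec (fun _ => ℕ) rb298 rb299 (Nat.ble (nat_lit 299) i)) (Nat.ble (nat_lit 298) i)) (@Bool.rec (fun _ => ℕ) (@Bool.rec (fun _ => ℕ) rb300 rb301 (Nat.ble (nat_lit 301) i)) (@Bool.rec (fun _ => ℕ) rb302 rb303 (Nat.ble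 (nat_lit 303) i)) (Nat.ble (nat_lit 302) i)) (Nat.ble (nat_lit 300) i)) (Nat.ble (nat_lit 296) i)) (@Bool.rec (fun _ => ℕ) (@Bool.rec (fun _ => ℕ) (@Bool.rec (fun _ => ℕ) (@Bool.rec (fun _ => ℕ) rb304 rb305 (Nat.ble (nat_lit 305) i)) (@Bool.rec (fun _ => ℕ) rb306 rb307 (Nat.ble (nat_lit 307) i)) (Nat.ble (nat_lit 306) i)) (@Bool.rec (fun _ => ℕ) (@Bool.rec (fun _ => ℕ) rb308 rb309 (Nat.ble (nat_lit 309) i)) (@Bool.rec (fun _ => ℕ) rb310 rb311 (Nat.ble (nat_lit 311) i)) (Nat.ble (nat_lit 310) i)) (Nat.ble (nat_lit 308) i)) (@Bool.rec (fun _ => ℕ) (@Bool.rec (fun _ => ℕ) (@Bool.rec (fun _ => ℕ) rb312 rb313 (Nat.ble (nat_lit 313) i)) (@Bool.rec (fun _ => ℕ) rb314 rb315 (Nat.ble (nat_lit 315) i)) (Nat.ble (nat_lit 314) i)) (@Bool.rec (fun _ => ℕ) (@Bool.rec (fun _ => ℕ) rb316 rb317 (Nat.ble (nat_lit 317) i))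 (@Bool.rec (fun _ => ℕ) rb318 rb319 (Nat.ble (nat_lit 319) i)) (Nat.ble (nat_lit 318) i)) (Nat.ble (nat_lit 316) i)) (Nat.ble (nat_lit 312) i)) (Nat.ble (nat_lit 304) i))

def rowBlk_n0_10 (i : ℕ) : ℕ := (@Bool.rec (fun _ => ℕ) (@Bool.rec (fun _ => ℕ) (@Bool.rec (fun _ => ℕ) (@Bool.rec (fun _ => ℕ) (@Bool.rec (fun _ => ℕ) rb320 rb321 (Nat.ble (nat_lit 321) i)) (@Bool.rec (fun _ => ℕ) rb322 rb323 (Nat.ble (nat_lit 323) i)) (Nat.ble (nat_lit 322) i)) (@Bool.rec (fun _ => ℕ) (@Bool.rec (fun _ => ℕ) rb324 rb325 (Nat.ble (nat_lit 325) i)) (@Bool.rec (fun _ => ℕ) rb326 rb327 (Nat.ble (nat_lit 327) i)) (Nat.ble (nat_lit 326) i)) (Nat.ble (nat_lit 324) i)) (@Bool.rec (fun _ => ℕ) (@Bool.rec (fun _ => ℕ) (@Bool.rec (fun _ => ℕ) rb328 rb329 (Nat.ble (nat_lit 329) i)) (@Bool.rec (fun _ => ℕ) rb330 rb331 (Nat.ble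 (nat_lit 331) i)) (Nat.ble (nat_lit 330) i)) (@Bool.rec (fun _ => ℕ) (@Bool.rec (fun _ => ℕ) rb332 rb333 (Nat.ble (nat_lit 333) i)) (@Bool.rec (fun _ => ℕ) rb334 rb335 (Nat.ble (nat_lit 335) i)) (Nat.ble (nat_lit 334) i)) (Nat.ble (nat_lit 332) i)) (Nat.ble (nat_lit 328) i)) (@Bool.rec (fun _ => ℕ) (@Bool.rec (fun _ => ℕ) (@Bool.rec (fun _ => ℕ) (@Bool.rec (fun _ => ℕ) rb336 rb337 (Nat.ble (nat_lit 337) i)) (@Bool.rec (fun _ => ℕ) rb338 rb339 (Nat.ble (nat_lit 339) i)) (Nat.ble (nat_lit 338) i)) (@Bool.rec (fun _ => ℕ) (@Bool.rec (fun _ => ℕ) rb340 rb341 (Nat.ble (nat_lit 341) i)) (@Bool.rec (fun _ => ℕ) rb342 rb343 (Nat.ble (nat_lit 343) i)) (Nat.ble (nat_lit 342) i)) (Nat.ble (nat_lit 340) i)) (@Bool.rec (fun _ => ℕ) (@Bool.rec (fun _ => ℕ) (@Bool.rec (fun _ => ℕ) rb344 rb345 (Nat.ble (nat_lit 345) i))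 (@Bool.rec (fun _ => ℕ) rb346 rb347 (Nat.ble (nat_lit 347) i)) (Nat.ble (nat_lit 346) i)) (@Bool.rec (fun _ => ℕ) (@Bool.rec (fun _ => ℕ) rb348 rb349 (Nat.ble (nat_lit 349) i)) (@Bool.rec (fun _ => ℕ) rb350 rb351 (Nat.ble (nat_lit 351) i)) (Nat.ble (nat_lit 350) i)) (Nat.ble (nat_lit 348) i)) (Nat.ble (nat_lit 344) i)) (Nat.ble (nat_lit 336) i))

def rowBlk_n0_11 (i : ℕ) : ℕ := (@Bool.rec (fun _ => ℕ) (@Bool.rec (fun _ => ℕ) (@Bool.rec (fun _ => ℕ) (@Bool.rec (fun _ => ℕ) (@Bool.rec (fun _ => ℕ) rb352 rb353 (Nat.ble (nat_lit 353) i)) (@Bool.rec (fun _ => ℕ) rb354 rb355 (Nat.ble (nat_lit 355) i)) (Nat.ble (nat_lit 354) i)) (@Bool.rec (fun _ => ℕ) (@Bool.rec (fun _ => ℕ) rb356 rb357 (Nat.ble (nat_lit 357) i)) (@Bool.rec (fun _ => ℕ) rb358 rb359 (Nat.ble (nat_lit 359) i)) (Nat.ble (nat_lit 358) i)) (Nat.ble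 (nat_lit 356) i)) (@Bool.rec (fun _ => ℕ) (@Bool.rec (fun _ => ℕ) (@Bool.rec (fun _ => ℕ) rb360 rb361 (Nat.ble (nat_lit 361) i)) (@Bool.rec (fun _ => ℕ) rb362 rb363 (Nat.ble (nat_lit 363) i)) (Nat.ble (nat_lit 362) i)) (@Bool.rec (fun _ => ℕ) (@Bool.rec (fun _ => ℕ) rb364 rb365 (Nat.ble (nat_lit 365) i)) (@Bool.rec (fun _ => ℕ) rb366 rb367 (Nat.ble (nat_lit 367) i)) (Nat.ble (nat_lit 366) i)) (Nat.ble (nat_lit 364) i)) (Nat.ble (nat_lit 360) i)) (@Bool.rec (fun _ => ℕ) (@Bool.rec (fun _ => ℕ) (@Bool.rec (fun _ => ℕ) (@Bool.rec (fun _ => ℕ) rb368 rb369 (Nat.ble (nat_lit 369) i)) (@Bool.rec (fun _ => ℕ) rb370 rb371 (Nat.ble (nat_lit 371) i)) (Nat.ble (nat_lit 370) i)) (@Bool.rec (fun _ => ℕ) (@Bool.rec (fun _ => ℕ) rb372 rb373 (Nat.ble (nat_lit 373) i)) (@Bool.rec (fun _ => ℕ) rb374 rb375 (Nat.ble (nat_lit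 375) i)) (Nat.ble (nat_lit 374) i)) (Nat.ble (nat_lit 372) i)) (@Bool.rec (fun _ => ℕ) (@Bool.rec (fun _ => ℕ) (@Bool.rec (fun _ => ℕ) rb376 rb377 (Nat.ble (nat_lit 377) i)) (@Bool.rec (fun _ => ℕ) rb378 rb379 (Nat.ble (nat_lit 379) i)) (Nat.ble (nat_lit 378) i)) (@Bool.rec (fun _ => ℕ) (@Bool.rec (fun _ => ℕ) rb380 rb381 (Nat.ble (nat_lit 381) i)) (@Bool.rec (fun _ => ℕ) rb382 rb383 (Nat.ble (nat_lit 383) i)) (Nat.ble (nat_lit 382) i)) (Nat.ble (nat_lit 380) i)) (Nat.ble (nat_lit 376) i)) (Nat.ble (nat_lit 368) i))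

def rowBlk_n0_12 (i : ℕ) : ℕ := (@Bool.rec (fun _ => ℕ) (@Bool.rec (fun _ => ℕ) (@Bool.rec (fun _ => ℕ) (@Bool.rec (fun _ => ℕ) (@Bool.rec (fun _ => ℕ) rb384 rb385 (Nat.ble (nat_lit 385) i)) (@Bool.rec (fun _ => ℕ) rb386 rb387 (Nat.ble (nat_lit 387) i)) (Nat.ble (nat_lit 386) i)) (@Bool.rec (fun _ => ℕ) (@Bool.rec (fun _ => ℕ) rb388 rb389 (Nat.ble (nat_lit 389) i)) (@Bool.rec (fun _ => ℕ) rb390 rb391 (Nat.ble (nat_lit 391) i)) (Nat.ble (nat_lit 390) i)) (Nat.ble (nat_lit 388) i)) (@Bool.rec (fun _ => ℕ) (@Bool.rec (fun _ => ℕ) (@Bool.rec (fun _ => ℕ) rb392 rb393 (Nat.ble (nat_lit 393) i)) (@Bool.rec (fun _ => ℕ) rb394 rb395 (Nat.ble (nat_lit 395) i)) (Nat.ble (nat_lit 394) i)) (@Bool.rec (fun _ => ℕ) (@Bool.rec (fun _ => ℕ) rb396 rb397 (Nat.ble (nat_lit 397) i)) (@Bool.rec (fun _ => ℕ) rb398 rb399 (Nat.ble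 (nat_lit 399) i)) (Nat.ble (nat_lit 398) i)) (Nat.ble (nat_lit 396) i)) (Nat.ble (nat_lit 392) i)) (@Bool.rec (fun _ => ℕ) (@Bool.rec (fun _ => ℕ) (@Bool.rec (fun _ => ℕ) (@Bool.rec (fun _ => ℕ) rb400 rb401 (Nat.ble (nat_lit 401) i)) (@Bool.rec (fun _ => ℕ) rb402 rb403 (Nat.ble (nat_lit 403) i)) (Nat.ble (nat_lit 402) i)) (@Bool.rec (fun _ => ℕ) (@Bool.rec (fun _ => ℕ) rb404 rb405 (Nat.ble (nat_lit 405) i)) (@Bool.rec (fun _ => ℕ) rb406 rb407 (Nat.ble (nat_lit 407) i)) (Nat.ble (nat_lit 406) i)) (Nat.ble (nat_lit 404) i)) (@Bool.rec (fun _ => ℕ) (@Bool.rec (fun _ => ℕ) (@Bool.rec (fun _ => ℕ) rb408 rb409 (Nat.ble (nat_lit 409) i)) (@Bool.rec (fun _ => ℕ) rb410 rb411 (Nat.ble (nat_lit 411) i)) (Nat.ble (nat_lit 410) i)) (@Bool.rec (fun _ => ℕ) (@Bool.rec (fun _ => ℕ) rb412 rb413 (Nat.ble (nat_lit 413) i))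 (@Bool.rec (fun _ => ℕ) rb414 rb415 (Nat.ble (nat_lit 415) i)) (Nat.ble (nat_lit 414) i)) (Nat.ble (nat_lit 412) i)) (Nat.ble (nat_lit 408) i)) (Nat.ble (nat_lit 400) i))

def rowBlk_n0_13 (i : ℕ) : ℕ := (@Bool.rec (fun _ => ℕ) (@Bool.rec (fun _ => ℕ) (@Bool.rec (fun _ => ℕ) (@Bool.rec (fun _ => ℕ) (@Bool.rec (fun _ => ℕ) rb416 rb417 (Nat.ble (nat_lit 417) i)) (@Bool.rec (fun _ => ℕ) rb418 rb419 (Nat.ble (nat_lit 419) i)) (Nat.ble (nat_lit 418) i)) (@Bool.rec (fun _ => ℕ) (@Bool.rec (fun _ => ℕ) rb420 rb421 (Nat.ble (nat_lit 421) i)) (@Bool.rec (fun _ => ℕ) rb422 rb423 (Nat.ble (nat_lit 423) i)) (Nat.ble (nat_lit 422) i)) (Nat.ble (nat_lit 420) i)) (@Bool.rec (fun _ => ℕ) (@Bool.rec (fun _ => ℕ) (@Bool.rec (fun _ => ℕ) rb424 rb425 (Nat.ble (nat_lit 425) i)) (@Bool.rec (fun _ => ℕ) rb426 rb427 (Nat.ble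 (nat_lit 427) i)) (Nat.ble (nat_lit 426) i)) (@Bool.rec (fun _ => ℕ) (@Bool.rec (fun _ => ℕ) rb428 rb429 (Nat.ble (nat_lit 429) i)) (@Bool.rec (fun _ => ℕ) rb430 rb431 (Nat.ble (nat_lit 431) i)) (Nat.ble (nat_lit 430) i)) (Nat.ble (nat_lit 428) i)) (Nat.ble (nat_lit 424) i)) (@Bool.rec (fun _ => ℕ) (@Bool.rec (fun _ => ℕ) (@Bool.rec (fun _ => ℕ) (@Bool.rec (fun _ => ℕ) rb432 rb433 (Nat.ble (nat_lit 433) i)) (@Bool.rec (fun _ => ℕ) rb434 rb435 (Nat.ble (nat_lit 435) i)) (Nat.ble (nat_lit 434) i)) (@Bool.rec (fun _ => ℕ) (@Bool.rec (fun _ => ℕ) rb436 rb437 (Nat.ble (nat_lit 437) i)) (@Bool.rec (fun _ => ℕ) rb438 rb439 (Nat.ble (nat_lit 439) i)) (Nat.ble (nat_lit 438) i)) (Nat.ble (nat_lit 436) i)) (@Bool.rec (fun _ => ℕ) (@Bool.rec (fun _ => ℕ) (@Bool.rec (fun _ => ℕ) rb440 rb441 (Nat.ble (nat_lit 441) i))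 (@Bool.rec (fun _ => ℕ) rb442 rb443 (Nat.ble (nat_lit 443) i)) (Nat.ble (nat_lit 442) i)) (@Bool.rec (fun _ => ℕ) (@Bool.rec (fun _ => ℕ) rb444 rb445 (Nat.ble (nat_lit 445) i)) (@Bool.rec (fun _ => ℕ) rb446 rb447 (Nat.ble (nat_lit 447) i)) (Nat.ble (nat_lit 446) i)) (Nat.ble (nat_lit 444) i)) (Nat.ble (nat_lit 440) i)) (Nat.ble (nat_lit 432) i))

def rowBlk_n0_14 (i : ℕ) : ℕ := (@Bool.rec (fun _ => ℕ) (@Bool.rec (fun _ => ℕ) (@Bool.rec (fun _ => ℕ) (@Bool.rec (fun _ => ℕ) (@Bool.rec (fun _ => ℕ) rb448 rb449 (Nat.ble (nat_lit 449) i)) (@Bool.rec (fun _ => ℕ) rb450 rb451 (Nat.ble (nat_lit 451) i)) (Nat.ble (nat_lit 450) i)) (@Bool.rec (fun _ => ℕ) (@Bool.rec (fun _ => ℕ) rb452 rb453 (Nat.ble (nat_lit 453) i)) (@Bool.rec (fun _ => ℕ) rb454 rb455 (Nat.ble (nat_lit 455) i)) (Nat.ble (nat_lit 454) i)) (Nat.ble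 (nat_lit 452) i)) (@Bool.rec (fun _ => ℕ) (@Bool.rec (fun _ => ℕ) (@Bool.rec (fun _ => ℕ) rb456 rb457 (Nat.ble (nat_lit 457) i)) (@Bool.rec (fun _ => ℕ) rb458 rb459 (Nat.ble (nat_lit 459) i)) (Nat.ble (nat_lit 458) i)) (@Bool.rec (fun _ => ℕ) (@Bool.rec (fun _ => ℕ) rb460 rb461 (Nat.ble (nat_lit 461) i)) (@Bool.rec (fun _ => ℕ) rb462 rb463 (Nat.ble (nat_lit 463) i)) (Nat.ble (nat_lit 462) i)) (Nat.ble (nat_lit 460) i)) (Nat.ble (nat_lit 456) i)) (@Bool.rec (fun _ => ℕ) (@Bool.rec (fun _ => ℕ) (@Bool.rec (fun _ => ℕ) (@Bool.rec (fun _ => ℕ) rb464 rb465 (Nat.ble (nat_lit 465) i)) (@Bool.rec (fun _ => ℕ) rb466 rb467 (Nat.ble (nat_lit 467) i)) (Nat.ble (nat_lit 466) i)) (@Bool.rec (fun _ => ℕ) (@Bool.rec (fun _ => ℕ) rb468 rb469 (Nat.ble (nat_lit 469) i)) (@Bool.rec (fun _ => ℕ) rb470 rb471 (Nat.ble (nat_lit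 471) i)) (Nat.ble (nat_lit 470) i)) (Nat.ble (nat_lit 468) i)) (@Bool.rec (fun _ => ℕ) (@Bool.rec (fun _ => ℕ) (@Bool.rec (fun _ => ℕ) rb472 rb473 (Nat.ble (nat_lit 473) i)) (@Bool.rec (fun _ => ℕ) rb474 rb475 (Nat.ble (nat_lit 475) i)) (Nat.ble (nat_lit 474) i)) (@Bool.rec (fun _ => ℕ) (@Bool.rec (fun _ => ℕ) rb476 rb477 (Nat.ble (nat_lit 477) i)) (@Bool.rec (fun _ => ℕ) rb478 rb479 (Nat.ble (nat_lit 479) i)) (Nat.ble (nat_lit 478) i)) (Nat.ble (nat_lit 476) i)) (Nat.ble (nat_lit 472) i)) (Nat.ble (nat_lit 464) i))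

def rowBlk_n0_15 (i : ℕ) : ℕ := (@Bool.rec (fun _ => ℕ) (@Bool.rec (fun _ => ℕ) (@Bool.rec (fun _ => ℕ) (@Bool.rec (fun _ => ℕ) (@Bool.rec (fun _ => ℕ) rb480 rb481 (Nat.ble (nat_lit 481) i)) (@Bool.rec (fun _ => ℕ) rb482 rb483 (Nat.ble (nat_lit 483) i)) (Nat.ble (nat_lit 482) i)) (@Bool.rec (fun _ => ℕ) (@Bool.rec (fun _ => ℕ) rb484 rb485 (Nat.ble (nat_lit 485) i)) (@Bool.rec (fun _ => ℕ) rb486 rb487 (Nat.ble (nat_lit 487) i)) (Nat.ble (nat_lit 486) i)) (Nat.ble (nat_lit 484) i)) (@Bool.rec (fun _ => ℕ) (@Bool.rec (fun _ => ℕ) (@Bool.rec (fun _ => ℕ) rb488 rb489 (Nat.ble (nat_lit 489) i)) (@Bool.rec (fun _ => ℕ) rb490 rb491 (Nat.ble (nat_lit 491) i)) (Nat.ble (nat_lit 490) i)) (@Bool.rec (fun _ => ℕ) (@Bool.rec (fun _ => ℕ) rb492 rb493 (Nat.ble (nat_lit 493) i)) (@Bool.rec (fun _ => ℕ) rb494 rb495 (Nat.ble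 (nat_lit 495) i)) (Nat.ble (nat_lit 494) i)) (Nat.ble (nat_lit 492) i)) (Nat.ble (nat_lit 488) i)) (@Bool.rec (fun _ => ℕ) (@Bool.rec (fun _ => ℕ) (@Bool.rec (fun _ => ℕ) (@Bool.rec (fun _ => ℕ) rb496 rb497 (Nat.ble (nat_lit 497) i)) (@Bool.rec (fun _ => ℕ) rb498 rb499 (Nat.ble (nat_lit 499) i)) (Nat.ble (nat_lit 498) i)) (@Bool.rec (fun _ => ℕ) (@Bool.rec (fun _ => ℕ) rb500 rb501 (Nat.ble (nat_lit 501) i)) (@Bool.rec (fun _ => ℕ) rb502 rb503 (Nat.ble (nat_lit 503) i)) (Nat.ble (nat_lit 502) i)) (Nat.ble (nat_lit 500) i)) (@Bool.rec (fun _ => ℕ) (@Bool.rec (fun _ => ℕ) (@Bool.rec (fun _ => ℕ) rb504 rb505 (Nat.ble (nat_lit 505) i)) (@Bool.rec (fun _ => ℕ) rb506 rb507 (Nat.ble (nat_lit 507) i)) (Nat.ble (nat_lit 506) i)) (@Bool.rec (fun _ => ℕ) (@Bool.rec (fun _ => ℕ) rb508 rb509 (Nat.ble (nat_lit 509) i))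 (@Bool.rec (fun _ => ℕ) rb510 rb511 (Nat.ble (nat_lit 511) i)) (Nat.ble (nat_lit 510) i)) (Nat.ble (nat_lit 508) i)) (Nat.ble (nat_lit 504) i)) (Nat.ble (nat_lit 496) i))

def rowBlk_n0_16 (i : ℕ) : ℕ := (@Bool.rec (fun _ => ℕ) (@Bool.rec (fun _ => ℕ) (@Bool.rec (fun _ => ℕ) (@Bool.rec (fun _ => ℕ) (@Bool.rec (fun _ => ℕ) rb512 rb513 (Nat.ble (nat_lit 513) i)) (@Bool.rec (fun _ => ℕ) rb514 rb515 (Nat.ble (nat_lit 515) i)) (Nat.ble (nat_lit 514) i)) (@Bool.rec (fun _ => ℕ) (@Bool.rec (fun _ => ℕ) rb516 rb517 (Nat.ble (nat_lit 517) i)) (@Bool.rec (fun _ => ℕ) rb518 rb519 (Nat.ble (nat_lit 519) i)) (Nat.ble (nat_lit 518) i)) (Nat.ble (nat_lit 516) i)) (@Bool.rec (fun _ => ℕ) (@Bool.rec (fun _ => ℕ) (@Bool.rec (fun _ => ℕ) rb520 rb521 (Nat.ble (nat_lit 521) i)) (@Bool.rec (fun _ => ℕ) rb522 rb523 (Nat.ble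 (nat_lit 523) i)) (Nat.ble (nat_lit 522) i)) (@Bool.rec (fun _ => ℕ) (@Bool.rec (fun _ => ℕ) rb524 rb525 (Nat.ble (nat_lit 525) i)) (@Bool.rec (fun _ => ℕ) rb526 rb527 (Nat.ble (nat_lit 527) i)) (Nat.ble (nat_lit 526) i)) (Nat.ble (nat_lit 524) i)) (Nat.ble (nat_lit 520) i)) (@Bool.rec (fun _ => ℕ) (@Bool.rec (fun _ => ℕ) (@Bool.rec (fun _ => ℕ) (@Bool.rec (fun _ => ℕ) rb528 rb529 (Nat.ble (nat_lit 529) i)) (@Bool.rec (fun _ => ℕ) rb530 rb531 (Nat.ble (nat_lit 531) i)) (Nat.ble (nat_lit 530) i)) (@Bool.rec (fun _ => ℕ) (@Bool.rec (fun _ => ℕ) rb532 rb533 (Nat.ble (nat_lit 533) i)) (@Bool.rec (fun _ => ℕ) rb534 rb535 (Nat.ble (nat_lit 535) i)) (Nat.ble (nat_lit 534) i)) (Nat.ble (nat_lit 532) i)) (@Bool.rec (fun _ => ℕ) (@Bool.rec (fun _ => ℕ) (@Bool.rec (fun _ => ℕ) rb536 rb537 (Nat.ble (nat_lit 537) i))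 (@Bool.rec (fun _ => ℕ) rb538 rb539 (Nat.ble (nat_lit 539) i)) (Nat.ble (nat_lit 538) i)) (@Bool.rec (fun _ => ℕ) (@Bool.rec (fun _ => ℕ) rb540 rb541 (Nat.ble (nat_lit 541) i)) (@Bool.rec (fun _ => ℕ) rb542 rb543 (Nat.ble (nat_lit 543) i)) (Nat.ble (nat_lit 542) i)) (Nat.ble (nat_lit 540) i)) (Nat.ble (nat_lit 536) i)) (Nat.ble (nat_lit 528) i))

def rowBlk_n0_17 (i : ℕ) : ℕ := (@Bool.rec (fun _ => ℕ) (@Bool.rec (fun _ => ℕ) (@Bool.rec (fun _ => ℕ) (@Bool.rec (fun _ => ℕ) (@Bool.rec (fun _ => ℕ) rb544 rb545 (Nat.ble (nat_lit 545) i)) (@Bool.rec (fun _ => ℕ) rb546 rb547 (Nat.ble (nat_lit 547) i)) (Nat.ble (nat_lit 546) i)) (@Bool.rec (fun _ => ℕ) (@Bool.rec (fun _ => ℕ) rb548 rb549 (Nat.ble (nat_lit 549) i)) (@Bool.rec (fun _ => ℕ) rb550 rb551 (Nat.ble (nat_lit 551) i)) (Nat.ble (nat_lit 550) i)) (Nat.ble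 (nat_lit 548) i)) (@Bool.rec (fun _ => ℕ) (@Bool.rec (fun _ => ℕ) (@Bool.rec (fun _ => ℕ) rb552 rb553 (Nat.ble (nat_lit 553) i)) (@Bool.rec (fun _ => ℕ) rb554 rb555 (Nat.ble (nat_lit 555) i)) (Nat.ble (nat_lit 554) i)) (@Bool.rec (fun _ => ℕ) (@Bool.rec (fun _ => ℕ) rb556 rb557 (Nat.ble (nat_lit 557) i)) (@Bool.rec (fun _ => ℕ) rb558 rb559 (Nat.ble (nat_lit 559) i)) (Nat.ble (nat_lit 558) i)) (Nat.ble (nat_lit 556) i)) (Nat.ble (nat_lit 552) i)) (@Bool.rec (fun _ => ℕ) (@Bool.rec (fun _ => ℕ) (@Bool.rec (fun _ => ℕ) (@Bool.rec (fun _ => ℕ) rb560 rb561 (Nat.ble (nat_lit 561) i)) (@Bool.rec (fun _ => ℕ) rb562 rb563 (Nat.ble (nat_lit 563) i)) (Nat.ble (nat_lit 562) i)) (@Bool.rec (fun _ => ℕ) (@Bool.rec (fun _ => ℕ) rb564 rb565 (Nat.ble (nat_lit 565) i)) (@Bool.rec (fun _ => ℕ) rb566 rb567 (Nat.ble (nat_lit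 567) i)) (Nat.ble (nat_lit 566) i)) (Nat.ble (nat_lit 564) i)) (@Bool.rec (fun _ => ℕ) (@Bool.rec (fun _ => ℕ) (@Bool.rec (fun _ => ℕ) rb568 rb569 (Nat.ble (nat_lit 569) i)) (@Bool.rec (fun _ => ℕ) rb570 rb571 (Nat.ble (nat_lit 571) i)) (Nat.ble (nat_lit 570) i)) (@Bool.rec (fun _ => ℕ) (@Bool.rec (fun _ => ℕ) rb572 rb573 (Nat.ble (nat_lit 573) i)) (@Bool.rec (fun _ => ℕ) rb574 rb575 (Nat.ble (nat_lit 575) i)) (Nat.ble (nat_lit 574) i)) (Nat.ble (nat_lit 572) i)) (Nat.ble (nat_lit 568) i)) (Nat.ble (nat_lit 560) i))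

def rowBlk_n0_18 (i : ℕ) : ℕ := (@Bool.rec (fun _ => ℕ) (@Bool.rec (fun _ => ℕ) (@Bool.rec (fun _ => ℕ) (@Bool.rec (fun _ => ℕ) (@Bool.rec (fun _ => ℕ) rb576 rb577 (Nat.ble (nat_lit 577) i)) (@Bool.rec (fun _ => ℕ) rb578 rb579 (Nat.ble (nat_lit 579) i)) (Nat.ble (nat_lit 578) i)) (@Bool.rec (fun _ => ℕ) (@Bool.rec (fun _ => ℕ) rb580 rb581 (Nat.ble (nat_lit 581) i)) (@Bool.rec (fun _ => ℕ) rb582 rb583 (Nat.ble (nat_lit 583) i)) (Nat.ble (nat_lit 582) i)) (Nat.ble (nat_lit 580) i)) (@Bool.rec (fun _ => ℕ) (@Bool.rec (fun _ => ℕ) (@Bool.rec (fun _ => ℕ) rb584 rb585 (Nat.ble (nat_lit 585) i)) (@Bool.rec (fun _ => ℕ) rb586 rb587 (Nat.ble (nat_lit 587) i)) (Nat.ble (nat_lit 586) i)) (@Bool.rec (fun _ => ℕ) (@Bool.rec (fun _ => ℕ) rb588 rb589 (Nat.ble (nat_lit 589) i)) (@Bool.rec (fun _ => ℕ) rb590 rb591 (Nat.ble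 (nat_lit 591) i)) (Nat.ble (nat_lit 590) i)) (Nat.ble (nat_lit 588) i)) (Nat.ble (nat_lit 584) i)) (@Bool.rec (fun _ => ℕ) (@Bool.rec (fun _ => ℕ) (@Bool.rec (fun _ => ℕ) (@Bool.rec (fun _ => ℕ) rb592 rb593 (Nat.ble (nat_lit 593) i)) (@Bool.rec (fun _ => ℕ) rb594 rb595 (Nat.ble (nat_lit 595) i)) (Nat.ble (nat_lit 594) i)) (@Bool.rec (fun _ => ℕ) (@Bool.rec (fun _ => ℕ) rb596 rb597 (Nat.ble (nat_lit 597) i)) (@Bool.rec (fun _ => ℕ) rb598 rb599 (Nat.ble (nat_lit 599) i)) (Nat.ble (nat_lit 598) i)) (Nat.ble (nat_lit 596) i)) (@Bool.rec (fun _ => ℕ) (@Bool.rec (fun _ => ℕ) (@Bool.rec (fun _ => ℕ) rb600 rb601 (Nat.ble (nat_lit 601) i)) (@Bool.rec (fun _ => ℕ) rb602 rb603 (Nat.ble (nat_lit 603) i)) (Nat.ble (nat_lit 602) i)) (@Bool.rec (fun _ => ℕ) (@Bool.rec (fun _ => ℕ) rb604 rb605 (Nat.ble (nat_lit 605) i))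 (@Bool.rec (fun _ => ℕ) rb606 rb607 (Nat.ble (nat_lit 607) i)) (Nat.ble (nat_lit 606) i)) (Nat.ble (nat_lit 604) i)) (Nat.ble (nat_lit 600) i)) (Nat.ble (nat_lit 592) i))

def rowBlk_n0_19 (i : ℕ) : ℕ := (@Bool.rec (fun _ => ℕ) (@Bool.rec (fun _ => ℕ) (@Bool.rec (fun _ => ℕ) (@Bool.rec (fun _ => ℕ) (@Bool.rec (fun _ => ℕ) rb608 rb609 (Nat.ble (nat_lit 609) i)) (@Bool.rec (fun _ => ℕ) rb610 rb611 (Nat.ble (nat_lit 611) i)) (Nat.ble (nat_lit 610) i)) (@Bool.rec (fun _ => ℕ) (@Bool.rec (fun _ => ℕ) rb612 rb613 (Nat.ble (nat_lit 613) i)) (@Bool.rec (fun _ => ℕ) rb614 rb615 (Nat.ble (nat_lit 615) i)) (Nat.ble (nat_lit 614) i)) (Nat.ble (nat_lit 612) i)) (@Bool.rec (fun _ => ℕ) (@Bool.rec (fun _ => ℕ) (@Bool.rec (fun _ => ℕ) rb616 rb617 (Nat.ble (nat_lit 617) i)) (@Bool.rec (fun _ => ℕ) rb618 rb619 (Nat.ble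 (nat_lit 619) i)) (Nat.ble (nat_lit 618) i)) (@Bool.rec (fun _ => ℕ) (@Bool.rec (fun _ => ℕ) rb620 rb621 (Nat.ble (nat_lit 621) i)) (@Bool.rec (fun _ => ℕ) rb622 rb623 (Nat.ble (nat_lit 623) i)) (Nat.ble (nat_lit 622) i)) (Nat.ble (nat_lit 620) i)) (Nat.ble (nat_lit 616) i)) (@Bool.rec (fun _ => ℕ) (@Bool.rec (fun _ => ℕ) (@Bool.rec (fun _ => ℕ) (@Bool.rec (fun _ => ℕ) rb624 rb625 (Nat.ble (nat_lit 625) i)) (@Bool.rec (fun _ => ℕ) rb626 rb627 (Nat.ble (nat_lit 627) i)) (Nat.ble (nat_lit 626) i)) (@Bool.rec (fun _ => ℕ) (@Bool.rec (fun _ => ℕ) rb628 rb629 (Nat.ble (nat_lit 629) i)) (@Bool.rec (fun _ => ℕ) rb630 rb631 (Nat.ble (nat_lit 631) i)) (Nat.ble (nat_lit 630) i)) (Nat.ble (nat_lit 628) i)) (@Bool.rec (fun _ => ℕ) (@Bool.rec (fun _ => ℕ) (@Bool.rec (fun _ => ℕ) rb632 rb633 (Nat.ble (nat_lit 633) i))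 (@Bool.rec (fun _ => ℕ) rb634 rb635 (Nat.ble (nat_lit 635) i)) (Nat.ble (nat_lit 634) i)) (@Bool.rec (fun _ => ℕ) (@Bool.rec (fun _ => ℕ) rb636 rb637 (Nat.ble (nat_lit 637) i)) (@Bool.rec (fun _ => ℕ) rb638 rb639 (Nat.ble (nat_lit 639) i)) (Nat.ble (nat_lit 638) i)) (Nat.ble (nat_lit 636) i)) (Nat.ble (nat_lit 632) i)) (Nat.ble (nat_lit 624) i))

def rowBlk_n0_20 (i : ℕ) : ℕ := (@Bool.rec (fun _ => ℕ) (@Bool.rec (fun _ => ℕ) (@Bool.rec (fun _ => ℕ) (@Bool.rec (fun _ => ℕ) (@Bool.rec (fun _ => ℕ) rb640 rb641 (Nat.ble (nat_lit 641) i)) (@Bool.rec (fun _ => ℕ) rb642 rb643 (Nat.ble (nat_lit 643) i)) (Nat.ble (nat_lit 642) i)) (@Bool.rec (fun _ => ℕ) (@Bool.rec (fun _ => ℕ) rb644 rb645 (Nat.ble (nat_lit 645) i)) (@Bool.rec (fun _ => ℕ) rb646 rb647 (Nat.ble (nat_lit 647) i)) (Nat.ble (nat_lit 646) i)) (Nat.ble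 (nat_lit 644) i)) (@Bool.rec (fun _ => ℕ) (@Bool.rec (fun _ => ℕ) (@Bool.rec (fun _ => ℕ) rb648 rb649 (Nat.ble (nat_lit 649) i)) (@Bool.rec (fun _ => ℕ) rb650 rb651 (Nat.ble (nat_lit 651) i)) (Nat.ble (nat_lit 650) i)) (@Bool.rec (fun _ => ℕ) (@Bool.rec (fun _ => ℕ) rb652 rb653 (Nat.ble (nat_lit 653) i)) (@Bool.rec (fun _ => ℕ) rb654 rb655 (Nat.ble (nat_lit 655) i)) (Nat.ble (nat_lit 654) i)) (Nat.ble (nat_lit 652) i)) (Nat.ble (nat_lit 648) i)) (@Bool.rec (fun _ => ℕ) (@Bool.rec (fun _ => ℕ) (@Bool.rec (fun _ => ℕ) (@Bool.rec (fun _ => ℕ) rb656 rb657 (Nat.ble (nat_lit 657) i)) (@Bool.rec (fun _ => ℕ) rb658 rb659 (Nat.ble (nat_lit 659) i)) (Nat.ble (nat_lit 658) i)) (@Bool.rec (fun _ => ℕ) (@Bool.rec (fun _ => ℕ) rb660 rb661 (Nat.ble (nat_lit 661) i)) (@Bool.rec (fun _ => ℕ) rb662 rb663 (Nat.ble (nat_lit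 663) i)) (Nat.ble (nat_lit 662) i)) (Nat.ble (nat_lit 660) i)) (@Bool.rec (fun _ => ℕ) (@Bool.rec (fun _ => ℕ) (@Bool.rec (fun _ => ℕ) rb664 rb665 (Nat.ble (nat_lit 665) i)) (@Bool.rec (fun _ => ℕ) rb666 rb667 (Nat.ble (nat_lit 667) i)) (Nat.ble (nat_lit 666) i)) (@Bool.rec (fun _ => ℕ) (@Bool.rec (fun _ => ℕ) rb668 rb669 (Nat.ble (nat_lit 669) i)) (@Bool.rec (fun _ => ℕ) rb670 rb671 (Nat.ble (nat_lit 671) i)) (Nat.ble (nat_lit 670) i)) (Nat.ble (nat_lit 668) i)) (Nat.ble (nat_lit 664) i)) (Nat.ble (nat_lit 656) i))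

def rowBlk_n0_21 (i : ℕ) : ℕ := (@Bool.rec (fun _ => ℕ) (@Bool.rec (fun _ => ℕ) (@Bool.rec (fun _ => ℕ) (@Bool.rec (fun _ => ℕ) (@Bool.rec (fun _ => ℕ) rb672 rb673 (Nat.ble (nat_lit 673) i)) (@Bool.rec (fun _ => ℕ) rb674 rb675 (Nat.ble (nat_lit 675) i)) (Nat.ble (nat_lit 674) i)) (@Bool.rec (fun _ => ℕ) (@Bool.rec (fun _ => ℕ) rb676 rb677 (Nat.ble (nat_lit 677) i)) (@Bool.rec (fun _ => ℕ) rb678 rb679 (Nat.ble (nat_lit 679) i)) (Nat.ble (nat_lit 678) i)) (Nat.ble (nat_lit 676) i)) (@Bool.rec (fun _ => ℕ) (@Bool.rec (fun _ => ℕ) (@Bool.rec (fun _ => ℕ) rb680 rb681 (Nat.ble (nat_lit 681) i)) (@Bool.rec (fun _ => ℕ) rb682 rb683 (Nat.ble (nat_lit 683) i)) (Nat.ble (nat_lit 682) i)) (@Bool.rec (fun _ => ℕ) (@Bool.rec (fun _ => ℕ) rb684 rb685 (Nat.ble (nat_lit 685) i)) (@Bool.rec (fun _ => ℕ) rb686 rb687 (Nat.ble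 (nat_lit 687) i)) (Nat.ble (nat_lit 686) i)) (Nat.ble (nat_lit 684) i)) (Nat.ble (nat_lit 680) i)) (@Bool.rec (fun _ => ℕ) (@Bool.rec (fun _ => ℕ) (@Bool.rec (fun _ => ℕ) (@Bool.rec (fun _ => ℕ) rb688 rb689 (Nat.ble (nat_lit 689) i)) (@Bool.rec (fun _ => ℕ) rb690 rb691 (Nat.ble (nat_lit 691) i)) (Nat.ble (nat_lit 690) i)) (@Bool.rec (fun _ => ℕ) (@Bool.rec (fun _ => ℕ) rb692 rb693 (Nat.ble (nat_lit 693) i)) (@Bool.rec (fun _ => ℕ) rb694 rb695 (Nat.ble (nat_lit 695) i)) (Nat.ble (nat_lit 694) i)) (Nat.ble (nat_lit 692) i)) (@Bool.rec (fun _ => ℕ) (@Bool.rec (fun _ => ℕ) (@Bool.rec (fun _ => ℕ) rb696 rb697 (Nat.ble (nat_lit 697) i)) (@Bool.rec (fun _ => ℕ) rb698 rb699 (Nat.ble (nat_lit 699) i)) (Nat.ble (nat_lit 698) i)) (@Bool.rec (fun _ => ℕ) (@Bool.rec (fun _ => ℕ) rb700 rb701 (Nat.ble (nat_lit 701) i))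 (@Bool.rec (fun _ => ℕ) rb702 rb703 (Nat.ble (nat_lit 703) i)) (Nat.ble (nat_lit 702) i)) (Nat.ble (nat_lit 700) i)) (Nat.ble (nat_lit 696) i)) (Nat.ble (nat_lit 688) i))

def rowBlk_n0_22 (i : ℕ) : ℕ := (@Bool.rec (fun _ => ℕ) (@Bool.rec (fun _ => ℕ) (@Bool.rec (fun _ => ℕ) (@Bool.rec (fun _ => ℕ) (@Bool.rec (fun _ => ℕ) rb704 rb705 (Nat.ble (nat_lit 705) i)) (@Bool.rec (fun _ => ℕ) rb706 rb707 (Nat.ble (nat_lit 707) i)) (Nat.ble (nat_lit 706) i)) (@Bool.rec (fun _ => ℕ) (@Bool.rec (fun _ => ℕ) rb708 rb709 (Nat.ble (nat_lit 709) i)) (@Bool.rec (fun _ => ℕ) rb710 rb711 (Nat.ble (nat_lit 711) i)) (Nat.ble (nat_lit 710) i)) (Nat.ble (nat_lit 708) i)) (@Bool.rec (fun _ => ℕ) (@Bool.rec (fun _ => ℕ) (@Bool.rec (fun _ => ℕ) rb712 rb713 (Nat.ble (nat_lit 713) i)) (@Bool.rec (fun _ => ℕ) rb714 rb715 (Nat.ble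 (nat_lit 715) i)) (Nat.ble (nat_lit 714) i)) (@Bool.rec (fun _ => ℕ) (@Bool.rec (fun _ => ℕ) rb716 rb717 (Nat.ble (nat_lit 717) i)) (@Bool.rec (fun _ => ℕ) rb718 rb719 (Nat.ble (nat_lit 719) i)) (Nat.ble (nat_lit 718) i)) (Nat.ble (nat_lit 716) i)) (Nat.ble (nat_lit 712) i)) (@Bool.rec (fun _ => ℕ) (@Bool.rec (fun _ => ℕ) (@Bool.rec (fun _ => ℕ) (@Bool.rec (fun _ => ℕ) rb720 rb721 (Nat.ble (nat_lit 721) i)) (@Bool.rec (fun _ => ℕ) rb722 rb723 (Nat.ble (nat_lit 723) i)) (Nat.ble (nat_lit 722) i)) (@Bool.rec (fun _ => ℕ) (@Bool.rec (fun _ => ℕ) rb724 rb725 (Nat.ble (nat_lit 725) i)) (@Bool.rec (fun _ => ℕ) rb726 rb727 (Nat.ble (nat_lit 727) i)) (Nat.ble (nat_lit 726) i)) (Nat.ble (nat_lit 724) i)) (@Bool.rec (fun _ => ℕ) (@Bool.rec (fun _ => ℕ) (@Bool.rec (fun _ => ℕ) rb728 rb729 (Nat.ble (nat_lit 729) i))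 (@Bool.rec (fun _ => ℕ) rb730 rb731 (Nat.ble (nat_lit 731) i)) (Nat.ble (nat_lit 730) i)) (@Bool.rec (fun _ => ℕ) (@Bool.rec (fun _ => ℕ) rb732 rb733 (Nat.ble (nat_lit 733) i)) (@Bool.rec (fun _ => ℕ) rb734 rb735 (Nat.ble (nat_lit 735) i)) (Nat.ble (nat_lit 734) i)) (Nat.ble (nat_lit 732) i)) (Nat.ble (nat_lit 728) i)) (Nat.ble (nat_lit 720) i))

def rowBlk_n0_23 (i : ℕ) : ℕ := (@Bool.rec (fun _ => ℕ) (@Bool.rec (fun _ => ℕ) (@Bool.rec (fun _ => ℕ) (@Bool.rec (fun _ => ℕ) (@Bool.rec (fun _ => ℕ) rb736 rb737 (Nat.ble (nat_lit 737) i)) (@Bool.rec (fun _ => ℕ) rb738 rb739 (Nat.ble (nat_lit 739) i)) (Nat.ble (nat_lit 738) i)) (@Bool.rec (fun _ => ℕ) (@Bool.rec (fun _ => ℕ) rb740 rb741 (Nat.ble (nat_lit 741) i)) (@Bool.rec (fun _ => ℕ) rb742 rb743 (Nat.ble (nat_lit 743) i)) (Nat.ble (nat_lit 742) i)) (Nat.ble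 (nat_lit 740) i)) (@Bool.rec (fun _ => ℕ) (@Bool.rec (fun _ => ℕ) (@Bool.rec (fun _ => ℕ) rb744 rb745 (Nat.ble (nat_lit 745) i)) (@Bool.rec (fun _ => ℕ) rb746 rb747 (Nat.ble (nat_lit 747) i)) (Nat.ble (nat_lit 746) i)) (@Bool.rec (fun _ => ℕ) (@Bool.rec (fun _ => ℕ) rb748 rb749 (Nat.ble (nat_lit 749) i)) (@Bool.rec (fun _ => ℕ) rb750 rb751 (Nat.ble (nat_lit 751) i)) (Nat.ble (nat_lit 750) i)) (Nat.ble (nat_lit 748) i)) (Nat.ble (nat_lit 744) i)) (@Bool.rec (fun _ => ℕ) (@Bool.rec (fun _ => ℕ) (@Bool.rec (fun _ => ℕ) (@Bool.rec (fun _ => ℕ) rb752 rb753 (Nat.ble (nat_lit 753) i)) (@Bool.rec (fun _ => ℕ) rb754 rb755 (Nat.ble (nat_lit 755) i)) (Nat.ble (nat_lit 754) i)) (@Bool.rec (fun _ => ℕ) (@Bool.rec (fun _ => ℕ) rb756 rb757 (Nat.ble (nat_lit 757) i)) (@Bool.rec (fun _ => ℕ) rb758 rb759 (Nat.ble (nat_lit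 759) i)) (Nat.ble (nat_lit 758) i)) (Nat.ble (nat_lit 756) i)) (@Bool.rec (fun _ => ℕ) (@Bool.rec (fun _ => ℕ) (@Bool.rec (fun _ => ℕ) rb760 rb761 (Nat.ble (nat_lit 761) i)) (@Bool.rec (fun _ => ℕ) rb762 rb763 (Nat.ble (nat_lit 763) i)) (Nat.ble (nat_lit 762) i)) (@Bool.rec (fun _ => ℕ) (@Bool.rec (fun _ => ℕ) rb764 rb765 (Nat.ble (nat_lit 765) i)) (@Bool.rec (fun _ => ℕ) rb766 rb767 (Nat.ble (nat_lit 767) i)) (Nat.ble (nat_lit 766) i)) (Nat.ble (nat_lit 764) i)) (Nat.ble (nat_lit 760) i)) (Nat.ble (nat_lit 752) i))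

def rowBlk_n0_24 (i : ℕ) : ℕ := (@Bool.rec (fun _ => ℕ) (@Bool.rec (fun _ => ℕ) (@Bool.rec (fun _ => ℕ) (@Bool.rec (fun _ => ℕ) (@Bool.rec (fun _ => ℕ) rb768 rb769 (Nat.ble (nat_lit 769) i)) (@Bool.rec (fun _ => ℕ) rb770 rb771 (Nat.ble (nat_lit 771) i)) (Nat.ble (nat_lit 770) i)) (@Bool.rec (fun _ => ℕ) (@Bool.rec (fun _ => ℕ) rb772 rb773 (Nat.ble (nat_lit 773) i)) (@Bool.rec (fun _ => ℕ) rb774 rb775 (Nat.ble (nat_lit 775) i)) (Nat.ble (nat_lit 774) i)) (Nat.ble (nat_lit 772) i)) (@Bool.rec (fun _ => ℕ) (@Bool.rec (fun _ => ℕ) (@Bool.rec (fun _ => ℕ) rb776 rb777 (Nat.ble (nat_lit 777) i)) (@Bool.rec (fun _ => ℕ) rb778 rb779 (Nat.ble (nat_lit 779) i)) (Nat.ble (nat_lit 778) i)) (@Bool.rec (fun _ => ℕ) (@Bool.rec (fun _ => ℕ) rb780 rb781 (Nat.ble (nat_lit 781) i)) (@Bool.rec (fun _ => ℕ) rb782 rb783 (Nat.ble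 (nat_lit 783) i)) (Nat.ble (nat_lit 782) i)) (Nat.ble (nat_lit 780) i)) (Nat.ble (nat_lit 776) i)) (@Bool.rec (fun _ => ℕ) (@Bool.rec (fun _ => ℕ) (@Bool.rec (fun _ => ℕ) (@Bool.rec (fun _ => ℕ) rb784 rb785 (Nat.ble (nat_lit 785) i)) (@Bool.rec (fun _ => ℕ) rb786 rb787 (Nat.ble (nat_lit 787) i)) (Nat.ble (nat_lit 786) i)) (@Bool.rec (fun _ => ℕ) (@Bool.rec (fun _ => ℕ) rb788 rb789 (Nat.ble (nat_lit 789) i)) (@Bool.rec (fun _ => ℕ) rb790 rb791 (Nat.ble (nat_lit 791) i)) (Nat.ble (nat_lit 790) i)) (Nat.ble (nat_lit 788) i)) (@Bool.rec (fun _ => ℕ) (@Bool.rec (fun _ => ℕ) (@Bool.rec (fun _ => ℕ) rb792 rb793 (Nat.ble (nat_lit 793) i)) (@Bool.rec (fun _ => ℕ) rb794 rb795 (Nat.ble (nat_lit 795) i)) (Nat.ble (nat_lit 794) i)) (@Bool.rec (fun _ => ℕ) (@Bool.rec (fun _ => ℕ) rb796 rb797 (Nat.ble (nat_lit 797) i))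 (@Bool.rec (fun _ => ℕ) rb798 rb799 (Nat.ble (nat_lit 799) i)) (Nat.ble (nat_lit 798) i)) (Nat.ble (nat_lit 796) i)) (Nat.ble (nat_lit 792) i)) (Nat.ble (nat_lit 784) i))

def rowBlk_n0_25 (i : ℕ) : ℕ := (@Bool.rec (fun _ => ℕ) (@Bool.rec (fun _ => ℕ) (@Bool.rec (fun _ => ℕ) (@Bool.rec (fun _ => ℕ) (@Bool.rec (fun _ => ℕ) rb800 rb801 (Nat.ble (nat_lit 801) i)) (@Bool.rec (fun _ => ℕ) rb802 rb803 (Nat.ble (nat_lit 803) i)) (Nat.ble (nat_lit 802) i)) (@Bool.rec (fun _ => ℕ) (@Bool.rec (fun _ => ℕ) rb804 rb805 (Nat.ble (nat_lit 805) i)) (@Bool.rec (fun _ => ℕ) rb806 rb807 (Nat.ble (nat_lit 807) i)) (Nat.ble (nat_lit 806) i)) (Nat.ble (nat_lit 804) i)) (@Bool.rec (fun _ => ℕ) (@Bool.rec (fun _ => ℕ) (@Bool.rec (fun _ => ℕ) rb808 rb809 (Nat.ble (nat_lit 809) i)) (@Bool.rec (fun _ => ℕ) rb810 rb811 (Nat.ble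 (nat_lit 811) i)) (Nat.ble (nat_lit 810) i)) (@Bool.rec (fun _ => ℕ) (@Bool.rec (fun _ => ℕ) rb812 rb813 (Nat.ble (nat_lit 813) i)) (@Bool.rec (fun _ => ℕ) rb814 rb815 (Nat.ble (nat_lit 815) i)) (Nat.ble (nat_lit 814) i)) (Nat.ble (nat_lit 812) i)) (Nat.ble (nat_lit 808) i)) (@Bool.rec (fun _ => ℕ) (@Bool.rec (fun _ => ℕ) (@Bool.rec (fun _ => ℕ) (@Bool.rec (fun _ => ℕ) rb816 rb817 (Nat.ble (nat_lit 817) i)) (@Bool.rec (fun _ => ℕ) rb818 rb819 (Nat.ble (nat_lit 819) i)) (Nat.ble (nat_lit 818) i)) (@Bool.rec (fun _ => ℕ) (@Bool.rec (fun _ => ℕ) rb820 rb821 (Nat.ble (nat_lit 821) i)) (@Bool.rec (fun _ => ℕ) rb822 rb823 (Nat.ble (nat_lit 823) i)) (Nat.ble (nat_lit 822) i)) (Nat.ble (nat_lit 820) i)) (@Bool.rec (fun _ => ℕ) (@Bool.rec (fun _ => ℕ) (@Bool.rec (fun _ => ℕ) rb824 rb825 (Nat.ble (nat_lit 825) i))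 (@Bool.rec (fun _ => ℕ) rb826 rb827 (Nat.ble (nat_lit 827) i)) (Nat.ble (nat_lit 826) i)) (@Bool.rec (fun _ => ℕ) (@Bool.rec (fun _ => ℕ) rb828 rb829 (Nat.ble (nat_lit 829) i)) (@Bool.rec (fun _ => ℕ) rb830 rb831 (Nat.ble (nat_lit 831) i)) (Nat.ble (nat_lit 830) i)) (Nat.ble (nat_lit 828) i)) (Nat.ble (nat_lit 824) i)) (Nat.ble (nat_lit 816) i))

def rowBlk_n0_26 (i : ℕ) : ℕ := (@Bool.rec (fun _ => ℕ) (@Bool.rec (fun _ => ℕ) (@Bool.rec (fun _ => ℕ) (@Bool.rec (fun _ => ℕ) (@Bool.rec (fun _ => ℕ) rb832 rb833 (Nat.ble (nat_lit 833) i)) (@Bool.rec (fun _ => ℕ) rb834 rb835 (Nat.ble (nat_lit 835) i)) (Nat.ble (nat_lit 834) i)) (@Bool.rec (fun _ => ℕ) (@Bool.rec (fun _ => ℕ) rb836 rb837 (Nat.ble (nat_lit 837) i)) (@Bool.rec (fun _ => ℕ) rb838 rb839 (Nat.ble (nat_lit 839) i)) (Nat.ble (nat_lit 838) i)) (Nat.ble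 (nat_lit 836) i)) (@Bool.rec (fun _ => ℕ) (@Bool.rec (fun _ => ℕ) (@Bool.rec (fun _ => ℕ) rb840 rb841 (Nat.ble (nat_lit 841) i)) (@Bool.rec (fun _ => ℕ) rb842 rb843 (Nat.ble (nat_lit 843) i)) (Nat.ble (nat_lit 842) i)) (@Bool.rec (fun _ => ℕ) (@Bool.rec (fun _ => ℕ) rb844 rb845 (Nat.ble (nat_lit 845) i)) (@Bool.rec (fun _ => ℕ) rb846 rb847 (Nat.ble (nat_lit 847) i)) (Nat.ble (nat_lit 846) i)) (Nat.ble (nat_lit 844) i)) (Nat.ble (nat_lit 840) i)) (@Bool.rec (fun _ => ℕ) (@Bool.rec (fun _ => ℕ) (@Bool.rec (fun _ => ℕ) (@Bool.rec (fun _ => ℕ) rb848 rb849 (Nat.ble (nat_lit 849) i)) (@Bool.rec (fun _ => ℕ) rb850 rb851 (Nat.ble (nat_lit 851) i)) (Nat.ble (nat_lit 850) i)) (@Bool.rec (fun _ => ℕ) (@Bool.rec (fun _ => ℕ) rb852 rb853 (Nat.ble (nat_lit 853) i)) (@Bool.rec (fun _ => ℕ) rb854 rb855 (Nat.ble (nat_lit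 855) i)) (Nat.ble (nat_lit 854) i)) (Nat.ble (nat_lit 852) i)) (@Bool.rec (fun _ => ℕ) (@Bool.rec (fun _ => ℕ) (@Bool.rec (fun _ => ℕ) rb856 rb857 (Nat.ble (nat_lit 857) i)) (@Bool.rec (fun _ => ℕ) rb858 rb859 (Nat.ble (nat_lit 859) i)) (Nat.ble (nat_lit 858) i)) (@Bool.rec (fun _ => ℕ) (@Bool.rec (fun _ => ℕ) rb860 rb861 (Nat.ble (nat_lit 861) i)) (@Bool.rec (fun _ => ℕ) rb862 rb863 (Nat.ble (nat_lit 863) i)) (Nat.ble (nat_lit 862) i)) (Nat.ble (nat_lit 860) i)) (Nat.ble (nat_lit 856) i)) (Nat.ble (nat_lit 848) i))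

def rowBlk_n0_27 (i : ℕ) : ℕ := (@Bool.rec (fun _ => ℕ) (@Bool.rec (fun _ => ℕ) (@Bool.rec (fun _ => ℕ) (@Bool.rec (fun _ => ℕ) (@Bool.rec (fun _ => ℕ) rb864 rb865 (Nat.ble (nat_lit 865) i)) (@Bool.rec (fun _ => ℕ) rb866 rb867 (Nat.ble (nat_lit 867) i)) (Nat.ble (nat_lit 866) i)) (@Bool.rec (fun _ => ℕ) (@Bool.rec (fun _ => ℕ) rb868 rb869 (Nat.ble (nat_lit 869) i)) (@Bool.rec (fun _ => ℕ) rb870 rb871 (Nat.ble (nat_lit 871) i)) (Nat.ble (nat_lit 870) i)) (Nat.ble (nat_lit 868) i)) (@Bool.rec (fun _ => ℕ) (@Bool.rec (fun _ => ℕ) (@Bool.rec (fun _ => ℕ) rb872 rb873 (Nat.ble (nat_lit 873) i)) (@Bool.rec (fun _ => ℕ) rb874 rb875 (Nat.ble (nat_lit 875) i)) (Nat.ble (nat_lit 874) i)) (@Bool.rec (fun _ => ℕ) (@Bool.rec (fun _ => ℕ) rb876 rb877 (Nat.ble (nat_lit 877) i)) (@Bool.rec (fun _ => ℕ) rb878 rb879 (Nat.ble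 (nat_lit 879) i)) (Nat.ble (nat_lit 878) i)) (Nat.ble (nat_lit 876) i)) (Nat.ble (nat_lit 872) i)) (@Bool.rec (fun _ => ℕ) (@Bool.rec (fun _ => ℕ) (@Bool.rec (fun _ => ℕ) (@Bool.rec (fun _ => ℕ) rb880 rb881 (Nat.ble (nat_lit 881) i)) (@Bool.rec (fun _ => ℕ) rb882 rb883 (Nat.ble (nat_lit 883) i)) (Nat.ble (nat_lit 882) i)) (@Bool.rec (fun _ => ℕ) (@Bool.rec (fun _ => ℕ) rb884 rb885 (Nat.ble (nat_lit 885) i)) (@Bool.rec (fun _ => ℕ) rb886 rb887 (Nat.ble (nat_lit 887) i)) (Nat.ble (nat_lit 886) i)) (Nat.ble (nat_lit 884) i)) (@Bool.rec (fun _ => ℕ) (@Bool.rec (fun _ => ℕ) (@Bool.rec (fun _ => ℕ) rb888 rb889 (Nat.ble (nat_lit 889) i)) (@Bool.rec (fun _ => ℕ) rb890 rb891 (Nat.ble (nat_lit 891) i)) (Nat.ble (nat_lit 890) i)) (@Bool.rec (fun _ => ℕ) (@Bool.rec (fun _ => ℕ) rb892 rb893 (Nat.ble (nat_lit 893) i))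 (@Bool.rec (fun _ => ℕ) rb894 rb895 (Nat.ble (nat_lit 895) i)) (Nat.ble (nat_lit 894) i)) (Nat.ble (nat_lit 892) i)) (Nat.ble (nat_lit 888) i)) (Nat.ble (nat_lit 880) i))

def rowBlk_n0_28 (i : ℕ) : ℕ := (@Bool.rec (fun _ => ℕ) (@Bool.rec (fun _ => ℕ) (@Bool.rec (fun _ => ℕ) (@Bool.rec (fun _ => ℕ) (@Bool.rec (fun _ => ℕ) rb896 rb897 (Nat.ble (nat_lit 897) i)) (@Bool.rec (fun _ => ℕ) rb898 rb899 (Nat.ble (nat_lit 899) i)) (Nat.ble (nat_lit 898) i)) (@Bool.rec (fun _ => ℕ) (@Bool.rec (fun _ => ℕ) rb900 rb901 (Nat.ble (nat_lit 901) i)) (@Bool.rec (fun _ => ℕ) rb902 rb903 (Nat.ble (nat_lit 903) i)) (Nat.ble (nat_lit 902) i)) (Nat.ble (nat_lit 900) i)) (@Bool.rec (fun _ => ℕ) (@Bool.rec (fun _ => ℕ) (@Bool.rec (fun _ => ℕ) rb904 rb905 (Nat.ble (nat_lit 905) i)) (@Bool.rec (fun _ => ℕ) rb906 rb907 (Nat.ble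 (nat_lit 907) i)) (Nat.ble (nat_lit 906) i)) (@Bool.rec (fun _ => ℕ) (@Bool.rec (fun _ => ℕ) rb908 rb909 (Nat.ble (nat_lit 909) i)) (@Bool.rec (fun _ => ℕ) rb910 rb911 (Nat.ble (nat_lit 911) i)) (Nat.ble (nat_lit 910) i)) (Nat.ble (nat_lit 908) i)) (Nat.ble (nat_lit 904) i)) (@Bool.rec (fun _ => ℕ) (@Bool.rec (fun _ => ℕ) (@Bool.rec (fun _ => ℕ) (@Bool.rec (fun _ => ℕ) rb912 rb913 (Nat.ble (nat_lit 913) i)) (@Bool.rec (fun _ => ℕ) rb914 rb915 (Nat.ble (nat_lit 915) i)) (Nat.ble (nat_lit 914) i)) (@Bool.rec (fun _ => ℕ) (@Bool.rec (fun _ => ℕ) rb916 rb917 (Nat.ble (nat_lit 917) i)) (@Bool.rec (fun _ => ℕ) rb918 rb919 (Nat.ble (nat_lit 919) i)) (Nat.ble (nat_lit 918) i)) (Nat.ble (nat_lit 916) i)) (@Bool.rec (fun _ => ℕ) (@Bool.rec (fun _ => ℕ) (@Bool.rec (fun _ => ℕ) rb920 rb921 (Nat.ble (nat_lit 921) i))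 (@Bool.rec (fun _ => ℕ) rb922 rb923 (Nat.ble (nat_lit 923) i)) (Nat.ble (nat_lit 922) i)) (@Bool.rec (fun _ => ℕ) (@Bool.rec (fun _ => ℕ) rb924 rb925 (Nat.ble (nat_lit 925) i)) (@Bool.rec (fun _ => ℕ) rb926 rb927 (Nat.ble (nat_lit 927) i)) (Nat.ble (nat_lit 926) i)) (Nat.ble (nat_lit 924) i)) (Nat.ble (nat_lit 920) i)) (Nat.ble (nat_lit 912) i))

def rowBlk_n0_29 (i : ℕ) : ℕ := (@Bool.rec (fun _ => ℕ) (@Bool.rec (fun _ => ℕ) (@Bool.rec (fun _ => ℕ) (@Bool.rec (fun _ => ℕ) (@Bool.rec (fun _ => ℕ) rb928 rb929 (Nat.ble (nat_lit 929) i)) (@Bool.rec (fun _ => ℕ) rb930 rb931 (Nat.ble (nat_lit 931) i)) (Nat.ble (nat_lit 930) i)) (@Bool.rec (fun _ => ℕ) (@Bool.rec (fun _ => ℕ) rb932 rb933 (Nat.ble (nat_lit 933) i)) (@Bool.rec (fun _ => ℕ) rb934 rb935 (Nat.ble (nat_lit 935) i)) (Nat.ble (nat_lit 934) i)) (Nat.ble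 (nat_lit 932) i)) (@Bool.rec (fun _ => ℕ) (@Bool.rec (fun _ => ℕ) (@Bool.rec (fun _ => ℕ) rb936 rb937 (Nat.ble (nat_lit 937) i)) (@Bool.rec (fun _ => ℕ) rb938 rb939 (Nat.ble (nat_lit 939) i)) (Nat.ble (nat_lit 938) i)) (@Bool.rec (fun _ => ℕ) (@Bool.rec (fun _ => ℕ) rb940 rb941 (Nat.ble (nat_lit 941) i)) (@Bool.rec (fun _ => ℕ) rb942 rb943 (Nat.ble (nat_lit 943) i)) (Nat.ble (nat_lit 942) i)) (Nat.ble (nat_lit 940) i)) (Nat.ble (nat_lit 936) i)) (@Bool.rec (fun _ => ℕ) (@Bool.rec (fun _ => ℕ) (@Bool.rec (fun _ => ℕ) (@Bool.rec (fun _ => ℕ) rb944 rb945 (Nat.ble (nat_lit 945) i)) (@Bool.rec (fun _ => ℕ) rb946 rb947 (Nat.ble (nat_lit 947) i)) (Nat.ble (nat_lit 946) i)) (@Bool.rec (fun _ => ℕ) (@Bool.rec (fun _ => ℕ) rb948 rb949 (Nat.ble (nat_lit 949) i)) (@Bool.rec (fun _ => ℕ) rb950 rb951 (Nat.ble (nat_lit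 951) i)) (Nat.ble (nat_lit 950) i)) (Nat.ble (nat_lit 948) i)) (@Bool.rec (fun _ => ℕ) (@Bool.rec (fun _ => ℕ) (@Bool.rec (fun _ => ℕ) rb952 rb953 (Nat.ble (nat_lit 953) i)) (@Bool.rec (fun _ => ℕ) rb954 rb955 (Nat.ble (nat_lit 955) i)) (Nat.ble (nat_lit 954) i)) (@Bool.rec (fun _ => ℕ) (@Bool.rec (fun _ => ℕ) rb956 rb957 (Nat.ble (nat_lit 957) i)) (@Bool.rec (fun _ => ℕ) rb958 rb959 (Nat.ble (nat_lit 959) i)) (Nat.ble (nat_lit 958) i)) (Nat.ble (nat_lit 956) i)) (Nat.ble (nat_lit 952) i)) (Nat.ble (nat_lit 944) i))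

def rowBlk_n0_30 (i : ℕ) : ℕ := (@Bool.rec (fun _ => ℕ) (@Bool.rec (fun _ => ℕ) (@Bool.rec (fun _ => ℕ) (@Bool.rec (fun _ => ℕ) (@Bool.rec (fun _ => ℕ) rb960 rb961 (Nat.ble (nat_lit 961) i)) (@Bool.rec (fun _ => ℕ) rb962 rb963 (Nat.ble (nat_lit 963) i)) (Nat.ble (nat_lit 962) i)) (@Bool.rec (fun _ => ℕ) (@Bool.rec (fun _ => ℕ) rb964 rb965 (Nat.ble (nat_lit 965) i)) (@Bool.rec (fun _ => ℕ) rb966 rb967 (Nat.ble (nat_lit 967) i)) (Nat.ble (nat_lit 966) i)) (Nat.ble (nat_lit 964) i)) (@Bool.rec (fun _ => ℕ) (@Bool.rec (fun _ => ℕ) (@Bool.rec (fun _ => ℕ) rb968 rb969 (Nat.ble (nat_lit 969) i)) (@Bool.rec (fun _ => ℕ) rb970 rb971 (Nat.ble (nat_lit 971) i)) (Nat.ble (nat_lit 970) i)) (@Bool.rec (fun _ => ℕ) (@Bool.rec (fun _ => ℕ) rb972 rb973 (Nat.ble (nat_lit 973) i)) (@Bool.rec (fun _ => ℕ) rb974 rb975 (Nat.ble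 (nat_lit 975) i)) (Nat.ble (nat_lit 974) i)) (Nat.ble (nat_lit 972) i)) (Nat.ble (nat_lit 968) i)) (@Bool.rec (fun _ => ℕ) (@Bool.rec (fun _ => ℕ) (@Bool.rec (fun _ => ℕ) (@Bool.rec (fun _ => ℕ) rb976 rb977 (Nat.ble (nat_lit 977) i)) (@Bool.rec (fun _ => ℕ) rb978 rb979 (Nat.ble (nat_lit 979) i)) (Nat.ble (nat_lit 978) i)) (@Bool.rec (fun _ => ℕ) (@Bool.rec (fun _ => ℕ) rb980 rb981 (Nat.ble (nat_lit 981) i)) (@Bool.rec (fun _ => ℕ) rb982 rb983 (Nat.ble (nat_lit 983) i)) (Nat.ble (nat_lit 982) i)) (Nat.ble (nat_lit 980) i)) (@Bool.rec (fun _ => ℕ) (@Bool.rec (fun _ => ℕ) (@Bool.rec (fun _ => ℕ) rb984 rb985 (Nat.ble (nat_lit 985) i)) (@Bool.rec (fun _ => ℕ) rb986 rb987 (Nat.ble (nat_lit 987) i)) (Nat.ble (nat_lit 986) i)) (@Bool.rec (fun _ => ℕ) (@Bool.rec (fun _ => ℕ) rb988 rb989 (Nat.ble (nat_lit 989) i))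 (@Bool.rec (fun _ => ℕ) rb990 rb991 (Nat.ble (nat_lit 991) i)) (Nat.ble (nat_lit 990) i)) (Nat.ble (nat_lit 988) i)) (Nat.ble (nat_lit 984) i)) (Nat.ble (nat_lit 976) i))

def rowBlk_n0_31 (i : ℕ) : ℕ := (@Bool.rec (fun _ => ℕ) (@Bool.rec (fun _ => ℕ) (@Bool.rec (fun _ => ℕ) (@Bool.rec (fun _ => ℕ) (@Bool.rec (fun _ => ℕ) rb992 rb993 (Nat.ble (nat_lit 993) i)) (@Bool.rec (fun _ => ℕ) rb994 rb995 (Nat.ble (nat_lit 995) i)) (Nat.ble (nat_lit 994) i)) (@Bool.rec (fun _ => ℕ) (@Bool.rec (fun _ => ℕ) rb996 rb997 (Nat.ble (nat_lit 997) i)) (@Bool.rec (fun _ => ℕ) rb998 rb999 (Nat.ble (nat_lit 999) i)) (Nat.ble (nat_lit 998) i)) (Nat.ble (nat_lit 996) i)) (@Bool.rec (fun _ => ℕ) (@Bool.rec (fun _ => ℕ) (@Bool.rec (fun _ => ℕ) rb1000 rb1001 (Nat.ble (nat_lit 1001) i)) (@Bool.rec (fun _ => ℕ) rb1002 rb1003 (Nat.ble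 (nat_lit 1003) i)) (Nat.ble (nat_lit 1002) i)) (@Bool.rec (fun _ => ℕ) (@Bool.rec (fun _ => ℕ) rb1004 rb1005 (Nat.ble (nat_lit 1005) i)) (@Bool.rec (fun _ => ℕ) rb1006 rb1007 (Nat.ble (nat_lit 1007) i)) (Nat.ble (nat_lit 1006) i)) (Nat.ble (nat_lit 1004) i)) (Nat.ble (nat_lit 1000) i)) (@Bool.rec (fun _ => ℕ) (@Bool.rec (fun _ => ℕ) (@Bool.rec (fun _ => ℕ) (@Bool.rec (fun _ => ℕ) rb1008 rb1009 (Nat.ble (nat_lit 1009) i)) (@Bool.rec (fun _ => ℕ) rb1010 rb1011 (Nat.ble (nat_lit 1011) i)) (Nat.ble (nat_lit 1010) i)) (@Bool.rec (fun _ => ℕ) (@Bool.rec (fun _ => ℕ) rb1012 rb1013 (Nat.ble (nat_lit 1013) i)) (@Bool.rec (fun _ => ℕ) rb1014 rb1015 (Nat.ble (nat_lit 1015) i)) (Nat.ble (nat_lit 1014) i)) (Nat.ble (nat_lit 1012) i)) (@Bool.rec (fun _ => ℕ) (@Bool.rec (fun _ => ℕ) (@Bool.rec (fun _ => ℕ) rb1016 rb1017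 (Nat.ble (nat_lit 1017) i)) (@Bool.rec (fun _ => ℕ) rb1018 rb1019 (Nat.ble (nat_lit 1019) i)) (Nat.ble (nat_lit 1018) i)) (@Bool.rec (fun _ => ℕ) (@Bool.rec (fun _ => ℕ) rb1020 rb1021 (Nat.ble (nat_lit 1021) i)) (@Bool.rec (fun _ => ℕ) rb1022 rb1023 (Nat.ble (nat_lit 1023) i)) (Nat.ble (nat_lit 1022) i)) (Nat.ble (nat_lit 1020) i)) (Nat.ble (nat_lit 1016) i)) (Nat.ble (nat_lit 1008) i))

def rowBlk_n0_32 (i : ℕ) : ℕ := (@Bool.rec (fun _ => ℕ) (@Bool.rec (fun _ => ℕ) (@Bool.rec (fun _ => ℕ) (@Bool.rec (fun _ => ℕ) (@Bool.rec (fun _ => ℕ) rb1024 rb1025 (Nat.ble (nat_lit 1025) i)) (@Bool.rec (fun _ => ℕ) rb1026 rb1027 (Nat.ble (nat_lit 1027) i)) (Nat.ble (nat_lit 1026) i)) (@Bool.rec (fun _ => ℕ) (@Bool.rec (fun _ => ℕ) rb1028 rb1029 (Nat.ble (nat_lit 1029) i)) (@Bool.rec (fun _ => ℕ) rb1030 rb1031 (Nat.ble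 (nat_lit 1031) i)) (Nat.ble (nat_lit 1030) i)) (Nat.ble (nat_lit 1028) i)) (@Bool.rec (fun _ => ℕ) (@Bool.rec (fun _ => ℕ) (@Bool.rec (fun _ => ℕ) rb1032 rb1033 (Nat.ble (nat_lit 1033) i)) (@Bool.rec (fun _ => ℕ) rb1034 rb1035 (Nat.ble (nat_lit 1035) i)) (Nat.ble (nat_lit 1034) i)) (@Bool.rec (fun _ => ℕ) (@Bool.rec (fun _ => ℕ) rb1036 rb1037 (Nat.ble (nat_lit 1037) i)) (@Bool.rec (fun _ => ℕ) rb1038 rb1039 (Nat.ble (nat_lit 1039) i)) (Nat.ble (nat_lit 1038) i)) (Nat.ble (nat_lit 1036) i)) (Nat.ble (nat_lit 1032) i)) (@Bool.rec (fun _ => ℕ) (@Bool.rec (fun _ => ℕ) (@Bool.rec (fun _ => ℕ) (@Bool.rec (fun _ => ℕ) rb1040 rb1041 (Nat.ble (nat_lit 1041) i)) (@Bool.rec (fun _ => ℕ) rb1042 rb1043 (Nat.ble (nat_lit 1043) i)) (Nat.ble (nat_lit 1042) i)) (@Bool.rec (fun _ => ℕ) (@Bool.rec (fun _ => ℕ) rb1044 rb1045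 (Nat.ble (nat_lit 1045) i)) (@Bool.rec (fun _ => ℕ) rb1046 rb1047 (Nat.ble (nat_lit 1047) i)) (Nat.ble (nat_lit 1046) i)) (Nat.ble (nat_lit 1044) i)) (@Bool.rec (fun _ => ℕ) (@Bool.rec (fun _ => ℕ) (@Bool.rec (fun _ => ℕ) rb1048 rb1049 (Nat.ble (nat_lit 1049) i)) (@Bool.rec (fun _ => ℕ) rb1050 rb1051 (Nat.ble (nat_lit 1051) i)) (Nat.ble (nat_lit 1050) i)) (@Bool.rec (fun _ => ℕ) (@Bool.rec (fun _ => ℕ) rb1052 rb1053 (Nat.ble (nat_lit 1053) i)) (@Bool.rec (fun _ => ℕ) rb1054 rb1055 (Nat.ble (nat_lit 1055) i)) (Nat.ble (nat_lit 1054) i)) (Nat.ble (nat_lit 1052) i)) (Nat.ble (nat_lit 1048) i)) (Nat.ble (nat_lit 1040) i))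

def rowBlk_n0_33 (i : ℕ) : ℕ := (@Bool.rec (fun _ => ℕ) (@Bool.rec (fun _ => ℕ) (@Bool.rec (fun _ => ℕ) (@Bool.rec (fun _ => ℕ) (@Bool.rec (fun _ => ℕ) rb1056 rb1057 (Nat.ble (nat_lit 1057) i)) (@Bool.rec (fun _ => ℕ) rb1058 rb1059 (Nat.ble (nat_lit 1059) i)) (Nat.ble (nat_lit 1058) i)) (@Bool.rec (fun _ => ℕ) (@Bool.rec (fun _ => ℕ) rb1060 rb1061 (Nat.ble (nat_lit 1061) i)) (@Bool.rec (fun _ => ℕ) rb1062 rb1063 (Nat.ble (nat_lit 1063) i)) (Nat.ble (nat_lit 1062) i)) (Nat.ble (nat_lit 1060) i)) (@Bool.rec (fun _ => ℕ) (@Bool.rec (fun _ => ℕ) (@Bool.rec (fun _ => ℕ) rb1064 rb1065 (Nat.ble (nat_lit 1065) i)) (@Bool.rec (fun _ => ℕ) rb1066 rb1067 (Nat.ble (nat_lit 1067) i)) (Nat.ble (nat_lit 1066) i)) (@Bool.rec (fun _ => ℕ) (@Bool.rec (fun _ => ℕ) rb1068 rb1069 (Nat.ble (nat_lit 1069) i)) (@Bool.rec (fun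 _ => ℕ) rb1070 rb1071 (Nat.ble (nat_lit 1071) i)) (Nat.ble (nat_lit 1070) i)) (Nat.ble (nat_lit 1068) i)) (Nat.ble (nat_lit 1064) i)) (@Bool.rec (fun _ => ℕ) (@Bool.rec (fun _ => ℕ) (@Bool.rec (fun _ => ℕ) (@Bool.rec (fun _ => ℕ) rb1072 rb1073 (Nat.ble (nat_lit 1073) i)) (@Bool.rec (fun _ => ℕ) rb1074 rb1075 (Nat.ble (nat_lit 1075) i)) (Nat.ble (nat_lit 1074) i)) (@Bool.rec (fun _ => ℕ) (@Bool.rec (fun _ => ℕ) rb1076 rb1077 (Nat.ble (nat_lit 1077) i)) (@Bool.rec (fun _ => ℕ) rb1078 rb1079 (Nat.ble (nat_lit 1079) i)) (Nat.ble (nat_lit 1078) i)) (Nat.ble (nat_lit 1076) i)) (@Bool.rec (fun _ => ℕ) (@Bool.rec (fun _ => ℕ) (@Bool.rec (fun _ => ℕ) rb1080 rb1081 (Nat.ble (nat_lit 1081) i)) (@Bool.rec (fun _ => ℕ) rb1082 rb1083 (Nat.ble (nat_lit 1083) i)) (Nat.ble (nat_lit 1082) i)) (@Bool.rec (fun _ => ℕ) (@Bool.rec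 (fun _ => ℕ) rb1084 rb1085 (Nat.ble (nat_lit 1085) i)) (@Bool.rec (fun _ => ℕ) rb1086 rb1087 (Nat.ble (nat_lit 1087) i)) (Nat.ble (nat_lit 1086) i)) (Nat.ble (nat_lit 1084) i)) (Nat.ble (nat_lit 1080) i)) (Nat.ble (nat_lit 1072) i))

def rowBlk_n0_34 (i : ℕ) : ℕ := (@Bool.rec (fun _ => ℕ) (@Bool.rec (fun _ => ℕ) (@Bool.rec (fun _ => ℕ) (@Bool.rec (fun _ => ℕ) (@Bool.rec (fun _ => ℕ) rb1088 rb1089 (Nat.ble (nat_lit 1089) i)) (@Bool.rec (fun _ => ℕ) rb1090 rb1091 (Nat.ble (nat_lit 1091) i)) (Nat.ble (nat_lit 1090) i)) (@Bool.rec (fun _ => ℕ) (@Bool.rec (fun _ => ℕ) rb1092 rb1093 (Nat.ble (nat_lit 1093) i)) (@Bool.rec (fun _ => ℕ) rb1094 rb1095 (Nat.ble (nat_lit 1095) i)) (Nat.ble (nat_lit 1094) i)) (Nat.ble (nat_lit 1092) i)) (@Bool.rec (fun _ => ℕ) (@Bool.rec (fun _ => ℕ) (@Bool.rec (fun _ => ℕ) rb1096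 rb1097 (Nat.ble (nat_lit 1097) i)) (@Bool.rec (fun _ => ℕ) rb1098 rb1099 (Nat.ble (nat_lit 1099) i)) (Nat.ble (nat_lit 1098) i)) (@Bool.rec (fun _ => ℕ) (@Bool.rec (fun _ => ℕ) rb1100 rb1101 (Nat.ble (nat_lit 1101) i)) (@Bool.rec (fun _ => ℕ) rb1102 rb1103 (Nat.ble (nat_lit 1103) i)) (Nat.ble (nat_lit 1102) i)) (Nat.ble (nat_lit 1100) i)) (Nat.ble (nat_lit 1096) i)) (@Bool.rec (fun _ => ℕ) (@Bool.rec (fun _ => ℕ) (@Bool.rec (fun _ => ℕ) (@Bool.rec (fun _ => ℕ) rb1104 rb1105 (Nat.ble (nat_lit 1105) i)) (@Bool.rec (fun _ => ℕ) rb1106 rb1107 (Nat.ble (nat_lit 1107) i)) (Nat.ble (nat_lit 1106) i)) (@Bool.rec (fun _ => ℕ) (@Bool.rec (fun _ => ℕ) rb1108 rb1109 (Nat.ble (nat_lit 1109) i)) (@Bool.rec (fun _ => ℕ) rb1110 rb1111 (Nat.ble (nat_lit 1111) i)) (Nat.ble (nat_lit 1110) i)) (Nat.ble (nat_lit 1108) i))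 (@Bool.rec (fun _ => ℕ) (@Bool.rec (fun _ => ℕ) (@Bool.rec (fun _ => ℕ) rb1112 rb1113 (Nat.ble (nat_lit 1113) i)) (@Bool.rec (fun _ => ℕ) rb1114 rb1115 (Nat.ble (nat_lit 1115) i)) (Nat.ble (nat_lit 1114) i)) (@Bool.rec (fun _ => ℕ) (@Bool.rec (fun _ => ℕ) rb1116 rb1117 (Nat.ble (nat_lit 1117) i)) (@Bool.rec (fun _ => ℕ) rb1118 rb1119 (Nat.ble (nat_lit 1119) i)) (Nat.ble (nat_lit 1118) i)) (Nat.ble (nat_lit 1116) i)) (Nat.ble (nat_lit 1112) i)) (Nat.ble (nat_lit 1104) i))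

def rowBlk_n0_35 (i : ℕ) : ℕ := (@Bool.rec (fun _ => ℕ) (@Bool.rec (fun _ => ℕ) (@Bool.rec (fun _ => ℕ) (@Bool.rec (fun _ => ℕ) (@Bool.rec (fun _ => ℕ) rb1120 rb1121 (Nat.ble (nat_lit 1121) i)) (@Bool.rec (fun _ => ℕ) rb1122 rb1123 (Nat.ble (nat_lit 1123) i)) (Nat.ble (nat_lit 1122) i)) (@Bool.rec (fun _ => ℕ) (@Bool.rec (fun _ => ℕ) rb1124 rb1125 (Nat.ble (nat_lit 1125) i)) (@Bool.rec (fun _ => ℕ) rb1126 rb1127 (Nat.ble (nat_lit 1127) i)) (Nat.ble (nat_lit 1126) i)) (Nat.ble (nat_lit 1124) i)) (@Bool.rec (fun _ => ℕ) (@Bool.rec (fun _ => ℕ) (@Bool.rec (fun _ => ℕ) rb1128 rb1129 (Nat.ble (nat_lit 1129) i)) (@Bool.rec (fun _ => ℕ) rb1130 rb1131 (Nat.ble (nat_lit 1131) i)) (Nat.ble (nat_lit 1130) i)) (@Bool.rec (fun _ => ℕ) (@Bool.rec (fun _ => ℕ) rb1132 rb1133 (Nat.ble (nat_lit 1133) i)) (@Bool.rec (fun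 _ => ℕ) rb1134 rb1135 (Nat.ble (nat_lit 1135) i)) (Nat.ble (nat_lit 1134) i)) (Nat.ble (nat_lit 1132) i)) (Nat.ble (nat_lit 1128) i)) (@Bool.rec (fun _ => ℕ) (@Bool.rec (fun _ => ℕ) (@Bool.rec (fun _ => ℕ) (@Bool.rec (fun _ => ℕ) rb1136 rb1137 (Nat.ble (nat_lit 1137) i)) (@Bool.rec (fun _ => ℕ) rb1138 rb1139 (Nat.ble (nat_lit 1139) i)) (Nat.ble (nat_lit 1138) i)) (@Bool.rec (fun _ => ℕ) (@Bool.rec (fun _ => ℕ) rb1140 rb1141 (Nat.ble (nat_lit 1141) i)) (@Bool.rec (fun _ => ℕ) rb1142 rb1143 (Nat.ble (nat_lit 1143) i)) (Nat.ble (nat_lit 1142) i)) (Nat.ble (nat_lit 1140) i)) (@Bool.rec (fun _ => ℕ) (@Bool.rec (fun _ => ℕ) (@Bool.rec (fun _ => ℕ) rb1144 rb1145 (Nat.ble (nat_lit 1145) i)) (@Bool.rec (fun _ => ℕ) rb1146 rb1147 (Nat.ble (nat_lit 1147) i)) (Nat.ble (nat_lit 1146) i)) (@Bool.rec (fun _ => ℕ) (@Bool.rec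 (fun _ => ℕ) rb1148 rb1149 (Nat.ble (nat_lit 1149) i)) (@Bool.rec (fun _ => ℕ) rb1150 rb1151 (Nat.ble (nat_lit 1151) i)) (Nat.ble (nat_lit 1150) i)) (Nat.ble (nat_lit 1148) i)) (Nat.ble (nat_lit 1144) i)) (Nat.ble (nat_lit 1136) i))

def rowBlk_n0_36 (i : ℕ) : ℕ := (@Bool.rec (fun _ => ℕ) (@Bool.rec (fun _ => ℕ) (@Bool.rec (fun _ => ℕ) (@Bool.rec (fun _ => ℕ) (@Bool.rec (fun _ => ℕ) rb1152 rb1153 (Nat.ble (nat_lit 1153) i)) (@Bool.rec (fun _ => ℕ) rb1154 rb1155 (Nat.ble (nat_lit 1155) i)) (Nat.ble (nat_lit 1154) i)) (@Bool.rec (fun _ => ℕ) (@Bool.rec (fun _ => ℕ) rb1156 rb1157 (Nat.ble (nat_lit 1157) i)) (@Bool.rec (fun _ => ℕ) rb1158 rb1159 (Nat.ble (nat_lit 1159) i)) (Nat.ble (nat_lit 1158) i)) (Nat.ble (nat_lit 1156) i)) (@Bool.rec (fun _ => ℕ) (@Bool.rec (fun _ => ℕ) (@Bool.rec (fun _ => ℕ) rb1160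 rb1161 (Nat.ble (nat_lit 1161) i)) (@Bool.rec (fun _ => ℕ) rb1162 rb1163 (Nat.ble (nat_lit 1163) i)) (Nat.ble (nat_lit 1162) i)) (@Bool.rec (fun _ => ℕ) (@Bool.rec (fun _ => ℕ) rb1164 rb1165 (Nat.ble (nat_lit 1165) i)) (@Bool.rec (fun _ => ℕ) rb1166 rb1167 (Nat.ble (nat_lit 1167) i)) (Nat.ble (nat_lit 1166) i)) (Nat.ble (nat_lit 1164) i)) (Nat.ble (nat_lit 1160) i)) (@Bool.rec (fun _ => ℕ) (@Bool.rec (fun _ => ℕ) (@Bool.rec (fun _ => ℕ) (@Bool.rec (fun _ => ℕ) rb1168 rb1169 (Nat.ble (nat_lit 1169) i)) (@Bool.rec (fun _ => ℕ) rb1170 rb1171 (Nat.ble (nat_lit 1171) i)) (Nat.ble (nat_lit 1170) i)) (@Bool.rec (fun _ => ℕ) (@Bool.rec (fun _ => ℕ) rb1172 rb1173 (Nat.ble (nat_lit 1173) i)) (@Bool.rec (fun _ => ℕ) rb1174 rb1175 (Nat.ble (nat_lit 1175) i)) (Nat.ble (nat_lit 1174) i)) (Nat.ble (nat_lit 1172) i))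 (@Bool.rec (fun _ => ℕ) (@Bool.rec (fun _ => ℕ) (@Bool.rec (fun _ => ℕ) rb1176 rb1177 (Nat.ble (nat_lit 1177) i)) (@Bool.rec (fun _ => ℕ) rb1178 rb1179 (Nat.ble (nat_lit 1179) i)) (Nat.ble (nat_lit 1178) i)) (@Bool.rec (fun _ => ℕ) (@Bool.rec (fun _ => ℕ) rb1180 rb1181 (Nat.ble (nat_lit 1181) i)) (@Bool.rec (fun _ => ℕ) rb1182 rb1183 (Nat.ble (nat_lit 1183) i)) (Nat.ble (nat_lit 1182) i)) (Nat.ble (nat_lit 1180) i)) (Nat.ble (nat_lit 1176) i)) (Nat.ble (nat_lit 1168) i))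

def rowBlk_n0_37 (i : ℕ) : ℕ := (@Bool.rec (fun _ => ℕ) (@Bool.rec (fun _ => ℕ) (@Bool.rec (fun _ => ℕ) (@Bool.rec (fun _ => ℕ) (@Bool.rec (fun _ => ℕ) rb1184 rb1185 (Nat.ble (nat_lit 1185) i)) (@Bool.rec (fun _ => ℕ) rb1186 rb1187 (Nat.ble (nat_lit 1187) i)) (Nat.ble (nat_lit 1186) i)) (@Bool.rec (fun _ => ℕ) (@Bool.rec (fun _ => ℕ) rb1188 rb1189 (Nat.ble (nat_lit 1189) i)) (@Bool.rec (fun _ => ℕ) rb1190 rb1191 (Nat.ble (nat_lit 1191) i)) (Nat.ble (nat_lit 1190) i)) (Nat.ble (nat_lit 1188) i)) (@Bool.rec (fun _ => ℕ) (@Bool.rec (fun _ => ℕ) (@Bool.rec (fun _ => ℕ) rb1192 rb1193 (Nat.ble (nat_lit 1193) i)) (@Bool.rec (fun _ => ℕ) rb1194 rb1195 (Nat.ble (nat_lit 1195) i)) (Nat.ble (nat_lit 1194) i)) (@Bool.rec (fun _ => ℕ) (@Bool.rec (fun _ => ℕ) rb1196 rb1197 (Nat.ble (nat_lit 1197) i)) (@Bool.rec (fun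 _ => ℕ) rb1198 rb1199 (Nat.ble (nat_lit 1199) i)) (Nat.ble (nat_lit 1198) i)) (Nat.ble (nat_lit 1196) i)) (Nat.ble (nat_lit 1192) i)) (@Bool.rec (fun _ => ℕ) (@Bool.rec (fun _ => ℕ) (@Bool.rec (fun _ => ℕ) (@Bool.rec (fun _ => ℕ) rb1200 rb1201 (Nat.ble (nat_lit 1201) i)) (@Bool.rec (fun _ => ℕ) rb1202 rb1203 (Nat.ble (nat_lit 1203) i)) (Nat.ble (nat_lit 1202) i)) (@Bool.rec (fun _ => ℕ) (@Bool.rec (fun _ => ℕ) rb1204 rb1205 (Nat.ble (nat_lit 1205) i)) (@Bool.rec (fun _ => ℕ) rb1206 rb1207 (Nat.ble (nat_lit 1207) i)) (Nat.ble (nat_lit 1206) i)) (Nat.ble (nat_lit 1204) i)) (@Bool.rec (fun _ => ℕ) (@Bool.rec (fun _ => ℕ) (@Bool.rec (fun _ => ℕ) rb1208 rb1209 (Nat.ble (nat_lit 1209) i)) (@Bool.rec (fun _ => ℕ) rb1210 rb1211 (Nat.ble (nat_lit 1211) i)) (Nat.ble (nat_lit 1210) i)) (@Bool.rec (fun _ => ℕ) (@Bool.rec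 (fun _ => ℕ) rb1212 rb1213 (Nat.ble (nat_lit 1213) i)) (@Bool.rec (fun _ => ℕ) rb1214 rb1215 (Nat.ble (nat_lit 1215) i)) (Nat.ble (nat_lit 1214) i)) (Nat.ble (nat_lit 1212) i)) (Nat.ble (nat_lit 1208) i)) (Nat.ble (nat_lit 1200) i))

def rowBlk_n0_38 (i : ℕ) : ℕ := (@Bool.rec (fun _ => ℕ) (@Bool.rec (fun _ => ℕ) (@Bool.rec (fun _ => ℕ) (@Bool.rec (fun _ => ℕ) (@Bool.rec (fun _ => ℕ) rb1216 rb1217 (Nat.ble (nat_lit 1217) i)) (@Bool.rec (fun _ => ℕ) rb1218 rb1219 (Nat.ble (nat_lit 1219) i)) (Nat.ble (nat_lit 1218) i)) (@Bool.rec (fun _ => ℕ) (@Bool.rec (fun _ => ℕ) rb1220 rb1221 (Nat.ble (nat_lit 1221) i)) (@Bool.rec (fun _ => ℕ) rb1222 rb1223 (Nat.ble (nat_lit 1223) i)) (Nat.ble (nat_lit 1222) i)) (Nat.ble (nat_lit 1220) i)) (@Bool.rec (fun _ => ℕ) (@Bool.rec (fun _ => ℕ) (@Bool.rec (fun _ => ℕ) rb1224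 rb1225 (Nat.ble (nat_lit 1225) i)) (@Bool.rec (fun _ => ℕ) rb1226 rb1227 (Nat.ble (nat_lit 1227) i)) (Nat.ble (nat_lit 1226) i)) (@Bool.rec (fun _ => ℕ) (@Bool.rec (fun _ => ℕ) rb1228 rb1229 (Nat.ble (nat_lit 1229) i)) (@Bool.rec (fun _ => ℕ) rb1230 rb1231 (Nat.ble (nat_lit 1231) i)) (Nat.ble (nat_lit 1230) i)) (Nat.ble (nat_lit 1228) i)) (Nat.ble (nat_lit 1224) i)) (@Bool.rec (fun _ => ℕ) (@Bool.rec (fun _ => ℕ) (@Bool.rec (fun _ => ℕ) (@Bool.rec (fun _ => ℕ) rb1232 rb1233 (Nat.ble (nat_lit 1233) i)) (@Bool.rec (fun _ => ℕ) rb1234 rb1235 (Nat.ble (nat_lit 1235) i)) (Nat.ble (nat_lit 1234) i)) (@Bool.rec (fun _ => ℕ) (@Bool.rec (fun _ => ℕ) rb1236 rb1237 (Nat.ble (nat_lit 1237) i)) (@Bool.rec (fun _ => ℕ) rb1238 rb1239 (Nat.ble (nat_lit 1239) i)) (Nat.ble (nat_lit 1238) i)) (Nat.ble (nat_lit 1236) i))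 (@Bool.rec (fun _ => ℕ) (@Bool.rec (fun _ => ℕ) (@Bool.rec (fun _ => ℕ) rb1240 rb1241 (Nat.ble (nat_lit 1241) i)) (@Bool.rec (fun _ => ℕ) rb1242 rb1243 (Nat.ble (nat_lit 1243) i)) (Nat.ble (nat_lit 1242) i)) (@Bool.rec (fun _ => ℕ) (@Bool.rec (fun _ => ℕ) rb1244 rb1245 (Nat.ble (nat_lit 1245) i)) (@Bool.rec (fun _ => ℕ) rb1246 rb1247 (Nat.ble (nat_lit 1247) i)) (Nat.ble (nat_lit 1246) i)) (Nat.ble (nat_lit 1244) i)) (Nat.ble (nat_lit 1240) i)) (Nat.ble (nat_lit 1232) i))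

def rowBlk_n0_39 (i : ℕ) : ℕ := (@Bool.rec (fun _ => ℕ) (@Bool.rec (fun _ => ℕ) (@Bool.rec (fun _ => ℕ) (@Bool.rec (fun _ => ℕ) (@Bool.rec (fun _ => ℕ) rb1248 rb1249 (Nat.ble (nat_lit 1249) i)) (@Bool.rec (fun _ => ℕ) rb1250 rb1251 (Nat.ble (nat_lit 1251) i)) (Nat.ble (nat_lit 1250) i)) (@Bool.rec (fun _ => ℕ) (@Bool.rec (fun _ => ℕ) rb1252 rb1253 (Nat.ble (nat_lit 1253) i)) (@Bool.rec (fun _ => ℕ) rb1254 rb1255 (Nat.ble (nat_lit 1255) i)) (Nat.ble (nat_lit 1254) i)) (Nat.ble (nat_lit 1252) i)) (@Bool.rec (fun _ => ℕ) (@Bool.rec (fun _ => ℕ) (@Bool.rec (fun _ => ℕ) rb1256 rb1257 (Nat.ble (nat_lit 1257) i)) (@Bool.rec (fun _ => ℕ) rb1258 rb1259 (Nat.ble (nat_lit 1259) i)) (Nat.ble (nat_lit 1258) i)) (@Bool.rec (fun _ => ℕ) (@Bool.rec (fun _ => ℕ) rb1260 rb1261 (Nat.ble (nat_lit 1261) i)) (@Bool.rec (fun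 _ => ℕ) rb1262 rb1263 (Nat.ble (nat_lit 1263) i)) (Nat.ble (nat_lit 1262) i)) (Nat.ble (nat_lit 1260) i)) (Nat.ble (nat_lit 1256) i)) (@Bool.rec (fun _ => ℕ) (@Bool.rec (fun _ => ℕ) (@Bool.rec (fun _ => ℕ) (@Bool.rec (fun _ => ℕ) rb1264 rb1265 (Nat.ble (nat_lit 1265) i)) (@Bool.rec (fun _ => ℕ) rb1266 rb1267 (Nat.ble (nat_lit 1267) i)) (Nat.ble (nat_lit 1266) i)) (@Bool.rec (fun _ => ℕ) (@Bool.rec (fun _ => ℕ) rb1268 rb1269 (Nat.ble (nat_lit 1269) i)) (@Bool.rec (fun _ => ℕ) rb1270 rb1271 (Nat.ble (nat_lit 1271) i)) (Nat.ble (nat_lit 1270) i)) (Nat.ble (nat_lit 1268) i)) (@Bool.rec (fun _ => ℕ) (@Bool.rec (fun _ => ℕ) (@Bool.rec (fun _ => ℕ) rb1272 rb1273 (Nat.ble (nat_lit 1273) i)) (@Bool.rec (fun _ => ℕ) rb1274 rb1275 (Nat.ble (nat_lit 1275) i)) (Nat.ble (nat_lit 1274) i)) (@Bool.rec (fun _ => ℕ) (@Bool.rec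 (fun _ => ℕ) rb1276 rb1277 (Nat.ble (nat_lit 1277) i)) (@Bool.rec (fun _ => ℕ) rb1278 rb1279 (Nat.ble (nat_lit 1279) i)) (Nat.ble (nat_lit 1278) i)) (Nat.ble (nat_lit 1276) i)) (Nat.ble (nat_lit 1272) i)) (Nat.ble (nat_lit 1264) i))

def rowBlk_n0_40 (i : ℕ) : ℕ := (@Bool.rec (fun _ => ℕ) (@Bool.rec (fun _ => ℕ) (@Bool.rec (fun _ => ℕ) (@Bool.rec (fun _ => ℕ) (@Bool.rec (fun _ => ℕ) rb1280 rb1281 (Nat.ble (nat_lit 1281) i)) (@Bool.rec (fun _ => ℕ) rb1282 rb1283 (Nat.ble (nat_lit 1283) i)) (Nat.ble (nat_lit 1282) i)) (@Bool.rec (fun _ => ℕ) (@Bool.rec (fun _ => ℕ) rb1284 rb1285 (Nat.ble (nat_lit 1285) i)) (@Bool.rec (fun _ => ℕ) rb1286 rb1287 (Nat.ble (nat_lit 1287) i)) (Nat.ble (nat_lit 1286) i)) (Nat.ble (nat_lit 1284) i)) (@Bool.rec (fun _ => ℕ) (@Bool.rec (fun _ => ℕ) (@Bool.rec (fun _ => ℕ) rb1288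 rb1289 (Nat.ble (nat_lit 1289) i)) (@Bool.rec (fun _ => ℕ) rb1290 rb1291 (Nat.ble (nat_lit 1291) i)) (Nat.ble (nat_lit 1290) i)) (@Bool.rec (fun _ => ℕ) (@Bool.rec (fun _ => ℕ) rb1292 rb1293 (Nat.ble (nat_lit 1293) i)) (@Bool.rec (fun _ => ℕ) rb1294 rb1295 (Nat.ble (nat_lit 1295) i)) (Nat.ble (nat_lit 1294) i)) (Nat.ble (nat_lit 1292) i)) (Nat.ble (nat_lit 1288) i)) (@Bool.rec (fun _ => ℕ) (@Bool.rec (fun _ => ℕ) (@Bool.rec (fun _ => ℕ) (@Bool.rec (fun _ => ℕ) rb1296 rb1297 (Nat.ble (nat_lit 1297) i)) (@Bool.rec (fun _ => ℕ) rb1298 rb1299 (Nat.ble (nat_lit 1299) i)) (Nat.ble (nat_lit 1298) i)) (@Bool.rec (fun _ => ℕ) (@Bool.rec (fun _ => ℕ) rb1300 rb1301 (Nat.ble (nat_lit 1301) i)) (@Bool.rec (fun _ => ℕ) rb1302 rb1303 (Nat.ble (nat_lit 1303) i)) (Nat.ble (nat_lit 1302) i)) (Nat.ble (nat_lit 1300) i))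 (@Bool.rec (fun _ => ℕ) (@Bool.rec (fun _ => ℕ) (@Bool.rec (fun _ => ℕ) rb1304 rb1305 (Nat.ble (nat_lit 1305) i)) (@Bool.rec (fun _ => ℕ) rb1306 rb1307 (Nat.ble (nat_lit 1307) i)) (Nat.ble (nat_lit 1306) i)) (@Bool.rec (fun _ => ℕ) (@Bool.rec (fun _ => ℕ) rb1308 rb1309 (Nat.ble (nat_lit 1309) i)) (@Bool.rec (fun _ => ℕ) rb1310 rb1311 (Nat.ble (nat_lit 1311) i)) (Nat.ble (nat_lit 1310) i)) (Nat.ble (nat_lit 1308) i)) (Nat.ble (nat_lit 1304) i)) (Nat.ble (nat_lit 1296) i))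

def rowBlk_n0_41 (i : ℕ) : ℕ := (@Bool.rec (fun _ => ℕ) (@Bool.rec (fun _ => ℕ) (@Bool.rec (fun _ => ℕ) (@Bool.rec (fun _ => ℕ) (@Bool.rec (fun _ => ℕ) rb1312 rb1313 (Nat.ble (nat_lit 1313) i)) (@Bool.rec (fun _ => ℕ) rb1314 rb1315 (Nat.ble (nat_lit 1315) i)) (Nat.ble (nat_lit 1314) i)) (@Bool.rec (fun _ => ℕ) (@Bool.rec (fun _ => ℕ) rb1316 rb1317 (Nat.ble (nat_lit 1317) i)) (@Bool.rec (fun _ => ℕ) rb1318 rb1319 (Nat.ble (nat_lit 1319) i)) (Nat.ble (nat_lit 1318) i)) (Nat.ble (nat_lit 1316) i)) (@Bool.rec (fun _ => ℕ) (@Bool.rec (fun _ => ℕ) (@Bool.rec (fun _ => ℕ) rb1320 rb1321 (Nat.ble (nat_lit 1321) i)) (@Bool.rec (fun _ => ℕ) rb1322 rb1323 (Nat.ble (nat_lit 1323) i)) (Nat.ble (nat_lit 1322) i)) (@Bool.rec (fun _ => ℕ) (@Bool.rec (fun _ => ℕ) rb1324 rb1325 (Nat.ble (nat_lit 1325) i)) (@Bool.rec (fun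 _ => ℕ) rb1326 rb1327 (Nat.ble (nat_lit 1327) i)) (Nat.ble (nat_lit 1326) i)) (Nat.ble (nat_lit 1324) i)) (Nat.ble (nat_lit 1320) i)) (@Bool.rec (fun _ => ℕ) (@Bool.rec (fun _ => ℕ) (@Bool.rec (fun _ => ℕ) (@Bool.rec (fun _ => ℕ) rb1328 rb1329 (Nat.ble (nat_lit 1329) i)) (@Bool.rec (fun _ => ℕ) rb1330 rb1331 (Nat.ble (nat_lit 1331) i)) (Nat.ble (nat_lit 1330) i)) (@Bool.rec (fun _ => ℕ) (@Bool.rec (fun _ => ℕ) rb1332 rb1333 (Nat.ble (nat_lit 1333) i)) (@Bool.rec (fun _ => ℕ) rb1334 rb1335 (Nat.ble (nat_lit 1335) i)) (Nat.ble (nat_lit 1334) i)) (Nat.ble (nat_lit 1332) i)) (@Bool.rec (fun _ => ℕ) (@Bool.rec (fun _ => ℕ) (@Bool.rec (fun _ => ℕ) rb1336 rb1337 (Nat.ble (nat_lit 1337) i)) (@Bool.rec (fun _ => ℕ) rb1338 rb1339 (Nat.ble (nat_lit 1339) i)) (Nat.ble (nat_lit 1338) i)) (@Bool.rec (fun _ => ℕ) (@Bool.rec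 (fun _ => ℕ) rb1340 rb1341 (Nat.ble (nat_lit 1341) i)) (@Bool.rec (fun _ => ℕ) rb1342 rb1343 (Nat.ble (nat_lit 1343) i)) (Nat.ble (nat_lit 1342) i)) (Nat.ble (nat_lit 1340) i)) (Nat.ble (nat_lit 1336) i)) (Nat.ble (nat_lit 1328) i))

def rowBlk_n0_42 (i : ℕ) : ℕ := (@Bool.rec (fun _ => ℕ) (@Bool.rec (fun _ => ℕ) (@Bool.rec (fun _ => ℕ) (@Bool.rec (fun _ => ℕ) (@Bool.rec (fun _ => ℕ) rb1344 rb1345 (Nat.ble (nat_lit 1345) i)) (@Bool.rec (fun _ => ℕ) rb1346 rb1347 (Nat.ble (nat_lit 1347) i)) (Nat.ble (nat_lit 1346) i)) (@Bool.rec (fun _ => ℕ) (@Bool.rec (fun _ => ℕ) rb1348 rb1349 (Nat.ble (nat_lit 1349) i)) (@Bool.rec (fun _ => ℕ) rb1350 rb1351 (Nat.ble (nat_lit 1351) i)) (Nat.ble (nat_lit 1350) i)) (Nat.ble (nat_lit 1348) i)) (@Bool.rec (fun _ => ℕ) (@Bool.rec (fun _ => ℕ) (@Bool.rec (fun _ => ℕ) rb1352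 rb1353 (Nat.ble (nat_lit 1353) i)) (@Bool.rec (fun _ => ℕ) rb1354 rb1355 (Nat.ble (nat_lit 1355) i)) (Nat.ble (nat_lit 1354) i)) (@Bool.rec (fun _ => ℕ) (@Bool.rec (fun _ => ℕ) rb1356 rb1357 (Nat.ble (nat_lit 1357) i)) (@Bool.rec (fun _ => ℕ) rb1358 rb1359 (Nat.ble (nat_lit 1359) i)) (Nat.ble (nat_lit 1358) i)) (Nat.ble (nat_lit 1356) i)) (Nat.ble (nat_lit 1352) i)) (@Bool.rec (fun _ => ℕ) (@Bool.rec (fun _ => ℕ) (@Bool.rec (fun _ => ℕ) (@Bool.rec (fun _ => ℕ) rb1360 rb1361 (Nat.ble (nat_lit 1361) i)) (@Bool.rec (fun _ => ℕ) rb1362 rb1363 (Nat.ble (nat_lit 1363) i)) (Nat.ble (nat_lit 1362) i)) (@Bool.rec (fun _ => ℕ) (@Bool.rec (fun _ => ℕ) rb1364 rb1365 (Nat.ble (nat_lit 1365) i)) (@Bool.rec (fun _ => ℕ) rb1366 rb1367 (Nat.ble (nat_lit 1367) i)) (Nat.ble (nat_lit 1366) i)) (Nat.ble (nat_lit 1364) i))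 (@Bool.rec (fun _ => ℕ) (@Bool.rec (fun _ => ℕ) (@Bool.rec (fun _ => ℕ) rb1368 rb1369 (Nat.ble (nat_lit 1369) i)) (@Bool.rec (fun _ => ℕ) rb1370 rb1371 (Nat.ble (nat_lit 1371) i)) (Nat.ble (nat_lit 1370) i)) (@Bool.rec (fun _ => ℕ) (@Bool.rec (fun _ => ℕ) rb1372 rb1373 (Nat.ble (nat_lit 1373) i)) (@Bool.rec (fun _ => ℕ) rb1374 rb1375 (Nat.ble (nat_lit 1375) i)) (Nat.ble (nat_lit 1374) i)) (Nat.ble (nat_lit 1372) i)) (Nat.ble (nat_lit 1368) i)) (Nat.ble (nat_lit 1360) i))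

def rowBlk_n0_43 (i : ℕ) : ℕ := (@Bool.rec (fun _ => ℕ) (@Bool.rec (fun _ => ℕ) (@Bool.rec (fun _ => ℕ) (@Bool.rec (fun _ => ℕ) (@Bool.rec (fun _ => ℕ) rb1376 rb1377 (Nat.ble (nat_lit 1377) i)) (@Bool.rec (fun _ => ℕ) rb1378 rb1379 (Nat.ble (nat_lit 1379) i)) (Nat.ble (nat_lit 1378) i)) (@Bool.rec (fun _ => ℕ) (@Bool.rec (fun _ => ℕ) rb1380 rb1381 (Nat.ble (nat_lit 1381) i)) (@Bool.rec (fun _ => ℕ) rb1382 rb1383 (Nat.ble (nat_lit 1383) i)) (Nat.ble (nat_lit 1382) i)) (Nat.ble (nat_lit 1380) i)) (@Bool.rec (fun _ => ℕ) (@Bool.rec (fun _ => ℕ) (@Bool.rec (fun _ => ℕ) rb1384 rb1385 (Nat.ble (nat_lit 1385) i)) (@Bool.rec (fun _ => ℕ) rb1386 rb1387 (Nat.ble (nat_lit 1387) i)) (Nat.ble (nat_lit 1386) i)) (@Bool.rec (fun _ => ℕ) (@Bool.rec (fun _ => ℕ) rb1388 rb1389 (Nat.ble (nat_lit 1389) i)) (@Bool.rec (fun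 _ => ℕ) rb1390 rb1391 (Nat.ble (nat_lit 1391) i)) (Nat.ble (nat_lit 1390) i)) (Nat.ble (nat_lit 1388) i)) (Nat.ble (nat_lit 1384) i)) (@Bool.rec (fun _ => ℕ) (@Bool.rec (fun _ => ℕ) (@Bool.rec (fun _ => ℕ) (@Bool.rec (fun _ => ℕ) rb1392 rb1393 (Nat.ble (nat_lit 1393) i)) (@Bool.rec (fun _ => ℕ) rb1394 rb1395 (Nat.ble (nat_lit 1395) i)) (Nat.ble (nat_lit 1394) i)) (@Bool.rec (fun _ => ℕ) (@Bool.rec (fun _ => ℕ) rb1396 rb1397 (Nat.ble (nat_lit 1397) i)) (@Bool.rec (fun _ => ℕ) rb1398 rb1399 (Nat.ble (nat_lit 1399) i)) (Nat.ble (nat_lit 1398) i)) (Nat.ble (nat_lit 1396) i)) (@Bool.rec (fun _ => ℕ) (@Bool.rec (fun _ => ℕ) (@Bool.rec (fun _ => ℕ) rb1400 rb1401 (Nat.ble (nat_lit 1401) i)) (@Bool.rec (fun _ => ℕ) rb1402 rb1403 (Nat.ble (nat_lit 1403) i)) (Nat.ble (nat_lit 1402) i)) (@Bool.rec (fun _ => ℕ) (@Bool.rec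 (fun _ => ℕ) rb1404 rb1405 (Nat.ble (nat_lit 1405) i)) (@Bool.rec (fun _ => ℕ) rb1406 rb1407 (Nat.ble (nat_lit 1407) i)) (Nat.ble (nat_lit 1406) i)) (Nat.ble (nat_lit 1404) i)) (Nat.ble (nat_lit 1400) i)) (Nat.ble (nat_lit 1392) i))

def rowBlk_n0_44 (i : ℕ) : ℕ := (@Bool.rec (fun _ => ℕ) (@Bool.rec (fun _ => ℕ) (@Bool.rec (fun _ => ℕ) (@Bool.rec (fun _ => ℕ) (@Bool.rec (fun _ => ℕ) rb1408 rb1409 (Nat.ble (nat_lit 1409) i)) (@Bool.rec (fun _ => ℕ) rb1410 rb1411 (Nat.ble (nat_lit 1411) i)) (Nat.ble (nat_lit 1410) i)) (@Bool.rec (fun _ => ℕ) (@Bool.rec (fun _ => ℕ) rb1412 rb1413 (Nat.ble (nat_lit 1413) i)) (@Bool.rec (fun _ => ℕ) rb1414 rb1415 (Nat.ble (nat_lit 1415) i)) (Nat.ble (nat_lit 1414) i)) (Nat.ble (nat_lit 1412) i)) (@Bool.rec (fun _ => ℕ) (@Bool.rec (fun _ => ℕ) (@Bool.rec (fun _ => ℕ) rb1416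 rb1417 (Nat.ble (nat_lit 1417) i)) (@Bool.rec (fun _ => ℕ) rb1418 rb1419 (Nat.ble (nat_lit 1419) i)) (Nat.ble (nat_lit 1418) i)) (@Bool.rec (fun _ => ℕ) (@Bool.rec (fun _ => ℕ) rb1420 rb1421 (Nat.ble (nat_lit 1421) i)) (@Bool.rec (fun _ => ℕ) rb1422 rb1423 (Nat.ble (nat_lit 1423) i)) (Nat.ble (nat_lit 1422) i)) (Nat.ble (nat_lit 1420) i)) (Nat.ble (nat_lit 1416) i)) (@Bool.rec (fun _ => ℕ) (@Bool.rec (fun _ => ℕ) (@Bool.rec (fun _ => ℕ) (@Bool.rec (fun _ => ℕ) rb1424 rb1425 (Nat.ble (nat_lit 1425) i)) (@Bool.rec (fun _ => ℕ) rb1426 rb1427 (Nat.ble (nat_lit 1427) i)) (Nat.ble (nat_lit 1426) i)) (@Bool.rec (fun _ => ℕ) (@Bool.rec (fun _ => ℕ) rb1428 rb1429 (Nat.ble (nat_lit 1429) i)) (@Bool.rec (fun _ => ℕ) rb1430 rb1431 (Nat.ble (nat_lit 1431) i)) (Nat.ble (nat_lit 1430) i)) (Nat.ble (nat_lit 1428) i))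 (@Bool.rec (fun _ => ℕ) (@Bool.rec (fun _ => ℕ) (@Bool.rec (fun _ => ℕ) rb1432 rb1433 (Nat.ble (nat_lit 1433) i)) (@Bool.rec (fun _ => ℕ) rb1434 rb1435 (Nat.ble (nat_lit 1435) i)) (Nat.ble (nat_lit 1434) i)) (@Bool.rec (fun _ => ℕ) (@Bool.rec (fun _ => ℕ) rb1436 rb1437 (Nat.ble (nat_lit 1437) i)) (@Bool.rec (fun _ => ℕ) rb1438 rb1439 (Nat.ble (nat_lit 1439) i)) (Nat.ble (nat_lit 1438) i)) (Nat.ble (nat_lit 1436) i)) (Nat.ble (nat_lit 1432) i)) (Nat.ble (nat_lit 1424) i))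

def rowBlk_n0_45 (i : ℕ) : ℕ := (@Bool.rec (fun _ => ℕ) (@Bool.rec (fun _ => ℕ) (@Bool.rec (fun _ => ℕ) (@Bool.rec (fun _ => ℕ) (@Bool.rec (fun _ => ℕ) rb1440 rb1441 (Nat.ble (nat_lit 1441) i)) (@Bool.rec (fun _ => ℕ) rb1442 rb1443 (Nat.ble (nat_lit 1443) i)) (Nat.ble (nat_lit 1442) i)) (@Bool.rec (fun _ => ℕ) (@Bool.rec (fun _ => ℕ) rb1444 rb1445 (Nat.ble (nat_lit 1445) i)) (@Bool.rec (fun _ => ℕ) rb1446 rb1447 (Nat.ble (nat_lit 1447) i)) (Nat.ble (nat_lit 1446) i)) (Nat.ble (nat_lit 1444) i)) (@Bool.rec (fun _ => ℕ) (@Bool.rec (fun _ => ℕ) (@Bool.rec (fun _ => ℕ) rb1448 rb1449 (Nat.ble (nat_lit 1449) i)) (@Bool.rec (fun _ => ℕ) rb1450 rb1451 (Nat.ble (nat_lit 1451) i)) (Nat.ble (nat_lit 1450) i)) (@Bool.rec (fun _ => ℕ) (@Bool.rec (fun _ => ℕ) rb1452 rb1453 (Nat.ble (nat_lit 1453) i)) (@Bool.rec (fun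 _ => ℕ) rb1454 rb1455 (Nat.ble (nat_lit 1455) i)) (Nat.ble (nat_lit 1454) i)) (Nat.ble (nat_lit 1452) i)) (Nat.ble (nat_lit 1448) i)) (@Bool.rec (fun _ => ℕ) (@Bool.rec (fun _ => ℕ) (@Bool.rec (fun _ => ℕ) (@Bool.rec (fun _ => ℕ) rb1456 rb1457 (Nat.ble (nat_lit 1457) i)) (@Bool.rec (fun _ => ℕ) rb1458 rb1459 (Nat.ble (nat_lit 1459) i)) (Nat.ble (nat_lit 1458) i)) (@Bool.rec (fun _ => ℕ) (@Bool.rec (fun _ => ℕ) rb1460 rb1461 (Nat.ble (nat_lit 1461) i)) (@Bool.rec (fun _ => ℕ) rb1462 rb1463 (Nat.ble (nat_lit 1463) i)) (Nat.ble (nat_lit 1462) i)) (Nat.ble (nat_lit 1460) i)) (@Bool.rec (fun _ => ℕ) (@Bool.rec (fun _ => ℕ) (@Bool.rec (fun _ => ℕ) rb1464 rb1465 (Nat.ble (nat_lit 1465) i)) (@Bool.rec (fun _ => ℕ) rb1466 rb1467 (Nat.ble (nat_lit 1467) i)) (Nat.ble (nat_lit 1466) i)) (@Bool.rec (fun _ => ℕ) (@Bool.rec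 (fun _ => ℕ) rb1468 rb1469 (Nat.ble (nat_lit 1469) i)) (@Bool.rec (fun _ => ℕ) rb1470 rb1471 (Nat.ble (nat_lit 1471) i)) (Nat.ble (nat_lit 1470) i)) (Nat.ble (nat_lit 1468) i)) (Nat.ble (nat_lit 1464) i)) (Nat.ble (nat_lit 1456) i))

def rowBlk_n0_46 (i : ℕ) : ℕ := (@Bool.rec (fun _ => ℕ) (@Bool.rec (fun _ => ℕ) (@Bool.rec (fun _ => ℕ) (@Bool.rec (fun _ => ℕ) (@Bool.rec (fun _ => ℕ) rb1472 rb1473 (Nat.ble (nat_lit 1473) i)) (@Bool.rec (fun _ => ℕ) rb1474 rb1475 (Nat.ble (nat_lit 1475) i)) (Nat.ble (nat_lit 1474) i)) (@Bool.rec (fun _ => ℕ) (@Bool.rec (fun _ => ℕ) rb1476 rb1477 (Nat.ble (nat_lit 1477) i)) (@Bool.rec (fun _ => ℕ) rb1478 rb1479 (Nat.ble (nat_lit 1479) i)) (Nat.ble (nat_lit 1478) i)) (Nat.ble (nat_lit 1476) i)) (@Bool.rec (fun _ => ℕ) (@Bool.rec (fun _ => ℕ) (@Bool.rec (fun _ => ℕ) rb1480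 rb1481 (Nat.ble (nat_lit 1481) i)) (@Bool.rec (fun _ => ℕ) rb1482 rb1483 (Nat.ble (nat_lit 1483) i)) (Nat.ble (nat_lit 1482) i)) (@Bool.rec (fun _ => ℕ) (@Bool.rec (fun _ => ℕ) rb1484 rb1485 (Nat.ble (nat_lit 1485) i)) (@Bool.rec (fun _ => ℕ) rb1486 rb1487 (Nat.ble (nat_lit 1487) i)) (Nat.ble (nat_lit 1486) i)) (Nat.ble (nat_lit 1484) i)) (Nat.ble (nat_lit 1480) i)) (@Bool.rec (fun _ => ℕ) (@Bool.rec (fun _ => ℕ) (@Bool.rec (fun _ => ℕ) (@Bool.rec (fun _ => ℕ) rb1488 rb1489 (Nat.ble (nat_lit 1489) i)) (@Bool.rec (fun _ => ℕ) rb1490 rb1491 (Nat.ble (nat_lit 1491) i)) (Nat.ble (nat_lit 1490) i)) (@Bool.rec (fun _ => ℕ) (@Bool.rec (fun _ => ℕ) rb1492 rb1493 (Nat.ble (nat_lit 1493) i)) (@Bool.rec (fun _ => ℕ) rb1494 rb1495 (Nat.ble (nat_lit 1495) i)) (Nat.ble (nat_lit 1494) i)) (Nat.ble (nat_lit 1492) i))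 (@Bool.rec (fun _ => ℕ) (@Bool.rec (fun _ => ℕ) (@Bool.rec (fun _ => ℕ) rb1496 rb1497 (Nat.ble (nat_lit 1497) i)) (@Bool.rec (fun _ => ℕ) rb1498 rb1499 (Nat.ble (nat_lit 1499) i)) (Nat.ble (nat_lit 1498) i)) (@Bool.rec (fun _ => ℕ) (@Bool.rec (fun _ => ℕ) rb1500 rb1501 (Nat.ble (nat_lit 1501) i)) (@Bool.rec (fun _ => ℕ) rb1502 rb1503 (Nat.ble (nat_lit 1503) i)) (Nat.ble (nat_lit 1502) i)) (Nat.ble (nat_lit 1500) i)) (Nat.ble (nat_lit 1496) i)) (Nat.ble (nat_lit 1488) i))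

def rowBlk_n0_47 (i : ℕ) : ℕ := (@Bool.rec (fun _ => ℕ) (@Bool.rec (fun _ => ℕ) (@Bool.rec (fun _ => ℕ) (@Bool.rec (fun _ => ℕ) (@Bool.rec (fun _ => ℕ) rb1504 rb1505 (Nat.ble (nat_lit 1505) i)) (@Bool.rec (fun _ => ℕ) rb1506 rb1507 (Nat.ble (nat_lit 1507) i)) (Nat.ble (nat_lit 1506) i)) (@Bool.rec (fun _ => ℕ) (@Bool.rec (fun _ => ℕ) rb1508 rb1509 (Nat.ble (nat_lit 1509) i)) (@Bool.rec (fun _ => ℕ) rb1510 rb1511 (Nat.ble (nat_lit 1511) i)) (Nat.ble (nat_lit 1510) i)) (Nat.ble (nat_lit 1508) i)) (@Bool.rec (fun _ => ℕ) (@Bool.rec (fun _ => ℕ) (@Bool.rec (fun _ => ℕ) rb1512 rb1513 (Nat.ble (nat_lit 1513) i)) (@Bool.rec (fun _ => ℕ) rb1514 rb1515 (Nat.ble (nat_lit 1515) i)) (Nat.ble (nat_lit 1514) i)) (@Bool.rec (fun _ => ℕ) (@Bool.rec (fun _ => ℕ) rb1516 rb1517 (Nat.ble (nat_lit 1517) i)) (@Bool.rec (fun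 _ => ℕ) rb1518 rb1519 (Nat.ble (nat_lit 1519) i)) (Nat.ble (nat_lit 1518) i)) (Nat.ble (nat_lit 1516) i)) (Nat.ble (nat_lit 1512) i)) (@Bool.rec (fun _ => ℕ) (@Bool.rec (fun _ => ℕ) (@Bool.rec (fun _ => ℕ) (@Bool.rec (fun _ => ℕ) rb1520 rb1521 (Nat.ble (nat_lit 1521) i)) (@Bool.rec (fun _ => ℕ) rb1522 rb1523 (Nat.ble (nat_lit 1523) i)) (Nat.ble (nat_lit 1522) i)) (@Bool.rec (fun _ => ℕ) (@Bool.rec (fun _ => ℕ) rb1524 rb1525 (Nat.ble (nat_lit 1525) i)) (@Bool.rec (fun _ => ℕ) rb1526 rb1527 (Nat.ble (nat_lit 1527) i)) (Nat.ble (nat_lit 1526) i)) (Nat.ble (nat_lit 1524) i)) (@Bool.rec (fun _ => ℕ) (@Bool.rec (fun _ => ℕ) (@Bool.rec (fun _ => ℕ) rb1528 rb1529 (Nat.ble (nat_lit 1529) i)) (@Bool.rec (fun _ => ℕ) rb1530 rb1531 (Nat.ble (nat_lit 1531) i)) (Nat.ble (nat_lit 1530) i)) (@Bool.rec (fun _ => ℕ) (@Bool.rec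 (fun _ => ℕ) rb1532 rb1533 (Nat.ble (nat_lit 1533) i)) (@Bool.rec (fun _ => ℕ) rb1534 rb1535 (Nat.ble (nat_lit 1535) i)) (Nat.ble (nat_lit 1534) i)) (Nat.ble (nat_lit 1532) i)) (Nat.ble (nat_lit 1528) i)) (Nat.ble (nat_lit 1520) i))

def rowBlk_n0_48 (i : ℕ) : ℕ := (@Bool.rec (fun _ => ℕ) (@Bool.rec (fun _ => ℕ) (@Bool.rec (fun _ => ℕ) (@Bool.rec (fun _ => ℕ) (@Bool.rec (fun _ => ℕ) rb1536 rb1537 (Nat.ble (nat_lit 1537) i)) (@Bool.rec (fun _ => ℕ) rb1538 rb1539 (Nat.ble (nat_lit 1539) i)) (Nat.ble (nat_lit 1538) i)) (@Bool.rec (fun _ => ℕ) (@Bool.rec (fun _ => ℕ) rb1540 rb1541 (Nat.ble (nat_lit 1541) i)) (@Bool.rec (fun _ => ℕ) rb1542 rb1543 (Nat.ble (nat_lit 1543) i)) (Nat.ble (nat_lit 1542) i)) (Nat.ble (nat_lit 1540) i)) (@Bool.rec (fun _ => ℕ) (@Bool.rec (fun _ => ℕ) (@Bool.rec (fun _ => ℕ) rb1544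 rb1545 (Nat.ble (nat_lit 1545) i)) (@Bool.rec (fun _ => ℕ) rb1546 rb1547 (Nat.ble (nat_lit 1547) i)) (Nat.ble (nat_lit 1546) i)) (@Bool.rec (fun _ => ℕ) (@Bool.rec (fun _ => ℕ) rb1548 rb1549 (Nat.ble (nat_lit 1549) i)) (@Bool.rec (fun _ => ℕ) rb1550 rb1551 (Nat.ble (nat_lit 1551) i)) (Nat.ble (nat_lit 1550) i)) (Nat.ble (nat_lit 1548) i)) (Nat.ble (nat_lit 1544) i)) (@Bool.rec (fun _ => ℕ) (@Bool.rec (fun _ => ℕ) (@Bool.rec (fun _ => ℕ) (@Bool.rec (fun _ => ℕ) rb1552 rb1553 (Nat.ble (nat_lit 1553) i)) (@Bool.rec (fun _ => ℕ) rb1554 rb1555 (Nat.ble (nat_lit 1555) i)) (Nat.ble (nat_lit 1554) i)) (@Bool.rec (fun _ => ℕ) (@Bool.rec (fun _ => ℕ) rb1556 rb1557 (Nat.ble (nat_lit 1557) i)) (@Bool.rec (fun _ => ℕ) rb1558 rb1559 (Nat.ble (nat_lit 1559) i)) (Nat.ble (nat_lit 1558) i)) (Nat.ble (nat_lit 1556) i))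 (@Bool.rec (fun _ => ℕ) (@Bool.rec (fun _ => ℕ) (@Bool.rec (fun _ => ℕ) rb1560 rb1561 (Nat.ble (nat_lit 1561) i)) (@Bool.rec (fun _ => ℕ) rb1562 rb1563 (Nat.ble (nat_lit 1563) i)) (Nat.ble (nat_lit 1562) i)) (@Bool.rec (fun _ => ℕ) (@Bool.rec (fun _ => ℕ) rb1564 rb1565 (Nat.ble (nat_lit 1565) i)) (@Bool.rec (fun _ => ℕ) rb1566 rb1567 (Nat.ble (nat_lit 1567) i)) (Nat.ble (nat_lit 1566) i)) (Nat.ble (nat_lit 1564) i)) (Nat.ble (nat_lit 1560) i)) (Nat.ble (nat_lit 1552) i))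

def rowBlk_n0_49 (i : ℕ) : ℕ := (@Bool.rec (fun _ => ℕ) (@Bool.rec (fun _ => ℕ) (@Bool.rec (fun _ => ℕ) (@Bool.rec (fun _ => ℕ) (@Bool.rec (fun _ => ℕ) rb1568 rb1569 (Nat.ble (nat_lit 1569) i)) (@Bool.rec (fun _ => ℕ) rb1570 rb1571 (Nat.ble (nat_lit 1571) i)) (Nat.ble (nat_lit 1570) i)) (@Bool.rec (fun _ => ℕ) (@Bool.rec (fun _ => ℕ) rb1572 rb1573 (Nat.ble (nat_lit 1573) i)) (@Bool.rec (fun _ => ℕ) rb1574 rb1575 (Nat.ble (nat_lit 1575) i)) (Nat.ble (nat_lit 1574) i)) (Nat.ble (nat_lit 1572) i)) (@Bool.rec (fun _ => ℕ) (@Bool.rec (fun _ => ℕ) (@Bool.rec (fun _ => ℕ) rb1576 rb1577 (Nat.ble (nat_lit 1577) i)) (@Bool.rec (fun _ => ℕ) rb1578 rb1579 (Nat.ble (nat_lit 1579) i)) (Nat.ble (nat_lit 1578) i)) (@Bool.rec (fun _ => ℕ) (@Bool.rec (fun _ => ℕ) rb1580 rb1581 (Nat.ble (nat_lit 1581) i)) (@Bool.rec (fun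 _ => ℕ) rb1582 rb1583 (Nat.ble (nat_lit 1583) i)) (Nat.ble (nat_lit 1582) i)) (Nat.ble (nat_lit 1580) i)) (Nat.ble (nat_lit 1576) i)) (@Bool.rec (fun _ => ℕ) (@Bool.rec (fun _ => ℕ) (@Bool.rec (fun _ => ℕ) (@Bool.rec (fun _ => ℕ) rb1584 rb1585 (Nat.ble (nat_lit 1585) i)) (@Bool.rec (fun _ => ℕ) rb1586 rb1587 (Nat.ble (nat_lit 1587) i)) (Nat.ble (nat_lit 1586) i)) (@Bool.rec (fun _ => ℕ) (@Bool.rec (fun _ => ℕ) rb1588 rb1589 (Nat.ble (nat_lit 1589) i)) (@Bool.rec (fun _ => ℕ) rb1590 rb1591 (Nat.ble (nat_lit 1591) i)) (Nat.ble (nat_lit 1590) i)) (Nat.ble (nat_lit 1588) i)) (@Bool.rec (fun _ => ℕ) (@Bool.rec (fun _ => ℕ) (@Bool.rec (fun _ => ℕ) rb1592 rb1593 (Nat.ble (nat_lit 1593) i)) (@Bool.rec (fun _ => ℕ) rb1594 rb1595 (Nat.ble (nat_lit 1595) i)) (Nat.ble (nat_lit 1594) i)) (@Bool.rec (fun _ => ℕ) (@Bool.rec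 (fun _ => ℕ) rb1596 rb1597 (Nat.ble (nat_lit 1597) i)) (@Bool.rec (fun _ => ℕ) rb1598 rb1599 (Nat.ble (nat_lit 1599) i)) (Nat.ble (nat_lit 1598) i)) (Nat.ble (nat_lit 1596) i)) (Nat.ble (nat_lit 1592) i)) (Nat.ble (nat_lit 1584) i))

def rowBlk_n0_50 (i : ℕ) : ℕ := (@Bool.rec (fun _ => ℕ) (@Bool.rec (fun _ => ℕ) (@Bool.rec (fun _ => ℕ) (@Bool.rec (fun _ => ℕ) (@Bool.rec (fun _ => ℕ) rb1600 rb1601 (Nat.ble (nat_lit 1601) i)) (@Bool.rec (fun _ => ℕ) rb1602 rb1603 (Nat.ble (nat_lit 1603) i)) (Nat.ble (nat_lit 1602) i)) (@Bool.rec (fun _ => ℕ) (@Bool.rec (fun _ => ℕ) rb1604 rb1605 (Nat.ble (nat_lit 1605) i)) (@Bool.rec (fun _ => ℕ) rb1606 rb1607 (Nat.ble (nat_lit 1607) i)) (Nat.ble (nat_lit 1606) i)) (Nat.ble (nat_lit 1604) i)) (@Bool.rec (fun _ => ℕ) (@Bool.rec (fun _ => ℕ) (@Bool.rec (fun _ => ℕ) rb1608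 rb1609 (Nat.ble (nat_lit 1609) i)) (@Bool.rec (fun _ => ℕ) rb1610 rb1611 (Nat.ble (nat_lit 1611) i)) (Nat.ble (nat_lit 1610) i)) (@Bool.rec (fun _ => ℕ) (@Bool.rec (fun _ => ℕ) rb1612 rb1613 (Nat.ble (nat_lit 1613) i)) (@Bool.rec (fun _ => ℕ) rb1614 rb1615 (Nat.ble (nat_lit 1615) i)) (Nat.ble (nat_lit 1614) i)) (Nat.ble (nat_lit 1612) i)) (Nat.ble (nat_lit 1608) i)) (@Bool.rec (fun _ => ℕ) (@Bool.rec (fun _ => ℕ) (@Bool.rec (fun _ => ℕ) (@Bool.rec (fun _ => ℕ) rb1616 rb1617 (Nat.ble (nat_lit 1617) i)) (@Bool.rec (fun _ => ℕ) rb1618 rb1619 (Nat.ble (nat_lit 1619) i)) (Nat.ble (nat_lit 1618) i)) (@Bool.rec (fun _ => ℕ) (@Bool.rec (fun _ => ℕ) rb1620 rb1621 (Nat.ble (nat_lit 1621) i)) (@Bool.rec (fun _ => ℕ) rb1622 rb1623 (Nat.ble (nat_lit 1623) i)) (Nat.ble (nat_lit 1622) i)) (Nat.ble (nat_lit 1620) i))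 (@Bool.rec (fun _ => ℕ) (@Bool.rec (fun _ => ℕ) (@Bool.rec (fun _ => ℕ) rb1624 rb1625 (Nat.ble (nat_lit 1625) i)) (@Bool.rec (fun _ => ℕ) rb1626 rb1627 (Nat.ble (nat_lit 1627) i)) (Nat.ble (nat_lit 1626) i)) (@Bool.rec (fun _ => ℕ) (@Bool.rec (fun _ => ℕ) rb1628 rb1629 (Nat.ble (nat_lit 1629) i)) (@Bool.rec (fun _ => ℕ) rb1630 rb1631 (Nat.ble (nat_lit 1631) i)) (Nat.ble (nat_lit 1630) i)) (Nat.ble (nat_lit 1628) i)) (Nat.ble (nat_lit 1624) i)) (Nat.ble (nat_lit 1616) i))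

def rowBlk_n0_51 (i : ℕ) : ℕ := (@Bool.rec (fun _ => ℕ) (@Bool.rec (fun _ => ℕ) (@Bool.rec (fun _ => ℕ) (@Bool.rec (fun _ => ℕ) (@Bool.rec (fun _ => ℕ) rb1632 rb1633 (Nat.ble (nat_lit 1633) i)) (@Bool.rec (fun _ => ℕ) rb1634 rb1635 (Nat.ble (nat_lit 1635) i)) (Nat.ble (nat_lit 1634) i)) (@Bool.rec (fun _ => ℕ) (@Bool.rec (fun _ => ℕ) rb1636 rb1637 (Nat.ble (nat_lit 1637) i)) (@Bool.rec (fun _ => ℕ) rb1638 rb1639 (Nat.ble (nat_lit 1639) i)) (Nat.ble (nat_lit 1638) i)) (Nat.ble (nat_lit 1636) i)) (@Bool.rec (fun _ => ℕ) (@Bool.rec (fun _ => ℕ) (@Bool.rec (fun _ => ℕ) rb1640 rb1641 (Nat.ble (nat_lit 1641) i)) (@Bool.rec (fun _ => ℕ) rb1642 rb1643 (Nat.ble (nat_lit 1643) i)) (Nat.ble (nat_lit 1642) i)) (@Bool.rec (fun _ => ℕ) (@Bool.rec (fun _ => ℕ) rb1644 rb1645 (Nat.ble (nat_lit 1645) i)) (@Bool.rec (fun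 _ => ℕ) rb1646 rb1647 (Nat.ble (nat_lit 1647) i)) (Nat.ble (nat_lit 1646) i)) (Nat.ble (nat_lit 1644) i)) (Nat.ble (nat_lit 1640) i)) (@Bool.rec (fun _ => ℕ) (@Bool.rec (fun _ => ℕ) (@Bool.rec (fun _ => ℕ) (@Bool.rec (fun _ => ℕ) rb1648 rb1649 (Nat.ble (nat_lit 1649) i)) (@Bool.rec (fun _ => ℕ) rb1650 rb1651 (Nat.ble (nat_lit 1651) i)) (Nat.ble (nat_lit 1650) i)) (@Bool.rec (fun _ => ℕ) (@Bool.rec (fun _ => ℕ) rb1652 rb1653 (Nat.ble (nat_lit 1653) i)) (@Bool.rec (fun _ => ℕ) rb1654 rb1655 (Nat.ble (nat_lit 1655) i)) (Nat.ble (nat_lit 1654) i)) (Nat.ble (nat_lit 1652) i)) (@Bool.rec (fun _ => ℕ) (@Bool.rec (fun _ => ℕ) (@Bool.rec (fun _ => ℕ) rb1656 rb1657 (Nat.ble (nat_lit 1657) i)) (@Bool.rec (fun _ => ℕ) rb1658 rb1659 (Nat.ble (nat_lit 1659) i)) (Nat.ble (nat_lit 1658) i)) (@Bool.rec (fun _ => ℕ) (@Bool.rec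 (fun _ => ℕ) rb1660 rb1661 (Nat.ble (nat_lit 1661) i)) (@Bool.rec (fun _ => ℕ) rb1662 rb1663 (Nat.ble (nat_lit 1663) i)) (Nat.ble (nat_lit 1662) i)) (Nat.ble (nat_lit 1660) i)) (Nat.ble (nat_lit 1656) i)) (Nat.ble (nat_lit 1648) i))

def rowBlk_n0_52 (i : ℕ) : ℕ := (@Bool.rec (fun _ => ℕ) (@Bool.rec (fun _ => ℕ) (@Bool.rec (fun _ => ℕ) (@Bool.rec (fun _ => ℕ) (@Bool.rec (fun _ => ℕ) rb1664 rb1665 (Nat.ble (nat_lit 1665) i)) (@Bool.rec (fun _ => ℕ) rb1666 rb1667 (Nat.ble (nat_lit 1667) i)) (Nat.ble (nat_lit 1666) i)) (@Bool.rec (fun _ => ℕ) (@Bool.rec (fun _ => ℕ) rb1668 rb1669 (Nat.ble (nat_lit 1669) i)) (@Bool.rec (fun _ => ℕ) rb1670 rb1671 (Nat.ble (nat_lit 1671) i)) (Nat.ble (nat_lit 1670) i)) (Nat.ble (nat_lit 1668) i)) (@Bool.rec (fun _ => ℕ) (@Bool.rec (fun _ => ℕ) (@Bool.rec (fun _ => ℕ) rb1672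 rb1673 (Nat.ble (nat_lit 1673) i)) (@Bool.rec (fun _ => ℕ) rb1674 rb1675 (Nat.ble (nat_lit 1675) i)) (Nat.ble (nat_lit 1674) i)) (@Bool.rec (fun _ => ℕ) (@Bool.rec (fun _ => ℕ) rb1676 rb1677 (Nat.ble (nat_lit 1677) i)) (@Bool.rec (fun _ => ℕ) rb1678 rb1679 (Nat.ble (nat_lit 1679) i)) (Nat.ble (nat_lit 1678) i)) (Nat.ble (nat_lit 1676) i)) (Nat.ble (nat_lit 1672) i)) (@Bool.rec (fun _ => ℕ) (@Bool.rec (fun _ => ℕ) (@Bool.rec (fun _ => ℕ) (@Bool.rec (fun _ => ℕ) rb1680 rb1681 (Nat.ble (nat_lit 1681) i)) (@Bool.rec (fun _ => ℕ) rb1682 rb1683 (Nat.ble (nat_lit 1683) i)) (Nat.ble (nat_lit 1682) i)) (@Bool.rec (fun _ => ℕ) (@Bool.rec (fun _ => ℕ) rb1684 rb1685 (Nat.ble (nat_lit 1685) i)) (@Bool.rec (fun _ => ℕ) rb1686 rb1687 (Nat.ble (nat_lit 1687) i)) (Nat.ble (nat_lit 1686) i)) (Nat.ble (nat_lit 1684) i))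 (@Bool.rec (fun _ => ℕ) (@Bool.rec (fun _ => ℕ) (@Bool.rec (fun _ => ℕ) rb1688 rb1689 (Nat.ble (nat_lit 1689) i)) (@Bool.rec (fun _ => ℕ) rb1690 rb1691 (Nat.ble (nat_lit 1691) i)) (Nat.ble (nat_lit 1690) i)) (@Bool.rec (fun _ => ℕ) (@Bool.rec (fun _ => ℕ) rb1692 rb1693 (Nat.ble (nat_lit 1693) i)) (@Bool.rec (fun _ => ℕ) rb1694 rb1695 (Nat.ble (nat_lit 1695) i)) (Nat.ble (nat_lit 1694) i)) (Nat.ble (nat_lit 1692) i)) (Nat.ble (nat_lit 1688) i)) (Nat.ble (nat_lit 1680) i))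

def rowBlk_n0_53 (i : ℕ) : ℕ := (@Bool.rec (fun _ => ℕ) (@Bool.rec (fun _ => ℕ) (@Bool.rec (fun _ => ℕ) (@Bool.rec (fun _ => ℕ) (@Bool.rec (fun _ => ℕ) rb1696 rb1697 (Nat.ble (nat_lit 1697) i)) (@Bool.rec (fun _ => ℕ) rb1698 rb1699 (Nat.ble (nat_lit 1699) i)) (Nat.ble (nat_lit 1698) i)) (@Bool.rec (fun _ => ℕ) (@Bool.rec (fun _ => ℕ) rb1700 rb1701 (Nat.ble (nat_lit 1701) i)) (@Bool.rec (fun _ => ℕ) rb1702 rb1703 (Nat.ble (nat_lit 1703) i)) (Nat.ble (nat_lit 1702) i)) (Nat.ble (nat_lit 1700) i)) (@Bool.rec (fun _ => ℕ) (@Bool.rec (fun _ => ℕ) (@Bool.rec (fun _ => ℕ) rb1704 rb1705 (Nat.ble (nat_lit 1705) i)) (@Bool.rec (fun _ => ℕ) rb1706 rb1707 (Nat.ble (nat_lit 1707) i)) (Nat.ble (nat_lit 1706) i)) (@Bool.rec (fun _ => ℕ) (@Bool.rec (fun _ => ℕ) rb1708 rb1709 (Nat.ble (nat_lit 1709) i)) (@Bool.rec (fun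 _ => ℕ) rb1710 rb1711 (Nat.ble (nat_lit 1711) i)) (Nat.ble (nat_lit 1710) i)) (Nat.ble (nat_lit 1708) i)) (Nat.ble (nat_lit 1704) i)) (@Bool.rec (fun _ => ℕ) (@Bool.rec (fun _ => ℕ) (@Bool.rec (fun _ => ℕ) (@Bool.rec (fun _ => ℕ) rb1712 rb1713 (Nat.ble (nat_lit 1713) i)) (@Bool.rec (fun _ => ℕ) rb1714 rb1715 (Nat.ble (nat_lit 1715) i)) (Nat.ble (nat_lit 1714) i)) (@Bool.rec (fun _ => ℕ) (@Bool.rec (fun _ => ℕ) rb1716 rb1717 (Nat.ble (nat_lit 1717) i)) (@Bool.rec (fun _ => ℕ) rb1718 rb1719 (Nat.ble (nat_lit 1719) i)) (Nat.ble (nat_lit 1718) i)) (Nat.ble (nat_lit 1716) i)) (@Bool.rec (fun _ => ℕ) (@Bool.rec (fun _ => ℕ) (@Bool.rec (fun _ => ℕ) rb1720 rb1721 (Nat.ble (nat_lit 1721) i)) (@Bool.rec (fun _ => ℕ) rb1722 rb1723 (Nat.ble (nat_lit 1723) i)) (Nat.ble (nat_lit 1722) i)) (@Bool.rec (fun _ => ℕ) (@Bool.rec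 (fun _ => ℕ) rb1724 rb1725 (Nat.ble (nat_lit 1725) i)) (@Bool.rec (fun _ => ℕ) rb1726 rb1727 (Nat.ble (nat_lit 1727) i)) (Nat.ble (nat_lit 1726) i)) (Nat.ble (nat_lit 1724) i)) (Nat.ble (nat_lit 1720) i)) (Nat.ble (nat_lit 1712) i))

def rowBlk_n0_54 (i : ℕ) : ℕ := (@Bool.rec (fun _ => ℕ) (@Bool.rec (fun _ => ℕ) (@Bool.rec (fun _ => ℕ) (@Bool.rec (fun _ => ℕ) (@Bool.rec (fun _ => ℕ) rb1728 rb1729 (Nat.ble (nat_lit 1729) i)) (@Bool.rec (fun _ => ℕ) rb1730 rb1731 (Nat.ble (nat_lit 1731) i)) (Nat.ble (nat_lit 1730) i)) (@Bool.rec (fun _ => ℕ) (@Bool.rec (fun _ => ℕ) rb1732 rb1733 (Nat.ble (nat_lit 1733) i)) (@Bool.rec (fun _ => ℕ) rb1734 rb1735 (Nat.ble (nat_lit 1735) i)) (Nat.ble (nat_lit 1734) i)) (Nat.ble (nat_lit 1732) i)) (@Bool.rec (fun _ => ℕ) (@Bool.rec (fun _ => ℕ) (@Bool.rec (fun _ => ℕ) rb1736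 rb1737 (Nat.ble (nat_lit 1737) i)) (@Bool.rec (fun _ => ℕ) rb1738 rb1739 (Nat.ble (nat_lit 1739) i)) (Nat.ble (nat_lit 1738) i)) (@Bool.rec (fun _ => ℕ) (@Bool.rec (fun _ => ℕ) rb1740 rb1741 (Nat.ble (nat_lit 1741) i)) (@Bool.rec (fun _ => ℕ) rb1742 rb1743 (Nat.ble (nat_lit 1743) i)) (Nat.ble (nat_lit 1742) i)) (Nat.ble (nat_lit 1740) i)) (Nat.ble (nat_lit 1736) i)) (@Bool.rec (fun _ => ℕ) (@Bool.rec (fun _ => ℕ) (@Bool.rec (fun _ => ℕ) (@Bool.rec (fun _ => ℕ) rb1744 rb1745 (Nat.ble (nat_lit 1745) i)) (@Bool.rec (fun _ => ℕ) rb1746 rb1747 (Nat.ble (nat_lit 1747) i)) (Nat.ble (nat_lit 1746) i)) (@Bool.rec (fun _ => ℕ) (@Bool.rec (fun _ => ℕ) rb1748 rb1749 (Nat.ble (nat_lit 1749) i)) (@Bool.rec (fun _ => ℕ) rb1750 rb1751 (Nat.ble (nat_lit 1751) i)) (Nat.ble (nat_lit 1750) i)) (Nat.ble (nat_lit 1748) i))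 (@Bool.rec (fun _ => ℕ) (@Bool.rec (fun _ => ℕ) (@Bool.rec (fun _ => ℕ) rb1752 rb1753 (Nat.ble (nat_lit 1753) i)) (@Bool.rec (fun _ => ℕ) rb1754 rb1755 (Nat.ble (nat_lit 1755) i)) (Nat.ble (nat_lit 1754) i)) (@Bool.rec (fun _ => ℕ) (@Bool.rec (fun _ => ℕ) rb1756 rb1757 (Nat.ble (nat_lit 1757) i)) (@Bool.rec (fun _ => ℕ) rb1758 rb1759 (Nat.ble (nat_lit 1759) i)) (Nat.ble (nat_lit 1758) i)) (Nat.ble (nat_lit 1756) i)) (Nat.ble (nat_lit 1752) i)) (Nat.ble (nat_lit 1744) i))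

def rowBlk_n0_55 (i : ℕ) : ℕ := (@Bool.rec (fun _ => ℕ) (@Bool.rec (fun _ => ℕ) (@Bool.rec (fun _ => ℕ) (@Bool.rec (fun _ => ℕ) (@Bool.rec (fun _ => ℕ) rb1760 rb1761 (Nat.ble (nat_lit 1761) i)) (@Bool.rec (fun _ => ℕ) rb1762 rb1763 (Nat.ble (nat_lit 1763) i)) (Nat.ble (nat_lit 1762) i)) (@Bool.rec (fun _ => ℕ) (@Bool.rec (fun _ => ℕ) rb1764 rb1765 (Nat.ble (nat_lit 1765) i)) (@Bool.rec (fun _ => ℕ) rb1766 rb1767 (Nat.ble (nat_lit 1767) i)) (Nat.ble (nat_lit 1766) i)) (Nat.ble (nat_lit 1764) i)) (@Bool.rec (fun _ => ℕ) (@Bool.rec (fun _ => ℕ) (@Bool.rec (fun _ => ℕ) rb1768 rb1769 (Nat.ble (nat_lit 1769) i)) (@Bool.rec (fun _ => ℕ) rb1770 rb1771 (Nat.ble (nat_lit 1771) i)) (Nat.ble (nat_lit 1770) i)) (@Bool.rec (fun _ => ℕ) (@Bool.rec (fun _ => ℕ) rb1772 rb1773 (Nat.ble (nat_lit 1773) i)) (@Bool.rec (fun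 _ => ℕ) rb1774 rb1775 (Nat.ble (nat_lit 1775) i)) (Nat.ble (nat_lit 1774) i)) (Nat.ble (nat_lit 1772) i)) (Nat.ble (nat_lit 1768) i)) (@Bool.rec (fun _ => ℕ) (@Bool.rec (fun _ => ℕ) (@Bool.rec (fun _ => ℕ) (@Bool.rec (fun _ => ℕ) rb1776 rb1777 (Nat.ble (nat_lit 1777) i)) (@Bool.rec (fun _ => ℕ) rb1778 rb1779 (Nat.ble (nat_lit 1779) i)) (Nat.ble (nat_lit 1778) i)) (@Bool.rec (fun _ => ℕ) (@Bool.rec (fun _ => ℕ) rb1780 rb1781 (Nat.ble (nat_lit 1781) i)) (@Bool.rec (fun _ => ℕ) rb1782 rb1783 (Nat.ble (nat_lit 1783) i)) (Nat.ble (nat_lit 1782) i)) (Nat.ble (nat_lit 1780) i)) (@Bool.rec (fun _ => ℕ) (@Bool.rec (fun _ => ℕ) (@Bool.rec (fun _ => ℕ) rb1784 rb1785 (Nat.ble (nat_lit 1785) i)) (@Bool.rec (fun _ => ℕ) rb1786 rb1787 (Nat.ble (nat_lit 1787) i)) (Nat.ble (nat_lit 1786) i)) (@Bool.rec (fun _ => ℕ) (@Bool.rec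 (fun _ => ℕ) rb1788 rb1789 (Nat.ble (nat_lit 1789) i)) (@Bool.rec (fun _ => ℕ) rb1790 rb1791 (Nat.ble (nat_lit 1791) i)) (Nat.ble (nat_lit 1790) i)) (Nat.ble (nat_lit 1788) i)) (Nat.ble (nat_lit 1784) i)) (Nat.ble (nat_lit 1776) i))

def rowBlk_n0_56 (i : ℕ) : ℕ := (@Bool.rec (fun _ => ℕ) (@Bool.rec (fun _ => ℕ) (@Bool.rec (fun _ => ℕ) (@Bool.rec (fun _ => ℕ) (@Bool.rec (fun _ => ℕ) rb1792 rb1793 (Nat.ble (nat_lit 1793) i)) (@Bool.rec (fun _ => ℕ) rb1794 rb1795 (Nat.ble (nat_lit 1795) i)) (Nat.ble (nat_lit 1794) i)) (@Bool.rec (fun _ => ℕ) (@Bool.rec (fun _ => ℕ) rb1796 rb1797 (Nat.ble (nat_lit 1797) i)) (@Bool.rec (fun _ => ℕ) rb1798 rb1799 (Nat.ble (nat_lit 1799) i)) (Nat.ble (nat_lit 1798) i)) (Nat.ble (nat_lit 1796) i)) (@Bool.rec (fun _ => ℕ) (@Bool.rec (fun _ => ℕ) (@Bool.rec (fun _ => ℕ) rb1800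 rb1801 (Nat.ble (nat_lit 1801) i)) (@Bool.rec (fun _ => ℕ) rb1802 rb1803 (Nat.ble (nat_lit 1803) i)) (Nat.ble (nat_lit 1802) i)) (@Bool.rec (fun _ => ℕ) (@Bool.rec (fun _ => ℕ) rb1804 rb1805 (Nat.ble (nat_lit 1805) i)) (@Bool.rec (fun _ => ℕ) rb1806 rb1807 (Nat.ble (nat_lit 1807) i)) (Nat.ble (nat_lit 1806) i)) (Nat.ble (nat_lit 1804) i)) (Nat.ble (nat_lit 1800) i)) (@Bool.rec (fun _ => ℕ) (@Bool.rec (fun _ => ℕ) (@Bool.rec (fun _ => ℕ) (@Bool.rec (fun _ => ℕ) rb1808 rb1809 (Nat.ble (nat_lit 1809) i)) (@Bool.rec (fun _ => ℕ) rb1810 rb1811 (Nat.ble (nat_lit 1811) i)) (Nat.ble (nat_lit 1810) i)) (@Bool.rec (fun _ => ℕ) (@Bool.rec (fun _ => ℕ) rb1812 rb1813 (Nat.ble (nat_lit 1813) i)) (@Bool.rec (fun _ => ℕ) rb1814 rb1815 (Nat.ble (nat_lit 1815) i)) (Nat.ble (nat_lit 1814) i)) (Nat.ble (nat_lit 1812) i))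 (@Bool.rec (fun _ => ℕ) (@Bool.rec (fun _ => ℕ) (@Bool.rec (fun _ => ℕ) rb1816 rb1817 (Nat.ble (nat_lit 1817) i)) (@Bool.rec (fun _ => ℕ) rb1818 rb1819 (Nat.ble (nat_lit 1819) i)) (Nat.ble (nat_lit 1818) i)) (@Bool.rec (fun _ => ℕ) (@Bool.rec (fun _ => ℕ) rb1820 rb1821 (Nat.ble (nat_lit 1821) i)) (@Bool.rec (fun _ => ℕ) rb1822 rb1823 (Nat.ble (nat_lit 1823) i)) (Nat.ble (nat_lit 1822) i)) (Nat.ble (nat_lit 1820) i)) (Nat.ble (nat_lit 1816) i)) (Nat.ble (nat_lit 1808) i))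

def rowBlk_n0_57 (i : ℕ) : ℕ := (@Bool.rec (fun _ => ℕ) (@Bool.rec (fun _ => ℕ) (@Bool.rec (fun _ => ℕ) (@Bool.rec (fun _ => ℕ) (@Bool.rec (fun _ => ℕ) rb1824 rb1825 (Nat.ble (nat_lit 1825) i)) (@Bool.rec (fun _ => ℕ) rb1826 rb1827 (Nat.ble (nat_lit 1827) i)) (Nat.ble (nat_lit 1826) i)) (@Bool.rec (fun _ => ℕ) (@Bool.rec (fun _ => ℕ) rb1828 rb1829 (Nat.ble (nat_lit 1829) i)) (@Bool.rec (fun _ => ℕ) rb1830 rb1831 (Nat.ble (nat_lit 1831) i)) (Nat.ble (nat_lit 1830) i)) (Nat.ble (nat_lit 1828) i)) (@Bool.rec (fun _ => ℕ) (@Bool.rec (fun _ => ℕ) (@Bool.rec (fun _ => ℕ) rb1832 rb1833 (Nat.ble (nat_lit 1833) i)) (@Bool.rec (fun _ => ℕ) rb1834 rb1835 (Nat.ble (nat_lit 1835) i)) (Nat.ble (nat_lit 1834) i)) (@Bool.rec (fun _ => ℕ) (@Bool.rec (fun _ => ℕ) rb1836 rb1837 (Nat.ble (nat_lit 1837) i)) (@Bool.rec (fun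 _ => ℕ) rb1838 rb1839 (Nat.ble (nat_lit 1839) i)) (Nat.ble (nat_lit 1838) i)) (Nat.ble (nat_lit 1836) i)) (Nat.ble (nat_lit 1832) i)) (@Bool.rec (fun _ => ℕ) (@Bool.rec (fun _ => ℕ) (@Bool.rec (fun _ => ℕ) (@Bool.rec (fun _ => ℕ) rb1840 rb1841 (Nat.ble (nat_lit 1841) i)) (@Bool.rec (fun _ => ℕ) rb1842 rb1843 (Nat.ble (nat_lit 1843) i)) (Nat.ble (nat_lit 1842) i)) (@Bool.rec (fun _ => ℕ) (@Bool.rec (fun _ => ℕ) rb1844 rb1845 (Nat.ble (nat_lit 1845) i)) (@Bool.rec (fun _ => ℕ) rb1846 rb1847 (Nat.ble (nat_lit 1847) i)) (Nat.ble (nat_lit 1846) i)) (Nat.ble (nat_lit 1844) i)) (@Bool.rec (fun _ => ℕ) (@Bool.rec (fun _ => ℕ) (@Bool.rec (fun _ => ℕ) rb1848 rb1849 (Nat.ble (nat_lit 1849) i)) (@Bool.rec (fun _ => ℕ) rb1850 rb1851 (Nat.ble (nat_lit 1851) i)) (Nat.ble (nat_lit 1850) i)) (@Bool.rec (fun _ => ℕ) (@Bool.rec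 (fun _ => ℕ) rb1852 rb1853 (Nat.ble (nat_lit 1853) i)) (@Bool.rec (fun _ => ℕ) rb1854 rb1855 (Nat.ble (nat_lit 1855) i)) (Nat.ble (nat_lit 1854) i)) (Nat.ble (nat_lit 1852) i)) (Nat.ble (nat_lit 1848) i)) (Nat.ble (nat_lit 1840) i))

def rowBlk_n0_58 (i : ℕ) : ℕ := (@Bool.rec (fun _ => ℕ) (@Bool.rec (fun _ => ℕ) (@Bool.rec (fun _ => ℕ) (@Bool.rec (fun _ => ℕ) (@Bool.rec (fun _ => ℕ) rb1856 rb1857 (Nat.ble (nat_lit 1857) i)) (@Bool.rec (fun _ => ℕ) rb1858 rb1859 (Nat.ble (nat_lit 1859) i)) (Nat.ble (nat_lit 1858) i)) (@Bool.rec (fun _ => ℕ) (@Bool.rec (fun _ => ℕ) rb1860 rb1861 (Nat.ble (nat_lit 1861) i)) (@Bool.rec (fun _ => ℕ) rb1862 rb1863 (Nat.ble (nat_lit 1863) i)) (Nat.ble (nat_lit 1862) i)) (Nat.ble (nat_lit 1860) i)) (@Bool.rec (fun _ => ℕ) (@Bool.rec (fun _ => ℕ) (@Bool.rec (fun _ => ℕ) rb1864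 rb1865 (Nat.ble (nat_lit 1865) i)) (@Bool.rec (fun _ => ℕ) rb1866 rb1867 (Nat.ble (nat_lit 1867) i)) (Nat.ble (nat_lit 1866) i)) (@Bool.rec (fun _ => ℕ) (@Bool.rec (fun _ => ℕ) rb1868 rb1869 (Nat.ble (nat_lit 1869) i)) (@Bool.rec (fun _ => ℕ) rb1870 rb1871 (Nat.ble (nat_lit 1871) i)) (Nat.ble (nat_lit 1870) i)) (Nat.ble (nat_lit 1868) i)) (Nat.ble (nat_lit 1864) i)) (@Bool.rec (fun _ => ℕ) (@Bool.rec (fun _ => ℕ) (@Bool.rec (fun _ => ℕ) (@Bool.rec (fun _ => ℕ) rb1872 rb1873 (Nat.ble (nat_lit 1873) i)) (@Bool.rec (fun _ => ℕ) rb1874 rb1875 (Nat.ble (nat_lit 1875) i)) (Nat.ble (nat_lit 1874) i)) (@Bool.rec (fun _ => ℕ) (@Bool.rec (fun _ => ℕ) rb1876 rb1877 (Nat.ble (nat_lit 1877) i)) (@Bool.rec (fun _ => ℕ) rb1878 rb1879 (Nat.ble (nat_lit 1879) i)) (Nat.ble (nat_lit 1878) i)) (Nat.ble (nat_lit 1876) i))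 (@Bool.rec (fun _ => ℕ) (@Bool.rec (fun _ => ℕ) (@Bool.rec (fun _ => ℕ) rb1880 rb1881 (Nat.ble (nat_lit 1881) i)) (@Bool.rec (fun _ => ℕ) rb1882 rb1883 (Nat.ble (nat_lit 1883) i)) (Nat.ble (nat_lit 1882) i)) (@Bool.rec (fun _ => ℕ) (@Bool.rec (fun _ => ℕ) rb1884 rb1885 (Nat.ble (nat_lit 1885) i)) (@Bool.rec (fun _ => ℕ) rb1886 rb1887 (Nat.ble (nat_lit 1887) i)) (Nat.ble (nat_lit 1886) i)) (Nat.ble (nat_lit 1884) i)) (Nat.ble (nat_lit 1880) i)) (Nat.ble (nat_lit 1872) i))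

def rowBlk_n0_59 (i : ℕ) : ℕ := (@Bool.rec (fun _ => ℕ) (@Bool.rec (fun _ => ℕ) (@Bool.rec (fun _ => ℕ) (@Bool.rec (fun _ => ℕ) (@Bool.rec (fun _ => ℕ) rb1888 rb1889 (Nat.ble (nat_lit 1889) i)) (@Bool.rec (fun _ => ℕ) rb1890 rb1891 (Nat.ble (nat_lit 1891) i)) (Nat.ble (nat_lit 1890) i)) (@Bool.rec (fun _ => ℕ) (@Bool.rec (fun _ => ℕ) rb1892 rb1893 (Nat.ble (nat_lit 1893) i)) (@Bool.rec (fun _ => ℕ) rb1894 rb1895 (Nat.ble (nat_lit 1895) i)) (Nat.ble (nat_lit 1894) i)) (Nat.ble (nat_lit 1892) i)) (@Bool.rec (fun _ => ℕ) (@Bool.rec (fun _ => ℕ) (@Bool.rec (fun _ => ℕ) rb1896 rb1897 (Nat.ble (nat_lit 1897) i)) (@Bool.rec (fun _ => ℕ) rb1898 rb1899 (Nat.ble (nat_lit 1899) i)) (Nat.ble (nat_lit 1898) i)) (@Bool.rec (fun _ => ℕ) (@Bool.rec (fun _ => ℕ) rb1900 rb1901 (Nat.ble (nat_lit 1901) i)) (@Bool.rec (fun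 _ => ℕ) rb1902 rb1903 (Nat.ble (nat_lit 1903) i)) (Nat.ble (nat_lit 1902) i)) (Nat.ble (nat_lit 1900) i)) (Nat.ble (nat_lit 1896) i)) (@Bool.rec (fun _ => ℕ) (@Bool.rec (fun _ => ℕ) (@Bool.rec (fun _ => ℕ) (@Bool.rec (fun _ => ℕ) rb1904 rb1905 (Nat.ble (nat_lit 1905) i)) (@Bool.rec (fun _ => ℕ) rb1906 rb1907 (Nat.ble (nat_lit 1907) i)) (Nat.ble (nat_lit 1906) i)) (@Bool.rec (fun _ => ℕ) (@Bool.rec (fun _ => ℕ) rb1908 rb1909 (Nat.ble (nat_lit 1909) i)) (@Bool.rec (fun _ => ℕ) rb1910 rb1911 (Nat.ble (nat_lit 1911) i)) (Nat.ble (nat_lit 1910) i)) (Nat.ble (nat_lit 1908) i)) (@Bool.rec (fun _ => ℕ) (@Bool.rec (fun _ => ℕ) (@Bool.rec (fun _ => ℕ) rb1912 rb1913 (Nat.ble (nat_lit 1913) i)) (@Bool.rec (fun _ => ℕ) rb1914 rb1915 (Nat.ble (nat_lit 1915) i)) (Nat.ble (nat_lit 1914) i)) (@Bool.rec (fun _ => ℕ) (@Bool.rec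 (fun _ => ℕ) rb1916 rb1917 (Nat.ble (nat_lit 1917) i)) (@Bool.rec (fun _ => ℕ) rb1918 rb1919 (Nat.ble (nat_lit 1919) i)) (Nat.ble (nat_lit 1918) i)) (Nat.ble (nat_lit 1916) i)) (Nat.ble (nat_lit 1912) i)) (Nat.ble (nat_lit 1904) i))

def rowBlk_n0_60 (i : ℕ) : ℕ := (@Bool.rec (fun _ => ℕ) (@Bool.rec (fun _ => ℕ) (@Bool.rec (fun _ => ℕ) (@Bool.rec (fun _ => ℕ) (@Bool.rec (fun _ => ℕ) rb1920 rb1921 (Nat.ble (nat_lit 1921) i)) (@Bool.rec (fun _ => ℕ) rb1922 rb1923 (Nat.ble (nat_lit 1923) i)) (Nat.ble (nat_lit 1922) i)) (@Bool.rec (fun _ => ℕ) (@Bool.rec (fun _ => ℕ) rb1924 rb1925 (Nat.ble (nat_lit 1925) i)) (@Bool.rec (fun _ => ℕ) rb1926 rb1927 (Nat.ble (nat_lit 1927) i)) (Nat.ble (nat_lit 1926) i)) (Nat.ble (nat_lit 1924) i)) (@Bool.rec (fun _ => ℕ) (@Bool.rec (fun _ => ℕ) (@Bool.rec (fun _ => ℕ) rb1928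 rb1929 (Nat.ble (nat_lit 1929) i)) (@Bool.rec (fun _ => ℕ) rb1930 rb1931 (Nat.ble (nat_lit 1931) i)) (Nat.ble (nat_lit 1930) i)) (@Bool.rec (fun _ => ℕ) (@Bool.rec (fun _ => ℕ) rb1932 rb1933 (Nat.ble (nat_lit 1933) i)) (@Bool.rec (fun _ => ℕ) rb1934 rb1935 (Nat.ble (nat_lit 1935) i)) (Nat.ble (nat_lit 1934) i)) (Nat.ble (nat_lit 1932) i)) (Nat.ble (nat_lit 1928) i)) (@Bool.rec (fun _ => ℕ) (@Bool.rec (fun _ => ℕ) (@Bool.rec (fun _ => ℕ) (@Bool.rec (fun _ => ℕ) rb1936 rb1937 (Nat.ble (nat_lit 1937) i)) (@Bool.rec (fun _ => ℕ) rb1938 rb1939 (Nat.ble (nat_lit 1939) i)) (Nat.ble (nat_lit 1938) i)) (@Bool.rec (fun _ => ℕ) (@Bool.rec (fun _ => ℕ) rb1940 rb1941 (Nat.ble (nat_lit 1941) i)) (@Bool.rec (fun _ => ℕ) rb1942 rb1943 (Nat.ble (nat_lit 1943) i)) (Nat.ble (nat_lit 1942) i)) (Nat.ble (nat_lit 1940) i))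 (@Bool.rec (fun _ => ℕ) (@Bool.rec (fun _ => ℕ) (@Bool.rec (fun _ => ℕ) rb1944 rb1945 (Nat.ble (nat_lit 1945) i)) (@Bool.rec (fun _ => ℕ) rb1946 rb1947 (Nat.ble (nat_lit 1947) i)) (Nat.ble (nat_lit 1946) i)) (@Bool.rec (fun _ => ℕ) (@Bool.rec (fun _ => ℕ) rb1948 rb1949 (Nat.ble (nat_lit 1949) i)) (@Bool.rec (fun _ => ℕ) rb1950 rb1951 (Nat.ble (nat_lit 1951) i)) (Nat.ble (nat_lit 1950) i)) (Nat.ble (nat_lit 1948) i)) (Nat.ble (nat_lit 1944) i)) (Nat.ble (nat_lit 1936) i))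

def rowBlk_n0_61 (i : ℕ) : ℕ := (@Bool.rec (fun _ => ℕ) (@Bool.rec (fun _ => ℕ) (@Bool.rec (fun _ => ℕ) (@Bool.rec (fun _ => ℕ) (@Bool.rec (fun _ => ℕ) rb1952 rb1953 (Nat.ble (nat_lit 1953) i)) (@Bool.rec (fun _ => ℕ) rb1954 rb1955 (Nat.ble (nat_lit 1955) i)) (Nat.ble (nat_lit 1954) i)) (@Bool.rec (fun _ => ℕ) (@Bool.rec (fun _ => ℕ) rb1956 rb1957 (Nat.ble (nat_lit 1957) i)) (@Bool.rec (fun _ => ℕ) rb1958 rb1959 (Nat.ble (nat_lit 1959) i)) (Nat.ble (nat_lit 1958) i)) (Nat.ble (nat_lit 1956) i)) (@Bool.rec (fun _ => ℕ) (@Bool.rec (fun _ => ℕ) (@Bool.rec (fun _ => ℕ) rb1960 rb1961 (Nat.ble (nat_lit 1961) i)) (@Bool.rec (fun _ => ℕ) rb1962 rb1963 (Nat.ble (nat_lit 1963) i)) (Nat.ble (nat_lit 1962) i)) (@Bool.rec (fun _ => ℕ) (@Bool.rec (fun _ => ℕ) rb1964 rb1965 (Nat.ble (nat_lit 1965) i)) (@Bool.rec (fun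 _ => ℕ) rb1966 rb1967 (Nat.ble (nat_lit 1967) i)) (Nat.ble (nat_lit 1966) i)) (Nat.ble (nat_lit 1964) i)) (Nat.ble (nat_lit 1960) i)) (@Bool.rec (fun _ => ℕ) (@Bool.rec (fun _ => ℕ) (@Bool.rec (fun _ => ℕ) (@Bool.rec (fun _ => ℕ) rb1968 rb1969 (Nat.ble (nat_lit 1969) i)) (@Bool.rec (fun _ => ℕ) rb1970 rb1971 (Nat.ble (nat_lit 1971) i)) (Nat.ble (nat_lit 1970) i)) (@Bool.rec (fun _ => ℕ) (@Bool.rec (fun _ => ℕ) rb1972 rb1973 (Nat.ble (nat_lit 1973) i)) (@Bool.rec (fun _ => ℕ) rb1974 rb1975 (Nat.ble (nat_lit 1975) i)) (Nat.ble (nat_lit 1974) i)) (Nat.ble (nat_lit 1972) i)) (@Bool.rec (fun _ => ℕ) (@Bool.rec (fun _ => ℕ) (@Bool.rec (fun _ => ℕ) rb1976 rb1977 (Nat.ble (nat_lit 1977) i)) (@Bool.rec (fun _ => ℕ) rb1978 rb1979 (Nat.ble (nat_lit 1979) i)) (Nat.ble (nat_lit 1978) i)) (@Bool.rec (fun _ => ℕ) (@Bool.rec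 (fun _ => ℕ) rb1980 rb1981 (Nat.ble (nat_lit 1981) i)) (@Bool.rec (fun _ => ℕ) rb1982 rb1983 (Nat.ble (nat_lit 1983) i)) (Nat.ble (nat_lit 1982) i)) (Nat.ble (nat_lit 1980) i)) (Nat.ble (nat_lit 1976) i)) (Nat.ble (nat_lit 1968) i))

def rowBlk_n0_62 (i : ℕ) : ℕ := (@Bool.rec (fun _ => ℕ) (@Bool.rec (fun _ => ℕ) (@Bool.rec (fun _ => ℕ) (@Bool.rec (fun _ => ℕ) (@Bool.rec (fun _ => ℕ) rb1984 rb1985 (Nat.ble (nat_lit 1985) i)) (@Bool.rec (fun _ => ℕ) rb1986 rb1987 (Nat.ble (nat_lit 1987) i)) (Nat.ble (nat_lit 1986) i)) (@Bool.rec (fun _ => ℕ) (@Bool.rec (fun _ => ℕ) rb1988 rb1989 (Nat.ble (nat_lit 1989) i)) (@Bool.rec (fun _ => ℕ) rb1990 rb1991 (Nat.ble (nat_lit 1991) i)) (Nat.ble (nat_lit 1990) i)) (Nat.ble (nat_lit 1988) i)) (@Bool.rec (fun _ => ℕ) (@Bool.rec (fun _ => ℕ) (@Bool.rec (fun _ => ℕ) rb1992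 rb1993 (Nat.ble (nat_lit 1993) i)) (@Bool.rec (fun _ => ℕ) rb1994 rb1995 (Nat.ble (nat_lit 1995) i)) (Nat.ble (nat_lit 1994) i)) (@Bool.rec (fun _ => ℕ) (@Bool.rec (fun _ => ℕ) rb1996 rb1997 (Nat.ble (nat_lit 1997) i)) (@Bool.rec (fun _ => ℕ) rb1998 rb1999 (Nat.ble (nat_lit 1999) i)) (Nat.ble (nat_lit 1998) i)) (Nat.ble (nat_lit 1996) i)) (Nat.ble (nat_lit 1992) i)) (@Bool.rec (fun _ => ℕ) (@Bool.rec (fun _ => ℕ) (@Bool.rec (fun _ => ℕ) (@Bool.rec (fun _ => ℕ) rb2000 rb2001 (Nat.ble (nat_lit 2001) i)) (@Bool.rec (fun _ => ℕ) rb2002 rb2003 (Nat.ble (nat_lit 2003) i)) (Nat.ble (nat_lit 2002) i)) (@Bool.rec (fun _ => ℕ) (@Bool.rec (fun _ => ℕ) rb2004 rb2005 (Nat.ble (nat_lit 2005) i)) (@Bool.rec (fun _ => ℕ) rb2006 rb2007 (Nat.ble (nat_lit 2007) i)) (Nat.ble (nat_lit 2006) i)) (Nat.ble (nat_lit 2004) i))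 (@Bool.rec (fun _ => ℕ) (@Bool.rec (fun _ => ℕ) (@Bool.rec (fun _ => ℕ) rb2008 rb2009 (Nat.ble (nat_lit 2009) i)) (@Bool.rec (fun _ => ℕ) rb2010 rb2011 (Nat.ble (nat_lit 2011) i)) (Nat.ble (nat_lit 2010) i)) (@Bool.rec (fun _ => ℕ) (@Bool.rec (fun _ => ℕ) rb2012 rb2013 (Nat.ble (nat_lit 2013) i)) (@Bool.rec (fun _ => ℕ) rb2014 rb2015 (Nat.ble (nat_lit 2015) i)) (Nat.ble (nat_lit 2014) i)) (Nat.ble (nat_lit 2012) i)) (Nat.ble (nat_lit 2008) i)) (Nat.ble (nat_lit 2000) i))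

def rowBlk_n0_63 (i : ℕ) : ℕ := (@Bool.rec (fun _ => ℕ) (@Bool.rec (fun _ => ℕ) (@Bool.rec (fun _ => ℕ) (@Bool.rec (fun _ => ℕ) (@Bool.rec (fun _ => ℕ) rb2016 rb2017 (Nat.ble (nat_lit 2017) i)) (@Bool.rec (fun _ => ℕ) rb2018 rb2019 (Nat.ble (nat_lit 2019) i)) (Nat.ble (nat_lit 2018) i)) (@Bool.rec (fun _ => ℕ) (@Bool.rec (fun _ => ℕ) rb2020 rb2021 (Nat.ble (nat_lit 2021) i)) (@Bool.rec (fun _ => ℕ) rb2022 rb2023 (Nat.ble (nat_lit 2023) i)) (Nat.ble (nat_lit 2022) i)) (Nat.ble (nat_lit 2020) i)) (@Bool.rec (fun _ => ℕ) (@Bool.rec (fun _ => ℕ) (@Bool.rec (fun _ => ℕ) rb2024 rb2025 (Nat.ble (nat_lit 2025) i)) (@Bool.rec (fun _ => ℕ) rb2026 rb2027 (Nat.ble (nat_lit 2027) i)) (Nat.ble (nat_lit 2026) i)) (@Bool.rec (fun _ => ℕ) (@Bool.rec (fun _ => ℕ) rb2028 rb2029 (Nat.ble (nat_lit 2029) i)) (@Bool.rec (fun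 _ => ℕ) rb2030 rb2031 (Nat.ble (nat_lit 2031) i)) (Nat.ble (nat_lit 2030) i)) (Nat.ble (nat_lit 2028) i)) (Nat.ble (nat_lit 2024) i)) (@Bool.rec (fun _ => ℕ) (@Bool.rec (fun _ => ℕ) (@Bool.rec (fun _ => ℕ) (@Bool.rec (fun _ => ℕ) rb2032 rb2033 (Nat.ble (nat_lit 2033) i)) (@Bool.rec (fun _ => ℕ) rb2034 rb2035 (Nat.ble (nat_lit 2035) i)) (Nat.ble (nat_lit 2034) i)) (@Bool.rec (fun _ => ℕ) (@Bool.rec (fun _ => ℕ) rb2036 rb2037 (Nat.ble (nat_lit 2037) i)) (@Bool.rec (fun _ => ℕ) rb2038 rb2039 (Nat.ble (nat_lit 2039) i)) (Nat.ble (nat_lit 2038) i)) (Nat.ble (nat_lit 2036) i)) (@Bool.rec (fun _ => ℕ) (@Bool.rec (fun _ => ℕ) (@Bool.rec (fun _ => ℕ) rb2040 rb2041 (Nat.ble (nat_lit 2041) i)) (@Bool.rec (fun _ => ℕ) rb2042 rb2043 (Nat.ble (nat_lit 2043) i)) (Nat.ble (nat_lit 2042) i)) (@Bool.rec (fun _ => ℕ) (@Bool.rec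 (fun _ => ℕ) rb2044 rb2045 (Nat.ble (nat_lit 2045) i)) (@Bool.rec (fun _ => ℕ) rb2046 rb2047 (Nat.ble (nat_lit 2047) i)) (Nat.ble (nat_lit 2046) i)) (Nat.ble (nat_lit 2044) i)) (Nat.ble (nat_lit 2040) i)) (Nat.ble (nat_lit 2032) i))

def rowBlk_n0_64 (i : ℕ) : ℕ := (@Bool.rec (fun _ => ℕ) (@Bool.rec (fun _ => ℕ) (@Bool.rec (fun _ => ℕ) (@Bool.rec (fun _ => ℕ) (@Bool.rec (fun _ => ℕ) rb2048 rb2049 (Nat.ble (nat_lit 2049) i)) (@Bool.rec (fun _ => ℕ) rb2050 rb2051 (Nat.ble (nat_lit 2051) i)) (Nat.ble (nat_lit 2050) i)) (@Bool.rec (fun _ => ℕ) (@Bool.rec (fun _ => ℕ) rb2052 rb2053 (Nat.ble (nat_lit 2053) i)) (@Bool.rec (fun _ => ℕ) rb2054 rb2055 (Nat.ble (nat_lit 2055) i)) (Nat.ble (nat_lit 2054) i)) (Nat.ble (nat_lit 2052) i)) (@Bool.rec (fun _ => ℕ) (@Bool.rec (fun _ => ℕ) (@Bool.rec (fun _ => ℕ) rb2056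 rb2057 (Nat.ble (nat_lit 2057) i)) (@Bool.rec (fun _ => ℕ) rb2058 rb2059 (Nat.ble (nat_lit 2059) i)) (Nat.ble (nat_lit 2058) i)) (@Bool.rec (fun _ => ℕ) (@Bool.rec (fun _ => ℕ) rb2060 rb2061 (Nat.ble (nat_lit 2061) i)) (@Bool.rec (fun _ => ℕ) rb2062 rb2063 (Nat.ble (nat_lit 2063) i)) (Nat.ble (nat_lit 2062) i)) (Nat.ble (nat_lit 2060) i)) (Nat.ble (nat_lit 2056) i)) (@Bool.rec (fun _ => ℕ) (@Bool.rec (fun _ => ℕ) (@Bool.rec (fun _ => ℕ) (@Bool.rec (fun _ => ℕ) rb2064 rb2065 (Nat.ble (nat_lit 2065) i)) (@Bool.rec (fun _ => ℕ) rb2066 rb2067 (Nat.ble (nat_lit 2067) i)) (Nat.ble (nat_lit 2066) i)) (@Bool.rec (fun _ => ℕ) (@Bool.rec (fun _ => ℕ) rb2068 rb2069 (Nat.ble (nat_lit 2069) i)) (@Bool.rec (fun _ => ℕ) rb2070 rb2071 (Nat.ble (nat_lit 2071) i)) (Nat.ble (nat_lit 2070) i)) (Nat.ble (nat_lit 2068) i))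 (@Bool.rec (fun _ => ℕ) (@Bool.rec (fun _ => ℕ) (@Bool.rec (fun _ => ℕ) rb2072 rb2073 (Nat.ble (nat_lit 2073) i)) (@Bool.rec (fun _ => ℕ) rb2074 rb2075 (Nat.ble (nat_lit 2075) i)) (Nat.ble (nat_lit 2074) i)) (@Bool.rec (fun _ => ℕ) (@Bool.rec (fun _ => ℕ) rb2076 rb2077 (Nat.ble (nat_lit 2077) i)) (@Bool.rec (fun _ => ℕ) rb2078 rb2079 (Nat.ble (nat_lit 2079) i)) (Nat.ble (nat_lit 2078) i)) (Nat.ble (nat_lit 2076) i)) (Nat.ble (nat_lit 2072) i)) (Nat.ble (nat_lit 2064) i))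

def rowBlk_n0_65 (i : ℕ) : ℕ := (@Bool.rec (fun _ => ℕ) (@Bool.rec (fun _ => ℕ) (@Bool.rec (fun _ => ℕ) (@Bool.rec (fun _ => ℕ) (@Bool.rec (fun _ => ℕ) rb2080 rb2081 (Nat.ble (nat_lit 2081) i)) (@Bool.rec (fun _ => ℕ) rb2082 rb2083 (Nat.ble (nat_lit 2083) i)) (Nat.ble (nat_lit 2082) i)) (@Bool.rec (fun _ => ℕ) (@Bool.rec (fun _ => ℕ) rb2084 rb2085 (Nat.ble (nat_lit 2085) i)) (@Bool.rec (fun _ => ℕ) rb2086 rb2087 (Nat.ble (nat_lit 2087) i)) (Nat.ble (nat_lit 2086) i)) (Nat.ble (nat_lit 2084) i)) (@Bool.rec (fun _ => ℕ) (@Bool.rec (fun _ => ℕ) (@Bool.rec (fun _ => ℕ) rb2088 rb2089 (Nat.ble (nat_lit 2089) i)) (@Bool.rec (fun _ => ℕ) rb2090 rb2091 (Nat.ble (nat_lit 2091) i)) (Nat.ble (nat_lit 2090) i)) (@Bool.rec (fun _ => ℕ) (@Bool.rec (fun _ => ℕ) rb2092 rb2093 (Nat.ble (nat_lit 2093) i)) (@Bool.rec (fun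 _ => ℕ) rb2094 rb2095 (Nat.ble (nat_lit 2095) i)) (Nat.ble (nat_lit 2094) i)) (Nat.ble (nat_lit 2092) i)) (Nat.ble (nat_lit 2088) i)) (@Bool.rec (fun _ => ℕ) (@Bool.rec (fun _ => ℕ) (@Bool.rec (fun _ => ℕ) (@Bool.rec (fun _ => ℕ) rb2096 rb2097 (Nat.ble (nat_lit 2097) i)) (@Bool.rec (fun _ => ℕ) rb2098 rb2099 (Nat.ble (nat_lit 2099) i)) (Nat.ble (nat_lit 2098) i)) (@Bool.rec (fun _ => ℕ) (@Bool.rec (fun _ => ℕ) rb2100 rb2101 (Nat.ble (nat_lit 2101) i)) (@Bool.rec (fun _ => ℕ) rb2102 rb2103 (Nat.ble (nat_lit 2103) i)) (Nat.ble (nat_lit 2102) i)) (Nat.ble (nat_lit 2100) i)) (@Bool.rec (fun _ => ℕ) (@Bool.rec (fun _ => ℕ) (@Bool.rec (fun _ => ℕ) rb2104 rb2105 (Nat.ble (nat_lit 2105) i)) (@Bool.rec (fun _ => ℕ) rb2106 rb2107 (Nat.ble (nat_lit 2107) i)) (Nat.ble (nat_lit 2106) i)) (@Bool.rec (fun _ => ℕ) (@Bool.rec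 (fun _ => ℕ) rb2108 rb2109 (Nat.ble (nat_lit 2109) i)) (@Bool.rec (fun _ => ℕ) rb2110 rb2111 (Nat.ble (nat_lit 2111) i)) (Nat.ble (nat_lit 2110) i)) (Nat.ble (nat_lit 2108) i)) (Nat.ble (nat_lit 2104) i)) (Nat.ble (nat_lit 2096) i))

def rowBlk_n0_66 (i : ℕ) : ℕ := (@Bool.rec (fun _ => ℕ) (@Bool.rec (fun _ => ℕ) (@Bool.rec (fun _ => ℕ) (@Bool.rec (fun _ => ℕ) (@Bool.rec (fun _ => ℕ) rb2112 rb2113 (Nat.ble (nat_lit 2113) i)) (@Bool.rec (fun _ => ℕ) rb2114 rb2115 (Nat.ble (nat_lit 2115) i)) (Nat.ble (nat_lit 2114) i)) (@Bool.rec (fun _ => ℕ) (@Bool.rec (fun _ => ℕ) rb2116 rb2117 (Nat.ble (nat_lit 2117) i)) (@Bool.rec (fun _ => ℕ) rb2118 rb2119 (Nat.ble (nat_lit 2119) i)) (Nat.ble (nat_lit 2118) i)) (Nat.ble (nat_lit 2116) i)) (@Bool.rec (fun _ => ℕ) (@Bool.rec (fun _ => ℕ) (@Bool.rec (fun _ => ℕ) rb2120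 rb2121 (Nat.ble (nat_lit 2121) i)) (@Bool.rec (fun _ => ℕ) rb2122 rb2123 (Nat.ble (nat_lit 2123) i)) (Nat.ble (nat_lit 2122) i)) (@Bool.rec (fun _ => ℕ) (@Bool.rec (fun _ => ℕ) rb2124 rb2125 (Nat.ble (nat_lit 2125) i)) (@Bool.rec (fun _ => ℕ) rb2126 rb2127 (Nat.ble (nat_lit 2127) i)) (Nat.ble (nat_lit 2126) i)) (Nat.ble (nat_lit 2124) i)) (Nat.ble (nat_lit 2120) i)) (@Bool.rec (fun _ => ℕ) (@Bool.rec (fun _ => ℕ) (@Bool.rec (fun _ => ℕ) (@Bool.rec (fun _ => ℕ) rb2128 rb2129 (Nat.ble (nat_lit 2129) i)) (@Bool.rec (fun _ => ℕ) rb2130 rb2131 (Nat.ble (nat_lit 2131) i)) (Nat.ble (nat_lit 2130) i)) (@Bool.rec (fun _ => ℕ) (@Bool.rec (fun _ => ℕ) rb2132 rb2133 (Nat.ble (nat_lit 2133) i)) (@Bool.rec (fun _ => ℕ) rb2134 rb2135 (Nat.ble (nat_lit 2135) i)) (Nat.ble (nat_lit 2134) i)) (Nat.ble (nat_lit 2132) i))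 (@Bool.rec (fun _ => ℕ) (@Bool.rec (fun _ => ℕ) (@Bool.rec (fun _ => ℕ) rb2136 rb2137 (Nat.ble (nat_lit 2137) i)) (@Bool.rec (fun _ => ℕ) rb2138 rb2139 (Nat.ble (nat_lit 2139) i)) (Nat.ble (nat_lit 2138) i)) (@Bool.rec (fun _ => ℕ) (@Bool.rec (fun _ => ℕ) rb2140 rb2141 (Nat.ble (nat_lit 2141) i)) (@Bool.rec (fun _ => ℕ) rb2142 rb2143 (Nat.ble (nat_lit 2143) i)) (Nat.ble (nat_lit 2142) i)) (Nat.ble (nat_lit 2140) i)) (Nat.ble (nat_lit 2136) i)) (Nat.ble (nat_lit 2128) i))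

def rowBlk_n0_67 (i : ℕ) : ℕ := (@Bool.rec (fun _ => ℕ) (@Bool.rec (fun _ => ℕ) (@Bool.rec (fun _ => ℕ) (@Bool.rec (fun _ => ℕ) (@Bool.rec (fun _ => ℕ) rb2144 rb2145 (Nat.ble (nat_lit 2145) i)) (@Bool.rec (fun _ => ℕ) rb2146 rb2147 (Nat.ble (nat_lit 2147) i)) (Nat.ble (nat_lit 2146) i)) (@Bool.rec (fun _ => ℕ) (@Bool.rec (fun _ => ℕ) rb2148 rb2149 (Nat.ble (nat_lit 2149) i)) (@Bool.rec (fun _ => ℕ) rb2150 rb2151 (Nat.ble (nat_lit 2151) i)) (Nat.ble (nat_lit 2150) i)) (Nat.ble (nat_lit 2148) i)) (@Bool.rec (fun _ => ℕ) (@Bool.rec (fun _ => ℕ) (@Bool.rec (fun _ => ℕ) rb2152 rb2153 (Nat.ble (nat_lit 2153) i)) (@Bool.rec (fun _ => ℕ) rb2154 rb2155 (Nat.ble (nat_lit 2155) i)) (Nat.ble (nat_lit 2154) i)) (@Bool.rec (fun _ => ℕ) (@Bool.rec (fun _ => ℕ) rb2156 rb2157 (Nat.ble (nat_lit 2157) i)) (@Bool.rec (fun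 _ => ℕ) rb2158 rb2159 (Nat.ble (nat_lit 2159) i)) (Nat.ble (nat_lit 2158) i)) (Nat.ble (nat_lit 2156) i)) (Nat.ble (nat_lit 2152) i)) (@Bool.rec (fun _ => ℕ) (@Bool.rec (fun _ => ℕ) (@Bool.rec (fun _ => ℕ) (@Bool.rec (fun _ => ℕ) rb2160 rb2161 (Nat.ble (nat_lit 2161) i)) (@Bool.rec (fun _ => ℕ) rb2162 rb2163 (Nat.ble (nat_lit 2163) i)) (Nat.ble (nat_lit 2162) i)) (@Bool.rec (fun _ => ℕ) (@Bool.rec (fun _ => ℕ) rb2164 rb2165 (Nat.ble (nat_lit 2165) i)) (@Bool.rec (fun _ => ℕ) rb2166 rb2167 (Nat.ble (nat_lit 2167) i)) (Nat.ble (nat_lit 2166) i)) (Nat.ble (nat_lit 2164) i)) (@Bool.rec (fun _ => ℕ) (@Bool.rec (fun _ => ℕ) (@Bool.rec (fun _ => ℕ) rb2168 rb2169 (Nat.ble (nat_lit 2169) i)) (@Bool.rec (fun _ => ℕ) rb2170 rb2171 (Nat.ble (nat_lit 2171) i)) (Nat.ble (nat_lit 2170) i)) (@Bool.rec (fun _ => ℕ) (@Bool.rec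 (fun _ => ℕ) rb2172 rb2173 (Nat.ble (nat_lit 2173) i)) (@Bool.rec (fun _ => ℕ) rb2174 rb2175 (Nat.ble (nat_lit 2175) i)) (Nat.ble (nat_lit 2174) i)) (Nat.ble (nat_lit 2172) i)) (Nat.ble (nat_lit 2168) i)) (Nat.ble (nat_lit 2160) i))

def rowBlk_n0_68 (i : ℕ) : ℕ := (@Bool.rec (fun _ => ℕ) (@Bool.rec (fun _ => ℕ) (@Bool.rec (fun _ => ℕ) (@Bool.rec (fun _ => ℕ) (@Bool.rec (fun _ => ℕ) rb2176 rb2177 (Nat.ble (nat_lit 2177) i)) (@Bool.rec (fun _ => ℕ) rb2178 rb2179 (Nat.ble (nat_lit 2179) i)) (Nat.ble (nat_lit 2178) i)) (@Bool.rec (fun _ => ℕ) (@Bool.rec (fun _ => ℕ) rb2180 rb2181 (Nat.ble (nat_lit 2181) i)) (@Bool.rec (fun _ => ℕ) rb2182 rb2183 (Nat.ble (nat_lit 2183) i)) (Nat.ble (nat_lit 2182) i)) (Nat.ble (nat_lit 2180) i)) (@Bool.rec (fun _ => ℕ) (@Bool.rec (fun _ => ℕ) (@Bool.rec (fun _ => ℕ) rb2184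 rb2185 (Nat.ble (nat_lit 2185) i)) (@Bool.rec (fun _ => ℕ) rb2186 rb2187 (Nat.ble (nat_lit 2187) i)) (Nat.ble (nat_lit 2186) i)) (@Bool.rec (fun _ => ℕ) (@Bool.rec (fun _ => ℕ) rb2188 rb2189 (Nat.ble (nat_lit 2189) i)) (@Bool.rec (fun _ => ℕ) rb2190 rb2191 (Nat.ble (nat_lit 2191) i)) (Nat.ble (nat_lit 2190) i)) (Nat.ble (nat_lit 2188) i)) (Nat.ble (nat_lit 2184) i)) (@Bool.rec (fun _ => ℕ) (@Bool.rec (fun _ => ℕ) (@Bool.rec (fun _ => ℕ) (@Bool.rec (fun _ => ℕ) rb2192 rb2193 (Nat.ble (nat_lit 2193) i)) (@Bool.rec (fun _ => ℕ) rb2194 rb2195 (Nat.ble (nat_lit 2195) i)) (Nat.ble (nat_lit 2194) i)) (@Bool.rec (fun _ => ℕ) (@Bool.rec (fun _ => ℕ) rb2196 rb2197 (Nat.ble (nat_lit 2197) i)) (@Bool.rec (fun _ => ℕ) rb2198 rb2199 (Nat.ble (nat_lit 2199) i)) (Nat.ble (nat_lit 2198) i)) (Nat.ble (nat_lit 2196) i))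 (@Bool.rec (fun _ => ℕ) (@Bool.rec (fun _ => ℕ) (@Bool.rec (fun _ => ℕ) rb2200 rb2201 (Nat.ble (nat_lit 2201) i)) (@Bool.rec (fun _ => ℕ) rb2202 rb2203 (Nat.ble (nat_lit 2203) i)) (Nat.ble (nat_lit 2202) i)) (@Bool.rec (fun _ => ℕ) (@Bool.rec (fun _ => ℕ) rb2204 rb2205 (Nat.ble (nat_lit 2205) i)) (@Bool.rec (fun _ => ℕ) rb2206 rb2207 (Nat.ble (nat_lit 2207) i)) (Nat.ble (nat_lit 2206) i)) (Nat.ble (nat_lit 2204) i)) (Nat.ble (nat_lit 2200) i)) (Nat.ble (nat_lit 2192) i))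

def rowBlk_n0_69 (i : ℕ) : ℕ := (@Bool.rec (fun _ => ℕ) (@Bool.rec (fun _ => ℕ) (@Bool.rec (fun _ => ℕ) (@Bool.rec (fun _ => ℕ) (@Bool.rec (fun _ => ℕ) rb2208 rb2209 (Nat.ble (nat_lit 2209) i)) (@Bool.rec (fun _ => ℕ) rb2210 rb2211 (Nat.ble (nat_lit 2211) i)) (Nat.ble (nat_lit 2210) i)) (@Bool.rec (fun _ => ℕ) (@Bool.rec (fun _ => ℕ) rb2212 rb2213 (Nat.ble (nat_lit 2213) i)) (@Bool.rec (fun _ => ℕ) rb2214 rb2215 (Nat.ble (nat_lit 2215) i)) (Nat.ble (nat_lit 2214) i)) (Nat.ble (nat_lit 2212) i)) (@Bool.rec (fun _ => ℕ) (@Bool.rec (fun _ => ℕ) (@Bool.rec (fun _ => ℕ) rb2216 rb2217 (Nat.ble (nat_lit 2217) i)) (@Bool.rec (fun _ => ℕ) rb2218 rb2219 (Nat.ble (nat_lit 2219) i)) (Nat.ble (nat_lit 2218) i)) (@Bool.rec (fun _ => ℕ) (@Bool.rec (fun _ => ℕ) rb2220 rb2221 (Nat.ble (nat_lit 2221) i)) (@Bool.rec (fun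 _ => ℕ) rb2222 rb2223 (Nat.ble (nat_lit 2223) i)) (Nat.ble (nat_lit 2222) i)) (Nat.ble (nat_lit 2220) i)) (Nat.ble (nat_lit 2216) i)) (@Bool.rec (fun _ => ℕ) (@Bool.rec (fun _ => ℕ) (@Bool.rec (fun _ => ℕ) (@Bool.rec (fun _ => ℕ) rb2224 rb2225 (Nat.ble (nat_lit 2225) i)) (@Bool.rec (fun _ => ℕ) rb2226 rb2227 (Nat.ble (nat_lit 2227) i)) (Nat.ble (nat_lit 2226) i)) (@Bool.rec (fun _ => ℕ) (@Bool.rec (fun _ => ℕ) rb2228 rb2229 (Nat.ble (nat_lit 2229) i)) (@Bool.rec (fun _ => ℕ) rb2230 rb2231 (Nat.ble (nat_lit 2231) i)) (Nat.ble (nat_lit 2230) i)) (Nat.ble (nat_lit 2228) i)) (@Bool.rec (fun _ => ℕ) (@Bool.rec (fun _ => ℕ) (@Bool.rec (fun _ => ℕ) rb2232 rb2233 (Nat.ble (nat_lit 2233) i)) (@Bool.rec (fun _ => ℕ) rb2234 rb2235 (Nat.ble (nat_lit 2235) i)) (Nat.ble (nat_lit 2234) i)) (@Bool.rec (fun _ => ℕ) (@Bool.rec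 (fun _ => ℕ) rb2236 rb2237 (Nat.ble (nat_lit 2237) i)) (@Bool.rec (fun _ => ℕ) rb2238 rb2239 (Nat.ble (nat_lit 2239) i)) (Nat.ble (nat_lit 2238) i)) (Nat.ble (nat_lit 2236) i)) (Nat.ble (nat_lit 2232) i)) (Nat.ble (nat_lit 2224) i))

def rowBlk_n0_70 (i : ℕ) : ℕ := (@Bool.rec (fun _ => ℕ) (@Bool.rec (fun _ => ℕ) (@Bool.rec (fun _ => ℕ) (@Bool.rec (fun _ => ℕ) (@Bool.rec (fun _ => ℕ) rb2240 rb2241 (Nat.ble (nat_lit 2241) i)) (@Bool.rec (fun _ => ℕ) rb2242 rb2243 (Nat.ble (nat_lit 2243) i)) (Nat.ble (nat_lit 2242) i)) (@Bool.rec (fun _ => ℕ) (@Bool.rec (fun _ => ℕ) rb2244 rb2245 (Nat.ble (nat_lit 2245) i)) (@Bool.rec (fun _ => ℕ) rb2246 rb2247 (Nat.ble (nat_lit 2247) i)) (Nat.ble (nat_lit 2246) i)) (Nat.ble (nat_lit 2244) i)) (@Bool.rec (fun _ => ℕ) (@Bool.rec (fun _ => ℕ) (@Bool.rec (fun _ => ℕ) rb2248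 rb2249 (Nat.ble (nat_lit 2249) i)) (@Bool.rec (fun _ => ℕ) rb2250 rb2251 (Nat.ble (nat_lit 2251) i)) (Nat.ble (nat_lit 2250) i)) (@Bool.rec (fun _ => ℕ) (@Bool.rec (fun _ => ℕ) rb2252 rb2253 (Nat.ble (nat_lit 2253) i)) (@Bool.rec (fun _ => ℕ) rb2254 rb2255 (Nat.ble (nat_lit 2255) i)) (Nat.ble (nat_lit 2254) i)) (Nat.ble (nat_lit 2252) i)) (Nat.ble (nat_lit 2248) i)) (@Bool.rec (fun _ => ℕ) (@Bool.rec (fun _ => ℕ) (@Bool.rec (fun _ => ℕ) (@Bool.rec (fun _ => ℕ) rb2256 rb2257 (Nat.ble (nat_lit 2257) i)) (@Bool.rec (fun _ => ℕ) rb2258 rb2259 (Nat.ble (nat_lit 2259) i)) (Nat.ble (nat_lit 2258) i)) (@Bool.rec (fun _ => ℕ) (@Bool.rec (fun _ => ℕ) rb2260 rb2261 (Nat.ble (nat_lit 2261) i)) (@Bool.rec (fun _ => ℕ) rb2262 rb2263 (Nat.ble (nat_lit 2263) i)) (Nat.ble (nat_lit 2262) i)) (Nat.ble (nat_lit 2260) i))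 (@Bool.rec (fun _ => ℕ) (@Bool.rec (fun _ => ℕ) (@Bool.rec (fun _ => ℕ) rb2264 rb2265 (Nat.ble (nat_lit 2265) i)) (@Bool.rec (fun _ => ℕ) rb2266 rb2267 (Nat.ble (nat_lit 2267) i)) (Nat.ble (nat_lit 2266) i)) (@Bool.rec (fun _ => ℕ) (@Bool.rec (fun _ => ℕ) rb2268 rb2269 (Nat.ble (nat_lit 2269) i)) (@Bool.rec (fun _ => ℕ) rb2270 rb2271 (Nat.ble (nat_lit 2271) i)) (Nat.ble (nat_lit 2270) i)) (Nat.ble (nat_lit 2268) i)) (Nat.ble (nat_lit 2264) i)) (Nat.ble (nat_lit 2256) i))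

def rowBlk_n0_71 (i : ℕ) : ℕ := (@Bool.rec (fun _ => ℕ) (@Bool.rec (fun _ => ℕ) (@Bool.rec (fun _ => ℕ) (@Bool.rec (fun _ => ℕ) (@Bool.rec (fun _ => ℕ) rb2272 rb2273 (Nat.ble (nat_lit 2273) i)) (@Bool.rec (fun _ => ℕ) rb2274 rb2275 (Nat.ble (nat_lit 2275) i)) (Nat.ble (nat_lit 2274) i)) (@Bool.rec (fun _ => ℕ) (@Bool.rec (fun _ => ℕ) rb2276 rb2277 (Nat.ble (nat_lit 2277) i)) (@Bool.rec (fun _ => ℕ) rb2278 rb2279 (Nat.ble (nat_lit 2279) i)) (Nat.ble (nat_lit 2278) i)) (Nat.ble (nat_lit 2276) i)) (@Bool.rec (fun _ => ℕ) (@Bool.rec (fun _ => ℕ) (@Bool.rec (fun _ => ℕ) rb2280 rb2281 (Nat.ble (nat_lit 2281) i)) (@Bool.rec (fun _ => ℕ) rb2282 rb2283 (Nat.ble (nat_lit 2283) i)) (Nat.ble (nat_lit 2282) i)) (@Bool.rec (fun _ => ℕ) (@Bool.rec (fun _ => ℕ) rb2284 rb2285 (Nat.ble (nat_lit 2285) i)) (@Bool.rec (fun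 _ => ℕ) rb2286 rb2287 (Nat.ble (nat_lit 2287) i)) (Nat.ble (nat_lit 2286) i)) (Nat.ble (nat_lit 2284) i)) (Nat.ble (nat_lit 2280) i)) (@Bool.rec (fun _ => ℕ) (@Bool.rec (fun _ => ℕ) (@Bool.rec (fun _ => ℕ) (@Bool.rec (fun _ => ℕ) rb2288 rb2289 (Nat.ble (nat_lit 2289) i)) (@Bool.rec (fun _ => ℕ) rb2290 rb2291 (Nat.ble (nat_lit 2291) i)) (Nat.ble (nat_lit 2290) i)) (@Bool.rec (fun _ => ℕ) (@Bool.rec (fun _ => ℕ) rb2292 rb2293 (Nat.ble (nat_lit 2293) i)) (@Bool.rec (fun _ => ℕ) rb2294 rb2295 (Nat.ble (nat_lit 2295) i)) (Nat.ble (nat_lit 2294) i)) (Nat.ble (nat_lit 2292) i)) (@Bool.rec (fun _ => ℕ) (@Bool.rec (fun _ => ℕ) (@Bool.rec (fun _ => ℕ) rb2296 rb2297 (Nat.ble (nat_lit 2297) i)) (@Bool.rec (fun _ => ℕ) rb2298 rb2299 (Nat.ble (nat_lit 2299) i)) (Nat.ble (nat_lit 2298) i)) (@Bool.rec (fun _ => ℕ) (@Bool.rec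 (fun _ => ℕ) rb2300 rb2301 (Nat.ble (nat_lit 2301) i)) (@Bool.rec (fun _ => ℕ) rb2302 rb2303 (Nat.ble (nat_lit 2303) i)) (Nat.ble (nat_lit 2302) i)) (Nat.ble (nat_lit 2300) i)) (Nat.ble (nat_lit 2296) i)) (Nat.ble (nat_lit 2288) i))

def rowBlk_n0_72 (i : ℕ) : ℕ := (@Bool.rec (fun _ => ℕ) (@Bool.rec (fun _ => ℕ) (@Bool.rec (fun _ => ℕ) (@Bool.rec (fun _ => ℕ) (@Bool.rec (fun _ => ℕ) rb2304 rb2305 (Nat.ble (nat_lit 2305) i)) (@Bool.rec (fun _ => ℕ) rb2306 rb2307 (Nat.ble (nat_lit 2307) i)) (Nat.ble (nat_lit 2306) i)) (@Bool.rec (fun _ => ℕ) (@Bool.rec (fun _ => ℕ) rb2308 rb2309 (Nat.ble (nat_lit 2309) i)) (@Bool.rec (fun _ => ℕ) rb2310 rb2311 (Nat.ble (nat_lit 2311) i)) (Nat.ble (nat_lit 2310) i)) (Nat.ble (nat_lit 2308) i)) (@Bool.rec (fun _ => ℕ) (@Bool.rec (fun _ => ℕ) (@Bool.rec (fun _ => ℕ) rb2312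 rb2313 (Nat.ble (nat_lit 2313) i)) (@Bool.rec (fun _ => ℕ) rb2314 rb2315 (Nat.ble (nat_lit 2315) i)) (Nat.ble (nat_lit 2314) i)) (@Bool.rec (fun _ => ℕ) (@Bool.rec (fun _ => ℕ) rb2316 rb2317 (Nat.ble (nat_lit 2317) i)) (@Bool.rec (fun _ => ℕ) rb2318 rb2319 (Nat.ble (nat_lit 2319) i)) (Nat.ble (nat_lit 2318) i)) (Nat.ble (nat_lit 2316) i)) (Nat.ble (nat_lit 2312) i)) (@Bool.rec (fun _ => ℕ) (@Bool.rec (fun _ => ℕ) (@Bool.rec (fun _ => ℕ) (@Bool.rec (fun _ => ℕ) rb2320 rb2321 (Nat.ble (nat_lit 2321) i)) (@Bool.rec (fun _ => ℕ) rb2322 rb2323 (Nat.ble (nat_lit 2323) i)) (Nat.ble (nat_lit 2322) i)) (@Bool.rec (fun _ => ℕ) (@Bool.rec (fun _ => ℕ) rb2324 rb2325 (Nat.ble (nat_lit 2325) i)) (@Bool.rec (fun _ => ℕ) rb2326 rb2327 (Nat.ble (nat_lit 2327) i)) (Nat.ble (nat_lit 2326) i)) (Nat.ble (nat_lit 2324) i))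 (@Bool.rec (fun _ => ℕ) (@Bool.rec (fun _ => ℕ) (@Bool.rec (fun _ => ℕ) rb2328 rb2329 (Nat.ble (nat_lit 2329) i)) (@Bool.rec (fun _ => ℕ) rb2330 rb2331 (Nat.ble (nat_lit 2331) i)) (Nat.ble (nat_lit 2330) i)) (@Bool.rec (fun _ => ℕ) (@Bool.rec (fun _ => ℕ) rb2332 rb2333 (Nat.ble (nat_lit 2333) i)) (@Bool.rec (fun _ => ℕ) rb2334 rb2335 (Nat.ble (nat_lit 2335) i)) (Nat.ble (nat_lit 2334) i)) (Nat.ble (nat_lit 2332) i)) (Nat.ble (nat_lit 2328) i)) (Nat.ble (nat_lit 2320) i))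

def rowBlk_n0_73 (i : ℕ) : ℕ := (@Bool.rec (fun _ => ℕ) (@Bool.rec (fun _ => ℕ) (@Bool.rec (fun _ => ℕ) (@Bool.rec (fun _ => ℕ) (@Bool.rec (fun _ => ℕ) rb2336 rb2337 (Nat.ble (nat_lit 2337) i)) (@Bool.rec (fun _ => ℕ) rb2338 rb2339 (Nat.ble (nat_lit 2339) i)) (Nat.ble (nat_lit 2338) i)) (@Bool.rec (fun _ => ℕ) (@Bool.rec (fun _ => ℕ) rb2340 rb2341 (Nat.ble (nat_lit 2341) i)) (@Bool.rec (fun _ => ℕ) rb2342 rb2343 (Nat.ble (nat_lit 2343) i)) (Nat.ble (nat_lit 2342) i)) (Nat.ble (nat_lit 2340) i)) (@Bool.rec (fun _ => ℕ) (@Bool.rec (fun _ => ℕ) (@Bool.rec (fun _ => ℕ) rb2344 rb2345 (Nat.ble (nat_lit 2345) i)) (@Bool.rec (fun _ => ℕ) rb2346 rb2347 (Nat.ble (nat_lit 2347) i)) (Nat.ble (nat_lit 2346) i)) (@Bool.rec (fun _ => ℕ) (@Bool.rec (fun _ => ℕ) rb2348 rb2349 (Nat.ble (nat_lit 2349) i)) (@Bool.rec (fun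 _ => ℕ) rb2350 rb2351 (Nat.ble (nat_lit 2351) i)) (Nat.ble (nat_lit 2350) i)) (Nat.ble (nat_lit 2348) i)) (Nat.ble (nat_lit 2344) i)) (@Bool.rec (fun _ => ℕ) (@Bool.rec (fun _ => ℕ) (@Bool.rec (fun _ => ℕ) (@Bool.rec (fun _ => ℕ) rb2352 rb2353 (Nat.ble (nat_lit 2353) i)) (@Bool.rec (fun _ => ℕ) rb2354 rb2355 (Nat.ble (nat_lit 2355) i)) (Nat.ble (nat_lit 2354) i)) (@Bool.rec (fun _ => ℕ) (@Bool.rec (fun _ => ℕ) rb2356 rb2357 (Nat.ble (nat_lit 2357) i)) (@Bool.rec (fun _ => ℕ) rb2358 rb2359 (Nat.ble (nat_lit 2359) i)) (Nat.ble (nat_lit 2358) i)) (Nat.ble (nat_lit 2356) i)) (@Bool.rec (fun _ => ℕ) (@Bool.rec (fun _ => ℕ) (@Bool.rec (fun _ => ℕ) rb2360 rb2361 (Nat.ble (nat_lit 2361) i)) (@Bool.rec (fun _ => ℕ) rb2362 rb2363 (Nat.ble (nat_lit 2363) i)) (Nat.ble (nat_lit 2362) i)) (@Bool.rec (fun _ => ℕ) (@Bool.rec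 (fun _ => ℕ) rb2364 rb2365 (Nat.ble (nat_lit 2365) i)) (@Bool.rec (fun _ => ℕ) rb2366 rb2367 (Nat.ble (nat_lit 2367) i)) (Nat.ble (nat_lit 2366) i)) (Nat.ble (nat_lit 2364) i)) (Nat.ble (nat_lit 2360) i)) (Nat.ble (nat_lit 2352) i))

def rowBlk_n0_74 (i : ℕ) : ℕ := (@Bool.rec (fun _ => ℕ) (@Bool.rec (fun _ => ℕ) (@Bool.rec (fun _ => ℕ) (@Bool.rec (fun _ => ℕ) (@Bool.rec (fun _ => ℕ) rb2368 rb2369 (Nat.ble (nat_lit 2369) i)) (@Bool.rec (fun _ => ℕ) rb2370 rb2371 (Nat.ble (nat_lit 2371) i)) (Nat.ble (nat_lit 2370) i)) (@Bool.rec (fun _ => ℕ) (@Bool.rec (fun _ => ℕ) rb2372 rb2373 (Nat.ble (nat_lit 2373) i)) (@Bool.rec (fun _ => ℕ) rb2374 rb2375 (Nat.ble (nat_lit 2375) i)) (Nat.ble (nat_lit 2374) i)) (Nat.ble (nat_lit 2372) i)) (@Bool.rec (fun _ => ℕ) (@Bool.rec (fun _ => ℕ) (@Bool.rec (fun _ => ℕ) rb2376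 rb2377 (Nat.ble (nat_lit 2377) i)) (@Bool.rec (fun _ => ℕ) rb2378 rb2379 (Nat.ble (nat_lit 2379) i)) (Nat.ble (nat_lit 2378) i)) (@Bool.rec (fun _ => ℕ) (@Bool.rec (fun _ => ℕ) rb2380 rb2381 (Nat.ble (nat_lit 2381) i)) (@Bool.rec (fun _ => ℕ) rb2382 rb2383 (Nat.ble (nat_lit 2383) i)) (Nat.ble (nat_lit 2382) i)) (Nat.ble (nat_lit 2380) i)) (Nat.ble (nat_lit 2376) i)) (@Bool.rec (fun _ => ℕ) (@Bool.rec (fun _ => ℕ) (@Bool.rec (fun _ => ℕ) (@Bool.rec (fun _ => ℕ) rb2384 rb2385 (Nat.ble (nat_lit 2385) i)) (@Bool.rec (fun _ => ℕ) rb2386 rb2387 (Nat.ble (nat_lit 2387) i)) (Nat.ble (nat_lit 2386) i)) (@Bool.rec (fun _ => ℕ) (@Bool.rec (fun _ => ℕ) rb2388 rb2389 (Nat.ble (nat_lit 2389) i)) (@Bool.rec (fun _ => ℕ) rb2390 rb2391 (Nat.ble (nat_lit 2391) i)) (Nat.ble (nat_lit 2390) i)) (Nat.ble (nat_lit 2388) i))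 (@Bool.rec (fun _ => ℕ) (@Bool.rec (fun _ => ℕ) (@Bool.rec (fun _ => ℕ) rb2392 rb2393 (Nat.ble (nat_lit 2393) i)) (@Bool.rec (fun _ => ℕ) rb2394 rb2395 (Nat.ble (nat_lit 2395) i)) (Nat.ble (nat_lit 2394) i)) (@Bool.rec (fun _ => ℕ) (@Bool.rec (fun _ => ℕ) rb2396 rb2397 (Nat.ble (nat_lit 2397) i)) (@Bool.rec (fun _ => ℕ) rb2398 rb2399 (Nat.ble (nat_lit 2399) i)) (Nat.ble (nat_lit 2398) i)) (Nat.ble (nat_lit 2396) i)) (Nat.ble (nat_lit 2392) i)) (Nat.ble (nat_lit 2384) i))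

def rowBlk_n0_75 (i : ℕ) : ℕ := (@Bool.rec (fun _ => ℕ) (@Bool.rec (fun _ => ℕ) (@Bool.rec (fun _ => ℕ) (@Bool.rec (fun _ => ℕ) (@Bool.rec (fun _ => ℕ) rb2400 rb2401 (Nat.ble (nat_lit 2401) i)) (@Bool.rec (fun _ => ℕ) rb2402 rb2403 (Nat.ble (nat_lit 2403) i)) (Nat.ble (nat_lit 2402) i)) (@Bool.rec (fun _ => ℕ) (@Bool.rec (fun _ => ℕ) rb2404 rb2405 (Nat.ble (nat_lit 2405) i)) (@Bool.rec (fun _ => ℕ) rb2406 rb2407 (Nat.ble (nat_lit 2407) i)) (Nat.ble (nat_lit 2406) i)) (Nat.ble (nat_lit 2404) i)) (@Bool.rec (fun _ => ℕ) (@Bool.rec (fun _ => ℕ) (@Bool.rec (fun _ => ℕ) rb2408 rb2409 (Nat.ble (nat_lit 2409) i)) (@Bool.rec (fun _ => ℕ) rb2410 rb2411 (Nat.ble (nat_lit 2411) i)) (Nat.ble (nat_lit 2410) i)) (@Bool.rec (fun _ => ℕ) (@Bool.rec (fun _ => ℕ) rb2412 rb2413 (Nat.ble (nat_lit 2413) i)) (@Bool.rec (fun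 _ => ℕ) rb2414 rb2415 (Nat.ble (nat_lit 2415) i)) (Nat.ble (nat_lit 2414) i)) (Nat.ble (nat_lit 2412) i)) (Nat.ble (nat_lit 2408) i)) (@Bool.rec (fun _ => ℕ) (@Bool.rec (fun _ => ℕ) (@Bool.rec (fun _ => ℕ) (@Bool.rec (fun _ => ℕ) rb2416 rb2417 (Nat.ble (nat_lit 2417) i)) (@Bool.rec (fun _ => ℕ) rb2418 rb2419 (Nat.ble (nat_lit 2419) i)) (Nat.ble (nat_lit 2418) i)) (@Bool.rec (fun _ => ℕ) (@Bool.rec (fun _ => ℕ) rb2420 rb2421 (Nat.ble (nat_lit 2421) i)) (@Bool.rec (fun _ => ℕ) rb2422 rb2423 (Nat.ble (nat_lit 2423) i)) (Nat.ble (nat_lit 2422) i)) (Nat.ble (nat_lit 2420) i)) (@Bool.rec (fun _ => ℕ) (@Bool.rec (fun _ => ℕ) (@Bool.rec (fun _ => ℕ) rb2424 rb2425 (Nat.ble (nat_lit 2425) i)) (@Bool.rec (fun _ => ℕ) rb2426 rb2427 (Nat.ble (nat_lit 2427) i)) (Nat.ble (nat_lit 2426) i)) (@Bool.rec (fun _ => ℕ) (@Bool.rec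 (fun _ => ℕ) rb2428 rb2429 (Nat.ble (nat_lit 2429) i)) (@Bool.rec (fun _ => ℕ) rb2430 rb2431 (Nat.ble (nat_lit 2431) i)) (Nat.ble (nat_lit 2430) i)) (Nat.ble (nat_lit 2428) i)) (Nat.ble (nat_lit 2424) i)) (Nat.ble (nat_lit 2416) i))

def rowBlk_n0_76 (i : ℕ) : ℕ := (@Bool.rec (fun _ => ℕ) (@Bool.rec (fun _ => ℕ) (@Bool.rec (fun _ => ℕ) (@Bool.rec (fun _ => ℕ) (@Bool.rec (fun _ => ℕ) rb2432 rb2433 (Nat.ble (nat_lit 2433) i)) (@Bool.rec (fun _ => ℕ) rb2434 rb2435 (Nat.ble (nat_lit 2435) i)) (Nat.ble (nat_lit 2434) i)) (@Bool.rec (fun _ => ℕ) (@Bool.rec (fun _ => ℕ) rb2436 rb2437 (Nat.ble (nat_lit 2437) i)) (@Bool.rec (fun _ => ℕ) rb2438 rb2439 (Nat.ble (nat_lit 2439) i)) (Nat.ble (nat_lit 2438) i)) (Nat.ble (nat_lit 2436) i)) (@Bool.rec (fun _ => ℕ) (@Bool.rec (fun _ => ℕ) (@Bool.rec (fun _ => ℕ) rb2440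 rb2441 (Nat.ble (nat_lit 2441) i)) (@Bool.rec (fun _ => ℕ) rb2442 rb2443 (Nat.ble (nat_lit 2443) i)) (Nat.ble (nat_lit 2442) i)) (@Bool.rec (fun _ => ℕ) (@Bool.rec (fun _ => ℕ) rb2444 rb2445 (Nat.ble (nat_lit 2445) i)) (@Bool.rec (fun _ => ℕ) rb2446 rb2447 (Nat.ble (nat_lit 2447) i)) (Nat.ble (nat_lit 2446) i)) (Nat.ble (nat_lit 2444) i)) (Nat.ble (nat_lit 2440) i)) (@Bool.rec (fun _ => ℕ) (@Bool.rec (fun _ => ℕ) (@Bool.rec (fun _ => ℕ) (@Bool.rec (fun _ => ℕ) rb2448 rb2449 (Nat.ble (nat_lit 2449) i)) (@Bool.rec (fun _ => ℕ) rb2450 rb2451 (Nat.ble (nat_lit 2451) i)) (Nat.ble (nat_lit 2450) i)) (@Bool.rec (fun _ => ℕ) (@Bool.rec (fun _ => ℕ) rb2452 rb2453 (Nat.ble (nat_lit 2453) i)) (@Bool.rec (fun _ => ℕ) rb2454 rb2455 (Nat.ble (nat_lit 2455) i)) (Nat.ble (nat_lit 2454) i)) (Nat.ble (nat_lit 2452) i))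 (@Bool.rec (fun _ => ℕ) (@Bool.rec (fun _ => ℕ) (@Bool.rec (fun _ => ℕ) rb2456 rb2457 (Nat.ble (nat_lit 2457) i)) (@Bool.rec (fun _ => ℕ) rb2458 rb2459 (Nat.ble (nat_lit 2459) i)) (Nat.ble (nat_lit 2458) i)) (@Bool.rec (fun _ => ℕ) (@Bool.rec (fun _ => ℕ) rb2460 rb2461 (Nat.ble (nat_lit 2461) i)) (@Bool.rec (fun _ => ℕ) rb2462 rb2463 (Nat.ble (nat_lit 2463) i)) (Nat.ble (nat_lit 2462) i)) (Nat.ble (nat_lit 2460) i)) (Nat.ble (nat_lit 2456) i)) (Nat.ble (nat_lit 2448) i))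

def rowBlk_n0_77 (i : ℕ) : ℕ := (@Bool.rec (fun _ => ℕ) (@Bool.rec (fun _ => ℕ) (@Bool.rec (fun _ => ℕ) (@Bool.rec (fun _ => ℕ) (@Bool.rec (fun _ => ℕ) rb2464 rb2465 (Nat.ble (nat_lit 2465) i)) (@Bool.rec (fun _ => ℕ) rb2466 rb2467 (Nat.ble (nat_lit 2467) i)) (Nat.ble (nat_lit 2466) i)) (@Bool.rec (fun _ => ℕ) (@Bool.rec (fun _ => ℕ) rb2468 rb2469 (Nat.ble (nat_lit 2469) i)) (@Bool.rec (fun _ => ℕ) rb2470 rb2471 (Nat.ble (nat_lit 2471) i)) (Nat.ble (nat_lit 2470) i)) (Nat.ble (nat_lit 2468) i)) (@Bool.rec (fun _ => ℕ) (@Bool.rec (fun _ => ℕ) (@Bool.rec (fun _ => ℕ) rb2472 rb2473 (Nat.ble (nat_lit 2473) i)) (@Bool.rec (fun _ => ℕ) rb2474 rb2475 (Nat.ble (nat_lit 2475) i)) (Nat.ble (nat_lit 2474) i)) (@Bool.rec (fun _ => ℕ) (@Bool.rec (fun _ => ℕ) rb2476 rb2477 (Nat.ble (nat_lit 2477) i)) (@Bool.rec (fun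 _ => ℕ) rb2478 rb2479 (Nat.ble (nat_lit 2479) i)) (Nat.ble (nat_lit 2478) i)) (Nat.ble (nat_lit 2476) i)) (Nat.ble (nat_lit 2472) i)) (@Bool.rec (fun _ => ℕ) (@Bool.rec (fun _ => ℕ) (@Bool.rec (fun _ => ℕ) (@Bool.rec (fun _ => ℕ) rb2480 rb2481 (Nat.ble (nat_lit 2481) i)) (@Bool.rec (fun _ => ℕ) rb2482 rb2483 (Nat.ble (nat_lit 2483) i)) (Nat.ble (nat_lit 2482) i)) (@Bool.rec (fun _ => ℕ) (@Bool.rec (fun _ => ℕ) rb2484 rb2485 (Nat.ble (nat_lit 2485) i)) (@Bool.rec (fun _ => ℕ) rb2486 rb2487 (Nat.ble (nat_lit 2487) i)) (Nat.ble (nat_lit 2486) i)) (Nat.ble (nat_lit 2484) i)) (@Bool.rec (fun _ => ℕ) (@Bool.rec (fun _ => ℕ) (@Bool.rec (fun _ => ℕ) rb2488 rb2489 (Nat.ble (nat_lit 2489) i)) (@Bool.rec (fun _ => ℕ) rb2490 rb2491 (Nat.ble (nat_lit 2491) i)) (Nat.ble (nat_lit 2490) i)) (@Bool.rec (fun _ => ℕ) (@Bool.rec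 (fun _ => ℕ) rb2492 rb2493 (Nat.ble (nat_lit 2493) i)) (@Bool.rec (fun _ => ℕ) rb2494 rb2495 (Nat.ble (nat_lit 2495) i)) (Nat.ble (nat_lit 2494) i)) (Nat.ble (nat_lit 2492) i)) (Nat.ble (nat_lit 2488) i)) (Nat.ble (nat_lit 2480) i))

def rowBlk_n0_78 (i : ℕ) : ℕ := (@Bool.rec (fun _ => ℕ) (@Bool.rec (fun _ => ℕ) (@Bool.rec (fun _ => ℕ) (@Bool.rec (fun _ => ℕ) (@Bool.rec (fun _ => ℕ) rb2496 rb2497 (Nat.ble (nat_lit 2497) i)) (@Bool.rec (fun _ => ℕ) rb2498 rb2499 (Nat.ble (nat_lit 2499) i)) (Nat.ble (nat_lit 2498) i)) (@Bool.rec (fun _ => ℕ) (@Bool.rec (fun _ => ℕ) rb2500 rb2501 (Nat.ble (nat_lit 2501) i)) (@Bool.rec (fun _ => ℕ) rb2502 rb2503 (Nat.ble (nat_lit 2503) i)) (Nat.ble (nat_lit 2502) i)) (Nat.ble (nat_lit 2500) i)) (@Bool.rec (fun _ => ℕ) (@Bool.rec (fun _ => ℕ) (@Bool.rec (fun _ => ℕ) rb2504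 rb2505 (Nat.ble (nat_lit 2505) i)) (@Bool.rec (fun _ => ℕ) rb2506 rb2507 (Nat.ble (nat_lit 2507) i)) (Nat.ble (nat_lit 2506) i)) (@Bool.rec (fun _ => ℕ) (@Bool.rec (fun _ => ℕ) rb2508 rb2509 (Nat.ble (nat_lit 2509) i)) (@Bool.rec (fun _ => ℕ) rb2510 rb2511 (Nat.ble (nat_lit 2511) i)) (Nat.ble (nat_lit 2510) i)) (Nat.ble (nat_lit 2508) i)) (Nat.ble (nat_lit 2504) i)) (@Bool.rec (fun _ => ℕ) (@Bool.rec (fun _ => ℕ) (@Bool.rec (fun _ => ℕ) (@Bool.rec (fun _ => ℕ) rb2512 rb2513 (Nat.ble (nat_lit 2513) i)) (@Bool.rec (fun _ => ℕ) rb2514 rb2515 (Nat.ble (nat_lit 2515) i)) (Nat.ble (nat_lit 2514) i)) (@Bool.rec (fun _ => ℕ) (@Bool.rec (fun _ => ℕ) rb2516 rb2517 (Nat.ble (nat_lit 2517) i)) (@Bool.rec (fun _ => ℕ) rb2518 rb2519 (Nat.ble (nat_lit 2519) i)) (Nat.ble (nat_lit 2518) i)) (Nat.ble (nat_lit 2516) i))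 (@Bool.rec (fun _ => ℕ) (@Bool.rec (fun _ => ℕ) (@Bool.rec (fun _ => ℕ) rb2520 rb2521 (Nat.ble (nat_lit 2521) i)) (@Bool.rec (fun _ => ℕ) rb2522 rb2523 (Nat.ble (nat_lit 2523) i)) (Nat.ble (nat_lit 2522) i)) (@Bool.rec (fun _ => ℕ) (@Bool.rec (fun _ => ℕ) rb2524 rb2525 (Nat.ble (nat_lit 2525) i)) (@Bool.rec (fun _ => ℕ) rb2526 rb2527 (Nat.ble (nat_lit 2527) i)) (Nat.ble (nat_lit 2526) i)) (Nat.ble (nat_lit 2524) i)) (Nat.ble (nat_lit 2520) i)) (Nat.ble (nat_lit 2512) i))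

def rowBlk_n0_79 (i : ℕ) : ℕ := (@Bool.rec (fun _ => ℕ) (@Bool.rec (fun _ => ℕ) (@Bool.rec (fun _ => ℕ) (@Bool.rec (fun _ => ℕ) (@Bool.rec (fun _ => ℕ) rb2528 rb2529 (Nat.ble (nat_lit 2529) i)) (@Bool.rec (fun _ => ℕ) rb2530 rb2531 (Nat.ble (nat_lit 2531) i)) (Nat.ble (nat_lit 2530) i)) (@Bool.rec (fun _ => ℕ) (@Bool.rec (fun _ => ℕ) rb2532 rb2533 (Nat.ble (nat_lit 2533) i)) (@Bool.rec (fun _ => ℕ) rb2534 rb2535 (Nat.ble (nat_lit 2535) i)) (Nat.ble (nat_lit 2534) i)) (Nat.ble (nat_lit 2532) i)) (@Bool.rec (fun _ => ℕ) (@Bool.rec (fun _ => ℕ) (@Bool.rec (fun _ => ℕ) rb2536 rb2537 (Nat.ble (nat_lit 2537) i)) (@Bool.rec (fun _ => ℕ) rb2538 rb2539 (Nat.ble (nat_lit 2539) i)) (Nat.ble (nat_lit 2538) i)) (@Bool.rec (fun _ => ℕ) (@Bool.rec (fun _ => ℕ) rb2540 rb2541 (Nat.ble (nat_lit 2541) i)) (@Bool.rec (fun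 _ => ℕ) rb2542 rb2543 (Nat.ble (nat_lit 2543) i)) (Nat.ble (nat_lit 2542) i)) (Nat.ble (nat_lit 2540) i)) (Nat.ble (nat_lit 2536) i)) (@Bool.rec (fun _ => ℕ) (@Bool.rec (fun _ => ℕ) (@Bool.rec (fun _ => ℕ) (@Bool.rec (fun _ => ℕ) rb2544 rb2545 (Nat.ble (nat_lit 2545) i)) (@Bool.rec (fun _ => ℕ) rb2546 rb2547 (Nat.ble (nat_lit 2547) i)) (Nat.ble (nat_lit 2546) i)) (@Bool.rec (fun _ => ℕ) (@Bool.rec (fun _ => ℕ) rb2548 rb2549 (Nat.ble (nat_lit 2549) i)) (@Bool.rec (fun _ => ℕ) rb2550 rb2551 (Nat.ble (nat_lit 2551) i)) (Nat.ble (nat_lit 2550) i)) (Nat.ble (nat_lit 2548) i)) (@Bool.rec (fun _ => ℕ) (@Bool.rec (fun _ => ℕ) (@Bool.rec (fun _ => ℕ) rb2552 rb2553 (Nat.ble (nat_lit 2553) i)) (@Bool.rec (fun _ => ℕ) rb2554 rb2555 (Nat.ble (nat_lit 2555) i)) (Nat.ble (nat_lit 2554) i)) (@Bool.rec (fun _ => ℕ) (@Bool.rec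 (fun _ => ℕ) rb2556 rb2557 (Nat.ble (nat_lit 2557) i)) (@Bool.rec (fun _ => ℕ) rb2558 rb2559 (Nat.ble (nat_lit 2559) i)) (Nat.ble (nat_lit 2558) i)) (Nat.ble (nat_lit 2556) i)) (Nat.ble (nat_lit 2552) i)) (Nat.ble (nat_lit 2544) i))

def rowBlk_n0_80 (i : ℕ) : ℕ := (@Bool.rec (fun _ => ℕ) (@Bool.rec (fun _ => ℕ) (@Bool.rec (fun _ => ℕ) (@Bool.rec (fun _ => ℕ) (@Bool.rec (fun _ => ℕ) rb2560 rb2561 (Nat.ble (nat_lit 2561) i)) (@Bool.rec (fun _ => ℕ) rb2562 rb2563 (Nat.ble (nat_lit 2563) i)) (Nat.ble (nat_lit 2562) i)) (@Bool.rec (fun _ => ℕ) (@Bool.rec (fun _ => ℕ) rb2564 rb2565 (Nat.ble (nat_lit 2565) i)) (@Bool.rec (fun _ => ℕ) rb2566 rb2567 (Nat.ble (nat_lit 2567) i)) (Nat.ble (nat_lit 2566) i)) (Nat.ble (nat_lit 2564) i)) (@Bool.rec (fun _ => ℕ) (@Bool.rec (fun _ => ℕ) (@Bool.rec (fun _ => ℕ) rb2568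 rb2569 (Nat.ble (nat_lit 2569) i)) (@Bool.rec (fun _ => ℕ) rb2570 rb2571 (Nat.ble (nat_lit 2571) i)) (Nat.ble (nat_lit 2570) i)) (@Bool.rec (fun _ => ℕ) (@Bool.rec (fun _ => ℕ) rb2572 rb2573 (Nat.ble (nat_lit 2573) i)) (@Bool.rec (fun _ => ℕ) rb2574 rb2575 (Nat.ble (nat_lit 2575) i)) (Nat.ble (nat_lit 2574) i)) (Nat.ble (nat_lit 2572) i)) (Nat.ble (nat_lit 2568) i)) (@Bool.rec (fun _ => ℕ) (@Bool.rec (fun _ => ℕ) (@Bool.rec (fun _ => ℕ) (@Bool.rec (fun _ => ℕ) rb2576 rb2577 (Nat.ble (nat_lit 2577) i)) (@Bool.rec (fun _ => ℕ) rb2578 rb2579 (Nat.ble (nat_lit 2579) i)) (Nat.ble (nat_lit 2578) i)) (@Bool.rec (fun _ => ℕ) (@Bool.rec (fun _ => ℕ) rb2580 rb2581 (Nat.ble (nat_lit 2581) i)) (@Bool.rec (fun _ => ℕ) rb2582 rb2583 (Nat.ble (nat_lit 2583) i)) (Nat.ble (nat_lit 2582) i)) (Nat.ble (nat_lit 2580) i))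 (@Bool.rec (fun _ => ℕ) (@Bool.rec (fun _ => ℕ) (@Bool.rec (fun _ => ℕ) rb2584 rb2585 (Nat.ble (nat_lit 2585) i)) (@Bool.rec (fun _ => ℕ) rb2586 rb2587 (Nat.ble (nat_lit 2587) i)) (Nat.ble (nat_lit 2586) i)) (@Bool.rec (fun _ => ℕ) (@Bool.rec (fun _ => ℕ) rb2588 rb2589 (Nat.ble (nat_lit 2589) i)) (@Bool.rec (fun _ => ℕ) rb2590 rb2591 (Nat.ble (nat_lit 2591) i)) (Nat.ble (nat_lit 2590) i)) (Nat.ble (nat_lit 2588) i)) (Nat.ble (nat_lit 2584) i)) (Nat.ble (nat_lit 2576) i))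

def rowBlk_n0_81 (i : ℕ) : ℕ := (@Bool.rec (fun _ => ℕ) (@Bool.rec (fun _ => ℕ) (@Bool.rec (fun _ => ℕ) (@Bool.rec (fun _ => ℕ) (@Bool.rec (fun _ => ℕ) rb2592 rb2593 (Nat.ble (nat_lit 2593) i)) (@Bool.rec (fun _ => ℕ) rb2594 rb2595 (Nat.ble (nat_lit 2595) i)) (Nat.ble (nat_lit 2594) i)) (@Bool.rec (fun _ => ℕ) (@Bool.rec (fun _ => ℕ) rb2596 rb2597 (Nat.ble (nat_lit 2597) i)) (@Bool.rec (fun _ => ℕ) rb2598 rb2599 (Nat.ble (nat_lit 2599) i)) (Nat.ble (nat_lit 2598) i)) (Nat.ble (nat_lit 2596) i)) (@Bool.rec (fun _ => ℕ) (@Bool.rec (fun _ => ℕ) (@Bool.rec (fun _ => ℕ) rb2600 rb2601 (Nat.ble (nat_lit 2601) i)) (@Bool.rec (fun _ => ℕ) rb2602 rb2603 (Nat.ble (nat_lit 2603) i)) (Nat.ble (nat_lit 2602) i)) (@Bool.rec (fun _ => ℕ) (@Bool.rec (fun _ => ℕ) rb2604 rb2605 (Nat.ble (nat_lit 2605) i)) (@Bool.rec (fun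 _ => ℕ) rb2606 rb2607 (Nat.ble (nat_lit 2607) i)) (Nat.ble (nat_lit 2606) i)) (Nat.ble (nat_lit 2604) i)) (Nat.ble (nat_lit 2600) i)) (@Bool.rec (fun _ => ℕ) (@Bool.rec (fun _ => ℕ) (@Bool.rec (fun _ => ℕ) (@Bool.rec (fun _ => ℕ) rb2608 rb2609 (Nat.ble (nat_lit 2609) i)) (@Bool.rec (fun _ => ℕ) rb2610 rb2611 (Nat.ble (nat_lit 2611) i)) (Nat.ble (nat_lit 2610) i)) (@Bool.rec (fun _ => ℕ) (@Bool.rec (fun _ => ℕ) rb2612 rb2613 (Nat.ble (nat_lit 2613) i)) (@Bool.rec (fun _ => ℕ) rb2614 rb2615 (Nat.ble (nat_lit 2615) i)) (Nat.ble (nat_lit 2614) i)) (Nat.ble (nat_lit 2612) i)) (@Bool.rec (fun _ => ℕ) (@Bool.rec (fun _ => ℕ) (@Bool.rec (fun _ => ℕ) rb2616 rb2617 (Nat.ble (nat_lit 2617) i)) (@Bool.rec (fun _ => ℕ) rb2618 rb2619 (Nat.ble (nat_lit 2619) i)) (Nat.ble (nat_lit 2618) i)) (@Bool.rec (fun _ => ℕ) (@Bool.rec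 (fun _ => ℕ) rb2620 rb2621 (Nat.ble (nat_lit 2621) i)) (@Bool.rec (fun _ => ℕ) rb2622 rb2623 (Nat.ble (nat_lit 2623) i)) (Nat.ble (nat_lit 2622) i)) (Nat.ble (nat_lit 2620) i)) (Nat.ble (nat_lit 2616) i)) (Nat.ble (nat_lit 2608) i))

def rowBlk_n0_82 (i : ℕ) : ℕ := (@Bool.rec (fun _ => ℕ) (@Bool.rec (fun _ => ℕ) (@Bool.rec (fun _ => ℕ) (@Bool.rec (fun _ => ℕ) (@Bool.rec (fun _ => ℕ) rb2624 rb2625 (Nat.ble (nat_lit 2625) i)) (@Bool.rec (fun _ => ℕ) rb2626 rb2627 (Nat.ble (nat_lit 2627) i)) (Nat.ble (nat_lit 2626) i)) (@Bool.rec (fun _ => ℕ) (@Bool.rec (fun _ => ℕ) rb2628 rb2629 (Nat.ble (nat_lit 2629) i)) (@Bool.rec (fun _ => ℕ) rb2630 rb2631 (Nat.ble (nat_lit 2631) i)) (Nat.ble (nat_lit 2630) i)) (Nat.ble (nat_lit 2628) i)) (@Bool.rec (fun _ => ℕ) (@Bool.rec (fun _ => ℕ) (@Bool.rec (fun _ => ℕ) rb2632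 rb2633 (Nat.ble (nat_lit 2633) i)) (@Bool.rec (fun _ => ℕ) rb2634 rb2635 (Nat.ble (nat_lit 2635) i)) (Nat.ble (nat_lit 2634) i)) (@Bool.rec (fun _ => ℕ) (@Bool.rec (fun _ => ℕ) rb2636 rb2637 (Nat.ble (nat_lit 2637) i)) (@Bool.rec (fun _ => ℕ) rb2638 rb2639 (Nat.ble (nat_lit 2639) i)) (Nat.ble (nat_lit 2638) i)) (Nat.ble (nat_lit 2636) i)) (Nat.ble (nat_lit 2632) i)) (@Bool.rec (fun _ => ℕ) (@Bool.rec (fun _ => ℕ) (@Bool.rec (fun _ => ℕ) (@Bool.rec (fun _ => ℕ) rb2640 rb2641 (Nat.ble (nat_lit 2641) i)) (@Bool.rec (fun _ => ℕ) rb2642 rb2643 (Nat.ble (nat_lit 2643) i)) (Nat.ble (nat_lit 2642) i)) (@Bool.rec (fun _ => ℕ) (@Bool.rec (fun _ => ℕ) rb2644 rb2645 (Nat.ble (nat_lit 2645) i)) (@Bool.rec (fun _ => ℕ) rb2646 rb2647 (Nat.ble (nat_lit 2647) i)) (Nat.ble (nat_lit 2646) i)) (Nat.ble (nat_lit 2644) i))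 (@Bool.rec (fun _ => ℕ) (@Bool.rec (fun _ => ℕ) (@Bool.rec (fun _ => ℕ) rb2648 rb2649 (Nat.ble (nat_lit 2649) i)) (@Bool.rec (fun _ => ℕ) rb2650 rb2651 (Nat.ble (nat_lit 2651) i)) (Nat.ble (nat_lit 2650) i)) (@Bool.rec (fun _ => ℕ) (@Bool.rec (fun _ => ℕ) rb2652 rb2653 (Nat.ble (nat_lit 2653) i)) (@Bool.rec (fun _ => ℕ) rb2654 rb2655 (Nat.ble (nat_lit 2655) i)) (Nat.ble (nat_lit 2654) i)) (Nat.ble (nat_lit 2652) i)) (Nat.ble (nat_lit 2648) i)) (Nat.ble (nat_lit 2640) i))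

def rowBlk_n0_83 (i : ℕ) : ℕ := (@Bool.rec (fun _ => ℕ) (@Bool.rec (fun _ => ℕ) (@Bool.rec (fun _ => ℕ) (@Bool.rec (fun _ => ℕ) (@Bool.rec (fun _ => ℕ) rb2656 rb2657 (Nat.ble (nat_lit 2657) i)) (@Bool.rec (fun _ => ℕ) rb2658 rb2659 (Nat.ble (nat_lit 2659) i)) (Nat.ble (nat_lit 2658) i)) (@Bool.rec (fun _ => ℕ) (@Bool.rec (fun _ => ℕ) rb2660 rb2661 (Nat.ble (nat_lit 2661) i)) (@Bool.rec (fun _ => ℕ) rb2662 rb2663 (Nat.ble (nat_lit 2663) i)) (Nat.ble (nat_lit 2662) i)) (Nat.ble (nat_lit 2660) i)) (@Bool.rec (fun _ => ℕ) (@Bool.rec (fun _ => ℕ) (@Bool.rec (fun _ => ℕ) rb2664 rb2665 (Nat.ble (nat_lit 2665) i)) (@Bool.rec (fun _ => ℕ) rb2666 rb2667 (Nat.ble (nat_lit 2667) i)) (Nat.ble (nat_lit 2666) i)) (@Bool.rec (fun _ => ℕ) (@Bool.rec (fun _ => ℕ) rb2668 rb2669 (Nat.ble (nat_lit 2669) i)) (@Bool.rec (fun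 _ => ℕ) rb2670 rb2671 (Nat.ble (nat_lit 2671) i)) (Nat.ble (nat_lit 2670) i)) (Nat.ble (nat_lit 2668) i)) (Nat.ble (nat_lit 2664) i)) (@Bool.rec (fun _ => ℕ) (@Bool.rec (fun _ => ℕ) (@Bool.rec (fun _ => ℕ) (@Bool.rec (fun _ => ℕ) rb2672 rb2673 (Nat.ble (nat_lit 2673) i)) (@Bool.rec (fun _ => ℕ) rb2674 rb2675 (Nat.ble (nat_lit 2675) i)) (Nat.ble (nat_lit 2674) i)) (@Bool.rec (fun _ => ℕ) (@Bool.rec (fun _ => ℕ) rb2676 rb2677 (Nat.ble (nat_lit 2677) i)) (@Bool.rec (fun _ => ℕ) rb2678 rb2679 (Nat.ble (nat_lit 2679) i)) (Nat.ble (nat_lit 2678) i)) (Nat.ble (nat_lit 2676) i)) (@Bool.rec (fun _ => ℕ) (@Bool.rec (fun _ => ℕ) (@Bool.rec (fun _ => ℕ) rb2680 rb2681 (Nat.ble (nat_lit 2681) i)) (@Bool.rec (fun _ => ℕ) rb2682 rb2683 (Nat.ble (nat_lit 2683) i)) (Nat.ble (nat_lit 2682) i)) (@Bool.rec (fun _ => ℕ) (@Bool.rec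 (fun _ => ℕ) rb2684 rb2685 (Nat.ble (nat_lit 2685) i)) (@Bool.rec (fun _ => ℕ) rb2686 rb2687 (Nat.ble (nat_lit 2687) i)) (Nat.ble (nat_lit 2686) i)) (Nat.ble (nat_lit 2684) i)) (Nat.ble (nat_lit 2680) i)) (Nat.ble (nat_lit 2672) i))

def rowBlk_n0_84 (i : ℕ) : ℕ := (@Bool.rec (fun _ => ℕ) (@Bool.rec (fun _ => ℕ) (@Bool.rec (fun _ => ℕ) (@Bool.rec (fun _ => ℕ) (@Bool.rec (fun _ => ℕ) rb2688 rb2689 (Nat.ble (nat_lit 2689) i)) (@Bool.rec (fun _ => ℕ) rb2690 rb2691 (Nat.ble (nat_lit 2691) i)) (Nat.ble (nat_lit 2690) i)) (@Bool.rec (fun _ => ℕ) (@Bool.rec (fun _ => ℕ) rb2692 rb2693 (Nat.ble (nat_lit 2693) i)) (@Bool.rec (fun _ => ℕ) rb2694 rb2695 (Nat.ble (nat_lit 2695) i)) (Nat.ble (nat_lit 2694) i)) (Nat.ble (nat_lit 2692) i)) (@Bool.rec (fun _ => ℕ) (@Bool.rec (fun _ => ℕ) (@Bool.rec (fun _ => ℕ) rb2696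 rb2697 (Nat.ble (nat_lit 2697) i)) (@Bool.rec (fun _ => ℕ) rb2698 rb2699 (Nat.ble (nat_lit 2699) i)) (Nat.ble (nat_lit 2698) i)) (@Bool.rec (fun _ => ℕ) (@Bool.rec (fun _ => ℕ) rb2700 rb2701 (Nat.ble (nat_lit 2701) i)) (@Bool.rec (fun _ => ℕ) rb2702 rb2703 (Nat.ble (nat_lit 2703) i)) (Nat.ble (nat_lit 2702) i)) (Nat.ble (nat_lit 2700) i)) (Nat.ble (nat_lit 2696) i)) (@Bool.rec (fun _ => ℕ) (@Bool.rec (fun _ => ℕ) (@Bool.rec (fun _ => ℕ) (@Bool.rec (fun _ => ℕ) rb2704 rb2705 (Nat.ble (nat_lit 2705) i)) (@Bool.rec (fun _ => ℕ) rb2706 rb2707 (Nat.ble (nat_lit 2707) i)) (Nat.ble (nat_lit 2706) i)) (@Bool.rec (fun _ => ℕ) (@Bool.rec (fun _ => ℕ) rb2708 rb2709 (Nat.ble (nat_lit 2709) i)) (@Bool.rec (fun _ => ℕ) rb2710 rb2711 (Nat.ble (nat_lit 2711) i)) (Nat.ble (nat_lit 2710) i)) (Nat.ble (nat_lit 2708) i))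 (@Bool.rec (fun _ => ℕ) (@Bool.rec (fun _ => ℕ) (@Bool.rec (fun _ => ℕ) rb2712 rb2713 (Nat.ble (nat_lit 2713) i)) (@Bool.rec (fun _ => ℕ) rb2714 rb2715 (Nat.ble (nat_lit 2715) i)) (Nat.ble (nat_lit 2714) i)) (@Bool.rec (fun _ => ℕ) (@Bool.rec (fun _ => ℕ) rb2716 rb2717 (Nat.ble (nat_lit 2717) i)) (@Bool.rec (fun _ => ℕ) rb2718 rb2719 (Nat.ble (nat_lit 2719) i)) (Nat.ble (nat_lit 2718) i)) (Nat.ble (nat_lit 2716) i)) (Nat.ble (nat_lit 2712) i)) (Nat.ble (nat_lit 2704) i))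

def rowBlk_n0_85 (i : ℕ) : ℕ := (@Bool.rec (fun _ => ℕ) (@Bool.rec (fun _ => ℕ) (@Bool.rec (fun _ => ℕ) (@Bool.rec (fun _ => ℕ) (@Bool.rec (fun _ => ℕ) rb2720 rb2721 (Nat.ble (nat_lit 2721) i)) (@Bool.rec (fun _ => ℕ) rb2722 rb2723 (Nat.ble (nat_lit 2723) i)) (Nat.ble (nat_lit 2722) i)) (@Bool.rec (fun _ => ℕ) (@Bool.rec (fun _ => ℕ) rb2724 rb2725 (Nat.ble (nat_lit 2725) i)) (@Bool.rec (fun _ => ℕ) rb2726 rb2727 (Nat.ble (nat_lit 2727) i)) (Nat.ble (nat_lit 2726) i)) (Nat.ble (nat_lit 2724) i)) (@Bool.rec (fun _ => ℕ) (@Bool.rec (fun _ => ℕ) (@Bool.rec (fun _ => ℕ) rb2728 rb2729 (Nat.ble (nat_lit 2729) i)) (@Bool.rec (fun _ => ℕ) rb2730 rb2731 (Nat.ble (nat_lit 2731) i)) (Nat.ble (nat_lit 2730) i)) (@Bool.rec (fun _ => ℕ) (@Bool.rec (fun _ => ℕ) rb2732 rb2733 (Nat.ble (nat_lit 2733) i)) (@Bool.rec (fun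 _ => ℕ) rb2734 rb2735 (Nat.ble (nat_lit 2735) i)) (Nat.ble (nat_lit 2734) i)) (Nat.ble (nat_lit 2732) i)) (Nat.ble (nat_lit 2728) i)) (@Bool.rec (fun _ => ℕ) (@Bool.rec (fun _ => ℕ) (@Bool.rec (fun _ => ℕ) (@Bool.rec (fun _ => ℕ) rb2736 rb2737 (Nat.ble (nat_lit 2737) i)) (@Bool.rec (fun _ => ℕ) rb2738 rb2739 (Nat.ble (nat_lit 2739) i)) (Nat.ble (nat_lit 2738) i)) (@Bool.rec (fun _ => ℕ) (@Bool.rec (fun _ => ℕ) rb2740 rb2741 (Nat.ble (nat_lit 2741) i)) (@Bool.rec (fun _ => ℕ) rb2742 rb2743 (Nat.ble (nat_lit 2743) i)) (Nat.ble (nat_lit 2742) i)) (Nat.ble (nat_lit 2740) i)) (@Bool.rec (fun _ => ℕ) (@Bool.rec (fun _ => ℕ) (@Bool.rec (fun _ => ℕ) rb2744 rb2745 (Nat.ble (nat_lit 2745) i)) (@Bool.rec (fun _ => ℕ) rb2746 rb2747 (Nat.ble (nat_lit 2747) i)) (Nat.ble (nat_lit 2746) i)) (@Bool.rec (fun _ => ℕ) (@Bool.rec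 (fun _ => ℕ) rb2748 rb2749 (Nat.ble (nat_lit 2749) i)) (@Bool.rec (fun _ => ℕ) rb2750 rb2751 (Nat.ble (nat_lit 2751) i)) (Nat.ble (nat_lit 2750) i)) (Nat.ble (nat_lit 2748) i)) (Nat.ble (nat_lit 2744) i)) (Nat.ble (nat_lit 2736) i))

def rowBlk_n0_86 (i : ℕ) : ℕ := (@Bool.rec (fun _ => ℕ) (@Bool.rec (fun _ => ℕ) (@Bool.rec (fun _ => ℕ) (@Bool.rec (fun _ => ℕ) (@Bool.rec (fun _ => ℕ) rb2752 rb2753 (Nat.ble (nat_lit 2753) i)) (@Bool.rec (fun _ => ℕ) rb2754 rb2755 (Nat.ble (nat_lit 2755) i)) (Nat.ble (nat_lit 2754) i)) (@Bool.rec (fun _ => ℕ) (@Bool.rec (fun _ => ℕ) rb2756 rb2757 (Nat.ble (nat_lit 2757) i)) (@Bool.rec (fun _ => ℕ) rb2758 rb2759 (Nat.ble (nat_lit 2759) i)) (Nat.ble (nat_lit 2758) i)) (Nat.ble (nat_lit 2756) i)) (@Bool.rec (fun _ => ℕ) (@Bool.rec (fun _ => ℕ) (@Bool.rec (fun _ => ℕ) rb2760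 rb2761 (Nat.ble (nat_lit 2761) i)) (@Bool.rec (fun _ => ℕ) rb2762 rb2763 (Nat.ble (nat_lit 2763) i)) (Nat.ble (nat_lit 2762) i)) (@Bool.rec (fun _ => ℕ) (@Bool.rec (fun _ => ℕ) rb2764 rb2765 (Nat.ble (nat_lit 2765) i)) (@Bool.rec (fun _ => ℕ) rb2766 rb2767 (Nat.ble (nat_lit 2767) i)) (Nat.ble (nat_lit 2766) i)) (Nat.ble (nat_lit 2764) i)) (Nat.ble (nat_lit 2760) i)) (@Bool.rec (fun _ => ℕ) (@Bool.rec (fun _ => ℕ) (@Bool.rec (fun _ => ℕ) (@Bool.rec (fun _ => ℕ) rb2768 rb2769 (Nat.ble (nat_lit 2769) i)) (@Bool.rec (fun _ => ℕ) rb2770 rb2771 (Nat.ble (nat_lit 2771) i)) (Nat.ble (nat_lit 2770) i)) (@Bool.rec (fun _ => ℕ) (@Bool.rec (fun _ => ℕ) rb2772 rb2773 (Nat.ble (nat_lit 2773) i)) (@Bool.rec (fun _ => ℕ) rb2774 rb2775 (Nat.ble (nat_lit 2775) i)) (Nat.ble (nat_lit 2774) i)) (Nat.ble (nat_lit 2772) i))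 (@Bool.rec (fun _ => ℕ) (@Bool.rec (fun _ => ℕ) (@Bool.rec (fun _ => ℕ) rb2776 rb2777 (Nat.ble (nat_lit 2777) i)) (@Bool.rec (fun _ => ℕ) rb2778 rb2779 (Nat.ble (nat_lit 2779) i)) (Nat.ble (nat_lit 2778) i)) (@Bool.rec (fun _ => ℕ) (@Bool.rec (fun _ => ℕ) rb2780 rb2781 (Nat.ble (nat_lit 2781) i)) (@Bool.rec (fun _ => ℕ) rb2782 rb2783 (Nat.ble (nat_lit 2783) i)) (Nat.ble (nat_lit 2782) i)) (Nat.ble (nat_lit 2780) i)) (Nat.ble (nat_lit 2776) i)) (Nat.ble (nat_lit 2768) i))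

def rowBlk_n0_87 (i : ℕ) : ℕ := (@Bool.rec (fun _ => ℕ) (@Bool.rec (fun _ => ℕ) (@Bool.rec (fun _ => ℕ) (@Bool.rec (fun _ => ℕ) (@Bool.rec (fun _ => ℕ) rb2784 rb2785 (Nat.ble (nat_lit 2785) i)) (@Bool.rec (fun _ => ℕ) rb2786 rb2787 (Nat.ble (nat_lit 2787) i)) (Nat.ble (nat_lit 2786) i)) (@Bool.rec (fun _ => ℕ) (@Bool.rec (fun _ => ℕ) rb2788 rb2789 (Nat.ble (nat_lit 2789) i)) (@Bool.rec (fun _ => ℕ) rb2790 rb2791 (Nat.ble (nat_lit 2791) i)) (Nat.ble (nat_lit 2790) i)) (Nat.ble (nat_lit 2788) i)) (@Bool.rec (fun _ => ℕ) (@Bool.rec (fun _ => ℕ) (@Bool.rec (fun _ => ℕ) rb2792 rb2793 (Nat.ble (nat_lit 2793) i)) (@Bool.rec (fun _ => ℕ) rb2794 rb2795 (Nat.ble (nat_lit 2795) i)) (Nat.ble (nat_lit 2794) i)) (@Bool.rec (fun _ => ℕ) (@Bool.rec (fun _ => ℕ) rb2796 rb2797 (Nat.ble (nat_lit 2797) i)) (@Bool.rec (fun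 _ => ℕ) rb2798 rb2799 (Nat.ble (nat_lit 2799) i)) (Nat.ble (nat_lit 2798) i)) (Nat.ble (nat_lit 2796) i)) (Nat.ble (nat_lit 2792) i)) (@Bool.rec (fun _ => ℕ) (@Bool.rec (fun _ => ℕ) (@Bool.rec (fun _ => ℕ) (@Bool.rec (fun _ => ℕ) rb2800 rb2801 (Nat.ble (nat_lit 2801) i)) (@Bool.rec (fun _ => ℕ) rb2802 rb2803 (Nat.ble (nat_lit 2803) i)) (Nat.ble (nat_lit 2802) i)) (@Bool.rec (fun _ => ℕ) (@Bool.rec (fun _ => ℕ) rb2804 rb2805 (Nat.ble (nat_lit 2805) i)) (@Bool.rec (fun _ => ℕ) rb2806 rb2807 (Nat.ble (nat_lit 2807) i)) (Nat.ble (nat_lit 2806) i)) (Nat.ble (nat_lit 2804) i)) (@Bool.rec (fun _ => ℕ) (@Bool.rec (fun _ => ℕ) (@Bool.rec (fun _ => ℕ) rb2808 rb2809 (Nat.ble (nat_lit 2809) i)) (@Bool.rec (fun _ => ℕ) rb2810 rb2811 (Nat.ble (nat_lit 2811) i)) (Nat.ble (nat_lit 2810) i)) (@Bool.rec (fun _ => ℕ) (@Bool.rec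 (fun _ => ℕ) rb2812 rb2813 (Nat.ble (nat_lit 2813) i)) (@Bool.rec (fun _ => ℕ) rb2814 rb2815 (Nat.ble (nat_lit 2815) i)) (Nat.ble (nat_lit 2814) i)) (Nat.ble (nat_lit 2812) i)) (Nat.ble (nat_lit 2808) i)) (Nat.ble (nat_lit 2800) i))

def rowBlk_n0_88 (i : ℕ) : ℕ := (@Bool.rec (fun _ => ℕ) (@Bool.rec (fun _ => ℕ) (@Bool.rec (fun _ => ℕ) (@Bool.rec (fun _ => ℕ) (@Bool.rec (fun _ => ℕ) rb2816 rb2817 (Nat.ble (nat_lit 2817) i)) (@Bool.rec (fun _ => ℕ) rb2818 rb2819 (Nat.ble (nat_lit 2819) i)) (Nat.ble (nat_lit 2818) i)) (@Bool.rec (fun _ => ℕ) (@Bool.rec (fun _ => ℕ) rb2820 rb2821 (Nat.ble (nat_lit 2821) i)) (@Bool.rec (fun _ => ℕ) rb2822 rb2823 (Nat.ble (nat_lit 2823) i)) (Nat.ble (nat_lit 2822) i)) (Nat.ble (nat_lit 2820) i)) (@Bool.rec (fun _ => ℕ) (@Bool.rec (fun _ => ℕ) (@Bool.rec (fun _ => ℕ) rb2824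 rb2825 (Nat.ble (nat_lit 2825) i)) (@Bool.rec (fun _ => ℕ) rb2826 rb2827 (Nat.ble (nat_lit 2827) i)) (Nat.ble (nat_lit 2826) i)) (@Bool.rec (fun _ => ℕ) (@Bool.rec (fun _ => ℕ) rb2828 rb2829 (Nat.ble (nat_lit 2829) i)) (@Bool.rec (fun _ => ℕ) rb2830 rb2831 (Nat.ble (nat_lit 2831) i)) (Nat.ble (nat_lit 2830) i)) (Nat.ble (nat_lit 2828) i)) (Nat.ble (nat_lit 2824) i)) (@Bool.rec (fun _ => ℕ) (@Bool.rec (fun _ => ℕ) (@Bool.rec (fun _ => ℕ) (@Bool.rec (fun _ => ℕ) rb2832 rb2833 (Nat.ble (nat_lit 2833) i)) (@Bool.rec (fun _ => ℕ) rb2834 rb2835 (Nat.ble (nat_lit 2835) i)) (Nat.ble (nat_lit 2834) i)) (@Bool.rec (fun _ => ℕ) (@Bool.rec (fun _ => ℕ) rb2836 rb2837 (Nat.ble (nat_lit 2837) i)) (@Bool.rec (fun _ => ℕ) rb2838 rb2839 (Nat.ble (nat_lit 2839) i)) (Nat.ble (nat_lit 2838) i)) (Nat.ble (nat_lit 2836) i))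 (@Bool.rec (fun _ => ℕ) (@Bool.rec (fun _ => ℕ) (@Bool.rec (fun _ => ℕ) rb2840 rb2841 (Nat.ble (nat_lit 2841) i)) (@Bool.rec (fun _ => ℕ) rb2842 rb2843 (Nat.ble (nat_lit 2843) i)) (Nat.ble (nat_lit 2842) i)) (@Bool.rec (fun _ => ℕ) (@Bool.rec (fun _ => ℕ) rb2844 rb2845 (Nat.ble (nat_lit 2845) i)) (@Bool.rec (fun _ => ℕ) rb2846 rb2847 (Nat.ble (nat_lit 2847) i)) (Nat.ble (nat_lit 2846) i)) (Nat.ble (nat_lit 2844) i)) (Nat.ble (nat_lit 2840) i)) (Nat.ble (nat_lit 2832) i))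

def rowBlk_n0_89 (i : ℕ) : ℕ := (@Bool.rec (fun _ => ℕ) (@Bool.rec (fun _ => ℕ) (@Bool.rec (fun _ => ℕ) (@Bool.rec (fun _ => ℕ) (@Bool.rec (fun _ => ℕ) rb2848 rb2849 (Nat.ble (nat_lit 2849) i)) (@Bool.rec (fun _ => ℕ) rb2850 rb2851 (Nat.ble (nat_lit 2851) i)) (Nat.ble (nat_lit 2850) i)) (@Bool.rec (fun _ => ℕ) (@Bool.rec (fun _ => ℕ) rb2852 rb2853 (Nat.ble (nat_lit 2853) i)) (@Bool.rec (fun _ => ℕ) rb2854 rb2855 (Nat.ble (nat_lit 2855) i)) (Nat.ble (nat_lit 2854) i)) (Nat.ble (nat_lit 2852) i)) (@Bool.rec (fun _ => ℕ) (@Bool.rec (fun _ => ℕ) (@Bool.rec (fun _ => ℕ) rb2856 rb2857 (Nat.ble (nat_lit 2857) i)) (@Bool.rec (fun _ => ℕ) rb2858 rb2859 (Nat.ble (nat_lit 2859) i)) (Nat.ble (nat_lit 2858) i)) (@Bool.rec (fun _ => ℕ) (@Bool.rec (fun _ => ℕ) rb2860 rb2861 (Nat.ble (nat_lit 2861) i)) (@Bool.rec (fun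 _ => ℕ) rb2862 rb2863 (Nat.ble (nat_lit 2863) i)) (Nat.ble (nat_lit 2862) i)) (Nat.ble (nat_lit 2860) i)) (Nat.ble (nat_lit 2856) i)) (@Bool.rec (fun _ => ℕ) (@Bool.rec (fun _ => ℕ) (@Bool.rec (fun _ => ℕ) (@Bool.rec (fun _ => ℕ) rb2864 rb2865 (Nat.ble (nat_lit 2865) i)) (@Bool.rec (fun _ => ℕ) rb2866 rb2867 (Nat.ble (nat_lit 2867) i)) (Nat.ble (nat_lit 2866) i)) (@Bool.rec (fun _ => ℕ) (@Bool.rec (fun _ => ℕ) rb2868 rb2869 (Nat.ble (nat_lit 2869) i)) (@Bool.rec (fun _ => ℕ) rb2870 rb2871 (Nat.ble (nat_lit 2871) i)) (Nat.ble (nat_lit 2870) i)) (Nat.ble (nat_lit 2868) i)) (@Bool.rec (fun _ => ℕ) (@Bool.rec (fun _ => ℕ) (@Bool.rec (fun _ => ℕ) rb2872 rb2873 (Nat.ble (nat_lit 2873) i)) (@Bool.rec (fun _ => ℕ) rb2874 rb2875 (Nat.ble (nat_lit 2875) i)) (Nat.ble (nat_lit 2874) i)) (@Bool.rec (fun _ => ℕ) (@Bool.rec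 (fun _ => ℕ) rb2876 rb2877 (Nat.ble (nat_lit 2877) i)) (@Bool.rec (fun _ => ℕ) rb2878 rb2879 (Nat.ble (nat_lit 2879) i)) (Nat.ble (nat_lit 2878) i)) (Nat.ble (nat_lit 2876) i)) (Nat.ble (nat_lit 2872) i)) (Nat.ble (nat_lit 2864) i))

def rowBlk_n0_90 (i : ℕ) : ℕ := (@Bool.rec (fun _ => ℕ) (@Bool.rec (fun _ => ℕ) (@Bool.rec (fun _ => ℕ) (@Bool.rec (fun _ => ℕ) (@Bool.rec (fun _ => ℕ) rb2880 rb2881 (Nat.ble (nat_lit 2881) i)) (@Bool.rec (fun _ => ℕ) rb2882 rb2883 (Nat.ble (nat_lit 2883) i)) (Nat.ble (nat_lit 2882) i)) (@Bool.rec (fun _ => ℕ) (@Bool.rec (fun _ => ℕ) rb2884 rb2885 (Nat.ble (nat_lit 2885) i)) (@Bool.rec (fun _ => ℕ) rb2886 rb2887 (Nat.ble (nat_lit 2887) i)) (Nat.ble (nat_lit 2886) i)) (Nat.ble (nat_lit 2884) i)) (@Bool.rec (fun _ => ℕ) (@Bool.rec (fun _ => ℕ) (@Bool.rec (fun _ => ℕ) rb2888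 rb2889 (Nat.ble (nat_lit 2889) i)) (@Bool.rec (fun _ => ℕ) rb2890 rb2891 (Nat.ble (nat_lit 2891) i)) (Nat.ble (nat_lit 2890) i)) (@Bool.rec (fun _ => ℕ) (@Bool.rec (fun _ => ℕ) rb2892 rb2893 (Nat.ble (nat_lit 2893) i)) (@Bool.rec (fun _ => ℕ) rb2894 rb2895 (Nat.ble (nat_lit 2895) i)) (Nat.ble (nat_lit 2894) i)) (Nat.ble (nat_lit 2892) i)) (Nat.ble (nat_lit 2888) i)) (@Bool.rec (fun _ => ℕ) (@Bool.rec (fun _ => ℕ) (@Bool.rec (fun _ => ℕ) (@Bool.rec (fun _ => ℕ) rb2896 rb2897 (Nat.ble (nat_lit 2897) i)) (@Bool.rec (fun _ => ℕ) rb2898 rb2899 (Nat.ble (nat_lit 2899) i)) (Nat.ble (nat_lit 2898) i)) (@Bool.rec (fun _ => ℕ) (@Bool.rec (fun _ => ℕ) rb2900 rb2901 (Nat.ble (nat_lit 2901) i)) (@Bool.rec (fun _ => ℕ) rb2902 rb2903 (Nat.ble (nat_lit 2903) i)) (Nat.ble (nat_lit 2902) i)) (Nat.ble (nat_lit 2900) i))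 (@Bool.rec (fun _ => ℕ) (@Bool.rec (fun _ => ℕ) (@Bool.rec (fun _ => ℕ) rb2904 rb2905 (Nat.ble (nat_lit 2905) i)) (@Bool.rec (fun _ => ℕ) rb2906 rb2907 (Nat.ble (nat_lit 2907) i)) (Nat.ble (nat_lit 2906) i)) (@Bool.rec (fun _ => ℕ) (@Bool.rec (fun _ => ℕ) rb2908 rb2909 (Nat.ble (nat_lit 2909) i)) (@Bool.rec (fun _ => ℕ) rb2910 rb2911 (Nat.ble (nat_lit 2911) i)) (Nat.ble (nat_lit 2910) i)) (Nat.ble (nat_lit 2908) i)) (Nat.ble (nat_lit 2904) i)) (Nat.ble (nat_lit 2896) i))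

def rowBlk_n0_91 (i : ℕ) : ℕ := (@Bool.rec (fun _ => ℕ) (@Bool.rec (fun _ => ℕ) (@Bool.rec (fun _ => ℕ) (@Bool.rec (fun _ => ℕ) (@Bool.rec (fun _ => ℕ) rb2912 rb2913 (Nat.ble (nat_lit 2913) i)) (@Bool.rec (fun _ => ℕ) rb2914 rb2915 (Nat.ble (nat_lit 2915) i)) (Nat.ble (nat_lit 2914) i)) (@Bool.rec (fun _ => ℕ) (@Bool.rec (fun _ => ℕ) rb2916 rb2917 (Nat.ble (nat_lit 2917) i)) (@Bool.rec (fun _ => ℕ) rb2918 rb2919 (Nat.ble (nat_lit 2919) i)) (Nat.ble (nat_lit 2918) i)) (Nat.ble (nat_lit 2916) i)) (@Bool.rec (fun _ => ℕ) (@Bool.rec (fun _ => ℕ) (@Bool.rec (fun _ => ℕ) rb2920 rb2921 (Nat.ble (nat_lit 2921) i)) (@Bool.rec (fun _ => ℕ) rb2922 rb2923 (Nat.ble (nat_lit 2923) i)) (Nat.ble (nat_lit 2922) i)) (@Bool.rec (fun _ => ℕ) (@Bool.rec (fun _ => ℕ) rb2924 rb2925 (Nat.ble (nat_lit 2925) i)) (@Bool.rec (fun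 _ => ℕ) rb2926 rb2927 (Nat.ble (nat_lit 2927) i)) (Nat.ble (nat_lit 2926) i)) (Nat.ble (nat_lit 2924) i)) (Nat.ble (nat_lit 2920) i)) (@Bool.rec (fun _ => ℕ) (@Bool.rec (fun _ => ℕ) (@Bool.rec (fun _ => ℕ) (@Bool.rec (fun _ => ℕ) rb2928 rb2929 (Nat.ble (nat_lit 2929) i)) (@Bool.rec (fun _ => ℕ) rb2930 rb2931 (Nat.ble (nat_lit 2931) i)) (Nat.ble (nat_lit 2930) i)) (@Bool.rec (fun _ => ℕ) (@Bool.rec (fun _ => ℕ) rb2932 rb2933 (Nat.ble (nat_lit 2933) i)) (@Bool.rec (fun _ => ℕ) rb2934 rb2935 (Nat.ble (nat_lit 2935) i)) (Nat.ble (nat_lit 2934) i)) (Nat.ble (nat_lit 2932) i)) (@Bool.rec (fun _ => ℕ) (@Bool.rec (fun _ => ℕ) (@Bool.rec (fun _ => ℕ) rb2936 rb2937 (Nat.ble (nat_lit 2937) i)) (@Bool.rec (fun _ => ℕ) rb2938 rb2939 (Nat.ble (nat_lit 2939) i)) (Nat.ble (nat_lit 2938) i)) (@Bool.rec (fun _ => ℕ) (@Bool.rec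 (fun _ => ℕ) rb2940 rb2941 (Nat.ble (nat_lit 2941) i)) (@Bool.rec (fun _ => ℕ) rb2942 rb2943 (Nat.ble (nat_lit 2943) i)) (Nat.ble (nat_lit 2942) i)) (Nat.ble (nat_lit 2940) i)) (Nat.ble (nat_lit 2936) i)) (Nat.ble (nat_lit 2928) i))

def rowBlk_n0_92 (i : ℕ) : ℕ := (@Bool.rec (fun _ => ℕ) (@Bool.rec (fun _ => ℕ) (@Bool.rec (fun _ => ℕ) (@Bool.rec (fun _ => ℕ) (@Bool.rec (fun _ => ℕ) rb2944 rb2945 (Nat.ble (nat_lit 2945) i)) (@Bool.rec (fun _ => ℕ) rb2946 rb2947 (Nat.ble (nat_lit 2947) i)) (Nat.ble (nat_lit 2946) i)) (@Bool.rec (fun _ => ℕ) (@Bool.rec (fun _ => ℕ) rb2948 rb2949 (Nat.ble (nat_lit 2949) i)) (@Bool.rec (fun _ => ℕ) rb2950 rb2951 (Nat.ble (nat_lit 2951) i)) (Nat.ble (nat_lit 2950) i)) (Nat.ble (nat_lit 2948) i)) (@Bool.rec (fun _ => ℕ) (@Bool.rec (fun _ => ℕ) (@Bool.rec (fun _ => ℕ) rb2952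 rb2953 (Nat.ble (nat_lit 2953) i)) (@Bool.rec (fun _ => ℕ) rb2954 rb2955 (Nat.ble (nat_lit 2955) i)) (Nat.ble (nat_lit 2954) i)) (@Bool.rec (fun _ => ℕ) (@Bool.rec (fun _ => ℕ) rb2956 rb2957 (Nat.ble (nat_lit 2957) i)) (@Bool.rec (fun _ => ℕ) rb2958 rb2959 (Nat.ble (nat_lit 2959) i)) (Nat.ble (nat_lit 2958) i)) (Nat.ble (nat_lit 2956) i)) (Nat.ble (nat_lit 2952) i)) (@Bool.rec (fun _ => ℕ) (@Bool.rec (fun _ => ℕ) (@Bool.rec (fun _ => ℕ) (@Bool.rec (fun _ => ℕ) rb2960 rb2961 (Nat.ble (nat_lit 2961) i)) (@Bool.rec (fun _ => ℕ) rb2962 rb2963 (Nat.ble (nat_lit 2963) i)) (Nat.ble (nat_lit 2962) i)) (@Bool.rec (fun _ => ℕ) (@Bool.rec (fun _ => ℕ) rb2964 rb2965 (Nat.ble (nat_lit 2965) i)) (@Bool.rec (fun _ => ℕ) rb2966 rb2967 (Nat.ble (nat_lit 2967) i)) (Nat.ble (nat_lit 2966) i)) (Nat.ble (nat_lit 2964) i))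 (@Bool.rec (fun _ => ℕ) (@Bool.rec (fun _ => ℕ) (@Bool.rec (fun _ => ℕ) rb2968 rb2969 (Nat.ble (nat_lit 2969) i)) (@Bool.rec (fun _ => ℕ) rb2970 rb2971 (Nat.ble (nat_lit 2971) i)) (Nat.ble (nat_lit 2970) i)) (@Bool.rec (fun _ => ℕ) (@Bool.rec (fun _ => ℕ) rb2972 rb2973 (Nat.ble (nat_lit 2973) i)) (@Bool.rec (fun _ => ℕ) rb2974 rb2975 (Nat.ble (nat_lit 2975) i)) (Nat.ble (nat_lit 2974) i)) (Nat.ble (nat_lit 2972) i)) (Nat.ble (nat_lit 2968) i)) (Nat.ble (nat_lit 2960) i))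

def rowBlk_n0_93 (i : ℕ) : ℕ := (@Bool.rec (fun _ => ℕ) (@Bool.rec (fun _ => ℕ) (@Bool.rec (fun _ => ℕ) (@Bool.rec (fun _ => ℕ) (@Bool.rec (fun _ => ℕ) rb2976 rb2977 (Nat.ble (nat_lit 2977) i)) (@Bool.rec (fun _ => ℕ) rb2978 rb2979 (Nat.ble (nat_lit 2979) i)) (Nat.ble (nat_lit 2978) i)) (@Bool.rec (fun _ => ℕ) (@Bool.rec (fun _ => ℕ) rb2980 rb2981 (Nat.ble (nat_lit 2981) i)) (@Bool.rec (fun _ => ℕ) rb2982 rb2983 (Nat.ble (nat_lit 2983) i)) (Nat.ble (nat_lit 2982) i)) (Nat.ble (nat_lit 2980) i)) (@Bool.rec (fun _ => ℕ) (@Bool.rec (fun _ => ℕ) (@Bool.rec (fun _ => ℕ) rb2984 rb2985 (Nat.ble (nat_lit 2985) i)) (@Bool.rec (fun _ => ℕ) rb2986 rb2987 (Nat.ble (nat_lit 2987) i)) (Nat.ble (nat_lit 2986) i)) (@Bool.rec (fun _ => ℕ) (@Bool.rec (fun _ => ℕ) rb2988 rb2989 (Nat.ble (nat_lit 2989) i)) (@Bool.rec (fun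 _ => ℕ) rb2990 rb2991 (Nat.ble (nat_lit 2991) i)) (Nat.ble (nat_lit 2990) i)) (Nat.ble (nat_lit 2988) i)) (Nat.ble (nat_lit 2984) i)) (@Bool.rec (fun _ => ℕ) (@Bool.rec (fun _ => ℕ) (@Bool.rec (fun _ => ℕ) (@Bool.rec (fun _ => ℕ) rb2992 rb2993 (Nat.ble (nat_lit 2993) i)) (@Bool.rec (fun _ => ℕ) rb2994 rb2995 (Nat.ble (nat_lit 2995) i)) (Nat.ble (nat_lit 2994) i)) (@Bool.rec (fun _ => ℕ) (@Bool.rec (fun _ => ℕ) rb2996 rb2997 (Nat.ble (nat_lit 2997) i)) (@Bool.rec (fun _ => ℕ) rb2998 rb2999 (Nat.ble (nat_lit 2999) i)) (Nat.ble (nat_lit 2998) i)) (Nat.ble (nat_lit 2996) i)) (@Bool.rec (fun _ => ℕ) (@Bool.rec (fun _ => ℕ) (@Bool.rec (fun _ => ℕ) rb3000 rb3001 (Nat.ble (nat_lit 3001) i)) (@Bool.rec (fun _ => ℕ) rb3002 rb3003 (Nat.ble (nat_lit 3003) i)) (Nat.ble (nat_lit 3002) i)) (@Bool.rec (fun _ => ℕ) (@Bool.rec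 (fun _ => ℕ) rb3004 rb3005 (Nat.ble (nat_lit 3005) i)) (@Bool.rec (fun _ => ℕ) rb3006 rb3007 (Nat.ble (nat_lit 3007) i)) (Nat.ble (nat_lit 3006) i)) (Nat.ble (nat_lit 3004) i)) (Nat.ble (nat_lit 3000) i)) (Nat.ble (nat_lit 2992) i))

def rowBlk_n0_94 (i : ℕ) : ℕ := (@Bool.rec (fun _ => ℕ) (@Bool.rec (fun _ => ℕ) (@Bool.rec (fun _ => ℕ) (@Bool.rec (fun _ => ℕ) (@Bool.rec (fun _ => ℕ) rb3008 rb3009 (Nat.ble (nat_lit 3009) i)) (@Bool.rec (fun _ => ℕ) rb3010 rb3011 (Nat.ble (nat_lit 3011) i)) (Nat.ble (nat_lit 3010) i)) (@Bool.rec (fun _ => ℕ) (@Bool.rec (fun _ => ℕ) rb3012 rb3013 (Nat.ble (nat_lit 3013) i)) (@Bool.rec (fun _ => ℕ) rb3014 rb3015 (Nat.ble (nat_lit 3015) i)) (Nat.ble (nat_lit 3014) i)) (Nat.ble (nat_lit 3012) i)) (@Bool.rec (fun _ => ℕ) (@Bool.rec (fun _ => ℕ) (@Bool.rec (fun _ => ℕ) rb3016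 rb3017 (Nat.ble (nat_lit 3017) i)) (@Bool.rec (fun _ => ℕ) rb3018 rb3019 (Nat.ble (nat_lit 3019) i)) (Nat.ble (nat_lit 3018) i)) (@Bool.rec (fun _ => ℕ) (@Bool.rec (fun _ => ℕ) rb3020 rb3021 (Nat.ble (nat_lit 3021) i)) (@Bool.rec (fun _ => ℕ) rb3022 rb3023 (Nat.ble (nat_lit 3023) i)) (Nat.ble (nat_lit 3022) i)) (Nat.ble (nat_lit 3020) i)) (Nat.ble (nat_lit 3016) i)) (@Bool.rec (fun _ => ℕ) (@Bool.rec (fun _ => ℕ) (@Bool.rec (fun _ => ℕ) (@Bool.rec (fun _ => ℕ) rb3024 rb3025 (Nat.ble (nat_lit 3025) i)) (@Bool.rec (fun _ => ℕ) rb3026 rb3027 (Nat.ble (nat_lit 3027) i)) (Nat.ble (nat_lit 3026) i)) (@Bool.rec (fun _ => ℕ) (@Bool.rec (fun _ => ℕ) rb3028 rb3029 (Nat.ble (nat_lit 3029) i)) (@Bool.rec (fun _ => ℕ) rb3030 rb3031 (Nat.ble (nat_lit 3031) i)) (Nat.ble (nat_lit 3030) i)) (Nat.ble (nat_lit 3028) i))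 (@Bool.rec (fun _ => ℕ) (@Bool.rec (fun _ => ℕ) (@Bool.rec (fun _ => ℕ) rb3032 rb3033 (Nat.ble (nat_lit 3033) i)) (@Bool.rec (fun _ => ℕ) rb3034 rb3035 (Nat.ble (nat_lit 3035) i)) (Nat.ble (nat_lit 3034) i)) (@Bool.rec (fun _ => ℕ) (@Bool.rec (fun _ => ℕ) rb3036 rb3037 (Nat.ble (nat_lit 3037) i)) (@Bool.rec (fun _ => ℕ) rb3038 rb3039 (Nat.ble (nat_lit 3039) i)) (Nat.ble (nat_lit 3038) i)) (Nat.ble (nat_lit 3036) i)) (Nat.ble (nat_lit 3032) i)) (Nat.ble (nat_lit 3024) i))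

def rowBlk_n0_95 (i : ℕ) : ℕ := (@Bool.rec (fun _ => ℕ) (@Bool.rec (fun _ => ℕ) (@Bool.rec (fun _ => ℕ) (@Bool.rec (fun _ => ℕ) (@Bool.rec (fun _ => ℕ) rb3040 rb3041 (Nat.ble (nat_lit 3041) i)) (@Bool.rec (fun _ => ℕ) rb3042 rb3043 (Nat.ble (nat_lit 3043) i)) (Nat.ble (nat_lit 3042) i)) (@Bool.rec (fun _ => ℕ) (@Bool.rec (fun _ => ℕ) rb3044 rb3045 (Nat.ble (nat_lit 3045) i)) (@Bool.rec (fun _ => ℕ) rb3046 rb3047 (Nat.ble (nat_lit 3047) i)) (Nat.ble (nat_lit 3046) i)) (Nat.ble (nat_lit 3044) i)) (@Bool.rec (fun _ => ℕ) (@Bool.rec (fun _ => ℕ) (@Bool.rec (fun _ => ℕ) rb3048 rb3049 (Nat.ble (nat_lit 3049) i)) (@Bool.rec (fun _ => ℕ) rb3050 rb3051 (Nat.ble (nat_lit 3051) i)) (Nat.ble (nat_lit 3050) i)) (@Bool.rec (fun _ => ℕ) (@Bool.rec (fun _ => ℕ) rb3052 rb3053 (Nat.ble (nat_lit 3053) i)) (@Bool.rec (fun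 _ => ℕ) rb3054 rb3055 (Nat.ble (nat_lit 3055) i)) (Nat.ble (nat_lit 3054) i)) (Nat.ble (nat_lit 3052) i)) (Nat.ble (nat_lit 3048) i)) (@Bool.rec (fun _ => ℕ) (@Bool.rec (fun _ => ℕ) (@Bool.rec (fun _ => ℕ) (@Bool.rec (fun _ => ℕ) rb3056 rb3057 (Nat.ble (nat_lit 3057) i)) (@Bool.rec (fun _ => ℕ) rb3058 rb3059 (Nat.ble (nat_lit 3059) i)) (Nat.ble (nat_lit 3058) i)) (@Bool.rec (fun _ => ℕ) (@Bool.rec (fun _ => ℕ) rb3060 rb3061 (Nat.ble (nat_lit 3061) i)) (@Bool.rec (fun _ => ℕ) rb3062 rb3063 (Nat.ble (nat_lit 3063) i)) (Nat.ble (nat_lit 3062) i)) (Nat.ble (nat_lit 3060) i)) (@Bool.rec (fun _ => ℕ) (@Bool.rec (fun _ => ℕ) (@Bool.rec (fun _ => ℕ) rb3064 rb3065 (Nat.ble (nat_lit 3065) i)) (@Bool.rec (fun _ => ℕ) rb3066 rb3067 (Nat.ble (nat_lit 3067) i)) (Nat.ble (nat_lit 3066) i)) (@Bool.rec (fun _ => ℕ) (@Bool.rec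 (fun _ => ℕ) rb3068 rb3069 (Nat.ble (nat_lit 3069) i)) (@Bool.rec (fun _ => ℕ) rb3070 rb3071 (Nat.ble (nat_lit 3071) i)) (Nat.ble (nat_lit 3070) i)) (Nat.ble (nat_lit 3068) i)) (Nat.ble (nat_lit 3064) i)) (Nat.ble (nat_lit 3056) i))

def rowBlk_n0_96 (i : ℕ) : ℕ := (@Bool.rec (fun _ => ℕ) (@Bool.rec (fun _ => ℕ) (@Bool.rec (fun _ => ℕ) (@Bool.rec (fun _ => ℕ) (@Bool.rec (fun _ => ℕ) rb3072 rb3073 (Nat.ble (nat_lit 3073) i)) (@Bool.rec (fun _ => ℕ) rb3074 rb3075 (Nat.ble (nat_lit 3075) i)) (Nat.ble (nat_lit 3074) i)) (@Bool.rec (fun _ => ℕ) (@Bool.rec (fun _ => ℕ) rb3076 rb3077 (Nat.ble (nat_lit 3077) i)) (@Bool.rec (fun _ => ℕ) rb3078 rb3079 (Nat.ble (nat_lit 3079) i)) (Nat.ble (nat_lit 3078) i)) (Nat.ble (nat_lit 3076) i)) (@Bool.rec (fun _ => ℕ) (@Bool.rec (fun _ => ℕ) (@Bool.rec (fun _ => ℕ) rb3080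 rb3081 (Nat.ble (nat_lit 3081) i)) (@Bool.rec (fun _ => ℕ) rb3082 rb3083 (Nat.ble (nat_lit 3083) i)) (Nat.ble (nat_lit 3082) i)) (@Bool.rec (fun _ => ℕ) (@Bool.rec (fun _ => ℕ) rb3084 rb3085 (Nat.ble (nat_lit 3085) i)) (@Bool.rec (fun _ => ℕ) rb3086 rb3087 (Nat.ble (nat_lit 3087) i)) (Nat.ble (nat_lit 3086) i)) (Nat.ble (nat_lit 3084) i)) (Nat.ble (nat_lit 3080) i)) (@Bool.rec (fun _ => ℕ) (@Bool.rec (fun _ => ℕ) (@Bool.rec (fun _ => ℕ) (@Bool.rec (fun _ => ℕ) rb3088 rb3089 (Nat.ble (nat_lit 3089) i)) (@Bool.rec (fun _ => ℕ) rb3090 rb3091 (Nat.ble (nat_lit 3091) i)) (Nat.ble (nat_lit 3090) i)) (@Bool.rec (fun _ => ℕ) (@Bool.rec (fun _ => ℕ) rb3092 rb3093 (Nat.ble (nat_lit 3093) i)) (@Bool.rec (fun _ => ℕ) rb3094 rb3095 (Nat.ble (nat_lit 3095) i)) (Nat.ble (nat_lit 3094) i)) (Nat.ble (nat_lit 3092) i))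 (@Bool.rec (fun _ => ℕ) (@Bool.rec (fun _ => ℕ) (@Bool.rec (fun _ => ℕ) rb3096 rb3097 (Nat.ble (nat_lit 3097) i)) (@Bool.rec (fun _ => ℕ) rb3098 rb3099 (Nat.ble (nat_lit 3099) i)) (Nat.ble (nat_lit 3098) i)) (@Bool.rec (fun _ => ℕ) (@Bool.rec (fun _ => ℕ) rb3100 rb3101 (Nat.ble (nat_lit 3101) i)) (@Bool.rec (fun _ => ℕ) rb3102 rb3103 (Nat.ble (nat_lit 3103) i)) (Nat.ble (nat_lit 3102) i)) (Nat.ble (nat_lit 3100) i)) (Nat.ble (nat_lit 3096) i)) (Nat.ble (nat_lit 3088) i))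

def rowBlk_n0_97 (i : ℕ) : ℕ := (@Bool.rec (fun _ => ℕ) (@Bool.rec (fun _ => ℕ) (@Bool.rec (fun _ => ℕ) (@Bool.rec (fun _ => ℕ) (@Bool.rec (fun _ => ℕ) rb3104 rb3105 (Nat.ble (nat_lit 3105) i)) (@Bool.rec (fun _ => ℕ) rb3106 rb3107 (Nat.ble (nat_lit 3107) i)) (Nat.ble (nat_lit 3106) i)) (@Bool.rec (fun _ => ℕ) (@Bool.rec (fun _ => ℕ) rb3108 rb3109 (Nat.ble (nat_lit 3109) i)) (@Bool.rec (fun _ => ℕ) rb3110 rb3111 (Nat.ble (nat_lit 3111) i)) (Nat.ble (nat_lit 3110) i)) (Nat.ble (nat_lit 3108) i)) (@Bool.rec (fun _ => ℕ) (@Bool.rec (fun _ => ℕ) (@Bool.rec (fun _ => ℕ) rb3112 rb3113 (Nat.ble (nat_lit 3113) i)) (@Bool.rec (fun _ => ℕ) rb3114 rb3115 (Nat.ble (nat_lit 3115) i)) (Nat.ble (nat_lit 3114) i)) (@Bool.rec (fun _ => ℕ) (@Bool.rec (fun _ => ℕ) rb3116 rb3117 (Nat.ble (nat_lit 3117) i)) (@Bool.rec (fun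 _ => ℕ) rb3118 rb3119 (Nat.ble (nat_lit 3119) i)) (Nat.ble (nat_lit 3118) i)) (Nat.ble (nat_lit 3116) i)) (Nat.ble (nat_lit 3112) i)) (@Bool.rec (fun _ => ℕ) (@Bool.rec (fun _ => ℕ) (@Bool.rec (fun _ => ℕ) (@Bool.rec (fun _ => ℕ) rb3120 rb3121 (Nat.ble (nat_lit 3121) i)) (@Bool.rec (fun _ => ℕ) rb3122 rb3123 (Nat.ble (nat_lit 3123) i)) (Nat.ble (nat_lit 3122) i)) (@Bool.rec (fun _ => ℕ) (@Bool.rec (fun _ => ℕ) rb3124 rb3125 (Nat.ble (nat_lit 3125) i)) (@Bool.rec (fun _ => ℕ) rb3126 rb3127 (Nat.ble (nat_lit 3127) i)) (Nat.ble (nat_lit 3126) i)) (Nat.ble (nat_lit 3124) i)) (@Bool.rec (fun _ => ℕ) (@Bool.rec (fun _ => ℕ) (@Bool.rec (fun _ => ℕ) rb3128 rb3129 (Nat.ble (nat_lit 3129) i)) (@Bool.rec (fun _ => ℕ) rb3130 rb3131 (Nat.ble (nat_lit 3131) i)) (Nat.ble (nat_lit 3130) i)) (@Bool.rec (fun _ => ℕ) (@Bool.rec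 (fun _ => ℕ) rb3132 rb3133 (Nat.ble (nat_lit 3133) i)) (@Bool.rec (fun _ => ℕ) rb3134 rb3135 (Nat.ble (nat_lit 3135) i)) (Nat.ble (nat_lit 3134) i)) (Nat.ble (nat_lit 3132) i)) (Nat.ble (nat_lit 3128) i)) (Nat.ble (nat_lit 3120) i))

def rowBlk_n0_98 (i : ℕ) : ℕ := (@Bool.rec (fun _ => ℕ) (@Bool.rec (fun _ => ℕ) (@Bool.rec (fun _ => ℕ) (@Bool.rec (fun _ => ℕ) (@Bool.rec (fun _ => ℕ) rb3136 rb3137 (Nat.ble (nat_lit 3137) i)) (@Bool.rec (fun _ => ℕ) rb3138 rb3139 (Nat.ble (nat_lit 3139) i)) (Nat.ble (nat_lit 3138) i)) (@Bool.rec (fun _ => ℕ) (@Bool.rec (fun _ => ℕ) rb3140 rb3141 (Nat.ble (nat_lit 3141) i)) (@Bool.rec (fun _ => ℕ) rb3142 rb3143 (Nat.ble (nat_lit 3143) i)) (Nat.ble (nat_lit 3142) i)) (Nat.ble (nat_lit 3140) i)) (@Bool.rec (fun _ => ℕ) (@Bool.rec (fun _ => ℕ) (@Bool.rec (fun _ => ℕ) rb3144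 rb3145 (Nat.ble (nat_lit 3145) i)) (@Bool.rec (fun _ => ℕ) rb3146 rb3147 (Nat.ble (nat_lit 3147) i)) (Nat.ble (nat_lit 3146) i)) (@Bool.rec (fun _ => ℕ) (@Bool.rec (fun _ => ℕ) rb3148 rb3149 (Nat.ble (nat_lit 3149) i)) (@Bool.rec (fun _ => ℕ) rb3150 rb3151 (Nat.ble (nat_lit 3151) i)) (Nat.ble (nat_lit 3150) i)) (Nat.ble (nat_lit 3148) i)) (Nat.ble (nat_lit 3144) i)) (@Bool.rec (fun _ => ℕ) (@Bool.rec (fun _ => ℕ) (@Bool.rec (fun _ => ℕ) (@Bool.rec (fun _ => ℕ) rb3152 rb3153 (Nat.ble (nat_lit 3153) i)) (@Bool.rec (fun _ => ℕ) rb3154 rb3155 (Nat.ble (nat_lit 3155) i)) (Nat.ble (nat_lit 3154) i)) (@Bool.rec (fun _ => ℕ) (@Bool.rec (fun _ => ℕ) rb3156 rb3157 (Nat.ble (nat_lit 3157) i)) (@Bool.rec (fun _ => ℕ) rb3158 rb3159 (Nat.ble (nat_lit 3159) i)) (Nat.ble (nat_lit 3158) i)) (Nat.ble (nat_lit 3156) i))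 (@Bool.rec (fun _ => ℕ) (@Bool.rec (fun _ => ℕ) (@Bool.rec (fun _ => ℕ) rb3160 rb3161 (Nat.ble (nat_lit 3161) i)) (@Bool.rec (fun _ => ℕ) rb3162 rb3163 (Nat.ble (nat_lit 3163) i)) (Nat.ble (nat_lit 3162) i)) (@Bool.rec (fun _ => ℕ) (@Bool.rec (fun _ => ℕ) rb3164 rb3165 (Nat.ble (nat_lit 3165) i)) (@Bool.rec (fun _ => ℕ) rb3166 rb3167 (Nat.ble (nat_lit 3167) i)) (Nat.ble (nat_lit 3166) i)) (Nat.ble (nat_lit 3164) i)) (Nat.ble (nat_lit 3160) i)) (Nat.ble (nat_lit 3152) i))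

def rowBlk_n0_99 (i : ℕ) : ℕ := (@Bool.rec (fun _ => ℕ) (@Bool.rec (fun _ => ℕ) (@Bool.rec (fun _ => ℕ) (@Bool.rec (fun _ => ℕ) (@Bool.rec (fun _ => ℕ) rb3168 rb3169 (Nat.ble (nat_lit 3169) i)) (@Bool.rec (fun _ => ℕ) rb3170 rb3171 (Nat.ble (nat_lit 3171) i)) (Nat.ble (nat_lit 3170) i)) (@Bool.rec (fun _ => ℕ) (@Bool.rec (fun _ => ℕ) rb3172 rb3173 (Nat.ble (nat_lit 3173) i)) (@Bool.rec (fun _ => ℕ) rb3174 rb3175 (Nat.ble (nat_lit 3175) i)) (Nat.ble (nat_lit 3174) i)) (Nat.ble (nat_lit 3172) i)) (@Bool.rec (fun _ => ℕ) (@Bool.rec (fun _ => ℕ) (@Bool.rec (fun _ => ℕ) rb3176 rb3177 (Nat.ble (nat_lit 3177) i)) (@Bool.rec (fun _ => ℕ) rb3178 rb3179 (Nat.ble (nat_lit 3179) i)) (Nat.ble (nat_lit 3178) i)) (@Bool.rec (fun _ => ℕ) (@Bool.rec (fun _ => ℕ) rb3180 rb3181 (Nat.ble (nat_lit 3181) i)) (@Bool.rec (fun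 _ => ℕ) rb3182 rb3183 (Nat.ble (nat_lit 3183) i)) (Nat.ble (nat_lit 3182) i)) (Nat.ble (nat_lit 3180) i)) (Nat.ble (nat_lit 3176) i)) (@Bool.rec (fun _ => ℕ) (@Bool.rec (fun _ => ℕ) (@Bool.rec (fun _ => ℕ) (@Bool.rec (fun _ => ℕ) rb3184 rb3185 (Nat.ble (nat_lit 3185) i)) (@Bool.rec (fun _ => ℕ) rb3186 rb3187 (Nat.ble (nat_lit 3187) i)) (Nat.ble (nat_lit 3186) i)) (@Bool.rec (fun _ => ℕ) (@Bool.rec (fun _ => ℕ) rb3188 rb3189 (Nat.ble (nat_lit 3189) i)) (@Bool.rec (fun _ => ℕ) rb3190 rb3191 (Nat.ble (nat_lit 3191) i)) (Nat.ble (nat_lit 3190) i)) (Nat.ble (nat_lit 3188) i)) (@Bool.rec (fun _ => ℕ) (@Bool.rec (fun _ => ℕ) (@Bool.rec (fun _ => ℕ) rb3192 rb3193 (Nat.ble (nat_lit 3193) i)) (@Bool.rec (fun _ => ℕ) rb3194 rb3195 (Nat.ble (nat_lit 3195) i)) (Nat.ble (nat_lit 3194) i)) (@Bool.rec (fun _ => ℕ) (@Bool.rec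 (fun _ => ℕ) rb3196 rb3197 (Nat.ble (nat_lit 3197) i)) (@Bool.rec (fun _ => ℕ) rb3198 rb3199 (Nat.ble (nat_lit 3199) i)) (Nat.ble (nat_lit 3198) i)) (Nat.ble (nat_lit 3196) i)) (Nat.ble (nat_lit 3192) i)) (Nat.ble (nat_lit 3184) i))

def rowBlk_n0_100 (i : ℕ) : ℕ := (@Bool.rec (fun _ => ℕ) (@Bool.rec (fun _ => ℕ) (@Bool.rec (fun _ => ℕ) (@Bool.rec (fun _ => ℕ) (@Bool.rec (fun _ => ℕ) rb3200 rb3201 (Nat.ble (nat_lit 3201) i)) (@Bool.rec (fun _ => ℕ) rb3202 rb3203 (Nat.ble (nat_lit 3203) i)) (Nat.ble (nat_lit 3202) i)) (@Bool.rec (fun _ => ℕ) (@Bool.rec (fun _ => ℕ) rb3204 rb3205 (Nat.ble (nat_lit 3205) i)) (@Bool.rec (fun _ => ℕ) rb3206 rb3207 (Nat.ble (nat_lit 3207) i)) (Nat.ble (nat_lit 3206) i)) (Nat.ble (nat_lit 3204) i)) (@Bool.rec (fun _ => ℕ) (@Bool.rec (fun _ => ℕ) (@Bool.rec (fun _ => ℕ) rb3208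 rb3209 (Nat.ble (nat_lit 3209) i)) (@Bool.rec (fun _ => ℕ) rb3210 rb3211 (Nat.ble (nat_lit 3211) i)) (Nat.ble (nat_lit 3210) i)) (@Bool.rec (fun _ => ℕ) (@Bool.rec (fun _ => ℕ) rb3212 rb3213 (Nat.ble (nat_lit 3213) i)) (@Bool.rec (fun _ => ℕ) rb3214 rb3215 (Nat.ble (nat_lit 3215) i)) (Nat.ble (nat_lit 3214) i)) (Nat.ble (nat_lit 3212) i)) (Nat.ble (nat_lit 3208) i)) (@Bool.rec (fun _ => ℕ) (@Bool.rec (fun _ => ℕ) (@Bool.rec (fun _ => ℕ) (@Bool.rec (fun _ => ℕ) rb3216 rb3217 (Nat.ble (nat_lit 3217) i)) (@Bool.rec (fun _ => ℕ) rb3218 rb3219 (Nat.ble (nat_lit 3219) i)) (Nat.ble (nat_lit 3218) i)) (@Bool.rec (fun _ => ℕ) (@Bool.rec (fun _ => ℕ) rb3220 rb3221 (Nat.ble (nat_lit 3221) i)) (@Bool.rec (fun _ => ℕ) rb3222 rb3223 (Nat.ble (nat_lit 3223) i)) (Nat.ble (nat_lit 3222) i)) (Nat.ble (nat_lit 3220) i))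 (@Bool.rec (fun _ => ℕ) (@Bool.rec (fun _ => ℕ) (@Bool.rec (fun _ => ℕ) rb3224 rb3225 (Nat.ble (nat_lit 3225) i)) (@Bool.rec (fun _ => ℕ) rb3226 rb3227 (Nat.ble (nat_lit 3227) i)) (Nat.ble (nat_lit 3226) i)) (@Bool.rec (fun _ => ℕ) (@Bool.rec (fun _ => ℕ) rb3228 rb3229 (Nat.ble (nat_lit 3229) i)) (@Bool.rec (fun _ => ℕ) rb3230 rb3231 (Nat.ble (nat_lit 3231) i)) (Nat.ble (nat_lit 3230) i)) (Nat.ble (nat_lit 3228) i)) (Nat.ble (nat_lit 3224) i)) (Nat.ble (nat_lit 3216) i))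

def rowBlk_n0_101 (i : ℕ) : ℕ := (@Bool.rec (fun _ => ℕ) (@Bool.rec (fun _ => ℕ) (@Bool.rec (fun _ => ℕ) (@Bool.rec (fun _ => ℕ) (@Bool.rec (fun _ => ℕ) rb3232 rb3233 (Nat.ble (nat_lit 3233) i)) (@Bool.rec (fun _ => ℕ) rb3234 rb3235 (Nat.ble (nat_lit 3235) i)) (Nat.ble (nat_lit 3234) i)) (@Bool.rec (fun _ => ℕ) (@Bool.rec (fun _ => ℕ) rb3236 rb3237 (Nat.ble (nat_lit 3237) i)) (@Bool.rec (fun _ => ℕ) rb3238 rb3239 (Nat.ble (nat_lit 3239) i)) (Nat.ble (nat_lit 3238) i)) (Nat.ble (nat_lit 3236) i)) (@Bool.rec (fun _ => ℕ) (@Bool.rec (fun _ => ℕ) (@Bool.rec (fun _ => ℕ) rb3240 rb3241 (Nat.ble (nat_lit 3241) i)) (@Bool.rec (fun _ => ℕ) rb3242 rb3243 (Nat.ble (nat_lit 3243) i)) (Nat.ble (nat_lit 3242) i)) (@Bool.rec (fun _ => ℕ) (@Bool.rec (fun _ => ℕ) rb3244 rb3245 (Nat.ble (nat_lit 3245) i)) (@Bool.rec (fun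 _ => ℕ) rb3246 rb3247 (Nat.ble (nat_lit 3247) i)) (Nat.ble (nat_lit 3246) i)) (Nat.ble (nat_lit 3244) i)) (Nat.ble (nat_lit 3240) i)) (@Bool.rec (fun _ => ℕ) (@Bool.rec (fun _ => ℕ) (@Bool.rec (fun _ => ℕ) (@Bool.rec (fun _ => ℕ) rb3248 rb3249 (Nat.ble (nat_lit 3249) i)) (@Bool.rec (fun _ => ℕ) rb3250 rb3251 (Nat.ble (nat_lit 3251) i)) (Nat.ble (nat_lit 3250) i)) (@Bool.rec (fun _ => ℕ) (@Bool.rec (fun _ => ℕ) rb3252 rb3253 (Nat.ble (nat_lit 3253) i)) (@Bool.rec (fun _ => ℕ) rb3254 rb3255 (Nat.ble (nat_lit 3255) i)) (Nat.ble (nat_lit 3254) i)) (Nat.ble (nat_lit 3252) i)) (@Bool.rec (fun _ => ℕ) (@Bool.rec (fun _ => ℕ) (@Bool.rec (fun _ => ℕ) rb3256 rb3257 (Nat.ble (nat_lit 3257) i)) (@Bool.rec (fun _ => ℕ) rb3258 rb3259 (Nat.ble (nat_lit 3259) i)) (Nat.ble (nat_lit 3258) i)) (@Bool.rec (fun _ => ℕ) (@Bool.rec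 (fun _ => ℕ) rb3260 rb3261 (Nat.ble (nat_lit 3261) i)) (@Bool.rec (fun _ => ℕ) rb3262 rb3263 (Nat.ble (nat_lit 3263) i)) (Nat.ble (nat_lit 3262) i)) (Nat.ble (nat_lit 3260) i)) (Nat.ble (nat_lit 3256) i)) (Nat.ble (nat_lit 3248) i))

def rowBlk_n0_102 (i : ℕ) : ℕ := (@Bool.rec (fun _ => ℕ) (@Bool.rec (fun _ => ℕ) (@Bool.rec (fun _ => ℕ) (@Bool.rec (fun _ => ℕ) (@Bool.rec (fun _ => ℕ) rb3264 rb3265 (Nat.ble (nat_lit 3265) i)) (@Bool.rec (fun _ => ℕ) rb3266 rb3267 (Nat.ble (nat_lit 3267) i)) (Nat.ble (nat_lit 3266) i)) (@Bool.rec (fun _ => ℕ) (@Bool.rec (fun _ => ℕ) rb3268 rb3269 (Nat.ble (nat_lit 3269) i)) (@Bool.rec (fun _ => ℕ) rb3270 rb3271 (Nat.ble (nat_lit 3271) i)) (Nat.ble (nat_lit 3270) i)) (Nat.ble (nat_lit 3268) i)) (@Bool.rec (fun _ => ℕ) (@Bool.rec (fun _ => ℕ) (@Bool.rec (fun _ => ℕ) rb3272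 rb3273 (Nat.ble (nat_lit 3273) i)) (@Bool.rec (fun _ => ℕ) rb3274 rb3275 (Nat.ble (nat_lit 3275) i)) (Nat.ble (nat_lit 3274) i)) (@Bool.rec (fun _ => ℕ) (@Bool.rec (fun _ => ℕ) rb3276 rb3277 (Nat.ble (nat_lit 3277) i)) (@Bool.rec (fun _ => ℕ) rb3278 rb3279 (Nat.ble (nat_lit 3279) i)) (Nat.ble (nat_lit 3278) i)) (Nat.ble (nat_lit 3276) i)) (Nat.ble (nat_lit 3272) i)) (@Bool.rec (fun _ => ℕ) (@Bool.rec (fun _ => ℕ) (@Bool.rec (fun _ => ℕ) (@Bool.rec (fun _ => ℕ) rb3280 rb3281 (Nat.ble (nat_lit 3281) i)) (@Bool.rec (fun _ => ℕ) rb3282 rb3283 (Nat.ble (nat_lit 3283) i)) (Nat.ble (nat_lit 3282) i)) (@Bool.rec (fun _ => ℕ) (@Bool.rec (fun _ => ℕ) rb3284 rb3285 (Nat.ble (nat_lit 3285) i)) (@Bool.rec (fun _ => ℕ) rb3286 rb3287 (Nat.ble (nat_lit 3287) i)) (Nat.ble (nat_lit 3286) i)) (Nat.ble (nat_lit 3284) i))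 (@Bool.rec (fun _ => ℕ) (@Bool.rec (fun _ => ℕ) (@Bool.rec (fun _ => ℕ) rb3288 rb3289 (Nat.ble (nat_lit 3289) i)) (@Bool.rec (fun _ => ℕ) rb3290 rb3291 (Nat.ble (nat_lit 3291) i)) (Nat.ble (nat_lit 3290) i)) (@Bool.rec (fun _ => ℕ) (@Bool.rec (fun _ => ℕ) rb3292 rb3293 (Nat.ble (nat_lit 3293) i)) (@Bool.rec (fun _ => ℕ) rb3294 rb3295 (Nat.ble (nat_lit 3295) i)) (Nat.ble (nat_lit 3294) i)) (Nat.ble (nat_lit 3292) i)) (Nat.ble (nat_lit 3288) i)) (Nat.ble (nat_lit 3280) i))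

def rowBlk_n0_103 (i : ℕ) : ℕ := (@Bool.rec (fun _ => ℕ) (@Bool.rec (fun _ => ℕ) (@Bool.rec (fun _ => ℕ) (@Bool.rec (fun _ => ℕ) (@Bool.rec (fun _ => ℕ) rb3296 rb3297 (Nat.ble (nat_lit 3297) i)) (@Bool.rec (fun _ => ℕ) rb3298 rb3299 (Nat.ble (nat_lit 3299) i)) (Nat.ble (nat_lit 3298) i)) (@Bool.rec (fun _ => ℕ) (@Bool.rec (fun _ => ℕ) rb3300 rb3301 (Nat.ble (nat_lit 3301) i)) (@Bool.rec (fun _ => ℕ) rb3302 rb3303 (Nat.ble (nat_lit 3303) i)) (Nat.ble (nat_lit 3302) i)) (Nat.ble (nat_lit 3300) i)) (@Bool.rec (fun _ => ℕ) (@Bool.rec (fun _ => ℕ) (@Bool.rec (fun _ => ℕ) rb3304 rb3305 (Nat.ble (nat_lit 3305) i)) (@Bool.rec (fun _ => ℕ) rb3306 rb3307 (Nat.ble (nat_lit 3307) i)) (Nat.ble (nat_lit 3306) i)) (@Bool.rec (fun _ => ℕ) (@Bool.rec (fun _ => ℕ) rb3308 rb3309 (Nat.ble (nat_lit 3309) i)) (@Bool.rec (fun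 _ => ℕ) rb3310 rb3311 (Nat.ble (nat_lit 3311) i)) (Nat.ble (nat_lit 3310) i)) (Nat.ble (nat_lit 3308) i)) (Nat.ble (nat_lit 3304) i)) (@Bool.rec (fun _ => ℕ) (@Bool.rec (fun _ => ℕ) (@Bool.rec (fun _ => ℕ) (@Bool.rec (fun _ => ℕ) rb3312 rb3313 (Nat.ble (nat_lit 3313) i)) (@Bool.rec (fun _ => ℕ) rb3314 rb3315 (Nat.ble (nat_lit 3315) i)) (Nat.ble (nat_lit 3314) i)) (@Bool.rec (fun _ => ℕ) (@Bool.rec (fun _ => ℕ) rb3316 rb3317 (Nat.ble (nat_lit 3317) i)) (@Bool.rec (fun _ => ℕ) rb3318 rb3319 (Nat.ble (nat_lit 3319) i)) (Nat.ble (nat_lit 3318) i)) (Nat.ble (nat_lit 3316) i)) (@Bool.rec (fun _ => ℕ) (@Bool.rec (fun _ => ℕ) (@Bool.rec (fun _ => ℕ) rb3320 rb3321 (Nat.ble (nat_lit 3321) i)) (@Bool.rec (fun _ => ℕ) rb3322 rb3323 (Nat.ble (nat_lit 3323) i)) (Nat.ble (nat_lit 3322) i)) (@Bool.rec (fun _ => ℕ) (@Bool.rec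 (fun _ => ℕ) rb3324 rb3325 (Nat.ble (nat_lit 3325) i)) (@Bool.rec (fun _ => ℕ) rb3326 rb3327 (Nat.ble (nat_lit 3327) i)) (Nat.ble (nat_lit 3326) i)) (Nat.ble (nat_lit 3324) i)) (Nat.ble (nat_lit 3320) i)) (Nat.ble (nat_lit 3312) i))

def rowBlk_n0_104 (i : ℕ) : ℕ := (@Bool.rec (fun _ => ℕ) (@Bool.rec (fun _ => ℕ) (@Bool.rec (fun _ => ℕ) (@Bool.rec (fun _ => ℕ) (@Bool.rec (fun _ => ℕ) rb3328 rb3329 (Nat.ble (nat_lit 3329) i)) (@Bool.rec (fun _ => ℕ) rb3330 rb3331 (Nat.ble (nat_lit 3331) i)) (Nat.ble (nat_lit 3330) i)) (@Bool.rec (fun _ => ℕ) (@Bool.rec (fun _ => ℕ) rb3332 rb3333 (Nat.ble (nat_lit 3333) i)) (@Bool.rec (fun _ => ℕ) rb3334 rb3335 (Nat.ble (nat_lit 3335) i)) (Nat.ble (nat_lit 3334) i)) (Nat.ble (nat_lit 3332) i)) (@Bool.rec (fun _ => ℕ) (@Bool.rec (fun _ => ℕ) (@Bool.rec (fun _ => ℕ) rb3336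 rb3337 (Nat.ble (nat_lit 3337) i)) (@Bool.rec (fun _ => ℕ) rb3338 rb3339 (Nat.ble (nat_lit 3339) i)) (Nat.ble (nat_lit 3338) i)) (@Bool.rec (fun _ => ℕ) (@Bool.rec (fun _ => ℕ) rb3340 rb3341 (Nat.ble (nat_lit 3341) i)) (@Bool.rec (fun _ => ℕ) rb3342 rb3343 (Nat.ble (nat_lit 3343) i)) (Nat.ble (nat_lit 3342) i)) (Nat.ble (nat_lit 3340) i)) (Nat.ble (nat_lit 3336) i)) (@Bool.rec (fun _ => ℕ) (@Bool.rec (fun _ => ℕ) (@Bool.rec (fun _ => ℕ) (@Bool.rec (fun _ => ℕ) rb3344 rb3345 (Nat.ble (nat_lit 3345) i)) (@Bool.rec (fun _ => ℕ) rb3346 rb3347 (Nat.ble (nat_lit 3347) i)) (Nat.ble (nat_lit 3346) i)) (@Bool.rec (fun _ => ℕ) (@Bool.rec (fun _ => ℕ) rb3348 rb3349 (Nat.ble (nat_lit 3349) i)) (@Bool.rec (fun _ => ℕ) rb3350 rb3351 (Nat.ble (nat_lit 3351) i)) (Nat.ble (nat_lit 3350) i)) (Nat.ble (nat_lit 3348) i))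 (@Bool.rec (fun _ => ℕ) (@Bool.rec (fun _ => ℕ) (@Bool.rec (fun _ => ℕ) rb3352 rb3353 (Nat.ble (nat_lit 3353) i)) (@Bool.rec (fun _ => ℕ) rb3354 rb3355 (Nat.ble (nat_lit 3355) i)) (Nat.ble (nat_lit 3354) i)) (@Bool.rec (fun _ => ℕ) (@Bool.rec (fun _ => ℕ) rb3356 rb3357 (Nat.ble (nat_lit 3357) i)) (@Bool.rec (fun _ => ℕ) rb3358 rb3359 (Nat.ble (nat_lit 3359) i)) (Nat.ble (nat_lit 3358) i)) (Nat.ble (nat_lit 3356) i)) (Nat.ble (nat_lit 3352) i)) (Nat.ble (nat_lit 3344) i))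

def rowBlk_n0_105 (i : ℕ) : ℕ := (@Bool.rec (fun _ => ℕ) (@Bool.rec (fun _ => ℕ) (@Bool.rec (fun _ => ℕ) (@Bool.rec (fun _ => ℕ) (@Bool.rec (fun _ => ℕ) rb3360 rb3361 (Nat.ble (nat_lit 3361) i)) (@Bool.rec (fun _ => ℕ) rb3362 rb3363 (Nat.ble (nat_lit 3363) i)) (Nat.ble (nat_lit 3362) i)) (@Bool.rec (fun _ => ℕ) (@Bool.rec (fun _ => ℕ) rb3364 rb3365 (Nat.ble (nat_lit 3365) i)) (@Bool.rec (fun _ => ℕ) rb3366 rb3367 (Nat.ble (nat_lit 3367) i)) (Nat.ble (nat_lit 3366) i)) (Nat.ble (nat_lit 3364) i)) (@Bool.rec (fun _ => ℕ) (@Bool.rec (fun _ => ℕ) (@Bool.rec (fun _ => ℕ) rb3368 rb3369 (Nat.ble (nat_lit 3369) i)) (@Bool.rec (fun _ => ℕ) rb3370 rb3371 (Nat.ble (nat_lit 3371) i)) (Nat.ble (nat_lit 3370) i)) (@Bool.rec (fun _ => ℕ) (@Bool.rec (fun _ => ℕ) rb3372 rb3373 (Nat.ble (nat_lit 3373) i)) (@Bool.rec (fun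 _ => ℕ) rb3374 rb3375 (Nat.ble (nat_lit 3375) i)) (Nat.ble (nat_lit 3374) i)) (Nat.ble (nat_lit 3372) i)) (Nat.ble (nat_lit 3368) i)) (@Bool.rec (fun _ => ℕ) (@Bool.rec (fun _ => ℕ) (@Bool.rec (fun _ => ℕ) (@Bool.rec (fun _ => ℕ) rb3376 rb3377 (Nat.ble (nat_lit 3377) i)) (@Bool.rec (fun _ => ℕ) rb3378 rb3379 (Nat.ble (nat_lit 3379) i)) (Nat.ble (nat_lit 3378) i)) (@Bool.rec (fun _ => ℕ) (@Bool.rec (fun _ => ℕ) rb3380 rb3381 (Nat.ble (nat_lit 3381) i)) (@Bool.rec (fun _ => ℕ) rb3382 rb3383 (Nat.ble (nat_lit 3383) i)) (Nat.ble (nat_lit 3382) i)) (Nat.ble (nat_lit 3380) i)) (@Bool.rec (fun _ => ℕ) (@Bool.rec (fun _ => ℕ) (@Bool.rec (fun _ => ℕ) rb3384 rb3385 (Nat.ble (nat_lit 3385) i)) (@Bool.rec (fun _ => ℕ) rb3386 rb3387 (Nat.ble (nat_lit 3387) i)) (Nat.ble (nat_lit 3386) i)) (@Bool.rec (fun _ => ℕ) (@Bool.rec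 (fun _ => ℕ) rb3388 rb3389 (Nat.ble (nat_lit 3389) i)) (@Bool.rec (fun _ => ℕ) rb3390 rb3391 (Nat.ble (nat_lit 3391) i)) (Nat.ble (nat_lit 3390) i)) (Nat.ble (nat_lit 3388) i)) (Nat.ble (nat_lit 3384) i)) (Nat.ble (nat_lit 3376) i))

def rowBlk_n0_106 (i : ℕ) : ℕ := (@Bool.rec (fun _ => ℕ) (@Bool.rec (fun _ => ℕ) (@Bool.rec (fun _ => ℕ) (@Bool.rec (fun _ => ℕ) (@Bool.rec (fun _ => ℕ) rb3392 rb3393 (Nat.ble (nat_lit 3393) i)) (@Bool.rec (fun _ => ℕ) rb3394 rb3395 (Nat.ble (nat_lit 3395) i)) (Nat.ble (nat_lit 3394) i)) (@Bool.rec (fun _ => ℕ) (@Bool.rec (fun _ => ℕ) rb3396 rb3397 (Nat.ble (nat_lit 3397) i)) (@Bool.rec (fun _ => ℕ) rb3398 rb3399 (Nat.ble (nat_lit 3399) i)) (Nat.ble (nat_lit 3398) i)) (Nat.ble (nat_lit 3396) i)) (@Bool.rec (fun _ => ℕ) (@Bool.rec (fun _ => ℕ) (@Bool.rec (fun _ => ℕ) rb3400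 rb3401 (Nat.ble (nat_lit 3401) i)) (@Bool.rec (fun _ => ℕ) rb3402 rb3403 (Nat.ble (nat_lit 3403) i)) (Nat.ble (nat_lit 3402) i)) (@Bool.rec (fun _ => ℕ) (@Bool.rec (fun _ => ℕ) rb3404 rb3405 (Nat.ble (nat_lit 3405) i)) (@Bool.rec (fun _ => ℕ) rb3406 rb3407 (Nat.ble (nat_lit 3407) i)) (Nat.ble (nat_lit 3406) i)) (Nat.ble (nat_lit 3404) i)) (Nat.ble (nat_lit 3400) i)) (@Bool.rec (fun _ => ℕ) (@Bool.rec (fun _ => ℕ) (@Bool.rec (fun _ => ℕ) (@Bool.rec (fun _ => ℕ) rb3408 rb3409 (Nat.ble (nat_lit 3409) i)) (@Bool.rec (fun _ => ℕ) rb3410 rb3411 (Nat.ble (nat_lit 3411) i)) (Nat.ble (nat_lit 3410) i)) (@Bool.rec (fun _ => ℕ) (@Bool.rec (fun _ => ℕ) rb3412 rb3413 (Nat.ble (nat_lit 3413) i)) (@Bool.rec (fun _ => ℕ) rb3414 rb3415 (Nat.ble (nat_lit 3415) i)) (Nat.ble (nat_lit 3414) i)) (Nat.ble (nat_lit 3412) i))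 (@Bool.rec (fun _ => ℕ) (@Bool.rec (fun _ => ℕ) (@Bool.rec (fun _ => ℕ) rb3416 rb3417 (Nat.ble (nat_lit 3417) i)) (@Bool.rec (fun _ => ℕ) rb3418 rb3419 (Nat.ble (nat_lit 3419) i)) (Nat.ble (nat_lit 3418) i)) (@Bool.rec (fun _ => ℕ) (@Bool.rec (fun _ => ℕ) rb3420 rb3421 (Nat.ble (nat_lit 3421) i)) (@Bool.rec (fun _ => ℕ) rb3422 rb3423 (Nat.ble (nat_lit 3423) i)) (Nat.ble (nat_lit 3422) i)) (Nat.ble (nat_lit 3420) i)) (Nat.ble (nat_lit 3416) i)) (Nat.ble (nat_lit 3408) i))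

def rowBlk_n0_107 (i : ℕ) : ℕ := (@Bool.rec (fun _ => ℕ) (@Bool.rec (fun _ => ℕ) (@Bool.rec (fun _ => ℕ) (@Bool.rec (fun _ => ℕ) (@Bool.rec (fun _ => ℕ) rb3424 rb3425 (Nat.ble (nat_lit 3425) i)) (@Bool.rec (fun _ => ℕ) rb3426 rb3427 (Nat.ble (nat_lit 3427) i)) (Nat.ble (nat_lit 3426) i)) (@Bool.rec (fun _ => ℕ) (@Bool.rec (fun _ => ℕ) rb3428 rb3429 (Nat.ble (nat_lit 3429) i)) (@Bool.rec (fun _ => ℕ) rb3430 rb3431 (Nat.ble (nat_lit 3431) i)) (Nat.ble (nat_lit 3430) i)) (Nat.ble (nat_lit 3428) i)) (@Bool.rec (fun _ => ℕ) (@Bool.rec (fun _ => ℕ) (@Bool.rec (fun _ => ℕ) rb3432 rb3433 (Nat.ble (nat_lit 3433) i)) (@Bool.rec (fun _ => ℕ) rb3434 rb3435 (Nat.ble (nat_lit 3435) i)) (Nat.ble (nat_lit 3434) i)) (@Bool.rec (fun _ => ℕ) (@Bool.rec (fun _ => ℕ) rb3436 rb3437 (Nat.ble (nat_lit 3437) i)) (@Bool.rec (fun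 _ => ℕ) rb3438 rb3439 (Nat.ble (nat_lit 3439) i)) (Nat.ble (nat_lit 3438) i)) (Nat.ble (nat_lit 3436) i)) (Nat.ble (nat_lit 3432) i)) (@Bool.rec (fun _ => ℕ) (@Bool.rec (fun _ => ℕ) (@Bool.rec (fun _ => ℕ) (@Bool.rec (fun _ => ℕ) rb3440 rb3441 (Nat.ble (nat_lit 3441) i)) (@Bool.rec (fun _ => ℕ) rb3442 rb3443 (Nat.ble (nat_lit 3443) i)) (Nat.ble (nat_lit 3442) i)) (@Bool.rec (fun _ => ℕ) (@Bool.rec (fun _ => ℕ) rb3444 rb3445 (Nat.ble (nat_lit 3445) i)) (@Bool.rec (fun _ => ℕ) rb3446 rb3447 (Nat.ble (nat_lit 3447) i)) (Nat.ble (nat_lit 3446) i)) (Nat.ble (nat_lit 3444) i)) (@Bool.rec (fun _ => ℕ) (@Bool.rec (fun _ => ℕ) (@Bool.rec (fun _ => ℕ) rb3448 rb3449 (Nat.ble (nat_lit 3449) i)) (@Bool.rec (fun _ => ℕ) rb3450 rb3451 (Nat.ble (nat_lit 3451) i)) (Nat.ble (nat_lit 3450) i)) (@Bool.rec (fun _ => ℕ) (@Bool.rec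 (fun _ => ℕ) rb3452 rb3453 (Nat.ble (nat_lit 3453) i)) (@Bool.rec (fun _ => ℕ) rb3454 rb3455 (Nat.ble (nat_lit 3455) i)) (Nat.ble (nat_lit 3454) i)) (Nat.ble (nat_lit 3452) i)) (Nat.ble (nat_lit 3448) i)) (Nat.ble (nat_lit 3440) i))

def rowBlk_n0_108 (i : ℕ) : ℕ := (@Bool.rec (fun _ => ℕ) (@Bool.rec (fun _ => ℕ) (@Bool.rec (fun _ => ℕ) (@Bool.rec (fun _ => ℕ) (@Bool.rec (fun _ => ℕ) rb3456 rb3457 (Nat.ble (nat_lit 3457) i)) (@Bool.rec (fun _ => ℕ) rb3458 rb3459 (Nat.ble (nat_lit 3459) i)) (Nat.ble (nat_lit 3458) i)) (@Bool.rec (fun _ => ℕ) (@Bool.rec (fun _ => ℕ) rb3460 rb3461 (Nat.ble (nat_lit 3461) i)) (@Bool.rec (fun _ => ℕ) rb3462 rb3463 (Nat.ble (nat_lit 3463) i)) (Nat.ble (nat_lit 3462) i)) (Nat.ble (nat_lit 3460) i)) (@Bool.rec (fun _ => ℕ) (@Bool.rec (fun _ => ℕ) (@Bool.rec (fun _ => ℕ) rb3464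 rb3465 (Nat.ble (nat_lit 3465) i)) (@Bool.rec (fun _ => ℕ) rb3466 rb3467 (Nat.ble (nat_lit 3467) i)) (Nat.ble (nat_lit 3466) i)) (@Bool.rec (fun _ => ℕ) (@Bool.rec (fun _ => ℕ) rb3468 rb3469 (Nat.ble (nat_lit 3469) i)) (@Bool.rec (fun _ => ℕ) rb3470 rb3471 (Nat.ble (nat_lit 3471) i)) (Nat.ble (nat_lit 3470) i)) (Nat.ble (nat_lit 3468) i)) (Nat.ble (nat_lit 3464) i)) (@Bool.rec (fun _ => ℕ) (@Bool.rec (fun _ => ℕ) (@Bool.rec (fun _ => ℕ) (@Bool.rec (fun _ => ℕ) rb3472 rb3473 (Nat.ble (nat_lit 3473) i)) (@Bool.rec (fun _ => ℕ) rb3474 rb3475 (Nat.ble (nat_lit 3475) i)) (Nat.ble (nat_lit 3474) i)) (@Bool.rec (fun _ => ℕ) (@Bool.rec (fun _ => ℕ) rb3476 rb3477 (Nat.ble (nat_lit 3477) i)) (@Bool.rec (fun _ => ℕ) rb3478 rb3479 (Nat.ble (nat_lit 3479) i)) (Nat.ble (nat_lit 3478) i)) (Nat.ble (nat_lit 3476) i))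 (@Bool.rec (fun _ => ℕ) (@Bool.rec (fun _ => ℕ) (@Bool.rec (fun _ => ℕ) rb3480 rb3481 (Nat.ble (nat_lit 3481) i)) (@Bool.rec (fun _ => ℕ) rb3482 rb3483 (Nat.ble (nat_lit 3483) i)) (Nat.ble (nat_lit 3482) i)) (@Bool.rec (fun _ => ℕ) (@Bool.rec (fun _ => ℕ) rb3484 rb3485 (Nat.ble (nat_lit 3485) i)) (@Bool.rec (fun _ => ℕ) rb3486 rb3487 (Nat.ble (nat_lit 3487) i)) (Nat.ble (nat_lit 3486) i)) (Nat.ble (nat_lit 3484) i)) (Nat.ble (nat_lit 3480) i)) (Nat.ble (nat_lit 3472) i))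

def rowBlk_n0_109 (i : ℕ) : ℕ := (@Bool.rec (fun _ => ℕ) (@Bool.rec (fun _ => ℕ) (@Bool.rec (fun _ => ℕ) (@Bool.rec (fun _ => ℕ) (@Bool.rec (fun _ => ℕ) rb3488 rb3489 (Nat.ble (nat_lit 3489) i)) (@Bool.rec (fun _ => ℕ) rb3490 rb3491 (Nat.ble (nat_lit 3491) i)) (Nat.ble (nat_lit 3490) i)) (@Bool.rec (fun _ => ℕ) (@Bool.rec (fun _ => ℕ) rb3492 rb3493 (Nat.ble (nat_lit 3493) i)) (@Bool.rec (fun _ => ℕ) rb3494 rb3495 (Nat.ble (nat_lit 3495) i)) (Nat.ble (nat_lit 3494) i)) (Nat.ble (nat_lit 3492) i)) (@Bool.rec (fun _ => ℕ) (@Bool.rec (fun _ => ℕ) (@Bool.rec (fun _ => ℕ) rb3496 rb3497 (Nat.ble (nat_lit 3497) i)) (@Bool.rec (fun _ => ℕ) rb3498 rb3499 (Nat.ble (nat_lit 3499) i)) (Nat.ble (nat_lit 3498) i)) (@Bool.rec (fun _ => ℕ) (@Bool.rec (fun _ => ℕ) rb3500 rb3501 (Nat.ble (nat_lit 3501) i)) (@Bool.rec (fun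 _ => ℕ) rb3502 rb3503 (Nat.ble (nat_lit 3503) i)) (Nat.ble (nat_lit 3502) i)) (Nat.ble (nat_lit 3500) i)) (Nat.ble (nat_lit 3496) i)) (@Bool.rec (fun _ => ℕ) (@Bool.rec (fun _ => ℕ) (@Bool.rec (fun _ => ℕ) (@Bool.rec (fun _ => ℕ) rb3504 rb3505 (Nat.ble (nat_lit 3505) i)) (@Bool.rec (fun _ => ℕ) rb3506 rb3507 (Nat.ble (nat_lit 3507) i)) (Nat.ble (nat_lit 3506) i)) (@Bool.rec (fun _ => ℕ) (@Bool.rec (fun _ => ℕ) rb3508 rb3509 (Nat.ble (nat_lit 3509) i)) (@Bool.rec (fun _ => ℕ) rb3510 rb3511 (Nat.ble (nat_lit 3511) i)) (Nat.ble (nat_lit 3510) i)) (Nat.ble (nat_lit 3508) i)) (@Bool.rec (fun _ => ℕ) (@Bool.rec (fun _ => ℕ) (@Bool.rec (fun _ => ℕ) rb3512 rb3513 (Nat.ble (nat_lit 3513) i)) (@Bool.rec (fun _ => ℕ) rb3514 rb3515 (Nat.ble (nat_lit 3515) i)) (Nat.ble (nat_lit 3514) i)) (@Bool.rec (fun _ => ℕ) (@Bool.rec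 (fun _ => ℕ) rb3516 rb3517 (Nat.ble (nat_lit 3517) i)) (@Bool.rec (fun _ => ℕ) rb3518 rb3519 (Nat.ble (nat_lit 3519) i)) (Nat.ble (nat_lit 3518) i)) (Nat.ble (nat_lit 3516) i)) (Nat.ble (nat_lit 3512) i)) (Nat.ble (nat_lit 3504) i))

def rowBlk_n0_110 (i : ℕ) : ℕ := (@Bool.rec (fun _ => ℕ) (@Bool.rec (fun _ => ℕ) (@Bool.rec (fun _ => ℕ) (@Bool.rec (fun _ => ℕ) (@Bool.rec (fun _ => ℕ) rb3520 rb3521 (Nat.ble (nat_lit 3521) i)) (@Bool.rec (fun _ => ℕ) rb3522 rb3523 (Nat.ble (nat_lit 3523) i)) (Nat.ble (nat_lit 3522) i)) (@Bool.rec (fun _ => ℕ) (@Bool.rec (fun _ => ℕ) rb3524 rb3525 (Nat.ble (nat_lit 3525) i)) (@Bool.rec (fun _ => ℕ) rb3526 rb3527 (Nat.ble (nat_lit 3527) i)) (Nat.ble (nat_lit 3526) i)) (Nat.ble (nat_lit 3524) i)) (@Bool.rec (fun _ => ℕ) (@Bool.rec (fun _ => ℕ) (@Bool.rec (fun _ => ℕ) rb3528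 rb3529 (Nat.ble (nat_lit 3529) i)) (@Bool.rec (fun _ => ℕ) rb3530 rb3531 (Nat.ble (nat_lit 3531) i)) (Nat.ble (nat_lit 3530) i)) (@Bool.rec (fun _ => ℕ) (@Bool.rec (fun _ => ℕ) rb3532 rb3533 (Nat.ble (nat_lit 3533) i)) (@Bool.rec (fun _ => ℕ) rb3534 rb3535 (Nat.ble (nat_lit 3535) i)) (Nat.ble (nat_lit 3534) i)) (Nat.ble (nat_lit 3532) i)) (Nat.ble (nat_lit 3528) i)) (@Bool.rec (fun _ => ℕ) (@Bool.rec (fun _ => ℕ) (@Bool.rec (fun _ => ℕ) (@Bool.rec (fun _ => ℕ) rb3536 rb3537 (Nat.ble (nat_lit 3537) i)) (@Bool.rec (fun _ => ℕ) rb3538 rb3539 (Nat.ble (nat_lit 3539) i)) (Nat.ble (nat_lit 3538) i)) (@Bool.rec (fun _ => ℕ) (@Bool.rec (fun _ => ℕ) rb3540 rb3541 (Nat.ble (nat_lit 3541) i)) (@Bool.rec (fun _ => ℕ) rb3542 rb3543 (Nat.ble (nat_lit 3543) i)) (Nat.ble (nat_lit 3542) i)) (Nat.ble (nat_lit 3540) i))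 (@Bool.rec (fun _ => ℕ) (@Bool.rec (fun _ => ℕ) (@Bool.rec (fun _ => ℕ) rb3544 rb3545 (Nat.ble (nat_lit 3545) i)) (@Bool.rec (fun _ => ℕ) rb3546 rb3547 (Nat.ble (nat_lit 3547) i)) (Nat.ble (nat_lit 3546) i)) (@Bool.rec (fun _ => ℕ) (@Bool.rec (fun _ => ℕ) rb3548 rb3549 (Nat.ble (nat_lit 3549) i)) (@Bool.rec (fun _ => ℕ) rb3550 rb3551 (Nat.ble (nat_lit 3551) i)) (Nat.ble (nat_lit 3550) i)) (Nat.ble (nat_lit 3548) i)) (Nat.ble (nat_lit 3544) i)) (Nat.ble (nat_lit 3536) i))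

def rowBlk_n0_111 (i : ℕ) : ℕ := (@Bool.rec (fun _ => ℕ) (@Bool.rec (fun _ => ℕ) (@Bool.rec (fun _ => ℕ) (@Bool.rec (fun _ => ℕ) (@Bool.rec (fun _ => ℕ) rb3552 rb3553 (Nat.ble (nat_lit 3553) i)) (@Bool.rec (fun _ => ℕ) rb3554 rb3555 (Nat.ble (nat_lit 3555) i)) (Nat.ble (nat_lit 3554) i)) (@Bool.rec (fun _ => ℕ) (@Bool.rec (fun _ => ℕ) rb3556 rb3557 (Nat.ble (nat_lit 3557) i)) (@Bool.rec (fun _ => ℕ) rb3558 rb3559 (Nat.ble (nat_lit 3559) i)) (Nat.ble (nat_lit 3558) i)) (Nat.ble (nat_lit 3556) i)) (@Bool.rec (fun _ => ℕ) (@Bool.rec (fun _ => ℕ) (@Bool.rec (fun _ => ℕ) rb3560 rb3561 (Nat.ble (nat_lit 3561) i)) (@Bool.rec (fun _ => ℕ) rb3562 rb3563 (Nat.ble (nat_lit 3563) i)) (Nat.ble (nat_lit 3562) i)) (@Bool.rec (fun _ => ℕ) (@Bool.rec (fun _ => ℕ) rb3564 rb3565 (Nat.ble (nat_lit 3565) i)) (@Bool.rec (fun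 _ => ℕ) rb3566 rb3567 (Nat.ble (nat_lit 3567) i)) (Nat.ble (nat_lit 3566) i)) (Nat.ble (nat_lit 3564) i)) (Nat.ble (nat_lit 3560) i)) (@Bool.rec (fun _ => ℕ) (@Bool.rec (fun _ => ℕ) (@Bool.rec (fun _ => ℕ) (@Bool.rec (fun _ => ℕ) rb3568 rb3569 (Nat.ble (nat_lit 3569) i)) (@Bool.rec (fun _ => ℕ) rb3570 rb3571 (Nat.ble (nat_lit 3571) i)) (Nat.ble (nat_lit 3570) i)) (@Bool.rec (fun _ => ℕ) (@Bool.rec (fun _ => ℕ) rb3572 rb3573 (Nat.ble (nat_lit 3573) i)) (@Bool.rec (fun _ => ℕ) rb3574 rb3575 (Nat.ble (nat_lit 3575) i)) (Nat.ble (nat_lit 3574) i)) (Nat.ble (nat_lit 3572) i)) (@Bool.rec (fun _ => ℕ) (@Bool.rec (fun _ => ℕ) (@Bool.rec (fun _ => ℕ) rb3576 rb3577 (Nat.ble (nat_lit 3577) i)) (@Bool.rec (fun _ => ℕ) rb3578 rb3579 (Nat.ble (nat_lit 3579) i)) (Nat.ble (nat_lit 3578) i)) (@Bool.rec (fun _ => ℕ) (@Bool.rec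 (fun _ => ℕ) rb3580 rb3581 (Nat.ble (nat_lit 3581) i)) (@Bool.rec (fun _ => ℕ) rb3582 rb3583 (Nat.ble (nat_lit 3583) i)) (Nat.ble (nat_lit 3582) i)) (Nat.ble (nat_lit 3580) i)) (Nat.ble (nat_lit 3576) i)) (Nat.ble (nat_lit 3568) i))

def rowBlk_n0_112 (i : ℕ) : ℕ := (@Bool.rec (fun _ => ℕ) (@Bool.rec (fun _ => ℕ) (@Bool.rec (fun _ => ℕ) (@Bool.rec (fun _ => ℕ) (@Bool.rec (fun _ => ℕ) rb3584 rb3585 (Nat.ble (nat_lit 3585) i)) (@Bool.rec (fun _ => ℕ) rb3586 rb3587 (Nat.ble (nat_lit 3587) i)) (Nat.ble (nat_lit 3586) i)) (@Bool.rec (fun _ => ℕ) (@Bool.rec (fun _ => ℕ) rb3588 rb3589 (Nat.ble (nat_lit 3589) i)) (@Bool.rec (fun _ => ℕ) rb3590 rb3591 (Nat.ble (nat_lit 3591) i)) (Nat.ble (nat_lit 3590) i)) (Nat.ble (nat_lit 3588) i)) (@Bool.rec (fun _ => ℕ) (@Bool.rec (fun _ => ℕ) (@Bool.rec (fun _ => ℕ) rb3592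 rb3593 (Nat.ble (nat_lit 3593) i)) (@Bool.rec (fun _ => ℕ) rb3594 rb3595 (Nat.ble (nat_lit 3595) i)) (Nat.ble (nat_lit 3594) i)) (@Bool.rec (fun _ => ℕ) (@Bool.rec (fun _ => ℕ) rb3596 rb3597 (Nat.ble (nat_lit 3597) i)) (@Bool.rec (fun _ => ℕ) rb3598 rb3599 (Nat.ble (nat_lit 3599) i)) (Nat.ble (nat_lit 3598) i)) (Nat.ble (nat_lit 3596) i)) (Nat.ble (nat_lit 3592) i)) (@Bool.rec (fun _ => ℕ) (@Bool.rec (fun _ => ℕ) (@Bool.rec (fun _ => ℕ) (@Bool.rec (fun _ => ℕ) rb3600 rb3601 (Nat.ble (nat_lit 3601) i)) (@Bool.rec (fun _ => ℕ) rb3602 rb3603 (Nat.ble (nat_lit 3603) i)) (Nat.ble (nat_lit 3602) i)) (@Bool.rec (fun _ => ℕ) (@Bool.rec (fun _ => ℕ) rb3604 rb3605 (Nat.ble (nat_lit 3605) i)) (@Bool.rec (fun _ => ℕ) rb3606 rb3607 (Nat.ble (nat_lit 3607) i)) (Nat.ble (nat_lit 3606) i)) (Nat.ble (nat_lit 3604) i))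 (@Bool.rec (fun _ => ℕ) (@Bool.rec (fun _ => ℕ) (@Bool.rec (fun _ => ℕ) rb3608 rb3609 (Nat.ble (nat_lit 3609) i)) (@Bool.rec (fun _ => ℕ) rb3610 rb3611 (Nat.ble (nat_lit 3611) i)) (Nat.ble (nat_lit 3610) i)) (@Bool.rec (fun _ => ℕ) (@Bool.rec (fun _ => ℕ) rb3612 rb3613 (Nat.ble (nat_lit 3613) i)) (@Bool.rec (fun _ => ℕ) rb3614 rb3615 (Nat.ble (nat_lit 3615) i)) (Nat.ble (nat_lit 3614) i)) (Nat.ble (nat_lit 3612) i)) (Nat.ble (nat_lit 3608) i)) (Nat.ble (nat_lit 3600) i))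

def rowBlk_n0_113 (i : ℕ) : ℕ := (@Bool.rec (fun _ => ℕ) (@Bool.rec (fun _ => ℕ) (@Bool.rec (fun _ => ℕ) (@Bool.rec (fun _ => ℕ) (@Bool.rec (fun _ => ℕ) rb3616 rb3617 (Nat.ble (nat_lit 3617) i)) (@Bool.rec (fun _ => ℕ) rb3618 rb3619 (Nat.ble (nat_lit 3619) i)) (Nat.ble (nat_lit 3618) i)) (@Bool.rec (fun _ => ℕ) (@Bool.rec (fun _ => ℕ) rb3620 rb3621 (Nat.ble (nat_lit 3621) i)) (@Bool.rec (fun _ => ℕ) rb3622 rb3623 (Nat.ble (nat_lit 3623) i)) (Nat.ble (nat_lit 3622) i)) (Nat.ble (nat_lit 3620) i)) (@Bool.rec (fun _ => ℕ) (@Bool.rec (fun _ => ℕ) (@Bool.rec (fun _ => ℕ) rb3624 rb3625 (Nat.ble (nat_lit 3625) i)) (@Bool.rec (fun _ => ℕ) rb3626 rb3627 (Nat.ble (nat_lit 3627) i)) (Nat.ble (nat_lit 3626) i)) (@Bool.rec (fun _ => ℕ) (@Bool.rec (fun _ => ℕ) rb3628 rb3629 (Nat.ble (nat_lit 3629) i)) (@Bool.rec (fun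 _ => ℕ) rb3630 rb3631 (Nat.ble (nat_lit 3631) i)) (Nat.ble (nat_lit 3630) i)) (Nat.ble (nat_lit 3628) i)) (Nat.ble (nat_lit 3624) i)) (@Bool.rec (fun _ => ℕ) (@Bool.rec (fun _ => ℕ) (@Bool.rec (fun _ => ℕ) (@Bool.rec (fun _ => ℕ) rb3632 rb3633 (Nat.ble (nat_lit 3633) i)) (@Bool.rec (fun _ => ℕ) rb3634 rb3635 (Nat.ble (nat_lit 3635) i)) (Nat.ble (nat_lit 3634) i)) (@Bool.rec (fun _ => ℕ) (@Bool.rec (fun _ => ℕ) rb3636 rb3637 (Nat.ble (nat_lit 3637) i)) (@Bool.rec (fun _ => ℕ) rb3638 rb3639 (Nat.ble (nat_lit 3639) i)) (Nat.ble (nat_lit 3638) i)) (Nat.ble (nat_lit 3636) i)) (@Bool.rec (fun _ => ℕ) (@Bool.rec (fun _ => ℕ) (@Bool.rec (fun _ => ℕ) rb3640 rb3641 (Nat.ble (nat_lit 3641) i)) (@Bool.rec (fun _ => ℕ) rb3642 rb3643 (Nat.ble (nat_lit 3643) i)) (Nat.ble (nat_lit 3642) i)) (@Bool.rec (fun _ => ℕ) (@Bool.rec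 (fun _ => ℕ) rb3644 rb3645 (Nat.ble (nat_lit 3645) i)) (@Bool.rec (fun _ => ℕ) rb3646 rb3647 (Nat.ble (nat_lit 3647) i)) (Nat.ble (nat_lit 3646) i)) (Nat.ble (nat_lit 3644) i)) (Nat.ble (nat_lit 3640) i)) (Nat.ble (nat_lit 3632) i))

def rowBlk_n0_114 (i : ℕ) : ℕ := (@Bool.rec (fun _ => ℕ) (@Bool.rec (fun _ => ℕ) (@Bool.rec (fun _ => ℕ) (@Bool.rec (fun _ => ℕ) (@Bool.rec (fun _ => ℕ) rb3648 rb3649 (Nat.ble (nat_lit 3649) i)) (@Bool.rec (fun _ => ℕ) rb3650 rb3651 (Nat.ble (nat_lit 3651) i)) (Nat.ble (nat_lit 3650) i)) (@Bool.rec (fun _ => ℕ) (@Bool.rec (fun _ => ℕ) rb3652 rb3653 (Nat.ble (nat_lit 3653) i)) (@Bool.rec (fun _ => ℕ) rb3654 rb3655 (Nat.ble (nat_lit 3655) i)) (Nat.ble (nat_lit 3654) i)) (Nat.ble (nat_lit 3652) i)) (@Bool.rec (fun _ => ℕ) (@Bool.rec (fun _ => ℕ) (@Bool.rec (fun _ => ℕ) rb3656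 rb3657 (Nat.ble (nat_lit 3657) i)) (@Bool.rec (fun _ => ℕ) rb3658 rb3659 (Nat.ble (nat_lit 3659) i)) (Nat.ble (nat_lit 3658) i)) (@Bool.rec (fun _ => ℕ) (@Bool.rec (fun _ => ℕ) rb3660 rb3661 (Nat.ble (nat_lit 3661) i)) (@Bool.rec (fun _ => ℕ) rb3662 rb3663 (Nat.ble (nat_lit 3663) i)) (Nat.ble (nat_lit 3662) i)) (Nat.ble (nat_lit 3660) i)) (Nat.ble (nat_lit 3656) i)) (@Bool.rec (fun _ => ℕ) (@Bool.rec (fun _ => ℕ) (@Bool.rec (fun _ => ℕ) (@Bool.rec (fun _ => ℕ) rb3664 rb3665 (Nat.ble (nat_lit 3665) i)) (@Bool.rec (fun _ => ℕ) rb3666 rb3667 (Nat.ble (nat_lit 3667) i)) (Nat.ble (nat_lit 3666) i)) (@Bool.rec (fun _ => ℕ) (@Bool.rec (fun _ => ℕ) rb3668 rb3669 (Nat.ble (nat_lit 3669) i)) (@Bool.rec (fun _ => ℕ) rb3670 rb3671 (Nat.ble (nat_lit 3671) i)) (Nat.ble (nat_lit 3670) i)) (Nat.ble (nat_lit 3668) i))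 (@Bool.rec (fun _ => ℕ) (@Bool.rec (fun _ => ℕ) (@Bool.rec (fun _ => ℕ) rb3672 rb3673 (Nat.ble (nat_lit 3673) i)) (@Bool.rec (fun _ => ℕ) rb3674 rb3675 (Nat.ble (nat_lit 3675) i)) (Nat.ble (nat_lit 3674) i)) (@Bool.rec (fun _ => ℕ) (@Bool.rec (fun _ => ℕ) rb3676 rb3677 (Nat.ble (nat_lit 3677) i)) (@Bool.rec (fun _ => ℕ) rb3678 rb3679 (Nat.ble (nat_lit 3679) i)) (Nat.ble (nat_lit 3678) i)) (Nat.ble (nat_lit 3676) i)) (Nat.ble (nat_lit 3672) i)) (Nat.ble (nat_lit 3664) i))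

def rowBlk_n0_115 (i : ℕ) : ℕ := (@Bool.rec (fun _ => ℕ) (@Bool.rec (fun _ => ℕ) (@Bool.rec (fun _ => ℕ) (@Bool.rec (fun _ => ℕ) (@Bool.rec (fun _ => ℕ) rb3680 rb3681 (Nat.ble (nat_lit 3681) i)) (@Bool.rec (fun _ => ℕ) rb3682 rb3683 (Nat.ble (nat_lit 3683) i)) (Nat.ble (nat_lit 3682) i)) (@Bool.rec (fun _ => ℕ) (@Bool.rec (fun _ => ℕ) rb3684 rb3685 (Nat.ble (nat_lit 3685) i)) (@Bool.rec (fun _ => ℕ) rb3686 rb3687 (Nat.ble (nat_lit 3687) i)) (Nat.ble (nat_lit 3686) i)) (Nat.ble (nat_lit 3684) i)) (@Bool.rec (fun _ => ℕ) (@Bool.rec (fun _ => ℕ) (@Bool.rec (fun _ => ℕ) rb3688 rb3689 (Nat.ble (nat_lit 3689) i)) (@Bool.rec (fun _ => ℕ) rb3690 rb3691 (Nat.ble (nat_lit 3691) i)) (Nat.ble (nat_lit 3690) i)) (@Bool.rec (fun _ => ℕ) (@Bool.rec (fun _ => ℕ) rb3692 rb3693 (Nat.ble (nat_lit 3693) i)) (@Bool.rec (fun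 _ => ℕ) rb3694 rb3695 (Nat.ble (nat_lit 3695) i)) (Nat.ble (nat_lit 3694) i)) (Nat.ble (nat_lit 3692) i)) (Nat.ble (nat_lit 3688) i)) (@Bool.rec (fun _ => ℕ) (@Bool.rec (fun _ => ℕ) (@Bool.rec (fun _ => ℕ) (@Bool.rec (fun _ => ℕ) rb3696 rb3697 (Nat.ble (nat_lit 3697) i)) (@Bool.rec (fun _ => ℕ) rb3698 rb3699 (Nat.ble (nat_lit 3699) i)) (Nat.ble (nat_lit 3698) i)) (@Bool.rec (fun _ => ℕ) (@Bool.rec (fun _ => ℕ) rb3700 rb3701 (Nat.ble (nat_lit 3701) i)) (@Bool.rec (fun _ => ℕ) rb3702 rb3703 (Nat.ble (nat_lit 3703) i)) (Nat.ble (nat_lit 3702) i)) (Nat.ble (nat_lit 3700) i)) (@Bool.rec (fun _ => ℕ) (@Bool.rec (fun _ => ℕ) (@Bool.rec (fun _ => ℕ) rb3704 rb3705 (Nat.ble (nat_lit 3705) i)) (@Bool.rec (fun _ => ℕ) rb3706 rb3707 (Nat.ble (nat_lit 3707) i)) (Nat.ble (nat_lit 3706) i)) (@Bool.rec (fun _ => ℕ) (@Bool.rec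 (fun _ => ℕ) rb3708 rb3709 (Nat.ble (nat_lit 3709) i)) (@Bool.rec (fun _ => ℕ) rb3710 rb3711 (Nat.ble (nat_lit 3711) i)) (Nat.ble (nat_lit 3710) i)) (Nat.ble (nat_lit 3708) i)) (Nat.ble (nat_lit 3704) i)) (Nat.ble (nat_lit 3696) i))

def rowBlk_n0_116 (i : ℕ) : ℕ := (@Bool.rec (fun _ => ℕ) (@Bool.rec (fun _ => ℕ) (@Bool.rec (fun _ => ℕ) (@Bool.rec (fun _ => ℕ) (@Bool.rec (fun _ => ℕ) rb3712 rb3713 (Nat.ble (nat_lit 3713) i)) (@Bool.rec (fun _ => ℕ) rb3714 rb3715 (Nat.ble (nat_lit 3715) i)) (Nat.ble (nat_lit 3714) i)) (@Bool.rec (fun _ => ℕ) (@Bool.rec (fun _ => ℕ) rb3716 rb3717 (Nat.ble (nat_lit 3717) i)) (@Bool.rec (fun _ => ℕ) rb3718 rb3719 (Nat.ble (nat_lit 3719) i)) (Nat.ble (nat_lit 3718) i)) (Nat.ble (nat_lit 3716) i)) (@Bool.rec (fun _ => ℕ) (@Bool.rec (fun _ => ℕ) (@Bool.rec (fun _ => ℕ) rb3720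 rb3721 (Nat.ble (nat_lit 3721) i)) (@Bool.rec (fun _ => ℕ) rb3722 rb3723 (Nat.ble (nat_lit 3723) i)) (Nat.ble (nat_lit 3722) i)) (@Bool.rec (fun _ => ℕ) (@Bool.rec (fun _ => ℕ) rb3724 rb3725 (Nat.ble (nat_lit 3725) i)) (@Bool.rec (fun _ => ℕ) rb3726 rb3727 (Nat.ble (nat_lit 3727) i)) (Nat.ble (nat_lit 3726) i)) (Nat.ble (nat_lit 3724) i)) (Nat.ble (nat_lit 3720) i)) (@Bool.rec (fun _ => ℕ) (@Bool.rec (fun _ => ℕ) (@Bool.rec (fun _ => ℕ) (@Bool.rec (fun _ => ℕ) rb3728 rb3729 (Nat.ble (nat_lit 3729) i)) (@Bool.rec (fun _ => ℕ) rb3730 rb3731 (Nat.ble (nat_lit 3731) i)) (Nat.ble (nat_lit 3730) i)) (@Bool.rec (fun _ => ℕ) (@Bool.rec (fun _ => ℕ) rb3732 rb3733 (Nat.ble (nat_lit 3733) i)) (@Bool.rec (fun _ => ℕ) rb3734 rb3735 (Nat.ble (nat_lit 3735) i)) (Nat.ble (nat_lit 3734) i)) (Nat.ble (nat_lit 3732) i))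 (@Bool.rec (fun _ => ℕ) (@Bool.rec (fun _ => ℕ) (@Bool.rec (fun _ => ℕ) rb3736 rb3737 (Nat.ble (nat_lit 3737) i)) (@Bool.rec (fun _ => ℕ) rb3738 rb3739 (Nat.ble (nat_lit 3739) i)) (Nat.ble (nat_lit 3738) i)) (@Bool.rec (fun _ => ℕ) (@Bool.rec (fun _ => ℕ) rb3740 rb3741 (Nat.ble (nat_lit 3741) i)) (@Bool.rec (fun _ => ℕ) rb3742 rb3743 (Nat.ble (nat_lit 3743) i)) (Nat.ble (nat_lit 3742) i)) (Nat.ble (nat_lit 3740) i)) (Nat.ble (nat_lit 3736) i)) (Nat.ble (nat_lit 3728) i))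

def rowBlk_n0_117 (i : ℕ) : ℕ := (@Bool.rec (fun _ => ℕ) (@Bool.rec (fun _ => ℕ) (@Bool.rec (fun _ => ℕ) (@Bool.rec (fun _ => ℕ) (@Bool.rec (fun _ => ℕ) rb3744 rb3745 (Nat.ble (nat_lit 3745) i)) (@Bool.rec (fun _ => ℕ) rb3746 rb3747 (Nat.ble (nat_lit 3747) i)) (Nat.ble (nat_lit 3746) i)) (@Bool.rec (fun _ => ℕ) (@Bool.rec (fun _ => ℕ) rb3748 rb3749 (Nat.ble (nat_lit 3749) i)) (@Bool.rec (fun _ => ℕ) rb3750 rb3751 (Nat.ble (nat_lit 3751) i)) (Nat.ble (nat_lit 3750) i)) (Nat.ble (nat_lit 3748) i)) (@Bool.rec (fun _ => ℕ) (@Bool.rec (fun _ => ℕ) (@Bool.rec (fun _ => ℕ) rb3752 rb3753 (Nat.ble (nat_lit 3753) i)) (@Bool.rec (fun _ => ℕ) rb3754 rb3755 (Nat.ble (nat_lit 3755) i)) (Nat.ble (nat_lit 3754) i)) (@Bool.rec (fun _ => ℕ) (@Bool.rec (fun _ => ℕ) rb3756 rb3757 (Nat.ble (nat_lit 3757) i)) (@Bool.rec (fun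 _ => ℕ) rb3758 rb3759 (Nat.ble (nat_lit 3759) i)) (Nat.ble (nat_lit 3758) i)) (Nat.ble (nat_lit 3756) i)) (Nat.ble (nat_lit 3752) i)) (@Bool.rec (fun _ => ℕ) (@Bool.rec (fun _ => ℕ) (@Bool.rec (fun _ => ℕ) (@Bool.rec (fun _ => ℕ) rb3760 rb3761 (Nat.ble (nat_lit 3761) i)) (@Bool.rec (fun _ => ℕ) rb3762 rb3763 (Nat.ble (nat_lit 3763) i)) (Nat.ble (nat_lit 3762) i)) (@Bool.rec (fun _ => ℕ) (@Bool.rec (fun _ => ℕ) rb3764 rb3765 (Nat.ble (nat_lit 3765) i)) (@Bool.rec (fun _ => ℕ) rb3766 rb3767 (Nat.ble (nat_lit 3767) i)) (Nat.ble (nat_lit 3766) i)) (Nat.ble (nat_lit 3764) i)) (@Bool.rec (fun _ => ℕ) (@Bool.rec (fun _ => ℕ) (@Bool.rec (fun _ => ℕ) rb3768 rb3769 (Nat.ble (nat_lit 3769) i)) (@Bool.rec (fun _ => ℕ) rb3770 rb3771 (Nat.ble (nat_lit 3771) i)) (Nat.ble (nat_lit 3770) i)) (@Bool.rec (fun _ => ℕ) (@Bool.rec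 (fun _ => ℕ) rb3772 rb3773 (Nat.ble (nat_lit 3773) i)) (@Bool.rec (fun _ => ℕ) rb3774 rb3775 (Nat.ble (nat_lit 3775) i)) (Nat.ble (nat_lit 3774) i)) (Nat.ble (nat_lit 3772) i)) (Nat.ble (nat_lit 3768) i)) (Nat.ble (nat_lit 3760) i))

def rowBlk_n0_118 (i : ℕ) : ℕ := (@Bool.rec (fun _ => ℕ) (@Bool.rec (fun _ => ℕ) (@Bool.rec (fun _ => ℕ) (@Bool.rec (fun _ => ℕ) (@Bool.rec (fun _ => ℕ) rb3776 rb3777 (Nat.ble (nat_lit 3777) i)) (@Bool.rec (fun _ => ℕ) rb3778 rb3779 (Nat.ble (nat_lit 3779) i)) (Nat.ble (nat_lit 3778) i)) (@Bool.rec (fun _ => ℕ) (@Bool.rec (fun _ => ℕ) rb3780 rb3781 (Nat.ble (nat_lit 3781) i)) (@Bool.rec (fun _ => ℕ) rb3782 rb3783 (Nat.ble (nat_lit 3783) i)) (Nat.ble (nat_lit 3782) i)) (Nat.ble (nat_lit 3780) i)) (@Bool.rec (fun _ => ℕ) (@Bool.rec (fun _ => ℕ) (@Bool.rec (fun _ => ℕ) rb3784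 rb3785 (Nat.ble (nat_lit 3785) i)) (@Bool.rec (fun _ => ℕ) rb3786 rb3787 (Nat.ble (nat_lit 3787) i)) (Nat.ble (nat_lit 3786) i)) (@Bool.rec (fun _ => ℕ) (@Bool.rec (fun _ => ℕ) rb3788 rb3789 (Nat.ble (nat_lit 3789) i)) (@Bool.rec (fun _ => ℕ) rb3790 rb3791 (Nat.ble (nat_lit 3791) i)) (Nat.ble (nat_lit 3790) i)) (Nat.ble (nat_lit 3788) i)) (Nat.ble (nat_lit 3784) i)) (@Bool.rec (fun _ => ℕ) (@Bool.rec (fun _ => ℕ) (@Bool.rec (fun _ => ℕ) (@Bool.rec (fun _ => ℕ) rb3792 rb3793 (Nat.ble (nat_lit 3793) i)) (@Bool.rec (fun _ => ℕ) rb3794 rb3795 (Nat.ble (nat_lit 3795) i)) (Nat.ble (nat_lit 3794) i)) (@Bool.rec (fun _ => ℕ) (@Bool.rec (fun _ => ℕ) rb3796 rb3797 (Nat.ble (nat_lit 3797) i)) (@Bool.rec (fun _ => ℕ) rb3798 rb3799 (Nat.ble (nat_lit 3799) i)) (Nat.ble (nat_lit 3798) i)) (Nat.ble (nat_lit 3796) i))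 (@Bool.rec (fun _ => ℕ) (@Bool.rec (fun _ => ℕ) (@Bool.rec (fun _ => ℕ) rb3800 rb3801 (Nat.ble (nat_lit 3801) i)) (@Bool.rec (fun _ => ℕ) rb3802 rb3803 (Nat.ble (nat_lit 3803) i)) (Nat.ble (nat_lit 3802) i)) (@Bool.rec (fun _ => ℕ) (@Bool.rec (fun _ => ℕ) rb3804 rb3805 (Nat.ble (nat_lit 3805) i)) (@Bool.rec (fun _ => ℕ) rb3806 rb3807 (Nat.ble (nat_lit 3807) i)) (Nat.ble (nat_lit 3806) i)) (Nat.ble (nat_lit 3804) i)) (Nat.ble (nat_lit 3800) i)) (Nat.ble (nat_lit 3792) i))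

def rowBlk_n0_119 (i : ℕ) : ℕ := (@Bool.rec (fun _ => ℕ) (@Bool.rec (fun _ => ℕ) (@Bool.rec (fun _ => ℕ) (@Bool.rec (fun _ => ℕ) (@Bool.rec (fun _ => ℕ) rb3808 rb3809 (Nat.ble (nat_lit 3809) i)) (@Bool.rec (fun _ => ℕ) rb3810 rb3811 (Nat.ble (nat_lit 3811) i)) (Nat.ble (nat_lit 3810) i)) (@Bool.rec (fun _ => ℕ) (@Bool.rec (fun _ => ℕ) rb3812 rb3813 (Nat.ble (nat_lit 3813) i)) (@Bool.rec (fun _ => ℕ) rb3814 rb3815 (Nat.ble (nat_lit 3815) i)) (Nat.ble (nat_lit 3814) i)) (Nat.ble (nat_lit 3812) i)) (@Bool.rec (fun _ => ℕ) (@Bool.rec (fun _ => ℕ) (@Bool.rec (fun _ => ℕ) rb3816 rb3817 (Nat.ble (nat_lit 3817) i)) (@Bool.rec (fun _ => ℕ) rb3818 rb3819 (Nat.ble (nat_lit 3819) i)) (Nat.ble (nat_lit 3818) i)) (@Bool.rec (fun _ => ℕ) (@Bool.rec (fun _ => ℕ) rb3820 rb3821 (Nat.ble (nat_lit 3821) i)) (@Bool.rec (fun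 _ => ℕ) rb3822 rb3823 (Nat.ble (nat_lit 3823) i)) (Nat.ble (nat_lit 3822) i)) (Nat.ble (nat_lit 3820) i)) (Nat.ble (nat_lit 3816) i)) (@Bool.rec (fun _ => ℕ) (@Bool.rec (fun _ => ℕ) (@Bool.rec (fun _ => ℕ) (@Bool.rec (fun _ => ℕ) rb3824 rb3825 (Nat.ble (nat_lit 3825) i)) (@Bool.rec (fun _ => ℕ) rb3826 rb3827 (Nat.ble (nat_lit 3827) i)) (Nat.ble (nat_lit 3826) i)) (@Bool.rec (fun _ => ℕ) (@Bool.rec (fun _ => ℕ) rb3828 rb3829 (Nat.ble (nat_lit 3829) i)) (@Bool.rec (fun _ => ℕ) rb3830 rb3831 (Nat.ble (nat_lit 3831) i)) (Nat.ble (nat_lit 3830) i)) (Nat.ble (nat_lit 3828) i)) (@Bool.rec (fun _ => ℕ) (@Bool.rec (fun _ => ℕ) (@Bool.rec (fun _ => ℕ) rb3832 rb3833 (Nat.ble (nat_lit 3833) i)) (@Bool.rec (fun _ => ℕ) rb3834 rb3835 (Nat.ble (nat_lit 3835) i)) (Nat.ble (nat_lit 3834) i)) (@Bool.rec (fun _ => ℕ) (@Bool.rec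 (fun _ => ℕ) rb3836 rb3837 (Nat.ble (nat_lit 3837) i)) (@Bool.rec (fun _ => ℕ) rb3838 rb3839 (Nat.ble (nat_lit 3839) i)) (Nat.ble (nat_lit 3838) i)) (Nat.ble (nat_lit 3836) i)) (Nat.ble (nat_lit 3832) i)) (Nat.ble (nat_lit 3824) i))

def rowBlk_n0_120 (i : ℕ) : ℕ := (@Bool.rec (fun _ => ℕ) (@Bool.rec (fun _ => ℕ) (@Bool.rec (fun _ => ℕ) (@Bool.rec (fun _ => ℕ) (@Bool.rec (fun _ => ℕ) rb3840 rb3841 (Nat.ble (nat_lit 3841) i)) (@Bool.rec (fun _ => ℕ) rb3842 rb3843 (Nat.ble (nat_lit 3843) i)) (Nat.ble (nat_lit 3842) i)) (@Bool.rec (fun _ => ℕ) (@Bool.rec (fun _ => ℕ) rb3844 rb3845 (Nat.ble (nat_lit 3845) i)) (@Bool.rec (fun _ => ℕ) rb3846 rb3847 (Nat.ble (nat_lit 3847) i)) (Nat.ble (nat_lit 3846) i)) (Nat.ble (nat_lit 3844) i)) (@Bool.rec (fun _ => ℕ) (@Bool.rec (fun _ => ℕ) (@Bool.rec (fun _ => ℕ) rb3848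 rb3849 (Nat.ble (nat_lit 3849) i)) (@Bool.rec (fun _ => ℕ) rb3850 rb3851 (Nat.ble (nat_lit 3851) i)) (Nat.ble (nat_lit 3850) i)) (@Bool.rec (fun _ => ℕ) (@Bool.rec (fun _ => ℕ) rb3852 rb3853 (Nat.ble (nat_lit 3853) i)) (@Bool.rec (fun _ => ℕ) rb3854 rb3855 (Nat.ble (nat_lit 3855) i)) (Nat.ble (nat_lit 3854) i)) (Nat.ble (nat_lit 3852) i)) (Nat.ble (nat_lit 3848) i)) (@Bool.rec (fun _ => ℕ) (@Bool.rec (fun _ => ℕ) (@Bool.rec (fun _ => ℕ) (@Bool.rec (fun _ => ℕ) rb3856 rb3857 (Nat.ble (nat_lit 3857) i)) (@Bool.rec (fun _ => ℕ) rb3858 rb3859 (Nat.ble (nat_lit 3859) i)) (Nat.ble (nat_lit 3858) i)) (@Bool.rec (fun _ => ℕ) (@Bool.rec (fun _ => ℕ) rb3860 rb3861 (Nat.ble (nat_lit 3861) i)) (@Bool.rec (fun _ => ℕ) rb3862 rb3863 (Nat.ble (nat_lit 3863) i)) (Nat.ble (nat_lit 3862) i)) (Nat.ble (nat_lit 3860) i))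 (@Bool.rec (fun _ => ℕ) (@Bool.rec (fun _ => ℕ) (@Bool.rec (fun _ => ℕ) rb3864 rb3865 (Nat.ble (nat_lit 3865) i)) (@Bool.rec (fun _ => ℕ) rb3866 rb3867 (Nat.ble (nat_lit 3867) i)) (Nat.ble (nat_lit 3866) i)) (@Bool.rec (fun _ => ℕ) (@Bool.rec (fun _ => ℕ) rb3868 rb3869 (Nat.ble (nat_lit 3869) i)) (@Bool.rec (fun _ => ℕ) rb3870 rb3871 (Nat.ble (nat_lit 3871) i)) (Nat.ble (nat_lit 3870) i)) (Nat.ble (nat_lit 3868) i)) (Nat.ble (nat_lit 3864) i)) (Nat.ble (nat_lit 3856) i))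

def rowBlk_n0_121 (i : ℕ) : ℕ := (@Bool.rec (fun _ => ℕ) (@Bool.rec (fun _ => ℕ) (@Bool.rec (fun _ => ℕ) (@Bool.rec (fun _ => ℕ) (@Bool.rec (fun _ => ℕ) rb3872 rb3873 (Nat.ble (nat_lit 3873) i)) (@Bool.rec (fun _ => ℕ) rb3874 rb3875 (Nat.ble (nat_lit 3875) i)) (Nat.ble (nat_lit 3874) i)) (@Bool.rec (fun _ => ℕ) (@Bool.rec (fun _ => ℕ) rb3876 rb3877 (Nat.ble (nat_lit 3877) i)) (@Bool.rec (fun _ => ℕ) rb3878 rb3879 (Nat.ble (nat_lit 3879) i)) (Nat.ble (nat_lit 3878) i)) (Nat.ble (nat_lit 3876) i)) (@Bool.rec (fun _ => ℕ) (@Bool.rec (fun _ => ℕ) (@Bool.rec (fun _ => ℕ) rb3880 rb3881 (Nat.ble (nat_lit 3881) i)) (@Bool.rec (fun _ => ℕ) rb3882 rb3883 (Nat.ble (nat_lit 3883) i)) (Nat.ble (nat_lit 3882) i)) (@Bool.rec (fun _ => ℕ) (@Bool.rec (fun _ => ℕ) rb3884 rb3885 (Nat.ble (nat_lit 3885) i)) (@Bool.rec (fun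 _ => ℕ) rb3886 rb3887 (Nat.ble (nat_lit 3887) i)) (Nat.ble (nat_lit 3886) i)) (Nat.ble (nat_lit 3884) i)) (Nat.ble (nat_lit 3880) i)) (@Bool.rec (fun _ => ℕ) (@Bool.rec (fun _ => ℕ) (@Bool.rec (fun _ => ℕ) (@Bool.rec (fun _ => ℕ) rb3888 rb3889 (Nat.ble (nat_lit 3889) i)) (@Bool.rec (fun _ => ℕ) rb3890 rb3891 (Nat.ble (nat_lit 3891) i)) (Nat.ble (nat_lit 3890) i)) (@Bool.rec (fun _ => ℕ) (@Bool.rec (fun _ => ℕ) rb3892 rb3893 (Nat.ble (nat_lit 3893) i)) (@Bool.rec (fun _ => ℕ) rb3894 rb3895 (Nat.ble (nat_lit 3895) i)) (Nat.ble (nat_lit 3894) i)) (Nat.ble (nat_lit 3892) i)) (@Bool.rec (fun _ => ℕ) (@Bool.rec (fun _ => ℕ) (@Bool.rec (fun _ => ℕ) rb3896 rb3897 (Nat.ble (nat_lit 3897) i)) (@Bool.rec (fun _ => ℕ) rb3898 rb3899 (Nat.ble (nat_lit 3899) i)) (Nat.ble (nat_lit 3898) i)) (@Bool.rec (fun _ => ℕ) (@Bool.rec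 (fun _ => ℕ) rb3900 rb3901 (Nat.ble (nat_lit 3901) i)) (@Bool.rec (fun _ => ℕ) rb3902 rb3903 (Nat.ble (nat_lit 3903) i)) (Nat.ble (nat_lit 3902) i)) (Nat.ble (nat_lit 3900) i)) (Nat.ble (nat_lit 3896) i)) (Nat.ble (nat_lit 3888) i))

def rowBlk_n0_122 (i : ℕ) : ℕ := (@Bool.rec (fun _ => ℕ) (@Bool.rec (fun _ => ℕ) (@Bool.rec (fun _ => ℕ) (@Bool.rec (fun _ => ℕ) (@Bool.rec (fun _ => ℕ) rb3904 rb3905 (Nat.ble (nat_lit 3905) i)) (@Bool.rec (fun _ => ℕ) rb3906 rb3907 (Nat.ble (nat_lit 3907) i)) (Nat.ble (nat_lit 3906) i)) (@Bool.rec (fun _ => ℕ) (@Bool.rec (fun _ => ℕ) rb3908 rb3909 (Nat.ble (nat_lit 3909) i)) (@Bool.rec (fun _ => ℕ) rb3910 rb3911 (Nat.ble (nat_lit 3911) i)) (Nat.ble (nat_lit 3910) i)) (Nat.ble (nat_lit 3908) i)) (@Bool.rec (fun _ => ℕ) (@Bool.rec (fun _ => ℕ) (@Bool.rec (fun _ => ℕ) rb3912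 rb3913 (Nat.ble (nat_lit 3913) i)) (@Bool.rec (fun _ => ℕ) rb3914 rb3915 (Nat.ble (nat_lit 3915) i)) (Nat.ble (nat_lit 3914) i)) (@Bool.rec (fun _ => ℕ) (@Bool.rec (fun _ => ℕ) rb3916 rb3917 (Nat.ble (nat_lit 3917) i)) (@Bool.rec (fun _ => ℕ) rb3918 rb3919 (Nat.ble (nat_lit 3919) i)) (Nat.ble (nat_lit 3918) i)) (Nat.ble (nat_lit 3916) i)) (Nat.ble (nat_lit 3912) i)) (@Bool.rec (fun _ => ℕ) (@Bool.rec (fun _ => ℕ) (@Bool.rec (fun _ => ℕ) (@Bool.rec (fun _ => ℕ) rb3920 rb3921 (Nat.ble (nat_lit 3921) i)) (@Bool.rec (fun _ => ℕ) rb3922 rb3923 (Nat.ble (nat_lit 3923) i)) (Nat.ble (nat_lit 3922) i)) (@Bool.rec (fun _ => ℕ) (@Bool.rec (fun _ => ℕ) rb3924 rb3925 (Nat.ble (nat_lit 3925) i)) (@Bool.rec (fun _ => ℕ) rb3926 rb3927 (Nat.ble (nat_lit 3927) i)) (Nat.ble (nat_lit 3926) i)) (Nat.ble (nat_lit 3924) i))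 (@Bool.rec (fun _ => ℕ) (@Bool.rec (fun _ => ℕ) (@Bool.rec (fun _ => ℕ) rb3928 rb3929 (Nat.ble (nat_lit 3929) i)) (@Bool.rec (fun _ => ℕ) rb3930 rb3931 (Nat.ble (nat_lit 3931) i)) (Nat.ble (nat_lit 3930) i)) (@Bool.rec (fun _ => ℕ) (@Bool.rec (fun _ => ℕ) rb3932 rb3933 (Nat.ble (nat_lit 3933) i)) (@Bool.rec (fun _ => ℕ) rb3934 rb3935 (Nat.ble (nat_lit 3935) i)) (Nat.ble (nat_lit 3934) i)) (Nat.ble (nat_lit 3932) i)) (Nat.ble (nat_lit 3928) i)) (Nat.ble (nat_lit 3920) i))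

def rowBlk_n0_123 (i : ℕ) : ℕ := (@Bool.rec (fun _ => ℕ) (@Bool.rec (fun _ => ℕ) (@Bool.rec (fun _ => ℕ) (@Bool.rec (fun _ => ℕ) (@Bool.rec (fun _ => ℕ) rb3936 rb3937 (Nat.ble (nat_lit 3937) i)) (@Bool.rec (fun _ => ℕ) rb3938 rb3939 (Nat.ble (nat_lit 3939) i)) (Nat.ble (nat_lit 3938) i)) (@Bool.rec (fun _ => ℕ) (@Bool.rec (fun _ => ℕ) rb3940 rb3941 (Nat.ble (nat_lit 3941) i)) (@Bool.rec (fun _ => ℕ) rb3942 rb3943 (Nat.ble (nat_lit 3943) i)) (Nat.ble (nat_lit 3942) i)) (Nat.ble (nat_lit 3940) i)) (@Bool.rec (fun _ => ℕ) (@Bool.rec (fun _ => ℕ) (@Bool.rec (fun _ => ℕ) rb3944 rb3945 (Nat.ble (nat_lit 3945) i)) (@Bool.rec (fun _ => ℕ) rb3946 rb3947 (Nat.ble (nat_lit 3947) i)) (Nat.ble (nat_lit 3946) i)) (@Bool.rec (fun _ => ℕ) (@Bool.rec (fun _ => ℕ) rb3948 rb3949 (Nat.ble (nat_lit 3949) i)) (@Bool.rec (fun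 _ => ℕ) rb3950 rb3951 (Nat.ble (nat_lit 3951) i)) (Nat.ble (nat_lit 3950) i)) (Nat.ble (nat_lit 3948) i)) (Nat.ble (nat_lit 3944) i)) (@Bool.rec (fun _ => ℕ) (@Bool.rec (fun _ => ℕ) (@Bool.rec (fun _ => ℕ) (@Bool.rec (fun _ => ℕ) rb3952 rb3953 (Nat.ble (nat_lit 3953) i)) (@Bool.rec (fun _ => ℕ) rb3954 rb3955 (Nat.ble (nat_lit 3955) i)) (Nat.ble (nat_lit 3954) i)) (@Bool.rec (fun _ => ℕ) (@Bool.rec (fun _ => ℕ) rb3956 rb3957 (Nat.ble (nat_lit 3957) i)) (@Bool.rec (fun _ => ℕ) rb3958 rb3959 (Nat.ble (nat_lit 3959) i)) (Nat.ble (nat_lit 3958) i)) (Nat.ble (nat_lit 3956) i)) (@Bool.rec (fun _ => ℕ) (@Bool.rec (fun _ => ℕ) (@Bool.rec (fun _ => ℕ) rb3960 rb3961 (Nat.ble (nat_lit 3961) i)) (@Bool.rec (fun _ => ℕ) rb3962 rb3963 (Nat.ble (nat_lit 3963) i)) (Nat.ble (nat_lit 3962) i)) (@Bool.rec (fun _ => ℕ) (@Bool.rec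 (fun _ => ℕ) rb3964 rb3965 (Nat.ble (nat_lit 3965) i)) (@Bool.rec (fun _ => ℕ) rb3966 rb3967 (Nat.ble (nat_lit 3967) i)) (Nat.ble (nat_lit 3966) i)) (Nat.ble (nat_lit 3964) i)) (Nat.ble (nat_lit 3960) i)) (Nat.ble (nat_lit 3952) i))

def rowBlk_n0_124 (i : ℕ) : ℕ := (@Bool.rec (fun _ => ℕ) (@Bool.rec (fun _ => ℕ) (@Bool.rec (fun _ => ℕ) (@Bool.rec (fun _ => ℕ) (@Bool.rec (fun _ => ℕ) rb3968 rb3969 (Nat.ble (nat_lit 3969) i)) (@Bool.rec (fun _ => ℕ) rb3970 rb3971 (Nat.ble (nat_lit 3971) i)) (Nat.ble (nat_lit 3970) i)) (@Bool.rec (fun _ => ℕ) (@Bool.rec (fun _ => ℕ) rb3972 rb3973 (Nat.ble (nat_lit 3973) i)) (@Bool.rec (fun _ => ℕ) rb3974 rb3975 (Nat.ble (nat_lit 3975) i)) (Nat.ble (nat_lit 3974) i)) (Nat.ble (nat_lit 3972) i)) (@Bool.rec (fun _ => ℕ) (@Bool.rec (fun _ => ℕ) (@Bool.rec (fun _ => ℕ) rb3976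 rb3977 (Nat.ble (nat_lit 3977) i)) (@Bool.rec (fun _ => ℕ) rb3978 rb3979 (Nat.ble (nat_lit 3979) i)) (Nat.ble (nat_lit 3978) i)) (@Bool.rec (fun _ => ℕ) (@Bool.rec (fun _ => ℕ) rb3980 rb3981 (Nat.ble (nat_lit 3981) i)) (@Bool.rec (fun _ => ℕ) rb3982 rb3983 (Nat.ble (nat_lit 3983) i)) (Nat.ble (nat_lit 3982) i)) (Nat.ble (nat_lit 3980) i)) (Nat.ble (nat_lit 3976) i)) (@Bool.rec (fun _ => ℕ) (@Bool.rec (fun _ => ℕ) (@Bool.rec (fun _ => ℕ) (@Bool.rec (fun _ => ℕ) rb3984 rb3985 (Nat.ble (nat_lit 3985) i)) (@Bool.rec (fun _ => ℕ) rb3986 rb3987 (Nat.ble (nat_lit 3987) i)) (Nat.ble (nat_lit 3986) i)) (@Bool.rec (fun _ => ℕ) (@Bool.rec (fun _ => ℕ) rb3988 rb3989 (Nat.ble (nat_lit 3989) i)) (@Bool.rec (fun _ => ℕ) rb3990 rb3991 (Nat.ble (nat_lit 3991) i)) (Nat.ble (nat_lit 3990) i)) (Nat.ble (nat_lit 3988) i))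 (@Bool.rec (fun _ => ℕ) (@Bool.rec (fun _ => ℕ) (@Bool.rec (fun _ => ℕ) rb3992 rb3993 (Nat.ble (nat_lit 3993) i)) (@Bool.rec (fun _ => ℕ) rb3994 rb3995 (Nat.ble (nat_lit 3995) i)) (Nat.ble (nat_lit 3994) i)) (@Bool.rec (fun _ => ℕ) (@Bool.rec (fun _ => ℕ) rb3996 rb3997 (Nat.ble (nat_lit 3997) i)) (@Bool.rec (fun _ => ℕ) rb3998 rb3999 (Nat.ble (nat_lit 3999) i)) (Nat.ble (nat_lit 3998) i)) (Nat.ble (nat_lit 3996) i)) (Nat.ble (nat_lit 3992) i)) (Nat.ble (nat_lit 3984) i))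

def rowBlk_n0_125 (i : ℕ) : ℕ := (@Bool.rec (fun _ => ℕ) (@Bool.rec (fun _ => ℕ) (@Bool.rec (fun _ => ℕ) (@Bool.rec (fun _ => ℕ) (@Bool.rec (fun _ => ℕ) rb4000 rb4001 (Nat.ble (nat_lit 4001) i)) (@Bool.rec (fun _ => ℕ) rb4002 rb4003 (Nat.ble (nat_lit 4003) i)) (Nat.ble (nat_lit 4002) i)) (@Bool.rec (fun _ => ℕ) (@Bool.rec (fun _ => ℕ) rb4004 rb4005 (Nat.ble (nat_lit 4005) i)) (@Bool.rec (fun _ => ℕ) rb4006 rb4007 (Nat.ble (nat_lit 4007) i)) (Nat.ble (nat_lit 4006) i)) (Nat.ble (nat_lit 4004) i)) (@Bool.rec (fun _ => ℕ) (@Bool.rec (fun _ => ℕ) (@Bool.rec (fun _ => ℕ) rb4008 rb4009 (Nat.ble (nat_lit 4009) i)) (@Bool.rec (fun _ => ℕ) rb4010 rb4011 (Nat.ble (nat_lit 4011) i)) (Nat.ble (nat_lit 4010) i)) (@Bool.rec (fun _ => ℕ) (@Bool.rec (fun _ => ℕ) rb4012 rb4013 (Nat.ble (nat_lit 4013) i)) (@Bool.rec (fun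 _ => ℕ) rb4014 rb4015 (Nat.ble (nat_lit 4015) i)) (Nat.ble (nat_lit 4014) i)) (Nat.ble (nat_lit 4012) i)) (Nat.ble (nat_lit 4008) i)) (@Bool.rec (fun _ => ℕ) (@Bool.rec (fun _ => ℕ) (@Bool.rec (fun _ => ℕ) (@Bool.rec (fun _ => ℕ) rb4016 rb4017 (Nat.ble (nat_lit 4017) i)) (@Bool.rec (fun _ => ℕ) rb4018 rb4019 (Nat.ble (nat_lit 4019) i)) (Nat.ble (nat_lit 4018) i)) (@Bool.rec (fun _ => ℕ) (@Bool.rec (fun _ => ℕ) rb4020 rb4021 (Nat.ble (nat_lit 4021) i)) (@Bool.rec (fun _ => ℕ) rb4022 rb4023 (Nat.ble (nat_lit 4023) i)) (Nat.ble (nat_lit 4022) i)) (Nat.ble (nat_lit 4020) i)) (@Bool.rec (fun _ => ℕ) (@Bool.rec (fun _ => ℕ) (@Bool.rec (fun _ => ℕ) rb4024 rb4025 (Nat.ble (nat_lit 4025) i)) (@Bool.rec (fun _ => ℕ) rb4026 rb4027 (Nat.ble (nat_lit 4027) i)) (Nat.ble (nat_lit 4026) i)) (@Bool.rec (fun _ => ℕ) (@Bool.rec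 (fun _ => ℕ) rb4028 rb4029 (Nat.ble (nat_lit 4029) i)) (@Bool.rec (fun _ => ℕ) rb4030 rb4031 (Nat.ble (nat_lit 4031) i)) (Nat.ble (nat_lit 4030) i)) (Nat.ble (nat_lit 4028) i)) (Nat.ble (nat_lit 4024) i)) (Nat.ble (nat_lit 4016) i))

def rowBlk_n0_126 (i : ℕ) : ℕ := (@Bool.rec (fun _ => ℕ) (@Bool.rec (fun _ => ℕ) (@Bool.rec (fun _ => ℕ) (@Bool.rec (fun _ => ℕ) (@Bool.rec (fun _ => ℕ) rb4032 rb4033 (Nat.ble (nat_lit 4033) i)) (@Bool.rec (fun _ => ℕ) rb4034 rb4035 (Nat.ble (nat_lit 4035) i)) (Nat.ble (nat_lit 4034) i)) (@Bool.rec (fun _ => ℕ) (@Bool.rec (fun _ => ℕ) rb4036 rb4037 (Nat.ble (nat_lit 4037) i)) (@Bool.rec (fun _ => ℕ) rb4038 rb4039 (Nat.ble (nat_lit 4039) i)) (Nat.ble (nat_lit 4038) i)) (Nat.ble (nat_lit 4036) i)) (@Bool.rec (fun _ => ℕ) (@Bool.rec (fun _ => ℕ) (@Bool.rec (fun _ => ℕ) rb4040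 rb4041 (Nat.ble (nat_lit 4041) i)) (@Bool.rec (fun _ => ℕ) rb4042 rb4043 (Nat.ble (nat_lit 4043) i)) (Nat.ble (nat_lit 4042) i)) (@Bool.rec (fun _ => ℕ) (@Bool.rec (fun _ => ℕ) rb4044 rb4045 (Nat.ble (nat_lit 4045) i)) (@Bool.rec (fun _ => ℕ) rb4046 rb4047 (Nat.ble (nat_lit 4047) i)) (Nat.ble (nat_lit 4046) i)) (Nat.ble (nat_lit 4044) i)) (Nat.ble (nat_lit 4040) i)) (@Bool.rec (fun _ => ℕ) (@Bool.rec (fun _ => ℕ) (@Bool.rec (fun _ => ℕ) (@Bool.rec (fun _ => ℕ) rb4048 rb4049 (Nat.ble (nat_lit 4049) i)) (@Bool.rec (fun _ => ℕ) rb4050 rb4051 (Nat.ble (nat_lit 4051) i)) (Nat.ble (nat_lit 4050) i)) (@Bool.rec (fun _ => ℕ) (@Bool.rec (fun _ => ℕ) rb4052 rb4053 (Nat.ble (nat_lit 4053) i)) (@Bool.rec (fun _ => ℕ) rb4054 rb4055 (Nat.ble (nat_lit 4055) i)) (Nat.ble (nat_lit 4054) i)) (Nat.ble (nat_lit 4052) i))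 (@Bool.rec (fun _ => ℕ) (@Bool.rec (fun _ => ℕ) (@Bool.rec (fun _ => ℕ) rb4056 rb4057 (Nat.ble (nat_lit 4057) i)) (@Bool.rec (fun _ => ℕ) rb4058 rb4059 (Nat.ble (nat_lit 4059) i)) (Nat.ble (nat_lit 4058) i)) (@Bool.rec (fun _ => ℕ) (@Bool.rec (fun _ => ℕ) rb4060 rb4061 (Nat.ble (nat_lit 4061) i)) (@Bool.rec (fun _ => ℕ) rb4062 rb4063 (Nat.ble (nat_lit 4063) i)) (Nat.ble (nat_lit 4062) i)) (Nat.ble (nat_lit 4060) i)) (Nat.ble (nat_lit 4056) i)) (Nat.ble (nat_lit 4048) i))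

def rowBlk_n0_127 (i : ℕ) : ℕ := (@Bool.rec (fun _ => ℕ) (@Bool.rec (fun _ => ℕ) (@Bool.rec (fun _ => ℕ) (@Bool.rec (fun _ => ℕ) (@Bool.rec (fun _ => ℕ) rb4064 rb4065 (Nat.ble (nat_lit 4065) i)) (@Bool.rec (fun _ => ℕ) rb4066 rb4067 (Nat.ble (nat_lit 4067) i)) (Nat.ble (nat_lit 4066) i)) (@Bool.rec (fun _ => ℕ) (@Bool.rec (fun _ => ℕ) rb4068 rb4069 (Nat.ble (nat_lit 4069) i)) (@Bool.rec (fun _ => ℕ) rb4070 rb4071 (Nat.ble (nat_lit 4071) i)) (Nat.ble (nat_lit 4070) i)) (Nat.ble (nat_lit 4068) i)) (@Bool.rec (fun _ => ℕ) (@Bool.rec (fun _ => ℕ) (@Bool.rec (fun _ => ℕ) rb4072 rb4073 (Nat.ble (nat_lit 4073) i)) (@Bool.rec (fun _ => ℕ) rb4074 rb4075 (Nat.ble (nat_lit 4075) i)) (Nat.ble (nat_lit 4074) i)) (@Bool.rec (fun _ => ℕ) (@Bool.rec (fun _ => ℕ) rb4076 rb4077 (Nat.ble (nat_lit 4077) i)) (@Bool.rec (fun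 _ => ℕ) rb4078 rb4079 (Nat.ble (nat_lit 4079) i)) (Nat.ble (nat_lit 4078) i)) (Nat.ble (nat_lit 4076) i)) (Nat.ble (nat_lit 4072) i)) (@Bool.rec (fun _ => ℕ) (@Bool.rec (fun _ => ℕ) (@Bool.rec (fun _ => ℕ) (@Bool.rec (fun _ => ℕ) rb4080 rb4081 (Nat.ble (nat_lit 4081) i)) (@Bool.rec (fun _ => ℕ) rb4082 rb4083 (Nat.ble (nat_lit 4083) i)) (Nat.ble (nat_lit 4082) i)) (@Bool.rec (fun _ => ℕ) (@Bool.rec (fun _ => ℕ) rb4084 rb4085 (Nat.ble (nat_lit 4085) i)) (@Bool.rec (fun _ => ℕ) rb4086 rb4087 (Nat.ble (nat_lit 4087) i)) (Nat.ble (nat_lit 4086) i)) (Nat.ble (nat_lit 4084) i)) (@Bool.rec (fun _ => ℕ) (@Bool.rec (fun _ => ℕ) (@Bool.rec (fun _ => ℕ) rb4088 rb4089 (Nat.ble (nat_lit 4089) i)) (@Bool.rec (fun _ => ℕ) rb4090 rb4091 (Nat.ble (nat_lit 4091) i)) (Nat.ble (nat_lit 4090) i)) (@Bool.rec (fun _ => ℕ) (@Bool.rec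 (fun _ => ℕ) rb4092 rb4093 (Nat.ble (nat_lit 4093) i)) (@Bool.rec (fun _ => ℕ) rb4094 rb4095 (Nat.ble (nat_lit 4095) i)) (Nat.ble (nat_lit 4094) i)) (Nat.ble (nat_lit 4092) i)) (Nat.ble (nat_lit 4088) i)) (Nat.ble (nat_lit 4080) i))

def rowBlk_n0_128 (i : ℕ) : ℕ := (@Bool.rec (fun _ => ℕ) (@Bool.rec (fun _ => ℕ) (@Bool.rec (fun _ => ℕ) (@Bool.rec (fun _ => ℕ) (@Bool.rec (fun _ => ℕ) rb4096 rb4097 (Nat.ble (nat_lit 4097) i)) (@Bool.rec (fun _ => ℕ) rb4098 rb4099 (Nat.ble (nat_lit 4099) i)) (Nat.ble (nat_lit 4098) i)) (@Bool.rec (fun _ => ℕ) (@Bool.rec (fun _ => ℕ) rb4100 rb4101 (Nat.ble (nat_lit 4101) i)) (@Bool.rec (fun _ => ℕ) rb4102 rb4103 (Nat.ble (nat_lit 4103) i)) (Nat.ble (nat_lit 4102) i)) (Nat.ble (nat_lit 4100) i)) (@Bool.rec (fun _ => ℕ) (@Bool.rec (fun _ => ℕ) (@Bool.rec (fun _ => ℕ) rb4104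 rb4105 (Nat.ble (nat_lit 4105) i)) (@Bool.rec (fun _ => ℕ) rb4106 rb4107 (Nat.ble (nat_lit 4107) i)) (Nat.ble (nat_lit 4106) i)) (@Bool.rec (fun _ => ℕ) (@Bool.rec (fun _ => ℕ) rb4108 rb4109 (Nat.ble (nat_lit 4109) i)) (@Bool.rec (fun _ => ℕ) rb4110 rb4111 (Nat.ble (nat_lit 4111) i)) (Nat.ble (nat_lit 4110) i)) (Nat.ble (nat_lit 4108) i)) (Nat.ble (nat_lit 4104) i)) (@Bool.rec (fun _ => ℕ) (@Bool.rec (fun _ => ℕ) (@Bool.rec (fun _ => ℕ) (@Bool.rec (fun _ => ℕ) rb4112 rb4113 (Nat.ble (nat_lit 4113) i)) (@Bool.rec (fun _ => ℕ) rb4114 rb4115 (Nat.ble (nat_lit 4115) i)) (Nat.ble (nat_lit 4114) i)) (@Bool.rec (fun _ => ℕ) (@Bool.rec (fun _ => ℕ) rb4116 rb4117 (Nat.ble (nat_lit 4117) i)) (@Bool.rec (fun _ => ℕ) rb4118 rb4119 (Nat.ble (nat_lit 4119) i)) (Nat.ble (nat_lit 4118) i)) (Nat.ble (nat_lit 4116) i))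 (@Bool.rec (fun _ => ℕ) (@Bool.rec (fun _ => ℕ) (@Bool.rec (fun _ => ℕ) rb4120 rb4121 (Nat.ble (nat_lit 4121) i)) (@Bool.rec (fun _ => ℕ) rb4122 rb4123 (Nat.ble (nat_lit 4123) i)) (Nat.ble (nat_lit 4122) i)) (@Bool.rec (fun _ => ℕ) (@Bool.rec (fun _ => ℕ) rb4124 rb4125 (Nat.ble (nat_lit 4125) i)) (@Bool.rec (fun _ => ℕ) rb4126 rb4127 (Nat.ble (nat_lit 4127) i)) (Nat.ble (nat_lit 4126) i)) (Nat.ble (nat_lit 4124) i)) (Nat.ble (nat_lit 4120) i)) (Nat.ble (nat_lit 4112) i))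

def rowBlk_n0_129 (i : ℕ) : ℕ := (@Bool.rec (fun _ => ℕ) (@Bool.rec (fun _ => ℕ) (@Bool.rec (fun _ => ℕ) (@Bool.rec (fun _ => ℕ) (@Bool.rec (fun _ => ℕ) rb4128 rb4129 (Nat.ble (nat_lit 4129) i)) (@Bool.rec (fun _ => ℕ) rb4130 rb4131 (Nat.ble (nat_lit 4131) i)) (Nat.ble (nat_lit 4130) i)) (@Bool.rec (fun _ => ℕ) (@Bool.rec (fun _ => ℕ) rb4132 rb4133 (Nat.ble (nat_lit 4133) i)) (@Bool.rec (fun _ => ℕ) rb4134 rb4135 (Nat.ble (nat_lit 4135) i)) (Nat.ble (nat_lit 4134) i)) (Nat.ble (nat_lit 4132) i)) (@Bool.rec (fun _ => ℕ) (@Bool.rec (fun _ => ℕ) (@Bool.rec (fun _ => ℕ) rb4136 rb4137 (Nat.ble (nat_lit 4137) i)) (@Bool.rec (fun _ => ℕ) rb4138 rb4139 (Nat.ble (nat_lit 4139) i)) (Nat.ble (nat_lit 4138) i)) (@Bool.rec (fun _ => ℕ) (@Bool.rec (fun _ => ℕ) rb4140 rb4141 (Nat.ble (nat_lit 4141) i)) (@Bool.rec (fun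 _ => ℕ) rb4142 rb4143 (Nat.ble (nat_lit 4143) i)) (Nat.ble (nat_lit 4142) i)) (Nat.ble (nat_lit 4140) i)) (Nat.ble (nat_lit 4136) i)) (@Bool.rec (fun _ => ℕ) (@Bool.rec (fun _ => ℕ) (@Bool.rec (fun _ => ℕ) (@Bool.rec (fun _ => ℕ) rb4144 rb4145 (Nat.ble (nat_lit 4145) i)) (@Bool.rec (fun _ => ℕ) rb4146 rb4147 (Nat.ble (nat_lit 4147) i)) (Nat.ble (nat_lit 4146) i)) (@Bool.rec (fun _ => ℕ) (@Bool.rec (fun _ => ℕ) rb4148 rb4149 (Nat.ble (nat_lit 4149) i)) (@Bool.rec (fun _ => ℕ) rb4150 rb4151 (Nat.ble (nat_lit 4151) i)) (Nat.ble (nat_lit 4150) i)) (Nat.ble (nat_lit 4148) i)) (@Bool.rec (fun _ => ℕ) (@Bool.rec (fun _ => ℕ) (@Bool.rec (fun _ => ℕ) rb4152 rb4153 (Nat.ble (nat_lit 4153) i)) (@Bool.rec (fun _ => ℕ) rb4154 rb4155 (Nat.ble (nat_lit 4155) i)) (Nat.ble (nat_lit 4154) i)) (@Bool.rec (fun _ => ℕ) (@Bool.rec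 (fun _ => ℕ) rb4156 rb4157 (Nat.ble (nat_lit 4157) i)) (@Bool.rec (fun _ => ℕ) rb4158 rb4159 (Nat.ble (nat_lit 4159) i)) (Nat.ble (nat_lit 4158) i)) (Nat.ble (nat_lit 4156) i)) (Nat.ble (nat_lit 4152) i)) (Nat.ble (nat_lit 4144) i))

def rowBlk_n0_130 (i : ℕ) : ℕ := (@Bool.rec (fun _ => ℕ) (@Bool.rec (fun _ => ℕ) (@Bool.rec (fun _ => ℕ) (@Bool.rec (fun _ => ℕ) (@Bool.rec (fun _ => ℕ) rb4160 rb4161 (Nat.ble (nat_lit 4161) i)) (@Bool.rec (fun _ => ℕ) rb4162 rb4163 (Nat.ble (nat_lit 4163) i)) (Nat.ble (nat_lit 4162) i)) (@Bool.rec (fun _ => ℕ) (@Bool.rec (fun _ => ℕ) rb4164 rb4165 (Nat.ble (nat_lit 4165) i)) (@Bool.rec (fun _ => ℕ) rb4166 rb4167 (Nat.ble (nat_lit 4167) i)) (Nat.ble (nat_lit 4166) i)) (Nat.ble (nat_lit 4164) i)) (@Bool.rec (fun _ => ℕ) (@Bool.rec (fun _ => ℕ) (@Bool.rec (fun _ => ℕ) rb4168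 rb4169 (Nat.ble (nat_lit 4169) i)) (@Bool.rec (fun _ => ℕ) rb4170 rb4171 (Nat.ble (nat_lit 4171) i)) (Nat.ble (nat_lit 4170) i)) (@Bool.rec (fun _ => ℕ) (@Bool.rec (fun _ => ℕ) rb4172 rb4173 (Nat.ble (nat_lit 4173) i)) (@Bool.rec (fun _ => ℕ) rb4174 rb4175 (Nat.ble (nat_lit 4175) i)) (Nat.ble (nat_lit 4174) i)) (Nat.ble (nat_lit 4172) i)) (Nat.ble (nat_lit 4168) i)) (@Bool.rec (fun _ => ℕ) (@Bool.rec (fun _ => ℕ) (@Bool.rec (fun _ => ℕ) (@Bool.rec (fun _ => ℕ) rb4176 rb4177 (Nat.ble (nat_lit 4177) i)) (@Bool.rec (fun _ => ℕ) rb4178 rb4179 (Nat.ble (nat_lit 4179) i)) (Nat.ble (nat_lit 4178) i)) (@Bool.rec (fun _ => ℕ) (@Bool.rec (fun _ => ℕ) rb4180 rb4181 (Nat.ble (nat_lit 4181) i)) (@Bool.rec (fun _ => ℕ) rb4182 rb4183 (Nat.ble (nat_lit 4183) i)) (Nat.ble (nat_lit 4182) i)) (Nat.ble (nat_lit 4180) i))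 (@Bool.rec (fun _ => ℕ) (@Bool.rec (fun _ => ℕ) (@Bool.rec (fun _ => ℕ) rb4184 rb4185 (Nat.ble (nat_lit 4185) i)) (@Bool.rec (fun _ => ℕ) rb4186 rb4187 (Nat.ble (nat_lit 4187) i)) (Nat.ble (nat_lit 4186) i)) (@Bool.rec (fun _ => ℕ) (@Bool.rec (fun _ => ℕ) rb4188 rb4189 (Nat.ble (nat_lit 4189) i)) (@Bool.rec (fun _ => ℕ) rb4190 rb4191 (Nat.ble (nat_lit 4191) i)) (Nat.ble (nat_lit 4190) i)) (Nat.ble (nat_lit 4188) i)) (Nat.ble (nat_lit 4184) i)) (Nat.ble (nat_lit 4176) i))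

def rowBlk_n0_131 (i : ℕ) : ℕ := (@Bool.rec (fun _ => ℕ) (@Bool.rec (fun _ => ℕ) (@Bool.rec (fun _ => ℕ) (@Bool.rec (fun _ => ℕ) (@Bool.rec (fun _ => ℕ) rb4192 rb4193 (Nat.ble (nat_lit 4193) i)) (@Bool.rec (fun _ => ℕ) rb4194 rb4195 (Nat.ble (nat_lit 4195) i)) (Nat.ble (nat_lit 4194) i)) (@Bool.rec (fun _ => ℕ) (@Bool.rec (fun _ => ℕ) rb4196 rb4197 (Nat.ble (nat_lit 4197) i)) (@Bool.rec (fun _ => ℕ) rb4198 rb4199 (Nat.ble (nat_lit 4199) i)) (Nat.ble (nat_lit 4198) i)) (Nat.ble (nat_lit 4196) i)) (@Bool.rec (fun _ => ℕ) (@Bool.rec (fun _ => ℕ) (@Bool.rec (fun _ => ℕ) rb4200 rb4201 (Nat.ble (nat_lit 4201) i)) (@Bool.rec (fun _ => ℕ) rb4202 rb4203 (Nat.ble (nat_lit 4203) i)) (Nat.ble (nat_lit 4202) i)) (@Bool.rec (fun _ => ℕ) (@Bool.rec (fun _ => ℕ) rb4204 rb4205 (Nat.ble (nat_lit 4205) i)) (@Bool.rec (fun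 _ => ℕ) rb4206 rb4207 (Nat.ble (nat_lit 4207) i)) (Nat.ble (nat_lit 4206) i)) (Nat.ble (nat_lit 4204) i)) (Nat.ble (nat_lit 4200) i)) (@Bool.rec (fun _ => ℕ) (@Bool.rec (fun _ => ℕ) (@Bool.rec (fun _ => ℕ) (@Bool.rec (fun _ => ℕ) rb4208 rb4209 (Nat.ble (nat_lit 4209) i)) (@Bool.rec (fun _ => ℕ) rb4210 rb4211 (Nat.ble (nat_lit 4211) i)) (Nat.ble (nat_lit 4210) i)) (@Bool.rec (fun _ => ℕ) (@Bool.rec (fun _ => ℕ) rb4212 rb4213 (Nat.ble (nat_lit 4213) i)) (@Bool.rec (fun _ => ℕ) rb4214 rb4215 (Nat.ble (nat_lit 4215) i)) (Nat.ble (nat_lit 4214) i)) (Nat.ble (nat_lit 4212) i)) (@Bool.rec (fun _ => ℕ) (@Bool.rec (fun _ => ℕ) (@Bool.rec (fun _ => ℕ) rb4216 rb4217 (Nat.ble (nat_lit 4217) i)) (@Bool.rec (fun _ => ℕ) rb4218 rb4219 (Nat.ble (nat_lit 4219) i)) (Nat.ble (nat_lit 4218) i)) (@Bool.rec (fun _ => ℕ) (@Bool.rec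 (fun _ => ℕ) rb4220 rb4221 (Nat.ble (nat_lit 4221) i)) (@Bool.rec (fun _ => ℕ) rb4222 rb4223 (Nat.ble (nat_lit 4223) i)) (Nat.ble (nat_lit 4222) i)) (Nat.ble (nat_lit 4220) i)) (Nat.ble (nat_lit 4216) i)) (Nat.ble (nat_lit 4208) i))

def rowBlk_n0_132 (i : ℕ) : ℕ := (@Bool.rec (fun _ => ℕ) (@Bool.rec (fun _ => ℕ) (@Bool.rec (fun _ => ℕ) (@Bool.rec (fun _ => ℕ) (@Bool.rec (fun _ => ℕ) rb4224 rb4225 (Nat.ble (nat_lit 4225) i)) (@Bool.rec (fun _ => ℕ) rb4226 rb4227 (Nat.ble (nat_lit 4227) i)) (Nat.ble (nat_lit 4226) i)) (@Bool.rec (fun _ => ℕ) (@Bool.rec (fun _ => ℕ) rb4228 rb4229 (Nat.ble (nat_lit 4229) i)) (@Bool.rec (fun _ => ℕ) rb4230 rb4231 (Nat.ble (nat_lit 4231) i)) (Nat.ble (nat_lit 4230) i)) (Nat.ble (nat_lit 4228) i)) (@Bool.rec (fun _ => ℕ) (@Bool.rec (fun _ => ℕ) (@Bool.rec (fun _ => ℕ) rb4232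 rb4233 (Nat.ble (nat_lit 4233) i)) (@Bool.rec (fun _ => ℕ) rb4234 rb4235 (Nat.ble (nat_lit 4235) i)) (Nat.ble (nat_lit 4234) i)) (@Bool.rec (fun _ => ℕ) (@Bool.rec (fun _ => ℕ) rb4236 rb4237 (Nat.ble (nat_lit 4237) i)) (@Bool.rec (fun _ => ℕ) rb4238 rb4239 (Nat.ble (nat_lit 4239) i)) (Nat.ble (nat_lit 4238) i)) (Nat.ble (nat_lit 4236) i)) (Nat.ble (nat_lit 4232) i)) (@Bool.rec (fun _ => ℕ) (@Bool.rec (fun _ => ℕ) (@Bool.rec (fun _ => ℕ) (@Bool.rec (fun _ => ℕ) rb4240 rb4241 (Nat.ble (nat_lit 4241) i)) (@Bool.rec (fun _ => ℕ) rb4242 rb4243 (Nat.ble (nat_lit 4243) i)) (Nat.ble (nat_lit 4242) i)) (@Bool.rec (fun _ => ℕ) (@Bool.rec (fun _ => ℕ) rb4244 rb4245 (Nat.ble (nat_lit 4245) i)) (@Bool.rec (fun _ => ℕ) rb4246 rb4247 (Nat.ble (nat_lit 4247) i)) (Nat.ble (nat_lit 4246) i)) (Nat.ble (nat_lit 4244) i))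 (@Bool.rec (fun _ => ℕ) (@Bool.rec (fun _ => ℕ) (@Bool.rec (fun _ => ℕ) rb4248 rb4249 (Nat.ble (nat_lit 4249) i)) (@Bool.rec (fun _ => ℕ) rb4250 rb4251 (Nat.ble (nat_lit 4251) i)) (Nat.ble (nat_lit 4250) i)) (@Bool.rec (fun _ => ℕ) (@Bool.rec (fun _ => ℕ) rb4252 rb4253 (Nat.ble (nat_lit 4253) i)) (@Bool.rec (fun _ => ℕ) rb4254 rb4255 (Nat.ble (nat_lit 4255) i)) (Nat.ble (nat_lit 4254) i)) (Nat.ble (nat_lit 4252) i)) (Nat.ble (nat_lit 4248) i)) (Nat.ble (nat_lit 4240) i))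

def rowBlk_n0_133 (i : ℕ) : ℕ := (@Bool.rec (fun _ => ℕ) (@Bool.rec (fun _ => ℕ) (@Bool.rec (fun _ => ℕ) (@Bool.rec (fun _ => ℕ) (@Bool.rec (fun _ => ℕ) rb4256 rb4257 (Nat.ble (nat_lit 4257) i)) (@Bool.rec (fun _ => ℕ) rb4258 rb4259 (Nat.ble (nat_lit 4259) i)) (Nat.ble (nat_lit 4258) i)) (@Bool.rec (fun _ => ℕ) (@Bool.rec (fun _ => ℕ) rb4260 rb4261 (Nat.ble (nat_lit 4261) i)) (@Bool.rec (fun _ => ℕ) rb4262 rb4263 (Nat.ble (nat_lit 4263) i)) (Nat.ble (nat_lit 4262) i)) (Nat.ble (nat_lit 4260) i)) (@Bool.rec (fun _ => ℕ) (@Bool.rec (fun _ => ℕ) (@Bool.rec (fun _ => ℕ) rb4264 rb4265 (Nat.ble (nat_lit 4265) i)) (@Bool.rec (fun _ => ℕ) rb4266 rb4267 (Nat.ble (nat_lit 4267) i)) (Nat.ble (nat_lit 4266) i)) (@Bool.rec (fun _ => ℕ) (@Bool.rec (fun _ => ℕ) rb4268 rb4269 (Nat.ble (nat_lit 4269) i)) (@Bool.rec (fun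 _ => ℕ) rb4270 rb4271 (Nat.ble (nat_lit 4271) i)) (Nat.ble (nat_lit 4270) i)) (Nat.ble (nat_lit 4268) i)) (Nat.ble (nat_lit 4264) i)) (@Bool.rec (fun _ => ℕ) (@Bool.rec (fun _ => ℕ) (@Bool.rec (fun _ => ℕ) (@Bool.rec (fun _ => ℕ) rb4272 rb4273 (Nat.ble (nat_lit 4273) i)) (@Bool.rec (fun _ => ℕ) rb4274 rb4275 (Nat.ble (nat_lit 4275) i)) (Nat.ble (nat_lit 4274) i)) (@Bool.rec (fun _ => ℕ) (@Bool.rec (fun _ => ℕ) rb4276 rb4277 (Nat.ble (nat_lit 4277) i)) (@Bool.rec (fun _ => ℕ) rb4278 rb4279 (Nat.ble (nat_lit 4279) i)) (Nat.ble (nat_lit 4278) i)) (Nat.ble (nat_lit 4276) i)) (@Bool.rec (fun _ => ℕ) (@Bool.rec (fun _ => ℕ) (@Bool.rec (fun _ => ℕ) rb4280 rb4281 (Nat.ble (nat_lit 4281) i)) (@Bool.rec (fun _ => ℕ) rb4282 rb4283 (Nat.ble (nat_lit 4283) i)) (Nat.ble (nat_lit 4282) i)) (@Bool.rec (fun _ => ℕ) (@Bool.rec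 (fun _ => ℕ) rb4284 rb4285 (Nat.ble (nat_lit 4285) i)) (@Bool.rec (fun _ => ℕ) rb4286 rb4287 (Nat.ble (nat_lit 4287) i)) (Nat.ble (nat_lit 4286) i)) (Nat.ble (nat_lit 4284) i)) (Nat.ble (nat_lit 4280) i)) (Nat.ble (nat_lit 4272) i))

def rowBlk_n0_134 (i : ℕ) : ℕ := (@Bool.rec (fun _ => ℕ) (@Bool.rec (fun _ => ℕ) (@Bool.rec (fun _ => ℕ) (@Bool.rec (fun _ => ℕ) (@Bool.rec (fun _ => ℕ) rb4288 rb4289 (Nat.ble (nat_lit 4289) i)) (@Bool.rec (fun _ => ℕ) rb4290 rb4291 (Nat.ble (nat_lit 4291) i)) (Nat.ble (nat_lit 4290) i)) (@Bool.rec (fun _ => ℕ) (@Bool.rec (fun _ => ℕ) rb4292 rb4293 (Nat.ble (nat_lit 4293) i)) (@Bool.rec (fun _ => ℕ) rb4294 rb4295 (Nat.ble (nat_lit 4295) i)) (Nat.ble (nat_lit 4294) i)) (Nat.ble (nat_lit 4292) i)) (@Bool.rec (fun _ => ℕ) (@Bool.rec (fun _ => ℕ) (@Bool.rec (fun _ => ℕ) rb4296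 rb4297 (Nat.ble (nat_lit 4297) i)) (@Bool.rec (fun _ => ℕ) rb4298 rb4299 (Nat.ble (nat_lit 4299) i)) (Nat.ble (nat_lit 4298) i)) (@Bool.rec (fun _ => ℕ) (@Bool.rec (fun _ => ℕ) rb4300 rb4301 (Nat.ble (nat_lit 4301) i)) (@Bool.rec (fun _ => ℕ) rb4302 rb4303 (Nat.ble (nat_lit 4303) i)) (Nat.ble (nat_lit 4302) i)) (Nat.ble (nat_lit 4300) i)) (Nat.ble (nat_lit 4296) i)) (@Bool.rec (fun _ => ℕ) (@Bool.rec (fun _ => ℕ) (@Bool.rec (fun _ => ℕ) (@Bool.rec (fun _ => ℕ) rb4304 rb4305 (Nat.ble (nat_lit 4305) i)) (@Bool.rec (fun _ => ℕ) rb4306 rb4307 (Nat.ble (nat_lit 4307) i)) (Nat.ble (nat_lit 4306) i)) (@Bool.rec (fun _ => ℕ) (@Bool.rec (fun _ => ℕ) rb4308 rb4309 (Nat.ble (nat_lit 4309) i)) (@Bool.rec (fun _ => ℕ) rb4310 rb4311 (Nat.ble (nat_lit 4311) i)) (Nat.ble (nat_lit 4310) i)) (Nat.ble (nat_lit 4308) i))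 (@Bool.rec (fun _ => ℕ) (@Bool.rec (fun _ => ℕ) (@Bool.rec (fun _ => ℕ) rb4312 rb4313 (Nat.ble (nat_lit 4313) i)) (@Bool.rec (fun _ => ℕ) rb4314 rb4315 (Nat.ble (nat_lit 4315) i)) (Nat.ble (nat_lit 4314) i)) (@Bool.rec (fun _ => ℕ) (@Bool.rec (fun _ => ℕ) rb4316 rb4317 (Nat.ble (nat_lit 4317) i)) (@Bool.rec (fun _ => ℕ) rb4318 rb4319 (Nat.ble (nat_lit 4319) i)) (Nat.ble (nat_lit 4318) i)) (Nat.ble (nat_lit 4316) i)) (Nat.ble (nat_lit 4312) i)) (Nat.ble (nat_lit 4304) i))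

def rowBlk_n0_135 (i : ℕ) : ℕ := (@Bool.rec (fun _ => ℕ) (@Bool.rec (fun _ => ℕ) (@Bool.rec (fun _ => ℕ) (@Bool.rec (fun _ => ℕ) (@Bool.rec (fun _ => ℕ) rb4320 rb4321 (Nat.ble (nat_lit 4321) i)) (@Bool.rec (fun _ => ℕ) rb4322 rb4323 (Nat.ble (nat_lit 4323) i)) (Nat.ble (nat_lit 4322) i)) (@Bool.rec (fun _ => ℕ) (@Bool.rec (fun _ => ℕ) rb4324 rb4325 (Nat.ble (nat_lit 4325) i)) (@Bool.rec (fun _ => ℕ) rb4326 rb4327 (Nat.ble (nat_lit 4327) i)) (Nat.ble (nat_lit 4326) i)) (Nat.ble (nat_lit 4324) i)) (@Bool.rec (fun _ => ℕ) (@Bool.rec (fun _ => ℕ) (@Bool.rec (fun _ => ℕ) rb4328 rb4329 (Nat.ble (nat_lit 4329) i)) (@Bool.rec (fun _ => ℕ) rb4330 rb4331 (Nat.ble (nat_lit 4331) i)) (Nat.ble (nat_lit 4330) i)) (@Bool.rec (fun _ => ℕ) (@Bool.rec (fun _ => ℕ) rb4332 rb4333 (Nat.ble (nat_lit 4333) i)) (@Bool.rec (fun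 _ => ℕ) rb4334 rb4335 (Nat.ble (nat_lit 4335) i)) (Nat.ble (nat_lit 4334) i)) (Nat.ble (nat_lit 4332) i)) (Nat.ble (nat_lit 4328) i)) (@Bool.rec (fun _ => ℕ) (@Bool.rec (fun _ => ℕ) (@Bool.rec (fun _ => ℕ) (@Bool.rec (fun _ => ℕ) rb4336 rb4337 (Nat.ble (nat_lit 4337) i)) (@Bool.rec (fun _ => ℕ) rb4338 rb4339 (Nat.ble (nat_lit 4339) i)) (Nat.ble (nat_lit 4338) i)) (@Bool.rec (fun _ => ℕ) (@Bool.rec (fun _ => ℕ) rb4340 rb4341 (Nat.ble (nat_lit 4341) i)) (@Bool.rec (fun _ => ℕ) rb4342 rb4343 (Nat.ble (nat_lit 4343) i)) (Nat.ble (nat_lit 4342) i)) (Nat.ble (nat_lit 4340) i)) (@Bool.rec (fun _ => ℕ) (@Bool.rec (fun _ => ℕ) (@Bool.rec (fun _ => ℕ) rb4344 rb4345 (Nat.ble (nat_lit 4345) i)) (@Bool.rec (fun _ => ℕ) rb4346 rb4347 (Nat.ble (nat_lit 4347) i)) (Nat.ble (nat_lit 4346) i)) (@Bool.rec (fun _ => ℕ) (@Bool.rec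 (fun _ => ℕ) rb4348 rb4349 (Nat.ble (nat_lit 4349) i)) (@Bool.rec (fun _ => ℕ) rb4350 rb4351 (Nat.ble (nat_lit 4351) i)) (Nat.ble (nat_lit 4350) i)) (Nat.ble (nat_lit 4348) i)) (Nat.ble (nat_lit 4344) i)) (Nat.ble (nat_lit 4336) i))

def rowBlk_n0_136 (i : ℕ) : ℕ := (@Bool.rec (fun _ => ℕ) (@Bool.rec (fun _ => ℕ) (@Bool.rec (fun _ => ℕ) (@Bool.rec (fun _ => ℕ) (@Bool.rec (fun _ => ℕ) rb4352 rb4353 (Nat.ble (nat_lit 4353) i)) (@Bool.rec (fun _ => ℕ) rb4354 rb4355 (Nat.ble (nat_lit 4355) i)) (Nat.ble (nat_lit 4354) i)) (@Bool.rec (fun _ => ℕ) (@Bool.rec (fun _ => ℕ) rb4356 rb4357 (Nat.ble (nat_lit 4357) i)) (@Bool.rec (fun _ => ℕ) rb4358 rb4359 (Nat.ble (nat_lit 4359) i)) (Nat.ble (nat_lit 4358) i)) (Nat.ble (nat_lit 4356) i)) (@Bool.rec (fun _ => ℕ) (@Bool.rec (fun _ => ℕ) (@Bool.rec (fun _ => ℕ) rb4360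 rb4361 (Nat.ble (nat_lit 4361) i)) (@Bool.rec (fun _ => ℕ) rb4362 rb4363 (Nat.ble (nat_lit 4363) i)) (Nat.ble (nat_lit 4362) i)) (@Bool.rec (fun _ => ℕ) (@Bool.rec (fun _ => ℕ) rb4364 rb4365 (Nat.ble (nat_lit 4365) i)) (@Bool.rec (fun _ => ℕ) rb4366 rb4367 (Nat.ble (nat_lit 4367) i)) (Nat.ble (nat_lit 4366) i)) (Nat.ble (nat_lit 4364) i)) (Nat.ble (nat_lit 4360) i)) (@Bool.rec (fun _ => ℕ) (@Bool.rec (fun _ => ℕ) (@Bool.rec (fun _ => ℕ) (@Bool.rec (fun _ => ℕ) rb4368 rb4369 (Nat.ble (nat_lit 4369) i)) (@Bool.rec (fun _ => ℕ) rb4370 rb4371 (Nat.ble (nat_lit 4371) i)) (Nat.ble (nat_lit 4370) i)) (@Bool.rec (fun _ => ℕ) (@Bool.rec (fun _ => ℕ) rb4372 rb4373 (Nat.ble (nat_lit 4373) i)) (@Bool.rec (fun _ => ℕ) rb4374 rb4375 (Nat.ble (nat_lit 4375) i)) (Nat.ble (nat_lit 4374) i)) (Nat.ble (nat_lit 4372) i))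 (@Bool.rec (fun _ => ℕ) (@Bool.rec (fun _ => ℕ) (@Bool.rec (fun _ => ℕ) rb4376 rb4377 (Nat.ble (nat_lit 4377) i)) (@Bool.rec (fun _ => ℕ) rb4378 rb4379 (Nat.ble (nat_lit 4379) i)) (Nat.ble (nat_lit 4378) i)) (@Bool.rec (fun _ => ℕ) (@Bool.rec (fun _ => ℕ) rb4380 rb4381 (Nat.ble (nat_lit 4381) i)) (@Bool.rec (fun _ => ℕ) rb4382 rb4383 (Nat.ble (nat_lit 4383) i)) (Nat.ble (nat_lit 4382) i)) (Nat.ble (nat_lit 4380) i)) (Nat.ble (nat_lit 4376) i)) (Nat.ble (nat_lit 4368) i))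

def rowBlk_n0_137 (i : ℕ) : ℕ := (@Bool.rec (fun _ => ℕ) (@Bool.rec (fun _ => ℕ) (@Bool.rec (fun _ => ℕ) (@Bool.rec (fun _ => ℕ) (@Bool.rec (fun _ => ℕ) rb4384 rb4385 (Nat.ble (nat_lit 4385) i)) (@Bool.rec (fun _ => ℕ) rb4386 rb4387 (Nat.ble (nat_lit 4387) i)) (Nat.ble (nat_lit 4386) i)) (@Bool.rec (fun _ => ℕ) (@Bool.rec (fun _ => ℕ) rb4388 rb4389 (Nat.ble (nat_lit 4389) i)) (@Bool.rec (fun _ => ℕ) rb4390 rb4391 (Nat.ble (nat_lit 4391) i)) (Nat.ble (nat_lit 4390) i)) (Nat.ble (nat_lit 4388) i)) (@Bool.rec (fun _ => ℕ) (@Bool.rec (fun _ => ℕ) (@Bool.rec (fun _ => ℕ) rb4392 rb4393 (Nat.ble (nat_lit 4393) i)) (@Bool.rec (fun _ => ℕ) rb4394 rb4395 (Nat.ble (nat_lit 4395) i)) (Nat.ble (nat_lit 4394) i)) (@Bool.rec (fun _ => ℕ) (@Bool.rec (fun _ => ℕ) rb4396 rb4397 (Nat.ble (nat_lit 4397) i)) (@Bool.rec (fun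 _ => ℕ) rb4398 rb4399 (Nat.ble (nat_lit 4399) i)) (Nat.ble (nat_lit 4398) i)) (Nat.ble (nat_lit 4396) i)) (Nat.ble (nat_lit 4392) i)) (@Bool.rec (fun _ => ℕ) (@Bool.rec (fun _ => ℕ) (@Bool.rec (fun _ => ℕ) (@Bool.rec (fun _ => ℕ) rb4400 rb4401 (Nat.ble (nat_lit 4401) i)) (@Bool.rec (fun _ => ℕ) rb4402 rb4403 (Nat.ble (nat_lit 4403) i)) (Nat.ble (nat_lit 4402) i)) (@Bool.rec (fun _ => ℕ) (@Bool.rec (fun _ => ℕ) rb4404 rb4405 (Nat.ble (nat_lit 4405) i)) (@Bool.rec (fun _ => ℕ) rb4406 rb4407 (Nat.ble (nat_lit 4407) i)) (Nat.ble (nat_lit 4406) i)) (Nat.ble (nat_lit 4404) i)) (@Bool.rec (fun _ => ℕ) (@Bool.rec (fun _ => ℕ) (@Bool.rec (fun _ => ℕ) rb4408 rb4409 (Nat.ble (nat_lit 4409) i)) (@Bool.rec (fun _ => ℕ) rb4410 rb4411 (Nat.ble (nat_lit 4411) i)) (Nat.ble (nat_lit 4410) i)) (@Bool.rec (fun _ => ℕ) (@Bool.rec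 (fun _ => ℕ) rb4412 rb4413 (Nat.ble (nat_lit 4413) i)) (@Bool.rec (fun _ => ℕ) rb4414 rb4415 (Nat.ble (nat_lit 4415) i)) (Nat.ble (nat_lit 4414) i)) (Nat.ble (nat_lit 4412) i)) (Nat.ble (nat_lit 4408) i)) (Nat.ble (nat_lit 4400) i))

def rowBlk_n0_138 (i : ℕ) : ℕ := (@Bool.rec (fun _ => ℕ) (@Bool.rec (fun _ => ℕ) (@Bool.rec (fun _ => ℕ) (@Bool.rec (fun _ => ℕ) (@Bool.rec (fun _ => ℕ) rb4416 rb4417 (Nat.ble (nat_lit 4417) i)) (@Bool.rec (fun _ => ℕ) rb4418 rb4419 (Nat.ble (nat_lit 4419) i)) (Nat.ble (nat_lit 4418) i)) (@Bool.rec (fun _ => ℕ) (@Bool.rec (fun _ => ℕ) rb4420 rb4421 (Nat.ble (nat_lit 4421) i)) (@Bool.rec (fun _ => ℕ) rb4422 rb4423 (Nat.ble (nat_lit 4423) i)) (Nat.ble (nat_lit 4422) i)) (Nat.ble (nat_lit 4420) i)) (@Bool.rec (fun _ => ℕ) (@Bool.rec (fun _ => ℕ) (@Bool.rec (fun _ => ℕ) rb4424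 rb4425 (Nat.ble (nat_lit 4425) i)) (@Bool.rec (fun _ => ℕ) rb4426 rb4427 (Nat.ble (nat_lit 4427) i)) (Nat.ble (nat_lit 4426) i)) (@Bool.rec (fun _ => ℕ) (@Bool.rec (fun _ => ℕ) rb4428 rb4429 (Nat.ble (nat_lit 4429) i)) (@Bool.rec (fun _ => ℕ) rb4430 rb4431 (Nat.ble (nat_lit 4431) i)) (Nat.ble (nat_lit 4430) i)) (Nat.ble (nat_lit 4428) i)) (Nat.ble (nat_lit 4424) i)) (@Bool.rec (fun _ => ℕ) (@Bool.rec (fun _ => ℕ) (@Bool.rec (fun _ => ℕ) (@Bool.rec (fun _ => ℕ) rb4432 rb4433 (Nat.ble (nat_lit 4433) i)) (@Bool.rec (fun _ => ℕ) rb4434 rb4435 (Nat.ble (nat_lit 4435) i)) (Nat.ble (nat_lit 4434) i)) (@Bool.rec (fun _ => ℕ) (@Bool.rec (fun _ => ℕ) rb4436 rb4437 (Nat.ble (nat_lit 4437) i)) (@Bool.rec (fun _ => ℕ) rb4438 rb4439 (Nat.ble (nat_lit 4439) i)) (Nat.ble (nat_lit 4438) i)) (Nat.ble (nat_lit 4436) i))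 (@Bool.rec (fun _ => ℕ) (@Bool.rec (fun _ => ℕ) (@Bool.rec (fun _ => ℕ) rb4440 rb4441 (Nat.ble (nat_lit 4441) i)) (@Bool.rec (fun _ => ℕ) rb4442 rb4443 (Nat.ble (nat_lit 4443) i)) (Nat.ble (nat_lit 4442) i)) (@Bool.rec (fun _ => ℕ) (@Bool.rec (fun _ => ℕ) rb4444 rb4445 (Nat.ble (nat_lit 4445) i)) (@Bool.rec (fun _ => ℕ) rb4446 rb4447 (Nat.ble (nat_lit 4447) i)) (Nat.ble (nat_lit 4446) i)) (Nat.ble (nat_lit 4444) i)) (Nat.ble (nat_lit 4440) i)) (Nat.ble (nat_lit 4432) i))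

def rowBlk_n0_139 (i : ℕ) : ℕ := (@Bool.rec (fun _ => ℕ) (@Bool.rec (fun _ => ℕ) (@Bool.rec (fun _ => ℕ) (@Bool.rec (fun _ => ℕ) (@Bool.rec (fun _ => ℕ) rb4448 rb4449 (Nat.ble (nat_lit 4449) i)) (@Bool.rec (fun _ => ℕ) rb4450 rb4451 (Nat.ble (nat_lit 4451) i)) (Nat.ble (nat_lit 4450) i)) (@Bool.rec (fun _ => ℕ) (@Bool.rec (fun _ => ℕ) rb4452 rb4453 (Nat.ble (nat_lit 4453) i)) (@Bool.rec (fun _ => ℕ) rb4454 rb4455 (Nat.ble (nat_lit 4455) i)) (Nat.ble (nat_lit 4454) i)) (Nat.ble (nat_lit 4452) i)) (@Bool.rec (fun _ => ℕ) (@Bool.rec (fun _ => ℕ) (@Bool.rec (fun _ => ℕ) rb4456 rb4457 (Nat.ble (nat_lit 4457) i)) (@Bool.rec (fun _ => ℕ) rb4458 rb4459 (Nat.ble (nat_lit 4459) i)) (Nat.ble (nat_lit 4458) i)) (@Bool.rec (fun _ => ℕ) (@Bool.rec (fun _ => ℕ) rb4460 rb4461 (Nat.ble (nat_lit 4461) i)) (@Bool.rec (fun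 _ => ℕ) rb4462 rb4463 (Nat.ble (nat_lit 4463) i)) (Nat.ble (nat_lit 4462) i)) (Nat.ble (nat_lit 4460) i)) (Nat.ble (nat_lit 4456) i)) (@Bool.rec (fun _ => ℕ) (@Bool.rec (fun _ => ℕ) (@Bool.rec (fun _ => ℕ) (@Bool.rec (fun _ => ℕ) rb4464 rb4465 (Nat.ble (nat_lit 4465) i)) (@Bool.rec (fun _ => ℕ) rb4466 rb4467 (Nat.ble (nat_lit 4467) i)) (Nat.ble (nat_lit 4466) i)) (@Bool.rec (fun _ => ℕ) (@Bool.rec (fun _ => ℕ) rb4468 rb4469 (Nat.ble (nat_lit 4469) i)) (@Bool.rec (fun _ => ℕ) rb4470 rb4471 (Nat.ble (nat_lit 4471) i)) (Nat.ble (nat_lit 4470) i)) (Nat.ble (nat_lit 4468) i)) (@Bool.rec (fun _ => ℕ) (@Bool.rec (fun _ => ℕ) (@Bool.rec (fun _ => ℕ) rb4472 rb4473 (Nat.ble (nat_lit 4473) i)) (@Bool.rec (fun _ => ℕ) rb4474 rb4475 (Nat.ble (nat_lit 4475) i)) (Nat.ble (nat_lit 4474) i)) (@Bool.rec (fun _ => ℕ) (@Bool.rec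 (fun _ => ℕ) rb4476 rb4477 (Nat.ble (nat_lit 4477) i)) (@Bool.rec (fun _ => ℕ) rb4478 rb4479 (Nat.ble (nat_lit 4479) i)) (Nat.ble (nat_lit 4478) i)) (Nat.ble (nat_lit 4476) i)) (Nat.ble (nat_lit 4472) i)) (Nat.ble (nat_lit 4464) i))

def rowBlk_n0_140 (i : ℕ) : ℕ := (@Bool.rec (fun _ => ℕ) (@Bool.rec (fun _ => ℕ) (@Bool.rec (fun _ => ℕ) (@Bool.rec (fun _ => ℕ) (@Bool.rec (fun _ => ℕ) rb4480 rb4481 (Nat.ble (nat_lit 4481) i)) (@Bool.rec (fun _ => ℕ) rb4482 rb4483 (Nat.ble (nat_lit 4483) i)) (Nat.ble (nat_lit 4482) i)) (@Bool.rec (fun _ => ℕ) (@Bool.rec (fun _ => ℕ) rb4484 rb4485 (Nat.ble (nat_lit 4485) i)) (@Bool.rec (fun _ => ℕ) rb4486 rb4487 (Nat.ble (nat_lit 4487) i)) (Nat.ble (nat_lit 4486) i)) (Nat.ble (nat_lit 4484) i)) (@Bool.rec (fun _ => ℕ) (@Bool.rec (fun _ => ℕ) (@Bool.rec (fun _ => ℕ) rb4488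 rb4489 (Nat.ble (nat_lit 4489) i)) (@Bool.rec (fun _ => ℕ) rb4490 rb4491 (Nat.ble (nat_lit 4491) i)) (Nat.ble (nat_lit 4490) i)) (@Bool.rec (fun _ => ℕ) (@Bool.rec (fun _ => ℕ) rb4492 rb4493 (Nat.ble (nat_lit 4493) i)) (@Bool.rec (fun _ => ℕ) rb4494 rb4495 (Nat.ble (nat_lit 4495) i)) (Nat.ble (nat_lit 4494) i)) (Nat.ble (nat_lit 4492) i)) (Nat.ble (nat_lit 4488) i)) (@Bool.rec (fun _ => ℕ) (@Bool.rec (fun _ => ℕ) (@Bool.rec (fun _ => ℕ) (@Bool.rec (fun _ => ℕ) rb4496 rb4497 (Nat.ble (nat_lit 4497) i)) (@Bool.rec (fun _ => ℕ) rb4498 rb4499 (Nat.ble (nat_lit 4499) i)) (Nat.ble (nat_lit 4498) i)) (@Bool.rec (fun _ => ℕ) (@Bool.rec (fun _ => ℕ) rb4500 rb4501 (Nat.ble (nat_lit 4501) i)) (@Bool.rec (fun _ => ℕ) rb4502 rb4503 (Nat.ble (nat_lit 4503) i)) (Nat.ble (nat_lit 4502) i)) (Nat.ble (nat_lit 4500) i))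 (@Bool.rec (fun _ => ℕ) (@Bool.rec (fun _ => ℕ) (@Bool.rec (fun _ => ℕ) rb4504 rb4505 (Nat.ble (nat_lit 4505) i)) (@Bool.rec (fun _ => ℕ) rb4506 rb4507 (Nat.ble (nat_lit 4507) i)) (Nat.ble (nat_lit 4506) i)) (@Bool.rec (fun _ => ℕ) (@Bool.rec (fun _ => ℕ) rb4508 rb4509 (Nat.ble (nat_lit 4509) i)) (@Bool.rec (fun _ => ℕ) rb4510 rb4511 (Nat.ble (nat_lit 4511) i)) (Nat.ble (nat_lit 4510) i)) (Nat.ble (nat_lit 4508) i)) (Nat.ble (nat_lit 4504) i)) (Nat.ble (nat_lit 4496) i))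

def rowBlk_n0_141 (i : ℕ) : ℕ := (@Bool.rec (fun _ => ℕ) (@Bool.rec (fun _ => ℕ) (@Bool.rec (fun _ => ℕ) (@Bool.rec (fun _ => ℕ) (@Bool.rec (fun _ => ℕ) rb4512 rb4513 (Nat.ble (nat_lit 4513) i)) (@Bool.rec (fun _ => ℕ) rb4514 rb4515 (Nat.ble (nat_lit 4515) i)) (Nat.ble (nat_lit 4514) i)) (@Bool.rec (fun _ => ℕ) (@Bool.rec (fun _ => ℕ) rb4516 rb4517 (Nat.ble (nat_lit 4517) i)) (@Bool.rec (fun _ => ℕ) rb4518 rb4519 (Nat.ble (nat_lit 4519) i)) (Nat.ble (nat_lit 4518) i)) (Nat.ble (nat_lit 4516) i)) (@Bool.rec (fun _ => ℕ) (@Bool.rec (fun _ => ℕ) (@Bool.rec (fun _ => ℕ) rb4520 rb4521 (Nat.ble (nat_lit 4521) i)) (@Bool.rec (fun _ => ℕ) rb4522 rb4523 (Nat.ble (nat_lit 4523) i)) (Nat.ble (nat_lit 4522) i)) (@Bool.rec (fun _ => ℕ) (@Bool.rec (fun _ => ℕ) rb4524 rb4525 (Nat.ble (nat_lit 4525) i)) (@Bool.rec (fun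 _ => ℕ) rb4526 rb4527 (Nat.ble (nat_lit 4527) i)) (Nat.ble (nat_lit 4526) i)) (Nat.ble (nat_lit 4524) i)) (Nat.ble (nat_lit 4520) i)) (@Bool.rec (fun _ => ℕ) (@Bool.rec (fun _ => ℕ) (@Bool.rec (fun _ => ℕ) (@Bool.rec (fun _ => ℕ) rb4528 rb4529 (Nat.ble (nat_lit 4529) i)) (@Bool.rec (fun _ => ℕ) rb4530 rb4531 (Nat.ble (nat_lit 4531) i)) (Nat.ble (nat_lit 4530) i)) (@Bool.rec (fun _ => ℕ) (@Bool.rec (fun _ => ℕ) rb4532 rb4533 (Nat.ble (nat_lit 4533) i)) (@Bool.rec (fun _ => ℕ) rb4534 rb4535 (Nat.ble (nat_lit 4535) i)) (Nat.ble (nat_lit 4534) i)) (Nat.ble (nat_lit 4532) i)) (@Bool.rec (fun _ => ℕ) (@Bool.rec (fun _ => ℕ) (@Bool.rec (fun _ => ℕ) rb4536 rb4537 (Nat.ble (nat_lit 4537) i)) (@Bool.rec (fun _ => ℕ) rb4538 rb4539 (Nat.ble (nat_lit 4539) i)) (Nat.ble (nat_lit 4538) i)) (@Bool.rec (fun _ => ℕ) (@Bool.rec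 (fun _ => ℕ) rb4540 rb4541 (Nat.ble (nat_lit 4541) i)) (@Bool.rec (fun _ => ℕ) rb4542 rb4543 (Nat.ble (nat_lit 4543) i)) (Nat.ble (nat_lit 4542) i)) (Nat.ble (nat_lit 4540) i)) (Nat.ble (nat_lit 4536) i)) (Nat.ble (nat_lit 4528) i))

def rowBlk_n0_142 (i : ℕ) : ℕ := (@Bool.rec (fun _ => ℕ) (@Bool.rec (fun _ => ℕ) (@Bool.rec (fun _ => ℕ) (@Bool.rec (fun _ => ℕ) (@Bool.rec (fun _ => ℕ) rb4544 rb4545 (Nat.ble (nat_lit 4545) i)) (@Bool.rec (fun _ => ℕ) rb4546 rb4547 (Nat.ble (nat_lit 4547) i)) (Nat.ble (nat_lit 4546) i)) (@Bool.rec (fun _ => ℕ) (@Bool.rec (fun _ => ℕ) rb4548 rb4549 (Nat.ble (nat_lit 4549) i)) (@Bool.rec (fun _ => ℕ) rb4550 rb4551 (Nat.ble (nat_lit 4551) i)) (Nat.ble (nat_lit 4550) i)) (Nat.ble (nat_lit 4548) i)) (@Bool.rec (fun _ => ℕ) (@Bool.rec (fun _ => ℕ) (@Bool.rec (fun _ => ℕ) rb4552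 rb4553 (Nat.ble (nat_lit 4553) i)) (@Bool.rec (fun _ => ℕ) rb4554 rb4555 (Nat.ble (nat_lit 4555) i)) (Nat.ble (nat_lit 4554) i)) (@Bool.rec (fun _ => ℕ) (@Bool.rec (fun _ => ℕ) rb4556 rb4557 (Nat.ble (nat_lit 4557) i)) (@Bool.rec (fun _ => ℕ) rb4558 rb4559 (Nat.ble (nat_lit 4559) i)) (Nat.ble (nat_lit 4558) i)) (Nat.ble (nat_lit 4556) i)) (Nat.ble (nat_lit 4552) i)) (@Bool.rec (fun _ => ℕ) (@Bool.rec (fun _ => ℕ) (@Bool.rec (fun _ => ℕ) (@Bool.rec (fun _ => ℕ) rb4560 rb4561 (Nat.ble (nat_lit 4561) i)) (@Bool.rec (fun _ => ℕ) rb4562 rb4563 (Nat.ble (nat_lit 4563) i)) (Nat.ble (nat_lit 4562) i)) (@Bool.rec (fun _ => ℕ) (@Bool.rec (fun _ => ℕ) rb4564 rb4565 (Nat.ble (nat_lit 4565) i)) (@Bool.rec (fun _ => ℕ) rb4566 rb4567 (Nat.ble (nat_lit 4567) i)) (Nat.ble (nat_lit 4566) i)) (Nat.ble (nat_lit 4564) i))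 (@Bool.rec (fun _ => ℕ) (@Bool.rec (fun _ => ℕ) (@Bool.rec (fun _ => ℕ) rb4568 rb4569 (Nat.ble (nat_lit 4569) i)) (@Bool.rec (fun _ => ℕ) rb4570 rb4571 (Nat.ble (nat_lit 4571) i)) (Nat.ble (nat_lit 4570) i)) (@Bool.rec (fun _ => ℕ) (@Bool.rec (fun _ => ℕ) rb4572 rb4573 (Nat.ble (nat_lit 4573) i)) (@Bool.rec (fun _ => ℕ) rb4574 rb4575 (Nat.ble (nat_lit 4575) i)) (Nat.ble (nat_lit 4574) i)) (Nat.ble (nat_lit 4572) i)) (Nat.ble (nat_lit 4568) i)) (Nat.ble (nat_lit 4560) i))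

def rowBlk_n0_143 (i : ℕ) : ℕ := (@Bool.rec (fun _ => ℕ) (@Bool.rec (fun _ => ℕ) (@Bool.rec (fun _ => ℕ) (@Bool.rec (fun _ => ℕ) (@Bool.rec (fun _ => ℕ) rb4576 rb4577 (Nat.ble (nat_lit 4577) i)) (@Bool.rec (fun _ => ℕ) rb4578 rb4579 (Nat.ble (nat_lit 4579) i)) (Nat.ble (nat_lit 4578) i)) (@Bool.rec (fun _ => ℕ) (@Bool.rec (fun _ => ℕ) rb4580 rb4581 (Nat.ble (nat_lit 4581) i)) (@Bool.rec (fun _ => ℕ) rb4582 rb4583 (Nat.ble (nat_lit 4583) i)) (Nat.ble (nat_lit 4582) i)) (Nat.ble (nat_lit 4580) i)) (@Bool.rec (fun _ => ℕ) (@Bool.rec (fun _ => ℕ) (@Bool.rec (fun _ => ℕ) rb4584 rb4585 (Nat.ble (nat_lit 4585) i)) (@Bool.rec (fun _ => ℕ) rb4586 rb4587 (Nat.ble (nat_lit 4587) i)) (Nat.ble (nat_lit 4586) i)) (@Bool.rec (fun _ => ℕ) (@Bool.rec (fun _ => ℕ) rb4588 rb4589 (Nat.ble (nat_lit 4589) i)) (@Bool.rec (fun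 _ => ℕ) rb4590 rb4591 (Nat.ble (nat_lit 4591) i)) (Nat.ble (nat_lit 4590) i)) (Nat.ble (nat_lit 4588) i)) (Nat.ble (nat_lit 4584) i)) (@Bool.rec (fun _ => ℕ) (@Bool.rec (fun _ => ℕ) (@Bool.rec (fun _ => ℕ) (@Bool.rec (fun _ => ℕ) rb4592 rb4593 (Nat.ble (nat_lit 4593) i)) (@Bool.rec (fun _ => ℕ) rb4594 rb4595 (Nat.ble (nat_lit 4595) i)) (Nat.ble (nat_lit 4594) i)) (@Bool.rec (fun _ => ℕ) (@Bool.rec (fun _ => ℕ) rb4596 rb4597 (Nat.ble (nat_lit 4597) i)) (@Bool.rec (fun _ => ℕ) rb4598 rb4599 (Nat.ble (nat_lit 4599) i)) (Nat.ble (nat_lit 4598) i)) (Nat.ble (nat_lit 4596) i)) (@Bool.rec (fun _ => ℕ) (@Bool.rec (fun _ => ℕ) (@Bool.rec (fun _ => ℕ) rb4600 rb4601 (Nat.ble (nat_lit 4601) i)) (@Bool.rec (fun _ => ℕ) rb4602 rb4603 (Nat.ble (nat_lit 4603) i)) (Nat.ble (nat_lit 4602) i)) (@Bool.rec (fun _ => ℕ) (@Bool.rec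 (fun _ => ℕ) rb4604 rb4605 (Nat.ble (nat_lit 4605) i)) (@Bool.rec (fun _ => ℕ) rb4606 rb4607 (Nat.ble (nat_lit 4607) i)) (Nat.ble (nat_lit 4606) i)) (Nat.ble (nat_lit 4604) i)) (Nat.ble (nat_lit 4600) i)) (Nat.ble (nat_lit 4592) i))

def rowBlk_n0_144 (i : ℕ) : ℕ := (@Bool.rec (fun _ => ℕ) (@Bool.rec (fun _ => ℕ) (@Bool.rec (fun _ => ℕ) (@Bool.rec (fun _ => ℕ) (@Bool.rec (fun _ => ℕ) rb4608 rb4609 (Nat.ble (nat_lit 4609) i)) (@Bool.rec (fun _ => ℕ) rb4610 rb4611 (Nat.ble (nat_lit 4611) i)) (Nat.ble (nat_lit 4610) i)) (@Bool.rec (fun _ => ℕ) (@Bool.rec (fun _ => ℕ) rb4612 rb4613 (Nat.ble (nat_lit 4613) i)) (@Bool.rec (fun _ => ℕ) rb4614 rb4615 (Nat.ble (nat_lit 4615) i)) (Nat.ble (nat_lit 4614) i)) (Nat.ble (nat_lit 4612) i)) (@Bool.rec (fun _ => ℕ) (@Bool.rec (fun _ => ℕ) (@Bool.rec (fun _ => ℕ) rb4616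 rb4617 (Nat.ble (nat_lit 4617) i)) (@Bool.rec (fun _ => ℕ) rb4618 rb4619 (Nat.ble (nat_lit 4619) i)) (Nat.ble (nat_lit 4618) i)) (@Bool.rec (fun _ => ℕ) (@Bool.rec (fun _ => ℕ) rb4620 rb4621 (Nat.ble (nat_lit 4621) i)) (@Bool.rec (fun _ => ℕ) rb4622 rb4623 (Nat.ble (nat_lit 4623) i)) (Nat.ble (nat_lit 4622) i)) (Nat.ble (nat_lit 4620) i)) (Nat.ble (nat_lit 4616) i)) (@Bool.rec (fun _ => ℕ) (@Bool.rec (fun _ => ℕ) (@Bool.rec (fun _ => ℕ) (@Bool.rec (fun _ => ℕ) rb4624 rb4625 (Nat.ble (nat_lit 4625) i)) (@Bool.rec (fun _ => ℕ) rb4626 rb4627 (Nat.ble (nat_lit 4627) i)) (Nat.ble (nat_lit 4626) i)) (@Bool.rec (fun _ => ℕ) (@Bool.rec (fun _ => ℕ) rb4628 rb4629 (Nat.ble (nat_lit 4629) i)) (@Bool.rec (fun _ => ℕ) rb4630 rb4631 (Nat.ble (nat_lit 4631) i)) (Nat.ble (nat_lit 4630) i)) (Nat.ble (nat_lit 4628) i))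 (@Bool.rec (fun _ => ℕ) (@Bool.rec (fun _ => ℕ) (@Bool.rec (fun _ => ℕ) rb4632 rb4633 (Nat.ble (nat_lit 4633) i)) (@Bool.rec (fun _ => ℕ) rb4634 rb4635 (Nat.ble (nat_lit 4635) i)) (Nat.ble (nat_lit 4634) i)) (@Bool.rec (fun _ => ℕ) (@Bool.rec (fun _ => ℕ) rb4636 rb4637 (Nat.ble (nat_lit 4637) i)) (@Bool.rec (fun _ => ℕ) rb4638 rb4639 (Nat.ble (nat_lit 4639) i)) (Nat.ble (nat_lit 4638) i)) (Nat.ble (nat_lit 4636) i)) (Nat.ble (nat_lit 4632) i)) (Nat.ble (nat_lit 4624) i))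

def rowBlk_n0_145 (i : ℕ) : ℕ := (@Bool.rec (fun _ => ℕ) (@Bool.rec (fun _ => ℕ) (@Bool.rec (fun _ => ℕ) (@Bool.rec (fun _ => ℕ) (@Bool.rec (fun _ => ℕ) rb4640 rb4641 (Nat.ble (nat_lit 4641) i)) (@Bool.rec (fun _ => ℕ) rb4642 rb4643 (Nat.ble (nat_lit 4643) i)) (Nat.ble (nat_lit 4642) i)) (@Bool.rec (fun _ => ℕ) (@Bool.rec (fun _ => ℕ) rb4644 rb4645 (Nat.ble (nat_lit 4645) i)) (@Bool.rec (fun _ => ℕ) rb4646 rb4647 (Nat.ble (nat_lit 4647) i)) (Nat.ble (nat_lit 4646) i)) (Nat.ble (nat_lit 4644) i)) (@Bool.rec (fun _ => ℕ) (@Bool.rec (fun _ => ℕ) (@Bool.rec (fun _ => ℕ) rb4648 rb4649 (Nat.ble (nat_lit 4649) i)) (@Bool.rec (fun _ => ℕ) rb4650 rb4651 (Nat.ble (nat_lit 4651) i)) (Nat.ble (nat_lit 4650) i)) (@Bool.rec (fun _ => ℕ) (@Bool.rec (fun _ => ℕ) rb4652 rb4653 (Nat.ble (nat_lit 4653) i)) (@Bool.rec (fun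 _ => ℕ) rb4654 rb4655 (Nat.ble (nat_lit 4655) i)) (Nat.ble (nat_lit 4654) i)) (Nat.ble (nat_lit 4652) i)) (Nat.ble (nat_lit 4648) i)) (@Bool.rec (fun _ => ℕ) (@Bool.rec (fun _ => ℕ) (@Bool.rec (fun _ => ℕ) (@Bool.rec (fun _ => ℕ) rb4656 rb4657 (Nat.ble (nat_lit 4657) i)) (@Bool.rec (fun _ => ℕ) rb4658 rb4659 (Nat.ble (nat_lit 4659) i)) (Nat.ble (nat_lit 4658) i)) (@Bool.rec (fun _ => ℕ) (@Bool.rec (fun _ => ℕ) rb4660 rb4661 (Nat.ble (nat_lit 4661) i)) (@Bool.rec (fun _ => ℕ) rb4662 rb4663 (Nat.ble (nat_lit 4663) i)) (Nat.ble (nat_lit 4662) i)) (Nat.ble (nat_lit 4660) i)) (@Bool.rec (fun _ => ℕ) (@Bool.rec (fun _ => ℕ) (@Bool.rec (fun _ => ℕ) rb4664 rb4665 (Nat.ble (nat_lit 4665) i)) (@Bool.rec (fun _ => ℕ) rb4666 rb4667 (Nat.ble (nat_lit 4667) i)) (Nat.ble (nat_lit 4666) i)) (@Bool.rec (fun _ => ℕ) (@Bool.rec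 (fun _ => ℕ) rb4668 rb4669 (Nat.ble (nat_lit 4669) i)) (@Bool.rec (fun _ => ℕ) rb4670 rb4671 (Nat.ble (nat_lit 4671) i)) (Nat.ble (nat_lit 4670) i)) (Nat.ble (nat_lit 4668) i)) (Nat.ble (nat_lit 4664) i)) (Nat.ble (nat_lit 4656) i))

def rowBlk_n0_146 (i : ℕ) : ℕ := (@Bool.rec (fun _ => ℕ) (@Bool.rec (fun _ => ℕ) (@Bool.rec (fun _ => ℕ) (@Bool.rec (fun _ => ℕ) (@Bool.rec (fun _ => ℕ) rb4672 rb4673 (Nat.ble (nat_lit 4673) i)) (@Bool.rec (fun _ => ℕ) rb4674 rb4675 (Nat.ble (nat_lit 4675) i)) (Nat.ble (nat_lit 4674) i)) (@Bool.rec (fun _ => ℕ) (@Bool.rec (fun _ => ℕ) rb4676 rb4677 (Nat.ble (nat_lit 4677) i)) (@Bool.rec (fun _ => ℕ) rb4678 rb4679 (Nat.ble (nat_lit 4679) i)) (Nat.ble (nat_lit 4678) i)) (Nat.ble (nat_lit 4676) i)) (@Bool.rec (fun _ => ℕ) (@Bool.rec (fun _ => ℕ) (@Bool.rec (fun _ => ℕ) rb4680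 rb4681 (Nat.ble (nat_lit 4681) i)) (@Bool.rec (fun _ => ℕ) rb4682 rb4683 (Nat.ble (nat_lit 4683) i)) (Nat.ble (nat_lit 4682) i)) (@Bool.rec (fun _ => ℕ) (@Bool.rec (fun _ => ℕ) rb4684 rb4685 (Nat.ble (nat_lit 4685) i)) (@Bool.rec (fun _ => ℕ) rb4686 rb4687 (Nat.ble (nat_lit 4687) i)) (Nat.ble (nat_lit 4686) i)) (Nat.ble (nat_lit 4684) i)) (Nat.ble (nat_lit 4680) i)) (@Bool.rec (fun _ => ℕ) (@Bool.rec (fun _ => ℕ) (@Bool.rec (fun _ => ℕ) (@Bool.rec (fun _ => ℕ) rb4688 rb4689 (Nat.ble (nat_lit 4689) i)) (@Bool.rec (fun _ => ℕ) rb4690 rb4691 (Nat.ble (nat_lit 4691) i)) (Nat.ble (nat_lit 4690) i)) (@Bool.rec (fun _ => ℕ) (@Bool.rec (fun _ => ℕ) rb4692 rb4693 (Nat.ble (nat_lit 4693) i)) (@Bool.rec (fun _ => ℕ) rb4694 rb4695 (Nat.ble (nat_lit 4695) i)) (Nat.ble (nat_lit 4694) i)) (Nat.ble (nat_lit 4692) i))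 (@Bool.rec (fun _ => ℕ) (@Bool.rec (fun _ => ℕ) (@Bool.rec (fun _ => ℕ) rb4696 rb4697 (Nat.ble (nat_lit 4697) i)) (@Bool.rec (fun _ => ℕ) rb4698 rb4699 (Nat.ble (nat_lit 4699) i)) (Nat.ble (nat_lit 4698) i)) (@Bool.rec (fun _ => ℕ) (@Bool.rec (fun _ => ℕ) rb4700 rb4701 (Nat.ble (nat_lit 4701) i)) (@Bool.rec (fun _ => ℕ) rb4702 rb4703 (Nat.ble (nat_lit 4703) i)) (Nat.ble (nat_lit 4702) i)) (Nat.ble (nat_lit 4700) i)) (Nat.ble (nat_lit 4696) i)) (Nat.ble (nat_lit 4688) i))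

def rowBlk_n0_147 (i : ℕ) : ℕ := (@Bool.rec (fun _ => ℕ) (@Bool.rec (fun _ => ℕ) (@Bool.rec (fun _ => ℕ) (@Bool.rec (fun _ => ℕ) (@Bool.rec (fun _ => ℕ) rb4704 rb4705 (Nat.ble (nat_lit 4705) i)) (@Bool.rec (fun _ => ℕ) rb4706 rb4707 (Nat.ble (nat_lit 4707) i)) (Nat.ble (nat_lit 4706) i)) (@Bool.rec (fun _ => ℕ) (@Bool.rec (fun _ => ℕ) rb4708 rb4709 (Nat.ble (nat_lit 4709) i)) (@Bool.rec (fun _ => ℕ) rb4710 rb4711 (Nat.ble (nat_lit 4711) i)) (Nat.ble (nat_lit 4710) i)) (Nat.ble (nat_lit 4708) i)) (@Bool.rec (fun _ => ℕ) (@Bool.rec (fun _ => ℕ) (@Bool.rec (fun _ => ℕ) rb4712 rb4713 (Nat.ble (nat_lit 4713) i)) (@Bool.rec (fun _ => ℕ) rb4714 rb4715 (Nat.ble (nat_lit 4715) i)) (Nat.ble (nat_lit 4714) i)) (@Bool.rec (fun _ => ℕ) (@Bool.rec (fun _ => ℕ) rb4716 rb4717 (Nat.ble (nat_lit 4717) i)) (@Bool.rec (fun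 _ => ℕ) rb4718 rb4719 (Nat.ble (nat_lit 4719) i)) (Nat.ble (nat_lit 4718) i)) (Nat.ble (nat_lit 4716) i)) (Nat.ble (nat_lit 4712) i)) (@Bool.rec (fun _ => ℕ) (@Bool.rec (fun _ => ℕ) (@Bool.rec (fun _ => ℕ) (@Bool.rec (fun _ => ℕ) rb4720 rb4721 (Nat.ble (nat_lit 4721) i)) (@Bool.rec (fun _ => ℕ) rb4722 rb4723 (Nat.ble (nat_lit 4723) i)) (Nat.ble (nat_lit 4722) i)) (@Bool.rec (fun _ => ℕ) (@Bool.rec (fun _ => ℕ) rb4724 rb4725 (Nat.ble (nat_lit 4725) i)) (@Bool.rec (fun _ => ℕ) rb4726 rb4727 (Nat.ble (nat_lit 4727) i)) (Nat.ble (nat_lit 4726) i)) (Nat.ble (nat_lit 4724) i)) (@Bool.rec (fun _ => ℕ) (@Bool.rec (fun _ => ℕ) (@Bool.rec (fun _ => ℕ) rb4728 rb4729 (Nat.ble (nat_lit 4729) i)) (@Bool.rec (fun _ => ℕ) rb4730 rb4731 (Nat.ble (nat_lit 4731) i)) (Nat.ble (nat_lit 4730) i)) (@Bool.rec (fun _ => ℕ) (@Bool.rec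 (fun _ => ℕ) rb4732 rb4733 (Nat.ble (nat_lit 4733) i)) (@Bool.rec (fun _ => ℕ) rb4734 rb4735 (Nat.ble (nat_lit 4735) i)) (Nat.ble (nat_lit 4734) i)) (Nat.ble (nat_lit 4732) i)) (Nat.ble (nat_lit 4728) i)) (Nat.ble (nat_lit 4720) i))

def rowBlk_n0_148 (i : ℕ) : ℕ := (@Bool.rec (fun _ => ℕ) (@Bool.rec (fun _ => ℕ) (@Bool.rec (fun _ => ℕ) (@Bool.rec (fun _ => ℕ) (@Bool.rec (fun _ => ℕ) rb4736 rb4737 (Nat.ble (nat_lit 4737) i)) (@Bool.rec (fun _ => ℕ) rb4738 rb4739 (Nat.ble (nat_lit 4739) i)) (Nat.ble (nat_lit 4738) i)) (@Bool.rec (fun _ => ℕ) (@Bool.rec (fun _ => ℕ) rb4740 rb4741 (Nat.ble (nat_lit 4741) i)) (@Bool.rec (fun _ => ℕ) rb4742 rb4743 (Nat.ble (nat_lit 4743) i)) (Nat.ble (nat_lit 4742) i)) (Nat.ble (nat_lit 4740) i)) (@Bool.rec (fun _ => ℕ) (@Bool.rec (fun _ => ℕ) (@Bool.rec (fun _ => ℕ) rb4744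 rb4745 (Nat.ble (nat_lit 4745) i)) (@Bool.rec (fun _ => ℕ) rb4746 rb4747 (Nat.ble (nat_lit 4747) i)) (Nat.ble (nat_lit 4746) i)) (@Bool.rec (fun _ => ℕ) (@Bool.rec (fun _ => ℕ) rb4748 rb4749 (Nat.ble (nat_lit 4749) i)) (@Bool.rec (fun _ => ℕ) rb4750 rb4751 (Nat.ble (nat_lit 4751) i)) (Nat.ble (nat_lit 4750) i)) (Nat.ble (nat_lit 4748) i)) (Nat.ble (nat_lit 4744) i)) (@Bool.rec (fun _ => ℕ) (@Bool.rec (fun _ => ℕ) (@Bool.rec (fun _ => ℕ) (@Bool.rec (fun _ => ℕ) rb4752 rb4753 (Nat.ble (nat_lit 4753) i)) (@Bool.rec (fun _ => ℕ) rb4754 rb4755 (Nat.ble (nat_lit 4755) i)) (Nat.ble (nat_lit 4754) i)) (@Bool.rec (fun _ => ℕ) (@Bool.rec (fun _ => ℕ) rb4756 rb4757 (Nat.ble (nat_lit 4757) i)) (@Bool.rec (fun _ => ℕ) rb4758 rb4759 (Nat.ble (nat_lit 4759) i)) (Nat.ble (nat_lit 4758) i)) (Nat.ble (nat_lit 4756) i))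 (@Bool.rec (fun _ => ℕ) (@Bool.rec (fun _ => ℕ) (@Bool.rec (fun _ => ℕ) rb4760 rb4761 (Nat.ble (nat_lit 4761) i)) (@Bool.rec (fun _ => ℕ) rb4762 rb4763 (Nat.ble (nat_lit 4763) i)) (Nat.ble (nat_lit 4762) i)) (@Bool.rec (fun _ => ℕ) (@Bool.rec (fun _ => ℕ) rb4764 rb4765 (Nat.ble (nat_lit 4765) i)) (@Bool.rec (fun _ => ℕ) rb4766 rb4767 (Nat.ble (nat_lit 4767) i)) (Nat.ble (nat_lit 4766) i)) (Nat.ble (nat_lit 4764) i)) (Nat.ble (nat_lit 4760) i)) (Nat.ble (nat_lit 4752) i))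

def rowBlk_n0_149 (i : ℕ) : ℕ := (@Bool.rec (fun _ => ℕ) (@Bool.rec (fun _ => ℕ) (@Bool.rec (fun _ => ℕ) (@Bool.rec (fun _ => ℕ) (@Bool.rec (fun _ => ℕ) rb4768 rb4769 (Nat.ble (nat_lit 4769) i)) (@Bool.rec (fun _ => ℕ) rb4770 rb4771 (Nat.ble (nat_lit 4771) i)) (Nat.ble (nat_lit 4770) i)) (@Bool.rec (fun _ => ℕ) (@Bool.rec (fun _ => ℕ) rb4772 rb4773 (Nat.ble (nat_lit 4773) i)) (@Bool.rec (fun _ => ℕ) rb4774 rb4775 (Nat.ble (nat_lit 4775) i)) (Nat.ble (nat_lit 4774) i)) (Nat.ble (nat_lit 4772) i)) (@Bool.rec (fun _ => ℕ) (@Bool.rec (fun _ => ℕ) (@Bool.rec (fun _ => ℕ) rb4776 rb4777 (Nat.ble (nat_lit 4777) i)) (@Bool.rec (fun _ => ℕ) rb4778 rb4779 (Nat.ble (nat_lit 4779) i)) (Nat.ble (nat_lit 4778) i)) (@Bool.rec (fun _ => ℕ) (@Bool.rec (fun _ => ℕ) rb4780 rb4781 (Nat.ble (nat_lit 4781) i)) (@Bool.rec (fun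 _ => ℕ) rb4782 rb4783 (Nat.ble (nat_lit 4783) i)) (Nat.ble (nat_lit 4782) i)) (Nat.ble (nat_lit 4780) i)) (Nat.ble (nat_lit 4776) i)) (@Bool.rec (fun _ => ℕ) (@Bool.rec (fun _ => ℕ) (@Bool.rec (fun _ => ℕ) (@Bool.rec (fun _ => ℕ) rb4784 rb4785 (Nat.ble (nat_lit 4785) i)) (@Bool.rec (fun _ => ℕ) rb4786 rb4787 (Nat.ble (nat_lit 4787) i)) (Nat.ble (nat_lit 4786) i)) (@Bool.rec (fun _ => ℕ) (@Bool.rec (fun _ => ℕ) rb4788 rb4789 (Nat.ble (nat_lit 4789) i)) (@Bool.rec (fun _ => ℕ) rb4790 rb4791 (Nat.ble (nat_lit 4791) i)) (Nat.ble (nat_lit 4790) i)) (Nat.ble (nat_lit 4788) i)) (@Bool.rec (fun _ => ℕ) (@Bool.rec (fun _ => ℕ) (@Bool.rec (fun _ => ℕ) rb4792 rb4793 (Nat.ble (nat_lit 4793) i)) (@Bool.rec (fun _ => ℕ) rb4794 rb4795 (Nat.ble (nat_lit 4795) i)) (Nat.ble (nat_lit 4794) i)) (@Bool.rec (fun _ => ℕ) (@Bool.rec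 (fun _ => ℕ) rb4796 rb4797 (Nat.ble (nat_lit 4797) i)) (@Bool.rec (fun _ => ℕ) rb4798 rb4799 (Nat.ble (nat_lit 4799) i)) (Nat.ble (nat_lit 4798) i)) (Nat.ble (nat_lit 4796) i)) (Nat.ble (nat_lit 4792) i)) (Nat.ble (nat_lit 4784) i))

def rowBlk_n0_150 (i : ℕ) : ℕ := (@Bool.rec (fun _ => ℕ) (@Bool.rec (fun _ => ℕ) (@Bool.rec (fun _ => ℕ) (@Bool.rec (fun _ => ℕ) (@Bool.rec (fun _ => ℕ) rb4800 rb4801 (Nat.ble (nat_lit 4801) i)) (@Bool.rec (fun _ => ℕ) rb4802 rb4803 (Nat.ble (nat_lit 4803) i)) (Nat.ble (nat_lit 4802) i)) (@Bool.rec (fun _ => ℕ) (@Bool.rec (fun _ => ℕ) rb4804 rb4805 (Nat.ble (nat_lit 4805) i)) (@Bool.rec (fun _ => ℕ) rb4806 rb4807 (Nat.ble (nat_lit 4807) i)) (Nat.ble (nat_lit 4806) i)) (Nat.ble (nat_lit 4804) i)) (@Bool.rec (fun _ => ℕ) (@Bool.rec (fun _ => ℕ) (@Bool.rec (fun _ => ℕ) rb4808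 rb4809 (Nat.ble (nat_lit 4809) i)) (@Bool.rec (fun _ => ℕ) rb4810 rb4811 (Nat.ble (nat_lit 4811) i)) (Nat.ble (nat_lit 4810) i)) (@Bool.rec (fun _ => ℕ) (@Bool.rec (fun _ => ℕ) rb4812 rb4813 (Nat.ble (nat_lit 4813) i)) (@Bool.rec (fun _ => ℕ) rb4814 rb4815 (Nat.ble (nat_lit 4815) i)) (Nat.ble (nat_lit 4814) i)) (Nat.ble (nat_lit 4812) i)) (Nat.ble (nat_lit 4808) i)) (@Bool.rec (fun _ => ℕ) (@Bool.rec (fun _ => ℕ) (@Bool.rec (fun _ => ℕ) (@Bool.rec (fun _ => ℕ) rb4816 rb4817 (Nat.ble (nat_lit 4817) i)) (@Bool.rec (fun _ => ℕ) rb4818 rb4819 (Nat.ble (nat_lit 4819) i)) (Nat.ble (nat_lit 4818) i)) (@Bool.rec (fun _ => ℕ) (@Bool.rec (fun _ => ℕ) rb4820 rb4821 (Nat.ble (nat_lit 4821) i)) (@Bool.rec (fun _ => ℕ) rb4822 rb4823 (Nat.ble (nat_lit 4823) i)) (Nat.ble (nat_lit 4822) i)) (Nat.ble (nat_lit 4820) i))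 (@Bool.rec (fun _ => ℕ) (@Bool.rec (fun _ => ℕ) (@Bool.rec (fun _ => ℕ) rb4824 rb4825 (Nat.ble (nat_lit 4825) i)) (@Bool.rec (fun _ => ℕ) rb4826 rb4827 (Nat.ble (nat_lit 4827) i)) (Nat.ble (nat_lit 4826) i)) (@Bool.rec (fun _ => ℕ) (@Bool.rec (fun _ => ℕ) rb4828 rb4829 (Nat.ble (nat_lit 4829) i)) (@Bool.rec (fun _ => ℕ) rb4830 rb4831 (Nat.ble (nat_lit 4831) i)) (Nat.ble (nat_lit 4830) i)) (Nat.ble (nat_lit 4828) i)) (Nat.ble (nat_lit 4824) i)) (Nat.ble (nat_lit 4816) i))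

def rowBlk_n0_151 (i : ℕ) : ℕ := (@Bool.rec (fun _ => ℕ) (@Bool.rec (fun _ => ℕ) (@Bool.rec (fun _ => ℕ) (@Bool.rec (fun _ => ℕ) (@Bool.rec (fun _ => ℕ) rb4832 rb4833 (Nat.ble (nat_lit 4833) i)) (@Bool.rec (fun _ => ℕ) rb4834 rb4835 (Nat.ble (nat_lit 4835) i)) (Nat.ble (nat_lit 4834) i)) (@Bool.rec (fun _ => ℕ) (@Bool.rec (fun _ => ℕ) rb4836 rb4837 (Nat.ble (nat_lit 4837) i)) (@Bool.rec (fun _ => ℕ) rb4838 rb4839 (Nat.ble (nat_lit 4839) i)) (Nat.ble (nat_lit 4838) i)) (Nat.ble (nat_lit 4836) i)) (@Bool.rec (fun _ => ℕ) (@Bool.rec (fun _ => ℕ) (@Bool.rec (fun _ => ℕ) rb4840 rb4841 (Nat.ble (nat_lit 4841) i)) (@Bool.rec (fun _ => ℕ) rb4842 rb4843 (Nat.ble (nat_lit 4843) i)) (Nat.ble (nat_lit 4842) i)) (@Bool.rec (fun _ => ℕ) (@Bool.rec (fun _ => ℕ) rb4844 rb4845 (Nat.ble (nat_lit 4845) i)) (@Bool.rec (fun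 _ => ℕ) rb4846 rb4847 (Nat.ble (nat_lit 4847) i)) (Nat.ble (nat_lit 4846) i)) (Nat.ble (nat_lit 4844) i)) (Nat.ble (nat_lit 4840) i)) (@Bool.rec (fun _ => ℕ) (@Bool.rec (fun _ => ℕ) (@Bool.rec (fun _ => ℕ) (@Bool.rec (fun _ => ℕ) rb4848 rb4849 (Nat.ble (nat_lit 4849) i)) (@Bool.rec (fun _ => ℕ) rb4850 rb4851 (Nat.ble (nat_lit 4851) i)) (Nat.ble (nat_lit 4850) i)) (@Bool.rec (fun _ => ℕ) (@Bool.rec (fun _ => ℕ) rb4852 rb4853 (Nat.ble (nat_lit 4853) i)) (@Bool.rec (fun _ => ℕ) rb4854 rb4855 (Nat.ble (nat_lit 4855) i)) (Nat.ble (nat_lit 4854) i)) (Nat.ble (nat_lit 4852) i)) (@Bool.rec (fun _ => ℕ) (@Bool.rec (fun _ => ℕ) (@Bool.rec (fun _ => ℕ) rb4856 rb4857 (Nat.ble (nat_lit 4857) i)) (@Bool.rec (fun _ => ℕ) rb4858 rb4859 (Nat.ble (nat_lit 4859) i)) (Nat.ble (nat_lit 4858) i)) (@Bool.rec (fun _ => ℕ) (@Bool.rec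 (fun _ => ℕ) rb4860 rb4861 (Nat.ble (nat_lit 4861) i)) (@Bool.rec (fun _ => ℕ) rb4862 rb4863 (Nat.ble (nat_lit 4863) i)) (Nat.ble (nat_lit 4862) i)) (Nat.ble (nat_lit 4860) i)) (Nat.ble (nat_lit 4856) i)) (Nat.ble (nat_lit 4848) i))

def rowBlk_n0_152 (i : ℕ) : ℕ := (@Bool.rec (fun _ => ℕ) (@Bool.rec (fun _ => ℕ) (@Bool.rec (fun _ => ℕ) (@Bool.rec (fun _ => ℕ) (@Bool.rec (fun _ => ℕ) rb4864 rb4865 (Nat.ble (nat_lit 4865) i)) (@Bool.rec (fun _ => ℕ) rb4866 rb4867 (Nat.ble (nat_lit 4867) i)) (Nat.ble (nat_lit 4866) i)) (@Bool.rec (fun _ => ℕ) (@Bool.rec (fun _ => ℕ) rb4868 rb4869 (Nat.ble (nat_lit 4869) i)) (@Bool.rec (fun _ => ℕ) rb4870 rb4871 (Nat.ble (nat_lit 4871) i)) (Nat.ble (nat_lit 4870) i)) (Nat.ble (nat_lit 4868) i)) (@Bool.rec (fun _ => ℕ) (@Bool.rec (fun _ => ℕ) (@Bool.rec (fun _ => ℕ) rb4872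 rb4873 (Nat.ble (nat_lit 4873) i)) (@Bool.rec (fun _ => ℕ) rb4874 rb4875 (Nat.ble (nat_lit 4875) i)) (Nat.ble (nat_lit 4874) i)) (@Bool.rec (fun _ => ℕ) (@Bool.rec (fun _ => ℕ) rb4876 rb4877 (Nat.ble (nat_lit 4877) i)) (@Bool.rec (fun _ => ℕ) rb4878 rb4879 (Nat.ble (nat_lit 4879) i)) (Nat.ble (nat_lit 4878) i)) (Nat.ble (nat_lit 4876) i)) (Nat.ble (nat_lit 4872) i)) (@Bool.rec (fun _ => ℕ) (@Bool.rec (fun _ => ℕ) (@Bool.rec (fun _ => ℕ) (@Bool.rec (fun _ => ℕ) rb4880 rb4881 (Nat.ble (nat_lit 4881) i)) (@Bool.rec (fun _ => ℕ) rb4882 rb4883 (Nat.ble (nat_lit 4883) i)) (Nat.ble (nat_lit 4882) i)) (@Bool.rec (fun _ => ℕ) (@Bool.rec (fun _ => ℕ) rb4884 rb4885 (Nat.ble (nat_lit 4885) i)) (@Bool.rec (fun _ => ℕ) rb4886 rb4887 (Nat.ble (nat_lit 4887) i)) (Nat.ble (nat_lit 4886) i)) (Nat.ble (nat_lit 4884) i))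 (@Bool.rec (fun _ => ℕ) (@Bool.rec (fun _ => ℕ) (@Bool.rec (fun _ => ℕ) rb4888 rb4889 (Nat.ble (nat_lit 4889) i)) (@Bool.rec (fun _ => ℕ) rb4890 rb4891 (Nat.ble (nat_lit 4891) i)) (Nat.ble (nat_lit 4890) i)) (@Bool.rec (fun _ => ℕ) (@Bool.rec (fun _ => ℕ) rb4892 rb4893 (Nat.ble (nat_lit 4893) i)) (@Bool.rec (fun _ => ℕ) rb4894 rb4895 (Nat.ble (nat_lit 4895) i)) (Nat.ble (nat_lit 4894) i)) (Nat.ble (nat_lit 4892) i)) (Nat.ble (nat_lit 4888) i)) (Nat.ble (nat_lit 4880) i))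

def rowBlk_n0_153 (i : ℕ) : ℕ := (@Bool.rec (fun _ => ℕ) (@Bool.rec (fun _ => ℕ) (@Bool.rec (fun _ => ℕ) (@Bool.rec (fun _ => ℕ) (@Bool.rec (fun _ => ℕ) rb4896 rb4897 (Nat.ble (nat_lit 4897) i)) (@Bool.rec (fun _ => ℕ) rb4898 rb4899 (Nat.ble (nat_lit 4899) i)) (Nat.ble (nat_lit 4898) i)) (@Bool.rec (fun _ => ℕ) (@Bool.rec (fun _ => ℕ) rb4900 rb4901 (Nat.ble (nat_lit 4901) i)) (@Bool.rec (fun _ => ℕ) rb4902 rb4903 (Nat.ble (nat_lit 4903) i)) (Nat.ble (nat_lit 4902) i)) (Nat.ble (nat_lit 4900) i)) (@Bool.rec (fun _ => ℕ) (@Bool.rec (fun _ => ℕ) (@Bool.rec (fun _ => ℕ) rb4904 rb4905 (Nat.ble (nat_lit 4905) i)) (@Bool.rec (fun _ => ℕ) rb4906 rb4907 (Nat.ble (nat_lit 4907) i)) (Nat.ble (nat_lit 4906) i)) (@Bool.rec (fun _ => ℕ) (@Bool.rec (fun _ => ℕ) rb4908 rb4909 (Nat.ble (nat_lit 4909) i)) (@Bool.rec (fun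 _ => ℕ) rb4910 rb4911 (Nat.ble (nat_lit 4911) i)) (Nat.ble (nat_lit 4910) i)) (Nat.ble (nat_lit 4908) i)) (Nat.ble (nat_lit 4904) i)) (@Bool.rec (fun _ => ℕ) (@Bool.rec (fun _ => ℕ) (@Bool.rec (fun _ => ℕ) (@Bool.rec (fun _ => ℕ) rb4912 rb4913 (Nat.ble (nat_lit 4913) i)) (@Bool.rec (fun _ => ℕ) rb4914 rb4915 (Nat.ble (nat_lit 4915) i)) (Nat.ble (nat_lit 4914) i)) (@Bool.rec (fun _ => ℕ) (@Bool.rec (fun _ => ℕ) rb4916 rb4917 (Nat.ble (nat_lit 4917) i)) (@Bool.rec (fun _ => ℕ) rb4918 rb4919 (Nat.ble (nat_lit 4919) i)) (Nat.ble (nat_lit 4918) i)) (Nat.ble (nat_lit 4916) i)) (@Bool.rec (fun _ => ℕ) (@Bool.rec (fun _ => ℕ) (@Bool.rec (fun _ => ℕ) rb4920 rb4921 (Nat.ble (nat_lit 4921) i)) (@Bool.rec (fun _ => ℕ) rb4922 rb4923 (Nat.ble (nat_lit 4923) i)) (Nat.ble (nat_lit 4922) i)) (@Bool.rec (fun _ => ℕ) (@Bool.rec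 (fun _ => ℕ) rb4924 rb4925 (Nat.ble (nat_lit 4925) i)) (@Bool.rec (fun _ => ℕ) rb4926 rb4927 (Nat.ble (nat_lit 4927) i)) (Nat.ble (nat_lit 4926) i)) (Nat.ble (nat_lit 4924) i)) (Nat.ble (nat_lit 4920) i)) (Nat.ble (nat_lit 4912) i))

def rowBlk_n0_154 (i : ℕ) : ℕ := (@Bool.rec (fun _ => ℕ) (@Bool.rec (fun _ => ℕ) (@Bool.rec (fun _ => ℕ) (@Bool.rec (fun _ => ℕ) (@Bool.rec (fun _ => ℕ) rb4928 rb4929 (Nat.ble (nat_lit 4929) i)) (@Bool.rec (fun _ => ℕ) rb4930 rb4931 (Nat.ble (nat_lit 4931) i)) (Nat.ble (nat_lit 4930) i)) (@Bool.rec (fun _ => ℕ) (@Bool.rec (fun _ => ℕ) rb4932 rb4933 (Nat.ble (nat_lit 4933) i)) (@Bool.rec (fun _ => ℕ) rb4934 rb4935 (Nat.ble (nat_lit 4935) i)) (Nat.ble (nat_lit 4934) i)) (Nat.ble (nat_lit 4932) i)) (@Bool.rec (fun _ => ℕ) (@Bool.rec (fun _ => ℕ) (@Bool.rec (fun _ => ℕ) rb4936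 rb4937 (Nat.ble (nat_lit 4937) i)) (@Bool.rec (fun _ => ℕ) rb4938 rb4939 (Nat.ble (nat_lit 4939) i)) (Nat.ble (nat_lit 4938) i)) (@Bool.rec (fun _ => ℕ) (@Bool.rec (fun _ => ℕ) rb4940 rb4941 (Nat.ble (nat_lit 4941) i)) (@Bool.rec (fun _ => ℕ) rb4942 rb4943 (Nat.ble (nat_lit 4943) i)) (Nat.ble (nat_lit 4942) i)) (Nat.ble (nat_lit 4940) i)) (Nat.ble (nat_lit 4936) i)) (@Bool.rec (fun _ => ℕ) (@Bool.rec (fun _ => ℕ) (@Bool.rec (fun _ => ℕ) (@Bool.rec (fun _ => ℕ) rb4944 rb4945 (Nat.ble (nat_lit 4945) i)) (@Bool.rec (fun _ => ℕ) rb4946 rb4947 (Nat.ble (nat_lit 4947) i)) (Nat.ble (nat_lit 4946) i)) (@Bool.rec (fun _ => ℕ) (@Bool.rec (fun _ => ℕ) rb4948 rb4949 (Nat.ble (nat_lit 4949) i)) (@Bool.rec (fun _ => ℕ) rb4950 rb4951 (Nat.ble (nat_lit 4951) i)) (Nat.ble (nat_lit 4950) i)) (Nat.ble (nat_lit 4948) i))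 (@Bool.rec (fun _ => ℕ) (@Bool.rec (fun _ => ℕ) (@Bool.rec (fun _ => ℕ) rb4952 rb4953 (Nat.ble (nat_lit 4953) i)) (@Bool.rec (fun _ => ℕ) rb4954 rb4955 (Nat.ble (nat_lit 4955) i)) (Nat.ble (nat_lit 4954) i)) (@Bool.rec (fun _ => ℕ) (@Bool.rec (fun _ => ℕ) rb4956 rb4957 (Nat.ble (nat_lit 4957) i)) (@Bool.rec (fun _ => ℕ) rb4958 rb4959 (Nat.ble (nat_lit 4959) i)) (Nat.ble (nat_lit 4958) i)) (Nat.ble (nat_lit 4956) i)) (Nat.ble (nat_lit 4952) i)) (Nat.ble (nat_lit 4944) i))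

def rowBlk_n0_155 (i : ℕ) : ℕ := (@Bool.rec (fun _ => ℕ) (@Bool.rec (fun _ => ℕ) (@Bool.rec (fun _ => ℕ) (@Bool.rec (fun _ => ℕ) (@Bool.rec (fun _ => ℕ) rb4960 rb4961 (Nat.ble (nat_lit 4961) i)) (@Bool.rec (fun _ => ℕ) rb4962 rb4963 (Nat.ble (nat_lit 4963) i)) (Nat.ble (nat_lit 4962) i)) (@Bool.rec (fun _ => ℕ) (@Bool.rec (fun _ => ℕ) rb4964 rb4965 (Nat.ble (nat_lit 4965) i)) (@Bool.rec (fun _ => ℕ) rb4966 rb4967 (Nat.ble (nat_lit 4967) i)) (Nat.ble (nat_lit 4966) i)) (Nat.ble (nat_lit 4964) i)) (@Bool.rec (fun _ => ℕ) (@Bool.rec (fun _ => ℕ) (@Bool.rec (fun _ => ℕ) rb4968 rb4969 (Nat.ble (nat_lit 4969) i)) (@Bool.rec (fun _ => ℕ) rb4970 rb4971 (Nat.ble (nat_lit 4971) i)) (Nat.ble (nat_lit 4970) i)) (@Bool.rec (fun _ => ℕ) (@Bool.rec (fun _ => ℕ) rb4972 rb4973 (Nat.ble (nat_lit 4973) i)) (@Bool.rec (fun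 _ => ℕ) rb4974 rb4975 (Nat.ble (nat_lit 4975) i)) (Nat.ble (nat_lit 4974) i)) (Nat.ble (nat_lit 4972) i)) (Nat.ble (nat_lit 4968) i)) (@Bool.rec (fun _ => ℕ) (@Bool.rec (fun _ => ℕ) (@Bool.rec (fun _ => ℕ) (@Bool.rec (fun _ => ℕ) rb4976 rb4977 (Nat.ble (nat_lit 4977) i)) (@Bool.rec (fun _ => ℕ) rb4978 rb4979 (Nat.ble (nat_lit 4979) i)) (Nat.ble (nat_lit 4978) i)) (@Bool.rec (fun _ => ℕ) (@Bool.rec (fun _ => ℕ) rb4980 rb4981 (Nat.ble (nat_lit 4981) i)) (@Bool.rec (fun _ => ℕ) rb4982 rb4983 (Nat.ble (nat_lit 4983) i)) (Nat.ble (nat_lit 4982) i)) (Nat.ble (nat_lit 4980) i)) (@Bool.rec (fun _ => ℕ) (@Bool.rec (fun _ => ℕ) (@Bool.rec (fun _ => ℕ) rb4984 rb4985 (Nat.ble (nat_lit 4985) i)) (@Bool.rec (fun _ => ℕ) rb4986 rb4987 (Nat.ble (nat_lit 4987) i)) (Nat.ble (nat_lit 4986) i)) (@Bool.rec (fun _ => ℕ) (@Bool.rec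 (fun _ => ℕ) rb4988 rb4989 (Nat.ble (nat_lit 4989) i)) (@Bool.rec (fun _ => ℕ) rb4990 rb4991 (Nat.ble (nat_lit 4991) i)) (Nat.ble (nat_lit 4990) i)) (Nat.ble (nat_lit 4988) i)) (Nat.ble (nat_lit 4984) i)) (Nat.ble (nat_lit 4976) i))

def rowBlk_n0_156 (i : ℕ) : ℕ := (@Bool.rec (fun _ => ℕ) (@Bool.rec (fun _ => ℕ) (@Bool.rec (fun _ => ℕ) (@Bool.rec (fun _ => ℕ) (@Bool.rec (fun _ => ℕ) rb4992 rb4993 (Nat.ble (nat_lit 4993) i)) (@Bool.rec (fun _ => ℕ) rb4994 rb4995 (Nat.ble (nat_lit 4995) i)) (Nat.ble (nat_lit 4994) i)) (@Bool.rec (fun _ => ℕ) (@Bool.rec (fun _ => ℕ) rb4996 rb4997 (Nat.ble (nat_lit 4997) i)) (@Bool.rec (fun _ => ℕ) rb4998 rb4999 (Nat.ble (nat_lit 4999) i)) (Nat.ble (nat_lit 4998) i)) (Nat.ble (nat_lit 4996) i)) (@Bool.rec (fun _ => ℕ) (@Bool.rec (fun _ => ℕ) (@Bool.rec (fun _ => ℕ) rb5000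 rb5001 (Nat.ble (nat_lit 5001) i)) (@Bool.rec (fun _ => ℕ) rb5002 rb5003 (Nat.ble (nat_lit 5003) i)) (Nat.ble (nat_lit 5002) i)) (@Bool.rec (fun _ => ℕ) (@Bool.rec (fun _ => ℕ) rb5004 rb5005 (Nat.ble (nat_lit 5005) i)) (@Bool.rec (fun _ => ℕ) rb5006 rb5007 (Nat.ble (nat_lit 5007) i)) (Nat.ble (nat_lit 5006) i)) (Nat.ble (nat_lit 5004) i)) (Nat.ble (nat_lit 5000) i)) (@Bool.rec (fun _ => ℕ) (@Bool.rec (fun _ => ℕ) (@Bool.rec (fun _ => ℕ) (@Bool.rec (fun _ => ℕ) rb5008 rb5009 (Nat.ble (nat_lit 5009) i)) (@Bool.rec (fun _ => ℕ) rb5010 rb5011 (Nat.ble (nat_lit 5011) i)) (Nat.ble (nat_lit 5010) i)) (@Bool.rec (fun _ => ℕ) (@Bool.rec (fun _ => ℕ) rb5012 rb5013 (Nat.ble (nat_lit 5013) i)) (@Bool.rec (fun _ => ℕ) rb5014 rb5015 (Nat.ble (nat_lit 5015) i)) (Nat.ble (nat_lit 5014) i)) (Nat.ble (nat_lit 5012) i))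 (@Bool.rec (fun _ => ℕ) (@Bool.rec (fun _ => ℕ) (@Bool.rec (fun _ => ℕ) rb5016 rb5017 (Nat.ble (nat_lit 5017) i)) (@Bool.rec (fun _ => ℕ) rb5018 rb5019 (Nat.ble (nat_lit 5019) i)) (Nat.ble (nat_lit 5018) i)) (@Bool.rec (fun _ => ℕ) (@Bool.rec (fun _ => ℕ) rb5020 rb5021 (Nat.ble (nat_lit 5021) i)) (@Bool.rec (fun _ => ℕ) rb5022 rb5023 (Nat.ble (nat_lit 5023) i)) (Nat.ble (nat_lit 5022) i)) (Nat.ble (nat_lit 5020) i)) (Nat.ble (nat_lit 5016) i)) (Nat.ble (nat_lit 5008) i))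

def rowBlk_n0_157 (i : ℕ) : ℕ := (@Bool.rec (fun _ => ℕ) (@Bool.rec (fun _ => ℕ) (@Bool.rec (fun _ => ℕ) (@Bool.rec (fun _ => ℕ) (@Bool.rec (fun _ => ℕ) rb5024 rb5025 (Nat.ble (nat_lit 5025) i)) (@Bool.rec (fun _ => ℕ) rb5026 rb5027 (Nat.ble (nat_lit 5027) i)) (Nat.ble (nat_lit 5026) i)) (@Bool.rec (fun _ => ℕ) (@Bool.rec (fun _ => ℕ) rb5028 rb5029 (Nat.ble (nat_lit 5029) i)) (@Bool.rec (fun _ => ℕ) rb5030 rb5031 (Nat.ble (nat_lit 5031) i)) (Nat.ble (nat_lit 5030) i)) (Nat.ble (nat_lit 5028) i)) (@Bool.rec (fun _ => ℕ) (@Bool.rec (fun _ => ℕ) (@Bool.rec (fun _ => ℕ) rb5032 rb5033 (Nat.ble (nat_lit 5033) i)) (@Bool.rec (fun _ => ℕ) rb5034 rb5035 (Nat.ble (nat_lit 5035) i)) (Nat.ble (nat_lit 5034) i)) (@Bool.rec (fun _ => ℕ) (@Bool.rec (fun _ => ℕ) rb5036 rb5037 (Nat.ble (nat_lit 5037) i)) (@Bool.rec (fun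 _ => ℕ) rb5038 rb5039 (Nat.ble (nat_lit 5039) i)) (Nat.ble (nat_lit 5038) i)) (Nat.ble (nat_lit 5036) i)) (Nat.ble (nat_lit 5032) i)) (@Bool.rec (fun _ => ℕ) (@Bool.rec (fun _ => ℕ) (@Bool.rec (fun _ => ℕ) (@Bool.rec (fun _ => ℕ) rb5040 rb5041 (Nat.ble (nat_lit 5041) i)) (@Bool.rec (fun _ => ℕ) rb5042 rb5043 (Nat.ble (nat_lit 5043) i)) (Nat.ble (nat_lit 5042) i)) (@Bool.rec (fun _ => ℕ) (@Bool.rec (fun _ => ℕ) rb5044 rb5045 (Nat.ble (nat_lit 5045) i)) (@Bool.rec (fun _ => ℕ) rb5046 rb5047 (Nat.ble (nat_lit 5047) i)) (Nat.ble (nat_lit 5046) i)) (Nat.ble (nat_lit 5044) i)) (@Bool.rec (fun _ => ℕ) (@Bool.rec (fun _ => ℕ) (@Bool.rec (fun _ => ℕ) rb5048 rb5049 (Nat.ble (nat_lit 5049) i)) (@Bool.rec (fun _ => ℕ) rb5050 rb5051 (Nat.ble (nat_lit 5051) i)) (Nat.ble (nat_lit 5050) i)) (@Bool.rec (fun _ => ℕ) (@Bool.rec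 (fun _ => ℕ) rb5052 rb5053 (Nat.ble (nat_lit 5053) i)) (@Bool.rec (fun _ => ℕ) rb5054 rb5055 (Nat.ble (nat_lit 5055) i)) (Nat.ble (nat_lit 5054) i)) (Nat.ble (nat_lit 5052) i)) (Nat.ble (nat_lit 5048) i)) (Nat.ble (nat_lit 5040) i))

def rowBlk_n0_158 (i : ℕ) : ℕ := (@Bool.rec (fun _ => ℕ) (@Bool.rec (fun _ => ℕ) (@Bool.rec (fun _ => ℕ) (@Bool.rec (fun _ => ℕ) (@Bool.rec (fun _ => ℕ) rb5056 rb5057 (Nat.ble (nat_lit 5057) i)) (@Bool.rec (fun _ => ℕ) rb5058 rb5059 (Nat.ble (nat_lit 5059) i)) (Nat.ble (nat_lit 5058) i)) (@Bool.rec (fun _ => ℕ) (@Bool.rec (fun _ => ℕ) rb5060 rb5061 (Nat.ble (nat_lit 5061) i)) (@Bool.rec (fun _ => ℕ) rb5062 rb5063 (Nat.ble (nat_lit 5063) i)) (Nat.ble (nat_lit 5062) i)) (Nat.ble (nat_lit 5060) i)) (@Bool.rec (fun _ => ℕ) (@Bool.rec (fun _ => ℕ) (@Bool.rec (fun _ => ℕ) rb5064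 rb5065 (Nat.ble (nat_lit 5065) i)) (@Bool.rec (fun _ => ℕ) rb5066 rb5067 (Nat.ble (nat_lit 5067) i)) (Nat.ble (nat_lit 5066) i)) (@Bool.rec (fun _ => ℕ) (@Bool.rec (fun _ => ℕ) rb5068 rb5069 (Nat.ble (nat_lit 5069) i)) (@Bool.rec (fun _ => ℕ) rb5070 rb5071 (Nat.ble (nat_lit 5071) i)) (Nat.ble (nat_lit 5070) i)) (Nat.ble (nat_lit 5068) i)) (Nat.ble (nat_lit 5064) i)) (@Bool.rec (fun _ => ℕ) (@Bool.rec (fun _ => ℕ) (@Bool.rec (fun _ => ℕ) (@Bool.rec (fun _ => ℕ) rb5072 rb5073 (Nat.ble (nat_lit 5073) i)) (@Bool.rec (fun _ => ℕ) rb5074 rb5075 (Nat.ble (nat_lit 5075) i)) (Nat.ble (nat_lit 5074) i)) (@Bool.rec (fun _ => ℕ) (@Bool.rec (fun _ => ℕ) rb5076 rb5077 (Nat.ble (nat_lit 5077) i)) (@Bool.rec (fun _ => ℕ) rb5078 rb5079 (Nat.ble (nat_lit 5079) i)) (Nat.ble (nat_lit 5078) i)) (Nat.ble (nat_lit 5076) i))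 (@Bool.rec (fun _ => ℕ) (@Bool.rec (fun _ => ℕ) (@Bool.rec (fun _ => ℕ) rb5080 rb5081 (Nat.ble (nat_lit 5081) i)) (@Bool.rec (fun _ => ℕ) rb5082 rb5083 (Nat.ble (nat_lit 5083) i)) (Nat.ble (nat_lit 5082) i)) (@Bool.rec (fun _ => ℕ) (@Bool.rec (fun _ => ℕ) rb5084 rb5085 (Nat.ble (nat_lit 5085) i)) (@Bool.rec (fun _ => ℕ) rb5086 rb5087 (Nat.ble (nat_lit 5087) i)) (Nat.ble (nat_lit 5086) i)) (Nat.ble (nat_lit 5084) i)) (Nat.ble (nat_lit 5080) i)) (Nat.ble (nat_lit 5072) i))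

def rowBlk_n0_159 (i : ℕ) : ℕ := (@Bool.rec (fun _ => ℕ) (@Bool.rec (fun _ => ℕ) (@Bool.rec (fun _ => ℕ) (@Bool.rec (fun _ => ℕ) (@Bool.rec (fun _ => ℕ) rb5088 rb5089 (Nat.ble (nat_lit 5089) i)) (@Bool.rec (fun _ => ℕ) rb5090 rb5091 (Nat.ble (nat_lit 5091) i)) (Nat.ble (nat_lit 5090) i)) (@Bool.rec (fun _ => ℕ) (@Bool.rec (fun _ => ℕ) rb5092 rb5093 (Nat.ble (nat_lit 5093) i)) (@Bool.rec (fun _ => ℕ) rb5094 rb5095 (Nat.ble (nat_lit 5095) i)) (Nat.ble (nat_lit 5094) i)) (Nat.ble (nat_lit 5092) i)) (@Bool.rec (fun _ => ℕ) (@Bool.rec (fun _ => ℕ) (@Bool.rec (fun _ => ℕ) rb5096 rb5097 (Nat.ble (nat_lit 5097) i)) (@Bool.rec (fun _ => ℕ) rb5098 rb5099 (Nat.ble (nat_lit 5099) i)) (Nat.ble (nat_lit 5098) i)) (@Bool.rec (fun _ => ℕ) (@Bool.rec (fun _ => ℕ) rb5100 rb5101 (Nat.ble (nat_lit 5101) i)) (@Bool.rec (fun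 _ => ℕ) rb5102 rb5103 (Nat.ble (nat_lit 5103) i)) (Nat.ble (nat_lit 5102) i)) (Nat.ble (nat_lit 5100) i)) (Nat.ble (nat_lit 5096) i)) (@Bool.rec (fun _ => ℕ) (@Bool.rec (fun _ => ℕ) (@Bool.rec (fun _ => ℕ) (@Bool.rec (fun _ => ℕ) rb5104 rb5105 (Nat.ble (nat_lit 5105) i)) (@Bool.rec (fun _ => ℕ) rb5106 rb5107 (Nat.ble (nat_lit 5107) i)) (Nat.ble (nat_lit 5106) i)) (@Bool.rec (fun _ => ℕ) (@Bool.rec (fun _ => ℕ) rb5108 rb5109 (Nat.ble (nat_lit 5109) i)) (@Bool.rec (fun _ => ℕ) rb5110 rb5111 (Nat.ble (nat_lit 5111) i)) (Nat.ble (nat_lit 5110) i)) (Nat.ble (nat_lit 5108) i)) (@Bool.rec (fun _ => ℕ) (@Bool.rec (fun _ => ℕ) (@Bool.rec (fun _ => ℕ) rb5112 rb5113 (Nat.ble (nat_lit 5113) i)) (@Bool.rec (fun _ => ℕ) rb5114 rb5115 (Nat.ble (nat_lit 5115) i)) (Nat.ble (nat_lit 5114) i)) (@Bool.rec (fun _ => ℕ) (@Bool.rec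 (fun _ => ℕ) rb5116 rb5117 (Nat.ble (nat_lit 5117) i)) (@Bool.rec (fun _ => ℕ) rb5118 rb5119 (Nat.ble (nat_lit 5119) i)) (Nat.ble (nat_lit 5118) i)) (Nat.ble (nat_lit 5116) i)) (Nat.ble (nat_lit 5112) i)) (Nat.ble (nat_lit 5104) i))

def rowBlk_n0_160 (i : ℕ) : ℕ := (@Bool.rec (fun _ => ℕ) (@Bool.rec (fun _ => ℕ) (@Bool.rec (fun _ => ℕ) (@Bool.rec (fun _ => ℕ) (@Bool.rec (fun _ => ℕ) rb5120 rb5121 (Nat.ble (nat_lit 5121) i)) (@Bool.rec (fun _ => ℕ) rb5122 rb5123 (Nat.ble (nat_lit 5123) i)) (Nat.ble (nat_lit 5122) i)) (@Bool.rec (fun _ => ℕ) (@Bool.rec (fun _ => ℕ) rb5124 rb5125 (Nat.ble (nat_lit 5125) i)) (@Bool.rec (fun _ => ℕ) rb5126 rb5127 (Nat.ble (nat_lit 5127) i)) (Nat.ble (nat_lit 5126) i)) (Nat.ble (nat_lit 5124) i)) (@Bool.rec (fun _ => ℕ) (@Bool.rec (fun _ => ℕ) (@Bool.rec (fun _ => ℕ) rb5128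 rb5129 (Nat.ble (nat_lit 5129) i)) (@Bool.rec (fun _ => ℕ) rb5130 rb5131 (Nat.ble (nat_lit 5131) i)) (Nat.ble (nat_lit 5130) i)) (@Bool.rec (fun _ => ℕ) (@Bool.rec (fun _ => ℕ) rb5132 rb5133 (Nat.ble (nat_lit 5133) i)) (@Bool.rec (fun _ => ℕ) rb5134 rb5135 (Nat.ble (nat_lit 5135) i)) (Nat.ble (nat_lit 5134) i)) (Nat.ble (nat_lit 5132) i)) (Nat.ble (nat_lit 5128) i)) (@Bool.rec (fun _ => ℕ) (@Bool.rec (fun _ => ℕ) (@Bool.rec (fun _ => ℕ) (@Bool.rec (fun _ => ℕ) rb5136 rb5137 (Nat.ble (nat_lit 5137) i)) (@Bool.rec (fun _ => ℕ) rb5138 rb5139 (Nat.ble (nat_lit 5139) i)) (Nat.ble (nat_lit 5138) i)) (@Bool.rec (fun _ => ℕ) (@Bool.rec (fun _ => ℕ) rb5140 rb5141 (Nat.ble (nat_lit 5141) i)) (@Bool.rec (fun _ => ℕ) rb5142 rb5143 (Nat.ble (nat_lit 5143) i)) (Nat.ble (nat_lit 5142) i)) (Nat.ble (nat_lit 5140) i))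 (@Bool.rec (fun _ => ℕ) (@Bool.rec (fun _ => ℕ) (@Bool.rec (fun _ => ℕ) rb5144 rb5145 (Nat.ble (nat_lit 5145) i)) (@Bool.rec (fun _ => ℕ) rb5146 rb5147 (Nat.ble (nat_lit 5147) i)) (Nat.ble (nat_lit 5146) i)) (@Bool.rec (fun _ => ℕ) (@Bool.rec (fun _ => ℕ) rb5148 rb5149 (Nat.ble (nat_lit 5149) i)) (@Bool.rec (fun _ => ℕ) rb5150 rb5151 (Nat.ble (nat_lit 5151) i)) (Nat.ble (nat_lit 5150) i)) (Nat.ble (nat_lit 5148) i)) (Nat.ble (nat_lit 5144) i)) (Nat.ble (nat_lit 5136) i))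

def rowBlk_n0_161 (i : ℕ) : ℕ := (@Bool.rec (fun _ => ℕ) (@Bool.rec (fun _ => ℕ) (@Bool.rec (fun _ => ℕ) (@Bool.rec (fun _ => ℕ) (@Bool.rec (fun _ => ℕ) rb5152 rb5153 (Nat.ble (nat_lit 5153) i)) (@Bool.rec (fun _ => ℕ) rb5154 rb5155 (Nat.ble (nat_lit 5155) i)) (Nat.ble (nat_lit 5154) i)) (@Bool.rec (fun _ => ℕ) (@Bool.rec (fun _ => ℕ) rb5156 rb5157 (Nat.ble (nat_lit 5157) i)) (@Bool.rec (fun _ => ℕ) rb5158 rb5159 (Nat.ble (nat_lit 5159) i)) (Nat.ble (nat_lit 5158) i)) (Nat.ble (nat_lit 5156) i)) (@Bool.rec (fun _ => ℕ) (@Bool.rec (fun _ => ℕ) (@Bool.rec (fun _ => ℕ) rb5160 rb5161 (Nat.ble (nat_lit 5161) i)) (@Bool.rec (fun _ => ℕ) rb5162 rb5163 (Nat.ble (nat_lit 5163) i)) (Nat.ble (nat_lit 5162) i)) (@Bool.rec (fun _ => ℕ) (@Bool.rec (fun _ => ℕ) rb5164 rb5165 (Nat.ble (nat_lit 5165) i)) (@Bool.rec (fun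 _ => ℕ) rb5166 rb5167 (Nat.ble (nat_lit 5167) i)) (Nat.ble (nat_lit 5166) i)) (Nat.ble (nat_lit 5164) i)) (Nat.ble (nat_lit 5160) i)) (@Bool.rec (fun _ => ℕ) (@Bool.rec (fun _ => ℕ) (@Bool.rec (fun _ => ℕ) (@Bool.rec (fun _ => ℕ) rb5168 rb5169 (Nat.ble (nat_lit 5169) i)) (@Bool.rec (fun _ => ℕ) rb5170 rb5171 (Nat.ble (nat_lit 5171) i)) (Nat.ble (nat_lit 5170) i)) (@Bool.rec (fun _ => ℕ) (@Bool.rec (fun _ => ℕ) rb5172 rb5173 (Nat.ble (nat_lit 5173) i)) (@Bool.rec (fun _ => ℕ) rb5174 rb5175 (Nat.ble (nat_lit 5175) i)) (Nat.ble (nat_lit 5174) i)) (Nat.ble (nat_lit 5172) i)) (@Bool.rec (fun _ => ℕ) (@Bool.rec (fun _ => ℕ) (@Bool.rec (fun _ => ℕ) rb5176 rb5177 (Nat.ble (nat_lit 5177) i)) (@Bool.rec (fun _ => ℕ) rb5178 rb5179 (Nat.ble (nat_lit 5179) i)) (Nat.ble (nat_lit 5178) i)) (@Bool.rec (fun _ => ℕ) (@Bool.rec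 (fun _ => ℕ) rb5180 rb5181 (Nat.ble (nat_lit 5181) i)) (@Bool.rec (fun _ => ℕ) rb5182 rb5183 (Nat.ble (nat_lit 5183) i)) (Nat.ble (nat_lit 5182) i)) (Nat.ble (nat_lit 5180) i)) (Nat.ble (nat_lit 5176) i)) (Nat.ble (nat_lit 5168) i))

def rowBlk_n0_162 (i : ℕ) : ℕ := (@Bool.rec (fun _ => ℕ) (@Bool.rec (fun _ => ℕ) (@Bool.rec (fun _ => ℕ) (@Bool.rec (fun _ => ℕ) (@Bool.rec (fun _ => ℕ) rb5184 rb5185 (Nat.ble (nat_lit 5185) i)) (@Bool.rec (fun _ => ℕ) rb5186 rb5187 (Nat.ble (nat_lit 5187) i)) (Nat.ble (nat_lit 5186) i)) (@Bool.rec (fun _ => ℕ) (@Bool.rec (fun _ => ℕ) rb5188 rb5189 (Nat.ble (nat_lit 5189) i)) (@Bool.rec (fun _ => ℕ) rb5190 rb5191 (Nat.ble (nat_lit 5191) i)) (Nat.ble (nat_lit 5190) i)) (Nat.ble (nat_lit 5188) i)) (@Bool.rec (fun _ => ℕ) (@Bool.rec (fun _ => ℕ) (@Bool.rec (fun _ => ℕ) rb5192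 rb5193 (Nat.ble (nat_lit 5193) i)) (@Bool.rec (fun _ => ℕ) rb5194 rb5195 (Nat.ble (nat_lit 5195) i)) (Nat.ble (nat_lit 5194) i)) (@Bool.rec (fun _ => ℕ) (@Bool.rec (fun _ => ℕ) rb5196 rb5197 (Nat.ble (nat_lit 5197) i)) (@Bool.rec (fun _ => ℕ) rb5198 rb5199 (Nat.ble (nat_lit 5199) i)) (Nat.ble (nat_lit 5198) i)) (Nat.ble (nat_lit 5196) i)) (Nat.ble (nat_lit 5192) i)) (@Bool.rec (fun _ => ℕ) (@Bool.rec (fun _ => ℕ) (@Bool.rec (fun _ => ℕ) (@Bool.rec (fun _ => ℕ) rb5200 rb5201 (Nat.ble (nat_lit 5201) i)) (@Bool.rec (fun _ => ℕ) rb5202 rb5203 (Nat.ble (nat_lit 5203) i)) (Nat.ble (nat_lit 5202) i)) (@Bool.rec (fun _ => ℕ) (@Bool.rec (fun _ => ℕ) rb5204 rb5205 (Nat.ble (nat_lit 5205) i)) (@Bool.rec (fun _ => ℕ) rb5206 rb5207 (Nat.ble (nat_lit 5207) i)) (Nat.ble (nat_lit 5206) i)) (Nat.ble (nat_lit 5204) i))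 (@Bool.rec (fun _ => ℕ) (@Bool.rec (fun _ => ℕ) (@Bool.rec (fun _ => ℕ) rb5208 rb5209 (Nat.ble (nat_lit 5209) i)) (@Bool.rec (fun _ => ℕ) rb5210 rb5211 (Nat.ble (nat_lit 5211) i)) (Nat.ble (nat_lit 5210) i)) (@Bool.rec (fun _ => ℕ) (@Bool.rec (fun _ => ℕ) rb5212 rb5213 (Nat.ble (nat_lit 5213) i)) (@Bool.rec (fun _ => ℕ) rb5214 rb5215 (Nat.ble (nat_lit 5215) i)) (Nat.ble (nat_lit 5214) i)) (Nat.ble (nat_lit 5212) i)) (Nat.ble (nat_lit 5208) i)) (Nat.ble (nat_lit 5200) i))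

def rowBlk_n0_163 (i : ℕ) : ℕ := (@Bool.rec (fun _ => ℕ) (@Bool.rec (fun _ => ℕ) (@Bool.rec (fun _ => ℕ) (@Bool.rec (fun _ => ℕ) (@Bool.rec (fun _ => ℕ) rb5216 rb5217 (Nat.ble (nat_lit 5217) i)) (@Bool.rec (fun _ => ℕ) rb5218 rb5219 (Nat.ble (nat_lit 5219) i)) (Nat.ble (nat_lit 5218) i)) (@Bool.rec (fun _ => ℕ) (@Bool.rec (fun _ => ℕ) rb5220 rb5221 (Nat.ble (nat_lit 5221) i)) (@Bool.rec (fun _ => ℕ) rb5222 rb5223 (Nat.ble (nat_lit 5223) i)) (Nat.ble (nat_lit 5222) i)) (Nat.ble (nat_lit 5220) i)) (@Bool.rec (fun _ => ℕ) (@Bool.rec (fun _ => ℕ) (@Bool.rec (fun _ => ℕ) rb5224 rb5225 (Nat.ble (nat_lit 5225) i)) (@Bool.rec (fun _ => ℕ) rb5226 rb5227 (Nat.ble (nat_lit 5227) i)) (Nat.ble (nat_lit 5226) i)) (@Bool.rec (fun _ => ℕ) (@Bool.rec (fun _ => ℕ) rb5228 rb5229 (Nat.ble (nat_lit 5229) i)) (@Bool.rec (fun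 _ => ℕ) rb5230 rb5231 (Nat.ble (nat_lit 5231) i)) (Nat.ble (nat_lit 5230) i)) (Nat.ble (nat_lit 5228) i)) (Nat.ble (nat_lit 5224) i)) (@Bool.rec (fun _ => ℕ) (@Bool.rec (fun _ => ℕ) (@Bool.rec (fun _ => ℕ) (@Bool.rec (fun _ => ℕ) rb5232 rb5233 (Nat.ble (nat_lit 5233) i)) (@Bool.rec (fun _ => ℕ) rb5234 rb5235 (Nat.ble (nat_lit 5235) i)) (Nat.ble (nat_lit 5234) i)) (@Bool.rec (fun _ => ℕ) (@Bool.rec (fun _ => ℕ) rb5236 rb5237 (Nat.ble (nat_lit 5237) i)) (@Bool.rec (fun _ => ℕ) rb5238 rb5239 (Nat.ble (nat_lit 5239) i)) (Nat.ble (nat_lit 5238) i)) (Nat.ble (nat_lit 5236) i)) (@Bool.rec (fun _ => ℕ) (@Bool.rec (fun _ => ℕ) (@Bool.rec (fun _ => ℕ) rb5240 rb5241 (Nat.ble (nat_lit 5241) i)) (@Bool.rec (fun _ => ℕ) rb5242 rb5243 (Nat.ble (nat_lit 5243) i)) (Nat.ble (nat_lit 5242) i)) (@Bool.rec (fun _ => ℕ) (@Bool.rec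 (fun _ => ℕ) rb5244 rb5245 (Nat.ble (nat_lit 5245) i)) (@Bool.rec (fun _ => ℕ) rb5246 rb5247 (Nat.ble (nat_lit 5247) i)) (Nat.ble (nat_lit 5246) i)) (Nat.ble (nat_lit 5244) i)) (Nat.ble (nat_lit 5240) i)) (Nat.ble (nat_lit 5232) i))

def rowBlk_n0_164 (i : ℕ) : ℕ := (@Bool.rec (fun _ => ℕ) (@Bool.rec (fun _ => ℕ) (@Bool.rec (fun _ => ℕ) (@Bool.rec (fun _ => ℕ) (@Bool.rec (fun _ => ℕ) rb5248 rb5249 (Nat.ble (nat_lit 5249) i)) (@Bool.rec (fun _ => ℕ) rb5250 rb5251 (Nat.ble (nat_lit 5251) i)) (Nat.ble (nat_lit 5250) i)) (@Bool.rec (fun _ => ℕ) (@Bool.rec (fun _ => ℕ) rb5252 rb5253 (Nat.ble (nat_lit 5253) i)) (@Bool.rec (fun _ => ℕ) rb5254 rb5255 (Nat.ble (nat_lit 5255) i)) (Nat.ble (nat_lit 5254) i)) (Nat.ble (nat_lit 5252) i)) (@Bool.rec (fun _ => ℕ) (@Bool.rec (fun _ => ℕ) (@Bool.rec (fun _ => ℕ) rb5256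 rb5257 (Nat.ble (nat_lit 5257) i)) (@Bool.rec (fun _ => ℕ) rb5258 rb5259 (Nat.ble (nat_lit 5259) i)) (Nat.ble (nat_lit 5258) i)) (@Bool.rec (fun _ => ℕ) (@Bool.rec (fun _ => ℕ) rb5260 rb5261 (Nat.ble (nat_lit 5261) i)) (@Bool.rec (fun _ => ℕ) rb5262 rb5263 (Nat.ble (nat_lit 5263) i)) (Nat.ble (nat_lit 5262) i)) (Nat.ble (nat_lit 5260) i)) (Nat.ble (nat_lit 5256) i)) (@Bool.rec (fun _ => ℕ) (@Bool.rec (fun _ => ℕ) (@Bool.rec (fun _ => ℕ) (@Bool.rec (fun _ => ℕ) rb5264 rb5265 (Nat.ble (nat_lit 5265) i)) (@Bool.rec (fun _ => ℕ) rb5266 rb5267 (Nat.ble (nat_lit 5267) i)) (Nat.ble (nat_lit 5266) i)) (@Bool.rec (fun _ => ℕ) (@Bool.rec (fun _ => ℕ) rb5268 rb5269 (Nat.ble (nat_lit 5269) i)) (@Bool.rec (fun _ => ℕ) rb5270 rb5271 (Nat.ble (nat_lit 5271) i)) (Nat.ble (nat_lit 5270) i)) (Nat.ble (nat_lit 5268) i))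 (@Bool.rec (fun _ => ℕ) (@Bool.rec (fun _ => ℕ) (@Bool.rec (fun _ => ℕ) rb5272 rb5273 (Nat.ble (nat_lit 5273) i)) (@Bool.rec (fun _ => ℕ) rb5274 rb5275 (Nat.ble (nat_lit 5275) i)) (Nat.ble (nat_lit 5274) i)) (@Bool.rec (fun _ => ℕ) (@Bool.rec (fun _ => ℕ) rb5276 rb5277 (Nat.ble (nat_lit 5277) i)) (@Bool.rec (fun _ => ℕ) rb5278 rb5279 (Nat.ble (nat_lit 5279) i)) (Nat.ble (nat_lit 5278) i)) (Nat.ble (nat_lit 5276) i)) (Nat.ble (nat_lit 5272) i)) (Nat.ble (nat_lit 5264) i))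

def rowBlk_n0_165 (i : ℕ) : ℕ := (@Bool.rec (fun _ => ℕ) (@Bool.rec (fun _ => ℕ) (@Bool.rec (fun _ => ℕ) (@Bool.rec (fun _ => ℕ) (@Bool.rec (fun _ => ℕ) rb5280 rb5281 (Nat.ble (nat_lit 5281) i)) (@Bool.rec (fun _ => ℕ) rb5282 rb5283 (Nat.ble (nat_lit 5283) i)) (Nat.ble (nat_lit 5282) i)) (@Bool.rec (fun _ => ℕ) (@Bool.rec (fun _ => ℕ) rb5284 rb5285 (Nat.ble (nat_lit 5285) i)) (@Bool.rec (fun _ => ℕ) rb5286 rb5287 (Nat.ble (nat_lit 5287) i)) (Nat.ble (nat_lit 5286) i)) (Nat.ble (nat_lit 5284) i)) (@Bool.rec (fun _ => ℕ) (@Bool.rec (fun _ => ℕ) (@Bool.rec (fun _ => ℕ) rb5288 rb5289 (Nat.ble (nat_lit 5289) i)) (@Bool.rec (fun _ => ℕ) rb5290 rb5291 (Nat.ble (nat_lit 5291) i)) (Nat.ble (nat_lit 5290) i)) (@Bool.rec (fun _ => ℕ) (@Bool.rec (fun _ => ℕ) rb5292 rb5293 (Nat.ble (nat_lit 5293) i)) (@Bool.rec (fun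 _ => ℕ) rb5294 rb5295 (Nat.ble (nat_lit 5295) i)) (Nat.ble (nat_lit 5294) i)) (Nat.ble (nat_lit 5292) i)) (Nat.ble (nat_lit 5288) i)) (@Bool.rec (fun _ => ℕ) (@Bool.rec (fun _ => ℕ) (@Bool.rec (fun _ => ℕ) (@Bool.rec (fun _ => ℕ) rb5296 rb5297 (Nat.ble (nat_lit 5297) i)) (@Bool.rec (fun _ => ℕ) rb5298 rb5299 (Nat.ble (nat_lit 5299) i)) (Nat.ble (nat_lit 5298) i)) (@Bool.rec (fun _ => ℕ) (@Bool.rec (fun _ => ℕ) rb5300 rb5301 (Nat.ble (nat_lit 5301) i)) (@Bool.rec (fun _ => ℕ) rb5302 rb5303 (Nat.ble (nat_lit 5303) i)) (Nat.ble (nat_lit 5302) i)) (Nat.ble (nat_lit 5300) i)) (@Bool.rec (fun _ => ℕ) (@Bool.rec (fun _ => ℕ) (@Bool.rec (fun _ => ℕ) rb5304 rb5305 (Nat.ble (nat_lit 5305) i)) (@Bool.rec (fun _ => ℕ) rb5306 rb5307 (Nat.ble (nat_lit 5307) i)) (Nat.ble (nat_lit 5306) i)) (@Bool.rec (fun _ => ℕ) (@Bool.rec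 (fun _ => ℕ) rb5308 rb5309 (Nat.ble (nat_lit 5309) i)) (@Bool.rec (fun _ => ℕ) rb5310 rb5311 (Nat.ble (nat_lit 5311) i)) (Nat.ble (nat_lit 5310) i)) (Nat.ble (nat_lit 5308) i)) (Nat.ble (nat_lit 5304) i)) (Nat.ble (nat_lit 5296) i))

def rowBlk_n0_166 (i : ℕ) : ℕ := (@Bool.rec (fun _ => ℕ) (@Bool.rec (fun _ => ℕ) (@Bool.rec (fun _ => ℕ) (@Bool.rec (fun _ => ℕ) (@Bool.rec (fun _ => ℕ) rb5312 rb5313 (Nat.ble (nat_lit 5313) i)) (@Bool.rec (fun _ => ℕ) rb5314 rb5315 (Nat.ble (nat_lit 5315) i)) (Nat.ble (nat_lit 5314) i)) (@Bool.rec (fun _ => ℕ) (@Bool.rec (fun _ => ℕ) rb5316 rb5317 (Nat.ble (nat_lit 5317) i)) (@Bool.rec (fun _ => ℕ) rb5318 rb5319 (Nat.ble (nat_lit 5319) i)) (Nat.ble (nat_lit 5318) i)) (Nat.ble (nat_lit 5316) i)) (@Bool.rec (fun _ => ℕ) (@Bool.rec (fun _ => ℕ) (@Bool.rec (fun _ => ℕ) rb5320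 rb5321 (Nat.ble (nat_lit 5321) i)) (@Bool.rec (fun _ => ℕ) rb5322 rb5323 (Nat.ble (nat_lit 5323) i)) (Nat.ble (nat_lit 5322) i)) (@Bool.rec (fun _ => ℕ) (@Bool.rec (fun _ => ℕ) rb5324 rb5325 (Nat.ble (nat_lit 5325) i)) (@Bool.rec (fun _ => ℕ) rb5326 rb5327 (Nat.ble (nat_lit 5327) i)) (Nat.ble (nat_lit 5326) i)) (Nat.ble (nat_lit 5324) i)) (Nat.ble (nat_lit 5320) i)) (@Bool.rec (fun _ => ℕ) (@Bool.rec (fun _ => ℕ) (@Bool.rec (fun _ => ℕ) (@Bool.rec (fun _ => ℕ) rb5328 rb5329 (Nat.ble (nat_lit 5329) i)) (@Bool.rec (fun _ => ℕ) rb5330 rb5331 (Nat.ble (nat_lit 5331) i)) (Nat.ble (nat_lit 5330) i)) (@Bool.rec (fun _ => ℕ) (@Bool.rec (fun _ => ℕ) rb5332 rb5333 (Nat.ble (nat_lit 5333) i)) (@Bool.rec (fun _ => ℕ) rb5334 rb5335 (Nat.ble (nat_lit 5335) i)) (Nat.ble (nat_lit 5334) i)) (Nat.ble (nat_lit 5332) i))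 (@Bool.rec (fun _ => ℕ) (@Bool.rec (fun _ => ℕ) (@Bool.rec (fun _ => ℕ) rb5336 rb5337 (Nat.ble (nat_lit 5337) i)) (@Bool.rec (fun _ => ℕ) rb5338 rb5339 (Nat.ble (nat_lit 5339) i)) (Nat.ble (nat_lit 5338) i)) (@Bool.rec (fun _ => ℕ) (@Bool.rec (fun _ => ℕ) rb5340 rb5341 (Nat.ble (nat_lit 5341) i)) (@Bool.rec (fun _ => ℕ) rb5342 rb5343 (Nat.ble (nat_lit 5343) i)) (Nat.ble (nat_lit 5342) i)) (Nat.ble (nat_lit 5340) i)) (Nat.ble (nat_lit 5336) i)) (Nat.ble (nat_lit 5328) i))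

def rowBlk_n0_167 (i : ℕ) : ℕ := (@Bool.rec (fun _ => ℕ) (@Bool.rec (fun _ => ℕ) (@Bool.rec (fun _ => ℕ) (@Bool.rec (fun _ => ℕ) (@Bool.rec (fun _ => ℕ) rb5344 rb5345 (Nat.ble (nat_lit 5345) i)) (@Bool.rec (fun _ => ℕ) rb5346 rb5347 (Nat.ble (nat_lit 5347) i)) (Nat.ble (nat_lit 5346) i)) (@Bool.rec (fun _ => ℕ) (@Bool.rec (fun _ => ℕ) rb5348 rb5349 (Nat.ble (nat_lit 5349) i)) (@Bool.rec (fun _ => ℕ) rb5350 rb5351 (Nat.ble (nat_lit 5351) i)) (Nat.ble (nat_lit 5350) i)) (Nat.ble (nat_lit 5348) i)) (@Bool.rec (fun _ => ℕ) (@Bool.rec (fun _ => ℕ) (@Bool.rec (fun _ => ℕ) rb5352 rb5353 (Nat.ble (nat_lit 5353) i)) (@Bool.rec (fun _ => ℕ) rb5354 rb5355 (Nat.ble (nat_lit 5355) i)) (Nat.ble (nat_lit 5354) i)) (@Bool.rec (fun _ => ℕ) (@Bool.rec (fun _ => ℕ) rb5356 rb5357 (Nat.ble (nat_lit 5357) i)) (@Bool.rec (fun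 _ => ℕ) rb5358 rb5359 (Nat.ble (nat_lit 5359) i)) (Nat.ble (nat_lit 5358) i)) (Nat.ble (nat_lit 5356) i)) (Nat.ble (nat_lit 5352) i)) (@Bool.rec (fun _ => ℕ) (@Bool.rec (fun _ => ℕ) (@Bool.rec (fun _ => ℕ) (@Bool.rec (fun _ => ℕ) rb5360 rb5361 (Nat.ble (nat_lit 5361) i)) (@Bool.rec (fun _ => ℕ) rb5362 rb5363 (Nat.ble (nat_lit 5363) i)) (Nat.ble (nat_lit 5362) i)) (@Bool.rec (fun _ => ℕ) (@Bool.rec (fun _ => ℕ) rb5364 rb5365 (Nat.ble (nat_lit 5365) i)) (@Bool.rec (fun _ => ℕ) rb5366 rb5367 (Nat.ble (nat_lit 5367) i)) (Nat.ble (nat_lit 5366) i)) (Nat.ble (nat_lit 5364) i)) (@Bool.rec (fun _ => ℕ) (@Bool.rec (fun _ => ℕ) (@Bool.rec (fun _ => ℕ) rb5368 rb5369 (Nat.ble (nat_lit 5369) i)) (@Bool.rec (fun _ => ℕ) rb5370 rb5371 (Nat.ble (nat_lit 5371) i)) (Nat.ble (nat_lit 5370) i)) (@Bool.rec (fun _ => ℕ) (@Bool.rec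 (fun _ => ℕ) rb5372 rb5373 (Nat.ble (nat_lit 5373) i)) (@Bool.rec (fun _ => ℕ) rb5374 rb5375 (Nat.ble (nat_lit 5375) i)) (Nat.ble (nat_lit 5374) i)) (Nat.ble (nat_lit 5372) i)) (Nat.ble (nat_lit 5368) i)) (Nat.ble (nat_lit 5360) i))

def rowBlk_n0_168 (i : ℕ) : ℕ := (@Bool.rec (fun _ => ℕ) (@Bool.rec (fun _ => ℕ) (@Bool.rec (fun _ => ℕ) (@Bool.rec (fun _ => ℕ) (@Bool.rec (fun _ => ℕ) rb5376 rb5377 (Nat.ble (nat_lit 5377) i)) (@Bool.rec (fun _ => ℕ) rb5378 rb5379 (Nat.ble (nat_lit 5379) i)) (Nat.ble (nat_lit 5378) i)) (@Bool.rec (fun _ => ℕ) (@Bool.rec (fun _ => ℕ) rb5380 rb5381 (Nat.ble (nat_lit 5381) i)) (@Bool.rec (fun _ => ℕ) rb5382 rb5383 (Nat.ble (nat_lit 5383) i)) (Nat.ble (nat_lit 5382) i)) (Nat.ble (nat_lit 5380) i)) (@Bool.rec (fun _ => ℕ) (@Bool.rec (fun _ => ℕ) (@Bool.rec (fun _ => ℕ) rb5384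 rb5385 (Nat.ble (nat_lit 5385) i)) (@Bool.rec (fun _ => ℕ) rb5386 rb5387 (Nat.ble (nat_lit 5387) i)) (Nat.ble (nat_lit 5386) i)) (@Bool.rec (fun _ => ℕ) (@Bool.rec (fun _ => ℕ) rb5388 rb5389 (Nat.ble (nat_lit 5389) i)) (@Bool.rec (fun _ => ℕ) rb5390 rb5391 (Nat.ble (nat_lit 5391) i)) (Nat.ble (nat_lit 5390) i)) (Nat.ble (nat_lit 5388) i)) (Nat.ble (nat_lit 5384) i)) (@Bool.rec (fun _ => ℕ) (@Bool.rec (fun _ => ℕ) (@Bool.rec (fun _ => ℕ) (@Bool.rec (fun _ => ℕ) rb5392 rb5393 (Nat.ble (nat_lit 5393) i)) (@Bool.rec (fun _ => ℕ) rb5394 rb5395 (Nat.ble (nat_lit 5395) i)) (Nat.ble (nat_lit 5394) i)) (@Bool.rec (fun _ => ℕ) (@Bool.rec (fun _ => ℕ) rb5396 rb5397 (Nat.ble (nat_lit 5397) i)) (@Bool.rec (fun _ => ℕ) rb5398 rb5399 (Nat.ble (nat_lit 5399) i)) (Nat.ble (nat_lit 5398) i)) (Nat.ble (nat_lit 5396) i))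 (@Bool.rec (fun _ => ℕ) (@Bool.rec (fun _ => ℕ) (@Bool.rec (fun _ => ℕ) rb5400 rb5401 (Nat.ble (nat_lit 5401) i)) (@Bool.rec (fun _ => ℕ) rb5402 rb5403 (Nat.ble (nat_lit 5403) i)) (Nat.ble (nat_lit 5402) i)) (@Bool.rec (fun _ => ℕ) (@Bool.rec (fun _ => ℕ) rb5404 rb5405 (Nat.ble (nat_lit 5405) i)) (@Bool.rec (fun _ => ℕ) rb5406 rb5407 (Nat.ble (nat_lit 5407) i)) (Nat.ble (nat_lit 5406) i)) (Nat.ble (nat_lit 5404) i)) (Nat.ble (nat_lit 5400) i)) (Nat.ble (nat_lit 5392) i))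

def rowBlk_n0_169 (i : ℕ) : ℕ := (@Bool.rec (fun _ => ℕ) (@Bool.rec (fun _ => ℕ) (@Bool.rec (fun _ => ℕ) (@Bool.rec (fun _ => ℕ) (@Bool.rec (fun _ => ℕ) rb5408 rb5409 (Nat.ble (nat_lit 5409) i)) (@Bool.rec (fun _ => ℕ) rb5410 rb5411 (Nat.ble (nat_lit 5411) i)) (Nat.ble (nat_lit 5410) i)) (@Bool.rec (fun _ => ℕ) (@Bool.rec (fun _ => ℕ) rb5412 rb5413 (Nat.ble (nat_lit 5413) i)) (@Bool.rec (fun _ => ℕ) rb5414 rb5415 (Nat.ble (nat_lit 5415) i)) (Nat.ble (nat_lit 5414) i)) (Nat.ble (nat_lit 5412) i)) (@Bool.rec (fun _ => ℕ) (@Bool.rec (fun _ => ℕ) (@Bool.rec (fun _ => ℕ) rb5416 rb5417 (Nat.ble (nat_lit 5417) i)) (@Bool.rec (fun _ => ℕ) rb5418 rb5419 (Nat.ble (nat_lit 5419) i)) (Nat.ble (nat_lit 5418) i)) (@Bool.rec (fun _ => ℕ) (@Bool.rec (fun _ => ℕ) rb5420 rb5421 (Nat.ble (nat_lit 5421) i)) (@Bool.rec (fun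 _ => ℕ) rb5422 rb5423 (Nat.ble (nat_lit 5423) i)) (Nat.ble (nat_lit 5422) i)) (Nat.ble (nat_lit 5420) i)) (Nat.ble (nat_lit 5416) i)) (@Bool.rec (fun _ => ℕ) (@Bool.rec (fun _ => ℕ) (@Bool.rec (fun _ => ℕ) (@Bool.rec (fun _ => ℕ) rb5424 rb5425 (Nat.ble (nat_lit 5425) i)) (@Bool.rec (fun _ => ℕ) rb5426 rb5427 (Nat.ble (nat_lit 5427) i)) (Nat.ble (nat_lit 5426) i)) (@Bool.rec (fun _ => ℕ) (@Bool.rec (fun _ => ℕ) rb5428 rb5429 (Nat.ble (nat_lit 5429) i)) (@Bool.rec (fun _ => ℕ) rb5430 rb5431 (Nat.ble (nat_lit 5431) i)) (Nat.ble (nat_lit 5430) i)) (Nat.ble (nat_lit 5428) i)) (@Bool.rec (fun _ => ℕ) (@Bool.rec (fun _ => ℕ) (@Bool.rec (fun _ => ℕ) rb5432 rb5433 (Nat.ble (nat_lit 5433) i)) (@Bool.rec (fun _ => ℕ) rb5434 rb5435 (Nat.ble (nat_lit 5435) i)) (Nat.ble (nat_lit 5434) i)) (@Bool.rec (fun _ => ℕ) (@Bool.rec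 (fun _ => ℕ) rb5436 rb5437 (Nat.ble (nat_lit 5437) i)) (@Bool.rec (fun _ => ℕ) rb5438 rb5439 (Nat.ble (nat_lit 5439) i)) (Nat.ble (nat_lit 5438) i)) (Nat.ble (nat_lit 5436) i)) (Nat.ble (nat_lit 5432) i)) (Nat.ble (nat_lit 5424) i))

def rowBlk_n0_170 (i : ℕ) : ℕ := (@Bool.rec (fun _ => ℕ) (@Bool.rec (fun _ => ℕ) (@Bool.rec (fun _ => ℕ) (@Bool.rec (fun _ => ℕ) (@Bool.rec (fun _ => ℕ) rb5440 rb5441 (Nat.ble (nat_lit 5441) i)) (@Bool.rec (fun _ => ℕ) rb5442 rb5443 (Nat.ble (nat_lit 5443) i)) (Nat.ble (nat_lit 5442) i)) (@Bool.rec (fun _ => ℕ) (@Bool.rec (fun _ => ℕ) rb5444 rb5445 (Nat.ble (nat_lit 5445) i)) (@Bool.rec (fun _ => ℕ) rb5446 rb5447 (Nat.ble (nat_lit 5447) i)) (Nat.ble (nat_lit 5446) i)) (Nat.ble (nat_lit 5444) i)) (@Bool.rec (fun _ => ℕ) (@Bool.rec (fun _ => ℕ) (@Bool.rec (fun _ => ℕ) rb5448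 rb5449 (Nat.ble (nat_lit 5449) i)) (@Bool.rec (fun _ => ℕ) rb5450 rb5451 (Nat.ble (nat_lit 5451) i)) (Nat.ble (nat_lit 5450) i)) (@Bool.rec (fun _ => ℕ) (@Bool.rec (fun _ => ℕ) rb5452 rb5453 (Nat.ble (nat_lit 5453) i)) (@Bool.rec (fun _ => ℕ) rb5454 rb5455 (Nat.ble (nat_lit 5455) i)) (Nat.ble (nat_lit 5454) i)) (Nat.ble (nat_lit 5452) i)) (Nat.ble (nat_lit 5448) i)) (@Bool.rec (fun _ => ℕ) (@Bool.rec (fun _ => ℕ) (@Bool.rec (fun _ => ℕ) (@Bool.rec (fun _ => ℕ) rb5456 rb5457 (Nat.ble (nat_lit 5457) i)) (@Bool.rec (fun _ => ℕ) rb5458 rb5459 (Nat.ble (nat_lit 5459) i)) (Nat.ble (nat_lit 5458) i)) (@Bool.rec (fun _ => ℕ) (@Bool.rec (fun _ => ℕ) rb5460 rb5461 (Nat.ble (nat_lit 5461) i)) (@Bool.rec (fun _ => ℕ) rb5462 rb5463 (Nat.ble (nat_lit 5463) i)) (Nat.ble (nat_lit 5462) i)) (Nat.ble (nat_lit 5460) i))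 (@Bool.rec (fun _ => ℕ) (@Bool.rec (fun _ => ℕ) (@Bool.rec (fun _ => ℕ) rb5464 rb5465 (Nat.ble (nat_lit 5465) i)) (@Bool.rec (fun _ => ℕ) rb5466 rb5467 (Nat.ble (nat_lit 5467) i)) (Nat.ble (nat_lit 5466) i)) (@Bool.rec (fun _ => ℕ) (@Bool.rec (fun _ => ℕ) rb5468 rb5469 (Nat.ble (nat_lit 5469) i)) (@Bool.rec (fun _ => ℕ) rb5470 rb5471 (Nat.ble (nat_lit 5471) i)) (Nat.ble (nat_lit 5470) i)) (Nat.ble (nat_lit 5468) i)) (Nat.ble (nat_lit 5464) i)) (Nat.ble (nat_lit 5456) i))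

def rowBlk_n0_171 (i : ℕ) : ℕ := (@Bool.rec (fun _ => ℕ) (@Bool.rec (fun _ => ℕ) (@Bool.rec (fun _ => ℕ) (@Bool.rec (fun _ => ℕ) (@Bool.rec (fun _ => ℕ) rb5472 rb5473 (Nat.ble (nat_lit 5473) i)) (@Bool.rec (fun _ => ℕ) rb5474 rb5475 (Nat.ble (nat_lit 5475) i)) (Nat.ble (nat_lit 5474) i)) (@Bool.rec (fun _ => ℕ) (@Bool.rec (fun _ => ℕ) rb5476 rb5477 (Nat.ble (nat_lit 5477) i)) (@Bool.rec (fun _ => ℕ) rb5478 rb5479 (Nat.ble (nat_lit 5479) i)) (Nat.ble (nat_lit 5478) i)) (Nat.ble (nat_lit 5476) i)) (@Bool.rec (fun _ => ℕ) (@Bool.rec (fun _ => ℕ) (@Bool.rec (fun _ => ℕ) rb5480 rb5481 (Nat.ble (nat_lit 5481) i)) (@Bool.rec (fun _ => ℕ) rb5482 rb5483 (Nat.ble (nat_lit 5483) i)) (Nat.ble (nat_lit 5482) i)) (@Bool.rec (fun _ => ℕ) (@Bool.rec (fun _ => ℕ) rb5484 rb5485 (Nat.ble (nat_lit 5485) i)) (@Bool.rec (fun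 _ => ℕ) rb5486 rb5487 (Nat.ble (nat_lit 5487) i)) (Nat.ble (nat_lit 5486) i)) (Nat.ble (nat_lit 5484) i)) (Nat.ble (nat_lit 5480) i)) (@Bool.rec (fun _ => ℕ) (@Bool.rec (fun _ => ℕ) (@Bool.rec (fun _ => ℕ) (@Bool.rec (fun _ => ℕ) rb5488 rb5489 (Nat.ble (nat_lit 5489) i)) (@Bool.rec (fun _ => ℕ) rb5490 rb5491 (Nat.ble (nat_lit 5491) i)) (Nat.ble (nat_lit 5490) i)) (@Bool.rec (fun _ => ℕ) (@Bool.rec (fun _ => ℕ) rb5492 rb5493 (Nat.ble (nat_lit 5493) i)) (@Bool.rec (fun _ => ℕ) rb5494 rb5495 (Nat.ble (nat_lit 5495) i)) (Nat.ble (nat_lit 5494) i)) (Nat.ble (nat_lit 5492) i)) (@Bool.rec (fun _ => ℕ) (@Bool.rec (fun _ => ℕ) (@Bool.rec (fun _ => ℕ) rb5496 rb5497 (Nat.ble (nat_lit 5497) i)) (@Bool.rec (fun _ => ℕ) rb5498 rb5499 (Nat.ble (nat_lit 5499) i)) (Nat.ble (nat_lit 5498) i)) (@Bool.rec (fun _ => ℕ) (@Bool.rec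 (fun _ => ℕ) rb5500 rb5501 (Nat.ble (nat_lit 5501) i)) (@Bool.rec (fun _ => ℕ) rb5502 rb5503 (Nat.ble (nat_lit 5503) i)) (Nat.ble (nat_lit 5502) i)) (Nat.ble (nat_lit 5500) i)) (Nat.ble (nat_lit 5496) i)) (Nat.ble (nat_lit 5488) i))

def rowBlk_n0_172 (i : ℕ) : ℕ := (@Bool.rec (fun _ => ℕ) (@Bool.rec (fun _ => ℕ) (@Bool.rec (fun _ => ℕ) (@Bool.rec (fun _ => ℕ) (@Bool.rec (fun _ => ℕ) rb5504 rb5505 (Nat.ble (nat_lit 5505) i)) (@Bool.rec (fun _ => ℕ) rb5506 rb5507 (Nat.ble (nat_lit 5507) i)) (Nat.ble (nat_lit 5506) i)) (@Bool.rec (fun _ => ℕ) (@Bool.rec (fun _ => ℕ) rb5508 rb5509 (Nat.ble (nat_lit 5509) i)) (@Bool.rec (fun _ => ℕ) rb5510 rb5511 (Nat.ble (nat_lit 5511) i)) (Nat.ble (nat_lit 5510) i)) (Nat.ble (nat_lit 5508) i)) (@Bool.rec (fun _ => ℕ) (@Bool.rec (fun _ => ℕ) (@Bool.rec (fun _ => ℕ) rb5512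 rb5513 (Nat.ble (nat_lit 5513) i)) (@Bool.rec (fun _ => ℕ) rb5514 rb5515 (Nat.ble (nat_lit 5515) i)) (Nat.ble (nat_lit 5514) i)) (@Bool.rec (fun _ => ℕ) (@Bool.rec (fun _ => ℕ) rb5516 rb5517 (Nat.ble (nat_lit 5517) i)) (@Bool.rec (fun _ => ℕ) rb5518 rb5519 (Nat.ble (nat_lit 5519) i)) (Nat.ble (nat_lit 5518) i)) (Nat.ble (nat_lit 5516) i)) (Nat.ble (nat_lit 5512) i)) (@Bool.rec (fun _ => ℕ) (@Bool.rec (fun _ => ℕ) (@Bool.rec (fun _ => ℕ) (@Bool.rec (fun _ => ℕ) rb5520 rb5521 (Nat.ble (nat_lit 5521) i)) (@Bool.rec (fun _ => ℕ) rb5522 rb5523 (Nat.ble (nat_lit 5523) i)) (Nat.ble (nat_lit 5522) i)) (@Bool.rec (fun _ => ℕ) (@Bool.rec (fun _ => ℕ) rb5524 rb5525 (Nat.ble (nat_lit 5525) i)) (@Bool.rec (fun _ => ℕ) rb5526 rb5527 (Nat.ble (nat_lit 5527) i)) (Nat.ble (nat_lit 5526) i)) (Nat.ble (nat_lit 5524) i))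 (@Bool.rec (fun _ => ℕ) (@Bool.rec (fun _ => ℕ) (@Bool.rec (fun _ => ℕ) rb5528 rb5529 (Nat.ble (nat_lit 5529) i)) (@Bool.rec (fun _ => ℕ) rb5530 rb5531 (Nat.ble (nat_lit 5531) i)) (Nat.ble (nat_lit 5530) i)) (@Bool.rec (fun _ => ℕ) (@Bool.rec (fun _ => ℕ) rb5532 rb5533 (Nat.ble (nat_lit 5533) i)) (@Bool.rec (fun _ => ℕ) rb5534 rb5535 (Nat.ble (nat_lit 5535) i)) (Nat.ble (nat_lit 5534) i)) (Nat.ble (nat_lit 5532) i)) (Nat.ble (nat_lit 5528) i)) (Nat.ble (nat_lit 5520) i))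

def rowBlk_n0_173 (i : ℕ) : ℕ := (@Bool.rec (fun _ => ℕ) (@Bool.rec (fun _ => ℕ) (@Bool.rec (fun _ => ℕ) (@Bool.rec (fun _ => ℕ) (@Bool.rec (fun _ => ℕ) rb5536 rb5537 (Nat.ble (nat_lit 5537) i)) (@Bool.rec (fun _ => ℕ) rb5538 rb5539 (Nat.ble (nat_lit 5539) i)) (Nat.ble (nat_lit 5538) i)) (@Bool.rec (fun _ => ℕ) (@Bool.rec (fun _ => ℕ) rb5540 rb5541 (Nat.ble (nat_lit 5541) i)) (@Bool.rec (fun _ => ℕ) rb5542 rb5543 (Nat.ble (nat_lit 5543) i)) (Nat.ble (nat_lit 5542) i)) (Nat.ble (nat_lit 5540) i)) (@Bool.rec (fun _ => ℕ) (@Bool.rec (fun _ => ℕ) (@Bool.rec (fun _ => ℕ) rb5544 rb5545 (Nat.ble (nat_lit 5545) i)) (@Bool.rec (fun _ => ℕ) rb5546 rb5547 (Nat.ble (nat_lit 5547) i)) (Nat.ble (nat_lit 5546) i)) (@Bool.rec (fun _ => ℕ) (@Bool.rec (fun _ => ℕ) rb5548 rb5549 (Nat.ble (nat_lit 5549) i)) (@Bool.rec (fun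 _ => ℕ) rb5550 rb5551 (Nat.ble (nat_lit 5551) i)) (Nat.ble (nat_lit 5550) i)) (Nat.ble (nat_lit 5548) i)) (Nat.ble (nat_lit 5544) i)) (@Bool.rec (fun _ => ℕ) (@Bool.rec (fun _ => ℕ) (@Bool.rec (fun _ => ℕ) (@Bool.rec (fun _ => ℕ) rb5552 rb5553 (Nat.ble (nat_lit 5553) i)) (@Bool.rec (fun _ => ℕ) rb5554 rb5555 (Nat.ble (nat_lit 5555) i)) (Nat.ble (nat_lit 5554) i)) (@Bool.rec (fun _ => ℕ) (@Bool.rec (fun _ => ℕ) rb5556 rb5557 (Nat.ble (nat_lit 5557) i)) (@Bool.rec (fun _ => ℕ) rb5558 rb5559 (Nat.ble (nat_lit 5559) i)) (Nat.ble (nat_lit 5558) i)) (Nat.ble (nat_lit 5556) i)) (@Bool.rec (fun _ => ℕ) (@Bool.rec (fun _ => ℕ) (@Bool.rec (fun _ => ℕ) rb5560 rb5561 (Nat.ble (nat_lit 5561) i)) (@Bool.rec (fun _ => ℕ) rb5562 rb5563 (Nat.ble (nat_lit 5563) i)) (Nat.ble (nat_lit 5562) i)) (@Bool.rec (fun _ => ℕ) (@Bool.rec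 (fun _ => ℕ) rb5564 rb5565 (Nat.ble (nat_lit 5565) i)) (@Bool.rec (fun _ => ℕ) rb5566 rb5567 (Nat.ble (nat_lit 5567) i)) (Nat.ble (nat_lit 5566) i)) (Nat.ble (nat_lit 5564) i)) (Nat.ble (nat_lit 5560) i)) (Nat.ble (nat_lit 5552) i))

def rowBlk_n0_174 (i : ℕ) : ℕ := (@Bool.rec (fun _ => ℕ) (@Bool.rec (fun _ => ℕ) (@Bool.rec (fun _ => ℕ) (@Bool.rec (fun _ => ℕ) (@Bool.rec (fun _ => ℕ) rb5568 rb5569 (Nat.ble (nat_lit 5569) i)) (@Bool.rec (fun _ => ℕ) rb5570 rb5571 (Nat.ble (nat_lit 5571) i)) (Nat.ble (nat_lit 5570) i)) (@Bool.rec (fun _ => ℕ) (@Bool.rec (fun _ => ℕ) rb5572 rb5573 (Nat.ble (nat_lit 5573) i)) (@Bool.rec (fun _ => ℕ) rb5574 rb5575 (Nat.ble (nat_lit 5575) i)) (Nat.ble (nat_lit 5574) i)) (Nat.ble (nat_lit 5572) i)) (@Bool.rec (fun _ => ℕ) (@Bool.rec (fun _ => ℕ) (@Bool.rec (fun _ => ℕ) rb5576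 rb5577 (Nat.ble (nat_lit 5577) i)) (@Bool.rec (fun _ => ℕ) rb5578 rb5579 (Nat.ble (nat_lit 5579) i)) (Nat.ble (nat_lit 5578) i)) (@Bool.rec (fun _ => ℕ) (@Bool.rec (fun _ => ℕ) rb5580 rb5581 (Nat.ble (nat_lit 5581) i)) (@Bool.rec (fun _ => ℕ) rb5582 rb5583 (Nat.ble (nat_lit 5583) i)) (Nat.ble (nat_lit 5582) i)) (Nat.ble (nat_lit 5580) i)) (Nat.ble (nat_lit 5576) i)) (@Bool.rec (fun _ => ℕ) (@Bool.rec (fun _ => ℕ) (@Bool.rec (fun _ => ℕ) (@Bool.rec (fun _ => ℕ) rb5584 rb5585 (Nat.ble (nat_lit 5585) i)) (@Bool.rec (fun _ => ℕ) rb5586 rb5587 (Nat.ble (nat_lit 5587) i)) (Nat.ble (nat_lit 5586) i)) (@Bool.rec (fun _ => ℕ) (@Bool.rec (fun _ => ℕ) rb5588 rb5589 (Nat.ble (nat_lit 5589) i)) (@Bool.rec (fun _ => ℕ) rb5590 rb5591 (Nat.ble (nat_lit 5591) i)) (Nat.ble (nat_lit 5590) i)) (Nat.ble (nat_lit 5588) i))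 (@Bool.rec (fun _ => ℕ) (@Bool.rec (fun _ => ℕ) (@Bool.rec (fun _ => ℕ) rb5592 rb5593 (Nat.ble (nat_lit 5593) i)) (@Bool.rec (fun _ => ℕ) rb5594 rb5595 (Nat.ble (nat_lit 5595) i)) (Nat.ble (nat_lit 5594) i)) (@Bool.rec (fun _ => ℕ) (@Bool.rec (fun _ => ℕ) rb5596 rb5597 (Nat.ble (nat_lit 5597) i)) (@Bool.rec (fun _ => ℕ) rb5598 rb5599 (Nat.ble (nat_lit 5599) i)) (Nat.ble (nat_lit 5598) i)) (Nat.ble (nat_lit 5596) i)) (Nat.ble (nat_lit 5592) i)) (Nat.ble (nat_lit 5584) i))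

def rowBlk_n0_175 (i : ℕ) : ℕ := (@Bool.rec (fun _ => ℕ) (@Bool.rec (fun _ => ℕ) (@Bool.rec (fun _ => ℕ) (@Bool.rec (fun _ => ℕ) (@Bool.rec (fun _ => ℕ) rb5600 rb5601 (Nat.ble (nat_lit 5601) i)) (@Bool.rec (fun _ => ℕ) rb5602 rb5603 (Nat.ble (nat_lit 5603) i)) (Nat.ble (nat_lit 5602) i)) (@Bool.rec (fun _ => ℕ) (@Bool.rec (fun _ => ℕ) rb5604 rb5605 (Nat.ble (nat_lit 5605) i)) (@Bool.rec (fun _ => ℕ) rb5606 rb5607 (Nat.ble (nat_lit 5607) i)) (Nat.ble (nat_lit 5606) i)) (Nat.ble (nat_lit 5604) i)) (@Bool.rec (fun _ => ℕ) (@Bool.rec (fun _ => ℕ) (@Bool.rec (fun _ => ℕ) rb5608 rb5609 (Nat.ble (nat_lit 5609) i)) (@Bool.rec (fun _ => ℕ) rb5610 rb5611 (Nat.ble (nat_lit 5611) i)) (Nat.ble (nat_lit 5610) i)) (@Bool.rec (fun _ => ℕ) (@Bool.rec (fun _ => ℕ) rb5612 rb5613 (Nat.ble (nat_lit 5613) i)) (@Bool.rec (fun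 _ => ℕ) rb5614 rb5615 (Nat.ble (nat_lit 5615) i)) (Nat.ble (nat_lit 5614) i)) (Nat.ble (nat_lit 5612) i)) (Nat.ble (nat_lit 5608) i)) (@Bool.rec (fun _ => ℕ) (@Bool.rec (fun _ => ℕ) (@Bool.rec (fun _ => ℕ) (@Bool.rec (fun _ => ℕ) rb5616 rb5617 (Nat.ble (nat_lit 5617) i)) (@Bool.rec (fun _ => ℕ) rb5618 rb5619 (Nat.ble (nat_lit 5619) i)) (Nat.ble (nat_lit 5618) i)) (@Bool.rec (fun _ => ℕ) (@Bool.rec (fun _ => ℕ) rb5620 rb5621 (Nat.ble (nat_lit 5621) i)) (@Bool.rec (fun _ => ℕ) rb5622 rb5623 (Nat.ble (nat_lit 5623) i)) (Nat.ble (nat_lit 5622) i)) (Nat.ble (nat_lit 5620) i)) (@Bool.rec (fun _ => ℕ) (@Bool.rec (fun _ => ℕ) (@Bool.rec (fun _ => ℕ) rb5624 rb5625 (Nat.ble (nat_lit 5625) i)) (@Bool.rec (fun _ => ℕ) rb5626 rb5627 (Nat.ble (nat_lit 5627) i)) (Nat.ble (nat_lit 5626) i)) (@Bool.rec (fun _ => ℕ) (@Bool.rec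 (fun _ => ℕ) rb5628 rb5629 (Nat.ble (nat_lit 5629) i)) (@Bool.rec (fun _ => ℕ) rb5630 rb5631 (Nat.ble (nat_lit 5631) i)) (Nat.ble (nat_lit 5630) i)) (Nat.ble (nat_lit 5628) i)) (Nat.ble (nat_lit 5624) i)) (Nat.ble (nat_lit 5616) i))

def rowBlk_n0_176 (i : ℕ) : ℕ := (@Bool.rec (fun _ => ℕ) (@Bool.rec (fun _ => ℕ) (@Bool.rec (fun _ => ℕ) (@Bool.rec (fun _ => ℕ) (@Bool.rec (fun _ => ℕ) rb5632 rb5633 (Nat.ble (nat_lit 5633) i)) (@Bool.rec (fun _ => ℕ) rb5634 rb5635 (Nat.ble (nat_lit 5635) i)) (Nat.ble (nat_lit 5634) i)) (@Bool.rec (fun _ => ℕ) (@Bool.rec (fun _ => ℕ) rb5636 rb5637 (Nat.ble (nat_lit 5637) i)) (@Bool.rec (fun _ => ℕ) rb5638 rb5639 (Nat.ble (nat_lit 5639) i)) (Nat.ble (nat_lit 5638) i)) (Nat.ble (nat_lit 5636) i)) (@Bool.rec (fun _ => ℕ) (@Bool.rec (fun _ => ℕ) (@Bool.rec (fun _ => ℕ) rb5640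 rb5641 (Nat.ble (nat_lit 5641) i)) (@Bool.rec (fun _ => ℕ) rb5642 rb5643 (Nat.ble (nat_lit 5643) i)) (Nat.ble (nat_lit 5642) i)) (@Bool.rec (fun _ => ℕ) (@Bool.rec (fun _ => ℕ) rb5644 rb5645 (Nat.ble (nat_lit 5645) i)) (@Bool.rec (fun _ => ℕ) rb5646 rb5647 (Nat.ble (nat_lit 5647) i)) (Nat.ble (nat_lit 5646) i)) (Nat.ble (nat_lit 5644) i)) (Nat.ble (nat_lit 5640) i)) (@Bool.rec (fun _ => ℕ) (@Bool.rec (fun _ => ℕ) (@Bool.rec (fun _ => ℕ) (@Bool.rec (fun _ => ℕ) rb5648 rb5649 (Nat.ble (nat_lit 5649) i)) (@Bool.rec (fun _ => ℕ) rb5650 rb5651 (Nat.ble (nat_lit 5651) i)) (Nat.ble (nat_lit 5650) i)) (@Bool.rec (fun _ => ℕ) (@Bool.rec (fun _ => ℕ) rb5652 rb5653 (Nat.ble (nat_lit 5653) i)) (@Bool.rec (fun _ => ℕ) rb5654 rb5655 (Nat.ble (nat_lit 5655) i)) (Nat.ble (nat_lit 5654) i)) (Nat.ble (nat_lit 5652) i))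 (@Bool.rec (fun _ => ℕ) (@Bool.rec (fun _ => ℕ) (@Bool.rec (fun _ => ℕ) rb5656 rb5657 (Nat.ble (nat_lit 5657) i)) (@Bool.rec (fun _ => ℕ) rb5658 rb5659 (Nat.ble (nat_lit 5659) i)) (Nat.ble (nat_lit 5658) i)) (@Bool.rec (fun _ => ℕ) (@Bool.rec (fun _ => ℕ) rb5660 rb5661 (Nat.ble (nat_lit 5661) i)) (@Bool.rec (fun _ => ℕ) rb5662 rb5663 (Nat.ble (nat_lit 5663) i)) (Nat.ble (nat_lit 5662) i)) (Nat.ble (nat_lit 5660) i)) (Nat.ble (nat_lit 5656) i)) (Nat.ble (nat_lit 5648) i))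

def rowBlk_n0_177 (i : ℕ) : ℕ := (@Bool.rec (fun _ => ℕ) (@Bool.rec (fun _ => ℕ) (@Bool.rec (fun _ => ℕ) (@Bool.rec (fun _ => ℕ) (@Bool.rec (fun _ => ℕ) rb5664 rb5665 (Nat.ble (nat_lit 5665) i)) (@Bool.rec (fun _ => ℕ) rb5666 rb5667 (Nat.ble (nat_lit 5667) i)) (Nat.ble (nat_lit 5666) i)) (@Bool.rec (fun _ => ℕ) (@Bool.rec (fun _ => ℕ) rb5668 rb5669 (Nat.ble (nat_lit 5669) i)) (@Bool.rec (fun _ => ℕ) rb5670 rb5671 (Nat.ble (nat_lit 5671) i)) (Nat.ble (nat_lit 5670) i)) (Nat.ble (nat_lit 5668) i)) (@Bool.rec (fun _ => ℕ) (@Bool.rec (fun _ => ℕ) (@Bool.rec (fun _ => ℕ) rb5672 rb5673 (Nat.ble (nat_lit 5673) i)) (@Bool.rec (fun _ => ℕ) rb5674 rb5675 (Nat.ble (nat_lit 5675) i)) (Nat.ble (nat_lit 5674) i)) (@Bool.rec (fun _ => ℕ) (@Bool.rec (fun _ => ℕ) rb5676 rb5677 (Nat.ble (nat_lit 5677) i)) (@Bool.rec (fun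 _ => ℕ) rb5678 rb5679 (Nat.ble (nat_lit 5679) i)) (Nat.ble (nat_lit 5678) i)) (Nat.ble (nat_lit 5676) i)) (Nat.ble (nat_lit 5672) i)) (@Bool.rec (fun _ => ℕ) (@Bool.rec (fun _ => ℕ) (@Bool.rec (fun _ => ℕ) (@Bool.rec (fun _ => ℕ) rb5680 rb5681 (Nat.ble (nat_lit 5681) i)) (@Bool.rec (fun _ => ℕ) rb5682 rb5683 (Nat.ble (nat_lit 5683) i)) (Nat.ble (nat_lit 5682) i)) (@Bool.rec (fun _ => ℕ) (@Bool.rec (fun _ => ℕ) rb5684 rb5685 (Nat.ble (nat_lit 5685) i)) (@Bool.rec (fun _ => ℕ) rb5686 rb5687 (Nat.ble (nat_lit 5687) i)) (Nat.ble (nat_lit 5686) i)) (Nat.ble (nat_lit 5684) i)) (@Bool.rec (fun _ => ℕ) (@Bool.rec (fun _ => ℕ) (@Bool.rec (fun _ => ℕ) rb5688 rb5689 (Nat.ble (nat_lit 5689) i)) (@Bool.rec (fun _ => ℕ) rb5690 rb5691 (Nat.ble (nat_lit 5691) i)) (Nat.ble (nat_lit 5690) i)) (@Bool.rec (fun _ => ℕ) (@Bool.rec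 (fun _ => ℕ) rb5692 rb5693 (Nat.ble (nat_lit 5693) i)) (@Bool.rec (fun _ => ℕ) rb5694 rb5695 (Nat.ble (nat_lit 5695) i)) (Nat.ble (nat_lit 5694) i)) (Nat.ble (nat_lit 5692) i)) (Nat.ble (nat_lit 5688) i)) (Nat.ble (nat_lit 5680) i))

def rowBlk_n0_178 (i : ℕ) : ℕ := (@Bool.rec (fun _ => ℕ) (@Bool.rec (fun _ => ℕ) (@Bool.rec (fun _ => ℕ) (@Bool.rec (fun _ => ℕ) (@Bool.rec (fun _ => ℕ) rb5696 rb5697 (Nat.ble (nat_lit 5697) i)) (@Bool.rec (fun _ => ℕ) rb5698 rb5699 (Nat.ble (nat_lit 5699) i)) (Nat.ble (nat_lit 5698) i)) (@Bool.rec (fun _ => ℕ) (@Bool.rec (fun _ => ℕ) rb5700 rb5701 (Nat.ble (nat_lit 5701) i)) (@Bool.rec (fun _ => ℕ) rb5702 rb5703 (Nat.ble (nat_lit 5703) i)) (Nat.ble (nat_lit 5702) i)) (Nat.ble (nat_lit 5700) i)) (@Bool.rec (fun _ => ℕ) (@Bool.rec (fun _ => ℕ) (@Bool.rec (fun _ => ℕ) rb5704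 rb5705 (Nat.ble (nat_lit 5705) i)) (@Bool.rec (fun _ => ℕ) rb5706 rb5707 (Nat.ble (nat_lit 5707) i)) (Nat.ble (nat_lit 5706) i)) (@Bool.rec (fun _ => ℕ) (@Bool.rec (fun _ => ℕ) rb5708 rb5709 (Nat.ble (nat_lit 5709) i)) (@Bool.rec (fun _ => ℕ) rb5710 rb5711 (Nat.ble (nat_lit 5711) i)) (Nat.ble (nat_lit 5710) i)) (Nat.ble (nat_lit 5708) i)) (Nat.ble (nat_lit 5704) i)) (@Bool.rec (fun _ => ℕ) (@Bool.rec (fun _ => ℕ) (@Bool.rec (fun _ => ℕ) (@Bool.rec (fun _ => ℕ) rb5712 rb5713 (Nat.ble (nat_lit 5713) i)) (@Bool.rec (fun _ => ℕ) rb5714 rb5715 (Nat.ble (nat_lit 5715) i)) (Nat.ble (nat_lit 5714) i)) (@Bool.rec (fun _ => ℕ) (@Bool.rec (fun _ => ℕ) rb5716 rb5717 (Nat.ble (nat_lit 5717) i)) (@Bool.rec (fun _ => ℕ) rb5718 rb5719 (Nat.ble (nat_lit 5719) i)) (Nat.ble (nat_lit 5718) i)) (Nat.ble (nat_lit 5716) i))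 (@Bool.rec (fun _ => ℕ) (@Bool.rec (fun _ => ℕ) (@Bool.rec (fun _ => ℕ) rb5720 rb5721 (Nat.ble (nat_lit 5721) i)) (@Bool.rec (fun _ => ℕ) rb5722 rb5723 (Nat.ble (nat_lit 5723) i)) (Nat.ble (nat_lit 5722) i)) (@Bool.rec (fun _ => ℕ) (@Bool.rec (fun _ => ℕ) rb5724 rb5725 (Nat.ble (nat_lit 5725) i)) (@Bool.rec (fun _ => ℕ) rb5726 rb5727 (Nat.ble (nat_lit 5727) i)) (Nat.ble (nat_lit 5726) i)) (Nat.ble (nat_lit 5724) i)) (Nat.ble (nat_lit 5720) i)) (Nat.ble (nat_lit 5712) i))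

def rowBlk_n0_179 (i : ℕ) : ℕ := (@Bool.rec (fun _ => ℕ) (@Bool.rec (fun _ => ℕ) (@Bool.rec (fun _ => ℕ) (@Bool.rec (fun _ => ℕ) (@Bool.rec (fun _ => ℕ) rb5728 rb5729 (Nat.ble (nat_lit 5729) i)) (@Bool.rec (fun _ => ℕ) rb5730 rb5731 (Nat.ble (nat_lit 5731) i)) (Nat.ble (nat_lit 5730) i)) (@Bool.rec (fun _ => ℕ) (@Bool.rec (fun _ => ℕ) rb5732 rb5733 (Nat.ble (nat_lit 5733) i)) (@Bool.rec (fun _ => ℕ) rb5734 rb5735 (Nat.ble (nat_lit 5735) i)) (Nat.ble (nat_lit 5734) i)) (Nat.ble (nat_lit 5732) i)) (@Bool.rec (fun _ => ℕ) (@Bool.rec (fun _ => ℕ) (@Bool.rec (fun _ => ℕ) rb5736 rb5737 (Nat.ble (nat_lit 5737) i)) (@Bool.rec (fun _ => ℕ) rb5738 rb5739 (Nat.ble (nat_lit 5739) i)) (Nat.ble (nat_lit 5738) i)) (@Bool.rec (fun _ => ℕ) (@Bool.rec (fun _ => ℕ) rb5740 rb5741 (Nat.ble (nat_lit 5741) i)) (@Bool.rec (fun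 _ => ℕ) rb5742 rb5743 (Nat.ble (nat_lit 5743) i)) (Nat.ble (nat_lit 5742) i)) (Nat.ble (nat_lit 5740) i)) (Nat.ble (nat_lit 5736) i)) (@Bool.rec (fun _ => ℕ) (@Bool.rec (fun _ => ℕ) (@Bool.rec (fun _ => ℕ) (@Bool.rec (fun _ => ℕ) rb5744 rb5745 (Nat.ble (nat_lit 5745) i)) (@Bool.rec (fun _ => ℕ) rb5746 rb5747 (Nat.ble (nat_lit 5747) i)) (Nat.ble (nat_lit 5746) i)) (@Bool.rec (fun _ => ℕ) (@Bool.rec (fun _ => ℕ) rb5748 rb5749 (Nat.ble (nat_lit 5749) i)) (@Bool.rec (fun _ => ℕ) rb5750 rb5751 (Nat.ble (nat_lit 5751) i)) (Nat.ble (nat_lit 5750) i)) (Nat.ble (nat_lit 5748) i)) (@Bool.rec (fun _ => ℕ) (@Bool.rec (fun _ => ℕ) (@Bool.rec (fun _ => ℕ) rb5752 rb5753 (Nat.ble (nat_lit 5753) i)) (@Bool.rec (fun _ => ℕ) rb5754 rb5755 (Nat.ble (nat_lit 5755) i)) (Nat.ble (nat_lit 5754) i)) (@Bool.rec (fun _ => ℕ) (@Bool.rec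 (fun _ => ℕ) rb5756 rb5757 (Nat.ble (nat_lit 5757) i)) (@Bool.rec (fun _ => ℕ) rb5758 rb5759 (Nat.ble (nat_lit 5759) i)) (Nat.ble (nat_lit 5758) i)) (Nat.ble (nat_lit 5756) i)) (Nat.ble (nat_lit 5752) i)) (Nat.ble (nat_lit 5744) i))

def rowBlk_n0_180 (i : ℕ) : ℕ := (@Bool.rec (fun _ => ℕ) (@Bool.rec (fun _ => ℕ) (@Bool.rec (fun _ => ℕ) (@Bool.rec (fun _ => ℕ) (@Bool.rec (fun _ => ℕ) rb5760 rb5761 (Nat.ble (nat_lit 5761) i)) (@Bool.rec (fun _ => ℕ) rb5762 rb5763 (Nat.ble (nat_lit 5763) i)) (Nat.ble (nat_lit 5762) i)) (@Bool.rec (fun _ => ℕ) (@Bool.rec (fun _ => ℕ) rb5764 rb5765 (Nat.ble (nat_lit 5765) i)) (@Bool.rec (fun _ => ℕ) rb5766 rb5767 (Nat.ble (nat_lit 5767) i)) (Nat.ble (nat_lit 5766) i)) (Nat.ble (nat_lit 5764) i)) (@Bool.rec (fun _ => ℕ) (@Bool.rec (fun _ => ℕ) (@Bool.rec (fun _ => ℕ) rb5768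 rb5769 (Nat.ble (nat_lit 5769) i)) (@Bool.rec (fun _ => ℕ) rb5770 rb5771 (Nat.ble (nat_lit 5771) i)) (Nat.ble (nat_lit 5770) i)) (@Bool.rec (fun _ => ℕ) (@Bool.rec (fun _ => ℕ) rb5772 rb5773 (Nat.ble (nat_lit 5773) i)) (@Bool.rec (fun _ => ℕ) rb5774 rb5775 (Nat.ble (nat_lit 5775) i)) (Nat.ble (nat_lit 5774) i)) (Nat.ble (nat_lit 5772) i)) (Nat.ble (nat_lit 5768) i)) (@Bool.rec (fun _ => ℕ) (@Bool.rec (fun _ => ℕ) (@Bool.rec (fun _ => ℕ) (@Bool.rec (fun _ => ℕ) rb5776 rb5777 (Nat.ble (nat_lit 5777) i)) (@Bool.rec (fun _ => ℕ) rb5778 rb5779 (Nat.ble (nat_lit 5779) i)) (Nat.ble (nat_lit 5778) i)) (@Bool.rec (fun _ => ℕ) (@Bool.rec (fun _ => ℕ) rb5780 rb5781 (Nat.ble (nat_lit 5781) i)) (@Bool.rec (fun _ => ℕ) rb5782 rb5783 (Nat.ble (nat_lit 5783) i)) (Nat.ble (nat_lit 5782) i)) (Nat.ble (nat_lit 5780) i))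 (@Bool.rec (fun _ => ℕ) (@Bool.rec (fun _ => ℕ) (@Bool.rec (fun _ => ℕ) rb5784 rb5785 (Nat.ble (nat_lit 5785) i)) (@Bool.rec (fun _ => ℕ) rb5786 rb5787 (Nat.ble (nat_lit 5787) i)) (Nat.ble (nat_lit 5786) i)) (@Bool.rec (fun _ => ℕ) (@Bool.rec (fun _ => ℕ) rb5788 rb5789 (Nat.ble (nat_lit 5789) i)) (@Bool.rec (fun _ => ℕ) rb5790 rb5791 (Nat.ble (nat_lit 5791) i)) (Nat.ble (nat_lit 5790) i)) (Nat.ble (nat_lit 5788) i)) (Nat.ble (nat_lit 5784) i)) (Nat.ble (nat_lit 5776) i))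

def rowBlk_n0_181 (i : ℕ) : ℕ := (@Bool.rec (fun _ => ℕ) (@Bool.rec (fun _ => ℕ) (@Bool.rec (fun _ => ℕ) (@Bool.rec (fun _ => ℕ) (@Bool.rec (fun _ => ℕ) rb5792 rb5793 (Nat.ble (nat_lit 5793) i)) (@Bool.rec (fun _ => ℕ) rb5794 rb5795 (Nat.ble (nat_lit 5795) i)) (Nat.ble (nat_lit 5794) i)) (@Bool.rec (fun _ => ℕ) (@Bool.rec (fun _ => ℕ) rb5796 rb5797 (Nat.ble (nat_lit 5797) i)) (@Bool.rec (fun _ => ℕ) rb5798 rb5799 (Nat.ble (nat_lit 5799) i)) (Nat.ble (nat_lit 5798) i)) (Nat.ble (nat_lit 5796) i)) (@Bool.rec (fun _ => ℕ) (@Bool.rec (fun _ => ℕ) (@Bool.rec (fun _ => ℕ) rb5800 rb5801 (Nat.ble (nat_lit 5801) i)) (@Bool.rec (fun _ => ℕ) rb5802 rb5803 (Nat.ble (nat_lit 5803) i)) (Nat.ble (nat_lit 5802) i)) (@Bool.rec (fun _ => ℕ) (@Bool.rec (fun _ => ℕ) rb5804 rb5805 (Nat.ble (nat_lit 5805) i)) (@Bool.rec (fun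 _ => ℕ) rb5806 rb5807 (Nat.ble (nat_lit 5807) i)) (Nat.ble (nat_lit 5806) i)) (Nat.ble (nat_lit 5804) i)) (Nat.ble (nat_lit 5800) i)) (@Bool.rec (fun _ => ℕ) (@Bool.rec (fun _ => ℕ) (@Bool.rec (fun _ => ℕ) (@Bool.rec (fun _ => ℕ) rb5808 rb5809 (Nat.ble (nat_lit 5809) i)) (@Bool.rec (fun _ => ℕ) rb5810 rb5811 (Nat.ble (nat_lit 5811) i)) (Nat.ble (nat_lit 5810) i)) (@Bool.rec (fun _ => ℕ) (@Bool.rec (fun _ => ℕ) rb5812 rb5813 (Nat.ble (nat_lit 5813) i)) (@Bool.rec (fun _ => ℕ) rb5814 rb5815 (Nat.ble (nat_lit 5815) i)) (Nat.ble (nat_lit 5814) i)) (Nat.ble (nat_lit 5812) i)) (@Bool.rec (fun _ => ℕ) (@Bool.rec (fun _ => ℕ) (@Bool.rec (fun _ => ℕ) rb5816 rb5817 (Nat.ble (nat_lit 5817) i)) (@Bool.rec (fun _ => ℕ) rb5818 rb5819 (Nat.ble (nat_lit 5819) i)) (Nat.ble (nat_lit 5818) i)) (@Bool.rec (fun _ => ℕ) (@Bool.rec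 (fun _ => ℕ) rb5820 rb5821 (Nat.ble (nat_lit 5821) i)) (@Bool.rec (fun _ => ℕ) rb5822 rb5823 (Nat.ble (nat_lit 5823) i)) (Nat.ble (nat_lit 5822) i)) (Nat.ble (nat_lit 5820) i)) (Nat.ble (nat_lit 5816) i)) (Nat.ble (nat_lit 5808) i))

def rowBlk_n0_182 (i : ℕ) : ℕ := (@Bool.rec (fun _ => ℕ) (@Bool.rec (fun _ => ℕ) (@Bool.rec (fun _ => ℕ) (@Bool.rec (fun _ => ℕ) (@Bool.rec (fun _ => ℕ) rb5824 rb5825 (Nat.ble (nat_lit 5825) i)) (@Bool.rec (fun _ => ℕ) rb5826 rb5827 (Nat.ble (nat_lit 5827) i)) (Nat.ble (nat_lit 5826) i)) (@Bool.rec (fun _ => ℕ) (@Bool.rec (fun _ => ℕ) rb5828 rb5829 (Nat.ble (nat_lit 5829) i)) (@Bool.rec (fun _ => ℕ) rb5830 rb5831 (Nat.ble (nat_lit 5831) i)) (Nat.ble (nat_lit 5830) i)) (Nat.ble (nat_lit 5828) i)) (@Bool.rec (fun _ => ℕ) (@Bool.rec (fun _ => ℕ) (@Bool.rec (fun _ => ℕ) rb5832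 rb5833 (Nat.ble (nat_lit 5833) i)) (@Bool.rec (fun _ => ℕ) rb5834 rb5835 (Nat.ble (nat_lit 5835) i)) (Nat.ble (nat_lit 5834) i)) (@Bool.rec (fun _ => ℕ) (@Bool.rec (fun _ => ℕ) rb5836 rb5837 (Nat.ble (nat_lit 5837) i)) (@Bool.rec (fun _ => ℕ) rb5838 rb5839 (Nat.ble (nat_lit 5839) i)) (Nat.ble (nat_lit 5838) i)) (Nat.ble (nat_lit 5836) i)) (Nat.ble (nat_lit 5832) i)) (@Bool.rec (fun _ => ℕ) (@Bool.rec (fun _ => ℕ) (@Bool.rec (fun _ => ℕ) (@Bool.rec (fun _ => ℕ) rb5840 rb5841 (Nat.ble (nat_lit 5841) i)) (@Bool.rec (fun _ => ℕ) rb5842 rb5843 (Nat.ble (nat_lit 5843) i)) (Nat.ble (nat_lit 5842) i)) (@Bool.rec (fun _ => ℕ) (@Bool.rec (fun _ => ℕ) rb5844 rb5845 (Nat.ble (nat_lit 5845) i)) (@Bool.rec (fun _ => ℕ) rb5846 rb5847 (Nat.ble (nat_lit 5847) i)) (Nat.ble (nat_lit 5846) i)) (Nat.ble (nat_lit 5844) i))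 (@Bool.rec (fun _ => ℕ) (@Bool.rec (fun _ => ℕ) (@Bool.rec (fun _ => ℕ) rb5848 rb5849 (Nat.ble (nat_lit 5849) i)) (@Bool.rec (fun _ => ℕ) rb5850 rb5851 (Nat.ble (nat_lit 5851) i)) (Nat.ble (nat_lit 5850) i)) (@Bool.rec (fun _ => ℕ) (@Bool.rec (fun _ => ℕ) rb5852 rb5853 (Nat.ble (nat_lit 5853) i)) (@Bool.rec (fun _ => ℕ) rb5854 rb5855 (Nat.ble (nat_lit 5855) i)) (Nat.ble (nat_lit 5854) i)) (Nat.ble (nat_lit 5852) i)) (Nat.ble (nat_lit 5848) i)) (Nat.ble (nat_lit 5840) i))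

def rowBlk_n0_183 (i : ℕ) : ℕ := (@Bool.rec (fun _ => ℕ) (@Bool.rec (fun _ => ℕ) (@Bool.rec (fun _ => ℕ) (@Bool.rec (fun _ => ℕ) (@Bool.rec (fun _ => ℕ) rb5856 rb5857 (Nat.ble (nat_lit 5857) i)) (@Bool.rec (fun _ => ℕ) rb5858 rb5859 (Nat.ble (nat_lit 5859) i)) (Nat.ble (nat_lit 5858) i)) (@Bool.rec (fun _ => ℕ) (@Bool.rec (fun _ => ℕ) rb5860 rb5861 (Nat.ble (nat_lit 5861) i)) (@Bool.rec (fun _ => ℕ) rb5862 rb5863 (Nat.ble (nat_lit 5863) i)) (Nat.ble (nat_lit 5862) i)) (Nat.ble (nat_lit 5860) i)) (@Bool.rec (fun _ => ℕ) (@Bool.rec (fun _ => ℕ) (@Bool.rec (fun _ => ℕ) rb5864 rb5865 (Nat.ble (nat_lit 5865) i)) (@Bool.rec (fun _ => ℕ) rb5866 rb5867 (Nat.ble (nat_lit 5867) i)) (Nat.ble (nat_lit 5866) i)) (@Bool.rec (fun _ => ℕ) (@Bool.rec (fun _ => ℕ) rb5868 rb5869 (Nat.ble (nat_lit 5869) i)) (@Bool.rec (fun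 _ => ℕ) rb5870 rb5871 (Nat.ble (nat_lit 5871) i)) (Nat.ble (nat_lit 5870) i)) (Nat.ble (nat_lit 5868) i)) (Nat.ble (nat_lit 5864) i)) (@Bool.rec (fun _ => ℕ) (@Bool.rec (fun _ => ℕ) (@Bool.rec (fun _ => ℕ) (@Bool.rec (fun _ => ℕ) rb5872 rb5873 (Nat.ble (nat_lit 5873) i)) (@Bool.rec (fun _ => ℕ) rb5874 rb5875 (Nat.ble (nat_lit 5875) i)) (Nat.ble (nat_lit 5874) i)) (@Bool.rec (fun _ => ℕ) (@Bool.rec (fun _ => ℕ) rb5876 rb5877 (Nat.ble (nat_lit 5877) i)) (@Bool.rec (fun _ => ℕ) rb5878 rb5879 (Nat.ble (nat_lit 5879) i)) (Nat.ble (nat_lit 5878) i)) (Nat.ble (nat_lit 5876) i)) (@Bool.rec (fun _ => ℕ) (@Bool.rec (fun _ => ℕ) (@Bool.rec (fun _ => ℕ) rb5880 rb5881 (Nat.ble (nat_lit 5881) i)) (@Bool.rec (fun _ => ℕ) rb5882 rb5883 (Nat.ble (nat_lit 5883) i)) (Nat.ble (nat_lit 5882) i)) (@Bool.rec (fun _ => ℕ) (@Bool.rec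 (fun _ => ℕ) rb5884 rb5885 (Nat.ble (nat_lit 5885) i)) (@Bool.rec (fun _ => ℕ) rb5886 rb5887 (Nat.ble (nat_lit 5887) i)) (Nat.ble (nat_lit 5886) i)) (Nat.ble (nat_lit 5884) i)) (Nat.ble (nat_lit 5880) i)) (Nat.ble (nat_lit 5872) i))

def rowBlk_n0_184 (i : ℕ) : ℕ := (@Bool.rec (fun _ => ℕ) (@Bool.rec (fun _ => ℕ) (@Bool.rec (fun _ => ℕ) (@Bool.rec (fun _ => ℕ) (@Bool.rec (fun _ => ℕ) rb5888 rb5889 (Nat.ble (nat_lit 5889) i)) (@Bool.rec (fun _ => ℕ) rb5890 rb5891 (Nat.ble (nat_lit 5891) i)) (Nat.ble (nat_lit 5890) i)) (@Bool.rec (fun _ => ℕ) (@Bool.rec (fun _ => ℕ) rb5892 rb5893 (Nat.ble (nat_lit 5893) i)) (@Bool.rec (fun _ => ℕ) rb5894 rb5895 (Nat.ble (nat_lit 5895) i)) (Nat.ble (nat_lit 5894) i)) (Nat.ble (nat_lit 5892) i)) (@Bool.rec (fun _ => ℕ) (@Bool.rec (fun _ => ℕ) (@Bool.rec (fun _ => ℕ) rb5896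 rb5897 (Nat.ble (nat_lit 5897) i)) (@Bool.rec (fun _ => ℕ) rb5898 rb5899 (Nat.ble (nat_lit 5899) i)) (Nat.ble (nat_lit 5898) i)) (@Bool.rec (fun _ => ℕ) (@Bool.rec (fun _ => ℕ) rb5900 rb5901 (Nat.ble (nat_lit 5901) i)) (@Bool.rec (fun _ => ℕ) rb5902 rb5903 (Nat.ble (nat_lit 5903) i)) (Nat.ble (nat_lit 5902) i)) (Nat.ble (nat_lit 5900) i)) (Nat.ble (nat_lit 5896) i)) (@Bool.rec (fun _ => ℕ) (@Bool.rec (fun _ => ℕ) (@Bool.rec (fun _ => ℕ) (@Bool.rec (fun _ => ℕ) rb5904 rb5905 (Nat.ble (nat_lit 5905) i)) (@Bool.rec (fun _ => ℕ) rb5906 rb5907 (Nat.ble (nat_lit 5907) i)) (Nat.ble (nat_lit 5906) i)) (@Bool.rec (fun _ => ℕ) (@Bool.rec (fun _ => ℕ) rb5908 rb5909 (Nat.ble (nat_lit 5909) i)) (@Bool.rec (fun _ => ℕ) rb5910 rb5911 (Nat.ble (nat_lit 5911) i)) (Nat.ble (nat_lit 5910) i)) (Nat.ble (nat_lit 5908) i))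 (@Bool.rec (fun _ => ℕ) (@Bool.rec (fun _ => ℕ) (@Bool.rec (fun _ => ℕ) rb5912 rb5913 (Nat.ble (nat_lit 5913) i)) (@Bool.rec (fun _ => ℕ) rb5914 rb5915 (Nat.ble (nat_lit 5915) i)) (Nat.ble (nat_lit 5914) i)) (@Bool.rec (fun _ => ℕ) (@Bool.rec (fun _ => ℕ) rb5916 rb5917 (Nat.ble (nat_lit 5917) i)) (@Bool.rec (fun _ => ℕ) rb5918 rb5919 (Nat.ble (nat_lit 5919) i)) (Nat.ble (nat_lit 5918) i)) (Nat.ble (nat_lit 5916) i)) (Nat.ble (nat_lit 5912) i)) (Nat.ble (nat_lit 5904) i))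

def rowBlk_n0_185 (i : ℕ) : ℕ := (@Bool.rec (fun _ => ℕ) (@Bool.rec (fun _ => ℕ) (@Bool.rec (fun _ => ℕ) (@Bool.rec (fun _ => ℕ) (@Bool.rec (fun _ => ℕ) rb5920 rb5921 (Nat.ble (nat_lit 5921) i)) (@Bool.rec (fun _ => ℕ) rb5922 rb5923 (Nat.ble (nat_lit 5923) i)) (Nat.ble (nat_lit 5922) i)) (@Bool.rec (fun _ => ℕ) (@Bool.rec (fun _ => ℕ) rb5924 rb5925 (Nat.ble (nat_lit 5925) i)) (@Bool.rec (fun _ => ℕ) rb5926 rb5927 (Nat.ble (nat_lit 5927) i)) (Nat.ble (nat_lit 5926) i)) (Nat.ble (nat_lit 5924) i)) (@Bool.rec (fun _ => ℕ) (@Bool.rec (fun _ => ℕ) (@Bool.rec (fun _ => ℕ) rb5928 rb5929 (Nat.ble (nat_lit 5929) i)) (@Bool.rec (fun _ => ℕ) rb5930 rb5931 (Nat.ble (nat_lit 5931) i)) (Nat.ble (nat_lit 5930) i)) (@Bool.rec (fun _ => ℕ) (@Bool.rec (fun _ => ℕ) rb5932 rb5933 (Nat.ble (nat_lit 5933) i)) (@Bool.rec (fun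 _ => ℕ) rb5934 rb5935 (Nat.ble (nat_lit 5935) i)) (Nat.ble (nat_lit 5934) i)) (Nat.ble (nat_lit 5932) i)) (Nat.ble (nat_lit 5928) i)) (@Bool.rec (fun _ => ℕ) (@Bool.rec (fun _ => ℕ) (@Bool.rec (fun _ => ℕ) (@Bool.rec (fun _ => ℕ) rb5936 rb5937 (Nat.ble (nat_lit 5937) i)) (@Bool.rec (fun _ => ℕ) rb5938 rb5939 (Nat.ble (nat_lit 5939) i)) (Nat.ble (nat_lit 5938) i)) (@Bool.rec (fun _ => ℕ) (@Bool.rec (fun _ => ℕ) rb5940 rb5941 (Nat.ble (nat_lit 5941) i)) (@Bool.rec (fun _ => ℕ) rb5942 rb5943 (Nat.ble (nat_lit 5943) i)) (Nat.ble (nat_lit 5942) i)) (Nat.ble (nat_lit 5940) i)) (@Bool.rec (fun _ => ℕ) (@Bool.rec (fun _ => ℕ) (@Bool.rec (fun _ => ℕ) rb5944 rb5945 (Nat.ble (nat_lit 5945) i)) (@Bool.rec (fun _ => ℕ) rb5946 rb5947 (Nat.ble (nat_lit 5947) i)) (Nat.ble (nat_lit 5946) i)) (@Bool.rec (fun _ => ℕ) (@Bool.rec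 (fun _ => ℕ) rb5948 rb5949 (Nat.ble (nat_lit 5949) i)) (@Bool.rec (fun _ => ℕ) rb5950 rb5951 (Nat.ble (nat_lit 5951) i)) (Nat.ble (nat_lit 5950) i)) (Nat.ble (nat_lit 5948) i)) (Nat.ble (nat_lit 5944) i)) (Nat.ble (nat_lit 5936) i))

def rowBlk_n0_186 (i : ℕ) : ℕ := (@Bool.rec (fun _ => ℕ) (@Bool.rec (fun _ => ℕ) (@Bool.rec (fun _ => ℕ) (@Bool.rec (fun _ => ℕ) (@Bool.rec (fun _ => ℕ) rb5952 rb5953 (Nat.ble (nat_lit 5953) i)) (@Bool.rec (fun _ => ℕ) rb5954 rb5955 (Nat.ble (nat_lit 5955) i)) (Nat.ble (nat_lit 5954) i)) (@Bool.rec (fun _ => ℕ) (@Bool.rec (fun _ => ℕ) rb5956 rb5957 (Nat.ble (nat_lit 5957) i)) (@Bool.rec (fun _ => ℕ) rb5958 rb5959 (Nat.ble (nat_lit 5959) i)) (Nat.ble (nat_lit 5958) i)) (Nat.ble (nat_lit 5956) i)) (@Bool.rec (fun _ => ℕ) (@Bool.rec (fun _ => ℕ) (@Bool.rec (fun _ => ℕ) rb5960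 rb5961 (Nat.ble (nat_lit 5961) i)) (@Bool.rec (fun _ => ℕ) rb5962 rb5963 (Nat.ble (nat_lit 5963) i)) (Nat.ble (nat_lit 5962) i)) (@Bool.rec (fun _ => ℕ) (@Bool.rec (fun _ => ℕ) rb5964 rb5965 (Nat.ble (nat_lit 5965) i)) (@Bool.rec (fun _ => ℕ) rb5966 rb5967 (Nat.ble (nat_lit 5967) i)) (Nat.ble (nat_lit 5966) i)) (Nat.ble (nat_lit 5964) i)) (Nat.ble (nat_lit 5960) i)) (@Bool.rec (fun _ => ℕ) (@Bool.rec (fun _ => ℕ) (@Bool.rec (fun _ => ℕ) (@Bool.rec (fun _ => ℕ) rb5968 rb5969 (Nat.ble (nat_lit 5969) i)) (@Bool.rec (fun _ => ℕ) rb5970 rb5971 (Nat.ble (nat_lit 5971) i)) (Nat.ble (nat_lit 5970) i)) (@Bool.rec (fun _ => ℕ) (@Bool.rec (fun _ => ℕ) rb5972 rb5973 (Nat.ble (nat_lit 5973) i)) (@Bool.rec (fun _ => ℕ) rb5974 rb5975 (Nat.ble (nat_lit 5975) i)) (Nat.ble (nat_lit 5974) i)) (Nat.ble (nat_lit 5972) i))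 (@Bool.rec (fun _ => ℕ) (@Bool.rec (fun _ => ℕ) (@Bool.rec (fun _ => ℕ) rb5976 rb5977 (Nat.ble (nat_lit 5977) i)) (@Bool.rec (fun _ => ℕ) rb5978 rb5979 (Nat.ble (nat_lit 5979) i)) (Nat.ble (nat_lit 5978) i)) (@Bool.rec (fun _ => ℕ) (@Bool.rec (fun _ => ℕ) rb5980 rb5981 (Nat.ble (nat_lit 5981) i)) (@Bool.rec (fun _ => ℕ) rb5982 rb5983 (Nat.ble (nat_lit 5983) i)) (Nat.ble (nat_lit 5982) i)) (Nat.ble (nat_lit 5980) i)) (Nat.ble (nat_lit 5976) i)) (Nat.ble (nat_lit 5968) i))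

def rowBlk_n0_187 (i : ℕ) : ℕ := (@Bool.rec (fun _ => ℕ) (@Bool.rec (fun _ => ℕ) (@Bool.rec (fun _ => ℕ) (@Bool.rec (fun _ => ℕ) (@Bool.rec (fun _ => ℕ) rb5984 rb5985 (Nat.ble (nat_lit 5985) i)) (@Bool.rec (fun _ => ℕ) rb5986 rb5987 (Nat.ble (nat_lit 5987) i)) (Nat.ble (nat_lit 5986) i)) (@Bool.rec (fun _ => ℕ) (@Bool.rec (fun _ => ℕ) rb5988 rb5989 (Nat.ble (nat_lit 5989) i)) (@Bool.rec (fun _ => ℕ) rb5990 rb5991 (Nat.ble (nat_lit 5991) i)) (Nat.ble (nat_lit 5990) i)) (Nat.ble (nat_lit 5988) i)) (@Bool.rec (fun _ => ℕ) (@Bool.rec (fun _ => ℕ) (@Bool.rec (fun _ => ℕ) rb5992 rb5993 (Nat.ble (nat_lit 5993) i)) (@Bool.rec (fun _ => ℕ) rb5994 rb5995 (Nat.ble (nat_lit 5995) i)) (Nat.ble (nat_lit 5994) i)) (@Bool.rec (fun _ => ℕ) (@Bool.rec (fun _ => ℕ) rb5996 rb5997 (Nat.ble (nat_lit 5997) i)) (@Bool.rec (fun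 _ => ℕ) rb5998 rb5999 (Nat.ble (nat_lit 5999) i)) (Nat.ble (nat_lit 5998) i)) (Nat.ble (nat_lit 5996) i)) (Nat.ble (nat_lit 5992) i)) (@Bool.rec (fun _ => ℕ) (@Bool.rec (fun _ => ℕ) (@Bool.rec (fun _ => ℕ) (@Bool.rec (fun _ => ℕ) rb6000 rb6001 (Nat.ble (nat_lit 6001) i)) (@Bool.rec (fun _ => ℕ) rb6002 rb6003 (Nat.ble (nat_lit 6003) i)) (Nat.ble (nat_lit 6002) i)) (@Bool.rec (fun _ => ℕ) (@Bool.rec (fun _ => ℕ) rb6004 rb6005 (Nat.ble (nat_lit 6005) i)) (@Bool.rec (fun _ => ℕ) rb6006 rb6007 (Nat.ble (nat_lit 6007) i)) (Nat.ble (nat_lit 6006) i)) (Nat.ble (nat_lit 6004) i)) (@Bool.rec (fun _ => ℕ) (@Bool.rec (fun _ => ℕ) (@Bool.rec (fun _ => ℕ) rb6008 rb6009 (Nat.ble (nat_lit 6009) i)) (@Bool.rec (fun _ => ℕ) rb6010 rb6011 (Nat.ble (nat_lit 6011) i)) (Nat.ble (nat_lit 6010) i)) (@Bool.rec (fun _ => ℕ) (@Bool.rec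 (fun _ => ℕ) rb6012 rb6013 (Nat.ble (nat_lit 6013) i)) (@Bool.rec (fun _ => ℕ) rb6014 rb6015 (Nat.ble (nat_lit 6015) i)) (Nat.ble (nat_lit 6014) i)) (Nat.ble (nat_lit 6012) i)) (Nat.ble (nat_lit 6008) i)) (Nat.ble (nat_lit 6000) i))

def rowBlk_n0_188 (i : ℕ) : ℕ := (@Bool.rec (fun _ => ℕ) (@Bool.rec (fun _ => ℕ) (@Bool.rec (fun _ => ℕ) (@Bool.rec (fun _ => ℕ) (@Bool.rec (fun _ => ℕ) rb6016 rb6017 (Nat.ble (nat_lit 6017) i)) (@Bool.rec (fun _ => ℕ) rb6018 rb6019 (Nat.ble (nat_lit 6019) i)) (Nat.ble (nat_lit 6018) i)) (@Bool.rec (fun _ => ℕ) (@Bool.rec (fun _ => ℕ) rb6020 rb6021 (Nat.ble (nat_lit 6021) i)) (@Bool.rec (fun _ => ℕ) rb6022 rb6023 (Nat.ble (nat_lit 6023) i)) (Nat.ble (nat_lit 6022) i)) (Nat.ble (nat_lit 6020) i)) (@Bool.rec (fun _ => ℕ) (@Bool.rec (fun _ => ℕ) (@Bool.rec (fun _ => ℕ) rb6024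 rb6025 (Nat.ble (nat_lit 6025) i)) (@Bool.rec (fun _ => ℕ) rb6026 rb6027 (Nat.ble (nat_lit 6027) i)) (Nat.ble (nat_lit 6026) i)) (@Bool.rec (fun _ => ℕ) (@Bool.rec (fun _ => ℕ) rb6028 rb6029 (Nat.ble (nat_lit 6029) i)) (@Bool.rec (fun _ => ℕ) rb6030 rb6031 (Nat.ble (nat_lit 6031) i)) (Nat.ble (nat_lit 6030) i)) (Nat.ble (nat_lit 6028) i)) (Nat.ble (nat_lit 6024) i)) (@Bool.rec (fun _ => ℕ) (@Bool.rec (fun _ => ℕ) (@Bool.rec (fun _ => ℕ) (@Bool.rec (fun _ => ℕ) rb6032 rb6033 (Nat.ble (nat_lit 6033) i)) (@Bool.rec (fun _ => ℕ) rb6034 rb6035 (Nat.ble (nat_lit 6035) i)) (Nat.ble (nat_lit 6034) i)) (@Bool.rec (fun _ => ℕ) (@Bool.rec (fun _ => ℕ) rb6036 rb6037 (Nat.ble (nat_lit 6037) i)) (@Bool.rec (fun _ => ℕ) rb6038 rb6039 (Nat.ble (nat_lit 6039) i)) (Nat.ble (nat_lit 6038) i)) (Nat.ble (nat_lit 6036) i))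 (@Bool.rec (fun _ => ℕ) (@Bool.rec (fun _ => ℕ) (@Bool.rec (fun _ => ℕ) rb6040 rb6041 (Nat.ble (nat_lit 6041) i)) (@Bool.rec (fun _ => ℕ) rb6042 rb6043 (Nat.ble (nat_lit 6043) i)) (Nat.ble (nat_lit 6042) i)) (@Bool.rec (fun _ => ℕ) (@Bool.rec (fun _ => ℕ) rb6044 rb6045 (Nat.ble (nat_lit 6045) i)) (@Bool.rec (fun _ => ℕ) rb6046 rb6047 (Nat.ble (nat_lit 6047) i)) (Nat.ble (nat_lit 6046) i)) (Nat.ble (nat_lit 6044) i)) (Nat.ble (nat_lit 6040) i)) (Nat.ble (nat_lit 6032) i))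

def rowBlk_n0_189 (i : ℕ) : ℕ := (@Bool.rec (fun _ => ℕ) (@Bool.rec (fun _ => ℕ) (@Bool.rec (fun _ => ℕ) (@Bool.rec (fun _ => ℕ) (@Bool.rec (fun _ => ℕ) rb6048 rb6049 (Nat.ble (nat_lit 6049) i)) (@Bool.rec (fun _ => ℕ) rb6050 rb6051 (Nat.ble (nat_lit 6051) i)) (Nat.ble (nat_lit 6050) i)) (@Bool.rec (fun _ => ℕ) (@Bool.rec (fun _ => ℕ) rb6052 rb6053 (Nat.ble (nat_lit 6053) i)) (@Bool.rec (fun _ => ℕ) rb6054 rb6055 (Nat.ble (nat_lit 6055) i)) (Nat.ble (nat_lit 6054) i)) (Nat.ble (nat_lit 6052) i)) (@Bool.rec (fun _ => ℕ) (@Bool.rec (fun _ => ℕ) (@Bool.rec (fun _ => ℕ) rb6056 rb6057 (Nat.ble (nat_lit 6057) i)) (@Bool.rec (fun _ => ℕ) rb6058 rb6059 (Nat.ble (nat_lit 6059) i)) (Nat.ble (nat_lit 6058) i)) (@Bool.rec (fun _ => ℕ) (@Bool.rec (fun _ => ℕ) rb6060 rb6061 (Nat.ble (nat_lit 6061) i)) (@Bool.rec (fun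 _ => ℕ) rb6062 rb6063 (Nat.ble (nat_lit 6063) i)) (Nat.ble (nat_lit 6062) i)) (Nat.ble (nat_lit 6060) i)) (Nat.ble (nat_lit 6056) i)) (@Bool.rec (fun _ => ℕ) (@Bool.rec (fun _ => ℕ) (@Bool.rec (fun _ => ℕ) (@Bool.rec (fun _ => ℕ) rb6064 rb6065 (Nat.ble (nat_lit 6065) i)) (@Bool.rec (fun _ => ℕ) rb6066 rb6067 (Nat.ble (nat_lit 6067) i)) (Nat.ble (nat_lit 6066) i)) (@Bool.rec (fun _ => ℕ) (@Bool.rec (fun _ => ℕ) rb6068 rb6069 (Nat.ble (nat_lit 6069) i)) (@Bool.rec (fun _ => ℕ) rb6070 rb6071 (Nat.ble (nat_lit 6071) i)) (Nat.ble (nat_lit 6070) i)) (Nat.ble (nat_lit 6068) i)) (@Bool.rec (fun _ => ℕ) (@Bool.rec (fun _ => ℕ) (@Bool.rec (fun _ => ℕ) rb6072 rb6073 (Nat.ble (nat_lit 6073) i)) (@Bool.rec (fun _ => ℕ) rb6074 rb6075 (Nat.ble (nat_lit 6075) i)) (Nat.ble (nat_lit 6074) i)) (@Bool.rec (fun _ => ℕ) (@Bool.rec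 (fun _ => ℕ) rb6076 rb6077 (Nat.ble (nat_lit 6077) i)) (@Bool.rec (fun _ => ℕ) rb6078 rb6079 (Nat.ble (nat_lit 6079) i)) (Nat.ble (nat_lit 6078) i)) (Nat.ble (nat_lit 6076) i)) (Nat.ble (nat_lit 6072) i)) (Nat.ble (nat_lit 6064) i))

def rowBlk_n0_190 (i : ℕ) : ℕ := (@Bool.rec (fun _ => ℕ) (@Bool.rec (fun _ => ℕ) (@Bool.rec (fun _ => ℕ) (@Bool.rec (fun _ => ℕ) (@Bool.rec (fun _ => ℕ) rb6080 rb6081 (Nat.ble (nat_lit 6081) i)) (@Bool.rec (fun _ => ℕ) rb6082 rb6083 (Nat.ble (nat_lit 6083) i)) (Nat.ble (nat_lit 6082) i)) (@Bool.rec (fun _ => ℕ) (@Bool.rec (fun _ => ℕ) rb6084 rb6085 (Nat.ble (nat_lit 6085) i)) (@Bool.rec (fun _ => ℕ) rb6086 rb6087 (Nat.ble (nat_lit 6087) i)) (Nat.ble (nat_lit 6086) i)) (Nat.ble (nat_lit 6084) i)) (@Bool.rec (fun _ => ℕ) (@Bool.rec (fun _ => ℕ) (@Bool.rec (fun _ => ℕ) rb6088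 rb6089 (Nat.ble (nat_lit 6089) i)) (@Bool.rec (fun _ => ℕ) rb6090 rb6091 (Nat.ble (nat_lit 6091) i)) (Nat.ble (nat_lit 6090) i)) (@Bool.rec (fun _ => ℕ) (@Bool.rec (fun _ => ℕ) rb6092 rb6093 (Nat.ble (nat_lit 6093) i)) (@Bool.rec (fun _ => ℕ) rb6094 rb6095 (Nat.ble (nat_lit 6095) i)) (Nat.ble (nat_lit 6094) i)) (Nat.ble (nat_lit 6092) i)) (Nat.ble (nat_lit 6088) i)) (@Bool.rec (fun _ => ℕ) (@Bool.rec (fun _ => ℕ) (@Bool.rec (fun _ => ℕ) (@Bool.rec (fun _ => ℕ) rb6096 rb6097 (Nat.ble (nat_lit 6097) i)) (@Bool.rec (fun _ => ℕ) rb6098 rb6099 (Nat.ble (nat_lit 6099) i)) (Nat.ble (nat_lit 6098) i)) (@Bool.rec (fun _ => ℕ) (@Bool.rec (fun _ => ℕ) rb6100 rb6101 (Nat.ble (nat_lit 6101) i)) (@Bool.rec (fun _ => ℕ) rb6102 rb6103 (Nat.ble (nat_lit 6103) i)) (Nat.ble (nat_lit 6102) i)) (Nat.ble (nat_lit 6100) i))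 (@Bool.rec (fun _ => ℕ) (@Bool.rec (fun _ => ℕ) (@Bool.rec (fun _ => ℕ) rb6104 rb6105 (Nat.ble (nat_lit 6105) i)) (@Bool.rec (fun _ => ℕ) rb6106 rb6107 (Nat.ble (nat_lit 6107) i)) (Nat.ble (nat_lit 6106) i)) (@Bool.rec (fun _ => ℕ) (@Bool.rec (fun _ => ℕ) rb6108 rb6109 (Nat.ble (nat_lit 6109) i)) (@Bool.rec (fun _ => ℕ) rb6110 rb6111 (Nat.ble (nat_lit 6111) i)) (Nat.ble (nat_lit 6110) i)) (Nat.ble (nat_lit 6108) i)) (Nat.ble (nat_lit 6104) i)) (Nat.ble (nat_lit 6096) i))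

def rowBlk_n0_191 (i : ℕ) : ℕ := (@Bool.rec (fun _ => ℕ) (@Bool.rec (fun _ => ℕ) (@Bool.rec (fun _ => ℕ) (@Bool.rec (fun _ => ℕ) (@Bool.rec (fun _ => ℕ) rb6112 rb6113 (Nat.ble (nat_lit 6113) i)) (@Bool.rec (fun _ => ℕ) rb6114 rb6115 (Nat.ble (nat_lit 6115) i)) (Nat.ble (nat_lit 6114) i)) (@Bool.rec (fun _ => ℕ) (@Bool.rec (fun _ => ℕ) rb6116 rb6117 (Nat.ble (nat_lit 6117) i)) (@Bool.rec (fun _ => ℕ) rb6118 rb6119 (Nat.ble (nat_lit 6119) i)) (Nat.ble (nat_lit 6118) i)) (Nat.ble (nat_lit 6116) i)) (@Bool.rec (fun _ => ℕ) (@Bool.rec (fun _ => ℕ) (@Bool.rec (fun _ => ℕ) rb6120 rb6121 (Nat.ble (nat_lit 6121) i)) (@Bool.rec (fun _ => ℕ) rb6122 rb6123 (Nat.ble (nat_lit 6123) i)) (Nat.ble (nat_lit 6122) i)) (@Bool.rec (fun _ => ℕ) (@Bool.rec (fun _ => ℕ) rb6124 rb6125 (Nat.ble (nat_lit 6125) i)) (@Bool.rec (fun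 _ => ℕ) rb6126 rb6127 (Nat.ble (nat_lit 6127) i)) (Nat.ble (nat_lit 6126) i)) (Nat.ble (nat_lit 6124) i)) (Nat.ble (nat_lit 6120) i)) (@Bool.rec (fun _ => ℕ) (@Bool.rec (fun _ => ℕ) (@Bool.rec (fun _ => ℕ) (@Bool.rec (fun _ => ℕ) rb6128 rb6129 (Nat.ble (nat_lit 6129) i)) (@Bool.rec (fun _ => ℕ) rb6130 rb6131 (Nat.ble (nat_lit 6131) i)) (Nat.ble (nat_lit 6130) i)) (@Bool.rec (fun _ => ℕ) (@Bool.rec (fun _ => ℕ) rb6132 rb6133 (Nat.ble (nat_lit 6133) i)) (@Bool.rec (fun _ => ℕ) rb6134 rb6135 (Nat.ble (nat_lit 6135) i)) (Nat.ble (nat_lit 6134) i)) (Nat.ble (nat_lit 6132) i)) (@Bool.rec (fun _ => ℕ) (@Bool.rec (fun _ => ℕ) (@Bool.rec (fun _ => ℕ) rb6136 rb6137 (Nat.ble (nat_lit 6137) i)) (@Bool.rec (fun _ => ℕ) rb6138 rb6139 (Nat.ble (nat_lit 6139) i)) (Nat.ble (nat_lit 6138) i)) (@Bool.rec (fun _ => ℕ) (@Bool.rec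 (fun _ => ℕ) rb6140 rb6141 (Nat.ble (nat_lit 6141) i)) (@Bool.rec (fun _ => ℕ) rb6142 rb6143 (Nat.ble (nat_lit 6143) i)) (Nat.ble (nat_lit 6142) i)) (Nat.ble (nat_lit 6140) i)) (Nat.ble (nat_lit 6136) i)) (Nat.ble (nat_lit 6128) i))

def rowBlk_n0_192 (i : ℕ) : ℕ := (@Bool.rec (fun _ => ℕ) (@Bool.rec (fun _ => ℕ) (@Bool.rec (fun _ => ℕ) (@Bool.rec (fun _ => ℕ) (@Bool.rec (fun _ => ℕ) rb6144 rb6145 (Nat.ble (nat_lit 6145) i)) (@Bool.rec (fun _ => ℕ) rb6146 rb6147 (Nat.ble (nat_lit 6147) i)) (Nat.ble (nat_lit 6146) i)) (@Bool.rec (fun _ => ℕ) (@Bool.rec (fun _ => ℕ) rb6148 rb6149 (Nat.ble (nat_lit 6149) i)) (@Bool.rec (fun _ => ℕ) rb6150 rb6151 (Nat.ble (nat_lit 6151) i)) (Nat.ble (nat_lit 6150) i)) (Nat.ble (nat_lit 6148) i)) (@Bool.rec (fun _ => ℕ) (@Bool.rec (fun _ => ℕ) (@Bool.rec (fun _ => ℕ) rb6152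 rb6153 (Nat.ble (nat_lit 6153) i)) (@Bool.rec (fun _ => ℕ) rb6154 rb6155 (Nat.ble (nat_lit 6155) i)) (Nat.ble (nat_lit 6154) i)) (@Bool.rec (fun _ => ℕ) (@Bool.rec (fun _ => ℕ) rb6156 rb6157 (Nat.ble (nat_lit 6157) i)) (@Bool.rec (fun _ => ℕ) rb6158 rb6159 (Nat.ble (nat_lit 6159) i)) (Nat.ble (nat_lit 6158) i)) (Nat.ble (nat_lit 6156) i)) (Nat.ble (nat_lit 6152) i)) (@Bool.rec (fun _ => ℕ) (@Bool.rec (fun _ => ℕ) (@Bool.rec (fun _ => ℕ) (@Bool.rec (fun _ => ℕ) rb6160 rb6161 (Nat.ble (nat_lit 6161) i)) (@Bool.rec (fun _ => ℕ) rb6162 rb6163 (Nat.ble (nat_lit 6163) i)) (Nat.ble (nat_lit 6162) i)) (@Bool.rec (fun _ => ℕ) (@Bool.rec (fun _ => ℕ) rb6164 rb6165 (Nat.ble (nat_lit 6165) i)) (@Bool.rec (fun _ => ℕ) rb6166 rb6167 (Nat.ble (nat_lit 6167) i)) (Nat.ble (nat_lit 6166) i)) (Nat.ble (nat_lit 6164) i))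 (@Bool.rec (fun _ => ℕ) (@Bool.rec (fun _ => ℕ) (@Bool.rec (fun _ => ℕ) rb6168 rb6169 (Nat.ble (nat_lit 6169) i)) (@Bool.rec (fun _ => ℕ) rb6170 rb6171 (Nat.ble (nat_lit 6171) i)) (Nat.ble (nat_lit 6170) i)) (@Bool.rec (fun _ => ℕ) (@Bool.rec (fun _ => ℕ) rb6172 rb6173 (Nat.ble (nat_lit 6173) i)) (@Bool.rec (fun _ => ℕ) rb6174 rb6175 (Nat.ble (nat_lit 6175) i)) (Nat.ble (nat_lit 6174) i)) (Nat.ble (nat_lit 6172) i)) (Nat.ble (nat_lit 6168) i)) (Nat.ble (nat_lit 6160) i))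

def rowBlk_n0_193 (i : ℕ) : ℕ := (@Bool.rec (fun _ => ℕ) (@Bool.rec (fun _ => ℕ) (@Bool.rec (fun _ => ℕ) (@Bool.rec (fun _ => ℕ) (@Bool.rec (fun _ => ℕ) rb6176 rb6177 (Nat.ble (nat_lit 6177) i)) (@Bool.rec (fun _ => ℕ) rb6178 rb6179 (Nat.ble (nat_lit 6179) i)) (Nat.ble (nat_lit 6178) i)) (@Bool.rec (fun _ => ℕ) (@Bool.rec (fun _ => ℕ) rb6180 rb6181 (Nat.ble (nat_lit 6181) i)) (@Bool.rec (fun _ => ℕ) rb6182 rb6183 (Nat.ble (nat_lit 6183) i)) (Nat.ble (nat_lit 6182) i)) (Nat.ble (nat_lit 6180) i)) (@Bool.rec (fun _ => ℕ) (@Bool.rec (fun _ => ℕ) (@Bool.rec (fun _ => ℕ) rb6184 rb6185 (Nat.ble (nat_lit 6185) i)) (@Bool.rec (fun _ => ℕ) rb6186 rb6187 (Nat.ble (nat_lit 6187) i)) (Nat.ble (nat_lit 6186) i)) (@Bool.rec (fun _ => ℕ) (@Bool.rec (fun _ => ℕ) rb6188 rb6189 (Nat.ble (nat_lit 6189) i)) (@Bool.rec (fun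 _ => ℕ) rb6190 rb6191 (Nat.ble (nat_lit 6191) i)) (Nat.ble (nat_lit 6190) i)) (Nat.ble (nat_lit 6188) i)) (Nat.ble (nat_lit 6184) i)) (@Bool.rec (fun _ => ℕ) (@Bool.rec (fun _ => ℕ) (@Bool.rec (fun _ => ℕ) (@Bool.rec (fun _ => ℕ) rb6192 rb6193 (Nat.ble (nat_lit 6193) i)) (@Bool.rec (fun _ => ℕ) rb6194 rb6195 (Nat.ble (nat_lit 6195) i)) (Nat.ble (nat_lit 6194) i)) (@Bool.rec (fun _ => ℕ) (@Bool.rec (fun _ => ℕ) rb6196 rb6197 (Nat.ble (nat_lit 6197) i)) (@Bool.rec (fun _ => ℕ) rb6198 rb6199 (Nat.ble (nat_lit 6199) i)) (Nat.ble (nat_lit 6198) i)) (Nat.ble (nat_lit 6196) i)) (@Bool.rec (fun _ => ℕ) (@Bool.rec (fun _ => ℕ) (@Bool.rec (fun _ => ℕ) rb6200 rb6201 (Nat.ble (nat_lit 6201) i)) (@Bool.rec (fun _ => ℕ) rb6202 rb6203 (Nat.ble (nat_lit 6203) i)) (Nat.ble (nat_lit 6202) i)) (@Bool.rec (fun _ => ℕ) (@Bool.rec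 (fun _ => ℕ) rb6204 rb6205 (Nat.ble (nat_lit 6205) i)) (@Bool.rec (fun _ => ℕ) rb6206 rb6207 (Nat.ble (nat_lit 6207) i)) (Nat.ble (nat_lit 6206) i)) (Nat.ble (nat_lit 6204) i)) (Nat.ble (nat_lit 6200) i)) (Nat.ble (nat_lit 6192) i))

def rowBlk_n0_194 (i : ℕ) : ℕ := (@Bool.rec (fun _ => ℕ) (@Bool.rec (fun _ => ℕ) (@Bool.rec (fun _ => ℕ) (@Bool.rec (fun _ => ℕ) (@Bool.rec (fun _ => ℕ) rb6208 rb6209 (Nat.ble (nat_lit 6209) i)) (@Bool.rec (fun _ => ℕ) rb6210 rb6211 (Nat.ble (nat_lit 6211) i)) (Nat.ble (nat_lit 6210) i)) (@Bool.rec (fun _ => ℕ) (@Bool.rec (fun _ => ℕ) rb6212 rb6213 (Nat.ble (nat_lit 6213) i)) (@Bool.rec (fun _ => ℕ) rb6214 rb6215 (Nat.ble (nat_lit 6215) i)) (Nat.ble (nat_lit 6214) i)) (Nat.ble (nat_lit 6212) i)) (@Bool.rec (fun _ => ℕ) (@Bool.rec (fun _ => ℕ) (@Bool.rec (fun _ => ℕ) rb6216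 rb6217 (Nat.ble (nat_lit 6217) i)) (@Bool.rec (fun _ => ℕ) rb6218 rb6219 (Nat.ble (nat_lit 6219) i)) (Nat.ble (nat_lit 6218) i)) (@Bool.rec (fun _ => ℕ) (@Bool.rec (fun _ => ℕ) rb6220 rb6221 (Nat.ble (nat_lit 6221) i)) (@Bool.rec (fun _ => ℕ) rb6222 rb6223 (Nat.ble (nat_lit 6223) i)) (Nat.ble (nat_lit 6222) i)) (Nat.ble (nat_lit 6220) i)) (Nat.ble (nat_lit 6216) i)) (@Bool.rec (fun _ => ℕ) (@Bool.rec (fun _ => ℕ) (@Bool.rec (fun _ => ℕ) (@Bool.rec (fun _ => ℕ) rb6224 rb6225 (Nat.ble (nat_lit 6225) i)) (@Bool.rec (fun _ => ℕ) rb6226 rb6227 (Nat.ble (nat_lit 6227) i)) (Nat.ble (nat_lit 6226) i)) (@Bool.rec (fun _ => ℕ) (@Bool.rec (fun _ => ℕ) rb6228 rb6229 (Nat.ble (nat_lit 6229) i)) (@Bool.rec (fun _ => ℕ) rb6230 rb6231 (Nat.ble (nat_lit 6231) i)) (Nat.ble (nat_lit 6230) i)) (Nat.ble (nat_lit 6228) i))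 (@Bool.rec (fun _ => ℕ) (@Bool.rec (fun _ => ℕ) (@Bool.rec (fun _ => ℕ) rb6232 rb6233 (Nat.ble (nat_lit 6233) i)) (@Bool.rec (fun _ => ℕ) rb6234 rb6235 (Nat.ble (nat_lit 6235) i)) (Nat.ble (nat_lit 6234) i)) (@Bool.rec (fun _ => ℕ) (@Bool.rec (fun _ => ℕ) rb6236 rb6237 (Nat.ble (nat_lit 6237) i)) (@Bool.rec (fun _ => ℕ) rb6238 rb6239 (Nat.ble (nat_lit 6239) i)) (Nat.ble (nat_lit 6238) i)) (Nat.ble (nat_lit 6236) i)) (Nat.ble (nat_lit 6232) i)) (Nat.ble (nat_lit 6224) i))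

def rowBlk_n0_195 (i : ℕ) : ℕ := (@Bool.rec (fun _ => ℕ) (@Bool.rec (fun _ => ℕ) (@Bool.rec (fun _ => ℕ) (@Bool.rec (fun _ => ℕ) (@Bool.rec (fun _ => ℕ) rb6240 rb6241 (Nat.ble (nat_lit 6241) i)) (@Bool.rec (fun _ => ℕ) rb6242 rb6243 (Nat.ble (nat_lit 6243) i)) (Nat.ble (nat_lit 6242) i)) (@Bool.rec (fun _ => ℕ) (@Bool.rec (fun _ => ℕ) rb6244 rb6245 (Nat.ble (nat_lit 6245) i)) (@Bool.rec (fun _ => ℕ) rb6246 rb6247 (Nat.ble (nat_lit 6247) i)) (Nat.ble (nat_lit 6246) i)) (Nat.ble (nat_lit 6244) i)) (@Bool.rec (fun _ => ℕ) (@Bool.rec (fun _ => ℕ) (@Bool.rec (fun _ => ℕ) rb6248 rb6249 (Nat.ble (nat_lit 6249) i)) (@Bool.rec (fun _ => ℕ) rb6250 rb6251 (Nat.ble (nat_lit 6251) i)) (Nat.ble (nat_lit 6250) i)) (@Bool.rec (fun _ => ℕ) (@Bool.rec (fun _ => ℕ) rb6252 rb6253 (Nat.ble (nat_lit 6253) i)) (@Bool.rec (fun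 _ => ℕ) rb6254 rb6255 (Nat.ble (nat_lit 6255) i)) (Nat.ble (nat_lit 6254) i)) (Nat.ble (nat_lit 6252) i)) (Nat.ble (nat_lit 6248) i)) (@Bool.rec (fun _ => ℕ) (@Bool.rec (fun _ => ℕ) (@Bool.rec (fun _ => ℕ) (@Bool.rec (fun _ => ℕ) rb6256 rb6257 (Nat.ble (nat_lit 6257) i)) (@Bool.rec (fun _ => ℕ) rb6258 rb6259 (Nat.ble (nat_lit 6259) i)) (Nat.ble (nat_lit 6258) i)) (@Bool.rec (fun _ => ℕ) (@Bool.rec (fun _ => ℕ) rb6260 rb6261 (Nat.ble (nat_lit 6261) i)) (@Bool.rec (fun _ => ℕ) rb6262 rb6263 (Nat.ble (nat_lit 6263) i)) (Nat.ble (nat_lit 6262) i)) (Nat.ble (nat_lit 6260) i)) (@Bool.rec (fun _ => ℕ) (@Bool.rec (fun _ => ℕ) (@Bool.rec (fun _ => ℕ) rb6264 rb6265 (Nat.ble (nat_lit 6265) i)) (@Bool.rec (fun _ => ℕ) rb6266 rb6267 (Nat.ble (nat_lit 6267) i)) (Nat.ble (nat_lit 6266) i)) (@Bool.rec (fun _ => ℕ) (@Bool.rec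 (fun _ => ℕ) rb6268 rb6269 (Nat.ble (nat_lit 6269) i)) (@Bool.rec (fun _ => ℕ) rb6270 rb6271 (Nat.ble (nat_lit 6271) i)) (Nat.ble (nat_lit 6270) i)) (Nat.ble (nat_lit 6268) i)) (Nat.ble (nat_lit 6264) i)) (Nat.ble (nat_lit 6256) i))

def rowBlk_n0_196 (i : ℕ) : ℕ := (@Bool.rec (fun _ => ℕ) (@Bool.rec (fun _ => ℕ) (@Bool.rec (fun _ => ℕ) (@Bool.rec (fun _ => ℕ) (@Bool.rec (fun _ => ℕ) rb6272 rb6273 (Nat.ble (nat_lit 6273) i)) (@Bool.rec (fun _ => ℕ) rb6274 rb6275 (Nat.ble (nat_lit 6275) i)) (Nat.ble (nat_lit 6274) i)) (@Bool.rec (fun _ => ℕ) (@Bool.rec (fun _ => ℕ) rb6276 rb6277 (Nat.ble (nat_lit 6277) i)) (@Bool.rec (fun _ => ℕ) rb6278 rb6279 (Nat.ble (nat_lit 6279) i)) (Nat.ble (nat_lit 6278) i)) (Nat.ble (nat_lit 6276) i)) (@Bool.rec (fun _ => ℕ) (@Bool.rec (fun _ => ℕ) (@Bool.rec (fun _ => ℕ) rb6280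 rb6281 (Nat.ble (nat_lit 6281) i)) (@Bool.rec (fun _ => ℕ) rb6282 rb6283 (Nat.ble (nat_lit 6283) i)) (Nat.ble (nat_lit 6282) i)) (@Bool.rec (fun _ => ℕ) (@Bool.rec (fun _ => ℕ) rb6284 rb6285 (Nat.ble (nat_lit 6285) i)) (@Bool.rec (fun _ => ℕ) rb6286 rb6287 (Nat.ble (nat_lit 6287) i)) (Nat.ble (nat_lit 6286) i)) (Nat.ble (nat_lit 6284) i)) (Nat.ble (nat_lit 6280) i)) (@Bool.rec (fun _ => ℕ) (@Bool.rec (fun _ => ℕ) (@Bool.rec (fun _ => ℕ) (@Bool.rec (fun _ => ℕ) rb6288 rb6289 (Nat.ble (nat_lit 6289) i)) (@Bool.rec (fun _ => ℕ) rb6290 rb6291 (Nat.ble (nat_lit 6291) i)) (Nat.ble (nat_lit 6290) i)) (@Bool.rec (fun _ => ℕ) (@Bool.rec (fun _ => ℕ) rb6292 rb6293 (Nat.ble (nat_lit 6293) i)) (@Bool.rec (fun _ => ℕ) rb6294 rb6295 (Nat.ble (nat_lit 6295) i)) (Nat.ble (nat_lit 6294) i)) (Nat.ble (nat_lit 6292) i))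 (@Bool.rec (fun _ => ℕ) (@Bool.rec (fun _ => ℕ) (@Bool.rec (fun _ => ℕ) rb6296 rb6297 (Nat.ble (nat_lit 6297) i)) (@Bool.rec (fun _ => ℕ) rb6298 rb6299 (Nat.ble (nat_lit 6299) i)) (Nat.ble (nat_lit 6298) i)) (@Bool.rec (fun _ => ℕ) (@Bool.rec (fun _ => ℕ) rb6300 rb6301 (Nat.ble (nat_lit 6301) i)) (@Bool.rec (fun _ => ℕ) rb6302 rb6303 (Nat.ble (nat_lit 6303) i)) (Nat.ble (nat_lit 6302) i)) (Nat.ble (nat_lit 6300) i)) (Nat.ble (nat_lit 6296) i)) (Nat.ble (nat_lit 6288) i))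

def rowBlk_n0_197 (i : ℕ) : ℕ := (@Bool.rec (fun _ => ℕ) (@Bool.rec (fun _ => ℕ) (@Bool.rec (fun _ => ℕ) (@Bool.rec (fun _ => ℕ) (@Bool.rec (fun _ => ℕ) rb6304 rb6305 (Nat.ble (nat_lit 6305) i)) (@Bool.rec (fun _ => ℕ) rb6306 rb6307 (Nat.ble (nat_lit 6307) i)) (Nat.ble (nat_lit 6306) i)) (@Bool.rec (fun _ => ℕ) (@Bool.rec (fun _ => ℕ) rb6308 rb6309 (Nat.ble (nat_lit 6309) i)) (@Bool.rec (fun _ => ℕ) rb6310 rb6311 (Nat.ble (nat_lit 6311) i)) (Nat.ble (nat_lit 6310) i)) (Nat.ble (nat_lit 6308) i)) (@Bool.rec (fun _ => ℕ) (@Bool.rec (fun _ => ℕ) (@Bool.rec (fun _ => ℕ) rb6312 rb6313 (Nat.ble (nat_lit 6313) i)) (@Bool.rec (fun _ => ℕ) rb6314 rb6315 (Nat.ble (nat_lit 6315) i)) (Nat.ble (nat_lit 6314) i)) (@Bool.rec (fun _ => ℕ) (@Bool.rec (fun _ => ℕ) rb6316 rb6317 (Nat.ble (nat_lit 6317) i)) (@Bool.rec (fun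 _ => ℕ) rb6318 rb6319 (Nat.ble (nat_lit 6319) i)) (Nat.ble (nat_lit 6318) i)) (Nat.ble (nat_lit 6316) i)) (Nat.ble (nat_lit 6312) i)) (@Bool.rec (fun _ => ℕ) (@Bool.rec (fun _ => ℕ) (@Bool.rec (fun _ => ℕ) (@Bool.rec (fun _ => ℕ) rb6320 rb6321 (Nat.ble (nat_lit 6321) i)) (@Bool.rec (fun _ => ℕ) rb6322 rb6323 (Nat.ble (nat_lit 6323) i)) (Nat.ble (nat_lit 6322) i)) (@Bool.rec (fun _ => ℕ) (@Bool.rec (fun _ => ℕ) rb6324 rb6325 (Nat.ble (nat_lit 6325) i)) (@Bool.rec (fun _ => ℕ) rb6326 rb6327 (Nat.ble (nat_lit 6327) i)) (Nat.ble (nat_lit 6326) i)) (Nat.ble (nat_lit 6324) i)) (@Bool.rec (fun _ => ℕ) (@Bool.rec (fun _ => ℕ) (@Bool.rec (fun _ => ℕ) rb6328 rb6329 (Nat.ble (nat_lit 6329) i)) (@Bool.rec (fun _ => ℕ) rb6330 rb6331 (Nat.ble (nat_lit 6331) i)) (Nat.ble (nat_lit 6330) i)) (@Bool.rec (fun _ => ℕ) (@Bool.rec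 (fun _ => ℕ) rb6332 rb6333 (Nat.ble (nat_lit 6333) i)) (@Bool.rec (fun _ => ℕ) rb6334 rb6335 (Nat.ble (nat_lit 6335) i)) (Nat.ble (nat_lit 6334) i)) (Nat.ble (nat_lit 6332) i)) (Nat.ble (nat_lit 6328) i)) (Nat.ble (nat_lit 6320) i))

def rowBlk_n0_198 (i : ℕ) : ℕ := (@Bool.rec (fun _ => ℕ) (@Bool.rec (fun _ => ℕ) (@Bool.rec (fun _ => ℕ) (@Bool.rec (fun _ => ℕ) (@Bool.rec (fun _ => ℕ) rb6336 rb6337 (Nat.ble (nat_lit 6337) i)) (@Bool.rec (fun _ => ℕ) rb6338 rb6339 (Nat.ble (nat_lit 6339) i)) (Nat.ble (nat_lit 6338) i)) (@Bool.rec (fun _ => ℕ) (@Bool.rec (fun _ => ℕ) rb6340 rb6341 (Nat.ble (nat_lit 6341) i)) (@Bool.rec (fun _ => ℕ) rb6342 rb6343 (Nat.ble (nat_lit 6343) i)) (Nat.ble (nat_lit 6342) i)) (Nat.ble (nat_lit 6340) i)) (@Bool.rec (fun _ => ℕ) (@Bool.rec (fun _ => ℕ) (@Bool.rec (fun _ => ℕ) rb6344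 rb6345 (Nat.ble (nat_lit 6345) i)) (@Bool.rec (fun _ => ℕ) rb6346 rb6347 (Nat.ble (nat_lit 6347) i)) (Nat.ble (nat_lit 6346) i)) (@Bool.rec (fun _ => ℕ) (@Bool.rec (fun _ => ℕ) rb6348 rb6349 (Nat.ble (nat_lit 6349) i)) (@Bool.rec (fun _ => ℕ) rb6350 rb6351 (Nat.ble (nat_lit 6351) i)) (Nat.ble (nat_lit 6350) i)) (Nat.ble (nat_lit 6348) i)) (Nat.ble (nat_lit 6344) i)) (@Bool.rec (fun _ => ℕ) (@Bool.rec (fun _ => ℕ) (@Bool.rec (fun _ => ℕ) (@Bool.rec (fun _ => ℕ) rb6352 rb6353 (Nat.ble (nat_lit 6353) i)) (@Bool.rec (fun _ => ℕ) rb6354 rb6355 (Nat.ble (nat_lit 6355) i)) (Nat.ble (nat_lit 6354) i)) (@Bool.rec (fun _ => ℕ) (@Bool.rec (fun _ => ℕ) rb6356 rb6357 (Nat.ble (nat_lit 6357) i)) (@Bool.rec (fun _ => ℕ) rb6358 rb6359 (Nat.ble (nat_lit 6359) i)) (Nat.ble (nat_lit 6358) i)) (Nat.ble (nat_lit 6356) i))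 (@Bool.rec (fun _ => ℕ) (@Bool.rec (fun _ => ℕ) (@Bool.rec (fun _ => ℕ) rb6360 rb6361 (Nat.ble (nat_lit 6361) i)) (@Bool.rec (fun _ => ℕ) rb6362 rb6363 (Nat.ble (nat_lit 6363) i)) (Nat.ble (nat_lit 6362) i)) (@Bool.rec (fun _ => ℕ) (@Bool.rec (fun _ => ℕ) rb6364 rb6365 (Nat.ble (nat_lit 6365) i)) (@Bool.rec (fun _ => ℕ) rb6366 rb6367 (Nat.ble (nat_lit 6367) i)) (Nat.ble (nat_lit 6366) i)) (Nat.ble (nat_lit 6364) i)) (Nat.ble (nat_lit 6360) i)) (Nat.ble (nat_lit 6352) i))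

def rowBlk_n0_199 (i : ℕ) : ℕ := (@Bool.rec (fun _ => ℕ) (@Bool.rec (fun _ => ℕ) (@Bool.rec (fun _ => ℕ) (@Bool.rec (fun _ => ℕ) (@Bool.rec (fun _ => ℕ) rb6368 rb6369 (Nat.ble (nat_lit 6369) i)) (@Bool.rec (fun _ => ℕ) rb6370 rb6371 (Nat.ble (nat_lit 6371) i)) (Nat.ble (nat_lit 6370) i)) (@Bool.rec (fun _ => ℕ) (@Bool.rec (fun _ => ℕ) rb6372 rb6373 (Nat.ble (nat_lit 6373) i)) (@Bool.rec (fun _ => ℕ) rb6374 rb6375 (Nat.ble (nat_lit 6375) i)) (Nat.ble (nat_lit 6374) i)) (Nat.ble (nat_lit 6372) i)) (@Bool.rec (fun _ => ℕ) (@Bool.rec (fun _ => ℕ) (@Bool.rec (fun _ => ℕ) rb6376 rb6377 (Nat.ble (nat_lit 6377) i)) (@Bool.rec (fun _ => ℕ) rb6378 rb6379 (Nat.ble (nat_lit 6379) i)) (Nat.ble (nat_lit 6378) i)) (@Bool.rec (fun _ => ℕ) (@Bool.rec (fun _ => ℕ) rb6380 rb6381 (Nat.ble (nat_lit 6381) i)) (@Bool.rec (fun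 _ => ℕ) rb6382 rb6383 (Nat.ble (nat_lit 6383) i)) (Nat.ble (nat_lit 6382) i)) (Nat.ble (nat_lit 6380) i)) (Nat.ble (nat_lit 6376) i)) (@Bool.rec (fun _ => ℕ) (@Bool.rec (fun _ => ℕ) (@Bool.rec (fun _ => ℕ) (@Bool.rec (fun _ => ℕ) rb6384 rb6385 (Nat.ble (nat_lit 6385) i)) (@Bool.rec (fun _ => ℕ) rb6386 rb6387 (Nat.ble (nat_lit 6387) i)) (Nat.ble (nat_lit 6386) i)) (@Bool.rec (fun _ => ℕ) (@Bool.rec (fun _ => ℕ) rb6388 rb6389 (Nat.ble (nat_lit 6389) i)) (@Bool.rec (fun _ => ℕ) rb6390 rb6391 (Nat.ble (nat_lit 6391) i)) (Nat.ble (nat_lit 6390) i)) (Nat.ble (nat_lit 6388) i)) (@Bool.rec (fun _ => ℕ) (@Bool.rec (fun _ => ℕ) (@Bool.rec (fun _ => ℕ) rb6392 rb6393 (Nat.ble (nat_lit 6393) i)) (@Bool.rec (fun _ => ℕ) rb6394 rb6395 (Nat.ble (nat_lit 6395) i)) (Nat.ble (nat_lit 6394) i)) (@Bool.rec (fun _ => ℕ) (@Bool.rec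 (fun _ => ℕ) rb6396 rb6397 (Nat.ble (nat_lit 6397) i)) (@Bool.rec (fun _ => ℕ) rb6398 rb6399 (Nat.ble (nat_lit 6399) i)) (Nat.ble (nat_lit 6398) i)) (Nat.ble (nat_lit 6396) i)) (Nat.ble (nat_lit 6392) i)) (Nat.ble (nat_lit 6384) i))

def rowBlk_n0_200 (i : ℕ) : ℕ := (@Bool.rec (fun _ => ℕ) (@Bool.rec (fun _ => ℕ) (@Bool.rec (fun _ => ℕ) (@Bool.rec (fun _ => ℕ) (@Bool.rec (fun _ => ℕ) rb6400 rb6401 (Nat.ble (nat_lit 6401) i)) (@Bool.rec (fun _ => ℕ) rb6402 rb6403 (Nat.ble (nat_lit 6403) i)) (Nat.ble (nat_lit 6402) i)) (@Bool.rec (fun _ => ℕ) (@Bool.rec (fun _ => ℕ) rb6404 rb6405 (Nat.ble (nat_lit 6405) i)) (@Bool.rec (fun _ => ℕ) rb6406 rb6407 (Nat.ble (nat_lit 6407) i)) (Nat.ble (nat_lit 6406) i)) (Nat.ble (nat_lit 6404) i)) (@Bool.rec (fun _ => ℕ) (@Bool.rec (fun _ => ℕ) (@Bool.rec (fun _ => ℕ) rb6408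 rb6409 (Nat.ble (nat_lit 6409) i)) (@Bool.rec (fun _ => ℕ) rb6410 rb6411 (Nat.ble (nat_lit 6411) i)) (Nat.ble (nat_lit 6410) i)) (@Bool.rec (fun _ => ℕ) (@Bool.rec (fun _ => ℕ) rb6412 rb6413 (Nat.ble (nat_lit 6413) i)) (@Bool.rec (fun _ => ℕ) rb6414 rb6415 (Nat.ble (nat_lit 6415) i)) (Nat.ble (nat_lit 6414) i)) (Nat.ble (nat_lit 6412) i)) (Nat.ble (nat_lit 6408) i)) (@Bool.rec (fun _ => ℕ) (@Bool.rec (fun _ => ℕ) (@Bool.rec (fun _ => ℕ) (@Bool.rec (fun _ => ℕ) rb6416 rb6417 (Nat.ble (nat_lit 6417) i)) (@Bool.rec (fun _ => ℕ) rb6418 rb6419 (Nat.ble (nat_lit 6419) i)) (Nat.ble (nat_lit 6418) i)) (@Bool.rec (fun _ => ℕ) (@Bool.rec (fun _ => ℕ) rb6420 rb6421 (Nat.ble (nat_lit 6421) i)) (@Bool.rec (fun _ => ℕ) rb6422 rb6423 (Nat.ble (nat_lit 6423) i)) (Nat.ble (nat_lit 6422) i)) (Nat.ble (nat_lit 6420) i))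 (@Bool.rec (fun _ => ℕ) (@Bool.rec (fun _ => ℕ) (@Bool.rec (fun _ => ℕ) rb6424 rb6425 (Nat.ble (nat_lit 6425) i)) (@Bool.rec (fun _ => ℕ) rb6426 rb6427 (Nat.ble (nat_lit 6427) i)) (Nat.ble (nat_lit 6426) i)) (@Bool.rec (fun _ => ℕ) (@Bool.rec (fun _ => ℕ) rb6428 rb6429 (Nat.ble (nat_lit 6429) i)) (@Bool.rec (fun _ => ℕ) rb6430 rb6431 (Nat.ble (nat_lit 6431) i)) (Nat.ble (nat_lit 6430) i)) (Nat.ble (nat_lit 6428) i)) (Nat.ble (nat_lit 6424) i)) (Nat.ble (nat_lit 6416) i))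

def rowBlk_n0_201 (i : ℕ) : ℕ := (@Bool.rec (fun _ => ℕ) (@Bool.rec (fun _ => ℕ) (@Bool.rec (fun _ => ℕ) (@Bool.rec (fun _ => ℕ) (@Bool.rec (fun _ => ℕ) rb6432 rb6433 (Nat.ble (nat_lit 6433) i)) (@Bool.rec (fun _ => ℕ) rb6434 rb6435 (Nat.ble (nat_lit 6435) i)) (Nat.ble (nat_lit 6434) i)) (@Bool.rec (fun _ => ℕ) (@Bool.rec (fun _ => ℕ) rb6436 rb6437 (Nat.ble (nat_lit 6437) i)) (@Bool.rec (fun _ => ℕ) rb6438 rb6439 (Nat.ble (nat_lit 6439) i)) (Nat.ble (nat_lit 6438) i)) (Nat.ble (nat_lit 6436) i)) (@Bool.rec (fun _ => ℕ) (@Bool.rec (fun _ => ℕ) (@Bool.rec (fun _ => ℕ) rb6440 rb6441 (Nat.ble (nat_lit 6441) i)) (@Bool.rec (fun _ => ℕ) rb6442 rb6443 (Nat.ble (nat_lit 6443) i)) (Nat.ble (nat_lit 6442) i)) (@Bool.rec (fun _ => ℕ) (@Bool.rec (fun _ => ℕ) rb6444 rb6445 (Nat.ble (nat_lit 6445) i)) (@Bool.rec (fun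 _ => ℕ) rb6446 rb6447 (Nat.ble (nat_lit 6447) i)) (Nat.ble (nat_lit 6446) i)) (Nat.ble (nat_lit 6444) i)) (Nat.ble (nat_lit 6440) i)) (@Bool.rec (fun _ => ℕ) (@Bool.rec (fun _ => ℕ) (@Bool.rec (fun _ => ℕ) (@Bool.rec (fun _ => ℕ) rb6448 rb6449 (Nat.ble (nat_lit 6449) i)) (@Bool.rec (fun _ => ℕ) rb6450 rb6451 (Nat.ble (nat_lit 6451) i)) (Nat.ble (nat_lit 6450) i)) (@Bool.rec (fun _ => ℕ) (@Bool.rec (fun _ => ℕ) rb6452 rb6453 (Nat.ble (nat_lit 6453) i)) (@Bool.rec (fun _ => ℕ) rb6454 rb6455 (Nat.ble (nat_lit 6455) i)) (Nat.ble (nat_lit 6454) i)) (Nat.ble (nat_lit 6452) i)) (@Bool.rec (fun _ => ℕ) (@Bool.rec (fun _ => ℕ) (@Bool.rec (fun _ => ℕ) rb6456 rb6457 (Nat.ble (nat_lit 6457) i)) (@Bool.rec (fun _ => ℕ) rb6458 rb6459 (Nat.ble (nat_lit 6459) i)) (Nat.ble (nat_lit 6458) i)) (@Bool.rec (fun _ => ℕ) (@Bool.rec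 (fun _ => ℕ) rb6460 rb6461 (Nat.ble (nat_lit 6461) i)) (@Bool.rec (fun _ => ℕ) rb6462 rb6463 (Nat.ble (nat_lit 6463) i)) (Nat.ble (nat_lit 6462) i)) (Nat.ble (nat_lit 6460) i)) (Nat.ble (nat_lit 6456) i)) (Nat.ble (nat_lit 6448) i))

def rowBlk_n0_202 (i : ℕ) : ℕ := (@Bool.rec (fun _ => ℕ) (@Bool.rec (fun _ => ℕ) (@Bool.rec (fun _ => ℕ) (@Bool.rec (fun _ => ℕ) (@Bool.rec (fun _ => ℕ) rb6464 rb6465 (Nat.ble (nat_lit 6465) i)) (@Bool.rec (fun _ => ℕ) rb6466 rb6467 (Nat.ble (nat_lit 6467) i)) (Nat.ble (nat_lit 6466) i)) (@Bool.rec (fun _ => ℕ) (@Bool.rec (fun _ => ℕ) rb6468 rb6469 (Nat.ble (nat_lit 6469) i)) (@Bool.rec (fun _ => ℕ) rb6470 rb6471 (Nat.ble (nat_lit 6471) i)) (Nat.ble (nat_lit 6470) i)) (Nat.ble (nat_lit 6468) i)) (@Bool.rec (fun _ => ℕ) (@Bool.rec (fun _ => ℕ) (@Bool.rec (fun _ => ℕ) rb6472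 rb6473 (Nat.ble (nat_lit 6473) i)) (@Bool.rec (fun _ => ℕ) rb6474 rb6475 (Nat.ble (nat_lit 6475) i)) (Nat.ble (nat_lit 6474) i)) (@Bool.rec (fun _ => ℕ) (@Bool.rec (fun _ => ℕ) rb6476 rb6477 (Nat.ble (nat_lit 6477) i)) (@Bool.rec (fun _ => ℕ) rb6478 rb6479 (Nat.ble (nat_lit 6479) i)) (Nat.ble (nat_lit 6478) i)) (Nat.ble (nat_lit 6476) i)) (Nat.ble (nat_lit 6472) i)) (@Bool.rec (fun _ => ℕ) (@Bool.rec (fun _ => ℕ) (@Bool.rec (fun _ => ℕ) (@Bool.rec (fun _ => ℕ) rb6480 rb6481 (Nat.ble (nat_lit 6481) i)) (@Bool.rec (fun _ => ℕ) rb6482 rb6483 (Nat.ble (nat_lit 6483) i)) (Nat.ble (nat_lit 6482) i)) (@Bool.rec (fun _ => ℕ) (@Bool.rec (fun _ => ℕ) rb6484 rb6485 (Nat.ble (nat_lit 6485) i)) (@Bool.rec (fun _ => ℕ) rb6486 rb6487 (Nat.ble (nat_lit 6487) i)) (Nat.ble (nat_lit 6486) i)) (Nat.ble (nat_lit 6484) i))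 (@Bool.rec (fun _ => ℕ) (@Bool.rec (fun _ => ℕ) (@Bool.rec (fun _ => ℕ) rb6488 rb6489 (Nat.ble (nat_lit 6489) i)) (@Bool.rec (fun _ => ℕ) rb6490 rb6491 (Nat.ble (nat_lit 6491) i)) (Nat.ble (nat_lit 6490) i)) (@Bool.rec (fun _ => ℕ) (@Bool.rec (fun _ => ℕ) rb6492 rb6493 (Nat.ble (nat_lit 6493) i)) (@Bool.rec (fun _ => ℕ) rb6494 rb6495 (Nat.ble (nat_lit 6495) i)) (Nat.ble (nat_lit 6494) i)) (Nat.ble (nat_lit 6492) i)) (Nat.ble (nat_lit 6488) i)) (Nat.ble (nat_lit 6480) i))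

def rowBlk_n0_203 (i : ℕ) : ℕ := (@Bool.rec (fun _ => ℕ) (@Bool.rec (fun _ => ℕ) (@Bool.rec (fun _ => ℕ) (@Bool.rec (fun _ => ℕ) (@Bool.rec (fun _ => ℕ) rb6496 rb6497 (Nat.ble (nat_lit 6497) i)) (@Bool.rec (fun _ => ℕ) rb6498 rb6499 (Nat.ble (nat_lit 6499) i)) (Nat.ble (nat_lit 6498) i)) (@Bool.rec (fun _ => ℕ) (@Bool.rec (fun _ => ℕ) rb6500 rb6501 (Nat.ble (nat_lit 6501) i)) (@Bool.rec (fun _ => ℕ) rb6502 rb6503 (Nat.ble (nat_lit 6503) i)) (Nat.ble (nat_lit 6502) i)) (Nat.ble (nat_lit 6500) i)) (@Bool.rec (fun _ => ℕ) (@Bool.rec (fun _ => ℕ) (@Bool.rec (fun _ => ℕ) rb6504 rb6505 (Nat.ble (nat_lit 6505) i)) (@Bool.rec (fun _ => ℕ) rb6506 rb6507 (Nat.ble (nat_lit 6507) i)) (Nat.ble (nat_lit 6506) i)) (@Bool.rec (fun _ => ℕ) (@Bool.rec (fun _ => ℕ) rb6508 rb6509 (Nat.ble (nat_lit 6509) i)) (@Bool.rec (fun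 _ => ℕ) rb6510 rb6511 (Nat.ble (nat_lit 6511) i)) (Nat.ble (nat_lit 6510) i)) (Nat.ble (nat_lit 6508) i)) (Nat.ble (nat_lit 6504) i)) (@Bool.rec (fun _ => ℕ) (@Bool.rec (fun _ => ℕ) (@Bool.rec (fun _ => ℕ) (@Bool.rec (fun _ => ℕ) rb6512 rb6513 (Nat.ble (nat_lit 6513) i)) (@Bool.rec (fun _ => ℕ) rb6514 rb6515 (Nat.ble (nat_lit 6515) i)) (Nat.ble (nat_lit 6514) i)) (@Bool.rec (fun _ => ℕ) (@Bool.rec (fun _ => ℕ) rb6516 rb6517 (Nat.ble (nat_lit 6517) i)) (@Bool.rec (fun _ => ℕ) rb6518 rb6519 (Nat.ble (nat_lit 6519) i)) (Nat.ble (nat_lit 6518) i)) (Nat.ble (nat_lit 6516) i)) (@Bool.rec (fun _ => ℕ) (@Bool.rec (fun _ => ℕ) (@Bool.rec (fun _ => ℕ) rb6520 rb6521 (Nat.ble (nat_lit 6521) i)) (@Bool.rec (fun _ => ℕ) rb6522 rb6523 (Nat.ble (nat_lit 6523) i)) (Nat.ble (nat_lit 6522) i)) (@Bool.rec (fun _ => ℕ) (@Bool.rec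 (fun _ => ℕ) rb6524 rb6525 (Nat.ble (nat_lit 6525) i)) (@Bool.rec (fun _ => ℕ) rb6526 rb6527 (Nat.ble (nat_lit 6527) i)) (Nat.ble (nat_lit 6526) i)) (Nat.ble (nat_lit 6524) i)) (Nat.ble (nat_lit 6520) i)) (Nat.ble (nat_lit 6512) i))

def rowBlk_n0_204 (i : ℕ) : ℕ := (@Bool.rec (fun _ => ℕ) (@Bool.rec (fun _ => ℕ) (@Bool.rec (fun _ => ℕ) (@Bool.rec (fun _ => ℕ) (@Bool.rec (fun _ => ℕ) rb6528 rb6529 (Nat.ble (nat_lit 6529) i)) (@Bool.rec (fun _ => ℕ) rb6530 rb6531 (Nat.ble (nat_lit 6531) i)) (Nat.ble (nat_lit 6530) i)) (@Bool.rec (fun _ => ℕ) (@Bool.rec (fun _ => ℕ) rb6532 rb6533 (Nat.ble (nat_lit 6533) i)) (@Bool.rec (fun _ => ℕ) rb6534 rb6535 (Nat.ble (nat_lit 6535) i)) (Nat.ble (nat_lit 6534) i)) (Nat.ble (nat_lit 6532) i)) (@Bool.rec (fun _ => ℕ) (@Bool.rec (fun _ => ℕ) (@Bool.rec (fun _ => ℕ) rb6536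 rb6537 (Nat.ble (nat_lit 6537) i)) (@Bool.rec (fun _ => ℕ) rb6538 rb6539 (Nat.ble (nat_lit 6539) i)) (Nat.ble (nat_lit 6538) i)) (@Bool.rec (fun _ => ℕ) (@Bool.rec (fun _ => ℕ) rb6540 rb6541 (Nat.ble (nat_lit 6541) i)) (@Bool.rec (fun _ => ℕ) rb6542 rb6543 (Nat.ble (nat_lit 6543) i)) (Nat.ble (nat_lit 6542) i)) (Nat.ble (nat_lit 6540) i)) (Nat.ble (nat_lit 6536) i)) (@Bool.rec (fun _ => ℕ) (@Bool.rec (fun _ => ℕ) (@Bool.rec (fun _ => ℕ) (@Bool.rec (fun _ => ℕ) rb6544 rb6545 (Nat.ble (nat_lit 6545) i)) (@Bool.rec (fun _ => ℕ) rb6546 rb6547 (Nat.ble (nat_lit 6547) i)) (Nat.ble (nat_lit 6546) i)) (@Bool.rec (fun _ => ℕ) (@Bool.rec (fun _ => ℕ) rb6548 rb6549 (Nat.ble (nat_lit 6549) i)) (@Bool.rec (fun _ => ℕ) rb6550 rb6551 (Nat.ble (nat_lit 6551) i)) (Nat.ble (nat_lit 6550) i)) (Nat.ble (nat_lit 6548) i))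 (@Bool.rec (fun _ => ℕ) (@Bool.rec (fun _ => ℕ) (@Bool.rec (fun _ => ℕ) rb6552 rb6553 (Nat.ble (nat_lit 6553) i)) (@Bool.rec (fun _ => ℕ) rb6554 rb6555 (Nat.ble (nat_lit 6555) i)) (Nat.ble (nat_lit 6554) i)) (@Bool.rec (fun _ => ℕ) (@Bool.rec (fun _ => ℕ) rb6556 rb6557 (Nat.ble (nat_lit 6557) i)) (@Bool.rec (fun _ => ℕ) rb6558 rb6559 (Nat.ble (nat_lit 6559) i)) (Nat.ble (nat_lit 6558) i)) (Nat.ble (nat_lit 6556) i)) (Nat.ble (nat_lit 6552) i)) (Nat.ble (nat_lit 6544) i))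

def rowBlk_n0_205 (i : ℕ) : ℕ := (@Bool.rec (fun _ => ℕ) (@Bool.rec (fun _ => ℕ) (@Bool.rec (fun _ => ℕ) (@Bool.rec (fun _ => ℕ) (@Bool.rec (fun _ => ℕ) rb6560 rb6561 (Nat.ble (nat_lit 6561) i)) (@Bool.rec (fun _ => ℕ) rb6562 rb6563 (Nat.ble (nat_lit 6563) i)) (Nat.ble (nat_lit 6562) i)) (@Bool.rec (fun _ => ℕ) (@Bool.rec (fun _ => ℕ) rb6564 rb6565 (Nat.ble (nat_lit 6565) i)) (@Bool.rec (fun _ => ℕ) rb6566 rb6567 (Nat.ble (nat_lit 6567) i)) (Nat.ble (nat_lit 6566) i)) (Nat.ble (nat_lit 6564) i)) (@Bool.rec (fun _ => ℕ) (@Bool.rec (fun _ => ℕ) (@Bool.rec (fun _ => ℕ) rb6568 rb6569 (Nat.ble (nat_lit 6569) i)) (@Bool.rec (fun _ => ℕ) rb6570 rb6571 (Nat.ble (nat_lit 6571) i)) (Nat.ble (nat_lit 6570) i)) (@Bool.rec (fun _ => ℕ) (@Bool.rec (fun _ => ℕ) rb6572 rb6573 (Nat.ble (nat_lit 6573) i)) (@Bool.rec (fun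 _ => ℕ) rb6574 rb6575 (Nat.ble (nat_lit 6575) i)) (Nat.ble (nat_lit 6574) i)) (Nat.ble (nat_lit 6572) i)) (Nat.ble (nat_lit 6568) i)) (@Bool.rec (fun _ => ℕ) (@Bool.rec (fun _ => ℕ) (@Bool.rec (fun _ => ℕ) (@Bool.rec (fun _ => ℕ) rb6576 rb6577 (Nat.ble (nat_lit 6577) i)) (@Bool.rec (fun _ => ℕ) rb6578 rb6579 (Nat.ble (nat_lit 6579) i)) (Nat.ble (nat_lit 6578) i)) (@Bool.rec (fun _ => ℕ) (@Bool.rec (fun _ => ℕ) rb6580 rb6581 (Nat.ble (nat_lit 6581) i)) (@Bool.rec (fun _ => ℕ) rb6582 rb6583 (Nat.ble (nat_lit 6583) i)) (Nat.ble (nat_lit 6582) i)) (Nat.ble (nat_lit 6580) i)) (@Bool.rec (fun _ => ℕ) (@Bool.rec (fun _ => ℕ) (@Bool.rec (fun _ => ℕ) rb6584 rb6585 (Nat.ble (nat_lit 6585) i)) (@Bool.rec (fun _ => ℕ) rb6586 rb6587 (Nat.ble (nat_lit 6587) i)) (Nat.ble (nat_lit 6586) i)) (@Bool.rec (fun _ => ℕ) (@Bool.rec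 (fun _ => ℕ) rb6588 rb6589 (Nat.ble (nat_lit 6589) i)) (@Bool.rec (fun _ => ℕ) rb6590 rb6591 (Nat.ble (nat_lit 6591) i)) (Nat.ble (nat_lit 6590) i)) (Nat.ble (nat_lit 6588) i)) (Nat.ble (nat_lit 6584) i)) (Nat.ble (nat_lit 6576) i))

def rowBlk_n0_206 (i : ℕ) : ℕ := (@Bool.rec (fun _ => ℕ) (@Bool.rec (fun _ => ℕ) (@Bool.rec (fun _ => ℕ) (@Bool.rec (fun _ => ℕ) (@Bool.rec (fun _ => ℕ) rb6592 rb6593 (Nat.ble (nat_lit 6593) i)) (@Bool.rec (fun _ => ℕ) rb6594 rb6595 (Nat.ble (nat_lit 6595) i)) (Nat.ble (nat_lit 6594) i)) (@Bool.rec (fun _ => ℕ) (@Bool.rec (fun _ => ℕ) rb6596 rb6597 (Nat.ble (nat_lit 6597) i)) (@Bool.rec (fun _ => ℕ) rb6598 rb6599 (Nat.ble (nat_lit 6599) i)) (Nat.ble (nat_lit 6598) i)) (Nat.ble (nat_lit 6596) i)) (@Bool.rec (fun _ => ℕ) (@Bool.rec (fun _ => ℕ) (@Bool.rec (fun _ => ℕ) rb6600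 rb6601 (Nat.ble (nat_lit 6601) i)) (@Bool.rec (fun _ => ℕ) rb6602 rb6603 (Nat.ble (nat_lit 6603) i)) (Nat.ble (nat_lit 6602) i)) (@Bool.rec (fun _ => ℕ) (@Bool.rec (fun _ => ℕ) rb6604 rb6605 (Nat.ble (nat_lit 6605) i)) (@Bool.rec (fun _ => ℕ) rb6606 rb6607 (Nat.ble (nat_lit 6607) i)) (Nat.ble (nat_lit 6606) i)) (Nat.ble (nat_lit 6604) i)) (Nat.ble (nat_lit 6600) i)) (@Bool.rec (fun _ => ℕ) (@Bool.rec (fun _ => ℕ) (@Bool.rec (fun _ => ℕ) (@Bool.rec (fun _ => ℕ) rb6608 rb6609 (Nat.ble (nat_lit 6609) i)) (@Bool.rec (fun _ => ℕ) rb6610 rb6611 (Nat.ble (nat_lit 6611) i)) (Nat.ble (nat_lit 6610) i)) (@Bool.rec (fun _ => ℕ) (@Bool.rec (fun _ => ℕ) rb6612 rb6613 (Nat.ble (nat_lit 6613) i)) (@Bool.rec (fun _ => ℕ) rb6614 rb6615 (Nat.ble (nat_lit 6615) i)) (Nat.ble (nat_lit 6614) i)) (Nat.ble (nat_lit 6612) i))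 (@Bool.rec (fun _ => ℕ) (@Bool.rec (fun _ => ℕ) (@Bool.rec (fun _ => ℕ) rb6616 rb6617 (Nat.ble (nat_lit 6617) i)) (@Bool.rec (fun _ => ℕ) rb6618 rb6619 (Nat.ble (nat_lit 6619) i)) (Nat.ble (nat_lit 6618) i)) (@Bool.rec (fun _ => ℕ) (@Bool.rec (fun _ => ℕ) rb6620 rb6621 (Nat.ble (nat_lit 6621) i)) (@Bool.rec (fun _ => ℕ) rb6622 rb6623 (Nat.ble (nat_lit 6623) i)) (Nat.ble (nat_lit 6622) i)) (Nat.ble (nat_lit 6620) i)) (Nat.ble (nat_lit 6616) i)) (Nat.ble (nat_lit 6608) i))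

def rowBlk_n0_207 (i : ℕ) : ℕ := (@Bool.rec (fun _ => ℕ) (@Bool.rec (fun _ => ℕ) (@Bool.rec (fun _ => ℕ) (@Bool.rec (fun _ => ℕ) (@Bool.rec (fun _ => ℕ) rb6624 rb6625 (Nat.ble (nat_lit 6625) i)) (@Bool.rec (fun _ => ℕ) rb6626 rb6627 (Nat.ble (nat_lit 6627) i)) (Nat.ble (nat_lit 6626) i)) (@Bool.rec (fun _ => ℕ) (@Bool.rec (fun _ => ℕ) rb6628 rb6629 (Nat.ble (nat_lit 6629) i)) (@Bool.rec (fun _ => ℕ) rb6630 rb6631 (Nat.ble (nat_lit 6631) i)) (Nat.ble (nat_lit 6630) i)) (Nat.ble (nat_lit 6628) i)) (@Bool.rec (fun _ => ℕ) (@Bool.rec (fun _ => ℕ) (@Bool.rec (fun _ => ℕ) rb6632 rb6633 (Nat.ble (nat_lit 6633) i)) (@Bool.rec (fun _ => ℕ) rb6634 rb6635 (Nat.ble (nat_lit 6635) i)) (Nat.ble (nat_lit 6634) i)) (@Bool.rec (fun _ => ℕ) (@Bool.rec (fun _ => ℕ) rb6636 rb6637 (Nat.ble (nat_lit 6637) i)) (@Bool.rec (fun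 _ => ℕ) rb6638 rb6639 (Nat.ble (nat_lit 6639) i)) (Nat.ble (nat_lit 6638) i)) (Nat.ble (nat_lit 6636) i)) (Nat.ble (nat_lit 6632) i)) (@Bool.rec (fun _ => ℕ) (@Bool.rec (fun _ => ℕ) (@Bool.rec (fun _ => ℕ) (@Bool.rec (fun _ => ℕ) rb6640 rb6641 (Nat.ble (nat_lit 6641) i)) (@Bool.rec (fun _ => ℕ) rb6642 rb6643 (Nat.ble (nat_lit 6643) i)) (Nat.ble (nat_lit 6642) i)) (@Bool.rec (fun _ => ℕ) (@Bool.rec (fun _ => ℕ) rb6644 rb6645 (Nat.ble (nat_lit 6645) i)) (@Bool.rec (fun _ => ℕ) rb6646 rb6647 (Nat.ble (nat_lit 6647) i)) (Nat.ble (nat_lit 6646) i)) (Nat.ble (nat_lit 6644) i)) (@Bool.rec (fun _ => ℕ) (@Bool.rec (fun _ => ℕ) (@Bool.rec (fun _ => ℕ) rb6648 rb6649 (Nat.ble (nat_lit 6649) i)) (@Bool.rec (fun _ => ℕ) rb6650 rb6651 (Nat.ble (nat_lit 6651) i)) (Nat.ble (nat_lit 6650) i)) (@Bool.rec (fun _ => ℕ) (@Bool.rec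 (fun _ => ℕ) rb6652 rb6653 (Nat.ble (nat_lit 6653) i)) (@Bool.rec (fun _ => ℕ) rb6654 rb6655 (Nat.ble (nat_lit 6655) i)) (Nat.ble (nat_lit 6654) i)) (Nat.ble (nat_lit 6652) i)) (Nat.ble (nat_lit 6648) i)) (Nat.ble (nat_lit 6640) i))

def rowBlk_n0_208 (i : ℕ) : ℕ := (@Bool.rec (fun _ => ℕ) (@Bool.rec (fun _ => ℕ) (@Bool.rec (fun _ => ℕ) (@Bool.rec (fun _ => ℕ) (@Bool.rec (fun _ => ℕ) rb6656 rb6657 (Nat.ble (nat_lit 6657) i)) (@Bool.rec (fun _ => ℕ) rb6658 rb6659 (Nat.ble (nat_lit 6659) i)) (Nat.ble (nat_lit 6658) i)) (@Bool.rec (fun _ => ℕ) (@Bool.rec (fun _ => ℕ) rb6660 rb6661 (Nat.ble (nat_lit 6661) i)) (@Bool.rec (fun _ => ℕ) rb6662 rb6663 (Nat.ble (nat_lit 6663) i)) (Nat.ble (nat_lit 6662) i)) (Nat.ble (nat_lit 6660) i)) (@Bool.rec (fun _ => ℕ) (@Bool.rec (fun _ => ℕ) (@Bool.rec (fun _ => ℕ) rb6664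 rb6665 (Nat.ble (nat_lit 6665) i)) (@Bool.rec (fun _ => ℕ) rb6666 rb6667 (Nat.ble (nat_lit 6667) i)) (Nat.ble (nat_lit 6666) i)) (@Bool.rec (fun _ => ℕ) (@Bool.rec (fun _ => ℕ) rb6668 rb6669 (Nat.ble (nat_lit 6669) i)) (@Bool.rec (fun _ => ℕ) rb6670 rb6671 (Nat.ble (nat_lit 6671) i)) (Nat.ble (nat_lit 6670) i)) (Nat.ble (nat_lit 6668) i)) (Nat.ble (nat_lit 6664) i)) (@Bool.rec (fun _ => ℕ) (@Bool.rec (fun _ => ℕ) (@Bool.rec (fun _ => ℕ) (@Bool.rec (fun _ => ℕ) rb6672 rb6673 (Nat.ble (nat_lit 6673) i)) (@Bool.rec (fun _ => ℕ) rb6674 rb6675 (Nat.ble (nat_lit 6675) i)) (Nat.ble (nat_lit 6674) i)) (@Bool.rec (fun _ => ℕ) (@Bool.rec (fun _ => ℕ) rb6676 rb6677 (Nat.ble (nat_lit 6677) i)) (@Bool.rec (fun _ => ℕ) rb6678 rb6679 (Nat.ble (nat_lit 6679) i)) (Nat.ble (nat_lit 6678) i)) (Nat.ble (nat_lit 6676) i))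 (@Bool.rec (fun _ => ℕ) (@Bool.rec (fun _ => ℕ) (@Bool.rec (fun _ => ℕ) rb6680 rb6681 (Nat.ble (nat_lit 6681) i)) (@Bool.rec (fun _ => ℕ) rb6682 rb6683 (Nat.ble (nat_lit 6683) i)) (Nat.ble (nat_lit 6682) i)) (@Bool.rec (fun _ => ℕ) (@Bool.rec (fun _ => ℕ) rb6684 rb6685 (Nat.ble (nat_lit 6685) i)) (@Bool.rec (fun _ => ℕ) rb6686 rb6687 (Nat.ble (nat_lit 6687) i)) (Nat.ble (nat_lit 6686) i)) (Nat.ble (nat_lit 6684) i)) (Nat.ble (nat_lit 6680) i)) (Nat.ble (nat_lit 6672) i))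

def rowBlk_n0_209 (i : ℕ) : ℕ := (@Bool.rec (fun _ => ℕ) (@Bool.rec (fun _ => ℕ) (@Bool.rec (fun _ => ℕ) (@Bool.rec (fun _ => ℕ) (@Bool.rec (fun _ => ℕ) rb6688 rb6689 (Nat.ble (nat_lit 6689) i)) (@Bool.rec (fun _ => ℕ) rb6690 rb6691 (Nat.ble (nat_lit 6691) i)) (Nat.ble (nat_lit 6690) i)) (@Bool.rec (fun _ => ℕ) (@Bool.rec (fun _ => ℕ) rb6692 rb6693 (Nat.ble (nat_lit 6693) i)) (@Bool.rec (fun _ => ℕ) rb6694 rb6695 (Nat.ble (nat_lit 6695) i)) (Nat.ble (nat_lit 6694) i)) (Nat.ble (nat_lit 6692) i)) (@Bool.rec (fun _ => ℕ) (@Bool.rec (fun _ => ℕ) (@Bool.rec (fun _ => ℕ) rb6696 rb6697 (Nat.ble (nat_lit 6697) i)) (@Bool.rec (fun _ => ℕ) rb6698 rb6699 (Nat.ble (nat_lit 6699) i)) (Nat.ble (nat_lit 6698) i)) (@Bool.rec (fun _ => ℕ) (@Bool.rec (fun _ => ℕ) rb6700 rb6701 (Nat.ble (nat_lit 6701) i)) (@Bool.rec (fun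 _ => ℕ) rb6702 rb6703 (Nat.ble (nat_lit 6703) i)) (Nat.ble (nat_lit 6702) i)) (Nat.ble (nat_lit 6700) i)) (Nat.ble (nat_lit 6696) i)) (@Bool.rec (fun _ => ℕ) (@Bool.rec (fun _ => ℕ) (@Bool.rec (fun _ => ℕ) (@Bool.rec (fun _ => ℕ) rb6704 rb6705 (Nat.ble (nat_lit 6705) i)) (@Bool.rec (fun _ => ℕ) rb6706 rb6707 (Nat.ble (nat_lit 6707) i)) (Nat.ble (nat_lit 6706) i)) (@Bool.rec (fun _ => ℕ) (@Bool.rec (fun _ => ℕ) rb6708 rb6709 (Nat.ble (nat_lit 6709) i)) (@Bool.rec (fun _ => ℕ) rb6710 rb6711 (Nat.ble (nat_lit 6711) i)) (Nat.ble (nat_lit 6710) i)) (Nat.ble (nat_lit 6708) i)) (@Bool.rec (fun _ => ℕ) (@Bool.rec (fun _ => ℕ) (@Bool.rec (fun _ => ℕ) rb6712 rb6713 (Nat.ble (nat_lit 6713) i)) (@Bool.rec (fun _ => ℕ) rb6714 rb6715 (Nat.ble (nat_lit 6715) i)) (Nat.ble (nat_lit 6714) i)) (@Bool.rec (fun _ => ℕ) (@Bool.rec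 (fun _ => ℕ) rb6716 rb6717 (Nat.ble (nat_lit 6717) i)) (@Bool.rec (fun _ => ℕ) rb6718 rb6719 (Nat.ble (nat_lit 6719) i)) (Nat.ble (nat_lit 6718) i)) (Nat.ble (nat_lit 6716) i)) (Nat.ble (nat_lit 6712) i)) (Nat.ble (nat_lit 6704) i))

def rowBlk_n0_210 (i : ℕ) : ℕ := (@Bool.rec (fun _ => ℕ) (@Bool.rec (fun _ => ℕ) (@Bool.rec (fun _ => ℕ) (@Bool.rec (fun _ => ℕ) (@Bool.rec (fun _ => ℕ) rb6720 rb6721 (Nat.ble (nat_lit 6721) i)) (@Bool.rec (fun _ => ℕ) rb6722 rb6723 (Nat.ble (nat_lit 6723) i)) (Nat.ble (nat_lit 6722) i)) (@Bool.rec (fun _ => ℕ) (@Bool.rec (fun _ => ℕ) rb6724 rb6725 (Nat.ble (nat_lit 6725) i)) (@Bool.rec (fun _ => ℕ) rb6726 rb6727 (Nat.ble (nat_lit 6727) i)) (Nat.ble (nat_lit 6726) i)) (Nat.ble (nat_lit 6724) i)) (@Bool.rec (fun _ => ℕ) (@Bool.rec (fun _ => ℕ) (@Bool.rec (fun _ => ℕ) rb6728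 rb6729 (Nat.ble (nat_lit 6729) i)) (@Bool.rec (fun _ => ℕ) rb6730 rb6731 (Nat.ble (nat_lit 6731) i)) (Nat.ble (nat_lit 6730) i)) (@Bool.rec (fun _ => ℕ) (@Bool.rec (fun _ => ℕ) rb6732 rb6733 (Nat.ble (nat_lit 6733) i)) (@Bool.rec (fun _ => ℕ) rb6734 rb6735 (Nat.ble (nat_lit 6735) i)) (Nat.ble (nat_lit 6734) i)) (Nat.ble (nat_lit 6732) i)) (Nat.ble (nat_lit 6728) i)) (@Bool.rec (fun _ => ℕ) (@Bool.rec (fun _ => ℕ) (@Bool.rec (fun _ => ℕ) (@Bool.rec (fun _ => ℕ) rb6736 rb6737 (Nat.ble (nat_lit 6737) i)) (@Bool.rec (fun _ => ℕ) rb6738 rb6739 (Nat.ble (nat_lit 6739) i)) (Nat.ble (nat_lit 6738) i)) (@Bool.rec (fun _ => ℕ) (@Bool.rec (fun _ => ℕ) rb6740 rb6741 (Nat.ble (nat_lit 6741) i)) (@Bool.rec (fun _ => ℕ) rb6742 rb6743 (Nat.ble (nat_lit 6743) i)) (Nat.ble (nat_lit 6742) i)) (Nat.ble (nat_lit 6740) i))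 (@Bool.rec (fun _ => ℕ) (@Bool.rec (fun _ => ℕ) (@Bool.rec (fun _ => ℕ) rb6744 rb6745 (Nat.ble (nat_lit 6745) i)) (@Bool.rec (fun _ => ℕ) rb6746 rb6747 (Nat.ble (nat_lit 6747) i)) (Nat.ble (nat_lit 6746) i)) (@Bool.rec (fun _ => ℕ) (@Bool.rec (fun _ => ℕ) rb6748 rb6749 (Nat.ble (nat_lit 6749) i)) (@Bool.rec (fun _ => ℕ) rb6750 rb6751 (Nat.ble (nat_lit 6751) i)) (Nat.ble (nat_lit 6750) i)) (Nat.ble (nat_lit 6748) i)) (Nat.ble (nat_lit 6744) i)) (Nat.ble (nat_lit 6736) i))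

def rowBlk_n0_211 (i : ℕ) : ℕ := (@Bool.rec (fun _ => ℕ) (@Bool.rec (fun _ => ℕ) (@Bool.rec (fun _ => ℕ) (@Bool.rec (fun _ => ℕ) (@Bool.rec (fun _ => ℕ) rb6752 rb6753 (Nat.ble (nat_lit 6753) i)) (@Bool.rec (fun _ => ℕ) rb6754 rb6755 (Nat.ble (nat_lit 6755) i)) (Nat.ble (nat_lit 6754) i)) (@Bool.rec (fun _ => ℕ) (@Bool.rec (fun _ => ℕ) rb6756 rb6757 (Nat.ble (nat_lit 6757) i)) (@Bool.rec (fun _ => ℕ) rb6758 rb6759 (Nat.ble (nat_lit 6759) i)) (Nat.ble (nat_lit 6758) i)) (Nat.ble (nat_lit 6756) i)) (@Bool.rec (fun _ => ℕ) (@Bool.rec (fun _ => ℕ) (@Bool.rec (fun _ => ℕ) rb6760 rb6761 (Nat.ble (nat_lit 6761) i)) (@Bool.rec (fun _ => ℕ) rb6762 rb6763 (Nat.ble (nat_lit 6763) i)) (Nat.ble (nat_lit 6762) i)) (@Bool.rec (fun _ => ℕ) (@Bool.rec (fun _ => ℕ) rb6764 rb6765 (Nat.ble (nat_lit 6765) i)) (@Bool.rec (fun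 _ => ℕ) rb6766 rb6767 (Nat.ble (nat_lit 6767) i)) (Nat.ble (nat_lit 6766) i)) (Nat.ble (nat_lit 6764) i)) (Nat.ble (nat_lit 6760) i)) (@Bool.rec (fun _ => ℕ) (@Bool.rec (fun _ => ℕ) (@Bool.rec (fun _ => ℕ) (@Bool.rec (fun _ => ℕ) rb6768 rb6769 (Nat.ble (nat_lit 6769) i)) (@Bool.rec (fun _ => ℕ) rb6770 rb6771 (Nat.ble (nat_lit 6771) i)) (Nat.ble (nat_lit 6770) i)) (@Bool.rec (fun _ => ℕ) (@Bool.rec (fun _ => ℕ) rb6772 rb6773 (Nat.ble (nat_lit 6773) i)) (@Bool.rec (fun _ => ℕ) rb6774 rb6775 (Nat.ble (nat_lit 6775) i)) (Nat.ble (nat_lit 6774) i)) (Nat.ble (nat_lit 6772) i)) (@Bool.rec (fun _ => ℕ) (@Bool.rec (fun _ => ℕ) (@Bool.rec (fun _ => ℕ) rb6776 rb6777 (Nat.ble (nat_lit 6777) i)) (@Bool.rec (fun _ => ℕ) rb6778 rb6779 (Nat.ble (nat_lit 6779) i)) (Nat.ble (nat_lit 6778) i)) (@Bool.rec (fun _ => ℕ) (@Bool.rec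 (fun _ => ℕ) rb6780 rb6781 (Nat.ble (nat_lit 6781) i)) (@Bool.rec (fun _ => ℕ) rb6782 rb6783 (Nat.ble (nat_lit 6783) i)) (Nat.ble (nat_lit 6782) i)) (Nat.ble (nat_lit 6780) i)) (Nat.ble (nat_lit 6776) i)) (Nat.ble (nat_lit 6768) i))

def rowBlk_n0_212 (i : ℕ) : ℕ := (@Bool.rec (fun _ => ℕ) (@Bool.rec (fun _ => ℕ) (@Bool.rec (fun _ => ℕ) (@Bool.rec (fun _ => ℕ) (@Bool.rec (fun _ => ℕ) rb6784 rb6785 (Nat.ble (nat_lit 6785) i)) (@Bool.rec (fun _ => ℕ) rb6786 rb6787 (Nat.ble (nat_lit 6787) i)) (Nat.ble (nat_lit 6786) i)) (@Bool.rec (fun _ => ℕ) (@Bool.rec (fun _ => ℕ) rb6788 rb6789 (Nat.ble (nat_lit 6789) i)) (@Bool.rec (fun _ => ℕ) rb6790 rb6791 (Nat.ble (nat_lit 6791) i)) (Nat.ble (nat_lit 6790) i)) (Nat.ble (nat_lit 6788) i)) (@Bool.rec (fun _ => ℕ) (@Bool.rec (fun _ => ℕ) (@Bool.rec (fun _ => ℕ) rb6792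 rb6793 (Nat.ble (nat_lit 6793) i)) (@Bool.rec (fun _ => ℕ) rb6794 rb6795 (Nat.ble (nat_lit 6795) i)) (Nat.ble (nat_lit 6794) i)) (@Bool.rec (fun _ => ℕ) (@Bool.rec (fun _ => ℕ) rb6796 rb6797 (Nat.ble (nat_lit 6797) i)) (@Bool.rec (fun _ => ℕ) rb6798 rb6799 (Nat.ble (nat_lit 6799) i)) (Nat.ble (nat_lit 6798) i)) (Nat.ble (nat_lit 6796) i)) (Nat.ble (nat_lit 6792) i)) (@Bool.rec (fun _ => ℕ) (@Bool.rec (fun _ => ℕ) (@Bool.rec (fun _ => ℕ) (@Bool.rec (fun _ => ℕ) rb6800 rb6801 (Nat.ble (nat_lit 6801) i)) (@Bool.rec (fun _ => ℕ) rb6802 rb6803 (Nat.ble (nat_lit 6803) i)) (Nat.ble (nat_lit 6802) i)) (@Bool.rec (fun _ => ℕ) (@Bool.rec (fun _ => ℕ) rb6804 rb6805 (Nat.ble (nat_lit 6805) i)) (@Bool.rec (fun _ => ℕ) rb6806 rb6807 (Nat.ble (nat_lit 6807) i)) (Nat.ble (nat_lit 6806) i)) (Nat.ble (nat_lit 6804) i))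 (@Bool.rec (fun _ => ℕ) (@Bool.rec (fun _ => ℕ) (@Bool.rec (fun _ => ℕ) rb6808 rb6809 (Nat.ble (nat_lit 6809) i)) (@Bool.rec (fun _ => ℕ) rb6810 rb6811 (Nat.ble (nat_lit 6811) i)) (Nat.ble (nat_lit 6810) i)) (@Bool.rec (fun _ => ℕ) (@Bool.rec (fun _ => ℕ) rb6812 rb6813 (Nat.ble (nat_lit 6813) i)) (@Bool.rec (fun _ => ℕ) rb6814 rb6815 (Nat.ble (nat_lit 6815) i)) (Nat.ble (nat_lit 6814) i)) (Nat.ble (nat_lit 6812) i)) (Nat.ble (nat_lit 6808) i)) (Nat.ble (nat_lit 6800) i))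

def rowBlk_n0_213 (i : ℕ) : ℕ := (@Bool.rec (fun _ => ℕ) (@Bool.rec (fun _ => ℕ) (@Bool.rec (fun _ => ℕ) (@Bool.rec (fun _ => ℕ) (@Bool.rec (fun _ => ℕ) rb6816 rb6817 (Nat.ble (nat_lit 6817) i)) (@Bool.rec (fun _ => ℕ) rb6818 rb6819 (Nat.ble (nat_lit 6819) i)) (Nat.ble (nat_lit 6818) i)) (@Bool.rec (fun _ => ℕ) (@Bool.rec (fun _ => ℕ) rb6820 rb6821 (Nat.ble (nat_lit 6821) i)) (@Bool.rec (fun _ => ℕ) rb6822 rb6823 (Nat.ble (nat_lit 6823) i)) (Nat.ble (nat_lit 6822) i)) (Nat.ble (nat_lit 6820) i)) (@Bool.rec (fun _ => ℕ) (@Bool.rec (fun _ => ℕ) (@Bool.rec (fun _ => ℕ) rb6824 rb6825 (Nat.ble (nat_lit 6825) i)) (@Bool.rec (fun _ => ℕ) rb6826 rb6827 (Nat.ble (nat_lit 6827) i)) (Nat.ble (nat_lit 6826) i)) (@Bool.rec (fun _ => ℕ) (@Bool.rec (fun _ => ℕ) rb6828 rb6829 (Nat.ble (nat_lit 6829) i)) (@Bool.rec (fun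 _ => ℕ) rb6830 rb6831 (Nat.ble (nat_lit 6831) i)) (Nat.ble (nat_lit 6830) i)) (Nat.ble (nat_lit 6828) i)) (Nat.ble (nat_lit 6824) i)) (@Bool.rec (fun _ => ℕ) (@Bool.rec (fun _ => ℕ) (@Bool.rec (fun _ => ℕ) (@Bool.rec (fun _ => ℕ) rb6832 rb6833 (Nat.ble (nat_lit 6833) i)) (@Bool.rec (fun _ => ℕ) rb6834 rb6835 (Nat.ble (nat_lit 6835) i)) (Nat.ble (nat_lit 6834) i)) (@Bool.rec (fun _ => ℕ) (@Bool.rec (fun _ => ℕ) rb6836 rb6837 (Nat.ble (nat_lit 6837) i)) (@Bool.rec (fun _ => ℕ) rb6838 rb6839 (Nat.ble (nat_lit 6839) i)) (Nat.ble (nat_lit 6838) i)) (Nat.ble (nat_lit 6836) i)) (@Bool.rec (fun _ => ℕ) (@Bool.rec (fun _ => ℕ) (@Bool.rec (fun _ => ℕ) rb6840 rb6841 (Nat.ble (nat_lit 6841) i)) (@Bool.rec (fun _ => ℕ) rb6842 rb6843 (Nat.ble (nat_lit 6843) i)) (Nat.ble (nat_lit 6842) i)) (@Bool.rec (fun _ => ℕ) (@Bool.rec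 (fun _ => ℕ) rb6844 rb6845 (Nat.ble (nat_lit 6845) i)) (@Bool.rec (fun _ => ℕ) rb6846 rb6847 (Nat.ble (nat_lit 6847) i)) (Nat.ble (nat_lit 6846) i)) (Nat.ble (nat_lit 6844) i)) (Nat.ble (nat_lit 6840) i)) (Nat.ble (nat_lit 6832) i))

def rowBlk_n0_214 (i : ℕ) : ℕ := (@Bool.rec (fun _ => ℕ) (@Bool.rec (fun _ => ℕ) (@Bool.rec (fun _ => ℕ) (@Bool.rec (fun _ => ℕ) (@Bool.rec (fun _ => ℕ) rb6848 rb6849 (Nat.ble (nat_lit 6849) i)) (@Bool.rec (fun _ => ℕ) rb6850 rb6851 (Nat.ble (nat_lit 6851) i)) (Nat.ble (nat_lit 6850) i)) (@Bool.rec (fun _ => ℕ) (@Bool.rec (fun _ => ℕ) rb6852 rb6853 (Nat.ble (nat_lit 6853) i)) (@Bool.rec (fun _ => ℕ) rb6854 rb6855 (Nat.ble (nat_lit 6855) i)) (Nat.ble (nat_lit 6854) i)) (Nat.ble (nat_lit 6852) i)) (@Bool.rec (fun _ => ℕ) (@Bool.rec (fun _ => ℕ) (@Bool.rec (fun _ => ℕ) rb6856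 rb6857 (Nat.ble (nat_lit 6857) i)) (@Bool.rec (fun _ => ℕ) rb6858 rb6859 (Nat.ble (nat_lit 6859) i)) (Nat.ble (nat_lit 6858) i)) (@Bool.rec (fun _ => ℕ) (@Bool.rec (fun _ => ℕ) rb6860 rb6861 (Nat.ble (nat_lit 6861) i)) (@Bool.rec (fun _ => ℕ) rb6862 rb6863 (Nat.ble (nat_lit 6863) i)) (Nat.ble (nat_lit 6862) i)) (Nat.ble (nat_lit 6860) i)) (Nat.ble (nat_lit 6856) i)) (@Bool.rec (fun _ => ℕ) (@Bool.rec (fun _ => ℕ) (@Bool.rec (fun _ => ℕ) (@Bool.rec (fun _ => ℕ) rb6864 rb6865 (Nat.ble (nat_lit 6865) i)) (@Bool.rec (fun _ => ℕ) rb6866 rb6867 (Nat.ble (nat_lit 6867) i)) (Nat.ble (nat_lit 6866) i)) (@Bool.rec (fun _ => ℕ) (@Bool.rec (fun _ => ℕ) rb6868 rb6869 (Nat.ble (nat_lit 6869) i)) (@Bool.rec (fun _ => ℕ) rb6870 rb6871 (Nat.ble (nat_lit 6871) i)) (Nat.ble (nat_lit 6870) i)) (Nat.ble (nat_lit 6868) i))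 (@Bool.rec (fun _ => ℕ) (@Bool.rec (fun _ => ℕ) (@Bool.rec (fun _ => ℕ) rb6872 rb6873 (Nat.ble (nat_lit 6873) i)) (@Bool.rec (fun _ => ℕ) rb6874 rb6875 (Nat.ble (nat_lit 6875) i)) (Nat.ble (nat_lit 6874) i)) (@Bool.rec (fun _ => ℕ) (@Bool.rec (fun _ => ℕ) rb6876 rb6877 (Nat.ble (nat_lit 6877) i)) (@Bool.rec (fun _ => ℕ) rb6878 rb6879 (Nat.ble (nat_lit 6879) i)) (Nat.ble (nat_lit 6878) i)) (Nat.ble (nat_lit 6876) i)) (Nat.ble (nat_lit 6872) i)) (Nat.ble (nat_lit 6864) i))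

def rowBlk_n0_215 (i : ℕ) : ℕ := (@Bool.rec (fun _ => ℕ) (@Bool.rec (fun _ => ℕ) (@Bool.rec (fun _ => ℕ) (@Bool.rec (fun _ => ℕ) (@Bool.rec (fun _ => ℕ) rb6880 rb6881 (Nat.ble (nat_lit 6881) i)) (@Bool.rec (fun _ => ℕ) rb6882 rb6883 (Nat.ble (nat_lit 6883) i)) (Nat.ble (nat_lit 6882) i)) (@Bool.rec (fun _ => ℕ) (@Bool.rec (fun _ => ℕ) rb6884 rb6885 (Nat.ble (nat_lit 6885) i)) (@Bool.rec (fun _ => ℕ) rb6886 rb6887 (Nat.ble (nat_lit 6887) i)) (Nat.ble (nat_lit 6886) i)) (Nat.ble (nat_lit 6884) i)) (@Bool.rec (fun _ => ℕ) (@Bool.rec (fun _ => ℕ) (@Bool.rec (fun _ => ℕ) rb6888 rb6889 (Nat.ble (nat_lit 6889) i)) (@Bool.rec (fun _ => ℕ) rb6890 rb6891 (Nat.ble (nat_lit 6891) i)) (Nat.ble (nat_lit 6890) i)) (@Bool.rec (fun _ => ℕ) (@Bool.rec (fun _ => ℕ) rb6892 rb6893 (Nat.ble (nat_lit 6893) i)) (@Bool.rec (fun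 _ => ℕ) rb6894 rb6895 (Nat.ble (nat_lit 6895) i)) (Nat.ble (nat_lit 6894) i)) (Nat.ble (nat_lit 6892) i)) (Nat.ble (nat_lit 6888) i)) (@Bool.rec (fun _ => ℕ) (@Bool.rec (fun _ => ℕ) (@Bool.rec (fun _ => ℕ) (@Bool.rec (fun _ => ℕ) rb6896 rb6897 (Nat.ble (nat_lit 6897) i)) (@Bool.rec (fun _ => ℕ) rb6898 rb6899 (Nat.ble (nat_lit 6899) i)) (Nat.ble (nat_lit 6898) i)) (@Bool.rec (fun _ => ℕ) (@Bool.rec (fun _ => ℕ) rb6900 rb6901 (Nat.ble (nat_lit 6901) i)) (@Bool.rec (fun _ => ℕ) rb6902 rb6903 (Nat.ble (nat_lit 6903) i)) (Nat.ble (nat_lit 6902) i)) (Nat.ble (nat_lit 6900) i)) (@Bool.rec (fun _ => ℕ) (@Bool.rec (fun _ => ℕ) (@Bool.rec (fun _ => ℕ) rb6904 rb6905 (Nat.ble (nat_lit 6905) i)) (@Bool.rec (fun _ => ℕ) rb6906 rb6907 (Nat.ble (nat_lit 6907) i)) (Nat.ble (nat_lit 6906) i)) (@Bool.rec (fun _ => ℕ) (@Bool.rec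 (fun _ => ℕ) rb6908 rb6909 (Nat.ble (nat_lit 6909) i)) (@Bool.rec (fun _ => ℕ) rb6910 rb6911 (Nat.ble (nat_lit 6911) i)) (Nat.ble (nat_lit 6910) i)) (Nat.ble (nat_lit 6908) i)) (Nat.ble (nat_lit 6904) i)) (Nat.ble (nat_lit 6896) i))

def rowBlk_n0_216 (i : ℕ) : ℕ := (@Bool.rec (fun _ => ℕ) (@Bool.rec (fun _ => ℕ) (@Bool.rec (fun _ => ℕ) (@Bool.rec (fun _ => ℕ) (@Bool.rec (fun _ => ℕ) rb6912 rb6913 (Nat.ble (nat_lit 6913) i)) (@Bool.rec (fun _ => ℕ) rb6914 rb6915 (Nat.ble (nat_lit 6915) i)) (Nat.ble (nat_lit 6914) i)) (@Bool.rec (fun _ => ℕ) (@Bool.rec (fun _ => ℕ) rb6916 rb6917 (Nat.ble (nat_lit 6917) i)) (@Bool.rec (fun _ => ℕ) rb6918 rb6919 (Nat.ble (nat_lit 6919) i)) (Nat.ble (nat_lit 6918) i)) (Nat.ble (nat_lit 6916) i)) (@Bool.rec (fun _ => ℕ) (@Bool.rec (fun _ => ℕ) (@Bool.rec (fun _ => ℕ) rb6920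 rb6921 (Nat.ble (nat_lit 6921) i)) (@Bool.rec (fun _ => ℕ) rb6922 rb6923 (Nat.ble (nat_lit 6923) i)) (Nat.ble (nat_lit 6922) i)) (@Bool.rec (fun _ => ℕ) (@Bool.rec (fun _ => ℕ) rb6924 rb6925 (Nat.ble (nat_lit 6925) i)) (@Bool.rec (fun _ => ℕ) rb6926 rb6927 (Nat.ble (nat_lit 6927) i)) (Nat.ble (nat_lit 6926) i)) (Nat.ble (nat_lit 6924) i)) (Nat.ble (nat_lit 6920) i)) (@Bool.rec (fun _ => ℕ) (@Bool.rec (fun _ => ℕ) (@Bool.rec (fun _ => ℕ) (@Bool.rec (fun _ => ℕ) rb6928 rb6929 (Nat.ble (nat_lit 6929) i)) (@Bool.rec (fun _ => ℕ) rb6930 rb6931 (Nat.ble (nat_lit 6931) i)) (Nat.ble (nat_lit 6930) i)) (@Bool.rec (fun _ => ℕ) (@Bool.rec (fun _ => ℕ) rb6932 rb6933 (Nat.ble (nat_lit 6933) i)) (@Bool.rec (fun _ => ℕ) rb6934 rb6935 (Nat.ble (nat_lit 6935) i)) (Nat.ble (nat_lit 6934) i)) (Nat.ble (nat_lit 6932) i))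 (@Bool.rec (fun _ => ℕ) (@Bool.rec (fun _ => ℕ) (@Bool.rec (fun _ => ℕ) rb6936 rb6937 (Nat.ble (nat_lit 6937) i)) (@Bool.rec (fun _ => ℕ) rb6938 rb6939 (Nat.ble (nat_lit 6939) i)) (Nat.ble (nat_lit 6938) i)) (@Bool.rec (fun _ => ℕ) (@Bool.rec (fun _ => ℕ) rb6940 rb6941 (Nat.ble (nat_lit 6941) i)) (@Bool.rec (fun _ => ℕ) rb6942 rb6943 (Nat.ble (nat_lit 6943) i)) (Nat.ble (nat_lit 6942) i)) (Nat.ble (nat_lit 6940) i)) (Nat.ble (nat_lit 6936) i)) (Nat.ble (nat_lit 6928) i))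

def rowBlk_n0_217 (i : ℕ) : ℕ := (@Bool.rec (fun _ => ℕ) (@Bool.rec (fun _ => ℕ) (@Bool.rec (fun _ => ℕ) (@Bool.rec (fun _ => ℕ) (@Bool.rec (fun _ => ℕ) rb6944 rb6945 (Nat.ble (nat_lit 6945) i)) (@Bool.rec (fun _ => ℕ) rb6946 rb6947 (Nat.ble (nat_lit 6947) i)) (Nat.ble (nat_lit 6946) i)) (@Bool.rec (fun _ => ℕ) (@Bool.rec (fun _ => ℕ) rb6948 rb6949 (Nat.ble (nat_lit 6949) i)) (@Bool.rec (fun _ => ℕ) rb6950 rb6951 (Nat.ble (nat_lit 6951) i)) (Nat.ble (nat_lit 6950) i)) (Nat.ble (nat_lit 6948) i)) (@Bool.rec (fun _ => ℕ) (@Bool.rec (fun _ => ℕ) (@Bool.rec (fun _ => ℕ) rb6952 rb6953 (Nat.ble (nat_lit 6953) i)) (@Bool.rec (fun _ => ℕ) rb6954 rb6955 (Nat.ble (nat_lit 6955) i)) (Nat.ble (nat_lit 6954) i)) (@Bool.rec (fun _ => ℕ) (@Bool.rec (fun _ => ℕ) rb6956 rb6957 (Nat.ble (nat_lit 6957) i)) (@Bool.rec (fun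 _ => ℕ) rb6958 rb6959 (Nat.ble (nat_lit 6959) i)) (Nat.ble (nat_lit 6958) i)) (Nat.ble (nat_lit 6956) i)) (Nat.ble (nat_lit 6952) i)) (@Bool.rec (fun _ => ℕ) (@Bool.rec (fun _ => ℕ) (@Bool.rec (fun _ => ℕ) (@Bool.rec (fun _ => ℕ) rb6960 rb6961 (Nat.ble (nat_lit 6961) i)) (@Bool.rec (fun _ => ℕ) rb6962 rb6963 (Nat.ble (nat_lit 6963) i)) (Nat.ble (nat_lit 6962) i)) (@Bool.rec (fun _ => ℕ) (@Bool.rec (fun _ => ℕ) rb6964 rb6965 (Nat.ble (nat_lit 6965) i)) (@Bool.rec (fun _ => ℕ) rb6966 rb6967 (Nat.ble (nat_lit 6967) i)) (Nat.ble (nat_lit 6966) i)) (Nat.ble (nat_lit 6964) i)) (@Bool.rec (fun _ => ℕ) (@Bool.rec (fun _ => ℕ) (@Bool.rec (fun _ => ℕ) rb6968 rb6969 (Nat.ble (nat_lit 6969) i)) (@Bool.rec (fun _ => ℕ) rb6970 rb6971 (Nat.ble (nat_lit 6971) i)) (Nat.ble (nat_lit 6970) i)) (@Bool.rec (fun _ => ℕ) (@Bool.rec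 (fun _ => ℕ) rb6972 rb6973 (Nat.ble (nat_lit 6973) i)) (@Bool.rec (fun _ => ℕ) rb6974 rb6975 (Nat.ble (nat_lit 6975) i)) (Nat.ble (nat_lit 6974) i)) (Nat.ble (nat_lit 6972) i)) (Nat.ble (nat_lit 6968) i)) (Nat.ble (nat_lit 6960) i))

def rowBlk_n0_218 (i : ℕ) : ℕ := (@Bool.rec (fun _ => ℕ) (@Bool.rec (fun _ => ℕ) (@Bool.rec (fun _ => ℕ) (@Bool.rec (fun _ => ℕ) (@Bool.rec (fun _ => ℕ) rb6976 rb6977 (Nat.ble (nat_lit 6977) i)) (@Bool.rec (fun _ => ℕ) rb6978 rb6979 (Nat.ble (nat_lit 6979) i)) (Nat.ble (nat_lit 6978) i)) (@Bool.rec (fun _ => ℕ) (@Bool.rec (fun _ => ℕ) rb6980 rb6981 (Nat.ble (nat_lit 6981) i)) (@Bool.rec (fun _ => ℕ) rb6982 rb6983 (Nat.ble (nat_lit 6983) i)) (Nat.ble (nat_lit 6982) i)) (Nat.ble (nat_lit 6980) i)) (@Bool.rec (fun _ => ℕ) (@Bool.rec (fun _ => ℕ) (@Bool.rec (fun _ => ℕ) rb6984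 rb6985 (Nat.ble (nat_lit 6985) i)) (@Bool.rec (fun _ => ℕ) rb6986 rb6987 (Nat.ble (nat_lit 6987) i)) (Nat.ble (nat_lit 6986) i)) (@Bool.rec (fun _ => ℕ) (@Bool.rec (fun _ => ℕ) rb6988 rb6989 (Nat.ble (nat_lit 6989) i)) (@Bool.rec (fun _ => ℕ) rb6990 rb6991 (Nat.ble (nat_lit 6991) i)) (Nat.ble (nat_lit 6990) i)) (Nat.ble (nat_lit 6988) i)) (Nat.ble (nat_lit 6984) i)) (@Bool.rec (fun _ => ℕ) (@Bool.rec (fun _ => ℕ) (@Bool.rec (fun _ => ℕ) (@Bool.rec (fun _ => ℕ) rb6992 rb6993 (Nat.ble (nat_lit 6993) i)) (@Bool.rec (fun _ => ℕ) rb6994 rb6995 (Nat.ble (nat_lit 6995) i)) (Nat.ble (nat_lit 6994) i)) (@Bool.rec (fun _ => ℕ) (@Bool.rec (fun _ => ℕ) rb6996 rb6997 (Nat.ble (nat_lit 6997) i)) (@Bool.rec (fun _ => ℕ) rb6998 rb6999 (Nat.ble (nat_lit 6999) i)) (Nat.ble (nat_lit 6998) i)) (Nat.ble (nat_lit 6996) i))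 (@Bool.rec (fun _ => ℕ) (@Bool.rec (fun _ => ℕ) (@Bool.rec (fun _ => ℕ) rb7000 rb7001 (Nat.ble (nat_lit 7001) i)) (@Bool.rec (fun _ => ℕ) rb7002 rb7003 (Nat.ble (nat_lit 7003) i)) (Nat.ble (nat_lit 7002) i)) (@Bool.rec (fun _ => ℕ) (@Bool.rec (fun _ => ℕ) rb7004 rb7005 (Nat.ble (nat_lit 7005) i)) (@Bool.rec (fun _ => ℕ) rb7006 rb7007 (Nat.ble (nat_lit 7007) i)) (Nat.ble (nat_lit 7006) i)) (Nat.ble (nat_lit 7004) i)) (Nat.ble (nat_lit 7000) i)) (Nat.ble (nat_lit 6992) i))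

def rowBlk_n0_219 (i : ℕ) : ℕ := (@Bool.rec (fun _ => ℕ) (@Bool.rec (fun _ => ℕ) (@Bool.rec (fun _ => ℕ) (@Bool.rec (fun _ => ℕ) (@Bool.rec (fun _ => ℕ) rb7008 rb7009 (Nat.ble (nat_lit 7009) i)) (@Bool.rec (fun _ => ℕ) rb7010 rb7011 (Nat.ble (nat_lit 7011) i)) (Nat.ble (nat_lit 7010) i)) (@Bool.rec (fun _ => ℕ) (@Bool.rec (fun _ => ℕ) rb7012 rb7013 (Nat.ble (nat_lit 7013) i)) (@Bool.rec (fun _ => ℕ) rb7014 rb7015 (Nat.ble (nat_lit 7015) i)) (Nat.ble (nat_lit 7014) i)) (Nat.ble (nat_lit 7012) i)) (@Bool.rec (fun _ => ℕ) (@Bool.rec (fun _ => ℕ) (@Bool.rec (fun _ => ℕ) rb7016 rb7017 (Nat.ble (nat_lit 7017) i)) (@Bool.rec (fun _ => ℕ) rb7018 rb7019 (Nat.ble (nat_lit 7019) i)) (Nat.ble (nat_lit 7018) i)) (@Bool.rec (fun _ => ℕ) (@Bool.rec (fun _ => ℕ) rb7020 rb7021 (Nat.ble (nat_lit 7021) i)) (@Bool.rec (fun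 _ => ℕ) rb7022 rb7023 (Nat.ble (nat_lit 7023) i)) (Nat.ble (nat_lit 7022) i)) (Nat.ble (nat_lit 7020) i)) (Nat.ble (nat_lit 7016) i)) (@Bool.rec (fun _ => ℕ) (@Bool.rec (fun _ => ℕ) (@Bool.rec (fun _ => ℕ) (@Bool.rec (fun _ => ℕ) rb7024 rb7025 (Nat.ble (nat_lit 7025) i)) (@Bool.rec (fun _ => ℕ) rb7026 rb7027 (Nat.ble (nat_lit 7027) i)) (Nat.ble (nat_lit 7026) i)) (@Bool.rec (fun _ => ℕ) (@Bool.rec (fun _ => ℕ) rb7028 rb7029 (Nat.ble (nat_lit 7029) i)) (@Bool.rec (fun _ => ℕ) rb7030 rb7031 (Nat.ble (nat_lit 7031) i)) (Nat.ble (nat_lit 7030) i)) (Nat.ble (nat_lit 7028) i)) (@Bool.rec (fun _ => ℕ) (@Bool.rec (fun _ => ℕ) (@Bool.rec (fun _ => ℕ) rb7032 rb7033 (Nat.ble (nat_lit 7033) i)) (@Bool.rec (fun _ => ℕ) rb7034 rb7035 (Nat.ble (nat_lit 7035) i)) (Nat.ble (nat_lit 7034) i)) (@Bool.rec (fun _ => ℕ) (@Bool.rec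 (fun _ => ℕ) rb7036 rb7037 (Nat.ble (nat_lit 7037) i)) (@Bool.rec (fun _ => ℕ) rb7038 rb7039 (Nat.ble (nat_lit 7039) i)) (Nat.ble (nat_lit 7038) i)) (Nat.ble (nat_lit 7036) i)) (Nat.ble (nat_lit 7032) i)) (Nat.ble (nat_lit 7024) i))

def rowBlk_n0_220 (i : ℕ) : ℕ := (@Bool.rec (fun _ => ℕ) (@Bool.rec (fun _ => ℕ) (@Bool.rec (fun _ => ℕ) (@Bool.rec (fun _ => ℕ) (@Bool.rec (fun _ => ℕ) rb7040 rb7041 (Nat.ble (nat_lit 7041) i)) (@Bool.rec (fun _ => ℕ) rb7042 rb7043 (Nat.ble (nat_lit 7043) i)) (Nat.ble (nat_lit 7042) i)) (@Bool.rec (fun _ => ℕ) (@Bool.rec (fun _ => ℕ) rb7044 rb7045 (Nat.ble (nat_lit 7045) i)) (@Bool.rec (fun _ => ℕ) rb7046 rb7047 (Nat.ble (nat_lit 7047) i)) (Nat.ble (nat_lit 7046) i)) (Nat.ble (nat_lit 7044) i)) (@Bool.rec (fun _ => ℕ) (@Bool.rec (fun _ => ℕ) (@Bool.rec (fun _ => ℕ) rb7048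 rb7049 (Nat.ble (nat_lit 7049) i)) (@Bool.rec (fun _ => ℕ) rb7050 rb7051 (Nat.ble (nat_lit 7051) i)) (Nat.ble (nat_lit 7050) i)) (@Bool.rec (fun _ => ℕ) (@Bool.rec (fun _ => ℕ) rb7052 rb7053 (Nat.ble (nat_lit 7053) i)) (@Bool.rec (fun _ => ℕ) rb7054 rb7055 (Nat.ble (nat_lit 7055) i)) (Nat.ble (nat_lit 7054) i)) (Nat.ble (nat_lit 7052) i)) (Nat.ble (nat_lit 7048) i)) (@Bool.rec (fun _ => ℕ) (@Bool.rec (fun _ => ℕ) (@Bool.rec (fun _ => ℕ) (@Bool.rec (fun _ => ℕ) rb7056 rb7057 (Nat.ble (nat_lit 7057) i)) (@Bool.rec (fun _ => ℕ) rb7058 rb7059 (Nat.ble (nat_lit 7059) i)) (Nat.ble (nat_lit 7058) i)) (@Bool.rec (fun _ => ℕ) (@Bool.rec (fun _ => ℕ) rb7060 rb7061 (Nat.ble (nat_lit 7061) i)) (@Bool.rec (fun _ => ℕ) rb7062 rb7063 (Nat.ble (nat_lit 7063) i)) (Nat.ble (nat_lit 7062) i)) (Nat.ble (nat_lit 7060) i))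 (@Bool.rec (fun _ => ℕ) (@Bool.rec (fun _ => ℕ) (@Bool.rec (fun _ => ℕ) rb7064 rb7065 (Nat.ble (nat_lit 7065) i)) (@Bool.rec (fun _ => ℕ) rb7066 rb7067 (Nat.ble (nat_lit 7067) i)) (Nat.ble (nat_lit 7066) i)) (@Bool.rec (fun _ => ℕ) (@Bool.rec (fun _ => ℕ) rb7068 rb7069 (Nat.ble (nat_lit 7069) i)) (@Bool.rec (fun _ => ℕ) rb7070 rb7071 (Nat.ble (nat_lit 7071) i)) (Nat.ble (nat_lit 7070) i)) (Nat.ble (nat_lit 7068) i)) (Nat.ble (nat_lit 7064) i)) (Nat.ble (nat_lit 7056) i))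

def rowBlk_n0_221 (i : ℕ) : ℕ := (@Bool.rec (fun _ => ℕ) (@Bool.rec (fun _ => ℕ) (@Bool.rec (fun _ => ℕ) (@Bool.rec (fun _ => ℕ) (@Bool.rec (fun _ => ℕ) rb7072 rb7073 (Nat.ble (nat_lit 7073) i)) (@Bool.rec (fun _ => ℕ) rb7074 rb7075 (Nat.ble (nat_lit 7075) i)) (Nat.ble (nat_lit 7074) i)) (@Bool.rec (fun _ => ℕ) (@Bool.rec (fun _ => ℕ) rb7076 rb7077 (Nat.ble (nat_lit 7077) i)) (@Bool.rec (fun _ => ℕ) rb7078 rb7079 (Nat.ble (nat_lit 7079) i)) (Nat.ble (nat_lit 7078) i)) (Nat.ble (nat_lit 7076) i)) (@Bool.rec (fun _ => ℕ) (@Bool.rec (fun _ => ℕ) (@Bool.rec (fun _ => ℕ) rb7080 rb7081 (Nat.ble (nat_lit 7081) i)) (@Bool.rec (fun _ => ℕ) rb7082 rb7083 (Nat.ble (nat_lit 7083) i)) (Nat.ble (nat_lit 7082) i)) (@Bool.rec (fun _ => ℕ) (@Bool.rec (fun _ => ℕ) rb7084 rb7085 (Nat.ble (nat_lit 7085) i)) (@Bool.rec (fun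 _ => ℕ) rb7086 rb7087 (Nat.ble (nat_lit 7087) i)) (Nat.ble (nat_lit 7086) i)) (Nat.ble (nat_lit 7084) i)) (Nat.ble (nat_lit 7080) i)) (@Bool.rec (fun _ => ℕ) (@Bool.rec (fun _ => ℕ) (@Bool.rec (fun _ => ℕ) (@Bool.rec (fun _ => ℕ) rb7088 rb7089 (Nat.ble (nat_lit 7089) i)) (@Bool.rec (fun _ => ℕ) rb7090 rb7091 (Nat.ble (nat_lit 7091) i)) (Nat.ble (nat_lit 7090) i)) (@Bool.rec (fun _ => ℕ) (@Bool.rec (fun _ => ℕ) rb7092 rb7093 (Nat.ble (nat_lit 7093) i)) (@Bool.rec (fun _ => ℕ) rb7094 rb7095 (Nat.ble (nat_lit 7095) i)) (Nat.ble (nat_lit 7094) i)) (Nat.ble (nat_lit 7092) i)) (@Bool.rec (fun _ => ℕ) (@Bool.rec (fun _ => ℕ) (@Bool.rec (fun _ => ℕ) rb7096 rb7097 (Nat.ble (nat_lit 7097) i)) (@Bool.rec (fun _ => ℕ) rb7098 rb7099 (Nat.ble (nat_lit 7099) i)) (Nat.ble (nat_lit 7098) i)) (@Bool.rec (fun _ => ℕ) (@Bool.rec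 (fun _ => ℕ) rb7100 rb7101 (Nat.ble (nat_lit 7101) i)) (@Bool.rec (fun _ => ℕ) rb7102 rb7103 (Nat.ble (nat_lit 7103) i)) (Nat.ble (nat_lit 7102) i)) (Nat.ble (nat_lit 7100) i)) (Nat.ble (nat_lit 7096) i)) (Nat.ble (nat_lit 7088) i))

def rowBlk_n0_222 (i : ℕ) : ℕ := (@Bool.rec (fun _ => ℕ) (@Bool.rec (fun _ => ℕ) (@Bool.rec (fun _ => ℕ) (@Bool.rec (fun _ => ℕ) (@Bool.rec (fun _ => ℕ) rb7104 rb7105 (Nat.ble (nat_lit 7105) i)) (@Bool.rec (fun _ => ℕ) rb7106 rb7107 (Nat.ble (nat_lit 7107) i)) (Nat.ble (nat_lit 7106) i)) (@Bool.rec (fun _ => ℕ) (@Bool.rec (fun _ => ℕ) rb7108 rb7109 (Nat.ble (nat_lit 7109) i)) (@Bool.rec (fun _ => ℕ) rb7110 rb7111 (Nat.ble (nat_lit 7111) i)) (Nat.ble (nat_lit 7110) i)) (Nat.ble (nat_lit 7108) i)) (@Bool.rec (fun _ => ℕ) (@Bool.rec (fun _ => ℕ) (@Bool.rec (fun _ => ℕ) rb7112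 rb7113 (Nat.ble (nat_lit 7113) i)) (@Bool.rec (fun _ => ℕ) rb7114 rb7115 (Nat.ble (nat_lit 7115) i)) (Nat.ble (nat_lit 7114) i)) (@Bool.rec (fun _ => ℕ) (@Bool.rec (fun _ => ℕ) rb7116 rb7117 (Nat.ble (nat_lit 7117) i)) (@Bool.rec (fun _ => ℕ) rb7118 rb7119 (Nat.ble (nat_lit 7119) i)) (Nat.ble (nat_lit 7118) i)) (Nat.ble (nat_lit 7116) i)) (Nat.ble (nat_lit 7112) i)) (@Bool.rec (fun _ => ℕ) (@Bool.rec (fun _ => ℕ) (@Bool.rec (fun _ => ℕ) (@Bool.rec (fun _ => ℕ) rb7120 rb7121 (Nat.ble (nat_lit 7121) i)) (@Bool.rec (fun _ => ℕ) rb7122 rb7123 (Nat.ble (nat_lit 7123) i)) (Nat.ble (nat_lit 7122) i)) (@Bool.rec (fun _ => ℕ) (@Bool.rec (fun _ => ℕ) rb7124 rb7125 (Nat.ble (nat_lit 7125) i)) (@Bool.rec (fun _ => ℕ) rb7126 rb7127 (Nat.ble (nat_lit 7127) i)) (Nat.ble (nat_lit 7126) i)) (Nat.ble (nat_lit 7124) i))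 (@Bool.rec (fun _ => ℕ) (@Bool.rec (fun _ => ℕ) (@Bool.rec (fun _ => ℕ) rb7128 rb7129 (Nat.ble (nat_lit 7129) i)) (@Bool.rec (fun _ => ℕ) rb7130 rb7131 (Nat.ble (nat_lit 7131) i)) (Nat.ble (nat_lit 7130) i)) (@Bool.rec (fun _ => ℕ) (@Bool.rec (fun _ => ℕ) rb7132 rb7133 (Nat.ble (nat_lit 7133) i)) (@Bool.rec (fun _ => ℕ) rb7134 rb7135 (Nat.ble (nat_lit 7135) i)) (Nat.ble (nat_lit 7134) i)) (Nat.ble (nat_lit 7132) i)) (Nat.ble (nat_lit 7128) i)) (Nat.ble (nat_lit 7120) i))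

def rowBlk_n0_223 (i : ℕ) : ℕ := (@Bool.rec (fun _ => ℕ) (@Bool.rec (fun _ => ℕ) (@Bool.rec (fun _ => ℕ) (@Bool.rec (fun _ => ℕ) (@Bool.rec (fun _ => ℕ) rb7136 rb7137 (Nat.ble (nat_lit 7137) i)) (@Bool.rec (fun _ => ℕ) rb7138 rb7139 (Nat.ble (nat_lit 7139) i)) (Nat.ble (nat_lit 7138) i)) (@Bool.rec (fun _ => ℕ) (@Bool.rec (fun _ => ℕ) rb7140 rb7141 (Nat.ble (nat_lit 7141) i)) (@Bool.rec (fun _ => ℕ) rb7142 rb7143 (Nat.ble (nat_lit 7143) i)) (Nat.ble (nat_lit 7142) i)) (Nat.ble (nat_lit 7140) i)) (@Bool.rec (fun _ => ℕ) (@Bool.rec (fun _ => ℕ) (@Bool.rec (fun _ => ℕ) rb7144 rb7145 (Nat.ble (nat_lit 7145) i)) (@Bool.rec (fun _ => ℕ) rb7146 rb7147 (Nat.ble (nat_lit 7147) i)) (Nat.ble (nat_lit 7146) i)) (@Bool.rec (fun _ => ℕ) (@Bool.rec (fun _ => ℕ) rb7148 rb7149 (Nat.ble (nat_lit 7149) i)) (@Bool.rec (fun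 _ => ℕ) rb7150 rb7151 (Nat.ble (nat_lit 7151) i)) (Nat.ble (nat_lit 7150) i)) (Nat.ble (nat_lit 7148) i)) (Nat.ble (nat_lit 7144) i)) (@Bool.rec (fun _ => ℕ) (@Bool.rec (fun _ => ℕ) (@Bool.rec (fun _ => ℕ) (@Bool.rec (fun _ => ℕ) rb7152 rb7153 (Nat.ble (nat_lit 7153) i)) (@Bool.rec (fun _ => ℕ) rb7154 rb7155 (Nat.ble (nat_lit 7155) i)) (Nat.ble (nat_lit 7154) i)) (@Bool.rec (fun _ => ℕ) (@Bool.rec (fun _ => ℕ) rb7156 rb7157 (Nat.ble (nat_lit 7157) i)) (@Bool.rec (fun _ => ℕ) rb7158 rb7159 (Nat.ble (nat_lit 7159) i)) (Nat.ble (nat_lit 7158) i)) (Nat.ble (nat_lit 7156) i)) (@Bool.rec (fun _ => ℕ) (@Bool.rec (fun _ => ℕ) (@Bool.rec (fun _ => ℕ) rb7160 rb7161 (Nat.ble (nat_lit 7161) i)) (@Bool.rec (fun _ => ℕ) rb7162 rb7163 (Nat.ble (nat_lit 7163) i)) (Nat.ble (nat_lit 7162) i)) (@Bool.rec (fun _ => ℕ) (@Bool.rec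 (fun _ => ℕ) rb7164 rb7165 (Nat.ble (nat_lit 7165) i)) (@Bool.rec (fun _ => ℕ) rb7166 rb7167 (Nat.ble (nat_lit 7167) i)) (Nat.ble (nat_lit 7166) i)) (Nat.ble (nat_lit 7164) i)) (Nat.ble (nat_lit 7160) i)) (Nat.ble (nat_lit 7152) i))

def rowBlk_n0_224 (i : ℕ) : ℕ := (@Bool.rec (fun _ => ℕ) (@Bool.rec (fun _ => ℕ) (@Bool.rec (fun _ => ℕ) (@Bool.rec (fun _ => ℕ) (@Bool.rec (fun _ => ℕ) rb7168 rb7169 (Nat.ble (nat_lit 7169) i)) (@Bool.rec (fun _ => ℕ) rb7170 rb7171 (Nat.ble (nat_lit 7171) i)) (Nat.ble (nat_lit 7170) i)) (@Bool.rec (fun _ => ℕ) (@Bool.rec (fun _ => ℕ) rb7172 rb7173 (Nat.ble (nat_lit 7173) i)) (@Bool.rec (fun _ => ℕ) rb7174 rb7175 (Nat.ble (nat_lit 7175) i)) (Nat.ble (nat_lit 7174) i)) (Nat.ble (nat_lit 7172) i)) (@Bool.rec (fun _ => ℕ) (@Bool.rec (fun _ => ℕ) (@Bool.rec (fun _ => ℕ) rb7176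 rb7177 (Nat.ble (nat_lit 7177) i)) (@Bool.rec (fun _ => ℕ) rb7178 rb7179 (Nat.ble (nat_lit 7179) i)) (Nat.ble (nat_lit 7178) i)) (@Bool.rec (fun _ => ℕ) (@Bool.rec (fun _ => ℕ) rb7180 rb7181 (Nat.ble (nat_lit 7181) i)) (@Bool.rec (fun _ => ℕ) rb7182 rb7183 (Nat.ble (nat_lit 7183) i)) (Nat.ble (nat_lit 7182) i)) (Nat.ble (nat_lit 7180) i)) (Nat.ble (nat_lit 7176) i)) (@Bool.rec (fun _ => ℕ) (@Bool.rec (fun _ => ℕ) (@Bool.rec (fun _ => ℕ) (@Bool.rec (fun _ => ℕ) rb7184 rb7185 (Nat.ble (nat_lit 7185) i)) (@Bool.rec (fun _ => ℕ) rb7186 rb7187 (Nat.ble (nat_lit 7187) i)) (Nat.ble (nat_lit 7186) i)) (@Bool.rec (fun _ => ℕ) (@Bool.rec (fun _ => ℕ) rb7188 rb7189 (Nat.ble (nat_lit 7189) i)) (@Bool.rec (fun _ => ℕ) rb7190 rb7191 (Nat.ble (nat_lit 7191) i)) (Nat.ble (nat_lit 7190) i)) (Nat.ble (nat_lit 7188) i))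 (@Bool.rec (fun _ => ℕ) (@Bool.rec (fun _ => ℕ) (@Bool.rec (fun _ => ℕ) rb7192 rb7193 (Nat.ble (nat_lit 7193) i)) (@Bool.rec (fun _ => ℕ) rb7194 rb7195 (Nat.ble (nat_lit 7195) i)) (Nat.ble (nat_lit 7194) i)) (@Bool.rec (fun _ => ℕ) (@Bool.rec (fun _ => ℕ) rb7196 rb7197 (Nat.ble (nat_lit 7197) i)) (@Bool.rec (fun _ => ℕ) rb7198 rb7199 (Nat.ble (nat_lit 7199) i)) (Nat.ble (nat_lit 7198) i)) (Nat.ble (nat_lit 7196) i)) (Nat.ble (nat_lit 7192) i)) (Nat.ble (nat_lit 7184) i))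

def rowBlk_n0_225 (i : ℕ) : ℕ := (@Bool.rec (fun _ => ℕ) (@Bool.rec (fun _ => ℕ) (@Bool.rec (fun _ => ℕ) (@Bool.rec (fun _ => ℕ) (@Bool.rec (fun _ => ℕ) rb7200 rb7201 (Nat.ble (nat_lit 7201) i)) (@Bool.rec (fun _ => ℕ) rb7202 rb7203 (Nat.ble (nat_lit 7203) i)) (Nat.ble (nat_lit 7202) i)) (@Bool.rec (fun _ => ℕ) (@Bool.rec (fun _ => ℕ) rb7204 rb7205 (Nat.ble (nat_lit 7205) i)) (@Bool.rec (fun _ => ℕ) rb7206 rb7207 (Nat.ble (nat_lit 7207) i)) (Nat.ble (nat_lit 7206) i)) (Nat.ble (nat_lit 7204) i)) (@Bool.rec (fun _ => ℕ) (@Bool.rec (fun _ => ℕ) (@Bool.rec (fun _ => ℕ) rb7208 rb7209 (Nat.ble (nat_lit 7209) i)) (@Bool.rec (fun _ => ℕ) rb7210 rb7211 (Nat.ble (nat_lit 7211) i)) (Nat.ble (nat_lit 7210) i)) (@Bool.rec (fun _ => ℕ) (@Bool.rec (fun _ => ℕ) rb7212 rb7213 (Nat.ble (nat_lit 7213) i)) (@Bool.rec (fun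 _ => ℕ) rb7214 rb7215 (Nat.ble (nat_lit 7215) i)) (Nat.ble (nat_lit 7214) i)) (Nat.ble (nat_lit 7212) i)) (Nat.ble (nat_lit 7208) i)) (@Bool.rec (fun _ => ℕ) (@Bool.rec (fun _ => ℕ) (@Bool.rec (fun _ => ℕ) (@Bool.rec (fun _ => ℕ) rb7216 rb7217 (Nat.ble (nat_lit 7217) i)) (@Bool.rec (fun _ => ℕ) rb7218 rb7219 (Nat.ble (nat_lit 7219) i)) (Nat.ble (nat_lit 7218) i)) (@Bool.rec (fun _ => ℕ) (@Bool.rec (fun _ => ℕ) rb7220 rb7221 (Nat.ble (nat_lit 7221) i)) (@Bool.rec (fun _ => ℕ) rb7222 rb7223 (Nat.ble (nat_lit 7223) i)) (Nat.ble (nat_lit 7222) i)) (Nat.ble (nat_lit 7220) i)) (@Bool.rec (fun _ => ℕ) (@Bool.rec (fun _ => ℕ) (@Bool.rec (fun _ => ℕ) rb7224 rb7225 (Nat.ble (nat_lit 7225) i)) (@Bool.rec (fun _ => ℕ) rb7226 rb7227 (Nat.ble (nat_lit 7227) i)) (Nat.ble (nat_lit 7226) i)) (@Bool.rec (fun _ => ℕ) (@Bool.rec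 (fun _ => ℕ) rb7228 rb7229 (Nat.ble (nat_lit 7229) i)) (@Bool.rec (fun _ => ℕ) rb7230 rb7231 (Nat.ble (nat_lit 7231) i)) (Nat.ble (nat_lit 7230) i)) (Nat.ble (nat_lit 7228) i)) (Nat.ble (nat_lit 7224) i)) (Nat.ble (nat_lit 7216) i))

def rowBlk_n0_226 (i : ℕ) : ℕ := (@Bool.rec (fun _ => ℕ) (@Bool.rec (fun _ => ℕ) (@Bool.rec (fun _ => ℕ) (@Bool.rec (fun _ => ℕ) (@Bool.rec (fun _ => ℕ) rb7232 rb7233 (Nat.ble (nat_lit 7233) i)) (@Bool.rec (fun _ => ℕ) rb7234 rb7235 (Nat.ble (nat_lit 7235) i)) (Nat.ble (nat_lit 7234) i)) (@Bool.rec (fun _ => ℕ) (@Bool.rec (fun _ => ℕ) rb7236 rb7237 (Nat.ble (nat_lit 7237) i)) (@Bool.rec (fun _ => ℕ) rb7238 rb7239 (Nat.ble (nat_lit 7239) i)) (Nat.ble (nat_lit 7238) i)) (Nat.ble (nat_lit 7236) i)) (@Bool.rec (fun _ => ℕ) (@Bool.rec (fun _ => ℕ) (@Bool.rec (fun _ => ℕ) rb7240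 rb7241 (Nat.ble (nat_lit 7241) i)) (@Bool.rec (fun _ => ℕ) rb7242 rb7243 (Nat.ble (nat_lit 7243) i)) (Nat.ble (nat_lit 7242) i)) (@Bool.rec (fun _ => ℕ) (@Bool.rec (fun _ => ℕ) rb7244 rb7245 (Nat.ble (nat_lit 7245) i)) (@Bool.rec (fun _ => ℕ) rb7246 rb7247 (Nat.ble (nat_lit 7247) i)) (Nat.ble (nat_lit 7246) i)) (Nat.ble (nat_lit 7244) i)) (Nat.ble (nat_lit 7240) i)) (@Bool.rec (fun _ => ℕ) (@Bool.rec (fun _ => ℕ) (@Bool.rec (fun _ => ℕ) (@Bool.rec (fun _ => ℕ) rb7248 rb7249 (Nat.ble (nat_lit 7249) i)) (@Bool.rec (fun _ => ℕ) rb7250 rb7251 (Nat.ble (nat_lit 7251) i)) (Nat.ble (nat_lit 7250) i)) (@Bool.rec (fun _ => ℕ) (@Bool.rec (fun _ => ℕ) rb7252 rb7253 (Nat.ble (nat_lit 7253) i)) (@Bool.rec (fun _ => ℕ) rb7254 rb7255 (Nat.ble (nat_lit 7255) i)) (Nat.ble (nat_lit 7254) i)) (Nat.ble (nat_lit 7252) i))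 (@Bool.rec (fun _ => ℕ) (@Bool.rec (fun _ => ℕ) (@Bool.rec (fun _ => ℕ) rb7256 rb7257 (Nat.ble (nat_lit 7257) i)) (@Bool.rec (fun _ => ℕ) rb7258 rb7259 (Nat.ble (nat_lit 7259) i)) (Nat.ble (nat_lit 7258) i)) (@Bool.rec (fun _ => ℕ) (@Bool.rec (fun _ => ℕ) rb7260 rb7261 (Nat.ble (nat_lit 7261) i)) (@Bool.rec (fun _ => ℕ) rb7262 rb7263 (Nat.ble (nat_lit 7263) i)) (Nat.ble (nat_lit 7262) i)) (Nat.ble (nat_lit 7260) i)) (Nat.ble (nat_lit 7256) i)) (Nat.ble (nat_lit 7248) i))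

def rowBlk_n0_227 (i : ℕ) : ℕ := (@Bool.rec (fun _ => ℕ) (@Bool.rec (fun _ => ℕ) (@Bool.rec (fun _ => ℕ) (@Bool.rec (fun _ => ℕ) (@Bool.rec (fun _ => ℕ) rb7264 rb7265 (Nat.ble (nat_lit 7265) i)) (@Bool.rec (fun _ => ℕ) rb7266 rb7267 (Nat.ble (nat_lit 7267) i)) (Nat.ble (nat_lit 7266) i)) (@Bool.rec (fun _ => ℕ) (@Bool.rec (fun _ => ℕ) rb7268 rb7269 (Nat.ble (nat_lit 7269) i)) (@Bool.rec (fun _ => ℕ) rb7270 rb7271 (Nat.ble (nat_lit 7271) i)) (Nat.ble (nat_lit 7270) i)) (Nat.ble (nat_lit 7268) i)) (@Bool.rec (fun _ => ℕ) (@Bool.rec (fun _ => ℕ) (@Bool.rec (fun _ => ℕ) rb7272 rb7273 (Nat.ble (nat_lit 7273) i)) (@Bool.rec (fun _ => ℕ) rb7274 rb7275 (Nat.ble (nat_lit 7275) i)) (Nat.ble (nat_lit 7274) i)) (@Bool.rec (fun _ => ℕ) (@Bool.rec (fun _ => ℕ) rb7276 rb7277 (Nat.ble (nat_lit 7277) i)) (@Bool.rec (fun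 _ => ℕ) rb7278 rb7279 (Nat.ble (nat_lit 7279) i)) (Nat.ble (nat_lit 7278) i)) (Nat.ble (nat_lit 7276) i)) (Nat.ble (nat_lit 7272) i)) (@Bool.rec (fun _ => ℕ) (@Bool.rec (fun _ => ℕ) (@Bool.rec (fun _ => ℕ) (@Bool.rec (fun _ => ℕ) rb7280 rb7281 (Nat.ble (nat_lit 7281) i)) (@Bool.rec (fun _ => ℕ) rb7282 rb7283 (Nat.ble (nat_lit 7283) i)) (Nat.ble (nat_lit 7282) i)) (@Bool.rec (fun _ => ℕ) (@Bool.rec (fun _ => ℕ) rb7284 rb7285 (Nat.ble (nat_lit 7285) i)) (@Bool.rec (fun _ => ℕ) rb7286 rb7287 (Nat.ble (nat_lit 7287) i)) (Nat.ble (nat_lit 7286) i)) (Nat.ble (nat_lit 7284) i)) (@Bool.rec (fun _ => ℕ) (@Bool.rec (fun _ => ℕ) (@Bool.rec (fun _ => ℕ) rb7288 rb7289 (Nat.ble (nat_lit 7289) i)) (@Bool.rec (fun _ => ℕ) rb7290 rb7291 (Nat.ble (nat_lit 7291) i)) (Nat.ble (nat_lit 7290) i)) (@Bool.rec (fun _ => ℕ) (@Bool.rec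 (fun _ => ℕ) rb7292 rb7293 (Nat.ble (nat_lit 7293) i)) (@Bool.rec (fun _ => ℕ) rb7294 rb7295 (Nat.ble (nat_lit 7295) i)) (Nat.ble (nat_lit 7294) i)) (Nat.ble (nat_lit 7292) i)) (Nat.ble (nat_lit 7288) i)) (Nat.ble (nat_lit 7280) i))

def rowBlk_n0_228 (i : ℕ) : ℕ := (@Bool.rec (fun _ => ℕ) (@Bool.rec (fun _ => ℕ) (@Bool.rec (fun _ => ℕ) (@Bool.rec (fun _ => ℕ) (@Bool.rec (fun _ => ℕ) rb7296 rb7297 (Nat.ble (nat_lit 7297) i)) (@Bool.rec (fun _ => ℕ) rb7298 rb7299 (Nat.ble (nat_lit 7299) i)) (Nat.ble (nat_lit 7298) i)) (@Bool.rec (fun _ => ℕ) (@Bool.rec (fun _ => ℕ) rb7300 rb7301 (Nat.ble (nat_lit 7301) i)) (@Bool.rec (fun _ => ℕ) rb7302 rb7303 (Nat.ble (nat_lit 7303) i)) (Nat.ble (nat_lit 7302) i)) (Nat.ble (nat_lit 7300) i)) (@Bool.rec (fun _ => ℕ) (@Bool.rec (fun _ => ℕ) (@Bool.rec (fun _ => ℕ) rb7304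 rb7305 (Nat.ble (nat_lit 7305) i)) (@Bool.rec (fun _ => ℕ) rb7306 rb7307 (Nat.ble (nat_lit 7307) i)) (Nat.ble (nat_lit 7306) i)) (@Bool.rec (fun _ => ℕ) (@Bool.rec (fun _ => ℕ) rb7308 rb7309 (Nat.ble (nat_lit 7309) i)) (@Bool.rec (fun _ => ℕ) rb7310 rb7311 (Nat.ble (nat_lit 7311) i)) (Nat.ble (nat_lit 7310) i)) (Nat.ble (nat_lit 7308) i)) (Nat.ble (nat_lit 7304) i)) (@Bool.rec (fun _ => ℕ) (@Bool.rec (fun _ => ℕ) (@Bool.rec (fun _ => ℕ) (@Bool.rec (fun _ => ℕ) rb7312 rb7313 (Nat.ble (nat_lit 7313) i)) (@Bool.rec (fun _ => ℕ) rb7314 rb7315 (Nat.ble (nat_lit 7315) i)) (Nat.ble (nat_lit 7314) i)) (@Bool.rec (fun _ => ℕ) (@Bool.rec (fun _ => ℕ) rb7316 rb7317 (Nat.ble (nat_lit 7317) i)) (@Bool.rec (fun _ => ℕ) rb7318 rb7319 (Nat.ble (nat_lit 7319) i)) (Nat.ble (nat_lit 7318) i)) (Nat.ble (nat_lit 7316) i))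 (@Bool.rec (fun _ => ℕ) (@Bool.rec (fun _ => ℕ) (@Bool.rec (fun _ => ℕ) rb7320 rb7321 (Nat.ble (nat_lit 7321) i)) (@Bool.rec (fun _ => ℕ) rb7322 rb7323 (Nat.ble (nat_lit 7323) i)) (Nat.ble (nat_lit 7322) i)) (@Bool.rec (fun _ => ℕ) (@Bool.rec (fun _ => ℕ) rb7324 rb7325 (Nat.ble (nat_lit 7325) i)) (@Bool.rec (fun _ => ℕ) rb7326 rb7327 (Nat.ble (nat_lit 7327) i)) (Nat.ble (nat_lit 7326) i)) (Nat.ble (nat_lit 7324) i)) (Nat.ble (nat_lit 7320) i)) (Nat.ble (nat_lit 7312) i))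

def rowBlk_n0_229 (i : ℕ) : ℕ := (@Bool.rec (fun _ => ℕ) (@Bool.rec (fun _ => ℕ) (@Bool.rec (fun _ => ℕ) (@Bool.rec (fun _ => ℕ) (@Bool.rec (fun _ => ℕ) rb7328 rb7329 (Nat.ble (nat_lit 7329) i)) (@Bool.rec (fun _ => ℕ) rb7330 rb7331 (Nat.ble (nat_lit 7331) i)) (Nat.ble (nat_lit 7330) i)) (@Bool.rec (fun _ => ℕ) (@Bool.rec (fun _ => ℕ) rb7332 rb7333 (Nat.ble (nat_lit 7333) i)) (@Bool.rec (fun _ => ℕ) rb7334 rb7335 (Nat.ble (nat_lit 7335) i)) (Nat.ble (nat_lit 7334) i)) (Nat.ble (nat_lit 7332) i)) (@Bool.rec (fun _ => ℕ) (@Bool.rec (fun _ => ℕ) (@Bool.rec (fun _ => ℕ) rb7336 rb7337 (Nat.ble (nat_lit 7337) i)) (@Bool.rec (fun _ => ℕ) rb7338 rb7339 (Nat.ble (nat_lit 7339) i)) (Nat.ble (nat_lit 7338) i)) (@Bool.rec (fun _ => ℕ) (@Bool.rec (fun _ => ℕ) rb7340 rb7341 (Nat.ble (nat_lit 7341) i)) (@Bool.rec (fun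 _ => ℕ) rb7342 rb7343 (Nat.ble (nat_lit 7343) i)) (Nat.ble (nat_lit 7342) i)) (Nat.ble (nat_lit 7340) i)) (Nat.ble (nat_lit 7336) i)) (@Bool.rec (fun _ => ℕ) (@Bool.rec (fun _ => ℕ) (@Bool.rec (fun _ => ℕ) (@Bool.rec (fun _ => ℕ) rb7344 rb7345 (Nat.ble (nat_lit 7345) i)) (@Bool.rec (fun _ => ℕ) rb7346 rb7347 (Nat.ble (nat_lit 7347) i)) (Nat.ble (nat_lit 7346) i)) (@Bool.rec (fun _ => ℕ) (@Bool.rec (fun _ => ℕ) rb7348 rb7349 (Nat.ble (nat_lit 7349) i)) (@Bool.rec (fun _ => ℕ) rb7350 rb7351 (Nat.ble (nat_lit 7351) i)) (Nat.ble (nat_lit 7350) i)) (Nat.ble (nat_lit 7348) i)) (@Bool.rec (fun _ => ℕ) (@Bool.rec (fun _ => ℕ) (@Bool.rec (fun _ => ℕ) rb7352 rb7353 (Nat.ble (nat_lit 7353) i)) (@Bool.rec (fun _ => ℕ) rb7354 rb7355 (Nat.ble (nat_lit 7355) i)) (Nat.ble (nat_lit 7354) i)) (@Bool.rec (fun _ => ℕ) (@Bool.rec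 (fun _ => ℕ) rb7356 rb7357 (Nat.ble (nat_lit 7357) i)) (@Bool.rec (fun _ => ℕ) rb7358 rb7359 (Nat.ble (nat_lit 7359) i)) (Nat.ble (nat_lit 7358) i)) (Nat.ble (nat_lit 7356) i)) (Nat.ble (nat_lit 7352) i)) (Nat.ble (nat_lit 7344) i))

def rowBlk_n0_230 (i : ℕ) : ℕ := (@Bool.rec (fun _ => ℕ) (@Bool.rec (fun _ => ℕ) (@Bool.rec (fun _ => ℕ) (@Bool.rec (fun _ => ℕ) (@Bool.rec (fun _ => ℕ) rb7360 rb7361 (Nat.ble (nat_lit 7361) i)) (@Bool.rec (fun _ => ℕ) rb7362 rb7363 (Nat.ble (nat_lit 7363) i)) (Nat.ble (nat_lit 7362) i)) (@Bool.rec (fun _ => ℕ) (@Bool.rec (fun _ => ℕ) rb7364 rb7365 (Nat.ble (nat_lit 7365) i)) (@Bool.rec (fun _ => ℕ) rb7366 rb7367 (Nat.ble (nat_lit 7367) i)) (Nat.ble (nat_lit 7366) i)) (Nat.ble (nat_lit 7364) i)) (@Bool.rec (fun _ => ℕ) (@Bool.rec (fun _ => ℕ) (@Bool.rec (fun _ => ℕ) rb7368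 rb7369 (Nat.ble (nat_lit 7369) i)) (@Bool.rec (fun _ => ℕ) rb7370 rb7371 (Nat.ble (nat_lit 7371) i)) (Nat.ble (nat_lit 7370) i)) (@Bool.rec (fun _ => ℕ) (@Bool.rec (fun _ => ℕ) rb7372 rb7373 (Nat.ble (nat_lit 7373) i)) (@Bool.rec (fun _ => ℕ) rb7374 rb7375 (Nat.ble (nat_lit 7375) i)) (Nat.ble (nat_lit 7374) i)) (Nat.ble (nat_lit 7372) i)) (Nat.ble (nat_lit 7368) i)) (@Bool.rec (fun _ => ℕ) (@Bool.rec (fun _ => ℕ) (@Bool.rec (fun _ => ℕ) (@Bool.rec (fun _ => ℕ) rb7376 rb7377 (Nat.ble (nat_lit 7377) i)) (@Bool.rec (fun _ => ℕ) rb7378 rb7379 (Nat.ble (nat_lit 7379) i)) (Nat.ble (nat_lit 7378) i)) (@Bool.rec (fun _ => ℕ) (@Bool.rec (fun _ => ℕ) rb7380 rb7381 (Nat.ble (nat_lit 7381) i)) (@Bool.rec (fun _ => ℕ) rb7382 rb7383 (Nat.ble (nat_lit 7383) i)) (Nat.ble (nat_lit 7382) i)) (Nat.ble (nat_lit 7380) i))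 (@Bool.rec (fun _ => ℕ) (@Bool.rec (fun _ => ℕ) (@Bool.rec (fun _ => ℕ) rb7384 rb7385 (Nat.ble (nat_lit 7385) i)) (@Bool.rec (fun _ => ℕ) rb7386 rb7387 (Nat.ble (nat_lit 7387) i)) (Nat.ble (nat_lit 7386) i)) (@Bool.rec (fun _ => ℕ) (@Bool.rec (fun _ => ℕ) rb7388 rb7389 (Nat.ble (nat_lit 7389) i)) (@Bool.rec (fun _ => ℕ) rb7390 rb7391 (Nat.ble (nat_lit 7391) i)) (Nat.ble (nat_lit 7390) i)) (Nat.ble (nat_lit 7388) i)) (Nat.ble (nat_lit 7384) i)) (Nat.ble (nat_lit 7376) i))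

def rowBlk_n0_231 (i : ℕ) : ℕ := (@Bool.rec (fun _ => ℕ) (@Bool.rec (fun _ => ℕ) (@Bool.rec (fun _ => ℕ) (@Bool.rec (fun _ => ℕ) (@Bool.rec (fun _ => ℕ) rb7392 rb7393 (Nat.ble (nat_lit 7393) i)) (@Bool.rec (fun _ => ℕ) rb7394 rb7395 (Nat.ble (nat_lit 7395) i)) (Nat.ble (nat_lit 7394) i)) (@Bool.rec (fun _ => ℕ) (@Bool.rec (fun _ => ℕ) rb7396 rb7397 (Nat.ble (nat_lit 7397) i)) (@Bool.rec (fun _ => ℕ) rb7398 rb7399 (Nat.ble (nat_lit 7399) i)) (Nat.ble (nat_lit 7398) i)) (Nat.ble (nat_lit 7396) i)) (@Bool.rec (fun _ => ℕ) (@Bool.rec (fun _ => ℕ) (@Bool.rec (fun _ => ℕ) rb7400 rb7401 (Nat.ble (nat_lit 7401) i)) (@Bool.rec (fun _ => ℕ) rb7402 rb7403 (Nat.ble (nat_lit 7403) i)) (Nat.ble (nat_lit 7402) i)) (@Bool.rec (fun _ => ℕ) (@Bool.rec (fun _ => ℕ) rb7404 rb7405 (Nat.ble (nat_lit 7405) i)) (@Bool.rec (fun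 _ => ℕ) rb7406 rb7407 (Nat.ble (nat_lit 7407) i)) (Nat.ble (nat_lit 7406) i)) (Nat.ble (nat_lit 7404) i)) (Nat.ble (nat_lit 7400) i)) (@Bool.rec (fun _ => ℕ) (@Bool.rec (fun _ => ℕ) (@Bool.rec (fun _ => ℕ) (@Bool.rec (fun _ => ℕ) rb7408 rb7409 (Nat.ble (nat_lit 7409) i)) (@Bool.rec (fun _ => ℕ) rb7410 rb7411 (Nat.ble (nat_lit 7411) i)) (Nat.ble (nat_lit 7410) i)) (@Bool.rec (fun _ => ℕ) (@Bool.rec (fun _ => ℕ) rb7412 rb7413 (Nat.ble (nat_lit 7413) i)) (@Bool.rec (fun _ => ℕ) rb7414 rb7415 (Nat.ble (nat_lit 7415) i)) (Nat.ble (nat_lit 7414) i)) (Nat.ble (nat_lit 7412) i)) (@Bool.rec (fun _ => ℕ) (@Bool.rec (fun _ => ℕ) (@Bool.rec (fun _ => ℕ) rb7416 rb7417 (Nat.ble (nat_lit 7417) i)) (@Bool.rec (fun _ => ℕ) rb7418 rb7419 (Nat.ble (nat_lit 7419) i)) (Nat.ble (nat_lit 7418) i)) (@Bool.rec (fun _ => ℕ) (@Bool.rec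 (fun _ => ℕ) rb7420 rb7421 (Nat.ble (nat_lit 7421) i)) (@Bool.rec (fun _ => ℕ) rb7422 rb7423 (Nat.ble (nat_lit 7423) i)) (Nat.ble (nat_lit 7422) i)) (Nat.ble (nat_lit 7420) i)) (Nat.ble (nat_lit 7416) i)) (Nat.ble (nat_lit 7408) i))

def rowBlk_n0_232 (i : ℕ) : ℕ := (@Bool.rec (fun _ => ℕ) (@Bool.rec (fun _ => ℕ) (@Bool.rec (fun _ => ℕ) (@Bool.rec (fun _ => ℕ) (@Bool.rec (fun _ => ℕ) rb7424 rb7425 (Nat.ble (nat_lit 7425) i)) (@Bool.rec (fun _ => ℕ) rb7426 rb7427 (Nat.ble (nat_lit 7427) i)) (Nat.ble (nat_lit 7426) i)) (@Bool.rec (fun _ => ℕ) (@Bool.rec (fun _ => ℕ) rb7428 rb7429 (Nat.ble (nat_lit 7429) i)) (@Bool.rec (fun _ => ℕ) rb7430 rb7431 (Nat.ble (nat_lit 7431) i)) (Nat.ble (nat_lit 7430) i)) (Nat.ble (nat_lit 7428) i)) (@Bool.rec (fun _ => ℕ) (@Bool.rec (fun _ => ℕ) (@Bool.rec (fun _ => ℕ) rb7432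 rb7433 (Nat.ble (nat_lit 7433) i)) (@Bool.rec (fun _ => ℕ) rb7434 rb7435 (Nat.ble (nat_lit 7435) i)) (Nat.ble (nat_lit 7434) i)) (@Bool.rec (fun _ => ℕ) (@Bool.rec (fun _ => ℕ) rb7436 rb7437 (Nat.ble (nat_lit 7437) i)) (@Bool.rec (fun _ => ℕ) rb7438 rb7439 (Nat.ble (nat_lit 7439) i)) (Nat.ble (nat_lit 7438) i)) (Nat.ble (nat_lit 7436) i)) (Nat.ble (nat_lit 7432) i)) (@Bool.rec (fun _ => ℕ) (@Bool.rec (fun _ => ℕ) (@Bool.rec (fun _ => ℕ) (@Bool.rec (fun _ => ℕ) rb7440 rb7441 (Nat.ble (nat_lit 7441) i)) (@Bool.rec (fun _ => ℕ) rb7442 rb7443 (Nat.ble (nat_lit 7443) i)) (Nat.ble (nat_lit 7442) i)) (@Bool.rec (fun _ => ℕ) (@Bool.rec (fun _ => ℕ) rb7444 rb7445 (Nat.ble (nat_lit 7445) i)) (@Bool.rec (fun _ => ℕ) rb7446 rb7447 (Nat.ble (nat_lit 7447) i)) (Nat.ble (nat_lit 7446) i)) (Nat.ble (nat_lit 7444) i))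 (@Bool.rec (fun _ => ℕ) (@Bool.rec (fun _ => ℕ) (@Bool.rec (fun _ => ℕ) rb7448 rb7449 (Nat.ble (nat_lit 7449) i)) (@Bool.rec (fun _ => ℕ) rb7450 rb7451 (Nat.ble (nat_lit 7451) i)) (Nat.ble (nat_lit 7450) i)) (@Bool.rec (fun _ => ℕ) (@Bool.rec (fun _ => ℕ) rb7452 rb7453 (Nat.ble (nat_lit 7453) i)) (@Bool.rec (fun _ => ℕ) rb7454 rb7455 (Nat.ble (nat_lit 7455) i)) (Nat.ble (nat_lit 7454) i)) (Nat.ble (nat_lit 7452) i)) (Nat.ble (nat_lit 7448) i)) (Nat.ble (nat_lit 7440) i))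

def rowBlk_n0_233 (i : ℕ) : ℕ := (@Bool.rec (fun _ => ℕ) (@Bool.rec (fun _ => ℕ) (@Bool.rec (fun _ => ℕ) (@Bool.rec (fun _ => ℕ) (@Bool.rec (fun _ => ℕ) rb7456 rb7457 (Nat.ble (nat_lit 7457) i)) (@Bool.rec (fun _ => ℕ) rb7458 rb7459 (Nat.ble (nat_lit 7459) i)) (Nat.ble (nat_lit 7458) i)) (@Bool.rec (fun _ => ℕ) (@Bool.rec (fun _ => ℕ) rb7460 rb7461 (Nat.ble (nat_lit 7461) i)) (@Bool.rec (fun _ => ℕ) rb7462 rb7463 (Nat.ble (nat_lit 7463) i)) (Nat.ble (nat_lit 7462) i)) (Nat.ble (nat_lit 7460) i)) (@Bool.rec (fun _ => ℕ) (@Bool.rec (fun _ => ℕ) (@Bool.rec (fun _ => ℕ) rb7464 rb7465 (Nat.ble (nat_lit 7465) i)) (@Bool.rec (fun _ => ℕ) rb7466 rb7467 (Nat.ble (nat_lit 7467) i)) (Nat.ble (nat_lit 7466) i)) (@Bool.rec (fun _ => ℕ) (@Bool.rec (fun _ => ℕ) rb7468 rb7469 (Nat.ble (nat_lit 7469) i)) (@Bool.rec (fun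 _ => ℕ) rb7470 rb7471 (Nat.ble (nat_lit 7471) i)) (Nat.ble (nat_lit 7470) i)) (Nat.ble (nat_lit 7468) i)) (Nat.ble (nat_lit 7464) i)) (@Bool.rec (fun _ => ℕ) (@Bool.rec (fun _ => ℕ) (@Bool.rec (fun _ => ℕ) (@Bool.rec (fun _ => ℕ) rb7472 rb7473 (Nat.ble (nat_lit 7473) i)) (@Bool.rec (fun _ => ℕ) rb7474 rb7475 (Nat.ble (nat_lit 7475) i)) (Nat.ble (nat_lit 7474) i)) (@Bool.rec (fun _ => ℕ) (@Bool.rec (fun _ => ℕ) rb7476 rb7477 (Nat.ble (nat_lit 7477) i)) (@Bool.rec (fun _ => ℕ) rb7478 rb7479 (Nat.ble (nat_lit 7479) i)) (Nat.ble (nat_lit 7478) i)) (Nat.ble (nat_lit 7476) i)) (@Bool.rec (fun _ => ℕ) (@Bool.rec (fun _ => ℕ) (@Bool.rec (fun _ => ℕ) rb7480 rb7481 (Nat.ble (nat_lit 7481) i)) (@Bool.rec (fun _ => ℕ) rb7482 rb7483 (Nat.ble (nat_lit 7483) i)) (Nat.ble (nat_lit 7482) i)) (@Bool.rec (fun _ => ℕ) (@Bool.rec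 (fun _ => ℕ) rb7484 rb7485 (Nat.ble (nat_lit 7485) i)) (@Bool.rec (fun _ => ℕ) rb7486 rb7487 (Nat.ble (nat_lit 7487) i)) (Nat.ble (nat_lit 7486) i)) (Nat.ble (nat_lit 7484) i)) (Nat.ble (nat_lit 7480) i)) (Nat.ble (nat_lit 7472) i))

def rowBlk_n0_234 (i : ℕ) : ℕ := (@Bool.rec (fun _ => ℕ) (@Bool.rec (fun _ => ℕ) (@Bool.rec (fun _ => ℕ) (@Bool.rec (fun _ => ℕ) (@Bool.rec (fun _ => ℕ) rb7488 rb7489 (Nat.ble (nat_lit 7489) i)) (@Bool.rec (fun _ => ℕ) rb7490 rb7491 (Nat.ble (nat_lit 7491) i)) (Nat.ble (nat_lit 7490) i)) (@Bool.rec (fun _ => ℕ) (@Bool.rec (fun _ => ℕ) rb7492 rb7493 (Nat.ble (nat_lit 7493) i)) (@Bool.rec (fun _ => ℕ) rb7494 rb7495 (Nat.ble (nat_lit 7495) i)) (Nat.ble (nat_lit 7494) i)) (Nat.ble (nat_lit 7492) i)) (@Bool.rec (fun _ => ℕ) (@Bool.rec (fun _ => ℕ) (@Bool.rec (fun _ => ℕ) rb7496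 rb7497 (Nat.ble (nat_lit 7497) i)) (@Bool.rec (fun _ => ℕ) rb7498 rb7499 (Nat.ble (nat_lit 7499) i)) (Nat.ble (nat_lit 7498) i)) (@Bool.rec (fun _ => ℕ) (@Bool.rec (fun _ => ℕ) rb7500 rb7501 (Nat.ble (nat_lit 7501) i)) (@Bool.rec (fun _ => ℕ) rb7502 rb7503 (Nat.ble (nat_lit 7503) i)) (Nat.ble (nat_lit 7502) i)) (Nat.ble (nat_lit 7500) i)) (Nat.ble (nat_lit 7496) i)) (@Bool.rec (fun _ => ℕ) (@Bool.rec (fun _ => ℕ) (@Bool.rec (fun _ => ℕ) (@Bool.rec (fun _ => ℕ) rb7504 rb7505 (Nat.ble (nat_lit 7505) i)) (@Bool.rec (fun _ => ℕ) rb7506 rb7507 (Nat.ble (nat_lit 7507) i)) (Nat.ble (nat_lit 7506) i)) (@Bool.rec (fun _ => ℕ) (@Bool.rec (fun _ => ℕ) rb7508 rb7509 (Nat.ble (nat_lit 7509) i)) (@Bool.rec (fun _ => ℕ) rb7510 rb7511 (Nat.ble (nat_lit 7511) i)) (Nat.ble (nat_lit 7510) i)) (Nat.ble (nat_lit 7508) i))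 (@Bool.rec (fun _ => ℕ) (@Bool.rec (fun _ => ℕ) (@Bool.rec (fun _ => ℕ) rb7512 rb7513 (Nat.ble (nat_lit 7513) i)) (@Bool.rec (fun _ => ℕ) rb7514 rb7515 (Nat.ble (nat_lit 7515) i)) (Nat.ble (nat_lit 7514) i)) (@Bool.rec (fun _ => ℕ) (@Bool.rec (fun _ => ℕ) rb7516 rb7517 (Nat.ble (nat_lit 7517) i)) (@Bool.rec (fun _ => ℕ) rb7518 rb7519 (Nat.ble (nat_lit 7519) i)) (Nat.ble (nat_lit 7518) i)) (Nat.ble (nat_lit 7516) i)) (Nat.ble (nat_lit 7512) i)) (Nat.ble (nat_lit 7504) i))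

def rowBlk_n0_235 (i : ℕ) : ℕ := (@Bool.rec (fun _ => ℕ) (@Bool.rec (fun _ => ℕ) (@Bool.rec (fun _ => ℕ) (@Bool.rec (fun _ => ℕ) (@Bool.rec (fun _ => ℕ) rb7520 rb7521 (Nat.ble (nat_lit 7521) i)) (@Bool.rec (fun _ => ℕ) rb7522 rb7523 (Nat.ble (nat_lit 7523) i)) (Nat.ble (nat_lit 7522) i)) (@Bool.rec (fun _ => ℕ) (@Bool.rec (fun _ => ℕ) rb7524 rb7525 (Nat.ble (nat_lit 7525) i)) (@Bool.rec (fun _ => ℕ) rb7526 rb7527 (Nat.ble (nat_lit 7527) i)) (Nat.ble (nat_lit 7526) i)) (Nat.ble (nat_lit 7524) i)) (@Bool.rec (fun _ => ℕ) (@Bool.rec (fun _ => ℕ) (@Bool.rec (fun _ => ℕ) rb7528 rb7529 (Nat.ble (nat_lit 7529) i)) (@Bool.rec (fun _ => ℕ) rb7530 rb7531 (Nat.ble (nat_lit 7531) i)) (Nat.ble (nat_lit 7530) i)) (@Bool.rec (fun _ => ℕ) (@Bool.rec (fun _ => ℕ) rb7532 rb7533 (Nat.ble (nat_lit 7533) i)) (@Bool.rec (fun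 _ => ℕ) rb7534 rb7535 (Nat.ble (nat_lit 7535) i)) (Nat.ble (nat_lit 7534) i)) (Nat.ble (nat_lit 7532) i)) (Nat.ble (nat_lit 7528) i)) (@Bool.rec (fun _ => ℕ) (@Bool.rec (fun _ => ℕ) (@Bool.rec (fun _ => ℕ) (@Bool.rec (fun _ => ℕ) rb7536 rb7537 (Nat.ble (nat_lit 7537) i)) (@Bool.rec (fun _ => ℕ) rb7538 rb7539 (Nat.ble (nat_lit 7539) i)) (Nat.ble (nat_lit 7538) i)) (@Bool.rec (fun _ => ℕ) (@Bool.rec (fun _ => ℕ) rb7540 rb7541 (Nat.ble (nat_lit 7541) i)) (@Bool.rec (fun _ => ℕ) rb7542 rb7543 (Nat.ble (nat_lit 7543) i)) (Nat.ble (nat_lit 7542) i)) (Nat.ble (nat_lit 7540) i)) (@Bool.rec (fun _ => ℕ) (@Bool.rec (fun _ => ℕ) (@Bool.rec (fun _ => ℕ) rb7544 rb7545 (Nat.ble (nat_lit 7545) i)) (@Bool.rec (fun _ => ℕ) rb7546 rb7547 (Nat.ble (nat_lit 7547) i)) (Nat.ble (nat_lit 7546) i)) (@Bool.rec (fun _ => ℕ) (@Bool.rec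 (fun _ => ℕ) rb7548 rb7549 (Nat.ble (nat_lit 7549) i)) (@Bool.rec (fun _ => ℕ) rb7550 rb7551 (Nat.ble (nat_lit 7551) i)) (Nat.ble (nat_lit 7550) i)) (Nat.ble (nat_lit 7548) i)) (Nat.ble (nat_lit 7544) i)) (Nat.ble (nat_lit 7536) i))

def rowBlk_n0_236 (i : ℕ) : ℕ := (@Bool.rec (fun _ => ℕ) (@Bool.rec (fun _ => ℕ) (@Bool.rec (fun _ => ℕ) (@Bool.rec (fun _ => ℕ) (@Bool.rec (fun _ => ℕ) rb7552 rb7553 (Nat.ble (nat_lit 7553) i)) (@Bool.rec (fun _ => ℕ) rb7554 rb7555 (Nat.ble (nat_lit 7555) i)) (Nat.ble (nat_lit 7554) i)) (@Bool.rec (fun _ => ℕ) (@Bool.rec (fun _ => ℕ) rb7556 rb7557 (Nat.ble (nat_lit 7557) i)) (@Bool.rec (fun _ => ℕ) rb7558 rb7559 (Nat.ble (nat_lit 7559) i)) (Nat.ble (nat_lit 7558) i)) (Nat.ble (nat_lit 7556) i)) (@Bool.rec (fun _ => ℕ) (@Bool.rec (fun _ => ℕ) (@Bool.rec (fun _ => ℕ) rb7560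 rb7561 (Nat.ble (nat_lit 7561) i)) (@Bool.rec (fun _ => ℕ) rb7562 rb7563 (Nat.ble (nat_lit 7563) i)) (Nat.ble (nat_lit 7562) i)) (@Bool.rec (fun _ => ℕ) (@Bool.rec (fun _ => ℕ) rb7564 rb7565 (Nat.ble (nat_lit 7565) i)) (@Bool.rec (fun _ => ℕ) rb7566 rb7567 (Nat.ble (nat_lit 7567) i)) (Nat.ble (nat_lit 7566) i)) (Nat.ble (nat_lit 7564) i)) (Nat.ble (nat_lit 7560) i)) (@Bool.rec (fun _ => ℕ) (@Bool.rec (fun _ => ℕ) (@Bool.rec (fun _ => ℕ) (@Bool.rec (fun _ => ℕ) rb7568 rb7569 (Nat.ble (nat_lit 7569) i)) (@Bool.rec (fun _ => ℕ) rb7570 rb7571 (Nat.ble (nat_lit 7571) i)) (Nat.ble (nat_lit 7570) i)) (@Bool.rec (fun _ => ℕ) (@Bool.rec (fun _ => ℕ) rb7572 rb7573 (Nat.ble (nat_lit 7573) i)) (@Bool.rec (fun _ => ℕ) rb7574 rb7575 (Nat.ble (nat_lit 7575) i)) (Nat.ble (nat_lit 7574) i)) (Nat.ble (nat_lit 7572) i))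 (@Bool.rec (fun _ => ℕ) (@Bool.rec (fun _ => ℕ) (@Bool.rec (fun _ => ℕ) rb7576 rb7577 (Nat.ble (nat_lit 7577) i)) (@Bool.rec (fun _ => ℕ) rb7578 rb7579 (Nat.ble (nat_lit 7579) i)) (Nat.ble (nat_lit 7578) i)) (@Bool.rec (fun _ => ℕ) (@Bool.rec (fun _ => ℕ) rb7580 rb7581 (Nat.ble (nat_lit 7581) i)) (@Bool.rec (fun _ => ℕ) rb7582 rb7583 (Nat.ble (nat_lit 7583) i)) (Nat.ble (nat_lit 7582) i)) (Nat.ble (nat_lit 7580) i)) (Nat.ble (nat_lit 7576) i)) (Nat.ble (nat_lit 7568) i))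

def rowBlk_n0_237 (i : ℕ) : ℕ := (@Bool.rec (fun _ => ℕ) (@Bool.rec (fun _ => ℕ) (@Bool.rec (fun _ => ℕ) (@Bool.rec (fun _ => ℕ) (@Bool.rec (fun _ => ℕ) rb7584 rb7585 (Nat.ble (nat_lit 7585) i)) (@Bool.rec (fun _ => ℕ) rb7586 rb7587 (Nat.ble (nat_lit 7587) i)) (Nat.ble (nat_lit 7586) i)) (@Bool.rec (fun _ => ℕ) (@Bool.rec (fun _ => ℕ) rb7588 rb7589 (Nat.ble (nat_lit 7589) i)) (@Bool.rec (fun _ => ℕ) rb7590 rb7591 (Nat.ble (nat_lit 7591) i)) (Nat.ble (nat_lit 7590) i)) (Nat.ble (nat_lit 7588) i)) (@Bool.rec (fun _ => ℕ) (@Bool.rec (fun _ => ℕ) (@Bool.rec (fun _ => ℕ) rb7592 rb7593 (Nat.ble (nat_lit 7593) i)) (@Bool.rec (fun _ => ℕ) rb7594 rb7595 (Nat.ble (nat_lit 7595) i)) (Nat.ble (nat_lit 7594) i)) (@Bool.rec (fun _ => ℕ) (@Bool.rec (fun _ => ℕ) rb7596 rb7597 (Nat.ble (nat_lit 7597) i)) (@Bool.rec (fun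 _ => ℕ) rb7598 rb7599 (Nat.ble (nat_lit 7599) i)) (Nat.ble (nat_lit 7598) i)) (Nat.ble (nat_lit 7596) i)) (Nat.ble (nat_lit 7592) i)) (@Bool.rec (fun _ => ℕ) (@Bool.rec (fun _ => ℕ) (@Bool.rec (fun _ => ℕ) (@Bool.rec (fun _ => ℕ) rb7600 rb7601 (Nat.ble (nat_lit 7601) i)) (@Bool.rec (fun _ => ℕ) rb7602 rb7603 (Nat.ble (nat_lit 7603) i)) (Nat.ble (nat_lit 7602) i)) (@Bool.rec (fun _ => ℕ) (@Bool.rec (fun _ => ℕ) rb7604 rb7605 (Nat.ble (nat_lit 7605) i)) (@Bool.rec (fun _ => ℕ) rb7606 rb7607 (Nat.ble (nat_lit 7607) i)) (Nat.ble (nat_lit 7606) i)) (Nat.ble (nat_lit 7604) i)) (@Bool.rec (fun _ => ℕ) (@Bool.rec (fun _ => ℕ) (@Bool.rec (fun _ => ℕ) rb7608 rb7609 (Nat.ble (nat_lit 7609) i)) (@Bool.rec (fun _ => ℕ) rb7610 rb7611 (Nat.ble (nat_lit 7611) i)) (Nat.ble (nat_lit 7610) i)) (@Bool.rec (fun _ => ℕ) (@Bool.rec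 (fun _ => ℕ) rb7612 rb7613 (Nat.ble (nat_lit 7613) i)) (@Bool.rec (fun _ => ℕ) rb7614 rb7615 (Nat.ble (nat_lit 7615) i)) (Nat.ble (nat_lit 7614) i)) (Nat.ble (nat_lit 7612) i)) (Nat.ble (nat_lit 7608) i)) (Nat.ble (nat_lit 7600) i))

def rowBlk_n0_238 (i : ℕ) : ℕ := (@Bool.rec (fun _ => ℕ) (@Bool.rec (fun _ => ℕ) (@Bool.rec (fun _ => ℕ) (@Bool.rec (fun _ => ℕ) (@Bool.rec (fun _ => ℕ) rb7616 rb7617 (Nat.ble (nat_lit 7617) i)) (@Bool.rec (fun _ => ℕ) rb7618 rb7619 (Nat.ble (nat_lit 7619) i)) (Nat.ble (nat_lit 7618) i)) (@Bool.rec (fun _ => ℕ) (@Bool.rec (fun _ => ℕ) rb7620 rb7621 (Nat.ble (nat_lit 7621) i)) (@Bool.rec (fun _ => ℕ) rb7622 rb7623 (Nat.ble (nat_lit 7623) i)) (Nat.ble (nat_lit 7622) i)) (Nat.ble (nat_lit 7620) i)) (@Bool.rec (fun _ => ℕ) (@Bool.rec (fun _ => ℕ) (@Bool.rec (fun _ => ℕ) rb7624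 rb7625 (Nat.ble (nat_lit 7625) i)) (@Bool.rec (fun _ => ℕ) rb7626 rb7627 (Nat.ble (nat_lit 7627) i)) (Nat.ble (nat_lit 7626) i)) (@Bool.rec (fun _ => ℕ) (@Bool.rec (fun _ => ℕ) rb7628 rb7629 (Nat.ble (nat_lit 7629) i)) (@Bool.rec (fun _ => ℕ) rb7630 rb7631 (Nat.ble (nat_lit 7631) i)) (Nat.ble (nat_lit 7630) i)) (Nat.ble (nat_lit 7628) i)) (Nat.ble (nat_lit 7624) i)) (@Bool.rec (fun _ => ℕ) (@Bool.rec (fun _ => ℕ) (@Bool.rec (fun _ => ℕ) (@Bool.rec (fun _ => ℕ) rb7632 rb7633 (Nat.ble (nat_lit 7633) i)) (@Bool.rec (fun _ => ℕ) rb7634 rb7635 (Nat.ble (nat_lit 7635) i)) (Nat.ble (nat_lit 7634) i)) (@Bool.rec (fun _ => ℕ) (@Bool.rec (fun _ => ℕ) rb7636 rb7637 (Nat.ble (nat_lit 7637) i)) (@Bool.rec (fun _ => ℕ) rb7638 rb7639 (Nat.ble (nat_lit 7639) i)) (Nat.ble (nat_lit 7638) i)) (Nat.ble (nat_lit 7636) i))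 (@Bool.rec (fun _ => ℕ) (@Bool.rec (fun _ => ℕ) (@Bool.rec (fun _ => ℕ) rb7640 rb7641 (Nat.ble (nat_lit 7641) i)) (@Bool.rec (fun _ => ℕ) rb7642 rb7643 (Nat.ble (nat_lit 7643) i)) (Nat.ble (nat_lit 7642) i)) (@Bool.rec (fun _ => ℕ) (@Bool.rec (fun _ => ℕ) rb7644 rb7645 (Nat.ble (nat_lit 7645) i)) (@Bool.rec (fun _ => ℕ) rb7646 rb7647 (Nat.ble (nat_lit 7647) i)) (Nat.ble (nat_lit 7646) i)) (Nat.ble (nat_lit 7644) i)) (Nat.ble (nat_lit 7640) i)) (Nat.ble (nat_lit 7632) i))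

def rowBlk_n0_239 (i : ℕ) : ℕ := (@Bool.rec (fun _ => ℕ) (@Bool.rec (fun _ => ℕ) (@Bool.rec (fun _ => ℕ) (@Bool.rec (fun _ => ℕ) (@Bool.rec (fun _ => ℕ) rb7648 rb7649 (Nat.ble (nat_lit 7649) i)) (@Bool.rec (fun _ => ℕ) rb7650 rb7651 (Nat.ble (nat_lit 7651) i)) (Nat.ble (nat_lit 7650) i)) (@Bool.rec (fun _ => ℕ) (@Bool.rec (fun _ => ℕ) rb7652 rb7653 (Nat.ble (nat_lit 7653) i)) (@Bool.rec (fun _ => ℕ) rb7654 rb7655 (Nat.ble (nat_lit 7655) i)) (Nat.ble (nat_lit 7654) i)) (Nat.ble (nat_lit 7652) i)) (@Bool.rec (fun _ => ℕ) (@Bool.rec (fun _ => ℕ) (@Bool.rec (fun _ => ℕ) rb7656 rb7657 (Nat.ble (nat_lit 7657) i)) (@Bool.rec (fun _ => ℕ) rb7658 rb7659 (Nat.ble (nat_lit 7659) i)) (Nat.ble (nat_lit 7658) i)) (@Bool.rec (fun _ => ℕ) (@Bool.rec (fun _ => ℕ) rb7660 rb7661 (Nat.ble (nat_lit 7661) i)) (@Bool.rec (fun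 _ => ℕ) rb7662 rb7663 (Nat.ble (nat_lit 7663) i)) (Nat.ble (nat_lit 7662) i)) (Nat.ble (nat_lit 7660) i)) (Nat.ble (nat_lit 7656) i)) (@Bool.rec (fun _ => ℕ) (@Bool.rec (fun _ => ℕ) (@Bool.rec (fun _ => ℕ) (@Bool.rec (fun _ => ℕ) rb7664 rb7665 (Nat.ble (nat_lit 7665) i)) (@Bool.rec (fun _ => ℕ) rb7666 rb7667 (Nat.ble (nat_lit 7667) i)) (Nat.ble (nat_lit 7666) i)) (@Bool.rec (fun _ => ℕ) (@Bool.rec (fun _ => ℕ) rb7668 rb7669 (Nat.ble (nat_lit 7669) i)) (@Bool.rec (fun _ => ℕ) rb7670 rb7671 (Nat.ble (nat_lit 7671) i)) (Nat.ble (nat_lit 7670) i)) (Nat.ble (nat_lit 7668) i)) (@Bool.rec (fun _ => ℕ) (@Bool.rec (fun _ => ℕ) (@Bool.rec (fun _ => ℕ) rb7672 rb7673 (Nat.ble (nat_lit 7673) i)) (@Bool.rec (fun _ => ℕ) rb7674 rb7675 (Nat.ble (nat_lit 7675) i)) (Nat.ble (nat_lit 7674) i)) (@Bool.rec (fun _ => ℕ) (@Bool.rec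 (fun _ => ℕ) rb7676 rb7677 (Nat.ble (nat_lit 7677) i)) (@Bool.rec (fun _ => ℕ) rb7678 rb7679 (Nat.ble (nat_lit 7679) i)) (Nat.ble (nat_lit 7678) i)) (Nat.ble (nat_lit 7676) i)) (Nat.ble (nat_lit 7672) i)) (Nat.ble (nat_lit 7664) i))

def rowBlk_n0_240 (i : ℕ) : ℕ := (@Bool.rec (fun _ => ℕ) (@Bool.rec (fun _ => ℕ) (@Bool.rec (fun _ => ℕ) (@Bool.rec (fun _ => ℕ) (@Bool.rec (fun _ => ℕ) rb7680 rb7681 (Nat.ble (nat_lit 7681) i)) (@Bool.rec (fun _ => ℕ) rb7682 rb7683 (Nat.ble (nat_lit 7683) i)) (Nat.ble (nat_lit 7682) i)) (@Bool.rec (fun _ => ℕ) (@Bool.rec (fun _ => ℕ) rb7684 rb7685 (Nat.ble (nat_lit 7685) i)) (@Bool.rec (fun _ => ℕ) rb7686 rb7687 (Nat.ble (nat_lit 7687) i)) (Nat.ble (nat_lit 7686) i)) (Nat.ble (nat_lit 7684) i)) (@Bool.rec (fun _ => ℕ) (@Bool.rec (fun _ => ℕ) (@Bool.rec (fun _ => ℕ) rb7688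 rb7689 (Nat.ble (nat_lit 7689) i)) (@Bool.rec (fun _ => ℕ) rb7690 rb7691 (Nat.ble (nat_lit 7691) i)) (Nat.ble (nat_lit 7690) i)) (@Bool.rec (fun _ => ℕ) (@Bool.rec (fun _ => ℕ) rb7692 rb7693 (Nat.ble (nat_lit 7693) i)) (@Bool.rec (fun _ => ℕ) rb7694 rb7695 (Nat.ble (nat_lit 7695) i)) (Nat.ble (nat_lit 7694) i)) (Nat.ble (nat_lit 7692) i)) (Nat.ble (nat_lit 7688) i)) (@Bool.rec (fun _ => ℕ) (@Bool.rec (fun _ => ℕ) (@Bool.rec (fun _ => ℕ) (@Bool.rec (fun _ => ℕ) rb7696 rb7697 (Nat.ble (nat_lit 7697) i)) (@Bool.rec (fun _ => ℕ) rb7698 rb7699 (Nat.ble (nat_lit 7699) i)) (Nat.ble (nat_lit 7698) i)) (@Bool.rec (fun _ => ℕ) (@Bool.rec (fun _ => ℕ) rb7700 rb7701 (Nat.ble (nat_lit 7701) i)) (@Bool.rec (fun _ => ℕ) rb7702 rb7703 (Nat.ble (nat_lit 7703) i)) (Nat.ble (nat_lit 7702) i)) (Nat.ble (nat_lit 7700) i))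 (@Bool.rec (fun _ => ℕ) (@Bool.rec (fun _ => ℕ) (@Bool.rec (fun _ => ℕ) rb7704 rb7705 (Nat.ble (nat_lit 7705) i)) (@Bool.rec (fun _ => ℕ) rb7706 rb7707 (Nat.ble (nat_lit 7707) i)) (Nat.ble (nat_lit 7706) i)) (@Bool.rec (fun _ => ℕ) (@Bool.rec (fun _ => ℕ) rb7708 rb7709 (Nat.ble (nat_lit 7709) i)) (@Bool.rec (fun _ => ℕ) rb7710 rb7711 (Nat.ble (nat_lit 7711) i)) (Nat.ble (nat_lit 7710) i)) (Nat.ble (nat_lit 7708) i)) (Nat.ble (nat_lit 7704) i)) (Nat.ble (nat_lit 7696) i))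

def rowBlk_n0_241 (i : ℕ) : ℕ := (@Bool.rec (fun _ => ℕ) (@Bool.rec (fun _ => ℕ) (@Bool.rec (fun _ => ℕ) (@Bool.rec (fun _ => ℕ) (@Bool.rec (fun _ => ℕ) rb7712 rb7713 (Nat.ble (nat_lit 7713) i)) (@Bool.rec (fun _ => ℕ) rb7714 rb7715 (Nat.ble (nat_lit 7715) i)) (Nat.ble (nat_lit 7714) i)) (@Bool.rec (fun _ => ℕ) (@Bool.rec (fun _ => ℕ) rb7716 rb7717 (Nat.ble (nat_lit 7717) i)) (@Bool.rec (fun _ => ℕ) rb7718 rb7719 (Nat.ble (nat_lit 7719) i)) (Nat.ble (nat_lit 7718) i)) (Nat.ble (nat_lit 7716) i)) (@Bool.rec (fun _ => ℕ) (@Bool.rec (fun _ => ℕ) (@Bool.rec (fun _ => ℕ) rb7720 rb7721 (Nat.ble (nat_lit 7721) i)) (@Bool.rec (fun _ => ℕ) rb7722 rb7723 (Nat.ble (nat_lit 7723) i)) (Nat.ble (nat_lit 7722) i)) (@Bool.rec (fun _ => ℕ) (@Bool.rec (fun _ => ℕ) rb7724 rb7725 (Nat.ble (nat_lit 7725) i)) (@Bool.rec (fun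 _ => ℕ) rb7726 rb7727 (Nat.ble (nat_lit 7727) i)) (Nat.ble (nat_lit 7726) i)) (Nat.ble (nat_lit 7724) i)) (Nat.ble (nat_lit 7720) i)) (@Bool.rec (fun _ => ℕ) (@Bool.rec (fun _ => ℕ) (@Bool.rec (fun _ => ℕ) (@Bool.rec (fun _ => ℕ) rb7728 rb7729 (Nat.ble (nat_lit 7729) i)) (@Bool.rec (fun _ => ℕ) rb7730 rb7731 (Nat.ble (nat_lit 7731) i)) (Nat.ble (nat_lit 7730) i)) (@Bool.rec (fun _ => ℕ) (@Bool.rec (fun _ => ℕ) rb7732 rb7733 (Nat.ble (nat_lit 7733) i)) (@Bool.rec (fun _ => ℕ) rb7734 rb7735 (Nat.ble (nat_lit 7735) i)) (Nat.ble (nat_lit 7734) i)) (Nat.ble (nat_lit 7732) i)) (@Bool.rec (fun _ => ℕ) (@Bool.rec (fun _ => ℕ) (@Bool.rec (fun _ => ℕ) rb7736 rb7737 (Nat.ble (nat_lit 7737) i)) (@Bool.rec (fun _ => ℕ) rb7738 rb7739 (Nat.ble (nat_lit 7739) i)) (Nat.ble (nat_lit 7738) i)) (@Bool.rec (fun _ => ℕ) (@Bool.rec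 (fun _ => ℕ) rb7740 rb7741 (Nat.ble (nat_lit 7741) i)) (@Bool.rec (fun _ => ℕ) rb7742 rb7743 (Nat.ble (nat_lit 7743) i)) (Nat.ble (nat_lit 7742) i)) (Nat.ble (nat_lit 7740) i)) (Nat.ble (nat_lit 7736) i)) (Nat.ble (nat_lit 7728) i))

def rowBlk_n0_242 (i : ℕ) : ℕ := (@Bool.rec (fun _ => ℕ) (@Bool.rec (fun _ => ℕ) (@Bool.rec (fun _ => ℕ) (@Bool.rec (fun _ => ℕ) (@Bool.rec (fun _ => ℕ) rb7744 rb7745 (Nat.ble (nat_lit 7745) i)) (@Bool.rec (fun _ => ℕ) rb7746 rb7747 (Nat.ble (nat_lit 7747) i)) (Nat.ble (nat_lit 7746) i)) (@Bool.rec (fun _ => ℕ) (@Bool.rec (fun _ => ℕ) rb7748 rb7749 (Nat.ble (nat_lit 7749) i)) (@Bool.rec (fun _ => ℕ) rb7750 rb7751 (Nat.ble (nat_lit 7751) i)) (Nat.ble (nat_lit 7750) i)) (Nat.ble (nat_lit 7748) i)) (@Bool.rec (fun _ => ℕ) (@Bool.rec (fun _ => ℕ) (@Bool.rec (fun _ => ℕ) rb7752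 rb7753 (Nat.ble (nat_lit 7753) i)) (@Bool.rec (fun _ => ℕ) rb7754 rb7755 (Nat.ble (nat_lit 7755) i)) (Nat.ble (nat_lit 7754) i)) (@Bool.rec (fun _ => ℕ) (@Bool.rec (fun _ => ℕ) rb7756 rb7757 (Nat.ble (nat_lit 7757) i)) (@Bool.rec (fun _ => ℕ) rb7758 rb7759 (Nat.ble (nat_lit 7759) i)) (Nat.ble (nat_lit 7758) i)) (Nat.ble (nat_lit 7756) i)) (Nat.ble (nat_lit 7752) i)) (@Bool.rec (fun _ => ℕ) (@Bool.rec (fun _ => ℕ) (@Bool.rec (fun _ => ℕ) (@Bool.rec (fun _ => ℕ) rb7760 rb7761 (Nat.ble (nat_lit 7761) i)) (@Bool.rec (fun _ => ℕ) rb7762 rb7763 (Nat.ble (nat_lit 7763) i)) (Nat.ble (nat_lit 7762) i)) (@Bool.rec (fun _ => ℕ) (@Bool.rec (fun _ => ℕ) rb7764 rb7765 (Nat.ble (nat_lit 7765) i)) (@Bool.rec (fun _ => ℕ) rb7766 rb7767 (Nat.ble (nat_lit 7767) i)) (Nat.ble (nat_lit 7766) i)) (Nat.ble (nat_lit 7764) i))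 (@Bool.rec (fun _ => ℕ) (@Bool.rec (fun _ => ℕ) (@Bool.rec (fun _ => ℕ) rb7768 rb7769 (Nat.ble (nat_lit 7769) i)) (@Bool.rec (fun _ => ℕ) rb7770 rb7771 (Nat.ble (nat_lit 7771) i)) (Nat.ble (nat_lit 7770) i)) (@Bool.rec (fun _ => ℕ) (@Bool.rec (fun _ => ℕ) rb7772 rb7773 (Nat.ble (nat_lit 7773) i)) (@Bool.rec (fun _ => ℕ) rb7774 rb7775 (Nat.ble (nat_lit 7775) i)) (Nat.ble (nat_lit 7774) i)) (Nat.ble (nat_lit 7772) i)) (Nat.ble (nat_lit 7768) i)) (Nat.ble (nat_lit 7760) i))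

def rowBlk_n0_243 (i : ℕ) : ℕ := (@Bool.rec (fun _ => ℕ) (@Bool.rec (fun _ => ℕ) (@Bool.rec (fun _ => ℕ) (@Bool.rec (fun _ => ℕ) (@Bool.rec (fun _ => ℕ) rb7776 rb7777 (Nat.ble (nat_lit 7777) i)) (@Bool.rec (fun _ => ℕ) rb7778 rb7779 (Nat.ble (nat_lit 7779) i)) (Nat.ble (nat_lit 7778) i)) (@Bool.rec (fun _ => ℕ) (@Bool.rec (fun _ => ℕ) rb7780 rb7781 (Nat.ble (nat_lit 7781) i)) (@Bool.rec (fun _ => ℕ) rb7782 rb7783 (Nat.ble (nat_lit 7783) i)) (Nat.ble (nat_lit 7782) i)) (Nat.ble (nat_lit 7780) i)) (@Bool.rec (fun _ => ℕ) (@Bool.rec (fun _ => ℕ) (@Bool.rec (fun _ => ℕ) rb7784 rb7785 (Nat.ble (nat_lit 7785) i)) (@Bool.rec (fun _ => ℕ) rb7786 rb7787 (Nat.ble (nat_lit 7787) i)) (Nat.ble (nat_lit 7786) i)) (@Bool.rec (fun _ => ℕ) (@Bool.rec (fun _ => ℕ) rb7788 rb7789 (Nat.ble (nat_lit 7789) i)) (@Bool.rec (fun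 _ => ℕ) rb7790 rb7791 (Nat.ble (nat_lit 7791) i)) (Nat.ble (nat_lit 7790) i)) (Nat.ble (nat_lit 7788) i)) (Nat.ble (nat_lit 7784) i)) (@Bool.rec (fun _ => ℕ) (@Bool.rec (fun _ => ℕ) (@Bool.rec (fun _ => ℕ) (@Bool.rec (fun _ => ℕ) rb7792 rb7793 (Nat.ble (nat_lit 7793) i)) (@Bool.rec (fun _ => ℕ) rb7794 rb7795 (Nat.ble (nat_lit 7795) i)) (Nat.ble (nat_lit 7794) i)) (@Bool.rec (fun _ => ℕ) (@Bool.rec (fun _ => ℕ) rb7796 rb7797 (Nat.ble (nat_lit 7797) i)) (@Bool.rec (fun _ => ℕ) rb7798 rb7799 (Nat.ble (nat_lit 7799) i)) (Nat.ble (nat_lit 7798) i)) (Nat.ble (nat_lit 7796) i)) (@Bool.rec (fun _ => ℕ) (@Bool.rec (fun _ => ℕ) (@Bool.rec (fun _ => ℕ) rb7800 rb7801 (Nat.ble (nat_lit 7801) i)) (@Bool.rec (fun _ => ℕ) rb7802 rb7803 (Nat.ble (nat_lit 7803) i)) (Nat.ble (nat_lit 7802) i)) (@Bool.rec (fun _ => ℕ) (@Bool.rec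 (fun _ => ℕ) rb7804 rb7805 (Nat.ble (nat_lit 7805) i)) (@Bool.rec (fun _ => ℕ) rb7806 rb7807 (Nat.ble (nat_lit 7807) i)) (Nat.ble (nat_lit 7806) i)) (Nat.ble (nat_lit 7804) i)) (Nat.ble (nat_lit 7800) i)) (Nat.ble (nat_lit 7792) i))

def rowBlk_n0_244 (i : ℕ) : ℕ := (@Bool.rec (fun _ => ℕ) (@Bool.rec (fun _ => ℕ) (@Bool.rec (fun _ => ℕ) (@Bool.rec (fun _ => ℕ) (@Bool.rec (fun _ => ℕ) rb7808 rb7809 (Nat.ble (nat_lit 7809) i)) (@Bool.rec (fun _ => ℕ) rb7810 rb7811 (Nat.ble (nat_lit 7811) i)) (Nat.ble (nat_lit 7810) i)) (@Bool.rec (fun _ => ℕ) (@Bool.rec (fun _ => ℕ) rb7812 rb7813 (Nat.ble (nat_lit 7813) i)) (@Bool.rec (fun _ => ℕ) rb7814 rb7815 (Nat.ble (nat_lit 7815) i)) (Nat.ble (nat_lit 7814) i)) (Nat.ble (nat_lit 7812) i)) (@Bool.rec (fun _ => ℕ) (@Bool.rec (fun _ => ℕ) (@Bool.rec (fun _ => ℕ) rb7816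 rb7817 (Nat.ble (nat_lit 7817) i)) (@Bool.rec (fun _ => ℕ) rb7818 rb7819 (Nat.ble (nat_lit 7819) i)) (Nat.ble (nat_lit 7818) i)) (@Bool.rec (fun _ => ℕ) (@Bool.rec (fun _ => ℕ) rb7820 rb7821 (Nat.ble (nat_lit 7821) i)) (@Bool.rec (fun _ => ℕ) rb7822 rb7823 (Nat.ble (nat_lit 7823) i)) (Nat.ble (nat_lit 7822) i)) (Nat.ble (nat_lit 7820) i)) (Nat.ble (nat_lit 7816) i)) (@Bool.rec (fun _ => ℕ) (@Bool.rec (fun _ => ℕ) (@Bool.rec (fun _ => ℕ) (@Bool.rec (fun _ => ℕ) rb7824 rb7825 (Nat.ble (nat_lit 7825) i)) (@Bool.rec (fun _ => ℕ) rb7826 rb7827 (Nat.ble (nat_lit 7827) i)) (Nat.ble (nat_lit 7826) i)) (@Bool.rec (fun _ => ℕ) (@Bool.rec (fun _ => ℕ) rb7828 rb7829 (Nat.ble (nat_lit 7829) i)) (@Bool.rec (fun _ => ℕ) rb7830 rb7831 (Nat.ble (nat_lit 7831) i)) (Nat.ble (nat_lit 7830) i)) (Nat.ble (nat_lit 7828) i))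 (@Bool.rec (fun _ => ℕ) (@Bool.rec (fun _ => ℕ) (@Bool.rec (fun _ => ℕ) rb7832 rb7833 (Nat.ble (nat_lit 7833) i)) (@Bool.rec (fun _ => ℕ) rb7834 rb7835 (Nat.ble (nat_lit 7835) i)) (Nat.ble (nat_lit 7834) i)) (@Bool.rec (fun _ => ℕ) (@Bool.rec (fun _ => ℕ) rb7836 rb7837 (Nat.ble (nat_lit 7837) i)) (@Bool.rec (fun _ => ℕ) rb7838 rb7839 (Nat.ble (nat_lit 7839) i)) (Nat.ble (nat_lit 7838) i)) (Nat.ble (nat_lit 7836) i)) (Nat.ble (nat_lit 7832) i)) (Nat.ble (nat_lit 7824) i))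

def rowBlk_n0_245 (i : ℕ) : ℕ := (@Bool.rec (fun _ => ℕ) (@Bool.rec (fun _ => ℕ) (@Bool.rec (fun _ => ℕ) (@Bool.rec (fun _ => ℕ) (@Bool.rec (fun _ => ℕ) rb7840 rb7841 (Nat.ble (nat_lit 7841) i)) (@Bool.rec (fun _ => ℕ) rb7842 rb7843 (Nat.ble (nat_lit 7843) i)) (Nat.ble (nat_lit 7842) i)) (@Bool.rec (fun _ => ℕ) (@Bool.rec (fun _ => ℕ) rb7844 rb7845 (Nat.ble (nat_lit 7845) i)) (@Bool.rec (fun _ => ℕ) rb7846 rb7847 (Nat.ble (nat_lit 7847) i)) (Nat.ble (nat_lit 7846) i)) (Nat.ble (nat_lit 7844) i)) (@Bool.rec (fun _ => ℕ) (@Bool.rec (fun _ => ℕ) (@Bool.rec (fun _ => ℕ) rb7848 rb7849 (Nat.ble (nat_lit 7849) i)) (@Bool.rec (fun _ => ℕ) rb7850 rb7851 (Nat.ble (nat_lit 7851) i)) (Nat.ble (nat_lit 7850) i)) (@Bool.rec (fun _ => ℕ) (@Bool.rec (fun _ => ℕ) rb7852 rb7853 (Nat.ble (nat_lit 7853) i)) (@Bool.rec (fun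 _ => ℕ) rb7854 rb7855 (Nat.ble (nat_lit 7855) i)) (Nat.ble (nat_lit 7854) i)) (Nat.ble (nat_lit 7852) i)) (Nat.ble (nat_lit 7848) i)) (@Bool.rec (fun _ => ℕ) (@Bool.rec (fun _ => ℕ) (@Bool.rec (fun _ => ℕ) (@Bool.rec (fun _ => ℕ) rb7856 rb7857 (Nat.ble (nat_lit 7857) i)) (@Bool.rec (fun _ => ℕ) rb7858 rb7859 (Nat.ble (nat_lit 7859) i)) (Nat.ble (nat_lit 7858) i)) (@Bool.rec (fun _ => ℕ) (@Bool.rec (fun _ => ℕ) rb7860 rb7861 (Nat.ble (nat_lit 7861) i)) (@Bool.rec (fun _ => ℕ) rb7862 rb7863 (Nat.ble (nat_lit 7863) i)) (Nat.ble (nat_lit 7862) i)) (Nat.ble (nat_lit 7860) i)) (@Bool.rec (fun _ => ℕ) (@Bool.rec (fun _ => ℕ) (@Bool.rec (fun _ => ℕ) rb7864 rb7865 (Nat.ble (nat_lit 7865) i)) (@Bool.rec (fun _ => ℕ) rb7866 rb7867 (Nat.ble (nat_lit 7867) i)) (Nat.ble (nat_lit 7866) i)) (@Bool.rec (fun _ => ℕ) (@Bool.rec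 (fun _ => ℕ) rb7868 rb7869 (Nat.ble (nat_lit 7869) i)) (@Bool.rec (fun _ => ℕ) rb7870 rb7871 (Nat.ble (nat_lit 7871) i)) (Nat.ble (nat_lit 7870) i)) (Nat.ble (nat_lit 7868) i)) (Nat.ble (nat_lit 7864) i)) (Nat.ble (nat_lit 7856) i))

def rowBlk_n0_246 (i : ℕ) : ℕ := (@Bool.rec (fun _ => ℕ) (@Bool.rec (fun _ => ℕ) (@Bool.rec (fun _ => ℕ) (@Bool.rec (fun _ => ℕ) (@Bool.rec (fun _ => ℕ) rb7872 rb7873 (Nat.ble (nat_lit 7873) i)) (@Bool.rec (fun _ => ℕ) rb7874 rb7875 (Nat.ble (nat_lit 7875) i)) (Nat.ble (nat_lit 7874) i)) (@Bool.rec (fun _ => ℕ) (@Bool.rec (fun _ => ℕ) rb7876 rb7877 (Nat.ble (nat_lit 7877) i)) (@Bool.rec (fun _ => ℕ) rb7878 rb7879 (Nat.ble (nat_lit 7879) i)) (Nat.ble (nat_lit 7878) i)) (Nat.ble (nat_lit 7876) i)) (@Bool.rec (fun _ => ℕ) (@Bool.rec (fun _ => ℕ) (@Bool.rec (fun _ => ℕ) rb7880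 rb7881 (Nat.ble (nat_lit 7881) i)) (@Bool.rec (fun _ => ℕ) rb7882 rb7883 (Nat.ble (nat_lit 7883) i)) (Nat.ble (nat_lit 7882) i)) (@Bool.rec (fun _ => ℕ) (@Bool.rec (fun _ => ℕ) rb7884 rb7885 (Nat.ble (nat_lit 7885) i)) (@Bool.rec (fun _ => ℕ) rb7886 rb7887 (Nat.ble (nat_lit 7887) i)) (Nat.ble (nat_lit 7886) i)) (Nat.ble (nat_lit 7884) i)) (Nat.ble (nat_lit 7880) i)) (@Bool.rec (fun _ => ℕ) (@Bool.rec (fun _ => ℕ) (@Bool.rec (fun _ => ℕ) (@Bool.rec (fun _ => ℕ) rb7888 rb7889 (Nat.ble (nat_lit 7889) i)) (@Bool.rec (fun _ => ℕ) rb7890 rb7891 (Nat.ble (nat_lit 7891) i)) (Nat.ble (nat_lit 7890) i)) (@Bool.rec (fun _ => ℕ) (@Bool.rec (fun _ => ℕ) rb7892 rb7893 (Nat.ble (nat_lit 7893) i)) (@Bool.rec (fun _ => ℕ) rb7894 rb7895 (Nat.ble (nat_lit 7895) i)) (Nat.ble (nat_lit 7894) i)) (Nat.ble (nat_lit 7892) i))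 (@Bool.rec (fun _ => ℕ) (@Bool.rec (fun _ => ℕ) (@Bool.rec (fun _ => ℕ) rb7896 rb7897 (Nat.ble (nat_lit 7897) i)) (@Bool.rec (fun _ => ℕ) rb7898 rb7899 (Nat.ble (nat_lit 7899) i)) (Nat.ble (nat_lit 7898) i)) (@Bool.rec (fun _ => ℕ) (@Bool.rec (fun _ => ℕ) rb7900 rb7901 (Nat.ble (nat_lit 7901) i)) (@Bool.rec (fun _ => ℕ) rb7902 rb7903 (Nat.ble (nat_lit 7903) i)) (Nat.ble (nat_lit 7902) i)) (Nat.ble (nat_lit 7900) i)) (Nat.ble (nat_lit 7896) i)) (Nat.ble (nat_lit 7888) i))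

def rowBlk_n0_247 (i : ℕ) : ℕ := (@Bool.rec (fun _ => ℕ) (@Bool.rec (fun _ => ℕ) (@Bool.rec (fun _ => ℕ) (@Bool.rec (fun _ => ℕ) (@Bool.rec (fun _ => ℕ) rb7904 rb7905 (Nat.ble (nat_lit 7905) i)) (@Bool.rec (fun _ => ℕ) rb7906 rb7907 (Nat.ble (nat_lit 7907) i)) (Nat.ble (nat_lit 7906) i)) (@Bool.rec (fun _ => ℕ) (@Bool.rec (fun _ => ℕ) rb7908 rb7909 (Nat.ble (nat_lit 7909) i)) (@Bool.rec (fun _ => ℕ) rb7910 rb7911 (Nat.ble (nat_lit 7911) i)) (Nat.ble (nat_lit 7910) i)) (Nat.ble (nat_lit 7908) i)) (@Bool.rec (fun _ => ℕ) (@Bool.rec (fun _ => ℕ) (@Bool.rec (fun _ => ℕ) rb7912 rb7913 (Nat.ble (nat_lit 7913) i)) (@Bool.rec (fun _ => ℕ) rb7914 rb7915 (Nat.ble (nat_lit 7915) i)) (Nat.ble (nat_lit 7914) i)) (@Bool.rec (fun _ => ℕ) (@Bool.rec (fun _ => ℕ) rb7916 rb7917 (Nat.ble (nat_lit 7917) i)) (@Bool.rec (fun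 _ => ℕ) rb7918 rb7919 (Nat.ble (nat_lit 7919) i)) (Nat.ble (nat_lit 7918) i)) (Nat.ble (nat_lit 7916) i)) (Nat.ble (nat_lit 7912) i)) (@Bool.rec (fun _ => ℕ) (@Bool.rec (fun _ => ℕ) (@Bool.rec (fun _ => ℕ) (@Bool.rec (fun _ => ℕ) rb7920 rb7921 (Nat.ble (nat_lit 7921) i)) (@Bool.rec (fun _ => ℕ) rb7922 rb7923 (Nat.ble (nat_lit 7923) i)) (Nat.ble (nat_lit 7922) i)) (@Bool.rec (fun _ => ℕ) (@Bool.rec (fun _ => ℕ) rb7924 rb7925 (Nat.ble (nat_lit 7925) i)) (@Bool.rec (fun _ => ℕ) rb7926 rb7927 (Nat.ble (nat_lit 7927) i)) (Nat.ble (nat_lit 7926) i)) (Nat.ble (nat_lit 7924) i)) (@Bool.rec (fun _ => ℕ) (@Bool.rec (fun _ => ℕ) (@Bool.rec (fun _ => ℕ) rb7928 rb7929 (Nat.ble (nat_lit 7929) i)) (@Bool.rec (fun _ => ℕ) rb7930 rb7931 (Nat.ble (nat_lit 7931) i)) (Nat.ble (nat_lit 7930) i)) (@Bool.rec (fun _ => ℕ) (@Bool.rec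 (fun _ => ℕ) rb7932 rb7933 (Nat.ble (nat_lit 7933) i)) (@Bool.rec (fun _ => ℕ) rb7934 rb7935 (Nat.ble (nat_lit 7935) i)) (Nat.ble (nat_lit 7934) i)) (Nat.ble (nat_lit 7932) i)) (Nat.ble (nat_lit 7928) i)) (Nat.ble (nat_lit 7920) i))

def rowBlk_n0_248 (i : ℕ) : ℕ := (@Bool.rec (fun _ => ℕ) (@Bool.rec (fun _ => ℕ) (@Bool.rec (fun _ => ℕ) (@Bool.rec (fun _ => ℕ) (@Bool.rec (fun _ => ℕ) rb7936 rb7937 (Nat.ble (nat_lit 7937) i)) (@Bool.rec (fun _ => ℕ) rb7938 rb7939 (Nat.ble (nat_lit 7939) i)) (Nat.ble (nat_lit 7938) i)) (@Bool.rec (fun _ => ℕ) (@Bool.rec (fun _ => ℕ) rb7940 rb7941 (Nat.ble (nat_lit 7941) i)) (@Bool.rec (fun _ => ℕ) rb7942 rb7943 (Nat.ble (nat_lit 7943) i)) (Nat.ble (nat_lit 7942) i)) (Nat.ble (nat_lit 7940) i)) (@Bool.rec (fun _ => ℕ) (@Bool.rec (fun _ => ℕ) (@Bool.rec (fun _ => ℕ) rb7944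 rb7945 (Nat.ble (nat_lit 7945) i)) (@Bool.rec (fun _ => ℕ) rb7946 rb7947 (Nat.ble (nat_lit 7947) i)) (Nat.ble (nat_lit 7946) i)) (@Bool.rec (fun _ => ℕ) (@Bool.rec (fun _ => ℕ) rb7948 rb7949 (Nat.ble (nat_lit 7949) i)) (@Bool.rec (fun _ => ℕ) rb7950 rb7951 (Nat.ble (nat_lit 7951) i)) (Nat.ble (nat_lit 7950) i)) (Nat.ble (nat_lit 7948) i)) (Nat.ble (nat_lit 7944) i)) (@Bool.rec (fun _ => ℕ) (@Bool.rec (fun _ => ℕ) (@Bool.rec (fun _ => ℕ) (@Bool.rec (fun _ => ℕ) rb7952 rb7953 (Nat.ble (nat_lit 7953) i)) (@Bool.rec (fun _ => ℕ) rb7954 rb7955 (Nat.ble (nat_lit 7955) i)) (Nat.ble (nat_lit 7954) i)) (@Bool.rec (fun _ => ℕ) (@Bool.rec (fun _ => ℕ) rb7956 rb7957 (Nat.ble (nat_lit 7957) i)) (@Bool.rec (fun _ => ℕ) rb7958 rb7959 (Nat.ble (nat_lit 7959) i)) (Nat.ble (nat_lit 7958) i)) (Nat.ble (nat_lit 7956) i))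 (@Bool.rec (fun _ => ℕ) (@Bool.rec (fun _ => ℕ) (@Bool.rec (fun _ => ℕ) rb7960 rb7961 (Nat.ble (nat_lit 7961) i)) (@Bool.rec (fun _ => ℕ) rb7962 rb7963 (Nat.ble (nat_lit 7963) i)) (Nat.ble (nat_lit 7962) i)) (@Bool.rec (fun _ => ℕ) (@Bool.rec (fun _ => ℕ) rb7964 rb7965 (Nat.ble (nat_lit 7965) i)) (@Bool.rec (fun _ => ℕ) rb7966 rb7967 (Nat.ble (nat_lit 7967) i)) (Nat.ble (nat_lit 7966) i)) (Nat.ble (nat_lit 7964) i)) (Nat.ble (nat_lit 7960) i)) (Nat.ble (nat_lit 7952) i))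

def rowBlk_n0_249 (i : ℕ) : ℕ := (@Bool.rec (fun _ => ℕ) (@Bool.rec (fun _ => ℕ) (@Bool.rec (fun _ => ℕ) (@Bool.rec (fun _ => ℕ) (@Bool.rec (fun _ => ℕ) rb7968 rb7969 (Nat.ble (nat_lit 7969) i)) (@Bool.rec (fun _ => ℕ) rb7970 rb7971 (Nat.ble (nat_lit 7971) i)) (Nat.ble (nat_lit 7970) i)) (@Bool.rec (fun _ => ℕ) (@Bool.rec (fun _ => ℕ) rb7972 rb7973 (Nat.ble (nat_lit 7973) i)) (@Bool.rec (fun _ => ℕ) rb7974 rb7975 (Nat.ble (nat_lit 7975) i)) (Nat.ble (nat_lit 7974) i)) (Nat.ble (nat_lit 7972) i)) (@Bool.rec (fun _ => ℕ) (@Bool.rec (fun _ => ℕ) (@Bool.rec (fun _ => ℕ) rb7976 rb7977 (Nat.ble (nat_lit 7977) i)) (@Bool.rec (fun _ => ℕ) rb7978 rb7979 (Nat.ble (nat_lit 7979) i)) (Nat.ble (nat_lit 7978) i)) (@Bool.rec (fun _ => ℕ) (@Bool.rec (fun _ => ℕ) rb7980 rb7981 (Nat.ble (nat_lit 7981) i)) (@Bool.rec (fun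 _ => ℕ) rb7982 rb7983 (Nat.ble (nat_lit 7983) i)) (Nat.ble (nat_lit 7982) i)) (Nat.ble (nat_lit 7980) i)) (Nat.ble (nat_lit 7976) i)) (@Bool.rec (fun _ => ℕ) (@Bool.rec (fun _ => ℕ) (@Bool.rec (fun _ => ℕ) (@Bool.rec (fun _ => ℕ) rb7984 rb7985 (Nat.ble (nat_lit 7985) i)) (@Bool.rec (fun _ => ℕ) rb7986 rb7987 (Nat.ble (nat_lit 7987) i)) (Nat.ble (nat_lit 7986) i)) (@Bool.rec (fun _ => ℕ) (@Bool.rec (fun _ => ℕ) rb7988 rb7989 (Nat.ble (nat_lit 7989) i)) (@Bool.rec (fun _ => ℕ) rb7990 rb7991 (Nat.ble (nat_lit 7991) i)) (Nat.ble (nat_lit 7990) i)) (Nat.ble (nat_lit 7988) i)) (@Bool.rec (fun _ => ℕ) (@Bool.rec (fun _ => ℕ) (@Bool.rec (fun _ => ℕ) rb7992 rb7993 (Nat.ble (nat_lit 7993) i)) (@Bool.rec (fun _ => ℕ) rb7994 rb7995 (Nat.ble (nat_lit 7995) i)) (Nat.ble (nat_lit 7994) i)) (@Bool.rec (fun _ => ℕ) (@Bool.rec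 (fun _ => ℕ) rb7996 rb7997 (Nat.ble (nat_lit 7997) i)) (@Bool.rec (fun _ => ℕ) rb7998 rb7999 (Nat.ble (nat_lit 7999) i)) (Nat.ble (nat_lit 7998) i)) (Nat.ble (nat_lit 7996) i)) (Nat.ble (nat_lit 7992) i)) (Nat.ble (nat_lit 7984) i))

def rowBlk_n0_250 (i : ℕ) : ℕ := (@Bool.rec (fun _ => ℕ) (@Bool.rec (fun _ => ℕ) (@Bool.rec (fun _ => ℕ) (@Bool.rec (fun _ => ℕ) (@Bool.rec (fun _ => ℕ) rb8000 rb8001 (Nat.ble (nat_lit 8001) i)) (@Bool.rec (fun _ => ℕ) rb8002 rb8003 (Nat.ble (nat_lit 8003) i)) (Nat.ble (nat_lit 8002) i)) (@Bool.rec (fun _ => ℕ) (@Bool.rec (fun _ => ℕ) rb8004 rb8005 (Nat.ble (nat_lit 8005) i)) (@Bool.rec (fun _ => ℕ) rb8006 rb8007 (Nat.ble (nat_lit 8007) i)) (Nat.ble (nat_lit 8006) i)) (Nat.ble (nat_lit 8004) i)) (@Bool.rec (fun _ => ℕ) (@Bool.rec (fun _ => ℕ) (@Bool.rec (fun _ => ℕ) rb8008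 rb8009 (Nat.ble (nat_lit 8009) i)) (@Bool.rec (fun _ => ℕ) rb8010 rb8011 (Nat.ble (nat_lit 8011) i)) (Nat.ble (nat_lit 8010) i)) (@Bool.rec (fun _ => ℕ) (@Bool.rec (fun _ => ℕ) rb8012 rb8013 (Nat.ble (nat_lit 8013) i)) (@Bool.rec (fun _ => ℕ) rb8014 rb8015 (Nat.ble (nat_lit 8015) i)) (Nat.ble (nat_lit 8014) i)) (Nat.ble (nat_lit 8012) i)) (Nat.ble (nat_lit 8008) i)) (@Bool.rec (fun _ => ℕ) (@Bool.rec (fun _ => ℕ) (@Bool.rec (fun _ => ℕ) (@Bool.rec (fun _ => ℕ) rb8016 rb8017 (Nat.ble (nat_lit 8017) i)) (@Bool.rec (fun _ => ℕ) rb8018 rb8019 (Nat.ble (nat_lit 8019) i)) (Nat.ble (nat_lit 8018) i)) (@Bool.rec (fun _ => ℕ) (@Bool.rec (fun _ => ℕ) rb8020 rb8021 (Nat.ble (nat_lit 8021) i)) (@Bool.rec (fun _ => ℕ) rb8022 rb8023 (Nat.ble (nat_lit 8023) i)) (Nat.ble (nat_lit 8022) i)) (Nat.ble (nat_lit 8020) i))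 (@Bool.rec (fun _ => ℕ) (@Bool.rec (fun _ => ℕ) (@Bool.rec (fun _ => ℕ) rb8024 rb8025 (Nat.ble (nat_lit 8025) i)) (@Bool.rec (fun _ => ℕ) rb8026 rb8027 (Nat.ble (nat_lit 8027) i)) (Nat.ble (nat_lit 8026) i)) (@Bool.rec (fun _ => ℕ) (@Bool.rec (fun _ => ℕ) rb8028 rb8029 (Nat.ble (nat_lit 8029) i)) (@Bool.rec (fun _ => ℕ) rb8030 rb8031 (Nat.ble (nat_lit 8031) i)) (Nat.ble (nat_lit 8030) i)) (Nat.ble (nat_lit 8028) i)) (Nat.ble (nat_lit 8024) i)) (Nat.ble (nat_lit 8016) i))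

def rowBlk_n0_251 (i : ℕ) : ℕ := (@Bool.rec (fun _ => ℕ) (@Bool.rec (fun _ => ℕ) (@Bool.rec (fun _ => ℕ) (@Bool.rec (fun _ => ℕ) (@Bool.rec (fun _ => ℕ) rb8032 rb8033 (Nat.ble (nat_lit 8033) i)) (@Bool.rec (fun _ => ℕ) rb8034 rb8035 (Nat.ble (nat_lit 8035) i)) (Nat.ble (nat_lit 8034) i)) (@Bool.rec (fun _ => ℕ) (@Bool.rec (fun _ => ℕ) rb8036 rb8037 (Nat.ble (nat_lit 8037) i)) (@Bool.rec (fun _ => ℕ) rb8038 rb8039 (Nat.ble (nat_lit 8039) i)) (Nat.ble (nat_lit 8038) i)) (Nat.ble (nat_lit 8036) i)) (@Bool.rec (fun _ => ℕ) (@Bool.rec (fun _ => ℕ) (@Bool.rec (fun _ => ℕ) rb8040 rb8041 (Nat.ble (nat_lit 8041) i)) (@Bool.rec (fun _ => ℕ) rb8042 rb8043 (Nat.ble (nat_lit 8043) i)) (Nat.ble (nat_lit 8042) i)) (@Bool.rec (fun _ => ℕ) (@Bool.rec (fun _ => ℕ) rb8044 rb8045 (Nat.ble (nat_lit 8045) i)) (@Bool.rec (fun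 _ => ℕ) rb8046 rb8047 (Nat.ble (nat_lit 8047) i)) (Nat.ble (nat_lit 8046) i)) (Nat.ble (nat_lit 8044) i)) (Nat.ble (nat_lit 8040) i)) (@Bool.rec (fun _ => ℕ) (@Bool.rec (fun _ => ℕ) (@Bool.rec (fun _ => ℕ) (@Bool.rec (fun _ => ℕ) rb8048 rb8049 (Nat.ble (nat_lit 8049) i)) (@Bool.rec (fun _ => ℕ) rb8050 rb8051 (Nat.ble (nat_lit 8051) i)) (Nat.ble (nat_lit 8050) i)) (@Bool.rec (fun _ => ℕ) (@Bool.rec (fun _ => ℕ) rb8052 rb8053 (Nat.ble (nat_lit 8053) i)) (@Bool.rec (fun _ => ℕ) rb8054 rb8055 (Nat.ble (nat_lit 8055) i)) (Nat.ble (nat_lit 8054) i)) (Nat.ble (nat_lit 8052) i)) (@Bool.rec (fun _ => ℕ) (@Bool.rec (fun _ => ℕ) (@Bool.rec (fun _ => ℕ) rb8056 rb8057 (Nat.ble (nat_lit 8057) i)) (@Bool.rec (fun _ => ℕ) rb8058 rb8059 (Nat.ble (nat_lit 8059) i)) (Nat.ble (nat_lit 8058) i)) (@Bool.rec (fun _ => ℕ) (@Bool.rec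 (fun _ => ℕ) rb8060 rb8061 (Nat.ble (nat_lit 8061) i)) (@Bool.rec (fun _ => ℕ) rb8062 rb8063 (Nat.ble (nat_lit 8063) i)) (Nat.ble (nat_lit 8062) i)) (Nat.ble (nat_lit 8060) i)) (Nat.ble (nat_lit 8056) i)) (Nat.ble (nat_lit 8048) i))

def rowBlk_n0_252 (i : ℕ) : ℕ := (@Bool.rec (fun _ => ℕ) (@Bool.rec (fun _ => ℕ) (@Bool.rec (fun _ => ℕ) (@Bool.rec (fun _ => ℕ) (@Bool.rec (fun _ => ℕ) rb8064 rb8065 (Nat.ble (nat_lit 8065) i)) (@Bool.rec (fun _ => ℕ) rb8066 rb8067 (Nat.ble (nat_lit 8067) i)) (Nat.ble (nat_lit 8066) i)) (@Bool.rec (fun _ => ℕ) (@Bool.rec (fun _ => ℕ) rb8068 rb8069 (Nat.ble (nat_lit 8069) i)) (@Bool.rec (fun _ => ℕ) rb8070 rb8071 (Nat.ble (nat_lit 8071) i)) (Nat.ble (nat_lit 8070) i)) (Nat.ble (nat_lit 8068) i)) (@Bool.rec (fun _ => ℕ) (@Bool.rec (fun _ => ℕ) (@Bool.rec (fun _ => ℕ) rb8072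 rb8073 (Nat.ble (nat_lit 8073) i)) (@Bool.rec (fun _ => ℕ) rb8074 rb8075 (Nat.ble (nat_lit 8075) i)) (Nat.ble (nat_lit 8074) i)) (@Bool.rec (fun _ => ℕ) (@Bool.rec (fun _ => ℕ) rb8076 rb8077 (Nat.ble (nat_lit 8077) i)) (@Bool.rec (fun _ => ℕ) rb8078 rb8079 (Nat.ble (nat_lit 8079) i)) (Nat.ble (nat_lit 8078) i)) (Nat.ble (nat_lit 8076) i)) (Nat.ble (nat_lit 8072) i)) (@Bool.rec (fun _ => ℕ) (@Bool.rec (fun _ => ℕ) (@Bool.rec (fun _ => ℕ) (@Bool.rec (fun _ => ℕ) rb8080 rb8081 (Nat.ble (nat_lit 8081) i)) (@Bool.rec (fun _ => ℕ) rb8082 rb8083 (Nat.ble (nat_lit 8083) i)) (Nat.ble (nat_lit 8082) i)) (@Bool.rec (fun _ => ℕ) (@Bool.rec (fun _ => ℕ) rb8084 rb8085 (Nat.ble (nat_lit 8085) i)) (@Bool.rec (fun _ => ℕ) rb8086 rb8087 (Nat.ble (nat_lit 8087) i)) (Nat.ble (nat_lit 8086) i)) (Nat.ble (nat_lit 8084) i))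 (@Bool.rec (fun _ => ℕ) (@Bool.rec (fun _ => ℕ) (@Bool.rec (fun _ => ℕ) rb8088 rb8089 (Nat.ble (nat_lit 8089) i)) (@Bool.rec (fun _ => ℕ) rb8090 rb8091 (Nat.ble (nat_lit 8091) i)) (Nat.ble (nat_lit 8090) i)) (@Bool.rec (fun _ => ℕ) (@Bool.rec (fun _ => ℕ) rb8092 rb8093 (Nat.ble (nat_lit 8093) i)) (@Bool.rec (fun _ => ℕ) rb8094 rb8095 (Nat.ble (nat_lit 8095) i)) (Nat.ble (nat_lit 8094) i)) (Nat.ble (nat_lit 8092) i)) (Nat.ble (nat_lit 8088) i)) (Nat.ble (nat_lit 8080) i))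

def rowBlk_n0_253 (i : ℕ) : ℕ := (@Bool.rec (fun _ => ℕ) (@Bool.rec (fun _ => ℕ) (@Bool.rec (fun _ => ℕ) (@Bool.rec (fun _ => ℕ) (@Bool.rec (fun _ => ℕ) rb8096 rb8097 (Nat.ble (nat_lit 8097) i)) (@Bool.rec (fun _ => ℕ) rb8098 rb8099 (Nat.ble (nat_lit 8099) i)) (Nat.ble (nat_lit 8098) i)) (@Bool.rec (fun _ => ℕ) (@Bool.rec (fun _ => ℕ) rb8100 rb8101 (Nat.ble (nat_lit 8101) i)) (@Bool.rec (fun _ => ℕ) rb8102 rb8103 (Nat.ble (nat_lit 8103) i)) (Nat.ble (nat_lit 8102) i)) (Nat.ble (nat_lit 8100) i)) (@Bool.rec (fun _ => ℕ) (@Bool.rec (fun _ => ℕ) (@Bool.rec (fun _ => ℕ) rb8104 rb8105 (Nat.ble (nat_lit 8105) i)) (@Bool.rec (fun _ => ℕ) rb8106 rb8107 (Nat.ble (nat_lit 8107) i)) (Nat.ble (nat_lit 8106) i)) (@Bool.rec (fun _ => ℕ) (@Bool.rec (fun _ => ℕ) rb8108 rb8109 (Nat.ble (nat_lit 8109) i)) (@Bool.rec (fun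 _ => ℕ) rb8110 rb8111 (Nat.ble (nat_lit 8111) i)) (Nat.ble (nat_lit 8110) i)) (Nat.ble (nat_lit 8108) i)) (Nat.ble (nat_lit 8104) i)) (@Bool.rec (fun _ => ℕ) (@Bool.rec (fun _ => ℕ) (@Bool.rec (fun _ => ℕ) (@Bool.rec (fun _ => ℕ) rb8112 rb8113 (Nat.ble (nat_lit 8113) i)) (@Bool.rec (fun _ => ℕ) rb8114 rb8115 (Nat.ble (nat_lit 8115) i)) (Nat.ble (nat_lit 8114) i)) (@Bool.rec (fun _ => ℕ) (@Bool.rec (fun _ => ℕ) rb8116 rb8117 (Nat.ble (nat_lit 8117) i)) (@Bool.rec (fun _ => ℕ) rb8118 rb8119 (Nat.ble (nat_lit 8119) i)) (Nat.ble (nat_lit 8118) i)) (Nat.ble (nat_lit 8116) i)) (@Bool.rec (fun _ => ℕ) (@Bool.rec (fun _ => ℕ) (@Bool.rec (fun _ => ℕ) rb8120 rb8121 (Nat.ble (nat_lit 8121) i)) (@Bool.rec (fun _ => ℕ) rb8122 rb8123 (Nat.ble (nat_lit 8123) i)) (Nat.ble (nat_lit 8122) i)) (@Bool.rec (fun _ => ℕ) (@Bool.rec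 (fun _ => ℕ) rb8124 rb8125 (Nat.ble (nat_lit 8125) i)) (@Bool.rec (fun _ => ℕ) rb8126 rb8127 (Nat.ble (nat_lit 8127) i)) (Nat.ble (nat_lit 8126) i)) (Nat.ble (nat_lit 8124) i)) (Nat.ble (nat_lit 8120) i)) (Nat.ble (nat_lit 8112) i))

def rowBlk_n0_254 (i : ℕ) : ℕ := (@Bool.rec (fun _ => ℕ) (@Bool.rec (fun _ => ℕ) (@Bool.rec (fun _ => ℕ) (@Bool.rec (fun _ => ℕ) (@Bool.rec (fun _ => ℕ) rb8128 rb8129 (Nat.ble (nat_lit 8129) i)) (@Bool.rec (fun _ => ℕ) rb8130 rb8131 (Nat.ble (nat_lit 8131) i)) (Nat.ble (nat_lit 8130) i)) (@Bool.rec (fun _ => ℕ) (@Bool.rec (fun _ => ℕ) rb8132 rb8133 (Nat.ble (nat_lit 8133) i)) (@Bool.rec (fun _ => ℕ) rb8134 rb8135 (Nat.ble (nat_lit 8135) i)) (Nat.ble (nat_lit 8134) i)) (Nat.ble (nat_lit 8132) i)) (@Bool.rec (fun _ => ℕ) (@Bool.rec (fun _ => ℕ) (@Bool.rec (fun _ => ℕ) rb8136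 rb8137 (Nat.ble (nat_lit 8137) i)) (@Bool.rec (fun _ => ℕ) rb8138 rb8139 (Nat.ble (nat_lit 8139) i)) (Nat.ble (nat_lit 8138) i)) (@Bool.rec (fun _ => ℕ) (@Bool.rec (fun _ => ℕ) rb8140 rb8141 (Nat.ble (nat_lit 8141) i)) (@Bool.rec (fun _ => ℕ) rb8142 rb8143 (Nat.ble (nat_lit 8143) i)) (Nat.ble (nat_lit 8142) i)) (Nat.ble (nat_lit 8140) i)) (Nat.ble (nat_lit 8136) i)) (@Bool.rec (fun _ => ℕ) (@Bool.rec (fun _ => ℕ) (@Bool.rec (fun _ => ℕ) (@Bool.rec (fun _ => ℕ) rb8144 rb8145 (Nat.ble (nat_lit 8145) i)) (@Bool.rec (fun _ => ℕ) rb8146 rb8147 (Nat.ble (nat_lit 8147) i)) (Nat.ble (nat_lit 8146) i)) (@Bool.rec (fun _ => ℕ) (@Bool.rec (fun _ => ℕ) rb8148 rb8149 (Nat.ble (nat_lit 8149) i)) (@Bool.rec (fun _ => ℕ) rb8150 rb8151 (Nat.ble (nat_lit 8151) i)) (Nat.ble (nat_lit 8150) i)) (Nat.ble (nat_lit 8148) i))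 (@Bool.rec (fun _ => ℕ) (@Bool.rec (fun _ => ℕ) (@Bool.rec (fun _ => ℕ) rb8152 rb8153 (Nat.ble (nat_lit 8153) i)) (@Bool.rec (fun _ => ℕ) rb8154 rb8155 (Nat.ble (nat_lit 8155) i)) (Nat.ble (nat_lit 8154) i)) (@Bool.rec (fun _ => ℕ) (@Bool.rec (fun _ => ℕ) rb8156 rb8157 (Nat.ble (nat_lit 8157) i)) (@Bool.rec (fun _ => ℕ) rb8158 rb8159 (Nat.ble (nat_lit 8159) i)) (Nat.ble (nat_lit 8158) i)) (Nat.ble (nat_lit 8156) i)) (Nat.ble (nat_lit 8152) i)) (Nat.ble (nat_lit 8144) i))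

def rowBlk_n0_255 (i : ℕ) : ℕ := (@Bool.rec (fun _ => ℕ) (@Bool.rec (fun _ => ℕ) (@Bool.rec (fun _ => ℕ) (@Bool.rec (fun _ => ℕ) (@Bool.rec (fun _ => ℕ) rb8160 rb8161 (Nat.ble (nat_lit 8161) i)) (@Bool.rec (fun _ => ℕ) rb8162 rb8163 (Nat.ble (nat_lit 8163) i)) (Nat.ble (nat_lit 8162) i)) (@Bool.rec (fun _ => ℕ) (@Bool.rec (fun _ => ℕ) rb8164 rb8165 (Nat.ble (nat_lit 8165) i)) (@Bool.rec (fun _ => ℕ) rb8166 rb8167 (Nat.ble (nat_lit 8167) i)) (Nat.ble (nat_lit 8166) i)) (Nat.ble (nat_lit 8164) i)) (@Bool.rec (fun _ => ℕ) (@Bool.rec (fun _ => ℕ) (@Bool.rec (fun _ => ℕ) rb8168 rb8169 (Nat.ble (nat_lit 8169) i)) (@Bool.rec (fun _ => ℕ) rb8170 rb8171 (Nat.ble (nat_lit 8171) i)) (Nat.ble (nat_lit 8170) i)) (@Bool.rec (fun _ => ℕ) (@Bool.rec (fun _ => ℕ) rb8172 rb8173 (Nat.ble (nat_lit 8173) i)) (@Bool.rec (fun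 _ => ℕ) rb8174 rb8175 (Nat.ble (nat_lit 8175) i)) (Nat.ble (nat_lit 8174) i)) (Nat.ble (nat_lit 8172) i)) (Nat.ble (nat_lit 8168) i)) (@Bool.rec (fun _ => ℕ) (@Bool.rec (fun _ => ℕ) (@Bool.rec (fun _ => ℕ) (@Bool.rec (fun _ => ℕ) rb8176 rb8177 (Nat.ble (nat_lit 8177) i)) (@Bool.rec (fun _ => ℕ) rb8178 rb8179 (Nat.ble (nat_lit 8179) i)) (Nat.ble (nat_lit 8178) i)) (@Bool.rec (fun _ => ℕ) (@Bool.rec (fun _ => ℕ) rb8180 rb8181 (Nat.ble (nat_lit 8181) i)) (@Bool.rec (fun _ => ℕ) rb8182 rb8183 (Nat.ble (nat_lit 8183) i)) (Nat.ble (nat_lit 8182) i)) (Nat.ble (nat_lit 8180) i)) (@Bool.rec (fun _ => ℕ) (@Bool.rec (fun _ => ℕ) (@Bool.rec (fun _ => ℕ) rb8184 rb8185 (Nat.ble (nat_lit 8185) i)) (@Bool.rec (fun _ => ℕ) rb8186 rb8187 (Nat.ble (nat_lit 8187) i)) (Nat.ble (nat_lit 8186) i)) (@Bool.rec (fun _ => ℕ) (@Bool.rec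 (fun _ => ℕ) rb8188 rb8189 (Nat.ble (nat_lit 8189) i)) (@Bool.rec (fun _ => ℕ) rb8190 rb8191 (Nat.ble (nat_lit 8191) i)) (Nat.ble (nat_lit 8190) i)) (Nat.ble (nat_lit 8188) i)) (Nat.ble (nat_lit 8184) i)) (Nat.ble (nat_lit 8176) i))

def rowBlk_n0_256 (i : ℕ) : ℕ := (@Bool.rec (fun _ => ℕ) (@Bool.rec (fun _ => ℕ) (@Bool.rec (fun _ => ℕ) (@Bool.rec (fun _ => ℕ) (@Bool.rec (fun _ => ℕ) rb8192 rb8193 (Nat.ble (nat_lit 8193) i)) (@Bool.rec (fun _ => ℕ) rb8194 rb8195 (Nat.ble (nat_lit 8195) i)) (Nat.ble (nat_lit 8194) i)) (@Bool.rec (fun _ => ℕ) (@Bool.rec (fun _ => ℕ) rb8196 rb8197 (Nat.ble (nat_lit 8197) i)) (@Bool.rec (fun _ => ℕ) rb8198 rb8199 (Nat.ble (nat_lit 8199) i)) (Nat.ble (nat_lit 8198) i)) (Nat.ble (nat_lit 8196) i)) (@Bool.rec (fun _ => ℕ) (@Bool.rec (fun _ => ℕ) (@Bool.rec (fun _ => ℕ) rb8200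 rb8201 (Nat.ble (nat_lit 8201) i)) (@Bool.rec (fun _ => ℕ) rb8202 rb8203 (Nat.ble (nat_lit 8203) i)) (Nat.ble (nat_lit 8202) i)) (@Bool.rec (fun _ => ℕ) (@Bool.rec (fun _ => ℕ) rb8204 rb8205 (Nat.ble (nat_lit 8205) i)) (@Bool.rec (fun _ => ℕ) rb8206 rb8207 (Nat.ble (nat_lit 8207) i)) (Nat.ble (nat_lit 8206) i)) (Nat.ble (nat_lit 8204) i)) (Nat.ble (nat_lit 8200) i)) (@Bool.rec (fun _ => ℕ) (@Bool.rec (fun _ => ℕ) (@Bool.rec (fun _ => ℕ) (@Bool.rec (fun _ => ℕ) rb8208 rb8209 (Nat.ble (nat_lit 8209) i)) (@Bool.rec (fun _ => ℕ) rb8210 rb8211 (Nat.ble (nat_lit 8211) i)) (Nat.ble (nat_lit 8210) i)) (@Bool.rec (fun _ => ℕ) (@Bool.rec (fun _ => ℕ) rb8212 rb8213 (Nat.ble (nat_lit 8213) i)) (@Bool.rec (fun _ => ℕ) rb8214 rb8215 (Nat.ble (nat_lit 8215) i)) (Nat.ble (nat_lit 8214) i)) (Nat.ble (nat_lit 8212) i))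 (@Bool.rec (fun _ => ℕ) (@Bool.rec (fun _ => ℕ) (@Bool.rec (fun _ => ℕ) rb8216 rb8217 (Nat.ble (nat_lit 8217) i)) (@Bool.rec (fun _ => ℕ) rb8218 rb8219 (Nat.ble (nat_lit 8219) i)) (Nat.ble (nat_lit 8218) i)) (@Bool.rec (fun _ => ℕ) (@Bool.rec (fun _ => ℕ) rb8220 rb8221 (Nat.ble (nat_lit 8221) i)) (@Bool.rec (fun _ => ℕ) rb8222 rb8223 (Nat.ble (nat_lit 8223) i)) (Nat.ble (nat_lit 8222) i)) (Nat.ble (nat_lit 8220) i)) (Nat.ble (nat_lit 8216) i)) (Nat.ble (nat_lit 8208) i))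

def rowBlk_n0_257 (i : ℕ) : ℕ := (@Bool.rec (fun _ => ℕ) (@Bool.rec (fun _ => ℕ) (@Bool.rec (fun _ => ℕ) (@Bool.rec (fun _ => ℕ) (@Bool.rec (fun _ => ℕ) rb8224 rb8225 (Nat.ble (nat_lit 8225) i)) (@Bool.rec (fun _ => ℕ) rb8226 rb8227 (Nat.ble (nat_lit 8227) i)) (Nat.ble (nat_lit 8226) i)) (@Bool.rec (fun _ => ℕ) (@Bool.rec (fun _ => ℕ) rb8228 rb8229 (Nat.ble (nat_lit 8229) i)) (@Bool.rec (fun _ => ℕ) rb8230 rb8231 (Nat.ble (nat_lit 8231) i)) (Nat.ble (nat_lit 8230) i)) (Nat.ble (nat_lit 8228) i)) (@Bool.rec (fun _ => ℕ) (@Bool.rec (fun _ => ℕ) (@Bool.rec (fun _ => ℕ) rb8232 rb8233 (Nat.ble (nat_lit 8233) i)) (@Bool.rec (fun _ => ℕ) rb8234 rb8235 (Nat.ble (nat_lit 8235) i)) (Nat.ble (nat_lit 8234) i)) (@Bool.rec (fun _ => ℕ) (@Bool.rec (fun _ => ℕ) rb8236 rb8237 (Nat.ble (nat_lit 8237) i)) (@Bool.rec (fun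 _ => ℕ) rb8238 rb8239 (Nat.ble (nat_lit 8239) i)) (Nat.ble (nat_lit 8238) i)) (Nat.ble (nat_lit 8236) i)) (Nat.ble (nat_lit 8232) i)) (@Bool.rec (fun _ => ℕ) (@Bool.rec (fun _ => ℕ) (@Bool.rec (fun _ => ℕ) (@Bool.rec (fun _ => ℕ) rb8240 rb8241 (Nat.ble (nat_lit 8241) i)) (@Bool.rec (fun _ => ℕ) rb8242 rb8243 (Nat.ble (nat_lit 8243) i)) (Nat.ble (nat_lit 8242) i)) (@Bool.rec (fun _ => ℕ) (@Bool.rec (fun _ => ℕ) rb8244 rb8245 (Nat.ble (nat_lit 8245) i)) (@Bool.rec (fun _ => ℕ) rb8246 rb8247 (Nat.ble (nat_lit 8247) i)) (Nat.ble (nat_lit 8246) i)) (Nat.ble (nat_lit 8244) i)) (@Bool.rec (fun _ => ℕ) (@Bool.rec (fun _ => ℕ) (@Bool.rec (fun _ => ℕ) rb8248 rb8249 (Nat.ble (nat_lit 8249) i)) (@Bool.rec (fun _ => ℕ) rb8250 rb8251 (Nat.ble (nat_lit 8251) i)) (Nat.ble (nat_lit 8250) i)) (@Bool.rec (fun _ => ℕ) (@Bool.rec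 (fun _ => ℕ) rb8252 rb8253 (Nat.ble (nat_lit 8253) i)) (@Bool.rec (fun _ => ℕ) rb8254 rb8255 (Nat.ble (nat_lit 8255) i)) (Nat.ble (nat_lit 8254) i)) (Nat.ble (nat_lit 8252) i)) (Nat.ble (nat_lit 8248) i)) (Nat.ble (nat_lit 8240) i))

def rowBlk_n0_258 (i : ℕ) : ℕ := (@Bool.rec (fun _ => ℕ) (@Bool.rec (fun _ => ℕ) (@Bool.rec (fun _ => ℕ) (@Bool.rec (fun _ => ℕ) (@Bool.rec (fun _ => ℕ) rb8256 rb8257 (Nat.ble (nat_lit 8257) i)) (@Bool.rec (fun _ => ℕ) rb8258 rb8259 (Nat.ble (nat_lit 8259) i)) (Nat.ble (nat_lit 8258) i)) (@Bool.rec (fun _ => ℕ) (@Bool.rec (fun _ => ℕ) rb8260 rb8261 (Nat.ble (nat_lit 8261) i)) (@Bool.rec (fun _ => ℕ) rb8262 rb8263 (Nat.ble (nat_lit 8263) i)) (Nat.ble (nat_lit 8262) i)) (Nat.ble (nat_lit 8260) i)) (@Bool.rec (fun _ => ℕ) (@Bool.rec (fun _ => ℕ) (@Bool.rec (fun _ => ℕ) rb8264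 rb8265 (Nat.ble (nat_lit 8265) i)) (@Bool.rec (fun _ => ℕ) rb8266 rb8267 (Nat.ble (nat_lit 8267) i)) (Nat.ble (nat_lit 8266) i)) (@Bool.rec (fun _ => ℕ) (@Bool.rec (fun _ => ℕ) rb8268 rb8269 (Nat.ble (nat_lit 8269) i)) (@Bool.rec (fun _ => ℕ) rb8270 rb8271 (Nat.ble (nat_lit 8271) i)) (Nat.ble (nat_lit 8270) i)) (Nat.ble (nat_lit 8268) i)) (Nat.ble (nat_lit 8264) i)) (@Bool.rec (fun _ => ℕ) (@Bool.rec (fun _ => ℕ) (@Bool.rec (fun _ => ℕ) (@Bool.rec (fun _ => ℕ) rb8272 rb8273 (Nat.ble (nat_lit 8273) i)) (@Bool.rec (fun _ => ℕ) rb8274 rb8275 (Nat.ble (nat_lit 8275) i)) (Nat.ble (nat_lit 8274) i)) (@Bool.rec (fun _ => ℕ) (@Bool.rec (fun _ => ℕ) rb8276 rb8277 (Nat.ble (nat_lit 8277) i)) (@Bool.rec (fun _ => ℕ) rb8278 rb8279 (Nat.ble (nat_lit 8279) i)) (Nat.ble (nat_lit 8278) i)) (Nat.ble (nat_lit 8276) i))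 (@Bool.rec (fun _ => ℕ) (@Bool.rec (fun _ => ℕ) (@Bool.rec (fun _ => ℕ) rb8280 rb8281 (Nat.ble (nat_lit 8281) i)) (@Bool.rec (fun _ => ℕ) rb8282 rb8283 (Nat.ble (nat_lit 8283) i)) (Nat.ble (nat_lit 8282) i)) (@Bool.rec (fun _ => ℕ) (@Bool.rec (fun _ => ℕ) rb8284 rb8285 (Nat.ble (nat_lit 8285) i)) (@Bool.rec (fun _ => ℕ) rb8286 rb8287 (Nat.ble (nat_lit 8287) i)) (Nat.ble (nat_lit 8286) i)) (Nat.ble (nat_lit 8284) i)) (Nat.ble (nat_lit 8280) i)) (Nat.ble (nat_lit 8272) i))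

def rowBlk_n0_259 (i : ℕ) : ℕ := (@Bool.rec (fun _ => ℕ) (@Bool.rec (fun _ => ℕ) (@Bool.rec (fun _ => ℕ) (@Bool.rec (fun _ => ℕ) (@Bool.rec (fun _ => ℕ) rb8288 rb8289 (Nat.ble (nat_lit 8289) i)) (@Bool.rec (fun _ => ℕ) rb8290 rb8291 (Nat.ble (nat_lit 8291) i)) (Nat.ble (nat_lit 8290) i)) (@Bool.rec (fun _ => ℕ) (@Bool.rec (fun _ => ℕ) rb8292 rb8293 (Nat.ble (nat_lit 8293) i)) (@Bool.rec (fun _ => ℕ) rb8294 rb8295 (Nat.ble (nat_lit 8295) i)) (Nat.ble (nat_lit 8294) i)) (Nat.ble (nat_lit 8292) i)) (@Bool.rec (fun _ => ℕ) (@Bool.rec (fun _ => ℕ) (@Bool.rec (fun _ => ℕ) rb8296 rb8297 (Nat.ble (nat_lit 8297) i)) (@Bool.rec (fun _ => ℕ) rb8298 rb8299 (Nat.ble (nat_lit 8299) i)) (Nat.ble (nat_lit 8298) i)) (@Bool.rec (fun _ => ℕ) (@Bool.rec (fun _ => ℕ) rb8300 rb8301 (Nat.ble (nat_lit 8301) i)) (@Bool.rec (fun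 _ => ℕ) rb8302 rb8303 (Nat.ble (nat_lit 8303) i)) (Nat.ble (nat_lit 8302) i)) (Nat.ble (nat_lit 8300) i)) (Nat.ble (nat_lit 8296) i)) (@Bool.rec (fun _ => ℕ) (@Bool.rec (fun _ => ℕ) (@Bool.rec (fun _ => ℕ) (@Bool.rec (fun _ => ℕ) rb8304 rb8305 (Nat.ble (nat_lit 8305) i)) (@Bool.rec (fun _ => ℕ) rb8306 rb8307 (Nat.ble (nat_lit 8307) i)) (Nat.ble (nat_lit 8306) i)) (@Bool.rec (fun _ => ℕ) (@Bool.rec (fun _ => ℕ) rb8308 rb8309 (Nat.ble (nat_lit 8309) i)) (@Bool.rec (fun _ => ℕ) rb8310 rb8311 (Nat.ble (nat_lit 8311) i)) (Nat.ble (nat_lit 8310) i)) (Nat.ble (nat_lit 8308) i)) (@Bool.rec (fun _ => ℕ) (@Bool.rec (fun _ => ℕ) (@Bool.rec (fun _ => ℕ) rb8312 rb8313 (Nat.ble (nat_lit 8313) i)) (@Bool.rec (fun _ => ℕ) rb8314 rb8315 (Nat.ble (nat_lit 8315) i)) (Nat.ble (nat_lit 8314) i)) (@Bool.rec (fun _ => ℕ) (@Bool.rec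 (fun _ => ℕ) rb8316 rb8317 (Nat.ble (nat_lit 8317) i)) (@Bool.rec (fun _ => ℕ) rb8318 rb8319 (Nat.ble (nat_lit 8319) i)) (Nat.ble (nat_lit 8318) i)) (Nat.ble (nat_lit 8316) i)) (Nat.ble (nat_lit 8312) i)) (Nat.ble (nat_lit 8304) i))

def rowBlk_n0_260 (i : ℕ) : ℕ := (@Bool.rec (fun _ => ℕ) (@Bool.rec (fun _ => ℕ) (@Bool.rec (fun _ => ℕ) (@Bool.rec (fun _ => ℕ) (@Bool.rec (fun _ => ℕ) rb8320 rb8321 (Nat.ble (nat_lit 8321) i)) (@Bool.rec (fun _ => ℕ) rb8322 rb8323 (Nat.ble (nat_lit 8323) i)) (Nat.ble (nat_lit 8322) i)) (@Bool.rec (fun _ => ℕ) (@Bool.rec (fun _ => ℕ) rb8324 rb8325 (Nat.ble (nat_lit 8325) i)) (@Bool.rec (fun _ => ℕ) rb8326 rb8327 (Nat.ble (nat_lit 8327) i)) (Nat.ble (nat_lit 8326) i)) (Nat.ble (nat_lit 8324) i)) (@Bool.rec (fun _ => ℕ) (@Bool.rec (fun _ => ℕ) (@Bool.rec (fun _ => ℕ) rb8328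 rb8329 (Nat.ble (nat_lit 8329) i)) (@Bool.rec (fun _ => ℕ) rb8330 rb8331 (Nat.ble (nat_lit 8331) i)) (Nat.ble (nat_lit 8330) i)) (@Bool.rec (fun _ => ℕ) (@Bool.rec (fun _ => ℕ) rb8332 rb8333 (Nat.ble (nat_lit 8333) i)) (@Bool.rec (fun _ => ℕ) rb8334 rb8335 (Nat.ble (nat_lit 8335) i)) (Nat.ble (nat_lit 8334) i)) (Nat.ble (nat_lit 8332) i)) (Nat.ble (nat_lit 8328) i)) (@Bool.rec (fun _ => ℕ) (@Bool.rec (fun _ => ℕ) (@Bool.rec (fun _ => ℕ) (@Bool.rec (fun _ => ℕ) rb8336 rb8337 (Nat.ble (nat_lit 8337) i)) (@Bool.rec (fun _ => ℕ) rb8338 rb8339 (Nat.ble (nat_lit 8339) i)) (Nat.ble (nat_lit 8338) i)) (@Bool.rec (fun _ => ℕ) (@Bool.rec (fun _ => ℕ) rb8340 rb8341 (Nat.ble (nat_lit 8341) i)) (@Bool.rec (fun _ => ℕ) rb8342 rb8343 (Nat.ble (nat_lit 8343) i)) (Nat.ble (nat_lit 8342) i)) (Nat.ble (nat_lit 8340) i))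 (@Bool.rec (fun _ => ℕ) (@Bool.rec (fun _ => ℕ) (@Bool.rec (fun _ => ℕ) rb8344 rb8345 (Nat.ble (nat_lit 8345) i)) (@Bool.rec (fun _ => ℕ) rb8346 rb8347 (Nat.ble (nat_lit 8347) i)) (Nat.ble (nat_lit 8346) i)) (@Bool.rec (fun _ => ℕ) (@Bool.rec (fun _ => ℕ) rb8348 rb8349 (Nat.ble (nat_lit 8349) i)) (@Bool.rec (fun _ => ℕ) rb8350 rb8351 (Nat.ble (nat_lit 8351) i)) (Nat.ble (nat_lit 8350) i)) (Nat.ble (nat_lit 8348) i)) (Nat.ble (nat_lit 8344) i)) (Nat.ble (nat_lit 8336) i))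

def rowBlk_n0_261 (i : ℕ) : ℕ := (@Bool.rec (fun _ => ℕ) (@Bool.rec (fun _ => ℕ) (@Bool.rec (fun _ => ℕ) (@Bool.rec (fun _ => ℕ) (@Bool.rec (fun _ => ℕ) rb8352 rb8353 (Nat.ble (nat_lit 8353) i)) (@Bool.rec (fun _ => ℕ) rb8354 rb8355 (Nat.ble (nat_lit 8355) i)) (Nat.ble (nat_lit 8354) i)) (@Bool.rec (fun _ => ℕ) (@Bool.rec (fun _ => ℕ) rb8356 rb8357 (Nat.ble (nat_lit 8357) i)) (@Bool.rec (fun _ => ℕ) rb8358 rb8359 (Nat.ble (nat_lit 8359) i)) (Nat.ble (nat_lit 8358) i)) (Nat.ble (nat_lit 8356) i)) (@Bool.rec (fun _ => ℕ) (@Bool.rec (fun _ => ℕ) (@Bool.rec (fun _ => ℕ) rb8360 rb8361 (Nat.ble (nat_lit 8361) i)) (@Bool.rec (fun _ => ℕ) rb8362 rb8363 (Nat.ble (nat_lit 8363) i)) (Nat.ble (nat_lit 8362) i)) (@Bool.rec (fun _ => ℕ) (@Bool.rec (fun _ => ℕ) rb8364 rb8365 (Nat.ble (nat_lit 8365) i)) (@Bool.rec (fun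 _ => ℕ) rb8366 rb8367 (Nat.ble (nat_lit 8367) i)) (Nat.ble (nat_lit 8366) i)) (Nat.ble (nat_lit 8364) i)) (Nat.ble (nat_lit 8360) i)) (@Bool.rec (fun _ => ℕ) (@Bool.rec (fun _ => ℕ) (@Bool.rec (fun _ => ℕ) (@Bool.rec (fun _ => ℕ) rb8368 rb8369 (Nat.ble (nat_lit 8369) i)) (@Bool.rec (fun _ => ℕ) rb8370 rb8371 (Nat.ble (nat_lit 8371) i)) (Nat.ble (nat_lit 8370) i)) (@Bool.rec (fun _ => ℕ) (@Bool.rec (fun _ => ℕ) rb8372 rb8373 (Nat.ble (nat_lit 8373) i)) (@Bool.rec (fun _ => ℕ) rb8374 rb8375 (Nat.ble (nat_lit 8375) i)) (Nat.ble (nat_lit 8374) i)) (Nat.ble (nat_lit 8372) i)) (@Bool.rec (fun _ => ℕ) (@Bool.rec (fun _ => ℕ) (@Bool.rec (fun _ => ℕ) rb8376 rb8377 (Nat.ble (nat_lit 8377) i)) (@Bool.rec (fun _ => ℕ) rb8378 rb8379 (Nat.ble (nat_lit 8379) i)) (Nat.ble (nat_lit 8378) i)) (@Bool.rec (fun _ => ℕ) (@Bool.rec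 (fun _ => ℕ) rb8380 rb8381 (Nat.ble (nat_lit 8381) i)) (@Bool.rec (fun _ => ℕ) rb8382 rb8383 (Nat.ble (nat_lit 8383) i)) (Nat.ble (nat_lit 8382) i)) (Nat.ble (nat_lit 8380) i)) (Nat.ble (nat_lit 8376) i)) (Nat.ble (nat_lit 8368) i))

def rowBlk_n0_262 (i : ℕ) : ℕ := (@Bool.rec (fun _ => ℕ) (@Bool.rec (fun _ => ℕ) (@Bool.rec (fun _ => ℕ) (@Bool.rec (fun _ => ℕ) (@Bool.rec (fun _ => ℕ) rb8384 rb8385 (Nat.ble (nat_lit 8385) i)) (@Bool.rec (fun _ => ℕ) rb8386 rb8387 (Nat.ble (nat_lit 8387) i)) (Nat.ble (nat_lit 8386) i)) (@Bool.rec (fun _ => ℕ) (@Bool.rec (fun _ => ℕ) rb8388 rb8389 (Nat.ble (nat_lit 8389) i)) (@Bool.rec (fun _ => ℕ) rb8390 rb8391 (Nat.ble (nat_lit 8391) i)) (Nat.ble (nat_lit 8390) i)) (Nat.ble (nat_lit 8388) i)) (@Bool.rec (fun _ => ℕ) (@Bool.rec (fun _ => ℕ) (@Bool.rec (fun _ => ℕ) rb8392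 rb8393 (Nat.ble (nat_lit 8393) i)) (@Bool.rec (fun _ => ℕ) rb8394 rb8395 (Nat.ble (nat_lit 8395) i)) (Nat.ble (nat_lit 8394) i)) (@Bool.rec (fun _ => ℕ) (@Bool.rec (fun _ => ℕ) rb8396 rb8397 (Nat.ble (nat_lit 8397) i)) (@Bool.rec (fun _ => ℕ) rb8398 rb8399 (Nat.ble (nat_lit 8399) i)) (Nat.ble (nat_lit 8398) i)) (Nat.ble (nat_lit 8396) i)) (Nat.ble (nat_lit 8392) i)) (@Bool.rec (fun _ => ℕ) (@Bool.rec (fun _ => ℕ) (@Bool.rec (fun _ => ℕ) (@Bool.rec (fun _ => ℕ) rb8400 rb8401 (Nat.ble (nat_lit 8401) i)) (@Bool.rec (fun _ => ℕ) rb8402 rb8403 (Nat.ble (nat_lit 8403) i)) (Nat.ble (nat_lit 8402) i)) (@Bool.rec (fun _ => ℕ) (@Bool.rec (fun _ => ℕ) rb8404 rb8405 (Nat.ble (nat_lit 8405) i)) (@Bool.rec (fun _ => ℕ) rb8406 rb8407 (Nat.ble (nat_lit 8407) i)) (Nat.ble (nat_lit 8406) i)) (Nat.ble (nat_lit 8404) i))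 (@Bool.rec (fun _ => ℕ) (@Bool.rec (fun _ => ℕ) (@Bool.rec (fun _ => ℕ) rb8408 rb8409 (Nat.ble (nat_lit 8409) i)) (@Bool.rec (fun _ => ℕ) rb8410 rb8411 (Nat.ble (nat_lit 8411) i)) (Nat.ble (nat_lit 8410) i)) (@Bool.rec (fun _ => ℕ) (@Bool.rec (fun _ => ℕ) rb8412 rb8413 (Nat.ble (nat_lit 8413) i)) (@Bool.rec (fun _ => ℕ) rb8414 rb8415 (Nat.ble (nat_lit 8415) i)) (Nat.ble (nat_lit 8414) i)) (Nat.ble (nat_lit 8412) i)) (Nat.ble (nat_lit 8408) i)) (Nat.ble (nat_lit 8400) i))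

def rowBlk_n0_263 (i : ℕ) : ℕ := (@Bool.rec (fun _ => ℕ) (@Bool.rec (fun _ => ℕ) (@Bool.rec (fun _ => ℕ) (@Bool.rec (fun _ => ℕ) (@Bool.rec (fun _ => ℕ) rb8416 rb8417 (Nat.ble (nat_lit 8417) i)) (@Bool.rec (fun _ => ℕ) rb8418 rb8419 (Nat.ble (nat_lit 8419) i)) (Nat.ble (nat_lit 8418) i)) (@Bool.rec (fun _ => ℕ) (@Bool.rec (fun _ => ℕ) rb8420 rb8421 (Nat.ble (nat_lit 8421) i)) (@Bool.rec (fun _ => ℕ) rb8422 rb8423 (Nat.ble (nat_lit 8423) i)) (Nat.ble (nat_lit 8422) i)) (Nat.ble (nat_lit 8420) i)) (@Bool.rec (fun _ => ℕ) (@Bool.rec (fun _ => ℕ) (@Bool.rec (fun _ => ℕ) rb8424 rb8425 (Nat.ble (nat_lit 8425) i)) (@Bool.rec (fun _ => ℕ) rb8426 rb8427 (Nat.ble (nat_lit 8427) i)) (Nat.ble (nat_lit 8426) i)) (@Bool.rec (fun _ => ℕ) (@Bool.rec (fun _ => ℕ) rb8428 rb8429 (Nat.ble (nat_lit 8429) i)) (@Bool.rec (fun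 _ => ℕ) rb8430 rb8431 (Nat.ble (nat_lit 8431) i)) (Nat.ble (nat_lit 8430) i)) (Nat.ble (nat_lit 8428) i)) (Nat.ble (nat_lit 8424) i)) (@Bool.rec (fun _ => ℕ) (@Bool.rec (fun _ => ℕ) (@Bool.rec (fun _ => ℕ) (@Bool.rec (fun _ => ℕ) rb8432 rb8433 (Nat.ble (nat_lit 8433) i)) (@Bool.rec (fun _ => ℕ) rb8434 rb8435 (Nat.ble (nat_lit 8435) i)) (Nat.ble (nat_lit 8434) i)) (@Bool.rec (fun _ => ℕ) (@Bool.rec (fun _ => ℕ) rb8436 rb8437 (Nat.ble (nat_lit 8437) i)) (@Bool.rec (fun _ => ℕ) rb8438 rb8439 (Nat.ble (nat_lit 8439) i)) (Nat.ble (nat_lit 8438) i)) (Nat.ble (nat_lit 8436) i)) (@Bool.rec (fun _ => ℕ) (@Bool.rec (fun _ => ℕ) (@Bool.rec (fun _ => ℕ) rb8440 rb8441 (Nat.ble (nat_lit 8441) i)) (@Bool.rec (fun _ => ℕ) rb8442 rb8443 (Nat.ble (nat_lit 8443) i)) (Nat.ble (nat_lit 8442) i)) (@Bool.rec (fun _ => ℕ) (@Bool.rec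 (fun _ => ℕ) rb8444 rb8445 (Nat.ble (nat_lit 8445) i)) (@Bool.rec (fun _ => ℕ) rb8446 rb8447 (Nat.ble (nat_lit 8447) i)) (Nat.ble (nat_lit 8446) i)) (Nat.ble (nat_lit 8444) i)) (Nat.ble (nat_lit 8440) i)) (Nat.ble (nat_lit 8432) i))

def rowBlk_n0_264 (i : ℕ) : ℕ := (@Bool.rec (fun _ => ℕ) (@Bool.rec (fun _ => ℕ) (@Bool.rec (fun _ => ℕ) (@Bool.rec (fun _ => ℕ) (@Bool.rec (fun _ => ℕ) rb8448 rb8449 (Nat.ble (nat_lit 8449) i)) (@Bool.rec (fun _ => ℕ) rb8450 rb8451 (Nat.ble (nat_lit 8451) i)) (Nat.ble (nat_lit 8450) i)) (@Bool.rec (fun _ => ℕ) (@Bool.rec (fun _ => ℕ) rb8452 rb8453 (Nat.ble (nat_lit 8453) i)) (@Bool.rec (fun _ => ℕ) rb8454 rb8455 (Nat.ble (nat_lit 8455) i)) (Nat.ble (nat_lit 8454) i)) (Nat.ble (nat_lit 8452) i)) (@Bool.rec (fun _ => ℕ) (@Bool.rec (fun _ => ℕ) (@Bool.rec (fun _ => ℕ) rb8456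 rb8457 (Nat.ble (nat_lit 8457) i)) (@Bool.rec (fun _ => ℕ) rb8458 rb8459 (Nat.ble (nat_lit 8459) i)) (Nat.ble (nat_lit 8458) i)) (@Bool.rec (fun _ => ℕ) (@Bool.rec (fun _ => ℕ) rb8460 rb8461 (Nat.ble (nat_lit 8461) i)) (@Bool.rec (fun _ => ℕ) rb8462 rb8463 (Nat.ble (nat_lit 8463) i)) (Nat.ble (nat_lit 8462) i)) (Nat.ble (nat_lit 8460) i)) (Nat.ble (nat_lit 8456) i)) (@Bool.rec (fun _ => ℕ) (@Bool.rec (fun _ => ℕ) (@Bool.rec (fun _ => ℕ) (@Bool.rec (fun _ => ℕ) rb8464 rb8465 (Nat.ble (nat_lit 8465) i)) (@Bool.rec (fun _ => ℕ) rb8466 rb8467 (Nat.ble (nat_lit 8467) i)) (Nat.ble (nat_lit 8466) i)) (@Bool.rec (fun _ => ℕ) (@Bool.rec (fun _ => ℕ) rb8468 rb8469 (Nat.ble (nat_lit 8469) i)) (@Bool.rec (fun _ => ℕ) rb8470 rb8471 (Nat.ble (nat_lit 8471) i)) (Nat.ble (nat_lit 8470) i)) (Nat.ble (nat_lit 8468) i))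 (@Bool.rec (fun _ => ℕ) (@Bool.rec (fun _ => ℕ) (@Bool.rec (fun _ => ℕ) rb8472 rb8473 (Nat.ble (nat_lit 8473) i)) (@Bool.rec (fun _ => ℕ) rb8474 rb8475 (Nat.ble (nat_lit 8475) i)) (Nat.ble (nat_lit 8474) i)) (@Bool.rec (fun _ => ℕ) (@Bool.rec (fun _ => ℕ) rb8476 rb8477 (Nat.ble (nat_lit 8477) i)) (@Bool.rec (fun _ => ℕ) rb8478 rb8479 (Nat.ble (nat_lit 8479) i)) (Nat.ble (nat_lit 8478) i)) (Nat.ble (nat_lit 8476) i)) (Nat.ble (nat_lit 8472) i)) (Nat.ble (nat_lit 8464) i))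

def rowBlk_n0_265 (i : ℕ) : ℕ := (@Bool.rec (fun _ => ℕ) (@Bool.rec (fun _ => ℕ) (@Bool.rec (fun _ => ℕ) (@Bool.rec (fun _ => ℕ) (@Bool.rec (fun _ => ℕ) rb8480 rb8481 (Nat.ble (nat_lit 8481) i)) (@Bool.rec (fun _ => ℕ) rb8482 rb8483 (Nat.ble (nat_lit 8483) i)) (Nat.ble (nat_lit 8482) i)) (@Bool.rec (fun _ => ℕ) (@Bool.rec (fun _ => ℕ) rb8484 rb8485 (Nat.ble (nat_lit 8485) i)) (@Bool.rec (fun _ => ℕ) rb8486 rb8487 (Nat.ble (nat_lit 8487) i)) (Nat.ble (nat_lit 8486) i)) (Nat.ble (nat_lit 8484) i)) (@Bool.rec (fun _ => ℕ) (@Bool.rec (fun _ => ℕ) (@Bool.rec (fun _ => ℕ) rb8488 rb8489 (Nat.ble (nat_lit 8489) i)) (@Bool.rec (fun _ => ℕ) rb8490 rb8491 (Nat.ble (nat_lit 8491) i)) (Nat.ble (nat_lit 8490) i)) (@Bool.rec (fun _ => ℕ) (@Bool.rec (fun _ => ℕ) rb8492 rb8493 (Nat.ble (nat_lit 8493) i)) (@Bool.rec (fun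 _ => ℕ) rb8494 rb8495 (Nat.ble (nat_lit 8495) i)) (Nat.ble (nat_lit 8494) i)) (Nat.ble (nat_lit 8492) i)) (Nat.ble (nat_lit 8488) i)) (@Bool.rec (fun _ => ℕ) (@Bool.rec (fun _ => ℕ) (@Bool.rec (fun _ => ℕ) (@Bool.rec (fun _ => ℕ) rb8496 rb8497 (Nat.ble (nat_lit 8497) i)) (@Bool.rec (fun _ => ℕ) rb8498 rb8499 (Nat.ble (nat_lit 8499) i)) (Nat.ble (nat_lit 8498) i)) (@Bool.rec (fun _ => ℕ) (@Bool.rec (fun _ => ℕ) rb8500 rb8501 (Nat.ble (nat_lit 8501) i)) (@Bool.rec (fun _ => ℕ) rb8502 rb8503 (Nat.ble (nat_lit 8503) i)) (Nat.ble (nat_lit 8502) i)) (Nat.ble (nat_lit 8500) i)) (@Bool.rec (fun _ => ℕ) (@Bool.rec (fun _ => ℕ) (@Bool.rec (fun _ => ℕ) rb8504 rb8505 (Nat.ble (nat_lit 8505) i)) (@Bool.rec (fun _ => ℕ) rb8506 rb8507 (Nat.ble (nat_lit 8507) i)) (Nat.ble (nat_lit 8506) i)) (@Bool.rec (fun _ => ℕ) (@Bool.rec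 (fun _ => ℕ) rb8508 rb8509 (Nat.ble (nat_lit 8509) i)) (@Bool.rec (fun _ => ℕ) rb8510 rb8511 (Nat.ble (nat_lit 8511) i)) (Nat.ble (nat_lit 8510) i)) (Nat.ble (nat_lit 8508) i)) (Nat.ble (nat_lit 8504) i)) (Nat.ble (nat_lit 8496) i))

def rowBlk_n0_266 (i : ℕ) : ℕ := (@Bool.rec (fun _ => ℕ) (@Bool.rec (fun _ => ℕ) (@Bool.rec (fun _ => ℕ) (@Bool.rec (fun _ => ℕ) (@Bool.rec (fun _ => ℕ) rb8512 rb8513 (Nat.ble (nat_lit 8513) i)) (@Bool.rec (fun _ => ℕ) rb8514 rb8515 (Nat.ble (nat_lit 8515) i)) (Nat.ble (nat_lit 8514) i)) (@Bool.rec (fun _ => ℕ) (@Bool.rec (fun _ => ℕ) rb8516 rb8517 (Nat.ble (nat_lit 8517) i)) (@Bool.rec (fun _ => ℕ) rb8518 rb8519 (Nat.ble (nat_lit 8519) i)) (Nat.ble (nat_lit 8518) i)) (Nat.ble (nat_lit 8516) i)) (@Bool.rec (fun _ => ℕ) (@Bool.rec (fun _ => ℕ) (@Bool.rec (fun _ => ℕ) rb8520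 rb8521 (Nat.ble (nat_lit 8521) i)) (@Bool.rec (fun _ => ℕ) rb8522 rb8523 (Nat.ble (nat_lit 8523) i)) (Nat.ble (nat_lit 8522) i)) (@Bool.rec (fun _ => ℕ) (@Bool.rec (fun _ => ℕ) rb8524 rb8525 (Nat.ble (nat_lit 8525) i)) (@Bool.rec (fun _ => ℕ) rb8526 rb8527 (Nat.ble (nat_lit 8527) i)) (Nat.ble (nat_lit 8526) i)) (Nat.ble (nat_lit 8524) i)) (Nat.ble (nat_lit 8520) i)) (@Bool.rec (fun _ => ℕ) (@Bool.rec (fun _ => ℕ) (@Bool.rec (fun _ => ℕ) (@Bool.rec (fun _ => ℕ) rb8528 rb8529 (Nat.ble (nat_lit 8529) i)) (@Bool.rec (fun _ => ℕ) rb8530 rb8531 (Nat.ble (nat_lit 8531) i)) (Nat.ble (nat_lit 8530) i)) (@Bool.rec (fun _ => ℕ) (@Bool.rec (fun _ => ℕ) rb8532 rb8533 (Nat.ble (nat_lit 8533) i)) (@Bool.rec (fun _ => ℕ) rb8534 rb8535 (Nat.ble (nat_lit 8535) i)) (Nat.ble (nat_lit 8534) i)) (Nat.ble (nat_lit 8532) i))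 (@Bool.rec (fun _ => ℕ) (@Bool.rec (fun _ => ℕ) (@Bool.rec (fun _ => ℕ) rb8536 rb8537 (Nat.ble (nat_lit 8537) i)) (@Bool.rec (fun _ => ℕ) rb8538 rb8539 (Nat.ble (nat_lit 8539) i)) (Nat.ble (nat_lit 8538) i)) (@Bool.rec (fun _ => ℕ) (@Bool.rec (fun _ => ℕ) rb8540 rb8541 (Nat.ble (nat_lit 8541) i)) (@Bool.rec (fun _ => ℕ) rb8542 rb8543 (Nat.ble (nat_lit 8543) i)) (Nat.ble (nat_lit 8542) i)) (Nat.ble (nat_lit 8540) i)) (Nat.ble (nat_lit 8536) i)) (Nat.ble (nat_lit 8528) i))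

def rowBlk_n0_267 (i : ℕ) : ℕ := (@Bool.rec (fun _ => ℕ) (@Bool.rec (fun _ => ℕ) (@Bool.rec (fun _ => ℕ) (@Bool.rec (fun _ => ℕ) (@Bool.rec (fun _ => ℕ) rb8544 rb8545 (Nat.ble (nat_lit 8545) i)) (@Bool.rec (fun _ => ℕ) rb8546 rb8547 (Nat.ble (nat_lit 8547) i)) (Nat.ble (nat_lit 8546) i)) (@Bool.rec (fun _ => ℕ) (@Bool.rec (fun _ => ℕ) rb8548 rb8549 (Nat.ble (nat_lit 8549) i)) (@Bool.rec (fun _ => ℕ) rb8550 rb8551 (Nat.ble (nat_lit 8551) i)) (Nat.ble (nat_lit 8550) i)) (Nat.ble (nat_lit 8548) i)) (@Bool.rec (fun _ => ℕ) (@Bool.rec (fun _ => ℕ) (@Bool.rec (fun _ => ℕ) rb8552 rb8553 (Nat.ble (nat_lit 8553) i)) (@Bool.rec (fun _ => ℕ) rb8554 rb8555 (Nat.ble (nat_lit 8555) i)) (Nat.ble (nat_lit 8554) i)) (@Bool.rec (fun _ => ℕ) (@Bool.rec (fun _ => ℕ) rb8556 rb8557 (Nat.ble (nat_lit 8557) i)) (@Bool.rec (fun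 _ => ℕ) rb8558 rb8559 (Nat.ble (nat_lit 8559) i)) (Nat.ble (nat_lit 8558) i)) (Nat.ble (nat_lit 8556) i)) (Nat.ble (nat_lit 8552) i)) (@Bool.rec (fun _ => ℕ) (@Bool.rec (fun _ => ℕ) (@Bool.rec (fun _ => ℕ) (@Bool.rec (fun _ => ℕ) rb8560 rb8561 (Nat.ble (nat_lit 8561) i)) (@Bool.rec (fun _ => ℕ) rb8562 rb8563 (Nat.ble (nat_lit 8563) i)) (Nat.ble (nat_lit 8562) i)) (@Bool.rec (fun _ => ℕ) (@Bool.rec (fun _ => ℕ) rb8564 rb8565 (Nat.ble (nat_lit 8565) i)) (@Bool.rec (fun _ => ℕ) rb8566 rb8567 (Nat.ble (nat_lit 8567) i)) (Nat.ble (nat_lit 8566) i)) (Nat.ble (nat_lit 8564) i)) (@Bool.rec (fun _ => ℕ) (@Bool.rec (fun _ => ℕ) (@Bool.rec (fun _ => ℕ) rb8568 rb8569 (Nat.ble (nat_lit 8569) i)) (@Bool.rec (fun _ => ℕ) rb8570 rb8571 (Nat.ble (nat_lit 8571) i)) (Nat.ble (nat_lit 8570) i)) (@Bool.rec (fun _ => ℕ) (@Bool.rec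 (fun _ => ℕ) rb8572 rb8573 (Nat.ble (nat_lit 8573) i)) (@Bool.rec (fun _ => ℕ) rb8574 rb8575 (Nat.ble (nat_lit 8575) i)) (Nat.ble (nat_lit 8574) i)) (Nat.ble (nat_lit 8572) i)) (Nat.ble (nat_lit 8568) i)) (Nat.ble (nat_lit 8560) i))

def rowBlk_n0_268 (i : ℕ) : ℕ := (@Bool.rec (fun _ => ℕ) (@Bool.rec (fun _ => ℕ) (@Bool.rec (fun _ => ℕ) (@Bool.rec (fun _ => ℕ) (@Bool.rec (fun _ => ℕ) rb8576 rb8577 (Nat.ble (nat_lit 8577) i)) (@Bool.rec (fun _ => ℕ) rb8578 rb8579 (Nat.ble (nat_lit 8579) i)) (Nat.ble (nat_lit 8578) i)) (@Bool.rec (fun _ => ℕ) (@Bool.rec (fun _ => ℕ) rb8580 rb8581 (Nat.ble (nat_lit 8581) i)) (@Bool.rec (fun _ => ℕ) rb8582 rb8583 (Nat.ble (nat_lit 8583) i)) (Nat.ble (nat_lit 8582) i)) (Nat.ble (nat_lit 8580) i)) (@Bool.rec (fun _ => ℕ) (@Bool.rec (fun _ => ℕ) (@Bool.rec (fun _ => ℕ) rb8584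 rb8585 (Nat.ble (nat_lit 8585) i)) (@Bool.rec (fun _ => ℕ) rb8586 rb8587 (Nat.ble (nat_lit 8587) i)) (Nat.ble (nat_lit 8586) i)) (@Bool.rec (fun _ => ℕ) (@Bool.rec (fun _ => ℕ) rb8588 rb8589 (Nat.ble (nat_lit 8589) i)) (@Bool.rec (fun _ => ℕ) rb8590 rb8591 (Nat.ble (nat_lit 8591) i)) (Nat.ble (nat_lit 8590) i)) (Nat.ble (nat_lit 8588) i)) (Nat.ble (nat_lit 8584) i)) (@Bool.rec (fun _ => ℕ) (@Bool.rec (fun _ => ℕ) (@Bool.rec (fun _ => ℕ) (@Bool.rec (fun _ => ℕ) rb8592 rb8593 (Nat.ble (nat_lit 8593) i)) (@Bool.rec (fun _ => ℕ) rb8594 rb8595 (Nat.ble (nat_lit 8595) i)) (Nat.ble (nat_lit 8594) i)) (@Bool.rec (fun _ => ℕ) (@Bool.rec (fun _ => ℕ) rb8596 rb8597 (Nat.ble (nat_lit 8597) i)) (@Bool.rec (fun _ => ℕ) rb8598 rb8599 (Nat.ble (nat_lit 8599) i)) (Nat.ble (nat_lit 8598) i)) (Nat.ble (nat_lit 8596) i))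 (@Bool.rec (fun _ => ℕ) (@Bool.rec (fun _ => ℕ) (@Bool.rec (fun _ => ℕ) rb8600 rb8601 (Nat.ble (nat_lit 8601) i)) (@Bool.rec (fun _ => ℕ) rb8602 rb8603 (Nat.ble (nat_lit 8603) i)) (Nat.ble (nat_lit 8602) i)) (@Bool.rec (fun _ => ℕ) (@Bool.rec (fun _ => ℕ) rb8604 rb8605 (Nat.ble (nat_lit 8605) i)) (@Bool.rec (fun _ => ℕ) rb8606 rb8607 (Nat.ble (nat_lit 8607) i)) (Nat.ble (nat_lit 8606) i)) (Nat.ble (nat_lit 8604) i)) (Nat.ble (nat_lit 8600) i)) (Nat.ble (nat_lit 8592) i))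

def rowBlk_n0_269 (i : ℕ) : ℕ := (@Bool.rec (fun _ => ℕ) (@Bool.rec (fun _ => ℕ) (@Bool.rec (fun _ => ℕ) (@Bool.rec (fun _ => ℕ) (@Bool.rec (fun _ => ℕ) rb8608 rb8609 (Nat.ble (nat_lit 8609) i)) (@Bool.rec (fun _ => ℕ) rb8610 rb8611 (Nat.ble (nat_lit 8611) i)) (Nat.ble (nat_lit 8610) i)) (@Bool.rec (fun _ => ℕ) (@Bool.rec (fun _ => ℕ) rb8612 rb8613 (Nat.ble (nat_lit 8613) i)) (@Bool.rec (fun _ => ℕ) rb8614 rb8615 (Nat.ble (nat_lit 8615) i)) (Nat.ble (nat_lit 8614) i)) (Nat.ble (nat_lit 8612) i)) (@Bool.rec (fun _ => ℕ) (@Bool.rec (fun _ => ℕ) (@Bool.rec (fun _ => ℕ) rb8616 rb8617 (Nat.ble (nat_lit 8617) i)) (@Bool.rec (fun _ => ℕ) rb8618 rb8619 (Nat.ble (nat_lit 8619) i)) (Nat.ble (nat_lit 8618) i)) (@Bool.rec (fun _ => ℕ) (@Bool.rec (fun _ => ℕ) rb8620 rb8621 (Nat.ble (nat_lit 8621) i)) (@Bool.rec (fun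 _ => ℕ) rb8622 rb8623 (Nat.ble (nat_lit 8623) i)) (Nat.ble (nat_lit 8622) i)) (Nat.ble (nat_lit 8620) i)) (Nat.ble (nat_lit 8616) i)) (@Bool.rec (fun _ => ℕ) (@Bool.rec (fun _ => ℕ) (@Bool.rec (fun _ => ℕ) (@Bool.rec (fun _ => ℕ) rb8624 rb8625 (Nat.ble (nat_lit 8625) i)) (@Bool.rec (fun _ => ℕ) rb8626 rb8627 (Nat.ble (nat_lit 8627) i)) (Nat.ble (nat_lit 8626) i)) (@Bool.rec (fun _ => ℕ) (@Bool.rec (fun _ => ℕ) rb8628 rb8629 (Nat.ble (nat_lit 8629) i)) (@Bool.rec (fun _ => ℕ) rb8630 rb8631 (Nat.ble (nat_lit 8631) i)) (Nat.ble (nat_lit 8630) i)) (Nat.ble (nat_lit 8628) i)) (@Bool.rec (fun _ => ℕ) (@Bool.rec (fun _ => ℕ) (@Bool.rec (fun _ => ℕ) rb8632 rb8633 (Nat.ble (nat_lit 8633) i)) (@Bool.rec (fun _ => ℕ) rb8634 rb8635 (Nat.ble (nat_lit 8635) i)) (Nat.ble (nat_lit 8634) i)) (@Bool.rec (fun _ => ℕ) (@Bool.rec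 (fun _ => ℕ) rb8636 rb8637 (Nat.ble (nat_lit 8637) i)) (@Bool.rec (fun _ => ℕ) rb8638 rb8639 (Nat.ble (nat_lit 8639) i)) (Nat.ble (nat_lit 8638) i)) (Nat.ble (nat_lit 8636) i)) (Nat.ble (nat_lit 8632) i)) (Nat.ble (nat_lit 8624) i))

def rowBlk_n0_270 (i : ℕ) : ℕ := (@Bool.rec (fun _ => ℕ) (@Bool.rec (fun _ => ℕ) (@Bool.rec (fun _ => ℕ) (@Bool.rec (fun _ => ℕ) (@Bool.rec (fun _ => ℕ) rb8640 rb8641 (Nat.ble (nat_lit 8641) i)) (@Bool.rec (fun _ => ℕ) rb8642 rb8643 (Nat.ble (nat_lit 8643) i)) (Nat.ble (nat_lit 8642) i)) (@Bool.rec (fun _ => ℕ) (@Bool.rec (fun _ => ℕ) rb8644 rb8645 (Nat.ble (nat_lit 8645) i)) (@Bool.rec (fun _ => ℕ) rb8646 rb8647 (Nat.ble (nat_lit 8647) i)) (Nat.ble (nat_lit 8646) i)) (Nat.ble (nat_lit 8644) i)) (@Bool.rec (fun _ => ℕ) (@Bool.rec (fun _ => ℕ) (@Bool.rec (fun _ => ℕ) rb8648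 rb8649 (Nat.ble (nat_lit 8649) i)) (@Bool.rec (fun _ => ℕ) rb8650 rb8651 (Nat.ble (nat_lit 8651) i)) (Nat.ble (nat_lit 8650) i)) (@Bool.rec (fun _ => ℕ) (@Bool.rec (fun _ => ℕ) rb8652 rb8653 (Nat.ble (nat_lit 8653) i)) (@Bool.rec (fun _ => ℕ) rb8654 rb8655 (Nat.ble (nat_lit 8655) i)) (Nat.ble (nat_lit 8654) i)) (Nat.ble (nat_lit 8652) i)) (Nat.ble (nat_lit 8648) i)) (@Bool.rec (fun _ => ℕ) (@Bool.rec (fun _ => ℕ) (@Bool.rec (fun _ => ℕ) (@Bool.rec (fun _ => ℕ) rb8656 rb8657 (Nat.ble (nat_lit 8657) i)) (@Bool.rec (fun _ => ℕ) rb8658 rb8659 (Nat.ble (nat_lit 8659) i)) (Nat.ble (nat_lit 8658) i)) (@Bool.rec (fun _ => ℕ) (@Bool.rec (fun _ => ℕ) rb8660 rb8661 (Nat.ble (nat_lit 8661) i)) (@Bool.rec (fun _ => ℕ) rb8662 rb8663 (Nat.ble (nat_lit 8663) i)) (Nat.ble (nat_lit 8662) i)) (Nat.ble (nat_lit 8660) i))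 (@Bool.rec (fun _ => ℕ) (@Bool.rec (fun _ => ℕ) (@Bool.rec (fun _ => ℕ) rb8664 rb8665 (Nat.ble (nat_lit 8665) i)) (@Bool.rec (fun _ => ℕ) rb8666 rb8667 (Nat.ble (nat_lit 8667) i)) (Nat.ble (nat_lit 8666) i)) (@Bool.rec (fun _ => ℕ) (@Bool.rec (fun _ => ℕ) rb8668 rb8669 (Nat.ble (nat_lit 8669) i)) (@Bool.rec (fun _ => ℕ) rb8670 rb8671 (Nat.ble (nat_lit 8671) i)) (Nat.ble (nat_lit 8670) i)) (Nat.ble (nat_lit 8668) i)) (Nat.ble (nat_lit 8664) i)) (Nat.ble (nat_lit 8656) i))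

def rowBlk_n0_271 (i : ℕ) : ℕ := (@Bool.rec (fun _ => ℕ) (@Bool.rec (fun _ => ℕ) (@Bool.rec (fun _ => ℕ) (@Bool.rec (fun _ => ℕ) (@Bool.rec (fun _ => ℕ) rb8672 rb8673 (Nat.ble (nat_lit 8673) i)) (@Bool.rec (fun _ => ℕ) rb8674 rb8675 (Nat.ble (nat_lit 8675) i)) (Nat.ble (nat_lit 8674) i)) (@Bool.rec (fun _ => ℕ) (@Bool.rec (fun _ => ℕ) rb8676 rb8677 (Nat.ble (nat_lit 8677) i)) (@Bool.rec (fun _ => ℕ) rb8678 rb8679 (Nat.ble (nat_lit 8679) i)) (Nat.ble (nat_lit 8678) i)) (Nat.ble (nat_lit 8676) i)) (@Bool.rec (fun _ => ℕ) (@Bool.rec (fun _ => ℕ) (@Bool.rec (fun _ => ℕ) rb8680 rb8681 (Nat.ble (nat_lit 8681) i)) (@Bool.rec (fun _ => ℕ) rb8682 rb8683 (Nat.ble (nat_lit 8683) i)) (Nat.ble (nat_lit 8682) i)) (@Bool.rec (fun _ => ℕ) (@Bool.rec (fun _ => ℕ) rb8684 rb8685 (Nat.ble (nat_lit 8685) i)) (@Bool.rec (fun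 _ => ℕ) rb8686 rb8687 (Nat.ble (nat_lit 8687) i)) (Nat.ble (nat_lit 8686) i)) (Nat.ble (nat_lit 8684) i)) (Nat.ble (nat_lit 8680) i)) (@Bool.rec (fun _ => ℕ) (@Bool.rec (fun _ => ℕ) (@Bool.rec (fun _ => ℕ) (@Bool.rec (fun _ => ℕ) rb8688 rb8689 (Nat.ble (nat_lit 8689) i)) (@Bool.rec (fun _ => ℕ) rb8690 rb8691 (Nat.ble (nat_lit 8691) i)) (Nat.ble (nat_lit 8690) i)) (@Bool.rec (fun _ => ℕ) (@Bool.rec (fun _ => ℕ) rb8692 rb8693 (Nat.ble (nat_lit 8693) i)) (@Bool.rec (fun _ => ℕ) rb8694 rb8695 (Nat.ble (nat_lit 8695) i)) (Nat.ble (nat_lit 8694) i)) (Nat.ble (nat_lit 8692) i)) (@Bool.rec (fun _ => ℕ) (@Bool.rec (fun _ => ℕ) (@Bool.rec (fun _ => ℕ) rb8696 rb8697 (Nat.ble (nat_lit 8697) i)) (@Bool.rec (fun _ => ℕ) rb8698 rb8699 (Nat.ble (nat_lit 8699) i)) (Nat.ble (nat_lit 8698) i)) (@Bool.rec (fun _ => ℕ) (@Bool.rec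 (fun _ => ℕ) rb8700 rb8701 (Nat.ble (nat_lit 8701) i)) (@Bool.rec (fun _ => ℕ) rb8702 rb8703 (Nat.ble (nat_lit 8703) i)) (Nat.ble (nat_lit 8702) i)) (Nat.ble (nat_lit 8700) i)) (Nat.ble (nat_lit 8696) i)) (Nat.ble (nat_lit 8688) i))

def rowBlk_n0_272 (i : ℕ) : ℕ := (@Bool.rec (fun _ => ℕ) (@Bool.rec (fun _ => ℕ) (@Bool.rec (fun _ => ℕ) (@Bool.rec (fun _ => ℕ) (@Bool.rec (fun _ => ℕ) rb8704 rb8705 (Nat.ble (nat_lit 8705) i)) (@Bool.rec (fun _ => ℕ) rb8706 rb8707 (Nat.ble (nat_lit 8707) i)) (Nat.ble (nat_lit 8706) i)) (@Bool.rec (fun _ => ℕ) (@Bool.rec (fun _ => ℕ) rb8708 rb8709 (Nat.ble (nat_lit 8709) i)) (@Bool.rec (fun _ => ℕ) rb8710 rb8711 (Nat.ble (nat_lit 8711) i)) (Nat.ble (nat_lit 8710) i)) (Nat.ble (nat_lit 8708) i)) (@Bool.rec (fun _ => ℕ) (@Bool.rec (fun _ => ℕ) (@Bool.rec (fun _ => ℕ) rb8712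 rb8713 (Nat.ble (nat_lit 8713) i)) (@Bool.rec (fun _ => ℕ) rb8714 rb8715 (Nat.ble (nat_lit 8715) i)) (Nat.ble (nat_lit 8714) i)) (@Bool.rec (fun _ => ℕ) (@Bool.rec (fun _ => ℕ) rb8716 rb8717 (Nat.ble (nat_lit 8717) i)) (@Bool.rec (fun _ => ℕ) rb8718 rb8719 (Nat.ble (nat_lit 8719) i)) (Nat.ble (nat_lit 8718) i)) (Nat.ble (nat_lit 8716) i)) (Nat.ble (nat_lit 8712) i)) (@Bool.rec (fun _ => ℕ) (@Bool.rec (fun _ => ℕ) (@Bool.rec (fun _ => ℕ) (@Bool.rec (fun _ => ℕ) rb8720 rb8721 (Nat.ble (nat_lit 8721) i)) (@Bool.rec (fun _ => ℕ) rb8722 rb8723 (Nat.ble (nat_lit 8723) i)) (Nat.ble (nat_lit 8722) i)) (@Bool.rec (fun _ => ℕ) (@Bool.rec (fun _ => ℕ) rb8724 rb8725 (Nat.ble (nat_lit 8725) i)) (@Bool.rec (fun _ => ℕ) rb8726 rb8727 (Nat.ble (nat_lit 8727) i)) (Nat.ble (nat_lit 8726) i)) (Nat.ble (nat_lit 8724) i))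 (@Bool.rec (fun _ => ℕ) (@Bool.rec (fun _ => ℕ) (@Bool.rec (fun _ => ℕ) rb8728 rb8729 (Nat.ble (nat_lit 8729) i)) (@Bool.rec (fun _ => ℕ) rb8730 rb8731 (Nat.ble (nat_lit 8731) i)) (Nat.ble (nat_lit 8730) i)) (@Bool.rec (fun _ => ℕ) (@Bool.rec (fun _ => ℕ) rb8732 rb8733 (Nat.ble (nat_lit 8733) i)) (@Bool.rec (fun _ => ℕ) rb8734 rb8735 (Nat.ble (nat_lit 8735) i)) (Nat.ble (nat_lit 8734) i)) (Nat.ble (nat_lit 8732) i)) (Nat.ble (nat_lit 8728) i)) (Nat.ble (nat_lit 8720) i))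

def rowBlk_n0_273 (i : ℕ) : ℕ := (@Bool.rec (fun _ => ℕ) (@Bool.rec (fun _ => ℕ) (@Bool.rec (fun _ => ℕ) (@Bool.rec (fun _ => ℕ) (@Bool.rec (fun _ => ℕ) rb8736 rb8737 (Nat.ble (nat_lit 8737) i)) (@Bool.rec (fun _ => ℕ) rb8738 rb8739 (Nat.ble (nat_lit 8739) i)) (Nat.ble (nat_lit 8738) i)) (@Bool.rec (fun _ => ℕ) (@Bool.rec (fun _ => ℕ) rb8740 rb8741 (Nat.ble (nat_lit 8741) i)) (@Bool.rec (fun _ => ℕ) rb8742 rb8743 (Nat.ble (nat_lit 8743) i)) (Nat.ble (nat_lit 8742) i)) (Nat.ble (nat_lit 8740) i)) (@Bool.rec (fun _ => ℕ) (@Bool.rec (fun _ => ℕ) (@Bool.rec (fun _ => ℕ) rb8744 rb8745 (Nat.ble (nat_lit 8745) i)) (@Bool.rec (fun _ => ℕ) rb8746 rb8747 (Nat.ble (nat_lit 8747) i)) (Nat.ble (nat_lit 8746) i)) (@Bool.rec (fun _ => ℕ) (@Bool.rec (fun _ => ℕ) rb8748 rb8749 (Nat.ble (nat_lit 8749) i)) (@Bool.rec (fun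 _ => ℕ) rb8750 rb8751 (Nat.ble (nat_lit 8751) i)) (Nat.ble (nat_lit 8750) i)) (Nat.ble (nat_lit 8748) i)) (Nat.ble (nat_lit 8744) i)) (@Bool.rec (fun _ => ℕ) (@Bool.rec (fun _ => ℕ) (@Bool.rec (fun _ => ℕ) (@Bool.rec (fun _ => ℕ) rb8752 rb8753 (Nat.ble (nat_lit 8753) i)) (@Bool.rec (fun _ => ℕ) rb8754 rb8755 (Nat.ble (nat_lit 8755) i)) (Nat.ble (nat_lit 8754) i)) (@Bool.rec (fun _ => ℕ) (@Bool.rec (fun _ => ℕ) rb8756 rb8757 (Nat.ble (nat_lit 8757) i)) (@Bool.rec (fun _ => ℕ) rb8758 rb8759 (Nat.ble (nat_lit 8759) i)) (Nat.ble (nat_lit 8758) i)) (Nat.ble (nat_lit 8756) i)) (@Bool.rec (fun _ => ℕ) (@Bool.rec (fun _ => ℕ) (@Bool.rec (fun _ => ℕ) rb8760 rb8761 (Nat.ble (nat_lit 8761) i)) (@Bool.rec (fun _ => ℕ) rb8762 rb8763 (Nat.ble (nat_lit 8763) i)) (Nat.ble (nat_lit 8762) i)) (@Bool.rec (fun _ => ℕ) (@Bool.rec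 (fun _ => ℕ) rb8764 rb8765 (Nat.ble (nat_lit 8765) i)) (@Bool.rec (fun _ => ℕ) rb8766 rb8767 (Nat.ble (nat_lit 8767) i)) (Nat.ble (nat_lit 8766) i)) (Nat.ble (nat_lit 8764) i)) (Nat.ble (nat_lit 8760) i)) (Nat.ble (nat_lit 8752) i))

def rowBlk_n0_274 (i : ℕ) : ℕ := (@Bool.rec (fun _ => ℕ) (@Bool.rec (fun _ => ℕ) (@Bool.rec (fun _ => ℕ) (@Bool.rec (fun _ => ℕ) (@Bool.rec (fun _ => ℕ) rb8768 rb8769 (Nat.ble (nat_lit 8769) i)) (@Bool.rec (fun _ => ℕ) rb8770 rb8771 (Nat.ble (nat_lit 8771) i)) (Nat.ble (nat_lit 8770) i)) (@Bool.rec (fun _ => ℕ) (@Bool.rec (fun _ => ℕ) rb8772 rb8773 (Nat.ble (nat_lit 8773) i)) (@Bool.rec (fun _ => ℕ) rb8774 rb8775 (Nat.ble (nat_lit 8775) i)) (Nat.ble (nat_lit 8774) i)) (Nat.ble (nat_lit 8772) i)) (@Bool.rec (fun _ => ℕ) (@Bool.rec (fun _ => ℕ) (@Bool.rec (fun _ => ℕ) rb8776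 rb8777 (Nat.ble (nat_lit 8777) i)) (@Bool.rec (fun _ => ℕ) rb8778 rb8779 (Nat.ble (nat_lit 8779) i)) (Nat.ble (nat_lit 8778) i)) (@Bool.rec (fun _ => ℕ) (@Bool.rec (fun _ => ℕ) rb8780 rb8781 (Nat.ble (nat_lit 8781) i)) (@Bool.rec (fun _ => ℕ) rb8782 rb8783 (Nat.ble (nat_lit 8783) i)) (Nat.ble (nat_lit 8782) i)) (Nat.ble (nat_lit 8780) i)) (Nat.ble (nat_lit 8776) i)) (@Bool.rec (fun _ => ℕ) (@Bool.rec (fun _ => ℕ) (@Bool.rec (fun _ => ℕ) (@Bool.rec (fun _ => ℕ) rb8784 rb8785 (Nat.ble (nat_lit 8785) i)) (@Bool.rec (fun _ => ℕ) rb8786 rb8787 (Nat.ble (nat_lit 8787) i)) (Nat.ble (nat_lit 8786) i)) (@Bool.rec (fun _ => ℕ) (@Bool.rec (fun _ => ℕ) rb8788 rb8789 (Nat.ble (nat_lit 8789) i)) (@Bool.rec (fun _ => ℕ) rb8790 rb8791 (Nat.ble (nat_lit 8791) i)) (Nat.ble (nat_lit 8790) i)) (Nat.ble (nat_lit 8788) i))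 (@Bool.rec (fun _ => ℕ) (@Bool.rec (fun _ => ℕ) (@Bool.rec (fun _ => ℕ) rb8792 rb8793 (Nat.ble (nat_lit 8793) i)) (@Bool.rec (fun _ => ℕ) rb8794 rb8795 (Nat.ble (nat_lit 8795) i)) (Nat.ble (nat_lit 8794) i)) (@Bool.rec (fun _ => ℕ) (@Bool.rec (fun _ => ℕ) rb8796 rb8797 (Nat.ble (nat_lit 8797) i)) (@Bool.rec (fun _ => ℕ) rb8798 rb8799 (Nat.ble (nat_lit 8799) i)) (Nat.ble (nat_lit 8798) i)) (Nat.ble (nat_lit 8796) i)) (Nat.ble (nat_lit 8792) i)) (Nat.ble (nat_lit 8784) i))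

def rowBlk_n0_275 (i : ℕ) : ℕ := (@Bool.rec (fun _ => ℕ) (@Bool.rec (fun _ => ℕ) (@Bool.rec (fun _ => ℕ) (@Bool.rec (fun _ => ℕ) (@Bool.rec (fun _ => ℕ) rb8800 rb8801 (Nat.ble (nat_lit 8801) i)) (@Bool.rec (fun _ => ℕ) rb8802 rb8803 (Nat.ble (nat_lit 8803) i)) (Nat.ble (nat_lit 8802) i)) (@Bool.rec (fun _ => ℕ) (@Bool.rec (fun _ => ℕ) rb8804 rb8805 (Nat.ble (nat_lit 8805) i)) (@Bool.rec (fun _ => ℕ) rb8806 rb8807 (Nat.ble (nat_lit 8807) i)) (Nat.ble (nat_lit 8806) i)) (Nat.ble (nat_lit 8804) i)) (@Bool.rec (fun _ => ℕ) (@Bool.rec (fun _ => ℕ) (@Bool.rec (fun _ => ℕ) rb8808 rb8809 (Nat.ble (nat_lit 8809) i)) (@Bool.rec (fun _ => ℕ) rb8810 rb8811 (Nat.ble (nat_lit 8811) i)) (Nat.ble (nat_lit 8810) i)) (@Bool.rec (fun _ => ℕ) (@Bool.rec (fun _ => ℕ) rb8812 rb8813 (Nat.ble (nat_lit 8813) i)) (@Bool.rec (fun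 _ => ℕ) rb8814 rb8815 (Nat.ble (nat_lit 8815) i)) (Nat.ble (nat_lit 8814) i)) (Nat.ble (nat_lit 8812) i)) (Nat.ble (nat_lit 8808) i)) (@Bool.rec (fun _ => ℕ) (@Bool.rec (fun _ => ℕ) (@Bool.rec (fun _ => ℕ) (@Bool.rec (fun _ => ℕ) rb8816 rb8817 (Nat.ble (nat_lit 8817) i)) (@Bool.rec (fun _ => ℕ) rb8818 rb8819 (Nat.ble (nat_lit 8819) i)) (Nat.ble (nat_lit 8818) i)) (@Bool.rec (fun _ => ℕ) (@Bool.rec (fun _ => ℕ) rb8820 rb8821 (Nat.ble (nat_lit 8821) i)) (@Bool.rec (fun _ => ℕ) rb8822 rb8823 (Nat.ble (nat_lit 8823) i)) (Nat.ble (nat_lit 8822) i)) (Nat.ble (nat_lit 8820) i)) (@Bool.rec (fun _ => ℕ) (@Bool.rec (fun _ => ℕ) (@Bool.rec (fun _ => ℕ) rb8824 rb8825 (Nat.ble (nat_lit 8825) i)) (@Bool.rec (fun _ => ℕ) rb8826 rb8827 (Nat.ble (nat_lit 8827) i)) (Nat.ble (nat_lit 8826) i)) (@Bool.rec (fun _ => ℕ) (@Bool.rec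 (fun _ => ℕ) rb8828 rb8829 (Nat.ble (nat_lit 8829) i)) (@Bool.rec (fun _ => ℕ) rb8830 rb8831 (Nat.ble (nat_lit 8831) i)) (Nat.ble (nat_lit 8830) i)) (Nat.ble (nat_lit 8828) i)) (Nat.ble (nat_lit 8824) i)) (Nat.ble (nat_lit 8816) i))

def rowBlk_n0_276 (i : ℕ) : ℕ := (@Bool.rec (fun _ => ℕ) (@Bool.rec (fun _ => ℕ) (@Bool.rec (fun _ => ℕ) (@Bool.rec (fun _ => ℕ) (@Bool.rec (fun _ => ℕ) rb8832 rb8833 (Nat.ble (nat_lit 8833) i)) (@Bool.rec (fun _ => ℕ) rb8834 rb8835 (Nat.ble (nat_lit 8835) i)) (Nat.ble (nat_lit 8834) i)) (@Bool.rec (fun _ => ℕ) (@Bool.rec (fun _ => ℕ) rb8836 rb8837 (Nat.ble (nat_lit 8837) i)) (@Bool.rec (fun _ => ℕ) rb8838 rb8839 (Nat.ble (nat_lit 8839) i)) (Nat.ble (nat_lit 8838) i)) (Nat.ble (nat_lit 8836) i)) (@Bool.rec (fun _ => ℕ) (@Bool.rec (fun _ => ℕ) (@Bool.rec (fun _ => ℕ) rb8840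 rb8841 (Nat.ble (nat_lit 8841) i)) (@Bool.rec (fun _ => ℕ) rb8842 rb8843 (Nat.ble (nat_lit 8843) i)) (Nat.ble (nat_lit 8842) i)) (@Bool.rec (fun _ => ℕ) (@Bool.rec (fun _ => ℕ) rb8844 rb8845 (Nat.ble (nat_lit 8845) i)) (@Bool.rec (fun _ => ℕ) rb8846 rb8847 (Nat.ble (nat_lit 8847) i)) (Nat.ble (nat_lit 8846) i)) (Nat.ble (nat_lit 8844) i)) (Nat.ble (nat_lit 8840) i)) (@Bool.rec (fun _ => ℕ) (@Bool.rec (fun _ => ℕ) (@Bool.rec (fun _ => ℕ) (@Bool.rec (fun _ => ℕ) rb8848 rb8849 (Nat.ble (nat_lit 8849) i)) (@Bool.rec (fun _ => ℕ) rb8850 rb8851 (Nat.ble (nat_lit 8851) i)) (Nat.ble (nat_lit 8850) i)) (@Bool.rec (fun _ => ℕ) (@Bool.rec (fun _ => ℕ) rb8852 rb8853 (Nat.ble (nat_lit 8853) i)) (@Bool.rec (fun _ => ℕ) rb8854 rb8855 (Nat.ble (nat_lit 8855) i)) (Nat.ble (nat_lit 8854) i)) (Nat.ble (nat_lit 8852) i))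 (@Bool.rec (fun _ => ℕ) (@Bool.rec (fun _ => ℕ) (@Bool.rec (fun _ => ℕ) rb8856 rb8857 (Nat.ble (nat_lit 8857) i)) (@Bool.rec (fun _ => ℕ) rb8858 rb8859 (Nat.ble (nat_lit 8859) i)) (Nat.ble (nat_lit 8858) i)) (@Bool.rec (fun _ => ℕ) (@Bool.rec (fun _ => ℕ) rb8860 rb8861 (Nat.ble (nat_lit 8861) i)) (@Bool.rec (fun _ => ℕ) rb8862 rb8863 (Nat.ble (nat_lit 8863) i)) (Nat.ble (nat_lit 8862) i)) (Nat.ble (nat_lit 8860) i)) (Nat.ble (nat_lit 8856) i)) (Nat.ble (nat_lit 8848) i))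

def rowBlk_n0_277 (i : ℕ) : ℕ := (@Bool.rec (fun _ => ℕ) (@Bool.rec (fun _ => ℕ) (@Bool.rec (fun _ => ℕ) (@Bool.rec (fun _ => ℕ) (@Bool.rec (fun _ => ℕ) rb8864 rb8865 (Nat.ble (nat_lit 8865) i)) (@Bool.rec (fun _ => ℕ) rb8866 rb8867 (Nat.ble (nat_lit 8867) i)) (Nat.ble (nat_lit 8866) i)) (@Bool.rec (fun _ => ℕ) (@Bool.rec (fun _ => ℕ) rb8868 rb8869 (Nat.ble (nat_lit 8869) i)) (@Bool.rec (fun _ => ℕ) rb8870 rb8871 (Nat.ble (nat_lit 8871) i)) (Nat.ble (nat_lit 8870) i)) (Nat.ble (nat_lit 8868) i)) (@Bool.rec (fun _ => ℕ) (@Bool.rec (fun _ => ℕ) (@Bool.rec (fun _ => ℕ) rb8872 rb8873 (Nat.ble (nat_lit 8873) i)) (@Bool.rec (fun _ => ℕ) rb8874 rb8875 (Nat.ble (nat_lit 8875) i)) (Nat.ble (nat_lit 8874) i)) (@Bool.rec (fun _ => ℕ) (@Bool.rec (fun _ => ℕ) rb8876 rb8877 (Nat.ble (nat_lit 8877) i)) (@Bool.rec (fun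 _ => ℕ) rb8878 rb8879 (Nat.ble (nat_lit 8879) i)) (Nat.ble (nat_lit 8878) i)) (Nat.ble (nat_lit 8876) i)) (Nat.ble (nat_lit 8872) i)) (@Bool.rec (fun _ => ℕ) (@Bool.rec (fun _ => ℕ) (@Bool.rec (fun _ => ℕ) (@Bool.rec (fun _ => ℕ) rb8880 rb8881 (Nat.ble (nat_lit 8881) i)) (@Bool.rec (fun _ => ℕ) rb8882 rb8883 (Nat.ble (nat_lit 8883) i)) (Nat.ble (nat_lit 8882) i)) (@Bool.rec (fun _ => ℕ) (@Bool.rec (fun _ => ℕ) rb8884 rb8885 (Nat.ble (nat_lit 8885) i)) (@Bool.rec (fun _ => ℕ) rb8886 rb8887 (Nat.ble (nat_lit 8887) i)) (Nat.ble (nat_lit 8886) i)) (Nat.ble (nat_lit 8884) i)) (@Bool.rec (fun _ => ℕ) (@Bool.rec (fun _ => ℕ) (@Bool.rec (fun _ => ℕ) rb8888 rb8889 (Nat.ble (nat_lit 8889) i)) (@Bool.rec (fun _ => ℕ) rb8890 rb8891 (Nat.ble (nat_lit 8891) i)) (Nat.ble (nat_lit 8890) i)) (@Bool.rec (fun _ => ℕ) (@Bool.rec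 (fun _ => ℕ) rb8892 rb8893 (Nat.ble (nat_lit 8893) i)) (@Bool.rec (fun _ => ℕ) rb8894 rb8895 (Nat.ble (nat_lit 8895) i)) (Nat.ble (nat_lit 8894) i)) (Nat.ble (nat_lit 8892) i)) (Nat.ble (nat_lit 8888) i)) (Nat.ble (nat_lit 8880) i))

def rowBlk_n0_278 (i : ℕ) : ℕ := (@Bool.rec (fun _ => ℕ) (@Bool.rec (fun _ => ℕ) (@Bool.rec (fun _ => ℕ) (@Bool.rec (fun _ => ℕ) (@Bool.rec (fun _ => ℕ) rb8896 rb8897 (Nat.ble (nat_lit 8897) i)) (@Bool.rec (fun _ => ℕ) rb8898 rb8899 (Nat.ble (nat_lit 8899) i)) (Nat.ble (nat_lit 8898) i)) (@Bool.rec (fun _ => ℕ) (@Bool.rec (fun _ => ℕ) rb8900 rb8901 (Nat.ble (nat_lit 8901) i)) (@Bool.rec (fun _ => ℕ) rb8902 rb8903 (Nat.ble (nat_lit 8903) i)) (Nat.ble (nat_lit 8902) i)) (Nat.ble (nat_lit 8900) i)) (@Bool.rec (fun _ => ℕ) (@Bool.rec (fun _ => ℕ) (@Bool.rec (fun _ => ℕ) rb8904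 rb8905 (Nat.ble (nat_lit 8905) i)) (@Bool.rec (fun _ => ℕ) rb8906 rb8907 (Nat.ble (nat_lit 8907) i)) (Nat.ble (nat_lit 8906) i)) (@Bool.rec (fun _ => ℕ) (@Bool.rec (fun _ => ℕ) rb8908 rb8909 (Nat.ble (nat_lit 8909) i)) (@Bool.rec (fun _ => ℕ) rb8910 rb8911 (Nat.ble (nat_lit 8911) i)) (Nat.ble (nat_lit 8910) i)) (Nat.ble (nat_lit 8908) i)) (Nat.ble (nat_lit 8904) i)) (@Bool.rec (fun _ => ℕ) (@Bool.rec (fun _ => ℕ) (@Bool.rec (fun _ => ℕ) (@Bool.rec (fun _ => ℕ) rb8912 rb8913 (Nat.ble (nat_lit 8913) i)) (@Bool.rec (fun _ => ℕ) rb8914 rb8915 (Nat.ble (nat_lit 8915) i)) (Nat.ble (nat_lit 8914) i)) (@Bool.rec (fun _ => ℕ) (@Bool.rec (fun _ => ℕ) rb8916 rb8917 (Nat.ble (nat_lit 8917) i)) (@Bool.rec (fun _ => ℕ) rb8918 rb8919 (Nat.ble (nat_lit 8919) i)) (Nat.ble (nat_lit 8918) i)) (Nat.ble (nat_lit 8916) i))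 (@Bool.rec (fun _ => ℕ) (@Bool.rec (fun _ => ℕ) (@Bool.rec (fun _ => ℕ) rb8920 rb8921 (Nat.ble (nat_lit 8921) i)) (@Bool.rec (fun _ => ℕ) rb8922 rb8923 (Nat.ble (nat_lit 8923) i)) (Nat.ble (nat_lit 8922) i)) (@Bool.rec (fun _ => ℕ) (@Bool.rec (fun _ => ℕ) rb8924 rb8925 (Nat.ble (nat_lit 8925) i)) (@Bool.rec (fun _ => ℕ) rb8926 rb8927 (Nat.ble (nat_lit 8927) i)) (Nat.ble (nat_lit 8926) i)) (Nat.ble (nat_lit 8924) i)) (Nat.ble (nat_lit 8920) i)) (Nat.ble (nat_lit 8912) i))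

def rowBlk_n0_279 (i : ℕ) : ℕ := (@Bool.rec (fun _ => ℕ) (@Bool.rec (fun _ => ℕ) (@Bool.rec (fun _ => ℕ) (@Bool.rec (fun _ => ℕ) (@Bool.rec (fun _ => ℕ) rb8928 rb8929 (Nat.ble (nat_lit 8929) i)) (@Bool.rec (fun _ => ℕ) rb8930 rb8931 (Nat.ble (nat_lit 8931) i)) (Nat.ble (nat_lit 8930) i)) (@Bool.rec (fun _ => ℕ) (@Bool.rec (fun _ => ℕ) rb8932 rb8933 (Nat.ble (nat_lit 8933) i)) (@Bool.rec (fun _ => ℕ) rb8934 rb8935 (Nat.ble (nat_lit 8935) i)) (Nat.ble (nat_lit 8934) i)) (Nat.ble (nat_lit 8932) i)) (@Bool.rec (fun _ => ℕ) (@Bool.rec (fun _ => ℕ) (@Bool.rec (fun _ => ℕ) rb8936 rb8937 (Nat.ble (nat_lit 8937) i)) (@Bool.rec (fun _ => ℕ) rb8938 rb8939 (Nat.ble (nat_lit 8939) i)) (Nat.ble (nat_lit 8938) i)) (@Bool.rec (fun _ => ℕ) (@Bool.rec (fun _ => ℕ) rb8940 rb8941 (Nat.ble (nat_lit 8941) i)) (@Bool.rec (fun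 _ => ℕ) rb8942 rb8943 (Nat.ble (nat_lit 8943) i)) (Nat.ble (nat_lit 8942) i)) (Nat.ble (nat_lit 8940) i)) (Nat.ble (nat_lit 8936) i)) (@Bool.rec (fun _ => ℕ) (@Bool.rec (fun _ => ℕ) (@Bool.rec (fun _ => ℕ) (@Bool.rec (fun _ => ℕ) rb8944 rb8945 (Nat.ble (nat_lit 8945) i)) (@Bool.rec (fun _ => ℕ) rb8946 rb8947 (Nat.ble (nat_lit 8947) i)) (Nat.ble (nat_lit 8946) i)) (@Bool.rec (fun _ => ℕ) (@Bool.rec (fun _ => ℕ) rb8948 rb8949 (Nat.ble (nat_lit 8949) i)) (@Bool.rec (fun _ => ℕ) rb8950 rb8951 (Nat.ble (nat_lit 8951) i)) (Nat.ble (nat_lit 8950) i)) (Nat.ble (nat_lit 8948) i)) (@Bool.rec (fun _ => ℕ) (@Bool.rec (fun _ => ℕ) (@Bool.rec (fun _ => ℕ) rb8952 rb8953 (Nat.ble (nat_lit 8953) i)) (@Bool.rec (fun _ => ℕ) rb8954 rb8955 (Nat.ble (nat_lit 8955) i)) (Nat.ble (nat_lit 8954) i)) (@Bool.rec (fun _ => ℕ) (@Bool.rec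 (fun _ => ℕ) rb8956 rb8957 (Nat.ble (nat_lit 8957) i)) (@Bool.rec (fun _ => ℕ) rb8958 rb8959 (Nat.ble (nat_lit 8959) i)) (Nat.ble (nat_lit 8958) i)) (Nat.ble (nat_lit 8956) i)) (Nat.ble (nat_lit 8952) i)) (Nat.ble (nat_lit 8944) i))

def rowBlk_n0_280 (i : ℕ) : ℕ := (@Bool.rec (fun _ => ℕ) (@Bool.rec (fun _ => ℕ) (@Bool.rec (fun _ => ℕ) (@Bool.rec (fun _ => ℕ) (@Bool.rec (fun _ => ℕ) rb8960 rb8961 (Nat.ble (nat_lit 8961) i)) (@Bool.rec (fun _ => ℕ) rb8962 rb8963 (Nat.ble (nat_lit 8963) i)) (Nat.ble (nat_lit 8962) i)) (@Bool.rec (fun _ => ℕ) (@Bool.rec (fun _ => ℕ) rb8964 rb8965 (Nat.ble (nat_lit 8965) i)) (@Bool.rec (fun _ => ℕ) rb8966 rb8967 (Nat.ble (nat_lit 8967) i)) (Nat.ble (nat_lit 8966) i)) (Nat.ble (nat_lit 8964) i)) (@Bool.rec (fun _ => ℕ) (@Bool.rec (fun _ => ℕ) (@Bool.rec (fun _ => ℕ) rb8968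 rb8969 (Nat.ble (nat_lit 8969) i)) (@Bool.rec (fun _ => ℕ) rb8970 rb8971 (Nat.ble (nat_lit 8971) i)) (Nat.ble (nat_lit 8970) i)) (@Bool.rec (fun _ => ℕ) (@Bool.rec (fun _ => ℕ) rb8972 rb8973 (Nat.ble (nat_lit 8973) i)) (@Bool.rec (fun _ => ℕ) rb8974 rb8975 (Nat.ble (nat_lit 8975) i)) (Nat.ble (nat_lit 8974) i)) (Nat.ble (nat_lit 8972) i)) (Nat.ble (nat_lit 8968) i)) (@Bool.rec (fun _ => ℕ) (@Bool.rec (fun _ => ℕ) (@Bool.rec (fun _ => ℕ) (@Bool.rec (fun _ => ℕ) rb8976 rb8977 (Nat.ble (nat_lit 8977) i)) (@Bool.rec (fun _ => ℕ) rb8978 rb8979 (Nat.ble (nat_lit 8979) i)) (Nat.ble (nat_lit 8978) i)) (@Bool.rec (fun _ => ℕ) (@Bool.rec (fun _ => ℕ) rb8980 rb8981 (Nat.ble (nat_lit 8981) i)) (@Bool.rec (fun _ => ℕ) rb8982 rb8983 (Nat.ble (nat_lit 8983) i)) (Nat.ble (nat_lit 8982) i)) (Nat.ble (nat_lit 8980) i))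 (@Bool.rec (fun _ => ℕ) (@Bool.rec (fun _ => ℕ) (@Bool.rec (fun _ => ℕ) rb8984 rb8985 (Nat.ble (nat_lit 8985) i)) (@Bool.rec (fun _ => ℕ) rb8986 rb8987 (Nat.ble (nat_lit 8987) i)) (Nat.ble (nat_lit 8986) i)) (@Bool.rec (fun _ => ℕ) (@Bool.rec (fun _ => ℕ) rb8988 rb8989 (Nat.ble (nat_lit 8989) i)) (@Bool.rec (fun _ => ℕ) rb8990 rb8991 (Nat.ble (nat_lit 8991) i)) (Nat.ble (nat_lit 8990) i)) (Nat.ble (nat_lit 8988) i)) (Nat.ble (nat_lit 8984) i)) (Nat.ble (nat_lit 8976) i))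

def rowBlk_n0_281 (i : ℕ) : ℕ := (@Bool.rec (fun _ => ℕ) (@Bool.rec (fun _ => ℕ) (@Bool.rec (fun _ => ℕ) (@Bool.rec (fun _ => ℕ) (@Bool.rec (fun _ => ℕ) rb8992 rb8993 (Nat.ble (nat_lit 8993) i)) (@Bool.rec (fun _ => ℕ) rb8994 rb8995 (Nat.ble (nat_lit 8995) i)) (Nat.ble (nat_lit 8994) i)) (@Bool.rec (fun _ => ℕ) (@Bool.rec (fun _ => ℕ) rb8996 rb8997 (Nat.ble (nat_lit 8997) i)) (@Bool.rec (fun _ => ℕ) rb8998 rb8999 (Nat.ble (nat_lit 8999) i)) (Nat.ble (nat_lit 8998) i)) (Nat.ble (nat_lit 8996) i)) (@Bool.rec (fun _ => ℕ) (@Bool.rec (fun _ => ℕ) (@Bool.rec (fun _ => ℕ) rb9000 rb9001 (Nat.ble (nat_lit 9001) i)) (@Bool.rec (fun _ => ℕ) rb9002 rb9003 (Nat.ble (nat_lit 9003) i)) (Nat.ble (nat_lit 9002) i)) (@Bool.rec (fun _ => ℕ) (@Bool.rec (fun _ => ℕ) rb9004 rb9005 (Nat.ble (nat_lit 9005) i)) (@Bool.rec (fun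 _ => ℕ) rb9006 rb9007 (Nat.ble (nat_lit 9007) i)) (Nat.ble (nat_lit 9006) i)) (Nat.ble (nat_lit 9004) i)) (Nat.ble (nat_lit 9000) i)) (@Bool.rec (fun _ => ℕ) (@Bool.rec (fun _ => ℕ) (@Bool.rec (fun _ => ℕ) (@Bool.rec (fun _ => ℕ) rb9008 rb9009 (Nat.ble (nat_lit 9009) i)) (@Bool.rec (fun _ => ℕ) rb9010 rb9011 (Nat.ble (nat_lit 9011) i)) (Nat.ble (nat_lit 9010) i)) (@Bool.rec (fun _ => ℕ) (@Bool.rec (fun _ => ℕ) rb9012 rb9013 (Nat.ble (nat_lit 9013) i)) (@Bool.rec (fun _ => ℕ) rb9014 rb9015 (Nat.ble (nat_lit 9015) i)) (Nat.ble (nat_lit 9014) i)) (Nat.ble (nat_lit 9012) i)) (@Bool.rec (fun _ => ℕ) (@Bool.rec (fun _ => ℕ) (@Bool.rec (fun _ => ℕ) rb9016 rb9017 (Nat.ble (nat_lit 9017) i)) (@Bool.rec (fun _ => ℕ) rb9018 rb9019 (Nat.ble (nat_lit 9019) i)) (Nat.ble (nat_lit 9018) i)) (@Bool.rec (fun _ => ℕ) (@Bool.rec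 (fun _ => ℕ) rb9020 rb9021 (Nat.ble (nat_lit 9021) i)) (@Bool.rec (fun _ => ℕ) rb9022 rb9023 (Nat.ble (nat_lit 9023) i)) (Nat.ble (nat_lit 9022) i)) (Nat.ble (nat_lit 9020) i)) (Nat.ble (nat_lit 9016) i)) (Nat.ble (nat_lit 9008) i))

def rowBlk_n0_282 (i : ℕ) : ℕ := (@Bool.rec (fun _ => ℕ) (@Bool.rec (fun _ => ℕ) (@Bool.rec (fun _ => ℕ) (@Bool.rec (fun _ => ℕ) (@Bool.rec (fun _ => ℕ) rb9024 rb9025 (Nat.ble (nat_lit 9025) i)) (@Bool.rec (fun _ => ℕ) rb9026 rb9027 (Nat.ble (nat_lit 9027) i)) (Nat.ble (nat_lit 9026) i)) (@Bool.rec (fun _ => ℕ) (@Bool.rec (fun _ => ℕ) rb9028 rb9029 (Nat.ble (nat_lit 9029) i)) (@Bool.rec (fun _ => ℕ) rb9030 rb9031 (Nat.ble (nat_lit 9031) i)) (Nat.ble (nat_lit 9030) i)) (Nat.ble (nat_lit 9028) i)) (@Bool.rec (fun _ => ℕ) (@Bool.rec (fun _ => ℕ) (@Bool.rec (fun _ => ℕ) rb9032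 rb9033 (Nat.ble (nat_lit 9033) i)) (@Bool.rec (fun _ => ℕ) rb9034 rb9035 (Nat.ble (nat_lit 9035) i)) (Nat.ble (nat_lit 9034) i)) (@Bool.rec (fun _ => ℕ) (@Bool.rec (fun _ => ℕ) rb9036 rb9037 (Nat.ble (nat_lit 9037) i)) (@Bool.rec (fun _ => ℕ) rb9038 rb9039 (Nat.ble (nat_lit 9039) i)) (Nat.ble (nat_lit 9038) i)) (Nat.ble (nat_lit 9036) i)) (Nat.ble (nat_lit 9032) i)) (@Bool.rec (fun _ => ℕ) (@Bool.rec (fun _ => ℕ) (@Bool.rec (fun _ => ℕ) (@Bool.rec (fun _ => ℕ) rb9040 rb9041 (Nat.ble (nat_lit 9041) i)) (@Bool.rec (fun _ => ℕ) rb9042 rb9043 (Nat.ble (nat_lit 9043) i)) (Nat.ble (nat_lit 9042) i)) (@Bool.rec (fun _ => ℕ) (@Bool.rec (fun _ => ℕ) rb9044 rb9045 (Nat.ble (nat_lit 9045) i)) (@Bool.rec (fun _ => ℕ) rb9046 rb9047 (Nat.ble (nat_lit 9047) i)) (Nat.ble (nat_lit 9046) i)) (Nat.ble (nat_lit 9044) i))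 (@Bool.rec (fun _ => ℕ) (@Bool.rec (fun _ => ℕ) (@Bool.rec (fun _ => ℕ) rb9048 rb9049 (Nat.ble (nat_lit 9049) i)) (@Bool.rec (fun _ => ℕ) rb9050 rb9051 (Nat.ble (nat_lit 9051) i)) (Nat.ble (nat_lit 9050) i)) (@Bool.rec (fun _ => ℕ) (@Bool.rec (fun _ => ℕ) rb9052 rb9053 (Nat.ble (nat_lit 9053) i)) (@Bool.rec (fun _ => ℕ) rb9054 rb9055 (Nat.ble (nat_lit 9055) i)) (Nat.ble (nat_lit 9054) i)) (Nat.ble (nat_lit 9052) i)) (Nat.ble (nat_lit 9048) i)) (Nat.ble (nat_lit 9040) i))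

def rowBlk_n0_283 (i : ℕ) : ℕ := (@Bool.rec (fun _ => ℕ) (@Bool.rec (fun _ => ℕ) (@Bool.rec (fun _ => ℕ) (@Bool.rec (fun _ => ℕ) (@Bool.rec (fun _ => ℕ) rb9056 rb9057 (Nat.ble (nat_lit 9057) i)) (@Bool.rec (fun _ => ℕ) rb9058 rb9059 (Nat.ble (nat_lit 9059) i)) (Nat.ble (nat_lit 9058) i)) (@Bool.rec (fun _ => ℕ) (@Bool.rec (fun _ => ℕ) rb9060 rb9061 (Nat.ble (nat_lit 9061) i)) (@Bool.rec (fun _ => ℕ) rb9062 rb9063 (Nat.ble (nat_lit 9063) i)) (Nat.ble (nat_lit 9062) i)) (Nat.ble (nat_lit 9060) i)) (@Bool.rec (fun _ => ℕ) (@Bool.rec (fun _ => ℕ) (@Bool.rec (fun _ => ℕ) rb9064 rb9065 (Nat.ble (nat_lit 9065) i)) (@Bool.rec (fun _ => ℕ) rb9066 rb9067 (Nat.ble (nat_lit 9067) i)) (Nat.ble (nat_lit 9066) i)) (@Bool.rec (fun _ => ℕ) (@Bool.rec (fun _ => ℕ) rb9068 rb9069 (Nat.ble (nat_lit 9069) i)) (@Bool.rec (fun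 _ => ℕ) rb9070 rb9071 (Nat.ble (nat_lit 9071) i)) (Nat.ble (nat_lit 9070) i)) (Nat.ble (nat_lit 9068) i)) (Nat.ble (nat_lit 9064) i)) (@Bool.rec (fun _ => ℕ) (@Bool.rec (fun _ => ℕ) (@Bool.rec (fun _ => ℕ) (@Bool.rec (fun _ => ℕ) rb9072 rb9073 (Nat.ble (nat_lit 9073) i)) (@Bool.rec (fun _ => ℕ) rb9074 rb9075 (Nat.ble (nat_lit 9075) i)) (Nat.ble (nat_lit 9074) i)) (@Bool.rec (fun _ => ℕ) (@Bool.rec (fun _ => ℕ) rb9076 rb9077 (Nat.ble (nat_lit 9077) i)) (@Bool.rec (fun _ => ℕ) rb9078 rb9079 (Nat.ble (nat_lit 9079) i)) (Nat.ble (nat_lit 9078) i)) (Nat.ble (nat_lit 9076) i)) (@Bool.rec (fun _ => ℕ) (@Bool.rec (fun _ => ℕ) (@Bool.rec (fun _ => ℕ) rb9080 rb9081 (Nat.ble (nat_lit 9081) i)) (@Bool.rec (fun _ => ℕ) rb9082 rb9083 (Nat.ble (nat_lit 9083) i)) (Nat.ble (nat_lit 9082) i)) (@Bool.rec (fun _ => ℕ) (@Bool.rec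 (fun _ => ℕ) rb9084 rb9085 (Nat.ble (nat_lit 9085) i)) (@Bool.rec (fun _ => ℕ) rb9086 rb9087 (Nat.ble (nat_lit 9087) i)) (Nat.ble (nat_lit 9086) i)) (Nat.ble (nat_lit 9084) i)) (Nat.ble (nat_lit 9080) i)) (Nat.ble (nat_lit 9072) i))

def rowBlk_n0_284 (i : ℕ) : ℕ := (@Bool.rec (fun _ => ℕ) (@Bool.rec (fun _ => ℕ) (@Bool.rec (fun _ => ℕ) (@Bool.rec (fun _ => ℕ) (@Bool.rec (fun _ => ℕ) rb9088 rb9089 (Nat.ble (nat_lit 9089) i)) (@Bool.rec (fun _ => ℕ) rb9090 rb9091 (Nat.ble (nat_lit 9091) i)) (Nat.ble (nat_lit 9090) i)) (@Bool.rec (fun _ => ℕ) (@Bool.rec (fun _ => ℕ) rb9092 rb9093 (Nat.ble (nat_lit 9093) i)) (@Bool.rec (fun _ => ℕ) rb9094 rb9095 (Nat.ble (nat_lit 9095) i)) (Nat.ble (nat_lit 9094) i)) (Nat.ble (nat_lit 9092) i)) (@Bool.rec (fun _ => ℕ) (@Bool.rec (fun _ => ℕ) (@Bool.rec (fun _ => ℕ) rb9096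 rb9097 (Nat.ble (nat_lit 9097) i)) (@Bool.rec (fun _ => ℕ) rb9098 rb9099 (Nat.ble (nat_lit 9099) i)) (Nat.ble (nat_lit 9098) i)) (@Bool.rec (fun _ => ℕ) (@Bool.rec (fun _ => ℕ) rb9100 rb9101 (Nat.ble (nat_lit 9101) i)) (@Bool.rec (fun _ => ℕ) rb9102 rb9103 (Nat.ble (nat_lit 9103) i)) (Nat.ble (nat_lit 9102) i)) (Nat.ble (nat_lit 9100) i)) (Nat.ble (nat_lit 9096) i)) (@Bool.rec (fun _ => ℕ) (@Bool.rec (fun _ => ℕ) (@Bool.rec (fun _ => ℕ) (@Bool.rec (fun _ => ℕ) rb9104 rb9105 (Nat.ble (nat_lit 9105) i)) (@Bool.rec (fun _ => ℕ) rb9106 rb9107 (Nat.ble (nat_lit 9107) i)) (Nat.ble (nat_lit 9106) i)) (@Bool.rec (fun _ => ℕ) (@Bool.rec (fun _ => ℕ) rb9108 rb9109 (Nat.ble (nat_lit 9109) i)) (@Bool.rec (fun _ => ℕ) rb9110 rb9111 (Nat.ble (nat_lit 9111) i)) (Nat.ble (nat_lit 9110) i)) (Nat.ble (nat_lit 9108) i))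 (@Bool.rec (fun _ => ℕ) (@Bool.rec (fun _ => ℕ) (@Bool.rec (fun _ => ℕ) rb9112 rb9113 (Nat.ble (nat_lit 9113) i)) (@Bool.rec (fun _ => ℕ) rb9114 rb9115 (Nat.ble (nat_lit 9115) i)) (Nat.ble (nat_lit 9114) i)) (@Bool.rec (fun _ => ℕ) (@Bool.rec (fun _ => ℕ) rb9116 rb9117 (Nat.ble (nat_lit 9117) i)) (@Bool.rec (fun _ => ℕ) rb9118 rb9119 (Nat.ble (nat_lit 9119) i)) (Nat.ble (nat_lit 9118) i)) (Nat.ble (nat_lit 9116) i)) (Nat.ble (nat_lit 9112) i)) (Nat.ble (nat_lit 9104) i))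

def rowBlk_n0_285 (i : ℕ) : ℕ := (@Bool.rec (fun _ => ℕ) (@Bool.rec (fun _ => ℕ) (@Bool.rec (fun _ => ℕ) (@Bool.rec (fun _ => ℕ) (@Bool.rec (fun _ => ℕ) rb9120 rb9121 (Nat.ble (nat_lit 9121) i)) (@Bool.rec (fun _ => ℕ) rb9122 rb9123 (Nat.ble (nat_lit 9123) i)) (Nat.ble (nat_lit 9122) i)) (@Bool.rec (fun _ => ℕ) (@Bool.rec (fun _ => ℕ) rb9124 rb9125 (Nat.ble (nat_lit 9125) i)) (@Bool.rec (fun _ => ℕ) rb9126 rb9127 (Nat.ble (nat_lit 9127) i)) (Nat.ble (nat_lit 9126) i)) (Nat.ble (nat_lit 9124) i)) (@Bool.rec (fun _ => ℕ) (@Bool.rec (fun _ => ℕ) (@Bool.rec (fun _ => ℕ) rb9128 rb9129 (Nat.ble (nat_lit 9129) i)) (@Bool.rec (fun _ => ℕ) rb9130 rb9131 (Nat.ble (nat_lit 9131) i)) (Nat.ble (nat_lit 9130) i)) (@Bool.rec (fun _ => ℕ) (@Bool.rec (fun _ => ℕ) rb9132 rb9133 (Nat.ble (nat_lit 9133) i)) (@Bool.rec (fun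 _ => ℕ) rb9134 rb9135 (Nat.ble (nat_lit 9135) i)) (Nat.ble (nat_lit 9134) i)) (Nat.ble (nat_lit 9132) i)) (Nat.ble (nat_lit 9128) i)) (@Bool.rec (fun _ => ℕ) (@Bool.rec (fun _ => ℕ) (@Bool.rec (fun _ => ℕ) (@Bool.rec (fun _ => ℕ) rb9136 rb9137 (Nat.ble (nat_lit 9137) i)) (@Bool.rec (fun _ => ℕ) rb9138 rb9139 (Nat.ble (nat_lit 9139) i)) (Nat.ble (nat_lit 9138) i)) (@Bool.rec (fun _ => ℕ) (@Bool.rec (fun _ => ℕ) rb9140 rb9141 (Nat.ble (nat_lit 9141) i)) (@Bool.rec (fun _ => ℕ) rb9142 rb9143 (Nat.ble (nat_lit 9143) i)) (Nat.ble (nat_lit 9142) i)) (Nat.ble (nat_lit 9140) i)) (@Bool.rec (fun _ => ℕ) (@Bool.rec (fun _ => ℕ) (@Bool.rec (fun _ => ℕ) rb9144 rb9145 (Nat.ble (nat_lit 9145) i)) (@Bool.rec (fun _ => ℕ) rb9146 rb9147 (Nat.ble (nat_lit 9147) i)) (Nat.ble (nat_lit 9146) i)) (@Bool.rec (fun _ => ℕ) (@Bool.rec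 (fun _ => ℕ) rb9148 rb9149 (Nat.ble (nat_lit 9149) i)) (@Bool.rec (fun _ => ℕ) rb9150 rb9151 (Nat.ble (nat_lit 9151) i)) (Nat.ble (nat_lit 9150) i)) (Nat.ble (nat_lit 9148) i)) (Nat.ble (nat_lit 9144) i)) (Nat.ble (nat_lit 9136) i))

def rowBlk_n0_286 (i : ℕ) : ℕ := (@Bool.rec (fun _ => ℕ) (@Bool.rec (fun _ => ℕ) (@Bool.rec (fun _ => ℕ) (@Bool.rec (fun _ => ℕ) (@Bool.rec (fun _ => ℕ) rb9152 rb9153 (Nat.ble (nat_lit 9153) i)) (@Bool.rec (fun _ => ℕ) rb9154 rb9155 (Nat.ble (nat_lit 9155) i)) (Nat.ble (nat_lit 9154) i)) (@Bool.rec (fun _ => ℕ) (@Bool.rec (fun _ => ℕ) rb9156 rb9157 (Nat.ble (nat_lit 9157) i)) (@Bool.rec (fun _ => ℕ) rb9158 rb9159 (Nat.ble (nat_lit 9159) i)) (Nat.ble (nat_lit 9158) i)) (Nat.ble (nat_lit 9156) i)) (@Bool.rec (fun _ => ℕ) (@Bool.rec (fun _ => ℕ) (@Bool.rec (fun _ => ℕ) rb9160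 rb9161 (Nat.ble (nat_lit 9161) i)) (@Bool.rec (fun _ => ℕ) rb9162 rb9163 (Nat.ble (nat_lit 9163) i)) (Nat.ble (nat_lit 9162) i)) (@Bool.rec (fun _ => ℕ) (@Bool.rec (fun _ => ℕ) rb9164 rb9165 (Nat.ble (nat_lit 9165) i)) (@Bool.rec (fun _ => ℕ) rb9166 rb9167 (Nat.ble (nat_lit 9167) i)) (Nat.ble (nat_lit 9166) i)) (Nat.ble (nat_lit 9164) i)) (Nat.ble (nat_lit 9160) i)) (@Bool.rec (fun _ => ℕ) (@Bool.rec (fun _ => ℕ) (@Bool.rec (fun _ => ℕ) (@Bool.rec (fun _ => ℕ) rb9168 rb9169 (Nat.ble (nat_lit 9169) i)) (@Bool.rec (fun _ => ℕ) rb9170 rb9171 (Nat.ble (nat_lit 9171) i)) (Nat.ble (nat_lit 9170) i)) (@Bool.rec (fun _ => ℕ) (@Bool.rec (fun _ => ℕ) rb9172 rb9173 (Nat.ble (nat_lit 9173) i)) (@Bool.rec (fun _ => ℕ) rb9174 rb9175 (Nat.ble (nat_lit 9175) i)) (Nat.ble (nat_lit 9174) i)) (Nat.ble (nat_lit 9172) i))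 (@Bool.rec (fun _ => ℕ) (@Bool.rec (fun _ => ℕ) (@Bool.rec (fun _ => ℕ) rb9176 rb9177 (Nat.ble (nat_lit 9177) i)) (@Bool.rec (fun _ => ℕ) rb9178 rb9179 (Nat.ble (nat_lit 9179) i)) (Nat.ble (nat_lit 9178) i)) (@Bool.rec (fun _ => ℕ) (@Bool.rec (fun _ => ℕ) rb9180 rb9181 (Nat.ble (nat_lit 9181) i)) (@Bool.rec (fun _ => ℕ) rb9182 rb9183 (Nat.ble (nat_lit 9183) i)) (Nat.ble (nat_lit 9182) i)) (Nat.ble (nat_lit 9180) i)) (Nat.ble (nat_lit 9176) i)) (Nat.ble (nat_lit 9168) i))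

def rowBlk_n0_287 (i : ℕ) : ℕ := (@Bool.rec (fun _ => ℕ) (@Bool.rec (fun _ => ℕ) (@Bool.rec (fun _ => ℕ) (@Bool.rec (fun _ => ℕ) (@Bool.rec (fun _ => ℕ) rb9184 rb9185 (Nat.ble (nat_lit 9185) i)) (@Bool.rec (fun _ => ℕ) rb9186 rb9187 (Nat.ble (nat_lit 9187) i)) (Nat.ble (nat_lit 9186) i)) (@Bool.rec (fun _ => ℕ) (@Bool.rec (fun _ => ℕ) rb9188 rb9189 (Nat.ble (nat_lit 9189) i)) (@Bool.rec (fun _ => ℕ) rb9190 rb9191 (Nat.ble (nat_lit 9191) i)) (Nat.ble (nat_lit 9190) i)) (Nat.ble (nat_lit 9188) i)) (@Bool.rec (fun _ => ℕ) (@Bool.rec (fun _ => ℕ) (@Bool.rec (fun _ => ℕ) rb9192 rb9193 (Nat.ble (nat_lit 9193) i)) (@Bool.rec (fun _ => ℕ) rb9194 rb9195 (Nat.ble (nat_lit 9195) i)) (Nat.ble (nat_lit 9194) i)) (@Bool.rec (fun _ => ℕ) (@Bool.rec (fun _ => ℕ) rb9196 rb9197 (Nat.ble (nat_lit 9197) i)) (@Bool.rec (fun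 _ => ℕ) rb9198 rb9199 (Nat.ble (nat_lit 9199) i)) (Nat.ble (nat_lit 9198) i)) (Nat.ble (nat_lit 9196) i)) (Nat.ble (nat_lit 9192) i)) (@Bool.rec (fun _ => ℕ) (@Bool.rec (fun _ => ℕ) (@Bool.rec (fun _ => ℕ) (@Bool.rec (fun _ => ℕ) rb9200 rb9201 (Nat.ble (nat_lit 9201) i)) (@Bool.rec (fun _ => ℕ) rb9202 rb9203 (Nat.ble (nat_lit 9203) i)) (Nat.ble (nat_lit 9202) i)) (@Bool.rec (fun _ => ℕ) (@Bool.rec (fun _ => ℕ) rb9204 rb9205 (Nat.ble (nat_lit 9205) i)) (@Bool.rec (fun _ => ℕ) rb9206 rb9207 (Nat.ble (nat_lit 9207) i)) (Nat.ble (nat_lit 9206) i)) (Nat.ble (nat_lit 9204) i)) (@Bool.rec (fun _ => ℕ) (@Bool.rec (fun _ => ℕ) (@Bool.rec (fun _ => ℕ) rb9208 rb9209 (Nat.ble (nat_lit 9209) i)) (@Bool.rec (fun _ => ℕ) rb9210 rb9211 (Nat.ble (nat_lit 9211) i)) (Nat.ble (nat_lit 9210) i)) (@Bool.rec (fun _ => ℕ) (@Bool.rec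 (fun _ => ℕ) rb9212 rb9213 (Nat.ble (nat_lit 9213) i)) (@Bool.rec (fun _ => ℕ) rb9214 rb9215 (Nat.ble (nat_lit 9215) i)) (Nat.ble (nat_lit 9214) i)) (Nat.ble (nat_lit 9212) i)) (Nat.ble (nat_lit 9208) i)) (Nat.ble (nat_lit 9200) i))

def rowBlk_n0_288 (i : ℕ) : ℕ := (@Bool.rec (fun _ => ℕ) (@Bool.rec (fun _ => ℕ) (@Bool.rec (fun _ => ℕ) (@Bool.rec (fun _ => ℕ) (@Bool.rec (fun _ => ℕ) rb9216 rb9217 (Nat.ble (nat_lit 9217) i)) (@Bool.rec (fun _ => ℕ) rb9218 rb9219 (Nat.ble (nat_lit 9219) i)) (Nat.ble (nat_lit 9218) i)) (@Bool.rec (fun _ => ℕ) (@Bool.rec (fun _ => ℕ) rb9220 rb9221 (Nat.ble (nat_lit 9221) i)) (@Bool.rec (fun _ => ℕ) rb9222 rb9223 (Nat.ble (nat_lit 9223) i)) (Nat.ble (nat_lit 9222) i)) (Nat.ble (nat_lit 9220) i)) (@Bool.rec (fun _ => ℕ) (@Bool.rec (fun _ => ℕ) (@Bool.rec (fun _ => ℕ) rb9224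 rb9225 (Nat.ble (nat_lit 9225) i)) (@Bool.rec (fun _ => ℕ) rb9226 rb9227 (Nat.ble (nat_lit 9227) i)) (Nat.ble (nat_lit 9226) i)) (@Bool.rec (fun _ => ℕ) (@Bool.rec (fun _ => ℕ) rb9228 rb9229 (Nat.ble (nat_lit 9229) i)) (@Bool.rec (fun _ => ℕ) rb9230 rb9231 (Nat.ble (nat_lit 9231) i)) (Nat.ble (nat_lit 9230) i)) (Nat.ble (nat_lit 9228) i)) (Nat.ble (nat_lit 9224) i)) (@Bool.rec (fun _ => ℕ) (@Bool.rec (fun _ => ℕ) (@Bool.rec (fun _ => ℕ) (@Bool.rec (fun _ => ℕ) rb9232 rb9233 (Nat.ble (nat_lit 9233) i)) (@Bool.rec (fun _ => ℕ) rb9234 rb9235 (Nat.ble (nat_lit 9235) i)) (Nat.ble (nat_lit 9234) i)) (@Bool.rec (fun _ => ℕ) (@Bool.rec (fun _ => ℕ) rb9236 rb9237 (Nat.ble (nat_lit 9237) i)) (@Bool.rec (fun _ => ℕ) rb9238 rb9239 (Nat.ble (nat_lit 9239) i)) (Nat.ble (nat_lit 9238) i)) (Nat.ble (nat_lit 9236) i))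 (@Bool.rec (fun _ => ℕ) (@Bool.rec (fun _ => ℕ) (@Bool.rec (fun _ => ℕ) rb9240 rb9241 (Nat.ble (nat_lit 9241) i)) (@Bool.rec (fun _ => ℕ) rb9242 rb9243 (Nat.ble (nat_lit 9243) i)) (Nat.ble (nat_lit 9242) i)) (@Bool.rec (fun _ => ℕ) (@Bool.rec (fun _ => ℕ) rb9244 rb9245 (Nat.ble (nat_lit 9245) i)) (@Bool.rec (fun _ => ℕ) rb9246 rb9247 (Nat.ble (nat_lit 9247) i)) (Nat.ble (nat_lit 9246) i)) (Nat.ble (nat_lit 9244) i)) (Nat.ble (nat_lit 9240) i)) (Nat.ble (nat_lit 9232) i))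

def rowBlk_n0_289 (i : ℕ) : ℕ := (@Bool.rec (fun _ => ℕ) (@Bool.rec (fun _ => ℕ) (@Bool.rec (fun _ => ℕ) (@Bool.rec (fun _ => ℕ) (@Bool.rec (fun _ => ℕ) rb9248 rb9249 (Nat.ble (nat_lit 9249) i)) (@Bool.rec (fun _ => ℕ) rb9250 rb9251 (Nat.ble (nat_lit 9251) i)) (Nat.ble (nat_lit 9250) i)) (@Bool.rec (fun _ => ℕ) (@Bool.rec (fun _ => ℕ) rb9252 rb9253 (Nat.ble (nat_lit 9253) i)) (@Bool.rec (fun _ => ℕ) rb9254 rb9255 (Nat.ble (nat_lit 9255) i)) (Nat.ble (nat_lit 9254) i)) (Nat.ble (nat_lit 9252) i)) (@Bool.rec (fun _ => ℕ) (@Bool.rec (fun _ => ℕ) (@Bool.rec (fun _ => ℕ) rb9256 rb9257 (Nat.ble (nat_lit 9257) i)) (@Bool.rec (fun _ => ℕ) rb9258 rb9259 (Nat.ble (nat_lit 9259) i)) (Nat.ble (nat_lit 9258) i)) (@Bool.rec (fun _ => ℕ) (@Bool.rec (fun _ => ℕ) rb9260 rb9261 (Nat.ble (nat_lit 9261) i)) (@Bool.rec (fun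 _ => ℕ) rb9262 rb9263 (Nat.ble (nat_lit 9263) i)) (Nat.ble (nat_lit 9262) i)) (Nat.ble (nat_lit 9260) i)) (Nat.ble (nat_lit 9256) i)) (@Bool.rec (fun _ => ℕ) (@Bool.rec (fun _ => ℕ) (@Bool.rec (fun _ => ℕ) (@Bool.rec (fun _ => ℕ) rb9264 rb9265 (Nat.ble (nat_lit 9265) i)) (@Bool.rec (fun _ => ℕ) rb9266 rb9267 (Nat.ble (nat_lit 9267) i)) (Nat.ble (nat_lit 9266) i)) (@Bool.rec (fun _ => ℕ) (@Bool.rec (fun _ => ℕ) rb9268 rb9269 (Nat.ble (nat_lit 9269) i)) (@Bool.rec (fun _ => ℕ) rb9270 rb9271 (Nat.ble (nat_lit 9271) i)) (Nat.ble (nat_lit 9270) i)) (Nat.ble (nat_lit 9268) i)) (@Bool.rec (fun _ => ℕ) (@Bool.rec (fun _ => ℕ) (@Bool.rec (fun _ => ℕ) rb9272 rb9273 (Nat.ble (nat_lit 9273) i)) (@Bool.rec (fun _ => ℕ) rb9274 rb9275 (Nat.ble (nat_lit 9275) i)) (Nat.ble (nat_lit 9274) i)) (@Bool.rec (fun _ => ℕ) (@Bool.rec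 (fun _ => ℕ) rb9276 rb9277 (Nat.ble (nat_lit 9277) i)) (@Bool.rec (fun _ => ℕ) rb9278 rb9279 (Nat.ble (nat_lit 9279) i)) (Nat.ble (nat_lit 9278) i)) (Nat.ble (nat_lit 9276) i)) (Nat.ble (nat_lit 9272) i)) (Nat.ble (nat_lit 9264) i))

def rowBlk_n0_290 (i : ℕ) : ℕ := (@Bool.rec (fun _ => ℕ) (@Bool.rec (fun _ => ℕ) (@Bool.rec (fun _ => ℕ) (@Bool.rec (fun _ => ℕ) (@Bool.rec (fun _ => ℕ) rb9280 rb9281 (Nat.ble (nat_lit 9281) i)) (@Bool.rec (fun _ => ℕ) rb9282 rb9283 (Nat.ble (nat_lit 9283) i)) (Nat.ble (nat_lit 9282) i)) (@Bool.rec (fun _ => ℕ) (@Bool.rec (fun _ => ℕ) rb9284 rb9285 (Nat.ble (nat_lit 9285) i)) (@Bool.rec (fun _ => ℕ) rb9286 rb9287 (Nat.ble (nat_lit 9287) i)) (Nat.ble (nat_lit 9286) i)) (Nat.ble (nat_lit 9284) i)) (@Bool.rec (fun _ => ℕ) (@Bool.rec (fun _ => ℕ) (@Bool.rec (fun _ => ℕ) rb9288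 rb9289 (Nat.ble (nat_lit 9289) i)) (@Bool.rec (fun _ => ℕ) rb9290 rb9291 (Nat.ble (nat_lit 9291) i)) (Nat.ble (nat_lit 9290) i)) (@Bool.rec (fun _ => ℕ) (@Bool.rec (fun _ => ℕ) rb9292 rb9293 (Nat.ble (nat_lit 9293) i)) (@Bool.rec (fun _ => ℕ) rb9294 rb9295 (Nat.ble (nat_lit 9295) i)) (Nat.ble (nat_lit 9294) i)) (Nat.ble (nat_lit 9292) i)) (Nat.ble (nat_lit 9288) i)) (@Bool.rec (fun _ => ℕ) (@Bool.rec (fun _ => ℕ) (@Bool.rec (fun _ => ℕ) (@Bool.rec (fun _ => ℕ) rb9296 rb9297 (Nat.ble (nat_lit 9297) i)) (@Bool.rec (fun _ => ℕ) rb9298 rb9299 (Nat.ble (nat_lit 9299) i)) (Nat.ble (nat_lit 9298) i)) (@Bool.rec (fun _ => ℕ) (@Bool.rec (fun _ => ℕ) rb9300 rb9301 (Nat.ble (nat_lit 9301) i)) (@Bool.rec (fun _ => ℕ) rb9302 rb9303 (Nat.ble (nat_lit 9303) i)) (Nat.ble (nat_lit 9302) i)) (Nat.ble (nat_lit 9300) i))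 (@Bool.rec (fun _ => ℕ) (@Bool.rec (fun _ => ℕ) (@Bool.rec (fun _ => ℕ) rb9304 rb9305 (Nat.ble (nat_lit 9305) i)) (@Bool.rec (fun _ => ℕ) rb9306 rb9307 (Nat.ble (nat_lit 9307) i)) (Nat.ble (nat_lit 9306) i)) (@Bool.rec (fun _ => ℕ) (@Bool.rec (fun _ => ℕ) rb9308 rb9309 (Nat.ble (nat_lit 9309) i)) (@Bool.rec (fun _ => ℕ) rb9310 rb9311 (Nat.ble (nat_lit 9311) i)) (Nat.ble (nat_lit 9310) i)) (Nat.ble (nat_lit 9308) i)) (Nat.ble (nat_lit 9304) i)) (Nat.ble (nat_lit 9296) i))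

def rowBlk_n0_291 (i : ℕ) : ℕ := (@Bool.rec (fun _ => ℕ) (@Bool.rec (fun _ => ℕ) (@Bool.rec (fun _ => ℕ) (@Bool.rec (fun _ => ℕ) (@Bool.rec (fun _ => ℕ) rb9312 rb9313 (Nat.ble (nat_lit 9313) i)) (@Bool.rec (fun _ => ℕ) rb9314 rb9315 (Nat.ble (nat_lit 9315) i)) (Nat.ble (nat_lit 9314) i)) (@Bool.rec (fun _ => ℕ) (@Bool.rec (fun _ => ℕ) rb9316 rb9317 (Nat.ble (nat_lit 9317) i)) (@Bool.rec (fun _ => ℕ) rb9318 rb9319 (Nat.ble (nat_lit 9319) i)) (Nat.ble (nat_lit 9318) i)) (Nat.ble (nat_lit 9316) i)) (@Bool.rec (fun _ => ℕ) (@Bool.rec (fun _ => ℕ) (@Bool.rec (fun _ => ℕ) rb9320 rb9321 (Nat.ble (nat_lit 9321) i)) (@Bool.rec (fun _ => ℕ) rb9322 rb9323 (Nat.ble (nat_lit 9323) i)) (Nat.ble (nat_lit 9322) i)) (@Bool.rec (fun _ => ℕ) (@Bool.rec (fun _ => ℕ) rb9324 rb9325 (Nat.ble (nat_lit 9325) i)) (@Bool.rec (fun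 _ => ℕ) rb9326 rb9327 (Nat.ble (nat_lit 9327) i)) (Nat.ble (nat_lit 9326) i)) (Nat.ble (nat_lit 9324) i)) (Nat.ble (nat_lit 9320) i)) (@Bool.rec (fun _ => ℕ) (@Bool.rec (fun _ => ℕ) (@Bool.rec (fun _ => ℕ) (@Bool.rec (fun _ => ℕ) rb9328 rb9329 (Nat.ble (nat_lit 9329) i)) (@Bool.rec (fun _ => ℕ) rb9330 rb9331 (Nat.ble (nat_lit 9331) i)) (Nat.ble (nat_lit 9330) i)) (@Bool.rec (fun _ => ℕ) (@Bool.rec (fun _ => ℕ) rb9332 rb9333 (Nat.ble (nat_lit 9333) i)) (@Bool.rec (fun _ => ℕ) rb9334 rb9335 (Nat.ble (nat_lit 9335) i)) (Nat.ble (nat_lit 9334) i)) (Nat.ble (nat_lit 9332) i)) (@Bool.rec (fun _ => ℕ) (@Bool.rec (fun _ => ℕ) (@Bool.rec (fun _ => ℕ) rb9336 rb9337 (Nat.ble (nat_lit 9337) i)) (@Bool.rec (fun _ => ℕ) rb9338 rb9339 (Nat.ble (nat_lit 9339) i)) (Nat.ble (nat_lit 9338) i)) (@Bool.rec (fun _ => ℕ) (@Bool.rec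 (fun _ => ℕ) rb9340 rb9341 (Nat.ble (nat_lit 9341) i)) (@Bool.rec (fun _ => ℕ) rb9342 rb9343 (Nat.ble (nat_lit 9343) i)) (Nat.ble (nat_lit 9342) i)) (Nat.ble (nat_lit 9340) i)) (Nat.ble (nat_lit 9336) i)) (Nat.ble (nat_lit 9328) i))

def rowBlk_n0_292 (i : ℕ) : ℕ := (@Bool.rec (fun _ => ℕ) (@Bool.rec (fun _ => ℕ) (@Bool.rec (fun _ => ℕ) (@Bool.rec (fun _ => ℕ) (@Bool.rec (fun _ => ℕ) rb9344 rb9345 (Nat.ble (nat_lit 9345) i)) (@Bool.rec (fun _ => ℕ) rb9346 rb9347 (Nat.ble (nat_lit 9347) i)) (Nat.ble (nat_lit 9346) i)) (@Bool.rec (fun _ => ℕ) (@Bool.rec (fun _ => ℕ) rb9348 rb9349 (Nat.ble (nat_lit 9349) i)) (@Bool.rec (fun _ => ℕ) rb9350 rb9351 (Nat.ble (nat_lit 9351) i)) (Nat.ble (nat_lit 9350) i)) (Nat.ble (nat_lit 9348) i)) (@Bool.rec (fun _ => ℕ) (@Bool.rec (fun _ => ℕ) (@Bool.rec (fun _ => ℕ) rb9352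 rb9353 (Nat.ble (nat_lit 9353) i)) (@Bool.rec (fun _ => ℕ) rb9354 rb9355 (Nat.ble (nat_lit 9355) i)) (Nat.ble (nat_lit 9354) i)) (@Bool.rec (fun _ => ℕ) (@Bool.rec (fun _ => ℕ) rb9356 rb9357 (Nat.ble (nat_lit 9357) i)) (@Bool.rec (fun _ => ℕ) rb9358 rb9359 (Nat.ble (nat_lit 9359) i)) (Nat.ble (nat_lit 9358) i)) (Nat.ble (nat_lit 9356) i)) (Nat.ble (nat_lit 9352) i)) (@Bool.rec (fun _ => ℕ) (@Bool.rec (fun _ => ℕ) (@Bool.rec (fun _ => ℕ) (@Bool.rec (fun _ => ℕ) rb9360 rb9361 (Nat.ble (nat_lit 9361) i)) (@Bool.rec (fun _ => ℕ) rb9362 rb9363 (Nat.ble (nat_lit 9363) i)) (Nat.ble (nat_lit 9362) i)) (@Bool.rec (fun _ => ℕ) (@Bool.rec (fun _ => ℕ) rb9364 rb9365 (Nat.ble (nat_lit 9365) i)) (@Bool.rec (fun _ => ℕ) rb9366 rb9367 (Nat.ble (nat_lit 9367) i)) (Nat.ble (nat_lit 9366) i)) (Nat.ble (nat_lit 9364) i))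 (@Bool.rec (fun _ => ℕ) (@Bool.rec (fun _ => ℕ) (@Bool.rec (fun _ => ℕ) rb9368 rb9369 (Nat.ble (nat_lit 9369) i)) (@Bool.rec (fun _ => ℕ) rb9370 rb9371 (Nat.ble (nat_lit 9371) i)) (Nat.ble (nat_lit 9370) i)) (@Bool.rec (fun _ => ℕ) (@Bool.rec (fun _ => ℕ) rb9372 rb9373 (Nat.ble (nat_lit 9373) i)) (@Bool.rec (fun _ => ℕ) rb9374 rb9375 (Nat.ble (nat_lit 9375) i)) (Nat.ble (nat_lit 9374) i)) (Nat.ble (nat_lit 9372) i)) (Nat.ble (nat_lit 9368) i)) (Nat.ble (nat_lit 9360) i))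

def rowBlk_n0_293 (i : ℕ) : ℕ := (@Bool.rec (fun _ => ℕ) (@Bool.rec (fun _ => ℕ) (@Bool.rec (fun _ => ℕ) (@Bool.rec (fun _ => ℕ) (@Bool.rec (fun _ => ℕ) rb9376 rb9377 (Nat.ble (nat_lit 9377) i)) (@Bool.rec (fun _ => ℕ) rb9378 rb9379 (Nat.ble (nat_lit 9379) i)) (Nat.ble (nat_lit 9378) i)) (@Bool.rec (fun _ => ℕ) (@Bool.rec (fun _ => ℕ) rb9380 rb9381 (Nat.ble (nat_lit 9381) i)) (@Bool.rec (fun _ => ℕ) rb9382 rb9383 (Nat.ble (nat_lit 9383) i)) (Nat.ble (nat_lit 9382) i)) (Nat.ble (nat_lit 9380) i)) (@Bool.rec (fun _ => ℕ) (@Bool.rec (fun _ => ℕ) (@Bool.rec (fun _ => ℕ) rb9384 rb9385 (Nat.ble (nat_lit 9385) i)) (@Bool.rec (fun _ => ℕ) rb9386 rb9387 (Nat.ble (nat_lit 9387) i)) (Nat.ble (nat_lit 9386) i)) (@Bool.rec (fun _ => ℕ) (@Bool.rec (fun _ => ℕ) rb9388 rb9389 (Nat.ble (nat_lit 9389) i)) (@Bool.rec (fun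 _ => ℕ) rb9390 rb9391 (Nat.ble (nat_lit 9391) i)) (Nat.ble (nat_lit 9390) i)) (Nat.ble (nat_lit 9388) i)) (Nat.ble (nat_lit 9384) i)) (@Bool.rec (fun _ => ℕ) (@Bool.rec (fun _ => ℕ) (@Bool.rec (fun _ => ℕ) (@Bool.rec (fun _ => ℕ) rb9392 rb9393 (Nat.ble (nat_lit 9393) i)) (@Bool.rec (fun _ => ℕ) rb9394 rb9395 (Nat.ble (nat_lit 9395) i)) (Nat.ble (nat_lit 9394) i)) (@Bool.rec (fun _ => ℕ) (@Bool.rec (fun _ => ℕ) rb9396 rb9397 (Nat.ble (nat_lit 9397) i)) (@Bool.rec (fun _ => ℕ) rb9398 rb9399 (Nat.ble (nat_lit 9399) i)) (Nat.ble (nat_lit 9398) i)) (Nat.ble (nat_lit 9396) i)) (@Bool.rec (fun _ => ℕ) (@Bool.rec (fun _ => ℕ) (@Bool.rec (fun _ => ℕ) rb9400 rb9401 (Nat.ble (nat_lit 9401) i)) (@Bool.rec (fun _ => ℕ) rb9402 rb9403 (Nat.ble (nat_lit 9403) i)) (Nat.ble (nat_lit 9402) i)) (@Bool.rec (fun _ => ℕ) (@Bool.rec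 (fun _ => ℕ) rb9404 rb9405 (Nat.ble (nat_lit 9405) i)) (@Bool.rec (fun _ => ℕ) rb9406 rb9407 (Nat.ble (nat_lit 9407) i)) (Nat.ble (nat_lit 9406) i)) (Nat.ble (nat_lit 9404) i)) (Nat.ble (nat_lit 9400) i)) (Nat.ble (nat_lit 9392) i))

def rowBlk_n0_294 (i : ℕ) : ℕ := (@Bool.rec (fun _ => ℕ) (@Bool.rec (fun _ => ℕ) (@Bool.rec (fun _ => ℕ) (@Bool.rec (fun _ => ℕ) (@Bool.rec (fun _ => ℕ) rb9408 rb9409 (Nat.ble (nat_lit 9409) i)) (@Bool.rec (fun _ => ℕ) rb9410 rb9411 (Nat.ble (nat_lit 9411) i)) (Nat.ble (nat_lit 9410) i)) (@Bool.rec (fun _ => ℕ) (@Bool.rec (fun _ => ℕ) rb9412 rb9413 (Nat.ble (nat_lit 9413) i)) (@Bool.rec (fun _ => ℕ) rb9414 rb9415 (Nat.ble (nat_lit 9415) i)) (Nat.ble (nat_lit 9414) i)) (Nat.ble (nat_lit 9412) i)) (@Bool.rec (fun _ => ℕ) (@Bool.rec (fun _ => ℕ) (@Bool.rec (fun _ => ℕ) rb9416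 rb9417 (Nat.ble (nat_lit 9417) i)) (@Bool.rec (fun _ => ℕ) rb9418 rb9419 (Nat.ble (nat_lit 9419) i)) (Nat.ble (nat_lit 9418) i)) (@Bool.rec (fun _ => ℕ) (@Bool.rec (fun _ => ℕ) rb9420 rb9421 (Nat.ble (nat_lit 9421) i)) (@Bool.rec (fun _ => ℕ) rb9422 rb9423 (Nat.ble (nat_lit 9423) i)) (Nat.ble (nat_lit 9422) i)) (Nat.ble (nat_lit 9420) i)) (Nat.ble (nat_lit 9416) i)) (@Bool.rec (fun _ => ℕ) (@Bool.rec (fun _ => ℕ) (@Bool.rec (fun _ => ℕ) (@Bool.rec (fun _ => ℕ) rb9424 rb9425 (Nat.ble (nat_lit 9425) i)) (@Bool.rec (fun _ => ℕ) rb9426 rb9427 (Nat.ble (nat_lit 9427) i)) (Nat.ble (nat_lit 9426) i)) (@Bool.rec (fun _ => ℕ) (@Bool.rec (fun _ => ℕ) rb9428 rb9429 (Nat.ble (nat_lit 9429) i)) (@Bool.rec (fun _ => ℕ) rb9430 rb9431 (Nat.ble (nat_lit 9431) i)) (Nat.ble (nat_lit 9430) i)) (Nat.ble (nat_lit 9428) i))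 (@Bool.rec (fun _ => ℕ) (@Bool.rec (fun _ => ℕ) (@Bool.rec (fun _ => ℕ) rb9432 rb9433 (Nat.ble (nat_lit 9433) i)) (@Bool.rec (fun _ => ℕ) rb9434 rb9435 (Nat.ble (nat_lit 9435) i)) (Nat.ble (nat_lit 9434) i)) (@Bool.rec (fun _ => ℕ) (@Bool.rec (fun _ => ℕ) rb9436 rb9437 (Nat.ble (nat_lit 9437) i)) (@Bool.rec (fun _ => ℕ) rb9438 rb9439 (Nat.ble (nat_lit 9439) i)) (Nat.ble (nat_lit 9438) i)) (Nat.ble (nat_lit 9436) i)) (Nat.ble (nat_lit 9432) i)) (Nat.ble (nat_lit 9424) i))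

def rowBlk_n0_295 (i : ℕ) : ℕ := (@Bool.rec (fun _ => ℕ) (@Bool.rec (fun _ => ℕ) (@Bool.rec (fun _ => ℕ) (@Bool.rec (fun _ => ℕ) (@Bool.rec (fun _ => ℕ) rb9440 rb9441 (Nat.ble (nat_lit 9441) i)) (@Bool.rec (fun _ => ℕ) rb9442 rb9443 (Nat.ble (nat_lit 9443) i)) (Nat.ble (nat_lit 9442) i)) (@Bool.rec (fun _ => ℕ) (@Bool.rec (fun _ => ℕ) rb9444 rb9445 (Nat.ble (nat_lit 9445) i)) (@Bool.rec (fun _ => ℕ) rb9446 rb9447 (Nat.ble (nat_lit 9447) i)) (Nat.ble (nat_lit 9446) i)) (Nat.ble (nat_lit 9444) i)) (@Bool.rec (fun _ => ℕ) (@Bool.rec (fun _ => ℕ) (@Bool.rec (fun _ => ℕ) rb9448 rb9449 (Nat.ble (nat_lit 9449) i)) (@Bool.rec (fun _ => ℕ) rb9450 rb9451 (Nat.ble (nat_lit 9451) i)) (Nat.ble (nat_lit 9450) i)) (@Bool.rec (fun _ => ℕ) (@Bool.rec (fun _ => ℕ) rb9452 rb9453 (Nat.ble (nat_lit 9453) i)) (@Bool.rec (fun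 _ => ℕ) rb9454 rb9455 (Nat.ble (nat_lit 9455) i)) (Nat.ble (nat_lit 9454) i)) (Nat.ble (nat_lit 9452) i)) (Nat.ble (nat_lit 9448) i)) (@Bool.rec (fun _ => ℕ) (@Bool.rec (fun _ => ℕ) (@Bool.rec (fun _ => ℕ) (@Bool.rec (fun _ => ℕ) rb9456 rb9457 (Nat.ble (nat_lit 9457) i)) (@Bool.rec (fun _ => ℕ) rb9458 rb9459 (Nat.ble (nat_lit 9459) i)) (Nat.ble (nat_lit 9458) i)) (@Bool.rec (fun _ => ℕ) (@Bool.rec (fun _ => ℕ) rb9460 rb9461 (Nat.ble (nat_lit 9461) i)) (@Bool.rec (fun _ => ℕ) rb9462 rb9463 (Nat.ble (nat_lit 9463) i)) (Nat.ble (nat_lit 9462) i)) (Nat.ble (nat_lit 9460) i)) (@Bool.rec (fun _ => ℕ) (@Bool.rec (fun _ => ℕ) (@Bool.rec (fun _ => ℕ) rb9464 rb9465 (Nat.ble (nat_lit 9465) i)) (@Bool.rec (fun _ => ℕ) rb9466 rb9467 (Nat.ble (nat_lit 9467) i)) (Nat.ble (nat_lit 9466) i)) (@Bool.rec (fun _ => ℕ) (@Bool.rec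 (fun _ => ℕ) rb9468 rb9469 (Nat.ble (nat_lit 9469) i)) (@Bool.rec (fun _ => ℕ) rb9470 rb9471 (Nat.ble (nat_lit 9471) i)) (Nat.ble (nat_lit 9470) i)) (Nat.ble (nat_lit 9468) i)) (Nat.ble (nat_lit 9464) i)) (Nat.ble (nat_lit 9456) i))

def rowBlk_n0_296 (i : ℕ) : ℕ := (@Bool.rec (fun _ => ℕ) (@Bool.rec (fun _ => ℕ) (@Bool.rec (fun _ => ℕ) (@Bool.rec (fun _ => ℕ) (@Bool.rec (fun _ => ℕ) rb9472 rb9473 (Nat.ble (nat_lit 9473) i)) (@Bool.rec (fun _ => ℕ) rb9474 rb9475 (Nat.ble (nat_lit 9475) i)) (Nat.ble (nat_lit 9474) i)) (@Bool.rec (fun _ => ℕ) (@Bool.rec (fun _ => ℕ) rb9476 rb9477 (Nat.ble (nat_lit 9477) i)) (@Bool.rec (fun _ => ℕ) rb9478 rb9479 (Nat.ble (nat_lit 9479) i)) (Nat.ble (nat_lit 9478) i)) (Nat.ble (nat_lit 9476) i)) (@Bool.rec (fun _ => ℕ) (@Bool.rec (fun _ => ℕ) (@Bool.rec (fun _ => ℕ) rb9480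 rb9481 (Nat.ble (nat_lit 9481) i)) (@Bool.rec (fun _ => ℕ) rb9482 rb9483 (Nat.ble (nat_lit 9483) i)) (Nat.ble (nat_lit 9482) i)) (@Bool.rec (fun _ => ℕ) (@Bool.rec (fun _ => ℕ) rb9484 rb9485 (Nat.ble (nat_lit 9485) i)) (@Bool.rec (fun _ => ℕ) rb9486 rb9487 (Nat.ble (nat_lit 9487) i)) (Nat.ble (nat_lit 9486) i)) (Nat.ble (nat_lit 9484) i)) (Nat.ble (nat_lit 9480) i)) (@Bool.rec (fun _ => ℕ) (@Bool.rec (fun _ => ℕ) (@Bool.rec (fun _ => ℕ) (@Bool.rec (fun _ => ℕ) rb9488 rb9489 (Nat.ble (nat_lit 9489) i)) (@Bool.rec (fun _ => ℕ) rb9490 rb9491 (Nat.ble (nat_lit 9491) i)) (Nat.ble (nat_lit 9490) i)) (@Bool.rec (fun _ => ℕ) (@Bool.rec (fun _ => ℕ) rb9492 rb9493 (Nat.ble (nat_lit 9493) i)) (@Bool.rec (fun _ => ℕ) rb9494 rb9495 (Nat.ble (nat_lit 9495) i)) (Nat.ble (nat_lit 9494) i)) (Nat.ble (nat_lit 9492) i))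 (@Bool.rec (fun _ => ℕ) (@Bool.rec (fun _ => ℕ) (@Bool.rec (fun _ => ℕ) rb9496 rb9497 (Nat.ble (nat_lit 9497) i)) (@Bool.rec (fun _ => ℕ) rb9498 rb9499 (Nat.ble (nat_lit 9499) i)) (Nat.ble (nat_lit 9498) i)) (@Bool.rec (fun _ => ℕ) (@Bool.rec (fun _ => ℕ) rb9500 rb9501 (Nat.ble (nat_lit 9501) i)) (@Bool.rec (fun _ => ℕ) rb9502 rb9503 (Nat.ble (nat_lit 9503) i)) (Nat.ble (nat_lit 9502) i)) (Nat.ble (nat_lit 9500) i)) (Nat.ble (nat_lit 9496) i)) (Nat.ble (nat_lit 9488) i))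

def rowBlk_n0_297 (i : ℕ) : ℕ := (@Bool.rec (fun _ => ℕ) (@Bool.rec (fun _ => ℕ) (@Bool.rec (fun _ => ℕ) (@Bool.rec (fun _ => ℕ) (@Bool.rec (fun _ => ℕ) rb9504 rb9505 (Nat.ble (nat_lit 9505) i)) (@Bool.rec (fun _ => ℕ) rb9506 rb9507 (Nat.ble (nat_lit 9507) i)) (Nat.ble (nat_lit 9506) i)) (@Bool.rec (fun _ => ℕ) (@Bool.rec (fun _ => ℕ) rb9508 rb9509 (Nat.ble (nat_lit 9509) i)) (@Bool.rec (fun _ => ℕ) rb9510 rb9511 (Nat.ble (nat_lit 9511) i)) (Nat.ble (nat_lit 9510) i)) (Nat.ble (nat_lit 9508) i)) (@Bool.rec (fun _ => ℕ) (@Bool.rec (fun _ => ℕ) (@Bool.rec (fun _ => ℕ) rb9512 rb9513 (Nat.ble (nat_lit 9513) i)) (@Bool.rec (fun _ => ℕ) rb9514 rb9515 (Nat.ble (nat_lit 9515) i)) (Nat.ble (nat_lit 9514) i)) (@Bool.rec (fun _ => ℕ) (@Bool.rec (fun _ => ℕ) rb9516 rb9517 (Nat.ble (nat_lit 9517) i)) (@Bool.rec (fun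 _ => ℕ) rb9518 rb9519 (Nat.ble (nat_lit 9519) i)) (Nat.ble (nat_lit 9518) i)) (Nat.ble (nat_lit 9516) i)) (Nat.ble (nat_lit 9512) i)) (@Bool.rec (fun _ => ℕ) (@Bool.rec (fun _ => ℕ) (@Bool.rec (fun _ => ℕ) (@Bool.rec (fun _ => ℕ) rb9520 rb9521 (Nat.ble (nat_lit 9521) i)) (@Bool.rec (fun _ => ℕ) rb9522 rb9523 (Nat.ble (nat_lit 9523) i)) (Nat.ble (nat_lit 9522) i)) (@Bool.rec (fun _ => ℕ) (@Bool.rec (fun _ => ℕ) rb9524 rb9525 (Nat.ble (nat_lit 9525) i)) (@Bool.rec (fun _ => ℕ) rb9526 rb9527 (Nat.ble (nat_lit 9527) i)) (Nat.ble (nat_lit 9526) i)) (Nat.ble (nat_lit 9524) i)) (@Bool.rec (fun _ => ℕ) (@Bool.rec (fun _ => ℕ) (@Bool.rec (fun _ => ℕ) rb9528 rb9529 (Nat.ble (nat_lit 9529) i)) (@Bool.rec (fun _ => ℕ) rb9530 rb9531 (Nat.ble (nat_lit 9531) i)) (Nat.ble (nat_lit 9530) i)) (@Bool.rec (fun _ => ℕ) (@Bool.rec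 (fun _ => ℕ) rb9532 rb9533 (Nat.ble (nat_lit 9533) i)) (@Bool.rec (fun _ => ℕ) rb9534 rb9535 (Nat.ble (nat_lit 9535) i)) (Nat.ble (nat_lit 9534) i)) (Nat.ble (nat_lit 9532) i)) (Nat.ble (nat_lit 9528) i)) (Nat.ble (nat_lit 9520) i))

def rowBlk_n0_298 (i : ℕ) : ℕ := (@Bool.rec (fun _ => ℕ) (@Bool.rec (fun _ => ℕ) (@Bool.rec (fun _ => ℕ) (@Bool.rec (fun _ => ℕ) (@Bool.rec (fun _ => ℕ) rb9536 rb9537 (Nat.ble (nat_lit 9537) i)) (@Bool.rec (fun _ => ℕ) rb9538 rb9539 (Nat.ble (nat_lit 9539) i)) (Nat.ble (nat_lit 9538) i)) (@Bool.rec (fun _ => ℕ) (@Bool.rec (fun _ => ℕ) rb9540 rb9541 (Nat.ble (nat_lit 9541) i)) (@Bool.rec (fun _ => ℕ) rb9542 rb9543 (Nat.ble (nat_lit 9543) i)) (Nat.ble (nat_lit 9542) i)) (Nat.ble (nat_lit 9540) i)) (@Bool.rec (fun _ => ℕ) (@Bool.rec (fun _ => ℕ) (@Bool.rec (fun _ => ℕ) rb9544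 rb9545 (Nat.ble (nat_lit 9545) i)) (@Bool.rec (fun _ => ℕ) rb9546 rb9547 (Nat.ble (nat_lit 9547) i)) (Nat.ble (nat_lit 9546) i)) (@Bool.rec (fun _ => ℕ) (@Bool.rec (fun _ => ℕ) rb9548 rb9549 (Nat.ble (nat_lit 9549) i)) (@Bool.rec (fun _ => ℕ) rb9550 rb9551 (Nat.ble (nat_lit 9551) i)) (Nat.ble (nat_lit 9550) i)) (Nat.ble (nat_lit 9548) i)) (Nat.ble (nat_lit 9544) i)) (@Bool.rec (fun _ => ℕ) (@Bool.rec (fun _ => ℕ) (@Bool.rec (fun _ => ℕ) (@Bool.rec (fun _ => ℕ) rb9552 rb9553 (Nat.ble (nat_lit 9553) i)) (@Bool.rec (fun _ => ℕ) rb9554 rb9555 (Nat.ble (nat_lit 9555) i)) (Nat.ble (nat_lit 9554) i)) (@Bool.rec (fun _ => ℕ) (@Bool.rec (fun _ => ℕ) rb9556 rb9557 (Nat.ble (nat_lit 9557) i)) (@Bool.rec (fun _ => ℕ) rb9558 rb9559 (Nat.ble (nat_lit 9559) i)) (Nat.ble (nat_lit 9558) i)) (Nat.ble (nat_lit 9556) i))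 (@Bool.rec (fun _ => ℕ) (@Bool.rec (fun _ => ℕ) (@Bool.rec (fun _ => ℕ) rb9560 rb9561 (Nat.ble (nat_lit 9561) i)) (@Bool.rec (fun _ => ℕ) rb9562 rb9563 (Nat.ble (nat_lit 9563) i)) (Nat.ble (nat_lit 9562) i)) (@Bool.rec (fun _ => ℕ) (@Bool.rec (fun _ => ℕ) rb9564 rb9565 (Nat.ble (nat_lit 9565) i)) (@Bool.rec (fun _ => ℕ) rb9566 rb9567 (Nat.ble (nat_lit 9567) i)) (Nat.ble (nat_lit 9566) i)) (Nat.ble (nat_lit 9564) i)) (Nat.ble (nat_lit 9560) i)) (Nat.ble (nat_lit 9552) i))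

def rowBlk_n0_299 (i : ℕ) : ℕ := (@Bool.rec (fun _ => ℕ) (@Bool.rec (fun _ => ℕ) (@Bool.rec (fun _ => ℕ) (@Bool.rec (fun _ => ℕ) (@Bool.rec (fun _ => ℕ) rb9568 rb9569 (Nat.ble (nat_lit 9569) i)) (@Bool.rec (fun _ => ℕ) rb9570 rb9571 (Nat.ble (nat_lit 9571) i)) (Nat.ble (nat_lit 9570) i)) (@Bool.rec (fun _ => ℕ) (@Bool.rec (fun _ => ℕ) rb9572 rb9573 (Nat.ble (nat_lit 9573) i)) (@Bool.rec (fun _ => ℕ) rb9574 rb9575 (Nat.ble (nat_lit 9575) i)) (Nat.ble (nat_lit 9574) i)) (Nat.ble (nat_lit 9572) i)) (@Bool.rec (fun _ => ℕ) (@Bool.rec (fun _ => ℕ) (@Bool.rec (fun _ => ℕ) rb9576 rb9577 (Nat.ble (nat_lit 9577) i)) (@Bool.rec (fun _ => ℕ) rb9578 rb9579 (Nat.ble (nat_lit 9579) i)) (Nat.ble (nat_lit 9578) i)) (@Bool.rec (fun _ => ℕ) (@Bool.rec (fun _ => ℕ) rb9580 rb9581 (Nat.ble (nat_lit 9581) i)) (@Bool.rec (fun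 _ => ℕ) rb9582 rb9583 (Nat.ble (nat_lit 9583) i)) (Nat.ble (nat_lit 9582) i)) (Nat.ble (nat_lit 9580) i)) (Nat.ble (nat_lit 9576) i)) (@Bool.rec (fun _ => ℕ) (@Bool.rec (fun _ => ℕ) (@Bool.rec (fun _ => ℕ) (@Bool.rec (fun _ => ℕ) rb9584 rb9585 (Nat.ble (nat_lit 9585) i)) (@Bool.rec (fun _ => ℕ) rb9586 rb9587 (Nat.ble (nat_lit 9587) i)) (Nat.ble (nat_lit 9586) i)) (@Bool.rec (fun _ => ℕ) (@Bool.rec (fun _ => ℕ) rb9588 rb9589 (Nat.ble (nat_lit 9589) i)) (@Bool.rec (fun _ => ℕ) rb9590 rb9591 (Nat.ble (nat_lit 9591) i)) (Nat.ble (nat_lit 9590) i)) (Nat.ble (nat_lit 9588) i)) (@Bool.rec (fun _ => ℕ) (@Bool.rec (fun _ => ℕ) (@Bool.rec (fun _ => ℕ) rb9592 rb9593 (Nat.ble (nat_lit 9593) i)) (@Bool.rec (fun _ => ℕ) rb9594 rb9595 (Nat.ble (nat_lit 9595) i)) (Nat.ble (nat_lit 9594) i)) (@Bool.rec (fun _ => ℕ) (@Bool.rec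 (fun _ => ℕ) rb9596 rb9597 (Nat.ble (nat_lit 9597) i)) (@Bool.rec (fun _ => ℕ) rb9598 rb9599 (Nat.ble (nat_lit 9599) i)) (Nat.ble (nat_lit 9598) i)) (Nat.ble (nat_lit 9596) i)) (Nat.ble (nat_lit 9592) i)) (Nat.ble (nat_lit 9584) i))

def rowBlk_n0_300 (i : ℕ) : ℕ := (@Bool.rec (fun _ => ℕ) (@Bool.rec (fun _ => ℕ) (@Bool.rec (fun _ => ℕ) (@Bool.rec (fun _ => ℕ) (@Bool.rec (fun _ => ℕ) rb9600 rb9601 (Nat.ble (nat_lit 9601) i)) (@Bool.rec (fun _ => ℕ) rb9602 rb9603 (Nat.ble (nat_lit 9603) i)) (Nat.ble (nat_lit 9602) i)) (@Bool.rec (fun _ => ℕ) (@Bool.rec (fun _ => ℕ) rb9604 rb9605 (Nat.ble (nat_lit 9605) i)) (@Bool.rec (fun _ => ℕ) rb9606 rb9607 (Nat.ble (nat_lit 9607) i)) (Nat.ble (nat_lit 9606) i)) (Nat.ble (nat_lit 9604) i)) (@Bool.rec (fun _ => ℕ) (@Bool.rec (fun _ => ℕ) (@Bool.rec (fun _ => ℕ) rb9608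 rb9609 (Nat.ble (nat_lit 9609) i)) (@Bool.rec (fun _ => ℕ) rb9610 rb9611 (Nat.ble (nat_lit 9611) i)) (Nat.ble (nat_lit 9610) i)) (@Bool.rec (fun _ => ℕ) (@Bool.rec (fun _ => ℕ) rb9612 rb9613 (Nat.ble (nat_lit 9613) i)) (@Bool.rec (fun _ => ℕ) rb9614 rb9615 (Nat.ble (nat_lit 9615) i)) (Nat.ble (nat_lit 9614) i)) (Nat.ble (nat_lit 9612) i)) (Nat.ble (nat_lit 9608) i)) (@Bool.rec (fun _ => ℕ) (@Bool.rec (fun _ => ℕ) (@Bool.rec (fun _ => ℕ) (@Bool.rec (fun _ => ℕ) rb9616 rb9617 (Nat.ble (nat_lit 9617) i)) (@Bool.rec (fun _ => ℕ) rb9618 rb9619 (Nat.ble (nat_lit 9619) i)) (Nat.ble (nat_lit 9618) i)) (@Bool.rec (fun _ => ℕ) (@Bool.rec (fun _ => ℕ) rb9620 rb9621 (Nat.ble (nat_lit 9621) i)) (@Bool.rec (fun _ => ℕ) rb9622 rb9623 (Nat.ble (nat_lit 9623) i)) (Nat.ble (nat_lit 9622) i)) (Nat.ble (nat_lit 9620) i))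 (@Bool.rec (fun _ => ℕ) (@Bool.rec (fun _ => ℕ) (@Bool.rec (fun _ => ℕ) rb9624 rb9625 (Nat.ble (nat_lit 9625) i)) (@Bool.rec (fun _ => ℕ) rb9626 rb9627 (Nat.ble (nat_lit 9627) i)) (Nat.ble (nat_lit 9626) i)) (@Bool.rec (fun _ => ℕ) (@Bool.rec (fun _ => ℕ) rb9628 rb9629 (Nat.ble (nat_lit 9629) i)) (@Bool.rec (fun _ => ℕ) rb9630 rb9631 (Nat.ble (nat_lit 9631) i)) (Nat.ble (nat_lit 9630) i)) (Nat.ble (nat_lit 9628) i)) (Nat.ble (nat_lit 9624) i)) (Nat.ble (nat_lit 9616) i))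

def rowBlk_n0_301 (i : ℕ) : ℕ := (@Bool.rec (fun _ => ℕ) (@Bool.rec (fun _ => ℕ) (@Bool.rec (fun _ => ℕ) (@Bool.rec (fun _ => ℕ) (@Bool.rec (fun _ => ℕ) rb9632 rb9633 (Nat.ble (nat_lit 9633) i)) (@Bool.rec (fun _ => ℕ) rb9634 rb9635 (Nat.ble (nat_lit 9635) i)) (Nat.ble (nat_lit 9634) i)) (@Bool.rec (fun _ => ℕ) (@Bool.rec (fun _ => ℕ) rb9636 rb9637 (Nat.ble (nat_lit 9637) i)) (@Bool.rec (fun _ => ℕ) rb9638 rb9639 (Nat.ble (nat_lit 9639) i)) (Nat.ble (nat_lit 9638) i)) (Nat.ble (nat_lit 9636) i)) (@Bool.rec (fun _ => ℕ) (@Bool.rec (fun _ => ℕ) (@Bool.rec (fun _ => ℕ) rb9640 rb9641 (Nat.ble (nat_lit 9641) i)) (@Bool.rec (fun _ => ℕ) rb9642 rb9643 (Nat.ble (nat_lit 9643) i)) (Nat.ble (nat_lit 9642) i)) (@Bool.rec (fun _ => ℕ) (@Bool.rec (fun _ => ℕ) rb9644 rb9645 (Nat.ble (nat_lit 9645) i)) (@Bool.rec (fun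 _ => ℕ) rb9646 rb9647 (Nat.ble (nat_lit 9647) i)) (Nat.ble (nat_lit 9646) i)) (Nat.ble (nat_lit 9644) i)) (Nat.ble (nat_lit 9640) i)) (@Bool.rec (fun _ => ℕ) (@Bool.rec (fun _ => ℕ) (@Bool.rec (fun _ => ℕ) (@Bool.rec (fun _ => ℕ) rb9648 rb9649 (Nat.ble (nat_lit 9649) i)) (@Bool.rec (fun _ => ℕ) rb9650 rb9651 (Nat.ble (nat_lit 9651) i)) (Nat.ble (nat_lit 9650) i)) (@Bool.rec (fun _ => ℕ) (@Bool.rec (fun _ => ℕ) rb9652 rb9653 (Nat.ble (nat_lit 9653) i)) (@Bool.rec (fun _ => ℕ) rb9654 rb9655 (Nat.ble (nat_lit 9655) i)) (Nat.ble (nat_lit 9654) i)) (Nat.ble (nat_lit 9652) i)) (@Bool.rec (fun _ => ℕ) (@Bool.rec (fun _ => ℕ) (@Bool.rec (fun _ => ℕ) rb9656 rb9657 (Nat.ble (nat_lit 9657) i)) (@Bool.rec (fun _ => ℕ) rb9658 rb9659 (Nat.ble (nat_lit 9659) i)) (Nat.ble (nat_lit 9658) i)) (@Bool.rec (fun _ => ℕ) (@Bool.rec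 (fun _ => ℕ) rb9660 rb9661 (Nat.ble (nat_lit 9661) i)) (@Bool.rec (fun _ => ℕ) rb9662 rb9663 (Nat.ble (nat_lit 9663) i)) (Nat.ble (nat_lit 9662) i)) (Nat.ble (nat_lit 9660) i)) (Nat.ble (nat_lit 9656) i)) (Nat.ble (nat_lit 9648) i))

def rowBlk_n0_302 (i : ℕ) : ℕ := (@Bool.rec (fun _ => ℕ) (@Bool.rec (fun _ => ℕ) (@Bool.rec (fun _ => ℕ) (@Bool.rec (fun _ => ℕ) (@Bool.rec (fun _ => ℕ) rb9664 rb9665 (Nat.ble (nat_lit 9665) i)) (@Bool.rec (fun _ => ℕ) rb9666 rb9667 (Nat.ble (nat_lit 9667) i)) (Nat.ble (nat_lit 9666) i)) (@Bool.rec (fun _ => ℕ) (@Bool.rec (fun _ => ℕ) rb9668 rb9669 (Nat.ble (nat_lit 9669) i)) (@Bool.rec (fun _ => ℕ) rb9670 rb9671 (Nat.ble (nat_lit 9671) i)) (Nat.ble (nat_lit 9670) i)) (Nat.ble (nat_lit 9668) i)) (@Bool.rec (fun _ => ℕ) (@Bool.rec (fun _ => ℕ) (@Bool.rec (fun _ => ℕ) rb9672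 rb9673 (Nat.ble (nat_lit 9673) i)) (@Bool.rec (fun _ => ℕ) rb9674 rb9675 (Nat.ble (nat_lit 9675) i)) (Nat.ble (nat_lit 9674) i)) (@Bool.rec (fun _ => ℕ) (@Bool.rec (fun _ => ℕ) rb9676 rb9677 (Nat.ble (nat_lit 9677) i)) (@Bool.rec (fun _ => ℕ) rb9678 rb9679 (Nat.ble (nat_lit 9679) i)) (Nat.ble (nat_lit 9678) i)) (Nat.ble (nat_lit 9676) i)) (Nat.ble (nat_lit 9672) i)) (@Bool.rec (fun _ => ℕ) (@Bool.rec (fun _ => ℕ) (@Bool.rec (fun _ => ℕ) (@Bool.rec (fun _ => ℕ) rb9680 rb9681 (Nat.ble (nat_lit 9681) i)) (@Bool.rec (fun _ => ℕ) rb9682 rb9683 (Nat.ble (nat_lit 9683) i)) (Nat.ble (nat_lit 9682) i)) (@Bool.rec (fun _ => ℕ) (@Bool.rec (fun _ => ℕ) rb9684 rb9685 (Nat.ble (nat_lit 9685) i)) (@Bool.rec (fun _ => ℕ) rb9686 rb9687 (Nat.ble (nat_lit 9687) i)) (Nat.ble (nat_lit 9686) i)) (Nat.ble (nat_lit 9684) i))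 (@Bool.rec (fun _ => ℕ) (@Bool.rec (fun _ => ℕ) (@Bool.rec (fun _ => ℕ) rb9688 rb9689 (Nat.ble (nat_lit 9689) i)) (@Bool.rec (fun _ => ℕ) rb9690 rb9691 (Nat.ble (nat_lit 9691) i)) (Nat.ble (nat_lit 9690) i)) (@Bool.rec (fun _ => ℕ) (@Bool.rec (fun _ => ℕ) rb9692 rb9693 (Nat.ble (nat_lit 9693) i)) (@Bool.rec (fun _ => ℕ) rb9694 rb9695 (Nat.ble (nat_lit 9695) i)) (Nat.ble (nat_lit 9694) i)) (Nat.ble (nat_lit 9692) i)) (Nat.ble (nat_lit 9688) i)) (Nat.ble (nat_lit 9680) i))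

def rowBlk_n0_303 (i : ℕ) : ℕ := (@Bool.rec (fun _ => ℕ) (@Bool.rec (fun _ => ℕ) (@Bool.rec (fun _ => ℕ) (@Bool.rec (fun _ => ℕ) (@Bool.rec (fun _ => ℕ) rb9696 rb9697 (Nat.ble (nat_lit 9697) i)) (@Bool.rec (fun _ => ℕ) rb9698 rb9699 (Nat.ble (nat_lit 9699) i)) (Nat.ble (nat_lit 9698) i)) (@Bool.rec (fun _ => ℕ) (@Bool.rec (fun _ => ℕ) rb9700 rb9701 (Nat.ble (nat_lit 9701) i)) (@Bool.rec (fun _ => ℕ) rb9702 rb9703 (Nat.ble (nat_lit 9703) i)) (Nat.ble (nat_lit 9702) i)) (Nat.ble (nat_lit 9700) i)) (@Bool.rec (fun _ => ℕ) (@Bool.rec (fun _ => ℕ) (@Bool.rec (fun _ => ℕ) rb9704 rb9705 (Nat.ble (nat_lit 9705) i)) (@Bool.rec (fun _ => ℕ) rb9706 rb9707 (Nat.ble (nat_lit 9707) i)) (Nat.ble (nat_lit 9706) i)) (@Bool.rec (fun _ => ℕ) (@Bool.rec (fun _ => ℕ) rb9708 rb9709 (Nat.ble (nat_lit 9709) i)) (@Bool.rec (fun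 _ => ℕ) rb9710 rb9711 (Nat.ble (nat_lit 9711) i)) (Nat.ble (nat_lit 9710) i)) (Nat.ble (nat_lit 9708) i)) (Nat.ble (nat_lit 9704) i)) (@Bool.rec (fun _ => ℕ) (@Bool.rec (fun _ => ℕ) (@Bool.rec (fun _ => ℕ) (@Bool.rec (fun _ => ℕ) rb9712 rb9713 (Nat.ble (nat_lit 9713) i)) (@Bool.rec (fun _ => ℕ) rb9714 rb9715 (Nat.ble (nat_lit 9715) i)) (Nat.ble (nat_lit 9714) i)) (@Bool.rec (fun _ => ℕ) (@Bool.rec (fun _ => ℕ) rb9716 rb9717 (Nat.ble (nat_lit 9717) i)) (@Bool.rec (fun _ => ℕ) rb9718 rb9719 (Nat.ble (nat_lit 9719) i)) (Nat.ble (nat_lit 9718) i)) (Nat.ble (nat_lit 9716) i)) (@Bool.rec (fun _ => ℕ) (@Bool.rec (fun _ => ℕ) (@Bool.rec (fun _ => ℕ) rb9720 rb9721 (Nat.ble (nat_lit 9721) i)) (@Bool.rec (fun _ => ℕ) rb9722 rb9723 (Nat.ble (nat_lit 9723) i)) (Nat.ble (nat_lit 9722) i)) (@Bool.rec (fun _ => ℕ) (@Bool.rec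 (fun _ => ℕ) rb9724 rb9725 (Nat.ble (nat_lit 9725) i)) (@Bool.rec (fun _ => ℕ) rb9726 rb9727 (Nat.ble (nat_lit 9727) i)) (Nat.ble (nat_lit 9726) i)) (Nat.ble (nat_lit 9724) i)) (Nat.ble (nat_lit 9720) i)) (Nat.ble (nat_lit 9712) i))

def rowBlk_n0_304 (i : ℕ) : ℕ := (@Bool.rec (fun _ => ℕ) (@Bool.rec (fun _ => ℕ) (@Bool.rec (fun _ => ℕ) (@Bool.rec (fun _ => ℕ) (@Bool.rec (fun _ => ℕ) rb9728 rb9729 (Nat.ble (nat_lit 9729) i)) (@Bool.rec (fun _ => ℕ) rb9730 rb9731 (Nat.ble (nat_lit 9731) i)) (Nat.ble (nat_lit 9730) i)) (@Bool.rec (fun _ => ℕ) (@Bool.rec (fun _ => ℕ) rb9732 rb9733 (Nat.ble (nat_lit 9733) i)) (@Bool.rec (fun _ => ℕ) rb9734 rb9735 (Nat.ble (nat_lit 9735) i)) (Nat.ble (nat_lit 9734) i)) (Nat.ble (nat_lit 9732) i)) (@Bool.rec (fun _ => ℕ) (@Bool.rec (fun _ => ℕ) (@Bool.rec (fun _ => ℕ) rb9736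 rb9737 (Nat.ble (nat_lit 9737) i)) (@Bool.rec (fun _ => ℕ) rb9738 rb9739 (Nat.ble (nat_lit 9739) i)) (Nat.ble (nat_lit 9738) i)) (@Bool.rec (fun _ => ℕ) (@Bool.rec (fun _ => ℕ) rb9740 rb9741 (Nat.ble (nat_lit 9741) i)) (@Bool.rec (fun _ => ℕ) rb9742 rb9743 (Nat.ble (nat_lit 9743) i)) (Nat.ble (nat_lit 9742) i)) (Nat.ble (nat_lit 9740) i)) (Nat.ble (nat_lit 9736) i)) (@Bool.rec (fun _ => ℕ) (@Bool.rec (fun _ => ℕ) (@Bool.rec (fun _ => ℕ) (@Bool.rec (fun _ => ℕ) rb9744 rb9745 (Nat.ble (nat_lit 9745) i)) (@Bool.rec (fun _ => ℕ) rb9746 rb9747 (Nat.ble (nat_lit 9747) i)) (Nat.ble (nat_lit 9746) i)) (@Bool.rec (fun _ => ℕ) (@Bool.rec (fun _ => ℕ) rb9748 rb9749 (Nat.ble (nat_lit 9749) i)) (@Bool.rec (fun _ => ℕ) rb9750 rb9751 (Nat.ble (nat_lit 9751) i)) (Nat.ble (nat_lit 9750) i)) (Nat.ble (nat_lit 9748) i))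 (@Bool.rec (fun _ => ℕ) (@Bool.rec (fun _ => ℕ) (@Bool.rec (fun _ => ℕ) rb9752 rb9753 (Nat.ble (nat_lit 9753) i)) (@Bool.rec (fun _ => ℕ) rb9754 rb9755 (Nat.ble (nat_lit 9755) i)) (Nat.ble (nat_lit 9754) i)) (@Bool.rec (fun _ => ℕ) (@Bool.rec (fun _ => ℕ) rb9756 rb9757 (Nat.ble (nat_lit 9757) i)) (@Bool.rec (fun _ => ℕ) rb9758 rb9759 (Nat.ble (nat_lit 9759) i)) (Nat.ble (nat_lit 9758) i)) (Nat.ble (nat_lit 9756) i)) (Nat.ble (nat_lit 9752) i)) (Nat.ble (nat_lit 9744) i))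

def rowBlk_n0_305 (i : ℕ) : ℕ := (@Bool.rec (fun _ => ℕ) (@Bool.rec (fun _ => ℕ) (@Bool.rec (fun _ => ℕ) (@Bool.rec (fun _ => ℕ) (@Bool.rec (fun _ => ℕ) rb9760 rb9761 (Nat.ble (nat_lit 9761) i)) (@Bool.rec (fun _ => ℕ) rb9762 rb9763 (Nat.ble (nat_lit 9763) i)) (Nat.ble (nat_lit 9762) i)) (@Bool.rec (fun _ => ℕ) (@Bool.rec (fun _ => ℕ) rb9764 rb9765 (Nat.ble (nat_lit 9765) i)) (@Bool.rec (fun _ => ℕ) rb9766 rb9767 (Nat.ble (nat_lit 9767) i)) (Nat.ble (nat_lit 9766) i)) (Nat.ble (nat_lit 9764) i)) (@Bool.rec (fun _ => ℕ) (@Bool.rec (fun _ => ℕ) (@Bool.rec (fun _ => ℕ) rb9768 rb9769 (Nat.ble (nat_lit 9769) i)) (@Bool.rec (fun _ => ℕ) rb9770 rb9771 (Nat.ble (nat_lit 9771) i)) (Nat.ble (nat_lit 9770) i)) (@Bool.rec (fun _ => ℕ) (@Bool.rec (fun _ => ℕ) rb9772 rb9773 (Nat.ble (nat_lit 9773) i)) (@Bool.rec (fun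 _ => ℕ) rb9774 rb9775 (Nat.ble (nat_lit 9775) i)) (Nat.ble (nat_lit 9774) i)) (Nat.ble (nat_lit 9772) i)) (Nat.ble (nat_lit 9768) i)) (@Bool.rec (fun _ => ℕ) (@Bool.rec (fun _ => ℕ) (@Bool.rec (fun _ => ℕ) (@Bool.rec (fun _ => ℕ) rb9776 rb9777 (Nat.ble (nat_lit 9777) i)) (@Bool.rec (fun _ => ℕ) rb9778 rb9779 (Nat.ble (nat_lit 9779) i)) (Nat.ble (nat_lit 9778) i)) (@Bool.rec (fun _ => ℕ) (@Bool.rec (fun _ => ℕ) rb9780 rb9781 (Nat.ble (nat_lit 9781) i)) (@Bool.rec (fun _ => ℕ) rb9782 rb9783 (Nat.ble (nat_lit 9783) i)) (Nat.ble (nat_lit 9782) i)) (Nat.ble (nat_lit 9780) i)) (@Bool.rec (fun _ => ℕ) (@Bool.rec (fun _ => ℕ) (@Bool.rec (fun _ => ℕ) rb9784 rb9785 (Nat.ble (nat_lit 9785) i)) (@Bool.rec (fun _ => ℕ) rb9786 rb9787 (Nat.ble (nat_lit 9787) i)) (Nat.ble (nat_lit 9786) i)) (@Bool.rec (fun _ => ℕ) (@Bool.rec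 (fun _ => ℕ) rb9788 rb9789 (Nat.ble (nat_lit 9789) i)) (@Bool.rec (fun _ => ℕ) rb9790 rb9791 (Nat.ble (nat_lit 9791) i)) (Nat.ble (nat_lit 9790) i)) (Nat.ble (nat_lit 9788) i)) (Nat.ble (nat_lit 9784) i)) (Nat.ble (nat_lit 9776) i))

def rowBlk_n0_306 (i : ℕ) : ℕ := (@Bool.rec (fun _ => ℕ) (@Bool.rec (fun _ => ℕ) (@Bool.rec (fun _ => ℕ) (@Bool.rec (fun _ => ℕ) (@Bool.rec (fun _ => ℕ) rb9792 rb9793 (Nat.ble (nat_lit 9793) i)) (@Bool.rec (fun _ => ℕ) rb9794 rb9795 (Nat.ble (nat_lit 9795) i)) (Nat.ble (nat_lit 9794) i)) (@Bool.rec (fun _ => ℕ) (@Bool.rec (fun _ => ℕ) rb9796 rb9797 (Nat.ble (nat_lit 9797) i)) (@Bool.rec (fun _ => ℕ) rb9798 rb9799 (Nat.ble (nat_lit 9799) i)) (Nat.ble (nat_lit 9798) i)) (Nat.ble (nat_lit 9796) i)) (@Bool.rec (fun _ => ℕ) (@Bool.rec (fun _ => ℕ) (@Bool.rec (fun _ => ℕ) rb9800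 rb9801 (Nat.ble (nat_lit 9801) i)) (@Bool.rec (fun _ => ℕ) rb9802 rb9803 (Nat.ble (nat_lit 9803) i)) (Nat.ble (nat_lit 9802) i)) (@Bool.rec (fun _ => ℕ) (@Bool.rec (fun _ => ℕ) rb9804 rb9805 (Nat.ble (nat_lit 9805) i)) (@Bool.rec (fun _ => ℕ) rb9806 rb9807 (Nat.ble (nat_lit 9807) i)) (Nat.ble (nat_lit 9806) i)) (Nat.ble (nat_lit 9804) i)) (Nat.ble (nat_lit 9800) i)) (@Bool.rec (fun _ => ℕ) (@Bool.rec (fun _ => ℕ) (@Bool.rec (fun _ => ℕ) (@Bool.rec (fun _ => ℕ) rb9808 rb9809 (Nat.ble (nat_lit 9809) i)) (@Bool.rec (fun _ => ℕ) rb9810 rb9811 (Nat.ble (nat_lit 9811) i)) (Nat.ble (nat_lit 9810) i)) (@Bool.rec (fun _ => ℕ) (@Bool.rec (fun _ => ℕ) rb9812 rb9813 (Nat.ble (nat_lit 9813) i)) (@Bool.rec (fun _ => ℕ) rb9814 rb9815 (Nat.ble (nat_lit 9815) i)) (Nat.ble (nat_lit 9814) i)) (Nat.ble (nat_lit 9812) i))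 (@Bool.rec (fun _ => ℕ) (@Bool.rec (fun _ => ℕ) (@Bool.rec (fun _ => ℕ) rb9816 rb9817 (Nat.ble (nat_lit 9817) i)) (@Bool.rec (fun _ => ℕ) rb9818 rb9819 (Nat.ble (nat_lit 9819) i)) (Nat.ble (nat_lit 9818) i)) (@Bool.rec (fun _ => ℕ) (@Bool.rec (fun _ => ℕ) rb9820 rb9821 (Nat.ble (nat_lit 9821) i)) (@Bool.rec (fun _ => ℕ) rb9822 rb9823 (Nat.ble (nat_lit 9823) i)) (Nat.ble (nat_lit 9822) i)) (Nat.ble (nat_lit 9820) i)) (Nat.ble (nat_lit 9816) i)) (Nat.ble (nat_lit 9808) i))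

def rowBlk_n0_307 (i : ℕ) : ℕ := (@Bool.rec (fun _ => ℕ) (@Bool.rec (fun _ => ℕ) (@Bool.rec (fun _ => ℕ) (@Bool.rec (fun _ => ℕ) (@Bool.rec (fun _ => ℕ) rb9824 rb9825 (Nat.ble (nat_lit 9825) i)) (@Bool.rec (fun _ => ℕ) rb9826 rb9827 (Nat.ble (nat_lit 9827) i)) (Nat.ble (nat_lit 9826) i)) (@Bool.rec (fun _ => ℕ) (@Bool.rec (fun _ => ℕ) rb9828 rb9829 (Nat.ble (nat_lit 9829) i)) (@Bool.rec (fun _ => ℕ) rb9830 rb9831 (Nat.ble (nat_lit 9831) i)) (Nat.ble (nat_lit 9830) i)) (Nat.ble (nat_lit 9828) i)) (@Bool.rec (fun _ => ℕ) (@Bool.rec (fun _ => ℕ) (@Bool.rec (fun _ => ℕ) rb9832 rb9833 (Nat.ble (nat_lit 9833) i)) (@Bool.rec (fun _ => ℕ) rb9834 rb9835 (Nat.ble (nat_lit 9835) i)) (Nat.ble (nat_lit 9834) i)) (@Bool.rec (fun _ => ℕ) (@Bool.rec (fun _ => ℕ) rb9836 rb9837 (Nat.ble (nat_lit 9837) i)) (@Bool.rec (fun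 _ => ℕ) rb9838 rb9839 (Nat.ble (nat_lit 9839) i)) (Nat.ble (nat_lit 9838) i)) (Nat.ble (nat_lit 9836) i)) (Nat.ble (nat_lit 9832) i)) (@Bool.rec (fun _ => ℕ) (@Bool.rec (fun _ => ℕ) (@Bool.rec (fun _ => ℕ) (@Bool.rec (fun _ => ℕ) rb9840 rb9841 (Nat.ble (nat_lit 9841) i)) (@Bool.rec (fun _ => ℕ) rb9842 rb9843 (Nat.ble (nat_lit 9843) i)) (Nat.ble (nat_lit 9842) i)) (@Bool.rec (fun _ => ℕ) (@Bool.rec (fun _ => ℕ) rb9844 rb9845 (Nat.ble (nat_lit 9845) i)) (@Bool.rec (fun _ => ℕ) rb9846 rb9847 (Nat.ble (nat_lit 9847) i)) (Nat.ble (nat_lit 9846) i)) (Nat.ble (nat_lit 9844) i)) (@Bool.rec (fun _ => ℕ) (@Bool.rec (fun _ => ℕ) (@Bool.rec (fun _ => ℕ) rb9848 rb9849 (Nat.ble (nat_lit 9849) i)) (@Bool.rec (fun _ => ℕ) rb9850 rb9851 (Nat.ble (nat_lit 9851) i)) (Nat.ble (nat_lit 9850) i)) (@Bool.rec (fun _ => ℕ) (@Bool.rec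 (fun _ => ℕ) rb9852 rb9853 (Nat.ble (nat_lit 9853) i)) (@Bool.rec (fun _ => ℕ) rb9854 rb9855 (Nat.ble (nat_lit 9855) i)) (Nat.ble (nat_lit 9854) i)) (Nat.ble (nat_lit 9852) i)) (Nat.ble (nat_lit 9848) i)) (Nat.ble (nat_lit 9840) i))

def rowBlk_n0_308 (i : ℕ) : ℕ := (@Bool.rec (fun _ => ℕ) (@Bool.rec (fun _ => ℕ) (@Bool.rec (fun _ => ℕ) (@Bool.rec (fun _ => ℕ) (@Bool.rec (fun _ => ℕ) rb9856 rb9857 (Nat.ble (nat_lit 9857) i)) (@Bool.rec (fun _ => ℕ) rb9858 rb9859 (Nat.ble (nat_lit 9859) i)) (Nat.ble (nat_lit 9858) i)) (@Bool.rec (fun _ => ℕ) (@Bool.rec (fun _ => ℕ) rb9860 rb9861 (Nat.ble (nat_lit 9861) i)) (@Bool.rec (fun _ => ℕ) rb9862 rb9863 (Nat.ble (nat_lit 9863) i)) (Nat.ble (nat_lit 9862) i)) (Nat.ble (nat_lit 9860) i)) (@Bool.rec (fun _ => ℕ) (@Bool.rec (fun _ => ℕ) (@Bool.rec (fun _ => ℕ) rb9864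 rb9865 (Nat.ble (nat_lit 9865) i)) (@Bool.rec (fun _ => ℕ) rb9866 rb9867 (Nat.ble (nat_lit 9867) i)) (Nat.ble (nat_lit 9866) i)) (@Bool.rec (fun _ => ℕ) (@Bool.rec (fun _ => ℕ) rb9868 rb9869 (Nat.ble (nat_lit 9869) i)) (@Bool.rec (fun _ => ℕ) rb9870 rb9871 (Nat.ble (nat_lit 9871) i)) (Nat.ble (nat_lit 9870) i)) (Nat.ble (nat_lit 9868) i)) (Nat.ble (nat_lit 9864) i)) (@Bool.rec (fun _ => ℕ) (@Bool.rec (fun _ => ℕ) (@Bool.rec (fun _ => ℕ) (@Bool.rec (fun _ => ℕ) rb9872 rb9873 (Nat.ble (nat_lit 9873) i)) (@Bool.rec (fun _ => ℕ) rb9874 rb9875 (Nat.ble (nat_lit 9875) i)) (Nat.ble (nat_lit 9874) i)) (@Bool.rec (fun _ => ℕ) (@Bool.rec (fun _ => ℕ) rb9876 rb9877 (Nat.ble (nat_lit 9877) i)) (@Bool.rec (fun _ => ℕ) rb9878 rb9879 (Nat.ble (nat_lit 9879) i)) (Nat.ble (nat_lit 9878) i)) (Nat.ble (nat_lit 9876) i))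 (@Bool.rec (fun _ => ℕ) (@Bool.rec (fun _ => ℕ) (@Bool.rec (fun _ => ℕ) rb9880 rb9881 (Nat.ble (nat_lit 9881) i)) (@Bool.rec (fun _ => ℕ) rb9882 rb9883 (Nat.ble (nat_lit 9883) i)) (Nat.ble (nat_lit 9882) i)) (@Bool.rec (fun _ => ℕ) (@Bool.rec (fun _ => ℕ) rb9884 rb9885 (Nat.ble (nat_lit 9885) i)) (@Bool.rec (fun _ => ℕ) rb9886 rb9887 (Nat.ble (nat_lit 9887) i)) (Nat.ble (nat_lit 9886) i)) (Nat.ble (nat_lit 9884) i)) (Nat.ble (nat_lit 9880) i)) (Nat.ble (nat_lit 9872) i))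

def rowBlk_n0_309 (i : ℕ) : ℕ := (@Bool.rec (fun _ => ℕ) (@Bool.rec (fun _ => ℕ) (@Bool.rec (fun _ => ℕ) (@Bool.rec (fun _ => ℕ) (@Bool.rec (fun _ => ℕ) rb9888 rb9889 (Nat.ble (nat_lit 9889) i)) (@Bool.rec (fun _ => ℕ) rb9890 rb9891 (Nat.ble (nat_lit 9891) i)) (Nat.ble (nat_lit 9890) i)) (@Bool.rec (fun _ => ℕ) (@Bool.rec (fun _ => ℕ) rb9892 rb9893 (Nat.ble (nat_lit 9893) i)) (@Bool.rec (fun _ => ℕ) rb9894 rb9895 (Nat.ble (nat_lit 9895) i)) (Nat.ble (nat_lit 9894) i)) (Nat.ble (nat_lit 9892) i)) (@Bool.rec (fun _ => ℕ) (@Bool.rec (fun _ => ℕ) (@Bool.rec (fun _ => ℕ) rb9896 rb9897 (Nat.ble (nat_lit 9897) i)) (@Bool.rec (fun _ => ℕ) rb9898 rb9899 (Nat.ble (nat_lit 9899) i)) (Nat.ble (nat_lit 9898) i)) (@Bool.rec (fun _ => ℕ) (@Bool.rec (fun _ => ℕ) rb9900 rb9901 (Nat.ble (nat_lit 9901) i)) (@Bool.rec (fun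 _ => ℕ) rb9902 rb9903 (Nat.ble (nat_lit 9903) i)) (Nat.ble (nat_lit 9902) i)) (Nat.ble (nat_lit 9900) i)) (Nat.ble (nat_lit 9896) i)) (@Bool.rec (fun _ => ℕ) (@Bool.rec (fun _ => ℕ) (@Bool.rec (fun _ => ℕ) (@Bool.rec (fun _ => ℕ) rb9904 rb9905 (Nat.ble (nat_lit 9905) i)) (@Bool.rec (fun _ => ℕ) rb9906 rb9907 (Nat.ble (nat_lit 9907) i)) (Nat.ble (nat_lit 9906) i)) (@Bool.rec (fun _ => ℕ) (@Bool.rec (fun _ => ℕ) rb9908 rb9909 (Nat.ble (nat_lit 9909) i)) (@Bool.rec (fun _ => ℕ) rb9910 rb9911 (Nat.ble (nat_lit 9911) i)) (Nat.ble (nat_lit 9910) i)) (Nat.ble (nat_lit 9908) i)) (@Bool.rec (fun _ => ℕ) (@Bool.rec (fun _ => ℕ) (@Bool.rec (fun _ => ℕ) rb9912 rb9913 (Nat.ble (nat_lit 9913) i)) (@Bool.rec (fun _ => ℕ) rb9914 rb9915 (Nat.ble (nat_lit 9915) i)) (Nat.ble (nat_lit 9914) i)) (@Bool.rec (fun _ => ℕ) (@Bool.rec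 (fun _ => ℕ) rb9916 rb9917 (Nat.ble (nat_lit 9917) i)) (@Bool.rec (fun _ => ℕ) rb9918 rb9919 (Nat.ble (nat_lit 9919) i)) (Nat.ble (nat_lit 9918) i)) (Nat.ble (nat_lit 9916) i)) (Nat.ble (nat_lit 9912) i)) (Nat.ble (nat_lit 9904) i))

def rowBlk_n0_310 (i : ℕ) : ℕ := (@Bool.rec (fun _ => ℕ) (@Bool.rec (fun _ => ℕ) (@Bool.rec (fun _ => ℕ) (@Bool.rec (fun _ => ℕ) (@Bool.rec (fun _ => ℕ) rb9920 rb9921 (Nat.ble (nat_lit 9921) i)) (@Bool.rec (fun _ => ℕ) rb9922 rb9923 (Nat.ble (nat_lit 9923) i)) (Nat.ble (nat_lit 9922) i)) (@Bool.rec (fun _ => ℕ) (@Bool.rec (fun _ => ℕ) rb9924 rb9925 (Nat.ble (nat_lit 9925) i)) (@Bool.rec (fun _ => ℕ) rb9926 rb9927 (Nat.ble (nat_lit 9927) i)) (Nat.ble (nat_lit 9926) i)) (Nat.ble (nat_lit 9924) i)) (@Bool.rec (fun _ => ℕ) (@Bool.rec (fun _ => ℕ) (@Bool.rec (fun _ => ℕ) rb9928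 rb9929 (Nat.ble (nat_lit 9929) i)) (@Bool.rec (fun _ => ℕ) rb9930 rb9931 (Nat.ble (nat_lit 9931) i)) (Nat.ble (nat_lit 9930) i)) (@Bool.rec (fun _ => ℕ) (@Bool.rec (fun _ => ℕ) rb9932 rb9933 (Nat.ble (nat_lit 9933) i)) (@Bool.rec (fun _ => ℕ) rb9934 rb9935 (Nat.ble (nat_lit 9935) i)) (Nat.ble (nat_lit 9934) i)) (Nat.ble (nat_lit 9932) i)) (Nat.ble (nat_lit 9928) i)) (@Bool.rec (fun _ => ℕ) (@Bool.rec (fun _ => ℕ) (@Bool.rec (fun _ => ℕ) (@Bool.rec (fun _ => ℕ) rb9936 rb9937 (Nat.ble (nat_lit 9937) i)) (@Bool.rec (fun _ => ℕ) rb9938 rb9939 (Nat.ble (nat_lit 9939) i)) (Nat.ble (nat_lit 9938) i)) (@Bool.rec (fun _ => ℕ) (@Bool.rec (fun _ => ℕ) rb9940 rb9941 (Nat.ble (nat_lit 9941) i)) (@Bool.rec (fun _ => ℕ) rb9942 rb9943 (Nat.ble (nat_lit 9943) i)) (Nat.ble (nat_lit 9942) i)) (Nat.ble (nat_lit 9940) i))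 (@Bool.rec (fun _ => ℕ) (@Bool.rec (fun _ => ℕ) (@Bool.rec (fun _ => ℕ) rb9944 rb9945 (Nat.ble (nat_lit 9945) i)) (@Bool.rec (fun _ => ℕ) rb9946 rb9947 (Nat.ble (nat_lit 9947) i)) (Nat.ble (nat_lit 9946) i)) (@Bool.rec (fun _ => ℕ) (@Bool.rec (fun _ => ℕ) rb9948 rb9949 (Nat.ble (nat_lit 9949) i)) (@Bool.rec (fun _ => ℕ) rb9950 rb9951 (Nat.ble (nat_lit 9951) i)) (Nat.ble (nat_lit 9950) i)) (Nat.ble (nat_lit 9948) i)) (Nat.ble (nat_lit 9944) i)) (Nat.ble (nat_lit 9936) i))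

def rowBlk_n0_311 (i : ℕ) : ℕ := (@Bool.rec (fun _ => ℕ) (@Bool.rec (fun _ => ℕ) (@Bool.rec (fun _ => ℕ) (@Bool.rec (fun _ => ℕ) (@Bool.rec (fun _ => ℕ) rb9952 rb9953 (Nat.ble (nat_lit 9953) i)) (@Bool.rec (fun _ => ℕ) rb9954 rb9955 (Nat.ble (nat_lit 9955) i)) (Nat.ble (nat_lit 9954) i)) (@Bool.rec (fun _ => ℕ) (@Bool.rec (fun _ => ℕ) rb9956 rb9957 (Nat.ble (nat_lit 9957) i)) (@Bool.rec (fun _ => ℕ) rb9958 rb9959 (Nat.ble (nat_lit 9959) i)) (Nat.ble (nat_lit 9958) i)) (Nat.ble (nat_lit 9956) i)) (@Bool.rec (fun _ => ℕ) (@Bool.rec (fun _ => ℕ) (@Bool.rec (fun _ => ℕ) rb9960 rb9961 (Nat.ble (nat_lit 9961) i)) (@Bool.rec (fun _ => ℕ) rb9962 rb9963 (Nat.ble (nat_lit 9963) i)) (Nat.ble (nat_lit 9962) i)) (@Bool.rec (fun _ => ℕ) (@Bool.rec (fun _ => ℕ) rb9964 rb9965 (Nat.ble (nat_lit 9965) i)) (@Bool.rec (fun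 _ => ℕ) rb9966 rb9967 (Nat.ble (nat_lit 9967) i)) (Nat.ble (nat_lit 9966) i)) (Nat.ble (nat_lit 9964) i)) (Nat.ble (nat_lit 9960) i)) (@Bool.rec (fun _ => ℕ) (@Bool.rec (fun _ => ℕ) (@Bool.rec (fun _ => ℕ) (@Bool.rec (fun _ => ℕ) rb9968 rb9969 (Nat.ble (nat_lit 9969) i)) (@Bool.rec (fun _ => ℕ) rb9970 rb9971 (Nat.ble (nat_lit 9971) i)) (Nat.ble (nat_lit 9970) i)) (@Bool.rec (fun _ => ℕ) (@Bool.rec (fun _ => ℕ) rb9972 rb9973 (Nat.ble (nat_lit 9973) i)) (@Bool.rec (fun _ => ℕ) rb9974 rb9975 (Nat.ble (nat_lit 9975) i)) (Nat.ble (nat_lit 9974) i)) (Nat.ble (nat_lit 9972) i)) (@Bool.rec (fun _ => ℕ) (@Bool.rec (fun _ => ℕ) (@Bool.rec (fun _ => ℕ) rb9976 rb9977 (Nat.ble (nat_lit 9977) i)) (@Bool.rec (fun _ => ℕ) rb9978 rb9979 (Nat.ble (nat_lit 9979) i)) (Nat.ble (nat_lit 9978) i)) (@Bool.rec (fun _ => ℕ) (@Bool.rec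 (fun _ => ℕ) rb9980 rb9981 (Nat.ble (nat_lit 9981) i)) (@Bool.rec (fun _ => ℕ) rb9982 rb9983 (Nat.ble (nat_lit 9983) i)) (Nat.ble (nat_lit 9982) i)) (Nat.ble (nat_lit 9980) i)) (Nat.ble (nat_lit 9976) i)) (Nat.ble (nat_lit 9968) i))

def rowBlk_n0_312 (i : ℕ) : ℕ := (@Bool.rec (fun _ => ℕ) (@Bool.rec (fun _ => ℕ) (@Bool.rec (fun _ => ℕ) (@Bool.rec (fun _ => ℕ) (@Bool.rec (fun _ => ℕ) rb9984 rb9985 (Nat.ble (nat_lit 9985) i)) (@Bool.rec (fun _ => ℕ) rb9986 rb9987 (Nat.ble (nat_lit 9987) i)) (Nat.ble (nat_lit 9986) i)) (@Bool.rec (fun _ => ℕ) (@Bool.rec (fun _ => ℕ) rb9988 rb9989 (Nat.ble (nat_lit 9989) i)) (@Bool.rec (fun _ => ℕ) rb9990 rb9991 (Nat.ble (nat_lit 9991) i)) (Nat.ble (nat_lit 9990) i)) (Nat.ble (nat_lit 9988) i)) (@Bool.rec (fun _ => ℕ) (@Bool.rec (fun _ => ℕ) (@Bool.rec (fun _ => ℕ) rb9992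 rb9993 (Nat.ble (nat_lit 9993) i)) (@Bool.rec (fun _ => ℕ) rb9994 rb9995 (Nat.ble (nat_lit 9995) i)) (Nat.ble (nat_lit 9994) i)) (@Bool.rec (fun _ => ℕ) (@Bool.rec (fun _ => ℕ) rb9996 rb9997 (Nat.ble (nat_lit 9997) i)) (@Bool.rec (fun _ => ℕ) rb9998 rb9999 (Nat.ble (nat_lit 9999) i)) (Nat.ble (nat_lit 9998) i)) (Nat.ble (nat_lit 9996) i)) (Nat.ble (nat_lit 9992) i)) (@Bool.rec (fun _ => ℕ) (@Bool.rec (fun _ => ℕ) (@Bool.rec (fun _ => ℕ) (@Bool.rec (fun _ => ℕ) rb10000 rb10001 (Nat.ble (nat_lit 10001) i)) (@Bool.rec (fun _ => ℕ) rb10002 rb10003 (Nat.ble (nat_lit 10003) i)) (Nat.ble (nat_lit 10002) i)) (@Bool.rec (fun _ => ℕ) (@Bool.rec (fun _ => ℕ) rb10004 rb10005 (Nat.ble (nat_lit 10005) i)) (@Bool.rec (fun _ => ℕ) rb10006 rb10007 (Nat.ble (nat_lit 10007) i)) (Nat.ble (nat_lit 10006) i)) (Nat.ble (nat_lit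 10004) i)) (@Bool.rec (fun _ => ℕ) (@Bool.rec (fun _ => ℕ) (@Bool.rec (fun _ => ℕ) rb10008 rb10009 (Nat.ble (nat_lit 10009) i)) (@Bool.rec (fun _ => ℕ) rb10010 rb10011 (Nat.ble (nat_lit 10011) i)) (Nat.ble (nat_lit 10010) i)) (@Bool.rec (fun _ => ℕ) (@Bool.rec (fun _ => ℕ) rb10012 rb10013 (Nat.ble (nat_lit 10013) i)) (@Bool.rec (fun _ => ℕ) rb10014 rb10015 (Nat.ble (nat_lit 10015) i)) (Nat.ble (nat_lit 10014) i)) (Nat.ble (nat_lit 10012) i)) (Nat.ble (nat_lit 10008) i)) (Nat.ble (nat_lit 10000) i))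

def rowBlk_n0_313 (i : ℕ) : ℕ := (@Bool.rec (fun _ => ℕ) (@Bool.rec (fun _ => ℕ) (@Bool.rec (fun _ => ℕ) (@Bool.rec (fun _ => ℕ) (@Bool.rec (fun _ => ℕ) rb10016 rb10017 (Nat.ble (nat_lit 10017) i)) (@Bool.rec (fun _ => ℕ) rb10018 rb10019 (Nat.ble (nat_lit 10019) i)) (Nat.ble (nat_lit 10018) i)) (@Bool.rec (fun _ => ℕ) (@Bool.rec (fun _ => ℕ) rb10020 rb10021 (Nat.ble (nat_lit 10021) i)) (@Bool.rec (fun _ => ℕ) rb10022 rb10023 (Nat.ble (nat_lit 10023) i)) (Nat.ble (nat_lit 10022) i)) (Nat.ble (nat_lit 10020) i)) (@Bool.rec (fun _ => ℕ) (@Bool.rec (fun _ => ℕ) (@Bool.rec (fun _ => ℕ) rb10024 rb10025 (Nat.ble (nat_lit 10025) i)) (@Bool.rec (fun _ => ℕ) rb10026 rb10027 (Nat.ble (nat_lit 10027) i)) (Nat.ble (nat_lit 10026) i)) (@Bool.rec (fun _ => ℕ) (@Bool.rec (fun _ => ℕ) rb10028 rb10029 (Nat.ble (nat_lit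 10029) i)) (@Bool.rec (fun _ => ℕ) rb10030 rb10031 (Nat.ble (nat_lit 10031) i)) (Nat.ble (nat_lit 10030) i)) (Nat.ble (nat_lit 10028) i)) (Nat.ble (nat_lit 10024) i)) (@Bool.rec (fun _ => ℕ) (@Bool.rec (fun _ => ℕ) (@Bool.rec (fun _ => ℕ) (@Bool.rec (fun _ => ℕ) rb10032 rb10033 (Nat.ble (nat_lit 10033) i)) (@Bool.rec (fun _ => ℕ) rb10034 rb10035 (Nat.ble (nat_lit 10035) i)) (Nat.ble (nat_lit 10034) i)) (@Bool.rec (fun _ => ℕ) (@Bool.rec (fun _ => ℕ) rb10036 rb10037 (Nat.ble (nat_lit 10037) i)) (@Bool.rec (fun _ => ℕ) rb10038 rb10039 (Nat.ble (nat_lit 10039) i)) (Nat.ble (nat_lit 10038) i)) (Nat.ble (nat_lit 10036) i)) (@Bool.rec (fun _ => ℕ) (@Bool.rec (fun _ => ℕ) (@Bool.rec (fun _ => ℕ) rb10040 rb10041 (Nat.ble (nat_lit 10041) i)) (@Bool.rec (fun _ => ℕ) rb10042 rb10043 (Nat.ble (nat_lit 10043) i)) (Nat.ble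 (nat_lit 10042) i)) (@Bool.rec (fun _ => ℕ) (@Bool.rec (fun _ => ℕ) rb10044 rb10045 (Nat.ble (nat_lit 10045) i)) (@Bool.rec (fun _ => ℕ) rb10046 rb10047 (Nat.ble (nat_lit 10047) i)) (Nat.ble (nat_lit 10046) i)) (Nat.ble (nat_lit 10044) i)) (Nat.ble (nat_lit 10040) i)) (Nat.ble (nat_lit 10032) i))

def rowBlk_n0_314 (i : ℕ) : ℕ := (@Bool.rec (fun _ => ℕ) (@Bool.rec (fun _ => ℕ) (@Bool.rec (fun _ => ℕ) (@Bool.rec (fun _ => ℕ) (@Bool.rec (fun _ => ℕ) rb10048 rb10049 (Nat.ble (nat_lit 10049) i)) (@Bool.rec (fun _ => ℕ) rb10050 rb10051 (Nat.ble (nat_lit 10051) i)) (Nat.ble (nat_lit 10050) i)) (@Bool.rec (fun _ => ℕ) (@Bool.rec (fun _ => ℕ) rb10052 rb10053 (Nat.ble (nat_lit 10053) i)) (@Bool.rec (fun _ => ℕ) rb10054 rb10055 (Nat.ble (nat_lit 10055) i)) (Nat.ble (nat_lit 10054) i)) (Nat.ble (nat_lit 10052) i))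 (@Bool.rec (fun _ => ℕ) (@Bool.rec (fun _ => ℕ) (@Bool.rec (fun _ => ℕ) rb10056 rb10057 (Nat.ble (nat_lit 10057) i)) (@Bool.rec (fun _ => ℕ) rb10058 rb10059 (Nat.ble (nat_lit 10059) i)) (Nat.ble (nat_lit 10058) i)) (@Bool.rec (fun _ => ℕ) (@Bool.rec (fun _ => ℕ) rb10060 rb10061 (Nat.ble (nat_lit 10061) i)) (@Bool.rec (fun _ => ℕ) rb10062 rb10063 (Nat.ble (nat_lit 10063) i)) (Nat.ble (nat_lit 10062) i)) (Nat.ble (nat_lit 10060) i)) (Nat.ble (nat_lit 10056) i)) (@Bool.rec (fun _ => ℕ) (@Bool.rec (fun _ => ℕ) (@Bool.rec (fun _ => ℕ) (@Bool.rec (fun _ => ℕ) rb10064 rb10065 (Nat.ble (nat_lit 10065) i)) (@Bool.rec (fun _ => ℕ) rb10066 rb10067 (Nat.ble (nat_lit 10067) i)) (Nat.ble (nat_lit 10066) i)) (@Bool.rec (fun _ => ℕ) (@Bool.rec (fun _ => ℕ) rb10068 rb10069 (Nat.ble (nat_lit 10069) i)) (@Bool.rec (fun _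 => ℕ) rb10070 rb10071 (Nat.ble (nat_lit 10071) i)) (Nat.ble (nat_lit 10070) i)) (Nat.ble (nat_lit 10068) i)) (@Bool.rec (fun _ => ℕ) (@Bool.rec (fun _ => ℕ) (@Bool.rec (fun _ => ℕ) rb10072 rb10073 (Nat.ble (nat_lit 10073) i)) (@Bool.rec (fun _ => ℕ) rb10074 rb10075 (Nat.ble (nat_lit 10075) i)) (Nat.ble (nat_lit 10074) i)) (@Bool.rec (fun _ => ℕ) (@Bool.rec (fun _ => ℕ) rb10076 rb10077 (Nat.ble (nat_lit 10077) i)) (@Bool.rec (fun _ => ℕ) rb10078 rb10079 (Nat.ble (nat_lit 10079) i)) (Nat.ble (nat_lit 10078) i)) (Nat.ble (nat_lit 10076) i)) (Nat.ble (nat_lit 10072) i)) (Nat.ble (nat_lit 10064) i))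

def rowBlk_n0_315 (i : ℕ) : ℕ := (@Bool.rec (fun _ => ℕ) (@Bool.rec (fun _ => ℕ) (@Bool.rec (fun _ => ℕ) (@Bool.rec (fun _ => ℕ) (@Bool.rec (fun _ => ℕ) rb10080 rb10081 (Nat.ble (nat_lit 10081) i)) (@Bool.rec (fun _ => ℕ) rb10082 rb10083 (Nat.ble (nat_lit 10083) i)) (Nat.ble (nat_lit 10082) i)) (@Bool.rec (fun _ => ℕ) (@Bool.rec (fun _ => ℕ) rb10084 rb10085 (Nat.ble (nat_lit 10085) i)) (@Bool.rec (fun _ => ℕ) rb10086 rb10087 (Nat.ble (nat_lit 10087) i)) (Nat.ble (nat_lit 10086) i)) (Nat.ble (nat_lit 10084) i)) (@Bool.rec (fun _ => ℕ) (@Bool.rec (fun _ => ℕ) (@Bool.rec (fun _ => ℕ) rb10088 rb10089 (Nat.ble (nat_lit 10089) i)) (@Bool.rec (fun _ => ℕ) rb10090 rb10091 (Nat.ble (nat_lit 10091) i)) (Nat.ble (nat_lit 10090) i)) (@Bool.rec (fun _ => ℕ) (@Bool.rec (fun _ => ℕ) rb10092 rb10093 (Nat.ble (nat_lit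 10093) i)) (@Bool.rec (fun _ => ℕ) rb10094 rb10095 (Nat.ble (nat_lit 10095) i)) (Nat.ble (nat_lit 10094) i)) (Nat.ble (nat_lit 10092) i)) (Nat.ble (nat_lit 10088) i)) (@Bool.rec (fun _ => ℕ) (@Bool.rec (fun _ => ℕ) (@Bool.rec (fun _ => ℕ) (@Bool.rec (fun _ => ℕ) rb10096 rb10097 (Nat.ble (nat_lit 10097) i)) (@Bool.rec (fun _ => ℕ) rb10098 rb10099 (Nat.ble (nat_lit 10099) i)) (Nat.ble (nat_lit 10098) i)) (@Bool.rec (fun _ => ℕ) (@Bool.rec (fun _ => ℕ) rb10100 rb10101 (Nat.ble (nat_lit 10101) i)) (@Bool.rec (fun _ => ℕ) rb10102 rb10103 (Nat.ble (nat_lit 10103) i)) (Nat.ble (nat_lit 10102) i)) (Nat.ble (nat_lit 10100) i)) (@Bool.rec (fun _ => ℕ) (@Bool.rec (fun _ => ℕ) (@Bool.rec (fun _ => ℕ) rb10104 rb10105 (Nat.ble (nat_lit 10105) i)) (@Bool.rec (fun _ => ℕ) rb10106 rb10107 (Nat.ble (nat_lit 10107) i)) (Nat.ble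 (nat_lit 10106) i)) (@Bool.rec (fun _ => ℕ) (@Bool.rec (fun _ => ℕ) rb10108 rb10109 (Nat.ble (nat_lit 10109) i)) (@Bool.rec (fun _ => ℕ) rb10110 rb10111 (Nat.ble (nat_lit 10111) i)) (Nat.ble (nat_lit 10110) i)) (Nat.ble (nat_lit 10108) i)) (Nat.ble (nat_lit 10104) i)) (Nat.ble (nat_lit 10096) i))

def rowBlk_n0_316 (i : ℕ) : ℕ := (@Bool.rec (fun _ => ℕ) (@Bool.rec (fun _ => ℕ) (@Bool.rec (fun _ => ℕ) (@Bool.rec (fun _ => ℕ) (@Bool.rec (fun _ => ℕ) rb10112 rb10113 (Nat.ble (nat_lit 10113) i)) (@Bool.rec (fun _ => ℕ) rb10114 rb10115 (Nat.ble (nat_lit 10115) i)) (Nat.ble (nat_lit 10114) i)) (@Bool.rec (fun _ => ℕ) (@Bool.rec (fun _ => ℕ) rb10116 rb10117 (Nat.ble (nat_lit 10117) i)) (@Bool.rec (fun _ => ℕ) rb10118 rb10119 (Nat.ble (nat_lit 10119) i)) (Nat.ble (nat_lit 10118) i)) (Nat.ble (nat_lit 10116) i))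 (@Bool.rec (fun _ => ℕ) (@Bool.rec (fun _ => ℕ) (@Bool.rec (fun _ => ℕ) rb10120 rb10121 (Nat.ble (nat_lit 10121) i)) (@Bool.rec (fun _ => ℕ) rb10122 rb10123 (Nat.ble (nat_lit 10123) i)) (Nat.ble (nat_lit 10122) i)) (@Bool.rec (fun _ => ℕ) (@Bool.rec (fun _ => ℕ) rb10124 rb10125 (Nat.ble (nat_lit 10125) i)) (@Bool.rec (fun _ => ℕ) rb10126 rb10127 (Nat.ble (nat_lit 10127) i)) (Nat.ble (nat_lit 10126) i)) (Nat.ble (nat_lit 10124) i)) (Nat.ble (nat_lit 10120) i)) (@Bool.rec (fun _ => ℕ) (@Bool.rec (fun _ => ℕ) (@Bool.rec (fun _ => ℕ) (@Bool.rec (fun _ => ℕ) rb10128 rb10129 (Nat.ble (nat_lit 10129) i)) (@Bool.rec (fun _ => ℕ) rb10130 rb10131 (Nat.ble (nat_lit 10131) i)) (Nat.ble (nat_lit 10130) i)) (@Bool.rec (fun _ => ℕ) (@Bool.rec (fun _ => ℕ) rb10132 rb10133 (Nat.ble (nat_lit 10133) i)) (@Bool.rec (fun _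 => ℕ) rb10134 rb10135 (Nat.ble (nat_lit 10135) i)) (Nat.ble (nat_lit 10134) i)) (Nat.ble (nat_lit 10132) i)) (@Bool.rec (fun _ => ℕ) (@Bool.rec (fun _ => ℕ) (@Bool.rec (fun _ => ℕ) rb10136 rb10137 (Nat.ble (nat_lit 10137) i)) (@Bool.rec (fun _ => ℕ) rb10138 rb10139 (Nat.ble (nat_lit 10139) i)) (Nat.ble (nat_lit 10138) i)) (@Bool.rec (fun _ => ℕ) (@Bool.rec (fun _ => ℕ) rb10140 rb10141 (Nat.ble (nat_lit 10141) i)) (@Bool.rec (fun _ => ℕ) rb10142 rb10143 (Nat.ble (nat_lit 10143) i)) (Nat.ble (nat_lit 10142) i)) (Nat.ble (nat_lit 10140) i)) (Nat.ble (nat_lit 10136) i)) (Nat.ble (nat_lit 10128) i))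

def rowBlk_n0_317 (i : ℕ) : ℕ := (@Bool.rec (fun _ => ℕ) (@Bool.rec (fun _ => ℕ) (@Bool.rec (fun _ => ℕ) (@Bool.rec (fun _ => ℕ) (@Bool.rec (fun _ => ℕ) rb10144 rb10145 (Nat.ble (nat_lit 10145) i)) (@Bool.rec (fun _ => ℕ) rb10146 rb10147 (Nat.ble (nat_lit 10147) i)) (Nat.ble (nat_lit 10146) i)) (@Bool.rec (fun _ => ℕ) (@Bool.rec (fun _ => ℕ) rb10148 rb10149 (Nat.ble (nat_lit 10149) i)) (@Bool.rec (fun _ => ℕ) rb10150 rb10151 (Nat.ble (nat_lit 10151) i)) (Nat.ble (nat_lit 10150) i)) (Nat.ble (nat_lit 10148) i)) (@Bool.rec (fun _ => ℕ) (@Bool.rec (fun _ => ℕ) (@Bool.rec (fun _ => ℕ) rb10152 rb10153 (Nat.ble (nat_lit 10153) i)) (@Bool.rec (fun _ => ℕ) rb10154 rb10155 (Nat.ble (nat_lit 10155) i)) (Nat.ble (nat_lit 10154) i)) (@Bool.rec (fun _ => ℕ) (@Bool.rec (fun _ => ℕ) rb10156 rb10157 (Nat.ble (nat_lit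 10157) i)) (@Bool.rec (fun _ => ℕ) rb10158 rb10159 (Nat.ble (nat_lit 10159) i)) (Nat.ble (nat_lit 10158) i)) (Nat.ble (nat_lit 10156) i)) (Nat.ble (nat_lit 10152) i)) (@Bool.rec (fun _ => ℕ) (@Bool.rec (fun _ => ℕ) (@Bool.rec (fun _ => ℕ) (@Bool.rec (fun _ => ℕ) rb10160 rb10161 (Nat.ble (nat_lit 10161) i)) (@Bool.rec (fun _ => ℕ) rb10162 rb10163 (Nat.ble (nat_lit 10163) i)) (Nat.ble (nat_lit 10162) i)) (@Bool.rec (fun _ => ℕ) (@Bool.rec (fun _ => ℕ) rb10164 rb10165 (Nat.ble (nat_lit 10165) i)) (@Bool.rec (fun _ => ℕ) rb10166 rb10167 (Nat.ble (nat_lit 10167) i)) (Nat.ble (nat_lit 10166) i)) (Nat.ble (nat_lit 10164) i)) (@Bool.rec (fun _ => ℕ) (@Bool.rec (fun _ => ℕ) (@Bool.rec (fun _ => ℕ) rb10168 rb10169 (Nat.ble (nat_lit 10169) i)) (@Bool.rec (fun _ => ℕ) rb10170 rb10171 (Nat.ble (nat_lit 10171) i)) (Nat.ble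 (nat_lit 10170) i)) (@Bool.rec (fun _ => ℕ) (@Bool.rec (fun _ => ℕ) rb10172 rb10173 (Nat.ble (nat_lit 10173) i)) (@Bool.rec (fun _ => ℕ) rb10174 rb10175 (Nat.ble (nat_lit 10175) i)) (Nat.ble (nat_lit 10174) i)) (Nat.ble (nat_lit 10172) i)) (Nat.ble (nat_lit 10168) i)) (Nat.ble (nat_lit 10160) i))

def rowBlk_n0_318 (i : ℕ) : ℕ := (@Bool.rec (fun _ => ℕ) (@Bool.rec (fun _ => ℕ) (@Bool.rec (fun _ => ℕ) (@Bool.rec (fun _ => ℕ) (@Bool.rec (fun _ => ℕ) rb10176 rb10177 (Nat.ble (nat_lit 10177) i)) (@Bool.rec (fun _ => ℕ) rb10178 rb10179 (Nat.ble (nat_lit 10179) i)) (Nat.ble (nat_lit 10178) i)) (@Bool.rec (fun _ => ℕ) (@Bool.rec (fun _ => ℕ) rb10180 rb10181 (Nat.ble (nat_lit 10181) i)) (@Bool.rec (fun _ => ℕ) rb10182 rb10183 (Nat.ble (nat_lit 10183) i)) (Nat.ble (nat_lit 10182) i)) (Nat.ble (nat_lit 10180) i))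 (@Bool.rec (fun _ => ℕ) (@Bool.rec (fun _ => ℕ) (@Bool.rec (fun _ => ℕ) rb10184 rb10185 (Nat.ble (nat_lit 10185) i)) (@Bool.rec (fun _ => ℕ) rb10186 rb10187 (Nat.ble (nat_lit 10187) i)) (Nat.ble (nat_lit 10186) i)) (@Bool.rec (fun _ => ℕ) (@Bool.rec (fun _ => ℕ) rb10188 rb10189 (Nat.ble (nat_lit 10189) i)) (@Bool.rec (fun _ => ℕ) rb10190 rb10191 (Nat.ble (nat_lit 10191) i)) (Nat.ble (nat_lit 10190) i)) (Nat.ble (nat_lit 10188) i)) (Nat.ble (nat_lit 10184) i)) (@Bool.rec (fun _ => ℕ) (@Bool.rec (fun _ => ℕ) (@Bool.rec (fun _ => ℕ) (@Bool.rec (fun _ => ℕ) rb10192 rb10193 (Nat.ble (nat_lit 10193) i)) (@Bool.rec (fun _ => ℕ) rb10194 rb10195 (Nat.ble (nat_lit 10195) i)) (Nat.ble (nat_lit 10194) i)) (@Bool.rec (fun _ => ℕ) (@Bool.rec (fun _ => ℕ) rb10196 rb10197 (Nat.ble (nat_lit 10197) i)) (@Bool.rec (fun _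 => ℕ) rb10198 rb10199 (Nat.ble (nat_lit 10199) i)) (Nat.ble (nat_lit 10198) i)) (Nat.ble (nat_lit 10196) i)) (@Bool.rec (fun _ => ℕ) (@Bool.rec (fun _ => ℕ) (@Bool.rec (fun _ => ℕ) rb10200 rb10201 (Nat.ble (nat_lit 10201) i)) (@Bool.rec (fun _ => ℕ) rb10202 rb10203 (Nat.ble (nat_lit 10203) i)) (Nat.ble (nat_lit 10202) i)) (@Bool.rec (fun _ => ℕ) (@Bool.rec (fun _ => ℕ) rb10204 rb10205 (Nat.ble (nat_lit 10205) i)) (@Bool.rec (fun _ => ℕ) rb10206 rb10207 (Nat.ble (nat_lit 10207) i)) (Nat.ble (nat_lit 10206) i)) (Nat.ble (nat_lit 10204) i)) (Nat.ble (nat_lit 10200) i)) (Nat.ble (nat_lit 10192) i))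

def rowBlk_n0_319 (i : ℕ) : ℕ := (@Bool.rec (fun _ => ℕ) (@Bool.rec (fun _ => ℕ) (@Bool.rec (fun _ => ℕ) (@Bool.rec (fun _ => ℕ) (@Bool.rec (fun _ => ℕ) rb10208 rb10209 (Nat.ble (nat_lit 10209) i)) (@Bool.rec (fun _ => ℕ) rb10210 rb10211 (Nat.ble (nat_lit 10211) i)) (Nat.ble (nat_lit 10210) i)) (@Bool.rec (fun _ => ℕ) (@Bool.rec (fun _ => ℕ) rb10212 rb10213 (Nat.ble (nat_lit 10213) i)) (@Bool.rec (fun _ => ℕ) rb10214 rb10215 (Nat.ble (nat_lit 10215) i)) (Nat.ble (nat_lit 10214) i)) (Nat.ble (nat_lit 10212) i)) (@Bool.rec (fun _ => ℕ) (@Bool.rec (fun _ => ℕ) (@Bool.rec (fun _ => ℕ) rb10216 rb10217 (Nat.ble (nat_lit 10217) i)) (@Bool.rec (fun _ => ℕ) rb10218 rb10219 (Nat.ble (nat_lit 10219) i)) (Nat.ble (nat_lit 10218) i)) (@Bool.rec (fun _ => ℕ) (@Bool.rec (fun _ => ℕ) rb10220 rb10221 (Nat.ble (nat_lit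 10221) i)) (@Bool.rec (fun _ => ℕ) rb10222 rb10223 (Nat.ble (nat_lit 10223) i)) (Nat.ble (nat_lit 10222) i)) (Nat.ble (nat_lit 10220) i)) (Nat.ble (nat_lit 10216) i)) (@Bool.rec (fun _ => ℕ) (@Bool.rec (fun _ => ℕ) (@Bool.rec (fun _ => ℕ) (@Bool.rec (fun _ => ℕ) rb10224 rb10225 (Nat.ble (nat_lit 10225) i)) (@Bool.rec (fun _ => ℕ) rb10226 rb10227 (Nat.ble (nat_lit 10227) i)) (Nat.ble (nat_lit 10226) i)) (@Bool.rec (fun _ => ℕ) (@Bool.rec (fun _ => ℕ) rb10228 rb10229 (Nat.ble (nat_lit 10229) i)) (@Bool.rec (fun _ => ℕ) rb10230 rb10231 (Nat.ble (nat_lit 10231) i)) (Nat.ble (nat_lit 10230) i)) (Nat.ble (nat_lit 10228) i)) (@Bool.rec (fun _ => ℕ) (@Bool.rec (fun _ => ℕ) (@Bool.rec (fun _ => ℕ) rb10232 rb10233 (Nat.ble (nat_lit 10233) i)) (@Bool.rec (fun _ => ℕ) rb10234 rb10235 (Nat.ble (nat_lit 10235) i)) (Nat.ble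 (nat_lit 10234) i)) (@Bool.rec (fun _ => ℕ) (@Bool.rec (fun _ => ℕ) rb10236 rb10237 (Nat.ble (nat_lit 10237) i)) (@Bool.rec (fun _ => ℕ) rb10238 rb10239 (Nat.ble (nat_lit 10239) i)) (Nat.ble (nat_lit 10238) i)) (Nat.ble (nat_lit 10236) i)) (Nat.ble (nat_lit 10232) i)) (Nat.ble (nat_lit 10224) i))

def rowBlk_n0_320 (i : ℕ) : ℕ := (@Bool.rec (fun _ => ℕ) (@Bool.rec (fun _ => ℕ) (@Bool.rec (fun _ => ℕ) (@Bool.rec (fun _ => ℕ) (@Bool.rec (fun _ => ℕ) rb10240 rb10241 (Nat.ble (nat_lit 10241) i)) (@Bool.rec (fun _ => ℕ) rb10242 rb10243 (Nat.ble (nat_lit 10243) i)) (Nat.ble (nat_lit 10242) i)) (@Bool.rec (fun _ => ℕ) (@Bool.rec (fun _ => ℕ) rb10244 rb10245 (Nat.ble (nat_lit 10245) i)) (@Bool.rec (fun _ => ℕ) rb10246 rb10247 (Nat.ble (nat_lit 10247) i)) (Nat.ble (nat_lit 10246) i)) (Nat.ble (nat_lit 10244) i))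 (@Bool.rec (fun _ => ℕ) (@Bool.rec (fun _ => ℕ) (@Bool.rec (fun _ => ℕ) rb10248 rb10249 (Nat.ble (nat_lit 10249) i)) (@Bool.rec (fun _ => ℕ) rb10250 rb10251 (Nat.ble (nat_lit 10251) i)) (Nat.ble (nat_lit 10250) i)) (@Bool.rec (fun _ => ℕ) (@Bool.rec (fun _ => ℕ) rb10252 rb10253 (Nat.ble (nat_lit 10253) i)) (@Bool.rec (fun _ => ℕ) rb10254 rb10255 (Nat.ble (nat_lit 10255) i)) (Nat.ble (nat_lit 10254) i)) (Nat.ble (nat_lit 10252) i)) (Nat.ble (nat_lit 10248) i)) (@Bool.rec (fun _ => ℕ) (@Bool.rec (fun _ => ℕ) (@Bool.rec (fun _ => ℕ) (@Bool.rec (fun _ => ℕ) rb10256 rb10257 (Nat.ble (nat_lit 10257) i)) (@Bool.rec (fun _ => ℕ) rb10258 rb10259 (Nat.ble (nat_lit 10259) i)) (Nat.ble (nat_lit 10258) i)) (@Bool.rec (fun _ => ℕ) (@Bool.rec (fun _ => ℕ) rb10260 rb10261 (Nat.ble (nat_lit 10261) i)) (@Bool.rec (fun _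 => ℕ) rb10262 rb10263 (Nat.ble (nat_lit 10263) i)) (Nat.ble (nat_lit 10262) i)) (Nat.ble (nat_lit 10260) i)) (@Bool.rec (fun _ => ℕ) (@Bool.rec (fun _ => ℕ) (@Bool.rec (fun _ => ℕ) rb10264 rb10265 (Nat.ble (nat_lit 10265) i)) (@Bool.rec (fun _ => ℕ) rb10266 rb10267 (Nat.ble (nat_lit 10267) i)) (Nat.ble (nat_lit 10266) i)) (@Bool.rec (fun _ => ℕ) (@Bool.rec (fun _ => ℕ) rb10268 rb10269 (Nat.ble (nat_lit 10269) i)) (@Bool.rec (fun _ => ℕ) rb10270 rb10271 (Nat.ble (nat_lit 10271) i)) (Nat.ble (nat_lit 10270) i)) (Nat.ble (nat_lit 10268) i)) (Nat.ble (nat_lit 10264) i)) (Nat.ble (nat_lit 10256) i))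

def rowBlk_n0_321 (i : ℕ) : ℕ := (@Bool.rec (fun _ => ℕ) (@Bool.rec (fun _ => ℕ) (@Bool.rec (fun _ => ℕ) (@Bool.rec (fun _ => ℕ) (@Bool.rec (fun _ => ℕ) rb10272 rb10273 (Nat.ble (nat_lit 10273) i)) (@Bool.rec (fun _ => ℕ) rb10274 rb10275 (Nat.ble (nat_lit 10275) i)) (Nat.ble (nat_lit 10274) i)) (@Bool.rec (fun _ => ℕ) (@Bool.rec (fun _ => ℕ) rb10276 rb10277 (Nat.ble (nat_lit 10277) i)) (@Bool.rec (fun _ => ℕ) rb10278 rb10279 (Nat.ble (nat_lit 10279) i)) (Nat.ble (nat_lit 10278) i)) (Nat.ble (nat_lit 10276) i)) (@Bool.rec (fun _ => ℕ) (@Bool.rec (fun _ => ℕ) (@Bool.rec (fun _ => ℕ) rb10280 rb10281 (Nat.ble (nat_lit 10281) i)) (@Bool.rec (fun _ => ℕ) rb10282 rb10283 (Nat.ble (nat_lit 10283) i)) (Nat.ble (nat_lit 10282) i)) (@Bool.rec (fun _ => ℕ) (@Bool.rec (fun _ => ℕ) rb10284 rb10285 (Nat.ble (nat_lit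 10285) i)) (@Bool.rec (fun _ => ℕ) rb10286 rb10287 (Nat.ble (nat_lit 10287) i)) (Nat.ble (nat_lit 10286) i)) (Nat.ble (nat_lit 10284) i)) (Nat.ble (nat_lit 10280) i)) (@Bool.rec (fun _ => ℕ) (@Bool.rec (fun _ => ℕ) (@Bool.rec (fun _ => ℕ) (@Bool.rec (fun _ => ℕ) rb10288 rb10289 (Nat.ble (nat_lit 10289) i)) (@Bool.rec (fun _ => ℕ) rb10290 rb10291 (Nat.ble (nat_lit 10291) i)) (Nat.ble (nat_lit 10290) i)) (@Bool.rec (fun _ => ℕ) (@Bool.rec (fun _ => ℕ) rb10292 rb10293 (Nat.ble (nat_lit 10293) i)) (@Bool.rec (fun _ => ℕ) rb10294 rb10295 (Nat.ble (nat_lit 10295) i)) (Nat.ble (nat_lit 10294) i)) (Nat.ble (nat_lit 10292) i)) (@Bool.rec (fun _ => ℕ) (@Bool.rec (fun _ => ℕ) (@Bool.rec (fun _ => ℕ) rb10296 rb10297 (Nat.ble (nat_lit 10297) i)) (@Bool.rec (fun _ => ℕ) rb10298 rb10299 (Nat.ble (nat_lit 10299) i)) (Nat.ble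 (nat_lit 10298) i)) (@Bool.rec (fun _ => ℕ) (@Bool.rec (fun _ => ℕ) rb10300 rb10301 (Nat.ble (nat_lit 10301) i)) (@Bool.rec (fun _ => ℕ) rb10302 rb10303 (Nat.ble (nat_lit 10303) i)) (Nat.ble (nat_lit 10302) i)) (Nat.ble (nat_lit 10300) i)) (Nat.ble (nat_lit 10296) i)) (Nat.ble (nat_lit 10288) i))

def rowBlk_n0_322 (i : ℕ) : ℕ := (@Bool.rec (fun _ => ℕ) (@Bool.rec (fun _ => ℕ) (@Bool.rec (fun _ => ℕ) (@Bool.rec (fun _ => ℕ) (@Bool.rec (fun _ => ℕ) rb10304 rb10305 (Nat.ble (nat_lit 10305) i)) (@Bool.rec (fun _ => ℕ) rb10306 rb10307 (Nat.ble (nat_lit 10307) i)) (Nat.ble (nat_lit 10306) i)) (@Bool.rec (fun _ => ℕ) (@Bool.rec (fun _ => ℕ) rb10308 rb10309 (Nat.ble (nat_lit 10309) i)) (@Bool.rec (fun _ => ℕ) rb10310 rb10311 (Nat.ble (nat_lit 10311) i)) (Nat.ble (nat_lit 10310) i)) (Nat.ble (nat_lit 10308) i))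 (@Bool.rec (fun _ => ℕ) (@Bool.rec (fun _ => ℕ) (@Bool.rec (fun _ => ℕ) rb10312 rb10313 (Nat.ble (nat_lit 10313) i)) (@Bool.rec (fun _ => ℕ) rb10314 rb10315 (Nat.ble (nat_lit 10315) i)) (Nat.ble (nat_lit 10314) i)) (@Bool.rec (fun _ => ℕ) (@Bool.rec (fun _ => ℕ) rb10316 rb10317 (Nat.ble (nat_lit 10317) i)) (@Bool.rec (fun _ => ℕ) rb10318 rb10319 (Nat.ble (nat_lit 10319) i)) (Nat.ble (nat_lit 10318) i)) (Nat.ble (nat_lit 10316) i)) (Nat.ble (nat_lit 10312) i)) (@Bool.rec (fun _ => ℕ) (@Bool.rec (fun _ => ℕ) (@Bool.rec (fun _ => ℕ) (@Bool.rec (fun _ => ℕ) rb10320 rb10321 (Nat.ble (nat_lit 10321) i)) (@Bool.rec (fun _ => ℕ) rb10322 rb10323 (Nat.ble (nat_lit 10323) i)) (Nat.ble (nat_lit 10322) i)) (@Bool.rec (fun _ => ℕ) (@Bool.rec (fun _ => ℕ) rb10324 rb10325 (Nat.ble (nat_lit 10325) i)) (@Bool.rec (fun _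 => ℕ) rb10326 rb10327 (Nat.ble (nat_lit 10327) i)) (Nat.ble (nat_lit 10326) i)) (Nat.ble (nat_lit 10324) i)) (@Bool.rec (fun _ => ℕ) (@Bool.rec (fun _ => ℕ) (@Bool.rec (fun _ => ℕ) rb10328 rb10329 (Nat.ble (nat_lit 10329) i)) (@Bool.rec (fun _ => ℕ) rb10330 rb10331 (Nat.ble (nat_lit 10331) i)) (Nat.ble (nat_lit 10330) i)) (@Bool.rec (fun _ => ℕ) (@Bool.rec (fun _ => ℕ) rb10332 rb10333 (Nat.ble (nat_lit 10333) i)) (@Bool.rec (fun _ => ℕ) rb10334 rb10335 (Nat.ble (nat_lit 10335) i)) (Nat.ble (nat_lit 10334) i)) (Nat.ble (nat_lit 10332) i)) (Nat.ble (nat_lit 10328) i)) (Nat.ble (nat_lit 10320) i))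

def rowBlk_n0_323 (i : ℕ) : ℕ := (@Bool.rec (fun _ => ℕ) (@Bool.rec (fun _ => ℕ) (@Bool.rec (fun _ => ℕ) (@Bool.rec (fun _ => ℕ) (@Bool.rec (fun _ => ℕ) rb10336 rb10337 (Nat.ble (nat_lit 10337) i)) (@Bool.rec (fun _ => ℕ) rb10338 rb10339 (Nat.ble (nat_lit 10339) i)) (Nat.ble (nat_lit 10338) i)) (@Bool.rec (fun _ => ℕ) (@Bool.rec (fun _ => ℕ) rb10340 rb10341 (Nat.ble (nat_lit 10341) i)) (@Bool.rec (fun _ => ℕ) rb10342 rb10343 (Nat.ble (nat_lit 10343) i)) (Nat.ble (nat_lit 10342) i)) (Nat.ble (nat_lit 10340) i)) (@Bool.rec (fun _ => ℕ) (@Bool.rec (fun _ => ℕ) (@Bool.rec (fun _ => ℕ) rb10344 rb10345 (Nat.ble (nat_lit 10345) i)) (@Bool.rec (fun _ => ℕ) rb10346 rb10347 (Nat.ble (nat_lit 10347) i)) (Nat.ble (nat_lit 10346) i)) (@Bool.rec (fun _ => ℕ) (@Bool.rec (fun _ => ℕ) rb10348 rb10349 (Nat.ble (nat_lit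 10349) i)) (@Bool.rec (fun _ => ℕ) rb10350 rb10351 (Nat.ble (nat_lit 10351) i)) (Nat.ble (nat_lit 10350) i)) (Nat.ble (nat_lit 10348) i)) (Nat.ble (nat_lit 10344) i)) (@Bool.rec (fun _ => ℕ) (@Bool.rec (fun _ => ℕ) (@Bool.rec (fun _ => ℕ) (@Bool.rec (fun _ => ℕ) rb10352 rb10353 (Nat.ble (nat_lit 10353) i)) (@Bool.rec (fun _ => ℕ) rb10354 rb10355 (Nat.ble (nat_lit 10355) i)) (Nat.ble (nat_lit 10354) i)) (@Bool.rec (fun _ => ℕ) (@Bool.rec (fun _ => ℕ) rb10356 rb10357 (Nat.ble (nat_lit 10357) i)) (@Bool.rec (fun _ => ℕ) rb10358 rb10359 (Nat.ble (nat_lit 10359) i)) (Nat.ble (nat_lit 10358) i)) (Nat.ble (nat_lit 10356) i)) (@Bool.rec (fun _ => ℕ) (@Bool.rec (fun _ => ℕ) (@Bool.rec (fun _ => ℕ) rb10360 rb10361 (Nat.ble (nat_lit 10361) i)) (@Bool.rec (fun _ => ℕ) rb10362 rb10363 (Nat.ble (nat_lit 10363) i)) (Nat.ble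 (nat_lit 10362) i)) (@Bool.rec (fun _ => ℕ) (@Bool.rec (fun _ => ℕ) rb10364 rb10365 (Nat.ble (nat_lit 10365) i)) (@Bool.rec (fun _ => ℕ) rb10366 rb10367 (Nat.ble (nat_lit 10367) i)) (Nat.ble (nat_lit 10366) i)) (Nat.ble (nat_lit 10364) i)) (Nat.ble (nat_lit 10360) i)) (Nat.ble (nat_lit 10352) i))

def rowBlk_n0_324 (i : ℕ) : ℕ := (@Bool.rec (fun _ => ℕ) (@Bool.rec (fun _ => ℕ) (@Bool.rec (fun _ => ℕ) (@Bool.rec (fun _ => ℕ) (@Bool.rec (fun _ => ℕ) rb10368 rb10369 (Nat.ble (nat_lit 10369) i)) (@Bool.rec (fun _ => ℕ) rb10370 rb10371 (Nat.ble (nat_lit 10371) i)) (Nat.ble (nat_lit 10370) i)) (@Bool.rec (fun _ => ℕ) (@Bool.rec (fun _ => ℕ) rb10372 rb10373 (Nat.ble (nat_lit 10373) i)) (@Bool.rec (fun _ => ℕ) rb10374 rb10375 (Nat.ble (nat_lit 10375) i)) (Nat.ble (nat_lit 10374) i)) (Nat.ble (nat_lit 10372) i))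 (@Bool.rec (fun _ => ℕ) (@Bool.rec (fun _ => ℕ) (@Bool.rec (fun _ => ℕ) rb10376 rb10377 (Nat.ble (nat_lit 10377) i)) (@Bool.rec (fun _ => ℕ) rb10378 rb10379 (Nat.ble (nat_lit 10379) i)) (Nat.ble (nat_lit 10378) i)) (@Bool.rec (fun _ => ℕ) (@Bool.rec (fun _ => ℕ) rb10380 rb10381 (Nat.ble (nat_lit 10381) i)) (@Bool.rec (fun _ => ℕ) rb10382 rb10383 (Nat.ble (nat_lit 10383) i)) (Nat.ble (nat_lit 10382) i)) (Nat.ble (nat_lit 10380) i)) (Nat.ble (nat_lit 10376) i)) (@Bool.rec (fun _ => ℕ) (@Bool.rec (fun _ => ℕ) (@Bool.rec (fun _ => ℕ) (@Bool.rec (fun _ => ℕ) rb10384 rb10385 (Nat.ble (nat_lit 10385) i)) (@Bool.rec (fun _ => ℕ) rb10386 rb10387 (Nat.ble (nat_lit 10387) i)) (Nat.ble (nat_lit 10386) i)) (@Bool.rec (fun _ => ℕ) (@Bool.rec (fun _ => ℕ) rb10388 rb10389 (Nat.ble (nat_lit 10389) i)) (@Bool.rec (fun _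 => ℕ) rb10390 rb10391 (Nat.ble (nat_lit 10391) i)) (Nat.ble (nat_lit 10390) i)) (Nat.ble (nat_lit 10388) i)) (@Bool.rec (fun _ => ℕ) (@Bool.rec (fun _ => ℕ) (@Bool.rec (fun _ => ℕ) rb10392 rb10393 (Nat.ble (nat_lit 10393) i)) (@Bool.rec (fun _ => ℕ) rb10394 rb10395 (Nat.ble (nat_lit 10395) i)) (Nat.ble (nat_lit 10394) i)) (@Bool.rec (fun _ => ℕ) (@Bool.rec (fun _ => ℕ) rb10396 rb10397 (Nat.ble (nat_lit 10397) i)) (@Bool.rec (fun _ => ℕ) rb10398 rb10399 (Nat.ble (nat_lit 10399) i)) (Nat.ble (nat_lit 10398) i)) (Nat.ble (nat_lit 10396) i)) (Nat.ble (nat_lit 10392) i)) (Nat.ble (nat_lit 10384) i))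

def rowBlk_n0_325 (i : ℕ) : ℕ := (@Bool.rec (fun _ => ℕ) (@Bool.rec (fun _ => ℕ) (@Bool.rec (fun _ => ℕ) (@Bool.rec (fun _ => ℕ) (@Bool.rec (fun _ => ℕ) rb10400 rb10401 (Nat.ble (nat_lit 10401) i)) (@Bool.rec (fun _ => ℕ) rb10402 rb10403 (Nat.ble (nat_lit 10403) i)) (Nat.ble (nat_lit 10402) i)) (@Bool.rec (fun _ => ℕ) (@Bool.rec (fun _ => ℕ) rb10404 rb10405 (Nat.ble (nat_lit 10405) i)) (@Bool.rec (fun _ => ℕ) rb10406 rb10407 (Nat.ble (nat_lit 10407) i)) (Nat.ble (nat_lit 10406) i)) (Nat.ble (nat_lit 10404) i)) (@Bool.rec (fun _ => ℕ) (@Bool.rec (fun _ => ℕ) (@Bool.rec (fun _ => ℕ) rb10408 rb10409 (Nat.ble (nat_lit 10409) i)) (@Bool.rec (fun _ => ℕ) rb10410 rb10411 (Nat.ble (nat_lit 10411) i)) (Nat.ble (nat_lit 10410) i)) (@Bool.rec (fun _ => ℕ) (@Bool.rec (fun _ => ℕ) rb10412 rb10413 (Nat.ble (nat_lit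 10413) i)) (@Bool.rec (fun _ => ℕ) rb10414 rb10415 (Nat.ble (nat_lit 10415) i)) (Nat.ble (nat_lit 10414) i)) (Nat.ble (nat_lit 10412) i)) (Nat.ble (nat_lit 10408) i)) (@Bool.rec (fun _ => ℕ) (@Bool.rec (fun _ => ℕ) (@Bool.rec (fun _ => ℕ) (@Bool.rec (fun _ => ℕ) rb10416 rb10417 (Nat.ble (nat_lit 10417) i)) (@Bool.rec (fun _ => ℕ) rb10418 rb10419 (Nat.ble (nat_lit 10419) i)) (Nat.ble (nat_lit 10418) i)) (@Bool.rec (fun _ => ℕ) (@Bool.rec (fun _ => ℕ) rb10420 rb10421 (Nat.ble (nat_lit 10421) i)) (@Bool.rec (fun _ => ℕ) rb10422 rb10423 (Nat.ble (nat_lit 10423) i)) (Nat.ble (nat_lit 10422) i)) (Nat.ble (nat_lit 10420) i)) (@Bool.rec (fun _ => ℕ) (@Bool.rec (fun _ => ℕ) (@Bool.rec (fun _ => ℕ) rb10424 rb10425 (Nat.ble (nat_lit 10425) i)) (@Bool.rec (fun _ => ℕ) rb10426 rb10427 (Nat.ble (nat_lit 10427) i)) (Nat.ble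 (nat_lit 10426) i)) (@Bool.rec (fun _ => ℕ) (@Bool.rec (fun _ => ℕ) rb10428 rb10429 (Nat.ble (nat_lit 10429) i)) (@Bool.rec (fun _ => ℕ) rb10430 rb10431 (Nat.ble (nat_lit 10431) i)) (Nat.ble (nat_lit 10430) i)) (Nat.ble (nat_lit 10428) i)) (Nat.ble (nat_lit 10424) i)) (Nat.ble (nat_lit 10416) i))

def rowBlk_n0_326 (i : ℕ) : ℕ := (@Bool.rec (fun _ => ℕ) (@Bool.rec (fun _ => ℕ) (@Bool.rec (fun _ => ℕ) (@Bool.rec (fun _ => ℕ) (@Bool.rec (fun _ => ℕ) rb10432 rb10433 (Nat.ble (nat_lit 10433) i)) (@Bool.rec (fun _ => ℕ) rb10434 rb10435 (Nat.ble (nat_lit 10435) i)) (Nat.ble (nat_lit 10434) i)) (@Bool.rec (fun _ => ℕ) (@Bool.rec (fun _ => ℕ) rb10436 rb10437 (Nat.ble (nat_lit 10437) i)) (@Bool.rec (fun _ => ℕ) rb10438 rb10439 (Nat.ble (nat_lit 10439) i)) (Nat.ble (nat_lit 10438) i)) (Nat.ble (nat_lit 10436) i))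 (@Bool.rec (fun _ => ℕ) (@Bool.rec (fun _ => ℕ) (@Bool.rec (fun _ => ℕ) rb10440 rb10441 (Nat.ble (nat_lit 10441) i)) (@Bool.rec (fun _ => ℕ) rb10442 rb10443 (Nat.ble (nat_lit 10443) i)) (Nat.ble (nat_lit 10442) i)) (@Bool.rec (fun _ => ℕ) (@Bool.rec (fun _ => ℕ) rb10444 rb10445 (Nat.ble (nat_lit 10445) i)) (@Bool.rec (fun _ => ℕ) rb10446 rb10447 (Nat.ble (nat_lit 10447) i)) (Nat.ble (nat_lit 10446) i)) (Nat.ble (nat_lit 10444) i)) (Nat.ble (nat_lit 10440) i)) (@Bool.rec (fun _ => ℕ) (@Bool.rec (fun _ => ℕ) (@Bool.rec (fun _ => ℕ) (@Bool.rec (fun _ => ℕ) rb10448 rb10449 (Nat.ble (nat_lit 10449) i)) (@Bool.rec (fun _ => ℕ) rb10450 rb10451 (Nat.ble (nat_lit 10451) i)) (Nat.ble (nat_lit 10450) i)) (@Bool.rec (fun _ => ℕ) (@Bool.rec (fun _ => ℕ) rb10452 rb10453 (Nat.ble (nat_lit 10453) i)) (@Bool.rec (fun _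 => ℕ) rb10454 rb10455 (Nat.ble (nat_lit 10455) i)) (Nat.ble (nat_lit 10454) i)) (Nat.ble (nat_lit 10452) i)) (@Bool.rec (fun _ => ℕ) (@Bool.rec (fun _ => ℕ) (@Bool.rec (fun _ => ℕ) rb10456 rb10457 (Nat.ble (nat_lit 10457) i)) (@Bool.rec (fun _ => ℕ) rb10458 rb10459 (Nat.ble (nat_lit 10459) i)) (Nat.ble (nat_lit 10458) i)) (@Bool.rec (fun _ => ℕ) (@Bool.rec (fun _ => ℕ) rb10460 rb10461 (Nat.ble (nat_lit 10461) i)) (@Bool.rec (fun _ => ℕ) rb10462 rb10463 (Nat.ble (nat_lit 10463) i)) (Nat.ble (nat_lit 10462) i)) (Nat.ble (nat_lit 10460) i)) (Nat.ble (nat_lit 10456) i)) (Nat.ble (nat_lit 10448) i))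

def rowBlk_n0_327 (i : ℕ) : ℕ := (@Bool.rec (fun _ => ℕ) (@Bool.rec (fun _ => ℕ) (@Bool.rec (fun _ => ℕ) (@Bool.rec (fun _ => ℕ) (@Bool.rec (fun _ => ℕ) rb10464 rb10465 (Nat.ble (nat_lit 10465) i)) (@Bool.rec (fun _ => ℕ) rb10466 rb10467 (Nat.ble (nat_lit 10467) i)) (Nat.ble (nat_lit 10466) i)) (@Bool.rec (fun _ => ℕ) (@Bool.rec (fun _ => ℕ) rb10468 rb10469 (Nat.ble (nat_lit 10469) i)) (@Bool.rec (fun _ => ℕ) rb10470 rb10471 (Nat.ble (nat_lit 10471) i)) (Nat.ble (nat_lit 10470) i)) (Nat.ble (nat_lit 10468) i)) (@Bool.rec (fun _ => ℕ) (@Bool.rec (fun _ => ℕ) (@Bool.rec (fun _ => ℕ) rb10472 rb10473 (Nat.ble (nat_lit 10473) i)) (@Bool.rec (fun _ => ℕ) rb10474 rb10475 (Nat.ble (nat_lit 10475) i)) (Nat.ble (nat_lit 10474) i)) (@Bool.rec (fun _ => ℕ) (@Bool.rec (fun _ => ℕ) rb10476 rb10477 (Nat.ble (nat_lit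 10477) i)) (@Bool.rec (fun _ => ℕ) rb10478 rb10479 (Nat.ble (nat_lit 10479) i)) (Nat.ble (nat_lit 10478) i)) (Nat.ble (nat_lit 10476) i)) (Nat.ble (nat_lit 10472) i)) (@Bool.rec (fun _ => ℕ) (@Bool.rec (fun _ => ℕ) (@Bool.rec (fun _ => ℕ) (@Bool.rec (fun _ => ℕ) rb10480 rb10481 (Nat.ble (nat_lit 10481) i)) (@Bool.rec (fun _ => ℕ) rb10482 rb10483 (Nat.ble (nat_lit 10483) i)) (Nat.ble (nat_lit 10482) i)) (@Bool.rec (fun _ => ℕ) (@Bool.rec (fun _ => ℕ) rb10484 rb10485 (Nat.ble (nat_lit 10485) i)) (@Bool.rec (fun _ => ℕ) rb10486 rb10487 (Nat.ble (nat_lit 10487) i)) (Nat.ble (nat_lit 10486) i)) (Nat.ble (nat_lit 10484) i)) (@Bool.rec (fun _ => ℕ) (@Bool.rec (fun _ => ℕ) (@Bool.rec (fun _ => ℕ) rb10488 rb10489 (Nat.ble (nat_lit 10489) i)) (@Bool.rec (fun _ => ℕ) rb10490 rb10491 (Nat.ble (nat_lit 10491) i)) (Nat.ble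 (nat_lit 10490) i)) (@Bool.rec (fun _ => ℕ) (@Bool.rec (fun _ => ℕ) rb10492 rb10493 (Nat.ble (nat_lit 10493) i)) (@Bool.rec (fun _ => ℕ) rb10494 rb10495 (Nat.ble (nat_lit 10495) i)) (Nat.ble (nat_lit 10494) i)) (Nat.ble (nat_lit 10492) i)) (Nat.ble (nat_lit 10488) i)) (Nat.ble (nat_lit 10480) i))

def rowBlk_n0_328 (i : ℕ) : ℕ := (@Bool.rec (fun _ => ℕ) (@Bool.rec (fun _ => ℕ) (@Bool.rec (fun _ => ℕ) (@Bool.rec (fun _ => ℕ) (@Bool.rec (fun _ => ℕ) rb10496 rb10497 (Nat.ble (nat_lit 10497) i)) (@Bool.rec (fun _ => ℕ) rb10498 rb10499 (Nat.ble (nat_lit 10499) i)) (Nat.ble (nat_lit 10498) i)) (@Bool.rec (fun _ => ℕ) (@Bool.rec (fun _ => ℕ) rb10500 rb10501 (Nat.ble (nat_lit 10501) i)) (@Bool.rec (fun _ => ℕ) rb10502 rb10503 (Nat.ble (nat_lit 10503) i)) (Nat.ble (nat_lit 10502) i)) (Nat.ble (nat_lit 10500) i))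 (@Bool.rec (fun _ => ℕ) (@Bool.rec (fun _ => ℕ) (@Bool.rec (fun _ => ℕ) rb10504 rb10505 (Nat.ble (nat_lit 10505) i)) (@Bool.rec (fun _ => ℕ) rb10506 rb10507 (Nat.ble (nat_lit 10507) i)) (Nat.ble (nat_lit 10506) i)) (@Bool.rec (fun _ => ℕ) (@Bool.rec (fun _ => ℕ) rb10508 rb10509 (Nat.ble (nat_lit 10509) i)) (@Bool.rec (fun _ => ℕ) rb10510 rb10511 (Nat.ble (nat_lit 10511) i)) (Nat.ble (nat_lit 10510) i)) (Nat.ble (nat_lit 10508) i)) (Nat.ble (nat_lit 10504) i)) (@Bool.rec (fun _ => ℕ) (@Bool.rec (fun _ => ℕ) (@Bool.rec (fun _ => ℕ) (@Bool.rec (fun _ => ℕ) rb10512 rb10513 (Nat.ble (nat_lit 10513) i)) (@Bool.rec (fun _ => ℕ) rb10514 rb10515 (Nat.ble (nat_lit 10515) i)) (Nat.ble (nat_lit 10514) i)) (@Bool.rec (fun _ => ℕ) (@Bool.rec (fun _ => ℕ) rb10516 rb10517 (Nat.ble (nat_lit 10517) i)) (@Bool.rec (fun _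 => ℕ) rb10518 rb10519 (Nat.ble (nat_lit 10519) i)) (Nat.ble (nat_lit 10518) i)) (Nat.ble (nat_lit 10516) i)) (@Bool.rec (fun _ => ℕ) (@Bool.rec (fun _ => ℕ) (@Bool.rec (fun _ => ℕ) rb10520 rb10521 (Nat.ble (nat_lit 10521) i)) (@Bool.rec (fun _ => ℕ) rb10522 rb10523 (Nat.ble (nat_lit 10523) i)) (Nat.ble (nat_lit 10522) i)) (@Bool.rec (fun _ => ℕ) (@Bool.rec (fun _ => ℕ) rb10524 rb10525 (Nat.ble (nat_lit 10525) i)) (@Bool.rec (fun _ => ℕ) rb10526 rb10527 (Nat.ble (nat_lit 10527) i)) (Nat.ble (nat_lit 10526) i)) (Nat.ble (nat_lit 10524) i)) (Nat.ble (nat_lit 10520) i)) (Nat.ble (nat_lit 10512) i))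

def rowBlk_n0_329 (i : ℕ) : ℕ := (@Bool.rec (fun _ => ℕ) (@Bool.rec (fun _ => ℕ) (@Bool.rec (fun _ => ℕ) (@Bool.rec (fun _ => ℕ) (@Bool.rec (fun _ => ℕ) rb10528 rb10529 (Nat.ble (nat_lit 10529) i)) (@Bool.rec (fun _ => ℕ) rb10530 rb10531 (Nat.ble (nat_lit 10531) i)) (Nat.ble (nat_lit 10530) i)) (@Bool.rec (fun _ => ℕ) (@Bool.rec (fun _ => ℕ) rb10532 rb10533 (Nat.ble (nat_lit 10533) i)) (@Bool.rec (fun _ => ℕ) rb10534 rb10535 (Nat.ble (nat_lit 10535) i)) (Nat.ble (nat_lit 10534) i)) (Nat.ble (nat_lit 10532) i)) (@Bool.rec (fun _ => ℕ) (@Bool.rec (fun _ => ℕ) (@Bool.rec (fun _ => ℕ) rb10536 rb10537 (Nat.ble (nat_lit 10537) i)) (@Bool.rec (fun _ => ℕ) rb10538 rb10539 (Nat.ble (nat_lit 10539) i)) (Nat.ble (nat_lit 10538) i)) (@Bool.rec (fun _ => ℕ) (@Bool.rec (fun _ => ℕ) rb10540 rb10541 (Nat.ble (nat_lit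 10541) i)) (@Bool.rec (fun _ => ℕ) rb10542 rb10543 (Nat.ble (nat_lit 10543) i)) (Nat.ble (nat_lit 10542) i)) (Nat.ble (nat_lit 10540) i)) (Nat.ble (nat_lit 10536) i)) (@Bool.rec (fun _ => ℕ) (@Bool.rec (fun _ => ℕ) (@Bool.rec (fun _ => ℕ) (@Bool.rec (fun _ => ℕ) rb10544 rb10545 (Nat.ble (nat_lit 10545) i)) (@Bool.rec (fun _ => ℕ) rb10546 rb10547 (Nat.ble (nat_lit 10547) i)) (Nat.ble (nat_lit 10546) i)) (@Bool.rec (fun _ => ℕ) (@Bool.rec (fun _ => ℕ) rb10548 rb10549 (Nat.ble (nat_lit 10549) i)) (@Bool.rec (fun _ => ℕ) rb10550 rb10551 (Nat.ble (nat_lit 10551) i)) (Nat.ble (nat_lit 10550) i)) (Nat.ble (nat_lit 10548) i)) (@Bool.rec (fun _ => ℕ) (@Bool.rec (fun _ => ℕ) (@Bool.rec (fun _ => ℕ) rb10552 rb10553 (Nat.ble (nat_lit 10553) i)) (@Bool.rec (fun _ => ℕ) rb10554 rb10555 (Nat.ble (nat_lit 10555) i)) (Nat.ble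 (nat_lit 10554) i)) (@Bool.rec (fun _ => ℕ) (@Bool.rec (fun _ => ℕ) rb10556 rb10557 (Nat.ble (nat_lit 10557) i)) (@Bool.rec (fun _ => ℕ) rb10558 rb10559 (Nat.ble (nat_lit 10559) i)) (Nat.ble (nat_lit 10558) i)) (Nat.ble (nat_lit 10556) i)) (Nat.ble (nat_lit 10552) i)) (Nat.ble (nat_lit 10544) i))

def rowBlk_n0_330 (i : ℕ) : ℕ := (@Bool.rec (fun _ => ℕ) (@Bool.rec (fun _ => ℕ) (@Bool.rec (fun _ => ℕ) (@Bool.rec (fun _ => ℕ) (@Bool.rec (fun _ => ℕ) rb10560 rb10561 (Nat.ble (nat_lit 10561) i)) (@Bool.rec (fun _ => ℕ) rb10562 rb10563 (Nat.ble (nat_lit 10563) i)) (Nat.ble (nat_lit 10562) i)) (@Bool.rec (fun _ => ℕ) (@Bool.rec (fun _ => ℕ) rb10564 rb10565 (Nat.ble (nat_lit 10565) i)) (@Bool.rec (fun _ => ℕ) rb10566 rb10567 (Nat.ble (nat_lit 10567) i)) (Nat.ble (nat_lit 10566) i)) (Nat.ble (nat_lit 10564) i))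 (@Bool.rec (fun _ => ℕ) (@Bool.rec (fun _ => ℕ) (@Bool.rec (fun _ => ℕ) rb10568 rb10569 (Nat.ble (nat_lit 10569) i)) (@Bool.rec (fun _ => ℕ) rb10570 rb10571 (Nat.ble (nat_lit 10571) i)) (Nat.ble (nat_lit 10570) i)) (@Bool.rec (fun _ => ℕ) (@Bool.rec (fun _ => ℕ) rb10572 rb10573 (Nat.ble (nat_lit 10573) i)) (@Bool.rec (fun _ => ℕ) rb10574 rb10575 (Nat.ble (nat_lit 10575) i)) (Nat.ble (nat_lit 10574) i)) (Nat.ble (nat_lit 10572) i)) (Nat.ble (nat_lit 10568) i)) (@Bool.rec (fun _ => ℕ) (@Bool.rec (fun _ => ℕ) (@Bool.rec (fun _ => ℕ) (@Bool.rec (fun _ => ℕ) rb10576 rb10577 (Nat.ble (nat_lit 10577) i)) (@Bool.rec (fun _ => ℕ) rb10578 rb10579 (Nat.ble (nat_lit 10579) i)) (Nat.ble (nat_lit 10578) i)) (@Bool.rec (fun _ => ℕ) (@Bool.rec (fun _ => ℕ) rb10580 rb10581 (Nat.ble (nat_lit 10581) i)) (@Bool.rec (fun _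 => ℕ) rb10582 rb10583 (Nat.ble (nat_lit 10583) i)) (Nat.ble (nat_lit 10582) i)) (Nat.ble (nat_lit 10580) i)) (@Bool.rec (fun _ => ℕ) (@Bool.rec (fun _ => ℕ) (@Bool.rec (fun _ => ℕ) rb10584 rb10585 (Nat.ble (nat_lit 10585) i)) (@Bool.rec (fun _ => ℕ) rb10586 rb10587 (Nat.ble (nat_lit 10587) i)) (Nat.ble (nat_lit 10586) i)) (@Bool.rec (fun _ => ℕ) (@Bool.rec (fun _ => ℕ) rb10588 rb10589 (Nat.ble (nat_lit 10589) i)) (@Bool.rec (fun _ => ℕ) rb10590 rb10591 (Nat.ble (nat_lit 10591) i)) (Nat.ble (nat_lit 10590) i)) (Nat.ble (nat_lit 10588) i)) (Nat.ble (nat_lit 10584) i)) (Nat.ble (nat_lit 10576) i))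

def rowBlk_n0_331 (i : ℕ) : ℕ := (@Bool.rec (fun _ => ℕ) (@Bool.rec (fun _ => ℕ) (@Bool.rec (fun _ => ℕ) (@Bool.rec (fun _ => ℕ) (@Bool.rec (fun _ => ℕ) rb10592 rb10593 (Nat.ble (nat_lit 10593) i)) (@Bool.rec (fun _ => ℕ) rb10594 rb10595 (Nat.ble (nat_lit 10595) i)) (Nat.ble (nat_lit 10594) i)) (@Bool.rec (fun _ => ℕ) (@Bool.rec (fun _ => ℕ) rb10596 rb10597 (Nat.ble (nat_lit 10597) i)) (@Bool.rec (fun _ => ℕ) rb10598 rb10599 (Nat.ble (nat_lit 10599) i)) (Nat.ble (nat_lit 10598) i)) (Nat.ble (nat_lit 10596) i)) (@Bool.rec (fun _ => ℕ) (@Bool.rec (fun _ => ℕ) (@Bool.rec (fun _ => ℕ) rb10600 rb10601 (Nat.ble (nat_lit 10601) i)) (@Bool.rec (fun _ => ℕ) rb10602 rb10603 (Nat.ble (nat_lit 10603) i)) (Nat.ble (nat_lit 10602) i)) (@Bool.rec (fun _ => ℕ) (@Bool.rec (fun _ => ℕ) rb10604 rb10605 (Nat.ble (nat_lit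 10605) i)) (@Bool.rec (fun _ => ℕ) rb10606 rb10607 (Nat.ble (nat_lit 10607) i)) (Nat.ble (nat_lit 10606) i)) (Nat.ble (nat_lit 10604) i)) (Nat.ble (nat_lit 10600) i)) (@Bool.rec (fun _ => ℕ) (@Bool.rec (fun _ => ℕ) (@Bool.rec (fun _ => ℕ) (@Bool.rec (fun _ => ℕ) rb10608 rb10609 (Nat.ble (nat_lit 10609) i)) (@Bool.rec (fun _ => ℕ) rb10610 rb10611 (Nat.ble (nat_lit 10611) i)) (Nat.ble (nat_lit 10610) i)) (@Bool.rec (fun _ => ℕ) (@Bool.rec (fun _ => ℕ) rb10612 rb10613 (Nat.ble (nat_lit 10613) i)) (@Bool.rec (fun _ => ℕ) rb10614 rb10615 (Nat.ble (nat_lit 10615) i)) (Nat.ble (nat_lit 10614) i)) (Nat.ble (nat_lit 10612) i)) (@Bool.rec (fun _ => ℕ) (@Bool.rec (fun _ => ℕ) (@Bool.rec (fun _ => ℕ) rb10616 rb10617 (Nat.ble (nat_lit 10617) i)) (@Bool.rec (fun _ => ℕ) rb10618 rb10619 (Nat.ble (nat_lit 10619) i)) (Nat.ble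 (nat_lit 10618) i)) (@Bool.rec (fun _ => ℕ) (@Bool.rec (fun _ => ℕ) rb10620 rb10621 (Nat.ble (nat_lit 10621) i)) (@Bool.rec (fun _ => ℕ) rb10622 rb10623 (Nat.ble (nat_lit 10623) i)) (Nat.ble (nat_lit 10622) i)) (Nat.ble (nat_lit 10620) i)) (Nat.ble (nat_lit 10616) i)) (Nat.ble (nat_lit 10608) i))

def rowBlk_n0_332 (i : ℕ) : ℕ := (@Bool.rec (fun _ => ℕ) (@Bool.rec (fun _ => ℕ) (@Bool.rec (fun _ => ℕ) (@Bool.rec (fun _ => ℕ) (@Bool.rec (fun _ => ℕ) rb10624 rb10625 (Nat.ble (nat_lit 10625) i)) (@Bool.rec (fun _ => ℕ) rb10626 rb10627 (Nat.ble (nat_lit 10627) i)) (Nat.ble (nat_lit 10626) i)) (@Bool.rec (fun _ => ℕ) (@Bool.rec (fun _ => ℕ) rb10628 rb10629 (Nat.ble (nat_lit 10629) i)) (@Bool.rec (fun _ => ℕ) rb10630 rb10631 (Nat.ble (nat_lit 10631) i)) (Nat.ble (nat_lit 10630) i)) (Nat.ble (nat_lit 10628) i))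 (@Bool.rec (fun _ => ℕ) (@Bool.rec (fun _ => ℕ) (@Bool.rec (fun _ => ℕ) rb10632 rb10633 (Nat.ble (nat_lit 10633) i)) (@Bool.rec (fun _ => ℕ) rb10634 rb10635 (Nat.ble (nat_lit 10635) i)) (Nat.ble (nat_lit 10634) i)) (@Bool.rec (fun _ => ℕ) (@Bool.rec (fun _ => ℕ) rb10636 rb10637 (Nat.ble (nat_lit 10637) i)) (@Bool.rec (fun _ => ℕ) rb10638 rb10639 (Nat.ble (nat_lit 10639) i)) (Nat.ble (nat_lit 10638) i)) (Nat.ble (nat_lit 10636) i)) (Nat.ble (nat_lit 10632) i)) (@Bool.rec (fun _ => ℕ) (@Bool.rec (fun _ => ℕ) (@Bool.rec (fun _ => ℕ) (@Bool.rec (fun _ => ℕ) rb10640 rb10641 (Nat.ble (nat_lit 10641) i)) (@Bool.rec (fun _ => ℕ) rb10642 rb10643 (Nat.ble (nat_lit 10643) i)) (Nat.ble (nat_lit 10642) i)) (@Bool.rec (fun _ => ℕ) (@Bool.rec (fun _ => ℕ) rb10644 rb10645 (Nat.ble (nat_lit 10645) i)) (@Bool.rec (fun _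 => ℕ) rb10646 rb10647 (Nat.ble (nat_lit 10647) i)) (Nat.ble (nat_lit 10646) i)) (Nat.ble (nat_lit 10644) i)) (@Bool.rec (fun _ => ℕ) (@Bool.rec (fun _ => ℕ) (@Bool.rec (fun _ => ℕ) rb10648 rb10649 (Nat.ble (nat_lit 10649) i)) (@Bool.rec (fun _ => ℕ) rb10650 rb10651 (Nat.ble (nat_lit 10651) i)) (Nat.ble (nat_lit 10650) i)) (@Bool.rec (fun _ => ℕ) (@Bool.rec (fun _ => ℕ) rb10652 rb10653 (Nat.ble (nat_lit 10653) i)) (@Bool.rec (fun _ => ℕ) rb10654 rb10655 (Nat.ble (nat_lit 10655) i)) (Nat.ble (nat_lit 10654) i)) (Nat.ble (nat_lit 10652) i)) (Nat.ble (nat_lit 10648) i)) (Nat.ble (nat_lit 10640) i))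

def rowBlk_n0_333 (i : ℕ) : ℕ := (@Bool.rec (fun _ => ℕ) (@Bool.rec (fun _ => ℕ) (@Bool.rec (fun _ => ℕ) (@Bool.rec (fun _ => ℕ) (@Bool.rec (fun _ => ℕ) rb10656 rb10657 (Nat.ble (nat_lit 10657) i)) (@Bool.rec (fun _ => ℕ) rb10658 rb10659 (Nat.ble (nat_lit 10659) i)) (Nat.ble (nat_lit 10658) i)) (@Bool.rec (fun _ => ℕ) (@Bool.rec (fun _ => ℕ) rb10660 rb10661 (Nat.ble (nat_lit 10661) i)) (@Bool.rec (fun _ => ℕ) rb10662 rb10663 (Nat.ble (nat_lit 10663) i)) (Nat.ble (nat_lit 10662) i)) (Nat.ble (nat_lit 10660) i)) (@Bool.rec (fun _ => ℕ) (@Bool.rec (fun _ => ℕ) (@Bool.rec (fun _ => ℕ) rb10664 rb10665 (Nat.ble (nat_lit 10665) i)) (@Bool.rec (fun _ => ℕ) rb10666 rb10667 (Nat.ble (nat_lit 10667) i)) (Nat.ble (nat_lit 10666) i)) (@Bool.rec (fun _ => ℕ) (@Bool.rec (fun _ => ℕ) rb10668 rb10669 (Nat.ble (nat_lit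 10669) i)) (@Bool.rec (fun _ => ℕ) rb10670 rb10671 (Nat.ble (nat_lit 10671) i)) (Nat.ble (nat_lit 10670) i)) (Nat.ble (nat_lit 10668) i)) (Nat.ble (nat_lit 10664) i)) (@Bool.rec (fun _ => ℕ) (@Bool.rec (fun _ => ℕ) (@Bool.rec (fun _ => ℕ) (@Bool.rec (fun _ => ℕ) rb10672 rb10673 (Nat.ble (nat_lit 10673) i)) (@Bool.rec (fun _ => ℕ) rb10674 rb10675 (Nat.ble (nat_lit 10675) i)) (Nat.ble (nat_lit 10674) i)) (@Bool.rec (fun _ => ℕ) (@Bool.rec (fun _ => ℕ) rb10676 rb10677 (Nat.ble (nat_lit 10677) i)) (@Bool.rec (fun _ => ℕ) rb10678 rb10679 (Nat.ble (nat_lit 10679) i)) (Nat.ble (nat_lit 10678) i)) (Nat.ble (nat_lit 10676) i)) (@Bool.rec (fun _ => ℕ) (@Bool.rec (fun _ => ℕ) (@Bool.rec (fun _ => ℕ) rb10680 rb10681 (Nat.ble (nat_lit 10681) i)) (@Bool.rec (fun _ => ℕ) rb10682 rb10683 (Nat.ble (nat_lit 10683) i)) (Nat.ble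 (nat_lit 10682) i)) (@Bool.rec (fun _ => ℕ) (@Bool.rec (fun _ => ℕ) rb10684 rb10685 (Nat.ble (nat_lit 10685) i)) (@Bool.rec (fun _ => ℕ) rb10686 rb10687 (Nat.ble (nat_lit 10687) i)) (Nat.ble (nat_lit 10686) i)) (Nat.ble (nat_lit 10684) i)) (Nat.ble (nat_lit 10680) i)) (Nat.ble (nat_lit 10672) i))

def rowBlk_n0_334 (i : ℕ) : ℕ := (@Bool.rec (fun _ => ℕ) (@Bool.rec (fun _ => ℕ) (@Bool.rec (fun _ => ℕ) (@Bool.rec (fun _ => ℕ) (@Bool.rec (fun _ => ℕ) rb10688 rb10689 (Nat.ble (nat_lit 10689) i)) (@Bool.rec (fun _ => ℕ) rb10690 rb10691 (Nat.ble (nat_lit 10691) i)) (Nat.ble (nat_lit 10690) i)) (@Bool.rec (fun _ => ℕ) (@Bool.rec (fun _ => ℕ) rb10692 rb10693 (Nat.ble (nat_lit 10693) i)) (@Bool.rec (fun _ => ℕ) rb10694 rb10695 (Nat.ble (nat_lit 10695) i)) (Nat.ble (nat_lit 10694) i)) (Nat.ble (nat_lit 10692) i))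 (@Bool.rec (fun _ => ℕ) (@Bool.rec (fun _ => ℕ) (@Bool.rec (fun _ => ℕ) rb10696 rb10697 (Nat.ble (nat_lit 10697) i)) (@Bool.rec (fun _ => ℕ) rb10698 rb10699 (Nat.ble (nat_lit 10699) i)) (Nat.ble (nat_lit 10698) i)) (@Bool.rec (fun _ => ℕ) (@Bool.rec (fun _ => ℕ) rb10700 rb10701 (Nat.ble (nat_lit 10701) i)) (@Bool.rec (fun _ => ℕ) rb10702 rb10703 (Nat.ble (nat_lit 10703) i)) (Nat.ble (nat_lit 10702) i)) (Nat.ble (nat_lit 10700) i)) (Nat.ble (nat_lit 10696) i)) (@Bool.rec (fun _ => ℕ) (@Bool.rec (fun _ => ℕ) (@Bool.rec (fun _ => ℕ) (@Bool.rec (fun _ => ℕ) rb10704 rb10705 (Nat.ble (nat_lit 10705) i)) (@Bool.rec (fun _ => ℕ) rb10706 rb10707 (Nat.ble (nat_lit 10707) i)) (Nat.ble (nat_lit 10706) i)) (@Bool.rec (fun _ => ℕ) (@Bool.rec (fun _ => ℕ) rb10708 rb10709 (Nat.ble (nat_lit 10709) i)) (@Bool.rec (fun _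 => ℕ) rb10710 rb10711 (Nat.ble (nat_lit 10711) i)) (Nat.ble (nat_lit 10710) i)) (Nat.ble (nat_lit 10708) i)) (@Bool.rec (fun _ => ℕ) (@Bool.rec (fun _ => ℕ) (@Bool.rec (fun _ => ℕ) rb10712 rb10713 (Nat.ble (nat_lit 10713) i)) (@Bool.rec (fun _ => ℕ) rb10714 rb10715 (Nat.ble (nat_lit 10715) i)) (Nat.ble (nat_lit 10714) i)) (@Bool.rec (fun _ => ℕ) (@Bool.rec (fun _ => ℕ) rb10716 rb10717 (Nat.ble (nat_lit 10717) i)) (@Bool.rec (fun _ => ℕ) rb10718 rb10719 (Nat.ble (nat_lit 10719) i)) (Nat.ble (nat_lit 10718) i)) (Nat.ble (nat_lit 10716) i)) (Nat.ble (nat_lit 10712) i)) (Nat.ble (nat_lit 10704) i))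

def rowBlk_n0_335 (i : ℕ) : ℕ := (@Bool.rec (fun _ => ℕ) (@Bool.rec (fun _ => ℕ) (@Bool.rec (fun _ => ℕ) (@Bool.rec (fun _ => ℕ) (@Bool.rec (fun _ => ℕ) rb10720 rb10721 (Nat.ble (nat_lit 10721) i)) (@Bool.rec (fun _ => ℕ) rb10722 rb10723 (Nat.ble (nat_lit 10723) i)) (Nat.ble (nat_lit 10722) i)) (@Bool.rec (fun _ => ℕ) (@Bool.rec (fun _ => ℕ) rb10724 rb10725 (Nat.ble (nat_lit 10725) i)) (@Bool.rec (fun _ => ℕ) rb10726 rb10727 (Nat.ble (nat_lit 10727) i)) (Nat.ble (nat_lit 10726) i)) (Nat.ble (nat_lit 10724) i)) (@Bool.rec (fun _ => ℕ) (@Bool.rec (fun _ => ℕ) (@Bool.rec (fun _ => ℕ) rb10728 rb10729 (Nat.ble (nat_lit 10729) i)) (@Bool.rec (fun _ => ℕ) rb10730 rb10731 (Nat.ble (nat_lit 10731) i)) (Nat.ble (nat_lit 10730) i)) (@Bool.rec (fun _ => ℕ) (@Bool.rec (fun _ => ℕ) rb10732 rb10733 (Nat.ble (nat_lit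 10733) i)) (@Bool.rec (fun _ => ℕ) rb10734 rb10735 (Nat.ble (nat_lit 10735) i)) (Nat.ble (nat_lit 10734) i)) (Nat.ble (nat_lit 10732) i)) (Nat.ble (nat_lit 10728) i)) (@Bool.rec (fun _ => ℕ) (@Bool.rec (fun _ => ℕ) (@Bool.rec (fun _ => ℕ) (@Bool.rec (fun _ => ℕ) rb10736 rb10737 (Nat.ble (nat_lit 10737) i)) (@Bool.rec (fun _ => ℕ) rb10738 rb10739 (Nat.ble (nat_lit 10739) i)) (Nat.ble (nat_lit 10738) i)) (@Bool.rec (fun _ => ℕ) (@Bool.rec (fun _ => ℕ) rb10740 rb10741 (Nat.ble (nat_lit 10741) i)) (@Bool.rec (fun _ => ℕ) rb10742 rb10743 (Nat.ble (nat_lit 10743) i)) (Nat.ble (nat_lit 10742) i)) (Nat.ble (nat_lit 10740) i)) (@Bool.rec (fun _ => ℕ) (@Bool.rec (fun _ => ℕ) (@Bool.rec (fun _ => ℕ) rb10744 rb10745 (Nat.ble (nat_lit 10745) i)) (@Bool.rec (fun _ => ℕ) rb10746 rb10747 (Nat.ble (nat_lit 10747) i)) (Nat.ble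 (nat_lit 10746) i)) (@Bool.rec (fun _ => ℕ) (@Bool.rec (fun _ => ℕ) rb10748 rb10749 (Nat.ble (nat_lit 10749) i)) (@Bool.rec (fun _ => ℕ) rb10750 rb10751 (Nat.ble (nat_lit 10751) i)) (Nat.ble (nat_lit 10750) i)) (Nat.ble (nat_lit 10748) i)) (Nat.ble (nat_lit 10744) i)) (Nat.ble (nat_lit 10736) i))

def rowBlk_n0_336 (i : ℕ) : ℕ := (@Bool.rec (fun _ => ℕ) (@Bool.rec (fun _ => ℕ) (@Bool.rec (fun _ => ℕ) (@Bool.rec (fun _ => ℕ) (@Bool.rec (fun _ => ℕ) rb10752 rb10753 (Nat.ble (nat_lit 10753) i)) (@Bool.rec (fun _ => ℕ) rb10754 rb10755 (Nat.ble (nat_lit 10755) i)) (Nat.ble (nat_lit 10754) i)) (@Bool.rec (fun _ => ℕ) (@Bool.rec (fun _ => ℕ) rb10756 rb10757 (Nat.ble (nat_lit 10757) i)) (@Bool.rec (fun _ => ℕ) rb10758 rb10759 (Nat.ble (nat_lit 10759) i)) (Nat.ble (nat_lit 10758) i)) (Nat.ble (nat_lit 10756) i))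 (@Bool.rec (fun _ => ℕ) (@Bool.rec (fun _ => ℕ) (@Bool.rec (fun _ => ℕ) rb10760 rb10761 (Nat.ble (nat_lit 10761) i)) (@Bool.rec (fun _ => ℕ) rb10762 rb10763 (Nat.ble (nat_lit 10763) i)) (Nat.ble (nat_lit 10762) i)) (@Bool.rec (fun _ => ℕ) (@Bool.rec (fun _ => ℕ) rb10764 rb10765 (Nat.ble (nat_lit 10765) i)) (@Bool.rec (fun _ => ℕ) rb10766 rb10767 (Nat.ble (nat_lit 10767) i)) (Nat.ble (nat_lit 10766) i)) (Nat.ble (nat_lit 10764) i)) (Nat.ble (nat_lit 10760) i)) (@Bool.rec (fun _ => ℕ) (@Bool.rec (fun _ => ℕ) (@Bool.rec (fun _ => ℕ) (@Bool.rec (fun _ => ℕ) rb10768 rb10769 (Nat.ble (nat_lit 10769) i)) (@Bool.rec (fun _ => ℕ) rb10770 rb10771 (Nat.ble (nat_lit 10771) i)) (Nat.ble (nat_lit 10770) i)) (@Bool.rec (fun _ => ℕ) (@Bool.rec (fun _ => ℕ) rb10772 rb10773 (Nat.ble (nat_lit 10773) i)) (@Bool.rec (fun _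 => ℕ) rb10774 rb10775 (Nat.ble (nat_lit 10775) i)) (Nat.ble (nat_lit 10774) i)) (Nat.ble (nat_lit 10772) i)) (@Bool.rec (fun _ => ℕ) (@Bool.rec (fun _ => ℕ) (@Bool.rec (fun _ => ℕ) rb10776 rb10777 (Nat.ble (nat_lit 10777) i)) (@Bool.rec (fun _ => ℕ) rb10778 rb10779 (Nat.ble (nat_lit 10779) i)) (Nat.ble (nat_lit 10778) i)) (@Bool.rec (fun _ => ℕ) (@Bool.rec (fun _ => ℕ) rb10780 rb10781 (Nat.ble (nat_lit 10781) i)) (@Bool.rec (fun _ => ℕ) rb10782 rb10783 (Nat.ble (nat_lit 10783) i)) (Nat.ble (nat_lit 10782) i)) (Nat.ble (nat_lit 10780) i)) (Nat.ble (nat_lit 10776) i)) (Nat.ble (nat_lit 10768) i))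

def rowBlk_n0_337 (i : ℕ) : ℕ := (@Bool.rec (fun _ => ℕ) (@Bool.rec (fun _ => ℕ) (@Bool.rec (fun _ => ℕ) (@Bool.rec (fun _ => ℕ) (@Bool.rec (fun _ => ℕ) rb10784 rb10785 (Nat.ble (nat_lit 10785) i)) (@Bool.rec (fun _ => ℕ) rb10786 rb10787 (Nat.ble (nat_lit 10787) i)) (Nat.ble (nat_lit 10786) i)) (@Bool.rec (fun _ => ℕ) (@Bool.rec (fun _ => ℕ) rb10788 rb10789 (Nat.ble (nat_lit 10789) i)) (@Bool.rec (fun _ => ℕ) rb10790 rb10791 (Nat.ble (nat_lit 10791) i)) (Nat.ble (nat_lit 10790) i)) (Nat.ble (nat_lit 10788) i)) (@Bool.rec (fun _ => ℕ) (@Bool.rec (fun _ => ℕ) (@Bool.rec (fun _ => ℕ) rb10792 rb10793 (Nat.ble (nat_lit 10793) i)) (@Bool.rec (fun _ => ℕ) rb10794 rb10795 (Nat.ble (nat_lit 10795) i)) (Nat.ble (nat_lit 10794) i)) (@Bool.rec (fun _ => ℕ) (@Bool.rec (fun _ => ℕ) rb10796 rb10797 (Nat.ble (nat_lit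 10797) i)) (@Bool.rec (fun _ => ℕ) rb10798 rb10799 (Nat.ble (nat_lit 10799) i)) (Nat.ble (nat_lit 10798) i)) (Nat.ble (nat_lit 10796) i)) (Nat.ble (nat_lit 10792) i)) (@Bool.rec (fun _ => ℕ) (@Bool.rec (fun _ => ℕ) (@Bool.rec (fun _ => ℕ) (@Bool.rec (fun _ => ℕ) rb10800 rb10801 (Nat.ble (nat_lit 10801) i)) (@Bool.rec (fun _ => ℕ) rb10802 rb10803 (Nat.ble (nat_lit 10803) i)) (Nat.ble (nat_lit 10802) i)) (@Bool.rec (fun _ => ℕ) (@Bool.rec (fun _ => ℕ) rb10804 rb10805 (Nat.ble (nat_lit 10805) i)) (@Bool.rec (fun _ => ℕ) rb10806 rb10807 (Nat.ble (nat_lit 10807) i)) (Nat.ble (nat_lit 10806) i)) (Nat.ble (nat_lit 10804) i)) (@Bool.rec (fun _ => ℕ) (@Bool.rec (fun _ => ℕ) (@Bool.rec (fun _ => ℕ) rb10808 rb10809 (Nat.ble (nat_lit 10809) i)) (@Bool.rec (fun _ => ℕ) rb10810 rb10811 (Nat.ble (nat_lit 10811) i)) (Nat.ble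 (nat_lit 10810) i)) (@Bool.rec (fun _ => ℕ) (@Bool.rec (fun _ => ℕ) rb10812 rb10813 (Nat.ble (nat_lit 10813) i)) (@Bool.rec (fun _ => ℕ) rb10814 rb10815 (Nat.ble (nat_lit 10815) i)) (Nat.ble (nat_lit 10814) i)) (Nat.ble (nat_lit 10812) i)) (Nat.ble (nat_lit 10808) i)) (Nat.ble (nat_lit 10800) i))

def rowBlk_n0_338 (i : ℕ) : ℕ := (@Bool.rec (fun _ => ℕ) (@Bool.rec (fun _ => ℕ) (@Bool.rec (fun _ => ℕ) (@Bool.rec (fun _ => ℕ) (@Bool.rec (fun _ => ℕ) rb10816 rb10817 (Nat.ble (nat_lit 10817) i)) (@Bool.rec (fun _ => ℕ) rb10818 rb10819 (Nat.ble (nat_lit 10819) i)) (Nat.ble (nat_lit 10818) i)) (@Bool.rec (fun _ => ℕ) (@Bool.rec (fun _ => ℕ) rb10820 rb10821 (Nat.ble (nat_lit 10821) i)) (@Bool.rec (fun _ => ℕ) rb10822 rb10823 (Nat.ble (nat_lit 10823) i)) (Nat.ble (nat_lit 10822) i)) (Nat.ble (nat_lit 10820) i))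 (@Bool.rec (fun _ => ℕ) (@Bool.rec (fun _ => ℕ) (@Bool.rec (fun _ => ℕ) rb10824 rb10825 (Nat.ble (nat_lit 10825) i)) (@Bool.rec (fun _ => ℕ) rb10826 rb10827 (Nat.ble (nat_lit 10827) i)) (Nat.ble (nat_lit 10826) i)) (@Bool.rec (fun _ => ℕ) (@Bool.rec (fun _ => ℕ) rb10828 rb10829 (Nat.ble (nat_lit 10829) i)) (@Bool.rec (fun _ => ℕ) rb10830 rb10831 (Nat.ble (nat_lit 10831) i)) (Nat.ble (nat_lit 10830) i)) (Nat.ble (nat_lit 10828) i)) (Nat.ble (nat_lit 10824) i)) (@Bool.rec (fun _ => ℕ) (@Bool.rec (fun _ => ℕ) (@Bool.rec (fun _ => ℕ) (@Bool.rec (fun _ => ℕ) rb10832 rb10833 (Nat.ble (nat_lit 10833) i)) (@Bool.rec (fun _ => ℕ) rb10834 rb10835 (Nat.ble (nat_lit 10835) i)) (Nat.ble (nat_lit 10834) i)) (@Bool.rec (fun _ => ℕ) (@Bool.rec (fun _ => ℕ) rb10836 rb10837 (Nat.ble (nat_lit 10837) i)) (@Bool.rec (fun _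 => ℕ) rb10838 rb10839 (Nat.ble (nat_lit 10839) i)) (Nat.ble (nat_lit 10838) i)) (Nat.ble (nat_lit 10836) i)) (@Bool.rec (fun _ => ℕ) (@Bool.rec (fun _ => ℕ) (@Bool.rec (fun _ => ℕ) rb10840 rb10841 (Nat.ble (nat_lit 10841) i)) (@Bool.rec (fun _ => ℕ) rb10842 rb10843 (Nat.ble (nat_lit 10843) i)) (Nat.ble (nat_lit 10842) i)) (@Bool.rec (fun _ => ℕ) (@Bool.rec (fun _ => ℕ) rb10844 rb10845 (Nat.ble (nat_lit 10845) i)) (@Bool.rec (fun _ => ℕ) rb10846 rb10847 (Nat.ble (nat_lit 10847) i)) (Nat.ble (nat_lit 10846) i)) (Nat.ble (nat_lit 10844) i)) (Nat.ble (nat_lit 10840) i)) (Nat.ble (nat_lit 10832) i))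

def rowBlk_n0_339 (i : ℕ) : ℕ := (@Bool.rec (fun _ => ℕ) (@Bool.rec (fun _ => ℕ) (@Bool.rec (fun _ => ℕ) (@Bool.rec (fun _ => ℕ) (@Bool.rec (fun _ => ℕ) rb10848 rb10849 (Nat.ble (nat_lit 10849) i)) (@Bool.rec (fun _ => ℕ) rb10850 rb10851 (Nat.ble (nat_lit 10851) i)) (Nat.ble (nat_lit 10850) i)) (@Bool.rec (fun _ => ℕ) (@Bool.rec (fun _ => ℕ) rb10852 rb10853 (Nat.ble (nat_lit 10853) i)) (@Bool.rec (fun _ => ℕ) rb10854 rb10855 (Nat.ble (nat_lit 10855) i)) (Nat.ble (nat_lit 10854) i)) (Nat.ble (nat_lit 10852) i)) (@Bool.rec (fun _ => ℕ) (@Bool.rec (fun _ => ℕ) (@Bool.rec (fun _ => ℕ) rb10856 rb10857 (Nat.ble (nat_lit 10857) i)) (@Bool.rec (fun _ => ℕ) rb10858 rb10859 (Nat.ble (nat_lit 10859) i)) (Nat.ble (nat_lit 10858) i)) (@Bool.rec (fun _ => ℕ) (@Bool.rec (fun _ => ℕ) rb10860 rb10861 (Nat.ble (nat_lit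 10861) i)) (@Bool.rec (fun _ => ℕ) rb10862 rb10863 (Nat.ble (nat_lit 10863) i)) (Nat.ble (nat_lit 10862) i)) (Nat.ble (nat_lit 10860) i)) (Nat.ble (nat_lit 10856) i)) (@Bool.rec (fun _ => ℕ) (@Bool.rec (fun _ => ℕ) (@Bool.rec (fun _ => ℕ) (@Bool.rec (fun _ => ℕ) rb10864 rb10865 (Nat.ble (nat_lit 10865) i)) (@Bool.rec (fun _ => ℕ) rb10866 rb10867 (Nat.ble (nat_lit 10867) i)) (Nat.ble (nat_lit 10866) i)) (@Bool.rec (fun _ => ℕ) (@Bool.rec (fun _ => ℕ) rb10868 rb10869 (Nat.ble (nat_lit 10869) i)) (@Bool.rec (fun _ => ℕ) rb10870 rb10871 (Nat.ble (nat_lit 10871) i)) (Nat.ble (nat_lit 10870) i)) (Nat.ble (nat_lit 10868) i)) (@Bool.rec (fun _ => ℕ) (@Bool.rec (fun _ => ℕ) (@Bool.rec (fun _ => ℕ) rb10872 rb10873 (Nat.ble (nat_lit 10873) i)) (@Bool.rec (fun _ => ℕ) rb10874 rb10875 (Nat.ble (nat_lit 10875) i)) (Nat.ble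 (nat_lit 10874) i)) (@Bool.rec (fun _ => ℕ) (@Bool.rec (fun _ => ℕ) rb10876 rb10877 (Nat.ble (nat_lit 10877) i)) (@Bool.rec (fun _ => ℕ) rb10878 rb10879 (Nat.ble (nat_lit 10879) i)) (Nat.ble (nat_lit 10878) i)) (Nat.ble (nat_lit 10876) i)) (Nat.ble (nat_lit 10872) i)) (Nat.ble (nat_lit 10864) i))

def rowBlk_n0_340 (i : ℕ) : ℕ := (@Bool.rec (fun _ => ℕ) (@Bool.rec (fun _ => ℕ) (@Bool.rec (fun _ => ℕ) (@Bool.rec (fun _ => ℕ) (@Bool.rec (fun _ => ℕ) rb10880 rb10881 (Nat.ble (nat_lit 10881) i)) (@Bool.rec (fun _ => ℕ) rb10882 rb10883 (Nat.ble (nat_lit 10883) i)) (Nat.ble (nat_lit 10882) i)) (@Bool.rec (fun _ => ℕ) (@Bool.rec (fun _ => ℕ) rb10884 rb10885 (Nat.ble (nat_lit 10885) i)) (@Bool.rec (fun _ => ℕ) rb10886 rb10887 (Nat.ble (nat_lit 10887) i)) (Nat.ble (nat_lit 10886) i)) (Nat.ble (nat_lit 10884) i))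 (@Bool.rec (fun _ => ℕ) (@Bool.rec (fun _ => ℕ) (@Bool.rec (fun _ => ℕ) rb10888 rb10889 (Nat.ble (nat_lit 10889) i)) (@Bool.rec (fun _ => ℕ) rb10890 rb10891 (Nat.ble (nat_lit 10891) i)) (Nat.ble (nat_lit 10890) i)) (@Bool.rec (fun _ => ℕ) (@Bool.rec (fun _ => ℕ) rb10892 rb10893 (Nat.ble (nat_lit 10893) i)) (@Bool.rec (fun _ => ℕ) rb10894 rb10895 (Nat.ble (nat_lit 10895) i)) (Nat.ble (nat_lit 10894) i)) (Nat.ble (nat_lit 10892) i)) (Nat.ble (nat_lit 10888) i)) (@Bool.rec (fun _ => ℕ) (@Bool.rec (fun _ => ℕ) (@Bool.rec (fun _ => ℕ) (@Bool.rec (fun _ => ℕ) rb10896 rb10897 (Nat.ble (nat_lit 10897) i)) (@Bool.rec (fun _ => ℕ) rb10898 rb10899 (Nat.ble (nat_lit 10899) i)) (Nat.ble (nat_lit 10898) i)) (@Bool.rec (fun _ => ℕ) (@Bool.rec (fun _ => ℕ) rb10900 rb10901 (Nat.ble (nat_lit 10901) i)) (@Bool.rec (fun _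 => ℕ) rb10902 rb10903 (Nat.ble (nat_lit 10903) i)) (Nat.ble (nat_lit 10902) i)) (Nat.ble (nat_lit 10900) i)) (@Bool.rec (fun _ => ℕ) (@Bool.rec (fun _ => ℕ) (@Bool.rec (fun _ => ℕ) rb10904 rb10905 (Nat.ble (nat_lit 10905) i)) (@Bool.rec (fun _ => ℕ) rb10906 rb10907 (Nat.ble (nat_lit 10907) i)) (Nat.ble (nat_lit 10906) i)) (@Bool.rec (fun _ => ℕ) (@Bool.rec (fun _ => ℕ) rb10908 rb10909 (Nat.ble (nat_lit 10909) i)) (@Bool.rec (fun _ => ℕ) rb10910 rb10911 (Nat.ble (nat_lit 10911) i)) (Nat.ble (nat_lit 10910) i)) (Nat.ble (nat_lit 10908) i)) (Nat.ble (nat_lit 10904) i)) (Nat.ble (nat_lit 10896) i))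

def rowBlk_n0_341 (i : ℕ) : ℕ := (@Bool.rec (fun _ => ℕ) (@Bool.rec (fun _ => ℕ) (@Bool.rec (fun _ => ℕ) (@Bool.rec (fun _ => ℕ) (@Bool.rec (fun _ => ℕ) rb10912 rb10913 (Nat.ble (nat_lit 10913) i)) (@Bool.rec (fun _ => ℕ) rb10914 rb10915 (Nat.ble (nat_lit 10915) i)) (Nat.ble (nat_lit 10914) i)) (@Bool.rec (fun _ => ℕ) (@Bool.rec (fun _ => ℕ) rb10916 rb10917 (Nat.ble (nat_lit 10917) i)) (@Bool.rec (fun _ => ℕ) rb10918 rb10919 (Nat.ble (nat_lit 10919) i)) (Nat.ble (nat_lit 10918) i)) (Nat.ble (nat_lit 10916) i)) (@Bool.rec (fun _ => ℕ) (@Bool.rec (fun _ => ℕ) (@Bool.rec (fun _ => ℕ) rb10920 rb10921 (Nat.ble (nat_lit 10921) i)) (@Bool.rec (fun _ => ℕ) rb10922 rb10923 (Nat.ble (nat_lit 10923) i)) (Nat.ble (nat_lit 10922) i)) (@Bool.rec (fun _ => ℕ) (@Bool.rec (fun _ => ℕ) rb10924 rb10925 (Nat.ble (nat_lit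 10925) i)) (@Bool.rec (fun _ => ℕ) rb10926 rb10927 (Nat.ble (nat_lit 10927) i)) (Nat.ble (nat_lit 10926) i)) (Nat.ble (nat_lit 10924) i)) (Nat.ble (nat_lit 10920) i)) (@Bool.rec (fun _ => ℕ) (@Bool.rec (fun _ => ℕ) (@Bool.rec (fun _ => ℕ) (@Bool.rec (fun _ => ℕ) rb10928 rb10929 (Nat.ble (nat_lit 10929) i)) (@Bool.rec (fun _ => ℕ) rb10930 rb10931 (Nat.ble (nat_lit 10931) i)) (Nat.ble (nat_lit 10930) i)) (@Bool.rec (fun _ => ℕ) (@Bool.rec (fun _ => ℕ) rb10932 rb10933 (Nat.ble (nat_lit 10933) i)) (@Bool.rec (fun _ => ℕ) rb10934 rb10935 (Nat.ble (nat_lit 10935) i)) (Nat.ble (nat_lit 10934) i)) (Nat.ble (nat_lit 10932) i)) (@Bool.rec (fun _ => ℕ) (@Bool.rec (fun _ => ℕ) (@Bool.rec (fun _ => ℕ) rb10936 rb10937 (Nat.ble (nat_lit 10937) i)) (@Bool.rec (fun _ => ℕ) rb10938 rb10939 (Nat.ble (nat_lit 10939) i)) (Nat.ble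 (nat_lit 10938) i)) (@Bool.rec (fun _ => ℕ) (@Bool.rec (fun _ => ℕ) rb10940 rb10941 (Nat.ble (nat_lit 10941) i)) (@Bool.rec (fun _ => ℕ) rb10942 rb10943 (Nat.ble (nat_lit 10943) i)) (Nat.ble (nat_lit 10942) i)) (Nat.ble (nat_lit 10940) i)) (Nat.ble (nat_lit 10936) i)) (Nat.ble (nat_lit 10928) i))

def rowBlk_n0_342 (i : ℕ) : ℕ := (@Bool.rec (fun _ => ℕ) (@Bool.rec (fun _ => ℕ) (@Bool.rec (fun _ => ℕ) (@Bool.rec (fun _ => ℕ) (@Bool.rec (fun _ => ℕ) rb10944 rb10945 (Nat.ble (nat_lit 10945) i)) (@Bool.rec (fun _ => ℕ) rb10946 rb10947 (Nat.ble (nat_lit 10947) i)) (Nat.ble (nat_lit 10946) i)) (@Bool.rec (fun _ => ℕ) (@Bool.rec (fun _ => ℕ) rb10948 rb10949 (Nat.ble (nat_lit 10949) i)) (@Bool.rec (fun _ => ℕ) rb10950 rb10951 (Nat.ble (nat_lit 10951) i)) (Nat.ble (nat_lit 10950) i)) (Nat.ble (nat_lit 10948) i))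 (@Bool.rec (fun _ => ℕ) (@Bool.rec (fun _ => ℕ) (@Bool.rec (fun _ => ℕ) rb10952 rb10953 (Nat.ble (nat_lit 10953) i)) (@Bool.rec (fun _ => ℕ) rb10954 rb10955 (Nat.ble (nat_lit 10955) i)) (Nat.ble (nat_lit 10954) i)) (@Bool.rec (fun _ => ℕ) (@Bool.rec (fun _ => ℕ) rb10956 rb10957 (Nat.ble (nat_lit 10957) i)) (@Bool.rec (fun _ => ℕ) rb10958 rb10959 (Nat.ble (nat_lit 10959) i)) (Nat.ble (nat_lit 10958) i)) (Nat.ble (nat_lit 10956) i)) (Nat.ble (nat_lit 10952) i)) (@Bool.rec (fun _ => ℕ) (@Bool.rec (fun _ => ℕ) (@Bool.rec (fun _ => ℕ) (@Bool.rec (fun _ => ℕ) rb10960 rb10961 (Nat.ble (nat_lit 10961) i)) (@Bool.rec (fun _ => ℕ) rb10962 rb10963 (Nat.ble (nat_lit 10963) i)) (Nat.ble (nat_lit 10962) i)) (@Bool.rec (fun _ => ℕ) (@Bool.rec (fun _ => ℕ) rb10964 rb10965 (Nat.ble (nat_lit 10965) i)) (@Bool.rec (fun _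 => ℕ) rb10966 rb10967 (Nat.ble (nat_lit 10967) i)) (Nat.ble (nat_lit 10966) i)) (Nat.ble (nat_lit 10964) i)) (@Bool.rec (fun _ => ℕ) (@Bool.rec (fun _ => ℕ) (@Bool.rec (fun _ => ℕ) rb10968 rb10969 (Nat.ble (nat_lit 10969) i)) (@Bool.rec (fun _ => ℕ) rb10970 rb10971 (Nat.ble (nat_lit 10971) i)) (Nat.ble (nat_lit 10970) i)) (@Bool.rec (fun _ => ℕ) (@Bool.rec (fun _ => ℕ) rb10972 rb10973 (Nat.ble (nat_lit 10973) i)) (@Bool.rec (fun _ => ℕ) rb10974 rb10975 (Nat.ble (nat_lit 10975) i)) (Nat.ble (nat_lit 10974) i)) (Nat.ble (nat_lit 10972) i)) (Nat.ble (nat_lit 10968) i)) (Nat.ble (nat_lit 10960) i))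

def rowBlk_n0_343 (i : ℕ) : ℕ := (@Bool.rec (fun _ => ℕ) (@Bool.rec (fun _ => ℕ) (@Bool.rec (fun _ => ℕ) (@Bool.rec (fun _ => ℕ) (@Bool.rec (fun _ => ℕ) rb10976 rb10977 (Nat.ble (nat_lit 10977) i)) (@Bool.rec (fun _ => ℕ) rb10978 rb10979 (Nat.ble (nat_lit 10979) i)) (Nat.ble (nat_lit 10978) i)) (@Bool.rec (fun _ => ℕ) (@Bool.rec (fun _ => ℕ) rb10980 rb10981 (Nat.ble (nat_lit 10981) i)) (@Bool.rec (fun _ => ℕ) rb10982 rb10983 (Nat.ble (nat_lit 10983) i)) (Nat.ble (nat_lit 10982) i)) (Nat.ble (nat_lit 10980) i)) (@Bool.rec (fun _ => ℕ) (@Bool.rec (fun _ => ℕ) (@Bool.rec (fun _ => ℕ) rb10984 rb10985 (Nat.ble (nat_lit 10985) i)) (@Bool.rec (fun _ => ℕ) rb10986 rb10987 (Nat.ble (nat_lit 10987) i)) (Nat.ble (nat_lit 10986) i)) (@Bool.rec (fun _ => ℕ) (@Bool.rec (fun _ => ℕ) rb10988 rb10989 (Nat.ble (nat_lit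 10989) i)) (@Bool.rec (fun _ => ℕ) rb10990 rb10991 (Nat.ble (nat_lit 10991) i)) (Nat.ble (nat_lit 10990) i)) (Nat.ble (nat_lit 10988) i)) (Nat.ble (nat_lit 10984) i)) (@Bool.rec (fun _ => ℕ) (@Bool.rec (fun _ => ℕ) (@Bool.rec (fun _ => ℕ) (@Bool.rec (fun _ => ℕ) rb10992 rb10993 (Nat.ble (nat_lit 10993) i)) (@Bool.rec (fun _ => ℕ) rb10994 rb10995 (Nat.ble (nat_lit 10995) i)) (Nat.ble (nat_lit 10994) i)) (@Bool.rec (fun _ => ℕ) (@Bool.rec (fun _ => ℕ) rb10996 rb10997 (Nat.ble (nat_lit 10997) i)) (@Bool.rec (fun _ => ℕ) rb10998 rb10999 (Nat.ble (nat_lit 10999) i)) (Nat.ble (nat_lit 10998) i)) (Nat.ble (nat_lit 10996) i)) (@Bool.rec (fun _ => ℕ) (@Bool.rec (fun _ => ℕ) (@Bool.rec (fun _ => ℕ) rb11000 rb11001 (Nat.ble (nat_lit 11001) i)) (@Bool.rec (fun _ => ℕ) rb11002 rb11003 (Nat.ble (nat_lit 11003) i)) (Nat.ble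 (nat_lit 11002) i)) (@Bool.rec (fun _ => ℕ) (@Bool.rec (fun _ => ℕ) rb11004 rb11005 (Nat.ble (nat_lit 11005) i)) (@Bool.rec (fun _ => ℕ) rb11006 rb11007 (Nat.ble (nat_lit 11007) i)) (Nat.ble (nat_lit 11006) i)) (Nat.ble (nat_lit 11004) i)) (Nat.ble (nat_lit 11000) i)) (Nat.ble (nat_lit 10992) i))

def rowBlk_n0_344 (i : ℕ) : ℕ := (@Bool.rec (fun _ => ℕ) (@Bool.rec (fun _ => ℕ) (@Bool.rec (fun _ => ℕ) (@Bool.rec (fun _ => ℕ) (@Bool.rec (fun _ => ℕ) rb11008 rb11009 (Nat.ble (nat_lit 11009) i)) (@Bool.rec (fun _ => ℕ) rb11010 rb11011 (Nat.ble (nat_lit 11011) i)) (Nat.ble (nat_lit 11010) i)) (@Bool.rec (fun _ => ℕ) (@Bool.rec (fun _ => ℕ) rb11012 rb11013 (Nat.ble (nat_lit 11013) i)) (@Bool.rec (fun _ => ℕ) rb11014 rb11015 (Nat.ble (nat_lit 11015) i)) (Nat.ble (nat_lit 11014) i)) (Nat.ble (nat_lit 11012) i))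 (@Bool.rec (fun _ => ℕ) (@Bool.rec (fun _ => ℕ) (@Bool.rec (fun _ => ℕ) rb11016 rb11017 (Nat.ble (nat_lit 11017) i)) (@Bool.rec (fun _ => ℕ) rb11018 rb11019 (Nat.ble (nat_lit 11019) i)) (Nat.ble (nat_lit 11018) i)) (@Bool.rec (fun _ => ℕ) (@Bool.rec (fun _ => ℕ) rb11020 rb11021 (Nat.ble (nat_lit 11021) i)) (@Bool.rec (fun _ => ℕ) rb11022 rb11023 (Nat.ble (nat_lit 11023) i)) (Nat.ble (nat_lit 11022) i)) (Nat.ble (nat_lit 11020) i)) (Nat.ble (nat_lit 11016) i)) (@Bool.rec (fun _ => ℕ) (@Bool.rec (fun _ => ℕ) (@Bool.rec (fun _ => ℕ) (@Bool.rec (fun _ => ℕ) rb11024 rb11025 (Nat.ble (nat_lit 11025) i)) (@Bool.rec (fun _ => ℕ) rb11026 rb11027 (Nat.ble (nat_lit 11027) i)) (Nat.ble (nat_lit 11026) i)) (@Bool.rec (fun _ => ℕ) (@Bool.rec (fun _ => ℕ) rb11028 rb11029 (Nat.ble (nat_lit 11029) i)) (@Bool.rec (fun _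 => ℕ) rb11030 rb11031 (Nat.ble (nat_lit 11031) i)) (Nat.ble (nat_lit 11030) i)) (Nat.ble (nat_lit 11028) i)) (@Bool.rec (fun _ => ℕ) (@Bool.rec (fun _ => ℕ) (@Bool.rec (fun _ => ℕ) rb11032 rb11033 (Nat.ble (nat_lit 11033) i)) (@Bool.rec (fun _ => ℕ) rb11034 rb11035 (Nat.ble (nat_lit 11035) i)) (Nat.ble (nat_lit 11034) i)) (@Bool.rec (fun _ => ℕ) (@Bool.rec (fun _ => ℕ) rb11036 rb11037 (Nat.ble (nat_lit 11037) i)) (@Bool.rec (fun _ => ℕ) rb11038 rb11039 (Nat.ble (nat_lit 11039) i)) (Nat.ble (nat_lit 11038) i)) (Nat.ble (nat_lit 11036) i)) (Nat.ble (nat_lit 11032) i)) (Nat.ble (nat_lit 11024) i))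

def rowBlk_n0_345 (i : ℕ) : ℕ := (@Bool.rec (fun _ => ℕ) (@Bool.rec (fun _ => ℕ) (@Bool.rec (fun _ => ℕ) (@Bool.rec (fun _ => ℕ) (@Bool.rec (fun _ => ℕ) rb11040 rb11041 (Nat.ble (nat_lit 11041) i)) (@Bool.rec (fun _ => ℕ) rb11042 rb11043 (Nat.ble (nat_lit 11043) i)) (Nat.ble (nat_lit 11042) i)) (@Bool.rec (fun _ => ℕ) (@Bool.rec (fun _ => ℕ) rb11044 rb11045 (Nat.ble (nat_lit 11045) i)) (@Bool.rec (fun _ => ℕ) rb11046 rb11047 (Nat.ble (nat_lit 11047) i)) (Nat.ble (nat_lit 11046) i)) (Nat.ble (nat_lit 11044) i)) (@Bool.rec (fun _ => ℕ) (@Bool.rec (fun _ => ℕ) (@Bool.rec (fun _ => ℕ) rb11048 rb11049 (Nat.ble (nat_lit 11049) i)) (@Bool.rec (fun _ => ℕ) rb11050 rb11051 (Nat.ble (nat_lit 11051) i)) (Nat.ble (nat_lit 11050) i)) (@Bool.rec (fun _ => ℕ) (@Bool.rec (fun _ => ℕ) rb11052 rb11053 (Nat.ble (nat_lit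 11053) i)) (@Bool.rec (fun _ => ℕ) rb11054 rb11055 (Nat.ble (nat_lit 11055) i)) (Nat.ble (nat_lit 11054) i)) (Nat.ble (nat_lit 11052) i)) (Nat.ble (nat_lit 11048) i)) (@Bool.rec (fun _ => ℕ) (@Bool.rec (fun _ => ℕ) (@Bool.rec (fun _ => ℕ) (@Bool.rec (fun _ => ℕ) rb11056 rb11057 (Nat.ble (nat_lit 11057) i)) (@Bool.rec (fun _ => ℕ) rb11058 rb11059 (Nat.ble (nat_lit 11059) i)) (Nat.ble (nat_lit 11058) i)) (@Bool.rec (fun _ => ℕ) (@Bool.rec (fun _ => ℕ) rb11060 rb11061 (Nat.ble (nat_lit 11061) i)) (@Bool.rec (fun _ => ℕ) rb11062 rb11063 (Nat.ble (nat_lit 11063) i)) (Nat.ble (nat_lit 11062) i)) (Nat.ble (nat_lit 11060) i)) (@Bool.rec (fun _ => ℕ) (@Bool.rec (fun _ => ℕ) (@Bool.rec (fun _ => ℕ) rb11064 rb11065 (Nat.ble (nat_lit 11065) i)) (@Bool.rec (fun _ => ℕ) rb11066 rb11067 (Nat.ble (nat_lit 11067) i)) (Nat.ble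 (nat_lit 11066) i)) (@Bool.rec (fun _ => ℕ) (@Bool.rec (fun _ => ℕ) rb11068 rb11069 (Nat.ble (nat_lit 11069) i)) (@Bool.rec (fun _ => ℕ) rb11070 rb11071 (Nat.ble (nat_lit 11071) i)) (Nat.ble (nat_lit 11070) i)) (Nat.ble (nat_lit 11068) i)) (Nat.ble (nat_lit 11064) i)) (Nat.ble (nat_lit 11056) i))

def rowBlk_n0_346 (i : ℕ) : ℕ := (@Bool.rec (fun _ => ℕ) (@Bool.rec (fun _ => ℕ) (@Bool.rec (fun _ => ℕ) (@Bool.rec (fun _ => ℕ) (@Bool.rec (fun _ => ℕ) rb11072 rb11073 (Nat.ble (nat_lit 11073) i)) (@Bool.rec (fun _ => ℕ) rb11074 rb11075 (Nat.ble (nat_lit 11075) i)) (Nat.ble (nat_lit 11074) i)) (@Bool.rec (fun _ => ℕ) (@Bool.rec (fun _ => ℕ) rb11076 rb11077 (Nat.ble (nat_lit 11077) i)) (@Bool.rec (fun _ => ℕ) rb11078 rb11079 (Nat.ble (nat_lit 11079) i)) (Nat.ble (nat_lit 11078) i)) (Nat.ble (nat_lit 11076) i))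 (@Bool.rec (fun _ => ℕ) (@Bool.rec (fun _ => ℕ) (@Bool.rec (fun _ => ℕ) rb11080 rb11081 (Nat.ble (nat_lit 11081) i)) (@Bool.rec (fun _ => ℕ) rb11082 rb11083 (Nat.ble (nat_lit 11083) i)) (Nat.ble (nat_lit 11082) i)) (@Bool.rec (fun _ => ℕ) (@Bool.rec (fun _ => ℕ) rb11084 rb11085 (Nat.ble (nat_lit 11085) i)) (@Bool.rec (fun _ => ℕ) rb11086 rb11087 (Nat.ble (nat_lit 11087) i)) (Nat.ble (nat_lit 11086) i)) (Nat.ble (nat_lit 11084) i)) (Nat.ble (nat_lit 11080) i)) (@Bool.rec (fun _ => ℕ) (@Bool.rec (fun _ => ℕ) (@Bool.rec (fun _ => ℕ) (@Bool.rec (fun _ => ℕ) rb11088 rb11089 (Nat.ble (nat_lit 11089) i)) (@Bool.rec (fun _ => ℕ) rb11090 rb11091 (Nat.ble (nat_lit 11091) i)) (Nat.ble (nat_lit 11090) i)) (@Bool.rec (fun _ => ℕ) (@Bool.rec (fun _ => ℕ) rb11092 rb11093 (Nat.ble (nat_lit 11093) i)) (@Bool.rec (fun _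 => ℕ) rb11094 rb11095 (Nat.ble (nat_lit 11095) i)) (Nat.ble (nat_lit 11094) i)) (Nat.ble (nat_lit 11092) i)) (@Bool.rec (fun _ => ℕ) (@Bool.rec (fun _ => ℕ) (@Bool.rec (fun _ => ℕ) rb11096 rb11097 (Nat.ble (nat_lit 11097) i)) (@Bool.rec (fun _ => ℕ) rb11098 rb11099 (Nat.ble (nat_lit 11099) i)) (Nat.ble (nat_lit 11098) i)) (@Bool.rec (fun _ => ℕ) (@Bool.rec (fun _ => ℕ) rb11100 rb11101 (Nat.ble (nat_lit 11101) i)) (@Bool.rec (fun _ => ℕ) rb11102 rb11103 (Nat.ble (nat_lit 11103) i)) (Nat.ble (nat_lit 11102) i)) (Nat.ble (nat_lit 11100) i)) (Nat.ble (nat_lit 11096) i)) (Nat.ble (nat_lit 11088) i))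

def rowBlk_n0_347 (i : ℕ) : ℕ := (@Bool.rec (fun _ => ℕ) (@Bool.rec (fun _ => ℕ) (@Bool.rec (fun _ => ℕ) (@Bool.rec (fun _ => ℕ) (@Bool.rec (fun _ => ℕ) rb11104 rb11105 (Nat.ble (nat_lit 11105) i)) (@Bool.rec (fun _ => ℕ) rb11106 rb11107 (Nat.ble (nat_lit 11107) i)) (Nat.ble (nat_lit 11106) i)) (@Bool.rec (fun _ => ℕ) (@Bool.rec (fun _ => ℕ) rb11108 rb11109 (Nat.ble (nat_lit 11109) i)) (@Bool.rec (fun _ => ℕ) rb11110 rb11111 (Nat.ble (nat_lit 11111) i)) (Nat.ble (nat_lit 11110) i)) (Nat.ble (nat_lit 11108) i)) (@Bool.rec (fun _ => ℕ) (@Bool.rec (fun _ => ℕ) (@Bool.rec (fun _ => ℕ) rb11112 rb11113 (Nat.ble (nat_lit 11113) i)) (@Bool.rec (fun _ => ℕ) rb11114 rb11115 (Nat.ble (nat_lit 11115) i)) (Nat.ble (nat_lit 11114) i)) (@Bool.rec (fun _ => ℕ) (@Bool.rec (fun _ => ℕ) rb11116 rb11117 (Nat.ble (nat_lit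 11117) i)) (@Bool.rec (fun _ => ℕ) rb11118 rb11119 (Nat.ble (nat_lit 11119) i)) (Nat.ble (nat_lit 11118) i)) (Nat.ble (nat_lit 11116) i)) (Nat.ble (nat_lit 11112) i)) (@Bool.rec (fun _ => ℕ) (@Bool.rec (fun _ => ℕ) (@Bool.rec (fun _ => ℕ) (@Bool.rec (fun _ => ℕ) rb11120 rb11121 (Nat.ble (nat_lit 11121) i)) (@Bool.rec (fun _ => ℕ) rb11122 rb11123 (Nat.ble (nat_lit 11123) i)) (Nat.ble (nat_lit 11122) i)) (@Bool.rec (fun _ => ℕ) (@Bool.rec (fun _ => ℕ) rb11124 rb11125 (Nat.ble (nat_lit 11125) i)) (@Bool.rec (fun _ => ℕ) rb11126 rb11127 (Nat.ble (nat_lit 11127) i)) (Nat.ble (nat_lit 11126) i)) (Nat.ble (nat_lit 11124) i)) (@Bool.rec (fun _ => ℕ) (@Bool.rec (fun _ => ℕ) (@Bool.rec (fun _ => ℕ) rb11128 rb11129 (Nat.ble (nat_lit 11129) i)) (@Bool.rec (fun _ => ℕ) rb11130 rb11131 (Nat.ble (nat_lit 11131) i)) (Nat.ble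 (nat_lit 11130) i)) (@Bool.rec (fun _ => ℕ) (@Bool.rec (fun _ => ℕ) rb11132 rb11133 (Nat.ble (nat_lit 11133) i)) (@Bool.rec (fun _ => ℕ) rb11134 rb11135 (Nat.ble (nat_lit 11135) i)) (Nat.ble (nat_lit 11134) i)) (Nat.ble (nat_lit 11132) i)) (Nat.ble (nat_lit 11128) i)) (Nat.ble (nat_lit 11120) i))

def rowBlk_n0_348 (i : ℕ) : ℕ := (@Bool.rec (fun _ => ℕ) (@Bool.rec (fun _ => ℕ) (@Bool.rec (fun _ => ℕ) (@Bool.rec (fun _ => ℕ) (@Bool.rec (fun _ => ℕ) rb11136 rb11137 (Nat.ble (nat_lit 11137) i)) (@Bool.rec (fun _ => ℕ) rb11138 rb11139 (Nat.ble (nat_lit 11139) i)) (Nat.ble (nat_lit 11138) i)) (@Bool.rec (fun _ => ℕ) (@Bool.rec (fun _ => ℕ) rb11140 rb11141 (Nat.ble (nat_lit 11141) i)) (@Bool.rec (fun _ => ℕ) rb11142 rb11143 (Nat.ble (nat_lit 11143) i)) (Nat.ble (nat_lit 11142) i)) (Nat.ble (nat_lit 11140) i))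 (@Bool.rec (fun _ => ℕ) (@Bool.rec (fun _ => ℕ) (@Bool.rec (fun _ => ℕ) rb11144 rb11145 (Nat.ble (nat_lit 11145) i)) (@Bool.rec (fun _ => ℕ) rb11146 rb11147 (Nat.ble (nat_lit 11147) i)) (Nat.ble (nat_lit 11146) i)) (@Bool.rec (fun _ => ℕ) (@Bool.rec (fun _ => ℕ) rb11148 rb11149 (Nat.ble (nat_lit 11149) i)) (@Bool.rec (fun _ => ℕ) rb11150 rb11151 (Nat.ble (nat_lit 11151) i)) (Nat.ble (nat_lit 11150) i)) (Nat.ble (nat_lit 11148) i)) (Nat.ble (nat_lit 11144) i)) (@Bool.rec (fun _ => ℕ) (@Bool.rec (fun _ => ℕ) (@Bool.rec (fun _ => ℕ) (@Bool.rec (fun _ => ℕ) rb11152 rb11153 (Nat.ble (nat_lit 11153) i)) (@Bool.rec (fun _ => ℕ) rb11154 rb11155 (Nat.ble (nat_lit 11155) i)) (Nat.ble (nat_lit 11154) i)) (@Bool.rec (fun _ => ℕ) (@Bool.rec (fun _ => ℕ) rb11156 rb11157 (Nat.ble (nat_lit 11157) i)) (@Bool.rec (fun _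 => ℕ) rb11158 rb11159 (Nat.ble (nat_lit 11159) i)) (Nat.ble (nat_lit 11158) i)) (Nat.ble (nat_lit 11156) i)) (@Bool.rec (fun _ => ℕ) (@Bool.rec (fun _ => ℕ) (@Bool.rec (fun _ => ℕ) rb11160 rb11161 (Nat.ble (nat_lit 11161) i)) (@Bool.rec (fun _ => ℕ) rb11162 rb11163 (Nat.ble (nat_lit 11163) i)) (Nat.ble (nat_lit 11162) i)) (@Bool.rec (fun _ => ℕ) (@Bool.rec (fun _ => ℕ) rb11164 rb11165 (Nat.ble (nat_lit 11165) i)) (@Bool.rec (fun _ => ℕ) rb11166 rb11167 (Nat.ble (nat_lit 11167) i)) (Nat.ble (nat_lit 11166) i)) (Nat.ble (nat_lit 11164) i)) (Nat.ble (nat_lit 11160) i)) (Nat.ble (nat_lit 11152) i))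

def rowBlk_n0_349 (i : ℕ) : ℕ := (@Bool.rec (fun _ => ℕ) (@Bool.rec (fun _ => ℕ) (@Bool.rec (fun _ => ℕ) (@Bool.rec (fun _ => ℕ) (@Bool.rec (fun _ => ℕ) rb11168 rb11169 (Nat.ble (nat_lit 11169) i)) (@Bool.rec (fun _ => ℕ) rb11170 rb11171 (Nat.ble (nat_lit 11171) i)) (Nat.ble (nat_lit 11170) i)) (@Bool.rec (fun _ => ℕ) (@Bool.rec (fun _ => ℕ) rb11172 rb11173 (Nat.ble (nat_lit 11173) i)) (@Bool.rec (fun _ => ℕ) rb11174 rb11175 (Nat.ble (nat_lit 11175) i)) (Nat.ble (nat_lit 11174) i)) (Nat.ble (nat_lit 11172) i)) (@Bool.rec (fun _ => ℕ) (@Bool.rec (fun _ => ℕ) (@Bool.rec (fun _ => ℕ) rb11176 rb11177 (Nat.ble (nat_lit 11177) i)) (@Bool.rec (fun _ => ℕ) rb11178 rb11179 (Nat.ble (nat_lit 11179) i)) (Nat.ble (nat_lit 11178) i)) (@Bool.rec (fun _ => ℕ) (@Bool.rec (fun _ => ℕ) rb11180 rb11181 (Nat.ble (nat_lit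 11181) i)) (@Bool.rec (fun _ => ℕ) rb11182 rb11183 (Nat.ble (nat_lit 11183) i)) (Nat.ble (nat_lit 11182) i)) (Nat.ble (nat_lit 11180) i)) (Nat.ble (nat_lit 11176) i)) (@Bool.rec (fun _ => ℕ) (@Bool.rec (fun _ => ℕ) (@Bool.rec (fun _ => ℕ) (@Bool.rec (fun _ => ℕ) rb11184 rb11185 (Nat.ble (nat_lit 11185) i)) (@Bool.rec (fun _ => ℕ) rb11186 rb11187 (Nat.ble (nat_lit 11187) i)) (Nat.ble (nat_lit 11186) i)) (@Bool.rec (fun _ => ℕ) (@Bool.rec (fun _ => ℕ) rb11188 rb11189 (Nat.ble (nat_lit 11189) i)) (@Bool.rec (fun _ => ℕ) rb11190 rb11191 (Nat.ble (nat_lit 11191) i)) (Nat.ble (nat_lit 11190) i)) (Nat.ble (nat_lit 11188) i)) (@Bool.rec (fun _ => ℕ) (@Bool.rec (fun _ => ℕ) (@Bool.rec (fun _ => ℕ) rb11192 rb11193 (Nat.ble (nat_lit 11193) i)) (@Bool.rec (fun _ => ℕ) rb11194 rb11195 (Nat.ble (nat_lit 11195) i)) (Nat.ble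 (nat_lit 11194) i)) (@Bool.rec (fun _ => ℕ) (@Bool.rec (fun _ => ℕ) rb11196 rb11197 (Nat.ble (nat_lit 11197) i)) (@Bool.rec (fun _ => ℕ) rb11198 rb11199 (Nat.ble (nat_lit 11199) i)) (Nat.ble (nat_lit 11198) i)) (Nat.ble (nat_lit 11196) i)) (Nat.ble (nat_lit 11192) i)) (Nat.ble (nat_lit 11184) i))

def rowBlk_n0_350 (i : ℕ) : ℕ := (@Bool.rec (fun _ => ℕ) (@Bool.rec (fun _ => ℕ) (@Bool.rec (fun _ => ℕ) (@Bool.rec (fun _ => ℕ) (@Bool.rec (fun _ => ℕ) rb11200 rb11201 (Nat.ble (nat_lit 11201) i)) (@Bool.rec (fun _ => ℕ) rb11202 rb11203 (Nat.ble (nat_lit 11203) i)) (Nat.ble (nat_lit 11202) i)) (@Bool.rec (fun _ => ℕ) (@Bool.rec (fun _ => ℕ) rb11204 rb11205 (Nat.ble (nat_lit 11205) i)) (@Bool.rec (fun _ => ℕ) rb11206 rb11207 (Nat.ble (nat_lit 11207) i)) (Nat.ble (nat_lit 11206) i)) (Nat.ble (nat_lit 11204) i))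 (@Bool.rec (fun _ => ℕ) (@Bool.rec (fun _ => ℕ) (@Bool.rec (fun _ => ℕ) rb11208 rb11209 (Nat.ble (nat_lit 11209) i)) (@Bool.rec (fun _ => ℕ) rb11210 rb11211 (Nat.ble (nat_lit 11211) i)) (Nat.ble (nat_lit 11210) i)) (@Bool.rec (fun _ => ℕ) (@Bool.rec (fun _ => ℕ) rb11212 rb11213 (Nat.ble (nat_lit 11213) i)) (@Bool.rec (fun _ => ℕ) rb11214 rb11215 (Nat.ble (nat_lit 11215) i)) (Nat.ble (nat_lit 11214) i)) (Nat.ble (nat_lit 11212) i)) (Nat.ble (nat_lit 11208) i)) (@Bool.rec (fun _ => ℕ) (@Bool.rec (fun _ => ℕ) (@Bool.rec (fun _ => ℕ) (@Bool.rec (fun _ => ℕ) rb11216 rb11217 (Nat.ble (nat_lit 11217) i)) (@Bool.rec (fun _ => ℕ) rb11218 rb11219 (Nat.ble (nat_lit 11219) i)) (Nat.ble (nat_lit 11218) i)) (@Bool.rec (fun _ => ℕ) (@Bool.rec (fun _ => ℕ) rb11220 rb11221 (Nat.ble (nat_lit 11221) i)) (@Bool.rec (fun _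 => ℕ) rb11222 rb11223 (Nat.ble (nat_lit 11223) i)) (Nat.ble (nat_lit 11222) i)) (Nat.ble (nat_lit 11220) i)) (@Bool.rec (fun _ => ℕ) (@Bool.rec (fun _ => ℕ) (@Bool.rec (fun _ => ℕ) rb11224 rb11225 (Nat.ble (nat_lit 11225) i)) (@Bool.rec (fun _ => ℕ) rb11226 rb11227 (Nat.ble (nat_lit 11227) i)) (Nat.ble (nat_lit 11226) i)) (@Bool.rec (fun _ => ℕ) (@Bool.rec (fun _ => ℕ) rb11228 rb11229 (Nat.ble (nat_lit 11229) i)) (@Bool.rec (fun _ => ℕ) rb11230 rb11231 (Nat.ble (nat_lit 11231) i)) (Nat.ble (nat_lit 11230) i)) (Nat.ble (nat_lit 11228) i)) (Nat.ble (nat_lit 11224) i)) (Nat.ble (nat_lit 11216) i))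

def rowBlk_n0_351 (i : ℕ) : ℕ := (@Bool.rec (fun _ => ℕ) (@Bool.rec (fun _ => ℕ) (@Bool.rec (fun _ => ℕ) (@Bool.rec (fun _ => ℕ) (@Bool.rec (fun _ => ℕ) rb11232 rb11233 (Nat.ble (nat_lit 11233) i)) (@Bool.rec (fun _ => ℕ) rb11234 rb11235 (Nat.ble (nat_lit 11235) i)) (Nat.ble (nat_lit 11234) i)) (@Bool.rec (fun _ => ℕ) (@Bool.rec (fun _ => ℕ) rb11236 rb11237 (Nat.ble (nat_lit 11237) i)) (@Bool.rec (fun _ => ℕ) rb11238 rb11239 (Nat.ble (nat_lit 11239) i)) (Nat.ble (nat_lit 11238) i)) (Nat.ble (nat_lit 11236) i)) (@Bool.rec (fun _ => ℕ) (@Bool.rec (fun _ => ℕ) (@Bool.rec (fun _ => ℕ) rb11240 rb11241 (Nat.ble (nat_lit 11241) i)) (@Bool.rec (fun _ => ℕ) rb11242 rb11243 (Nat.ble (nat_lit 11243) i)) (Nat.ble (nat_lit 11242) i)) (@Bool.rec (fun _ => ℕ) (@Bool.rec (fun _ => ℕ) rb11244 rb11245 (Nat.ble (nat_lit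 11245) i)) (@Bool.rec (fun _ => ℕ) rb11246 rb11247 (Nat.ble (nat_lit 11247) i)) (Nat.ble (nat_lit 11246) i)) (Nat.ble (nat_lit 11244) i)) (Nat.ble (nat_lit 11240) i)) (@Bool.rec (fun _ => ℕ) (@Bool.rec (fun _ => ℕ) (@Bool.rec (fun _ => ℕ) (@Bool.rec (fun _ => ℕ) rb11248 rb11249 (Nat.ble (nat_lit 11249) i)) (@Bool.rec (fun _ => ℕ) rb11250 rb11251 (Nat.ble (nat_lit 11251) i)) (Nat.ble (nat_lit 11250) i)) (@Bool.rec (fun _ => ℕ) (@Bool.rec (fun _ => ℕ) rb11252 rb11253 (Nat.ble (nat_lit 11253) i)) (@Bool.rec (fun _ => ℕ) rb11254 rb11255 (Nat.ble (nat_lit 11255) i)) (Nat.ble (nat_lit 11254) i)) (Nat.ble (nat_lit 11252) i)) (@Bool.rec (fun _ => ℕ) (@Bool.rec (fun _ => ℕ) (@Bool.rec (fun _ => ℕ) rb11256 rb11257 (Nat.ble (nat_lit 11257) i)) (@Bool.rec (fun _ => ℕ) rb11258 rb11259 (Nat.ble (nat_lit 11259) i)) (Nat.ble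 (nat_lit 11258) i)) (@Bool.rec (fun _ => ℕ) (@Bool.rec (fun _ => ℕ) rb11260 rb11261 (Nat.ble (nat_lit 11261) i)) (@Bool.rec (fun _ => ℕ) rb11262 rb11263 (Nat.ble (nat_lit 11263) i)) (Nat.ble (nat_lit 11262) i)) (Nat.ble (nat_lit 11260) i)) (Nat.ble (nat_lit 11256) i)) (Nat.ble (nat_lit 11248) i))

def rowBlk_n0_352 (i : ℕ) : ℕ := (@Bool.rec (fun _ => ℕ) (@Bool.rec (fun _ => ℕ) (@Bool.rec (fun _ => ℕ) (@Bool.rec (fun _ => ℕ) (@Bool.rec (fun _ => ℕ) rb11264 rb11265 (Nat.ble (nat_lit 11265) i)) (@Bool.rec (fun _ => ℕ) rb11266 rb11267 (Nat.ble (nat_lit 11267) i)) (Nat.ble (nat_lit 11266) i)) (@Bool.rec (fun _ => ℕ) (@Bool.rec (fun _ => ℕ) rb11268 rb11269 (Nat.ble (nat_lit 11269) i)) (@Bool.rec (fun _ => ℕ) rb11270 rb11271 (Nat.ble (nat_lit 11271) i)) (Nat.ble (nat_lit 11270) i)) (Nat.ble (nat_lit 11268) i))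 (@Bool.rec (fun _ => ℕ) (@Bool.rec (fun _ => ℕ) (@Bool.rec (fun _ => ℕ) rb11272 rb11273 (Nat.ble (nat_lit 11273) i)) (@Bool.rec (fun _ => ℕ) rb11274 rb11275 (Nat.ble (nat_lit 11275) i)) (Nat.ble (nat_lit 11274) i)) (@Bool.rec (fun _ => ℕ) (@Bool.rec (fun _ => ℕ) rb11276 rb11277 (Nat.ble (nat_lit 11277) i)) (@Bool.rec (fun _ => ℕ) rb11278 rb11279 (Nat.ble (nat_lit 11279) i)) (Nat.ble (nat_lit 11278) i)) (Nat.ble (nat_lit 11276) i)) (Nat.ble (nat_lit 11272) i)) (@Bool.rec (fun _ => ℕ) (@Bool.rec (fun _ => ℕ) (@Bool.rec (fun _ => ℕ) (@Bool.rec (fun _ => ℕ) rb11280 rb11281 (Nat.ble (nat_lit 11281) i)) (@Bool.rec (fun _ => ℕ) rb11282 rb11283 (Nat.ble (nat_lit 11283) i)) (Nat.ble (nat_lit 11282) i)) (@Bool.rec (fun _ => ℕ) (@Bool.rec (fun _ => ℕ) rb11284 rb11285 (Nat.ble (nat_lit 11285) i)) (@Bool.rec (fun _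 => ℕ) rb11286 rb11287 (Nat.ble (nat_lit 11287) i)) (Nat.ble (nat_lit 11286) i)) (Nat.ble (nat_lit 11284) i)) (@Bool.rec (fun _ => ℕ) (@Bool.rec (fun _ => ℕ) (@Bool.rec (fun _ => ℕ) rb11288 rb11289 (Nat.ble (nat_lit 11289) i)) (@Bool.rec (fun _ => ℕ) rb11290 rb11291 (Nat.ble (nat_lit 11291) i)) (Nat.ble (nat_lit 11290) i)) (@Bool.rec (fun _ => ℕ) (@Bool.rec (fun _ => ℕ) rb11292 rb11293 (Nat.ble (nat_lit 11293) i)) (@Bool.rec (fun _ => ℕ) rb11294 rb11295 (Nat.ble (nat_lit 11295) i)) (Nat.ble (nat_lit 11294) i)) (Nat.ble (nat_lit 11292) i)) (Nat.ble (nat_lit 11288) i)) (Nat.ble (nat_lit 11280) i))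

def rowBlk_n0_353 (i : ℕ) : ℕ := (@Bool.rec (fun _ => ℕ) (@Bool.rec (fun _ => ℕ) (@Bool.rec (fun _ => ℕ) (@Bool.rec (fun _ => ℕ) (@Bool.rec (fun _ => ℕ) rb11296 rb11297 (Nat.ble (nat_lit 11297) i)) (@Bool.rec (fun _ => ℕ) rb11298 rb11299 (Nat.ble (nat_lit 11299) i)) (Nat.ble (nat_lit 11298) i)) (@Bool.rec (fun _ => ℕ) (@Bool.rec (fun _ => ℕ) rb11300 rb11301 (Nat.ble (nat_lit 11301) i)) (@Bool.rec (fun _ => ℕ) rb11302 rb11303 (Nat.ble (nat_lit 11303) i)) (Nat.ble (nat_lit 11302) i)) (Nat.ble (nat_lit 11300) i)) (@Bool.rec (fun _ => ℕ) (@Bool.rec (fun _ => ℕ) (@Bool.rec (fun _ => ℕ) rb11304 rb11305 (Nat.ble (nat_lit 11305) i)) (@Bool.rec (fun _ => ℕ) rb11306 rb11307 (Nat.ble (nat_lit 11307) i)) (Nat.ble (nat_lit 11306) i)) (@Bool.rec (fun _ => ℕ) (@Bool.rec (fun _ => ℕ) rb11308 rb11309 (Nat.ble (nat_lit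 11309) i)) (@Bool.rec (fun _ => ℕ) rb11310 rb11311 (Nat.ble (nat_lit 11311) i)) (Nat.ble (nat_lit 11310) i)) (Nat.ble (nat_lit 11308) i)) (Nat.ble (nat_lit 11304) i)) (@Bool.rec (fun _ => ℕ) (@Bool.rec (fun _ => ℕ) (@Bool.rec (fun _ => ℕ) (@Bool.rec (fun _ => ℕ) rb11312 rb11313 (Nat.ble (nat_lit 11313) i)) (@Bool.rec (fun _ => ℕ) rb11314 rb11315 (Nat.ble (nat_lit 11315) i)) (Nat.ble (nat_lit 11314) i)) (@Bool.rec (fun _ => ℕ) (@Bool.rec (fun _ => ℕ) rb11316 rb11317 (Nat.ble (nat_lit 11317) i)) (@Bool.rec (fun _ => ℕ) rb11318 rb11319 (Nat.ble (nat_lit 11319) i)) (Nat.ble (nat_lit 11318) i)) (Nat.ble (nat_lit 11316) i)) (@Bool.rec (fun _ => ℕ) (@Bool.rec (fun _ => ℕ) (@Bool.rec (fun _ => ℕ) rb11320 rb11321 (Nat.ble (nat_lit 11321) i)) (@Bool.rec (fun _ => ℕ) rb11322 rb11323 (Nat.ble (nat_lit 11323) i)) (Nat.ble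 (nat_lit 11322) i)) (@Bool.rec (fun _ => ℕ) (@Bool.rec (fun _ => ℕ) rb11324 rb11325 (Nat.ble (nat_lit 11325) i)) (@Bool.rec (fun _ => ℕ) rb11326 rb11327 (Nat.ble (nat_lit 11327) i)) (Nat.ble (nat_lit 11326) i)) (Nat.ble (nat_lit 11324) i)) (Nat.ble (nat_lit 11320) i)) (Nat.ble (nat_lit 11312) i))

def rowBlk_n0_354 (i : ℕ) : ℕ := (@Bool.rec (fun _ => ℕ) (@Bool.rec (fun _ => ℕ) (@Bool.rec (fun _ => ℕ) (@Bool.rec (fun _ => ℕ) (@Bool.rec (fun _ => ℕ) rb11328 rb11329 (Nat.ble (nat_lit 11329) i)) (@Bool.rec (fun _ => ℕ) rb11330 rb11331 (Nat.ble (nat_lit 11331) i)) (Nat.ble (nat_lit 11330) i)) (@Bool.rec (fun _ => ℕ) (@Bool.rec (fun _ => ℕ) rb11332 rb11333 (Nat.ble (nat_lit 11333) i)) (@Bool.rec (fun _ => ℕ) rb11334 rb11335 (Nat.ble (nat_lit 11335) i)) (Nat.ble (nat_lit 11334) i)) (Nat.ble (nat_lit 11332) i))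 (@Bool.rec (fun _ => ℕ) (@Bool.rec (fun _ => ℕ) (@Bool.rec (fun _ => ℕ) rb11336 rb11337 (Nat.ble (nat_lit 11337) i)) (@Bool.rec (fun _ => ℕ) rb11338 rb11339 (Nat.ble (nat_lit 11339) i)) (Nat.ble (nat_lit 11338) i)) (@Bool.rec (fun _ => ℕ) (@Bool.rec (fun _ => ℕ) rb11340 rb11341 (Nat.ble (nat_lit 11341) i)) (@Bool.rec (fun _ => ℕ) rb11342 rb11343 (Nat.ble (nat_lit 11343) i)) (Nat.ble (nat_lit 11342) i)) (Nat.ble (nat_lit 11340) i)) (Nat.ble (nat_lit 11336) i)) (@Bool.rec (fun _ => ℕ) (@Bool.rec (fun _ => ℕ) (@Bool.rec (fun _ => ℕ) (@Bool.rec (fun _ => ℕ) rb11344 rb11345 (Nat.ble (nat_lit 11345) i)) (@Bool.rec (fun _ => ℕ) rb11346 rb11347 (Nat.ble (nat_lit 11347) i)) (Nat.ble (nat_lit 11346) i)) (@Bool.rec (fun _ => ℕ) (@Bool.rec (fun _ => ℕ) rb11348 rb11349 (Nat.ble (nat_lit 11349) i)) (@Bool.rec (fun _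 => ℕ) rb11350 rb11351 (Nat.ble (nat_lit 11351) i)) (Nat.ble (nat_lit 11350) i)) (Nat.ble (nat_lit 11348) i)) (@Bool.rec (fun _ => ℕ) (@Bool.rec (fun _ => ℕ) (@Bool.rec (fun _ => ℕ) rb11352 rb11353 (Nat.ble (nat_lit 11353) i)) (@Bool.rec (fun _ => ℕ) rb11354 rb11355 (Nat.ble (nat_lit 11355) i)) (Nat.ble (nat_lit 11354) i)) (@Bool.rec (fun _ => ℕ) (@Bool.rec (fun _ => ℕ) rb11356 rb11357 (Nat.ble (nat_lit 11357) i)) (@Bool.rec (fun _ => ℕ) rb11358 rb11359 (Nat.ble (nat_lit 11359) i)) (Nat.ble (nat_lit 11358) i)) (Nat.ble (nat_lit 11356) i)) (Nat.ble (nat_lit 11352) i)) (Nat.ble (nat_lit 11344) i))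

def rowBlk_n0_355 (i : ℕ) : ℕ := (@Bool.rec (fun _ => ℕ) (@Bool.rec (fun _ => ℕ) (@Bool.rec (fun _ => ℕ) (@Bool.rec (fun _ => ℕ) (@Bool.rec (fun _ => ℕ) rb11360 rb11361 (Nat.ble (nat_lit 11361) i)) (@Bool.rec (fun _ => ℕ) rb11362 rb11363 (Nat.ble (nat_lit 11363) i)) (Nat.ble (nat_lit 11362) i)) (@Bool.rec (fun _ => ℕ) (@Bool.rec (fun _ => ℕ) rb11364 rb11365 (Nat.ble (nat_lit 11365) i)) (@Bool.rec (fun _ => ℕ) rb11366 rb11367 (Nat.ble (nat_lit 11367) i)) (Nat.ble (nat_lit 11366) i)) (Nat.ble (nat_lit 11364) i)) (@Bool.rec (fun _ => ℕ) (@Bool.rec (fun _ => ℕ) (@Bool.rec (fun _ => ℕ) rb11368 rb11369 (Nat.ble (nat_lit 11369) i)) (@Bool.rec (fun _ => ℕ) rb11370 rb11371 (Nat.ble (nat_lit 11371) i)) (Nat.ble (nat_lit 11370) i)) (@Bool.rec (fun _ => ℕ) (@Bool.rec (fun _ => ℕ) rb11372 rb11373 (Nat.ble (nat_lit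 11373) i)) (@Bool.rec (fun _ => ℕ) rb11374 rb11375 (Nat.ble (nat_lit 11375) i)) (Nat.ble (nat_lit 11374) i)) (Nat.ble (nat_lit 11372) i)) (Nat.ble (nat_lit 11368) i)) (@Bool.rec (fun _ => ℕ) (@Bool.rec (fun _ => ℕ) (@Bool.rec (fun _ => ℕ) (@Bool.rec (fun _ => ℕ) rb11376 rb11377 (Nat.ble (nat_lit 11377) i)) (@Bool.rec (fun _ => ℕ) rb11378 rb11379 (Nat.ble (nat_lit 11379) i)) (Nat.ble (nat_lit 11378) i)) (@Bool.rec (fun _ => ℕ) (@Bool.rec (fun _ => ℕ) rb11380 rb11381 (Nat.ble (nat_lit 11381) i)) (@Bool.rec (fun _ => ℕ) rb11382 rb11383 (Nat.ble (nat_lit 11383) i)) (Nat.ble (nat_lit 11382) i)) (Nat.ble (nat_lit 11380) i)) (@Bool.rec (fun _ => ℕ) (@Bool.rec (fun _ => ℕ) (@Bool.rec (fun _ => ℕ) rb11384 rb11385 (Nat.ble (nat_lit 11385) i)) (@Bool.rec (fun _ => ℕ) rb11386 rb11387 (Nat.ble (nat_lit 11387) i)) (Nat.ble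 (nat_lit 11386) i)) (@Bool.rec (fun _ => ℕ) (@Bool.rec (fun _ => ℕ) rb11388 rb11389 (Nat.ble (nat_lit 11389) i)) (@Bool.rec (fun _ => ℕ) rb11390 rb11391 (Nat.ble (nat_lit 11391) i)) (Nat.ble (nat_lit 11390) i)) (Nat.ble (nat_lit 11388) i)) (Nat.ble (nat_lit 11384) i)) (Nat.ble (nat_lit 11376) i))

def rowBlk_n0_356 (i : ℕ) : ℕ := (@Bool.rec (fun _ => ℕ) (@Bool.rec (fun _ => ℕ) (@Bool.rec (fun _ => ℕ) (@Bool.rec (fun _ => ℕ) (@Bool.rec (fun _ => ℕ) rb11392 rb11393 (Nat.ble (nat_lit 11393) i)) (@Bool.rec (fun _ => ℕ) rb11394 rb11395 (Nat.ble (nat_lit 11395) i)) (Nat.ble (nat_lit 11394) i)) (@Bool.rec (fun _ => ℕ) (@Bool.rec (fun _ => ℕ) rb11396 rb11397 (Nat.ble (nat_lit 11397) i)) (@Bool.rec (fun _ => ℕ) rb11398 rb11399 (Nat.ble (nat_lit 11399) i)) (Nat.ble (nat_lit 11398) i)) (Nat.ble (nat_lit 11396) i))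 (@Bool.rec (fun _ => ℕ) (@Bool.rec (fun _ => ℕ) (@Bool.rec (fun _ => ℕ) rb11400 rb11401 (Nat.ble (nat_lit 11401) i)) (@Bool.rec (fun _ => ℕ) rb11402 rb11403 (Nat.ble (nat_lit 11403) i)) (Nat.ble (nat_lit 11402) i)) (@Bool.rec (fun _ => ℕ) (@Bool.rec (fun _ => ℕ) rb11404 rb11405 (Nat.ble (nat_lit 11405) i)) (@Bool.rec (fun _ => ℕ) rb11406 rb11407 (Nat.ble (nat_lit 11407) i)) (Nat.ble (nat_lit 11406) i)) (Nat.ble (nat_lit 11404) i)) (Nat.ble (nat_lit 11400) i)) (@Bool.rec (fun _ => ℕ) (@Bool.rec (fun _ => ℕ) (@Bool.rec (fun _ => ℕ) (@Bool.rec (fun _ => ℕ) rb11408 rb11409 (Nat.ble (nat_lit 11409) i)) (@Bool.rec (fun _ => ℕ) rb11410 rb11411 (Nat.ble (nat_lit 11411) i)) (Nat.ble (nat_lit 11410) i)) (@Bool.rec (fun _ => ℕ) (@Bool.rec (fun _ => ℕ) rb11412 rb11413 (Nat.ble (nat_lit 11413) i)) (@Bool.rec (fun _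 => ℕ) rb11414 rb11415 (Nat.ble (nat_lit 11415) i)) (Nat.ble (nat_lit 11414) i)) (Nat.ble (nat_lit 11412) i)) (@Bool.rec (fun _ => ℕ) (@Bool.rec (fun _ => ℕ) (@Bool.rec (fun _ => ℕ) rb11416 rb11417 (Nat.ble (nat_lit 11417) i)) (@Bool.rec (fun _ => ℕ) rb11418 rb11419 (Nat.ble (nat_lit 11419) i)) (Nat.ble (nat_lit 11418) i)) (@Bool.rec (fun _ => ℕ) (@Bool.rec (fun _ => ℕ) rb11420 rb11421 (Nat.ble (nat_lit 11421) i)) (@Bool.rec (fun _ => ℕ) rb11422 rb11423 (Nat.ble (nat_lit 11423) i)) (Nat.ble (nat_lit 11422) i)) (Nat.ble (nat_lit 11420) i)) (Nat.ble (nat_lit 11416) i)) (Nat.ble (nat_lit 11408) i))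

def rowBlk_n0_357 (i : ℕ) : ℕ := (@Bool.rec (fun _ => ℕ) (@Bool.rec (fun _ => ℕ) (@Bool.rec (fun _ => ℕ) (@Bool.rec (fun _ => ℕ) (@Bool.rec (fun _ => ℕ) rb11424 rb11425 (Nat.ble (nat_lit 11425) i)) (@Bool.rec (fun _ => ℕ) rb11426 rb11427 (Nat.ble (nat_lit 11427) i)) (Nat.ble (nat_lit 11426) i)) (@Bool.rec (fun _ => ℕ) (@Bool.rec (fun _ => ℕ) rb11428 rb11429 (Nat.ble (nat_lit 11429) i)) (@Bool.rec (fun _ => ℕ) rb11430 rb11431 (Nat.ble (nat_lit 11431) i)) (Nat.ble (nat_lit 11430) i)) (Nat.ble (nat_lit 11428) i)) (@Bool.rec (fun _ => ℕ) (@Bool.rec (fun _ => ℕ) (@Bool.rec (fun _ => ℕ) rb11432 rb11433 (Nat.ble (nat_lit 11433) i)) (@Bool.rec (fun _ => ℕ) rb11434 rb11435 (Nat.ble (nat_lit 11435) i)) (Nat.ble (nat_lit 11434) i)) (@Bool.rec (fun _ => ℕ) (@Bool.rec (fun _ => ℕ) rb11436 rb11437 (Nat.ble (nat_lit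 11437) i)) (@Bool.rec (fun _ => ℕ) rb11438 rb11439 (Nat.ble (nat_lit 11439) i)) (Nat.ble (nat_lit 11438) i)) (Nat.ble (nat_lit 11436) i)) (Nat.ble (nat_lit 11432) i)) (@Bool.rec (fun _ => ℕ) (@Bool.rec (fun _ => ℕ) (@Bool.rec (fun _ => ℕ) (@Bool.rec (fun _ => ℕ) rb11440 rb11441 (Nat.ble (nat_lit 11441) i)) (@Bool.rec (fun _ => ℕ) rb11442 rb11443 (Nat.ble (nat_lit 11443) i)) (Nat.ble (nat_lit 11442) i)) (@Bool.rec (fun _ => ℕ) (@Bool.rec (fun _ => ℕ) rb11444 rb11445 (Nat.ble (nat_lit 11445) i)) (@Bool.rec (fun _ => ℕ) rb11446 rb11447 (Nat.ble (nat_lit 11447) i)) (Nat.ble (nat_lit 11446) i)) (Nat.ble (nat_lit 11444) i)) (@Bool.rec (fun _ => ℕ) (@Bool.rec (fun _ => ℕ) (@Bool.rec (fun _ => ℕ) rb11448 rb11449 (Nat.ble (nat_lit 11449) i)) (@Bool.rec (fun _ => ℕ) rb11450 rb11451 (Nat.ble (nat_lit 11451) i)) (Nat.ble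 (nat_lit 11450) i)) (@Bool.rec (fun _ => ℕ) (@Bool.rec (fun _ => ℕ) rb11452 rb11453 (Nat.ble (nat_lit 11453) i)) (@Bool.rec (fun _ => ℕ) rb11454 rb11455 (Nat.ble (nat_lit 11455) i)) (Nat.ble (nat_lit 11454) i)) (Nat.ble (nat_lit 11452) i)) (Nat.ble (nat_lit 11448) i)) (Nat.ble (nat_lit 11440) i))

def rowBlk_n0_358 (i : ℕ) : ℕ := (@Bool.rec (fun _ => ℕ) (@Bool.rec (fun _ => ℕ) (@Bool.rec (fun _ => ℕ) (@Bool.rec (fun _ => ℕ) (@Bool.rec (fun _ => ℕ) rb11456 rb11457 (Nat.ble (nat_lit 11457) i)) (@Bool.rec (fun _ => ℕ) rb11458 rb11459 (Nat.ble (nat_lit 11459) i)) (Nat.ble (nat_lit 11458) i)) (@Bool.rec (fun _ => ℕ) (@Bool.rec (fun _ => ℕ) rb11460 rb11461 (Nat.ble (nat_lit 11461) i)) (@Bool.rec (fun _ => ℕ) rb11462 rb11463 (Nat.ble (nat_lit 11463) i)) (Nat.ble (nat_lit 11462) i)) (Nat.ble (nat_lit 11460) i))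 (@Bool.rec (fun _ => ℕ) (@Bool.rec (fun _ => ℕ) (@Bool.rec (fun _ => ℕ) rb11464 rb11465 (Nat.ble (nat_lit 11465) i)) (@Bool.rec (fun _ => ℕ) rb11466 rb11467 (Nat.ble (nat_lit 11467) i)) (Nat.ble (nat_lit 11466) i)) (@Bool.rec (fun _ => ℕ) (@Bool.rec (fun _ => ℕ) rb11468 rb11469 (Nat.ble (nat_lit 11469) i)) (@Bool.rec (fun _ => ℕ) rb11470 rb11471 (Nat.ble (nat_lit 11471) i)) (Nat.ble (nat_lit 11470) i)) (Nat.ble (nat_lit 11468) i)) (Nat.ble (nat_lit 11464) i)) (@Bool.rec (fun _ => ℕ) (@Bool.rec (fun _ => ℕ) (@Bool.rec (fun _ => ℕ) (@Bool.rec (fun _ => ℕ) rb11472 rb11473 (Nat.ble (nat_lit 11473) i)) (@Bool.rec (fun _ => ℕ) rb11474 rb11475 (Nat.ble (nat_lit 11475) i)) (Nat.ble (nat_lit 11474) i)) (@Bool.rec (fun _ => ℕ) (@Bool.rec (fun _ => ℕ) rb11476 rb11477 (Nat.ble (nat_lit 11477) i)) (@Bool.rec (fun _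 => ℕ) rb11478 rb11479 (Nat.ble (nat_lit 11479) i)) (Nat.ble (nat_lit 11478) i)) (Nat.ble (nat_lit 11476) i)) (@Bool.rec (fun _ => ℕ) (@Bool.rec (fun _ => ℕ) (@Bool.rec (fun _ => ℕ) rb11480 rb11481 (Nat.ble (nat_lit 11481) i)) (@Bool.rec (fun _ => ℕ) rb11482 rb11483 (Nat.ble (nat_lit 11483) i)) (Nat.ble (nat_lit 11482) i)) (@Bool.rec (fun _ => ℕ) (@Bool.rec (fun _ => ℕ) rb11484 rb11485 (Nat.ble (nat_lit 11485) i)) (@Bool.rec (fun _ => ℕ) rb11486 rb11487 (Nat.ble (nat_lit 11487) i)) (Nat.ble (nat_lit 11486) i)) (Nat.ble (nat_lit 11484) i)) (Nat.ble (nat_lit 11480) i)) (Nat.ble (nat_lit 11472) i))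

def rowBlk_n0_359 (i : ℕ) : ℕ := (@Bool.rec (fun _ => ℕ) (@Bool.rec (fun _ => ℕ) (@Bool.rec (fun _ => ℕ) (@Bool.rec (fun _ => ℕ) (@Bool.rec (fun _ => ℕ) rb11488 rb11489 (Nat.ble (nat_lit 11489) i)) (@Bool.rec (fun _ => ℕ) rb11490 rb11491 (Nat.ble (nat_lit 11491) i)) (Nat.ble (nat_lit 11490) i)) (@Bool.rec (fun _ => ℕ) (@Bool.rec (fun _ => ℕ) rb11492 rb11493 (Nat.ble (nat_lit 11493) i)) (@Bool.rec (fun _ => ℕ) rb11494 rb11495 (Nat.ble (nat_lit 11495) i)) (Nat.ble (nat_lit 11494) i)) (Nat.ble (nat_lit 11492) i)) (@Bool.rec (fun _ => ℕ) (@Bool.rec (fun _ => ℕ) (@Bool.rec (fun _ => ℕ) rb11496 rb11497 (Nat.ble (nat_lit 11497) i)) (@Bool.rec (fun _ => ℕ) rb11498 rb11499 (Nat.ble (nat_lit 11499) i)) (Nat.ble (nat_lit 11498) i)) (@Bool.rec (fun _ => ℕ) (@Bool.rec (fun _ => ℕ) rb11500 rb11501 (Nat.ble (nat_lit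 11501) i)) (@Bool.rec (fun _ => ℕ) rb11502 rb11503 (Nat.ble (nat_lit 11503) i)) (Nat.ble (nat_lit 11502) i)) (Nat.ble (nat_lit 11500) i)) (Nat.ble (nat_lit 11496) i)) (@Bool.rec (fun _ => ℕ) (@Bool.rec (fun _ => ℕ) (@Bool.rec (fun _ => ℕ) (@Bool.rec (fun _ => ℕ) rb11504 rb11505 (Nat.ble (nat_lit 11505) i)) (@Bool.rec (fun _ => ℕ) rb11506 rb11507 (Nat.ble (nat_lit 11507) i)) (Nat.ble (nat_lit 11506) i)) (@Bool.rec (fun _ => ℕ) (@Bool.rec (fun _ => ℕ) rb11508 rb11509 (Nat.ble (nat_lit 11509) i)) (@Bool.rec (fun _ => ℕ) rb11510 rb11511 (Nat.ble (nat_lit 11511) i)) (Nat.ble (nat_lit 11510) i)) (Nat.ble (nat_lit 11508) i)) (@Bool.rec (fun _ => ℕ) (@Bool.rec (fun _ => ℕ) (@Bool.rec (fun _ => ℕ) rb11512 rb11513 (Nat.ble (nat_lit 11513) i)) (@Bool.rec (fun _ => ℕ) rb11514 rb11515 (Nat.ble (nat_lit 11515) i)) (Nat.ble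 (nat_lit 11514) i)) (@Bool.rec (fun _ => ℕ) (@Bool.rec (fun _ => ℕ) rb11516 rb11517 (Nat.ble (nat_lit 11517) i)) (@Bool.rec (fun _ => ℕ) rb11518 rb11519 (Nat.ble (nat_lit 11519) i)) (Nat.ble (nat_lit 11518) i)) (Nat.ble (nat_lit 11516) i)) (Nat.ble (nat_lit 11512) i)) (Nat.ble (nat_lit 11504) i))

def rowBlk_n0_360 (i : ℕ) : ℕ := (@Bool.rec (fun _ => ℕ) (@Bool.rec (fun _ => ℕ) (@Bool.rec (fun _ => ℕ) (@Bool.rec (fun _ => ℕ) (@Bool.rec (fun _ => ℕ) rb11520 rb11521 (Nat.ble (nat_lit 11521) i)) (@Bool.rec (fun _ => ℕ) rb11522 rb11523 (Nat.ble (nat_lit 11523) i)) (Nat.ble (nat_lit 11522) i)) (@Bool.rec (fun _ => ℕ) (@Bool.rec (fun _ => ℕ) rb11524 rb11525 (Nat.ble (nat_lit 11525) i)) (@Bool.rec (fun _ => ℕ) rb11526 rb11527 (Nat.ble (nat_lit 11527) i)) (Nat.ble (nat_lit 11526) i)) (Nat.ble (nat_lit 11524) i))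 (@Bool.rec (fun _ => ℕ) (@Bool.rec (fun _ => ℕ) (@Bool.rec (fun _ => ℕ) rb11528 rb11529 (Nat.ble (nat_lit 11529) i)) (@Bool.rec (fun _ => ℕ) rb11530 rb11531 (Nat.ble (nat_lit 11531) i)) (Nat.ble (nat_lit 11530) i)) (@Bool.rec (fun _ => ℕ) (@Bool.rec (fun _ => ℕ) rb11532 rb11533 (Nat.ble (nat_lit 11533) i)) (@Bool.rec (fun _ => ℕ) rb11534 rb11535 (Nat.ble (nat_lit 11535) i)) (Nat.ble (nat_lit 11534) i)) (Nat.ble (nat_lit 11532) i)) (Nat.ble (nat_lit 11528) i)) (@Bool.rec (fun _ => ℕ) (@Bool.rec (fun _ => ℕ) (@Bool.rec (fun _ => ℕ) (@Bool.rec (fun _ => ℕ) rb11536 rb11537 (Nat.ble (nat_lit 11537) i)) (@Bool.rec (fun _ => ℕ) rb11538 rb11539 (Nat.ble (nat_lit 11539) i)) (Nat.ble (nat_lit 11538) i)) (@Bool.rec (fun _ => ℕ) (@Bool.rec (fun _ => ℕ) rb11540 rb11541 (Nat.ble (nat_lit 11541) i)) (@Bool.rec (fun _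 => ℕ) rb11542 rb11543 (Nat.ble (nat_lit 11543) i)) (Nat.ble (nat_lit 11542) i)) (Nat.ble (nat_lit 11540) i)) (@Bool.rec (fun _ => ℕ) (@Bool.rec (fun _ => ℕ) (@Bool.rec (fun _ => ℕ) rb11544 rb11545 (Nat.ble (nat_lit 11545) i)) (@Bool.rec (fun _ => ℕ) rb11546 rb11547 (Nat.ble (nat_lit 11547) i)) (Nat.ble (nat_lit 11546) i)) (@Bool.rec (fun _ => ℕ) (@Bool.rec (fun _ => ℕ) rb11548 rb11549 (Nat.ble (nat_lit 11549) i)) (@Bool.rec (fun _ => ℕ) rb11550 rb11551 (Nat.ble (nat_lit 11551) i)) (Nat.ble (nat_lit 11550) i)) (Nat.ble (nat_lit 11548) i)) (Nat.ble (nat_lit 11544) i)) (Nat.ble (nat_lit 11536) i))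

def rowBlk_n0_361 (i : ℕ) : ℕ := (@Bool.rec (fun _ => ℕ) (@Bool.rec (fun _ => ℕ) (@Bool.rec (fun _ => ℕ) (@Bool.rec (fun _ => ℕ) (@Bool.rec (fun _ => ℕ) rb11552 rb11553 (Nat.ble (nat_lit 11553) i)) (@Bool.rec (fun _ => ℕ) rb11554 rb11555 (Nat.ble (nat_lit 11555) i)) (Nat.ble (nat_lit 11554) i)) (@Bool.rec (fun _ => ℕ) (@Bool.rec (fun _ => ℕ) rb11556 rb11557 (Nat.ble (nat_lit 11557) i)) (@Bool.rec (fun _ => ℕ) rb11558 rb11559 (Nat.ble (nat_lit 11559) i)) (Nat.ble (nat_lit 11558) i)) (Nat.ble (nat_lit 11556) i)) (@Bool.rec (fun _ => ℕ) (@Bool.rec (fun _ => ℕ) (@Bool.rec (fun _ => ℕ) rb11560 rb11561 (Nat.ble (nat_lit 11561) i)) (@Bool.rec (fun _ => ℕ) rb11562 rb11563 (Nat.ble (nat_lit 11563) i)) (Nat.ble (nat_lit 11562) i)) (@Bool.rec (fun _ => ℕ) (@Bool.rec (fun _ => ℕ) rb11564 rb11565 (Nat.ble (nat_lit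 11565) i)) (@Bool.rec (fun _ => ℕ) rb11566 rb11567 (Nat.ble (nat_lit 11567) i)) (Nat.ble (nat_lit 11566) i)) (Nat.ble (nat_lit 11564) i)) (Nat.ble (nat_lit 11560) i)) (@Bool.rec (fun _ => ℕ) (@Bool.rec (fun _ => ℕ) (@Bool.rec (fun _ => ℕ) (@Bool.rec (fun _ => ℕ) rb11568 rb11569 (Nat.ble (nat_lit 11569) i)) (@Bool.rec (fun _ => ℕ) rb11570 rb11571 (Nat.ble (nat_lit 11571) i)) (Nat.ble (nat_lit 11570) i)) (@Bool.rec (fun _ => ℕ) (@Bool.rec (fun _ => ℕ) rb11572 rb11573 (Nat.ble (nat_lit 11573) i)) (@Bool.rec (fun _ => ℕ) rb11574 rb11575 (Nat.ble (nat_lit 11575) i)) (Nat.ble (nat_lit 11574) i)) (Nat.ble (nat_lit 11572) i)) (@Bool.rec (fun _ => ℕ) (@Bool.rec (fun _ => ℕ) (@Bool.rec (fun _ => ℕ) rb11576 rb11577 (Nat.ble (nat_lit 11577) i)) (@Bool.rec (fun _ => ℕ) rb11578 rb11579 (Nat.ble (nat_lit 11579) i)) (Nat.ble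 (nat_lit 11578) i)) (@Bool.rec (fun _ => ℕ) (@Bool.rec (fun _ => ℕ) rb11580 rb11581 (Nat.ble (nat_lit 11581) i)) (@Bool.rec (fun _ => ℕ) rb11582 rb11583 (Nat.ble (nat_lit 11583) i)) (Nat.ble (nat_lit 11582) i)) (Nat.ble (nat_lit 11580) i)) (Nat.ble (nat_lit 11576) i)) (Nat.ble (nat_lit 11568) i))

def rowBlk_n0_362 (i : ℕ) : ℕ := (@Bool.rec (fun _ => ℕ) (@Bool.rec (fun _ => ℕ) (@Bool.rec (fun _ => ℕ) (@Bool.rec (fun _ => ℕ) (@Bool.rec (fun _ => ℕ) rb11584 rb11585 (Nat.ble (nat_lit 11585) i)) (@Bool.rec (fun _ => ℕ) rb11586 rb11587 (Nat.ble (nat_lit 11587) i)) (Nat.ble (nat_lit 11586) i)) (@Bool.rec (fun _ => ℕ) (@Bool.rec (fun _ => ℕ) rb11588 rb11589 (Nat.ble (nat_lit 11589) i)) (@Bool.rec (fun _ => ℕ) rb11590 rb11591 (Nat.ble (nat_lit 11591) i)) (Nat.ble (nat_lit 11590) i)) (Nat.ble (nat_lit 11588) i))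 (@Bool.rec (fun _ => ℕ) (@Bool.rec (fun _ => ℕ) (@Bool.rec (fun _ => ℕ) rb11592 rb11593 (Nat.ble (nat_lit 11593) i)) (@Bool.rec (fun _ => ℕ) rb11594 rb11595 (Nat.ble (nat_lit 11595) i)) (Nat.ble (nat_lit 11594) i)) (@Bool.rec (fun _ => ℕ) (@Bool.rec (fun _ => ℕ) rb11596 rb11597 (Nat.ble (nat_lit 11597) i)) (@Bool.rec (fun _ => ℕ) rb11598 rb11599 (Nat.ble (nat_lit 11599) i)) (Nat.ble (nat_lit 11598) i)) (Nat.ble (nat_lit 11596) i)) (Nat.ble (nat_lit 11592) i)) (@Bool.rec (fun _ => ℕ) (@Bool.rec (fun _ => ℕ) (@Bool.rec (fun _ => ℕ) (@Bool.rec (fun _ => ℕ) rb11600 rb11601 (Nat.ble (nat_lit 11601) i)) (@Bool.rec (fun _ => ℕ) rb11602 rb11603 (Nat.ble (nat_lit 11603) i)) (Nat.ble (nat_lit 11602) i)) (@Bool.rec (fun _ => ℕ) (@Bool.rec (fun _ => ℕ) rb11604 rb11605 (Nat.ble (nat_lit 11605) i)) (@Bool.rec (fun _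 => ℕ) rb11606 rb11607 (Nat.ble (nat_lit 11607) i)) (Nat.ble (nat_lit 11606) i)) (Nat.ble (nat_lit 11604) i)) (@Bool.rec (fun _ => ℕ) (@Bool.rec (fun _ => ℕ) (@Bool.rec (fun _ => ℕ) rb11608 rb11609 (Nat.ble (nat_lit 11609) i)) (@Bool.rec (fun _ => ℕ) rb11610 rb11611 (Nat.ble (nat_lit 11611) i)) (Nat.ble (nat_lit 11610) i)) (@Bool.rec (fun _ => ℕ) (@Bool.rec (fun _ => ℕ) rb11612 rb11613 (Nat.ble (nat_lit 11613) i)) (@Bool.rec (fun _ => ℕ) rb11614 rb11615 (Nat.ble (nat_lit 11615) i)) (Nat.ble (nat_lit 11614) i)) (Nat.ble (nat_lit 11612) i)) (Nat.ble (nat_lit 11608) i)) (Nat.ble (nat_lit 11600) i))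

def rowBlk_n0_363 (i : ℕ) : ℕ := (@Bool.rec (fun _ => ℕ) (@Bool.rec (fun _ => ℕ) (@Bool.rec (fun _ => ℕ) (@Bool.rec (fun _ => ℕ) (@Bool.rec (fun _ => ℕ) rb11616 rb11617 (Nat.ble (nat_lit 11617) i)) (@Bool.rec (fun _ => ℕ) rb11618 rb11619 (Nat.ble (nat_lit 11619) i)) (Nat.ble (nat_lit 11618) i)) (@Bool.rec (fun _ => ℕ) (@Bool.rec (fun _ => ℕ) rb11620 rb11621 (Nat.ble (nat_lit 11621) i)) (@Bool.rec (fun _ => ℕ) rb11622 rb11623 (Nat.ble (nat_lit 11623) i)) (Nat.ble (nat_lit 11622) i)) (Nat.ble (nat_lit 11620) i)) (@Bool.rec (fun _ => ℕ) (@Bool.rec (fun _ => ℕ) (@Bool.rec (fun _ => ℕ) rb11624 rb11625 (Nat.ble (nat_lit 11625) i)) (@Bool.rec (fun _ => ℕ) rb11626 rb11627 (Nat.ble (nat_lit 11627) i)) (Nat.ble (nat_lit 11626) i)) (@Bool.rec (fun _ => ℕ) (@Bool.rec (fun _ => ℕ) rb11628 rb11629 (Nat.ble (nat_lit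 11629) i)) (@Bool.rec (fun _ => ℕ) rb11630 rb11631 (Nat.ble (nat_lit 11631) i)) (Nat.ble (nat_lit 11630) i)) (Nat.ble (nat_lit 11628) i)) (Nat.ble (nat_lit 11624) i)) (@Bool.rec (fun _ => ℕ) (@Bool.rec (fun _ => ℕ) (@Bool.rec (fun _ => ℕ) (@Bool.rec (fun _ => ℕ) rb11632 rb11633 (Nat.ble (nat_lit 11633) i)) (@Bool.rec (fun _ => ℕ) rb11634 rb11635 (Nat.ble (nat_lit 11635) i)) (Nat.ble (nat_lit 11634) i)) (@Bool.rec (fun _ => ℕ) (@Bool.rec (fun _ => ℕ) rb11636 rb11637 (Nat.ble (nat_lit 11637) i)) (@Bool.rec (fun _ => ℕ) rb11638 rb11639 (Nat.ble (nat_lit 11639) i)) (Nat.ble (nat_lit 11638) i)) (Nat.ble (nat_lit 11636) i)) (@Bool.rec (fun _ => ℕ) (@Bool.rec (fun _ => ℕ) (@Bool.rec (fun _ => ℕ) rb11640 rb11641 (Nat.ble (nat_lit 11641) i)) (@Bool.rec (fun _ => ℕ) rb11642 rb11643 (Nat.ble (nat_lit 11643) i)) (Nat.ble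 (nat_lit 11642) i)) (@Bool.rec (fun _ => ℕ) (@Bool.rec (fun _ => ℕ) rb11644 rb11645 (Nat.ble (nat_lit 11645) i)) (@Bool.rec (fun _ => ℕ) rb11646 rb11647 (Nat.ble (nat_lit 11647) i)) (Nat.ble (nat_lit 11646) i)) (Nat.ble (nat_lit 11644) i)) (Nat.ble (nat_lit 11640) i)) (Nat.ble (nat_lit 11632) i))

def rowBlk_n0_364 (i : ℕ) : ℕ := (@Bool.rec (fun _ => ℕ) (@Bool.rec (fun _ => ℕ) (@Bool.rec (fun _ => ℕ) (@Bool.rec (fun _ => ℕ) (@Bool.rec (fun _ => ℕ) rb11648 rb11649 (Nat.ble (nat_lit 11649) i)) (@Bool.rec (fun _ => ℕ) rb11650 rb11651 (Nat.ble (nat_lit 11651) i)) (Nat.ble (nat_lit 11650) i)) (@Bool.rec (fun _ => ℕ) (@Bool.rec (fun _ => ℕ) rb11652 rb11653 (Nat.ble (nat_lit 11653) i)) (@Bool.rec (fun _ => ℕ) rb11654 rb11655 (Nat.ble (nat_lit 11655) i)) (Nat.ble (nat_lit 11654) i)) (Nat.ble (nat_lit 11652) i))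 (@Bool.rec (fun _ => ℕ) (@Bool.rec (fun _ => ℕ) (@Bool.rec (fun _ => ℕ) rb11656 rb11657 (Nat.ble (nat_lit 11657) i)) (@Bool.rec (fun _ => ℕ) rb11658 rb11659 (Nat.ble (nat_lit 11659) i)) (Nat.ble (nat_lit 11658) i)) (@Bool.rec (fun _ => ℕ) (@Bool.rec (fun _ => ℕ) rb11660 rb11661 (Nat.ble (nat_lit 11661) i)) (@Bool.rec (fun _ => ℕ) rb11662 rb11663 (Nat.ble (nat_lit 11663) i)) (Nat.ble (nat_lit 11662) i)) (Nat.ble (nat_lit 11660) i)) (Nat.ble (nat_lit 11656) i)) (@Bool.rec (fun _ => ℕ) (@Bool.rec (fun _ => ℕ) (@Bool.rec (fun _ => ℕ) (@Bool.rec (fun _ => ℕ) rb11664 rb11665 (Nat.ble (nat_lit 11665) i)) (@Bool.rec (fun _ => ℕ) rb11666 rb11667 (Nat.ble (nat_lit 11667) i)) (Nat.ble (nat_lit 11666) i)) (@Bool.rec (fun _ => ℕ) (@Bool.rec (fun _ => ℕ) rb11668 rb11669 (Nat.ble (nat_lit 11669) i)) (@Bool.rec (fun _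 => ℕ) rb11670 rb11671 (Nat.ble (nat_lit 11671) i)) (Nat.ble (nat_lit 11670) i)) (Nat.ble (nat_lit 11668) i)) (@Bool.rec (fun _ => ℕ) (@Bool.rec (fun _ => ℕ) (@Bool.rec (fun _ => ℕ) rb11672 rb11673 (Nat.ble (nat_lit 11673) i)) (@Bool.rec (fun _ => ℕ) rb11674 rb11675 (Nat.ble (nat_lit 11675) i)) (Nat.ble (nat_lit 11674) i)) (@Bool.rec (fun _ => ℕ) (@Bool.rec (fun _ => ℕ) rb11676 rb11677 (Nat.ble (nat_lit 11677) i)) (@Bool.rec (fun _ => ℕ) rb11678 rb11679 (Nat.ble (nat_lit 11679) i)) (Nat.ble (nat_lit 11678) i)) (Nat.ble (nat_lit 11676) i)) (Nat.ble (nat_lit 11672) i)) (Nat.ble (nat_lit 11664) i))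

def rowBlk_n0_365 (i : ℕ) : ℕ := (@Bool.rec (fun _ => ℕ) (@Bool.rec (fun _ => ℕ) (@Bool.rec (fun _ => ℕ) (@Bool.rec (fun _ => ℕ) (@Bool.rec (fun _ => ℕ) rb11680 rb11681 (Nat.ble (nat_lit 11681) i)) (@Bool.rec (fun _ => ℕ) rb11682 rb11683 (Nat.ble (nat_lit 11683) i)) (Nat.ble (nat_lit 11682) i)) (@Bool.rec (fun _ => ℕ) (@Bool.rec (fun _ => ℕ) rb11684 rb11685 (Nat.ble (nat_lit 11685) i)) (@Bool.rec (fun _ => ℕ) rb11686 rb11687 (Nat.ble (nat_lit 11687) i)) (Nat.ble (nat_lit 11686) i)) (Nat.ble (nat_lit 11684) i)) (@Bool.rec (fun _ => ℕ) (@Bool.rec (fun _ => ℕ) (@Bool.rec (fun _ => ℕ) rb11688 rb11689 (Nat.ble (nat_lit 11689) i)) (@Bool.rec (fun _ => ℕ) rb11690 rb11691 (Nat.ble (nat_lit 11691) i)) (Nat.ble (nat_lit 11690) i)) (@Bool.rec (fun _ => ℕ) (@Bool.rec (fun _ => ℕ) rb11692 rb11693 (Nat.ble (nat_lit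 11693) i)) (@Bool.rec (fun _ => ℕ) rb11694 rb11695 (Nat.ble (nat_lit 11695) i)) (Nat.ble (nat_lit 11694) i)) (Nat.ble (nat_lit 11692) i)) (Nat.ble (nat_lit 11688) i)) (@Bool.rec (fun _ => ℕ) (@Bool.rec (fun _ => ℕ) (@Bool.rec (fun _ => ℕ) (@Bool.rec (fun _ => ℕ) rb11696 rb11697 (Nat.ble (nat_lit 11697) i)) (@Bool.rec (fun _ => ℕ) rb11698 rb11699 (Nat.ble (nat_lit 11699) i)) (Nat.ble (nat_lit 11698) i)) (@Bool.rec (fun _ => ℕ) (@Bool.rec (fun _ => ℕ) rb11700 rb11701 (Nat.ble (nat_lit 11701) i)) (@Bool.rec (fun _ => ℕ) rb11702 rb11703 (Nat.ble (nat_lit 11703) i)) (Nat.ble (nat_lit 11702) i)) (Nat.ble (nat_lit 11700) i)) (@Bool.rec (fun _ => ℕ) (@Bool.rec (fun _ => ℕ) (@Bool.rec (fun _ => ℕ) rb11704 rb11705 (Nat.ble (nat_lit 11705) i)) (@Bool.rec (fun _ => ℕ) rb11706 rb11707 (Nat.ble (nat_lit 11707) i)) (Nat.ble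 (nat_lit 11706) i)) (@Bool.rec (fun _ => ℕ) (@Bool.rec (fun _ => ℕ) rb11708 rb11709 (Nat.ble (nat_lit 11709) i)) (@Bool.rec (fun _ => ℕ) rb11710 rb11711 (Nat.ble (nat_lit 11711) i)) (Nat.ble (nat_lit 11710) i)) (Nat.ble (nat_lit 11708) i)) (Nat.ble (nat_lit 11704) i)) (Nat.ble (nat_lit 11696) i))

def rowBlk_n0_366 (i : ℕ) : ℕ := (@Bool.rec (fun _ => ℕ) (@Bool.rec (fun _ => ℕ) (@Bool.rec (fun _ => ℕ) (@Bool.rec (fun _ => ℕ) (@Bool.rec (fun _ => ℕ) rb11712 rb11713 (Nat.ble (nat_lit 11713) i)) (@Bool.rec (fun _ => ℕ) rb11714 rb11715 (Nat.ble (nat_lit 11715) i)) (Nat.ble (nat_lit 11714) i)) (@Bool.rec (fun _ => ℕ) (@Bool.rec (fun _ => ℕ) rb11716 rb11717 (Nat.ble (nat_lit 11717) i)) (@Bool.rec (fun _ => ℕ) rb11718 rb11719 (Nat.ble (nat_lit 11719) i)) (Nat.ble (nat_lit 11718) i)) (Nat.ble (nat_lit 11716) i))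 (@Bool.rec (fun _ => ℕ) (@Bool.rec (fun _ => ℕ) (@Bool.rec (fun _ => ℕ) rb11720 rb11721 (Nat.ble (nat_lit 11721) i)) (@Bool.rec (fun _ => ℕ) rb11722 rb11723 (Nat.ble (nat_lit 11723) i)) (Nat.ble (nat_lit 11722) i)) (@Bool.rec (fun _ => ℕ) (@Bool.rec (fun _ => ℕ) rb11724 rb11725 (Nat.ble (nat_lit 11725) i)) (@Bool.rec (fun _ => ℕ) rb11726 rb11727 (Nat.ble (nat_lit 11727) i)) (Nat.ble (nat_lit 11726) i)) (Nat.ble (nat_lit 11724) i)) (Nat.ble (nat_lit 11720) i)) (@Bool.rec (fun _ => ℕ) (@Bool.rec (fun _ => ℕ) (@Bool.rec (fun _ => ℕ) (@Bool.rec (fun _ => ℕ) rb11728 rb11729 (Nat.ble (nat_lit 11729) i)) (@Bool.rec (fun _ => ℕ) rb11730 rb11731 (Nat.ble (nat_lit 11731) i)) (Nat.ble (nat_lit 11730) i)) (@Bool.rec (fun _ => ℕ) (@Bool.rec (fun _ => ℕ) rb11732 rb11733 (Nat.ble (nat_lit 11733) i)) (@Bool.rec (fun _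 => ℕ) rb11734 rb11735 (Nat.ble (nat_lit 11735) i)) (Nat.ble (nat_lit 11734) i)) (Nat.ble (nat_lit 11732) i)) (@Bool.rec (fun _ => ℕ) (@Bool.rec (fun _ => ℕ) (@Bool.rec (fun _ => ℕ) rb11736 rb11737 (Nat.ble (nat_lit 11737) i)) (@Bool.rec (fun _ => ℕ) rb11738 rb11739 (Nat.ble (nat_lit 11739) i)) (Nat.ble (nat_lit 11738) i)) (@Bool.rec (fun _ => ℕ) (@Bool.rec (fun _ => ℕ) rb11740 rb11741 (Nat.ble (nat_lit 11741) i)) (@Bool.rec (fun _ => ℕ) rb11742 rb11743 (Nat.ble (nat_lit 11743) i)) (Nat.ble (nat_lit 11742) i)) (Nat.ble (nat_lit 11740) i)) (Nat.ble (nat_lit 11736) i)) (Nat.ble (nat_lit 11728) i))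

def rowBlk_n0_367 (i : ℕ) : ℕ := (@Bool.rec (fun _ => ℕ) (@Bool.rec (fun _ => ℕ) (@Bool.rec (fun _ => ℕ) (@Bool.rec (fun _ => ℕ) (@Bool.rec (fun _ => ℕ) rb11744 rb11745 (Nat.ble (nat_lit 11745) i)) (@Bool.rec (fun _ => ℕ) rb11746 rb11747 (Nat.ble (nat_lit 11747) i)) (Nat.ble (nat_lit 11746) i)) (@Bool.rec (fun _ => ℕ) (@Bool.rec (fun _ => ℕ) rb11748 rb11749 (Nat.ble (nat_lit 11749) i)) (@Bool.rec (fun _ => ℕ) rb11750 rb11751 (Nat.ble (nat_lit 11751) i)) (Nat.ble (nat_lit 11750) i)) (Nat.ble (nat_lit 11748) i)) (@Bool.rec (fun _ => ℕ) (@Bool.rec (fun _ => ℕ) (@Bool.rec (fun _ => ℕ) rb11752 rb11753 (Nat.ble (nat_lit 11753) i)) (@Bool.rec (fun _ => ℕ) rb11754 rb11755 (Nat.ble (nat_lit 11755) i)) (Nat.ble (nat_lit 11754) i)) (@Bool.rec (fun _ => ℕ) (@Bool.rec (fun _ => ℕ) rb11756 rb11757 (Nat.ble (nat_lit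 11757) i)) (@Bool.rec (fun _ => ℕ) rb11758 rb11759 (Nat.ble (nat_lit 11759) i)) (Nat.ble (nat_lit 11758) i)) (Nat.ble (nat_lit 11756) i)) (Nat.ble (nat_lit 11752) i)) (@Bool.rec (fun _ => ℕ) (@Bool.rec (fun _ => ℕ) (@Bool.rec (fun _ => ℕ) (@Bool.rec (fun _ => ℕ) rb11760 rb11761 (Nat.ble (nat_lit 11761) i)) (@Bool.rec (fun _ => ℕ) rb11762 rb11763 (Nat.ble (nat_lit 11763) i)) (Nat.ble (nat_lit 11762) i)) (@Bool.rec (fun _ => ℕ) (@Bool.rec (fun _ => ℕ) rb11764 rb11765 (Nat.ble (nat_lit 11765) i)) (@Bool.rec (fun _ => ℕ) rb11766 rb11767 (Nat.ble (nat_lit 11767) i)) (Nat.ble (nat_lit 11766) i)) (Nat.ble (nat_lit 11764) i)) (@Bool.rec (fun _ => ℕ) (@Bool.rec (fun _ => ℕ) (@Bool.rec (fun _ => ℕ) rb11768 rb11769 (Nat.ble (nat_lit 11769) i)) (@Bool.rec (fun _ => ℕ) rb11770 rb11771 (Nat.ble (nat_lit 11771) i)) (Nat.ble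 (nat_lit 11770) i)) (@Bool.rec (fun _ => ℕ) (@Bool.rec (fun _ => ℕ) rb11772 rb11773 (Nat.ble (nat_lit 11773) i)) (@Bool.rec (fun _ => ℕ) rb11774 rb11775 (Nat.ble (nat_lit 11775) i)) (Nat.ble (nat_lit 11774) i)) (Nat.ble (nat_lit 11772) i)) (Nat.ble (nat_lit 11768) i)) (Nat.ble (nat_lit 11760) i))

def rowBlk_n0_368 (i : ℕ) : ℕ := (@Bool.rec (fun _ => ℕ) (@Bool.rec (fun _ => ℕ) (@Bool.rec (fun _ => ℕ) (@Bool.rec (fun _ => ℕ) (@Bool.rec (fun _ => ℕ) rb11776 rb11777 (Nat.ble (nat_lit 11777) i)) (@Bool.rec (fun _ => ℕ) rb11778 rb11779 (Nat.ble (nat_lit 11779) i)) (Nat.ble (nat_lit 11778) i)) (@Bool.rec (fun _ => ℕ) (@Bool.rec (fun _ => ℕ) rb11780 rb11781 (Nat.ble (nat_lit 11781) i)) (@Bool.rec (fun _ => ℕ) rb11782 rb11783 (Nat.ble (nat_lit 11783) i)) (Nat.ble (nat_lit 11782) i)) (Nat.ble (nat_lit 11780) i))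 (@Bool.rec (fun _ => ℕ) (@Bool.rec (fun _ => ℕ) (@Bool.rec (fun _ => ℕ) rb11784 rb11785 (Nat.ble (nat_lit 11785) i)) (@Bool.rec (fun _ => ℕ) rb11786 rb11787 (Nat.ble (nat_lit 11787) i)) (Nat.ble (nat_lit 11786) i)) (@Bool.rec (fun _ => ℕ) (@Bool.rec (fun _ => ℕ) rb11788 rb11789 (Nat.ble (nat_lit 11789) i)) (@Bool.rec (fun _ => ℕ) rb11790 rb11791 (Nat.ble (nat_lit 11791) i)) (Nat.ble (nat_lit 11790) i)) (Nat.ble (nat_lit 11788) i)) (Nat.ble (nat_lit 11784) i)) (@Bool.rec (fun _ => ℕ) (@Bool.rec (fun _ => ℕ) (@Bool.rec (fun _ => ℕ) (@Bool.rec (fun _ => ℕ) rb11792 rb11793 (Nat.ble (nat_lit 11793) i)) (@Bool.rec (fun _ => ℕ) rb11794 rb11795 (Nat.ble (nat_lit 11795) i)) (Nat.ble (nat_lit 11794) i)) (@Bool.rec (fun _ => ℕ) (@Bool.rec (fun _ => ℕ) rb11796 rb11797 (Nat.ble (nat_lit 11797) i)) (@Bool.rec (fun _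 => ℕ) rb11798 rb11799 (Nat.ble (nat_lit 11799) i)) (Nat.ble (nat_lit 11798) i)) (Nat.ble (nat_lit 11796) i)) (@Bool.rec (fun _ => ℕ) (@Bool.rec (fun _ => ℕ) (@Bool.rec (fun _ => ℕ) rb11800 rb11801 (Nat.ble (nat_lit 11801) i)) (@Bool.rec (fun _ => ℕ) rb11802 rb11803 (Nat.ble (nat_lit 11803) i)) (Nat.ble (nat_lit 11802) i)) (@Bool.rec (fun _ => ℕ) (@Bool.rec (fun _ => ℕ) rb11804 rb11805 (Nat.ble (nat_lit 11805) i)) (@Bool.rec (fun _ => ℕ) rb11806 rb11807 (Nat.ble (nat_lit 11807) i)) (Nat.ble (nat_lit 11806) i)) (Nat.ble (nat_lit 11804) i)) (Nat.ble (nat_lit 11800) i)) (Nat.ble (nat_lit 11792) i))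

def rowBlk_n0_369 (i : ℕ) : ℕ := (@Bool.rec (fun _ => ℕ) (@Bool.rec (fun _ => ℕ) (@Bool.rec (fun _ => ℕ) (@Bool.rec (fun _ => ℕ) (@Bool.rec (fun _ => ℕ) rb11808 rb11809 (Nat.ble (nat_lit 11809) i)) (@Bool.rec (fun _ => ℕ) rb11810 rb11811 (Nat.ble (nat_lit 11811) i)) (Nat.ble (nat_lit 11810) i)) (@Bool.rec (fun _ => ℕ) (@Bool.rec (fun _ => ℕ) rb11812 rb11813 (Nat.ble (nat_lit 11813) i)) (@Bool.rec (fun _ => ℕ) rb11814 rb11815 (Nat.ble (nat_lit 11815) i)) (Nat.ble (nat_lit 11814) i)) (Nat.ble (nat_lit 11812) i)) (@Bool.rec (fun _ => ℕ) (@Bool.rec (fun _ => ℕ) (@Bool.rec (fun _ => ℕ) rb11816 rb11817 (Nat.ble (nat_lit 11817) i)) (@Bool.rec (fun _ => ℕ) rb11818 rb11819 (Nat.ble (nat_lit 11819) i)) (Nat.ble (nat_lit 11818) i)) (@Bool.rec (fun _ => ℕ) (@Bool.rec (fun _ => ℕ) rb11820 rb11821 (Nat.ble (nat_lit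 11821) i)) (@Bool.rec (fun _ => ℕ) rb11822 rb11823 (Nat.ble (nat_lit 11823) i)) (Nat.ble (nat_lit 11822) i)) (Nat.ble (nat_lit 11820) i)) (Nat.ble (nat_lit 11816) i)) (@Bool.rec (fun _ => ℕ) (@Bool.rec (fun _ => ℕ) (@Bool.rec (fun _ => ℕ) (@Bool.rec (fun _ => ℕ) rb11824 rb11825 (Nat.ble (nat_lit 11825) i)) (@Bool.rec (fun _ => ℕ) rb11826 rb11827 (Nat.ble (nat_lit 11827) i)) (Nat.ble (nat_lit 11826) i)) (@Bool.rec (fun _ => ℕ) (@Bool.rec (fun _ => ℕ) rb11828 rb11829 (Nat.ble (nat_lit 11829) i)) (@Bool.rec (fun _ => ℕ) rb11830 rb11831 (Nat.ble (nat_lit 11831) i)) (Nat.ble (nat_lit 11830) i)) (Nat.ble (nat_lit 11828) i)) (@Bool.rec (fun _ => ℕ) (@Bool.rec (fun _ => ℕ) (@Bool.rec (fun _ => ℕ) rb11832 rb11833 (Nat.ble (nat_lit 11833) i)) (@Bool.rec (fun _ => ℕ) rb11834 rb11835 (Nat.ble (nat_lit 11835) i)) (Nat.ble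 (nat_lit 11834) i)) (@Bool.rec (fun _ => ℕ) (@Bool.rec (fun _ => ℕ) rb11836 rb11837 (Nat.ble (nat_lit 11837) i)) (@Bool.rec (fun _ => ℕ) rb11838 rb11839 (Nat.ble (nat_lit 11839) i)) (Nat.ble (nat_lit 11838) i)) (Nat.ble (nat_lit 11836) i)) (Nat.ble (nat_lit 11832) i)) (Nat.ble (nat_lit 11824) i))

def rowBlk_n0_370 (i : ℕ) : ℕ := (@Bool.rec (fun _ => ℕ) (@Bool.rec (fun _ => ℕ) (@Bool.rec (fun _ => ℕ) (@Bool.rec (fun _ => ℕ) (@Bool.rec (fun _ => ℕ) rb11840 rb11841 (Nat.ble (nat_lit 11841) i)) (@Bool.rec (fun _ => ℕ) rb11842 rb11843 (Nat.ble (nat_lit 11843) i)) (Nat.ble (nat_lit 11842) i)) (@Bool.rec (fun _ => ℕ) (@Bool.rec (fun _ => ℕ) rb11844 rb11845 (Nat.ble (nat_lit 11845) i)) (@Bool.rec (fun _ => ℕ) rb11846 rb11847 (Nat.ble (nat_lit 11847) i)) (Nat.ble (nat_lit 11846) i)) (Nat.ble (nat_lit 11844) i))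 (@Bool.rec (fun _ => ℕ) (@Bool.rec (fun _ => ℕ) (@Bool.rec (fun _ => ℕ) rb11848 rb11849 (Nat.ble (nat_lit 11849) i)) (@Bool.rec (fun _ => ℕ) rb11850 rb11851 (Nat.ble (nat_lit 11851) i)) (Nat.ble (nat_lit 11850) i)) (@Bool.rec (fun _ => ℕ) (@Bool.rec (fun _ => ℕ) rb11852 rb11853 (Nat.ble (nat_lit 11853) i)) (@Bool.rec (fun _ => ℕ) rb11854 rb11855 (Nat.ble (nat_lit 11855) i)) (Nat.ble (nat_lit 11854) i)) (Nat.ble (nat_lit 11852) i)) (Nat.ble (nat_lit 11848) i)) (@Bool.rec (fun _ => ℕ) (@Bool.rec (fun _ => ℕ) (@Bool.rec (fun _ => ℕ) (@Bool.rec (fun _ => ℕ) rb11856 rb11857 (Nat.ble (nat_lit 11857) i)) (@Bool.rec (fun _ => ℕ) rb11858 rb11859 (Nat.ble (nat_lit 11859) i)) (Nat.ble (nat_lit 11858) i)) (@Bool.rec (fun _ => ℕ) (@Bool.rec (fun _ => ℕ) rb11860 rb11861 (Nat.ble (nat_lit 11861) i)) (@Bool.rec (fun _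 => ℕ) rb11862 rb11863 (Nat.ble (nat_lit 11863) i)) (Nat.ble (nat_lit 11862) i)) (Nat.ble (nat_lit 11860) i)) (@Bool.rec (fun _ => ℕ) (@Bool.rec (fun _ => ℕ) (@Bool.rec (fun _ => ℕ) rb11864 rb11865 (Nat.ble (nat_lit 11865) i)) (@Bool.rec (fun _ => ℕ) rb11866 rb11867 (Nat.ble (nat_lit 11867) i)) (Nat.ble (nat_lit 11866) i)) (@Bool.rec (fun _ => ℕ) (@Bool.rec (fun _ => ℕ) rb11868 rb11869 (Nat.ble (nat_lit 11869) i)) (@Bool.rec (fun _ => ℕ) rb11870 rb11871 (Nat.ble (nat_lit 11871) i)) (Nat.ble (nat_lit 11870) i)) (Nat.ble (nat_lit 11868) i)) (Nat.ble (nat_lit 11864) i)) (Nat.ble (nat_lit 11856) i))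

def rowBlk_n0_371 (i : ℕ) : ℕ := (@Bool.rec (fun _ => ℕ) (@Bool.rec (fun _ => ℕ) (@Bool.rec (fun _ => ℕ) (@Bool.rec (fun _ => ℕ) (@Bool.rec (fun _ => ℕ) rb11872 rb11873 (Nat.ble (nat_lit 11873) i)) (@Bool.rec (fun _ => ℕ) rb11874 rb11875 (Nat.ble (nat_lit 11875) i)) (Nat.ble (nat_lit 11874) i)) (@Bool.rec (fun _ => ℕ) (@Bool.rec (fun _ => ℕ) rb11876 rb11877 (Nat.ble (nat_lit 11877) i)) (@Bool.rec (fun _ => ℕ) rb11878 rb11879 (Nat.ble (nat_lit 11879) i)) (Nat.ble (nat_lit 11878) i)) (Nat.ble (nat_lit 11876) i)) (@Bool.rec (fun _ => ℕ) (@Bool.rec (fun _ => ℕ) (@Bool.rec (fun _ => ℕ) rb11880 rb11881 (Nat.ble (nat_lit 11881) i)) (@Bool.rec (fun _ => ℕ) rb11882 rb11883 (Nat.ble (nat_lit 11883) i)) (Nat.ble (nat_lit 11882) i)) (@Bool.rec (fun _ => ℕ) (@Bool.rec (fun _ => ℕ) rb11884 rb11885 (Nat.ble (nat_lit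 11885) i)) (@Bool.rec (fun _ => ℕ) rb11886 rb11887 (Nat.ble (nat_lit 11887) i)) (Nat.ble (nat_lit 11886) i)) (Nat.ble (nat_lit 11884) i)) (Nat.ble (nat_lit 11880) i)) (@Bool.rec (fun _ => ℕ) (@Bool.rec (fun _ => ℕ) (@Bool.rec (fun _ => ℕ) (@Bool.rec (fun _ => ℕ) rb11888 rb11889 (Nat.ble (nat_lit 11889) i)) (@Bool.rec (fun _ => ℕ) rb11890 rb11891 (Nat.ble (nat_lit 11891) i)) (Nat.ble (nat_lit 11890) i)) (@Bool.rec (fun _ => ℕ) (@Bool.rec (fun _ => ℕ) rb11892 rb11893 (Nat.ble (nat_lit 11893) i)) (@Bool.rec (fun _ => ℕ) rb11894 rb11895 (Nat.ble (nat_lit 11895) i)) (Nat.ble (nat_lit 11894) i)) (Nat.ble (nat_lit 11892) i)) (@Bool.rec (fun _ => ℕ) (@Bool.rec (fun _ => ℕ) (@Bool.rec (fun _ => ℕ) rb11896 rb11897 (Nat.ble (nat_lit 11897) i)) (@Bool.rec (fun _ => ℕ) rb11898 rb11899 (Nat.ble (nat_lit 11899) i)) (Nat.ble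 (nat_lit 11898) i)) (@Bool.rec (fun _ => ℕ) (@Bool.rec (fun _ => ℕ) rb11900 rb11901 (Nat.ble (nat_lit 11901) i)) (@Bool.rec (fun _ => ℕ) rb11902 rb11903 (Nat.ble (nat_lit 11903) i)) (Nat.ble (nat_lit 11902) i)) (Nat.ble (nat_lit 11900) i)) (Nat.ble (nat_lit 11896) i)) (Nat.ble (nat_lit 11888) i))

def rowBlk_n0_372 (i : ℕ) : ℕ := (@Bool.rec (fun _ => ℕ) (@Bool.rec (fun _ => ℕ) (@Bool.rec (fun _ => ℕ) (@Bool.rec (fun _ => ℕ) (@Bool.rec (fun _ => ℕ) rb11904 rb11905 (Nat.ble (nat_lit 11905) i)) (@Bool.rec (fun _ => ℕ) rb11906 rb11907 (Nat.ble (nat_lit 11907) i)) (Nat.ble (nat_lit 11906) i)) (@Bool.rec (fun _ => ℕ) (@Bool.rec (fun _ => ℕ) rb11908 rb11909 (Nat.ble (nat_lit 11909) i)) (@Bool.rec (fun _ => ℕ) rb11910 rb11911 (Nat.ble (nat_lit 11911) i)) (Nat.ble (nat_lit 11910) i)) (Nat.ble (nat_lit 11908) i))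 (@Bool.rec (fun _ => ℕ) (@Bool.rec (fun _ => ℕ) (@Bool.rec (fun _ => ℕ) rb11912 rb11913 (Nat.ble (nat_lit 11913) i)) (@Bool.rec (fun _ => ℕ) rb11914 rb11915 (Nat.ble (nat_lit 11915) i)) (Nat.ble (nat_lit 11914) i)) (@Bool.rec (fun _ => ℕ) (@Bool.rec (fun _ => ℕ) rb11916 rb11917 (Nat.ble (nat_lit 11917) i)) (@Bool.rec (fun _ => ℕ) rb11918 rb11919 (Nat.ble (nat_lit 11919) i)) (Nat.ble (nat_lit 11918) i)) (Nat.ble (nat_lit 11916) i)) (Nat.ble (nat_lit 11912) i)) (@Bool.rec (fun _ => ℕ) (@Bool.rec (fun _ => ℕ) (@Bool.rec (fun _ => ℕ) (@Bool.rec (fun _ => ℕ) rb11920 rb11921 (Nat.ble (nat_lit 11921) i)) (@Bool.rec (fun _ => ℕ) rb11922 rb11923 (Nat.ble (nat_lit 11923) i)) (Nat.ble (nat_lit 11922) i)) (@Bool.rec (fun _ => ℕ) (@Bool.rec (fun _ => ℕ) rb11924 rb11925 (Nat.ble (nat_lit 11925) i)) (@Bool.rec (fun _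 => ℕ) rb11926 rb11927 (Nat.ble (nat_lit 11927) i)) (Nat.ble (nat_lit 11926) i)) (Nat.ble (nat_lit 11924) i)) (@Bool.rec (fun _ => ℕ) (@Bool.rec (fun _ => ℕ) (@Bool.rec (fun _ => ℕ) rb11928 rb11929 (Nat.ble (nat_lit 11929) i)) (@Bool.rec (fun _ => ℕ) rb11930 rb11931 (Nat.ble (nat_lit 11931) i)) (Nat.ble (nat_lit 11930) i)) (@Bool.rec (fun _ => ℕ) (@Bool.rec (fun _ => ℕ) rb11932 rb11933 (Nat.ble (nat_lit 11933) i)) (@Bool.rec (fun _ => ℕ) rb11934 rb11935 (Nat.ble (nat_lit 11935) i)) (Nat.ble (nat_lit 11934) i)) (Nat.ble (nat_lit 11932) i)) (Nat.ble (nat_lit 11928) i)) (Nat.ble (nat_lit 11920) i))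

def rowBlk_n0_373 (i : ℕ) : ℕ := (@Bool.rec (fun _ => ℕ) (@Bool.rec (fun _ => ℕ) (@Bool.rec (fun _ => ℕ) (@Bool.rec (fun _ => ℕ) (@Bool.rec (fun _ => ℕ) rb11936 rb11937 (Nat.ble (nat_lit 11937) i)) (@Bool.rec (fun _ => ℕ) rb11938 rb11939 (Nat.ble (nat_lit 11939) i)) (Nat.ble (nat_lit 11938) i)) (@Bool.rec (fun _ => ℕ) (@Bool.rec (fun _ => ℕ) rb11940 rb11941 (Nat.ble (nat_lit 11941) i)) (@Bool.rec (fun _ => ℕ) rb11942 rb11943 (Nat.ble (nat_lit 11943) i)) (Nat.ble (nat_lit 11942) i)) (Nat.ble (nat_lit 11940) i)) (@Bool.rec (fun _ => ℕ) (@Bool.rec (fun _ => ℕ) (@Bool.rec (fun _ => ℕ) rb11944 rb11945 (Nat.ble (nat_lit 11945) i)) (@Bool.rec (fun _ => ℕ) rb11946 rb11947 (Nat.ble (nat_lit 11947) i)) (Nat.ble (nat_lit 11946) i)) (@Bool.rec (fun _ => ℕ) (@Bool.rec (fun _ => ℕ) rb11948 rb11949 (Nat.ble (nat_lit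 11949) i)) (@Bool.rec (fun _ => ℕ) rb11950 rb11951 (Nat.ble (nat_lit 11951) i)) (Nat.ble (nat_lit 11950) i)) (Nat.ble (nat_lit 11948) i)) (Nat.ble (nat_lit 11944) i)) (@Bool.rec (fun _ => ℕ) (@Bool.rec (fun _ => ℕ) (@Bool.rec (fun _ => ℕ) (@Bool.rec (fun _ => ℕ) rb11952 rb11953 (Nat.ble (nat_lit 11953) i)) (@Bool.rec (fun _ => ℕ) rb11954 rb11955 (Nat.ble (nat_lit 11955) i)) (Nat.ble (nat_lit 11954) i)) (@Bool.rec (fun _ => ℕ) (@Bool.rec (fun _ => ℕ) rb11956 rb11957 (Nat.ble (nat_lit 11957) i)) (@Bool.rec (fun _ => ℕ) rb11958 rb11959 (Nat.ble (nat_lit 11959) i)) (Nat.ble (nat_lit 11958) i)) (Nat.ble (nat_lit 11956) i)) (@Bool.rec (fun _ => ℕ) (@Bool.rec (fun _ => ℕ) (@Bool.rec (fun _ => ℕ) rb11960 rb11961 (Nat.ble (nat_lit 11961) i)) (@Bool.rec (fun _ => ℕ) rb11962 rb11963 (Nat.ble (nat_lit 11963) i)) (Nat.ble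 (nat_lit 11962) i)) (@Bool.rec (fun _ => ℕ) (@Bool.rec (fun _ => ℕ) rb11964 rb11965 (Nat.ble (nat_lit 11965) i)) (@Bool.rec (fun _ => ℕ) rb11966 rb11967 (Nat.ble (nat_lit 11967) i)) (Nat.ble (nat_lit 11966) i)) (Nat.ble (nat_lit 11964) i)) (Nat.ble (nat_lit 11960) i)) (Nat.ble (nat_lit 11952) i))

def rowBlk_n0_374 (i : ℕ) : ℕ := (@Bool.rec (fun _ => ℕ) (@Bool.rec (fun _ => ℕ) (@Bool.rec (fun _ => ℕ) (@Bool.rec (fun _ => ℕ) (@Bool.rec (fun _ => ℕ) rb11968 rb11969 (Nat.ble (nat_lit 11969) i)) (@Bool.rec (fun _ => ℕ) rb11970 rb11971 (Nat.ble (nat_lit 11971) i)) (Nat.ble (nat_lit 11970) i)) (@Bool.rec (fun _ => ℕ) (@Bool.rec (fun _ => ℕ) rb11972 rb11973 (Nat.ble (nat_lit 11973) i)) (@Bool.rec (fun _ => ℕ) rb11974 rb11975 (Nat.ble (nat_lit 11975) i)) (Nat.ble (nat_lit 11974) i)) (Nat.ble (nat_lit 11972) i))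 (@Bool.rec (fun _ => ℕ) (@Bool.rec (fun _ => ℕ) (@Bool.rec (fun _ => ℕ) rb11976 rb11977 (Nat.ble (nat_lit 11977) i)) (@Bool.rec (fun _ => ℕ) rb11978 rb11979 (Nat.ble (nat_lit 11979) i)) (Nat.ble (nat_lit 11978) i)) (@Bool.rec (fun _ => ℕ) (@Bool.rec (fun _ => ℕ) rb11980 rb11981 (Nat.ble (nat_lit 11981) i)) (@Bool.rec (fun _ => ℕ) rb11982 rb11983 (Nat.ble (nat_lit 11983) i)) (Nat.ble (nat_lit 11982) i)) (Nat.ble (nat_lit 11980) i)) (Nat.ble (nat_lit 11976) i)) (@Bool.rec (fun _ => ℕ) (@Bool.rec (fun _ => ℕ) (@Bool.rec (fun _ => ℕ) (@Bool.rec (fun _ => ℕ) rb11984 rb11985 (Nat.ble (nat_lit 11985) i)) (@Bool.rec (fun _ => ℕ) rb11986 rb11987 (Nat.ble (nat_lit 11987) i)) (Nat.ble (nat_lit 11986) i)) (@Bool.rec (fun _ => ℕ) (@Bool.rec (fun _ => ℕ) rb11988 rb11989 (Nat.ble (nat_lit 11989) i)) (@Bool.rec (fun _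 => ℕ) rb11990 rb11991 (Nat.ble (nat_lit 11991) i)) (Nat.ble (nat_lit 11990) i)) (Nat.ble (nat_lit 11988) i)) (@Bool.rec (fun _ => ℕ) (@Bool.rec (fun _ => ℕ) (@Bool.rec (fun _ => ℕ) rb11992 rb11993 (Nat.ble (nat_lit 11993) i)) (@Bool.rec (fun _ => ℕ) rb11994 rb11995 (Nat.ble (nat_lit 11995) i)) (Nat.ble (nat_lit 11994) i)) (@Bool.rec (fun _ => ℕ) (@Bool.rec (fun _ => ℕ) rb11996 rb11997 (Nat.ble (nat_lit 11997) i)) (@Bool.rec (fun _ => ℕ) rb11998 rb11999 (Nat.ble (nat_lit 11999) i)) (Nat.ble (nat_lit 11998) i)) (Nat.ble (nat_lit 11996) i)) (Nat.ble (nat_lit 11992) i)) (Nat.ble (nat_lit 11984) i))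

def rowBlk_n0_375 (i : ℕ) : ℕ := (@Bool.rec (fun _ => ℕ) (@Bool.rec (fun _ => ℕ) (@Bool.rec (fun _ => ℕ) (@Bool.rec (fun _ => ℕ) (@Bool.rec (fun _ => ℕ) rb12000 rb12001 (Nat.ble (nat_lit 12001) i)) (@Bool.rec (fun _ => ℕ) rb12002 rb12003 (Nat.ble (nat_lit 12003) i)) (Nat.ble (nat_lit 12002) i)) (@Bool.rec (fun _ => ℕ) (@Bool.rec (fun _ => ℕ) rb12004 rb12005 (Nat.ble (nat_lit 12005) i)) (@Bool.rec (fun _ => ℕ) rb12006 rb12007 (Nat.ble (nat_lit 12007) i)) (Nat.ble (nat_lit 12006) i)) (Nat.ble (nat_lit 12004) i)) (@Bool.rec (fun _ => ℕ) (@Bool.rec (fun _ => ℕ) (@Bool.rec (fun _ => ℕ) rb12008 rb12009 (Nat.ble (nat_lit 12009) i)) (@Bool.rec (fun _ => ℕ) rb12010 rb12011 (Nat.ble (nat_lit 12011) i)) (Nat.ble (nat_lit 12010) i)) (@Bool.rec (fun _ => ℕ) (@Bool.rec (fun _ => ℕ) rb12012 rb12013 (Nat.ble (nat_lit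 12013) i)) (@Bool.rec (fun _ => ℕ) rb12014 rb12015 (Nat.ble (nat_lit 12015) i)) (Nat.ble (nat_lit 12014) i)) (Nat.ble (nat_lit 12012) i)) (Nat.ble (nat_lit 12008) i)) (@Bool.rec (fun _ => ℕ) (@Bool.rec (fun _ => ℕ) (@Bool.rec (fun _ => ℕ) (@Bool.rec (fun _ => ℕ) rb12016 rb12017 (Nat.ble (nat_lit 12017) i)) (@Bool.rec (fun _ => ℕ) rb12018 rb12019 (Nat.ble (nat_lit 12019) i)) (Nat.ble (nat_lit 12018) i)) (@Bool.rec (fun _ => ℕ) (@Bool.rec (fun _ => ℕ) rb12020 rb12021 (Nat.ble (nat_lit 12021) i)) (@Bool.rec (fun _ => ℕ) rb12022 rb12023 (Nat.ble (nat_lit 12023) i)) (Nat.ble (nat_lit 12022) i)) (Nat.ble (nat_lit 12020) i)) (@Bool.rec (fun _ => ℕ) (@Bool.rec (fun _ => ℕ) (@Bool.rec (fun _ => ℕ) rb12024 rb12025 (Nat.ble (nat_lit 12025) i)) (@Bool.rec (fun _ => ℕ) rb12026 rb12027 (Nat.ble (nat_lit 12027) i)) (Nat.ble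 (nat_lit 12026) i)) (@Bool.rec (fun _ => ℕ) (@Bool.rec (fun _ => ℕ) rb12028 rb12029 (Nat.ble (nat_lit 12029) i)) (@Bool.rec (fun _ => ℕ) rb12030 rb12031 (Nat.ble (nat_lit 12031) i)) (Nat.ble (nat_lit 12030) i)) (Nat.ble (nat_lit 12028) i)) (Nat.ble (nat_lit 12024) i)) (Nat.ble (nat_lit 12016) i))

def rowBlk_n0_376 (i : ℕ) : ℕ := (@Bool.rec (fun _ => ℕ) (@Bool.rec (fun _ => ℕ) (@Bool.rec (fun _ => ℕ) (@Bool.rec (fun _ => ℕ) (@Bool.rec (fun _ => ℕ) rb12032 rb12033 (Nat.ble (nat_lit 12033) i)) (@Bool.rec (fun _ => ℕ) rb12034 rb12035 (Nat.ble (nat_lit 12035) i)) (Nat.ble (nat_lit 12034) i)) (@Bool.rec (fun _ => ℕ) (@Bool.rec (fun _ => ℕ) rb12036 rb12037 (Nat.ble (nat_lit 12037) i)) (@Bool.rec (fun _ => ℕ) rb12038 rb12039 (Nat.ble (nat_lit 12039) i)) (Nat.ble (nat_lit 12038) i)) (Nat.ble (nat_lit 12036) i))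 (@Bool.rec (fun _ => ℕ) (@Bool.rec (fun _ => ℕ) (@Bool.rec (fun _ => ℕ) rb12040 rb12041 (Nat.ble (nat_lit 12041) i)) (@Bool.rec (fun _ => ℕ) rb12042 rb12043 (Nat.ble (nat_lit 12043) i)) (Nat.ble (nat_lit 12042) i)) (@Bool.rec (fun _ => ℕ) (@Bool.rec (fun _ => ℕ) rb12044 rb12045 (Nat.ble (nat_lit 12045) i)) (@Bool.rec (fun _ => ℕ) rb12046 rb12047 (Nat.ble (nat_lit 12047) i)) (Nat.ble (nat_lit 12046) i)) (Nat.ble (nat_lit 12044) i)) (Nat.ble (nat_lit 12040) i)) (@Bool.rec (fun _ => ℕ) (@Bool.rec (fun _ => ℕ) (@Bool.rec (fun _ => ℕ) (@Bool.rec (fun _ => ℕ) rb12048 rb12049 (Nat.ble (nat_lit 12049) i)) (@Bool.rec (fun _ => ℕ) rb12050 rb12051 (Nat.ble (nat_lit 12051) i)) (Nat.ble (nat_lit 12050) i)) (@Bool.rec (fun _ => ℕ) (@Bool.rec (fun _ => ℕ) rb12052 rb12053 (Nat.ble (nat_lit 12053) i)) (@Bool.rec (fun _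 => ℕ) rb12054 rb12055 (Nat.ble (nat_lit 12055) i)) (Nat.ble (nat_lit 12054) i)) (Nat.ble (nat_lit 12052) i)) (@Bool.rec (fun _ => ℕ) (@Bool.rec (fun _ => ℕ) (@Bool.rec (fun _ => ℕ) rb12056 rb12057 (Nat.ble (nat_lit 12057) i)) (@Bool.rec (fun _ => ℕ) rb12058 rb12059 (Nat.ble (nat_lit 12059) i)) (Nat.ble (nat_lit 12058) i)) (@Bool.rec (fun _ => ℕ) (@Bool.rec (fun _ => ℕ) rb12060 rb12061 (Nat.ble (nat_lit 12061) i)) (@Bool.rec (fun _ => ℕ) rb12062 rb12063 (Nat.ble (nat_lit 12063) i)) (Nat.ble (nat_lit 12062) i)) (Nat.ble (nat_lit 12060) i)) (Nat.ble (nat_lit 12056) i)) (Nat.ble (nat_lit 12048) i))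

def rowBlk_n0_377 (i : ℕ) : ℕ := (@Bool.rec (fun _ => ℕ) (@Bool.rec (fun _ => ℕ) (@Bool.rec (fun _ => ℕ) (@Bool.rec (fun _ => ℕ) (@Bool.rec (fun _ => ℕ) rb12064 rb12065 (Nat.ble (nat_lit 12065) i)) (@Bool.rec (fun _ => ℕ) rb12066 rb12067 (Nat.ble (nat_lit 12067) i)) (Nat.ble (nat_lit 12066) i)) (@Bool.rec (fun _ => ℕ) (@Bool.rec (fun _ => ℕ) rb12068 rb12069 (Nat.ble (nat_lit 12069) i)) (@Bool.rec (fun _ => ℕ) rb12070 rb12071 (Nat.ble (nat_lit 12071) i)) (Nat.ble (nat_lit 12070) i)) (Nat.ble (nat_lit 12068) i)) (@Bool.rec (fun _ => ℕ) (@Bool.rec (fun _ => ℕ) (@Bool.rec (fun _ => ℕ) rb12072 rb12073 (Nat.ble (nat_lit 12073) i)) (@Bool.rec (fun _ => ℕ) rb12074 rb12075 (Nat.ble (nat_lit 12075) i)) (Nat.ble (nat_lit 12074) i)) (@Bool.rec (fun _ => ℕ) (@Bool.rec (fun _ => ℕ) rb12076 rb12077 (Nat.ble (nat_lit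 12077) i)) (@Bool.rec (fun _ => ℕ) rb12078 rb12079 (Nat.ble (nat_lit 12079) i)) (Nat.ble (nat_lit 12078) i)) (Nat.ble (nat_lit 12076) i)) (Nat.ble (nat_lit 12072) i)) (@Bool.rec (fun _ => ℕ) (@Bool.rec (fun _ => ℕ) (@Bool.rec (fun _ => ℕ) (@Bool.rec (fun _ => ℕ) rb12080 rb12081 (Nat.ble (nat_lit 12081) i)) (@Bool.rec (fun _ => ℕ) rb12082 rb12083 (Nat.ble (nat_lit 12083) i)) (Nat.ble (nat_lit 12082) i)) (@Bool.rec (fun _ => ℕ) (@Bool.rec (fun _ => ℕ) rb12084 rb12085 (Nat.ble (nat_lit 12085) i)) (@Bool.rec (fun _ => ℕ) rb12086 rb12087 (Nat.ble (nat_lit 12087) i)) (Nat.ble (nat_lit 12086) i)) (Nat.ble (nat_lit 12084) i)) (@Bool.rec (fun _ => ℕ) (@Bool.rec (fun _ => ℕ) (@Bool.rec (fun _ => ℕ) rb12088 rb12089 (Nat.ble (nat_lit 12089) i)) (@Bool.rec (fun _ => ℕ) rb12090 rb12091 (Nat.ble (nat_lit 12091) i)) (Nat.ble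 (nat_lit 12090) i)) (@Bool.rec (fun _ => ℕ) (@Bool.rec (fun _ => ℕ) rb12092 rb12093 (Nat.ble (nat_lit 12093) i)) (@Bool.rec (fun _ => ℕ) rb12094 rb12095 (Nat.ble (nat_lit 12095) i)) (Nat.ble (nat_lit 12094) i)) (Nat.ble (nat_lit 12092) i)) (Nat.ble (nat_lit 12088) i)) (Nat.ble (nat_lit 12080) i))

def rowBlk_n0_378 (i : ℕ) : ℕ := (@Bool.rec (fun _ => ℕ) (@Bool.rec (fun _ => ℕ) (@Bool.rec (fun _ => ℕ) (@Bool.rec (fun _ => ℕ) (@Bool.rec (fun _ => ℕ) rb12096 rb12097 (Nat.ble (nat_lit 12097) i)) (@Bool.rec (fun _ => ℕ) rb12098 rb12099 (Nat.ble (nat_lit 12099) i)) (Nat.ble (nat_lit 12098) i)) (@Bool.rec (fun _ => ℕ) (@Bool.rec (fun _ => ℕ) rb12100 rb12101 (Nat.ble (nat_lit 12101) i)) (@Bool.rec (fun _ => ℕ) rb12102 rb12103 (Nat.ble (nat_lit 12103) i)) (Nat.ble (nat_lit 12102) i)) (Nat.ble (nat_lit 12100) i))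 (@Bool.rec (fun _ => ℕ) (@Bool.rec (fun _ => ℕ) (@Bool.rec (fun _ => ℕ) rb12104 rb12105 (Nat.ble (nat_lit 12105) i)) (@Bool.rec (fun _ => ℕ) rb12106 rb12107 (Nat.ble (nat_lit 12107) i)) (Nat.ble (nat_lit 12106) i)) (@Bool.rec (fun _ => ℕ) (@Bool.rec (fun _ => ℕ) rb12108 rb12109 (Nat.ble (nat_lit 12109) i)) (@Bool.rec (fun _ => ℕ) rb12110 rb12111 (Nat.ble (nat_lit 12111) i)) (Nat.ble (nat_lit 12110) i)) (Nat.ble (nat_lit 12108) i)) (Nat.ble (nat_lit 12104) i)) (@Bool.rec (fun _ => ℕ) (@Bool.rec (fun _ => ℕ) (@Bool.rec (fun _ => ℕ) (@Bool.rec (fun _ => ℕ) rb12112 rb12113 (Nat.ble (nat_lit 12113) i)) (@Bool.rec (fun _ => ℕ) rb12114 rb12115 (Nat.ble (nat_lit 12115) i)) (Nat.ble (nat_lit 12114) i)) (@Bool.rec (fun _ => ℕ) (@Bool.rec (fun _ => ℕ) rb12116 rb12117 (Nat.ble (nat_lit 12117) i)) (@Bool.rec (fun _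 => ℕ) rb12118 rb12119 (Nat.ble (nat_lit 12119) i)) (Nat.ble (nat_lit 12118) i)) (Nat.ble (nat_lit 12116) i)) (@Bool.rec (fun _ => ℕ) (@Bool.rec (fun _ => ℕ) (@Bool.rec (fun _ => ℕ) rb12120 rb12121 (Nat.ble (nat_lit 12121) i)) (@Bool.rec (fun _ => ℕ) rb12122 rb12123 (Nat.ble (nat_lit 12123) i)) (Nat.ble (nat_lit 12122) i)) (@Bool.rec (fun _ => ℕ) (@Bool.rec (fun _ => ℕ) rb12124 rb12125 (Nat.ble (nat_lit 12125) i)) (@Bool.rec (fun _ => ℕ) rb12126 rb12127 (Nat.ble (nat_lit 12127) i)) (Nat.ble (nat_lit 12126) i)) (Nat.ble (nat_lit 12124) i)) (Nat.ble (nat_lit 12120) i)) (Nat.ble (nat_lit 12112) i))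

def rowBlk_n0_379 (i : ℕ) : ℕ := (@Bool.rec (fun _ => ℕ) (@Bool.rec (fun _ => ℕ) (@Bool.rec (fun _ => ℕ) (@Bool.rec (fun _ => ℕ) (@Bool.rec (fun _ => ℕ) rb12128 rb12129 (Nat.ble (nat_lit 12129) i)) (@Bool.rec (fun _ => ℕ) rb12130 rb12131 (Nat.ble (nat_lit 12131) i)) (Nat.ble (nat_lit 12130) i)) (@Bool.rec (fun _ => ℕ) (@Bool.rec (fun _ => ℕ) rb12132 rb12133 (Nat.ble (nat_lit 12133) i)) (@Bool.rec (fun _ => ℕ) rb12134 rb12135 (Nat.ble (nat_lit 12135) i)) (Nat.ble (nat_lit 12134) i)) (Nat.ble (nat_lit 12132) i)) (@Bool.rec (fun _ => ℕ) (@Bool.rec (fun _ => ℕ) (@Bool.rec (fun _ => ℕ) rb12136 rb12137 (Nat.ble (nat_lit 12137) i)) (@Bool.rec (fun _ => ℕ) rb12138 rb12139 (Nat.ble (nat_lit 12139) i)) (Nat.ble (nat_lit 12138) i)) (@Bool.rec (fun _ => ℕ) (@Bool.rec (fun _ => ℕ) rb12140 rb12141 (Nat.ble (nat_lit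 12141) i)) (@Bool.rec (fun _ => ℕ) rb12142 rb12143 (Nat.ble (nat_lit 12143) i)) (Nat.ble (nat_lit 12142) i)) (Nat.ble (nat_lit 12140) i)) (Nat.ble (nat_lit 12136) i)) (@Bool.rec (fun _ => ℕ) (@Bool.rec (fun _ => ℕ) (@Bool.rec (fun _ => ℕ) (@Bool.rec (fun _ => ℕ) rb12144 rb12145 (Nat.ble (nat_lit 12145) i)) (@Bool.rec (fun _ => ℕ) rb12146 rb12147 (Nat.ble (nat_lit 12147) i)) (Nat.ble (nat_lit 12146) i)) (@Bool.rec (fun _ => ℕ) (@Bool.rec (fun _ => ℕ) rb12148 rb12149 (Nat.ble (nat_lit 12149) i)) (@Bool.rec (fun _ => ℕ) rb12150 rb12151 (Nat.ble (nat_lit 12151) i)) (Nat.ble (nat_lit 12150) i)) (Nat.ble (nat_lit 12148) i)) (@Bool.rec (fun _ => ℕ) (@Bool.rec (fun _ => ℕ) (@Bool.rec (fun _ => ℕ) rb12152 rb12153 (Nat.ble (nat_lit 12153) i)) (@Bool.rec (fun _ => ℕ) rb12154 rb12155 (Nat.ble (nat_lit 12155) i)) (Nat.ble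 (nat_lit 12154) i)) (@Bool.rec (fun _ => ℕ) (@Bool.rec (fun _ => ℕ) rb12156 rb12157 (Nat.ble (nat_lit 12157) i)) (@Bool.rec (fun _ => ℕ) rb12158 rb12159 (Nat.ble (nat_lit 12159) i)) (Nat.ble (nat_lit 12158) i)) (Nat.ble (nat_lit 12156) i)) (Nat.ble (nat_lit 12152) i)) (Nat.ble (nat_lit 12144) i))

def rowBlk_n0_380 (i : ℕ) : ℕ := (@Bool.rec (fun _ => ℕ) (@Bool.rec (fun _ => ℕ) (@Bool.rec (fun _ => ℕ) (@Bool.rec (fun _ => ℕ) (@Bool.rec (fun _ => ℕ) rb12160 rb12161 (Nat.ble (nat_lit 12161) i)) (@Bool.rec (fun _ => ℕ) rb12162 rb12163 (Nat.ble (nat_lit 12163) i)) (Nat.ble (nat_lit 12162) i)) (@Bool.rec (fun _ => ℕ) (@Bool.rec (fun _ => ℕ) rb12164 rb12165 (Nat.ble (nat_lit 12165) i)) (@Bool.rec (fun _ => ℕ) rb12166 rb12167 (Nat.ble (nat_lit 12167) i)) (Nat.ble (nat_lit 12166) i)) (Nat.ble (nat_lit 12164) i))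 (@Bool.rec (fun _ => ℕ) (@Bool.rec (fun _ => ℕ) (@Bool.rec (fun _ => ℕ) rb12168 rb12169 (Nat.ble (nat_lit 12169) i)) (@Bool.rec (fun _ => ℕ) rb12170 rb12171 (Nat.ble (nat_lit 12171) i)) (Nat.ble (nat_lit 12170) i)) (@Bool.rec (fun _ => ℕ) (@Bool.rec (fun _ => ℕ) rb12172 rb12173 (Nat.ble (nat_lit 12173) i)) (@Bool.rec (fun _ => ℕ) rb12174 rb12175 (Nat.ble (nat_lit 12175) i)) (Nat.ble (nat_lit 12174) i)) (Nat.ble (nat_lit 12172) i)) (Nat.ble (nat_lit 12168) i)) (@Bool.rec (fun _ => ℕ) (@Bool.rec (fun _ => ℕ) (@Bool.rec (fun _ => ℕ) (@Bool.rec (fun _ => ℕ) rb12176 rb12177 (Nat.ble (nat_lit 12177) i)) (@Bool.rec (fun _ => ℕ) rb12178 rb12179 (Nat.ble (nat_lit 12179) i)) (Nat.ble (nat_lit 12178) i)) (@Bool.rec (fun _ => ℕ) (@Bool.rec (fun _ => ℕ) rb12180 rb12181 (Nat.ble (nat_lit 12181) i)) (@Bool.rec (fun _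 => ℕ) rb12182 rb12183 (Nat.ble (nat_lit 12183) i)) (Nat.ble (nat_lit 12182) i)) (Nat.ble (nat_lit 12180) i)) (@Bool.rec (fun _ => ℕ) (@Bool.rec (fun _ => ℕ) (@Bool.rec (fun _ => ℕ) rb12184 rb12185 (Nat.ble (nat_lit 12185) i)) (@Bool.rec (fun _ => ℕ) rb12186 rb12187 (Nat.ble (nat_lit 12187) i)) (Nat.ble (nat_lit 12186) i)) (@Bool.rec (fun _ => ℕ) (@Bool.rec (fun _ => ℕ) rb12188 rb12189 (Nat.ble (nat_lit 12189) i)) (@Bool.rec (fun _ => ℕ) rb12190 rb12191 (Nat.ble (nat_lit 12191) i)) (Nat.ble (nat_lit 12190) i)) (Nat.ble (nat_lit 12188) i)) (Nat.ble (nat_lit 12184) i)) (Nat.ble (nat_lit 12176) i))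

def rowBlk_n0_381 (i : ℕ) : ℕ := (@Bool.rec (fun _ => ℕ) (@Bool.rec (fun _ => ℕ) (@Bool.rec (fun _ => ℕ) (@Bool.rec (fun _ => ℕ) (@Bool.rec (fun _ => ℕ) rb12192 rb12193 (Nat.ble (nat_lit 12193) i)) (@Bool.rec (fun _ => ℕ) rb12194 rb12195 (Nat.ble (nat_lit 12195) i)) (Nat.ble (nat_lit 12194) i)) (@Bool.rec (fun _ => ℕ) (@Bool.rec (fun _ => ℕ) rb12196 rb12197 (Nat.ble (nat_lit 12197) i)) (@Bool.rec (fun _ => ℕ) rb12198 rb12199 (Nat.ble (nat_lit 12199) i)) (Nat.ble (nat_lit 12198) i)) (Nat.ble (nat_lit 12196) i)) (@Bool.rec (fun _ => ℕ) (@Bool.rec (fun _ => ℕ) (@Bool.rec (fun _ => ℕ) rb12200 rb12201 (Nat.ble (nat_lit 12201) i)) (@Bool.rec (fun _ => ℕ) rb12202 rb12203 (Nat.ble (nat_lit 12203) i)) (Nat.ble (nat_lit 12202) i)) (@Bool.rec (fun _ => ℕ) (@Bool.rec (fun _ => ℕ) rb12204 rb12205 (Nat.ble (nat_lit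 12205) i)) (@Bool.rec (fun _ => ℕ) rb12206 rb12207 (Nat.ble (nat_lit 12207) i)) (Nat.ble (nat_lit 12206) i)) (Nat.ble (nat_lit 12204) i)) (Nat.ble (nat_lit 12200) i)) (@Bool.rec (fun _ => ℕ) (@Bool.rec (fun _ => ℕ) (@Bool.rec (fun _ => ℕ) (@Bool.rec (fun _ => ℕ) rb12208 rb12209 (Nat.ble (nat_lit 12209) i)) (@Bool.rec (fun _ => ℕ) rb12210 rb12211 (Nat.ble (nat_lit 12211) i)) (Nat.ble (nat_lit 12210) i)) (@Bool.rec (fun _ => ℕ) (@Bool.rec (fun _ => ℕ) rb12212 rb12213 (Nat.ble (nat_lit 12213) i)) (@Bool.rec (fun _ => ℕ) rb12214 rb12215 (Nat.ble (nat_lit 12215) i)) (Nat.ble (nat_lit 12214) i)) (Nat.ble (nat_lit 12212) i)) (@Bool.rec (fun _ => ℕ) (@Bool.rec (fun _ => ℕ) (@Bool.rec (fun _ => ℕ) rb12216 rb12217 (Nat.ble (nat_lit 12217) i)) (@Bool.rec (fun _ => ℕ) rb12218 rb12219 (Nat.ble (nat_lit 12219) i)) (Nat.ble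 (nat_lit 12218) i)) (@Bool.rec (fun _ => ℕ) (@Bool.rec (fun _ => ℕ) rb12220 rb12221 (Nat.ble (nat_lit 12221) i)) (@Bool.rec (fun _ => ℕ) rb12222 rb12223 (Nat.ble (nat_lit 12223) i)) (Nat.ble (nat_lit 12222) i)) (Nat.ble (nat_lit 12220) i)) (Nat.ble (nat_lit 12216) i)) (Nat.ble (nat_lit 12208) i))

def rowBlk_n0_382 (i : ℕ) : ℕ := (@Bool.rec (fun _ => ℕ) (@Bool.rec (fun _ => ℕ) (@Bool.rec (fun _ => ℕ) (@Bool.rec (fun _ => ℕ) (@Bool.rec (fun _ => ℕ) rb12224 rb12225 (Nat.ble (nat_lit 12225) i)) (@Bool.rec (fun _ => ℕ) rb12226 rb12227 (Nat.ble (nat_lit 12227) i)) (Nat.ble (nat_lit 12226) i)) (@Bool.rec (fun _ => ℕ) (@Bool.rec (fun _ => ℕ) rb12228 rb12229 (Nat.ble (nat_lit 12229) i)) (@Bool.rec (fun _ => ℕ) rb12230 rb12231 (Nat.ble (nat_lit 12231) i)) (Nat.ble (nat_lit 12230) i)) (Nat.ble (nat_lit 12228) i))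 (@Bool.rec (fun _ => ℕ) (@Bool.rec (fun _ => ℕ) (@Bool.rec (fun _ => ℕ) rb12232 rb12233 (Nat.ble (nat_lit 12233) i)) (@Bool.rec (fun _ => ℕ) rb12234 rb12235 (Nat.ble (nat_lit 12235) i)) (Nat.ble (nat_lit 12234) i)) (@Bool.rec (fun _ => ℕ) (@Bool.rec (fun _ => ℕ) rb12236 rb12237 (Nat.ble (nat_lit 12237) i)) (@Bool.rec (fun _ => ℕ) rb12238 rb12239 (Nat.ble (nat_lit 12239) i)) (Nat.ble (nat_lit 12238) i)) (Nat.ble (nat_lit 12236) i)) (Nat.ble (nat_lit 12232) i)) (@Bool.rec (fun _ => ℕ) (@Bool.rec (fun _ => ℕ) (@Bool.rec (fun _ => ℕ) (@Bool.rec (fun _ => ℕ) rb12240 rb12241 (Nat.ble (nat_lit 12241) i)) (@Bool.rec (fun _ => ℕ) rb12242 rb12243 (Nat.ble (nat_lit 12243) i)) (Nat.ble (nat_lit 12242) i)) (@Bool.rec (fun _ => ℕ) (@Bool.rec (fun _ => ℕ) rb12244 rb12245 (Nat.ble (nat_lit 12245) i)) (@Bool.rec (fun _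 => ℕ) rb12246 rb12247 (Nat.ble (nat_lit 12247) i)) (Nat.ble (nat_lit 12246) i)) (Nat.ble (nat_lit 12244) i)) (@Bool.rec (fun _ => ℕ) (@Bool.rec (fun _ => ℕ) (@Bool.rec (fun _ => ℕ) rb12248 rb12249 (Nat.ble (nat_lit 12249) i)) (@Bool.rec (fun _ => ℕ) rb12250 rb12251 (Nat.ble (nat_lit 12251) i)) (Nat.ble (nat_lit 12250) i)) (@Bool.rec (fun _ => ℕ) (@Bool.rec (fun _ => ℕ) rb12252 rb12253 (Nat.ble (nat_lit 12253) i)) (@Bool.rec (fun _ => ℕ) rb12254 rb12255 (Nat.ble (nat_lit 12255) i)) (Nat.ble (nat_lit 12254) i)) (Nat.ble (nat_lit 12252) i)) (Nat.ble (nat_lit 12248) i)) (Nat.ble (nat_lit 12240) i))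

def rowBlk_n0_383 (i : ℕ) : ℕ := (@Bool.rec (fun _ => ℕ) (@Bool.rec (fun _ => ℕ) (@Bool.rec (fun _ => ℕ) (@Bool.rec (fun _ => ℕ) (@Bool.rec (fun _ => ℕ) rb12256 rb12257 (Nat.ble (nat_lit 12257) i)) (@Bool.rec (fun _ => ℕ) rb12258 rb12259 (Nat.ble (nat_lit 12259) i)) (Nat.ble (nat_lit 12258) i)) (@Bool.rec (fun _ => ℕ) (@Bool.rec (fun _ => ℕ) rb12260 rb12261 (Nat.ble (nat_lit 12261) i)) (@Bool.rec (fun _ => ℕ) rb12262 rb12263 (Nat.ble (nat_lit 12263) i)) (Nat.ble (nat_lit 12262) i)) (Nat.ble (nat_lit 12260) i)) (@Bool.rec (fun _ => ℕ) (@Bool.rec (fun _ => ℕ) (@Bool.rec (fun _ => ℕ) rb12264 rb12265 (Nat.ble (nat_lit 12265) i)) (@Bool.rec (fun _ => ℕ) rb12266 rb12267 (Nat.ble (nat_lit 12267) i)) (Nat.ble (nat_lit 12266) i)) (@Bool.rec (fun _ => ℕ) (@Bool.rec (fun _ => ℕ) rb12268 rb12269 (Nat.ble (nat_lit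 12269) i)) (@Bool.rec (fun _ => ℕ) rb12270 rb12271 (Nat.ble (nat_lit 12271) i)) (Nat.ble (nat_lit 12270) i)) (Nat.ble (nat_lit 12268) i)) (Nat.ble (nat_lit 12264) i)) (@Bool.rec (fun _ => ℕ) (@Bool.rec (fun _ => ℕ) (@Bool.rec (fun _ => ℕ) (@Bool.rec (fun _ => ℕ) rb12272 rb12273 (Nat.ble (nat_lit 12273) i)) (@Bool.rec (fun _ => ℕ) rb12274 rb12275 (Nat.ble (nat_lit 12275) i)) (Nat.ble (nat_lit 12274) i)) (@Bool.rec (fun _ => ℕ) (@Bool.rec (fun _ => ℕ) rb12276 rb12277 (Nat.ble (nat_lit 12277) i)) (@Bool.rec (fun _ => ℕ) rb12278 rb12279 (Nat.ble (nat_lit 12279) i)) (Nat.ble (nat_lit 12278) i)) (Nat.ble (nat_lit 12276) i)) (@Bool.rec (fun _ => ℕ) (@Bool.rec (fun _ => ℕ) (@Bool.rec (fun _ => ℕ) rb12280 rb12281 (Nat.ble (nat_lit 12281) i)) (@Bool.rec (fun _ => ℕ) rb12282 rb12283 (Nat.ble (nat_lit 12283) i)) (Nat.ble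 (nat_lit 12282) i)) (@Bool.rec (fun _ => ℕ) (@Bool.rec (fun _ => ℕ) rb12284 rb12285 (Nat.ble (nat_lit 12285) i)) (@Bool.rec (fun _ => ℕ) rb12286 rb12287 (Nat.ble (nat_lit 12287) i)) (Nat.ble (nat_lit 12286) i)) (Nat.ble (nat_lit 12284) i)) (Nat.ble (nat_lit 12280) i)) (Nat.ble (nat_lit 12272) i))

def rowBlk_n0_384 (i : ℕ) : ℕ := (@Bool.rec (fun _ => ℕ) (@Bool.rec (fun _ => ℕ) (@Bool.rec (fun _ => ℕ) (@Bool.rec (fun _ => ℕ) (@Bool.rec (fun _ => ℕ) rb12288 rb12289 (Nat.ble (nat_lit 12289) i)) (@Bool.rec (fun _ => ℕ) rb12290 rb12291 (Nat.ble (nat_lit 12291) i)) (Nat.ble (nat_lit 12290) i)) (@Bool.rec (fun _ => ℕ) (@Bool.rec (fun _ => ℕ) rb12292 rb12293 (Nat.ble (nat_lit 12293) i)) (@Bool.rec (fun _ => ℕ) rb12294 rb12295 (Nat.ble (nat_lit 12295) i)) (Nat.ble (nat_lit 12294) i)) (Nat.ble (nat_lit 12292) i))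 (@Bool.rec (fun _ => ℕ) (@Bool.rec (fun _ => ℕ) (@Bool.rec (fun _ => ℕ) rb12296 rb12297 (Nat.ble (nat_lit 12297) i)) (@Bool.rec (fun _ => ℕ) rb12298 rb12299 (Nat.ble (nat_lit 12299) i)) (Nat.ble (nat_lit 12298) i)) (@Bool.rec (fun _ => ℕ) (@Bool.rec (fun _ => ℕ) rb12300 rb12301 (Nat.ble (nat_lit 12301) i)) (@Bool.rec (fun _ => ℕ) rb12302 rb12303 (Nat.ble (nat_lit 12303) i)) (Nat.ble (nat_lit 12302) i)) (Nat.ble (nat_lit 12300) i)) (Nat.ble (nat_lit 12296) i)) (@Bool.rec (fun _ => ℕ) (@Bool.rec (fun _ => ℕ) (@Bool.rec (fun _ => ℕ) (@Bool.rec (fun _ => ℕ) rb12304 rb12305 (Nat.ble (nat_lit 12305) i)) (@Bool.rec (fun _ => ℕ) rb12306 rb12307 (Nat.ble (nat_lit 12307) i)) (Nat.ble (nat_lit 12306) i)) (@Bool.rec (fun _ => ℕ) (@Bool.rec (fun _ => ℕ) rb12308 rb12309 (Nat.ble (nat_lit 12309) i)) (@Bool.rec (fun _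 => ℕ) rb12310 rb12311 (Nat.ble (nat_lit 12311) i)) (Nat.ble (nat_lit 12310) i)) (Nat.ble (nat_lit 12308) i)) (@Bool.rec (fun _ => ℕ) (@Bool.rec (fun _ => ℕ) (@Bool.rec (fun _ => ℕ) rb12312 rb12313 (Nat.ble (nat_lit 12313) i)) (@Bool.rec (fun _ => ℕ) rb12314 rb12315 (Nat.ble (nat_lit 12315) i)) (Nat.ble (nat_lit 12314) i)) (@Bool.rec (fun _ => ℕ) (@Bool.rec (fun _ => ℕ) rb12316 rb12317 (Nat.ble (nat_lit 12317) i)) (@Bool.rec (fun _ => ℕ) rb12318 rb12319 (Nat.ble (nat_lit 12319) i)) (Nat.ble (nat_lit 12318) i)) (Nat.ble (nat_lit 12316) i)) (Nat.ble (nat_lit 12312) i)) (Nat.ble (nat_lit 12304) i))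

def rowBlk_n0_385 (i : ℕ) : ℕ := (@Bool.rec (fun _ => ℕ) (@Bool.rec (fun _ => ℕ) (@Bool.rec (fun _ => ℕ) (@Bool.rec (fun _ => ℕ) (@Bool.rec (fun _ => ℕ) rb12320 rb12321 (Nat.ble (nat_lit 12321) i)) (@Bool.rec (fun _ => ℕ) rb12322 rb12323 (Nat.ble (nat_lit 12323) i)) (Nat.ble (nat_lit 12322) i)) (@Bool.rec (fun _ => ℕ) (@Bool.rec (fun _ => ℕ) rb12324 rb12325 (Nat.ble (nat_lit 12325) i)) (@Bool.rec (fun _ => ℕ) rb12326 rb12327 (Nat.ble (nat_lit 12327) i)) (Nat.ble (nat_lit 12326) i)) (Nat.ble (nat_lit 12324) i)) (@Bool.rec (fun _ => ℕ) (@Bool.rec (fun _ => ℕ) (@Bool.rec (fun _ => ℕ) rb12328 rb12329 (Nat.ble (nat_lit 12329) i)) (@Bool.rec (fun _ => ℕ) rb12330 rb12331 (Nat.ble (nat_lit 12331) i)) (Nat.ble (nat_lit 12330) i)) (@Bool.rec (fun _ => ℕ) (@Bool.rec (fun _ => ℕ) rb12332 rb12333 (Nat.ble (nat_lit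 12333) i)) (@Bool.rec (fun _ => ℕ) rb12334 rb12335 (Nat.ble (nat_lit 12335) i)) (Nat.ble (nat_lit 12334) i)) (Nat.ble (nat_lit 12332) i)) (Nat.ble (nat_lit 12328) i)) (@Bool.rec (fun _ => ℕ) (@Bool.rec (fun _ => ℕ) (@Bool.rec (fun _ => ℕ) (@Bool.rec (fun _ => ℕ) rb12336 rb12337 (Nat.ble (nat_lit 12337) i)) (@Bool.rec (fun _ => ℕ) rb12338 rb12339 (Nat.ble (nat_lit 12339) i)) (Nat.ble (nat_lit 12338) i)) (@Bool.rec (fun _ => ℕ) (@Bool.rec (fun _ => ℕ) rb12340 rb12341 (Nat.ble (nat_lit 12341) i)) (@Bool.rec (fun _ => ℕ) rb12342 rb12343 (Nat.ble (nat_lit 12343) i)) (Nat.ble (nat_lit 12342) i)) (Nat.ble (nat_lit 12340) i)) (@Bool.rec (fun _ => ℕ) (@Bool.rec (fun _ => ℕ) (@Bool.rec (fun _ => ℕ) rb12344 rb12345 (Nat.ble (nat_lit 12345) i)) (@Bool.rec (fun _ => ℕ) rb12346 rb12347 (Nat.ble (nat_lit 12347) i)) (Nat.ble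 (nat_lit 12346) i)) (@Bool.rec (fun _ => ℕ) (@Bool.rec (fun _ => ℕ) rb12348 rb12349 (Nat.ble (nat_lit 12349) i)) (@Bool.rec (fun _ => ℕ) rb12350 rb12351 (Nat.ble (nat_lit 12351) i)) (Nat.ble (nat_lit 12350) i)) (Nat.ble (nat_lit 12348) i)) (Nat.ble (nat_lit 12344) i)) (Nat.ble (nat_lit 12336) i))

def rowBlk_n0_386 (i : ℕ) : ℕ := (@Bool.rec (fun _ => ℕ) (@Bool.rec (fun _ => ℕ) (@Bool.rec (fun _ => ℕ) (@Bool.rec (fun _ => ℕ) (@Bool.rec (fun _ => ℕ) rb12352 rb12353 (Nat.ble (nat_lit 12353) i)) (@Bool.rec (fun _ => ℕ) rb12354 rb12355 (Nat.ble (nat_lit 12355) i)) (Nat.ble (nat_lit 12354) i)) (@Bool.rec (fun _ => ℕ) (@Bool.rec (fun _ => ℕ) rb12356 rb12357 (Nat.ble (nat_lit 12357) i)) (@Bool.rec (fun _ => ℕ) rb12358 rb12359 (Nat.ble (nat_lit 12359) i)) (Nat.ble (nat_lit 12358) i)) (Nat.ble (nat_lit 12356) i))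 (@Bool.rec (fun _ => ℕ) (@Bool.rec (fun _ => ℕ) (@Bool.rec (fun _ => ℕ) rb12360 rb12361 (Nat.ble (nat_lit 12361) i)) (@Bool.rec (fun _ => ℕ) rb12362 rb12363 (Nat.ble (nat_lit 12363) i)) (Nat.ble (nat_lit 12362) i)) (@Bool.rec (fun _ => ℕ) (@Bool.rec (fun _ => ℕ) rb12364 rb12365 (Nat.ble (nat_lit 12365) i)) (@Bool.rec (fun _ => ℕ) rb12366 rb12367 (Nat.ble (nat_lit 12367) i)) (Nat.ble (nat_lit 12366) i)) (Nat.ble (nat_lit 12364) i)) (Nat.ble (nat_lit 12360) i)) (@Bool.rec (fun _ => ℕ) (@Bool.rec (fun _ => ℕ) (@Bool.rec (fun _ => ℕ) (@Bool.rec (fun _ => ℕ) rb12368 rb12369 (Nat.ble (nat_lit 12369) i)) (@Bool.rec (fun _ => ℕ) rb12370 rb12371 (Nat.ble (nat_lit 12371) i)) (Nat.ble (nat_lit 12370) i)) (@Bool.rec (fun _ => ℕ) (@Bool.rec (fun _ => ℕ) rb12372 rb12373 (Nat.ble (nat_lit 12373) i)) (@Bool.rec (fun _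 => ℕ) rb12374 rb12375 (Nat.ble (nat_lit 12375) i)) (Nat.ble (nat_lit 12374) i)) (Nat.ble (nat_lit 12372) i)) (@Bool.rec (fun _ => ℕ) (@Bool.rec (fun _ => ℕ) (@Bool.rec (fun _ => ℕ) rb12376 rb12377 (Nat.ble (nat_lit 12377) i)) (@Bool.rec (fun _ => ℕ) rb12378 rb12379 (Nat.ble (nat_lit 12379) i)) (Nat.ble (nat_lit 12378) i)) (@Bool.rec (fun _ => ℕ) (@Bool.rec (fun _ => ℕ) rb12380 rb12381 (Nat.ble (nat_lit 12381) i)) (@Bool.rec (fun _ => ℕ) rb12382 rb12383 (Nat.ble (nat_lit 12383) i)) (Nat.ble (nat_lit 12382) i)) (Nat.ble (nat_lit 12380) i)) (Nat.ble (nat_lit 12376) i)) (Nat.ble (nat_lit 12368) i))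

def rowBlk_n0_387 (i : ℕ) : ℕ := (@Bool.rec (fun _ => ℕ) (@Bool.rec (fun _ => ℕ) (@Bool.rec (fun _ => ℕ) (@Bool.rec (fun _ => ℕ) (@Bool.rec (fun _ => ℕ) rb12384 rb12385 (Nat.ble (nat_lit 12385) i)) (@Bool.rec (fun _ => ℕ) rb12386 rb12387 (Nat.ble (nat_lit 12387) i)) (Nat.ble (nat_lit 12386) i)) (@Bool.rec (fun _ => ℕ) (@Bool.rec (fun _ => ℕ) rb12388 rb12389 (Nat.ble (nat_lit 12389) i)) (@Bool.rec (fun _ => ℕ) rb12390 rb12391 (Nat.ble (nat_lit 12391) i)) (Nat.ble (nat_lit 12390) i)) (Nat.ble (nat_lit 12388) i)) (@Bool.rec (fun _ => ℕ) (@Bool.rec (fun _ => ℕ) (@Bool.rec (fun _ => ℕ) rb12392 rb12393 (Nat.ble (nat_lit 12393) i)) (@Bool.rec (fun _ => ℕ) rb12394 rb12395 (Nat.ble (nat_lit 12395) i)) (Nat.ble (nat_lit 12394) i)) (@Bool.rec (fun _ => ℕ) (@Bool.rec (fun _ => ℕ) rb12396 rb12397 (Nat.ble (nat_lit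 12397) i)) (@Bool.rec (fun _ => ℕ) rb12398 rb12399 (Nat.ble (nat_lit 12399) i)) (Nat.ble (nat_lit 12398) i)) (Nat.ble (nat_lit 12396) i)) (Nat.ble (nat_lit 12392) i)) (@Bool.rec (fun _ => ℕ) (@Bool.rec (fun _ => ℕ) (@Bool.rec (fun _ => ℕ) (@Bool.rec (fun _ => ℕ) rb12400 rb12401 (Nat.ble (nat_lit 12401) i)) (@Bool.rec (fun _ => ℕ) rb12402 rb12403 (Nat.ble (nat_lit 12403) i)) (Nat.ble (nat_lit 12402) i)) (@Bool.rec (fun _ => ℕ) (@Bool.rec (fun _ => ℕ) rb12404 rb12405 (Nat.ble (nat_lit 12405) i)) (@Bool.rec (fun _ => ℕ) rb12406 rb12407 (Nat.ble (nat_lit 12407) i)) (Nat.ble (nat_lit 12406) i)) (Nat.ble (nat_lit 12404) i)) (@Bool.rec (fun _ => ℕ) (@Bool.rec (fun _ => ℕ) (@Bool.rec (fun _ => ℕ) rb12408 rb12409 (Nat.ble (nat_lit 12409) i)) (@Bool.rec (fun _ => ℕ) rb12410 rb12411 (Nat.ble (nat_lit 12411) i)) (Nat.ble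 (nat_lit 12410) i)) (@Bool.rec (fun _ => ℕ) (@Bool.rec (fun _ => ℕ) rb12412 rb12413 (Nat.ble (nat_lit 12413) i)) (@Bool.rec (fun _ => ℕ) rb12414 rb12415 (Nat.ble (nat_lit 12415) i)) (Nat.ble (nat_lit 12414) i)) (Nat.ble (nat_lit 12412) i)) (Nat.ble (nat_lit 12408) i)) (Nat.ble (nat_lit 12400) i))

def rowBlk_n0_388 (i : ℕ) : ℕ := (@Bool.rec (fun _ => ℕ) (@Bool.rec (fun _ => ℕ) (@Bool.rec (fun _ => ℕ) (@Bool.rec (fun _ => ℕ) (@Bool.rec (fun _ => ℕ) rb12416 rb12417 (Nat.ble (nat_lit 12417) i)) (@Bool.rec (fun _ => ℕ) rb12418 rb12419 (Nat.ble (nat_lit 12419) i)) (Nat.ble (nat_lit 12418) i)) (@Bool.rec (fun _ => ℕ) (@Bool.rec (fun _ => ℕ) rb12420 rb12421 (Nat.ble (nat_lit 12421) i)) (@Bool.rec (fun _ => ℕ) rb12422 rb12423 (Nat.ble (nat_lit 12423) i)) (Nat.ble (nat_lit 12422) i)) (Nat.ble (nat_lit 12420) i))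 (@Bool.rec (fun _ => ℕ) (@Bool.rec (fun _ => ℕ) (@Bool.rec (fun _ => ℕ) rb12424 rb12425 (Nat.ble (nat_lit 12425) i)) (@Bool.rec (fun _ => ℕ) rb12426 rb12427 (Nat.ble (nat_lit 12427) i)) (Nat.ble (nat_lit 12426) i)) (@Bool.rec (fun _ => ℕ) (@Bool.rec (fun _ => ℕ) rb12428 rb12429 (Nat.ble (nat_lit 12429) i)) (@Bool.rec (fun _ => ℕ) rb12430 rb12431 (Nat.ble (nat_lit 12431) i)) (Nat.ble (nat_lit 12430) i)) (Nat.ble (nat_lit 12428) i)) (Nat.ble (nat_lit 12424) i)) (@Bool.rec (fun _ => ℕ) (@Bool.rec (fun _ => ℕ) (@Bool.rec (fun _ => ℕ) (@Bool.rec (fun _ => ℕ) rb12432 rb12433 (Nat.ble (nat_lit 12433) i)) (@Bool.rec (fun _ => ℕ) rb12434 rb12435 (Nat.ble (nat_lit 12435) i)) (Nat.ble (nat_lit 12434) i)) (@Bool.rec (fun _ => ℕ) (@Bool.rec (fun _ => ℕ) rb12436 rb12437 (Nat.ble (nat_lit 12437) i)) (@Bool.rec (fun _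 => ℕ) rb12438 rb12439 (Nat.ble (nat_lit 12439) i)) (Nat.ble (nat_lit 12438) i)) (Nat.ble (nat_lit 12436) i)) (@Bool.rec (fun _ => ℕ) (@Bool.rec (fun _ => ℕ) (@Bool.rec (fun _ => ℕ) rb12440 rb12441 (Nat.ble (nat_lit 12441) i)) (@Bool.rec (fun _ => ℕ) rb12442 rb12443 (Nat.ble (nat_lit 12443) i)) (Nat.ble (nat_lit 12442) i)) (@Bool.rec (fun _ => ℕ) (@Bool.rec (fun _ => ℕ) rb12444 rb12445 (Nat.ble (nat_lit 12445) i)) (@Bool.rec (fun _ => ℕ) rb12446 rb12447 (Nat.ble (nat_lit 12447) i)) (Nat.ble (nat_lit 12446) i)) (Nat.ble (nat_lit 12444) i)) (Nat.ble (nat_lit 12440) i)) (Nat.ble (nat_lit 12432) i))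

def rowBlk_n0_389 (i : ℕ) : ℕ := (@Bool.rec (fun _ => ℕ) (@Bool.rec (fun _ => ℕ) (@Bool.rec (fun _ => ℕ) (@Bool.rec (fun _ => ℕ) (@Bool.rec (fun _ => ℕ) rb12448 rb12449 (Nat.ble (nat_lit 12449) i)) (@Bool.rec (fun _ => ℕ) rb12450 rb12451 (Nat.ble (nat_lit 12451) i)) (Nat.ble (nat_lit 12450) i)) (@Bool.rec (fun _ => ℕ) (@Bool.rec (fun _ => ℕ) rb12452 rb12453 (Nat.ble (nat_lit 12453) i)) (@Bool.rec (fun _ => ℕ) rb12454 rb12455 (Nat.ble (nat_lit 12455) i)) (Nat.ble (nat_lit 12454) i)) (Nat.ble (nat_lit 12452) i)) (@Bool.rec (fun _ => ℕ) (@Bool.rec (fun _ => ℕ) (@Bool.rec (fun _ => ℕ) rb12456 rb12457 (Nat.ble (nat_lit 12457) i)) (@Bool.rec (fun _ => ℕ) rb12458 rb12459 (Nat.ble (nat_lit 12459) i)) (Nat.ble (nat_lit 12458) i)) (@Bool.rec (fun _ => ℕ) (@Bool.rec (fun _ => ℕ) rb12460 rb12461 (Nat.ble (nat_lit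 12461) i)) (@Bool.rec (fun _ => ℕ) rb12462 rb12463 (Nat.ble (nat_lit 12463) i)) (Nat.ble (nat_lit 12462) i)) (Nat.ble (nat_lit 12460) i)) (Nat.ble (nat_lit 12456) i)) (@Bool.rec (fun _ => ℕ) (@Bool.rec (fun _ => ℕ) (@Bool.rec (fun _ => ℕ) (@Bool.rec (fun _ => ℕ) rb12464 rb12465 (Nat.ble (nat_lit 12465) i)) (@Bool.rec (fun _ => ℕ) rb12466 rb12467 (Nat.ble (nat_lit 12467) i)) (Nat.ble (nat_lit 12466) i)) (@Bool.rec (fun _ => ℕ) (@Bool.rec (fun _ => ℕ) rb12468 rb12469 (Nat.ble (nat_lit 12469) i)) (@Bool.rec (fun _ => ℕ) rb12470 rb12471 (Nat.ble (nat_lit 12471) i)) (Nat.ble (nat_lit 12470) i)) (Nat.ble (nat_lit 12468) i)) (@Bool.rec (fun _ => ℕ) (@Bool.rec (fun _ => ℕ) (@Bool.rec (fun _ => ℕ) rb12472 rb12473 (Nat.ble (nat_lit 12473) i)) (@Bool.rec (fun _ => ℕ) rb12474 rb12475 (Nat.ble (nat_lit 12475) i)) (Nat.ble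 (nat_lit 12474) i)) (@Bool.rec (fun _ => ℕ) (@Bool.rec (fun _ => ℕ) rb12476 rb12477 (Nat.ble (nat_lit 12477) i)) (@Bool.rec (fun _ => ℕ) rb12478 rb12479 (Nat.ble (nat_lit 12479) i)) (Nat.ble (nat_lit 12478) i)) (Nat.ble (nat_lit 12476) i)) (Nat.ble (nat_lit 12472) i)) (Nat.ble (nat_lit 12464) i))

def rowBlk_n0_390 (i : ℕ) : ℕ := (@Bool.rec (fun _ => ℕ) (@Bool.rec (fun _ => ℕ) (@Bool.rec (fun _ => ℕ) (@Bool.rec (fun _ => ℕ) (@Bool.rec (fun _ => ℕ) rb12480 rb12481 (Nat.ble (nat_lit 12481) i)) (@Bool.rec (fun _ => ℕ) rb12482 rb12483 (Nat.ble (nat_lit 12483) i)) (Nat.ble (nat_lit 12482) i)) (@Bool.rec (fun _ => ℕ) (@Bool.rec (fun _ => ℕ) rb12484 rb12485 (Nat.ble (nat_lit 12485) i)) (@Bool.rec (fun _ => ℕ) rb12486 rb12487 (Nat.ble (nat_lit 12487) i)) (Nat.ble (nat_lit 12486) i)) (Nat.ble (nat_lit 12484) i))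 (@Bool.rec (fun _ => ℕ) (@Bool.rec (fun _ => ℕ) (@Bool.rec (fun _ => ℕ) rb12488 rb12489 (Nat.ble (nat_lit 12489) i)) (@Bool.rec (fun _ => ℕ) rb12490 rb12491 (Nat.ble (nat_lit 12491) i)) (Nat.ble (nat_lit 12490) i)) (@Bool.rec (fun _ => ℕ) (@Bool.rec (fun _ => ℕ) rb12492 rb12493 (Nat.ble (nat_lit 12493) i)) (@Bool.rec (fun _ => ℕ) rb12494 rb12495 (Nat.ble (nat_lit 12495) i)) (Nat.ble (nat_lit 12494) i)) (Nat.ble (nat_lit 12492) i)) (Nat.ble (nat_lit 12488) i)) (@Bool.rec (fun _ => ℕ) (@Bool.rec (fun _ => ℕ) (@Bool.rec (fun _ => ℕ) (@Bool.rec (fun _ => ℕ) rb12496 rb12497 (Nat.ble (nat_lit 12497) i)) (@Bool.rec (fun _ => ℕ) rb12498 rb12499 (Nat.ble (nat_lit 12499) i)) (Nat.ble (nat_lit 12498) i)) (@Bool.rec (fun _ => ℕ) (@Bool.rec (fun _ => ℕ) rb12500 rb12501 (Nat.ble (nat_lit 12501) i)) (@Bool.rec (fun _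 => ℕ) rb12502 rb12503 (Nat.ble (nat_lit 12503) i)) (Nat.ble (nat_lit 12502) i)) (Nat.ble (nat_lit 12500) i)) (@Bool.rec (fun _ => ℕ) (@Bool.rec (fun _ => ℕ) (@Bool.rec (fun _ => ℕ) rb12504 rb12505 (Nat.ble (nat_lit 12505) i)) (@Bool.rec (fun _ => ℕ) rb12506 rb12507 (Nat.ble (nat_lit 12507) i)) (Nat.ble (nat_lit 12506) i)) (@Bool.rec (fun _ => ℕ) (@Bool.rec (fun _ => ℕ) rb12508 rb12509 (Nat.ble (nat_lit 12509) i)) (@Bool.rec (fun _ => ℕ) rb12510 rb12511 (Nat.ble (nat_lit 12511) i)) (Nat.ble (nat_lit 12510) i)) (Nat.ble (nat_lit 12508) i)) (Nat.ble (nat_lit 12504) i)) (Nat.ble (nat_lit 12496) i))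

def rowBlk_n0_391 (i : ℕ) : ℕ := (@Bool.rec (fun _ => ℕ) (@Bool.rec (fun _ => ℕ) (@Bool.rec (fun _ => ℕ) (@Bool.rec (fun _ => ℕ) (@Bool.rec (fun _ => ℕ) rb12512 rb12513 (Nat.ble (nat_lit 12513) i)) (@Bool.rec (fun _ => ℕ) rb12514 rb12515 (Nat.ble (nat_lit 12515) i)) (Nat.ble (nat_lit 12514) i)) (@Bool.rec (fun _ => ℕ) (@Bool.rec (fun _ => ℕ) rb12516 rb12517 (Nat.ble (nat_lit 12517) i)) (@Bool.rec (fun _ => ℕ) rb12518 rb12519 (Nat.ble (nat_lit 12519) i)) (Nat.ble (nat_lit 12518) i)) (Nat.ble (nat_lit 12516) i)) (@Bool.rec (fun _ => ℕ) (@Bool.rec (fun _ => ℕ) (@Bool.rec (fun _ => ℕ) rb12520 rb12521 (Nat.ble (nat_lit 12521) i)) (@Bool.rec (fun _ => ℕ) rb12522 rb12523 (Nat.ble (nat_lit 12523) i)) (Nat.ble (nat_lit 12522) i)) (@Bool.rec (fun _ => ℕ) (@Bool.rec (fun _ => ℕ) rb12524 rb12525 (Nat.ble (nat_lit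 12525) i)) (@Bool.rec (fun _ => ℕ) rb12526 rb12527 (Nat.ble (nat_lit 12527) i)) (Nat.ble (nat_lit 12526) i)) (Nat.ble (nat_lit 12524) i)) (Nat.ble (nat_lit 12520) i)) (@Bool.rec (fun _ => ℕ) (@Bool.rec (fun _ => ℕ) (@Bool.rec (fun _ => ℕ) (@Bool.rec (fun _ => ℕ) rb12528 rb12529 (Nat.ble (nat_lit 12529) i)) (@Bool.rec (fun _ => ℕ) rb12530 rb12531 (Nat.ble (nat_lit 12531) i)) (Nat.ble (nat_lit 12530) i)) (@Bool.rec (fun _ => ℕ) (@Bool.rec (fun _ => ℕ) rb12532 rb12533 (Nat.ble (nat_lit 12533) i)) (@Bool.rec (fun _ => ℕ) rb12534 rb12535 (Nat.ble (nat_lit 12535) i)) (Nat.ble (nat_lit 12534) i)) (Nat.ble (nat_lit 12532) i)) (@Bool.rec (fun _ => ℕ) (@Bool.rec (fun _ => ℕ) (@Bool.rec (fun _ => ℕ) rb12536 rb12537 (Nat.ble (nat_lit 12537) i)) (@Bool.rec (fun _ => ℕ) rb12538 rb12539 (Nat.ble (nat_lit 12539) i)) (Nat.ble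 (nat_lit 12538) i)) (@Bool.rec (fun _ => ℕ) (@Bool.rec (fun _ => ℕ) rb12540 rb12541 (Nat.ble (nat_lit 12541) i)) (@Bool.rec (fun _ => ℕ) rb12542 rb12543 (Nat.ble (nat_lit 12543) i)) (Nat.ble (nat_lit 12542) i)) (Nat.ble (nat_lit 12540) i)) (Nat.ble (nat_lit 12536) i)) (Nat.ble (nat_lit 12528) i))

def rowBlk_n0_392 (i : ℕ) : ℕ := (@Bool.rec (fun _ => ℕ) (@Bool.rec (fun _ => ℕ) (@Bool.rec (fun _ => ℕ) (@Bool.rec (fun _ => ℕ) (@Bool.rec (fun _ => ℕ) rb12544 rb12545 (Nat.ble (nat_lit 12545) i)) (@Bool.rec (fun _ => ℕ) rb12546 rb12547 (Nat.ble (nat_lit 12547) i)) (Nat.ble (nat_lit 12546) i)) (@Bool.rec (fun _ => ℕ) (@Bool.rec (fun _ => ℕ) rb12548 rb12549 (Nat.ble (nat_lit 12549) i)) (@Bool.rec (fun _ => ℕ) rb12550 rb12551 (Nat.ble (nat_lit 12551) i)) (Nat.ble (nat_lit 12550) i)) (Nat.ble (nat_lit 12548) i))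 (@Bool.rec (fun _ => ℕ) (@Bool.rec (fun _ => ℕ) (@Bool.rec (fun _ => ℕ) rb12552 rb12553 (Nat.ble (nat_lit 12553) i)) (@Bool.rec (fun _ => ℕ) rb12554 rb12555 (Nat.ble (nat_lit 12555) i)) (Nat.ble (nat_lit 12554) i)) (@Bool.rec (fun _ => ℕ) (@Bool.rec (fun _ => ℕ) rb12556 rb12557 (Nat.ble (nat_lit 12557) i)) (@Bool.rec (fun _ => ℕ) rb12558 rb12559 (Nat.ble (nat_lit 12559) i)) (Nat.ble (nat_lit 12558) i)) (Nat.ble (nat_lit 12556) i)) (Nat.ble (nat_lit 12552) i)) (@Bool.rec (fun _ => ℕ) (@Bool.rec (fun _ => ℕ) (@Bool.rec (fun _ => ℕ) (@Bool.rec (fun _ => ℕ) rb12560 rb12561 (Nat.ble (nat_lit 12561) i)) (@Bool.rec (fun _ => ℕ) rb12562 rb12563 (Nat.ble (nat_lit 12563) i)) (Nat.ble (nat_lit 12562) i)) (@Bool.rec (fun _ => ℕ) (@Bool.rec (fun _ => ℕ) rb12564 rb12565 (Nat.ble (nat_lit 12565) i)) (@Bool.rec (fun _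 => ℕ) rb12566 rb12567 (Nat.ble (nat_lit 12567) i)) (Nat.ble (nat_lit 12566) i)) (Nat.ble (nat_lit 12564) i)) (@Bool.rec (fun _ => ℕ) (@Bool.rec (fun _ => ℕ) (@Bool.rec (fun _ => ℕ) rb12568 rb12569 (Nat.ble (nat_lit 12569) i)) (@Bool.rec (fun _ => ℕ) rb12570 rb12571 (Nat.ble (nat_lit 12571) i)) (Nat.ble (nat_lit 12570) i)) (@Bool.rec (fun _ => ℕ) (@Bool.rec (fun _ => ℕ) rb12572 rb12573 (Nat.ble (nat_lit 12573) i)) (@Bool.rec (fun _ => ℕ) rb12574 rb12575 (Nat.ble (nat_lit 12575) i)) (Nat.ble (nat_lit 12574) i)) (Nat.ble (nat_lit 12572) i)) (Nat.ble (nat_lit 12568) i)) (Nat.ble (nat_lit 12560) i))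

def rowBlk_n0_393 (i : ℕ) : ℕ := (@Bool.rec (fun _ => ℕ) (@Bool.rec (fun _ => ℕ) (@Bool.rec (fun _ => ℕ) (@Bool.rec (fun _ => ℕ) (@Bool.rec (fun _ => ℕ) rb12576 rb12577 (Nat.ble (nat_lit 12577) i)) (@Bool.rec (fun _ => ℕ) rb12578 rb12579 (Nat.ble (nat_lit 12579) i)) (Nat.ble (nat_lit 12578) i)) (@Bool.rec (fun _ => ℕ) (@Bool.rec (fun _ => ℕ) rb12580 rb12581 (Nat.ble (nat_lit 12581) i)) (@Bool.rec (fun _ => ℕ) rb12582 rb12583 (Nat.ble (nat_lit 12583) i)) (Nat.ble (nat_lit 12582) i)) (Nat.ble (nat_lit 12580) i)) (@Bool.rec (fun _ => ℕ) (@Bool.rec (fun _ => ℕ) (@Bool.rec (fun _ => ℕ) rb12584 rb12585 (Nat.ble (nat_lit 12585) i)) (@Bool.rec (fun _ => ℕ) rb12586 rb12587 (Nat.ble (nat_lit 12587) i)) (Nat.ble (nat_lit 12586) i)) (@Bool.rec (fun _ => ℕ) (@Bool.rec (fun _ => ℕ) rb12588 rb12589 (Nat.ble (nat_lit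 12589) i)) (@Bool.rec (fun _ => ℕ) rb12590 rb12591 (Nat.ble (nat_lit 12591) i)) (Nat.ble (nat_lit 12590) i)) (Nat.ble (nat_lit 12588) i)) (Nat.ble (nat_lit 12584) i)) (@Bool.rec (fun _ => ℕ) (@Bool.rec (fun _ => ℕ) (@Bool.rec (fun _ => ℕ) (@Bool.rec (fun _ => ℕ) rb12592 rb12593 (Nat.ble (nat_lit 12593) i)) (@Bool.rec (fun _ => ℕ) rb12594 rb12595 (Nat.ble (nat_lit 12595) i)) (Nat.ble (nat_lit 12594) i)) (@Bool.rec (fun _ => ℕ) (@Bool.rec (fun _ => ℕ) rb12596 rb12597 (Nat.ble (nat_lit 12597) i)) (@Bool.rec (fun _ => ℕ) rb12598 rb12599 (Nat.ble (nat_lit 12599) i)) (Nat.ble (nat_lit 12598) i)) (Nat.ble (nat_lit 12596) i)) (@Bool.rec (fun _ => ℕ) (@Bool.rec (fun _ => ℕ) (@Bool.rec (fun _ => ℕ) rb12600 rb12601 (Nat.ble (nat_lit 12601) i)) (@Bool.rec (fun _ => ℕ) rb12602 rb12603 (Nat.ble (nat_lit 12603) i)) (Nat.ble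 (nat_lit 12602) i)) (@Bool.rec (fun _ => ℕ) (@Bool.rec (fun _ => ℕ) rb12604 rb12605 (Nat.ble (nat_lit 12605) i)) (@Bool.rec (fun _ => ℕ) rb12606 rb12607 (Nat.ble (nat_lit 12607) i)) (Nat.ble (nat_lit 12606) i)) (Nat.ble (nat_lit 12604) i)) (Nat.ble (nat_lit 12600) i)) (Nat.ble (nat_lit 12592) i))

def rowBlk_n0_394 (i : ℕ) : ℕ := (@Bool.rec (fun _ => ℕ) (@Bool.rec (fun _ => ℕ) (@Bool.rec (fun _ => ℕ) (@Bool.rec (fun _ => ℕ) (@Bool.rec (fun _ => ℕ) rb12608 rb12609 (Nat.ble (nat_lit 12609) i)) (@Bool.rec (fun _ => ℕ) rb12610 rb12611 (Nat.ble (nat_lit 12611) i)) (Nat.ble (nat_lit 12610) i)) (@Bool.rec (fun _ => ℕ) (@Bool.rec (fun _ => ℕ) rb12612 rb12613 (Nat.ble (nat_lit 12613) i)) (@Bool.rec (fun _ => ℕ) rb12614 rb12615 (Nat.ble (nat_lit 12615) i)) (Nat.ble (nat_lit 12614) i)) (Nat.ble (nat_lit 12612) i))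 (@Bool.rec (fun _ => ℕ) (@Bool.rec (fun _ => ℕ) (@Bool.rec (fun _ => ℕ) rb12616 rb12617 (Nat.ble (nat_lit 12617) i)) (@Bool.rec (fun _ => ℕ) rb12618 rb12619 (Nat.ble (nat_lit 12619) i)) (Nat.ble (nat_lit 12618) i)) (@Bool.rec (fun _ => ℕ) (@Bool.rec (fun _ => ℕ) rb12620 rb12621 (Nat.ble (nat_lit 12621) i)) (@Bool.rec (fun _ => ℕ) rb12622 rb12623 (Nat.ble (nat_lit 12623) i)) (Nat.ble (nat_lit 12622) i)) (Nat.ble (nat_lit 12620) i)) (Nat.ble (nat_lit 12616) i)) (@Bool.rec (fun _ => ℕ) (@Bool.rec (fun _ => ℕ) (@Bool.rec (fun _ => ℕ) (@Bool.rec (fun _ => ℕ) rb12624 rb12625 (Nat.ble (nat_lit 12625) i)) (@Bool.rec (fun _ => ℕ) rb12626 rb12627 (Nat.ble (nat_lit 12627) i)) (Nat.ble (nat_lit 12626) i)) (@Bool.rec (fun _ => ℕ) (@Bool.rec (fun _ => ℕ) rb12628 rb12629 (Nat.ble (nat_lit 12629) i)) (@Bool.rec (fun _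 => ℕ) rb12630 rb12631 (Nat.ble (nat_lit 12631) i)) (Nat.ble (nat_lit 12630) i)) (Nat.ble (nat_lit 12628) i)) (@Bool.rec (fun _ => ℕ) (@Bool.rec (fun _ => ℕ) (@Bool.rec (fun _ => ℕ) rb12632 rb12633 (Nat.ble (nat_lit 12633) i)) (@Bool.rec (fun _ => ℕ) rb12634 rb12635 (Nat.ble (nat_lit 12635) i)) (Nat.ble (nat_lit 12634) i)) (@Bool.rec (fun _ => ℕ) (@Bool.rec (fun _ => ℕ) rb12636 rb12637 (Nat.ble (nat_lit 12637) i)) (@Bool.rec (fun _ => ℕ) rb12638 rb12639 (Nat.ble (nat_lit 12639) i)) (Nat.ble (nat_lit 12638) i)) (Nat.ble (nat_lit 12636) i)) (Nat.ble (nat_lit 12632) i)) (Nat.ble (nat_lit 12624) i))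

def rowBlk_n0_395 (i : ℕ) : ℕ := (@Bool.rec (fun _ => ℕ) (@Bool.rec (fun _ => ℕ) (@Bool.rec (fun _ => ℕ) (@Bool.rec (fun _ => ℕ) (@Bool.rec (fun _ => ℕ) rb12640 rb12641 (Nat.ble (nat_lit 12641) i)) (@Bool.rec (fun _ => ℕ) rb12642 rb12643 (Nat.ble (nat_lit 12643) i)) (Nat.ble (nat_lit 12642) i)) (@Bool.rec (fun _ => ℕ) (@Bool.rec (fun _ => ℕ) rb12644 rb12645 (Nat.ble (nat_lit 12645) i)) (@Bool.rec (fun _ => ℕ) rb12646 rb12647 (Nat.ble (nat_lit 12647) i)) (Nat.ble (nat_lit 12646) i)) (Nat.ble (nat_lit 12644) i)) (@Bool.rec (fun _ => ℕ) (@Bool.rec (fun _ => ℕ) (@Bool.rec (fun _ => ℕ) rb12648 rb12649 (Nat.ble (nat_lit 12649) i)) (@Bool.rec (fun _ => ℕ) rb12650 rb12651 (Nat.ble (nat_lit 12651) i)) (Nat.ble (nat_lit 12650) i)) (@Bool.rec (fun _ => ℕ) (@Bool.rec (fun _ => ℕ) rb12652 rb12653 (Nat.ble (nat_lit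 12653) i)) (@Bool.rec (fun _ => ℕ) rb12654 rb12655 (Nat.ble (nat_lit 12655) i)) (Nat.ble (nat_lit 12654) i)) (Nat.ble (nat_lit 12652) i)) (Nat.ble (nat_lit 12648) i)) (@Bool.rec (fun _ => ℕ) (@Bool.rec (fun _ => ℕ) (@Bool.rec (fun _ => ℕ) (@Bool.rec (fun _ => ℕ) rb12656 rb12657 (Nat.ble (nat_lit 12657) i)) (@Bool.rec (fun _ => ℕ) rb12658 rb12659 (Nat.ble (nat_lit 12659) i)) (Nat.ble (nat_lit 12658) i)) (@Bool.rec (fun _ => ℕ) (@Bool.rec (fun _ => ℕ) rb12660 rb12661 (Nat.ble (nat_lit 12661) i)) (@Bool.rec (fun _ => ℕ) rb12662 rb12663 (Nat.ble (nat_lit 12663) i)) (Nat.ble (nat_lit 12662) i)) (Nat.ble (nat_lit 12660) i)) (@Bool.rec (fun _ => ℕ) (@Bool.rec (fun _ => ℕ) (@Bool.rec (fun _ => ℕ) rb12664 rb12665 (Nat.ble (nat_lit 12665) i)) (@Bool.rec (fun _ => ℕ) rb12666 rb12667 (Nat.ble (nat_lit 12667) i)) (Nat.ble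 (nat_lit 12666) i)) (@Bool.rec (fun _ => ℕ) (@Bool.rec (fun _ => ℕ) rb12668 rb12669 (Nat.ble (nat_lit 12669) i)) (@Bool.rec (fun _ => ℕ) rb12670 rb12671 (Nat.ble (nat_lit 12671) i)) (Nat.ble (nat_lit 12670) i)) (Nat.ble (nat_lit 12668) i)) (Nat.ble (nat_lit 12664) i)) (Nat.ble (nat_lit 12656) i))

def rowBlk_n0_396 (i : ℕ) : ℕ := (@Bool.rec (fun _ => ℕ) (@Bool.rec (fun _ => ℕ) (@Bool.rec (fun _ => ℕ) (@Bool.rec (fun _ => ℕ) (@Bool.rec (fun _ => ℕ) rb12672 rb12673 (Nat.ble (nat_lit 12673) i)) (@Bool.rec (fun _ => ℕ) rb12674 rb12675 (Nat.ble (nat_lit 12675) i)) (Nat.ble (nat_lit 12674) i)) (@Bool.rec (fun _ => ℕ) (@Bool.rec (fun _ => ℕ) rb12676 rb12677 (Nat.ble (nat_lit 12677) i)) (@Bool.rec (fun _ => ℕ) rb12678 rb12679 (Nat.ble (nat_lit 12679) i)) (Nat.ble (nat_lit 12678) i)) (Nat.ble (nat_lit 12676) i))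 (@Bool.rec (fun _ => ℕ) (@Bool.rec (fun _ => ℕ) (@Bool.rec (fun _ => ℕ) rb12680 rb12681 (Nat.ble (nat_lit 12681) i)) (@Bool.rec (fun _ => ℕ) rb12682 rb12683 (Nat.ble (nat_lit 12683) i)) (Nat.ble (nat_lit 12682) i)) (@Bool.rec (fun _ => ℕ) (@Bool.rec (fun _ => ℕ) rb12684 rb12685 (Nat.ble (nat_lit 12685) i)) (@Bool.rec (fun _ => ℕ) rb12686 rb12687 (Nat.ble (nat_lit 12687) i)) (Nat.ble (nat_lit 12686) i)) (Nat.ble (nat_lit 12684) i)) (Nat.ble (nat_lit 12680) i)) (@Bool.rec (fun _ => ℕ) (@Bool.rec (fun _ => ℕ) (@Bool.rec (fun _ => ℕ) (@Bool.rec (fun _ => ℕ) rb12688 rb12689 (Nat.ble (nat_lit 12689) i)) (@Bool.rec (fun _ => ℕ) rb12690 rb12691 (Nat.ble (nat_lit 12691) i)) (Nat.ble (nat_lit 12690) i)) (@Bool.rec (fun _ => ℕ) (@Bool.rec (fun _ => ℕ) rb12692 rb12693 (Nat.ble (nat_lit 12693) i)) (@Bool.rec (fun _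 => ℕ) rb12694 rb12695 (Nat.ble (nat_lit 12695) i)) (Nat.ble (nat_lit 12694) i)) (Nat.ble (nat_lit 12692) i)) (@Bool.rec (fun _ => ℕ) (@Bool.rec (fun _ => ℕ) (@Bool.rec (fun _ => ℕ) rb12696 rb12697 (Nat.ble (nat_lit 12697) i)) (@Bool.rec (fun _ => ℕ) rb12698 rb12699 (Nat.ble (nat_lit 12699) i)) (Nat.ble (nat_lit 12698) i)) (@Bool.rec (fun _ => ℕ) (@Bool.rec (fun _ => ℕ) rb12700 rb12701 (Nat.ble (nat_lit 12701) i)) (@Bool.rec (fun _ => ℕ) rb12702 rb12703 (Nat.ble (nat_lit 12703) i)) (Nat.ble (nat_lit 12702) i)) (Nat.ble (nat_lit 12700) i)) (Nat.ble (nat_lit 12696) i)) (Nat.ble (nat_lit 12688) i))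

def rowBlk_n0_397 (i : ℕ) : ℕ := (@Bool.rec (fun _ => ℕ) (@Bool.rec (fun _ => ℕ) (@Bool.rec (fun _ => ℕ) (@Bool.rec (fun _ => ℕ) (@Bool.rec (fun _ => ℕ) rb12704 rb12705 (Nat.ble (nat_lit 12705) i)) (@Bool.rec (fun _ => ℕ) rb12706 rb12707 (Nat.ble (nat_lit 12707) i)) (Nat.ble (nat_lit 12706) i)) (@Bool.rec (fun _ => ℕ) (@Bool.rec (fun _ => ℕ) rb12708 rb12709 (Nat.ble (nat_lit 12709) i)) (@Bool.rec (fun _ => ℕ) rb12710 rb12711 (Nat.ble (nat_lit 12711) i)) (Nat.ble (nat_lit 12710) i)) (Nat.ble (nat_lit 12708) i)) (@Bool.rec (fun _ => ℕ) (@Bool.rec (fun _ => ℕ) (@Bool.rec (fun _ => ℕ) rb12712 rb12713 (Nat.ble (nat_lit 12713) i)) (@Bool.rec (fun _ => ℕ) rb12714 rb12715 (Nat.ble (nat_lit 12715) i)) (Nat.ble (nat_lit 12714) i)) (@Bool.rec (fun _ => ℕ) (@Bool.rec (fun _ => ℕ) rb12716 rb12717 (Nat.ble (nat_lit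 12717) i)) (@Bool.rec (fun _ => ℕ) rb12718 rb12719 (Nat.ble (nat_lit 12719) i)) (Nat.ble (nat_lit 12718) i)) (Nat.ble (nat_lit 12716) i)) (Nat.ble (nat_lit 12712) i)) (@Bool.rec (fun _ => ℕ) (@Bool.rec (fun _ => ℕ) (@Bool.rec (fun _ => ℕ) (@Bool.rec (fun _ => ℕ) rb12720 rb12721 (Nat.ble (nat_lit 12721) i)) (@Bool.rec (fun _ => ℕ) rb12722 rb12723 (Nat.ble (nat_lit 12723) i)) (Nat.ble (nat_lit 12722) i)) (@Bool.rec (fun _ => ℕ) (@Bool.rec (fun _ => ℕ) rb12724 rb12725 (Nat.ble (nat_lit 12725) i)) (@Bool.rec (fun _ => ℕ) rb12726 rb12727 (Nat.ble (nat_lit 12727) i)) (Nat.ble (nat_lit 12726) i)) (Nat.ble (nat_lit 12724) i)) (@Bool.rec (fun _ => ℕ) (@Bool.rec (fun _ => ℕ) (@Bool.rec (fun _ => ℕ) rb12728 rb12729 (Nat.ble (nat_lit 12729) i)) (@Bool.rec (fun _ => ℕ) rb12730 rb12731 (Nat.ble (nat_lit 12731) i)) (Nat.ble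 (nat_lit 12730) i)) (@Bool.rec (fun _ => ℕ) (@Bool.rec (fun _ => ℕ) rb12732 rb12733 (Nat.ble (nat_lit 12733) i)) (@Bool.rec (fun _ => ℕ) rb12734 rb12735 (Nat.ble (nat_lit 12735) i)) (Nat.ble (nat_lit 12734) i)) (Nat.ble (nat_lit 12732) i)) (Nat.ble (nat_lit 12728) i)) (Nat.ble (nat_lit 12720) i))

def rowBlk_n0_398 (i : ℕ) : ℕ := (@Bool.rec (fun _ => ℕ) (@Bool.rec (fun _ => ℕ) (@Bool.rec (fun _ => ℕ) (@Bool.rec (fun _ => ℕ) (@Bool.rec (fun _ => ℕ) rb12736 rb12737 (Nat.ble (nat_lit 12737) i)) (@Bool.rec (fun _ => ℕ) rb12738 rb12739 (Nat.ble (nat_lit 12739) i)) (Nat.ble (nat_lit 12738) i)) (@Bool.rec (fun _ => ℕ) (@Bool.rec (fun _ => ℕ) rb12740 rb12741 (Nat.ble (nat_lit 12741) i)) (@Bool.rec (fun _ => ℕ) rb12742 rb12743 (Nat.ble (nat_lit 12743) i)) (Nat.ble (nat_lit 12742) i)) (Nat.ble (nat_lit 12740) i))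 (@Bool.rec (fun _ => ℕ) (@Bool.rec (fun _ => ℕ) (@Bool.rec (fun _ => ℕ) rb12744 rb12745 (Nat.ble (nat_lit 12745) i)) (@Bool.rec (fun _ => ℕ) rb12746 rb12747 (Nat.ble (nat_lit 12747) i)) (Nat.ble (nat_lit 12746) i)) (@Bool.rec (fun _ => ℕ) (@Bool.rec (fun _ => ℕ) rb12748 rb12749 (Nat.ble (nat_lit 12749) i)) (@Bool.rec (fun _ => ℕ) rb12750 rb12751 (Nat.ble (nat_lit 12751) i)) (Nat.ble (nat_lit 12750) i)) (Nat.ble (nat_lit 12748) i)) (Nat.ble (nat_lit 12744) i)) (@Bool.rec (fun _ => ℕ) (@Bool.rec (fun _ => ℕ) (@Bool.rec (fun _ => ℕ) (@Bool.rec (fun _ => ℕ) rb12752 rb12753 (Nat.ble (nat_lit 12753) i)) (@Bool.rec (fun _ => ℕ) rb12754 rb12755 (Nat.ble (nat_lit 12755) i)) (Nat.ble (nat_lit 12754) i)) (@Bool.rec (fun _ => ℕ) (@Bool.rec (fun _ => ℕ) rb12756 rb12757 (Nat.ble (nat_lit 12757) i)) (@Bool.rec (fun _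 => ℕ) rb12758 rb12759 (Nat.ble (nat_lit 12759) i)) (Nat.ble (nat_lit 12758) i)) (Nat.ble (nat_lit 12756) i)) (@Bool.rec (fun _ => ℕ) (@Bool.rec (fun _ => ℕ) (@Bool.rec (fun _ => ℕ) rb12760 rb12761 (Nat.ble (nat_lit 12761) i)) (@Bool.rec (fun _ => ℕ) rb12762 rb12763 (Nat.ble (nat_lit 12763) i)) (Nat.ble (nat_lit 12762) i)) (@Bool.rec (fun _ => ℕ) (@Bool.rec (fun _ => ℕ) rb12764 rb12765 (Nat.ble (nat_lit 12765) i)) (@Bool.rec (fun _ => ℕ) rb12766 rb12767 (Nat.ble (nat_lit 12767) i)) (Nat.ble (nat_lit 12766) i)) (Nat.ble (nat_lit 12764) i)) (Nat.ble (nat_lit 12760) i)) (Nat.ble (nat_lit 12752) i))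

def rowBlk_n0_399 (i : ℕ) : ℕ := (@Bool.rec (fun _ => ℕ) (@Bool.rec (fun _ => ℕ) (@Bool.rec (fun _ => ℕ) (@Bool.rec (fun _ => ℕ) (@Bool.rec (fun _ => ℕ) rb12768 rb12769 (Nat.ble (nat_lit 12769) i)) (@Bool.rec (fun _ => ℕ) rb12770 rb12771 (Nat.ble (nat_lit 12771) i)) (Nat.ble (nat_lit 12770) i)) (@Bool.rec (fun _ => ℕ) (@Bool.rec (fun _ => ℕ) rb12772 rb12773 (Nat.ble (nat_lit 12773) i)) (@Bool.rec (fun _ => ℕ) rb12774 rb12775 (Nat.ble (nat_lit 12775) i)) (Nat.ble (nat_lit 12774) i)) (Nat.ble (nat_lit 12772) i)) (@Bool.rec (fun _ => ℕ) (@Bool.rec (fun _ => ℕ) (@Bool.rec (fun _ => ℕ) rb12776 rb12777 (Nat.ble (nat_lit 12777) i)) (@Bool.rec (fun _ => ℕ) rb12778 rb12779 (Nat.ble (nat_lit 12779) i)) (Nat.ble (nat_lit 12778) i)) (@Bool.rec (fun _ => ℕ) (@Bool.rec (fun _ => ℕ) rb12780 rb12781 (Nat.ble (nat_lit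 12781) i)) (@Bool.rec (fun _ => ℕ) rb12782 rb12783 (Nat.ble (nat_lit 12783) i)) (Nat.ble (nat_lit 12782) i)) (Nat.ble (nat_lit 12780) i)) (Nat.ble (nat_lit 12776) i)) (@Bool.rec (fun _ => ℕ) (@Bool.rec (fun _ => ℕ) (@Bool.rec (fun _ => ℕ) (@Bool.rec (fun _ => ℕ) rb12784 rb12785 (Nat.ble (nat_lit 12785) i)) (@Bool.rec (fun _ => ℕ) rb12786 rb12787 (Nat.ble (nat_lit 12787) i)) (Nat.ble (nat_lit 12786) i)) (@Bool.rec (fun _ => ℕ) (@Bool.rec (fun _ => ℕ) rb12788 rb12789 (Nat.ble (nat_lit 12789) i)) (@Bool.rec (fun _ => ℕ) rb12790 rb12791 (Nat.ble (nat_lit 12791) i)) (Nat.ble (nat_lit 12790) i)) (Nat.ble (nat_lit 12788) i)) (@Bool.rec (fun _ => ℕ) (@Bool.rec (fun _ => ℕ) (@Bool.rec (fun _ => ℕ) rb12792 rb12793 (Nat.ble (nat_lit 12793) i)) (@Bool.rec (fun _ => ℕ) rb12794 rb12795 (Nat.ble (nat_lit 12795) i)) (Nat.ble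 (nat_lit 12794) i)) (@Bool.rec (fun _ => ℕ) (@Bool.rec (fun _ => ℕ) rb12796 rb12797 (Nat.ble (nat_lit 12797) i)) (@Bool.rec (fun _ => ℕ) rb12798 rb12799 (Nat.ble (nat_lit 12799) i)) (Nat.ble (nat_lit 12798) i)) (Nat.ble (nat_lit 12796) i)) (Nat.ble (nat_lit 12792) i)) (Nat.ble (nat_lit 12784) i))

def rowBlk_n0_400 (i : ℕ) : ℕ := (@Bool.rec (fun _ => ℕ) (@Bool.rec (fun _ => ℕ) (@Bool.rec (fun _ => ℕ) (@Bool.rec (fun _ => ℕ) (@Bool.rec (fun _ => ℕ) rb12800 rb12801 (Nat.ble (nat_lit 12801) i)) (@Bool.rec (fun _ => ℕ) rb12802 rb12803 (Nat.ble (nat_lit 12803) i)) (Nat.ble (nat_lit 12802) i)) (@Bool.rec (fun _ => ℕ) (@Bool.rec (fun _ => ℕ) rb12804 rb12805 (Nat.ble (nat_lit 12805) i)) (@Bool.rec (fun _ => ℕ) rb12806 rb12807 (Nat.ble (nat_lit 12807) i)) (Nat.ble (nat_lit 12806) i)) (Nat.ble (nat_lit 12804) i))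 (@Bool.rec (fun _ => ℕ) (@Bool.rec (fun _ => ℕ) (@Bool.rec (fun _ => ℕ) rb12808 rb12809 (Nat.ble (nat_lit 12809) i)) (@Bool.rec (fun _ => ℕ) rb12810 rb12811 (Nat.ble (nat_lit 12811) i)) (Nat.ble (nat_lit 12810) i)) (@Bool.rec (fun _ => ℕ) (@Bool.rec (fun _ => ℕ) rb12812 rb12813 (Nat.ble (nat_lit 12813) i)) (@Bool.rec (fun _ => ℕ) rb12814 rb12815 (Nat.ble (nat_lit 12815) i)) (Nat.ble (nat_lit 12814) i)) (Nat.ble (nat_lit 12812) i)) (Nat.ble (nat_lit 12808) i)) (@Bool.rec (fun _ => ℕ) (@Bool.rec (fun _ => ℕ) (@Bool.rec (fun _ => ℕ) (@Bool.rec (fun _ => ℕ) rb12816 rb12817 (Nat.ble (nat_lit 12817) i)) (@Bool.rec (fun _ => ℕ) rb12818 rb12819 (Nat.ble (nat_lit 12819) i)) (Nat.ble (nat_lit 12818) i)) (@Bool.rec (fun _ => ℕ) (@Bool.rec (fun _ => ℕ) rb12820 rb12821 (Nat.ble (nat_lit 12821) i)) (@Bool.rec (fun _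 => ℕ) rb12822 rb12823 (Nat.ble (nat_lit 12823) i)) (Nat.ble (nat_lit 12822) i)) (Nat.ble (nat_lit 12820) i)) (@Bool.rec (fun _ => ℕ) (@Bool.rec (fun _ => ℕ) (@Bool.rec (fun _ => ℕ) rb12824 rb12825 (Nat.ble (nat_lit 12825) i)) (@Bool.rec (fun _ => ℕ) rb12826 rb12827 (Nat.ble (nat_lit 12827) i)) (Nat.ble (nat_lit 12826) i)) (@Bool.rec (fun _ => ℕ) (@Bool.rec (fun _ => ℕ) rb12828 rb12829 (Nat.ble (nat_lit 12829) i)) (@Bool.rec (fun _ => ℕ) rb12830 rb12831 (Nat.ble (nat_lit 12831) i)) (Nat.ble (nat_lit 12830) i)) (Nat.ble (nat_lit 12828) i)) (Nat.ble (nat_lit 12824) i)) (Nat.ble (nat_lit 12816) i))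

def rowBlk_n0_401 (i : ℕ) : ℕ := (@Bool.rec (fun _ => ℕ) (@Bool.rec (fun _ => ℕ) (@Bool.rec (fun _ => ℕ) (@Bool.rec (fun _ => ℕ) (@Bool.rec (fun _ => ℕ) rb12832 rb12833 (Nat.ble (nat_lit 12833) i)) (@Bool.rec (fun _ => ℕ) rb12834 rb12835 (Nat.ble (nat_lit 12835) i)) (Nat.ble (nat_lit 12834) i)) (@Bool.rec (fun _ => ℕ) (@Bool.rec (fun _ => ℕ) rb12836 rb12837 (Nat.ble (nat_lit 12837) i)) (@Bool.rec (fun _ => ℕ) rb12838 rb12839 (Nat.ble (nat_lit 12839) i)) (Nat.ble (nat_lit 12838) i)) (Nat.ble (nat_lit 12836) i)) (@Bool.rec (fun _ => ℕ) (@Bool.rec (fun _ => ℕ) (@Bool.rec (fun _ => ℕ) rb12840 rb12841 (Nat.ble (nat_lit 12841) i)) (@Bool.rec (fun _ => ℕ) rb12842 rb12843 (Nat.ble (nat_lit 12843) i)) (Nat.ble (nat_lit 12842) i)) (@Bool.rec (fun _ => ℕ) (@Bool.rec (fun _ => ℕ) rb12844 rb12845 (Nat.ble (nat_lit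 12845) i)) (@Bool.rec (fun _ => ℕ) rb12846 rb12847 (Nat.ble (nat_lit 12847) i)) (Nat.ble (nat_lit 12846) i)) (Nat.ble (nat_lit 12844) i)) (Nat.ble (nat_lit 12840) i)) (@Bool.rec (fun _ => ℕ) (@Bool.rec (fun _ => ℕ) (@Bool.rec (fun _ => ℕ) (@Bool.rec (fun _ => ℕ) rb12848 rb12849 (Nat.ble (nat_lit 12849) i)) (@Bool.rec (fun _ => ℕ) rb12850 rb12851 (Nat.ble (nat_lit 12851) i)) (Nat.ble (nat_lit 12850) i)) (@Bool.rec (fun _ => ℕ) (@Bool.rec (fun _ => ℕ) rb12852 rb12853 (Nat.ble (nat_lit 12853) i)) (@Bool.rec (fun _ => ℕ) rb12854 rb12855 (Nat.ble (nat_lit 12855) i)) (Nat.ble (nat_lit 12854) i)) (Nat.ble (nat_lit 12852) i)) (@Bool.rec (fun _ => ℕ) (@Bool.rec (fun _ => ℕ) (@Bool.rec (fun _ => ℕ) rb12856 rb12857 (Nat.ble (nat_lit 12857) i)) (@Bool.rec (fun _ => ℕ) rb12858 rb12859 (Nat.ble (nat_lit 12859) i)) (Nat.ble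 (nat_lit 12858) i)) (@Bool.rec (fun _ => ℕ) (@Bool.rec (fun _ => ℕ) rb12860 rb12861 (Nat.ble (nat_lit 12861) i)) (@Bool.rec (fun _ => ℕ) rb12862 rb12863 (Nat.ble (nat_lit 12863) i)) (Nat.ble (nat_lit 12862) i)) (Nat.ble (nat_lit 12860) i)) (Nat.ble (nat_lit 12856) i)) (Nat.ble (nat_lit 12848) i))

def rowBlk_n0_402 (i : ℕ) : ℕ := (@Bool.rec (fun _ => ℕ) (@Bool.rec (fun _ => ℕ) (@Bool.rec (fun _ => ℕ) (@Bool.rec (fun _ => ℕ) (@Bool.rec (fun _ => ℕ) rb12864 rb12865 (Nat.ble (nat_lit 12865) i)) (@Bool.rec (fun _ => ℕ) rb12866 rb12867 (Nat.ble (nat_lit 12867) i)) (Nat.ble (nat_lit 12866) i)) (@Bool.rec (fun _ => ℕ) (@Bool.rec (fun _ => ℕ) rb12868 rb12869 (Nat.ble (nat_lit 12869) i)) (@Bool.rec (fun _ => ℕ) rb12870 rb12871 (Nat.ble (nat_lit 12871) i)) (Nat.ble (nat_lit 12870) i)) (Nat.ble (nat_lit 12868) i))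 (@Bool.rec (fun _ => ℕ) (@Bool.rec (fun _ => ℕ) (@Bool.rec (fun _ => ℕ) rb12872 rb12873 (Nat.ble (nat_lit 12873) i)) (@Bool.rec (fun _ => ℕ) rb12874 rb12875 (Nat.ble (nat_lit 12875) i)) (Nat.ble (nat_lit 12874) i)) (@Bool.rec (fun _ => ℕ) (@Bool.rec (fun _ => ℕ) rb12876 rb12877 (Nat.ble (nat_lit 12877) i)) (@Bool.rec (fun _ => ℕ) rb12878 rb12879 (Nat.ble (nat_lit 12879) i)) (Nat.ble (nat_lit 12878) i)) (Nat.ble (nat_lit 12876) i)) (Nat.ble (nat_lit 12872) i)) (@Bool.rec (fun _ => ℕ) (@Bool.rec (fun _ => ℕ) (@Bool.rec (fun _ => ℕ) (@Bool.rec (fun _ => ℕ) rb12880 rb12881 (Nat.ble (nat_lit 12881) i)) (@Bool.rec (fun _ => ℕ) rb12882 rb12883 (Nat.ble (nat_lit 12883) i)) (Nat.ble (nat_lit 12882) i)) (@Bool.rec (fun _ => ℕ) (@Bool.rec (fun _ => ℕ) rb12884 rb12885 (Nat.ble (nat_lit 12885) i)) (@Bool.rec (fun _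 => ℕ) rb12886 rb12887 (Nat.ble (nat_lit 12887) i)) (Nat.ble (nat_lit 12886) i)) (Nat.ble (nat_lit 12884) i)) (@Bool.rec (fun _ => ℕ) (@Bool.rec (fun _ => ℕ) (@Bool.rec (fun _ => ℕ) rb12888 rb12889 (Nat.ble (nat_lit 12889) i)) (@Bool.rec (fun _ => ℕ) rb12890 rb12891 (Nat.ble (nat_lit 12891) i)) (Nat.ble (nat_lit 12890) i)) (@Bool.rec (fun _ => ℕ) (@Bool.rec (fun _ => ℕ) rb12892 rb12893 (Nat.ble (nat_lit 12893) i)) (@Bool.rec (fun _ => ℕ) rb12894 rb12895 (Nat.ble (nat_lit 12895) i)) (Nat.ble (nat_lit 12894) i)) (Nat.ble (nat_lit 12892) i)) (Nat.ble (nat_lit 12888) i)) (Nat.ble (nat_lit 12880) i))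

def rowBlk_n0_403 (i : ℕ) : ℕ := (@Bool.rec (fun _ => ℕ) (@Bool.rec (fun _ => ℕ) (@Bool.rec (fun _ => ℕ) (@Bool.rec (fun _ => ℕ) (@Bool.rec (fun _ => ℕ) rb12896 rb12897 (Nat.ble (nat_lit 12897) i)) (@Bool.rec (fun _ => ℕ) rb12898 rb12899 (Nat.ble (nat_lit 12899) i)) (Nat.ble (nat_lit 12898) i)) (@Bool.rec (fun _ => ℕ) (@Bool.rec (fun _ => ℕ) rb12900 rb12901 (Nat.ble (nat_lit 12901) i)) (@Bool.rec (fun _ => ℕ) rb12902 rb12903 (Nat.ble (nat_lit 12903) i)) (Nat.ble (nat_lit 12902) i)) (Nat.ble (nat_lit 12900) i)) (@Bool.rec (fun _ => ℕ) (@Bool.rec (fun _ => ℕ) (@Bool.rec (fun _ => ℕ) rb12904 rb12905 (Nat.ble (nat_lit 12905) i)) (@Bool.rec (fun _ => ℕ) rb12906 rb12907 (Nat.ble (nat_lit 12907) i)) (Nat.ble (nat_lit 12906) i)) (@Bool.rec (fun _ => ℕ) (@Bool.rec (fun _ => ℕ) rb12908 rb12909 (Nat.ble (nat_lit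 12909) i)) (@Bool.rec (fun _ => ℕ) rb12910 rb12911 (Nat.ble (nat_lit 12911) i)) (Nat.ble (nat_lit 12910) i)) (Nat.ble (nat_lit 12908) i)) (Nat.ble (nat_lit 12904) i)) (@Bool.rec (fun _ => ℕ) (@Bool.rec (fun _ => ℕ) (@Bool.rec (fun _ => ℕ) (@Bool.rec (fun _ => ℕ) rb12912 rb12913 (Nat.ble (nat_lit 12913) i)) (@Bool.rec (fun _ => ℕ) rb12914 rb12915 (Nat.ble (nat_lit 12915) i)) (Nat.ble (nat_lit 12914) i)) (@Bool.rec (fun _ => ℕ) (@Bool.rec (fun _ => ℕ) rb12916 rb12917 (Nat.ble (nat_lit 12917) i)) (@Bool.rec (fun _ => ℕ) rb12918 rb12919 (Nat.ble (nat_lit 12919) i)) (Nat.ble (nat_lit 12918) i)) (Nat.ble (nat_lit 12916) i)) (@Bool.rec (fun _ => ℕ) (@Bool.rec (fun _ => ℕ) (@Bool.rec (fun _ => ℕ) rb12920 rb12921 (Nat.ble (nat_lit 12921) i)) (@Bool.rec (fun _ => ℕ) rb12922 rb12923 (Nat.ble (nat_lit 12923) i)) (Nat.ble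 (nat_lit 12922) i)) (@Bool.rec (fun _ => ℕ) (@Bool.rec (fun _ => ℕ) rb12924 rb12925 (Nat.ble (nat_lit 12925) i)) (@Bool.rec (fun _ => ℕ) rb12926 rb12927 (Nat.ble (nat_lit 12927) i)) (Nat.ble (nat_lit 12926) i)) (Nat.ble (nat_lit 12924) i)) (Nat.ble (nat_lit 12920) i)) (Nat.ble (nat_lit 12912) i))

def rowBlk_n0_404 (i : ℕ) : ℕ := (@Bool.rec (fun _ => ℕ) (@Bool.rec (fun _ => ℕ) (@Bool.rec (fun _ => ℕ) (@Bool.rec (fun _ => ℕ) (@Bool.rec (fun _ => ℕ) rb12928 rb12929 (Nat.ble (nat_lit 12929) i)) (@Bool.rec (fun _ => ℕ) rb12930 rb12931 (Nat.ble (nat_lit 12931) i)) (Nat.ble (nat_lit 12930) i)) (@Bool.rec (fun _ => ℕ) (@Bool.rec (fun _ => ℕ) rb12932 rb12933 (Nat.ble (nat_lit 12933) i)) (@Bool.rec (fun _ => ℕ) rb12934 rb12935 (Nat.ble (nat_lit 12935) i)) (Nat.ble (nat_lit 12934) i)) (Nat.ble (nat_lit 12932) i))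 (@Bool.rec (fun _ => ℕ) (@Bool.rec (fun _ => ℕ) (@Bool.rec (fun _ => ℕ) rb12936 rb12937 (Nat.ble (nat_lit 12937) i)) (@Bool.rec (fun _ => ℕ) rb12938 rb12939 (Nat.ble (nat_lit 12939) i)) (Nat.ble (nat_lit 12938) i)) (@Bool.rec (fun _ => ℕ) (@Bool.rec (fun _ => ℕ) rb12940 rb12941 (Nat.ble (nat_lit 12941) i)) (@Bool.rec (fun _ => ℕ) rb12942 rb12943 (Nat.ble (nat_lit 12943) i)) (Nat.ble (nat_lit 12942) i)) (Nat.ble (nat_lit 12940) i)) (Nat.ble (nat_lit 12936) i)) (@Bool.rec (fun _ => ℕ) (@Bool.rec (fun _ => ℕ) (@Bool.rec (fun _ => ℕ) (@Bool.rec (fun _ => ℕ) rb12944 rb12945 (Nat.ble (nat_lit 12945) i)) (@Bool.rec (fun _ => ℕ) rb12946 rb12947 (Nat.ble (nat_lit 12947) i)) (Nat.ble (nat_lit 12946) i)) (@Bool.rec (fun _ => ℕ) (@Bool.rec (fun _ => ℕ) rb12948 rb12949 (Nat.ble (nat_lit 12949) i)) (@Bool.rec (fun _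 => ℕ) rb12950 rb12951 (Nat.ble (nat_lit 12951) i)) (Nat.ble (nat_lit 12950) i)) (Nat.ble (nat_lit 12948) i)) (@Bool.rec (fun _ => ℕ) (@Bool.rec (fun _ => ℕ) (@Bool.rec (fun _ => ℕ) rb12952 rb12953 (Nat.ble (nat_lit 12953) i)) (@Bool.rec (fun _ => ℕ) rb12954 rb12955 (Nat.ble (nat_lit 12955) i)) (Nat.ble (nat_lit 12954) i)) (@Bool.rec (fun _ => ℕ) (@Bool.rec (fun _ => ℕ) rb12956 rb12957 (Nat.ble (nat_lit 12957) i)) (@Bool.rec (fun _ => ℕ) rb12958 rb12959 (Nat.ble (nat_lit 12959) i)) (Nat.ble (nat_lit 12958) i)) (Nat.ble (nat_lit 12956) i)) (Nat.ble (nat_lit 12952) i)) (Nat.ble (nat_lit 12944) i))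

def rowBlk_n0_405 (i : ℕ) : ℕ := (@Bool.rec (fun _ => ℕ) (@Bool.rec (fun _ => ℕ) (@Bool.rec (fun _ => ℕ) (@Bool.rec (fun _ => ℕ) (@Bool.rec (fun _ => ℕ) rb12960 rb12961 (Nat.ble (nat_lit 12961) i)) (@Bool.rec (fun _ => ℕ) rb12962 rb12963 (Nat.ble (nat_lit 12963) i)) (Nat.ble (nat_lit 12962) i)) (@Bool.rec (fun _ => ℕ) (@Bool.rec (fun _ => ℕ) rb12964 rb12965 (Nat.ble (nat_lit 12965) i)) (@Bool.rec (fun _ => ℕ) rb12966 rb12967 (Nat.ble (nat_lit 12967) i)) (Nat.ble (nat_lit 12966) i)) (Nat.ble (nat_lit 12964) i)) (@Bool.rec (fun _ => ℕ) (@Bool.rec (fun _ => ℕ) (@Bool.rec (fun _ => ℕ) rb12968 rb12969 (Nat.ble (nat_lit 12969) i)) (@Bool.rec (fun _ => ℕ) rb12970 rb12971 (Nat.ble (nat_lit 12971) i)) (Nat.ble (nat_lit 12970) i)) (@Bool.rec (fun _ => ℕ) (@Bool.rec (fun _ => ℕ) rb12972 rb12973 (Nat.ble (nat_lit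 12973) i)) (@Bool.rec (fun _ => ℕ) rb12974 rb12975 (Nat.ble (nat_lit 12975) i)) (Nat.ble (nat_lit 12974) i)) (Nat.ble (nat_lit 12972) i)) (Nat.ble (nat_lit 12968) i)) (@Bool.rec (fun _ => ℕ) (@Bool.rec (fun _ => ℕ) (@Bool.rec (fun _ => ℕ) (@Bool.rec (fun _ => ℕ) rb12976 rb12977 (Nat.ble (nat_lit 12977) i)) (@Bool.rec (fun _ => ℕ) rb12978 rb12979 (Nat.ble (nat_lit 12979) i)) (Nat.ble (nat_lit 12978) i)) (@Bool.rec (fun _ => ℕ) (@Bool.rec (fun _ => ℕ) rb12980 rb12981 (Nat.ble (nat_lit 12981) i)) (@Bool.rec (fun _ => ℕ) rb12982 rb12983 (Nat.ble (nat_lit 12983) i)) (Nat.ble (nat_lit 12982) i)) (Nat.ble (nat_lit 12980) i)) (@Bool.rec (fun _ => ℕ) (@Bool.rec (fun _ => ℕ) (@Bool.rec (fun _ => ℕ) rb12984 rb12985 (Nat.ble (nat_lit 12985) i)) (@Bool.rec (fun _ => ℕ) rb12986 rb12987 (Nat.ble (nat_lit 12987) i)) (Nat.ble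 (nat_lit 12986) i)) (@Bool.rec (fun _ => ℕ) (@Bool.rec (fun _ => ℕ) rb12988 rb12989 (Nat.ble (nat_lit 12989) i)) (@Bool.rec (fun _ => ℕ) rb12990 rb12991 (Nat.ble (nat_lit 12991) i)) (Nat.ble (nat_lit 12990) i)) (Nat.ble (nat_lit 12988) i)) (Nat.ble (nat_lit 12984) i)) (Nat.ble (nat_lit 12976) i))

def rowBlk_n0_406 (i : ℕ) : ℕ := (@Bool.rec (fun _ => ℕ) (@Bool.rec (fun _ => ℕ) (@Bool.rec (fun _ => ℕ) (@Bool.rec (fun _ => ℕ) (@Bool.rec (fun _ => ℕ) rb12992 rb12993 (Nat.ble (nat_lit 12993) i)) (@Bool.rec (fun _ => ℕ) rb12994 rb12995 (Nat.ble (nat_lit 12995) i)) (Nat.ble (nat_lit 12994) i)) (@Bool.rec (fun _ => ℕ) (@Bool.rec (fun _ => ℕ) rb12996 rb12997 (Nat.ble (nat_lit 12997) i)) (@Bool.rec (fun _ => ℕ) rb12998 rb12999 (Nat.ble (nat_lit 12999) i)) (Nat.ble (nat_lit 12998) i)) (Nat.ble (nat_lit 12996) i))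 (@Bool.rec (fun _ => ℕ) (@Bool.rec (fun _ => ℕ) (@Bool.rec (fun _ => ℕ) rb13000 rb13001 (Nat.ble (nat_lit 13001) i)) (@Bool.rec (fun _ => ℕ) rb13002 rb13003 (Nat.ble (nat_lit 13003) i)) (Nat.ble (nat_lit 13002) i)) (@Bool.rec (fun _ => ℕ) (@Bool.rec (fun _ => ℕ) rb13004 rb13005 (Nat.ble (nat_lit 13005) i)) (@Bool.rec (fun _ => ℕ) rb13006 rb13007 (Nat.ble (nat_lit 13007) i)) (Nat.ble (nat_lit 13006) i)) (Nat.ble (nat_lit 13004) i)) (Nat.ble (nat_lit 13000) i)) (@Bool.rec (fun _ => ℕ) (@Bool.rec (fun _ => ℕ) (@Bool.rec (fun _ => ℕ) (@Bool.rec (fun _ => ℕ) rb13008 rb13009 (Nat.ble (nat_lit 13009) i)) (@Bool.rec (fun _ => ℕ) rb13010 rb13011 (Nat.ble (nat_lit 13011) i)) (Nat.ble (nat_lit 13010) i)) (@Bool.rec (fun _ => ℕ) (@Bool.rec (fun _ => ℕ) rb13012 rb13013 (Nat.ble (nat_lit 13013) i)) (@Bool.rec (fun _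 => ℕ) rb13014 rb13015 (Nat.ble (nat_lit 13015) i)) (Nat.ble (nat_lit 13014) i)) (Nat.ble (nat_lit 13012) i)) (@Bool.rec (fun _ => ℕ) (@Bool.rec (fun _ => ℕ) (@Bool.rec (fun _ => ℕ) rb13016 rb13017 (Nat.ble (nat_lit 13017) i)) (@Bool.rec (fun _ => ℕ) rb13018 rb13019 (Nat.ble (nat_lit 13019) i)) (Nat.ble (nat_lit 13018) i)) (@Bool.rec (fun _ => ℕ) (@Bool.rec (fun _ => ℕ) rb13020 rb13021 (Nat.ble (nat_lit 13021) i)) (@Bool.rec (fun _ => ℕ) rb13022 rb13023 (Nat.ble (nat_lit 13023) i)) (Nat.ble (nat_lit 13022) i)) (Nat.ble (nat_lit 13020) i)) (Nat.ble (nat_lit 13016) i)) (Nat.ble (nat_lit 13008) i))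

def rowBlk_n0_407 (i : ℕ) : ℕ := (@Bool.rec (fun _ => ℕ) (@Bool.rec (fun _ => ℕ) (@Bool.rec (fun _ => ℕ) (@Bool.rec (fun _ => ℕ) (@Bool.rec (fun _ => ℕ) rb13024 rb13025 (Nat.ble (nat_lit 13025) i)) (@Bool.rec (fun _ => ℕ) rb13026 rb13027 (Nat.ble (nat_lit 13027) i)) (Nat.ble (nat_lit 13026) i)) (@Bool.rec (fun _ => ℕ) (@Bool.rec (fun _ => ℕ) rb13028 rb13029 (Nat.ble (nat_lit 13029) i)) (@Bool.rec (fun _ => ℕ) rb13030 rb13031 (Nat.ble (nat_lit 13031) i)) (Nat.ble (nat_lit 13030) i)) (Nat.ble (nat_lit 13028) i)) (@Bool.rec (fun _ => ℕ) (@Bool.rec (fun _ => ℕ) (@Bool.rec (fun _ => ℕ) rb13032 rb13033 (Nat.ble (nat_lit 13033) i)) (@Bool.rec (fun _ => ℕ) rb13034 rb13035 (Nat.ble (nat_lit 13035) i)) (Nat.ble (nat_lit 13034) i)) (@Bool.rec (fun _ => ℕ) (@Bool.rec (fun _ => ℕ) rb13036 rb13037 (Nat.ble (nat_lit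 13037) i)) (@Bool.rec (fun _ => ℕ) rb13038 rb13039 (Nat.ble (nat_lit 13039) i)) (Nat.ble (nat_lit 13038) i)) (Nat.ble (nat_lit 13036) i)) (Nat.ble (nat_lit 13032) i)) (@Bool.rec (fun _ => ℕ) (@Bool.rec (fun _ => ℕ) (@Bool.rec (fun _ => ℕ) (@Bool.rec (fun _ => ℕ) rb13040 rb13041 (Nat.ble (nat_lit 13041) i)) (@Bool.rec (fun _ => ℕ) rb13042 rb13043 (Nat.ble (nat_lit 13043) i)) (Nat.ble (nat_lit 13042) i)) (@Bool.rec (fun _ => ℕ) (@Bool.rec (fun _ => ℕ) rb13044 rb13045 (Nat.ble (nat_lit 13045) i)) (@Bool.rec (fun _ => ℕ) rb13046 rb13047 (Nat.ble (nat_lit 13047) i)) (Nat.ble (nat_lit 13046) i)) (Nat.ble (nat_lit 13044) i)) (@Bool.rec (fun _ => ℕ) (@Bool.rec (fun _ => ℕ) (@Bool.rec (fun _ => ℕ) rb13048 rb13049 (Nat.ble (nat_lit 13049) i)) (@Bool.rec (fun _ => ℕ) rb13050 rb13051 (Nat.ble (nat_lit 13051) i)) (Nat.ble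 (nat_lit 13050) i)) (@Bool.rec (fun _ => ℕ) (@Bool.rec (fun _ => ℕ) rb13052 rb13053 (Nat.ble (nat_lit 13053) i)) (@Bool.rec (fun _ => ℕ) rb13054 rb13055 (Nat.ble (nat_lit 13055) i)) (Nat.ble (nat_lit 13054) i)) (Nat.ble (nat_lit 13052) i)) (Nat.ble (nat_lit 13048) i)) (Nat.ble (nat_lit 13040) i))

def rowBlk_n0_408 (i : ℕ) : ℕ := (@Bool.rec (fun _ => ℕ) (@Bool.rec (fun _ => ℕ) (@Bool.rec (fun _ => ℕ) (@Bool.rec (fun _ => ℕ) (@Bool.rec (fun _ => ℕ) rb13056 rb13057 (Nat.ble (nat_lit 13057) i)) (@Bool.rec (fun _ => ℕ) rb13058 rb13059 (Nat.ble (nat_lit 13059) i)) (Nat.ble (nat_lit 13058) i)) (@Bool.rec (fun _ => ℕ) (@Bool.rec (fun _ => ℕ) rb13060 rb13061 (Nat.ble (nat_lit 13061) i)) (@Bool.rec (fun _ => ℕ) rb13062 rb13063 (Nat.ble (nat_lit 13063) i)) (Nat.ble (nat_lit 13062) i)) (Nat.ble (nat_lit 13060) i))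 (@Bool.rec (fun _ => ℕ) (@Bool.rec (fun _ => ℕ) (@Bool.rec (fun _ => ℕ) rb13064 rb13065 (Nat.ble (nat_lit 13065) i)) (@Bool.rec (fun _ => ℕ) rb13066 rb13067 (Nat.ble (nat_lit 13067) i)) (Nat.ble (nat_lit 13066) i)) (@Bool.rec (fun _ => ℕ) (@Bool.rec (fun _ => ℕ) rb13068 rb13069 (Nat.ble (nat_lit 13069) i)) (@Bool.rec (fun _ => ℕ) rb13070 rb13071 (Nat.ble (nat_lit 13071) i)) (Nat.ble (nat_lit 13070) i)) (Nat.ble (nat_lit 13068) i)) (Nat.ble (nat_lit 13064) i)) (@Bool.rec (fun _ => ℕ) (@Bool.rec (fun _ => ℕ) (@Bool.rec (fun _ => ℕ) (@Bool.rec (fun _ => ℕ) rb13072 rb13073 (Nat.ble (nat_lit 13073) i)) (@Bool.rec (fun _ => ℕ) rb13074 rb13075 (Nat.ble (nat_lit 13075) i)) (Nat.ble (nat_lit 13074) i)) (@Bool.rec (fun _ => ℕ) (@Bool.rec (fun _ => ℕ) rb13076 rb13077 (Nat.ble (nat_lit 13077) i)) (@Bool.rec (fun _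 => ℕ) rb13078 rb13079 (Nat.ble (nat_lit 13079) i)) (Nat.ble (nat_lit 13078) i)) (Nat.ble (nat_lit 13076) i)) (@Bool.rec (fun _ => ℕ) (@Bool.rec (fun _ => ℕ) (@Bool.rec (fun _ => ℕ) rb13080 rb13081 (Nat.ble (nat_lit 13081) i)) (@Bool.rec (fun _ => ℕ) rb13082 rb13083 (Nat.ble (nat_lit 13083) i)) (Nat.ble (nat_lit 13082) i)) (@Bool.rec (fun _ => ℕ) (@Bool.rec (fun _ => ℕ) rb13084 rb13085 (Nat.ble (nat_lit 13085) i)) (@Bool.rec (fun _ => ℕ) rb13086 rb13087 (Nat.ble (nat_lit 13087) i)) (Nat.ble (nat_lit 13086) i)) (Nat.ble (nat_lit 13084) i)) (Nat.ble (nat_lit 13080) i)) (Nat.ble (nat_lit 13072) i))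

def rowBlk_n0_409 (i : ℕ) : ℕ := (@Bool.rec (fun _ => ℕ) (@Bool.rec (fun _ => ℕ) (@Bool.rec (fun _ => ℕ) (@Bool.rec (fun _ => ℕ) (@Bool.rec (fun _ => ℕ) rb13088 rb13089 (Nat.ble (nat_lit 13089) i)) (@Bool.rec (fun _ => ℕ) rb13090 rb13091 (Nat.ble (nat_lit 13091) i)) (Nat.ble (nat_lit 13090) i)) (@Bool.rec (fun _ => ℕ) (@Bool.rec (fun _ => ℕ) rb13092 rb13093 (Nat.ble (nat_lit 13093) i)) (@Bool.rec (fun _ => ℕ) rb13094 rb13095 (Nat.ble (nat_lit 13095) i)) (Nat.ble (nat_lit 13094) i)) (Nat.ble (nat_lit 13092) i)) (@Bool.rec (fun _ => ℕ) (@Bool.rec (fun _ => ℕ) (@Bool.rec (fun _ => ℕ) rb13096 rb13097 (Nat.ble (nat_lit 13097) i)) (@Bool.rec (fun _ => ℕ) rb13098 rb13099 (Nat.ble (nat_lit 13099) i)) (Nat.ble (nat_lit 13098) i)) (@Bool.rec (fun _ => ℕ) (@Bool.rec (fun _ => ℕ) rb13100 rb13101 (Nat.ble (nat_lit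 13101) i)) (@Bool.rec (fun _ => ℕ) rb13102 rb13103 (Nat.ble (nat_lit 13103) i)) (Nat.ble (nat_lit 13102) i)) (Nat.ble (nat_lit 13100) i)) (Nat.ble (nat_lit 13096) i)) (@Bool.rec (fun _ => ℕ) (@Bool.rec (fun _ => ℕ) (@Bool.rec (fun _ => ℕ) (@Bool.rec (fun _ => ℕ) rb13104 rb13105 (Nat.ble (nat_lit 13105) i)) (@Bool.rec (fun _ => ℕ) rb13106 rb13107 (Nat.ble (nat_lit 13107) i)) (Nat.ble (nat_lit 13106) i)) (@Bool.rec (fun _ => ℕ) (@Bool.rec (fun _ => ℕ) rb13108 rb13109 (Nat.ble (nat_lit 13109) i)) (@Bool.rec (fun _ => ℕ) rb13110 rb13111 (Nat.ble (nat_lit 13111) i)) (Nat.ble (nat_lit 13110) i)) (Nat.ble (nat_lit 13108) i)) (@Bool.rec (fun _ => ℕ) (@Bool.rec (fun _ => ℕ) (@Bool.rec (fun _ => ℕ) rb13112 rb13113 (Nat.ble (nat_lit 13113) i)) (@Bool.rec (fun _ => ℕ) rb13114 rb13115 (Nat.ble (nat_lit 13115) i)) (Nat.ble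 (nat_lit 13114) i)) (@Bool.rec (fun _ => ℕ) (@Bool.rec (fun _ => ℕ) rb13116 rb13117 (Nat.ble (nat_lit 13117) i)) (@Bool.rec (fun _ => ℕ) rb13118 rb13119 (Nat.ble (nat_lit 13119) i)) (Nat.ble (nat_lit 13118) i)) (Nat.ble (nat_lit 13116) i)) (Nat.ble (nat_lit 13112) i)) (Nat.ble (nat_lit 13104) i))

def rowBlk_n0_410 (i : ℕ) : ℕ := (@Bool.rec (fun _ => ℕ) (@Bool.rec (fun _ => ℕ) (@Bool.rec (fun _ => ℕ) (@Bool.rec (fun _ => ℕ) (@Bool.rec (fun _ => ℕ) rb13120 rb13121 (Nat.ble (nat_lit 13121) i)) (@Bool.rec (fun _ => ℕ) rb13122 rb13123 (Nat.ble (nat_lit 13123) i)) (Nat.ble (nat_lit 13122) i)) (@Bool.rec (fun _ => ℕ) (@Bool.rec (fun _ => ℕ) rb13124 rb13125 (Nat.ble (nat_lit 13125) i)) (@Bool.rec (fun _ => ℕ) rb13126 rb13127 (Nat.ble (nat_lit 13127) i)) (Nat.ble (nat_lit 13126) i)) (Nat.ble (nat_lit 13124) i))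 (@Bool.rec (fun _ => ℕ) (@Bool.rec (fun _ => ℕ) (@Bool.rec (fun _ => ℕ) rb13128 rb13129 (Nat.ble (nat_lit 13129) i)) (@Bool.rec (fun _ => ℕ) rb13130 rb13131 (Nat.ble (nat_lit 13131) i)) (Nat.ble (nat_lit 13130) i)) (@Bool.rec (fun _ => ℕ) (@Bool.rec (fun _ => ℕ) rb13132 rb13133 (Nat.ble (nat_lit 13133) i)) (@Bool.rec (fun _ => ℕ) rb13134 rb13135 (Nat.ble (nat_lit 13135) i)) (Nat.ble (nat_lit 13134) i)) (Nat.ble (nat_lit 13132) i)) (Nat.ble (nat_lit 13128) i)) (@Bool.rec (fun _ => ℕ) (@Bool.rec (fun _ => ℕ) (@Bool.rec (fun _ => ℕ) (@Bool.rec (fun _ => ℕ) rb13136 rb13137 (Nat.ble (nat_lit 13137) i)) (@Bool.rec (fun _ => ℕ) rb13138 rb13139 (Nat.ble (nat_lit 13139) i)) (Nat.ble (nat_lit 13138) i)) (@Bool.rec (fun _ => ℕ) (@Bool.rec (fun _ => ℕ) rb13140 rb13141 (Nat.ble (nat_lit 13141) i)) (@Bool.rec (fun _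 => ℕ) rb13142 rb13143 (Nat.ble (nat_lit 13143) i)) (Nat.ble (nat_lit 13142) i)) (Nat.ble (nat_lit 13140) i)) (@Bool.rec (fun _ => ℕ) (@Bool.rec (fun _ => ℕ) (@Bool.rec (fun _ => ℕ) rb13144 rb13145 (Nat.ble (nat_lit 13145) i)) (@Bool.rec (fun _ => ℕ) rb13146 rb13147 (Nat.ble (nat_lit 13147) i)) (Nat.ble (nat_lit 13146) i)) (@Bool.rec (fun _ => ℕ) (@Bool.rec (fun _ => ℕ) rb13148 rb13149 (Nat.ble (nat_lit 13149) i)) (@Bool.rec (fun _ => ℕ) rb13150 rb13151 (Nat.ble (nat_lit 13151) i)) (Nat.ble (nat_lit 13150) i)) (Nat.ble (nat_lit 13148) i)) (Nat.ble (nat_lit 13144) i)) (Nat.ble (nat_lit 13136) i))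

def rowBlk_n0_411 (i : ℕ) : ℕ := (@Bool.rec (fun _ => ℕ) (@Bool.rec (fun _ => ℕ) (@Bool.rec (fun _ => ℕ) (@Bool.rec (fun _ => ℕ) (@Bool.rec (fun _ => ℕ) rb13152 rb13153 (Nat.ble (nat_lit 13153) i)) (@Bool.rec (fun _ => ℕ) rb13154 rb13155 (Nat.ble (nat_lit 13155) i)) (Nat.ble (nat_lit 13154) i)) (@Bool.rec (fun _ => ℕ) (@Bool.rec (fun _ => ℕ) rb13156 rb13157 (Nat.ble (nat_lit 13157) i)) (@Bool.rec (fun _ => ℕ) rb13158 rb13159 (Nat.ble (nat_lit 13159) i)) (Nat.ble (nat_lit 13158) i)) (Nat.ble (nat_lit 13156) i)) (@Bool.rec (fun _ => ℕ) (@Bool.rec (fun _ => ℕ) (@Bool.rec (fun _ => ℕ) rb13160 rb13161 (Nat.ble (nat_lit 13161) i)) (@Bool.rec (fun _ => ℕ) rb13162 rb13163 (Nat.ble (nat_lit 13163) i)) (Nat.ble (nat_lit 13162) i)) (@Bool.rec (fun _ => ℕ) (@Bool.rec (fun _ => ℕ) rb13164 rb13165 (Nat.ble (nat_lit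 13165) i)) (@Bool.rec (fun _ => ℕ) rb13166 rb13167 (Nat.ble (nat_lit 13167) i)) (Nat.ble (nat_lit 13166) i)) (Nat.ble (nat_lit 13164) i)) (Nat.ble (nat_lit 13160) i)) (@Bool.rec (fun _ => ℕ) (@Bool.rec (fun _ => ℕ) (@Bool.rec (fun _ => ℕ) (@Bool.rec (fun _ => ℕ) rb13168 rb13169 (Nat.ble (nat_lit 13169) i)) (@Bool.rec (fun _ => ℕ) rb13170 rb13171 (Nat.ble (nat_lit 13171) i)) (Nat.ble (nat_lit 13170) i)) (@Bool.rec (fun _ => ℕ) (@Bool.rec (fun _ => ℕ) rb13172 rb13173 (Nat.ble (nat_lit 13173) i)) (@Bool.rec (fun _ => ℕ) rb13174 rb13175 (Nat.ble (nat_lit 13175) i)) (Nat.ble (nat_lit 13174) i)) (Nat.ble (nat_lit 13172) i)) (@Bool.rec (fun _ => ℕ) (@Bool.rec (fun _ => ℕ) (@Bool.rec (fun _ => ℕ) rb13176 rb13177 (Nat.ble (nat_lit 13177) i)) (@Bool.rec (fun _ => ℕ) rb13178 rb13179 (Nat.ble (nat_lit 13179) i)) (Nat.ble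 (nat_lit 13178) i)) (@Bool.rec (fun _ => ℕ) (@Bool.rec (fun _ => ℕ) rb13180 rb13181 (Nat.ble (nat_lit 13181) i)) (@Bool.rec (fun _ => ℕ) rb13182 rb13183 (Nat.ble (nat_lit 13183) i)) (Nat.ble (nat_lit 13182) i)) (Nat.ble (nat_lit 13180) i)) (Nat.ble (nat_lit 13176) i)) (Nat.ble (nat_lit 13168) i))

def rowBlk_n0_412 (i : ℕ) : ℕ := (@Bool.rec (fun _ => ℕ) (@Bool.rec (fun _ => ℕ) (@Bool.rec (fun _ => ℕ) (@Bool.rec (fun _ => ℕ) (@Bool.rec (fun _ => ℕ) rb13184 rb13185 (Nat.ble (nat_lit 13185) i)) (@Bool.rec (fun _ => ℕ) rb13186 rb13187 (Nat.ble (nat_lit 13187) i)) (Nat.ble (nat_lit 13186) i)) (@Bool.rec (fun _ => ℕ) (@Bool.rec (fun _ => ℕ) rb13188 rb13189 (Nat.ble (nat_lit 13189) i)) (@Bool.rec (fun _ => ℕ) rb13190 rb13191 (Nat.ble (nat_lit 13191) i)) (Nat.ble (nat_lit 13190) i)) (Nat.ble (nat_lit 13188) i))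 (@Bool.rec (fun _ => ℕ) (@Bool.rec (fun _ => ℕ) (@Bool.rec (fun _ => ℕ) rb13192 rb13193 (Nat.ble (nat_lit 13193) i)) (@Bool.rec (fun _ => ℕ) rb13194 rb13195 (Nat.ble (nat_lit 13195) i)) (Nat.ble (nat_lit 13194) i)) (@Bool.rec (fun _ => ℕ) (@Bool.rec (fun _ => ℕ) rb13196 rb13197 (Nat.ble (nat_lit 13197) i)) (@Bool.rec (fun _ => ℕ) rb13198 rb13199 (Nat.ble (nat_lit 13199) i)) (Nat.ble (nat_lit 13198) i)) (Nat.ble (nat_lit 13196) i)) (Nat.ble (nat_lit 13192) i)) (@Bool.rec (fun _ => ℕ) (@Bool.rec (fun _ => ℕ) (@Bool.rec (fun _ => ℕ) (@Bool.rec (fun _ => ℕ) rb13200 rb13201 (Nat.ble (nat_lit 13201) i)) (@Bool.rec (fun _ => ℕ) rb13202 rb13203 (Nat.ble (nat_lit 13203) i)) (Nat.ble (nat_lit 13202) i)) (@Bool.rec (fun _ => ℕ) (@Bool.rec (fun _ => ℕ) rb13204 rb13205 (Nat.ble (nat_lit 13205) i)) (@Bool.rec (fun _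 => ℕ) rb13206 rb13207 (Nat.ble (nat_lit 13207) i)) (Nat.ble (nat_lit 13206) i)) (Nat.ble (nat_lit 13204) i)) (@Bool.rec (fun _ => ℕ) (@Bool.rec (fun _ => ℕ) (@Bool.rec (fun _ => ℕ) rb13208 rb13209 (Nat.ble (nat_lit 13209) i)) (@Bool.rec (fun _ => ℕ) rb13210 rb13211 (Nat.ble (nat_lit 13211) i)) (Nat.ble (nat_lit 13210) i)) (@Bool.rec (fun _ => ℕ) (@Bool.rec (fun _ => ℕ) rb13212 rb13213 (Nat.ble (nat_lit 13213) i)) (@Bool.rec (fun _ => ℕ) rb13214 rb13215 (Nat.ble (nat_lit 13215) i)) (Nat.ble (nat_lit 13214) i)) (Nat.ble (nat_lit 13212) i)) (Nat.ble (nat_lit 13208) i)) (Nat.ble (nat_lit 13200) i))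

def rowBlk_n0_413 (i : ℕ) : ℕ := (@Bool.rec (fun _ => ℕ) (@Bool.rec (fun _ => ℕ) (@Bool.rec (fun _ => ℕ) (@Bool.rec (fun _ => ℕ) (@Bool.rec (fun _ => ℕ) rb13216 rb13217 (Nat.ble (nat_lit 13217) i)) (@Bool.rec (fun _ => ℕ) rb13218 rb13219 (Nat.ble (nat_lit 13219) i)) (Nat.ble (nat_lit 13218) i)) (@Bool.rec (fun _ => ℕ) (@Bool.rec (fun _ => ℕ) rb13220 rb13221 (Nat.ble (nat_lit 13221) i)) (@Bool.rec (fun _ => ℕ) rb13222 rb13223 (Nat.ble (nat_lit 13223) i)) (Nat.ble (nat_lit 13222) i)) (Nat.ble (nat_lit 13220) i)) (@Bool.rec (fun _ => ℕ) (@Bool.rec (fun _ => ℕ) (@Bool.rec (fun _ => ℕ) rb13224 rb13225 (Nat.ble (nat_lit 13225) i)) (@Bool.rec (fun _ => ℕ) rb13226 rb13227 (Nat.ble (nat_lit 13227) i)) (Nat.ble (nat_lit 13226) i)) (@Bool.rec (fun _ => ℕ) (@Bool.rec (fun _ => ℕ) rb13228 rb13229 (Nat.ble (nat_lit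 13229) i)) (@Bool.rec (fun _ => ℕ) rb13230 rb13231 (Nat.ble (nat_lit 13231) i)) (Nat.ble (nat_lit 13230) i)) (Nat.ble (nat_lit 13228) i)) (Nat.ble (nat_lit 13224) i)) (@Bool.rec (fun _ => ℕ) (@Bool.rec (fun _ => ℕ) (@Bool.rec (fun _ => ℕ) (@Bool.rec (fun _ => ℕ) rb13232 rb13233 (Nat.ble (nat_lit 13233) i)) (@Bool.rec (fun _ => ℕ) rb13234 rb13235 (Nat.ble (nat_lit 13235) i)) (Nat.ble (nat_lit 13234) i)) (@Bool.rec (fun _ => ℕ) (@Bool.rec (fun _ => ℕ) rb13236 rb13237 (Nat.ble (nat_lit 13237) i)) (@Bool.rec (fun _ => ℕ) rb13238 rb13239 (Nat.ble (nat_lit 13239) i)) (Nat.ble (nat_lit 13238) i)) (Nat.ble (nat_lit 13236) i)) (@Bool.rec (fun _ => ℕ) (@Bool.rec (fun _ => ℕ) (@Bool.rec (fun _ => ℕ) rb13240 rb13241 (Nat.ble (nat_lit 13241) i)) (@Bool.rec (fun _ => ℕ) rb13242 rb13243 (Nat.ble (nat_lit 13243) i)) (Nat.ble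 (nat_lit 13242) i)) (@Bool.rec (fun _ => ℕ) (@Bool.rec (fun _ => ℕ) rb13244 rb13245 (Nat.ble (nat_lit 13245) i)) (@Bool.rec (fun _ => ℕ) rb13246 rb13247 (Nat.ble (nat_lit 13247) i)) (Nat.ble (nat_lit 13246) i)) (Nat.ble (nat_lit 13244) i)) (Nat.ble (nat_lit 13240) i)) (Nat.ble (nat_lit 13232) i))

def rowBlk_n0_414 (i : ℕ) : ℕ := (@Bool.rec (fun _ => ℕ) (@Bool.rec (fun _ => ℕ) (@Bool.rec (fun _ => ℕ) (@Bool.rec (fun _ => ℕ) (@Bool.rec (fun _ => ℕ) rb13248 rb13249 (Nat.ble (nat_lit 13249) i)) (@Bool.rec (fun _ => ℕ) rb13250 rb13251 (Nat.ble (nat_lit 13251) i)) (Nat.ble (nat_lit 13250) i)) (@Bool.rec (fun _ => ℕ) (@Bool.rec (fun _ => ℕ) rb13252 rb13253 (Nat.ble (nat_lit 13253) i)) (@Bool.rec (fun _ => ℕ) rb13254 rb13255 (Nat.ble (nat_lit 13255) i)) (Nat.ble (nat_lit 13254) i)) (Nat.ble (nat_lit 13252) i))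 (@Bool.rec (fun _ => ℕ) (@Bool.rec (fun _ => ℕ) (@Bool.rec (fun _ => ℕ) rb13256 rb13257 (Nat.ble (nat_lit 13257) i)) (@Bool.rec (fun _ => ℕ) rb13258 rb13259 (Nat.ble (nat_lit 13259) i)) (Nat.ble (nat_lit 13258) i)) (@Bool.rec (fun _ => ℕ) (@Bool.rec (fun _ => ℕ) rb13260 rb13261 (Nat.ble (nat_lit 13261) i)) (@Bool.rec (fun _ => ℕ) rb13262 rb13263 (Nat.ble (nat_lit 13263) i)) (Nat.ble (nat_lit 13262) i)) (Nat.ble (nat_lit 13260) i)) (Nat.ble (nat_lit 13256) i)) (@Bool.rec (fun _ => ℕ) (@Bool.rec (fun _ => ℕ) (@Bool.rec (fun _ => ℕ) (@Bool.rec (fun _ => ℕ) rb13264 rb13265 (Nat.ble (nat_lit 13265) i)) (@Bool.rec (fun _ => ℕ) rb13266 rb13267 (Nat.ble (nat_lit 13267) i)) (Nat.ble (nat_lit 13266) i)) (@Bool.rec (fun _ => ℕ) (@Bool.rec (fun _ => ℕ) rb13268 rb13269 (Nat.ble (nat_lit 13269) i)) (@Bool.rec (fun _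 => ℕ) rb13270 rb13271 (Nat.ble (nat_lit 13271) i)) (Nat.ble (nat_lit 13270) i)) (Nat.ble (nat_lit 13268) i)) (@Bool.rec (fun _ => ℕ) (@Bool.rec (fun _ => ℕ) (@Bool.rec (fun _ => ℕ) rb13272 rb13273 (Nat.ble (nat_lit 13273) i)) (@Bool.rec (fun _ => ℕ) rb13274 rb13275 (Nat.ble (nat_lit 13275) i)) (Nat.ble (nat_lit 13274) i)) (@Bool.rec (fun _ => ℕ) (@Bool.rec (fun _ => ℕ) rb13276 rb13277 (Nat.ble (nat_lit 13277) i)) (@Bool.rec (fun _ => ℕ) rb13278 rb13279 (Nat.ble (nat_lit 13279) i)) (Nat.ble (nat_lit 13278) i)) (Nat.ble (nat_lit 13276) i)) (Nat.ble (nat_lit 13272) i)) (Nat.ble (nat_lit 13264) i))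

def rowBlk_n0_415 (i : ℕ) : ℕ := (@Bool.rec (fun _ => ℕ) (@Bool.rec (fun _ => ℕ) (@Bool.rec (fun _ => ℕ) (@Bool.rec (fun _ => ℕ) (@Bool.rec (fun _ => ℕ) rb13280 rb13281 (Nat.ble (nat_lit 13281) i)) (@Bool.rec (fun _ => ℕ) rb13282 rb13283 (Nat.ble (nat_lit 13283) i)) (Nat.ble (nat_lit 13282) i)) (@Bool.rec (fun _ => ℕ) (@Bool.rec (fun _ => ℕ) rb13284 rb13285 (Nat.ble (nat_lit 13285) i)) (@Bool.rec (fun _ => ℕ) rb13286 rb13287 (Nat.ble (nat_lit 13287) i)) (Nat.ble (nat_lit 13286) i)) (Nat.ble (nat_lit 13284) i)) (@Bool.rec (fun _ => ℕ) (@Bool.rec (fun _ => ℕ) (@Bool.rec (fun _ => ℕ) rb13288 rb13289 (Nat.ble (nat_lit 13289) i)) (@Bool.rec (fun _ => ℕ) rb13290 rb13291 (Nat.ble (nat_lit 13291) i)) (Nat.ble (nat_lit 13290) i)) (@Bool.rec (fun _ => ℕ) (@Bool.rec (fun _ => ℕ) rb13292 rb13293 (Nat.ble (nat_lit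 13293) i)) (@Bool.rec (fun _ => ℕ) rb13294 rb13295 (Nat.ble (nat_lit 13295) i)) (Nat.ble (nat_lit 13294) i)) (Nat.ble (nat_lit 13292) i)) (Nat.ble (nat_lit 13288) i)) (@Bool.rec (fun _ => ℕ) (@Bool.rec (fun _ => ℕ) (@Bool.rec (fun _ => ℕ) (@Bool.rec (fun _ => ℕ) rb13296 rb13297 (Nat.ble (nat_lit 13297) i)) (@Bool.rec (fun _ => ℕ) rb13298 rb13299 (Nat.ble (nat_lit 13299) i)) (Nat.ble (nat_lit 13298) i)) (@Bool.rec (fun _ => ℕ) (@Bool.rec (fun _ => ℕ) rb13300 rb13301 (Nat.ble (nat_lit 13301) i)) (@Bool.rec (fun _ => ℕ) rb13302 rb13303 (Nat.ble (nat_lit 13303) i)) (Nat.ble (nat_lit 13302) i)) (Nat.ble (nat_lit 13300) i)) (@Bool.rec (fun _ => ℕ) (@Bool.rec (fun _ => ℕ) (@Bool.rec (fun _ => ℕ) rb13304 rb13305 (Nat.ble (nat_lit 13305) i)) (@Bool.rec (fun _ => ℕ) rb13306 rb13307 (Nat.ble (nat_lit 13307) i)) (Nat.ble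 (nat_lit 13306) i)) (@Bool.rec (fun _ => ℕ) (@Bool.rec (fun _ => ℕ) rb13308 rb13309 (Nat.ble (nat_lit 13309) i)) (@Bool.rec (fun _ => ℕ) rb13310 rb13311 (Nat.ble (nat_lit 13311) i)) (Nat.ble (nat_lit 13310) i)) (Nat.ble (nat_lit 13308) i)) (Nat.ble (nat_lit 13304) i)) (Nat.ble (nat_lit 13296) i))

def rowBlk_n0_416 (i : ℕ) : ℕ := (@Bool.rec (fun _ => ℕ) (@Bool.rec (fun _ => ℕ) (@Bool.rec (fun _ => ℕ) (@Bool.rec (fun _ => ℕ) (@Bool.rec (fun _ => ℕ) rb13312 rb13313 (Nat.ble (nat_lit 13313) i)) (@Bool.rec (fun _ => ℕ) rb13314 rb13315 (Nat.ble (nat_lit 13315) i)) (Nat.ble (nat_lit 13314) i)) (@Bool.rec (fun _ => ℕ) (@Bool.rec (fun _ => ℕ) rb13316 rb13317 (Nat.ble (nat_lit 13317) i)) (@Bool.rec (fun _ => ℕ) rb13318 rb13319 (Nat.ble (nat_lit 13319) i)) (Nat.ble (nat_lit 13318) i)) (Nat.ble (nat_lit 13316) i))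 (@Bool.rec (fun _ => ℕ) (@Bool.rec (fun _ => ℕ) (@Bool.rec (fun _ => ℕ) rb13320 rb13321 (Nat.ble (nat_lit 13321) i)) (@Bool.rec (fun _ => ℕ) rb13322 rb13323 (Nat.ble (nat_lit 13323) i)) (Nat.ble (nat_lit 13322) i)) (@Bool.rec (fun _ => ℕ) (@Bool.rec (fun _ => ℕ) rb13324 rb13325 (Nat.ble (nat_lit 13325) i)) (@Bool.rec (fun _ => ℕ) rb13326 rb13327 (Nat.ble (nat_lit 13327) i)) (Nat.ble (nat_lit 13326) i)) (Nat.ble (nat_lit 13324) i)) (Nat.ble (nat_lit 13320) i)) (@Bool.rec (fun _ => ℕ) (@Bool.rec (fun _ => ℕ) (@Bool.rec (fun _ => ℕ) (@Bool.rec (fun _ => ℕ) rb13328 rb13329 (Nat.ble (nat_lit 13329) i)) (@Bool.rec (fun _ => ℕ) rb13330 rb13331 (Nat.ble (nat_lit 13331) i)) (Nat.ble (nat_lit 13330) i)) (@Bool.rec (fun _ => ℕ) (@Bool.rec (fun _ => ℕ) rb13332 rb13333 (Nat.ble (nat_lit 13333) i)) (@Bool.rec (fun _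 => ℕ) rb13334 rb13335 (Nat.ble (nat_lit 13335) i)) (Nat.ble (nat_lit 13334) i)) (Nat.ble (nat_lit 13332) i)) (@Bool.rec (fun _ => ℕ) (@Bool.rec (fun _ => ℕ) (@Bool.rec (fun _ => ℕ) rb13336 rb13337 (Nat.ble (nat_lit 13337) i)) (@Bool.rec (fun _ => ℕ) rb13338 rb13339 (Nat.ble (nat_lit 13339) i)) (Nat.ble (nat_lit 13338) i)) (@Bool.rec (fun _ => ℕ) (@Bool.rec (fun _ => ℕ) rb13340 rb13341 (Nat.ble (nat_lit 13341) i)) (@Bool.rec (fun _ => ℕ) rb13342 rb13343 (Nat.ble (nat_lit 13343) i)) (Nat.ble (nat_lit 13342) i)) (Nat.ble (nat_lit 13340) i)) (Nat.ble (nat_lit 13336) i)) (Nat.ble (nat_lit 13328) i))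

def rowBlk_n0_417 (i : ℕ) : ℕ := (@Bool.rec (fun _ => ℕ) (@Bool.rec (fun _ => ℕ) (@Bool.rec (fun _ => ℕ) (@Bool.rec (fun _ => ℕ) (@Bool.rec (fun _ => ℕ) rb13344 rb13345 (Nat.ble (nat_lit 13345) i)) (@Bool.rec (fun _ => ℕ) rb13346 rb13347 (Nat.ble (nat_lit 13347) i)) (Nat.ble (nat_lit 13346) i)) (@Bool.rec (fun _ => ℕ) (@Bool.rec (fun _ => ℕ) rb13348 rb13349 (Nat.ble (nat_lit 13349) i)) (@Bool.rec (fun _ => ℕ) rb13350 rb13351 (Nat.ble (nat_lit 13351) i)) (Nat.ble (nat_lit 13350) i)) (Nat.ble (nat_lit 13348) i)) (@Bool.rec (fun _ => ℕ) (@Bool.rec (fun _ => ℕ) (@Bool.rec (fun _ => ℕ) rb13352 rb13353 (Nat.ble (nat_lit 13353) i)) (@Bool.rec (fun _ => ℕ) rb13354 rb13355 (Nat.ble (nat_lit 13355) i)) (Nat.ble (nat_lit 13354) i)) (@Bool.rec (fun _ => ℕ) (@Bool.rec (fun _ => ℕ) rb13356 rb13357 (Nat.ble (nat_lit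 13357) i)) (@Bool.rec (fun _ => ℕ) rb13358 rb13359 (Nat.ble (nat_lit 13359) i)) (Nat.ble (nat_lit 13358) i)) (Nat.ble (nat_lit 13356) i)) (Nat.ble (nat_lit 13352) i)) (@Bool.rec (fun _ => ℕ) (@Bool.rec (fun _ => ℕ) (@Bool.rec (fun _ => ℕ) (@Bool.rec (fun _ => ℕ) rb13360 rb13361 (Nat.ble (nat_lit 13361) i)) (@Bool.rec (fun _ => ℕ) rb13362 rb13363 (Nat.ble (nat_lit 13363) i)) (Nat.ble (nat_lit 13362) i)) (@Bool.rec (fun _ => ℕ) (@Bool.rec (fun _ => ℕ) rb13364 rb13365 (Nat.ble (nat_lit 13365) i)) (@Bool.rec (fun _ => ℕ) rb13366 rb13367 (Nat.ble (nat_lit 13367) i)) (Nat.ble (nat_lit 13366) i)) (Nat.ble (nat_lit 13364) i)) (@Bool.rec (fun _ => ℕ) (@Bool.rec (fun _ => ℕ) (@Bool.rec (fun _ => ℕ) rb13368 rb13369 (Nat.ble (nat_lit 13369) i)) (@Bool.rec (fun _ => ℕ) rb13370 rb13371 (Nat.ble (nat_lit 13371) i)) (Nat.ble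 (nat_lit 13370) i)) (@Bool.rec (fun _ => ℕ) (@Bool.rec (fun _ => ℕ) rb13372 rb13373 (Nat.ble (nat_lit 13373) i)) (@Bool.rec (fun _ => ℕ) rb13374 rb13375 (Nat.ble (nat_lit 13375) i)) (Nat.ble (nat_lit 13374) i)) (Nat.ble (nat_lit 13372) i)) (Nat.ble (nat_lit 13368) i)) (Nat.ble (nat_lit 13360) i))

def rowBlk_n0_418 (i : ℕ) : ℕ := (@Bool.rec (fun _ => ℕ) (@Bool.rec (fun _ => ℕ) (@Bool.rec (fun _ => ℕ) (@Bool.rec (fun _ => ℕ) (@Bool.rec (fun _ => ℕ) rb13376 rb13377 (Nat.ble (nat_lit 13377) i)) (@Bool.rec (fun _ => ℕ) rb13378 rb13379 (Nat.ble (nat_lit 13379) i)) (Nat.ble (nat_lit 13378) i)) (@Bool.rec (fun _ => ℕ) (@Bool.rec (fun _ => ℕ) rb13380 rb13381 (Nat.ble (nat_lit 13381) i)) (@Bool.rec (fun _ => ℕ) rb13382 rb13383 (Nat.ble (nat_lit 13383) i)) (Nat.ble (nat_lit 13382) i)) (Nat.ble (nat_lit 13380) i))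 (@Bool.rec (fun _ => ℕ) (@Bool.rec (fun _ => ℕ) (@Bool.rec (fun _ => ℕ) rb13384 rb13385 (Nat.ble (nat_lit 13385) i)) (@Bool.rec (fun _ => ℕ) rb13386 rb13387 (Nat.ble (nat_lit 13387) i)) (Nat.ble (nat_lit 13386) i)) (@Bool.rec (fun _ => ℕ) (@Bool.rec (fun _ => ℕ) rb13388 rb13389 (Nat.ble (nat_lit 13389) i)) (@Bool.rec (fun _ => ℕ) rb13390 rb13391 (Nat.ble (nat_lit 13391) i)) (Nat.ble (nat_lit 13390) i)) (Nat.ble (nat_lit 13388) i)) (Nat.ble (nat_lit 13384) i)) (@Bool.rec (fun _ => ℕ) (@Bool.rec (fun _ => ℕ) (@Bool.rec (fun _ => ℕ) (@Bool.rec (fun _ => ℕ) rb13392 rb13393 (Nat.ble (nat_lit 13393) i)) (@Bool.rec (fun _ => ℕ) rb13394 rb13395 (Nat.ble (nat_lit 13395) i)) (Nat.ble (nat_lit 13394) i)) (@Bool.rec (fun _ => ℕ) (@Bool.rec (fun _ => ℕ) rb13396 rb13397 (Nat.ble (nat_lit 13397) i)) (@Bool.rec (fun _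 => ℕ) rb13398 rb13399 (Nat.ble (nat_lit 13399) i)) (Nat.ble (nat_lit 13398) i)) (Nat.ble (nat_lit 13396) i)) (@Bool.rec (fun _ => ℕ) (@Bool.rec (fun _ => ℕ) (@Bool.rec (fun _ => ℕ) rb13400 rb13401 (Nat.ble (nat_lit 13401) i)) (@Bool.rec (fun _ => ℕ) rb13402 rb13403 (Nat.ble (nat_lit 13403) i)) (Nat.ble (nat_lit 13402) i)) (@Bool.rec (fun _ => ℕ) (@Bool.rec (fun _ => ℕ) rb13404 rb13405 (Nat.ble (nat_lit 13405) i)) (@Bool.rec (fun _ => ℕ) rb13406 rb13407 (Nat.ble (nat_lit 13407) i)) (Nat.ble (nat_lit 13406) i)) (Nat.ble (nat_lit 13404) i)) (Nat.ble (nat_lit 13400) i)) (Nat.ble (nat_lit 13392) i))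

def rowBlk_n0_419 (i : ℕ) : ℕ := (@Bool.rec (fun _ => ℕ) (@Bool.rec (fun _ => ℕ) (@Bool.rec (fun _ => ℕ) (@Bool.rec (fun _ => ℕ) (@Bool.rec (fun _ => ℕ) rb13408 rb13409 (Nat.ble (nat_lit 13409) i)) (@Bool.rec (fun _ => ℕ) rb13410 rb13411 (Nat.ble (nat_lit 13411) i)) (Nat.ble (nat_lit 13410) i)) (@Bool.rec (fun _ => ℕ) (@Bool.rec (fun _ => ℕ) rb13412 rb13413 (Nat.ble (nat_lit 13413) i)) (@Bool.rec (fun _ => ℕ) rb13414 rb13415 (Nat.ble (nat_lit 13415) i)) (Nat.ble (nat_lit 13414) i)) (Nat.ble (nat_lit 13412) i)) (@Bool.rec (fun _ => ℕ) (@Bool.rec (fun _ => ℕ) (@Bool.rec (fun _ => ℕ) rb13416 rb13417 (Nat.ble (nat_lit 13417) i)) (@Bool.rec (fun _ => ℕ) rb13418 rb13419 (Nat.ble (nat_lit 13419) i)) (Nat.ble (nat_lit 13418) i)) (@Bool.rec (fun _ => ℕ) (@Bool.rec (fun _ => ℕ) rb13420 rb13421 (Nat.ble (nat_lit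 13421) i)) (@Bool.rec (fun _ => ℕ) rb13422 rb13423 (Nat.ble (nat_lit 13423) i)) (Nat.ble (nat_lit 13422) i)) (Nat.ble (nat_lit 13420) i)) (Nat.ble (nat_lit 13416) i)) (@Bool.rec (fun _ => ℕ) (@Bool.rec (fun _ => ℕ) (@Bool.rec (fun _ => ℕ) (@Bool.rec (fun _ => ℕ) rb13424 rb13425 (Nat.ble (nat_lit 13425) i)) (@Bool.rec (fun _ => ℕ) rb13426 rb13427 (Nat.ble (nat_lit 13427) i)) (Nat.ble (nat_lit 13426) i)) (@Bool.rec (fun _ => ℕ) (@Bool.rec (fun _ => ℕ) rb13428 rb13429 (Nat.ble (nat_lit 13429) i)) (@Bool.rec (fun _ => ℕ) rb13430 rb13431 (Nat.ble (nat_lit 13431) i)) (Nat.ble (nat_lit 13430) i)) (Nat.ble (nat_lit 13428) i)) (@Bool.rec (fun _ => ℕ) (@Bool.rec (fun _ => ℕ) (@Bool.rec (fun _ => ℕ) rb13432 rb13433 (Nat.ble (nat_lit 13433) i)) (@Bool.rec (fun _ => ℕ) rb13434 rb13435 (Nat.ble (nat_lit 13435) i)) (Nat.ble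 (nat_lit 13434) i)) (@Bool.rec (fun _ => ℕ) (@Bool.rec (fun _ => ℕ) rb13436 rb13437 (Nat.ble (nat_lit 13437) i)) (@Bool.rec (fun _ => ℕ) rb13438 rb13439 (Nat.ble (nat_lit 13439) i)) (Nat.ble (nat_lit 13438) i)) (Nat.ble (nat_lit 13436) i)) (Nat.ble (nat_lit 13432) i)) (Nat.ble (nat_lit 13424) i))

def rowBlk_n0_420 (i : ℕ) : ℕ := (@Bool.rec (fun _ => ℕ) (@Bool.rec (fun _ => ℕ) (@Bool.rec (fun _ => ℕ) (@Bool.rec (fun _ => ℕ) (@Bool.rec (fun _ => ℕ) rb13440 rb13441 (Nat.ble (nat_lit 13441) i)) (@Bool.rec (fun _ => ℕ) rb13442 rb13443 (Nat.ble (nat_lit 13443) i)) (Nat.ble (nat_lit 13442) i)) (@Bool.rec (fun _ => ℕ) (@Bool.rec (fun _ => ℕ) rb13444 rb13445 (Nat.ble (nat_lit 13445) i)) (@Bool.rec (fun _ => ℕ) rb13446 rb13447 (Nat.ble (nat_lit 13447) i)) (Nat.ble (nat_lit 13446) i)) (Nat.ble (nat_lit 13444) i))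 (@Bool.rec (fun _ => ℕ) (@Bool.rec (fun _ => ℕ) (@Bool.rec (fun _ => ℕ) rb13448 rb13449 (Nat.ble (nat_lit 13449) i)) (@Bool.rec (fun _ => ℕ) rb13450 rb13451 (Nat.ble (nat_lit 13451) i)) (Nat.ble (nat_lit 13450) i)) (@Bool.rec (fun _ => ℕ) (@Bool.rec (fun _ => ℕ) rb13452 rb13453 (Nat.ble (nat_lit 13453) i)) (@Bool.rec (fun _ => ℕ) rb13454 rb13455 (Nat.ble (nat_lit 13455) i)) (Nat.ble (nat_lit 13454) i)) (Nat.ble (nat_lit 13452) i)) (Nat.ble (nat_lit 13448) i)) (@Bool.rec (fun _ => ℕ) (@Bool.rec (fun _ => ℕ) (@Bool.rec (fun _ => ℕ) (@Bool.rec (fun _ => ℕ) rb13456 rb13457 (Nat.ble (nat_lit 13457) i)) (@Bool.rec (fun _ => ℕ) rb13458 rb13459 (Nat.ble (nat_lit 13459) i)) (Nat.ble (nat_lit 13458) i)) (@Bool.rec (fun _ => ℕ) (@Bool.rec (fun _ => ℕ) rb13460 rb13461 (Nat.ble (nat_lit 13461) i)) (@Bool.rec (fun _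 => ℕ) rb13462 rb13463 (Nat.ble (nat_lit 13463) i)) (Nat.ble (nat_lit 13462) i)) (Nat.ble (nat_lit 13460) i)) (@Bool.rec (fun _ => ℕ) (@Bool.rec (fun _ => ℕ) (@Bool.rec (fun _ => ℕ) rb13464 rb13465 (Nat.ble (nat_lit 13465) i)) (@Bool.rec (fun _ => ℕ) rb13466 rb13467 (Nat.ble (nat_lit 13467) i)) (Nat.ble (nat_lit 13466) i)) (@Bool.rec (fun _ => ℕ) (@Bool.rec (fun _ => ℕ) rb13468 rb13469 (Nat.ble (nat_lit 13469) i)) (@Bool.rec (fun _ => ℕ) rb13470 rb13471 (Nat.ble (nat_lit 13471) i)) (Nat.ble (nat_lit 13470) i)) (Nat.ble (nat_lit 13468) i)) (Nat.ble (nat_lit 13464) i)) (Nat.ble (nat_lit 13456) i))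

def rowBlk_n0_421 (i : ℕ) : ℕ := (@Bool.rec (fun _ => ℕ) (@Bool.rec (fun _ => ℕ) (@Bool.rec (fun _ => ℕ) (@Bool.rec (fun _ => ℕ) (@Bool.rec (fun _ => ℕ) rb13472 rb13473 (Nat.ble (nat_lit 13473) i)) (@Bool.rec (fun _ => ℕ) rb13474 rb13475 (Nat.ble (nat_lit 13475) i)) (Nat.ble (nat_lit 13474) i)) (@Bool.rec (fun _ => ℕ) (@Bool.rec (fun _ => ℕ) rb13476 rb13477 (Nat.ble (nat_lit 13477) i)) (@Bool.rec (fun _ => ℕ) rb13478 rb13479 (Nat.ble (nat_lit 13479) i)) (Nat.ble (nat_lit 13478) i)) (Nat.ble (nat_lit 13476) i)) (@Bool.rec (fun _ => ℕ) (@Bool.rec (fun _ => ℕ) (@Bool.rec (fun _ => ℕ) rb13480 rb13481 (Nat.ble (nat_lit 13481) i)) (@Bool.rec (fun _ => ℕ) rb13482 rb13483 (Nat.ble (nat_lit 13483) i)) (Nat.ble (nat_lit 13482) i)) (@Bool.rec (fun _ => ℕ) (@Bool.rec (fun _ => ℕ) rb13484 rb13485 (Nat.ble (nat_lit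 13485) i)) (@Bool.rec (fun _ => ℕ) rb13486 rb13487 (Nat.ble (nat_lit 13487) i)) (Nat.ble (nat_lit 13486) i)) (Nat.ble (nat_lit 13484) i)) (Nat.ble (nat_lit 13480) i)) (@Bool.rec (fun _ => ℕ) (@Bool.rec (fun _ => ℕ) (@Bool.rec (fun _ => ℕ) (@Bool.rec (fun _ => ℕ) rb13488 rb13489 (Nat.ble (nat_lit 13489) i)) (@Bool.rec (fun _ => ℕ) rb13490 rb13491 (Nat.ble (nat_lit 13491) i)) (Nat.ble (nat_lit 13490) i)) (@Bool.rec (fun _ => ℕ) (@Bool.rec (fun _ => ℕ) rb13492 rb13493 (Nat.ble (nat_lit 13493) i)) (@Bool.rec (fun _ => ℕ) rb13494 rb13495 (Nat.ble (nat_lit 13495) i)) (Nat.ble (nat_lit 13494) i)) (Nat.ble (nat_lit 13492) i)) (@Bool.rec (fun _ => ℕ) (@Bool.rec (fun _ => ℕ) (@Bool.rec (fun _ => ℕ) rb13496 rb13497 (Nat.ble (nat_lit 13497) i)) (@Bool.rec (fun _ => ℕ) rb13498 rb13499 (Nat.ble (nat_lit 13499) i)) (Nat.ble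 (nat_lit 13498) i)) (@Bool.rec (fun _ => ℕ) (@Bool.rec (fun _ => ℕ) rb13500 rb13501 (Nat.ble (nat_lit 13501) i)) (@Bool.rec (fun _ => ℕ) rb13502 rb13503 (Nat.ble (nat_lit 13503) i)) (Nat.ble (nat_lit 13502) i)) (Nat.ble (nat_lit 13500) i)) (Nat.ble (nat_lit 13496) i)) (Nat.ble (nat_lit 13488) i))

def rowBlk_n0_422 (i : ℕ) : ℕ := (@Bool.rec (fun _ => ℕ) (@Bool.rec (fun _ => ℕ) (@Bool.rec (fun _ => ℕ) (@Bool.rec (fun _ => ℕ) (@Bool.rec (fun _ => ℕ) rb13504 rb13505 (Nat.ble (nat_lit 13505) i)) (@Bool.rec (fun _ => ℕ) rb13506 rb13507 (Nat.ble (nat_lit 13507) i)) (Nat.ble (nat_lit 13506) i)) (@Bool.rec (fun _ => ℕ) (@Bool.rec (fun _ => ℕ) rb13508 rb13509 (Nat.ble (nat_lit 13509) i)) (@Bool.rec (fun _ => ℕ) rb13510 rb13511 (Nat.ble (nat_lit 13511) i)) (Nat.ble (nat_lit 13510) i)) (Nat.ble (nat_lit 13508) i))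 (@Bool.rec (fun _ => ℕ) (@Bool.rec (fun _ => ℕ) (@Bool.rec (fun _ => ℕ) rb13512 rb13513 (Nat.ble (nat_lit 13513) i)) (@Bool.rec (fun _ => ℕ) rb13514 rb13515 (Nat.ble (nat_lit 13515) i)) (Nat.ble (nat_lit 13514) i)) (@Bool.rec (fun _ => ℕ) (@Bool.rec (fun _ => ℕ) rb13516 rb13517 (Nat.ble (nat_lit 13517) i)) (@Bool.rec (fun _ => ℕ) rb13518 rb13519 (Nat.ble (nat_lit 13519) i)) (Nat.ble (nat_lit 13518) i)) (Nat.ble (nat_lit 13516) i)) (Nat.ble (nat_lit 13512) i)) (@Bool.rec (fun _ => ℕ) (@Bool.rec (fun _ => ℕ) (@Bool.rec (fun _ => ℕ) (@Bool.rec (fun _ => ℕ) rb13520 rb13521 (Nat.ble (nat_lit 13521) i)) (@Bool.rec (fun _ => ℕ) rb13522 rb13523 (Nat.ble (nat_lit 13523) i)) (Nat.ble (nat_lit 13522) i)) (@Bool.rec (fun _ => ℕ) (@Bool.rec (fun _ => ℕ) rb13524 rb13525 (Nat.ble (nat_lit 13525) i)) (@Bool.rec (fun _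 => ℕ) rb13526 rb13527 (Nat.ble (nat_lit 13527) i)) (Nat.ble (nat_lit 13526) i)) (Nat.ble (nat_lit 13524) i)) (@Bool.rec (fun _ => ℕ) (@Bool.rec (fun _ => ℕ) (@Bool.rec (fun _ => ℕ) rb13528 rb13529 (Nat.ble (nat_lit 13529) i)) (@Bool.rec (fun _ => ℕ) rb13530 rb13531 (Nat.ble (nat_lit 13531) i)) (Nat.ble (nat_lit 13530) i)) (@Bool.rec (fun _ => ℕ) (@Bool.rec (fun _ => ℕ) rb13532 rb13533 (Nat.ble (nat_lit 13533) i)) (@Bool.rec (fun _ => ℕ) rb13534 rb13535 (Nat.ble (nat_lit 13535) i)) (Nat.ble (nat_lit 13534) i)) (Nat.ble (nat_lit 13532) i)) (Nat.ble (nat_lit 13528) i)) (Nat.ble (nat_lit 13520) i))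

def rowBlk_n0_423 (i : ℕ) : ℕ := (@Bool.rec (fun _ => ℕ) (@Bool.rec (fun _ => ℕ) (@Bool.rec (fun _ => ℕ) (@Bool.rec (fun _ => ℕ) (@Bool.rec (fun _ => ℕ) rb13536 rb13537 (Nat.ble (nat_lit 13537) i)) (@Bool.rec (fun _ => ℕ) rb13538 rb13539 (Nat.ble (nat_lit 13539) i)) (Nat.ble (nat_lit 13538) i)) (@Bool.rec (fun _ => ℕ) (@Bool.rec (fun _ => ℕ) rb13540 rb13541 (Nat.ble (nat_lit 13541) i)) (@Bool.rec (fun _ => ℕ) rb13542 rb13543 (Nat.ble (nat_lit 13543) i)) (Nat.ble (nat_lit 13542) i)) (Nat.ble (nat_lit 13540) i)) (@Bool.rec (fun _ => ℕ) (@Bool.rec (fun _ => ℕ) (@Bool.rec (fun _ => ℕ) rb13544 rb13545 (Nat.ble (nat_lit 13545) i)) (@Bool.rec (fun _ => ℕ) rb13546 rb13547 (Nat.ble (nat_lit 13547) i)) (Nat.ble (nat_lit 13546) i)) (@Bool.rec (fun _ => ℕ) (@Bool.rec (fun _ => ℕ) rb13548 rb13549 (Nat.ble (nat_lit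 13549) i)) (@Bool.rec (fun _ => ℕ) rb13550 rb13551 (Nat.ble (nat_lit 13551) i)) (Nat.ble (nat_lit 13550) i)) (Nat.ble (nat_lit 13548) i)) (Nat.ble (nat_lit 13544) i)) (@Bool.rec (fun _ => ℕ) (@Bool.rec (fun _ => ℕ) (@Bool.rec (fun _ => ℕ) (@Bool.rec (fun _ => ℕ) rb13552 rb13553 (Nat.ble (nat_lit 13553) i)) (@Bool.rec (fun _ => ℕ) rb13554 rb13555 (Nat.ble (nat_lit 13555) i)) (Nat.ble (nat_lit 13554) i)) (@Bool.rec (fun _ => ℕ) (@Bool.rec (fun _ => ℕ) rb13556 rb13557 (Nat.ble (nat_lit 13557) i)) (@Bool.rec (fun _ => ℕ) rb13558 rb13559 (Nat.ble (nat_lit 13559) i)) (Nat.ble (nat_lit 13558) i)) (Nat.ble (nat_lit 13556) i)) (@Bool.rec (fun _ => ℕ) (@Bool.rec (fun _ => ℕ) (@Bool.rec (fun _ => ℕ) rb13560 rb13561 (Nat.ble (nat_lit 13561) i)) (@Bool.rec (fun _ => ℕ) rb13562 rb13563 (Nat.ble (nat_lit 13563) i)) (Nat.ble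 (nat_lit 13562) i)) (@Bool.rec (fun _ => ℕ) (@Bool.rec (fun _ => ℕ) rb13564 rb13565 (Nat.ble (nat_lit 13565) i)) (@Bool.rec (fun _ => ℕ) rb13566 rb13567 (Nat.ble (nat_lit 13567) i)) (Nat.ble (nat_lit 13566) i)) (Nat.ble (nat_lit 13564) i)) (Nat.ble (nat_lit 13560) i)) (Nat.ble (nat_lit 13552) i))

def rowBlk_n0_424 (i : ℕ) : ℕ := (@Bool.rec (fun _ => ℕ) (@Bool.rec (fun _ => ℕ) (@Bool.rec (fun _ => ℕ) (@Bool.rec (fun _ => ℕ) (@Bool.rec (fun _ => ℕ) rb13568 rb13569 (Nat.ble (nat_lit 13569) i)) (@Bool.rec (fun _ => ℕ) rb13570 rb13571 (Nat.ble (nat_lit 13571) i)) (Nat.ble (nat_lit 13570) i)) (@Bool.rec (fun _ => ℕ) (@Bool.rec (fun _ => ℕ) rb13572 rb13573 (Nat.ble (nat_lit 13573) i)) (@Bool.rec (fun _ => ℕ) rb13574 rb13575 (Nat.ble (nat_lit 13575) i)) (Nat.ble (nat_lit 13574) i)) (Nat.ble (nat_lit 13572) i))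 (@Bool.rec (fun _ => ℕ) (@Bool.rec (fun _ => ℕ) (@Bool.rec (fun _ => ℕ) rb13576 rb13577 (Nat.ble (nat_lit 13577) i)) (@Bool.rec (fun _ => ℕ) rb13578 rb13579 (Nat.ble (nat_lit 13579) i)) (Nat.ble (nat_lit 13578) i)) (@Bool.rec (fun _ => ℕ) (@Bool.rec (fun _ => ℕ) rb13580 rb13581 (Nat.ble (nat_lit 13581) i)) (@Bool.rec (fun _ => ℕ) rb13582 rb13583 (Nat.ble (nat_lit 13583) i)) (Nat.ble (nat_lit 13582) i)) (Nat.ble (nat_lit 13580) i)) (Nat.ble (nat_lit 13576) i)) (@Bool.rec (fun _ => ℕ) (@Bool.rec (fun _ => ℕ) (@Bool.rec (fun _ => ℕ) (@Bool.rec (fun _ => ℕ) rb13584 rb13585 (Nat.ble (nat_lit 13585) i)) (@Bool.rec (fun _ => ℕ) rb13586 rb13587 (Nat.ble (nat_lit 13587) i)) (Nat.ble (nat_lit 13586) i)) (@Bool.rec (fun _ => ℕ) (@Bool.rec (fun _ => ℕ) rb13588 rb13589 (Nat.ble (nat_lit 13589) i)) (@Bool.rec (fun _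 => ℕ) rb13590 rb13591 (Nat.ble (nat_lit 13591) i)) (Nat.ble (nat_lit 13590) i)) (Nat.ble (nat_lit 13588) i)) (@Bool.rec (fun _ => ℕ) (@Bool.rec (fun _ => ℕ) (@Bool.rec (fun _ => ℕ) rb13592 rb13593 (Nat.ble (nat_lit 13593) i)) (@Bool.rec (fun _ => ℕ) rb13594 rb13595 (Nat.ble (nat_lit 13595) i)) (Nat.ble (nat_lit 13594) i)) (@Bool.rec (fun _ => ℕ) (@Bool.rec (fun _ => ℕ) rb13596 rb13597 (Nat.ble (nat_lit 13597) i)) (@Bool.rec (fun _ => ℕ) rb13598 rb13599 (Nat.ble (nat_lit 13599) i)) (Nat.ble (nat_lit 13598) i)) (Nat.ble (nat_lit 13596) i)) (Nat.ble (nat_lit 13592) i)) (Nat.ble (nat_lit 13584) i))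

def rowBlk_n0_425 (i : ℕ) : ℕ := (@Bool.rec (fun _ => ℕ) (@Bool.rec (fun _ => ℕ) (@Bool.rec (fun _ => ℕ) (@Bool.rec (fun _ => ℕ) (@Bool.rec (fun _ => ℕ) rb13600 rb13601 (Nat.ble (nat_lit 13601) i)) (@Bool.rec (fun _ => ℕ) rb13602 rb13603 (Nat.ble (nat_lit 13603) i)) (Nat.ble (nat_lit 13602) i)) (@Bool.rec (fun _ => ℕ) (@Bool.rec (fun _ => ℕ) rb13604 rb13605 (Nat.ble (nat_lit 13605) i)) (@Bool.rec (fun _ => ℕ) rb13606 rb13607 (Nat.ble (nat_lit 13607) i)) (Nat.ble (nat_lit 13606) i)) (Nat.ble (nat_lit 13604) i)) (@Bool.rec (fun _ => ℕ) (@Bool.rec (fun _ => ℕ) (@Bool.rec (fun _ => ℕ) rb13608 rb13609 (Nat.ble (nat_lit 13609) i)) (@Bool.rec (fun _ => ℕ) rb13610 rb13611 (Nat.ble (nat_lit 13611) i)) (Nat.ble (nat_lit 13610) i)) (@Bool.rec (fun _ => ℕ) (@Bool.rec (fun _ => ℕ) rb13612 rb13613 (Nat.ble (nat_lit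 13613) i)) (@Bool.rec (fun _ => ℕ) rb13614 rb13615 (Nat.ble (nat_lit 13615) i)) (Nat.ble (nat_lit 13614) i)) (Nat.ble (nat_lit 13612) i)) (Nat.ble (nat_lit 13608) i)) (@Bool.rec (fun _ => ℕ) (@Bool.rec (fun _ => ℕ) (@Bool.rec (fun _ => ℕ) (@Bool.rec (fun _ => ℕ) rb13616 rb13617 (Nat.ble (nat_lit 13617) i)) (@Bool.rec (fun _ => ℕ) rb13618 rb13619 (Nat.ble (nat_lit 13619) i)) (Nat.ble (nat_lit 13618) i)) (@Bool.rec (fun _ => ℕ) (@Bool.rec (fun _ => ℕ) rb13620 rb13621 (Nat.ble (nat_lit 13621) i)) (@Bool.rec (fun _ => ℕ) rb13622 rb13623 (Nat.ble (nat_lit 13623) i)) (Nat.ble (nat_lit 13622) i)) (Nat.ble (nat_lit 13620) i)) (@Bool.rec (fun _ => ℕ) (@Bool.rec (fun _ => ℕ) (@Bool.rec (fun _ => ℕ) rb13624 rb13625 (Nat.ble (nat_lit 13625) i)) (@Bool.rec (fun _ => ℕ) rb13626 rb13627 (Nat.ble (nat_lit 13627) i)) (Nat.ble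 (nat_lit 13626) i)) (@Bool.rec (fun _ => ℕ) (@Bool.rec (fun _ => ℕ) rb13628 rb13629 (Nat.ble (nat_lit 13629) i)) (@Bool.rec (fun _ => ℕ) rb13630 rb13631 (Nat.ble (nat_lit 13631) i)) (Nat.ble (nat_lit 13630) i)) (Nat.ble (nat_lit 13628) i)) (Nat.ble (nat_lit 13624) i)) (Nat.ble (nat_lit 13616) i))

def rowBlk_n0_426 (i : ℕ) : ℕ := (@Bool.rec (fun _ => ℕ) (@Bool.rec (fun _ => ℕ) (@Bool.rec (fun _ => ℕ) (@Bool.rec (fun _ => ℕ) (@Bool.rec (fun _ => ℕ) rb13632 rb13633 (Nat.ble (nat_lit 13633) i)) (@Bool.rec (fun _ => ℕ) rb13634 rb13635 (Nat.ble (nat_lit 13635) i)) (Nat.ble (nat_lit 13634) i)) (@Bool.rec (fun _ => ℕ) (@Bool.rec (fun _ => ℕ) rb13636 rb13637 (Nat.ble (nat_lit 13637) i)) (@Bool.rec (fun _ => ℕ) rb13638 rb13639 (Nat.ble (nat_lit 13639) i)) (Nat.ble (nat_lit 13638) i)) (Nat.ble (nat_lit 13636) i))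 (@Bool.rec (fun _ => ℕ) (@Bool.rec (fun _ => ℕ) (@Bool.rec (fun _ => ℕ) rb13640 rb13641 (Nat.ble (nat_lit 13641) i)) (@Bool.rec (fun _ => ℕ) rb13642 rb13643 (Nat.ble (nat_lit 13643) i)) (Nat.ble (nat_lit 13642) i)) (@Bool.rec (fun _ => ℕ) (@Bool.rec (fun _ => ℕ) rb13644 rb13645 (Nat.ble (nat_lit 13645) i)) (@Bool.rec (fun _ => ℕ) rb13646 rb13647 (Nat.ble (nat_lit 13647) i)) (Nat.ble (nat_lit 13646) i)) (Nat.ble (nat_lit 13644) i)) (Nat.ble (nat_lit 13640) i)) (@Bool.rec (fun _ => ℕ) (@Bool.rec (fun _ => ℕ) (@Bool.rec (fun _ => ℕ) (@Bool.rec (fun _ => ℕ) rb13648 rb13649 (Nat.ble (nat_lit 13649) i)) (@Bool.rec (fun _ => ℕ) rb13650 rb13651 (Nat.ble (nat_lit 13651) i)) (Nat.ble (nat_lit 13650) i)) (@Bool.rec (fun _ => ℕ) (@Bool.rec (fun _ => ℕ) rb13652 rb13653 (Nat.ble (nat_lit 13653) i)) (@Bool.rec (fun _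 => ℕ) rb13654 rb13655 (Nat.ble (nat_lit 13655) i)) (Nat.ble (nat_lit 13654) i)) (Nat.ble (nat_lit 13652) i)) (@Bool.rec (fun _ => ℕ) (@Bool.rec (fun _ => ℕ) (@Bool.rec (fun _ => ℕ) rb13656 rb13657 (Nat.ble (nat_lit 13657) i)) (@Bool.rec (fun _ => ℕ) rb13658 rb13659 (Nat.ble (nat_lit 13659) i)) (Nat.ble (nat_lit 13658) i)) (@Bool.rec (fun _ => ℕ) (@Bool.rec (fun _ => ℕ) rb13660 rb13661 (Nat.ble (nat_lit 13661) i)) (@Bool.rec (fun _ => ℕ) rb13662 rb13663 (Nat.ble (nat_lit 13663) i)) (Nat.ble (nat_lit 13662) i)) (Nat.ble (nat_lit 13660) i)) (Nat.ble (nat_lit 13656) i)) (Nat.ble (nat_lit 13648) i))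

def rowBlk_n0_427 (i : ℕ) : ℕ := (@Bool.rec (fun _ => ℕ) (@Bool.rec (fun _ => ℕ) (@Bool.rec (fun _ => ℕ) (@Bool.rec (fun _ => ℕ) (@Bool.rec (fun _ => ℕ) rb13664 rb13665 (Nat.ble (nat_lit 13665) i)) (@Bool.rec (fun _ => ℕ) rb13666 rb13667 (Nat.ble (nat_lit 13667) i)) (Nat.ble (nat_lit 13666) i)) (@Bool.rec (fun _ => ℕ) (@Bool.rec (fun _ => ℕ) rb13668 rb13669 (Nat.ble (nat_lit 13669) i)) (@Bool.rec (fun _ => ℕ) rb13670 rb13671 (Nat.ble (nat_lit 13671) i)) (Nat.ble (nat_lit 13670) i)) (Nat.ble (nat_lit 13668) i)) (@Bool.rec (fun _ => ℕ) (@Bool.rec (fun _ => ℕ) (@Bool.rec (fun _ => ℕ) rb13672 rb13673 (Nat.ble (nat_lit 13673) i)) (@Bool.rec (fun _ => ℕ) rb13674 rb13675 (Nat.ble (nat_lit 13675) i)) (Nat.ble (nat_lit 13674) i)) (@Bool.rec (fun _ => ℕ) (@Bool.rec (fun _ => ℕ) rb13676 rb13677 (Nat.ble (nat_lit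 13677) i)) (@Bool.rec (fun _ => ℕ) rb13678 rb13679 (Nat.ble (nat_lit 13679) i)) (Nat.ble (nat_lit 13678) i)) (Nat.ble (nat_lit 13676) i)) (Nat.ble (nat_lit 13672) i)) (@Bool.rec (fun _ => ℕ) (@Bool.rec (fun _ => ℕ) (@Bool.rec (fun _ => ℕ) (@Bool.rec (fun _ => ℕ) rb13680 rb13681 (Nat.ble (nat_lit 13681) i)) (@Bool.rec (fun _ => ℕ) rb13682 rb13683 (Nat.ble (nat_lit 13683) i)) (Nat.ble (nat_lit 13682) i)) (@Bool.rec (fun _ => ℕ) (@Bool.rec (fun _ => ℕ) rb13684 rb13685 (Nat.ble (nat_lit 13685) i)) (@Bool.rec (fun _ => ℕ) rb13686 rb13687 (Nat.ble (nat_lit 13687) i)) (Nat.ble (nat_lit 13686) i)) (Nat.ble (nat_lit 13684) i)) (@Bool.rec (fun _ => ℕ) (@Bool.rec (fun _ => ℕ) (@Bool.rec (fun _ => ℕ) rb13688 rb13689 (Nat.ble (nat_lit 13689) i)) (@Bool.rec (fun _ => ℕ) rb13690 rb13691 (Nat.ble (nat_lit 13691) i)) (Nat.ble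 (nat_lit 13690) i)) (@Bool.rec (fun _ => ℕ) (@Bool.rec (fun _ => ℕ) rb13692 rb13693 (Nat.ble (nat_lit 13693) i)) (@Bool.rec (fun _ => ℕ) rb13694 rb13695 (Nat.ble (nat_lit 13695) i)) (Nat.ble (nat_lit 13694) i)) (Nat.ble (nat_lit 13692) i)) (Nat.ble (nat_lit 13688) i)) (Nat.ble (nat_lit 13680) i))

def rowBlk_n0_428 (i : ℕ) : ℕ := (@Bool.rec (fun _ => ℕ) (@Bool.rec (fun _ => ℕ) (@Bool.rec (fun _ => ℕ) (@Bool.rec (fun _ => ℕ) (@Bool.rec (fun _ => ℕ) rb13696 rb13697 (Nat.ble (nat_lit 13697) i)) (@Bool.rec (fun _ => ℕ) rb13698 rb13699 (Nat.ble (nat_lit 13699) i)) (Nat.ble (nat_lit 13698) i)) (@Bool.rec (fun _ => ℕ) (@Bool.rec (fun _ => ℕ) rb13700 rb13701 (Nat.ble (nat_lit 13701) i)) (@Bool.rec (fun _ => ℕ) rb13702 rb13703 (Nat.ble (nat_lit 13703) i)) (Nat.ble (nat_lit 13702) i)) (Nat.ble (nat_lit 13700) i))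 (@Bool.rec (fun _ => ℕ) (@Bool.rec (fun _ => ℕ) (@Bool.rec (fun _ => ℕ) rb13704 rb13705 (Nat.ble (nat_lit 13705) i)) (@Bool.rec (fun _ => ℕ) rb13706 rb13707 (Nat.ble (nat_lit 13707) i)) (Nat.ble (nat_lit 13706) i)) (@Bool.rec (fun _ => ℕ) (@Bool.rec (fun _ => ℕ) rb13708 rb13709 (Nat.ble (nat_lit 13709) i)) (@Bool.rec (fun _ => ℕ) rb13710 rb13711 (Nat.ble (nat_lit 13711) i)) (Nat.ble (nat_lit 13710) i)) (Nat.ble (nat_lit 13708) i)) (Nat.ble (nat_lit 13704) i)) (@Bool.rec (fun _ => ℕ) (@Bool.rec (fun _ => ℕ) (@Bool.rec (fun _ => ℕ) (@Bool.rec (fun _ => ℕ) rb13712 rb13713 (Nat.ble (nat_lit 13713) i)) (@Bool.rec (fun _ => ℕ) rb13714 rb13715 (Nat.ble (nat_lit 13715) i)) (Nat.ble (nat_lit 13714) i)) (@Bool.rec (fun _ => ℕ) (@Bool.rec (fun _ => ℕ) rb13716 rb13717 (Nat.ble (nat_lit 13717) i)) (@Bool.rec (fun _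 => ℕ) rb13718 rb13719 (Nat.ble (nat_lit 13719) i)) (Nat.ble (nat_lit 13718) i)) (Nat.ble (nat_lit 13716) i)) (@Bool.rec (fun _ => ℕ) (@Bool.rec (fun _ => ℕ) (@Bool.rec (fun _ => ℕ) rb13720 rb13721 (Nat.ble (nat_lit 13721) i)) (@Bool.rec (fun _ => ℕ) rb13722 rb13723 (Nat.ble (nat_lit 13723) i)) (Nat.ble (nat_lit 13722) i)) (@Bool.rec (fun _ => ℕ) (@Bool.rec (fun _ => ℕ) rb13724 rb13725 (Nat.ble (nat_lit 13725) i)) (@Bool.rec (fun _ => ℕ) rb13726 rb13727 (Nat.ble (nat_lit 13727) i)) (Nat.ble (nat_lit 13726) i)) (Nat.ble (nat_lit 13724) i)) (Nat.ble (nat_lit 13720) i)) (Nat.ble (nat_lit 13712) i))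

def rowBlk_n0_429 (i : ℕ) : ℕ := (@Bool.rec (fun _ => ℕ) (@Bool.rec (fun _ => ℕ) (@Bool.rec (fun _ => ℕ) (@Bool.rec (fun _ => ℕ) (@Bool.rec (fun _ => ℕ) rb13728 rb13729 (Nat.ble (nat_lit 13729) i)) (@Bool.rec (fun _ => ℕ) rb13730 rb13731 (Nat.ble (nat_lit 13731) i)) (Nat.ble (nat_lit 13730) i)) (@Bool.rec (fun _ => ℕ) (@Bool.rec (fun _ => ℕ) rb13732 rb13733 (Nat.ble (nat_lit 13733) i)) (@Bool.rec (fun _ => ℕ) rb13734 rb13735 (Nat.ble (nat_lit 13735) i)) (Nat.ble (nat_lit 13734) i)) (Nat.ble (nat_lit 13732) i)) (@Bool.rec (fun _ => ℕ) (@Bool.rec (fun _ => ℕ) (@Bool.rec (fun _ => ℕ) rb13736 rb13737 (Nat.ble (nat_lit 13737) i)) (@Bool.rec (fun _ => ℕ) rb13738 rb13739 (Nat.ble (nat_lit 13739) i)) (Nat.ble (nat_lit 13738) i)) (@Bool.rec (fun _ => ℕ) (@Bool.rec (fun _ => ℕ) rb13740 rb13741 (Nat.ble (nat_lit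 13741) i)) (@Bool.rec (fun _ => ℕ) rb13742 rb13743 (Nat.ble (nat_lit 13743) i)) (Nat.ble (nat_lit 13742) i)) (Nat.ble (nat_lit 13740) i)) (Nat.ble (nat_lit 13736) i)) (@Bool.rec (fun _ => ℕ) (@Bool.rec (fun _ => ℕ) (@Bool.rec (fun _ => ℕ) (@Bool.rec (fun _ => ℕ) rb13744 rb13745 (Nat.ble (nat_lit 13745) i)) (@Bool.rec (fun _ => ℕ) rb13746 rb13747 (Nat.ble (nat_lit 13747) i)) (Nat.ble (nat_lit 13746) i)) (@Bool.rec (fun _ => ℕ) (@Bool.rec (fun _ => ℕ) rb13748 rb13749 (Nat.ble (nat_lit 13749) i)) (@Bool.rec (fun _ => ℕ) rb13750 rb13751 (Nat.ble (nat_lit 13751) i)) (Nat.ble (nat_lit 13750) i)) (Nat.ble (nat_lit 13748) i)) (@Bool.rec (fun _ => ℕ) (@Bool.rec (fun _ => ℕ) (@Bool.rec (fun _ => ℕ) rb13752 rb13753 (Nat.ble (nat_lit 13753) i)) (@Bool.rec (fun _ => ℕ) rb13754 rb13755 (Nat.ble (nat_lit 13755) i)) (Nat.ble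 (nat_lit 13754) i)) (@Bool.rec (fun _ => ℕ) (@Bool.rec (fun _ => ℕ) rb13756 rb13757 (Nat.ble (nat_lit 13757) i)) (@Bool.rec (fun _ => ℕ) rb13758 rb13759 (Nat.ble (nat_lit 13759) i)) (Nat.ble (nat_lit 13758) i)) (Nat.ble (nat_lit 13756) i)) (Nat.ble (nat_lit 13752) i)) (Nat.ble (nat_lit 13744) i))

def rowBlk_n0_430 (i : ℕ) : ℕ := (@Bool.rec (fun _ => ℕ) (@Bool.rec (fun _ => ℕ) (@Bool.rec (fun _ => ℕ) (@Bool.rec (fun _ => ℕ) (@Bool.rec (fun _ => ℕ) rb13760 rb13761 (Nat.ble (nat_lit 13761) i)) (@Bool.rec (fun _ => ℕ) rb13762 rb13763 (Nat.ble (nat_lit 13763) i)) (Nat.ble (nat_lit 13762) i)) (@Bool.rec (fun _ => ℕ) (@Bool.rec (fun _ => ℕ) rb13764 rb13765 (Nat.ble (nat_lit 13765) i)) (@Bool.rec (fun _ => ℕ) rb13766 rb13767 (Nat.ble (nat_lit 13767) i)) (Nat.ble (nat_lit 13766) i)) (Nat.ble (nat_lit 13764) i))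 (@Bool.rec (fun _ => ℕ) (@Bool.rec (fun _ => ℕ) (@Bool.rec (fun _ => ℕ) rb13768 rb13769 (Nat.ble (nat_lit 13769) i)) (@Bool.rec (fun _ => ℕ) rb13770 rb13771 (Nat.ble (nat_lit 13771) i)) (Nat.ble (nat_lit 13770) i)) (@Bool.rec (fun _ => ℕ) (@Bool.rec (fun _ => ℕ) rb13772 rb13773 (Nat.ble (nat_lit 13773) i)) (@Bool.rec (fun _ => ℕ) rb13774 rb13775 (Nat.ble (nat_lit 13775) i)) (Nat.ble (nat_lit 13774) i)) (Nat.ble (nat_lit 13772) i)) (Nat.ble (nat_lit 13768) i)) (@Bool.rec (fun _ => ℕ) (@Bool.rec (fun _ => ℕ) (@Bool.rec (fun _ => ℕ) (@Bool.rec (fun _ => ℕ) rb13776 rb13777 (Nat.ble (nat_lit 13777) i)) (@Bool.rec (fun _ => ℕ) rb13778 rb13779 (Nat.ble (nat_lit 13779) i)) (Nat.ble (nat_lit 13778) i)) (@Bool.rec (fun _ => ℕ) (@Bool.rec (fun _ => ℕ) rb13780 rb13781 (Nat.ble (nat_lit 13781) i)) (@Bool.rec (fun _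 => ℕ) rb13782 rb13783 (Nat.ble (nat_lit 13783) i)) (Nat.ble (nat_lit 13782) i)) (Nat.ble (nat_lit 13780) i)) (@Bool.rec (fun _ => ℕ) (@Bool.rec (fun _ => ℕ) (@Bool.rec (fun _ => ℕ) rb13784 rb13785 (Nat.ble (nat_lit 13785) i)) (@Bool.rec (fun _ => ℕ) rb13786 rb13787 (Nat.ble (nat_lit 13787) i)) (Nat.ble (nat_lit 13786) i)) (@Bool.rec (fun _ => ℕ) (@Bool.rec (fun _ => ℕ) rb13788 rb13789 (Nat.ble (nat_lit 13789) i)) (@Bool.rec (fun _ => ℕ) rb13790 rb13791 (Nat.ble (nat_lit 13791) i)) (Nat.ble (nat_lit 13790) i)) (Nat.ble (nat_lit 13788) i)) (Nat.ble (nat_lit 13784) i)) (Nat.ble (nat_lit 13776) i))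

def rowBlk_n0_431 (i : ℕ) : ℕ := (@Bool.rec (fun _ => ℕ) (@Bool.rec (fun _ => ℕ) (@Bool.rec (fun _ => ℕ) (@Bool.rec (fun _ => ℕ) (@Bool.rec (fun _ => ℕ) rb13792 rb13793 (Nat.ble (nat_lit 13793) i)) (@Bool.rec (fun _ => ℕ) rb13794 rb13795 (Nat.ble (nat_lit 13795) i)) (Nat.ble (nat_lit 13794) i)) (@Bool.rec (fun _ => ℕ) (@Bool.rec (fun _ => ℕ) rb13796 rb13797 (Nat.ble (nat_lit 13797) i)) (@Bool.rec (fun _ => ℕ) rb13798 rb13799 (Nat.ble (nat_lit 13799) i)) (Nat.ble (nat_lit 13798) i)) (Nat.ble (nat_lit 13796) i)) (@Bool.rec (fun _ => ℕ) (@Bool.rec (fun _ => ℕ) (@Bool.rec (fun _ => ℕ) rb13800 rb13801 (Nat.ble (nat_lit 13801) i)) (@Bool.rec (fun _ => ℕ) rb13802 rb13803 (Nat.ble (nat_lit 13803) i)) (Nat.ble (nat_lit 13802) i)) (@Bool.rec (fun _ => ℕ) (@Bool.rec (fun _ => ℕ) rb13804 rb13805 (Nat.ble (nat_lit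 13805) i)) (@Bool.rec (fun _ => ℕ) rb13806 rb13807 (Nat.ble (nat_lit 13807) i)) (Nat.ble (nat_lit 13806) i)) (Nat.ble (nat_lit 13804) i)) (Nat.ble (nat_lit 13800) i)) (@Bool.rec (fun _ => ℕ) (@Bool.rec (fun _ => ℕ) (@Bool.rec (fun _ => ℕ) (@Bool.rec (fun _ => ℕ) rb13808 rb13809 (Nat.ble (nat_lit 13809) i)) (@Bool.rec (fun _ => ℕ) rb13810 rb13811 (Nat.ble (nat_lit 13811) i)) (Nat.ble (nat_lit 13810) i)) (@Bool.rec (fun _ => ℕ) (@Bool.rec (fun _ => ℕ) rb13812 rb13813 (Nat.ble (nat_lit 13813) i)) (@Bool.rec (fun _ => ℕ) rb13814 rb13815 (Nat.ble (nat_lit 13815) i)) (Nat.ble (nat_lit 13814) i)) (Nat.ble (nat_lit 13812) i)) (@Bool.rec (fun _ => ℕ) (@Bool.rec (fun _ => ℕ) (@Bool.rec (fun _ => ℕ) rb13816 rb13817 (Nat.ble (nat_lit 13817) i)) (@Bool.rec (fun _ => ℕ) rb13818 rb13819 (Nat.ble (nat_lit 13819) i)) (Nat.ble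 (nat_lit 13818) i)) (@Bool.rec (fun _ => ℕ) (@Bool.rec (fun _ => ℕ) rb13820 rb13821 (Nat.ble (nat_lit 13821) i)) (@Bool.rec (fun _ => ℕ) rb13822 rb13823 (Nat.ble (nat_lit 13823) i)) (Nat.ble (nat_lit 13822) i)) (Nat.ble (nat_lit 13820) i)) (Nat.ble (nat_lit 13816) i)) (Nat.ble (nat_lit 13808) i))

def rowBlk_n0_432 (i : ℕ) : ℕ := (@Bool.rec (fun _ => ℕ) (@Bool.rec (fun _ => ℕ) (@Bool.rec (fun _ => ℕ) (@Bool.rec (fun _ => ℕ) (@Bool.rec (fun _ => ℕ) rb13824 rb13825 (Nat.ble (nat_lit 13825) i)) (@Bool.rec (fun _ => ℕ) rb13826 rb13827 (Nat.ble (nat_lit 13827) i)) (Nat.ble (nat_lit 13826) i)) (@Bool.rec (fun _ => ℕ) (@Bool.rec (fun _ => ℕ) rb13828 rb13829 (Nat.ble (nat_lit 13829) i)) (@Bool.rec (fun _ => ℕ) rb13830 rb13831 (Nat.ble (nat_lit 13831) i)) (Nat.ble (nat_lit 13830) i)) (Nat.ble (nat_lit 13828) i))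 (@Bool.rec (fun _ => ℕ) (@Bool.rec (fun _ => ℕ) (@Bool.rec (fun _ => ℕ) rb13832 rb13833 (Nat.ble (nat_lit 13833) i)) (@Bool.rec (fun _ => ℕ) rb13834 rb13835 (Nat.ble (nat_lit 13835) i)) (Nat.ble (nat_lit 13834) i)) (@Bool.rec (fun _ => ℕ) (@Bool.rec (fun _ => ℕ) rb13836 rb13837 (Nat.ble (nat_lit 13837) i)) (@Bool.rec (fun _ => ℕ) rb13838 rb13839 (Nat.ble (nat_lit 13839) i)) (Nat.ble (nat_lit 13838) i)) (Nat.ble (nat_lit 13836) i)) (Nat.ble (nat_lit 13832) i)) (@Bool.rec (fun _ => ℕ) (@Bool.rec (fun _ => ℕ) (@Bool.rec (fun _ => ℕ) (@Bool.rec (fun _ => ℕ) rb13840 rb13841 (Nat.ble (nat_lit 13841) i)) (@Bool.rec (fun _ => ℕ) rb13842 rb13843 (Nat.ble (nat_lit 13843) i)) (Nat.ble (nat_lit 13842) i)) (@Bool.rec (fun _ => ℕ) (@Bool.rec (fun _ => ℕ) rb13844 rb13845 (Nat.ble (nat_lit 13845) i)) (@Bool.rec (fun _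 => ℕ) rb13846 rb13847 (Nat.ble (nat_lit 13847) i)) (Nat.ble (nat_lit 13846) i)) (Nat.ble (nat_lit 13844) i)) (@Bool.rec (fun _ => ℕ) (@Bool.rec (fun _ => ℕ) (@Bool.rec (fun _ => ℕ) rb13848 rb13849 (Nat.ble (nat_lit 13849) i)) (@Bool.rec (fun _ => ℕ) rb13850 rb13851 (Nat.ble (nat_lit 13851) i)) (Nat.ble (nat_lit 13850) i)) (@Bool.rec (fun _ => ℕ) (@Bool.rec (fun _ => ℕ) rb13852 rb13853 (Nat.ble (nat_lit 13853) i)) (@Bool.rec (fun _ => ℕ) rb13854 rb13855 (Nat.ble (nat_lit 13855) i)) (Nat.ble (nat_lit 13854) i)) (Nat.ble (nat_lit 13852) i)) (Nat.ble (nat_lit 13848) i)) (Nat.ble (nat_lit 13840) i))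

def rowBlk_n0_433 (i : ℕ) : ℕ := (@Bool.rec (fun _ => ℕ) (@Bool.rec (fun _ => ℕ) (@Bool.rec (fun _ => ℕ) (@Bool.rec (fun _ => ℕ) (@Bool.rec (fun _ => ℕ) rb13856 rb13857 (Nat.ble (nat_lit 13857) i)) (@Bool.rec (fun _ => ℕ) rb13858 rb13859 (Nat.ble (nat_lit 13859) i)) (Nat.ble (nat_lit 13858) i)) (@Bool.rec (fun _ => ℕ) (@Bool.rec (fun _ => ℕ) rb13860 rb13861 (Nat.ble (nat_lit 13861) i)) (@Bool.rec (fun _ => ℕ) rb13862 rb13863 (Nat.ble (nat_lit 13863) i)) (Nat.ble (nat_lit 13862) i)) (Nat.ble (nat_lit 13860) i)) (@Bool.rec (fun _ => ℕ) (@Bool.rec (fun _ => ℕ) (@Bool.rec (fun _ => ℕ) rb13864 rb13865 (Nat.ble (nat_lit 13865) i)) (@Bool.rec (fun _ => ℕ) rb13866 rb13867 (Nat.ble (nat_lit 13867) i)) (Nat.ble (nat_lit 13866) i)) (@Bool.rec (fun _ => ℕ) (@Bool.rec (fun _ => ℕ) rb13868 rb13869 (Nat.ble (nat_lit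 13869) i)) (@Bool.rec (fun _ => ℕ) rb13870 rb13871 (Nat.ble (nat_lit 13871) i)) (Nat.ble (nat_lit 13870) i)) (Nat.ble (nat_lit 13868) i)) (Nat.ble (nat_lit 13864) i)) (@Bool.rec (fun _ => ℕ) (@Bool.rec (fun _ => ℕ) (@Bool.rec (fun _ => ℕ) (@Bool.rec (fun _ => ℕ) rb13872 rb13873 (Nat.ble (nat_lit 13873) i)) (@Bool.rec (fun _ => ℕ) rb13874 rb13875 (Nat.ble (nat_lit 13875) i)) (Nat.ble (nat_lit 13874) i)) (@Bool.rec (fun _ => ℕ) (@Bool.rec (fun _ => ℕ) rb13876 rb13877 (Nat.ble (nat_lit 13877) i)) (@Bool.rec (fun _ => ℕ) rb13878 rb13879 (Nat.ble (nat_lit 13879) i)) (Nat.ble (nat_lit 13878) i)) (Nat.ble (nat_lit 13876) i)) (@Bool.rec (fun _ => ℕ) (@Bool.rec (fun _ => ℕ) (@Bool.rec (fun _ => ℕ) rb13880 rb13881 (Nat.ble (nat_lit 13881) i)) (@Bool.rec (fun _ => ℕ) rb13882 rb13883 (Nat.ble (nat_lit 13883) i)) (Nat.ble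 (nat_lit 13882) i)) (@Bool.rec (fun _ => ℕ) (@Bool.rec (fun _ => ℕ) rb13884 rb13885 (Nat.ble (nat_lit 13885) i)) (@Bool.rec (fun _ => ℕ) rb13886 rb13887 (Nat.ble (nat_lit 13887) i)) (Nat.ble (nat_lit 13886) i)) (Nat.ble (nat_lit 13884) i)) (Nat.ble (nat_lit 13880) i)) (Nat.ble (nat_lit 13872) i))

def rowBlk_n0_434 (i : ℕ) : ℕ := (@Bool.rec (fun _ => ℕ) (@Bool.rec (fun _ => ℕ) (@Bool.rec (fun _ => ℕ) (@Bool.rec (fun _ => ℕ) (@Bool.rec (fun _ => ℕ) rb13888 rb13889 (Nat.ble (nat_lit 13889) i)) (@Bool.rec (fun _ => ℕ) rb13890 rb13891 (Nat.ble (nat_lit 13891) i)) (Nat.ble (nat_lit 13890) i)) (@Bool.rec (fun _ => ℕ) (@Bool.rec (fun _ => ℕ) rb13892 rb13893 (Nat.ble (nat_lit 13893) i)) (@Bool.rec (fun _ => ℕ) rb13894 rb13895 (Nat.ble (nat_lit 13895) i)) (Nat.ble (nat_lit 13894) i)) (Nat.ble (nat_lit 13892) i))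 (@Bool.rec (fun _ => ℕ) (@Bool.rec (fun _ => ℕ) (@Bool.rec (fun _ => ℕ) rb13896 rb13897 (Nat.ble (nat_lit 13897) i)) (@Bool.rec (fun _ => ℕ) rb13898 rb13899 (Nat.ble (nat_lit 13899) i)) (Nat.ble (nat_lit 13898) i)) (@Bool.rec (fun _ => ℕ) (@Bool.rec (fun _ => ℕ) rb13900 rb13901 (Nat.ble (nat_lit 13901) i)) (@Bool.rec (fun _ => ℕ) rb13902 rb13903 (Nat.ble (nat_lit 13903) i)) (Nat.ble (nat_lit 13902) i)) (Nat.ble (nat_lit 13900) i)) (Nat.ble (nat_lit 13896) i)) (@Bool.rec (fun _ => ℕ) (@Bool.rec (fun _ => ℕ) (@Bool.rec (fun _ => ℕ) (@Bool.rec (fun _ => ℕ) rb13904 rb13905 (Nat.ble (nat_lit 13905) i)) (@Bool.rec (fun _ => ℕ) rb13906 rb13907 (Nat.ble (nat_lit 13907) i)) (Nat.ble (nat_lit 13906) i)) (@Bool.rec (fun _ => ℕ) (@Bool.rec (fun _ => ℕ) rb13908 rb13909 (Nat.ble (nat_lit 13909) i)) (@Bool.rec (fun _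 => ℕ) rb13910 rb13911 (Nat.ble (nat_lit 13911) i)) (Nat.ble (nat_lit 13910) i)) (Nat.ble (nat_lit 13908) i)) (@Bool.rec (fun _ => ℕ) (@Bool.rec (fun _ => ℕ) (@Bool.rec (fun _ => ℕ) rb13912 rb13913 (Nat.ble (nat_lit 13913) i)) (@Bool.rec (fun _ => ℕ) rb13914 rb13915 (Nat.ble (nat_lit 13915) i)) (Nat.ble (nat_lit 13914) i)) (@Bool.rec (fun _ => ℕ) (@Bool.rec (fun _ => ℕ) rb13916 rb13917 (Nat.ble (nat_lit 13917) i)) (@Bool.rec (fun _ => ℕ) rb13918 rb13919 (Nat.ble (nat_lit 13919) i)) (Nat.ble (nat_lit 13918) i)) (Nat.ble (nat_lit 13916) i)) (Nat.ble (nat_lit 13912) i)) (Nat.ble (nat_lit 13904) i))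

def rowBlk_n0_435 (i : ℕ) : ℕ := (@Bool.rec (fun _ => ℕ) (@Bool.rec (fun _ => ℕ) (@Bool.rec (fun _ => ℕ) (@Bool.rec (fun _ => ℕ) (@Bool.rec (fun _ => ℕ) rb13920 rb13921 (Nat.ble (nat_lit 13921) i)) (@Bool.rec (fun _ => ℕ) rb13922 rb13923 (Nat.ble (nat_lit 13923) i)) (Nat.ble (nat_lit 13922) i)) (@Bool.rec (fun _ => ℕ) (@Bool.rec (fun _ => ℕ) rb13924 rb13925 (Nat.ble (nat_lit 13925) i)) (@Bool.rec (fun _ => ℕ) rb13926 rb13927 (Nat.ble (nat_lit 13927) i)) (Nat.ble (nat_lit 13926) i)) (Nat.ble (nat_lit 13924) i)) (@Bool.rec (fun _ => ℕ) (@Bool.rec (fun _ => ℕ) (@Bool.rec (fun _ => ℕ) rb13928 rb13929 (Nat.ble (nat_lit 13929) i)) (@Bool.rec (fun _ => ℕ) rb13930 rb13931 (Nat.ble (nat_lit 13931) i)) (Nat.ble (nat_lit 13930) i)) (@Bool.rec (fun _ => ℕ) (@Bool.rec (fun _ => ℕ) rb13932 rb13933 (Nat.ble (nat_lit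 13933) i)) (@Bool.rec (fun _ => ℕ) rb13934 rb13935 (Nat.ble (nat_lit 13935) i)) (Nat.ble (nat_lit 13934) i)) (Nat.ble (nat_lit 13932) i)) (Nat.ble (nat_lit 13928) i)) (@Bool.rec (fun _ => ℕ) (@Bool.rec (fun _ => ℕ) (@Bool.rec (fun _ => ℕ) (@Bool.rec (fun _ => ℕ) rb13936 rb13937 (Nat.ble (nat_lit 13937) i)) (@Bool.rec (fun _ => ℕ) rb13938 rb13939 (Nat.ble (nat_lit 13939) i)) (Nat.ble (nat_lit 13938) i)) (@Bool.rec (fun _ => ℕ) (@Bool.rec (fun _ => ℕ) rb13940 rb13941 (Nat.ble (nat_lit 13941) i)) (@Bool.rec (fun _ => ℕ) rb13942 rb13943 (Nat.ble (nat_lit 13943) i)) (Nat.ble (nat_lit 13942) i)) (Nat.ble (nat_lit 13940) i)) (@Bool.rec (fun _ => ℕ) (@Bool.rec (fun _ => ℕ) (@Bool.rec (fun _ => ℕ) rb13944 rb13945 (Nat.ble (nat_lit 13945) i)) (@Bool.rec (fun _ => ℕ) rb13946 rb13947 (Nat.ble (nat_lit 13947) i)) (Nat.ble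 (nat_lit 13946) i)) (@Bool.rec (fun _ => ℕ) (@Bool.rec (fun _ => ℕ) rb13948 rb13949 (Nat.ble (nat_lit 13949) i)) (@Bool.rec (fun _ => ℕ) rb13950 rb13951 (Nat.ble (nat_lit 13951) i)) (Nat.ble (nat_lit 13950) i)) (Nat.ble (nat_lit 13948) i)) (Nat.ble (nat_lit 13944) i)) (Nat.ble (nat_lit 13936) i))

def rowBlk_n0_436 (i : ℕ) : ℕ := (@Bool.rec (fun _ => ℕ) (@Bool.rec (fun _ => ℕ) (@Bool.rec (fun _ => ℕ) (@Bool.rec (fun _ => ℕ) (@Bool.rec (fun _ => ℕ) rb13952 rb13953 (Nat.ble (nat_lit 13953) i)) (@Bool.rec (fun _ => ℕ) rb13954 rb13955 (Nat.ble (nat_lit 13955) i)) (Nat.ble (nat_lit 13954) i)) (@Bool.rec (fun _ => ℕ) (@Bool.rec (fun _ => ℕ) rb13956 rb13957 (Nat.ble (nat_lit 13957) i)) (@Bool.rec (fun _ => ℕ) rb13958 rb13959 (Nat.ble (nat_lit 13959) i)) (Nat.ble (nat_lit 13958) i)) (Nat.ble (nat_lit 13956) i))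 (@Bool.rec (fun _ => ℕ) (@Bool.rec (fun _ => ℕ) (@Bool.rec (fun _ => ℕ) rb13960 rb13961 (Nat.ble (nat_lit 13961) i)) (@Bool.rec (fun _ => ℕ) rb13962 rb13963 (Nat.ble (nat_lit 13963) i)) (Nat.ble (nat_lit 13962) i)) (@Bool.rec (fun _ => ℕ) (@Bool.rec (fun _ => ℕ) rb13964 rb13965 (Nat.ble (nat_lit 13965) i)) (@Bool.rec (fun _ => ℕ) rb13966 rb13967 (Nat.ble (nat_lit 13967) i)) (Nat.ble (nat_lit 13966) i)) (Nat.ble (nat_lit 13964) i)) (Nat.ble (nat_lit 13960) i)) (@Bool.rec (fun _ => ℕ) (@Bool.rec (fun _ => ℕ) (@Bool.rec (fun _ => ℕ) (@Bool.rec (fun _ => ℕ) rb13968 rb13969 (Nat.ble (nat_lit 13969) i)) (@Bool.rec (fun _ => ℕ) rb13970 rb13971 (Nat.ble (nat_lit 13971) i)) (Nat.ble (nat_lit 13970) i)) (@Bool.rec (fun _ => ℕ) (@Bool.rec (fun _ => ℕ) rb13972 rb13973 (Nat.ble (nat_lit 13973) i)) (@Bool.rec (fun _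 => ℕ) rb13974 rb13975 (Nat.ble (nat_lit 13975) i)) (Nat.ble (nat_lit 13974) i)) (Nat.ble (nat_lit 13972) i)) (@Bool.rec (fun _ => ℕ) (@Bool.rec (fun _ => ℕ) (@Bool.rec (fun _ => ℕ) rb13976 rb13977 (Nat.ble (nat_lit 13977) i)) (@Bool.rec (fun _ => ℕ) rb13978 rb13979 (Nat.ble (nat_lit 13979) i)) (Nat.ble (nat_lit 13978) i)) (@Bool.rec (fun _ => ℕ) (@Bool.rec (fun _ => ℕ) rb13980 rb13981 (Nat.ble (nat_lit 13981) i)) (@Bool.rec (fun _ => ℕ) rb13982 rb13983 (Nat.ble (nat_lit 13983) i)) (Nat.ble (nat_lit 13982) i)) (Nat.ble (nat_lit 13980) i)) (Nat.ble (nat_lit 13976) i)) (Nat.ble (nat_lit 13968) i))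

def rowBlk_n0_437 (i : ℕ) : ℕ := (@Bool.rec (fun _ => ℕ) (@Bool.rec (fun _ => ℕ) (@Bool.rec (fun _ => ℕ) (@Bool.rec (fun _ => ℕ) (@Bool.rec (fun _ => ℕ) rb13984 rb13985 (Nat.ble (nat_lit 13985) i)) (@Bool.rec (fun _ => ℕ) rb13986 rb13987 (Nat.ble (nat_lit 13987) i)) (Nat.ble (nat_lit 13986) i)) (@Bool.rec (fun _ => ℕ) (@Bool.rec (fun _ => ℕ) rb13988 rb13989 (Nat.ble (nat_lit 13989) i)) (@Bool.rec (fun _ => ℕ) rb13990 rb13991 (Nat.ble (nat_lit 13991) i)) (Nat.ble (nat_lit 13990) i)) (Nat.ble (nat_lit 13988) i)) (@Bool.rec (fun _ => ℕ) (@Bool.rec (fun _ => ℕ) (@Bool.rec (fun _ => ℕ) rb13992 rb13993 (Nat.ble (nat_lit 13993) i)) (@Bool.rec (fun _ => ℕ) rb13994 rb13995 (Nat.ble (nat_lit 13995) i)) (Nat.ble (nat_lit 13994) i)) (@Bool.rec (fun _ => ℕ) (@Bool.rec (fun _ => ℕ) rb13996 rb13997 (Nat.ble (nat_lit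 13997) i)) (@Bool.rec (fun _ => ℕ) rb13998 rb13999 (Nat.ble (nat_lit 13999) i)) (Nat.ble (nat_lit 13998) i)) (Nat.ble (nat_lit 13996) i)) (Nat.ble (nat_lit 13992) i)) (@Bool.rec (fun _ => ℕ) (@Bool.rec (fun _ => ℕ) (@Bool.rec (fun _ => ℕ) (@Bool.rec (fun _ => ℕ) rb14000 rb14001 (Nat.ble (nat_lit 14001) i)) (@Bool.rec (fun _ => ℕ) rb14002 rb14003 (Nat.ble (nat_lit 14003) i)) (Nat.ble (nat_lit 14002) i)) (@Bool.rec (fun _ => ℕ) (@Bool.rec (fun _ => ℕ) rb14004 rb14005 (Nat.ble (nat_lit 14005) i)) (@Bool.rec (fun _ => ℕ) rb14006 rb14007 (Nat.ble (nat_lit 14007) i)) (Nat.ble (nat_lit 14006) i)) (Nat.ble (nat_lit 14004) i)) (@Bool.rec (fun _ => ℕ) (@Bool.rec (fun _ => ℕ) (@Bool.rec (fun _ => ℕ) rb14008 rb14009 (Nat.ble (nat_lit 14009) i)) (@Bool.rec (fun _ => ℕ) rb14010 rb14011 (Nat.ble (nat_lit 14011) i)) (Nat.ble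 (nat_lit 14010) i)) (@Bool.rec (fun _ => ℕ) (@Bool.rec (fun _ => ℕ) rb14012 rb14013 (Nat.ble (nat_lit 14013) i)) (@Bool.rec (fun _ => ℕ) rb14014 rb14015 (Nat.ble (nat_lit 14015) i)) (Nat.ble (nat_lit 14014) i)) (Nat.ble (nat_lit 14012) i)) (Nat.ble (nat_lit 14008) i)) (Nat.ble (nat_lit 14000) i))

def rowBlk_n0_438 (i : ℕ) : ℕ := (@Bool.rec (fun _ => ℕ) (@Bool.rec (fun _ => ℕ) (@Bool.rec (fun _ => ℕ) (@Bool.rec (fun _ => ℕ) (@Bool.rec (fun _ => ℕ) rb14016 rb14017 (Nat.ble (nat_lit 14017) i)) (@Bool.rec (fun _ => ℕ) rb14018 rb14019 (Nat.ble (nat_lit 14019) i)) (Nat.ble (nat_lit 14018) i)) (@Bool.rec (fun _ => ℕ) (@Bool.rec (fun _ => ℕ) rb14020 rb14021 (Nat.ble (nat_lit 14021) i)) (@Bool.rec (fun _ => ℕ) rb14022 rb14023 (Nat.ble (nat_lit 14023) i)) (Nat.ble (nat_lit 14022) i)) (Nat.ble (nat_lit 14020) i))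 (@Bool.rec (fun _ => ℕ) (@Bool.rec (fun _ => ℕ) (@Bool.rec (fun _ => ℕ) rb14024 rb14025 (Nat.ble (nat_lit 14025) i)) (@Bool.rec (fun _ => ℕ) rb14026 rb14027 (Nat.ble (nat_lit 14027) i)) (Nat.ble (nat_lit 14026) i)) (@Bool.rec (fun _ => ℕ) (@Bool.rec (fun _ => ℕ) rb14028 rb14029 (Nat.ble (nat_lit 14029) i)) (@Bool.rec (fun _ => ℕ) rb14030 rb14031 (Nat.ble (nat_lit 14031) i)) (Nat.ble (nat_lit 14030) i)) (Nat.ble (nat_lit 14028) i)) (Nat.ble (nat_lit 14024) i)) (@Bool.rec (fun _ => ℕ) (@Bool.rec (fun _ => ℕ) (@Bool.rec (fun _ => ℕ) (@Bool.rec (fun _ => ℕ) rb14032 rb14033 (Nat.ble (nat_lit 14033) i)) (@Bool.rec (fun _ => ℕ) rb14034 rb14035 (Nat.ble (nat_lit 14035) i)) (Nat.ble (nat_lit 14034) i)) (@Bool.rec (fun _ => ℕ) (@Bool.rec (fun _ => ℕ) rb14036 rb14037 (Nat.ble (nat_lit 14037) i)) (@Bool.rec (fun _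 => ℕ) rb14038 rb14039 (Nat.ble (nat_lit 14039) i)) (Nat.ble (nat_lit 14038) i)) (Nat.ble (nat_lit 14036) i)) (@Bool.rec (fun _ => ℕ) (@Bool.rec (fun _ => ℕ) (@Bool.rec (fun _ => ℕ) rb14040 rb14041 (Nat.ble (nat_lit 14041) i)) (@Bool.rec (fun _ => ℕ) rb14042 rb14043 (Nat.ble (nat_lit 14043) i)) (Nat.ble (nat_lit 14042) i)) (@Bool.rec (fun _ => ℕ) (@Bool.rec (fun _ => ℕ) rb14044 rb14045 (Nat.ble (nat_lit 14045) i)) (@Bool.rec (fun _ => ℕ) rb14046 rb14047 (Nat.ble (nat_lit 14047) i)) (Nat.ble (nat_lit 14046) i)) (Nat.ble (nat_lit 14044) i)) (Nat.ble (nat_lit 14040) i)) (Nat.ble (nat_lit 14032) i))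

def rowBlk_n0_439 (i : ℕ) : ℕ := (@Bool.rec (fun _ => ℕ) (@Bool.rec (fun _ => ℕ) (@Bool.rec (fun _ => ℕ) (@Bool.rec (fun _ => ℕ) (@Bool.rec (fun _ => ℕ) rb14048 rb14049 (Nat.ble (nat_lit 14049) i)) (@Bool.rec (fun _ => ℕ) rb14050 rb14051 (Nat.ble (nat_lit 14051) i)) (Nat.ble (nat_lit 14050) i)) (@Bool.rec (fun _ => ℕ) (@Bool.rec (fun _ => ℕ) rb14052 rb14053 (Nat.ble (nat_lit 14053) i)) (@Bool.rec (fun _ => ℕ) rb14054 rb14055 (Nat.ble (nat_lit 14055) i)) (Nat.ble (nat_lit 14054) i)) (Nat.ble (nat_lit 14052) i)) (@Bool.rec (fun _ => ℕ) (@Bool.rec (fun _ => ℕ) (@Bool.rec (fun _ => ℕ) rb14056 rb14057 (Nat.ble (nat_lit 14057) i)) (@Bool.rec (fun _ => ℕ) rb14058 rb14059 (Nat.ble (nat_lit 14059) i)) (Nat.ble (nat_lit 14058) i)) (@Bool.rec (fun _ => ℕ) (@Bool.rec (fun _ => ℕ) rb14060 rb14061 (Nat.ble (nat_lit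 14061) i)) (@Bool.rec (fun _ => ℕ) rb14062 rb14063 (Nat.ble (nat_lit 14063) i)) (Nat.ble (nat_lit 14062) i)) (Nat.ble (nat_lit 14060) i)) (Nat.ble (nat_lit 14056) i)) (@Bool.rec (fun _ => ℕ) (@Bool.rec (fun _ => ℕ) (@Bool.rec (fun _ => ℕ) (@Bool.rec (fun _ => ℕ) rb14064 rb14065 (Nat.ble (nat_lit 14065) i)) (@Bool.rec (fun _ => ℕ) rb14066 rb14067 (Nat.ble (nat_lit 14067) i)) (Nat.ble (nat_lit 14066) i)) (@Bool.rec (fun _ => ℕ) (@Bool.rec (fun _ => ℕ) rb14068 rb14069 (Nat.ble (nat_lit 14069) i)) (@Bool.rec (fun _ => ℕ) rb14070 rb14071 (Nat.ble (nat_lit 14071) i)) (Nat.ble (nat_lit 14070) i)) (Nat.ble (nat_lit 14068) i)) (@Bool.rec (fun _ => ℕ) (@Bool.rec (fun _ => ℕ) (@Bool.rec (fun _ => ℕ) rb14072 rb14073 (Nat.ble (nat_lit 14073) i)) (@Bool.rec (fun _ => ℕ) rb14074 rb14075 (Nat.ble (nat_lit 14075) i)) (Nat.ble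 (nat_lit 14074) i)) (@Bool.rec (fun _ => ℕ) (@Bool.rec (fun _ => ℕ) rb14076 rb14077 (Nat.ble (nat_lit 14077) i)) (@Bool.rec (fun _ => ℕ) rb14078 rb14079 (Nat.ble (nat_lit 14079) i)) (Nat.ble (nat_lit 14078) i)) (Nat.ble (nat_lit 14076) i)) (Nat.ble (nat_lit 14072) i)) (Nat.ble (nat_lit 14064) i))

def rowBlk_n0_440 (i : ℕ) : ℕ := (@Bool.rec (fun _ => ℕ) (@Bool.rec (fun _ => ℕ) (@Bool.rec (fun _ => ℕ) (@Bool.rec (fun _ => ℕ) (@Bool.rec (fun _ => ℕ) rb14080 rb14081 (Nat.ble (nat_lit 14081) i)) (@Bool.rec (fun _ => ℕ) rb14082 rb14083 (Nat.ble (nat_lit 14083) i)) (Nat.ble (nat_lit 14082) i)) (@Bool.rec (fun _ => ℕ) (@Bool.rec (fun _ => ℕ) rb14084 rb14085 (Nat.ble (nat_lit 14085) i)) (@Bool.rec (fun _ => ℕ) rb14086 rb14087 (Nat.ble (nat_lit 14087) i)) (Nat.ble (nat_lit 14086) i)) (Nat.ble (nat_lit 14084) i))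 (@Bool.rec (fun _ => ℕ) (@Bool.rec (fun _ => ℕ) (@Bool.rec (fun _ => ℕ) rb14088 rb14089 (Nat.ble (nat_lit 14089) i)) (@Bool.rec (fun _ => ℕ) rb14090 rb14091 (Nat.ble (nat_lit 14091) i)) (Nat.ble (nat_lit 14090) i)) (@Bool.rec (fun _ => ℕ) (@Bool.rec (fun _ => ℕ) rb14092 rb14093 (Nat.ble (nat_lit 14093) i)) (@Bool.rec (fun _ => ℕ) rb14094 rb14095 (Nat.ble (nat_lit 14095) i)) (Nat.ble (nat_lit 14094) i)) (Nat.ble (nat_lit 14092) i)) (Nat.ble (nat_lit 14088) i)) (@Bool.rec (fun _ => ℕ) (@Bool.rec (fun _ => ℕ) (@Bool.rec (fun _ => ℕ) (@Bool.rec (fun _ => ℕ) rb14096 rb14097 (Nat.ble (nat_lit 14097) i)) (@Bool.rec (fun _ => ℕ) rb14098 rb14099 (Nat.ble (nat_lit 14099) i)) (Nat.ble (nat_lit 14098) i)) (@Bool.rec (fun _ => ℕ) (@Bool.rec (fun _ => ℕ) rb14100 rb14101 (Nat.ble (nat_lit 14101) i)) (@Bool.rec (fun _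 => ℕ) rb14102 rb14103 (Nat.ble (nat_lit 14103) i)) (Nat.ble (nat_lit 14102) i)) (Nat.ble (nat_lit 14100) i)) (@Bool.rec (fun _ => ℕ) (@Bool.rec (fun _ => ℕ) (@Bool.rec (fun _ => ℕ) rb14104 rb14105 (Nat.ble (nat_lit 14105) i)) (@Bool.rec (fun _ => ℕ) rb14106 rb14107 (Nat.ble (nat_lit 14107) i)) (Nat.ble (nat_lit 14106) i)) (@Bool.rec (fun _ => ℕ) (@Bool.rec (fun _ => ℕ) rb14108 rb14109 (Nat.ble (nat_lit 14109) i)) (@Bool.rec (fun _ => ℕ) rb14110 rb14111 (Nat.ble (nat_lit 14111) i)) (Nat.ble (nat_lit 14110) i)) (Nat.ble (nat_lit 14108) i)) (Nat.ble (nat_lit 14104) i)) (Nat.ble (nat_lit 14096) i))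

def rowBlk_n0_441 (i : ℕ) : ℕ := (@Bool.rec (fun _ => ℕ) (@Bool.rec (fun _ => ℕ) (@Bool.rec (fun _ => ℕ) (@Bool.rec (fun _ => ℕ) (@Bool.rec (fun _ => ℕ) rb14112 rb14113 (Nat.ble (nat_lit 14113) i)) (@Bool.rec (fun _ => ℕ) rb14114 rb14115 (Nat.ble (nat_lit 14115) i)) (Nat.ble (nat_lit 14114) i)) (@Bool.rec (fun _ => ℕ) (@Bool.rec (fun _ => ℕ) rb14116 rb14117 (Nat.ble (nat_lit 14117) i)) (@Bool.rec (fun _ => ℕ) rb14118 rb14119 (Nat.ble (nat_lit 14119) i)) (Nat.ble (nat_lit 14118) i)) (Nat.ble (nat_lit 14116) i)) (@Bool.rec (fun _ => ℕ) (@Bool.rec (fun _ => ℕ) (@Bool.rec (fun _ => ℕ) rb14120 rb14121 (Nat.ble (nat_lit 14121) i)) (@Bool.rec (fun _ => ℕ) rb14122 rb14123 (Nat.ble (nat_lit 14123) i)) (Nat.ble (nat_lit 14122) i)) (@Bool.rec (fun _ => ℕ) (@Bool.rec (fun _ => ℕ) rb14124 rb14125 (Nat.ble (nat_lit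 14125) i)) (@Bool.rec (fun _ => ℕ) rb14126 rb14127 (Nat.ble (nat_lit 14127) i)) (Nat.ble (nat_lit 14126) i)) (Nat.ble (nat_lit 14124) i)) (Nat.ble (nat_lit 14120) i)) (@Bool.rec (fun _ => ℕ) (@Bool.rec (fun _ => ℕ) (@Bool.rec (fun _ => ℕ) (@Bool.rec (fun _ => ℕ) rb14128 rb14129 (Nat.ble (nat_lit 14129) i)) (@Bool.rec (fun _ => ℕ) rb14130 rb14131 (Nat.ble (nat_lit 14131) i)) (Nat.ble (nat_lit 14130) i)) (@Bool.rec (fun _ => ℕ) (@Bool.rec (fun _ => ℕ) rb14132 rb14133 (Nat.ble (nat_lit 14133) i)) (@Bool.rec (fun _ => ℕ) rb14134 rb14135 (Nat.ble (nat_lit 14135) i)) (Nat.ble (nat_lit 14134) i)) (Nat.ble (nat_lit 14132) i)) (@Bool.rec (fun _ => ℕ) (@Bool.rec (fun _ => ℕ) (@Bool.rec (fun _ => ℕ) rb14136 rb14137 (Nat.ble (nat_lit 14137) i)) (@Bool.rec (fun _ => ℕ) rb14138 rb14139 (Nat.ble (nat_lit 14139) i)) (Nat.ble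 (nat_lit 14138) i)) (@Bool.rec (fun _ => ℕ) (@Bool.rec (fun _ => ℕ) rb14140 rb14141 (Nat.ble (nat_lit 14141) i)) (@Bool.rec (fun _ => ℕ) rb14142 rb14143 (Nat.ble (nat_lit 14143) i)) (Nat.ble (nat_lit 14142) i)) (Nat.ble (nat_lit 14140) i)) (Nat.ble (nat_lit 14136) i)) (Nat.ble (nat_lit 14128) i))

def rowBlk_n0_442 (i : ℕ) : ℕ := (@Bool.rec (fun _ => ℕ) (@Bool.rec (fun _ => ℕ) (@Bool.rec (fun _ => ℕ) (@Bool.rec (fun _ => ℕ) (@Bool.rec (fun _ => ℕ) rb14144 rb14145 (Nat.ble (nat_lit 14145) i)) (@Bool.rec (fun _ => ℕ) rb14146 rb14147 (Nat.ble (nat_lit 14147) i)) (Nat.ble (nat_lit 14146) i)) (@Bool.rec (fun _ => ℕ) (@Bool.rec (fun _ => ℕ) rb14148 rb14149 (Nat.ble (nat_lit 14149) i)) (@Bool.rec (fun _ => ℕ) rb14150 rb14151 (Nat.ble (nat_lit 14151) i)) (Nat.ble (nat_lit 14150) i)) (Nat.ble (nat_lit 14148) i))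 (@Bool.rec (fun _ => ℕ) (@Bool.rec (fun _ => ℕ) (@Bool.rec (fun _ => ℕ) rb14152 rb14153 (Nat.ble (nat_lit 14153) i)) (@Bool.rec (fun _ => ℕ) rb14154 rb14155 (Nat.ble (nat_lit 14155) i)) (Nat.ble (nat_lit 14154) i)) (@Bool.rec (fun _ => ℕ) (@Bool.rec (fun _ => ℕ) rb14156 rb14157 (Nat.ble (nat_lit 14157) i)) (@Bool.rec (fun _ => ℕ) rb14158 rb14159 (Nat.ble (nat_lit 14159) i)) (Nat.ble (nat_lit 14158) i)) (Nat.ble (nat_lit 14156) i)) (Nat.ble (nat_lit 14152) i)) (@Bool.rec (fun _ => ℕ) (@Bool.rec (fun _ => ℕ) (@Bool.rec (fun _ => ℕ) (@Bool.rec (fun _ => ℕ) rb14160 rb14161 (Nat.ble (nat_lit 14161) i)) (@Bool.rec (fun _ => ℕ) rb14162 rb14163 (Nat.ble (nat_lit 14163) i)) (Nat.ble (nat_lit 14162) i)) (@Bool.rec (fun _ => ℕ) (@Bool.rec (fun _ => ℕ) rb14164 rb14165 (Nat.ble (nat_lit 14165) i)) (@Bool.rec (fun _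 => ℕ) rb14166 rb14167 (Nat.ble (nat_lit 14167) i)) (Nat.ble (nat_lit 14166) i)) (Nat.ble (nat_lit 14164) i)) (@Bool.rec (fun _ => ℕ) (@Bool.rec (fun _ => ℕ) (@Bool.rec (fun _ => ℕ) rb14168 rb14169 (Nat.ble (nat_lit 14169) i)) (@Bool.rec (fun _ => ℕ) rb14170 rb14171 (Nat.ble (nat_lit 14171) i)) (Nat.ble (nat_lit 14170) i)) (@Bool.rec (fun _ => ℕ) (@Bool.rec (fun _ => ℕ) rb14172 rb14173 (Nat.ble (nat_lit 14173) i)) (@Bool.rec (fun _ => ℕ) rb14174 rb14175 (Nat.ble (nat_lit 14175) i)) (Nat.ble (nat_lit 14174) i)) (Nat.ble (nat_lit 14172) i)) (Nat.ble (nat_lit 14168) i)) (Nat.ble (nat_lit 14160) i))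

def rowBlk_n0_443 (i : ℕ) : ℕ := (@Bool.rec (fun _ => ℕ) (@Bool.rec (fun _ => ℕ) (@Bool.rec (fun _ => ℕ) (@Bool.rec (fun _ => ℕ) (@Bool.rec (fun _ => ℕ) rb14176 rb14177 (Nat.ble (nat_lit 14177) i)) (@Bool.rec (fun _ => ℕ) rb14178 rb14179 (Nat.ble (nat_lit 14179) i)) (Nat.ble (nat_lit 14178) i)) (@Bool.rec (fun _ => ℕ) (@Bool.rec (fun _ => ℕ) rb14180 rb14181 (Nat.ble (nat_lit 14181) i)) (@Bool.rec (fun _ => ℕ) rb14182 rb14183 (Nat.ble (nat_lit 14183) i)) (Nat.ble (nat_lit 14182) i)) (Nat.ble (nat_lit 14180) i)) (@Bool.rec (fun _ => ℕ) (@Bool.rec (fun _ => ℕ) (@Bool.rec (fun _ => ℕ) rb14184 rb14185 (Nat.ble (nat_lit 14185) i)) (@Bool.rec (fun _ => ℕ) rb14186 rb14187 (Nat.ble (nat_lit 14187) i)) (Nat.ble (nat_lit 14186) i)) (@Bool.rec (fun _ => ℕ) (@Bool.rec (fun _ => ℕ) rb14188 rb14189 (Nat.ble (nat_lit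 14189) i)) (@Bool.rec (fun _ => ℕ) rb14190 rb14191 (Nat.ble (nat_lit 14191) i)) (Nat.ble (nat_lit 14190) i)) (Nat.ble (nat_lit 14188) i)) (Nat.ble (nat_lit 14184) i)) (@Bool.rec (fun _ => ℕ) (@Bool.rec (fun _ => ℕ) (@Bool.rec (fun _ => ℕ) (@Bool.rec (fun _ => ℕ) rb14192 rb14193 (Nat.ble (nat_lit 14193) i)) (@Bool.rec (fun _ => ℕ) rb14194 rb14195 (Nat.ble (nat_lit 14195) i)) (Nat.ble (nat_lit 14194) i)) (@Bool.rec (fun _ => ℕ) (@Bool.rec (fun _ => ℕ) rb14196 rb14197 (Nat.ble (nat_lit 14197) i)) (@Bool.rec (fun _ => ℕ) rb14198 rb14199 (Nat.ble (nat_lit 14199) i)) (Nat.ble (nat_lit 14198) i)) (Nat.ble (nat_lit 14196) i)) (@Bool.rec (fun _ => ℕ) (@Bool.rec (fun _ => ℕ) (@Bool.rec (fun _ => ℕ) rb14200 rb14201 (Nat.ble (nat_lit 14201) i)) (@Bool.rec (fun _ => ℕ) rb14202 rb14203 (Nat.ble (nat_lit 14203) i)) (Nat.ble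 (nat_lit 14202) i)) (@Bool.rec (fun _ => ℕ) (@Bool.rec (fun _ => ℕ) rb14204 rb14205 (Nat.ble (nat_lit 14205) i)) (@Bool.rec (fun _ => ℕ) rb14206 rb14207 (Nat.ble (nat_lit 14207) i)) (Nat.ble (nat_lit 14206) i)) (Nat.ble (nat_lit 14204) i)) (Nat.ble (nat_lit 14200) i)) (Nat.ble (nat_lit 14192) i))

def rowBlk_n0_444 (i : ℕ) : ℕ := (@Bool.rec (fun _ => ℕ) (@Bool.rec (fun _ => ℕ) (@Bool.rec (fun _ => ℕ) (@Bool.rec (fun _ => ℕ) (@Bool.rec (fun _ => ℕ) rb14208 rb14209 (Nat.ble (nat_lit 14209) i)) (@Bool.rec (fun _ => ℕ) rb14210 rb14211 (Nat.ble (nat_lit 14211) i)) (Nat.ble (nat_lit 14210) i)) (@Bool.rec (fun _ => ℕ) (@Bool.rec (fun _ => ℕ) rb14212 rb14213 (Nat.ble (nat_lit 14213) i)) (@Bool.rec (fun _ => ℕ) rb14214 rb14215 (Nat.ble (nat_lit 14215) i)) (Nat.ble (nat_lit 14214) i)) (Nat.ble (nat_lit 14212) i))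 (@Bool.rec (fun _ => ℕ) (@Bool.rec (fun _ => ℕ) (@Bool.rec (fun _ => ℕ) rb14216 rb14217 (Nat.ble (nat_lit 14217) i)) (@Bool.rec (fun _ => ℕ) rb14218 rb14219 (Nat.ble (nat_lit 14219) i)) (Nat.ble (nat_lit 14218) i)) (@Bool.rec (fun _ => ℕ) (@Bool.rec (fun _ => ℕ) rb14220 rb14221 (Nat.ble (nat_lit 14221) i)) (@Bool.rec (fun _ => ℕ) rb14222 rb14223 (Nat.ble (nat_lit 14223) i)) (Nat.ble (nat_lit 14222) i)) (Nat.ble (nat_lit 14220) i)) (Nat.ble (nat_lit 14216) i)) (@Bool.rec (fun _ => ℕ) (@Bool.rec (fun _ => ℕ) (@Bool.rec (fun _ => ℕ) (@Bool.rec (fun _ => ℕ) rb14224 rb14225 (Nat.ble (nat_lit 14225) i)) (@Bool.rec (fun _ => ℕ) rb14226 rb14227 (Nat.ble (nat_lit 14227) i)) (Nat.ble (nat_lit 14226) i)) (@Bool.rec (fun _ => ℕ) (@Bool.rec (fun _ => ℕ) rb14228 rb14229 (Nat.ble (nat_lit 14229) i)) (@Bool.rec (fun _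 => ℕ) rb14230 rb14231 (Nat.ble (nat_lit 14231) i)) (Nat.ble (nat_lit 14230) i)) (Nat.ble (nat_lit 14228) i)) (@Bool.rec (fun _ => ℕ) (@Bool.rec (fun _ => ℕ) (@Bool.rec (fun _ => ℕ) rb14232 rb14233 (Nat.ble (nat_lit 14233) i)) (@Bool.rec (fun _ => ℕ) rb14234 rb14235 (Nat.ble (nat_lit 14235) i)) (Nat.ble (nat_lit 14234) i)) (@Bool.rec (fun _ => ℕ) (@Bool.rec (fun _ => ℕ) rb14236 rb14237 (Nat.ble (nat_lit 14237) i)) (@Bool.rec (fun _ => ℕ) rb14238 rb14239 (Nat.ble (nat_lit 14239) i)) (Nat.ble (nat_lit 14238) i)) (Nat.ble (nat_lit 14236) i)) (Nat.ble (nat_lit 14232) i)) (Nat.ble (nat_lit 14224) i))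

def rowBlk_n0_445 (i : ℕ) : ℕ := (@Bool.rec (fun _ => ℕ) (@Bool.rec (fun _ => ℕ) (@Bool.rec (fun _ => ℕ) (@Bool.rec (fun _ => ℕ) (@Bool.rec (fun _ => ℕ) rb14240 rb14241 (Nat.ble (nat_lit 14241) i)) (@Bool.rec (fun _ => ℕ) rb14242 rb14243 (Nat.ble (nat_lit 14243) i)) (Nat.ble (nat_lit 14242) i)) (@Bool.rec (fun _ => ℕ) (@Bool.rec (fun _ => ℕ) rb14244 rb14245 (Nat.ble (nat_lit 14245) i)) (@Bool.rec (fun _ => ℕ) rb14246 rb14247 (Nat.ble (nat_lit 14247) i)) (Nat.ble (nat_lit 14246) i)) (Nat.ble (nat_lit 14244) i)) (@Bool.rec (fun _ => ℕ) (@Bool.rec (fun _ => ℕ) (@Bool.rec (fun _ => ℕ) rb14248 rb14249 (Nat.ble (nat_lit 14249) i)) (@Bool.rec (fun _ => ℕ) rb14250 rb14251 (Nat.ble (nat_lit 14251) i)) (Nat.ble (nat_lit 14250) i)) (@Bool.rec (fun _ => ℕ) (@Bool.rec (fun _ => ℕ) rb14252 rb14253 (Nat.ble (nat_lit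 14253) i)) (@Bool.rec (fun _ => ℕ) rb14254 rb14255 (Nat.ble (nat_lit 14255) i)) (Nat.ble (nat_lit 14254) i)) (Nat.ble (nat_lit 14252) i)) (Nat.ble (nat_lit 14248) i)) (@Bool.rec (fun _ => ℕ) (@Bool.rec (fun _ => ℕ) (@Bool.rec (fun _ => ℕ) (@Bool.rec (fun _ => ℕ) rb14256 rb14257 (Nat.ble (nat_lit 14257) i)) (@Bool.rec (fun _ => ℕ) rb14258 rb14259 (Nat.ble (nat_lit 14259) i)) (Nat.ble (nat_lit 14258) i)) (@Bool.rec (fun _ => ℕ) (@Bool.rec (fun _ => ℕ) rb14260 rb14261 (Nat.ble (nat_lit 14261) i)) (@Bool.rec (fun _ => ℕ) rb14262 rb14263 (Nat.ble (nat_lit 14263) i)) (Nat.ble (nat_lit 14262) i)) (Nat.ble (nat_lit 14260) i)) (@Bool.rec (fun _ => ℕ) (@Bool.rec (fun _ => ℕ) (@Bool.rec (fun _ => ℕ) rb14264 rb14265 (Nat.ble (nat_lit 14265) i)) (@Bool.rec (fun _ => ℕ) rb14266 rb14267 (Nat.ble (nat_lit 14267) i)) (Nat.ble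 (nat_lit 14266) i)) (@Bool.rec (fun _ => ℕ) (@Bool.rec (fun _ => ℕ) rb14268 rb14269 (Nat.ble (nat_lit 14269) i)) (@Bool.rec (fun _ => ℕ) rb14270 rb14271 (Nat.ble (nat_lit 14271) i)) (Nat.ble (nat_lit 14270) i)) (Nat.ble (nat_lit 14268) i)) (Nat.ble (nat_lit 14264) i)) (Nat.ble (nat_lit 14256) i))

def rowBlk_n0_446 (i : ℕ) : ℕ := (@Bool.rec (fun _ => ℕ) (@Bool.rec (fun _ => ℕ) (@Bool.rec (fun _ => ℕ) (@Bool.rec (fun _ => ℕ) (@Bool.rec (fun _ => ℕ) rb14272 rb14273 (Nat.ble (nat_lit 14273) i)) (@Bool.rec (fun _ => ℕ) rb14274 rb14275 (Nat.ble (nat_lit 14275) i)) (Nat.ble (nat_lit 14274) i)) (@Bool.rec (fun _ => ℕ) (@Bool.rec (fun _ => ℕ) rb14276 rb14277 (Nat.ble (nat_lit 14277) i)) (@Bool.rec (fun _ => ℕ) rb14278 rb14279 (Nat.ble (nat_lit 14279) i)) (Nat.ble (nat_lit 14278) i)) (Nat.ble (nat_lit 14276) i))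 (@Bool.rec (fun _ => ℕ) (@Bool.rec (fun _ => ℕ) (@Bool.rec (fun _ => ℕ) rb14280 rb14281 (Nat.ble (nat_lit 14281) i)) (@Bool.rec (fun _ => ℕ) rb14282 rb14283 (Nat.ble (nat_lit 14283) i)) (Nat.ble (nat_lit 14282) i)) (@Bool.rec (fun _ => ℕ) (@Bool.rec (fun _ => ℕ) rb14284 rb14285 (Nat.ble (nat_lit 14285) i)) (@Bool.rec (fun _ => ℕ) rb14286 rb14287 (Nat.ble (nat_lit 14287) i)) (Nat.ble (nat_lit 14286) i)) (Nat.ble (nat_lit 14284) i)) (Nat.ble (nat_lit 14280) i)) (@Bool.rec (fun _ => ℕ) (@Bool.rec (fun _ => ℕ) (@Bool.rec (fun _ => ℕ) (@Bool.rec (fun _ => ℕ) rb14288 rb14289 (Nat.ble (nat_lit 14289) i)) (@Bool.rec (fun _ => ℕ) rb14290 rb14291 (Nat.ble (nat_lit 14291) i)) (Nat.ble (nat_lit 14290) i)) (@Bool.rec (fun _ => ℕ) (@Bool.rec (fun _ => ℕ) rb14292 rb14293 (Nat.ble (nat_lit 14293) i)) (@Bool.rec (fun _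 => ℕ) rb14294 rb14295 (Nat.ble (nat_lit 14295) i)) (Nat.ble (nat_lit 14294) i)) (Nat.ble (nat_lit 14292) i)) (@Bool.rec (fun _ => ℕ) (@Bool.rec (fun _ => ℕ) (@Bool.rec (fun _ => ℕ) rb14296 rb14297 (Nat.ble (nat_lit 14297) i)) (@Bool.rec (fun _ => ℕ) rb14298 rb14299 (Nat.ble (nat_lit 14299) i)) (Nat.ble (nat_lit 14298) i)) (@Bool.rec (fun _ => ℕ) (@Bool.rec (fun _ => ℕ) rb14300 rb14301 (Nat.ble (nat_lit 14301) i)) (@Bool.rec (fun _ => ℕ) rb14302 rb14303 (Nat.ble (nat_lit 14303) i)) (Nat.ble (nat_lit 14302) i)) (Nat.ble (nat_lit 14300) i)) (Nat.ble (nat_lit 14296) i)) (Nat.ble (nat_lit 14288) i))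

def rowBlk_n0_447 (i : ℕ) : ℕ := (@Bool.rec (fun _ => ℕ) (@Bool.rec (fun _ => ℕ) (@Bool.rec (fun _ => ℕ) (@Bool.rec (fun _ => ℕ) (@Bool.rec (fun _ => ℕ) rb14304 rb14305 (Nat.ble (nat_lit 14305) i)) (@Bool.rec (fun _ => ℕ) rb14306 rb14307 (Nat.ble (nat_lit 14307) i)) (Nat.ble (nat_lit 14306) i)) (@Bool.rec (fun _ => ℕ) (@Bool.rec (fun _ => ℕ) rb14308 rb14309 (Nat.ble (nat_lit 14309) i)) (@Bool.rec (fun _ => ℕ) rb14310 rb14311 (Nat.ble (nat_lit 14311) i)) (Nat.ble (nat_lit 14310) i)) (Nat.ble (nat_lit 14308) i)) (@Bool.rec (fun _ => ℕ) (@Bool.rec (fun _ => ℕ) (@Bool.rec (fun _ => ℕ) rb14312 rb14313 (Nat.ble (nat_lit 14313) i)) (@Bool.rec (fun _ => ℕ) rb14314 rb14315 (Nat.ble (nat_lit 14315) i)) (Nat.ble (nat_lit 14314) i)) (@Bool.rec (fun _ => ℕ) (@Bool.rec (fun _ => ℕ) rb14316 rb14317 (Nat.ble (nat_lit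 14317) i)) (@Bool.rec (fun _ => ℕ) rb14318 rb14319 (Nat.ble (nat_lit 14319) i)) (Nat.ble (nat_lit 14318) i)) (Nat.ble (nat_lit 14316) i)) (Nat.ble (nat_lit 14312) i)) (@Bool.rec (fun _ => ℕ) (@Bool.rec (fun _ => ℕ) (@Bool.rec (fun _ => ℕ) (@Bool.rec (fun _ => ℕ) rb14320 rb14321 (Nat.ble (nat_lit 14321) i)) (@Bool.rec (fun _ => ℕ) rb14322 rb14323 (Nat.ble (nat_lit 14323) i)) (Nat.ble (nat_lit 14322) i)) (@Bool.rec (fun _ => ℕ) (@Bool.rec (fun _ => ℕ) rb14324 rb14325 (Nat.ble (nat_lit 14325) i)) (@Bool.rec (fun _ => ℕ) rb14326 rb14327 (Nat.ble (nat_lit 14327) i)) (Nat.ble (nat_lit 14326) i)) (Nat.ble (nat_lit 14324) i)) (@Bool.rec (fun _ => ℕ) (@Bool.rec (fun _ => ℕ) (@Bool.rec (fun _ => ℕ) rb14328 rb14329 (Nat.ble (nat_lit 14329) i)) (@Bool.rec (fun _ => ℕ) rb14330 rb14331 (Nat.ble (nat_lit 14331) i)) (Nat.ble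 (nat_lit 14330) i)) (@Bool.rec (fun _ => ℕ) (@Bool.rec (fun _ => ℕ) rb14332 rb14333 (Nat.ble (nat_lit 14333) i)) (@Bool.rec (fun _ => ℕ) rb14334 rb14335 (Nat.ble (nat_lit 14335) i)) (Nat.ble (nat_lit 14334) i)) (Nat.ble (nat_lit 14332) i)) (Nat.ble (nat_lit 14328) i)) (Nat.ble (nat_lit 14320) i))

def rowBlk_n0_448 (i : ℕ) : ℕ := (@Bool.rec (fun _ => ℕ) (@Bool.rec (fun _ => ℕ) (@Bool.rec (fun _ => ℕ) (@Bool.rec (fun _ => ℕ) (@Bool.rec (fun _ => ℕ) rb14336 rb14337 (Nat.ble (nat_lit 14337) i)) (@Bool.rec (fun _ => ℕ) rb14338 rb14339 (Nat.ble (nat_lit 14339) i)) (Nat.ble (nat_lit 14338) i)) (@Bool.rec (fun _ => ℕ) (@Bool.rec (fun _ => ℕ) rb14340 rb14341 (Nat.ble (nat_lit 14341) i)) (@Bool.rec (fun _ => ℕ) rb14342 rb14343 (Nat.ble (nat_lit 14343) i)) (Nat.ble (nat_lit 14342) i)) (Nat.ble (nat_lit 14340) i))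 (@Bool.rec (fun _ => ℕ) (@Bool.rec (fun _ => ℕ) (@Bool.rec (fun _ => ℕ) rb14344 rb14345 (Nat.ble (nat_lit 14345) i)) (@Bool.rec (fun _ => ℕ) rb14346 rb14347 (Nat.ble (nat_lit 14347) i)) (Nat.ble (nat_lit 14346) i)) (@Bool.rec (fun _ => ℕ) (@Bool.rec (fun _ => ℕ) rb14348 rb14349 (Nat.ble (nat_lit 14349) i)) (@Bool.rec (fun _ => ℕ) rb14350 rb14351 (Nat.ble (nat_lit 14351) i)) (Nat.ble (nat_lit 14350) i)) (Nat.ble (nat_lit 14348) i)) (Nat.ble (nat_lit 14344) i)) (@Bool.rec (fun _ => ℕ) (@Bool.rec (fun _ => ℕ) (@Bool.rec (fun _ => ℕ) (@Bool.rec (fun _ => ℕ) rb14352 rb14353 (Nat.ble (nat_lit 14353) i)) (@Bool.rec (fun _ => ℕ) rb14354 rb14355 (Nat.ble (nat_lit 14355) i)) (Nat.ble (nat_lit 14354) i)) (@Bool.rec (fun _ => ℕ) (@Bool.rec (fun _ => ℕ) rb14356 rb14357 (Nat.ble (nat_lit 14357) i)) (@Bool.rec (fun _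 => ℕ) rb14358 rb14359 (Nat.ble (nat_lit 14359) i)) (Nat.ble (nat_lit 14358) i)) (Nat.ble (nat_lit 14356) i)) (@Bool.rec (fun _ => ℕ) (@Bool.rec (fun _ => ℕ) (@Bool.rec (fun _ => ℕ) rb14360 rb14361 (Nat.ble (nat_lit 14361) i)) (@Bool.rec (fun _ => ℕ) rb14362 rb14363 (Nat.ble (nat_lit 14363) i)) (Nat.ble (nat_lit 14362) i)) (@Bool.rec (fun _ => ℕ) (@Bool.rec (fun _ => ℕ) rb14364 rb14365 (Nat.ble (nat_lit 14365) i)) (@Bool.rec (fun _ => ℕ) rb14366 rb14367 (Nat.ble (nat_lit 14367) i)) (Nat.ble (nat_lit 14366) i)) (Nat.ble (nat_lit 14364) i)) (Nat.ble (nat_lit 14360) i)) (Nat.ble (nat_lit 14352) i))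

def rowBlk_n0_449 (i : ℕ) : ℕ := (@Bool.rec (fun _ => ℕ) (@Bool.rec (fun _ => ℕ) (@Bool.rec (fun _ => ℕ) (@Bool.rec (fun _ => ℕ) (@Bool.rec (fun _ => ℕ) rb14368 rb14369 (Nat.ble (nat_lit 14369) i)) (@Bool.rec (fun _ => ℕ) rb14370 rb14371 (Nat.ble (nat_lit 14371) i)) (Nat.ble (nat_lit 14370) i)) (@Bool.rec (fun _ => ℕ) (@Bool.rec (fun _ => ℕ) rb14372 rb14373 (Nat.ble (nat_lit 14373) i)) (@Bool.rec (fun _ => ℕ) rb14374 rb14375 (Nat.ble (nat_lit 14375) i)) (Nat.ble (nat_lit 14374) i)) (Nat.ble (nat_lit 14372) i)) (@Bool.rec (fun _ => ℕ) (@Bool.rec (fun _ => ℕ) (@Bool.rec (fun _ => ℕ) rb14376 rb14377 (Nat.ble (nat_lit 14377) i)) (@Bool.rec (fun _ => ℕ) rb14378 rb14379 (Nat.ble (nat_lit 14379) i)) (Nat.ble (nat_lit 14378) i)) (@Bool.rec (fun _ => ℕ) (@Bool.rec (fun _ => ℕ) rb14380 rb14381 (Nat.ble (nat_lit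 14381) i)) (@Bool.rec (fun _ => ℕ) rb14382 rb14383 (Nat.ble (nat_lit 14383) i)) (Nat.ble (nat_lit 14382) i)) (Nat.ble (nat_lit 14380) i)) (Nat.ble (nat_lit 14376) i)) (@Bool.rec (fun _ => ℕ) (@Bool.rec (fun _ => ℕ) (@Bool.rec (fun _ => ℕ) (@Bool.rec (fun _ => ℕ) rb14384 rb14385 (Nat.ble (nat_lit 14385) i)) (@Bool.rec (fun _ => ℕ) rb14386 rb14387 (Nat.ble (nat_lit 14387) i)) (Nat.ble (nat_lit 14386) i)) (@Bool.rec (fun _ => ℕ) (@Bool.rec (fun _ => ℕ) rb14388 rb14389 (Nat.ble (nat_lit 14389) i)) (@Bool.rec (fun _ => ℕ) rb14390 rb14391 (Nat.ble (nat_lit 14391) i)) (Nat.ble (nat_lit 14390) i)) (Nat.ble (nat_lit 14388) i)) (@Bool.rec (fun _ => ℕ) (@Bool.rec (fun _ => ℕ) (@Bool.rec (fun _ => ℕ) rb14392 rb14393 (Nat.ble (nat_lit 14393) i)) (@Bool.rec (fun _ => ℕ) rb14394 rb14395 (Nat.ble (nat_lit 14395) i)) (Nat.ble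 (nat_lit 14394) i)) (@Bool.rec (fun _ => ℕ) (@Bool.rec (fun _ => ℕ) rb14396 rb14397 (Nat.ble (nat_lit 14397) i)) (@Bool.rec (fun _ => ℕ) rb14398 rb14399 (Nat.ble (nat_lit 14399) i)) (Nat.ble (nat_lit 14398) i)) (Nat.ble (nat_lit 14396) i)) (Nat.ble (nat_lit 14392) i)) (Nat.ble (nat_lit 14384) i))

def rowBlk_n0_450 (i : ℕ) : ℕ := (@Bool.rec (fun _ => ℕ) (@Bool.rec (fun _ => ℕ) (@Bool.rec (fun _ => ℕ) (@Bool.rec (fun _ => ℕ) (@Bool.rec (fun _ => ℕ) rb14400 rb14401 (Nat.ble (nat_lit 14401) i)) (@Bool.rec (fun _ => ℕ) rb14402 rb14403 (Nat.ble (nat_lit 14403) i)) (Nat.ble (nat_lit 14402) i)) (@Bool.rec (fun _ => ℕ) (@Bool.rec (fun _ => ℕ) rb14404 rb14405 (Nat.ble (nat_lit 14405) i)) (@Bool.rec (fun _ => ℕ) rb14406 rb14407 (Nat.ble (nat_lit 14407) i)) (Nat.ble (nat_lit 14406) i)) (Nat.ble (nat_lit 14404) i))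 (@Bool.rec (fun _ => ℕ) (@Bool.rec (fun _ => ℕ) (@Bool.rec (fun _ => ℕ) rb14408 rb14409 (Nat.ble (nat_lit 14409) i)) (@Bool.rec (fun _ => ℕ) rb14410 rb14411 (Nat.ble (nat_lit 14411) i)) (Nat.ble (nat_lit 14410) i)) (@Bool.rec (fun _ => ℕ) (@Bool.rec (fun _ => ℕ) rb14412 rb14413 (Nat.ble (nat_lit 14413) i)) (@Bool.rec (fun _ => ℕ) rb14414 rb14415 (Nat.ble (nat_lit 14415) i)) (Nat.ble (nat_lit 14414) i)) (Nat.ble (nat_lit 14412) i)) (Nat.ble (nat_lit 14408) i)) (@Bool.rec (fun _ => ℕ) (@Bool.rec (fun _ => ℕ) (@Bool.rec (fun _ => ℕ) (@Bool.rec (fun _ => ℕ) rb14416 rb14417 (Nat.ble (nat_lit 14417) i)) (@Bool.rec (fun _ => ℕ) rb14418 rb14419 (Nat.ble (nat_lit 14419) i)) (Nat.ble (nat_lit 14418) i)) (@Bool.rec (fun _ => ℕ) (@Bool.rec (fun _ => ℕ) rb14420 rb14421 (Nat.ble (nat_lit 14421) i)) (@Bool.rec (fun _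 => ℕ) rb14422 rb14423 (Nat.ble (nat_lit 14423) i)) (Nat.ble (nat_lit 14422) i)) (Nat.ble (nat_lit 14420) i)) (@Bool.rec (fun _ => ℕ) (@Bool.rec (fun _ => ℕ) (@Bool.rec (fun _ => ℕ) rb14424 rb14425 (Nat.ble (nat_lit 14425) i)) (@Bool.rec (fun _ => ℕ) rb14426 rb14427 (Nat.ble (nat_lit 14427) i)) (Nat.ble (nat_lit 14426) i)) (@Bool.rec (fun _ => ℕ) (@Bool.rec (fun _ => ℕ) rb14428 rb14429 (Nat.ble (nat_lit 14429) i)) (@Bool.rec (fun _ => ℕ) rb14430 rb14431 (Nat.ble (nat_lit 14431) i)) (Nat.ble (nat_lit 14430) i)) (Nat.ble (nat_lit 14428) i)) (Nat.ble (nat_lit 14424) i)) (Nat.ble (nat_lit 14416) i))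

def rowBlk_n0_451 (i : ℕ) : ℕ := (@Bool.rec (fun _ => ℕ) (@Bool.rec (fun _ => ℕ) (@Bool.rec (fun _ => ℕ) (@Bool.rec (fun _ => ℕ) (@Bool.rec (fun _ => ℕ) rb14432 rb14433 (Nat.ble (nat_lit 14433) i)) (@Bool.rec (fun _ => ℕ) rb14434 rb14435 (Nat.ble (nat_lit 14435) i)) (Nat.ble (nat_lit 14434) i)) (@Bool.rec (fun _ => ℕ) (@Bool.rec (fun _ => ℕ) rb14436 rb14437 (Nat.ble (nat_lit 14437) i)) (@Bool.rec (fun _ => ℕ) rb14438 rb14439 (Nat.ble (nat_lit 14439) i)) (Nat.ble (nat_lit 14438) i)) (Nat.ble (nat_lit 14436) i)) (@Bool.rec (fun _ => ℕ) (@Bool.rec (fun _ => ℕ) (@Bool.rec (fun _ => ℕ) rb14440 rb14441 (Nat.ble (nat_lit 14441) i)) (@Bool.rec (fun _ => ℕ) rb14442 rb14443 (Nat.ble (nat_lit 14443) i)) (Nat.ble (nat_lit 14442) i)) (@Bool.rec (fun _ => ℕ) (@Bool.rec (fun _ => ℕ) rb14444 rb14445 (Nat.ble (nat_lit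 14445) i)) (@Bool.rec (fun _ => ℕ) rb14446 rb14447 (Nat.ble (nat_lit 14447) i)) (Nat.ble (nat_lit 14446) i)) (Nat.ble (nat_lit 14444) i)) (Nat.ble (nat_lit 14440) i)) (@Bool.rec (fun _ => ℕ) (@Bool.rec (fun _ => ℕ) (@Bool.rec (fun _ => ℕ) (@Bool.rec (fun _ => ℕ) rb14448 rb14449 (Nat.ble (nat_lit 14449) i)) (@Bool.rec (fun _ => ℕ) rb14450 rb14451 (Nat.ble (nat_lit 14451) i)) (Nat.ble (nat_lit 14450) i)) (@Bool.rec (fun _ => ℕ) (@Bool.rec (fun _ => ℕ) rb14452 rb14453 (Nat.ble (nat_lit 14453) i)) (@Bool.rec (fun _ => ℕ) rb14454 rb14455 (Nat.ble (nat_lit 14455) i)) (Nat.ble (nat_lit 14454) i)) (Nat.ble (nat_lit 14452) i)) (@Bool.rec (fun _ => ℕ) (@Bool.rec (fun _ => ℕ) (@Bool.rec (fun _ => ℕ) rb14456 rb14457 (Nat.ble (nat_lit 14457) i)) (@Bool.rec (fun _ => ℕ) rb14458 rb14459 (Nat.ble (nat_lit 14459) i)) (Nat.ble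 (nat_lit 14458) i)) (@Bool.rec (fun _ => ℕ) (@Bool.rec (fun _ => ℕ) rb14460 rb14461 (Nat.ble (nat_lit 14461) i)) (@Bool.rec (fun _ => ℕ) rb14462 rb14463 (Nat.ble (nat_lit 14463) i)) (Nat.ble (nat_lit 14462) i)) (Nat.ble (nat_lit 14460) i)) (Nat.ble (nat_lit 14456) i)) (Nat.ble (nat_lit 14448) i))

def rowBlk_n0_452 (i : ℕ) : ℕ := (@Bool.rec (fun _ => ℕ) (@Bool.rec (fun _ => ℕ) (@Bool.rec (fun _ => ℕ) (@Bool.rec (fun _ => ℕ) (@Bool.rec (fun _ => ℕ) rb14464 rb14465 (Nat.ble (nat_lit 14465) i)) (@Bool.rec (fun _ => ℕ) rb14466 rb14467 (Nat.ble (nat_lit 14467) i)) (Nat.ble (nat_lit 14466) i)) (@Bool.rec (fun _ => ℕ) (@Bool.rec (fun _ => ℕ) rb14468 rb14469 (Nat.ble (nat_lit 14469) i)) (@Bool.rec (fun _ => ℕ) rb14470 rb14471 (Nat.ble (nat_lit 14471) i)) (Nat.ble (nat_lit 14470) i)) (Nat.ble (nat_lit 14468) i))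 (@Bool.rec (fun _ => ℕ) (@Bool.rec (fun _ => ℕ) (@Bool.rec (fun _ => ℕ) rb14472 rb14473 (Nat.ble (nat_lit 14473) i)) (@Bool.rec (fun _ => ℕ) rb14474 rb14475 (Nat.ble (nat_lit 14475) i)) (Nat.ble (nat_lit 14474) i)) (@Bool.rec (fun _ => ℕ) (@Bool.rec (fun _ => ℕ) rb14476 rb14477 (Nat.ble (nat_lit 14477) i)) (@Bool.rec (fun _ => ℕ) rb14478 rb14479 (Nat.ble (nat_lit 14479) i)) (Nat.ble (nat_lit 14478) i)) (Nat.ble (nat_lit 14476) i)) (Nat.ble (nat_lit 14472) i)) (@Bool.rec (fun _ => ℕ) (@Bool.rec (fun _ => ℕ) (@Bool.rec (fun _ => ℕ) (@Bool.rec (fun _ => ℕ) rb14480 rb14481 (Nat.ble (nat_lit 14481) i)) (@Bool.rec (fun _ => ℕ) rb14482 rb14483 (Nat.ble (nat_lit 14483) i)) (Nat.ble (nat_lit 14482) i)) (@Bool.rec (fun _ => ℕ) (@Bool.rec (fun _ => ℕ) rb14484 rb14485 (Nat.ble (nat_lit 14485) i)) (@Bool.rec (fun _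 => ℕ) rb14486 rb14487 (Nat.ble (nat_lit 14487) i)) (Nat.ble (nat_lit 14486) i)) (Nat.ble (nat_lit 14484) i)) (@Bool.rec (fun _ => ℕ) (@Bool.rec (fun _ => ℕ) (@Bool.rec (fun _ => ℕ) rb14488 rb14489 (Nat.ble (nat_lit 14489) i)) (@Bool.rec (fun _ => ℕ) rb14490 rb14491 (Nat.ble (nat_lit 14491) i)) (Nat.ble (nat_lit 14490) i)) (@Bool.rec (fun _ => ℕ) (@Bool.rec (fun _ => ℕ) rb14492 rb14493 (Nat.ble (nat_lit 14493) i)) (@Bool.rec (fun _ => ℕ) rb14494 rb14495 (Nat.ble (nat_lit 14495) i)) (Nat.ble (nat_lit 14494) i)) (Nat.ble (nat_lit 14492) i)) (Nat.ble (nat_lit 14488) i)) (Nat.ble (nat_lit 14480) i))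

def rowBlk_n0_453 (i : ℕ) : ℕ := (@Bool.rec (fun _ => ℕ) (@Bool.rec (fun _ => ℕ) (@Bool.rec (fun _ => ℕ) (@Bool.rec (fun _ => ℕ) (@Bool.rec (fun _ => ℕ) rb14496 rb14497 (Nat.ble (nat_lit 14497) i)) (@Bool.rec (fun _ => ℕ) rb14498 rb14499 (Nat.ble (nat_lit 14499) i)) (Nat.ble (nat_lit 14498) i)) (@Bool.rec (fun _ => ℕ) (@Bool.rec (fun _ => ℕ) rb14500 rb14501 (Nat.ble (nat_lit 14501) i)) (@Bool.rec (fun _ => ℕ) rb14502 rb14503 (Nat.ble (nat_lit 14503) i)) (Nat.ble (nat_lit 14502) i)) (Nat.ble (nat_lit 14500) i)) (@Bool.rec (fun _ => ℕ) (@Bool.rec (fun _ => ℕ) (@Bool.rec (fun _ => ℕ) rb14504 rb14505 (Nat.ble (nat_lit 14505) i)) (@Bool.rec (fun _ => ℕ) rb14506 rb14507 (Nat.ble (nat_lit 14507) i)) (Nat.ble (nat_lit 14506) i)) (@Bool.rec (fun _ => ℕ) (@Bool.rec (fun _ => ℕ) rb14508 rb14509 (Nat.ble (nat_lit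 14509) i)) (@Bool.rec (fun _ => ℕ) rb14510 rb14511 (Nat.ble (nat_lit 14511) i)) (Nat.ble (nat_lit 14510) i)) (Nat.ble (nat_lit 14508) i)) (Nat.ble (nat_lit 14504) i)) (@Bool.rec (fun _ => ℕ) (@Bool.rec (fun _ => ℕ) (@Bool.rec (fun _ => ℕ) (@Bool.rec (fun _ => ℕ) rb14512 rb14513 (Nat.ble (nat_lit 14513) i)) (@Bool.rec (fun _ => ℕ) rb14514 rb14515 (Nat.ble (nat_lit 14515) i)) (Nat.ble (nat_lit 14514) i)) (@Bool.rec (fun _ => ℕ) (@Bool.rec (fun _ => ℕ) rb14516 rb14517 (Nat.ble (nat_lit 14517) i)) (@Bool.rec (fun _ => ℕ) rb14518 rb14519 (Nat.ble (nat_lit 14519) i)) (Nat.ble (nat_lit 14518) i)) (Nat.ble (nat_lit 14516) i)) (@Bool.rec (fun _ => ℕ) (@Bool.rec (fun _ => ℕ) (@Bool.rec (fun _ => ℕ) rb14520 rb14521 (Nat.ble (nat_lit 14521) i)) (@Bool.rec (fun _ => ℕ) rb14522 rb14523 (Nat.ble (nat_lit 14523) i)) (Nat.ble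 (nat_lit 14522) i)) (@Bool.rec (fun _ => ℕ) (@Bool.rec (fun _ => ℕ) rb14524 rb14525 (Nat.ble (nat_lit 14525) i)) (@Bool.rec (fun _ => ℕ) rb14526 rb14527 (Nat.ble (nat_lit 14527) i)) (Nat.ble (nat_lit 14526) i)) (Nat.ble (nat_lit 14524) i)) (Nat.ble (nat_lit 14520) i)) (Nat.ble (nat_lit 14512) i))

def rowBlk_n0_454 (i : ℕ) : ℕ := (@Bool.rec (fun _ => ℕ) (@Bool.rec (fun _ => ℕ) (@Bool.rec (fun _ => ℕ) (@Bool.rec (fun _ => ℕ) (@Bool.rec (fun _ => ℕ) rb14528 rb14529 (Nat.ble (nat_lit 14529) i)) (@Bool.rec (fun _ => ℕ) rb14530 rb14531 (Nat.ble (nat_lit 14531) i)) (Nat.ble (nat_lit 14530) i)) (@Bool.rec (fun _ => ℕ) (@Bool.rec (fun _ => ℕ) rb14532 rb14533 (Nat.ble (nat_lit 14533) i)) (@Bool.rec (fun _ => ℕ) rb14534 rb14535 (Nat.ble (nat_lit 14535) i)) (Nat.ble (nat_lit 14534) i)) (Nat.ble (nat_lit 14532) i))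 (@Bool.rec (fun _ => ℕ) (@Bool.rec (fun _ => ℕ) (@Bool.rec (fun _ => ℕ) rb14536 rb14537 (Nat.ble (nat_lit 14537) i)) (@Bool.rec (fun _ => ℕ) rb14538 rb14539 (Nat.ble (nat_lit 14539) i)) (Nat.ble (nat_lit 14538) i)) (@Bool.rec (fun _ => ℕ) (@Bool.rec (fun _ => ℕ) rb14540 rb14541 (Nat.ble (nat_lit 14541) i)) (@Bool.rec (fun _ => ℕ) rb14542 rb14543 (Nat.ble (nat_lit 14543) i)) (Nat.ble (nat_lit 14542) i)) (Nat.ble (nat_lit 14540) i)) (Nat.ble (nat_lit 14536) i)) (@Bool.rec (fun _ => ℕ) (@Bool.rec (fun _ => ℕ) (@Bool.rec (fun _ => ℕ) (@Bool.rec (fun _ => ℕ) rb14544 rb14545 (Nat.ble (nat_lit 14545) i)) (@Bool.rec (fun _ => ℕ) rb14546 rb14547 (Nat.ble (nat_lit 14547) i)) (Nat.ble (nat_lit 14546) i)) (@Bool.rec (fun _ => ℕ) (@Bool.rec (fun _ => ℕ) rb14548 rb14549 (Nat.ble (nat_lit 14549) i)) (@Bool.rec (fun _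 => ℕ) rb14550 rb14551 (Nat.ble (nat_lit 14551) i)) (Nat.ble (nat_lit 14550) i)) (Nat.ble (nat_lit 14548) i)) (@Bool.rec (fun _ => ℕ) (@Bool.rec (fun _ => ℕ) (@Bool.rec (fun _ => ℕ) rb14552 rb14553 (Nat.ble (nat_lit 14553) i)) (@Bool.rec (fun _ => ℕ) rb14554 rb14555 (Nat.ble (nat_lit 14555) i)) (Nat.ble (nat_lit 14554) i)) (@Bool.rec (fun _ => ℕ) (@Bool.rec (fun _ => ℕ) rb14556 rb14557 (Nat.ble (nat_lit 14557) i)) (@Bool.rec (fun _ => ℕ) rb14558 rb14559 (Nat.ble (nat_lit 14559) i)) (Nat.ble (nat_lit 14558) i)) (Nat.ble (nat_lit 14556) i)) (Nat.ble (nat_lit 14552) i)) (Nat.ble (nat_lit 14544) i))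

def rowBlk_n0_455 (i : ℕ) : ℕ := (@Bool.rec (fun _ => ℕ) (@Bool.rec (fun _ => ℕ) (@Bool.rec (fun _ => ℕ) (@Bool.rec (fun _ => ℕ) (@Bool.rec (fun _ => ℕ) rb14560 rb14561 (Nat.ble (nat_lit 14561) i)) (@Bool.rec (fun _ => ℕ) rb14562 rb14563 (Nat.ble (nat_lit 14563) i)) (Nat.ble (nat_lit 14562) i)) (@Bool.rec (fun _ => ℕ) (@Bool.rec (fun _ => ℕ) rb14564 rb14565 (Nat.ble (nat_lit 14565) i)) (@Bool.rec (fun _ => ℕ) rb14566 rb14567 (Nat.ble (nat_lit 14567) i)) (Nat.ble (nat_lit 14566) i)) (Nat.ble (nat_lit 14564) i)) (@Bool.rec (fun _ => ℕ) (@Bool.rec (fun _ => ℕ) (@Bool.rec (fun _ => ℕ) rb14568 rb14569 (Nat.ble (nat_lit 14569) i)) (@Bool.rec (fun _ => ℕ) rb14570 rb14571 (Nat.ble (nat_lit 14571) i)) (Nat.ble (nat_lit 14570) i)) (@Bool.rec (fun _ => ℕ) (@Bool.rec (fun _ => ℕ) rb14572 rb14573 (Nat.ble (nat_lit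 14573) i)) (@Bool.rec (fun _ => ℕ) rb14574 rb14575 (Nat.ble (nat_lit 14575) i)) (Nat.ble (nat_lit 14574) i)) (Nat.ble (nat_lit 14572) i)) (Nat.ble (nat_lit 14568) i)) (@Bool.rec (fun _ => ℕ) (@Bool.rec (fun _ => ℕ) (@Bool.rec (fun _ => ℕ) (@Bool.rec (fun _ => ℕ) rb14576 rb14577 (Nat.ble (nat_lit 14577) i)) (@Bool.rec (fun _ => ℕ) rb14578 rb14579 (Nat.ble (nat_lit 14579) i)) (Nat.ble (nat_lit 14578) i)) (@Bool.rec (fun _ => ℕ) (@Bool.rec (fun _ => ℕ) rb14580 rb14581 (Nat.ble (nat_lit 14581) i)) (@Bool.rec (fun _ => ℕ) rb14582 rb14583 (Nat.ble (nat_lit 14583) i)) (Nat.ble (nat_lit 14582) i)) (Nat.ble (nat_lit 14580) i)) (@Bool.rec (fun _ => ℕ) (@Bool.rec (fun _ => ℕ) (@Bool.rec (fun _ => ℕ) rb14584 rb14585 (Nat.ble (nat_lit 14585) i)) (@Bool.rec (fun _ => ℕ) rb14586 rb14587 (Nat.ble (nat_lit 14587) i)) (Nat.ble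 (nat_lit 14586) i)) (@Bool.rec (fun _ => ℕ) (@Bool.rec (fun _ => ℕ) rb14588 rb14589 (Nat.ble (nat_lit 14589) i)) (@Bool.rec (fun _ => ℕ) rb14590 rb14591 (Nat.ble (nat_lit 14591) i)) (Nat.ble (nat_lit 14590) i)) (Nat.ble (nat_lit 14588) i)) (Nat.ble (nat_lit 14584) i)) (Nat.ble (nat_lit 14576) i))

def rowBlk_n0_456 (i : ℕ) : ℕ := (@Bool.rec (fun _ => ℕ) (@Bool.rec (fun _ => ℕ) (@Bool.rec (fun _ => ℕ) (@Bool.rec (fun _ => ℕ) (@Bool.rec (fun _ => ℕ) rb14592 rb14593 (Nat.ble (nat_lit 14593) i)) (@Bool.rec (fun _ => ℕ) rb14594 rb14595 (Nat.ble (nat_lit 14595) i)) (Nat.ble (nat_lit 14594) i)) (@Bool.rec (fun _ => ℕ) (@Bool.rec (fun _ => ℕ) rb14596 rb14597 (Nat.ble (nat_lit 14597) i)) (@Bool.rec (fun _ => ℕ) rb14598 rb14599 (Nat.ble (nat_lit 14599) i)) (Nat.ble (nat_lit 14598) i)) (Nat.ble (nat_lit 14596) i))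 (@Bool.rec (fun _ => ℕ) (@Bool.rec (fun _ => ℕ) (@Bool.rec (fun _ => ℕ) rb14600 rb14601 (Nat.ble (nat_lit 14601) i)) (@Bool.rec (fun _ => ℕ) rb14602 rb14603 (Nat.ble (nat_lit 14603) i)) (Nat.ble (nat_lit 14602) i)) (@Bool.rec (fun _ => ℕ) (@Bool.rec (fun _ => ℕ) rb14604 rb14605 (Nat.ble (nat_lit 14605) i)) (@Bool.rec (fun _ => ℕ) rb14606 rb14607 (Nat.ble (nat_lit 14607) i)) (Nat.ble (nat_lit 14606) i)) (Nat.ble (nat_lit 14604) i)) (Nat.ble (nat_lit 14600) i)) (@Bool.rec (fun _ => ℕ) (@Bool.rec (fun _ => ℕ) (@Bool.rec (fun _ => ℕ) (@Bool.rec (fun _ => ℕ) rb14608 rb14609 (Nat.ble (nat_lit 14609) i)) (@Bool.rec (fun _ => ℕ) rb14610 rb14611 (Nat.ble (nat_lit 14611) i)) (Nat.ble (nat_lit 14610) i)) (@Bool.rec (fun _ => ℕ) (@Bool.rec (fun _ => ℕ) rb14612 rb14613 (Nat.ble (nat_lit 14613) i)) (@Bool.rec (fun _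 => ℕ) rb14614 rb14615 (Nat.ble (nat_lit 14615) i)) (Nat.ble (nat_lit 14614) i)) (Nat.ble (nat_lit 14612) i)) (@Bool.rec (fun _ => ℕ) (@Bool.rec (fun _ => ℕ) (@Bool.rec (fun _ => ℕ) rb14616 rb14617 (Nat.ble (nat_lit 14617) i)) (@Bool.rec (fun _ => ℕ) rb14618 rb14619 (Nat.ble (nat_lit 14619) i)) (Nat.ble (nat_lit 14618) i)) (@Bool.rec (fun _ => ℕ) (@Bool.rec (fun _ => ℕ) rb14620 rb14621 (Nat.ble (nat_lit 14621) i)) (@Bool.rec (fun _ => ℕ) rb14622 rb14623 (Nat.ble (nat_lit 14623) i)) (Nat.ble (nat_lit 14622) i)) (Nat.ble (nat_lit 14620) i)) (Nat.ble (nat_lit 14616) i)) (Nat.ble (nat_lit 14608) i))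

def rowBlk_n0_457 (i : ℕ) : ℕ := (@Bool.rec (fun _ => ℕ) (@Bool.rec (fun _ => ℕ) (@Bool.rec (fun _ => ℕ) (@Bool.rec (fun _ => ℕ) (@Bool.rec (fun _ => ℕ) rb14624 rb14625 (Nat.ble (nat_lit 14625) i)) (@Bool.rec (fun _ => ℕ) rb14626 rb14627 (Nat.ble (nat_lit 14627) i)) (Nat.ble (nat_lit 14626) i)) (@Bool.rec (fun _ => ℕ) (@Bool.rec (fun _ => ℕ) rb14628 rb14629 (Nat.ble (nat_lit 14629) i)) (@Bool.rec (fun _ => ℕ) rb14630 rb14631 (Nat.ble (nat_lit 14631) i)) (Nat.ble (nat_lit 14630) i)) (Nat.ble (nat_lit 14628) i)) (@Bool.rec (fun _ => ℕ) (@Bool.rec (fun _ => ℕ) (@Bool.rec (fun _ => ℕ) rb14632 rb14633 (Nat.ble (nat_lit 14633) i)) (@Bool.rec (fun _ => ℕ) rb14634 rb14635 (Nat.ble (nat_lit 14635) i)) (Nat.ble (nat_lit 14634) i)) (@Bool.rec (fun _ => ℕ) (@Bool.rec (fun _ => ℕ) rb14636 rb14637 (Nat.ble (nat_lit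 14637) i)) (@Bool.rec (fun _ => ℕ) rb14638 rb14639 (Nat.ble (nat_lit 14639) i)) (Nat.ble (nat_lit 14638) i)) (Nat.ble (nat_lit 14636) i)) (Nat.ble (nat_lit 14632) i)) (@Bool.rec (fun _ => ℕ) (@Bool.rec (fun _ => ℕ) (@Bool.rec (fun _ => ℕ) (@Bool.rec (fun _ => ℕ) rb14640 rb14641 (Nat.ble (nat_lit 14641) i)) (@Bool.rec (fun _ => ℕ) rb14642 rb14643 (Nat.ble (nat_lit 14643) i)) (Nat.ble (nat_lit 14642) i)) (@Bool.rec (fun _ => ℕ) (@Bool.rec (fun _ => ℕ) rb14644 rb14645 (Nat.ble (nat_lit 14645) i)) (@Bool.rec (fun _ => ℕ) rb14646 rb14647 (Nat.ble (nat_lit 14647) i)) (Nat.ble (nat_lit 14646) i)) (Nat.ble (nat_lit 14644) i)) (@Bool.rec (fun _ => ℕ) (@Bool.rec (fun _ => ℕ) (@Bool.rec (fun _ => ℕ) rb14648 rb14649 (Nat.ble (nat_lit 14649) i)) (@Bool.rec (fun _ => ℕ) rb14650 rb14651 (Nat.ble (nat_lit 14651) i)) (Nat.ble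 (nat_lit 14650) i)) (@Bool.rec (fun _ => ℕ) (@Bool.rec (fun _ => ℕ) rb14652 rb14653 (Nat.ble (nat_lit 14653) i)) (@Bool.rec (fun _ => ℕ) rb14654 rb14655 (Nat.ble (nat_lit 14655) i)) (Nat.ble (nat_lit 14654) i)) (Nat.ble (nat_lit 14652) i)) (Nat.ble (nat_lit 14648) i)) (Nat.ble (nat_lit 14640) i))

def rowBlk_n0_458 (i : ℕ) : ℕ := (@Bool.rec (fun _ => ℕ) (@Bool.rec (fun _ => ℕ) (@Bool.rec (fun _ => ℕ) (@Bool.rec (fun _ => ℕ) (@Bool.rec (fun _ => ℕ) rb14656 rb14657 (Nat.ble (nat_lit 14657) i)) (@Bool.rec (fun _ => ℕ) rb14658 rb14659 (Nat.ble (nat_lit 14659) i)) (Nat.ble (nat_lit 14658) i)) (@Bool.rec (fun _ => ℕ) (@Bool.rec (fun _ => ℕ) rb14660 rb14661 (Nat.ble (nat_lit 14661) i)) (@Bool.rec (fun _ => ℕ) rb14662 rb14663 (Nat.ble (nat_lit 14663) i)) (Nat.ble (nat_lit 14662) i)) (Nat.ble (nat_lit 14660) i))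 (@Bool.rec (fun _ => ℕ) (@Bool.rec (fun _ => ℕ) (@Bool.rec (fun _ => ℕ) rb14664 rb14665 (Nat.ble (nat_lit 14665) i)) (@Bool.rec (fun _ => ℕ) rb14666 rb14667 (Nat.ble (nat_lit 14667) i)) (Nat.ble (nat_lit 14666) i)) (@Bool.rec (fun _ => ℕ) (@Bool.rec (fun _ => ℕ) rb14668 rb14669 (Nat.ble (nat_lit 14669) i)) (@Bool.rec (fun _ => ℕ) rb14670 rb14671 (Nat.ble (nat_lit 14671) i)) (Nat.ble (nat_lit 14670) i)) (Nat.ble (nat_lit 14668) i)) (Nat.ble (nat_lit 14664) i)) (@Bool.rec (fun _ => ℕ) (@Bool.rec (fun _ => ℕ) (@Bool.rec (fun _ => ℕ) (@Bool.rec (fun _ => ℕ) rb14672 rb14673 (Nat.ble (nat_lit 14673) i)) (@Bool.rec (fun _ => ℕ) rb14674 rb14675 (Nat.ble (nat_lit 14675) i)) (Nat.ble (nat_lit 14674) i)) (@Bool.rec (fun _ => ℕ) (@Bool.rec (fun _ => ℕ) rb14676 rb14677 (Nat.ble (nat_lit 14677) i)) (@Bool.rec (fun _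 => ℕ) rb14678 rb14679 (Nat.ble (nat_lit 14679) i)) (Nat.ble (nat_lit 14678) i)) (Nat.ble (nat_lit 14676) i)) (@Bool.rec (fun _ => ℕ) (@Bool.rec (fun _ => ℕ) (@Bool.rec (fun _ => ℕ) rb14680 rb14681 (Nat.ble (nat_lit 14681) i)) (@Bool.rec (fun _ => ℕ) rb14682 rb14683 (Nat.ble (nat_lit 14683) i)) (Nat.ble (nat_lit 14682) i)) (@Bool.rec (fun _ => ℕ) (@Bool.rec (fun _ => ℕ) rb14684 rb14685 (Nat.ble (nat_lit 14685) i)) (@Bool.rec (fun _ => ℕ) rb14686 rb14687 (Nat.ble (nat_lit 14687) i)) (Nat.ble (nat_lit 14686) i)) (Nat.ble (nat_lit 14684) i)) (Nat.ble (nat_lit 14680) i)) (Nat.ble (nat_lit 14672) i))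

def rowBlk_n0_459 (i : ℕ) : ℕ := (@Bool.rec (fun _ => ℕ) (@Bool.rec (fun _ => ℕ) (@Bool.rec (fun _ => ℕ) (@Bool.rec (fun _ => ℕ) (@Bool.rec (fun _ => ℕ) rb14688 rb14689 (Nat.ble (nat_lit 14689) i)) (@Bool.rec (fun _ => ℕ) rb14690 rb14691 (Nat.ble (nat_lit 14691) i)) (Nat.ble (nat_lit 14690) i)) (@Bool.rec (fun _ => ℕ) (@Bool.rec (fun _ => ℕ) rb14692 rb14693 (Nat.ble (nat_lit 14693) i)) (@Bool.rec (fun _ => ℕ) rb14694 rb14695 (Nat.ble (nat_lit 14695) i)) (Nat.ble (nat_lit 14694) i)) (Nat.ble (nat_lit 14692) i)) (@Bool.rec (fun _ => ℕ) (@Bool.rec (fun _ => ℕ) (@Bool.rec (fun _ => ℕ) rb14696 rb14697 (Nat.ble (nat_lit 14697) i)) (@Bool.rec (fun _ => ℕ) rb14698 rb14699 (Nat.ble (nat_lit 14699) i)) (Nat.ble (nat_lit 14698) i)) (@Bool.rec (fun _ => ℕ) (@Bool.rec (fun _ => ℕ) rb14700 rb14701 (Nat.ble (nat_lit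 14701) i)) (@Bool.rec (fun _ => ℕ) rb14702 rb14703 (Nat.ble (nat_lit 14703) i)) (Nat.ble (nat_lit 14702) i)) (Nat.ble (nat_lit 14700) i)) (Nat.ble (nat_lit 14696) i)) (@Bool.rec (fun _ => ℕ) (@Bool.rec (fun _ => ℕ) (@Bool.rec (fun _ => ℕ) (@Bool.rec (fun _ => ℕ) rb14704 rb14705 (Nat.ble (nat_lit 14705) i)) (@Bool.rec (fun _ => ℕ) rb14706 rb14707 (Nat.ble (nat_lit 14707) i)) (Nat.ble (nat_lit 14706) i)) (@Bool.rec (fun _ => ℕ) (@Bool.rec (fun _ => ℕ) rb14708 rb14709 (Nat.ble (nat_lit 14709) i)) (@Bool.rec (fun _ => ℕ) rb14710 rb14711 (Nat.ble (nat_lit 14711) i)) (Nat.ble (nat_lit 14710) i)) (Nat.ble (nat_lit 14708) i)) (@Bool.rec (fun _ => ℕ) (@Bool.rec (fun _ => ℕ) (@Bool.rec (fun _ => ℕ) rb14712 rb14713 (Nat.ble (nat_lit 14713) i)) (@Bool.rec (fun _ => ℕ) rb14714 rb14715 (Nat.ble (nat_lit 14715) i)) (Nat.ble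 (nat_lit 14714) i)) (@Bool.rec (fun _ => ℕ) (@Bool.rec (fun _ => ℕ) rb14716 rb14717 (Nat.ble (nat_lit 14717) i)) (@Bool.rec (fun _ => ℕ) rb14718 rb14719 (Nat.ble (nat_lit 14719) i)) (Nat.ble (nat_lit 14718) i)) (Nat.ble (nat_lit 14716) i)) (Nat.ble (nat_lit 14712) i)) (Nat.ble (nat_lit 14704) i))

def rowBlk_n0_460 (i : ℕ) : ℕ := (@Bool.rec (fun _ => ℕ) (@Bool.rec (fun _ => ℕ) (@Bool.rec (fun _ => ℕ) (@Bool.rec (fun _ => ℕ) (@Bool.rec (fun _ => ℕ) rb14720 rb14721 (Nat.ble (nat_lit 14721) i)) (@Bool.rec (fun _ => ℕ) rb14722 rb14723 (Nat.ble (nat_lit 14723) i)) (Nat.ble (nat_lit 14722) i)) (@Bool.rec (fun _ => ℕ) (@Bool.rec (fun _ => ℕ) rb14724 rb14725 (Nat.ble (nat_lit 14725) i)) (@Bool.rec (fun _ => ℕ) rb14726 rb14727 (Nat.ble (nat_lit 14727) i)) (Nat.ble (nat_lit 14726) i)) (Nat.ble (nat_lit 14724) i))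 (@Bool.rec (fun _ => ℕ) (@Bool.rec (fun _ => ℕ) (@Bool.rec (fun _ => ℕ) rb14728 rb14729 (Nat.ble (nat_lit 14729) i)) (@Bool.rec (fun _ => ℕ) rb14730 rb14731 (Nat.ble (nat_lit 14731) i)) (Nat.ble (nat_lit 14730) i)) (@Bool.rec (fun _ => ℕ) (@Bool.rec (fun _ => ℕ) rb14732 rb14733 (Nat.ble (nat_lit 14733) i)) (@Bool.rec (fun _ => ℕ) rb14734 rb14735 (Nat.ble (nat_lit 14735) i)) (Nat.ble (nat_lit 14734) i)) (Nat.ble (nat_lit 14732) i)) (Nat.ble (nat_lit 14728) i)) (@Bool.rec (fun _ => ℕ) (@Bool.rec (fun _ => ℕ) (@Bool.rec (fun _ => ℕ) (@Bool.rec (fun _ => ℕ) rb14736 rb14737 (Nat.ble (nat_lit 14737) i)) (@Bool.rec (fun _ => ℕ) rb14738 rb14739 (Nat.ble (nat_lit 14739) i)) (Nat.ble (nat_lit 14738) i)) (@Bool.rec (fun _ => ℕ) (@Bool.rec (fun _ => ℕ) rb14740 rb14741 (Nat.ble (nat_lit 14741) i)) (@Bool.rec (fun _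 => ℕ) rb14742 rb14743 (Nat.ble (nat_lit 14743) i)) (Nat.ble (nat_lit 14742) i)) (Nat.ble (nat_lit 14740) i)) (@Bool.rec (fun _ => ℕ) (@Bool.rec (fun _ => ℕ) (@Bool.rec (fun _ => ℕ) rb14744 rb14745 (Nat.ble (nat_lit 14745) i)) (@Bool.rec (fun _ => ℕ) rb14746 rb14747 (Nat.ble (nat_lit 14747) i)) (Nat.ble (nat_lit 14746) i)) (@Bool.rec (fun _ => ℕ) (@Bool.rec (fun _ => ℕ) rb14748 rb14749 (Nat.ble (nat_lit 14749) i)) (@Bool.rec (fun _ => ℕ) rb14750 rb14751 (Nat.ble (nat_lit 14751) i)) (Nat.ble (nat_lit 14750) i)) (Nat.ble (nat_lit 14748) i)) (Nat.ble (nat_lit 14744) i)) (Nat.ble (nat_lit 14736) i))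

def rowBlk_n0_461 (i : ℕ) : ℕ := (@Bool.rec (fun _ => ℕ) (@Bool.rec (fun _ => ℕ) (@Bool.rec (fun _ => ℕ) (@Bool.rec (fun _ => ℕ) (@Bool.rec (fun _ => ℕ) rb14752 rb14753 (Nat.ble (nat_lit 14753) i)) (@Bool.rec (fun _ => ℕ) rb14754 rb14755 (Nat.ble (nat_lit 14755) i)) (Nat.ble (nat_lit 14754) i)) (@Bool.rec (fun _ => ℕ) (@Bool.rec (fun _ => ℕ) rb14756 rb14757 (Nat.ble (nat_lit 14757) i)) (@Bool.rec (fun _ => ℕ) rb14758 rb14759 (Nat.ble (nat_lit 14759) i)) (Nat.ble (nat_lit 14758) i)) (Nat.ble (nat_lit 14756) i)) (@Bool.rec (fun _ => ℕ) (@Bool.rec (fun _ => ℕ) (@Bool.rec (fun _ => ℕ) rb14760 rb14761 (Nat.ble (nat_lit 14761) i)) (@Bool.rec (fun _ => ℕ) rb14762 rb14763 (Nat.ble (nat_lit 14763) i)) (Nat.ble (nat_lit 14762) i)) (@Bool.rec (fun _ => ℕ) (@Bool.rec (fun _ => ℕ) rb14764 rb14765 (Nat.ble (nat_lit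 14765) i)) (@Bool.rec (fun _ => ℕ) rb14766 rb14767 (Nat.ble (nat_lit 14767) i)) (Nat.ble (nat_lit 14766) i)) (Nat.ble (nat_lit 14764) i)) (Nat.ble (nat_lit 14760) i)) (@Bool.rec (fun _ => ℕ) (@Bool.rec (fun _ => ℕ) (@Bool.rec (fun _ => ℕ) (@Bool.rec (fun _ => ℕ) rb14768 rb14769 (Nat.ble (nat_lit 14769) i)) (@Bool.rec (fun _ => ℕ) rb14770 rb14771 (Nat.ble (nat_lit 14771) i)) (Nat.ble (nat_lit 14770) i)) (@Bool.rec (fun _ => ℕ) (@Bool.rec (fun _ => ℕ) rb14772 rb14773 (Nat.ble (nat_lit 14773) i)) (@Bool.rec (fun _ => ℕ) rb14774 rb14775 (Nat.ble (nat_lit 14775) i)) (Nat.ble (nat_lit 14774) i)) (Nat.ble (nat_lit 14772) i)) (@Bool.rec (fun _ => ℕ) (@Bool.rec (fun _ => ℕ) (@Bool.rec (fun _ => ℕ) rb14776 rb14777 (Nat.ble (nat_lit 14777) i)) (@Bool.rec (fun _ => ℕ) rb14778 rb14779 (Nat.ble (nat_lit 14779) i)) (Nat.ble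 (nat_lit 14778) i)) (@Bool.rec (fun _ => ℕ) (@Bool.rec (fun _ => ℕ) rb14780 rb14781 (Nat.ble (nat_lit 14781) i)) (@Bool.rec (fun _ => ℕ) rb14782 rb14783 (Nat.ble (nat_lit 14783) i)) (Nat.ble (nat_lit 14782) i)) (Nat.ble (nat_lit 14780) i)) (Nat.ble (nat_lit 14776) i)) (Nat.ble (nat_lit 14768) i))

def rowBlk_n0_462 (i : ℕ) : ℕ := (@Bool.rec (fun _ => ℕ) (@Bool.rec (fun _ => ℕ) (@Bool.rec (fun _ => ℕ) (@Bool.rec (fun _ => ℕ) (@Bool.rec (fun _ => ℕ) rb14784 rb14785 (Nat.ble (nat_lit 14785) i)) (@Bool.rec (fun _ => ℕ) rb14786 rb14787 (Nat.ble (nat_lit 14787) i)) (Nat.ble (nat_lit 14786) i)) (@Bool.rec (fun _ => ℕ) (@Bool.rec (fun _ => ℕ) rb14788 rb14789 (Nat.ble (nat_lit 14789) i)) (@Bool.rec (fun _ => ℕ) rb14790 rb14791 (Nat.ble (nat_lit 14791) i)) (Nat.ble (nat_lit 14790) i)) (Nat.ble (nat_lit 14788) i))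 (@Bool.rec (fun _ => ℕ) (@Bool.rec (fun _ => ℕ) (@Bool.rec (fun _ => ℕ) rb14792 rb14793 (Nat.ble (nat_lit 14793) i)) (@Bool.rec (fun _ => ℕ) rb14794 rb14795 (Nat.ble (nat_lit 14795) i)) (Nat.ble (nat_lit 14794) i)) (@Bool.rec (fun _ => ℕ) (@Bool.rec (fun _ => ℕ) rb14796 rb14797 (Nat.ble (nat_lit 14797) i)) (@Bool.rec (fun _ => ℕ) rb14798 rb14799 (Nat.ble (nat_lit 14799) i)) (Nat.ble (nat_lit 14798) i)) (Nat.ble (nat_lit 14796) i)) (Nat.ble (nat_lit 14792) i)) (@Bool.rec (fun _ => ℕ) (@Bool.rec (fun _ => ℕ) (@Bool.rec (fun _ => ℕ) (@Bool.rec (fun _ => ℕ) rb14800 rb14801 (Nat.ble (nat_lit 14801) i)) (@Bool.rec (fun _ => ℕ) rb14802 rb14803 (Nat.ble (nat_lit 14803) i)) (Nat.ble (nat_lit 14802) i)) (@Bool.rec (fun _ => ℕ) (@Bool.rec (fun _ => ℕ) rb14804 rb14805 (Nat.ble (nat_lit 14805) i)) (@Bool.rec (fun _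 => ℕ) rb14806 rb14807 (Nat.ble (nat_lit 14807) i)) (Nat.ble (nat_lit 14806) i)) (Nat.ble (nat_lit 14804) i)) (@Bool.rec (fun _ => ℕ) (@Bool.rec (fun _ => ℕ) (@Bool.rec (fun _ => ℕ) rb14808 rb14809 (Nat.ble (nat_lit 14809) i)) (@Bool.rec (fun _ => ℕ) rb14810 rb14811 (Nat.ble (nat_lit 14811) i)) (Nat.ble (nat_lit 14810) i)) (@Bool.rec (fun _ => ℕ) (@Bool.rec (fun _ => ℕ) rb14812 rb14813 (Nat.ble (nat_lit 14813) i)) (@Bool.rec (fun _ => ℕ) rb14814 rb14815 (Nat.ble (nat_lit 14815) i)) (Nat.ble (nat_lit 14814) i)) (Nat.ble (nat_lit 14812) i)) (Nat.ble (nat_lit 14808) i)) (Nat.ble (nat_lit 14800) i))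

def rowBlk_n0_463 (i : ℕ) : ℕ := (@Bool.rec (fun _ => ℕ) (@Bool.rec (fun _ => ℕ) (@Bool.rec (fun _ => ℕ) (@Bool.rec (fun _ => ℕ) (@Bool.rec (fun _ => ℕ) rb14816 rb14817 (Nat.ble (nat_lit 14817) i)) (@Bool.rec (fun _ => ℕ) rb14818 rb14819 (Nat.ble (nat_lit 14819) i)) (Nat.ble (nat_lit 14818) i)) (@Bool.rec (fun _ => ℕ) (@Bool.rec (fun _ => ℕ) rb14820 rb14821 (Nat.ble (nat_lit 14821) i)) (@Bool.rec (fun _ => ℕ) rb14822 rb14823 (Nat.ble (nat_lit 14823) i)) (Nat.ble (nat_lit 14822) i)) (Nat.ble (nat_lit 14820) i)) (@Bool.rec (fun _ => ℕ) (@Bool.rec (fun _ => ℕ) (@Bool.rec (fun _ => ℕ) rb14824 rb14825 (Nat.ble (nat_lit 14825) i)) (@Bool.rec (fun _ => ℕ) rb14826 rb14827 (Nat.ble (nat_lit 14827) i)) (Nat.ble (nat_lit 14826) i)) (@Bool.rec (fun _ => ℕ) (@Bool.rec (fun _ => ℕ) rb14828 rb14829 (Nat.ble (nat_lit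 14829) i)) (@Bool.rec (fun _ => ℕ) rb14830 rb14831 (Nat.ble (nat_lit 14831) i)) (Nat.ble (nat_lit 14830) i)) (Nat.ble (nat_lit 14828) i)) (Nat.ble (nat_lit 14824) i)) (@Bool.rec (fun _ => ℕ) (@Bool.rec (fun _ => ℕ) (@Bool.rec (fun _ => ℕ) (@Bool.rec (fun _ => ℕ) rb14832 rb14833 (Nat.ble (nat_lit 14833) i)) (@Bool.rec (fun _ => ℕ) rb14834 rb14835 (Nat.ble (nat_lit 14835) i)) (Nat.ble (nat_lit 14834) i)) (@Bool.rec (fun _ => ℕ) (@Bool.rec (fun _ => ℕ) rb14836 rb14837 (Nat.ble (nat_lit 14837) i)) (@Bool.rec (fun _ => ℕ) rb14838 rb14839 (Nat.ble (nat_lit 14839) i)) (Nat.ble (nat_lit 14838) i)) (Nat.ble (nat_lit 14836) i)) (@Bool.rec (fun _ => ℕ) (@Bool.rec (fun _ => ℕ) (@Bool.rec (fun _ => ℕ) rb14840 rb14841 (Nat.ble (nat_lit 14841) i)) (@Bool.rec (fun _ => ℕ) rb14842 rb14843 (Nat.ble (nat_lit 14843) i)) (Nat.ble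 (nat_lit 14842) i)) (@Bool.rec (fun _ => ℕ) (@Bool.rec (fun _ => ℕ) rb14844 rb14845 (Nat.ble (nat_lit 14845) i)) (@Bool.rec (fun _ => ℕ) rb14846 rb14847 (Nat.ble (nat_lit 14847) i)) (Nat.ble (nat_lit 14846) i)) (Nat.ble (nat_lit 14844) i)) (Nat.ble (nat_lit 14840) i)) (Nat.ble (nat_lit 14832) i))

def rowBlk_n0_464 (i : ℕ) : ℕ := (@Bool.rec (fun _ => ℕ) (@Bool.rec (fun _ => ℕ) (@Bool.rec (fun _ => ℕ) (@Bool.rec (fun _ => ℕ) (@Bool.rec (fun _ => ℕ) rb14848 rb14849 (Nat.ble (nat_lit 14849) i)) (@Bool.rec (fun _ => ℕ) rb14850 rb14851 (Nat.ble (nat_lit 14851) i)) (Nat.ble (nat_lit 14850) i)) (@Bool.rec (fun _ => ℕ) (@Bool.rec (fun _ => ℕ) rb14852 rb14853 (Nat.ble (nat_lit 14853) i)) (@Bool.rec (fun _ => ℕ) rb14854 rb14855 (Nat.ble (nat_lit 14855) i)) (Nat.ble (nat_lit 14854) i)) (Nat.ble (nat_lit 14852) i))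 (@Bool.rec (fun _ => ℕ) (@Bool.rec (fun _ => ℕ) (@Bool.rec (fun _ => ℕ) rb14856 rb14857 (Nat.ble (nat_lit 14857) i)) (@Bool.rec (fun _ => ℕ) rb14858 rb14859 (Nat.ble (nat_lit 14859) i)) (Nat.ble (nat_lit 14858) i)) (@Bool.rec (fun _ => ℕ) (@Bool.rec (fun _ => ℕ) rb14860 rb14861 (Nat.ble (nat_lit 14861) i)) (@Bool.rec (fun _ => ℕ) rb14862 rb14863 (Nat.ble (nat_lit 14863) i)) (Nat.ble (nat_lit 14862) i)) (Nat.ble (nat_lit 14860) i)) (Nat.ble (nat_lit 14856) i)) (@Bool.rec (fun _ => ℕ) (@Bool.rec (fun _ => ℕ) (@Bool.rec (fun _ => ℕ) (@Bool.rec (fun _ => ℕ) rb14864 rb14865 (Nat.ble (nat_lit 14865) i)) (@Bool.rec (fun _ => ℕ) rb14866 rb14867 (Nat.ble (nat_lit 14867) i)) (Nat.ble (nat_lit 14866) i)) (@Bool.rec (fun _ => ℕ) (@Bool.rec (fun _ => ℕ) rb14868 rb14869 (Nat.ble (nat_lit 14869) i)) (@Bool.rec (fun _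 => ℕ) rb14870 rb14871 (Nat.ble (nat_lit 14871) i)) (Nat.ble (nat_lit 14870) i)) (Nat.ble (nat_lit 14868) i)) (@Bool.rec (fun _ => ℕ) (@Bool.rec (fun _ => ℕ) (@Bool.rec (fun _ => ℕ) rb14872 rb14873 (Nat.ble (nat_lit 14873) i)) (@Bool.rec (fun _ => ℕ) rb14874 rb14875 (Nat.ble (nat_lit 14875) i)) (Nat.ble (nat_lit 14874) i)) (@Bool.rec (fun _ => ℕ) (@Bool.rec (fun _ => ℕ) rb14876 rb14877 (Nat.ble (nat_lit 14877) i)) (@Bool.rec (fun _ => ℕ) rb14878 rb14879 (Nat.ble (nat_lit 14879) i)) (Nat.ble (nat_lit 14878) i)) (Nat.ble (nat_lit 14876) i)) (Nat.ble (nat_lit 14872) i)) (Nat.ble (nat_lit 14864) i))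

def rowBlk_n0_465 (i : ℕ) : ℕ := (@Bool.rec (fun _ => ℕ) (@Bool.rec (fun _ => ℕ) (@Bool.rec (fun _ => ℕ) (@Bool.rec (fun _ => ℕ) (@Bool.rec (fun _ => ℕ) rb14880 rb14881 (Nat.ble (nat_lit 14881) i)) (@Bool.rec (fun _ => ℕ) rb14882 rb14883 (Nat.ble (nat_lit 14883) i)) (Nat.ble (nat_lit 14882) i)) (@Bool.rec (fun _ => ℕ) (@Bool.rec (fun _ => ℕ) rb14884 rb14885 (Nat.ble (nat_lit 14885) i)) (@Bool.rec (fun _ => ℕ) rb14886 rb14887 (Nat.ble (nat_lit 14887) i)) (Nat.ble (nat_lit 14886) i)) (Nat.ble (nat_lit 14884) i)) (@Bool.rec (fun _ => ℕ) (@Bool.rec (fun _ => ℕ) (@Bool.rec (fun _ => ℕ) rb14888 rb14889 (Nat.ble (nat_lit 14889) i)) (@Bool.rec (fun _ => ℕ) rb14890 rb14891 (Nat.ble (nat_lit 14891) i)) (Nat.ble (nat_lit 14890) i)) (@Bool.rec (fun _ => ℕ) (@Bool.rec (fun _ => ℕ) rb14892 rb14893 (Nat.ble (nat_lit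 14893) i)) (@Bool.rec (fun _ => ℕ) rb14894 rb14895 (Nat.ble (nat_lit 14895) i)) (Nat.ble (nat_lit 14894) i)) (Nat.ble (nat_lit 14892) i)) (Nat.ble (nat_lit 14888) i)) (@Bool.rec (fun _ => ℕ) (@Bool.rec (fun _ => ℕ) (@Bool.rec (fun _ => ℕ) (@Bool.rec (fun _ => ℕ) rb14896 rb14897 (Nat.ble (nat_lit 14897) i)) (@Bool.rec (fun _ => ℕ) rb14898 rb14899 (Nat.ble (nat_lit 14899) i)) (Nat.ble (nat_lit 14898) i)) (@Bool.rec (fun _ => ℕ) (@Bool.rec (fun _ => ℕ) rb14900 rb14901 (Nat.ble (nat_lit 14901) i)) (@Bool.rec (fun _ => ℕ) rb14902 rb14903 (Nat.ble (nat_lit 14903) i)) (Nat.ble (nat_lit 14902) i)) (Nat.ble (nat_lit 14900) i)) (@Bool.rec (fun _ => ℕ) (@Bool.rec (fun _ => ℕ) (@Bool.rec (fun _ => ℕ) rb14904 rb14905 (Nat.ble (nat_lit 14905) i)) (@Bool.rec (fun _ => ℕ) rb14906 rb14907 (Nat.ble (nat_lit 14907) i)) (Nat.ble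 (nat_lit 14906) i)) (@Bool.rec (fun _ => ℕ) (@Bool.rec (fun _ => ℕ) rb14908 rb14909 (Nat.ble (nat_lit 14909) i)) (@Bool.rec (fun _ => ℕ) rb14910 rb14911 (Nat.ble (nat_lit 14911) i)) (Nat.ble (nat_lit 14910) i)) (Nat.ble (nat_lit 14908) i)) (Nat.ble (nat_lit 14904) i)) (Nat.ble (nat_lit 14896) i))

def rowBlk_n0_466 (i : ℕ) : ℕ := (@Bool.rec (fun _ => ℕ) (@Bool.rec (fun _ => ℕ) (@Bool.rec (fun _ => ℕ) (@Bool.rec (fun _ => ℕ) (@Bool.rec (fun _ => ℕ) rb14912 rb14913 (Nat.ble (nat_lit 14913) i)) (@Bool.rec (fun _ => ℕ) rb14914 rb14915 (Nat.ble (nat_lit 14915) i)) (Nat.ble (nat_lit 14914) i)) (@Bool.rec (fun _ => ℕ) (@Bool.rec (fun _ => ℕ) rb14916 rb14917 (Nat.ble (nat_lit 14917) i)) (@Bool.rec (fun _ => ℕ) rb14918 rb14919 (Nat.ble (nat_lit 14919) i)) (Nat.ble (nat_lit 14918) i)) (Nat.ble (nat_lit 14916) i))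 (@Bool.rec (fun _ => ℕ) (@Bool.rec (fun _ => ℕ) (@Bool.rec (fun _ => ℕ) rb14920 rb14921 (Nat.ble (nat_lit 14921) i)) (@Bool.rec (fun _ => ℕ) rb14922 rb14923 (Nat.ble (nat_lit 14923) i)) (Nat.ble (nat_lit 14922) i)) (@Bool.rec (fun _ => ℕ) (@Bool.rec (fun _ => ℕ) rb14924 rb14925 (Nat.ble (nat_lit 14925) i)) (@Bool.rec (fun _ => ℕ) rb14926 rb14927 (Nat.ble (nat_lit 14927) i)) (Nat.ble (nat_lit 14926) i)) (Nat.ble (nat_lit 14924) i)) (Nat.ble (nat_lit 14920) i)) (@Bool.rec (fun _ => ℕ) (@Bool.rec (fun _ => ℕ) (@Bool.rec (fun _ => ℕ) (@Bool.rec (fun _ => ℕ) rb14928 rb14929 (Nat.ble (nat_lit 14929) i)) (@Bool.rec (fun _ => ℕ) rb14930 rb14931 (Nat.ble (nat_lit 14931) i)) (Nat.ble (nat_lit 14930) i)) (@Bool.rec (fun _ => ℕ) (@Bool.rec (fun _ => ℕ) rb14932 rb14933 (Nat.ble (nat_lit 14933) i)) (@Bool.rec (fun _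 => ℕ) rb14934 rb14935 (Nat.ble (nat_lit 14935) i)) (Nat.ble (nat_lit 14934) i)) (Nat.ble (nat_lit 14932) i)) (@Bool.rec (fun _ => ℕ) (@Bool.rec (fun _ => ℕ) (@Bool.rec (fun _ => ℕ) rb14936 rb14937 (Nat.ble (nat_lit 14937) i)) (@Bool.rec (fun _ => ℕ) rb14938 rb14939 (Nat.ble (nat_lit 14939) i)) (Nat.ble (nat_lit 14938) i)) (@Bool.rec (fun _ => ℕ) (@Bool.rec (fun _ => ℕ) rb14940 rb14941 (Nat.ble (nat_lit 14941) i)) (@Bool.rec (fun _ => ℕ) rb14942 rb14943 (Nat.ble (nat_lit 14943) i)) (Nat.ble (nat_lit 14942) i)) (Nat.ble (nat_lit 14940) i)) (Nat.ble (nat_lit 14936) i)) (Nat.ble (nat_lit 14928) i))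

def rowBlk_n0_467 (i : ℕ) : ℕ := (@Bool.rec (fun _ => ℕ) (@Bool.rec (fun _ => ℕ) (@Bool.rec (fun _ => ℕ) (@Bool.rec (fun _ => ℕ) (@Bool.rec (fun _ => ℕ) rb14944 rb14945 (Nat.ble (nat_lit 14945) i)) (@Bool.rec (fun _ => ℕ) rb14946 rb14947 (Nat.ble (nat_lit 14947) i)) (Nat.ble (nat_lit 14946) i)) (@Bool.rec (fun _ => ℕ) (@Bool.rec (fun _ => ℕ) rb14948 rb14949 (Nat.ble (nat_lit 14949) i)) (@Bool.rec (fun _ => ℕ) rb14950 rb14951 (Nat.ble (nat_lit 14951) i)) (Nat.ble (nat_lit 14950) i)) (Nat.ble (nat_lit 14948) i)) (@Bool.rec (fun _ => ℕ) (@Bool.rec (fun _ => ℕ) (@Bool.rec (fun _ => ℕ) rb14952 rb14953 (Nat.ble (nat_lit 14953) i)) (@Bool.rec (fun _ => ℕ) rb14954 rb14955 (Nat.ble (nat_lit 14955) i)) (Nat.ble (nat_lit 14954) i)) (@Bool.rec (fun _ => ℕ) (@Bool.rec (fun _ => ℕ) rb14956 rb14957 (Nat.ble (nat_lit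 14957) i)) (@Bool.rec (fun _ => ℕ) rb14958 rb14959 (Nat.ble (nat_lit 14959) i)) (Nat.ble (nat_lit 14958) i)) (Nat.ble (nat_lit 14956) i)) (Nat.ble (nat_lit 14952) i)) (@Bool.rec (fun _ => ℕ) (@Bool.rec (fun _ => ℕ) (@Bool.rec (fun _ => ℕ) (@Bool.rec (fun _ => ℕ) rb14960 rb14961 (Nat.ble (nat_lit 14961) i)) (@Bool.rec (fun _ => ℕ) rb14962 rb14963 (Nat.ble (nat_lit 14963) i)) (Nat.ble (nat_lit 14962) i)) (@Bool.rec (fun _ => ℕ) (@Bool.rec (fun _ => ℕ) rb14964 rb14965 (Nat.ble (nat_lit 14965) i)) (@Bool.rec (fun _ => ℕ) rb14966 rb14967 (Nat.ble (nat_lit 14967) i)) (Nat.ble (nat_lit 14966) i)) (Nat.ble (nat_lit 14964) i)) (@Bool.rec (fun _ => ℕ) (@Bool.rec (fun _ => ℕ) (@Bool.rec (fun _ => ℕ) rb14968 rb14969 (Nat.ble (nat_lit 14969) i)) (@Bool.rec (fun _ => ℕ) rb14970 rb14971 (Nat.ble (nat_lit 14971) i)) (Nat.ble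 (nat_lit 14970) i)) (@Bool.rec (fun _ => ℕ) (@Bool.rec (fun _ => ℕ) rb14972 rb14973 (Nat.ble (nat_lit 14973) i)) (@Bool.rec (fun _ => ℕ) rb14974 rb14975 (Nat.ble (nat_lit 14975) i)) (Nat.ble (nat_lit 14974) i)) (Nat.ble (nat_lit 14972) i)) (Nat.ble (nat_lit 14968) i)) (Nat.ble (nat_lit 14960) i))

def rowBlk_n0_468 (i : ℕ) : ℕ := (@Bool.rec (fun _ => ℕ) (@Bool.rec (fun _ => ℕ) (@Bool.rec (fun _ => ℕ) (@Bool.rec (fun _ => ℕ) (@Bool.rec (fun _ => ℕ) rb14976 rb14977 (Nat.ble (nat_lit 14977) i)) (@Bool.rec (fun _ => ℕ) rb14978 rb14979 (Nat.ble (nat_lit 14979) i)) (Nat.ble (nat_lit 14978) i)) (@Bool.rec (fun _ => ℕ) (@Bool.rec (fun _ => ℕ) rb14980 rb14981 (Nat.ble (nat_lit 14981) i)) (@Bool.rec (fun _ => ℕ) rb14982 rb14983 (Nat.ble (nat_lit 14983) i)) (Nat.ble (nat_lit 14982) i)) (Nat.ble (nat_lit 14980) i))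 (@Bool.rec (fun _ => ℕ) (@Bool.rec (fun _ => ℕ) (@Bool.rec (fun _ => ℕ) rb14984 rb14985 (Nat.ble (nat_lit 14985) i)) (@Bool.rec (fun _ => ℕ) rb14986 rb14987 (Nat.ble (nat_lit 14987) i)) (Nat.ble (nat_lit 14986) i)) (@Bool.rec (fun _ => ℕ) (@Bool.rec (fun _ => ℕ) rb14988 rb14989 (Nat.ble (nat_lit 14989) i)) (@Bool.rec (fun _ => ℕ) rb14990 rb14991 (Nat.ble (nat_lit 14991) i)) (Nat.ble (nat_lit 14990) i)) (Nat.ble (nat_lit 14988) i)) (Nat.ble (nat_lit 14984) i)) (@Bool.rec (fun _ => ℕ) (@Bool.rec (fun _ => ℕ) (@Bool.rec (fun _ => ℕ) (@Bool.rec (fun _ => ℕ) rb14992 rb14993 (Nat.ble (nat_lit 14993) i)) (@Bool.rec (fun _ => ℕ) rb14994 rb14995 (Nat.ble (nat_lit 14995) i)) (Nat.ble (nat_lit 14994) i)) (@Bool.rec (fun _ => ℕ) (@Bool.rec (fun _ => ℕ) rb14996 rb14997 (Nat.ble (nat_lit 14997) i)) (@Bool.rec (fun _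 => ℕ) rb14998 rb14999 (Nat.ble (nat_lit 14999) i)) (Nat.ble (nat_lit 14998) i)) (Nat.ble (nat_lit 14996) i)) (@Bool.rec (fun _ => ℕ) (@Bool.rec (fun _ => ℕ) (@Bool.rec (fun _ => ℕ) rb15000 rb15001 (Nat.ble (nat_lit 15001) i)) (@Bool.rec (fun _ => ℕ) rb15002 rb15003 (Nat.ble (nat_lit 15003) i)) (Nat.ble (nat_lit 15002) i)) (@Bool.rec (fun _ => ℕ) (@Bool.rec (fun _ => ℕ) rb15004 rb15005 (Nat.ble (nat_lit 15005) i)) (@Bool.rec (fun _ => ℕ) rb15006 rb15007 (Nat.ble (nat_lit 15007) i)) (Nat.ble (nat_lit 15006) i)) (Nat.ble (nat_lit 15004) i)) (Nat.ble (nat_lit 15000) i)) (Nat.ble (nat_lit 14992) i))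

def rowBlk_n0_469 (i : ℕ) : ℕ := (@Bool.rec (fun _ => ℕ) (@Bool.rec (fun _ => ℕ) (@Bool.rec (fun _ => ℕ) (@Bool.rec (fun _ => ℕ) (@Bool.rec (fun _ => ℕ) rb15008 rb15009 (Nat.ble (nat_lit 15009) i)) (@Bool.rec (fun _ => ℕ) rb15010 rb15011 (Nat.ble (nat_lit 15011) i)) (Nat.ble (nat_lit 15010) i)) (@Bool.rec (fun _ => ℕ) (@Bool.rec (fun _ => ℕ) rb15012 rb15013 (Nat.ble (nat_lit 15013) i)) (@Bool.rec (fun _ => ℕ) rb15014 rb15015 (Nat.ble (nat_lit 15015) i)) (Nat.ble (nat_lit 15014) i)) (Nat.ble (nat_lit 15012) i)) (@Bool.rec (fun _ => ℕ) (@Bool.rec (fun _ => ℕ) (@Bool.rec (fun _ => ℕ) rb15016 rb15017 (Nat.ble (nat_lit 15017) i)) (@Bool.rec (fun _ => ℕ) rb15018 rb15019 (Nat.ble (nat_lit 15019) i)) (Nat.ble (nat_lit 15018) i)) (@Bool.rec (fun _ => ℕ) (@Bool.rec (fun _ => ℕ) rb15020 rb15021 (Nat.ble (nat_lit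 15021) i)) (@Bool.rec (fun _ => ℕ) rb15022 rb15023 (Nat.ble (nat_lit 15023) i)) (Nat.ble (nat_lit 15022) i)) (Nat.ble (nat_lit 15020) i)) (Nat.ble (nat_lit 15016) i)) (@Bool.rec (fun _ => ℕ) (@Bool.rec (fun _ => ℕ) (@Bool.rec (fun _ => ℕ) (@Bool.rec (fun _ => ℕ) rb15024 rb15025 (Nat.ble (nat_lit 15025) i)) (@Bool.rec (fun _ => ℕ) rb15026 rb15027 (Nat.ble (nat_lit 15027) i)) (Nat.ble (nat_lit 15026) i)) (@Bool.rec (fun _ => ℕ) (@Bool.rec (fun _ => ℕ) rb15028 rb15029 (Nat.ble (nat_lit 15029) i)) (@Bool.rec (fun _ => ℕ) rb15030 rb15031 (Nat.ble (nat_lit 15031) i)) (Nat.ble (nat_lit 15030) i)) (Nat.ble (nat_lit 15028) i)) (@Bool.rec (fun _ => ℕ) (@Bool.rec (fun _ => ℕ) (@Bool.rec (fun _ => ℕ) rb15032 rb15033 (Nat.ble (nat_lit 15033) i)) (@Bool.rec (fun _ => ℕ) rb15034 rb15035 (Nat.ble (nat_lit 15035) i)) (Nat.ble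 (nat_lit 15034) i)) (@Bool.rec (fun _ => ℕ) (@Bool.rec (fun _ => ℕ) rb15036 rb15037 (Nat.ble (nat_lit 15037) i)) (@Bool.rec (fun _ => ℕ) rb15038 rb15039 (Nat.ble (nat_lit 15039) i)) (Nat.ble (nat_lit 15038) i)) (Nat.ble (nat_lit 15036) i)) (Nat.ble (nat_lit 15032) i)) (Nat.ble (nat_lit 15024) i))

def rowBlk_n0_470 (i : ℕ) : ℕ := (@Bool.rec (fun _ => ℕ) (@Bool.rec (fun _ => ℕ) (@Bool.rec (fun _ => ℕ) (@Bool.rec (fun _ => ℕ) (@Bool.rec (fun _ => ℕ) rb15040 rb15041 (Nat.ble (nat_lit 15041) i)) (@Bool.rec (fun _ => ℕ) rb15042 rb15043 (Nat.ble (nat_lit 15043) i)) (Nat.ble (nat_lit 15042) i)) (@Bool.rec (fun _ => ℕ) (@Bool.rec (fun _ => ℕ) rb15044 rb15045 (Nat.ble (nat_lit 15045) i)) (@Bool.rec (fun _ => ℕ) rb15046 rb15047 (Nat.ble (nat_lit 15047) i)) (Nat.ble (nat_lit 15046) i)) (Nat.ble (nat_lit 15044) i))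 (@Bool.rec (fun _ => ℕ) (@Bool.rec (fun _ => ℕ) (@Bool.rec (fun _ => ℕ) rb15048 rb15049 (Nat.ble (nat_lit 15049) i)) (@Bool.rec (fun _ => ℕ) rb15050 rb15051 (Nat.ble (nat_lit 15051) i)) (Nat.ble (nat_lit 15050) i)) (@Bool.rec (fun _ => ℕ) (@Bool.rec (fun _ => ℕ) rb15052 rb15053 (Nat.ble (nat_lit 15053) i)) (@Bool.rec (fun _ => ℕ) rb15054 rb15055 (Nat.ble (nat_lit 15055) i)) (Nat.ble (nat_lit 15054) i)) (Nat.ble (nat_lit 15052) i)) (Nat.ble (nat_lit 15048) i)) (@Bool.rec (fun _ => ℕ) (@Bool.rec (fun _ => ℕ) (@Bool.rec (fun _ => ℕ) (@Bool.rec (fun _ => ℕ) rb15056 rb15057 (Nat.ble (nat_lit 15057) i)) (@Bool.rec (fun _ => ℕ) rb15058 rb15059 (Nat.ble (nat_lit 15059) i)) (Nat.ble (nat_lit 15058) i)) (@Bool.rec (fun _ => ℕ) (@Bool.rec (fun _ => ℕ) rb15060 rb15061 (Nat.ble (nat_lit 15061) i)) (@Bool.rec (fun _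 => ℕ) rb15062 rb15063 (Nat.ble (nat_lit 15063) i)) (Nat.ble (nat_lit 15062) i)) (Nat.ble (nat_lit 15060) i)) (@Bool.rec (fun _ => ℕ) (@Bool.rec (fun _ => ℕ) (@Bool.rec (fun _ => ℕ) rb15064 rb15065 (Nat.ble (nat_lit 15065) i)) (@Bool.rec (fun _ => ℕ) rb15066 rb15067 (Nat.ble (nat_lit 15067) i)) (Nat.ble (nat_lit 15066) i)) (@Bool.rec (fun _ => ℕ) (@Bool.rec (fun _ => ℕ) rb15068 rb15069 (Nat.ble (nat_lit 15069) i)) (@Bool.rec (fun _ => ℕ) rb15070 rb15071 (Nat.ble (nat_lit 15071) i)) (Nat.ble (nat_lit 15070) i)) (Nat.ble (nat_lit 15068) i)) (Nat.ble (nat_lit 15064) i)) (Nat.ble (nat_lit 15056) i))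

def rowBlk_n0_471 (i : ℕ) : ℕ := (@Bool.rec (fun _ => ℕ) (@Bool.rec (fun _ => ℕ) (@Bool.rec (fun _ => ℕ) (@Bool.rec (fun _ => ℕ) (@Bool.rec (fun _ => ℕ) rb15072 rb15073 (Nat.ble (nat_lit 15073) i)) (@Bool.rec (fun _ => ℕ) rb15074 rb15075 (Nat.ble (nat_lit 15075) i)) (Nat.ble (nat_lit 15074) i)) (@Bool.rec (fun _ => ℕ) (@Bool.rec (fun _ => ℕ) rb15076 rb15077 (Nat.ble (nat_lit 15077) i)) (@Bool.rec (fun _ => ℕ) rb15078 rb15079 (Nat.ble (nat_lit 15079) i)) (Nat.ble (nat_lit 15078) i)) (Nat.ble (nat_lit 15076) i)) (@Bool.rec (fun _ => ℕ) (@Bool.rec (fun _ => ℕ) (@Bool.rec (fun _ => ℕ) rb15080 rb15081 (Nat.ble (nat_lit 15081) i)) (@Bool.rec (fun _ => ℕ) rb15082 rb15083 (Nat.ble (nat_lit 15083) i)) (Nat.ble (nat_lit 15082) i)) (@Bool.rec (fun _ => ℕ) (@Bool.rec (fun _ => ℕ) rb15084 rb15085 (Nat.ble (nat_lit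 15085) i)) (@Bool.rec (fun _ => ℕ) rb15086 rb15087 (Nat.ble (nat_lit 15087) i)) (Nat.ble (nat_lit 15086) i)) (Nat.ble (nat_lit 15084) i)) (Nat.ble (nat_lit 15080) i)) (@Bool.rec (fun _ => ℕ) (@Bool.rec (fun _ => ℕ) (@Bool.rec (fun _ => ℕ) (@Bool.rec (fun _ => ℕ) rb15088 rb15089 (Nat.ble (nat_lit 15089) i)) (@Bool.rec (fun _ => ℕ) rb15090 rb15091 (Nat.ble (nat_lit 15091) i)) (Nat.ble (nat_lit 15090) i)) (@Bool.rec (fun _ => ℕ) (@Bool.rec (fun _ => ℕ) rb15092 rb15093 (Nat.ble (nat_lit 15093) i)) (@Bool.rec (fun _ => ℕ) rb15094 rb15095 (Nat.ble (nat_lit 15095) i)) (Nat.ble (nat_lit 15094) i)) (Nat.ble (nat_lit 15092) i)) (@Bool.rec (fun _ => ℕ) (@Bool.rec (fun _ => ℕ) (@Bool.rec (fun _ => ℕ) rb15096 rb15097 (Nat.ble (nat_lit 15097) i)) (@Bool.rec (fun _ => ℕ) rb15098 rb15099 (Nat.ble (nat_lit 15099) i)) (Nat.ble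 (nat_lit 15098) i)) (@Bool.rec (fun _ => ℕ) (@Bool.rec (fun _ => ℕ) rb15100 rb15101 (Nat.ble (nat_lit 15101) i)) (@Bool.rec (fun _ => ℕ) rb15102 rb15103 (Nat.ble (nat_lit 15103) i)) (Nat.ble (nat_lit 15102) i)) (Nat.ble (nat_lit 15100) i)) (Nat.ble (nat_lit 15096) i)) (Nat.ble (nat_lit 15088) i))

def rowBlk_n0_472 (i : ℕ) : ℕ := (@Bool.rec (fun _ => ℕ) (@Bool.rec (fun _ => ℕ) (@Bool.rec (fun _ => ℕ) (@Bool.rec (fun _ => ℕ) (@Bool.rec (fun _ => ℕ) rb15104 rb15105 (Nat.ble (nat_lit 15105) i)) (@Bool.rec (fun _ => ℕ) rb15106 rb15107 (Nat.ble (nat_lit 15107) i)) (Nat.ble (nat_lit 15106) i)) (@Bool.rec (fun _ => ℕ) (@Bool.rec (fun _ => ℕ) rb15108 rb15109 (Nat.ble (nat_lit 15109) i)) (@Bool.rec (fun _ => ℕ) rb15110 rb15111 (Nat.ble (nat_lit 15111) i)) (Nat.ble (nat_lit 15110) i)) (Nat.ble (nat_lit 15108) i))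 (@Bool.rec (fun _ => ℕ) (@Bool.rec (fun _ => ℕ) (@Bool.rec (fun _ => ℕ) rb15112 rb15113 (Nat.ble (nat_lit 15113) i)) (@Bool.rec (fun _ => ℕ) rb15114 rb15115 (Nat.ble (nat_lit 15115) i)) (Nat.ble (nat_lit 15114) i)) (@Bool.rec (fun _ => ℕ) (@Bool.rec (fun _ => ℕ) rb15116 rb15117 (Nat.ble (nat_lit 15117) i)) (@Bool.rec (fun _ => ℕ) rb15118 rb15119 (Nat.ble (nat_lit 15119) i)) (Nat.ble (nat_lit 15118) i)) (Nat.ble (nat_lit 15116) i)) (Nat.ble (nat_lit 15112) i)) (@Bool.rec (fun _ => ℕ) (@Bool.rec (fun _ => ℕ) (@Bool.rec (fun _ => ℕ) (@Bool.rec (fun _ => ℕ) rb15120 rb15121 (Nat.ble (nat_lit 15121) i)) (@Bool.rec (fun _ => ℕ) rb15122 rb15123 (Nat.ble (nat_lit 15123) i)) (Nat.ble (nat_lit 15122) i)) (@Bool.rec (fun _ => ℕ) (@Bool.rec (fun _ => ℕ) rb15124 rb15125 (Nat.ble (nat_lit 15125) i)) (@Bool.rec (fun _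 => ℕ) rb15126 rb15127 (Nat.ble (nat_lit 15127) i)) (Nat.ble (nat_lit 15126) i)) (Nat.ble (nat_lit 15124) i)) (@Bool.rec (fun _ => ℕ) (@Bool.rec (fun _ => ℕ) (@Bool.rec (fun _ => ℕ) rb15128 rb15129 (Nat.ble (nat_lit 15129) i)) (@Bool.rec (fun _ => ℕ) rb15130 rb15131 (Nat.ble (nat_lit 15131) i)) (Nat.ble (nat_lit 15130) i)) (@Bool.rec (fun _ => ℕ) (@Bool.rec (fun _ => ℕ) rb15132 rb15133 (Nat.ble (nat_lit 15133) i)) (@Bool.rec (fun _ => ℕ) rb15134 rb15135 (Nat.ble (nat_lit 15135) i)) (Nat.ble (nat_lit 15134) i)) (Nat.ble (nat_lit 15132) i)) (Nat.ble (nat_lit 15128) i)) (Nat.ble (nat_lit 15120) i))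

def rowBlk_n0_473 (i : ℕ) : ℕ := (@Bool.rec (fun _ => ℕ) (@Bool.rec (fun _ => ℕ) (@Bool.rec (fun _ => ℕ) (@Bool.rec (fun _ => ℕ) (@Bool.rec (fun _ => ℕ) rb15136 rb15137 (Nat.ble (nat_lit 15137) i)) (@Bool.rec (fun _ => ℕ) rb15138 rb15139 (Nat.ble (nat_lit 15139) i)) (Nat.ble (nat_lit 15138) i)) (@Bool.rec (fun _ => ℕ) (@Bool.rec (fun _ => ℕ) rb15140 rb15141 (Nat.ble (nat_lit 15141) i)) (@Bool.rec (fun _ => ℕ) rb15142 rb15143 (Nat.ble (nat_lit 15143) i)) (Nat.ble (nat_lit 15142) i)) (Nat.ble (nat_lit 15140) i)) (@Bool.rec (fun _ => ℕ) (@Bool.rec (fun _ => ℕ) (@Bool.rec (fun _ => ℕ) rb15144 rb15145 (Nat.ble (nat_lit 15145) i)) (@Bool.rec (fun _ => ℕ) rb15146 rb15147 (Nat.ble (nat_lit 15147) i)) (Nat.ble (nat_lit 15146) i)) (@Bool.rec (fun _ => ℕ) (@Bool.rec (fun _ => ℕ) rb15148 rb15149 (Nat.ble (nat_lit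 15149) i)) (@Bool.rec (fun _ => ℕ) rb15150 rb15151 (Nat.ble (nat_lit 15151) i)) (Nat.ble (nat_lit 15150) i)) (Nat.ble (nat_lit 15148) i)) (Nat.ble (nat_lit 15144) i)) (@Bool.rec (fun _ => ℕ) (@Bool.rec (fun _ => ℕ) (@Bool.rec (fun _ => ℕ) (@Bool.rec (fun _ => ℕ) rb15152 rb15153 (Nat.ble (nat_lit 15153) i)) (@Bool.rec (fun _ => ℕ) rb15154 rb15155 (Nat.ble (nat_lit 15155) i)) (Nat.ble (nat_lit 15154) i)) (@Bool.rec (fun _ => ℕ) (@Bool.rec (fun _ => ℕ) rb15156 rb15157 (Nat.ble (nat_lit 15157) i)) (@Bool.rec (fun _ => ℕ) rb15158 rb15159 (Nat.ble (nat_lit 15159) i)) (Nat.ble (nat_lit 15158) i)) (Nat.ble (nat_lit 15156) i)) (@Bool.rec (fun _ => ℕ) (@Bool.rec (fun _ => ℕ) (@Bool.rec (fun _ => ℕ) rb15160 rb15161 (Nat.ble (nat_lit 15161) i)) (@Bool.rec (fun _ => ℕ) rb15162 rb15163 (Nat.ble (nat_lit 15163) i)) (Nat.ble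 (nat_lit 15162) i)) (@Bool.rec (fun _ => ℕ) (@Bool.rec (fun _ => ℕ) rb15164 rb15165 (Nat.ble (nat_lit 15165) i)) (@Bool.rec (fun _ => ℕ) rb15166 rb15167 (Nat.ble (nat_lit 15167) i)) (Nat.ble (nat_lit 15166) i)) (Nat.ble (nat_lit 15164) i)) (Nat.ble (nat_lit 15160) i)) (Nat.ble (nat_lit 15152) i))

def rowBlk_n0_474 (i : ℕ) : ℕ := (@Bool.rec (fun _ => ℕ) (@Bool.rec (fun _ => ℕ) (@Bool.rec (fun _ => ℕ) (@Bool.rec (fun _ => ℕ) (@Bool.rec (fun _ => ℕ) rb15168 rb15169 (Nat.ble (nat_lit 15169) i)) (@Bool.rec (fun _ => ℕ) rb15170 rb15171 (Nat.ble (nat_lit 15171) i)) (Nat.ble (nat_lit 15170) i)) (@Bool.rec (fun _ => ℕ) (@Bool.rec (fun _ => ℕ) rb15172 rb15173 (Nat.ble (nat_lit 15173) i)) (@Bool.rec (fun _ => ℕ) rb15174 rb15175 (Nat.ble (nat_lit 15175) i)) (Nat.ble (nat_lit 15174) i)) (Nat.ble (nat_lit 15172) i))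 (@Bool.rec (fun _ => ℕ) (@Bool.rec (fun _ => ℕ) (@Bool.rec (fun _ => ℕ) rb15176 rb15177 (Nat.ble (nat_lit 15177) i)) (@Bool.rec (fun _ => ℕ) rb15178 rb15179 (Nat.ble (nat_lit 15179) i)) (Nat.ble (nat_lit 15178) i)) (@Bool.rec (fun _ => ℕ) (@Bool.rec (fun _ => ℕ) rb15180 rb15181 (Nat.ble (nat_lit 15181) i)) (@Bool.rec (fun _ => ℕ) rb15182 rb15183 (Nat.ble (nat_lit 15183) i)) (Nat.ble (nat_lit 15182) i)) (Nat.ble (nat_lit 15180) i)) (Nat.ble (nat_lit 15176) i)) (@Bool.rec (fun _ => ℕ) (@Bool.rec (fun _ => ℕ) (@Bool.rec (fun _ => ℕ) (@Bool.rec (fun _ => ℕ) rb15184 rb15185 (Nat.ble (nat_lit 15185) i)) (@Bool.rec (fun _ => ℕ) rb15186 rb15187 (Nat.ble (nat_lit 15187) i)) (Nat.ble (nat_lit 15186) i)) (@Bool.rec (fun _ => ℕ) (@Bool.rec (fun _ => ℕ) rb15188 rb15189 (Nat.ble (nat_lit 15189) i)) (@Bool.rec (fun _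 => ℕ) rb15190 rb15191 (Nat.ble (nat_lit 15191) i)) (Nat.ble (nat_lit 15190) i)) (Nat.ble (nat_lit 15188) i)) (@Bool.rec (fun _ => ℕ) (@Bool.rec (fun _ => ℕ) (@Bool.rec (fun _ => ℕ) rb15192 rb15193 (Nat.ble (nat_lit 15193) i)) (@Bool.rec (fun _ => ℕ) rb15194 rb15195 (Nat.ble (nat_lit 15195) i)) (Nat.ble (nat_lit 15194) i)) (@Bool.rec (fun _ => ℕ) (@Bool.rec (fun _ => ℕ) rb15196 rb15197 (Nat.ble (nat_lit 15197) i)) (@Bool.rec (fun _ => ℕ) rb15198 rb15199 (Nat.ble (nat_lit 15199) i)) (Nat.ble (nat_lit 15198) i)) (Nat.ble (nat_lit 15196) i)) (Nat.ble (nat_lit 15192) i)) (Nat.ble (nat_lit 15184) i))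

def rowBlk_n0_475 (i : ℕ) : ℕ := (@Bool.rec (fun _ => ℕ) (@Bool.rec (fun _ => ℕ) (@Bool.rec (fun _ => ℕ) (@Bool.rec (fun _ => ℕ) (@Bool.rec (fun _ => ℕ) rb15200 rb15201 (Nat.ble (nat_lit 15201) i)) (@Bool.rec (fun _ => ℕ) rb15202 rb15203 (Nat.ble (nat_lit 15203) i)) (Nat.ble (nat_lit 15202) i)) (@Bool.rec (fun _ => ℕ) (@Bool.rec (fun _ => ℕ) rb15204 rb15205 (Nat.ble (nat_lit 15205) i)) (@Bool.rec (fun _ => ℕ) rb15206 rb15207 (Nat.ble (nat_lit 15207) i)) (Nat.ble (nat_lit 15206) i)) (Nat.ble (nat_lit 15204) i)) (@Bool.rec (fun _ => ℕ) (@Bool.rec (fun _ => ℕ) (@Bool.rec (fun _ => ℕ) rb15208 rb15209 (Nat.ble (nat_lit 15209) i)) (@Bool.rec (fun _ => ℕ) rb15210 rb15211 (Nat.ble (nat_lit 15211) i)) (Nat.ble (nat_lit 15210) i)) (@Bool.rec (fun _ => ℕ) (@Bool.rec (fun _ => ℕ) rb15212 rb15213 (Nat.ble (nat_lit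 15213) i)) (@Bool.rec (fun _ => ℕ) rb15214 rb15215 (Nat.ble (nat_lit 15215) i)) (Nat.ble (nat_lit 15214) i)) (Nat.ble (nat_lit 15212) i)) (Nat.ble (nat_lit 15208) i)) (@Bool.rec (fun _ => ℕ) (@Bool.rec (fun _ => ℕ) (@Bool.rec (fun _ => ℕ) (@Bool.rec (fun _ => ℕ) rb15216 rb15217 (Nat.ble (nat_lit 15217) i)) (@Bool.rec (fun _ => ℕ) rb15218 rb15219 (Nat.ble (nat_lit 15219) i)) (Nat.ble (nat_lit 15218) i)) (@Bool.rec (fun _ => ℕ) (@Bool.rec (fun _ => ℕ) rb15220 rb15221 (Nat.ble (nat_lit 15221) i)) (@Bool.rec (fun _ => ℕ) rb15222 rb15223 (Nat.ble (nat_lit 15223) i)) (Nat.ble (nat_lit 15222) i)) (Nat.ble (nat_lit 15220) i)) (@Bool.rec (fun _ => ℕ) (@Bool.rec (fun _ => ℕ) (@Bool.rec (fun _ => ℕ) rb15224 rb15225 (Nat.ble (nat_lit 15225) i)) (@Bool.rec (fun _ => ℕ) rb15226 rb15227 (Nat.ble (nat_lit 15227) i)) (Nat.ble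 (nat_lit 15226) i)) (@Bool.rec (fun _ => ℕ) (@Bool.rec (fun _ => ℕ) rb15228 rb15229 (Nat.ble (nat_lit 15229) i)) (@Bool.rec (fun _ => ℕ) rb15230 rb15231 (Nat.ble (nat_lit 15231) i)) (Nat.ble (nat_lit 15230) i)) (Nat.ble (nat_lit 15228) i)) (Nat.ble (nat_lit 15224) i)) (Nat.ble (nat_lit 15216) i))

def rowBlk_n0_476 (i : ℕ) : ℕ := (@Bool.rec (fun _ => ℕ) (@Bool.rec (fun _ => ℕ) (@Bool.rec (fun _ => ℕ) (@Bool.rec (fun _ => ℕ) (@Bool.rec (fun _ => ℕ) rb15232 rb15233 (Nat.ble (nat_lit 15233) i)) (@Bool.rec (fun _ => ℕ) rb15234 rb15235 (Nat.ble (nat_lit 15235) i)) (Nat.ble (nat_lit 15234) i)) (@Bool.rec (fun _ => ℕ) (@Bool.rec (fun _ => ℕ) rb15236 rb15237 (Nat.ble (nat_lit 15237) i)) (@Bool.rec (fun _ => ℕ) rb15238 rb15239 (Nat.ble (nat_lit 15239) i)) (Nat.ble (nat_lit 15238) i)) (Nat.ble (nat_lit 15236) i))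 (@Bool.rec (fun _ => ℕ) (@Bool.rec (fun _ => ℕ) (@Bool.rec (fun _ => ℕ) rb15240 rb15241 (Nat.ble (nat_lit 15241) i)) (@Bool.rec (fun _ => ℕ) rb15242 rb15243 (Nat.ble (nat_lit 15243) i)) (Nat.ble (nat_lit 15242) i)) (@Bool.rec (fun _ => ℕ) (@Bool.rec (fun _ => ℕ) rb15244 rb15245 (Nat.ble (nat_lit 15245) i)) (@Bool.rec (fun _ => ℕ) rb15246 rb15247 (Nat.ble (nat_lit 15247) i)) (Nat.ble (nat_lit 15246) i)) (Nat.ble (nat_lit 15244) i)) (Nat.ble (nat_lit 15240) i)) (@Bool.rec (fun _ => ℕ) (@Bool.rec (fun _ => ℕ) (@Bool.rec (fun _ => ℕ) (@Bool.rec (fun _ => ℕ) rb15248 rb15249 (Nat.ble (nat_lit 15249) i)) (@Bool.rec (fun _ => ℕ) rb15250 rb15251 (Nat.ble (nat_lit 15251) i)) (Nat.ble (nat_lit 15250) i)) (@Bool.rec (fun _ => ℕ) (@Bool.rec (fun _ => ℕ) rb15252 rb15253 (Nat.ble (nat_lit 15253) i)) (@Bool.rec (fun _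 => ℕ) rb15254 rb15255 (Nat.ble (nat_lit 15255) i)) (Nat.ble (nat_lit 15254) i)) (Nat.ble (nat_lit 15252) i)) (@Bool.rec (fun _ => ℕ) (@Bool.rec (fun _ => ℕ) (@Bool.rec (fun _ => ℕ) rb15256 rb15257 (Nat.ble (nat_lit 15257) i)) (@Bool.rec (fun _ => ℕ) rb15258 rb15259 (Nat.ble (nat_lit 15259) i)) (Nat.ble (nat_lit 15258) i)) (@Bool.rec (fun _ => ℕ) (@Bool.rec (fun _ => ℕ) rb15260 rb15261 (Nat.ble (nat_lit 15261) i)) (@Bool.rec (fun _ => ℕ) rb15262 rb15263 (Nat.ble (nat_lit 15263) i)) (Nat.ble (nat_lit 15262) i)) (Nat.ble (nat_lit 15260) i)) (Nat.ble (nat_lit 15256) i)) (Nat.ble (nat_lit 15248) i))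

def rowBlk_n0_477 (i : ℕ) : ℕ := (@Bool.rec (fun _ => ℕ) (@Bool.rec (fun _ => ℕ) (@Bool.rec (fun _ => ℕ) (@Bool.rec (fun _ => ℕ) (@Bool.rec (fun _ => ℕ) rb15264 rb15265 (Nat.ble (nat_lit 15265) i)) (@Bool.rec (fun _ => ℕ) rb15266 rb15267 (Nat.ble (nat_lit 15267) i)) (Nat.ble (nat_lit 15266) i)) (@Bool.rec (fun _ => ℕ) (@Bool.rec (fun _ => ℕ) rb15268 rb15269 (Nat.ble (nat_lit 15269) i)) (@Bool.rec (fun _ => ℕ) rb15270 rb15271 (Nat.ble (nat_lit 15271) i)) (Nat.ble (nat_lit 15270) i)) (Nat.ble (nat_lit 15268) i)) (@Bool.rec (fun _ => ℕ) (@Bool.rec (fun _ => ℕ) (@Bool.rec (fun _ => ℕ) rb15272 rb15273 (Nat.ble (nat_lit 15273) i)) (@Bool.rec (fun _ => ℕ) rb15274 rb15275 (Nat.ble (nat_lit 15275) i)) (Nat.ble (nat_lit 15274) i)) (@Bool.rec (fun _ => ℕ) (@Bool.rec (fun _ => ℕ) rb15276 rb15277 (Nat.ble (nat_lit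 15277) i)) (@Bool.rec (fun _ => ℕ) rb15278 rb15279 (Nat.ble (nat_lit 15279) i)) (Nat.ble (nat_lit 15278) i)) (Nat.ble (nat_lit 15276) i)) (Nat.ble (nat_lit 15272) i)) (@Bool.rec (fun _ => ℕ) (@Bool.rec (fun _ => ℕ) (@Bool.rec (fun _ => ℕ) (@Bool.rec (fun _ => ℕ) rb15280 rb15281 (Nat.ble (nat_lit 15281) i)) (@Bool.rec (fun _ => ℕ) rb15282 rb15283 (Nat.ble (nat_lit 15283) i)) (Nat.ble (nat_lit 15282) i)) (@Bool.rec (fun _ => ℕ) (@Bool.rec (fun _ => ℕ) rb15284 rb15285 (Nat.ble (nat_lit 15285) i)) (@Bool.rec (fun _ => ℕ) rb15286 rb15287 (Nat.ble (nat_lit 15287) i)) (Nat.ble (nat_lit 15286) i)) (Nat.ble (nat_lit 15284) i)) (@Bool.rec (fun _ => ℕ) (@Bool.rec (fun _ => ℕ) (@Bool.rec (fun _ => ℕ) rb15288 rb15289 (Nat.ble (nat_lit 15289) i)) (@Bool.rec (fun _ => ℕ) rb15290 rb15291 (Nat.ble (nat_lit 15291) i)) (Nat.ble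 (nat_lit 15290) i)) (@Bool.rec (fun _ => ℕ) (@Bool.rec (fun _ => ℕ) rb15292 rb15293 (Nat.ble (nat_lit 15293) i)) (@Bool.rec (fun _ => ℕ) rb15294 rb15295 (Nat.ble (nat_lit 15295) i)) (Nat.ble (nat_lit 15294) i)) (Nat.ble (nat_lit 15292) i)) (Nat.ble (nat_lit 15288) i)) (Nat.ble (nat_lit 15280) i))

def rowBlk_n0_478 (i : ℕ) : ℕ := (@Bool.rec (fun _ => ℕ) (@Bool.rec (fun _ => ℕ) (@Bool.rec (fun _ => ℕ) (@Bool.rec (fun _ => ℕ) (@Bool.rec (fun _ => ℕ) rb15296 rb15297 (Nat.ble (nat_lit 15297) i)) (@Bool.rec (fun _ => ℕ) rb15298 rb15299 (Nat.ble (nat_lit 15299) i)) (Nat.ble (nat_lit 15298) i)) (@Bool.rec (fun _ => ℕ) (@Bool.rec (fun _ => ℕ) rb15300 rb15301 (Nat.ble (nat_lit 15301) i)) (@Bool.rec (fun _ => ℕ) rb15302 rb15303 (Nat.ble (nat_lit 15303) i)) (Nat.ble (nat_lit 15302) i)) (Nat.ble (nat_lit 15300) i))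 (@Bool.rec (fun _ => ℕ) (@Bool.rec (fun _ => ℕ) (@Bool.rec (fun _ => ℕ) rb15304 rb15305 (Nat.ble (nat_lit 15305) i)) (@Bool.rec (fun _ => ℕ) rb15306 rb15307 (Nat.ble (nat_lit 15307) i)) (Nat.ble (nat_lit 15306) i)) (@Bool.rec (fun _ => ℕ) (@Bool.rec (fun _ => ℕ) rb15308 rb15309 (Nat.ble (nat_lit 15309) i)) (@Bool.rec (fun _ => ℕ) rb15310 rb15311 (Nat.ble (nat_lit 15311) i)) (Nat.ble (nat_lit 15310) i)) (Nat.ble (nat_lit 15308) i)) (Nat.ble (nat_lit 15304) i)) (@Bool.rec (fun _ => ℕ) (@Bool.rec (fun _ => ℕ) (@Bool.rec (fun _ => ℕ) (@Bool.rec (fun _ => ℕ) rb15312 rb15313 (Nat.ble (nat_lit 15313) i)) (@Bool.rec (fun _ => ℕ) rb15314 rb15315 (Nat.ble (nat_lit 15315) i)) (Nat.ble (nat_lit 15314) i)) (@Bool.rec (fun _ => ℕ) (@Bool.rec (fun _ => ℕ) rb15316 rb15317 (Nat.ble (nat_lit 15317) i)) (@Bool.rec (fun _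 => ℕ) rb15318 rb15319 (Nat.ble (nat_lit 15319) i)) (Nat.ble (nat_lit 15318) i)) (Nat.ble (nat_lit 15316) i)) (@Bool.rec (fun _ => ℕ) (@Bool.rec (fun _ => ℕ) (@Bool.rec (fun _ => ℕ) rb15320 rb15321 (Nat.ble (nat_lit 15321) i)) (@Bool.rec (fun _ => ℕ) rb15322 rb15323 (Nat.ble (nat_lit 15323) i)) (Nat.ble (nat_lit 15322) i)) (@Bool.rec (fun _ => ℕ) (@Bool.rec (fun _ => ℕ) rb15324 rb15325 (Nat.ble (nat_lit 15325) i)) (@Bool.rec (fun _ => ℕ) rb15326 rb15327 (Nat.ble (nat_lit 15327) i)) (Nat.ble (nat_lit 15326) i)) (Nat.ble (nat_lit 15324) i)) (Nat.ble (nat_lit 15320) i)) (Nat.ble (nat_lit 15312) i))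

def rowBlk_n0_479 (i : ℕ) : ℕ := (@Bool.rec (fun _ => ℕ) (@Bool.rec (fun _ => ℕ) (@Bool.rec (fun _ => ℕ) (@Bool.rec (fun _ => ℕ) (@Bool.rec (fun _ => ℕ) rb15328 rb15329 (Nat.ble (nat_lit 15329) i)) (@Bool.rec (fun _ => ℕ) rb15330 rb15331 (Nat.ble (nat_lit 15331) i)) (Nat.ble (nat_lit 15330) i)) (@Bool.rec (fun _ => ℕ) (@Bool.rec (fun _ => ℕ) rb15332 rb15333 (Nat.ble (nat_lit 15333) i)) (@Bool.rec (fun _ => ℕ) rb15334 rb15335 (Nat.ble (nat_lit 15335) i)) (Nat.ble (nat_lit 15334) i)) (Nat.ble (nat_lit 15332) i)) (@Bool.rec (fun _ => ℕ) (@Bool.rec (fun _ => ℕ) (@Bool.rec (fun _ => ℕ) rb15336 rb15337 (Nat.ble (nat_lit 15337) i)) (@Bool.rec (fun _ => ℕ) rb15338 rb15339 (Nat.ble (nat_lit 15339) i)) (Nat.ble (nat_lit 15338) i)) (@Bool.rec (fun _ => ℕ) (@Bool.rec (fun _ => ℕ) rb15340 rb15341 (Nat.ble (nat_lit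 15341) i)) (@Bool.rec (fun _ => ℕ) rb15342 rb15343 (Nat.ble (nat_lit 15343) i)) (Nat.ble (nat_lit 15342) i)) (Nat.ble (nat_lit 15340) i)) (Nat.ble (nat_lit 15336) i)) (@Bool.rec (fun _ => ℕ) (@Bool.rec (fun _ => ℕ) (@Bool.rec (fun _ => ℕ) (@Bool.rec (fun _ => ℕ) rb15344 rb15345 (Nat.ble (nat_lit 15345) i)) (@Bool.rec (fun _ => ℕ) rb15346 rb15347 (Nat.ble (nat_lit 15347) i)) (Nat.ble (nat_lit 15346) i)) (@Bool.rec (fun _ => ℕ) (@Bool.rec (fun _ => ℕ) rb15348 rb15349 (Nat.ble (nat_lit 15349) i)) (@Bool.rec (fun _ => ℕ) rb15350 rb15351 (Nat.ble (nat_lit 15351) i)) (Nat.ble (nat_lit 15350) i)) (Nat.ble (nat_lit 15348) i)) (@Bool.rec (fun _ => ℕ) (@Bool.rec (fun _ => ℕ) (@Bool.rec (fun _ => ℕ) rb15352 rb15353 (Nat.ble (nat_lit 15353) i)) (@Bool.rec (fun _ => ℕ) rb15354 rb15355 (Nat.ble (nat_lit 15355) i)) (Nat.ble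 (nat_lit 15354) i)) (@Bool.rec (fun _ => ℕ) (@Bool.rec (fun _ => ℕ) rb15356 rb15357 (Nat.ble (nat_lit 15357) i)) (@Bool.rec (fun _ => ℕ) rb15358 rb15359 (Nat.ble (nat_lit 15359) i)) (Nat.ble (nat_lit 15358) i)) (Nat.ble (nat_lit 15356) i)) (Nat.ble (nat_lit 15352) i)) (Nat.ble (nat_lit 15344) i))

def rowBlk_n0_480 (i : ℕ) : ℕ := (@Bool.rec (fun _ => ℕ) (@Bool.rec (fun _ => ℕ) (@Bool.rec (fun _ => ℕ) (@Bool.rec (fun _ => ℕ) (@Bool.rec (fun _ => ℕ) rb15360 rb15361 (Nat.ble (nat_lit 15361) i)) (@Bool.rec (fun _ => ℕ) rb15362 rb15363 (Nat.ble (nat_lit 15363) i)) (Nat.ble (nat_lit 15362) i)) (@Bool.rec (fun _ => ℕ) (@Bool.rec (fun _ => ℕ) rb15364 rb15365 (Nat.ble (nat_lit 15365) i)) (@Bool.rec (fun _ => ℕ) rb15366 rb15367 (Nat.ble (nat_lit 15367) i)) (Nat.ble (nat_lit 15366) i)) (Nat.ble (nat_lit 15364) i))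 (@Bool.rec (fun _ => ℕ) (@Bool.rec (fun _ => ℕ) (@Bool.rec (fun _ => ℕ) rb15368 rb15369 (Nat.ble (nat_lit 15369) i)) (@Bool.rec (fun _ => ℕ) rb15370 rb15371 (Nat.ble (nat_lit 15371) i)) (Nat.ble (nat_lit 15370) i)) (@Bool.rec (fun _ => ℕ) (@Bool.rec (fun _ => ℕ) rb15372 rb15373 (Nat.ble (nat_lit 15373) i)) (@Bool.rec (fun _ => ℕ) rb15374 rb15375 (Nat.ble (nat_lit 15375) i)) (Nat.ble (nat_lit 15374) i)) (Nat.ble (nat_lit 15372) i)) (Nat.ble (nat_lit 15368) i)) (@Bool.rec (fun _ => ℕ) (@Bool.rec (fun _ => ℕ) (@Bool.rec (fun _ => ℕ) (@Bool.rec (fun _ => ℕ) rb15376 rb15377 (Nat.ble (nat_lit 15377) i)) (@Bool.rec (fun _ => ℕ) rb15378 rb15379 (Nat.ble (nat_lit 15379) i)) (Nat.ble (nat_lit 15378) i)) (@Bool.rec (fun _ => ℕ) (@Bool.rec (fun _ => ℕ) rb15380 rb15381 (Nat.ble (nat_lit 15381) i)) (@Bool.rec (fun _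 => ℕ) rb15382 rb15383 (Nat.ble (nat_lit 15383) i)) (Nat.ble (nat_lit 15382) i)) (Nat.ble (nat_lit 15380) i)) (@Bool.rec (fun _ => ℕ) (@Bool.rec (fun _ => ℕ) (@Bool.rec (fun _ => ℕ) rb15384 rb15385 (Nat.ble (nat_lit 15385) i)) (@Bool.rec (fun _ => ℕ) rb15386 rb15387 (Nat.ble (nat_lit 15387) i)) (Nat.ble (nat_lit 15386) i)) (@Bool.rec (fun _ => ℕ) (@Bool.rec (fun _ => ℕ) rb15388 rb15389 (Nat.ble (nat_lit 15389) i)) (@Bool.rec (fun _ => ℕ) rb15390 rb15391 (Nat.ble (nat_lit 15391) i)) (Nat.ble (nat_lit 15390) i)) (Nat.ble (nat_lit 15388) i)) (Nat.ble (nat_lit 15384) i)) (Nat.ble (nat_lit 15376) i))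

def rowBlk_n0_481 (i : ℕ) : ℕ := (@Bool.rec (fun _ => ℕ) (@Bool.rec (fun _ => ℕ) (@Bool.rec (fun _ => ℕ) (@Bool.rec (fun _ => ℕ) (@Bool.rec (fun _ => ℕ) rb15392 rb15393 (Nat.ble (nat_lit 15393) i)) (@Bool.rec (fun _ => ℕ) rb15394 rb15395 (Nat.ble (nat_lit 15395) i)) (Nat.ble (nat_lit 15394) i)) (@Bool.rec (fun _ => ℕ) (@Bool.rec (fun _ => ℕ) rb15396 rb15397 (Nat.ble (nat_lit 15397) i)) (@Bool.rec (fun _ => ℕ) rb15398 rb15399 (Nat.ble (nat_lit 15399) i)) (Nat.ble (nat_lit 15398) i)) (Nat.ble (nat_lit 15396) i)) (@Bool.rec (fun _ => ℕ) (@Bool.rec (fun _ => ℕ) (@Bool.rec (fun _ => ℕ) rb15400 rb15401 (Nat.ble (nat_lit 15401) i)) (@Bool.rec (fun _ => ℕ) rb15402 rb15403 (Nat.ble (nat_lit 15403) i)) (Nat.ble (nat_lit 15402) i)) (@Bool.rec (fun _ => ℕ) (@Bool.rec (fun _ => ℕ) rb15404 rb15405 (Nat.ble (nat_lit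 15405) i)) (@Bool.rec (fun _ => ℕ) rb15406 rb15407 (Nat.ble (nat_lit 15407) i)) (Nat.ble (nat_lit 15406) i)) (Nat.ble (nat_lit 15404) i)) (Nat.ble (nat_lit 15400) i)) (@Bool.rec (fun _ => ℕ) (@Bool.rec (fun _ => ℕ) (@Bool.rec (fun _ => ℕ) (@Bool.rec (fun _ => ℕ) rb15408 rb15409 (Nat.ble (nat_lit 15409) i)) (@Bool.rec (fun _ => ℕ) rb15410 rb15411 (Nat.ble (nat_lit 15411) i)) (Nat.ble (nat_lit 15410) i)) (@Bool.rec (fun _ => ℕ) (@Bool.rec (fun _ => ℕ) rb15412 rb15413 (Nat.ble (nat_lit 15413) i)) (@Bool.rec (fun _ => ℕ) rb15414 rb15415 (Nat.ble (nat_lit 15415) i)) (Nat.ble (nat_lit 15414) i)) (Nat.ble (nat_lit 15412) i)) (@Bool.rec (fun _ => ℕ) (@Bool.rec (fun _ => ℕ) (@Bool.rec (fun _ => ℕ) rb15416 rb15417 (Nat.ble (nat_lit 15417) i)) (@Bool.rec (fun _ => ℕ) rb15418 rb15419 (Nat.ble (nat_lit 15419) i)) (Nat.ble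 (nat_lit 15418) i)) (@Bool.rec (fun _ => ℕ) (@Bool.rec (fun _ => ℕ) rb15420 rb15421 (Nat.ble (nat_lit 15421) i)) (@Bool.rec (fun _ => ℕ) rb15422 rb15423 (Nat.ble (nat_lit 15423) i)) (Nat.ble (nat_lit 15422) i)) (Nat.ble (nat_lit 15420) i)) (Nat.ble (nat_lit 15416) i)) (Nat.ble (nat_lit 15408) i))

def rowBlk_n0_482 (i : ℕ) : ℕ := (@Bool.rec (fun _ => ℕ) (@Bool.rec (fun _ => ℕ) (@Bool.rec (fun _ => ℕ) (@Bool.rec (fun _ => ℕ) (@Bool.rec (fun _ => ℕ) rb15424 rb15425 (Nat.ble (nat_lit 15425) i)) (@Bool.rec (fun _ => ℕ) rb15426 rb15427 (Nat.ble (nat_lit 15427) i)) (Nat.ble (nat_lit 15426) i)) (@Bool.rec (fun _ => ℕ) (@Bool.rec (fun _ => ℕ) rb15428 rb15429 (Nat.ble (nat_lit 15429) i)) (@Bool.rec (fun _ => ℕ) rb15430 rb15431 (Nat.ble (nat_lit 15431) i)) (Nat.ble (nat_lit 15430) i)) (Nat.ble (nat_lit 15428) i))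 (@Bool.rec (fun _ => ℕ) (@Bool.rec (fun _ => ℕ) (@Bool.rec (fun _ => ℕ) rb15432 rb15433 (Nat.ble (nat_lit 15433) i)) (@Bool.rec (fun _ => ℕ) rb15434 rb15435 (Nat.ble (nat_lit 15435) i)) (Nat.ble (nat_lit 15434) i)) (@Bool.rec (fun _ => ℕ) (@Bool.rec (fun _ => ℕ) rb15436 rb15437 (Nat.ble (nat_lit 15437) i)) (@Bool.rec (fun _ => ℕ) rb15438 rb15439 (Nat.ble (nat_lit 15439) i)) (Nat.ble (nat_lit 15438) i)) (Nat.ble (nat_lit 15436) i)) (Nat.ble (nat_lit 15432) i)) (@Bool.rec (fun _ => ℕ) (@Bool.rec (fun _ => ℕ) (@Bool.rec (fun _ => ℕ) (@Bool.rec (fun _ => ℕ) rb15440 rb15441 (Nat.ble (nat_lit 15441) i)) (@Bool.rec (fun _ => ℕ) rb15442 rb15443 (Nat.ble (nat_lit 15443) i)) (Nat.ble (nat_lit 15442) i)) (@Bool.rec (fun _ => ℕ) (@Bool.rec (fun _ => ℕ) rb15444 rb15445 (Nat.ble (nat_lit 15445) i)) (@Bool.rec (fun _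 => ℕ) rb15446 rb15447 (Nat.ble (nat_lit 15447) i)) (Nat.ble (nat_lit 15446) i)) (Nat.ble (nat_lit 15444) i)) (@Bool.rec (fun _ => ℕ) (@Bool.rec (fun _ => ℕ) (@Bool.rec (fun _ => ℕ) rb15448 rb15449 (Nat.ble (nat_lit 15449) i)) (@Bool.rec (fun _ => ℕ) rb15450 rb15451 (Nat.ble (nat_lit 15451) i)) (Nat.ble (nat_lit 15450) i)) (@Bool.rec (fun _ => ℕ) (@Bool.rec (fun _ => ℕ) rb15452 rb15453 (Nat.ble (nat_lit 15453) i)) (@Bool.rec (fun _ => ℕ) rb15454 rb15455 (Nat.ble (nat_lit 15455) i)) (Nat.ble (nat_lit 15454) i)) (Nat.ble (nat_lit 15452) i)) (Nat.ble (nat_lit 15448) i)) (Nat.ble (nat_lit 15440) i))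

def rowBlk_n0_483 (i : ℕ) : ℕ := (@Bool.rec (fun _ => ℕ) (@Bool.rec (fun _ => ℕ) (@Bool.rec (fun _ => ℕ) (@Bool.rec (fun _ => ℕ) (@Bool.rec (fun _ => ℕ) rb15456 rb15457 (Nat.ble (nat_lit 15457) i)) (@Bool.rec (fun _ => ℕ) rb15458 rb15459 (Nat.ble (nat_lit 15459) i)) (Nat.ble (nat_lit 15458) i)) (@Bool.rec (fun _ => ℕ) (@Bool.rec (fun _ => ℕ) rb15460 rb15461 (Nat.ble (nat_lit 15461) i)) (@Bool.rec (fun _ => ℕ) rb15462 rb15463 (Nat.ble (nat_lit 15463) i)) (Nat.ble (nat_lit 15462) i)) (Nat.ble (nat_lit 15460) i)) (@Bool.rec (fun _ => ℕ) (@Bool.rec (fun _ => ℕ) (@Bool.rec (fun _ => ℕ) rb15464 rb15465 (Nat.ble (nat_lit 15465) i)) (@Bool.rec (fun _ => ℕ) rb15466 rb15467 (Nat.ble (nat_lit 15467) i)) (Nat.ble (nat_lit 15466) i)) (@Bool.rec (fun _ => ℕ) (@Bool.rec (fun _ => ℕ) rb15468 rb15469 (Nat.ble (nat_lit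 15469) i)) (@Bool.rec (fun _ => ℕ) rb15470 rb15471 (Nat.ble (nat_lit 15471) i)) (Nat.ble (nat_lit 15470) i)) (Nat.ble (nat_lit 15468) i)) (Nat.ble (nat_lit 15464) i)) (@Bool.rec (fun _ => ℕ) (@Bool.rec (fun _ => ℕ) (@Bool.rec (fun _ => ℕ) (@Bool.rec (fun _ => ℕ) rb15472 rb15473 (Nat.ble (nat_lit 15473) i)) (@Bool.rec (fun _ => ℕ) rb15474 rb15475 (Nat.ble (nat_lit 15475) i)) (Nat.ble (nat_lit 15474) i)) (@Bool.rec (fun _ => ℕ) (@Bool.rec (fun _ => ℕ) rb15476 rb15477 (Nat.ble (nat_lit 15477) i)) (@Bool.rec (fun _ => ℕ) rb15478 rb15479 (Nat.ble (nat_lit 15479) i)) (Nat.ble (nat_lit 15478) i)) (Nat.ble (nat_lit 15476) i)) (@Bool.rec (fun _ => ℕ) (@Bool.rec (fun _ => ℕ) (@Bool.rec (fun _ => ℕ) rb15480 rb15481 (Nat.ble (nat_lit 15481) i)) (@Bool.rec (fun _ => ℕ) rb15482 rb15483 (Nat.ble (nat_lit 15483) i)) (Nat.ble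 (nat_lit 15482) i)) (@Bool.rec (fun _ => ℕ) (@Bool.rec (fun _ => ℕ) rb15484 rb15485 (Nat.ble (nat_lit 15485) i)) (@Bool.rec (fun _ => ℕ) rb15486 rb15487 (Nat.ble (nat_lit 15487) i)) (Nat.ble (nat_lit 15486) i)) (Nat.ble (nat_lit 15484) i)) (Nat.ble (nat_lit 15480) i)) (Nat.ble (nat_lit 15472) i))

def rowBlk_n0_484 (i : ℕ) : ℕ := (@Bool.rec (fun _ => ℕ) (@Bool.rec (fun _ => ℕ) (@Bool.rec (fun _ => ℕ) (@Bool.rec (fun _ => ℕ) (@Bool.rec (fun _ => ℕ) rb15488 rb15489 (Nat.ble (nat_lit 15489) i)) (@Bool.rec (fun _ => ℕ) rb15490 rb15491 (Nat.ble (nat_lit 15491) i)) (Nat.ble (nat_lit 15490) i)) (@Bool.rec (fun _ => ℕ) (@Bool.rec (fun _ => ℕ) rb15492 rb15493 (Nat.ble (nat_lit 15493) i)) (@Bool.rec (fun _ => ℕ) rb15494 rb15495 (Nat.ble (nat_lit 15495) i)) (Nat.ble (nat_lit 15494) i)) (Nat.ble (nat_lit 15492) i))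 (@Bool.rec (fun _ => ℕ) (@Bool.rec (fun _ => ℕ) (@Bool.rec (fun _ => ℕ) rb15496 rb15497 (Nat.ble (nat_lit 15497) i)) (@Bool.rec (fun _ => ℕ) rb15498 rb15499 (Nat.ble (nat_lit 15499) i)) (Nat.ble (nat_lit 15498) i)) (@Bool.rec (fun _ => ℕ) (@Bool.rec (fun _ => ℕ) rb15500 rb15501 (Nat.ble (nat_lit 15501) i)) (@Bool.rec (fun _ => ℕ) rb15502 rb15503 (Nat.ble (nat_lit 15503) i)) (Nat.ble (nat_lit 15502) i)) (Nat.ble (nat_lit 15500) i)) (Nat.ble (nat_lit 15496) i)) (@Bool.rec (fun _ => ℕ) (@Bool.rec (fun _ => ℕ) (@Bool.rec (fun _ => ℕ) (@Bool.rec (fun _ => ℕ) rb15504 rb15505 (Nat.ble (nat_lit 15505) i)) (@Bool.rec (fun _ => ℕ) rb15506 rb15507 (Nat.ble (nat_lit 15507) i)) (Nat.ble (nat_lit 15506) i)) (@Bool.rec (fun _ => ℕ) (@Bool.rec (fun _ => ℕ) rb15508 rb15509 (Nat.ble (nat_lit 15509) i)) (@Bool.rec (fun _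 => ℕ) rb15510 rb15511 (Nat.ble (nat_lit 15511) i)) (Nat.ble (nat_lit 15510) i)) (Nat.ble (nat_lit 15508) i)) (@Bool.rec (fun _ => ℕ) (@Bool.rec (fun _ => ℕ) (@Bool.rec (fun _ => ℕ) rb15512 rb15513 (Nat.ble (nat_lit 15513) i)) (@Bool.rec (fun _ => ℕ) rb15514 rb15515 (Nat.ble (nat_lit 15515) i)) (Nat.ble (nat_lit 15514) i)) (@Bool.rec (fun _ => ℕ) (@Bool.rec (fun _ => ℕ) rb15516 rb15517 (Nat.ble (nat_lit 15517) i)) (@Bool.rec (fun _ => ℕ) rb15518 rb15519 (Nat.ble (nat_lit 15519) i)) (Nat.ble (nat_lit 15518) i)) (Nat.ble (nat_lit 15516) i)) (Nat.ble (nat_lit 15512) i)) (Nat.ble (nat_lit 15504) i))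

def rowBlk_n0_485 (i : ℕ) : ℕ := (@Bool.rec (fun _ => ℕ) (@Bool.rec (fun _ => ℕ) (@Bool.rec (fun _ => ℕ) (@Bool.rec (fun _ => ℕ) (@Bool.rec (fun _ => ℕ) rb15520 rb15521 (Nat.ble (nat_lit 15521) i)) (@Bool.rec (fun _ => ℕ) rb15522 rb15523 (Nat.ble (nat_lit 15523) i)) (Nat.ble (nat_lit 15522) i)) (@Bool.rec (fun _ => ℕ) (@Bool.rec (fun _ => ℕ) rb15524 rb15525 (Nat.ble (nat_lit 15525) i)) (@Bool.rec (fun _ => ℕ) rb15526 rb15527 (Nat.ble (nat_lit 15527) i)) (Nat.ble (nat_lit 15526) i)) (Nat.ble (nat_lit 15524) i)) (@Bool.rec (fun _ => ℕ) (@Bool.rec (fun _ => ℕ) (@Bool.rec (fun _ => ℕ) rb15528 rb15529 (Nat.ble (nat_lit 15529) i)) (@Bool.rec (fun _ => ℕ) rb15530 rb15531 (Nat.ble (nat_lit 15531) i)) (Nat.ble (nat_lit 15530) i)) (@Bool.rec (fun _ => ℕ) (@Bool.rec (fun _ => ℕ) rb15532 rb15533 (Nat.ble (nat_lit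 15533) i)) (@Bool.rec (fun _ => ℕ) rb15534 rb15535 (Nat.ble (nat_lit 15535) i)) (Nat.ble (nat_lit 15534) i)) (Nat.ble (nat_lit 15532) i)) (Nat.ble (nat_lit 15528) i)) (@Bool.rec (fun _ => ℕ) (@Bool.rec (fun _ => ℕ) (@Bool.rec (fun _ => ℕ) (@Bool.rec (fun _ => ℕ) rb15536 rb15537 (Nat.ble (nat_lit 15537) i)) (@Bool.rec (fun _ => ℕ) rb15538 rb15539 (Nat.ble (nat_lit 15539) i)) (Nat.ble (nat_lit 15538) i)) (@Bool.rec (fun _ => ℕ) (@Bool.rec (fun _ => ℕ) rb15540 rb15541 (Nat.ble (nat_lit 15541) i)) (@Bool.rec (fun _ => ℕ) rb15542 rb15543 (Nat.ble (nat_lit 15543) i)) (Nat.ble (nat_lit 15542) i)) (Nat.ble (nat_lit 15540) i)) (@Bool.rec (fun _ => ℕ) (@Bool.rec (fun _ => ℕ) (@Bool.rec (fun _ => ℕ) rb15544 rb15545 (Nat.ble (nat_lit 15545) i)) (@Bool.rec (fun _ => ℕ) rb15546 rb15547 (Nat.ble (nat_lit 15547) i)) (Nat.ble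 (nat_lit 15546) i)) (@Bool.rec (fun _ => ℕ) (@Bool.rec (fun _ => ℕ) rb15548 rb15549 (Nat.ble (nat_lit 15549) i)) (@Bool.rec (fun _ => ℕ) rb15550 rb15551 (Nat.ble (nat_lit 15551) i)) (Nat.ble (nat_lit 15550) i)) (Nat.ble (nat_lit 15548) i)) (Nat.ble (nat_lit 15544) i)) (Nat.ble (nat_lit 15536) i))

def rowBlk_n0_486 (i : ℕ) : ℕ := (@Bool.rec (fun _ => ℕ) (@Bool.rec (fun _ => ℕ) (@Bool.rec (fun _ => ℕ) (@Bool.rec (fun _ => ℕ) (@Bool.rec (fun _ => ℕ) rb15552 rb15553 (Nat.ble (nat_lit 15553) i)) (@Bool.rec (fun _ => ℕ) rb15554 rb15555 (Nat.ble (nat_lit 15555) i)) (Nat.ble (nat_lit 15554) i)) (@Bool.rec (fun _ => ℕ) (@Bool.rec (fun _ => ℕ) rb15556 rb15557 (Nat.ble (nat_lit 15557) i)) (@Bool.rec (fun _ => ℕ) rb15558 rb15559 (Nat.ble (nat_lit 15559) i)) (Nat.ble (nat_lit 15558) i)) (Nat.ble (nat_lit 15556) i))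 (@Bool.rec (fun _ => ℕ) (@Bool.rec (fun _ => ℕ) (@Bool.rec (fun _ => ℕ) rb15560 rb15561 (Nat.ble (nat_lit 15561) i)) (@Bool.rec (fun _ => ℕ) rb15562 rb15563 (Nat.ble (nat_lit 15563) i)) (Nat.ble (nat_lit 15562) i)) (@Bool.rec (fun _ => ℕ) (@Bool.rec (fun _ => ℕ) rb15564 rb15565 (Nat.ble (nat_lit 15565) i)) (@Bool.rec (fun _ => ℕ) rb15566 rb15567 (Nat.ble (nat_lit 15567) i)) (Nat.ble (nat_lit 15566) i)) (Nat.ble (nat_lit 15564) i)) (Nat.ble (nat_lit 15560) i)) (@Bool.rec (fun _ => ℕ) (@Bool.rec (fun _ => ℕ) (@Bool.rec (fun _ => ℕ) (@Bool.rec (fun _ => ℕ) rb15568 rb15569 (Nat.ble (nat_lit 15569) i)) (@Bool.rec (fun _ => ℕ) rb15570 rb15571 (Nat.ble (nat_lit 15571) i)) (Nat.ble (nat_lit 15570) i)) (@Bool.rec (fun _ => ℕ) (@Bool.rec (fun _ => ℕ) rb15572 rb15573 (Nat.ble (nat_lit 15573) i)) (@Bool.rec (fun _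 => ℕ) rb15574 rb15575 (Nat.ble (nat_lit 15575) i)) (Nat.ble (nat_lit 15574) i)) (Nat.ble (nat_lit 15572) i)) (@Bool.rec (fun _ => ℕ) (@Bool.rec (fun _ => ℕ) (@Bool.rec (fun _ => ℕ) rb15576 rb15577 (Nat.ble (nat_lit 15577) i)) (@Bool.rec (fun _ => ℕ) rb15578 rb15579 (Nat.ble (nat_lit 15579) i)) (Nat.ble (nat_lit 15578) i)) (@Bool.rec (fun _ => ℕ) (@Bool.rec (fun _ => ℕ) rb15580 rb15581 (Nat.ble (nat_lit 15581) i)) (@Bool.rec (fun _ => ℕ) rb15582 rb15583 (Nat.ble (nat_lit 15583) i)) (Nat.ble (nat_lit 15582) i)) (Nat.ble (nat_lit 15580) i)) (Nat.ble (nat_lit 15576) i)) (Nat.ble (nat_lit 15568) i))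

def rowBlk_n0_487 (i : ℕ) : ℕ := (@Bool.rec (fun _ => ℕ) (@Bool.rec (fun _ => ℕ) (@Bool.rec (fun _ => ℕ) (@Bool.rec (fun _ => ℕ) (@Bool.rec (fun _ => ℕ) rb15584 rb15585 (Nat.ble (nat_lit 15585) i)) (@Bool.rec (fun _ => ℕ) rb15586 rb15587 (Nat.ble (nat_lit 15587) i)) (Nat.ble (nat_lit 15586) i)) (@Bool.rec (fun _ => ℕ) (@Bool.rec (fun _ => ℕ) rb15588 rb15589 (Nat.ble (nat_lit 15589) i)) (@Bool.rec (fun _ => ℕ) rb15590 rb15591 (Nat.ble (nat_lit 15591) i)) (Nat.ble (nat_lit 15590) i)) (Nat.ble (nat_lit 15588) i)) (@Bool.rec (fun _ => ℕ) (@Bool.rec (fun _ => ℕ) (@Bool.rec (fun _ => ℕ) rb15592 rb15593 (Nat.ble (nat_lit 15593) i)) (@Bool.rec (fun _ => ℕ) rb15594 rb15595 (Nat.ble (nat_lit 15595) i)) (Nat.ble (nat_lit 15594) i)) (@Bool.rec (fun _ => ℕ) (@Bool.rec (fun _ => ℕ) rb15596 rb15597 (Nat.ble (nat_lit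 15597) i)) (@Bool.rec (fun _ => ℕ) rb15598 rb15599 (Nat.ble (nat_lit 15599) i)) (Nat.ble (nat_lit 15598) i)) (Nat.ble (nat_lit 15596) i)) (Nat.ble (nat_lit 15592) i)) (@Bool.rec (fun _ => ℕ) (@Bool.rec (fun _ => ℕ) (@Bool.rec (fun _ => ℕ) (@Bool.rec (fun _ => ℕ) rb15600 rb15601 (Nat.ble (nat_lit 15601) i)) (@Bool.rec (fun _ => ℕ) rb15602 rb15603 (Nat.ble (nat_lit 15603) i)) (Nat.ble (nat_lit 15602) i)) (@Bool.rec (fun _ => ℕ) (@Bool.rec (fun _ => ℕ) rb15604 rb15605 (Nat.ble (nat_lit 15605) i)) (@Bool.rec (fun _ => ℕ) rb15606 rb15607 (Nat.ble (nat_lit 15607) i)) (Nat.ble (nat_lit 15606) i)) (Nat.ble (nat_lit 15604) i)) (@Bool.rec (fun _ => ℕ) (@Bool.rec (fun _ => ℕ) (@Bool.rec (fun _ => ℕ) rb15608 rb15609 (Nat.ble (nat_lit 15609) i)) (@Bool.rec (fun _ => ℕ) rb15610 rb15611 (Nat.ble (nat_lit 15611) i)) (Nat.ble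 (nat_lit 15610) i)) (@Bool.rec (fun _ => ℕ) (@Bool.rec (fun _ => ℕ) rb15612 rb15613 (Nat.ble (nat_lit 15613) i)) (@Bool.rec (fun _ => ℕ) rb15614 rb15615 (Nat.ble (nat_lit 15615) i)) (Nat.ble (nat_lit 15614) i)) (Nat.ble (nat_lit 15612) i)) (Nat.ble (nat_lit 15608) i)) (Nat.ble (nat_lit 15600) i))

def rowBlk_n0_488 (i : ℕ) : ℕ := (@Bool.rec (fun _ => ℕ) (@Bool.rec (fun _ => ℕ) (@Bool.rec (fun _ => ℕ) (@Bool.rec (fun _ => ℕ) (@Bool.rec (fun _ => ℕ) rb15616 rb15617 (Nat.ble (nat_lit 15617) i)) (@Bool.rec (fun _ => ℕ) rb15618 rb15619 (Nat.ble (nat_lit 15619) i)) (Nat.ble (nat_lit 15618) i)) (@Bool.rec (fun _ => ℕ) (@Bool.rec (fun _ => ℕ) rb15620 rb15621 (Nat.ble (nat_lit 15621) i)) (@Bool.rec (fun _ => ℕ) rb15622 rb15623 (Nat.ble (nat_lit 15623) i)) (Nat.ble (nat_lit 15622) i)) (Nat.ble (nat_lit 15620) i))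 (@Bool.rec (fun _ => ℕ) (@Bool.rec (fun _ => ℕ) (@Bool.rec (fun _ => ℕ) rb15624 rb15625 (Nat.ble (nat_lit 15625) i)) (@Bool.rec (fun _ => ℕ) rb15626 rb15627 (Nat.ble (nat_lit 15627) i)) (Nat.ble (nat_lit 15626) i)) (@Bool.rec (fun _ => ℕ) (@Bool.rec (fun _ => ℕ) rb15628 rb15629 (Nat.ble (nat_lit 15629) i)) (@Bool.rec (fun _ => ℕ) rb15630 rb15631 (Nat.ble (nat_lit 15631) i)) (Nat.ble (nat_lit 15630) i)) (Nat.ble (nat_lit 15628) i)) (Nat.ble (nat_lit 15624) i)) (@Bool.rec (fun _ => ℕ) (@Bool.rec (fun _ => ℕ) (@Bool.rec (fun _ => ℕ) (@Bool.rec (fun _ => ℕ) rb15632 rb15633 (Nat.ble (nat_lit 15633) i)) (@Bool.rec (fun _ => ℕ) rb15634 rb15635 (Nat.ble (nat_lit 15635) i)) (Nat.ble (nat_lit 15634) i)) (@Bool.rec (fun _ => ℕ) (@Bool.rec (fun _ => ℕ) rb15636 rb15637 (Nat.ble (nat_lit 15637) i)) (@Bool.rec (fun _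 => ℕ) rb15638 rb15639 (Nat.ble (nat_lit 15639) i)) (Nat.ble (nat_lit 15638) i)) (Nat.ble (nat_lit 15636) i)) (@Bool.rec (fun _ => ℕ) (@Bool.rec (fun _ => ℕ) (@Bool.rec (fun _ => ℕ) rb15640 rb15641 (Nat.ble (nat_lit 15641) i)) (@Bool.rec (fun _ => ℕ) rb15642 rb15643 (Nat.ble (nat_lit 15643) i)) (Nat.ble (nat_lit 15642) i)) (@Bool.rec (fun _ => ℕ) (@Bool.rec (fun _ => ℕ) rb15644 rb15645 (Nat.ble (nat_lit 15645) i)) (@Bool.rec (fun _ => ℕ) rb15646 rb15647 (Nat.ble (nat_lit 15647) i)) (Nat.ble (nat_lit 15646) i)) (Nat.ble (nat_lit 15644) i)) (Nat.ble (nat_lit 15640) i)) (Nat.ble (nat_lit 15632) i))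

def rowBlk_n0_489 (i : ℕ) : ℕ := (@Bool.rec (fun _ => ℕ) (@Bool.rec (fun _ => ℕ) (@Bool.rec (fun _ => ℕ) (@Bool.rec (fun _ => ℕ) (@Bool.rec (fun _ => ℕ) rb15648 rb15649 (Nat.ble (nat_lit 15649) i)) (@Bool.rec (fun _ => ℕ) rb15650 rb15651 (Nat.ble (nat_lit 15651) i)) (Nat.ble (nat_lit 15650) i)) (@Bool.rec (fun _ => ℕ) (@Bool.rec (fun _ => ℕ) rb15652 rb15653 (Nat.ble (nat_lit 15653) i)) (@Bool.rec (fun _ => ℕ) rb15654 rb15655 (Nat.ble (nat_lit 15655) i)) (Nat.ble (nat_lit 15654) i)) (Nat.ble (nat_lit 15652) i)) (@Bool.rec (fun _ => ℕ) (@Bool.rec (fun _ => ℕ) (@Bool.rec (fun _ => ℕ) rb15656 rb15657 (Nat.ble (nat_lit 15657) i)) (@Bool.rec (fun _ => ℕ) rb15658 rb15659 (Nat.ble (nat_lit 15659) i)) (Nat.ble (nat_lit 15658) i)) (@Bool.rec (fun _ => ℕ) (@Bool.rec (fun _ => ℕ) rb15660 rb15661 (Nat.ble (nat_lit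 15661) i)) (@Bool.rec (fun _ => ℕ) rb15662 rb15663 (Nat.ble (nat_lit 15663) i)) (Nat.ble (nat_lit 15662) i)) (Nat.ble (nat_lit 15660) i)) (Nat.ble (nat_lit 15656) i)) (@Bool.rec (fun _ => ℕ) (@Bool.rec (fun _ => ℕ) (@Bool.rec (fun _ => ℕ) (@Bool.rec (fun _ => ℕ) rb15664 rb15665 (Nat.ble (nat_lit 15665) i)) (@Bool.rec (fun _ => ℕ) rb15666 rb15667 (Nat.ble (nat_lit 15667) i)) (Nat.ble (nat_lit 15666) i)) (@Bool.rec (fun _ => ℕ) (@Bool.rec (fun _ => ℕ) rb15668 rb15669 (Nat.ble (nat_lit 15669) i)) (@Bool.rec (fun _ => ℕ) rb15670 rb15671 (Nat.ble (nat_lit 15671) i)) (Nat.ble (nat_lit 15670) i)) (Nat.ble (nat_lit 15668) i)) (@Bool.rec (fun _ => ℕ) (@Bool.rec (fun _ => ℕ) (@Bool.rec (fun _ => ℕ) rb15672 rb15673 (Nat.ble (nat_lit 15673) i)) (@Bool.rec (fun _ => ℕ) rb15674 rb15675 (Nat.ble (nat_lit 15675) i)) (Nat.ble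 (nat_lit 15674) i)) (@Bool.rec (fun _ => ℕ) (@Bool.rec (fun _ => ℕ) rb15676 rb15677 (Nat.ble (nat_lit 15677) i)) (@Bool.rec (fun _ => ℕ) rb15678 rb15679 (Nat.ble (nat_lit 15679) i)) (Nat.ble (nat_lit 15678) i)) (Nat.ble (nat_lit 15676) i)) (Nat.ble (nat_lit 15672) i)) (Nat.ble (nat_lit 15664) i))

def rowBlk_n0_490 (i : ℕ) : ℕ := (@Bool.rec (fun _ => ℕ) (@Bool.rec (fun _ => ℕ) (@Bool.rec (fun _ => ℕ) (@Bool.rec (fun _ => ℕ) (@Bool.rec (fun _ => ℕ) rb15680 rb15681 (Nat.ble (nat_lit 15681) i)) (@Bool.rec (fun _ => ℕ) rb15682 rb15683 (Nat.ble (nat_lit 15683) i)) (Nat.ble (nat_lit 15682) i)) (@Bool.rec (fun _ => ℕ) (@Bool.rec (fun _ => ℕ) rb15684 rb15685 (Nat.ble (nat_lit 15685) i)) (@Bool.rec (fun _ => ℕ) rb15686 rb15687 (Nat.ble (nat_lit 15687) i)) (Nat.ble (nat_lit 15686) i)) (Nat.ble (nat_lit 15684) i))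 (@Bool.rec (fun _ => ℕ) (@Bool.rec (fun _ => ℕ) (@Bool.rec (fun _ => ℕ) rb15688 rb15689 (Nat.ble (nat_lit 15689) i)) (@Bool.rec (fun _ => ℕ) rb15690 rb15691 (Nat.ble (nat_lit 15691) i)) (Nat.ble (nat_lit 15690) i)) (@Bool.rec (fun _ => ℕ) (@Bool.rec (fun _ => ℕ) rb15692 rb15693 (Nat.ble (nat_lit 15693) i)) (@Bool.rec (fun _ => ℕ) rb15694 rb15695 (Nat.ble (nat_lit 15695) i)) (Nat.ble (nat_lit 15694) i)) (Nat.ble (nat_lit 15692) i)) (Nat.ble (nat_lit 15688) i)) (@Bool.rec (fun _ => ℕ) (@Bool.rec (fun _ => ℕ) (@Bool.rec (fun _ => ℕ) (@Bool.rec (fun _ => ℕ) rb15696 rb15697 (Nat.ble (nat_lit 15697) i)) (@Bool.rec (fun _ => ℕ) rb15698 rb15699 (Nat.ble (nat_lit 15699) i)) (Nat.ble (nat_lit 15698) i)) (@Bool.rec (fun _ => ℕ) (@Bool.rec (fun _ => ℕ) rb15700 rb15701 (Nat.ble (nat_lit 15701) i)) (@Bool.rec (fun _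 => ℕ) rb15702 rb15703 (Nat.ble (nat_lit 15703) i)) (Nat.ble (nat_lit 15702) i)) (Nat.ble (nat_lit 15700) i)) (@Bool.rec (fun _ => ℕ) (@Bool.rec (fun _ => ℕ) (@Bool.rec (fun _ => ℕ) rb15704 rb15705 (Nat.ble (nat_lit 15705) i)) (@Bool.rec (fun _ => ℕ) rb15706 rb15707 (Nat.ble (nat_lit 15707) i)) (Nat.ble (nat_lit 15706) i)) (@Bool.rec (fun _ => ℕ) (@Bool.rec (fun _ => ℕ) rb15708 rb15709 (Nat.ble (nat_lit 15709) i)) (@Bool.rec (fun _ => ℕ) rb15710 rb15711 (Nat.ble (nat_lit 15711) i)) (Nat.ble (nat_lit 15710) i)) (Nat.ble (nat_lit 15708) i)) (Nat.ble (nat_lit 15704) i)) (Nat.ble (nat_lit 15696) i))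

def rowBlk_n0_491 (i : ℕ) : ℕ := (@Bool.rec (fun _ => ℕ) (@Bool.rec (fun _ => ℕ) (@Bool.rec (fun _ => ℕ) (@Bool.rec (fun _ => ℕ) (@Bool.rec (fun _ => ℕ) rb15712 rb15713 (Nat.ble (nat_lit 15713) i)) (@Bool.rec (fun _ => ℕ) rb15714 rb15715 (Nat.ble (nat_lit 15715) i)) (Nat.ble (nat_lit 15714) i)) (@Bool.rec (fun _ => ℕ) (@Bool.rec (fun _ => ℕ) rb15716 rb15717 (Nat.ble (nat_lit 15717) i)) (@Bool.rec (fun _ => ℕ) rb15718 rb15719 (Nat.ble (nat_lit 15719) i)) (Nat.ble (nat_lit 15718) i)) (Nat.ble (nat_lit 15716) i)) (@Bool.rec (fun _ => ℕ) (@Bool.rec (fun _ => ℕ) (@Bool.rec (fun _ => ℕ) rb15720 rb15721 (Nat.ble (nat_lit 15721) i)) (@Bool.rec (fun _ => ℕ) rb15722 rb15723 (Nat.ble (nat_lit 15723) i)) (Nat.ble (nat_lit 15722) i)) (@Bool.rec (fun _ => ℕ) (@Bool.rec (fun _ => ℕ) rb15724 rb15725 (Nat.ble (nat_lit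 15725) i)) (@Bool.rec (fun _ => ℕ) rb15726 rb15727 (Nat.ble (nat_lit 15727) i)) (Nat.ble (nat_lit 15726) i)) (Nat.ble (nat_lit 15724) i)) (Nat.ble (nat_lit 15720) i)) (@Bool.rec (fun _ => ℕ) (@Bool.rec (fun _ => ℕ) (@Bool.rec (fun _ => ℕ) (@Bool.rec (fun _ => ℕ) rb15728 rb15729 (Nat.ble (nat_lit 15729) i)) (@Bool.rec (fun _ => ℕ) rb15730 rb15731 (Nat.ble (nat_lit 15731) i)) (Nat.ble (nat_lit 15730) i)) (@Bool.rec (fun _ => ℕ) (@Bool.rec (fun _ => ℕ) rb15732 rb15733 (Nat.ble (nat_lit 15733) i)) (@Bool.rec (fun _ => ℕ) rb15734 rb15735 (Nat.ble (nat_lit 15735) i)) (Nat.ble (nat_lit 15734) i)) (Nat.ble (nat_lit 15732) i)) (@Bool.rec (fun _ => ℕ) (@Bool.rec (fun _ => ℕ) (@Bool.rec (fun _ => ℕ) rb15736 rb15737 (Nat.ble (nat_lit 15737) i)) (@Bool.rec (fun _ => ℕ) rb15738 rb15739 (Nat.ble (nat_lit 15739) i)) (Nat.ble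 (nat_lit 15738) i)) (@Bool.rec (fun _ => ℕ) (@Bool.rec (fun _ => ℕ) rb15740 rb15741 (Nat.ble (nat_lit 15741) i)) (@Bool.rec (fun _ => ℕ) rb15742 rb15743 (Nat.ble (nat_lit 15743) i)) (Nat.ble (nat_lit 15742) i)) (Nat.ble (nat_lit 15740) i)) (Nat.ble (nat_lit 15736) i)) (Nat.ble (nat_lit 15728) i))

def rowBlk_n0_492 (i : ℕ) : ℕ := (@Bool.rec (fun _ => ℕ) (@Bool.rec (fun _ => ℕ) (@Bool.rec (fun _ => ℕ) (@Bool.rec (fun _ => ℕ) (@Bool.rec (fun _ => ℕ) rb15744 rb15745 (Nat.ble (nat_lit 15745) i)) (@Bool.rec (fun _ => ℕ) rb15746 rb15747 (Nat.ble (nat_lit 15747) i)) (Nat.ble (nat_lit 15746) i)) (@Bool.rec (fun _ => ℕ) (@Bool.rec (fun _ => ℕ) rb15748 rb15749 (Nat.ble (nat_lit 15749) i)) (@Bool.rec (fun _ => ℕ) rb15750 rb15751 (Nat.ble (nat_lit 15751) i)) (Nat.ble (nat_lit 15750) i)) (Nat.ble (nat_lit 15748) i))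 (@Bool.rec (fun _ => ℕ) (@Bool.rec (fun _ => ℕ) (@Bool.rec (fun _ => ℕ) rb15752 rb15753 (Nat.ble (nat_lit 15753) i)) (@Bool.rec (fun _ => ℕ) rb15754 rb15755 (Nat.ble (nat_lit 15755) i)) (Nat.ble (nat_lit 15754) i)) (@Bool.rec (fun _ => ℕ) (@Bool.rec (fun _ => ℕ) rb15756 rb15757 (Nat.ble (nat_lit 15757) i)) (@Bool.rec (fun _ => ℕ) rb15758 rb15759 (Nat.ble (nat_lit 15759) i)) (Nat.ble (nat_lit 15758) i)) (Nat.ble (nat_lit 15756) i)) (Nat.ble (nat_lit 15752) i)) (@Bool.rec (fun _ => ℕ) (@Bool.rec (fun _ => ℕ) (@Bool.rec (fun _ => ℕ) (@Bool.rec (fun _ => ℕ) rb15760 rb15761 (Nat.ble (nat_lit 15761) i)) (@Bool.rec (fun _ => ℕ) rb15762 rb15763 (Nat.ble (nat_lit 15763) i)) (Nat.ble (nat_lit 15762) i)) (@Bool.rec (fun _ => ℕ) (@Bool.rec (fun _ => ℕ) rb15764 rb15765 (Nat.ble (nat_lit 15765) i)) (@Bool.rec (fun _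 => ℕ) rb15766 rb15767 (Nat.ble (nat_lit 15767) i)) (Nat.ble (nat_lit 15766) i)) (Nat.ble (nat_lit 15764) i)) (@Bool.rec (fun _ => ℕ) (@Bool.rec (fun _ => ℕ) (@Bool.rec (fun _ => ℕ) rb15768 rb15769 (Nat.ble (nat_lit 15769) i)) (@Bool.rec (fun _ => ℕ) rb15770 rb15771 (Nat.ble (nat_lit 15771) i)) (Nat.ble (nat_lit 15770) i)) (@Bool.rec (fun _ => ℕ) (@Bool.rec (fun _ => ℕ) rb15772 rb15773 (Nat.ble (nat_lit 15773) i)) (@Bool.rec (fun _ => ℕ) rb15774 rb15775 (Nat.ble (nat_lit 15775) i)) (Nat.ble (nat_lit 15774) i)) (Nat.ble (nat_lit 15772) i)) (Nat.ble (nat_lit 15768) i)) (Nat.ble (nat_lit 15760) i))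

def rowBlk_n0_493 (i : ℕ) : ℕ := (@Bool.rec (fun _ => ℕ) (@Bool.rec (fun _ => ℕ) (@Bool.rec (fun _ => ℕ) (@Bool.rec (fun _ => ℕ) (@Bool.rec (fun _ => ℕ) rb15776 rb15777 (Nat.ble (nat_lit 15777) i)) (@Bool.rec (fun _ => ℕ) rb15778 rb15779 (Nat.ble (nat_lit 15779) i)) (Nat.ble (nat_lit 15778) i)) (@Bool.rec (fun _ => ℕ) (@Bool.rec (fun _ => ℕ) rb15780 rb15781 (Nat.ble (nat_lit 15781) i)) (@Bool.rec (fun _ => ℕ) rb15782 rb15783 (Nat.ble (nat_lit 15783) i)) (Nat.ble (nat_lit 15782) i)) (Nat.ble (nat_lit 15780) i)) (@Bool.rec (fun _ => ℕ) (@Bool.rec (fun _ => ℕ) (@Bool.rec (fun _ => ℕ) rb15784 rb15785 (Nat.ble (nat_lit 15785) i)) (@Bool.rec (fun _ => ℕ) rb15786 rb15787 (Nat.ble (nat_lit 15787) i)) (Nat.ble (nat_lit 15786) i)) (@Bool.rec (fun _ => ℕ) (@Bool.rec (fun _ => ℕ) rb15788 rb15789 (Nat.ble (nat_lit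 15789) i)) (@Bool.rec (fun _ => ℕ) rb15790 rb15791 (Nat.ble (nat_lit 15791) i)) (Nat.ble (nat_lit 15790) i)) (Nat.ble (nat_lit 15788) i)) (Nat.ble (nat_lit 15784) i)) (@Bool.rec (fun _ => ℕ) (@Bool.rec (fun _ => ℕ) (@Bool.rec (fun _ => ℕ) (@Bool.rec (fun _ => ℕ) rb15792 rb15793 (Nat.ble (nat_lit 15793) i)) (@Bool.rec (fun _ => ℕ) rb15794 rb15795 (Nat.ble (nat_lit 15795) i)) (Nat.ble (nat_lit 15794) i)) (@Bool.rec (fun _ => ℕ) (@Bool.rec (fun _ => ℕ) rb15796 rb15797 (Nat.ble (nat_lit 15797) i)) (@Bool.rec (fun _ => ℕ) rb15798 rb15799 (Nat.ble (nat_lit 15799) i)) (Nat.ble (nat_lit 15798) i)) (Nat.ble (nat_lit 15796) i)) (@Bool.rec (fun _ => ℕ) (@Bool.rec (fun _ => ℕ) (@Bool.rec (fun _ => ℕ) rb15800 rb15801 (Nat.ble (nat_lit 15801) i)) (@Bool.rec (fun _ => ℕ) rb15802 rb15803 (Nat.ble (nat_lit 15803) i)) (Nat.ble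 (nat_lit 15802) i)) (@Bool.rec (fun _ => ℕ) (@Bool.rec (fun _ => ℕ) rb15804 rb15805 (Nat.ble (nat_lit 15805) i)) (@Bool.rec (fun _ => ℕ) rb15806 rb15807 (Nat.ble (nat_lit 15807) i)) (Nat.ble (nat_lit 15806) i)) (Nat.ble (nat_lit 15804) i)) (Nat.ble (nat_lit 15800) i)) (Nat.ble (nat_lit 15792) i))

def rowBlk_n0_494 (i : ℕ) : ℕ := (@Bool.rec (fun _ => ℕ) (@Bool.rec (fun _ => ℕ) (@Bool.rec (fun _ => ℕ) (@Bool.rec (fun _ => ℕ) (@Bool.rec (fun _ => ℕ) rb15808 rb15809 (Nat.ble (nat_lit 15809) i)) (@Bool.rec (fun _ => ℕ) rb15810 rb15811 (Nat.ble (nat_lit 15811) i)) (Nat.ble (nat_lit 15810) i)) (@Bool.rec (fun _ => ℕ) (@Bool.rec (fun _ => ℕ) rb15812 rb15813 (Nat.ble (nat_lit 15813) i)) (@Bool.rec (fun _ => ℕ) rb15814 rb15815 (Nat.ble (nat_lit 15815) i)) (Nat.ble (nat_lit 15814) i)) (Nat.ble (nat_lit 15812) i))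 (@Bool.rec (fun _ => ℕ) (@Bool.rec (fun _ => ℕ) (@Bool.rec (fun _ => ℕ) rb15816 rb15817 (Nat.ble (nat_lit 15817) i)) (@Bool.rec (fun _ => ℕ) rb15818 rb15819 (Nat.ble (nat_lit 15819) i)) (Nat.ble (nat_lit 15818) i)) (@Bool.rec (fun _ => ℕ) (@Bool.rec (fun _ => ℕ) rb15820 rb15821 (Nat.ble (nat_lit 15821) i)) (@Bool.rec (fun _ => ℕ) rb15822 rb15823 (Nat.ble (nat_lit 15823) i)) (Nat.ble (nat_lit 15822) i)) (Nat.ble (nat_lit 15820) i)) (Nat.ble (nat_lit 15816) i)) (@Bool.rec (fun _ => ℕ) (@Bool.rec (fun _ => ℕ) (@Bool.rec (fun _ => ℕ) (@Bool.rec (fun _ => ℕ) rb15824 rb15825 (Nat.ble (nat_lit 15825) i)) (@Bool.rec (fun _ => ℕ) rb15826 rb15827 (Nat.ble (nat_lit 15827) i)) (Nat.ble (nat_lit 15826) i)) (@Bool.rec (fun _ => ℕ) (@Bool.rec (fun _ => ℕ) rb15828 rb15829 (Nat.ble (nat_lit 15829) i)) (@Bool.rec (fun _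 => ℕ) rb15830 rb15831 (Nat.ble (nat_lit 15831) i)) (Nat.ble (nat_lit 15830) i)) (Nat.ble (nat_lit 15828) i)) (@Bool.rec (fun _ => ℕ) (@Bool.rec (fun _ => ℕ) (@Bool.rec (fun _ => ℕ) rb15832 rb15833 (Nat.ble (nat_lit 15833) i)) (@Bool.rec (fun _ => ℕ) rb15834 rb15835 (Nat.ble (nat_lit 15835) i)) (Nat.ble (nat_lit 15834) i)) (@Bool.rec (fun _ => ℕ) (@Bool.rec (fun _ => ℕ) rb15836 rb15837 (Nat.ble (nat_lit 15837) i)) (@Bool.rec (fun _ => ℕ) rb15838 rb15839 (Nat.ble (nat_lit 15839) i)) (Nat.ble (nat_lit 15838) i)) (Nat.ble (nat_lit 15836) i)) (Nat.ble (nat_lit 15832) i)) (Nat.ble (nat_lit 15824) i))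

def rowBlk_n0_495 (i : ℕ) : ℕ := (@Bool.rec (fun _ => ℕ) (@Bool.rec (fun _ => ℕ) (@Bool.rec (fun _ => ℕ) (@Bool.rec (fun _ => ℕ) (@Bool.rec (fun _ => ℕ) rb15840 rb15841 (Nat.ble (nat_lit 15841) i)) (@Bool.rec (fun _ => ℕ) rb15842 rb15843 (Nat.ble (nat_lit 15843) i)) (Nat.ble (nat_lit 15842) i)) (@Bool.rec (fun _ => ℕ) (@Bool.rec (fun _ => ℕ) rb15844 rb15845 (Nat.ble (nat_lit 15845) i)) (@Bool.rec (fun _ => ℕ) rb15846 rb15847 (Nat.ble (nat_lit 15847) i)) (Nat.ble (nat_lit 15846) i)) (Nat.ble (nat_lit 15844) i)) (@Bool.rec (fun _ => ℕ) (@Bool.rec (fun _ => ℕ) (@Bool.rec (fun _ => ℕ) rb15848 rb15849 (Nat.ble (nat_lit 15849) i)) (@Bool.rec (fun _ => ℕ) rb15850 rb15851 (Nat.ble (nat_lit 15851) i)) (Nat.ble (nat_lit 15850) i)) (@Bool.rec (fun _ => ℕ) (@Bool.rec (fun _ => ℕ) rb15852 rb15853 (Nat.ble (nat_lit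 15853) i)) (@Bool.rec (fun _ => ℕ) rb15854 rb15855 (Nat.ble (nat_lit 15855) i)) (Nat.ble (nat_lit 15854) i)) (Nat.ble (nat_lit 15852) i)) (Nat.ble (nat_lit 15848) i)) (@Bool.rec (fun _ => ℕ) (@Bool.rec (fun _ => ℕ) (@Bool.rec (fun _ => ℕ) (@Bool.rec (fun _ => ℕ) rb15856 rb15857 (Nat.ble (nat_lit 15857) i)) (@Bool.rec (fun _ => ℕ) rb15858 rb15859 (Nat.ble (nat_lit 15859) i)) (Nat.ble (nat_lit 15858) i)) (@Bool.rec (fun _ => ℕ) (@Bool.rec (fun _ => ℕ) rb15860 rb15861 (Nat.ble (nat_lit 15861) i)) (@Bool.rec (fun _ => ℕ) rb15862 rb15863 (Nat.ble (nat_lit 15863) i)) (Nat.ble (nat_lit 15862) i)) (Nat.ble (nat_lit 15860) i)) (@Bool.rec (fun _ => ℕ) (@Bool.rec (fun _ => ℕ) (@Bool.rec (fun _ => ℕ) rb15864 rb15865 (Nat.ble (nat_lit 15865) i)) (@Bool.rec (fun _ => ℕ) rb15866 rb15867 (Nat.ble (nat_lit 15867) i)) (Nat.ble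 (nat_lit 15866) i)) (@Bool.rec (fun _ => ℕ) (@Bool.rec (fun _ => ℕ) rb15868 rb15869 (Nat.ble (nat_lit 15869) i)) (@Bool.rec (fun _ => ℕ) rb15870 rb15871 (Nat.ble (nat_lit 15871) i)) (Nat.ble (nat_lit 15870) i)) (Nat.ble (nat_lit 15868) i)) (Nat.ble (nat_lit 15864) i)) (Nat.ble (nat_lit 15856) i))

def rowBlk_n0_496 (i : ℕ) : ℕ := (@Bool.rec (fun _ => ℕ) (@Bool.rec (fun _ => ℕ) (@Bool.rec (fun _ => ℕ) (@Bool.rec (fun _ => ℕ) (@Bool.rec (fun _ => ℕ) rb15872 rb15873 (Nat.ble (nat_lit 15873) i)) (@Bool.rec (fun _ => ℕ) rb15874 rb15875 (Nat.ble (nat_lit 15875) i)) (Nat.ble (nat_lit 15874) i)) (@Bool.rec (fun _ => ℕ) (@Bool.rec (fun _ => ℕ) rb15876 rb15877 (Nat.ble (nat_lit 15877) i)) (@Bool.rec (fun _ => ℕ) rb15878 rb15879 (Nat.ble (nat_lit 15879) i)) (Nat.ble (nat_lit 15878) i)) (Nat.ble (nat_lit 15876) i))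 (@Bool.rec (fun _ => ℕ) (@Bool.rec (fun _ => ℕ) (@Bool.rec (fun _ => ℕ) rb15880 rb15881 (Nat.ble (nat_lit 15881) i)) (@Bool.rec (fun _ => ℕ) rb15882 rb15883 (Nat.ble (nat_lit 15883) i)) (Nat.ble (nat_lit 15882) i)) (@Bool.rec (fun _ => ℕ) (@Bool.rec (fun _ => ℕ) rb15884 rb15885 (Nat.ble (nat_lit 15885) i)) (@Bool.rec (fun _ => ℕ) rb15886 rb15887 (Nat.ble (nat_lit 15887) i)) (Nat.ble (nat_lit 15886) i)) (Nat.ble (nat_lit 15884) i)) (Nat.ble (nat_lit 15880) i)) (@Bool.rec (fun _ => ℕ) (@Bool.rec (fun _ => ℕ) (@Bool.rec (fun _ => ℕ) (@Bool.rec (fun _ => ℕ) rb15888 rb15889 (Nat.ble (nat_lit 15889) i)) (@Bool.rec (fun _ => ℕ) rb15890 rb15891 (Nat.ble (nat_lit 15891) i)) (Nat.ble (nat_lit 15890) i)) (@Bool.rec (fun _ => ℕ) (@Bool.rec (fun _ => ℕ) rb15892 rb15893 (Nat.ble (nat_lit 15893) i)) (@Bool.rec (fun _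 => ℕ) rb15894 rb15895 (Nat.ble (nat_lit 15895) i)) (Nat.ble (nat_lit 15894) i)) (Nat.ble (nat_lit 15892) i)) (@Bool.rec (fun _ => ℕ) (@Bool.rec (fun _ => ℕ) (@Bool.rec (fun _ => ℕ) rb15896 rb15897 (Nat.ble (nat_lit 15897) i)) (@Bool.rec (fun _ => ℕ) rb15898 rb15899 (Nat.ble (nat_lit 15899) i)) (Nat.ble (nat_lit 15898) i)) (@Bool.rec (fun _ => ℕ) (@Bool.rec (fun _ => ℕ) rb15900 rb15901 (Nat.ble (nat_lit 15901) i)) (@Bool.rec (fun _ => ℕ) rb15902 rb15903 (Nat.ble (nat_lit 15903) i)) (Nat.ble (nat_lit 15902) i)) (Nat.ble (nat_lit 15900) i)) (Nat.ble (nat_lit 15896) i)) (Nat.ble (nat_lit 15888) i))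

def rowBlk_n0_497 (i : ℕ) : ℕ := (@Bool.rec (fun _ => ℕ) (@Bool.rec (fun _ => ℕ) (@Bool.rec (fun _ => ℕ) (@Bool.rec (fun _ => ℕ) (@Bool.rec (fun _ => ℕ) rb15904 rb15905 (Nat.ble (nat_lit 15905) i)) (@Bool.rec (fun _ => ℕ) rb15906 rb15907 (Nat.ble (nat_lit 15907) i)) (Nat.ble (nat_lit 15906) i)) (@Bool.rec (fun _ => ℕ) (@Bool.rec (fun _ => ℕ) rb15908 rb15909 (Nat.ble (nat_lit 15909) i)) (@Bool.rec (fun _ => ℕ) rb15910 rb15911 (Nat.ble (nat_lit 15911) i)) (Nat.ble (nat_lit 15910) i)) (Nat.ble (nat_lit 15908) i)) (@Bool.rec (fun _ => ℕ) (@Bool.rec (fun _ => ℕ) (@Bool.rec (fun _ => ℕ) rb15912 rb15913 (Nat.ble (nat_lit 15913) i)) (@Bool.rec (fun _ => ℕ) rb15914 rb15915 (Nat.ble (nat_lit 15915) i)) (Nat.ble (nat_lit 15914) i)) (@Bool.rec (fun _ => ℕ) (@Bool.rec (fun _ => ℕ) rb15916 rb15917 (Nat.ble (nat_lit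 15917) i)) (@Bool.rec (fun _ => ℕ) rb15918 rb15919 (Nat.ble (nat_lit 15919) i)) (Nat.ble (nat_lit 15918) i)) (Nat.ble (nat_lit 15916) i)) (Nat.ble (nat_lit 15912) i)) (@Bool.rec (fun _ => ℕ) (@Bool.rec (fun _ => ℕ) (@Bool.rec (fun _ => ℕ) (@Bool.rec (fun _ => ℕ) rb15920 rb15921 (Nat.ble (nat_lit 15921) i)) (@Bool.rec (fun _ => ℕ) rb15922 rb15923 (Nat.ble (nat_lit 15923) i)) (Nat.ble (nat_lit 15922) i)) (@Bool.rec (fun _ => ℕ) (@Bool.rec (fun _ => ℕ) rb15924 rb15925 (Nat.ble (nat_lit 15925) i)) (@Bool.rec (fun _ => ℕ) rb15926 rb15927 (Nat.ble (nat_lit 15927) i)) (Nat.ble (nat_lit 15926) i)) (Nat.ble (nat_lit 15924) i)) (@Bool.rec (fun _ => ℕ) (@Bool.rec (fun _ => ℕ) (@Bool.rec (fun _ => ℕ) rb15928 rb15929 (Nat.ble (nat_lit 15929) i)) (@Bool.rec (fun _ => ℕ) rb15930 rb15931 (Nat.ble (nat_lit 15931) i)) (Nat.ble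 (nat_lit 15930) i)) (@Bool.rec (fun _ => ℕ) (@Bool.rec (fun _ => ℕ) rb15932 rb15933 (Nat.ble (nat_lit 15933) i)) (@Bool.rec (fun _ => ℕ) rb15934 rb15935 (Nat.ble (nat_lit 15935) i)) (Nat.ble (nat_lit 15934) i)) (Nat.ble (nat_lit 15932) i)) (Nat.ble (nat_lit 15928) i)) (Nat.ble (nat_lit 15920) i))

def rowBlk_n0_498 (i : ℕ) : ℕ := (@Bool.rec (fun _ => ℕ) (@Bool.rec (fun _ => ℕ) (@Bool.rec (fun _ => ℕ) (@Bool.rec (fun _ => ℕ) (@Bool.rec (fun _ => ℕ) rb15936 rb15937 (Nat.ble (nat_lit 15937) i)) (@Bool.rec (fun _ => ℕ) rb15938 rb15939 (Nat.ble (nat_lit 15939) i)) (Nat.ble (nat_lit 15938) i)) (@Bool.rec (fun _ => ℕ) (@Bool.rec (fun _ => ℕ) rb15940 rb15941 (Nat.ble (nat_lit 15941) i)) (@Bool.rec (fun _ => ℕ) rb15942 rb15943 (Nat.ble (nat_lit 15943) i)) (Nat.ble (nat_lit 15942) i)) (Nat.ble (nat_lit 15940) i))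 (@Bool.rec (fun _ => ℕ) (@Bool.rec (fun _ => ℕ) (@Bool.rec (fun _ => ℕ) rb15944 rb15945 (Nat.ble (nat_lit 15945) i)) (@Bool.rec (fun _ => ℕ) rb15946 rb15947 (Nat.ble (nat_lit 15947) i)) (Nat.ble (nat_lit 15946) i)) (@Bool.rec (fun _ => ℕ) (@Bool.rec (fun _ => ℕ) rb15948 rb15949 (Nat.ble (nat_lit 15949) i)) (@Bool.rec (fun _ => ℕ) rb15950 rb15951 (Nat.ble (nat_lit 15951) i)) (Nat.ble (nat_lit 15950) i)) (Nat.ble (nat_lit 15948) i)) (Nat.ble (nat_lit 15944) i)) (@Bool.rec (fun _ => ℕ) (@Bool.rec (fun _ => ℕ) (@Bool.rec (fun _ => ℕ) (@Bool.rec (fun _ => ℕ) rb15952 rb15953 (Nat.ble (nat_lit 15953) i)) (@Bool.rec (fun _ => ℕ) rb15954 rb15955 (Nat.ble (nat_lit 15955) i)) (Nat.ble (nat_lit 15954) i)) (@Bool.rec (fun _ => ℕ) (@Bool.rec (fun _ => ℕ) rb15956 rb15957 (Nat.ble (nat_lit 15957) i)) (@Bool.rec (fun _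 => ℕ) rb15958 rb15959 (Nat.ble (nat_lit 15959) i)) (Nat.ble (nat_lit 15958) i)) (Nat.ble (nat_lit 15956) i)) (@Bool.rec (fun _ => ℕ) (@Bool.rec (fun _ => ℕ) (@Bool.rec (fun _ => ℕ) rb15960 rb15961 (Nat.ble (nat_lit 15961) i)) (@Bool.rec (fun _ => ℕ) rb15962 rb15963 (Nat.ble (nat_lit 15963) i)) (Nat.ble (nat_lit 15962) i)) (@Bool.rec (fun _ => ℕ) (@Bool.rec (fun _ => ℕ) rb15964 rb15965 (Nat.ble (nat_lit 15965) i)) (@Bool.rec (fun _ => ℕ) rb15966 rb15967 (Nat.ble (nat_lit 15967) i)) (Nat.ble (nat_lit 15966) i)) (Nat.ble (nat_lit 15964) i)) (Nat.ble (nat_lit 15960) i)) (Nat.ble (nat_lit 15952) i))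

def rowBlk_n0_499 (i : ℕ) : ℕ := (@Bool.rec (fun _ => ℕ) (@Bool.rec (fun _ => ℕ) (@Bool.rec (fun _ => ℕ) (@Bool.rec (fun _ => ℕ) (@Bool.rec (fun _ => ℕ) rb15968 rb15969 (Nat.ble (nat_lit 15969) i)) (@Bool.rec (fun _ => ℕ) rb15970 rb15971 (Nat.ble (nat_lit 15971) i)) (Nat.ble (nat_lit 15970) i)) (@Bool.rec (fun _ => ℕ) (@Bool.rec (fun _ => ℕ) rb15972 rb15973 (Nat.ble (nat_lit 15973) i)) (@Bool.rec (fun _ => ℕ) rb15974 rb15975 (Nat.ble (nat_lit 15975) i)) (Nat.ble (nat_lit 15974) i)) (Nat.ble (nat_lit 15972) i)) (@Bool.rec (fun _ => ℕ) (@Bool.rec (fun _ => ℕ) (@Bool.rec (fun _ => ℕ) rb15976 rb15977 (Nat.ble (nat_lit 15977) i)) (@Bool.rec (fun _ => ℕ) rb15978 rb15979 (Nat.ble (nat_lit 15979) i)) (Nat.ble (nat_lit 15978) i)) (@Bool.rec (fun _ => ℕ) (@Bool.rec (fun _ => ℕ) rb15980 rb15981 (Nat.ble (nat_lit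 15981) i)) (@Bool.rec (fun _ => ℕ) rb15982 rb15983 (Nat.ble (nat_lit 15983) i)) (Nat.ble (nat_lit 15982) i)) (Nat.ble (nat_lit 15980) i)) (Nat.ble (nat_lit 15976) i)) (@Bool.rec (fun _ => ℕ) (@Bool.rec (fun _ => ℕ) (@Bool.rec (fun _ => ℕ) (@Bool.rec (fun _ => ℕ) rb15984 rb15985 (Nat.ble (nat_lit 15985) i)) (@Bool.rec (fun _ => ℕ) rb15986 rb15987 (Nat.ble (nat_lit 15987) i)) (Nat.ble (nat_lit 15986) i)) (@Bool.rec (fun _ => ℕ) (@Bool.rec (fun _ => ℕ) rb15988 rb15989 (Nat.ble (nat_lit 15989) i)) (@Bool.rec (fun _ => ℕ) rb15990 rb15991 (Nat.ble (nat_lit 15991) i)) (Nat.ble (nat_lit 15990) i)) (Nat.ble (nat_lit 15988) i)) (@Bool.rec (fun _ => ℕ) (@Bool.rec (fun _ => ℕ) (@Bool.rec (fun _ => ℕ) rb15992 rb15993 (Nat.ble (nat_lit 15993) i)) (@Bool.rec (fun _ => ℕ) rb15994 rb15995 (Nat.ble (nat_lit 15995) i)) (Nat.ble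 (nat_lit 15994) i)) (@Bool.rec (fun _ => ℕ) (@Bool.rec (fun _ => ℕ) rb15996 rb15997 (Nat.ble (nat_lit 15997) i)) (@Bool.rec (fun _ => ℕ) rb15998 rb15999 (Nat.ble (nat_lit 15999) i)) (Nat.ble (nat_lit 15998) i)) (Nat.ble (nat_lit 15996) i)) (Nat.ble (nat_lit 15992) i)) (Nat.ble (nat_lit 15984) i))

def rowBlk_n0_500 (i : ℕ) : ℕ := (@Bool.rec (fun _ => ℕ) (@Bool.rec (fun _ => ℕ) (@Bool.rec (fun _ => ℕ) (@Bool.rec (fun _ => ℕ) (@Bool.rec (fun _ => ℕ) rb16000 rb16001 (Nat.ble (nat_lit 16001) i)) (@Bool.rec (fun _ => ℕ) rb16002 rb16003 (Nat.ble (nat_lit 16003) i)) (Nat.ble (nat_lit 16002) i)) (@Bool.rec (fun _ => ℕ) (@Bool.rec (fun _ => ℕ) rb16004 rb16005 (Nat.ble (nat_lit 16005) i)) (@Bool.rec (fun _ => ℕ) rb16006 rb16007 (Nat.ble (nat_lit 16007) i)) (Nat.ble (nat_lit 16006) i)) (Nat.ble (nat_lit 16004) i))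 (@Bool.rec (fun _ => ℕ) (@Bool.rec (fun _ => ℕ) (@Bool.rec (fun _ => ℕ) rb16008 rb16009 (Nat.ble (nat_lit 16009) i)) (@Bool.rec (fun _ => ℕ) rb16010 rb16011 (Nat.ble (nat_lit 16011) i)) (Nat.ble (nat_lit 16010) i)) (@Bool.rec (fun _ => ℕ) (@Bool.rec (fun _ => ℕ) rb16012 rb16013 (Nat.ble (nat_lit 16013) i)) (@Bool.rec (fun _ => ℕ) rb16014 rb16015 (Nat.ble (nat_lit 16015) i)) (Nat.ble (nat_lit 16014) i)) (Nat.ble (nat_lit 16012) i)) (Nat.ble (nat_lit 16008) i)) (@Bool.rec (fun _ => ℕ) (@Bool.rec (fun _ => ℕ) (@Bool.rec (fun _ => ℕ) (@Bool.rec (fun _ => ℕ) rb16016 rb16017 (Nat.ble (nat_lit 16017) i)) (@Bool.rec (fun _ => ℕ) rb16018 rb16019 (Nat.ble (nat_lit 16019) i)) (Nat.ble (nat_lit 16018) i)) (@Bool.rec (fun _ => ℕ) (@Bool.rec (fun _ => ℕ) rb16020 rb16021 (Nat.ble (nat_lit 16021) i)) (@Bool.rec (fun _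 => ℕ) rb16022 rb16023 (Nat.ble (nat_lit 16023) i)) (Nat.ble (nat_lit 16022) i)) (Nat.ble (nat_lit 16020) i)) (@Bool.rec (fun _ => ℕ) (@Bool.rec (fun _ => ℕ) (@Bool.rec (fun _ => ℕ) rb16024 rb16025 (Nat.ble (nat_lit 16025) i)) (@Bool.rec (fun _ => ℕ) rb16026 rb16027 (Nat.ble (nat_lit 16027) i)) (Nat.ble (nat_lit 16026) i)) (@Bool.rec (fun _ => ℕ) (@Bool.rec (fun _ => ℕ) rb16028 rb16029 (Nat.ble (nat_lit 16029) i)) (@Bool.rec (fun _ => ℕ) rb16030 rb16031 (Nat.ble (nat_lit 16031) i)) (Nat.ble (nat_lit 16030) i)) (Nat.ble (nat_lit 16028) i)) (Nat.ble (nat_lit 16024) i)) (Nat.ble (nat_lit 16016) i))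

def rowBlk_n0_501 (i : ℕ) : ℕ := (@Bool.rec (fun _ => ℕ) (@Bool.rec (fun _ => ℕ) (@Bool.rec (fun _ => ℕ) (@Bool.rec (fun _ => ℕ) (@Bool.rec (fun _ => ℕ) rb16032 rb16033 (Nat.ble (nat_lit 16033) i)) (@Bool.rec (fun _ => ℕ) rb16034 rb16035 (Nat.ble (nat_lit 16035) i)) (Nat.ble (nat_lit 16034) i)) (@Bool.rec (fun _ => ℕ) (@Bool.rec (fun _ => ℕ) rb16036 rb16037 (Nat.ble (nat_lit 16037) i)) (@Bool.rec (fun _ => ℕ) rb16038 rb16039 (Nat.ble (nat_lit 16039) i)) (Nat.ble (nat_lit 16038) i)) (Nat.ble (nat_lit 16036) i)) (@Bool.rec (fun _ => ℕ) (@Bool.rec (fun _ => ℕ) (@Bool.rec (fun _ => ℕ) rb16040 rb16041 (Nat.ble (nat_lit 16041) i)) (@Bool.rec (fun _ => ℕ) rb16042 rb16043 (Nat.ble (nat_lit 16043) i)) (Nat.ble (nat_lit 16042) i)) (@Bool.rec (fun _ => ℕ) (@Bool.rec (fun _ => ℕ) rb16044 rb16045 (Nat.ble (nat_lit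 16045) i)) (@Bool.rec (fun _ => ℕ) rb16046 rb16047 (Nat.ble (nat_lit 16047) i)) (Nat.ble (nat_lit 16046) i)) (Nat.ble (nat_lit 16044) i)) (Nat.ble (nat_lit 16040) i)) (@Bool.rec (fun _ => ℕ) (@Bool.rec (fun _ => ℕ) (@Bool.rec (fun _ => ℕ) (@Bool.rec (fun _ => ℕ) rb16048 rb16049 (Nat.ble (nat_lit 16049) i)) (@Bool.rec (fun _ => ℕ) rb16050 rb16051 (Nat.ble (nat_lit 16051) i)) (Nat.ble (nat_lit 16050) i)) (@Bool.rec (fun _ => ℕ) (@Bool.rec (fun _ => ℕ) rb16052 rb16053 (Nat.ble (nat_lit 16053) i)) (@Bool.rec (fun _ => ℕ) rb16054 rb16055 (Nat.ble (nat_lit 16055) i)) (Nat.ble (nat_lit 16054) i)) (Nat.ble (nat_lit 16052) i)) (@Bool.rec (fun _ => ℕ) (@Bool.rec (fun _ => ℕ) (@Bool.rec (fun _ => ℕ) rb16056 rb16057 (Nat.ble (nat_lit 16057) i)) (@Bool.rec (fun _ => ℕ) rb16058 rb16059 (Nat.ble (nat_lit 16059) i)) (Nat.ble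 (nat_lit 16058) i)) (@Bool.rec (fun _ => ℕ) (@Bool.rec (fun _ => ℕ) rb16060 rb16061 (Nat.ble (nat_lit 16061) i)) (@Bool.rec (fun _ => ℕ) rb16062 rb16063 (Nat.ble (nat_lit 16063) i)) (Nat.ble (nat_lit 16062) i)) (Nat.ble (nat_lit 16060) i)) (Nat.ble (nat_lit 16056) i)) (Nat.ble (nat_lit 16048) i))

def rowBlk_n0_502 (i : ℕ) : ℕ := (@Bool.rec (fun _ => ℕ) (@Bool.rec (fun _ => ℕ) (@Bool.rec (fun _ => ℕ) (@Bool.rec (fun _ => ℕ) (@Bool.rec (fun _ => ℕ) rb16064 rb16065 (Nat.ble (nat_lit 16065) i)) (@Bool.rec (fun _ => ℕ) rb16066 rb16067 (Nat.ble (nat_lit 16067) i)) (Nat.ble (nat_lit 16066) i)) (@Bool.rec (fun _ => ℕ) (@Bool.rec (fun _ => ℕ) rb16068 rb16069 (Nat.ble (nat_lit 16069) i)) (@Bool.rec (fun _ => ℕ) rb16070 rb16071 (Nat.ble (nat_lit 16071) i)) (Nat.ble (nat_lit 16070) i)) (Nat.ble (nat_lit 16068) i))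 (@Bool.rec (fun _ => ℕ) (@Bool.rec (fun _ => ℕ) (@Bool.rec (fun _ => ℕ) rb16072 rb16073 (Nat.ble (nat_lit 16073) i)) (@Bool.rec (fun _ => ℕ) rb16074 rb16075 (Nat.ble (nat_lit 16075) i)) (Nat.ble (nat_lit 16074) i)) (@Bool.rec (fun _ => ℕ) (@Bool.rec (fun _ => ℕ) rb16076 rb16077 (Nat.ble (nat_lit 16077) i)) (@Bool.rec (fun _ => ℕ) rb16078 rb16079 (Nat.ble (nat_lit 16079) i)) (Nat.ble (nat_lit 16078) i)) (Nat.ble (nat_lit 16076) i)) (Nat.ble (nat_lit 16072) i)) (@Bool.rec (fun _ => ℕ) (@Bool.rec (fun _ => ℕ) (@Bool.rec (fun _ => ℕ) (@Bool.rec (fun _ => ℕ) rb16080 rb16081 (Nat.ble (nat_lit 16081) i)) (@Bool.rec (fun _ => ℕ) rb16082 rb16083 (Nat.ble (nat_lit 16083) i)) (Nat.ble (nat_lit 16082) i)) (@Bool.rec (fun _ => ℕ) (@Bool.rec (fun _ => ℕ) rb16084 rb16085 (Nat.ble (nat_lit 16085) i)) (@Bool.rec (fun _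 => ℕ) rb16086 rb16087 (Nat.ble (nat_lit 16087) i)) (Nat.ble (nat_lit 16086) i)) (Nat.ble (nat_lit 16084) i)) (@Bool.rec (fun _ => ℕ) (@Bool.rec (fun _ => ℕ) (@Bool.rec (fun _ => ℕ) rb16088 rb16089 (Nat.ble (nat_lit 16089) i)) (@Bool.rec (fun _ => ℕ) rb16090 rb16091 (Nat.ble (nat_lit 16091) i)) (Nat.ble (nat_lit 16090) i)) (@Bool.rec (fun _ => ℕ) (@Bool.rec (fun _ => ℕ) rb16092 rb16093 (Nat.ble (nat_lit 16093) i)) (@Bool.rec (fun _ => ℕ) rb16094 rb16095 (Nat.ble (nat_lit 16095) i)) (Nat.ble (nat_lit 16094) i)) (Nat.ble (nat_lit 16092) i)) (Nat.ble (nat_lit 16088) i)) (Nat.ble (nat_lit 16080) i))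

def rowBlk_n0_503 (i : ℕ) : ℕ := (@Bool.rec (fun _ => ℕ) (@Bool.rec (fun _ => ℕ) (@Bool.rec (fun _ => ℕ) (@Bool.rec (fun _ => ℕ) (@Bool.rec (fun _ => ℕ) rb16096 rb16097 (Nat.ble (nat_lit 16097) i)) (@Bool.rec (fun _ => ℕ) rb16098 rb16099 (Nat.ble (nat_lit 16099) i)) (Nat.ble (nat_lit 16098) i)) (@Bool.rec (fun _ => ℕ) (@Bool.rec (fun _ => ℕ) rb16100 rb16101 (Nat.ble (nat_lit 16101) i)) (@Bool.rec (fun _ => ℕ) rb16102 rb16103 (Nat.ble (nat_lit 16103) i)) (Nat.ble (nat_lit 16102) i)) (Nat.ble (nat_lit 16100) i)) (@Bool.rec (fun _ => ℕ) (@Bool.rec (fun _ => ℕ) (@Bool.rec (fun _ => ℕ) rb16104 rb16105 (Nat.ble (nat_lit 16105) i)) (@Bool.rec (fun _ => ℕ) rb16106 rb16107 (Nat.ble (nat_lit 16107) i)) (Nat.ble (nat_lit 16106) i)) (@Bool.rec (fun _ => ℕ) (@Bool.rec (fun _ => ℕ) rb16108 rb16109 (Nat.ble (nat_lit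 16109) i)) (@Bool.rec (fun _ => ℕ) rb16110 rb16111 (Nat.ble (nat_lit 16111) i)) (Nat.ble (nat_lit 16110) i)) (Nat.ble (nat_lit 16108) i)) (Nat.ble (nat_lit 16104) i)) (@Bool.rec (fun _ => ℕ) (@Bool.rec (fun _ => ℕ) (@Bool.rec (fun _ => ℕ) (@Bool.rec (fun _ => ℕ) rb16112 rb16113 (Nat.ble (nat_lit 16113) i)) (@Bool.rec (fun _ => ℕ) rb16114 rb16115 (Nat.ble (nat_lit 16115) i)) (Nat.ble (nat_lit 16114) i)) (@Bool.rec (fun _ => ℕ) (@Bool.rec (fun _ => ℕ) rb16116 rb16117 (Nat.ble (nat_lit 16117) i)) (@Bool.rec (fun _ => ℕ) rb16118 rb16119 (Nat.ble (nat_lit 16119) i)) (Nat.ble (nat_lit 16118) i)) (Nat.ble (nat_lit 16116) i)) (@Bool.rec (fun _ => ℕ) (@Bool.rec (fun _ => ℕ) (@Bool.rec (fun _ => ℕ) rb16120 rb16121 (Nat.ble (nat_lit 16121) i)) (@Bool.rec (fun _ => ℕ) rb16122 rb16123 (Nat.ble (nat_lit 16123) i)) (Nat.ble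 (nat_lit 16122) i)) (@Bool.rec (fun _ => ℕ) (@Bool.rec (fun _ => ℕ) rb16124 rb16125 (Nat.ble (nat_lit 16125) i)) (@Bool.rec (fun _ => ℕ) rb16126 rb16127 (Nat.ble (nat_lit 16127) i)) (Nat.ble (nat_lit 16126) i)) (Nat.ble (nat_lit 16124) i)) (Nat.ble (nat_lit 16120) i)) (Nat.ble (nat_lit 16112) i))

def rowBlk_n0_504 (i : ℕ) : ℕ := (@Bool.rec (fun _ => ℕ) (@Bool.rec (fun _ => ℕ) (@Bool.rec (fun _ => ℕ) (@Bool.rec (fun _ => ℕ) (@Bool.rec (fun _ => ℕ) rb16128 rb16129 (Nat.ble (nat_lit 16129) i)) (@Bool.rec (fun _ => ℕ) rb16130 rb16131 (Nat.ble (nat_lit 16131) i)) (Nat.ble (nat_lit 16130) i)) (@Bool.rec (fun _ => ℕ) (@Bool.rec (fun _ => ℕ) rb16132 rb16133 (Nat.ble (nat_lit 16133) i)) (@Bool.rec (fun _ => ℕ) rb16134 rb16135 (Nat.ble (nat_lit 16135) i)) (Nat.ble (nat_lit 16134) i)) (Nat.ble (nat_lit 16132) i))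 (@Bool.rec (fun _ => ℕ) (@Bool.rec (fun _ => ℕ) (@Bool.rec (fun _ => ℕ) rb16136 rb16137 (Nat.ble (nat_lit 16137) i)) (@Bool.rec (fun _ => ℕ) rb16138 rb16139 (Nat.ble (nat_lit 16139) i)) (Nat.ble (nat_lit 16138) i)) (@Bool.rec (fun _ => ℕ) (@Bool.rec (fun _ => ℕ) rb16140 rb16141 (Nat.ble (nat_lit 16141) i)) (@Bool.rec (fun _ => ℕ) rb16142 rb16143 (Nat.ble (nat_lit 16143) i)) (Nat.ble (nat_lit 16142) i)) (Nat.ble (nat_lit 16140) i)) (Nat.ble (nat_lit 16136) i)) (@Bool.rec (fun _ => ℕ) (@Bool.rec (fun _ => ℕ) (@Bool.rec (fun _ => ℕ) (@Bool.rec (fun _ => ℕ) rb16144 rb16145 (Nat.ble (nat_lit 16145) i)) (@Bool.rec (fun _ => ℕ) rb16146 rb16147 (Nat.ble (nat_lit 16147) i)) (Nat.ble (nat_lit 16146) i)) (@Bool.rec (fun _ => ℕ) (@Bool.rec (fun _ => ℕ) rb16148 rb16149 (Nat.ble (nat_lit 16149) i)) (@Bool.rec (fun _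 => ℕ) rb16150 rb16151 (Nat.ble (nat_lit 16151) i)) (Nat.ble (nat_lit 16150) i)) (Nat.ble (nat_lit 16148) i)) (@Bool.rec (fun _ => ℕ) (@Bool.rec (fun _ => ℕ) (@Bool.rec (fun _ => ℕ) rb16152 rb16153 (Nat.ble (nat_lit 16153) i)) (@Bool.rec (fun _ => ℕ) rb16154 rb16155 (Nat.ble (nat_lit 16155) i)) (Nat.ble (nat_lit 16154) i)) (@Bool.rec (fun _ => ℕ) (@Bool.rec (fun _ => ℕ) rb16156 rb16157 (Nat.ble (nat_lit 16157) i)) (@Bool.rec (fun _ => ℕ) rb16158 rb16159 (Nat.ble (nat_lit 16159) i)) (Nat.ble (nat_lit 16158) i)) (Nat.ble (nat_lit 16156) i)) (Nat.ble (nat_lit 16152) i)) (Nat.ble (nat_lit 16144) i))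

def rowBlk_n0_505 (i : ℕ) : ℕ := (@Bool.rec (fun _ => ℕ) (@Bool.rec (fun _ => ℕ) (@Bool.rec (fun _ => ℕ) (@Bool.rec (fun _ => ℕ) (@Bool.rec (fun _ => ℕ) rb16160 rb16161 (Nat.ble (nat_lit 16161) i)) (@Bool.rec (fun _ => ℕ) rb16162 rb16163 (Nat.ble (nat_lit 16163) i)) (Nat.ble (nat_lit 16162) i)) (@Bool.rec (fun _ => ℕ) (@Bool.rec (fun _ => ℕ) rb16164 rb16165 (Nat.ble (nat_lit 16165) i)) (@Bool.rec (fun _ => ℕ) rb16166 rb16167 (Nat.ble (nat_lit 16167) i)) (Nat.ble (nat_lit 16166) i)) (Nat.ble (nat_lit 16164) i)) (@Bool.rec (fun _ => ℕ) (@Bool.rec (fun _ => ℕ) (@Bool.rec (fun _ => ℕ) rb16168 rb16169 (Nat.ble (nat_lit 16169) i)) (@Bool.rec (fun _ => ℕ) rb16170 rb16171 (Nat.ble (nat_lit 16171) i)) (Nat.ble (nat_lit 16170) i)) (@Bool.rec (fun _ => ℕ) (@Bool.rec (fun _ => ℕ) rb16172 rb16173 (Nat.ble (nat_lit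 16173) i)) (@Bool.rec (fun _ => ℕ) rb16174 rb16175 (Nat.ble (nat_lit 16175) i)) (Nat.ble (nat_lit 16174) i)) (Nat.ble (nat_lit 16172) i)) (Nat.ble (nat_lit 16168) i)) (@Bool.rec (fun _ => ℕ) (@Bool.rec (fun _ => ℕ) (@Bool.rec (fun _ => ℕ) (@Bool.rec (fun _ => ℕ) rb16176 rb16177 (Nat.ble (nat_lit 16177) i)) (@Bool.rec (fun _ => ℕ) rb16178 rb16179 (Nat.ble (nat_lit 16179) i)) (Nat.ble (nat_lit 16178) i)) (@Bool.rec (fun _ => ℕ) (@Bool.rec (fun _ => ℕ) rb16180 rb16181 (Nat.ble (nat_lit 16181) i)) (@Bool.rec (fun _ => ℕ) rb16182 rb16183 (Nat.ble (nat_lit 16183) i)) (Nat.ble (nat_lit 16182) i)) (Nat.ble (nat_lit 16180) i)) (@Bool.rec (fun _ => ℕ) (@Bool.rec (fun _ => ℕ) (@Bool.rec (fun _ => ℕ) rb16184 rb16185 (Nat.ble (nat_lit 16185) i)) (@Bool.rec (fun _ => ℕ) rb16186 rb16187 (Nat.ble (nat_lit 16187) i)) (Nat.ble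 (nat_lit 16186) i)) (@Bool.rec (fun _ => ℕ) (@Bool.rec (fun _ => ℕ) rb16188 rb16189 (Nat.ble (nat_lit 16189) i)) (@Bool.rec (fun _ => ℕ) rb16190 rb16191 (Nat.ble (nat_lit 16191) i)) (Nat.ble (nat_lit 16190) i)) (Nat.ble (nat_lit 16188) i)) (Nat.ble (nat_lit 16184) i)) (Nat.ble (nat_lit 16176) i))

def rowBlk_n0_506 (i : ℕ) : ℕ := (@Bool.rec (fun _ => ℕ) (@Bool.rec (fun _ => ℕ) (@Bool.rec (fun _ => ℕ) (@Bool.rec (fun _ => ℕ) (@Bool.rec (fun _ => ℕ) rb16192 rb16193 (Nat.ble (nat_lit 16193) i)) (@Bool.rec (fun _ => ℕ) rb16194 rb16195 (Nat.ble (nat_lit 16195) i)) (Nat.ble (nat_lit 16194) i)) (@Bool.rec (fun _ => ℕ) (@Bool.rec (fun _ => ℕ) rb16196 rb16197 (Nat.ble (nat_lit 16197) i)) (@Bool.rec (fun _ => ℕ) rb16198 rb16199 (Nat.ble (nat_lit 16199) i)) (Nat.ble (nat_lit 16198) i)) (Nat.ble (nat_lit 16196) i))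 (@Bool.rec (fun _ => ℕ) (@Bool.rec (fun _ => ℕ) (@Bool.rec (fun _ => ℕ) rb16200 rb16201 (Nat.ble (nat_lit 16201) i)) (@Bool.rec (fun _ => ℕ) rb16202 rb16203 (Nat.ble (nat_lit 16203) i)) (Nat.ble (nat_lit 16202) i)) (@Bool.rec (fun _ => ℕ) (@Bool.rec (fun _ => ℕ) rb16204 rb16205 (Nat.ble (nat_lit 16205) i)) (@Bool.rec (fun _ => ℕ) rb16206 rb16207 (Nat.ble (nat_lit 16207) i)) (Nat.ble (nat_lit 16206) i)) (Nat.ble (nat_lit 16204) i)) (Nat.ble (nat_lit 16200) i)) (@Bool.rec (fun _ => ℕ) (@Bool.rec (fun _ => ℕ) (@Bool.rec (fun _ => ℕ) (@Bool.rec (fun _ => ℕ) rb16208 rb16209 (Nat.ble (nat_lit 16209) i)) (@Bool.rec (fun _ => ℕ) rb16210 rb16211 (Nat.ble (nat_lit 16211) i)) (Nat.ble (nat_lit 16210) i)) (@Bool.rec (fun _ => ℕ) (@Bool.rec (fun _ => ℕ) rb16212 rb16213 (Nat.ble (nat_lit 16213) i)) (@Bool.rec (fun _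 => ℕ) rb16214 rb16215 (Nat.ble (nat_lit 16215) i)) (Nat.ble (nat_lit 16214) i)) (Nat.ble (nat_lit 16212) i)) (@Bool.rec (fun _ => ℕ) (@Bool.rec (fun _ => ℕ) (@Bool.rec (fun _ => ℕ) rb16216 rb16217 (Nat.ble (nat_lit 16217) i)) (@Bool.rec (fun _ => ℕ) rb16218 rb16219 (Nat.ble (nat_lit 16219) i)) (Nat.ble (nat_lit 16218) i)) (@Bool.rec (fun _ => ℕ) (@Bool.rec (fun _ => ℕ) rb16220 rb16221 (Nat.ble (nat_lit 16221) i)) (@Bool.rec (fun _ => ℕ) rb16222 rb16223 (Nat.ble (nat_lit 16223) i)) (Nat.ble (nat_lit 16222) i)) (Nat.ble (nat_lit 16220) i)) (Nat.ble (nat_lit 16216) i)) (Nat.ble (nat_lit 16208) i))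

def rowBlk_n0_507 (i : ℕ) : ℕ := (@Bool.rec (fun _ => ℕ) (@Bool.rec (fun _ => ℕ) (@Bool.rec (fun _ => ℕ) (@Bool.rec (fun _ => ℕ) (@Bool.rec (fun _ => ℕ) rb16224 rb16225 (Nat.ble (nat_lit 16225) i)) (@Bool.rec (fun _ => ℕ) rb16226 rb16227 (Nat.ble (nat_lit 16227) i)) (Nat.ble (nat_lit 16226) i)) (@Bool.rec (fun _ => ℕ) (@Bool.rec (fun _ => ℕ) rb16228 rb16229 (Nat.ble (nat_lit 16229) i)) (@Bool.rec (fun _ => ℕ) rb16230 rb16231 (Nat.ble (nat_lit 16231) i)) (Nat.ble (nat_lit 16230) i)) (Nat.ble (nat_lit 16228) i)) (@Bool.rec (fun _ => ℕ) (@Bool.rec (fun _ => ℕ) (@Bool.rec (fun _ => ℕ) rb16232 rb16233 (Nat.ble (nat_lit 16233) i)) (@Bool.rec (fun _ => ℕ) rb16234 rb16235 (Nat.ble (nat_lit 16235) i)) (Nat.ble (nat_lit 16234) i)) (@Bool.rec (fun _ => ℕ) (@Bool.rec (fun _ => ℕ) rb16236 rb16237 (Nat.ble (nat_lit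 16237) i)) (@Bool.rec (fun _ => ℕ) rb16238 rb16239 (Nat.ble (nat_lit 16239) i)) (Nat.ble (nat_lit 16238) i)) (Nat.ble (nat_lit 16236) i)) (Nat.ble (nat_lit 16232) i)) (@Bool.rec (fun _ => ℕ) (@Bool.rec (fun _ => ℕ) (@Bool.rec (fun _ => ℕ) (@Bool.rec (fun _ => ℕ) rb16240 rb16241 (Nat.ble (nat_lit 16241) i)) (@Bool.rec (fun _ => ℕ) rb16242 rb16243 (Nat.ble (nat_lit 16243) i)) (Nat.ble (nat_lit 16242) i)) (@Bool.rec (fun _ => ℕ) (@Bool.rec (fun _ => ℕ) rb16244 rb16245 (Nat.ble (nat_lit 16245) i)) (@Bool.rec (fun _ => ℕ) rb16246 rb16247 (Nat.ble (nat_lit 16247) i)) (Nat.ble (nat_lit 16246) i)) (Nat.ble (nat_lit 16244) i)) (@Bool.rec (fun _ => ℕ) (@Bool.rec (fun _ => ℕ) (@Bool.rec (fun _ => ℕ) rb16248 rb16249 (Nat.ble (nat_lit 16249) i)) (@Bool.rec (fun _ => ℕ) rb16250 rb16251 (Nat.ble (nat_lit 16251) i)) (Nat.ble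 (nat_lit 16250) i)) (@Bool.rec (fun _ => ℕ) (@Bool.rec (fun _ => ℕ) rb16252 rb16253 (Nat.ble (nat_lit 16253) i)) (@Bool.rec (fun _ => ℕ) rb16254 rb16255 (Nat.ble (nat_lit 16255) i)) (Nat.ble (nat_lit 16254) i)) (Nat.ble (nat_lit 16252) i)) (Nat.ble (nat_lit 16248) i)) (Nat.ble (nat_lit 16240) i))

def rowBlk_n0_508 (i : ℕ) : ℕ := (@Bool.rec (fun _ => ℕ) (@Bool.rec (fun _ => ℕ) (@Bool.rec (fun _ => ℕ) (@Bool.rec (fun _ => ℕ) (@Bool.rec (fun _ => ℕ) rb16256 rb16257 (Nat.ble (nat_lit 16257) i)) (@Bool.rec (fun _ => ℕ) rb16258 rb16259 (Nat.ble (nat_lit 16259) i)) (Nat.ble (nat_lit 16258) i)) (@Bool.rec (fun _ => ℕ) (@Bool.rec (fun _ => ℕ) rb16260 rb16261 (Nat.ble (nat_lit 16261) i)) (@Bool.rec (fun _ => ℕ) rb16262 rb16263 (Nat.ble (nat_lit 16263) i)) (Nat.ble (nat_lit 16262) i)) (Nat.ble (nat_lit 16260) i))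 (@Bool.rec (fun _ => ℕ) (@Bool.rec (fun _ => ℕ) (@Bool.rec (fun _ => ℕ) rb16264 rb16265 (Nat.ble (nat_lit 16265) i)) (@Bool.rec (fun _ => ℕ) rb16266 rb16267 (Nat.ble (nat_lit 16267) i)) (Nat.ble (nat_lit 16266) i)) (@Bool.rec (fun _ => ℕ) (@Bool.rec (fun _ => ℕ) rb16268 rb16269 (Nat.ble (nat_lit 16269) i)) (@Bool.rec (fun _ => ℕ) rb16270 rb16271 (Nat.ble (nat_lit 16271) i)) (Nat.ble (nat_lit 16270) i)) (Nat.ble (nat_lit 16268) i)) (Nat.ble (nat_lit 16264) i)) (@Bool.rec (fun _ => ℕ) (@Bool.rec (fun _ => ℕ) (@Bool.rec (fun _ => ℕ) (@Bool.rec (fun _ => ℕ) rb16272 rb16273 (Nat.ble (nat_lit 16273) i)) (@Bool.rec (fun _ => ℕ) rb16274 rb16275 (Nat.ble (nat_lit 16275) i)) (Nat.ble (nat_lit 16274) i)) (@Bool.rec (fun _ => ℕ) (@Bool.rec (fun _ => ℕ) rb16276 rb16277 (Nat.ble (nat_lit 16277) i)) (@Bool.rec (fun _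 => ℕ) rb16278 rb16279 (Nat.ble (nat_lit 16279) i)) (Nat.ble (nat_lit 16278) i)) (Nat.ble (nat_lit 16276) i)) (@Bool.rec (fun _ => ℕ) (@Bool.rec (fun _ => ℕ) (@Bool.rec (fun _ => ℕ) rb16280 rb16281 (Nat.ble (nat_lit 16281) i)) (@Bool.rec (fun _ => ℕ) rb16282 rb16283 (Nat.ble (nat_lit 16283) i)) (Nat.ble (nat_lit 16282) i)) (@Bool.rec (fun _ => ℕ) (@Bool.rec (fun _ => ℕ) rb16284 rb16285 (Nat.ble (nat_lit 16285) i)) (@Bool.rec (fun _ => ℕ) rb16286 rb16287 (Nat.ble (nat_lit 16287) i)) (Nat.ble (nat_lit 16286) i)) (Nat.ble (nat_lit 16284) i)) (Nat.ble (nat_lit 16280) i)) (Nat.ble (nat_lit 16272) i))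

def rowBlk_n0_509 (i : ℕ) : ℕ := (@Bool.rec (fun _ => ℕ) (@Bool.rec (fun _ => ℕ) (@Bool.rec (fun _ => ℕ) (@Bool.rec (fun _ => ℕ) (@Bool.rec (fun _ => ℕ) rb16288 rb16289 (Nat.ble (nat_lit 16289) i)) (@Bool.rec (fun _ => ℕ) rb16290 rb16291 (Nat.ble (nat_lit 16291) i)) (Nat.ble (nat_lit 16290) i)) (@Bool.rec (fun _ => ℕ) (@Bool.rec (fun _ => ℕ) rb16292 rb16293 (Nat.ble (nat_lit 16293) i)) (@Bool.rec (fun _ => ℕ) rb16294 rb16295 (Nat.ble (nat_lit 16295) i)) (Nat.ble (nat_lit 16294) i)) (Nat.ble (nat_lit 16292) i)) (@Bool.rec (fun _ => ℕ) (@Bool.rec (fun _ => ℕ) (@Bool.rec (fun _ => ℕ) rb16296 rb16297 (Nat.ble (nat_lit 16297) i)) (@Bool.rec (fun _ => ℕ) rb16298 rb16299 (Nat.ble (nat_lit 16299) i)) (Nat.ble (nat_lit 16298) i)) (@Bool.rec (fun _ => ℕ) (@Bool.rec (fun _ => ℕ) rb16300 rb16301 (Nat.ble (nat_lit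 16301) i)) (@Bool.rec (fun _ => ℕ) rb16302 rb16303 (Nat.ble (nat_lit 16303) i)) (Nat.ble (nat_lit 16302) i)) (Nat.ble (nat_lit 16300) i)) (Nat.ble (nat_lit 16296) i)) (@Bool.rec (fun _ => ℕ) (@Bool.rec (fun _ => ℕ) (@Bool.rec (fun _ => ℕ) (@Bool.rec (fun _ => ℕ) rb16304 rb16305 (Nat.ble (nat_lit 16305) i)) (@Bool.rec (fun _ => ℕ) rb16306 rb16307 (Nat.ble (nat_lit 16307) i)) (Nat.ble (nat_lit 16306) i)) (@Bool.rec (fun _ => ℕ) (@Bool.rec (fun _ => ℕ) rb16308 rb16309 (Nat.ble (nat_lit 16309) i)) (@Bool.rec (fun _ => ℕ) rb16310 rb16311 (Nat.ble (nat_lit 16311) i)) (Nat.ble (nat_lit 16310) i)) (Nat.ble (nat_lit 16308) i)) (@Bool.rec (fun _ => ℕ) (@Bool.rec (fun _ => ℕ) (@Bool.rec (fun _ => ℕ) rb16312 rb16313 (Nat.ble (nat_lit 16313) i)) (@Bool.rec (fun _ => ℕ) rb16314 rb16315 (Nat.ble (nat_lit 16315) i)) (Nat.ble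 (nat_lit 16314) i)) (@Bool.rec (fun _ => ℕ) (@Bool.rec (fun _ => ℕ) rb16316 rb16317 (Nat.ble (nat_lit 16317) i)) (@Bool.rec (fun _ => ℕ) rb16318 rb16319 (Nat.ble (nat_lit 16319) i)) (Nat.ble (nat_lit 16318) i)) (Nat.ble (nat_lit 16316) i)) (Nat.ble (nat_lit 16312) i)) (Nat.ble (nat_lit 16304) i))

def rowBlk_n0_510 (i : ℕ) : ℕ := (@Bool.rec (fun _ => ℕ) (@Bool.rec (fun _ => ℕ) (@Bool.rec (fun _ => ℕ) (@Bool.rec (fun _ => ℕ) (@Bool.rec (fun _ => ℕ) rb16320 rb16321 (Nat.ble (nat_lit 16321) i)) (@Bool.rec (fun _ => ℕ) rb16322 rb16323 (Nat.ble (nat_lit 16323) i)) (Nat.ble (nat_lit 16322) i)) (@Bool.rec (fun _ => ℕ) (@Bool.rec (fun _ => ℕ) rb16324 rb16325 (Nat.ble (nat_lit 16325) i)) (@Bool.rec (fun _ => ℕ) rb16326 rb16327 (Nat.ble (nat_lit 16327) i)) (Nat.ble (nat_lit 16326) i)) (Nat.ble (nat_lit 16324) i))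 (@Bool.rec (fun _ => ℕ) (@Bool.rec (fun _ => ℕ) (@Bool.rec (fun _ => ℕ) rb16328 rb16329 (Nat.ble (nat_lit 16329) i)) (@Bool.rec (fun _ => ℕ) rb16330 rb16331 (Nat.ble (nat_lit 16331) i)) (Nat.ble (nat_lit 16330) i)) (@Bool.rec (fun _ => ℕ) (@Bool.rec (fun _ => ℕ) rb16332 rb16333 (Nat.ble (nat_lit 16333) i)) (@Bool.rec (fun _ => ℕ) rb16334 rb16335 (Nat.ble (nat_lit 16335) i)) (Nat.ble (nat_lit 16334) i)) (Nat.ble (nat_lit 16332) i)) (Nat.ble (nat_lit 16328) i)) (@Bool.rec (fun _ => ℕ) (@Bool.rec (fun _ => ℕ) (@Bool.rec (fun _ => ℕ) (@Bool.rec (fun _ => ℕ) rb16336 rb16337 (Nat.ble (nat_lit 16337) i)) (@Bool.rec (fun _ => ℕ) rb16338 rb16339 (Nat.ble (nat_lit 16339) i)) (Nat.ble (nat_lit 16338) i)) (@Bool.rec (fun _ => ℕ) (@Bool.rec (fun _ => ℕ) rb16340 rb16341 (Nat.ble (nat_lit 16341) i)) (@Bool.rec (fun _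 => ℕ) rb16342 rb16343 (Nat.ble (nat_lit 16343) i)) (Nat.ble (nat_lit 16342) i)) (Nat.ble (nat_lit 16340) i)) (@Bool.rec (fun _ => ℕ) (@Bool.rec (fun _ => ℕ) (@Bool.rec (fun _ => ℕ) rb16344 rb16345 (Nat.ble (nat_lit 16345) i)) (@Bool.rec (fun _ => ℕ) rb16346 rb16347 (Nat.ble (nat_lit 16347) i)) (Nat.ble (nat_lit 16346) i)) (@Bool.rec (fun _ => ℕ) (@Bool.rec (fun _ => ℕ) rb16348 rb16349 (Nat.ble (nat_lit 16349) i)) (@Bool.rec (fun _ => ℕ) rb16350 rb16351 (Nat.ble (nat_lit 16351) i)) (Nat.ble (nat_lit 16350) i)) (Nat.ble (nat_lit 16348) i)) (Nat.ble (nat_lit 16344) i)) (Nat.ble (nat_lit 16336) i))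

def rowBlk_n0_511 (i : ℕ) : ℕ := (@Bool.rec (fun _ => ℕ) (@Bool.rec (fun _ => ℕ) (@Bool.rec (fun _ => ℕ) (@Bool.rec (fun _ => ℕ) (@Bool.rec (fun _ => ℕ) rb16352 rb16353 (Nat.ble (nat_lit 16353) i)) (@Bool.rec (fun _ => ℕ) rb16354 rb16355 (Nat.ble (nat_lit 16355) i)) (Nat.ble (nat_lit 16354) i)) (@Bool.rec (fun _ => ℕ) (@Bool.rec (fun _ => ℕ) rb16356 rb16357 (Nat.ble (nat_lit 16357) i)) (@Bool.rec (fun _ => ℕ) rb16358 rb16359 (Nat.ble (nat_lit 16359) i)) (Nat.ble (nat_lit 16358) i)) (Nat.ble (nat_lit 16356) i)) (@Bool.rec (fun _ => ℕ) (@Bool.rec (fun _ => ℕ) (@Bool.rec (fun _ => ℕ) rb16360 rb16361 (Nat.ble (nat_lit 16361) i)) (@Bool.rec (fun _ => ℕ) rb16362 rb16363 (Nat.ble (nat_lit 16363) i)) (Nat.ble (nat_lit 16362) i)) (@Bool.rec (fun _ => ℕ) (@Bool.rec (fun _ => ℕ) rb16364 rb16365 (Nat.ble (nat_lit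 16365) i)) (@Bool.rec (fun _ => ℕ) rb16366 rb16367 (Nat.ble (nat_lit 16367) i)) (Nat.ble (nat_lit 16366) i)) (Nat.ble (nat_lit 16364) i)) (Nat.ble (nat_lit 16360) i)) (@Bool.rec (fun _ => ℕ) (@Bool.rec (fun _ => ℕ) (@Bool.rec (fun _ => ℕ) (@Bool.rec (fun _ => ℕ) rb16368 rb16369 (Nat.ble (nat_lit 16369) i)) (@Bool.rec (fun _ => ℕ) rb16370 rb16371 (Nat.ble (nat_lit 16371) i)) (Nat.ble (nat_lit 16370) i)) (@Bool.rec (fun _ => ℕ) (@Bool.rec (fun _ => ℕ) rb16372 rb16373 (Nat.ble (nat_lit 16373) i)) (@Bool.rec (fun _ => ℕ) rb16374 rb16375 (Nat.ble (nat_lit 16375) i)) (Nat.ble (nat_lit 16374) i)) (Nat.ble (nat_lit 16372) i)) (@Bool.rec (fun _ => ℕ) (@Bool.rec (fun _ => ℕ) (@Bool.rec (fun _ => ℕ) rb16376 rb16377 (Nat.ble (nat_lit 16377) i)) (@Bool.rec (fun _ => ℕ) rb16378 rb16379 (Nat.ble (nat_lit 16379) i)) (Nat.ble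 (nat_lit 16378) i)) (@Bool.rec (fun _ => ℕ) (@Bool.rec (fun _ => ℕ) rb16380 rb16381 (Nat.ble (nat_lit 16381) i)) (@Bool.rec (fun _ => ℕ) rb16382 rb16383 (Nat.ble (nat_lit 16383) i)) (Nat.ble (nat_lit 16382) i)) (Nat.ble (nat_lit 16380) i)) (Nat.ble (nat_lit 16376) i)) (Nat.ble (nat_lit 16368) i))

def rowBlk_n0_512 (i : ℕ) : ℕ := (@Bool.rec (fun _ => ℕ) (@Bool.rec (fun _ => ℕ) (@Bool.rec (fun _ => ℕ) (@Bool.rec (fun _ => ℕ) (@Bool.rec (fun _ => ℕ) rb16384 rb16385 (Nat.ble (nat_lit 16385) i)) (@Bool.rec (fun _ => ℕ) rb16386 rb16387 (Nat.ble (nat_lit 16387) i)) (Nat.ble (nat_lit 16386) i)) (@Bool.rec (fun _ => ℕ) (@Bool.rec (fun _ => ℕ) rb16388 rb16389 (Nat.ble (nat_lit 16389) i)) (@Bool.rec (fun _ => ℕ) rb16390 rb16391 (Nat.ble (nat_lit 16391) i)) (Nat.ble (nat_lit 16390) i)) (Nat.ble (nat_lit 16388) i))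 (@Bool.rec (fun _ => ℕ) (@Bool.rec (fun _ => ℕ) (@Bool.rec (fun _ => ℕ) rb16392 rb16393 (Nat.ble (nat_lit 16393) i)) (@Bool.rec (fun _ => ℕ) rb16394 rb16395 (Nat.ble (nat_lit 16395) i)) (Nat.ble (nat_lit 16394) i)) (@Bool.rec (fun _ => ℕ) (@Bool.rec (fun _ => ℕ) rb16396 rb16397 (Nat.ble (nat_lit 16397) i)) (@Bool.rec (fun _ => ℕ) rb16398 rb16399 (Nat.ble (nat_lit 16399) i)) (Nat.ble (nat_lit 16398) i)) (Nat.ble (nat_lit 16396) i)) (Nat.ble (nat_lit 16392) i)) (@Bool.rec (fun _ => ℕ) (@Bool.rec (fun _ => ℕ) (@Bool.rec (fun _ => ℕ) (@Bool.rec (fun _ => ℕ) rb16400 rb16401 (Nat.ble (nat_lit 16401) i)) (@Bool.rec (fun _ => ℕ) rb16402 rb16403 (Nat.ble (nat_lit 16403) i)) (Nat.ble (nat_lit 16402) i)) (@Bool.rec (fun _ => ℕ) (@Bool.rec (fun _ => ℕ) rb16404 rb16405 (Nat.ble (nat_lit 16405) i)) (@Bool.rec (fun _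 => ℕ) rb16406 rb16407 (Nat.ble (nat_lit 16407) i)) (Nat.ble (nat_lit 16406) i)) (Nat.ble (nat_lit 16404) i)) (@Bool.rec (fun _ => ℕ) (@Bool.rec (fun _ => ℕ) (@Bool.rec (fun _ => ℕ) rb16408 rb16409 (Nat.ble (nat_lit 16409) i)) (@Bool.rec (fun _ => ℕ) rb16410 rb16411 (Nat.ble (nat_lit 16411) i)) (Nat.ble (nat_lit 16410) i)) (@Bool.rec (fun _ => ℕ) (@Bool.rec (fun _ => ℕ) rb16412 rb16413 (Nat.ble (nat_lit 16413) i)) (@Bool.rec (fun _ => ℕ) rb16414 rb16415 (Nat.ble (nat_lit 16415) i)) (Nat.ble (nat_lit 16414) i)) (Nat.ble (nat_lit 16412) i)) (Nat.ble (nat_lit 16408) i)) (Nat.ble (nat_lit 16400) i))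

def rowBlk_n0_513 (i : ℕ) : ℕ := (@Bool.rec (fun _ => ℕ) (@Bool.rec (fun _ => ℕ) (@Bool.rec (fun _ => ℕ) (@Bool.rec (fun _ => ℕ) (@Bool.rec (fun _ => ℕ) rb16416 rb16417 (Nat.ble (nat_lit 16417) i)) (@Bool.rec (fun _ => ℕ) rb16418 rb16419 (Nat.ble (nat_lit 16419) i)) (Nat.ble (nat_lit 16418) i)) (@Bool.rec (fun _ => ℕ) (@Bool.rec (fun _ => ℕ) rb16420 rb16421 (Nat.ble (nat_lit 16421) i)) (@Bool.rec (fun _ => ℕ) rb16422 rb16423 (Nat.ble (nat_lit 16423) i)) (Nat.ble (nat_lit 16422) i)) (Nat.ble (nat_lit 16420) i)) (@Bool.rec (fun _ => ℕ) (@Bool.rec (fun _ => ℕ) (@Bool.rec (fun _ => ℕ) rb16424 rb16425 (Nat.ble (nat_lit 16425) i)) (@Bool.rec (fun _ => ℕ) rb16426 rb16427 (Nat.ble (nat_lit 16427) i)) (Nat.ble (nat_lit 16426) i)) (@Bool.rec (fun _ => ℕ) (@Bool.rec (fun _ => ℕ) rb16428 rb16429 (Nat.ble (nat_lit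 16429) i)) (@Bool.rec (fun _ => ℕ) rb16430 rb16431 (Nat.ble (nat_lit 16431) i)) (Nat.ble (nat_lit 16430) i)) (Nat.ble (nat_lit 16428) i)) (Nat.ble (nat_lit 16424) i)) (@Bool.rec (fun _ => ℕ) (@Bool.rec (fun _ => ℕ) (@Bool.rec (fun _ => ℕ) (@Bool.rec (fun _ => ℕ) rb16432 rb16433 (Nat.ble (nat_lit 16433) i)) (@Bool.rec (fun _ => ℕ) rb16434 rb16435 (Nat.ble (nat_lit 16435) i)) (Nat.ble (nat_lit 16434) i)) (@Bool.rec (fun _ => ℕ) (@Bool.rec (fun _ => ℕ) rb16436 rb16437 (Nat.ble (nat_lit 16437) i)) (@Bool.rec (fun _ => ℕ) rb16438 rb16439 (Nat.ble (nat_lit 16439) i)) (Nat.ble (nat_lit 16438) i)) (Nat.ble (nat_lit 16436) i)) (@Bool.rec (fun _ => ℕ) (@Bool.rec (fun _ => ℕ) (@Bool.rec (fun _ => ℕ) rb16440 rb16441 (Nat.ble (nat_lit 16441) i)) (@Bool.rec (fun _ => ℕ) rb16442 rb16443 (Nat.ble (nat_lit 16443) i)) (Nat.ble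 (nat_lit 16442) i)) (@Bool.rec (fun _ => ℕ) (@Bool.rec (fun _ => ℕ) rb16444 rb16445 (Nat.ble (nat_lit 16445) i)) (@Bool.rec (fun _ => ℕ) rb16446 rb16447 (Nat.ble (nat_lit 16447) i)) (Nat.ble (nat_lit 16446) i)) (Nat.ble (nat_lit 16444) i)) (Nat.ble (nat_lit 16440) i)) (Nat.ble (nat_lit 16432) i))

def rowBlk_n0_514 (i : ℕ) : ℕ := (@Bool.rec (fun _ => ℕ) (@Bool.rec (fun _ => ℕ) (@Bool.rec (fun _ => ℕ) (@Bool.rec (fun _ => ℕ) (@Bool.rec (fun _ => ℕ) rb16448 rb16449 (Nat.ble (nat_lit 16449) i)) (@Bool.rec (fun _ => ℕ) rb16450 rb16451 (Nat.ble (nat_lit 16451) i)) (Nat.ble (nat_lit 16450) i)) (@Bool.rec (fun _ => ℕ) (@Bool.rec (fun _ => ℕ) rb16452 rb16453 (Nat.ble (nat_lit 16453) i)) (@Bool.rec (fun _ => ℕ) rb16454 rb16455 (Nat.ble (nat_lit 16455) i)) (Nat.ble (nat_lit 16454) i)) (Nat.ble (nat_lit 16452) i))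 (@Bool.rec (fun _ => ℕ) (@Bool.rec (fun _ => ℕ) (@Bool.rec (fun _ => ℕ) rb16456 rb16457 (Nat.ble (nat_lit 16457) i)) (@Bool.rec (fun _ => ℕ) rb16458 rb16459 (Nat.ble (nat_lit 16459) i)) (Nat.ble (nat_lit 16458) i)) (@Bool.rec (fun _ => ℕ) (@Bool.rec (fun _ => ℕ) rb16460 rb16461 (Nat.ble (nat_lit 16461) i)) (@Bool.rec (fun _ => ℕ) rb16462 rb16463 (Nat.ble (nat_lit 16463) i)) (Nat.ble (nat_lit 16462) i)) (Nat.ble (nat_lit 16460) i)) (Nat.ble (nat_lit 16456) i)) (@Bool.rec (fun _ => ℕ) (@Bool.rec (fun _ => ℕ) (@Bool.rec (fun _ => ℕ) (@Bool.rec (fun _ => ℕ) rb16464 rb16465 (Nat.ble (nat_lit 16465) i)) (@Bool.rec (fun _ => ℕ) rb16466 rb16467 (Nat.ble (nat_lit 16467) i)) (Nat.ble (nat_lit 16466) i)) (@Bool.rec (fun _ => ℕ) (@Bool.rec (fun _ => ℕ) rb16468 rb16469 (Nat.ble (nat_lit 16469) i)) (@Bool.rec (fun _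 => ℕ) rb16470 rb16471 (Nat.ble (nat_lit 16471) i)) (Nat.ble (nat_lit 16470) i)) (Nat.ble (nat_lit 16468) i)) (@Bool.rec (fun _ => ℕ) (@Bool.rec (fun _ => ℕ) (@Bool.rec (fun _ => ℕ) rb16472 rb16473 (Nat.ble (nat_lit 16473) i)) (@Bool.rec (fun _ => ℕ) rb16474 rb16475 (Nat.ble (nat_lit 16475) i)) (Nat.ble (nat_lit 16474) i)) (@Bool.rec (fun _ => ℕ) (@Bool.rec (fun _ => ℕ) rb16476 rb16477 (Nat.ble (nat_lit 16477) i)) (@Bool.rec (fun _ => ℕ) rb16478 rb16479 (Nat.ble (nat_lit 16479) i)) (Nat.ble (nat_lit 16478) i)) (Nat.ble (nat_lit 16476) i)) (Nat.ble (nat_lit 16472) i)) (Nat.ble (nat_lit 16464) i))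

def rowBlk_n0_515 (i : ℕ) : ℕ := (@Bool.rec (fun _ => ℕ) (@Bool.rec (fun _ => ℕ) (@Bool.rec (fun _ => ℕ) (@Bool.rec (fun _ => ℕ) (@Bool.rec (fun _ => ℕ) rb16480 rb16481 (Nat.ble (nat_lit 16481) i)) (@Bool.rec (fun _ => ℕ) rb16482 rb16483 (Nat.ble (nat_lit 16483) i)) (Nat.ble (nat_lit 16482) i)) (@Bool.rec (fun _ => ℕ) (@Bool.rec (fun _ => ℕ) rb16484 rb16485 (Nat.ble (nat_lit 16485) i)) (@Bool.rec (fun _ => ℕ) rb16486 rb16487 (Nat.ble (nat_lit 16487) i)) (Nat.ble (nat_lit 16486) i)) (Nat.ble (nat_lit 16484) i)) (@Bool.rec (fun _ => ℕ) (@Bool.rec (fun _ => ℕ) (@Bool.rec (fun _ => ℕ) rb16488 rb16489 (Nat.ble (nat_lit 16489) i)) (@Bool.rec (fun _ => ℕ) rb16490 rb16491 (Nat.ble (nat_lit 16491) i)) (Nat.ble (nat_lit 16490) i)) (@Bool.rec (fun _ => ℕ) (@Bool.rec (fun _ => ℕ) rb16492 rb16493 (Nat.ble (nat_lit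 16493) i)) (@Bool.rec (fun _ => ℕ) rb16494 rb16495 (Nat.ble (nat_lit 16495) i)) (Nat.ble (nat_lit 16494) i)) (Nat.ble (nat_lit 16492) i)) (Nat.ble (nat_lit 16488) i)) (@Bool.rec (fun _ => ℕ) (@Bool.rec (fun _ => ℕ) (@Bool.rec (fun _ => ℕ) (@Bool.rec (fun _ => ℕ) rb16496 rb16497 (Nat.ble (nat_lit 16497) i)) (@Bool.rec (fun _ => ℕ) rb16498 rb16499 (Nat.ble (nat_lit 16499) i)) (Nat.ble (nat_lit 16498) i)) (@Bool.rec (fun _ => ℕ) (@Bool.rec (fun _ => ℕ) rb16500 rb16501 (Nat.ble (nat_lit 16501) i)) (@Bool.rec (fun _ => ℕ) rb16502 rb16503 (Nat.ble (nat_lit 16503) i)) (Nat.ble (nat_lit 16502) i)) (Nat.ble (nat_lit 16500) i)) (@Bool.rec (fun _ => ℕ) (@Bool.rec (fun _ => ℕ) (@Bool.rec (fun _ => ℕ) rb16504 rb16505 (Nat.ble (nat_lit 16505) i)) (@Bool.rec (fun _ => ℕ) rb16506 rb16507 (Nat.ble (nat_lit 16507) i)) (Nat.ble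 (nat_lit 16506) i)) (@Bool.rec (fun _ => ℕ) (@Bool.rec (fun _ => ℕ) rb16508 rb16509 (Nat.ble (nat_lit 16509) i)) (@Bool.rec (fun _ => ℕ) rb16510 rb16511 (Nat.ble (nat_lit 16511) i)) (Nat.ble (nat_lit 16510) i)) (Nat.ble (nat_lit 16508) i)) (Nat.ble (nat_lit 16504) i)) (Nat.ble (nat_lit 16496) i))

def rowBlk_n0_516 (i : ℕ) : ℕ := (@Bool.rec (fun _ => ℕ) (@Bool.rec (fun _ => ℕ) (@Bool.rec (fun _ => ℕ) (@Bool.rec (fun _ => ℕ) (@Bool.rec (fun _ => ℕ) rb16512 rb16513 (Nat.ble (nat_lit 16513) i)) (@Bool.rec (fun _ => ℕ) rb16514 rb16515 (Nat.ble (nat_lit 16515) i)) (Nat.ble (nat_lit 16514) i)) (@Bool.rec (fun _ => ℕ) (@Bool.rec (fun _ => ℕ) rb16516 rb16517 (Nat.ble (nat_lit 16517) i)) (@Bool.rec (fun _ => ℕ) rb16518 rb16519 (Nat.ble (nat_lit 16519) i)) (Nat.ble (nat_lit 16518) i)) (Nat.ble (nat_lit 16516) i))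 (@Bool.rec (fun _ => ℕ) (@Bool.rec (fun _ => ℕ) (@Bool.rec (fun _ => ℕ) rb16520 rb16521 (Nat.ble (nat_lit 16521) i)) (@Bool.rec (fun _ => ℕ) rb16522 rb16523 (Nat.ble (nat_lit 16523) i)) (Nat.ble (nat_lit 16522) i)) (@Bool.rec (fun _ => ℕ) (@Bool.rec (fun _ => ℕ) rb16524 rb16525 (Nat.ble (nat_lit 16525) i)) (@Bool.rec (fun _ => ℕ) rb16526 rb16527 (Nat.ble (nat_lit 16527) i)) (Nat.ble (nat_lit 16526) i)) (Nat.ble (nat_lit 16524) i)) (Nat.ble (nat_lit 16520) i)) (@Bool.rec (fun _ => ℕ) (@Bool.rec (fun _ => ℕ) (@Bool.rec (fun _ => ℕ) (@Bool.rec (fun _ => ℕ) rb16528 rb16529 (Nat.ble (nat_lit 16529) i)) (@Bool.rec (fun _ => ℕ) rb16530 rb16531 (Nat.ble (nat_lit 16531) i)) (Nat.ble (nat_lit 16530) i)) (@Bool.rec (fun _ => ℕ) (@Bool.rec (fun _ => ℕ) rb16532 rb16533 (Nat.ble (nat_lit 16533) i)) (@Bool.rec (fun _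 => ℕ) rb16534 rb16535 (Nat.ble (nat_lit 16535) i)) (Nat.ble (nat_lit 16534) i)) (Nat.ble (nat_lit 16532) i)) (@Bool.rec (fun _ => ℕ) (@Bool.rec (fun _ => ℕ) (@Bool.rec (fun _ => ℕ) rb16536 rb16537 (Nat.ble (nat_lit 16537) i)) (@Bool.rec (fun _ => ℕ) rb16538 rb16539 (Nat.ble (nat_lit 16539) i)) (Nat.ble (nat_lit 16538) i)) (@Bool.rec (fun _ => ℕ) (@Bool.rec (fun _ => ℕ) rb16540 rb16541 (Nat.ble (nat_lit 16541) i)) (@Bool.rec (fun _ => ℕ) rb16542 rb16543 (Nat.ble (nat_lit 16543) i)) (Nat.ble (nat_lit 16542) i)) (Nat.ble (nat_lit 16540) i)) (Nat.ble (nat_lit 16536) i)) (Nat.ble (nat_lit 16528) i))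

def rowBlk_n0_517 (i : ℕ) : ℕ := (@Bool.rec (fun _ => ℕ) (@Bool.rec (fun _ => ℕ) (@Bool.rec (fun _ => ℕ) (@Bool.rec (fun _ => ℕ) (@Bool.rec (fun _ => ℕ) rb16544 rb16545 (Nat.ble (nat_lit 16545) i)) (@Bool.rec (fun _ => ℕ) rb16546 rb16547 (Nat.ble (nat_lit 16547) i)) (Nat.ble (nat_lit 16546) i)) (@Bool.rec (fun _ => ℕ) (@Bool.rec (fun _ => ℕ) rb16548 rb16549 (Nat.ble (nat_lit 16549) i)) (@Bool.rec (fun _ => ℕ) rb16550 rb16551 (Nat.ble (nat_lit 16551) i)) (Nat.ble (nat_lit 16550) i)) (Nat.ble (nat_lit 16548) i)) (@Bool.rec (fun _ => ℕ) (@Bool.rec (fun _ => ℕ) (@Bool.rec (fun _ => ℕ) rb16552 rb16553 (Nat.ble (nat_lit 16553) i)) (@Bool.rec (fun _ => ℕ) rb16554 rb16555 (Nat.ble (nat_lit 16555) i)) (Nat.ble (nat_lit 16554) i)) (@Bool.rec (fun _ => ℕ) (@Bool.rec (fun _ => ℕ) rb16556 rb16557 (Nat.ble (nat_lit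 16557) i)) (@Bool.rec (fun _ => ℕ) rb16558 rb16559 (Nat.ble (nat_lit 16559) i)) (Nat.ble (nat_lit 16558) i)) (Nat.ble (nat_lit 16556) i)) (Nat.ble (nat_lit 16552) i)) (@Bool.rec (fun _ => ℕ) (@Bool.rec (fun _ => ℕ) (@Bool.rec (fun _ => ℕ) (@Bool.rec (fun _ => ℕ) rb16560 rb16561 (Nat.ble (nat_lit 16561) i)) (@Bool.rec (fun _ => ℕ) rb16562 rb16563 (Nat.ble (nat_lit 16563) i)) (Nat.ble (nat_lit 16562) i)) (@Bool.rec (fun _ => ℕ) (@Bool.rec (fun _ => ℕ) rb16564 rb16565 (Nat.ble (nat_lit 16565) i)) (@Bool.rec (fun _ => ℕ) rb16566 rb16567 (Nat.ble (nat_lit 16567) i)) (Nat.ble (nat_lit 16566) i)) (Nat.ble (nat_lit 16564) i)) (@Bool.rec (fun _ => ℕ) (@Bool.rec (fun _ => ℕ) (@Bool.rec (fun _ => ℕ) rb16568 rb16569 (Nat.ble (nat_lit 16569) i)) (@Bool.rec (fun _ => ℕ) rb16570 rb16571 (Nat.ble (nat_lit 16571) i)) (Nat.ble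 (nat_lit 16570) i)) (@Bool.rec (fun _ => ℕ) (@Bool.rec (fun _ => ℕ) rb16572 rb16573 (Nat.ble (nat_lit 16573) i)) (@Bool.rec (fun _ => ℕ) rb16574 rb16575 (Nat.ble (nat_lit 16575) i)) (Nat.ble (nat_lit 16574) i)) (Nat.ble (nat_lit 16572) i)) (Nat.ble (nat_lit 16568) i)) (Nat.ble (nat_lit 16560) i))

def rowBlk_n0_518 (i : ℕ) : ℕ := (@Bool.rec (fun _ => ℕ) (@Bool.rec (fun _ => ℕ) (@Bool.rec (fun _ => ℕ) (@Bool.rec (fun _ => ℕ) (@Bool.rec (fun _ => ℕ) rb16576 rb16577 (Nat.ble (nat_lit 16577) i)) (@Bool.rec (fun _ => ℕ) rb16578 rb16579 (Nat.ble (nat_lit 16579) i)) (Nat.ble (nat_lit 16578) i)) (@Bool.rec (fun _ => ℕ) (@Bool.rec (fun _ => ℕ) rb16580 rb16581 (Nat.ble (nat_lit 16581) i)) (@Bool.rec (fun _ => ℕ) rb16582 rb16583 (Nat.ble (nat_lit 16583) i)) (Nat.ble (nat_lit 16582) i)) (Nat.ble (nat_lit 16580) i))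 (@Bool.rec (fun _ => ℕ) (@Bool.rec (fun _ => ℕ) (@Bool.rec (fun _ => ℕ) rb16584 rb16585 (Nat.ble (nat_lit 16585) i)) (@Bool.rec (fun _ => ℕ) rb16586 rb16587 (Nat.ble (nat_lit 16587) i)) (Nat.ble (nat_lit 16586) i)) (@Bool.rec (fun _ => ℕ) (@Bool.rec (fun _ => ℕ) rb16588 rb16589 (Nat.ble (nat_lit 16589) i)) (@Bool.rec (fun _ => ℕ) rb16590 rb16591 (Nat.ble (nat_lit 16591) i)) (Nat.ble (nat_lit 16590) i)) (Nat.ble (nat_lit 16588) i)) (Nat.ble (nat_lit 16584) i)) (@Bool.rec (fun _ => ℕ) (@Bool.rec (fun _ => ℕ) (@Bool.rec (fun _ => ℕ) (@Bool.rec (fun _ => ℕ) rb16592 rb16593 (Nat.ble (nat_lit 16593) i)) (@Bool.rec (fun _ => ℕ) rb16594 rb16595 (Nat.ble (nat_lit 16595) i)) (Nat.ble (nat_lit 16594) i)) (@Bool.rec (fun _ => ℕ) (@Bool.rec (fun _ => ℕ) rb16596 rb16597 (Nat.ble (nat_lit 16597) i)) (@Bool.rec (fun _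 => ℕ) rb16598 rb16599 (Nat.ble (nat_lit 16599) i)) (Nat.ble (nat_lit 16598) i)) (Nat.ble (nat_lit 16596) i)) (@Bool.rec (fun _ => ℕ) (@Bool.rec (fun _ => ℕ) (@Bool.rec (fun _ => ℕ) rb16600 rb16601 (Nat.ble (nat_lit 16601) i)) (@Bool.rec (fun _ => ℕ) rb16602 rb16603 (Nat.ble (nat_lit 16603) i)) (Nat.ble (nat_lit 16602) i)) (@Bool.rec (fun _ => ℕ) (@Bool.rec (fun _ => ℕ) rb16604 rb16605 (Nat.ble (nat_lit 16605) i)) (@Bool.rec (fun _ => ℕ) rb16606 rb16607 (Nat.ble (nat_lit 16607) i)) (Nat.ble (nat_lit 16606) i)) (Nat.ble (nat_lit 16604) i)) (Nat.ble (nat_lit 16600) i)) (Nat.ble (nat_lit 16592) i))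

def rowBlk_n0_519 (i : ℕ) : ℕ := (@Bool.rec (fun _ => ℕ) (@Bool.rec (fun _ => ℕ) (@Bool.rec (fun _ => ℕ) (@Bool.rec (fun _ => ℕ) (@Bool.rec (fun _ => ℕ) rb16608 rb16609 (Nat.ble (nat_lit 16609) i)) (@Bool.rec (fun _ => ℕ) rb16610 rb16611 (Nat.ble (nat_lit 16611) i)) (Nat.ble (nat_lit 16610) i)) (@Bool.rec (fun _ => ℕ) (@Bool.rec (fun _ => ℕ) rb16612 rb16613 (Nat.ble (nat_lit 16613) i)) (@Bool.rec (fun _ => ℕ) rb16614 rb16615 (Nat.ble (nat_lit 16615) i)) (Nat.ble (nat_lit 16614) i)) (Nat.ble (nat_lit 16612) i)) (@Bool.rec (fun _ => ℕ) (@Bool.rec (fun _ => ℕ) (@Bool.rec (fun _ => ℕ) rb16616 rb16617 (Nat.ble (nat_lit 16617) i)) (@Bool.rec (fun _ => ℕ) rb16618 rb16619 (Nat.ble (nat_lit 16619) i)) (Nat.ble (nat_lit 16618) i)) (@Bool.rec (fun _ => ℕ) (@Bool.rec (fun _ => ℕ) rb16620 rb16621 (Nat.ble (nat_lit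 16621) i)) (@Bool.rec (fun _ => ℕ) rb16622 rb16623 (Nat.ble (nat_lit 16623) i)) (Nat.ble (nat_lit 16622) i)) (Nat.ble (nat_lit 16620) i)) (Nat.ble (nat_lit 16616) i)) (@Bool.rec (fun _ => ℕ) (@Bool.rec (fun _ => ℕ) (@Bool.rec (fun _ => ℕ) (@Bool.rec (fun _ => ℕ) rb16624 rb16625 (Nat.ble (nat_lit 16625) i)) (@Bool.rec (fun _ => ℕ) rb16626 rb16627 (Nat.ble (nat_lit 16627) i)) (Nat.ble (nat_lit 16626) i)) (@Bool.rec (fun _ => ℕ) (@Bool.rec (fun _ => ℕ) rb16628 rb16629 (Nat.ble (nat_lit 16629) i)) (@Bool.rec (fun _ => ℕ) rb16630 rb16631 (Nat.ble (nat_lit 16631) i)) (Nat.ble (nat_lit 16630) i)) (Nat.ble (nat_lit 16628) i)) (@Bool.rec (fun _ => ℕ) (@Bool.rec (fun _ => ℕ) (@Bool.rec (fun _ => ℕ) rb16632 rb16633 (Nat.ble (nat_lit 16633) i)) (@Bool.rec (fun _ => ℕ) rb16634 rb16635 (Nat.ble (nat_lit 16635) i)) (Nat.ble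 (nat_lit 16634) i)) (@Bool.rec (fun _ => ℕ) (@Bool.rec (fun _ => ℕ) rb16636 rb16637 (Nat.ble (nat_lit 16637) i)) (@Bool.rec (fun _ => ℕ) rb16638 rb16639 (Nat.ble (nat_lit 16639) i)) (Nat.ble (nat_lit 16638) i)) (Nat.ble (nat_lit 16636) i)) (Nat.ble (nat_lit 16632) i)) (Nat.ble (nat_lit 16624) i))

def rowBlk_n0_520 (i : ℕ) : ℕ := (@Bool.rec (fun _ => ℕ) (@Bool.rec (fun _ => ℕ) (@Bool.rec (fun _ => ℕ) (@Bool.rec (fun _ => ℕ) (@Bool.rec (fun _ => ℕ) rb16640 rb16641 (Nat.ble (nat_lit 16641) i)) (@Bool.rec (fun _ => ℕ) rb16642 rb16643 (Nat.ble (nat_lit 16643) i)) (Nat.ble (nat_lit 16642) i)) (@Bool.rec (fun _ => ℕ) (@Bool.rec (fun _ => ℕ) rb16644 rb16645 (Nat.ble (nat_lit 16645) i)) (@Bool.rec (fun _ => ℕ) rb16646 rb16647 (Nat.ble (nat_lit 16647) i)) (Nat.ble (nat_lit 16646) i)) (Nat.ble (nat_lit 16644) i))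 (@Bool.rec (fun _ => ℕ) (@Bool.rec (fun _ => ℕ) (@Bool.rec (fun _ => ℕ) rb16648 rb16649 (Nat.ble (nat_lit 16649) i)) (@Bool.rec (fun _ => ℕ) rb16650 rb16651 (Nat.ble (nat_lit 16651) i)) (Nat.ble (nat_lit 16650) i)) (@Bool.rec (fun _ => ℕ) (@Bool.rec (fun _ => ℕ) rb16652 rb16653 (Nat.ble (nat_lit 16653) i)) (@Bool.rec (fun _ => ℕ) rb16654 rb16655 (Nat.ble (nat_lit 16655) i)) (Nat.ble (nat_lit 16654) i)) (Nat.ble (nat_lit 16652) i)) (Nat.ble (nat_lit 16648) i)) (@Bool.rec (fun _ => ℕ) (@Bool.rec (fun _ => ℕ) (@Bool.rec (fun _ => ℕ) (@Bool.rec (fun _ => ℕ) rb16656 rb16657 (Nat.ble (nat_lit 16657) i)) (@Bool.rec (fun _ => ℕ) rb16658 rb16659 (Nat.ble (nat_lit 16659) i)) (Nat.ble (nat_lit 16658) i)) (@Bool.rec (fun _ => ℕ) (@Bool.rec (fun _ => ℕ) rb16660 rb16661 (Nat.ble (nat_lit 16661) i)) (@Bool.rec (fun _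 => ℕ) rb16662 rb16663 (Nat.ble (nat_lit 16663) i)) (Nat.ble (nat_lit 16662) i)) (Nat.ble (nat_lit 16660) i)) (@Bool.rec (fun _ => ℕ) (@Bool.rec (fun _ => ℕ) (@Bool.rec (fun _ => ℕ) rb16664 rb16665 (Nat.ble (nat_lit 16665) i)) (@Bool.rec (fun _ => ℕ) rb16666 rb16667 (Nat.ble (nat_lit 16667) i)) (Nat.ble (nat_lit 16666) i)) (@Bool.rec (fun _ => ℕ) (@Bool.rec (fun _ => ℕ) rb16668 rb16669 (Nat.ble (nat_lit 16669) i)) (@Bool.rec (fun _ => ℕ) rb16670 rb16671 (Nat.ble (nat_lit 16671) i)) (Nat.ble (nat_lit 16670) i)) (Nat.ble (nat_lit 16668) i)) (Nat.ble (nat_lit 16664) i)) (Nat.ble (nat_lit 16656) i))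

def rowBlk_n0_521 (i : ℕ) : ℕ := (@Bool.rec (fun _ => ℕ) (@Bool.rec (fun _ => ℕ) (@Bool.rec (fun _ => ℕ) (@Bool.rec (fun _ => ℕ) (@Bool.rec (fun _ => ℕ) rb16672 rb16673 (Nat.ble (nat_lit 16673) i)) (@Bool.rec (fun _ => ℕ) rb16674 rb16675 (Nat.ble (nat_lit 16675) i)) (Nat.ble (nat_lit 16674) i)) (@Bool.rec (fun _ => ℕ) (@Bool.rec (fun _ => ℕ) rb16676 rb16677 (Nat.ble (nat_lit 16677) i)) (@Bool.rec (fun _ => ℕ) rb16678 rb16679 (Nat.ble (nat_lit 16679) i)) (Nat.ble (nat_lit 16678) i)) (Nat.ble (nat_lit 16676) i)) (@Bool.rec (fun _ => ℕ) (@Bool.rec (fun _ => ℕ) (@Bool.rec (fun _ => ℕ) rb16680 rb16681 (Nat.ble (nat_lit 16681) i)) (@Bool.rec (fun _ => ℕ) rb16682 rb16683 (Nat.ble (nat_lit 16683) i)) (Nat.ble (nat_lit 16682) i)) (@Bool.rec (fun _ => ℕ) (@Bool.rec (fun _ => ℕ) rb16684 rb16685 (Nat.ble (nat_lit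 16685) i)) (@Bool.rec (fun _ => ℕ) rb16686 rb16687 (Nat.ble (nat_lit 16687) i)) (Nat.ble (nat_lit 16686) i)) (Nat.ble (nat_lit 16684) i)) (Nat.ble (nat_lit 16680) i)) (@Bool.rec (fun _ => ℕ) (@Bool.rec (fun _ => ℕ) (@Bool.rec (fun _ => ℕ) (@Bool.rec (fun _ => ℕ) rb16688 rb16689 (Nat.ble (nat_lit 16689) i)) (@Bool.rec (fun _ => ℕ) rb16690 rb16691 (Nat.ble (nat_lit 16691) i)) (Nat.ble (nat_lit 16690) i)) (@Bool.rec (fun _ => ℕ) (@Bool.rec (fun _ => ℕ) rb16692 rb16693 (Nat.ble (nat_lit 16693) i)) (@Bool.rec (fun _ => ℕ) rb16694 rb16695 (Nat.ble (nat_lit 16695) i)) (Nat.ble (nat_lit 16694) i)) (Nat.ble (nat_lit 16692) i)) (@Bool.rec (fun _ => ℕ) (@Bool.rec (fun _ => ℕ) (@Bool.rec (fun _ => ℕ) rb16696 rb16697 (Nat.ble (nat_lit 16697) i)) (@Bool.rec (fun _ => ℕ) rb16698 rb16699 (Nat.ble (nat_lit 16699) i)) (Nat.ble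 (nat_lit 16698) i)) (@Bool.rec (fun _ => ℕ) (@Bool.rec (fun _ => ℕ) rb16700 rb16701 (Nat.ble (nat_lit 16701) i)) (@Bool.rec (fun _ => ℕ) rb16702 rb16703 (Nat.ble (nat_lit 16703) i)) (Nat.ble (nat_lit 16702) i)) (Nat.ble (nat_lit 16700) i)) (Nat.ble (nat_lit 16696) i)) (Nat.ble (nat_lit 16688) i))

def rowBlk_n0_522 (i : ℕ) : ℕ := (@Bool.rec (fun _ => ℕ) (@Bool.rec (fun _ => ℕ) (@Bool.rec (fun _ => ℕ) (@Bool.rec (fun _ => ℕ) (@Bool.rec (fun _ => ℕ) rb16704 rb16705 (Nat.ble (nat_lit 16705) i)) (@Bool.rec (fun _ => ℕ) rb16706 rb16707 (Nat.ble (nat_lit 16707) i)) (Nat.ble (nat_lit 16706) i)) (@Bool.rec (fun _ => ℕ) (@Bool.rec (fun _ => ℕ) rb16708 rb16709 (Nat.ble (nat_lit 16709) i)) (@Bool.rec (fun _ => ℕ) rb16710 rb16711 (Nat.ble (nat_lit 16711) i)) (Nat.ble (nat_lit 16710) i)) (Nat.ble (nat_lit 16708) i))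 (@Bool.rec (fun _ => ℕ) (@Bool.rec (fun _ => ℕ) (@Bool.rec (fun _ => ℕ) rb16712 rb16713 (Nat.ble (nat_lit 16713) i)) (@Bool.rec (fun _ => ℕ) rb16714 rb16715 (Nat.ble (nat_lit 16715) i)) (Nat.ble (nat_lit 16714) i)) (@Bool.rec (fun _ => ℕ) (@Bool.rec (fun _ => ℕ) rb16716 rb16717 (Nat.ble (nat_lit 16717) i)) (@Bool.rec (fun _ => ℕ) rb16718 rb16719 (Nat.ble (nat_lit 16719) i)) (Nat.ble (nat_lit 16718) i)) (Nat.ble (nat_lit 16716) i)) (Nat.ble (nat_lit 16712) i)) (@Bool.rec (fun _ => ℕ) (@Bool.rec (fun _ => ℕ) (@Bool.rec (fun _ => ℕ) (@Bool.rec (fun _ => ℕ) rb16720 rb16721 (Nat.ble (nat_lit 16721) i)) (@Bool.rec (fun _ => ℕ) rb16722 rb16723 (Nat.ble (nat_lit 16723) i)) (Nat.ble (nat_lit 16722) i)) (@Bool.rec (fun _ => ℕ) (@Bool.rec (fun _ => ℕ) rb16724 rb16725 (Nat.ble (nat_lit 16725) i)) (@Bool.rec (fun _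 => ℕ) rb16726 rb16727 (Nat.ble (nat_lit 16727) i)) (Nat.ble (nat_lit 16726) i)) (Nat.ble (nat_lit 16724) i)) (@Bool.rec (fun _ => ℕ) (@Bool.rec (fun _ => ℕ) (@Bool.rec (fun _ => ℕ) rb16728 rb16729 (Nat.ble (nat_lit 16729) i)) (@Bool.rec (fun _ => ℕ) rb16730 rb16731 (Nat.ble (nat_lit 16731) i)) (Nat.ble (nat_lit 16730) i)) (@Bool.rec (fun _ => ℕ) (@Bool.rec (fun _ => ℕ) rb16732 rb16733 (Nat.ble (nat_lit 16733) i)) (@Bool.rec (fun _ => ℕ) rb16734 rb16735 (Nat.ble (nat_lit 16735) i)) (Nat.ble (nat_lit 16734) i)) (Nat.ble (nat_lit 16732) i)) (Nat.ble (nat_lit 16728) i)) (Nat.ble (nat_lit 16720) i))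

def rowBlk_n0_523 (i : ℕ) : ℕ := (@Bool.rec (fun _ => ℕ) (@Bool.rec (fun _ => ℕ) (@Bool.rec (fun _ => ℕ) (@Bool.rec (fun _ => ℕ) (@Bool.rec (fun _ => ℕ) rb16736 rb16737 (Nat.ble (nat_lit 16737) i)) (@Bool.rec (fun _ => ℕ) rb16738 rb16739 (Nat.ble (nat_lit 16739) i)) (Nat.ble (nat_lit 16738) i)) (@Bool.rec (fun _ => ℕ) (@Bool.rec (fun _ => ℕ) rb16740 rb16741 (Nat.ble (nat_lit 16741) i)) (@Bool.rec (fun _ => ℕ) rb16742 rb16743 (Nat.ble (nat_lit 16743) i)) (Nat.ble (nat_lit 16742) i)) (Nat.ble (nat_lit 16740) i)) (@Bool.rec (fun _ => ℕ) (@Bool.rec (fun _ => ℕ) (@Bool.rec (fun _ => ℕ) rb16744 rb16745 (Nat.ble (nat_lit 16745) i)) (@Bool.rec (fun _ => ℕ) rb16746 rb16747 (Nat.ble (nat_lit 16747) i)) (Nat.ble (nat_lit 16746) i)) (@Bool.rec (fun _ => ℕ) (@Bool.rec (fun _ => ℕ) rb16748 rb16749 (Nat.ble (nat_lit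 16749) i)) (@Bool.rec (fun _ => ℕ) rb16750 rb16751 (Nat.ble (nat_lit 16751) i)) (Nat.ble (nat_lit 16750) i)) (Nat.ble (nat_lit 16748) i)) (Nat.ble (nat_lit 16744) i)) (@Bool.rec (fun _ => ℕ) (@Bool.rec (fun _ => ℕ) (@Bool.rec (fun _ => ℕ) (@Bool.rec (fun _ => ℕ) rb16752 rb16753 (Nat.ble (nat_lit 16753) i)) (@Bool.rec (fun _ => ℕ) rb16754 rb16755 (Nat.ble (nat_lit 16755) i)) (Nat.ble (nat_lit 16754) i)) (@Bool.rec (fun _ => ℕ) (@Bool.rec (fun _ => ℕ) rb16756 rb16757 (Nat.ble (nat_lit 16757) i)) (@Bool.rec (fun _ => ℕ) rb16758 rb16759 (Nat.ble (nat_lit 16759) i)) (Nat.ble (nat_lit 16758) i)) (Nat.ble (nat_lit 16756) i)) (@Bool.rec (fun _ => ℕ) (@Bool.rec (fun _ => ℕ) (@Bool.rec (fun _ => ℕ) rb16760 rb16761 (Nat.ble (nat_lit 16761) i)) (@Bool.rec (fun _ => ℕ) rb16762 rb16763 (Nat.ble (nat_lit 16763) i)) (Nat.ble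 (nat_lit 16762) i)) (@Bool.rec (fun _ => ℕ) (@Bool.rec (fun _ => ℕ) rb16764 rb16765 (Nat.ble (nat_lit 16765) i)) (@Bool.rec (fun _ => ℕ) rb16766 rb16767 (Nat.ble (nat_lit 16767) i)) (Nat.ble (nat_lit 16766) i)) (Nat.ble (nat_lit 16764) i)) (Nat.ble (nat_lit 16760) i)) (Nat.ble (nat_lit 16752) i))

def rowBlk_n0_524 (i : ℕ) : ℕ := (@Bool.rec (fun _ => ℕ) (@Bool.rec (fun _ => ℕ) (@Bool.rec (fun _ => ℕ) (@Bool.rec (fun _ => ℕ) (@Bool.rec (fun _ => ℕ) rb16768 rb16769 (Nat.ble (nat_lit 16769) i)) (@Bool.rec (fun _ => ℕ) rb16770 rb16771 (Nat.ble (nat_lit 16771) i)) (Nat.ble (nat_lit 16770) i)) (@Bool.rec (fun _ => ℕ) (@Bool.rec (fun _ => ℕ) rb16772 rb16773 (Nat.ble (nat_lit 16773) i)) (@Bool.rec (fun _ => ℕ) rb16774 rb16775 (Nat.ble (nat_lit 16775) i)) (Nat.ble (nat_lit 16774) i)) (Nat.ble (nat_lit 16772) i))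 (@Bool.rec (fun _ => ℕ) (@Bool.rec (fun _ => ℕ) (@Bool.rec (fun _ => ℕ) rb16776 rb16777 (Nat.ble (nat_lit 16777) i)) (@Bool.rec (fun _ => ℕ) rb16778 rb16779 (Nat.ble (nat_lit 16779) i)) (Nat.ble (nat_lit 16778) i)) (@Bool.rec (fun _ => ℕ) (@Bool.rec (fun _ => ℕ) rb16780 rb16781 (Nat.ble (nat_lit 16781) i)) (@Bool.rec (fun _ => ℕ) rb16782 rb16783 (Nat.ble (nat_lit 16783) i)) (Nat.ble (nat_lit 16782) i)) (Nat.ble (nat_lit 16780) i)) (Nat.ble (nat_lit 16776) i)) (@Bool.rec (fun _ => ℕ) (@Bool.rec (fun _ => ℕ) (@Bool.rec (fun _ => ℕ) (@Bool.rec (fun _ => ℕ) rb16784 rb16785 (Nat.ble (nat_lit 16785) i)) (@Bool.rec (fun _ => ℕ) rb16786 rb16787 (Nat.ble (nat_lit 16787) i)) (Nat.ble (nat_lit 16786) i)) (@Bool.rec (fun _ => ℕ) (@Bool.rec (fun _ => ℕ) rb16788 rb16789 (Nat.ble (nat_lit 16789) i)) (@Bool.rec (fun _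 => ℕ) rb16790 rb16791 (Nat.ble (nat_lit 16791) i)) (Nat.ble (nat_lit 16790) i)) (Nat.ble (nat_lit 16788) i)) (@Bool.rec (fun _ => ℕ) (@Bool.rec (fun _ => ℕ) (@Bool.rec (fun _ => ℕ) rb16792 rb16793 (Nat.ble (nat_lit 16793) i)) (@Bool.rec (fun _ => ℕ) rb16794 rb16795 (Nat.ble (nat_lit 16795) i)) (Nat.ble (nat_lit 16794) i)) (@Bool.rec (fun _ => ℕ) (@Bool.rec (fun _ => ℕ) rb16796 rb16797 (Nat.ble (nat_lit 16797) i)) (@Bool.rec (fun _ => ℕ) rb16798 rb16799 (Nat.ble (nat_lit 16799) i)) (Nat.ble (nat_lit 16798) i)) (Nat.ble (nat_lit 16796) i)) (Nat.ble (nat_lit 16792) i)) (Nat.ble (nat_lit 16784) i))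

def rowBlk_n0_525 (i : ℕ) : ℕ := (@Bool.rec (fun _ => ℕ) (@Bool.rec (fun _ => ℕ) (@Bool.rec (fun _ => ℕ) rb16800 rb16801 (Nat.ble (nat_lit 16801) i)) (@Bool.rec (fun _ => ℕ) rb16802 (@Bool.rec (fun _ => ℕ) rb16803 rb16804 (Nat.ble (nat_lit 16804) i)) (Nat.ble (nat_lit 16803) i)) (Nat.ble (nat_lit 16802) i)) (@Bool.rec (fun _ => ℕ) (@Bool.rec (fun _ => ℕ) rb16805 (@Bool.rec (fun _ => ℕ) rb16806 rb16807 (Nat.ble (nat_lit 16807) i)) (Nat.ble (nat_lit 16806) i)) (@Bool.rec (fun _ => ℕ) rb16808 (@Bool.rec (fun _ => ℕ) rb16809 rb16810 (Nat.ble (nat_lit 16810) i)) (Nat.ble (nat_lit 16809) i)) (Nat.ble (nat_lit 16808) i)) (Nat.ble (nat_lit 16805) i))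

def rowBlk_n1_0 (i : ℕ) : ℕ := (@Bool.rec (fun _ => ℕ) (@Bool.rec (fun _ => ℕ) (@Bool.rec (fun _ => ℕ) (@Bool.rec (fun _ => ℕ) (@Bool.rec (fun _ => ℕ) (rowBlk_n0_0 i) (rowBlk_n0_1 i) (Nat.ble (nat_lit 32) i)) (@Bool.rec (fun _ => ℕ) (rowBlk_n0_2 i) (rowBlk_n0_3 i) (Nat.ble (nat_lit 96) i)) (Nat.ble (nat_lit 64) i)) (@Bool.rec (fun _ => ℕ) (@Bool.rec (fun _ => ℕ) (rowBlk_n0_4 i) (rowBlk_n0_5 i) (Nat.ble (nat_lit 160) i)) (@Bool.rec (fun _ => ℕ) (rowBlk_n0_6 i) (rowBlk_n0_7 i) (Nat.ble (nat_lit 224) i)) (Nat.ble (nat_lit 192) i)) (Nat.ble (nat_lit 128) i)) (@Bool.rec (fun _ => ℕ) (@Bool.rec (fun _ => ℕ) (@Bool.rec (fun _ => ℕ) (rowBlk_n0_8 i) (rowBlk_n0_9 i) (Nat.ble (nat_lit 288) i)) (@Bool.rec (fun _ => ℕ) (rowBlk_n0_10 i) (rowBlk_n0_11 i) (Nat.ble (nat_lit 352) i)) (Nat.ble (nat_lit 320) i)) (@Bool.rec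 (fun _ => ℕ) (@Bool.rec (fun _ => ℕ) (rowBlk_n0_12 i) (rowBlk_n0_13 i) (Nat.ble (nat_lit 416) i)) (@Bool.rec (fun _ => ℕ) (rowBlk_n0_14 i) (rowBlk_n0_15 i) (Nat.ble (nat_lit 480) i)) (Nat.ble (nat_lit 448) i)) (Nat.ble (nat_lit 384) i)) (Nat.ble (nat_lit 256) i)) (@Bool.rec (fun _ => ℕ) (@Bool.rec (fun _ => ℕ) (@Bool.rec (fun _ => ℕ) (@Bool.rec (fun _ => ℕ) (rowBlk_n0_16 i) (rowBlk_n0_17 i) (Nat.ble (nat_lit 544) i)) (@Bool.rec (fun _ => ℕ) (rowBlk_n0_18 i) (rowBlk_n0_19 i) (Nat.ble (nat_lit 608) i)) (Nat.ble (nat_lit 576) i)) (@Bool.rec (fun _ => ℕ) (@Bool.rec (fun _ => ℕ) (rowBlk_n0_20 i) (rowBlk_n0_21 i) (Nat.ble (nat_lit 672) i)) (@Bool.rec (fun _ => ℕ) (rowBlk_n0_22 i) (rowBlk_n0_23 i) (Nat.ble (nat_lit 736) i)) (Nat.ble (nat_lit 704) i)) (Nat.ble (nat_lit 640) i)) (@Bool.rec (fun _ => ℕ) (@Bool.rec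 (fun _ => ℕ) (@Bool.rec (fun _ => ℕ) (rowBlk_n0_24 i) (rowBlk_n0_25 i) (Nat.ble (nat_lit 800) i)) (@Bool.rec (fun _ => ℕ) (rowBlk_n0_26 i) (rowBlk_n0_27 i) (Nat.ble (nat_lit 864) i)) (Nat.ble (nat_lit 832) i)) (@Bool.rec (fun _ => ℕ) (@Bool.rec (fun _ => ℕ) (rowBlk_n0_28 i) (rowBlk_n0_29 i) (Nat.ble (nat_lit 928) i)) (@Bool.rec (fun _ => ℕ) (rowBlk_n0_30 i) (rowBlk_n0_31 i) (Nat.ble (nat_lit 992) i)) (Nat.ble (nat_lit 960) i)) (Nat.ble (nat_lit 896) i)) (Nat.ble (nat_lit 768) i)) (Nat.ble (nat_lit 512) i))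

def rowBlk_n1_1 (i : ℕ) : ℕ := (@Bool.rec (fun _ => ℕ) (@Bool.rec (fun _ => ℕ) (@Bool.rec (fun _ => ℕ) (@Bool.rec (fun _ => ℕ) (@Bool.rec (fun _ => ℕ) (rowBlk_n0_32 i) (rowBlk_n0_33 i) (Nat.ble (nat_lit 1056) i)) (@Bool.rec (fun _ => ℕ) (rowBlk_n0_34 i) (rowBlk_n0_35 i) (Nat.ble (nat_lit 1120) i)) (Nat.ble (nat_lit 1088) i)) (@Bool.rec (fun _ => ℕ) (@Bool.rec (fun _ => ℕ) (rowBlk_n0_36 i) (rowBlk_n0_37 i) (Nat.ble (nat_lit 1184) i)) (@Bool.rec (fun _ => ℕ) (rowBlk_n0_38 i) (rowBlk_n0_39 i) (Nat.ble (nat_lit 1248) i)) (Nat.ble (nat_lit 1216) i)) (Nat.ble (nat_lit 1152) i)) (@Bool.rec (fun _ => ℕ) (@Bool.rec (fun _ => ℕ) (@Bool.rec (fun _ => ℕ) (rowBlk_n0_40 i) (rowBlk_n0_41 i) (Nat.ble (nat_lit 1312) i)) (@Bool.rec (fun _ => ℕ) (rowBlk_n0_42 i) (rowBlk_n0_43 i) (Nat.ble (nat_lit 1376) i)) (Nat.ble (nat_lit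 1344) i)) (@Bool.rec (fun _ => ℕ) (@Bool.rec (fun _ => ℕ) (rowBlk_n0_44 i) (rowBlk_n0_45 i) (Nat.ble (nat_lit 1440) i)) (@Bool.rec (fun _ => ℕ) (rowBlk_n0_46 i) (rowBlk_n0_47 i) (Nat.ble (nat_lit 1504) i)) (Nat.ble (nat_lit 1472) i)) (Nat.ble (nat_lit 1408) i)) (Nat.ble (nat_lit 1280) i)) (@Bool.rec (fun _ => ℕ) (@Bool.rec (fun _ => ℕ) (@Bool.rec (fun _ => ℕ) (@Bool.rec (fun _ => ℕ) (rowBlk_n0_48 i) (rowBlk_n0_49 i) (Nat.ble (nat_lit 1568) i)) (@Bool.rec (fun _ => ℕ) (rowBlk_n0_50 i) (rowBlk_n0_51 i) (Nat.ble (nat_lit 1632) i)) (Nat.ble (nat_lit 1600) i)) (@Bool.rec (fun _ => ℕ) (@Bool.rec (fun _ => ℕ) (rowBlk_n0_52 i) (rowBlk_n0_53 i) (Nat.ble (nat_lit 1696) i)) (@Bool.rec (fun _ => ℕ) (rowBlk_n0_54 i) (rowBlk_n0_55 i) (Nat.ble (nat_lit 1760) i)) (Nat.ble (nat_lit 1728) i)) (Nat.ble (nat_lit 1664) i))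 (@Bool.rec (fun _ => ℕ) (@Bool.rec (fun _ => ℕ) (@Bool.rec (fun _ => ℕ) (rowBlk_n0_56 i) (rowBlk_n0_57 i) (Nat.ble (nat_lit 1824) i)) (@Bool.rec (fun _ => ℕ) (rowBlk_n0_58 i) (rowBlk_n0_59 i) (Nat.ble (nat_lit 1888) i)) (Nat.ble (nat_lit 1856) i)) (@Bool.rec (fun _ => ℕ) (@Bool.rec (fun _ => ℕ) (rowBlk_n0_60 i) (rowBlk_n0_61 i) (Nat.ble (nat_lit 1952) i)) (@Bool.rec (fun _ => ℕ) (rowBlk_n0_62 i) (rowBlk_n0_63 i) (Nat.ble (nat_lit 2016) i)) (Nat.ble (nat_lit 1984) i)) (Nat.ble (nat_lit 1920) i)) (Nat.ble (nat_lit 1792) i)) (Nat.ble (nat_lit 1536) i))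

def rowBlk_n1_2 (i : ℕ) : ℕ := (@Bool.rec (fun _ => ℕ) (@Bool.rec (fun _ => ℕ) (@Bool.rec (fun _ => ℕ) (@Bool.rec (fun _ => ℕ) (@Bool.rec (fun _ => ℕ) (rowBlk_n0_64 i) (rowBlk_n0_65 i) (Nat.ble (nat_lit 2080) i)) (@Bool.rec (fun _ => ℕ) (rowBlk_n0_66 i) (rowBlk_n0_67 i) (Nat.ble (nat_lit 2144) i)) (Nat.ble (nat_lit 2112) i)) (@Bool.rec (fun _ => ℕ) (@Bool.rec (fun _ => ℕ) (rowBlk_n0_68 i) (rowBlk_n0_69 i) (Nat.ble (nat_lit 2208) i)) (@Bool.rec (fun _ => ℕ) (rowBlk_n0_70 i) (rowBlk_n0_71 i) (Nat.ble (nat_lit 2272) i)) (Nat.ble (nat_lit 2240) i)) (Nat.ble (nat_lit 2176) i)) (@Bool.rec (fun _ => ℕ) (@Bool.rec (fun _ => ℕ) (@Bool.rec (fun _ => ℕ) (rowBlk_n0_72 i) (rowBlk_n0_73 i) (Nat.ble (nat_lit 2336) i)) (@Bool.rec (fun _ => ℕ) (rowBlk_n0_74 i) (rowBlk_n0_75 i) (Nat.ble (nat_lit 2400) i)) (Nat.ble (nat_lit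 2368) i)) (@Bool.rec (fun _ => ℕ) (@Bool.rec (fun _ => ℕ) (rowBlk_n0_76 i) (rowBlk_n0_77 i) (Nat.ble (nat_lit 2464) i)) (@Bool.rec (fun _ => ℕ) (rowBlk_n0_78 i) (rowBlk_n0_79 i) (Nat.ble (nat_lit 2528) i)) (Nat.ble (nat_lit 2496) i)) (Nat.ble (nat_lit 2432) i)) (Nat.ble (nat_lit 2304) i)) (@Bool.rec (fun _ => ℕ) (@Bool.rec (fun _ => ℕ) (@Bool.rec (fun _ => ℕ) (@Bool.rec (fun _ => ℕ) (rowBlk_n0_80 i) (rowBlk_n0_81 i) (Nat.ble (nat_lit 2592) i)) (@Bool.rec (fun _ => ℕ) (rowBlk_n0_82 i) (rowBlk_n0_83 i) (Nat.ble (nat_lit 2656) i)) (Nat.ble (nat_lit 2624) i)) (@Bool.rec (fun _ => ℕ) (@Bool.rec (fun _ => ℕ) (rowBlk_n0_84 i) (rowBlk_n0_85 i) (Nat.ble (nat_lit 2720) i)) (@Bool.rec (fun _ => ℕ) (rowBlk_n0_86 i) (rowBlk_n0_87 i) (Nat.ble (nat_lit 2784) i)) (Nat.ble (nat_lit 2752) i)) (Nat.ble (nat_lit 2688) i))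 (@Bool.rec (fun _ => ℕ) (@Bool.rec (fun _ => ℕ) (@Bool.rec (fun _ => ℕ) (rowBlk_n0_88 i) (rowBlk_n0_89 i) (Nat.ble (nat_lit 2848) i)) (@Bool.rec (fun _ => ℕ) (rowBlk_n0_90 i) (rowBlk_n0_91 i) (Nat.ble (nat_lit 2912) i)) (Nat.ble (nat_lit 2880) i)) (@Bool.rec (fun _ => ℕ) (@Bool.rec (fun _ => ℕ) (rowBlk_n0_92 i) (rowBlk_n0_93 i) (Nat.ble (nat_lit 2976) i)) (@Bool.rec (fun _ => ℕ) (rowBlk_n0_94 i) (rowBlk_n0_95 i) (Nat.ble (nat_lit 3040) i)) (Nat.ble (nat_lit 3008) i)) (Nat.ble (nat_lit 2944) i)) (Nat.ble (nat_lit 2816) i)) (Nat.ble (nat_lit 2560) i))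

def rowBlk_n1_3 (i : ℕ) : ℕ := (@Bool.rec (fun _ => ℕ) (@Bool.rec (fun _ => ℕ) (@Bool.rec (fun _ => ℕ) (@Bool.rec (fun _ => ℕ) (@Bool.rec (fun _ => ℕ) (rowBlk_n0_96 i) (rowBlk_n0_97 i) (Nat.ble (nat_lit 3104) i)) (@Bool.rec (fun _ => ℕ) (rowBlk_n0_98 i) (rowBlk_n0_99 i) (Nat.ble (nat_lit 3168) i)) (Nat.ble (nat_lit 3136) i)) (@Bool.rec (fun _ => ℕ) (@Bool.rec (fun _ => ℕ) (rowBlk_n0_100 i) (rowBlk_n0_101 i) (Nat.ble (nat_lit 3232) i)) (@Bool.rec (fun _ => ℕ) (rowBlk_n0_102 i) (rowBlk_n0_103 i) (Nat.ble (nat_lit 3296) i)) (Nat.ble (nat_lit 3264) i)) (Nat.ble (nat_lit 3200) i)) (@Bool.rec (fun _ => ℕ) (@Bool.rec (fun _ => ℕ) (@Bool.rec (fun _ => ℕ) (rowBlk_n0_104 i) (rowBlk_n0_105 i) (Nat.ble (nat_lit 3360) i)) (@Bool.rec (fun _ => ℕ) (rowBlk_n0_106 i) (rowBlk_n0_107 i) (Nat.ble (nat_lit 3424) i)) (Nat.ble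 (nat_lit 3392) i)) (@Bool.rec (fun _ => ℕ) (@Bool.rec (fun _ => ℕ) (rowBlk_n0_108 i) (rowBlk_n0_109 i) (Nat.ble (nat_lit 3488) i)) (@Bool.rec (fun _ => ℕ) (rowBlk_n0_110 i) (rowBlk_n0_111 i) (Nat.ble (nat_lit 3552) i)) (Nat.ble (nat_lit 3520) i)) (Nat.ble (nat_lit 3456) i)) (Nat.ble (nat_lit 3328) i)) (@Bool.rec (fun _ => ℕ) (@Bool.rec (fun _ => ℕ) (@Bool.rec (fun _ => ℕ) (@Bool.rec (fun _ => ℕ) (rowBlk_n0_112 i) (rowBlk_n0_113 i) (Nat.ble (nat_lit 3616) i)) (@Bool.rec (fun _ => ℕ) (rowBlk_n0_114 i) (rowBlk_n0_115 i) (Nat.ble (nat_lit 3680) i)) (Nat.ble (nat_lit 3648) i)) (@Bool.rec (fun _ => ℕ) (@Bool.rec (fun _ => ℕ) (rowBlk_n0_116 i) (rowBlk_n0_117 i) (Nat.ble (nat_lit 3744) i)) (@Bool.rec (fun _ => ℕ) (rowBlk_n0_118 i) (rowBlk_n0_119 i) (Nat.ble (nat_lit 3808) i)) (Nat.ble (nat_lit 3776) i)) (Nat.ble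 (nat_lit 3712) i)) (@Bool.rec (fun _ => ℕ) (@Bool.rec (fun _ => ℕ) (@Bool.rec (fun _ => ℕ) (rowBlk_n0_120 i) (rowBlk_n0_121 i) (Nat.ble (nat_lit 3872) i)) (@Bool.rec (fun _ => ℕ) (rowBlk_n0_122 i) (rowBlk_n0_123 i) (Nat.ble (nat_lit 3936) i)) (Nat.ble (nat_lit 3904) i)) (@Bool.rec (fun _ => ℕ) (@Bool.rec (fun _ => ℕ) (rowBlk_n0_124 i) (rowBlk_n0_125 i) (Nat.ble (nat_lit 4000) i)) (@Bool.rec (fun _ => ℕ) (rowBlk_n0_126 i) (rowBlk_n0_127 i) (Nat.ble (nat_lit 4064) i)) (Nat.ble (nat_lit 4032) i)) (Nat.ble (nat_lit 3968) i)) (Nat.ble (nat_lit 3840) i)) (Nat.ble (nat_lit 3584) i))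

def rowBlk_n1_4 (i : ℕ) : ℕ := (@Bool.rec (fun _ => ℕ) (@Bool.rec (fun _ => ℕ) (@Bool.rec (fun _ => ℕ) (@Bool.rec (fun _ => ℕ) (@Bool.rec (fun _ => ℕ) (rowBlk_n0_128 i) (rowBlk_n0_129 i) (Nat.ble (nat_lit 4128) i)) (@Bool.rec (fun _ => ℕ) (rowBlk_n0_130 i) (rowBlk_n0_131 i) (Nat.ble (nat_lit 4192) i)) (Nat.ble (nat_lit 4160) i)) (@Bool.rec (fun _ => ℕ) (@Bool.rec (fun _ => ℕ) (rowBlk_n0_132 i) (rowBlk_n0_133 i) (Nat.ble (nat_lit 4256) i)) (@Bool.rec (fun _ => ℕ) (rowBlk_n0_134 i) (rowBlk_n0_135 i) (Nat.ble (nat_lit 4320) i)) (Nat.ble (nat_lit 4288) i)) (Nat.ble (nat_lit 4224) i)) (@Bool.rec (fun _ => ℕ) (@Bool.rec (fun _ => ℕ) (@Bool.rec (fun _ => ℕ) (rowBlk_n0_136 i) (rowBlk_n0_137 i) (Nat.ble (nat_lit 4384) i)) (@Bool.rec (fun _ => ℕ) (rowBlk_n0_138 i) (rowBlk_n0_139 i) (Nat.ble (nat_lit 4448) i)) (Nat.ble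 (nat_lit 4416) i)) (@Bool.rec (fun _ => ℕ) (@Bool.rec (fun _ => ℕ) (rowBlk_n0_140 i) (rowBlk_n0_141 i) (Nat.ble (nat_lit 4512) i)) (@Bool.rec (fun _ => ℕ) (rowBlk_n0_142 i) (rowBlk_n0_143 i) (Nat.ble (nat_lit 4576) i)) (Nat.ble (nat_lit 4544) i)) (Nat.ble (nat_lit 4480) i)) (Nat.ble (nat_lit 4352) i)) (@Bool.rec (fun _ => ℕ) (@Bool.rec (fun _ => ℕ) (@Bool.rec (fun _ => ℕ) (@Bool.rec (fun _ => ℕ) (rowBlk_n0_144 i) (rowBlk_n0_145 i) (Nat.ble (nat_lit 4640) i)) (@Bool.rec (fun _ => ℕ) (rowBlk_n0_146 i) (rowBlk_n0_147 i) (Nat.ble (nat_lit 4704) i)) (Nat.ble (nat_lit 4672) i)) (@Bool.rec (fun _ => ℕ) (@Bool.rec (fun _ => ℕ) (rowBlk_n0_148 i) (rowBlk_n0_149 i) (Nat.ble (nat_lit 4768) i)) (@Bool.rec (fun _ => ℕ) (rowBlk_n0_150 i) (rowBlk_n0_151 i) (Nat.ble (nat_lit 4832) i)) (Nat.ble (nat_lit 4800) i)) (Nat.ble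 (nat_lit 4736) i)) (@Bool.rec (fun _ => ℕ) (@Bool.rec (fun _ => ℕ) (@Bool.rec (fun _ => ℕ) (rowBlk_n0_152 i) (rowBlk_n0_153 i) (Nat.ble (nat_lit 4896) i)) (@Bool.rec (fun _ => ℕ) (rowBlk_n0_154 i) (rowBlk_n0_155 i) (Nat.ble (nat_lit 4960) i)) (Nat.ble (nat_lit 4928) i)) (@Bool.rec (fun _ => ℕ) (@Bool.rec (fun _ => ℕ) (rowBlk_n0_156 i) (rowBlk_n0_157 i) (Nat.ble (nat_lit 5024) i)) (@Bool.rec (fun _ => ℕ) (rowBlk_n0_158 i) (rowBlk_n0_159 i) (Nat.ble (nat_lit 5088) i)) (Nat.ble (nat_lit 5056) i)) (Nat.ble (nat_lit 4992) i)) (Nat.ble (nat_lit 4864) i)) (Nat.ble (nat_lit 4608) i))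

def rowBlk_n1_5 (i : ℕ) : ℕ := (@Bool.rec (fun _ => ℕ) (@Bool.rec (fun _ => ℕ) (@Bool.rec (fun _ => ℕ) (@Bool.rec (fun _ => ℕ) (@Bool.rec (fun _ => ℕ) (rowBlk_n0_160 i) (rowBlk_n0_161 i) (Nat.ble (nat_lit 5152) i)) (@Bool.rec (fun _ => ℕ) (rowBlk_n0_162 i) (rowBlk_n0_163 i) (Nat.ble (nat_lit 5216) i)) (Nat.ble (nat_lit 5184) i)) (@Bool.rec (fun _ => ℕ) (@Bool.rec (fun _ => ℕ) (rowBlk_n0_164 i) (rowBlk_n0_165 i) (Nat.ble (nat_lit 5280) i)) (@Bool.rec (fun _ => ℕ) (rowBlk_n0_166 i) (rowBlk_n0_167 i) (Nat.ble (nat_lit 5344) i)) (Nat.ble (nat_lit 5312) i)) (Nat.ble (nat_lit 5248) i)) (@Bool.rec (fun _ => ℕ) (@Bool.rec (fun _ => ℕ) (@Bool.rec (fun _ => ℕ) (rowBlk_n0_168 i) (rowBlk_n0_169 i) (Nat.ble (nat_lit 5408) i)) (@Bool.rec (fun _ => ℕ) (rowBlk_n0_170 i) (rowBlk_n0_171 i) (Nat.ble (nat_lit 5472) i)) (Nat.ble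 (nat_lit 5440) i)) (@Bool.rec (fun _ => ℕ) (@Bool.rec (fun _ => ℕ) (rowBlk_n0_172 i) (rowBlk_n0_173 i) (Nat.ble (nat_lit 5536) i)) (@Bool.rec (fun _ => ℕ) (rowBlk_n0_174 i) (rowBlk_n0_175 i) (Nat.ble (nat_lit 5600) i)) (Nat.ble (nat_lit 5568) i)) (Nat.ble (nat_lit 5504) i)) (Nat.ble (nat_lit 5376) i)) (@Bool.rec (fun _ => ℕ) (@Bool.rec (fun _ => ℕ) (@Bool.rec (fun _ => ℕ) (@Bool.rec (fun _ => ℕ) (rowBlk_n0_176 i) (rowBlk_n0_177 i) (Nat.ble (nat_lit 5664) i)) (@Bool.rec (fun _ => ℕ) (rowBlk_n0_178 i) (rowBlk_n0_179 i) (Nat.ble (nat_lit 5728) i)) (Nat.ble (nat_lit 5696) i)) (@Bool.rec (fun _ => ℕ) (@Bool.rec (fun _ => ℕ) (rowBlk_n0_180 i) (rowBlk_n0_181 i) (Nat.ble (nat_lit 5792) i)) (@Bool.rec (fun _ => ℕ) (rowBlk_n0_182 i) (rowBlk_n0_183 i) (Nat.ble (nat_lit 5856) i)) (Nat.ble (nat_lit 5824) i)) (Nat.ble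 (nat_lit 5760) i)) (@Bool.rec (fun _ => ℕ) (@Bool.rec (fun _ => ℕ) (@Bool.rec (fun _ => ℕ) (rowBlk_n0_184 i) (rowBlk_n0_185 i) (Nat.ble (nat_lit 5920) i)) (@Bool.rec (fun _ => ℕ) (rowBlk_n0_186 i) (rowBlk_n0_187 i) (Nat.ble (nat_lit 5984) i)) (Nat.ble (nat_lit 5952) i)) (@Bool.rec (fun _ => ℕ) (@Bool.rec (fun _ => ℕ) (rowBlk_n0_188 i) (rowBlk_n0_189 i) (Nat.ble (nat_lit 6048) i)) (@Bool.rec (fun _ => ℕ) (rowBlk_n0_190 i) (rowBlk_n0_191 i) (Nat.ble (nat_lit 6112) i)) (Nat.ble (nat_lit 6080) i)) (Nat.ble (nat_lit 6016) i)) (Nat.ble (nat_lit 5888) i)) (Nat.ble (nat_lit 5632) i))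

def rowBlk_n1_6 (i : ℕ) : ℕ := (@Bool.rec (fun _ => ℕ) (@Bool.rec (fun _ => ℕ) (@Bool.rec (fun _ => ℕ) (@Bool.rec (fun _ => ℕ) (@Bool.rec (fun _ => ℕ) (rowBlk_n0_192 i) (rowBlk_n0_193 i) (Nat.ble (nat_lit 6176) i)) (@Bool.rec (fun _ => ℕ) (rowBlk_n0_194 i) (rowBlk_n0_195 i) (Nat.ble (nat_lit 6240) i)) (Nat.ble (nat_lit 6208) i)) (@Bool.rec (fun _ => ℕ) (@Bool.rec (fun _ => ℕ) (rowBlk_n0_196 i) (rowBlk_n0_197 i) (Nat.ble (nat_lit 6304) i)) (@Bool.rec (fun _ => ℕ) (rowBlk_n0_198 i) (rowBlk_n0_199 i) (Nat.ble (nat_lit 6368) i)) (Nat.ble (nat_lit 6336) i)) (Nat.ble (nat_lit 6272) i)) (@Bool.rec (fun _ => ℕ) (@Bool.rec (fun _ => ℕ) (@Bool.rec (fun _ => ℕ) (rowBlk_n0_200 i) (rowBlk_n0_201 i) (Nat.ble (nat_lit 6432) i)) (@Bool.rec (fun _ => ℕ) (rowBlk_n0_202 i) (rowBlk_n0_203 i) (Nat.ble (nat_lit 6496) i)) (Nat.ble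 (nat_lit 6464) i)) (@Bool.rec (fun _ => ℕ) (@Bool.rec (fun _ => ℕ) (rowBlk_n0_204 i) (rowBlk_n0_205 i) (Nat.ble (nat_lit 6560) i)) (@Bool.rec (fun _ => ℕ) (rowBlk_n0_206 i) (rowBlk_n0_207 i) (Nat.ble (nat_lit 6624) i)) (Nat.ble (nat_lit 6592) i)) (Nat.ble (nat_lit 6528) i)) (Nat.ble (nat_lit 6400) i)) (@Bool.rec (fun _ => ℕ) (@Bool.rec (fun _ => ℕ) (@Bool.rec (fun _ => ℕ) (@Bool.rec (fun _ => ℕ) (rowBlk_n0_208 i) (rowBlk_n0_209 i) (Nat.ble (nat_lit 6688) i)) (@Bool.rec (fun _ => ℕ) (rowBlk_n0_210 i) (rowBlk_n0_211 i) (Nat.ble (nat_lit 6752) i)) (Nat.ble (nat_lit 6720) i)) (@Bool.rec (fun _ => ℕ) (@Bool.rec (fun _ => ℕ) (rowBlk_n0_212 i) (rowBlk_n0_213 i) (Nat.ble (nat_lit 6816) i)) (@Bool.rec (fun _ => ℕ) (rowBlk_n0_214 i) (rowBlk_n0_215 i) (Nat.ble (nat_lit 6880) i)) (Nat.ble (nat_lit 6848) i)) (Nat.ble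 (nat_lit 6784) i)) (@Bool.rec (fun _ => ℕ) (@Bool.rec (fun _ => ℕ) (@Bool.rec (fun _ => ℕ) (rowBlk_n0_216 i) (rowBlk_n0_217 i) (Nat.ble (nat_lit 6944) i)) (@Bool.rec (fun _ => ℕ) (rowBlk_n0_218 i) (rowBlk_n0_219 i) (Nat.ble (nat_lit 7008) i)) (Nat.ble (nat_lit 6976) i)) (@Bool.rec (fun _ => ℕ) (@Bool.rec (fun _ => ℕ) (rowBlk_n0_220 i) (rowBlk_n0_221 i) (Nat.ble (nat_lit 7072) i)) (@Bool.rec (fun _ => ℕ) (rowBlk_n0_222 i) (rowBlk_n0_223 i) (Nat.ble (nat_lit 7136) i)) (Nat.ble (nat_lit 7104) i)) (Nat.ble (nat_lit 7040) i)) (Nat.ble (nat_lit 6912) i)) (Nat.ble (nat_lit 6656) i))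

def rowBlk_n1_7 (i : ℕ) : ℕ := (@Bool.rec (fun _ => ℕ) (@Bool.rec (fun _ => ℕ) (@Bool.rec (fun _ => ℕ) (@Bool.rec (fun _ => ℕ) (@Bool.rec (fun _ => ℕ) (rowBlk_n0_224 i) (rowBlk_n0_225 i) (Nat.ble (nat_lit 7200) i)) (@Bool.rec (fun _ => ℕ) (rowBlk_n0_226 i) (rowBlk_n0_227 i) (Nat.ble (nat_lit 7264) i)) (Nat.ble (nat_lit 7232) i)) (@Bool.rec (fun _ => ℕ) (@Bool.rec (fun _ => ℕ) (rowBlk_n0_228 i) (rowBlk_n0_229 i) (Nat.ble (nat_lit 7328) i)) (@Bool.rec (fun _ => ℕ) (rowBlk_n0_230 i) (rowBlk_n0_231 i) (Nat.ble (nat_lit 7392) i)) (Nat.ble (nat_lit 7360) i)) (Nat.ble (nat_lit 7296) i)) (@Bool.rec (fun _ => ℕ) (@Bool.rec (fun _ => ℕ) (@Bool.rec (fun _ => ℕ) (rowBlk_n0_232 i) (rowBlk_n0_233 i) (Nat.ble (nat_lit 7456) i)) (@Bool.rec (fun _ => ℕ) (rowBlk_n0_234 i) (rowBlk_n0_235 i) (Nat.ble (nat_lit 7520) i)) (Nat.ble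 (nat_lit 7488) i)) (@Bool.rec (fun _ => ℕ) (@Bool.rec (fun _ => ℕ) (rowBlk_n0_236 i) (rowBlk_n0_237 i) (Nat.ble (nat_lit 7584) i)) (@Bool.rec (fun _ => ℕ) (rowBlk_n0_238 i) (rowBlk_n0_239 i) (Nat.ble (nat_lit 7648) i)) (Nat.ble (nat_lit 7616) i)) (Nat.ble (nat_lit 7552) i)) (Nat.ble (nat_lit 7424) i)) (@Bool.rec (fun _ => ℕ) (@Bool.rec (fun _ => ℕ) (@Bool.rec (fun _ => ℕ) (@Bool.rec (fun _ => ℕ) (rowBlk_n0_240 i) (rowBlk_n0_241 i) (Nat.ble (nat_lit 7712) i)) (@Bool.rec (fun _ => ℕ) (rowBlk_n0_242 i) (rowBlk_n0_243 i) (Nat.ble (nat_lit 7776) i)) (Nat.ble (nat_lit 7744) i)) (@Bool.rec (fun _ => ℕ) (@Bool.rec (fun _ => ℕ) (rowBlk_n0_244 i) (rowBlk_n0_245 i) (Nat.ble (nat_lit 7840) i)) (@Bool.rec (fun _ => ℕ) (rowBlk_n0_246 i) (rowBlk_n0_247 i) (Nat.ble (nat_lit 7904) i)) (Nat.ble (nat_lit 7872) i)) (Nat.ble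 (nat_lit 7808) i)) (@Bool.rec (fun _ => ℕ) (@Bool.rec (fun _ => ℕ) (@Bool.rec (fun _ => ℕ) (rowBlk_n0_248 i) (rowBlk_n0_249 i) (Nat.ble (nat_lit 7968) i)) (@Bool.rec (fun _ => ℕ) (rowBlk_n0_250 i) (rowBlk_n0_251 i) (Nat.ble (nat_lit 8032) i)) (Nat.ble (nat_lit 8000) i)) (@Bool.rec (fun _ => ℕ) (@Bool.rec (fun _ => ℕ) (rowBlk_n0_252 i) (rowBlk_n0_253 i) (Nat.ble (nat_lit 8096) i)) (@Bool.rec (fun _ => ℕ) (rowBlk_n0_254 i) (rowBlk_n0_255 i) (Nat.ble (nat_lit 8160) i)) (Nat.ble (nat_lit 8128) i)) (Nat.ble (nat_lit 8064) i)) (Nat.ble (nat_lit 7936) i)) (Nat.ble (nat_lit 7680) i))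

def rowBlk_n1_8 (i : ℕ) : ℕ := (@Bool.rec (fun _ => ℕ) (@Bool.rec (fun _ => ℕ) (@Bool.rec (fun _ => ℕ) (@Bool.rec (fun _ => ℕ) (@Bool.rec (fun _ => ℕ) (rowBlk_n0_256 i) (rowBlk_n0_257 i) (Nat.ble (nat_lit 8224) i)) (@Bool.rec (fun _ => ℕ) (rowBlk_n0_258 i) (rowBlk_n0_259 i) (Nat.ble (nat_lit 8288) i)) (Nat.ble (nat_lit 8256) i)) (@Bool.rec (fun _ => ℕ) (@Bool.rec (fun _ => ℕ) (rowBlk_n0_260 i) (rowBlk_n0_261 i) (Nat.ble (nat_lit 8352) i)) (@Bool.rec (fun _ => ℕ) (rowBlk_n0_262 i) (rowBlk_n0_263 i) (Nat.ble (nat_lit 8416) i)) (Nat.ble (nat_lit 8384) i)) (Nat.ble (nat_lit 8320) i)) (@Bool.rec (fun _ => ℕ) (@Bool.rec (fun _ => ℕ) (@Bool.rec (fun _ => ℕ) (rowBlk_n0_264 i) (rowBlk_n0_265 i) (Nat.ble (nat_lit 8480) i)) (@Bool.rec (fun _ => ℕ) (rowBlk_n0_266 i) (rowBlk_n0_267 i) (Nat.ble (nat_lit 8544) i)) (Nat.ble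 (nat_lit 8512) i)) (@Bool.rec (fun _ => ℕ) (@Bool.rec (fun _ => ℕ) (rowBlk_n0_268 i) (rowBlk_n0_269 i) (Nat.ble (nat_lit 8608) i)) (@Bool.rec (fun _ => ℕ) (rowBlk_n0_270 i) (rowBlk_n0_271 i) (Nat.ble (nat_lit 8672) i)) (Nat.ble (nat_lit 8640) i)) (Nat.ble (nat_lit 8576) i)) (Nat.ble (nat_lit 8448) i)) (@Bool.rec (fun _ => ℕ) (@Bool.rec (fun _ => ℕ) (@Bool.rec (fun _ => ℕ) (@Bool.rec (fun _ => ℕ) (rowBlk_n0_272 i) (rowBlk_n0_273 i) (Nat.ble (nat_lit 8736) i)) (@Bool.rec (fun _ => ℕ) (rowBlk_n0_274 i) (rowBlk_n0_275 i) (Nat.ble (nat_lit 8800) i)) (Nat.ble (nat_lit 8768) i)) (@Bool.rec (fun _ => ℕ) (@Bool.rec (fun _ => ℕ) (rowBlk_n0_276 i) (rowBlk_n0_277 i) (Nat.ble (nat_lit 8864) i)) (@Bool.rec (fun _ => ℕ) (rowBlk_n0_278 i) (rowBlk_n0_279 i) (Nat.ble (nat_lit 8928) i)) (Nat.ble (nat_lit 8896) i)) (Nat.ble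 (nat_lit 8832) i)) (@Bool.rec (fun _ => ℕ) (@Bool.rec (fun _ => ℕ) (@Bool.rec (fun _ => ℕ) (rowBlk_n0_280 i) (rowBlk_n0_281 i) (Nat.ble (nat_lit 8992) i)) (@Bool.rec (fun _ => ℕ) (rowBlk_n0_282 i) (rowBlk_n0_283 i) (Nat.ble (nat_lit 9056) i)) (Nat.ble (nat_lit 9024) i)) (@Bool.rec (fun _ => ℕ) (@Bool.rec (fun _ => ℕ) (rowBlk_n0_284 i) (rowBlk_n0_285 i) (Nat.ble (nat_lit 9120) i)) (@Bool.rec (fun _ => ℕ) (rowBlk_n0_286 i) (rowBlk_n0_287 i) (Nat.ble (nat_lit 9184) i)) (Nat.ble (nat_lit 9152) i)) (Nat.ble (nat_lit 9088) i)) (Nat.ble (nat_lit 8960) i)) (Nat.ble (nat_lit 8704) i))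

def rowBlk_n1_9 (i : ℕ) : ℕ := (@Bool.rec (fun _ => ℕ) (@Bool.rec (fun _ => ℕ) (@Bool.rec (fun _ => ℕ) (@Bool.rec (fun _ => ℕ) (@Bool.rec (fun _ => ℕ) (rowBlk_n0_288 i) (rowBlk_n0_289 i) (Nat.ble (nat_lit 9248) i)) (@Bool.rec (fun _ => ℕ) (rowBlk_n0_290 i) (rowBlk_n0_291 i) (Nat.ble (nat_lit 9312) i)) (Nat.ble (nat_lit 9280) i)) (@Bool.rec (fun _ => ℕ) (@Bool.rec (fun _ => ℕ) (rowBlk_n0_292 i) (rowBlk_n0_293 i) (Nat.ble (nat_lit 9376) i)) (@Bool.rec (fun _ => ℕ) (rowBlk_n0_294 i) (rowBlk_n0_295 i) (Nat.ble (nat_lit 9440) i)) (Nat.ble (nat_lit 9408) i)) (Nat.ble (nat_lit 9344) i)) (@Bool.rec (fun _ => ℕ) (@Bool.rec (fun _ => ℕ) (@Bool.rec (fun _ => ℕ) (rowBlk_n0_296 i) (rowBlk_n0_297 i) (Nat.ble (nat_lit 9504) i)) (@Bool.rec (fun _ => ℕ) (rowBlk_n0_298 i) (rowBlk_n0_299 i) (Nat.ble (nat_lit 9568) i)) (Nat.ble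 (nat_lit 9536) i)) (@Bool.rec (fun _ => ℕ) (@Bool.rec (fun _ => ℕ) (rowBlk_n0_300 i) (rowBlk_n0_301 i) (Nat.ble (nat_lit 9632) i)) (@Bool.rec (fun _ => ℕ) (rowBlk_n0_302 i) (rowBlk_n0_303 i) (Nat.ble (nat_lit 9696) i)) (Nat.ble (nat_lit 9664) i)) (Nat.ble (nat_lit 9600) i)) (Nat.ble (nat_lit 9472) i)) (@Bool.rec (fun _ => ℕ) (@Bool.rec (fun _ => ℕ) (@Bool.rec (fun _ => ℕ) (@Bool.rec (fun _ => ℕ) (rowBlk_n0_304 i) (rowBlk_n0_305 i) (Nat.ble (nat_lit 9760) i)) (@Bool.rec (fun _ => ℕ) (rowBlk_n0_306 i) (rowBlk_n0_307 i) (Nat.ble (nat_lit 9824) i)) (Nat.ble (nat_lit 9792) i)) (@Bool.rec (fun _ => ℕ) (@Bool.rec (fun _ => ℕ) (rowBlk_n0_308 i) (rowBlk_n0_309 i) (Nat.ble (nat_lit 9888) i)) (@Bool.rec (fun _ => ℕ) (rowBlk_n0_310 i) (rowBlk_n0_311 i) (Nat.ble (nat_lit 9952) i)) (Nat.ble (nat_lit 9920) i)) (Nat.ble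 (nat_lit 9856) i)) (@Bool.rec (fun _ => ℕ) (@Bool.rec (fun _ => ℕ) (@Bool.rec (fun _ => ℕ) (rowBlk_n0_312 i) (rowBlk_n0_313 i) (Nat.ble (nat_lit 10016) i)) (@Bool.rec (fun _ => ℕ) (rowBlk_n0_314 i) (rowBlk_n0_315 i) (Nat.ble (nat_lit 10080) i)) (Nat.ble (nat_lit 10048) i)) (@Bool.rec (fun _ => ℕ) (@Bool.rec (fun _ => ℕ) (rowBlk_n0_316 i) (rowBlk_n0_317 i) (Nat.ble (nat_lit 10144) i)) (@Bool.rec (fun _ => ℕ) (rowBlk_n0_318 i) (rowBlk_n0_319 i) (Nat.ble (nat_lit 10208) i)) (Nat.ble (nat_lit 10176) i)) (Nat.ble (nat_lit 10112) i)) (Nat.ble (nat_lit 9984) i)) (Nat.ble (nat_lit 9728) i))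

def rowBlk_n1_10 (i : ℕ) : ℕ := (@Bool.rec (fun _ => ℕ) (@Bool.rec (fun _ => ℕ) (@Bool.rec (fun _ => ℕ) (@Bool.rec (fun _ => ℕ) (@Bool.rec (fun _ => ℕ) (rowBlk_n0_320 i) (rowBlk_n0_321 i) (Nat.ble (nat_lit 10272) i)) (@Bool.rec (fun _ => ℕ) (rowBlk_n0_322 i) (rowBlk_n0_323 i) (Nat.ble (nat_lit 10336) i)) (Nat.ble (nat_lit 10304) i)) (@Bool.rec (fun _ => ℕ) (@Bool.rec (fun _ => ℕ) (rowBlk_n0_324 i) (rowBlk_n0_325 i) (Nat.ble (nat_lit 10400) i)) (@Bool.rec (fun _ => ℕ) (rowBlk_n0_326 i) (rowBlk_n0_327 i) (Nat.ble (nat_lit 10464) i)) (Nat.ble (nat_lit 10432) i)) (Nat.ble (nat_lit 10368) i)) (@Bool.rec (fun _ => ℕ) (@Bool.rec (fun _ => ℕ) (@Bool.rec (fun _ => ℕ) (rowBlk_n0_328 i) (rowBlk_n0_329 i) (Nat.ble (nat_lit 10528) i)) (@Bool.rec (fun _ => ℕ) (rowBlk_n0_330 i) (rowBlk_n0_331 i) (Nat.ble (nat_lit 10592)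 i)) (Nat.ble (nat_lit 10560) i)) (@Bool.rec (fun _ => ℕ) (@Bool.rec (fun _ => ℕ) (rowBlk_n0_332 i) (rowBlk_n0_333 i) (Nat.ble (nat_lit 10656) i)) (@Bool.rec (fun _ => ℕ) (rowBlk_n0_334 i) (rowBlk_n0_335 i) (Nat.ble (nat_lit 10720) i)) (Nat.ble (nat_lit 10688) i)) (Nat.ble (nat_lit 10624) i)) (Nat.ble (nat_lit 10496) i)) (@Bool.rec (fun _ => ℕ) (@Bool.rec (fun _ => ℕ) (@Bool.rec (fun _ => ℕ) (@Bool.rec (fun _ => ℕ) (rowBlk_n0_336 i) (rowBlk_n0_337 i) (Nat.ble (nat_lit 10784) i)) (@Bool.rec (fun _ => ℕ) (rowBlk_n0_338 i) (rowBlk_n0_339 i) (Nat.ble (nat_lit 10848) i)) (Nat.ble (nat_lit 10816) i)) (@Bool.rec (fun _ => ℕ) (@Bool.rec (fun _ => ℕ) (rowBlk_n0_340 i) (rowBlk_n0_341 i) (Nat.ble (nat_lit 10912) i)) (@Bool.rec (fun _ => ℕ) (rowBlk_n0_342 i) (rowBlk_n0_343 i) (Nat.ble (nat_lit 10976) i)) (Nat.ble (nat_lit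 10944) i)) (Nat.ble (nat_lit 10880) i)) (@Bool.rec (fun _ => ℕ) (@Bool.rec (fun _ => ℕ) (@Bool.rec (fun _ => ℕ) (rowBlk_n0_344 i) (rowBlk_n0_345 i) (Nat.ble (nat_lit 11040) i)) (@Bool.rec (fun _ => ℕ) (rowBlk_n0_346 i) (rowBlk_n0_347 i) (Nat.ble (nat_lit 11104) i)) (Nat.ble (nat_lit 11072) i)) (@Bool.rec (fun _ => ℕ) (@Bool.rec (fun _ => ℕ) (rowBlk_n0_348 i) (rowBlk_n0_349 i) (Nat.ble (nat_lit 11168) i)) (@Bool.rec (fun _ => ℕ) (rowBlk_n0_350 i) (rowBlk_n0_351 i) (Nat.ble (nat_lit 11232) i)) (Nat.ble (nat_lit 11200) i)) (Nat.ble (nat_lit 11136) i)) (Nat.ble (nat_lit 11008) i)) (Nat.ble (nat_lit 10752) i))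

def rowBlk_n1_11 (i : ℕ) : ℕ := (@Bool.rec (fun _ => ℕ) (@Bool.rec (fun _ => ℕ) (@Bool.rec (fun _ => ℕ) (@Bool.rec (fun _ => ℕ) (@Bool.rec (fun _ => ℕ) (rowBlk_n0_352 i) (rowBlk_n0_353 i) (Nat.ble (nat_lit 11296) i)) (@Bool.rec (fun _ => ℕ) (rowBlk_n0_354 i) (rowBlk_n0_355 i) (Nat.ble (nat_lit 11360) i)) (Nat.ble (nat_lit 11328) i)) (@Bool.rec (fun _ => ℕ) (@Bool.rec (fun _ => ℕ) (rowBlk_n0_356 i) (rowBlk_n0_357 i) (Nat.ble (nat_lit 11424) i)) (@Bool.rec (fun _ => ℕ) (rowBlk_n0_358 i) (rowBlk_n0_359 i) (Nat.ble (nat_lit 11488) i)) (Nat.ble (nat_lit 11456) i)) (Nat.ble (nat_lit 11392) i)) (@Bool.rec (fun _ => ℕ) (@Bool.rec (fun _ => ℕ) (@Bool.rec (fun _ => ℕ) (rowBlk_n0_360 i) (rowBlk_n0_361 i) (Nat.ble (nat_lit 11552) i)) (@Bool.rec (fun _ => ℕ) (rowBlk_n0_362 i) (rowBlk_n0_363 i) (Nat.ble (nat_lit 11616)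 i)) (Nat.ble (nat_lit 11584) i)) (@Bool.rec (fun _ => ℕ) (@Bool.rec (fun _ => ℕ) (rowBlk_n0_364 i) (rowBlk_n0_365 i) (Nat.ble (nat_lit 11680) i)) (@Bool.rec (fun _ => ℕ) (rowBlk_n0_366 i) (rowBlk_n0_367 i) (Nat.ble (nat_lit 11744) i)) (Nat.ble (nat_lit 11712) i)) (Nat.ble (nat_lit 11648) i)) (Nat.ble (nat_lit 11520) i)) (@Bool.rec (fun _ => ℕ) (@Bool.rec (fun _ => ℕ) (@Bool.rec (fun _ => ℕ) (@Bool.rec (fun _ => ℕ) (rowBlk_n0_368 i) (rowBlk_n0_369 i) (Nat.ble (nat_lit 11808) i)) (@Bool.rec (fun _ => ℕ) (rowBlk_n0_370 i) (rowBlk_n0_371 i) (Nat.ble (nat_lit 11872) i)) (Nat.ble (nat_lit 11840) i)) (@Bool.rec (fun _ => ℕ) (@Bool.rec (fun _ => ℕ) (rowBlk_n0_372 i) (rowBlk_n0_373 i) (Nat.ble (nat_lit 11936) i)) (@Bool.rec (fun _ => ℕ) (rowBlk_n0_374 i) (rowBlk_n0_375 i) (Nat.ble (nat_lit 12000) i)) (Nat.ble (nat_lit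 11968) i)) (Nat.ble (nat_lit 11904) i)) (@Bool.rec (fun _ => ℕ) (@Bool.rec (fun _ => ℕ) (@Bool.rec (fun _ => ℕ) (rowBlk_n0_376 i) (rowBlk_n0_377 i) (Nat.ble (nat_lit 12064) i)) (@Bool.rec (fun _ => ℕ) (rowBlk_n0_378 i) (rowBlk_n0_379 i) (Nat.ble (nat_lit 12128) i)) (Nat.ble (nat_lit 12096) i)) (@Bool.rec (fun _ => ℕ) (@Bool.rec (fun _ => ℕ) (rowBlk_n0_380 i) (rowBlk_n0_381 i) (Nat.ble (nat_lit 12192) i)) (@Bool.rec (fun _ => ℕ) (rowBlk_n0_382 i) (rowBlk_n0_383 i) (Nat.ble (nat_lit 12256) i)) (Nat.ble (nat_lit 12224) i)) (Nat.ble (nat_lit 12160) i)) (Nat.ble (nat_lit 12032) i)) (Nat.ble (nat_lit 11776) i))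

def rowBlk_n1_12 (i : ℕ) : ℕ := (@Bool.rec (fun _ => ℕ) (@Bool.rec (fun _ => ℕ) (@Bool.rec (fun _ => ℕ) (@Bool.rec (fun _ => ℕ) (@Bool.rec (fun _ => ℕ) (rowBlk_n0_384 i) (rowBlk_n0_385 i) (Nat.ble (nat_lit 12320) i)) (@Bool.rec (fun _ => ℕ) (rowBlk_n0_386 i) (rowBlk_n0_387 i) (Nat.ble (nat_lit 12384) i)) (Nat.ble (nat_lit 12352) i)) (@Bool.rec (fun _ => ℕ) (@Bool.rec (fun _ => ℕ) (rowBlk_n0_388 i) (rowBlk_n0_389 i) (Nat.ble (nat_lit 12448) i)) (@Bool.rec (fun _ => ℕ) (rowBlk_n0_390 i) (rowBlk_n0_391 i) (Nat.ble (nat_lit 12512) i)) (Nat.ble (nat_lit 12480) i)) (Nat.ble (nat_lit 12416) i)) (@Bool.rec (fun _ => ℕ) (@Bool.rec (fun _ => ℕ) (@Bool.rec (fun _ => ℕ) (rowBlk_n0_392 i) (rowBlk_n0_393 i) (Nat.ble (nat_lit 12576) i)) (@Bool.rec (fun _ => ℕ) (rowBlk_n0_394 i) (rowBlk_n0_395 i) (Nat.ble (nat_lit 12640)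 i)) (Nat.ble (nat_lit 12608) i)) (@Bool.rec (fun _ => ℕ) (@Bool.rec (fun _ => ℕ) (rowBlk_n0_396 i) (rowBlk_n0_397 i) (Nat.ble (nat_lit 12704) i)) (@Bool.rec (fun _ => ℕ) (rowBlk_n0_398 i) (rowBlk_n0_399 i) (Nat.ble (nat_lit 12768) i)) (Nat.ble (nat_lit 12736) i)) (Nat.ble (nat_lit 12672) i)) (Nat.ble (nat_lit 12544) i)) (@Bool.rec (fun _ => ℕ) (@Bool.rec (fun _ => ℕ) (@Bool.rec (fun _ => ℕ) (@Bool.rec (fun _ => ℕ) (rowBlk_n0_400 i) (rowBlk_n0_401 i) (Nat.ble (nat_lit 12832) i)) (@Bool.rec (fun _ => ℕ) (rowBlk_n0_402 i) (rowBlk_n0_403 i) (Nat.ble (nat_lit 12896) i)) (Nat.ble (nat_lit 12864) i)) (@Bool.rec (fun _ => ℕ) (@Bool.rec (fun _ => ℕ) (rowBlk_n0_404 i) (rowBlk_n0_405 i) (Nat.ble (nat_lit 12960) i)) (@Bool.rec (fun _ => ℕ) (rowBlk_n0_406 i) (rowBlk_n0_407 i) (Nat.ble (nat_lit 13024) i)) (Nat.ble (nat_lit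 12992) i)) (Nat.ble (nat_lit 12928) i)) (@Bool.rec (fun _ => ℕ) (@Bool.rec (fun _ => ℕ) (@Bool.rec (fun _ => ℕ) (rowBlk_n0_408 i) (rowBlk_n0_409 i) (Nat.ble (nat_lit 13088) i)) (@Bool.rec (fun _ => ℕ) (rowBlk_n0_410 i) (rowBlk_n0_411 i) (Nat.ble (nat_lit 13152) i)) (Nat.ble (nat_lit 13120) i)) (@Bool.rec (fun _ => ℕ) (@Bool.rec (fun _ => ℕ) (rowBlk_n0_412 i) (rowBlk_n0_413 i) (Nat.ble (nat_lit 13216) i)) (@Bool.rec (fun _ => ℕ) (rowBlk_n0_414 i) (rowBlk_n0_415 i) (Nat.ble (nat_lit 13280) i)) (Nat.ble (nat_lit 13248) i)) (Nat.ble (nat_lit 13184) i)) (Nat.ble (nat_lit 13056) i)) (Nat.ble (nat_lit 12800) i))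

def rowBlk_n1_13 (i : ℕ) : ℕ := (@Bool.rec (fun _ => ℕ) (@Bool.rec (fun _ => ℕ) (@Bool.rec (fun _ => ℕ) (@Bool.rec (fun _ => ℕ) (@Bool.rec (fun _ => ℕ) (rowBlk_n0_416 i) (rowBlk_n0_417 i) (Nat.ble (nat_lit 13344) i)) (@Bool.rec (fun _ => ℕ) (rowBlk_n0_418 i) (rowBlk_n0_419 i) (Nat.ble (nat_lit 13408) i)) (Nat.ble (nat_lit 13376) i)) (@Bool.rec (fun _ => ℕ) (@Bool.rec (fun _ => ℕ) (rowBlk_n0_420 i) (rowBlk_n0_421 i) (Nat.ble (nat_lit 13472) i)) (@Bool.rec (fun _ => ℕ) (rowBlk_n0_422 i) (rowBlk_n0_423 i) (Nat.ble (nat_lit 13536) i)) (Nat.ble (nat_lit 13504) i)) (Nat.ble (nat_lit 13440) i)) (@Bool.rec (fun _ => ℕ) (@Bool.rec (fun _ => ℕ) (@Bool.rec (fun _ => ℕ) (rowBlk_n0_424 i) (rowBlk_n0_425 i) (Nat.ble (nat_lit 13600) i)) (@Bool.rec (fun _ => ℕ) (rowBlk_n0_426 i) (rowBlk_n0_427 i) (Nat.ble (nat_lit 13664)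 i)) (Nat.ble (nat_lit 13632) i)) (@Bool.rec (fun _ => ℕ) (@Bool.rec (fun _ => ℕ) (rowBlk_n0_428 i) (rowBlk_n0_429 i) (Nat.ble (nat_lit 13728) i)) (@Bool.rec (fun _ => ℕ) (rowBlk_n0_430 i) (rowBlk_n0_431 i) (Nat.ble (nat_lit 13792) i)) (Nat.ble (nat_lit 13760) i)) (Nat.ble (nat_lit 13696) i)) (Nat.ble (nat_lit 13568) i)) (@Bool.rec (fun _ => ℕ) (@Bool.rec (fun _ => ℕ) (@Bool.rec (fun _ => ℕ) (@Bool.rec (fun _ => ℕ) (rowBlk_n0_432 i) (rowBlk_n0_433 i) (Nat.ble (nat_lit 13856) i)) (@Bool.rec (fun _ => ℕ) (rowBlk_n0_434 i) (rowBlk_n0_435 i) (Nat.ble (nat_lit 13920) i)) (Nat.ble (nat_lit 13888) i)) (@Bool.rec (fun _ => ℕ) (@Bool.rec (fun _ => ℕ) (rowBlk_n0_436 i) (rowBlk_n0_437 i) (Nat.ble (nat_lit 13984) i)) (@Bool.rec (fun _ => ℕ) (rowBlk_n0_438 i) (rowBlk_n0_439 i) (Nat.ble (nat_lit 14048) i)) (Nat.ble (nat_lit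 14016) i)) (Nat.ble (nat_lit 13952) i)) (@Bool.rec (fun _ => ℕ) (@Bool.rec (fun _ => ℕ) (@Bool.rec (fun _ => ℕ) (rowBlk_n0_440 i) (rowBlk_n0_441 i) (Nat.ble (nat_lit 14112) i)) (@Bool.rec (fun _ => ℕ) (rowBlk_n0_442 i) (rowBlk_n0_443 i) (Nat.ble (nat_lit 14176) i)) (Nat.ble (nat_lit 14144) i)) (@Bool.rec (fun _ => ℕ) (@Bool.rec (fun _ => ℕ) (rowBlk_n0_444 i) (rowBlk_n0_445 i) (Nat.ble (nat_lit 14240) i)) (@Bool.rec (fun _ => ℕ) (rowBlk_n0_446 i) (rowBlk_n0_447 i) (Nat.ble (nat_lit 14304) i)) (Nat.ble (nat_lit 14272) i)) (Nat.ble (nat_lit 14208) i)) (Nat.ble (nat_lit 14080) i)) (Nat.ble (nat_lit 13824) i))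

def rowBlk_n1_14 (i : ℕ) : ℕ := (@Bool.rec (fun _ => ℕ) (@Bool.rec (fun _ => ℕ) (@Bool.rec (fun _ => ℕ) (@Bool.rec (fun _ => ℕ) (@Bool.rec (fun _ => ℕ) (rowBlk_n0_448 i) (rowBlk_n0_449 i) (Nat.ble (nat_lit 14368) i)) (@Bool.rec (fun _ => ℕ) (rowBlk_n0_450 i) (rowBlk_n0_451 i) (Nat.ble (nat_lit 14432) i)) (Nat.ble (nat_lit 14400) i)) (@Bool.rec (fun _ => ℕ) (@Bool.rec (fun _ => ℕ) (rowBlk_n0_452 i) (rowBlk_n0_453 i) (Nat.ble (nat_lit 14496) i)) (@Bool.rec (fun _ => ℕ) (rowBlk_n0_454 i) (rowBlk_n0_455 i) (Nat.ble (nat_lit 14560) i)) (Nat.ble (nat_lit 14528) i)) (Nat.ble (nat_lit 14464) i)) (@Bool.rec (fun _ => ℕ) (@Bool.rec (fun _ => ℕ) (@Bool.rec (fun _ => ℕ) (rowBlk_n0_456 i) (rowBlk_n0_457 i) (Nat.ble (nat_lit 14624) i)) (@Bool.rec (fun _ => ℕ) (rowBlk_n0_458 i) (rowBlk_n0_459 i) (Nat.ble (nat_lit 14688)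 i)) (Nat.ble (nat_lit 14656) i)) (@Bool.rec (fun _ => ℕ) (@Bool.rec (fun _ => ℕ) (rowBlk_n0_460 i) (rowBlk_n0_461 i) (Nat.ble (nat_lit 14752) i)) (@Bool.rec (fun _ => ℕ) (rowBlk_n0_462 i) (rowBlk_n0_463 i) (Nat.ble (nat_lit 14816) i)) (Nat.ble (nat_lit 14784) i)) (Nat.ble (nat_lit 14720) i)) (Nat.ble (nat_lit 14592) i)) (@Bool.rec (fun _ => ℕ) (@Bool.rec (fun _ => ℕ) (@Bool.rec (fun _ => ℕ) (@Bool.rec (fun _ => ℕ) (rowBlk_n0_464 i) (rowBlk_n0_465 i) (Nat.ble (nat_lit 14880) i)) (@Bool.rec (fun _ => ℕ) (rowBlk_n0_466 i) (rowBlk_n0_467 i) (Nat.ble (nat_lit 14944) i)) (Nat.ble (nat_lit 14912) i)) (@Bool.rec (fun _ => ℕ) (@Bool.rec (fun _ => ℕ) (rowBlk_n0_468 i) (rowBlk_n0_469 i) (Nat.ble (nat_lit 15008) i)) (@Bool.rec (fun _ => ℕ) (rowBlk_n0_470 i) (rowBlk_n0_471 i) (Nat.ble (nat_lit 15072) i)) (Nat.ble (nat_lit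 15040) i)) (Nat.ble (nat_lit 14976) i)) (@Bool.rec (fun _ => ℕ) (@Bool.rec (fun _ => ℕ) (@Bool.rec (fun _ => ℕ) (rowBlk_n0_472 i) (rowBlk_n0_473 i) (Nat.ble (nat_lit 15136) i)) (@Bool.rec (fun _ => ℕ) (rowBlk_n0_474 i) (rowBlk_n0_475 i) (Nat.ble (nat_lit 15200) i)) (Nat.ble (nat_lit 15168) i)) (@Bool.rec (fun _ => ℕ) (@Bool.rec (fun _ => ℕ) (rowBlk_n0_476 i) (rowBlk_n0_477 i) (Nat.ble (nat_lit 15264) i)) (@Bool.rec (fun _ => ℕ) (rowBlk_n0_478 i) (rowBlk_n0_479 i) (Nat.ble (nat_lit 15328) i)) (Nat.ble (nat_lit 15296) i)) (Nat.ble (nat_lit 15232) i)) (Nat.ble (nat_lit 15104) i)) (Nat.ble (nat_lit 14848) i))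

def rowBlk_n1_15 (i : ℕ) : ℕ := (@Bool.rec (fun _ => ℕ) (@Bool.rec (fun _ => ℕ) (@Bool.rec (fun _ => ℕ) (@Bool.rec (fun _ => ℕ) (@Bool.rec (fun _ => ℕ) (rowBlk_n0_480 i) (rowBlk_n0_481 i) (Nat.ble (nat_lit 15392) i)) (@Bool.rec (fun _ => ℕ) (rowBlk_n0_482 i) (rowBlk_n0_483 i) (Nat.ble (nat_lit 15456) i)) (Nat.ble (nat_lit 15424) i)) (@Bool.rec (fun _ => ℕ) (@Bool.rec (fun _ => ℕ) (rowBlk_n0_484 i) (rowBlk_n0_485 i) (Nat.ble (nat_lit 15520) i)) (@Bool.rec (fun _ => ℕ) (rowBlk_n0_486 i) (rowBlk_n0_487 i) (Nat.ble (nat_lit 15584) i)) (Nat.ble (nat_lit 15552) i)) (Nat.ble (nat_lit 15488) i)) (@Bool.rec (fun _ => ℕ) (@Bool.rec (fun _ => ℕ) (@Bool.rec (fun _ => ℕ) (rowBlk_n0_488 i) (rowBlk_n0_489 i) (Nat.ble (nat_lit 15648) i)) (@Bool.rec (fun _ => ℕ) (rowBlk_n0_490 i) (rowBlk_n0_491 i) (Nat.ble (nat_lit 15712)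 i)) (Nat.ble (nat_lit 15680) i)) (@Bool.rec (fun _ => ℕ) (@Bool.rec (fun _ => ℕ) (rowBlk_n0_492 i) (rowBlk_n0_493 i) (Nat.ble (nat_lit 15776) i)) (@Bool.rec (fun _ => ℕ) (rowBlk_n0_494 i) (rowBlk_n0_495 i) (Nat.ble (nat_lit 15840) i)) (Nat.ble (nat_lit 15808) i)) (Nat.ble (nat_lit 15744) i)) (Nat.ble (nat_lit 15616) i)) (@Bool.rec (fun _ => ℕ) (@Bool.rec (fun _ => ℕ) (@Bool.rec (fun _ => ℕ) (@Bool.rec (fun _ => ℕ) (rowBlk_n0_496 i) (rowBlk_n0_497 i) (Nat.ble (nat_lit 15904) i)) (@Bool.rec (fun _ => ℕ) (rowBlk_n0_498 i) (rowBlk_n0_499 i) (Nat.ble (nat_lit 15968) i)) (Nat.ble (nat_lit 15936) i)) (@Bool.rec (fun _ => ℕ) (@Bool.rec (fun _ => ℕ) (rowBlk_n0_500 i) (rowBlk_n0_501 i) (Nat.ble (nat_lit 16032) i)) (@Bool.rec (fun _ => ℕ) (rowBlk_n0_502 i) (rowBlk_n0_503 i) (Nat.ble (nat_lit 16096) i)) (Nat.ble (nat_lit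 16064) i)) (Nat.ble (nat_lit 16000) i)) (@Bool.rec (fun _ => ℕ) (@Bool.rec (fun _ => ℕ) (@Bool.rec (fun _ => ℕ) (rowBlk_n0_504 i) (rowBlk_n0_505 i) (Nat.ble (nat_lit 16160) i)) (@Bool.rec (fun _ => ℕ) (rowBlk_n0_506 i) (rowBlk_n0_507 i) (Nat.ble (nat_lit 16224) i)) (Nat.ble (nat_lit 16192) i)) (@Bool.rec (fun _ => ℕ) (@Bool.rec (fun _ => ℕ) (rowBlk_n0_508 i) (rowBlk_n0_509 i) (Nat.ble (nat_lit 16288) i)) (@Bool.rec (fun _ => ℕ) (rowBlk_n0_510 i) (rowBlk_n0_511 i) (Nat.ble (nat_lit 16352) i)) (Nat.ble (nat_lit 16320) i)) (Nat.ble (nat_lit 16256) i)) (Nat.ble (nat_lit 16128) i)) (Nat.ble (nat_lit 15872) i))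

def rowBlk_n1_16 (i : ℕ) : ℕ := (@Bool.rec (fun _ => ℕ) (@Bool.rec (fun _ => ℕ) (@Bool.rec (fun _ => ℕ) (rowBlk_n0_512 i) (@Bool.rec (fun _ => ℕ) (rowBlk_n0_513 i) (rowBlk_n0_514 i) (Nat.ble (nat_lit 16448) i)) (Nat.ble (nat_lit 16416) i)) (@Bool.rec (fun _ => ℕ) (@Bool.rec (fun _ => ℕ) (rowBlk_n0_515 i) (rowBlk_n0_516 i) (Nat.ble (nat_lit 16512) i)) (@Bool.rec (fun _ => ℕ) (rowBlk_n0_517 i) (rowBlk_n0_518 i) (Nat.ble (nat_lit 16576) i)) (Nat.ble (nat_lit 16544) i)) (Nat.ble (nat_lit 16480) i)) (@Bool.rec (fun _ => ℕ) (@Bool.rec (fun _ => ℕ) (rowBlk_n0_519 i) (@Bool.rec (fun _ => ℕ) (rowBlk_n0_520 i) (rowBlk_n0_521 i) (Nat.ble (nat_lit 16672) i)) (Nat.ble (nat_lit 16640) i)) (@Bool.rec (fun _ => ℕ) (@Bool.rec (fun _ => ℕ) (rowBlk_n0_522 i) (rowBlk_n0_523 i) (Nat.ble (nat_lit 16736) i)) (@Bool.rec (fun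 _ => ℕ) (rowBlk_n0_524 i) (rowBlk_n0_525 i) (Nat.ble (nat_lit 16800) i)) (Nat.ble (nat_lit 16768) i)) (Nat.ble (nat_lit 16704) i)) (Nat.ble (nat_lit 16608) i))

def rowBlk (i : ℕ) : ℕ := (@Bool.rec (fun _ => ℕ) (@Bool.rec (fun _ => ℕ) (@Bool.rec (fun _ => ℕ) (@Bool.rec (fun _ => ℕ) (rowBlk_n1_0 i) (rowBlk_n1_1 i) (Nat.ble (nat_lit 1024) i)) (@Bool.rec (fun _ => ℕ) (rowBlk_n1_2 i) (rowBlk_n1_3 i) (Nat.ble (nat_lit 3072) i)) (Nat.ble (nat_lit 2048) i)) (@Bool.rec (fun _ => ℕ) (@Bool.rec (fun _ => ℕ) (rowBlk_n1_4 i) (rowBlk_n1_5 i) (Nat.ble (nat_lit 5120) i)) (@Bool.rec (fun _ => ℕ) (rowBlk_n1_6 i) (rowBlk_n1_7 i) (Nat.ble (nat_lit 7168) i)) (Nat.ble (nat_lit 6144) i)) (Nat.ble (nat_lit 4096) i)) (@Bool.rec (fun _ => ℕ) (@Bool.rec (fun _ => ℕ) (@Bool.rec (fun _ => ℕ) (rowBlk_n1_8 i) (rowBlk_n1_9 i) (Nat.ble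 (nat_lit 9216) i)) (@Bool.rec (fun _ => ℕ) (rowBlk_n1_10 i) (rowBlk_n1_11 i) (Nat.ble (nat_lit 11264) i)) (Nat.ble (nat_lit 10240) i)) (@Bool.rec (fun _ => ℕ) (@Bool.rec (fun _ => ℕ) (rowBlk_n1_12 i) (rowBlk_n1_13 i) (Nat.ble (nat_lit 13312) i)) (@Bool.rec (fun _ => ℕ) (rowBlk_n1_14 i) (@Bool.rec (fun _ => ℕ) (rowBlk_n1_15 i) (rowBlk_n1_16 i) (Nat.ble (nat_lit 16384) i)) (Nat.ble (nat_lit 15360) i)) (Nat.ble (nat_lit 14336) i)) (Nat.ble (nat_lit 12288) i)) (Nat.ble (nat_lit 8192) i))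

def word_n0_0 (i : ℕ) : List ℕ := (@Bool.rec (fun _ => List ℕ) (@Bool.rec (fun _ => List ℕ) (@Bool.rec (fun _ => List ℕ) (@Bool.rec (fun _ => List ℕ) (@Bool.rec (fun _ => List ℕ) [0, 0] [0, 2, 0, 2, 0, 2, 0, 2] (Nat.ble (nat_lit 1) i)) (@Bool.rec (fun _ => List ℕ) [0, 4, 0, 4] [0, 6, 0, 6] (Nat.ble (nat_lit 3) i)) (Nat.ble (nat_lit 2) i)) (@Bool.rec (fun _ => List ℕ) (@Bool.rec (fun _ => List ℕ) [0, 10, 0, 10] [0, 12, 0, 12] (Nat.ble (nat_lit 5) i)) (@Bool.rec (fun _ => List ℕ) [0, 8, 0, 8] [2, 2] (Nat.ble (nat_lit 7) i)) (Nat.ble (nat_lit 6) i)) (Nat.ble (nat_lit 4) i)) (@Bool.rec (fun _ => List ℕ) (@Bool.rec (fun _ => List ℕ) (@Bool.rec (fun _ => List ℕ) [2, 4, 2, 4, 2, 4] [2, 6, 2, 6] (Nat.ble (nat_lit 9) i)) (@Bool.rec (fun _ => List ℕ) [2, 10, 2, 10] [2, 12, 2, 12] (Nat.ble (nat_lit 11) i)) (Nat.ble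 (nat_lit 10) i)) (@Bool.rec (fun _ => List ℕ) (@Bool.rec (fun _ => List ℕ) [2, 8, 2, 8] [4, 4] (Nat.ble (nat_lit 13) i)) (@Bool.rec (fun _ => List ℕ) [4, 6, 4, 6, 4, 6, 4, 6, 4, 6, 4, 6, 4, 6, 4, 6, 4, 6, 4, 6] [4, 10, 4, 10] (Nat.ble (nat_lit 15) i)) (Nat.ble (nat_lit 14) i)) (Nat.ble (nat_lit 12) i)) (Nat.ble (nat_lit 8) i)) (@Bool.rec (fun _ => List ℕ) (@Bool.rec (fun _ => List ℕ) (@Bool.rec (fun _ => List ℕ) (@Bool.rec (fun _ => List ℕ) [4, 12, 4, 12] [4, 8, 4, 8] (Nat.ble (nat_lit 17) i)) (@Bool.rec (fun _ => List ℕ) [6, 6] [6, 10, 6, 10, 6, 10] (Nat.ble (nat_lit 19) i)) (Nat.ble (nat_lit 18) i)) (@Bool.rec (fun _ => List ℕ) (@Bool.rec (fun _ => List ℕ) [6, 12, 6, 12, 6, 12] [6, 8, 6, 8, 6, 8] (Nat.ble (nat_lit 21) i)) (@Bool.rec (fun _ => List ℕ) [10, 10] [10, 12, 10, 12, 10, 12, 10, 12] (Nat.ble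 (nat_lit 23) i)) (Nat.ble (nat_lit 22) i)) (Nat.ble (nat_lit 20) i)) (@Bool.rec (fun _ => List ℕ) (@Bool.rec (fun _ => List ℕ) (@Bool.rec (fun _ => List ℕ) [12, 12] [8, 10, 8, 10] (Nat.ble (nat_lit 25) i)) (@Bool.rec (fun _ => List ℕ) [8, 12, 8, 12] [8, 8] (Nat.ble (nat_lit 27) i)) (Nat.ble (nat_lit 26) i)) (@Bool.rec (fun _ => List ℕ) (@Bool.rec (fun _ => List ℕ) [8, 13, 11, 13, 11] [8, 5, 3, 1, 5, 3, 1, 5, 3, 1] (Nat.ble (nat_lit 29) i)) (@Bool.rec (fun _ => List ℕ) [0, 7, 5, 7, 5, 7, 5, 7, 5, 7, 5] [4, 6, 10, 12, 4, 6, 10, 12, 4, 6, 10, 12, 4, 6, 10, 12] (Nat.ble (nat_lit 31) i)) (Nat.ble (nat_lit 30) i)) (Nat.ble (nat_lit 28) i)) (Nat.ble (nat_lit 24) i)) (Nat.ble (nat_lit 16) i))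

def word_n0_1 (i : ℕ) : List ℕ := (@Bool.rec (fun _ => List ℕ) (@Bool.rec (fun _ => List ℕ) (@Bool.rec (fun _ => List ℕ) (@Bool.rec (fun _ => List ℕ) ([] : List ℕ) [0, 1] (Nat.ble (nat_lit 33) i)) (@Bool.rec (fun _ => List ℕ) [1, 0] (@Bool.rec (fun _ => List ℕ) [2, 3] [3, 2] (Nat.ble (nat_lit 36) i)) (Nat.ble (nat_lit 35) i)) (Nat.ble (nat_lit 34) i)) (@Bool.rec (fun _ => List ℕ) (@Bool.rec (fun _ => List ℕ) [4, 5] [5, 4] (Nat.ble (nat_lit 38) i)) (@Bool.rec (fun _ => List ℕ) [6, 7] (@Bool.rec (fun _ => List ℕ) [7, 6] [8, 9] (Nat.ble (nat_lit 41) i)) (Nat.ble (nat_lit 40) i)) (Nat.ble (nat_lit 39) i)) (Nat.ble (nat_lit 37) i)) (@Bool.rec (fun _ => List ℕ) (@Bool.rec (fun _ => List ℕ) (@Bool.rec (fun _ => List ℕ) [9, 8] [10, 11] (Nat.ble (nat_lit 43) i)) (@Bool.rec (fun _ => List ℕ) [11, 10] (@Bool.rec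 (fun _ => List ℕ) [12, 13] [13, 12] (Nat.ble (nat_lit 46) i)) (Nat.ble (nat_lit 45) i)) (Nat.ble (nat_lit 44) i)) (@Bool.rec (fun _ => List ℕ) (@Bool.rec (fun _ => List ℕ) [0] [2] (Nat.ble (nat_lit 48) i)) (@Bool.rec (fun _ => List ℕ) [4] (@Bool.rec (fun _ => List ℕ) [6] [8] (Nat.ble (nat_lit 51) i)) (Nat.ble (nat_lit 50) i)) (Nat.ble (nat_lit 49) i)) (Nat.ble (nat_lit 47) i)) (Nat.ble (nat_lit 42) i))

def word (i : ℕ) : List ℕ := (@Bool.rec (fun _ => List ℕ) (word_n0_0 i) (word_n0_1 i) (Nat.ble (nat_lit 32) i))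

def fact (k : ℕ) : ℕ := Nat.land (Nat.shiftRight (factBlk (Nat.shiftRight k (nat_lit 8))) (Nat.mul (Nat.land k (nat_lit 255)) (nat_lit 48))) (nat_lit 281474976710655)

def slot (v : ℕ) : ℕ := Nat.land (Nat.shiftRight (parBlk (Nat.shiftRight v (nat_lit 8))) (Nat.mul (Nat.land v (nat_lit 255)) (nat_lit 32))) (nat_lit 4294967295)

def par (v : ℕ) : ℕ := Nat.land (slot v) (nat_lit 1048575)

def plet (v : ℕ) : ℕ := Nat.shiftRight (slot v) (nat_lit 20)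

def isFin (v : ℕ) : Bool := Nat.beq (Nat.land (Nat.shiftRight (finBlk (Nat.shiftRight v (nat_lit 12))) (Nat.land v (nat_lit 4095))) (nat_lit 1)) (nat_lit 1)

def row (v : ℕ) : ℕ := Nat.land (Nat.shiftRight (rowBlk (Nat.shiftRight v (nat_lit 4))) (Nat.mul (Nat.land v (nat_lit 15)) (nat_lit 336))) (nat_lit 139984046386112763159840142535527767382602843577165595931249318810236991948760059086304843329475444735)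

def inv (g : ℕ) : Bool := and (Nat.blt g 7) (Nat.beq (Nat.land (Nat.shiftRight (nat_lit 127) g) (nat_lit 1)) (nat_lit 1))

def blockOk (j : ℕ) : Bool := blockF par plet fact inv word (nat_lit 47) (nat_lit 52) (nat_lit 268973) (Nat.mul j (nat_lit 256)) (nat_lit 256) (nat_lit 0) (certBlk j)

def rowOk (v : ℕ) : Bool := rowF fact inv (nat_lit 268973) isFin row (nat_lit 944128) (nat_lit 14) v

def parOk (v : ℕ) : Bool := or (Nat.beq v 0) (Nat.blt (par v) v)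

def gname : ℕ → Cfsg.Spor.He.Gen
  | 0 => .a
  | 1 => .b
  | 2 => .c
  | 3 => .d
  | 4 => .e
  | 5 => .f
  | 6 => .g
  | _ => .a

end Cfsg.Agent.Lib.Helper56_HeTop.U
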