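import Cfsg.Agent.Lib.Helper56_HeTopUDef

set_option autoImplicit false
set_option linter.constructorNameAsVariable false
set_option linter.unusedVariables false
set_option Elab.async false

namespace Cfsg.Agent.Lib.Helper56_HeTop.U

open Cfsg.Agent.Lib.Helper28_CosetPerm

theorem f0r0 : allRange blockOk 1 0 71 = true := by decide +kernel
theorem f0u0 : ∀ k, 0 ≤ k → k < 71 → blockOk (k * 1) = true := between_extend blockOk 1 0 0 71 (between_start blockOk 1 0) f0r0

theorem f0r1 : allRange blockOk 1 71 73 = true := by decide +kernel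
theorem f0u1 : ∀ k, 0 ≤ k → k < 144 → blockOk (k * 1) = true := between_extend blockOk 1 0 71 73 (f0u0) f0r1

theorem f0r2 : allRange blockOk 1 144 49 = true := by decide +kernel
theorem f0u2 : ∀ k, 0 ≤ k → k < 193 → blockOk (k * 1) = true := between_extend blockOk 1 0 144 49 (f0u1) f0r2

theorem f0 : ∀ k, 0 ≤ k → k < 193 → blockOk (k * 1) = true := f0u2

end Cfsg.Agent.Lib.Helper56_HeTop.U
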