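import Cfsg.Agent.Lib.Helper56_HeTopUDef

set_option autoImplicit false
set_option linter.constructorNameAsVariable false
set_option linter.unusedVariables false
set_option Elab.async false

namespace Cfsg.Agent.Lib.Helper56_HeTop.U

open Cfsg.Agent.Lib.Helper28_CosetPerm

theorem f11r0 : allRange blockOk 1 1857 61 = true := by decide +kernel
theorem f11u0 : ∀ k, 1857 ≤ k → k < 1918 → blockOk (k * 1) = true := between_extend blockOk 1 1857 1857 61 (between_start blockOk 1 1857) f11r0

theorem f11r1 : allRange blockOk 1 1918 61 = true := by decide +kernel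
theorem f11u1 : ∀ k, 1857 ≤ k → k < 1979 → blockOk (k * 1) = true := between_extend blockOk 1 1857 1918 61 (f11u0) f11r1

theorem f11r2 : allRange blockOk 1 1979 42 = true := by decide +kernel
theorem f11u2 : ∀ k, 1857 ≤ k → k < 2021 → blockOk (k * 1) = true := between_extend blockOk 1 1857 1979 42 (f11u1) f11r2

theorem f11 : ∀ k, 1857 ≤ k → k < 2021 → blockOk (k * 1) = true := f11u2

end Cfsg.Agent.Lib.Helper56_HeTop.U
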