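import Cfsg.Agent.Lib.Helper56_HeTopUDef

set_option autoImplicit false
set_option linter.constructorNameAsVariable false
set_option linter.unusedVariables false
set_option Elab.async false

namespace Cfsg.Agent.Lib.Helper56_HeTop.U

open Cfsg.Agent.Lib.Helper28_CosetPerm

theorem f23r0 : allRange blockOk 1 3577 45 = true := by decide +kernel
theorem f23u0 : ∀ k, 3577 ≤ k → k < 3622 → blockOk (k * 1) = true := between_extend blockOk 1 3577 3577 45 (between_start blockOk 1 3577) f23r0

theorem f23r1 : allRange blockOk 1 3622 44 = true := by decide +kernel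
theorem f23u1 : ∀ k, 3577 ≤ k → k < 3666 → blockOk (k * 1) = true := between_extend blockOk 1 3577 3622 44 (f23u0) f23r1

theorem f23r2 : allRange blockOk 1 3666 22 = true := by decide +kernel
theorem f23u2 : ∀ k, 3577 ≤ k → k < 3688 → blockOk (k * 1) = true := between_extend blockOk 1 3577 3666 22 (f23u1) f23r2

theorem f23 : ∀ k, 3577 ≤ k → k < 3688 → blockOk (k * 1) = true := f23u2

end Cfsg.Agent.Lib.Helper56_HeTop.U
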