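import Cfsg.Agent.Lib.Helper56_HeTopUDef

set_option autoImplicit false
set_option linter.constructorNameAsVariable false
set_option linter.unusedVariables false
set_option Elab.async false

namespace Cfsg.Agent.Lib.Helper56_HeTop.U

open Cfsg.Agent.Lib.Helper28_CosetPerm

theorem r11r0 : allRange rowOk 1 246744 5098 = true := by decide +kernel
theorem r11u0 : ∀ k, 246744 ≤ k → k < 251842 → rowOk (k * 1) = true := between_extend rowOk 1 246744 246744 5098 (between_start rowOk 1 246744) r11r0

theorem r11r1 : allRange rowOk 1 251842 5095 = true := by decide +kernel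
theorem r11u1 : ∀ k, 246744 ≤ k → k < 256937 → rowOk (k * 1) = true := between_extend rowOk 1 246744 251842 5095 (r11u0) r11r1

theorem r11r2 : allRange rowOk 1 256937 5092 = true := by decide +kernel
theorem r11u2 : ∀ k, 246744 ≤ k → k < 262029 → rowOk (k * 1) = true := between_extend rowOk 1 246744 256937 5092 (r11u1) r11r2

theorem r11r3 : allRange rowOk 1 262029 5093 = true := by decide +kernel
theorem r11u3 : ∀ k, 246744 ≤ k → k < 267122 → rowOk (k * 1) = true := between_extend rowOk 1 246744 262029 5093 (r11u2) r11r3

theorem r11r4 : allRange rowOk 1 267122 1851 = true := by decide +kernel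
theorem r11u4 : ∀ k, 246744 ≤ k → k < 268973 → rowOk (k * 1) = true := between_extend rowOk 1 246744 267122 1851 (r11u3) r11r4

theorem r11 : ∀ k, 246744 ≤ k → k < 268973 → rowOk (k * 1) = true := r11u4

end Cfsg.Agent.Lib.Helper56_HeTop.U
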