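import Cfsg.Agent.Lib.Helper28_CosetUpCox
import Cfsg.Agent.Lib.Helper28_CosetPerm
import Cfsg.Agent.Lib.Helper56_Hec1UTab0
import Cfsg.Agent.Lib.Helper56_HeChain

set_option autoImplicit false
set_option linter.constructorNameAsVariable false
set_option linter.unusedVariables false
set_option Elab.async false

namespace Cfsg.Agent.Lib.Helper56_Hec1.U

open Cfsg.Spor Cfsg.Agent.Lib.Helper28_CosetUp Cfsg.Agent.Lib.Helper28_CosetUpCox Cfsg.Agent.Lib.Helper56_Hec1UTab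

def factBlk (i : ℕ) : ℕ := (@Bool.rec (fun _ => ℕ) (@Bool.rec (fun _ => ℕ) (@Bool.rec (fun _ => ℕ) fb0 fb1 (Nat.ble (nat_lit 1) i)) (@Bool.rec (fun _ => ℕ) fb2 (@Bool.rec (fun _ => ℕ) fb3 fb4 (Nat.ble (nat_lit 4) i)) (Nat.ble (nat_lit 3) i)) (Nat.ble (nat_lit 2) i)) (@Bool.rec (fun _ => ℕ) (@Bool.rec (fun _ => ℕ) fb5 (@Bool.rec (fun _ => ℕ) fb6 fb7 (Nat.ble (nat_lit 7) i)) (Nat.ble (nat_lit 6) i)) (@Bool.rec (fun _ => ℕ) fb8 (@Bool.rec (fun _ => ℕ) fb9 fb10 (Nat.ble (nat_lit 10) i)) (Nat.ble (nat_lit 9) i)) (Nat.ble (nat_lit 8) i)) (Nat.ble (nat_lit 5) i))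

def certBlk (i : ℕ) : ℕ := (@Bool.rec (fun _ => ℕ) (@Bool.rec (fun _ => ℕ) (@Bool.rec (fun _ => ℕ) cb0 cb1 (Nat.ble (nat_lit 1) i)) (@Bool.rec (fun _ => ℕ) cb2 (@Bool.rec (fun _ => ℕ) cb3 cb4 (Nat.ble (nat_lit 4) i)) (Nat.ble (nat_lit 3) i)) (Nat.ble (nat_lit 2) i)) (@Bool.rec (fun _ => ℕ) (@Bool.rec (fun _ => ℕ) cb5 (@Bool.rec (fun _ => ℕ) cb6 cb7 (Nat.ble (nat_lit 7) i)) (Nat.ble (nat_lit 6) i)) (@Bool.rec (fun _ => ℕ) cb8 (@Bool.rec (fun _ => ℕ) cb9 cb10 (Nat.ble (nat_lit 10) i)) (Nat.ble (nat_lit 9) i)) (Nat.ble (nat_lit 8) i)) (Nat.ble (nat_lit 5) i))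

def parBlk (i : ℕ) : ℕ := (@Bool.rec (fun _ => ℕ) (@Bool.rec (fun _ => ℕ) pb0 pb1 (Nat.ble (nat_lit 1) i)) (@Bool.rec (fun _ => ℕ) pb2 pb3 (Nat.ble (nat_lit 3) i)) (Nat.ble (nat_lit 2) i))

def finBlk (i : ℕ) : ℕ := nb0

def rowBlk_n0_0 (i : ℕ) : ℕ := (@Bool.rec (fun _ => ℕ) (@Bool.rec (fun _ => ℕ) (@Bool.rec (fun _ => ℕ) (@Bool.rec (fun _ => ℕ) (@Bool.rec (fun _ => ℕ) rb0 rb1 (Nat.ble (nat_lit 1) i)) (@Bool.rec (fun _ => ℕ) rb2 rb3 (Nat.ble (nat_lit 3) i)) (Nat.ble (nat_lit 2) i)) (@Bool.rec (fun _ => ℕ) (@Bool.rec (fun _ => ℕ) rb4 rb5 (Nat.ble (nat_lit 5) i)) (@Bool.rec (fun _ => ℕ) rb6 rb7 (Nat.ble (nat_lit 7) i)) (Nat.ble (nat_lit 6) i)) (Nat.ble (nat_lit 4) i)) (@Bool.rec (fun _ => ℕ) (@Bool.rec (fun _ => ℕ) (@Bool.rec (fun _ => ℕ) rb8 rb9 (Nat.ble (nat_lit 9) i)) (@Bool.rec (fun _ => ℕ) rb10 rb11 (Nat.ble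 (nat_lit 11) i)) (Nat.ble (nat_lit 10) i)) (@Bool.rec (fun _ => ℕ) (@Bool.rec (fun _ => ℕ) rb12 rb13 (Nat.ble (nat_lit 13) i)) (@Bool.rec (fun _ => ℕ) rb14 rb15 (Nat.ble (nat_lit 15) i)) (Nat.ble (nat_lit 14) i)) (Nat.ble (nat_lit 12) i)) (Nat.ble (nat_lit 8) i)) (@Bool.rec (fun _ => ℕ) (@Bool.rec (fun _ => ℕ) (@Bool.rec (fun _ => ℕ) (@Bool.rec (fun _ => ℕ) rb16 rb17 (Nat.ble (nat_lit 17) i)) (@Bool.rec (fun _ => ℕ) rb18 rb19 (Nat.ble (nat_lit 19) i)) (Nat.ble (nat_lit 18) i)) (@Bool.rec (fun _ => ℕ) (@Bool.rec (fun _ => ℕ) rb20 rb21 (Nat.ble (nat_lit 21) i)) (@Bool.rec (fun _ => ℕ) rb22 rb23 (Nat.ble (nat_lit 23) i)) (Nat.ble (nat_lit 22) i)) (Nat.ble (nat_lit 20) i)) (@Bool.rec (fun _ => ℕ) (@Bool.rec (fun _ => ℕ) (@Bool.rec (fun _ => ℕ) rb24 rb25 (Nat.ble (nat_lit 25) i)) (@Bool.rec (fun _ => ℕ) rb26 rb27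 (Nat.ble (nat_lit 27) i)) (Nat.ble (nat_lit 26) i)) (@Bool.rec (fun _ => ℕ) (@Bool.rec (fun _ => ℕ) rb28 rb29 (Nat.ble (nat_lit 29) i)) (@Bool.rec (fun _ => ℕ) rb30 rb31 (Nat.ble (nat_lit 31) i)) (Nat.ble (nat_lit 30) i)) (Nat.ble (nat_lit 28) i)) (Nat.ble (nat_lit 24) i)) (Nat.ble (nat_lit 16) i))

def rowBlk_n0_1 (i : ℕ) : ℕ := (@Bool.rec (fun _ => ℕ) (@Bool.rec (fun _ => ℕ) (@Bool.rec (fun _ => ℕ) (@Bool.rec (fun _ => ℕ) rb32 (@Bool.rec (fun _ => ℕ) rb33 rb34 (Nat.ble (nat_lit 34) i)) (Nat.ble (nat_lit 33) i)) (@Bool.rec (fun _ => ℕ) (@Bool.rec (fun _ => ℕ) rb35 rb36 (Nat.ble (nat_lit 36) i)) (@Bool.rec (fun _ => ℕ) rb37 rb38 (Nat.ble (nat_lit 38) i)) (Nat.ble (nat_lit 37) i)) (Nat.ble (nat_lit 35) i)) (@Bool.rec (fun _ => ℕ) (@Bool.rec (fun _ => ℕ) rb39 (@Bool.rec (fun _ => ℕ) rb40 rb41 (Nat.ble (nat_lit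 41) i)) (Nat.ble (nat_lit 40) i)) (@Bool.rec (fun _ => ℕ) (@Bool.rec (fun _ => ℕ) rb42 rb43 (Nat.ble (nat_lit 43) i)) (@Bool.rec (fun _ => ℕ) rb44 rb45 (Nat.ble (nat_lit 45) i)) (Nat.ble (nat_lit 44) i)) (Nat.ble (nat_lit 42) i)) (Nat.ble (nat_lit 39) i)) (@Bool.rec (fun _ => ℕ) (@Bool.rec (fun _ => ℕ) (@Bool.rec (fun _ => ℕ) rb46 (@Bool.rec (fun _ => ℕ) rb47 rb48 (Nat.ble (nat_lit 48) i)) (Nat.ble (nat_lit 47) i)) (@Bool.rec (fun _ => ℕ) (@Bool.rec (fun _ => ℕ) rb49 rb50 (Nat.ble (nat_lit 50) i)) (@Bool.rec (fun _ => ℕ) rb51 rb52 (Nat.ble (nat_lit 52) i)) (Nat.ble (nat_lit 51) i)) (Nat.ble (nat_lit 49) i)) (@Bool.rec (fun _ => ℕ) (@Bool.rec (fun _ => ℕ) rb53 (@Bool.rec (fun _ => ℕ) rb54 rb55 (Nat.ble (nat_lit 55) i)) (Nat.ble (nat_lit 54) i)) (@Bool.rec (fun _ => ℕ) (@Bool.rec (fun _ => ℕ) rb56 rb57 (Nat.ble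 (nat_lit 57) i)) (@Bool.rec (fun _ => ℕ) rb58 rb59 (Nat.ble (nat_lit 59) i)) (Nat.ble (nat_lit 58) i)) (Nat.ble (nat_lit 56) i)) (Nat.ble (nat_lit 53) i)) (Nat.ble (nat_lit 46) i))

def rowBlk (i : ℕ) : ℕ := (@Bool.rec (fun _ => ℕ) (rowBlk_n0_0 i) (rowBlk_n0_1 i) (Nat.ble (nat_lit 32) i))

def word_n0_0 (i : ℕ) : List ℕ := (@Bool.rec (fun _ => List ℕ) (@Bool.rec (fun _ => List ℕ) (@Bool.rec (fun _ => List ℕ) (@Bool.rec (fun _ => List ℕ) (@Bool.rec (fun _ => List ℕ) [0, 0] [0, 2, 0, 2, 0, 2, 0, 2] (Nat.ble (nat_lit 1) i)) (@Bool.rec (fun _ => List ℕ) [0, 4, 0, 4] [0, 6, 0, 6] (Nat.ble (nat_lit 3) i)) (Nat.ble (nat_lit 2) i)) (@Bool.rec (fun _ => List ℕ) (@Bool.rec (fun _ => List ℕ) [0, 8, 0, 8] [2, 2] (Nat.ble (nat_lit 5) i)) (@Bool.rec (fun _ => List ℕ) [2, 4, 2, 4, 2, 4] [2, 6, 2, 6] (Nat.ble (nat_lit 7) i))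 (Nat.ble (nat_lit 6) i)) (Nat.ble (nat_lit 4) i)) (@Bool.rec (fun _ => List ℕ) (@Bool.rec (fun _ => List ℕ) (@Bool.rec (fun _ => List ℕ) [2, 8, 2, 8] [4, 4] (Nat.ble (nat_lit 9) i)) (@Bool.rec (fun _ => List ℕ) [4, 6, 4, 6, 4, 6, 4, 6, 4, 6, 4, 6, 4, 6, 4, 6, 4, 6, 4, 6] [4, 8, 4, 8] (Nat.ble (nat_lit 11) i)) (Nat.ble (nat_lit 10) i)) (@Bool.rec (fun _ => List ℕ) (@Bool.rec (fun _ => List ℕ) [6, 6] [6, 8, 6, 8, 6, 8] (Nat.ble (nat_lit 13) i)) (@Bool.rec (fun _ => List ℕ) [8, 8] [8, 5, 3, 1, 5, 3, 1, 5, 3, 1] (Nat.ble (nat_lit 15) i)) (Nat.ble (nat_lit 14) i)) (Nat.ble (nat_lit 12) i)) (Nat.ble (nat_lit 8) i)) (@Bool.rec (fun _ => List ℕ) (@Bool.rec (fun _ => List ℕ) (@Bool.rec (fun _ => List ℕ) (@Bool.rec (fun _ => List ℕ) [0, 7, 5, 7, 5, 7, 5, 7, 5, 7, 5] [10] (Nat.ble (nat_lit 17) i)) (@Bool.rec (fun _ => List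 ℕ) [12] ([] : List ℕ) (Nat.ble (nat_lit 19) i)) (Nat.ble (nat_lit 18) i)) (@Bool.rec (fun _ => List ℕ) (@Bool.rec (fun _ => List ℕ) [0, 1] [1, 0] (Nat.ble (nat_lit 21) i)) (@Bool.rec (fun _ => List ℕ) [2, 3] [3, 2] (Nat.ble (nat_lit 23) i)) (Nat.ble (nat_lit 22) i)) (Nat.ble (nat_lit 20) i)) (@Bool.rec (fun _ => List ℕ) (@Bool.rec (fun _ => List ℕ) (@Bool.rec (fun _ => List ℕ) [4, 5] [5, 4] (Nat.ble (nat_lit 25) i)) (@Bool.rec (fun _ => List ℕ) [6, 7] [7, 6] (Nat.ble (nat_lit 27) i)) (Nat.ble (nat_lit 26) i)) (@Bool.rec (fun _ => List ℕ) (@Bool.rec (fun _ => List ℕ) [8, 9] [9, 8] (Nat.ble (nat_lit 29) i)) (@Bool.rec (fun _ => List ℕ) [10, 11] [11, 10] (Nat.ble (nat_lit 31) i)) (Nat.ble (nat_lit 30) i)) (Nat.ble (nat_lit 28) i)) (Nat.ble (nat_lit 24) i)) (Nat.ble (nat_lit 16) i))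

def word_n0_1 (i : ℕ) : List ℕ := (@Bool.rec (fun _ => List ℕ) (@Bool.rec (fun _ => List ℕ) [12, 13] [13, 12] (Nat.ble (nat_lit 33) i)) (@Bool.rec (fun _ => List ℕ) [0] (@Bool.rec (fun _ => List ℕ) [2] [4] (Nat.ble (nat_lit 36) i)) (Nat.ble (nat_lit 35) i)) (Nat.ble (nat_lit 34) i))

def word (i : ℕ) : List ℕ := (@Bool.rec (fun _ => List ℕ) (word_n0_0 i) (word_n0_1 i) (Nat.ble (nat_lit 32) i))

def fact (k : ℕ) : ℕ := Nat.land (Nat.shiftRight (factBlk (Nat.shiftRight k (nat_lit 8))) (Nat.mul (Nat.land k (nat_lit 255)) (nat_lit 48))) (nat_lit 281474976710655)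

def slot (v : ℕ) : ℕ := Nat.land (Nat.shiftRight (parBlk (Nat.shiftRight v (nat_lit 8))) (Nat.mul (Nat.land v (nat_lit 255)) (nat_lit 32))) (nat_lit 4294967295)

def par (v : ℕ) : ℕ := Nat.land (slot v) (nat_lit 1048575)

def plet (v : ℕ) : ℕ := Nat.shiftRight (slot v) (nat_lit 20)

def isFin (v : ℕ) : Bool := Nat.beq (Nat.land (Nat.shiftRight (finBlk (Nat.shiftRight v (nat_lit 12))) (Nat.land v (nat_lit 4095))) (nat_lit 1)) (nat_lit 1)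

def row (v : ℕ) : ℕ := Nat.land (Nat.shiftRight (rowBlk (Nat.shiftRight v (nat_lit 4))) (Nat.mul (Nat.land v (nat_lit 15)) (nat_lit 336))) (nat_lit 139984046386112763159840142535527767382602843577165595931249318810236991948760059086304843329475444735)

def inv (g : ℕ) : Bool := and (Nat.blt g 7) (Nat.beq (Nat.land (Nat.shiftRight (nat_lit 31) g) (nat_lit 1)) (nat_lit 1))

def blockOk (j : ℕ) : Bool := blockF par plet fact inv word (nat_lit 34) (nat_lit 37) (nat_lit 946) (Nat.mul j (nat_lit 256)) (nat_lit 256) (nat_lit 0) (certBlk j)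

def rowOk (v : ℕ) : Bool := rowF fact inv (nat_lit 946) isFin row (nat_lit 2816) (nat_lit 14) v

def parOk (v : ℕ) : Bool := or (Nat.beq v 0) (Nat.blt (par v) v)

def gname : ℕ → Cfsg.Spor.He.Gen
  | 0 => .a
  | 1 => .b
  | 2 => .c
  | 3 => .d
  | 4 => .e
  | 5 => .f
  | 6 => .g
  | _ => .a

end Cfsg.Agent.Lib.Helper56_Hec1.U
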