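import Cfsg.Agent.Lib.Helper28_CosetUpCox
import Cfsg.Agent.Lib.Helper28_CosetPerm
import Cfsg.Agent.Lib.Helper56_Hec3UTab0
import Cfsg.Agent.Lib.Helper56_HeChain

set_option autoImplicit false
set_option linter.constructorNameAsVariable false
set_option linter.unusedVariables false
set_option Elab.async false

namespace Cfsg.Agent.Lib.Helper56_Hec3.U

open Cfsg.Spor Cfsg.Agent.Lib.Helper28_CosetUp Cfsg.Agent.Lib.Helper28_CosetUpCox Cfsg.Agent.Lib.Helper56_Hec3UTab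

def factBlk (i : ℕ) : ℕ := fb0

def certBlk (i : ℕ) : ℕ := cb0

def parBlk (i : ℕ) : ℕ := pb0

def finBlk (i : ℕ) : ℕ := nb0

def rowBlk (i : ℕ) : ℕ := (@Bool.rec (fun _ => ℕ) rb0 (@Bool.rec (fun _ => ℕ) rb1 rb2 (Nat.ble (nat_lit 2) i)) (Nat.ble (nat_lit 1) i))

def word (i : ℕ) : List ℕ := (@Bool.rec (fun _ => List ℕ) (@Bool.rec (fun _ => List ℕ) (@Bool.rec (fun _ => List ℕ) (@Bool.rec (fun _ => List ℕ) [0, 0] [0, 2, 0, 2, 0, 2, 0, 2] (Nat.ble (nat_lit 1) i)) (@Bool.rec (fun _ => List ℕ) [2, 2] (@Bool.rec (fun _ => List ℕ) [4] [6] (Nat.ble (nat_lit 4) i)) (Nat.ble (nat_lit 3) i)) (Nat.ble (nat_lit 2) i)) (@Bool.rec (fun _ => List ℕ) (@Bool.rec (fun _ => List ℕ) [8] (@Bool.rec (fun _ => List ℕ) [10] [12] (Nat.ble (nat_lit 7) i)) (Nat.ble (nat_lit 6) i)) (@Bool.rec (fun _ => List ℕ) ([] : List ℕ) (@Bool.rec (fun _ => List ℕ) [0, 1] [1, 0] (Nat.ble (nat_lit 10) i)) (Nat.ble (nat_lit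 9) i)) (Nat.ble (nat_lit 8) i)) (Nat.ble (nat_lit 5) i)) (@Bool.rec (fun _ => List ℕ) (@Bool.rec (fun _ => List ℕ) (@Bool.rec (fun _ => List ℕ) [2, 3] (@Bool.rec (fun _ => List ℕ) [3, 2] [4, 5] (Nat.ble (nat_lit 13) i)) (Nat.ble (nat_lit 12) i)) (@Bool.rec (fun _ => List ℕ) [5, 4] (@Bool.rec (fun _ => List ℕ) [6, 7] [7, 6] (Nat.ble (nat_lit 16) i)) (Nat.ble (nat_lit 15) i)) (Nat.ble (nat_lit 14) i)) (@Bool.rec (fun _ => List ℕ) (@Bool.rec (fun _ => List ℕ) [8, 9] (@Bool.rec (fun _ => List ℕ) [9, 8] [10, 11] (Nat.ble (nat_lit 19) i)) (Nat.ble (nat_lit 18) i)) (@Bool.rec (fun _ => List ℕ) [11, 10] (@Bool.rec (fun _ => List ℕ) [12, 13] [13, 12] (Nat.ble (nat_lit 22) i)) (Nat.ble (nat_lit 21) i)) (Nat.ble (nat_lit 20) i)) (Nat.ble (nat_lit 17) i)) (Nat.ble (nat_lit 11) i))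

def fact (k : ℕ) : ℕ := Nat.land (Nat.shiftRight (factBlk (Nat.shiftRight k (nat_lit 8))) (Nat.mul (Nat.land k (nat_lit 255)) (nat_lit 48))) (nat_lit 281474976710655)

def slot (v : ℕ) : ℕ := Nat.land (Nat.shiftRight (parBlk (Nat.shiftRight v (nat_lit 8))) (Nat.mul (Nat.land v (nat_lit 255)) (nat_lit 32))) (nat_lit 4294967295)

def par (v : ℕ) : ℕ := Nat.land (slot v) (nat_lit 1048575)

def plet (v : ℕ) : ℕ := Nat.shiftRight (slot v) (nat_lit 20)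

def isFin (v : ℕ) : Bool := Nat.beq (Nat.land (Nat.shiftRight (finBlk (Nat.shiftRight v (nat_lit 12))) (Nat.land v (nat_lit 4095))) (nat_lit 1)) (nat_lit 1)

def row (v : ℕ) : ℕ := Nat.land (Nat.shiftRight (rowBlk (Nat.shiftRight v (nat_lit 4))) (Nat.mul (Nat.land v (nat_lit 15)) (nat_lit 336))) (nat_lit 139984046386112763159840142535527767382602843577165595931249318810236991948760059086304843329475444735)

def inv (g : ℕ) : Bool := and (Nat.blt g 7) (Nat.beq (Nat.land (Nat.shiftRight (nat_lit 3) g) (nat_lit 1)) (nat_lit 1))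

def blockOk (j : ℕ) : Bool := blockF par plet fact inv word (nat_lit 23) (nat_lit 23) (nat_lit 48) (Nat.mul j (nat_lit 256)) (nat_lit 256) (nat_lit 0) (certBlk j)

def rowOk (v : ℕ) : Bool := rowF fact inv (nat_lit 48) isFin row (nat_lit 256) (nat_lit 14) v

def parOk (v : ℕ) : Bool := or (Nat.beq v 0) (Nat.blt (par v) v)

def gname : ℕ → Cfsg.Spor.He.Gen
  | 0 => .a
  | 1 => .b
  | 2 => .c
  | 3 => .d
  | 4 => .e
  | 5 => .f
  | 6 => .g
  | _ => .a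

end Cfsg.Agent.Lib.Helper56_Hec3.U
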