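import Mathlib

/-!
# Odd-order automorphisms of 2-groups and the monomial maps of `F_q²` (helper56)

* `fix_of_quot_fixed`: if `x⁻¹ α(x)` is fixed by an odd-order automorphism `α` and has 2-power order then `α x = x`.
* `fix_of_mem_zpowers`: an odd-order automorphism stabilizing a cyclic 2-subgroup `⟨c⟩` fixes `c`.
* `dg a b`, `ad a b`: diagonal / antidiagonal linear automorphisms of `Fin 2 → ZMod q` and their multiplication rules.
-/

set_option autoImplicit false

namespace Cfsg.Agent.Lib.Helper56_Monomial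


section general
variable {P : Type*} [Group P]

/-- `L1`: if `x⁻¹ α(x)` is fixed by the odd-order automorphism `α` and has `2`-power order,
then `α` fixes `x`. -/
theorem fix_of_quot_fixed (α : MulAut P) (r : ℕ) (hr : Odd r) (hα : α ^ r = 1) (x : P)
    (hz : α (x⁻¹ * α x) = x⁻¹ * α x) (hz2 : ∃ k : ℕ, (x⁻¹ * α x) ^ 2 ^ k = 1) : α x = x := by
  obtain ⟨z, hzdef⟩ : ∃ z, z = x⁻¹ * α x := ⟨_, rfl⟩
  rw [← hzdef] at hz hz2
  have hαx : α x = x * z := by rw [hzdef, mul_inv_cancel_left]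
  have hpow : ∀ n : ℕ, (α ^ n) x = x * z ^ n := by
    intro n
    induction n with
    | zero => simp
    | succ n ih =>
      rw [pow_succ', MulAut.mul_apply, ih, map_mul, map_pow, hz, hαx, pow_succ', mul_assoc]
  have h1 := hpow r
  rw [hα, MulAut.one_apply] at h1
  have hzr : z ^ r = 1 := by
    have : x * z ^ r = x * 1 := by rw [mul_one]; exact h1.symm
    exact mul_left_cancel this
  obtain ⟨k, hk⟩ := hz2
  have hd1 : orderOf z ∣ r := orderOf_dvd_of_pow_eq_one hzr
  have hd2 : orderOf z ∣ 2 ^ k := orderOf_dvd_of_pow_eq_one hk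
  have hcop : Nat.Coprime r (2 ^ k) := by
    apply Nat.Coprime.pow_right
    rw [Nat.coprime_two_right]
    exact hr
  have : orderOf z = 1 := Nat.eq_one_of_dvd_coprimes hcop hd1 hd2
  rw [orderOf_eq_one_iff] at this
  rw [hαx, this, mul_one]

end general



section general
variable {P : Type*} [Group P]

/-- `L3`: an odd-order automorphism stabilizing a cyclic `2`-subgroup `⟨c⟩` fixes `c`. -/
theorem fix_of_mem_zpowers (α : MulAut P) (r : ℕ) (hr : Odd r) (hα : α ^ r = 1) (c : P)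
    (e : ℕ) (hc : c ^ 2 ^ e = 1) (hαc : α c ∈ Subgroup.zpowers c) : α c = c := by
  have hfin : IsOfFinOrder c := isOfFinOrder_iff_pow_eq_one.mpr ⟨2 ^ e, by positivity, hc⟩
  rw [← hfin.mem_powers_iff_mem_zpowers, Submonoid.mem_powers_iff] at hαc
  obtain ⟨k, hk⟩ := hαc
  have hpow : ∀ n : ℕ, (α ^ n) c = c ^ (k ^ n) := by
    intro n
    induction n with
    | zero => simp
    | succ n ih =>
      rw [pow_succ', MulAut.mul_apply, ih, map_pow, ← hk, ← pow_mul, ← pow_succ']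
  have h1 := hpow r
  rw [hα, MulAut.one_apply] at h1
  obtain ⟨j, _, hj⟩ := (Nat.dvd_prime_pow Nat.prime_two).mp (orderOf_dvd_of_pow_eq_one hc)
  have hmod : k ^ r ≡ 1 [MOD 2 ^ j] := by
    rw [← hj, ← pow_eq_pow_iff_modEq, pow_one]
    exact h1.symm
  rw [← hk]
  rcases Nat.eq_zero_or_pos j with rfl | hjpos
  · rw [pow_zero, orderOf_eq_one_iff] at hj
    rw [hj, one_pow]
  have hk1 : k ≡ 1 [MOD 2 ^ j] := by
    have hz : ((k : ZMod (2 ^ j))) ^ r = 1 := by
      have := (ZMod.natCast_eq_natCast_iff _ _ _).mpr hmod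
      push_cast at this
      exact this
    obtain ⟨u, hu⟩ : ∃ u : (ZMod (2 ^ j))ˣ, (u : ZMod (2 ^ j)) = k :=
      ⟨Units.ofPowEqOne _ r hz hr.pos.ne', rfl⟩
    have hur : u ^ r = 1 := by
      apply Units.ext
      rw [Units.val_pow_eq_pow_val, hu, hz, Units.val_one]
    have hut : u ^ Nat.totient (2 ^ j) = 1 := ZMod.pow_totient u
    rw [Nat.totient_prime_pow Nat.prime_two hjpos] at hut
    have hd1 : orderOf u ∣ r := orderOf_dvd_of_pow_eq_one hur
    have hd2 : orderOf u ∣ 2 ^ (j - 1) * (2 - 1) := orderOf_dvd_of_pow_eq_one hut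
    have hcop : Nat.Coprime r (2 ^ (j - 1) * (2 - 1)) := by
      simp only [Nat.add_one_sub_one, mul_one]
      apply Nat.Coprime.pow_right
      rw [Nat.coprime_two_right]
      exact hr
    have h1' : orderOf u = 1 := Nat.eq_one_of_dvd_coprimes hcop hd1 hd2
    rw [orderOf_eq_one_iff] at h1'
    have : ((k : ℕ) : ZMod (2 ^ j)) = ((1 : ℕ) : ZMod (2 ^ j)) := by
      rw [← hu, h1', Units.val_one, Nat.cast_one]
    exact (ZMod.natCast_eq_natCast_iff _ _ _).mp this
  have := (pow_eq_pow_iff_modEq (x := c)).mpr (hj ▸ hk1)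
  rw [this, pow_one]

end general



section maps
variable {q : ℕ}

/-- the diagonal map `(x, y) ↦ (a x, b y)` -/
def dg (a b : (ZMod q)ˣ) : (Fin 2 → ZMod q) ≃ₗ[ZMod q] (Fin 2 → ZMod q) where
  toFun v := ![(a : ZMod q) * v 0, (b : ZMod q) * v 1]
  map_add' v w := by
    ext i; fin_cases i <;> simp [mul_add]
  map_smul' c v := by
    ext i; fin_cases i <;> simp [mul_left_comm]
  invFun v := ![((a⁻¹ : (ZMod q)ˣ) : ZMod q) * v 0, ((b⁻¹ : (ZMod q)ˣ) : ZMod q) * v 1]
  left_inv v := by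
    ext i; fin_cases i <;> simp
  right_inv v := by
    ext i; fin_cases i <;> simp

/-- the antidiagonal map `(x, y) ↦ (a y, b x)` -/
def ad (a b : (ZMod q)ˣ) : (Fin 2 → ZMod q) ≃ₗ[ZMod q] (Fin 2 → ZMod q) where
  toFun v := ![(a : ZMod q) * v 1, (b : ZMod q) * v 0]
  map_add' v w := by
    ext i; fin_cases i <;> simp [mul_add]
  map_smul' c v := by
    ext i; fin_cases i <;> simp [mul_left_comm]
  invFun v := ![((b⁻¹ : (ZMod q)ˣ) : ZMod q) * v 1, ((a⁻¹ : (ZMod q)ˣ) : ZMod q) * v 0]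
  left_inv v := by
    ext i; fin_cases i <;> simp
  right_inv v := by
    ext i; fin_cases i <;> simp

theorem dg_apply (a b : (ZMod q)ˣ) (v : Fin 2 → ZMod q) :
    dg a b v = ![(a : ZMod q) * v 0, (b : ZMod q) * v 1] := rfl

theorem ad_apply (a b : (ZMod q)ˣ) (v : Fin 2 → ZMod q) :
    ad a b v = ![(a : ZMod q) * v 1, (b : ZMod q) * v 0] := rfl

theorem dg_mul_dg (a b c d : (ZMod q)ˣ) : dg a b * dg c d = dg (a * c) (b * d) := by
  apply LinearEquiv.ext
  intro v
  rw [LinearEquiv.mul_apply, dg_apply, dg_apply, dg_apply]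
  ext i; fin_cases i <;> simp [mul_assoc]

theorem dg_mul_ad (a b c d : (ZMod q)ˣ) : dg a b * ad c d = ad (a * c) (b * d) := by
  apply LinearEquiv.ext
  intro v
  rw [LinearEquiv.mul_apply, dg_apply, ad_apply, ad_apply]
  ext i; fin_cases i <;> simp [mul_assoc]

theorem ad_mul_dg (a b c d : (ZMod q)ˣ) : ad a b * dg c d = ad (a * d) (b * c) := by
  apply LinearEquiv.ext
  intro v
  rw [LinearEquiv.mul_apply, ad_apply, dg_apply, ad_apply]
  ext i; fin_cases i <;> simp [mul_assoc]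

theorem ad_mul_ad (a b c d : (ZMod q)ˣ) : ad a b * ad c d = dg (a * d) (b * c) := by
  apply LinearEquiv.ext
  intro v
  rw [LinearEquiv.mul_apply, ad_apply, ad_apply, dg_apply]
  ext i; fin_cases i <;> simp [mul_assoc]

theorem dg_one : dg (1 : (ZMod q)ˣ) 1 = 1 := by
  apply LinearEquiv.ext
  intro v
  rw [dg_apply]
  ext i; fin_cases i <;> simp

theorem dg_inv (a b : (ZMod q)ˣ) : (dg a b)⁻¹ = dg a⁻¹ b⁻¹ := by
  rw [inv_eq_iff_mul_eq_one, dg_mul_dg, mul_inv_cancel, mul_inv_cancel, dg_one]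

theorem ad_inv (a b : (ZMod q)ˣ) : (ad a b)⁻¹ = ad b⁻¹ a⁻¹ := by
  rw [inv_eq_iff_mul_eq_one, ad_mul_ad, mul_inv_cancel, mul_inv_cancel, dg_one]

theorem dg_pow (a b : (ZMod q)ˣ) (n : ℕ) : dg a b ^ n = dg (a ^ n) (b ^ n) := by
  induction n with
  | zero => simp [dg_one]
  | succ n ih => rw [pow_succ, ih, dg_mul_dg, ← pow_succ, ← pow_succ]

theorem dg_injective {a b c d : (ZMod q)ˣ} (h : dg a b = dg c d) : a = c ∧ b = d := by
  have h0 := DFunLike.congr_fun h ![1, 0]
  have h1 := DFunLike.congr_fun h ![0, 1]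
  simp only [dg_apply] at h0 h1
  have e0 := congrFun h0 0
  have e1 := congrFun h1 1
  simp at e0 e1
  exact ⟨Units.ext e0, Units.ext e1⟩

theorem ad_injective {a b c d : (ZMod q)ˣ} (h : ad a b = ad c d) : a = c ∧ b = d := by
  have h0 := DFunLike.congr_fun h ![1, 0]
  have h1 := DFunLike.congr_fun h ![0, 1]
  simp only [ad_apply] at h0 h1
  have e0 := congrFun h0 1
  have e1 := congrFun h1 0
  simp at e0 e1
  exact ⟨Units.ext e1, Units.ext e0⟩

theorem dg_ne_ad [Fact (1 < q)] (a b c d : (ZMod q)ˣ) : dg a b ≠ ad c d := by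
  intro h
  have h0 := DFunLike.congr_fun h ![1, 0]
  simp only [dg_apply, ad_apply] at h0
  have e0 := congrFun h0 0
  simp at e0

end maps


section memT
variable {q : ℕ} [Fact q.Prime]
  (T : Subgroup ((Fin 2 → ZMod q) ≃ₗ[ZMod q] (Fin 2 → ZMod q)))
  (hT : ∀ f, f ∈ T ↔ ∃ a s : ZMod q, a ≠ 0 ∧ (s = 1 ∨ s = -1) ∧
      ((∀ v, f v = ![a * v 0, s * a⁻¹ * v 1]) ∨ (∀ v, f v = ![s * a⁻¹ * v 1, a * v 0])))

include hT in
theorem memT (f : (Fin 2 → ZMod q) ≃ₗ[ZMod q] (Fin 2 → ZMod q)) :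
    f ∈ T ↔ ∃ a b : (ZMod q)ˣ, (a * b = 1 ∨ a * b = -1) ∧ (f = dg a b ∨ f = ad a b) := by
  rw [hT]
  constructor
  · rintro ⟨a, s, ha, hs, h | h⟩
    · rcases hs with rfl | rfl
      · refine ⟨Units.mk0 a ha, (Units.mk0 a ha)⁻¹, Or.inl (mul_inv_cancel _), Or.inl ?_⟩
        apply LinearEquiv.ext
        intro v
        rw [h v, dg_apply]
        simp
      · refine ⟨Units.mk0 a ha, -(Units.mk0 a ha)⁻¹, Or.inr ?_, Or.inl ?_⟩
        · rw [mul_neg, mul_inv_cancel]
        · apply LinearEquiv.ext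
          intro v
          rw [h v, dg_apply]
          simp
    · rcases hs with rfl | rfl
      · refine ⟨(Units.mk0 a ha)⁻¹, Units.mk0 a ha, Or.inl (inv_mul_cancel _), Or.inr ?_⟩
        apply LinearEquiv.ext
        intro v
        rw [h v, ad_apply]
        simp
      · refine ⟨-(Units.mk0 a ha)⁻¹, Units.mk0 a ha, Or.inr ?_, Or.inr ?_⟩
        · rw [neg_mul, inv_mul_cancel]
        · apply LinearEquiv.ext
          intro v
          rw [h v, ad_apply]
          simp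
  · rintro ⟨a, b, hab, rfl | rfl⟩
    · refine ⟨(a : ZMod q), ((a * b : (ZMod q)ˣ) : ZMod q), a.ne_zero, ?_, Or.inl ?_⟩
      · rcases hab with h | h
        · left; rw [h]; rfl
        · right; rw [h]; simp
      · intro v
        have e : ((a * b : (ZMod q)ˣ) : ZMod q) * (a : ZMod q)⁻¹ = b := by
          rw [Units.val_mul, mul_comm (a : ZMod q), mul_assoc, mul_inv_cancel₀ a.ne_zero, mul_one]
        rw [dg_apply, e]
    · refine ⟨(b : ZMod q), ((a * b : (ZMod q)ˣ) : ZMod q), b.ne_zero, ?_, Or.inr ?_⟩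
      · rcases hab with h | h
        · left; rw [h]; rfl
        · right; rw [h]; simp
      · intro v
        have e : ((a * b : (ZMod q)ˣ) : ZMod q) * (b : ZMod q)⁻¹ = a := by
          rw [Units.val_mul, mul_assoc, mul_inv_cancel₀ b.ne_zero, mul_one]
        rw [ad_apply, e]

end memT

end Cfsg.Agent.Lib.Helper56_Monomial
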