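import Mathlib
import Cfsg.Agent.Lib.Helper56_O73Act
import Cfsg.Agent.Lib.Helper56_O73Data

/-!
# The tables of `Helper56_O73Data` are the actions of the corresponding words

helper56.  A table is validated by checking that it is additive (one addition of a basis code at
a time) and that it agrees with the word on the seven basis codes.
-/

set_option autoImplicit false

namespace Cfsg.Agent.Lib.Helper56_O73Tab

open Cfsg.Agent.Lib.Helper91_O73Pts Cfsg.Agent.Lib.Helper91_O73Theta
  Cfsg.Agent.Lib.Helper91_O73Omega Cfsg.Agent.Lib.Helper56_O73Dig Cfsg.Agent.Lib.Helper56_O73Act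
  Cfsg.Agent.Lib.Helper56_O73Data

/-- adding a basis code to a code with smaller leading part involves no carry -/
def addOK : Bool :=
  allBelow (fun j => allBelow (fun c => Nat.beq (addc c (3 ^ j)) (c + 3 ^ j)) (2 * 3 ^ j)) 7

theorem addOK_ok : addOK = true := by decide +kernel

theorem pow3_bound {j : ℕ} (hj : j < 7) : 0 < 3 ^ j ∧ 3 ^ j * 3 ≤ 2187 := by
  refine ⟨pow_pos (by norm_num) j, ?_⟩
  have h : 3 ^ (j + 1) ≤ 3 ^ 7 := Nat.pow_le_pow_right (by norm_num) hj
  rw [pow_succ] at h
  norm_num at h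
  exact h

theorem dec_add_pow (j c : ℕ) (hj : j < 7) (hc : c < 2 * 3 ^ j) :
    dec (c + 3 ^ j) = dec c + dec (3 ^ j) := by
  have h := Nat.eq_of_beq_eq_true (allBelow_spec (allBelow_spec addOK_ok j hj) c hc)
  obtain ⟨hp0, hp⟩ := pow3_bound hj
  have h1 : c < 2187 := by omega
  have h2 : 3 ^ j < 2187 := by omega
  have h3 : c + 3 ^ j < 2187 := by omega
  apply code_injective
  rw [code_add, code_dec _ h1, code_dec _ h2, code_dec _ h3, h]

theorem actV_zero (g : O7) : actV g 0 = 0 := by
  unfold actV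
  rw [dec_zero, Matrix.mulVec_zero, code_zero]

theorem actV_add (g : O7) (c d : ℕ) (h : dec (c + d) = dec c + dec d) :
    actV g (c + d) = addc (actV g c) (actV g d) := by
  unfold actV
  rw [h, Matrix.mulVec_add, code_add]

/-- a table is additive -/
def linOK (T : ℕ) : Bool :=
  Nat.beq (look T 0) 0 &&
  allBelow (fun j => forceNat (look T (3 ^ j)) fun b =>
    allBelow (fun c => Nat.beq (look T (c + 3 ^ j)) (addc (look T c) b)) (2 * 3 ^ j)) 7

theorem linOK_spec {T : ℕ} (h : linOK T = true) (g : O7)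
    (hcol : ∀ j < 7, actV g (3 ^ j) = look T (3 ^ j)) : ∀ c < 2187, actV g c = look T c := by
  unfold linOK at h
  rw [Bool.and_eq_true] at h
  obtain ⟨h0, h1⟩ := h
  intro c
  induction c using Nat.strong_induction_on with
  | _ c ih =>
    intro hc
    rcases Nat.eq_zero_or_pos c with rfl | hpos
    · rw [actV_zero, Nat.eq_of_beq_eq_true h0]
    · have hj1 : 3 ^ Nat.log 3 c ≤ c := Nat.pow_log_le_self 3 hpos.ne'
      have hj2 : c < 3 ^ (Nat.log 3 c + 1) := Nat.lt_pow_succ_log_self (by norm_num) c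
      generalize Nat.log 3 c = j at hj1 hj2
      have hj : j < 7 := by
        by_contra hcon
        have h7 : 3 ^ 7 ≤ 3 ^ j := Nat.pow_le_pow_right (by norm_num) (not_lt.mp hcon)
        norm_num at h7
        omega
      obtain ⟨hp0, hp⟩ := pow3_bound hj
      rw [pow_succ] at hj2
      have hc' : c - 3 ^ j < 2 * 3 ^ j := by omega
      have e0 := allBelow_spec h1 j hj
      rw [forceNat_eq] at e0
      have e := allBelow_spec e0
      have e2 := Nat.eq_of_beq_eq_true (e (c - 3 ^ j) hc')
      have hcc : c - 3 ^ j + 3 ^ j = c := by omega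
      rw [hcc] at e2
      have hd := dec_add_pow j (c - 3 ^ j) hj hc'
      have ha := actV_add g (c - 3 ^ j) (3 ^ j) hd
      rw [hcc] at ha
      rw [ha, ih (c - 3 ^ j) (by omega) (by omega), hcol j hj, e2]

/-- a table agrees with a word on the basis codes -/
def colOK (T : ℕ) (w : List ℕ) : Bool :=
  w.all (fun k => decide (k < 6)) &&
    allBelow (fun j => Nat.beq (actW w (3 ^ j)) (look T (3 ^ j))) 7

/-- a table is the action of a word -/
def tabOK2 (T : ℕ) (w : List ℕ) : Bool := colOK T w && linOK T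

theorem tabOK2_spec {T : ℕ} {w : List ℕ} (h : tabOK2 T w = true) :
    (∀ k ∈ w, k < 6) ∧ ∀ c < 2187, actV (el w) c = look T c := by
  unfold tabOK2 colOK at h
  rw [Bool.and_eq_true, Bool.and_eq_true, List.all_eq_true] at h
  obtain ⟨⟨h1, h2⟩, h3⟩ := h
  have hw : ∀ k ∈ w, k < 6 := fun k hk => of_decide_eq_true (h1 k hk)
  refine ⟨hw, linOK_spec h3 (el w) fun j hj => ?_⟩
  obtain ⟨hp0, hp⟩ := pow3_bound hj
  rw [actV_el w hw _ (by omega)]
  exact Nat.eq_of_beq_eq_true (allBelow_spec h2 j hj)

theorem tabA_ok :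
    allBelow (fun i => tabOK2 (TA i) (wA i) && tabOK2 (TB i) (wA i ++ wA i)) 9 = true := by
  decide +kernel

theorem tabS_ok : allBelow (fun i => tabOK2 (TS i) (wS i)) 14 = true := by decide +kernel

theorem tabC_ok : allBelow (fun i => tabOK2 (TC i) (wC i)) 10 = true := by decide +kernel

theorem tabX_ok : tabOK2 TX (wA 0 ++ wA 2) = true := by decide +kernel

/-- the positive root elements -/
noncomputable def a (i : ℕ) : O7 := el (wA i)

theorem a_mem (i : ℕ) (hi : i < 9) : a i ∈ Om := by
  have h := allBelow_spec tabA_ok i hi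
  rw [Bool.and_eq_true] at h
  exact el_mem _ (tabOK2_spec h.1).1

theorem actV_a (i c : ℕ) (hi : i < 9) (hc : c < 2187) : actV (a i) c = look (TA i) c := by
  have h := allBelow_spec tabA_ok i hi
  rw [Bool.and_eq_true] at h
  exact (tabOK2_spec h.1).2 c hc

theorem actV_a_sq (i c : ℕ) (hi : i < 9) (hc : c < 2187) :
    actV (a i * a i) c = look (TB i) c := by
  have h := allBelow_spec tabA_ok i hi
  rw [Bool.and_eq_true] at h
  have := (tabOK2_spec h.2).2 c hc
  rwa [el_append] at this

/-- the conjugators -/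
noncomputable def s (k : ℕ) : O7 := el (wS k)

theorem s_mem (k : ℕ) (hk : k < 14) : s k ∈ Om :=
  el_mem _ (tabOK2_spec (allBelow_spec tabS_ok k hk)).1

theorem actV_s (k c : ℕ) (hk : k < 14) (hc : c < 2187) : actV (s k) c = look (TS k) c :=
  (tabOK2_spec (allBelow_spec tabS_ok k hk)).2 c hc

/-- the generators of the centraliser -/
noncomputable def cel (k : ℕ) : O7 := el (wC k)

theorem cel_mem (k : ℕ) (hk : k < 10) : cel k ∈ Om :=
  el_mem _ (tabOK2_spec (allBelow_spec tabC_ok k hk)).1

theorem actV_cel (k c : ℕ) (hk : k < 10) (hc : c < 2187) : actV (cel k) c = look (TC k) c :=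
  (tabOK2_spec (allBelow_spec tabC_ok k hk)).2 c hc

/-- the element `x` of Jordan type `[3,2,2]` -/
noncomputable def x : O7 := el (wA 0 ++ wA 2)

theorem x_eq : x = a 0 * a 2 := el_append _ _

theorem x_mem : x ∈ Om := el_mem _ (tabOK2_spec tabX_ok).1

theorem actV_x (c : ℕ) (hc : c < 2187) : actV x c = look TX c := (tabOK2_spec tabX_ok).2 c hc

/-- the inverting element -/
noncomputable def iota : O7 := el wI

theorem look_lt (T c : ℕ) : look T c < 4096 := Nat.mod_lt _ (by norm_num)

end Cfsg.Agent.Lib.Helper56_O73Tab
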