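import Mathlib
import Cfsg.Agent.Lib.Helper56_O73Tab

/-!
# The centraliser in `O(7,3)` of an element of Jordan type `[3,2,2]` lies in `±Ω(7,3)`

helper56.  Let `x = a 0 * a 2`.  An isometry `z` commuting with `x` maps the vector `r` (code `27`)
spanning the image of `x^2 + x + 1` to `±r`; if it fixes `r`, a chain of three levels (images of
the vectors with codes `729`, `9`, `81`) whose candidate images are all realised by explicit
elements of `Ω(7,3)` commuting with `x` reduces `z` to an isometry fixing a basis, so `z ∈ Ω(7,3)`.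
-/

set_option autoImplicit false

namespace Cfsg.Agent.Lib.Helper56_O73Cen

open Matrix Cfsg.Agent.Lib.Helper91_O73Pts Cfsg.Agent.Lib.Helper91_O73Theta
  Cfsg.Agent.Lib.Helper91_O73Omega Cfsg.Agent.Lib.Helper56_O73Dig Cfsg.Agent.Lib.Helper56_O73Act
  Cfsg.Agent.Lib.Helper56_O73Data Cfsg.Agent.Lib.Helper56_O73Tab

/-! ### isometries on codes -/

theorem addc_lt (a b : ℕ) : addc a b < 2187 := by
  unfold addc
  omega

theorem addc_eq (a b : ℕ) (ha : a < 2187) (hb : b < 2187) : addc a b = code (dec a + dec b) := by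
  rw [code_add, code_dec a ha, code_dec b hb]

theorem actV_addc (z : O7) (a b : ℕ) (ha : a < 2187) (hb : b < 2187) :
    actV z (addc a b) = addc (actV z a) (actV z b) := by
  rw [addc_eq a b ha hb]
  unfold actV
  rw [dec_code, Matrix.mulVec_add, code_add]

theorem qN_actV (z : O7) (c : ℕ) (hc : c < 2187) : qN (actV z c) = qN c := by
  unfold actV
  rw [← val_q7, q7_mat, val_q7, code_dec c hc]

theorem polN_actV (z : O7) (a b : ℕ) (ha : a < 2187) (hb : b < 2187) :
    polN (actV z a) (actV z b) = polN a b := by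
  unfold polN
  rw [← actV_addc z a b ha hb, qN_actV z _ (addc_lt a b), qN_actV z a ha, qN_actV z b hb]

theorem actV_inv_of_eq (c : O7) {a b : ℕ} (ha : a < 2187) (h : actV c a = b) :
    actV c⁻¹ b = a := by
  rw [← h, ← actV_mul, inv_mul_cancel, actV_one a ha]

theorem actV_inj (z : O7) {a b : ℕ} (ha : a < 2187) (hb : b < 2187) (h : actV z a = actV z b) :
    a = b := by
  rw [← actV_inv_of_eq z ha rfl, h, actV_inv_of_eq z hb rfl]

/-! ### commuting with `x` -/

/-- the action of `x` on codes -/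
def X (c : ℕ) : ℕ := look TX c

theorem X_lt (c : ℕ) (hc : c < 2187) : X c < 2187 := by
  unfold X
  rw [← actV_x c hc]
  exact actV_lt _ _

theorem actV_comm {z : O7} (hz : z * x = x * z) (c : ℕ) (hc : c < 2187) :
    actV z (X c) = X (actV z c) := by
  unfold X
  rw [← actV_x c hc, ← actV_mul, hz, actV_mul, actV_x _ (actV_lt _ _)]

/-- `x^2 + x + 1` on codes -/
def xx (c : ℕ) : ℕ := addc (addc (X (X c)) (X c)) c

theorem actV_xx {z : O7} (hz : z * x = x * z) (c : ℕ) (hc : c < 2187) :
    actV z (xx c) = xx (actV z c) := by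
  unfold xx
  have h1 := X_lt c hc
  have h2 := X_lt _ h1
  rw [actV_addc z _ _ (addc_lt _ _) hc, actV_addc z _ _ h2 h1, actV_comm hz _ h1, actV_comm hz c hc]

/-- the candidate images of the vector `vi` -/
def cand (vi rhs : ℕ) (ws : List ℕ) (u : ℕ) : Bool :=
  forceNat (X u) fun xu => forceNat (X xu) fun xxu =>
    Nat.beq (addc (addc xxu xu) u) rhs && (Nat.beq (qN u) (qN vi) &&
    (Nat.beq (polN u xu) (polN vi (X vi)) && (Nat.beq (polN u xxu) (polN vi (X (X vi))) &&
    (ws.all (fun w => Nat.beq (polN u w) (polN vi w)) && (Nat.beq rhs 27 || !(Nat.beq xu u))))))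

theorem cand_of_comm {z : O7} (hz : z * x = x * z) {vi rhs : ℕ} {ws : List ℕ} (hvi : vi < 2187)
    (hws : ∀ w ∈ ws, w < 2187 ∧ actV z w = w) (hxx : xx vi = rhs) (hrhs : actV z rhs = rhs)
    (hne : rhs = 27 ∨ X vi ≠ vi) : cand vi rhs ws (actV z vi) = true := by
  have h1 := X_lt vi hvi
  have h2 := X_lt _ h1
  unfold cand
  rw [forceNat_eq, forceNat_eq]
  simp only [Bool.and_eq_true, Bool.or_eq_true, List.all_eq_true]
  refine ⟨?_, ?_, ?_, ?_, ?_, ?_⟩
  · have := actV_xx hz vi hvi
    rw [hxx, hrhs] at this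
    unfold xx at this
    rw [← this]
    exact Nat.beq_refl _
  · rw [qN_actV z vi hvi]
    exact Nat.beq_refl _
  · rw [← actV_comm hz vi hvi, polN_actV z _ _ hvi h1]
    exact Nat.beq_refl _
  · rw [← actV_comm hz vi hvi, ← actV_comm hz _ h1, polN_actV z _ _ hvi h2]
    exact Nat.beq_refl _
  · intro w hw
    obtain ⟨hw1, hw2⟩ := hws w hw
    have := polN_actV z vi w hvi hw1
    rw [hw2] at this
    rw [this]
    exact Nat.beq_refl _
  · rcases hne with h | h
    · left
      rw [h]
      rfl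
    · right
      rw [← actV_comm hz vi hvi]
      have hne' : actV z (X vi) ≠ actV z vi := fun e => h (actV_inj z h1 hvi e)
      cases hb : Nat.beq (actV z (X vi)) (actV z vi)
      · rfl
      · exact absurd (Nat.eq_of_beq_eq_true hb) hne'

/-! ### the centralising elements -/

theorem cel_comm_ok :
    allBelow (fun k => allBelow (fun j =>
      Nat.beq (look (TC k) (X (3 ^ j))) (X (look (TC k) (3 ^ j)))) 7) 10 = true := by
  decide +kernel

theorem actV_cel_lt (k c : ℕ) (hk : k < 10) (hc : c < 2187) : look (TC k) c < 2187 := by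
  rw [← actV_cel k c hk hc]
  exact actV_lt _ _

theorem cel_comm (k : ℕ) (hk : k < 10) : cel k * x = x * cel k := by
  apply ext_of_actV
  intro j hj
  obtain ⟨hp0, hp1⟩ := pow3_bound hj
  have hlt : 3 ^ j < 2187 := by omega
  have hX : look TX (3 ^ j) = X (3 ^ j) := rfl
  rw [actV_mul, actV_mul, actV_x _ hlt, actV_cel k _ hk hlt, hX, actV_cel k _ hk (X_lt _ hlt),
    actV_x _ (actV_cel_lt k _ hk hlt)]
  exact Nat.eq_of_beq_eq_true (allBelow_spec (allBelow_spec cel_comm_ok k hk) j hj)

/-- the product of a word in the centralising elements -/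
noncomputable def celW (w : List ℕ) : O7 := (w.map cel).prod

/-- the action of such a word on codes -/
def actC (w : List ℕ) (c : ℕ) : ℕ := w.foldr (fun k c => look (TC k) c) c

theorem celW_cons (k : ℕ) (w : List ℕ) : celW (k :: w) = cel k * celW w := by
  simp [celW]

theorem celW_mem (w : List ℕ) (hw : ∀ k ∈ w, k < 10) : celW w ∈ Om := by
  induction w with
  | nil => exact Om.one_mem
  | cons k w ih =>
    rw [celW_cons]
    exact Om.mul_mem (cel_mem k (hw k List.mem_cons_self))
      (ih (fun j hj => hw j (List.mem_cons_of_mem _ hj)))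

theorem celW_comm (w : List ℕ) (hw : ∀ k ∈ w, k < 10) : celW w * x = x * celW w := by
  induction w with
  | nil => simp [celW]
  | cons k w ih =>
    rw [celW_cons, mul_assoc, ih (fun j hj => hw j (List.mem_cons_of_mem _ hj)), ← mul_assoc,
      cel_comm k (hw k List.mem_cons_self), mul_assoc]

theorem actV_celW (w : List ℕ) (hw : ∀ k ∈ w, k < 10) (c : ℕ) (hc : c < 2187) :
    actV (celW w) c = actC w c := by
  induction w with
  | nil => exact actV_one c hc
  | cons k w ih =>
    have ih' := ih (fun j hj => hw j (List.mem_cons_of_mem _ hj))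
    rw [celW_cons, actV_mul, ih']
    have hlt : actC w c < 2187 := by rw [← ih']; exact actV_lt _ _
    rw [actV_cel k _ (hw k List.mem_cons_self) hlt]
    rfl

/-- the code `u` occurs in the list -/
def inL (L : List (ℕ × List ℕ)) (u : ℕ) : Bool := L.any fun p => Nat.beq p.1 u

/-- the word of an entry maps `vi` to the code of the entry and fixes `27` and the codes `ws` -/
def wordOK (vi : ℕ) (ws : List ℕ) (p : ℕ × List ℕ) : Bool :=
  p.2.all (fun k => decide (k < 10)) && (Nat.beq (actC p.2 vi) p.1 && (Nat.beq (actC p.2 27) 27 &&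
    ws.all fun w => Nat.beq (actC p.2 w) w))

/-- all candidates occur in the list, and the entries of the list are correct -/
def levelOK (vi rhs : ℕ) (ws : List ℕ) (L : List (ℕ × List ℕ)) : Bool :=
  allBelow (fun u => !(cand vi rhs ws u) || inL L u) 2187 && L.all (wordOK vi ws)

theorem comm_inv_mul {c z : O7} (hc : c * x = x * c) (hz : z * x = x * z) :
    (c⁻¹ * z) * x = x * (c⁻¹ * z) := by
  have h1 : c⁻¹ * x = x * c⁻¹ := by
    have : c⁻¹ * (c * x) * c⁻¹ = c⁻¹ * (x * c) * c⁻¹ := by rw [hc]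
    simpa [mul_assoc] using this.symm
  rw [mul_assoc, hz, ← mul_assoc, h1, mul_assoc]

theorem level_step {vi rhs : ℕ} {ws : List ℕ} {L : List (ℕ × List ℕ)}
    (hOK : levelOK vi rhs ws L = true) (hvi : vi < 2187) (hxx : xx vi = rhs)
    (hne : rhs = 27 ∨ X vi ≠ vi) (hwlt : ∀ w ∈ ws, w < 2187)
    {z : O7} (hz : z * x = x * z) (hz27 : actV z 27 = 27) (hzws : ∀ w ∈ ws, actV z w = w)
    (hrhs : actV z rhs = rhs) :
    ∃ c ∈ Om, c * x = x * c ∧ actV (c⁻¹ * z) 27 = 27 ∧ (∀ w ∈ ws, actV (c⁻¹ * z) w = w) ∧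
      actV (c⁻¹ * z) vi = vi := by
  unfold levelOK at hOK
  rw [Bool.and_eq_true, List.all_eq_true] at hOK
  obtain ⟨hA, hB⟩ := hOK
  have hcand := cand_of_comm hz hvi (fun w hw => ⟨hwlt w hw, hzws w hw⟩) hxx hrhs hne
  have h1 := allBelow_spec hA (actV z vi) (actV_lt _ _)
  rw [hcand] at h1
  simp only [Bool.not_true, Bool.false_or] at h1
  unfold inL at h1
  rw [List.any_eq_true] at h1
  obtain ⟨p, hp, hpu⟩ := h1
  have hpu' := Nat.eq_of_beq_eq_true hpu
  have hw := hB p hp
  unfold wordOK at hw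
  simp only [Bool.and_eq_true, List.all_eq_true] at hw
  obtain ⟨hl, hv, h27, hwsC⟩ := hw
  have hl' : ∀ k ∈ p.2, k < 10 := fun k hk => of_decide_eq_true (hl k hk)
  refine ⟨celW p.2, celW_mem _ hl', celW_comm _ hl', ?_, ?_, ?_⟩
  · rw [actV_mul, hz27]
    apply actV_inv_of_eq _ (by norm_num)
    rw [actV_celW _ hl' _ (by norm_num)]
    exact Nat.eq_of_beq_eq_true h27
  · intro w hw
    rw [actV_mul, hzws w hw]
    apply actV_inv_of_eq _ (hwlt w hw)
    rw [actV_celW _ hl' _ (hwlt w hw)]
    exact Nat.eq_of_beq_eq_true (hwsC w hw)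
  · rw [actV_mul]
    apply actV_inv_of_eq _ hvi
    rw [actV_celW _ hl' _ hvi, Nat.eq_of_beq_eq_true hv, hpu']

/-! ### rigidity -/

/-- the basis codes are sums of the given codes -/
def rigid : List ℕ → List (ℕ × ℕ) → Bool
  | F, [] => allBelow (fun j => F.contains (3 ^ j)) 7
  | F, p :: rest => F.contains p.1 && (F.contains p.2 && rigid (addc p.1 p.2 :: F) rest)

theorem rigid_spec (z : O7) : ∀ (steps : List (ℕ × ℕ)) (F : List ℕ), rigid F steps = true →
    (∀ c ∈ F, c < 2187 ∧ actV z c = c) → ∀ j < 7, actV z (3 ^ j) = 3 ^ j := by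
  intro steps
  induction steps with
  | nil =>
    intro F h hF j hj
    have := allBelow_spec h j hj
    exact (hF _ (List.contains_iff_mem.mp this)).2
  | cons p rest ih =>
    intro F h hF
    rw [rigid, Bool.and_eq_true, Bool.and_eq_true] at h
    obtain ⟨h1, h2, h3⟩ := h
    have ha := hF _ (List.contains_iff_mem.mp h1)
    have hb := hF _ (List.contains_iff_mem.mp h2)
    apply ih _ h3
    intro c hc
    rcases List.mem_cons.mp hc with rfl | hc
    · refine ⟨addc_lt _ _, ?_⟩
      rw [actV_addc z _ _ ha.1 hb.1, ha.2, hb.2]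
    · exact hF c hc

/-! ### the chain -/

theorem level1_ok : levelOK 729 27 [] L1 = true := by decide +kernel

theorem level2_ok : levelOK 9 0 [729, 784, 785] L2 = true := by decide +kernel

theorem level3_ok : levelOK 81 0 [729, 784, 785, 9, 12] L3 = true := by decide +kernel

theorem rigid_ok : rigid [729, 784, 785, 9, 12, 81, 567] addSteps = true := by decide +kernel

theorem X_vals : X 729 = 784 ∧ X 784 = 785 ∧ X 9 = 12 ∧ X 81 = 567 ∧ xx 729 = 27 ∧ xx 9 = 0 ∧
    xx 81 = 0 := by decide +kernel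

theorem actV_zero' (z : O7) : actV z 0 = 0 := actV_zero z

/-- an isometry commuting with `x` and fixing `r` lies in `Ω(7,3)` -/
theorem mem_Om_of_comm_of_fix {z : O7} (hz : z * x = x * z) (h27 : actV z 27 = 27) : z ∈ Om := by
  obtain ⟨hX1, hX2, hX3, hX4, hx1, hx2, hx3⟩ := X_vals
  -- level 1
  obtain ⟨c1, hc1, hcx1, f27, -, f729⟩ := level_step level1_ok (by norm_num) hx1 (Or.inl rfl)
    (by simp) hz h27 (by simp) h27
  have hz1 := comm_inv_mul hcx1 hz
  have f784 : actV (c1⁻¹ * z) 784 = 784 := by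
    have := actV_comm hz1 729 (by norm_num)
    rwa [hX1, f729, hX1] at this
  have f785 : actV (c1⁻¹ * z) 785 = 785 := by
    have := actV_comm hz1 784 (by norm_num)
    rwa [hX2, f784, hX2] at this
  -- level 2
  have hws2 : ∀ w ∈ [729, 784, 785], actV (c1⁻¹ * z) w = w := by
    intro w hw
    simp only [List.mem_cons, List.not_mem_nil, or_false] at hw
    rcases hw with rfl | rfl | rfl
    · exact f729
    · exact f784
    · exact f785
  obtain ⟨c2, hc2, hcx2, g27, gws, g9⟩ := level_step level2_ok (by norm_num) hx2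
    (Or.inr (by rw [hX3]; norm_num)) (by intro w hw; simp at hw; omega) hz1 f27 hws2
    (actV_zero _)
  have hz2 := comm_inv_mul hcx2 hz1
  have g12 : actV (c2⁻¹ * (c1⁻¹ * z)) 12 = 12 := by
    have := actV_comm hz2 9 (by norm_num)
    rwa [hX3, g9, hX3] at this
  -- level 3
  have hws3 : ∀ w ∈ [729, 784, 785, 9, 12], actV (c2⁻¹ * (c1⁻¹ * z)) w = w := by
    intro w hw
    simp only [List.mem_cons, List.not_mem_nil, or_false] at hw
    rcases hw with rfl | rfl | rfl | rfl | rfl
    · exact gws _ (by simp)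
    · exact gws _ (by simp)
    · exact gws _ (by simp)
    · exact g9
    · exact g12
  obtain ⟨c3, hc3, hcx3, k27, kws, k81⟩ := level_step level3_ok (by norm_num) hx3
    (Or.inr (by rw [hX4]; norm_num)) (by intro w hw; simp at hw; omega) hz2 g27 hws3
    (actV_zero _)
  have hz3 := comm_inv_mul hcx3 hz2
  have k567 : actV (c3⁻¹ * (c2⁻¹ * (c1⁻¹ * z))) 567 = 567 := by
    have := actV_comm hz3 81 (by norm_num)
    rwa [hX4, k81, hX4] at this
  -- rigidity
  have hfix : ∀ c ∈ [729, 784, 785, 9, 12, 81, 567],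
      c < 2187 ∧ actV (c3⁻¹ * (c2⁻¹ * (c1⁻¹ * z))) c = c := by
    intro w hw
    simp only [List.mem_cons, List.not_mem_nil, or_false] at hw
    rcases hw with rfl | rfl | rfl | rfl | rfl | rfl | rfl
    · exact ⟨by norm_num, kws _ (by simp)⟩
    · exact ⟨by norm_num, kws _ (by simp)⟩
    · exact ⟨by norm_num, kws _ (by simp)⟩
    · exact ⟨by norm_num, kws _ (by simp)⟩
    · exact ⟨by norm_num, kws _ (by simp)⟩
    · exact ⟨by norm_num, k81⟩
    · exact ⟨by norm_num, k567⟩
  have hone : c3⁻¹ * (c2⁻¹ * (c1⁻¹ * z)) = 1 := by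
    apply ext_of_actV
    intro j hj
    obtain ⟨hp0, hp1⟩ := pow3_bound hj
    rw [rigid_spec _ addSteps _ rigid_ok hfix j hj, actV_one _ (by omega)]
  have hzeq : z = c1 * (c2 * c3) := by
    have : z = c1 * (c2 * (c3 * (c3⁻¹ * (c2⁻¹ * (c1⁻¹ * z))))) := by group
    rw [this, hone, mul_one]
  rw [hzeq]
  exact Om.mul_mem hc1 (Om.mul_mem hc2 hc3)

end Cfsg.Agent.Lib.Helper56_O73Cen
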