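import Mathlib

/-!
# Data for `Ω(7,3)`: the leading position of a vector code (generated)

helper56.  For each of the `2187` vector codes, the digit position `p` such that the code is a
unitriangular column number `p` in the flag order (or `15` if there is none); 4-bit entries.
-/

set_option autoImplicit false

namespace Cfsg.Agent.Lib.Helper56_O73Data2

/-- leading positions (4-bit entries) -/
def TOPT : ℕ := 0xfffffffffffffffffffffffffffffffffffffffffffffffffffffffffffffffffffffffffffffffff444444444444444444444444444444444444444444444444444444444444444444444444444444444ffffffffffffffffffffffffffffffffffffffffffffffffffffffffffffffffffffffffffffffffffffffffffffffffffffffffffffffffffffffffffffffffffffffffffffffffffffffffffffffffff444444444444444444444444444444444444444444444444444444444444444444444444444444444555555555555555555555555555555555555555555555555555555555555555555555555555555555fffffffffffffffffffffffffffffffffffffffffffffffffffffffffffffffffffffffffffffffff444444444444444444444444444444444444444444444444444444444444444444444444444444444ffffffffffffffffffffffffffffffffffffffffffffffffffffffffffffffffffffffffffffffffffffffffffffffffffffffffffffffffffffffffffffffffffffffffffffffffffffffffffffffffff444444444444444444444444444444444444444444444444444444444444444444444444444444444ffffffffffffffffffffffffffffffffffffffffffffffffffffffffffff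ffffffffffffffffffffffffffffffffffffffffffffffffffffffffffffffffffffffffffffffffffffffffffffffffffffff444444444444444444444444444444444444444444444444444444444444444444444444444444444555555555555555555555555555555555555555555555555555555555555555555555555555555555fffffffffffffffffffffffffffffffffffffffffffffffffffffffffffffffffffffffffffffffff444444444444444444444444444444444444444444444444444444444444444444444444444444444666666666666666666666666666666666666666666666666666666666666666666666666666666666fffffffffffffffffffffffffffffffffffffffffffffffffffffffffffffffffffffffffffffffff444444444444444444444444444444444444444444444444444444444444444444444444444444444ffffffffffffffffffffffffffffffffffffffffffffffffffffffffffffffffffffffffffffffffffffffffffffffffffffffffffffffffffffffffffffffffffffffffffffffffffffffffffffffffff444444444444444444444444444444444444444444444444444444444444444444444444444444444555555555555555555555555555555555555555555555555555555555555555555555555555555555fffffffffffffffffffffffffffffffffffffffffffffffffffffffffffffffffffffffffffffffff444444444444444444444444444444444444444444444444444444444444444444444444444444444f0ff0ff0ff0ff0ff0ff0ff0ff0ff03f03f03f03f03f03f03f03f03f0ff0ff0ff02f02f02f0ff01f0f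

end Cfsg.Agent.Lib.Helper56_O73Data2
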