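import Mathlib
import Cfsg.Agent.Lib.Helper44_OmegaOdd
import Cfsg.Agent.Lib.Helper56_O73Act

/-!
# The unitriangular isometries of `O(7,3)`

helper56.  The isometries whose matrices are upper unitriangular with respect to the flag order
`e1, e2, e3, 0, -e3, -e2, -e1` form a `3`-subgroup `PU` of `Ω(7,3)` of exponent dividing `9`;
membership is read off the images of the seven basis codes.
-/

set_option autoImplicit false

namespace Cfsg.Agent.Lib.Helper56_O73Uni

open Matrix Cfsg.Agent.Lib.Helper91_O73Pts Cfsg.Agent.Lib.Helper91_O73Theta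
  Cfsg.Agent.Lib.Helper91_O73Omega Cfsg.Agent.Lib.Helper56_O73Dig Cfsg.Agent.Lib.Helper56_O73Act

/-- rank of a coordinate in the flag order -/
def rk : I7 → ℕ
  | Sum.inl _ => 3
  | Sum.inr (Sum.inl i) => i.val
  | Sum.inr (Sum.inr i) => 6 - i.val

theorem rk_injective : Function.Injective rk := by
  intro i j
  revert i j
  decide

theorem rk_lt : ∀ i : I7, rk i < 7 := by decide

/-- upper unitriangular in the flag order -/
def UT (M : M7) : Prop := (∀ i j, rk j < rk i → M i j = 0) ∧ ∀ i, M i i = 1

theorem UT_one : UT (1 : M7) := by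
  refine ⟨fun i j h => ?_, fun i => Matrix.one_apply_eq i⟩
  apply Matrix.one_apply_ne
  rintro rfl
  exact lt_irrefl _ h

theorem UT_mul {M N : M7} (hM : UT M) (hN : UT N) : UT (M * N) := by
  refine ⟨fun i j hij => ?_, fun i => ?_⟩
  · rw [Matrix.mul_apply]
    apply Finset.sum_eq_zero
    intro k _
    by_cases hki : rk k < rk i
    · rw [hM.1 i k hki, zero_mul]
    · rw [hN.1 k j (lt_of_lt_of_le hij (not_lt.mp hki)), mul_zero]
  · rw [Matrix.mul_apply, Finset.sum_eq_single i]
    · rw [hM.2, hN.2, one_mul]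
    · intro k _ hk
      rcases lt_or_gt_of_ne (fun h => hk (rk_injective h)) with h | h
      · rw [hM.1 i k h, zero_mul]
      · rw [hN.1 k i h, mul_zero]
    · intro h
      exact absurd (Finset.mem_univ i) h

theorem UT_sub_one_pow {M : M7} (hM : UT M) :
    ∀ k : ℕ, ∀ i j, rk j < rk i + k → ((M - 1) ^ k) i j = 0 := by
  intro k
  induction k with
  | zero =>
    intro i j h
    rw [pow_zero]
    apply Matrix.one_apply_ne
    rintro rfl
    exact lt_irrefl _ h
  | succ k ih =>
    intro i j h
    rw [pow_succ, Matrix.mul_apply]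
    apply Finset.sum_eq_zero
    intro l _
    by_cases hl : rk l < rk i + k
    · rw [ih i l hl, zero_mul]
    · have hjl : rk j ≤ rk l := by omega
      have : (M - 1) l j = 0 := by
        rw [Matrix.sub_apply]
        by_cases hlj : l = j
        · subst hlj
          rw [hM.2, Matrix.one_apply_eq, sub_self]
        · have hne : rk j ≠ rk l := fun h => hlj (rk_injective h).symm
          rw [hM.1 l j (lt_of_le_of_ne hjl hne), Matrix.one_apply_ne hlj, sub_self]
      rw [this, mul_zero]

theorem UT_pow_nine {M : M7} (hM : UT M) : M ^ 9 = 1 := by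
  have h0 : (M - 1) ^ 9 = 0 := by
    ext i j
    rw [UT_sub_one_pow hM 9 i j (by have := rk_lt j; omega)]
    rfl
  haveI : Fact (Nat.Prime 3) := ⟨by norm_num⟩
  have h1 : ((M - 1) + 1) ^ 3 ^ 2 = (M - 1) ^ 3 ^ 2 + 1 ^ 3 ^ 2 :=
    add_pow_char_pow_of_commute 3 2 (Commute.one_right _)
  norm_num at h1
  rw [h1, h0, zero_add]

theorem mat_pow (g : O7) (k : ℕ) : mat (g ^ k) = mat g ^ k := by
  induction k with
  | zero => rw [pow_zero, pow_zero, mat_one]
  | succ k ih => rw [pow_succ, pow_succ, mat_mul, ih]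

theorem mat_injective {g h : O7} (e : mat g = mat h) : g = h := by
  apply Subtype.ext
  apply Units.ext
  exact e

theorem pow_nine_of_UT {g : O7} (h : UT (mat g)) : g ^ 9 = 1 := by
  apply mat_injective
  rw [mat_pow, UT_pow_nine h, mat_one]

/-- the group of unitriangular isometries -/
def PU : Subgroup O7 where
  carrier := {g | UT (mat g)}
  mul_mem' := fun {g h} hg hh => by
    show UT (mat (g * h))
    rw [mat_mul]
    exact UT_mul hg hh
  one_mem' := UT_one
  inv_mem' := fun {g} hg => by
    show UT (mat g⁻¹)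
    have h9 : g ^ 9 = 1 := pow_nine_of_UT hg
    have hinv : g⁻¹ = g ^ 8 := by
      rw [inv_eq_iff_mul_eq_one, ← pow_succ', h9]
    rw [hinv, mat_pow]
    have : ∀ k : ℕ, UT (mat g ^ k) := by
      intro k
      induction k with
      | zero => rw [pow_zero]; exact UT_one
      | succ k ih => rw [pow_succ]; exact UT_mul ih hg
    exact this 8

theorem mem_PU {g : O7} : g ∈ PU ↔ UT (mat g) := Iff.rfl

theorem pow_nine_of_mem {g : O7} (h : g ∈ PU) : g ^ 9 = 1 := pow_nine_of_UT h

theorem PU_le_Om : PU ≤ Om := by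
  intro g hg
  exact Cfsg.Agent.Lib.Helper44_OmegaOdd.mem_omega_of_pow_eq_one two_ne_zero3 Q7 nondeg_Q7 g
    (by decide : Odd 9) (pow_nine_of_mem hg)

/-! ### reading matrix entries off the images of the basis codes -/

theorem dig_jx (i : I7) (v : V7) : code v / 3 ^ jx i % 3 = (v i).val := by
  rcases i with u | i | i
  · simpa [jx] using dig0 v
  · fin_cases i
    · simpa [jx] using dig1 v
    · simpa [jx] using dig2 v
    · simpa [jx] using dig3 v
  · fin_cases i
    · simpa [jx] using dig4 v
    · simpa [jx] using dig5 v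
    · simpa [jx] using dig6 v

theorem mat_apply_eq (g : O7) (i j : I7) :
    mat g i j = ((actV g (3 ^ jx j) / 3 ^ jx i % 3 : ℕ) : ZMod 3) := by
  unfold actV
  rw [dig_jx, dec_pow, ZMod.natCast_zmod_val]
  simp [Matrix.mulVec_single_one]

/-- rank of a digit position -/
def rkp : ℕ → ℕ
  | 0 => 3
  | 1 => 0
  | 2 => 1
  | 3 => 2
  | 4 => 6
  | 5 => 5
  | _ => 4

theorem rk_eq : ∀ i : I7, rk i = rkp (jx i) := by decide

/-- the column `p` (given by the code `c` of the image of `3 ^ p`) is unitriangular -/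
def utCol (p c : ℕ) : Bool :=
  allBelow (fun r =>
    if rkp p < rkp r then Nat.beq (c / 3 ^ r % 3) 0
    else if r = p then Nat.beq (c / 3 ^ r % 3) 1 else true) 7

theorem UT_of_cols (g : O7) (h : ∀ p < 7, utCol p (actV g (3 ^ p)) = true) : UT (mat g) := by
  refine ⟨fun i j hij => ?_, fun i => ?_⟩
  · have h1 := allBelow_spec (h (jx j) (jx_lt j)) (jx i) (jx_lt i)
    rw [rk_eq, rk_eq] at hij
    simp only [hij, if_true] at h1
    rw [mat_apply_eq, Nat.eq_of_beq_eq_true h1]
    rfl
  · have h1 := allBelow_spec (h (jx i) (jx_lt i)) (jx i) (jx_lt i)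
    simp only [lt_irrefl, if_false, if_true] at h1
    rw [mat_apply_eq, Nat.eq_of_beq_eq_true h1]
    rfl

/-- all columns of a table are unitriangular -/
def utTab (T : ℕ) : Bool := allBelow (fun p => utCol p (look T (3 ^ p))) 7

theorem mem_PU_of_utTab (g : O7) (T : ℕ) (hT : ∀ p < 7, actV g (3 ^ p) = look T (3 ^ p))
    (h : utTab T = true) : g ∈ PU := by
  apply UT_of_cols
  intro p hp
  rw [hT p hp]
  exact allBelow_spec h p hp

end Cfsg.Agent.Lib.Helper56_O73Uni
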