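import Mathlib
import Cfsg.Agent.Lib.Helper56_O73Tab
import Cfsg.Agent.Lib.Helper56_O73Uni

/-!
# Normal forms in the Sylow `3`-subgroup of `Ω(7,3)`

helper56.  The `3^9` products `a 0 ^ e0 * ... * a 8 ^ e8` of powers of the nine positive root
elements are pairwise different unitriangular isometries (a tree of table lookups computes nine
matrix entries of each, from which the exponents are read off through the table `UK`), so they
exhaust the group `PU` of unitriangular isometries, whose order divides `3^9`.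
-/

set_option autoImplicit false

namespace Cfsg.Agent.Lib.Helper56_O73Nf

open Cfsg.Agent.Lib.Helper91_O73Pts Cfsg.Agent.Lib.Helper91_O73Theta
  Cfsg.Agent.Lib.Helper91_O73Omega Cfsg.Agent.Lib.Helper56_O73Dig Cfsg.Agent.Lib.Helper56_O73Act
  Cfsg.Agent.Lib.Helper56_O73Data Cfsg.Agent.Lib.Helper56_O73Tab Cfsg.Agent.Lib.Helper56_O73Uni

/-- action of the power `e < 3` of the `i`-th root element on codes -/
def ap (i e c : ℕ) : ℕ :=
  match e with
  | 0 => c
  | 1 => look (TA i) c
  | _ => look (TB i) c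

theorem actV_a_pow (i e c : ℕ) (hi : i < 9) (he : e < 3) (hc : c < 2187) :
    actV (a i ^ e) c = ap i e c := by
  interval_cases e
  · rw [pow_zero, actV_one c hc]; rfl
  · rw [pow_one, actV_a i c hi hc]; rfl
  · rw [pow_two, actV_a_sq i c hi hc]; rfl

theorem ap_lt (i e c : ℕ) (hi : i < 9) (he : e < 3) (hc : c < 2187) : ap i e c < 2187 := by
  rw [← actV_a_pow i e c hi he hc]
  exact actV_lt _ _

/-- the normal forms: `nfE d m = a 0 ^ e0 * ... * a (d-1) ^ e(d-1)` with `m = Σ e_i 3^i` -/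
noncomputable def nfE : ℕ → ℕ → O7
  | 0, _ => 1
  | d + 1, m => nfE d (m % 3 ^ d) * a d ^ (m / 3 ^ d)

/-- the action of the normal forms on codes -/
def nfAct : ℕ → ℕ → ℕ → ℕ
  | 0, _, c => c
  | d + 1, m, c =>
    forceNat (m % 3 ^ d) fun m' => forceNat (ap d (m / 3 ^ d) c) fun c' => nfAct d m' c'

theorem nfAct_succ (d m c : ℕ) :
    nfAct (d + 1) m c = nfAct d (m % 3 ^ d) (ap d (m / 3 ^ d) c) := by
  rw [nfAct, forceNat_eq, forceNat_eq]

theorem div_lt_three {d m : ℕ} (hm : m < 3 ^ (d + 1)) : m / 3 ^ d < 3 := by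
  rw [Nat.div_lt_iff_lt_mul (pow_pos (by norm_num) d), mul_comm, ← pow_succ]
  exact hm

theorem actV_nfE : ∀ d ≤ 9, ∀ m < 3 ^ d, ∀ c < 2187, actV (nfE d m) c = nfAct d m c := by
  intro d
  induction d with
  | zero =>
    intro _ m _ c hc
    exact actV_one c hc
  | succ d ih =>
    intro hd m hm c hc
    have he := div_lt_three hm
    have hm' : m % 3 ^ d < 3 ^ d := Nat.mod_lt _ (pow_pos (by norm_num) d)
    rw [nfAct_succ, nfE, actV_mul, actV_a_pow d _ c (by omega) he hc,
      ih (by omega) _ hm' _ (ap_lt d _ c (by omega) he hc)]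

theorem nfE_mem_Om : ∀ d ≤ 9, ∀ m, nfE d m ∈ Om := by
  intro d
  induction d with
  | zero => intro _ m; exact Om.one_mem
  | succ d ih =>
    intro hd m
    rw [nfE]
    exact Om.mul_mem (ih (by omega) _) (Om.pow_mem (a_mem d (by omega)) _)

theorem utA_ok : allBelow (fun i => utTab (TA i)) 9 = true := by decide +kernel

theorem a_mem_PU (i : ℕ) (hi : i < 9) : a i ∈ PU := by
  apply mem_PU_of_utTab (a i) (TA i) _ (allBelow_spec utA_ok i hi)
  intro p hp
  obtain ⟨hp0, hp1⟩ := pow3_bound hp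
  exact actV_a i _ hi (by omega)

theorem nfE_mem_PU : ∀ d ≤ 9, ∀ m, nfE d m ∈ PU := by
  intro d
  induction d with
  | zero => intro _ m; exact PU.one_mem
  | succ d ih =>
    intro hd m
    rw [nfE]
    exact PU.mul_mem (ih (by omega) _) (PU.pow_mem (a_mem_PU d (by omega)) _)

/-! ### the key of an element -/

/-- nine matrix entries, from the images of the basis codes `1, 9, 27, 243, 729` -/
def keyc (c0 c2 c3 c5 c6 : ℕ) : ℕ :=
  c2 / 3 % 3 + 3 * (c3 / 3 % 3) + 9 * (c3 / 9 % 3) + 27 * (c0 / 3 % 3) + 81 * (c0 / 9 % 3)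
    + 243 * (c0 / 27 % 3) + 729 * (c6 / 3 % 3) + 2187 * (c6 / 9 % 3) + 6561 * (c5 / 3 % 3)

/-- lookup in the index table -/
def lookU (k : ℕ) : ℕ := (UK >>> (15 * k)) % 32768

/-- the key of an isometry -/
def keyE (g : O7) : ℕ := keyc (actV g 1) (actV g 9) (actV g 27) (actV g 243) (actV g 729)

/-- the tree of all normal forms: at the leaves the index is recovered from the key -/
def treeChk : ℕ → ℕ → ℕ → ℕ → ℕ → ℕ → ℕ → Bool
  | 0, n, c0, c2, c3, c5, c6 => Nat.beq (lookU (keyc c0 c2 c3 c5 c6)) n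
  | d + 1, n, c0, c2, c3, c5, c6 =>
    allBelow (fun e => forceNat (n + e * 3 ^ d) fun n' =>
      forceNat (ap d e c0) fun c0' => forceNat (ap d e c2) fun c2' =>
      forceNat (ap d e c3) fun c3' => forceNat (ap d e c5) fun c5' =>
      forceNat (ap d e c6) fun c6' => treeChk d n' c0' c2' c3' c5' c6') 3

theorem treeChk_spec : ∀ d n c0 c2 c3 c5 c6, treeChk d n c0 c2 c3 c5 c6 = true →
    ∀ m < 3 ^ d, lookU (keyc (nfAct d m c0) (nfAct d m c2) (nfAct d m c3) (nfAct d m c5)
      (nfAct d m c6)) = n + m := by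
  intro d
  induction d with
  | zero =>
    intro n c0 c2 c3 c5 c6 h m hm
    have hm0 : m = 0 := by simpa using hm
    subst hm0
    exact Nat.eq_of_beq_eq_true h
  | succ d ih =>
    intro n c0 c2 c3 c5 c6 h m hm
    have he := div_lt_three hm
    have hm' : m % 3 ^ d < 3 ^ d := Nat.mod_lt _ (pow_pos (by norm_num) d)
    rw [treeChk] at h
    have h1 := allBelow_spec h _ he
    simp only [forceNat_eq] at h1
    have h2 := ih _ _ _ _ _ _ h1 _ hm'
    simp only [nfAct_succ]
    rw [h2]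
    have := Nat.div_add_mod m (3 ^ d)
    rw [mul_comm] at this
    omega

theorem tree_ok : treeChk 9 0 1 9 27 243 729 = true := by decide +kernel

theorem lookU_keyE_nfE (m : ℕ) (hm : m < 19683) : lookU (keyE (nfE 9 m)) = m := by
  have h := treeChk_spec 9 0 1 9 27 243 729 tree_ok m (by norm_num; exact hm)
  rw [zero_add] at h
  have hm' : m < 3 ^ 9 := by norm_num; exact hm
  unfold keyE
  rw [actV_nfE 9 le_rfl m hm' 1 (by norm_num), actV_nfE 9 le_rfl m hm' 9 (by norm_num),
    actV_nfE 9 le_rfl m hm' 27 (by norm_num), actV_nfE 9 le_rfl m hm' 243 (by norm_num),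
    actV_nfE 9 le_rfl m hm' 729 (by norm_num)]
  exact h

theorem nfE_injOn : Set.InjOn (nfE 9) (↑(Finset.range 19683) : Set ℕ) := by
  intro m hm m' hm' h
  rw [Finset.coe_range, Set.mem_Iio] at hm hm'
  rw [← lookU_keyE_nfE m hm, ← lookU_keyE_nfE m' hm', h]

/-! ### the order of `PU` -/

theorem isPGroup_PU : IsPGroup 3 PU := by
  intro g
  refine ⟨2, ?_⟩
  apply Subtype.ext
  rw [Subgroup.coe_pow]
  exact pow_nine_of_mem g.2

/-- the order of a `3`-subgroup of `Ω(7,3)` divides `3^9` -/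
theorem card_dvd_of_isPGroup (Q : Subgroup Om) (hQ : IsPGroup 3 Q) : Nat.card Q ∣ 19683 := by
  obtain ⟨k, hk⟩ := hQ.exists_card_eq
  have h1 : Nat.card Q ∣ Nat.card Om := Subgroup.card_subgroup_dvd_card Q
  rw [card_Om, hk, show (4585351680 : ℕ) = 19683 * 232960 by norm_num] at h1
  rw [hk]
  exact Nat.Coprime.dvd_of_dvd_mul_right (Nat.Coprime.pow_left k (by norm_num)) h1

/-- `PU` inside `Ω(7,3)` -/
def PO : Subgroup Om := PU.subgroupOf Om

theorem card_PO : Nat.card PO = Nat.card PU :=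
  Nat.card_congr (Subgroup.subgroupOfEquivOfLe PU_le_Om).toEquiv

theorem isPGroup_PO : IsPGroup 3 PO :=
  isPGroup_PU.comap_subtype

theorem card_PU_le : Nat.card PU ≤ 19683 := by
  rw [← card_PO]
  exact Nat.le_of_dvd (by norm_num) (card_dvd_of_isPGroup PO isPGroup_PO)

theorem image_nfE_eq : (nfE 9 '' (↑(Finset.range 19683) : Set ℕ)) = (PU : Set O7) := by
  apply Set.eq_of_subset_of_ncard_le
  · rintro g ⟨m, _, rfl⟩
    exact nfE_mem_PU 9 le_rfl m
  · rw [Set.InjOn.ncard_image nfE_injOn, Set.ncard_coe_finset, Finset.card_range]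
    have : (PU : Set O7).ncard = Nat.card PU := rfl
    rw [this]
    exact card_PU_le
  · exact Set.toFinite _

theorem exists_nf {g : O7} (hg : g ∈ PU) : ∃ m < 19683, g = nfE 9 m := by
  have : g ∈ (PU : Set O7) := hg
  rw [← image_nfE_eq] at this
  obtain ⟨m, hm, rfl⟩ := this
  rw [Finset.coe_range, Set.mem_Iio] at hm
  exact ⟨m, hm, rfl⟩

theorem card_PU : Nat.card PU = 19683 := by
  have h : (PU : Set O7).ncard = Nat.card PU := rfl
  rw [← h, ← image_nfE_eq, Set.InjOn.ncard_image nfE_injOn, Set.ncard_coe_finset,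
    Finset.card_range]

/-- an element of `PU` is the normal form whose index is read off its key -/
theorem eq_nfE_of_mem {g : O7} (hg : g ∈ PU) :
    lookU (keyE g) < 19683 ∧ g = nfE 9 (lookU (keyE g)) := by
  obtain ⟨m, hm, rfl⟩ := exists_nf hg
  rw [lookU_keyE_nfE m hm]
  exact ⟨hm, rfl⟩

end Cfsg.Agent.Lib.Helper56_O73Nf
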