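import Mathlib
import Cfsg.Agent.Lib.Helper56_O73Nf
import Cfsg.Agent.Lib.Helper56_O73Data2

/-!
# The descent check for the elements of order three of the Sylow `3`-subgroup of `Ω(7,3)`

helper56.  For every index `n < 3^9` the check `desChk n` verifies, according to the depth table
`DP`: that the normal form `nfE 9 n` is not of order three (a basis code moved by its cube), or that
`n` is one of the seven representatives, or that the conjugator `CP n` maps it to a normal form of
smaller depth.
-/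

set_option autoImplicit false

namespace Cfsg.Agent.Lib.Helper56_O73Des

open Cfsg.Agent.Lib.Helper91_O73Pts Cfsg.Agent.Lib.Helper91_O73Theta
  Cfsg.Agent.Lib.Helper91_O73Omega Cfsg.Agent.Lib.Helper56_O73Dig Cfsg.Agent.Lib.Helper56_O73Act
  Cfsg.Agent.Lib.Helper56_O73Data Cfsg.Agent.Lib.Helper56_O73Data2
  Cfsg.Agent.Lib.Helper56_O73Tab Cfsg.Agent.Lib.Helper56_O73Uni Cfsg.Agent.Lib.Helper56_O73Nf

theorem lt_of_blt {a b : ℕ} (h : Nat.blt a b = true) : a < b := Nat.le_of_ble_eq_true h

/-- lookup in a table of 4-bit entries -/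
def look4 (T n : ℕ) : ℕ := (T >>> (4 * n)) % 16

/-- action of a power of a root element, with explicit tables -/
def apT (Ta Tb e c : ℕ) : ℕ :=
  match e with
  | 0 => c
  | 1 => look Ta c
  | _ => look Tb c

/-- the action of the normal form number `m`, unrolled -/
def nfAct9 (m c : ℕ) : ℕ :=
  apT TA0 TB0 (m % 3) (apT TA1 TB1 (m / 3 % 3) (apT TA2 TB2 (m / 9 % 3) (apT TA3 TB3 (m / 27 % 3)
    (apT TA4 TB4 (m / 81 % 3) (apT TA5 TB5 (m / 243 % 3) (apT TA6 TB6 (m / 729 % 3)
    (apT TA7 TB7 (m / 2187 % 3) (apT TA8 TB8 (m / 6561 % 3) c))))))))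

theorem ap_eq (i e c : ℕ) : ap i e c = apT (TA i) (TB i) e c := by
  cases e with
  | zero => rfl
  | succ e => cases e <;> rfl

theorem nfAct9_eq (m c : ℕ) (hm : m < 19683) : nfAct9 m c = nfAct 9 m c := by
  have e0 : m % 6561 % 2187 % 729 % 243 % 81 % 27 % 9 % 3 / 1 = m % 3 := by omega
  have e1 : m % 6561 % 2187 % 729 % 243 % 81 % 27 % 9 / 3 = m / 3 % 3 := by omega
  have e2 : m % 6561 % 2187 % 729 % 243 % 81 % 27 / 9 = m / 9 % 3 := by omega
  have e3 : m % 6561 % 2187 % 729 % 243 % 81 / 27 = m / 27 % 3 := by omega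
  have e4 : m % 6561 % 2187 % 729 % 243 / 81 = m / 81 % 3 := by omega
  have e5 : m % 6561 % 2187 % 729 / 243 = m / 243 % 3 := by omega
  have e6 : m % 6561 % 2187 / 729 = m / 729 % 3 := by omega
  have e7 : m % 6561 / 2187 = m / 2187 % 3 := by omega
  have e8 : m / 6561 = m / 6561 % 3 := by omega
  simp only [nfAct, forceNat_eq]
  norm_num only []
  rw [e0, e1, e2, e3, e4, e5, e6, e7, nfAct9, ← e8]
  simp only [ap_eq]
  rfl

theorem actV_nfE9 (n c : ℕ) (hn : n < 19683) (hc : c < 2187) :
    actV (nfE 9 n) c = nfAct9 n c := by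
  rw [nfAct9_eq n c hn]
  exact actV_nfE 9 le_rfl n (by norm_num; exact hn) c hc

theorem nfAct9_lt (n c : ℕ) (hn : n < 19683) (hc : c < 2187) : nfAct9 n c < 2187 := by
  rw [← actV_nfE9 n c hn hc]
  exact actV_lt _ _

/-! ### the leading positions -/

theorem topOK :
    allBelow (fun c => forceNat (look4 TOPT c) fun p => Nat.ble 7 p || utCol p c) 2187 = true := by
  decide +kernel

theorem top_spec {c p : ℕ} (hc : c < 2187) (hp : p < 7) (h : Nat.beq (look4 TOPT c) p = true) :
    utCol p c = true := by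
  have h1 := allBelow_spec topOK c hc
  rw [forceNat_eq, Nat.eq_of_beq_eq_true h, Bool.or_eq_true] at h1
  rcases h1 with h1 | h1
  · have := Nat.le_of_ble_eq_true h1
    omega
  · exact h1

/-! ### the inverses of the conjugators -/

theorem sinvOK :
    allBelow (fun k => Nat.blt (sinv k) 14 &&
      allBelow (fun j => Nat.beq (look (TS k) (look (TS (sinv k)) (3 ^ j))) (3 ^ j)) 7) 14 = true := by
  decide +kernel

theorem sinv_lt (k : ℕ) (hk : k < 14) : sinv k < 14 := by
  have h := allBelow_spec sinvOK k hk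
  rw [Bool.and_eq_true] at h
  exact lt_of_blt h.1

theorem actV_s_lt (k c : ℕ) (hk : k < 14) (hc : c < 2187) : look (TS k) c < 2187 := by
  rw [← actV_s k c hk hc]
  exact actV_lt _ _

theorem s_mul_sinv (k : ℕ) (hk : k < 14) : s k * s (sinv k) = 1 := by
  have h := allBelow_spec sinvOK k hk
  rw [Bool.and_eq_true] at h
  apply ext_of_actV
  intro j hj
  obtain ⟨hp0, hp1⟩ := pow3_bound hj
  have hlt : 3 ^ j < 2187 := by omega
  rw [actV_mul, actV_s _ _ (sinv_lt k hk) hlt, actV_s _ _ hk (actV_s_lt _ _ (sinv_lt k hk) hlt),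
    actV_one _ hlt]
  exact Nat.eq_of_beq_eq_true (allBelow_spec h.2 j hj)

theorem s_sinv_eq (k : ℕ) (hk : k < 14) : s (sinv k) = (s k)⁻¹ :=
  (inv_eq_of_mul_eq_one_right (s_mul_sinv k hk)).symm

/-! ### the check -/

/-- the image of the `j`-th basis code under the conjugate by the `k`-th conjugator -/
def conjCol (k n j : ℕ) : ℕ := look (TS k) (nfAct9 n (look (TS (sinv k)) (3 ^ j)))

theorem actV_conj (k n j : ℕ) (hk : k < 14) (hn : n < 19683) (hj : j < 7) :
    actV (s k * nfE 9 n * (s k)⁻¹) (3 ^ j) = conjCol k n j := by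
  obtain ⟨hp0, hp1⟩ := pow3_bound hj
  have hlt : 3 ^ j < 2187 := by omega
  have h1 := actV_s_lt _ _ (sinv_lt k hk) hlt
  rw [← s_sinv_eq k hk, actV_mul, actV_mul, actV_s _ _ (sinv_lt k hk) hlt, actV_nfE9 _ _ hn h1,
    actV_s _ _ hk (nfAct9_lt _ _ hn h1)]
  rfl

/-- the check for the normal form number `n` -/
def desChk (n : ℕ) : Bool :=
  forceNat (look4 DP n) fun d => forceNat (look4 CP n) fun k =>
    if d = 15 then
      Nat.beq n 0 ||
        (Nat.blt k 7 && !(Nat.beq (nfAct9 n (nfAct9 n (nfAct9 n (3 ^ k)))) (3 ^ k)))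
    else if d = 0 then reps.contains n
    else
      Nat.blt k 14 &&
      forceNat (conjCol k n 0) fun c0 => forceNat (conjCol k n 1) fun c1 =>
      forceNat (conjCol k n 2) fun c2 => forceNat (conjCol k n 3) fun c3 =>
      forceNat (conjCol k n 4) fun c4 => forceNat (conjCol k n 5) fun c5 =>
      forceNat (conjCol k n 6) fun c6 =>
        Nat.beq (look4 TOPT c0) 0 && Nat.beq (look4 TOPT c1) 1 && Nat.beq (look4 TOPT c2) 2 &&
        Nat.beq (look4 TOPT c3) 3 && Nat.beq (look4 TOPT c4) 4 && Nat.beq (look4 TOPT c5) 5 &&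
        Nat.beq (look4 TOPT c6) 6 &&
        Nat.blt (look4 DP (lookU (keyc c0 c2 c3 c5 c6))) d

theorem nfE_zero : ∀ d, nfE d 0 = 1 := by
  intro d
  induction d with
  | zero => rfl
  | succ d ih => rw [nfE, Nat.zero_mod, Nat.zero_div, pow_zero, mul_one, ih]

theorem cube_act {g : O7} (h : g ^ 3 = 1) (c : ℕ) (hc : c < 2187) :
    actV g (actV g (actV g c)) = c := by
  rw [← actV_mul, ← actV_mul, ← pow_two, ← pow_succ, h, actV_one c hc]

/-- what the check gives -/
theorem desChk_spec (n : ℕ) (hn : n < 19683) (h : desChk n = true) :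
    (n = 0 ∨ (nfE 9 n) ^ 3 ≠ 1) ∨ (n ∈ reps) ∨
      (∃ k < 14, ∃ m < 19683, s k * nfE 9 n * (s k)⁻¹ = nfE 9 m ∧
        look4 DP m < look4 DP n) := by
  unfold desChk at h
  rw [forceNat_eq, forceNat_eq] at h
  by_cases hd : look4 DP n = 15
  · left
    rw [if_pos hd, Bool.or_eq_true] at h
    rcases h with h | h
    · left; exact Nat.eq_of_beq_eq_true h
    · right
      rw [Bool.and_eq_true] at h
      obtain ⟨hk, hne⟩ := h
      have hk7 := lt_of_blt hk
      obtain ⟨hp0, hp1⟩ := pow3_bound hk7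
      have hlt : 3 ^ look4 CP n < 2187 := by omega
      intro h3
      have hc := cube_act h3 _ hlt
      have h1 := nfAct9_lt n _ hn hlt
      have h2 := nfAct9_lt n _ hn h1
      rw [actV_nfE9 n _ hn hlt, actV_nfE9 n _ hn h1, actV_nfE9 n _ hn h2] at hc
      rw [hc] at hne
      simp at hne
  · rw [if_neg hd] at h
    right
    by_cases hd0 : look4 DP n = 0
    · left
      rw [if_pos hd0] at h
      exact List.contains_iff_mem.mp h
    · right
      rw [if_neg hd0] at h
      simp only [forceNat_eq, Bool.and_eq_true] at h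
      obtain ⟨hk, ⟨⟨⟨⟨⟨⟨⟨t0, t1⟩, t2⟩, t3⟩, t4⟩, t5⟩, t6⟩, hdp⟩⟩ := h
      have hk14 := lt_of_blt hk
      refine ⟨look4 CP n, hk14, ?_⟩
      set k := look4 CP n with hkdef
      have hcol : ∀ j < 7, actV (s k * nfE 9 n * (s k)⁻¹) (3 ^ j) = conjCol k n j :=
        fun j hj => actV_conj k n j hk14 hn hj
      have hcl : ∀ j < 7, conjCol k n j < 2187 := by
        intro j hj
        rw [← hcol j hj]
        exact actV_lt _ _
      have hPU : s k * nfE 9 n * (s k)⁻¹ ∈ PU := by
        apply UT_of_cols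
        intro p hp
        rw [hcol p hp]
        interval_cases p
        · exact top_spec (hcl 0 (by norm_num)) (by norm_num) t0
        · exact top_spec (hcl 1 (by norm_num)) (by norm_num) t1
        · exact top_spec (hcl 2 (by norm_num)) (by norm_num) t2
        · exact top_spec (hcl 3 (by norm_num)) (by norm_num) t3
        · exact top_spec (hcl 4 (by norm_num)) (by norm_num) t4
        · exact top_spec (hcl 5 (by norm_num)) (by norm_num) t5
        · exact top_spec (hcl 6 (by norm_num)) (by norm_num) t6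
      obtain ⟨hm, hg⟩ := eq_nfE_of_mem hPU
      have hkey : keyE (s k * nfE 9 n * (s k)⁻¹) =
          keyc (conjCol k n 0) (conjCol k n 2) (conjCol k n 3) (conjCol k n 5) (conjCol k n 6) := by
        unfold keyE
        rw [← hcol 0 (by norm_num), ← hcol 2 (by norm_num), ← hcol 3 (by norm_num),
          ← hcol 5 (by norm_num), ← hcol 6 (by norm_num)]
        norm_num
      rw [hkey] at hm hg
      exact ⟨_, hm, hg, lt_of_blt hdp⟩

/-- the check on a range of indices -/
def desRange (off len : ℕ) : Bool := allBelow (fun i => desChk (i + off)) len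

theorem desRange_spec {off len : ℕ} (h : desRange off len = true) (n : ℕ) (h1 : off ≤ n)
    (h2 : n < off + len) : desChk n = true := by
  have := allBelow_spec h (n - off) (by omega)
  simpa [Nat.sub_add_cancel h1] using this

end Cfsg.Agent.Lib.Helper56_O73Des
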