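import Mathlib
import Cfsg.Agent.Lib.Helper56_O73Des

/-!
# The descent check of `Helper56_O73Des`, indices from 0, 5000 of them

helper56.
-/

set_option autoImplicit false

namespace Cfsg.Agent.Lib.Helper56_O73DesA

open Cfsg.Agent.Lib.Helper56_O73Des

theorem des_ok : desRange 0 5000 = true := by decide +kernel

end Cfsg.Agent.Lib.Helper56_O73DesA
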