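import Mathlib
import Cfsg.Agent.Lib.Helper91_O73Pts
import Cfsg.Agent.Lib.Helper44_Spinor

/-!
# The permutation representation of `O(7,3)` on `Fin 365`, and reflections

helper91.  `phi : isometryGroup (ZMod 3) Q7 →* Perm (Fin 365)`, its values on products of two
reflections in vectors of norm `-1`, and the conjugation formula.
-/

set_option autoImplicit false

namespace Cfsg.Agent.Lib.Helper91_O73Theta

open Matrix Cfsg.Agent.Lib.Helper44_StdForms Cfsg.Agent.Lib.Helper44_Refl
  Cfsg.Agent.Lib.Helper44_Orth Cfsg.Agent.Lib.Helper44_Spinor Cfsg.Agent.Lib.Helper91_O73Pts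

/-- the matrices -/
abbrev M7 : Type := Matrix I7 I7 (ZMod 3)

/-- the isometry group -/
abbrev O7 : Type := ↥(Cfsg.isometryGroup (ZMod 3) (⇑Q7))

/-- the matrix of an isometry -/
def mat (g : O7) : M7 := ((g : Matrix.GeneralLinearGroup I7 (ZMod 3)) : M7)

theorem mat_mul (g h : O7) : mat (g * h) = mat g * mat h := rfl

theorem mat_one : mat 1 = 1 := rfl

theorem q7_mat (g : O7) (v : V7) : q7 (mat g *ᵥ v) = q7 v := by
  have h := (mem_isometryGroup_iff (⇑Q7) g.1).mp g.2 v
  rw [Q7_apply, Q7_apply] at h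
  exact h

/-- the action of a matrix on the 365 "points" -/
def actM (A : M7) (i : Fin 365) : Fin 365 := nrm (A *ᵥ pt i)

theorem actM_one : actM 1 = id := by
  funext i
  simp only [actM, Matrix.one_mulVec, nrm_pt, id]

theorem actM_mul (A : M7) (g : O7) : actM (A * mat g) = actM A ∘ actM (mat g) := by
  funext i
  simp only [actM, Function.comp]
  have hq : q7 (mat g *ᵥ pt i) = 0 := by rw [q7_mat, q7_pt]
  obtain ⟨s, hs, h⟩ := pt_nrm (mat g *ᵥ pt i) hq
  rw [h, Matrix.mulVec_smul, nrm_smul _ _ hs, Matrix.mulVec_mulVec]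

/-- the action as a monoid homomorphism into the endomorphisms of `Fin 365` -/
def phiEnd : O7 →* Function.End (Fin 365) where
  toFun g := actM (mat g)
  map_one' := actM_one
  map_mul' g h := actM_mul (mat g) h

/-- the permutation representation of the isometry group -/
def phi : O7 →* Equiv.Perm (Fin 365) := MonoidHom.toHomPerm phiEnd

theorem phi_apply (g : O7) (i : Fin 365) : phi g i = nrm (mat g *ᵥ pt i) := rfl

/-- the polar form, written out -/
def pol7 (v x : V7) : ZMod 3 := q7 (v + x) - q7 v - q7 x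

theorem polar_eq (v x : V7) : QuadraticMap.polar (⇑Q7) v x = pol7 v x := by
  simp only [QuadraticMap.polar, Q7_apply, pol7]

/-- the reflection in a vector of norm `-1` -/
def rf (v x : V7) : V7 := x + pol7 v x • v

theorem reflectionMatrix_mulVec_rf (v x : V7) (hv : q7 v = -1) :
    Cfsg.reflectionMatrix (⇑Q7) v *ᵥ x = rf v x := by
  rw [reflectionMatrix_mulVec, Q7_apply, hv, polar_eq, rf]
  have : ((-1 : ZMod 3))⁻¹ = -1 := inv_neg_one
  rw [this, neg_one_mul, neg_smul, sub_neg_eq_add]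

theorem Q7_ne_zero {v : V7} (hv : q7 v = -1) : Q7 v ≠ 0 := by
  rw [Q7_apply, hv]; decide

theorem mat_reflT (v : V7) (hv : q7 v = -1) : mat (reflT Q7 v) = Cfsg.reflectionMatrix (⇑Q7) v := by
  rw [mat, reflT_coe Q7 v (Q7_ne_zero hv)]

theorem phi_rr (u v : V7) (hu : q7 u = -1) (hv : q7 v = -1) (i : Fin 365) :
    phi (reflT Q7 u * reflT Q7 v) i = nrm (rf u (rf v (pt i))) := by
  rw [phi_apply, mat_mul, mat_reflT u hu, mat_reflT v hv, ← Matrix.mulVec_mulVec,
    reflectionMatrix_mulVec_rf v _ hv, reflectionMatrix_mulVec_rf u _ hu]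

theorem reflT_mul_self (v : V7) (hv : q7 v = -1) : reflT Q7 v * reflT Q7 v = 1 := by
  rw [reflT_of_ne Q7 v (Q7_ne_zero hv)]
  exact refl_mul_self Q7 v _

theorem reflT_inv (v : V7) (hv : q7 v = -1) : (reflT Q7 v)⁻¹ = reflT Q7 v :=
  inv_eq_of_mul_eq_one_left (reflT_mul_self v hv)

/-- conjugating a reflection -/
theorem reflT_conj (g : O7) (v : V7) (hv : q7 v = -1) :
    g * reflT Q7 v * g⁻¹ = reflT Q7 (mat g *ᵥ v) := by
  have hgv : q7 (mat g *ᵥ v) = -1 := by rw [q7_mat, hv]
  apply Subtype.ext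
  apply Units.ext
  show mat g * mat (reflT Q7 v) * mat g⁻¹ = mat (reflT Q7 (mat g *ᵥ v))
  rw [mat_reflT v hv, mat_reflT _ hgv]
  exact conj_reflectionMatrix Q7 g v

theorem reflT_neg (v : V7) (hv : q7 v = -1) : reflT Q7 (-v) = reflT Q7 v := by
  have hnv : q7 (-v) = -1 := by
    rw [← hv, ← Q7_apply, ← Q7_apply, QuadraticMap.map_neg]
  apply Subtype.ext
  apply Units.ext
  show mat (reflT Q7 (-v)) = mat (reflT Q7 v)
  rw [mat_reflT v hv, mat_reflT _ hnv, reflectionMatrix_neg]

theorem mat_rr_mulVec (v w x : V7) (hv : q7 v = -1) (hw : q7 w = -1) :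
    mat (reflT Q7 v * reflT Q7 w) *ᵥ x = rf v (rf w x) := by
  rw [mat_mul, mat_reflT v hv, mat_reflT w hw, ← Matrix.mulVec_mulVec,
    reflectionMatrix_mulVec_rf w _ hw, reflectionMatrix_mulVec_rf v _ hv]

end Cfsg.Agent.Lib.Helper91_O73Theta
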