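import Mathlib
import Cfsg.Agent.Lib.Helper91_O73Theta

/-!
# Arithmetic of `(ZMod 3)^7` on the codes of the vectors

helper56.  Vector addition, the quadratic form `q7`, its polar form and the reflections in vectors
of norm `1`, computed on the base-3 codes of helper91's `Helper91_O73Pts` by natural-number
arithmetic, with the lemmas linking them to the operations on `V7`.
-/

set_option autoImplicit false

namespace Cfsg.Agent.Lib.Helper56_O73Dig

open Matrix Cfsg.Agent.Lib.Helper91_O73Pts Cfsg.Agent.Lib.Helper91_O73Theta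

/-- force the evaluation of a number before it is used -/
def forceNat {α : Type} (q : ℕ) (f : ℕ → α) : α :=
  Nat.rec (motive := fun _ => α) (f 0) (fun q' _ => f (Nat.succ q')) q

theorem forceNat_eq {α : Type} (q : ℕ) (f : ℕ → α) : forceNat q f = f q := by
  cases q <;> rfl

/-- `f n` for all `n` below the bound -/
def allBelow (f : ℕ → Bool) : ℕ → Bool
  | 0 => true
  | n + 1 => f n && allBelow f n

theorem allBelow_spec {f : ℕ → Bool} : ∀ {N : ℕ}, allBelow f N = true → ∀ n < N, f n = true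
  | 0, _, n, hn => absurd hn (Nat.not_lt_zero n)
  | N + 1, h, n, hn => by
    rw [allBelow, Bool.and_eq_true] at h
    rcases Nat.lt_succ_iff_lt_or_eq.mp hn with h1 | rfl
    · exact allBelow_spec h.2 n h1
    · exact h.1

/-! ### digits -/

theorem dig0 (v : V7) : code v % 3 = (v (Sum.inl ())).val := by
  have h := fun x => ZMod.val_lt (v x)
  have h0 := h (Sum.inl ()); have h1 := h (Sum.inr (Sum.inl 0)); have h2 := h (Sum.inr (Sum.inl 1))
  have h3 := h (Sum.inr (Sum.inl 2)); have h4 := h (Sum.inr (Sum.inr 0))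
  have h5 := h (Sum.inr (Sum.inr 1)); have h6 := h (Sum.inr (Sum.inr 2))
  unfold code; omega

theorem dig1 (v : V7) : code v / 3 % 3 = (v (Sum.inr (Sum.inl 0))).val := by
  have h := fun x => ZMod.val_lt (v x)
  have h0 := h (Sum.inl ()); have h1 := h (Sum.inr (Sum.inl 0)); have h2 := h (Sum.inr (Sum.inl 1))
  have h3 := h (Sum.inr (Sum.inl 2)); have h4 := h (Sum.inr (Sum.inr 0))
  have h5 := h (Sum.inr (Sum.inr 1)); have h6 := h (Sum.inr (Sum.inr 2))
  unfold code; omega

theorem dig2 (v : V7) : code v / 9 % 3 = (v (Sum.inr (Sum.inl 1))).val := by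
  have h := fun x => ZMod.val_lt (v x)
  have h0 := h (Sum.inl ()); have h1 := h (Sum.inr (Sum.inl 0)); have h2 := h (Sum.inr (Sum.inl 1))
  have h3 := h (Sum.inr (Sum.inl 2)); have h4 := h (Sum.inr (Sum.inr 0))
  have h5 := h (Sum.inr (Sum.inr 1)); have h6 := h (Sum.inr (Sum.inr 2))
  unfold code; omega

theorem dig3 (v : V7) : code v / 27 % 3 = (v (Sum.inr (Sum.inl 2))).val := by
  have h := fun x => ZMod.val_lt (v x)
  have h0 := h (Sum.inl ()); have h1 := h (Sum.inr (Sum.inl 0)); have h2 := h (Sum.inr (Sum.inl 1))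
  have h3 := h (Sum.inr (Sum.inl 2)); have h4 := h (Sum.inr (Sum.inr 0))
  have h5 := h (Sum.inr (Sum.inr 1)); have h6 := h (Sum.inr (Sum.inr 2))
  unfold code; omega

theorem dig4 (v : V7) : code v / 81 % 3 = (v (Sum.inr (Sum.inr 0))).val := by
  have h := fun x => ZMod.val_lt (v x)
  have h0 := h (Sum.inl ()); have h1 := h (Sum.inr (Sum.inl 0)); have h2 := h (Sum.inr (Sum.inl 1))
  have h3 := h (Sum.inr (Sum.inl 2)); have h4 := h (Sum.inr (Sum.inr 0))
  have h5 := h (Sum.inr (Sum.inr 1)); have h6 := h (Sum.inr (Sum.inr 2))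
  unfold code; omega

theorem dig5 (v : V7) : code v / 243 % 3 = (v (Sum.inr (Sum.inr 1))).val := by
  have h := fun x => ZMod.val_lt (v x)
  have h0 := h (Sum.inl ()); have h1 := h (Sum.inr (Sum.inl 0)); have h2 := h (Sum.inr (Sum.inl 1))
  have h3 := h (Sum.inr (Sum.inl 2)); have h4 := h (Sum.inr (Sum.inr 0))
  have h5 := h (Sum.inr (Sum.inr 1)); have h6 := h (Sum.inr (Sum.inr 2))
  unfold code; omega

theorem dig6 (v : V7) : code v / 729 % 3 = (v (Sum.inr (Sum.inr 2))).val := by
  have h := fun x => ZMod.val_lt (v x)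
  have h0 := h (Sum.inl ()); have h1 := h (Sum.inr (Sum.inl 0)); have h2 := h (Sum.inr (Sum.inl 1))
  have h3 := h (Sum.inr (Sum.inl 2)); have h4 := h (Sum.inr (Sum.inr 0))
  have h5 := h (Sum.inr (Sum.inr 1)); have h6 := h (Sum.inr (Sum.inr 2))
  unfold code; omega

theorem code_injective {v w : V7} (h : code v = code w) : v = w := by
  rw [← dec_code v, ← dec_code w, h]

theorem code_dec (c : ℕ) (hc : c < 2187) : code (dec c) = c := by
  have h0 : code (dec c) % 3 = c / 3 ^ 0 % 3 := dig0 (dec c)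
  have h1 : code (dec c) / 3 % 3 = c / 3 ^ 1 % 3 := dig1 (dec c)
  have h2 : code (dec c) / 9 % 3 = c / 3 ^ 2 % 3 := dig2 (dec c)
  have h3 : code (dec c) / 27 % 3 = c / 3 ^ 3 % 3 := dig3 (dec c)
  have h4 : code (dec c) / 81 % 3 = c / 3 ^ 4 % 3 := dig4 (dec c)
  have h5 : code (dec c) / 243 % 3 = c / 3 ^ 5 % 3 := dig5 (dec c)
  have h6 : code (dec c) / 729 % 3 = c / 3 ^ 6 % 3 := dig6 (dec c)
  have hl := code_lt (dec c)
  norm_num at h0 h1 h2 h3 h4 h5 h6
  omega

/-! ### addition -/

/-- addition of vectors on codes -/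
def addc (a b : ℕ) : ℕ :=
  (a % 3 + b % 3) % 3 + 3 * ((a / 3 % 3 + b / 3 % 3) % 3) + 9 * ((a / 9 % 3 + b / 9 % 3) % 3)
    + 27 * ((a / 27 % 3 + b / 27 % 3) % 3) + 81 * ((a / 81 % 3 + b / 81 % 3) % 3)
    + 243 * ((a / 243 % 3 + b / 243 % 3) % 3) + 729 * ((a / 729 % 3 + b / 729 % 3) % 3)

theorem code_add (v w : V7) : code (v + w) = addc (code v) (code w) := by
  unfold addc
  rw [dig0, dig1, dig2, dig3, dig4, dig5, dig6, dig0, dig1, dig2, dig3, dig4, dig5, dig6]
  conv_lhs => unfold code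
  simp only [Pi.add_apply, ZMod.val_add]

theorem code_zero : code (0 : V7) = 0 := by
  unfold code
  simp

/-- multiplication of a vector by a scalar `< 3`, on codes -/
def smulc (k a : ℕ) : ℕ :=
  match k with
  | 0 => 0
  | 1 => a
  | _ => addc a a

theorem code_smul (t : ZMod 3) (v : V7) : code (t • v) = smulc t.val (code v) := by
  fin_cases t
  · show code ((0 : ZMod 3) • v) = smulc 0 (code v)
    rw [zero_smul, code_zero]; rfl
  · show code ((1 : ZMod 3) • v) = smulc 1 (code v)
    rw [one_smul]; rfl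
  · show code ((2 : ZMod 3) • v) = smulc 2 (code v)
    rw [two_smul, code_add]; rfl

/-! ### the quadratic form -/

/-- the quadratic form on codes -/
def qN (a : ℕ) : ℕ :=
  ((a % 3) * (a % 3) + (a / 3 % 3) * (a / 81 % 3) + (a / 9 % 3) * (a / 243 % 3)
    + (a / 27 % 3) * (a / 729 % 3)) % 3

theorem val_q7 (v : V7) : (q7 v).val = qN (code v) := by
  unfold qN
  rw [dig0, dig1, dig2, dig3, dig4, dig5, dig6]
  unfold q7
  simp only [ZMod.val_add, ZMod.val_mul]
  simp [Nat.add_mod, Nat.mul_mod]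

/-- the polar form on codes -/
def polN (a b : ℕ) : ℕ := (qN (addc a b) + 6 - qN a - qN b) % 3

theorem qN_lt (a : ℕ) : qN a < 3 := Nat.mod_lt _ (by norm_num)

theorem val_pol7 (v x : V7) : (pol7 v x).val = polN (code v) (code x) := by
  have h1 := val_q7 (v + x)
  have h2 := val_q7 v
  have h3 := val_q7 x
  rw [code_add] at h1
  have key : ∀ a b c : ZMod 3, (a - b - c).val = (a.val + 6 - b.val - c.val) % 3 := by decide
  unfold pol7 polN
  rw [key, h1, h2, h3]

/-! ### reflections in vectors of norm one -/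

/-- reflection in a vector of norm `1` -/
def rf1 (v x : V7) : V7 := x - pol7 v x • v

/-- reflection in a vector of norm `1`, on codes -/
def rfN (b c : ℕ) : ℕ := forceNat (polN b c) fun t => addc c (smulc ((3 - t) % 3) b)

theorem code_rf1 (v x : V7) : code (rf1 v x) = rfN (code v) (code x) := by
  have key : ∀ t : ZMod 3, (-t).val = (3 - t.val) % 3 := by decide
  unfold rf1 rfN
  rw [forceNat_eq, sub_eq_add_neg, ← neg_smul, code_add, code_smul, key, val_pol7]

/-- table lookup: 12-bit entries -/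
def look (T c : ℕ) : ℕ := (T >>> (12 * c)) % 4096

end Cfsg.Agent.Lib.Helper56_O73Dig
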