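import Mathlib
import Cfsg.Agent.Lib.Helper56_O73DesA
import Cfsg.Agent.Lib.Helper56_O73DesB
import Cfsg.Agent.Lib.Helper56_O73DesC
import Cfsg.Agent.Lib.Helper56_O73DesD

/-!
# Every element of order three of `Ω(7,3)` is conjugate to one of seven representatives

helper56.  The group `PU` of unitriangular isometries is a Sylow `3`-subgroup of `Ω(7,3)`, and the
descent check shows that each of its elements of order three is conjugate in `Ω(7,3)` to one of
the seven normal forms with indices in `reps`.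
-/

set_option autoImplicit false
set_option maxHeartbeats 400000

namespace Cfsg.Agent.Lib.Helper56_O73Fus

open Cfsg.Agent.Lib.Helper91_O73Pts Cfsg.Agent.Lib.Helper91_O73Theta
  Cfsg.Agent.Lib.Helper91_O73Omega Cfsg.Agent.Lib.Helper56_O73Dig Cfsg.Agent.Lib.Helper56_O73Act
  Cfsg.Agent.Lib.Helper56_O73Data Cfsg.Agent.Lib.Helper56_O73Tab Cfsg.Agent.Lib.Helper56_O73Uni
  Cfsg.Agent.Lib.Helper56_O73Nf Cfsg.Agent.Lib.Helper56_O73Des

theorem desChk_all (n : ℕ) (hn : n < 19683) : desChk n = true := by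
  rcases lt_or_ge n 5000 with h1 | h1
  · exact desRange_spec Cfsg.Agent.Lib.Helper56_O73DesA.des_ok n (by omega) (by omega)
  rcases lt_or_ge n 10000 with h2 | h2
  · exact desRange_spec Cfsg.Agent.Lib.Helper56_O73DesB.des_ok n (by omega) (by omega)
  rcases lt_or_ge n 15000 with h3 | h3
  · exact desRange_spec Cfsg.Agent.Lib.Helper56_O73DesC.des_ok n (by omega) (by omega)
  · exact desRange_spec Cfsg.Agent.Lib.Helper56_O73DesD.des_ok n (by omega) (by omega)

theorem nfE_inj {n m : ℕ} (hn : n < 19683) (hm : m < 19683) (h : nfE 9 n = nfE 9 m) : n = m :=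
  nfE_injOn (by simpa using hn) (by simpa using hm) h

/-- every normal form of order three is conjugate in `Ω(7,3)` to a representative -/
theorem descent : ∀ d n, look4 DP n = d → n < 19683 → n ≠ 0 → (nfE 9 n) ^ 3 = 1 →
    ∃ r ∈ reps, ∃ c ∈ Om, c * nfE 9 n * c⁻¹ = nfE 9 r := by
  intro d
  induction d using Nat.strong_induction_on with
  | _ d ih =>
    intro n hd hn hn0 h3
    rcases desChk_spec n hn (desChk_all n hn) with h | h | ⟨k, hk, m, hm, hconj, hlt⟩
    · rcases h with h | h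
      · exact absurd h hn0
      · exact absurd h3 h
    · exact ⟨n, h, 1, Om.one_mem, by group⟩
    · have hm0 : m ≠ 0 := by
        rintro rfl
        rw [nfE_zero] at hconj
        have h1 : nfE 9 n = 1 := by
          have : nfE 9 n = (s k)⁻¹ * (s k * nfE 9 n * (s k)⁻¹) * s k := by group
          rw [this, hconj]; group
        rw [← nfE_zero 9] at h1
        exact hn0 (nfE_inj hn (by norm_num) h1)
      have hm3 : (nfE 9 m) ^ 3 = 1 := by
        rw [← hconj, conj_pow, h3]; group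
      rw [hd] at hlt
      obtain ⟨r, hr, c, hc, hcr⟩ := ih _ hlt m rfl hm hm0 hm3
      refine ⟨r, hr, c * s k, Om.mul_mem hc (s_mem k hk), ?_⟩
      rw [← hcr, ← hconj]
      group

/-! ### Sylow's theorem -/

/-- `PU` as a Sylow `3`-subgroup of `Ω(7,3)` -/
noncomputable def sylPO : Sylow 3 Om where
  toSubgroup := PO
  isPGroup' := isPGroup_PO
  is_maximal' := by
    intro Q hQ hle
    have h1 : Nat.card Q ≤ Nat.card PO := by
      rw [card_PO, card_PU]
      exact Nat.le_of_dvd (by norm_num) (card_dvd_of_isPGroup Q hQ)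
    exact (Subgroup.eq_of_le_of_card_ge hle h1).symm

theorem conj_into_sylow {G : Type*} [Group G] [Finite G] {p : ℕ} [Fact p.Prime] (S : Sylow p G)
    (g : G) (hg : g ^ p = 1) : ∃ c : G, c * g * c⁻¹ ∈ (S : Subgroup G) := by
  have hZ : IsPGroup p (Subgroup.zpowers g) := by
    rintro ⟨z, hz⟩
    obtain ⟨k, rfl⟩ := Subgroup.mem_zpowers_iff.mp hz
    refine ⟨1, Subtype.ext ?_⟩
    rw [pow_one, Subgroup.coe_pow, Subgroup.coe_one, ← zpow_natCast, zpow_comm, zpow_natCast, hg,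
      one_zpow]
  obtain ⟨Q, hQ⟩ := hZ.exists_le_sylow
  obtain ⟨c, hc⟩ := MulAction.exists_smul_eq G Q S
  have hmem : g ∈ (Q : Subgroup G) := hQ (Subgroup.mem_zpowers _)
  refine ⟨c, ?_⟩
  rw [← hc]
  show c * g * c⁻¹ ∈ ((c • Q : Sylow p G) : Subgroup G)
  rw [Sylow.smul_def, Sylow.pointwise_smul_def, Subgroup.mem_pointwise_smul_iff_inv_smul_mem]
  simp only [MulAut.smul_def, MulAut.conj_inv_apply]
  have : c⁻¹ * (c * g * c⁻¹) * c = g := by group
  rw [this]
  exact hmem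

theorem conj_into_PU (g : O7) (hg : g ∈ Om) (h3 : g ^ 3 = 1) : ∃ c ∈ Om, c * g * c⁻¹ ∈ PU := by
  have hg3 : (⟨g, hg⟩ : Om) ^ 3 = 1 := Subtype.ext h3
  haveI : Fact (Nat.Prime 3) := ⟨by norm_num⟩
  obtain ⟨c, hc⟩ := conj_into_sylow sylPO (⟨g, hg⟩ : Om) hg3
  refine ⟨c.1, c.2, ?_⟩
  have h2 : c * ⟨g, hg⟩ * c⁻¹ ∈ PO := hc
  exact Subgroup.mem_subgroupOf.mp h2

/-- every element of order three of `Ω(7,3)` is conjugate to a representative -/
theorem order3_conj (g : O7) (hg : g ∈ Om) (h3 : g ^ 3 = 1) (h1 : g ≠ 1) :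
    ∃ r ∈ reps, ∃ c ∈ Om, c * g * c⁻¹ = nfE 9 r := by
  obtain ⟨c0, hc0, hP⟩ := conj_into_PU g hg h3
  obtain ⟨n, hn, hgn⟩ := exists_nf hP
  have hn0 : n ≠ 0 := by
    rintro rfl
    rw [nfE_zero] at hgn
    apply h1
    have : g = c0⁻¹ * (c0 * g * c0⁻¹) * c0 := by group
    rw [this, hgn]; group
  have hn3 : (nfE 9 n) ^ 3 = 1 := by
    rw [← hgn, conj_pow, h3]; group
  obtain ⟨r, hr, c, hc, hcr⟩ := descent _ n rfl hn hn0 hn3
  refine ⟨r, hr, c * c0, Om.mul_mem hc hc0, ?_⟩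
  rw [← hcr, ← hgn]
  group

end Cfsg.Agent.Lib.Helper56_O73Fus
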