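import Mathlib
import Cfsg.Agent.Lib.Helper56_O73Des

/-!
# Fixed vectors of given norm: a conjugacy invariant in `O(7,3)`

helper56.  The number of vectors of norm `t` fixed by an isometry is invariant under conjugation
and inversion; for the normal forms it is computed on the vector codes.
-/

set_option autoImplicit false

namespace Cfsg.Agent.Lib.Helper56_O73Inv

open Matrix Cfsg.Agent.Lib.Helper91_O73Pts Cfsg.Agent.Lib.Helper91_O73Theta
  Cfsg.Agent.Lib.Helper91_O73Omega Cfsg.Agent.Lib.Helper56_O73Dig Cfsg.Agent.Lib.Helper56_O73Act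
  Cfsg.Agent.Lib.Helper56_O73Data Cfsg.Agent.Lib.Helper56_O73Tab Cfsg.Agent.Lib.Helper56_O73Uni
  Cfsg.Agent.Lib.Helper56_O73Nf Cfsg.Agent.Lib.Helper56_O73Des

open Classical in
/-- the number of vectors of norm `t` fixed by `g` -/
noncomputable def fixCount (g : O7) (t : ZMod 3) : ℕ :=
  (Finset.univ.filter fun v : V7 => mat g *ᵥ v = v ∧ q7 v = t).card

theorem mat_inv_mulVec (c : O7) (v : V7) : mat c⁻¹ *ᵥ (mat c *ᵥ v) = v := by
  rw [Matrix.mulVec_mulVec, ← mat_mul, inv_mul_cancel, mat_one, Matrix.one_mulVec]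

theorem mat_mulVec_inv (c : O7) (v : V7) : mat c *ᵥ (mat c⁻¹ *ᵥ v) = v := by
  rw [Matrix.mulVec_mulVec, ← mat_mul, mul_inv_cancel, mat_one, Matrix.one_mulVec]

/-- the action of an isometry on vectors, as a permutation -/
noncomputable def actL (c : O7) : V7 ≃ V7 where
  toFun v := mat c *ᵥ v
  invFun v := mat c⁻¹ *ᵥ v
  left_inv := mat_inv_mulVec c
  right_inv := mat_mulVec_inv c

theorem fixCount_conj (c g : O7) (t : ZMod 3) : fixCount (c * g * c⁻¹) t = fixCount g t := by
  unfold fixCount
  symm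
  apply Finset.card_equiv (actL c)
  intro v
  simp only [Finset.mem_filter, Finset.mem_univ, true_and]
  show (mat g *ᵥ v = v ∧ q7 v = t) ↔
    (mat (c * g * c⁻¹) *ᵥ (mat c *ᵥ v) = mat c *ᵥ v ∧ q7 (mat c *ᵥ v) = t)
  rw [q7_mat, Matrix.mulVec_mulVec, ← mat_mul, inv_mul_cancel_right, mat_mul,
    ← Matrix.mulVec_mulVec]
  constructor
  · rintro ⟨h1, h2⟩
    exact ⟨by rw [h1], h2⟩
  · rintro ⟨h1, h2⟩
    refine ⟨?_, h2⟩
    have := congrArg (fun w => mat c⁻¹ *ᵥ w) h1
    simpa only [mat_inv_mulVec] using this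

theorem fixCount_inv (g : O7) (t : ZMod 3) : fixCount g⁻¹ t = fixCount g t := by
  unfold fixCount
  congr 1
  apply Finset.filter_congr
  intro v _
  constructor
  · rintro ⟨h1, h2⟩
    refine ⟨?_, h2⟩
    have := congrArg (fun w => mat g *ᵥ w) h1
    simp only [mat_mulVec_inv] at this
    exact this.symm
  · rintro ⟨h1, h2⟩
    refine ⟨?_, h2⟩
    have := congrArg (fun w => mat g⁻¹ *ᵥ w) h1
    simp only [mat_inv_mulVec] at this
    exact this.symm

/-- counting below a bound -/
def cnt (f : ℕ → Bool) : ℕ → ℕ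
  | 0 => 0
  | n + 1 => (if f n then 1 else 0) + cnt f n

theorem cnt_eq (f : ℕ → Bool) : ∀ N, cnt f N = ((Finset.range N).filter fun c => f c = true).card
  | 0 => rfl
  | N + 1 => by
    rw [cnt, cnt_eq f N, Finset.range_add_one, Finset.filter_insert]
    by_cases h : f N = true
    · rw [if_pos h, if_pos h, Finset.card_insert_of_notMem (by simp), add_comm]
    · rw [if_neg h, if_neg h, zero_add]

/-- the number of fixed codes of norm `t` of the normal form number `r` -/
def fixN (r t : ℕ) : ℕ := cnt (fun c => Nat.beq (nfAct9 r c) c && Nat.beq (qN c) t) 2187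

theorem fixCount_nfE (r : ℕ) (hr : r < 19683) (t : ZMod 3) :
    fixCount (nfE 9 r) t = fixN r t.val := by
  unfold fixCount fixN
  rw [cnt_eq]
  apply Finset.card_bij (fun v _ => code v)
  · intro v hv
    simp only [Finset.mem_filter, Finset.mem_univ, true_and] at hv
    simp only [Finset.mem_filter, Finset.mem_range, Bool.and_eq_true]
    refine ⟨code_lt v, ?_, ?_⟩
    · rw [← actV_nfE9 r _ hr (code_lt v)]
      unfold actV
      rw [dec_code, hv.1]
      exact Nat.beq_refl _
    · rw [← val_q7, hv.2]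
      exact Nat.beq_refl _
  · intro v _ w _ h
    exact code_injective h
  · intro c hc
    simp only [Finset.mem_filter, Finset.mem_range, Bool.and_eq_true] at hc
    obtain ⟨hc1, hc2, hc3⟩ := hc
    refine ⟨dec c, ?_, code_dec c hc1⟩
    simp only [Finset.mem_filter, Finset.mem_univ, true_and]
    constructor
    · apply code_injective
      have := Nat.eq_of_beq_eq_true hc2
      rw [← actV_nfE9 r _ hr hc1] at this
      rw [code_dec c hc1]
      exact this
    · apply ZMod.val_injective
      rw [val_q7, code_dec c hc1]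
      exact Nat.eq_of_beq_eq_true hc3

/-- the indices of the representatives -/
def repN : Fin 7 → ℕ := ![10, 4, 975, 1, 11, 9, 249]

/-- the invariants of the representatives -/
def sig : Fin 7 → ℕ × ℕ := ![(27, 0), (9, 18), (9, 0), (81, 108), (27, 0), (99, 72), (63, 90)]

theorem sig_eq : ∀ i : Fin 7, (fixN (repN i) 0, fixN (repN i) 1) = sig i := by decide +kernel

end Cfsg.Agent.Lib.Helper56_O73Inv
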