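import Mathlib
import Cfsg.Agent.Lib.Helper56_O73Cen
import Cfsg.Agent.Lib.Helper56_O73Des

/-!
# The class of elements of Jordan type `[3,2,2]` of `SO(7,3)` splits in `Ω(7,3)`

helper56.  The elements `x = nfE 9 10` and `nfE 9 11 = h * x * h⁻¹`, with `h` of determinant one and
spinor norm a non-square, are not conjugate in `Ω(7,3)`, nor is `x` conjugate to the inverse of
`nfE 9 11`: the centraliser of `x` in `SO(7,3)` lies in `Ω(7,3)`.
-/

set_option autoImplicit false

namespace Cfsg.Agent.Lib.Helper56_O73Split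

open Matrix Cfsg.Agent.Lib.Helper44_Spinor Cfsg.Agent.Lib.Helper44_OmegaOdd
  Cfsg.Agent.Lib.Helper91_O73Pts Cfsg.Agent.Lib.Helper91_O73Theta
  Cfsg.Agent.Lib.Helper91_O73Omega Cfsg.Agent.Lib.Helper56_O73Dig Cfsg.Agent.Lib.Helper56_O73Act
  Cfsg.Agent.Lib.Helper56_O73Data Cfsg.Agent.Lib.Helper56_O73Tab Cfsg.Agent.Lib.Helper56_O73Uni
  Cfsg.Agent.Lib.Helper56_O73Nf Cfsg.Agent.Lib.Helper56_O73Des Cfsg.Agent.Lib.Helper56_O73Cen

/-! ### determinants -/

theorem det_of_mem_Om {g : O7} (hg : g ∈ Om) : (mat g).det = 1 :=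
  ((mem_omega_iff_det_theta two_ne_zero3 Q7 nondeg_Q7 g).mp hg).1

theorem mat_negOne : mat (negOne Q7) = -1 := rfl

theorem negOne_comm (g : O7) : negOne Q7 * g = g * negOne Q7 := by
  apply mat_injective
  rw [mat_mul, mat_mul, mat_negOne, neg_mul, mul_neg, one_mul, mul_one]

theorem det_negOne_mul (g : O7) : (mat (negOne Q7 * g)).det = -(mat g).det := by
  rw [mat_mul, mat_negOne, neg_mul, one_mul, Matrix.det_neg, card_I7]
  norm_num

theorem actV_negOne_54 : actV (negOne Q7) 54 = 27 := by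
  unfold actV
  rw [mat_negOne, Matrix.neg_mulVec, Matrix.one_mulVec]
  decide

/-! ### the centraliser of `x` -/

theorem xx_img_ok :
    allBelow (fun u => forceNat (xx u) fun v => Nat.beq v 0 || (Nat.beq v 27 || Nat.beq v 54))
      2187 = true := by
  decide +kernel

theorem xx_img (u : ℕ) (hu : u < 2187) : xx u = 0 ∨ xx u = 27 ∨ xx u = 54 := by
  have h := allBelow_spec xx_img_ok u hu
  rw [forceNat_eq] at h
  simp only [Bool.or_eq_true] at h
  rcases h with h | h | h
  · exact Or.inl (Nat.eq_of_beq_eq_true h)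
  · exact Or.inr (Or.inl (Nat.eq_of_beq_eq_true h))
  · exact Or.inr (Or.inr (Nat.eq_of_beq_eq_true h))

/-- the centraliser of `x` in the special orthogonal group lies in `Ω(7,3)` -/
theorem mem_Om_of_comm_of_det {z : O7} (hz : z * x = x * z) (hdet : (mat z).det = 1) :
    z ∈ Om := by
  have hx1 : xx 729 = 27 := X_vals.2.2.2.2.1
  have h1 : actV z 27 = xx (actV z 729) := by
    rw [← actV_xx hz 729 (by norm_num), hx1]
  rcases xx_img (actV z 729) (actV_lt _ _) with h | h | h
  · rw [h] at h1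
    have := actV_inj z (by norm_num) (by norm_num) (h1.trans (actV_zero z).symm)
    norm_num at this
  · rw [h] at h1
    exact mem_Om_of_comm_of_fix hz h1
  · rw [h] at h1
    exfalso
    have hz' : (negOne Q7 * z) * x = x * (negOne Q7 * z) := by
      rw [mul_assoc, hz, ← mul_assoc, negOne_comm x, mul_assoc]
    have h27 : actV (negOne Q7 * z) 27 = 27 := by
      rw [actV_mul, h1, actV_negOne_54]
    have hmem := mem_Om_of_comm_of_fix hz' h27
    have hd := det_of_mem_Om hmem
    rw [det_negOne_mul, hdet] at hd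
    revert hd
    decide

/-! ### the element `h` -/

theorem q7_84 : q7 (dec 84) = 1 := by decide

theorem q7_165 : q7 (dec 165) = -1 := by decide

/-- an isometry of determinant one outside `Ω(7,3)` -/
noncomputable def hh : O7 := reflT Q7 (dec 84) * reflT Q7 (dec 165)

theorem hh_vs : ∀ v ∈ [dec 84, dec 165], Q7 v ≠ 0 := by
  intro v hv
  simp only [List.mem_cons, List.not_mem_nil, or_false] at hv
  rcases hv with rfl | rfl
  · exact Q7_ne_zero1 q7_84
  · exact Q7_ne_zero q7_165

theorem mat_hh : mat hh = ([dec 84, dec 165].map (fun v => Cfsg.reflectionMatrix (⇑Q7) v)).prod := by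
  have := prod_reflT_coe Q7 [dec 84, dec 165] hh_vs
  simpa [hh, mat, mul_assoc] using this

theorem hh_not_mem : hh ∉ Om := by
  rw [Om, mem_omega_iff Q7 two_ne_zero3 hh [dec 84, dec 165] hh_vs mat_hh]
  rintro ⟨-, h⟩
  simp only [List.map_cons, List.map_nil, List.prod_cons, List.prod_nil, mul_one, Q7_apply,
    q7_84, q7_165, one_mul] at h
  revert h
  decide

theorem det_hh : (mat hh).det = 1 := by
  rw [mat_hh, det_prod Q7 _ hh_vs]
  norm_num

/-- reflection in a vector of norm `-1`, on codes -/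
def rfM (b c : ℕ) : ℕ := forceNat (polN b c) fun t => addc c (smulc t b)

theorem code_rf (v w : V7) : code (rf v w) = rfM (code v) (code w) := by
  unfold rf rfM
  rw [forceNat_eq, code_add, code_smul, val_pol7]

/-- the action of `hh` on codes -/
def actH (c : ℕ) : ℕ := forceNat (rfM 165 c) fun m => rfN 84 m

theorem actV_hh (c : ℕ) (hc : c < 2187) : actV hh c = actH c := by
  unfold actV actH hh
  rw [forceNat_eq, mat_mul, mat_reflT1 _ q7_84, mat_reflT _ q7_165, ← Matrix.mulVec_mulVec,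
    reflectionMatrix_mulVec_rf _ _ q7_165, reflectionMatrix_mulVec_rf1 _ _ q7_84, code_rf1, code_rf,
    code_dec 84 (by norm_num), code_dec 165 (by norm_num), code_dec c hc]

/-! ### the relations -/

theorem actV_xX (c : ℕ) (hc : c < 2187) : actV x c = X c := actV_x c hc

theorem rel_ok :
    allBelow (fun j =>
      Nat.beq (X (3 ^ j)) (nfAct9 10 (3 ^ j)) &&
      (Nat.beq (actH (X (3 ^ j))) (nfAct9 11 (actH (3 ^ j))) &&
      (Nat.beq (X (X (X (3 ^ j)))) (3 ^ j) &&
      Nat.beq (actW wI (X (3 ^ j))) (X (X (actW wI (3 ^ j))))))) 7 = true := by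
  decide +kernel

theorem wI_ok : wI.all (fun k => decide (k < 6)) = true := by decide +kernel

theorem wI_lt : ∀ k ∈ wI, k < 6 := fun k hk => of_decide_eq_true (List.all_eq_true.mp wI_ok k hk)

theorem iota_mem : iota ∈ Om := el_mem _ wI_lt

theorem x_eq_nf : x = nfE 9 10 := by
  apply ext_of_actV
  intro j hj
  obtain ⟨hp0, hp1⟩ := pow3_bound hj
  have h := allBelow_spec rel_ok j hj
  simp only [Bool.and_eq_true] at h
  rw [actV_xX _ (by omega), actV_nfE9 10 _ (by norm_num) (by omega)]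
  exact Nat.eq_of_beq_eq_true h.1

theorem hh_conj : hh * x = nfE 9 11 * hh := by
  apply ext_of_actV
  intro j hj
  obtain ⟨hp0, hp1⟩ := pow3_bound hj
  have hlt : 3 ^ j < 2187 := by omega
  have h := allBelow_spec rel_ok j hj
  simp only [Bool.and_eq_true] at h
  have hH : actH (3 ^ j) < 2187 := by rw [← actV_hh _ hlt]; exact actV_lt _ _
  rw [actV_mul, actV_mul, actV_xX _ hlt, actV_hh _ (X_lt _ hlt), actV_hh _ hlt,
    actV_nfE9 11 _ (by norm_num) hH]
  exact Nat.eq_of_beq_eq_true h.2.1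

theorem x_cube : x * x * x = 1 := by
  apply ext_of_actV
  intro j hj
  obtain ⟨hp0, hp1⟩ := pow3_bound hj
  have hlt : 3 ^ j < 2187 := by omega
  have h := allBelow_spec rel_ok j hj
  simp only [Bool.and_eq_true] at h
  rw [actV_mul, actV_mul, actV_xX _ hlt, actV_xX _ (X_lt _ hlt), actV_xX _ (X_lt _ (X_lt _ hlt)),
    actV_one _ hlt]
  exact Nat.eq_of_beq_eq_true h.2.2.1

theorem iota_conj : iota * x = x * x * iota := by
  apply ext_of_actV
  intro j hj
  obtain ⟨hp0, hp1⟩ := pow3_bound hj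
  have hlt : 3 ^ j < 2187 := by omega
  have h := allBelow_spec rel_ok j hj
  simp only [Bool.and_eq_true] at h
  have hI : actW wI (3 ^ j) < 2187 := by
    rw [← actV_el wI wI_lt _ hlt]; exact actV_lt _ _
  rw [actV_mul, actV_mul, actV_mul, actV_xX _ hlt]
  unfold iota
  rw [actV_el wI wI_lt _ (X_lt _ hlt), actV_el wI wI_lt _ hlt, actV_xX _ hI, actV_xX _ (X_lt _ hI)]
  exact Nat.eq_of_beq_eq_true h.2.2.2

/-! ### non-conjugacy -/

theorem x_inv : x⁻¹ = x * x := by
  apply inv_eq_of_mul_eq_one_right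
  rw [← mul_assoc]
  exact x_cube

/-- `nfE 9 10` is not conjugate in `Ω(7,3)` to `nfE 9 11` or to its inverse -/
theorem not_conj_10_11 (c : O7) (hc : c ∈ Om) :
    c * nfE 9 10 * c⁻¹ ≠ nfE 9 11 ∧ c * nfE 9 10 * c⁻¹ ≠ (nfE 9 11)⁻¹ := by
  rw [← x_eq_nf]
  have hx' : nfE 9 11 = hh * x * hh⁻¹ := by
    rw [hh_conj]; group
  constructor
  · intro h
    -- `hh⁻¹ * c` commutes with `x`
    have hz : (hh⁻¹ * c) * x = x * (hh⁻¹ * c) := by
      have h1 : c * x = hh * x * hh⁻¹ * c := by
        rw [← hx', ← h]; group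
      calc (hh⁻¹ * c) * x = hh⁻¹ * (c * x) := by group
        _ = hh⁻¹ * (hh * x * hh⁻¹ * c) := by rw [h1]
        _ = x * (hh⁻¹ * c) := by group
    have hdet : (mat (hh⁻¹ * c)).det = 1 := by
      have h1 : (mat hh⁻¹).det * (mat hh).det = 1 := by
        rw [← Matrix.det_mul, ← mat_mul, inv_mul_cancel, mat_one, Matrix.det_one]
      rw [det_hh, mul_one] at h1
      rw [mat_mul, Matrix.det_mul, h1, det_of_mem_Om hc, one_mul]
    have hmem := mem_Om_of_comm_of_det hz hdet
    apply hh_not_mem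
    have : hh = c * (hh⁻¹ * c)⁻¹ := by group
    rw [this]
    exact Om.mul_mem hc (Om.inv_mem hmem)
  · intro h
    -- `(hh * iota)⁻¹ * c` commutes with `x`
    have hxi : x⁻¹ = iota * x * iota⁻¹ := by
      rw [iota_conj, x_inv]; group
    have h1 : c * x * c⁻¹ = (hh * iota) * x * (hh * iota)⁻¹ := by
      rw [h, hx']
      have : (hh * x * hh⁻¹)⁻¹ = hh * x⁻¹ * hh⁻¹ := by group
      rw [this, hxi]; group
    have hz : ((hh * iota)⁻¹ * c) * x = x * ((hh * iota)⁻¹ * c) := by
      have h2 : c * x = (hh * iota) * x * (hh * iota)⁻¹ * c := by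
        rw [← h1]; group
      calc ((hh * iota)⁻¹ * c) * x = (hh * iota)⁻¹ * (c * x) := by group
        _ = (hh * iota)⁻¹ * ((hh * iota) * x * (hh * iota)⁻¹ * c) := by rw [h2]
        _ = x * ((hh * iota)⁻¹ * c) := by group
    have hdet : (mat ((hh * iota)⁻¹ * c)).det = 1 := by
      have h1 : (mat (hh * iota)⁻¹).det * (mat (hh * iota)).det = 1 := by
        rw [← Matrix.det_mul, ← mat_mul, inv_mul_cancel, mat_one, Matrix.det_one]
      rw [mat_mul hh iota, Matrix.det_mul, det_hh, det_of_mem_Om iota_mem, mul_one, mul_one] at h1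
      rw [mat_mul, Matrix.det_mul, h1, det_of_mem_Om hc, one_mul]
    have hmem := mem_Om_of_comm_of_det hz hdet
    apply hh_not_mem
    have : hh = c * ((hh * iota)⁻¹ * c)⁻¹ * iota⁻¹ := by group
    rw [this]
    exact Om.mul_mem (Om.mul_mem hc (Om.inv_mem hmem)) (Om.inv_mem iota_mem)

end Cfsg.Agent.Lib.Helper56_O73Split
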