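import Mathlib
import Cfsg.Agent.Lib.Helper56_O73Fus
import Cfsg.Agent.Lib.Helper56_O73Inv
import Cfsg.Agent.Lib.Helper56_O73Split

/-!
# `Ω(7,3)` has exactly seven conjugacy classes of subgroups of order three

helper56.  The statement for the subgroup `Om` of the isometry group, and a lemma transporting
such a statement along an isomorphism.
-/

set_option autoImplicit false
set_option maxHeartbeats 400000

namespace Cfsg.Agent.Lib.Helper56_O73Main

open Cfsg.Agent.Lib.Helper91_O73Pts Cfsg.Agent.Lib.Helper91_O73Theta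
  Cfsg.Agent.Lib.Helper91_O73Omega Cfsg.Agent.Lib.Helper56_O73Dig Cfsg.Agent.Lib.Helper56_O73Act
  Cfsg.Agent.Lib.Helper56_O73Data Cfsg.Agent.Lib.Helper56_O73Tab Cfsg.Agent.Lib.Helper56_O73Uni
  Cfsg.Agent.Lib.Helper56_O73Nf Cfsg.Agent.Lib.Helper56_O73Des Cfsg.Agent.Lib.Helper56_O73Fus
  Cfsg.Agent.Lib.Helper56_O73Inv Cfsg.Agent.Lib.Helper56_O73Split

/-! ### generalities -/

theorem mem_zpowers_order3 {G : Type*} [Group G] {a z : G} (ha : a ^ 3 = 1)
    (hz : z ∈ Subgroup.zpowers a) : z = 1 ∨ z = a ∨ z = a⁻¹ := by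
  obtain ⟨k, rfl⟩ := Subgroup.mem_zpowers_iff.mp hz
  rw [zpow_eq_zpow_emod' k ha]
  have h0 : 0 ≤ k % (3 : ℕ) := Int.emod_nonneg _ (by norm_num)
  have h3 : k % (3 : ℕ) < 3 := Int.emod_lt_of_pos _ (by norm_num)
  obtain ⟨m, hm⟩ : ∃ m : ℤ, k % (3 : ℕ) = m := ⟨_, rfl⟩
  rw [hm] at h0 h3 ⊢
  interval_cases m
  · left; exact zpow_zero a
  · right; left; exact zpow_one a
  · right; right
    apply eq_inv_of_mul_eq_one_left
    have : a ^ (2 : ℤ) * a = a ^ 3 := by
      rw [show (2 : ℤ) = ((2 : ℕ) : ℤ) by norm_num, zpow_natCast, ← pow_succ]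
    rw [this, ha]

theorem map_conj_map {G H : Type*} [Group G] [Group H] (e : G ≃* H) (K : Subgroup G) (g : G) :
    (K.map (MulAut.conj g).toMonoidHom).map e.toMonoidHom =
      (K.map e.toMonoidHom).map (MulAut.conj (e g)).toMonoidHom := by
  rw [Subgroup.map_map, Subgroup.map_map]
  congr 1
  ext y
  simp

/-- transport of a classification of the subgroups of a given order up to conjugacy -/
theorem transport_classes {G H : Type*} [Group G] [Group H] (e : G ≃* H) {n k : ℕ}
    (h : ∃ Y : Fin n → Subgroup H, (∀ i, Nat.card (Y i) = k) ∧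
      (∀ i j, (∃ g : H, (Y i).map (MulAut.conj g).toMonoidHom = Y j) → i = j) ∧
      (∀ X : Subgroup H, Nat.card X = k → ∃ i, ∃ g : H,
        X.map (MulAut.conj g).toMonoidHom = Y i)) :
    ∃ Y : Fin n → Subgroup G, (∀ i, Nat.card (Y i) = k) ∧
      (∀ i j, (∃ g : G, (Y i).map (MulAut.conj g).toMonoidHom = Y j) → i = j) ∧
      (∀ X : Subgroup G, Nat.card X = k → ∃ i, ∃ g : G,
        X.map (MulAut.conj g).toMonoidHom = Y i) := by
  obtain ⟨Y, h1, h2, h3⟩ := h
  have hback : ∀ K : Subgroup H, (K.map e.symm.toMonoidHom).map e.toMonoidHom = K := by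
    intro K
    rw [Subgroup.map_map]
    have : e.toMonoidHom.comp e.symm.toMonoidHom = MonoidHom.id H := by
      ext y; simp
    rw [this, Subgroup.map_id]
  have hforth : ∀ K : Subgroup G, (K.map e.toMonoidHom).map e.symm.toMonoidHom = K := by
    intro K
    rw [Subgroup.map_map]
    have : e.symm.toMonoidHom.comp e.toMonoidHom = MonoidHom.id G := by
      ext y; simp
    rw [this, Subgroup.map_id]
  refine ⟨fun i => (Y i).map e.symm.toMonoidHom, fun i => ?_, fun i j => ?_, fun X hX => ?_⟩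
  · rw [Subgroup.card_map_of_injective e.symm.injective]
    exact h1 i
  · rintro ⟨g, hg⟩
    apply h2 i j
    refine ⟨e g, ?_⟩
    have := congrArg (Subgroup.map e.toMonoidHom) hg
    rw [map_conj_map, hback, hback] at this
    exact this
  · have hc : Nat.card (X.map e.toMonoidHom) = k := by
      rw [Subgroup.card_map_of_injective e.injective]
      exact hX
    obtain ⟨i, g, hg⟩ := h3 _ hc
    refine ⟨i, e.symm g, ?_⟩
    have := congrArg (Subgroup.map e.symm.toMonoidHom) hg
    rw [map_conj_map, hforth] at this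
    exact this

/-! ### the seven classes -/

theorem repN_lt : ∀ i, repN i < 19683 := by decide

theorem repN_ne : ∀ i, repN i ≠ 0 := by decide

theorem reps_repN : ∀ r ∈ reps, ∃ i, repN i = r := by decide

theorem cube_ok :
    allBelow (fun i => forceNat (reps.getD i 0) fun r =>
      allBelow (fun j => Nat.beq (nfAct9 r (nfAct9 r (nfAct9 r (3 ^ j)))) (3 ^ j)) 7) 7 = true := by
  decide +kernel

theorem repN_eq_getD : ∀ i : Fin 7, repN i = reps.getD i.val 0 := by decide

theorem rep_cube (i : Fin 7) : (nfE 9 (repN i)) ^ 3 = 1 := by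
  have h := allBelow_spec cube_ok i.val i.isLt
  rw [forceNat_eq, ← repN_eq_getD] at h
  have hr := repN_lt i
  rw [pow_succ, pow_two]
  apply ext_of_actV
  intro j hj
  obtain ⟨hp0, hp1⟩ := pow3_bound hj
  have hlt : 3 ^ j < 2187 := by omega
  have h1 := nfAct9_lt _ _ hr hlt
  have h2 := nfAct9_lt _ _ hr h1
  rw [actV_mul, actV_mul, actV_nfE9 _ _ hr hlt, actV_nfE9 _ _ hr h1, actV_nfE9 _ _ hr h2,
    actV_one _ hlt]
  exact Nat.eq_of_beq_eq_true (allBelow_spec h j hj)

theorem rep_ne_one (i : Fin 7) : nfE 9 (repN i) ≠ 1 := by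
  intro h
  rw [← nfE_zero 9] at h
  exact repN_ne i (nfE_inj (repN_lt i) (by norm_num) h)

/-- the representatives as elements of `Ω(7,3)` -/
noncomputable def repE (i : Fin 7) : Om := ⟨nfE 9 (repN i), nfE_mem_Om 9 le_rfl _⟩

theorem repE_cube (i : Fin 7) : (repE i) ^ 3 = 1 := Subtype.ext (rep_cube i)

theorem repE_ne_one (i : Fin 7) : repE i ≠ 1 := fun h => rep_ne_one i (congrArg Subtype.val h)

theorem card_zpowers_repE (i : Fin 7) : Nat.card (Subgroup.zpowers (repE i)) = 3 := by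
  rw [Nat.card_zpowers]
  have : Fact (Nat.Prime 3) := ⟨by norm_num⟩
  exact orderOf_eq_prime (repE_cube i) (repE_ne_one i)

theorem sig_inj : ∀ i j : Fin 7, sig i = sig j → i = j ∨ (i = 0 ∧ j = 4) ∨ (i = 4 ∧ j = 0) := by
  decide

theorem fix_eq_of_conj {i j : Fin 7} {c : O7}
    (h : c * nfE 9 (repN i) * c⁻¹ = nfE 9 (repN j) ∨
      c * nfE 9 (repN i) * c⁻¹ = (nfE 9 (repN j))⁻¹) : sig i = sig j := by
  have key : ∀ t : ZMod 3, fixN (repN i) t.val = fixN (repN j) t.val := by
    intro t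
    rw [← fixCount_nfE _ (repN_lt i), ← fixCount_nfE _ (repN_lt j), ← fixCount_conj c]
    rcases h with h | h
    · rw [h]
    · rw [h, fixCount_inv]
  rw [← sig_eq i, ← sig_eq j]
  exact Prod.ext (key 0) (key 1)

theorem main_Om : ∃ Y : Fin 7 → Subgroup Om, (∀ i, Nat.card (Y i) = 3) ∧
    (∀ i j, (∃ g : Om, (Y i).map (MulAut.conj g).toMonoidHom = Y j) → i = j) ∧
    (∀ X : Subgroup Om, Nat.card X = 3 → ∃ i, ∃ g : Om,
      X.map (MulAut.conj g).toMonoidHom = Y i) := by
  refine ⟨fun i => Subgroup.zpowers (repE i), card_zpowers_repE, ?_, ?_⟩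
  · rintro i j ⟨g, hg⟩
    -- the conjugate of the generator lies in `Y j`
    have hg' : (Subgroup.zpowers (repE i)).map (MulAut.conj g).toMonoidHom =
        Subgroup.zpowers (repE j) := hg
    have hmem : g * repE i * g⁻¹ ∈ Subgroup.zpowers (repE j) := by
      rw [← hg']
      exact Subgroup.mem_map.mpr ⟨repE i, Subgroup.mem_zpowers _, rfl⟩
    have hcases := mem_zpowers_order3 (repE_cube j) hmem
    have hne : g * repE i * g⁻¹ ≠ 1 := by
      intro h
      apply repE_ne_one i
      have : repE i = g⁻¹ * (g * repE i * g⁻¹) * g := by group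
      rw [this, h]; group
    have h2 : g.1 * nfE 9 (repN i) * g.1⁻¹ = nfE 9 (repN j) ∨
        g.1 * nfE 9 (repN i) * g.1⁻¹ = (nfE 9 (repN j))⁻¹ := by
      rcases hcases with h | h | h
      · exact absurd h hne
      · left; exact congrArg Subtype.val h
      · right; exact congrArg Subtype.val h
    rcases sig_inj i j (fix_eq_of_conj h2) with h | ⟨rfl, rfl⟩ | ⟨rfl, rfl⟩
    · exact h
    · exfalso
      have hn := not_conj_10_11 g.1 g.2
      rcases h2 with h | h
      · exact hn.1 h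
      · exact hn.2 h
    · exfalso
      have hn := not_conj_10_11 g.1⁻¹ (Om.inv_mem g.2)
      have e10 : nfE 9 (repN 0) = nfE 9 10 := rfl
      have e11 : nfE 9 (repN 4) = nfE 9 11 := rfl
      rw [e10, e11] at h2
      rcases h2 with h | h
      · apply hn.1
        rw [← h]; group
      · apply hn.2
        have h' : nfE 9 10 = g.1 * (nfE 9 11)⁻¹ * g.1⁻¹ := by
          rw [← inv_inj, ← h]; group
        rw [h']; group
  · intro X hX
    -- a generator
    have : Fact (Nat.Prime 3) := ⟨by norm_num⟩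
    have hne : X ≠ ⊥ := by
      intro h
      rw [h, Subgroup.card_bot] at hX
      norm_num at hX
    obtain ⟨⟨⟨y, hy⟩, hyX⟩, hy1⟩ := (Subgroup.ne_bot_iff_exists_ne_one.mp hne)
    have hy3 : (⟨y, hy⟩ : Om) ^ 3 = 1 := by
      have h1 : (⟨⟨y, hy⟩, hyX⟩ : X) ^ 3 = 1 := by
        have h0 : (⟨⟨y, hy⟩, hyX⟩ : X) ^ Nat.card X = 1 := pow_card_eq_one'
        rwa [hX] at h0
      exact congrArg Subtype.val h1
    have hy3' : y ^ 3 = 1 := congrArg Subtype.val hy3
    have hy1' : y ≠ 1 := fun h => hy1 (Subtype.ext (Subtype.ext h))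
    obtain ⟨r, hr, c, hc, hcr⟩ := order3_conj y hy hy3' hy1'
    obtain ⟨i, rfl⟩ := reps_repN r hr
    refine ⟨i, ⟨c, hc⟩, ?_⟩
    symm
    apply Subgroup.eq_of_le_of_card_ge
    · rw [Subgroup.zpowers_le]
      refine Subgroup.mem_map.mpr ⟨⟨y, hy⟩, hyX, ?_⟩
      exact Subtype.ext hcr
    · rw [Subgroup.card_map_of_injective (MulAut.conj (⟨c, hc⟩ : Om)).injective, hX,
        card_zpowers_repE]

end Cfsg.Agent.Lib.Helper56_O73Main
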