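import Mathlib
import Cfsg.Agent.Lib.Helper56_PGDefs
import Cfsg.Agent.Lib.Helper89_PG_L2
import Cfsg.Agent.Lib.Helper89_PG_L3
import Cfsg.Agent.Lib.Helper52_PG_L6
import Cfsg.Agent.Lib.Helper73_PG_COUNTA
import Cfsg.Agent.Lib.Helper10_PG_COUNTBa
import Cfsg.Agent.Lib.Helper12_PG_TWOFaux

/-!
# S4085 package TWOF (verbatim wrapper around helper12's `phiTwo_of_orderOf_aux`)
-/

namespace Cfsg.Agent.Lib.Helper56_PG_TWOF
open Cfsg.Agent.Lib.Helper56_PGDefs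

variable {G : Type*} [Group G] [Finite G] (hS : ∀ x : G, Dom (Cmp (G := G)) x → x = 1)
include hS

theorem phiTwo_of_orderOf {q : ℕ} (hq : q.Prime) (hq2 : q ≠ 2) {g : G}
    (hg : orderOf g = 2 * q) : PhiTwo (Cmp (G := G)) q :=
  Cfsg.Agent.Lib.Helper12_PG_TWOFaux.phiTwo_of_orderOf_aux hS
    (fun hx => Cfsg.Agent.Lib.Helper89_PG_L2.cls_of_npp hS hx)
    (fun hx hy => Cfsg.Agent.Lib.Helper89_PG_L3.cls_of_mem_zpowers_npp hS hx hy)
    (fun hx => Cfsg.Agent.Lib.Helper10_PG_COUNTBa.card_lo_of_npp_of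
      (fun hx => Cfsg.Agent.Lib.Helper89_PG_L2.cls_of_npp hS hx)
      (fun hx hy => Cfsg.Agent.Lib.Helper89_PG_L3.cls_of_mem_zpowers_npp hS hx hy)
      (fun x => Cfsg.Agent.Lib.Helper52_PG_L6.lo_subset_zpowers hS x)
      (fun x => Cfsg.Agent.Lib.Helper73_PG_COUNTA.card_totient_lt x) hx)
    hq hq2 hg

end Cfsg.Agent.Lib.Helper56_PG_TWOF
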