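import Cfsg.Agent.Lib.Helper56_WordLB

/-!
# Orbit–stabiliser for a transitive permutation representation on `Fin n` (helper56)
-/

set_option autoImplicit false

namespace Cfsg.Agent.Lib.Helper56_PermAct

open Cfsg.Agent.Lib.Helper56_WordLB

/-- Orbit–stabiliser: a point stabiliser of a transitive representation on `n` points has
index `n`. -/
theorem card_pstab_single {G : Type*} [Group G] [Finite G] {n : ℕ}
    (ρ : G →* Equiv.Perm (Fin n)) (x0 : Fin n) (h : ∀ x : Fin n, ∃ g : G, ρ g x0 = x) :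
    n * Nat.card (pstab ρ [x0]) = Nat.card G := by
  classical
  let _ : MulAction G (Fin n) := MulAction.compHom (Fin n) ρ
  have hsm : ∀ (g : G) (y : Fin n), g • y = ρ g y := fun _ _ => rfl
  have hst : pstab ρ [x0] = MulAction.stabilizer G x0 := by
    ext g
    rw [mem_pstab, MulAction.mem_stabilizer_iff, hsm]
    constructor
    · intro hg
      exact hg x0 List.mem_cons_self
    · intro hg x hx
      rw [List.mem_singleton] at hx
      rw [hx]
      exact hg
  have horb : MulAction.orbit G x0 = Set.univ := by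
    rw [Set.eq_univ_iff_forall]
    intro x
    obtain ⟨g, hg⟩ := h x
    exact ⟨g, hg⟩
  have hidx : (MulAction.stabilizer G x0).index = n := by
    rw [MulAction.index_stabilizer, horb, Set.ncard_univ, Nat.card_fin]
  have hcm := Subgroup.card_mul_index (MulAction.stabilizer G x0)
  rw [hidx] at hcm
  rw [hst, Nat.mul_comm]
  exact hcm

/-- A subgroup acting transitively on `n` points has order divisible by `n`. -/
theorem dvd_card_of_trans {G : Type*} [Group G] [Finite G] {n : ℕ}
    (ρ : G →* Equiv.Perm (Fin n)) (M : Subgroup G) (x0 : Fin n)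
    (h : ∀ x : Fin n, ∃ m ∈ M, ρ m x0 = x) : n ∣ Nat.card M := by
  have := card_pstab_single (ρ.comp M.subtype) x0 (fun x => by
    obtain ⟨m, hm, hx⟩ := h x
    exact ⟨⟨m, hm⟩, hx⟩)
  exact ⟨_, this.symm⟩

/-- Transitivity does not depend on the base point. -/
theorem trans_of_trans {G : Type*} [Group G] {n : ℕ} (ρ : G →* Equiv.Perm (Fin n))
    (x0 x1 : Fin n) (h : ∀ x : Fin n, ∃ g : G, ρ g x0 = x) : ∀ x : Fin n, ∃ g : G, ρ g x1 = x := by
  intro x
  obtain ⟨g1, h1⟩ := h x1
  obtain ⟨g2, h2⟩ := h x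
  refine ⟨g2 * g1⁻¹, ?_⟩
  rw [← h1, map_mul, map_inv, Equiv.Perm.mul_apply, Equiv.Perm.inv_def, Equiv.symm_apply_apply, h2]

/-- An element of order prime to the index of a normal subgroup lies in it. -/
theorem mem_of_pow_coprime {G : Type*} [Group G] [Finite G] (M : Subgroup G) [M.Normal] (x : G)
    (k : ℕ) (hx : x ^ k = 1) (hk : Nat.Coprime k M.index) : x ∈ M := by
  rw [← QuotientGroup.eq_one_iff]
  have h1 : ((x : G ⧸ M)) ^ k = 1 := by
    rw [← QuotientGroup.mk_pow, hx]
    rfl
  have h2 : ((x : G ⧸ M)) ^ M.index = 1 := by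
    rw [Subgroup.index_eq_card]
    exact pow_card_eq_one'
  have h3 := pow_gcd_eq_one.mpr ⟨h1, h2⟩
  rwa [show Nat.gcd k M.index = 1 from hk, pow_one] at h3

/-- Killing the Held presentation: the relations together with `b c d f = 1` and `d f g = 1`
force all generators to be trivial. -/
theorem kill_aux {Q : Type*} [Group Q] (A B C D E F G' : Q)
    (hA : A * A = 1) (hB : B * B = 1) (hC : C * C = 1) (hD : D * D = 1)
    (hF : F * F = 1) (hG : G' * G' = 1)
    (hde : (D * E) ^ 3 = 1) (hdf : (D * F) ^ 3 = 1)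
    (he1 : E = (F * G') ^ 2) (he2 : E = (A * B * C) ^ 3) (ha : A = (C * D) ^ 5)
    (hu : B * C * D * F = 1) (ht : D * F * G' = 1) :
    A = 1 ∧ B = 1 ∧ C = 1 ∧ D = 1 ∧ E = 1 ∧ F = 1 ∧ G' = 1 := by
  have cube : ∀ X : Q, X * X = 1 → X ^ 3 = X := by
    intro X hX
    rw [pow_succ, pow_two, hX, one_mul]
  have hD' : D = (F * G')⁻¹ := eq_inv_of_mul_eq_one_left (by rw [← mul_assoc]; exact ht)
  have hFG : (F * G') ^ 2 = 1 := by
    have h1 : (F * G')⁻¹ * (F * G')⁻¹ = 1 := by rw [← hD']; exact hD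
    rw [← mul_inv_rev, inv_eq_one] at h1
    rw [pow_two]; exact h1
  have hE1 : E = 1 := he1.trans hFG
  subst hE1
  have hD1 : D = 1 := by
    rw [mul_one, cube D hD] at hde
    exact hde
  subst hD1
  have hFG1 : F * G' = 1 := by
    have := hD'.symm
    rwa [inv_eq_one] at this
  have hF1 : F = 1 := by
    rw [one_mul, cube F hF] at hdf
    exact hdf
  subst hF1
  have hG1 : G' = 1 := by simpa using hFG1
  subst hG1
  have hBC : B * C = 1 := by simpa using hu
  have hBeqC : B = C := by
    rw [eq_inv_of_mul_eq_one_left hBC]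
    exact inv_eq_of_mul_eq_one_left hC
  subst hBeqC
  have hAB : A = B := by
    rw [ha, mul_one, show (5 : ℕ) = 2 + 3 from rfl, pow_add, pow_two, hB, one_mul, cube B hB]
  subst hAB
  have hA1 : A = 1 := by
    rw [hA, one_mul, cube A hA] at he2
    exact he2.symm
  subst hA1
  exact ⟨rfl, rfl, rfl, rfl, rfl, rfl, rfl⟩

end Cfsg.Agent.Lib.Helper56_PermAct
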