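import Mathlib
import Cfsg.Prelude.Def_Transfer
import Cfsg.Agent.Lib.Helper56_RuDefs
import Cfsg.Agent.Lib.Helper56_RuBasic

/-!
# S3174 market `ru_packages` (architect helper56), package EXE, `_of` form

`exists_e_of`: the statement `exists_e` with the conclusions of COUNT (`count`), STEPCOR (`step_surj`, specialised to
`A = Z_3`, `W = Wc T`) and NHAT (`Nc_sq`) as explicit hypotheses.
-/

set_option autoImplicit false

open scoped commutatorElement
open Cfsg.Agent.Lib.Helper56_RuDefs Cfsg.Agent.Lib.Helper56_RuBasic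

namespace Cfsg.Agent.Lib.Helper60_RU_EXEaux

variable {T : Type*} [Group T]

/-- `⁅a * b, c⁆ = a ⁅b, c⁆ a⁻¹ ⁅a, c⁆` -/
theorem comm_mul_left_gen (a b c : T) : ⁅a * b, c⁆ = a * ⁅b, c⁆ * a⁻¹ * ⁅a, c⁆ := by
  simp only [commutatorElement_def]; group

/-- in a group where all squares of `N` lie in the normal subgroup `W`, commutators of `N` lie in `W` -/
theorem comm_mem_of_sq {N W : Subgroup T} [W.Normal] (hsq : ∀ k ∈ N, k ^ 2 ∈ W) {k k' : T}
    (hk : k ∈ N) (hk' : k' ∈ N) : ⁅k, k'⁆ ∈ W := by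
  have e : ⁅k, k'⁆ = (k * k') ^ 2 * (k'⁻¹ * (k ^ 2)⁻¹ * k') * (k' ^ 2)⁻¹ := by
    simp only [commutatorElement_def, pow_two]; group
  rw [e]
  refine W.mul_mem (W.mul_mem (hsq _ (N.mul_mem hk hk')) ?_) (W.inv_mem (hsq _ hk'))
  have h1 := ‹W.Normal›.conj_mem _ (W.inv_mem (hsq k hk)) k'⁻¹
  simpa using h1

/-- the statement of STEPCOR (2) specialised to `A = Z_3`, `W = Wc T` -/
def SurjStmt (T : Type*) [Group T] : Prop :=
  ∀ (S : Subgroup T), Wc T ≤ S → ∀ s : T, s ∈ Subgroup.normalizer (S : Set T) → s ^ 2 ∈ S →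
    (Subgroup.upperCentralSeries T 3).relIndex (fixSub (Subgroup.upperCentralSeries T 3) (Wc T) S) =
      ((Subgroup.upperCentralSeries T 3).relIndex
        (fixSub (Subgroup.upperCentralSeries T 3) (Wc T) (S ⊔ Subgroup.zpowers s))) ^ 2 →
    ∀ y ∈ fixSub (Subgroup.upperCentralSeries T 3) (Wc T) (S ⊔ Subgroup.zpowers s),
      ∃ w ∈ fixSub (Subgroup.upperCentralSeries T 3) (Wc T) S,
        ∃ a ∈ Subgroup.upperCentralSeries T 3, ⁅w, s⁆ = y * a

/-- `X_W = W` -/
theorem fixSub_W (h : Str T) :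
    fixSub (Subgroup.upperCentralSeries T 3) (Wc T) (Wc T) = Wc T := by
  apply le_antisymm fixSub_le
  intro w hw
  rw [mem_fixSub]
  exact ⟨hw, fun s hs => comm_mem h w hw s hs⟩

theorem exists_e_of (h : Str T) (n' n : T) (hn' : n' ∈ Nc T) (hn'W : n' ∉ Wc T) (hn : n ∈ Nc T)
    (hnS : n ∉ Wc T ⊔ Subgroup.zpowers n') (x : T)
    (hx : x ∈ fixSub (Subgroup.upperCentralSeries T 3) (Wc T) ⊤)
    (hcnt : (Subgroup.upperCentralSeries T 3).relIndex
        (fixSub (Subgroup.upperCentralSeries T 3) (Wc T) (Wc T ⊔ Subgroup.zpowers n')) = 16 ∧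
      (Subgroup.upperCentralSeries T 3).relIndex
        (fixSub (Subgroup.upperCentralSeries T 3) (Wc T) (Wc T ⊔ Subgroup.zpowers n' ⊔ Subgroup.zpowers n)) = 4 ∧
      (Subgroup.upperCentralSeries T 3).relIndex
        (fixSub (Subgroup.upperCentralSeries T 3) (Wc T) (Wc T ⊔ Subgroup.zpowers n)) ≤ 16)
    (hsurj : SurjStmt T) (hNsq : ∀ k ∈ Nc T, k ^ 2 ∈ Wc T) :
    ∃ v ∈ Wc T, ∃ z ∈ Subgroup.upperCentralSeries T 3, ⁅⁅v, n'⁆, n⁆ = x * z := by
  obtain ⟨h16, h4, -⟩ := hcnt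
  have hZW : Subgroup.upperCentralSeries T 3 ≤ Wc T := Z3_le_W h
  -- `n` normalises `S1 = W ⊔ ⟨n'⟩`
  have hS1N : n ∈ Subgroup.normalizer ((Wc T ⊔ Subgroup.zpowers n' : Subgroup T) : Set T) := by
    have hle : Wc T ⊔ Subgroup.zpowers n' ≤
        (Wc T ⊔ Subgroup.zpowers n').comap (MulAut.conj n⁻¹).toMonoidHom := by
      apply sup_le
      · intro w hw
        rw [Subgroup.mem_comap]
        show (MulAut.conj n⁻¹) w ∈ _
        rw [MulAut.conj_apply]
        exact le_sup_left (a := Wc T) ((inferInstance : (Wc T).Normal).conj_mem w hw n⁻¹)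
      · rw [Subgroup.zpowers_le, Subgroup.mem_comap]
        show (MulAut.conj n⁻¹) n' ∈ _
        rw [MulAut.conj_apply, inv_inv]
        have e : n⁻¹ * n' * n = ⁅n⁻¹, n'⁆ * n' := by simp only [commutatorElement_def]; group
        rw [e]
        exact (Wc T ⊔ Subgroup.zpowers n').mul_mem
          (le_sup_left (a := Wc T) (comm_mem_of_sq hNsq ((Nc T).inv_mem hn) hn'))
          (le_sup_right (b := Subgroup.zpowers n') (Subgroup.mem_zpowers n'))
    have hle' : Wc T ⊔ Subgroup.zpowers n' ≤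
        (Wc T ⊔ Subgroup.zpowers n').comap (MulAut.conj n).toMonoidHom := by
      apply sup_le
      · intro w hw
        rw [Subgroup.mem_comap]
        show (MulAut.conj n) w ∈ _
        rw [MulAut.conj_apply]
        exact le_sup_left (a := Wc T) ((inferInstance : (Wc T).Normal).conj_mem w hw n)
      · rw [Subgroup.zpowers_le, Subgroup.mem_comap]
        show (MulAut.conj n) n' ∈ _
        rw [MulAut.conj_apply]
        have e : n * n' * n⁻¹ = ⁅n, n'⁆ * n' := by simp only [commutatorElement_def]; group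
        rw [e]
        exact (Wc T ⊔ Subgroup.zpowers n').mul_mem
          (le_sup_left (a := Wc T) (comm_mem_of_sq hNsq hn hn'))
          (le_sup_right (b := Subgroup.zpowers n') (Subgroup.mem_zpowers n'))
    rw [Subgroup.mem_normalizer_iff]
    intro g
    constructor
    · intro hg
      have := hle' hg
      rw [Subgroup.mem_comap] at this
      simpa [MulAut.conj_apply] using this
    · intro hg
      have := hle hg
      rw [Subgroup.mem_comap] at this
      have e : (MulAut.conj n⁻¹).toMonoidHom (n * g * n⁻¹) = g := by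
        show (MulAut.conj n⁻¹) (n * g * n⁻¹) = g
        rw [MulAut.conj_apply]; group
      rwa [e] at this
  -- first surjectivity step: `(S1, n)`
  have hx2 : x ∈ fixSub (Subgroup.upperCentralSeries T 3) (Wc T)
      (Wc T ⊔ Subgroup.zpowers n' ⊔ Subgroup.zpowers n) := fixSub_anti le_top hx
  obtain ⟨e0, he0, a, ha, hea⟩ := hsurj (Wc T ⊔ Subgroup.zpowers n') le_sup_left n hS1N
    (le_sup_left (a := Wc T) (hNsq n hn)) (by rw [h16, h4]; norm_num) x hx2
  -- second surjectivity step: `(W, n')`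
  have hWN : n' ∈ Subgroup.normalizer ((Wc T : Subgroup T) : Set T) := by
    rw [Subgroup.normalizer_eq_top]; exact Subgroup.mem_top _
  obtain ⟨v, hv, a', ha', hva⟩ := hsurj (Wc T) le_rfl n' hWN (hNsq n' hn')
    (by rw [fixSub_W h, relIndex_Z3_W h, h16]; norm_num) e0 he0
  have hvW : v ∈ Wc T := fixSub_le hv
  have he0W : e0 ∈ Wc T := fixSub_le he0
  have hxW : x ∈ Wc T := fixSub_le hx
  -- the computation
  have hc2 : ⁅a', n⁆ ∈ Subgroup.upperCentralSeries T 2 := comm_ucs 2 a' ha' n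
  have hc3 : ⁅a', n⁆ ∈ Subgroup.upperCentralSeries T 3 :=
    Subgroup.upperCentralSeries_mono T (by norm_num : 2 ≤ 3) hc2
  refine ⟨v, hvW, ⁅a', n⁆ * a, (Subgroup.upperCentralSeries T 3).mul_mem hc3 ha, ?_⟩
  rw [hva, comm_mul_left_gen, hea]
  have h1 : e0 * ⁅a', n⁆ = ⁅a', n⁆ * e0 := commute_Z3 e0 he0W _ hc3
  have h2 : x * ⁅a', n⁆ = ⁅a', n⁆ * x := commute_Z3 x hxW _ hc3
  calc e0 * ⁅a', n⁆ * e0⁻¹ * (x * a) = ⁅a', n⁆ * e0 * e0⁻¹ * (x * a) := by rw [h1]
    _ = (⁅a', n⁆ * x) * a := by group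
    _ = x * (⁅a', n⁆ * a) := by rw [← h2]; group

end Cfsg.Agent.Lib.Helper60_RU_EXEaux
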