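import Mathlib
import Cfsg.Agent.Lib.Helper56_RuDefs
import Cfsg.Agent.Lib.Helper56_RuBasic

/-!
# S3174 package COUNT (architect helper56; helper61), core form: `count_of` takes the statements of
`step`, `chain` (for `A = Z_3`, `W = Wc T`), `Nc_index`, `Nc_sq` as hypotheses.
-/

set_option autoImplicit false

open scoped commutatorElement
open Cfsg.Agent.Lib.Helper56_RuDefs Cfsg.Agent.Lib.Helper56_RuBasic

namespace Cfsg.Agent.Lib.Helper61_RU_COUNTaux

variable {T : Type*} [Group T]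

theorem Z2_le_Z3 : Subgroup.upperCentralSeries T 2 ≤ Subgroup.upperCentralSeries T 3 :=
  Subgroup.upperCentralSeries_mono T (by norm_num)

theorem Wc_le_Nc' : Wc T ≤ Nc T := Subgroup.centralizer_le Z2_le_Z3

/-- `X_W = W`. -/
theorem fixSub_W (h : Str T) :
    fixSub (Subgroup.upperCentralSeries T 3) (Wc T) (Wc T) = Wc T := by
  apply le_antisymm fixSub_le
  intro w hw
  rw [mem_fixSub]
  exact ⟨hw, fun s hs => comm_mem h w hw s hs⟩

/-- `Z_3 ≤ X_S`. -/
theorem Z3_le_fixSub (h : Str T) (S : Subgroup T) :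
    Subgroup.upperCentralSeries T 3 ≤ fixSub (Subgroup.upperCentralSeries T 3) (Wc T) S := by
  intro z hz
  rw [mem_fixSub]
  exact ⟨Z3_le_W h hz, fun s _ => Z2_le_Z3 (comm_ucs 2 z hz s)⟩

/-- `r_T = 2`. -/
theorem relIndex_fixSub_top (h : Str T) :
    (Subgroup.upperCentralSeries T 3).relIndex
      (fixSub (Subgroup.upperCentralSeries T 3) (Wc T) ⊤) = 2 := by
  have h1 := card_mul_relIndex (Z3_le_fixSub h ⊤)
  rw [h.fixT, h.cardZ 3 (by norm_num)] at h1
  omega

/-- `r_W = 2^8`. -/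
theorem relIndex_fixSub_W (h : Str T) :
    (Subgroup.upperCentralSeries T 3).relIndex
      (fixSub (Subgroup.upperCentralSeries T 3) (Wc T) (Wc T)) = 2 ^ 8 := by
  rw [fixSub_W h]; exact relIndex_Z3_W h

theorem relIndex_ne_zero' [Finite T] (H K : Subgroup T) : H.relIndex K ≠ 0 := by
  unfold Subgroup.relIndex
  exact Subgroup.index_ne_zero_of_finite

/-- a proper overgroup of a subgroup of index `m` has index at most `m / 2`. -/
theorem two_mul_index_le [Finite T] {H K : Subgroup T} (hHK : H ≤ K) (hne : ¬ K ≤ H) :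
    2 * K.index ≤ H.index := by
  have h1 := Subgroup.relIndex_mul_index hHK
  have h0 : H.relIndex K ≠ 0 := relIndex_ne_zero' H K
  have h2 : H.relIndex K ≠ 1 := fun e => hne (Subgroup.relIndex_eq_one.1 e)
  have h3 : 2 ≤ H.relIndex K := by omega
  calc 2 * K.index ≤ H.relIndex K * K.index := Nat.mul_le_mul_right _ h3
    _ = H.index := h1

theorem mem_sup_zpowers (H : Subgroup T) (k : T) : k ∈ H ⊔ Subgroup.zpowers k :=
  (le_sup_right : Subgroup.zpowers k ≤ _) (Subgroup.mem_zpowers k)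

/-- COUNT from the statements of STEPCOR, CHAIN, NHAT. -/
theorem count_of (h : Str T)
    (hstep : ∀ (S : Subgroup T), Wc T ≤ S → ∀ s : T, s ∈ Subgroup.normalizer (S : Set T) → s ^ 2 ∈ S →
      (Subgroup.upperCentralSeries T 3).relIndex (fixSub (Subgroup.upperCentralSeries T 3) (Wc T) S) ≤
        ((Subgroup.upperCentralSeries T 3).relIndex
          (fixSub (Subgroup.upperCentralSeries T 3) (Wc T) (S ⊔ Subgroup.zpowers s))) ^ 2)
    (hchain : ∀ (S : Subgroup T), Wc T ≤ S →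
      (Subgroup.upperCentralSeries T 3).relIndex (fixSub (Subgroup.upperCentralSeries T 3) (Wc T) S) ≤
        ((Subgroup.upperCentralSeries T 3).relIndex
          (fixSub (Subgroup.upperCentralSeries T 3) (Wc T) ⊤)) ^ S.index)
    (hNidx : (Nc T).index = 2) (hNsq : ∀ k ∈ Nc T, k ^ 2 ∈ Wc T)
    (n' n : T) (hn' : n' ∈ Nc T) (hn'W : n' ∉ Wc T) (hn : n ∈ Nc T)
    (hnS : n ∉ Wc T ⊔ Subgroup.zpowers n') :
    (Subgroup.upperCentralSeries T 3).relIndex
        (fixSub (Subgroup.upperCentralSeries T 3) (Wc T) (Wc T ⊔ Subgroup.zpowers n')) = 16 ∧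
      (Subgroup.upperCentralSeries T 3).relIndex
        (fixSub (Subgroup.upperCentralSeries T 3) (Wc T) (Wc T ⊔ Subgroup.zpowers n' ⊔ Subgroup.zpowers n)) = 4 ∧
      (Subgroup.upperCentralSeries T 3).relIndex
        (fixSub (Subgroup.upperCentralSeries T 3) (Wc T) (Wc T ⊔ Subgroup.zpowers n)) ≤ 16 := by
  have hfin := h.fin
  have hWnorm : (Wc T).Normal := inferInstance
  rw [relIndex_fixSub_top h] at hchain
  -- indices
  have hS1 : 2 * (Wc T ⊔ Subgroup.zpowers n').index ≤ 8 := by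
    rw [← h.idxW]
    exact two_mul_index_le le_sup_left (fun hle => hn'W (hle (mem_sup_zpowers _ _)))
  have hnW : n ∉ Wc T := fun hw => hnS ((le_sup_left : Wc T ≤ _) hw)
  have hS3 : 2 * (Wc T ⊔ Subgroup.zpowers n).index ≤ 8 := by
    rw [← h.idxW]
    exact two_mul_index_le le_sup_left (fun hle => hnW (hle (mem_sup_zpowers _ _)))
  have hS2 : 2 * (Wc T ⊔ Subgroup.zpowers n' ⊔ Subgroup.zpowers n).index ≤
      (Wc T ⊔ Subgroup.zpowers n').index :=
    two_mul_index_le le_sup_left (fun hle => hnS (hle (mem_sup_zpowers _ _)))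
  have hS1N : Wc T ⊔ Subgroup.zpowers n' ≤ Nc T :=
    sup_le Wc_le_Nc' ((Subgroup.zpowers_le).2 hn')
  -- `S1` has index 2 in `N`, so `n` normalizes it
  have hrel : (Wc T ⊔ Subgroup.zpowers n').relIndex (Nc T) = 2 := by
    have h1 := Subgroup.relIndex_mul_index hS1N
    rw [hNidx] at h1
    have h0 : (Wc T ⊔ Subgroup.zpowers n').relIndex (Nc T) ≠ 0 := relIndex_ne_zero' _ _
    have h2 : (Wc T ⊔ Subgroup.zpowers n').relIndex (Nc T) ≠ 1 :=
      fun e => hnS (Subgroup.relIndex_eq_one.1 e hn)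
    omega
  have hnorm : Nc T ≤ Subgroup.normalizer ((Wc T ⊔ Subgroup.zpowers n' : Subgroup T) : Set T) := by
    rw [← Subgroup.normal_subgroupOf_iff_le_normalizer hS1N]
    exact Subgroup.normal_of_index_eq_two hrel
  -- the four inequalities
  have e1 := hstep (Wc T) le_rfl n' (by
    rw [Subgroup.normalizer_eq_top]; exact Subgroup.mem_top _) (hNsq n' hn')
  rw [relIndex_fixSub_W h] at e1
  have e2 := hchain (Wc T ⊔ Subgroup.zpowers n') le_sup_left
  have e3 := hstep (Wc T ⊔ Subgroup.zpowers n') le_sup_left n (hnorm hn)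
    ((le_sup_left : Wc T ≤ _) (hNsq n hn))
  have e4 := hchain (Wc T ⊔ Subgroup.zpowers n' ⊔ Subgroup.zpowers n) (le_sup_left.trans le_sup_left)
  have e5 := hchain (Wc T ⊔ Subgroup.zpowers n) le_sup_left
  set r1 := (Subgroup.upperCentralSeries T 3).relIndex
        (fixSub (Subgroup.upperCentralSeries T 3) (Wc T) (Wc T ⊔ Subgroup.zpowers n')) with hr1
  set r2 := (Subgroup.upperCentralSeries T 3).relIndex
        (fixSub (Subgroup.upperCentralSeries T 3) (Wc T) (Wc T ⊔ Subgroup.zpowers n' ⊔ Subgroup.zpowers n)) with hr2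
  set r3 := (Subgroup.upperCentralSeries T 3).relIndex
        (fixSub (Subgroup.upperCentralSeries T 3) (Wc T) (Wc T ⊔ Subgroup.zpowers n)) with hr3
  have i1 : (Wc T ⊔ Subgroup.zpowers n').index ≤ 4 := by omega
  have i2 : (Wc T ⊔ Subgroup.zpowers n' ⊔ Subgroup.zpowers n).index ≤ 2 := by omega
  have i3 : (Wc T ⊔ Subgroup.zpowers n).index ≤ 4 := by omega
  have b1 : r1 ≤ 16 := e2.trans (by
    calc 2 ^ (Wc T ⊔ Subgroup.zpowers n').index ≤ 2 ^ 4 := Nat.pow_le_pow_right (by norm_num) i1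
      _ = 16 := by norm_num)
  have b2 : r2 ≤ 4 := e4.trans (by
    calc 2 ^ (Wc T ⊔ Subgroup.zpowers n' ⊔ Subgroup.zpowers n).index ≤ 2 ^ 2 :=
          Nat.pow_le_pow_right (by norm_num) i2
      _ = 4 := by norm_num)
  have b3 : r3 ≤ 16 := e5.trans (by
    calc 2 ^ (Wc T ⊔ Subgroup.zpowers n).index ≤ 2 ^ 4 := Nat.pow_le_pow_right (by norm_num) i3
      _ = 16 := by norm_num)
  have c1 : 16 ≤ r1 := by
    by_contra hlt
    have : r1 ≤ 15 := by omega
    have : r1 ^ 2 ≤ 15 ^ 2 := Nat.pow_le_pow_left this 2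
    omega
  have hr16 : r1 = 16 := le_antisymm b1 c1
  have c2 : 4 ≤ r2 := by
    by_contra hlt
    have : r2 ≤ 3 := by omega
    have : r2 ^ 2 ≤ 3 ^ 2 := Nat.pow_le_pow_left this 2
    rw [hr16] at e3
    omega
  exact ⟨hr16, le_antisymm b2 c2, b3⟩

end Cfsg.Agent.Lib.Helper61_RU_COUNTaux
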