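import Mathlib
import Cfsg.Prelude.Def_Transfer
import Cfsg.Agent.Lib.Helper56_RuDefs
import Cfsg.Agent.Lib.Helper56_RuBasic
import Cfsg.Agent.Lib.Helper91_RU_STEPCORa
import Cfsg.Agent.Lib.Helper3_RU_STEPCORE

/-!
# S3174 / S3175 market `ru_packages` (architect helper56), package STEPCOR: `step`, `step_surj`
-/

set_option autoImplicit false

open scoped commutatorElement
open Cfsg.Agent.Lib.Helper56_RuDefs Cfsg.Agent.Lib.Helper56_RuBasic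

namespace Cfsg.Agent.Lib.Helper91_RU_STEPCOR

variable {T : Type*} [Group T]

/-- STEPCOR (1). -/
theorem step [Finite T] (A W S : Subgroup T) [A.Normal] [W.Normal] (hAW : A ≤ W) (hWS : W ≤ S)
    (hsq : ∀ w ∈ W, w ^ 2 ∈ A) (hab : ∀ w ∈ W, ∀ w' ∈ W, ⁅w, w'⁆ ∈ A)
    (s : T) (hsN : s ∈ Subgroup.normalizer (S : Set T)) (hs2 : s ^ 2 ∈ S) :
    A.relIndex (fixSub A W S) ≤ (A.relIndex (fixSub A W (S ⊔ Subgroup.zpowers s))) ^ 2 :=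
  Cfsg.Agent.Lib.Helper91_RU_STEPCORa.step_of A W S s
    (Cfsg.Agent.Lib.Helper3_RU_STEPCORE.step_core A W S hAW hWS hsq hab s hsN hs2)

/-- STEPCOR (2). -/
theorem step_surj [Finite T] (A W S : Subgroup T) [A.Normal] [W.Normal] (hAW : A ≤ W) (hWS : W ≤ S)
    (hsq : ∀ w ∈ W, w ^ 2 ∈ A) (hab : ∀ w ∈ W, ∀ w' ∈ W, ⁅w, w'⁆ ∈ A)
    (s : T) (hsN : s ∈ Subgroup.normalizer (S : Set T)) (hs2 : s ^ 2 ∈ S)
    (heq : A.relIndex (fixSub A W S) = (A.relIndex (fixSub A W (S ⊔ Subgroup.zpowers s))) ^ 2) :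
    ∀ y ∈ fixSub A W (S ⊔ Subgroup.zpowers s), ∃ w ∈ fixSub A W S, ∃ a ∈ A, ⁅w, s⁆ = y * a :=
  Cfsg.Agent.Lib.Helper91_RU_STEPCORa.step_surj_of A W S s
    (Cfsg.Agent.Lib.Helper3_RU_STEPCORE.step_core A W S hAW hWS hsq hab s hsN hs2) heq

end Cfsg.Agent.Lib.Helper91_RU_STEPCOR
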