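import Mathlib
import Cfsg.Agent.Lib.Helper56_RuDefs
import Cfsg.Agent.Lib.Helper56_RuBasic
import Cfsg.Agent.Lib.Helper61_RU_COUNTaux
import Cfsg.Agent.Lib.Helper91_RU_STEPCOR
import Cfsg.Agent.Lib.Helper71_RU_CHAIN
import Cfsg.Agent.Lib.Helper8_RU_NHATa
import Cfsg.Agent.Lib.Helper42_RU_EXPaux
import Cfsg.Agent.Lib.Helper86_RU_COMM

/-!
# S3174 package COUNT (architect helper56; helper61): verbatim statement, from `count_of` and the delivered
STEPCOR (`step`), CHAIN (`chain`), NHAT (`Nc_index`, `Nc_sq_aux`), EXP core (`exp_Z3_of`), COMM (`comm_eq`).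
-/

set_option autoImplicit false

open scoped commutatorElement
open Cfsg.Agent.Lib.Helper56_RuDefs Cfsg.Agent.Lib.Helper56_RuBasic

namespace Cfsg.Agent.Lib.Helper61_RU_COUNT

variable {T : Type*} [Group T]

/-- COUNT. -/
theorem count (h : Str T) (n' n : T) (hn' : n' ∈ Nc T) (hn'W : n' ∉ Wc T) (hn : n ∈ Nc T)
    (hnS : n ∉ Wc T ⊔ Subgroup.zpowers n') :
    (Subgroup.upperCentralSeries T 3).relIndex
        (fixSub (Subgroup.upperCentralSeries T 3) (Wc T) (Wc T ⊔ Subgroup.zpowers n')) = 16 ∧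
      (Subgroup.upperCentralSeries T 3).relIndex
        (fixSub (Subgroup.upperCentralSeries T 3) (Wc T) (Wc T ⊔ Subgroup.zpowers n' ⊔ Subgroup.zpowers n)) = 4 ∧
      (Subgroup.upperCentralSeries T 3).relIndex
        (fixSub (Subgroup.upperCentralSeries T 3) (Wc T) (Wc T ⊔ Subgroup.zpowers n)) ≤ 16 := by
  have hfin := h.fin
  exact Cfsg.Agent.Lib.Helper61_RU_COUNTaux.count_of h
    (fun S hWS s hsN hs2 => Cfsg.Agent.Lib.Helper91_RU_STEPCOR.step
      (Subgroup.upperCentralSeries T 3) (Wc T) S (Z3_le_W h) hWS (sq_mem h) (comm_mem h) s hsN hs2)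
    (fun S hWS => Cfsg.Agent.Lib.Helper71_RU_CHAIN.chain h.pg
      (Subgroup.upperCentralSeries T 3) (Wc T) (Z3_le_W h) (sq_mem h) (comm_mem h) S hWS)
    (Cfsg.Agent.Lib.Helper8_RU_NHATa.Nc_index h)
    (Cfsg.Agent.Lib.Helper8_RU_NHATa.Nc_sq_aux
      (Cfsg.Agent.Lib.Helper42_RU_EXPaux.exp_Z3_of h (Cfsg.Agent.Lib.Helper86_RU_COMM.comm_eq h)))
    n' n hn' hn'W hn hnS

end Cfsg.Agent.Lib.Helper61_RU_COUNT
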