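import Mathlib
import Cfsg.Agent.Lib.Helper56_RuDefs
import Cfsg.Agent.Lib.Helper56_RuBasic

/-!
# S3174 package GENEL (architect helper56; helper61): squares/commutators in `Z_2` on generators (inside `W`)
⇒ on the generated subgroup.
-/

set_option autoImplicit false

open scoped commutatorElement
open Cfsg.Agent.Lib.Helper56_RuDefs Cfsg.Agent.Lib.Helper56_RuBasic

namespace Cfsg.Agent.Lib.Helper61_RU_GENEL

variable {T : Type*} [Group T]

theorem comm_inv_left (h : Str T) {a c : T} (ha : a ∈ Wc T) (hc : c ∈ Wc T) :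
    ⁅a⁻¹, c⁆ = ⁅a, c⁆⁻¹ := by
  have h1 := comm_mul_left h a⁻¹ ((Wc T).inv_mem ha) a ha c hc
  rw [inv_mul_cancel] at h1
  have h2 : ⁅(1 : T), c⁆ = 1 := by simp [commutatorElement_def]
  rw [h2] at h1
  exact eq_inv_of_mul_eq_one_left h1.symm

theorem comm_inv_right (h : Str T) {a c : T} (ha : a ∈ Wc T) (hc : c ∈ Wc T) :
    ⁅a, c⁻¹⁆ = ⁅a, c⁆⁻¹ := by
  have h1 := comm_mul_right h a ha c⁻¹ ((Wc T).inv_mem hc) c hc
  rw [inv_mul_cancel] at h1
  have h2 : ⁅a, (1 : T)⁆ = 1 := by simp [commutatorElement_def]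
  rw [h2] at h1
  exact eq_inv_of_mul_eq_one_left h1.symm

/-- GENEL. -/
theorem gen_elem (h : Str T) (G : Set T) (hGW : G ⊆ Wc T)
    (hsq : ∀ g ∈ G, g ^ 2 ∈ Subgroup.upperCentralSeries T 2)
    (hcomm : ∀ g ∈ G, ∀ g' ∈ G, ⁅g, g'⁆ ∈ Subgroup.upperCentralSeries T 2) :
    (∀ a ∈ Subgroup.closure G, a ^ 2 ∈ Subgroup.upperCentralSeries T 2) ∧
      ∀ a ∈ Subgroup.closure G, ∀ b ∈ Subgroup.closure G, ⁅a, b⁆ ∈ Subgroup.upperCentralSeries T 2 := by
  have hle : Subgroup.closure G ≤ Wc T := (Subgroup.closure_le _).2 hGW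
  -- commutators with a generator on the right
  have step1 : ∀ g' ∈ G, ∀ a ∈ Subgroup.closure G, ⁅a, g'⁆ ∈ Subgroup.upperCentralSeries T 2 := by
    intro g' hg' a ha
    have hg'W : g' ∈ Wc T := hGW hg'
    induction ha using Subgroup.closure_induction with
    | mem x hx => exact hcomm x hx g' hg'
    | one =>
      have : ⁅(1 : T), g'⁆ = 1 := by simp [commutatorElement_def]
      rw [this]; exact Subgroup.one_mem _
    | mul x y hx hy ihx ihy =>
      rw [comm_mul_left h x (hle hx) y (hle hy) g' hg'W]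
      exact Subgroup.mul_mem _ ihx ihy
    | inv x hx ihx =>
      rw [comm_inv_left h (hle hx) hg'W]
      exact Subgroup.inv_mem _ ihx
  have step2 : ∀ a ∈ Subgroup.closure G, ∀ b ∈ Subgroup.closure G,
      ⁅a, b⁆ ∈ Subgroup.upperCentralSeries T 2 := by
    intro a ha b hb
    have haW : a ∈ Wc T := hle ha
    induction hb using Subgroup.closure_induction with
    | mem x hx => exact step1 x hx a ha
    | one =>
      have : ⁅a, (1 : T)⁆ = 1 := by simp [commutatorElement_def]
      rw [this]; exact Subgroup.one_mem _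
    | mul x y hx hy ihx ihy =>
      rw [comm_mul_right h a haW x (hle hx) y (hle hy)]
      exact Subgroup.mul_mem _ ihx ihy
    | inv x hx ihx =>
      rw [comm_inv_right h haW (hle hx)]
      exact Subgroup.inv_mem _ ihx
  refine ⟨?_, step2⟩
  intro a ha
  induction ha using Subgroup.closure_induction with
  | mem x hx => exact hsq x hx
  | one => rw [one_pow]; exact Subgroup.one_mem _
  | mul x y hx hy ihx ihy =>
    rw [mul_sq h x (hle hx) y (hle hy)]
    exact Subgroup.mul_mem _ (Subgroup.mul_mem _ ihx ihy) (step2 y hy x hx)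
  | inv x hx ihx =>
    rw [inv_pow]
    exact Subgroup.inv_mem _ ihx

end Cfsg.Agent.Lib.Helper61_RU_GENEL
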