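import Mathlib
import Cfsg.Prelude.Def_Transfer
import Cfsg.Agent.Lib.Helper56_RuDefs
import Cfsg.Agent.Lib.Helper56_RuBasic

/-!
# S3174 / S3175 market (architect helper56), package ADJ (helper78)

`adj`: `⁅⁅a,k⁆,b⁆ = ⁅a,⁅b,k⁻¹⁆⁆ * c` with `c ∈ Z_2`, for `a b ∈ W = C_T(Z_3)` and any `k`.
Also exported: `Wc_normal` (conjugates of elements of `W` lie in `W`), `comm_inv_left`,
`comm_inv_right` (class two calculus in `W`), `Z2_le_Z3`.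
-/

set_option autoImplicit false

open scoped commutatorElement
open Cfsg.Agent.Lib.Helper56_RuDefs Cfsg.Agent.Lib.Helper56_RuBasic

namespace Cfsg.Agent.Lib.Helper78_RU_ADJ

variable {T : Type*} [Group T]

/-- `W = C_T(Z_3)` is normal in `T` -/
theorem Wc_conj {w : T} (hw : w ∈ Wc T) (k : T) : k * w * k⁻¹ ∈ Wc T := by
  have hN : (Wc T).Normal := inferInstance
  exact hN.conj_mem w hw k

theorem Wc_conj' {w : T} (hw : w ∈ Wc T) (k : T) : k⁻¹ * w * k ∈ Wc T := by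
  have := Wc_conj hw k⁻¹
  rwa [inv_inv] at this

theorem Z2_le_Z3 : Subgroup.upperCentralSeries T 2 ≤ Subgroup.upperCentralSeries T 3 :=
  Subgroup.upperCentralSeries_mono T (by norm_num)

/-- `⁅a⁻¹, b⁆ = ⁅a, b⁆⁻¹` in `W` -/
theorem comm_inv_left (h : Str T) {a b : T} (ha : a ∈ Wc T) (hb : b ∈ Wc T) :
    ⁅a⁻¹, b⁆ = ⁅a, b⁆⁻¹ := by
  have h1 := comm_mul_left h a⁻¹ ((Wc T).inv_mem ha) a ha b hb
  rw [inv_mul_cancel, commutatorElement_one_left] at h1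
  exact eq_inv_of_mul_eq_one_left h1.symm

/-- `⁅a, b⁻¹⁆ = ⁅a, b⁆⁻¹` in `W` -/
theorem comm_inv_right (h : Str T) {a b : T} (ha : a ∈ Wc T) (hb : b ∈ Wc T) :
    ⁅a, b⁻¹⁆ = ⁅a, b⁆⁻¹ := by
  have h1 := comm_mul_right h a ha b⁻¹ ((Wc T).inv_mem hb) b hb
  rw [inv_mul_cancel, commutatorElement_one_right] at h1
  exact eq_inv_of_mul_eq_one_left h1.symm

/-- ADJ. -/
theorem adj (h : Str T) : ∀ a ∈ Wc T, ∀ b ∈ Wc T, ∀ k : T,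
    ∃ c ∈ Subgroup.upperCentralSeries T 2, ⁅⁅a, k⁆, b⁆ = ⁅a, ⁅b, k⁻¹⁆⁆ * c := by
  intro a ha b hb k
  -- `u = k a⁻¹ k⁻¹`, `b' = k⁻¹ b k`
  have hu : k * a⁻¹ * k⁻¹ ∈ Wc T := Wc_conj ((Wc T).inv_mem ha) k
  have hb' : k⁻¹ * b * k ∈ Wc T := Wc_conj' hb k
  have e1 : ⁅a, k⁆ = a * (k * a⁻¹ * k⁻¹) := by
    rw [commutatorElement_def]; group
  have e2 : ⁅b, k⁻¹⁆ = b * (k⁻¹ * b * k)⁻¹ := by
    rw [commutatorElement_def]; group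
  -- `y = ⁅a⁻¹, b'⁆ ∈ Z_3`
  have hy : ⁅a⁻¹, k⁻¹ * b * k⁆ ∈ Subgroup.upperCentralSeries T 3 :=
    comm_mem h _ ((Wc T).inv_mem ha) _ hb'
  -- `c1 = ⁅k, y⁆ ∈ Z_2`
  have hc1 : ⁅k, ⁅a⁻¹, k⁻¹ * b * k⁆⁆ ∈ Subgroup.upperCentralSeries T 2 := by
    have := comm_ucs 2 _ hy k
    have e : ⁅k, ⁅a⁻¹, k⁻¹ * b * k⁆⁆ = ⁅⁅a⁻¹, k⁻¹ * b * k⁆, k⁆⁻¹ := (commutatorElement_inv _ _).symm
    rw [e]
    exact (Subgroup.upperCentralSeries T 2).inv_mem this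
  refine ⟨⁅k, ⁅a⁻¹, k⁻¹ * b * k⁆⁆, hc1, ?_⟩
  -- the left-hand side
  have e3 : ⁅k * a⁻¹ * k⁻¹, b⁆ = ⁅k, ⁅a⁻¹, k⁻¹ * b * k⁆⁆ * ⁅a⁻¹, k⁻¹ * b * k⁆ := by
    simp only [commutatorElement_def]; group
  have e4 : ⁅a⁻¹, k⁻¹ * b * k⁆ = ⁅a, k⁻¹ * b * k⁆⁻¹ := comm_inv_left h ha hb'
  have hL : ⁅⁅a, k⁆, b⁆ = ⁅a, b⁆ * (⁅k, ⁅a⁻¹, k⁻¹ * b * k⁆⁆ * ⁅a, k⁻¹ * b * k⁆⁻¹) := by
    rw [e1, comm_mul_left h a ha _ hu b hb, e3, e4]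
  -- the right-hand side
  have hR : ⁅a, ⁅b, k⁻¹⁆⁆ = ⁅a, b⁆ * ⁅a, k⁻¹ * b * k⁆⁻¹ := by
    rw [e2, comm_mul_right h a ha b hb _ ((Wc T).inv_mem hb'), comm_inv_right h ha hb']
  -- `c1` commutes with `⁅a, b'⁆⁻¹` (both in `Z_3`, and `Z_3 ≤ W` centralises `Z_3`)
  have hc1W : ⁅k, ⁅a⁻¹, k⁻¹ * b * k⁆⁆ ∈ Wc T := Z3_le_W h (Z2_le_Z3 hc1)
  have hz : ⁅a, k⁻¹ * b * k⁆⁻¹ ∈ Subgroup.upperCentralSeries T 3 :=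
    (Subgroup.upperCentralSeries T 3).inv_mem (comm_mem h a ha _ hb')
  have hcomm := commute_Z3 _ hc1W _ hz
  rw [hL, hR, hcomm]
  exact (mul_assoc _ _ _).symm

end Cfsg.Agent.Lib.Helper78_RU_ADJ
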