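import Mathlib
import Cfsg.Prelude.Def_Transfer
import Cfsg.Agent.Lib.Helper56_RuDefs
import Cfsg.Agent.Lib.Helper56_RuBasic
import Cfsg.Agent.Lib.Helper78_RU_ADJ

/-!
# S3174 / S3175 market (architect helper56), package F2 (core, helper78)

`F2_of`: `⁅w,k⁆ ^ 2 ∈ Z_2` for `w ∈ W`, `k ∈ N`, with the statement of F1 as a hypothesis.
-/

set_option autoImplicit false

open scoped commutatorElement
open Cfsg.Agent.Lib.Helper56_RuDefs Cfsg.Agent.Lib.Helper56_RuBasic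

namespace Cfsg.Agent.Lib.Helper78_RU_F2aux

open Cfsg.Agent.Lib.Helper78_RU_ADJ

variable {T : Type*} [Group T]

theorem F2_of (h : Str T)
    (hF1 : ∀ w ∈ Wc T, ∀ k ∈ Nc T, ⁅w, k * w * k⁻¹⁆ ∈ Subgroup.upperCentralSeries T 2) :
    ∀ w ∈ Wc T, ∀ k ∈ Nc T, ⁅w, k⁆ ^ 2 ∈ Subgroup.upperCentralSeries T 2 := by
  intro w hw k hk
  have hwi : w⁻¹ ∈ Wc T := (Wc T).inv_mem hw
  have hu : k * w⁻¹ * k⁻¹ ∈ Wc T := Wc_conj hwi k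
  have e1 : ⁅w, k⁆ = w * (k * w⁻¹ * k⁻¹) := by
    rw [commutatorElement_def]; group
  -- `(w u)^2 = w^2 u^2 ⁅u, w⁆`
  have e2 := mul_sq h w hw _ hu
  -- `w^2 u^2 = ⁅w^2, k⁆ ∈ Z_2`
  have e3 : w ^ 2 * (k * w⁻¹ * k⁻¹) ^ 2 = ⁅w ^ 2, k⁆ := by
    rw [commutatorElement_def]; simp only [pow_two]; group
  have h3 : ⁅w ^ 2, k⁆ ∈ Subgroup.upperCentralSeries T 2 := comm_ucs 2 _ (sq_mem h w hw) k
  -- `⁅u, w⁆ = ⁅w⁻¹, u⁆ ∈ Z_2`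
  have h4 : ⁅w⁻¹, k * w⁻¹ * k⁻¹⁆ ∈ Subgroup.upperCentralSeries T 2 := hF1 w⁻¹ hwi k hk
  have e4 : ⁅k * w⁻¹ * k⁻¹, w⁆ = ⁅w⁻¹, k * w⁻¹ * k⁻¹⁆ := by
    rw [comm_inv_left h hw hu, commutatorElement_inv]
  rw [e1, e2, e3, e4]
  exact (Subgroup.upperCentralSeries T 2).mul_mem h3 h4

end Cfsg.Agent.Lib.Helper78_RU_F2aux
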