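import Mathlib
import Cfsg.Agent.Lib.Helper56_RuDefs
import Cfsg.Agent.Lib.Helper56_RuBasic
import Cfsg.Agent.Lib.Helper86_RU_COMM

/-!
# ru_packages (S3174/S3175, architect helper56), package EXP: `Z_3` has exponent 2
(`Z_3 = W'` by COMM is generated by the commutators `⁅u,v⁆`, `u v ∈ W`, and `⁅u,v⁆² = ⁅u²,v⁆ = 1`).
-/

set_option autoImplicit false

open scoped commutatorElement
open Cfsg.Agent.Lib.Helper56_RuDefs Cfsg.Agent.Lib.Helper56_RuBasic

namespace Cfsg.Agent.Lib.Helper7_RU_EXP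

variable {T : Type*} [Group T]

/-- EXP. `Z_3` has exponent 2. -/
theorem exp_Z3 (h : Str T) : ∀ z ∈ Subgroup.upperCentralSeries T 3, z ^ 2 = 1 := by
  have hZW := Z3_le_W h
  -- the elements of `Z_3` of square 1 form a subgroup containing all commutators of `W`
  let S : Subgroup T :=
    { carrier := {z | z ∈ Subgroup.upperCentralSeries T 3 ∧ z ^ 2 = 1}
      one_mem' := ⟨Subgroup.one_mem _, one_pow 2⟩
      mul_mem' := by
        rintro a b ⟨ha, ha2⟩ ⟨hb, hb2⟩
        refine ⟨Subgroup.mul_mem _ ha hb, ?_⟩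
        have hc : a * b = b * a := commute_Z3 a (hZW ha) b hb
        rw [(show Commute a b from hc).mul_pow, ha2, hb2, one_mul]
      inv_mem' := by
        rintro a ⟨ha, ha2⟩
        exact ⟨Subgroup.inv_mem _ ha, by rw [inv_pow, ha2, inv_one]⟩ }
  have hgen : ∀ u ∈ Wc T, ∀ v ∈ Wc T, ⁅u, v⁆ ∈ S := by
    intro u hu v hv
    refine ⟨comm_mem h u hu v hv, ?_⟩
    have h1 : ⁅u * u, v⁆ = ⁅u, v⁆ * ⁅u, v⁆ := comm_mul_left h u hu u hu v hv
    have h2 : (u * u) * v = v * (u * u) := by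
      have := sq_mem h u hu
      rw [pow_two] at this
      exact (commute_Z3 v hv _ this).symm
    have h3 : ⁅u * u, v⁆ = 1 := by
      rw [commutatorElement_def, h2]; group
    rw [pow_two, ← h1, h3]
  intro z hz
  rw [← Cfsg.Agent.Lib.Helper86_RU_COMM.comm_eq h] at hz
  obtain ⟨y, hy, rfl⟩ := Subgroup.mem_map.1 hz
  have hle : (_root_.commutator ↥(Wc T)) ≤ S.comap (Wc T).subtype := by
    rw [commutator_eq_closure, Subgroup.closure_le]
    rintro g ⟨a, b, rfl⟩
    show (Wc T).subtype ⁅a, b⁆ ∈ S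
    rw [map_commutatorElement]
    exact hgen _ a.2 _ b.2
  exact (hle hy).2

end Cfsg.Agent.Lib.Helper7_RU_EXP
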