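import Cfsg.Agent.Lib.Helper7_RU_BIGEaux
import Cfsg.Agent.Lib.Helper7_RU_EXP
import Cfsg.Agent.Lib.Helper8_RU_NHATa
import Cfsg.Agent.Lib.Helper78_RU_F2aux
import Cfsg.Agent.Lib.Helper78_RU_ADJ
import Cfsg.Agent.Lib.Helper42_RU_QUADaux
import Cfsg.Agent.Lib.Helper61_RU_GENEL
import Cfsg.Agent.Lib.Helper61_RU_COUNTaux
import Cfsg.Agent.Lib.Helper3_RU_STEPCORE
import Cfsg.Agent.Lib.Helper91_RU_STEPCOR
import Cfsg.Agent.Lib.Helper71_RU_CHAIN

/-!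
# ru_packages (S3174/S3175, architect helper56), package BIGE: the subgroup `Ê` (verbatim statement).
Wrapper of `Helper7_RU_BIGEaux.big_E_of` over the landed packages / package cores
EXP (helper7), NHAT + F1 (helper8), F2 + ADJ (helper78), QUAD (helper42), GENEL + COUNT (helper61),
STEPCORE (helper3), STEPCOR (helper91), CHAIN (helper71).
-/

set_option autoImplicit false
set_option linter.unusedVariables false

open scoped commutatorElement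
open Cfsg.Agent.Lib.Helper56_RuDefs Cfsg.Agent.Lib.Helper56_RuBasic

namespace Cfsg.Agent.Lib.Helper7_RU_BIGE

variable {T : Type*} [Group T]

/-- BIGE. The subgroup `Ê`. -/
theorem big_E (h : Str T) (n' n : T) (hn' : n' ∈ Nc T) (hn'W : n' ∉ Wc T) (hn : n ∈ Nc T)
    (hnS : n ∉ Wc T ⊔ Subgroup.zpowers n') (x v z : T)
    (hx : x ∈ fixSub (Subgroup.upperCentralSeries T 3) (Wc T) ⊤)
    (hx3 : x ∉ Subgroup.upperCentralSeries T 3) (hxc : ∀ w ∈ Wc T, x * w = w * x)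
    (hv : v ∈ Wc T) (hz : z ∈ Subgroup.upperCentralSeries T 3) (hvx : ⁅⁅v, n'⁆, n⁆ = x * z) :
    ∃ E : Subgroup T, Subgroup.upperCentralSeries T 3 ≤ E ∧ E ≤ Wc T ∧ 2 ^ 8 ≤ Nat.card ↥E ∧
      (∀ a ∈ E, a ^ 2 ∈ Subgroup.upperCentralSeries T 2) ∧
      ∀ a ∈ E, ∀ b ∈ E, ⁅a, b⁆ ∈ Subgroup.upperCentralSeries T 2 := by
  have hfin := h.fin
  have hWn : (Wc T).Normal := inferInstance
  have hexp := Cfsg.Agent.Lib.Helper7_RU_EXP.exp_Z3 h
  have hNsq := Cfsg.Agent.Lib.Helper8_RU_NHATa.Nc_sq_aux hexp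
  have hF1 := Cfsg.Agent.Lib.Helper8_RU_NHATa.F1_aux h hexp
  have hF2 := Cfsg.Agent.Lib.Helper78_RU_F2aux.F2_of h hF1
  have hquad := Cfsg.Agent.Lib.Helper42_RU_QUADaux.quad_of h hNsq
  have hZW := Z3_le_W h
  have hcount := Cfsg.Agent.Lib.Helper61_RU_COUNTaux.count_of h
    (fun S hWS s hsN hs2 => Cfsg.Agent.Lib.Helper91_RU_STEPCOR.step
      (Subgroup.upperCentralSeries T 3) (Wc T) S hZW hWS (sq_mem h) (comm_mem h) s hsN hs2)
    (fun S hWS => Cfsg.Agent.Lib.Helper71_RU_CHAIN.chain h.pg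
      (Subgroup.upperCentralSeries T 3) (Wc T) hZW (sq_mem h) (comm_mem h) S hWS)
    (Cfsg.Agent.Lib.Helper8_RU_NHATa.Nc_index h) hNsq n' n hn' hn'W hn hnS
  have hnN : n ∈ Subgroup.normalizer ((Wc T : Subgroup T) : Set T) := by
    rw [Subgroup.normalizer_eq_top]
    exact Subgroup.mem_top n
  have hs := Cfsg.Agent.Lib.Helper3_RU_STEPCORE.step_core (Subgroup.upperCentralSeries T 3) (Wc T)
    (Wc T) hZW le_rfl (sq_mem h) (comm_mem h) n hnN (hNsq n hn)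
  exact Cfsg.Agent.Lib.Helper7_RU_BIGEaux.big_E_of h n' n hn' hn x v z hx3 hxc hv hz hvx
    hF2 (Cfsg.Agent.Lib.Helper78_RU_ADJ.adj h) hquad (Cfsg.Agent.Lib.Helper61_RU_GENEL.gen_elem h)
    hcount.2.2 ⟨hs.1, hs.2.1⟩ hexp

end Cfsg.Agent.Lib.Helper7_RU_BIGE
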