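import Mathlib
import Cfsg.Prelude.Def_Transfer
import Cfsg.Agent.Lib.Helper56_RuDefs
import Cfsg.Agent.Lib.Helper56_RuBasic

/-!
# S3174 / S3175 market `ru_packages` (architect helper56), package CENTX (helper90)
If `|Z(W)| ≠ 8` then some `x ∈ X_T ∖ Z_3` is central in `W`.
-/

set_option autoImplicit false

open scoped commutatorElement
open Cfsg.Agent.Lib.Helper56_RuDefs Cfsg.Agent.Lib.Helper56_RuBasic

namespace Cfsg.Agent.Lib.Helper90_RU_CENTX

variable {T : Type*} [Group T]

/-- `W = C_T(Z_3)` is normalised by every element of `T` -/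
theorem conj_mem_W {w : T} (hw : w ∈ Wc T) (t : T) : t * w * t⁻¹ ∈ Wc T := by
  rw [Subgroup.mem_centralizer_iff] at hw ⊢
  intro z hz
  have hz' : t⁻¹ * z * t ∈ Subgroup.upperCentralSeries T 3 := by
    have := (Subgroup.upperCentralSeries T 3).normal_of_characteristic.conj_mem z hz t⁻¹
    rwa [inv_inv] at this
  have h1 := hw _ hz'
  -- h1 : t⁻¹ * z * t * w = w * (t⁻¹ * z * t)
  calc z * (t * w * t⁻¹) = t * ((t⁻¹ * z * t) * w) * t⁻¹ := by group
    _ = t * (w * (t⁻¹ * z * t)) * t⁻¹ := by rw [h1]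
    _ = t * w * t⁻¹ * z := by group

/-- the property "in `W` and central in `W`" -/
def CenW (x : T) : Prop := x ∈ Wc T ∧ ∀ w ∈ Wc T, x * w = w * x

theorem cenW_inv {x : T} (h : CenW x) : CenW x⁻¹ := by
  refine ⟨(Wc T).inv_mem h.1, fun w hw => ?_⟩
  have := h.2 w hw
  calc x⁻¹ * w = x⁻¹ * (w * x) * x⁻¹ := by group
    _ = x⁻¹ * (x * w) * x⁻¹ := by rw [this]
    _ = w * x⁻¹ := by group

theorem cenW_conj {x : T} (h : CenW x) (t : T) : CenW (t * x * t⁻¹) := by
  refine ⟨conj_mem_W h.1 t, fun w hw => ?_⟩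
  have hw' : t⁻¹ * w * t ∈ Wc T := by
    have := conj_mem_W hw t⁻¹
    rwa [inv_inv] at this
  have := h.2 _ hw'
  calc t * x * t⁻¹ * w = t * (x * (t⁻¹ * w * t)) * t⁻¹ := by group
    _ = t * ((t⁻¹ * w * t) * x) * t⁻¹ := by rw [this]
    _ = w * (t * x * t⁻¹) := by group

theorem cenW_mul {x y : T} (hx : CenW x) (hy : CenW y) : CenW (x * y) := by
  refine ⟨(Wc T).mul_mem hx.1 hy.1, fun w hw => ?_⟩
  rw [mul_assoc, hy.2 w hw, ← mul_assoc, hx.2 w hw, mul_assoc]

theorem cenW_comm {x : T} (h : CenW x) (t : T) : CenW ⁅x, t⁆ := by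
  have e : ⁅x, t⁆ = x * (t * x⁻¹ * t⁻¹) := by
    rw [commutatorElement_def]; group
  rw [e]
  exact cenW_mul h (cenW_conj (cenW_inv h) t)

/-- CENTX. -/
theorem exists_central (h : Str T) (hne : Nat.card ↥(Subgroup.center ↥(Wc T)) ≠ 8) :
    ∃ x ∈ fixSub (Subgroup.upperCentralSeries T 3) (Wc T) ⊤, x ∉ Subgroup.upperCentralSeries T 3 ∧
      ∀ w ∈ Wc T, x * w = w * x := by
  by_contra hcon
  -- every element of `Z_4` which is central in `W` lies in `Z_3`
  have h4 : ∀ x, CenW x → x ∈ Subgroup.upperCentralSeries T 4 →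
      x ∈ Subgroup.upperCentralSeries T 3 := by
    intro x hx hx4
    by_contra hx3
    apply hcon
    refine ⟨x, ?_, hx3, hx.2⟩
    rw [mem_fixSub]
    exact ⟨hx.1, fun s _ => comm_ucs 3 x hx4 s⟩
  -- hence every central element of `W` lies in `Z_3`
  have hall : ∀ j : ℕ, ∀ x, CenW x → x ∈ Subgroup.upperCentralSeries T j →
      x ∈ Subgroup.upperCentralSeries T 3 := by
    intro j
    induction j with
    | zero =>
      intro x _ hx0
      rw [Subgroup.upperCentralSeries_zero, Subgroup.mem_bot] at hx0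
      rw [hx0]
      exact Subgroup.one_mem _
    | succ j ih =>
      intro x hx hxj
      apply h4 x hx
      rw [Subgroup.mem_upperCentralSeries_succ_iff]
      intro t
      exact ih _ (cenW_comm hx t) (comm_ucs j x hxj t)
  have hfin := h.fin
  have : Fact (2 : ℕ).Prime := ⟨Nat.prime_two⟩
  have hnil : Group.IsNilpotent T := h.pg.isNilpotent
  obtain ⟨n, hn⟩ := hnil.nilpotent'
  have hcen : ∀ x, CenW x → x ∈ Subgroup.upperCentralSeries T 3 := by
    intro x hx
    exact hall n x hx (by rw [hn]; exact Subgroup.mem_top x)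
  -- so the centre of `W` is `Z_3`
  have hmap : (Subgroup.center ↥(Wc T)).map (Wc T).subtype = Subgroup.upperCentralSeries T 3 := by
    apply le_antisymm
    · rintro _ ⟨c, hc, rfl⟩
      apply hcen
      refine ⟨c.2, fun w hw => ?_⟩
      have := Subgroup.mem_center_iff.1 hc ⟨w, hw⟩
      have h' := congrArg Subtype.val this
      exact h'.symm
    · intro z hz
      have hzW : z ∈ Wc T := Z3_le_W h hz
      have hzc : (⟨z, hzW⟩ : ↥(Wc T)) ∈ Subgroup.center ↥(Wc T) := by
        rw [Subgroup.mem_center_iff]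
        intro w
        apply Subtype.ext
        exact commute_Z3 w.1 w.2 z hz
      exact ⟨⟨z, hzW⟩, hzc, rfl⟩
  apply hne
  have hcard : Nat.card ↥((Subgroup.center ↥(Wc T)).map (Wc T).subtype) =
      Nat.card ↥(Subgroup.center ↥(Wc T)) :=
    (Nat.card_congr ((Subgroup.center ↥(Wc T)).equivMapOfInjective (Wc T).subtype
      (Wc T).subtype_injective).toEquiv).symm
  rw [← hcard, hmap, h.cardZ 3 (by norm_num)]
  norm_num

end Cfsg.Agent.Lib.Helper90_RU_CENTX
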