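import Mathlib
import Cfsg.Agent.Lib.Helper56_RuDefs
import Cfsg.Agent.Lib.Helper56_RuBasic
import Cfsg.Agent.Lib.Helper90_RU_CENTX
import Cfsg.Agent.Lib.Helper8_RU_NHATa
import Cfsg.Agent.Lib.Helper7_RU_EXP
import Cfsg.Agent.Lib.Helper61_RU_COUNT
import Cfsg.Agent.Lib.Helper91_RU_STEPCOR
import Cfsg.Agent.Lib.Helper60_RU_EXEaux
import Cfsg.Agent.Lib.Helper7_RU_BIGE
import Cfsg.Agent.Lib.Helper79_RU_HYPER

/-!
# Rudvalis-type 2-groups: `Z(W) = Z_3` (helper56; package CENTER of S3174, assembled from the ru_packages market)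
-/

set_option autoImplicit false
open scoped commutatorElement
open Cfsg.Agent.Lib.Helper56_RuDefs Cfsg.Agent.Lib.Helper56_RuBasic

namespace Cfsg.Agent.Lib.Helper56_RuCenter

variable {T : Type*} [Group T]

theorem relIndex_Z2_Z3 (h : Str T) :
    (Subgroup.upperCentralSeries T 2).relIndex (Subgroup.upperCentralSeries T 3) = 2 := by
  have hle : Subgroup.upperCentralSeries T 2 ≤ Subgroup.upperCentralSeries T 3 :=
    Subgroup.upperCentralSeries_mono T (by norm_num)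
  have h1 := card_mul_relIndex hle
  rw [h.cardZ 2 (by norm_num), h.cardZ 3 (by norm_num)] at h1
  omega

/-- CENTER. `|Z(W)| = 8`. -/
theorem center_card (h : Str T) : Nat.card ↥(Subgroup.center ↥(Wc T)) = 8 := by
  by_contra hne
  have := h.fin
  obtain ⟨x, hx, hx3, hxc⟩ := Cfsg.Agent.Lib.Helper90_RU_CENTX.exists_central h hne
  have hexp := Cfsg.Agent.Lib.Helper7_RU_EXP.exp_Z3 h
  have hNsq := Cfsg.Agent.Lib.Helper8_RU_NHATa.Nc_sq_aux hexp
  obtain ⟨n', hn', n, hn, hn'W, hnS⟩ := Cfsg.Agent.Lib.Helper8_RU_NHATa.Nc_choice_aux h hNsq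
  have hcnt := Cfsg.Agent.Lib.Helper61_RU_COUNT.count h n' n hn' hn'W hn hnS
  have hsurj : Cfsg.Agent.Lib.Helper60_RU_EXEaux.SurjStmt T := fun S hWS s hsN hs2 heq =>
    Cfsg.Agent.Lib.Helper91_RU_STEPCOR.step_surj (Subgroup.upperCentralSeries T 3) (Wc T) S (Z3_le_W h) hWS
      (sq_mem h) (comm_mem h) s hsN hs2 heq
  obtain ⟨v, hv, z, hz, hvx⟩ :=
    Cfsg.Agent.Lib.Helper60_RU_EXEaux.exists_e_of h n' n hn' hn'W hn hnS x hx hcnt hsurj hNsq
  obtain ⟨E, hZE, hEW, hcard, hsq, hab⟩ :=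
    Cfsg.Agent.Lib.Helper7_RU_BIGE.big_E h n' n hn' hn'W hn hnS x v z hx hx3 hxc hv hz hvx
  have hle : Subgroup.upperCentralSeries T 2 ≤ Subgroup.upperCentralSeries T 3 :=
    Subgroup.upperCentralSeries_mono T (by norm_num)
  obtain ⟨U, hHU, hUE, hZU, hUidx⟩ :=
    Cfsg.Agent.Lib.Helper79_RU_HYPER.exists_hyperplane E _ _ hle hZE (relIndex_Z2_Z3 h) hsq hab
  have h1 := card_mul_relIndex hUE
  have h2 := card_mul_relIndex (hUE.trans hEW)
  rw [card_W h] at h2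
  rw [hUidx] at h1
  have h3 : 2 ^ 7 ≤ Nat.card ↥U := by omega
  have h4 : U.relIndex (Wc T) ≤ 16 := by
    by_contra hcon
    push Not at hcon
    have : 2 ^ 7 * 17 ≤ Nat.card ↥U * U.relIndex (Wc T) := Nat.mul_le_mul h3 hcon
    omega
  exact hZU (h.hd U (hUE.trans hEW) h4)

end Cfsg.Agent.Lib.Helper56_RuCenter
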