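import Mathlib
import Cfsg.Prelude.Def_Classical
import Cfsg.Agent.Lib.Helper61_TableHom

/-!
# Helper61_PSpTools

Small tools for the projective symplectic groups `Cfsg.PSp m F`: transfer along a ring isomorphism
(`spEquiv`, `pspEquiv`) and the fact that the quotient map identifies `A` and `-A` (`mk_eq_of_pm`).
-/

set_option autoImplicit false

namespace Cfsg.Agent.Lib.Helper61_PSpTools

open Matrix Cfsg.Agent.Lib.Helper61_TableHom

section transfer

variable {l : Type*} [DecidableEq l] [Fintype l] {R S : Type*} [CommRing R] [CommRing S]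

/-- The symplectic groups of isomorphic rings. -/
def spEquiv (e : R ≃+* S) : Matrix.symplecticGroup l R ≃* Matrix.symplecticGroup l S where
  toFun A := ⟨A.1.map (e : R →+* S), SymplecticGroup.map_mem A.2 (e : R →+* S)⟩
  invFun A := ⟨A.1.map (e.symm : S →+* R), SymplecticGroup.map_mem A.2 (e.symm : S →+* R)⟩
  left_inv A := by
    apply Subtype.ext
    ext i j
    simp
  right_inv A := by
    apply Subtype.ext
    ext i j
    simp
  map_mul' A B := by
    apply Subtype.ext
    show (A.1 * B.1).map (e : R →+* S) = A.1.map (e : R →+* S) * B.1.map (e : R →+* S)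
    exact Matrix.map_mul

/-- The projective symplectic groups of isomorphic rings. -/
noncomputable def pspEquiv (e : R ≃+* S) :
    Matrix.symplecticGroup l R ⧸ Subgroup.center (Matrix.symplecticGroup l R) ≃*
      Matrix.symplecticGroup l S ⧸ Subgroup.center (Matrix.symplecticGroup l S) :=
  QuotientGroup.congr _ _ (spEquiv e) (map_center_of_mulEquiv (spEquiv e))

/-- `-1` as an element of the symplectic group. -/
def negOne : Matrix.symplecticGroup l R := ⟨-1, SymplecticGroup.neg_mem (one_mem _)⟩

theorem negOne_mem_center : (negOne : Matrix.symplecticGroup l R) ∈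
    Subgroup.center (Matrix.symplecticGroup l R) := by
  rw [Subgroup.mem_center_iff]
  intro X
  apply Subtype.ext
  show X.1 * (-1) = (-1) * X.1
  rw [mul_neg, mul_one, neg_mul, one_mul]

/-- The quotient map identifies `A` and `-A`. -/
theorem mk_eq_of_pm (A B : Matrix.symplecticGroup l R) (h : B.1 = A.1 ∨ B.1 = -A.1) :
    (QuotientGroup.mk B : Matrix.symplecticGroup l R ⧸ Subgroup.center (Matrix.symplecticGroup l R)) =
      QuotientGroup.mk A := by
  rcases h with h | h
  · rw [Subtype.ext h]
  · have hB : B = negOne * A := by
      apply Subtype.ext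
      show B.1 = (-1) * A.1
      rw [h, neg_mul, one_mul]
    rw [hB, QuotientGroup.mk_mul, (QuotientGroup.eq_one_iff negOne).2 negOne_mem_center, one_mul]

end transfer

end Cfsg.Agent.Lib.Helper61_PSpTools
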