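import Cfsg.Agent.Lib.Helper56_S3366Defs
import Cfsg.Agent.Lib.Helper61_PSpTools

/-!
# S3366: the generic last steps (transport along an isomorphism, counting)
-/

set_option autoImplicit false

open Cfsg.Agent.Lib.Helper56_S3366Defs

namespace Cfsg.Agent.Lib.Helper56_S3366Fin

/-- transport of the conclusion of S3366 along a group isomorphism -/
theorem transport {G G' : Type*} [Group G] [Group G'] (φ : G ≃* G') {Y : Type*} [Group Y]
    (c : G) (S : Sylow 3 G)
    (h1 : orderOf c = 3) (h2 : c ∈ (S : Subgroup G))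
    (h3 : c ∈ Subgroup.centralizer ((S : Subgroup G) : Set G))
    (h4 : Nonempty (Y ≃* Subgroup.centralizer ({c} : Set G))) :
    ∃ (c' : G') (S' : Sylow 3 G'), orderOf c' = 3 ∧ c' ∈ (S' : Subgroup G') ∧
      c' ∈ Subgroup.centralizer ((S' : Subgroup G') : Set G') ∧
      Nonempty (Y ≃* Subgroup.centralizer ({c'} : Set G')) := by
  have hr : (S : Subgroup G) ≤ φ.symm.toMonoidHom.range := by
    intro x _
    exact ⟨φ x, φ.symm_apply_apply x⟩
  have hinj : Function.Injective φ.symm.toMonoidHom := φ.symm.injective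
  obtain ⟨S', hS'⟩ : ∃ S' : Sylow 3 G',
      (S' : Subgroup G') = (S : Subgroup G).comap φ.symm.toMonoidHom :=
    ⟨S.comapOfInjective φ.symm.toMonoidHom hinj hr, Sylow.coe_comapOfInjective _ _ _ _⟩
  refine ⟨φ c, S', ?_, ?_, ?_, ?_⟩
  · rw [MulEquiv.orderOf_eq, h1]
  · rw [hS', Subgroup.mem_comap]
    show φ.symm (φ c) ∈ (S : Subgroup G)
    rw [φ.symm_apply_apply]; exact h2
  · rw [hS', Subgroup.mem_centralizer_iff]
    intro x hx
    have hx' : φ.symm x ∈ (S : Subgroup G) := hx
    have := (Subgroup.mem_centralizer_iff.mp h3) (φ.symm x) hx'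
    have h5 := congrArg φ this
    rw [map_mul, map_mul, φ.apply_symm_apply] at h5
    exact h5
  · obtain ⟨ε⟩ := h4
    have hmap : (Subgroup.centralizer ({c} : Set G)).map φ.toMonoidHom =
        Subgroup.centralizer ({φ c} : Set G') := by
      ext x
      rw [Subgroup.mem_map, Subgroup.mem_centralizer_singleton_iff]
      constructor
      · rintro ⟨y, hy, rfl⟩
        rw [Subgroup.mem_centralizer_singleton_iff] at hy
        show φ y * φ c = φ c * φ y
        rw [← map_mul, ← map_mul, hy]
      · intro hx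
        refine ⟨φ.symm x, ?_, φ.apply_symm_apply x⟩
        rw [Subgroup.mem_centralizer_singleton_iff]
        apply φ.injective
        rw [map_mul, map_mul, φ.apply_symm_apply]
        exact hx
    exact ⟨ε.trans ((φ.subgroupMap _).trans (MulEquiv.subgroupCongr hmap))⟩

/-- an injective homomorphism into a subgroup of at most the same order is an isomorphism onto it -/
theorem equiv_of_injective_of_card_le {M G : Type*} [Group M] [Group G] [Finite M] [Finite G]
    (θ : M →* G) (hθ : Function.Injective θ) (C : Subgroup G) (hC : ∀ m, θ m ∈ C)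
    (hcard : Nat.card C ≤ Nat.card M) : Nonempty (M ≃* C) ∧ Nat.card C = Nat.card M := by
  let θ' : M →* C := θ.codRestrict C hC
  have hinj : Function.Injective θ' := by
    intro m m' h
    apply hθ
    exact congrArg Subtype.val h
  have hle : Nat.card M ≤ Nat.card C := Nat.card_le_card_of_injective θ' hinj
  have heq : Nat.card C = Nat.card M := le_antisymm hcard hle
  have hbij : Function.Bijective θ' := by
    rw [Nat.bijective_iff_injective_and_card]
    exact ⟨hinj, heq.symm⟩
  exact ⟨⟨MulEquiv.ofBijective θ' hbij⟩, heq⟩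

theorem card_model (h24 : Nat.card SL2 = 24) : Nat.card Model = 648 := by
  rw [SemidirectProduct.card, Hs.card, h24]

instance : Finite Model := by
  have : Finite (Hs × SL2) := inferInstance
  exact Finite.of_equiv _ SemidirectProduct.equivProd.symm

/-- the ring isomorphism with a field of order 3 -/
noncomputable def ringEquiv3 (F : Type*) [Field F] [Fintype F] (hF : Fintype.card F = 3) :
    ZMod 3 ≃+* F :=
  ZMod.ringEquivOfPrime F Nat.prime_three hF

/-- `PSp(4,3)` over any field of order 3 -/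
noncomputable def pspEquiv3 (F : Type*) [Field F] [Fintype F] (hF : Fintype.card F = 3) :
    P43 ≃* Cfsg.PSp 2 F :=
  Cfsg.Agent.Lib.Helper61_PSpTools.pspEquiv (ringEquiv3 F hF)

/-- the end of the proof of S3366, from the package results -/
theorem final {X : Type*} [Group X] (hX : Nonempty (X ≃* Model))
    (h24 : Nat.card SL2 = 24)
    (hemb : ∃ θ : Model →* P43, Function.Injective θ ∧ ∀ m : Model, θ m * c0 = c0 * θ m)
    (hP : Nat.card P43 = 25920) (hc0 : orderOf c0 = 3)
    (hcent : Nat.card (Subgroup.centralizer ({c0} : Set P43)) ≤ 648)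
    (hsyl : ∀ {G : Type} [Group G] [Finite G] (c : G), orderOf c = 3 → Nat.card G = 25920 →
      Nat.card (Subgroup.centralizer ({c} : Set G)) = 648 →
      ∃ S : Sylow 3 G, c ∈ (S : Subgroup G) ∧
        c ∈ Subgroup.centralizer ((S : Subgroup G) : Set G))
    (F : Type*) [Field F] [Fintype F] (hF : Fintype.card F = 3) :
    ∃ (c : Cfsg.PSp 2 F) (S : Sylow 3 (Cfsg.PSp 2 F)), orderOf c = 3 ∧
      c ∈ (S : Subgroup (Cfsg.PSp 2 F)) ∧
      c ∈ Subgroup.centralizer ((S : Subgroup (Cfsg.PSp 2 F)) : Set (Cfsg.PSp 2 F)) ∧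
      Nonempty (X ≃* Subgroup.centralizer ({c} : Set (Cfsg.PSp 2 F))) := by
  have : Finite P43 := Nat.finite_of_card_ne_zero (by rw [hP]; norm_num)
  obtain ⟨θ, hθ, hcomm⟩ := hemb
  obtain ⟨ε⟩ := hX
  have hmem : ∀ m, θ m ∈ Subgroup.centralizer ({c0} : Set P43) := by
    intro m
    rw [Subgroup.mem_centralizer_singleton_iff]
    exact hcomm m
  have hM := card_model h24
  obtain ⟨⟨η⟩, hC⟩ := equiv_of_injective_of_card_le θ hθ _ hmem (by rw [hM]; exact hcent)
  rw [hM] at hC
  obtain ⟨S, hS1, hS2⟩ := hsyl c0 hc0 hP hC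
  exact transport (pspEquiv3 F hF) c0 S hc0 hS1 hS2 ⟨ε.trans η⟩

end Cfsg.Agent.Lib.Helper56_S3366Fin
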