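import Mathlib
import Cfsg.Agent.Lib.Helper56_S3366Defs
import Cfsg.Agent.S0246

/-! # S3366 package EMB: the model embeds in the centraliser of `c0` in `PSp(4,3)` -/

set_option autoImplicit false

open Cfsg.Agent.Lib.Helper56_S3366Defs
open scoped commutatorElement

namespace Cfsg.Agent.Lib.Helper56_S3366_EMB

theorem PhiM_one : PhiM 1 = 1 := by decide

theorem PhiM_mul : ∀ h k : Hs, PhiM (h * k) = PhiM h * PhiM k := by decide

theorem PsiM_mem : ∀ g : SL2, PsiM g.1 ∈ Matrix.symplecticGroup (Fin 2) (ZMod 3) := by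
  intro g
  rw [SymplecticGroup.mem_iff]
  revert g
  decide

theorem PsiM_one : PsiM (1 : SL2).1 = 1 := by decide

theorem PsiM_mul : ∀ g g' : SL2, PsiM (g * g').1 = PsiM g.1 * PsiM g'.1 := by decide

theorem compat : ∀ (g : SL2) (h : Hs), PsiM g.1 * PhiM h = PhiM (actFun g.1 h) * PsiM g.1 := by
  decide

theorem PhiM_comm : ∀ h : Hs, PhiM h * T0M = T0M * PhiM h := by decide

theorem PsiM_comm : ∀ g : SL2, PsiM g.1 * T0M = T0M * PsiM g.1 := by decide

theorem entry_one : ∀ (h : Hs) (g : SL2), (PhiM h * PsiM g.1) (Sum.inl 0) (Sum.inl 0) = 1 := by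
  decide

theorem eq_one_of_prod : ∀ (h : Hs) (g : SL2), PhiM h * PsiM g.1 = 1 → h = 1 ∧ g = 1 := by
  decide

/-- `Hs → Sp(4,3)` -/
def Phi : Hs →* Sp4 where
  toFun h := ⟨PhiM h, PhiM_mem h⟩
  map_one' := Subtype.ext PhiM_one
  map_mul' h k := Subtype.ext (PhiM_mul h k)

/-- `SL(2,3) → Sp(4,3)` -/
def Psi : SL2 →* Sp4 where
  toFun g := ⟨PsiM g.1, PsiM_mem g⟩
  map_one' := Subtype.ext PsiM_one
  map_mul' g g' := Subtype.ext (PsiM_mul g g')

theorem lift_cond (g : SL2) :
    Phi.comp (act g).toMonoidHom = (MulAut.conj (Psi g)).toMonoidHom.comp Phi := by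
  ext1 h
  show Phi (act g h) = Psi g * Phi h * (Psi g)⁻¹
  rw [eq_mul_inv_iff_mul_eq]
  apply Subtype.ext
  show PhiM (actFun g.1 h) * PsiM g.1 = PsiM g.1 * PhiM h
  exact (compat g h).symm

/-- the embedding `Model → Sp(4,3)` -/
def Lam : Model →* Sp4 := SemidirectProduct.lift Phi Psi lift_cond

theorem Lam_val (m : Model) : (Lam m).1 = PhiM m.left * PsiM m.right.1 := rfl

theorem Lam_comm (m : Model) : Lam m * T0 = T0 * Lam m := by
  apply Subtype.ext
  show PhiM m.left * PsiM m.right.1 * T0M = T0M * (PhiM m.left * PsiM m.right.1)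
  rw [Matrix.mul_assoc, PsiM_comm, ← Matrix.mul_assoc, PhiM_comm, Matrix.mul_assoc]

theorem exists_embedding :
    ∃ θ : Model →* P43, Function.Injective θ ∧ ∀ m : Model, θ m * c0 = c0 * θ m := by
  refine ⟨(QuotientGroup.mk' (Subgroup.center Sp4)).comp Lam, ?_, ?_⟩
  · rw [injective_iff_map_eq_one]
    intro m hm
    have hm' : Lam m ∈ Subgroup.center Sp4 := by
      rw [← QuotientGroup.eq_one_iff]
      exact hm
    have h1 := Cfsg.Agent.S0246.center_eq_one_or_neg_one 2 (by norm_num) (Lam m) hm'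
    have h2 : (Lam m).1 = 1 := by
      rcases h1 with h1 | h1
      · exact h1
      · exfalso
        have h3 := entry_one m.left m.right
        rw [← Lam_val, h1] at h3
        revert h3
        decide
    obtain ⟨h4, h5⟩ := eq_one_of_prod m.left m.right (by rw [← Lam_val]; exact h2)
    ext1
    · exact h4
    · exact h5
  · intro m
    show (QuotientGroup.mk (Lam m) : P43) * QuotientGroup.mk T0 = QuotientGroup.mk T0 * QuotientGroup.mk (Lam m)
    rw [← QuotientGroup.mk_mul, ← QuotientGroup.mk_mul, Lam_comm]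

end Cfsg.Agent.Lib.Helper56_S3366_EMB
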