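import Mathlib
import Cfsg.Agent.Lib.Helper56_S3366Defs
set_option autoImplicit false
open Cfsg.Agent.Lib.Helper56_S3366Defs
open scoped commutatorElement

/-! # S3366 PKG FRAT: `X = Q · C_X(z)` (fallback copy by the architect) -/

namespace Cfsg.Agent.Lib.Helper56_S3366_FRAT

variable {X : Type*} [Group X]

theorem frattini {Q Z : Subgroup X} {ψ : X →* SL2} (hS : Setting Q Z ψ)
    (z : X) (hz2 : z ^ 2 = 1) (hz : ψ z = -1) :
    ∀ x : X, ∃ q ∈ Q, (q⁻¹ * x) * z = z * (q⁻¹ * x) := by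
  intro x
  -- r := z⁻¹ * x * z * x⁻¹ ∈ Q
  have hzinv : z⁻¹ = z := by
    rw [inv_eq_iff_mul_eq_one, ← pow_two, hz2]
  have hcen : ∀ g : SL2, g * (-1) = (-1) * g := by decide
  set r := z⁻¹ * x * z * x⁻¹ with hr
  have hrQ : r ∈ Q := by
    rw [← hS.ψker, MonoidHom.mem_ker, hr]
    simp only [map_mul, map_inv, hz]
    rw [mul_assoc ((-1 : SL2)⁻¹), hcen (ψ x), ← mul_assoc, inv_mul_cancel, one_mul, mul_inv_cancel]
  have hr3 : r ^ 3 = 1 := hS.Qexp r hrQ
  -- x z x⁻¹ = z r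
  have hxz : x * z * x⁻¹ = z * r := by
    rw [hr]; group
  -- (z r)^2 = 1
  have hzr2 : (z * r) * (z * r) = 1 := by
    rw [← hxz]
    have : x * z * x⁻¹ * (x * z * x⁻¹) = x * (z * z) * x⁻¹ := by group
    rw [this, ← pow_two, hz2, mul_one, mul_inv_cancel]
  -- z r z⁻¹ = r⁻¹
  have hzrz : z * r * z = r⁻¹ := by
    have : z * r * z * r = 1 := by rw [← hzr2]; group
    exact eq_inv_of_mul_eq_one_left this
  -- `q := r` works: `z r z = r⁻¹` and `r^3 = 1`
  refine ⟨r, hrQ, ?_⟩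
  have hxz' : x * z = z * r * x := by
    have := congrArg (· * x) hxz
    simpa [mul_assoc] using this
  have hrinv : r⁻¹ = r * r := by
    rw [inv_eq_iff_mul_eq_one]
    rw [← hr3]; simp [pow_succ, mul_assoc]
  have hzr' : z * r⁻¹ = r * z := by
    -- from z r z = r⁻¹: z r = r⁻¹ z⁻¹ = r⁻¹ z ; so z r⁻¹ = r z
    have h1 : z * r = r⁻¹ * z := by
      have := congrArg (· * z) hzrz
      simp only [mul_assoc] at this
      rw [← pow_two, hz2, mul_one] at this
      exact this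
    have h2 : r * (z * r) * r⁻¹ = r * (r⁻¹ * z) * r⁻¹ := by rw [h1]
    simp only [mul_assoc, mul_inv_cancel, mul_one, mul_inv_cancel_left] at h2
    exact h2.symm
  calc r⁻¹ * x * z = r⁻¹ * (x * z) := by rw [mul_assoc]
    _ = r⁻¹ * (z * r * x) := by rw [hxz']
    _ = (r⁻¹ * z) * r * x := by simp [mul_assoc]
    _ = z * (r⁻¹ * x) := by
      have h1 : z * r = r⁻¹ * z := by
        have := congrArg (· * z) hzrz
        simp only [mul_assoc] at this
        rw [← pow_two, hz2, mul_one] at this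
        exact this
      rw [← h1, mul_assoc z r r, ← hrinv, mul_assoc]

end Cfsg.Agent.Lib.Helper56_S3366_FRAT
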