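import Mathlib
import Cfsg.Agent.Lib.Helper56_S3366Defs
set_option autoImplicit false
open Cfsg.Agent.Lib.Helper56_S3366Defs
open scoped commutatorElement

/-! # S3366 PKG INV: an involution above `-1` (fallback copy by the architect) -/

namespace Cfsg.Agent.Lib.Helper56_S3366_INV

variable {X : Type*} [Group X]

theorem exists_involution {Q Z : Subgroup X} {ψ : X →* SL2} (hS : Setting Q Z ψ) :
    ∃ z : X, z ^ 2 = 1 ∧ ψ z = -1 := by
  obtain ⟨x, hx⟩ := hS.ψsurj (-1)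
  have hx2 : x ^ 2 ∈ Q := by
    rw [← hS.ψker, MonoidHom.mem_ker, map_pow, hx]
    decide
  have h6 : (x ^ 2) ^ 3 = 1 := hS.Qexp _ hx2
  refine ⟨x ^ 3, ?_, ?_⟩
  · rw [← pow_mul] at h6 ⊢
    exact h6
  · rw [map_pow, hx]
    decide

end Cfsg.Agent.Lib.Helper56_S3366_INV
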