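import Mathlib
import Cfsg.Agent.Lib.Helper56_S3366Defs

/-! # S3366 package SLF: computational facts about `SL(2, ZMod 3)` -/

set_option autoImplicit false

open Cfsg.Agent.Lib.Helper56_S3366Defs
open scoped commutatorElement

namespace Cfsg.Agent.Lib.Helper56_S3366_SLF

theorem sl2_card : Nat.card SL2 = 24 := by
  rw [Nat.card_eq_fintype_card]; decide

theorem negOne_of_ne_one : ∀ (g : SL2), g ≠ 1 →
    g = -1 ∨ g ^ 2 = -1 ∨ g ^ 3 = -1 ∨ ∃ h : SL2, (g * (h * g * h⁻¹)) ^ 3 = -1 := by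
  decide

theorem pow_four_of_pow_eight : ∀ (g : SL2), g ^ 8 = 1 → g ^ 4 = 1 := by
  decide

theorem card_pow_four : Nat.card {g : SL2 // g ^ 4 = 1} = 8 := by
  rw [Nat.card_eq_fintype_card]; decide

theorem negOne_central : ∀ (g : SL2), g * (-1) = (-1) * g := by
  decide

theorem negOne_ne_one : (-1 : SL2) ≠ 1 := by decide

theorem exists_sq_ne_one : ∃ g : SL2, g ^ 2 ≠ 1 := by decide

/-- the upper transvection -/
def uu : SL2 := ⟨!![1, 1; 0, 1], by decide⟩
/-- the lower transvection -/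
def vv : SL2 := ⟨!![1, 0; 1, 1], by decide⟩

theorem uu_cube : uu ^ 3 = 1 := by decide
theorem vv_cube : vv ^ 3 = 1 := by decide

theorem exists_word : ∀ g : SL2, ∃ a b c d : Fin 3,
    g = uu ^ (a : ℕ) * vv ^ (b : ℕ) * uu ^ (c : ℕ) * vv ^ (d : ℕ) := by
  decide

theorem closure_cube : Subgroup.closure {g : SL2 | g ^ 3 = 1} = ⊤ := by
  rw [eq_top_iff]
  intro g _
  obtain ⟨a, b, c, d, rfl⟩ := exists_word g
  have hu : uu ∈ Subgroup.closure {g : SL2 | g ^ 3 = 1} := Subgroup.subset_closure uu_cube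
  have hv : vv ∈ Subgroup.closure {g : SL2 | g ^ 3 = 1} := Subgroup.subset_closure vv_cube
  exact mul_mem (mul_mem (mul_mem (pow_mem hu _) (pow_mem hv _)) (pow_mem hu _)) (pow_mem hv _)

theorem card_le_three_of_exp (H : Subgroup SL2) (h : ∀ g ∈ H, g ^ 3 = 1) : Nat.card H ≤ 3 := by
  have hp : IsPGroup 3 H := by
    intro g
    refine ⟨1, ?_⟩
    apply Subtype.ext
    rw [pow_one, Subgroup.coe_pow]
    exact h g.1 g.2
  obtain ⟨n, hn⟩ := IsPGroup.iff_card.mp hp
  have hdvd : Nat.card H ∣ 24 := by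
    have := Subgroup.card_subgroup_dvd_card H
    rwa [sl2_card] at this
  rw [hn] at hdvd ⊢
  rcases n with _ | _ | n
  · norm_num
  · norm_num
  · exfalso
    have h9 : 9 ∣ 24 := by
      refine Dvd.dvd.trans ?_ hdvd
      exact ⟨3 ^ n, by ring⟩
    omega

end Cfsg.Agent.Lib.Helper56_S3366_SLF
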