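import Mathlib
import Cfsg.Agent.Lib.Helper56_S3366Defs
import Cfsg.Agent.Lib.Helper61_PSpTools

/-!
# S3366 (architect helper56): package CENTZ (helper58)

`X` centralises `Z`.
-/

set_option autoImplicit false
set_option linter.unusedVariables false
set_option linter.unusedSectionVars false

open Cfsg.Agent.Lib.Helper56_S3366Defs
open scoped commutatorElement

namespace Cfsg.Agent.Lib.Helper58_S3366_CENTZ

variable {X : Type*} [Group X]

/-- an element whose image has cube one centralises `Z` -/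
theorem cube_centralizes {Q Z : Subgroup X} {ψ : X →* SL2} (hS : Setting Q Z ψ) (x : X)
    (hx : ψ x ^ 3 = 1) : ∀ ξ ∈ Z, x * ξ * x⁻¹ = ξ := by
  intro ξ hξ
  have hx3 : x ^ 3 ∈ Q := by
    rw [← hS.ψker, MonoidHom.mem_ker, map_pow]
    exact hx
  have hx9 : x ^ 9 = 1 := by
    have := hS.Qexp _ hx3
    rw [← pow_mul] at this
    exact this
  have hξ3 : ξ ^ 3 = 1 := hS.Qexp ξ (hS.ZleQ hξ)
  by_cases hξ1 : ξ = 1
  · rw [hξ1, mul_one, mul_inv_cancel]
  have hηZ : x * ξ * x⁻¹ ∈ Z := hS.Znormal.conj_mem ξ hξ x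
  have hξ' : (⟨ξ, hξ⟩ : ↥Z) ≠ 1 := by
    intro h
    exact hξ1 (congrArg Subtype.val h)
  have : Fact (Nat.Prime 3) := ⟨Nat.prime_three⟩
  have hz := zpowers_eq_top_of_prime_card hS.Zcard hξ'
  have hmem : (⟨x * ξ * x⁻¹, hηZ⟩ : ↥Z) ∈ Subgroup.zpowers (⟨ξ, hξ⟩ : ↥Z) := by
    rw [hz]
    exact Subgroup.mem_top _
  obtain ⟨k, hk⟩ := Subgroup.mem_zpowers_iff.mp hmem
  have hk' : ξ ^ k = x * ξ * x⁻¹ := by
    have := congrArg Subtype.val hk
    simpa using this
  have hkr : ξ ^ k = ξ ^ (k % 3) := by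
    have h1 : k = 3 * (k / 3) + k % 3 := (Int.mul_ediv_add_emod k 3).symm
    have h2 : ξ ^ (3 * (k / 3)) = 1 := by
      rw [zpow_mul]
      have : ξ ^ (3 : ℤ) = 1 := by
        have h3 : ξ ^ ((3 : ℕ) : ℤ) = ξ ^ 3 := zpow_natCast ξ 3
        exact h3.trans hξ3
      rw [this, one_zpow]
    conv_lhs => rw [h1]
    rw [zpow_add, h2, one_mul]
  have hr0 : 0 ≤ k % 3 := Int.emod_nonneg k (by norm_num)
  have hr3 : k % 3 < 3 := Int.emod_lt_of_pos k (by norm_num)
  have e1 : x * ξ = (x * ξ * x⁻¹) * x := by group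
  obtain ⟨r, hrdef⟩ : ∃ r : ℤ, r = k % 3 := ⟨_, rfl⟩
  rw [← hrdef] at hkr hr0 hr3
  rw [hkr] at hk'
  have hcases : r = 0 ∨ r = 1 ∨ r = 2 := by omega
  rcases hcases with h0 | h1 | h2
  · rw [h0, zpow_zero] at hk'
    exfalso
    apply hξ1
    exact conj_eq_one_iff.mp hk'.symm
  · rw [h1, zpow_one] at hk'
    exact hk'.symm
  · rw [h2] at hk'
    have hk2 : ξ ^ 2 = x * ξ * x⁻¹ := by
      have h3 : ξ ^ ((2 : ℕ) : ℤ) = ξ ^ 2 := zpow_natCast ξ 2
      rw [← h3]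
      exact hk'
    have e3 : x * ξ = ξ * ξ * x := by
      rw [← pow_two, hk2]
      exact e1
    have hξ3' : ξ * ξ * ξ = 1 := by
      rw [← hξ3, pow_succ, pow_two]
    have hcomm2 : x ^ 2 * ξ = ξ * x ^ 2 := by
      rw [pow_two]
      calc x * x * ξ = x * (x * ξ) := mul_assoc _ _ _
        _ = x * (ξ * ξ * x) := by rw [e3]
        _ = (x * ξ) * ξ * x := by simp only [mul_assoc]
        _ = (ξ * ξ * x) * ξ * x := by rw [e3]
        _ = ξ * ξ * (x * ξ) * x := by simp only [mul_assoc]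
        _ = ξ * ξ * (ξ * ξ * x) * x := by rw [e3]
        _ = (ξ * ξ * ξ) * ξ * (x * x) := by simp only [mul_assoc]
        _ = ξ * (x * x) := by rw [hξ3', one_mul]
    have hc : Commute (x ^ 2) ξ := hcomm2
    have hc5 : Commute ((x ^ 2) ^ 5) ξ := hc.pow_left 5
    have hx10 : (x ^ 2) ^ 5 = x := by
      rw [← pow_mul]
      have : x ^ (2 * 5) = x ^ 9 * x := by rw [← pow_succ]
      rw [this, hx9, one_mul]
    rw [hx10] at hc5
    have := hc5.eq
    rw [this, mul_inv_cancel_right]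

theorem centralizes_Z {Q Z : Subgroup X} {ψ : X →* SL2} (hS : Setting Q Z ψ)
    (hgen : Subgroup.closure {g : SL2 | g ^ 3 = 1} = ⊤) :
    ∀ x : X, ∀ ξ ∈ Z, x * ξ * x⁻¹ = ξ := by
  have hmemH : ∀ x : X, x ∈ Subgroup.centralizer (Z : Set X) ↔ ∀ ξ ∈ Z, x * ξ * x⁻¹ = ξ := by
    intro x
    rw [Subgroup.mem_centralizer_iff]
    constructor
    · intro h ξ hξ
      rw [← h ξ hξ, mul_inv_cancel_right]
    · intro h ξ hξ
      have h1 := h ξ hξ
      calc ξ * x = (x * ξ * x⁻¹) * x := by rw [h1]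
        _ = x * ξ := by group
  have hQH : ψ.ker ≤ Subgroup.centralizer (Z : Set X) := by
    rw [hS.ψker]
    intro q hq
    rw [Subgroup.mem_centralizer_iff]
    intro ξ hξ
    exact hS.Zcentral ξ hξ q hq
  have hmap : (Subgroup.centralizer (Z : Set X)).map ψ = ⊤ := by
    rw [eq_top_iff, ← hgen, Subgroup.closure_le]
    intro g hg
    obtain ⟨x, rfl⟩ := hS.ψsurj g
    exact ⟨x, (hmemH x).mpr (cube_centralizes hS x hg), rfl⟩
  have htop : Subgroup.centralizer (Z : Set X) = ⊤ := by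
    rw [← Subgroup.comap_map_eq_self hQH, hmap, Subgroup.comap_top]
  intro x
  apply (hmemH x).mp
  rw [htop]
  exact Subgroup.mem_top x

end Cfsg.Agent.Lib.Helper58_S3366_CENTZ
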