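import Mathlib
import Cfsg.Agent.Lib.Helper56_S3366Defs
import Cfsg.Agent.Lib.Helper61_PSpTools
import Cfsg.Agent.Lib.Helper1_Cores

/-!
# S3366 (architect helper56): package SETUP (helper58)

The hypotheses of S3366 give a `Setting`.
-/

set_option autoImplicit false
set_option linter.unusedVariables false
set_option linter.unusedSectionVars false

open Cfsg.Agent.Lib.Helper56_S3366Defs
open scoped commutatorElement

namespace Cfsg.Agent.Lib.Helper58_S3366_SETUP

theorem setup {X : Type*} [Group X] [Finite X]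
    (hR : Cfsg.IsExtraspecial 3 (Cfsg.pCore 3 X)) (hRcard : Nat.card (Cfsg.pCore 3 X) = 27)
    (hRexp : ∀ r ∈ Cfsg.pCore 3 X, r ^ 3 = 1)
    (e : X ⧸ Cfsg.pCore 3 X ≃* SL2)
    (hO2 : Cfsg.pCore 2 X = ⊥) :
    ∃ (Z : Subgroup X) (ψ : X →* SL2), Setting (Cfsg.pCore 3 X) Z ψ := by
  obtain ⟨⟨hpg, hfrat, hcomm⟩, hcard⟩ := hR
  refine ⟨(Subgroup.center ↥(Cfsg.pCore 3 X)).map (Cfsg.pCore 3 X).subtype,
    e.toMonoidHom.comp (QuotientGroup.mk' (Cfsg.pCore 3 X)), ?_⟩
  have hmemZ : ∀ c : ↥(Cfsg.pCore 3 X), c ∈ Subgroup.center ↥(Cfsg.pCore 3 X) →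
      (c : X) ∈ (Subgroup.center ↥(Cfsg.pCore 3 X)).map (Cfsg.pCore 3 X).subtype :=
    fun c hc => ⟨c, hc, rfl⟩
  refine
    { fin := inferInstance
      Qnormal := Cfsg.Agent.Lib.Helper1_Cores.pCore_normal 3
      Qcard := hRcard
      Qexp := hRexp
      ZleQ := Subgroup.map_subtype_le _
      Znormal := ?_
      Zcard := ?_
      comm_mem := ?_
      Zcentral := ?_
      Zcenter := ?_
      nonab := ?_
      ψsurj := ?_
      ψker := ?_
      noCentInv := ?_ }
  · have : (Cfsg.pCore 3 X).Normal := Cfsg.Agent.Lib.Helper1_Cores.pCore_normal 3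
    exact ConjAct.normal_of_characteristic_of_normal
  · exact (Nat.card_congr (Subgroup.equivMapOfInjective _ _
      (Subgroup.subtype_injective _)).toEquiv.symm).trans hcard
  · intro q hq q' hq'
    have h1 : ⁅(⟨q, hq⟩ : ↥(Cfsg.pCore 3 X)), ⟨q', hq'⟩⁆ ∈ commutator ↥(Cfsg.pCore 3 X) := by
      rw [commutator_def]
      exact Subgroup.commutator_mem_commutator (Subgroup.mem_top _) (Subgroup.mem_top _)
    rw [hcomm] at h1
    exact hmemZ _ h1
  · rintro ξ ⟨c, hc, rfl⟩ q hq
    have h1 := (Subgroup.mem_center_iff.mp hc) ⟨q, hq⟩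
    have h2 := congrArg Subtype.val h1
    exact h2.symm
  · intro q hq hcomm'
    have h1 : (⟨q, hq⟩ : ↥(Cfsg.pCore 3 X)) ∈ Subgroup.center ↥(Cfsg.pCore 3 X) := by
      rw [Subgroup.mem_center_iff]
      intro g
      apply Subtype.ext
      exact (hcomm' g.1 g.2).symm
    exact hmemZ _ h1
  · by_contra hcon
    push Not at hcon
    have htop : Subgroup.center ↥(Cfsg.pCore 3 X) = ⊤ := by
      rw [eq_top_iff]
      intro c _
      rw [Subgroup.mem_center_iff]
      intro g
      apply Subtype.ext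
      have h1 := hcon g.1 g.2 c.1 c.2
      exact commutatorElement_eq_one_iff_mul_comm.mp h1
    rw [htop, Subgroup.card_top, hRcard] at hcard
    omega
  · intro g
    obtain ⟨y, rfl⟩ := e.surjective g
    obtain ⟨x, rfl⟩ := QuotientGroup.mk'_surjective (Cfsg.pCore 3 X) y
    exact ⟨x, rfl⟩
  · ext x
    rw [MonoidHom.mem_ker]
    constructor
    · intro h1
      have h2 : e (QuotientGroup.mk' (Cfsg.pCore 3 X) x) = 1 := h1
      have h3 : QuotientGroup.mk' (Cfsg.pCore 3 X) x = 1 := by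
        apply e.injective
        rw [h2, map_one]
      exact (QuotientGroup.eq_one_iff x).mp h3
    · intro hx
      have h3 : QuotientGroup.mk' (Cfsg.pCore 3 X) x = 1 := (QuotientGroup.eq_one_iff x).mpr hx
      show e (QuotientGroup.mk' (Cfsg.pCore 3 X) x) = 1
      rw [h3, map_one]
  · intro w hw hcen
    have hN : (Subgroup.zpowers w).Normal := by
      constructor
      intro n hn g
      obtain ⟨k, rfl⟩ := Subgroup.mem_zpowers_iff.mp hn
      have h1 : g * w ^ k * g⁻¹ = w ^ k := by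
        have hc : Commute g w := hcen g
        have := (hc.zpow_right k).eq
        rw [this, mul_inv_cancel_right]
      rw [h1]
      exact Subgroup.zpow_mem_zpowers w k
    have hP : IsPGroup 2 (Subgroup.zpowers w) := by
      rintro ⟨g, hg⟩
      obtain ⟨k, rfl⟩ := Subgroup.mem_zpowers_iff.mp hg
      refine ⟨1, ?_⟩
      apply Subtype.ext
      show (w ^ k) ^ 2 ^ 1 = 1
      rw [pow_one, ← zpow_natCast, ← zpow_mul, mul_comm, zpow_mul, zpow_natCast, hw, one_zpow]
    have h1 := Cfsg.Agent.Lib.Helper1_Cores.le_pCore hN hP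
    rw [hO2] at h1
    have h2 := h1 (Subgroup.mem_zpowers w)
    exact Subgroup.mem_bot.mp h2

end Cfsg.Agent.Lib.Helper58_S3366_SETUP
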