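import Mathlib
import Cfsg.Agent.Lib.Helper56_S3366Defs

/-!
helper77 — package FRAME of helper56's S3366 market: assemble the frame.
-/

set_option autoImplicit false
open Cfsg.Agent.Lib.Helper56_S3366Defs
open scoped commutatorElement

namespace Cfsg.Agent.Lib.Helper77_S3366_FRAME

variable {X : Type*} [Group X]

/-- A finite group of order dividing `p ^ 2` is commutative. -/
theorem comm_of_card_dvd_sq {G : Type*} [Group G] [Finite G] (p : ℕ) [hp : Fact p.Prime]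
    (h : Nat.card G ∣ p ^ 2) (a b : G) : a * b = b * a := by
  obtain ⟨k, hk, hc⟩ := (Nat.dvd_prime_pow hp.out).mp h
  interval_cases k
  · rw [pow_zero] at hc
    have : Subsingleton G := (Nat.card_eq_one_iff_unique.mp hc).1
    exact Subsingleton.elim _ _
  · rw [pow_one] at hc
    have := isCyclic_of_prime_card hc
    exact isMulCommutative_iff.mp IsCyclic.isMulCommutative a b
  · exact isMulCommutative_iff.mp (IsPGroup.isMulCommutative_of_card_eq_prime_sq hc) a b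

theorem exists_frame {Q Z : Subgroup X} {ψ : X →* SL2} (hS : Setting Q Z ψ)
    (hcard : Nat.card SL2 = 24)
    (z : X)
    (hcz : ∀ x : X, ∀ ξ ∈ Z, x * ξ * x⁻¹ = ξ)
    (hfaith : ∀ x : X, (∀ q ∈ Q, ⁅x, q⁆ ∈ Z) → x ∈ Q)
    (hsec1 : ∀ q ∈ Q, ∃ ξ ∈ Z, z * (q * ξ) * z⁻¹ = (q * ξ)⁻¹)
    (L : Subgroup X) (hL24 : Nat.card L = 24) (hLQ : L ⊓ Q = ⊥) (hLz : ∀ l ∈ L, l * z = z * l) :
    ∃ a b : X, Frame Q a b z L := by
  have hfin : Finite X := hS.fin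
  have hp3 : Fact (Nat.Prime 3) := ⟨Nat.prime_three⟩
  -- the order of `X`
  have hX : Nat.card X = 648 := by
    have h1 := Subgroup.card_eq_card_quotient_mul_card_subgroup ψ.ker
    rw [Nat.card_congr (QuotientGroup.quotientKerEquivOfSurjective ψ hS.ψsurj).toEquiv, hcard,
      hS.ψker, hS.Qcard] at h1
    rw [h1]
  obtain ⟨q, hq, q', hq', hne⟩ := hS.nonab
  obtain ⟨ξ, hξ, hza⟩ := hsec1 q hq
  obtain ⟨ξ', hξ', hzb⟩ := hsec1 q' hq'
  have haQ : q * ξ ∈ Q := Q.mul_mem hq (hS.ZleQ hξ)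
  have hbQ : q' * ξ' ∈ Q := Q.mul_mem hq' (hS.ZleQ hξ')
  -- central elements drop out of the commutator
  have hcomm : ⁅q * ξ, q' * ξ'⁆ = ⁅q, q'⁆ := by
    have e1 : ξ * q' = q' * ξ := hS.Zcentral ξ hξ q' hq'
    have e2 : ξ' * q = q * ξ' := hS.Zcentral ξ' hξ' q hq
    have e3 : ξ * q⁻¹ = q⁻¹ * ξ := hS.Zcentral ξ hξ q⁻¹ (Q.inv_mem hq)
    have e4 : ξ' * q⁻¹ = q⁻¹ * ξ' := hS.Zcentral ξ' hξ' q⁻¹ (Q.inv_mem hq)
    have e5 : ξ * ξ' = ξ' * ξ := hS.Zcentral ξ hξ ξ' (hS.ZleQ hξ')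
    rw [commutatorElement_def, commutatorElement_def]
    calc q * ξ * (q' * ξ') * (q * ξ)⁻¹ * (q' * ξ')⁻¹
        = q * (ξ * q') * ξ' * ξ⁻¹ * q⁻¹ * ξ'⁻¹ * q'⁻¹ := by simp only [mul_inv_rev]; group
      _ = q * (q' * ξ) * ξ' * ξ⁻¹ * q⁻¹ * ξ'⁻¹ * q'⁻¹ := by rw [e1]
      _ = q * q' * (ξ * ξ') * ξ⁻¹ * q⁻¹ * ξ'⁻¹ * q'⁻¹ := by group
      _ = q * q' * (ξ' * ξ) * ξ⁻¹ * q⁻¹ * ξ'⁻¹ * q'⁻¹ := by rw [e5]
      _ = q * q' * (ξ' * q⁻¹) * ξ'⁻¹ * q'⁻¹ := by group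
      _ = q * q' * (q⁻¹ * ξ') * ξ'⁻¹ * q'⁻¹ := by rw [e4]
      _ = q * q' * q⁻¹ * q'⁻¹ := by group
  have hζZ : ⁅q * ξ, q' * ξ'⁆ ∈ Z := hS.comm_mem _ haQ _ hbQ
  have hne' : ⁅q * ξ, q' * ξ'⁆ ≠ 1 := by rw [hcomm]; exact hne
  refine ⟨q * ξ, q' * ξ', ?_⟩
  refine
    { fin := hfin
      Xcard := hX
      Qnormal := hS.Qnormal
      Qcard := hS.Qcard
      Qexp := hS.Qexp
      ha := haQ
      hb := hbQ
      hne := hne'
      hca := hS.Zcentral _ hζZ _ haQ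
      hcb := hS.Zcentral _ hζZ _ hbQ
      hza := hza
      hzb := hzb
      Lz := hLz
      Lζ := fun l _ => hcz l _ hζZ
      Lcard := hL24
      Ldisj := hLQ
      Lfaith := ?_ }
  intro l hl hla hlb
  set a := q * ξ with ha
  set b := q' * ξ' with hb
  -- the subgroup of `Q` on which `l` acts trivially modulo `Z`
  let C : Subgroup X :=
    { carrier := {x | x ∈ Q ∧ ⁅l, x⁆ ∈ Z}
      one_mem' := by
        refine ⟨Q.one_mem, ?_⟩
        rw [commutatorElement_def]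
        simp [Z.one_mem]
      mul_mem' := by
        rintro x x' ⟨hx, hxZ⟩ ⟨hx', hxZ'⟩
        refine ⟨Q.mul_mem hx hx', ?_⟩
        have hcen : ⁅l, x'⁆ * x⁻¹ = x⁻¹ * ⁅l, x'⁆ := hS.Zcentral _ hxZ' _ (Q.inv_mem hx)
        have : ⁅l, x * x'⁆ = ⁅l, x⁆ * ⁅l, x'⁆ := by
          have h1 : ⁅l, x * x'⁆ = ⁅l, x⁆ * (x * (⁅l, x'⁆ * x⁻¹)) := by
            simp only [commutatorElement_def, mul_inv_rev]; group
          rw [h1, hcen]
          group
        rw [this]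
        exact Z.mul_mem hxZ hxZ'
      inv_mem' := by
        rintro x ⟨hx, hxZ⟩
        refine ⟨Q.inv_mem hx, ?_⟩
        have hcen : ⁅l, x⁆⁻¹ * x = x * ⁅l, x⁆⁻¹ := hS.Zcentral _ (Z.inv_mem hxZ) _ hx
        have : ⁅l, x⁻¹⁆ = ⁅l, x⁆⁻¹ := by
          have h1 : ⁅l, x⁻¹⁆ = x⁻¹ * (⁅l, x⁆⁻¹ * x) := by
            simp only [commutatorElement_def, mul_inv_rev, inv_inv]; group
          rw [h1, hcen]
          group
        rw [this]
        exact Z.inv_mem hxZ }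
  have hCQ : C ≤ Q := fun x hx => hx.1
  have haC : a ∈ C := by
    refine ⟨haQ, ?_⟩
    rw [commutatorElement_def, hla, mul_inv_cancel]
    exact Z.one_mem
  have hbC : b ∈ C := by
    refine ⟨hbQ, ?_⟩
    rw [commutatorElement_def, hlb, mul_inv_cancel]
    exact Z.one_mem
  -- `C = Q`
  have hCcard : Nat.card C ∣ 3 ^ 3 := by
    have := Subgroup.card_dvd_of_le hCQ
    rw [hS.Qcard] at this
    exact this
  obtain ⟨k, hk, hc⟩ := (Nat.dvd_prime_pow Nat.prime_three).mp hCcard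
  have hk3 : k = 3 := by
    by_contra hk3
    have hk2 : k ≤ 2 := by omega
    have hdvd : Nat.card C ∣ 3 ^ 2 := by rw [hc]; exact pow_dvd_pow 3 hk2
    have hab := comm_of_card_dvd_sq 3 hdvd (⟨a, haC⟩ : C) ⟨b, hbC⟩
    have hab' : a * b = b * a := congrArg Subtype.val hab
    apply hne'
    rw [commutatorElement_def, hab']
    group
  have hCeq : C = Q := by
    apply Subgroup.eq_of_le_of_card_ge hCQ
    rw [hc, hk3, hS.Qcard]
    norm_num
  have hlQ : l ∈ Q := by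
    apply hfaith
    intro x hx
    have : x ∈ C := by rw [hCeq]; exact hx
    exact this.2
  have : l ∈ L ⊓ Q := ⟨hl, hlQ⟩
  rw [hLQ] at this
  exact Subgroup.mem_bot.mp this

end Cfsg.Agent.Lib.Helper77_S3366_FRAME
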