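import Cfsg.Agent.Lib.Helper56_S3366Defs
import Cfsg.Agent.Lib.Helper58_S3366_SETUP
import Cfsg.Agent.Lib.Helper58_S3366_CENTZ
import Cfsg.Agent.Lib.Helper56_S3366_INV
import Cfsg.Agent.Lib.Helper47_S3366_FAITH
import Cfsg.Agent.Lib.Helper33_S3366_INVERT
import Cfsg.Agent.Lib.Helper24_S3366_SECTION
import Cfsg.Agent.Lib.Helper56_S3366_FRAT
import Cfsg.Agent.Lib.Helper33_S3366_ORD3
import Cfsg.Agent.Lib.Helper38_S3366_SYL2
import Cfsg.Agent.Lib.Helper77_S3366_COMPL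
import Cfsg.Agent.Lib.Helper77_S3366_FRAME
import Cfsg.Agent.Lib.Helper54_S3366_KAPMUL
import Cfsg.Agent.Lib.Helper24_S3366_KAPBIJ
import Cfsg.Agent.Lib.Helper27_S3366_KAPZ
import Cfsg.Agent.Lib.Helper27_S3366_ACT
import Cfsg.Agent.Lib.Helper38_S3366_ISO
import Cfsg.Agent.Lib.Helper48_S3366_CLASS
import Cfsg.Agent.Lib.Helper54_S3366_SYL3
import Cfsg.Agent.Lib.Helper56_S3366_SLF
import Cfsg.Agent.Lib.Helper56_S3366_EMB

/-!
# S3366: assembly of the packages (architect: helper56).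

`main`: under the hypotheses of S3366, `X ≃* Model = Hs ⋊[act] SL(2,3)`.
Packages proved by helper24/27/33/38/47/48/54/56/58/69/77 (see `pending/helper56/S3366_proof.md`).
-/

set_option autoImplicit false

open Cfsg.Agent.Lib.Helper56_S3366Defs
open scoped commutatorElement

namespace Cfsg.Agent.Lib.Helper56_S3366Main

theorem main {X : Type*} [Group X] [Finite X]
    (hR : Cfsg.IsExtraspecial 3 (Cfsg.pCore 3 X)) (hRcard : Nat.card (Cfsg.pCore 3 X) = 27)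
    (hRexp : ∀ r ∈ Cfsg.pCore 3 X, r ^ 3 = 1)
    (e : X ⧸ Cfsg.pCore 3 X ≃* Matrix.SpecialLinearGroup (Fin 2) (ZMod 3))
    (hO2 : Cfsg.pCore 2 X = ⊥)
    (hE : ∃ E : Subgroup X, IsMulCommutative E ∧ (∀ a ∈ E, a ^ 3 = 1) ∧ Nat.card E = 27) :
    Nonempty (X ≃* Model) := by
  obtain ⟨Z, ψ, hS⟩ := Cfsg.Agent.Lib.Helper58_S3366_SETUP.setup hR hRcard hRexp e hO2
  have hcz := Cfsg.Agent.Lib.Helper58_S3366_CENTZ.centralizes_Z hS Cfsg.Agent.Lib.Helper56_S3366_SLF.closure_cube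
  obtain ⟨z, hz2, hz⟩ := Cfsg.Agent.Lib.Helper56_S3366_INV.exists_involution hS
  have hfaith := Cfsg.Agent.Lib.Helper47_S3366_FAITH.faithful hS hcz Cfsg.Agent.Lib.Helper56_S3366_SLF.negOne_of_ne_one
  have hinv := Cfsg.Agent.Lib.Helper33_S3366_INVERT.inverts hS hcz hfaith z hz2 hz
  have hzZ : ∀ ξ ∈ Z, z * ξ * z⁻¹ = ξ := hcz z
  have hsec1 := Cfsg.Agent.Lib.Helper24_S3366_SECTION.section_exists hS z hz2 hzZ hinv
  have hsec2 := Cfsg.Agent.Lib.Helper24_S3366_SECTION.section_unique hS z hzZ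
  have hfix := Cfsg.Agent.Lib.Helper24_S3366_SECTION.fixed_mem_Z hS z hinv
  have hfrat := Cfsg.Agent.Lib.Helper56_S3366_FRAT.frattini hS z hz2 hz
  obtain ⟨E, hEc, hEe, hEcard⟩ := hE
  obtain ⟨y, hyz, hy3, hyQ⟩ := Cfsg.Agent.Lib.Helper33_S3366_ORD3.exists_order_three hS z hz2 hcz hsec1 hsec2 hfrat
    Cfsg.Agent.Lib.Helper56_S3366_SLF.card_le_three_of_exp E hEc hEe hEcard
  obtain ⟨T, hT8, hTz, hTn⟩ := Cfsg.Agent.Lib.Helper38_S3366_SYL2.exists_normal_two hS z hz2 hz hcz hfix hfrat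
    Cfsg.Agent.Lib.Helper56_S3366_SLF.sl2_card
    Cfsg.Agent.Lib.Helper56_S3366_SLF.pow_four_of_pow_eight Cfsg.Agent.Lib.Helper56_S3366_SLF.card_pow_four
  obtain ⟨L, hL24, hLQ, hLz⟩ := Cfsg.Agent.Lib.Helper77_S3366_COMPL.exists_complement hS z hfix T hT8 hTz hTn y hyz hy3 hyQ
  obtain ⟨a, b, hF⟩ := Cfsg.Agent.Lib.Helper77_S3366_FRAME.exists_frame hS Cfsg.Agent.Lib.Helper56_S3366_SLF.sl2_card z hcz hfaith hsec1 L hL24 hLQ hLz
  have ha3 := hF.Qexp a hF.ha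
  have hb3 := hF.Qexp b hF.hb
  have hmul := Cfsg.Agent.Lib.Helper54_S3366_KAPMUL.kap_mul a b ha3 hb3 hF.hca hF.hcb
  haveI := hF.fin
  have hbij := Cfsg.Agent.Lib.Helper24_S3366_KAPBIJ.kap_bij (Cfsg.pCore 3 X) hF.Qcard a b hF.ha hF.hb ha3 hb3 hF.hne
    hF.hca hF.hcb hmul
  have hzk := Cfsg.Agent.Lib.Helper27_S3366_KAPZ.kap_conj_z a b z ha3 hb3 hF.hca hF.hcb hF.hza hF.hzb
  have hact : ∀ l ∈ L, ∃ g : SL2, ∀ h : Hs, l * kap a b h * l⁻¹ = kap a b (act g h) := by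
    intro l hl
    refine Cfsg.Agent.Lib.Helper27_S3366_ACT.conj_kap (Cfsg.pCore 3 X) a b z l hF.ha hF.hb ha3 hb3 hF.hne hF.hca hF.hcb
      hF.hza hF.hzb hmul hbij hzk ?_ (hF.Lz l hl) (hF.Lζ l hl)
    intro q hq
    exact hF.Qnormal.conj_mem q hq l
  exact Cfsg.Agent.Lib.Helper38_S3366_ISO.iso_model (Cfsg.pCore 3 X) a b z L hF Cfsg.Agent.Lib.Helper56_S3366_SLF.sl2_card hmul hbij hact

end Cfsg.Agent.Lib.Helper56_S3366Main
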