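import Mathlib
import Cfsg.Agent.Lib.Helper56_S3390Defs

/-!
# S3390 PKG TRANSFER: a fusion-closed subgroup of index 2 of a Sylow 2-subgroup
is cut out by a normal subgroup of index 2 (transfer into `S/S*`, Mathlib's `transferFocal`).
-/

set_option autoImplicit false

open Cfsg.Agent.Lib.Helper56_S3390Defs
open scoped commutatorElement

namespace Cfsg.Agent.Lib.Helper56_S3390_TRANSFER

variable {G : Type*} [Group G]

/-- the focal subgroup of `H` lies in a fusion-closed subgroup of index 2 -/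
theorem focal_le (H T : Subgroup G) (hidx : (T.subgroupOf H).index = 2)
    (hcl : ∀ y ∈ H, ∀ g : G, g * y * g⁻¹ ∈ H → (y ∈ T ↔ g * y * g⁻¹ ∈ T)) :
    H.focalSubgroupOf ≤ T.subgroupOf H := by
  rw [Subgroup.focalSubgroupOf_eq_closure, Subgroup.closure_le]
  rintro g ⟨x, hx, u, hg⟩
  -- `g = ⁅x, u⁆ = x * (u * x * u⁻¹)⁻¹`
  have hg' : (g : G) = x * (u * x * u⁻¹)⁻¹ := by
    rw [hg, commutatorElement_def]
    group
  have hconj : u * x * u⁻¹ ∈ H := by
    have h1 : u * x * u⁻¹ = (g : G)⁻¹ * x := by rw [hg']; group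
    rw [h1]
    exact H.mul_mem (H.inv_mem g.2) hx
  have hiff := hcl x hx u hconj
  have hmul := Subgroup.mul_mem_iff_of_index_two hidx (a := (⟨x, hx⟩ : H))
    (b := (⟨u * x * u⁻¹, hconj⟩ : H)⁻¹)
  have hgeq : g = (⟨x, hx⟩ : H) * (⟨u * x * u⁻¹, hconj⟩ : H)⁻¹ := by
    apply Subtype.ext
    rw [hg']
    rfl
  show g ∈ T.subgroupOf H
  rw [hgeq, hmul, inv_mem_iff]
  simp only [Subgroup.mem_subgroupOf]
  exact hiff

theorem exists_index_two [Finite G] (S : Sylow 2 G) (T : Subgroup G) (hTS : T ≤ (S : Subgroup G))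
    (hidx : Nat.card ↥(S : Subgroup G) = 2 * Nat.card ↥T)
    (hcl : ∀ y ∈ (S : Subgroup G), ∀ g : G, g * y * g⁻¹ ∈ (S : Subgroup G) →
      (y ∈ T ↔ g * y * g⁻¹ ∈ T)) :
    ∃ N : Subgroup G, N.Normal ∧ N.index = 2 ∧ T ≤ N ∧ ∀ s ∈ (S : Subgroup G), s ∉ T → s ∉ N := by
  classical
  set H : Subgroup G := (S : Subgroup G) with hH
  -- `T' = T ∩ H` has index 2 in `H`
  have hidx2 : (T.subgroupOf H).index = 2 := by
    have h1 : Nat.card ↥(T.subgroupOf H) * (T.subgroupOf H).index = Nat.card ↥H :=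
      Subgroup.card_mul_index _
    have h3 : Nat.card ↥(T.subgroupOf H) = Nat.card ↥T :=
      Nat.card_congr (Subgroup.subgroupOfEquivOfLe hTS).toEquiv
    rw [h3, hidx] at h1
    have hpos : 0 < Nat.card ↥T := Nat.card_pos
    have : Nat.card ↥T * (T.subgroupOf H).index = Nat.card ↥T * 2 := by rw [h1]; ring
    exact Nat.eq_of_mul_eq_mul_left hpos this
  have hnorm : (T.subgroupOf H).Normal := Subgroup.normal_of_index_eq_two hidx2
  have hfoc := focal_le H T hidx2 hcl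
  -- the composite `G → H/H* → H/T'`
  let π : ↥H ⧸ H.focalSubgroupOf →* ↥H ⧸ T.subgroupOf H :=
    QuotientGroup.map _ _ (MonoidHom.id ↥H) (by
      intro x hx
      exact hfoc hx)
  let V : G →* ↥H ⧸ T.subgroupOf H := π.comp H.transferFocal
  have hodd : ¬ 2 ∣ H.index := S.not_dvd_index
  -- the quotient has order 2
  have hQcard : Nat.card (↥H ⧸ T.subgroupOf H) = 2 := by
    rw [← Subgroup.index_eq_card]; exact hidx2
  have hsq : ∀ q : ↥H ⧸ T.subgroupOf H, q ^ 2 = 1 := by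
    intro q
    have := pow_card_eq_one' (G := ↥H ⧸ T.subgroupOf H) (x := q)
    rwa [hQcard] at this
  -- value of `V` on `H`
  have hV : ∀ x : ↥H, V (x : G) = (QuotientGroup.mk x : ↥H ⧸ T.subgroupOf H) := by
    intro x
    show π (H.transferFocal (x : G)) = _
    rw [Subgroup.transferFocal_eq_pow, map_pow]
    have hπ : π (x : ↥H ⧸ H.focalSubgroupOf) = (QuotientGroup.mk x : ↥H ⧸ T.subgroupOf H) := rfl
    rw [hπ]
    obtain ⟨k, hk⟩ : ∃ k, H.index = 2 * k + 1 := by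
      rcases Nat.even_or_odd' H.index with ⟨k, hk | hk⟩
      · exact absurd ⟨k, hk⟩ hodd
      · exact ⟨k, hk⟩
    rw [hk, pow_succ, pow_mul, hsq, one_pow, one_mul]
  have hVmem : ∀ x : ↥H, (x : G) ∈ V.ker ↔ (x : G) ∈ T := by
    intro x
    rw [MonoidHom.mem_ker, hV x, QuotientGroup.eq_one_iff, Subgroup.mem_subgroupOf]
  refine ⟨V.ker, inferInstance, ?_, ?_, ?_⟩
  · -- index 2: `V` is onto
    rw [Subgroup.index_ker]
    have hsurj : Function.Surjective V := by
      intro q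
      obtain ⟨x, rfl⟩ := QuotientGroup.mk_surjective q
      exact ⟨(x : G), hV x⟩
    rw [MonoidHom.range_eq_top.mpr hsurj, Subgroup.card_top]
    exact hQcard
  · intro t ht
    exact (hVmem ⟨t, hTS ht⟩).mpr ht
  · intro s hs hsT hsN
    exact hsT ((hVmem ⟨s, hs⟩).mp hsN)

end Cfsg.Agent.Lib.Helper56_S3390_TRANSFER
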