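import Mathlib
import Cfsg.Agent.Lib.Helper56_S3390Defs

/-!
# S3390 package FROBA (helper56's market `s3390_packages`)

Every element with a fixed point lies in the normal subgroup `N` of index two.
-/

set_option autoImplicit false

open Cfsg.Agent.Lib.Helper56_S3390Defs
open scoped Pointwise

namespace Cfsg.Agent.Lib.Helper8_S3390_FROBA

variable {G : Type*} [Group G] {Ω : Type*} [MulAction G Ω]

/-- a `2`-element of a finite group is conjugate into a given Sylow `2`-subgroup -/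
theorem exists_conj_mem_sylow [Finite G] (S : Sylow 2 G) (y : G) (k : ℕ) (hy : y ^ 2 ^ k = 1) :
    ∃ c : G, c * y * c⁻¹ ∈ (S : Subgroup G) := by
  have hp : IsPGroup 2 ↥(Subgroup.zpowers y) := by
    have h1 : Nat.card ↥(Subgroup.zpowers y) ∣ 2 ^ k := by
      rw [Nat.card_zpowers]; exact orderOf_dvd_of_pow_eq_one hy
    obtain ⟨j, -, hj⟩ := (Nat.dvd_prime_pow Nat.prime_two).mp h1
    exact IsPGroup.of_card hj
  obtain ⟨P, hP⟩ := hp.exists_le_sylow
  obtain ⟨c, hc⟩ := MulAction.exists_smul_eq G P S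
  refine ⟨c, ?_⟩
  have hyP : y ∈ (P : Subgroup G) := hP (Subgroup.mem_zpowers y)
  have h2 : MulAut.conj c • y ∈ MulAut.conj c • (P : Subgroup G) :=
    Subgroup.smul_mem_pointwise_smul _ _ _ hyP
  have h3 : ((c • P : Sylow 2 G) : Subgroup G) = MulAut.conj c • (P : Subgroup G) := rfl
  rw [← h3, hc] at h2
  simpa [MulAut.smul_def, MulAut.conj_apply] using h2

theorem mem_of_fixed [Finite G] (S : Sylow 2 G) (α : Ω)
    (hchar : ∀ y ∈ (S : Subgroup G),
      (y ∈ stabIn (S : Subgroup G) α ↔ (y = 1 ∨ ∃ ω : Ω, y • ω = ω)))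
    (N : Subgroup G) (hN : N.Normal) (hNi : N.index = 2) (hTN : stabIn (S : Subgroup G) α ≤ N)
    (x : G) (ω : Ω) (hx : x • ω = ω) : x ∈ N := by
  have hn0 : orderOf x ≠ 0 := (orderOf_pos x).ne'
  obtain ⟨k, m, hm, hkm⟩ := Nat.exists_eq_two_pow_mul_odd hn0
  -- the `2`-part `y = x ^ m`
  have hy : (x ^ m) ^ 2 ^ k = 1 := by
    rw [← pow_mul, mul_comm, ← hkm, pow_orderOf_eq_one]
  have hyω : (x ^ m) • ω = ω := by
    have : x ∈ MulAction.stabilizer G ω := MulAction.mem_stabilizer_iff.mpr hx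
    exact MulAction.mem_stabilizer_iff.mp (Subgroup.pow_mem _ this m)
  obtain ⟨c, hc⟩ := exists_conj_mem_sylow S (x ^ m) k hy
  have hcN : c * x ^ m * c⁻¹ ∈ N := by
    apply hTN
    refine (hchar _ hc).mpr (Or.inr ⟨c • ω, ?_⟩)
    rw [mul_smul, mul_smul, inv_smul_smul, hyω]
  have hyN : x ^ m ∈ N := by
    have := hN.conj_mem _ hcN c⁻¹
    simpa [mul_assoc] using this
  have hsq : x ^ 2 ∈ N := Subgroup.sq_mem_of_index_two hNi x
  obtain ⟨r, hr⟩ := hm
  -- `x = x ^ m * ((x ^ 2) ^ r)⁻¹`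
  have hxm : x ^ m = x * (x ^ 2) ^ r := by rw [hr, pow_succ', pow_mul]
  have : x = x ^ m * ((x ^ 2) ^ r)⁻¹ := by rw [hxm, mul_inv_cancel_right]
  rw [this]
  exact N.mul_mem hyN (N.inv_mem (N.pow_mem hsq r))

end Cfsg.Agent.Lib.Helper8_S3390_FROBA
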