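import Mathlib
import Cfsg.Agent.Lib.Helper56_S3390Defs

/-!
# S3390 package ORB3 (helper56's market `s3390_packages`)

Index two and a further nonregular orbit give an involution `u` with `|C_S(u)| = 4`, and `S` is not
cyclic.
-/

set_option autoImplicit false

open Cfsg.Agent.Lib.Helper56_S3390Defs

namespace Cfsg.Agent.Lib.Helper8_S3390_ORB3

variable {G : Type*} [Group G] {Ω : Type*} [MulAction G Ω]

/-- two subgroups of `S` with trivial intersection: the product of the orders is at most `|S|` -/
theorem card_mul_card_le [Finite G] (S U T : Subgroup G) (hU : U ≤ S) (hT : T ≤ S)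
    (hd : Disjoint U T) : Nat.card ↥U * Nat.card ↥T ≤ Nat.card ↥S := by
  rw [← Nat.card_prod]
  let f : ↥U × ↥T → ↥S := fun g => ⟨g.1.1 * g.2.1, S.mul_mem (hU g.1.2) (hT g.2.2)⟩
  apply Nat.card_le_card_of_injective f
  intro x y hxy
  apply Subgroup.mul_injective_of_disjoint hd
  exact congrArg Subtype.val hxy

/-- a cyclic group contains at most one involution -/
theorem not_isCyclic_of_two_involutions [Finite G] (S : Subgroup G) (t u : G) (ht : t ∈ S)
    (hu : u ∈ S) (ht1 : t ≠ 1) (hu1 : u ≠ 1) (htu : t ≠ u) (ht2 : t ^ 2 = 1) (hu2 : u ^ 2 = 1) :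
    ¬ IsCyclic ↥S := by
  intro hc
  classical
  have : Fintype ↥S := Fintype.ofFinite _
  have h := IsCyclic.card_pow_eq_one_le (α := ↥S) (n := 2) (by norm_num)
  have h3 : 2 < (Finset.univ.filter fun a : ↥S => a ^ 2 = 1).card := by
    rw [Finset.two_lt_card]
    refine ⟨1, by simp, ⟨t, ht⟩, ?_, ⟨u, hu⟩, ?_, ?_, ?_, ?_⟩
    · simp only [Finset.mem_filter, Finset.mem_univ, true_and]
      exact Subtype.ext ht2
    · simp only [Finset.mem_filter, Finset.mem_univ, true_and]
      exact Subtype.ext hu2
    · intro h; exact ht1 (congrArg Subtype.val h).symm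
    · intro h; exact hu1 (congrArg Subtype.val h).symm
    · intro h; exact htu (congrArg Subtype.val h)
  omega

theorem other_stab [Finite G] (h2 : Fix2 G Ω) (S : Subgroup G) (hS : IsPGroup 2 ↥S) (α β : Ω)
    (hP : Pic S α β) (hidx : Nat.card ↥S = 2 * Nat.card ↥(stabIn S α))
    (hpic : ∀ γ : Ω, stabIn S γ ≠ ⊥ → ¬ S ≤ MulAction.stabilizer G γ → ∃ δ : Ω, Pic S γ δ)
    (γ : Ω) (hγα : γ ≠ α) (hγβ : γ ≠ β) (hγ : stabIn S γ ≠ ⊥) :
    ¬ IsCyclic ↥S ∧
      ∃ u ∈ S, u ≠ 1 ∧ u ^ 2 = 1 ∧ Nat.card ↥(S ⊓ Subgroup.centralizer ({u} : Set G)) = 4 := by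
  -- `U ⊓ T = 1`
  have hdisj : Disjoint (stabIn S γ) (stabIn S α) := by
    rw [Subgroup.disjoint_def]
    intro x hxU hxT
    by_contra hx1
    have hxγ : x • γ = γ := MulAction.mem_stabilizer_iff.mp hxU.2
    have hxα : x • α = α := MulAction.mem_stabilizer_iff.mp hxT.2
    have hxβ : x • β = β := by
      have : x ∈ stabIn S β := by rw [hP.stab_eq]; exact hxT
      exact MulAction.mem_stabilizer_iff.mp this.2
    rcases h2 x hx1 α β γ hxα hxβ hxγ with h | h | h
    · exact hP.ne h
    · exact hγα h.symm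
    · exact hγβ h.symm
  -- `|U| = 2`
  have hle := card_mul_card_le S (stabIn S γ) (stabIn S α) inf_le_left inf_le_left hdisj
  have hTpos : 0 < Nat.card ↥(stabIn S α) := Nat.card_pos
  have hU1 : 1 < Nat.card ↥(stabIn S γ) := (Subgroup.one_lt_card_iff_ne_bot _).mpr hγ
  have hU2 : Nat.card ↥(stabIn S γ) = 2 := by
    rw [hidx] at hle
    have := Nat.le_of_mul_le_mul_right hle hTpos
    omega
  obtain ⟨u, hu1⟩ := (Subgroup.ne_bot_iff_exists_ne_one).mp hγ
  have hu1' : (u : G) ≠ 1 := fun h => hu1 (Subtype.ext h)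
  have huU : (u : G) ∈ stabIn S γ := u.2
  have hu2 : (u : G) ^ 2 = 1 := by
    have : u ^ Nat.card ↥(stabIn S γ) = 1 := pow_card_eq_one'
    rw [hU2] at this
    exact congrArg Subtype.val this
  have hUel : ∀ y ∈ stabIn S γ, y = 1 ∨ y = (u : G) := by
    intro y hy
    obtain ⟨v, -, hv⟩ := (Nat.card_eq_two_iff' (1 : ↥(stabIn S γ))).mp hU2
    by_cases hy1 : y = 1
    · left; exact hy1
    · right
      have e1 : (⟨y, hy⟩ : ↥(stabIn S γ)) = v := hv _ (fun h => hy1 (congrArg Subtype.val h))
      have e2 : u = v := hv _ hu1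
      have := e1.trans e2.symm
      exact congrArg Subtype.val this
  -- `S` does not fix `γ`
  have hnot : ¬ S ≤ MulAction.stabilizer G γ := by
    intro hle'
    apply hP.Tne
    rw [Subgroup.eq_bot_iff_forall]
    intro t ht
    exact Subgroup.disjoint_def.mp hdisj ⟨ht.1, hle' ht.1⟩ ht
  obtain ⟨δ, hPγ⟩ := hpic γ hγ hnot
  have hnc := hPγ.normcard
  rw [hU2] at hnc
  -- `N_S(U) = C_S(u)`
  have heq : S ⊓ Subgroup.normalizer ((stabIn S γ : Subgroup G) : Set G) =
      S ⊓ Subgroup.centralizer ({(u : G)} : Set G) := by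
    ext x
    simp only [Subgroup.mem_inf]
    refine and_congr_right (fun hxS => ?_)
    rw [Subgroup.mem_centralizer_singleton_iff]
    constructor
    · intro hx
      have h1 : x * (u : G) * x⁻¹ ∈ stabIn S γ := (Subgroup.mem_normalizer_iff.mp hx _).mp huU
      rcases hUel _ h1 with h | h
      · exfalso; apply hu1'
        have : x * (u : G) = x := by
          have := congrArg (· * x) h
          simpa using this
        exact mul_eq_left.mp this
      · have := congrArg (· * x) h
        simpa using this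
    · intro hx
      rw [Subgroup.mem_normalizer_iff]
      have hconj : x * (u : G) * x⁻¹ = (u : G) := by rw [hx, mul_inv_cancel_right]
      have hconj' : x⁻¹ * (u : G) * x = (u : G) := by
        rw [mul_assoc, ← hx, inv_mul_cancel_left]
      intro h
      constructor
      · intro hh
        rcases hUel h hh with e | e
        · rw [e]; simp
        · rw [e, hconj]; exact huU
      · intro hh
        rcases hUel _ hh with e | e
        · have : h = 1 := by
            have := congrArg (fun z => x⁻¹ * z * x) e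
            simpa [mul_assoc] using this
          rw [this]; exact Subgroup.one_mem _
        · have : h = (u : G) := by
            have := congrArg (fun z => x⁻¹ * z * x) e
            simp only [mul_assoc, inv_mul_cancel_left, inv_mul_cancel, mul_one] at this
            rw [this, ← mul_assoc]; exact hconj'
          rw [this]; exact huU
  rw [heq] at hnc
  -- an involution in `T`
  have hTp : IsPGroup 2 ↥(stabIn S α) := hS.to_le inf_le_left
  have h2T : 2 ∣ Nat.card ↥(stabIn S α) := by
    rcases hTp.card_eq_or_dvd with h | h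
    · exfalso; exact hP.Tne (Subgroup.card_eq_one.mp h)
    · exact h
  have : Fact (Nat.Prime 2) := ⟨Nat.prime_two⟩
  obtain ⟨t, ht⟩ := exists_prime_orderOf_dvd_card' 2 h2T
  have ht2 : (t : G) ^ 2 = 1 := by
    have : t ^ 2 = 1 := by rw [← ht]; exact pow_orderOf_eq_one t
    exact congrArg Subtype.val this
  have ht1 : (t : G) ≠ 1 := by
    intro h
    have : t = 1 := Subtype.ext h
    rw [this, orderOf_one] at ht
    omega
  have htu : (t : G) ≠ (u : G) := by
    intro h
    apply ht1
    exact Subgroup.disjoint_def.mp hdisj (h ▸ huU) t.2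
  refine ⟨not_isCyclic_of_two_involutions S t u t.2.1 huU.1 ht1 hu1' htu ht2 hu2, u, huU.1, hu1',
    hu2, ?_⟩
  rw [hnc]

end Cfsg.Agent.Lib.Helper8_S3390_ORB3
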