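import Mathlib
import Cfsg.Agent.Lib.Helper56_S3390Defs

/-!
# S3390 package FIX (architect helper56): elementwise form of the fixity hypothesis.
-/

set_option autoImplicit false

open Cfsg.Agent.Lib.Helper56_S3390Defs

namespace Cfsg.Agent.Lib.Helper91_S3390_FIX

variable {G : Type*} [Group G] {Ω : Type*} [MulAction G Ω]

theorem fix2_of_card [Finite Ω]
    (hfix : ∀ g : G, g ≠ 1 → Nat.card (MulAction.fixedBy Ω g) ≤ 2) : Fix2 G Ω := by
  intro g hg a b c ha hb hc
  by_contra hcon
  have hab : a ≠ b := fun h => hcon (Or.inl h)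
  have hac : a ≠ c := fun h => hcon (Or.inr (Or.inl h))
  have hbc : b ≠ c := fun h => hcon (Or.inr (Or.inr h))
  let f : Fin 3 → MulAction.fixedBy Ω g :=
    ![⟨a, ha⟩, ⟨b, hb⟩, ⟨c, hc⟩]
  have hf : Function.Injective f := by
    intro i j hij
    have h' : (f i : Ω) = (f j : Ω) := congrArg Subtype.val hij
    fin_cases i <;> fin_cases j <;> first | rfl | (exfalso; simp [f] at h'; first | exact hab h' | exact hac h' | exact hbc h' | exact hab h'.symm | exact hac h'.symm | exact hbc h'.symm)
  have h3 := Nat.card_le_card_of_injective f hf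
  rw [Nat.card_eq_fintype_card, Fintype.card_fin] at h3
  have := hfix g hg
  omega

end Cfsg.Agent.Lib.Helper91_S3390_FIX
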