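import Mathlib
import Cfsg.Agent.Lib.Helper56_S3390Defs

/-!
# S3390 (Magaard–Waldecker), package ORB1 (architect helper56): the local picture

`exists_pic` plus the reusable normalizer-growth lemma `exists_normalizing_not_mem`.
-/

set_option autoImplicit false

open Cfsg.Agent.Lib.Helper56_S3390Defs

namespace Cfsg.Agent.Lib.Helper93_S3390_ORB1

variable {G : Type*} [Group G] {Ω : Type*} [MulAction G Ω]

/-- normalizer growth in a finite `p`-group: a proper subgroup `T` of the `p`-subgroup `S` is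
normalised by some `w ∈ S ∖ T` -/
theorem exists_normalizing_not_mem [Finite G] {p : ℕ} [Fact p.Prime] (S T : Subgroup G)
    (hS : IsPGroup p ↥S) (hTS : T ≤ S) (hne : T ≠ S) :
    ∃ w ∈ S, w ∉ T ∧ (∀ t ∈ T, w * t * w⁻¹ ∈ T) ∧ (∀ t ∈ T, w⁻¹ * t * w ∈ T) := by
  haveI : Group.IsNilpotent ↥S := hS.isNilpotent
  have hnc : NormalizerCondition ↥S := normalizerCondition_of_isNilpotent
  have hlt : T.subgroupOf S < ⊤ := by
    rw [lt_top_iff_ne_top]
    intro htop
    apply hne
    apply le_antisymm hTS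
    intro x hx
    have : (⟨x, hx⟩ : ↥S) ∈ T.subgroupOf S := by rw [htop]; exact Subgroup.mem_top _
    exact Subgroup.mem_subgroupOf.mp this
  have h1 := hnc _ hlt
  obtain ⟨w', hw'N, hw'T⟩ := SetLike.exists_of_lt h1
  have hN := Subgroup.mem_normalizer_iff.mp hw'N
  refine ⟨(w' : G), w'.2, fun h => hw'T (Subgroup.mem_subgroupOf.mpr h), ?_, ?_⟩
  · intro t ht
    have := (hN ⟨t, hTS ht⟩).mp (Subgroup.mem_subgroupOf.mpr ht)
    exact Subgroup.mem_subgroupOf.mp this
  · intro t ht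
    have h2 := (hN (w'⁻¹ * ⟨t, hTS ht⟩ * w')).mpr (by
      have e : w' * (w'⁻¹ * ⟨t, hTS ht⟩ * w') * w'⁻¹ = ⟨t, hTS ht⟩ := by group
      rw [e]
      exact Subgroup.mem_subgroupOf.mpr ht)
    exact Subgroup.mem_subgroupOf.mp h2

theorem exists_pic [Finite G] (h2 : Fix2 G Ω) (S : Subgroup G) (hS : IsPGroup 2 ↥S) (α : Ω)
    (hT : stabIn S α ≠ ⊥) (hnot : ¬ S ≤ MulAction.stabilizer G α) : ∃ β : Ω, Pic S α β := by
  haveI : Fact (Nat.Prime 2) := ⟨Nat.prime_two⟩
  have hTS : stabIn S α ≤ S := inf_le_left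
  have hne : stabIn S α ≠ S := by
    intro h
    apply hnot
    rw [← h]
    exact inf_le_right
  obtain ⟨w, hwS, hwT, hw1, hw2⟩ := exists_normalizing_not_mem S (stabIn S α) hS hTS hne
  have hmemT : ∀ x : G, x ∈ stabIn S α ↔ x ∈ S ∧ x • α = α := by
    intro x
    rw [Subgroup.mem_inf, MulAction.mem_stabilizer_iff]
  have hwα : w • α ≠ α := fun h => hwT ((hmemT w).mpr ⟨hwS, h⟩)
  -- the stabiliser of `β = w α`
  have hstab : stabIn S (w • α) = stabIn S α := by
    ext x
    rw [Subgroup.mem_inf, MulAction.mem_stabilizer_iff]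
    constructor
    · rintro ⟨hxS, hx⟩
      have h3 : w⁻¹ * x * w ∈ stabIn S α := by
        rw [hmemT]
        refine ⟨S.mul_mem (S.mul_mem (S.inv_mem hwS) hxS) hwS, ?_⟩
        rw [mul_smul, mul_smul, hx, inv_smul_smul]
      have := hw1 _ h3
      have e : w * (w⁻¹ * x * w) * w⁻¹ = x := by group
      rwa [e] at this
    · intro hx
      refine ⟨hTS hx, ?_⟩
      have h3 := ((hmemT _).mp (hw2 x hx)).2
      rw [mul_smul, mul_smul] at h3
      exact inv_smul_eq_iff.mp h3
  have hfix : ∀ t ∈ stabIn S α, t ≠ 1 → ∀ ω : Ω, t • ω = ω → ω = α ∨ ω = w • α := by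
    intro t ht ht1 ω hω
    have ha : t • α = α := ((hmemT t).mp ht).2
    have hb : t • (w • α) = w • α := by
      have : t ∈ stabIn S (w • α) := by rw [hstab]; exact ht
      exact MulAction.mem_stabilizer_iff.mp (Subgroup.mem_inf.mp this).2
    rcases h2 t ht1 α (w • α) ω ha hb hω with h | h | h
    · exact absurd h.symm hwα
    · exact Or.inl h.symm
    · exact Or.inr h.symm
  have hnorm : ∀ x ∈ S, (∀ t ∈ stabIn S α, x * t * x⁻¹ ∈ stabIn S α) →
      x ∈ stabIn S α ∨ x • α = w • α := by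
    intro x hxS hx
    obtain ⟨t, htT, ht1⟩ := (Subgroup.ne_bot_iff_exists_ne_one).mp hT |>.imp
      (fun t ht => ht) |> fun ⟨t, ht⟩ => (⟨(t : G), t.2, fun h => ht (Subtype.ext h)⟩ :
        ∃ t : G, t ∈ stabIn S α ∧ t ≠ 1)
    have h3 := hx t htT
    have h31 : x * t * x⁻¹ ≠ 1 := by
      intro h
      apply ht1
      have : t = x⁻¹ * (x * t * x⁻¹) * x := by group
      rw [this, h]; group
    have h4 : (x * t * x⁻¹) • (x • α) = x • α := by
      rw [mul_smul, mul_smul, inv_smul_smul, ((hmemT t).mp htT).2]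
    rcases hfix _ h3 h31 _ h4 with h | h
    · exact Or.inl ((hmemT x).mpr ⟨hxS, h⟩)
    · exact Or.inr h
  -- the normalizer has order `2 |T|`
  set N₁ : Subgroup G := S ⊓ Subgroup.normalizer ((stabIn S α : Subgroup G) : Set G) with hN₁
  have hTN : stabIn S α ≤ N₁ := le_inf hTS Subgroup.le_normalizer
  have hwN : w ∈ N₁ := by
    refine Subgroup.mem_inf.mpr ⟨hwS, ?_⟩
    rw [Subgroup.mem_normalizer_iff]
    intro g
    constructor
    · exact hw1 g
    · intro hg
      have := hw2 _ hg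
      have e : w⁻¹ * (w * g * w⁻¹) * w = g := by group
      rwa [e] at this
  have hNmem : ∀ x ∈ N₁, x ∈ stabIn S α ∨ x • α = w • α := by
    intro x hx
    obtain ⟨hxS, hxN⟩ := Subgroup.mem_inf.mp hx
    exact hnorm x hxS (fun t ht => (Subgroup.mem_normalizer_iff.mp hxN t).mp ht)
  have hidx : ((stabIn S α).subgroupOf N₁).index = 2 := by
    rw [Subgroup.index_eq_two_iff]
    refine ⟨⟨w, hwN⟩, fun b => ?_⟩
    by_cases hb : (b : G) ∈ stabIn S α
    · refine Or.inr ⟨Subgroup.mem_subgroupOf.mpr hb, fun hbw => ?_⟩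
      have hbw' : (b : G) * w ∈ stabIn S α := Subgroup.mem_subgroupOf.mp hbw
      have := (stabIn S α).mul_mem ((stabIn S α).inv_mem hb) hbw'
      rw [inv_mul_cancel_left] at this
      exact hwT this
    · refine Or.inl ⟨?_, fun h => hb (Subgroup.mem_subgroupOf.mp h)⟩
      rw [Subgroup.mem_subgroupOf]
      show (b : G) * w ∈ stabIn S α
      have hbw : (b : G) * w ∈ N₁ := N₁.mul_mem b.2 hwN
      rcases hNmem _ hbw with h | h
      · exact h
      · exfalso
        rw [mul_smul] at h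
        apply hb
        have : (b : G) ∈ stabIn S (w • α) :=
          Subgroup.mem_inf.mpr ⟨(Subgroup.mem_inf.mp b.2).1, MulAction.mem_stabilizer_iff.mpr h⟩
        rwa [hstab] at this
  have hcard : Nat.card ↥N₁ = 2 * Nat.card ↥(stabIn S α) := by
    have h5 := Subgroup.card_mul_index ((stabIn S α).subgroupOf N₁)
    rw [hidx, Nat.card_congr (Subgroup.subgroupOfEquivOfLe hTN).toEquiv] at h5
    omega
  exact ⟨w • α, ⟨fun h => hwα h.symm, hT, hstab, hfix, hnorm, ⟨w, hwS, rfl, hw1⟩, hcard⟩⟩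

end Cfsg.Agent.Lib.Helper93_S3390_ORB1
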