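import Mathlib
import Cfsg.Agent.Lib.Helper56_S3390Defs
import Cfsg.Agent.Lib.Helper93_S3390_ORB1

/-!
# S3390 (Magaard–Waldecker), package ORB2 (architect helper56)

`small_stab` : `|S : T| ≠ 2` forces `|T| = 2`, `S` noncyclic, and an involution `t` with `|C_S(t)| = 4`.
-/

set_option autoImplicit false

open Cfsg.Agent.Lib.Helper56_S3390Defs

namespace Cfsg.Agent.Lib.Helper93_S3390_ORB2

open Cfsg.Agent.Lib.Helper93_S3390_ORB1

variable {G : Type*} [Group G] {Ω : Type*} [MulAction G Ω]

/-- conjugation by `g ∈ S` carries `S_α` to `S_{gα}` -/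
theorem conj_mem_stabIn_iff (S : Subgroup G) (α : Ω) {g : G} (hg : g ∈ S) (h : G) :
    g * h * g⁻¹ ∈ stabIn S (g • α) ↔ h ∈ stabIn S α := by
  rw [Subgroup.mem_inf, Subgroup.mem_inf, MulAction.mem_stabilizer_iff,
    MulAction.mem_stabilizer_iff]
  constructor
  · rintro ⟨h1, h2⟩
    refine ⟨?_, ?_⟩
    · have := S.mul_mem (S.mul_mem (S.inv_mem hg) h1) hg
      have e : g⁻¹ * (g * h * g⁻¹) * g = h := by group
      rwa [e] at this
    · rw [mul_smul, mul_smul, inv_smul_smul] at h2
      exact smul_left_cancel g h2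
  · rintro ⟨h1, h2⟩
    refine ⟨S.mul_mem (S.mul_mem hg h1) (S.inv_mem hg), ?_⟩
    rw [mul_smul, mul_smul, inv_smul_smul, h2]

theorem small_stab [Finite G] (h2 : Fix2 G Ω) (S : Subgroup G) (hS : IsPGroup 2 ↥S) (α β : Ω)
    (hP : Pic S α β) (hidx : Nat.card ↥S ≠ 2 * Nat.card ↥(stabIn S α)) :
    Nat.card ↥(stabIn S α) = 2 ∧ ¬ IsCyclic ↥S ∧
      ∃ t ∈ S, t ≠ 1 ∧ t ^ 2 = 1 ∧ Nat.card ↥(S ⊓ Subgroup.centralizer ({t} : Set G)) = 4 := by
  haveI : Fact (Nat.Prime 2) := ⟨Nat.prime_two⟩
  set T := stabIn S α with hTdef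
  have hTS : T ≤ S := inf_le_left
  set N₁ : Subgroup G := S ⊓ Subgroup.normalizer ((T : Subgroup G) : Set G) with hN₁
  have hN₁S : N₁ ≤ S := inf_le_left
  have hTN : T ≤ N₁ := le_inf hTS Subgroup.le_normalizer
  have hcardN : Nat.card ↥N₁ = 2 * Nat.card ↥T := hP.normcard
  have hneN : N₁ ≠ S := by
    intro h
    apply hidx
    rw [← hcardN, h]
  obtain ⟨g, hgS, hgN, hg1, hg2⟩ := exists_normalizing_not_mem S N₁ hS hN₁S hneN
  set T' := stabIn S (g • α) with hT'def
  have hconj := conj_mem_stabIn_iff S α hgS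
  -- `T' ≤ N₁`
  have hT'N : T' ≤ N₁ := by
    intro x hx
    have h3 : g⁻¹ * x * g ∈ T := by
      rw [← hconj]
      have e : g * (g⁻¹ * x * g) * g⁻¹ = x := by group
      rw [e]; exact hx
    have := hg1 _ (hTN h3)
    have e : g * (g⁻¹ * x * g) * g⁻¹ = x := by group
    rwa [e] at this
  -- `T ⊓ T' = ⊥`
  have hdisj : Disjoint T T' := by
    rw [Subgroup.disjoint_def]
    intro y hyT hyT'
    by_contra hy1
    have hyα : y • (g • α) = g • α :=
      MulAction.mem_stabilizer_iff.mp (Subgroup.mem_inf.mp hyT').2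
    apply hgN
    rcases hP.fixT y hyT hy1 _ hyα with h | h
    · exact hTN (Subgroup.mem_inf.mpr ⟨hgS, MulAction.mem_stabilizer_iff.mpr h⟩)
    · refine Subgroup.mem_inf.mpr ⟨hgS, ?_⟩
      rw [Subgroup.mem_normalizer_iff]
      intro x
      have := hconj x
      rw [h, hP.stab_eq] at this
      exact this.symm
  -- `|T'| = |T|`
  have hcardT' : Nat.card ↥T' = Nat.card ↥T := by
    apply Nat.card_congr
    exact
      { toFun := fun x => ⟨g⁻¹ * (x : G) * g, by
          rw [← hconj]
          have e : g * (g⁻¹ * (x : G) * g) * g⁻¹ = x := by group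
          rw [e]; exact x.2⟩
        invFun := fun t => ⟨g * (t : G) * g⁻¹, (hconj _).mpr t.2⟩
        left_inv := fun x => by
          apply Subtype.ext
          show g * (g⁻¹ * (x : G) * g) * g⁻¹ = x
          group
        right_inv := fun t => by
          apply Subtype.ext
          show g⁻¹ * (g * (t : G) * g⁻¹) * g = t
          group }
  -- counting
  have hle : Nat.card ↥T * Nat.card ↥T' ≤ Nat.card ↥N₁ := by
    rw [← Nat.card_prod]
    let f : ↥T × ↥T' → ↥N₁ := fun x =>
      ⟨(x.1 : G) * (x.2 : G), N₁.mul_mem (hTN x.1.2) (hT'N x.2.2)⟩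
    apply Nat.card_le_card_of_injective f
    intro x y hxy
    apply Subgroup.mul_injective_of_disjoint hdisj
    exact congrArg Subtype.val hxy
  have hTpos : 0 < Nat.card ↥T := Nat.card_pos
  have hT1 : Nat.card ↥T ≠ 1 := by
    intro h
    exact hP.Tne (Subgroup.card_eq_one.mp h)
  have hT2 : Nat.card ↥T = 2 := by
    rw [hcardT', hcardN] at hle
    have : Nat.card ↥T ≤ 2 := by
      by_contra hcon
      push Not at hcon
      nlinarith
    omega
  -- the involution
  obtain ⟨t', ht'⟩ := (Nat.card_eq_two_iff' (1 : ↥T)).mp hT2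
  obtain ⟨ht'1, ht'u⟩ := ht'
  set t : G := (t' : G) with htdef
  have htT : t ∈ T := t'.2
  have ht1 : t ≠ 1 := fun h => ht'1 (Subtype.ext h)
  have hTelts : ∀ x ∈ T, x = 1 ∨ x = t := by
    intro x hx
    by_cases h : x = 1
    · exact Or.inl h
    · right
      have := ht'u ⟨x, hx⟩ (fun h' => h (congrArg Subtype.val h'))
      exact congrArg Subtype.val this
  have ht2 : t ^ 2 = 1 := by
    have := pow_card_eq_one' (G := ↥T) (x := t')
    rw [hT2] at this
    exact congrArg Subtype.val this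
  -- `C_S(t) = N₁`
  have hcent : S ⊓ Subgroup.centralizer ({t} : Set G) = N₁ := by
    ext x
    rw [Subgroup.mem_inf, Subgroup.mem_inf, Subgroup.mem_centralizer_iff,
      Subgroup.mem_normalizer_iff]
    constructor
    · rintro ⟨hxS, hx⟩
      have hxt : t * x = x * t := hx t rfl
      have hconjt : x * t * x⁻¹ = t := by rw [← hxt]; group
      have hconjt' : x⁻¹ * t * x = t := by rw [mul_assoc, hxt]; group
      refine ⟨hxS, fun y => ⟨fun hy => ?_, fun hy => ?_⟩⟩
      · rcases hTelts y hy with rfl | rfl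
        · simp only [mul_one, mul_inv_cancel]; exact T.one_mem
        · rw [hconjt]; exact htT
      · rcases hTelts _ hy with h | h
        · have : y = 1 := by
            have e : y = x⁻¹ * (x * y * x⁻¹) * x := by group
            rw [e, h]; group
          rw [this]; exact T.one_mem
        · have : y = t := by
            have e : y = x⁻¹ * (x * y * x⁻¹) * x := by group
            rw [e, h, hconjt']
          rw [this]; exact htT
    · rintro ⟨hxS, hx⟩
      refine ⟨hxS, fun y hy => ?_⟩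
      rw [Set.mem_singleton_iff.mp hy]
      have h3 := (hx t).mp htT
      rcases hTelts _ h3 with h | h
      · exfalso
        apply ht1
        have e : t = x⁻¹ * (x * t * x⁻¹) * x := by group
        rw [e, h]; group
      · have : x * t = t * x := by
          have e : x * t = (x * t * x⁻¹) * x := by group
          rw [e, h]
        exact this.symm
  have hc4 : Nat.card ↥(S ⊓ Subgroup.centralizer ({t} : Set G)) = 4 := by
    rw [hcent, hcardN, hT2]
  refine ⟨hT2, ?_, t, hTS htT, ht1, ht2, hc4⟩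
  -- `S` is not cyclic
  intro hcyc
  apply hidx
  have hSle : S ≤ Subgroup.centralizer ({t} : Set G) := by
    intro x hx
    rw [Subgroup.mem_centralizer_iff]
    intro y hy
    rw [Set.mem_singleton_iff.mp hy]
    obtain ⟨g₀, hg₀⟩ := hcyc.exists_generator
    obtain ⟨a, ha⟩ := Subgroup.mem_zpowers_iff.mp (hg₀ ⟨x, hx⟩)
    obtain ⟨b, hb⟩ := Subgroup.mem_zpowers_iff.mp (hg₀ ⟨t, hTS htT⟩)
    have hcomm : Commute (g₀ ^ b) (g₀ ^ a) := (Commute.refl g₀).zpow_zpow b a
    rw [ha, hb] at hcomm
    exact congrArg Subtype.val hcomm.eq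
  rw [inf_of_le_left hSle] at hc4
  rw [hc4, hT2]

end Cfsg.Agent.Lib.Helper93_S3390_ORB2
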