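import Cfsg.Agent.Lib.Helper56_S3390Defs
import Cfsg.Agent.Lib.Helper91_S3390_FIX
import Cfsg.Agent.Lib.Helper93_S3390_ORB1
import Cfsg.Agent.Lib.Helper93_S3390_ORB2
import Cfsg.Agent.Lib.Helper8_S3390_ORB3
import Cfsg.Agent.Lib.Helper12_S3390_MC
import Cfsg.Agent.Lib.Helper31_S3390_CHAR
import Cfsg.Agent.Lib.Helper56_S3390_TRANSFER
import Cfsg.Agent.Lib.Helper8_S3390_FROBA
import Cfsg.Agent.Lib.Helper42_S3390_FROBB2
import Cfsg.Agent.Lib.Helper26_S3390_FROBBP
import Cfsg.Agent.Lib.Helper42_S3390_FROBC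
import Cfsg.Agent.Lib.Helper31_S3390_ORBCARD

/-!
# S3390: assembly of the packages (architect: helper56); proof in `pending/helper56/S3390_proof.md`.
-/

set_option autoImplicit false

open Cfsg.Agent.Lib.Helper56_S3390Defs

namespace Cfsg.Agent.Lib.Helper56_S3390Main

theorem main {G : Type*} [Group G] [Finite G] {Ω : Type*} [Fintype Ω] [MulAction G Ω]
    [FaithfulSMul G Ω] (htr : MulAction.IsPretransitive G Ω)
    (hfix : ∀ g : G, g ≠ 1 → Nat.card (MulAction.fixedBy Ω g) ≤ 2) (α : Ω) (S : Sylow 2 G) :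
    (S : Subgroup G) ⊓ MulAction.stabilizer G α = ⊥ ∨
    (((∃ n : ℕ, Nonempty (↥(S : Subgroup G) ≃* DihedralGroup n)) ∨
        Cfsg.IsQuasiDihedral ↥(S : Subgroup G)) ∧
       (Nat.card ↥((S : Subgroup G) ⊓ MulAction.stabilizer G α) = 2 ∨
        ((S : Subgroup G) ⊓ MulAction.stabilizer G α).relIndex (S : Subgroup G) = 2)) ∨
    (4 ≤ Nat.card (S : Subgroup G) ∧
       (∃ ω : Ω, Nat.card (MulAction.orbit ↥(S : Subgroup G) ω) = 2 ∧
          ∀ ω' : Ω, ω' ∉ MulAction.orbit ↥(S : Subgroup G) ω →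
            Nat.card (MulAction.orbit ↥(S : Subgroup G) ω') = Nat.card (S : Subgroup G)) ∧
       ∃ N : Subgroup G, N.Normal ∧ (N.index = 2 ∨ N.index = Nat.card (S : Subgroup G)) ∧
         (∃ H : Subgroup ↥N, Cfsg.IsFrobeniusComplement H)) ∨
    (S : Subgroup G) ≤ MulAction.stabilizer G α := by
  have h2 : Fix2 G Ω := Cfsg.Agent.Lib.Helper91_S3390_FIX.fix2_of_card hfix
  have hS2 : IsPGroup 2 ↥(S : Subgroup G) := S.isPGroup'
  by_cases hT : stabIn (S : Subgroup G) α = ⊥
  · left; exact hT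
  by_cases hle : (S : Subgroup G) ≤ MulAction.stabilizer G α
  · right; right; right; exact hle
  obtain ⟨β, hP⟩ := Cfsg.Agent.Lib.Helper93_S3390_ORB1.exists_pic h2 (S : Subgroup G) hS2 α hT hle
  have hTle : stabIn (S : Subgroup G) α ≤ (S : Subgroup G) := inf_le_left
  by_cases hidx : Nat.card ↥(S : Subgroup G) = 2 * Nat.card ↥(stabIn (S : Subgroup G) α)
  · have hrel : (stabIn (S : Subgroup G) α).relIndex (S : Subgroup G) = 2 := by
      have h1 : Nat.card ↥((stabIn (S : Subgroup G) α).subgroupOf (S : Subgroup G)) *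
          ((stabIn (S : Subgroup G) α).subgroupOf (S : Subgroup G)).index =
          Nat.card ↥(S : Subgroup G) := Subgroup.card_mul_index _
      have h3 : Nat.card ↥((stabIn (S : Subgroup G) α).subgroupOf (S : Subgroup G)) =
          Nat.card ↥(stabIn (S : Subgroup G) α) :=
        Nat.card_congr (Subgroup.subgroupOfEquivOfLe hTle).toEquiv
      rw [h3, hidx] at h1
      have hpos : 0 < Nat.card ↥(stabIn (S : Subgroup G) α) := Nat.card_pos
      have h4 : ((stabIn (S : Subgroup G) α).subgroupOf (S : Subgroup G)).index = 2 := by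
        have : Nat.card ↥(stabIn (S : Subgroup G) α) *
            ((stabIn (S : Subgroup G) α).subgroupOf (S : Subgroup G)).index =
            Nat.card ↥(stabIn (S : Subgroup G) α) * 2 := by rw [h1]; ring
        exact Nat.eq_of_mul_eq_mul_left hpos this
      exact h4
    by_cases hreg : ∀ γ : Ω, γ ≠ α → γ ≠ β → stabIn (S : Subgroup G) γ = ⊥
    · -- the third alternative
      right; right; left
      have hT2 : 2 ≤ Nat.card ↥(stabIn (S : Subgroup G) α) := by
        rcases Nat.lt_or_ge (Nat.card ↥(stabIn (S : Subgroup G) α)) 2 with h | h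
        · exfalso
          apply hT
          have hpos : 0 < Nat.card ↥(stabIn (S : Subgroup G) α) := Nat.card_pos
          have h1 : Nat.card ↥(stabIn (S : Subgroup G) α) = 1 := by omega
          exact Subgroup.card_eq_one.mp h1
        · exact h
      have hchar := Cfsg.Agent.Lib.Helper31_S3390_CHAR.mem_stab_iff (S : Subgroup G) α β hP hreg
      have hcl := Cfsg.Agent.Lib.Helper31_S3390_CHAR.closed_of_char (S : Subgroup G) α hchar
      obtain ⟨N, hN, hNi, hTN, hsN⟩ := Cfsg.Agent.Lib.Helper56_S3390_TRANSFER.exists_index_two S (stabIn (S : Subgroup G) α) hTle hidx hcl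
      have hstab : ∀ x : G, ∀ ω : Ω, x • ω = ω → x ∈ N :=
        fun x ω hx => Cfsg.Agent.Lib.Helper8_S3390_FROBA.mem_of_fixed S α hchar N hN hNi hTN x ω hx
      obtain ⟨w, hwS, hwα, -⟩ := hP.swap
      have hwT : w ∉ stabIn (S : Subgroup G) α := by
        intro hw
        have : w • α = α := MulAction.mem_stabilizer_iff.mp hw.2
        exact hP.ne (this.symm.trans hwα)
      have hwN : w ∉ N := hsN w hwS hwT
      have hno : ∀ (p : ℕ), p.Prime → ∀ x : G, orderOf x = p → ∀ ω : Ω, ∀ g ∈ N, g • ω ≠ ω →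
          x • ω = ω → x • (g • ω) = g • ω → False := by
        intro p hp x hx ω g hg hgω hxω hxg
        by_cases hp2 : p = 2
        · subst hp2
          exact Cfsg.Agent.Lib.Helper42_S3390_FROBB2.no_two_fixed_two S α β hP hchar N hN hstab w hwN hwα x hx ω g hg hgω hxω hxg
        · have : Fact p.Prime := ⟨hp⟩
          exact Cfsg.Agent.Lib.Helper26_S3390_FROBBP.no_two_fixed_odd h2 N hN hNi hstab w hwN p hp2 x hx ω g hg hgω hxω hxg
      have hne : ∃ t ∈ N, t ≠ 1 ∧ t • α = α := by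
        obtain ⟨t, ht1⟩ := (Subgroup.ne_bot_iff_exists_ne_one).mp hT
        refine ⟨t.1, hTN t.2, ?_, MulAction.mem_stabilizer_iff.mp t.2.2⟩
        intro h
        exact ht1 (Subtype.ext h)
      refine ⟨by omega, ⟨α, Cfsg.Agent.Lib.Helper31_S3390_ORBCARD.orbit_cards (S : Subgroup G) α β hP hidx hreg⟩, N, hN, Or.inl hNi, ?_⟩
      exact Cfsg.Agent.Lib.Helper42_S3390_FROBC.exists_frobenius htr α N hN hne hstab hno
    · -- a further nonregular orbit: dihedral or semidihedral, index two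
      push Not at hreg
      obtain ⟨γ, hγα, hγβ, hγ⟩ := hreg
      obtain ⟨hnc, u, huS, hu1, hu2, hC⟩ := Cfsg.Agent.Lib.Helper8_S3390_ORB3.other_stab h2 (S : Subgroup G) hS2 α β hP hidx
        (fun γ h1 h2' => Cfsg.Agent.Lib.Helper93_S3390_ORB1.exists_pic h2 (S : Subgroup G) hS2 γ h1 h2') γ hγα hγβ hγ
      right; left
      exact ⟨Cfsg.Agent.Lib.Helper12_S3390_MC.dihedral_or_quasi (S : Subgroup G) hS2 hnc u huS hu1 hu2 hC, Or.inr hrel⟩
  · obtain ⟨hT2, hnc, t, htS, ht1, ht2, hC⟩ := Cfsg.Agent.Lib.Helper93_S3390_ORB2.small_stab h2 (S : Subgroup G) hS2 α β hP hidx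
    right; left
    exact ⟨Cfsg.Agent.Lib.Helper12_S3390_MC.dihedral_or_quasi (S : Subgroup G) hS2 hnc t htS ht1 ht2 hC, Or.inl hT2⟩

end Cfsg.Agent.Lib.Helper56_S3390Main
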