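import Mathlib
import Cfsg.Agent.Lib.Helper56_U320Defs
import Cfsg.Agent.Lib.Helper88_U320_ZP
import Cfsg.Agent.Lib.Helper88_U320_QUOT
import Cfsg.Agent.Lib.Helper25_U320_FPF
import Cfsg.Agent.Lib.Helper27_U320_GEN16
import Cfsg.Agent.Lib.Helper27_U320_ZC
import Cfsg.Agent.Lib.Helper31_U320_SYL
import Cfsg.Agent.Lib.Helper1_U320_LIFTaux
import Cfsg.Agent.Lib.Helper17_U320_GENSXaux
import Cfsg.Agent.Lib.Helper55_U320_DATA

/-! S1903 market: wrappers LIFT, GENSX, DATA (all dependencies on main). -/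

set_option autoImplicit false
open Cfsg.Agent.Lib.Helper56_U320Defs

namespace Cfsg.Agent.Lib.Helper56_U320_DATAfin

variable {G : Type*} [Group G] [Finite G]

theorem lift_facts (hG : Nat.card G = 320) (hD : Nat.card (commutator G) = 64)
    (hZ : IsKleinFour (Subgroup.center (commutator G))) :
    (∀ a ∈ commutator G, ∀ b ∈ commutator G, a * b * a⁻¹ * b⁻¹ ∈ ZP G) ∧
    (∀ a ∈ commutator G, a * a ∈ ZP G) ∧
    ∀ s : G, orderOf s = 5 → ∀ x ∈ commutator G, x ∉ ZP G →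
      (∃ w ∈ ZP G, cj s x 4 = x * cj s x 1 * cj s x 2 * cj s x 3 * w) ∧
      ∀ b ∈ commutator G, ∃ β : Bits, ∃ z ∈ ZP G,
        b = xpw x (cj s x 1) (cj s x 2) (cj s x 3) β * z := by
  have : (ZP G).Normal := Cfsg.Agent.Lib.Helper88_U320_ZP.ZP_normal
  obtain ⟨hK, hQ, hK'⟩ := Cfsg.Agent.Lib.Helper88_U320_QUOT.quot_facts hG hD hZ
  obtain ⟨f1, f2, -⟩ := Cfsg.Agent.Lib.Helper25_U320_FPF.fpf16 hK hK'
  exact Cfsg.Agent.Lib.Helper1_U320_LIFTaux.lift_facts_aux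
    (Cfsg.Agent.Lib.Helper88_U320_ZP.ZP_facts hZ).1 hQ ⟨f1, f2⟩
    (fun t ht a ha ha1 => Cfsg.Agent.Lib.Helper27_U320_GEN16.gen16 hK hK' t ht a ha ha1)

theorem gen_of (hG : Nat.card G = 320) (hD : Nat.card (commutator G) = 64)
    (hZ : IsKleinFour (Subgroup.center (commutator G))) (s : G) (hs : orderOf s = 5) (x : G)
    (hx : x ∈ commutator G) (hxZ : x ∉ ZP G) : Subgroup.closure ({s, x} : Set G) = ⊤ :=
  Cfsg.Agent.Lib.Helper17_U320_GENSXaux.gen_of_aux s x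
    (fun g => Cfsg.Agent.Lib.Helper31_U320_SYL.decomp hG hD hs g)
    (Cfsg.Agent.Lib.Helper27_U320_ZC.ZP_central hG hD hZ)
    ((lift_facts hG hD hZ).2.2 s hs x hx hxZ).2

theorem data_of_hyp (hG : Nat.card G = 320) (hD : Nat.card (commutator G) = 64)
    (hZ : IsKleinFour (Subgroup.center (commutator G))) : Nonempty (Data G) :=
  Cfsg.Agent.Lib.Helper55_U320_DATA.data_of_hyp_of' (lift_facts hG hD hZ)
    (fun s hs x hx hxZ => gen_of hG hD hZ s hs x hx hxZ) hG hD hZ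

end Cfsg.Agent.Lib.Helper56_U320_DATAfin
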