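import Cfsg.Agent.Lib.Helper28_OrbitLB

/-!
# Word-based Schreier–Sims lower bounds in a verified coset table (helper56)

A chain of pointwise stabilisers `pstab ρ [b_{i-1}, …, b_0]` of base points of a permutation
representation `ρ`; one step: if words fixing the earlier base points move the next base point
`b_i` to `m` different points, then `m * |pstab (b_i :: bs)| ≤ |pstab bs|`.  On top of helper28's
packed coset tables (`Helper28_CosetPerm`, `Helper28_OrbitLB`).
-/

set_option autoImplicit false
set_option linter.unusedSectionVars false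
set_option linter.unusedVariables false

namespace Cfsg.Agent.Lib.Helper56_WordLB

open Cfsg.Agent.Lib.Helper28_CosetPerm Cfsg.Agent.Lib.Helper28_OrbitLB

section Abstract

variable {G : Type*} [Group G] {n : ℕ}

/-- The pointwise stabiliser of a list of points under a permutation representation. -/
def pstab (ρ : G →* Equiv.Perm (Fin n)) (l : List (Fin n)) : Subgroup G where
  carrier := {g | ∀ x ∈ l, ρ g x = x}
  one_mem' := by
    intro x _
    simp
  mul_mem' := by
    intro a b ha hb x hx
    have ha' : ρ a x = x := ha x hx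
    have hb' : ρ b x = x := hb x hx
    show ρ (a * b) x = x
    rw [map_mul, Equiv.Perm.mul_apply, hb', ha']
  inv_mem' := by
    intro a ha x hx
    have ha' : ρ a x = x := ha x hx
    show ρ a⁻¹ x = x
    rw [map_inv, Equiv.Perm.inv_eq_iff_eq]
    exact ha'.symm

theorem mem_pstab (ρ : G →* Equiv.Perm (Fin n)) (l : List (Fin n)) (g : G) :
    g ∈ pstab ρ l ↔ ∀ x ∈ l, ρ g x = x := Iff.rfl

theorem pstab_nil (ρ : G →* Equiv.Perm (Fin n)) : pstab ρ [] = ⊤ := by
  rw [eq_top_iff]
  intro g _
  rw [mem_pstab]
  intro x hx
  simp at hx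

theorem pstab_cons_le (ρ : G →* Equiv.Perm (Fin n)) (x : Fin n) (l : List (Fin n)) :
    pstab ρ (x :: l) ≤ pstab ρ l := by
  intro g hg y hy
  exact hg y (List.mem_cons_of_mem _ hy)

theorem ker_le_pstab (ρ : G →* Equiv.Perm (Fin n)) (l : List (Fin n)) :
    ρ.ker ≤ pstab ρ l := by
  intro g hg x _
  rw [MonoidHom.mem_ker] at hg
  rw [hg]
  rfl

/-- One step of the stabiliser chain. -/
theorem pstab_step [Finite G] (ρ : G →* Equiv.Perm (Fin n)) (l : List (Fin n)) (x : Fin n)
    (O : Finset (Fin n)) (hO : ∀ y ∈ O, ∃ g ∈ pstab ρ l, ρ g x = y) :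
    O.card * Nat.card (pstab ρ (x :: l)) ≤ Nat.card (pstab ρ l) :=
  card_step ρ (pstab ρ l) (pstab ρ (x :: l)) (pstab_cons_le ρ x l) x
    (fun g hg => hg x List.mem_cons_self) O hO

end Abstract

section Table

variable {α : Type} {n w mask : ℕ} {col : α → Bool → ℕ} [NeZero n]

/-- Some word of the list leads to a point of the orbit with smaller (nonzero) label. -/
def wdesc (mask : ℕ) (col : α → Bool → ℕ) (lab : ℕ) : List (List (α × Bool)) → ℕ → Bool
  | [], _ => false
  | u :: us, x =>
    or (and (Nat.blt 0 (nxt mask lab (walk mask col u x)))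
        (Nat.blt (nxt mask lab (walk mask col u x)) (nxt mask lab x)))
      (wdesc mask col lab us x)

/-- The orbit lower bound check at the offset `x`: the label is `0` (not claimed to be in the
orbit), or `x` is the base point, or some word decreases the label within the orbit. -/
def wchk (mask : ℕ) (col : α → Bool → ℕ) (lab base : ℕ) (ws : List (List (α × Bool)))
    (x : ℕ) : Bool :=
  or (Nat.beq (nxt mask lab x) 0) (or (Nat.beq x base) (wdesc mask col lab ws x))

theorem wdesc_spec (lab : ℕ) (ws : List (List (α × Bool))) (x : ℕ)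
    (h : wdesc mask col lab ws x = true) :
    ∃ u ∈ ws, 0 < nxt mask lab (walk mask col u x) ∧
      nxt mask lab (walk mask col u x) < nxt mask lab x := by
  induction ws with
  | nil => simp [wdesc] at h
  | cons v vs ih =>
    simp only [wdesc, Bool.or_eq_true, Bool.and_eq_true, Nat.blt_eq] at h
    rcases h with h | h
    · exact ⟨v, List.mem_cons_self, h.1, h.2⟩
    · obtain ⟨u, hu, h1⟩ := ih h
      exact ⟨u, List.mem_cons_of_mem _ hu, h1⟩

/-- Reachability of all labelled points from the base point by products of the words `ws`. -/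
theorem reach_of_wchk (hv : Valid n w mask col) (lab : ℕ) (base : Fin n)
    (ws : List (List (α × Bool)))
    (hchk : ∀ k < n, wchk mask col lab (base * w) ws (k * w) = true) :
    ∀ y ∈ labSet n w mask lab,
      ∃ g ∈ Subgroup.closure {s : FreeGroup α | ∃ u ∈ ws, s = FreeGroup.mk u},
        FreeGroup.lift (perm hv) g base = y := by
  intro y hy
  simp only [labSet, Finset.mem_filter, Finset.mem_univ, true_and] at hy
  generalize hr : nxt mask lab (y * w) = r
  induction r using Nat.strong_induction_on generalizing y with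
  | _ r ih =>
    have h := hchk y y.2
    simp only [wchk, Bool.or_eq_true] at h
    rcases h with h0 | hb | hd
    · exact absurd (Nat.eq_of_beq_eq_true h0) hy
    · have hb' := Nat.eq_of_beq_eq_true hb
      have : y = base := Fin.ext (Nat.eq_of_mul_eq_mul_right hv.1 hb')
      exact ⟨1, Subgroup.one_mem _, by rw [this]; simp⟩
    · obtain ⟨u, hu, hpos, hlt⟩ := wdesc_spec lab ws _ hd
      rw [walk_fin hv u y] at hpos hlt
      rw [hr] at hlt
      set y' : Fin n := (FreeGroup.lift (perm hv) (FreeGroup.mk u))⁻¹ y with hy'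
      obtain ⟨g, hg, hgy⟩ := ih _ hlt y' (Nat.pos_iff_ne_zero.mp hpos) rfl
      refine ⟨FreeGroup.mk u * g, Subgroup.mul_mem _ ?_ hg, ?_⟩
      · exact Subgroup.subset_closure ⟨u, hu, rfl⟩
      · rw [map_mul, Equiv.Perm.mul_apply, hgy, hy', Equiv.Perm.inv_def,
          Equiv.apply_symm_apply]

end Table

section Main

variable {α : Type} {n w mask : ℕ} {col : α → Bool → ℕ} [NeZero n]
variable {rels : Set (FreeGroup α)} {S : Set (FreeGroup α)}

/-- One verified step of the stabiliser chain, in a verified table: the words `ws` fix the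
earlier base points `bs` and move `base` to `m` different points. -/
theorem Verified.wstep [Finite (PresentedGroup rels)] (V : Verified n w mask col rels S)
    (bs : List (Fin n)) (base : Fin n) (lab : ℕ) (ws : List (List (α × Bool)))
    (hfix : ∀ u ∈ ws, ∀ b ∈ bs, walk mask col u ((b : ℕ) * w) = (b : ℕ) * w)
    (hchk : ∀ k < n, wchk mask col lab ((base : ℕ) * w) ws (k * w) = true)
    (m : ℕ) (hm : cntB (fun k => Nat.blt 0 (nxt mask lab (Nat.mul k w))) n = m) :
    m * Nat.card (pstab (psi (perm V.hv) V.hrel) (base :: bs)) ≤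
      Nat.card (pstab (psi (perm V.hv) V.hrel) bs) := by
  have hv := V.hv
  rw [← hm, ← card_labSet]
  apply pstab_step (psi (perm hv) V.hrel) bs base
  intro y hy
  obtain ⟨g, hg, hgy⟩ := reach_of_wchk hv lab base ws hchk y hy
  refine ⟨PresentedGroup.mk rels g, ?_, ?_⟩
  · have hle : Subgroup.closure {s : FreeGroup α | ∃ u ∈ ws, s = FreeGroup.mk u} ≤
        (pstab (psi (perm hv) V.hrel) bs).comap (PresentedGroup.mk rels) := by
      rw [Subgroup.closure_le]
      rintro s ⟨u, hu, rfl⟩
      show PresentedGroup.mk rels (FreeGroup.mk u) ∈ pstab (psi (perm hv) V.hrel) bs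
      rw [mem_pstab]
      intro b hb
      rw [psi_mk]
      exact lift_fix_of_walk hv u b (hfix u hu b hb)
    exact hle hg
  · rw [psi_mk]; exact hgy

/-- A word walking back to each of the base points lies in their pointwise stabiliser. -/
theorem Verified.mk_mem_pstab (V : Verified n w mask col rels S) (bs : List (Fin n))
    (u : List (α × Bool))
    (hfix : ∀ b ∈ bs, walk mask col u ((b : ℕ) * w) = (b : ℕ) * w) :
    PresentedGroup.mk rels (FreeGroup.mk u) ∈ pstab (psi (perm V.hv) V.hrel) bs := by
  rw [mem_pstab]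
  intro b hb
  rw [psi_mk]
  exact lift_fix_of_walk V.hv u b (hfix b hb)

end Main

end Cfsg.Agent.Lib.Helper56_WordLB
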