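import Mathlib

set_option autoImplicit false
set_option linter.style.haveILetI false

/-!
Minimal nontrivial `N`-invariant subgroups of a subgroup `N` (the "simple factors" of a minimal
normal subgroup): existence, conjugates, and the dichotomy equal / commuting.
-/

namespace Cfsg.Agent.Lib.Helper58_MinInv

open scoped Pointwise

variable {G : Type*} [Group G]

/-- `X` is a minimal nontrivial `N`-invariant subgroup of `N`. -/
structure IsMinInv (N X : Subgroup G) : Prop where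
  le : X ≤ N
  ne_bot : X ≠ ⊥
  inv : ∀ n ∈ N, ∀ x ∈ X, n * x * n⁻¹ ∈ X
  min : ∀ B : Subgroup G, B ≤ X → (∀ n ∈ N, ∀ x ∈ B, n * x * n⁻¹ ∈ B) → B = ⊥ ∨ B = X

theorem exists_isMinInv [Finite G] (N : Subgroup G) (hN : N ≠ ⊥) : ∃ X, IsMinInv N X := by
  classical
  have hex : ∃ k : ℕ, ∃ X : Subgroup G, X ≤ N ∧ X ≠ ⊥ ∧
      (∀ n ∈ N, ∀ x ∈ X, n * x * n⁻¹ ∈ X) ∧ Nat.card X = k :=
    ⟨_, N, le_rfl, hN, fun n hn x hx => N.mul_mem (N.mul_mem hn hx) (N.inv_mem hn), rfl⟩
  obtain ⟨X, hXN, hX1, hXinv, hXcard⟩ := Nat.find_spec hex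
  refine ⟨X, hXN, hX1, hXinv, fun B hBX hBinv => ?_⟩
  by_cases hB1 : B = ⊥
  · exact Or.inl hB1
  · right
    have h1 : Nat.find hex ≤ Nat.card B :=
      Nat.find_min' hex ⟨B, hBX.trans hXN, hB1, hBinv, rfl⟩
    rw [← hXcard] at h1
    exact Subgroup.eq_of_le_of_card_ge hBX h1

theorem mem_conj_smul {X : Subgroup G} {g x : G} :
    x ∈ MulAut.conj g • X ↔ g⁻¹ * x * g ∈ X := by
  rw [Subgroup.mem_pointwise_smul_iff_inv_smul_mem]
  simp [MulAut.smul_def]

theorem conj_mem_conj_smul {X : Subgroup G} {g x : G} (hx : x ∈ X) :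
    g * x * g⁻¹ ∈ MulAut.conj g • X := by
  rw [mem_conj_smul]
  convert hx using 1
  group

theorem IsMinInv.eq_of_inf_ne_bot {N X Y : Subgroup G} (hX : IsMinInv N X) (hY : IsMinInv N Y)
    (h : X ⊓ Y ≠ ⊥) : X = Y := by
  have hinv : ∀ n ∈ N, ∀ x ∈ X ⊓ Y, n * x * n⁻¹ ∈ X ⊓ Y :=
    fun n hn x hx => Subgroup.mem_inf.mpr
      ⟨hX.inv n hn x (Subgroup.mem_inf.mp hx).1, hY.inv n hn x (Subgroup.mem_inf.mp hx).2⟩
  have h1 := (hX.min _ inf_le_left hinv).resolve_left h
  have h2 := (hY.min _ inf_le_right hinv).resolve_left h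
  rw [← h1]
  exact h2

theorem IsMinInv.commute {N X Y : Subgroup G} (hX : IsMinInv N X) (hY : IsMinInv N Y)
    (hne : X ≠ Y) : ∀ x ∈ X, ∀ y ∈ Y, x * y = y * x := by
  intro x hx y hy
  have hbot : X ⊓ Y = ⊥ := by
    by_contra h
    exact hne (hX.eq_of_inf_ne_bot hY h)
  have hmem : x * y * x⁻¹ * y⁻¹ ∈ X ⊓ Y := by
    refine Subgroup.mem_inf.mpr ⟨?_, ?_⟩
    · have h1 := hX.inv y (hY.le hy) x⁻¹ (X.inv_mem hx)
      have h2 := X.mul_mem hx h1
      convert h2 using 1; group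
    · have h1 := hY.inv x (hX.le hx) y hy
      exact Y.mul_mem h1 (Y.inv_mem hy)
  rw [hbot, Subgroup.mem_bot] at hmem
  calc x * y = (x * y * x⁻¹ * y⁻¹) * (y * x) := by group
    _ = y * x := by rw [hmem, one_mul]

theorem IsMinInv.conj {N X : Subgroup G} [hN : N.Normal] (h : IsMinInv N X) (g : G) :
    IsMinInv N (MulAut.conj g • X) where
  le := by
    intro x hx
    rw [mem_conj_smul] at hx
    have h1 := hN.conj_mem _ (h.le hx) g
    convert h1 using 1; group
  ne_bot := by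
    intro hb
    apply h.ne_bot
    rw [eq_bot_iff]
    intro x hx
    have h1 : g * x * g⁻¹ ∈ MulAut.conj g • X := conj_mem_conj_smul hx
    rw [hb, Subgroup.mem_bot] at h1
    rw [Subgroup.mem_bot]
    calc x = g⁻¹ * (g * x * g⁻¹) * g := by group
      _ = 1 := by rw [h1]; group
  inv := by
    intro n hn x hx
    rw [mem_conj_smul] at hx ⊢
    have hn' : g⁻¹ * n * g ∈ N := by
      have := hN.conj_mem n hn g⁻¹
      simpa using this
    have h1 := h.inv _ hn' _ hx
    convert h1 using 1; group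
  min := by
    intro B hB hBinv
    have hle : MulAut.conj g⁻¹ • B ≤ X := by
      intro x hx
      rw [mem_conj_smul] at hx
      have h1 := hB hx
      rw [mem_conj_smul] at h1
      convert h1 using 1; group
    have hinv' : ∀ n ∈ N, ∀ x ∈ MulAut.conj g⁻¹ • B, n * x * n⁻¹ ∈ MulAut.conj g⁻¹ • B := by
      intro n hn x hx
      rw [mem_conj_smul] at hx ⊢
      have hn' : g * n * g⁻¹ ∈ N := hN.conj_mem n hn g
      have h1 := hBinv _ hn' _ hx
      convert h1 using 1; group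
    rcases h.min _ hle hinv' with h1 | h1
    · left
      rw [eq_bot_iff]
      intro x hx
      have h2 : g⁻¹ * x * g⁻¹⁻¹ ∈ MulAut.conj g⁻¹ • B := conj_mem_conj_smul hx
      rw [h1, Subgroup.mem_bot] at h2
      rw [Subgroup.mem_bot]
      calc x = g * (g⁻¹ * x * g⁻¹⁻¹) * g⁻¹ := by group
        _ = 1 := by rw [h2]; group
    · right
      apply le_antisymm hB
      intro x hx
      rw [mem_conj_smul] at hx
      rw [← h1, mem_conj_smul] at hx
      convert hx using 1; group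

end Cfsg.Agent.Lib.Helper58_MinInv
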