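import Mathlib
import Cfsg.Agent.Lib.Helper58_MinInv

set_option autoImplicit false
set_option linter.style.haveILetI false

/-!
Jordan's lemma (a transitive finite group on at least two points contains a derangement), the
fact that a finite group is not the union of the conjugates of a proper subgroup, and some
consequences for minimal invariant subgroups.
-/

namespace Cfsg.Agent.Lib.Helper58_Jordan

open MulAction
open scoped Pointwise
open Cfsg.Agent.Lib.Helper58_MinInv

/-- **Jordan**: a finite transitive group on at least two points contains a derangement. -/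
theorem exists_derangement {G Ω : Type*} [Group G] [Finite G] [MulAction G Ω] [Finite Ω]
    [IsPretransitive G Ω] (hΩ : 2 ≤ Nat.card Ω) : ∃ g : G, ∀ ω : Ω, g • ω ≠ ω := by
  classical
  by_contra hcon
  push Not at hcon
  haveI : Fintype G := Fintype.ofFinite G
  haveI : Fintype Ω := Fintype.ofFinite Ω
  haveI : Nonempty Ω := by
    rw [← Nat.card_pos_iff.trans ⟨fun h => h.1, fun h => ⟨h, inferInstance⟩⟩]
    omega
  have hB := MulAction.sum_card_fixedBy_eq_card_orbits_mul_card_group G Ω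
  have horb : Fintype.card (Quotient (orbitRel G Ω)) = 1 := by
    rw [Fintype.card_eq_one_iff]
    obtain ⟨ω₀⟩ := ‹Nonempty Ω›
    refine ⟨Quotient.mk'' ω₀, fun q => ?_⟩
    induction q using Quotient.inductionOn' with
    | h a =>
      apply Quotient.sound'
      obtain ⟨g, hg⟩ := exists_smul_eq G ω₀ a
      exact ⟨g, hg⟩
  rw [horb, one_mul] at hB
  have h1 : ∀ g : G, 1 ≤ Fintype.card (fixedBy Ω g) := by
    intro g
    obtain ⟨ω, hω⟩ := hcon g
    exact Fintype.card_pos_iff.mpr ⟨⟨ω, hω⟩⟩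
  have hone : Fintype.card (fixedBy Ω (1 : G)) = Fintype.card Ω := by
    apply Fintype.card_congr
    exact ⟨fun x => x.1, fun x => ⟨x, by simp⟩, fun x => rfl, fun x => rfl⟩
  have hΩ' : 2 ≤ Fintype.card Ω := by rwa [Nat.card_eq_fintype_card] at hΩ
  have hsum : Fintype.card G + 1 ≤ ∑ g : G, Fintype.card (fixedBy Ω g) := by
    calc Fintype.card G + 1 = ∑ g : G, (1 + if g = 1 then 1 else 0) := by
          rw [Finset.sum_add_distrib]
          simp
      _ ≤ ∑ g : G, Fintype.card (fixedBy Ω g) := by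
          apply Finset.sum_le_sum
          intro g _
          split_ifs with hg
          · rw [hg, hone]; exact hΩ'
          · exact h1 g
  omega

/-- A finite group is not covered by the conjugates of a proper subgroup (relative version). -/
theorem eq_of_conj_cover {G : Type*} [Group G] [Finite G] (X S : Subgroup G) (hSX : S ≤ X)
    (hcov : ∀ x ∈ X, ∃ t ∈ X, t⁻¹ * x * t ∈ S) : S = X := by
  by_contra hne
  have hlt : S.subgroupOf X ≠ ⊤ := by
    intro h
    rw [Subgroup.subgroupOf_eq_top] at h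
    exact hne (le_antisymm hSX h)
  have hidx : 2 ≤ Nat.card (X ⧸ S.subgroupOf X) := by
    have h1 : (S.subgroupOf X).index ≠ 1 := fun h => hlt (Subgroup.index_eq_one.mp h)
    have h0 : (S.subgroupOf X).index ≠ 0 := Subgroup.index_ne_zero_of_finite
    rw [Subgroup.index_eq_card] at h1 h0
    omega
  obtain ⟨x, hx⟩ := exists_derangement (G := X) (Ω := X ⧸ S.subgroupOf X) hidx
  obtain ⟨t, ht, hts⟩ := hcov x x.2
  apply hx ((⟨t, ht⟩ : X) : X ⧸ S.subgroupOf X)
  rw [MulAction.Quotient.smul_mk, QuotientGroup.eq, Subgroup.mem_subgroupOf]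
  have : ((x • (⟨t, ht⟩ : X))⁻¹ * ⟨t, ht⟩ : X) = ((⟨t⁻¹ * x * t, by
      exact X.mul_mem (X.mul_mem (X.inv_mem ht) x.2) ht⟩ : X))⁻¹ := by
    apply Subtype.ext
    simp [mul_assoc]
  rw [this]
  exact S.inv_mem hts

/-- A minimal invariant subgroup that is a `p`-group is abelian. -/
theorem abelian_of_pgroup {G : Type*} [Group G] [Finite G] {N X : Subgroup G}
    (hX : IsMinInv N X) (p : ℕ) [Fact p.Prime] (hp : IsPGroup p X) :
    ∀ a ∈ X, ∀ b ∈ X, a * b = b * a := by
  haveI : Nontrivial X := (Subgroup.nontrivial_iff_ne_bot X).mpr hX.ne_bot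
  haveI := hp.center_nontrivial
  have hle : (Subgroup.center X).map X.subtype ≤ X := Subgroup.map_subtype_le _
  have hinv : ∀ n ∈ N, ∀ z ∈ (Subgroup.center X).map X.subtype,
      n * z * n⁻¹ ∈ (Subgroup.center X).map X.subtype := by
    intro n hn z hz
    obtain ⟨z', hz', rfl⟩ := Subgroup.mem_map.mp hz
    have hmem : n * (z' : G) * n⁻¹ ∈ X := hX.inv n hn _ z'.2
    refine Subgroup.mem_map.mpr ⟨⟨_, hmem⟩, ?_, rfl⟩
    rw [Subgroup.mem_center_iff]
    intro x
    apply Subtype.ext
    have hx' : n⁻¹ * (x : G) * n⁻¹⁻¹ ∈ X := hX.inv n⁻¹ (N.inv_mem hn) _ x.2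
    have hc := Subgroup.mem_center_iff.mp hz' ⟨_, hx'⟩
    have hc' : n⁻¹ * (x : G) * n⁻¹⁻¹ * (z' : G) = (z' : G) * (n⁻¹ * (x : G) * n⁻¹⁻¹) :=
      congrArg Subtype.val hc
    show (x : G) * (n * (z' : G) * n⁻¹) = n * (z' : G) * n⁻¹ * (x : G)
    calc (x : G) * (n * (z' : G) * n⁻¹)
        = n * (n⁻¹ * (x : G) * n⁻¹⁻¹ * (z' : G)) * n⁻¹ := by group
      _ = n * ((z' : G) * (n⁻¹ * (x : G) * n⁻¹⁻¹)) * n⁻¹ := by rw [hc']
      _ = n * (z' : G) * n⁻¹ * (x : G) := by group
  have hne : (Subgroup.center X).map X.subtype ≠ ⊥ := by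
    intro h
    rw [Subgroup.map_eq_bot_iff_of_injective _ X.subtype_injective] at h
    obtain ⟨z, hz⟩ := exists_ne (1 : Subgroup.center X)
    apply hz
    have hz2 : (z : X) ∈ Subgroup.center X := z.2
    have hz3 : (z : X) ∈ (⊥ : Subgroup X) := by rw [← h]; exact hz2
    exact Subtype.ext (Subgroup.mem_bot.mp hz3)
  have hZ := (hX.min _ hle hinv).resolve_left hne
  intro a ha b hb
  have hb' : b ∈ (Subgroup.center X).map X.subtype := by rw [hZ]; exact hb
  obtain ⟨z, hz, rfl⟩ := Subgroup.mem_map.mp hb'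
  exact congrArg Subtype.val (Subgroup.mem_center_iff.mp hz ⟨a, ha⟩)

/-- If `N` is a minimal normal subgroup and `X` a minimal `N`-invariant subgroup, then every
element of `N` is a product of an element of `X` and an element of `N` centralizing `X`. -/
theorem exists_decomp {G : Type*} [Group G] [Finite G] {N X : Subgroup G} [hNn : N.Normal]
    (hNmin : ∀ B : Subgroup G, B.Normal → B ≤ N → B = ⊥ ∨ B = N) (hX : IsMinInv N X) :
    ∀ n ∈ N, ∃ t ∈ X, ∃ c ∈ N, (∀ s ∈ X, c * s = s * c) ∧ n = t * c := by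
  have hK : Subgroup.normalClosure (X : Set G) = N := by
    refine (hNmin _ Subgroup.normalClosure_normal
      (Subgroup.normalClosure_le_normal hX.le)).resolve_left ?_
    intro h
    apply hX.ne_bot
    rw [eq_bot_iff, ← h]
    exact Subgroup.subset_normalClosure
  intro n hn
  rw [← hK] at hn
  unfold Subgroup.normalClosure at hn
  induction hn using Subgroup.closure_induction with
  | mem x hx =>
    obtain ⟨a, ha, hax⟩ := Group.mem_conjugatesOfSet_iff.mp hx
    obtain ⟨g, rfl⟩ := isConj_iff.mp hax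
    have hxc : g * a * g⁻¹ ∈ MulAut.conj g • X := conj_mem_conj_smul ha
    by_cases hgX : MulAut.conj g • X = X
    · rw [hgX] at hxc
      exact ⟨_, hxc, 1, N.one_mem, fun s _ => by simp, by simp⟩
    · refine ⟨1, X.one_mem, _, (hX.conj g).le hxc, fun s hs => ?_, by simp⟩
      exact (hX.conj g).commute hX hgX _ hxc s hs
  | one => exact ⟨1, X.one_mem, 1, N.one_mem, fun s _ => by simp, by simp⟩
  | mul x y _ _ ihx ihy =>
    obtain ⟨t, ht, c, hc, hcs, rfl⟩ := ihx
    obtain ⟨t', ht', c', hc', hcs', rfl⟩ := ihy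
    refine ⟨t * t', X.mul_mem ht ht', c * c', N.mul_mem hc hc', fun s hs => ?_, ?_⟩
    · rw [mul_assoc, hcs' s hs, ← mul_assoc, hcs s hs, mul_assoc]
    · have := hcs t' ht'
      calc t * c * (t' * c') = t * (c * t') * c' := by group
        _ = t * (t' * c) * c' := by rw [this]
        _ = t * t' * (c * c') := by group
  | inv x _ ih =>
    obtain ⟨t, ht, c, hc, hcs, rfl⟩ := ih
    refine ⟨t⁻¹, X.inv_mem ht, c⁻¹, N.inv_mem hc, fun s hs => ?_, ?_⟩
    · have := hcs s hs
      calc c⁻¹ * s = c⁻¹ * (s * c) * c⁻¹ := by group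
        _ = c⁻¹ * (c * s) * c⁻¹ := by rw [this]
        _ = s * c⁻¹ := by group
    · have := hcs t⁻¹ (X.inv_mem ht)
      calc (t * c)⁻¹ = c⁻¹ * t⁻¹ := by group
        _ = c⁻¹ * (t⁻¹ * c) * c⁻¹ := by group
        _ = c⁻¹ * (c * t⁻¹) * c⁻¹ := by rw [this]
        _ = t⁻¹ * c⁻¹ := by group

end Cfsg.Agent.Lib.Helper58_Jordan
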