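import Mathlib
import Cfsg.Prelude.Def_Blocks
import Cfsg.Agent.Lib.Helper78_ADDefs
import Cfsg.Agent.Lib.Helper78_LocalRing
import Cfsg.Agent.Lib.Helper80_CharBasic
import Cfsg.Agent.Lib.Helper75_RelGlaubCliff
import Cfsg.Agent.Lib.Helper58_Jordan
import Cfsg.Agent.S4432

/-!
# S4551 (Alperin–Dade) package AD-INV (architect helper78): every member of the principal block of
`N` is `G`-invariant.
-/

set_option autoImplicit false

namespace Cfsg.Agent.Lib.Helper57_AD_INV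

open Cfsg Cfsg.Agent.Lib.Helper78_ADDefs Cfsg.Agent.Lib.Helper78_LocalRing
open Cfsg.Agent.Lib.Helper80_CharBasic

universe u

variable {p : ℕ} {M : Ideal AlgInt}

theorem invariant {G : Type u} [Group G] [Finite G] [Fact p.Prime] (hM : IsPModular p M)
    (N : Subgroup G) [hN : N.Normal] (hreg : ADReg p M G N) (θ : IrrCharacter N)
    (hθ : θ ∈ principalBlock M N) (g : G) (n : N) :
    (θ : N → ℂ) ⟨g * n * g⁻¹, hN.conj_mem (n : G) n.2 g⟩ = (θ : N → ℂ) n := by
  classical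
  have hMp := isPrime_of_isPModular hM
  have : Fintype G := Fintype.ofFinite G
  have : Fintype N := Fintype.ofFinite N
  -- a member of the principal block of `G` over `θ`
  have hcov : ∃ χ ∈ principalBlock M G, ∃ θ' ∈ principalBlock M N,
      Cfsg.classInner (fun n : N => (χ : G → ℂ) n) (θ' : N → ℂ) ≠ 0 := by
    refine ⟨oneIrr G, sameBlock_refl hMp _, oneIrr N, sameBlock_refl hMp _, ?_⟩
    have h1 : (fun n : N => ((oneIrr G : IrrCharacter G) : G → ℂ) n) =
        ((oneIrr N : IrrCharacter N) : N → ℂ) := rfl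
    rw [h1, Cfsg.Agent.Lib.Helper3_CharOrtho.classInner_self_of_isIrrCharacter (oneIrr N).2]
    exact one_ne_zero
  obtain ⟨ψ, hψB, hψθ⟩ := Cfsg.Agent.S4432.result p M hM N (principalBlock M G)
    ⟨oneIrr G, rfl⟩ (principalBlock M N) ⟨oneIrr N, rfl⟩ hcov θ hθ
  -- the inertia group
  set T : Subgroup G := Cfsg.Agent.Lib.Helper75_RelGlaubCliff.inertia N hN (θ : N → ℂ) with hTdef
  have : Fintype T := Fintype.ofFinite T
  have hNT : N ≤ T :=
    Cfsg.Agent.Lib.Helper75_RelGlaubCliff.le_inertia N hN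
      (Cfsg.Agent.Lib.Helper3_CharBridge.isClassFunction_of_isIrrCharacter θ.2)
  obtain ⟨ξ, hξind, -⟩ := Cfsg.Agent.Lib.Helper75_RelGlaubCliff.cliff_surj N T hN hNT θ.2
    (fun g => Iff.rfl) ψ hψθ
  -- every element has a conjugate in `T`
  have hconj : ∀ x ∈ (⊤ : Subgroup G), ∃ t ∈ (⊤ : Subgroup G), t⁻¹ * x * t ∈ T := by
    intro a _
    obtain ⟨x, hxN, -, hx⟩ := hreg a
    have hsb : SameBlock M (fun _ : G => (1 : ℂ)) (ψ : G → ℂ) := hψB
    have h1 := hx _ _ hsb
    have hψx : (ψ : G → ℂ) x ≠ 0 := by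
      intro h0
      rw [h0, zero_div, sub_zero, div_one] at h1
      exact not_memLocalIdeal_one hMp h1
    rw [← hξind, Cfsg.Agent.Lib.Helper75_Induced.indFun_apply] at hψx
    have hsum : ∑ y : G, Cfsg.extendByZero T (ξ : T → ℂ) (y⁻¹ * x * y) ≠ 0 := by
      intro h0
      rw [h0, mul_zero] at hψx
      exact hψx rfl
    obtain ⟨y, -, hy⟩ := Finset.exists_ne_zero_of_sum_ne_zero hsum
    have hyT : y⁻¹ * x * y ∈ T := by
      by_contra hnot
      apply hy
      unfold Cfsg.extendByZero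
      rw [Function.extend_apply']
      · rfl
      · rintro ⟨t, ht⟩
        exact hnot (ht ▸ t.2)
    refine ⟨y, Subgroup.mem_top _, ?_⟩
    -- `a = x * (x⁻¹ * a)` with `x⁻¹ * a ∈ N`
    have hm : y⁻¹ * (a⁻¹ * x) * y ∈ T := hNT (by
      have := hN.conj_mem (a⁻¹ * x) hxN y⁻¹
      simpa using this)
    have : y⁻¹ * a * y = (y⁻¹ * x * y) * (y⁻¹ * (a⁻¹ * x) * y)⁻¹ := by group
    rw [this]
    exact T.mul_mem hyT (T.inv_mem hm)
  have hTtop : T = ⊤ := Cfsg.Agent.Lib.Helper58_Jordan.eq_of_conj_cover ⊤ T le_top hconj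
  have hgT : g ∈ T := by rw [hTtop]; exact Subgroup.mem_top g
  have h2 := (Cfsg.Agent.Lib.Helper75_RelGlaubCliff.mem_inertia N hN (θ : N → ℂ) g).mp hgT
  exact congrFun h2 n

end Cfsg.Agent.Lib.Helper57_AD_INV
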