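import Mathlib
import Cfsg.Agent.Lib.Helper57_IndBlock

/-!
# Height-zero constituents of restrictions (helper57)

If the block `b` of `H ≤ G` induces the block `B` of `G` and `χ ∈ B` has height zero, then some
`ξ ∈ b` of height zero has multiplicity prime to `p` in `χ_H` (no condition on the defects).

Proof: for any `ξ₀ ∈ b`, `ω_{ξ₀}(f|_H) ≡ ω_χ(f)` for the class function `f = (conj χ)°` (extension
by zero of `conj χ` off the `p`-regular elements); `ω_χ(f) = r(χ, χ)` is a `p`-unit as `χ` has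
height zero, and `ω_{ξ₀}(f|_H) ξ₀(1) = |H|_{p'} ∑_ξ [χ_H, ξ] N_H(ξ₀, ξ)`.  Take `ξ₀` of height
zero and use `p ^ ν(ξ(1)) ∣ N_H(ξ₀, ξ)`.
-/

set_option autoImplicit false
set_option linter.unusedSectionVars false

namespace Cfsg.Agent.Lib.Helper57_Blau

open Cfsg
open scoped ComplexConjugate
open Cfsg.Agent.Lib.Helper3_CharBridge Cfsg.Agent.Lib.Helper3_CharOrtho
  Cfsg.Agent.Lib.Helper3_CharComplete
  Cfsg.Agent.Lib.Helper75_CharArith Cfsg.Agent.Lib.Helper57_PRegInt
  Cfsg.Agent.Lib.Helper57_HeightZero Cfsg.Agent.Lib.Helper57_BrauerFeit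
  Cfsg.Agent.Lib.Helper78_LocalRing Cfsg.Agent.Lib.Helper77_BlockBasics
  Cfsg.Agent.Lib.Helper78_Osima Cfsg.Agent.Lib.Helper78_CharFacts

variable {G : Type*} [Group G] [Fintype G] {p : ℕ} {M : Ideal AlgInt}

/-- Restriction to a subgroup commutes with `regPart`. -/
theorem regPart_restrict (H : Subgroup G) (α : G → ℂ) :
    (fun h : H => regPart p α (h : G)) = regPart p (fun h : H => α h) := by
  funext h
  unfold regPart
  rw [Subgroup.orderOf_coe]

/-- The restriction of a character, expanded against the `p`-regular part of `ξ₀`: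
`p ^ a_H [ξ₀°, χ_H] = ∑_ξ [χ_H, ξ] N_H(ξ₀, ξ)`. -/
theorem regInner_restrict (H : Subgroup G) [Fintype H] (hIH : RegInt H p)
    (χ : IrrCharacter G) (n : IrrCharacter H → ℕ)
    (hn : ∀ ξ : IrrCharacter H, classInner (fun h : H => (χ : G → ℂ) h) (ξ : H → ℂ) = n ξ)
    (ξ₀ : IrrCharacter H) :
    ((p ^ (Nat.card H).factorization p : ℕ) : ℂ) *
      classInner (regPart p (ξ₀ : H → ℂ)) (fun h : H => (χ : G → ℂ) h) =
      ((∑ ξ : IrrCharacter H, (n ξ : ℤ) * NN hIH ξ₀ ξ : ℤ) : ℂ) := by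
  have hcl : IsClassFunction H (fun h : H => (χ : G → ℂ) h) :=
    isClassFunction_of_isCharacter (isCharacter_restrict H (isCharacter_of_isIrrCharacter χ.2))
  have hexp := classFunction_eq_sum _ hcl
  conv_lhs => rw [hexp]
  rw [classInner_sum_right, Finset.mul_sum]
  push_cast
  refine Finset.sum_congr rfl fun ξ _ => ?_
  rw [classInner_smul_right, hn ξ, map_natCast, ← NN_spec hIH ξ₀ ξ]
  push_cast
  ring

/-- **Blau.**  If `b` induces `B` and `χ ∈ B` has height zero, some `ξ ∈ b` of height zero has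
multiplicity prime to `p` in the restriction `χ_H`. -/
theorem exists_height_zero_constituent_restrict (hp : p.Prime) (hM : IsPModular p M)
    (H : Subgroup G) [Fintype H] (hIG : RegInt G p) (hIH : RegInt H p)
    {b : Set (IrrCharacter H)} {B : Set (IrrCharacter G)} (hind : IsInducedBlock M H b B)
    {χ : IrrCharacter G} (hχ : χ ∈ B) (h0χ : blockHeight p B (χ : G → ℂ) = 0) :
    ∃ ξ ∈ b, blockHeight p b (ξ : H → ℂ) = 0 ∧ ∃ n : ℕ,
      classInner (fun h : H => (χ : G → ℂ) h) (ξ : H → ℂ) = (n : ℂ) ∧ ¬ p ∣ n := by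
  classical
  have hpi : Prime (p : ℤ) := Nat.prime_iff_prime_int.mp hp
  have hM' := isPrime_of_isPModular hM
  -- multiplicities
  have hchH : IsCharacter H (fun h : H => (χ : G → ℂ) h) :=
    isCharacter_restrict H (isCharacter_of_isIrrCharacter χ.2)
  have hn : ∀ ξ : IrrCharacter H, ∃ n : ℕ,
      classInner (fun h : H => (χ : G → ℂ) h) (ξ : H → ℂ) = n := fun ξ =>
    classInner_isCharacter_nat hchH (isCharacter_of_isIrrCharacter ξ.2)
  choose n hn using hn
  -- a height-zero member of `b`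
  obtain ⟨ξ₁, hξ₁⟩ := isPBlock_nonempty hM' hind.1
  obtain ⟨ξ₀, hξ₀, hξ₀h⟩ := exists_height_zero_mem (p := p) ⟨ξ₁, hξ₁⟩
  have hval : (charDegree (ξ₀ : H → ℂ)).factorization p = h0 p b := by
    rw [val_eq_h0_add hξ₀, hξ₀h, add_zero]
  -- the class function `f`
  set f : G → ℂ := regPart p (fun g => conj ((χ : G → ℂ) g)) with hf
  have hfcl : IsClassFunction G f :=
    regPart_isClassFunction p (Helper57_HeightZero.isClassFunction_conj (isClassFunction_of_isIrrCharacter χ.2))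
  have hfR : ∀ g, MemLocalRing M (f g) := by
    intro g
    have hint := isIntegral_regPart_conj (p := p) (isCharacter_of_isIrrCharacter χ.2) g
    exact memLocalRing_algInt hM' ⟨_, hint⟩
  have hcong := Cfsg.Agent.Lib.Helper78_PRegSum.memLocalIdeal_omega_restrict_sub hM' H
    (ξ₀ : H → ℂ) (isClassFunction_of_isIrrCharacter χ.2)
    (fun g => hind.2.2 ξ₀ hξ₀ χ hχ g) hfcl hfR
  rw [hf, rr_spec hIG χ χ, regPart_restrict] at hcong
  -- the value `w = ω_{ξ₀}(f|_H)`
  set w : ℂ := omega (ξ₀ : H → ℂ) (regPart p (fun h : H => conj ((χ : G → ℂ) h))) with hw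
  set T : ℤ := ∑ ξ : IrrCharacter H, (n ξ : ℤ) * NN hIH ξ₀ ξ with hT
  have hdeg := apply_one_eq_charDegree ξ₀
  have hd0 : ((charDegree (ξ₀ : H → ℂ) : ℕ) : ℂ) ≠ 0 :=
    Nat.cast_ne_zero.mpr (charDegree_pos ξ₀).ne'
  have h1 : (ξ₀ : H → ℂ) 1 ≠ 0 := by rw [hdeg]; exact hd0
  have hω := omega_regPart (p := p) (ξ₀ : H → ℂ) (fun h : H => (χ : G → ℂ) h) h1
  have hH : (Nat.card H : ℂ) =
      ((p ^ (Nat.card H).factorization p : ℕ) : ℂ) * (mPrime H p : ℂ) := by
    rw [← Nat.cast_mul, pow_mul_mPrime]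
  have hkey : w * (charDegree (ξ₀ : H → ℂ) : ℂ) = (mPrime H p : ℂ) * (T : ℂ) := by
    rw [hw, ← hdeg, hω, hH, hT, ← regInner_restrict H hIH χ n hn ξ₀]
    ring
  -- `w` is an integer
  have hwint : IsIntegral ℤ w := by
    rw [hw]
    refine isIntegral_omega ξ₀.2 (regPart_isClassFunction p (Helper57_HeightZero.isClassFunction_conj
      (isClassFunction_of_isCharacter hchH))) ?_
    exact isIntegral_regPart_conj hchH
  have hrat : ∃ q : ℚ, w = q := by
    refine ⟨(mPrime H p : ℚ) * (T : ℚ) / (charDegree (ξ₀ : H → ℂ) : ℚ), ?_⟩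
    push_cast
    rw [eq_div_iff hd0, hkey]
  obtain ⟨r, hr⟩ := (IsIntegral.exists_int_iff_exists_rat hwint).mp hrat
  rw [hr] at hkey hcong
  have hkeyZ : r * (charDegree (ξ₀ : H → ℂ) : ℤ) = (mPrime H p : ℤ) * T := by
    exact_mod_cast hkey
  have hrnd : ¬ (p : ℤ) ∣ r := by
    intro hdvd
    rw [← Int.cast_sub, memLocalIdeal_intCast_iff hM] at hcong
    have h2 : (p : ℤ) ∣ rr hIG χ χ := by
      have := dvd_sub hdvd hcong
      rwa [sub_sub_cancel] at this
    exact (height_zero_iff hp hM hind.2.1 hIG hχ).mp h0χ h2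
  -- conclusion
  by_contra hcon
  rw [not_exists] at hcon
  have hall : ∀ ξ : IrrCharacter H, (p : ℤ) ^ (h0 p b + 1) ∣ (n ξ : ℤ) * NN hIH ξ₀ ξ := by
    intro ξ
    by_cases hξ : ξ ∈ b
    · by_cases hht : blockHeight p b (ξ : H → ℂ) = 0
      · have hpm : p ∣ n ξ := by
          by_contra hnd
          exact hcon ξ ⟨hξ, hht, n ξ, hn ξ, hnd⟩
        rw [pow_succ, mul_comm ((p : ℤ) ^ h0 p b) (p : ℤ)]
        apply mul_dvd_mul (Int.natCast_dvd_natCast.mpr hpm)
        have := pow_dvd_NN hp hIH ξ₀ ξ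
        rwa [hval] at this
      · apply Dvd.dvd.mul_left
        have := pow_dvd_NN hp hIH ξ ξ₀
        rw [NN_symm] at this
        refine (pow_dvd_pow _ ?_).trans this
        rw [val_eq_h0_add hξ]
        omega
    · rw [NN_eq_zero_of_not_mem hM hind.1 hIH hξ₀ hξ, mul_zero]
      exact dvd_zero _
  have hTdvd : (p : ℤ) ^ (h0 p b + 1) ∣ T := by
    rw [hT]
    exact Finset.dvd_sum fun ξ _ => hall ξ
  have h3 : (p : ℤ) ^ (h0 p b + 1) ∣ r * (charDegree (ξ₀ : H → ℂ) : ℤ) := by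
    rw [hkeyZ]
    exact Dvd.dvd.mul_left hTdvd _
  have h4 := Prime.pow_dvd_of_dvd_mul_left hpi _ hrnd h3
  have h5 : p ^ (h0 p b + 1) ∣ charDegree (ξ₀ : H → ℂ) := by
    exact_mod_cast h4
  have := (hp.pow_dvd_iff_le_factorization (charDegree_pos ξ₀).ne').mp h5
  omega

end Cfsg.Agent.Lib.Helper57_Blau
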