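import Mathlib
import Cfsg.Agent.Lib.Helper57_Blau
import Cfsg.Agent.Lib.Helper77_VanishSylow
import Cfsg.Agent.Lib.Helper77_PRoots

/-!
# Broué–Puig: nonvanishing of the `b`-part of `c ↦ χ(xc)` (helper57)

Let `χ ∈ B` have height zero, `x` a `p`-element with centralizer `C` and `b` a block of `C`
inducing `B`.  Then the `b`-part of `ϑ(c) = χ(xc)` does not vanish identically on the
`p`-regular elements of `C`.

Proof: `ϑ = ∑_ψ [χ_C, ψ] λ_ψ ψ` with `λ_ψ = ψ(x)/ψ(1)` a `p`-power root of unity, so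
`λ_ψ ≡ 1` modulo the local ideal.  For `ξ₀ ∈ b` of height zero the Blau congruence gives
`r ξ₀(1) = |C|_{p'} ∑_ψ [χ_C, ψ] N_C(ξ₀, ψ)` with `p ∤ r`; all `N_C(ξ₀, ψ)` are divisible by
`p ^ ν(ξ₀(1))`, and if the `b`-part of `ϑ` vanished on the `p`-regular elements then
`∑_ψ [χ_C, ψ] λ_ψ N_C(ξ₀, ψ) = 0`; comparing modulo the local ideal gives a contradiction.
-/

set_option autoImplicit false
set_option linter.unusedSectionVars false

namespace Cfsg.Agent.Lib.Helper57_BrouePuig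

open Cfsg
open scoped ComplexConjugate
open Cfsg.Agent.Lib.Helper3_CharBridge Cfsg.Agent.Lib.Helper3_CharOrtho
  Cfsg.Agent.Lib.Helper3_CharComplete
  Cfsg.Agent.Lib.Helper75_CharArith Cfsg.Agent.Lib.Helper57_PRegInt
  Cfsg.Agent.Lib.Helper57_HeightZero Cfsg.Agent.Lib.Helper57_BrauerFeit
  Cfsg.Agent.Lib.Helper78_LocalRing Cfsg.Agent.Lib.Helper77_BlockBasics
  Cfsg.Agent.Lib.Helper78_Osima Cfsg.Agent.Lib.Helper78_CharFacts
  Cfsg.Agent.Lib.Helper57_Blau Cfsg.Agent.Lib.Helper57_IndBlock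

variable {G : Type*} [Group G] [Fintype G] {p : ℕ} {M : Ideal AlgInt}

/-- The Blau congruence in integer form: for `b^G = B`, `χ ∈ B` of height zero and any
`ξ₀ ∈ b`, `r * ξ₀(1) = |H|_{p'} * ∑_ξ [χ_H, ξ] N_H(ξ₀, ξ)` with `p ∤ r`. -/
theorem exists_unit_mul_deg (hp : p.Prime) (hM : IsPModular p M)
    (H : Subgroup G) [Fintype H] (hIG : RegInt G p) (hIH : RegInt H p)
    {b : Set (IrrCharacter H)} {B : Set (IrrCharacter G)} (hind : IsInducedBlock M H b B)
    {χ : IrrCharacter G} (hχ : χ ∈ B) (h0χ : blockHeight p B (χ : G → ℂ) = 0)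
    (n : IrrCharacter H → ℕ)
    (hn : ∀ ξ : IrrCharacter H, classInner (fun h : H => (χ : G → ℂ) h) (ξ : H → ℂ) = n ξ)
    {ξ₀ : IrrCharacter H} (hξ₀ : ξ₀ ∈ b) :
    ∃ r : ℤ, ¬ (p : ℤ) ∣ r ∧ r * (charDegree (ξ₀ : H → ℂ) : ℤ) =
      (mPrime H p : ℤ) * ∑ ξ : IrrCharacter H, (n ξ : ℤ) * NN hIH ξ₀ ξ := by
  classical
  have hM' := isPrime_of_isPModular hM
  have hchH : IsCharacter H (fun h : H => (χ : G → ℂ) h) :=
    isCharacter_restrict H (isCharacter_of_isIrrCharacter χ.2)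
  set f : G → ℂ := regPart p (fun g => conj ((χ : G → ℂ) g)) with hf
  have hfcl : IsClassFunction G f :=
    regPart_isClassFunction p
      (Helper57_HeightZero.isClassFunction_conj (isClassFunction_of_isIrrCharacter χ.2))
  have hfR : ∀ g, MemLocalRing M (f g) := by
    intro g
    have hint := isIntegral_regPart_conj (p := p) (isCharacter_of_isIrrCharacter χ.2) g
    exact memLocalRing_algInt hM' ⟨_, hint⟩
  have hcong := Cfsg.Agent.Lib.Helper78_PRegSum.memLocalIdeal_omega_restrict_sub hM' H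
    (ξ₀ : H → ℂ) (isClassFunction_of_isIrrCharacter χ.2)
    (fun g => hind.2.2 ξ₀ hξ₀ χ hχ g) hfcl hfR
  rw [hf, rr_spec hIG χ χ, regPart_restrict] at hcong
  set w : ℂ := omega (ξ₀ : H → ℂ) (regPart p (fun h : H => conj ((χ : G → ℂ) h))) with hw
  set T : ℤ := ∑ ξ : IrrCharacter H, (n ξ : ℤ) * NN hIH ξ₀ ξ with hT
  have hdeg := apply_one_eq_charDegree ξ₀
  have hd0 : ((charDegree (ξ₀ : H → ℂ) : ℕ) : ℂ) ≠ 0 :=
    Nat.cast_ne_zero.mpr (charDegree_pos ξ₀).ne'
  have h1 : (ξ₀ : H → ℂ) 1 ≠ 0 := by rw [hdeg]; exact hd0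
  have hω := omega_regPart (p := p) (ξ₀ : H → ℂ) (fun h : H => (χ : G → ℂ) h) h1
  have hH : (Nat.card H : ℂ) =
      ((p ^ (Nat.card H).factorization p : ℕ) : ℂ) * (mPrime H p : ℂ) := by
    rw [← Nat.cast_mul, pow_mul_mPrime]
  have hkey : w * (charDegree (ξ₀ : H → ℂ) : ℂ) = (mPrime H p : ℂ) * (T : ℂ) := by
    rw [hw, ← hdeg, hω, hH, hT, ← regInner_restrict H hIH χ n hn ξ₀]
    ring
  have hwint : IsIntegral ℤ w := by
    rw [hw]
    refine isIntegral_omega ξ₀.2 (regPart_isClassFunction p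
      (Helper57_HeightZero.isClassFunction_conj (isClassFunction_of_isCharacter hchH))) ?_
    exact isIntegral_regPart_conj hchH
  have hrat : ∃ q : ℚ, w = q := by
    refine ⟨(mPrime H p : ℚ) * (T : ℚ) / (charDegree (ξ₀ : H → ℂ) : ℚ), ?_⟩
    push_cast
    rw [eq_div_iff hd0, hkey]
  obtain ⟨r, hr⟩ := (IsIntegral.exists_int_iff_exists_rat hwint).mp hrat
  rw [hr] at hkey hcong
  refine ⟨r, ?_, by exact_mod_cast hkey⟩
  intro hdvd
  rw [← Int.cast_sub, memLocalIdeal_intCast_iff hM] at hcong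
  have h2 : (p : ℤ) ∣ rr hIG χ χ := by
    have := dvd_sub hdvd hcong
    rwa [sub_sub_cancel] at this
  exact (height_zero_iff hp hM hind.2.1 hIG hχ).mp h0χ h2

/-- A central `p`-element multiplies an irreducible character by a scalar `≡ 1` modulo the
local ideal. -/
theorem exists_scalar_of_central_pElement (hM : IsPModular p M) {C : Type*} [Group C] [Finite C]
    (ψ : IrrCharacter C) (z : C) (hz : z ∈ Submonoid.center C) (k : ℕ)
    (hzk : orderOf z = p ^ k) :
    ∃ c : ℂ, MemLocalIdeal M (c - 1) ∧ ∀ a : C, (ψ : C → ℂ) (z * a) = c * (ψ : C → ℂ) a := by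
  obtain ⟨c, _, hc⟩ := Cfsg.Agent.Lib.Helper77_VanishSylow.irr_mul_central ψ z hz
  have hpow : ∀ j : ℕ, ∀ a : C, (ψ : C → ℂ) (a * z ^ j) = c ^ j * (ψ : C → ℂ) a := by
    intro j
    induction j with
    | zero => intro a; simp
    | succ j ih =>
      intro a
      rw [pow_succ, ← mul_assoc, hc, ih, pow_succ]
      ring
  have h1 := hpow (orderOf z) 1
  rw [pow_orderOf_eq_one, mul_one] at h1
  have hne : (ψ : C → ℂ) 1 ≠ 0 :=
    Cfsg.Agent.Lib.Helper78_CentralChar.isIrrCharacter_one_ne_zero ψ.2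
  have hcn : c ^ (p ^ k) = 1 := by
    rw [← hzk]
    have : (c ^ orderOf z - 1) * (ψ : C → ℂ) 1 = 0 := by
      rw [sub_mul, one_mul, ← h1, sub_self]
    rcases mul_eq_zero.mp this with h | h
    · exact sub_eq_zero.mp h
    · exact absurd h hne
  refine ⟨c, Cfsg.Agent.Lib.Helper77_PRoots.memLocalIdeal_sub_one_of_pow_eq_one hM c k hcn, ?_⟩
  intro a
  rw [← hc a, (Submonoid.mem_center_iff.mp hz a).symm]

/-- **Broué–Puig.**  For `χ ∈ B` of height zero, a `p`-element `x` and a block `b` of `C_G(x)`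
inducing `B`, the `b`-part of `c ↦ χ(xc)` is nonzero at some `p`-regular element. -/
theorem brouePuig (hp : p.Prime) (hM : IsPModular p M) (hIG : RegInt G p) (x : G) (k : ℕ)
    (hx : orderOf x = p ^ k) [Fintype (Subgroup.centralizer ({x} : Set G))]
    (hIC : RegInt (Subgroup.centralizer ({x} : Set G)) p)
    {b : Set (IrrCharacter (Subgroup.centralizer ({x} : Set G)))} {B : Set (IrrCharacter G)}
    (hind : IsInducedBlock M (Subgroup.centralizer ({x} : Set G)) b B)
    {χ : IrrCharacter G} (hχ : χ ∈ B) (h0χ : blockHeight p B (χ : G → ℂ) = 0) :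
    ∃ y : Subgroup.centralizer ({x} : Set G), ¬ p ∣ orderOf y ∧
      blockPart b (fun c : Subgroup.centralizer ({x} : Set G) => (χ : G → ℂ) (x * (c : G))) y
        ≠ 0 := by
  classical
  have hpi : Prime (p : ℤ) := Nat.prime_iff_prime_int.mp hp
  have hp0 : (p : ℤ) ≠ 0 := by exact_mod_cast hp.ne_zero
  have hpC : (p : ℂ) ≠ 0 := Nat.cast_ne_zero.mpr hp.ne_zero
  have hM' := isPrime_of_isPModular hM
  -- `x` as a central element of `C`
  have hxmem : x ∈ Subgroup.centralizer ({x} : Set G) := by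
    rw [Subgroup.mem_centralizer_iff]
    intro h hh
    rw [Set.mem_singleton_iff.mp hh]
  obtain ⟨xC, hxC⟩ : ∃ xC : Subgroup.centralizer ({x} : Set G), (xC : G) = x := ⟨⟨x, hxmem⟩, rfl⟩
  have hxcent : xC ∈ Submonoid.center (Subgroup.centralizer ({x} : Set G)) := by
    rw [Submonoid.mem_center_iff]
    intro c
    apply Subtype.ext
    have := Subgroup.mem_centralizer_iff.mp c.2 x (Set.mem_singleton x)
    rw [Subgroup.coe_mul, Subgroup.coe_mul, hxC]
    exact this.symm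
  have hxord : orderOf xC = p ^ k := by
    rw [← hx, ← Subgroup.orderOf_coe xC]
    exact congrArg orderOf hxC
  -- multiplicities
  have hchC : IsCharacter (Subgroup.centralizer ({x} : Set G))
      (fun c : Subgroup.centralizer ({x} : Set G) => (χ : G → ℂ) c) :=
    isCharacter_restrict _ (isCharacter_of_isIrrCharacter χ.2)
  have hn : ∀ ψ : IrrCharacter (Subgroup.centralizer ({x} : Set G)), ∃ n : ℕ,
      classInner (fun c : Subgroup.centralizer ({x} : Set G) => (χ : G → ℂ) c)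
        (ψ : Subgroup.centralizer ({x} : Set G) → ℂ) = n := fun ψ =>
    classInner_isCharacter_nat hchC (isCharacter_of_isIrrCharacter ψ.2)
  choose n hn using hn
  -- scalars
  have hsc : ∀ ψ : IrrCharacter (Subgroup.centralizer ({x} : Set G)), ∃ c : ℂ,
      MemLocalIdeal M (c - 1) ∧ ∀ a : Subgroup.centralizer ({x} : Set G),
        (ψ : Subgroup.centralizer ({x} : Set G) → ℂ) (xC * a) =
          c * (ψ : Subgroup.centralizer ({x} : Set G) → ℂ) a := fun ψ =>
    exists_scalar_of_central_pElement hM ψ xC hxcent k hxord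
  choose lam hlam1 hlam using hsc
  -- expansion of `ϑ`
  have hexp : (fun c : Subgroup.centralizer ({x} : Set G) => (χ : G → ℂ) (x * (c : G))) =
      ∑ ψ : IrrCharacter (Subgroup.centralizer ({x} : Set G)),
        ((n ψ : ℂ) * lam ψ) • (ψ : Subgroup.centralizer ({x} : Set G) → ℂ) := by
    funext c
    have hcl := isClassFunction_of_isCharacter hchC
    have h1 := congrFun (classFunction_eq_sum _ hcl) (xC * c)
    rw [Finset.sum_apply] at h1
    rw [Finset.sum_apply]
    have h2 : (χ : G → ℂ) (x * (c : G)) = (χ : G → ℂ) ((xC * c : Subgroup.centralizer ({x} : Set G)) : G) := by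
      rw [Subgroup.coe_mul, hxC]
    rw [h2, h1]
    refine Finset.sum_congr rfl fun ψ _ => ?_
    rw [Pi.smul_apply, Pi.smul_apply, smul_eq_mul, smul_eq_mul, hn ψ, hlam ψ c]
    ring
  have hinner : ∀ ψ' : IrrCharacter (Subgroup.centralizer ({x} : Set G)),
      classInner (fun c : Subgroup.centralizer ({x} : Set G) => (χ : G → ℂ) (x * (c : G)))
        (ψ' : Subgroup.centralizer ({x} : Set G) → ℂ) = (n ψ' : ℂ) * lam ψ' := by
    intro ψ'
    rw [hexp, classInner_sum_left, Finset.sum_eq_single ψ']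
    · rw [classInner_smul_left, classInner_self_of_isIrrCharacter ψ'.2, mul_one]
    · intro ψ _ hne
      rw [classInner_smul_left,
        classInner_of_isIrrCharacter_of_ne ψ.2 ψ'.2 (fun h => hne (Subtype.ext h)), mul_zero]
    · intro h
      exact absurd (Finset.mem_univ _) h
  by_contra hcon
  rw [not_exists] at hcon
  have hvan : ∀ y : Subgroup.centralizer ({x} : Set G), ¬ p ∣ orderOf y →
      ∑ ψ ∈ bset b, (n ψ : ℂ) * lam ψ *
        (ψ : Subgroup.centralizer ({x} : Set G) → ℂ) y = 0 := by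
    intro y hy
    have h1 := hcon y
    rw [not_and, not_not] at h1
    have h2 := h1 hy
    rw [blockPart_apply] at h2
    rw [← h2]
    refine Finset.sum_congr rfl fun ψ _ => ?_
    rw [hinner]
  -- a height-zero member of `b`
  obtain ⟨ξ₁, hξ₁⟩ := isPBlock_nonempty hM' hind.1
  obtain ⟨ξ₀, hξ₀, hξ₀h⟩ := exists_height_zero_mem (p := p) ⟨ξ₁, hξ₁⟩
  have hval : (charDegree (ξ₀ : Subgroup.centralizer ({x} : Set G) → ℂ)).factorization p =
      h0 p b := by
    rw [val_eq_h0_add hξ₀, hξ₀h, add_zero]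
  obtain ⟨r, hrnd, hr⟩ := exists_unit_mul_deg hp hM _ hIG hIC hind hχ h0χ n hn hξ₀
  -- the twisted sum vanishes
  have hT' : ∑ ψ ∈ bset b, (n ψ : ℂ) * lam ψ * (NN hIC ψ ξ₀ : ℂ) = 0 := by
    have h3 : ∀ ψ : IrrCharacter (Subgroup.centralizer ({x} : Set G)), (NN hIC ψ ξ₀ : ℂ) =
        ((p ^ (Nat.card (Subgroup.centralizer ({x} : Set G))).factorization p : ℕ) : ℂ) *
          classInner (regPart p (ψ : Subgroup.centralizer ({x} : Set G) → ℂ))
            (ξ₀ : Subgroup.centralizer ({x} : Set G) → ℂ) := fun ψ => (NN_spec hIC ψ ξ₀).symm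
    simp_rw [h3]
    unfold classInner
    have hz : ∀ y : Subgroup.centralizer ({x} : Set G), ∑ ψ ∈ bset b, (n ψ : ℂ) * lam ψ *
        regPart p (ψ : Subgroup.centralizer ({x} : Set G) → ℂ) y = 0 := by
      intro y
      by_cases hy : p ∣ orderOf y
      · refine Finset.sum_eq_zero fun ψ _ => ?_
        rw [regPart_of_dvd _ hy, mul_zero]
      · have := hvan y hy
        rw [← this]
        refine Finset.sum_congr rfl fun ψ _ => ?_
        rw [regPart_of_not_dvd _ hy]
    have hswap : ∑ ψ ∈ bset b, (n ψ : ℂ) * lam ψ *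
        (((p ^ (Nat.card (Subgroup.centralizer ({x} : Set G))).factorization p : ℕ) : ℂ) *
          ((Nat.card (Subgroup.centralizer ({x} : Set G)) : ℂ)⁻¹ *
            ∑ y : Subgroup.centralizer ({x} : Set G),
              regPart p (ψ : Subgroup.centralizer ({x} : Set G) → ℂ) y *
                conj ((ξ₀ : Subgroup.centralizer ({x} : Set G) → ℂ) y))) =
        ((p ^ (Nat.card (Subgroup.centralizer ({x} : Set G))).factorization p : ℕ) : ℂ) *
          (Nat.card (Subgroup.centralizer ({x} : Set G)) : ℂ)⁻¹ *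
          ∑ y : Subgroup.centralizer ({x} : Set G),
            (∑ ψ ∈ bset b, (n ψ : ℂ) * lam ψ *
              regPart p (ψ : Subgroup.centralizer ({x} : Set G) → ℂ) y) *
              conj ((ξ₀ : Subgroup.centralizer ({x} : Set G) → ℂ) y) := by
      simp_rw [Finset.sum_mul, Finset.mul_sum]
      rw [Finset.sum_comm]
      refine Finset.sum_congr rfl fun y _ => Finset.sum_congr rfl fun ψ _ => ?_
      ring
    rw [hswap]
    simp_rw [hz, zero_mul]
    rw [Finset.sum_const_zero, mul_zero]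
  -- divide by `p ^ h₀`
  have hdvd : ∀ ψ : IrrCharacter (Subgroup.centralizer ({x} : Set G)),
      (p : ℤ) ^ (h0 p b) ∣ NN hIC ξ₀ ψ := fun ψ => by
    have := pow_dvd_NN hp hIC ξ₀ ψ
    rwa [hval] at this
  choose q hq using hdvd
  obtain ⟨t, ht⟩ : ∃ t : ℤ, t = ∑ ψ ∈ bset b, (n ψ : ℤ) * q ψ := ⟨_, rfl⟩
  have hTt : ∑ ψ : IrrCharacter (Subgroup.centralizer ({x} : Set G)), (n ψ : ℤ) * NN hIC ξ₀ ψ =
      (p : ℤ) ^ (h0 p b) * t := by
    have h4 : ∑ ψ : IrrCharacter (Subgroup.centralizer ({x} : Set G)), (n ψ : ℤ) * NN hIC ξ₀ ψ =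
        ∑ ψ ∈ bset b, (n ψ : ℤ) * NN hIC ξ₀ ψ := by
      unfold bset
      rw [Finset.sum_filter]
      refine Finset.sum_congr rfl fun ψ _ => ?_
      split_ifs with h
      · rfl
      · rw [NN_eq_zero_of_not_mem hM hind.1 hIC hξ₀ h, mul_zero]
    rw [h4, ht, Finset.mul_sum]
    refine Finset.sum_congr rfl fun ψ _ => ?_
    rw [hq ψ]
    ring
  obtain ⟨u, hu, hup⟩ : ∃ u : ℕ, charDegree (ξ₀ : Subgroup.centralizer ({x} : Set G) → ℂ) =
      p ^ h0 p b * u ∧ ¬ p ∣ u := by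
    refine ⟨charDegree (ξ₀ : Subgroup.centralizer ({x} : Set G) → ℂ) /
      p ^ (charDegree (ξ₀ : Subgroup.centralizer ({x} : Set G) → ℂ)).factorization p, ?_, ?_⟩
    · rw [← hval]
      exact (Nat.ordProj_mul_ordCompl_eq_self _ p).symm
    · exact Nat.not_dvd_ordCompl hp (charDegree_pos ξ₀).ne'
  have htnd : ¬ (p : ℤ) ∣ t := by
    intro hdt
    rw [hTt, hu] at hr
    push_cast at hr
    have h5 : r * (u : ℤ) = (mPrime (Subgroup.centralizer ({x} : Set G)) p : ℤ) * t := by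
      apply mul_left_cancel₀ (pow_ne_zero (h0 p b) hp0)
      linear_combination hr
    have h6 : (p : ℤ) ∣ r * (u : ℤ) := by
      rw [h5]
      exact Dvd.dvd.mul_left hdt _
    rcases hpi.dvd_or_dvd h6 with h | h
    · exact hrnd h
    · exact hup (Int.natCast_dvd_natCast.mp h)
  apply htnd
  rw [← memLocalIdeal_intCast_iff hM]
  have hzero : ∑ ψ ∈ bset b, (n ψ : ℂ) * lam ψ * (q ψ : ℂ) = 0 := by
    have h7 : (p : ℂ) ^ (h0 p b) * ∑ ψ ∈ bset b, (n ψ : ℂ) * lam ψ * (q ψ : ℂ) = 0 := by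
      rw [← hT', Finset.mul_sum]
      refine Finset.sum_congr rfl fun ψ _ => ?_
      rw [NN_symm hIC ψ ξ₀, hq ψ]
      push_cast
      ring
    rcases mul_eq_zero.mp h7 with h | h
    · exact absurd h (pow_ne_zero _ hpC)
    · exact h
  have hteq : (t : ℂ) = ∑ ψ ∈ bset b, ((n ψ : ℂ) * (q ψ : ℂ)) * -(lam ψ - 1) := by
    have h8 : (t : ℂ) = (t : ℂ) - 0 := by ring
    rw [h8, ← hzero, ht]
    push_cast
    rw [← Finset.sum_sub_distrib]
    refine Finset.sum_congr rfl fun ψ _ => ?_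
    ring
  rw [hteq]
  refine memLocalIdeal_sum hM' _ _ fun ψ _ => ?_
  exact memLocalIdeal_mul_left hM'
    (memLocalRing_mul hM' (memLocalRing_natCast hM' _) (memLocalRing_intCast hM' _))
    (memLocalIdeal_neg (hlam1 ψ))

end Cfsg.Agent.Lib.Helper57_BrouePuig
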