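import Mathlib
import Cfsg.Agent.Lib.Helper57_GramTrace
import Cfsg.Agent.Lib.Helper57_IndBlock
import Cfsg.Agent.Lib.Helper3_CharColumn
import Cfsg.Agent.Lib.Helper16_InducedFusion
import Cfsg.Agent.Lib.Helper16_BlockOrth
import Cfsg.Agent.Lib.Helper80_CharBasic

/-!
# The trace of the contribution matrix of a subsection (helper57)

Let `u` be a `p`-element of `G`, `C ≤ G` a subgroup containing `C_G(u)` and centralized by `u`
(so `C = C_G(u)`), `e` a block of `C`.  For `χ ∈ Irr(G)` let `ϑ_χ(c) = χ(uc)` and `a(χ, ψ) =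
[ϑ_χ°, ψ]` for `ψ ∈ Irr(C)`.  Then `∑_χ |a(χ, ψ)|² = [ψ°, ψ]` (`sum_coeff_sq`), by the two
column orthogonality relations and the fact that `uc`, `uc'` (`c, c'` `p`-regular in `C`) are
`G`-conjugate iff `c, c'` are `C`-conjugate.
-/

set_option autoImplicit false
set_option linter.unusedSectionVars false

namespace Cfsg.Agent.Lib.Helper57_Contribution

open Cfsg
open scoped ComplexConjugate
open Cfsg.Agent.Lib.Helper3_CharBridge Cfsg.Agent.Lib.Helper3_CharOrtho
  Cfsg.Agent.Lib.Helper3_CharComplete Cfsg.Agent.Lib.Helper3_CharColumn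
  Cfsg.Agent.Lib.Helper75_CharArith Cfsg.Agent.Lib.Helper57_PRegInt
  Cfsg.Agent.Lib.Helper57_HeightZero Cfsg.Agent.Lib.Helper57_BrauerFeit
  Cfsg.Agent.Lib.Helper57_GramTrace Cfsg.Agent.Lib.Helper57_IndBlock
  Cfsg.Agent.Lib.Helper78_LocalRing Cfsg.Agent.Lib.Helper78_CharFacts

variable {G : Type*} [Group G] [Fintype G] {p : ℕ}

section Conj

variable (C : Subgroup G) (u : G) (hp : p.Prime) (k : ℕ) (hu : orderOf u = p ^ k)
  (hCu : ∀ c : C, u * (c : G) = (c : G) * u)
  (hcent : Subgroup.centralizer ({u} : Set G) ≤ C)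

include hu hCu in
theorem isPPart_mul (c : C) (hc : ¬ p ∣ orderOf c) : IsPPart p (u * (c : G)) u :=
  ⟨(c : G), rfl, hCu c, ⟨k, hu⟩, by rwa [Subgroup.orderOf_coe]⟩

include hp hu hCu hcent in
/-- An element conjugating `uc` to `uc'` (`c, c'` `p`-regular in `C`) lies in `C` and conjugates
`c` to `c'`. -/
theorem mem_of_conj (c c' : C) (hc : ¬ p ∣ orderOf c) (hc' : ¬ p ∣ orderOf c') (g : G)
    (hg : g * (u * (c : G)) * g⁻¹ = u * (c' : G)) : g ∈ C ∧ g * (c : G) * g⁻¹ = (c' : G) := by
  have h1 := Cfsg.Agent.Lib.Helper16_InducedFusion.isPPart_conj (isPPart_mul C u k hu hCu c hc) g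
  rw [hg] at h1
  have h2 := isPPart_mul C u k hu hCu c' hc'
  have h3 : g * u * g⁻¹ = u := Cfsg.Agent.Lib.Helper16_InducedFusion.isPPart_unique hp h1 h2
  have hgC : g ∈ C := by
    apply hcent
    rw [Subgroup.mem_centralizer_iff]
    intro h hh
    rw [Set.mem_singleton_iff.mp hh]
    have : g * u = u * g := by
      calc g * u = g * u * g⁻¹ * g := by group
        _ = u * g := by rw [h3]
    exact this.symm
  refine ⟨hgC, ?_⟩
  have h4 : g * (u * (c : G)) * g⁻¹ = (g * u * g⁻¹) * (g * (c : G) * g⁻¹) := by group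
  rw [h4, h3] at hg
  exact mul_left_cancel hg

include hp hu hCu hcent in
theorem isConj_mul_iff (c c' : C) (hc : ¬ p ∣ orderOf c) (hc' : ¬ p ∣ orderOf c') :
    IsConj (u * (c : G)) (u * (c' : G)) ↔ IsConj c c' := by
  rw [isConj_iff, isConj_iff]
  constructor
  · rintro ⟨g, hg⟩
    obtain ⟨hgC, hgc⟩ := mem_of_conj C u hp k hu hCu hcent c c' hc hc' g hg
    exact ⟨⟨g, hgC⟩, Subtype.ext (by simpa using hgc)⟩
  · rintro ⟨g, hg⟩
    refine ⟨(g : G), ?_⟩
    have h1 : (g : G) * (c : G) * (g : G)⁻¹ = (c' : G) := by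
      have := congrArg Subtype.val hg
      simpa using this
    have h2 : (g : G) * u = u * (g : G) := (hCu g).symm
    calc (g : G) * (u * (c : G)) * (g : G)⁻¹ = ((g : G) * u) * (c : G) * (g : G)⁻¹ := by group
      _ = u * ((g : G) * (c : G) * (g : G)⁻¹) := by rw [h2]; group
      _ = u * (c' : G) := by rw [h1]

include hp hu hCu hcent in
theorem card_centralizer_mul (c : C) (hc : ¬ p ∣ orderOf c) :
    Nat.card (Subgroup.centralizer ({u * (c : G)} : Set G)) =
      Nat.card (Subgroup.centralizer ({c} : Set C)) := by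
  have hmap : (Subgroup.centralizer ({c} : Set C)).map C.subtype =
      Subgroup.centralizer ({u * (c : G)} : Set G) := by
    ext g
    rw [Subgroup.mem_map, Subgroup.mem_centralizer_iff]
    constructor
    · rintro ⟨g', hg', rfl⟩
      intro h hh
      rw [Set.mem_singleton_iff.mp hh]
      rw [Subgroup.mem_centralizer_iff] at hg'
      have h1 := congrArg Subtype.val (hg' c (Set.mem_singleton c))
      simp only [Subgroup.coe_mul] at h1
      have h2 : (g' : G) * u = u * (g' : G) := (hCu g').symm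
      show u * (c : G) * (g' : G) = (g' : G) * (u * (c : G))
      calc u * (c : G) * (g' : G) = u * ((c : G) * (g' : G)) := by group
        _ = u * ((g' : G) * (c : G)) := by rw [h1]
        _ = (u * (g' : G)) * (c : G) := by group
        _ = (g' : G) * (u * (c : G)) := by rw [← h2]; group
    · intro hg
      have hcomm := hg (u * (c : G)) (Set.mem_singleton _)
      have hconj : g * (u * (c : G)) * g⁻¹ = u * (c : G) := by
        rw [← hcomm]
        group
      obtain ⟨hgC, hgc⟩ := mem_of_conj C u hp k hu hCu hcent c c hc hc g hconj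
      refine ⟨⟨g, hgC⟩, ?_, rfl⟩
      rw [Subgroup.mem_centralizer_iff]
      intro h hh
      rw [Set.mem_singleton_iff.mp hh]
      apply Subtype.ext
      simp only [Subgroup.coe_mul]
      have h5 : g * (c : G) = (c : G) * g := by
        calc g * (c : G) = (g * (c : G) * g⁻¹) * g := by group
          _ = (c : G) * g := by rw [hgc]
      exact h5.symm
  rw [← hmap]
  exact (Nat.card_congr (Subgroup.equivMapOfInjective _ _
    (Subgroup.subtype_injective C)).toEquiv).symm

end Conj

section Coeff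

/-- A double-sum form of `∑_i [F_i, ψ] conj [F_i, ψ]`. -/
theorem sum_inner_sq_eq {K : Type*} [Group K] [Fintype K] {ι : Type*} [Fintype ι]
    (F : ι → K → ℂ) (ψ : K → ℂ) :
    ∑ i : ι, classInner (F i) ψ * conj (classInner (F i) ψ) =
      ((Nat.card K : ℂ)⁻¹) ^ 2 * ∑ c : K, ∑ c' : K, (conj (ψ c) * ψ c') *
        ∑ i : ι, F i c * conj (F i c') := by
  unfold classInner
  have h1 : ∀ i : ι, ((Nat.card K : ℂ)⁻¹ * ∑ g : K, F i g * conj (ψ g)) *
      conj ((Nat.card K : ℂ)⁻¹ * ∑ g : K, F i g * conj (ψ g)) =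
      ((Nat.card K : ℂ)⁻¹) ^ 2 * ∑ c : K, ∑ c' : K, (conj (ψ c) * ψ c') *
        (F i c * conj (F i c')) := by
    intro i
    rw [map_mul, map_inv₀, map_natCast, map_sum]
    have h2 : (∑ g : K, F i g * conj (ψ g)) * (∑ g : K, conj (F i g * conj (ψ g))) =
        ∑ c : K, ∑ c' : K, (conj (ψ c) * ψ c') * (F i c * conj (F i c')) := by
      rw [Finset.sum_mul_sum]
      refine Finset.sum_congr rfl fun c _ => Finset.sum_congr rfl fun c' _ => ?_
      rw [map_mul, Complex.conj_conj]
      ring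
    rw [← h2]
    ring
  simp_rw [h1]
  rw [← Finset.mul_sum]
  congr 1
  rw [Finset.sum_comm]
  refine Finset.sum_congr rfl fun c _ => ?_
  rw [Finset.sum_comm]
  refine Finset.sum_congr rfl fun c' _ => ?_
  rw [Finset.mul_sum]

variable (C : Subgroup G) [Fintype C] (u : G) (hp : p.Prime) (k : ℕ) (hu : orderOf u = p ^ k)
  (hCu : ∀ c : C, u * (c : G) = (c : G) * u)
  (hcent : Subgroup.centralizer ({u} : Set G) ≤ C)

/-- The function `c ↦ χ(uc)` on `C`. -/
def theta (χ : IrrCharacter G) : C → ℂ := fun c => (χ : G → ℂ) (u * (c : G))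

include hp hu hCu hcent in
/-- The two column orthogonality relations agree on `p`-regular elements of `C`. -/
theorem sum_irr_mul_eq (c c' : C) (hc : ¬ p ∣ orderOf c) (hc' : ¬ p ∣ orderOf c') :
    ∑ χ : IrrCharacter G, (χ : G → ℂ) (u * (c : G)) * conj ((χ : G → ℂ) (u * (c' : G))) =
      ∑ η : IrrCharacter C, (η : C → ℂ) c * conj ((η : C → ℂ) c') := by
  classical
  rw [column_orthogonality, column_orthogonality]
  by_cases h : IsConj c c'
  · rw [if_pos h, if_pos ((isConj_mul_iff C u hp k hu hCu hcent c c' hc hc').mpr h),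
      card_centralizer_mul C u hp k hu hCu hcent c hc]
  · rw [if_neg h, if_neg (fun h' => h ((isConj_mul_iff C u hp k hu hCu hcent c c' hc hc').mp h'))]

include hp hu hCu hcent in
theorem sum_regPart_theta (c c' : C) :
    ∑ χ : IrrCharacter G, regPart p (theta C u χ) c * conj (regPart p (theta C u χ) c') =
      ∑ η : IrrCharacter C, regPart p (η : C → ℂ) c * conj (regPart p (η : C → ℂ) c') := by
  by_cases hc : p ∣ orderOf c
  · simp_rw [regPart_of_dvd _ hc, zero_mul]
    rw [Finset.sum_const_zero, Finset.sum_const_zero]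
  · by_cases hc' : p ∣ orderOf c'
    · simp_rw [regPart_of_dvd _ hc', map_zero, mul_zero]
      rw [Finset.sum_const_zero, Finset.sum_const_zero]
    · simp_rw [regPart_of_not_dvd _ hc, regPart_of_not_dvd _ hc']
      exact sum_irr_mul_eq C u hp k hu hCu hcent c c' hc hc'

include hp hu hCu hcent in
/-- `∑_χ |[ϑ_χ°, ψ]|² = [ψ°, ψ]`. -/
theorem sum_coeff_sq (ψ : IrrCharacter C) :
    ∑ χ : IrrCharacter G, classInner (regPart p (theta C u χ)) (ψ : C → ℂ) *
        conj (classInner (regPart p (theta C u χ)) (ψ : C → ℂ)) =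
      classInner (regPart p (ψ : C → ℂ)) (ψ : C → ℂ) := by
  rw [sum_inner_sq_eq]
  simp_rw [sum_regPart_theta C u hp k hu hCu hcent]
  rw [← sum_inner_sq_eq (fun η : IrrCharacter C => regPart p (η : C → ℂ)) (ψ : C → ℂ)]
  have hcl : IsClassFunction C (regPart p (ψ : C → ℂ)) :=
    regPart_isClassFunction p (isClassFunction_of_isIrrCharacter ψ.2)
  have h4 : classInner (regPart p (ψ : C → ℂ)) (ψ : C → ℂ) =
      classInner (regPart p (ψ : C → ℂ)) (regPart p (ψ : C → ℂ)) := by
    unfold classInner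
    congr 1
    refine Finset.sum_congr rfl fun g _ => ?_
    by_cases h : p ∣ orderOf g
    · rw [regPart_of_dvd _ h, zero_mul, zero_mul]
    · rw [regPart_of_not_dvd _ h]
  rw [h4, classInner_self_eq_sum hcl]
  refine Finset.sum_congr rfl fun η _ => ?_
  rw [← regInner_symm (p := p) (η : C → ℂ) (ψ : C → ℂ), Complex.conj_conj, mul_comm]

end Coeff

end Cfsg.Agent.Lib.Helper57_Contribution
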