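import Mathlib
import Cfsg.Agent.Lib.Helper57_Contribution
import Cfsg.Agent.Lib.Helper78_SecondMainChar
import Cfsg.Agent.Lib.Helper78_BrauerPairs
import Cfsg.Agent.Lib.Helper78_InducedTrans

/-!
# Subsections: the norm of the columns of generalized decomposition numbers (helper57)

* `blockPart_regPart`: the block projection commutes with restriction to `p`-regular elements.
* `sum_blockPart_mul_conj`: Parseval for a block projection.
* `isInducedBlock_of_isBrauerPairOf`: if `(Q, e)` is a Brauer pair of `B` and `Q ≤ C_G(Q)`, then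
  `e^G = B`.
* `blockPart_theta_eq_zero`: the second main theorem for a subgroup `C = C_G(u)`.
* `sum_sum_blockPart_theta`: `∑_χ ∑_{s p-regular} |χ_u(s)|² = |C| l(e)`.
-/

set_option autoImplicit false
set_option linter.unusedSectionVars false

namespace Cfsg.Agent.Lib.Helper57_Subsection

open Cfsg
open scoped ComplexConjugate
open Cfsg.Agent.Lib.Helper3_CharBridge Cfsg.Agent.Lib.Helper3_CharOrtho
  Cfsg.Agent.Lib.Helper3_CharComplete Cfsg.Agent.Lib.Helper3_CharColumn
  Cfsg.Agent.Lib.Helper75_CharArith Cfsg.Agent.Lib.Helper57_PRegInt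
  Cfsg.Agent.Lib.Helper57_HeightZero Cfsg.Agent.Lib.Helper57_BrauerFeit
  Cfsg.Agent.Lib.Helper57_GramTrace Cfsg.Agent.Lib.Helper57_IndBlock
  Cfsg.Agent.Lib.Helper57_Contribution
  Cfsg.Agent.Lib.Helper78_LocalRing Cfsg.Agent.Lib.Helper78_CharFacts

section RegBlock

variable {K : Type*} [Group K] [Fintype K] {p : ℕ} {M : Ideal AlgInt}

theorem blockPart_sub (e : Set (IrrCharacter K)) (α β : K → ℂ) (s : K) :
    blockPart e (α - β) s = blockPart e α s - blockPart e β s := by
  rw [blockPart_apply, blockPart_apply, blockPart_apply, ← Finset.sum_sub_distrib]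
  refine Finset.sum_congr rfl fun ψ _ => ?_
  rw [classInner_sub_left, sub_mul]

theorem dvd_orderOf_of_isPPart (hp : p.Prime) {g z : K} (h : IsPPart p g z) (hz : z ≠ 1) :
    p ∣ orderOf g := by
  obtain ⟨y, hy, hc, ⟨k, hk⟩, hpy⟩ := h
  have hk0 : k ≠ 0 := by
    rintro rfl
    rw [pow_zero, orderOf_eq_one_iff] at hk
    exact hz hk
  have hcop : (orderOf z).Coprime (orderOf y) := by
    rw [hk]
    exact Nat.Coprime.pow_left k ((Nat.Prime.coprime_iff_not_dvd hp).mpr hpy)
  rw [← hy, hc.orderOf_mul_eq_mul_orderOf_of_coprime hcop, hk]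
  exact Dvd.dvd.mul_right (dvd_pow_self p hk0) _

/-- The block projection commutes with restriction to the `p`-regular elements. -/
theorem blockPart_regPart (hM : IsPModular p M) {e : Set (IrrCharacter K)} (he : IsPBlock M e)
    (ϑ : K → ℂ) : blockPart e (regPart p ϑ) = regPart p (blockPart e ϑ) := by
  funext s
  by_cases hs : p ∣ orderOf s
  · rw [regPart_of_dvd _ hs]
    obtain ⟨z, hz⟩ := Cfsg.Agent.Lib.Helper16_BlockOrth.exists_isPPart hM.1 s
    have hz1 : z ≠ 1 := by
      rintro rfl
      obtain ⟨y, hy, _, _, hpy⟩ := hz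
      rw [one_mul] at hy
      rw [hy] at hpy
      exact hpy hs
    refine Cfsg.Agent.Lib.Helper16_BlockOrth.blockPart_eq_zero hM he (regPart p ϑ) z ?_ s z hz
      (IsConj.refl z)
    intro u' z' hu' hzz'
    apply regPart_of_dvd
    apply dvd_orderOf_of_isPPart hM.1 hu'
    rintro rfl
    exact hz1 (isConj_one_left.mp hzz')
  · rw [regPart_of_not_dvd _ hs]
    have h1 : blockPart e (regPart p ϑ - ϑ) s = 0 := by
      refine Cfsg.Agent.Lib.Helper16_BlockOrth.blockPart_eq_zero hM he _ 1 ?_ s 1
        ⟨s, one_mul s, Commute.one_left s, ⟨0, by simp⟩, hs⟩ (IsConj.refl 1)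
      intro u' z' hu' hzz'
      have hz' : z' = 1 := (isConj_one_right.mp hzz')
      subst hz'
      obtain ⟨y, hy, _, _, hpy⟩ := hu'
      rw [one_mul] at hy
      subst hy
      rw [Pi.sub_apply, regPart_of_not_dvd _ hpy, sub_self]
    rw [blockPart_sub, sub_eq_zero] at h1
    exact h1

/-- Parseval for a block projection. -/
theorem sum_blockPart_mul_conj (e : Set (IrrCharacter K)) (α : K → ℂ) :
    ∑ s : K, blockPart e α s * conj (blockPart e α s) =
      (Nat.card K : ℂ) * ∑ ψ ∈ bset e, classInner α (ψ : K → ℂ) *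
        conj (classInner α (ψ : K → ℂ)) := by
  classical
  have hf : blockPart e α = ∑ ψ ∈ bset e, classInner α (ψ : K → ℂ) • (ψ : K → ℂ) := by
    funext s
    rw [blockPart_apply, Finset.sum_apply]
    rfl
  have hK : (Nat.card K : ℂ) ≠ 0 := card_ne_zero_complex
  have h1 : ∑ s : K, blockPart e α s * conj (blockPart e α s) =
      (Nat.card K : ℂ) * classInner (blockPart e α) (blockPart e α) := by
    unfold classInner
    rw [← mul_assoc, mul_inv_cancel₀ hK, one_mul]
  rw [h1]
  congr 1
  rw [hf, classInner_sum_left]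
  refine Finset.sum_congr rfl fun ψ hψ => ?_
  rw [classInner_sum_right, Finset.sum_eq_single ψ]
  · rw [classInner_smul_left, classInner_smul_right, classInner_irr ψ.2 ψ.2, if_pos rfl, mul_one]
  · intro ψ' _ hne
    rw [classInner_smul_left, classInner_smul_right, classInner_irr ψ.2 ψ'.2, if_neg, mul_zero,
      mul_zero]
    intro h
    exact hne (Subtype.ext h.symm)
  · intro h
    exact absurd hψ h

end RegBlock

section Pair

variable {G : Type*} [Group G] [Fintype G] {p : ℕ} {M : Ideal AlgInt}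

/-- If `(Q, e)` is a Brauer pair of `B` with `Q ≤ C_G(Q)`, then `e` induces `B`. -/
theorem isInducedBlock_of_isBrauerPairOf (hM : IsPModular p M) {B : Set (IrrCharacter G)}
    {Q : Subgroup G} (hQC : Q ≤ Subgroup.centralizer (Q : Set G))
    {e : Set (IrrCharacter (Subgroup.centralizer (Q : Set G)))}
    (hBe : IsBrauerPairOf p M B Q e) :
    IsInducedBlock M (Subgroup.centralizer (Q : Set G)) e B := by
  classical
  have hMp := isPrime_of_isPModular hM
  obtain ⟨⟨hQ, he⟩, hB, hom⟩ := hBe
  obtain ⟨B₁, hind⟩ := Cfsg.Agent.Lib.Helper78_BrauerMap.inducedBlockDefined hM hQ hQC le_rfl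
    (Subgroup.centralizer_le_normalizer _) he
  obtain ⟨ξ, hξ⟩ := isPBlock_nonempty hMp he
  obtain ⟨χ₁, hχ₁⟩ := isPBlock_nonempty hMp hind.2.1
  have hcG := Cfsg.Agent.Lib.Helper78_CharFacts.charFacts (G := G)
  have hec : IsClassFunction G (blockCoeff B) :=
    Cfsg.Agent.Lib.Helper78_Osima.blockCoeff_isClassFunction _
  have heR : ∀ g, MemLocalRing M (blockCoeff B g) :=
    Cfsg.Agent.Lib.Helper78_Osima.osima_block hcG hMp hB
  have h1 := (Cfsg.Agent.Lib.Helper78_InducedTrans.isInducedBlock_iff_omega hMp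
    (Subgroup.centralizer (Q : Set G)) he hind.2.1).mp hind ξ hξ χ₁ hχ₁ (blockCoeff B) hec heR
  rw [Cfsg.Agent.Lib.Helper78_Osima.omega_blockCoeff hcG] at h1
  have h2 := hom ξ hξ
  rw [Cfsg.Agent.Lib.Helper78_BrauerPairs.brauerOmega_eq_omega] at h2
  have hmem : χ₁ ∈ B := by
    by_contra hne
    rw [Set.indicator_of_notMem hne, sub_zero] at h1
    have h3 := memLocalIdeal_sub hMp h1 h2
    have h4 : Cfsg.Agent.Lib.Helper78_Osima.omega (ξ : Subgroup.centralizer (Q : Set G) → ℂ)
        (fun h : Subgroup.centralizer (Q : Set G) => blockCoeff B (h : G)) -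
        (Cfsg.Agent.Lib.Helper78_Osima.omega (ξ : Subgroup.centralizer (Q : Set G) → ℂ)
          (Cfsg.Agent.Lib.Helper78_ExtConv.res (Subgroup.centralizer (Q : Set G))
            (blockCoeff B)) - 1) = 1 := by
      show _ - (_ - 1) = (1 : ℂ)
      unfold Cfsg.Agent.Lib.Helper78_ExtConv.res
      ring
    rw [h4] at h3
    exact not_memLocalIdeal_one hMp h3
  have : B₁ = B := isPBlock_eq_of_mem_of_mem hMp hind.2.1 hB hχ₁ hmem
  rw [this] at hind
  exact hind

end Pair

section Main

variable {G : Type*} [Group G] [Fintype G] {p : ℕ} {M : Ideal AlgInt}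
variable (C : Subgroup G) [Fintype C] (u : G) (k : ℕ) (hu : orderOf u = p ^ k)
  (hCu : ∀ c : C, u * (c : G) = (c : G) * u)
  (hcent : Subgroup.centralizer ({u} : Set G) ≤ C)

include hCu in
theorem theta_isClassFunction (χ : IrrCharacter G) : IsClassFunction C (theta C u χ) := by
  intro c d
  have hχc := isClassFunction_of_isIrrCharacter χ.2
  show (χ : G → ℂ) (u * ((d * c * d⁻¹ : C) : G)) = (χ : G → ℂ) (u * (c : G))
  push_cast
  have : u * ((d : G) * (c : G) * (d : G)⁻¹) = (d : G) * (u * (c : G)) * (d : G)⁻¹ := by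
    calc u * ((d : G) * (c : G) * (d : G)⁻¹) = (u * (d : G)) * (c : G) * (d : G)⁻¹ := by group
      _ = ((d : G) * u) * (c : G) * (d : G)⁻¹ := by rw [hCu d]
      _ = (d : G) * (u * (c : G)) * (d : G)⁻¹ := by group
  rw [this, hχc]

include hu hCu hcent in
/-- Brauer's second main theorem for `C = C_G(u)`: the `e`-part of `c ↦ χ(uc)` vanishes on the
`p`-regular elements when `χ ∉ e^G`. -/
theorem blockPart_theta_eq_zero [Fact p.Prime] (hM : IsPModular p M)
    {e : Set (IrrCharacter C)} {B : Set (IrrCharacter G)} (hind : IsInducedBlock M C e B)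
    (χ : IrrCharacter G) (hχ : χ ∉ B) (s : C) (hs : ¬ p ∣ orderOf s) :
    blockPart e (theta C u χ) s = 0 := by
  have huC : u ∈ C := by
    apply hcent
    rw [Subgroup.mem_centralizer_iff]
    intro h hh
    rw [Set.mem_singleton_iff.mp hh]
  rw [Cfsg.Agent.Lib.Helper78_SecondMainChar.blockPart_eq_sum_blockCoeff e
    (theta_isClassFunction C u hCu χ) s]
  have hpart : IsPPart p (u * (s : G)) u := isPPart_mul C u k hu hCu s hs
  have key := Cfsg.Agent.Lib.Helper78_SecondMain.second_main_idempotent hM C e B hind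
    (⟨u, huC⟩ * s) (fun z hz => by
      have hz' : IsPPart p (u * (s : G)) z := hz
      have : u = z := Cfsg.Agent.Lib.Helper78_SecondMainChar.isPPart_unique hM.1 hpart hz'
      rw [← this]
      exact hcent) χ hχ
  rw [← key]
  refine finsum_congr fun c => ?_
  congr 1
  show (χ : G → ℂ) (u * ((c * s : C) : G)) = (χ : G → ℂ) ((c : G) * ((⟨u, huC⟩ * s : C) : G))
  push_cast
  have e1 : u * ((c : G) * (s : G)) = (c : G) * (u * (s : G)) := by
    calc u * ((c : G) * (s : G)) = (u * (c : G)) * (s : G) := by group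
      _ = ((c : G) * u) * (s : G) := by rw [hCu c]
      _ = (c : G) * (u * (s : G)) := by group
  rw [e1]

include hCu in
/-- The `e`-part of `c ↦ χ(u⁻¹c)` at `s⁻¹` is the conjugate of the `e`-part of `c ↦ χ(uc)` at
`s`. -/
theorem blockPart_theta_inv (e : Set (IrrCharacter C)) (χ : IrrCharacter G) (s : C) :
    blockPart e (fun c : C => (χ : G → ℂ) (u⁻¹ * (c : G))) s⁻¹ =
      conj (blockPart e (theta C u χ) s) := by
  rw [blockPart_apply, blockPart_apply, map_sum]
  refine Finset.sum_congr rfl fun ψ _ => ?_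
  rw [map_mul, Cfsg.Agent.Lib.Helper80_CharBasic.irr_inv ψ s]
  congr 1
  rw [classInner_conj_symm]
  unfold classInner
  congr 1
  rw [← Equiv.sum_comp (Equiv.inv C)]
  refine Finset.sum_congr rfl fun c _ => ?_
  rw [Equiv.inv_apply, Cfsg.Agent.Lib.Helper80_CharBasic.irr_inv ψ c, Complex.conj_conj, mul_comm]
  congr 1
  unfold theta
  rw [← Cfsg.Agent.Lib.Helper80_CharBasic.irr_inv χ (u * (c : G)), hCu c, mul_inv_rev]
  show (χ : G → ℂ) (u⁻¹ * ((c⁻¹ : C) : G)) = _
  rw [Subgroup.coe_inv]

include hu hCu hcent in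
/-- **The norms of the columns of a subsection sum to the local block rank.** -/
theorem sum_sum_blockPart_theta [Fact p.Prime] (hM : IsPModular p M)
    {e : Set (IrrCharacter C)} {B : Set (IrrCharacter G)} (hind : IsInducedBlock M C e B) :
    ∑ χ ∈ bset B, ∑ s : C, regPart p (blockPart e (theta C u χ)) s *
        blockPart e (fun c : C => (χ : G → ℂ) (u⁻¹ * (c : G))) s⁻¹ =
      (Nat.card C : ℂ) * (blockRank p e : ℂ) := by
  classical
  have he : IsPBlock M e := hind.1
  -- step a
  have ha : ∀ χ : IrrCharacter G, ∑ s : C, regPart p (blockPart e (theta C u χ)) s *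
        blockPart e (fun c : C => (χ : G → ℂ) (u⁻¹ * (c : G))) s⁻¹ =
      ∑ s : C, blockPart e (regPart p (theta C u χ)) s *
        conj (blockPart e (regPart p (theta C u χ)) s) := by
    intro χ
    refine Finset.sum_congr rfl fun s _ => ?_
    rw [blockPart_regPart hM he]
    by_cases hs : p ∣ orderOf s
    · rw [regPart_of_dvd _ hs, zero_mul, zero_mul]
    · rw [regPart_of_not_dvd _ hs, blockPart_theta_inv C u hCu]
  simp_rw [ha]
  -- step b
  have hb : ∀ χ : IrrCharacter G, χ ∉ bset B → ∑ s : C, blockPart e (regPart p (theta C u χ)) s *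
        conj (blockPart e (regPart p (theta C u χ)) s) = 0 := by
    intro χ hχ
    rw [mem_bset] at hχ
    refine Finset.sum_eq_zero fun s _ => ?_
    rw [blockPart_regPart hM he]
    by_cases hs : p ∣ orderOf s
    · rw [regPart_of_dvd _ hs, zero_mul]
    · rw [regPart_of_not_dvd _ hs, blockPart_theta_eq_zero C u k hu hCu hcent hM hind χ hχ s hs,
        zero_mul]
  rw [Finset.sum_subset (Finset.subset_univ (bset B)) (fun χ _ hχ => hb χ hχ)]
  -- step c
  simp_rw [sum_blockPart_mul_conj]
  rw [← Finset.mul_sum, Finset.sum_comm]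
  congr 1
  simp_rw [sum_coeff_sq C u hM.1 k hu hCu hcent]
  rw [← sum_regInner_self_eq_blockRank hM he]
  unfold bset
  rw [Finset.sum_filter]

end Main

end Cfsg.Agent.Lib.Helper57_Subsection
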