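import Mathlib
import Cfsg.Agent.Lib.Helper57_Subsection

/-!
# The contribution matrix of a subsection and its Frobenius norm (helper57)

Let `u` be a `p`-element of `G`, `C = C_G(u)`, `e` a block of `C` with `e^G = B`.  With
`a(χ, η) = [ϑ_χ°, η]`, `ϑ_χ(c) = χ(uc)`, the matrix `g(χ, ψ) = ∑_{η ∈ e} a(χ, η) conj a(ψ, η)`
(the contribution matrix of the subsection `(u, e)`) vanishes outside `B × B` and satisfies
`∑_{χ, ψ ∈ B} |g(χ, ψ)|² = l(e)`, as it is an idempotent hermitian matrix of rank `l(e)`.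
-/

set_option autoImplicit false
set_option linter.unusedSectionVars false

namespace Cfsg.Agent.Lib.Helper57_ContribMatrix

open Cfsg
open scoped ComplexConjugate
open Cfsg.Agent.Lib.Helper3_CharBridge Cfsg.Agent.Lib.Helper3_CharOrtho
  Cfsg.Agent.Lib.Helper3_CharComplete Cfsg.Agent.Lib.Helper3_CharColumn
  Cfsg.Agent.Lib.Helper75_CharArith Cfsg.Agent.Lib.Helper57_PRegInt
  Cfsg.Agent.Lib.Helper57_HeightZero Cfsg.Agent.Lib.Helper57_BrauerFeit
  Cfsg.Agent.Lib.Helper57_GramTrace Cfsg.Agent.Lib.Helper57_IndBlock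
  Cfsg.Agent.Lib.Helper57_Contribution Cfsg.Agent.Lib.Helper57_Subsection
  Cfsg.Agent.Lib.Helper78_LocalRing Cfsg.Agent.Lib.Helper78_CharFacts

section General

variable {K : Type*} [Group K] [Fintype K] {p : ℕ} {M : Ideal AlgInt}

/-- A double-sum form of `∑_i [F_i, ψ] conj [F_i, ψ']`. -/
theorem sum_inner_mul_eq {ι : Type*} [Fintype ι] (F : ι → K → ℂ) (ψ ψ' : K → ℂ) :
    ∑ i : ι, classInner (F i) ψ * conj (classInner (F i) ψ') =
      ((Nat.card K : ℂ)⁻¹) ^ 2 * ∑ c : K, ∑ c' : K, (conj (ψ c) * ψ' c') *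
        ∑ i : ι, F i c * conj (F i c') := by
  unfold classInner
  have h1 : ∀ i : ι, ((Nat.card K : ℂ)⁻¹ * ∑ g : K, F i g * conj (ψ g)) *
      conj ((Nat.card K : ℂ)⁻¹ * ∑ g : K, F i g * conj (ψ' g)) =
      ((Nat.card K : ℂ)⁻¹) ^ 2 * ∑ c : K, ∑ c' : K, (conj (ψ c) * ψ' c') *
        (F i c * conj (F i c')) := by
    intro i
    rw [map_mul, map_inv₀, map_natCast, map_sum]
    have h2 : (∑ g : K, F i g * conj (ψ g)) * (∑ g : K, conj (F i g * conj (ψ' g))) =
        ∑ c : K, ∑ c' : K, (conj (ψ c) * ψ' c') * (F i c * conj (F i c')) := by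
      rw [Finset.sum_mul_sum]
      refine Finset.sum_congr rfl fun c _ => Finset.sum_congr rfl fun c' _ => ?_
      rw [map_mul, Complex.conj_conj]
      ring
    rw [← h2]
    ring
  simp_rw [h1]
  rw [← Finset.mul_sum]
  congr 1
  rw [Finset.sum_comm]
  refine Finset.sum_congr rfl fun c _ => ?_
  rw [Finset.sum_comm]
  refine Finset.sum_congr rfl fun c' _ => ?_
  rw [Finset.mul_sum]

theorem classInner_regPart_right (α β : K → ℂ) :
    classInner (regPart p α) (regPart p β) = classInner (regPart p α) β := by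
  unfold classInner
  congr 1
  refine Finset.sum_congr rfl fun g _ => ?_
  by_cases h : p ∣ orderOf g
  · rw [regPart_of_dvd _ h, zero_mul, zero_mul]
  · rw [regPart_of_not_dvd _ h, regPart_of_not_dvd _ h]

/-- `∑_η [ζ°, η] conj [ζ'°, η] = [ζ°, ζ']`, the sum over all irreducible characters. -/
theorem sum_regInner_mul (ζ ζ' : IrrCharacter K) :
    ∑ η : IrrCharacter K, classInner (regPart p (ζ : K → ℂ)) (η : K → ℂ) *
        conj (classInner (regPart p (ζ' : K → ℂ)) (η : K → ℂ)) =
      classInner (regPart p (ζ : K → ℂ)) (ζ' : K → ℂ) := by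
  have hcl : IsClassFunction K (regPart p (ζ : K → ℂ)) :=
    regPart_isClassFunction p (isClassFunction_of_isIrrCharacter ζ.2)
  rw [← classInner_regPart_right (p := p) (ζ : K → ℂ) (ζ' : K → ℂ),
    classInner_eq_sum_irr hcl (regPart p (ζ' : K → ℂ))]
  refine Finset.sum_congr rfl fun η _ => ?_
  rw [classInner_conj_symm]

/-- `∑_{η ∈ e} [ζ°, η] conj [ζ'°, η] = [ζ°, ζ']` for `ζ ∈ e`. -/
theorem sum_bset_regInner (hM : IsPModular p M) {e : Set (IrrCharacter K)} (he : IsPBlock M e)
    {ζ : IrrCharacter K} (hζ : ζ ∈ e) (ζ' : IrrCharacter K) :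
    ∑ η ∈ bset e, classInner (regPart p (ζ : K → ℂ)) (η : K → ℂ) *
        conj (classInner (regPart p (ζ' : K → ℂ)) (η : K → ℂ)) =
      classInner (regPart p (ζ : K → ℂ)) (ζ' : K → ℂ) := by
  rw [← sum_regInner_mul (p := p) ζ ζ']
  refine Finset.sum_subset (Finset.subset_univ _) fun η _ hη => ?_
  rw [mem_bset] at hη
  rw [regInner_eq_zero_of_not_mem hM he hζ hη, zero_mul]

/-- `∑_{η ∈ e} [ζ°, η] conj [ζ'°, η] = 0` for `ζ ∉ e`. -/
theorem sum_bset_regInner_of_not_mem_left (hM : IsPModular p M) {e : Set (IrrCharacter K)}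
    (he : IsPBlock M e) {ζ : IrrCharacter K} (hζ : ζ ∉ e) (ζ' : IrrCharacter K) :
    ∑ η ∈ bset e, classInner (regPart p (ζ : K → ℂ)) (η : K → ℂ) *
        conj (classInner (regPart p (ζ' : K → ℂ)) (η : K → ℂ)) = 0 := by
  refine Finset.sum_eq_zero fun η hη => ?_
  rw [mem_bset] at hη
  rw [← regInner_symm (p := p) (η : K → ℂ) (ζ : K → ℂ),
    regInner_eq_zero_of_not_mem hM he hη hζ, map_zero, zero_mul]

/-- `∑_{η ∈ e} [ζ°, η] conj [ζ'°, η] = 0` for `ζ' ∉ e`. -/
theorem sum_bset_regInner_of_not_mem_right (hM : IsPModular p M) {e : Set (IrrCharacter K)}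
    (he : IsPBlock M e) (ζ : IrrCharacter K) {ζ' : IrrCharacter K} (hζ' : ζ' ∉ e) :
    ∑ η ∈ bset e, classInner (regPart p (ζ : K → ℂ)) (η : K → ℂ) *
        conj (classInner (regPart p (ζ' : K → ℂ)) (η : K → ℂ)) = 0 := by
  refine Finset.sum_eq_zero fun η hη => ?_
  rw [mem_bset] at hη
  rw [regInner_symm (p := p) (ζ' : K → ℂ) (η : K → ℂ),
    regInner_eq_zero_of_not_mem hM he hη hζ', mul_zero]

/-- The block projection preserves inner products with the characters of the block. -/
theorem classInner_blockPart {e : Set (IrrCharacter K)} (α : K → ℂ) {η : IrrCharacter K}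
    (hη : η ∈ e) : classInner (blockPart e α) (η : K → ℂ) = classInner α (η : K → ℂ) := by
  classical
  have hf : blockPart e α = ∑ ψ ∈ bset e, classInner α (ψ : K → ℂ) • (ψ : K → ℂ) := by
    funext s
    rw [blockPart_apply, Finset.sum_apply]
    rfl
  rw [hf, classInner_sum_left, Finset.sum_eq_single η]
  · rw [classInner_smul_left, classInner_irr η.2 η.2, if_pos rfl, mul_one]
  · intro ψ _ hne
    rw [classInner_smul_left, classInner_irr ψ.2 η.2, if_neg, mul_zero]
    intro h
    exact hne (Subtype.ext h)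
  · intro h
    exact absurd (mem_bset.mpr hη) h

end General

section Main

variable {G : Type*} [Group G] [Fintype G] {p : ℕ} {M : Ideal AlgInt}
variable (C : Subgroup G) [Fintype C] (u : G) (k : ℕ) (hu : orderOf u = p ^ k)
  (hCu : ∀ c : C, u * (c : G) = (c : G) * u)
  (hcent : Subgroup.centralizer ({u} : Set G) ≤ C)

variable (p) in
/-- The coefficient `a(χ, η) = [ϑ_χ°, η]`. -/
noncomputable def acoef (χ : IrrCharacter G) (η : IrrCharacter C) : ℂ :=
  classInner (regPart p (theta C u χ)) (η : C → ℂ)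

variable (p) in
/-- The contribution matrix `g(χ, ψ) = ∑_{η ∈ e} a(χ, η) conj a(ψ, η)`. -/
noncomputable def gmat (e : Set (IrrCharacter C)) (χ ψ : IrrCharacter G) : ℂ :=
  ∑ η ∈ bset e, acoef p C u χ η * conj (acoef p C u ψ η)

include hu hCu hcent in
/-- `∑_χ a(χ, η) conj a(χ, η') = [η'°, η]`. -/
theorem sum_acoef_mul (hp : p.Prime) (η η' : IrrCharacter C) :
    ∑ χ : IrrCharacter G, acoef p C u χ η * conj (acoef p C u χ η') =
      classInner (regPart p (η' : C → ℂ)) (η : C → ℂ) := by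
  unfold acoef
  rw [sum_inner_mul_eq]
  simp_rw [sum_regPart_theta C u hp k hu hCu hcent]
  rw [← sum_inner_mul_eq (fun η'' : IrrCharacter C => regPart p (η'' : C → ℂ)) (η : C → ℂ)
    (η' : C → ℂ), ← sum_regInner_mul (p := p) η' η]
  refine Finset.sum_congr rfl fun η'' _ => ?_
  rw [regInner_symm (p := p) (η'' : C → ℂ) (η' : C → ℂ),
    regInner_symm (p := p) (η : C → ℂ) (η'' : C → ℂ), mul_comm]

include hu hCu hcent in
/-- The Frobenius norm of the contribution matrix is the `p`-regular rank of the block. -/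
theorem sum_gmat_sq (hM : IsPModular p M) {e : Set (IrrCharacter C)} (he : IsPBlock M e) :
    ∑ χ : IrrCharacter G, ∑ ψ : IrrCharacter G,
        gmat p C u e χ ψ * conj (gmat p C u e χ ψ) = (blockRank p e : ℂ) := by
  classical
  have hp : p.Prime := hM.1
  have h1 : ∀ χ ψ : IrrCharacter G, gmat p C u e χ ψ * conj (gmat p C u e χ ψ) =
      ∑ η ∈ bset e, ∑ η' ∈ bset e, (acoef p C u χ η * conj (acoef p C u χ η')) *
        (acoef p C u ψ η' * conj (acoef p C u ψ η)) := by
    intro χ ψ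
    unfold gmat
    rw [map_sum, Finset.sum_mul_sum]
    refine Finset.sum_congr rfl fun η _ => Finset.sum_congr rfl fun η' _ => ?_
    rw [map_mul, Complex.conj_conj]
    ring
  have h2 : ∀ χ : IrrCharacter G, ∑ ψ : IrrCharacter G,
      gmat p C u e χ ψ * conj (gmat p C u e χ ψ) =
      ∑ η ∈ bset e, ∑ η' ∈ bset e, (acoef p C u χ η * conj (acoef p C u χ η')) *
        classInner (regPart p (η : C → ℂ)) (η' : C → ℂ) := by
    intro χ
    simp_rw [h1]
    rw [Finset.sum_comm]
    refine Finset.sum_congr rfl fun η _ => ?_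
    rw [Finset.sum_comm]
    refine Finset.sum_congr rfl fun η' _ => ?_
    rw [← Finset.mul_sum, sum_acoef_mul C u k hu hCu hcent hp η' η]
  simp_rw [h2]
  rw [Finset.sum_comm]
  have h3 : ∀ η ∈ bset e, ∑ χ : IrrCharacter G, ∑ η' ∈ bset e,
      (acoef p C u χ η * conj (acoef p C u χ η')) *
        classInner (regPart p (η : C → ℂ)) (η' : C → ℂ) =
      classInner (regPart p (η : C → ℂ)) (η : C → ℂ) := by
    intro η hη
    rw [Finset.sum_comm]
    have : ∀ η' ∈ bset e, ∑ χ : IrrCharacter G, (acoef p C u χ η * conj (acoef p C u χ η')) *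
        classInner (regPart p (η : C → ℂ)) (η' : C → ℂ) =
        classInner (regPart p (η : C → ℂ)) (η' : C → ℂ) *
          conj (classInner (regPart p (η : C → ℂ)) (η' : C → ℂ)) := by
      intro η' _
      rw [← Finset.sum_mul, sum_acoef_mul C u k hu hCu hcent hp η η',
        regInner_symm (p := p) (η : C → ℂ) (η' : C → ℂ), mul_comm]
    rw [Finset.sum_congr rfl this]
    exact sum_bset_regInner hM he (mem_bset.mp hη) η
  rw [Finset.sum_congr rfl h3, ← sum_regInner_self_eq_blockRank hM he]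
  unfold bset
  rw [Finset.sum_filter]

include hu hCu hcent in
/-- `a(χ, η) = 0` for `χ ∉ e^G` and `η ∈ e`. -/
theorem acoef_eq_zero [Fact p.Prime] (hM : IsPModular p M)
    {e : Set (IrrCharacter C)} {B : Set (IrrCharacter G)} (hind : IsInducedBlock M C e B)
    {χ : IrrCharacter G} (hχ : χ ∉ B) {η : IrrCharacter C} (hη : η ∈ e) :
    acoef p C u χ η = 0 := by
  unfold acoef
  rw [← classInner_blockPart (e := e) _ hη, blockPart_regPart hM hind.1]
  have : regPart p (blockPart e (theta C u χ)) = 0 := by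
    funext s
    by_cases hs : p ∣ orderOf s
    · rw [regPart_of_dvd _ hs]; rfl
    · rw [regPart_of_not_dvd _ hs, blockPart_theta_eq_zero C u k hu hCu hcent hM hind χ hχ s hs]
      rfl
  rw [this]
  unfold classInner
  simp

include hu hCu hcent in
theorem gmat_eq_zero_left [Fact p.Prime] (hM : IsPModular p M)
    {e : Set (IrrCharacter C)} {B : Set (IrrCharacter G)} (hind : IsInducedBlock M C e B)
    {χ : IrrCharacter G} (hχ : χ ∉ B) (ψ : IrrCharacter G) : gmat p C u e χ ψ = 0 := by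
  unfold gmat
  refine Finset.sum_eq_zero fun η hη => ?_
  rw [acoef_eq_zero C u k hu hCu hcent hM hind hχ (mem_bset.mp hη), zero_mul]

include hu hCu hcent in
theorem gmat_eq_zero_right [Fact p.Prime] (hM : IsPModular p M)
    {e : Set (IrrCharacter C)} {B : Set (IrrCharacter G)} (hind : IsInducedBlock M C e B)
    (χ : IrrCharacter G) {ψ : IrrCharacter G} (hψ : ψ ∉ B) : gmat p C u e χ ψ = 0 := by
  unfold gmat
  refine Finset.sum_eq_zero fun η hη => ?_
  rw [acoef_eq_zero C u k hu hCu hcent hM hind hψ (mem_bset.mp hη), map_zero, mul_zero]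

include hu hCu hcent in
/-- **The contribution matrix of `(u, e)`, restricted to `B = e^G`, has Frobenius norm `l(e)`.** -/
theorem sum_bset_gmat_sq [Fact p.Prime] (hM : IsPModular p M)
    {e : Set (IrrCharacter C)} {B : Set (IrrCharacter G)} (hind : IsInducedBlock M C e B) :
    ∑ χ ∈ bset B, ∑ ψ ∈ bset B,
        gmat p C u e χ ψ * conj (gmat p C u e χ ψ) = (blockRank p e : ℂ) := by
  rw [← sum_gmat_sq C u k hu hCu hcent hM hind.1]
  rw [Finset.sum_subset (Finset.subset_univ (bset B))]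
  · refine Finset.sum_congr rfl fun χ _ => ?_
    refine Finset.sum_subset (Finset.subset_univ (bset B)) fun ψ _ hψ => ?_
    rw [mem_bset] at hψ
    rw [gmat_eq_zero_right C u k hu hCu hcent hM hind χ hψ, zero_mul]
  · intro χ _ hχ
    rw [mem_bset] at hχ
    refine Finset.sum_eq_zero fun ψ _ => ?_
    rw [gmat_eq_zero_left C u k hu hCu hcent hM hind hχ ψ, zero_mul]

end Main

end Cfsg.Agent.Lib.Helper57_ContribMatrix
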