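import Mathlib
import Cfsg.Agent.Lib.Helper57_ContribMatrix

/-!
# Rows and trace of the contribution matrix (helper57)

The contribution matrix `g = gmat p C u e` of a subsection is a hermitian idempotent:
`∑_ψ |g(χ, ψ)|² = g(χ, χ)` (`sum_gmat_row`), its diagonal entries are nonnegative reals
(`gmat_self`), and its trace is `l(e)` (`sum_gmat_self`).
-/

set_option autoImplicit false
set_option linter.unusedSectionVars false

namespace Cfsg.Agent.Lib.Helper57_ContribRow

open Cfsg
open scoped ComplexConjugate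
open Cfsg.Agent.Lib.Helper3_CharBridge Cfsg.Agent.Lib.Helper3_CharOrtho
  Cfsg.Agent.Lib.Helper3_CharComplete Cfsg.Agent.Lib.Helper3_CharColumn
  Cfsg.Agent.Lib.Helper75_CharArith Cfsg.Agent.Lib.Helper57_PRegInt
  Cfsg.Agent.Lib.Helper57_HeightZero Cfsg.Agent.Lib.Helper57_BrauerFeit
  Cfsg.Agent.Lib.Helper57_GramTrace Cfsg.Agent.Lib.Helper57_IndBlock
  Cfsg.Agent.Lib.Helper57_Contribution Cfsg.Agent.Lib.Helper57_Subsection
  Cfsg.Agent.Lib.Helper57_ContribMatrix
  Cfsg.Agent.Lib.Helper78_LocalRing Cfsg.Agent.Lib.Helper78_CharFacts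

section General

variable {K : Type*} [Group K] [Fintype K] {p : ℕ} {M : Ideal AlgInt}

/-- `[α°, η] = ∑_{η'} [α°, η'] [η'°, η]` for a class function `α`. -/
theorem regInner_expand {α : K → ℂ} (hα : IsClassFunction K α) (η : IrrCharacter K) :
    classInner (regPart p α) (η : K → ℂ) = ∑ η' : IrrCharacter K,
      classInner (regPart p α) (η' : K → ℂ) *
        classInner (regPart p (η' : K → ℂ)) (η : K → ℂ) := by
  have hcl : IsClassFunction K (regPart p α) := regPart_isClassFunction p hα
  have h1 := classFunction_eq_sum _ hcl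
  have h2 := congrArg (regPart p) h1
  rw [regPart_regPart, regPart_sum] at h2
  simp_rw [regPart_smul] at h2
  conv_lhs => rw [h2]
  rw [classInner_sum_left]
  refine Finset.sum_congr rfl fun η' _ => ?_
  rw [classInner_smul_left]

/-- The same, with the sum restricted to the block of `η`. -/
theorem regInner_expand_block (hM : IsPModular p M) {e : Set (IrrCharacter K)}
    (he : IsPBlock M e) {α : K → ℂ} (hα : IsClassFunction K α) {η : IrrCharacter K}
    (hη : η ∈ e) :
    classInner (regPart p α) (η : K → ℂ) = ∑ η' ∈ bset e,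
      classInner (regPart p α) (η' : K → ℂ) *
        classInner (regPart p (η' : K → ℂ)) (η : K → ℂ) := by
  rw [regInner_expand hα η]
  symm
  refine Finset.sum_subset (Finset.subset_univ _) fun η' _ hη' => ?_
  rw [mem_bset] at hη'
  rw [← regInner_symm (p := p) (η : K → ℂ) (η' : K → ℂ),
    regInner_eq_zero_of_not_mem hM he hη hη', map_zero, mul_zero]

end General

section Main

variable {G : Type*} [Group G] [Fintype G] {p : ℕ} {M : Ideal AlgInt}
variable (C : Subgroup G) [Fintype C] (u : G) (k : ℕ) (hu : orderOf u = p ^ k)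
  (hCu : ∀ c : C, u * (c : G) = (c : G) * u)
  (hcent : Subgroup.centralizer ({u} : Set G) ≤ C)

/-- The diagonal entries of the contribution matrix are nonnegative reals. -/
theorem gmat_self (e : Set (IrrCharacter C)) (χ : IrrCharacter G) :
    gmat p C u e χ χ = ((∑ η ∈ bset e, Complex.normSq (acoef p C u χ η) : ℝ) : ℂ) := by
  unfold gmat
  push_cast
  refine Finset.sum_congr rfl fun η _ => ?_
  rw [Complex.mul_conj]

include hu hCu hcent in
/-- The trace of the contribution matrix is the `p`-regular rank. -/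
theorem sum_gmat_self (hM : IsPModular p M) {e : Set (IrrCharacter C)} (he : IsPBlock M e) :
    ∑ χ : IrrCharacter G, gmat p C u e χ χ = (blockRank p e : ℂ) := by
  classical
  unfold gmat
  rw [Finset.sum_comm]
  simp_rw [sum_acoef_mul C u k hu hCu hcent hM.1]
  rw [← sum_regInner_self_eq_blockRank hM he]
  unfold bset
  rw [Finset.sum_filter]

include hu hCu hcent in
/-- The trace over `B = e^G`. -/
theorem sum_bset_gmat_self [Fact p.Prime] (hM : IsPModular p M)
    {e : Set (IrrCharacter C)} {B : Set (IrrCharacter G)} (hind : IsInducedBlock M C e B) :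
    ∑ χ ∈ bset B, gmat p C u e χ χ = (blockRank p e : ℂ) := by
  rw [← sum_gmat_self C u k hu hCu hcent hM hind.1]
  refine Finset.sum_subset (Finset.subset_univ _) fun χ _ hχ => ?_
  rw [mem_bset] at hχ
  exact gmat_eq_zero_left C u k hu hCu hcent hM hind hχ χ

include hu hCu hcent in
/-- The contribution matrix is idempotent and hermitian: `∑_ψ |g(χ, ψ)|² = g(χ, χ)`. -/
theorem sum_gmat_row (hM : IsPModular p M) {e : Set (IrrCharacter C)} (he : IsPBlock M e)
    (χ : IrrCharacter G) :
    ∑ ψ : IrrCharacter G, gmat p C u e χ ψ * conj (gmat p C u e χ ψ) = gmat p C u e χ χ := by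
  classical
  have hp : p.Prime := hM.1
  have h1 : ∀ ψ : IrrCharacter G, gmat p C u e χ ψ * conj (gmat p C u e χ ψ) =
      ∑ η ∈ bset e, ∑ η' ∈ bset e, (acoef p C u χ η * conj (acoef p C u χ η')) *
        (acoef p C u ψ η' * conj (acoef p C u ψ η)) := by
    intro ψ
    unfold gmat
    rw [map_sum, Finset.sum_mul_sum]
    refine Finset.sum_congr rfl fun η _ => Finset.sum_congr rfl fun η' _ => ?_
    rw [map_mul, Complex.conj_conj]
    ring
  simp_rw [h1]
  rw [Finset.sum_comm]
  unfold gmat
  refine Finset.sum_congr rfl fun η hη => ?_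
  rw [Finset.sum_comm]
  have h2 : ∀ η' ∈ bset e, ∑ ψ : IrrCharacter G, (acoef p C u χ η * conj (acoef p C u χ η')) *
        (acoef p C u ψ η' * conj (acoef p C u ψ η)) =
      acoef p C u χ η * (conj (acoef p C u χ η') *
        classInner (regPart p (η : C → ℂ)) (η' : C → ℂ)) := by
    intro η' _
    rw [← Finset.mul_sum, sum_acoef_mul C u k hu hCu hcent hp η' η]
    ring
  rw [Finset.sum_congr rfl h2, ← Finset.mul_sum]
  congr 1
  -- `∑_{η'} conj a(χ, η') [η°, η'] = conj a(χ, η)`
  have h3 := regInner_expand_block hM he (theta_isClassFunction C u hCu χ) (mem_bset.mp hη)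
  have h4 : acoef p C u χ η = ∑ η' ∈ bset e, acoef p C u χ η' *
      classInner (regPart p (η' : C → ℂ)) (η : C → ℂ) := h3
  conv_rhs => rw [h4]
  rw [map_sum]
  refine Finset.sum_congr rfl fun η' _ => ?_
  rw [map_mul, regInner_symm (p := p) (η' : C → ℂ) (η : C → ℂ)]

end Main

end Cfsg.Agent.Lib.Helper57_ContribRow
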