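import Mathlib
import Cfsg.Agent.Lib.Helper57_ContribMatrix
import Cfsg.Agent.Lib.Helper57_BrouePuig

/-!
# Contribution matrices of powers of a central `p`-element (helper57)

Let `C ≤ G`, `y ∈ Z(C)` a `p`-element, `b` a block of `C` with `b^G = B`.  For `χ, ψ ∈ B` of
height zero, `p^{d(b)}` times the `(χ, ψ)` entry of the contribution matrix of `(y^j, b)` is
`∑_{ζ, ζ' ∈ b} W(ζ, ζ') (c_ζ conj c_ζ')^j`, where `c_ζ` is the root of unity by which `y` acts in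
`ζ`, and the `W(ζ, ζ')` are integers (independent of `j`) whose sum is not divisible by `p`.
-/

set_option autoImplicit false
set_option linter.unusedSectionVars false

namespace Cfsg.Agent.Lib.Helper57_MajorNonvanish

open Cfsg
open scoped ComplexConjugate
open Cfsg.Agent.Lib.Helper3_CharBridge Cfsg.Agent.Lib.Helper3_CharOrtho
  Cfsg.Agent.Lib.Helper3_CharComplete Cfsg.Agent.Lib.Helper3_CharColumn
  Cfsg.Agent.Lib.Helper75_CharArith Cfsg.Agent.Lib.Helper57_PRegInt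
  Cfsg.Agent.Lib.Helper57_HeightZero Cfsg.Agent.Lib.Helper57_BrauerFeit
  Cfsg.Agent.Lib.Helper57_GramTrace Cfsg.Agent.Lib.Helper57_IndBlock
  Cfsg.Agent.Lib.Helper57_Contribution Cfsg.Agent.Lib.Helper57_Subsection
  Cfsg.Agent.Lib.Helper57_ContribMatrix Cfsg.Agent.Lib.Helper57_BrouePuig
  Cfsg.Agent.Lib.Helper78_LocalRing Cfsg.Agent.Lib.Helper78_CharFacts
  Cfsg.Agent.Lib.Helper77_BlockBasics

/-- The arithmetic heart: the sum of the weights is a `p`-adic unit. -/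
theorem arith_nonvanish {ι : Type*} (s : Finset ι) {p : ℕ} (hp : p.Prime) (v : ℕ)
    (m : ℤ) (deg δ : ι → ℤ) (rr NNf w0 : ι → ι → ℤ) (nχ nψ : ι → ℤ)
    (ξ₀ : ι) (hξ₀ : ξ₀ ∈ s)
    (h1 : ∀ ζ ∈ s, ∀ ζ' ∈ s, rr ζ ζ' * deg ζ = m * NNf ζ ζ')
    (h2 : ∀ ζ ∈ s, deg ζ = (p : ℤ) ^ v * δ ζ)
    (h3 : ∀ ζ ∈ s, ∀ ζ' ∈ s, NNf ζ ζ' = (p : ℤ) ^ v * w0 ζ ζ')
    (h4 : ∀ ζ ∈ s, ∀ ζ' ∈ s, (p : ℤ) ∣ rr ζ ζ' - rr ξ₀ ζ')
    (h5 : ∀ ζ ∈ s, ∀ ζ' ∈ s, NNf ζ ζ' = NNf ζ' ζ)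
    (h7 : ¬ (p : ℤ) ∣ δ ξ₀)
    (rχ rψ : ℤ) (hrχ : ¬ (p : ℤ) ∣ rχ) (hrψ : ¬ (p : ℤ) ∣ rψ)
    (h6χ : rχ * deg ξ₀ = m * ∑ ξ ∈ s, nχ ξ * NNf ξ₀ ξ)
    (h6ψ : rψ * deg ξ₀ = m * ∑ ξ ∈ s, nψ ξ * NNf ξ₀ ξ) :
    ¬ (p : ℤ) ∣ ∑ ζ ∈ s, ∑ ζ' ∈ s, nχ ζ * nψ ζ' * w0 ζ ζ' := by
  have hpi : Prime (p : ℤ) := Nat.prime_iff_prime_int.mp hp
  have hpv : ((p : ℤ)) ^ v ≠ 0 := pow_ne_zero _ hpi.ne_zero
  have hδ0 : δ ξ₀ ≠ 0 := by
    intro h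
    apply h7
    rw [h]
    exact dvd_zero _
  have hdeg0 : deg ξ₀ ≠ 0 := by
    rw [h2 ξ₀ hξ₀]
    exact mul_ne_zero hpv hδ0
  -- Step 1
  have hterm : ∀ ζ ∈ s, ∀ ζ' ∈ s, m * w0 ζ ζ' = rr ζ ζ' * δ ζ := by
    intro ζ hζ ζ' hζ'
    apply mul_left_cancel₀ hpv
    calc (p : ℤ) ^ v * (m * w0 ζ ζ') = m * ((p : ℤ) ^ v * w0 ζ ζ') := by ring
      _ = m * NNf ζ ζ' := by rw [h3 ζ hζ ζ' hζ']
      _ = rr ζ ζ' * deg ζ := (h1 ζ hζ ζ' hζ').symm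
      _ = (p : ℤ) ^ v * (rr ζ ζ' * δ ζ) := by rw [h2 ζ hζ]; ring
  have hstep1 : m * ∑ ζ ∈ s, ∑ ζ' ∈ s, nχ ζ * nψ ζ' * w0 ζ ζ' =
      ∑ ζ ∈ s, ∑ ζ' ∈ s, nχ ζ * nψ ζ' * (rr ζ ζ' * δ ζ) := by
    rw [Finset.mul_sum]
    refine Finset.sum_congr rfl fun ζ hζ => ?_
    rw [Finset.mul_sum]
    refine Finset.sum_congr rfl fun ζ' hζ' => ?_
    rw [← hterm ζ hζ ζ' hζ']
    ring
  -- Step 2
  have hstep2 : ∑ ζ' ∈ s, nψ ζ' * rr ξ₀ ζ' = rψ := by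
    apply mul_right_cancel₀ hdeg0
    rw [h6ψ, Finset.sum_mul, Finset.mul_sum]
    refine Finset.sum_congr rfl fun ξ hξ => ?_
    calc nψ ξ * rr ξ₀ ξ * deg ξ₀ = nψ ξ * (rr ξ₀ ξ * deg ξ₀) := by ring
      _ = nψ ξ * (m * NNf ξ₀ ξ) := by rw [h1 ξ₀ hξ₀ ξ hξ]
      _ = m * (nψ ξ * NNf ξ₀ ξ) := by ring
  -- Step 3
  have hstep3 : rχ * δ ξ₀ = ∑ ξ ∈ s, nχ ξ * (rr ξ ξ₀ * δ ξ) := by
    apply mul_left_cancel₀ hpv
    calc (p : ℤ) ^ v * (rχ * δ ξ₀) = rχ * deg ξ₀ := by rw [h2 ξ₀ hξ₀]; ring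
      _ = m * ∑ ξ ∈ s, nχ ξ * NNf ξ₀ ξ := h6χ
      _ = ∑ ξ ∈ s, (p : ℤ) ^ v * (nχ ξ * (rr ξ ξ₀ * δ ξ)) := by
        rw [Finset.mul_sum]
        refine Finset.sum_congr rfl fun ξ hξ => ?_
        calc m * (nχ ξ * NNf ξ₀ ξ) = nχ ξ * (m * NNf ξ ξ₀) := by rw [h5 ξ₀ hξ₀ ξ hξ]; ring
          _ = nχ ξ * (rr ξ ξ₀ * deg ξ) := by rw [h1 ξ hξ ξ₀ hξ₀]
          _ = (p : ℤ) ^ v * (nχ ξ * (rr ξ ξ₀ * δ ξ)) := by rw [h2 ξ hξ]; ring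
      _ = (p : ℤ) ^ v * ∑ ξ ∈ s, nχ ξ * (rr ξ ξ₀ * δ ξ) := by rw [Finset.mul_sum]
  -- Step 4
  have hD : ¬ (p : ℤ) ∣ ∑ ξ ∈ s, nχ ξ * δ ξ := by
    intro hdiv
    have hdiff : (p : ℤ) ∣ ∑ ξ ∈ s, nχ ξ * (rr ξ ξ₀ * δ ξ) -
        rr ξ₀ ξ₀ * ∑ ξ ∈ s, nχ ξ * δ ξ := by
      rw [Finset.mul_sum, ← Finset.sum_sub_distrib]
      refine Finset.dvd_sum fun ξ hξ => ?_
      have : nχ ξ * (rr ξ ξ₀ * δ ξ) - rr ξ₀ ξ₀ * (nχ ξ * δ ξ) =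
          (rr ξ ξ₀ - rr ξ₀ ξ₀) * (nχ ξ * δ ξ) := by ring
      rw [this]
      exact Dvd.dvd.mul_right (h4 ξ hξ ξ₀ hξ₀) _
    have h8 : (p : ℤ) ∣ rχ * δ ξ₀ := by
      rw [hstep3]
      have := dvd_add hdiff (Dvd.dvd.mul_left hdiv (rr ξ₀ ξ₀))
      rwa [sub_add_cancel] at this
    rcases hpi.dvd_or_dvd h8 with h | h
    · exact hrχ h
    · exact h7 h
  -- Step 5
  intro hT
  have hdiff : (p : ℤ) ∣ ∑ ζ ∈ s, ∑ ζ' ∈ s, nχ ζ * nψ ζ' * (rr ζ ζ' * δ ζ) -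
      (∑ ξ ∈ s, nχ ξ * δ ξ) * ∑ ζ' ∈ s, nψ ζ' * rr ξ₀ ζ' := by
    rw [Finset.sum_mul, ← Finset.sum_sub_distrib]
    refine Finset.dvd_sum fun ζ hζ => ?_
    rw [Finset.mul_sum, ← Finset.sum_sub_distrib]
    refine Finset.dvd_sum fun ζ' hζ' => ?_
    have : nχ ζ * nψ ζ' * (rr ζ ζ' * δ ζ) - nχ ζ * δ ζ * (nψ ζ' * rr ξ₀ ζ') =
        (rr ζ ζ' - rr ξ₀ ζ') * (nχ ζ * nψ ζ' * δ ζ) := by ring
    rw [this]
    exact Dvd.dvd.mul_right (h4 ζ hζ ζ' hζ') _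
  rw [← hstep1, hstep2] at hdiff
  have h9 : (p : ℤ) ∣ (∑ ξ ∈ s, nχ ξ * δ ξ) * rψ := by
    have := dvd_sub (Dvd.dvd.mul_left hT m) hdiff
    rwa [sub_sub_cancel] at this
  rcases hpi.dvd_or_dvd h9 with h | h
  · exact hD h
  · exact hrψ h

section Expand

variable {G : Type*} [Group G] [Fintype G] {p : ℕ} {M : Ideal AlgInt}
variable (C : Subgroup G) [Fintype C] (y : G) (hyC : y ∈ C)
  (cc : IrrCharacter C → ℂ)
  (hcc : ∀ (ζ : IrrCharacter C) (a : C), (ζ : C → ℂ) (⟨y, hyC⟩ * a) = cc ζ * (ζ : C → ℂ) a)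
  (nn : IrrCharacter G → IrrCharacter C → ℕ)
  (hnn : ∀ χ : IrrCharacter G, (fun c : C => (χ : G → ℂ) (c : G)) =
    ∑ ζ : IrrCharacter C, (nn χ ζ : ℂ) • (ζ : C → ℂ))

include hcc in
theorem irr_pow_mul (ζ : IrrCharacter C) (j : ℕ) (a : C) :
    (ζ : C → ℂ) ((⟨y, hyC⟩ : C) ^ j * a) = cc ζ ^ j * (ζ : C → ℂ) a := by
  induction j generalizing a with
  | zero => simp
  | succ j ih => rw [pow_succ, mul_assoc, ih, hcc, pow_succ]; ring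

include hcc hnn in
theorem theta_pow_eq (χ : IrrCharacter G) (j : ℕ) :
    theta C (y ^ j) χ = ∑ ζ : IrrCharacter C, ((nn χ ζ : ℂ) * cc ζ ^ j) • (ζ : C → ℂ) := by
  funext c
  have h1 := congrFun (hnn χ) ((⟨y, hyC⟩ : C) ^ j * c)
  simp only [Finset.sum_apply, Pi.smul_apply, smul_eq_mul] at h1 ⊢
  have h2 : (((⟨y, hyC⟩ : C) ^ j * c : C) : G) = y ^ j * (c : G) := by
    push_cast
    rfl
  rw [h2] at h1
  show (χ : G → ℂ) (y ^ j * (c : G)) = _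
  rw [h1]
  refine Finset.sum_congr rfl fun ζ _ => ?_
  rw [irr_pow_mul C y hyC cc hcc ζ j c]
  ring

include hcc hnn in
theorem acoef_pow_eq (χ : IrrCharacter G) (η : IrrCharacter C) (j : ℕ) :
    acoef p C (y ^ j) χ η = ∑ ζ : IrrCharacter C, ((nn χ ζ : ℂ) * cc ζ ^ j) *
      classInner (regPart p (ζ : C → ℂ)) (η : C → ℂ) := by
  unfold acoef
  rw [theta_pow_eq C y hyC cc hcc nn hnn χ j, regPart_sum, classInner_sum_left]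
  refine Finset.sum_congr rfl fun ζ _ => ?_
  rw [regPart_smul, classInner_smul_left]

include hcc hnn in
theorem gmat_pow_eq (hM : IsPModular p M) {e : Set (IrrCharacter C)} (he : IsPBlock M e)
    (χ ψ : IrrCharacter G) (j : ℕ) :
    gmat p C (y ^ j) e χ ψ = ∑ ζ ∈ bset e, ∑ ζ' ∈ bset e,
      ((nn χ ζ : ℂ) * (nn ψ ζ' : ℂ)) * (cc ζ * conj (cc ζ')) ^ j *
        classInner (regPart p (ζ : C → ℂ)) (ζ' : C → ℂ) := by
  classical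
  unfold gmat
  simp_rw [acoef_pow_eq C y hyC cc hcc nn hnn]
  have h1 : ∀ η : IrrCharacter C,
      (∑ ζ : IrrCharacter C, ((nn χ ζ : ℂ) * cc ζ ^ j) *
        classInner (regPart p (ζ : C → ℂ)) (η : C → ℂ)) *
      conj (∑ ζ : IrrCharacter C, ((nn ψ ζ : ℂ) * cc ζ ^ j) *
        classInner (regPart p (ζ : C → ℂ)) (η : C → ℂ)) =
      ∑ ζ : IrrCharacter C, ∑ ζ' : IrrCharacter C,
        (((nn χ ζ : ℂ) * (nn ψ ζ' : ℂ)) * (cc ζ * conj (cc ζ')) ^ j) *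
          (classInner (regPart p (ζ : C → ℂ)) (η : C → ℂ) *
            conj (classInner (regPart p (ζ' : C → ℂ)) (η : C → ℂ))) := by
    intro η
    rw [map_sum, Finset.sum_mul_sum]
    refine Finset.sum_congr rfl fun ζ _ => Finset.sum_congr rfl fun ζ' _ => ?_
    rw [map_mul, map_mul, map_pow, map_natCast, mul_pow]
    ring
  simp_rw [h1]
  rw [Finset.sum_comm]
  have h2 : ∀ ζ : IrrCharacter C, ∑ η ∈ bset e, ∑ ζ' : IrrCharacter C,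
        (((nn χ ζ : ℂ) * (nn ψ ζ' : ℂ)) * (cc ζ * conj (cc ζ')) ^ j) *
          (classInner (regPart p (ζ : C → ℂ)) (η : C → ℂ) *
            conj (classInner (regPart p (ζ' : C → ℂ)) (η : C → ℂ))) =
      ∑ ζ' : IrrCharacter C, (((nn χ ζ : ℂ) * (nn ψ ζ' : ℂ)) * (cc ζ * conj (cc ζ')) ^ j) *
        ∑ η ∈ bset e, classInner (regPart p (ζ : C → ℂ)) (η : C → ℂ) *
            conj (classInner (regPart p (ζ' : C → ℂ)) (η : C → ℂ)) := by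
    intro ζ
    rw [Finset.sum_comm]
    refine Finset.sum_congr rfl fun ζ' _ => ?_
    rw [Finset.mul_sum]
  simp_rw [h2]
  have hA : ∀ ζ : IrrCharacter C, ζ ∉ bset e → ∑ ζ' : IrrCharacter C,
      (((nn χ ζ : ℂ) * (nn ψ ζ' : ℂ)) * (cc ζ * conj (cc ζ')) ^ j) *
        ∑ η ∈ bset e, classInner (regPart p (ζ : C → ℂ)) (η : C → ℂ) *
            conj (classInner (regPart p (ζ' : C → ℂ)) (η : C → ℂ)) = 0 := by
    intro ζ hζ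
    rw [mem_bset] at hζ
    refine Finset.sum_eq_zero fun ζ' _ => ?_
    rw [sum_bset_regInner_of_not_mem_left hM he hζ ζ', mul_zero]
  have hB : ∀ ζ ∈ bset e, ∑ ζ' : IrrCharacter C,
      (((nn χ ζ : ℂ) * (nn ψ ζ' : ℂ)) * (cc ζ * conj (cc ζ')) ^ j) *
        ∑ η ∈ bset e, classInner (regPart p (ζ : C → ℂ)) (η : C → ℂ) *
            conj (classInner (regPart p (ζ' : C → ℂ)) (η : C → ℂ)) =
      ∑ ζ' ∈ bset e, ((nn χ ζ : ℂ) * (nn ψ ζ' : ℂ)) * (cc ζ * conj (cc ζ')) ^ j *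
        classInner (regPart p (ζ : C → ℂ)) (ζ' : C → ℂ) := by
    intro ζ hζ
    rw [mem_bset] at hζ
    rw [← Finset.sum_subset (Finset.subset_univ (bset e))]
    · refine Finset.sum_congr rfl fun ζ' _ => ?_
      rw [sum_bset_regInner hM he hζ ζ']
    · intro ζ' _ hζ'
      rw [mem_bset] at hζ'
      rw [sum_bset_regInner_of_not_mem_right hM he ζ hζ', mul_zero]
  rw [← Finset.sum_subset (Finset.subset_univ (bset e)) (fun ζ _ hζ => hA ζ hζ)]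
  exact Finset.sum_congr rfl hB

end Expand

section Final

variable {G : Type*} [Group G] [Fintype G] {p : ℕ} {M : Ideal AlgInt}
variable (C : Subgroup G) [Fintype C] (y : G) (hyC : y ∈ C)
  (cc : IrrCharacter C → ℂ)
  (hcc : ∀ (ζ : IrrCharacter C) (a : C), (ζ : C → ℂ) (⟨y, hyC⟩ * a) = cc ζ * (ζ : C → ℂ) a)
  (nn : IrrCharacter G → IrrCharacter C → ℕ)
  (hnn1 : ∀ (χ : IrrCharacter G) (ζ : IrrCharacter C),
    classInner (fun c : C => (χ : G → ℂ) (c : G)) (ζ : C → ℂ) = nn χ ζ)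
  (hnn : ∀ χ : IrrCharacter G, (fun c : C => (χ : G → ℂ) (c : G)) =
    ∑ ζ : IrrCharacter C, (nn χ ζ : ℂ) • (ζ : C → ℂ))

include hcc hnn1 hnn in
/-- **Cyclotomic decomposition of the contribution matrices of a major subsection.** -/
theorem exists_cyc_decomp (hp : p.Prime) (hM : IsPModular p M) (hIG : RegInt G p)
    (hIC : RegInt C p) {b : Set (IrrCharacter C)} {B : Set (IrrCharacter G)}
    (hind : IsInducedBlock M C b B) {χ ψ : IrrCharacter G} (hχ : χ ∈ B) (hψ : ψ ∈ B)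
    (h0χ : blockHeight p B (χ : G → ℂ) = 0) (h0ψ : blockHeight p B (ψ : G → ℂ) = 0) :
    ∃ W : IrrCharacter C × IrrCharacter C → ℤ,
      ¬ (p : ℤ) ∣ ∑ i ∈ bset b ×ˢ bset b, W i ∧
      ∀ j : ℕ, ((p : ℂ) ^ blockDefect p b) * gmat p C (y ^ j) b χ ψ =
        ∑ i ∈ bset b ×ˢ bset b, (W i : ℂ) * (cc i.1 * conj (cc i.2)) ^ j := by
  classical
  have hpi : Prime (p : ℤ) := Nat.prime_iff_prime_int.mp hp
  have he : IsPBlock M b := hind.1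
  have hM' := isPrime_of_isPModular hM
  obtain ⟨ξ₀, hξ₀, h0ξ₀⟩ := exists_height_zero_mem (p := p) (isPBlock_nonempty hM' he)
  set v : ℕ := h0 p b with hv
  have hpv : ((p : ℤ)) ^ v ≠ 0 := pow_ne_zero _ hpi.ne_zero
  -- divisibility of degrees and of the `NN`
  have hvle : ∀ ζ ∈ b, v ≤ (charDegree (ζ : C → ℂ)).factorization p := fun ζ hζ => h0_le hζ
  have hdegdvd : ∀ ζ ∈ b, ((p : ℤ)) ^ v ∣ (charDegree (ζ : C → ℂ) : ℤ) := by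
    intro ζ hζ
    have h1 : p ^ v ∣ p ^ (charDegree (ζ : C → ℂ)).factorization p := pow_dvd_pow p (hvle ζ hζ)
    have h2 : p ^ (charDegree (ζ : C → ℂ)).factorization p ∣ charDegree (ζ : C → ℂ) :=
      Nat.ordProj_dvd _ p
    exact_mod_cast h1.trans h2
  have hNNdvd : ∀ ζ ∈ b, ∀ ζ' : IrrCharacter C, ((p : ℤ)) ^ v ∣ NN hIC ζ ζ' := by
    intro ζ hζ ζ'
    exact (pow_dvd_pow (p : ℤ) (hvle ζ hζ)).trans (pow_dvd_NN hp hIC ζ ζ')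
  set δ : IrrCharacter C → ℤ := fun ζ => (charDegree (ζ : C → ℂ) : ℤ) / (p : ℤ) ^ v with hδ
  set w0 : IrrCharacter C → IrrCharacter C → ℤ := fun ζ ζ' => NN hIC ζ ζ' / (p : ℤ) ^ v with hw0
  have h2 : ∀ ζ ∈ bset b, (charDegree (ζ : C → ℂ) : ℤ) = (p : ℤ) ^ v * δ ζ := by
    intro ζ hζ
    exact (Int.mul_ediv_cancel' (hdegdvd ζ (mem_bset.mp hζ))).symm
  have h3 : ∀ ζ ∈ bset b, ∀ ζ' ∈ bset b, NN hIC ζ ζ' = (p : ℤ) ^ v * w0 ζ ζ' := by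
    intro ζ hζ ζ' _
    exact (Int.mul_ediv_cancel' (hNNdvd ζ (mem_bset.mp hζ) ζ')).symm
  have h7 : ¬ (p : ℤ) ∣ δ ξ₀ := by
    intro hdiv
    have hval : (charDegree (ξ₀ : C → ℂ)).factorization p = v := by
      rw [val_eq_h0_add hξ₀, h0ξ₀, add_zero]
    have h4 : ((p : ℤ)) ^ (v + 1) ∣ (charDegree (ξ₀ : C → ℂ) : ℤ) := by
      rw [h2 ξ₀ (mem_bset.mpr hξ₀), pow_succ]
      exact mul_dvd_mul_left _ hdiv
    have h5 : p ^ (v + 1) ∣ charDegree (ξ₀ : C → ℂ) := by exact_mod_cast h4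
    have h6 := Nat.pow_succ_factorization_not_dvd (charDegree_pos ξ₀).ne' hp
    rw [hval] at h6
    exact h6 h5
  -- Blau's congruence for `χ` and `ψ`
  have hblau : ∀ φ : IrrCharacter G, φ ∈ B → blockHeight p B (φ : G → ℂ) = 0 →
      ∃ r : ℤ, ¬ (p : ℤ) ∣ r ∧ r * (charDegree (ξ₀ : C → ℂ) : ℤ) =
        (mPrime C p : ℤ) * ∑ ξ ∈ bset b, ((nn φ ξ : ℕ) : ℤ) * NN hIC ξ₀ ξ := by
    intro φ hφ h0φ
    obtain ⟨r, hr, hreq⟩ := exists_unit_mul_deg hp hM C hIG hIC hind hφ h0φ (nn φ)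
      (fun ξ => hnn1 φ ξ) hξ₀
    refine ⟨r, hr, ?_⟩
    rw [hreq]
    congr 1
    symm
    refine Finset.sum_subset (Finset.subset_univ _) fun ξ _ hξ => ?_
    rw [mem_bset] at hξ
    rw [NN_eq_zero_of_not_mem hM he hIC hξ₀ hξ, mul_zero]
  obtain ⟨rχ, hrχ, h6χ⟩ := hblau χ hχ h0χ
  obtain ⟨rψ, hrψ, h6ψ⟩ := hblau ψ hψ h0ψ
  have hmain := arith_nonvanish (bset b) hp v (mPrime C p : ℤ)
    (fun ζ => (charDegree (ζ : C → ℂ) : ℤ)) δ (fun ζ ζ' => rr hIC ζ ζ') (fun ζ ζ' => NN hIC ζ ζ')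
    w0 (fun ζ => ((nn χ ζ : ℕ) : ℤ)) (fun ζ => ((nn ψ ζ : ℕ) : ℤ)) ξ₀ (mem_bset.mpr hξ₀)
    (fun ζ _ ζ' _ => rr_mul hIC ζ ζ') h2 h3
    (fun ζ hζ ζ' _ => rr_congr hM he hIC (mem_bset.mp hζ) hξ₀ ζ')
    (fun ζ _ ζ' _ => NN_symm hIC ζ ζ') h7 rχ rψ hrχ hrψ h6χ h6ψ
  refine ⟨fun i => ((nn χ i.1 : ℕ) : ℤ) * ((nn ψ i.2 : ℕ) : ℤ) * w0 i.1 i.2, ?_, ?_⟩
  · rw [Finset.sum_product]
    exact hmain
  · intro j
    rw [gmat_pow_eq C y hyC cc hcc nn hnn hM he χ ψ j, Finset.sum_product, Finset.mul_sum]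
    refine Finset.sum_congr rfl fun ζ hζ => ?_
    rw [Finset.mul_sum]
    refine Finset.sum_congr rfl fun ζ' hζ' => ?_
    have hspec := NN_spec hIC ζ ζ'
    have hadd : v + blockDefect p b = (Nat.card C).factorization p :=
      h0_add_defect (mem_bset.mp hζ)
    have hw : ((p : ℂ) ^ blockDefect p b) * classInner (regPart p (ζ : C → ℂ)) (ζ' : C → ℂ) =
        (w0 ζ ζ' : ℂ) := by
      have hpc : ((p : ℂ)) ^ v ≠ 0 := pow_ne_zero _ (by exact_mod_cast hp.ne_zero)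
      apply mul_left_cancel₀ hpc
      rw [← mul_assoc, ← pow_add, hadd]
      have : ((p : ℂ)) ^ (Nat.card C).factorization p =
          ((p ^ (Nat.card C).factorization p : ℕ) : ℂ) := by push_cast; rfl
      rw [this, hspec, h3 ζ hζ ζ' hζ']
      push_cast
      rfl
    push_cast
    calc (p : ℂ) ^ blockDefect p b * ((nn χ ζ : ℂ) * (nn ψ ζ' : ℂ) * (cc ζ * conj (cc ζ')) ^ j *
          classInner (regPart p (ζ : C → ℂ)) (ζ' : C → ℂ)) =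
        (nn χ ζ : ℂ) * (nn ψ ζ' : ℂ) * (cc ζ * conj (cc ζ')) ^ j *
          ((p : ℂ) ^ blockDefect p b * classInner (regPart p (ζ : C → ℂ)) (ζ' : C → ℂ)) := by
          ring
      _ = _ := by rw [hw]; ring

end Final

end Cfsg.Agent.Lib.Helper57_MajorNonvanish
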