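import Mathlib
import Cfsg.Agent.Lib.Helper57_MajorNonvanish

/-!
# Explicit cyclotomic decomposition of contribution matrices (helper57)

A version of `Helper57_MajorNonvanish.exists_cyc_decomp` with a uniform symmetric weight function
`w0` on `Irr(C) × Irr(C)`: `p^{d(b)} g_j(χ, ψ) = ∑_{ζ, ζ' ∈ b} n_χζ n_ψζ' w0(ζ, ζ') (c_ζ conj c_ζ')^j`
for all `χ, ψ, j`, and `p ∤ ∑ n_χζ n_ψζ' w0(ζ, ζ')` when `χ, ψ ∈ B` have height zero.
-/

set_option autoImplicit false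
set_option linter.unusedSectionVars false

namespace Cfsg.Agent.Lib.Helper57_CycDecomp

open Cfsg
open scoped ComplexConjugate
open Cfsg.Agent.Lib.Helper3_CharBridge Cfsg.Agent.Lib.Helper3_CharOrtho
  Cfsg.Agent.Lib.Helper3_CharComplete Cfsg.Agent.Lib.Helper3_CharColumn
  Cfsg.Agent.Lib.Helper75_CharArith Cfsg.Agent.Lib.Helper57_PRegInt
  Cfsg.Agent.Lib.Helper57_HeightZero Cfsg.Agent.Lib.Helper57_BrauerFeit
  Cfsg.Agent.Lib.Helper57_GramTrace Cfsg.Agent.Lib.Helper57_IndBlock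
  Cfsg.Agent.Lib.Helper57_Contribution Cfsg.Agent.Lib.Helper57_Subsection
  Cfsg.Agent.Lib.Helper57_ContribMatrix Cfsg.Agent.Lib.Helper57_BrouePuig
  Cfsg.Agent.Lib.Helper57_MajorNonvanish
  Cfsg.Agent.Lib.Helper78_LocalRing Cfsg.Agent.Lib.Helper78_CharFacts
  Cfsg.Agent.Lib.Helper77_BlockBasics

variable {G : Type*} [Group G] [Fintype G] {p : ℕ} {M : Ideal AlgInt}
variable (C : Subgroup G) [Fintype C] (y : G) (hyC : y ∈ C)
  (cc : IrrCharacter C → ℂ)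
  (hcc : ∀ (ζ : IrrCharacter C) (a : C), (ζ : C → ℂ) (⟨y, hyC⟩ * a) = cc ζ * (ζ : C → ℂ) a)
  (nn : IrrCharacter G → IrrCharacter C → ℕ)
  (hnn1 : ∀ (χ : IrrCharacter G) (ζ : IrrCharacter C),
    classInner (fun c : C => (χ : G → ℂ) (c : G)) (ζ : C → ℂ) = nn χ ζ)
  (hnn : ∀ χ : IrrCharacter G, (fun c : C => (χ : G → ℂ) (c : G)) =
    ∑ ζ : IrrCharacter C, (nn χ ζ : ℂ) • (ζ : C → ℂ))

include hcc hnn1 hnn in
/-- **Uniform cyclotomic decomposition of the contribution matrices of the powers of `y`.** -/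
theorem exists_weights (hp : p.Prime) (hM : IsPModular p M) (hIG : RegInt G p)
    (hIC : RegInt C p) {b : Set (IrrCharacter C)} {B : Set (IrrCharacter G)}
    (hind : IsInducedBlock M C b B) :
    ∃ w0 : IrrCharacter C → IrrCharacter C → ℤ,
      (∀ ζ ζ', w0 ζ ζ' = w0 ζ' ζ) ∧
      (∀ χ ψ : IrrCharacter G, χ ∈ B → ψ ∈ B → blockHeight p B (χ : G → ℂ) = 0 →
        blockHeight p B (ψ : G → ℂ) = 0 →
        ¬ (p : ℤ) ∣ ∑ ζ ∈ bset b, ∑ ζ' ∈ bset b,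
          ((nn χ ζ : ℕ) : ℤ) * ((nn ψ ζ' : ℕ) : ℤ) * w0 ζ ζ') ∧
      (∀ (χ ψ : IrrCharacter G) (j : ℕ),
        ((p : ℂ) ^ blockDefect p b) * gmat p C (y ^ j) b χ ψ =
          ∑ ζ ∈ bset b, ∑ ζ' ∈ bset b,
            ((((nn χ ζ : ℕ) : ℤ) * ((nn ψ ζ' : ℕ) : ℤ) * w0 ζ ζ' : ℤ) : ℂ) *
              (cc ζ * conj (cc ζ')) ^ j) := by
  classical
  have hpi : Prime (p : ℤ) := Nat.prime_iff_prime_int.mp hp
  have he : IsPBlock M b := hind.1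
  have hM' := isPrime_of_isPModular hM
  obtain ⟨ξ₀, hξ₀, h0ξ₀⟩ := exists_height_zero_mem (p := p) (isPBlock_nonempty hM' he)
  set v : ℕ := h0 p b with hv
  have hpv : ((p : ℤ)) ^ v ≠ 0 := pow_ne_zero _ hpi.ne_zero
  have hvle : ∀ ζ ∈ b, v ≤ (charDegree (ζ : C → ℂ)).factorization p := fun ζ hζ => h0_le hζ
  have hdegdvd : ∀ ζ ∈ b, ((p : ℤ)) ^ v ∣ (charDegree (ζ : C → ℂ) : ℤ) := by
    intro ζ hζ
    have h1 : p ^ v ∣ p ^ (charDegree (ζ : C → ℂ)).factorization p := pow_dvd_pow p (hvle ζ hζ)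
    have h2 : p ^ (charDegree (ζ : C → ℂ)).factorization p ∣ charDegree (ζ : C → ℂ) :=
      Nat.ordProj_dvd _ p
    exact_mod_cast h1.trans h2
  have hNNdvd : ∀ ζ ∈ b, ∀ ζ' : IrrCharacter C, ((p : ℤ)) ^ v ∣ NN hIC ζ ζ' := by
    intro ζ hζ ζ'
    exact (pow_dvd_pow (p : ℤ) (hvle ζ hζ)).trans (pow_dvd_NN hp hIC ζ ζ')
  set δ : IrrCharacter C → ℤ := fun ζ => (charDegree (ζ : C → ℂ) : ℤ) / (p : ℤ) ^ v with hδ
  set w0 : IrrCharacter C → IrrCharacter C → ℤ := fun ζ ζ' => NN hIC ζ ζ' / (p : ℤ) ^ v with hw0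
  have h2 : ∀ ζ ∈ bset b, (charDegree (ζ : C → ℂ) : ℤ) = (p : ℤ) ^ v * δ ζ := by
    intro ζ hζ
    exact (Int.mul_ediv_cancel' (hdegdvd ζ (mem_bset.mp hζ))).symm
  have h3 : ∀ ζ ∈ bset b, ∀ ζ' ∈ bset b, NN hIC ζ ζ' = (p : ℤ) ^ v * w0 ζ ζ' := by
    intro ζ hζ ζ' _
    exact (Int.mul_ediv_cancel' (hNNdvd ζ (mem_bset.mp hζ) ζ')).symm
  have h7 : ¬ (p : ℤ) ∣ δ ξ₀ := by
    intro hdiv
    have hval : (charDegree (ξ₀ : C → ℂ)).factorization p = v := by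
      rw [val_eq_h0_add hξ₀, h0ξ₀, add_zero]
    have h4 : ((p : ℤ)) ^ (v + 1) ∣ (charDegree (ξ₀ : C → ℂ) : ℤ) := by
      rw [h2 ξ₀ (mem_bset.mpr hξ₀), pow_succ]
      exact mul_dvd_mul_left _ hdiv
    have h5 : p ^ (v + 1) ∣ charDegree (ξ₀ : C → ℂ) := by exact_mod_cast h4
    have h6 := Nat.pow_succ_factorization_not_dvd (charDegree_pos ξ₀).ne' hp
    rw [hval] at h6
    exact h6 h5
  have hblau : ∀ φ : IrrCharacter G, φ ∈ B → blockHeight p B (φ : G → ℂ) = 0 →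
      ∃ r : ℤ, ¬ (p : ℤ) ∣ r ∧ r * (charDegree (ξ₀ : C → ℂ) : ℤ) =
        (mPrime C p : ℤ) * ∑ ξ ∈ bset b, ((nn φ ξ : ℕ) : ℤ) * NN hIC ξ₀ ξ := by
    intro φ hφ h0φ
    obtain ⟨r, hr, hreq⟩ := exists_unit_mul_deg hp hM C hIG hIC hind hφ h0φ (nn φ)
      (fun ξ => hnn1 φ ξ) hξ₀
    refine ⟨r, hr, ?_⟩
    rw [hreq]
    congr 1
    symm
    refine Finset.sum_subset (Finset.subset_univ _) fun ξ _ hξ => ?_
    rw [mem_bset] at hξ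
    rw [NN_eq_zero_of_not_mem hM he hIC hξ₀ hξ, mul_zero]
  refine ⟨w0, ?_, ?_, ?_⟩
  · intro ζ ζ'
    simp only [hw0]
    rw [NN_symm hIC ζ ζ']
  · intro χ ψ hχ hψ h0χ h0ψ
    obtain ⟨rχ, hrχ, h6χ⟩ := hblau χ hχ h0χ
    obtain ⟨rψ, hrψ, h6ψ⟩ := hblau ψ hψ h0ψ
    exact arith_nonvanish (bset b) hp v (mPrime C p : ℤ)
      (fun ζ => (charDegree (ζ : C → ℂ) : ℤ)) δ (fun ζ ζ' => rr hIC ζ ζ')
      (fun ζ ζ' => NN hIC ζ ζ')
      w0 (fun ζ => ((nn χ ζ : ℕ) : ℤ)) (fun ζ => ((nn ψ ζ : ℕ) : ℤ)) ξ₀ (mem_bset.mpr hξ₀)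
      (fun ζ _ ζ' _ => rr_mul hIC ζ ζ') h2 h3
      (fun ζ hζ ζ' _ => rr_congr hM he hIC (mem_bset.mp hζ) hξ₀ ζ')
      (fun ζ _ ζ' _ => NN_symm hIC ζ ζ') h7 rχ rψ hrχ hrψ h6χ h6ψ
  · intro χ ψ j
    rw [gmat_pow_eq C y hyC cc hcc nn hnn hM he χ ψ j, Finset.mul_sum]
    refine Finset.sum_congr rfl fun ζ hζ => ?_
    rw [Finset.mul_sum]
    refine Finset.sum_congr rfl fun ζ' hζ' => ?_
    have hspec := NN_spec hIC ζ ζ'
    have hadd : v + blockDefect p b = (Nat.card C).factorization p :=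
      h0_add_defect (mem_bset.mp hζ)
    have hw : ((p : ℂ) ^ blockDefect p b) * classInner (regPart p (ζ : C → ℂ)) (ζ' : C → ℂ) =
        (w0 ζ ζ' : ℂ) := by
      have hpc : ((p : ℂ)) ^ v ≠ 0 := pow_ne_zero _ (by exact_mod_cast hp.ne_zero)
      apply mul_left_cancel₀ hpc
      rw [← mul_assoc, ← pow_add, hadd]
      have : ((p : ℂ)) ^ (Nat.card C).factorization p =
          ((p ^ (Nat.card C).factorization p : ℕ) : ℂ) := by push_cast; rfl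
      rw [this, hspec, h3 ζ hζ ζ' hζ']
      push_cast
      rfl
    push_cast
    calc (p : ℂ) ^ blockDefect p b * ((nn χ ζ : ℂ) * (nn ψ ζ' : ℂ) * (cc ζ * conj (cc ζ')) ^ j *
          classInner (regPart p (ζ : C → ℂ)) (ζ' : C → ℂ)) =
        (nn χ ζ : ℂ) * (nn ψ ζ' : ℂ) * (cc ζ * conj (cc ζ')) ^ j *
          ((p : ℂ) ^ blockDefect p b * classInner (regPart p (ζ : C → ℂ)) (ζ' : C → ℂ)) := by
          ring
      _ = _ := by rw [hw]; ring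

end Cfsg.Agent.Lib.Helper57_CycDecomp
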