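import Mathlib

/-!
# A lower bound for sums of squares of cyclotomic integers (helper57)

Let `N = p ^ n`, `ε_i` be `N`-th roots of unity and `w_i` integers with `p ∤ ∑ w_i`.  Then
`∑_{j < N, gcd(j, N) = 1} |∑_i w_i ε_i^j|² ≥ φ(N)` (`cyc_sum_ge`).  This is the statement that a
cyclotomic integer not divisible by the prime above `p` has trace of its absolute square at least
the degree, proved here by elementary Fourier analysis on `ℤ/N`, without Galois theory.
-/

set_option autoImplicit false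

namespace Cfsg.Agent.Lib.Helper57_CycSum

open Finset
open scoped ComplexConjugate

/-- Integers `x_0, …, x_{p-1}` whose sum is prime to `p` satisfy `p ∑ x² - (∑ x)² ≥ p - 1`. -/
theorem slots {p : ℕ} (hp : p.Prime) (x : ℕ → ℤ)
    (h : ¬ (p : ℤ) ∣ ∑ t ∈ range p, x t) :
    (p : ℤ) - 1 ≤ p * ∑ t ∈ range p, x t ^ 2 - (∑ t ∈ range p, x t) ^ 2 := by
  classical
  set c := x 0 with hc
  set y : ℕ → ℤ := fun t => x t - c with hy
  have hS : ∑ t ∈ range p, y t = ∑ t ∈ range p, x t - p * c := by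
    simp only [hy, sum_sub_distrib, sum_const, card_range, nsmul_eq_mul]
  have hQ : ∑ t ∈ range p, y t ^ 2 =
      ∑ t ∈ range p, x t ^ 2 - 2 * c * ∑ t ∈ range p, x t + p * c ^ 2 := by
    have : ∀ t, y t ^ 2 = x t ^ 2 - 2 * c * x t + c ^ 2 := fun t => by simp only [hy]; ring
    simp_rw [this]
    rw [sum_add_distrib, sum_sub_distrib, ← mul_sum, sum_const, card_range, nsmul_eq_mul]
  have hD : (p : ℤ) * ∑ t ∈ range p, x t ^ 2 - (∑ t ∈ range p, x t) ^ 2 =
      p * ∑ t ∈ range p, y t ^ 2 - (∑ t ∈ range p, y t) ^ 2 := by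
    rw [hS, hQ]
    ring
  rw [hD]
  set supp := (range p).filter (fun t => y t ≠ 0) with hsupp
  have hS' : ∑ t ∈ range p, y t = ∑ t ∈ supp, y t := (sum_filter_ne_zero (range p)).symm
  have hQ' : ∑ t ∈ range p, y t ^ 2 = ∑ t ∈ supp, y t ^ 2 := by
    rw [hsupp, sum_filter]
    refine sum_congr rfl fun t _ => ?_
    by_cases h0 : y t = 0
    · simp [h0]
    · simp [h0]
  have h0mem : 0 ∈ range p := mem_range.mpr hp.pos
  have h0not : 0 ∉ supp := by
    rw [hsupp, mem_filter]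
    rintro ⟨_, h0⟩
    exact h0 (by simp [hy, hc])
  have hr_le : supp.card + 1 ≤ p := by
    have : supp ⊂ range p := by
      refine ⟨filter_subset _ _, fun hsub => h0not (hsub h0mem)⟩
    have := card_lt_card this
    rw [card_range] at this
    omega
  have hr_pos : 1 ≤ supp.card := by
    rw [Nat.one_le_iff_ne_zero, Ne, card_eq_zero]
    intro hempty
    apply h
    have hall : ∀ t ∈ range p, y t = 0 := by
      intro t ht
      by_contra hne
      have : t ∈ supp := mem_filter.mpr ⟨ht, hne⟩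
      rw [hempty] at this
      exact absurd this (notMem_empty t)
    have hsum0 : ∑ t ∈ range p, y t = 0 := sum_eq_zero hall
    rw [hS] at hsum0
    exact ⟨c, by linarith⟩
  have hcs : (∑ t ∈ supp, y t) ^ 2 ≤ supp.card * ∑ t ∈ supp, y t ^ 2 :=
    sq_sum_le_card_mul_sum_sq
  have hge : (supp.card : ℤ) ≤ ∑ t ∈ supp, y t ^ 2 := by
    have : ∀ t ∈ supp, (1 : ℤ) ≤ y t ^ 2 := by
      intro t ht
      have hne : y t ≠ 0 := (mem_filter.mp ht).2
      have : 0 < y t ^ 2 := by positivity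
      omega
    have hcard : ((supp.card : ℕ) : ℤ) = ∑ _t ∈ supp, (1 : ℤ) := by simp
    rw [hcard]
    exact sum_le_sum this
  rw [hS', hQ']
  set r : ℤ := ((supp.card : ℕ) : ℤ) with hr
  set Qy := ∑ t ∈ supp, y t ^ 2 with hQy
  have hr1 : (1 : ℤ) ≤ r := by rw [hr]; exact_mod_cast hr_pos
  have hrp : r + 1 ≤ p := by rw [hr]; exact_mod_cast hr_le
  nlinarith [mul_nonneg (sub_nonneg.mpr hr1) (sub_nonneg.mpr hrp),
    mul_nonneg (sub_nonneg.mpr hrp) (sub_nonneg.mpr hge)]

/-- Always `p ∑ x² - (∑ x)² ≥ 0`. -/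
theorem slots_nonneg (p : ℕ) (x : ℕ → ℤ) :
    0 ≤ (p : ℤ) * ∑ t ∈ range p, x t ^ 2 - (∑ t ∈ range p, x t) ^ 2 := by
  have h := sq_sum_le_card_mul_sum_sq (s := range p) (f := x)
  rw [card_range] at h
  linarith

/-- Block decomposition of a sum over `range (p * q)`. -/
theorem sum_range_mul_eq {M : Type*} [AddCommMonoid M] (g : ℕ → M) (p q : ℕ) :
    ∑ k ∈ range (p * q), g k = ∑ t ∈ range p, ∑ r ∈ range q, g (t * q + r) := by
  induction p with
  | zero => simp
  | succ p ih => rw [Nat.succ_mul, sum_range_add, ih, sum_range_succ]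

/-- Orthogonality for powers of a root of unity. -/
theorem sum_pow_of_pow_eq_one {M : ℕ} {δ : ℂ} (h : δ ^ M = 1) :
    ∑ j ∈ range M, δ ^ j = if δ = 1 then (M : ℂ) else 0 := by
  split_ifs with h1
  · simp [h1]
  · rw [geom_sum_eq h1, h, sub_self, zero_div]

/-- Parseval's identity for the discrete Fourier transform of an integer sequence. -/
theorem parseval_complex {M : ℕ} {ω : ℂ} (hω : IsPrimitiveRoot ω M) (a : ℕ → ℤ) :
    ∑ j ∈ range M, (∑ k ∈ range M, (a k : ℂ) * ω ^ (k * j)) *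
        conj (∑ k ∈ range M, (a k : ℂ) * ω ^ (k * j))
      = M * ∑ k ∈ range M, (a k : ℂ) ^ 2 := by
  rcases Nat.eq_zero_or_pos M with rfl | hM
  · simp
  have hM0 : M ≠ 0 := hM.ne'
  have hnorm : ‖ω‖ = 1 := Complex.norm_eq_one_of_pow_eq_one hω.pow_eq_one hM0
  have hconj : conj ω = ω⁻¹ := (Complex.inv_eq_conj hnorm).symm
  have hω0 : ω ≠ 0 := hω.ne_zero hM0
  have key : ∀ k ∈ range M, ∀ k' ∈ range M,
      ∑ j ∈ range M, ((a k : ℂ) * ω ^ (k * j)) * ((a k' : ℂ) * (ω⁻¹) ^ (k' * j)) =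
        if k = k' then (M : ℂ) * (a k : ℂ) ^ 2 else 0 := by
    intro k hk k' hk'
    have h1 : ∀ j, ((a k : ℂ) * ω ^ (k * j)) * ((a k' : ℂ) * (ω⁻¹) ^ (k' * j)) =
        (a k : ℂ) * (a k' : ℂ) * (ω ^ k * (ω⁻¹) ^ k') ^ j := by
      intro j
      rw [mul_pow, ← pow_mul, ← pow_mul]
      ring
    simp_rw [h1]
    rw [← mul_sum]
    have hδ : (ω ^ k * (ω⁻¹) ^ k') ^ M = 1 := by
      rw [mul_pow, ← pow_mul, ← pow_mul, mul_comm k, mul_comm k', pow_mul, pow_mul, inv_pow,
        hω.pow_eq_one]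
      simp
    rw [sum_pow_of_pow_eq_one hδ]
    have hiff : ω ^ k * (ω⁻¹) ^ k' = 1 ↔ k = k' := by
      rw [inv_pow, ← div_eq_mul_inv, div_eq_one_iff_eq (pow_ne_zero _ hω0)]
      constructor
      · intro h
        exact hω.pow_inj (mem_range.mp hk) (mem_range.mp hk') h
      · intro h
        rw [h]
    by_cases hkk : k = k'
    · subst hkk
      rw [if_pos (hiff.mpr rfl), if_pos rfl]
      ring
    · rw [if_neg (fun h => hkk (hiff.mp h)), if_neg hkk, mul_zero]
  have hexp : ∀ j, (∑ k ∈ range M, (a k : ℂ) * ω ^ (k * j)) *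
        conj (∑ k ∈ range M, (a k : ℂ) * ω ^ (k * j)) =
      ∑ k ∈ range M, ∑ k' ∈ range M,
        ((a k : ℂ) * ω ^ (k * j)) * ((a k' : ℂ) * (ω⁻¹) ^ (k' * j)) := by
    intro j
    rw [map_sum, sum_mul_sum]
    refine sum_congr rfl fun k _ => sum_congr rfl fun k' _ => ?_
    rw [map_mul, map_pow, hconj, map_intCast]
  simp_rw [hexp]
  rw [sum_comm]
  have : ∀ k ∈ range M, ∑ j ∈ range M, ∑ k' ∈ range M,
        ((a k : ℂ) * ω ^ (k * j)) * ((a k' : ℂ) * (ω⁻¹) ^ (k' * j)) =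
      (M : ℂ) * (a k : ℂ) ^ 2 := by
    intro k hk
    rw [sum_comm]
    rw [sum_congr rfl (fun k' hk' => key k hk k' hk')]
    rw [sum_ite_eq (range M) k, if_pos hk]
  rw [sum_congr rfl this, mul_sum]

/-- Parseval's identity, real form. -/
theorem parseval {M : ℕ} {ω : ℂ} (hω : IsPrimitiveRoot ω M) (a : ℕ → ℤ) :
    ∑ j ∈ range M, Complex.normSq (∑ k ∈ range M, (a k : ℂ) * ω ^ (k * j))
      = M * ∑ k ∈ range M, ((a k : ℤ) : ℝ) ^ 2 := by
  apply Complex.ofReal_injective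
  have := parseval_complex hω a
  simp_rw [Complex.mul_conj] at this
  push_cast
  rw [this]

/-- The multiples of `p` below `p * q`. -/
theorem filter_dvd_range_mul {p q : ℕ} (hp : 0 < p) :
    (range (p * q)).filter (fun j => p ∣ j) = (range q).image (fun j => p * j) := by
  ext j
  simp only [mem_filter, mem_range, mem_image]
  constructor
  · rintro ⟨hj, c, rfl⟩
    exact ⟨c, lt_of_mul_lt_mul_left hj (Nat.zero_le p), rfl⟩
  · rintro ⟨c, hc, rfl⟩
    exact ⟨Nat.mul_lt_mul_of_pos_left hc hp |>.trans_le le_rfl, dvd_mul_right p c⟩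

/-- The core estimate: for `ω` a primitive `p q`-th root of unity and integers `A k` whose sum is
prime to `p`, the sum of `|∑ A_k ω^{kj}|²` over `j < p q` prime to `p` is at least `q (p - 1)`. -/
theorem core {p q : ℕ} (hp : p.Prime) {ω : ℂ} (hω : IsPrimitiveRoot ω (p * q)) (A : ℕ → ℤ)
    (h : ¬ (p : ℤ) ∣ ∑ k ∈ range (p * q), A k) :
    ((q : ℝ) * ((p : ℝ) - 1)) ≤ ∑ j ∈ (range (p * q)).filter (fun j => ¬ p ∣ j),
        Complex.normSq (∑ k ∈ range (p * q), (A k : ℂ) * ω ^ (k * j)) := by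
  classical
  set F : ℕ → ℂ := fun j => ∑ k ∈ range (p * q), (A k : ℂ) * ω ^ (k * j) with hF
  set B : ℕ → ℤ := fun r => ∑ t ∈ range p, A (t * q + r) with hB
  have hp0 : p ≠ 0 := hp.ne_zero
  -- (a) total
  have hall : ∑ j ∈ range (p * q), Complex.normSq (F j) =
      ((p * q : ℕ) : ℝ) * ∑ k ∈ range (p * q), ((A k : ℤ) : ℝ) ^ 2 := parseval hω A
  -- (c) F at multiples of p
  have hωp : IsPrimitiveRoot (ω ^ p) q := by
    have := hω.pow_of_dvd hp0 (dvd_mul_right p q)
    rwa [Nat.mul_div_cancel_left q hp.pos] at this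
  have hFp : ∀ j', F (p * j') = ∑ r ∈ range q, (B r : ℂ) * (ω ^ p) ^ (r * j') := by
    intro j'
    simp only [hF]
    rw [sum_range_mul_eq, sum_comm]
    refine sum_congr rfl fun r _ => ?_
    simp only [hB]
    push_cast
    rw [sum_mul]
    refine sum_congr rfl fun t _ => ?_
    congr 1
    have : (t * q + r) * (p * j') = (p * q) * (t * j') + p * (r * j') := by ring
    rw [this, pow_add, pow_mul, hω.pow_eq_one, one_pow, one_mul, pow_mul]
  -- (b),(d) the sum over multiples of p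
  have hmul : ∑ j ∈ (range (p * q)).filter (fun j => p ∣ j), Complex.normSq (F j) =
      (q : ℝ) * ∑ r ∈ range q, ((B r : ℤ) : ℝ) ^ 2 := by
    rw [filter_dvd_range_mul hp.pos, sum_image]
    · simp_rw [hFp]
      exact parseval hωp B
    · intro x _ y _ hxy
      exact Nat.eq_of_mul_eq_mul_left hp.pos hxy
  -- (e) regroup the squares
  have hsq : ∑ k ∈ range (p * q), ((A k : ℤ) : ℝ) ^ 2 =
      ∑ r ∈ range q, ∑ t ∈ range p, ((A (t * q + r) : ℤ) : ℝ) ^ 2 := by
    rw [sum_range_mul_eq, sum_comm]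
  -- (f) the difference
  have hsplit : ∑ j ∈ (range (p * q)).filter (fun j => ¬ p ∣ j), Complex.normSq (F j) =
      ∑ j ∈ range (p * q), Complex.normSq (F j) -
        ∑ j ∈ (range (p * q)).filter (fun j => p ∣ j), Complex.normSq (F j) := by
    rw [← sum_filter_add_sum_filter_not (range (p * q)) (fun j => p ∣ j)]
    ring
  -- (g) some block has sum prime to p
  have hBsum : ∑ r ∈ range q, B r = ∑ k ∈ range (p * q), A k := by
    rw [sum_range_mul_eq, sum_comm]
  have hex : ∃ r₀ ∈ range q, ¬ (p : ℤ) ∣ B r₀ := by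
    by_contra hcon
    push Not at hcon
    apply h
    rw [← hBsum]
    exact dvd_sum hcon
  obtain ⟨r₀, hr₀, hr₀p⟩ := hex
  -- (h) the integer inequality
  have hint : (p : ℤ) - 1 ≤ ∑ r ∈ range q,
      ((p : ℤ) * ∑ t ∈ range p, A (t * q + r) ^ 2 - (∑ t ∈ range p, A (t * q + r)) ^ 2) := by
    have h1 := slots hp (fun t => A (t * q + r₀)) hr₀p
    refine h1.trans ?_
    exact single_le_sum (f := fun r => ((p : ℤ) * ∑ t ∈ range p, A (t * q + r) ^ 2 -
      (∑ t ∈ range p, A (t * q + r)) ^ 2))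
      (fun r _ => slots_nonneg p (fun t => A (t * q + r))) hr₀
  have hreal : ((p : ℝ) - 1) ≤ ∑ r ∈ range q,
      ((p : ℝ) * ∑ t ∈ range p, ((A (t * q + r) : ℤ) : ℝ) ^ 2 - ((B r : ℤ) : ℝ) ^ 2) := by
    have := (Int.cast_le (R := ℝ)).mpr hint
    simp only [hB]
    push_cast at this ⊢
    exact this
  rw [hsplit, hall, hmul, hsq]
  have hq0 : (0 : ℝ) ≤ q := Nat.cast_nonneg q
  have hfin : ((p * q : ℕ) : ℝ) * ∑ r ∈ range q, ∑ t ∈ range p, ((A (t * q + r) : ℤ) : ℝ) ^ 2 -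
      (q : ℝ) * ∑ r ∈ range q, ((B r : ℤ) : ℝ) ^ 2 =
      (q : ℝ) * ∑ r ∈ range q,
      ((p : ℝ) * ∑ t ∈ range p, ((A (t * q + r) : ℤ) : ℝ) ^ 2 - ((B r : ℤ) : ℝ) ^ 2) := by
    rw [sum_sub_distrib, ← mul_sum]
    push_cast
    ring
  rw [hfin]
  exact mul_le_mul_of_nonneg_left hreal hq0

/-- **Lower bound for the trace of the absolute square of a cyclotomic integer.**  If `ε_i` are
`p^n`-th roots of unity and `w_i` integers with `p ∤ ∑ w_i`, then the sum over `j < p^n` prime to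
`p^n` of `|∑ w_i ε_i^j|²` is at least `φ(p^n)`. -/
theorem cyc_sum_ge {p : ℕ} (hp : p.Prime) (n : ℕ) {ι : Type*} (s : Finset ι) (ε : ι → ℂ)
    (w : ι → ℤ) (hε : ∀ i, ε i ^ (p ^ n) = 1) (h : ¬ (p : ℤ) ∣ ∑ i ∈ s, w i) :
    ((p ^ n).totient : ℝ) ≤ ∑ j ∈ (range (p ^ n)).filter (fun j => j.Coprime (p ^ n)),
        Complex.normSq (∑ i ∈ s, (w i : ℂ) * ε i ^ j) := by
  classical
  rcases n with _ | m
  · -- `N = 1`
    have hfil : (range (p ^ 0)).filter (fun j => j.Coprime (p ^ 0)) = {0} := by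
      ext j
      simp
    rw [hfil, sum_singleton]
    simp only [pow_zero, Nat.totient_one, Nat.cast_one, mul_one]
    have hne : ∑ i ∈ s, w i ≠ 0 := by
      intro h0
      apply h
      rw [h0]
      exact dvd_zero _
    have hcast : (∑ i ∈ s, (w i : ℂ)) = ((∑ i ∈ s, w i : ℤ) : ℂ) := by push_cast; rfl
    rw [hcast, Complex.normSq_intCast]
    have : (1 : ℤ) ≤ (∑ i ∈ s, w i) * (∑ i ∈ s, w i) := by
      have : 0 < (∑ i ∈ s, w i) * (∑ i ∈ s, w i) := mul_self_pos.mpr hne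
      omega
    exact_mod_cast this
  · have hN : p ^ (m + 1) = p * p ^ m := pow_succ' p m
    have hN0 : p * p ^ m ≠ 0 := mul_ne_zero hp.ne_zero (pow_ne_zero _ hp.ne_zero)
    have : NeZero (p * p ^ m) := ⟨hN0⟩
    set ω : ℂ := Complex.exp (2 * Real.pi * Complex.I / ((p * p ^ m : ℕ) : ℂ)) with hωdef
    have hω : IsPrimitiveRoot ω (p * p ^ m) := Complex.isPrimitiveRoot_exp _ hN0
    have hk : ∀ i, ∃ k < p * p ^ m, ω ^ k = ε i := fun i =>
      hω.eq_pow_of_pow_eq_one (by rw [← hN]; exact hε i)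
    choose k hklt hkε using hk
    set A : ℕ → ℤ := fun a => ∑ i ∈ s with k i = a, w i with hA
    have hAsum : ∑ a ∈ range (p * p ^ m), A a = ∑ i ∈ s, w i :=
      sum_fiberwise_of_maps_to (fun i _ => mem_range.mpr (hklt i)) w
    have hFeq : ∀ j, ∑ i ∈ s, (w i : ℂ) * ε i ^ j =
        ∑ a ∈ range (p * p ^ m), (A a : ℂ) * ω ^ (a * j) := by
      intro j
      rw [← sum_fiberwise_of_maps_to (g := k) (t := range (p * p ^ m))
        (fun i _ => mem_range.mpr (hklt i))]
      refine sum_congr rfl fun a _ => ?_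
      simp only [hA]
      push_cast
      rw [sum_mul]
      refine sum_congr rfl fun i hi => ?_
      rw [← hkε i, (mem_filter.mp hi).2, pow_mul]
    have hcore := core hp hω A (by rw [hAsum]; exact h)
    have hfil : (range (p ^ (m + 1))).filter (fun j => j.Coprime (p ^ (m + 1))) =
        (range (p * p ^ m)).filter (fun j => ¬ p ∣ j) := by
      rw [hN]
      refine filter_congr fun j _ => ?_
      rw [← hN, Nat.coprime_pow_right_iff (Nat.succ_pos m), Nat.coprime_comm,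
        hp.coprime_iff_not_dvd]
    rw [hfil, Nat.totient_prime_pow_succ hp]
    simp_rw [hFeq]
    refine le_trans (le_of_eq ?_) hcore
    rw [Nat.cast_mul, Nat.cast_sub hp.one_le, Nat.cast_one]

end Cfsg.Agent.Lib.Helper57_CycSum
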