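import Mathlib
import Cfsg.Agent.Lib.Helper62_D72Defs

set_option autoImplicit false

namespace Cfsg.Agent.Lib.Helper57_D72_KILL4

open Cfsg.Agent.Lib.Helper62_D72Defs

theorem kill4 {g : ℕ} {σ : Fin 7 → ℤ} {φ : Fin 7 → ℕ} (h : Exp T4 g σ φ) : False := by
  obtain ⟨k, hk⟩ := h.e4
  have e1 := h.e1
  have e2 := h.e2
  simp only [Fin.sum_univ_succ, Fin.sum_univ_zero, T4, colA, colD, aOf, dOf] at e1 e2 hk
  simp at e1 e2 hk
  have h3 : (3 : ℚ) * k = 1 := by linear_combination (-(1:ℚ) / 324) * (hk - 2 * e1 + e2)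
  have h4 : 3 * k = 1 := by exact_mod_cast h3
  omega

end Cfsg.Agent.Lib.Helper57_D72_KILL4
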