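import Mathlib
import Cfsg.Agent.Lib.Helper62_D72Defs

set_option autoImplicit false

/-!
Generic tool for the packages REAL1..REAL6 of the d72 market (S3716, architect helper62):
from the counts `cnt` of the column types to the explicit shape `IsShape`.
-/

namespace Cfsg.Agent.Lib.Helper57_D72_SHAPEGEN

open Cfsg.Agent.Lib.Helper62_D72Defs

/-- the subtype counted by `cnt` -/
abbrev Sτ {ι : Type*} (o : ι) (P Q P' Q' : ι → ℤ) (τ : ℤ × ℤ × ℤ × ℤ) : Type _ :=
  {i : ι // i ≠ o ∧ ((P i = τ.1 ∧ Q i = τ.2.1 ∧ P' i = τ.2.2.1 ∧ Q' i = τ.2.2.2) ∨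
    (P i = -τ.1 ∧ Q i = -τ.2.1 ∧ P' i = -τ.2.2.1 ∧ Q' i = -τ.2.2.2))}

theorem cnt_eq_card {ι : Type*} (o : ι) (P Q P' Q' : ι → ℤ) (τ : ℤ × ℤ × ℤ × ℤ) :
    cnt o P Q P' Q' τ.1 τ.2.1 τ.2.2.1 τ.2.2.2 = Nat.card (Sτ o P Q P' Q' τ) := rfl

/-- a type with count `0` does not occur -/
theorem not_mem_of_cnt_zero {ι : Type*} [Finite ι] {o : ι} {P Q P' Q' : ι → ℤ} {p q p' q' : ℤ}
    (h : cnt o P Q P' Q' p q p' q' = 0) (i : ι) (hi : i ≠ o) :
    ¬ ((P i = p ∧ Q i = q ∧ P' i = p' ∧ Q' i = q') ∨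
      (P i = -p ∧ Q i = -q ∧ P' i = -p' ∧ Q' i = -q')) := by
  intro hmem
  unfold cnt at h
  rcases Nat.card_eq_zero.mp h with h0 | h0
  · exact h0.false ⟨i, hi, hmem⟩
  · exact h0.not_finite inferInstance

/-- **From counts to the shape.**  `T` lists column types (no type is the negative of a listed one); the
number of `i ≠ o` with column `± T j` is the number of occurrences of `T j` in the list, and every
nonzero column of an `i ≠ o` is `± T j` for some `j`.  Then the columns have the shape `T`. -/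
theorem shape_of_counts {ι : Type*} [Fintype ι] {o : ι} {P Q P' Q' : ι → ℤ} {n : ℕ}
    (T : Fin n → ℤ × ℤ × ℤ × ℤ) (hTneg : ∀ j k, T j ≠ -T k)
    (hcnt : ∀ j, cnt o P Q P' Q' (T j).1 (T j).2.1 (T j).2.2.1 (T j).2.2.2 =
      Nat.card {k : Fin n // T k = T j})
    (hzero : ∀ i, i ≠ o → ¬ (P i = 0 ∧ Q i = 0 ∧ P' i = 0 ∧ Q' i = 0) →
      ∃ j, (P i = (T j).1 ∧ Q i = (T j).2.1 ∧ P' i = (T j).2.2.1 ∧ Q' i = (T j).2.2.2) ∨
        (P i = -(T j).1 ∧ Q i = -(T j).2.1 ∧ P' i = -(T j).2.2.1 ∧ Q' i = -(T j).2.2.2)) :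
    IsShape o P Q P' Q' T := by
  classical
  -- the bijections fibre ≃ counted set
  have hex : ∀ τ : ℤ × ℤ × ℤ × ℤ, Nat.card {k : Fin n // T k = τ} = Nat.card (Sτ o P Q P' Q' τ) →
      Nonempty ({k : Fin n // T k = τ} ≃ Sτ o P Q P' Q' τ) := fun τ h => Finite.card_eq.mp h
  let E : ∀ τ : ℤ × ℤ × ℤ × ℤ, {k : Fin n // T k = τ} → ι := fun τ k =>
    if h : Nat.card {k : Fin n // T k = τ} = Nat.card (Sτ o P Q P' Q' τ) then
      ((hex τ h).some k).1 else o
  have hE : ∀ τ : ℤ × ℤ × ℤ × ℤ, Nat.card {k : Fin n // T k = τ} = Nat.card (Sτ o P Q P' Q' τ) →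
      ∃ e : {k : Fin n // T k = τ} ≃ Sτ o P Q P' Q' τ, ∀ k, E τ k = (e k).1 := by
    intro τ h
    exact ⟨(hex τ h).some, fun k => dif_pos h⟩
  have hcard : ∀ j, Nat.card {k : Fin n // T k = T j} = Nat.card (Sτ o P Q P' Q' (T j)) :=
    fun j => (hcnt j).symm
  let idx : Fin n → ι := fun k => E (T k) ⟨k, rfl⟩
  have hidx : ∀ (k : Fin n) (τ : ℤ × ℤ × ℤ × ℤ) (hk : T k = τ), idx k = E τ ⟨k, hk⟩ := by
    intro k τ hk
    subst hk
    rfl
  -- the chosen indices lie in the counted sets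
  have hmem : ∀ k, idx k ≠ o ∧
      ((P (idx k) = (T k).1 ∧ Q (idx k) = (T k).2.1 ∧ P' (idx k) = (T k).2.2.1 ∧
        Q' (idx k) = (T k).2.2.2) ∨
      (P (idx k) = -(T k).1 ∧ Q (idx k) = -(T k).2.1 ∧ P' (idx k) = -(T k).2.2.1 ∧
        Q' (idx k) = -(T k).2.2.2)) := by
    intro k
    obtain ⟨e, he⟩ := hE (T k) (hcard k)
    have : idx k = (e ⟨k, rfl⟩).1 := he ⟨k, rfl⟩
    rw [this]
    exact (e ⟨k, rfl⟩).2
  -- the column determines the type
  have htype : ∀ j k, idx j = idx k → T j = T k := by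
    intro j k hjk
    have hj := (hmem j).2
    have hk := (hmem k).2
    rw [hjk] at hj
    rcases hj with hj | hj <;> rcases hk with hk | hk
    · exact Prod.ext (hj.1.symm.trans hk.1) (Prod.ext (hj.2.1.symm.trans hk.2.1)
        (Prod.ext (hj.2.2.1.symm.trans hk.2.2.1) (hj.2.2.2.symm.trans hk.2.2.2)))
    · exfalso
      apply hTneg j k
      exact Prod.ext (hj.1.symm.trans hk.1) (Prod.ext (hj.2.1.symm.trans hk.2.1)
        (Prod.ext (hj.2.2.1.symm.trans hk.2.2.1) (hj.2.2.2.symm.trans hk.2.2.2)))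
    · exfalso
      apply hTneg k j
      exact Prod.ext (hk.1.symm.trans hj.1) (Prod.ext (hk.2.1.symm.trans hj.2.1)
        (Prod.ext (hk.2.2.1.symm.trans hj.2.2.1) (hk.2.2.2.symm.trans hj.2.2.2)))
    · have h1 : -(T j).1 = -(T k).1 := hj.1.symm.trans hk.1
      have h2 : -(T j).2.1 = -(T k).2.1 := hj.2.1.symm.trans hk.2.1
      have h3 : -(T j).2.2.1 = -(T k).2.2.1 := hj.2.2.1.symm.trans hk.2.2.1
      have h4 : -(T j).2.2.2 = -(T k).2.2.2 := hj.2.2.2.symm.trans hk.2.2.2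
      exact Prod.ext (neg_injective h1) (Prod.ext (neg_injective h2)
        (Prod.ext (neg_injective h3) (neg_injective h4)))
  let σ : Fin n → ℤ := fun k =>
    if P (idx k) = (T k).1 ∧ Q (idx k) = (T k).2.1 ∧ P' (idx k) = (T k).2.2.1 ∧
      Q' (idx k) = (T k).2.2.2 then 1 else -1
  refine ⟨idx, σ, ?_, fun j => (hmem j).1, ?_, ?_, ?_⟩
  · -- injectivity
    intro j k hjk
    have hT := htype j k hjk
    obtain ⟨e, he⟩ := hE (T k) (hcard k)
    have h1 : idx j = (e ⟨j, hT⟩).1 := (hidx j (T k) hT).trans (he _)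
    have h2 : idx k = (e ⟨k, rfl⟩).1 := he _
    rw [h1, h2] at hjk
    have := e.injective (Subtype.ext hjk)
    exact congrArg Subtype.val this
  · intro j
    show (if _ then (1 : ℤ) else -1) = 1 ∨ (if _ then (1 : ℤ) else -1) = -1
    split_ifs
    · exact Or.inl rfl
    · exact Or.inr rfl
  · intro j
    show P (idx j) = (if _ then (1 : ℤ) else -1) * (T j).1 ∧
      Q (idx j) = (if _ then (1 : ℤ) else -1) * (T j).2.1 ∧
      P' (idx j) = (if _ then (1 : ℤ) else -1) * (T j).2.2.1 ∧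
      Q' (idx j) = (if _ then (1 : ℤ) else -1) * (T j).2.2.2
    split_ifs with hpos
    · simpa using hpos
    · rcases (hmem j).2 with h | h
      · exact absurd h hpos
      · simpa using h
  · -- the other columns vanish
    intro i hi hni
    by_contra hne
    obtain ⟨j, hj⟩ := hzero i hi hne
    obtain ⟨e, he⟩ := hE (T j) (hcard j)
    obtain ⟨k, hk⟩ := e.surjective ⟨i, hi, hj⟩
    apply hni k.1
    rw [hidx k.1 (T j) k.2, he, hk]

end Cfsg.Agent.Lib.Helper57_D72_SHAPEGEN
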