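import Mathlib
import Cfsg.Agent.Lib.Helper62_D72Defs
import Cfsg.Agent.Lib.Helper57_D72_SHAPEGEN

set_option autoImplicit false
set_option maxHeartbeats 1000000
set_option maxRecDepth 4000

namespace Cfsg.Agent.Lib.Helper57_D72_REAL1

open Cfsg.Agent.Lib.Helper62_D72Defs Cfsg.Agent.Lib.Helper57_D72_SHAPEGEN

theorem real1 {ι : Type*} [Fintype ι] {o : ι} {P Q P' Q' : ι → ℤ}
    (hent : ∀ i, i ≠ o → (P i = 0 ∨ P i = 1 ∨ P i = -1) ∧ (Q i = 0 ∨ Q i = 1 ∨ Q i = -1) ∧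
      (P' i = 0 ∨ P' i = 1 ∨ P' i = -1) ∧ (Q' i = 0 ∨ Q' i = 1 ∨ Q' i = -1))
    (c : ℤ → ℤ → ℤ → ℤ → ℕ) (hc : c = cnt o P Q P' Q')
    (h0 : c 0 0 0 1 = 2) (h1 : c 0 0 1 (-1) = 0) (h2 : c 0 0 1 0 = 1) (h3 : c 0 0 1 1 = 0) (h4 : c 0 1 (-1) (-1) = 0) (h5 : c 0 1 (-1) 0 = 0) (h6 : c 0 1 (-1) 1 = 0) (h7 : c 0 1 0 (-1) = 0) (h8 : c 0 1 0 0 = 0) (h9 : c 0 1 0 1 = 0) (h10 : c 0 1 1 (-1) = 0) (h11 : c 0 1 1 0 = 1) (h12 : c 0 1 1 1 = 0) (h13 : c 1 (-1) (-1) (-1) = 0) (h14 : c 1 (-1) (-1) 0 = 0) (h15 : c 1 (-1) (-1) 1 = 0) (h16 : c 1 (-1) 0 (-1) = 0) (h17 : c 1 (-1) 0 0 = 1) (h18 : c 1 (-1) 0 1 = 0) (h19 : c 1 (-1) 1 (-1) = 0) (h20 : c 1 (-1) 1 0 = 0) (h21 : c 1 (-1) 1 1 = 0) (h22 : c 1 0 (-1) (-1) = 0) (h23 : c 1 0 (-1) 0 = 0) (h24 : c 1 0 (-1) 1 = 0) (h25 : c 1 0 0 (-1) = 0) (h26 : c 1 0 0 0 = 0) (h27 : c 1 0 0 1 = 0) (h28 : c 1 0 1 (-1) = 0) (h29 : c 1 0 1 0 = 0) (h30 : c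 1 0 1 1 = 0) (h31 : c 1 1 (-1) (-1) = 0) (h32 : c 1 1 (-1) 0 = 0) (h33 : c 1 1 (-1) 1 = 0) (h34 : c 1 1 0 (-1) = 0) (h35 : c 1 1 0 0 = 0) (h36 : c 1 1 0 1 = 1) (h37 : c 1 1 1 (-1) = 0) (h38 : c 1 1 1 0 = 0) (h39 : c 1 1 1 1 = 1) :
    IsShape o P Q P' Q' T1 := by
  subst hc
  apply shape_of_counts T1
  · decide
  · intro j
    fin_cases j
    · exact h0.trans (by rw [Nat.card_eq_fintype_card, Fintype.card_subtype]; rfl)
    · exact h0.trans (by rw [Nat.card_eq_fintype_card, Fintype.card_subtype]; rfl)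
    · exact h2.trans (by rw [Nat.card_eq_fintype_card, Fintype.card_subtype]; rfl)
    · exact h11.trans (by rw [Nat.card_eq_fintype_card, Fintype.card_subtype]; rfl)
    · exact h17.trans (by rw [Nat.card_eq_fintype_card, Fintype.card_subtype]; rfl)
    · exact h36.trans (by rw [Nat.card_eq_fintype_card, Fintype.card_subtype]; rfl)
    · exact h39.trans (by rw [Nat.card_eq_fintype_card, Fintype.card_subtype]; rfl)
  · intro i hi hne
    obtain ⟨hP, hQ, hP', hQ'⟩ := hent i hi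
    rcases hP with hP | hP | hP
    · rcases hQ with hQ | hQ | hQ
      · rcases hP' with hP' | hP' | hP'
        · rcases hQ' with hQ' | hQ' | hQ'
          · exact absurd ⟨hP, hQ, hP', hQ'⟩ hne
          · exact ⟨0, Or.inl ⟨hP, hQ, hP', hQ'⟩⟩
          · exact ⟨0, Or.inr ⟨hP, hQ, hP', hQ'⟩⟩
        · rcases hQ' with hQ' | hQ' | hQ'
          · exact ⟨2, Or.inl ⟨hP, hQ, hP', hQ'⟩⟩
          · exact absurd (Or.inl ⟨hP, hQ, hP', hQ'⟩) (not_mem_of_cnt_zero h3 i hi)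
          · exact absurd (Or.inl ⟨hP, hQ, hP', hQ'⟩) (not_mem_of_cnt_zero h1 i hi)
        · rcases hQ' with hQ' | hQ' | hQ'
          · exact ⟨2, Or.inr ⟨hP, hQ, hP', hQ'⟩⟩
          · exact absurd (Or.inr ⟨hP, hQ, hP', hQ'⟩) (not_mem_of_cnt_zero h1 i hi)
          · exact absurd (Or.inr ⟨hP, hQ, hP', hQ'⟩) (not_mem_of_cnt_zero h3 i hi)
      · rcases hP' with hP' | hP' | hP'
        · rcases hQ' with hQ' | hQ' | hQ'
          · exact absurd (Or.inl ⟨hP, hQ, hP', hQ'⟩) (not_mem_of_cnt_zero h8 i hi)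
          · exact absurd (Or.inl ⟨hP, hQ, hP', hQ'⟩) (not_mem_of_cnt_zero h9 i hi)
          · exact absurd (Or.inl ⟨hP, hQ, hP', hQ'⟩) (not_mem_of_cnt_zero h7 i hi)
        · rcases hQ' with hQ' | hQ' | hQ'
          · exact ⟨3, Or.inl ⟨hP, hQ, hP', hQ'⟩⟩
          · exact absurd (Or.inl ⟨hP, hQ, hP', hQ'⟩) (not_mem_of_cnt_zero h12 i hi)
          · exact absurd (Or.inl ⟨hP, hQ, hP', hQ'⟩) (not_mem_of_cnt_zero h10 i hi)
        · rcases hQ' with hQ' | hQ' | hQ'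
          · exact absurd (Or.inl ⟨hP, hQ, hP', hQ'⟩) (not_mem_of_cnt_zero h5 i hi)
          · exact absurd (Or.inl ⟨hP, hQ, hP', hQ'⟩) (not_mem_of_cnt_zero h6 i hi)
          · exact absurd (Or.inl ⟨hP, hQ, hP', hQ'⟩) (not_mem_of_cnt_zero h4 i hi)
      · rcases hP' with hP' | hP' | hP'
        · rcases hQ' with hQ' | hQ' | hQ'
          · exact absurd (Or.inr ⟨hP, hQ, hP', hQ'⟩) (not_mem_of_cnt_zero h8 i hi)
          · exact absurd (Or.inr ⟨hP, hQ, hP', hQ'⟩) (not_mem_of_cnt_zero h7 i hi)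
          · exact absurd (Or.inr ⟨hP, hQ, hP', hQ'⟩) (not_mem_of_cnt_zero h9 i hi)
        · rcases hQ' with hQ' | hQ' | hQ'
          · exact absurd (Or.inr ⟨hP, hQ, hP', hQ'⟩) (not_mem_of_cnt_zero h5 i hi)
          · exact absurd (Or.inr ⟨hP, hQ, hP', hQ'⟩) (not_mem_of_cnt_zero h4 i hi)
          · exact absurd (Or.inr ⟨hP, hQ, hP', hQ'⟩) (not_mem_of_cnt_zero h6 i hi)
        · rcases hQ' with hQ' | hQ' | hQ'
          · exact ⟨3, Or.inr ⟨hP, hQ, hP', hQ'⟩⟩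
          · exact absurd (Or.inr ⟨hP, hQ, hP', hQ'⟩) (not_mem_of_cnt_zero h10 i hi)
          · exact absurd (Or.inr ⟨hP, hQ, hP', hQ'⟩) (not_mem_of_cnt_zero h12 i hi)
    · rcases hQ with hQ | hQ | hQ
      · rcases hP' with hP' | hP' | hP'
        · rcases hQ' with hQ' | hQ' | hQ'
          · exact absurd (Or.inl ⟨hP, hQ, hP', hQ'⟩) (not_mem_of_cnt_zero h26 i hi)
          · exact absurd (Or.inl ⟨hP, hQ, hP', hQ'⟩) (not_mem_of_cnt_zero h27 i hi)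
          · exact absurd (Or.inl ⟨hP, hQ, hP', hQ'⟩) (not_mem_of_cnt_zero h25 i hi)
        · rcases hQ' with hQ' | hQ' | hQ'
          · exact absurd (Or.inl ⟨hP, hQ, hP', hQ'⟩) (not_mem_of_cnt_zero h29 i hi)
          · exact absurd (Or.inl ⟨hP, hQ, hP', hQ'⟩) (not_mem_of_cnt_zero h30 i hi)
          · exact absurd (Or.inl ⟨hP, hQ, hP', hQ'⟩) (not_mem_of_cnt_zero h28 i hi)
        · rcases hQ' with hQ' | hQ' | hQ'
          · exact absurd (Or.inl ⟨hP, hQ, hP', hQ'⟩) (not_mem_of_cnt_zero h23 i hi)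
          · exact absurd (Or.inl ⟨hP, hQ, hP', hQ'⟩) (not_mem_of_cnt_zero h24 i hi)
          · exact absurd (Or.inl ⟨hP, hQ, hP', hQ'⟩) (not_mem_of_cnt_zero h22 i hi)
      · rcases hP' with hP' | hP' | hP'
        · rcases hQ' with hQ' | hQ' | hQ'
          · exact absurd (Or.inl ⟨hP, hQ, hP', hQ'⟩) (not_mem_of_cnt_zero h35 i hi)
          · exact ⟨5, Or.inl ⟨hP, hQ, hP', hQ'⟩⟩
          · exact absurd (Or.inl ⟨hP, hQ, hP', hQ'⟩) (not_mem_of_cnt_zero h34 i hi)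
        · rcases hQ' with hQ' | hQ' | hQ'
          · exact absurd (Or.inl ⟨hP, hQ, hP', hQ'⟩) (not_mem_of_cnt_zero h38 i hi)
          · exact ⟨6, Or.inl ⟨hP, hQ, hP', hQ'⟩⟩
          · exact absurd (Or.inl ⟨hP, hQ, hP', hQ'⟩) (not_mem_of_cnt_zero h37 i hi)
        · rcases hQ' with hQ' | hQ' | hQ'
          · exact absurd (Or.inl ⟨hP, hQ, hP', hQ'⟩) (not_mem_of_cnt_zero h32 i hi)
          · exact absurd (Or.inl ⟨hP, hQ, hP', hQ'⟩) (not_mem_of_cnt_zero h33 i hi)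
          · exact absurd (Or.inl ⟨hP, hQ, hP', hQ'⟩) (not_mem_of_cnt_zero h31 i hi)
      · rcases hP' with hP' | hP' | hP'
        · rcases hQ' with hQ' | hQ' | hQ'
          · exact ⟨4, Or.inl ⟨hP, hQ, hP', hQ'⟩⟩
          · exact absurd (Or.inl ⟨hP, hQ, hP', hQ'⟩) (not_mem_of_cnt_zero h18 i hi)
          · exact absurd (Or.inl ⟨hP, hQ, hP', hQ'⟩) (not_mem_of_cnt_zero h16 i hi)
        · rcases hQ' with hQ' | hQ' | hQ'
          · exact absurd (Or.inl ⟨hP, hQ, hP', hQ'⟩) (not_mem_of_cnt_zero h20 i hi)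
          · exact absurd (Or.inl ⟨hP, hQ, hP', hQ'⟩) (not_mem_of_cnt_zero h21 i hi)
          · exact absurd (Or.inl ⟨hP, hQ, hP', hQ'⟩) (not_mem_of_cnt_zero h19 i hi)
        · rcases hQ' with hQ' | hQ' | hQ'
          · exact absurd (Or.inl ⟨hP, hQ, hP', hQ'⟩) (not_mem_of_cnt_zero h14 i hi)
          · exact absurd (Or.inl ⟨hP, hQ, hP', hQ'⟩) (not_mem_of_cnt_zero h15 i hi)
          · exact absurd (Or.inl ⟨hP, hQ, hP', hQ'⟩) (not_mem_of_cnt_zero h13 i hi)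
    · rcases hQ with hQ | hQ | hQ
      · rcases hP' with hP' | hP' | hP'
        · rcases hQ' with hQ' | hQ' | hQ'
          · exact absurd (Or.inr ⟨hP, hQ, hP', hQ'⟩) (not_mem_of_cnt_zero h26 i hi)
          · exact absurd (Or.inr ⟨hP, hQ, hP', hQ'⟩) (not_mem_of_cnt_zero h25 i hi)
          · exact absurd (Or.inr ⟨hP, hQ, hP', hQ'⟩) (not_mem_of_cnt_zero h27 i hi)
        · rcases hQ' with hQ' | hQ' | hQ'
          · exact absurd (Or.inr ⟨hP, hQ, hP', hQ'⟩) (not_mem_of_cnt_zero h23 i hi)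
          · exact absurd (Or.inr ⟨hP, hQ, hP', hQ'⟩) (not_mem_of_cnt_zero h22 i hi)
          · exact absurd (Or.inr ⟨hP, hQ, hP', hQ'⟩) (not_mem_of_cnt_zero h24 i hi)
        · rcases hQ' with hQ' | hQ' | hQ'
          · exact absurd (Or.inr ⟨hP, hQ, hP', hQ'⟩) (not_mem_of_cnt_zero h29 i hi)
          · exact absurd (Or.inr ⟨hP, hQ, hP', hQ'⟩) (not_mem_of_cnt_zero h28 i hi)
          · exact absurd (Or.inr ⟨hP, hQ, hP', hQ'⟩) (not_mem_of_cnt_zero h30 i hi)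
      · rcases hP' with hP' | hP' | hP'
        · rcases hQ' with hQ' | hQ' | hQ'
          · exact ⟨4, Or.inr ⟨hP, hQ, hP', hQ'⟩⟩
          · exact absurd (Or.inr ⟨hP, hQ, hP', hQ'⟩) (not_mem_of_cnt_zero h16 i hi)
          · exact absurd (Or.inr ⟨hP, hQ, hP', hQ'⟩) (not_mem_of_cnt_zero h18 i hi)
        · rcases hQ' with hQ' | hQ' | hQ'
          · exact absurd (Or.inr ⟨hP, hQ, hP', hQ'⟩) (not_mem_of_cnt_zero h14 i hi)
          · exact absurd (Or.inr ⟨hP, hQ, hP', hQ'⟩) (not_mem_of_cnt_zero h13 i hi)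
          · exact absurd (Or.inr ⟨hP, hQ, hP', hQ'⟩) (not_mem_of_cnt_zero h15 i hi)
        · rcases hQ' with hQ' | hQ' | hQ'
          · exact absurd (Or.inr ⟨hP, hQ, hP', hQ'⟩) (not_mem_of_cnt_zero h20 i hi)
          · exact absurd (Or.inr ⟨hP, hQ, hP', hQ'⟩) (not_mem_of_cnt_zero h19 i hi)
          · exact absurd (Or.inr ⟨hP, hQ, hP', hQ'⟩) (not_mem_of_cnt_zero h21 i hi)
      · rcases hP' with hP' | hP' | hP'
        · rcases hQ' with hQ' | hQ' | hQ'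
          · exact absurd (Or.inr ⟨hP, hQ, hP', hQ'⟩) (not_mem_of_cnt_zero h35 i hi)
          · exact absurd (Or.inr ⟨hP, hQ, hP', hQ'⟩) (not_mem_of_cnt_zero h34 i hi)
          · exact ⟨5, Or.inr ⟨hP, hQ, hP', hQ'⟩⟩
        · rcases hQ' with hQ' | hQ' | hQ'
          · exact absurd (Or.inr ⟨hP, hQ, hP', hQ'⟩) (not_mem_of_cnt_zero h32 i hi)
          · exact absurd (Or.inr ⟨hP, hQ, hP', hQ'⟩) (not_mem_of_cnt_zero h31 i hi)
          · exact absurd (Or.inr ⟨hP, hQ, hP', hQ'⟩) (not_mem_of_cnt_zero h33 i hi)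
        · rcases hQ' with hQ' | hQ' | hQ'
          · exact absurd (Or.inr ⟨hP, hQ, hP', hQ'⟩) (not_mem_of_cnt_zero h38 i hi)
          · exact absurd (Or.inr ⟨hP, hQ, hP', hQ'⟩) (not_mem_of_cnt_zero h37 i hi)
          · exact ⟨6, Or.inr ⟨hP, hQ, hP', hQ'⟩⟩

end Cfsg.Agent.Lib.Helper57_D72_REAL1
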