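import Mathlib
import Cfsg.Agent.Lib.Helper57_CycSum

/-!
# The trace of a real cyclotomic integer of `2`-power conductor (helper57)

`diag_trace`: for `2^n`-th roots of unity `c_i` and a symmetric integer matrix `W` with odd total
sum, the sum over the odd `j < 2^(n+1)` of `∑_{i,i'} W_{ii'} (c_i conj c_i')^j` is `2^n T` with
`T` an odd integer.
-/

set_option autoImplicit false

namespace Cfsg.Agent.Lib.Helper57_DiagTrace

open Finset
open scoped ComplexConjugate
open Cfsg.Agent.Lib.Helper57_CycSum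

/-- The odd residues below `2^(n+1)`. -/
theorem filter_coprime_two_pow (n : ℕ) :
    (range (2 ^ (n + 1))).filter (fun j => j.Coprime (2 ^ (n + 1))) =
      (range (2 ^ n)).image (fun i => 2 * i + 1) := by
  ext j
  simp only [mem_filter, mem_range, mem_image]
  have hcop : j.Coprime (2 ^ (n + 1)) ↔ ¬ 2 ∣ j := by
    rw [Nat.coprime_pow_right_iff (Nat.succ_pos n), Nat.coprime_comm,
      Nat.Prime.coprime_iff_not_dvd Nat.prime_two]
  rw [hcop]
  constructor
  · rintro ⟨hj, hodd⟩
    refine ⟨j / 2, ?_, ?_⟩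
    · rw [pow_succ] at hj
      omega
    · omega
  · rintro ⟨i, hi, rfl⟩
    refine ⟨?_, by omega⟩
    rw [pow_succ]
    omega

/-- The sum of the odd powers of a `2^n`-th root of unity. -/
theorem sum_odd_pow (n : ℕ) {ε : ℂ} (h : ε ^ (2 ^ n) = 1) :
    ∑ i ∈ range (2 ^ n), ε ^ (2 * i + 1) =
      if ε * ε = 1 then (2 ^ n : ℂ) * ε else 0 := by
  have h1 : ∀ i, ε ^ (2 * i + 1) = ε * (ε * ε) ^ i := by
    intro i
    rw [pow_succ, pow_mul, sq]
    ring
  simp_rw [h1]
  rw [← mul_sum]
  have h2 : (ε * ε) ^ (2 ^ n) = 1 := by rw [mul_pow, h, one_mul]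
  rw [sum_pow_of_pow_eq_one h2]
  split_ifs with h3
  · push_cast
    ring
  · rw [mul_zero]

/-- **The trace of a real cyclotomic integer with odd coefficient sum is `2^n` times an odd
integer.** -/
theorem diag_trace {ι : Type*} [DecidableEq ι] (s : Finset ι) (n : ℕ) (c : ι → ℂ)
    (hc : ∀ i, c i ^ (2 ^ n) = 1) (W : ι → ι → ℤ) (hW : ∀ i i', W i i' = W i' i)
    (hodd : Odd (∑ i ∈ s, ∑ i' ∈ s, W i i')) :
    ∃ T : ℤ, Odd T ∧
      ∑ j ∈ (range (2 ^ (n + 1))).filter (fun j => j.Coprime (2 ^ (n + 1))),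
        ∑ i ∈ s, ∑ i' ∈ s, (W i i' : ℂ) * (c i * conj (c i')) ^ j = (2 ^ n : ℂ) * (T : ℂ) := by
  classical
  have h2n : (2 ^ n : ℕ) ≠ 0 := pow_ne_zero _ two_ne_zero
  have hnorm : ∀ i, ‖c i‖ = 1 := fun i => Complex.norm_eq_one_of_pow_eq_one (hc i) h2n
  have hconj : ∀ i, conj (c i) = (c i)⁻¹ := fun i => (Complex.inv_eq_conj (hnorm i)).symm
  have hc0 : ∀ i, c i ≠ 0 := fun i h0 => by
    have := hnorm i
    rw [h0, norm_zero] at this
    exact zero_ne_one this
  set ε : ι × ι → ℂ := fun x => c x.1 * conj (c x.2) with hε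
  have hεpow : ∀ x, ε x ^ (2 ^ n) = 1 := by
    intro x
    simp only [hε]
    rw [mul_pow, ← map_pow, hc, hc, map_one, mul_one]
  have hεswap : ∀ x : ι × ι, ε x.swap = conj (ε x) := by
    intro x
    simp only [hε, Prod.fst_swap, Prod.snd_swap, map_mul, Complex.conj_conj]
    ring
  have hεdiag : ∀ x : ι × ι, x.1 = x.2 → ε x = 1 := by
    intro x hx
    simp only [hε]
    rw [hx, hconj, mul_inv_cancel₀ (hc0 _)]
  -- the sign function
  set σ : ι × ι → ℤ := fun x => if ε x = 1 then 1 else if ε x = -1 then -1 else 0 with hσ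
  have hσε : ∀ x, (if ε x * ε x = 1 then (2 ^ n : ℂ) * ε x else 0) = (2 ^ n : ℂ) * (σ x : ℂ) := by
    intro x
    simp only [hσ]
    by_cases h1 : ε x = 1
    · rw [if_pos h1, h1, if_pos (by norm_num)]
      push_cast
      rfl
    · by_cases h2 : ε x = -1
      · rw [if_neg h1, if_pos h2, h2, if_pos (by norm_num)]
        push_cast
        rfl
      · rw [if_neg h1, if_neg h2, if_neg]
        · push_cast
          ring
        · intro h3
          rcases mul_self_eq_one_iff.mp h3 with h | h
          · exact h1 h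
          · exact h2 h
  refine ⟨∑ x ∈ s ×ˢ s, W x.1 x.2 * σ x, ?_, ?_⟩
  · -- parity
    rw [← ZMod.intCast_eq_one_iff_odd]
    have hodd' : ((∑ x ∈ s ×ˢ s, W x.1 x.2 : ℤ) : ZMod 2) = 1 := by
      rw [ZMod.intCast_eq_one_iff_odd, sum_product]
      exact hodd
    set f : ι × ι → ZMod 2 := fun x => if ε x * ε x = 1 then 0 else (W x.1 x.2 : ZMod 2) with hf
    have hfsum : ∑ x ∈ s ×ˢ s, f x = 0 := by
      refine sum_involution (fun x _ => x.swap) ?_ ?_ ?_ ?_
      · intro x _
        simp only [hf]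
        have hiff : ε x.swap * ε x.swap = 1 ↔ ε x * ε x = 1 := by
          rw [hεswap, ← map_mul]
          constructor
          · intro h
            have := congrArg conj h
            rwa [Complex.conj_conj, map_one] at this
          · intro h
            rw [h, map_one]
        by_cases h : ε x * ε x = 1
        · rw [if_pos h, if_pos (hiff.mpr h), add_zero]
        · rw [if_neg h, if_neg (fun h' => h (hiff.mp h')), Prod.fst_swap, Prod.snd_swap, hW x.2 x.1]
          exact CharTwo.add_self_eq_zero _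
      · intro x _ hne hfix
        apply hne
        simp only [hf]
        have hx : x.1 = x.2 := by
          have := congrArg Prod.fst hfix
          simpa using this.symm
        rw [if_pos]
        rw [hεdiag x hx, one_mul]
      · intro x hx
        rw [mem_product] at hx ⊢
        exact ⟨hx.2, hx.1⟩
      · intro x _
        exact Prod.swap_swap x
    have hT : ((∑ x ∈ s ×ˢ s, W x.1 x.2 * σ x : ℤ) : ZMod 2) =
        ((∑ x ∈ s ×ˢ s, W x.1 x.2 : ℤ) : ZMod 2) - ∑ x ∈ s ×ˢ s, f x := by
      push_cast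
      rw [← sum_sub_distrib]
      refine sum_congr rfl fun x _ => ?_
      simp only [hσ, hf]
      by_cases h1 : ε x = 1
      · rw [if_pos h1, if_pos (by rw [h1, one_mul])]
        push_cast
        ring
      · by_cases h2 : ε x = -1
        · rw [if_neg h1, if_pos h2, if_pos (by rw [h2]; norm_num)]
          push_cast
          have : (-1 : ZMod 2) = 1 := by decide
          rw [this]
          ring
        · rw [if_neg h1, if_neg h2, if_neg]
          · push_cast
            ring
          · intro h3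
            rcases mul_self_eq_one_iff.mp h3 with h | h
            · exact h1 h
            · exact h2 h
    rw [hT, hfsum, sub_zero, hodd']
  · -- the value
    rw [filter_coprime_two_pow, sum_image (fun a _ b _ h => by omega)]
    have h1 : ∀ j : ℕ, ∑ i ∈ s, ∑ i' ∈ s, (W i i' : ℂ) * (c i * conj (c i')) ^ j =
        ∑ x ∈ s ×ˢ s, (W x.1 x.2 : ℂ) * ε x ^ j := by
      intro j
      rw [sum_product]
    simp_rw [h1]
    rw [sum_comm]
    have h2 : ∀ x ∈ s ×ˢ s, ∑ i ∈ range (2 ^ n), (W x.1 x.2 : ℂ) * ε x ^ (2 * i + 1) =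
        (2 ^ n : ℂ) * ((W x.1 x.2 * σ x : ℤ) : ℂ) := by
      intro x _
      rw [← mul_sum, sum_odd_pow n (hεpow x), hσε]
      push_cast
      ring
    rw [sum_congr rfl h2, ← mul_sum]
    push_cast
    rfl

end Cfsg.Agent.Lib.Helper57_DiagTrace
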