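import Mathlib
import Cfsg.Agent.Lib.Helper57_CycSum

/-!
# A Fourier lower bound for positive semidefinite integral forms (helper57)

Let `β` be a symmetric positive semidefinite integral bilinear form on an abelian group `V` all of
whose nonzero values `β x x` are at least `c`.  For vectors `v_i ∈ V` and `p^n`-th roots of unity
`ε_i`, the sum over `j < p^n` prime to `p` of `∑_{i, i'} β(v_i, v_i') (ε_i conj ε_i')^j` is a
rational integer which is either `0` or at least `c φ(p^n)` (`quad_cyc_sum`).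
-/

set_option autoImplicit false

namespace Cfsg.Agent.Lib.Helper57_QuadFourier

open Finset
open scoped ComplexConjugate
open Cfsg.Agent.Lib.Helper57_CycSum

/-- The Ramanujan sum for a prime power modulus. -/
theorem ramanujan {p q : ℕ} (hp : 0 < p) {δ : ℂ} (h : δ ^ (p * q) = 1) :
    ∑ j ∈ (range (p * q)).filter (fun j => ¬ p ∣ j), δ ^ j =
      (if δ = 1 then ((p * q : ℕ) : ℂ) else 0) - (if δ ^ p = 1 then (q : ℂ) else 0) := by
  have hsplit : ∑ j ∈ (range (p * q)).filter (fun j => ¬ p ∣ j), δ ^ j =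
      ∑ j ∈ range (p * q), δ ^ j - ∑ j ∈ (range (p * q)).filter (fun j => p ∣ j), δ ^ j := by
    rw [← sum_filter_add_sum_filter_not (range (p * q)) (fun j => p ∣ j)]
    ring
  rw [hsplit, sum_pow_of_pow_eq_one h, filter_dvd_range_mul hp, sum_image]
  · have h2 : (δ ^ p) ^ q = 1 := by rw [← pow_mul]; exact h
    simp_rw [pow_mul]
    rw [sum_pow_of_pow_eq_one h2]
  · intro x _ y _ hxy
    exact Nat.eq_of_mul_eq_mul_left hp hxy

section Form

variable {V : Type*} [AddCommGroup V] (β : LinearMap.BilinForm ℤ V)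

theorem form_sub_self (x y : V) :
    β (x - y) (x - y) = β x x + β y y - (β x y + β y x) := by
  simp only [map_sub, LinearMap.sub_apply]
  ring

theorem form_sum_sum {ι : Type*} (s : Finset ι) (x : ι → V) :
    β (∑ t ∈ s, x t) (∑ t ∈ s, x t) = ∑ t ∈ s, ∑ t' ∈ s, β (x t) (x t') := by
  simp only [map_sum, LinearMap.sum_apply]
  exact sum_comm

/-- Lagrange's identity. -/
theorem lagrange_id (hsym : ∀ x y, β x y = β y x) (p : ℕ) (x : ℕ → V) :
    ∑ t ∈ range p, ∑ t' ∈ range p, β (x t - x t') (x t - x t') =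
      2 * ((p : ℤ) * ∑ t ∈ range p, β (x t) (x t) -
        β (∑ t ∈ range p, x t) (∑ t ∈ range p, x t)) := by
  rw [form_sum_sum]
  simp_rw [form_sub_self, hsym _ _]
  simp only [sum_sub_distrib, sum_add_distrib, sum_const, card_range, nsmul_eq_mul]
  rw [← mul_sum]
  ring

/-- On the kernel of a positive semidefinite form the bilinear form vanishes. -/
theorem form_eq_zero_of_ker (hsym : ∀ x y, β x y = β y x) (hpsd : ∀ x, 0 ≤ β x x) {a b : V}
    (ha : β a a = 0) (hb : β b b = 0) : β a b = 0 := by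
  have h1 := hpsd (a + b)
  have h2 := hpsd (a - b)
  simp only [map_add, map_sub, LinearMap.add_apply, LinearMap.sub_apply] at h1 h2
  rw [ha, hb, hsym b a] at h1 h2
  linarith

theorem ker_sub (hsym : ∀ x y, β x y = β y x) (hpsd : ∀ x, 0 ≤ β x x) {a b : V}
    (ha : β a a = 0) (hb : β b b = 0) : β (a - b) (a - b) = 0 := by
  rw [form_sub_self, ha, hb, hsym b a, form_eq_zero_of_ker β hsym hpsd ha hb]
  ring

theorem qslots_nonneg (hsym : ∀ x y, β x y = β y x) (hpsd : ∀ x, 0 ≤ β x x) (p : ℕ)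
    (x : ℕ → V) :
    0 ≤ (p : ℤ) * ∑ t ∈ range p, β (x t) (x t) -
        β (∑ t ∈ range p, x t) (∑ t ∈ range p, x t) := by
  have h := lagrange_id β hsym p x
  have h2 : 0 ≤ ∑ t ∈ range p, ∑ t' ∈ range p, β (x t - x t') (x t - x t') :=
    sum_nonneg fun t _ => sum_nonneg fun t' _ => hpsd _
  omega

/-- If the nonzero values of a positive semidefinite form are at least `c`, then
`p ∑ β(x_t, x_t) - β(∑ x_t, ∑ x_t)` is `0` or at least `c (p - 1)`. -/
theorem qslots (hsym : ∀ x y, β x y = β y x) (hpsd : ∀ x, 0 ≤ β x x) (c : ℤ) (hc0 : 0 ≤ c)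
    (hc : ∀ x, β x x = 0 ∨ c ≤ β x x) (p : ℕ) (x : ℕ → V) :
    (p : ℤ) * ∑ t ∈ range p, β (x t) (x t) -
        β (∑ t ∈ range p, x t) (∑ t ∈ range p, x t) = 0 ∨
      c * ((p : ℤ) - 1) ≤ (p : ℤ) * ∑ t ∈ range p, β (x t) (x t) -
        β (∑ t ∈ range p, x t) (∑ t ∈ range p, x t) := by
  classical
  have h2D := lagrange_id β hsym p x
  set D := (p : ℤ) * ∑ t ∈ range p, β (x t) (x t) -
        β (∑ t ∈ range p, x t) (∑ t ∈ range p, x t) with hD
  set G : ℕ → ℕ → ℤ := fun t t' => β (x t - x t') (x t - x t') with hG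
  have hG0 : ∀ t t', 0 ≤ G t t' := fun t t' => hpsd _
  have hGsym : ∀ t t', G t t' = G t' t := by
    intro t t'
    simp only [hG]
    rw [← neg_sub (x t') (x t)]
    simp only [map_neg, LinearMap.neg_apply, neg_neg]
  by_cases hall : ∀ t ∈ range p, ∀ t' ∈ range p, G t t' = 0
  · left
    have : ∑ t ∈ range p, ∑ t' ∈ range p, G t t' = 0 :=
      sum_eq_zero fun t ht => sum_eq_zero fun t' ht' => hall t ht t' ht'
    simp only [hG] at this
    omega
  · right
    push Not at hall
    obtain ⟨t1, ht1, t2, ht2, hne⟩ := hall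
    set Z := (range p).filter (fun t => G t t1 = 0) with hZ
    set Zc := (range p).filter (fun t => ¬ G t t1 = 0) with hZc
    have ht1Z : t1 ∈ Z := by
      rw [hZ, mem_filter]
      refine ⟨ht1, ?_⟩
      simp only [hG]
      rw [sub_self, map_zero]
    have ht2Z : t2 ∈ Zc := by
      rw [hZc, mem_filter]
      refine ⟨ht2, ?_⟩
      rw [hGsym]
      exact hne
    have hcard : Z.card + Zc.card = p := by
      rw [hZ, hZc, card_filter_add_card_filter_not, card_range]
    have hZ1 : 1 ≤ Z.card := card_pos.mpr ⟨t1, ht1Z⟩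
    have hZc1 : 1 ≤ Zc.card := card_pos.mpr ⟨t2, ht2Z⟩
    have hcross : ∀ t ∈ Z, ∀ t' ∈ Zc, c ≤ G t t' := by
      intro t ht t' ht'
      rcases hc (x t - x t') with h0 | h
      · exfalso
        have h1 : G t t1 = 0 := (mem_filter.mp ht).2
        have h3 := ker_sub β hsym hpsd h1 h0
        have h4 : x t - x t1 - (x t - x t') = x t' - x t1 := by abel
        rw [h4] at h3
        exact (mem_filter.mp ht').2 h3
      · exact h
    have hsplit : ∑ t ∈ range p, ∑ t' ∈ range p, G t t' =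
        ∑ t ∈ Z, ∑ t' ∈ range p, G t t' + ∑ t ∈ Zc, ∑ t' ∈ range p, G t t' := by
      rw [hZ, hZc, sum_filter_add_sum_filter_not]
    have hlow1 : (Z.card : ℤ) * (Zc.card : ℤ) * c ≤ ∑ t ∈ Z, ∑ t' ∈ range p, G t t' := by
      have h1 : ∀ t ∈ Z, (Zc.card : ℤ) * c ≤ ∑ t' ∈ range p, G t t' := by
        intro t ht
        have h2 : ∑ t' ∈ Zc, G t t' ≤ ∑ t' ∈ range p, G t t' :=
          sum_le_sum_of_subset_of_nonneg (filter_subset _ _) fun t' _ _ => hG0 t t'
        have h3 : ∑ _t' ∈ Zc, c ≤ ∑ t' ∈ Zc, G t t' := sum_le_sum fun t' ht' => hcross t ht t' ht'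
        rw [sum_const, nsmul_eq_mul] at h3
        linarith
      have h4 := sum_le_sum h1
      rw [sum_const, nsmul_eq_mul] at h4
      linarith
    have hlow2 : (Z.card : ℤ) * (Zc.card : ℤ) * c ≤ ∑ t ∈ Zc, ∑ t' ∈ range p, G t t' := by
      have h1 : ∀ t ∈ Zc, (Z.card : ℤ) * c ≤ ∑ t' ∈ range p, G t t' := by
        intro t ht
        have h2 : ∑ t' ∈ Z, G t t' ≤ ∑ t' ∈ range p, G t t' :=
          sum_le_sum_of_subset_of_nonneg (filter_subset _ _) fun t' _ _ => hG0 t t'
        have h3 : ∑ _t' ∈ Z, c ≤ ∑ t' ∈ Z, G t t' :=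
          sum_le_sum fun t' ht' => by rw [hGsym]; exact hcross t' ht' t ht
        rw [sum_const, nsmul_eq_mul] at h3
        linarith
      have h4 := sum_le_sum h1
      rw [sum_const, nsmul_eq_mul] at h4
      linarith
    have hprod : (p : ℤ) - 1 ≤ (Z.card : ℤ) * (Zc.card : ℤ) := by
      have h1 : (1 : ℤ) ≤ Z.card := by exact_mod_cast hZ1
      have h2 : (1 : ℤ) ≤ Zc.card := by exact_mod_cast hZc1
      have h3 : (Z.card : ℤ) + Zc.card = p := by exact_mod_cast hcard
      nlinarith [mul_nonneg (sub_nonneg.mpr h1) (sub_nonneg.mpr h2)]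
    have hfin : c * ((p : ℤ) - 1) ≤ (Z.card : ℤ) * (Zc.card : ℤ) * c := by
      nlinarith
    simp only [hG] at hsplit hlow1 hlow2
    linarith

/-- Grouping a diagonal double sum by the fibres of a labelling. -/
theorem sum_diag_fiber {ι : Type*} (s : Finset ι) (g : ι → ℕ) (T : Finset ℕ)
    (hg : ∀ i ∈ s, g i ∈ T) (v : ι → V) :
    ∑ i ∈ s, ∑ i' ∈ s, (if g i = g i' then β (v i) (v i') else 0) =
      ∑ a ∈ T, β (∑ i ∈ s with g i = a, v i) (∑ i ∈ s with g i = a, v i) := by
  classical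
  rw [← sum_fiberwise_of_maps_to hg]
  refine sum_congr rfl fun a _ => ?_
  rw [form_sum_sum]
  refine sum_congr rfl fun i hi => ?_
  rw [sum_filter]
  refine sum_congr rfl fun i' _ => ?_
  rw [(mem_filter.mp hi).2]
  simp only [eq_comm]

/-- Regrouping the fibres modulo `q`. -/
theorem sum_fiber_mod {ι : Type*} (s : Finset ι) (k : ι → ℕ) {p q : ℕ} (hq : 0 < q)
    (hk : ∀ i, k i < p * q) (v : ι → V) {r : ℕ} (hr : r < q) :
    ∑ i ∈ s with k i % q = r, v i = ∑ t ∈ range p, ∑ i ∈ s with k i = t * q + r, v i := by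
  classical
  simp_rw [sum_filter]
  rw [sum_comm]
  refine sum_congr rfl fun i _ => ?_
  by_cases h : k i % q = r
  · rw [if_pos h]
    have hdiv : k i / q < p := Nat.div_lt_of_lt_mul (by rw [mul_comm]; exact hk i)
    have hiff : ∀ t, k i = t * q + r ↔ t = k i / q := by
      intro t
      constructor
      · intro ht
        rw [ht, mul_comm, Nat.mul_add_div hq, Nat.div_eq_of_lt hr, add_zero]
      · intro ht
        rw [ht, ← h, mul_comm]
        exact (Nat.div_add_mod (k i) q).symm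
    simp_rw [hiff]
    rw [sum_ite_eq' (range p) (k i / q), if_pos (mem_range.mpr hdiv)]
  · rw [if_neg h]
    symm
    refine sum_eq_zero fun t _ => ?_
    rw [if_neg]
    intro ht
    apply h
    rw [ht, mul_comm, Nat.mul_add_mod, Nat.mod_eq_of_lt hr]

/-- **A Fourier lower bound for positive semidefinite integral forms.** -/
theorem quad_cyc_sum {p : ℕ} (hp : p.Prime) (n : ℕ) (hsym : ∀ x y, β x y = β y x)
    (hpsd : ∀ x, 0 ≤ β x x) (c : ℤ) (hc0 : 0 ≤ c) (hc : ∀ x, β x x = 0 ∨ c ≤ β x x)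
    {ι : Type*} (s : Finset ι) (ε : ι → ℂ) (hε : ∀ i, ε i ^ (p ^ n) = 1) (v : ι → V) :
    ∃ S : ℤ, (S = 0 ∨ c * ((p ^ n).totient : ℤ) ≤ S) ∧
      ∑ j ∈ (range (p ^ n)).filter (fun j => j.Coprime (p ^ n)),
        ∑ i ∈ s, ∑ i' ∈ s, (β (v i) (v i') : ℂ) * (ε i * conj (ε i')) ^ j = (S : ℂ) := by
  classical
  rcases n with _ | m
  · refine ⟨β (∑ i ∈ s, v i) (∑ i ∈ s, v i), ?_, ?_⟩
    · simp only [pow_zero, Nat.totient_one, Nat.cast_one, mul_one]
      exact hc _
    · have hfil : (range (p ^ 0)).filter (fun j => j.Coprime (p ^ 0)) = {0} := by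
        ext j
        simp
      rw [hfil, sum_singleton, form_sum_sum]
      push_cast
      simp only [pow_zero, mul_one]
  · have hN : p ^ (m + 1) = p * p ^ m := pow_succ' p m
    set q := p ^ m with hq
    have hq0 : 0 < q := pow_pos hp.pos m
    have hN0 : p * q ≠ 0 := mul_ne_zero hp.ne_zero hq0.ne'
    have : NeZero (p * q) := ⟨hN0⟩
    set ω : ℂ := Complex.exp (2 * Real.pi * Complex.I / ((p * q : ℕ) : ℂ)) with hωdef
    have hω : IsPrimitiveRoot ω (p * q) := Complex.isPrimitiveRoot_exp _ hN0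
    have hωp : IsPrimitiveRoot (ω ^ p) q := by
      have := hω.pow_of_dvd hp.ne_zero (dvd_mul_right p q)
      rwa [Nat.mul_div_cancel_left q hp.pos] at this
    have hk : ∀ i, ∃ k < p * q, ω ^ k = ε i := fun i =>
      hω.eq_pow_of_pow_eq_one (by rw [← hN]; exact hε i)
    choose k hklt hkε using hk
    have hconj : ∀ i, conj (ε i) = (ε i)⁻¹ := by
      intro i
      have hnorm : ‖ε i‖ = 1 :=
        Complex.norm_eq_one_of_pow_eq_one (hε i) (pow_ne_zero _ hp.ne_zero)
      exact (Complex.inv_eq_conj hnorm).symm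
    have hε0 : ∀ i, ε i ≠ 0 := by
      intro i h0
      have := hε i
      rw [h0, zero_pow (pow_ne_zero _ hp.ne_zero)] at this
      exact zero_ne_one this
    have hδN : ∀ i i', (ε i * conj (ε i')) ^ (p * q) = 1 := by
      intro i i'
      rw [mul_pow, ← map_pow, ← hN, hε, hε, map_one, mul_one]
    have hδ1 : ∀ i i', ε i * conj (ε i') = 1 ↔ k i = k i' := by
      intro i i'
      rw [hconj, ← div_eq_mul_inv, div_eq_one_iff_eq (hε0 i'), ← hkε i, ← hkε i']
      exact ⟨fun h => hω.pow_inj (hklt i) (hklt i') h, fun h => by rw [h]⟩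
    have hmod : ∀ a : ℕ, (ω ^ p) ^ a = (ω ^ p) ^ (a % q) := by
      intro a
      conv_lhs => rw [← Nat.div_add_mod a q, pow_add, pow_mul, hωp.pow_eq_one, one_pow, one_mul]
    have hδp : ∀ i i', (ε i * conj (ε i')) ^ p = 1 ↔ k i % q = k i' % q := by
      intro i i'
      rw [hconj, ← div_eq_mul_inv, div_pow, div_eq_one_iff_eq (pow_ne_zero _ (hε0 i')),
        ← hkε i, ← hkε i', ← pow_mul, ← pow_mul, mul_comm (k i), mul_comm (k i'), pow_mul,
        pow_mul, hmod (k i), hmod (k i')]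
      exact ⟨fun h => hωp.pow_inj (Nat.mod_lt _ hq0) (Nat.mod_lt _ hq0) h, fun h => by rw [h]⟩
    have hfil : (range (p ^ (m + 1))).filter (fun j => j.Coprime (p ^ (m + 1))) =
        (range (p * q)).filter (fun j => ¬ p ∣ j) := by
      rw [hN]
      refine filter_congr fun j _ => ?_
      rw [← hN, Nat.coprime_pow_right_iff (Nat.succ_pos m), Nat.coprime_comm,
        hp.coprime_iff_not_dvd]
    rw [hfil]
    have hswap : ∑ j ∈ (range (p * q)).filter (fun j => ¬ p ∣ j),
        ∑ i ∈ s, ∑ i' ∈ s, (β (v i) (v i') : ℂ) * (ε i * conj (ε i')) ^ j =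
        ∑ i ∈ s, ∑ i' ∈ s, (β (v i) (v i') : ℂ) *
          ∑ j ∈ (range (p * q)).filter (fun j => ¬ p ∣ j), (ε i * conj (ε i')) ^ j := by
      rw [sum_comm]
      refine sum_congr rfl fun i _ => ?_
      rw [sum_comm]
      refine sum_congr rfl fun i' _ => ?_
      rw [mul_sum]
    rw [hswap]
    have hterm : ∀ i i', (β (v i) (v i') : ℂ) *
          ∑ j ∈ (range (p * q)).filter (fun j => ¬ p ∣ j), (ε i * conj (ε i')) ^ j =
        (((p * q : ℕ) : ℤ) * (if k i = k i' then β (v i) (v i') else 0) -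
          (q : ℤ) * (if k i % q = k i' % q then β (v i) (v i') else 0) : ℤ) := by
      intro i i'
      rw [ramanujan hp.pos (hδN i i')]
      simp only [hδ1, hδp]
      push_cast
      split_ifs <;> ring
    simp_rw [hterm]
    set X : ℕ → V := fun a => ∑ i ∈ s with k i = a, v i with hX
    set D : ℕ → ℤ := fun r => (p : ℤ) * ∑ t ∈ range p, β (X (t * q + r)) (X (t * q + r)) -
      β (∑ t ∈ range p, X (t * q + r)) (∑ t ∈ range p, X (t * q + r)) with hD
    have hP1 : ∑ i ∈ s, ∑ i' ∈ s, (if k i = k i' then β (v i) (v i') else 0) =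
        ∑ r ∈ range q, ∑ t ∈ range p, β (X (t * q + r)) (X (t * q + r)) := by
      rw [sum_diag_fiber β s k (range (p * q)) (fun i _ => mem_range.mpr (hklt i)) v,
        sum_range_mul_eq, sum_comm]
    have hP2 : ∑ i ∈ s, ∑ i' ∈ s, (if k i % q = k i' % q then β (v i) (v i') else 0) =
        ∑ r ∈ range q, β (∑ t ∈ range p, X (t * q + r)) (∑ t ∈ range p, X (t * q + r)) := by
      rw [sum_diag_fiber β s (fun i => k i % q) (range q)
        (fun i _ => mem_range.mpr (Nat.mod_lt _ hq0)) v]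
      refine sum_congr rfl fun r hr => ?_
      rw [sum_fiber_mod s k hq0 hklt v (mem_range.mp hr)]
    have htot : ∑ i ∈ s, ∑ i' ∈ s,
        (((p * q : ℕ) : ℤ) * (if k i = k i' then β (v i) (v i') else 0) -
          (q : ℤ) * (if k i % q = k i' % q then β (v i) (v i') else 0)) =
        (q : ℤ) * ∑ r ∈ range q, D r := by
      simp only [sum_sub_distrib, ← mul_sum]
      rw [hP1, hP2]
      simp only [hD, sum_sub_distrib, ← mul_sum]
      push_cast
      ring
    refine ⟨(q : ℤ) * ∑ r ∈ range q, D r, ?_, ?_⟩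
    · have hDnn : ∀ r, 0 ≤ D r := fun r => qslots_nonneg β hsym hpsd p _
      have hDalt : ∀ r, D r = 0 ∨ c * ((p : ℤ) - 1) ≤ D r := fun r =>
        qslots β hsym hpsd c hc0 hc p _
      by_cases hall : ∀ r ∈ range q, D r = 0
      · left
        rw [sum_eq_zero hall, mul_zero]
      · right
        push Not at hall
        obtain ⟨r₀, hr₀, hne⟩ := hall
        have h1 : c * ((p : ℤ) - 1) ≤ D r₀ := (hDalt r₀).resolve_left hne
        have h2 : D r₀ ≤ ∑ r ∈ range q, D r :=
          single_le_sum (f := D) (fun r _ => hDnn r) hr₀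
        rw [Nat.totient_prime_pow_succ hp]
        push_cast [Nat.cast_sub hp.one_le]
        have hq' : (0 : ℤ) ≤ (q : ℤ) := Nat.cast_nonneg q
        have h3 : (q : ℤ) * (c * ((p : ℤ) - 1)) ≤ (q : ℤ) * ∑ r ∈ range q, D r :=
          mul_le_mul_of_nonneg_left (h1.trans h2) hq'
        rw [hq] at h3 ⊢
        push_cast at h3 ⊢
        linarith
    · rw [← htot]
      push_cast
      rfl

end Form

end Cfsg.Agent.Lib.Helper57_QuadFourier
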