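import Mathlib
import Cfsg.Agent.Lib.Helper57_QuadFourier

/-!
# The Fourier identity for `2`-power roots of unity (helper57)

For a symmetric integral bilinear form `β`, vectors `v_i` and `2^(m+1)`-th roots of unity `ε_i`
there are a `ω` with `ω ^ (2 ^ m) = -1` and vectors `Y_r` (`r < 2 ^ m`) with
`∑_i β(v_i, x) ε_i = ∑_r β(Y_r, x) ω^r` for all `x` and
`∑_{j odd} ∑_{i, i'} β(v_i, v_i') (ε_i conj ε_i')^j = 2^m ∑_r β(Y_r, Y_r)`.
-/

set_option autoImplicit false

namespace Cfsg.Agent.Lib.Helper57_QuadFourierTwo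

open Finset
open scoped ComplexConjugate
open Cfsg.Agent.Lib.Helper57_CycSum Cfsg.Agent.Lib.Helper57_QuadFourier

variable {V : Type*} [AddCommGroup V] (β : LinearMap.BilinForm ℤ V)

/-- The exact Fourier identity, for a prime `p`. -/
theorem quad_cyc_formula {p q : ℕ} (hp : p.Prime) (hq0 : 0 < q) {ω : ℂ}
    (hω : IsPrimitiveRoot ω (p * q)) {ι : Type*} (s : Finset ι) (k : ι → ℕ)
    (hklt : ∀ i, k i < p * q) (v : ι → V) :
    ∑ j ∈ (range (p * q)).filter (fun j => ¬ p ∣ j),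
        ∑ i ∈ s, ∑ i' ∈ s, (β (v i) (v i') : ℂ) * (ω ^ k i * conj (ω ^ k i')) ^ j =
      (((q : ℤ) * ∑ r ∈ range q, ((p : ℤ) * ∑ t ∈ range p,
          β (∑ i ∈ s with k i = t * q + r, v i) (∑ i ∈ s with k i = t * q + r, v i) -
        β (∑ t ∈ range p, ∑ i ∈ s with k i = t * q + r, v i)
          (∑ t ∈ range p, ∑ i ∈ s with k i = t * q + r, v i)) : ℤ) : ℂ) := by
  classical
  have hN0 : p * q ≠ 0 := mul_ne_zero hp.ne_zero hq0.ne'
  have hωp : IsPrimitiveRoot (ω ^ p) q := by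
    have := hω.pow_of_dvd hp.ne_zero (dvd_mul_right p q)
    rwa [Nat.mul_div_cancel_left q hp.pos] at this
  have hεN : ∀ i, (ω ^ k i) ^ (p * q) = 1 := by
    intro i
    rw [← pow_mul, mul_comm, pow_mul, hω.pow_eq_one, one_pow]
  have hconj : ∀ i, conj (ω ^ k i) = (ω ^ k i)⁻¹ := by
    intro i
    have hnorm : ‖ω ^ k i‖ = 1 := Complex.norm_eq_one_of_pow_eq_one (hεN i) hN0
    exact (Complex.inv_eq_conj hnorm).symm
  have hε0 : ∀ i, ω ^ k i ≠ 0 := fun i => pow_ne_zero _ (hω.ne_zero hN0)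
  have hδN : ∀ i i', (ω ^ k i * conj (ω ^ k i')) ^ (p * q) = 1 := by
    intro i i'
    rw [mul_pow, ← map_pow, hεN, hεN, map_one, mul_one]
  have hδ1 : ∀ i i', ω ^ k i * conj (ω ^ k i') = 1 ↔ k i = k i' := by
    intro i i'
    rw [hconj, ← div_eq_mul_inv, div_eq_one_iff_eq (hε0 i')]
    exact ⟨fun h => hω.pow_inj (hklt i) (hklt i') h, fun h => by rw [h]⟩
  have hmod : ∀ a : ℕ, (ω ^ p) ^ a = (ω ^ p) ^ (a % q) := by
    intro a
    conv_lhs => rw [← Nat.div_add_mod a q, pow_add, pow_mul, hωp.pow_eq_one, one_pow, one_mul]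
  have hδp : ∀ i i', (ω ^ k i * conj (ω ^ k i')) ^ p = 1 ↔ k i % q = k i' % q := by
    intro i i'
    rw [hconj, ← div_eq_mul_inv, div_pow, div_eq_one_iff_eq (pow_ne_zero _ (hε0 i')),
      ← pow_mul, ← pow_mul, mul_comm (k i), mul_comm (k i'), pow_mul,
      pow_mul, hmod (k i), hmod (k i')]
    exact ⟨fun h => hωp.pow_inj (Nat.mod_lt _ hq0) (Nat.mod_lt _ hq0) h, fun h => by rw [h]⟩
  have hswap : ∑ j ∈ (range (p * q)).filter (fun j => ¬ p ∣ j),
      ∑ i ∈ s, ∑ i' ∈ s, (β (v i) (v i') : ℂ) * (ω ^ k i * conj (ω ^ k i')) ^ j =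
      ∑ i ∈ s, ∑ i' ∈ s, (β (v i) (v i') : ℂ) *
        ∑ j ∈ (range (p * q)).filter (fun j => ¬ p ∣ j), (ω ^ k i * conj (ω ^ k i')) ^ j := by
    rw [sum_comm]
    refine sum_congr rfl fun i _ => ?_
    rw [sum_comm]
    refine sum_congr rfl fun i' _ => ?_
    rw [mul_sum]
  rw [hswap]
  have hterm : ∀ i i', (β (v i) (v i') : ℂ) *
        ∑ j ∈ (range (p * q)).filter (fun j => ¬ p ∣ j), (ω ^ k i * conj (ω ^ k i')) ^ j =
      (((p * q : ℕ) : ℤ) * (if k i = k i' then β (v i) (v i') else 0) -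
        (q : ℤ) * (if k i % q = k i' % q then β (v i) (v i') else 0) : ℤ) := by
    intro i i'
    rw [ramanujan hp.pos (hδN i i')]
    simp only [hδ1, hδp]
    push_cast
    split_ifs <;> ring
  simp_rw [hterm]
  set X : ℕ → V := fun a => ∑ i ∈ s with k i = a, v i with hX
  have hP1 : ∑ i ∈ s, ∑ i' ∈ s, (if k i = k i' then β (v i) (v i') else 0) =
      ∑ r ∈ range q, ∑ t ∈ range p, β (X (t * q + r)) (X (t * q + r)) := by
    rw [sum_diag_fiber β s k (range (p * q)) (fun i _ => mem_range.mpr (hklt i)) v,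
      sum_range_mul_eq, sum_comm]
  have hP2 : ∑ i ∈ s, ∑ i' ∈ s, (if k i % q = k i' % q then β (v i) (v i') else 0) =
      ∑ r ∈ range q, β (∑ t ∈ range p, X (t * q + r)) (∑ t ∈ range p, X (t * q + r)) := by
    rw [sum_diag_fiber β s (fun i => k i % q) (range q)
      (fun i _ => mem_range.mpr (Nat.mod_lt _ hq0)) v]
    refine sum_congr rfl fun r hr => ?_
    rw [sum_fiber_mod s k hq0 hklt v (mem_range.mp hr)]
  have htot : ∑ i ∈ s, ∑ i' ∈ s,
      (((p * q : ℕ) : ℤ) * (if k i = k i' then β (v i) (v i') else 0) -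
        (q : ℤ) * (if k i % q = k i' % q then β (v i) (v i') else 0)) =
      (q : ℤ) * ∑ r ∈ range q, ((p : ℤ) * ∑ t ∈ range p, β (X (t * q + r)) (X (t * q + r)) -
        β (∑ t ∈ range p, X (t * q + r)) (∑ t ∈ range p, X (t * q + r))) := by
    simp only [sum_sub_distrib, ← mul_sum]
    rw [hP1, hP2]
    push_cast
    ring
  rw [← htot]
  push_cast
  rfl

/-- **The Fourier identity for `2`-power roots of unity.** -/
theorem quad_cyc_sum_two (m : ℕ) (hsym : ∀ x y, β x y = β y x) {ι : Type*} (s : Finset ι)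
    (ε : ι → ℂ) (hε : ∀ i, ε i ^ (2 ^ (m + 1)) = 1) (v : ι → V) :
    ∃ (ω : ℂ) (Y : ℕ → V), ω ^ (2 ^ m) = -1 ∧
      (∀ x : V, ∑ i ∈ s, (β (v i) x : ℂ) * ε i =
        ∑ r ∈ range (2 ^ m), (β (Y r) x : ℂ) * ω ^ r) ∧
      ∑ j ∈ (range (2 ^ (m + 1))).filter (fun j => j.Coprime (2 ^ (m + 1))),
        ∑ i ∈ s, ∑ i' ∈ s, (β (v i) (v i') : ℂ) * (ε i * conj (ε i')) ^ j =
        (((2 ^ m : ℕ) : ℤ) * ∑ r ∈ range (2 ^ m), β (Y r) (Y r) : ℤ) := by
  classical
  have hp : (2 : ℕ).Prime := Nat.prime_two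
  have hN : 2 ^ (m + 1) = 2 * 2 ^ m := pow_succ' 2 m
  set q := 2 ^ m with hq
  have hq0 : 0 < q := pow_pos (by norm_num) m
  have hN0 : 2 * q ≠ 0 := mul_ne_zero (by norm_num) hq0.ne'
  have : NeZero (2 * q) := ⟨hN0⟩
  set ω : ℂ := Complex.exp (2 * Real.pi * Complex.I / ((2 * q : ℕ) : ℂ)) with hωdef
  have hω : IsPrimitiveRoot ω (2 * q) := Complex.isPrimitiveRoot_exp _ hN0
  have hωq : ω ^ q = -1 := by
    have h2 : IsPrimitiveRoot (ω ^ q) 2 := by
      have := hω.pow_of_dvd hq0.ne' (dvd_mul_left q 2)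
      rwa [Nat.mul_div_cancel _ hq0] at this
    exact h2.eq_neg_one_of_two_right
  have hk : ∀ i, ∃ k < 2 * q, ω ^ k = ε i := fun i =>
    hω.eq_pow_of_pow_eq_one (by rw [← hN]; exact hε i)
  choose k hklt hkε using hk
  set X : ℕ → V := fun a => ∑ i ∈ s with k i = a, v i with hX
  refine ⟨ω, fun r => X r - X (q + r), hωq, ?_, ?_⟩
  · intro x
    have h1 : ∑ i ∈ s, (β (v i) x : ℂ) * ε i =
        ∑ a ∈ range (2 * q), (β (X a) x : ℂ) * ω ^ a := by
      rw [← sum_fiberwise_of_maps_to (g := k) (t := range (2 * q))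
        (fun i _ => mem_range.mpr (hklt i))]
      refine sum_congr rfl fun a _ => ?_
      simp only [hX]
      rw [map_sum, LinearMap.sum_apply]
      push_cast
      rw [sum_mul]
      refine sum_congr rfl fun i hi => ?_
      rw [← hkε i, (mem_filter.mp hi).2]
    rw [h1, two_mul, sum_range_add, ← sum_add_distrib]
    refine sum_congr rfl fun r _ => ?_
    rw [map_sub, LinearMap.sub_apply, pow_add, hωq]
    push_cast
    ring
  · have hfil : (range (2 ^ (m + 1))).filter (fun j => j.Coprime (2 ^ (m + 1))) =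
        (range (2 * q)).filter (fun j => ¬ 2 ∣ j) := by
      rw [hN]
      refine filter_congr fun j _ => ?_
      rw [← hN, Nat.coprime_pow_right_iff (Nat.succ_pos m), Nat.coprime_comm,
        hp.coprime_iff_not_dvd]
    rw [hfil]
    have h2 := quad_cyc_formula β hp hq0 hω s k hklt v
    simp_rw [hkε] at h2
    rw [h2]
    congr 1
    push_cast
    congr 1
    refine sum_congr rfl fun r _ => ?_
    simp only [sum_range_succ, sum_range_zero, zero_add, zero_mul, one_mul]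
    have e1 : ∑ i ∈ s with k i = r, v i = X r := rfl
    have e2 : ∑ i ∈ s with k i = q + r, v i = X (q + r) := rfl
    rw [e1, e2]
    simp only [map_add, map_sub, LinearMap.add_apply, LinearMap.sub_apply]
    rw [hsym (X (q + r)) (X r)]
    ring

end Cfsg.Agent.Lib.Helper57_QuadFourierTwo
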