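import Mathlib
import Cfsg.Agent.Lib.Helper78_LocalRing
import Cfsg.Agent.Lib.Helper77_PRoots

/-!
# `2`-adic divisibility of the coefficients of `2`-power cyclotomic integers (helper57)

Let `M` be a maximal ideal of the algebraic integers containing `2` and `ω` a complex number with
`ω ^ (2 ^ m) = -1`.  If `(∑_{k < 2^m} a_k ω^k) / 2 ^ h` (`a_k` integers) is a local integer at `M`,
then `2 ^ h` divides every `a_k` (`two_pow_dvd_coeff`).  The proof peels off powers of `1 + ω` and
uses `(1 + ω) ^ (2 ^ m) = 2 · unit`.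
-/

set_option autoImplicit false

namespace Cfsg.Agent.Lib.Helper57_TwoAdic

open Cfsg Polynomial Finset
open Cfsg.Agent.Lib.Helper78_LocalRing

variable {M : Ideal AlgInt}

theorem two_memLocalIdeal (hM : IsPModular 2 M) : MemLocalIdeal M (2 : ℂ) := by
  have := (memLocalIdeal_natCast_iff hM 2).mpr (dvd_refl 2)
  simpa using this

/-- A unit of the local ring cannot be divisible by `2`. -/
theorem half_unit_contra (hM : IsPModular 2 M) {u : ℂ} (hu : MemLocalRing M u)
    (hu' : ¬ MemLocalIdeal M u) (h2 : MemLocalRing M (u / 2)) : False := by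
  have hM' := isPrime_of_isPModular hM
  have hu0 : u ≠ 0 := fun h0 => hu' (h0 ▸ memLocalIdeal_zero hM')
  have h1 : MemLocalRing M ((u / 2) * u⁻¹) := memLocalRing_mul hM' h2 (memLocalRing_inv hM' hu hu')
  have h3 : MemLocalIdeal M (2 * ((u / 2) * u⁻¹)) :=
    memLocalIdeal_mul_right hM' (two_memLocalIdeal hM) h1
  have h4 : 2 * ((u / 2) * u⁻¹) = 1 := by field_simp
  rw [h4] at h3
  exact not_memLocalIdeal_one hM' h3

/-- An integer `a` with `a / 2 ^ h` a local integer is divisible by `2 ^ h`. -/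
theorem pow_dvd_of_memLocalRing_int (hM : IsPModular 2 M) (h : ℕ) :
    ∀ a : ℤ, MemLocalRing M ((a : ℂ) / 2 ^ h) → (2 : ℤ) ^ h ∣ a := by
  have hM' := isPrime_of_isPModular hM
  induction h with
  | zero => intro a _; simp
  | succ h ih =>
    intro a hR
    have h2 : MemLocalRing M ((a : ℂ) / 2) := by
      have h3 : (a : ℂ) / 2 = ((2 ^ h : ℕ) : ℂ) * ((a : ℂ) / 2 ^ (h + 1)) := by
        push_cast
        rw [pow_succ]
        field_simp
      rw [h3]
      exact memLocalRing_mul hM' (memLocalRing_natCast hM' _) hR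
    have heven : (2 : ℤ) ∣ a := by
      by_contra hodd
      refine half_unit_contra hM (memLocalRing_intCast hM' a) ?_ h2
      rw [memLocalIdeal_intCast_iff hM]
      exact_mod_cast hodd
    obtain ⟨a', rfl⟩ := heven
    have h4 : MemLocalRing M ((a' : ℂ) / 2 ^ h) := by
      have h5 : (a' : ℂ) / 2 ^ h = ((2 * a' : ℤ) : ℂ) / 2 ^ (h + 1) := by
        push_cast
        rw [pow_succ]
        field_simp
      rw [h5]
      exact hR
    rw [pow_succ, mul_comm]
    exact mul_dvd_mul_left 2 (ih a' h4)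

/-- A polynomial evaluated at a root of unity of `2`-power order is congruent to its value at
`1`. -/
theorem memLocalIdeal_aeval_sub_eval_one (hM : IsPModular 2 M) {ω : ℂ} (n : ℕ)
    (hω : ω ^ (2 ^ n) = 1) (f : ℤ[X]) :
    MemLocalIdeal M (aeval ω f - ((f.eval 1 : ℤ) : ℂ)) := by
  have hM' := isPrime_of_isPModular hM
  rw [aeval_eq_sum_range, eval_eq_sum_range]
  push_cast
  rw [← sum_sub_distrib]
  refine memLocalIdeal_sum hM' _ _ fun k _ => ?_
  have h1 : f.coeff k • ω ^ k - (f.coeff k : ℂ) * 1 ^ k = (f.coeff k : ℂ) * (ω ^ k - 1) := by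
    rw [zsmul_eq_mul, one_pow]
    ring
  rw [h1]
  refine memLocalIdeal_mul_left hM' (memLocalRing_intCast hM' _) ?_
  apply Cfsg.Agent.Lib.Helper77_PRoots.memLocalIdeal_sub_one_of_pow_eq_one hM (ω ^ k) n
  rw [← pow_mul, mul_comm, pow_mul, hω, one_pow]

theorem memLocalRing_aeval (hM : M.IsPrime) {ω : ℂ} (hω : MemLocalRing M ω) (f : ℤ[X]) :
    MemLocalRing M (aeval ω f) := by
  rw [aeval_eq_sum_range]
  refine memLocalRing_sum hM _ _ fun k _ => ?_
  rw [zsmul_eq_mul]
  exact memLocalRing_mul hM (memLocalRing_intCast hM _) (memLocalRing_pow hM hω k)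

/-- `(1 + X) ^ (2 ^ m) = 1 + X ^ (2 ^ m) + 2 P` with `P(1)` odd, for `m ≥ 1`. -/
theorem exists_binom (m : ℕ) (hm : 1 ≤ m) :
    ∃ P : ℤ[X], (1 + X) ^ (2 ^ m) = 1 + X ^ (2 ^ m) + C 2 * P ∧ Odd (P.eval 1) := by
  induction m, hm using Nat.le_induction with
  | base =>
    refine ⟨X, ?_, by simp⟩
    have : (C (2 : ℤ) : ℤ[X]) = 2 := by simp
    rw [this]
    ring
  | succ m _ ih =>
    obtain ⟨P, hP, hodd⟩ := ih
    refine ⟨X ^ (2 ^ m) + C 2 * P * (1 + X ^ (2 ^ m)) + C 2 * P ^ 2, ?_, ?_⟩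
    · have h2 : (C (2 : ℤ) : ℤ[X]) = 2 := by simp
      rw [pow_succ 2 m, pow_mul, hP, h2]
      ring
    · simp only [eval_add, eval_mul, eval_pow, eval_X, eval_C, eval_one, one_pow]
      obtain ⟨t, ht⟩ := hodd
      rw [ht]
      exact ⟨2 * (2 * t + 1) + (2 * t + 1) ^ 2, by ring⟩

section Main

variable (hM : IsPModular 2 M) {m : ℕ} (hm : 1 ≤ m) {ω : ℂ} (hω : ω ^ (2 ^ m) = -1)

include hM hω in
theorem omega_facts : ω ^ (2 ^ (m + 1)) = 1 ∧ MemLocalRing M ω ∧ MemLocalIdeal M (1 + ω) := by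
  have hM' := isPrime_of_isPModular hM
  have h1 : ω ^ (2 ^ (m + 1)) = 1 := by
    rw [pow_succ, pow_mul, hω]
    norm_num
  have h2 := Cfsg.Agent.Lib.Helper77_PRoots.memLocalIdeal_sub_one_of_pow_eq_one hM ω (m + 1) h1
  refine ⟨h1, ?_, ?_⟩
  · have : ω = (ω - 1) + 1 := by ring
    rw [this]
    exact memLocalRing_add hM' (memLocalRing_of_memLocalIdeal h2) (memLocalRing_one hM')
  · have : 1 + ω = 2 + (ω - 1) := by ring
    rw [this]
    exact memLocalIdeal_add hM' (two_memLocalIdeal hM) h2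

include hM hm hω in
/-- `(1 + ω) ^ i / 2` is not a local integer for `i < 2 ^ m`. -/
theorem not_memLocalRing_pow_div_two {i : ℕ} (hi : i < 2 ^ m) :
    ¬ MemLocalRing M ((1 + ω) ^ i / 2) := by
  have hM' := isPrime_of_isPModular hM
  obtain ⟨hω1, hωR, hθ⟩ := omega_facts hM hω
  obtain ⟨P, hP, hodd⟩ := exists_binom m hm
  intro hR
  -- `(1 + ω) ^ (2 ^ m) = 2 P(ω)`
  have h1 : (1 + ω) ^ (2 ^ m) = 2 * aeval ω P := by
    have := congrArg (aeval ω) hP
    simp only [map_pow, map_add, map_one, aeval_X, map_mul, aeval_C] at this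
    rw [this, hω]
    simp
  have h2 : aeval ω P = (1 + ω) ^ (2 ^ m - i) * ((1 + ω) ^ i / 2) := by
    have h3 : (1 + ω) ^ (2 ^ m) = (1 + ω) ^ (2 ^ m - i) * (1 + ω) ^ i := by
      rw [← pow_add, Nat.sub_add_cancel hi.le]
    have h4 : aeval ω P = (1 + ω) ^ (2 ^ m) / 2 := by
      rw [h1]
      ring
    rw [h4, h3]
    ring
  have h5 : MemLocalIdeal M (aeval ω P) := by
    rw [h2]
    refine memLocalIdeal_mul_right hM' ?_ hR
    have h6 : 2 ^ m - i = (2 ^ m - i - 1) + 1 := by omega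
    rw [h6, pow_succ]
    exact memLocalIdeal_mul_left hM'
      (memLocalRing_pow hM' (memLocalRing_of_memLocalIdeal hθ) _) hθ
  have h7 := memLocalIdeal_aeval_sub_eval_one hM (m + 1) hω1 P
  have h8 : MemLocalIdeal M ((P.eval 1 : ℤ) : ℂ) := by
    have := memLocalIdeal_sub hM' h5 h7
    rwa [sub_sub_cancel] at this
  rw [memLocalIdeal_intCast_iff hM] at h8
  obtain ⟨t, ht⟩ := hodd
  rw [ht] at h8
  omega

include hM hm hω in
/-- Peeling: if `(1 + ω) ^ i g(1 + ω) / 2` is a local integer and `deg g + i < 2 ^ m`, all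
coefficients of `g` are even. -/
theorem peel : ∀ (n : ℕ) (g : ℤ[X]) (i : ℕ), g.natDegree ≤ n → n + i < 2 ^ m →
    MemLocalRing M ((1 + ω) ^ i * aeval (1 + ω) g / 2) → ∀ k, (2 : ℤ) ∣ g.coeff k := by
  have hM' := isPrime_of_isPModular hM
  obtain ⟨hω1, hωR, hθ⟩ := omega_facts hM hω
  have hθR := memLocalRing_of_memLocalIdeal hθ
  -- the constant coefficient
  have hconst : ∀ (g : ℤ[X]) (i : ℕ), i < 2 ^ m →
      MemLocalRing M ((1 + ω) ^ i * aeval (1 + ω) g / 2) → (2 : ℤ) ∣ g.coeff 0 := by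
    intro g i hi hR
    by_contra hodd
    have hgR : MemLocalRing M (aeval (1 + ω) g) := memLocalRing_aeval hM' hθR g
    have hgU : ¬ MemLocalIdeal M (aeval (1 + ω) g) := by
      intro hI
      have hdec : aeval (1 + ω) g = aeval (1 + ω) (divX g) * (1 + ω) + (g.coeff 0 : ℂ) := by
        conv_lhs => rw [← divX_mul_X_add g]
        simp
      have h1 : MemLocalIdeal M ((g.coeff 0 : ℤ) : ℂ) := by
        have h2 : ((g.coeff 0 : ℤ) : ℂ) = aeval (1 + ω) g -
            aeval (1 + ω) (divX g) * (1 + ω) := by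
          rw [hdec]
          ring
        rw [h2]
        exact memLocalIdeal_sub hM' hI
          (memLocalIdeal_mul_left hM' (memLocalRing_aeval hM' hθR _) hθ)
      rw [memLocalIdeal_intCast_iff hM] at h1
      exact hodd (by exact_mod_cast h1)
    have hg0 : aeval (1 + ω) g ≠ 0 := fun h0 => hgU (h0 ▸ memLocalIdeal_zero hM')
    apply not_memLocalRing_pow_div_two hM hm hω hi
    have h3 : (1 + ω) ^ i / 2 = ((1 + ω) ^ i * aeval (1 + ω) g / 2) * (aeval (1 + ω) g)⁻¹ := by
      field_simp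
    rw [h3]
    exact memLocalRing_mul hM' hR (memLocalRing_inv hM' hgR hgU)
  intro n
  induction n with
  | zero =>
    intro g i hg hi hR k
    have hgC : g = C (g.coeff 0) := eq_C_of_natDegree_le_zero hg
    rcases k with _ | k
    · exact hconst g i (by omega) hR
    · rw [hgC, coeff_C_succ]
      exact dvd_zero _
  | succ n ih =>
    intro g i hg hi hR k
    have h0 := hconst g i (by omega) hR
    rcases k with _ | k
    · exact h0
    · rw [← coeff_divX]
      refine ih (divX g) (i + 1) ?_ (by omega) ?_ k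
      · rw [natDegree_divX_eq_natDegree_tsub_one]
        omega
      · obtain ⟨c, hc⟩ := h0
        have hdec : aeval (1 + ω) g = aeval (1 + ω) (divX g) * (1 + ω) + (g.coeff 0 : ℂ) := by
          conv_lhs => rw [← divX_mul_X_add g]
          simp
        have h4 : (1 + ω) ^ (i + 1) * aeval (1 + ω) (divX g) / 2 =
            (1 + ω) ^ i * aeval (1 + ω) g / 2 - (1 + ω) ^ i * (c : ℂ) := by
          rw [hdec, hc, pow_succ]
          push_cast
          ring
        rw [h4]
        exact memLocalRing_sub hM' hR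
          (memLocalRing_mul hM' (memLocalRing_pow hM' hθR i) (memLocalRing_intCast hM' c))

include hM hm hω in
/-- If `f(ω) / 2` is a local integer and `deg f < 2 ^ m`, all coefficients of `f` are even. -/
theorem even_coeff_of_half (f : ℤ[X]) (hf : f.natDegree < 2 ^ m)
    (hR : MemLocalRing M (aeval ω f / 2)) : ∀ k, (2 : ℤ) ∣ f.coeff k := by
  obtain ⟨g, hg⟩ : ∃ g : ℤ[X], g = f.comp (X - 1) := ⟨_, rfl⟩
  have hgdeg : g.natDegree ≤ f.natDegree := by
    rw [hg]
    refine natDegree_comp_le.trans ?_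
    have : (X - 1 : ℤ[X]).natDegree ≤ 1 := by
      have h1 : (X - 1 : ℤ[X]) = X - C 1 := by simp
      rw [h1, natDegree_X_sub_C]
    calc f.natDegree * (X - 1 : ℤ[X]).natDegree ≤ f.natDegree * 1 := Nat.mul_le_mul_left _ this
      _ = f.natDegree := mul_one _
  have hge : aeval (1 + ω) g = aeval ω f := by
    rw [hg, aeval_comp]
    simp
  have hall := peel hM hm hω f.natDegree g 0 hgdeg (by omega) (by
    rw [pow_zero, one_mul, hge]
    exact hR)
  obtain ⟨g', hg'⟩ := (C_dvd_iff_dvd_coeff 2 g).mpr hall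
  have hf' : f = C 2 * g'.comp (X + 1) := by
    have h1 : f = g.comp (X + 1) := by
      rw [hg, comp_assoc]
      simp
    rw [h1, hg', mul_comp, C_comp]
  intro k
  rw [hf', coeff_C_mul]
  exact dvd_mul_right _ _

include hM hm hω in
theorem two_pow_dvd_coeff_poly (h : ℕ) : ∀ f : ℤ[X], f.natDegree < 2 ^ m →
    MemLocalRing M (aeval ω f / 2 ^ h) → ∀ k, (2 : ℤ) ^ h ∣ f.coeff k := by
  have hM' := isPrime_of_isPModular hM
  induction h with
  | zero => intro f _ _ k; simp
  | succ h ih =>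
    intro f hf hR k
    have h2 : MemLocalRing M (aeval ω f / 2) := by
      have h3 : aeval ω f / 2 = ((2 ^ h : ℕ) : ℂ) * (aeval ω f / 2 ^ (h + 1)) := by
        push_cast
        rw [pow_succ]
        field_simp
      rw [h3]
      exact memLocalRing_mul hM' (memLocalRing_natCast hM' _) hR
    obtain ⟨f₁, hf₁⟩ := (C_dvd_iff_dvd_coeff 2 f).mpr (even_coeff_of_half hM hm hω f hf h2)
    have hdeg : f₁.natDegree < 2 ^ m := by
      rw [hf₁, natDegree_C_mul (by norm_num : (2 : ℤ) ≠ 0)] at hf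
      exact hf
    have h4 : MemLocalRing M (aeval ω f₁ / 2 ^ h) := by
      have h5 : aeval ω f₁ / 2 ^ h = aeval ω f / 2 ^ (h + 1) := by
        rw [hf₁, map_mul, aeval_C, pow_succ]
        simp only [eq_intCast, Int.cast_ofNat]
        field_simp
      rw [h5]
      exact hR
    rw [hf₁, coeff_C_mul, pow_succ, mul_comm]
    exact mul_dvd_mul_left 2 (ih f₁ hdeg h4 k)

end Main

/-- **`2`-adic divisibility of coefficients.**  If `ω ^ (2 ^ m) = -1` and
`(∑_{k < 2^m} a_k ω^k) / 2 ^ h` is a local integer at `M ∋ 2`, then `2 ^ h ∣ a_k` for all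
`k < 2 ^ m`. -/
theorem two_pow_dvd_coeff (hM : IsPModular 2 M) (m : ℕ) {ω : ℂ} (hω : ω ^ (2 ^ m) = -1)
    (a : ℕ → ℤ) (h : ℕ)
    (hR : MemLocalRing M ((∑ k ∈ range (2 ^ m), (a k : ℂ) * ω ^ k) / 2 ^ h)) :
    ∀ k ∈ range (2 ^ m), (2 : ℤ) ^ h ∣ a k := by
  rcases Nat.eq_zero_or_pos m with rfl | hm
  · intro k hk
    simp only [pow_zero, range_one, mem_singleton] at hk
    subst hk
    simp only [pow_zero, range_one, sum_singleton, mul_one] at hR
    exact pow_dvd_of_memLocalRing_int hM h (a 0) hR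
  · obtain ⟨f, hf⟩ : ∃ f : ℤ[X], f = ∑ k ∈ range (2 ^ m), C (a k) * X ^ k := ⟨_, rfl⟩
    have hcoeff : ∀ k, f.coeff k = if k < 2 ^ m then a k else 0 := by
      intro k
      rw [hf, finsetSum_coeff]
      simp only [coeff_C_mul_X_pow]
      rw [sum_ite_eq (range (2 ^ m)) k]
      simp only [mem_range]
    have hdeg : f.natDegree < 2 ^ m := by
      have h1 : f.natDegree ≤ 2 ^ m - 1 := by
        rw [natDegree_le_iff_coeff_eq_zero]
        intro N hN
        rw [hcoeff, if_neg (by omega)]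
      have : 0 < 2 ^ m := pow_pos (by norm_num) m
      omega
    have hev : aeval ω f = ∑ k ∈ range (2 ^ m), (a k : ℂ) * ω ^ k := by
      rw [hf, map_sum]
      refine sum_congr rfl fun k _ => ?_
      simp
    rw [← hev] at hR
    intro k hk
    have := two_pow_dvd_coeff_poly hM hm hω h f hdeg hR k
    rwa [hcoeff, if_pos (mem_range.mp hk)] at this


end Cfsg.Agent.Lib.Helper57_TwoAdic
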