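import Mathlib
import Cfsg.Agent.Lib.Helper57_QuadFourierTwo
import Cfsg.Agent.Lib.Helper57_TwoAdic

/-!
# Fourier data for `2`-power roots of unity, uniformly in the exponent (helper57)

`exists_fourier_data`: for `2^n`-th roots of unity `ε_i` there are `m` with `2^m = φ(2^n)`, `ω` with
`ω^(2^m) = -1` and vectors `Y_r` (`r < 2^m`) with `∑_i β(v_i, x) ε_i = ∑_r β(Y_r, x) ω^r` and
`∑_{j ∈ U} ∑_{i,i'} β(v_i, v_i') (ε_i conj ε_i')^j = 2^m ∑_r β(Y_r, Y_r)`.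

`coeff_facts`: the `2`-adic divisibility of the coefficients `a_r` of a cyclotomic integer
`∑_r a_r ω^r` which is divisible by `2^h` and congruent to `2^h · (unit) · c`.
-/

set_option autoImplicit false

namespace Cfsg.Agent.Lib.Helper57_FourierData

open Finset Cfsg
open scoped ComplexConjugate
open Cfsg.Agent.Lib.Helper57_QuadFourier Cfsg.Agent.Lib.Helper57_QuadFourierTwo
  Cfsg.Agent.Lib.Helper57_TwoAdic Cfsg.Agent.Lib.Helper78_LocalRing

section Pure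

variable {V : Type*} [AddCommGroup V] (β : LinearMap.BilinForm ℤ V)

theorem exists_fourier_data (n : ℕ) (hsym : ∀ x y, β x y = β y x) {ι : Type*} (s : Finset ι)
    (ε : ι → ℂ) (hε : ∀ i, ε i ^ (2 ^ n) = 1) (v : ι → V) :
    ∃ (m : ℕ) (ω : ℂ) (Y : ℕ → V), 2 ^ m = (2 ^ n).totient ∧ ω ^ (2 ^ m) = -1 ∧
      (∀ x : V, ∑ i ∈ s, (β (v i) x : ℂ) * ε i =
        ∑ r ∈ range (2 ^ m), (β (Y r) x : ℂ) * ω ^ r) ∧
      ∑ j ∈ (range (2 ^ n)).filter (fun j => j.Coprime (2 ^ n)),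
        ∑ i ∈ s, ∑ i' ∈ s, (β (v i) (v i') : ℂ) * (ε i * conj (ε i')) ^ j =
        (((2 ^ m : ℕ) : ℤ) * ∑ r ∈ range (2 ^ m), β (Y r) (Y r) : ℤ) := by
  rcases Nat.eq_zero_or_pos n with rfl | hn
  · refine ⟨0, -1, fun _ => ∑ i ∈ s, v i, by simp, by simp, ?_, ?_⟩
    · intro x
      have hε1 : ∀ i, ε i = 1 := fun i => by simpa using hε i
      simp only [pow_zero, range_one, sum_singleton, mul_one, hε1]
      rw [map_sum, LinearMap.sum_apply]
      push_cast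
      rfl
    · have hfil : (range (2 ^ 0)).filter (fun j => j.Coprime (2 ^ 0)) = {0} := by
        ext j
        simp
      rw [hfil]
      simp only [pow_zero, range_one, sum_singleton, mul_one, Nat.cast_one, one_mul]
      rw [form_sum_sum]
      push_cast
      rfl
  · obtain ⟨m, rfl⟩ : ∃ m, n = m + 1 := ⟨n - 1, by omega⟩
    obtain ⟨ω, Y, hω, h1, h2⟩ := quad_cyc_sum_two β m hsym s ε hε v
    refine ⟨m, ω, Y, ?_, hω, h1, h2⟩
    rw [Nat.totient_prime_pow_succ Nat.prime_two]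
    simp

end Pure

section Local

variable {M : Ideal AlgInt}

/-- Divisibility of the coefficients of a cyclotomic integer divisible by `2^h`. -/
theorem coeff_facts (hM : IsPModular 2 M) (m : ℕ) {ω : ℂ} (hω : ω ^ (2 ^ m) = -1)
    (a : ℕ → ℤ) (h : ℕ)
    (hR : MemLocalRing M ((∑ r ∈ range (2 ^ m), (a r : ℂ) * ω ^ r) / 2 ^ h))
    (u u' c : ℤ) (hu : ¬ (2 : ℤ) ∣ u) (hu' : ¬ (2 : ℤ) ∣ u')
    (hI : MemLocalIdeal M ((u : ℂ) * ((∑ r ∈ range (2 ^ m), (a r : ℂ) * ω ^ r) / 2 ^ h) -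
      ((u' * c : ℤ) : ℂ))) :
    (∀ r ∈ range (2 ^ m), (2 : ℤ) ^ h ∣ a r) ∧
      (2 : ℤ) ^ (h + 1) ∣ ∑ r ∈ range (2 ^ m), a r - 2 ^ h * c := by
  have hM' := isPrime_of_isPModular hM
  have hdiv := two_pow_dvd_coeff hM m hω a h hR
  refine ⟨hdiv, ?_⟩
  choose! a' ha' using hdiv
  have hω1 : ω ^ (2 ^ (m + 1)) = 1 := by
    rw [pow_succ, pow_mul, hω]
    norm_num
  have h2C : (2 : ℂ) ^ h ≠ 0 := pow_ne_zero _ two_ne_zero
  have e1 : (∑ r ∈ range (2 ^ m), (a r : ℂ) * ω ^ r) / 2 ^ h =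
      ∑ r ∈ range (2 ^ m), (a' r : ℂ) * ω ^ r := by
    rw [sum_div]
    refine sum_congr rfl fun r hr => ?_
    rw [ha' r hr]
    push_cast
    field_simp
  rw [e1] at hI
  have h3 : MemLocalIdeal M (∑ r ∈ range (2 ^ m), (a' r : ℂ) * ω ^ r -
      ((∑ r ∈ range (2 ^ m), a' r : ℤ) : ℂ)) := by
    push_cast
    rw [← sum_sub_distrib]
    refine memLocalIdeal_sum hM' _ _ fun r _ => ?_
    have : (a' r : ℂ) * ω ^ r - (a' r : ℂ) = (a' r : ℂ) * (ω ^ r - 1) := by ring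
    rw [this]
    refine memLocalIdeal_mul_left hM' (memLocalRing_intCast hM' _) ?_
    apply Cfsg.Agent.Lib.Helper77_PRoots.memLocalIdeal_sub_one_of_pow_eq_one hM (ω ^ r) (m + 1)
    rw [← pow_mul, mul_comm, pow_mul, hω1, one_pow]
  have h4 : MemLocalIdeal M (((u * (∑ r ∈ range (2 ^ m), a' r) - u' * c : ℤ) : ℂ)) := by
    have e2 : (((u * (∑ r ∈ range (2 ^ m), a' r) - u' * c : ℤ) : ℂ)) =
        ((u : ℂ) * (∑ r ∈ range (2 ^ m), (a' r : ℂ) * ω ^ r) - ((u' * c : ℤ) : ℂ)) -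
        (u : ℂ) * (∑ r ∈ range (2 ^ m), (a' r : ℂ) * ω ^ r -
          ((∑ r ∈ range (2 ^ m), a' r : ℤ) : ℂ)) := by
      push_cast
      ring
    rw [e2]
    exact memLocalIdeal_sub hM' hI (memLocalIdeal_mul_left hM' (memLocalRing_intCast hM' _) h3)
  rw [memLocalIdeal_intCast_iff hM] at h4
  have h5 : (2 : ℤ) ∣ ∑ r ∈ range (2 ^ m), a' r - c := by
    obtain ⟨t, ht⟩ := h4
    have hu1 : u % 2 = 1 := by omega
    have hu1' : u' % 2 = 1 := by omega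
    obtain ⟨ku, hku⟩ : ∃ k, u = 2 * k + 1 := ⟨u / 2, by omega⟩
    obtain ⟨ku', hku'⟩ : ∃ k, u' = 2 * k + 1 := ⟨u' / 2, by omega⟩
    push_cast at ht
    refine ⟨t - ku * (∑ r ∈ range (2 ^ m), a' r) + ku' * c, ?_⟩
    rw [hku, hku'] at ht
    linear_combination ht
  obtain ⟨t, ht⟩ := h5
  refine ⟨t, ?_⟩
  have e3 : ∑ r ∈ range (2 ^ m), a r = 2 ^ h * ∑ r ∈ range (2 ^ m), a' r := by
    rw [mul_sum]
    exact sum_congr rfl fun r hr => ha' r hr
  rw [e3, pow_succ]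
  linear_combination (2 : ℤ) ^ h * ht

end Local

end Cfsg.Agent.Lib.Helper57_FourierData
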