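import Mathlib
import Cfsg.Agent.Lib.Helper57_ContribMatrix
import Cfsg.Agent.Lib.Helper75_Induced
import Cfsg.Agent.Lib.Helper78_Osima

/-!
# Central characters and the columns of generalized decomposition numbers (helper57)

Let `u` be a `p`-element with `C = C_G(u)`, `ζ` a class function on `C` with integral values.
The class function of `G` induced from `u c ↦ conj ζ(c)` (`c` `p`-regular in `C`, zero elsewhere)
has local-integer values, and `ω_χ` of it is `|G| [ϑ_χ°, ζ] / χ(1)`.  Hence for `χ, ψ` in the same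
block, `|G| a(χ, ζ) / χ(1) ≡ |G| a(ψ, ζ) / ψ(1)` modulo the local ideal
(`memLocalIdeal_acoef_sub`).
-/

set_option autoImplicit false
set_option linter.unusedSectionVars false

namespace Cfsg.Agent.Lib.Helper57_SectionInd

open Cfsg
open scoped ComplexConjugate
open Cfsg.Agent.Lib.Helper3_CharBridge Cfsg.Agent.Lib.Helper3_CharOrtho
  Cfsg.Agent.Lib.Helper3_CharComplete Cfsg.Agent.Lib.Helper3_CharColumn
  Cfsg.Agent.Lib.Helper75_CharArith Cfsg.Agent.Lib.Helper57_PRegInt
  Cfsg.Agent.Lib.Helper57_HeightZero Cfsg.Agent.Lib.Helper57_BrauerFeit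
  Cfsg.Agent.Lib.Helper57_GramTrace Cfsg.Agent.Lib.Helper57_IndBlock
  Cfsg.Agent.Lib.Helper57_Contribution Cfsg.Agent.Lib.Helper57_Subsection
  Cfsg.Agent.Lib.Helper57_ContribMatrix Cfsg.Agent.Lib.Helper75_Induced
  Cfsg.Agent.Lib.Helper78_LocalRing Cfsg.Agent.Lib.Helper78_CharFacts
  Cfsg.Agent.Lib.Helper78_Osima

variable {G : Type*} [Group G] [Fintype G] {p : ℕ} {M : Ideal AlgInt}
variable (C : Subgroup G) [Fintype C] (u : G) (k : ℕ) (hu : orderOf u = p ^ k)
  (hCu : ∀ c : C, u * (c : G) = (c : G) * u)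
  (hcent : Subgroup.centralizer ({u} : Set G) ≤ C)

variable (p) in
/-- The function `u c ↦ conj ζ(c)` for `c` `p`-regular, zero elsewhere. -/
noncomputable def secFun (huC : u ∈ C) (ζ : C → ℂ) : C → ℂ :=
  fun c => regPart p (fun c' => conj (ζ c')) ((⟨u, huC⟩ : C)⁻¹ * c)

include hCu in
theorem secFun_isClassFunction (huC : u ∈ C) {ζ : C → ℂ} (hζ : IsClassFunction C ζ) :
    IsClassFunction C (secFun p C u huC ζ) := by
  intro c d
  have hcl : IsClassFunction C (regPart p (fun c' => conj (ζ c'))) :=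
    regPart_isClassFunction p (Helper57_HeightZero.isClassFunction_conj hζ)
  unfold secFun
  have hcomm : ∀ e : C, (⟨u, huC⟩ : C) * e = e * ⟨u, huC⟩ := by
    intro e
    apply Subtype.ext
    push_cast
    exact hCu e
  have h1 : (⟨u, huC⟩ : C)⁻¹ * (d * c * d⁻¹) = d * ((⟨u, huC⟩ : C)⁻¹ * c) * d⁻¹ := by
    have h2 : (⟨u, huC⟩ : C)⁻¹ * d = d * (⟨u, huC⟩ : C)⁻¹ := by
      rw [inv_mul_eq_iff_eq_mul, ← mul_assoc, hcomm d, mul_assoc, mul_inv_cancel, mul_one]
    calc (⟨u, huC⟩ : C)⁻¹ * (d * c * d⁻¹) = ((⟨u, huC⟩ : C)⁻¹ * d) * c * d⁻¹ := by group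
      _ = d * ((⟨u, huC⟩ : C)⁻¹ * c) * d⁻¹ := by rw [h2]; group
  rw [h1, hcl]

/-- `∑_c secFun(c) χ(c) = |C| [ϑ_χ°, ζ]`. -/
theorem sum_secFun_mul (huC : u ∈ C) (ζ : C → ℂ) (χ : IrrCharacter G) :
    ∑ c : C, secFun p C u huC ζ c * (χ : G → ℂ) (c : G) =
      (Nat.card C : ℂ) * classInner (regPart p (theta C u χ)) ζ := by
  have hC : (Nat.card C : ℂ) ≠ 0 := card_ne_zero_complex
  unfold classInner
  rw [← mul_assoc, mul_inv_cancel₀ hC, one_mul,
    ← Equiv.sum_comp (Equiv.mulLeft (⟨u, huC⟩ : C))]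
  refine Finset.sum_congr rfl fun c _ => ?_
  unfold secFun
  rw [Equiv.coe_mulLeft, inv_mul_cancel_left]
  have h1 : (((⟨u, huC⟩ : C) * c : C) : G) = u * (c : G) := by
    push_cast
    rfl
  rw [h1]
  by_cases hc : p ∣ orderOf c
  · rw [regPart_of_dvd _ hc, regPart_of_dvd _ hc, zero_mul, zero_mul]
  · rw [regPart_of_not_dvd _ hc, regPart_of_not_dvd _ hc, mul_comm]
    rfl

/-- `ω_χ` of the induced section function. -/
theorem omega_indFun_secFun (huC : u ∈ C) (ζ : C → ℂ) (χ : IrrCharacter G) :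
    omega (χ : G → ℂ) (indFun C (secFun p C u huC ζ)) =
      (Nat.card G : ℂ) * classInner (regPart p (theta C u χ)) ζ / (χ : G → ℂ) 1 := by
  have hG : (Nat.card G : ℂ) ≠ 0 := card_ne_zero_complex
  have hC : (Nat.card C : ℂ) ≠ 0 := card_ne_zero_complex
  unfold omega
  congr 1
  have hχcl := isClassFunction_of_isIrrCharacter χ.2
  have hfr := frobenius_reciprocity C (secFun p C u huC ζ) (fun g => conj ((χ : G → ℂ) g))
    (Helper57_HeightZero.isClassFunction_conj hχcl)
  unfold classInner at hfr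
  simp only [Complex.conj_conj] at hfr
  have h2 := sum_secFun_mul (p := p) C u huC ζ χ
  rw [h2] at hfr
  have h3 : ∑ g : G, indFun C (secFun p C u huC ζ) g * (χ : G → ℂ) g =
      (Nat.card G : ℂ) * ((Nat.card G : ℂ)⁻¹ *
        ∑ g : G, indFun C (secFun p C u huC ζ) g * (χ : G → ℂ) g) := by
    rw [← mul_assoc, mul_inv_cancel₀ hG, one_mul]
  rw [h3, hfr, ← mul_assoc (Nat.card C : ℂ)⁻¹, inv_mul_cancel₀ hC, one_mul]

include hu hCu hcent in
/-- The induced section function has local-integer values. -/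
theorem memLocalRing_indFun_secFun (hp : p.Prime) (hM' : M.IsPrime) (huC : u ∈ C) {ζ : C → ℂ}
    (hζ : IsClassFunction C ζ) (hζR : ∀ c, MemLocalRing M (conj (ζ c))) (g : G) :
    MemLocalRing M (indFun C (secFun p C u huC ζ) g) := by
  classical
  have hC : (Nat.card C : ℂ) ≠ 0 := card_ne_zero_complex
  set φ := secFun p C u huC ζ with hφ
  have hφcl : IsClassFunction C φ := secFun_isClassFunction C u hCu huC hζ
  by_cases hex : ∃ x : G, extendByZero C φ (x⁻¹ * g * x) ≠ 0
  · obtain ⟨x₀, hx₀⟩ := hex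
    have hmem : x₀⁻¹ * g * x₀ ∈ C := by
      by_contra hn
      exact hx₀ (extendByZero_of_not_mem C φ hn)
    rw [extendByZero_of_mem C φ hmem] at hx₀
    obtain ⟨g₀, hg₀⟩ : ∃ g₀ : C, g₀ = ⟨x₀⁻¹ * g * x₀, hmem⟩ := ⟨_, rfl⟩
    obtain ⟨c₀, hc₀⟩ : ∃ c₀ : C, c₀ = (⟨u, huC⟩ : C)⁻¹ * g₀ := ⟨_, rfl⟩
    rw [← hg₀] at hx₀
    have hφg₀ : φ g₀ = regPart p (fun c' => conj (ζ c')) c₀ := by
      rw [hφ, hc₀]
      rfl
    have hreg : ¬ p ∣ orderOf c₀ := by
      intro hdiv
      apply hx₀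
      rw [hφg₀]
      exact regPart_of_dvd _ hdiv
    have hg₀eq : (g₀ : G) = u * (c₀ : G) := by
      rw [hc₀]
      push_cast
      rw [mul_inv_cancel_left]
    have hg₀val : (g₀ : G) = x₀⁻¹ * g * x₀ := by rw [hg₀]
    have hcl := isClassFunction_indFun C φ
    have h1 : indFun C φ g = indFun C φ (u * (c₀ : G)) := by
      rw [← hg₀eq, hg₀val]
      have := hcl g x₀⁻¹
      rw [inv_inv] at this
      exact this.symm
    rw [h1, indFun_apply]
    have hterm : ∀ x : G, extendByZero C φ (x⁻¹ * (u * (c₀ : G)) * x) =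
        extendByZero C (fun _ => φ g₀) x := by
      intro x
      by_cases hx : x ∈ C
      · rw [extendByZero_of_mem C _ hx]
        have hmem' : x⁻¹ * (u * (c₀ : G)) * x ∈ C := by
          rw [← hg₀eq]
          exact C.mul_mem (C.mul_mem (C.inv_mem hx) g₀.2) hx
        rw [extendByZero_of_mem C φ hmem']
        have h2 : (⟨x⁻¹ * (u * (c₀ : G)) * x, hmem'⟩ : C) =
            (⟨x, hx⟩ : C)⁻¹ * g₀ * ((⟨x, hx⟩ : C)⁻¹)⁻¹ := by
          apply Subtype.ext
          push_cast
          rw [inv_inv, hg₀eq]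
        rw [h2, hφcl]
      · rw [extendByZero_of_not_mem C _ hx]
        by_contra hne
        have hmem' : x⁻¹ * (u * (c₀ : G)) * x ∈ C := by
          by_contra hn
          exact hne (extendByZero_of_not_mem C φ hn)
        rw [extendByZero_of_mem C φ hmem'] at hne
        obtain ⟨c', hc'⟩ : ∃ c' : C, c' = (⟨u, huC⟩ : C)⁻¹ * ⟨_, hmem'⟩ := ⟨_, rfl⟩
        have hφc' : φ ⟨_, hmem'⟩ = regPart p (fun c'' => conj (ζ c'')) c' := by
          rw [hφ, hc']
          rfl
        have hreg' : ¬ p ∣ orderOf c' := fun hdiv => hne (by rw [hφc']; exact regPart_of_dvd _ hdiv)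
        have heq : x⁻¹ * (u * (c₀ : G)) * (x⁻¹)⁻¹ = u * (c' : G) := by
          rw [inv_inv, hc']
          push_cast
          rw [mul_inv_cancel_left]
        have h3 := (mem_of_conj C u hp k hu hCu hcent c₀ c' hreg hreg' x⁻¹ heq).1
        exact hx (by simpa using C.inv_mem h3)
    simp_rw [hterm]
    rw [sum_extendByZero, Finset.sum_const, Finset.card_univ, nsmul_eq_mul,
      ← Nat.card_eq_fintype_card, ← mul_assoc, inv_mul_cancel₀ hC, one_mul, hφg₀,
      regPart_of_not_dvd _ hreg]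
    exact hζR c₀
  · push Not at hex
    rw [indFun_apply]
    simp_rw [hex]
    rw [Finset.sum_const_zero, mul_zero]
    exact memLocalRing_zero hM'

include hu hCu hcent in
/-- **Characters of one block have congruent columns of generalized decomposition numbers,
weighted by `|G| / χ(1)`.** -/
theorem memLocalIdeal_acoef_sub (hp : p.Prime) (hM' : M.IsPrime) {χ ψ : IrrCharacter G}
    (hsb : SameBlock M (χ : G → ℂ) (ψ : G → ℂ)) (ζ : IrrCharacter C) :
    MemLocalIdeal M ((Nat.card G : ℂ) * acoef p C u χ ζ / (χ : G → ℂ) 1 -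
      (Nat.card G : ℂ) * acoef p C u ψ ζ / (ψ : G → ℂ) 1) := by
  have huC : u ∈ C := by
    apply hcent
    rw [Subgroup.mem_centralizer_iff]
    intro h hh
    rw [Set.mem_singleton_iff.mp hh]
  have hζcl := isClassFunction_of_isIrrCharacter ζ.2
  have hζR : ∀ c, MemLocalRing M (conj ((ζ : C → ℂ) c)) := by
    intro c
    have hint : IsIntegral ℤ (conj ((ζ : C → ℂ) c)) := by
      have h1 := isIntegral_regPart_conj (p := 0) (isCharacter_of_isIrrCharacter ζ.2) c
      have h2 : ¬ 0 ∣ orderOf c := by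
        rw [zero_dvd_iff]
        exact (orderOf_pos c).ne'
      rwa [regPart_of_not_dvd _ h2] at h1
    exact memLocalRing_algInt hM' ⟨_, hint⟩
  have h := memLocalIdeal_omega_sub hM' (isClassFunction_of_isIrrCharacter χ.2)
    (isClassFunction_of_isIrrCharacter ψ.2) hsb (isClassFunction_indFun C (secFun p C u huC ζ))
    (memLocalRing_indFun_secFun C u k hu hCu hcent hp hM' huC hζcl hζR)
  rw [omega_indFun_secFun, omega_indFun_secFun] at h
  exact h

end Cfsg.Agent.Lib.Helper57_SectionInd
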