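import Mathlib
import Cfsg.Agent.Lib.Helper57_MajorNonvanish
import Cfsg.Agent.Lib.Helper57_SectionInd
import Cfsg.Agent.Lib.Helper77_PRoots

/-!
# Nonvanishing of columns of a major subsection (helper57)

Let `y ∈ Z(C)` be a `p`-element, `b` a block of `C` with `b^G = B` and `d(b) = d(B)`.  If `x` is an
integral vector on `b` with `p ∤ ∑ n_χ'ζ x_η w0(ζ, η)` for some `χ' ∈ B` of height zero, then
`∑_η x_η a_j(χ, η) ≠ 0` for every `χ ∈ B` (`sum_acoef_ne_zero`).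
-/

set_option autoImplicit false
set_option linter.unusedSectionVars false

namespace Cfsg.Agent.Lib.Helper57_MajorNV

open Cfsg
open scoped ComplexConjugate
open Cfsg.Agent.Lib.Helper3_CharBridge Cfsg.Agent.Lib.Helper3_CharOrtho
  Cfsg.Agent.Lib.Helper3_CharComplete Cfsg.Agent.Lib.Helper3_CharColumn
  Cfsg.Agent.Lib.Helper75_CharArith Cfsg.Agent.Lib.Helper57_PRegInt
  Cfsg.Agent.Lib.Helper57_HeightZero Cfsg.Agent.Lib.Helper57_BrauerFeit
  Cfsg.Agent.Lib.Helper57_GramTrace Cfsg.Agent.Lib.Helper57_IndBlock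
  Cfsg.Agent.Lib.Helper57_Contribution Cfsg.Agent.Lib.Helper57_Subsection
  Cfsg.Agent.Lib.Helper57_ContribMatrix Cfsg.Agent.Lib.Helper57_BrouePuig
  Cfsg.Agent.Lib.Helper57_MajorNonvanish Cfsg.Agent.Lib.Helper57_SectionInd
  Cfsg.Agent.Lib.Helper78_LocalRing Cfsg.Agent.Lib.Helper78_CharFacts
  Cfsg.Agent.Lib.Helper77_BlockBasics

variable {G : Type*} [Group G] [Fintype G] {p : ℕ} {M : Ideal AlgInt}
variable (C : Subgroup G) [Fintype C] (y : G) (hyC : y ∈ C)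
  (cc : IrrCharacter C → ℂ)
  (hcc : ∀ (ζ : IrrCharacter C) (a : C), (ζ : C → ℂ) (⟨y, hyC⟩ * a) = cc ζ * (ζ : C → ℂ) a)
  (nn : IrrCharacter G → IrrCharacter C → ℕ)
  (hnn : ∀ χ : IrrCharacter G, (fun c : C => (χ : G → ℂ) (c : G)) =
    ∑ ζ : IrrCharacter C, (nn χ ζ : ℂ) • (ζ : C → ℂ))

include hcc hnn in
/-- `p^{d(b)} a_j(χ, η) = ∑_{ζ ∈ b} n_χζ c_ζ^j w0(ζ, η)` for `η ∈ b`. -/
theorem pow_mul_acoef_eq (hM : IsPModular p M) {b : Set (IrrCharacter C)} (he : IsPBlock M b)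
    (w0 : IrrCharacter C → IrrCharacter C → ℤ)
    (hw0 : ∀ ζ ∈ b, ∀ ζ' ∈ b, ((p : ℂ) ^ blockDefect p b) *
      classInner (regPart p (ζ : C → ℂ)) (ζ' : C → ℂ) = (w0 ζ ζ' : ℂ))
    (χ : IrrCharacter G) (j : ℕ) {η : IrrCharacter C} (hη : η ∈ b) :
    ((p : ℂ) ^ blockDefect p b) * acoef p C (y ^ j) χ η =
      ∑ ζ ∈ bset b, (nn χ ζ : ℂ) * cc ζ ^ j * (w0 ζ η : ℂ) := by
  classical
  rw [acoef_pow_eq C y hyC cc hcc nn hnn χ η j, Finset.mul_sum,
    ← Finset.sum_subset (Finset.subset_univ (bset b))]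
  · refine Finset.sum_congr rfl fun ζ hζ => ?_
    rw [← hw0 ζ (mem_bset.mp hζ) η hη]
    ring
  · intro ζ _ hζ
    rw [mem_bset] at hζ
    rw [← regInner_symm (p := p) (η : C → ℂ) (ζ : C → ℂ),
      regInner_eq_zero_of_not_mem hM he hη hζ, map_zero, mul_zero, mul_zero]

include hcc hnn in
/-- **Nonvanishing of integral combinations of a column of a major subsection.** -/
theorem sum_acoef_ne_zero [Fact p.Prime] (hM : IsPModular p M) {b : Set (IrrCharacter C)}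
    {B : Set (IrrCharacter G)} (hind : IsInducedBlock M C b B)
    (hdd : blockDefect p b = blockDefect p B)
    (w0 : IrrCharacter C → IrrCharacter C → ℤ)
    (hw0 : ∀ ζ ∈ b, ∀ ζ' ∈ b, ((p : ℂ) ^ blockDefect p b) *
      classInner (regPart p (ζ : C → ℂ)) (ζ' : C → ℂ) = (w0 ζ ζ' : ℂ))
    (n : ℕ) (hcc1 : ∀ ζ : IrrCharacter C, cc ζ ^ (p ^ n) = 1)
    (j : ℕ) (k : ℕ) (hord : orderOf (y ^ j) = p ^ k)
    (hCu : ∀ c : C, y ^ j * (c : G) = (c : G) * y ^ j)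
    (hcent : Subgroup.centralizer ({y ^ j} : Set G) ≤ C)
    (x : IrrCharacter C → ℤ) {χ' : IrrCharacter G} (hχ' : χ' ∈ B)
    (h0χ' : blockHeight p B (χ' : G → ℂ) = 0)
    (hx : ¬ (p : ℤ) ∣ ∑ ζ ∈ bset b, ∑ η ∈ bset b, ((nn χ' ζ : ℕ) : ℤ) * x η * w0 ζ η)
    {χ : IrrCharacter G} (hχ : χ ∈ B) :
    ∑ η ∈ bset b, (x η : ℂ) * acoef p C (y ^ j) χ η ≠ 0 := by
  classical
  have hp : p.Prime := hM.1
  have hM' := isPrime_of_isPModular hM
  have he : IsPBlock M b := hind.1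
  have hB : IsPBlock M B := hind.2.1
  intro hzero
  -- the congruence
  have hsb : SameBlock M (χ : G → ℂ) (χ' : G → ℂ) := isPBlock_sameBlock hM' hB hχ hχ'
  have hcong : MemLocalIdeal M (∑ η ∈ bset b, (x η : ℂ) *
      ((Nat.card G : ℂ) * acoef p C (y ^ j) χ η / (χ : G → ℂ) 1 -
        (Nat.card G : ℂ) * acoef p C (y ^ j) χ' η / (χ' : G → ℂ) 1)) := by
    refine memLocalIdeal_sum hM' _ _ fun η _ => ?_
    exact memLocalIdeal_mul_left hM' (memLocalRing_intCast hM' _)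
      (memLocalIdeal_acoef_sub C (y ^ j) k hord hCu hcent hp hM' hsb η)
  have hsplit : ∑ η ∈ bset b, (x η : ℂ) *
      ((Nat.card G : ℂ) * acoef p C (y ^ j) χ η / (χ : G → ℂ) 1 -
        (Nat.card G : ℂ) * acoef p C (y ^ j) χ' η / (χ' : G → ℂ) 1) =
      (Nat.card G : ℂ) * (∑ η ∈ bset b, (x η : ℂ) * acoef p C (y ^ j) χ η) / (χ : G → ℂ) 1 -
      (Nat.card G : ℂ) * (∑ η ∈ bset b, (x η : ℂ) * acoef p C (y ^ j) χ' η) /
        (χ' : G → ℂ) 1 := by
    rw [Finset.mul_sum, Finset.mul_sum, Finset.sum_div, Finset.sum_div,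
      ← Finset.sum_sub_distrib]
    refine Finset.sum_congr rfl fun η _ => ?_
    ring
  rw [hsplit, hzero, mul_zero, zero_div, zero_sub] at hcong
  have hcong2 := memLocalIdeal_neg hcong
  rw [neg_neg] at hcong2
  -- the degree of `χ'`
  set E : ℂ := ∑ η ∈ bset b, (x η : ℂ) * acoef p C (y ^ j) χ' η with hE
  set d := blockDefect p B with hd
  have hval : (charDegree (χ' : G → ℂ)).factorization p = h0 p B := by
    rw [val_eq_h0_add hχ', h0χ', add_zero]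
  have hadd : h0 p B + d = (Nat.card G).factorization p := h0_add_defect hχ'
  obtain ⟨δ', hδ'⟩ : ∃ δ' : ℕ, charDegree (χ' : G → ℂ) = p ^ h0 p B * δ' := by
    refine ⟨charDegree (χ' : G → ℂ) / p ^ (charDegree (χ' : G → ℂ)).factorization p, ?_⟩
    rw [← hval]
    exact (Nat.ordProj_mul_ordCompl_eq_self _ p).symm
  have hδ'0 : (δ' : ℂ) ≠ 0 := by
    intro h
    have h1 : δ' = 0 := by exact_mod_cast h
    have := charDegree_pos χ'
    rw [hδ', h1, mul_zero] at this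
    exact lt_irrefl _ this
  have hpC : (p : ℂ) ≠ 0 := Nat.cast_ne_zero.mpr hp.ne_zero
  have hkey : (δ' : ℂ) * ((Nat.card G : ℂ) * E / (χ' : G → ℂ) 1) =
      (mPrime G p : ℂ) * ((p : ℂ) ^ d * E) := by
    rw [apply_one_eq_charDegree χ', hδ']
    have hG : (Nat.card G : ℂ) = (p : ℂ) ^ (h0 p B + d) * (mPrime G p : ℂ) := by
      rw [hadd]
      have h1 := congrArg (Nat.cast (R := ℂ)) (pow_mul_mPrime G p)
      push_cast at h1
      exact h1.symm
    rw [hG, pow_add]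
    push_cast
    field_simp
  have hmem1 : MemLocalIdeal M ((mPrime G p : ℂ) * ((p : ℂ) ^ d * E)) := by
    rw [← hkey]
    exact memLocalIdeal_mul_left hM' (memLocalRing_natCast hM' _) hcong2
  -- expansion of `p ^ d * E`
  have hexp : (p : ℂ) ^ d * E = ∑ η ∈ bset b, ∑ ζ ∈ bset b,
      (x η : ℂ) * ((nn χ' ζ : ℂ) * cc ζ ^ j * (w0 ζ η : ℂ)) := by
    rw [hE, Finset.mul_sum]
    refine Finset.sum_congr rfl fun η hη => ?_
    rw [← Finset.mul_sum, ← pow_mul_acoef_eq C y hyC cc hcc nn hnn hM he w0 hw0 χ' j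
      (mem_bset.mp hη), hdd]
    ring
  set Qb : ℤ := ∑ ζ ∈ bset b, ∑ η ∈ bset b, ((nn χ' ζ : ℕ) : ℤ) * x η * w0 ζ η with hQb
  have hdiff : MemLocalIdeal M ((p : ℂ) ^ d * E - (Qb : ℂ)) := by
    have h1 : (p : ℂ) ^ d * E - (Qb : ℂ) = ∑ η ∈ bset b, ∑ ζ ∈ bset b,
        ((x η : ℂ) * (nn χ' ζ : ℂ) * (w0 ζ η : ℂ)) * (cc ζ ^ j - 1) := by
      rw [hexp, hQb]
      push_cast
      rw [Finset.sum_comm (s := bset b) (t := bset b)
        (f := fun ζ η => (nn χ' ζ : ℂ) * (x η : ℂ) * (w0 ζ η : ℂ)),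
        ← Finset.sum_sub_distrib]
      refine Finset.sum_congr rfl fun η _ => ?_
      rw [← Finset.sum_sub_distrib]
      refine Finset.sum_congr rfl fun ζ _ => ?_
      ring
    rw [h1]
    refine memLocalIdeal_sum hM' _ _ fun η _ => memLocalIdeal_sum hM' _ _ fun ζ _ => ?_
    refine memLocalIdeal_mul_left hM' ?_ ?_
    · exact memLocalRing_mul hM' (memLocalRing_mul hM' (memLocalRing_intCast hM' _)
        (memLocalRing_natCast hM' _)) (memLocalRing_intCast hM' _)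
    · apply Cfsg.Agent.Lib.Helper77_PRoots.memLocalIdeal_sub_one_of_pow_eq_one hM (cc ζ ^ j) n
      rw [← pow_mul, mul_comm, pow_mul, hcc1, one_pow]
  have hmem2 : MemLocalIdeal M (((mPrime G p : ℤ) * Qb : ℤ) : ℂ) := by
    have h1 : (((mPrime G p : ℤ) * Qb : ℤ) : ℂ) = (mPrime G p : ℂ) * ((p : ℂ) ^ d * E) -
        (mPrime G p : ℂ) * ((p : ℂ) ^ d * E - (Qb : ℂ)) := by
      push_cast
      ring
    rw [h1]
    exact memLocalIdeal_sub hM' hmem1
      (memLocalIdeal_mul_left hM' (memLocalRing_natCast hM' _) hdiff)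
  rw [memLocalIdeal_intCast_iff hM] at hmem2
  have hpi : Prime (p : ℤ) := Nat.prime_iff_prime_int.mp hp
  rcases hpi.dvd_or_dvd hmem2 with h | h
  · exact not_dvd_mPrime (G := G) hp (Int.natCast_dvd_natCast.mp h)
  · exact hx h

end Cfsg.Agent.Lib.Helper57_MajorNV
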