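import Mathlib
import Cfsg.Agent.Lib.Helper57_MajorNV

/-!
# Congruences for columns of a major subsection, with heights (helper57)

Let `y ∈ Z(C)` be a `p`-element, `b` a block of `C` with `b^G = B` and `d(b) = d(B)`, `χ ∈ B` of
height `h` and `χ' ∈ B` of height zero.  For an integral vector `x` on `b` put
`e(χ) = ∑_{ζ ∈ b} n_χζ (∑_η x_η w0(ζ, η)) c_ζ^j = p^d ∑_η x_η a_j(χ, η)`.  Then `e(χ) / p^h` is a local
integer and `u e(χ) / p^h ≡ u' ∑ n_χ'ζ x_η w0(ζ, η)` modulo the local ideal, with integers `u, u'`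
prime to `p` (`comb_congr`).
-/

set_option autoImplicit false
set_option linter.unusedSectionVars false

namespace Cfsg.Agent.Lib.Helper57_MajorTwo

open Cfsg
open scoped ComplexConjugate
open Cfsg.Agent.Lib.Helper3_CharBridge Cfsg.Agent.Lib.Helper3_CharOrtho
  Cfsg.Agent.Lib.Helper3_CharComplete Cfsg.Agent.Lib.Helper3_CharColumn
  Cfsg.Agent.Lib.Helper75_CharArith Cfsg.Agent.Lib.Helper57_PRegInt
  Cfsg.Agent.Lib.Helper57_HeightZero Cfsg.Agent.Lib.Helper57_BrauerFeit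
  Cfsg.Agent.Lib.Helper57_GramTrace Cfsg.Agent.Lib.Helper57_IndBlock
  Cfsg.Agent.Lib.Helper57_Contribution Cfsg.Agent.Lib.Helper57_Subsection
  Cfsg.Agent.Lib.Helper57_ContribMatrix Cfsg.Agent.Lib.Helper57_BrouePuig
  Cfsg.Agent.Lib.Helper57_MajorNonvanish Cfsg.Agent.Lib.Helper57_SectionInd
  Cfsg.Agent.Lib.Helper57_MajorNV Cfsg.Agent.Lib.Helper75_Induced
  Cfsg.Agent.Lib.Helper78_LocalRing Cfsg.Agent.Lib.Helper78_CharFacts
  Cfsg.Agent.Lib.Helper78_Osima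
  Cfsg.Agent.Lib.Helper77_BlockBasics

section Sec

variable {G : Type*} [Group G] [Fintype G] {p : ℕ} {M : Ideal AlgInt}
variable (C : Subgroup G) [Fintype C] (u : G) (k : ℕ) (hu : orderOf u = p ^ k)
  (hCu : ∀ c : C, u * (c : G) = (c : G) * u)
  (hcent : Subgroup.centralizer ({u} : Set G) ≤ C)

include hu hCu hcent in
/-- `|G| a(χ, ζ) / χ(1)` is a local integer. -/
theorem memLocalRing_acoef (hp : p.Prime) (hM' : M.IsPrime) (χ : IrrCharacter G)
    (ζ : IrrCharacter C) :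
    MemLocalRing M ((Nat.card G : ℂ) * acoef p C u χ ζ / (χ : G → ℂ) 1) := by
  have huC : u ∈ C := by
    apply hcent
    rw [Subgroup.mem_centralizer_iff]
    intro h hh
    rw [Set.mem_singleton_iff.mp hh]
  have hζcl := isClassFunction_of_isIrrCharacter ζ.2
  have hζR : ∀ c, MemLocalRing M (conj ((ζ : C → ℂ) c)) := by
    intro c
    have hint : IsIntegral ℤ (conj ((ζ : C → ℂ) c)) := by
      have h1 := isIntegral_regPart_conj (p := 0) (isCharacter_of_isIrrCharacter ζ.2) c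
      have h2 : ¬ 0 ∣ orderOf c := by
        rw [zero_dvd_iff]
        exact (orderOf_pos c).ne'
      rwa [regPart_of_not_dvd _ h2] at h1
    exact memLocalRing_algInt hM' ⟨_, hint⟩
  have h := memLocalRing_omega hM' χ.2 (isClassFunction_indFun C (secFun p C u huC ζ))
    (memLocalRing_indFun_secFun C u k hu hCu hcent hp hM' huC hζcl hζR)
  rw [omega_indFun_secFun] at h
  exact h

end Sec

variable {G : Type*} [Group G] [Fintype G] {p : ℕ} {M : Ideal AlgInt}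
variable (C : Subgroup G) [Fintype C] (y : G) (hyC : y ∈ C)
  (cc : IrrCharacter C → ℂ)
  (hcc : ∀ (ζ : IrrCharacter C) (a : C), (ζ : C → ℂ) (⟨y, hyC⟩ * a) = cc ζ * (ζ : C → ℂ) a)
  (nn : IrrCharacter G → IrrCharacter C → ℕ)
  (hnn : ∀ χ : IrrCharacter G, (fun c : C => (χ : G → ℂ) (c : G)) =
    ∑ ζ : IrrCharacter C, (nn χ ζ : ℂ) • (ζ : C → ℂ))

include hcc hnn in
/-- Integral combinations of a column as cyclotomic integers. -/
theorem comb_eq (hM : IsPModular p M) {b : Set (IrrCharacter C)} (he : IsPBlock M b)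
    (w0 : IrrCharacter C → IrrCharacter C → ℤ)
    (hw0 : ∀ ζ ∈ b, ∀ ζ' ∈ b, ((p : ℂ) ^ blockDefect p b) *
      classInner (regPart p (ζ : C → ℂ)) (ζ' : C → ℂ) = (w0 ζ ζ' : ℂ))
    (x : IrrCharacter C → ℤ) (χ : IrrCharacter G) (j : ℕ) :
    ((p : ℂ) ^ blockDefect p b) * ∑ η ∈ bset b, (x η : ℂ) * acoef p C (y ^ j) χ η =
      ∑ ζ ∈ bset b, ((((nn χ ζ : ℕ) : ℤ) * ∑ η ∈ bset b, x η * w0 ζ η : ℤ) : ℂ) * cc ζ ^ j := by
  classical
  rw [Finset.mul_sum]
  have h1 : ∀ η ∈ bset b, ((p : ℂ) ^ blockDefect p b) * ((x η : ℂ) * acoef p C (y ^ j) χ η) =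
      ∑ ζ ∈ bset b, (x η : ℂ) * ((nn χ ζ : ℂ) * cc ζ ^ j * (w0 ζ η : ℂ)) := by
    intro η hη
    rw [← Finset.mul_sum, ← pow_mul_acoef_eq C y hyC cc hcc nn hnn hM he w0 hw0 χ j
      (mem_bset.mp hη)]
    ring
  rw [Finset.sum_congr rfl h1, Finset.sum_comm]
  refine Finset.sum_congr rfl fun ζ _ => ?_
  push_cast
  rw [Finset.mul_sum, Finset.sum_mul]
  refine Finset.sum_congr rfl fun η _ => ?_
  ring

include hcc hnn in
/-- **The column congruence with heights.** -/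
theorem comb_congr [Fact p.Prime] (hM : IsPModular p M) {b : Set (IrrCharacter C)}
    {B : Set (IrrCharacter G)} (hind : IsInducedBlock M C b B)
    (hdd : blockDefect p b = blockDefect p B)
    (w0 : IrrCharacter C → IrrCharacter C → ℤ)
    (hw0 : ∀ ζ ∈ b, ∀ ζ' ∈ b, ((p : ℂ) ^ blockDefect p b) *
      classInner (regPart p (ζ : C → ℂ)) (ζ' : C → ℂ) = (w0 ζ ζ' : ℂ))
    (n : ℕ) (hcc1 : ∀ ζ : IrrCharacter C, cc ζ ^ (p ^ n) = 1)
    (j : ℕ) (k : ℕ) (hord : orderOf (y ^ j) = p ^ k)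
    (hCu : ∀ c : C, y ^ j * (c : G) = (c : G) * y ^ j)
    (hcent : Subgroup.centralizer ({y ^ j} : Set G) ≤ C)
    (x : IrrCharacter C → ℤ) {χ' : IrrCharacter G} (hχ' : χ' ∈ B)
    (h0χ' : blockHeight p B (χ' : G → ℂ) = 0)
    {χ : IrrCharacter G} (hχ : χ ∈ B) :
    MemLocalRing M ((∑ ζ ∈ bset b,
        ((((nn χ ζ : ℕ) : ℤ) * ∑ η ∈ bset b, x η * w0 ζ η : ℤ) : ℂ) * cc ζ ^ j) /
      (p : ℂ) ^ blockHeight p B (χ : G → ℂ)) ∧
    ∃ u u' : ℤ, ¬ (p : ℤ) ∣ u ∧ ¬ (p : ℤ) ∣ u' ∧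
      MemLocalIdeal M ((u : ℂ) * ((∑ ζ ∈ bset b,
        ((((nn χ ζ : ℕ) : ℤ) * ∑ η ∈ bset b, x η * w0 ζ η : ℤ) : ℂ) * cc ζ ^ j) /
          (p : ℂ) ^ blockHeight p B (χ : G → ℂ)) -
        ((u' * ∑ ζ ∈ bset b, ∑ η ∈ bset b, ((nn χ' ζ : ℕ) : ℤ) * x η * w0 ζ η : ℤ) : ℂ)) := by
  classical
  have hp : p.Prime := hM.1
  have hM' := isPrime_of_isPModular hM
  have he : IsPBlock M b := hind.1
  have hB : IsPBlock M B := hind.2.1
  have hpC : (p : ℂ) ≠ 0 := Nat.cast_ne_zero.mpr hp.ne_zero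
  rw [← comb_eq C y hyC cc hcc nn hnn hM he w0 hw0 x χ j]
  set E : ℂ := ∑ η ∈ bset b, (x η : ℂ) * acoef p C (y ^ j) χ η with hE
  set E' : ℂ := ∑ η ∈ bset b, (x η : ℂ) * acoef p C (y ^ j) χ' η with hE'
  set d := blockDefect p B with hd
  set hgt := blockHeight p B (χ : G → ℂ) with hhgt
  rw [hdd]
  -- the congruence
  have hsb : SameBlock M (χ : G → ℂ) (χ' : G → ℂ) := isPBlock_sameBlock hM' hB hχ hχ'
  have hsplit : ∀ φ : IrrCharacter G, ∑ η ∈ bset b, (x η : ℂ) *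
      ((Nat.card G : ℂ) * acoef p C (y ^ j) φ η / (φ : G → ℂ) 1) =
      (Nat.card G : ℂ) * (∑ η ∈ bset b, (x η : ℂ) * acoef p C (y ^ j) φ η) / (φ : G → ℂ) 1 := by
    intro φ
    rw [Finset.mul_sum, Finset.sum_div]
    refine Finset.sum_congr rfl fun η _ => ?_
    ring
  have hcong : MemLocalIdeal M ((Nat.card G : ℂ) * E / (χ : G → ℂ) 1 -
      (Nat.card G : ℂ) * E' / (χ' : G → ℂ) 1) := by
    rw [hE, hE', ← hsplit χ, ← hsplit χ', ← Finset.sum_sub_distrib]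
    refine memLocalIdeal_sum hM' _ _ fun η _ => ?_
    rw [← mul_sub]
    exact memLocalIdeal_mul_left hM' (memLocalRing_intCast hM' _)
      (memLocalIdeal_acoef_sub C (y ^ j) k hord hCu hcent hp hM' hsb η)
  have hring : MemLocalRing M ((Nat.card G : ℂ) * E / (χ : G → ℂ) 1) := by
    rw [hE, ← hsplit χ]
    refine memLocalRing_sum hM' _ _ fun η _ => ?_
    exact memLocalRing_mul hM' (memLocalRing_intCast hM' _)
      (memLocalRing_acoef C (y ^ j) k hord hCu hcent hp hM' χ η)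
  -- degrees
  have hadd : h0 p B + d = (Nat.card G).factorization p := h0_add_defect hχ'
  have hG : (Nat.card G : ℂ) = (p : ℂ) ^ (h0 p B + d) * (mPrime G p : ℂ) := by
    rw [hadd]
    have h1 := congrArg (Nat.cast (R := ℂ)) (pow_mul_mPrime G p)
    push_cast at h1
    exact h1.symm
  have hdeg : ∀ {φ : IrrCharacter G}, φ ∈ B → ∃ δ : ℕ, ¬ p ∣ δ ∧ (δ : ℂ) ≠ 0 ∧
      (φ : G → ℂ) 1 = (p : ℂ) ^ (h0 p B + blockHeight p B (φ : G → ℂ)) * (δ : ℂ) := by
    intro φ hφ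
    refine ⟨charDegree (φ : G → ℂ) / p ^ (charDegree (φ : G → ℂ)).factorization p,
      Nat.not_dvd_ordCompl hp (charDegree_pos φ).ne', ?_, ?_⟩
    · have h1 := Nat.ordProj_mul_ordCompl_eq_self (charDegree (φ : G → ℂ)) p
      intro h
      have h2 : charDegree (φ : G → ℂ) / p ^ (charDegree (φ : G → ℂ)).factorization p = 0 := by
        exact_mod_cast h
      rw [h2, mul_zero] at h1
      exact (charDegree_pos φ).ne' h1.symm
    · rw [apply_one_eq_charDegree φ, ← val_eq_h0_add hφ]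
      have h1 := congrArg (Nat.cast (R := ℂ))
        (Nat.ordProj_mul_ordCompl_eq_self (charDegree (φ : G → ℂ)) p)
      push_cast at h1
      exact h1.symm
  obtain ⟨δχ, hδχp, hδχ0, hδχ⟩ := hdeg hχ
  obtain ⟨δ', hδ'p, hδ'0, hδ'⟩ := hdeg hχ'
  rw [h0χ', add_zero] at hδ'
  rw [← hhgt] at hδχ
  have hkey1 : (δχ : ℂ) * ((Nat.card G : ℂ) * E / (χ : G → ℂ) 1) =
      (mPrime G p : ℂ) * ((p : ℂ) ^ d * E / (p : ℂ) ^ hgt) := by
    rw [hδχ, hG, pow_add, pow_add]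
    field_simp
  have hkey2 : (δ' : ℂ) * ((Nat.card G : ℂ) * E' / (χ' : G → ℂ) 1) =
      (mPrime G p : ℂ) * ((p : ℂ) ^ d * E') := by
    rw [hδ', hG, pow_add]
    field_simp
  have hmG : ¬ MemLocalIdeal M ((mPrime G p : ℕ) : ℂ) := by
    rw [memLocalIdeal_natCast_iff hM]
    exact not_dvd_mPrime (G := G) hp
  have hmG0 : ((mPrime G p : ℕ) : ℂ) ≠ 0 := fun h => hmG (h ▸ memLocalIdeal_zero hM')
  refine ⟨?_, ?_⟩
  · have h1 : MemLocalRing M ((mPrime G p : ℂ) * ((p : ℂ) ^ d * E / (p : ℂ) ^ hgt)) := by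
      rw [← hkey1]
      exact memLocalRing_mul hM' (memLocalRing_natCast hM' _) hring
    have h2 := memLocalRing_mul hM' (memLocalRing_inv hM' (memLocalRing_natCast hM' _) hmG) h1
    rwa [← mul_assoc, inv_mul_cancel₀ hmG0, one_mul] at h2
  · -- expansion of `p ^ d * E'`
    have hexp : (p : ℂ) ^ d * E' = ∑ η ∈ bset b, ∑ ζ ∈ bset b,
        (x η : ℂ) * ((nn χ' ζ : ℂ) * cc ζ ^ j * (w0 ζ η : ℂ)) := by
      rw [hE', Finset.mul_sum]
      refine Finset.sum_congr rfl fun η hη => ?_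
      rw [← Finset.mul_sum, ← pow_mul_acoef_eq C y hyC cc hcc nn hnn hM he w0 hw0 χ' j
        (mem_bset.mp hη), hdd]
      ring
    set Qb : ℤ := ∑ ζ ∈ bset b, ∑ η ∈ bset b, ((nn χ' ζ : ℕ) : ℤ) * x η * w0 ζ η with hQb
    have hdiff : MemLocalIdeal M ((p : ℂ) ^ d * E' - (Qb : ℂ)) := by
      have h1 : (p : ℂ) ^ d * E' - (Qb : ℂ) = ∑ η ∈ bset b, ∑ ζ ∈ bset b,
          ((x η : ℂ) * (nn χ' ζ : ℂ) * (w0 ζ η : ℂ)) * (cc ζ ^ j - 1) := by
        rw [hexp, hQb]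
        push_cast
        rw [Finset.sum_comm (s := bset b) (t := bset b)
          (f := fun ζ η => (nn χ' ζ : ℂ) * (x η : ℂ) * (w0 ζ η : ℂ)),
          ← Finset.sum_sub_distrib]
        refine Finset.sum_congr rfl fun η _ => ?_
        rw [← Finset.sum_sub_distrib]
        refine Finset.sum_congr rfl fun ζ _ => ?_
        ring
      rw [h1]
      refine memLocalIdeal_sum hM' _ _ fun η _ => memLocalIdeal_sum hM' _ _ fun ζ _ => ?_
      refine memLocalIdeal_mul_left hM' ?_ ?_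
      · exact memLocalRing_mul hM' (memLocalRing_mul hM' (memLocalRing_intCast hM' _)
          (memLocalRing_natCast hM' _)) (memLocalRing_intCast hM' _)
      · apply Cfsg.Agent.Lib.Helper77_PRoots.memLocalIdeal_sub_one_of_pow_eq_one hM (cc ζ ^ j) n
        rw [← pow_mul, mul_comm, pow_mul, hcc1, one_pow]
    refine ⟨((δ' * mPrime G p : ℕ) : ℤ), ((δχ * mPrime G p : ℕ) : ℤ), ?_, ?_, ?_⟩
    · rw [Int.natCast_dvd_natCast]
      intro h
      rcases (Nat.Prime.dvd_mul hp).mp h with h | h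
      · exact hδ'p h
      · exact not_dvd_mPrime (G := G) hp h
    · rw [Int.natCast_dvd_natCast]
      intro h
      rcases (Nat.Prime.dvd_mul hp).mp h with h | h
      · exact hδχp h
      · exact not_dvd_mPrime (G := G) hp h
    · have h1 : ((((δ' * mPrime G p : ℕ) : ℤ) : ℂ)) * ((p : ℂ) ^ d * E / (p : ℂ) ^ hgt) -
          (((((δχ * mPrime G p : ℕ) : ℤ)) * Qb : ℤ) : ℂ) =
          ((δχ : ℂ) * (δ' : ℂ)) * ((Nat.card G : ℂ) * E / (χ : G → ℂ) 1 -
            (Nat.card G : ℂ) * E' / (χ' : G → ℂ) 1) +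
          ((δχ : ℂ) * (mPrime G p : ℂ)) * ((p : ℂ) ^ d * E' - (Qb : ℂ)) := by
        have e1 : ((δχ : ℂ) * (δ' : ℂ)) * ((Nat.card G : ℂ) * E / (χ : G → ℂ) 1 -
            (Nat.card G : ℂ) * E' / (χ' : G → ℂ) 1) =
            (δ' : ℂ) * ((δχ : ℂ) * ((Nat.card G : ℂ) * E / (χ : G → ℂ) 1)) -
            (δχ : ℂ) * ((δ' : ℂ) * ((Nat.card G : ℂ) * E' / (χ' : G → ℂ) 1)) := by ring
        rw [e1, hkey1, hkey2]
        push_cast
        ring
      rw [h1]
      refine memLocalIdeal_add hM' ?_ ?_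
      · exact memLocalIdeal_mul_left hM' (memLocalRing_mul hM' (memLocalRing_natCast hM' _)
          (memLocalRing_natCast hM' _)) hcong
      · exact memLocalIdeal_mul_left hM' (memLocalRing_mul hM' (memLocalRing_natCast hM' _)
          (memLocalRing_natCast hM' _)) hdiff

end Cfsg.Agent.Lib.Helper57_MajorTwo
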