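import Mathlib

/-!
# The bilinear form of an integral matrix on a finite set of indices (helper57)

`wform s w x y = ∑_{i, i' ∈ s} x_i y_i' w(i, i')` as a `ℤ`-bilinear form on `ι → ℤ`, its values on
the standard basis, and the rank-one congruence.
-/

set_option autoImplicit false

namespace Cfsg.Agent.Lib.Helper57_WForm

open Finset

variable {ι : Type*}

/-- The bilinear form `∑_{i, i' ∈ s} x_i y_i' w(i, i')`. -/
def wform (s : Finset ι) (w : ι → ι → ℤ) : LinearMap.BilinForm ℤ (ι → ℤ) :=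
  LinearMap.mk₂ ℤ (fun x y => ∑ i ∈ s, ∑ i' ∈ s, x i * y i' * w i i')
    (by
      intro x x' y
      simp only [Pi.add_apply, add_mul, sum_add_distrib])
    (by
      intro c x y
      simp only [Pi.smul_apply, smul_eq_mul, mul_sum]
      exact sum_congr rfl fun i _ => sum_congr rfl fun i' _ => by ring)
    (by
      intro x y y'
      simp only [Pi.add_apply, mul_add, add_mul, sum_add_distrib])
    (by
      intro c x y
      simp only [Pi.smul_apply, smul_eq_mul, mul_sum]
      exact sum_congr rfl fun i _ => sum_congr rfl fun i' _ => by ring)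

theorem wform_apply (s : Finset ι) (w : ι → ι → ℤ) (x y : ι → ℤ) :
    wform s w x y = ∑ i ∈ s, ∑ i' ∈ s, x i * y i' * w i i' := rfl

theorem wform_symm (s : Finset ι) {w : ι → ι → ℤ} (hw : ∀ i i', w i i' = w i' i)
    (x y : ι → ℤ) : wform s w x y = wform s w y x := by
  rw [wform_apply, wform_apply, sum_comm]
  refine sum_congr rfl fun i _ => sum_congr rfl fun i' _ => ?_
  rw [hw i' i]
  ring

theorem wform_single [DecidableEq ι] (s : Finset ι) (w : ι → ι → ℤ) {i i' : ι} (hi : i ∈ s)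
    (hi' : i' ∈ s) (a a' : ℤ) :
    wform s w (Pi.single i a) (Pi.single i' a') = a * a' * w i i' := by
  rw [wform_apply, sum_eq_single i]
  · rw [sum_eq_single i']
    · rw [Pi.single_eq_same, Pi.single_eq_same]
    · intro j _ hj
      rw [Pi.single_eq_of_ne hj, mul_zero, zero_mul]
    · intro h
      exact absurd hi' h
  · intro j _ hj
    refine sum_eq_zero fun j' _ => ?_
    rw [Pi.single_eq_of_ne hj, zero_mul, zero_mul]
  · intro h
    exact absurd hi h

/-- A matrix of rank one modulo `p` gives a form of rank one modulo `p`. -/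
theorem rank_one (s : Finset ι) (w : ι → ι → ℤ) (p m : ℤ) (δ R : ι → ℤ)
    (h : ∀ i ∈ s, ∀ i' ∈ s, p ∣ m * w i i' - δ i * R i') (u x : ι → ℤ) :
    p ∣ m * wform s w u x - (∑ i ∈ s, u i * δ i) * (∑ i ∈ s, x i * R i) := by
  rw [wform_apply, mul_sum, sum_mul, ← sum_sub_distrib]
  refine dvd_sum fun i hi => ?_
  rw [mul_sum, mul_sum, ← sum_sub_distrib]
  refine dvd_sum fun i' hi' => ?_
  have : m * (u i * x i' * w i i') - u i * δ i * (x i' * R i') =
      (m * w i i' - δ i * R i') * (u i * x i') := by ring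
  rw [this]
  exact Dvd.dvd.mul_right (h i hi i' hi') _

/-- If `m (form) ≡ D ⊗ R` modulo a prime `p` with `p ∤ m`, then `p ∤ wform u x` whenever
`p ∤ D(u)` and `p ∤ R(x)`. -/
theorem not_dvd_wform (s : Finset ι) (w : ι → ι → ℤ) {p : ℤ} (hp : Prime p) (m : ℤ)
    (δ R : ι → ℤ) (h : ∀ i ∈ s, ∀ i' ∈ s, p ∣ m * w i i' - δ i * R i') (u x : ι → ℤ)
    (hu : ¬ p ∣ ∑ i ∈ s, u i * δ i) (hx : ¬ p ∣ ∑ i ∈ s, x i * R i) :
    ¬ p ∣ wform s w u x := by
  intro hdiv
  have h1 := rank_one s w p m δ R h u x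
  have h2 : p ∣ (∑ i ∈ s, u i * δ i) * (∑ i ∈ s, x i * R i) := by
    have := dvd_sub (Dvd.dvd.mul_left hdiv m) h1
    rwa [sub_sub_cancel] at this
  rcases hp.dvd_or_dvd h2 with h3 | h3
  · exact hu h3
  · exact hx h3

/-- If the form represents a number prime to `p·m`... : from `wform x x` prime to `p` and
`p ∤ m` we get `p ∤ R(x)`. -/
theorem not_dvd_R (s : Finset ι) (w : ι → ι → ℤ) {p : ℤ} (hp : Prime p) (m : ℤ) (hm : ¬ p ∣ m)
    (δ R : ι → ℤ) (h : ∀ i ∈ s, ∀ i' ∈ s, p ∣ m * w i i' - δ i * R i') (u x : ι → ℤ)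
    (hux : ¬ p ∣ wform s w u x) : ¬ p ∣ ∑ i ∈ s, x i * R i := by
  intro hdiv
  have h1 := rank_one s w p m δ R h u x
  have h2 : p ∣ m * wform s w u x := by
    have := dvd_add h1 (Dvd.dvd.mul_left hdiv (∑ i ∈ s, u i * δ i))
    rwa [sub_add_cancel] at this
  rcases hp.dvd_or_dvd h2 with h3 | h3
  · exact hm h3
  · exact hux h3

end Cfsg.Agent.Lib.Helper57_WForm
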