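import Mathlib
import Cfsg.Agent.Lib.Helper57_MajorTwo
import Cfsg.Agent.Lib.Helper57_WForm
import Cfsg.Agent.Lib.Helper57_ContribRow

/-!
# Nonvanishing and strictness for the contribution matrix of a major subsection (helper57)

Let `(y, b)` be a major subsection of the `p`-block `B` (with `d(b) = d(B)`), `j` prime to `p`.

* `gmat_ne_zero`: `m^{(y^j, b)}_{χψ} ≠ 0` for `χ, ψ ∈ B` with `ψ` of height zero;
* `gmat_self_lt_one`: `m^{(y^j, b)}_{χχ} < 1` for `χ ∈ B` unless `B = {χ}`.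
-/

set_option autoImplicit false
set_option linter.unusedSectionVars false

namespace Cfsg.Agent.Lib.Helper57_MajorGram

open Cfsg
open scoped ComplexConjugate
open Cfsg.Agent.Lib.Helper3_CharBridge Cfsg.Agent.Lib.Helper3_CharOrtho
  Cfsg.Agent.Lib.Helper75_CharArith Cfsg.Agent.Lib.Helper57_PRegInt
  Cfsg.Agent.Lib.Helper57_HeightZero Cfsg.Agent.Lib.Helper57_BrauerFeit
  Cfsg.Agent.Lib.Helper57_GramTrace
  Cfsg.Agent.Lib.Helper57_Contribution Cfsg.Agent.Lib.Helper57_Subsection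
  Cfsg.Agent.Lib.Helper57_ContribMatrix Cfsg.Agent.Lib.Helper57_BrouePuig
  Cfsg.Agent.Lib.Helper57_ContribRow
  Cfsg.Agent.Lib.Helper57_MajorNonvanish Cfsg.Agent.Lib.Helper57_MajorNV
  Cfsg.Agent.Lib.Helper57_MajorTwo Cfsg.Agent.Lib.Helper57_WForm
  Cfsg.Agent.Lib.Helper78_LocalRing Cfsg.Agent.Lib.Helper78_CharFacts
  Cfsg.Agent.Lib.Helper77_BlockBasics

section Herm

variable {G : Type*} [Group G] [Fintype G] {p : ℕ}
variable (C : Subgroup G) [Fintype C] (u : G)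

theorem gmat_conj (e : Set (IrrCharacter C)) (χ ψ : IrrCharacter G) :
    conj (gmat p C u e χ ψ) = gmat p C u e ψ χ := by
  unfold gmat
  rw [map_sum]
  refine Finset.sum_congr rfl fun η _ => ?_
  rw [map_mul, Complex.conj_conj, mul_comm]

end Herm

variable {G : Type*} [Group G] [Fintype G] {p : ℕ} {M : Ideal AlgInt}
variable (C : Subgroup G) [Fintype C] (y : G) (hyC : y ∈ C)
  (cc : IrrCharacter C → ℂ)
  (hcc : ∀ (ζ : IrrCharacter C) (a : C), (ζ : C → ℂ) (⟨y, hyC⟩ * a) = cc ζ * (ζ : C → ℂ) a)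
  (nn : IrrCharacter G → IrrCharacter C → ℕ)
  (hnn : ∀ χ : IrrCharacter G, (fun c : C => (χ : G → ℂ) (c : G)) =
    ∑ ζ : IrrCharacter C, (nn χ ζ : ℂ) • (ζ : C → ℂ))

include hcc hnn in
theorem acoef_block_eq (hM : IsPModular p M) {b : Set (IrrCharacter C)} (he : IsPBlock M b)
    (χ : IrrCharacter G) (j : ℕ) {η : IrrCharacter C} (hη : η ∈ b) :
    acoef p C (y ^ j) χ η = ∑ ζ ∈ bset b, ((nn χ ζ : ℂ) * cc ζ ^ j) *
      classInner (regPart p (ζ : C → ℂ)) (η : C → ℂ) := by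
  classical
  rw [acoef_pow_eq C y hyC cc hcc nn hnn χ η j,
    ← Finset.sum_subset (Finset.subset_univ (bset b))]
  intro ζ _ hζ
  rw [mem_bset] at hζ
  rw [← regInner_symm (p := p) (η : C → ℂ) (ζ : C → ℂ),
    regInner_eq_zero_of_not_mem hM he hη hζ, map_zero, mul_zero]

include hcc hnn in
/-- `m_j(χ, ψ) = ∑_{η ∈ b} n_ψη conj(c_η)^j a_j(χ, η)`. -/
theorem gmat_alt (hM : IsPModular p M) {b : Set (IrrCharacter C)} (he : IsPBlock M b)
    (χ ψ : IrrCharacter G) (j : ℕ) :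
    gmat p C (y ^ j) b χ ψ =
      ∑ η ∈ bset b, ((nn ψ η : ℂ) * conj (cc η) ^ j) * acoef p C (y ^ j) χ η := by
  classical
  rw [gmat_pow_eq C y hyC cc hcc nn hnn hM he χ ψ j, Finset.sum_comm]
  refine Finset.sum_congr rfl fun η hη => ?_
  rw [acoef_block_eq C y hyC cc hcc nn hnn hM he χ j (mem_bset.mp hη), Finset.mul_sum]
  refine Finset.sum_congr rfl fun ζ _ => ?_
  rw [mul_pow]
  ring

include hcc hnn in
/-- `p^d a_j(χ, η) / p^h` is a local integer for `χ ∈ B` of height `h` and `η ∈ b`. -/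
theorem memLocalRing_pow_acoef_div [Fact p.Prime] (hM : IsPModular p M)
    {b : Set (IrrCharacter C)} {B : Set (IrrCharacter G)} (hind : IsInducedBlock M C b B)
    (hdd : blockDefect p b = blockDefect p B)
    (w0 : IrrCharacter C → IrrCharacter C → ℤ)
    (hw0 : ∀ ζ ∈ b, ∀ ζ' ∈ b, ((p : ℂ) ^ blockDefect p b) *
      classInner (regPart p (ζ : C → ℂ)) (ζ' : C → ℂ) = (w0 ζ ζ' : ℂ))
    (n : ℕ) (hcc1 : ∀ ζ : IrrCharacter C, cc ζ ^ (p ^ n) = 1)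
    (j : ℕ) (k : ℕ) (hord : orderOf (y ^ j) = p ^ k)
    (hCu : ∀ c : C, y ^ j * (c : G) = (c : G) * y ^ j)
    (hcent : Subgroup.centralizer ({y ^ j} : Set G) ≤ C)
    {χ' : IrrCharacter G} (hχ' : χ' ∈ B) (h0χ' : blockHeight p B (χ' : G → ℂ) = 0)
    {χ : IrrCharacter G} (hχ : χ ∈ B) {η : IrrCharacter C} (hη : η ∈ b) :
    MemLocalRing M ((p : ℂ) ^ blockDefect p b * acoef p C (y ^ j) χ η /
      (p : ℂ) ^ blockHeight p B (χ : G → ℂ)) := by
  classical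
  have h := (comb_congr C y hyC cc hcc nn hnn hM hind hdd w0 hw0 n hcc1 j k hord hCu hcent
    (Pi.single η 1) hχ' h0χ' hχ).1
  rw [← comb_eq C y hyC cc hcc nn hnn hM hind.1 w0 hw0 (Pi.single η 1) χ j] at h
  have h1 : ∑ η' ∈ bset b, (((Pi.single η 1 : IrrCharacter C → ℤ) η' : ℤ) : ℂ) *
      acoef p C (y ^ j) χ η' = acoef p C (y ^ j) χ η := by
    rw [Finset.sum_eq_single η]
    · rw [Pi.single_eq_same, Int.cast_one, one_mul]
    · intro η' _ hne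
      rw [Pi.single_eq_of_ne hne, Int.cast_zero, zero_mul]
    · intro hnot
      exact absurd (mem_bset.mpr hη) hnot
  rwa [h1] at h

include hcc hnn in
/-- **Nonvanishing of the contributions** against a character of height zero. -/
theorem gmat_ne_zero [Fact p.Prime] (hM : IsPModular p M)
    {b : Set (IrrCharacter C)} {B : Set (IrrCharacter G)} (hind : IsInducedBlock M C b B)
    (hdd : blockDefect p b = blockDefect p B)
    (w0 : IrrCharacter C → IrrCharacter C → ℤ)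
    (hw0 : ∀ ζ ∈ b, ∀ ζ' ∈ b, ((p : ℂ) ^ blockDefect p b) *
      classInner (regPart p (ζ : C → ℂ)) (ζ' : C → ℂ) = (w0 ζ ζ' : ℂ))
    (δ R : IrrCharacter C → ℤ)
    (hrank : ∀ ζ ∈ bset b, ∀ ζ' ∈ bset b, (p : ℤ) ∣ (mPrime C p : ℤ) * w0 ζ ζ' - δ ζ * R ζ')
    (n : ℕ) (hcc1 : ∀ ζ : IrrCharacter C, cc ζ ^ (p ^ n) = 1)
    (j : ℕ) (k : ℕ) (hord : orderOf (y ^ j) = p ^ k)
    (hCu : ∀ c : C, y ^ j * (c : G) = (c : G) * y ^ j)
    (hcent : Subgroup.centralizer ({y ^ j} : Set G) ≤ C)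
    {ψ : IrrCharacter G} (hψ : ψ ∈ B) (h0ψ : blockHeight p B (ψ : G → ℂ) = 0)
    (hDu : ¬ (p : ℤ) ∣ ∑ ζ ∈ bset b, ((nn ψ ζ : ℕ) : ℤ) * δ ζ)
    (hRu : ¬ (p : ℤ) ∣ ∑ ζ ∈ bset b, ((nn ψ ζ : ℕ) : ℤ) * R ζ)
    {χ : IrrCharacter G} (hχ : χ ∈ B) :
    gmat p C (y ^ j) b χ ψ ≠ 0 := by
  classical
  have hp : p.Prime := hM.1
  have hM' := isPrime_of_isPModular hM
  have hpi : Prime (p : ℤ) := Nat.prime_iff_prime_int.mp hp
  intro hzero
  set hgt := blockHeight p B (χ : G → ℂ) with hhgt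
  set A : IrrCharacter C → ℂ := fun η =>
    (p : ℂ) ^ blockDefect p b * acoef p C (y ^ j) χ η / (p : ℂ) ^ hgt with hA
  have hAR : ∀ η ∈ bset b, MemLocalRing M (A η) := fun η hη =>
    memLocalRing_pow_acoef_div C y hyC cc hcc nn hnn hM hind hdd w0 hw0 n hcc1 j k hord hCu hcent
      hψ h0ψ hχ (mem_bset.mp hη)
  -- the congruence for the integral vector `n_ψ`
  obtain ⟨-, u, u', hu, hu', hI⟩ := comb_congr C y hyC cc hcc nn hnn hM hind hdd w0 hw0 n hcc1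
    j k hord hCu hcent (fun η => ((nn ψ η : ℕ) : ℤ)) hψ h0ψ hχ
  rw [← comb_eq C y hyC cc hcc nn hnn hM hind.1 w0 hw0 (fun η => ((nn ψ η : ℕ) : ℤ)) χ j] at hI
  have h1 : (p : ℂ) ^ blockDefect p b * (∑ η ∈ bset b, (((nn ψ η : ℕ) : ℤ) : ℂ) *
      acoef p C (y ^ j) χ η) / (p : ℂ) ^ hgt = ∑ η ∈ bset b, (nn ψ η : ℂ) * A η := by
    rw [Finset.mul_sum, Finset.sum_div]
    refine Finset.sum_congr rfl fun η _ => ?_
    rw [hA]
    push_cast
    ring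
  rw [h1] at hI
  -- the contribution itself
  have h2 : ∑ η ∈ bset b, ((nn ψ η : ℂ) * conj (cc η) ^ j) * A η = 0 := by
    have : ∑ η ∈ bset b, ((nn ψ η : ℂ) * conj (cc η) ^ j) * A η =
        (p : ℂ) ^ blockDefect p b * gmat p C (y ^ j) b χ ψ / (p : ℂ) ^ hgt := by
      rw [gmat_alt C y hyC cc hcc nn hnn hM hind.1 χ ψ j, Finset.mul_sum, Finset.sum_div]
      refine Finset.sum_congr rfl fun η _ => ?_
      rw [hA]
      ring
    rw [this, hzero, mul_zero, zero_div]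
  have h3 : MemLocalIdeal M (∑ η ∈ bset b, (nn ψ η : ℂ) * A η) := by
    have h4 : ∑ η ∈ bset b, (nn ψ η : ℂ) * A η =
        - ∑ η ∈ bset b, ((nn ψ η : ℂ) * A η) * (conj (cc η) ^ j - 1) := by
      rw [← sub_eq_zero, sub_neg_eq_add, ← Finset.sum_add_distrib, ← h2]
      refine Finset.sum_congr rfl fun η _ => ?_
      ring
    rw [h4]
    refine memLocalIdeal_neg (memLocalIdeal_sum hM' _ _ fun η hη => ?_)
    refine memLocalIdeal_mul_left hM' (memLocalRing_mul hM' (memLocalRing_natCast hM' _)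
      (hAR η hη)) ?_
    apply Cfsg.Agent.Lib.Helper77_PRoots.memLocalIdeal_sub_one_of_pow_eq_one hM
      (conj (cc η) ^ j) n
    rw [← pow_mul, mul_comm, pow_mul, ← map_pow, hcc1, map_one, one_pow]
  have h5 : MemLocalIdeal M (((u' * ∑ ζ ∈ bset b, ∑ η ∈ bset b,
      ((nn ψ ζ : ℕ) : ℤ) * ((nn ψ η : ℕ) : ℤ) * w0 ζ η : ℤ) : ℂ)) := by
    have := memLocalIdeal_sub hM' (memLocalIdeal_mul_left hM' (memLocalRing_intCast hM' u) h3) hI
    rwa [sub_sub_cancel] at this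
  rw [memLocalIdeal_intCast_iff hM] at h5
  rcases hpi.dvd_or_dvd h5 with h | h
  · exact hu' h
  · have := not_dvd_wform (bset b) w0 hpi _ δ R hrank (fun ζ => ((nn ψ ζ : ℕ) : ℤ))
      (fun ζ => ((nn ψ ζ : ℕ) : ℤ)) hDu hRu
    rw [wform_apply] at this
    exact this h

include hcc hnn in
/-- **Strictness**: the diagonal contributions are `< 1` unless `B` is a singleton. -/
theorem gmat_self_lt_one [Fact p.Prime] (hM : IsPModular p M)
    {b : Set (IrrCharacter C)} {B : Set (IrrCharacter G)} (hind : IsInducedBlock M C b B)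
    (hdd : blockDefect p b = blockDefect p B)
    (w0 : IrrCharacter C → IrrCharacter C → ℤ)
    (hw0 : ∀ ζ ∈ b, ∀ ζ' ∈ b, ((p : ℂ) ^ blockDefect p b) *
      classInner (regPart p (ζ : C → ℂ)) (ζ' : C → ℂ) = (w0 ζ ζ' : ℂ))
    (δ R : IrrCharacter C → ℤ)
    (hrank : ∀ ζ ∈ bset b, ∀ ζ' ∈ bset b, (p : ℤ) ∣ (mPrime C p : ℤ) * w0 ζ ζ' - δ ζ * R ζ')
    (n : ℕ) (hcc1 : ∀ ζ : IrrCharacter C, cc ζ ^ (p ^ n) = 1)
    (j : ℕ) (k : ℕ) (hord : orderOf (y ^ j) = p ^ k)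
    (hCu : ∀ c : C, y ^ j * (c : G) = (c : G) * y ^ j)
    (hcent : Subgroup.centralizer ({y ^ j} : Set G) ≤ C)
    (hDu : ∀ χ ∈ B, blockHeight p B (χ : G → ℂ) = 0 →
      ¬ (p : ℤ) ∣ ∑ ζ ∈ bset b, ((nn χ ζ : ℕ) : ℤ) * δ ζ)
    (hRu : ∀ χ ∈ B, blockHeight p B (χ : G → ℂ) = 0 →
      ¬ (p : ℤ) ∣ ∑ ζ ∈ bset b, ((nn χ ζ : ℕ) : ℤ) * R ζ)
    {χ ψ₀ : IrrCharacter G} (hχ : χ ∈ B) (hψ₀ : ψ₀ ∈ B) (hne : ψ₀ ≠ χ) :
    ∑ η ∈ bset b, Complex.normSq (acoef p C (y ^ j) χ η) < 1 := by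
  classical
  have hM' := isPrime_of_isPModular hM
  set r : ℝ := ∑ η ∈ bset b, Complex.normSq (acoef p C (y ^ j) χ η) with hr
  have hr0 : 0 ≤ r := Finset.sum_nonneg fun η _ => Complex.normSq_nonneg _
  by_contra hge
  have hr1 : 1 ≤ r := not_lt.mp hge
  have hNV : ∀ {χ₁ ψ₁ : IrrCharacter G}, χ₁ ∈ B → ψ₁ ∈ B → blockHeight p B (ψ₁ : G → ℂ) = 0 →
      gmat p C (y ^ j) b χ₁ ψ₁ ≠ 0 := fun {χ₁ ψ₁} h1 h2 h3 =>
    gmat_ne_zero C y hyC cc hcc nn hnn hM hind hdd w0 hw0 δ R hrank n hcc1 j k hord hCu hcent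
      h2 h3 (hDu ψ₁ h2 h3) (hRu ψ₁ h2 h3) h1
  -- the row identity
  have hrow := sum_gmat_row C (y ^ j) k hord hCu hcent hM hind.1 χ
  rw [gmat_self] at hrow
  have hrow' : ∑ ψ : IrrCharacter G, Complex.normSq (gmat p C (y ^ j) b χ ψ) = r := by
    apply Complex.ofReal_injective
    rw [← hrow]
    push_cast
    refine Finset.sum_congr rfl fun ψ _ => ?_
    rw [Complex.mul_conj]
  have hself : Complex.normSq (gmat p C (y ^ j) b χ χ) = r * r := by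
    rw [gmat_self, Complex.normSq_ofReal]
  have hzero : ∀ ψ : IrrCharacter G, ψ ≠ χ → gmat p C (y ^ j) b χ ψ = 0 := by
    intro ψ hψne
    rw [← Finset.add_sum_erase Finset.univ _ (Finset.mem_univ χ), hself] at hrow'
    have h1 : ∑ ψ ∈ Finset.univ.erase χ, Complex.normSq (gmat p C (y ^ j) b χ ψ) ≤ 0 := by
      nlinarith
    have h2 := (Finset.sum_eq_zero_iff_of_nonneg (fun ψ _ => Complex.normSq_nonneg _)).mp
      (le_antisymm h1 (Finset.sum_nonneg fun ψ _ => Complex.normSq_nonneg _)) ψ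
      (Finset.mem_erase.mpr ⟨hψne, Finset.mem_univ ψ⟩)
    exact Complex.normSq_eq_zero.mp h2
  obtain ⟨χ', hχ', h0χ'⟩ := exists_height_zero_mem (p := p) (isPBlock_nonempty hM' hind.2.1)
  by_cases hχχ' : χ' = χ
  · rw [hχχ'] at h0χ'
    have h1 := hNV hψ₀ hχ h0χ'
    apply h1
    rw [← gmat_conj, hzero ψ₀ hne, map_zero]
  · exact hNV hχ hχ' h0χ' (hzero χ' hχχ')

end Cfsg.Agent.Lib.Helper57_MajorGram
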