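import Mathlib
import Cfsg.Agent.Lib.Helper57_QuadFourier

/-!
# Parity of sums of values of an integral form (helper57)

Pure algebra used for `2`-blocks: divisibility of `∑_r β(Y_r, Y_r)` by `2^(h+1)` from
divisibility properties of the functionals `β(Y_r, ·)`.
-/

set_option autoImplicit false

namespace Cfsg.Agent.Lib.Helper57_Parity

open Finset
open Cfsg.Agent.Lib.Helper57_QuadFourier

/-- For a symmetric integer matrix all of whose entries are divisible by `d`, the sum of all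
entries is congruent to the trace modulo `2 d`. -/
theorem sum_sum_sub_diag (K : ℕ) (f : ℕ → ℕ → ℤ) (hsym : ∀ r r', f r r' = f r' r) (d : ℤ)
    (hd : ∀ r r', d ∣ f r r') :
    2 * d ∣ ∑ r ∈ range K, ∑ r' ∈ range K, f r r' - ∑ r ∈ range K, f r r := by
  induction K with
  | zero => simp
  | succ K ih =>
    have h1 : ∑ r ∈ range (K + 1), ∑ r' ∈ range (K + 1), f r r' -
        ∑ r ∈ range (K + 1), f r r =
        (∑ r ∈ range K, ∑ r' ∈ range K, f r r' - ∑ r ∈ range K, f r r) +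
          2 * ∑ r ∈ range K, f r K := by
      rw [sum_range_succ, sum_range_succ (fun r => f r r)]
      simp_rw [sum_range_succ (fun r' => f _ r')]
      rw [sum_add_distrib]
      have h2 : ∑ r' ∈ range K, f K r' = ∑ r ∈ range K, f r K :=
        sum_congr rfl fun r _ => hsym K r
      rw [h2]
      ring
    rw [h1]
    refine dvd_add ih (mul_dvd_mul_left 2 (dvd_sum fun r _ => hd r K))

section Form

variable {V : Type*} [AddCommGroup V] (β : LinearMap.BilinForm ℤ V)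

/-- Positive height: `2^(h+1)` divides `∑_r β(Y_r, Y_r)`. -/
theorem parity_pos (hsym : ∀ x y, β x y = β y x) (K : ℕ) (Y : ℕ → V) (n : V) (h : ℕ)
    (hh : 1 ≤ h) (hF1 : ∀ r ∈ range K, ∀ x, (2 : ℤ) ^ h ∣ β (Y r) x)
    (hF2 : ∀ x, (2 : ℤ) ^ (h + 1) ∣ ∑ r ∈ range K, β (Y r) x - 2 ^ h * β n x) :
    (2 : ℤ) ^ (h + 1) ∣ ∑ r ∈ range K, β (Y r) (Y r) := by
  set Ys := ∑ r ∈ range K, Y r with hYs
  -- `β(Ys, Ys) ≡ ∑ β(Y_r, Y_r)`
  have h1 : (2 : ℤ) ^ (h + 1) ∣ β Ys Ys - ∑ r ∈ range K, β (Y r) (Y r) := by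
    rw [hYs, form_sum_sum]
    have := sum_sum_sub_diag K
      (fun r r' => if r < K ∧ r' < K then β (Y r) (Y r') else 0)
      (fun r r' => by
        by_cases hr : r < K ∧ r' < K
        · rw [if_pos hr, if_pos ⟨hr.2, hr.1⟩, hsym]
        · rw [if_neg hr, if_neg (fun hc => hr ⟨hc.2, hc.1⟩)])
      ((2 : ℤ) ^ h)
      (fun r r' => by
        by_cases hr : r < K ∧ r' < K
        · rw [if_pos hr]
          exact hF1 r (mem_range.mpr hr.1) _
        · rw [if_neg hr]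
          exact dvd_zero _)
    have e1 : ∑ r ∈ range K, ∑ r' ∈ range K,
        (if r < K ∧ r' < K then β (Y r) (Y r') else 0) =
        ∑ r ∈ range K, ∑ r' ∈ range K, β (Y r) (Y r') :=
      sum_congr rfl fun r hr => sum_congr rfl fun r' hr' => by
        rw [if_pos ⟨mem_range.mp hr, mem_range.mp hr'⟩]
    have e2 : ∑ r ∈ range K, (if r < K ∧ r < K then β (Y r) (Y r) else 0) =
        ∑ r ∈ range K, β (Y r) (Y r) :=
      sum_congr rfl fun r hr => by rw [if_pos ⟨mem_range.mp hr, mem_range.mp hr⟩]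
    rw [e1, e2] at this
    rw [pow_succ, mul_comm]
    exact this
  -- `β(Ys, Ys) ≡ 2^h β(n, Ys) ≡ 0`
  have h2' : ∀ z, β Ys z = ∑ r ∈ range K, β (Y r) z := by
    intro z
    rw [hYs, map_sum, LinearMap.sum_apply]
  have h2 : β Ys Ys = ∑ r ∈ range K, β (Y r) Ys := h2' Ys
  have h3 := hF2 Ys
  rw [← h2] at h3
  have h4 : (2 : ℤ) ^ h ∣ β n Ys := by
    have e : β n Ys = ∑ r ∈ range K, β (Y r) n := by
      rw [hYs, map_sum]
      exact sum_congr rfl fun r _ => hsym _ _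
    rw [e]
    exact dvd_sum fun r hr => hF1 r hr n
  have h5 : (2 : ℤ) ^ (h + 1) ∣ 2 ^ h * β n Ys := by
    obtain ⟨t, ht⟩ := h4
    obtain ⟨h', rfl⟩ : ∃ h', h = h' + 1 := ⟨h - 1, by omega⟩
    rw [ht]
    exact ⟨2 ^ h' * t, by ring⟩
  have h6 : (2 : ℤ) ^ (h + 1) ∣ β Ys Ys := by
    have := dvd_add h3 h5
    rwa [sub_add_cancel] at this
  have := dvd_sub h6 h1
  rwa [sub_sub_cancel] at this

/-- Height zero: `∑_r β(Y_r, Y_r)` is odd and some `β(Y_r, Y_r)` is odd. -/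
theorem parity_zero (hsym : ∀ x y, β x y = β y x) (K : ℕ) (Y : ℕ → V) (n : V)
    (hn : ¬ (2 : ℤ) ∣ β n n)
    (hrank : ∀ u v, (2 : ℤ) ∣ β u v * β n n - β u n * β n v)
    (hF2 : ∀ x, (2 : ℤ) ∣ ∑ r ∈ range K, β (Y r) x - β n x) :
    ¬ (2 : ℤ) ∣ ∑ r ∈ range K, β (Y r) (Y r) ∧ ∃ r ∈ range K, ¬ (2 : ℤ) ∣ β (Y r) (Y r) := by
  have hodd : Odd (β n n) := by
    rcases Int.even_or_odd (β n n) with h | h
    · exact absurd (even_iff_two_dvd.mp h) hn
    · exact h
  obtain ⟨k, hk⟩ := hodd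
  have hpt : ∀ r, (2 : ℤ) ∣ β (Y r) (Y r) - β (Y r) n := by
    intro r
    obtain ⟨t, ht⟩ := hrank (Y r) (Y r)
    obtain ⟨s, hs⟩ := even_iff_two_dvd.mp (Int.even_mul_pred_self (β (Y r) n))
    rw [hsym n (Y r)] at ht
    exact ⟨t - k * β (Y r) (Y r) + s, by linear_combination ht + hs - β (Y r) (Y r) * hk⟩
  have hsum : (2 : ℤ) ∣ ∑ r ∈ range K, β (Y r) (Y r) - ∑ r ∈ range K, β (Y r) n := by
    rw [← sum_sub_distrib]
    exact dvd_sum fun r _ => hpt r
  have hodd_sum : ¬ (2 : ℤ) ∣ ∑ r ∈ range K, β (Y r) (Y r) := by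
    intro hdiv
    have h1 : (2 : ℤ) ∣ ∑ r ∈ range K, β (Y r) n := by
      have := dvd_sub hdiv hsum
      rwa [sub_sub_cancel] at this
    have h2 := dvd_sub h1 (hF2 n)
    rw [sub_sub_cancel] at h2
    exact hn h2
  refine ⟨hodd_sum, ?_⟩
  by_contra hcon
  push Not at hcon
  exact hodd_sum (dvd_sum fun r hr => hcon r hr)

/-- The rank-one congruence in intrinsic form. -/
theorem rank_of_tensor (m : ℤ) (hm : ¬ (2 : ℤ) ∣ m) (D R : V → ℤ)
    (h : ∀ u x, (2 : ℤ) ∣ m * β u x - D u * R x) (n u v : V) :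
    (2 : ℤ) ∣ β u v * β n n - β u n * β n v := by
  obtain ⟨a, ha⟩ := h u v
  obtain ⟨b, hb⟩ := h n n
  obtain ⟨c, hc⟩ := h u n
  obtain ⟨d, hd⟩ := h n v
  have h1 : (2 : ℤ) ∣ m * (m * (β u v * β n n - β u n * β n v)) := by
    refine ⟨a * (m * β n n) + D u * R v * b - c * (m * β n v) - D u * R n * d, ?_⟩
    linear_combination (m * β n n) * ha + (D u * R v) * hb - (m * β n v) * hc -
      (D u * R n) * hd
  rcases Int.prime_two.dvd_or_dvd h1 with h2 | h2
  · exact absurd h2 hm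
  · rcases Int.prime_two.dvd_or_dvd h2 with h3 | h3
    · exact absurd h3 hm
    · exact h3

end Form

end Cfsg.Agent.Lib.Helper57_Parity
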