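import Mathlib
import Cfsg.Agent.Lib.Helper57_MajorTwo
import Cfsg.Agent.Lib.Helper57_WForm
import Cfsg.Agent.Lib.Helper57_FourierData
import Cfsg.Agent.Lib.Helper57_Parity
import Cfsg.Agent.Lib.Helper57_ContribRow

/-!
# The per-character invariants of a major subsection for `p = 2` (helper57)

For a major subsection `(y, b)` of a `2`-block `B` (with `d(b) = d(B)`), `χ ∈ B` of height `h`:

* `tau_facts`: there is an integer `τ ≥ 0` with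
  `∑_{j ∈ U} 2^d m^{(y^j, b)}_{χχ} = φ(2^n) τ`; `2^(h+1) ∣ τ` if `h ≥ 1`; `τ` is odd if `h = 0`, and
  then `τ ≠ 1` if the weight form does not represent `1`.
* `colB_bound`: for an integral vector `x` with `Q(n_χ', x)` odd,
  `φ(2^n) 4^h ≤ ∑_{j ∈ U} |2^d ∑_η x_η a_j(χ, η)|²`.
-/

set_option autoImplicit false
set_option linter.unusedSectionVars false

namespace Cfsg.Agent.Lib.Helper57_TwoBlockCore

open Cfsg
open scoped ComplexConjugate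
open Cfsg.Agent.Lib.Helper3_CharBridge Cfsg.Agent.Lib.Helper3_CharOrtho
  Cfsg.Agent.Lib.Helper75_CharArith Cfsg.Agent.Lib.Helper57_PRegInt
  Cfsg.Agent.Lib.Helper57_HeightZero Cfsg.Agent.Lib.Helper57_BrauerFeit
  Cfsg.Agent.Lib.Helper57_Contribution Cfsg.Agent.Lib.Helper57_Subsection
  Cfsg.Agent.Lib.Helper57_ContribMatrix Cfsg.Agent.Lib.Helper57_BrouePuig
  Cfsg.Agent.Lib.Helper57_ContribRow
  Cfsg.Agent.Lib.Helper57_MajorNonvanish Cfsg.Agent.Lib.Helper57_MajorNV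
  Cfsg.Agent.Lib.Helper57_MajorTwo
  Cfsg.Agent.Lib.Helper57_WForm Cfsg.Agent.Lib.Helper57_FourierData
  Cfsg.Agent.Lib.Helper57_Parity
  Cfsg.Agent.Lib.Helper78_LocalRing Cfsg.Agent.Lib.Helper78_CharFacts
  Cfsg.Agent.Lib.Helper77_BlockBasics

section Pure

variable {ι : Type*}

theorem wform_single_left [DecidableEq ι] (s : Finset ι) (w : ι → ι → ℤ) {i : ι} (hi : i ∈ s)
    (a : ℤ) (x : ι → ℤ) :
    wform s w (Pi.single i a) x = a * ∑ i' ∈ s, x i' * w i i' := by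
  rw [wform_apply, Finset.sum_eq_single i]
  · rw [Finset.mul_sum]
    refine Finset.sum_congr rfl fun i' _ => ?_
    rw [Pi.single_eq_same]
    ring
  · intro j _ hj
    refine Finset.sum_eq_zero fun j' _ => ?_
    rw [Pi.single_eq_of_ne hj, zero_mul, zero_mul]
  · intro h
    exact absurd hi h

/-- The absolute square of a cyclotomic sum as a double sum. -/
theorem sum_mul_conj_sum' (s : Finset ι) (a : ι → ℤ) (ε : ι → ℂ) (j : ℕ) :
    (∑ i ∈ s, (a i : ℂ) * ε i ^ j) * conj (∑ i ∈ s, (a i : ℂ) * ε i ^ j) =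
      ∑ i ∈ s, ∑ i' ∈ s, ((LinearMap.mul ℤ ℤ (a i) (a i') : ℤ) : ℂ) *
        (ε i * conj (ε i')) ^ j := by
  rw [map_sum, Finset.sum_mul_sum]
  refine Finset.sum_congr rfl fun i _ => Finset.sum_congr rfl fun i' _ => ?_
  rw [LinearMap.mul_apply', map_mul, map_pow, map_intCast, mul_pow]
  push_cast
  ring

end Pure

variable {G : Type*} [Group G] [Fintype G] {p : ℕ} {M : Ideal AlgInt}
variable (C : Subgroup G) [Fintype C] (y : G) (hyC : y ∈ C)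
  (cc : IrrCharacter C → ℂ)
  (hcc : ∀ (ζ : IrrCharacter C) (a : C), (ζ : C → ℂ) (⟨y, hyC⟩ * a) = cc ζ * (ζ : C → ℂ) a)
  (nn : IrrCharacter G → IrrCharacter C → ℕ)
  (hnn : ∀ χ : IrrCharacter G, (fun c : C => (χ : G → ℂ) (c : G)) =
    ∑ ζ : IrrCharacter C, (nn χ ζ : ℂ) • (ζ : C → ℂ))

include hcc hnn in
/-- The contribution matrices in terms of the weight form. -/
theorem gmat_eq (hM : IsPModular p M) {b : Set (IrrCharacter C)} (he : IsPBlock M b)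
    (w0 : IrrCharacter C → IrrCharacter C → ℤ)
    (hw0 : ∀ ζ ∈ b, ∀ ζ' ∈ b, ((p : ℂ) ^ blockDefect p b) *
      classInner (regPart p (ζ : C → ℂ)) (ζ' : C → ℂ) = (w0 ζ ζ' : ℂ))
    (χ ψ : IrrCharacter G) (j : ℕ) :
    ((p : ℂ) ^ blockDefect p b) * gmat p C (y ^ j) b χ ψ =
      ∑ ζ ∈ bset b, ∑ ζ' ∈ bset b,
        ((wform (bset b) w0 (Pi.single ζ ((nn χ ζ : ℕ) : ℤ))
          (Pi.single ζ' ((nn ψ ζ' : ℕ) : ℤ)) : ℤ) : ℂ) * (cc ζ * conj (cc ζ')) ^ j := by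
  classical
  rw [gmat_pow_eq C y hyC cc hcc nn hnn hM he χ ψ j, Finset.mul_sum]
  refine Finset.sum_congr rfl fun ζ hζ => ?_
  rw [Finset.mul_sum]
  refine Finset.sum_congr rfl fun ζ' hζ' => ?_
  rw [wform_single (bset b) w0 hζ hζ', ← mul_assoc, mul_comm ((p : ℂ) ^ blockDefect p b)]
  push_cast
  rw [← hw0 ζ (mem_bset.mp hζ) ζ' (mem_bset.mp hζ')]
  ring

include hcc hnn in
/-- **The invariant `τ(χ)`.** -/
theorem tau_facts (hp2 : p = 2) (hM : IsPModular p M) {b : Set (IrrCharacter C)}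
    {B : Set (IrrCharacter G)} (hind : IsInducedBlock M C b B)
    (hdd : blockDefect p b = blockDefect p B)
    (w0 : IrrCharacter C → IrrCharacter C → ℤ)
    (hw0 : ∀ ζ ∈ b, ∀ ζ' ∈ b, ((p : ℂ) ^ blockDefect p b) *
      classInner (regPart p (ζ : C → ℂ)) (ζ' : C → ℂ) = (w0 ζ ζ' : ℂ))
    (hsym : ∀ ζ ζ', w0 ζ ζ' = w0 ζ' ζ)
    (hpsd : ∀ x, 0 ≤ wform (bset b) w0 x x)
    (δ R : IrrCharacter C → ℤ)
    (hrank : ∀ ζ ∈ bset b, ∀ ζ' ∈ bset b, (p : ℤ) ∣ (mPrime C p : ℤ) * w0 ζ ζ' - δ ζ * R ζ')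
    (n : ℕ) (hcc1 : ∀ ζ : IrrCharacter C, cc ζ ^ (p ^ n) = 1)
    (hord : orderOf y = p ^ n) (hCu : ∀ c : C, y * (c : G) = (c : G) * y)
    (hcent : Subgroup.centralizer ({y} : Set G) ≤ C)
    {χ' : IrrCharacter G} (hχ' : χ' ∈ B) (h0χ' : blockHeight p B (χ' : G → ℂ) = 0)
    (hDu : ¬ (p : ℤ) ∣ ∑ ζ ∈ bset b, ((nn χ' ζ : ℕ) : ℤ) * δ ζ)
    (hRu : ¬ (p : ℤ) ∣ ∑ ζ ∈ bset b, ((nn χ' ζ : ℕ) : ℤ) * R ζ)
    {χ : IrrCharacter G} (hχ : χ ∈ B) :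
    ∃ τ : ℤ, 0 ≤ τ ∧
      ∑ j ∈ (Finset.range (p ^ n)).filter (fun j => j.Coprime (p ^ n)),
        ((p : ℂ) ^ blockDefect p b) * gmat p C (y ^ j) b χ χ =
        (((((p ^ n).totient : ℕ) : ℤ) * τ : ℤ) : ℂ) ∧
      (1 ≤ blockHeight p B (χ : G → ℂ) → (2 : ℤ) ^ (blockHeight p B (χ : G → ℂ) + 1) ∣ τ) ∧
      (blockHeight p B (χ : G → ℂ) = 0 → ¬ (2 : ℤ) ∣ τ) ∧
      (blockHeight p B (χ : G → ℂ) = 0 → (∀ x, wform (bset b) w0 x x ≠ 1) → τ ≠ 1) := by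
  classical
  subst hp2
  have hp : (2 : ℕ).Prime := Nat.prime_two
  have : Fact (2 : ℕ).Prime := ⟨hp⟩
  have hM' := isPrime_of_isPModular hM
  have h2Z : ((2 : ℕ) : ℤ) = 2 := by norm_num
  rw [h2Z] at hDu hRu
  simp only [h2Z] at hrank
  set Q := wform (bset b) w0 with hQ
  have hβsym : ∀ x y, Q x y = Q y x := wform_symm (bset b) hsym
  set v : IrrCharacter C → (IrrCharacter C → ℤ) := fun ζ => Pi.single ζ ((nn χ ζ : ℕ) : ℤ) with hv
  set n' : IrrCharacter C → ℤ := fun ζ => ((nn χ' ζ : ℕ) : ℤ) with hn'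
  obtain ⟨m, ω, Y, hmK, hω, hP1, hP2⟩ := exists_fourier_data Q n hβsym (bset b) cc hcc1 v
  refine ⟨∑ r ∈ Finset.range (2 ^ m), Q (Y r) (Y r),
    Finset.sum_nonneg fun r _ => hpsd (Y r), ?_, ?_⟩
  · rw [← hmK, ← hP2]
    refine Finset.sum_congr rfl fun j _ => ?_
    exact gmat_eq C y hyC cc hcc nn hnn hM hind.1 w0 hw0 χ χ j
  -- the divisibility facts
  have hord1 : orderOf (y ^ 1) = 2 ^ n := by rw [pow_one]; exact hord
  have hCu1 : ∀ c : C, y ^ 1 * (c : G) = (c : G) * y ^ 1 := by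
    intro c
    rw [pow_one]
    exact hCu c
  have hcent1 : Subgroup.centralizer ({y ^ 1} : Set G) ≤ C := by rw [pow_one]; exact hcent
  have hfacts : ∀ x : IrrCharacter C → ℤ,
      (∀ r ∈ Finset.range (2 ^ m), (2 : ℤ) ^ blockHeight 2 B (χ : G → ℂ) ∣ Q (Y r) x) ∧
      (2 : ℤ) ^ (blockHeight 2 B (χ : G → ℂ) + 1) ∣
        ∑ r ∈ Finset.range (2 ^ m), Q (Y r) x - 2 ^ blockHeight 2 B (χ : G → ℂ) * Q n' x := by
    intro x
    obtain ⟨hR, u, u', hu, hu', hI⟩ := comb_congr C y hyC cc hcc nn hnn hM hind hdd w0 hw0 n hcc1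
      1 n hord1 hCu1 hcent1 x hχ' h0χ' hχ
    have he : ∑ ζ ∈ bset b,
        ((((nn χ ζ : ℕ) : ℤ) * ∑ η ∈ bset b, x η * w0 ζ η : ℤ) : ℂ) * cc ζ ^ 1 =
        ∑ r ∈ Finset.range (2 ^ m), (Q (Y r) x : ℂ) * ω ^ r := by
      rw [← hP1 x]
      refine Finset.sum_congr rfl fun ζ hζ => ?_
      rw [pow_one, hv]
      simp only
      rw [hQ, wform_single_left (bset b) w0 hζ]
    have hQb : ∑ ζ ∈ bset b, ∑ η ∈ bset b, ((nn χ' ζ : ℕ) : ℤ) * x η * w0 ζ η = Q n' x := by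
      rw [hQ, wform_apply]
    rw [he] at hR hI
    rw [hQb] at hI
    simp only [Nat.cast_ofNat] at hR hI hu hu'
    exact coeff_facts hM m hω (fun r => Q (Y r) x) _ hR u u' (Q n' x) hu hu' hI
  have hnodd : ¬ (2 : ℤ) ∣ Q n' n' :=
    not_dvd_wform (bset b) w0 Int.prime_two _ δ R hrank n' n' hDu hRu
  have hmC : ¬ (2 : ℤ) ∣ (mPrime C 2 : ℤ) := by
    intro h
    have h' : ((2 : ℕ) : ℤ) ∣ (mPrime C 2 : ℤ) := by rwa [h2Z]
    exact not_dvd_mPrime (G := C) hp (Int.natCast_dvd_natCast.mp h')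
  refine ⟨?_, ?_, ?_⟩
  · intro hh
    exact parity_pos Q hβsym (2 ^ m) Y n' _ hh (fun r hr x => (hfacts x).1 r hr)
      (fun x => (hfacts x).2)
  · intro h0
    have hF2 : ∀ x, (2 : ℤ) ∣ ∑ r ∈ Finset.range (2 ^ m), Q (Y r) x - Q n' x := by
      intro x
      have := (hfacts x).2
      rw [h0] at this
      simpa using this
    exact (parity_zero Q hβsym (2 ^ m) Y n' hnodd
      (fun u x => rank_of_tensor Q _ hmC (fun u => ∑ ζ ∈ bset b, u ζ * δ ζ)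
        (fun x => ∑ ζ ∈ bset b, x ζ * R ζ)
        (fun u x => rank_one (bset b) w0 2 _ δ R hrank u x) n' u x) hF2).1
  · intro h0 hrep hτ
    have hF2 : ∀ x, (2 : ℤ) ∣ ∑ r ∈ Finset.range (2 ^ m), Q (Y r) x - Q n' x := by
      intro x
      have := (hfacts x).2
      rw [h0] at this
      simpa using this
    obtain ⟨r, hr, hrodd⟩ := (parity_zero Q hβsym (2 ^ m) Y n' hnodd
      (fun u x => rank_of_tensor Q _ hmC (fun u => ∑ ζ ∈ bset b, u ζ * δ ζ)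
        (fun x => ∑ ζ ∈ bset b, x ζ * R ζ)
        (fun u x => rank_one (bset b) w0 2 _ δ R hrank u x) n' u x) hF2).2
    have hle : Q (Y r) (Y r) ≤ ∑ r ∈ Finset.range (2 ^ m), Q (Y r) (Y r) :=
      Finset.single_le_sum (f := fun r => Q (Y r) (Y r)) (fun r _ => hpsd (Y r)) hr
    rw [hτ] at hle
    have h0le := hpsd (Y r)
    have hne := hrep (Y r)
    have : Q (Y r) (Y r) = 0 := by omega
    rw [this] at hrodd
    exact hrodd (dvd_zero _)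

include hcc hnn in
/-- **The column bound.** -/
theorem colB_bound (hp2 : p = 2) (hM : IsPModular p M) {b : Set (IrrCharacter C)}
    {B : Set (IrrCharacter G)} (hind : IsInducedBlock M C b B)
    (hdd : blockDefect p b = blockDefect p B)
    (w0 : IrrCharacter C → IrrCharacter C → ℤ)
    (hw0 : ∀ ζ ∈ b, ∀ ζ' ∈ b, ((p : ℂ) ^ blockDefect p b) *
      classInner (regPart p (ζ : C → ℂ)) (ζ' : C → ℂ) = (w0 ζ ζ' : ℂ))
    (n : ℕ) (hcc1 : ∀ ζ : IrrCharacter C, cc ζ ^ (p ^ n) = 1)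
    (hord : orderOf y = p ^ n) (hCu : ∀ c : C, y * (c : G) = (c : G) * y)
    (hcent : Subgroup.centralizer ({y} : Set G) ≤ C)
    (x₁ : IrrCharacter C → ℤ)
    {χ' : IrrCharacter G} (hχ' : χ' ∈ B) (h0χ' : blockHeight p B (χ' : G → ℂ) = 0)
    (hxB : ¬ (p : ℤ) ∣ ∑ ζ ∈ bset b, ∑ η ∈ bset b, ((nn χ' ζ : ℕ) : ℤ) * x₁ η * w0 ζ η)
    {χ : IrrCharacter G} (hχ : χ ∈ B) :
    ((((p ^ n).totient : ℕ) : ℝ)) * (4 : ℝ) ^ blockHeight p B (χ : G → ℂ) ≤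
      ∑ j ∈ (Finset.range (p ^ n)).filter (fun j => j.Coprime (p ^ n)),
        Complex.normSq ((p : ℂ) ^ blockDefect p b * ∑ η ∈ bset b, (x₁ η : ℂ) *
          acoef p C (y ^ j) χ η) := by
  classical
  subst hp2
  have hp : (2 : ℕ).Prime := Nat.prime_two
  have : Fact (2 : ℕ).Prime := ⟨hp⟩
  have hM' := isPrime_of_isPModular hM
  have h2Z : ((2 : ℕ) : ℤ) = 2 := by norm_num
  rw [h2Z] at hxB
  set a : IrrCharacter C → ℤ := fun ζ => ((nn χ ζ : ℕ) : ℤ) * ∑ η ∈ bset b, x₁ η * w0 ζ η with ha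
  set hgt := blockHeight 2 B (χ : G → ℂ) with hhgt
  obtain ⟨m, ω, Y, hmK, hω, hP1, hP2⟩ := exists_fourier_data (LinearMap.mul ℤ ℤ) n
    (fun a b => by rw [LinearMap.mul_apply', LinearMap.mul_apply', mul_comm]) (bset b) cc hcc1 a
  have hord1 : orderOf (y ^ 1) = 2 ^ n := by rw [pow_one]; exact hord
  have hCu1 : ∀ c : C, y ^ 1 * (c : G) = (c : G) * y ^ 1 := by
    intro c
    rw [pow_one]
    exact hCu c
  have hcent1 : Subgroup.centralizer ({y ^ 1} : Set G) ≤ C := by rw [pow_one]; exact hcent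
  obtain ⟨hR, u, u', hu, hu', hI⟩ := comb_congr C y hyC cc hcc nn hnn hM hind hdd w0 hw0 n hcc1
    1 n hord1 hCu1 hcent1 x₁ hχ' h0χ' hχ
  have he : ∑ ζ ∈ bset b,
      ((((nn χ ζ : ℕ) : ℤ) * ∑ η ∈ bset b, x₁ η * w0 ζ η : ℤ) : ℂ) * cc ζ ^ 1 =
      ∑ r ∈ Finset.range (2 ^ m), (Y r : ℂ) * ω ^ r := by
    have := hP1 1
    simp only [LinearMap.mul_apply', mul_one] at this
    rw [← this]
    refine Finset.sum_congr rfl fun ζ _ => ?_
    rw [pow_one]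
  rw [he] at hR hI
  simp only [Nat.cast_ofNat] at hR hI hu hu'
  obtain ⟨hdiv, hsum⟩ := coeff_facts hM m hω Y hgt hR u u' _ hu hu' hI
  -- some coefficient is nonzero
  obtain ⟨r₀, hr₀, hr₀ne⟩ : ∃ r ∈ Finset.range (2 ^ m), Y r ≠ 0 := by
    by_contra hcon
    push Not at hcon
    rw [Finset.sum_eq_zero hcon, zero_sub, dvd_neg, pow_succ] at hsum
    exact hxB ((mul_dvd_mul_iff_left (pow_ne_zero hgt (two_ne_zero' ℤ))).mp hsum)
  have hsq : (2 : ℤ) ^ hgt * 2 ^ hgt ≤ Y r₀ * Y r₀ := by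
    obtain ⟨t, ht⟩ := hdiv r₀ hr₀
    have ht0 : t ≠ 0 := by
      intro h
      rw [h, mul_zero] at ht
      exact hr₀ne ht
    have h1 : 1 ≤ t * t := by
      have := mul_self_pos.mpr ht0
      omega
    have h2 : (0 : ℤ) ≤ 2 ^ hgt * 2 ^ hgt := by positivity
    rw [ht]
    nlinarith
  have hsumsq : (2 : ℤ) ^ hgt * 2 ^ hgt ≤ ∑ r ∈ Finset.range (2 ^ m), Y r * Y r :=
    hsq.trans (Finset.single_le_sum (f := fun r => Y r * Y r)
      (fun r _ => mul_self_nonneg (Y r)) hr₀)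
  -- the sum of absolute squares
  have h1 : ∀ j, ∑ ζ ∈ bset b, ∑ ζ' ∈ bset b,
      ((LinearMap.mul ℤ ℤ (a ζ) (a ζ') : ℤ) : ℂ) * (cc ζ * conj (cc ζ')) ^ j =
      ((Complex.normSq (((2 : ℕ) : ℂ) ^ blockDefect 2 b * ∑ η ∈ bset b, (x₁ η : ℂ) *
        acoef 2 C (y ^ j) χ η) : ℝ) : ℂ) := by
    intro j
    rw [← sum_mul_conj_sum' (bset b) a cc j,
      comb_eq C y hyC cc hcc nn hnn hM hind.1 w0 hw0 x₁ χ j, Complex.mul_conj]
  simp_rw [h1] at hP2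
  simp only [LinearMap.mul_apply'] at hP2
  have h2 : (((((2 ^ m : ℕ) : ℤ) * ∑ r ∈ Finset.range (2 ^ m), Y r * Y r : ℤ)) : ℝ) =
      ∑ j ∈ (Finset.range (2 ^ n)).filter (fun j => j.Coprime (2 ^ n)),
        Complex.normSq (((2 : ℕ) : ℂ) ^ blockDefect 2 b * ∑ η ∈ bset b, (x₁ η : ℂ) *
          acoef 2 C (y ^ j) χ η) := by
    apply Complex.ofReal_injective
    rw [Complex.ofReal_intCast, ← hP2]
    push_cast
    rfl
  rw [← h2, ← hmK]
  have h3 : ((((2 : ℤ) ^ hgt * 2 ^ hgt : ℤ)) : ℝ) ≤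
      ((∑ r ∈ Finset.range (2 ^ m), Y r * Y r : ℤ) : ℝ) := Int.cast_le.mpr hsumsq
  have h4 : (4 : ℝ) ^ hgt = ((((2 : ℤ) ^ hgt * 2 ^ hgt : ℤ)) : ℝ) := by
    push_cast
    rw [← mul_pow]
    norm_num
  rw [h4]
  push_cast
  push_cast at h3
  exact mul_le_mul_of_nonneg_left h3 (by positivity)

end Cfsg.Agent.Lib.Helper57_TwoBlockCore
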