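import Mathlib
import Cfsg.Agent.Lib.Helper57_MajorGram
import Cfsg.Agent.Lib.Helper57_TwoBlockCore
import Cfsg.Agent.Lib.Helper57_QuadFourier

/-!
# The complementary column bound for a major subsection (helper57)

Let `(y, b)` be a major subsection of the `p`-block `B` with `|B| ≥ 2` and `χ₁ ∈ B` of height zero.
Then `k(B) φ(p^n) ≤ p^d ∑_{j ∈ U} (p^d - p^d m^{(y^j, b)}_{χ₁χ₁})` (`column_bound`): the column `χ₁` of
`p^d (1 - M_j)` consists of nonzero cyclotomic integers permuted by the Galois group.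
-/

set_option autoImplicit false
set_option linter.unusedSectionVars false

namespace Cfsg.Agent.Lib.Helper57_MajorColumn

open Cfsg
open scoped ComplexConjugate
open Cfsg.Agent.Lib.Helper3_CharBridge Cfsg.Agent.Lib.Helper3_CharOrtho
  Cfsg.Agent.Lib.Helper75_CharArith Cfsg.Agent.Lib.Helper57_PRegInt
  Cfsg.Agent.Lib.Helper57_HeightZero Cfsg.Agent.Lib.Helper57_BrauerFeit
  Cfsg.Agent.Lib.Helper57_GramTrace
  Cfsg.Agent.Lib.Helper57_Contribution Cfsg.Agent.Lib.Helper57_Subsection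
  Cfsg.Agent.Lib.Helper57_ContribMatrix Cfsg.Agent.Lib.Helper57_BrouePuig
  Cfsg.Agent.Lib.Helper57_ContribRow
  Cfsg.Agent.Lib.Helper57_MajorNonvanish Cfsg.Agent.Lib.Helper57_MajorNV
  Cfsg.Agent.Lib.Helper57_MajorTwo Cfsg.Agent.Lib.Helper57_WForm
  Cfsg.Agent.Lib.Helper57_MajorGram Cfsg.Agent.Lib.Helper57_TwoBlockCore
  Cfsg.Agent.Lib.Helper57_QuadFourier
  Cfsg.Agent.Lib.Helper78_LocalRing Cfsg.Agent.Lib.Helper78_CharFacts
  Cfsg.Agent.Lib.Helper77_BlockBasics

variable {G : Type*} [Group G] [Fintype G] {p : ℕ} {M : Ideal AlgInt}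
variable (C : Subgroup G) [Fintype C] (y : G) (hyC : y ∈ C)
  (cc : IrrCharacter C → ℂ)
  (hcc : ∀ (ζ : IrrCharacter C) (a : C), (ζ : C → ℂ) (⟨y, hyC⟩ * a) = cc ζ * (ζ : C → ℂ) a)
  (nn : IrrCharacter G → IrrCharacter C → ℕ)
  (hnn : ∀ χ : IrrCharacter G, (fun c : C => (χ : G → ℂ) (c : G)) =
    ∑ ζ : IrrCharacter C, (nn χ ζ : ℂ) • (ζ : C → ℂ))

include hcc hnn in
/-- **The complementary column bound.** -/
theorem column_bound [Fact p.Prime] (hM : IsPModular p M)
    {b : Set (IrrCharacter C)} {B : Set (IrrCharacter G)} (hind : IsInducedBlock M C b B)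
    (hdd : blockDefect p b = blockDefect p B)
    (w0 : IrrCharacter C → IrrCharacter C → ℤ)
    (hw0 : ∀ ζ ∈ b, ∀ ζ' ∈ b, ((p : ℂ) ^ blockDefect p b) *
      classInner (regPart p (ζ : C → ℂ)) (ζ' : C → ℂ) = (w0 ζ ζ' : ℂ))
    (δ R : IrrCharacter C → ℤ)
    (hrank : ∀ ζ ∈ bset b, ∀ ζ' ∈ bset b, (p : ℤ) ∣ (mPrime C p : ℤ) * w0 ζ ζ' - δ ζ * R ζ')
    (n : ℕ) (hcc1 : ∀ ζ : IrrCharacter C, cc ζ ^ (p ^ n) = 1)
    (hjfacts : ∀ j ∈ (Finset.range (p ^ n)).filter (fun j => j.Coprime (p ^ n)),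
      orderOf (y ^ j) = p ^ n ∧ (∀ c : C, y ^ j * (c : G) = (c : G) * y ^ j) ∧
      Subgroup.centralizer ({y ^ j} : Set G) ≤ C)
    (hDu : ∀ χ ∈ B, blockHeight p B (χ : G → ℂ) = 0 →
      ¬ (p : ℤ) ∣ ∑ ζ ∈ bset b, ((nn χ ζ : ℕ) : ℤ) * δ ζ)
    (hRu : ∀ χ ∈ B, blockHeight p B (χ : G → ℂ) = 0 →
      ¬ (p : ℤ) ∣ ∑ ζ ∈ bset b, ((nn χ ζ : ℕ) : ℤ) * R ζ)
    (hB2 : ∀ χ ∈ B, ∃ ψ ∈ B, ψ ≠ χ)
    {χ₁ : IrrCharacter G} (hχ₁ : χ₁ ∈ B) (h0χ₁ : blockHeight p B (χ₁ : G → ℂ) = 0) :
    ((bset B).card : ℝ) * (((p ^ n).totient : ℕ) : ℝ) ≤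
      (p : ℝ) ^ blockDefect p b *
        ∑ j ∈ (Finset.range (p ^ n)).filter (fun j => j.Coprime (p ^ n)),
          ((p : ℝ) ^ blockDefect p b - (p : ℝ) ^ blockDefect p b *
            ∑ η ∈ bset b, Complex.normSq (acoef p C (y ^ j) χ₁ η)) := by
  classical
  have hp : p.Prime := hM.1
  have hM' := isPrime_of_isPModular hM
  set U : Finset ℕ := (Finset.range (p ^ n)).filter (fun j => j.Coprime (p ^ n)) with hU
  have hUne : U.Nonempty := by
    have hUcard : U.card = (p ^ n).totient := by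
      rw [Nat.totient_eq_card_coprime, hU]
      congr 1
      refine Finset.filter_congr fun j _ => ?_
      exact Nat.coprime_comm
    rw [← Finset.card_pos, hUcard]
    exact Nat.totient_pos.mpr (pow_pos hp.pos n)
  set d := blockDefect p b with hd
  have hpd : (0 : ℝ) < (p : ℝ) ^ d := pow_pos (by exact_mod_cast hp.pos) _
  have hpdC : ((p : ℂ)) ^ d ≠ 0 := pow_ne_zero _ (Nat.cast_ne_zero.mpr hp.ne_zero)
  set r : ℕ → ℝ := fun j => ∑ η ∈ bset b, Complex.normSq (acoef p C (y ^ j) χ₁ η) with hr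
  set E : ℕ → IrrCharacter G → ℂ := fun j χ =>
    (if χ = χ₁ then (p : ℂ) ^ d else 0) - (p : ℂ) ^ d * gmat p C (y ^ j) b χ χ₁ with hE
  have hg₁ : ∀ j, gmat p C (y ^ j) b χ₁ χ₁ = ((r j : ℝ) : ℂ) := fun j => gmat_self _ _ _ _
  -- (a) the column sums
  have hcol : ∀ j ∈ U, ∑ χ ∈ bset B, Complex.normSq (E j χ) =
      (p : ℝ) ^ d * ((p : ℝ) ^ d - (p : ℝ) ^ d * r j) := by
    intro j hj
    obtain ⟨hordj, hCuj, hcentj⟩ := hjfacts j hj
    have hrow := sum_gmat_row C (y ^ j) n hordj hCuj hcentj hM hind.1 χ₁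
    rw [hg₁ j] at hrow
    have hrow' : ∑ χ ∈ bset B, Complex.normSq (gmat p C (y ^ j) b χ χ₁) = r j := by
      apply Complex.ofReal_injective
      rw [← hrow, ← Finset.sum_subset (Finset.subset_univ (bset B))]
      · push_cast
        refine Finset.sum_congr rfl fun χ _ => ?_
        rw [← gmat_conj C (y ^ j) b χ χ₁, Complex.conj_conj, ← Complex.mul_conj,
          mul_comm]
      · intro χ _ hχ
        rw [mem_bset] at hχ
        rw [gmat_eq_zero_right C (y ^ j) n hordj hCuj hcentj hM hind χ₁ hχ, zero_mul]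
    have hE₁ : Complex.normSq (E j χ₁) = ((p : ℝ) ^ d - (p : ℝ) ^ d * r j) ^ 2 := by
      have : E j χ₁ = ((((p : ℝ) ^ d - (p : ℝ) ^ d * r j : ℝ)) : ℂ) := by
        rw [hE]
        simp only [if_true]
        rw [hg₁ j]
        push_cast
        rfl
      rw [this, Complex.normSq_ofReal]
      ring
    have hEne : ∀ χ ∈ (bset B).erase χ₁, Complex.normSq (E j χ) =
        ((p : ℝ) ^ d) ^ 2 * Complex.normSq (gmat p C (y ^ j) b χ χ₁) := by
      intro χ hχ
      have hne : χ ≠ χ₁ := (Finset.mem_erase.mp hχ).1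
      rw [hE]
      simp only [if_neg hne, zero_sub]
      have hnp : Complex.normSq ((p : ℂ) ^ d) = ((p : ℝ) ^ d) ^ 2 := by
        rw [← Complex.ofReal_natCast, ← Complex.ofReal_pow, Complex.normSq_ofReal]
        ring
      rw [Complex.normSq_neg, Complex.normSq_mul, hnp]
    have hrest : ∑ χ ∈ (bset B).erase χ₁, Complex.normSq (gmat p C (y ^ j) b χ χ₁) =
        r j - r j * r j := by
      have := Finset.add_sum_erase (bset B)
        (fun χ => Complex.normSq (gmat p C (y ^ j) b χ χ₁)) (mem_bset.mpr hχ₁)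
      rw [hrow', hg₁ j, Complex.normSq_ofReal] at this
      linarith
    rw [← Finset.add_sum_erase (bset B) _ (mem_bset.mpr hχ₁), hE₁,
      Finset.sum_congr rfl hEne, ← Finset.mul_sum, hrest]
    ring
  -- (c) the row bounds
  have hrowb : ∀ χ ∈ bset B, (((p ^ n).totient : ℕ) : ℝ) ≤ ∑ j ∈ U, Complex.normSq (E j χ) := by
    intro χ hχ
    have hχB := mem_bset.mp hχ
    set s : Finset (Option (IrrCharacter C × IrrCharacter C)) :=
      Finset.insertNone (bset b ×ˢ bset b) with hs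
    set a : Option (IrrCharacter C × IrrCharacter C) → ℤ := fun i =>
      i.elim (if χ = χ₁ then (p : ℤ) ^ d else 0)
        (fun q => - wform (bset b) w0 (Pi.single q.1 ((nn χ q.1 : ℕ) : ℤ))
          (Pi.single q.2 ((nn χ₁ q.2 : ℕ) : ℤ))) with ha
    set ε : Option (IrrCharacter C × IrrCharacter C) → ℂ := fun i =>
      i.elim 1 (fun q => cc q.1 * conj (cc q.2)) with hε
    have hε1 : ∀ i, ε i ^ (p ^ n) = 1 := by
      intro i
      rcases i with _ | q
      · simp [hε]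
      · simp only [hε, Option.elim]
        rw [mul_pow, ← map_pow, hcc1, hcc1, map_one, one_mul]
    have hsumE : ∀ j, ∑ i ∈ s, (a i : ℂ) * ε i ^ j = E j χ := by
      intro j
      rw [hs, Finset.sum_insertNone, Finset.sum_product]
      simp only [ha, hε, Option.elim, one_pow, mul_one]
      rw [hE]
      simp only
      have h1 := gmat_eq C y hyC cc hcc nn hnn hM hind.1 w0 hw0 χ χ₁ j
      rw [← hd] at h1
      rw [h1]
      push_cast
      rw [sub_eq_add_neg, ← Finset.sum_neg_distrib]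
      congr 1
      refine Finset.sum_congr rfl fun ζ _ => ?_
      rw [← Finset.sum_neg_distrib]
      refine Finset.sum_congr rfl fun ζ' _ => ?_
      ring
    obtain ⟨S, hS, hSeq⟩ := quad_cyc_sum (LinearMap.mul ℤ ℤ) hp n (fun a b => by
        rw [LinearMap.mul_apply', LinearMap.mul_apply', mul_comm])
      (fun a => by rw [LinearMap.mul_apply']; exact mul_self_nonneg a) 1 (by norm_num)
      (fun a => by
        rw [LinearMap.mul_apply']
        by_cases ha : a = 0
        · left; rw [ha, mul_zero]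
        · right
          have := mul_self_pos.mpr ha
          omega)
      s ε hε1 a
    have h1 : ∀ j, ∑ i ∈ s, ∑ i' ∈ s,
        ((LinearMap.mul ℤ ℤ (a i) (a i') : ℤ) : ℂ) * (ε i * conj (ε i')) ^ j =
        ((Complex.normSq (E j χ) : ℝ) : ℂ) := by
      intro j
      rw [← sum_mul_conj_sum' s a ε j, hsumE j, Complex.mul_conj]
    simp_rw [h1] at hSeq
    have h2 : ((S : ℤ) : ℝ) = ∑ j ∈ U, Complex.normSq (E j χ) := by
      apply Complex.ofReal_injective
      rw [Complex.ofReal_intCast, ← hSeq]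
      push_cast
      rfl
    have hEne : ∀ j ∈ U, E j χ ≠ 0 := by
      intro j hj
      obtain ⟨hordj, hCuj, hcentj⟩ := hjfacts j hj
      by_cases hχχ₁ : χ = χ₁
      · obtain ⟨ψ₀, hψ₀, hne⟩ := hB2 χ₁ hχ₁
        have hlt := gmat_self_lt_one C y hyC cc hcc nn hnn hM hind hdd w0 hw0 δ R hrank n hcc1
          j n hordj hCuj hcentj hDu hRu hχ₁ hψ₀ hne
        rw [hχχ₁, hE]
        simp only [if_true]
        rw [hg₁ j]
        intro h0
        have h3 : (p : ℂ) ^ d * (1 - ((r j : ℝ) : ℂ)) = 0 := by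
          rw [← h0]
          ring
        rcases mul_eq_zero.mp h3 with h4 | h4
        · exact hpdC h4
        · have h5 : ((1 - r j : ℝ) : ℂ) = 0 := by
            push_cast
            exact h4
          have h6 : (1 - r j : ℝ) = 0 := by exact_mod_cast h5
          have : r j < 1 := hlt
          linarith
      · rw [hE]
        simp only [if_neg hχχ₁, zero_sub]
        refine neg_ne_zero.mpr (mul_ne_zero hpdC ?_)
        exact gmat_ne_zero C y hyC cc hcc nn hnn hM hind hdd w0 hw0 δ R hrank n hcc1 j n hordj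
          hCuj hcentj hχ₁ h0χ₁ (hDu χ₁ hχ₁ h0χ₁) (hRu χ₁ hχ₁ h0χ₁) hχB
    have h3 : 0 < ∑ j ∈ U, Complex.normSq (E j χ) :=
      Finset.sum_pos (fun j hj => Complex.normSq_pos.mpr (hEne j hj)) hUne
    rcases hS with h0 | hge
    · rw [h0] at h2
      simp only [Int.cast_zero] at h2
      linarith
    · rw [← h2]
      have := (Int.cast_le (R := ℝ)).mpr hge
      push_cast at this
      linarith
  -- the count
  have h1 := Finset.sum_le_sum hrowb
  rw [Finset.sum_const, nsmul_eq_mul, Finset.sum_comm, Finset.sum_congr rfl hcol,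
    ← Finset.mul_sum] at h1
  exact h1

end Cfsg.Agent.Lib.Helper57_MajorColumn
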