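import Mathlib
import Cfsg.Agent.Lib.Helper57_MajorNonvanish

/-!
# The weight form of a block inducing `B` (helper57)

For `b^G = B` (`b` a block of `C ≤ G`) the integers `w0(ζ, ζ') = p^{d(b)} [ζ°, ζ']` (`ζ, ζ' ∈ b`)
form a symmetric matrix of rank one modulo `p`: `|C|_{p'} w0(ζ, ζ') ≡ δ(ζ) R(ζ')`, and for
`χ ∈ B` of height zero with `χ_C = ∑ n_χζ ζ + …` both `∑ n_χζ δ(ζ)` and `∑ n_χζ R(ζ)` are prime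
to `p` (`exists_weights_full`).
-/

set_option autoImplicit false
set_option linter.unusedSectionVars false

namespace Cfsg.Agent.Lib.Helper57_Weights

open Cfsg
open scoped ComplexConjugate
open Cfsg.Agent.Lib.Helper3_CharBridge Cfsg.Agent.Lib.Helper3_CharOrtho
  Cfsg.Agent.Lib.Helper3_CharComplete Cfsg.Agent.Lib.Helper3_CharColumn
  Cfsg.Agent.Lib.Helper75_CharArith Cfsg.Agent.Lib.Helper57_PRegInt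
  Cfsg.Agent.Lib.Helper57_HeightZero Cfsg.Agent.Lib.Helper57_BrauerFeit
  Cfsg.Agent.Lib.Helper57_GramTrace Cfsg.Agent.Lib.Helper57_IndBlock
  Cfsg.Agent.Lib.Helper57_Contribution Cfsg.Agent.Lib.Helper57_Subsection
  Cfsg.Agent.Lib.Helper57_ContribMatrix Cfsg.Agent.Lib.Helper57_BrouePuig
  Cfsg.Agent.Lib.Helper57_MajorNonvanish
  Cfsg.Agent.Lib.Helper78_LocalRing Cfsg.Agent.Lib.Helper78_CharFacts
  Cfsg.Agent.Lib.Helper77_BlockBasics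

/-- The arithmetic of the weights. -/
theorem arith_units {ι : Type*} (s : Finset ι) {p : ℕ} (hp : p.Prime) (v : ℕ)
    (m : ℤ) (deg δ : ι → ℤ) (rr NNf : ι → ι → ℤ) (nχ : ι → ℤ)
    (ξ₀ : ι) (hξ₀ : ξ₀ ∈ s)
    (h1 : ∀ ζ ∈ s, ∀ ζ' ∈ s, rr ζ ζ' * deg ζ = m * NNf ζ ζ')
    (h2 : ∀ ζ ∈ s, deg ζ = (p : ℤ) ^ v * δ ζ)
    (h4 : ∀ ζ ∈ s, ∀ ζ' ∈ s, (p : ℤ) ∣ rr ζ ζ' - rr ξ₀ ζ')
    (h5 : ∀ ζ ∈ s, ∀ ζ' ∈ s, NNf ζ ζ' = NNf ζ' ζ)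
    (h7 : ¬ (p : ℤ) ∣ δ ξ₀)
    (rχ : ℤ) (hrχ : ¬ (p : ℤ) ∣ rχ)
    (h6χ : rχ * deg ξ₀ = m * ∑ ξ ∈ s, nχ ξ * NNf ξ₀ ξ) :
    ¬ (p : ℤ) ∣ ∑ ξ ∈ s, nχ ξ * δ ξ ∧ ∑ ζ' ∈ s, nχ ζ' * rr ξ₀ ζ' = rχ := by
  have hpi : Prime (p : ℤ) := Nat.prime_iff_prime_int.mp hp
  have hpv : ((p : ℤ)) ^ v ≠ 0 := pow_ne_zero _ hpi.ne_zero
  have hδ0 : δ ξ₀ ≠ 0 := by
    intro h
    apply h7
    rw [h]
    exact dvd_zero _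
  have hdeg0 : deg ξ₀ ≠ 0 := by
    rw [h2 ξ₀ hξ₀]
    exact mul_ne_zero hpv hδ0
  have hstep2 : ∑ ζ' ∈ s, nχ ζ' * rr ξ₀ ζ' = rχ := by
    apply mul_right_cancel₀ hdeg0
    rw [h6χ, Finset.sum_mul, Finset.mul_sum]
    refine Finset.sum_congr rfl fun ξ hξ => ?_
    calc nχ ξ * rr ξ₀ ξ * deg ξ₀ = nχ ξ * (rr ξ₀ ξ * deg ξ₀) := by ring
      _ = nχ ξ * (m * NNf ξ₀ ξ) := by rw [h1 ξ₀ hξ₀ ξ hξ]
      _ = m * (nχ ξ * NNf ξ₀ ξ) := by ring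
  have hstep3 : rχ * δ ξ₀ = ∑ ξ ∈ s, nχ ξ * (rr ξ ξ₀ * δ ξ) := by
    apply mul_left_cancel₀ hpv
    calc (p : ℤ) ^ v * (rχ * δ ξ₀) = rχ * deg ξ₀ := by rw [h2 ξ₀ hξ₀]; ring
      _ = m * ∑ ξ ∈ s, nχ ξ * NNf ξ₀ ξ := h6χ
      _ = ∑ ξ ∈ s, (p : ℤ) ^ v * (nχ ξ * (rr ξ ξ₀ * δ ξ)) := by
        rw [Finset.mul_sum]
        refine Finset.sum_congr rfl fun ξ hξ => ?_
        calc m * (nχ ξ * NNf ξ₀ ξ) = nχ ξ * (m * NNf ξ ξ₀) := by rw [h5 ξ₀ hξ₀ ξ hξ]; ring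
          _ = nχ ξ * (rr ξ ξ₀ * deg ξ) := by rw [h1 ξ hξ ξ₀ hξ₀]
          _ = (p : ℤ) ^ v * (nχ ξ * (rr ξ ξ₀ * δ ξ)) := by rw [h2 ξ hξ]; ring
      _ = (p : ℤ) ^ v * ∑ ξ ∈ s, nχ ξ * (rr ξ ξ₀ * δ ξ) := by rw [Finset.mul_sum]
  refine ⟨?_, hstep2⟩
  intro hdiv
  have hdiff : (p : ℤ) ∣ ∑ ξ ∈ s, nχ ξ * (rr ξ ξ₀ * δ ξ) -
      rr ξ₀ ξ₀ * ∑ ξ ∈ s, nχ ξ * δ ξ := by
    rw [Finset.mul_sum, ← Finset.sum_sub_distrib]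
    refine Finset.dvd_sum fun ξ hξ => ?_
    have : nχ ξ * (rr ξ ξ₀ * δ ξ) - rr ξ₀ ξ₀ * (nχ ξ * δ ξ) =
        (rr ξ ξ₀ - rr ξ₀ ξ₀) * (nχ ξ * δ ξ) := by ring
    rw [this]
    exact Dvd.dvd.mul_right (h4 ξ hξ ξ₀ hξ₀) _
  have h8 : (p : ℤ) ∣ rχ * δ ξ₀ := by
    rw [hstep3]
    have := dvd_add hdiff (Dvd.dvd.mul_left hdiv (rr ξ₀ ξ₀))
    rwa [sub_add_cancel] at this
  rcases hpi.dvd_or_dvd h8 with h | h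
  · exact hrχ h
  · exact h7 h

variable {G : Type*} [Group G] [Fintype G] {p : ℕ} {M : Ideal AlgInt}
variable (C : Subgroup G) [Fintype C]
  (nn : IrrCharacter G → IrrCharacter C → ℕ)
  (hnn1 : ∀ (χ : IrrCharacter G) (ζ : IrrCharacter C),
    classInner (fun c : C => (χ : G → ℂ) (c : G)) (ζ : C → ℂ) = nn χ ζ)

include hnn1 in
/-- **The weight form of a block `b` with `b^G = B`.** -/
theorem exists_weights_full (hp : p.Prime) (hM : IsPModular p M) (hIG : RegInt G p)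
    (hIC : RegInt C p) {b : Set (IrrCharacter C)} {B : Set (IrrCharacter G)}
    (hind : IsInducedBlock M C b B) :
    ∃ (w0 : IrrCharacter C → IrrCharacter C → ℤ) (δ R : IrrCharacter C → ℤ),
      (∀ ζ ζ', w0 ζ ζ' = w0 ζ' ζ) ∧
      (∀ ζ ∈ b, ∀ ζ' ∈ b, ((p : ℂ) ^ blockDefect p b) *
        classInner (regPart p (ζ : C → ℂ)) (ζ' : C → ℂ) = (w0 ζ ζ' : ℂ)) ∧
      (∀ ζ ∈ b, ∀ ζ' ∈ b, (p : ℤ) ∣ (mPrime C p : ℤ) * w0 ζ ζ' - δ ζ * R ζ') ∧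
      (∀ χ ∈ B, blockHeight p B (χ : G → ℂ) = 0 →
        ¬ (p : ℤ) ∣ ∑ ζ ∈ bset b, ((nn χ ζ : ℕ) : ℤ) * δ ζ) ∧
      (∀ χ ∈ B, blockHeight p B (χ : G → ℂ) = 0 →
        ¬ (p : ℤ) ∣ ∑ ζ ∈ bset b, ((nn χ ζ : ℕ) : ℤ) * R ζ) := by
  classical
  have hpi : Prime (p : ℤ) := Nat.prime_iff_prime_int.mp hp
  have he : IsPBlock M b := hind.1
  have hM' := isPrime_of_isPModular hM
  obtain ⟨ξ₀, hξ₀, h0ξ₀⟩ := exists_height_zero_mem (p := p) (isPBlock_nonempty hM' he)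
  set v : ℕ := h0 p b with hv
  have hpv : ((p : ℤ)) ^ v ≠ 0 := pow_ne_zero _ hpi.ne_zero
  have hvle : ∀ ζ ∈ b, v ≤ (charDegree (ζ : C → ℂ)).factorization p := fun ζ hζ => h0_le hζ
  have hdegdvd : ∀ ζ ∈ b, ((p : ℤ)) ^ v ∣ (charDegree (ζ : C → ℂ) : ℤ) := by
    intro ζ hζ
    have h1 : p ^ v ∣ p ^ (charDegree (ζ : C → ℂ)).factorization p := pow_dvd_pow p (hvle ζ hζ)
    have h2 : p ^ (charDegree (ζ : C → ℂ)).factorization p ∣ charDegree (ζ : C → ℂ) :=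
      Nat.ordProj_dvd _ p
    exact_mod_cast h1.trans h2
  have hNNdvd : ∀ ζ ∈ b, ∀ ζ' : IrrCharacter C, ((p : ℤ)) ^ v ∣ NN hIC ζ ζ' := by
    intro ζ hζ ζ'
    exact (pow_dvd_pow (p : ℤ) (hvle ζ hζ)).trans (pow_dvd_NN hp hIC ζ ζ')
  set δ : IrrCharacter C → ℤ := fun ζ => (charDegree (ζ : C → ℂ) : ℤ) / (p : ℤ) ^ v with hδ
  set w0 : IrrCharacter C → IrrCharacter C → ℤ := fun ζ ζ' => NN hIC ζ ζ' / (p : ℤ) ^ v with hw0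
  have h2 : ∀ ζ ∈ bset b, (charDegree (ζ : C → ℂ) : ℤ) = (p : ℤ) ^ v * δ ζ := by
    intro ζ hζ
    exact (Int.mul_ediv_cancel' (hdegdvd ζ (mem_bset.mp hζ))).symm
  have h3 : ∀ ζ ∈ bset b, ∀ ζ' ∈ bset b, NN hIC ζ ζ' = (p : ℤ) ^ v * w0 ζ ζ' := by
    intro ζ hζ ζ' _
    exact (Int.mul_ediv_cancel' (hNNdvd ζ (mem_bset.mp hζ) ζ')).symm
  have h7 : ¬ (p : ℤ) ∣ δ ξ₀ := by
    intro hdiv
    have hval : (charDegree (ξ₀ : C → ℂ)).factorization p = v := by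
      rw [val_eq_h0_add hξ₀, h0ξ₀, add_zero]
    have h4 : ((p : ℤ)) ^ (v + 1) ∣ (charDegree (ξ₀ : C → ℂ) : ℤ) := by
      rw [h2 ξ₀ (mem_bset.mpr hξ₀), pow_succ]
      exact mul_dvd_mul_left _ hdiv
    have h5 : p ^ (v + 1) ∣ charDegree (ξ₀ : C → ℂ) := by exact_mod_cast h4
    have h6 := Nat.pow_succ_factorization_not_dvd (charDegree_pos ξ₀).ne' hp
    rw [hval] at h6
    exact h6 h5
  have hblau : ∀ φ : IrrCharacter G, φ ∈ B → blockHeight p B (φ : G → ℂ) = 0 →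
      ∃ r : ℤ, ¬ (p : ℤ) ∣ r ∧ r * (charDegree (ξ₀ : C → ℂ) : ℤ) =
        (mPrime C p : ℤ) * ∑ ξ ∈ bset b, ((nn φ ξ : ℕ) : ℤ) * NN hIC ξ₀ ξ := by
    intro φ hφ h0φ
    obtain ⟨r, hr, hreq⟩ := exists_unit_mul_deg hp hM C hIG hIC hind hφ h0φ (nn φ)
      (fun ξ => hnn1 φ ξ) hξ₀
    refine ⟨r, hr, ?_⟩
    rw [hreq]
    congr 1
    symm
    refine Finset.sum_subset (Finset.subset_univ _) fun ξ _ hξ => ?_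
    rw [mem_bset] at hξ
    rw [NN_eq_zero_of_not_mem hM he hIC hξ₀ hξ, mul_zero]
  have hunits : ∀ χ ∈ B, blockHeight p B (χ : G → ℂ) = 0 →
      ¬ (p : ℤ) ∣ ∑ ζ ∈ bset b, ((nn χ ζ : ℕ) : ℤ) * δ ζ ∧
      ¬ (p : ℤ) ∣ ∑ ζ ∈ bset b, ((nn χ ζ : ℕ) : ℤ) * rr hIC ξ₀ ζ := by
    intro χ hχ h0χ
    obtain ⟨rχ, hrχ, h6χ⟩ := hblau χ hχ h0χ
    have := arith_units (bset b) hp v (mPrime C p : ℤ)
      (fun ζ => (charDegree (ζ : C → ℂ) : ℤ)) δ (fun ζ ζ' => rr hIC ζ ζ')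
      (fun ζ ζ' => NN hIC ζ ζ') (fun ζ => ((nn χ ζ : ℕ) : ℤ)) ξ₀ (mem_bset.mpr hξ₀)
      (fun ζ _ ζ' _ => rr_mul hIC ζ ζ') h2
      (fun ζ hζ ζ' _ => rr_congr hM he hIC (mem_bset.mp hζ) hξ₀ ζ')
      (fun ζ _ ζ' _ => NN_symm hIC ζ ζ') h7 rχ hrχ h6χ
    refine ⟨this.1, ?_⟩
    rw [this.2]
    exact hrχ
  refine ⟨w0, δ, fun ζ => rr hIC ξ₀ ζ, ?_, ?_, ?_, fun χ hχ h0χ => (hunits χ hχ h0χ).1,
    fun χ hχ h0χ => (hunits χ hχ h0χ).2⟩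
  · intro ζ ζ'
    simp only [hw0]
    rw [NN_symm hIC ζ ζ']
  · intro ζ hζ ζ' hζ'
    have hspec := NN_spec hIC ζ ζ'
    have hadd : v + blockDefect p b = (Nat.card C).factorization p := h0_add_defect hζ
    have hpc : ((p : ℂ)) ^ v ≠ 0 := pow_ne_zero _ (by exact_mod_cast hp.ne_zero)
    apply mul_left_cancel₀ hpc
    rw [← mul_assoc, ← pow_add, hadd]
    have : ((p : ℂ)) ^ (Nat.card C).factorization p =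
        ((p ^ (Nat.card C).factorization p : ℕ) : ℂ) := by push_cast; rfl
    rw [this, hspec, h3 ζ (mem_bset.mpr hζ) ζ' (mem_bset.mpr hζ')]
    push_cast
    rfl
  · intro ζ hζ ζ' hζ'
    have hterm : (mPrime C p : ℤ) * w0 ζ ζ' = rr hIC ζ ζ' * δ ζ := by
      apply mul_left_cancel₀ hpv
      calc (p : ℤ) ^ v * ((mPrime C p : ℤ) * w0 ζ ζ') =
          (mPrime C p : ℤ) * ((p : ℤ) ^ v * w0 ζ ζ') := by ring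
        _ = (mPrime C p : ℤ) * NN hIC ζ ζ' := by
          rw [h3 ζ (mem_bset.mpr hζ) ζ' (mem_bset.mpr hζ')]
        _ = rr hIC ζ ζ' * (charDegree (ζ : C → ℂ) : ℤ) := (rr_mul hIC ζ ζ').symm
        _ = (p : ℤ) ^ v * (rr hIC ζ ζ' * δ ζ) := by rw [h2 ζ (mem_bset.mpr hζ)]; ring
    rw [hterm]
    have : rr hIC ζ ζ' * δ ζ - δ ζ * rr hIC ξ₀ ζ' = (rr hIC ζ ζ' - rr hIC ξ₀ ζ') * δ ζ := by ring
    rw [this]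
    exact Dvd.dvd.mul_right (rr_congr hM he hIC hζ hξ₀ ζ') _

end Cfsg.Agent.Lib.Helper57_Weights
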