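import Mathlib
import Cfsg.Agent.Lib.Helper57_MajorNV
import Cfsg.Agent.Lib.Helper57_Weights
import Cfsg.Agent.Lib.Helper57_WForm
import Cfsg.Agent.Lib.Helper57_ContribRow
import Cfsg.Agent.Lib.Helper77_CentralDefect
import Cfsg.Agent.S0874

/-!
# The set-up of a major subsection (helper57)

`major_setup`: for a major subsection `(z, b)` of a `p`-block `B` with defect group `D` this packages
the data used in the counting arguments: `d(b) = d(B)`, the order `p^n` of `z`, the scalars `c_ζ`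
by which `z` acts in the irreducible characters of `C = C_G(z)`, the multiplicities `n_χζ` of the
restrictions, the facts about the generators `z^j` of `⟨z⟩`, and the integral weights
`w0(ζ, ζ') = p^d [ζ°, ζ']` on `b` together with their rank-one reduction modulo `p`.
-/

set_option autoImplicit false
set_option linter.unusedSectionVars false
set_option linter.unusedVariables false

namespace Cfsg.Agent.Lib.Helper57_MajorSetup

open Cfsg
open scoped ComplexConjugate
open Cfsg.Agent.Lib.Helper3_CharBridge Cfsg.Agent.Lib.Helper3_CharOrtho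
  Cfsg.Agent.Lib.Helper75_CharArith Cfsg.Agent.Lib.Helper57_PRegInt
  Cfsg.Agent.Lib.Helper57_HeightZero Cfsg.Agent.Lib.Helper57_BrauerFeit
  Cfsg.Agent.Lib.Helper57_Contribution Cfsg.Agent.Lib.Helper57_Subsection
  Cfsg.Agent.Lib.Helper57_ContribMatrix Cfsg.Agent.Lib.Helper57_BrouePuig
  Cfsg.Agent.Lib.Helper57_ContribRow
  Cfsg.Agent.Lib.Helper57_MajorNonvanish Cfsg.Agent.Lib.Helper57_MajorNV
  Cfsg.Agent.Lib.Helper57_Weights Cfsg.Agent.Lib.Helper57_WForm
  Cfsg.Agent.Lib.Helper78_LocalRing Cfsg.Agent.Lib.Helper78_CharFacts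
  Cfsg.Agent.Lib.Helper77_BlockBasics

section Aux

variable {K : Type*} [Group K] [Fintype K] {p : ℕ}

theorem classInner_self_ofReal' (f : K → ℂ) :
    classInner f f = (((Nat.card K : ℝ)⁻¹ * ∑ g : K, Complex.normSq (f g) : ℝ) : ℂ) := by
  unfold classInner
  push_cast
  congr 1
  refine Finset.sum_congr rfl fun g _ => ?_
  rw [Complex.mul_conj]

/-- The weight form is positive semidefinite. -/
theorem wform_psd' {e : Set (IrrCharacter K)} (d : ℕ)
    (w0 : IrrCharacter K → IrrCharacter K → ℤ)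
    (hw0 : ∀ ζ ∈ e, ∀ ζ' ∈ e, ((p : ℂ) ^ d) *
      classInner (regPart p (ζ : K → ℂ)) (ζ' : K → ℂ) = (w0 ζ ζ' : ℂ))
    (x : IrrCharacter K → ℤ) : 0 ≤ wform (bset e) w0 x x := by
  classical
  set lam : K → ℂ := ∑ ζ ∈ bset e, (x ζ : ℂ) • regPart p (ζ : K → ℂ) with hlam
  have h1 : classInner lam lam = ∑ ζ ∈ bset e, ∑ ζ' ∈ bset e, (x ζ : ℂ) * (x ζ' : ℂ) *
      classInner (regPart p (ζ : K → ℂ)) (ζ' : K → ℂ) := by
    rw [hlam, classInner_sum_left]
    refine Finset.sum_congr rfl fun ζ _ => ?_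
    rw [classInner_smul_left, classInner_sum_right, Finset.mul_sum]
    refine Finset.sum_congr rfl fun ζ' _ => ?_
    rw [classInner_smul_right, map_intCast, classInner_regPart_right]
    ring
  have h2 : ((wform (bset e) w0 x x : ℤ) : ℂ) = (p : ℂ) ^ d * classInner lam lam := by
    rw [h1, wform_apply, Finset.mul_sum]
    push_cast
    refine Finset.sum_congr rfl fun ζ hζ => ?_
    rw [Finset.mul_sum]
    refine Finset.sum_congr rfl fun ζ' hζ' => ?_
    rw [← hw0 ζ (mem_bset.mp hζ) ζ' (mem_bset.mp hζ')]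
    ring
  rw [classInner_self_ofReal'] at h2
  have h3 : ((wform (bset e) w0 x x : ℤ) : ℝ) =
      (p : ℝ) ^ d * ((Nat.card K : ℝ)⁻¹ * ∑ g : K, Complex.normSq (lam g)) := by
    apply Complex.ofReal_injective
    rw [Complex.ofReal_intCast, h2]
    push_cast
    rfl
  have h4 : (0 : ℝ) ≤ ((wform (bset e) w0 x x : ℤ) : ℝ) := by
    rw [h3]
    have : ∀ g : K, 0 ≤ Complex.normSq (lam g) := fun g => Complex.normSq_nonneg _
    have h5 : (0 : ℝ) ≤ ∑ g : K, Complex.normSq (lam g) := Finset.sum_nonneg fun g _ => this g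
    positivity
  exact_mod_cast h4

end Aux

/-- **The set-up of a major subsection.** -/
theorem major_setup {G : Type*} [Group G] [Fintype G] (p : ℕ) [Fact p.Prime]
    (M : Ideal Cfsg.AlgInt) (hM : Cfsg.IsPModular p M) (B : Set (Cfsg.IrrCharacter G))
    (hB : Cfsg.IsPBlock M B) (D : Subgroup G) (hD : Cfsg.IsDefectGroup p M B D) (z : G)
    (hzD : z ∈ D) (hzc : ∀ d ∈ D, d * z = z * d)
    [Fintype (Subgroup.centralizer ({z} : Set G))]
    (b : Set (Cfsg.IrrCharacter ↥(Subgroup.centralizer ({z} : Set G))))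
    (hb : Cfsg.IsInducedBlock M (Subgroup.centralizer ({z} : Set G)) b B)
    (hbD : Cfsg.IsDefectGroup p M b (D.subgroupOf (Subgroup.centralizer ({z} : Set G)))) :
    blockDefect p b = blockDefect p B ∧
    ∃ (n : ℕ) (hyC : z ∈ Subgroup.centralizer ({z} : Set G))
      (cc : IrrCharacter (Subgroup.centralizer ({z} : Set G)) → ℂ)
      (nn : IrrCharacter G → IrrCharacter (Subgroup.centralizer ({z} : Set G)) → ℕ)
      (w0 : IrrCharacter (Subgroup.centralizer ({z} : Set G)) →
        IrrCharacter (Subgroup.centralizer ({z} : Set G)) → ℤ)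
      (δ R : IrrCharacter (Subgroup.centralizer ({z} : Set G)) → ℤ),
      orderOf z = p ^ n ∧
      (∀ c : Subgroup.centralizer ({z} : Set G), z * (c : G) = (c : G) * z) ∧
      (∀ (ζ : IrrCharacter (Subgroup.centralizer ({z} : Set G)))
        (a : Subgroup.centralizer ({z} : Set G)),
        (ζ : Subgroup.centralizer ({z} : Set G) → ℂ) (⟨z, hyC⟩ * a) =
          cc ζ * (ζ : Subgroup.centralizer ({z} : Set G) → ℂ) a) ∧
      (∀ ζ : IrrCharacter (Subgroup.centralizer ({z} : Set G)), cc ζ ^ (p ^ n) = 1) ∧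
      (∀ χ : IrrCharacter G,
        (fun c : Subgroup.centralizer ({z} : Set G) => (χ : G → ℂ) (c : G)) =
          ∑ ζ : IrrCharacter (Subgroup.centralizer ({z} : Set G)),
            (nn χ ζ : ℂ) • (ζ : Subgroup.centralizer ({z} : Set G) → ℂ)) ∧
      (∀ j ∈ (Finset.range (p ^ n)).filter (fun j => j.Coprime (p ^ n)),
        orderOf (z ^ j) = p ^ n ∧
        (∀ c : Subgroup.centralizer ({z} : Set G), z ^ j * (c : G) = (c : G) * z ^ j) ∧
        Subgroup.centralizer ({z ^ j} : Set G) ≤ Subgroup.centralizer ({z} : Set G)) ∧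
      (∀ ζ ζ', w0 ζ ζ' = w0 ζ' ζ) ∧
      (∀ ζ ∈ b, ∀ ζ' ∈ b, ((p : ℂ) ^ blockDefect p b) *
        classInner (regPart p (ζ : Subgroup.centralizer ({z} : Set G) → ℂ))
          (ζ' : Subgroup.centralizer ({z} : Set G) → ℂ) = (w0 ζ ζ' : ℂ)) ∧
      (∀ x, 0 ≤ wform (bset b) w0 x x) ∧
      (∀ ζ ∈ bset b, ∀ ζ' ∈ bset b, (p : ℤ) ∣
        (mPrime (Subgroup.centralizer ({z} : Set G)) p : ℤ) * w0 ζ ζ' - δ ζ * R ζ') ∧
      (∀ χ ∈ B, blockHeight p B (χ : G → ℂ) = 0 →
        ¬ (p : ℤ) ∣ ∑ ζ ∈ bset b, ((nn χ ζ : ℕ) : ℤ) * δ ζ) ∧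
      (∀ χ ∈ B, blockHeight p B (χ : G → ℂ) = 0 →
        ¬ (p : ℤ) ∣ ∑ ζ ∈ bset b, ((nn χ ζ : ℕ) : ℤ) * R ζ) := by
  classical
  have hp : p.Prime := Fact.out
  have hM' := isPrime_of_isPModular hM
  have hpi : Prime (p : ℤ) := Nat.prime_iff_prime_int.mp hp
  -- defect bookkeeping
  obtain ⟨hDp, hDcard⟩ := Cfsg.Agent.Lib.Helper77_CentralDefect.card_of_isDefectGroup hM hB hD
  obtain ⟨-, hbcard⟩ := Cfsg.Agent.Lib.Helper77_CentralDefect.card_of_isDefectGroup hM hb.1 hbD
  have hDle : D ≤ Subgroup.centralizer ({z} : Set G) := by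
    intro d hd
    rw [Subgroup.mem_centralizer_iff]
    intro h hh
    rw [Set.mem_singleton_iff.mp hh]
    exact (hzc d hd).symm
  have hcardeq : Nat.card (D.subgroupOf (Subgroup.centralizer ({z} : Set G))) = Nat.card D :=
    Nat.card_congr (Subgroup.subgroupOfEquivOfLe hDle).toEquiv
  have hdd : blockDefect p b = blockDefect p B := by
    apply Nat.pow_right_injective hp.two_le
    show p ^ blockDefect p b = p ^ blockDefect p B
    rw [← hbcard, ← hDcard, hcardeq]
  obtain ⟨n, hn⟩ : ∃ n : ℕ, orderOf z = p ^ n := by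
    obtain ⟨k, hk⟩ := hDp ⟨z, hzD⟩
    have h1 : z ^ (p ^ k) = 1 := by
      have := congrArg Subtype.val hk
      simpa using this
    obtain ⟨m, -, hm⟩ := (Nat.dvd_prime_pow hp).mp (orderOf_dvd_of_pow_eq_one h1)
    exact ⟨m, hm⟩
  have hIG : RegInt G p :=
    regInt_of_brauerLocal hp (fun q hq _ => Cfsg.Agent.S0874.result q hq)
  have hIC : RegInt (Subgroup.centralizer ({z} : Set G)) p :=
    regInt_of_brauerLocal hp (fun q hq _ => Cfsg.Agent.S0874.result q hq)
  have hyC : z ∈ Subgroup.centralizer ({z} : Set G) := by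
    rw [Subgroup.mem_centralizer_iff]
    intro h hh
    rw [Set.mem_singleton_iff.mp hh]
  have hcomm : ∀ c : Subgroup.centralizer ({z} : Set G), z * (c : G) = (c : G) * z :=
    fun c => Subgroup.mem_centralizer_iff.mp c.2 z (Set.mem_singleton z)
  have hzcen : (⟨z, hyC⟩ : Subgroup.centralizer ({z} : Set G)) ∈
      Submonoid.center (Subgroup.centralizer ({z} : Set G)) := by
    rw [Submonoid.mem_center_iff]
    intro g
    apply Subtype.ext
    push_cast
    exact (hcomm g).symm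
  have hzord : orderOf (⟨z, hyC⟩ : Subgroup.centralizer ({z} : Set G)) = p ^ n := by
    rw [← hn]
    exact Subgroup.orderOf_mk z hyC
  -- the scalars
  have hccex : ∀ ζ : IrrCharacter (Subgroup.centralizer ({z} : Set G)), ∃ c : ℂ,
      ∀ a : Subgroup.centralizer ({z} : Set G),
        (ζ : Subgroup.centralizer ({z} : Set G) → ℂ) (⟨z, hyC⟩ * a) =
          c * (ζ : Subgroup.centralizer ({z} : Set G) → ℂ) a := by
    intro ζ
    obtain ⟨c, _, hc⟩ := exists_scalar_of_central_pElement hM ζ ⟨z, hyC⟩ hzcen n hzord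
    exact ⟨c, hc⟩
  choose cc hcc using hccex
  have hcc1 : ∀ ζ : IrrCharacter (Subgroup.centralizer ({z} : Set G)), cc ζ ^ (p ^ n) = 1 := by
    intro ζ
    have h1 := irr_pow_mul (Subgroup.centralizer ({z} : Set G)) z hyC cc hcc ζ (p ^ n) 1
    rw [← hzord, pow_orderOf_eq_one, one_mul, hzord] at h1
    have hne : (ζ : Subgroup.centralizer ({z} : Set G) → ℂ) 1 ≠ 0 :=
      Cfsg.Agent.Lib.Helper78_CentralChar.isIrrCharacter_one_ne_zero ζ.2
    have h2 : (cc ζ ^ (p ^ n) - 1) * (ζ : Subgroup.centralizer ({z} : Set G) → ℂ) 1 = 0 := by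
      rw [sub_mul, one_mul, ← h1, sub_self]
    rcases mul_eq_zero.mp h2 with h | h
    · exact sub_eq_zero.mp h
    · exact absurd h hne
  -- the multiplicities
  have hnnex : ∀ χ : IrrCharacter G, ∃ m : IrrCharacter (Subgroup.centralizer ({z} : Set G)) → ℕ,
      (∀ ζ : IrrCharacter (Subgroup.centralizer ({z} : Set G)),
        classInner (fun c : Subgroup.centralizer ({z} : Set G) => (χ : G → ℂ) (c : G))
          (ζ : Subgroup.centralizer ({z} : Set G) → ℂ) = m ζ) ∧
      (fun c : Subgroup.centralizer ({z} : Set G) => (χ : G → ℂ) (c : G)) =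
        ∑ ζ : IrrCharacter (Subgroup.centralizer ({z} : Set G)),
          (m ζ : ℂ) • (ζ : Subgroup.centralizer ({z} : Set G) → ℂ) := fun χ =>
    exists_multiplicities (isCharacter_restrict (Subgroup.centralizer ({z} : Set G))
      (isCharacter_of_isIrrCharacter χ.2))
  choose nn hnn1 hnn using hnnex
  -- the units
  set U : Finset ℕ := (Finset.range (p ^ n)).filter (fun j => j.Coprime (p ^ n)) with hU
  have hUcard : U.card = (p ^ n).totient := by
    rw [Nat.totient_eq_card_coprime, hU]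
    congr 1
    refine Finset.filter_congr fun j _ => ?_
    exact Nat.coprime_comm
  have hφ : (0 : ℝ) < ((p ^ n).totient : ℝ) := by
    exact_mod_cast Nat.totient_pos.mpr (pow_pos hp.pos n)
  have hUne : U.Nonempty := by
    rw [← Finset.card_pos, hUcard]
    exact Nat.totient_pos.mpr (pow_pos hp.pos n)
  have hjfacts : ∀ j ∈ U, orderOf (z ^ j) = p ^ n ∧
      (∀ c : Subgroup.centralizer ({z} : Set G), z ^ j * (c : G) = (c : G) * z ^ j) ∧
      Subgroup.centralizer ({z ^ j} : Set G) ≤ Subgroup.centralizer ({z} : Set G) := by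
    intro j hj
    have hjc : j.Coprime (p ^ n) := (Finset.mem_filter.mp hj).2
    refine ⟨?_, ?_, ?_⟩
    · rw [← hn]
      apply Nat.Coprime.orderOf_pow
      rw [hn]
      exact hjc.symm
    · exact fun c => ((Commute.pow_left (hcomm c) j)).eq
    · intro g hg
      rw [Subgroup.mem_centralizer_iff] at hg ⊢
      intro h hh
      rw [Set.mem_singleton_iff.mp hh]
      obtain ⟨m, hm⟩ := exists_pow_eq_self_of_coprime (x := z) (n := j) (by rw [hn]; exact hjc)
      have h1 : (z ^ j) * g = g * (z ^ j) := hg (z ^ j) (Set.mem_singleton _)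
      have h2 : Commute (z ^ j) g := h1
      have h3 := (h2.pow_left m).eq
      rwa [hm] at h3
  -- the weights
  obtain ⟨w0, δ, R, hsym, hw0, hrank, hDu, hRu⟩ :=
    exists_weights_full (Subgroup.centralizer ({z} : Set G)) nn hnn1 hp hM hIG hIC hb
  have hβsym : ∀ x y, wform (bset b) w0 x y = wform (bset b) w0 y x :=
    wform_symm (bset b) hsym
  have hβpsd : ∀ x, 0 ≤ wform (bset b) w0 x x := wform_psd' (blockDefect p b) w0 hw0
  have hmC : ¬ (p : ℤ) ∣ (mPrime (Subgroup.centralizer ({z} : Set G)) p : ℤ) := fun h =>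
    not_dvd_mPrime (G := Subgroup.centralizer ({z} : Set G)) hp (Int.natCast_dvd_natCast.mp h)
  have hrank' : ∀ ζ ∈ bset b, ∀ ζ' ∈ bset b, (p : ℤ) ∣
      (mPrime (Subgroup.centralizer ({z} : Set G)) p : ℤ) * w0 ζ ζ' - δ ζ * R ζ' :=
    fun ζ hζ ζ' hζ' => hrank ζ (mem_bset.mp hζ) ζ' (mem_bset.mp hζ')
  exact ⟨hdd, n, hyC, cc, nn, w0, δ, R, hn, hcomm, hcc, hcc1, hnn, hjfacts, hsym, hw0, hβpsd, hrank',
    hDu, hRu⟩

end Cfsg.Agent.Lib.Helper57_MajorSetup
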