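import Mathlib
import Cfsg.Agent.Lib.Helper38_OTDefs
import Cfsg.Agent.Lib.Helper91_UT_KEYGa

set_option autoImplicit false
set_option linter.unusedSectionVars false
set_option linter.unusedVariables false

/-!
OTENS4 market (helper38), package **OT-KEYG**, auxiliary form: `keyO_aux` takes the statement of
`key_baseO` (KEYB, for all `g`, `γ`) as a hypothesis `hKB`.  The final `keyO` is
`keyO_aux (fun hp hγ hst => key_baseO hC hII hS hx0 hd hmax hp hγ hst) hp hγ`.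
Twin of `Helper91_UT_KEYGa` (whose `conj_Ng_self`, `conj_Ng_other`, `isPair_conj`, `isPair_symm`
are reused at `σ = id`).
-/

namespace Cfsg.Agent.Lib.Helper57_OT_KEYGaux

open Matrix Module
open Cfsg.Agent.Lib.Helper98_ExtDefs Cfsg.Agent.Lib.Helper97_TensDefs
open Cfsg.Agent.Lib.Helper94_Herm
open Cfsg.Agent.Lib.Helper67_UT2Defs Cfsg.Agent.Lib.Helper37_UTDefs
open Cfsg.Agent.Lib.Helper37_UTPairDefs
open Cfsg.Agent.Lib.Helper94_OrthSmall Cfsg.Agent.Lib.Helper94_OrthSiegel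
open Cfsg.Agent.Lib.Helper38_OTDefs
open Cfsg.Agent.Lib.Helper91_UT_KEYGa

section Abstract

variable {F : Type*} [Field F] {V : Type*} [AddCommGroup V] [Module F V]

/-- conjugation maps `GamO N N'` into `GamO (h N h⁻¹) (h N' h⁻¹)` -/
theorem conj_mem_GamO (h : V ≃ₗ[F] V) (N N' : V →ₗ[F] V) {γ : V ≃ₗ[F] V} (hγ : γ ∈ GamO N N') :
    h * γ * h⁻¹ ∈ GamO (h.toLinearMap ∘ₗ N ∘ₗ h.symm.toLinearMap)
      (h.toLinearMap ∘ₗ N' ∘ₗ h.symm.toLinearMap) := by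
  unfold GamO at hγ
  induction hγ using Subgroup.closure_induction with
  | mem g hg =>
    obtain ⟨s, hg | hg⟩ := hg
    · apply Subgroup.subset_closure
      refine ⟨s, Or.inl ?_⟩
      intro v
      show h (g (h.symm v)) = v + s • h (N (h.symm v))
      rw [hg, map_add, map_smul, LinearEquiv.apply_symm_apply]
    · apply Subgroup.subset_closure
      refine ⟨s, Or.inr ?_⟩
      intro v
      show h (g (h.symm v)) = v + s • h (N' (h.symm v))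
      rw [hg, map_add, map_smul, LinearEquiv.apply_symm_apply]
  | one =>
    rw [mul_one, mul_inv_cancel]
    exact Subgroup.one_mem _
  | mul a b _ _ iha ihb =>
    have : h * (a * b) * h⁻¹ = (h * a * h⁻¹) * (h * b * h⁻¹) := by group
    rw [this]
    exact Subgroup.mul_mem _ iha ihb
  | inv a _ iha =>
    have : h * a⁻¹ * h⁻¹ = (h * a * h⁻¹)⁻¹ := by group
    rw [this]
    exact Subgroup.inv_mem _ iha

end Abstract

variable {F : Type*} [Field F] {ι κ : Type*} [Fintype ι] [Fintype κ] [DecidableEq ι]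
  [DecidableEq κ]
variable {α : LinearMap.BilinForm F (ι → F)} {β : LinearMap.BilinForm F (κ → F)}
variable {Q : Matrix ι κ F → F} {M : Subgroup (Matrix ι κ F ≃ₗ[F] Matrix ι κ F)}

/-- the key lemma for the first member of a pair, from the key lemma for base pairs -/
theorem key_leftO {x : ι → F} {d : ℕ}
    (hKB : ∀ {g : Matrix ι κ F ≃ₗ[F] Matrix ι κ F}, IsPair x M d 1 g →
      ∀ {γ : Matrix ι κ F ≃ₗ[F] Matrix ι κ F}, γ ∈ GamO (nII (κ := κ) α x) (Ng α x g) →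
      (∀ X ∈ fibB (κ := κ) x, γ X ∈ fibB (κ := κ) x) →
      ∃ s : F, ∀ X, γ X = X + s • nII α x X)
    {g₁ g₂ : Matrix ι κ F ≃ₗ[F] Matrix ι κ F} (hp : IsPair x M d g₁ g₂)
    {γ : Matrix ι κ F ≃ₗ[F] Matrix ι κ F} (hγ : γ ∈ GamO (Ng α x g₁) (Ng α x g₂))
    (hst : ∀ X ∈ Lg x g₁, γ X ∈ Lg x g₁) :
    ∃ s : F, ∀ X, γ X = X + s • Ng α x g₁ X := by
  have hγ' : g₁⁻¹ * γ * g₁ ∈ GamO (nII (κ := κ) α x) (Ng α x (g₁⁻¹ * g₂)) := by
    have h1 := conj_mem_GamO (g₁⁻¹ : Matrix ι κ F ≃ₗ[F] Matrix ι κ F) _ _ hγ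
    rw [inv_inv, conj_Ng_self, conj_Ng_other] at h1
    exact h1
  have hst' : ∀ X ∈ fibB (κ := κ) x, (g₁⁻¹ * γ * g₁) X ∈ fibB (κ := κ) x := by
    intro X hX
    have h1 : g₁ X ∈ Lg x g₁ := Submodule.mem_map_of_mem (f := g₁.toLinearMap) hX
    obtain ⟨Y, hY, hYe⟩ := hst _ h1
    have h2 : (g₁⁻¹ * γ * g₁) X = Y := by
      show g₁.symm (γ (g₁ X)) = Y
      rw [LinearEquiv.symm_apply_eq]
      exact hYe.symm
    rw [h2]
    exact hY
  obtain ⟨s, h⟩ := hKB (isPair_conj hp) hγ' hst'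
  refine ⟨s, fun X => ?_⟩
  have h1 := h (g₁.symm X)
  have h2 : (g₁⁻¹ * γ * g₁) (g₁.symm X) = g₁.symm (γ X) := by
    show g₁.symm (γ (g₁ (g₁.symm X))) = g₁.symm (γ X)
    rw [LinearEquiv.apply_symm_apply]
  rw [h2, LinearEquiv.symm_apply_eq, map_add, map_smul, LinearEquiv.apply_symm_apply] at h1
  rw [h1, Ng_apply]

/-- KEYG with the statement of KEYB as a hypothesis -/
theorem keyO_aux {x : ι → F} {d : ℕ}
    (hKB : ∀ {g : Matrix ι κ F ≃ₗ[F] Matrix ι κ F}, IsPair x M d 1 g →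
      ∀ {γ : Matrix ι κ F ≃ₗ[F] Matrix ι κ F}, γ ∈ GamO (nII (κ := κ) α x) (Ng α x g) →
      (∀ X ∈ fibB (κ := κ) x, γ X ∈ fibB (κ := κ) x) →
      ∃ s : F, ∀ X, γ X = X + s • nII α x X)
    {g₁ g₂ : Matrix ι κ F ≃ₗ[F] Matrix ι κ F} (hp : IsPair x M d g₁ g₂)
    {γ : Matrix ι κ F ≃ₗ[F] Matrix ι κ F} (hγ : γ ∈ GamO (Ng α x g₁) (Ng α x g₂)) :
    ((∀ X ∈ Lg x g₁, γ X ∈ Lg x g₁) → ∃ s : F, ∀ X, γ X = X + s • Ng α x g₁ X) ∧
    ((∀ X ∈ Lg x g₂, γ X ∈ Lg x g₂) → ∃ s : F, ∀ X, γ X = X + s • Ng α x g₂ X) := by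
  refine ⟨fun hst => key_leftO hKB hp hγ hst, fun hst => ?_⟩
  have hγ2 : γ ∈ GamO (Ng α x g₂) (Ng α x g₁) := by
    rw [GamO_comm]; exact hγ
  exact key_leftO hKB (isPair_symm hp) hγ2 hst

end Cfsg.Agent.Lib.Helper57_OT_KEYGaux
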