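import Mathlib
import Cfsg.Agent.Lib.Helper38_OTDefs
import Cfsg.Agent.Lib.Helper73_Tens_TP1

set_option autoImplicit false
set_option linter.unusedSectionVars false
set_option linter.unusedVariables false

/-!
OTENS4 market (helper38), package **OT-TP1B**: an automorphism of `A ⊗ B` mapping every fibre
`x ⊗ B` onto a fibre `x' ⊗ B` is Kronecker.  Obtained from `Helper73_Tens_TP1.isKron_of_fibers`
(the same statement for the fibres `A ⊗ y`) by transposition.
-/

namespace Cfsg.Agent.Lib.Helper57_OT_TP1B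

open Matrix Module
open Cfsg.Agent.Lib.Helper98_ExtDefs Cfsg.Agent.Lib.Helper97_TensDefs
open Cfsg.Agent.Lib.Helper94_Herm
open Cfsg.Agent.Lib.Helper67_UT2Defs Cfsg.Agent.Lib.Helper37_UTDefs
open Cfsg.Agent.Lib.Helper37_UTPairDefs
open Cfsg.Agent.Lib.Helper94_OrthSmall Cfsg.Agent.Lib.Helper94_OrthSiegel
open Cfsg.Agent.Lib.Helper67_T2ODefs (IsAltMap aw)
open Cfsg.Agent.Lib.Helper38_OTDefs

variable {F : Type*} [Field F] {ι κ : Type*} [Fintype ι] [Fintype κ] [DecidableEq ι]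
  [DecidableEq κ]
variable {α : LinearMap.BilinForm F (ι → F)} {β : LinearMap.BilinForm F (κ → F)}
variable {Q : Matrix ι κ F → F} {M : Subgroup (Matrix ι κ F ≃ₗ[F] Matrix ι κ F)}

theorem h57_transpose_vecMulVec (x : ι → F) (w : κ → F) :
    (vecMulVec x w)ᵀ = vecMulVec w x := by
  ext i j
  simp [vecMulVec_apply, mul_comm]

/-! ## TP1B (M): an automorphism permuting the fibres `x ⊗ B` is Kronecker -/

theorem isKron_of_fibB_all (h2 : 2 ≤ Fintype.card ι) (g : Matrix ι κ F ≃ₗ[F] Matrix ι κ F)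
    (h : ∀ x : ι → F, x ≠ 0 →
      ∃ x' : ι → F, x' ≠ 0 ∧ (fibB x).map g.toLinearMap = fibB x') : IsKron g := by
  obtain ⟨g', hg'⟩ : ∃ g' : Matrix κ ι F ≃ₗ[F] Matrix κ ι F, ∀ Y, g' Y = (g Yᵀ)ᵀ :=
    ⟨((Matrix.transposeLinearEquiv κ ι F F).trans g).trans (Matrix.transposeLinearEquiv ι κ F F),
      fun Y => rfl⟩
  have key : IsKron g' := by
    apply Cfsg.Agent.Lib.Helper73_Tens_TP1.isKron_of_fibers
    intro x hx
    obtain ⟨x', hx'0, hx'⟩ := h x hx
    refine ⟨x', hx'0, ?_⟩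
    ext Y
    constructor
    · rintro ⟨Y0, ⟨w, rfl⟩, rfl⟩
      have hmem : g (vecMulVec x w) ∈ (fibB x).map g.toLinearMap :=
        Submodule.mem_map_of_mem (f := g.toLinearMap) ⟨w, rfl⟩
      rw [hx'] at hmem
      obtain ⟨w', hw'⟩ := hmem
      refine ⟨w', ?_⟩
      show g' (vecMulVec w x) = vecMulVec w' x'
      rw [hg', h57_transpose_vecMulVec, hw', h57_transpose_vecMulVec]
    · rintro ⟨w', rfl⟩
      have hmem : vecMulVec x' w' ∈ fibB (κ := κ) x' := ⟨w', rfl⟩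
      rw [← hx'] at hmem
      obtain ⟨X, ⟨w, rfl⟩, hX⟩ := hmem
      refine ⟨vecMulVec w x, ⟨w, rfl⟩, ?_⟩
      show g' (vecMulVec w x) = vecMulVec w' x'
      have hX' : g (vecMulVec x w) = vecMulVec x' w' := hX
      rw [hg', h57_transpose_vecMulVec, hX', h57_transpose_vecMulVec]
  obtain ⟨P', Q', hPQ⟩ := key
  refine ⟨Q', P', fun X => ?_⟩
  have h1 := hPQ Xᵀ
  rw [hg', transpose_transpose] at h1
  have h2' := congrArg Matrix.transpose h1
  rw [transpose_transpose] at h2'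
  rw [h2', transpose_mul, transpose_mul, transpose_transpose, transpose_transpose, Matrix.mul_assoc]

end Cfsg.Agent.Lib.Helper57_OT_TP1B
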