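import Mathlib
import Cfsg.Agent.Lib.Helper97_OX3Defs
import Cfsg.Agent.Lib.Helper94_OrthVec

set_option autoImplicit false
set_option linter.unusedSectionVars false
set_option linter.unusedVariables false

/-!
# OEXT3 package SEMIFIX (helper97's market `oext3_packages`): a map semilinear on the `K`-line
`L' = K u' + K w'` that fixes pointwise an `F`-subspace of `L'` of dimension at least four is the
identity on `L'`.

`dim_F L' ≤ 6`; for `k ≠ 0` the subspaces `D₀` and `k D₀` of `L'` meet nontrivially, which gives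
`σ k = k`; then the fixed points of `y` in `L'` form a `K`-subspace of `F`-dimension at least four,
hence of `K`-dimension two.
-/

namespace Cfsg.Agent.Lib.Helper57_OX3_SEMIFIX

open Module Cfsg.Agent.Lib.Helper94_OrthSmall Cfsg.Agent.Lib.Helper94_OrthSiegel
  Cfsg.Agent.Lib.Helper98_ExtDefs Cfsg.Agent.Lib.Helper97_OX2Defs
  Cfsg.Agent.Lib.Helper97_OX3Defs
open scoped commutatorElement

variable {F K V : Type*} [Field F] [Field K] [Algebra F K] [AddCommGroup V] [Module F V]
  [Module K V] [IsScalarTower F K V]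
variable {τ : K →ₗ[F] F} {QK : V → K} {BK : LinearMap.BilinForm K V}
variable [Finite F] [Finite K] [Module.Finite F V] [Module.Finite K V]

/-- `dim_F S = 3 dim_K S` for a `K`-subspace `S` -/
theorem h57_finrank_restrict (C : Ctx3 τ QK BK) (S : Submodule K V) :
    finrank F ↥(S.restrictScalars F) = 3 * finrank K ↥S := by
  have h1 := Module.finrank_mul_finrank F K ↥S
  rw [C.hdim] at h1
  have h2 : finrank F ↥(S.restrictScalars F) = finrank F ↥S :=
    ((Submodule.restrictScalarsEquiv F K V S).restrictScalars F).finrank_eq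
  omega

/-- SEMIFIX: a map semilinear on `L'` fixing a 4-dimensional `F`-subspace of `L'` pointwise is the
identity on `L'` -/
theorem semifix (C : Ctx3 τ QK BK) {u' w' : V} (h' : TSPair QK BK u' w') (y : V ≃ₗ[F] V)
    (σ : K →+* K) (hσ : ∀ k : K, ∀ x ∈ kln F (K := K) u' w', y (k • x) = σ k • y x)
    (D₀ : Submodule F V) (hD : D₀ ≤ kln F (K := K) u' w') (h4 : 4 ≤ finrank F D₀)
    (hfix : ∀ x ∈ D₀, y x = x) : ∀ x ∈ kln F (K := K) u' w', y x = x := by
  obtain ⟨Lk, hLk⟩ : ∃ Lk : Submodule K V, Lk = Submodule.span K {u', w'} := ⟨_, rfl⟩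
  have hkln : kln F (K := K) u' w' = Lk.restrictScalars F := by rw [hLk]; rfl
  have hLk2 : finrank K ↥Lk ≤ 2 := by
    classical
    have h1 : Lk = Submodule.span K ((({u', w'} : Finset V)) : Set V) := by
      rw [hLk]; simp
    rw [h1]
    exact le_trans (finrank_span_finset_le_card _) Finset.card_le_two
  have hL6 : finrank F ↥(kln F (K := K) u' w') ≤ 6 := by
    rw [hkln, h57_finrank_restrict C]; omega
  have hKinv : ∀ (k : K) (x : V), x ∈ kln F (K := K) u' w' → k • x ∈ kln F (K := K) u' w' := by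
    intro k x hx
    rw [hkln, Submodule.restrictScalars_mem] at hx ⊢
    exact Lk.smul_mem k hx
  -- Step 1: `σ = id`
  have hσid : ∀ k : K, σ k = k := by
    intro k
    by_cases hk : k = 0
    · rw [hk, map_zero]
    · obtain ⟨m, hm⟩ : ∃ m : V →ₗ[F] V, ∀ x, m x = k • x :=
        ⟨(LinearMap.lsmul K V k).restrictScalars F, fun x => rfl⟩
      have hinj : Function.Injective m := by
        intro a b hab
        rw [hm, hm] at hab
        exact smul_right_injective V hk hab
      have hmap : finrank F ↥(D₀.map m) = finrank F ↥D₀ :=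
        (LinearEquiv.finrank_eq (Submodule.equivMapOfInjective m hinj D₀)).symm
      have hmle : D₀.map m ≤ kln F (K := K) u' w' := by
        rintro _ ⟨x, hx, rfl⟩
        rw [hm]
        exact hKinv k x (hD hx)
      have hsup : finrank F ↥(D₀ ⊔ D₀.map m) ≤ 6 :=
        le_trans (Submodule.finrank_mono (sup_le hD hmle)) hL6
      have hgr := Submodule.finrank_sup_add_finrank_inf_eq D₀ (D₀.map m)
      have hpos : 0 < finrank F ↥(D₀ ⊓ D₀.map m) := by omega
      obtain ⟨⟨x, hx⟩, hx0⟩ := Module.finrank_pos_iff_exists_ne_zero.mp hpos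
      have hx0' : x ≠ 0 := fun h0 => hx0 (Subtype.ext h0)
      obtain ⟨hxD, x', hx'D, hx'⟩ := hx
      rw [hm] at hx'
      have hx'0 : x' ≠ 0 := by
        intro h0
        rw [h0, smul_zero] at hx'
        exact hx0' hx'.symm
      have e1 : y (k • x') = k • x' := by rw [hx']; exact hfix x hxD
      have e2 : y (k • x') = σ k • x' := by rw [hσ k x' (hD hx'D), hfix x' hx'D]
      have e3 : (σ k - k) • x' = 0 := by rw [sub_smul, ← e2, e1, sub_self]
      rcases smul_eq_zero.mp e3 with h3 | h3
      · exact sub_eq_zero.mp h3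
      · exact absurd h3 hx'0
  -- Step 2: the fixed points in `L'` form a `K`-subspace
  obtain ⟨S, hS⟩ : ∃ S : Submodule K V, ∀ x, x ∈ S ↔ x ∈ Lk ∧ y x = x := by
    refine ⟨{ carrier := {x | x ∈ Lk ∧ y x = x}, add_mem' := ?_, zero_mem' := ?_,
              smul_mem' := ?_ }, fun x => Iff.rfl⟩
    · rintro a b ⟨ha, ha'⟩ ⟨hb, hb'⟩
      exact ⟨Lk.add_mem ha hb, by rw [map_add, ha', hb']⟩
    · exact ⟨Lk.zero_mem, map_zero y⟩
    · rintro c x ⟨hx, hx'⟩
      refine ⟨Lk.smul_mem c hx, ?_⟩
      have hxk : x ∈ kln F (K := K) u' w' := by rw [hkln, Submodule.restrictScalars_mem]; exact hx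
      rw [hσ c x hxk, hσid, hx']
  have hSle : S ≤ Lk := fun x hx => ((hS x).mp hx).1
  have hDS : D₀ ≤ S.restrictScalars F := by
    intro x hx
    rw [Submodule.restrictScalars_mem, hS]
    have := hD hx
    rw [hkln, Submodule.restrictScalars_mem] at this
    exact ⟨this, hfix x hx⟩
  have h5 : 4 ≤ 3 * finrank K ↥S := by
    rw [← h57_finrank_restrict C]
    exact le_trans h4 (Submodule.finrank_mono hDS)
  have hSL : S = Lk := Submodule.eq_of_le_of_finrank_le hSle (by omega)
  intro x hx
  rw [hkln, Submodule.restrictScalars_mem, ← hSL, hS] at hx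
  exact hx.2

end Cfsg.Agent.Lib.Helper57_OX3_SEMIFIX
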