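import Mathlib

/-!
# S2314 (market `pc_packages`, architect helper81), package PK-SYL

`exists_conj_mem_sylow`: a `p`-element of a subgroup `H` containing a Sylow `p`-subgroup `U` of `G`
is `H`-conjugate into `U`.
-/

set_option autoImplicit false

namespace Cfsg.Agent.Lib.Helper81_PCount

theorem exists_conj_mem_sylow {G : Type*} [Group G] [Finite G] (p : ℕ) [Fact p.Prime] (U : Sylow p G)
    (H : Subgroup G) (hUH : (U : Subgroup G) ≤ H) (g : G) (hgH : g ∈ H) (hg : ∃ k : ℕ, orderOf g = p ^ k) :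
    ∃ x ∈ H, x * g * x⁻¹ ∈ (U : Subgroup G) := by
  classical
  obtain ⟨k, hk⟩ := hg
  set g' : H := ⟨g, hgH⟩ with hg'
  have hord : orderOf g' = p ^ k := by
    rw [← hk, hg', ← Subgroup.orderOf_coe]
  have hpg : IsPGroup p (Subgroup.zpowers g') := by
    rw [IsPGroup.iff_card, Nat.card_zpowers, hord]
    exact ⟨k, rfl⟩
  obtain ⟨Q, hQ⟩ := hpg.exists_le_sylow
  let U' : Sylow p H := U.subtype hUH
  obtain ⟨x, hx⟩ := MulAction.exists_smul_eq H Q U'
  refine ⟨(x : G), x.2, ?_⟩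
  have h1 : g' ∈ (Q : Subgroup H) := hQ (Subgroup.mem_zpowers g')
  have h2 : x * g' * x⁻¹ ∈ ((x • Q : Sylow p H) : Subgroup H) := by
    rw [Sylow.coe_subgroup_smul]
    exact ⟨g', h1, rfl⟩
  rw [hx] at h2
  have h3 : (x * g' * x⁻¹ : H) ∈ (U : Subgroup G).subgroupOf H := h2
  rw [Subgroup.mem_subgroupOf] at h3
  simpa using h3

end Cfsg.Agent.Lib.Helper81_PCount
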