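/-
A standard parabolic subgroup `P_J` of a group with a (B, N)-pair carries a (B, N)-pair of its own, with the
same `B`, with `N_J = ⟨J⟩ (B ∩ N)` and with `J` as its set of distinguished generators.  Its standard
parabolic subgroups are the `P_K`, `K ⊆ J`.
-/
import Mathlib
import Cfsg.Prelude.Def_LieExceptional
import Cfsg.Agent.Lib.Helper6_BNPairC

set_option autoImplicit false
set_option linter.unusedSectionVars false
set_option linter.unusedVariables false

namespace Cfsg.Agent.Lib.Helper81_BNSub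

open Cfsg DoubleCoset Cfsg.Agent.Lib.Helper6_Word Cfsg.Agent.Lib.Helper6_BNPair

variable {G : Type*} [Group G] (P : BNPair G)

/-- `N_J = ⟨J⟩ (B ∩ N)` -/
def NJ (J : Set G) : Subgroup G := Subgroup.closure J ⊔ (P.B ⊓ P.N)

theorem NJ_le_N {J : Set G} (hJ : J ⊆ P.S) : NJ P J ≤ P.N :=
  sup_le (closure_le_N P hJ) inf_le_right

theorem NJ_le_parabolic (J : Set G) : NJ P J ≤ P.parabolic J :=
  sup_le (closure_le_parabolic P J) (inf_le_left.trans (B_le_parabolic P J))

theorem B_inf_NJ {J : Set G} (hJ : J ⊆ P.S) : P.B ⊓ NJ P J = P.B ⊓ P.N := by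
  apply le_antisymm
  · exact le_inf inf_le_left (inf_le_right.trans (NJ_le_N P hJ))
  · exact le_inf inf_le_left le_sup_right

theorem closure_preimage (H : Subgroup G) (X : Set G) (hX : X ⊆ H) :
    Subgroup.closure ((Subtype.val : H → G) ⁻¹' X) = (Subgroup.closure X).subgroupOf H := by
  have e : (H.subtype : H → G) '' ((Subtype.val : H → G) ⁻¹' X) = X := by
    ext g
    constructor
    · rintro ⟨x, hx, rfl⟩
      exact hx
    · intro hg
      exact ⟨⟨g, hX hg⟩, hg, rfl⟩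
  have h := Subgroup.comap_map_eq_self_of_injective H.subtype_injective
    (Subgroup.closure ((Subtype.val : H → G) ⁻¹' X))
  rw [MonoidHom.map_closure, e] at h
  exact h.symm

theorem subgroupOf_inf' (A A' H : Subgroup G) :
    (A ⊓ A').subgroupOf H = A.subgroupOf H ⊓ A'.subgroupOf H :=
  Subgroup.comap_inf _ _ _

/-- the (B, N)-pair of the standard parabolic subgroup `P_J` -/
def subPair (J : Set G) (hJ : J ⊆ P.S) : BNPair ↥(P.parabolic J) where
  B := P.B.subgroupOf (P.parabolic J)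
  N := (NJ P J).subgroupOf (P.parabolic J)
  S := (Subtype.val : ↥(P.parabolic J) → G) ⁻¹' J
  sup_eq_top := by
    rw [← Subgroup.subgroupOf_sup (B_le_parabolic P J) (NJ_le_parabolic P J)]
    rw [Subgroup.subgroupOf_eq_top]
    unfold BNPair.parabolic NJ
    exact sup_le_sup_left le_sup_left _
  conj_mem := by
    rintro ⟨n, hnP⟩ hn ⟨t, htP⟩ ht
    rw [Subgroup.mem_subgroupOf] at hn
    rw [Subgroup.mem_inf, Subgroup.mem_subgroupOf, Subgroup.mem_subgroupOf] at ht
    rw [Subgroup.mem_subgroupOf]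
    exact P.conj_mem n (NJ_le_N P hJ hn) t ⟨ht.1, NJ_le_N P hJ ht.2⟩
  subset := by
    rintro ⟨x, hxP⟩ hx
    show x ∈ NJ P J
    exact Subgroup.mem_sup_left (Subgroup.subset_closure hx)
  sq_mem := by
    rintro ⟨x, hxP⟩ hx
    rw [Subgroup.mem_subgroupOf]
    exact P.sq_mem x (hJ hx)
  inj := by
    rintro ⟨x, hxP⟩ hx ⟨y, hyP⟩ hy h
    rw [Subgroup.mem_subgroupOf] at h
    apply Subtype.ext
    exact P.inj x (hJ hx) y (hJ hy) h
  closure_sup := by
    have hJP : J ⊆ (P.parabolic J : Set G) := fun x hx =>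
      closure_le_parabolic P J (Subgroup.subset_closure hx)
    rw [closure_preimage (P.parabolic J) J hJP, ← subgroupOf_inf', B_inf_NJ P hJ,
      ← Subgroup.subgroupOf_sup (closure_le_parabolic P J) (inf_le_left.trans (B_le_parabolic P J))]
    rfl
  mul_mem_union := by
    rintro ⟨x, hxP⟩ hx ⟨n, hnP⟩ hn ⟨b, hbP⟩ hb
    rw [Subgroup.mem_subgroupOf] at hn hb
    have h := P.mul_mem_union x (hJ hx) n (NJ_le_N P hJ hn) b hb
    rcases h with h | h
    · left
      obtain ⟨b₁, hb₁, b₂, hb₂, e⟩ := (mem_C P).1 h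
      rw [DoubleCoset.mem_doubleCoset]
      refine ⟨⟨b₁, B_le_parabolic P J hb₁⟩, hb₁, ⟨b₂, B_le_parabolic P J hb₂⟩, hb₂, ?_⟩
      apply Subtype.ext
      exact e
    · right
      obtain ⟨b₁, hb₁, b₂, hb₂, e⟩ := (mem_C P).1 h
      rw [DoubleCoset.mem_doubleCoset]
      refine ⟨⟨b₁, B_le_parabolic P J hb₁⟩, hb₁, ⟨b₂, B_le_parabolic P J hb₂⟩, hb₂, ?_⟩
      apply Subtype.ext
      exact e
  conj_ne := by
    rintro ⟨x, hxP⟩ hx heq
    obtain ⟨b, hb, hnot⟩ := Cfsg.Agent.Lib.Helper6_BNPair.exists_not_mem_B P (hJ hx)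
    apply hnot
    have h1 : (⟨x, hxP⟩ * ⟨b, B_le_parabolic P J hb⟩ * ⟨x, hxP⟩ : ↥(P.parabolic J)) ∈
        ((P.B.subgroupOf (P.parabolic J) : Subgroup ↥(P.parabolic J)) : Set ↥(P.parabolic J)) := by
      rw [← heq]
      exact ⟨⟨b, B_le_parabolic P J hb⟩, hb, rfl⟩
    exact h1

variable {J : Set G} (hJ : J ⊆ P.S)

theorem subPair_B : (subPair P J hJ).B = P.B.subgroupOf (P.parabolic J) := rfl

theorem subPair_N : (subPair P J hJ).N = (NJ P J).subgroupOf (P.parabolic J) := rfl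

theorem subPair_S : (subPair P J hJ).S = (Subtype.val : ↥(P.parabolic J) → G) ⁻¹' J := rfl

theorem mem_subPair_B (g : ↥(P.parabolic J)) : g ∈ (subPair P J hJ).B ↔ (g : G) ∈ P.B := Iff.rfl

theorem mem_subPair_N (g : ↥(P.parabolic J)) : g ∈ (subPair P J hJ).N ↔ (g : G) ∈ NJ P J := Iff.rfl

theorem mem_subPair_S (g : ↥(P.parabolic J)) : g ∈ (subPair P J hJ).S ↔ (g : G) ∈ J := Iff.rfl

/-- the standard parabolic subgroups of `P_J` are the `P_K`, `K ⊆ J` -/
theorem subPair_parabolic {K : Set G} (hK : K ⊆ J) :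
    (subPair P J hJ).parabolic ((Subtype.val : ↥(P.parabolic J) → G) ⁻¹' K) =
      (P.parabolic K).subgroupOf (P.parabolic J) := by
  have hKP : K ⊆ (P.parabolic J : Set G) := fun x hx =>
    closure_le_parabolic P J (Subgroup.subset_closure (hK hx))
  have hcl : Subgroup.closure K ≤ P.parabolic J := (Subgroup.closure_le _).2 hKP
  have h1 : (subPair P J hJ).parabolic ((Subtype.val : ↥(P.parabolic J) → G) ⁻¹' K) =
      P.B.subgroupOf (P.parabolic J) ⊔
        Subgroup.closure ((Subtype.val : ↥(P.parabolic J) → G) ⁻¹' K) := rfl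
  have h2 : P.parabolic K = P.B ⊔ Subgroup.closure K := rfl
  rw [h1, h2, closure_preimage _ K hKP]
  exact (Subgroup.subgroupOf_sup (B_le_parabolic P J) hcl).symm

/-- `N_J → N` -/
def toNP : (subPair P J hJ).N →* P.N where
  toFun n := ⟨((n : ↥(P.parabolic J)) : G), NJ_le_N P hJ n.2⟩
  map_one' := rfl
  map_mul' _ _ := rfl

theorem toNP_coe (n : (subPair P J hJ).N) : ((toNP P hJ n : P.N) : G) = ((n : ↥(P.parabolic J)) : G) := rfl

theorem toNP_mem_parabolic (n : (subPair P J hJ).N) : ((toNP P hJ n : P.N) : G) ∈ P.parabolic J :=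
  (n : ↥(P.parabolic J)).2

/-- double cosets of `B` in `P_J` -/
theorem mem_C_subPair (g h : ↥(P.parabolic J)) :
    g ∈ C (subPair P J hJ) h ↔ (g : G) ∈ C P (h : G) := by
  rw [mem_C, mem_C]
  constructor
  · rintro ⟨x, hx, y, hy, e⟩
    exact ⟨x, hx, y, hy, by rw [e]; rfl⟩
  · rintro ⟨x, hx, y, hy, e⟩
    exact ⟨⟨x, B_le_parabolic P J hx⟩, hx, ⟨y, B_le_parabolic P J hy⟩, hy, Subtype.ext e⟩

theorem isSimple_toNP {σ : (subPair P J hJ).N} (hσ : ((σ : ↥(P.parabolic J)) : G) ∈ J) :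
    IsSimple P (toNP P hJ σ) :=
  isSimple_of_mem P (hJ hσ)

/-- a descent in `W_J` is a descent in `W` -/
theorem ℓ_toNP_lt {σ n : (subPair P J hJ).N} (hσ : ((σ : ↥(P.parabolic J)) : G) ∈ J)
    (hle : ℓ (subPair P J hJ) (σ * n) ≤ ℓ (subPair P J hJ) n) :
    ℓ P (toNP P hJ σ * toNP P hJ n) < ℓ P (toNP P hJ n) := by
  have hσ' : IsSimple (subPair P J hJ) σ := isSimple_of_mem (subPair P J hJ) hσ
  have hσP : IsSimple P (toNP P hJ σ) := isSimple_toNP P hJ hσ
  obtain ⟨b, hb, h1⟩ := exists_simple_mul_mem_of_le (subPair P J hJ) hσ' hle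
  rw [mem_C_subPair] at h1
  by_contra hcon
  push Not at hcon
  have h2 := simple_mul_mem_of_le P hσP hcon (b := (b : G)) hb
  have h3 : C P (((toNP P hJ σ * toNP P hJ n : P.N)) : G) = C P ((toNP P hJ n : P.N) : G) :=
    C_eq_of_mem_of_mem P h2 h1
  have h4 := (C_eq_iff P).1 h3
  rw [map_mul, mul_eq_right] at h4
  exact one_not_mem_SW P (h4 ▸ hσP)

/-! ### The distinguished generators of the sub-pair, indexed as those of the pair -/

section gens

variable {ι : Type*} (s : ι → G)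

open Classical in
/-- the distinguished generators, as elements of `P_J` -/
noncomputable def sSub (J : Finset ι) (i : ι) : ↥(P.parabolic (s '' (J : Set ι))) :=
  if h : s i ∈ P.parabolic (s '' (J : Set ι)) then ⟨s i, h⟩ else 1

theorem mem_parabolic_of_mem (J : Finset ι) {i : ι} (hi : i ∈ J) :
    s i ∈ P.parabolic (s '' (J : Set ι)) :=
  closure_le_parabolic P _ (Subgroup.subset_closure ⟨i, hi, rfl⟩)

theorem sSub_coe (J : Finset ι) {i : ι} (hi : i ∈ J) :
    ((sSub P s J i : ↥(P.parabolic (s '' (J : Set ι)))) : G) = s i := by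
  unfold sSub
  rw [dif_pos (mem_parabolic_of_mem P s J hi)]

theorem sSub_image_sub (J : Finset ι) {K : Finset ι} (hK : K ⊆ J) :
    sSub P s J '' (K : Set ι) =
      (Subtype.val : ↥(P.parabolic (s '' (J : Set ι))) → G) ⁻¹' (s '' (K : Set ι)) := by
  ext x
  constructor
  · rintro ⟨i, hi, rfl⟩
    exact ⟨i, hi, (sSub_coe P s J (hK hi)).symm⟩
  · rintro ⟨i, hi, e⟩
    refine ⟨i, hi, ?_⟩
    apply Subtype.ext
    rw [sSub_coe P s J (hK hi), e]

theorem sSub_image (J : Finset ι) (hJ : s '' (J : Set ι) ⊆ P.S) :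
    sSub P s J '' (J : Set ι) = (subPair P (s '' (J : Set ι)) hJ).S :=
  sSub_image_sub P s J (Finset.Subset.refl J)

end gens

end Cfsg.Agent.Lib.Helper81_BNSub
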