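/-
Chevalley groups of type G₂, B₂, D₄, F₄, E₆, E₇, E₈ over a finite field: the restriction of the Steinberg
character to `B = UH` is the permutation character of `B` on the cosets of `H`.
-/
import Mathlib
import Cfsg.Prelude.Def_ParabolicCharacters
import Cfsg.Agent.Lib.Helper81_ChevSt
import Cfsg.Agent.Lib.Helper81_ChevLenBN
import Cfsg.Agent.Lib.Helper81_BNBorel

set_option autoImplicit false
set_option linter.unusedSectionVars false
set_option linter.unusedVariables false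

namespace Cfsg.Agent.Lib.Helper81_ChevBorel

open Cfsg Cfsg.Lie Cfsg.Agent.Lib.Helper18_ChevFast Cfsg.Agent.Lib.Helper18_ChevEngine
  Cfsg.Agent.Lib.Helper18_ChevR1 Cfsg.Agent.Lib.Helper18_ChevN Cfsg.Agent.Lib.Helper18_ChevR4
  Cfsg.Agent.Lib.Helper18_ChevSimple Cfsg.Agent.Lib.Helper18_ChevSimple2 Cfsg.Agent.Lib.Helper18_ChevFacts
  Cfsg.Agent.Lib.Helper18_ChevWeyl Cfsg.Agent.Lib.Helper18_ChevDiag Cfsg.Agent.Lib.Helper18_ChevCar
  Cfsg.Agent.Lib.Helper18_ChevTorus Cfsg.Agent.Lib.Helper18_ChevGL Cfsg.Agent.Lib.Helper18_ChevComm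
  Cfsg.Agent.Lib.Helper18_ChevComm2 Cfsg.Agent.Lib.Helper18_MatTri Cfsg.Agent.Lib.Helper18_ChevTri
  Cfsg.Agent.Lib.Helper18_ChevBorel Cfsg.Agent.Lib.Helper18_ChevAdd Cfsg.Agent.Lib.Helper18_ChevUni
  Cfsg.Agent.Lib.Helper18_ChevBN Cfsg.Agent.Lib.Helper18_ChevMono Cfsg.Agent.Lib.Helper18_ChevBNPair
  Cfsg.Agent.Lib.Helper18_ChevSimp Cfsg.Agent.Lib.Helper18_ChevJCerts Cfsg.Agent.Lib.Helper18_ChevLevi
  Cfsg.Agent.Lib.Helper18_ChevBruhat Cfsg.Agent.Lib.Helper18_ChevPar Cfsg.Agent.Lib.Helper18_ChevRootHom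
  Cfsg.Agent.Lib.Helper18_ChevOrder Cfsg.Agent.Lib.Helper18_ChevSylow
  Cfsg.Agent.Lib.Helper6_Word Cfsg.Agent.Lib.Helper6_BNPair Cfsg.Agent.Lib.Helper81_CoxComb
  Cfsg.Agent.Lib.Helper81_ChevLen Cfsg.Agent.Lib.Helper81_ChevLenBN Cfsg.Agent.Lib.Helper81_BNSteinberg
  Cfsg.Agent.Lib.Helper81_BNIndex Cfsg.Agent.Lib.Helper81_BNBorel Cfsg.Agent.Lib.Helper81_ChevSt

/-! ### A general lemma on coset spaces -/

/-- `B / (B ∩ n B n⁻¹) ≅ B n B / B` as `B`-sets, on the level of fixed points. -/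
theorem card_fixedBy_big_cell {G : Type*} [Group G] (B B' H : Subgroup G)
    (hBB' : ∀ x, x ∈ B' ↔ x ∈ B) (n : G)
    (hH : ∀ x ∈ B, (x ∈ H ↔ n⁻¹ * x * n ∈ B)) (b : B') :
    Nat.card (MulAction.fixedBy (B' ⧸ H.subgroupOf B') b) =
      Nat.card {y : MulAction.fixedBy (G ⧸ B) (b : G) //
        ∃ x ∈ B, (y : G ⧸ B) = ((x * n : G) : G ⧸ B)} := by
  let θ : B' ⧸ H.subgroupOf B' → G ⧸ B := Quotient.map' (fun x : B' => (x : G) * n) (by
    intro x x' h
    rw [QuotientGroup.leftRel_apply] at h ⊢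
    rw [Subgroup.mem_subgroupOf] at h
    have hB : ((x⁻¹ * x' : B') : G) ∈ B := (hBB' _).1 (x⁻¹ * x').2
    have := (hH _ hB).1 h
    have e : ((x : G) * n)⁻¹ * ((x' : G) * n) = n⁻¹ * ((x⁻¹ * x' : B') : G) * n := by
      push_cast
      group
    rw [e]
    exact this)
  have hθmk : ∀ x : B', θ (QuotientGroup.mk x) = (((x : G) * n : G) : G ⧸ B) := fun x => rfl
  have hθinj : Function.Injective θ := by
    intro z z' e
    induction z using QuotientGroup.induction_on with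
    | H x =>
      induction z' using QuotientGroup.induction_on with
      | H x' =>
        rw [hθmk, hθmk, QuotientGroup.eq] at e
        rw [QuotientGroup.eq, Subgroup.mem_subgroupOf]
        have hB : ((x⁻¹ * x' : B') : G) ∈ B := (hBB' _).1 (x⁻¹ * x').2
        apply (hH _ hB).2
        have e' : ((x : G) * n)⁻¹ * ((x' : G) * n) = n⁻¹ * ((x⁻¹ * x' : B') : G) * n := by
          push_cast
          group
        rw [← e']
        exact e
  have hθsmul : ∀ z : B' ⧸ H.subgroupOf B', θ (b • z) = (b : G) • θ z := by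
    intro z
    induction z using QuotientGroup.induction_on with
    | H x =>
      show θ (QuotientGroup.mk (b * x)) = (b : G) • θ (QuotientGroup.mk x)
      rw [hθmk, hθmk]
      show _ = ((((b : G) * ((x : G) * n) : G)) : G ⧸ B)
      push_cast
      rw [mul_assoc]
  let Θ : MulAction.fixedBy (B' ⧸ H.subgroupOf B') b →
      {y : MulAction.fixedBy (G ⧸ B) (b : G) // ∃ x ∈ B, (y : G ⧸ B) = ((x * n : G) : G ⧸ B)} :=
    fun z => ⟨⟨θ z.1, by
      rw [MulAction.mem_fixedBy, ← hθsmul, z.2]⟩, by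
      obtain ⟨z, hz⟩ := z
      induction z using QuotientGroup.induction_on with
      | H x => exact ⟨x, (hBB' _).1 x.2, hθmk x⟩⟩
  have hΘ : Function.Bijective Θ := by
    constructor
    · intro z z' e
      have : θ z.1 = θ z'.1 := congrArg (fun y => ((y.1 : MulAction.fixedBy (G ⧸ B) (b : G)) : G ⧸ B)) e
      exact Subtype.ext (hθinj this)
    · rintro ⟨⟨y, hy⟩, x, hx, hyx⟩
      simp only at hyx
      have hz : b • (QuotientGroup.mk ⟨x, (hBB' _).2 hx⟩ : B' ⧸ H.subgroupOf B') =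
          QuotientGroup.mk ⟨x, (hBB' _).2 hx⟩ := by
        apply hθinj
        rw [hθsmul, hθmk]
        show (b : G) • (((x * n : G)) : G ⧸ B) = _
        rw [← hyx]
        exact hy
      refine ⟨⟨QuotientGroup.mk ⟨x, (hBB' _).2 hx⟩, hz⟩, ?_⟩
      apply Subtype.ext
      apply Subtype.ext
      show θ (QuotientGroup.mk ⟨x, (hBB' _).2 hx⟩) = y
      rw [hθmk, hyx]
  exact Nat.card_congr (Equiv.ofBijective Θ hΘ)

variable {D : ChevalleyDatum} {Ns : List NData} {F : Type*} [Field F]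
variable {wl : List ℤ} {ws : List (List ℤ)} {sc : ℤ} {w : List ℤ} {d : ℕ}

/-- An element acting on the root subgroups by a map that makes the positive roots negative conjugates `U`
into `V`. -/
theorem conj_neg_of_actsAs (c : DCert D Ns) {g : GL D.Idx F} {π : ℕ → ℕ} (h : ActsAs c g π)
    (hneg : ∀ r, D.IsPosRoot r → D.IsNegRoot (π r)) (u : GL D.Idx F) (hu : u ∈ D.posUnipotent F) :
    g * u * g⁻¹ ∈ D.negUnipotent F := by
  apply conj_closure_le g _ (D.negUnipotent F) _ u hu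
  rintro s ⟨r, t, hr, hs⟩
  rw [eq_xGL c hs]
  obtain ⟨-, a, -, ha⟩ := h r hr.1
  rw [ha t]
  exact Subgroup.subset_closure ⟨_, _, hneg r hr, rfl⟩

section bn

variable (P : Cfsg.BNPair ↥(D.group F))
  (hB : P.B = (D.borelSubgroup F).subgroupOf (D.group F))
  (hN : P.N = (D.monomialSubgroup F).subgroupOf (D.group F))
  (hS : P.S = {n : ↥(D.group F) | ∃ i < D.rank,
        ((n : GL D.Idx F) : Matrix D.Idx D.Idx F) = D.nMat F (D.simple i) 1})

include hB hN hS in
/-- a representative of the longest element makes all positive roots negative -/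
theorem all_neg_of_full_descent (c : DCert D Ns) (tc : TCert D) (ac : ACert D wl ws sc) (gc : GCert D w d)
    (hdesc : Descent D) (hR2 : R2All D F) (n₀ : P.N)
    (hw₀ : ∀ x ∈ SW P, len (SW P) (x * π P n₀) ≤ len (SW P) (π P n₀)) :
    ∀ r, D.IsPosRoot r → D.IsNegRoot (piOf c tc (toN P hN n₀) r) := by
  have hℓ : ∀ m : P.N, len (SW P) (π P m) = lamP P hN c tc ac m := fun m =>
    (lamP_eq_ℓ P hB hN hS c tc ac gc hdesc hR2 m).symm
  have hlin := piOf_linMap c tc (toN P hN n₀)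
  have hall : ∀ i < D.rank, D.IsNegRoot (piOf c tc (toN P hN n₀) (D.simple i)) := by
    intro i hi
    rcases ac.posOrNeg _ (hlin.1 _ (tc.simple_pos i hi).1) with hp | hn
    · exfalso
      have h1 := lam_lt_of_pos c tc ac (toN P hN n₀) i hi hp
      have e : toN P hN n₀ * sN c i hi = toN P hN (n₀ * sP P hN c i hi) := by
        rw [map_mul, toN_sP]
      rw [e] at h1
      have h2 : lamP P hN c tc ac n₀ < lamP P hN c tc ac (n₀ * sP P hN c i hi) := h1
      rw [← hℓ, ← hℓ, map_mul] at h2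
      have h3 := full_descent_right (invGen P) (exchange P) hw₀ (π P (sP P hN c i hi))
        ⟨sP P hN c i hi, sP_mem_S P hN hS c i hi, rfl⟩
      omega
    · exact hn
  exact LinMap.neg_of_simple c tc ac hdesc hlin hall

include hB hN hS in
/-- `B ∩ n₀ B n₀⁻¹ = H` for a representative `n₀` of the longest element -/
theorem mem_diagonal_iff (c : DCert D Ns) (tc : TCert D) (ac : ACert D wl ws sc) (gc : GCert D w d)
    (hdesc : Descent D) (hR2 : R2All D F) (n₀ : P.N)
    (hw₀ : ∀ x ∈ SW P, len (SW P) (x * π P n₀) ≤ len (SW P) (π P n₀))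
    (x : GL D.Idx F) (hx : x ∈ D.borelSubgroup F) :
    x ∈ D.diagonalSubgroup F ↔
      ((n₀ : ↥(D.group F)) : GL D.Idx F)⁻¹ * x * ((n₀ : ↥(D.group F)) : GL D.Idx F) ∈
        D.borelSubgroup F := by
  have hn₀ : ((n₀ : ↥(D.group F)) : GL D.Idx F) ∈ D.monomialSubgroup F := (toN P hN n₀).2
  have hn₀' : ((n₀ : ↥(D.group F)) : GL D.Idx F)⁻¹ ∈ D.monomialSubgroup F := Subgroup.inv_mem _ hn₀
  have hnorm : ∀ h ∈ D.diagonalSubgroup F,
      ((n₀ : ↥(D.group F)) : GL D.Idx F)⁻¹ * h * ((n₀ : ↥(D.group F)) : GL D.Idx F) ∈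
        D.diagonalSubgroup F := by
    intro h hh
    have := (Subgroup.mem_normalizer_iff.mp (monomial_le_normalizer_diagonal c tc hn₀') h).mp hh
    rwa [inv_inv] at this
  constructor
  · intro hxH
    exact Subgroup.mem_sup_right (hnorm x hxH)
  · intro hconj
    obtain ⟨u, hu, h, hh, rfl⟩ := exists_mul_of_mem_sup _ _ (diagonal_le_normalizer_pos c tc) hx
    -- `n₀⁻¹` also represents the longest element
    have hinv : π P n₀⁻¹ = π P n₀ := by
      rw [map_inv]
      exact full_descent_inv (invGen P) (exchange P) hw₀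
    have hw₀' : ∀ y ∈ SW P, len (SW P) (y * π P n₀⁻¹) ≤ len (SW P) (π P n₀⁻¹) := by
      rw [hinv]
      exact hw₀
    have hneg := all_neg_of_full_descent P hB hN hS c tc ac gc hdesc hR2 n₀⁻¹ hw₀'
    have hact := piOf_actsAs c tc (toN P hN n₀⁻¹)
    have e0 : ((toN P hN n₀⁻¹ : ↥(D.monomialSubgroup F)) : GL D.Idx F) =
        ((n₀ : ↥(D.group F)) : GL D.Idx F)⁻¹ := by
      rw [map_inv]
      rfl
    rw [e0] at hact
    have hV := conj_neg_of_actsAs c hact hneg u hu
    rw [inv_inv] at hV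
    have hBu : ((n₀ : ↥(D.group F)) : GL D.Idx F)⁻¹ * u * ((n₀ : ↥(D.group F)) : GL D.Idx F) ∈
        D.borelSubgroup F := by
      have e : ((n₀ : ↥(D.group F)) : GL D.Idx F)⁻¹ * u * ((n₀ : ↥(D.group F)) : GL D.Idx F) =
          (((n₀ : ↥(D.group F)) : GL D.Idx F)⁻¹ * (u * h) * ((n₀ : ↥(D.group F)) : GL D.Idx F)) *
          (((n₀ : ↥(D.group F)) : GL D.Idx F)⁻¹ * h * ((n₀ : ↥(D.group F)) : GL D.Idx F))⁻¹ := by
        group
      rw [e]
      exact Subgroup.mul_mem _ hconj (Subgroup.inv_mem _ (Subgroup.mem_sup_right (hnorm h hh)))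
    have h1 : ((n₀ : ↥(D.group F)) : GL D.Idx F)⁻¹ * u * ((n₀ : ↥(D.group F)) : GL D.Idx F) ∈
        D.borelSubgroup F ⊓ D.negUnipotent F := Subgroup.mem_inf.mpr ⟨hBu, hV⟩
    rw [borel_inf_neg c tc gc, Subgroup.mem_bot] at h1
    have hu1 : u = 1 := by
      have : u = ((n₀ : ↥(D.group F)) : GL D.Idx F) *
          (((n₀ : ↥(D.group F)) : GL D.Idx F)⁻¹ * u * ((n₀ : ↥(D.group F)) : GL D.Idx F)) *
          ((n₀ : ↥(D.group F)) : GL D.Idx F)⁻¹ := by group
      rw [this, h1]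
      group
    rw [hu1, one_mul]
    exact hh

end bn

/-- the restriction of the Steinberg character to `B` -/
theorem steinberg_restrict_borel [Fintype F] (D : ChevalleyDatum)
    (hD : D ∈ [chevG2, chevB2, chevD4, chevF4, chevE6, chevE7, chevE8])
    (b : ↥((D.borelSubgroup F).subgroupOf (D.group F))) :
    D.steinbergCharacter F ((((D.borelSubgroup F).subgroupOf (D.group F)).subtype) b) =
      Cfsg.fixedPointCharacter (((D.diagonalSubgroup F).subgroupOf (D.group F)).subgroupOf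
        ((D.borelSubgroup F).subgroupOf (D.group F))) b := by
  classical
  obtain ⟨Ns, w, d, Ts, hT, K, base, stepT, wl, ws, sc, c, tc, gc, pc, ac⟩ :=
    Cfsg.Agent.Lib.Helper18_ChevData5.exists_cert5 D hD
  have hR2 : R2All D F := r2_all c pc
  have hdesc := descent_all D hD
  obtain ⟨P, hB, hN, hS⟩ := exists_bnPair c tc ac gc hR2
  have : Fintype ↥(D.group F) := Fintype.ofFinite _
  obtain ⟨w₀, hw₀⟩ := exists_full_descent (invGen P)
  obtain ⟨n₀, rfl⟩ := π_surjective P w₀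
  have hbB : (b : ↥(D.group F)) ∈ P.B := by
    rw [hB]
    exact b.2
  rw [steinberg_eq c P hB]
  show St P (Finset.range D.rank) (sG c) (b : ↥(D.group F)) = _
  rw [St_apply_of_mem_B P _ _ (sG_image c P hS) hbB hw₀]
  unfold Cfsg.fixedPointCharacter fixCell
  congr 1
  rw [card_fixedBy_big_cell P.B ((D.borelSubgroup F).subgroupOf (D.group F))
    ((D.diagonalSubgroup F).subgroupOf (D.group F)) (fun x => by rw [hB]) (n₀ : ↥(D.group F)) ?_ b]
  · apply Nat.card_congr
    apply Equiv.subtypeEquivRight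
    intro y
    obtain ⟨y, hy⟩ := y
    induction y using QuotientGroup.induction_on with
    | H g =>
      show cellB P ((g : ↥(D.group F)) : ↥(D.group F) ⧸ P.B) = π P n₀ ↔ _
      rw [cellB_mk]
      constructor
      · intro hc
        have hgC := mem_C_of_cell_eq P hc
        obtain ⟨b₁, hb₁, b₂, hb₂, rfl⟩ := (mem_C P).1 hgC
        refine ⟨b₁, hb₁, ?_⟩
        show ((b₁ * (n₀ : ↥(D.group F)) * b₂ : ↥(D.group F)) : ↥(D.group F) ⧸ P.B) = _
        rw [QuotientGroup.eq]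
        have e : (b₁ * (n₀ : ↥(D.group F)) * b₂)⁻¹ * (b₁ * (n₀ : ↥(D.group F))) = b₂⁻¹ := by group
        rw [e]
        exact P.B.inv_mem hb₂
      · rintro ⟨x, hx, hxy⟩
        have hxy' : ((g : ↥(D.group F)) : ↥(D.group F) ⧸ P.B) =
            ((x * (n₀ : ↥(D.group F)) : ↥(D.group F)) : ↥(D.group F) ⧸ P.B) := hxy
        rw [QuotientGroup.eq] at hxy'
        have hgC : g ∈ C P ((n₀ : P.N) : ↥(D.group F)) := by
          refine (mem_C P).2 ⟨x, hx, (g⁻¹ * (x * (n₀ : ↥(D.group F))))⁻¹, P.B.inv_mem hxy', ?_⟩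
          group
        exact cell_eq P hgC
  · intro x hx
    rw [mem_B_iff P hB] at hx
    rw [Subgroup.mem_subgroupOf, mem_B_iff P hB]
    have := mem_diagonal_iff P hB hN hS c tc ac gc hdesc hR2 n₀ hw₀ (x : GL D.Idx F) hx
    rw [this]
    push_cast
    rfl

end Cfsg.Agent.Lib.Helper81_ChevBorel
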