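import Mathlib
import Cfsg.Prelude.Def_ParabolicCharacters
import Cfsg.Agent.Lib.Helper81_BNSub
import Cfsg.Agent.Lib.Helper81_BNBorel
import Cfsg.Agent.Lib.Helper48_PC_CELL

set_option autoImplicit false
set_option linter.unusedSectionVars false
set_option linter.unusedVariables false

/-!
# S2314 package PK-STU (helper8 for helper81): the Steinberg function of the sub-(B, N)-pair of `P_J` on `U`.
-/

namespace Cfsg.Agent.Lib.Helper8_PC_STU

open Cfsg DoubleCoset Cfsg.Agent.Lib.Helper6_Word Cfsg.Agent.Lib.Helper6_BNPair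
  Cfsg.Agent.Lib.Helper81_CoxComb Cfsg.Agent.Lib.Helper81_CoxPoincare
  Cfsg.Agent.Lib.Helper81_BNSteinberg Cfsg.Agent.Lib.Helper81_BNIndex
  Cfsg.Agent.Lib.Helper81_BNBorel Cfsg.Agent.Lib.Helper81_BNSub

/-- the cell of `π n` is `{x n B : x ∈ B}` (the statement of PK-FIXC, proved here to unblock PK-STU) -/
theorem fixCell_eq' {G : Type*} [Group G] (P : BNPair G) (b : G) (n : P.N) :
    fixCell P b (π P n) = Nat.card {y : MulAction.fixedBy (G ⧸ P.B) b //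
        ∃ x ∈ P.B, (y : G ⧸ P.B) = ((x * (n : G) : G) : G ⧸ P.B)} := by
  unfold fixCell
  apply Nat.card_congr
  apply Equiv.subtypeEquivRight
  intro y
  obtain ⟨y, hy⟩ := y
  induction y using QuotientGroup.induction_on with
  | H g =>
    show cellB P ((g : G) : G ⧸ P.B) = π P n ↔ _
    rw [cellB_mk]
    constructor
    · intro hc
      have hgC := mem_C_of_cell_eq P hc
      obtain ⟨b₁, hb₁, b₂, hb₂, rfl⟩ := (mem_C P).1 hgC
      refine ⟨b₁, hb₁, ?_⟩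
      show ((b₁ * (n : G) * b₂ : G) : G ⧸ P.B) = _
      rw [QuotientGroup.eq]
      have e : (b₁ * (n : G) * b₂)⁻¹ * (b₁ * (n : G)) = b₂⁻¹ := by group
      rw [e]
      exact P.B.inv_mem hb₂
    · rintro ⟨x, hx, hxy⟩
      have hxy' : ((g : G) : G ⧸ P.B) = ((x * (n : G) : G) : G ⧸ P.B) := hxy
      rw [QuotientGroup.eq] at hxy'
      have hgC : g ∈ C P ((n : P.N) : G) := by
        refine (mem_C P).2 ⟨x, hx, (g⁻¹ * (x * (n : G)))⁻¹, P.B.inv_mem hxy', ?_⟩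
        group
      exact cell_eq P hgC

end Cfsg.Agent.Lib.Helper8_PC_STU

namespace Cfsg.Agent.Lib.Helper81_PCount

open Cfsg DoubleCoset Cfsg.Agent.Lib.Helper6_Word Cfsg.Agent.Lib.Helper6_BNPair
  Cfsg.Agent.Lib.Helper81_CoxComb Cfsg.Agent.Lib.Helper81_CoxPoincare
  Cfsg.Agent.Lib.Helper81_BNSteinberg Cfsg.Agent.Lib.Helper81_BNIndex
  Cfsg.Agent.Lib.Helper81_BNBorel Cfsg.Agent.Lib.Helper81_BNSub

section main

variable {G : Type*} [Group G] [Fintype G] (P : BNPair G) (p : ℕ) [Fact p.Prime]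
  {ι : Type*} [DecidableEq ι] (s : ι → G)

open Classical in
theorem card_mul_St_subPair (J : Finset ι) (hJ : s '' (J : Set ι) ⊆ P.S)
    [Fintype ↥(P.parabolic (s '' (J : Set ι)))]
    (U : Sylow p G) (hUB : (U : Subgroup G) ≤ P.B)
    (hBU : ∀ b ∈ P.B, ∃ u ∈ (U : Subgroup G), ∃ t ∈ P.B ⊓ P.N, b = u * t)
    (K : Subgroup G) (hKU : K ≤ U)
    (hKn : ∀ g ∈ P.parabolic (s '' (J : Set ι)), ∀ k ∈ K, g * k * g⁻¹ ∈ K)
    (hK : ∀ n : P.N, (n : G) ∈ P.parabolic (s '' (J : Set ι)) →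
        (∀ σ : P.N, (σ : G) ∈ s '' (J : Set ι) → ℓ P (σ * n) < ℓ P n) →
        ∀ u ∈ (U : Subgroup G), (u ∈ K ↔ (n : G)⁻¹ * u * n ∈ P.B))
    (u : ↥(P.parabolic (s '' (J : Set ι)))) (hu : (u : G) ∈ (U : Subgroup G)) :
    (Nat.card K : ℂ) * St (subPair P (s '' (J : Set ι)) hJ) J (sSub P s J) u =
      if (u : G) ∈ K then (Nat.card (U : Subgroup G) : ℂ) else 0 := by
  have hBP : P.B ≤ P.parabolic (s '' (J : Set ι)) := B_le_parabolic P _
  have huB : u ∈ (subPair P (s '' (J : Set ι)) hJ).B := hUB hu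
  have : Finite (W (subPair P (s '' (J : Set ι)) hJ)) := inferInstance
  obtain ⟨w₀, hw₀⟩ := exists_full_descent (invGen (subPair P (s '' (J : Set ι)) hJ))
  obtain ⟨n₀, rfl⟩ := π_surjective (subPair P (s '' (J : Set ι)) hJ) w₀
  rw [St_apply_of_mem_B (subPair P (s '' (J : Set ι)) hJ) J (sSub P s J) (sSub_image P s J hJ) huB hw₀,
    Cfsg.Agent.Lib.Helper8_PC_STU.fixCell_eq' (subPair P (s '' (J : Set ι)) hJ) u n₀]
  -- the descent condition for `n₀`
  have hdesc : ∀ σ : P.N, (σ : G) ∈ s '' (J : Set ι) →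
      ℓ P (σ * toNP P hJ n₀) < ℓ P (toNP P hJ n₀) := by
    intro σ hσ
    have hσP : (σ : G) ∈ P.parabolic (s '' (J : Set ι)) :=
      closure_le_parabolic P _ (Subgroup.subset_closure hσ)
    have hσN : (⟨(σ : G), hσP⟩ : ↥(P.parabolic (s '' (J : Set ι)))) ∈
        (subPair P (s '' (J : Set ι)) hJ).N :=
      (subPair P (s '' (J : Set ι)) hJ).subset hσ
    have hle : ℓ (subPair P (s '' (J : Set ι)) hJ) (⟨⟨(σ : G), hσP⟩, hσN⟩ * n₀) ≤
        ℓ (subPair P (s '' (J : Set ι)) hJ) n₀ := by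
      unfold ℓ
      rw [map_mul]
      exact hw₀ _ ⟨⟨⟨(σ : G), hσP⟩, hσN⟩, hσ, rfl⟩
    have h1 := ℓ_toNP_lt P hJ (σ := ⟨⟨(σ : G), hσP⟩, hσN⟩) (n := n₀) hσ hle
    have e : toNP P hJ ⟨⟨(σ : G), hσP⟩, hσN⟩ = σ := Subtype.ext rfl
    rwa [e] at h1
  have hK₀ := hK (toNP P hJ n₀) (toNP_mem_parabolic P hJ n₀) hdesc
  -- the cell count in the group `P_J`
  have hcell := card_fixedBy_cell (G := ↥(P.parabolic (s '' (J : Set ι))))
    (subPair P (s '' (J : Set ι)) hJ).B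
    ((U : Subgroup G).subgroupOf (P.parabolic (s '' (J : Set ι))))
    (K.subgroupOf (P.parabolic (s '' (J : Set ι))))
    (fun x hx => hUB hx) (fun x hx => hKU hx) (n₀ : ↥(P.parabolic (s '' (J : Set ι))))
    ?_ ?_ ?_ u hu
  · have hcK : Nat.card (K.subgroupOf (P.parabolic (s '' (J : Set ι)))) = Nat.card K :=
      Nat.card_congr (Subgroup.subgroupOfEquivOfLe ((hKU.trans hUB).trans hBP)).toEquiv
    have hcU : Nat.card ((U : Subgroup G).subgroupOf (P.parabolic (s '' (J : Set ι)))) =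
        Nat.card (U : Subgroup G) :=
      Nat.card_congr (Subgroup.subgroupOfEquivOfLe (hUB.trans hBP)).toEquiv
    rw [hcK, hcU] at hcell
    have hcell' := congrArg (fun m : ℕ => (m : ℂ)) hcell
    simp only [Nat.cast_mul, Nat.cast_ite, Nat.cast_zero] at hcell'
    rw [hcell']
    rfl
  · -- `B n₀ B / B = U n₀ B / B`
    intro b hb
    obtain ⟨u', hu', t, ht, hbt⟩ := hBU (b : G) hb
    have hu'P : u' ∈ P.parabolic (s '' (J : Set ι)) := hBP (hUB hu')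
    refine ⟨⟨u', hu'P⟩, hu', ?_⟩
    rw [QuotientGroup.eq]
    show ((b * (n₀ : ↥(P.parabolic (s '' (J : Set ι)))))⁻¹ *
      (⟨u', hu'P⟩ * (n₀ : ↥(P.parabolic (s '' (J : Set ι))))) : ↥(P.parabolic (s '' (J : Set ι)))) ∈
      (subPair P (s '' (J : Set ι)) hJ).B
    rw [mem_subPair_B]
    have hn₀N : (((n₀ : ↥(P.parabolic (s '' (J : Set ι)))) : G)) ∈ P.N := NJ_le_N P hJ n₀.2
    have e : (((b * (n₀ : ↥(P.parabolic (s '' (J : Set ι)))))⁻¹ *
        (⟨u', hu'P⟩ * (n₀ : ↥(P.parabolic (s '' (J : Set ι))))) :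
          ↥(P.parabolic (s '' (J : Set ι)))) : G) =
        (((n₀ : ↥(P.parabolic (s '' (J : Set ι)))) : G))⁻¹ * t⁻¹ *
          (((n₀ : ↥(P.parabolic (s '' (J : Set ι)))) : G))⁻¹⁻¹ := by
      simp only [Subgroup.coe_mul, Subgroup.coe_inv]
      rw [hbt]
      group
    rw [e]
    exact P.conj_mem _ (P.N.inv_mem hn₀N) _ ((P.B ⊓ P.N).inv_mem ht)
  · intro x hx
    exact hK₀ (x : G) hx
  · intro x hx k hk
    exact hKn (x : G) x.2 (k : G) hk

end main

end Cfsg.Agent.Lib.Helper81_PCount
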