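import Mathlib
import Cfsg.Prelude.Def_ParabolicCharacters
import Cfsg.Agent.Lib.Helper81_BNSub
import Cfsg.Agent.Lib.Helper81_BNBorel
import Cfsg.Agent.Lib.Helper81_ChevBorel
import Cfsg.Agent.Lib.Helper81_ChevStDeg
import Cfsg.Agent.Lib.Helper18_ChevLevi
import Cfsg.Agent.Lib.Helper79_PC_SYL
import Cfsg.Agent.Lib.Helper8_PC_STU

set_option autoImplicit false
set_option linter.unusedSectionVars false
set_option linter.unusedVariables false

namespace Cfsg.Agent.Lib.Helper57_PC_STSUM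

open Cfsg

/-- the permutation character is a class function -/
theorem fpc_conj' {G : Type*} [Group G] (H : Subgroup G) (x g : G) :
    Cfsg.fixedPointCharacter H (x * g * x⁻¹) = Cfsg.fixedPointCharacter H g := by
  unfold Cfsg.fixedPointCharacter
  congr 1
  apply Nat.card_congr
  refine ⟨fun y => ⟨x⁻¹ • y.1, ?_⟩, fun z => ⟨x • z.1, ?_⟩, ?_, ?_⟩
  · have hy : (x * g * x⁻¹) • y.1 = y.1 := y.2
    show g • x⁻¹ • y.1 = x⁻¹ • y.1
    rw [← mul_smul]
    have : g * x⁻¹ = x⁻¹ * (x * g * x⁻¹) := by group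
    rw [this, mul_smul, hy]
  · have hz : g • z.1 = z.1 := z.2
    show (x * g * x⁻¹) • x • z.1 = x • z.1
    rw [← mul_smul]
    have : x * g * x⁻¹ * x = x * g := by group
    rw [this, mul_smul, hz]
  · intro y
    apply Subtype.ext
    show x • x⁻¹ • y.1 = y.1
    rw [smul_inv_smul]
  · intro z
    apply Subtype.ext
    show x⁻¹ • x • z.1 = z.1
    rw [inv_smul_smul]

end Cfsg.Agent.Lib.Helper57_PC_STSUM

namespace Cfsg.Agent.Lib.Helper81_PCount

open Cfsg DoubleCoset Cfsg.Agent.Lib.Helper6_Word Cfsg.Agent.Lib.Helper6_BNPair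
  Cfsg.Agent.Lib.Helper81_CoxComb Cfsg.Agent.Lib.Helper81_CoxPoincare
  Cfsg.Agent.Lib.Helper81_BNSteinberg Cfsg.Agent.Lib.Helper81_BNIndex
  Cfsg.Agent.Lib.Helper81_BNBorel Cfsg.Agent.Lib.Helper81_BNSub

section main

variable {G : Type*} [Group G] [Fintype G] (P : BNPair G) (p : ℕ) [Fact p.Prime]
  {ι : Type*} [DecidableEq ι] (s : ι → G)

open Classical in
theorem sum_St_subPair (J : Finset ι) (hJ : s '' (J : Set ι) ⊆ P.S)
    [Fintype ↥(P.parabolic (s '' (J : Set ι)))]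
    (U : Sylow p G) (hUB : (U : Subgroup G) ≤ P.B)
    (hBU : ∀ b ∈ P.B, ∃ u ∈ (U : Subgroup G), ∃ t ∈ P.B ⊓ P.N, b = u * t)
    (K : Subgroup G) (hKU : K ≤ U)
    (hKn : ∀ g ∈ P.parabolic (s '' (J : Set ι)), ∀ k ∈ K, g * k * g⁻¹ ∈ K)
    (hK : ∀ n : P.N, (n : G) ∈ P.parabolic (s '' (J : Set ι)) →
        (∀ σ : P.N, (σ : G) ∈ s '' (J : Set ι) → ℓ P (σ * n) < ℓ P n) →
        ∀ u ∈ (U : Subgroup G), (u ∈ K ↔ (n : G)⁻¹ * u * n ∈ P.B)) :
    ∑ g ∈ Finset.univ.filter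
        (fun g : ↥(P.parabolic (s '' (J : Set ι))) => ∃ k : ℕ, orderOf g = p ^ k),
      St (subPair P (s '' (J : Set ι)) hJ) J (sSub P s J) g = (Nat.card (U : Subgroup G) : ℂ) := by
  have hUP : (U : Subgroup G) ≤ P.parabolic (s '' (J : Set ι)) :=
    le_trans hUB (B_le_parabolic P _)
  -- `St_J` is a class function
  have hcl : ∀ x g : ↥(P.parabolic (s '' (J : Set ι))),
      St (subPair P (s '' (J : Set ι)) hJ) J (sSub P s J) (x * g * x⁻¹) =
        St (subPair P (s '' (J : Set ι)) hJ) J (sSub P s J) g := by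
    intro x g
    unfold St
    apply Finset.sum_congr rfl
    intro L _
    rw [Cfsg.Agent.Lib.Helper57_PC_STSUM.fpc_conj']
  -- the value of `St_J` at a `p`-element
  have hval : ∀ g : ↥(P.parabolic (s '' (J : Set ι))), (∃ k : ℕ, orderOf g = p ^ k) →
      (Nat.card K : ℂ) * St (subPair P (s '' (J : Set ι)) hJ) J (sSub P s J) g =
        if (g : G) ∈ K then (Nat.card (U : Subgroup G) : ℂ) else 0 := by
    intro g hg
    obtain ⟨k, hk⟩ := hg
    have hk' : orderOf (g : G) = p ^ k := by rw [Subgroup.orderOf_coe]; exact hk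
    obtain ⟨x, hx, hxu⟩ := exists_conj_mem_sylow p U (P.parabolic (s '' (J : Set ι))) hUP (g : G)
      g.2 ⟨k, hk'⟩
    set x' : ↥(P.parabolic (s '' (J : Set ι))) := ⟨x, hx⟩ with hx'
    have hu : ((x' * g * x'⁻¹ : ↥(P.parabolic (s '' (J : Set ι)))) : G) ∈ (U : Subgroup G) := hxu
    have h1 := card_mul_St_subPair P p s J hJ U hUB hBU K hKU hKn hK (x' * g * x'⁻¹) hu
    rw [hcl] at h1
    rw [h1]
    have hiff : ((x' * g * x'⁻¹ : ↥(P.parabolic (s '' (J : Set ι)))) : G) ∈ K ↔ (g : G) ∈ K := by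
      constructor
      · intro h
        have h2 := hKn x⁻¹ (Subgroup.inv_mem _ hx) _ h
        have : x⁻¹ * ((x' * g * x'⁻¹ : ↥(P.parabolic (s '' (J : Set ι)))) : G) * x⁻¹⁻¹ = (g : G) := by
          show x⁻¹ * (x * (g : G) * x⁻¹) * x⁻¹⁻¹ = (g : G)
          group
        rw [this] at h2
        exact h2
      · intro h
        exact hKn x hx _ h
    simp only [hiff]
  -- the `p`-elements lying in `K`
  have hKP : K ≤ P.parabolic (s '' (J : Set ι)) := le_trans hKU hUP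
  have hcount : (Finset.univ.filter (fun g : ↥(P.parabolic (s '' (J : Set ι))) =>
      (∃ k : ℕ, orderOf g = p ^ k) ∧ (g : G) ∈ K)).card = Nat.card K := by
    rw [← Fintype.card_subtype, ← Nat.card_eq_fintype_card]
    apply Nat.card_congr
    refine ⟨fun g => ⟨g.1.1, g.2.2⟩, fun k => ⟨⟨k.1, hKP k.2⟩, ?_, k.2⟩, ?_, ?_⟩
    · obtain ⟨m, hm⟩ := (IsPGroup.iff_orderOf.mp U.2) ⟨k.1, hKU k.2⟩
      refine ⟨m, ?_⟩
      rw [← Subgroup.orderOf_coe] at hm ⊢
      exact hm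
    · intro g
      rfl
    · intro k
      rfl
  have hKne : (Nat.card K : ℂ) ≠ 0 := by
    have : 0 < Nat.card K := Nat.card_pos
    exact_mod_cast this.ne'
  have hmul : (Nat.card K : ℂ) * ∑ g ∈ Finset.univ.filter
      (fun g : ↥(P.parabolic (s '' (J : Set ι))) => ∃ k : ℕ, orderOf g = p ^ k),
      St (subPair P (s '' (J : Set ι)) hJ) J (sSub P s J) g =
      (Nat.card K : ℂ) * (Nat.card (U : Subgroup G) : ℂ) := by
    rw [Finset.mul_sum]
    rw [Finset.sum_congr rfl (fun g hg => hval g (Finset.mem_filter.mp hg).2)]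
    rw [← Finset.sum_filter, Finset.filter_filter, Finset.sum_const, hcount, nsmul_eq_mul]
  exact mul_left_cancel₀ hKne hmul

end main

end Cfsg.Agent.Lib.Helper81_PCount
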