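import Mathlib
import Cfsg.Agent.Lib.Helper94_Q2Defs

set_option autoImplicit false
set_option linter.unusedSectionVars false
set_option linter.unusedVariables false

namespace Cfsg.Agent.Lib.Helper57_Q2_H90

open Module Cfsg.Agent.Lib.Helper94_Symp Cfsg.Agent.Lib.Helper94_OrthSmall
  Cfsg.Agent.Lib.Helper94_OrthSiegel Cfsg.Agent.Lib.Helper94_OrthNondeg
  Cfsg.Agent.Lib.Helper29_ODDefs Cfsg.Agent.Lib.Helper94_Q2Defs

variable {F : Type*} [Field F] [Finite F] {a b : F} [Fact (∀ r : F, r ^ 2 ≠ a + b * r)] {t : ℕ}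
  {S M L : Subgroup (MV a b t ≃ₗ[F] MV a b t)}

/-- **Q2-H90** [S]  ζ := 1 + z if z != -1 (then z star ζ = z + z star z = z + 1); if z = -1: ζ with star ζ = -ζ, ζ != 0 (2 != 0: ζ = omega - star omega;
2 = 0: -1 = 1, ζ = 1). -/
theorem H90 {z : QuadraticAlgebra F a b} (hz : QuadraticAlgebra.norm z = 1) :
    ∃ ζ : QuadraticAlgebra F a b, ζ ≠ 0 ∧ ζ = z * star ζ := by
  by_cases hz1 : z = -1
  · subst hz1
    by_cases h2 : (2 : F) = 0
    · refine ⟨1, one_ne_zero, ?_⟩
      have h11 : (-1 : F) = 1 := by
        have : (1 : F) + 1 = 0 := by rw [← h2]; norm_num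
        linear_combination -this
      ext
      · simp only [star_one, mul_one, QuadraticAlgebra.re_neg, QuadraticAlgebra.re_one]
        exact h11.symm
      · simp [QuadraticAlgebra.im_one]
    · refine ⟨⟨-b, 2⟩, ?_, ?_⟩
      · intro h
        have := congrArg QuadraticAlgebra.im h
        simp at this
        exact h2 this
      · ext
        · simp
          ring
        · simp
  · refine ⟨1 + z, ?_, ?_⟩
    · intro h
      apply hz1
      exact eq_neg_of_add_eq_zero_right h
    · have h1 : z * star z = 1 := by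
        rw [← QuadraticAlgebra.algebraMap_norm_eq_mul_star, hz, map_one]
      rw [star_add, star_one, mul_add, mul_one, h1, add_comm]

end Cfsg.Agent.Lib.Helper57_Q2_H90
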