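import Mathlib
import Cfsg.Agent.Lib.Helper94_Q2Defs

set_option autoImplicit false
set_option linter.unusedSectionVars false
set_option linter.unusedVariables false

namespace Cfsg.Agent.Lib.Helper57_Q2_TR0

open Module Cfsg.Agent.Lib.Helper94_Symp Cfsg.Agent.Lib.Helper94_OrthSmall
  Cfsg.Agent.Lib.Helper94_OrthSiegel Cfsg.Agent.Lib.Helper94_OrthNondeg
  Cfsg.Agent.Lib.Helper29_ODDefs Cfsg.Agent.Lib.Helper94_Q2Defs

variable {F : Type*} [Field F] [Finite F] {a b : F} [Fact (∀ r : F, r ^ 2 ≠ a + b * r)] {t : ℕ}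
  {S M L : Subgroup (MV a b t ≃ₗ[F] MV a b t)}

/-- **Q2-TR0** [S]  μ = omega - star omega = (-b, 2). -/
theorem TR0 (h2 : (2 : F) ≠ 0) :
    ∃ μ : QuadraticAlgebra F a b, μ ≠ 0 ∧ QuadraticAlgebra.trace μ = 0 := by
  refine ⟨⟨-b, 2⟩, ?_, ?_⟩
  · intro h
    have := congrArg QuadraticAlgebra.im h
    simp at this
    exact h2 this
  · simp [QuadraticAlgebra.trace_def]
    ring

end Cfsg.Agent.Lib.Helper57_Q2_TR0
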