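import Mathlib
import Cfsg.Prelude.Def_Transfer
import Cfsg.Agent.Lib.Helper56_RuDefs
import Cfsg.Agent.Lib.Helper56_RuBasic

/-!
# S3174 / S3175 market (architect helper56), package ODDABS (helper57)

An automorphism of odd order of a Rudvalis-type 2-group `T` (`Str T`) is trivial.

Route: (A) if `α x = z * x` with `α z = z` then `α x = x` (orders); (1) `α` fixes `Z_4` pointwise
(chain with factors of order two); (2) `t⁻¹ α(t) ∈ W = C_T(Z_3)`; (3) the normal subgroup
`Y = {u⁻¹ α(u) z : u ∈ W, z ∈ Z_3}` lies in `Z_3` (an `α`-fixed element of `Y` lies in `Z_3` by (A);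
descent through the upper central series); (4) `α` fixes `W`, then `T`, pointwise by (A).
-/

set_option autoImplicit false

open scoped commutatorElement
open Cfsg.Agent.Lib.Helper56_RuDefs Cfsg.Agent.Lib.Helper56_RuBasic

namespace Cfsg.Agent.Lib.Helper57_RU_ODDABS

variable {T : Type*} [Group T]

/-- iterating `α` on `x` when `α x = z * x`, `α z = z` -/
theorem iter_left (α : T ≃* T) (x z : T) (hz : α z = z) (hx : α x = z * x) (j : ℕ) :
    (⇑α)^[j] x = z ^ j * x := by
  induction j with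
  | zero => simp
  | succ j ih =>
    rw [Function.iterate_succ_apply', ih, map_mul, map_pow, hz, hx, pow_succ, mul_assoc]

/-- (A), left form -/
theorem lemmaA (α : T ≃* T) (m : ℕ) (hα : ∀ t, (⇑α)^[m] t = t) (x z : T) (hz : α z = z)
    (hx : α x = z * x) (k : ℕ) (hzk : z ^ k = 1) (hcop : m.Coprime k) : α x = x := by
  have h1 := iter_left α x z hz hx m
  rw [hα] at h1
  have hzm : z ^ m = 1 := by
    have : z ^ m * x = 1 * x := by rw [← h1, one_mul]
    exact mul_right_cancel this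
  have hord1 : orderOf z ∣ m := orderOf_dvd_of_pow_eq_one hzm
  have hord2 : orderOf z ∣ k := orderOf_dvd_of_pow_eq_one hzk
  have : orderOf z = 1 := Nat.eq_one_of_dvd_coprimes hcop hord1 hord2
  have hz1 : z = 1 := orderOf_eq_one_iff.mp this
  rw [hx, hz1, one_mul]

/-- (A), right form -/
theorem lemmaA' (α : T ≃* T) (m : ℕ) (hα : ∀ t, (⇑α)^[m] t = t) (x d : T) (hd : α d = d)
    (hx : α x = x * d) (k : ℕ) (hdk : d ^ k = 1) (hcop : m.Coprime k) : α x = x := by
  have h1 : α x⁻¹ = x⁻¹ := by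
    apply lemmaA α m hα x⁻¹ d⁻¹ (by rw [map_inv, hd]) (by rw [map_inv, hx, mul_inv_rev]) k
      (by rw [inv_pow, hdk, inv_one]) hcop
  rw [map_inv, inv_inj] at h1
  exact h1

/-- the terms of the upper central series are characteristic -/
theorem map_mem_ucs (α : T ≃* T) (i : ℕ) (x : T) :
    α x ∈ Subgroup.upperCentralSeries T i ↔ x ∈ Subgroup.upperCentralSeries T i := by
  have h := (inferInstance : (Subgroup.upperCentralSeries T i).Characteristic).fixed α
  constructor
  · intro hx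
    rw [← h]
    exact hx
  · intro hx
    rw [← h] at hx
    exact hx

section main

variable (h : Str T) (α : T ≃* T) (m : ℕ) (hm : Odd m) (hα : ∀ t, (⇑α)^[m] t = t)

include h in
theorem pow_card (x : T) : x ^ (2 ^ 14) = 1 := by
  have := h.fin
  rw [← h.cardT]
  exact pow_card_eq_one'

include hm in
theorem cop : m.Coprime (2 ^ 14) :=
  Nat.Coprime.pow_right 14 (Nat.coprime_two_right.mpr hm)

include h hm hα in
/-- (1) `α` fixes `Z_4` pointwise -/
theorem fix_ucs : ∀ i ≤ 4, ∀ x ∈ Subgroup.upperCentralSeries T i, α x = x := by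
  intro i
  induction i with
  | zero =>
    intro _ x hx
    rw [Subgroup.upperCentralSeries_zero, Subgroup.mem_bot] at hx
    rw [hx, map_one]
  | succ i ih =>
    intro hi x hx
    have ih' := ih (by omega)
    by_cases hxi : x ∈ Subgroup.upperCentralSeries T i
    · exact ih' x hxi
    · have hax : α x ∈ Subgroup.upperCentralSeries T (i + 1) := (map_mem_ucs α (i + 1) x).mpr hx
      have haxi : α x ∉ Subgroup.upperCentralSeries T i := by
        intro hc
        have h1 := ih' (α x) hc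
        have h2 := α.injective h1
        rw [h2] at hc
        exact hxi hc
      have hle : Subgroup.upperCentralSeries T i ≤ Subgroup.upperCentralSeries T (i + 1) :=
        Subgroup.upperCentralSeries_mono T (Nat.le_succ i)
      have hidx : (Subgroup.upperCentralSeries T i).relIndex (Subgroup.upperCentralSeries T (i + 1))
          = 2 := by
        have h1 := card_mul_relIndex hle
        rw [h.cardZ i (by omega), h.cardZ (i + 1) hi, pow_succ] at h1
        exact Nat.eq_of_mul_eq_mul_left (by positivity) h1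
      have hz : α x * x⁻¹ ∈ Subgroup.upperCentralSeries T i := by
        have h1 := Subgroup.mul_mem_iff_of_index_two
          (H := (Subgroup.upperCentralSeries T i).subgroupOf (Subgroup.upperCentralSeries T (i + 1)))
          hidx (a := ⟨α x, hax⟩) (b := ⟨x⁻¹, inv_mem hx⟩)
        rw [Subgroup.mem_subgroupOf, Subgroup.mem_subgroupOf, Subgroup.mem_subgroupOf] at h1
        apply h1.mpr
        constructor
        · intro h2
          exact absurd h2 haxi
        · intro h2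
          exact absurd (inv_mem_iff.mp h2) hxi
      exact lemmaA α m hα x (α x * x⁻¹) (ih' _ hz) (by group) (2 ^ 14) (pow_card h _) (cop m hm)

include h hm hα in
/-- (2) `t⁻¹ α(t) ∈ W` -/
theorem delta_mem_W (t : T) : t⁻¹ * α t ∈ Wc T := by
  rw [Subgroup.mem_centralizer_iff]
  intro z hz
  have hz' : z ∈ Subgroup.upperCentralSeries T 3 := hz
  have hn : t * z * t⁻¹ ∈ Subgroup.upperCentralSeries T 3 :=
    (inferInstance : (Subgroup.upperCentralSeries T 3).Normal).conj_mem z hz' t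
  have h1 := fix_ucs h α m hm hα 3 (by norm_num) _ hn
  have h2 := fix_ucs h α m hm hα 3 (by norm_num) _ hz'
  rw [map_mul, map_mul, map_inv, h2] at h1
  -- h1 : α t * z * (α t)⁻¹ = t * z * t⁻¹
  calc z * (t⁻¹ * α t) = t⁻¹ * (t * z * t⁻¹) * α t := by group
    _ = t⁻¹ * (α t * z * (α t)⁻¹) * α t := by rw [h1]
    _ = t⁻¹ * α t * z := by group

include h hm hα in
/-- `W` is `α`-invariant -/
theorem map_mem_W {w : T} (hw : w ∈ Wc T) : α w ∈ Wc T := by
  rw [Subgroup.mem_centralizer_iff]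
  intro z hz
  have hz' : z ∈ Subgroup.upperCentralSeries T 3 := hz
  have h2 := fix_ucs h α m hm hα 3 (by norm_num) _ hz'
  have h3 : z * w = w * z := Subgroup.mem_centralizer_iff.mp hw z hz
  calc z * α w = α z * α w := by rw [h2]
    _ = α (z * w) := by rw [map_mul]
    _ = α (w * z) := by rw [h3]
    _ = α w * z := by rw [map_mul, h2]

include h hm hα in
theorem dW {u : T} (hu : u ∈ Wc T) : u⁻¹ * α u ∈ Wc T :=
  (Wc T).mul_mem ((Wc T).inv_mem hu) (map_mem_W h α m hm hα hu)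

/-- the subgroup `Y = {u⁻¹ α(u) z : u ∈ W, z ∈ Z_3}` -/
def Yset (α : T ≃* T) : Set T :=
  {y | ∃ u ∈ Wc T, ∃ z ∈ Subgroup.upperCentralSeries T 3, y = u⁻¹ * α u * z}

include h hm hα in
theorem Y_mul {y y' : T} (hy : y ∈ Yset α) (hy' : y' ∈ Yset α) : y * y' ∈ Yset α := by
  obtain ⟨u, hu, z, hz, rfl⟩ := hy
  obtain ⟨v, hv, z', hz', rfl⟩ := hy'
  have hd := dW h α m hm hα hu
  have hd' := dW h α m hm hα hv
  set d := u⁻¹ * α u with hdef
  set d' := v⁻¹ * α v with hdef'
  have hc : ⁅v⁻¹, d⁻¹⁆ ∈ Subgroup.upperCentralSeries T 3 :=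
    comm_mem h _ ((Wc T).inv_mem hv) _ ((Wc T).inv_mem hd)
  have e1 : d' * z = z * d' := commute_Z3 d' hd' z hz
  have e2 : d' * ⁅v⁻¹, d⁻¹⁆ = ⁅v⁻¹, d⁻¹⁆ * d' := commute_Z3 d' hd' _ hc
  refine ⟨u * v, (Wc T).mul_mem hu hv, ⁅v⁻¹, d⁻¹⁆ * z * z',
    (Subgroup.upperCentralSeries T 3).mul_mem ((Subgroup.upperCentralSeries T 3).mul_mem hc hz) hz', ?_⟩
  have e3 : (u * v)⁻¹ * α (u * v) = v⁻¹ * d * v * d' := by
    rw [map_mul, hdef, hdef']
    group
  rw [e3]
  calc d * z * (d' * z') = d * (z * d') * z' := by group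
    _ = d * (d' * z) * z' := by rw [e1]
    _ = (v⁻¹ * d * v) * (v⁻¹ * d⁻¹ * v * d) * d' * z * z' := by group
    _ = (v⁻¹ * d * v) * (⁅v⁻¹, d⁻¹⁆ * d') * z * z' := by
        rw [commutatorElement_def]; group
    _ = (v⁻¹ * d * v) * (d' * ⁅v⁻¹, d⁻¹⁆) * z * z' := by rw [e2]
    _ = v⁻¹ * d * v * d' * (⁅v⁻¹, d⁻¹⁆ * z * z') := by group

include h hm hα in
theorem Y_inv {y : T} (hy : y ∈ Yset α) : y⁻¹ ∈ Yset α := by
  obtain ⟨u, hu, z, hz, rfl⟩ := hy
  have hu' : u⁻¹ ∈ Wc T := (Wc T).inv_mem hu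
  have he := dW h α m hm hα hu'
  set e := (u⁻¹)⁻¹ * α u⁻¹ with hedef
  have hc : ⁅e⁻¹, u⁻¹⁆ ∈ Subgroup.upperCentralSeries T 3 :=
    comm_mem h _ ((Wc T).inv_mem he) _ hu'
  have hzi : z⁻¹ ∈ Subgroup.upperCentralSeries T 3 := inv_mem hz
  have hd := dW h α m hm hα hu
  have e1 : (u⁻¹ * α u)⁻¹ * z⁻¹ = z⁻¹ * (u⁻¹ * α u)⁻¹ :=
    commute_Z3 _ ((Wc T).inv_mem hd) _ hzi
  refine ⟨u⁻¹, hu', ⁅e⁻¹, u⁻¹⁆ * z⁻¹, (Subgroup.upperCentralSeries T 3).mul_mem hc hzi, ?_⟩
  rw [mul_inv_rev, ← e1, ← hedef]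
  have e2 : (u⁻¹ * α u)⁻¹ = e * ⁅e⁻¹, u⁻¹⁆ := by
    rw [commutatorElement_def, hedef, map_inv]
    group
  rw [e2, mul_assoc]

include h hm hα in
theorem Y_conj {y : T} (hy : y ∈ Yset α) (t : T) : t * y * t⁻¹ ∈ Yset α := by
  obtain ⟨u, hu, z, hz, rfl⟩ := hy
  have hWn : (Wc T).Normal := inferInstance
  have hu' : t * u * t⁻¹ ∈ Wc T := hWn.conj_mem u hu t
  have hs := delta_mem_W h α m hm hα t
  set s := t⁻¹ * α t with hsdef
  have hau := map_mem_W h α m hm hα hu
  have hc : ⁅(α u)⁻¹, s⁆ ∈ Subgroup.upperCentralSeries T 3 :=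
    comm_mem h _ ((Wc T).inv_mem hau) _ hs
  have hZn : (Subgroup.upperCentralSeries T 3).Normal := inferInstance
  have hz'' : t * (⁅(α u)⁻¹, s⁆⁻¹ * z) * t⁻¹ ∈ Subgroup.upperCentralSeries T 3 :=
    hZn.conj_mem _ ((Subgroup.upperCentralSeries T 3).mul_mem (inv_mem hc) hz) t
  refine ⟨t * u * t⁻¹, hu', t * (⁅(α u)⁻¹, s⁆⁻¹ * z) * t⁻¹, hz'', ?_⟩
  have hat : α t = t * s := by rw [hsdef]; group
  rw [map_mul, map_mul, map_inv, hat, commutatorElement_def]
  group

include h hm hα in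
/-- `Y` as a subgroup -/
def Ysub : Subgroup T where
  carrier := Yset α
  mul_mem' := fun hy hy' => Y_mul h α m hm hα hy hy'
  one_mem' := ⟨1, (Wc T).one_mem, 1, (Subgroup.upperCentralSeries T 3).one_mem, by simp⟩
  inv_mem' := fun hy => Y_inv h α m hm hα hy

include h hm hα in
/-- an `α`-fixed element of `Y` lies in `Z_3` -/
theorem Y_fixed {y : T} (hy : y ∈ Yset α) (hfix : α y = y) :
    y ∈ Subgroup.upperCentralSeries T 3 := by
  obtain ⟨u, hu, z, hz, rfl⟩ := hy
  have hzfix := fix_ucs h α m hm hα 3 (by norm_num) z hz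
  have hdfix : α (u⁻¹ * α u) = u⁻¹ * α u := by
    have : u⁻¹ * α u = (u⁻¹ * α u * z) * z⁻¹ := by group
    rw [this, map_mul, hfix, map_inv, hzfix]
  have hau : α u = u := by
    apply lemmaA' α m hα u (u⁻¹ * α u) hdfix (by group) (2 ^ 14) (pow_card h _) (cop m hm)
  rw [hau, inv_mul_cancel, one_mul]
  exact hz

include h hm hα in
/-- descent through the upper central series: `Y ≤ Z_3` -/
theorem Y_le : ∀ k : ℕ, ∀ y ∈ Yset α, y ∈ Subgroup.upperCentralSeries T k →
    y ∈ Subgroup.upperCentralSeries T 3 := by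
  intro k
  induction k with
  | zero =>
    intro y _ hy0
    rw [Subgroup.upperCentralSeries_zero, Subgroup.mem_bot] at hy0
    rw [hy0]
    exact Subgroup.one_mem _
  | succ k ih =>
    intro y hy hyk
    have h4 : y ∈ Subgroup.upperCentralSeries T (3 + 1) := by
      rw [Subgroup.mem_upperCentralSeries_succ_iff]
      intro t
      have h1 : ⁅y, t⁆ ∈ Subgroup.upperCentralSeries T k :=
        Subgroup.mem_upperCentralSeries_succ_iff.mp hyk t
      have h2 : ⁅y, t⁆ ∈ Yset α := by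
        have : ⁅y, t⁆ = y * (t * y⁻¹ * t⁻¹) := by
          rw [commutatorElement_def]; group
        rw [this]
        exact Y_mul h α m hm hα hy (Y_conj h α m hm hα (Y_inv h α m hm hα hy) t)
      exact ih _ h2 h1
    have hfix := fix_ucs h α m hm hα 4 le_rfl y h4
    exact Y_fixed h α m hm hα hy hfix

include h hm hα in
/-- `α` fixes `W` pointwise -/
theorem fix_W {u : T} (hu : u ∈ Wc T) : α u = u := by
  have := h.fin
  have : Fact (2 : ℕ).Prime := ⟨Nat.prime_two⟩
  have hnil : Group.IsNilpotent T := h.pg.isNilpotent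
  obtain ⟨n, hn⟩ := hnil.nilpotent
  have hyY : u⁻¹ * α u ∈ Yset α :=
    ⟨u, hu, 1, Subgroup.one_mem _, by simp⟩
  have hy3 := Y_le h α m hm hα n _ hyY (by rw [hn]; exact Subgroup.mem_top _)
  have hdfix := fix_ucs h α m hm hα 3 (by norm_num) _ hy3
  exact lemmaA' α m hα u (u⁻¹ * α u) hdfix (by group) (2 ^ 14) (pow_card h _) (cop m hm)

end main

/-- ODDABS. An automorphism of odd order of `T` is trivial. -/
theorem odd_aut_trivial (h : Str T) (α : T ≃* T) (m : ℕ) (hm : Odd m) (hα : ∀ t, (⇑α)^[m] t = t) :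
    ∀ t, α t = t := by
  intro t
  have hs := delta_mem_W h α m hm hα t
  have hsfix := fix_W h α m hm hα hs
  exact lemmaA' α m hα t (t⁻¹ * α t) hsfix (by group) (2 ^ 14) (pow_card h _) (cop m hm)

end Cfsg.Agent.Lib.Helper57_RU_ODDABS
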