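import Mathlib
import Cfsg.Prelude.Def_Transfer
import Cfsg.Agent.Lib.Helper56_RuDefs
import Cfsg.Agent.Lib.Helper56_RuBasic
import Cfsg.Agent.Lib.Helper57_RU_ODDABS

/-!
# S3174 / S3175 market (architect helper56), package ODD (helper57)

An element of odd order of `N_G(P)` centralizes the Rudvalis-type Sylow 2-subgroup `P`.
-/

set_option autoImplicit false

open scoped commutatorElement
open Cfsg.Agent.Lib.Helper56_RuDefs Cfsg.Agent.Lib.Helper56_RuBasic

namespace Cfsg.Agent.Lib.Helper57_RU_ODD

/-- conjugation by an element of the normalizer, as an automorphism of the subgroup -/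
def conjAut {G : Type*} [Group G] (P : Subgroup G) (g : G)
    (hg : g ∈ Subgroup.normalizer (P : Set G)) : ↥P ≃* ↥P where
  toFun x := ⟨g * x * g⁻¹, (Subgroup.mem_normalizer_iff.mp hg x).mp x.2⟩
  invFun x := ⟨g⁻¹ * x * g, by
    have := (Subgroup.mem_normalizer_iff.mp (Subgroup.inv_mem _ hg) (x : G)).mp x.2
    simpa using this⟩
  left_inv x := by
    apply Subtype.ext
    simp only
    group
  right_inv x := by
    apply Subtype.ext
    simp only
    group
  map_mul' x y := by
    apply Subtype.ext
    simp only [Subgroup.coe_mul]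
    group

theorem conjAut_apply {G : Type*} [Group G] (P : Subgroup G) (g : G)
    (hg : g ∈ Subgroup.normalizer (P : Set G)) (x : ↥P) :
    ((conjAut P g hg x : ↥P) : G) = g * x * g⁻¹ := rfl

theorem conjAut_iterate {G : Type*} [Group G] (P : Subgroup G) (g : G)
    (hg : g ∈ Subgroup.normalizer (P : Set G)) (j : ℕ) (x : ↥P) :
    (((⇑(conjAut P g hg))^[j] x : ↥P) : G) = g ^ j * x * (g ^ j)⁻¹ := by
  induction j with
  | zero => simp
  | succ j ih =>
    rw [Function.iterate_succ_apply', conjAut_apply, ih, pow_succ']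
    group

/-- ODD. -/
theorem odd_centralizes {G : Type*} [Group G] [Finite G] (P : Sylow 2 G) (h : Str ↥(P : Subgroup G)) (g : G)
    (hg : g ∈ Subgroup.normalizer ((P : Subgroup G) : Set G)) (hodd : Odd (orderOf g)) :
    ∀ x ∈ (P : Subgroup G), g * x = x * g := by
  intro x hx
  have hα : ∀ t, (⇑(conjAut (P : Subgroup G) g hg))^[orderOf g] t = t := by
    intro t
    apply Subtype.ext
    rw [conjAut_iterate, pow_orderOf_eq_one, inv_one, mul_one, one_mul]
  have h1 := Cfsg.Agent.Lib.Helper57_RU_ODDABS.odd_aut_trivial h (conjAut (P : Subgroup G) g hg)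
    (orderOf g) hodd hα ⟨x, hx⟩
  have h2 := congrArg Subtype.val h1
  rw [conjAut_apply] at h2
  simp only at h2
  calc g * x = g * x * g⁻¹ * g := by group
    _ = x * g := by rw [h2]

end Cfsg.Agent.Lib.Helper57_RU_ODD
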