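/-
S4699 package PK-GEOM (helper57 architect): the geometric sum with `p^n` terms and the Frobenius identity
`(a - 1)^(p^n) = a^(p^n) - 1` in an arbitrary algebra over a field of characteristic `p`.
-/
import Mathlib

set_option autoImplicit false

namespace Cfsg.Agent.Lib.Helper57_S4699_GEOM

open Polynomial in
/-- the polynomial identity `∑_{i<p^n} X^i = (X-1)^(p^n-1)` -/
theorem poly_geom_sum_pow {F : Type*} [Field F] {p : ℕ} [Fact p.Prime] [CharP F p] (n : ℕ) :
    ∑ i ∈ Finset.range (p ^ n), (X : F[X]) ^ i = (X - 1) ^ (p ^ n - 1) := by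
  have hp : p.Prime := Fact.out
  have hq : 0 < p ^ n := Nat.pos_of_ne_zero (pow_ne_zero _ hp.ne_zero)
  have hne : (X - 1 : F[X]) ≠ 0 := by
    have := Polynomial.X_sub_C_ne_zero (1 : F)
    simpa using this
  have h1 : (X - 1 : F[X]) * ∑ i ∈ Finset.range (p ^ n), (X : F[X]) ^ i = (X - 1) * (X - 1) ^ (p ^ n - 1) := by
    rw [mul_geom_sum, ← pow_succ', Nat.sub_add_cancel hq, sub_pow_char_pow, one_pow]
  exact mul_left_cancel₀ hne h1

open Polynomial in
theorem poly_sub_one_pow_char_pow {F : Type*} [Field F] {p : ℕ} [Fact p.Prime] [CharP F p] (n : ℕ) :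
    (X - 1 : F[X]) ^ (p ^ n) = X ^ (p ^ n) - 1 := by
  rw [sub_pow_char_pow, one_pow]

theorem geom_sum_pow {F : Type*} [Field F] {p : ℕ} [Fact p.Prime] [CharP F p]
    {A : Type*} [Ring A] [Algebra F A] (n : ℕ) (a : A) :
    ∑ i ∈ Finset.range (p ^ n), a ^ i = (a - 1) ^ (p ^ n - 1) := by
  have h := congrArg (Polynomial.aeval (R := F) a) (poly_geom_sum_pow (F := F) (p := p) n)
  simpa using h

/-- Frobenius: `(a - 1)^(p^n) = a^(p^n) - 1` in any `F`-algebra -/
theorem sub_one_pow_char_pow {F : Type*} [Field F] {p : ℕ} [Fact p.Prime] [CharP F p]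
    {A : Type*} [Ring A] [Algebra F A] (n : ℕ) (a : A) :
    (a - 1) ^ (p ^ n) = a ^ (p ^ n) - 1 := by
  have h := congrArg (Polynomial.aeval (R := F) a) (poly_sub_one_pow_char_pow (F := F) (p := p) n)
  simpa using h

end Cfsg.Agent.Lib.Helper57_S4699_GEOM
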