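import Mathlib
import Cfsg.Agent.Lib.Helper6_S6Defs
import Cfsg.Agent.Lib.Helper57_S6_IRRaux
import Cfsg.Agent.Lib.Helper55_S6_ROT

set_option autoImplicit false
set_option linter.unusedSectionVars false

namespace Cfsg.Agent.Lib.Helper57_S6_IRR

open Cfsg.Agent.Lib.Helper6_S6Defs Equiv Equiv.Perm
open Cfsg.Agent.Lib.Helper55_S6_ROT

variable {G : Type*} [Group G] [Finite G] {S : Subgroup G}

/-- ## PKG IRR (S) -/
theorem no_inv_line (D : Setup G S) (Y : Subgroup G) (hY : Y ≤ S) (hY3 : Nat.card Y = 3) :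
    ¬ ∀ n ∈ Subgroup.normalizer (S : Set G), ∀ y ∈ Y, n * y * n⁻¹ ∈ Y :=
  Cfsg.Agent.Lib.Helper57_S6_IRRaux.no_inv_line_aux D (fun n hn => rot_inv D n hn) Y hY hY3

end Cfsg.Agent.Lib.Helper57_S6_IRR
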