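import Mathlib
import Cfsg.Agent.Lib.Helper67_T2ODefs

set_option autoImplicit false
set_option linter.unusedSectionVars false
set_option linter.unusedVariables false

/-!
# TENS2O package GENO1A, core (helper57): from one root group at `y` to all of them at `y`,
with the `Sp(ω)`-conjugation closure (`ss_conj` of package SSO) as a hypothesis.
-/

open Module
open Cfsg.Agent.Lib.Helper94_Symp Cfsg.Agent.Lib.Helper94_OrthSmall
  Cfsg.Agent.Lib.Helper94_OrthSiegel
  Cfsg.Agent.Lib.Helper67_Tens2Defs Cfsg.Agent.Lib.Helper67_T2ODefs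

namespace Cfsg.Agent.Lib.Helper57_T2O_GENO1Aaux

variable {F W : Type*} [Field F] [AddCommGroup W] [Module F W]
variable {ω : LinearMap.BilinForm F W}

/-- a vector orthogonal to `y` but not to `w`, when `w ∉ ⟨y⟩` -/
theorem exists_perp_not_perp (halt : ω.IsAlt) (hN : ω.Nondegenerate) (y w : W) (hy : y ≠ 0)
    (hw : w ∉ Submodule.span F {y}) : ∃ z' : W, ω y z' = 0 ∧ ω w z' ≠ 0 := by
  by_contra hcon
  push Not at hcon
  -- a vector `v` with `ω y v = 1`
  obtain ⟨v₀, hv₀⟩ : ∃ v₀, ω y v₀ ≠ 0 := by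
    by_contra h
    push Not at h
    exact hy (hN.1 y h)
  set v : W := (ω y v₀)⁻¹ • v₀ with hv
  have hyv : ω y v = 1 := by
    rw [hv, map_smul, smul_eq_mul, inv_mul_cancel₀ hv₀]
  have key : ∀ x : W, ω w x = ω w v * ω y x := by
    intro x
    have h1 : ω y (x - ω y x • v) = 0 := by
      rw [map_sub, map_smul, smul_eq_mul, hyv, mul_one, sub_self]
    have h2 := hcon _ h1
    rw [map_sub, map_smul, smul_eq_mul, sub_eq_zero] at h2
    rw [h2, mul_comm]
  apply hw
  have h3 : w - ω w v • y = 0 := by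
    apply hN.1
    intro x
    rw [map_sub, LinearMap.sub_apply, map_smul, LinearMap.smul_apply, smul_eq_mul, key x, sub_self]
  rw [sub_eq_zero.mp h3]
  exact Submodule.smul_mem _ _ (Submodule.mem_span_singleton_self y)

/-- GENO1a, core -/
theorem aw_fix_of (halt : ω.IsAlt) (hN : ω.Nondegenerate)
    (M : Subgroup ((W × W) ≃ₗ[F] (W × W)))
    (hconj : ∀ S : W →ₗ[F] W, ux S ∈ M → ∀ T : W ≃ₗ[F] W, T ∈ isoGroup ω →
      ux ((T : W →ₗ[F] W) ∘ₗ S ∘ₗ (T.symm : W →ₗ[F] W)) ∈ M)
    (y w : W) (hy : y ≠ 0) (hw : w ∉ Submodule.span F {y}) (h0 : ω y w = 0)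
    (h : ∀ t : F, ux (t • aw ω y w) ∈ M) :
    ∀ z : W, ω y z = 0 → ∀ t : F, ux (t • aw ω y z) ∈ M := by
  -- Step 1
  have step1 : ∀ z : W, ω y z = 0 → ∀ s t : F, ux ((t * s * ω w z) • aw ω y z) ∈ M := by
    intro z hz s t
    have hT := stv_mem_isoGroup ω halt z s
    have h1 := hconj (t • aw ω y w) (h t) (stv ω halt z s) hT
    have hTy : stv ω halt z s y = y := by
      rw [stv_apply, hz, mul_zero, zero_smul, add_zero]
    have hTw : stv ω halt z s w = w + (s * ω w z) • z := stv_apply ω halt z s w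
    have h2 : ((stv ω halt z s : W ≃ₗ[F] W) : W →ₗ[F] W) ∘ₗ (t • aw ω y w) ∘ₗ
        ((stv ω halt z s).symm : W →ₗ[F] W)
        = t • aw ω y w + (t * s * ω w z) • aw ω y z := by
      rw [LinearMap.smul_comp, LinearMap.comp_smul, conj_aw ω _ hT, hTy, hTw, aw_add_right,
        aw_smul_right, smul_add, smul_smul, mul_assoc]
    rw [h2] at h1
    have h3 : ux ((t * s * ω w z) • aw ω y z)
        = (ux (t • aw ω y w))⁻¹ * ux (t • aw ω y w + (t * s * ω w z) • aw ω y z) := by
      rw [ux_inv, ux_mul]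
      congr 1
      abel
    rw [h3]
    exact M.mul_mem (M.inv_mem (h t)) h1
  -- Step 2
  have step2 : ∀ z : W, ω y z = 0 → ω w z ≠ 0 → ∀ t : F, ux (t • aw ω y z) ∈ M := by
    intro z hz hwz t
    have := step1 z hz (ω w z)⁻¹ t
    rwa [mul_assoc, inv_mul_cancel₀ hwz, mul_one] at this
  intro z hz t
  by_cases hwz : ω w z = 0
  · obtain ⟨z', hz'y, hz'w⟩ := exists_perp_not_perp halt hN y w hy hw
    have hsum_y : ω y (z + z') = 0 := by rw [map_add, hz, hz'y, add_zero]
    have hsum_w : ω w (z + z') ≠ 0 := by rw [map_add, hwz, zero_add]; exact hz'w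
    have h1 := step2 (z + z') hsum_y hsum_w t
    have h2 := step2 z' hz'y hz'w t
    have h3 : ux (t • aw ω y z) = ux (t • aw ω y (z + z')) * (ux (t • aw ω y z'))⁻¹ := by
      rw [ux_inv, ux_mul, aw_add_right, smul_add]
      congr 1
      abel
    rw [h3]
    exact M.mul_mem h1 (M.inv_mem h2)
  · exact step2 z hz hwz t

end Cfsg.Agent.Lib.Helper57_T2O_GENO1Aaux
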