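import Mathlib
import Cfsg.Agent.Lib.Helper67_T2ODefs
import Cfsg.Agent.Lib.Helper94_OrthNondeg
import Cfsg.Agent.Lib.Helper82_T2_KR
import Cfsg.Agent.Lib.Helper9_T2_BR
import Cfsg.Agent.Lib.Helper78_UT2_NEXA

set_option autoImplicit false
set_option linter.unusedSectionVars false
set_option linter.unusedVariables false

/-!
# TENS2O package SSO (architect helper67): the set `{S | ux S ∈ M}` is closed under scalars (all characteristics) and
under conjugation by `Sp(ω)`; `lx S ∈ M` as soon as `ux S ∈ M`.  Twin of `Helper31_UT2_SSU`.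
-/

open Module
open Cfsg.Agent.Lib.Helper94_Symp Cfsg.Agent.Lib.Helper94_OrthSmall
  Cfsg.Agent.Lib.Helper94_OrthSiegel Cfsg.Agent.Lib.Helper94_OrthNondeg
  Cfsg.Agent.Lib.Helper67_Tens2Defs Cfsg.Agent.Lib.Helper67_T2ODefs

namespace Cfsg.Agent.Lib.Helper60_T2O_SSO

variable {F W : Type*} [Field F] [Finite F] [AddCommGroup W] [Module F W] [FiniteDimensional F W]
variable {ω : LinearMap.BilinForm F W}

/-- `{S | ux S ∈ M}` is closed under squares -/
theorem ss_sq (M : Subgroup ((W × W) ≃ₗ[F] (W × W))) (hM : HypO ω M)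
    (S : W →ₗ[F] W) (hS : ux S ∈ M) (a : F) : ux ((a * a) • S) ∈ M := by
  by_cases ha0 : a = 0
  · rw [ha0, mul_zero, zero_smul, ux_zero]
    exact M.one_mem
  · have hE : hE (Units.mk0 a ha0) ∈ M := hM.hE_mem (Units.mk0 a ha0)
    have h1 := M.mul_mem (M.mul_mem hE hS) (M.inv_mem hE)
    rw [hE_conj_ux] at h1
    exact h1

/-- SSO : the set `{S | ux S ∈ M}` is closed under scalars -/
theorem ss_smul (M : Subgroup ((W × W) ≃ₗ[F] (W × W))) (hM : HypO ω M)
    (S : W →ₗ[F] W) (hS : ux S ∈ M) (c : F) : ux (c • S) ∈ M := by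
  by_cases h2 : (2 : F) = 0
  · have hchar : ringChar F = 2 :=
      CharP.ringChar_of_prime_eq_zero Nat.prime_two (by exact_mod_cast h2)
    obtain ⟨a, ha⟩ := FiniteField.isSquare_of_char_two hchar c
    rw [ha]
    exact ss_sq M hM S hS a
  · have hcS : c • S = (((c + 1) / 2) * ((c + 1) / 2)) • S
        + -((((c - 1) / 2) * ((c - 1) / 2)) • S) := by
      rw [← sub_eq_add_neg, ← sub_smul]
      congr 1
      field_simp
      ring
    rw [hcS, ← ux_mul, ← ux_inv]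
    exact M.mul_mem (ss_sq M hM S hS _) (M.inv_mem (ss_sq M hM S hS _))

/-- SSO : the set `{S | ux S ∈ M}` is closed under conjugation by `Sp(ω)` -/
theorem ss_conj (M : Subgroup ((W × W) ≃ₗ[F] (W × W))) (hM : HypO ω M)
    (S : W →ₗ[F] W) (hS : ux S ∈ M) (T : W ≃ₗ[F] W) (hT : T ∈ isoGroup ω) :
    ux ((T : W →ₗ[F] W) ∘ₗ S ∘ₗ (T.symm : W →ₗ[F] W)) ∈ M := by
  rw [← oE_conj_ux]
  exact M.mul_mem (M.mul_mem (hM.oE_mem T hT) hS) (M.inv_mem (hM.oE_mem T hT))

/-- conjugation of `ux (-S)` by `jE` -/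
theorem jE_conj_ux_neg (S : W →ₗ[F] W) :
    (jE : (W × W) ≃ₗ[F] (W × W)) * ux (-S) * (jE : (W × W) ≃ₗ[F] (W × W))⁻¹ = lx S := by
  rw [mul_inv_eq_iff_eq_mul]
  apply LinearEquiv.ext
  intro x
  simp only [LinearEquiv.mul_apply, jE_apply, ux_apply, lx_apply, LinearMap.neg_apply, neg_add,
    neg_neg]

/-- SSO : `lx S ∈ M` as soon as `ux S ∈ M` -/
theorem lx_of_ux (M : Subgroup ((W × W) ≃ₗ[F] (W × W))) (hM : HypO ω M)
    (S : W →ₗ[F] W) (hS : ux S ∈ M) : lx S ∈ M := by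
  rw [← jE_conj_ux_neg, ← ux_inv]
  exact M.mul_mem (M.mul_mem hM.jE_mem (M.inv_mem hS)) (M.inv_mem hM.jE_mem)

end Cfsg.Agent.Lib.Helper60_T2O_SSO
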