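import Mathlib
import Cfsg.Agent.Lib.Helper67_T2ODefs
import Cfsg.Agent.Lib.Helper94_OrthNondeg
import Cfsg.Agent.Lib.Helper82_T2_KR
import Cfsg.Agent.Lib.Helper9_T2_BR
import Cfsg.Agent.Lib.Helper78_UT2_NEXA
import Cfsg.Agent.Lib.Helper57_T2O_GENO1Aaux
import Cfsg.Agent.Lib.Helper60_T2O_SSO

set_option autoImplicit false
set_option linter.unusedSectionVars false
set_option linter.unusedVariables false

/-!
# TENS2O package GENO1A (helper57): from one root group at `y` to all of them at `y`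
-/

open Module
open Cfsg.Agent.Lib.Helper94_Symp Cfsg.Agent.Lib.Helper94_OrthSmall
  Cfsg.Agent.Lib.Helper94_OrthSiegel Cfsg.Agent.Lib.Helper94_OrthNondeg
  Cfsg.Agent.Lib.Helper67_Tens2Defs Cfsg.Agent.Lib.Helper67_T2ODefs

namespace Cfsg.Agent.Lib.Helper57_T2O_GENO1A

variable {F W : Type*} [Field F] [Finite F] [AddCommGroup W] [Module F W] [FiniteDimensional F W]
variable {ω : LinearMap.BilinForm F W}

/-- GENO1a : from one root group at `y` to all of them at `y` -/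
theorem aw_fix (halt : ω.IsAlt) (hN : ω.Nondegenerate)
    (M : Subgroup ((W × W) ≃ₗ[F] (W × W))) (hM : HypO ω M)
    (y w : W) (hy : y ≠ 0) (hw : w ∉ Submodule.span F {y}) (h0 : ω y w = 0)
    (h : ∀ t : F, ux (t • aw ω y w) ∈ M) :
    ∀ z : W, ω y z = 0 → ∀ t : F, ux (t • aw ω y z) ∈ M :=
  Cfsg.Agent.Lib.Helper57_T2O_GENO1Aaux.aw_fix_of halt hN M
    (fun S hS T hT => Cfsg.Agent.Lib.Helper60_T2O_SSO.ss_conj M hM S hS T hT) y w hy hw h0 h

end Cfsg.Agent.Lib.Helper57_T2O_GENO1A
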