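import Mathlib
import Cfsg.Agent.Lib.Helper75_TZDefs

set_option autoImplicit false
set_option linter.unusedSectionVars false

namespace Cfsg.Agent.Lib.Helper75_TZ

open Matrix Module
open Cfsg.Agent.Lib.Helper5_SpPerfect Cfsg.Agent.Lib.Helper81_SpWeights
  Cfsg.Agent.Lib.Helper81_JointEigen Cfsg.Agent.Lib.Helper81_Heis Cfsg.Agent.Lib.Helper81_WeilLin
  Cfsg.Agent.Lib.Helper81_Schrodinger

section G

variable {F : Type*} [Field F] [Fintype F] [DecidableEq F] {m : ℕ} {K : Type*} [Field K]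
  [IsAlgClosed K] [CharZero K] {Ω : Type*} [AddCommGroup Ω] [Module K Ω] [FiniteDimensional K Ω]
  {M : Type*} [AddCommGroup M] [Module K M] [FiniteDimensional K M]

/-- PACKAGE G0: a map which is equivariant under all `xs S` preserves the weight spaces -/
theorem wsp_of_equivariant {n : ℕ} (ψ₀ : AddChar F K) (RΩ : SpG n F →* Module.End K Ω)
    (RM : SpG n F →* Module.End K M) (Ψ : Ω →ₗ[K] M)
    (hΨxs : ∀ S x, Ψ (RΩ (xs S) x) = RM (xs S) (Ψ x)) (T : symSub n F) (x : Ω)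
    (hx : x ∈ wsp RΩ ψ₀ T) : Ψ x ∈ wsp RM ψ₀ T := by
  rw [mem_wsp] at hx ⊢
  intro S
  rw [← hΨxs, hx S, map_smul]

end G

end Cfsg.Agent.Lib.Helper75_TZ
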