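import Mathlib

set_option autoImplicit false

namespace Cfsg.Agent.Lib.Helper75_TZ

namespace G1PHI0aux

open Module

/-- General form of G1-PHI0: for an independent family of subspaces with supremum `⊤` and a non-zero
vector `v₀` of the member `p i₀`, there is a linear map sending `v₀` to a prescribed `v` and
killing all the other members. -/
theorem exists_phi0_aux {K Ω M ι : Type*} [Field K] [AddCommGroup Ω] [Module K Ω]
    [AddCommGroup M] [Module K M] (p : ι → Submodule K Ω) (hsup : ⨆ i, p i = ⊤)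
    (hind : iSupIndep p) (i₀ : ι) (v₀ : Ω) (hv₀ : v₀ ∈ p i₀) (hv₀0 : v₀ ≠ 0) (v : M) :
    ∃ φ₀ : Ω →ₗ[K] M, φ₀ v₀ = v ∧ ∀ i, i ≠ i₀ → ∀ x ∈ p i, φ₀ x = 0 := by
  classical
  set W : Submodule K Ω := ⨆ i : {i : ι // i ≠ i₀}, p i.1 with hW
  have hdisj : Disjoint (p i₀) W := by
    have := hind i₀
    rw [hW, iSup_subtype]
    exact this
  have hcodisj : Codisjoint (p i₀) W := by
    rw [codisjoint_iff, eq_top_iff, ← hsup]
    apply iSup_le
    intro i
    by_cases hi : i = i₀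
    · rw [hi]; exact le_sup_left
    · exact le_trans (le_iSup (fun i : {i : ι // i ≠ i₀} => p i.1) ⟨i, hi⟩) le_sup_right
  have hc : IsCompl (p i₀) W := ⟨hdisj, hcodisj⟩
  -- a functional with `f v₀ = 1`
  obtain ⟨f, hf⟩ : ∃ f : Module.Dual K Ω, f v₀ = 1 := by
    have hne : ¬ ∀ φ : Module.Dual K Ω, φ v₀ = 0 := by
      rw [Module.forall_dual_apply_eq_zero_iff]
      exact hv₀0
    push Not at hne
    obtain ⟨φ, hφ⟩ := hne
    refine ⟨(φ v₀)⁻¹ • φ, ?_⟩
    rw [LinearMap.smul_apply, smul_eq_mul, inv_mul_cancel₀ hφ]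
  set π : Ω →ₗ[K] Ω := (p i₀).subtype ∘ₗ Submodule.projectionOnto _ _ hc with hπ
  refine ⟨(LinearMap.toSpanSingleton K M v) ∘ₗ f ∘ₗ π, ?_, ?_⟩
  · have h1 : π v₀ = v₀ := by
      rw [hπ, LinearMap.comp_apply]
      have := Submodule.projectionOnto_apply_left hc ⟨v₀, hv₀⟩
      rw [this]
      rfl
    rw [LinearMap.comp_apply, LinearMap.comp_apply, h1, hf, LinearMap.toSpanSingleton_apply,
      one_smul]
  · intro i hi x hx
    have hxW : x ∈ W := by
      rw [hW]
      exact Submodule.mem_iSup_of_mem (⟨i, hi⟩ : {i : ι // i ≠ i₀}) hx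
    have h1 : π x = 0 := by
      rw [hπ, LinearMap.comp_apply]
      have := (Submodule.projectionOnto_apply_eq_zero_iff hc).mpr hxW
      rw [this]
      rfl
    rw [LinearMap.comp_apply, LinearMap.comp_apply, h1, map_zero, map_zero]

end G1PHI0aux

end Cfsg.Agent.Lib.Helper75_TZ
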