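import Mathlib
import Cfsg.Agent.Lib.Helper75_TZDefs
import Cfsg.Agent.Lib.Helper57_TZ_G1PHI0aux
import Cfsg.Agent.Lib.Helper82_TZ_S_WDEC

set_option autoImplicit false
set_option linter.unusedSectionVars false
set_option linter.unusedVariables false

namespace Cfsg.Agent.Lib.Helper75_TZ

open Matrix Module
open Cfsg.Agent.Lib.Helper5_SpPerfect Cfsg.Agent.Lib.Helper81_SpWeights
  Cfsg.Agent.Lib.Helper81_JointEigen Cfsg.Agent.Lib.Helper81_Heis Cfsg.Agent.Lib.Helper81_WeilLin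
  Cfsg.Agent.Lib.Helper81_Schrodinger

section G

variable {F : Type*} [Field F] [Fintype F] [DecidableEq F] {m : ℕ} {K : Type*} [Field K]
  [IsAlgClosed K] [CharZero K] {Ω : Type*} [AddCommGroup Ω] [Module K Ω] [FiniteDimensional K Ω]
  {M : Type*} [AddCommGroup M] [Module K M] [FiniteDimensional K M]

/-- PACKAGE G1-PHI0: the linear map `φ₀` with `φ₀ v₀ = v` which kills the other weight spaces -/
theorem exists_phi0 {n : ℕ} (ψ₀ : AddChar F K) (hψ₀ : ψ₀ ≠ 1) (hodd : Odd (Fintype.card F))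
    (RΩ : SpG n F →* Module.End K Ω) (T₀ : symSub n F) (hmult : finrank K (wsp RΩ ψ₀ T₀) ≤ 1)
    (v₀ : Ω) (hv₀ : v₀ ∈ wsp RΩ ψ₀ T₀) (hv₀0 : v₀ ≠ 0) (v : M) :
    ∃ φ₀ : Ω →ₗ[K] M, φ₀ v₀ = v ∧ ∀ T, T ≠ T₀ → ∀ x ∈ wsp RΩ ψ₀ T, φ₀ x = 0 :=
  G1PHI0aux.exists_phi0_aux (fun T : symSub n F => wsp RΩ ψ₀ T) (iSup_wsp ψ₀ hψ₀ hodd RΩ)
    (iSupIndep_wsp ψ₀ hψ₀ hodd RΩ) T₀ v₀ hv₀ hv₀0 v

end G

end Cfsg.Agent.Lib.Helper75_TZ
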