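import Mathlib
import Cfsg.Agent.Lib.Helper75_TZDefs
import Cfsg.Agent.Lib.Helper82_TZ_S_WDEC
import Cfsg.Agent.Lib.Helper10_TZ_S6b

set_option autoImplicit false
set_option linter.unusedSectionVars false
set_option linter.unusedVariables false

namespace Cfsg.Agent.Lib.Helper75_TZ

open Matrix Module
open Cfsg.Agent.Lib.Helper5_SpPerfect Cfsg.Agent.Lib.Helper81_SpWeights
  Cfsg.Agent.Lib.Helper81_JointEigen Cfsg.Agent.Lib.Helper81_Heis Cfsg.Agent.Lib.Helper81_WeilLin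
  Cfsg.Agent.Lib.Helper81_Schrodinger

section G

variable {F : Type*} [Field F] [Fintype F] [DecidableEq F] {m : ℕ} {K : Type*} [Field K]
  [IsAlgClosed K] [CharZero K] {Ω : Type*} [AddCommGroup Ω] [Module K Ω] [FiniteDimensional K Ω]
  {M : Type*} [AddCommGroup M] [Module K M] [FiniteDimensional K M]

/-- PACKAGE G1c: `PhiE v₀ = |Q| |Stab_L(T_a)| v`.
(The term of `(S,A)` vanishes unless `A` stabilises `T_a`, and then it is `v` by `stab_char₂` for `A⁻¹`.) -/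
theorem PhiE_v0 (ψ₀ : AddChar F K) (hψ₀ : ψ₀ ≠ 1) (hodd : Odd (Fintype.card F)) (hm : 1 ≤ m)
    (RΩ : SpG (m + 1) F →* Module.End K Ω) (RM : SpG (m + 1) F →* Module.End K M)
    (hΩrk : RankLeOne RΩ ψ₀) (hMrk : RankLeOne RM ψ₀) (σ : K) (hΩσ : CentralSign RΩ σ)
    (hMσ : CentralSign RM σ) {a : F} (ha : a ≠ 0) (φ₀ : Ω →ₗ[K] M) (v₀ : Ω)
    (hv₀ : v₀ ∈ wsp RΩ ψ₀ (Ta a)) (v : M) (hv : v ∈ wsp RM ψ₀ (Ta a)) (h1 : φ₀ v₀ = v)
    (h0 : ∀ T, T ≠ Ta a → ∀ x ∈ wsp RΩ ψ₀ T, φ₀ x = 0) :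
    ∃ N : ℕ, N ≠ 0 ∧ PhiE RΩ RM φ₀ v₀ = (N : K) • v := by
  classical
  -- the individual terms
  have hterm : ∀ (S : symSub (m + 1) F) (A : GL (Fin (m + 1)) F),
      RM (xs S * lgH A) (φ₀ (RΩ (xs S * lgH A)⁻¹ v₀)) =
        if cong (A.1)ᵀ (Ta a) = Ta a then v else 0 := by
    intro S A
    set c : K := ψ₀ (trP S (Ta a)) with hc
    have hc0 : c ≠ 0 := by
      intro h
      have h3 : ψ₀ (trP S (Ta a)) * ψ₀ (-(trP S (Ta a))) = 1 := by
        rw [← AddChar.map_add_eq_mul, add_neg_cancel, AddChar.map_zero_eq_one]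
      rw [← hc, h, zero_mul] at h3
      exact zero_ne_one h3
    have hΩS : RΩ (xs S) v₀ = c • v₀ := (mem_wsp RΩ ψ₀ (Ta a) v₀).mp hv₀ S
    have hMS : RM (xs S) v = c • v := (mem_wsp RM ψ₀ (Ta a) v).mp hv S
    have hΩSi : RΩ (xs S)⁻¹ v₀ = c⁻¹ • v₀ := by
      have h3 : RΩ (xs S)⁻¹ (RΩ (xs S) v₀) = v₀ := by
        rw [← Module.End.mul_apply, ← map_mul, inv_mul_cancel, map_one]; rfl
      rw [hΩS, map_smul] at h3
      have h4 : c⁻¹ • (c • RΩ (xs S)⁻¹ v₀) = c⁻¹ • v₀ := by rw [h3]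
      rw [smul_smul, inv_mul_cancel₀ hc0, one_smul] at h4
      exact h4
    have hw : RΩ (lgH A⁻¹) v₀ ∈ wsp RΩ ψ₀ (cong (A.1)ᵀ (Ta a)) := by
      have := lgH_wsp ψ₀ RΩ A⁻¹ (Ta a) v₀ hv₀
      rw [inv_inv] at this
      exact this
    have hexp : RΩ (xs S * lgH A)⁻¹ v₀ = c⁻¹ • RΩ (lgH A⁻¹) v₀ := by
      have hinvA : (lgH A : SpG (m + 1) F)⁻¹ = lgH A⁻¹ := (map_inv lgH A).symm
      rw [_root_.mul_inv_rev, map_mul, Module.End.mul_apply, hΩSi, map_smul, hinvA]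
    rw [hexp, map_smul, map_smul]
    by_cases hst : cong (A.1)ᵀ (Ta a) = Ta a
    · rw [if_pos hst]
      obtain ⟨lam, hl1, hl2⟩ := stab_char₂ ψ₀ hψ₀ hodd hm RΩ RM hΩrk hMrk σ hΩσ hMσ ha A⁻¹
        (by rw [inv_inv]; exact hst)
      rw [hl1 v₀ hv₀, map_smul, h1, ← hl2 v hv, map_mul, Module.End.mul_apply,
        ← Module.End.mul_apply (RM (lgH A)), ← map_mul, ← map_mul, mul_inv_cancel, map_one, map_one,
        Module.End.one_apply, hMS, smul_smul, inv_mul_cancel₀ hc0, one_smul]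
    · rw [if_neg hst, h0 _ hst _ hw, map_zero, smul_zero]
  refine ⟨Fintype.card (symSub (m + 1) F) *
    (Finset.univ.filter fun A : GL (Fin (m + 1)) F => cong (A.1)ᵀ (Ta a) = Ta a).card, ?_, ?_⟩
  · apply Nat.mul_ne_zero
    · exact Fintype.card_ne_zero
    · apply Finset.card_ne_zero.mpr
      refine ⟨1, ?_⟩
      rw [Finset.mem_filter]
      refine ⟨Finset.mem_univ _, ?_⟩
      apply Subtype.ext
      show (1 : GL (Fin (m + 1)) F).1ᵀ * (Ta a).1 * ((1 : GL (Fin (m + 1)) F).1ᵀ)ᵀ = (Ta a).1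
      simp
  · unfold PhiE
    rw [LinearMap.sum_apply]
    simp only [LinearMap.sum_apply, LinearMap.comp_apply]
    simp only [hterm]
    rw [Finset.sum_const, Finset.card_univ, ← Finset.sum_filter, Finset.sum_const, Nat.cast_mul,
      mul_smul, Nat.cast_smul_eq_nsmul, Nat.cast_smul_eq_nsmul]

end G

end Cfsg.Agent.Lib.Helper75_TZ
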