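import Mathlib
import Cfsg.Agent.Lib.Helper57_TwoBlockCore

/-!
# The invariants `τ(χ)` of a major subsection of a `2`-block: global properties (helper57)

`count_main`: for a major subsection `(y, b)` of a `2`-block `B` there are integers `τ(χ) > 0`
(`χ ∈ B`) with `∑_{j ∈ U} 2^d m^{(y^j, b)}_{χχ} = φ(2^n) τ(χ)`, `∑_χ τ(χ) = 2^d l(b)`,
`2^(h+1) ∣ τ(χ)` for `χ` of height `h ≥ 1`, `τ(χ)` odd for `χ` of height `0`; moreover either
`τ(χ) ≠ 1` for all `χ` of height zero, or `∑_χ 4^{h(χ)} ≤ 2^d`.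
-/

set_option autoImplicit false
set_option linter.unusedSectionVars false

namespace Cfsg.Agent.Lib.Helper57_TwoBlockCount

open Cfsg
open scoped ComplexConjugate
open Cfsg.Agent.Lib.Helper3_CharBridge Cfsg.Agent.Lib.Helper3_CharOrtho
  Cfsg.Agent.Lib.Helper75_CharArith Cfsg.Agent.Lib.Helper57_PRegInt
  Cfsg.Agent.Lib.Helper57_HeightZero Cfsg.Agent.Lib.Helper57_BrauerFeit
  Cfsg.Agent.Lib.Helper57_Contribution Cfsg.Agent.Lib.Helper57_Subsection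
  Cfsg.Agent.Lib.Helper57_ContribMatrix Cfsg.Agent.Lib.Helper57_BrouePuig
  Cfsg.Agent.Lib.Helper57_ContribRow
  Cfsg.Agent.Lib.Helper57_MajorNonvanish Cfsg.Agent.Lib.Helper57_MajorNV
  Cfsg.Agent.Lib.Helper57_MajorTwo Cfsg.Agent.Lib.Helper57_TwoBlockCore
  Cfsg.Agent.Lib.Helper57_WForm
  Cfsg.Agent.Lib.Helper78_LocalRing Cfsg.Agent.Lib.Helper78_CharFacts
  Cfsg.Agent.Lib.Helper77_BlockBasics

section Sub

variable {G : Type*} [Group G] [Fintype G] {p : ℕ}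
variable (C : Subgroup G) [Fintype C] (u : G) (k : ℕ) (hu : orderOf u = p ^ k)
  (hCu : ∀ c : C, u * (c : G) = (c : G) * u)
  (hcent : Subgroup.centralizer ({u} : Set G) ≤ C)

include hu hCu hcent in
/-- `∑_χ |∑_η x_η a(χ, η)|² = ∑_{η, η'} x_η x_η' [η'°, η]`. -/
theorem sum_comb_sq' (hp : p.Prime) (s : Finset (IrrCharacter C)) (x : IrrCharacter C → ℤ) :
    ∑ χ : IrrCharacter G, (∑ η ∈ s, (x η : ℂ) * acoef p C u χ η) *
        conj (∑ η ∈ s, (x η : ℂ) * acoef p C u χ η) =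
      ∑ η ∈ s, ∑ η' ∈ s, (x η : ℂ) * (x η' : ℂ) *
        classInner (regPart p (η' : C → ℂ)) (η : C → ℂ) := by
  have h1 : ∀ χ : IrrCharacter G, (∑ η ∈ s, (x η : ℂ) * acoef p C u χ η) *
        conj (∑ η ∈ s, (x η : ℂ) * acoef p C u χ η) =
      ∑ η ∈ s, ∑ η' ∈ s, (x η : ℂ) * (x η' : ℂ) *
        (acoef p C u χ η * conj (acoef p C u χ η')) := by
    intro χ
    rw [map_sum, Finset.sum_mul_sum]
    refine Finset.sum_congr rfl fun η _ => Finset.sum_congr rfl fun η' _ => ?_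
    rw [map_mul, map_intCast]
    ring
  simp_rw [h1]
  rw [Finset.sum_comm]
  refine Finset.sum_congr rfl fun η _ => ?_
  rw [Finset.sum_comm]
  refine Finset.sum_congr rfl fun η' _ => ?_
  rw [← Finset.mul_sum, sum_acoef_mul C u k hu hCu hcent hp η η']

end Sub

variable {G : Type*} [Group G] [Fintype G] {p : ℕ} {M : Ideal AlgInt}
variable (C : Subgroup G) [Fintype C] (y : G) (hyC : y ∈ C)
  (cc : IrrCharacter C → ℂ)
  (hcc : ∀ (ζ : IrrCharacter C) (a : C), (ζ : C → ℂ) (⟨y, hyC⟩ * a) = cc ζ * (ζ : C → ℂ) a)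
  (nn : IrrCharacter G → IrrCharacter C → ℕ)
  (hnn : ∀ χ : IrrCharacter G, (fun c : C => (χ : G → ℂ) (c : G)) =
    ∑ ζ : IrrCharacter C, (nn χ ζ : ℂ) • (ζ : C → ℂ))

include hcc hnn in
/-- **The invariants `τ(χ)` and their global properties.** -/
theorem count_main (hp2 : p = 2) (hM : IsPModular p M) {b : Set (IrrCharacter C)}
    {B : Set (IrrCharacter G)} (hind : IsInducedBlock M C b B)
    (hdd : blockDefect p b = blockDefect p B)
    (w0 : IrrCharacter C → IrrCharacter C → ℤ)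
    (hw0 : ∀ ζ ∈ b, ∀ ζ' ∈ b, ((p : ℂ) ^ blockDefect p b) *
      classInner (regPart p (ζ : C → ℂ)) (ζ' : C → ℂ) = (w0 ζ ζ' : ℂ))
    (hsym : ∀ ζ ζ', w0 ζ ζ' = w0 ζ' ζ)
    (hpsd : ∀ x, 0 ≤ wform (bset b) w0 x x)
    (δ R : IrrCharacter C → ℤ)
    (hrank : ∀ ζ ∈ bset b, ∀ ζ' ∈ bset b, (p : ℤ) ∣ (mPrime C p : ℤ) * w0 ζ ζ' - δ ζ * R ζ')
    (n : ℕ) (hcc1 : ∀ ζ : IrrCharacter C, cc ζ ^ (p ^ n) = 1)
    (hord : orderOf y = p ^ n) (hCu : ∀ c : C, y * (c : G) = (c : G) * y)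
    (hcent : Subgroup.centralizer ({y} : Set G) ≤ C)
    (hjfacts : ∀ j ∈ (Finset.range (p ^ n)).filter (fun j => j.Coprime (p ^ n)),
      orderOf (y ^ j) = p ^ n ∧ (∀ c : C, y ^ j * (c : G) = (c : G) * y ^ j) ∧
      Subgroup.centralizer ({y ^ j} : Set G) ≤ C)
    (hDu : ∀ χ ∈ B, blockHeight p B (χ : G → ℂ) = 0 →
      ¬ (p : ℤ) ∣ ∑ ζ ∈ bset b, ((nn χ ζ : ℕ) : ℤ) * δ ζ)
    (hRu : ∀ χ ∈ B, blockHeight p B (χ : G → ℂ) = 0 →
      ¬ (p : ℤ) ∣ ∑ ζ ∈ bset b, ((nn χ ζ : ℕ) : ℤ) * R ζ) :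
    ∃ τ : IrrCharacter G → ℤ,
      (∀ χ ∈ B, 0 < τ χ) ∧
      (∀ χ ∈ B, 1 ≤ blockHeight p B (χ : G → ℂ) →
        (2 : ℤ) ^ (blockHeight p B (χ : G → ℂ) + 1) ∣ τ χ) ∧
      (∀ χ ∈ B, blockHeight p B (χ : G → ℂ) = 0 → ¬ (2 : ℤ) ∣ τ χ) ∧
      (∀ χ ∈ B, ∑ j ∈ (Finset.range (p ^ n)).filter (fun j => j.Coprime (p ^ n)),
        ((p : ℂ) ^ blockDefect p b) * gmat p C (y ^ j) b χ χ =
        (((((p ^ n).totient : ℕ) : ℤ) * τ χ : ℤ) : ℂ)) ∧
      (∑ χ ∈ bset B, τ χ = 2 ^ blockDefect p b * (blockRank p b : ℤ)) ∧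
      ((∀ χ ∈ B, blockHeight p B (χ : G → ℂ) = 0 → τ χ ≠ 1) ∨
        ∑ χ ∈ bset B, (4 : ℝ) ^ blockHeight p B (χ : G → ℂ) ≤ (2 : ℝ) ^ blockDefect p b) := by
  classical
  have hp : p.Prime := hM.1
  have : Fact p.Prime := ⟨hp⟩
  have hM' := isPrime_of_isPModular hM
  have hpi : Prime (p : ℤ) := Nat.prime_iff_prime_int.mp hp
  have hB : IsPBlock M B := hind.2.1
  obtain ⟨χ', hχ', h0χ'⟩ := exists_height_zero_mem (p := p) (isPBlock_nonempty hM' hB)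
  set U : Finset ℕ := (Finset.range (p ^ n)).filter (fun j => j.Coprime (p ^ n)) with hU
  have hUcard : U.card = (p ^ n).totient := by
    rw [Nat.totient_eq_card_coprime, hU]
    congr 1
    refine Finset.filter_congr fun j _ => ?_
    exact Nat.coprime_comm
  have hφ0 : (p ^ n).totient ≠ 0 := (Nat.totient_pos.mpr (pow_pos hp.pos n)).ne'
  have hφ : (0 : ℝ) < ((p ^ n).totient : ℝ) := by
    exact_mod_cast Nat.totient_pos.mpr (pow_pos hp.pos n)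
  have hUne : U.Nonempty := by
    rw [← Finset.card_pos, hUcard]
    exact Nat.totient_pos.mpr (pow_pos hp.pos n)
  have hpd : (0 : ℝ) < (p : ℝ) ^ blockDefect p b := pow_pos (by exact_mod_cast hp.pos) _
  have hp2R : (p : ℝ) = 2 := by rw [hp2]; norm_num
  have hp2C : (p : ℂ) = 2 := by rw [hp2]; norm_num
  have htau : ∀ χ ∈ B, ∃ τ : ℤ, 0 ≤ τ ∧
      ∑ j ∈ U, ((p : ℂ) ^ blockDefect p b) * gmat p C (y ^ j) b χ χ =
        (((((p ^ n).totient : ℕ) : ℤ) * τ : ℤ) : ℂ) ∧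
      (1 ≤ blockHeight p B (χ : G → ℂ) → (2 : ℤ) ^ (blockHeight p B (χ : G → ℂ) + 1) ∣ τ) ∧
      (blockHeight p B (χ : G → ℂ) = 0 → ¬ (2 : ℤ) ∣ τ) ∧
      (blockHeight p B (χ : G → ℂ) = 0 → (∀ x, wform (bset b) w0 x x ≠ 1) → τ ≠ 1) :=
    fun χ hχ => tau_facts C y hyC cc hcc nn hnn hp2 hM hind hdd w0 hw0 hsym hpsd δ R hrank n hcc1
      hord hCu hcent hχ' h0χ' (hDu χ' hχ' h0χ') (hRu χ' hχ' h0χ') hχ
  choose! τ hτ0 hτeq hτpos hτzero hτone using htau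
  -- positivity of the diagonal contributions
  have hxA : ¬ (p : ℤ) ∣ ∑ ζ ∈ bset b, ∑ η ∈ bset b,
      ((nn χ' ζ : ℕ) : ℤ) * ((nn χ' η : ℕ) : ℤ) * w0 ζ η := by
    have := not_dvd_wform (bset b) w0 hpi _ δ R hrank (fun ζ => ((nn χ' ζ : ℕ) : ℤ))
      (fun ζ => ((nn χ' ζ : ℕ) : ℤ)) (hDu χ' hχ' h0χ') (hRu χ' hχ' h0χ')
    rwa [wform_apply] at this
  have hpos : ∀ χ ∈ B, ∀ j ∈ U, 0 < ∑ η ∈ bset b, Complex.normSq (acoef p C (y ^ j) χ η) := by
    intro χ hχ j hj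
    obtain ⟨hordj, hCuj, hcentj⟩ := hjfacts j hj
    have hne := sum_acoef_ne_zero C y hyC cc hcc nn hnn hM hind
      hdd w0 hw0 n hcc1 j n hordj hCuj hcentj (fun η => ((nn χ' η : ℕ) : ℤ)) hχ' h0χ' hxA hχ
    by_contra hle
    have hzero : ∑ η ∈ bset b, Complex.normSq (acoef p C (y ^ j) χ η) = 0 :=
      le_antisymm (not_lt.mp hle) (Finset.sum_nonneg fun η _ => Complex.normSq_nonneg _)
    apply hne
    refine Finset.sum_eq_zero fun η hη => ?_
    have := (Finset.sum_eq_zero_iff_of_nonneg (fun η _ => Complex.normSq_nonneg _)).mp hzero η hη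
    rw [Complex.normSq_eq_zero.mp this, mul_zero]
  have hτreal : ∀ χ ∈ B, ((((p ^ n).totient : ℕ) : ℝ)) * ((τ χ : ℤ) : ℝ) =
      ∑ j ∈ U, (p : ℝ) ^ blockDefect p b *
        ∑ η ∈ bset b, Complex.normSq (acoef p C (y ^ j) χ η) := by
    intro χ hχ
    apply Complex.ofReal_injective
    have := hτeq χ hχ
    simp_rw [gmat_self] at this
    push_cast
    push_cast at this
    exact this.symm
  have hτpos' : ∀ χ ∈ B, 0 < τ χ := by
    intro χ hχ
    have h1 : 0 < ∑ j ∈ U, (p : ℝ) ^ blockDefect p b *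
        ∑ η ∈ bset b, Complex.normSq (acoef p C (y ^ j) χ η) :=
      Finset.sum_pos (fun j hj => mul_pos hpd (hpos χ hχ j hj)) hUne
    rw [← hτreal χ hχ] at h1
    have h2 : (0 : ℝ) < ((τ χ : ℤ) : ℝ) := by
      by_contra hneg
      have : ((τ χ : ℤ) : ℝ) ≤ 0 := not_lt.mp hneg
      have := mul_nonpos_of_nonneg_of_nonpos hφ.le this
      linarith
    exact_mod_cast h2
  -- the sum of the `τ`
  have htot : ∀ j ∈ U, ∑ χ ∈ bset B, (p : ℝ) ^ blockDefect p b *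
      ∑ η ∈ bset b, Complex.normSq (acoef p C (y ^ j) χ η) =
      (p : ℝ) ^ blockDefect p b * (blockRank p b : ℝ) := by
    intro j hj
    obtain ⟨hordj, hCuj, hcentj⟩ := hjfacts j hj
    rw [← Finset.mul_sum]
    congr 1
    apply Complex.ofReal_injective
    have h1 := sum_bset_gmat_self C (y ^ j) n hordj hCuj hcentj hM hind
    simp_rw [gmat_self] at h1
    push_cast
    push_cast at h1
    exact h1
  have hsumτ : ∑ χ ∈ bset B, τ χ = 2 ^ blockDefect p b * (blockRank p b : ℤ) := by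
    have h1 : ((((p ^ n).totient : ℕ) : ℝ)) * ∑ χ ∈ bset B, ((τ χ : ℤ) : ℝ) =
        ((((p ^ n).totient : ℕ) : ℝ)) * ((p : ℝ) ^ blockDefect p b * (blockRank p b : ℝ)) := by
      rw [Finset.mul_sum, Finset.sum_congr rfl fun χ hχ => hτreal χ (mem_bset.mp hχ),
        Finset.sum_comm, Finset.sum_congr rfl htot, Finset.sum_const, nsmul_eq_mul, hUcard]
    have h2 := mul_left_cancel₀ hφ.ne' h1
    rw [hp2R] at h2
    have h3 : ((∑ χ ∈ bset B, τ χ : ℤ) : ℝ) =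
        ((2 ^ blockDefect p b * (blockRank p b : ℤ) : ℤ) : ℝ) := by
      push_cast
      exact h2
    exact_mod_cast h3
  refine ⟨τ, hτpos', hτpos, hτzero, hτeq, hsumτ, ?_⟩
  by_cases hrep : ∃ x : IrrCharacter C → ℤ, wform (bset b) w0 x x = 1
  · right
    obtain ⟨x₁, hx₁⟩ := hrep
    have hmC : ¬ (p : ℤ) ∣ (mPrime C p : ℤ) := fun h =>
      not_dvd_mPrime (G := C) hp (Int.natCast_dvd_natCast.mp h)
    have hRx : ¬ (p : ℤ) ∣ ∑ ζ ∈ bset b, x₁ ζ * R ζ := by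
      refine not_dvd_R (bset b) w0 hpi _ hmC δ R hrank x₁ x₁ ?_
      rw [hx₁]
      exact hpi.not_dvd_one
    have hxB : ¬ (p : ℤ) ∣ ∑ ζ ∈ bset b, ∑ η ∈ bset b,
        ((nn χ' ζ : ℕ) : ℤ) * x₁ η * w0 ζ η := by
      have := not_dvd_wform (bset b) w0 hpi _ δ R hrank (fun ζ => ((nn χ' ζ : ℕ) : ℤ)) x₁
        (hDu χ' hχ' h0χ') hRx
      rwa [wform_apply] at this
    have hbound : ∀ χ ∈ bset B,
        ((((p ^ n).totient : ℕ) : ℝ)) * (4 : ℝ) ^ blockHeight p B (χ : G → ℂ) ≤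
        ∑ j ∈ U, Complex.normSq ((p : ℂ) ^ blockDefect p b * ∑ η ∈ bset b, (x₁ η : ℂ) *
          acoef p C (y ^ j) χ η) :=
      fun χ hχ => colB_bound C y hyC cc hcc nn hnn hp2 hM hind hdd w0 hw0 n hcc1 hord hCu hcent
        x₁ hχ' h0χ' hxB (mem_bset.mp hχ)
    have htotB : ∀ j ∈ U, ∑ χ ∈ bset B,
        Complex.normSq ((p : ℂ) ^ blockDefect p b * ∑ η ∈ bset b, (x₁ η : ℂ) *
          acoef p C (y ^ j) χ η) ≤ (p : ℝ) ^ blockDefect p b := by
      intro j hj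
      obtain ⟨hordj, hCuj, hcentj⟩ := hjfacts j hj
      have h1 : ∑ χ ∈ bset B,
          Complex.normSq ((p : ℂ) ^ blockDefect p b * ∑ η ∈ bset b, (x₁ η : ℂ) *
            acoef p C (y ^ j) χ η) ≤
          ∑ χ : IrrCharacter G,
          Complex.normSq ((p : ℂ) ^ blockDefect p b * ∑ η ∈ bset b, (x₁ η : ℂ) *
            acoef p C (y ^ j) χ η) :=
        Finset.sum_le_sum_of_subset_of_nonneg (Finset.subset_univ _)
          fun χ _ _ => Complex.normSq_nonneg _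
      refine h1.trans (le_of_eq ?_)
      apply Complex.ofReal_injective
      push_cast
      simp_rw [← Complex.mul_conj, map_mul, map_pow, Complex.conj_natCast]
      have h2 : ∀ χ : IrrCharacter G,
          (p : ℂ) ^ blockDefect p b * (∑ η ∈ bset b, (x₁ η : ℂ) * acoef p C (y ^ j) χ η) *
          ((p : ℂ) ^ blockDefect p b * conj (∑ η ∈ bset b, (x₁ η : ℂ) *
            acoef p C (y ^ j) χ η)) =
          (p : ℂ) ^ blockDefect p b * ((p : ℂ) ^ blockDefect p b *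
            ((∑ η ∈ bset b, (x₁ η : ℂ) * acoef p C (y ^ j) χ η) *
            conj (∑ η ∈ bset b, (x₁ η : ℂ) * acoef p C (y ^ j) χ η))) := by
        intro χ
        ring
      simp_rw [h2]
      rw [← Finset.mul_sum, ← Finset.mul_sum,
        sum_comb_sq' C (y ^ j) n hordj hCuj hcentj hp (bset b) x₁]
      have h3 : (p : ℂ) ^ blockDefect p b * ∑ η ∈ bset b, ∑ η' ∈ bset b,
          (x₁ η : ℂ) * (x₁ η' : ℂ) * classInner (regPart p (η' : C → ℂ)) (η : C → ℂ) =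
          ((wform (bset b) w0 x₁ x₁ : ℤ) : ℂ) := by
        rw [wform_apply, Finset.mul_sum, Finset.sum_comm]
        push_cast
        refine Finset.sum_congr rfl fun η' hη' => ?_
        rw [Finset.mul_sum]
        refine Finset.sum_congr rfl fun η hη => ?_
        rw [← hw0 η (mem_bset.mp hη) η' (mem_bset.mp hη')]
        ring
      rw [h3, hx₁]
      push_cast
      ring
    have hsum : ((((p ^ n).totient : ℕ) : ℝ)) *
        ∑ χ ∈ bset B, (4 : ℝ) ^ blockHeight p B (χ : G → ℂ) ≤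
        ((((p ^ n).totient : ℕ) : ℝ)) * (p : ℝ) ^ blockDefect p b := by
      rw [Finset.mul_sum]
      have h1 := Finset.sum_le_sum hbound
      rw [Finset.sum_comm] at h1
      have h2 := Finset.sum_le_sum htotB
      rw [Finset.sum_const, nsmul_eq_mul, hUcard] at h2
      exact h1.trans h2
    have := le_of_mul_le_mul_left hsum hφ
    rwa [hp2R] at this
  · left
    push Not at hrep
    intro χ hχ h0
    exact hτone χ hχ h0 hrep

end Cfsg.Agent.Lib.Helper57_TwoBlockCount
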