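import Cfsg.Agent.Lib.Helper58_F4

set_option autoImplicit false
set_option linter.style.haveILetI false

namespace Cfsg.Agent.Lib.Helper58_A6

open Cfsg.Agent.Lib.Helper58_F4

/-- orders of elements of the alternating group of degree six -/
theorem a6_pow : ∀ g : Equiv.Perm (Fin 6), Equiv.Perm.sign g = 1 →
    g ^ 3 = 1 ∨ g ^ 4 = 1 ∨ g ^ 5 = 1 := by decide +kernel

def e2 : Equiv.Perm (Fin 6) := Equiv.swap 0 1 * Equiv.swap 2 3
def e3 : Equiv.Perm (Fin 6) := Equiv.swap 0 1 * Equiv.swap 1 2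
def e4 : Equiv.Perm (Fin 6) := Equiv.swap 0 1 * Equiv.swap 1 2 * Equiv.swap 2 3 * Equiv.swap 4 5
def e5 : Equiv.Perm (Fin 6) := Equiv.swap 0 1 * Equiv.swap 1 2 * Equiv.swap 2 3 * Equiv.swap 3 4

theorem e2_mem : e2 ∈ alternatingGroup (Fin 6) := by
  rw [Equiv.Perm.mem_alternatingGroup]; decide
theorem e3_mem : e3 ∈ alternatingGroup (Fin 6) := by
  rw [Equiv.Perm.mem_alternatingGroup]; decide
theorem e4_mem : e4 ∈ alternatingGroup (Fin 6) := by
  rw [Equiv.Perm.mem_alternatingGroup]; decide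
theorem e5_mem : e5 ∈ alternatingGroup (Fin 6) := by
  rw [Equiv.Perm.mem_alternatingGroup]; decide

theorem orderOf_e2 : orderOf e2 = 2 :=
  orderOf_eq_prime (by decide) (by decide)
theorem orderOf_e3 : orderOf e3 = 3 :=
  orderOf_eq_prime (by decide) (by decide)
theorem orderOf_e5 : orderOf e5 = 5 :=
  haveI : Fact (Nat.Prime 5) := ⟨by norm_num⟩
  orderOf_eq_prime (by decide) (by decide)
theorem orderOf_e4 : orderOf e4 = 4 :=
  orderOf_eq_prime_pow (p := 2) (n := 1) (by decide) (by decide)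

/-- the spectrum of the alternating group of degree six -/
theorem spec_A6 : Set.range (orderOf : alternatingGroup (Fin 6) → ℕ) = {1, 2, 3, 4, 5} := by
  apply Set.Subset.antisymm
  · rintro _ ⟨⟨g, hg⟩, rfl⟩
    have h := a6_pow g (Equiv.Perm.mem_alternatingGroup.mp hg)
    have h' : (⟨g, hg⟩ : alternatingGroup (Fin 6)) ^ 3 = 1 ∨ (⟨g, hg⟩ : alternatingGroup (Fin 6)) ^ 4 = 1 ∨
        (⟨g, hg⟩ : alternatingGroup (Fin 6)) ^ 5 = 1 := by
      rcases h with h | h | h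
      · exact Or.inl (Subtype.ext h)
      · exact Or.inr (Or.inl (Subtype.ext h))
      · exact Or.inr (Or.inr (Subtype.ext h))
    exact orderOf_mem_of_pow _ h'
  · intro n hn
    simp only [Set.mem_insert_iff, Set.mem_singleton_iff] at hn
    rcases hn with rfl | rfl | rfl | rfl | rfl
    · exact ⟨1, orderOf_one⟩
    · exact ⟨⟨e2, e2_mem⟩, by rw [← orderOf_e2]; exact Subgroup.orderOf_mk _ _⟩
    · exact ⟨⟨e3, e3_mem⟩, by rw [← orderOf_e3]; exact Subgroup.orderOf_mk _ _⟩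
    · exact ⟨⟨e4, e4_mem⟩, by rw [← orderOf_e4]; exact Subgroup.orderOf_mk _ _⟩
    · exact ⟨⟨e5, e5_mem⟩, by rw [← orderOf_e5]; exact Subgroup.orderOf_mk _ _⟩

end Cfsg.Agent.Lib.Helper58_A6
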