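import Mathlib

/-!
# Regular abelian normal subgroups of permutation groups (helper58)

`IsRegAb Ω N` bundles: `N` is a normal abelian subgroup of `G` acting regularly on `Ω`.
For `h` in a point stabiliser `G_α` and `m ∈ N`, the element `m * h` fixes `u • α` (`u ∈ N`) iff
`m = u * h * u⁻¹ * h⁻¹`.  Consequences: if `h` fixes a second point then some `m * h` is a
derangement; if `h` fixes only `α` then every `m * h` has a fixed point.
-/

set_option autoImplicit false

namespace Cfsg.Agent.Lib.Helper58_Affine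

open MulAction

variable {G : Type*} [Group G]

/-- `N` is a normal abelian subgroup of `G` acting regularly on `Ω`. -/
structure IsRegAb (Ω : Type*) [MulAction G Ω] (N : Subgroup G) : Prop where
  normal : N.Normal
  comm : ∀ a ∈ N, ∀ b ∈ N, a * b = b * a
  trans : ∀ ω ω' : Ω, ∃ n ∈ N, n • ω = ω'
  semireg : ∀ n ∈ N, ∀ ω : Ω, n • ω = ω → n = 1

variable {Ω : Type*} [MulAction G Ω] {N : Subgroup G}

theorem IsRegAb.eq_of_smul_eq (hN : IsRegAb Ω N) {u v : G} (hu : u ∈ N) (hv : v ∈ N) (α : Ω)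
    (h : u • α = v • α) : u = v := by
  have h1 : (v⁻¹ * u) • α = α := by rw [mul_smul, h, inv_smul_smul]
  have h2 := hN.semireg _ (N.mul_mem (N.inv_mem hv) hu) α h1
  calc u = v * (v⁻¹ * u) := by group
    _ = v := by rw [h2, mul_one]

theorem IsRegAb.exists_decomp (hN : IsRegAb Ω N) (α : Ω) (g : G) :
    ∃ m ∈ N, ∃ h : G, h • α = α ∧ g = m * h := by
  obtain ⟨m, hm, hmα⟩ := hN.trans α (g • α)
  refine ⟨m, hm, m⁻¹ * g, ?_, by group⟩
  rw [mul_smul, ← hmα, inv_smul_smul]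

theorem IsRegAb.conj_mem (hN : IsRegAb Ω N) {u : G} (hu : u ∈ N) (g : G) : g * u * g⁻¹ ∈ N :=
  hN.normal.conj_mem u hu g

/-- `h ∈ G_α` fixes `u • α` iff `h` commutes with `u`. -/
theorem IsRegAb.fix_iff_commute (hN : IsRegAb Ω N) {α : Ω} {h : G} (hα : h • α = α) {u : G}
    (hu : u ∈ N) : h • (u • α) = u • α ↔ h * u = u * h := by
  have hinv : h⁻¹ • α = α := by rw [inv_smul_eq_iff, hα]
  constructor
  · intro hfix
    have h1 : (h * u * h⁻¹) • α = u • α := by
      rw [mul_smul, mul_smul, hinv, hfix]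
    have h2 := hN.eq_of_smul_eq (hN.conj_mem hu h) hu α h1
    calc h * u = (h * u * h⁻¹) * h := by group
      _ = u * h := by rw [h2]
  · intro hc
    rw [← mul_smul, hc, mul_smul, hα]

/-- `m * h` fixes `u • α` iff `m = u * h * u⁻¹ * h⁻¹`. -/
theorem IsRegAb.fix_mul_iff (hN : IsRegAb Ω N) {α : Ω} {h : G} (hα : h • α = α) {m : G}
    (hm : m ∈ N) {u : G} (hu : u ∈ N) :
    (m * h) • (u • α) = u • α ↔ m = u * h * u⁻¹ * h⁻¹ := by
  have hinv : h⁻¹ • α = α := by rw [inv_smul_eq_iff, hα]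
  have e : (m * h) • (u • α) = (m * (h * u * h⁻¹)) • α := by
    rw [mul_smul, mul_smul, mul_smul, mul_smul, hinv]
  rw [e]
  constructor
  · intro hfix
    have h2 := hN.eq_of_smul_eq (N.mul_mem hm (hN.conj_mem hu h)) hu α hfix
    calc m = (m * (h * u * h⁻¹)) * (h * u⁻¹ * h⁻¹) := by group
      _ = u * h * u⁻¹ * h⁻¹ := by rw [h2]; group
  · intro hm'
    rw [hm']
    congr 1
    group

/-- Conjugation by `m * h` (`m ∈ N`) on `N` agrees with conjugation by `h`. -/
theorem IsRegAb.conj_eq (hN : IsRegAb Ω N) {m u : G} (h : G) (hm : m ∈ N) (hu : u ∈ N) :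
    (m * h) * u * (m * h)⁻¹ = h * u * h⁻¹ := by
  have := hN.comm m hm _ (hN.conj_mem hu h)
  calc (m * h) * u * (m * h)⁻¹ = (m * (h * u * h⁻¹)) * m⁻¹ := by group
    _ = ((h * u * h⁻¹) * m) * m⁻¹ := by rw [this]
    _ = h * u * h⁻¹ := by group

/-- If `h ∈ G_α` fixes a second point `u • α`, then some `m * h` with `m ∈ N` is a
derangement. -/
theorem IsRegAb.exists_der_mul [Finite G] (hN : IsRegAb Ω N) {α : Ω} {h : G} (hα : h • α = α)
    {u : G} (hu : u ∈ N) (hu1 : u ≠ 1) (hfix : h • (u • α) = u • α) :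
    ∃ m ∈ N, ∀ ω : Ω, (m * h) • ω ≠ ω := by
  have hmem : ∀ v : N, (v : G) * h * (v : G)⁻¹ * h⁻¹ ∈ N := by
    intro v
    have := N.mul_mem v.2 (hN.conj_mem (N.inv_mem v.2) h)
    convert this using 1; group
  let φ : N → N := fun v => ⟨(v : G) * h * (v : G)⁻¹ * h⁻¹, hmem v⟩
  have hninj : ¬ Function.Injective φ := by
    intro hinj
    have hc := (hN.fix_iff_commute hα hu).mp hfix
    have : φ ⟨u, hu⟩ = φ 1 := by
      apply Subtype.ext
      change u * h * u⁻¹ * h⁻¹ = (1 : G) * h * (1 : G)⁻¹ * h⁻¹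
      rw [← hc]; group
    have := hinj this
    exact hu1 (congrArg Subtype.val this)
  have hnsurj : ¬ Function.Surjective φ := fun hs => hninj (Finite.injective_iff_surjective.mpr hs)
  rw [Function.Surjective] at hnsurj
  push Not at hnsurj
  obtain ⟨m, hm⟩ := hnsurj
  refine ⟨m, m.2, fun ω hω => ?_⟩
  obtain ⟨v, hv, rfl⟩ := hN.trans α ω
  have := (hN.fix_mul_iff hα m.2 hv).mp hω
  exact hm ⟨v, hv⟩ (Subtype.ext this.symm)

/-- If `h ∈ G_α` fixes only `α`, then every `m * h` with `m ∈ N` has a fixed point. -/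
theorem IsRegAb.exists_fix_mul [Finite G] (hN : IsRegAb Ω N) {α : Ω} {h : G} (hα : h • α = α)
    (honly : ∀ ω : Ω, h • ω = ω → ω = α) {m : G} (hm : m ∈ N) :
    ∃ ω : Ω, (m * h) • ω = ω := by
  have hmem : ∀ v : N, (v : G) * h * (v : G)⁻¹ * h⁻¹ ∈ N := by
    intro v
    have := N.mul_mem v.2 (hN.conj_mem (N.inv_mem v.2) h)
    convert this using 1; group
  let φ : N → N := fun v => ⟨(v : G) * h * (v : G)⁻¹ * h⁻¹, hmem v⟩
  have hinj : Function.Injective φ := by
    intro v w hvw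
    have e : (v : G) * h * (v : G)⁻¹ * h⁻¹ = (w : G) * h * (w : G)⁻¹ * h⁻¹ :=
      congrArg Subtype.val hvw
    have hwv : (w : G)⁻¹ * v ∈ N := N.mul_mem (N.inv_mem w.2) v.2
    have hc : h * ((w : G)⁻¹ * v) = ((w : G)⁻¹ * v) * h := by
      calc h * ((w : G)⁻¹ * v) = (w : G)⁻¹ * ((w : G) * h * (w : G)⁻¹ * h⁻¹) * h * v := by group
        _ = (w : G)⁻¹ * ((v : G) * h * (v : G)⁻¹ * h⁻¹) * h * v := by rw [e]
        _ = ((w : G)⁻¹ * v) * h := by group
    have hfix := (hN.fix_iff_commute hα hwv).mpr hc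
    have h1 := honly _ hfix
    have h2 := hN.semireg _ hwv α h1
    apply Subtype.ext
    calc (v : G) = w * ((w : G)⁻¹ * v) := by group
      _ = w := by rw [h2, mul_one]
  obtain ⟨v, hv⟩ := (Finite.injective_iff_surjective.mp hinj) ⟨m, hm⟩
  refine ⟨(v : G) • α, (hN.fix_mul_iff hα hm v.2).mpr ?_⟩
  exact (congrArg Subtype.val hv).symm

end Cfsg.Agent.Lib.Helper58_Affine
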