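import Mathlib
import Cfsg.Prelude.Def_Characters
import Cfsg.Prelude.Def_Blocks
import Cfsg.Prelude.Def_Solvable
import Cfsg.Prelude.Def_CaseTheorems
import Cfsg.Agent.Lib.Helper3_CharComplete
import Cfsg.Agent.Lib.Helper3_CharBridge
import Cfsg.Agent.Lib.Helper3_CharOrtho
import Cfsg.Agent.Lib.Helper80_CharBasic
import Cfsg.Agent.Lib.Helper81_CharExpand
import Cfsg.Agent.Lib.Helper16_B43Defs
import Cfsg.Agent.Lib.Helper3_BFDefs
import Cfsg.Agent.Lib.Helper75_Induced
import Cfsg.Agent.Lib.Helper75_CharArith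
import Cfsg.Agent.Lib.Helper77_BlockBasics
import Cfsg.Agent.Lib.Helper17_TIPrime
import Cfsg.Agent.Lib.Helper95_B43_IND2

/-!
S4700 (Brauer's F(p,u,h) theorem, architect helper3), package PERM: the permutation character on
`Syl_p(G)` and its multiplicities.
-/

set_option autoImplicit false
set_option linter.unusedVariables false
set_option linter.unusedSimpArgs false
set_option linter.unusedSectionVars false
set_option linter.style.haveILetI false

namespace Cfsg.Agent.Lib.Helper58_BF_PERM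

open Cfsg Cfsg.Agent.Lib.Helper3_BFDefs Cfsg.Agent.Lib.Helper16_B43Defs
  Cfsg.Agent.Lib.Helper80_CharBasic Cfsg.Agent.Lib.Helper3_CharComplete
open scoped ComplexConjugate

universe u

section grp

variable {G : Type u} [Group G]

/-- The induced principal character of `N_G(P)` takes the value `1` at nonidentity elements of `P`
(`P` of prime order). -/
theorem psi_apply_of_mem [Fintype G] {p : ℕ} [Fact p.Prime] (P : Sylow p G) (hP : Nat.card P = p)
    {x : G} (hx : x ∈ (P : Subgroup G)) (hx1 : x ≠ 1) :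
    indFun (NP P) (fun _ => (1 : ℂ)) x = 1 := by
  classical
  letI : Fintype ↥(NP P) := Fintype.ofFinite _
  rw [Helper75_Induced.indFun_apply]
  have hxp : x ^ p = 1 := by
    have h1 : (⟨x, hx⟩ : ↥(P : Subgroup G)) ^ Nat.card ↥(P : Subgroup G) = 1 := pow_card_eq_one'
    rw [hP] at h1
    exact congrArg Subtype.val h1
  have key : ∀ g : G, extendByZero (NP P) (fun _ => (1 : ℂ)) (g⁻¹ * x * g) =
      if g ∈ NP P then 1 else 0 := by
    intro g
    by_cases hg : g ∈ NP P
    · rw [if_pos hg]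
      have hmem : g⁻¹ * x * g ∈ (P : Subgroup G) := by
        have := (Subgroup.mem_normalizer_iff.mp ((NP P).inv_mem hg) x).mp hx
        simpa using this
      have hmemN : g⁻¹ * x * g ∈ NP P := Subgroup.le_normalizer hmem
      rw [Helper75_Induced.extendByZero_of_mem (NP P) _ hmemN]
    · rw [if_neg hg]
      apply Helper75_Induced.extendByZero_of_not_mem
      intro hmemN
      apply hg
      have hyp : (g⁻¹ * x * g) ^ p = 1 := by
        have : g⁻¹ * x * g = g⁻¹ * x * g⁻¹⁻¹ := by rw [inv_inv]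
        rw [this, conj_pow, hxp]
        group
      have hmem : g⁻¹ * x * g⁻¹⁻¹ ∈ (P : Subgroup G) := by
        rw [inv_inv]
        exact Helper95_B43_IND2.mem_P_of_mem_NP hmemN hyp
      have h2 := Helper17_TIPrime.mem_normalizer_of_conj_mem_prime (P : Subgroup G) hP hx hx1 hmem
      have h3 := (NP P).inv_mem h2
      rwa [inv_inv] at h3
  simp_rw [key]
  rw [Finset.sum_boole]
  have hc : (Finset.univ.filter (fun g : G => g ∈ NP P)).card = Nat.card ↥(NP P) :=
    (Nat.subtype_card _ (by simp)).symm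
  rw [hc]
  have h4 : (Nat.card ↥(NP P) : ℂ) ≠ 0 := Nat.cast_ne_zero.mpr Nat.card_pos.ne'
  field_simp

/-- The degree of the permutation character on the Sylow subgroups. -/
theorem psi_one [Fintype G] {p : ℕ} [Fact p.Prime] (P : Sylow p G)
    (n : ℕ) (hn : Nat.card (Sylow p G) = 1 + n * p) :
    indFun (NP P) (fun _ => (1 : ℂ)) 1 = ((1 + n * p : ℕ) : ℂ) := by
  rw [Helper75_Induced.indFun_one]
  have h2 : Nat.card ↥(NP P) * (NP P).index = Nat.card G := Subgroup.card_mul_index (NP P)
  have h3 : (NP P).index = 1 + n * p := by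
    rw [← hn]
    exact (Sylow.card_eq_index_normalizer P).symm
  have h4 : (Nat.card ↥(NP P) : ℂ) ≠ 0 := Nat.cast_ne_zero.mpr Nat.card_pos.ne'
  rw [mul_one, ← h2, h3, Nat.cast_mul]
  field_simp

/-- The multiplicity of the principal character of a subgroup `N ≥ P` in a character of `G` is at
most the multiplicity of the principal character of `P`. -/
theorem mult_le_pavg [Fintype G] {p : ℕ} [Fact p.Prime] (P : Sylow p G) [Fintype ↥(NP P)]
    (χ : IrrCharacter G) (c m : ℕ)
    (hc : classInner (fun _ : ↥(NP P) => (1 : ℂ)) (fun h : ↥(NP P) => (χ : G → ℂ) h) = c)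
    (hm : (m : ℂ) = pavg P (χ : G → ℂ)) : c ≤ m := by
  classical
  letI : Fintype ↥(P : Subgroup G) := Fintype.ofFinite _
  set θ : ↥(NP P) → ℂ := fun h => (χ : G → ℂ) h with hθdef
  have hθ : IsCharacter ↥(NP P) θ :=
    Helper75_CharArith.isCharacter_restrict (NP P)
      (Helper3_CharBridge.isCharacter_of_isIrrCharacter χ.2)
  obtain ⟨mult, hmult, hsum⟩ := Helper75_CharArith.exists_multiplicities hθ
  -- the inclusion of `P` in `N`
  let incl : ↥(P : Subgroup G) →* ↥(NP P) := Subgroup.inclusion Subgroup.le_normalizer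
  -- the multiplicity of `1_P` in an irreducible character of `N`
  have hnat : ∀ ψ : IrrCharacter ↥(NP P), ∃ a : ℕ,
      classInner (fun k : ↥(P : Subgroup G) => (ψ : ↥(NP P) → ℂ) (incl k))
        (fun _ : ↥(P : Subgroup G) => (1 : ℂ)) = a := by
    intro ψ
    exact Helper75_CharArith.classInner_isCharacter_nat
      (Helper75_CharArith.isCharacter_comp incl
        (Helper3_CharBridge.isCharacter_of_isIrrCharacter ψ.2))
      (Helper3_CharBridge.isCharacter_of_isIrrCharacter (isIrrCharacter_one _))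
  choose a ha using hnat
  have ha' : ∀ ψ : IrrCharacter ↥(NP P),
      (Nat.card ↥(P : Subgroup G) : ℂ)⁻¹ * ∑ k : ↥(P : Subgroup G), (ψ : ↥(NP P) → ℂ) (incl k)
        = a ψ := by
    intro ψ
    rw [← ha ψ]
    unfold classInner
    simp
  have haone : a (oneIrr ↥(NP P)) = 1 := by
    have h1 := ha (oneIrr ↥(NP P))
    have h2 : classInner (fun k : ↥(P : Subgroup G) =>
        ((oneIrr ↥(NP P) : IrrCharacter ↥(NP P)) : ↥(NP P) → ℂ) (incl k))
        (fun _ : ↥(P : Subgroup G) => (1 : ℂ)) = 1 :=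
      Helper3_CharOrtho.classInner_self_of_isIrrCharacter (isIrrCharacter_one ↥(P : Subgroup G))
    rw [h2] at h1
    exact_mod_cast h1.symm
  -- `c` is the multiplicity of the principal character of `N`
  have hcm : c = mult (oneIrr ↥(NP P)) := by
    have h1 := hmult (oneIrr ↥(NP P))
    have h2 : classInner (fun _ : ↥(NP P) => (1 : ℂ)) θ =
        conj (classInner θ ((oneIrr ↥(NP P) : IrrCharacter ↥(NP P)) : ↥(NP P) → ℂ)) :=
      (Helper3_CharOrtho.classInner_conj_symm θ _).symm
    rw [h1, Complex.conj_natCast] at h2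
    rw [hc] at h2
    exact_mod_cast h2
  -- `pavg P χ` as a sum of natural numbers
  have hpavg : pavg P (χ : G → ℂ) =
      ((∑ ψ : IrrCharacter ↥(NP P), mult ψ * a ψ : ℕ) : ℂ) := by
    rw [Helper95_B43_IND2.pavg_eq]
    have h1 : ∀ k : ↥(P : Subgroup G), (χ : G → ℂ) (k : G) =
        ∑ ψ : IrrCharacter ↥(NP P), (mult ψ : ℂ) * (ψ : ↥(NP P) → ℂ) (incl k) := by
      intro k
      have h2 : (χ : G → ℂ) (k : G) = θ (incl k) := rfl
      rw [h2, hsum, Finset.sum_apply]
      apply Finset.sum_congr rfl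
      intro ψ _
      rw [Pi.smul_apply, smul_eq_mul]
    simp_rw [h1]
    rw [Finset.sum_comm, Finset.mul_sum]
    push_cast
    apply Finset.sum_congr rfl
    intro ψ _
    rw [← ha' ψ, ← Finset.mul_sum]
    ring
  rw [hpavg] at hm
  have hm' : m = ∑ ψ : IrrCharacter ↥(NP P), mult ψ * a ψ := by exact_mod_cast hm
  rw [hm', hcm]
  calc mult (oneIrr ↥(NP P)) = mult (oneIrr ↥(NP P)) * a (oneIrr ↥(NP P)) := by
        rw [haone, mul_one]
    _ ≤ ∑ ψ : IrrCharacter ↥(NP P), mult ψ * a ψ :=
        Finset.single_le_sum (f := fun ψ => mult ψ * a ψ) (fun _ _ => Nat.zero_le _)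
          (Finset.mem_univ _)

/-- PK-PERM -/
theorem perm_data [Fintype G] {p : ℕ} [Fact p.Prime] (P : Sylow p G) (hP : Nat.card P = p)
    (n : ℕ) (hn : Nat.card (Sylow p G) = 1 + n * p) :
    ∃ c : IrrCharacter G → ℕ, c (oneIrr G) = 1 ∧
      (∀ χ : IrrCharacter G, ∀ m : ℕ, (m : ℂ) = pavg P (χ : G → ℂ) → c χ ≤ m) ∧
      (∑ χ : IrrCharacter G, (c χ : ℂ) * pavg P (χ : G → ℂ) = ((n + 1 : ℕ) : ℂ)) ∧
      (∑ χ : IrrCharacter G, c χ * charDegree (χ : G → ℂ) = 1 + n * p) ∧
      classInner (indFun (NP P) (fun _ => (1 : ℂ))) (indFun (NP P) (fun _ => (1 : ℂ))) =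
        ((∑ χ : IrrCharacter G, c χ ^ 2 : ℕ) : ℂ) := by
  classical
  letI : Fintype ↥(NP P) := Fintype.ofFinite _
  letI : Fintype ↥(P : Subgroup G) := Fintype.ofFinite _
  have hp0 : (p : ℂ) ≠ 0 := Nat.cast_ne_zero.mpr (Fact.out : p.Prime).ne_zero
  set Ψ : G → ℂ := indFun (NP P) (fun _ => (1 : ℂ)) with hΨ
  have hΨcf : IsClassFunction G Ψ := Helper75_Induced.isClassFunction_indFun (NP P) _
  have hrec : ∀ χ : IrrCharacter G, classInner Ψ (χ : G → ℂ) =
      classInner (fun _ : ↥(NP P) => (1 : ℂ)) (fun h : ↥(NP P) => (χ : G → ℂ) h) :=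
    fun χ => Helper75_Induced.frobenius_reciprocity (NP P) _ (χ : G → ℂ)
      (Helper3_CharBridge.isClassFunction_of_isIrrCharacter χ.2)
  have hnat : ∀ χ : IrrCharacter G, ∃ c : ℕ, classInner Ψ (χ : G → ℂ) = c := by
    intro χ
    rw [hrec χ]
    exact Helper75_CharArith.classInner_isCharacter_nat
      (Helper3_CharBridge.isCharacter_of_isIrrCharacter (isIrrCharacter_one _))
      (Helper75_CharArith.isCharacter_restrict (NP P)
        (Helper3_CharBridge.isCharacter_of_isIrrCharacter χ.2))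
  choose c hc using hnat
  -- pointwise expansion
  have hexp : ∀ x : G, Ψ x = ∑ χ : IrrCharacter G, (c χ : ℂ) * (χ : G → ℂ) x := by
    intro x
    have h := congrFun (classFunction_eq_sum Ψ hΨcf) x
    rw [Finset.sum_apply] at h
    refine h.trans ?_
    apply Finset.sum_congr rfl
    intro χ _
    rw [Pi.smul_apply, smul_eq_mul, hc χ]
  refine ⟨c, ?_, ?_, ?_, ?_, ?_⟩
  · have h1 := hc (oneIrr G)
    rw [hrec] at h1
    have h2 : classInner (fun _ : ↥(NP P) => (1 : ℂ))
        (fun h : ↥(NP P) => ((oneIrr G : IrrCharacter G) : G → ℂ) h) = 1 :=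
      Helper3_CharOrtho.classInner_self_of_isIrrCharacter (isIrrCharacter_one ↥(NP P))
    rw [h2] at h1
    exact_mod_cast h1.symm
  · intro χ m hm
    exact mult_le_pavg P χ (c χ) m ((hrec χ).symm.trans (hc χ)) hm
  · -- the left side is `pavg P Ψ`
    have h1 : ∑ χ : IrrCharacter G, (c χ : ℂ) * pavg P (χ : G → ℂ) = pavg P Ψ := by
      simp_rw [Helper95_B43_IND2.pavg_eq, hexp]
      rw [Finset.sum_comm, Finset.mul_sum]
      apply Finset.sum_congr rfl
      intro χ _
      rw [Finset.mul_sum, Finset.mul_sum, Finset.mul_sum]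
      apply Finset.sum_congr rfl
      intro x _
      ring
    rw [h1, Helper95_B43_IND2.pavg_eq]
    have h2 : ∀ x : ↥(P : Subgroup G), Ψ (x : G) =
        1 + (if x = 1 then ((n * p : ℕ) : ℂ) else 0) := by
      intro x
      by_cases hx : x = 1
      · rw [if_pos hx, hx, Subgroup.coe_one, hΨ, psi_one P n hn]
        push_cast
        ring
      · rw [if_neg hx, add_zero]
        exact psi_apply_of_mem P hP x.2 (fun h => hx (Subtype.ext h))
    simp_rw [h2]
    rw [Finset.sum_add_distrib, Finset.sum_ite_eq' Finset.univ (1 : ↥(P : Subgroup G)),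
      if_pos (Finset.mem_univ _), Finset.sum_const, Finset.card_univ, nsmul_eq_mul, mul_one,
      ← Nat.card_eq_fintype_card, hP]
    push_cast
    field_simp
    ring
  · have h1 := hexp 1
    rw [hΨ, psi_one P n hn] at h1
    have h2 : ((∑ χ : IrrCharacter G, c χ * charDegree (χ : G → ℂ) : ℕ) : ℂ) =
        ((1 + n * p : ℕ) : ℂ) := by
      rw [h1]
      push_cast
      apply Finset.sum_congr rfl
      intro χ _
      rw [Cfsg.Agent.Lib.Helper77_BlockBasics.apply_one_eq_charDegree χ]
    exact_mod_cast h2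
  · rw [Helper75_CharArith.classInner_self_eq_sum hΨcf]
    push_cast
    apply Finset.sum_congr rfl
    intro χ _
    rw [hc χ, Complex.conj_natCast]
    ring

end grp

end Cfsg.Agent.Lib.Helper58_BF_PERM
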