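import Mathlib
import Cfsg.Agent.Lib.Helper52_FrobFormula
import Cfsg.Agent.Lib.Helper33_Critical

/-!
# Two lemmas on Frobenius groups acting on `s`-groups with cyclic centralizers (helper58)

Used for Bender--Glauberman Theorem 13.4 (statement S1428), cf. B-G Lemma 12.17.

* `FrobAct U E S`: `U ⋊ E` is a Frobenius group with complement `E` of prime order, acting
  coprimely (by conjugation in the ambient group) on `S`, with `C_S(U)` and `C_S(E)` cyclic.
* `inf_centralizer_sup_eq_bot` (Lemma A): if `S` is a noncyclic `s`-group, `s` odd, then `C_S(UE) = 1`.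
* `false_of_two` (Lemma E): two such Frobenius groups with complements of distinct odd prime orders
  cannot act on the same noncyclic `s`-group `S`.
-/

set_option autoImplicit false
set_option linter.style.haveILetI false
set_option linter.unusedSectionVars false

namespace Cfsg.Agent.Lib.Helper58_BG134

open Subgroup

variable {X : Type*} [Group X]

/-- `U ⋊ E` is a Frobenius group with complement `E` of prime order acting coprimely on `S`, and
`C_S(U)`, `C_S(E)` are cyclic -/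
structure FrobAct (U E S : Subgroup X) : Prop where
  prime : (Nat.card E).Prime
  norm : ∀ e ∈ E, ∀ u ∈ U, e * u * e⁻¹ ∈ U
  fpf : ∀ e ∈ E, e ≠ 1 → ∀ u ∈ U, e * u = u * e → u = 1
  normS : U ⊔ E ≤ normalizer (S : Set X)
  cop : (Nat.card ↥(U ⊔ E)).Coprime (Nat.card S)
  cycU : IsCyclic ↥(S ⊓ centralizer (U : Set X))
  cycE : IsCyclic ↥(S ⊓ centralizer (E : Set X))

/-- a subgroup of a cyclic subgroup is cyclic -/
theorem isCyclic_of_le {K L : Subgroup X} (hKL : K ≤ L) (hL : IsCyclic ↥L) : IsCyclic ↥K :=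
  isCyclic_of_injective (Subgroup.inclusion hKL) (Subgroup.inclusion_injective hKL)

/-- a cyclic subgroup of exponent dividing `s` has order dividing `s` -/
theorem card_dvd_of_isCyclic_of_exp {K : Subgroup X} (hK : IsCyclic ↥K) {s : ℕ}
    (hexp : ∀ k ∈ K, k ^ s = 1) : Nat.card ↥K ∣ s := by
  obtain ⟨g, hg⟩ := hK.exists_generator
  have h1 : orderOf g = Nat.card ↥K := orderOf_eq_card_of_forall_mem_zpowers hg
  rw [← h1]
  apply orderOf_dvd_of_pow_eq_one
  exact Subtype.ext (by simpa using hexp g g.2)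

/-- in a cyclic subgroup `L`, a subgroup `K` of order `s` contains every `y ∈ L` with `y ^ s = 1` -/
theorem mem_of_pow_eq_one_of_isCyclic [Finite X] {K L : Subgroup X} (hKL : K ≤ L) (hL : IsCyclic ↥L)
    {s : ℕ} (hs : 0 < s) (hK : Nat.card ↥K = s) (hKexp : ∀ k ∈ K, k ^ s = 1) {y : X} (hy : y ∈ L)
    (hys : y ^ s = 1) : y ∈ K := by
  classical
  haveI : Fintype ↥L := Fintype.ofFinite _
  have hle := IsCyclic.card_pow_eq_one_le (α := ↥L) hs
  -- the set of solutions contains the image of `K`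
  let T : Finset ↥L := Finset.univ.filter (fun a : ↥L => a ^ s = 1)
  let KL : Finset ↥L := Finset.univ.filter (fun a : ↥L => (a : X) ∈ K)
  have hsub : KL ⊆ T := by
    intro a ha
    simp only [KL, Finset.mem_filter, Finset.mem_univ, true_and] at ha
    simp only [T, Finset.mem_filter, Finset.mem_univ, true_and]
    exact Subtype.ext (by simpa using hKexp a ha)
  have hcardKL : KL.card = s := by
    rw [← hK, ← Fintype.card_coe KL, ← Nat.card_eq_fintype_card]
    apply Nat.card_congr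
    refine ⟨fun a => ⟨a.1.1, by
      have := a.2
      simp only [KL, Finset.mem_filter, Finset.mem_univ, true_and] at this
      exact this⟩, fun k => ⟨⟨k.1, hKL k.2⟩, by
      simp only [KL, Finset.mem_filter, Finset.mem_univ, true_and]
      exact k.2⟩, fun a => by ext; rfl, fun k => by ext; rfl⟩
  have hTcard : T.card ≤ s := hle
  have hEq : KL = T := Finset.eq_of_subset_of_card_le hsub (by rw [hcardKL]; exact hTcard)
  have hyT : (⟨y, hy⟩ : ↥L) ∈ T := by
    simp only [T, Finset.mem_filter, Finset.mem_univ, true_and]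
    exact Subtype.ext (by simpa using hys)
  rw [← hEq] at hyT
  simp only [KL, Finset.mem_filter, Finset.mem_univ, true_and] at hyT
  exact hyT


/-- **The counting lemma.**  Let `D ≤ S` be a `UE`-invariant subgroup of exponent `s`.  Then `|D| ≤ s`,
or `C_D(UE) = 1`, `|C_D(E)| = s` and `|D| ∈ {s ^ r, s ^ (r + 1)}` with `r = |E|`. -/
theorem card_cases [Finite X] {s : ℕ} [hs : Fact s.Prime] {U E S D : Subgroup X} (h : FrobAct U E S)
    (hS : IsPGroup s S) (hDS : D ≤ S) (hDn : U ⊔ E ≤ normalizer (D : Set X))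
    (hexp : ∀ d ∈ D, d ^ s = 1) :
    Nat.card ↥D ≤ s ∨ (D ⊓ centralizer ((U ⊔ E : Subgroup X) : Set X) = ⊥ ∧
      Nat.card ↥(D ⊓ centralizer (E : Set X)) = s ∧
      (Nat.card ↥D = s ^ Nat.card ↥E ∨ Nat.card ↥D = s ^ (Nat.card ↥E + 1))) := by
  have hsp : s.Prime := hs.out
  have hE1 : E ≠ ⊥ := by
    intro hE
    have := h.prime
    rw [hE, Subgroup.card_bot] at this
    exact Nat.not_prime_one this
  have hDp : IsPGroup s D := hS.to_le hDS
  have hsolv : Group.IsSolvable ↥D := by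
    haveI := hDp.isNilpotent
    infer_instance
  have hcop : (Nat.card ↥(U ⊔ E)).Coprime (Nat.card ↥D) :=
    h.cop.coprime_dvd_right (Subgroup.card_dvd_of_le hDS)
  have hform := Cfsg.Agent.Lib.Helper52_FrobFormula.frobenius_formula U E D hE1 h.norm h.fpf hDn
    hsolv hcop
  have ha_dvd : Nat.card ↥(D ⊓ centralizer (E : Set X)) ∣ s :=
    card_dvd_of_isCyclic_of_exp (isCyclic_of_le (inf_le_inf_right _ hDS) h.cycE)
      (fun k hk => hexp k hk.1)
  have hb_dvd : Nat.card ↥(D ⊓ centralizer (U : Set X)) ∣ s :=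
    card_dvd_of_isCyclic_of_exp (isCyclic_of_le (inf_le_inf_right _ hDS) h.cycU)
      (fun k hk => hexp k hk.1)
  have hcE : D ⊓ centralizer ((U ⊔ E : Subgroup X) : Set X) ≤ D ⊓ centralizer (E : Set X) :=
    inf_le_inf_left _ (Subgroup.centralizer_le (le_sup_right : E ≤ U ⊔ E))
  have hc_dvd_a : Nat.card ↥(D ⊓ centralizer ((U ⊔ E : Subgroup X) : Set X)) ∣
      Nat.card ↥(D ⊓ centralizer (E : Set X)) := Subgroup.card_dvd_of_le hcE
  have hb_le : Nat.card ↥(D ⊓ centralizer (U : Set X)) ≤ s := Nat.le_of_dvd hsp.pos hb_dvd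
  have hrpos : 0 < Nat.card ↥E := Nat.card_pos
  rcases (Nat.dvd_prime hsp).mp ha_dvd with ha | ha
  · -- `a = 1`
    left
    have hc1 : Nat.card ↥(D ⊓ centralizer ((U ⊔ E : Subgroup X) : Set X)) = 1 := by
      rw [ha] at hc_dvd_a
      exact Nat.dvd_one.mp hc_dvd_a
    rw [ha, hc1, one_pow, one_mul, one_mul] at hform
    rw [hform]
    exact hb_le
  · -- `a = s`
    have hc_dvd : Nat.card ↥(D ⊓ centralizer ((U ⊔ E : Subgroup X) : Set X)) ∣ s := ha ▸ hc_dvd_a
    rcases (Nat.dvd_prime hsp).mp hc_dvd with hc | hc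
    · right
      refine ⟨Subgroup.card_eq_one.mp hc, ha, ?_⟩
      rw [ha, hc, one_pow, one_mul] at hform
      rcases (Nat.dvd_prime hsp).mp hb_dvd with hb | hb
      · left
        rw [hform, hb, mul_one]
      · right
        rw [hform, hb, pow_succ]
    · left
      rw [ha, hc] at hform
      have hpos : 0 < s ^ Nat.card ↥E := pow_pos hsp.pos _
      have := Nat.eq_of_mul_eq_mul_left hpos hform
      rw [this]
      exact hb_le


/-- **A characteristic subgroup of exponent `s` detecting `s'`-automorphisms** (Thompson's critical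
subgroup, from `Helper33_Critical`), in ambient form. -/
theorem exists_char [Finite X] {s : ℕ} [hs : Fact s.Prime] (hs2 : s ≠ 2) (S : Subgroup X)
    (hS : IsPGroup s S) :
    ∃ D : Subgroup X, D ≤ S ∧ normalizer (S : Set X) ≤ normalizer (D : Set X) ∧
      (∀ d ∈ D, d ^ s = 1) ∧
      ∀ g ∈ normalizer (S : Set X), (orderOf g).Coprime s → (∀ d ∈ D, g * d * g⁻¹ = d) →
        ∀ y ∈ S, g * y * g⁻¹ = y := by
  have hsp : s.Prime := hs.out
  have hpe2 : s ∣ s.choose 2 := by
    apply Nat.Prime.dvd_choose_self hsp (by norm_num)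
    have := hsp.two_le
    omega
  obtain ⟨D', hDinv, -, hDexp, -, hDcrit⟩ :=
    Cfsg.Agent.Lib.Helper33_Critical.exists_omega_critical (P := ↥S) hS dvd_rfl hpe2 ⊤ le_top ⊤
      (fun α _ d _ => Subgroup.mem_top _)
  let ca := Cfsg.Agent.Lib.Helper52_FrobAct.conjAut (normalizer (S : Set X)) S le_rfl
  refine ⟨D'.map S.subtype, Subgroup.map_subtype_le _, ?_, ?_, ?_⟩
  · intro g hg
    rw [Subgroup.mem_normalizer_iff]
    have key : ∀ g ∈ normalizer (S : Set X), ∀ d ∈ D'.map S.subtype,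
        g * d * g⁻¹ ∈ D'.map S.subtype := by
      intro g hg d hd
      obtain ⟨d', hd', rfl⟩ := hd
      exact ⟨ca ⟨g, hg⟩ d', hDinv _ (Subgroup.mem_top _) d' hd', rfl⟩
    intro d
    constructor
    · exact key g hg d
    · intro hd
      have := key g⁻¹ (inv_mem hg) _ hd
      have e : g⁻¹ * (g * d * g⁻¹) * g⁻¹⁻¹ = d := by group
      rwa [e] at this
  · rintro _ ⟨d', hd', rfl⟩
    have := hDexp d' hd'
    have h2 := congrArg Subtype.val this
    simpa using h2
  · intro g hg hcop hfix y hy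
    have hord : orderOf (ca ⟨g, hg⟩) ∣ orderOf g := by
      have h1 : orderOf (ca ⟨g, hg⟩) ∣ orderOf (⟨g, hg⟩ : normalizer (S : Set X)) :=
        orderOf_map_dvd ca _
      rwa [Subgroup.orderOf_mk] at h1
    have hcop' : (orderOf (ca ⟨g, hg⟩)).Coprime s := Nat.Coprime.coprime_dvd_left hord hcop
    have hfix' : ∀ d ∈ D', ca ⟨g, hg⟩ d = d := by
      intro d hd
      apply Subtype.ext
      exact hfix _ ⟨d, hd, rfl⟩
    have := hDcrit (ca ⟨g, hg⟩) (Subgroup.mem_top _) hcop' hfix' ⟨y, hy⟩ (Subgroup.mem_top _)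
    exact congrArg Subtype.val this


/-- conjugations by elements normalizing a cyclic subgroup commute on it -/
theorem conj_comm_of_isCyclic {D : Subgroup X} (hD : IsCyclic ↥D) {x y : X}
    (hx : x ∈ normalizer (D : Set X)) (hy : y ∈ normalizer (D : Set X)) {d : X} (hd : d ∈ D) :
    x * (y * d * y⁻¹) * x⁻¹ = y * (x * d * x⁻¹) * y⁻¹ := by
  obtain ⟨g, hg⟩ := hD.exists_generator
  have hxg : x * (g : X) * x⁻¹ ∈ D := (Subgroup.mem_normalizer_iff.mp hx _).mp g.2
  have hyg : y * (g : X) * y⁻¹ ∈ D := (Subgroup.mem_normalizer_iff.mp hy _).mp g.2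
  obtain ⟨i, hi⟩ := Subgroup.mem_zpowers_iff.mp (hg ⟨_, hxg⟩)
  obtain ⟨j, hj⟩ := Subgroup.mem_zpowers_iff.mp (hg ⟨_, hyg⟩)
  obtain ⟨n, hn⟩ := Subgroup.mem_zpowers_iff.mp (hg ⟨d, hd⟩)
  have hi' : x * (g : X) * x⁻¹ = (g : X) ^ i := by
    have := congrArg Subtype.val hi
    simpa using this.symm
  have hj' : y * (g : X) * y⁻¹ = (g : X) ^ j := by
    have := congrArg Subtype.val hj
    simpa using this.symm
  have hn' : d = (g : X) ^ n := by
    have := congrArg Subtype.val hn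
    simpa using this.symm
  have cx : ∀ (a : X) (k : ℤ), x * a ^ k * x⁻¹ = (x * a * x⁻¹) ^ k := fun a k => by
    rw [conj_zpow]
  have cy : ∀ (a : X) (k : ℤ), y * a ^ k * y⁻¹ = (y * a * y⁻¹) ^ k := fun a k => by
    rw [conj_zpow]
  rw [hn', cy, hj', cx, cx, hi', cx, hi', cy, cy, hj']
  rw [← zpow_mul, ← zpow_mul, ← zpow_mul, ← zpow_mul]
  congr 1
  ring

/-- the kernel of a Frobenius group acts trivially on an invariant cyclic subgroup -/
theorem conj_eq_of_isCyclic [Finite X] {U E D : Subgroup X} (hE1 : E ≠ ⊥)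
    (hUn : ∀ e ∈ E, ∀ u ∈ U, e * u * e⁻¹ ∈ U)
    (hfpf : ∀ e ∈ E, e ≠ 1 → ∀ u ∈ U, e * u = u * e → u = 1)
    (hDn : U ⊔ E ≤ normalizer (D : Set X)) (hD : IsCyclic ↥D) {u : X} (hu : u ∈ U) {d : X}
    (hd : d ∈ D) : u * d * u⁻¹ = d := by
  obtain ⟨e, he1⟩ := (Subgroup.ne_bot_iff_exists_ne_one).mp hE1
  have he1' : (e : X) ≠ 1 := fun h => he1 (Subtype.ext h)
  -- the map `v ↦ e v e⁻¹ v⁻¹` is a bijection of `U`
  let f : ↥U → ↥U := fun v => ⟨(e : X) * v * (e : X)⁻¹ * (v : X)⁻¹,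
    mul_mem (hUn e e.2 v v.2) (inv_mem v.2)⟩
  have hinj : Function.Injective f := by
    intro v w hvw
    have h1 : (e : X) * v * (e : X)⁻¹ * (v : X)⁻¹ = (e : X) * w * (e : X)⁻¹ * (w : X)⁻¹ :=
      congrArg Subtype.val hvw
    have h2 : (e : X) * ((w : X)⁻¹ * v) = ((w : X)⁻¹ * v) * e := by
      have h3 : (v : X) * (e : X)⁻¹ * (v : X)⁻¹ = (w : X) * (e : X)⁻¹ * (w : X)⁻¹ := by
        have := congrArg (fun t => (e : X)⁻¹ * t) h1
        simpa [mul_assoc] using this
      have h4 : ((w : X)⁻¹ * v) * (e : X)⁻¹ = (e : X)⁻¹ * ((w : X)⁻¹ * v) := by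
        calc ((w : X)⁻¹ * v) * (e : X)⁻¹ = (w : X)⁻¹ * ((v : X) * (e : X)⁻¹ * (v : X)⁻¹) * v := by
              group
          _ = (w : X)⁻¹ * ((w : X) * (e : X)⁻¹ * (w : X)⁻¹) * v := by rw [h3]
          _ = (e : X)⁻¹ * ((w : X)⁻¹ * v) := by group
      calc (e : X) * ((w : X)⁻¹ * v) = (e : X) * (((w : X)⁻¹ * v) * (e : X)⁻¹) * e := by group
        _ = (e : X) * ((e : X)⁻¹ * ((w : X)⁻¹ * v)) * e := by rw [h4]
        _ = ((w : X)⁻¹ * v) * e := by group
    have h5 := hfpf e e.2 he1' _ (mul_mem (inv_mem w.2) v.2) h2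
    apply Subtype.ext
    have : (v : X) = w * ((w : X)⁻¹ * v) := by group
    rw [this, h5, mul_one]
  have hsurj : Function.Surjective f := Finite.surjective_of_injective hinj
  obtain ⟨v, hv⟩ := hsurj ⟨u, hu⟩
  have hv' : (e : X) * v * (e : X)⁻¹ * (v : X)⁻¹ = u := congrArg Subtype.val hv
  have heN : (e : X) ∈ normalizer (D : Set X) := hDn (mem_sup_right e.2)
  have hvN : (v : X) ∈ normalizer (D : Set X) := hDn (mem_sup_left v.2)
  have heN' : (e : X)⁻¹ ∈ normalizer (D : Set X) := inv_mem heN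
  have hd1 : (v : X)⁻¹ * d * v ∈ D := by
    have := (Subgroup.mem_normalizer_iff.mp (inv_mem hvN) d).mp hd
    simpa using this
  -- commute the actions of `e⁻¹` and `v` on `v⁻¹ d v`
  have hc := conj_comm_of_isCyclic hD hvN heN' hd1
  rw [← hv']
  calc (e : X) * v * (e : X)⁻¹ * (v : X)⁻¹ * d * ((e : X) * v * (e : X)⁻¹ * (v : X)⁻¹)⁻¹
      = (e : X) * ((v : X) * ((e : X)⁻¹ * ((v : X)⁻¹ * d * v) * (e : X)⁻¹⁻¹) * (v : X)⁻¹) *
          (e : X)⁻¹ := by group
    _ = (e : X) * ((e : X)⁻¹ * ((v : X) * ((v : X)⁻¹ * d * v) * (v : X)⁻¹) * (e : X)⁻¹⁻¹) *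
          (e : X)⁻¹ := by rw [hc]
    _ = d := by group


/-- for a noncyclic `s`-group `S` (`s` odd) with `FrobAct U E S` there is a characteristic subgroup
`D` of `S` of exponent `s` and order `> s` -/
theorem exists_big [Finite X] {s : ℕ} [hs : Fact s.Prime] (hs2 : s ≠ 2) {U E S : Subgroup X}
    (h : FrobAct U E S) (hS : IsPGroup s S) (hnc : ¬ IsCyclic ↥S) :
    ∃ D : Subgroup X, D ≤ S ∧ normalizer (S : Set X) ≤ normalizer (D : Set X) ∧
      (∀ d ∈ D, d ^ s = 1) ∧ s < Nat.card ↥D := by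
  have hsp : s.Prime := hs.out
  obtain ⟨D, hDS, hDN, hDexp, hDcrit⟩ := exists_char hs2 S hS
  refine ⟨D, hDS, hDN, hDexp, ?_⟩
  by_contra hlt
  rw [not_lt] at hlt
  apply hnc
  have hE1 : E ≠ ⊥ := by
    intro hE
    have := h.prime
    rw [hE, Subgroup.card_bot] at this
    exact Nat.not_prime_one this
  -- `D` is cyclic
  have hDp : IsPGroup s D := hS.to_le hDS
  obtain ⟨k, hk⟩ := IsPGroup.iff_card.mp hDp
  have hDcyc : IsCyclic ↥D := by
    rcases Nat.lt_or_ge k 1 with hk0 | hk1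
    · have : k = 0 := by omega
      rw [this, pow_zero] at hk
      have hbot : D = ⊥ := Subgroup.card_eq_one.mp hk
      rw [hbot]
      infer_instance
    · have hk1' : k = 1 := by
        by_contra hne
        have h2 : 2 ≤ k := by omega
        have : s ^ 2 ≤ s ^ k := Nat.pow_le_pow_right hsp.pos h2
        have h3 : s * s ≤ s := by
          rw [← pow_two]
          exact this.trans (hk ▸ hlt)
        have := hsp.two_le
        nlinarith
      rw [hk1', pow_one] at hk
      haveI : Fact (Nat.card ↥D).Prime := ⟨hk ▸ hsp⟩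
      exact isCyclic_of_prime_card rfl
  -- `S ≠ ⊥`, so `s ∣ |S|`
  have hS1 : S ≠ ⊥ := by
    intro hbot
    apply hnc
    rw [hbot]
    infer_instance
  have hsS : s ∣ Nat.card ↥S := by
    obtain ⟨m, hm⟩ := IsPGroup.iff_card.mp hS
    rw [hm]
    have hm0 : m ≠ 0 := by
      rintro rfl
      rw [pow_zero] at hm
      exact hS1 (Subgroup.card_eq_one.mp hm)
    exact dvd_pow_self s hm0
  -- `U` centralizes `S`
  have hUS : S ≤ centralizer (U : Set X) := by
    intro y hy
    rw [Subgroup.mem_centralizer_iff]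
    intro u hu
    have huN : u ∈ normalizer (S : Set X) := h.normS (mem_sup_left hu)
    have hcop : (orderOf u).Coprime s := by
      have h1 : orderOf u ∣ Nat.card ↥(U ⊔ E) := by
        have := orderOf_dvd_natCard (⟨u, mem_sup_left hu⟩ : ↥(U ⊔ E))
        rwa [Subgroup.orderOf_mk] at this
      exact (h.cop.coprime_dvd_left h1).coprime_dvd_right hsS
    have hfix : ∀ d ∈ D, u * d * u⁻¹ = d := fun d hd =>
      conj_eq_of_isCyclic hE1 h.norm h.fpf (h.normS.trans hDN) hDcyc hu hd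
    have := hDcrit u huN hcop hfix y hy
    calc u * y = (u * y * u⁻¹) * u := by group
      _ = y * u := by rw [this]
  have hinf : S ⊓ centralizer (U : Set X) = S := inf_eq_left.mpr hUS
  have := h.cycU
  rwa [hinf] at this

/-- **Lemma A.** If `S` is a noncyclic `s`-group, `s` odd, and `FrobAct U E S`, then `C_S(UE) = 1`. -/
theorem inf_centralizer_sup_eq_bot [Finite X] {s : ℕ} [hs : Fact s.Prime] (hs2 : s ≠ 2)
    {U E S : Subgroup X} (h : FrobAct U E S) (hS : IsPGroup s S) (hnc : ¬ IsCyclic ↥S) :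
    S ⊓ centralizer ((U ⊔ E : Subgroup X) : Set X) = ⊥ := by
  have hsp : s.Prime := hs.out
  obtain ⟨D, hDS, hDN, hDexp, hDbig⟩ := exists_big hs2 h hS hnc
  by_contra hne
  -- an element `y` of order `s` in `C_S(UE)`
  have hKp : IsPGroup s ↥(S ⊓ centralizer ((U ⊔ E : Subgroup X) : Set X)) := hS.to_le inf_le_left
  have hsK : s ∣ Nat.card ↥(S ⊓ centralizer ((U ⊔ E : Subgroup X) : Set X)) := by
    obtain ⟨m, hm⟩ := IsPGroup.iff_card.mp hKp
    rw [hm]
    have hm0 : m ≠ 0 := by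
      rintro rfl
      rw [pow_zero] at hm
      exact hne (Subgroup.card_eq_one.mp hm)
    exact dvd_pow_self s hm0
  obtain ⟨y, hy⟩ := exists_prime_orderOf_dvd_card' s hsK
  have hyX : orderOf (y : X) = s := by rw [← hy, Subgroup.orderOf_coe]
  have hys : (y : X) ^ s = 1 := by rw [← hyX]; exact pow_orderOf_eq_one _
  have hy1 : (y : X) ≠ 1 := by
    intro h1
    rw [h1, orderOf_one] at hyX
    exact hsp.one_lt.ne hyX
  rcases card_cases h hS hDS (h.normS.trans hDN) hDexp with hle | ⟨hbot, hcE, -⟩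
  · omega
  · have hyE : (y : X) ∈ S ⊓ centralizer (E : Set X) :=
      ⟨y.2.1, Subgroup.centralizer_le (le_sup_right : E ≤ U ⊔ E) y.2.2⟩
    have hyD : (y : X) ∈ D ⊓ centralizer (E : Set X) :=
      mem_of_pow_eq_one_of_isCyclic (inf_le_inf_right _ hDS) h.cycE hsp.pos hcE
        (fun k hk => hDexp k hk.1) hyE hys
    have : (y : X) ∈ D ⊓ centralizer ((U ⊔ E : Subgroup X) : Set X) := ⟨hyD.1, y.2.2⟩
    rw [hbot, Subgroup.mem_bot] at this
    exact hy1 this

/-- **Lemma E.** Two Frobenius groups with complements of distinct odd prime orders cannot both act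
(in the sense of `FrobAct`) on the same noncyclic `s`-group, `s` odd. -/
theorem false_of_two [Finite X] {s : ℕ} [hs : Fact s.Prime] (hs2 : s ≠ 2)
    {U₁ E₁ U₂ E₂ S : Subgroup X} (h₁ : FrobAct U₁ E₁ S) (h₂ : FrobAct U₂ E₂ S) (hS : IsPGroup s S)
    (hnc : ¬ IsCyclic ↥S) (hne : Nat.card ↥E₁ ≠ Nat.card ↥E₂) (ho₁ : Odd (Nat.card ↥E₁))
    (ho₂ : Odd (Nat.card ↥E₂)) : False := by
  have hsp : s.Prime := hs.out
  obtain ⟨D, hDS, hDN, hDexp, hDbig⟩ := exists_big hs2 h₁ hS hnc
  rcases card_cases h₁ hS hDS (h₁.normS.trans hDN) hDexp with hle | ⟨-, -, hc₁⟩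
  · omega
  rcases card_cases h₂ hS hDS (h₂.normS.trans hDN) hDexp with hle | ⟨-, -, hc₂⟩
  · omega
  obtain ⟨a, ha⟩ := ho₁
  obtain ⟨b, hb⟩ := ho₂
  have hinj := Nat.pow_right_injective hsp.two_le
  rcases hc₁ with hc₁ | hc₁ <;> rcases hc₂ with hc₂ | hc₂
  · have := hinj (hc₁.symm.trans hc₂)
    exact hne this
  · have := hinj (hc₁.symm.trans hc₂)
    omega
  · have := hinj (hc₁.symm.trans hc₂)
    omega
  · have := hinj (hc₁.symm.trans hc₂)
    omega

end Cfsg.Agent.Lib.Helper58_BG134
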