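import Mathlib
import Cfsg.Agent.Lib.Helper75_BRDefs
import Cfsg.Agent.Lib.Helper78_CentralNilp
import Cfsg.Agent.Lib.Helper78_CharFacts

/-!
# Brandt market (architect helper75, row S4607), package A4a (WED), verbatim: `exists_pi_matrix`.
Wedderburn–Artin modulo the nilpotent Jacobson radical.
-/

set_option autoImplicit false

namespace Cfsg.Agent.Lib.Helper58_BR_A4a_WED

open Cfsg Cfsg.Agent.Lib.Helper78_LocalRing Cfsg.Agent.Lib.Helper78_GroupRing
  Cfsg.Agent.Lib.Helper79_Residue Cfsg.Agent.Lib.Helper75_BRDefs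

universe u v w

/-- a product of `n` elements of a left ideal `I` lies in `I ^ n` -/
theorem h58_list_prod_mem_pow {R : Type*} [Semiring R] (I : Ideal R) :
    ∀ L : List R, (∀ x ∈ L, x ∈ I) → L.prod ∈ I ^ L.length := by
  intro L
  induction L using List.reverseRecOn with
  | nil =>
    intro _
    rw [List.prod_nil, List.length_nil, Submodule.pow_zero, Ideal.one_eq_top]
    trivial
  | append_singleton L x ih =>
    intro h
    rw [List.prod_append, List.prod_singleton, List.length_append, List.length_singleton,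
      Submodule.pow_succ]
    exact Ideal.mul_mem_mul (ih (fun y hy => h y (List.mem_append_left _ hy)))
      (h x (List.mem_append_right _ (List.mem_singleton_self x)))

section A

variable {F : Type v} [Field F] {R : Type w} [Ring R] [Algebra F R]

/-- **A4a (WED)**. Wedderburn–Artin modulo the (nilpotent) Jacobson radical. -/
theorem exists_pi_matrix [IsAlgClosed F] [FiniteDimensional F R] :
    ∃ (l : ℕ) (d : Fin l → ℕ) (_ : ∀ i, NeZero (d i))
      (π : R →ₐ[F] (Π i, Matrix (Fin (d i)) (Fin (d i)) F)),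
      Function.Surjective π ∧
      ∃ N : ℕ, ∀ L : List R, L.length = N → (∀ x ∈ L, π x = 0) → L.prod = 0 := by
  have hart : IsArtinianRing R := IsArtinianRing.of_finite F R
  obtain ⟨N, hN⟩ := IsArtinianRing.isNilpotent_jacobson_bot (R := R)
  rw [Ideal.jacobson_bot] at hN
  have hss : IsSemisimpleRing (R ⧸ Ring.jacobson R) := inferInstance
  obtain ⟨l, d, hd, ⟨e⟩⟩ :=
    IsSemisimpleRing.exists_algEquiv_pi_matrix_of_isAlgClosed F (R ⧸ Ring.jacobson R)
  refine ⟨l, d, hd, (e : (R ⧸ Ring.jacobson R) →ₐ[F] _).comp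
    (Ideal.Quotient.mkₐ F (Ring.jacobson R)), ?_, N, ?_⟩
  · intro y
    obtain ⟨z, hz⟩ := e.surjective y
    obtain ⟨x, hx⟩ := Ideal.Quotient.mk_surjective z
    refine ⟨x, ?_⟩
    rw [AlgHom.comp_apply, Ideal.Quotient.mkₐ_eq_mk, hx]
    exact hz
  · intro L hL hx
    have hmem : ∀ x ∈ L, x ∈ Ring.jacobson R := by
      intro x hxL
      have h1 := hx x hxL
      rw [AlgHom.comp_apply, Ideal.Quotient.mkₐ_eq_mk] at h1
      have h2 : (Ideal.Quotient.mk (Ring.jacobson R)) x = 0 := by
        apply e.injective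
        rw [map_zero]
        exact h1
      exact Ideal.Quotient.eq_zero_iff_mem.mp h2
    have h3 := h58_list_prod_mem_pow (Ring.jacobson R) L hmem
    rw [hL, hN] at h3
    exact h3

end A

end Cfsg.Agent.Lib.Helper58_BR_A4a_WED
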