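import Cfsg.Agent.Lib.Helper77_BRDefs

/-!
# S0999 BR-DUAL (helper58, for helper77): invariant characters of a cyclic group

An automorphism (conjugation by `h`) of a finite cyclic group `Q` with at least three fixed points
fixes at least three characters: the invariant characters are the characters of `Q / [Q, h]`, and
`|Q / [Q, h]| = |C_Q(h)|`.
-/

set_option autoImplicit false
set_option linter.unusedVariables false
set_option linter.style.haveILetI false

namespace Cfsg.Agent.Lib.Helper58_BR_DUAL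

open Cfsg Cfsg.Agent.Lib.Helper80_CharBasic Cfsg.Agent.Lib.Helper77_BRDefs
open scoped ComplexConjugate

universe u

/-- An endomorphism of a finite abelian group with at least three fixed points fixes at least three
characters. -/
theorem exists_three_invariant {A : Type*} [CommGroup A] [Finite A] (κ : A →* A)
    (h3 : 3 ≤ Nat.card {a : A // κ a = a}) :
    ∃ f₁ f₂ f₃ : A →* ℂˣ, f₁ ≠ f₂ ∧ f₁ ≠ f₃ ∧ f₂ ≠ f₃ ∧
      ∀ f ∈ ({f₁, f₂, f₃} : Set (A →* ℂˣ)), ∀ a : A, f (κ a) = f a := by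
  classical
  obtain ⟨c, hc⟩ : ∃ c : A →* A, ∀ a, c a = κ a / a := ⟨κ / MonoidHom.id A, fun a => rfl⟩
  obtain ⟨K, hK⟩ : ∃ K : Subgroup A, K = c.range := ⟨_, rfl⟩
  have hker : Nat.card c.ker = Nat.card {a : A // κ a = a} := by
    apply Nat.card_congr
    refine Equiv.subtypeEquivRight fun a => ?_
    rw [MonoidHom.mem_ker, hc, div_eq_one]
  have h1 : Nat.card c.ker * Nat.card K = Nat.card A := by
    have := Subgroup.card_mul_index c.ker
    rwa [Subgroup.index_ker, ← hK] at this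
  have h2 : Nat.card K * K.index = Nat.card A := Subgroup.card_mul_index K
  have hK0 : 0 < Nat.card K := Nat.card_pos
  have hidx : K.index = Nat.card c.ker := by
    have : Nat.card K * K.index = Nat.card K * Nat.card c.ker := by rw [h2, ← h1, mul_comm]
    exact Nat.eq_of_mul_eq_mul_left hK0 this
  have hcardq : 3 ≤ Nat.card (A ⧸ K) := by
    rw [← Subgroup.index_eq_card, hidx, hker]
    exact h3
  haveI : NeZero (Monoid.exponent (A ⧸ K)) := ⟨Monoid.exponent_ne_zero_of_finite⟩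
  have hcardhom : Nat.card ((A ⧸ K) →* ℂˣ) = Nat.card (A ⧸ K) :=
    CommGroup.card_monoidHom_of_hasEnoughRootsOfUnity (A ⧸ K) ℂ
  haveI : Finite ((A ⧸ K) →* ℂˣ) := Nat.finite_of_card_ne_zero (by rw [hcardhom]; omega)
  letI : Fintype ((A ⧸ K) →* ℂˣ) := Fintype.ofFinite _
  have h3' : 2 < Fintype.card ((A ⧸ K) →* ℂˣ) := by
    rw [← Nat.card_eq_fintype_card, hcardhom]
    omega
  obtain ⟨φ₁, φ₂, φ₃, h12, h13, h23⟩ := Fintype.two_lt_card_iff.mp h3'
  have hsurj : Function.Surjective (QuotientGroup.mk' K) := QuotientGroup.mk'_surjective K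
  have hinj : ∀ φ ψ : (A ⧸ K) →* ℂˣ,
      φ.comp (QuotientGroup.mk' K) = ψ.comp (QuotientGroup.mk' K) → φ = ψ := by
    intro φ ψ h
    exact (MonoidHom.cancel_right hsurj).mp h
  have hinv : ∀ (φ : (A ⧸ K) →* ℂˣ) (a : A),
      (φ.comp (QuotientGroup.mk' K)) (κ a) = (φ.comp (QuotientGroup.mk' K)) a := by
    intro φ a
    simp only [MonoidHom.comp_apply, QuotientGroup.mk'_apply]
    congr 1
    rw [QuotientGroup.eq, hK]
    refine ⟨a⁻¹, ?_⟩
    rw [hc, map_inv, div_eq_mul_inv, inv_inv]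
  refine ⟨φ₁.comp (QuotientGroup.mk' K), φ₂.comp (QuotientGroup.mk' K),
    φ₃.comp (QuotientGroup.mk' K), fun h => h12 (hinj _ _ h), fun h => h13 (hinj _ _ h),
    fun h => h23 (hinj _ _ h), ?_⟩
  intro f hf a
  simp only [Set.mem_insert_iff, Set.mem_singleton_iff] at hf
  rcases hf with rfl | rfl | rfl
  · exact hinv φ₁ a
  · exact hinv φ₂ a
  · exact hinv φ₃ a

variable {G : Type u} [Group G] [Fintype G]

/-- S0999 BR-DUAL. -/
theorem DUAL (Q : Subgroup G) (hQcyc : IsCyclic Q) (h : G)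
    (hh : h ∈ Subgroup.normalizer (Q : Set G))
    (h3 : 3 ≤ Nat.card {σ : ↥Q // h * (σ : G) * h⁻¹ = (σ : G)}) :
    ∃ f₁ f₂ f₃ : ↥Q →* ℂˣ, f₁ ≠ f₂ ∧ f₁ ≠ f₃ ∧ f₂ ≠ f₃ ∧
      ∀ f ∈ ({f₁, f₂, f₃} : Set (↥Q →* ℂˣ)), ∀ σ : ↥Q, ∀ hσ : h * (σ : G) * h⁻¹ ∈ Q,
        f ⟨h * (σ : G) * h⁻¹, hσ⟩ = f σ := by
  classical
  letI : CommGroup ↥Q := IsCyclic.commGroup
  have hmem : ∀ σ : ↥Q, h * (σ : G) * h⁻¹ ∈ Q := fun σ =>
    (Subgroup.mem_normalizer_iff.mp hh σ).mp σ.2
  let κ : ↥Q →* ↥Q :=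
    { toFun := fun σ => ⟨h * (σ : G) * h⁻¹, hmem σ⟩
      map_one' := by
        apply Subtype.ext
        simp
      map_mul' := fun a b => by
        apply Subtype.ext
        simp [mul_assoc] }
  have hκ : ∀ σ : ↥Q, ((κ σ : ↥Q) : G) = h * (σ : G) * h⁻¹ := fun σ => rfl
  have h3' : 3 ≤ Nat.card {a : ↥Q // κ a = a} := by
    have : Nat.card {a : ↥Q // κ a = a} =
        Nat.card {σ : ↥Q // h * (σ : G) * h⁻¹ = (σ : G)} := by
      apply Nat.card_congr
      refine Equiv.subtypeEquivRight fun σ => ?_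
      rw [Subtype.ext_iff, hκ]
    rw [this]
    exact h3
  obtain ⟨f₁, f₂, f₃, h12, h13, h23, hinv⟩ := exists_three_invariant κ h3'
  exact ⟨f₁, f₂, f₃, h12, h13, h23, fun f hf σ hσ => hinv f hf σ⟩

end Cfsg.Agent.Lib.Helper58_BR_DUAL
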