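import Cfsg.Agent.Lib.Helper77_BRDefs

/-!
# S0999 BR-EXT (helper58, for helper77): every character of `Q` is the restriction of some `μ_i`

`N_G(P) = P ⋊ Q`: the composite `Q → N → N / P` is an isomorphism, so a homomorphism `Q → ℂˣ`
extends to `N` trivially on `P`, and `LinData.hμ_surj` applies.
-/

set_option autoImplicit false
set_option linter.unusedVariables false
set_option linter.style.haveILetI false

namespace Cfsg.Agent.Lib.Helper58_BR_EXT

open Cfsg Cfsg.Agent.Lib.Helper80_CharBasic Cfsg.Agent.Lib.Helper77_BRDefs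
open scoped ComplexConjugate

universe u

variable {G : Type u} [Group G] [Fintype G] {p : ℕ} [hp : Fact p.Prime]

/-- S0999 BR-EXT. -/
theorem EXT (P : Sylow p G) (hP : Nat.card P = p)
    (hC : ∀ c ∈ Cen P, c ∈ (P : Subgroup G)) (L : LinData P)
    (Q : Subgroup G) (hQN : Q ≤ Nrm P) (hQP : Q ⊓ (P : Subgroup G) = ⊥)
    (hQcard : Nat.card Q = qq P) (f : ↥Q →* ℂˣ) :
    ∃ i : L.ι, ∀ σ : ↥Q, L.μ i (σ : G) = ((f σ : ℂˣ) : ℂ) := by
  classical
  -- `C_G(P) = P`
  haveI : IsCyclic ↥(P : Subgroup G) := isCyclic_of_prime_card hP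
  have hPcomm : ∀ a ∈ (P : Subgroup G), ∀ b ∈ (P : Subgroup G), a * b = b * a := by
    intro a ha b hb
    have := (IsCyclic.commGroup (α := ↥(P : Subgroup G))).mul_comm ⟨a, ha⟩ ⟨b, hb⟩
    exact congrArg Subtype.val this
  have hCen : Cen P = (P : Subgroup G) := by
    apply le_antisymm
    · exact fun c hc => hC c hc
    · intro x hx
      rw [Subgroup.mem_centralizer_iff]
      intro y hy
      exact hPcomm y hy x hx
  -- the quotient `N / P`
  obtain ⟨P', hP'⟩ : ∃ P' : Subgroup ↥(Nrm P), P' = (P : Subgroup G).subgroupOf (Nrm P) :=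
    ⟨_, rfl⟩
  haveI hnorm : P'.Normal := by
    rw [hP']
    exact Subgroup.normal_in_normalizer
  have hidx : P'.index = qq P := by
    rw [hP']
    unfold qq Subgroup.relIndex
    rw [hCen]
  -- the composite `Q → N / P`
  obtain ⟨φ, hφ⟩ : ∃ φ : ↥Q →* ↥(Nrm P) ⧸ P',
      φ = (QuotientGroup.mk' P').comp (Subgroup.inclusion hQN) := ⟨_, rfl⟩
  have hφinj : Function.Injective φ := by
    rw [injective_iff_map_eq_one]
    intro σ hσ
    rw [hφ, MonoidHom.comp_apply, QuotientGroup.mk'_apply, QuotientGroup.eq_one_iff, hP',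
      Subgroup.mem_subgroupOf] at hσ
    have hmem : (σ : G) ∈ Q ⊓ (P : Subgroup G) := ⟨σ.2, hσ⟩
    rw [hQP, Subgroup.mem_bot] at hmem
    exact Subtype.ext hmem
  have hφbij : Function.Bijective φ := by
    apply Function.Injective.bijective_of_nat_card_le hφinj
    rw [← Subgroup.index_eq_card, hidx, hQcard]
  obtain ⟨e, he⟩ : ∃ e : ↥Q ≃* ↥(Nrm P) ⧸ P', ∀ σ, e σ = φ σ :=
    ⟨MulEquiv.ofBijective φ hφbij, fun σ => rfl⟩
  obtain ⟨F, hF⟩ : ∃ F : ↥(Nrm P) →* ℂˣ,
      ∀ x, F x = f (e.symm (QuotientGroup.mk' P' x)) :=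
    ⟨f.comp (e.symm.toMonoidHom.comp (QuotientGroup.mk' P')), fun x => rfl⟩
  have hF1 : ∀ x : ↥(Nrm P), (x : G) ∈ (P : Subgroup G) → F x = 1 := by
    intro x hx
    have h1 : QuotientGroup.mk' P' x = 1 := by
      rw [QuotientGroup.mk'_apply, QuotientGroup.eq_one_iff, hP', Subgroup.mem_subgroupOf]
      exact hx
    rw [hF, h1, map_one, map_one]
  obtain ⟨i, hi⟩ := L.hμ_surj F hF1
  refine ⟨i, fun σ => ?_⟩
  have h1 := hi (Subgroup.inclusion hQN σ)
  have h2 : F (Subgroup.inclusion hQN σ) = f σ := by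
    rw [hF]
    have : QuotientGroup.mk' P' (Subgroup.inclusion hQN σ) = e σ := by
      rw [he, hφ]
      rfl
    rw [this, MulEquiv.symm_apply_apply]
  rw [h2] at h1
  exact h1

end Cfsg.Agent.Lib.Helper58_BR_EXT
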