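import Mathlib
import Cfsg.Prelude.Def_Solvable
import Cfsg.Prelude.Def_Transfer
import Cfsg.Agent.Lib.Helper51_CMDefs
import Cfsg.Agent.Lib.Helper71_CM_F2
import Cfsg.Agent.Lib.Helper79_CM_E1
import Cfsg.Agent.Lib.Helper82_CM_E2
import Cfsg.Agent.Lib.Helper90_CM_E4
import Cfsg.Agent.Lib.Helper90_CM_E5
import Cfsg.Agent.Lib.Helper58_CM_E6Baux

/-!
# CM-E6B (S3905, architect helper51): a non-identity element of the Frobenius kernel of a
self-normalizing member has a normal centralizer.  Verbatim statement; the proof is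
`Helper58_CM_E6Baux.normal_of_mem_kernel_of` fed with the landed packages CM-F2, CM-E1, CM-E2, CM-E4, CM-E5.
-/

set_option autoImplicit false
open Cfsg Cfsg.Agent.Lib.Helper51_CMDefs

namespace Cfsg.Agent.Lib.Helper58_CM_E6B

variable {G Γ : Type*} [Group G] [Group Γ] {ρ : G →* MulAut Γ}

theorem normal_of_mem_kernel (h : Hyp ρ) [Finite Γ] (hCA : CA Γ) {b y : Γ} (hb : b ≠ 1)
    (hsn : Subgroup.normalizer ((Cn b : Subgroup Γ) : Set Γ) = Cn b) (hy : y ≠ 1)
    (hyk : y ∈ Cfsg.frobeniusKernel (Cn b)) : (Cn y).Normal :=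
  Cfsg.Agent.Lib.Helper58_CM_E6Baux.normal_of_mem_kernel_of
    (fun hx hy hw hwx hwy => Cfsg.Agent.Lib.Helper79_CM_E1.Cn_eq_of_common hCA hx hy hw hwx hwy)
    (fun hx => Cfsg.Agent.Lib.Helper82_CM_E2.normal_or_selfNormalizing_aux (ρ := ρ)
      (fun _ hT hinv => Cfsg.Agent.Lib.Helper71_CM_F2.no_between h hx hT hinv))
    (fun hx hsn => Cfsg.Agent.Lib.Helper90_CM_E4.isFrobeniusComplement_Cn h hCA hx hsn)
    (fun B₁ B₂ h1 h2 hd => Cfsg.Agent.Lib.Helper90_CM_E5.two_complements_false B₁ B₂ h1 h2 hd)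
    hb hsn hy hyk

end Cfsg.Agent.Lib.Helper58_CM_E6B
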