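import Mathlib
import Cfsg.Prelude.Def_Characters
import Cfsg.Agent.Lib.Helper80_CharBasic
import Cfsg.Agent.Lib.Helper62_D72Defs

/-!
# S3716 market (architect helper62), package KILL1: the shape `T1` is impossible (`e3 = 2 e2 - e1 = 648` is not `324 (1 + 3 k)`).
-/

set_option autoImplicit false

namespace Cfsg.Agent.Lib.Helper58_D72_KILL1

open Cfsg Cfsg.Agent.Lib.Helper80_CharBasic Cfsg.Agent.Lib.Helper62_D72Defs

theorem kill1 {g : ℕ} {σ : Fin 7 → ℤ} {φ : Fin 7 → ℕ} (h : Exp T1 g σ φ) : False := by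
  have e1 := h.e1
  have e2 := h.e2
  obtain ⟨k, e3⟩ := h.e3
  simp [Fin.sum_univ_succ, T1, colA, colD, aOf, dOf] at e1 e2 e3
  have k1 : (324 : ℚ) * (1 + 3 * (k : ℚ)) = 648 := by
    linear_combination 2 * e2 - e1 - e3
  have k2 : (1 : ℚ) + 3 * (k : ℚ) = 2 := by linarith
  have k3 : 1 + 3 * k = 2 := by exact_mod_cast k2
  omega

end Cfsg.Agent.Lib.Helper58_D72_KILL1
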