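import Mathlib
import Cfsg.Prelude.Def_Characters
import Cfsg.Agent.Lib.Helper80_CharBasic
import Cfsg.Agent.Lib.Helper62_D72Defs
import Cfsg.Agent.Lib.Helper62_D72_DEGSETS

/-!
# S3716 market (architect helper62), package KILL2: the shape `T2` is impossible (`R g > 648` by the degree bounds from `Loc`).
-/

set_option autoImplicit false

namespace Cfsg.Agent.Lib.Helper58_D72_KILL2

open Cfsg Cfsg.Agent.Lib.Helper80_CharBasic Cfsg.Agent.Lib.Helper62_D72Defs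
  Cfsg.Agent.Lib.Helper62_D72_DEGSETS

/-- lower bound for `1 / F` when `F ≥ a > 0` or `F ≤ -b < 0` -/
theorem h58_inv_lower {F : ℤ} {a b : ℤ} (ha : 0 < a) (hb : 0 < b) (hF : a ≤ F ∨ F ≤ -b) :
    -(1 : ℚ) / (b : ℚ) ≤ 1 / (F : ℚ) := by
  have hbq : (0 : ℚ) < (b : ℚ) := by exact_mod_cast hb
  rcases hF with h1 | h1
  · have hFq : (0 : ℚ) < (F : ℚ) := by
      have : 0 < F := lt_of_lt_of_le ha h1
      exact_mod_cast this
    have h2 : (0 : ℚ) < 1 / (F : ℚ) := by positivity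
    have h3 : -(1 : ℚ) / (b : ℚ) < 0 := by
      apply div_neg_of_neg_of_pos <;> linarith
    linarith
  · have h2 : (b : ℚ) ≤ -(F : ℚ) := by
      have : b ≤ -F := by omega
      exact_mod_cast this
    have h3 : 1 / (-(F : ℚ)) ≤ 1 / (b : ℚ) := one_div_le_one_div_of_le hbq h2
    have h4 : 1 / (-(F : ℚ)) = -(1 / (F : ℚ)) := by
      rw [one_div, one_div, inv_neg]
    rw [h4] at h3
    have h5 : -(1 : ℚ) / (b : ℚ) = -(1 / (b : ℚ)) := by ring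
    rw [h5]
    linarith

/-- upper bound for `1 / F` when `F ≥ a > 0` or `F ≤ -b < 0` -/
theorem h58_inv_upper {F : ℤ} {a b : ℤ} (ha : 0 < a) (hb : 0 < b) (hF : a ≤ F ∨ F ≤ -b) :
    1 / (F : ℚ) ≤ (1 : ℚ) / (a : ℚ) := by
  have haq : (0 : ℚ) < (a : ℚ) := by exact_mod_cast ha
  rcases hF with h1 | h1
  · have h2 : (a : ℚ) ≤ (F : ℚ) := by exact_mod_cast h1
    exact one_div_le_one_div_of_le haq h2
  · have hFq : (F : ℚ) < 0 := by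
      have : F < 0 := by omega
      exact_mod_cast this
    have h2 : 1 / (F : ℚ) < 0 := by
      apply div_neg_of_pos_of_neg <;> linarith
    have h3 : (0 : ℚ) < 1 / (a : ℚ) := by positivity
    linarith

theorem h58_sq_lower {σ : ℤ} {φ : ℕ} {a b : ℤ} (hσ : σ = 1 ∨ σ = -1) (c : ℤ) (hc0 : 0 ≤ c) (hca : c ≤ a)
    (hcb : c ≤ b) (hF : a ≤ σ * (φ : ℤ) ∨ σ * (φ : ℤ) ≤ -b) : c ^ 2 ≤ (φ : ℤ) ^ 2 := by
  have h1 : c ≤ (φ : ℤ) := by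
    rcases hσ with h0 | h0 <;> rw [h0] at hF <;> omega
  nlinarith

theorem kill2 {g : ℕ} {σ : Fin 7 → ℤ} {φ : Fin 7 → ℕ} (h : Exp T2 g σ φ) : False := by
  have e1 := h.e1
  have e2 := h.e2
  have sq := h.sq
  simp [Fin.sum_univ_succ, T2, colA, colD, aOf, dOf] at e1 e2 sq
  have d0 := (deg_0001 (h.sgn 0) (h.two 0) (h.loc 0)).2
  have d1 := (deg_0100 (h.sgn 1) (h.two 1) (h.loc 1)).2
  have d2 := (deg_0110 (h.sgn 2) (h.two 2) (h.loc 2)).2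
  have d3 := (deg_0111 (h.sgn 3) (h.two 3) (h.loc 3)).2
  have d4 := (deg_1001 (h.sgn 4) (h.two 4) (h.loc 4)).2
  have d5 := (deg_1010 (h.sgn 5) (h.two 5) (h.loc 5)).2
  have d6 := (deg_1101 (h.sgn 6) (h.two 6) (h.loc 6)).2
  -- the order is large
  have q0 := h58_sq_lower (h.sgn 0) 13 (by norm_num) (by norm_num) (by norm_num) d0
  have q1 := h58_sq_lower (h.sgn 1) 13 (by norm_num) (by norm_num) (by norm_num) d1
  have q2 := h58_sq_lower (h.sgn 2) 10 (by norm_num) (by norm_num) (by norm_num) d2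
  have q3 := h58_sq_lower (h.sgn 3) 15 (by norm_num) (by norm_num) (by norm_num) d3
  have q4 := h58_sq_lower (h.sgn 4) 10 (by norm_num) (by norm_num) (by norm_num) d4
  have q5 := h58_sq_lower (h.sgn 5) 10 (by norm_num) (by norm_num) (by norm_num) d5
  have q6 := h58_sq_lower (h.sgn 6) 15 (by norm_num) (by norm_num) (by norm_num) d6
  have hg1 : (1089 : ℤ) ≤ (g : ℤ) := by linarith
  have hg2 : (1089 : ℚ) ≤ (g : ℚ) := by exact_mod_cast hg1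
  have hg : (g : ℚ) ≠ 0 := by linarith
  -- the signed degrees as rationals
  obtain ⟨F0, hF0⟩ : ∃ F : ℤ, F = σ 0 * (φ 0 : ℤ) := ⟨_, rfl⟩
  obtain ⟨F1, hF1⟩ : ∃ F : ℤ, F = σ 1 * (φ 1 : ℤ) := ⟨_, rfl⟩
  obtain ⟨F2, hF2⟩ : ∃ F : ℤ, F = σ 2 * (φ 2 : ℤ) := ⟨_, rfl⟩
  obtain ⟨F3, hF3⟩ : ∃ F : ℤ, F = σ 3 * (φ 3 : ℤ) := ⟨_, rfl⟩
  obtain ⟨F4, hF4⟩ : ∃ F : ℤ, F = σ 4 * (φ 4 : ℤ) := ⟨_, rfl⟩
  obtain ⟨F5, hF5⟩ : ∃ F : ℤ, F = σ 5 * (φ 5 : ℤ) := ⟨_, rfl⟩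
  obtain ⟨F6, hF6⟩ : ∃ F : ℤ, F = σ 6 * (φ 6 : ℤ) := ⟨_, rfl⟩
  have c0 : ((σ 0 : ℚ) * (φ 0 : ℚ)) = (F0 : ℚ) := by rw [hF0]; push_cast; ring
  have c1 : ((σ 1 : ℚ) * (φ 1 : ℚ)) = (F1 : ℚ) := by rw [hF1]; push_cast; ring
  have c2 : ((σ 2 : ℚ) * (φ 2 : ℚ)) = (F2 : ℚ) := by rw [hF2]; push_cast; ring
  have c3 : ((σ 3 : ℚ) * (φ 3 : ℚ)) = (F3 : ℚ) := by rw [hF3]; push_cast; ring
  have c4 : ((σ 4 : ℚ) * (φ 4 : ℚ)) = (F4 : ℚ) := by rw [hF4]; push_cast; ring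
  have c5 : ((σ 5 : ℚ) * (φ 5 : ℚ)) = (F5 : ℚ) := by rw [hF5]; push_cast; ring
  have c6 : ((σ 6 : ℚ) * (φ 6 : ℚ)) = (F6 : ℚ) := by rw [hF6]; push_cast; ring
  rw [c0, c1, c2, c3, c4, c5, c6] at e1 e2
  rw [← hF0] at d0
  rw [← hF1] at d1
  rw [← hF2] at d2
  rw [← hF4] at d4
  rw [← hF5] at d5
  have n0 : (F0 : ℚ) ≠ 0 := by
    have : F0 ≠ 0 := by omega
    exact_mod_cast this
  have n1 : (F1 : ℚ) ≠ 0 := by
    have : F1 ≠ 0 := by omega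
    exact_mod_cast this
  -- `F0 = F1`
  have k1 : (g : ℚ) * (-6 / (F0 : ℚ) + 6 / (F1 : ℚ)) = 0 := by
    linear_combination e1 - e2
  have k2 : -6 / (F0 : ℚ) + 6 / (F1 : ℚ) = 0 := by
    rcases mul_eq_zero.mp k1 with h0 | h0
    · exact absurd h0 hg
    · exact h0
  have k3 : (1 : ℚ) / (F1 : ℚ) = 1 / (F0 : ℚ) := by
    linear_combination k2 / 6
  -- the lower bound for `R`
  have b0 := h58_inv_upper (a := 14) (b := 13) (by norm_num) (by norm_num) d0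
  have b2 := h58_inv_lower (a := 10) (b := 17) (by norm_num) (by norm_num) d2
  have b4 := h58_inv_lower (a := 10) (b := 17) (by norm_num) (by norm_num) d4
  have b5 := h58_inv_lower (a := 10) (b := 17) (by norm_num) (by norm_num) d5
  have hR : (g : ℚ) * (1 - 2 / (F0 : ℚ) + 1 / (F2 : ℚ) + 1 / (F4 : ℚ) + 1 / (F5 : ℚ)) = 648 := by
    linear_combination e1 - 2 * (g : ℚ) * k3
  have hRb : (81 : ℚ) / 119 ≤ 1 - 2 / (F0 : ℚ) + 1 / (F2 : ℚ) + 1 / (F4 : ℚ) + 1 / (F5 : ℚ) := by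
    push_cast at b0 b2 b4 b5
    have : (2 : ℚ) / (F0 : ℚ) = 2 * (1 / (F0 : ℚ)) := by ring
    rw [this]
    linarith
  nlinarith [mul_nonneg (sub_nonneg.2 hg2) (sub_nonneg.2 hRb)]

end Cfsg.Agent.Lib.Helper58_D72_KILL2
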