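import Mathlib
import Cfsg.Prelude.Def_Characters
import Cfsg.Agent.Lib.Helper80_CharBasic
import Cfsg.Agent.Lib.Helper62_D72Defs
import Cfsg.Agent.Lib.Helper62_D72_DEGSETS

/-!
# S3716 market (architect helper62), package KILL3: the shape `T3` is impossible (it would give a character of degree 1).
-/

set_option autoImplicit false

namespace Cfsg.Agent.Lib.Helper58_D72_KILL3

open Cfsg Cfsg.Agent.Lib.Helper80_CharBasic Cfsg.Agent.Lib.Helper62_D72Defs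
  Cfsg.Agent.Lib.Helper62_D72_DEGSETS

theorem kill3 {g : ℕ} {σ : Fin 7 → ℤ} {φ : Fin 7 → ℕ} (h : Exp T3 g σ φ) : False := by
  have e1 := h.e1
  have e2 := h.e2
  have dP := h.dP
  have dQ' := h.dQ'
  simp [Fin.sum_univ_succ, T3, colA, colD, aOf, dOf] at e1 e2 dP dQ'
  have hg : (g : ℚ) ≠ 0 := by
    intro hg
    rw [hg, zero_mul] at e1
    norm_num at e1
  have s0 := h.sgn 0
  have s1 := h.sgn 1
  have s4 := h.sgn 4
  have t0 := h.two 0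
  have t1 := h.two 1
  have t4 := h.two 4
  have n0 : ((σ 0 : ℚ) * (φ 0 : ℚ)) ≠ 0 := by
    have : σ 0 * (φ 0 : ℤ) ≠ 0 := by rcases s0 with h0 | h0 <;> rw [h0] <;> omega
    exact_mod_cast this
  have n4 : ((σ 4 : ℚ) * (φ 4 : ℚ)) ≠ 0 := by
    have : σ 4 * (φ 4 : ℤ) ≠ 0 := by rcases s4 with h0 | h0 <;> rw [h0] <;> omega
    exact_mod_cast this
  have k1 : (g : ℚ) * (-6 / ((σ 0 : ℚ) * (φ 0 : ℚ)) + 6 / ((σ 4 : ℚ) * (φ 4 : ℚ))) = 0 := by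
    linear_combination e1 - e2
  have k2 : -6 / ((σ 0 : ℚ) * (φ 0 : ℚ)) + 6 / ((σ 4 : ℚ) * (φ 4 : ℚ)) = 0 := by
    rcases mul_eq_zero.mp k1 with h0 | h0
    · exact absurd h0 hg
    · exact h0
  have k3 : ((σ 0 : ℚ) * (φ 0 : ℚ)) = ((σ 4 : ℚ) * (φ 4 : ℚ)) := by
    have h1 : 6 / ((σ 0 : ℚ) * (φ 0 : ℚ)) = 6 / ((σ 4 : ℚ) * (φ 4 : ℚ)) := by
      linear_combination -k2
    rw [div_eq_div_iff n0 n4] at h1
    linarith
  have k4 : σ 0 * (φ 0 : ℤ) = σ 4 * (φ 4 : ℤ) := by exact_mod_cast k3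
  have k5 : σ 1 * (φ 1 : ℤ) = 1 := by omega
  rcases s1 with h0 | h0 <;> rw [h0] at k5 <;> omega

end Cfsg.Agent.Lib.Helper58_D72_KILL3
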