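import Mathlib
import Cfsg.Prelude.Def_Characters
import Cfsg.Prelude.Def_ParabolicCharacters
import Cfsg.Prelude.Def_LieTypes
import Cfsg.Prelude.Def_ChevB2
import Cfsg.Agent.Lib.Helper40_DefZeroDefs
import Cfsg.Agent.Lib.Helper40_ChevDZDefs
import Cfsg.Agent.Lib.Helper18_ChevData2
import Cfsg.Agent.Lib.Helper18_ChevSolv

/-!
# defzero market wave 3 (architect helper40), package CHCOMM: `B / U` is abelian in a Chevalley group.
-/

set_option autoImplicit false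
open Cfsg Cfsg.Lie Cfsg.Agent.Lib.Helper40_DefZeroDefs Cfsg.Agent.Lib.Helper40_ChevDZDefs

namespace Cfsg.Agent.Lib.Helper58_DZ_CHCOMM

variable {F : Type*} [Field F] (D : ChevalleyDatum)
  (hD : D ∈ [chevG2, chevB2, chevD4, chevF4, chevE6, chevE7, chevE8])
include hD

theorem ch_comm : ∀ a ∈ cB D F, ∀ b ∈ cB D F, a * b * a⁻¹ * b⁻¹ ∈ cU D F := by
  obtain ⟨Ns, c, tc⟩ := Cfsg.Agent.Lib.Helper18_ChevData2.exists_cert2 D hD
  intro a ha b hb
  have ha' : (a : GL D.Idx F) ∈ D.posUnipotent F ⊔ D.diagonalSubgroup F :=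
    Subgroup.mem_subgroupOf.mp ha
  have hb' : (b : GL D.Idx F) ∈ D.posUnipotent F ⊔ D.diagonalSubgroup F :=
    Subgroup.mem_subgroupOf.mp hb
  have key := Cfsg.Agent.Lib.Helper18_ChevSolv.commutator_mem_of_sup (D.posUnipotent F)
    (D.diagonalSubgroup F) (Cfsg.Agent.Lib.Helper18_ChevBorel.diagonal_le_normalizer_pos c tc)
    (fun x hx y hy => Cfsg.Agent.Lib.Helper18_ChevSolv.diagonal_comm c tc x y hx hy)
    (a : GL D.Idx F) (b : GL D.Idx F) ha' hb'
  unfold cU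
  rw [Subgroup.mem_subgroupOf]
  simpa using key

end Cfsg.Agent.Lib.Helper58_DZ_CHCOMM
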