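import Mathlib
import Cfsg.Prelude.Def_Characters
import Cfsg.Prelude.Def_ParabolicCharacters
import Cfsg.Prelude.Def_LieTypes
import Cfsg.Prelude.Def_ChevB2
import Cfsg.Agent.Lib.Helper40_DefZeroDefs
import Cfsg.Agent.Lib.Helper40_ChevDZDefs
import Cfsg.Agent.Lib.Helper18_ChevData5
import Cfsg.Agent.Lib.Helper18_ChevBN
import Cfsg.Agent.Lib.Helper18_ChevPar

/-!
# defzero market wave 3 (architect helper40), package CHCOVER: `P_i = B ∪ U n_i B` in a Chevalley group.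
-/

set_option autoImplicit false
open Cfsg Cfsg.Lie Cfsg.Agent.Lib.Helper40_DefZeroDefs Cfsg.Agent.Lib.Helper40_ChevDZDefs

namespace Cfsg.Agent.Lib.Helper58_DZ_CHCOVER

variable {F : Type*} [Field F] (D : ChevalleyDatum)
  (hD : D ∈ [chevG2, chevB2, chevD4, chevF4, chevE6, chevE7, chevE8])
include hD

theorem ch_cover (i : ℕ) (hi : i < D.rank) :
    cB D F ≤ cP D F i ∧ ∃ nn ∈ cP D F i, ∀ g ∈ cP D F i,
      g ∈ cB D F ∨ ∃ u ∈ cU D F, ∃ b ∈ cB D F, g = u * nn * b := by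
  obtain ⟨Ns, w, d, Ts, hT, K, base, stepT, wl, ws, sc, c, tc, -, pc, ac⟩ :=
    Cfsg.Agent.Lib.Helper18_ChevData5.exists_cert5 D hD
  have hR2 := Cfsg.Agent.Lib.Helper18_ChevComm2.r2_all c pc (F := F)
  obtain ⟨P', hP'⟩ := Cfsg.Agent.Lib.Helper18_ChevBN.exists_subgroup_union c tc ac hR2 i hi
  -- abbreviations
  obtain ⟨n, hn⟩ : ∃ n : GL D.Idx F, n = Cfsg.Agent.Lib.Helper18_ChevGL.nGL c i := ⟨_, rfl⟩
  rw [← hn] at hP'
  have hBle : D.borelSubgroup F ≤ D.parabolicSubgroup F (↑({i} : Finset ℕ) : Set ℕ) := le_sup_left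
  have hnP : n ∈ D.parabolicSubgroup F (↑({i} : Finset ℕ) : Set ℕ) := by
    apply Subgroup.mem_sup_right
    apply Subgroup.subset_closure
    refine ⟨i, by simp, hi, ?_⟩
    rw [hn, Cfsg.Agent.Lib.Helper18_ChevGL.nGL_coe]
  have hnG : n ∈ D.group F := by
    rw [hn]; exact Cfsg.Agent.Lib.Helper18_ChevPar.nGL_mem_group c i
  have hBG : D.borelSubgroup F ≤ D.group F := Cfsg.Agent.Lib.Helper18_ChevGL.borel_le_group c
  have hUG : D.posUnipotent F ≤ D.group F := Cfsg.Agent.Lib.Helper18_ChevGL.posUnipotent_le_group c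
  -- `P_i ≤ P'`
  have hBP' : D.borelSubgroup F ≤ P' := by
    intro x hx
    have : x ∈ (P' : Set (GL D.Idx F)) := by rw [hP']; exact Or.inl hx
    exact this
  have hnP' : n ∈ P' := by
    have : n ∈ (P' : Set (GL D.Idx F)) := by
      rw [hP']
      refine Or.inr ?_
      rw [DoubleCoset.mem_doubleCoset]
      exact ⟨1, Subgroup.one_mem _, 1, Subgroup.one_mem _, by rw [one_mul, mul_one]⟩
    exact this
  have hPle : D.parabolicSubgroup F (↑({i} : Finset ℕ) : Set ℕ) ≤ P' := by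
    unfold ChevalleyDatum.parabolicSubgroup
    apply sup_le hBP'
    rw [Subgroup.closure_le]
    rintro g ⟨j, hj, -, hg⟩
    have hji : j = i := by simpa using hj
    subst hji
    have : g = n := by
      rw [hn]
      exact Units.ext (by rw [hg, Cfsg.Agent.Lib.Helper18_ChevGL.nGL_coe])
    rw [this]
    exact hnP'
  have hHN : D.diagonalSubgroup F ≤ Subgroup.normalizer (D.posUnipotent F : Set (GL D.Idx F)) :=
    Cfsg.Agent.Lib.Helper18_ChevBorel.diagonal_le_normalizer_pos c tc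
  have hnH : n ∈ Subgroup.normalizer (D.diagonalSubgroup F : Set (GL D.Idx F)) := by
    rw [hn]; exact Cfsg.Agent.Lib.Helper18_ChevBN.nGL_mem_normalizer_diagonal c tc i hi
  refine ⟨?_, ⟨n, hnG⟩, ?_, ?_⟩
  · intro x hx
    exact Subgroup.mem_subgroupOf.mpr (hBle (Subgroup.mem_subgroupOf.mp hx))
  · exact Subgroup.mem_subgroupOf.mpr hnP
  · intro g hg
    have hg' : (g : GL D.Idx F) ∈ D.parabolicSubgroup F (↑({i} : Finset ℕ) : Set ℕ) :=
      Subgroup.mem_subgroupOf.mp hg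
    have hg'' : (g : GL D.Idx F) ∈ (P' : Set (GL D.Idx F)) := hPle hg'
    rw [hP'] at hg''
    rcases hg'' with hgB | hgD
    · exact Or.inl (Subgroup.mem_subgroupOf.mpr hgB)
    · right
      rw [DoubleCoset.mem_doubleCoset] at hgD
      obtain ⟨b1, hb1, b2, hb2, hgeq⟩ := hgD
      have hb1' : b1 ∈ D.posUnipotent F ⊔ D.diagonalSubgroup F := hb1
      obtain ⟨u, hu, h, hh, rfl⟩ :=
        Cfsg.Agent.Lib.Helper18_ChevBN.exists_mul_of_mem_sup _ _ hHN hb1'
      -- `n⁻¹ h n ∈ H`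
      have hconj : n⁻¹ * h * n ∈ D.diagonalSubgroup F := by
        have := (Subgroup.mem_normalizer_iff.mp (Subgroup.inv_mem _ hnH) h).mp hh
        rwa [inv_inv] at this
      have hb' : n⁻¹ * h * n * b2 ∈ D.borelSubgroup F :=
        Subgroup.mul_mem _ (Subgroup.mem_sup_right hconj) hb2
      refine ⟨⟨u, hUG hu⟩, Subgroup.mem_subgroupOf.mpr hu, ⟨n⁻¹ * h * n * b2, hBG hb'⟩,
        Subgroup.mem_subgroupOf.mpr hb', ?_⟩
      apply Subtype.ext
      rw [Subgroup.coe_mul, Subgroup.coe_mul]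
      show (g : GL D.Idx F) = u * n * (n⁻¹ * h * n * b2)
      rw [hgeq]
      group

end Cfsg.Agent.Lib.Helper58_DZ_CHCOVER
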