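import Mathlib
import Cfsg.Agent.Lib.Helper16_SylowSub

set_option autoImplicit false
set_option linter.style.haveILetI false
set_option linter.unusedSectionVars false

/-!
Doubly transitive groups of degree `n ≡ 2 (mod 4)` (Aschbacher 1972): every normal subgroup
acting nontrivially is doubly transitive.  Proof by induction on the degree via Witt's lemma
applied to the fixed points of a Sylow `2`-subgroup of a point stabilizer.
-/

namespace Cfsg.Agent.Lib.Helper58_Deg2Mod4

open MulAction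

universe u v

section Syl

variable {G : Type*} [Group G] [Finite G] {p : ℕ} [hp : Fact p.Prime]

/-- `P` is a Sylow `p`-subgroup of the subgroup `H`, everything inside `G`. -/
def IsSyl (p : ℕ) (H P : Subgroup G) : Prop :=
  P ≤ H ∧ Nat.card P = p ^ (Nat.card H).factorization p

omit [Finite G] hp in
theorem IsSyl.isPGroup {H P : Subgroup G} (h : IsSyl p H P) : IsPGroup p P :=
  IsPGroup.of_card h.2

theorem exists_isSyl_ge (H Q : Subgroup G) (hQ : IsPGroup p Q) (hQH : Q ≤ H) :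
    ∃ P, IsSyl p H P ∧ Q ≤ P := by
  obtain ⟨S, hS⟩ := (hQ.comap_subtype (K := H)).exists_le_sylow
  refine ⟨(S : Subgroup H).map H.subtype, ⟨Subgroup.map_subtype_le _, ?_⟩, ?_⟩
  · rw [Subgroup.card_map_of_injective H.subtype_injective, S.card_eq_multiplicity]
  · intro x hx
    exact ⟨⟨x, hQH hx⟩, hS (Subgroup.mem_subgroupOf.mpr hx), rfl⟩

theorem exists_isSyl (H : Subgroup G) : ∃ P, IsSyl p H P := by
  obtain ⟨P, hP, -⟩ := exists_isSyl_ge (p := p) H ⊥ IsPGroup.of_bot bot_le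
  exact ⟨P, hP⟩

omit hp in
theorem factorization_eq_of_le {H K P : Subgroup G} (hp' : p.Prime) (h : IsSyl p H P) (hPK : P ≤ K)
    (hKH : K ≤ H) : (Nat.card K).factorization p = (Nat.card H).factorization p := by
  apply le_antisymm
  · exact (Nat.factorization_le_iff_dvd Nat.card_pos.ne' Nat.card_pos.ne').mpr
      (Subgroup.card_dvd_of_le hKH) p
  · have h1 : Nat.card P ∣ Nat.card K := Subgroup.card_dvd_of_le hPK
    rw [h.2] at h1
    exact (hp'.pow_dvd_iff_le_factorization Nat.card_pos.ne').mp h1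

omit hp in
theorem IsSyl.of_le {H K P : Subgroup G} (hp' : p.Prime) (h : IsSyl p H P) (hPK : P ≤ K)
    (hKH : K ≤ H) : IsSyl p K P :=
  ⟨hPK, by rw [factorization_eq_of_le hp' h hPK hKH]; exact h.2⟩

/-- conjugacy of Sylow subgroups inside `H` -/
theorem IsSyl.exists_conj {H P Q : Subgroup G} (hP : IsSyl p H P) (hQ : IsSyl p H Q) :
    ∃ h ∈ H, ∀ x, x ∈ Q → h * x * h⁻¹ ∈ P := by
  have hc : Nat.card (P.subgroupOf H) = p ^ (Nat.card H).factorization p := by
    rw [← hP.2]
    exact Nat.card_congr (Subgroup.subgroupOfEquivOfLe hP.1).toEquiv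
  let S : Sylow p H := Sylow.ofCard (P.subgroupOf H) hc
  have hS : (S : Subgroup H).map H.subtype = P := by
    show (P.subgroupOf H).map H.subtype = P
    exact Subgroup.map_subgroupOf_eq_of_le hP.1
  obtain ⟨k, hk, hle⟩ := Cfsg.Agent.Lib.Helper16_SylowSub.sylowSub_exists_conj_le S hS hQ.isPGroup hQ.1
  refine ⟨k, hk, fun x hx => ?_⟩
  have : (MulAut.conj k).toMonoidHom x ∈ Q.map (MulAut.conj k).toMonoidHom :=
    Subgroup.mem_map_of_mem _ hx
  have h2 := hle this
  simpa using h2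

omit hp in
/-- an element conjugating a finite subgroup into itself normalizes it -/
theorem mem_normalizer_of_forall (H : Subgroup G) (g : G) (h : ∀ x ∈ H, g * x * g⁻¹ ∈ H) :
    g ∈ Subgroup.normalizer (H : Set G) := by
  have hle : H.map (MulAut.conj g).toMonoidHom ≤ H := by
    rintro _ ⟨x, hx, rfl⟩
    simpa using h x hx
  have heq : H.map (MulAut.conj g).toMonoidHom = H := by
    apply Subgroup.eq_of_le_of_card_ge hle
    rw [Subgroup.card_map_of_injective (MulAut.conj g).injective]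
  rw [Subgroup.mem_normalizer_iff]
  intro x
  constructor
  · exact h x
  · intro hx
    rw [← heq] at hx
    obtain ⟨y, hy, hyx⟩ := hx
    have : y = x := by
      have h3 : g * y * g⁻¹ = g * x * g⁻¹ := by simpa using hyx
      have h4 := congrArg (fun z => g⁻¹ * z * g) h3
      simpa [mul_assoc] using h4
    rwa [← this]

end Syl


section Act

variable {G : Type u} [Group G] [Finite G] {Ω : Type v} [MulAction G Ω]

/-- orbit-stabilizer for a subgroup, with the stabilizer written inside `G` -/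
theorem card_eq_orbit_mul (H : Subgroup G) (a : Ω) :
    Nat.card H = (orbit ↥H a).ncard * Nat.card ↥(H ⊓ stabilizer G a) := by
  have h1 := MulAction.index_stabilizer (↥H) a
  have h2 := Subgroup.card_mul_index (stabilizer ↥H a)
  have h3 : Nat.card (stabilizer ↥H a) = Nat.card ↥(H ⊓ stabilizer G a) := by
    apply Nat.card_congr
    exact
      { toFun := fun x => ⟨x.1.1, x.1.2, x.2⟩
        invFun := fun x => ⟨⟨x.1, x.2.1⟩, x.2.2⟩
        left_inv := fun x => rfl
        right_inv := fun x => rfl }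
  rw [← h2, h1, h3, mul_comm]

theorem card_eq_mul_stab [Finite Ω] (Y : Subgroup G) (htr : ∀ c d : Ω, ∃ y ∈ Y, y • c = d)
    (a : Ω) : Nat.card Y = Nat.card Ω * Nat.card ↥(Y ⊓ stabilizer G a) := by
  rw [card_eq_orbit_mul Y a]
  congr 1
  have : orbit ↥Y a = Set.univ := by
    ext d
    simp only [Set.mem_univ, iff_true]
    obtain ⟨y, hy, h⟩ := htr a d
    exact ⟨⟨y, hy⟩, h⟩
  rw [this, Set.ncard_univ]

theorem factorization_two_of_mod_four {n : ℕ} (hn : n % 4 = 2) : n.factorization 2 = 1 := by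
  have hn0 : n ≠ 0 := by omega
  apply le_antisymm
  · by_contra h
    push Not at h
    have : 2 ^ 2 ∣ n := (Nat.prime_two.pow_dvd_iff_le_factorization hn0).mpr h
    omega
  · have : 2 ^ 1 ∣ n := by omega
    exact (Nat.prime_two.pow_dvd_iff_le_factorization hn0).mp this

theorem mod_four_of_factorization_two {n : ℕ} (hn0 : n ≠ 0) (hn : n.factorization 2 = 1) :
    n % 4 = 2 := by
  have h1 : 2 ^ 1 ∣ n := (Nat.prime_two.pow_dvd_iff_le_factorization hn0).mpr hn.ge
  have h2 : ¬ 2 ^ 2 ∣ n := by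
    intro h
    have := (Nat.prime_two.pow_dvd_iff_le_factorization hn0).mp h
    omega
  omega

/-- a normal subgroup of a doubly transitive group acting nontrivially is transitive -/
theorem normal_transitive (h2 : ∀ a b c d : Ω, a ≠ b → c ≠ d → ∃ g : G, g • a = c ∧ g • b = d)
    (Y : Subgroup G) [hY : Y.Normal] (hnt : ∃ y ∈ Y, ∃ a : Ω, y • a ≠ a) (c d : Ω) :
    ∃ y ∈ Y, y • c = d := by
  by_cases hcd : c = d
  · exact ⟨1, Y.one_mem, by rw [one_smul, hcd]⟩
  obtain ⟨y0, hy0, a0, ha0⟩ := hnt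
  obtain ⟨g, hg1, hg2⟩ := h2 a0 (y0 • a0) c d (Ne.symm ha0) hcd
  refine ⟨g * y0 * g⁻¹, hY.conj_mem y0 hy0 g, ?_⟩
  rw [mul_smul, mul_smul, ← hg1, inv_smul_smul, hg2]

end Act


section Main

variable {G : Type u} [Group G] [Finite G] {Ω : Type v} [Finite Ω] [MulAction G Ω]

/-- the fixed points of a subgroup -/
def fixSet (T0 : Subgroup G) : Set Ω := {c | ∀ x ∈ T0, x • c = c}

variable (Y : Subgroup G) [hYn : Y.Normal] (htr : ∀ c d : Ω, ∃ y ∈ Y, y • c = d)
  (a : Ω) (T0 : Subgroup G) (hT0 : IsSyl 2 (Y ⊓ stabilizer G a) T0)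

include htr in
theorem card_stab_eq (c : Ω) :
    Nat.card ↥(Y ⊓ stabilizer G c) = Nat.card ↥(Y ⊓ stabilizer G a) := by
  have h1 := card_eq_mul_stab Y htr c
  have h2 := card_eq_mul_stab Y htr a
  have hpos : 0 < Nat.card Ω := by
    haveI : Nonempty Ω := ⟨a⟩
    exact Nat.card_pos
  rw [h1] at h2
  exact Nat.eq_of_mul_eq_mul_left hpos h2

include htr hT0 in
theorem isSyl_stab (c : Ω) (hc : c ∈ fixSet (Ω := Ω) T0) :
    IsSyl 2 (Y ⊓ stabilizer G c) T0 := by
  refine ⟨le_inf (hT0.1.trans inf_le_left) (fun x hx => hc x hx), ?_⟩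
  rw [card_stab_eq Y htr a c]
  exact hT0.2

include htr hT0 in
/-- the conjugate of `T0` by `g` is a Sylow subgroup of `Y ⊓ G_{g c}` -/
theorem isSyl_conj (g : G) (c : Ω) (hc : c ∈ fixSet (Ω := Ω) T0) :
    IsSyl 2 (Y ⊓ stabilizer G (g • c)) (T0.map (MulAut.conj g).toMonoidHom) := by
  refine ⟨?_, ?_⟩
  · rintro _ ⟨x, hx, rfl⟩
    refine ⟨?_, ?_⟩
    · have := hYn.conj_mem x (hT0.1.trans inf_le_left hx) g
      simpa using this
    · show (MulAut.conj g).toMonoidHom x • g • c = g • c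
      have : (MulAut.conj g).toMonoidHom x = g * x * g⁻¹ := by simp
      rw [this, mul_smul, mul_smul, inv_smul_smul, hc x hx]
  · rw [Subgroup.card_map_of_injective (MulAut.conj g).injective, card_stab_eq Y htr a (g • c)]
    exact hT0.2

include htr hT0 in
/-- `N_Y(T0)` is transitive on the fixed points of `T0` -/
theorem exists_normalizer_smul (c : Ω) (hc : c ∈ fixSet (Ω := Ω) T0) :
    ∃ g ∈ Y ⊓ Subgroup.normalizer (T0 : Set G), g • a = c := by
  obtain ⟨x, hxY, hxa⟩ := htr a c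
  have ha : a ∈ fixSet (Ω := Ω) T0 := fun y hy => (hT0.1 hy).2
  have h1 := isSyl_conj Y htr a T0 hT0 x a ha
  rw [hxa] at h1
  have h2 := isSyl_stab Y htr a T0 hT0 c hc
  obtain ⟨h, hh, hconj⟩ := h2.exists_conj h1
  refine ⟨h * x, ⟨Y.mul_mem hh.1 hxY, ?_⟩, ?_⟩
  · apply mem_normalizer_of_forall
    intro y hy
    have : (MulAut.conj x).toMonoidHom y ∈ T0.map (MulAut.conj x).toMonoidHom :=
      Subgroup.mem_map_of_mem _ hy
    have h3 := hconj _ this
    have h4 : h * (MulAut.conj x).toMonoidHom y * h⁻¹ = h * x * y * (h * x)⁻¹ := by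
      simp [mul_assoc]
    rwa [h4] at h3
  · rw [mul_smul, hxa]
    exact hh.2

include htr hT0 in
/-- Witt's lemma: `N_G(T0)` is doubly transitive on the fixed points of `T0` -/
theorem witt (h2 : ∀ a b c d : Ω, a ≠ b → c ≠ d → ∃ g : G, g • a = c ∧ g • b = d)
    (c c' e e' : Ω) (hc : c ∈ fixSet (Ω := Ω) T0) (hc' : c' ∈ fixSet (Ω := Ω) T0)
    (he : e ∈ fixSet (Ω := Ω) T0) (he' : e' ∈ fixSet (Ω := Ω) T0) (hcc : c ≠ c') (hee : e ≠ e') :
    ∃ g ∈ Subgroup.normalizer (T0 : Set G), g • c = e ∧ g • c' = e' := by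
  obtain ⟨g1, hg1, hg1'⟩ := h2 c c' e e' hcc hee
  -- the subgroup `H = Y ∩ G_e ∩ G_e'`
  set H : Subgroup G := (Y ⊓ stabilizer G e) ⊓ stabilizer G e' with hH
  have hS1 : IsSyl 2 H T0 := by
    apply (isSyl_stab Y htr a T0 hT0 e he).of_le Nat.prime_two
    · exact le_inf (le_inf (hT0.1.trans inf_le_left) (fun x hx => he x hx)) (fun x hx => he' x hx)
    · exact inf_le_left
  have hS2 : IsSyl 2 H (T0.map (MulAut.conj g1).toMonoidHom) := by
    have h3 := isSyl_conj Y htr a T0 hT0 g1 c hc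
    rw [hg1] at h3
    apply h3.of_le Nat.prime_two
    · rintro _ ⟨x, hx, rfl⟩
      refine ⟨h3.1 (Subgroup.mem_map_of_mem _ hx), ?_⟩
      show (MulAut.conj g1).toMonoidHom x • e' = e'
      have : (MulAut.conj g1).toMonoidHom x = g1 * x * g1⁻¹ := by simp
      rw [this, ← hg1', mul_smul, mul_smul, inv_smul_smul, hc' x hx]
    · exact inf_le_left
  obtain ⟨h, hh, hconj⟩ := hS1.exists_conj hS2
  refine ⟨h * g1, ?_, ?_, ?_⟩
  · apply mem_normalizer_of_forall
    intro y hy
    have : (MulAut.conj g1).toMonoidHom y ∈ T0.map (MulAut.conj g1).toMonoidHom :=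
      Subgroup.mem_map_of_mem _ hy
    have h3 := hconj _ this
    have h4 : h * (MulAut.conj g1).toMonoidHom y * h⁻¹ = h * g1 * y * (h * g1)⁻¹ := by
      simp [mul_assoc]
    rwa [h4] at h3
  · rw [mul_smul, hg1]; exact hh.1.2
  · rw [mul_smul, hg1']; exact hh.2

end Main


section Main2

variable {G : Type u} [Group G] [Finite G] {Ω : Type v} [Finite Ω] [MulAction G Ω]

theorem sign_of_fpf_involution {α : Type*} [Fintype α] [DecidableEq α] (σ : Equiv.Perm α)
    (h2 : σ ^ 2 = 1) (hfpf : ∀ x, σ x ≠ x) (hcard : Fintype.card α % 4 = 2) :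
    Equiv.Perm.sign σ = -1 := by
  have hne : σ ≠ 1 := by
    intro h
    have hpos : 0 < Fintype.card α := by omega
    obtain ⟨x⟩ := Fintype.card_pos_iff.mp hpos
    exact hfpf x (by rw [h]; rfl)
  have hord : orderOf σ = 2 := orderOf_eq_prime h2 hne
  obtain ⟨k, hk⟩ := Equiv.Perm.cycleType_prime_order (σ := σ) (by rw [hord]; exact Nat.prime_two)
  rw [hord] at hk
  have hsum : σ.cycleType.sum = Fintype.card α := by
    rw [Equiv.Perm.sum_cycleType]
    have : σ.support = Finset.univ := by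
      ext x
      simp only [Equiv.Perm.mem_support, Finset.mem_univ, iff_true]
      exact hfpf x
    rw [this, Finset.card_univ]
  rw [Equiv.Perm.sign_of_cycleType, hsum]
  have hc : Multiset.card σ.cycleType = k + 1 := by rw [hk, Multiset.card_replicate]
  have hs2 : Fintype.card α = 2 * (k + 1) := by
    rw [← hsum, hk, Multiset.sum_replicate, smul_eq_mul, mul_comm]
  rw [hc]
  apply Odd.neg_one_pow
  rw [hs2] at hcard ⊢
  rw [Nat.odd_iff]
  omega

theorem le_normalizer_of_card {T T0 : Subgroup G} (hle : T0 ≤ T)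
    (hc : Nat.card T = 2 * Nat.card T0) : T ≤ Subgroup.normalizer (T0 : Set G) := by
  have h1 : (T0.subgroupOf T).index = 2 := by
    have h2 := Subgroup.card_mul_index (T0.subgroupOf T)
    have h3 : Nat.card (T0.subgroupOf T) = Nat.card T0 :=
      Nat.card_congr (Subgroup.subgroupOfEquivOfLe hle).toEquiv
    rw [h3, hc, mul_comm 2] at h2
    exact Nat.eq_of_mul_eq_mul_left Nat.card_pos h2
  haveI := Subgroup.normal_of_index_eq_two h1
  exact Subgroup.le_normalizer_of_normal_subgroupOf hle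

/-- two elements of `T` outside the index-two subgroup `T0` differ by an element of `T0` -/
theorem inv_mul_mem_of_card {T T0 : Subgroup G} (hle : T0 ≤ T)
    (hc : Nat.card T = 2 * Nat.card T0) {s s' : G} (hs : s ∈ T) (hs' : s' ∈ T) (hs0 : s ∉ T0)
    (hs0' : s' ∉ T0) : s⁻¹ * s' ∈ T0 := by
  have h1 : (T0.subgroupOf T).index = 2 := by
    have h2 := Subgroup.card_mul_index (T0.subgroupOf T)
    have h3 : Nat.card (T0.subgroupOf T) = Nat.card T0 :=
      Nat.card_congr (Subgroup.subgroupOfEquivOfLe hle).toEquiv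
    rw [h3, hc, mul_comm 2] at h2
    exact Nat.eq_of_mul_eq_mul_left Nat.card_pos h2
  have h4 := Subgroup.mul_mem_iff_of_index_two h1 (a := (⟨s, hs⟩ : T)⁻¹) (b := ⟨s', hs'⟩)
  have h5 : (⟨s, hs⟩ : T)⁻¹ * ⟨s', hs'⟩ ∈ T0.subgroupOf T := by
    rw [h4, Subgroup.inv_mem_iff]
    simp only [Subgroup.mem_subgroupOf]
    exact ⟨fun h => absurd h hs0, fun h => absurd h hs0'⟩
  simpa [Subgroup.mem_subgroupOf] using h5

variable (Y : Subgroup G) [hYn : Y.Normal] (htr : ∀ c d : Ω, ∃ y ∈ Y, y • c = d)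
  (a : Ω) (T0 : Subgroup G) (hT0 : IsSyl 2 (Y ⊓ stabilizer G a) T0)

include htr hT0 in
theorem exists_T (hn4 : Nat.card Ω % 4 = 2) :
    ∃ T : Subgroup G, IsSyl 2 Y T ∧ T0 ≤ T ∧ Nat.card T = 2 * Nat.card T0 := by
  obtain ⟨T, hT, hle⟩ := exists_isSyl_ge (p := 2) Y T0 hT0.isPGroup (hT0.1.trans inf_le_left)
  refine ⟨T, hT, hle, ?_⟩
  have hΩ : Nat.card Ω ≠ 0 := by omega
  rw [hT.2, hT0.2, card_eq_mul_stab Y htr a, Nat.factorization_mul hΩ Nat.card_pos.ne',
    Finsupp.add_apply, factorization_two_of_mod_four hn4, pow_add, pow_one]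

include hT0 in
theorem exists_moving (T : Subgroup G) (hT : IsSyl 2 Y T) (hc : Nat.card T = 2 * Nat.card T0)
    (c : Ω) (hsyl : IsSyl 2 (Y ⊓ stabilizer G c) T0) : ∃ t ∈ T, t • c ≠ c := by
  by_contra h
  push Not at h
  have hle : T ≤ Y ⊓ stabilizer G c := le_inf hT.1 (fun t ht => h t ht)
  have h1 : Nat.card T ∣ Nat.card ↥(Y ⊓ stabilizer G c) := Subgroup.card_dvd_of_le hle
  rw [hc, hsyl.2, ← pow_succ'] at h1
  have := (Nat.prime_two.pow_dvd_iff_le_factorization Nat.card_pos.ne').mp h1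
  omega

omit [Finite G] [Finite Ω] in
theorem smul_mem_fixSet_of_mem_normalizer {g : G} (hg : g ∈ Subgroup.normalizer (T0 : Set G))
    {c : Ω} (hc : c ∈ fixSet (Ω := Ω) T0) : g • c ∈ fixSet (Ω := Ω) T0 := by
  intro x hx
  have hg' : g⁻¹ ∈ Subgroup.normalizer (T0 : Set G) := Subgroup.inv_mem _ hg
  have h1 : g⁻¹ * x * g⁻¹⁻¹ ∈ T0 := (Subgroup.mem_normalizer_iff.mp hg' x).mp hx
  rw [inv_inv] at h1
  have h2 := hc _ h1
  have h3 : x • g • c = g • ((g⁻¹ * x * g) • c) := by
    rw [← mul_smul, ← mul_smul]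
    congr 1
    group
  rw [h3, h2]

include htr hT0 in
theorem fix_ncard_mod_four (T : Subgroup G) (hT : IsSyl 2 Y T) (hle : T0 ≤ T)
    (hc : Nat.card T = 2 * Nat.card T0) : (fixSet (Ω := Ω) T0).ncard % 4 = 2 := by
  set NY : Subgroup G := Y ⊓ Subgroup.normalizer (T0 : Set G) with hNY
  have ha : a ∈ fixSet (Ω := Ω) T0 := fun y hy => (hT0.1 hy).2
  have horb : orbit ↥NY a = fixSet (Ω := Ω) T0 := by
    ext c
    constructor
    · rintro ⟨g, rfl⟩
      exact smul_mem_fixSet_of_mem_normalizer T0 g.2.2 ha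
    · intro hc
      obtain ⟨g, hg, h⟩ := exists_normalizer_smul Y htr a T0 hT0 c hc
      exact ⟨⟨g, hg⟩, h⟩
  have h1 := card_eq_orbit_mul NY a
  rw [horb] at h1
  have hTN : T ≤ NY := le_inf hT.1 (le_normalizer_of_card hle hc)
  have hv1 : (Nat.card NY).factorization 2 = (Nat.card Y).factorization 2 :=
    factorization_eq_of_le Nat.prime_two hT hTN inf_le_left
  have hT0N : T0 ≤ NY ⊓ stabilizer G a :=
    le_inf (le_inf (hT0.1.trans inf_le_left) Subgroup.le_normalizer) (hT0.1.trans inf_le_right)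
  have hv2 : (Nat.card ↥(NY ⊓ stabilizer G a)).factorization 2
      = (Nat.card ↥(Y ⊓ stabilizer G a)).factorization 2 :=
    factorization_eq_of_le Nat.prime_two hT0 hT0N (inf_le_inf_right _ inf_le_left)
  have hv3 : (Nat.card Y).factorization 2
      = (Nat.card ↥(Y ⊓ stabilizer G a)).factorization 2 + 1 := by
    have := hc
    rw [hT.2, hT0.2, ← pow_succ'] at this
    exact Nat.pow_right_injective (le_refl 2) this
  have hm0 : (fixSet (Ω := Ω) T0).ncard ≠ 0 := by
    intro h0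
    rw [h0, zero_mul] at h1
    exact Nat.card_pos.ne' h1
  have h4 : (Nat.card NY).factorization 2
      = ((fixSet (Ω := Ω) T0).ncard * Nat.card ↥(NY ⊓ stabilizer G a)).factorization 2 := by
    rw [← h1]
  rw [Nat.factorization_mul hm0 Nat.card_pos.ne', Finsupp.add_apply, hv1, hv2, hv3] at h4
  apply mod_four_of_factorization_two hm0
  omega

include htr hT0 in
/-- the Sylow subgroup `T0` of the point stabilizer in `Y` moves some point -/
theorem fixSet_ne_univ
    (h2 : ∀ a b c d : Ω, a ≠ b → c ≠ d → ∃ g : G, g • a = c ∧ g • b = d)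
    (hn4 : Nat.card Ω % 4 = 2) (hn2 : 2 < Nat.card Ω) : fixSet (Ω := Ω) T0 ≠ Set.univ := by
  classical
  intro huniv
  have htriv : ∀ x ∈ T0, ∀ c : Ω, x • c = c := fun x hx c => by
    have : c ∈ fixSet (Ω := Ω) T0 := by rw [huniv]; trivial
    exact this x hx
  obtain ⟨T, hT, hle, hc⟩ := exists_T Y htr a T0 hT0 hn4
  obtain ⟨t, htT, hta⟩ := exists_moving Y a T0 hT0 T hT hc a hT0
  have ht0 : t ∉ T0 := fun h => hta (htriv t h a)
  have ht0' : t⁻¹ ∉ T0 := fun h => ht0 (by simpa using T0.inv_mem h)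
  have htt : t * t ∈ T0 := by
    have := inv_mul_mem_of_card hle hc (T.inv_mem htT) htT ht0' ht0
    simpa using this
  have hfpf : ∀ c : Ω, t • c ≠ c := by
    intro c
    have hsyl := isSyl_stab Y htr a T0 hT0 c (by rw [huniv]; trivial)
    obtain ⟨t', ht'T, ht'c⟩ := exists_moving Y a T0 hT0 T hT hc c hsyl
    have ht'0 : t' ∉ T0 := fun h => ht'c (htriv t' h c)
    have h3 := inv_mul_mem_of_card hle hc htT ht'T ht0 ht'0
    have h4 := htriv _ h3 c
    intro h5
    apply ht'c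
    calc t' • c = t • ((t⁻¹ * t') • c) := by rw [← mul_smul, mul_inv_cancel_left]
      _ = c := by rw [h4, h5]
  haveI : Fintype Ω := Fintype.ofFinite Ω
  let φ : G →* ℤˣ := Equiv.Perm.sign.comp (MulAction.toPermHom G Ω)
  have hφt : φ t = -1 := by
    apply sign_of_fpf_involution
    · ext c
      have := htriv _ htt c
      simpa [sq, mul_smul] using this
    · intro c; exact hfpf c
    · rw [← Nat.card_eq_fintype_card]; exact hn4
  set K : Subgroup G := Y ⊓ φ.ker with hK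
  haveI hKn : K.Normal := Subgroup.normal_inf_normal Y φ.ker
  have htK : t ∉ K := fun h => by
    have h1 : φ t = 1 := h.2
    rw [hφt] at h1
    exact absurd h1 (by decide)
  have hT0K : T0 ≤ K := fun x hx => ⟨(hT0.1 hx).1, MonoidHom.mem_ker.mpr (by
    have h1 : MulAction.toPermHom G Ω x = 1 := by ext c; exact htriv x hx c
    show Equiv.Perm.sign (MulAction.toPermHom G Ω x) = 1
    rw [h1, map_one])⟩
  have hKtriv : ∀ k ∈ K, ∀ c : Ω, k • c = c := by
    by_contra hcon
    push Not at hcon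
    obtain ⟨k, hk, c, hkc⟩ := hcon
    have hKtr := normal_transitive h2 K ⟨k, hk, c, hkc⟩
    have h1 := card_eq_mul_stab K hKtr a
    have h1Y := card_eq_mul_stab Y htr a
    have hΩ : Nat.card Ω ≠ 0 := by omega
    have hvK : (Nat.card K).factorization 2
        = 1 + (Nat.card ↥(K ⊓ stabilizer G a)).factorization 2 := by
      rw [h1, Nat.factorization_mul hΩ Nat.card_pos.ne', Finsupp.add_apply,
        factorization_two_of_mod_four hn4]
    have hvY : (Nat.card Y).factorization 2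
        = 1 + (Nat.card ↥(Y ⊓ stabilizer G a)).factorization 2 := by
      rw [h1Y, Nat.factorization_mul hΩ Nat.card_pos.ne', Finsupp.add_apply,
        factorization_two_of_mod_four hn4]
    have hT0Ka : T0 ≤ K ⊓ stabilizer G a := le_inf hT0K (hT0.1.trans inf_le_right)
    have hge : (Nat.card ↥(Y ⊓ stabilizer G a)).factorization 2
        ≤ (Nat.card ↥(K ⊓ stabilizer G a)).factorization 2 := by
      have hd : Nat.card T0 ∣ Nat.card ↥(K ⊓ stabilizer G a) := Subgroup.card_dvd_of_le hT0Ka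
      rw [hT0.2] at hd
      exact (Nat.prime_two.pow_dvd_iff_le_factorization Nat.card_pos.ne').mp hd
    have hle' : (Nat.card K).factorization 2 ≤ (Nat.card Y).factorization 2 :=
      (Nat.factorization_le_iff_dvd Nat.card_pos.ne' Nat.card_pos.ne').mpr
        (Subgroup.card_dvd_of_le inf_le_left) 2
    have heq : (Nat.card K).factorization 2 = (Nat.card Y).factorization 2 := by omega
    obtain ⟨S, hS⟩ := exists_isSyl (p := 2) K
    have hSY : IsSyl 2 Y S := ⟨hS.1.trans inf_le_left, by rw [hS.2, heq]⟩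
    obtain ⟨h, hh, hconj⟩ := hSY.exists_conj hT
    have h5 := hS.1 (hconj t htT)
    have h6 := hKn.conj_mem _ h5 h⁻¹
    apply htK
    convert h6 using 1
    group
  have hYact : ∀ y ∈ Y, (∀ c : Ω, y • c = c) ∨ (∀ c : Ω, y • c = t • c) := by
    intro y hy
    rcases Int.units_eq_one_or (φ y) with h | h
    · left; exact hKtriv y ⟨hy, h⟩
    · right
      intro c
      have hmem : t⁻¹ * y ∈ K := by
        refine ⟨Y.mul_mem (Y.inv_mem (hT.1 htT)) hy, MonoidHom.mem_ker.mpr ?_⟩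
        rw [map_mul, map_inv, hφt, h]
        decide
      have h3 := hKtriv _ hmem c
      calc y • c = t • ((t⁻¹ * y) • c) := by rw [← mul_smul, mul_inv_cancel_left]
        _ = t • c := by rw [h3]
  obtain ⟨c, hca, hcta⟩ : ∃ c : Ω, c ≠ a ∧ c ≠ t • a := by
    by_contra hcon
    push Not at hcon
    have hsub : (Set.univ : Set Ω) ⊆ {a, t • a} := by
      intro c _
      by_cases h : c = a
      · left; exact h
      · right; exact hcon c h
    have h3 := Set.ncard_le_ncard hsub (Set.toFinite _)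
    rw [Set.ncard_univ] at h3
    have h4 := Set.ncard_insert_le a ({t • a} : Set Ω)
    rw [Set.ncard_singleton] at h4
    omega
  obtain ⟨g, hga, hgc⟩ := h2 a (t • a) a c (Ne.symm hta) (Ne.symm hca)
  have hyY : g * t * g⁻¹ ∈ Y := hYn.conj_mem t (hT.1 htT) g
  have hyc : (g * t * g⁻¹) • a = c := by
    rw [mul_smul, mul_smul]
    have h3 : g⁻¹ • a = a := by rw [inv_smul_eq_iff, hga]
    rw [h3, hgc]
  rcases hYact _ hyY with h | h
  · exact hca (by rw [← hyc, h a])
  · exact hcta (by rw [← hyc, h a])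

end Main2


section Induction

/-- the fixed points of `T0`, acted on by the normalizer of `T0` -/
def fixSub {G : Type u} [Group G] {Ω : Type v} [MulAction G Ω] (T0 : Subgroup G) :
    SubMulAction ↥(Subgroup.normalizer (T0 : Set G)) Ω where
  carrier := fixSet (Ω := Ω) T0
  smul_mem' := fun g _ hc => smul_mem_fixSet_of_mem_normalizer T0 g.2 hc

/-- the key claim for degree `n`: in a doubly transitive group of degree `n ≡ 2 (mod 4)`, `n > 2`,
every normal subgroup acting nontrivially is doubly transitive -/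
def KC (n : ℕ) : Prop :=
  ∀ (G : Type u) [Group G] [Finite G] (Ω : Type v) [Finite Ω] [MulAction G Ω],
    Nat.card Ω = n → n % 4 = 2 → 2 < n →
    (∀ a b c d : Ω, a ≠ b → c ≠ d → ∃ g : G, g • a = c ∧ g • b = d) →
    ∀ (Y : Subgroup G), Y.Normal → (∃ y ∈ Y, ∃ a : Ω, y • a ≠ a) →
    ∀ a b c d : Ω, a ≠ b → c ≠ d → ∃ y ∈ Y, y • a = c ∧ y • b = d

theorem step (n : ℕ) (ih : ∀ m < n, KC.{u, v} m) : KC.{u, v} n := by
  intro G _ _ Ω _ _ hcard hn4 hn2 h2 Y hYn hnt
  subst hcard
  have htr := normal_transitive h2 Y hnt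
  -- reduce to transitivity of the point stabilizers
  suffices hst : ∀ a c c' : Ω, c ≠ a → c' ≠ a → ∃ y ∈ Y, y • a = a ∧ y • c = c' by
    intro a b c d hab hcd
    obtain ⟨y1, hy1, hy1a⟩ := htr a c
    have hb : y1 • b ≠ c := by
      intro h
      rw [← hy1a] at h
      exact hab (smul_left_cancel y1 h).symm
    obtain ⟨y2, hy2, hy2c, hy2d⟩ := hst c (y1 • b) d hb (Ne.symm hcd)
    refine ⟨y2 * y1, Y.mul_mem hy2 hy1, ?_, ?_⟩
    · rw [mul_smul, hy1a, hy2c]
    · rw [mul_smul, hy2d]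
  intro a
  obtain ⟨T0, hT0⟩ := exists_isSyl (p := 2) (Y ⊓ stabilizer G a)
  obtain ⟨T, hT, hle, hc⟩ := exists_T Y htr a T0 hT0 hn4
  obtain ⟨t, htT, hta⟩ := exists_moving Y a T0 hT0 T hT hc a hT0
  have ha : a ∈ fixSet (Ω := Ω) T0 := fun y hy => (hT0.1 hy).2
  have htN : t ∈ Subgroup.normalizer (T0 : Set G) := le_normalizer_of_card hle hc htT
  have htaF : t • a ∈ fixSet (Ω := Ω) T0 := smul_mem_fixSet_of_mem_normalizer T0 htN ha
  have hm4 := fix_ncard_mod_four Y htr a T0 hT0 T hT hle hc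
  have hmlt : (fixSet (Ω := Ω) T0).ncard < Nat.card Ω :=
    Set.ncard_lt_card (fixSet_ne_univ Y htr a T0 hT0 h2 hn4 hn2)
  -- inside the fixed points
  have hL9 : ∀ c c' : Ω, c ∈ fixSet (Ω := Ω) T0 → c' ∈ fixSet (Ω := Ω) T0 → c ≠ a → c' ≠ a →
      ∃ z ∈ Y, z • a = a ∧ z • c = c' := by
    intro c c' hcF hc'F hca hc'a
    by_cases hcc : c = c'
    · exact ⟨1, Y.one_mem, one_smul _ _, by rw [one_smul, hcc]⟩
    have hm2 : 2 < (fixSet (Ω := Ω) T0).ncard := by
      have hsub : ({a, c, c'} : Set Ω) ⊆ fixSet (Ω := Ω) T0 := by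
        intro x hx
        rcases hx with rfl | rfl | rfl
        · exact ha
        · exact hcF
        · exact hc'F
      have h3 := Set.ncard_le_ncard hsub (Set.toFinite _)
      have h4 : ({a, c, c'} : Set Ω).ncard = 3 := by
        rw [Set.ncard_eq_three]
        exact ⟨a, c, c', Ne.symm hca, Ne.symm hc'a, hcc, rfl⟩
      omega
    have hKC := ih _ hmlt ↥(Subgroup.normalizer (T0 : Set G)) ↥(fixSub (Ω := Ω) T0)
      (Nat.card_coe_set_eq _) hm4 hm2
    have h2' : ∀ a' b' c' d' : ↥(fixSub (Ω := Ω) T0), a' ≠ b' → c' ≠ d' →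
        ∃ g : ↥(Subgroup.normalizer (T0 : Set G)), g • a' = c' ∧ g • b' = d' := by
      intro a' b' c' d' hab hcd
      obtain ⟨g, hg, h5, h6⟩ := witt Y htr a T0 hT0 h2 a'.1 b'.1 c'.1 d'.1 a'.2 b'.2 c'.2 d'.2
        (fun h => hab (Subtype.ext h)) (fun h => hcd (Subtype.ext h))
      exact ⟨⟨g, hg⟩, Subtype.ext h5, Subtype.ext h6⟩
    have hnt' : ∃ y ∈ Y.subgroupOf (Subgroup.normalizer (T0 : Set G)),
        ∃ a' : ↥(fixSub (Ω := Ω) T0), y • a' ≠ a' := by
      refine ⟨⟨t, htN⟩, Subgroup.mem_subgroupOf.mpr (hT.1 htT), ⟨a, ha⟩, ?_⟩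
      intro h
      exact hta (congrArg Subtype.val h)
    obtain ⟨z, hz, hza, hzc⟩ := hKC h2' (Y.subgroupOf (Subgroup.normalizer (T0 : Set G)))
      inferInstance hnt' ⟨a, ha⟩ ⟨c, hcF⟩ ⟨a, ha⟩ ⟨c', hc'F⟩
      (fun h => hca (congrArg Subtype.val h).symm) (fun h => hc'a (congrArg Subtype.val h).symm)
    exact ⟨z.1, Subgroup.mem_subgroupOf.mp hz, congrArg Subtype.val hza, congrArg Subtype.val hzc⟩
  -- moving a point into the fixed points
  have hL10 : ∀ c : Ω, c ≠ a → ∃ y ∈ Y, y • a = a ∧ y • c ∈ fixSet (Ω := Ω) T0 := by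
    intro c hca
    obtain ⟨g, hga, hgc⟩ := h2 a (t • a) a c (Ne.symm hta) (Ne.symm hca)
    have hQ := isSyl_conj Y htr a T0 hT0 g a ha
    rw [hga] at hQ
    obtain ⟨h, hh, hconj⟩ := hQ.exists_conj hT0
    refine ⟨h⁻¹, Y.inv_mem hh.1, by rw [inv_smul_eq_iff]; exact hh.2.symm, ?_⟩
    intro x hx
    obtain ⟨x0, hx0, hx0e⟩ := hconj x hx
    have hfix : (h * x * h⁻¹) • c = c := by
      rw [← hx0e]
      have h7 : (MulAut.conj g).toMonoidHom x0 = g * x0 * g⁻¹ := by simp
      rw [h7, mul_smul, mul_smul]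
      have h8 : g⁻¹ • c = t • a := by rw [inv_smul_eq_iff, hgc]
      rw [h8, htaF x0 hx0, hgc]
    calc x • h⁻¹ • c = h⁻¹ • ((h * x * h⁻¹) • c) := by
          rw [← mul_smul, ← mul_smul]
          congr 1
          group
      _ = h⁻¹ • c := by rw [hfix]
  intro c c' hca hc'a
  obtain ⟨y1, hy1, hy1a, hy1c⟩ := hL10 c hca
  obtain ⟨y2, hy2, hy2a, hy2c⟩ := hL10 c' hc'a
  have h1 : y1 • c ≠ a := by
    intro h
    rw [← hy1a] at h
    exact hca (smul_left_cancel y1 h)
  have h2c : y2 • c' ≠ a := by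
    intro h
    rw [← hy2a] at h
    exact hc'a (smul_left_cancel y2 h)
  obtain ⟨z, hz, hza, hzc⟩ := hL9 (y1 • c) (y2 • c') hy1c hy2c h1 h2c
  refine ⟨y2⁻¹ * z * y1, Y.mul_mem (Y.mul_mem (Y.inv_mem hy2) hz) hy1, ?_, ?_⟩
  · rw [mul_smul, mul_smul, hy1a, hza, inv_smul_eq_iff, hy2a]
  · rw [mul_smul, mul_smul, hzc, inv_smul_smul]

theorem kc (n : ℕ) : KC.{u, v} n :=
  Nat.strong_induction_on n step

/-- the final form: every normal subgroup acting nontrivially is doubly transitive -/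
theorem normal_two_transitive {G : Type u} [Group G] [Finite G] {Ω : Type v} [Finite Ω]
    [MulAction G Ω] (hn4 : Nat.card Ω % 4 = 2) (hn2 : 2 < Nat.card Ω)
    (h2 : ∀ a b c d : Ω, a ≠ b → c ≠ d → ∃ g : G, g • a = c ∧ g • b = d)
    (Y : Subgroup G) [hY : Y.Normal] (hnt : ∃ y ∈ Y, ∃ a : Ω, y • a ≠ a)
    (a b c d : Ω) (hab : a ≠ b) (hcd : c ≠ d) : ∃ y ∈ Y, y • a = c ∧ y • b = d :=
  kc.{u, v} (Nat.card Ω) G Ω rfl hn4 hn2 h2 Y hY hnt a b c d hab hcd

end Induction

end Cfsg.Agent.Lib.Helper58_Deg2Mod4
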