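import Mathlib

set_option autoImplicit false
set_option linter.style.haveILetI false

namespace Cfsg.Agent.Lib.Helper58_ExtPrim

open MulAction

variable {G : Type*} [Group G] {Ω : Type*} [MulAction G Ω]

/-- A subgroup `X` of a point stabilizer `G_α` that is normalized by `G_α`
either fixes a `G_α`-orbit pointwise or is transitive on it, provided `G_α` is
primitive on the orbit. -/
theorem trivial_or_transitive (α ω : Ω)
    (hep : IsPreprimitive (stabilizer G α) (orbit (stabilizer G α) ω))
    (X : Subgroup G) (hXle : X ≤ stabilizer G α)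
    (hXn : stabilizer G α ≤ Subgroup.normalizer (X : Set G)) :
    (∀ x ∈ X, ∀ s ∈ orbit (stabilizer G α) ω, x • s = s) ∨
    (∀ s ∈ orbit (stabilizer G α) ω, ∀ t ∈ orbit (stabilizer G α) ω, ∃ x ∈ X, x • s = t) := by
  haveI : (X.subgroupOf (stabilizer G α)).Normal :=
    (Subgroup.normal_subgroupOf_iff_le_normalizer hXle).mpr hXn
  haveI := hep
  by_cases hfix : fixedPoints (X.subgroupOf (stabilizer G α)) (orbit (stabilizer G α) ω) = Set.univ
  · left
    intro x hx s hs
    have hmem : (⟨s, hs⟩ : orbit (stabilizer G α) ω) ∈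
        fixedPoints (X.subgroupOf (stabilizer G α)) (orbit (stabilizer G α) ω) := by
      rw [hfix]; exact Set.mem_univ _
    have := hmem ⟨⟨x, hXle hx⟩, Subgroup.mem_subgroupOf.mpr hx⟩
    exact congrArg Subtype.val this
  · right
    have htr := IsQuasiPreprimitive.isPretransitive_of_normal
      (G := stabilizer G α) (X := orbit (stabilizer G α) ω) hfix
    intro s hs t ht
    obtain ⟨n, hn⟩ := htr.exists_smul_eq ⟨s, hs⟩ ⟨t, ht⟩
    refine ⟨(n.1 : G), Subgroup.mem_subgroupOf.mp n.2, ?_⟩
    exact congrArg Subtype.val hn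

/-- A normal subgroup of a transitive faithful group that fixes a point is trivial. -/
theorem normal_fix_eq_bot [FaithfulSMul G Ω] [IsPretransitive G Ω] (α : Ω)
    (X : Subgroup G) (hX : X.Normal) (hXα : X ≤ stabilizer G α) : X = ⊥ := by
  rw [eq_bot_iff]
  intro x hx
  rw [Subgroup.mem_bot]
  apply FaithfulSMul.eq_of_smul_eq_smul (α := Ω)
  intro ω
  obtain ⟨g, rfl⟩ := exists_smul_eq G α ω
  have h1 : g⁻¹ * x * g ∈ X := by
    have := hX.conj_mem x hx g⁻¹
    simpa using this
  have h2 := hXα h1
  rw [mem_stabilizer_iff, mul_smul, mul_smul, inv_smul_eq_iff] at h2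
  rw [h2, one_smul]

/-- In a primitive group, a subgroup whose normalizer contains a point stabilizer and an
element moving that point is normal. -/
theorem normal_of_normalizer [IsPreprimitive G Ω] (α : Ω) (X : Subgroup G)
    (hX : stabilizer G α ≤ Subgroup.normalizer (X : Set G))
    (hg : ∃ g ∈ Subgroup.normalizer (X : Set G), g • α ≠ α) : X.Normal := by
  obtain ⟨g, hg, hgα⟩ := hg
  haveI : Nontrivial Ω := ⟨⟨g • α, α, hgα⟩⟩
  have hco := IsPreprimitive.isCoatom_stabilizer_of_isPreprimitive (G := G) α
  rcases hco.le_iff.mp hX with h | h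
  · exact Subgroup.normalizer_eq_top_iff.mp h
  · exfalso
    rw [h] at hg
    exact hgα hg

/-- In a faithful primitive group with nontrivial point stabilizers, a point stabilizer
fixes only its own point. -/
theorem fixes_only [FaithfulSMul G Ω] [IsPreprimitive G Ω] (α : Ω)
    (hH : stabilizer G α ≠ ⊥) (γ : Ω) (hγ : ∀ h : G, h • α = α → h • γ = γ) : γ = α := by
  by_contra hne
  haveI : Nontrivial Ω := ⟨⟨γ, α, hne⟩⟩
  have hco := IsPreprimitive.isCoatom_stabilizer_of_isPreprimitive (G := G) α
  have hle : stabilizer G α ≤ stabilizer G γ := fun h hh => hγ h hh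
  obtain ⟨g, hg⟩ := exists_smul_eq G α γ
  rcases hco.le_iff.mp hle with h | h
  · -- the stabilizer of γ is everything
    obtain ⟨g', hg'⟩ := exists_smul_eq G γ α
    have : g' ∈ stabilizer G γ := by rw [h]; exact Subgroup.mem_top _
    rw [mem_stabilizer_iff] at this
    exact hne (this.symm.trans hg')
  · -- the two stabilizers coincide, so `g` normalizes the stabilizer of α
    have hmem : ∀ y : G, y • γ = γ ↔ y • α = α := by
      intro y
      have : y ∈ stabilizer G γ ↔ y ∈ stabilizer G α := by rw [h]
      simpa [mem_stabilizer_iff] using this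
    have hgn : g ∈ Subgroup.normalizer ((stabilizer G α : Subgroup G) : Set G) := by
      rw [Subgroup.mem_normalizer_iff]
      intro x
      rw [mem_stabilizer_iff, mem_stabilizer_iff, ← hmem (g * x * g⁻¹), ← hg, mul_smul, mul_smul,
        inv_smul_smul, smul_left_cancel_iff]
    have hnormal := normal_of_normalizer α (stabilizer G α) Subgroup.le_normalizer
      ⟨g, hgn, by rw [hg]; exact hne⟩
    exact hH (normal_fix_eq_bot α _ hnormal le_rfl)

/-- In a faithful primitive group with nontrivial point stabilizers, a nonempty set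
invariant under two distinct point stabilizers is everything. -/
theorem eq_univ_of_invariant [FaithfulSMul G Ω] [IsPreprimitive G Ω] (α : Ω)
    (hH : stabilizer G α ≠ ⊥) (S : Set Ω) (σ : Ω) (hS : S.Nonempty) (hσ : σ ≠ α)
    (h1 : ∀ h : G, h • α = α → ∀ s ∈ S, h • s ∈ S)
    (h2 : ∀ h : G, h • σ = σ → ∀ s ∈ S, h • s ∈ S) : S = Set.univ := by
  haveI : Nontrivial Ω := ⟨⟨σ, α, hσ⟩⟩
  have hco := IsPreprimitive.isCoatom_stabilizer_of_isPreprimitive (G := G) α
  have hcoσ := IsPreprimitive.isCoatom_stabilizer_of_isPreprimitive (G := G) σ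
  -- the setwise stabilizer of S
  let T : Subgroup G :=
    { carrier := {g | ∀ s, g • s ∈ S ↔ s ∈ S}
      mul_mem' := by
        intro a b ha hb s
        rw [mul_smul, ha (b • s), hb s]
      one_mem' := by intro s; rw [one_smul]
      inv_mem' := by
        intro a ha s
        have := ha (a⁻¹ • s)
        rw [smul_inv_smul] at this
        exact this.symm }
  have hT : ∀ g : G, g ∈ T ↔ ∀ s, g • s ∈ S ↔ s ∈ S := fun g => Iff.rfl
  have hinv : ∀ τ : Ω, (∀ h : G, h • τ = τ → ∀ s ∈ S, h • s ∈ S) → stabilizer G τ ≤ T := by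
    intro τ hτ h hh
    rw [hT]
    intro s
    refine ⟨fun hs => ?_, fun hs => hτ h hh s hs⟩
    have h' : h⁻¹ • τ = τ := by rw [inv_smul_eq_iff]; exact hh.symm
    have := hτ h⁻¹ h' _ hs
    rwa [inv_smul_smul] at this
  have hαT := hinv α h1
  have hσT := hinv σ h2
  rcases hco.le_iff.mp hαT with h | h
  · -- T is everything, so S is invariant under G
    obtain ⟨s0, hs0⟩ := hS
    apply Set.eq_univ_of_forall
    intro x
    obtain ⟨g, rfl⟩ := exists_smul_eq G s0 x
    have : g ∈ T := by rw [h]; exact Subgroup.mem_top _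
    exact ((hT g).mp this s0).mpr hs0
  · exfalso
    rw [h] at hσT
    rcases hcoσ.le_iff.mp hσT with h' | h'
    · obtain ⟨g, hg⟩ := exists_smul_eq G α σ
      have : g ∈ stabilizer G α := by rw [h']; exact Subgroup.mem_top _
      rw [mem_stabilizer_iff] at this
      exact hσ (hg.symm.trans this)
    · apply hσ
      apply fixes_only α hH σ
      intro y hy
      have : y ∈ stabilizer G σ := by rw [← h']; exact hy
      exact this

end Cfsg.Agent.Lib.Helper58_ExtPrim
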