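import Mathlib

set_option autoImplicit false
set_option linter.style.haveILetI false

namespace Cfsg.Agent.Lib.Helper58_F4

open Polynomial

section field4
variable {F : Type*} [Field F] [Fintype F]

/-- a field with four elements has characteristic two -/
theorem two_eq_zero (hF : Fintype.card F = 4) : (2 : F) = 0 := by
  obtain ⟨p, hchar⟩ := CharP.exists F
  haveI := hchar
  obtain ⟨n, hp, hn⟩ := FiniteField.card F p
  rw [hF] at hn
  have hp2 : p = 2 := by
    have hdvd : p ∣ 4 := by
      rw [hn]; exact dvd_pow_self p n.ne_zero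
    have : p ∣ 2 ^ 2 := by norm_num; exact hdvd
    exact (Nat.prime_dvd_prime_iff_eq hp Nat.prime_two).mp (hp.dvd_of_dvd_pow this)
  subst hp2
  exact_mod_cast CharP.cast_eq_zero F 2

/-- trichotomy for elements of a field with four elements -/
theorem trichotomy (hF : Fintype.card F = 4) (t : F) : t = 0 ∨ t = 1 ∨ t ^ 2 + t + 1 = 0 := by
  have h := FiniteField.pow_card t
  rw [hF] at h
  have h' : t * ((t - 1) * (t ^ 2 + t + 1)) = 0 := by linear_combination h
  rcases mul_eq_zero.mp h' with h0 | h1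
  · exact Or.inl h0
  · rcases mul_eq_zero.mp h1 with h1 | h1
    · exact Or.inr (Or.inl (sub_eq_zero.mp h1))
    · exact Or.inr (Or.inr h1)

theorem two_eq_zero_poly (hF : Fintype.card F = 4) : (2 : F[X]) = 0 := by
  calc (2 : F[X]) = C (2 : F) := (map_ofNat C 2).symm
    _ = C 0 := by rw [two_eq_zero hF]
    _ = 0 := C_0

theorem poly_key0 (hF : Fintype.card F = 4) :
    (X : F[X]) ^ 4 - 1 = (X - 1) * (X ^ 2 - C (0 : F) * X + 1) * (X - 1) := by
  rw [C_0]
  linear_combination (X ^ 3 - X ^ 2 + X - 1) * two_eq_zero_poly hF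

theorem poly_key1 (hF : Fintype.card F = 4) :
    (X : F[X]) ^ 3 - 1 = (X - 1) * (X ^ 2 - C (1 : F) * X + 1) * 1 := by
  rw [C_1]
  linear_combination (X ^ 2 - X) * two_eq_zero_poly hF

theorem poly_key5 (hF : Fintype.card F = 4) (t : F) (ht : t ^ 2 + t + 1 = 0) :
    (X : F[X]) ^ 5 - 1 = (X - 1) * (X ^ 2 - C t * X + 1) * (X ^ 2 - C t ^ 2 * X + 1) := by
  have hs : (C t) ^ 2 + C t + 1 = (0 : F[X]) := by
    rw [← C_pow, ← C_add, ← C_1, ← C_add, ht, C_0]
  linear_combination ((X - 1) * (X ^ 3 - (C t - 1) * X ^ 2 + X)) * hs -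
    ((X - 1) * X ^ 2) * two_eq_zero_poly hF

omit [Fintype F] in
theorem pow_eq_one_of_poly {A : Type*} [Ring A] [Algebra F A] (t : F) (M : A) (n : ℕ) (R : F[X])
    (hR : (X : F[X]) ^ n - 1 = (X - 1) * (X ^ 2 - C t * X + 1) * R)
    (hM : (M - 1) * (M ^ 2 - t • M + 1) = 0) : M ^ n = 1 := by
  have h := congrArg (aeval M) hR
  simp only [map_sub, map_pow, aeval_X, map_one, map_mul, aeval_C, map_add] at h
  rw [Algebra.algebraMap_eq_smul_one, smul_mul_assoc, one_mul, hM, zero_mul] at h
  exact sub_eq_zero.mp h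

theorem pow_four_eq_one {A : Type*} [Ring A] [Algebra F A] (hF : Fintype.card F = 4)
    (M : A) (hM : (M - 1) * (M ^ 2 - (0 : F) • M + 1) = 0) : M ^ 4 = 1 :=
  pow_eq_one_of_poly 0 M 4 _ (poly_key0 hF) hM

theorem pow_three_eq_one {A : Type*} [Ring A] [Algebra F A] (hF : Fintype.card F = 4)
    (M : A) (hM : (M - 1) * (M ^ 2 - (1 : F) • M + 1) = 0) : M ^ 3 = 1 :=
  pow_eq_one_of_poly 1 M 3 _ (poly_key1 hF) hM

theorem pow_five_eq_one {A : Type*} [Ring A] [Algebra F A] (hF : Fintype.card F = 4)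
    (t : F) (ht : t ^ 2 + t + 1 = 0)
    (M : A) (hM : (M - 1) * (M ^ 2 - t • M + 1) = 0) : M ^ 5 = 1 :=
  pow_eq_one_of_poly t M 5 _ (poly_key5 hF t ht) hM

/-- consequence in any `F`-algebra. -/
theorem pow_eq_one_of_annihilated {A : Type*} [Ring A] [Algebra F A] (hF : Fintype.card F = 4)
    (t : F) (M : A) (hM : (M - 1) * (M ^ 2 - t • M + 1) = 0) :
    M ^ 3 = 1 ∨ M ^ 4 = 1 ∨ M ^ 5 = 1 := by
  rcases trichotomy hF t with rfl | rfl | ht
  · exact Or.inr (Or.inl (pow_four_eq_one hF M hM))
  · exact Or.inl (pow_three_eq_one hF M hM)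
  · exact Or.inr (Or.inr (pow_five_eq_one hF t ht M hM))

/-- there is an element `w` with `w^2 + w + 1 = 0`. -/
theorem exists_omega (hF : Fintype.card F = 4) : ∃ w : F, w ^ 2 + w + 1 = 0 := by
  classical
  have hcard : ({0, 1} : Finset F).card < Fintype.card F := by
    rw [hF]
    exact lt_of_le_of_lt Finset.card_le_two (by norm_num)
  have : ∃ w : F, w ∉ ({0, 1} : Finset F) := by
    by_contra h
    push Not at h
    have : Finset.univ ⊆ ({0, 1} : Finset F) := fun x _ => h x
    have := Finset.card_le_card this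
    rw [Finset.card_univ] at this
    omega
  obtain ⟨w, hw⟩ := this
  simp only [Finset.mem_insert, Finset.mem_singleton, not_or] at hw
  rcases trichotomy hF w with h | h | h
  · exact absurd h hw.1
  · exact absurd h hw.2
  · exact ⟨w, h⟩

end field4

/-- Cayley-Hamilton for an affine 3x3 matrix of determinant one. -/
theorem mat3_annihilated {F : Type*} [Field F] (M : Matrix (Fin 3) (Fin 3) F) (h20 : M 2 0 = 0)
    (h21 : M 2 1 = 0) (h22 : M 2 2 = 1) (hdet : M.det = 1) :
    (M - 1) * (M ^ 2 - (M 0 0 + M 1 1) • M + 1) = 0 := by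
  rw [Matrix.det_fin_three, h20, h21, h22] at hdet
  have hM : M = !![M 0 0, M 0 1, M 0 2; M 1 0, M 1 1, M 1 2; 0, 0, 1] := by
    conv_lhs => rw [Matrix.eta_fin_three M, h20, h21, h22]
  generalize M 0 0 = a at hM hdet ⊢
  generalize M 0 1 = b at hM hdet ⊢
  generalize M 0 2 = x at hM hdet ⊢
  generalize M 1 0 = c at hM hdet ⊢
  generalize M 1 1 = d at hM hdet ⊢
  generalize M 1 2 = y at hM hdet ⊢
  subst hM
  have hd : a * d - b * c = 1 := by linear_combination hdet
  ext i j
  fin_cases i <;> fin_cases j <;>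
    simp [Matrix.one_fin_three, pow_two, Matrix.mul_apply, Fin.sum_univ_three] <;>
    first
      | linear_combination (-(a - 1)) * hd
      | linear_combination (-b) * hd
      | linear_combination (-x) * hd
      | linear_combination (-c) * hd
      | linear_combination (-(d - 1)) * hd
      | linear_combination (-y) * hd

/-- orders of elements killed by an exponent 3, 4 or 5 -/
theorem orderOf_mem_of_pow {G : Type*} [Monoid G] (x : G)
    (h : x ^ 3 = 1 ∨ x ^ 4 = 1 ∨ x ^ 5 = 1) : orderOf x ∈ ({1, 2, 3, 4, 5} : Set ℕ) := by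
  simp only [Set.mem_insert_iff, Set.mem_singleton_iff]
  rcases h with h | h | h
  · have := orderOf_dvd_of_pow_eq_one h
    have h3 : orderOf x ∈ Nat.divisors 3 := Nat.mem_divisors.mpr ⟨this, by norm_num⟩
    have : Nat.divisors 3 = {1, 3} := by decide
    rw [this] at h3
    simp only [Finset.mem_insert, Finset.mem_singleton] at h3
    omega
  · have := orderOf_dvd_of_pow_eq_one h
    have h3 : orderOf x ∈ Nat.divisors 4 := Nat.mem_divisors.mpr ⟨this, by norm_num⟩
    have : Nat.divisors 4 = {1, 2, 4} := by decide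
    rw [this] at h3
    simp only [Finset.mem_insert, Finset.mem_singleton] at h3
    omega
  · have := orderOf_dvd_of_pow_eq_one h
    have h3 : orderOf x ∈ Nat.divisors 5 := Nat.mem_divisors.mpr ⟨this, by norm_num⟩
    have : Nat.divisors 5 = {1, 5} := by decide
    rw [this] at h3
    simp only [Finset.mem_insert, Finset.mem_singleton] at h3
    omega

end Cfsg.Agent.Lib.Helper58_F4
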