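import Mathlib
import Cfsg.Agent.Lib.Helper6_FT3Defs

set_option autoImplicit false
set_option linter.unusedVariables false
set_option linter.unusedSimpArgs false

/-!
# S3331 (Feit-Thompson, self-centralizing subgroup of order 3), package AL1 (architect helper6):
the analytic part of the arithmetic lemma, `NumHyp d m e w os → m (d + 1) < 210`.
-/

open Cfsg Cfsg.Agent.Lib.Helper6_FT3Defs

namespace Cfsg.Agent.Lib.Helper58_FT3_AL1

/-- `(42 J)² ≤ 7^J` for `J ≥ 6` -/
theorem pow_bound : ∀ J : ℕ, 6 ≤ J → (42 * J) ^ 2 ≤ 7 ^ J := by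
  intro J hJ
  induction J, hJ using Nat.le_induction with
  | base => norm_num
  | succ n hn ih =>
    have h1 : (42 * (n + 1)) ^ 2 ≤ 7 * (42 * n) ^ 2 := by nlinarith
    calc (42 * (n + 1)) ^ 2 ≤ 7 * (42 * n) ^ 2 := h1
      _ ≤ 7 * 7 ^ n := Nat.mul_le_mul_left 7 ih
      _ = 7 ^ (n + 1) := by ring

/-- a product of pairwise coprime divisors divides -/
theorem prod_dvd_of_pairwise_coprime (os : Finset ℕ) (n : ℕ) (hdvd : ∀ o ∈ os, o ∣ n)
    (hcop : ∀ o ∈ os, ∀ o' ∈ os, o ≠ o' → o.Coprime o') : ∏ o ∈ os, o ∣ n := by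
  classical
  induction os using Finset.induction_on with
  | empty => simp
  | insert a s ha ih =>
    rw [Finset.prod_insert ha]
    apply Nat.Coprime.mul_dvd_of_dvd_of_dvd
    · apply Nat.Coprime.prod_right
      intro i hi
      exact hcop a (Finset.mem_insert_self _ _) i (Finset.mem_insert_of_mem hi)
        (by rintro rfl; exact ha hi)
    · exact hdvd a (Finset.mem_insert_self _ _)
    · exact ih (fun o ho => hdvd o (Finset.mem_insert_of_mem ho))
        (fun o ho o' ho' => hcop o (Finset.mem_insert_of_mem ho) o' (Finset.mem_insert_of_mem ho'))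

/-- the two facts about `os` used in the analytic bound -/
theorem os_facts {d m e w : ℕ} {os : Finset ℕ} (H : NumHyp d m e w os) :
    7 ^ os.card ≤ d * (d + 1) * m ^ 2 ∧
      6 * (∑ o ∈ os, (o - 1)) + 6 * os.card + 7 * m * os.card ≤ 7 * m * d * os.card := by
  have hd4 := H.hd4
  have hm := H.hm
  constructor
  · -- product bound
    have h7 : ∀ o ∈ os, 7 ≤ o := by
      intro o ho
      have h1 := H.hos_mod o ho
      have h2 := H.hos_gt o ho
      omega
    have hP : 7 ^ os.card ≤ ∏ o ∈ os, o := Finset.pow_card_le_prod os (fun o => o) 7 h7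
    have hdv : ∏ o ∈ os, o ∣ 3 * d * (d + 1) * m ^ 2 :=
      prod_dvd_of_pairwise_coprime os _ H.hos_dvd H.hos_cop
    have hc3 : Nat.Coprime (∏ o ∈ os, o) 3 := by
      apply Nat.Coprime.prod_left
      intro o ho
      have h1 := H.hos_mod o ho
      rw [Nat.coprime_comm, Nat.Prime.coprime_iff_not_dvd Nat.prime_three]
      omega
    have e : 3 * d * (d + 1) * m ^ 2 = 3 * (d * (d + 1) * m ^ 2) := by ring
    rw [e] at hdv
    have hdv' : ∏ o ∈ os, o ∣ d * (d + 1) * m ^ 2 := hc3.dvd_of_dvd_mul_left hdv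
    have hpos : 0 < d * (d + 1) * m ^ 2 := by positivity
    exact hP.trans (Nat.le_of_dvd hpos hdv')
  · -- sum bound
    have h1 : ∀ o ∈ os, 6 * (o - 1) + 6 + 7 * m ≤ 7 * m * d := by
      intro o ho
      have h2 := H.hos_le o ho
      have h3 := H.hos_gt o ho
      obtain ⟨d', rfl⟩ : ∃ d', d = d' + 1 := ⟨d - 1, by omega⟩
      simp only [Nat.add_sub_cancel] at h2
      have : 7 * m * (d' + 1) = 7 * m * d' + 7 * m := by ring
      omega
    have h2 := Finset.sum_le_card_nsmul os (fun o => 6 * (o - 1) + 6 + 7 * m) (7 * m * d) h1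
    rw [Finset.sum_add_distrib, Finset.sum_add_distrib, ← Finset.mul_sum, Finset.sum_const,
      Finset.sum_const, smul_eq_mul, smul_eq_mul, smul_eq_mul] at h2
    nlinarith [h2]

/-- the value of `EV` in the second case, bounded -/
theorem ev_aux (P w k : ℕ) (hP : 1 ≤ P) (hk : k ≤ 2) (hkw : k ≤ w) :
    k * (4 * P - 1) + (w - k) * (P - 1) + w ≤ w * P + 6 * P := by
  obtain ⟨c, rfl⟩ : ∃ c, P = c + 1 := ⟨P - 1, by omega⟩
  obtain ⟨r, rfl⟩ : ∃ r, w = k + r := ⟨w - k, by omega⟩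
  have h1 : 4 * (c + 1) - 1 = 4 * c + 3 := by omega
  have h2 : k + r - k = r := by omega
  have h3 : c + 1 - 1 = c := by omega
  rw [h1, h2, h3]
  nlinarith [Nat.mul_le_mul_right (c + 1) hk]

theorem caseA_key {d m e w S E : ℕ} (he_lo : d + 2 ≤ 6 * e)
    (hw : 12 * w * e + 4 * m * e * (2 * d + 1) = m * (3 * d ^ 2 + 3 * d))
    (hEV : E + w = 2 * w * m * e) (hineq : m ^ 2 * (d ^ 2 + d + 1) ≤ 3 * (1 + E + 2 * S)) :
    m ^ 2 * (d ^ 2 + 7 * d + 10) + 18 * w ≤ 18 + 36 * S := by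
  have hw' : m * (12 * w * e + 4 * m * e * (2 * d + 1)) = m * (m * (3 * d ^ 2 + 3 * d)) := by
    rw [hw]
  have hle := Nat.mul_le_mul_left (m ^ 2 * (2 * d + 1)) he_lo
  zify at hw' hle hEV hineq ⊢
  linarith [hw', hle, hEV, hineq]

theorem caseA_fin {d m w S J : ℕ} (hm : 1 ≤ m) (hd4 : 4 ≤ d)
    (h1 : m ^ 2 * (d ^ 2 + 7 * d + 10) + 18 * w ≤ 18 + 36 * S)
    (hS : 6 * S + 6 * J + 7 * m * J ≤ 7 * m * d * J) :
    1 ≤ J ∧ m * (d + 1) < 42 * J := by
  have hm2 : 1 ≤ m ^ 2 := Nat.one_le_pow _ _ hm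
  have hd54 : 54 ≤ d ^ 2 + 7 * d + 10 := by nlinarith
  have h54 := Nat.mul_le_mul hm2 hd54
  have hJ1 : 1 ≤ J := by
    by_contra hJ0
    have hJ : J = 0 := by omega
    subst hJ
    simp only [Nat.mul_zero, Nat.add_zero] at hS
    omega
  refine ⟨hJ1, ?_⟩
  by_contra hN
  push Not at hN
  have hP := Nat.mul_le_mul_left (m * d) hN
  have hz1 : 0 ≤ m ^ 2 * d := Nat.zero_le _
  have hz2 : 0 ≤ m * J := Nat.zero_le _
  zify at h1 hS hP hJ1 hz1 hz2 hm2
  nlinarith [h1, hS, hP, hJ1, hz1, hz2, hm2]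

theorem caseB_key {d m e w S E : ℕ} (he_lo : d + 2 ≤ 6 * e)
    (hw : 12 * w * e + 4 * m * e * (2 * d + 1) = m * (3 * d ^ 2 + 3 * d))
    (hEV : E + w ≤ w * m * e + 6 * m * e) (hineq : m ^ 2 * (d ^ 2 + d + 1) ≤ 3 * (1 + E + 2 * S)) :
    m ^ 2 * (7 * d ^ 2 + 13 * d + 16) + 36 * w ≤ 36 + 216 * (m * e) + 72 * S := by
  have hw' : m * (12 * w * e + 4 * m * e * (2 * d + 1)) = m * (m * (3 * d ^ 2 + 3 * d)) := by
    rw [hw]
  have hle := Nat.mul_le_mul_left (m ^ 2 * (2 * d + 1)) he_lo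
  zify at hw' hle hEV hineq ⊢
  linarith [hw', hle, hEV, hineq]

theorem caseB_fin {d m e w S J : ℕ} (hm : 1 ≤ m) (hd4 : 4 ≤ d) (he_hi : 3 * e + 1 ≤ d)
    (h1 : m ^ 2 * (7 * d ^ 2 + 13 * d + 16) + 36 * w ≤ 36 + 216 * (m * e) + 72 * S)
    (hS : 6 * S + 6 * J + 7 * m * J ≤ 7 * m * d * J) :
    m * (d + 1) < 12 + 12 * J := by
  have hm2 : 1 ≤ m ^ 2 := Nat.one_le_pow _ _ hm
  have h4 := Nat.mul_le_mul hm2 hd4
  have h2 := Nat.mul_le_mul_left m he_hi
  by_contra hN
  push Not at hN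
  have hP := Nat.mul_le_mul_left (m * d) hN
  have hz1 : 0 ≤ m * d := Nat.zero_le _
  have hz2 : 0 ≤ m * J := Nat.zero_le _
  zify at h1 hS hP hz1 hz2 hm2 h4 h2 hm
  nlinarith [h1, hS, hP, hz1, hz2, hm2, h4, h2, hm]

theorem arith_bound {d m e w : ℕ} {os : Finset ℕ} (H : NumHyp d m e w os) : m * (d + 1) < 210 := by
  obtain ⟨hP, hS⟩ := os_facts H
  have hd4 := H.hd4
  have hm := H.hm
  have he_lo := H.he_lo
  have he_hi := H.he_hi
  have hw := H.hw
  have hineq := H.hineq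
  set J := os.card with hJ
  set S := ∑ o ∈ os, (o - 1) with hS'
  have he1 : 1 ≤ e := by omega
  have hme : 1 ≤ m * e := Nat.one_le_iff_ne_zero.mpr (by positivity)
  -- the key dichotomy
  have key : (1 ≤ J ∧ m * (d + 1) < 42 * J) ∨ m * (d + 1) < 12 + 12 * J := by
    unfold EV at hineq
    split_ifs at hineq with hc
    · -- case `4 m e ≡ 2 (mod 3)`
      left
      have hEV : w * (2 * m * e - 1) + w = 2 * w * m * e := by
        have h2 : 2 * m * e = 2 * (m * e) := by ring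
        have : 2 * m * e - 1 + 1 = 2 * m * e := by omega
        calc w * (2 * m * e - 1) + w = w * (2 * m * e - 1 + 1) := by ring
          _ = 2 * w * m * e := by rw [this]; ring
      exact caseA_fin hm hd4 (caseA_key he_lo hw hEV hineq) hS
    · -- the other case
      right
      have hk : min 2 w ≤ 2 := min_le_left _ _
      have hk' : min 2 w ≤ w := min_le_right _ _
      have hEV : min 2 w * (4 * m * e - 1) + (w - min 2 w) * (m * e - 1) + w
          ≤ w * m * e + 6 * m * e := by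
        have h := ev_aux (m * e) w (min 2 w) hme hk hk'
        have e4 : 4 * m * e = 4 * (m * e) := by ring
        have e5 : w * m * e = w * (m * e) := by ring
        have e6 : 6 * m * e = 6 * (m * e) := by ring
        rw [e4, e5, e6]
        exact h
      exact caseB_fin hm hd4 he_hi (caseB_key he_lo hw hEV hineq) hS
  -- conclude
  by_contra hN
  push Not at hN
  have hlt : d * (d + 1) * m ^ 2 < (m * (d + 1)) ^ 2 := by nlinarith [hm, hd4]
  have hJ6 : 6 ≤ J ∧ m * (d + 1) < 42 * J := by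
    rcases key with ⟨h1, h2⟩ | h2
    · exact ⟨by omega, h2⟩
    · exact ⟨by omega, by omega⟩
  have h3 := pow_bound J hJ6.1
  have h4 : (m * (d + 1)) ^ 2 < (42 * J) ^ 2 := Nat.pow_lt_pow_left hJ6.2 (by norm_num)
  omega

end Cfsg.Agent.Lib.Helper58_FT3_AL1
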