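import Mathlib
import Cfsg.Agent.Lib.Helper6_FT3Defs

set_option autoImplicit false
set_option linter.unusedVariables false
set_option linter.unusedSimpArgs false

/-!
# S3331 (Feit-Thompson, self-centralizing subgroup of order 3), package AL2 (architect helper6):
the finite part of the arithmetic lemma: `NumHyp d m e w os` with `m (d + 1) < 210` forces
`(d, e, m) = (4, 1, 1)` or `(7, 2, 1)`.  A kernel-evaluated finite check.
-/

open Cfsg Cfsg.Agent.Lib.Helper6_FT3Defs

namespace Cfsg.Agent.Lib.Helper58_FT3_AL2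

/-- the candidate orders of odd members: all `o ≤ B`, `o ≡ 1 (6)`, `1 < o`, Hall divisors of `n` -/
def candList (n B : ℕ) : List ℕ :=
  (List.range (B + 1)).filter fun o =>
    decide (o % 6 = 1 ∧ 1 < o ∧ n % o = 0 ∧ Nat.gcd o (n / o) = 1)

/-- upper bound for `∑ (o - 1)` -/
def sumO (n B : ℕ) : ℕ := ((candList n B).map fun o => o - 1).sum

/-- the test for one triple -/
def okTriple (d m e : ℕ) : Bool :=
  decide (e % 3 = 0 ∨ m % 3 = 0 ∨ 6 * e < d + 2 ∨ d < 3 * e + 1 ∨
    m * (3 * d ^ 2 + 3 * d) < 4 * m * e * (2 * d + 1) ∨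
    (m * (3 * d ^ 2 + 3 * d) - 4 * m * e * (2 * d + 1)) % (12 * e) ≠ 0 ∨
    (d = 4 ∧ e = 1 ∧ m = 1) ∨ (d = 7 ∧ e = 2 ∧ m = 1) ∨
    3 * (1 + EV m e ((m * (3 * d ^ 2 + 3 * d) - 4 * m * e * (2 * d + 1)) / (12 * e))
      + 2 * sumO (3 * d * (d + 1) * m ^ 2) (7 * m * (d - 1) / 6)) < m ^ 2 * (d ^ 2 + d + 1))

/-- the whole finite test -/
def checkAll : Bool :=
  (List.range 209).all fun d =>
    decide (d % 3 ≠ 1) || decide (d < 4) ||
      (List.range (209 / (d + 1) + 1)).all fun m =>
        (List.range (d / 3 + 1)).all fun e => okTriple d m e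

theorem checkAll_true : checkAll = true := by decide +kernel

theorem sum_le_sumO {d m e w : ℕ} {os : Finset ℕ} (H : NumHyp d m e w os) :
    ∑ o ∈ os, (o - 1) ≤ sumO (3 * d * (d + 1) * m ^ 2) (7 * m * (d - 1) / 6) := by
  classical
  set n := 3 * d * (d + 1) * m ^ 2 with hn
  set B := 7 * m * (d - 1) / 6 with hB
  have hnd : (candList n B).Nodup := List.Nodup.filter _ List.nodup_range
  have hsub : os ⊆ (candList n B).toFinset := by
    intro o ho
    rw [List.mem_toFinset, candList, List.mem_filter, List.mem_range, decide_eq_true_eq]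
    refine ⟨?_, H.hos_mod o ho, H.hos_gt o ho, Nat.mod_eq_zero_of_dvd (H.hos_dvd o ho),
      H.hos_hall o ho⟩
    have h1 := H.hos_le o ho
    have h2 : o ≤ B := by
      rw [hB, Nat.le_div_iff_mul_le (by norm_num)]
      omega
    omega
  calc ∑ o ∈ os, (o - 1) ≤ ∑ o ∈ (candList n B).toFinset, (o - 1) :=
        Finset.sum_le_sum_of_subset hsub
    _ = sumO n B := by rw [sumO, List.sum_toFinset _ hnd]

theorem arith_small {d m e w : ℕ} {os : Finset ℕ} (H : NumHyp d m e w os)
    (hN : m * (d + 1) < 210) : (d = 4 ∧ e = 1 ∧ m = 1) ∨ (d = 7 ∧ e = 2 ∧ m = 1) := by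
  have hd4 := H.hd4
  have hd3 := H.hd3
  have hm := H.hm
  have hm3 := H.hm3
  have he3 := H.he3
  have he_lo := H.he_lo
  have he_hi := H.he_hi
  have hw := H.hw
  have hineq := H.hineq
  have hS := sum_le_sumO H
  have hd209 : d < 209 := by nlinarith
  have hm' : m < 209 / (d + 1) + 1 := by
    have : m ≤ 209 / (d + 1) := by
      rw [Nat.le_div_iff_mul_le (by omega)]
      omega
    omega
  have he' : e < d / 3 + 1 := by omega
  have hall := checkAll_true
  rw [checkAll, List.all_eq_true] at hall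
  have h1 := hall d (List.mem_range.mpr hd209)
  simp only [Bool.or_eq_true, decide_eq_true_eq] at h1
  rcases h1 with (h1 | h1) | h1
  · exact absurd hd3 h1
  · omega
  rw [List.all_eq_true] at h1
  have h2 := h1 m (List.mem_range.mpr hm')
  rw [List.all_eq_true] at h2
  have h3 := h2 e (List.mem_range.mpr he')
  rw [okTriple, decide_eq_true_eq] at h3
  have he1 : 1 ≤ e := by omega
  have hsub : m * (3 * d ^ 2 + 3 * d) - 4 * m * e * (2 * d + 1) = w * (12 * e) := by
    rw [← hw]
    have : 12 * w * e = w * (12 * e) := by ring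
    omega
  have hdiv : (m * (3 * d ^ 2 + 3 * d) - 4 * m * e * (2 * d + 1)) / (12 * e) = w := by
    rw [hsub, Nat.mul_div_cancel _ (by omega)]
  have hmod : (m * (3 * d ^ 2 + 3 * d) - 4 * m * e * (2 * d + 1)) % (12 * e) = 0 := by
    rw [hsub, Nat.mul_mod_left]
  rw [hdiv, hmod] at h3
  rcases h3 with h | h | h | h | h | h | h | h | h
  · omega
  · omega
  · omega
  · omega
  · omega
  · exact absurd rfl h
  · exact Or.inl h
  · exact Or.inr h
  · omega

end Cfsg.Agent.Lib.Helper58_FT3_AL2
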