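import Mathlib

set_option autoImplicit false
set_option linter.style.haveILetI false

/-!
A group `H` acting by field automorphisms on a finite field `L` of order `p ^ d`, generated
by the image of a subgroup `T` of exponent `q` which is the kernel of the action.
-/

namespace Cfsg.Agent.Lib.Helper58_FieldAct

open Polynomial

theorem fld_main (p d q : ℕ) [Fact p.Prime] (hq : q.Prime) (L : Type*) [Field L]
    [Algebra (ZMod p) L] [Finite L] (hL : Nat.card L = p ^ d) {H : Type*} [Group H] [Finite H]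
    (T : Subgroup H) (hTq : ∀ a ∈ T, a ^ q = 1) (hT1 : T ≠ ⊥)
    (ι : T →* Lˣ) (hι : Function.Injective ι)
    (hgen : Algebra.adjoin (ZMod p) (Set.range (fun t : T => ((ι t : Lˣ) : L))) = ⊤)
    (c : H →* (L ≃ₐ[ZMod p] L)) (hker : c.ker = T) :
    Nat.card T = q ∧ (∀ i, 0 < i → i < d → ¬ q ∣ p ^ i - 1) ∧ Nat.card H ∣ q * d ∧
      (∃ h : H, (⊤ : Subgroup H) = T ⊔ Subgroup.zpowers h) ∧ q ∣ p ^ d - 1 := by
  have hp : p.Prime := Fact.out
  -- `T` is cyclic of order `q`
  haveI : IsCyclic T := isCyclic_of_injective ι hι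
  have hcardT : Nat.card T = q := by
    have h1 : Monoid.exponent T ∣ q := by
      apply Monoid.exponent_dvd_of_forall_pow_eq_one
      intro g
      apply Subtype.ext
      have := hTq g g.2
      simpa using this
    rw [IsCyclic.exponent_eq_card] at h1
    rcases (Nat.dvd_prime hq).mp h1 with h2 | h2
    · exfalso
      apply hT1
      exact Subgroup.card_eq_one.mp h2
    · exact h2
  have hqdvd : q ∣ p ^ d - 1 := by
    have h1 : Nat.card T ∣ Nat.card Lˣ := Subgroup.card_dvd_of_injective ι hι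
    rw [hcardT, Nat.card_units, hL] at h1
    exact h1
  refine ⟨hcardT, ?_, ?_⟩
  · -- primitive prime divisor
    intro i hi hid hqi
    haveI : CharP L p := charP_of_injective_algebraMap (algebraMap (ZMod p) L).injective p
    have hpi1 : 1 ≤ p ^ i := Nat.one_le_pow _ _ hp.pos
    have hall : ∀ x : L, x ^ p ^ i = x := by
      intro x
      have hx : x ∈ Algebra.adjoin (ZMod p) (Set.range (fun t : T => ((ι t : Lˣ) : L))) := by
        rw [hgen]; exact Algebra.mem_top
      induction hx using Algebra.adjoin_induction with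
      | mem y hy =>
        obtain ⟨t, rfl⟩ := hy
        have h1 : t ^ (p ^ i - 1) = 1 := by
          obtain ⟨k, hk⟩ := hqi
          rw [hk, pow_mul]
          have : t ^ q = 1 := by
            apply Subtype.ext
            have := hTq t t.2
            simpa using this
          rw [this, one_pow]
        have h2 : t ^ p ^ i = t := by
          have : p ^ i = (p ^ i - 1) + 1 := by omega
          rw [this, pow_succ, h1, one_mul]
        have h3 := congrArg (fun z : T => ((ι z : Lˣ) : L)) h2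
        simpa using h3
      | algebraMap r =>
        rw [← map_pow, ZMod.pow_card_pow]
      | add x y _ _ hx hy =>
        rw [add_pow_char_pow, hx, hy]
      | mul x y _ _ hx hy =>
        rw [mul_pow, hx, hy]
    classical
    haveI : Fintype L := Fintype.ofFinite L
    have h1pi : 1 < p ^ i := Nat.one_lt_pow (by omega) hp.one_lt
    have hne : (X ^ p ^ i - X : L[X]) ≠ 0 := FiniteField.X_pow_card_pow_sub_X_ne_zero L (by omega) hp.one_lt
    have hsub : (Finset.univ : Finset L).val ⊆ (X ^ p ^ i - X : L[X]).roots := by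
      intro x _
      rw [mem_roots hne, IsRoot, eval_sub, eval_pow, eval_X, hall x, sub_self]
    have hle := card_le_degree_of_subset_roots hsub
    rw [FiniteField.X_pow_card_pow_sub_X_natDegree_eq L (by omega) hp.one_lt, Finset.card_univ,
      ← Nat.card_eq_fintype_card, hL] at hle
    have : p ^ i < p ^ d := Nat.pow_lt_pow_right hp.one_lt hid
    omega
  · -- the quotient by `T` is cyclic of order dividing `d`
    have hfin : Module.finrank (ZMod p) L = d := by
      have h1 := Module.natCard_eq_pow_finrank (K := ZMod p) (V := L)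
      rw [hL, Nat.card_zmod] at h1
      exact (Nat.pow_right_injective hp.two_le h1).symm
    have hgal : Nat.card (L ≃ₐ[ZMod p] L) = d := by
      rw [← hfin]
      have := (FiniteField.bijective_frobeniusAlgEquivOfAlgebraic_pow (ZMod p) L)
      rw [← Nat.card_eq_of_bijective _ this, Nat.card_fin]
    have hrange : Nat.card c.range ∣ d := by
      rw [← hgal]
      exact Subgroup.card_subgroup_dvd_card c.range
    refine ⟨?_, ?_, hqdvd⟩
    · rw [← Subgroup.card_mul_index c.ker, Subgroup.index_ker, hker, hcardT]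
      exact Nat.mul_dvd_mul_left q hrange
    · obtain ⟨g, hg⟩ := IsCyclic.exists_generator (α := c.range)
      obtain ⟨h, hh⟩ := g.2
      refine ⟨h, ?_⟩
      symm
      rw [eq_top_iff]
      intro x _
      have hx : (⟨c x, ⟨x, rfl⟩⟩ : c.range) ∈ Subgroup.zpowers g := hg _
      obtain ⟨k, hk⟩ := hx
      have hk' : c h ^ k = c x := by
        have := congrArg Subtype.val hk
        simp only [Subgroup.coe_zpow] at this
        rw [← hh] at this
        exact this
      have hmem : x * (h ^ k)⁻¹ ∈ T := by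
        rw [← hker, MonoidHom.mem_ker, map_mul, map_inv, map_zpow, hk', mul_inv_cancel]
      have : x = (x * (h ^ k)⁻¹) * h ^ k := by group
      rw [this]
      exact Subgroup.mul_mem_sup hmem (Subgroup.zpow_mem_zpowers h k)

/-- Conjugation by a unit, as an algebra automorphism. -/
def unitConj {K E : Type*} [CommSemiring K] [Semiring E] [Algebra K E] (u : Eˣ) : E ≃ₐ[K] E where
  toFun x := u * x * ((u⁻¹ : Eˣ) : E)
  invFun x := ((u⁻¹ : Eˣ) : E) * x * u
  left_inv x := by simp [mul_assoc]
  right_inv x := by simp [mul_assoc]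
  map_mul' x y := by simp [mul_assoc]
  map_add' x y := by simp [mul_add, add_mul]
  commutes' r := by
    show (u : E) * algebraMap K E r * ((u⁻¹ : Eˣ) : E) = algebraMap K E r
    rw [← Algebra.commutes r (u : E), mul_assoc, Units.mul_inv, mul_one]

theorem unitConj_apply {K E : Type*} [CommSemiring K] [Semiring E] [Algebra K E] (u : Eˣ)
    (x : E) : unitConj (K := K) u x = u * x * ((u⁻¹ : Eˣ) : E) := rfl

theorem abs_field (p d q : ℕ) [Fact p.Prime] (hq : q.Prime)
    (W : Type*) [AddCommGroup W] [Module (ZMod p) W] [Finite W] (hW : Nat.card W = p ^ d)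
    {H : Type*} [Group H] [Finite H] (ρ : H →* (W →ₗ[ZMod p] W)ˣ) (hρ : Function.Injective ρ)
    (T : Subgroup H) [T.Normal] (hTc : ∀ a ∈ T, ∀ b ∈ T, a * b = b * a)
    (hTq : ∀ a ∈ T, a ^ q = 1) (hT1 : T ≠ ⊥)
    (hcent : ∀ h : H, (∀ t ∈ T, h * t = t * h) → h ∈ T)
    (hirr : ∀ U : Submodule (ZMod p) W,
      (∀ t ∈ T, ∀ u ∈ U, ((ρ t : (W →ₗ[ZMod p] W)ˣ) : W →ₗ[ZMod p] W) u ∈ U) → U = ⊥ ∨ U = ⊤) :
    Nat.card T = q ∧ (∀ i, 0 < i → i < d → ¬ q ∣ p ^ i - 1) ∧ Nat.card H ∣ q * d ∧
      (∃ h : H, (⊤ : Subgroup H) = T ⊔ Subgroup.zpowers h) ∧ q ∣ p ^ d - 1 := by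
  classical
  let S : Set (W →ₗ[ZMod p] W) :=
    {x | ∃ t ∈ T, x = ((ρ t : (W →ₗ[ZMod p] W)ˣ) : W →ₗ[ZMod p] W)}
  have hScomm : ∀ a ∈ S, ∀ b ∈ S, a * b = b * a := by
    rintro _ ⟨s, hs, rfl⟩ _ ⟨t, ht, rfl⟩
    rw [← Units.val_mul, ← map_mul, hTc s hs t ht, map_mul, Units.val_mul]
  let instCR : CommRing (Algebra.adjoin (ZMod p) S) :=
    { (inferInstance : Ring (Algebra.adjoin (ZMod p) S)) with
      mul_comm := (Algebra.isMulCommutative_adjoin (ZMod p) hScomm).is_comm.comm }
  have hRcomm : ∀ x ∈ Algebra.adjoin (ZMod p) S, ∀ y ∈ Algebra.adjoin (ZMod p) S,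
      x * y = y * x := fun x hx y hy =>
    congrArg Subtype.val (instCR.mul_comm ⟨x, hx⟩ ⟨y, hy⟩)
  have hSR : ∀ t ∈ T, ((ρ t : (W →ₗ[ZMod p] W)ˣ) : W →ₗ[ZMod p] W) ∈ Algebra.adjoin (ZMod p) S :=
    fun t ht => Algebra.subset_adjoin ⟨t, ht, rfl⟩
  have hschur : ∀ x ∈ Algebra.adjoin (ZMod p) S, x ≠ 0 → Function.Injective x := by
    intro x hx hx0
    have hker : LinearMap.ker x = ⊥ ∨ LinearMap.ker x = ⊤ := by
      apply hirr
      intro t ht u hu
      rw [LinearMap.mem_ker] at hu ⊢
      have h1 := hRcomm x hx _ (hSR t ht)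
      have h2 := congrArg (fun f : W →ₗ[ZMod p] W => f u) h1
      simp only [Module.End.mul_apply] at h2
      rw [h2, hu, map_zero]
    rcases hker with h | h
    · exact LinearMap.ker_eq_bot.mp h
    · exfalso; apply hx0; exact LinearMap.ker_eq_top.mp h
  -- `W` is nontrivial
  obtain ⟨t₁, ht₁, ht₁1⟩ : ∃ t ∈ T, t ≠ 1 := by
    by_contra hcon
    push Not at hcon
    exact hT1 (by rw [eq_bot_iff]; intro t ht; exact Subgroup.mem_bot.mpr (hcon t ht))
  obtain ⟨w₀, hw₀⟩ : ∃ w : W, w ≠ 0 := by
    by_contra hcon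
    push Not at hcon
    apply ht₁1
    apply hρ
    rw [map_one]
    apply Units.ext
    apply LinearMap.ext
    intro w
    rw [hcon w, map_zero, map_zero]
  have h01 : (1 : W →ₗ[ZMod p] W) ≠ 0 := by
    intro h
    apply hw₀
    have := congrArg (fun f : W →ₗ[ZMod p] W => f w₀) h
    simpa using this
  haveI : Nontrivial (Algebra.adjoin (ZMod p) S) :=
    ⟨⟨1, 0, fun h => h01 (congrArg Subtype.val h)⟩⟩
  haveI : NoZeroDivisors (Algebra.adjoin (ZMod p) S) := by
    constructor
    intro x y hxy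
    by_contra hcon
    push Not at hcon
    have hx0 : (x : W →ₗ[ZMod p] W) ≠ 0 := fun h => hcon.1 (Subtype.ext h)
    have hinj := hschur x x.2 hx0
    apply hcon.2
    apply Subtype.ext
    apply LinearMap.ext
    intro w
    apply hinj
    have h1 := congrArg (fun z : Algebra.adjoin (ZMod p) S => (z : W →ₗ[ZMod p] W) w) hxy
    simpa using h1
  haveI : IsDomain (Algebra.adjoin (ZMod p) S) := NoZeroDivisors.to_isDomain _
  -- evaluation at `w₀` is a bijection from the adjoined algebra to `W`
  have hevinj : Function.Injective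
      (fun r : Algebra.adjoin (ZMod p) S => (r : W →ₗ[ZMod p] W) w₀) := by
    intro r s hrs
    by_contra hne
    have hsub : ((r - s : Algebra.adjoin (ZMod p) S) : W →ₗ[ZMod p] W) ≠ 0 := by
      intro h
      apply hne
      have : r - s = 0 := Subtype.ext h
      exact sub_eq_zero.mp this
    have hinj := hschur _ (r - s).2 hsub
    apply hw₀
    apply hinj
    have : (r : W →ₗ[ZMod p] W) w₀ = (s : W →ₗ[ZMod p] W) w₀ := hrs
    simp [this]
  have hevsurj : Function.Surjective
      (fun r : Algebra.adjoin (ZMod p) S => (r : W →ₗ[ZMod p] W) w₀) := by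
    let U : Submodule (ZMod p) W :=
      { carrier := {w | ∃ r : Algebra.adjoin (ZMod p) S, (r : W →ₗ[ZMod p] W) w₀ = w}
        add_mem' := by
          rintro _ _ ⟨r, rfl⟩ ⟨s, rfl⟩
          exact ⟨r + s, by simp⟩
        zero_mem' := ⟨0, by simp⟩
        smul_mem' := by
          rintro c _ ⟨r, rfl⟩
          exact ⟨c • r, by simp⟩ }
    have hU : U = ⊥ ∨ U = ⊤ := by
      apply hirr
      rintro t ht _ ⟨r, rfl⟩
      exact ⟨⟨_, hSR t ht⟩ * r, by simp⟩
    rcases hU with h | h
    · exfalso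
      apply hw₀
      have : w₀ ∈ U := ⟨1, by simp⟩
      rw [h] at this
      exact (Submodule.mem_bot _).mp this
    · intro w
      have : w ∈ U := by rw [h]; exact Submodule.mem_top
      exact this
  haveI hfinR : Finite (Algebra.adjoin (ZMod p) S) := Finite.of_injective _ hevinj
  have hcardR : Nat.card (Algebra.adjoin (ZMod p) S) = p ^ d := by
    rw [← hW]
    exact Nat.card_congr (Equiv.ofBijective _ ⟨hevinj, hevsurj⟩)
  haveI : Fintype (Algebra.adjoin (ZMod p) S) := Fintype.ofFinite _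
  let fieldR : Field (Algebra.adjoin (ZMod p) S) := Fintype.fieldOfDomain _
  -- the embedding of `T`
  let j : T →* Algebra.adjoin (ZMod p) S :=
    { toFun := fun t => ⟨((ρ t : (W →ₗ[ZMod p] W)ˣ) : W →ₗ[ZMod p] W), hSR t t.2⟩
      map_one' := by
        apply Subtype.ext
        simp
      map_mul' := by
        intro a b
        apply Subtype.ext
        simp }
  let ι : T →* (Algebra.adjoin (ZMod p) S)ˣ := j.toHomUnits
  have hιval : ∀ t : T, (((ι t : (Algebra.adjoin (ZMod p) S)ˣ) : Algebra.adjoin (ZMod p) S) :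
      W →ₗ[ZMod p] W) = ((ρ t : (W →ₗ[ZMod p] W)ˣ) : W →ₗ[ZMod p] W) := fun t => rfl
  have hι : Function.Injective ι := by
    intro a b hab
    apply Subtype.ext
    apply hρ
    apply Units.ext
    rw [← hιval a, ← hιval b, hab]
  have hgen : Algebra.adjoin (ZMod p) (Set.range (fun t : T =>
      ((ι t : (Algebra.adjoin (ZMod p) S)ˣ) : Algebra.adjoin (ZMod p) S))) = ⊤ := by
    have h1 := Algebra.adjoin_adjoin_coe_preimage (R := ZMod p) (s := S)
    have h2 : Set.range (fun t : T =>
        ((ι t : (Algebra.adjoin (ZMod p) S)ˣ) : Algebra.adjoin (ZMod p) S)) =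
        ((↑) : Algebra.adjoin (ZMod p) S → (W →ₗ[ZMod p] W)) ⁻¹' S := by
      ext r
      constructor
      · rintro ⟨t, rfl⟩
        exact ⟨t, t.2, rfl⟩
      · rintro ⟨t, ht, hrt⟩
        exact ⟨⟨t, ht⟩, Subtype.ext hrt.symm⟩
    rw [h2]
    exact h1
  -- the adjoined algebra is stable under conjugation by `ρ h`
  have hstable : ∀ h : H, ∀ x ∈ Algebra.adjoin (ZMod p) S,
      unitConj (K := ZMod p) (ρ h) x ∈ Algebra.adjoin (ZMod p) S := by
    intro h x hx
    induction hx using Algebra.adjoin_induction with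
    | mem y hy =>
      obtain ⟨t, ht, rfl⟩ := hy
      have : unitConj (K := ZMod p) (ρ h) ((ρ t : (W →ₗ[ZMod p] W)ˣ) : W →ₗ[ZMod p] W) =
          ((ρ (h * t * h⁻¹) : (W →ₗ[ZMod p] W)ˣ) : W →ₗ[ZMod p] W) := by
        rw [unitConj_apply, map_mul, map_mul, map_inv, Units.val_mul, Units.val_mul]
      rw [this]
      exact hSR _ (Subgroup.Normal.conj_mem inferInstance t ht h)
    | algebraMap r =>
      rw [AlgEquiv.commutes]
      exact Subalgebra.algebraMap_mem _ r
    | add x y _ _ hx hy =>
      rw [map_add]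
      exact Subalgebra.add_mem _ hx hy
    | mul x y _ _ hx hy =>
      rw [map_mul]
      exact Subalgebra.mul_mem _ hx hy
  let cfun : H → (Algebra.adjoin (ZMod p) S →ₐ[ZMod p] Algebra.adjoin (ZMod p) S) := fun h =>
    AlgHom.codRestrict
      (((unitConj (K := ZMod p) (ρ h)) : (W →ₗ[ZMod p] W) →ₐ[ZMod p] (W →ₗ[ZMod p] W)).comp
        (Algebra.adjoin (ZMod p) S).val) (Algebra.adjoin (ZMod p) S) (fun x => hstable h x x.2)
  have hcfun : ∀ h x, ((cfun h x : Algebra.adjoin (ZMod p) S) : W →ₗ[ZMod p] W) =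
      ((ρ h : (W →ₗ[ZMod p] W)ˣ) : W →ₗ[ZMod p] W) * x *
        (((ρ h)⁻¹ : (W →ₗ[ZMod p] W)ˣ) : W →ₗ[ZMod p] W) := fun h x => rfl
  have hcc : ∀ a b x, cfun a (cfun b x) = cfun (a * b) x := by
    intro a b x
    apply Subtype.ext
    rw [hcfun, hcfun, hcfun, map_mul, mul_inv_rev, Units.val_mul, Units.val_mul]
    simp only [mul_assoc]
  have hc1 : ∀ x, cfun 1 x = x := by
    intro x
    apply Subtype.ext
    rw [hcfun, map_one, inv_one, Units.val_one, one_mul, mul_one]
  let c : H →* (Algebra.adjoin (ZMod p) S ≃ₐ[ZMod p] Algebra.adjoin (ZMod p) S) :=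
    { toFun := fun h => AlgEquiv.ofAlgHom (cfun h) (cfun h⁻¹)
        (AlgHom.ext fun x => by
          rw [AlgHom.comp_apply, hcc, mul_inv_cancel, hc1]; rfl)
        (AlgHom.ext fun x => by
          rw [AlgHom.comp_apply, hcc, inv_mul_cancel, hc1]; rfl)
      map_one' := AlgEquiv.ext fun x => hc1 x
      map_mul' := fun a b => AlgEquiv.ext fun x => (hcc a b x).symm }
  have hcapp : ∀ h x, c h x = cfun h x := fun h x => rfl
  have hker : c.ker = T := by
    ext h
    rw [MonoidHom.mem_ker]
    constructor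
    · intro hh
      apply hcent
      intro t ht
      have h1 := congrArg (fun e : Algebra.adjoin (ZMod p) S ≃ₐ[ZMod p] Algebra.adjoin (ZMod p) S =>
        ((e (j ⟨t, ht⟩) : Algebra.adjoin (ZMod p) S) : W →ₗ[ZMod p] W)) hh
      simp only [hcapp, hcfun, AlgEquiv.one_apply] at h1
      have h2 : ρ (h * t * h⁻¹) = ρ t := by
        apply Units.ext
        rw [map_mul, map_mul, map_inv, Units.val_mul, Units.val_mul]
        exact h1
      have h3 := hρ h2
      calc h * t = (h * t * h⁻¹) * h := by group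
        _ = t * h := by rw [h3]
    · intro hh
      apply AlgEquiv.ext
      intro x
      apply Subtype.ext
      rw [hcapp, hcfun, AlgEquiv.one_apply, hRcomm _ (hSR h hh) x x.2, mul_assoc, Units.mul_inv,
        mul_one]
  exact @fld_main p d q _ hq (Algebra.adjoin (ZMod p) S) fieldR
    (inferInstance : Algebra (ZMod p) (Algebra.adjoin (ZMod p) S)) hfinR hcardR H _ _ T hTq hT1
    ι hι hgen c hker

end Cfsg.Agent.Lib.Helper58_FieldAct
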