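import Mathlib
import Cfsg.Agent.Lib.Helper58_GLHom
import Cfsg.Agent.Lib.Helper58_FieldAct

set_option autoImplicit false
set_option linter.style.haveILetI false

/-!
A group `H` acting faithfully by automorphisms on an elementary abelian `p`-group `V` of order
`p ^ d`, with an abelian normal self-centralizing subgroup `T` of exponent `q` acting
irreducibly: then `T` has order `q`, `q` is a primitive prime divisor of `p ^ d - 1`,
and `H / T` is cyclic of order dividing `d`.
-/

namespace Cfsg.Agent.Lib.Helper58_FieldAct2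

open Cfsg.Agent.Lib.Helper58_GLHom Cfsg.Agent.Lib.Helper58_FieldAct

theorem glue (p d q : ℕ) [Fact p.Prime] (hq : q.Prime) (V : Type*) [CommGroup V] [Finite V]
    [Module (ZMod p) (Additive V)] (hcard : Nat.card V = p ^ d)
    {H : Type*} [Group H] [Finite H] (a : H →* MulAut V) (ha : Function.Injective a)
    (T : Subgroup H) [T.Normal] (hTc : ∀ x ∈ T, ∀ y ∈ T, x * y = y * x)
    (hTq : ∀ x ∈ T, x ^ q = 1) (hT1 : T ≠ ⊥)
    (hcent : ∀ h : H, (∀ t ∈ T, h * t = t * h) → h ∈ T)
    (hirr : ∀ L : Subgroup V, (∀ t ∈ T, ∀ l ∈ L, a t l ∈ L) → L = ⊥ ∨ L = ⊤) :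
    Nat.card T = q ∧ (∀ i, 0 < i → i < d → ¬ q ∣ p ^ i - 1) ∧ Nat.card H ∣ q * d ∧
      (∃ h : H, (⊤ : Subgroup H) = T ⊔ Subgroup.zpowers h) ∧ q ∣ p ^ d - 1 := by
  haveI : Finite (Additive V) := inferInstanceAs (Finite V)
  have hW : Nat.card (Additive V) = p ^ d := hcard
  have hρ : Function.Injective ((mulAutToLin p V).comp a) := by
    intro x y hxy
    apply ha
    apply MulEquiv.ext
    intro v
    have h1 := congrArg (fun u : (Additive V →ₗ[ZMod p] Additive V)ˣ =>
      (u : Additive V →ₗ[ZMod p] Additive V) (Additive.ofMul v)) hxy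
    simp only [MonoidHom.comp_apply, mulAutToLin_apply, toMul_ofMul] at h1
    exact congrArg Additive.toMul h1
  apply abs_field p d q hq (Additive V) hW ((mulAutToLin p V).comp a) hρ T hTc hTq hT1 hcent
  intro U hU
  let L : Subgroup V :=
    { carrier := {v | Additive.ofMul v ∈ U}
      mul_mem' := by
        intro x y hx hy
        have : Additive.ofMul (x * y) = Additive.ofMul x + Additive.ofMul y := rfl
        show Additive.ofMul (x * y) ∈ U
        rw [this]
        exact U.add_mem hx hy
      one_mem' := U.zero_mem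
      inv_mem' := by
        intro x hx
        have : Additive.ofMul x⁻¹ = -Additive.ofMul x := rfl
        show Additive.ofMul x⁻¹ ∈ U
        rw [this]
        exact U.neg_mem hx }
  have hL : L = ⊥ ∨ L = ⊤ := by
    apply hirr
    intro t ht l hl
    have := hU t ht (Additive.ofMul l) hl
    rw [MonoidHom.comp_apply, mulAutToLin_apply] at this
    exact this
  rcases hL with h | h
  · left
    rw [eq_bot_iff]
    intro u hu
    have : Additive.toMul u ∈ L := hu
    rw [h, Subgroup.mem_bot] at this
    rw [Submodule.mem_bot]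
    exact congrArg Additive.ofMul this
  · right
    rw [eq_top_iff]
    intro u _
    have : Additive.toMul u ∈ L := by rw [h]; exact Subgroup.mem_top _
    exact this

end Cfsg.Agent.Lib.Helper58_FieldAct2
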