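import Mathlib
import Cfsg.Prelude.Def_Characters
import Cfsg.Agent.Lib.Helper80_CharBasic
import Cfsg.Agent.Lib.Helper6_GL23Defs
import Cfsg.Agent.Lib.Helper58_GL23_GAM
import Cfsg.Agent.Lib.Helper31_GL23_TR0

/-!
# S0197 (architect helper6): package LOCA (helper58)

Orders and centralizer orders of `a`, `a²`, `t s` in `G`, transported from `Γ = GL(2,3)`.
-/

set_option autoImplicit false
set_option linter.unusedVariables false
set_option linter.unusedSectionVars false
open scoped ComplexConjugate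

namespace Cfsg.Agent.Lib.Helper58_GL23_LOCA

open Cfsg Cfsg.Agent.Lib.Helper80_CharBasic Cfsg.Agent.Lib.Helper6_GL23Defs

theorem orderOf_aΓ : orderOf aΓ = 8 := by
  have h1 : ¬ aΓ ^ 2 ^ 2 = 1 := by decide +kernel
  have h2 : aΓ ^ 2 ^ (2 + 1) = 1 := by decide +kernel
  exact orderOf_eq_prime_pow h1 h2

theorem orderOf_sΓ : orderOf sΓ = 3 := by
  have h1 : sΓ ^ 3 = 1 := by decide +kernel
  have h2 : sΓ ≠ 1 := by decide +kernel
  exact orderOf_eq_prime h1 h2

section grp
variable {G : Type*} [Group G]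

/-- centralizers of elements with a power equal to `t` are computed inside `C_G(t) ≃* Γ` -/
theorem card_cent (t : G) (e : Subgroup.centralizer ({t} : Set G) ≃* Γ)
    (x' : Subgroup.centralizer ({t} : Set G)) (k : ℕ) (hk : (x' : G) ^ k = t) :
    Nat.card (Subgroup.centralizer ({(x' : G)} : Set G)) =
      Nat.card {g : Γ // g * e x' = e x' * g} := by
  have hC : ∀ g : G, g * (x' : G) = (x' : G) * g → g ∈ Subgroup.centralizer ({t} : Set G) := by
    intro g hg
    rw [Subgroup.mem_centralizer_singleton_iff, ← hk]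
    have hc : Commute g (x' : G) := hg
    exact (hc.pow_right k).eq
  apply Nat.card_congr
  refine
    { toFun := fun g => ⟨e ⟨g.1, hC g.1 (Subgroup.mem_centralizer_singleton_iff.mp g.2)⟩, ?_⟩
      invFun := fun γ => ⟨((e.symm γ.1 : Subgroup.centralizer ({t} : Set G)) : G), ?_⟩
      left_inv := ?_
      right_inv := ?_ }
  · rw [← map_mul, ← map_mul]
    congr 1
    apply Subtype.ext
    exact Subgroup.mem_centralizer_singleton_iff.mp g.2
  · rw [Subgroup.mem_centralizer_singleton_iff]
    have h1 : e.symm γ.1 * x' = x' * e.symm γ.1 := by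
      apply e.injective
      rw [map_mul, map_mul, MulEquiv.apply_symm_apply]
      exact γ.2
    exact congrArg Subtype.val h1
  · intro g
    apply Subtype.ext
    simp
  · intro γ
    apply Subtype.ext
    simp

variable [Finite G]

/-- **S0197-LOCA** -/
theorem loc_a (t : G) (ht : orderOf t = 2) (e : Subgroup.centralizer ({t} : Set G) ≃* Γ) :
    orderOf (aG t e) = 8 ∧ aG t e ^ 4 = t ∧ orderOf (sG t e) = 3 ∧ sG t e * t = t * sG t e ∧
    Nat.card (Subgroup.centralizer ({t} : Set G)) = 48 ∧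
    Nat.card (Subgroup.centralizer ({aG t e} : Set G)) = 8 ∧
    Nat.card (Subgroup.centralizer ({aG t e ^ 2} : Set G)) = 8 ∧
    Nat.card (Subgroup.centralizer ({t * sG t e} : Set G)) = 6 := by
  have hz := Cfsg.Agent.Lib.Helper31_GL23_TR0.trans_t t ht e
  obtain ⟨z, hzdef⟩ : ∃ z : Subgroup.centralizer ({t} : Set G),
      z = ⟨t, Subgroup.mem_centralizer_singleton_iff.mpr rfl⟩ := ⟨_, rfl⟩
  rw [← hzdef] at hz
  have hzt : (z : G) = t := by rw [hzdef]
  have ha4 : aG t e ^ 4 = t := by
    have h1 : (e.symm aΓ) ^ 4 = z := by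
      apply e.injective
      rw [map_pow, MulEquiv.apply_symm_apply, hz]
      exact Cfsg.Agent.Lib.Helper58_GL23_GAM.gam_a
    have h2 := congrArg Subtype.val h1
    rw [hzt] at h2
    exact (Subgroup.coe_pow _ (e.symm aΓ) 4).symm.trans h2
  have hst : sG t e * t = t * sG t e :=
    Subgroup.mem_centralizer_singleton_iff.mp (e.symm sΓ).2
  have hos : orderOf (sG t e) = 3 := by
    unfold sG
    rw [Subgroup.orderOf_coe, MulEquiv.orderOf_eq, orderOf_sΓ]
  have ht2 : t ^ 2 = 1 := by
    rw [← ht]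
    exact pow_orderOf_eq_one t
  refine ⟨?_, ha4, hos, hst, ?_, ?_, ?_, ?_⟩
  · unfold aG
    rw [Subgroup.orderOf_coe, MulEquiv.orderOf_eq, orderOf_aΓ]
  · rw [Nat.card_congr e.toEquiv]
    exact Cfsg.Agent.Lib.Helper58_GL23_GAM.gam_card
  · have h := card_cent t e (e.symm aΓ) 4 ha4
    rw [MulEquiv.apply_symm_apply] at h
    exact h.trans Cfsg.Agent.Lib.Helper58_GL23_GAM.gam_cent.1
  · have hk : (((e.symm aΓ) ^ 2 : Subgroup.centralizer ({t} : Set G)) : G) ^ 2 = t := by
      have h1 : (((e.symm aΓ) ^ 2 : Subgroup.centralizer ({t} : Set G)) : G) ^ 2 =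
          (aG t e ^ 2) ^ 2 := rfl
      have h2 : (aG t e ^ 2) ^ 2 = aG t e ^ 4 := by rw [← pow_mul]
      exact h1.trans (h2.trans ha4)
    have h := card_cent t e ((e.symm aΓ) ^ 2) 2 hk
    rw [map_pow, MulEquiv.apply_symm_apply] at h
    exact h.trans Cfsg.Agent.Lib.Helper58_GL23_GAM.gam_cent.2.1
  · have hts : ((z * e.symm sΓ : Subgroup.centralizer ({t} : Set G)) : G) = t * sG t e := by
      rw [Subgroup.coe_mul, hzt]
      rfl
    have hpow : (t * sG t e) ^ 3 = t := by
      have hc : Commute t (sG t e) := hst.symm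
      have h3 : sG t e ^ 3 = 1 := by
        rw [← hos]
        exact pow_orderOf_eq_one _
      have h4 : t ^ 3 = t := by rw [pow_succ, ht2, one_mul]
      rw [hc.mul_pow, h3, mul_one]
      exact h4
    have hk : ((z * e.symm sΓ : Subgroup.centralizer ({t} : Set G)) : G) ^ 3 = t := by
      rw [hts]
      exact hpow
    have h := card_cent t e (z * e.symm sΓ) 3 hk
    rw [map_mul, MulEquiv.apply_symm_apply, hz, hts] at h
    exact h.trans Cfsg.Agent.Lib.Helper58_GL23_GAM.gam_cent.2.2

end grp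

end Cfsg.Agent.Lib.Helper58_GL23_LOCA
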