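import Mathlib
import Cfsg.Agent.Lib.Helper83_HP2Defs

/-!
# HP2 market (architect helper83, row S5692), package HP2-T1IMG: if the `l`-coordinate of `g (pe i₀)`
vanishes then the `l`-coordinate of `g (pf i₀)` is singular (and the same with `pe`, `pf` exchanged).
Also small model lemmas (`h58_single_mem`, `h58_pQ_single`, `h58_pB_single`, `h58_coord_eq`,
`h58_pOm_le`).
-/

set_option autoImplicit false
set_option linter.unusedSectionVars false
set_option linter.unusedVariables false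

namespace Cfsg.Agent.Lib.Helper58_HP2_T1IMG

open Module Cfsg.Agent.Lib.Helper94_Symp Cfsg.Agent.Lib.Helper94_OrthSmall
  Cfsg.Agent.Lib.Helper94_OrthSiegel Cfsg.Agent.Lib.Helper94_OrthNondeg
  Cfsg.Agent.Lib.Helper29_ODDefs Cfsg.Agent.Lib.Helper94_Q2Defs Cfsg.Agent.Lib.Helper83_HP2Defs

variable {F : Type*} [Field F] [Finite F] {t : ℕ} {S M L : Subgroup (PV F t ≃ₗ[F] PV F t)}

theorem h58_single_mem (l : Fin t) (ζ : F × F) : (Pi.single l ζ : PV F t) ∈ pD F t l := by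
  intro j hj
  show (Pi.single l ζ : PV F t) j = 0
  rw [Pi.single_apply, if_neg hj]

theorem h58_pQ_single (l : Fin t) (ζ : F × F) : pQ F t (Pi.single l ζ) = ζ.1 * ζ.2 := by
  rw [pQ_apply]
  rw [Finset.sum_eq_single l]
  · rw [Pi.single_eq_same]
  · intro j _ hj
    rw [Pi.single_eq_of_ne hj]
    simp
  · intro h
    exact absurd (Finset.mem_univ l) h

theorem h58_pB_single (y : PV F t) (l : Fin t) (ζ : F × F) :
    pB F t y (Pi.single l ζ) = (y l).1 * ζ.2 + (y l).2 * ζ.1 := by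
  rw [pB_apply]
  rw [Finset.sum_eq_single l]
  · rw [Pi.single_eq_same]
  · intro j _ hj
    rw [Pi.single_eq_of_ne hj]
    simp
  · intro h
    exact absurd (Finset.mem_univ l) h

theorem h58_coord_eq (x : PV F t) (l : Fin t) : x l = (pB F t x (pf l), pB F t x (pe l)) := by
  rw [pf, pe, h58_pB_single, h58_pB_single]
  simp

theorem h58_pOm_le : pOm F t ≤ oG (pQ F t) := by
  rw [Subgroup.commutator_le]
  intro a ha b hb
  exact (oG (pQ F t)).mul_mem ((oG (pQ F t)).mul_mem ((oG (pQ F t)).mul_mem ha hb)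
    ((oG (pQ F t)).inv_mem ha)) ((oG (pQ F t)).inv_mem hb)

/-- common core of `T1IMG`, `T1IMG'` : if `u, v` are the images of a hyperbolic pair and the
`l`-coordinate of `u` vanishes, then the `l`-coordinate of `v` is singular. -/
theorem h58_core (hC : PCtx2 F t S M)
    (hFS : ∀ g ∈ M, g ∉ S → ∀ x, IsPBl x → ∀ l, g x l ≠ 0)
    {g : PV F t ≃ₗ[F] PV F t} (hg : g ∈ M) (hgS : g ∉ S) (i₀ l : Fin t)
    (hcoord : ∀ x : PV F t, pB F t x (g (pe i₀)) = 0 → pB F t x (g (pf i₀)) = 0 → g⁻¹ x i₀ = 0)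
    (ζ : F × F) (hx1 : pB F t (Pi.single l (ζ.1, -ζ.2)) (g (pe i₀)) = 0)
    (hx2 : pB F t (Pi.single l (ζ.1, -ζ.2)) (g (pf i₀)) = 0) : Sing ζ := by
  by_contra hζ
  have hζ' : ζ.1 * ζ.2 ≠ 0 := hζ
  have hx : IsPBl (Pi.single l (ζ.1, -ζ.2) : PV F t) := by
    refine ⟨?_, l, h58_single_mem l _⟩
    rw [h58_pQ_single]
    intro h0
    apply hζ'
    linear_combination -h0
  have hginv : g⁻¹ ∈ M := M.inv_mem hg
  have hginvS : g⁻¹ ∉ S := fun h => hgS (by simpa using S.inv_mem h)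
  exact hFS g⁻¹ hginv hginvS _ hx i₀ (hcoord _ hx1 hx2)

theorem h58_coord (hC : PCtx2 F t S M) {g : PV F t ≃ₗ[F] PV F t} (hg : g ∈ M) (i₀ : Fin t)
    (x : PV F t) (h1 : pB F t x (g (pe i₀)) = 0) (h2 : pB F t x (g (pf i₀)) = 0) :
    g⁻¹ x i₀ = 0 := by
  have hgO : g ∈ oG (pQ F t) := h58_pOm_le (hC.hMO hg)
  have e1 : pB F t (g⁻¹ x) (pe i₀) = pB F t x (g (pe i₀)) := by
    rw [← oG_B (pQ F t) (pB F t) (pQp F t) hgO (g⁻¹ x) (pe i₀)]
    congr 2
    exact LinearEquiv.apply_symm_apply g x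
  have e2 : pB F t (g⁻¹ x) (pf i₀) = pB F t x (g (pf i₀)) := by
    rw [← oG_B (pQ F t) (pB F t) (pQp F t) hgO (g⁻¹ x) (pf i₀)]
    congr 2
    exact LinearEquiv.apply_symm_apply g x
  rw [h58_coord_eq (g⁻¹ x) i₀, e1, e2, h1, h2]
  rfl

/-- **HP2-T1IMG**, verbatim. -/
theorem T1IMG (hC : PCtx2 F t S M)
    (hFS : ∀ g ∈ M, g ∉ S → ∀ x, IsPBl x → ∀ l, g x l ≠ 0)
    {g : PV F t ≃ₗ[F] PV F t} (hg : g ∈ M) (hgS : g ∉ S) (i₀ l : Fin t)
    (hs : g (pe i₀) l = 0) : Sing (g (pf i₀) l) := by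
  apply h58_core hC hFS hg hgS i₀ l (h58_coord hC hg i₀)
  · rw [B_symm (pQ F t) (pB F t) (pQp F t), h58_pB_single, hs]
    simp
  · rw [B_symm (pQ F t) (pB F t) (pQp F t), h58_pB_single]
    ring

/-- the same with the roles of pe, pf exchanged (same proof) -/
theorem T1IMG' (hC : PCtx2 F t S M)
    (hFS : ∀ g ∈ M, g ∉ S → ∀ x, IsPBl x → ∀ l, g x l ≠ 0)
    {g : PV F t ≃ₗ[F] PV F t} (hg : g ∈ M) (hgS : g ∉ S) (i₀ l : Fin t)
    (hs : g (pf i₀) l = 0) : Sing (g (pe i₀) l) := by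
  apply h58_core hC hFS hg hgS i₀ l (h58_coord hC hg i₀)
  · rw [B_symm (pQ F t) (pB F t) (pQp F t), h58_pB_single]
    ring
  · rw [B_symm (pQ F t) (pB F t) (pQp F t), h58_pB_single, hs]
    simp

end Cfsg.Agent.Lib.Helper58_HP2_T1IMG
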