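import Mathlib
import Cfsg.Agent.Lib.Helper83_HP2Defs
import Cfsg.Agent.Lib.Helper58_HP2_T1IMG

/-!
# HP2 market (architect helper83, row S5692), package HP2-T1KILL: an element of `M` of the form
`x ↦ x + θ (B(x, ε_l) s - B(x, s) ε_l)` with `s ≠ 0`, `s l = 0`, `θ ≠ 0` cannot exist under (FS).
-/

set_option autoImplicit false
set_option linter.unusedSectionVars false
set_option linter.unusedVariables false

namespace Cfsg.Agent.Lib.Helper58_HP2_T1KILL

open Module Cfsg.Agent.Lib.Helper94_Symp Cfsg.Agent.Lib.Helper94_OrthSmall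
  Cfsg.Agent.Lib.Helper94_OrthSiegel Cfsg.Agent.Lib.Helper94_OrthNondeg
  Cfsg.Agent.Lib.Helper29_ODDefs Cfsg.Agent.Lib.Helper94_Q2Defs Cfsg.Agent.Lib.Helper83_HP2Defs

open Cfsg.Agent.Lib.Helper58_HP2_T1IMG (h58_single_mem h58_pQ_single h58_pB_single)

variable {F : Type*} [Field F] [Finite F] {t : ℕ} {S M L : Subgroup (PV F t ≃ₗ[F] PV F t)}

/-- `K ∉ S` -/
theorem h58_notS (hC : PCtx2 F t S M)
    {K : PV F t ≃ₗ[F] PV F t} {l : Fin t} {ε : F × F} (hε : ε = (1, 0) ∨ ε = (0, 1))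
    {s : PV F t} (hs0 : s ≠ 0) (hsl : s l = 0) {θ : F} (hθ : θ ≠ 0)
    (hKx : ∀ x, K x = x + θ • (pB F t x (Pi.single l ε) • s - pB F t x s • (Pi.single l ε : PV F t))) :
    K ∉ S := by
  intro hKS
  obtain ⟨σ, hσ⟩ := (hC.hS K).mp hKS
  have hε0 : ε ≠ 0 := by
    rcases hε with h | h <;> rw [h] <;> simp
  -- `K` fixes `single l ε`
  have hfix : K (Pi.single l ε) = (Pi.single l ε : PV F t) := by
    rw [hKx, h58_pB_single, B_symm (pQ F t) (pB F t) (pQp F t), h58_pB_single, hsl]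
    have : ((Pi.single l ε : PV F t) l) = ε := by rw [Pi.single_apply, if_pos rfl]
    rw [this]
    have h0 : ε.1 * ε.2 + ε.2 * ε.1 = 0 := by
      rcases hε with h | h <;> rw [h] <;> simp
    rw [h0]
    simp
  -- hence `σ l = l`
  have hmem : (Pi.single l ε : PV F t) ∈ pD F t (σ l) := by
    rw [← hσ l, ← hfix]
    exact Submodule.mem_map_of_mem (h58_single_mem l ε)
  have hσl : σ l = l := by
    by_contra hne
    have h1 := hmem l (fun h => hne h.symm)
    rw [Pi.single_eq_same] at h1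
    exact hε0 h1
  -- the other basis vector
  obtain ⟨ε', hε', hB⟩ : ∃ ε' : F × F, (ε' = (1, 0) ∨ ε' = (0, 1)) ∧ ε'.1 * ε.2 + ε'.2 * ε.1 = 1 := by
    rcases hε with h | h
    · exact ⟨(0, 1), Or.inr rfl, by rw [h]; simp⟩
    · exact ⟨(1, 0), Or.inl rfl, by rw [h]; simp⟩
  have hmem' : K (Pi.single l ε') ∈ pD F t l := by
    have h1 : K (Pi.single l ε') ∈ (pD F t l).map (K : PV F t →ₗ[F] PV F t) :=
      Submodule.mem_map_of_mem (h58_single_mem l ε')
    rw [hσ l, hσl] at h1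
    exact h1
  -- so `s` vanishes off `l`
  apply hs0
  funext j
  by_cases hj : j = l
  · rw [hj, hsl]
    rfl
  · have h1 := hmem' j hj
    rw [hKx, h58_pB_single] at h1
    have h2 : ((Pi.single l ε' : PV F t) l) = ε' := by rw [Pi.single_apply, if_pos rfl]
    have h3 : ((Pi.single l ε' : PV F t) j) = 0 := by rw [Pi.single_apply, if_neg hj]
    have h4 : ((Pi.single l ε : PV F t) j) = 0 := by rw [Pi.single_apply, if_neg hj]
    rw [h2, hB] at h1
    simp only [Pi.add_apply, Pi.smul_apply, Pi.sub_apply, h3, h4, smul_zero, sub_zero, zero_add,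
      one_smul] at h1
    rcases smul_eq_zero.mp h1 with h5 | h5
    · exact absurd h5 hθ
    · exact h5

/-- **HP2-T1KILL**, verbatim. -/
theorem T1KILL (hC : PCtx2 F t S M)
    (hFS : ∀ g ∈ M, g ∉ S → ∀ x, IsPBl x → ∀ l, g x l ≠ 0)
    {K : PV F t ≃ₗ[F] PV F t} (hK : K ∈ M) {l : Fin t} {ε : F × F} (hε : ε = (1, 0) ∨ ε = (0, 1))
    {s : PV F t} (hs0 : s ≠ 0) (hsl : s l = 0) {θ : F} (hθ : θ ≠ 0)
    (hKx : ∀ x, K x = x + θ • (pB F t x (Pi.single l ε) • s - pB F t x s • (Pi.single l ε : PV F t))) :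
    False := by
  have hKS : K ∉ S := h58_notS hC hε hs0 hsl hθ hKx
  have h3 : 3 ≤ t := by
    have := hC.ht
    omega
  obtain ⟨j, hj⟩ : ∃ j : Fin t, j ≠ l := by
    by_cases h : l.val = 0
    · exact ⟨⟨1, by omega⟩, fun h' => by rw [← h'] at h; simp at h⟩
    · exact ⟨⟨0, by omega⟩, fun h' => by rw [← h'] at h; simp at h⟩
  obtain ⟨i, hij, hil⟩ : ∃ i : Fin t, i ≠ j ∧ i ≠ l := by
    have key : ∃ n : ℕ, n < 3 ∧ n ≠ j.val ∧ n ≠ l.val := by
      by_cases h0 : 0 ≠ j.val ∧ 0 ≠ l.val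
      · exact ⟨0, by omega, h0.1, h0.2⟩
      by_cases h1 : 1 ≠ j.val ∧ 1 ≠ l.val
      · exact ⟨1, by omega, h1.1, h1.2⟩
      · have hjl : j.val ≠ l.val := fun h => hj (Fin.ext h)
        exact ⟨2, by omega, by omega, by omega⟩
    obtain ⟨n, hn, h1, h2⟩ := key
    exact ⟨⟨n, by omega⟩, fun h => h1 (by rw [← h]), fun h => h2 (by rw [← h])⟩
  have hx : IsPBl (Pi.single j ((1 : F), (1 : F)) : PV F t) := by
    refine ⟨?_, j, h58_single_mem j _⟩
    rw [h58_pQ_single]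
    simp
  apply hFS K hK hKS _ hx i
  rw [hKx, h58_pB_single]
  have h1 : ((Pi.single j ((1 : F), (1 : F)) : PV F t) l) = 0 := by
    rw [Pi.single_apply, if_neg (Ne.symm hj)]
  have h2 : ((Pi.single j ((1 : F), (1 : F)) : PV F t) i) = 0 := by
    rw [Pi.single_apply, if_neg hij]
  have h3 : ((Pi.single l ε : PV F t) i) = 0 := by rw [Pi.single_apply, if_neg hil]
  rw [h1]
  simp only [Pi.add_apply, Pi.smul_apply, Pi.sub_apply, h2, h3, smul_zero, sub_zero,
    Prod.fst_zero, Prod.snd_zero, zero_mul, add_zero, zero_smul, Pi.zero_apply]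

end Cfsg.Agent.Lib.Helper58_HP2_T1KILL
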