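import Mathlib
import Cfsg.Prelude.Def_Solvable
import Cfsg.Agent.Lib.Helper6_Frobenius

set_option autoImplicit false
set_option linter.style.haveILetI false

/-!
A finite nonabelian simple group `T` cannot satisfy both
* `N_T(C_T(t)) = C_T(t)` for every `t ≠ 1`, and
* `C_T(t ^ i) = C_T(t)` whenever `t ^ i ≠ 1`.

The proof uses Frobenius' theorem (helper6) and a count of elements of prime power order.
-/

namespace Cfsg.Agent.Lib.Helper58_SelfNormCent

open Subgroup
open scoped Pointwise

/-- `∑_{k=2}^{n} 1/k² ≤ 3/4 - 1/n`. -/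
theorem sum_Icc_inv_sq (n : ℕ) (hn : 2 ≤ n) :
    ∑ k ∈ Finset.Icc 2 n, (1 : ℚ) / (k : ℚ) ^ 2 ≤ 3 / 4 - 1 / n := by
  induction n, hn using Nat.le_induction with
  | base => norm_num [Finset.Icc_self]
  | succ n hn ih =>
    rw [Finset.sum_Icc_succ_top (by omega)]
    have hn' : (0 : ℚ) < n := by exact_mod_cast (by omega : 0 < n)
    have h1 : (1 : ℚ) / ((n + 1 : ℕ) : ℚ) ^ 2 ≤ 1 / n - 1 / ((n + 1 : ℕ) : ℚ) := by
      push_cast
      rw [div_sub_div _ _ hn'.ne' (by positivity), div_le_div_iff₀ (by positivity) (by positivity)]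
      ring_nf
      nlinarith [hn']
    linarith

/-- The sum of `1/p²` over any finite set of primes is at most `3/4`. -/
theorem sum_primes_inv_sq (S : Finset ℕ) (hS : ∀ p ∈ S, p.Prime) :
    ∑ p ∈ S, (1 : ℚ) / (p : ℚ) ^ 2 ≤ 3 / 4 := by
  rcases S.eq_empty_or_nonempty with rfl | hne
  · norm_num
  set n := S.max' hne with hn
  have h2 : 2 ≤ n := (hS n (S.max'_mem hne)).two_le
  have hsub : S ⊆ Finset.Icc 2 n := by
    intro p hp
    rw [Finset.mem_Icc]
    exact ⟨(hS p hp).two_le, S.le_max' p hp⟩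
  calc ∑ p ∈ S, (1 : ℚ) / (p : ℚ) ^ 2 ≤ ∑ p ∈ Finset.Icc 2 n, (1 : ℚ) / (p : ℚ) ^ 2 :=
        Finset.sum_le_sum_of_subset_of_nonneg hsub (fun _ _ _ => by positivity)
    _ ≤ 3 / 4 - 1 / n := sum_Icc_inv_sq n h2
    _ ≤ 3 / 4 := by
        have : (0 : ℚ) ≤ 1 / n := by positivity
        linarith

variable {T : Type*} [Group T]

/-- A finite simple group has no Frobenius complement. -/
theorem no_frobenius_complement [Finite T] [IsSimpleGroup T] (M : Subgroup T)
    (hM : Cfsg.IsFrobeniusComplement M) : False := by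
  obtain ⟨N, -, hN, hc⟩ := Cfsg.Agent.Lib.Helper6_Frobenius.exists_kernel M hM
  rcases hN.eq_bot_or_eq_top with h | h
  · rw [h, isComplement'_bot_left] at hc
    exact hM.2.1 hc
  · rw [h, isComplement'_top_left] at hc
    exact hM.1 hc

/-- The centre of a nonabelian simple group is trivial. -/
theorem center_eq_bot [IsSimpleGroup T] (hT : ∃ a b : T, a * b ≠ b * a) :
    Subgroup.center T = ⊥ := by
  rcases (inferInstance : (Subgroup.center T).Normal).eq_bot_or_eq_top with h | h
  · exact h
  · exfalso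
    obtain ⟨a, b, hab⟩ := hT
    have : b ∈ Subgroup.center T := by rw [h]; exact Subgroup.mem_top _
    exact hab (Subgroup.mem_center_iff.mp this a)

/-- If `y` and `g⁻¹ y g` both have centralizer `M`, then `g` normalizes `M`. -/
theorem mem_normalizer_of_centralizer_eq (M : Subgroup T) (g y : T)
    (c1 : Subgroup.centralizer ({y} : Set T) = M)
    (c2 : Subgroup.centralizer ({g⁻¹ * y * g} : Set T) = M) :
    g ∈ Subgroup.normalizer (M : Set T) := by
  rw [Subgroup.mem_normalizer_iff]
  intro m
  constructor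
  · intro hm
    have hm' : m ∈ Subgroup.centralizer ({g⁻¹ * y * g} : Set T) := by rw [c2]; exact hm
    rw [← c1]
    rw [Subgroup.mem_centralizer_singleton_iff] at hm' ⊢
    have : g * m * g⁻¹ * y = g * (m * (g⁻¹ * y * g)) * g⁻¹ := by group
    rw [this, hm']; group
  · intro hm
    have hm' : g * m * g⁻¹ ∈ Subgroup.centralizer ({y} : Set T) := by rw [c1]; exact hm
    rw [← c2]
    rw [Subgroup.mem_centralizer_singleton_iff] at hm' ⊢
    have : m * (g⁻¹ * y * g) = g⁻¹ * (g * m * g⁻¹ * y) * g := by group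
    rw [this, hm']; group

/-- membership in a conjugate -/
theorem conj_mem_of_mem_smul (M : Subgroup T) (g y : T) (h : y ∈ MulAut.conj g • M) :
    g⁻¹ * y * g ∈ M := by
  rw [Subgroup.mem_pointwise_smul_iff_inv_smul_mem] at h
  simpa [MulAut.smul_def, MulAut.conj_apply] using h

theorem conj_ne_one {g y : T} (hy : y ≠ 1) : g⁻¹ * y * g ≠ 1 := by
  intro h
  apply hy
  have : y = g * (g⁻¹ * y * g) * g⁻¹ := by group
  rw [this, h]; group

section main

variable (h1 : ∀ t : T, t ≠ 1 →
    Subgroup.normalizer ((Subgroup.centralizer ({t} : Set T) : Subgroup T) : Set T) =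
      Subgroup.centralizer ({t} : Set T))
  (h2 : ∀ (t : T) (i : ℕ), t ^ i ≠ 1 →
    Subgroup.centralizer ({t ^ i} : Set T) = Subgroup.centralizer ({t} : Set T))

include h2 in
/-- Commuting nontrivial elements of coprime orders have the same centralizer. -/
theorem centralizer_eq_of_coprime {x z : T} (hx : x ≠ 1) (hz : z ≠ 1)
    (hc : Commute x z) (hco : (orderOf x).Coprime (orderOf z)) :
    Subgroup.centralizer ({x} : Set T) = Subgroup.centralizer ({z} : Set T) := by
  have hxn : x ^ orderOf z ≠ 1 := by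
    intro h
    have hd := orderOf_dvd_of_pow_eq_one h
    exact hx (orderOf_eq_one_iff.mp (Nat.Coprime.eq_one_of_dvd hco hd))
  have hzn : z ^ orderOf x ≠ 1 := by
    intro h
    have hd := orderOf_dvd_of_pow_eq_one h
    exact hz (orderOf_eq_one_iff.mp (Nat.Coprime.eq_one_of_dvd hco.symm hd))
  have e1 : (x * z) ^ orderOf z = x ^ orderOf z := by
    rw [hc.mul_pow, pow_orderOf_eq_one, mul_one]
  have e2 : (x * z) ^ orderOf x = z ^ orderOf x := by
    rw [hc.mul_pow, pow_orderOf_eq_one, one_mul]
  have a1 := h2 (x * z) (orderOf z) (by rw [e1]; exact hxn)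
  have a2 := h2 x (orderOf z) hxn
  have b1 := h2 (x * z) (orderOf x) (by rw [e2]; exact hzn)
  have b2 := h2 z (orderOf x) hzn
  rw [e1] at a1
  rw [e2] at b1
  rw [← a2, a1, ← b1, b2]

include h1 h2 in
/-- Under `h1`, `h2`, in a nonabelian simple group the centralizer of a nontrivial `p`-element
is a `p`-group (otherwise it would be a Frobenius complement). -/
theorem centralizer_isPGroup [Finite T] [IsSimpleGroup T] (hT : ∃ a b : T, a * b ≠ b * a)
    (p : ℕ) [Fact p.Prime] (z : T) (hz : z ≠ 1) (hzp : ∃ k, orderOf z = p ^ k) :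
    IsPGroup p (Subgroup.centralizer ({z} : Set T)) := by
  by_contra hnp
  set M := Subgroup.centralizer ({z} : Set T) with hM
  have hex : ∃ q : ℕ, q.Prime ∧ q ≠ p ∧ q ∣ Nat.card M := by
    by_contra hcon
    push Not at hcon
    apply hnp
    rw [IsPGroup.iff_card]
    exact ⟨_, Nat.eq_prime_pow_of_unique_prime_dvd Nat.card_pos.ne' (fun {d} hd hdvd => by
      by_contra hne; exact hcon d hd hne hdvd)⟩
  obtain ⟨q, hq, hqp, hqd⟩ := hex
  haveI := Fact.mk hq
  obtain ⟨x', hxo'⟩ := exists_prime_orderOf_dvd_card' q hqd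
  obtain ⟨x, hxM⟩ := x'
  have hxo : orderOf x = q := by
    rw [← hxo']; exact (Subgroup.orderOf_mk x hxM).symm
  have hx1 : x ≠ 1 := by
    intro h; rw [h, orderOf_one] at hxo; exact hq.one_lt.ne hxo
  have hxz : Commute x z := by
    have := Subgroup.mem_centralizer_singleton_iff.mp hxM
    exact this
  obtain ⟨k, hk⟩ := hzp
  have hpq : Nat.Coprime q p := (Nat.coprime_primes hq (Fact.out : p.Prime)).mpr hqp
  have hco : (orderOf x).Coprime (orderOf z) := by
    rw [hxo, hk]; exact Nat.Coprime.pow_right k hpq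
  have hCx : Subgroup.centralizer ({x} : Set T) = M := centralizer_eq_of_coprime h2 hx1 hz hxz hco
  have hall : ∀ y ∈ M, y ≠ 1 → Subgroup.centralizer ({y} : Set T) = M := by
    intro y hy hy1
    have hoy : orderOf y ≠ 1 := fun h => hy1 (orderOf_eq_one_iff.mp h)
    obtain ⟨r, hr, hrd⟩ := Nat.exists_prime_and_dvd hoy
    have hy'o : orderOf (y ^ (orderOf y / r)) = r :=
      orderOf_pow_orderOf_div (orderOf_pos y).ne' hrd
    have hy'1 : y ^ (orderOf y / r) ≠ 1 := by
      intro h; rw [h, orderOf_one] at hy'o; exact hr.one_lt.ne hy'o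
    have hy'M : y ^ (orderOf y / r) ∈ M := pow_mem hy _
    have key : Subgroup.centralizer ({y ^ (orderOf y / r)} : Set T) = M := by
      by_cases hrp : r = p
      · have hcm : Commute (y ^ (orderOf y / r)) x := by
          have h' : y ^ (orderOf y / r) ∈ Subgroup.centralizer ({x} : Set T) := by
            rw [hCx]; exact hy'M
          exact Subgroup.mem_centralizer_singleton_iff.mp h'
        have hcop : (orderOf (y ^ (orderOf y / r))).Coprime (orderOf x) := by
          rw [hy'o, hxo, hrp]; exact hpq.symm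
        rw [centralizer_eq_of_coprime h2 hy'1 hx1 hcm hcop, hCx]
      · have hcm : Commute (y ^ (orderOf y / r)) z :=
          Subgroup.mem_centralizer_singleton_iff.mp hy'M
        have hcop : (orderOf (y ^ (orderOf y / r))).Coprime (orderOf z) := by
          rw [hy'o, hk]
          exact Nat.Coprime.pow_right k ((Nat.coprime_primes hr (Fact.out : p.Prime)).mpr hrp)
        exact centralizer_eq_of_coprime h2 hy'1 hz hcm hcop
    rw [← h2 y _ hy'1]
    exact key
  have hzM : z ∈ M := Subgroup.mem_centralizer_singleton_iff.mpr rfl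
  apply no_frobenius_complement M
  refine ⟨?_, ?_, ?_⟩
  · intro h
    rw [h, Subgroup.mem_bot] at hzM
    exact hz hzM
  · intro h
    have hzc : z ∈ Subgroup.center T := by
      rw [Subgroup.mem_center_iff]
      intro g
      have : g ∈ M := by rw [h]; exact Subgroup.mem_top _
      exact Subgroup.mem_centralizer_singleton_iff.mp this
    rw [center_eq_bot hT, Subgroup.mem_bot] at hzc
    exact hz hzc
  · intro g hg
    rw [eq_bot_iff]
    intro y hy
    rw [Subgroup.mem_bot]
    by_contra hy1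
    obtain ⟨hyM, hyg⟩ := Subgroup.mem_inf.mp hy
    have hyg' : g⁻¹ * y * g ∈ M := conj_mem_of_mem_smul M g y hyg
    have hne : g⁻¹ * y * g ≠ 1 := conj_ne_one hy1
    have c1 := hall y hyM hy1
    have c2 := hall _ hyg' hne
    apply hg
    have hgn : g ∈ Subgroup.normalizer (M : Set T) := mem_normalizer_of_centralizer_eq M g y c1 c2
    rw [h1 z hz] at hgn
    exact hgn

include h1 h2 in
/-- The centralizer of a nontrivial `p`-element is a Sylow `p`-subgroup. -/
theorem centralizer_eq_sylow [Finite T] [IsSimpleGroup T] (hT : ∃ a b : T, a * b ≠ b * a)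
    (p : ℕ) [Fact p.Prime] (z : T) (hz : z ≠ 1) (hzp : ∃ k, orderOf z = p ^ k) :
    ∃ S : Sylow p T, (S : Subgroup T) = Subgroup.centralizer ({z} : Set T) := by
  have hp := centralizer_isPGroup h1 h2 hT p z hz hzp
  obtain ⟨S, hS⟩ := hp.exists_le_sylow
  refine ⟨S, ?_⟩
  by_contra hne
  have hlt : (Subgroup.centralizer ({z} : Set T)).subgroupOf (S : Subgroup T) < ⊤ := by
    rw [lt_top_iff_ne_top]
    intro h
    rw [Subgroup.subgroupOf_eq_top] at h
    exact hne (le_antisymm h hS)
  haveI : Group.IsNilpotent (S : Subgroup T) := S.isPGroup'.isNilpotent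
  have hnc := Group.normalizerCondition_of_isNilpotent (G := (S : Subgroup T)) _ hlt
  obtain ⟨s, hsN, hsC⟩ := SetLike.exists_of_lt hnc
  have hmem : (s : T) ∈ Subgroup.normalizer
      ((Subgroup.centralizer ({z} : Set T) : Subgroup T) : Set T) := by
    rw [Subgroup.mem_normalizer_iff]
    intro h
    rw [Subgroup.mem_normalizer_iff] at hsN
    constructor
    · intro hh
      have := (hsN ⟨h, hS hh⟩).mp (Subgroup.mem_subgroupOf.mpr hh)
      exact Subgroup.mem_subgroupOf.mp this
    · intro hh
      have hhS : h ∈ (S : Subgroup T) := by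
        have := (S : Subgroup T).mul_mem ((S : Subgroup T).mul_mem
          ((S : Subgroup T).inv_mem s.2) (hS hh)) s.2
        convert this using 1; group
      have := (hsN ⟨h, hhS⟩).mpr (Subgroup.mem_subgroupOf.mpr hh)
      exact Subgroup.mem_subgroupOf.mp this
  rw [h1 z hz] at hmem
  exact hsC (Subgroup.mem_subgroupOf.mpr hmem)

include h1 h2 in
/-- Every nontrivial element has prime power order. -/
theorem prime_power_order [Finite T] [IsSimpleGroup T] (hT : ∃ a b : T, a * b ≠ b * a)
    (x : T) (hx : x ≠ 1) : ∃ p : ℕ, p.Prime ∧ ∃ k, orderOf x = p ^ k := by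
  have hox : orderOf x ≠ 1 := fun h => hx (orderOf_eq_one_iff.mp h)
  obtain ⟨p, hp, hpd⟩ := Nat.exists_prime_and_dvd hox
  haveI := Fact.mk hp
  refine ⟨p, hp, ?_⟩
  have hx'o : orderOf (x ^ (orderOf x / p)) = p :=
    orderOf_pow_orderOf_div (orderOf_pos x).ne' hpd
  have hx'1 : x ^ (orderOf x / p) ≠ 1 := by
    intro h; rw [h, orderOf_one] at hx'o; exact hp.one_lt.ne hx'o
  have hPG := centralizer_isPGroup h1 h2 hT p _ hx'1 ⟨1, by rw [hx'o, pow_one]⟩
  have hxmem : x ∈ Subgroup.centralizer ({x ^ (orderOf x / p)} : Set T) := by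
    rw [Subgroup.mem_centralizer_singleton_iff]
    exact ((Commute.refl x).pow_right _).eq
  obtain ⟨k, hk⟩ := (IsPGroup.iff_orderOf.mp hPG) ⟨x, hxmem⟩
  exact ⟨k, by rw [← hk]; exact (Subgroup.orderOf_mk x hxmem).symm⟩

include h1 h2 in
/-- Sylow subgroups are self-normalizing. -/
theorem sylow_normalizer_eq [Finite T] [IsSimpleGroup T] (hT : ∃ a b : T, a * b ≠ b * a)
    (p : ℕ) [Fact p.Prime] (P : Sylow p T) (hP : (P : Subgroup T) ≠ ⊥) :
    Subgroup.normalizer ((P : Subgroup T) : Set T) = P := by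
  haveI : Nontrivial (P : Subgroup T) := (Subgroup.nontrivial_iff_ne_bot _).mpr hP
  haveI := P.isPGroup'.center_nontrivial
  obtain ⟨⟨z, hzc⟩, hz1⟩ := exists_ne (1 : Subgroup.center (P : Subgroup T))
  have hz1' : (z : T) ≠ 1 := by
    intro h
    apply hz1
    apply Subtype.ext
    apply Subtype.ext
    exact h
  have hzo : ∃ k, orderOf (z : T) = p ^ k := by
    obtain ⟨k, hk⟩ := (IsPGroup.iff_orderOf.mp P.isPGroup') z
    exact ⟨k, by rw [← hk, Subgroup.orderOf_coe]⟩
  have hPle : (P : Subgroup T) ≤ Subgroup.centralizer ({(z : T)} : Set T) := by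
    intro y hy
    rw [Subgroup.mem_centralizer_singleton_iff]
    have := Subgroup.mem_center_iff.mp hzc ⟨y, hy⟩
    exact congrArg Subtype.val this
  have hCeq : Subgroup.centralizer ({(z : T)} : Set T) = P :=
    P.is_maximal' (centralizer_isPGroup h1 h2 hT p _ hz1' hzo) hPle
  rw [← hCeq]
  exact h1 _ hz1'

include h1 h2 in
/-- Sylow subgroups are nonabelian. -/
theorem sylow_not_comm [Finite T] [IsSimpleGroup T] (hT : ∃ a b : T, a * b ≠ b * a)
    (p : ℕ) [Fact p.Prime] (P : Sylow p T) (hP : (P : Subgroup T) ≠ ⊥) :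
    ∃ a ∈ (P : Subgroup T), ∃ b ∈ (P : Subgroup T), a * b ≠ b * a := by
  by_contra hcon
  push Not at hcon
  apply no_frobenius_complement (P : Subgroup T)
  refine ⟨hP, ?_, ?_⟩
  · intro htop
    obtain ⟨a, b, hab⟩ := hT
    exact hab (hcon a (by rw [htop]; exact Subgroup.mem_top _) b
      (by rw [htop]; exact Subgroup.mem_top _))
  · intro g hg
    rw [eq_bot_iff]
    intro y hy
    rw [Subgroup.mem_bot]
    by_contra hy1
    obtain ⟨hyP, hyg⟩ := Subgroup.mem_inf.mp hy
    have hyg' : g⁻¹ * y * g ∈ (P : Subgroup T) := conj_mem_of_mem_smul _ g y hyg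
    have hne : g⁻¹ * y * g ≠ 1 := conj_ne_one hy1
    have hord : ∀ w ∈ (P : Subgroup T), ∃ k, orderOf w = p ^ k := by
      intro w hw
      obtain ⟨k, hk⟩ := (IsPGroup.iff_orderOf.mp P.isPGroup') ⟨w, hw⟩
      exact ⟨k, by rw [← hk]; exact (Subgroup.orderOf_mk w hw).symm⟩
    have hC : ∀ w ∈ (P : Subgroup T), w ≠ 1 →
        Subgroup.centralizer ({w} : Set T) = P := by
      intro w hw hw1
      refine P.is_maximal' (centralizer_isPGroup h1 h2 hT p w hw1 (hord w hw)) ?_
      intro m hm
      rw [Subgroup.mem_centralizer_singleton_iff]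
      exact hcon m hm w hw
    have hgn := mem_normalizer_of_centralizer_eq (P : Subgroup T) g y (hC y hyP hy1)
      (hC _ hyg' hne)
    rw [sylow_normalizer_eq h1 h2 hT p P hP] at hgn
    exact hg hgn

include h1 h2 in
/-- The centre of a Sylow subgroup has index at least `p²`. -/
theorem center_card_mul_sq_le [Finite T] [IsSimpleGroup T] (hT : ∃ a b : T, a * b ≠ b * a)
    (p : ℕ) [Fact p.Prime] (P : Sylow p T) (hP : (P : Subgroup T) ≠ ⊥) :
    Nat.card (Subgroup.center (P : Subgroup T)) * p ^ 2 ≤ Nat.card (P : Subgroup T) := by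
  have hpp : p.Prime := Fact.out
  have hcard : Nat.card (Subgroup.center (P : Subgroup T)) *
      (Subgroup.center (P : Subgroup T)).index = Nat.card (P : Subgroup T) :=
    Subgroup.card_mul_index _
  obtain ⟨n, hn⟩ := IsPGroup.iff_card.mp P.isPGroup'
  have hidx : (Subgroup.center (P : Subgroup T)).index ∣ p ^ n := by
    rw [← hn]; exact Subgroup.index_dvd_card _
  obtain ⟨j, hj, hjidx⟩ := (Nat.dvd_prime_pow hpp).mp hidx
  have hj2 : 2 ≤ j := by
    by_contra hlt
    push Not at hlt
    obtain ⟨a, ha, b, hb, hab⟩ := sylow_not_comm h1 h2 hT p P hP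
    interval_cases j
    · rw [pow_zero, Subgroup.index_eq_one] at hjidx
      have hbZ : (⟨b, hb⟩ : (P : Subgroup T)) ∈ Subgroup.center (P : Subgroup T) := by
        rw [hjidx]; exact Subgroup.mem_top _
      have := Subgroup.mem_center_iff.mp hbZ ⟨a, ha⟩
      exact hab (congrArg Subtype.val this)
    · rw [pow_one] at hjidx
      have hq : Nat.card ((P : Subgroup T) ⧸ Subgroup.center (P : Subgroup T)) = p := by
        rw [← Subgroup.index_eq_card]; exact hjidx
      haveI : IsCyclic ((P : Subgroup T) ⧸ Subgroup.center (P : Subgroup T)) :=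
        isCyclic_of_prime_card hq
      have hcomm := MonoidHom.isMulCommutative_of_isCyclic_of_ker_le_center
        (QuotientGroup.mk' (Subgroup.center (P : Subgroup T)))
        (by rw [QuotientGroup.ker_mk'])
      have := hcomm.is_comm.comm (⟨a, ha⟩ : (P : Subgroup T)) ⟨b, hb⟩
      exact hab (congrArg Subtype.val this)
  calc Nat.card (Subgroup.center (P : Subgroup T)) * p ^ 2
      ≤ Nat.card (Subgroup.center (P : Subgroup T)) *
          (Subgroup.center (P : Subgroup T)).index := by
        apply Nat.mul_le_mul_left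
        rw [hjidx]
        exact Nat.pow_le_pow_right hpp.pos hj2
    _ = _ := hcard

open Classical in
include h1 h2 in
/-- There are at most `|T| / p²` nontrivial `p`-elements. -/
theorem card_pElements_mul_sq_le [Fintype T] [IsSimpleGroup T] (hT : ∃ a b : T, a * b ≠ b * a)
    (p : ℕ) [Fact p.Prime] :
    (Finset.univ.filter (fun x : T => x ≠ 1 ∧ ∃ k, orderOf x = p ^ k)).card * p ^ 2
      ≤ Fintype.card T := by
  have hpp : p.Prime := Fact.out
  set E := Finset.univ.filter (fun x : T => x ≠ 1 ∧ ∃ k, orderOf x = p ^ k) with hE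
  rcases E.eq_empty_or_nonempty with hemp | ⟨x₀, hx₀⟩
  · rw [hemp]; simp
  have hx₀' := (Finset.mem_filter.mp hx₀).2
  obtain ⟨P₀, hP₀⟩ := centralizer_eq_sylow h1 h2 hT p x₀ hx₀'.1 hx₀'.2
  have hP₀bot : (P₀ : Subgroup T) ≠ ⊥ := by
    intro h
    rw [h] at hP₀
    have : x₀ ∈ Subgroup.centralizer ({x₀} : Set T) :=
      Subgroup.mem_centralizer_singleton_iff.mpr rfl
    rw [← hP₀, Subgroup.mem_bot] at this
    exact hx₀'.1 this
  have hcardS : ∀ S : Sylow p T, Nat.card (S : Subgroup T) = Nat.card (P₀ : Subgroup T) := by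
    intro S; rw [Sylow.card_eq_multiplicity, Sylow.card_eq_multiplicity]
  have hbot : ∀ S : Sylow p T, (S : Subgroup T) ≠ ⊥ := by
    intro S h
    have h3 : Nat.card (P₀ : Subgroup T) = 1 := by
      rw [← hcardS S, h]; exact Subgroup.card_bot
    exact hP₀bot (Subgroup.card_eq_one.mp h3)
  let f : T → Sylow p T := fun x =>
    if h : x ≠ 1 ∧ ∃ k, orderOf x = p ^ k then
      Classical.choose (centralizer_eq_sylow h1 h2 hT p x h.1 h.2) else P₀
  have hf : ∀ x, (x ≠ 1 ∧ ∃ k, orderOf x = p ^ k) →
      ((f x : Sylow p T) : Subgroup T) = Subgroup.centralizer ({x} : Set T) := by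
    intro x h
    simp only [f, dif_pos h]
    exact Classical.choose_spec (centralizer_eq_sylow h1 h2 hT p x h.1 h.2)
  set c := Nat.card (P₀ : Subgroup T) / p ^ 2 with hc
  have hfib : ∀ S ∈ Finset.image f E, (E.filter (fun a => f a = S)).card ≤ c := by
    intro S _
    have hcen : Nat.card (Subgroup.center (S : Subgroup T)) ≤ c := by
      rw [hc, Nat.le_div_iff_mul_le (pow_pos hpp.pos 2), ← hcardS S]
      exact center_card_mul_sq_le h1 h2 hT p S (hbot S)
    refine le_trans ?_ hcen
    have hsub : E.filter (fun a => f a = S) ⊆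
        Finset.image (fun z : Subgroup.center (S : Subgroup T) => ((z : (S : Subgroup T)) : T))
          Finset.univ := by
      intro x hx
      rw [Finset.mem_filter] at hx
      obtain ⟨hxE, hfx⟩ := hx
      have hxc := (Finset.mem_filter.mp hxE).2
      have hS : (S : Subgroup T) = Subgroup.centralizer ({x} : Set T) := by
        rw [← hfx]; exact hf x hxc
      have hxS : x ∈ (S : Subgroup T) := by
        rw [hS]; exact Subgroup.mem_centralizer_singleton_iff.mpr rfl
      have hxZ : (⟨x, hxS⟩ : (S : Subgroup T)) ∈ Subgroup.center (S : Subgroup T) := by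
        rw [Subgroup.mem_center_iff]
        intro g
        have hg : (g : T) ∈ Subgroup.centralizer ({x} : Set T) := by rw [← hS]; exact g.2
        apply Subtype.ext
        exact Subgroup.mem_centralizer_singleton_iff.mp hg
      rw [Finset.mem_image]
      exact ⟨⟨⟨x, hxS⟩, hxZ⟩, Finset.mem_univ _, rfl⟩
    calc (E.filter (fun a => f a = S)).card
        ≤ (Finset.image (fun z : Subgroup.center (S : Subgroup T) =>
            ((z : (S : Subgroup T)) : T)) Finset.univ).card := Finset.card_le_card hsub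
      _ ≤ (Finset.univ : Finset (Subgroup.center (S : Subgroup T))).card := Finset.card_image_le
      _ = Fintype.card (Subgroup.center (S : Subgroup T)) := Finset.card_univ
      _ = Nat.card (Subgroup.center (S : Subgroup T)) := Nat.card_eq_fintype_card.symm
  have h3 := Finset.card_le_mul_card_image E c hfib
  have h4 : (Finset.image f E).card ≤ Nat.card (Sylow p T) := by
    rw [Nat.card_eq_fintype_card]; exact Finset.card_le_univ _
  have h5 : Nat.card (Sylow p T) = (P₀ : Subgroup T).index := by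
    rw [Sylow.card_eq_index_normalizer P₀]
    exact congrArg Subgroup.index (sylow_normalizer_eq h1 h2 hT p P₀ hP₀bot)
  have h6 : Nat.card (P₀ : Subgroup T) * (P₀ : Subgroup T).index = Nat.card T :=
    Subgroup.card_mul_index _
  calc E.card * p ^ 2 ≤ c * (Finset.image f E).card * p ^ 2 := Nat.mul_le_mul_right _ h3
    _ ≤ c * (P₀ : Subgroup T).index * p ^ 2 := by
        apply Nat.mul_le_mul_right
        apply Nat.mul_le_mul_left
        rw [← h5]; exact h4
    _ = (c * p ^ 2) * (P₀ : Subgroup T).index := by ring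
    _ ≤ Nat.card (P₀ : Subgroup T) * (P₀ : Subgroup T).index :=
        Nat.mul_le_mul_right _ (Nat.div_mul_le_self _ _)
    _ = Nat.card T := h6
    _ = Fintype.card T := Nat.card_eq_fintype_card

open Classical in
include h1 h2 in
/-- **Main lemma**: a finite nonabelian simple group cannot satisfy `h1` and `h2`. -/
theorem false_of_centralizers [Finite T] [IsSimpleGroup T] (hT : ∃ a b : T, a * b ≠ b * a) :
    False := by
  haveI : Fintype T := Fintype.ofFinite T
  set n := Fintype.card T with hn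
  let E : ℕ → Finset T := fun p =>
    Finset.univ.filter (fun x : T => x ≠ 1 ∧ ∃ k, orderOf x = p ^ k)
  have hcover : (Finset.univ.erase (1 : T)) ⊆ n.primeFactors.biUnion E := by
    intro x hx
    have hx1 : x ≠ 1 := (Finset.mem_erase.mp hx).1
    obtain ⟨p, hp, k, hk⟩ := prime_power_order h1 h2 hT x hx1
    rw [Finset.mem_biUnion]
    refine ⟨p, ?_, Finset.mem_filter.mpr ⟨Finset.mem_univ _, hx1, k, hk⟩⟩
    rw [Nat.mem_primeFactors]
    refine ⟨hp, ?_, Fintype.card_ne_zero⟩
    have hk0 : k ≠ 0 := by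
      rintro rfl
      rw [pow_zero] at hk
      exact hx1 (orderOf_eq_one_iff.mp hk)
    have : p ∣ orderOf x := by rw [hk]; exact dvd_pow_self p hk0
    exact this.trans orderOf_dvd_card
  have hcount : n - 1 ≤ ∑ p ∈ n.primeFactors, (E p).card := by
    calc n - 1 = (Finset.univ.erase (1 : T)).card := by
          rw [Finset.card_erase_of_mem (Finset.mem_univ _), Finset.card_univ]
      _ ≤ (n.primeFactors.biUnion E).card := Finset.card_le_card hcover
      _ ≤ _ := Finset.card_biUnion_le
  have hE : ∀ p ∈ n.primeFactors, ((E p).card : ℚ) ≤ n * (1 / (p : ℚ) ^ 2) := by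
    intro p hp
    have hpp := Nat.prime_of_mem_primeFactors hp
    haveI := Fact.mk hpp
    have := card_pElements_mul_sq_le h1 h2 hT p
    have hp0 : (0 : ℚ) < (p : ℚ) ^ 2 := by
      have : (0 : ℚ) < p := by exact_mod_cast hpp.pos
      positivity
    rw [mul_one_div, le_div_iff₀ hp0]
    exact_mod_cast this
  have hn1 : 1 < n := Fintype.one_lt_card
  have hsum : ((n : ℚ) - 1) ≤ n * (3 / 4) := by
    calc (n : ℚ) - 1 = ((n - 1 : ℕ) : ℚ) := by
          rw [Nat.cast_sub hn1.le]; simp
      _ ≤ ∑ p ∈ n.primeFactors, ((E p).card : ℚ) := by exact_mod_cast hcount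
      _ ≤ ∑ p ∈ n.primeFactors, (n : ℚ) * (1 / (p : ℚ) ^ 2) := Finset.sum_le_sum hE
      _ = n * ∑ p ∈ n.primeFactors, (1 / (p : ℚ) ^ 2) := by rw [Finset.mul_sum]
      _ ≤ n * (3 / 4) := by
          apply mul_le_mul_of_nonneg_left _ (by positivity)
          exact sum_primes_inv_sq _ (fun p hp => Nat.prime_of_mem_primeFactors hp)
  have hn4 : n ≤ 4 := by
    have : (n : ℚ) ≤ 4 := by linarith
    exact_mod_cast this
  obtain ⟨p, hp, hpd⟩ := Nat.exists_prime_and_dvd (ne_of_gt hn1)
  haveI := Fact.mk hp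
  obtain ⟨P⟩ : Nonempty (Sylow p T) := inferInstance
  have hPbot : (P : Subgroup T) ≠ ⊥ :=
    P.ne_bot_of_dvd_card (by rw [Nat.card_eq_fintype_card]; exact hpd)
  have hc := center_card_mul_sq_le h1 h2 hT p P hPbot
  haveI : Nontrivial (P : Subgroup T) := (Subgroup.nontrivial_iff_ne_bot _).mpr hPbot
  haveI := P.isPGroup'.center_nontrivial
  have hz2 : 2 ≤ Nat.card (Subgroup.center (P : Subgroup T)) := by
    rw [Nat.card_eq_fintype_card]
    exact Fintype.one_lt_card
  have hPle : Nat.card (P : Subgroup T) ≤ n := by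
    rw [hn, ← Nat.card_eq_fintype_card]
    exact Subgroup.card_le_card_group _
  have hp2 : 4 ≤ p ^ 2 := by
    have := hp.two_le
    nlinarith
  nlinarith

end main

end Cfsg.Agent.Lib.Helper58_SelfNormCent
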