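import Mathlib
import Cfsg.Agent.Lib.Helper58_ExtPrim
import Cfsg.Agent.Lib.Helper58_SelfNormCent

set_option autoImplicit false
set_option linter.style.haveILetI false

/-!
Primitive groups of "holomorph type" (two commuting regular subgroups `T₁`, `T₂`, permuted by
the point stabilizer, `T₁` nonabelian simple) are never extremely primitive.
-/

namespace Cfsg.Agent.Lib.Helper58_Holomorph

open MulAction

variable {G : Type*} [Group G] {Ω : Type*} [MulAction G Ω]

/-- Maximality of the two-point stabilizer inside a point stabilizer that acts primitively on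
the orbit of the second point. -/
theorem stab_maximal (α β : Ω)
    (hep : IsPreprimitive (stabilizer G α) (orbit (stabilizer G α) β))
    (hnt : ∃ h : G, h • α = α ∧ h • β ≠ β)
    (L : Subgroup G) (hL1 : stabilizer G α ⊓ stabilizer G β ≤ L) (hL2 : L ≤ stabilizer G α) :
    L = stabilizer G α ⊓ stabilizer G β ∨ L = stabilizer G α := by
  haveI := hep
  obtain ⟨h₀, h₀α, h₀β⟩ := hnt
  let b : orbit (stabilizer G α) β := ⟨β, mem_orbit_self β⟩
  haveI : Nontrivial (orbit (stabilizer G α) β) := by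
    refine ⟨⟨⟨h₀ • β, ⟨⟨h₀, h₀α⟩, rfl⟩⟩, b, ?_⟩⟩
    intro h
    exact h₀β (congrArg Subtype.val h)
  have hco := IsPreprimitive.isCoatom_stabilizer_of_isPreprimitive (G := stabilizer G α) b
  have hstab : ∀ x : stabilizer G α, x ∈ stabilizer (stabilizer G α) b ↔ (x : G) • β = β := by
    intro x
    rw [mem_stabilizer_iff]
    constructor
    · intro h; exact congrArg Subtype.val h
    · intro h; exact Subtype.ext h
  have hle : stabilizer (stabilizer G α) b ≤ L.subgroupOf (stabilizer G α) := by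
    intro x hx
    rw [Subgroup.mem_subgroupOf]
    exact hL1 (Subgroup.mem_inf.mpr ⟨x.2, (hstab x).mp hx⟩)
  rcases hco.le_iff.mp hle with h | h
  · right
    apply le_antisymm hL2
    intro x hx
    have : (⟨x, hx⟩ : stabilizer G α) ∈ L.subgroupOf (stabilizer G α) := by
      rw [h]; exact Subgroup.mem_top _
    exact Subgroup.mem_subgroupOf.mp this
  · left
    apply le_antisymm _ hL1
    intro x hx
    have hxα := hL2 hx
    have : (⟨x, hxα⟩ : stabilizer G α) ∈ L.subgroupOf (stabilizer G α) :=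
      Subgroup.mem_subgroupOf.mpr hx
    rw [h] at this
    exact Subgroup.mem_inf.mpr ⟨hxα, (hstab _).mp this⟩

/-- Two commuting regular subgroups permuted by the stabilizer of `α`. -/
structure Holo (α : Ω) (T₁ T₂ : Subgroup G) : Prop where
  trans₁ : ∀ ω : Ω, ∃ t ∈ T₁, t • α = ω
  trans₂ : ∀ ω : Ω, ∃ t ∈ T₂, t • α = ω
  free₁ : ∀ t ∈ T₁, t • α = α → t = 1
  free₂ : ∀ t ∈ T₂, t • α = α → t = 1
  comm : ∀ a ∈ T₁, ∀ b ∈ T₂, a * b = b * a
  perm : ∀ h : G,
    ((∀ t ∈ T₁, h * t * h⁻¹ ∈ T₁) ∧ (∀ t ∈ T₂, h * t * h⁻¹ ∈ T₂)) ∨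
    ((∀ t ∈ T₁, h * t * h⁻¹ ∈ T₂) ∧ (∀ t ∈ T₂, h * t * h⁻¹ ∈ T₁))

namespace Holo

variable {α : Ω} {T₁ T₂ : Subgroup G}

theorem inj₁ (D : Holo α T₁ T₂) {a a' : G} (ha : a ∈ T₁) (ha' : a' ∈ T₁)
    (h : a • α = a' • α) : a = a' := by
  have h1 : (a'⁻¹ * a) • α = α := by rw [mul_smul, h, inv_smul_smul]
  have := D.free₁ _ (T₁.mul_mem (T₁.inv_mem ha') ha) h1
  calc a = a' * (a'⁻¹ * a) := by group
    _ = a' := by rw [this, mul_one]

theorem inj₂ (D : Holo α T₁ T₂) {a a' : G} (ha : a ∈ T₂) (ha' : a' ∈ T₂)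
    (h : a • α = a' • α) : a = a' := by
  have h1 : (a'⁻¹ * a) • α = α := by rw [mul_smul, h, inv_smul_smul]
  have := D.free₂ _ (T₂.mul_mem (T₂.inv_mem ha') ha) h1
  calc a = a' * (a'⁻¹ * a) := by group
    _ = a' := by rw [this, mul_one]

/-- Every `a ∈ T₁` extends to an element `a * b` of the stabilizer of `α`. -/
theorem exists_rho (D : Holo α T₁ T₂) {a : G} (ha : a ∈ T₁) :
    ∃ b ∈ T₂, (a * b) • α = α := by
  obtain ⟨b, hb, hbα⟩ := D.trans₂ (a⁻¹ • α)
  exact ⟨b, hb, by rw [mul_smul, hbα, smul_inv_smul]⟩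

/-- The action of an element `a * b` of the stabilizer of `α` on the point `t • α`. -/
theorem act (D : Holo α T₁ T₂) {a b t : G} (ha : a ∈ T₁) (hb : b ∈ T₂) (ht : t ∈ T₁)
    (hab : (a * b) • α = α) : (a * b) • (t • α) = (a * t * a⁻¹) • α := by
  have h1 : a * b * t = a * t * a⁻¹ * (a * b) := by
    have := D.comm t ht b hb
    calc a * b * t = a * (b * t) := by group
      _ = a * (t * b) := by rw [this]
      _ = a * t * a⁻¹ * (a * b) := by group
  rw [← mul_smul, h1, mul_smul, hab]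

/-- An element `a * b` of the stabilizer of `α` fixes `t • α` iff `a` commutes with `t`. -/
theorem fix_iff (D : Holo α T₁ T₂) {a b t : G} (ha : a ∈ T₁) (hb : b ∈ T₂) (ht : t ∈ T₁)
    (hab : (a * b) • α = α) : (a * b) • (t • α) = t • α ↔ a * t = t * a := by
  rw [D.act ha hb ht hab]
  constructor
  · intro h
    have := D.inj₁ (T₁.mul_mem (T₁.mul_mem ha ht) (T₁.inv_mem ha)) ht h
    calc a * t = a * t * a⁻¹ * a := by group
      _ = t * a := by rw [this]
  · intro h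
    have : a * t * a⁻¹ = t := by rw [h]; group
    rw [this]

/-- If an element of the stabilizer of `α` fixes `t • α`, it fixes `t ^ i • α`. -/
theorem stab_pow (D : Holo α T₁ T₂) {h t : G} (ht : t ∈ T₁) (hα : h • α = α)
    (hβ : h • (t • α) = t • α) (i : ℕ) : h • (t ^ i • α) = t ^ i • α := by
  have hinv : h⁻¹ • α = α := by rw [inv_smul_eq_iff, hα]
  have hconj : ∀ x : G, h • (x • α) = (h * x * h⁻¹) • α := by
    intro x
    rw [mul_smul, mul_smul, hinv]
  have hpow : h * t ^ i * h⁻¹ = (h * t * h⁻¹) ^ i := by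
    rw [conj_pow]
  rcases D.perm h with ⟨p1, -⟩ | ⟨p1, -⟩
  · have h1 : h * t * h⁻¹ = t := by
      apply D.inj₁ (p1 t ht) ht
      rw [← hconj, hβ]
    rw [hconj, hpow, h1]
  · have hs : (h * t * h⁻¹) • α = t • α := by rw [← hconj, hβ]
    have hsT := p1 t ht
    have hc : Commute t (h * t * h⁻¹) := D.comm t ht _ hsT
    have key : ∀ j : ℕ, (h * t * h⁻¹) ^ j • α = t ^ j • α := by
      intro j
      induction j with
      | zero => simp
      | succ j ih =>
        rw [pow_succ, mul_smul, hs, ← mul_smul, (hc.symm.pow_left j).eq, mul_smul, ih,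
          ← mul_smul, ← pow_succ']
    rw [hconj, hpow, key]

/-- The product `T₁ T₂` as a subgroup. -/
def prodSub (D : Holo α T₁ T₂) : Subgroup G where
  carrier := {d | ∃ a ∈ T₁, ∃ b ∈ T₂, d = a * b}
  one_mem' := ⟨1, T₁.one_mem, 1, T₂.one_mem, by simp⟩
  mul_mem' := by
    rintro _ _ ⟨a, ha, b, hb, rfl⟩ ⟨a', ha', b', hb', rfl⟩
    refine ⟨a * a', T₁.mul_mem ha ha', b * b', T₂.mul_mem hb hb', ?_⟩
    have := D.comm a' ha' b hb
    calc a * b * (a' * b') = a * (b * a') * b' := by group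
      _ = a * (a' * b) * b' := by rw [this]
      _ = a * a' * (b * b') := by group
  inv_mem' := by
    rintro _ ⟨a, ha, b, hb, rfl⟩
    refine ⟨a⁻¹, T₁.inv_mem ha, b⁻¹, T₂.inv_mem hb, ?_⟩
    have := D.comm a⁻¹ (T₁.inv_mem ha) b⁻¹ (T₂.inv_mem hb)
    rw [mul_inv_rev, this]

theorem mem_prodSub (D : Holo α T₁ T₂) {d : G} :
    d ∈ D.prodSub ↔ ∃ a ∈ T₁, ∃ b ∈ T₂, d = a * b := Iff.rfl

theorem conj_prod (D : Holo α T₁ T₂) {a b a' b' : G} (ha : a ∈ T₁) (hb : b ∈ T₂)
    (ha' : a' ∈ T₁) (hb' : b' ∈ T₂) :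
    (a * b) * (a' * b') * (a * b)⁻¹ = (a * a' * a⁻¹) * (b * b' * b⁻¹) := by
  have e1 := D.comm a' ha' b hb
  have e2 := D.comm a⁻¹ (T₁.inv_mem ha) (b * b' * b⁻¹)
    (T₂.mul_mem (T₂.mul_mem hb hb') (T₂.inv_mem hb))
  calc (a * b) * (a' * b') * (a * b)⁻¹ = a * (b * a') * b' * b⁻¹ * a⁻¹ := by group
    _ = a * (a' * b) * b' * b⁻¹ * a⁻¹ := by rw [e1]
    _ = a * a' * ((b * b' * b⁻¹) * a⁻¹) := by group
    _ = a * a' * (a⁻¹ * (b * b' * b⁻¹)) := by rw [e2]
    _ = (a * a' * a⁻¹) * (b * b' * b⁻¹) := by group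

theorem prodSub_conj (D : Holo α T₁ T₂) {h d : G} (hd : d ∈ D.prodSub) :
    h * d * h⁻¹ ∈ D.prodSub := by
  obtain ⟨a, ha, b, hb, rfl⟩ := hd
  have e : h * (a * b) * h⁻¹ = (h * a * h⁻¹) * (h * b * h⁻¹) := by group
  rcases D.perm h with ⟨p1, p2⟩ | ⟨p1, p2⟩
  · exact ⟨_, p1 a ha, _, p2 b hb, e⟩
  · refine ⟨_, p2 b hb, _, p1 a ha, ?_⟩
    rw [e]
    exact (D.comm _ (p2 b hb) _ (p1 a ha)).symm

theorem prodSub_conj_iff (D : Holo α T₁ T₂) {h d : G} :
    d ∈ D.prodSub ↔ h * d * h⁻¹ ∈ D.prodSub := by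
  refine ⟨D.prodSub_conj, fun hd => ?_⟩
  have := D.prodSub_conj (h := h⁻¹) hd
  convert this using 1
  group

theorem prodSub_normal (D : Holo α T₁ T₂) : D.prodSub.Normal :=
  ⟨fun _ hd _ => D.prodSub_conj hd⟩

theorem le_prodSub (D : Holo α T₁ T₂) : T₁ ≤ D.prodSub :=
  fun a ha => ⟨a, ha, 1, T₂.one_mem, by simp⟩

theorem exists_moving (D : Holo α T₁ T₂)
    (hZ : ∀ t ∈ T₁, (∀ a ∈ T₁, a * t = t * a) → t = 1) {t : G} (ht : t ∈ T₁) (ht1 : t ≠ 1) :
    ∃ h : G, h • α = α ∧ h • (t • α) ≠ t • α := by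
  by_contra hcon
  push Not at hcon
  apply ht1
  apply hZ t ht
  intro a' ha'
  obtain ⟨b', hb', hab'⟩ := D.exists_rho ha'
  exact (D.fix_iff ha' hb' ht hab').mp (hcon _ hab')

section prim

variable [FaithfulSMul G Ω] [IsPreprimitive G Ω]

theorem h2_holds (D : Holo α T₁ T₂) (hH : stabilizer G α ≠ ⊥)
    (hep : ∀ ω : Ω, IsPreprimitive (stabilizer G α) (orbit (stabilizer G α) ω))
    (hZ : ∀ t ∈ T₁, (∀ a ∈ T₁, a * t = t * a) → t = 1)
    {t : G} (ht : t ∈ T₁) (i : ℕ) (hti : t ^ i ≠ 1) {a : G} (ha : a ∈ T₁)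
    (hcomm : a * t ^ i = t ^ i * a) : a * t = t * a := by
  have ht1 : t ≠ 1 := by rintro rfl; exact hti (one_pow i)
  have hnt := D.exists_moving hZ ht ht1
  have hL1 : stabilizer G α ⊓ stabilizer G (t • α) ≤
      stabilizer G α ⊓ stabilizer G (t ^ i • α) := by
    intro h hh
    obtain ⟨h1, h2⟩ := Subgroup.mem_inf.mp hh
    exact Subgroup.mem_inf.mpr ⟨h1, D.stab_pow ht h1 h2 i⟩
  rcases stab_maximal α (t • α) (hep _) hnt _ hL1 inf_le_left with h | h
  · obtain ⟨b, hb, hab⟩ := D.exists_rho ha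
    have hfix : (a * b) • (t ^ i • α) = t ^ i • α :=
      (D.fix_iff ha hb (T₁.pow_mem ht i) hab).mpr hcomm
    have hmem : a * b ∈ stabilizer G α ⊓ stabilizer G (t ^ i • α) :=
      Subgroup.mem_inf.mpr ⟨hab, hfix⟩
    rw [h] at hmem
    exact (D.fix_iff ha hb ht hab).mp (Subgroup.mem_inf.mp hmem).2
  · exfalso
    have hγ : t ^ i • α = α := by
      apply Cfsg.Agent.Lib.Helper58_ExtPrim.fixes_only α hH
      intro y hy
      have : y ∈ stabilizer G α ⊓ stabilizer G (t ^ i • α) := by rw [h]; exact hy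
      exact (Subgroup.mem_inf.mp this).2
    exact hti (D.free₁ _ (T₁.pow_mem ht i) hγ)

theorem h1_holds (D : Holo α T₁ T₂)
    (hep : ∀ ω : Ω, IsPreprimitive (stabilizer G α) (orbit (stabilizer G α) ω))
    (hZ : ∀ t ∈ T₁, (∀ a ∈ T₁, a * t = t * a) → t = 1)
    (hS : ∀ t ∈ T₁, t ≠ 1 → ¬ (∀ a ∈ T₁, ∀ c ∈ T₁, c * t = t * c →
      (a * c * a⁻¹) * t = t * (a * c * a⁻¹)))
    {t : G} (ht : t ∈ T₁) (ht1 : t ≠ 1) {a₀ : G} (ha₀ : a₀ ∈ T₁)
    (hnorm : ∀ c ∈ T₁, (c * t = t * c ↔ (a₀ * c * a₀⁻¹) * t = t * (a₀ * c * a₀⁻¹))) :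
    a₀ * t = t * a₀ := by
  have hnt := D.exists_moving hZ ht ht1
  set Hβ : Subgroup G := stabilizer G α ⊓ stabilizer G (t • α) with hHβ
  set Dβ : Subgroup G := Hβ ⊓ D.prodSub with hDβ
  -- membership in Dβ in terms of the T₁-component
  have hDmem : ∀ {a b : G}, a ∈ T₁ → b ∈ T₂ → (a * b) • α = α →
      (a * b ∈ Dβ ↔ a * t = t * a) := by
    intro a b ha hb hab
    rw [hDβ, Subgroup.mem_inf, hHβ, Subgroup.mem_inf, mem_stabilizer_iff, mem_stabilizer_iff,
      D.fix_iff ha hb ht hab]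
    constructor
    · intro h; exact h.1.2
    · intro h; exact ⟨⟨hab, h⟩, ⟨a, ha, b, hb, rfl⟩⟩
  have hL1 : Hβ ≤ stabilizer G α ⊓ Subgroup.normalizer (Dβ : Set G) := by
    intro h hh
    have hhα : h • α = α := (Subgroup.mem_inf.mp hh).1
    refine Subgroup.mem_inf.mpr ⟨hhα, ?_⟩
    rw [Subgroup.mem_normalizer_iff]
    intro d
    have e1 : d ∈ Hβ ↔ h * d * h⁻¹ ∈ Hβ := by
      constructor
      · intro hd; exact Hβ.mul_mem (Hβ.mul_mem hh hd) (Hβ.inv_mem hh)
      · intro hd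
        have := Hβ.mul_mem (Hβ.mul_mem (Hβ.inv_mem hh) hd) hh
        convert this using 1; group
    have e2 : d ∈ D.prodSub ↔ h * d * h⁻¹ ∈ D.prodSub := D.prodSub_conj_iff
    constructor
    · intro hd
      obtain ⟨h1, h2⟩ := Subgroup.mem_inf.mp hd
      exact Subgroup.mem_inf.mpr ⟨e1.mp h1, e2.mp h2⟩
    · intro hd
      obtain ⟨h1, h2⟩ := Subgroup.mem_inf.mp hd
      exact Subgroup.mem_inf.mpr ⟨e1.mpr h1, e2.mpr h2⟩
  rcases stab_maximal α (t • α) (hep _) hnt _ hL1 inf_le_left with h | h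
  · -- a₀ * b₀ normalizes Dβ
    obtain ⟨b₀, hb₀, hab₀⟩ := D.exists_rho ha₀
    have hρP : a₀ * b₀ ∈ D.prodSub := ⟨a₀, ha₀, b₀, hb₀, rfl⟩
    have hmemL : a₀ * b₀ ∈ stabilizer G α ⊓ Subgroup.normalizer (Dβ : Set G) := by
      refine Subgroup.mem_inf.mpr ⟨hab₀, ?_⟩
      rw [Subgroup.mem_normalizer_iff]
      intro d
      have key : ∀ {a b : G}, a ∈ T₁ → b ∈ T₂ → (a * b) • α = α →
          (a * b ∈ Dβ ↔ (a₀ * b₀) * (a * b) * (a₀ * b₀)⁻¹ ∈ Dβ) := by
        intro a b ha hb hab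
        rw [D.conj_prod ha₀ hb₀ ha hb, hDmem ha hb hab,
          hDmem (T₁.mul_mem (T₁.mul_mem ha₀ ha) (T₁.inv_mem ha₀))
            (T₂.mul_mem (T₂.mul_mem hb₀ hb) (T₂.inv_mem hb₀))
            (by rw [← D.conj_prod ha₀ hb₀ ha hb, mul_smul, mul_smul, inv_smul_eq_iff.mpr hab₀.symm,
              hab, hab₀])]
        exact hnorm a ha
      constructor
      · intro hd
        have hd' := hd
        rw [hDβ, Subgroup.mem_inf, hHβ, Subgroup.mem_inf, mem_stabilizer_iff] at hd'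
        obtain ⟨⟨hdα, -⟩, a, ha, b, hb, rfl⟩ := hd'
        exact (key ha hb hdα).mp hd
      · intro hd
        have hd' := hd
        rw [hDβ, Subgroup.mem_inf, hHβ, Subgroup.mem_inf, mem_stabilizer_iff] at hd'
        obtain ⟨⟨hdα, -⟩, hdP⟩ := hd'
        have hdP' : d ∈ D.prodSub := by
          have := D.prodSub.mul_mem (D.prodSub.mul_mem (D.prodSub.inv_mem hρP) hdP) hρP
          convert this using 1; group
        have hdα' : d • α = α := by
          have e : d = (a₀ * b₀)⁻¹ * ((a₀ * b₀) * d * (a₀ * b₀)⁻¹) * (a₀ * b₀) := by group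
          rw [e, mul_smul, mul_smul, hab₀, hdα, inv_smul_eq_iff, hab₀]
        obtain ⟨a, ha, b, hb, rfl⟩ := hdP'
        exact (key ha hb hdα').mpr hd
    rw [h] at hmemL
    exact (D.fix_iff ha₀ hb₀ ht hab₀).mp (Subgroup.mem_inf.mp hmemL).2
  · -- every element of the stabilizer normalizes Dβ : then the centralizer of t is normal
    exfalso
    apply hS t ht ht1
    intro a ha c hc hct
    obtain ⟨b, hb, hab⟩ := D.exists_rho ha
    obtain ⟨b', hb', hcb'⟩ := D.exists_rho hc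
    have hcD : c * b' ∈ Dβ := (hDmem hc hb' hcb').mpr hct
    have hmemL : a * b ∈ stabilizer G α ⊓ Subgroup.normalizer (Dβ : Set G) := by
      rw [h]; exact hab
    have hn := (Subgroup.mem_normalizer_iff.mp (Subgroup.mem_inf.mp hmemL).2 (c * b')).mp hcD
    rw [D.conj_prod ha hb hc hb'] at hn
    refine (hDmem (T₁.mul_mem (T₁.mul_mem ha hc) (T₁.inv_mem ha))
      (T₂.mul_mem (T₂.mul_mem hb hb') (T₂.inv_mem hb)) ?_).mp hn
    rw [← D.conj_prod ha hb hc hb', mul_smul, mul_smul, inv_smul_eq_iff.mpr hab.symm, hcb', hab]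

/-- **Holomorph type is never extremely primitive.** -/
theorem false_of_simple [Finite G] (D : Holo α T₁ T₂) (hH : stabilizer G α ≠ ⊥)
    (hep : ∀ ω : Ω, IsPreprimitive (stabilizer G α) (orbit (stabilizer G α) ω))
    [IsSimpleGroup T₁] (hT : ∃ a ∈ T₁, ∃ b ∈ T₁, a * b ≠ b * a) : False := by
  have hT' : ∃ a b : T₁, a * b ≠ b * a := by
    obtain ⟨a, ha, b, hb, hab⟩ := hT
    exact ⟨⟨a, ha⟩, ⟨b, hb⟩, fun h => hab (congrArg Subtype.val h)⟩
  have hcen := Cfsg.Agent.Lib.Helper58_SelfNormCent.center_eq_bot hT'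
  have hZ : ∀ t ∈ T₁, (∀ a ∈ T₁, a * t = t * a) → t = 1 := by
    intro t ht hc
    have : (⟨t, ht⟩ : T₁) ∈ Subgroup.center T₁ := by
      rw [Subgroup.mem_center_iff]; intro g; exact Subtype.ext (hc g g.2)
    rw [hcen, Subgroup.mem_bot] at this
    exact congrArg Subtype.val this
  have hS : ∀ t ∈ T₁, t ≠ 1 → ¬ (∀ a ∈ T₁, ∀ c ∈ T₁, c * t = t * c →
      (a * c * a⁻¹) * t = t * (a * c * a⁻¹)) := by
    intro t ht ht1 hcon
    have hnorm : (Subgroup.centralizer ({(⟨t, ht⟩ : T₁)} : Set T₁)).Normal := by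
      constructor
      intro c hc a
      rw [Subgroup.mem_centralizer_singleton_iff] at hc ⊢
      apply Subtype.ext
      exact hcon a a.2 c c.2 (congrArg Subtype.val hc)
    rcases hnorm.eq_bot_or_eq_top with h | h
    · have : (⟨t, ht⟩ : T₁) ∈ Subgroup.centralizer ({(⟨t, ht⟩ : T₁)} : Set T₁) :=
        Subgroup.mem_centralizer_singleton_iff.mpr rfl
      rw [h, Subgroup.mem_bot] at this
      exact ht1 (congrArg Subtype.val this)
    · apply ht1
      apply hZ t ht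
      intro a ha
      have : (⟨a, ha⟩ : T₁) ∈ Subgroup.centralizer ({(⟨t, ht⟩ : T₁)} : Set T₁) := by
        rw [h]; exact Subgroup.mem_top _
      exact congrArg Subtype.val (Subgroup.mem_centralizer_singleton_iff.mp this)
  refine Cfsg.Agent.Lib.Helper58_SelfNormCent.false_of_centralizers (T := T₁) ?_ ?_ hT'
  · intro t ht1
    apply le_antisymm _ Subgroup.le_normalizer
    intro a ha
    rw [Subgroup.mem_normalizer_iff] at ha
    rw [Subgroup.mem_centralizer_singleton_iff]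
    apply Subtype.ext
    apply D.h1_holds hep hZ hS t.2 (fun h => ht1 (Subtype.ext h)) a.2
    intro c hc
    have := ha ⟨c, hc⟩
    rw [Subgroup.mem_centralizer_singleton_iff, Subgroup.mem_centralizer_singleton_iff] at this
    constructor
    · intro h; exact congrArg Subtype.val (this.mp (Subtype.ext h))
    · intro h; exact congrArg Subtype.val (this.mpr (Subtype.ext h))
  · intro t i hti
    apply le_antisymm
    · intro a ha
      rw [Subgroup.mem_centralizer_singleton_iff] at ha ⊢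
      apply Subtype.ext
      have hti' : (t : G) ^ i ≠ 1 := by
        intro h
        apply hti
        apply Subtype.ext
        simpa using h
      have ha' : (a : G) * (t : G) ^ i = (t : G) ^ i * a := by
        have := congrArg Subtype.val ha
        simpa using this
      exact D.h2_holds hH hep hZ t.2 i hti' a.2 ha'
    · intro a ha
      rw [Subgroup.mem_centralizer_singleton_iff] at ha ⊢
      have hc : Commute a t := ha
      exact (hc.pow_right i).eq

end prim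

end Holo

end Cfsg.Agent.Lib.Helper58_Holomorph
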