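import Cfsg.Agent.Lib.Helper49_KnDefs
import Cfsg.Agent.Lib.Helper65_S3693

/-!
# S3687 market (architect helper49), package BRIDX: the order of `G_a` against `d! |c1|` determines
the index of the induced group on the suborbit.
-/

namespace Cfsg.Agent.Lib.Helper58_Kn_BRIDX

open Cfsg Cfsg.Agent.Lib.Helper47_TW Cfsg.Agent.Lib.Helper49_KnDefs

universe u v

section Bridge

open MulAction

variable {G : Type u} {Ω : Type v} [Group G] [Finite G] [MulAction G Ω] [FaithfulSMul G Ω] [Finite Ω]

omit [Finite G] [FaithfulSMul G Ω] [Finite Ω] in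
/-- the kernel of `G_a` on the suborbit `G_a b` is `c1 G_a G_b`. -/
theorem h58_ker_map (a b : Ω) :
    (MulAction.toPermHom (stabilizer G a) (orbit (stabilizer G a) b)).ker.map
      (stabilizer G a).subtype = c1 (stabilizer G a) (stabilizer G b) := by
  ext x
  rw [Cfsg.Agent.Lib.Helper65_S3688.mem_c1_iff, Subgroup.mem_map]
  constructor
  · rintro ⟨y, hy, rfl⟩
    have h1 := Cfsg.Agent.Lib.Helper65_S3693.mem_c1_of_toPermHom_eq_one a b y hy
    rwa [Cfsg.Agent.Lib.Helper65_S3688.mem_c1_iff] at h1
  · rintro ⟨hx, h⟩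
    refine ⟨⟨x, mem_stabilizer_iff.2 hx⟩, ?_, rfl⟩
    rw [MonoidHom.mem_ker]
    ext ⟨z, hz⟩
    obtain ⟨m, rfl⟩ := hz
    have := h (m : G) (mem_stabilizer_iff.1 m.2)
    exact this

omit [FaithfulSMul G Ω] [Finite Ω] in
/-- `|G_a| = |c1 G_a G_b| |range phi|`. -/
theorem h58_card_eq (a b : Ω) :
    Nat.card (stabilizer G a) = Nat.card (c1 (stabilizer G a) (stabilizer G b)) *
      Nat.card (MulAction.toPermHom (stabilizer G a) (orbit (stabilizer G a) b)).range := by
  have h1 : Nat.card (c1 (stabilizer G a) (stabilizer G b)) =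
      Nat.card (MulAction.toPermHom (stabilizer G a) (orbit (stabilizer G a) b)).ker := by
    rw [← h58_ker_map a b]
    exact Subgroup.card_map_of_injective (stabilizer G a).subtype_injective
  rw [h1, ← Subgroup.index_ker, Subgroup.card_mul_index]

omit [Finite G] [FaithfulSMul G Ω] in
/-- `|range phi| * [Sym : range phi] = d!`. -/
theorem h58_range_mul_index (a b : Ω) (d : ℕ)
    (hd : Nat.card (orbit (stabilizer G a) b) = d) :
    Nat.card (MulAction.toPermHom (stabilizer G a) (orbit (stabilizer G a) b)).range *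
      (MulAction.toPermHom (stabilizer G a) (orbit (stabilizer G a) b)).range.index =
      d.factorial := by
  rw [Subgroup.card_mul_index, Nat.card_perm, hd]

/-- PACKAGE BRIDX. -/
theorem bridge_index (a b : Ω) (d : ℕ)
    (hd : Nat.card (orbit (stabilizer G a) b) = d) :
    (2 * Nat.card (stabilizer G a) =
        d.factorial * Nat.card (c1 (stabilizer G a) (stabilizer G b)) →
      (MulAction.toPermHom (stabilizer G a) (orbit (stabilizer G a) b)).range.index = 2) ∧
    (Nat.card (stabilizer G a) =
        d.factorial * Nat.card (c1 (stabilizer G a) (stabilizer G b)) →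
      (MulAction.toPermHom (stabilizer G a) (orbit (stabilizer G a) b)).range = ⊤) := by
  have hM := h58_card_eq (G := G) a b
  have hR := h58_range_mul_index (G := G) a b d hd
  have hc : 0 < Nat.card (c1 (stabilizer G a) (stabilizer G b)) := Nat.card_pos
  have hr : 0 < Nat.card (MulAction.toPermHom (stabilizer G a) (orbit (stabilizer G a) b)).range :=
    Nat.card_pos
  obtain ⟨c, hcdef⟩ : ∃ c, c = Nat.card (c1 (stabilizer G a) (stabilizer G b)) := ⟨_, rfl⟩
  obtain ⟨r, hrdef⟩ : ∃ r, r =
    Nat.card (MulAction.toPermHom (stabilizer G a) (orbit (stabilizer G a) b)).range := ⟨_, rfl⟩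
  obtain ⟨i, hidef⟩ : ∃ i, i =
    (MulAction.toPermHom (stabilizer G a) (orbit (stabilizer G a) b)).range.index := ⟨_, rfl⟩
  rw [← hcdef, ← hrdef] at hM
  rw [← hrdef, ← hidef] at hR
  rw [← hcdef] at hc
  rw [← hrdef] at hr
  constructor
  · intro h2
    rw [← hidef]
    rw [← hcdef, hM, ← hR] at h2
    -- 2 * (c * r) = r * i * c
    have h3 : (c * r) * 2 = (c * r) * i := by
      calc (c * r) * 2 = 2 * (c * r) := by ring
        _ = r * i * c := h2
        _ = (c * r) * i := by ring
    exact (Nat.eq_of_mul_eq_mul_left (Nat.mul_pos hc hr) h3).symm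
  · intro h1
    rw [← Subgroup.index_eq_one, ← hidef]
    rw [← hcdef, hM, ← hR] at h1
    have h3 : (c * r) * 1 = (c * r) * i := by
      calc (c * r) * 1 = c * r := by ring
        _ = r * i * c := h1
        _ = (c * r) * i := by ring
    exact (Nat.eq_of_mul_eq_mul_left (Nat.mul_pos hc hr) h3).symm

end Bridge

end Cfsg.Agent.Lib.Helper58_Kn_BRIDX
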