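import Cfsg.Agent.Lib.Helper49_KnDefs
import Cfsg.Agent.Lib.Helper65_S3693
import Cfsg.Agent.Lib.Helper58_Kn_BRIDX

/-!
# S3687 market (architect helper49), package BRCFG: from the permutation action to the
configuration `Cfg`.
-/

namespace Cfsg.Agent.Lib.Helper58_Kn_BRCFG

open Cfsg Cfsg.Agent.Lib.Helper47_TW Cfsg.Agent.Lib.Helper49_KnDefs

universe u v

section Bridge

open MulAction

variable {G : Type u} {Ω : Type v} [Group G] [Finite G] [MulAction G Ω] [FaithfulSMul G Ω] [Finite Ω]

/-- PACKAGE BRCFG. -/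
theorem bridge_cfg (hprim : IsPreprimitive G Ω) (a b : Ω) (d : ℕ)
    (hd : Nat.card (orbit (stabilizer G a) b) = d) (h6 : 6 ≤ d)
    (halt : (MulAction.toPermHom (stabilizer G a) (orbit (stabilizer G a) b)).range.index ≤ 2)
    (hunf : ¬ Function.Injective
      (MulAction.toPermHom (stabilizer G a) (orbit (stabilizer G a) b))) :
    ∃ g : G, Cfg d (stabilizer G a) (stabilizer G b) g := by
  have hpt : IsPretransitive G Ω := hprim.toIsPretransitive
  have hne : stabilizer G a ≠ stabilizer G b :=
    Cfsg.Agent.Lib.Helper65_S3693.stab_ne_of_card a b (by omega)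
  have hset := Cfsg.Agent.Lib.Helper65_S3693.setup_of hprim a b hne
  obtain ⟨g, hg⟩ := exists_smul_eq G a b
  refine ⟨g, hset, ?_, h6, ⟨inf_le_left, ?_, ?_⟩, ?_⟩
  · rw [← hg, stabilizer_smul_eq_stabilizer_map_conj]
  · have := Cfsg.Agent.Lib.Helper65_S3688.card_orbit_mul (G := G) a b
    rw [hd] at this
    exact this.symm
  · -- `d! |c1| ≤ 2 |M|`
    change d.factorial * Nat.card (c1 (stabilizer G a) (stabilizer G b)) ≤ _
    have hM := Cfsg.Agent.Lib.Helper58_Kn_BRIDX.h58_card_eq (G := G) a b
    have hR := Cfsg.Agent.Lib.Helper58_Kn_BRIDX.h58_range_mul_index (G := G) a b d hd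
    rw [hM, ← hR]
    calc Nat.card (MulAction.toPermHom (stabilizer G a) (orbit (stabilizer G a) b)).range *
          (MulAction.toPermHom (stabilizer G a) (orbit (stabilizer G a) b)).range.index *
          Nat.card (c1 (stabilizer G a) (stabilizer G b))
        ≤ Nat.card (MulAction.toPermHom (stabilizer G a) (orbit (stabilizer G a) b)).range * 2 *
          Nat.card (c1 (stabilizer G a) (stabilizer G b)) :=
          Nat.mul_le_mul_right _ (Nat.mul_le_mul_left _ halt)
      _ = 2 * (Nat.card (c1 (stabilizer G a) (stabilizer G b)) *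
          Nat.card (MulAction.toPermHom (stabilizer G a) (orbit (stabilizer G a) b)).range) := by
          ring
  · -- the kernel is nontrivial
    intro hbot
    apply hunf
    rw [injective_iff_map_eq_one]
    intro x hx
    have h1 := Cfsg.Agent.Lib.Helper65_S3693.mem_c1_of_toPermHom_eq_one a b x hx
    rw [hbot, Subgroup.mem_bot] at h1
    exact Subtype.ext h1

end Bridge

end Cfsg.Agent.Lib.Helper58_Kn_BRCFG
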