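import Mathlib
import Cfsg.Agent.Lib.Helper21_Jordan

/-!
S0420 package C1 (architect helper74): a sharply 4-transitive group of degree 11 determines a fifth
point for every 4-set.
-/

set_option autoImplicit false
set_option linter.unusedVariables false
set_option linter.unusedSimpArgs false
set_option linter.unusedSectionVars false
set_option linter.style.haveILetI false

namespace Cfsg.Agent.Lib.Helper58_M11U_C1

open MulAction Cfsg.Agent.Lib.Helper21_Jordan Cfsg.Agent.Lib.Helper59_SharpTrans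

section generic

variable {Γ α : Type*} [Group Γ] [MulAction Γ α]

/-- four distinct points -/
def D4 (a b c d : α) : Prop := a ≠ b ∧ a ≠ c ∧ a ≠ d ∧ b ≠ c ∧ b ≠ d ∧ c ≠ d

theorem D4.inj {a b c d : α} (h : D4 a b c d) : Function.Injective ![a, b, c, d] :=
  injective_vec4 h.1 h.2.1 h.2.2.1 h.2.2.2.1 h.2.2.2.2.1 h.2.2.2.2.2

theorem D4.swap01 {a b c d : α} (h : D4 a b c d) : D4 b a c d :=
  ⟨h.1.symm, h.2.2.2.1, h.2.2.2.2.1, h.2.1, h.2.2.1, h.2.2.2.2.2⟩

theorem D4.swap23 {a b c d : α} (h : D4 a b c d) : D4 a b d c :=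
  ⟨h.1, h.2.2.1, h.2.1, h.2.2.2.2.1, h.2.2.2.1, h.2.2.2.2.2.symm⟩

theorem D4.swap12 {a b c d : α} (h : D4 a b c d) : D4 a c b d :=
  ⟨h.2.1, h.1, h.2.2.1, h.2.2.2.1.symm, h.2.2.2.2.2, h.2.2.2.2.1⟩

theorem D4.of_inj {x : Fin 4 → α} (hx : Function.Injective x) : D4 (x 0) (x 1) (x 2) (x 3) :=
  ⟨hx.ne (by decide), hx.ne (by decide), hx.ne (by decide), hx.ne (by decide), hx.ne (by decide),
    hx.ne (by decide)⟩

theorem D4.smul {a b c d : α} (h : D4 a b c d) (g : Γ) : D4 (g • a) (g • b) (g • c) (g • d) :=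
  ⟨fun e => h.1 (smul_left_cancel g e), fun e => h.2.1 (smul_left_cancel g e),
    fun e => h.2.2.1 (smul_left_cancel g e), fun e => h.2.2.2.1 (smul_left_cancel g e),
    fun e => h.2.2.2.2.1 (smul_left_cancel g e), fun e => h.2.2.2.2.2 (smul_left_cancel g e)⟩

/-- `t` swaps `a, b` and fixes `c, d` -/
def IsTau (a b c d : α) (t : Γ) : Prop := t • a = b ∧ t • b = a ∧ t • c = c ∧ t • d = d

variable (Γ) in
/-- `y` is a further fixed point of the element swapping `a, b` and fixing `c, d` -/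
def IsEps (a b c d y : α) : Prop := y ≠ c ∧ y ≠ d ∧ ∃ t : Γ, IsTau a b c d t ∧ t • y = y

theorem fix4 (h : SharpK Γ α 4) {a b c d : α} (hd : D4 a b c d) {g : Γ} (ha : g • a = a)
    (hb : g • b = b) (hc : g • c = c) (hdd : g • d = d) : g = 1 := by
  refine h.eq_one hd.inj (fun i => ?_)
  fin_cases i
  exacts [ha, hb, hc, hdd]

theorem agree4 (h : SharpK Γ α 4) {a b c d : α} (hd : D4 a b c d) {g g' : Γ}
    (ha : g • a = g' • a) (hb : g • b = g' • b) (hc : g • c = g' • c) (hdd : g • d = g' • d) :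
    g = g' := by
  refine h.eq_of_smul_eq hd.inj (fun i => ?_)
  fin_cases i
  exacts [ha, hb, hc, hdd]

theorem exists_tau (h : SharpK Γ α 4) {a b c d : α} (hd : D4 a b c d) :
    ∃ t : Γ, IsTau a b c d t := by
  obtain ⟨t, ht⟩ := h.exists_smul hd.inj hd.swap01.inj
  exact ⟨t, ht 0, ht 1, ht 2, ht 3⟩

theorem IsTau.sq (h : SharpK Γ α 4) {a b c d : α} (hd : D4 a b c d) {t : Γ}
    (ht : IsTau a b c d t) : t * t = 1 := by
  obtain ⟨h1, h2, h3, h4⟩ := ht
  apply fix4 h hd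
  · rw [mul_smul, h1, h2]
  · rw [mul_smul, h2, h1]
  · rw [mul_smul, h3, h3]
  · rw [mul_smul, h4, h4]

theorem IsTau.unique (h : SharpK Γ α 4) {a b c d : α} (hd : D4 a b c d) {t t' : Γ}
    (ht : IsTau a b c d t) (ht' : IsTau a b c d t') : t = t' := by
  obtain ⟨h1, h2, h3, h4⟩ := ht
  obtain ⟨h1', h2', h3', h4'⟩ := ht'
  apply agree4 h hd
  · rw [h1, h1']
  · rw [h2, h2']
  · rw [h3, h3']
  · rw [h4, h4']

theorem IsTau.ne_one {a b c d : α} (hd : D4 a b c d) {t : Γ} (ht : IsTau a b c d t) : t ≠ 1 := by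
  rintro rfl
  apply hd.1
  have := ht.1
  rwa [one_smul] at this

variable [Fintype α] [DecidableEq α]

variable (α) in
/-- the fixed points of `g` -/
def fixF (g : Γ) : Finset α := Finset.univ.filter (fun x => g • x = x)

theorem mem_fixF {g : Γ} {x : α} : x ∈ fixF α g ↔ g • x = x := by
  simp [fixF]

theorem card_fixF_le_three (h : SharpK Γ α 4) {g : Γ} (hg : g ≠ 1) : (fixF α g).card ≤ 3 := by
  by_contra hcon
  push Not at hcon
  have h4 : Fintype.card (Fin 4) ≤ Fintype.card ↥(fixF α g) := by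
    rw [Fintype.card_fin, Fintype.card_coe]
    omega
  obtain ⟨q⟩ := Function.Embedding.nonempty_of_card_le h4
  apply hg
  refine h.eq_one (q := fun i => ((q i : ↥(fixF α g)) : α)) ?_ (fun i => ?_)
  · intro i j hij
    exact q.injective (Subtype.ext hij)
  · exact mem_fixF.mp (q i).2

theorem exists_eps (h : SharpK Γ α 4) (hα : Fintype.card α = 11) {a b c d : α} (hd : D4 a b c d) :
    ∃ y, IsEps Γ a b c d y := by
  obtain ⟨t, ht⟩ := exists_tau h hd
  have hsq : t ^ 2 = 1 := by rw [pow_two]; exact ht.sq h hd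
  haveI : Fact (Nat.Prime 2) := ⟨Nat.prime_two⟩
  have hmod := card_fixed_modEq (α := α) (p := 2) t hsq
  rw [hα] at hmod
  have hc : c ∈ fixF α t := mem_fixF.mpr ht.2.2.1
  have hdm : d ∈ fixF α t := mem_fixF.mpr ht.2.2.2
  have hsub : ({c, d} : Finset α) ⊆ fixF α t := by
    intro x hx
    rw [Finset.mem_insert, Finset.mem_singleton] at hx
    rcases hx with rfl | rfl
    · exact hc
    · exact hdm
  have hcard2 : ({c, d} : Finset α).card = 2 := Finset.card_pair hd.2.2.2.2.2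
  have hle := Finset.card_le_card hsub
  have hodd : (fixF α t).card % 2 = 1 := by
    have : 11 % 2 = (fixF α t).card % 2 := hmod
    omega
  have hlt : ({c, d} : Finset α).card < (fixF α t).card := by omega
  obtain ⟨y, hy, hy'⟩ := Finset.exists_mem_notMem_of_card_lt_card hlt
  rw [Finset.mem_insert, Finset.mem_singleton, not_or] at hy'
  exact ⟨y, hy'.1, hy'.2, t, ht, mem_fixF.mp hy⟩

theorem IsEps.unique (h : SharpK Γ α 4) {a b c d y y' : α} (hd : D4 a b c d)
    (hy : IsEps Γ a b c d y) (hy' : IsEps Γ a b c d y') : y = y' := by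
  obtain ⟨h1, h2, t, ht, hty⟩ := hy
  obtain ⟨h1', h2', t', ht', hty'⟩ := hy'
  have htt : t = t' := ht.unique h hd ht'
  subst htt
  by_contra hne
  apply ht.ne_one hd
  exact fix4 h (a := c) (b := d) (c := y) (d := y')
    ⟨hd.2.2.2.2.2, h1.symm, h1'.symm, h2.symm, h2'.symm, hne⟩ ht.2.2.1 ht.2.2.2 hty hty'

theorem IsEps.ne_left {a b c d y : α} (hd : D4 a b c d) (hy : IsEps Γ a b c d y) :
    y ≠ a ∧ y ≠ b := by
  obtain ⟨h1, h2, t, ht, hty⟩ := hy
  constructor
  · rintro rfl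
    exact hd.1 (hty.symm.trans ht.1)
  · rintro rfl
    exact hd.1 (ht.2.1.symm.trans hty)

theorem IsEps.swap01 {a b c d y : α} (hy : IsEps Γ a b c d y) : IsEps Γ b a c d y := by
  obtain ⟨h1, h2, t, ht, hty⟩ := hy
  exact ⟨h1, h2, t, ⟨ht.2.1, ht.1, ht.2.2.1, ht.2.2.2⟩, hty⟩

theorem IsEps.swap23 {a b c d y : α} (hy : IsEps Γ a b c d y) : IsEps Γ a b d c y := by
  obtain ⟨h1, h2, t, ht, hty⟩ := hy
  exact ⟨h2, h1, t, ⟨ht.1, ht.2.1, ht.2.2.2, ht.2.2.1⟩, hty⟩

theorem IsEps.smul {a b c d y : α} (hy : IsEps Γ a b c d y) (g : Γ) :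
    IsEps Γ (g • a) (g • b) (g • c) (g • d) (g • y) := by
  obtain ⟨h1, h2, t, ht, hty⟩ := hy
  refine ⟨fun e => h1 (smul_left_cancel g e), fun e => h2 (smul_left_cancel g e),
    g * t * g⁻¹, ⟨?_, ?_, ?_, ?_⟩, ?_⟩
  · rw [mul_smul, mul_smul, inv_smul_smul, ht.1]
  · rw [mul_smul, mul_smul, inv_smul_smul, ht.2.1]
  · rw [mul_smul, mul_smul, inv_smul_smul, ht.2.2.1]
  · rw [mul_smul, mul_smul, inv_smul_smul, ht.2.2.2]
  · rw [mul_smul, mul_smul, inv_smul_smul, hty]

/-- the key symmetry (2) of the paper proof -/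
theorem IsEps.swap12 (h : SharpK Γ α 4) (hα : Fintype.card α = 11) {a b c d y : α}
    (hd : D4 a b c d) (hy : IsEps Γ a b c d y) : IsEps Γ a c b d y := by
  obtain ⟨hyc, hyd, t, ht, hty⟩ := hy
  obtain ⟨v, hv⟩ := exists_tau h hd.swap12
  obtain ⟨t1, t2, t3, t4⟩ := ht
  obtain ⟨v1, v2, v3, v4⟩ := hv
  have htt : t * t = 1 := IsTau.sq h hd ⟨t1, t2, t3, t4⟩
  have hvv : v * v = 1 := IsTau.sq h hd.swap12 ⟨v1, v2, v3, v4⟩
  have htinv : t⁻¹ = t := inv_eq_of_mul_eq_one_left htt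
  have hvinv : v⁻¹ = v := inv_eq_of_mul_eq_one_left hvv
  set r : Γ := t * v with hr
  have ra : r • a = c := by rw [hr, mul_smul, v1, t3]
  have rc : r • c = b := by rw [hr, mul_smul, v2, t1]
  have rb : r • b = a := by rw [hr, mul_smul, v3, t2]
  have rd : r • d = d := by rw [hr, mul_smul, v4, t4]
  have hr3 : r ^ 3 = 1 := by
    apply fix4 h hd
    · rw [pow_succ, pow_two, mul_smul, mul_smul, ra, rc, rb]
    · rw [pow_succ, pow_two, mul_smul, mul_smul, rb, ra, rc]
    · rw [pow_succ, pow_two, mul_smul, mul_smul, rc, rb, ra]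
    · rw [pow_succ, pow_two, mul_smul, mul_smul, rd, rd, rd]
  have hr1 : r ≠ 1 := by
    intro h1
    apply hd.2.1
    rw [← ra, h1, one_smul]
  -- the fixed points of `r`
  haveI : Fact (Nat.Prime 3) := ⟨Nat.prime_three⟩
  have hmod := card_fixed_modEq (α := α) (p := 3) r hr3
  rw [hα] at hmod
  have hle3 := card_fixF_le_three h hr1
  have hcard : (fixF α r).card = 2 := by
    have : 11 % 3 = (fixF α r).card % 3 := hmod
    omega
  have hdr : d ∈ fixF α r := mem_fixF.mpr rd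
  have hcard1 : ((fixF α r).erase d).card = 1 := by
    rw [Finset.card_erase_of_mem hdr, hcard]
  obtain ⟨f, hf⟩ := Finset.card_eq_one.mp hcard1
  have hfmem : f ∈ (fixF α r).erase d := by rw [hf]; exact Finset.mem_singleton_self f
  have hfd : f ≠ d := (Finset.mem_erase.mp hfmem).1
  have hrf : r • f = f := mem_fixF.mp (Finset.mem_erase.mp hfmem).2
  have hrinvf : r⁻¹ • f = f := by
    rw [inv_smul_eq_iff, hrf]
  -- `t` and `v` invert `r`
  have htr : t * r * t⁻¹ = r⁻¹ := by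
    rw [htinv]
    apply agree4 h hd
    · rw [mul_smul, mul_smul, t1, rb, t1, eq_inv_smul_iff, rb]
    · rw [mul_smul, mul_smul, t2, ra, t3, eq_inv_smul_iff, rc]
    · rw [mul_smul, mul_smul, t3, rc, t2, eq_inv_smul_iff, ra]
    · rw [mul_smul, mul_smul, t4, rd, t4, eq_inv_smul_iff, rd]
  have hvr : v * r * v⁻¹ = r⁻¹ := by
    rw [hvinv]
    apply agree4 h hd
    · rw [mul_smul, mul_smul, v1, rc, v3, eq_inv_smul_iff, rb]
    · rw [mul_smul, mul_smul, v3, rb, v1, eq_inv_smul_iff, rc]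
    · rw [mul_smul, mul_smul, v2, ra, v2, eq_inv_smul_iff, ra]
    · rw [mul_smul, mul_smul, v4, rd, v4, eq_inv_smul_iff, rd]
  -- an involution inverting `r` and fixing `d` fixes `f`
  have key : ∀ s : Γ, s * r * s⁻¹ = r⁻¹ → s • d = d → s • f = f := by
    intro s hs hsd
    have h1 : r⁻¹ • (s • f) = s • f := by
      rw [← hs, mul_smul, mul_smul, inv_smul_smul, hrf]
    have h2 : r • (s • f) = s • f := by
      rw [inv_smul_eq_iff] at h1
      exact h1.symm
    have h3 : s • f ∈ (fixF α r).erase d := by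
      rw [Finset.mem_erase]
      refine ⟨?_, mem_fixF.mpr h2⟩
      intro e
      apply hfd
      rw [← hsd] at e
      exact smul_left_cancel s e
    rw [hf, Finset.mem_singleton] at h3
    exact h3
  have htf : t • f = f := key t htr t4
  have hvf : v • f = f := key v hvr v4
  -- `f` is the third fixed point of `t`
  have hfc : f ≠ c := by
    rintro rfl
    apply hd.2.2.2.1
    rw [← rc, hrf]
  have hfb : f ≠ b := by
    rintro rfl
    apply hd.1
    rw [← rb, hrf]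
  have hfy : f = y := IsEps.unique h hd ⟨hfc, hfd, t, ⟨t1, t2, t3, t4⟩, htf⟩
    ⟨hyc, hyd, t, ⟨t1, t2, t3, t4⟩, hty⟩
  subst hfy
  exact ⟨hfb, hfd, v, ⟨v1, v2, v3, v4⟩, hvf⟩

/-- function form -/
def E (Γ : Type*) [Group Γ] [MulAction Γ α] (x : Fin 4 → α) (y : α) : Prop :=
  IsEps Γ (x 0) (x 1) (x 2) (x 3) y

theorem E_perm (h : SharpK Γ α 4) (hα : Fintype.card α = 11) (σ : Equiv.Perm (Fin 4)) :
    ∀ x : Fin 4 → α, Function.Injective x → ∀ y, E Γ x y → E Γ (x ∘ σ) y := by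
  have htop := Equiv.Perm.mclosure_swap_castSucc_succ 3
  have hσ : σ ∈ Submonoid.closure
      (Set.range fun i : Fin 3 => Equiv.swap i.castSucc i.succ) := by
    rw [htop]; trivial
  induction hσ using Submonoid.closure_induction with
  | mem τ hmem =>
    obtain ⟨i, rfl⟩ := hmem
    intro x hx y hy
    have hd := D4.of_inj hx
    fin_cases i
    · -- swap 0 1
      have := IsEps.swap01 hy
      simpa [E, Function.comp, Equiv.swap_apply_def] using this
    · -- swap 1 2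
      have := IsEps.swap12 h hα hd hy
      simpa [E, Function.comp, Equiv.swap_apply_def] using this
    · -- swap 2 3
      have := IsEps.swap23 hy
      simpa [E, Function.comp, Equiv.swap_apply_def] using this
  | one =>
    intro x hx y hy
    simpa using hy
  | mul σ τ _ _ ihσ ihτ =>
    intro x hx y hy
    have h1 := ihσ x hx y hy
    have h2 := ihτ (x ∘ σ) (hx.comp σ.injective) y h1
    exact h2

theorem mem_image4 (x : Fin 4 → α) (z : α) :
    z ∈ Finset.univ.image x ↔ z = x 0 ∨ z = x 1 ∨ z = x 2 ∨ z = x 3 := by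
  constructor
  · intro hz
    obtain ⟨i, -, rfl⟩ := Finset.mem_image.mp hz
    fin_cases i
    · exact Or.inl rfl
    · exact Or.inr (Or.inl rfl)
    · exact Or.inr (Or.inr (Or.inl rfl))
    · exact Or.inr (Or.inr (Or.inr rfl))
  · rintro (rfl | rfl | rfl | rfl) <;> exact Finset.mem_image_of_mem _ (Finset.mem_univ _)

variable (Γ) in
/-- set form -/
def EpsSet (S : Finset α) (y : α) : Prop :=
  ∃ x : Fin 4 → α, Function.Injective x ∧ Finset.univ.image x = S ∧ E Γ x y

theorem exists_enum (S : Finset α) (hS : S.card = 4) :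
    ∃ x : Fin 4 → α, Function.Injective x ∧ Finset.univ.image x = S := by
  let φ : ↥S ≃ Fin 4 := Finset.equivFinOfCardEq hS
  refine ⟨fun i => ((φ.symm i : ↥S) : α), ?_, ?_⟩
  · intro i j hij
    exact φ.symm.injective (Subtype.ext hij)
  · ext z
    constructor
    · intro hz
      obtain ⟨i, -, rfl⟩ := Finset.mem_image.mp hz
      exact (φ.symm i).2
    · intro hz
      refine Finset.mem_image.mpr ⟨φ ⟨z, hz⟩, Finset.mem_univ _, ?_⟩
      simp

theorem epsSet_exists (h : SharpK Γ α 4) (hα : Fintype.card α = 11) (S : Finset α)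
    (hS : S.card = 4) : ∃ y, EpsSet Γ S y := by
  obtain ⟨x, hx, hxS⟩ := exists_enum S hS
  obtain ⟨y, hy⟩ := exists_eps h hα (D4.of_inj hx)
  exact ⟨y, x, hx, hxS, hy⟩

theorem epsSet_unique (h : SharpK Γ α 4) (hα : Fintype.card α = 11) {S : Finset α} {y y' : α}
    (hy : EpsSet Γ S y) (hy' : EpsSet Γ S y') : y = y' := by
  obtain ⟨x, hx, hxS, hE⟩ := hy
  obtain ⟨x', hx', hxS', hE'⟩ := hy'
  have hex : ∀ i : Fin 4, ∃ j : Fin 4, x j = x' i := by
    intro i
    have h1 : x' i ∈ Finset.univ.image x := by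
      rw [hxS, ← hxS']
      exact Finset.mem_image_of_mem _ (Finset.mem_univ _)
    obtain ⟨j, -, hj⟩ := Finset.mem_image.mp h1
    exact ⟨j, hj⟩
  choose σ₀ hσ₀ using hex
  have hinj : Function.Injective σ₀ := by
    intro i i' hii
    apply hx'
    rw [← hσ₀ i, ← hσ₀ i', hii]
  let σ : Equiv.Perm (Fin 4) := Equiv.ofBijective σ₀ (Finite.injective_iff_bijective.mp hinj)
  have hcomp : x ∘ σ = x' := by
    funext i
    exact hσ₀ i
  have h1 := E_perm h hα σ x hx y hE
  rw [hcomp] at h1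
  exact IsEps.unique h (D4.of_inj hx') h1 hE'

theorem epsSet_notMem {S : Finset α} {y : α} (hy : EpsSet Γ S y) : y ∉ S := by
  obtain ⟨x, hx, hxS, hE⟩ := hy
  have hd := D4.of_inj hx
  have h1 := IsEps.ne_left hd hE
  rw [← hxS, mem_image4]
  rintro (e | e | e | e)
  · exact h1.1 e
  · exact h1.2 e
  · exact hE.1 e
  · exact hE.2.1 e

theorem epsSet_smul {S : Finset α} {y : α} (hy : EpsSet Γ S y) (g : Γ) :
    EpsSet Γ (S.image (fun a => g • a)) (g • y) := by
  obtain ⟨x, hx, hxS, hE⟩ := hy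
  refine ⟨fun i => g • x i, ?_, ?_, ?_⟩
  · intro i j hij
    exact hx (smul_left_cancel g hij)
  · rw [← hxS, Finset.image_image]
    rfl
  · exact IsEps.smul hE g

theorem epsSet_erase (h : SharpK Γ α 4) (hα : Fintype.card α = 11) {S : Finset α} {y a : α}
    (hy : EpsSet Γ S y) (ha : a ∈ S) : EpsSet Γ (insert y (S.erase a)) a := by
  have hyS := epsSet_notMem hy
  obtain ⟨x, hx, hxS, hE⟩ := hy
  -- move `a` to the front
  have ha' : a ∈ Finset.univ.image x := by rw [hxS]; exact ha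
  obtain ⟨j, -, hj⟩ := Finset.mem_image.mp ha'
  have hE1 := E_perm h hα (Equiv.swap 0 j) x hx y hE
  have hx1 : Function.Injective (x ∘ Equiv.swap 0 j) := hx.comp (Equiv.swap 0 j).injective
  have hS1 : Finset.univ.image (x ∘ Equiv.swap 0 j) = S := by
    rw [← hxS]
    ext z
    constructor
    · intro hz
      obtain ⟨i, -, rfl⟩ := Finset.mem_image.mp hz
      exact Finset.mem_image_of_mem _ (Finset.mem_univ _)
    · intro hz
      obtain ⟨i, -, rfl⟩ := Finset.mem_image.mp hz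
      refine Finset.mem_image.mpr ⟨Equiv.swap 0 j i, Finset.mem_univ _, ?_⟩
      simp
  have h0 : (x ∘ Equiv.swap 0 j) 0 = a := by
    simp [hj]
  -- rename
  obtain ⟨x₁, hx₁, hS₁, hE₁, h0₁⟩ : ∃ x₁ : Fin 4 → α, Function.Injective x₁ ∧
      Finset.univ.image x₁ = S ∧ E Γ x₁ y ∧ x₁ 0 = a := ⟨_, hx1, hS1, hE1, h0⟩
  -- the symmetry (0 2)(1 3)
  let σ2 : Equiv.Perm (Fin 4) := Equiv.swap 0 2 * Equiv.swap 1 3
  have hE2 := E_perm h hα σ2 x₁ hx₁ y hE₁
  have hd := D4.of_inj hx₁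
  have hE2' : IsEps Γ (x₁ 2) (x₁ 3) (x₁ 0) (x₁ 1) y := by
    have e0 : σ2 0 = 2 := by decide
    have e1 : σ2 1 = 3 := by decide
    have e2 : σ2 2 = 0 := by decide
    have e3 : σ2 3 = 1 := by decide
    have := hE2
    unfold E at this
    simp only [Function.comp_apply, e0, e1, e2, e3] at this
    exact this
  obtain ⟨hy0, hy1, u, ⟨u1, u2, u3, u4⟩, huy⟩ := hE2'
  have hne := IsEps.ne_left hd hE₁
  have hy2 : y ≠ x₁ 2 := hE₁.1
  have hy3 : y ≠ x₁ 3 := hE₁.2.1
  refine ⟨![x₁ 2, x₁ 3, x₁ 1, y], ?_, ?_, ?_⟩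
  · exact injective_vec4 hd.2.2.2.2.2 hd.2.2.2.1.symm hy2.symm hd.2.2.2.2.1.symm hy3.symm
      hne.2.symm
  · ext z
    rw [mem_image4, Finset.mem_insert, Finset.mem_erase, ← hS₁, mem_image4, ← h0₁]
    simp only [Matrix.cons_val_zero, Matrix.cons_val_one]
    have e2 : (![x₁ 2, x₁ 3, x₁ 1, y] : Fin 4 → α) 2 = x₁ 1 := rfl
    have e3 : (![x₁ 2, x₁ 3, x₁ 1, y] : Fin 4 → α) 3 = y := rfl
    rw [e2, e3]
    constructor
    · rintro (rfl | rfl | rfl | rfl)
      · exact Or.inr ⟨hd.2.1.symm, Or.inr (Or.inr (Or.inl rfl))⟩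
      · exact Or.inr ⟨hd.2.2.1.symm, Or.inr (Or.inr (Or.inr rfl))⟩
      · exact Or.inr ⟨hd.1.symm, Or.inr (Or.inl rfl)⟩
      · exact Or.inl rfl
    · rintro (rfl | ⟨hne0, (rfl | rfl | rfl | rfl)⟩)
      · exact Or.inr (Or.inr (Or.inr rfl))
      · exact absurd rfl hne0
      · exact Or.inr (Or.inr (Or.inl rfl))
      · exact Or.inl rfl
      · exact Or.inr (Or.inl rfl)
  · show IsEps Γ (x₁ 2) (x₁ 3) (x₁ 1) y a
    rw [← h0₁]
    exact ⟨hd.1, hne.1.symm, u, ⟨u1, u2, u4, huy⟩, u3⟩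

end generic

/-- PK-C1 -/
theorem C1 {α : Type*} [Fintype α] [DecidableEq α] (hα : Fintype.card α = 11)
    (K : Subgroup (Equiv.Perm α)) [MulAction.IsMultiplyPretransitive K α 4]
    (hsharp : ∀ x : Fin 4 ↪ α, MulAction.stabilizer K x = ⊥) :
    ∃ e : Finset α → α,
      (∀ S : Finset α, S.card = 4 → e S ∉ S) ∧
      (∀ S : Finset α, S.card = 4 → ∀ x ∈ S, e (insert (e S) (S.erase x)) = x) ∧
      (∀ g ∈ K, ∀ S : Finset α, S.card = 4 → e (S.image g) = g (e S)) := by
  classical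
  have h : SharpK ↥K α 4 := ⟨inferInstance, hsharp⟩
  haveI : Nonempty α := Fintype.card_pos_iff.mp (by omega)
  let e : Finset α → α := fun S => Classical.epsilon (fun y => EpsSet ↥K S y)
  have hspec : ∀ S : Finset α, (∃ y, EpsSet ↥K S y) → EpsSet ↥K S (e S) :=
    fun S hS => Classical.epsilon_spec hS
  refine ⟨e, ?_, ?_, ?_⟩
  · intro S hS
    exact epsSet_notMem (hspec S (epsSet_exists h hα S hS))
  · intro S hS x hx
    have h1 := hspec S (epsSet_exists h hα S hS)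
    have h2 := epsSet_erase h hα h1 hx
    have h3 := hspec _ ⟨x, h2⟩
    exact epsSet_unique h hα h3 h2
  · intro g hg S hS
    have h1 := hspec S (epsSet_exists h hα S hS)
    have h2 := epsSet_smul h1 (⟨g, hg⟩ : ↥K)
    have himg : S.image (fun a => (⟨g, hg⟩ : ↥K) • a) = S.image g := rfl
    rw [himg] at h2
    have h3 := hspec _ ⟨_, h2⟩
    exact epsSet_unique h hα h3 h2

end Cfsg.Agent.Lib.Helper58_M11U_C1
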