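import Mathlib
import Cfsg.Agent.Lib.Helper73_MGDefs

/-!
# Marggraf market (architect helper73, S3620), package MG-WITT: `witt`

`n = 2m+1`, `Δ = Γᶜ`: a nonempty flat `F` inside two translates `g₁Δ`, `g₂Δ` is fixed pointwise by some
`h` mapping `g₁Δ` to `g₂Δ`.  Self-contained (own copies `js_union'`, `js_smul'` of MG-UNION / MG-SMUL).
-/

set_option autoImplicit false

namespace Cfsg.Agent.Lib.Helper86_MG_WITT

open MulAction Equiv Cfsg.Agent.Lib.Helper73_MG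
open scoped Pointwise

universe u v
variable {G : Type u} {Ω : Type v} [Group G] [MulAction G Ω]

/-- (own copy of MG-UNION) overlapping Jordan sets have Jordan union -/
theorem js_union' {S T : Set Ω} (hS : JS G S) (hT : JS G T) (h : (S ∩ T).Nonempty) :
    JS G (S ∪ T) := by
  obtain ⟨c, hcS, hcT⟩ := h
  have key : ∀ x ∈ S ∪ T, ∃ g : G, (∀ z, z ∉ S ∪ T → g • z = z) ∧ g • x = c := by
    intro x hx
    rcases hx with hx | hx
    · obtain ⟨g, hg, hgx⟩ := hS x hx c hcS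
      exact ⟨g, fun z hz => hg z (fun hzS => hz (Or.inl hzS)), hgx⟩
    · obtain ⟨g, hg, hgx⟩ := hT x hx c hcT
      exact ⟨g, fun z hz => hg z (fun hzT => hz (Or.inr hzT)), hgx⟩
  intro x hx y hy
  obtain ⟨gx, hgx, hgxx⟩ := key x hx
  obtain ⟨gy, hgy, hgyy⟩ := key y hy
  refine ⟨gy⁻¹ * gx, ?_, ?_⟩
  · intro z hz
    rw [mul_smul, hgx z hz, inv_smul_eq_iff, hgy z hz]
  · rw [mul_smul, hgxx, inv_smul_eq_iff, hgyy]

/-- (own copy of MG-SMUL) a translate of a Jordan set is a Jordan set -/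
theorem js_smul' {S : Set Ω} (hS : JS G S) (g : G) : JS G (g • S) := by
  intro x hx y hy
  rw [Set.mem_smul_set_iff_inv_smul_mem] at hx hy
  obtain ⟨k, hk, hkx⟩ := hS _ hx _ hy
  refine ⟨g * k * g⁻¹, ?_, ?_⟩
  · intro z hz
    have hz' : g⁻¹ • z ∉ S := fun h => hz (Set.mem_smul_set_iff_inv_smul_mem.mpr h)
    rw [mul_smul, mul_smul, hk _ hz', smul_inv_smul]
  · rw [mul_smul, mul_smul, hkx, smul_inv_smul]

/-- the inductive form of `witt` -/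
theorem witt_aux [Finite Ω] (Γ : Set Ω) (hn : Nat.card Ω = 2 * Γ.ncard + 1) (hΓ : JS G Γ) :
    ∀ (k : ℕ) (F : Set Ω), F.Nonempty → JS G Fᶜ → ∀ g₁ g₂ : G, F ⊆ g₁ • Γᶜ → F ⊆ g₂ • Γᶜ →
      Γ.ncard + 1 ≤ F.ncard + k →
      ∃ h : G, (∀ f ∈ F, h • f = f) ∧ (h * g₁) • Γᶜ = g₂ • Γᶜ := by
  have hΔ : Γᶜ.ncard = Γ.ncard + 1 := by
    have := Set.ncard_add_ncard_compl Γ
    omega
  have hgΔ : ∀ g : G, (g • Γᶜ).ncard = Γ.ncard + 1 := fun g => by rw [Set.ncard_smul_set, hΔ]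
  have hgΓ : ∀ g : G, (g • Γ).ncard = Γ.ncard := fun g => Set.ncard_smul_set g Γ
  intro k
  induction k with
  | zero =>
    intro F hF hJF g₁ g₂ h1 h2 hk
    have e1 : F = g₁ • Γᶜ := Set.eq_of_subset_of_ncard_le h1 (by rw [hgΔ]; omega)
    have e2 : F = g₂ • Γᶜ := Set.eq_of_subset_of_ncard_le h2 (by rw [hgΔ]; omega)
    exact ⟨1, fun f _ => one_smul G f, by rw [one_mul, ← e1, ← e2]⟩
  | succ k ih =>
    intro F hF hJF g₁ g₂ h1 h2 hk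
    by_cases heq : g₁ • Γᶜ = g₂ • Γᶜ
    · exact ⟨1, fun f _ => one_smul G f, by rw [one_mul, heq]⟩
    -- points `x₁ ∈ g₁Δ ∖ g₂Δ`, `x₂ ∈ g₂Δ ∖ g₁Δ`
    obtain ⟨x₁, hx₁, hx₁'⟩ : ∃ x ∈ g₁ • Γᶜ, x ∉ g₂ • Γᶜ := by
      by_contra hcon
      push Not at hcon
      exact heq (Set.eq_of_subset_of_ncard_le hcon (by rw [hgΔ, hgΔ]))
    obtain ⟨x₂, hx₂, hx₂'⟩ : ∃ x ∈ g₂ • Γᶜ, x ∉ g₁ • Γᶜ := by
      by_contra hcon
      push Not at hcon
      exact heq (Set.eq_of_subset_of_ncard_le hcon (by rw [hgΔ, hgΔ])).symm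
    have hx₁F : x₁ ∈ Fᶜ := fun h => hx₁' (h2 h)
    have hx₂F : x₂ ∈ Fᶜ := fun h => hx₂' (h1 h)
    obtain ⟨h₀, hh₀, hh₀x⟩ := hJF x₁ hx₁F x₂ hx₂F
    have hh₀F : ∀ f ∈ F, h₀ • f = f := fun f hf => hh₀ f (fun hfc => hfc hf)
    -- the new flat
    obtain ⟨F', hF'⟩ : ∃ F' : Set Ω, F' = (h₀ * g₁) • Γᶜ ∩ g₂ • Γᶜ := ⟨_, rfl⟩
    have hFF' : F ⊆ F' := by
      intro f hf
      rw [hF']
      refine ⟨?_, h2 hf⟩
      rw [mul_smul, ← hh₀F f hf]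
      exact Set.smul_mem_smul_set (h1 hf)
    have hx₂F' : x₂ ∈ F' := by
      rw [hF']
      refine ⟨?_, hx₂⟩
      rw [mul_smul, ← hh₀x]
      exact Set.smul_mem_smul_set hx₁
    have hF'ne : F'.Nonempty := ⟨x₂, hx₂F'⟩
    have hcard : F.ncard + 1 ≤ F'.ncard := by
      have hsub : insert x₂ F ⊆ F' := Set.insert_subset hx₂F' hFF'
      have h3 := Set.ncard_le_ncard hsub
      rw [Set.ncard_insert_of_notMem (fun h => hx₂F h)] at h3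
      exact h3
    have hF'c : F'ᶜ = (h₀ * g₁) • Γ ∪ g₂ • Γ := by
      rw [hF', Set.compl_inter, ← Set.smul_set_compl, ← Set.smul_set_compl, compl_compl]
    have hmeet : ((h₀ * g₁) • Γ ∩ g₂ • Γ).Nonempty := by
      rw [← Set.ncard_pos]
      have h4 := Set.ncard_union_add_ncard_inter ((h₀ * g₁) • Γ) (g₂ • Γ)
      have h5 := Set.ncard_add_ncard_compl F'
      rw [hF'c] at h5
      rw [hgΓ, hgΓ] at h4
      have h6 : 1 ≤ F.ncard := by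
        rw [Nat.one_le_iff_ne_zero, Ne, Set.ncard_eq_zero]
        exact hF.ne_empty
      omega
    have hJF' : JS G F'ᶜ := by
      rw [hF'c]
      exact js_union' (js_smul' hΓ _) (js_smul' hΓ _) hmeet
    have h1' : F' ⊆ (h₀ * g₁) • Γᶜ := by rw [hF']; exact Set.inter_subset_left
    have h2' : F' ⊆ g₂ • Γᶜ := by rw [hF']; exact Set.inter_subset_right
    obtain ⟨h', hh', hh'Δ⟩ := ih F' hF'ne hJF' (h₀ * g₁) g₂ h1' h2' (by omega)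
    refine ⟨h' * h₀, ?_, ?_⟩
    · intro f hf
      rw [mul_smul, hh₀F f hf, hh' f (hFF' hf)]
    · rw [mul_assoc]
      exact hh'Δ

/-- MG-WITT -/
theorem witt [Finite Ω] (Γ : Set Ω) (hn : Nat.card Ω = 2 * Γ.ncard + 1) (hΓ : JS G Γ)
    (F : Set Ω) (hF : F.Nonempty) (hJF : JS G Fᶜ) (g₁ g₂ : G)
    (h1 : F ⊆ g₁ • Γᶜ) (h2 : F ⊆ g₂ • Γᶜ) :
    ∃ h : G, (∀ f ∈ F, h • f = f) ∧ (h * g₁) • Γᶜ = g₂ • Γᶜ :=
  witt_aux Γ hn hΓ (Γ.ncard + 1) F hF hJF g₁ g₂ h1 h2 (by omega)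

end Cfsg.Agent.Lib.Helper86_MG_WITT
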