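import Mathlib
import Cfsg.Agent.Lib.Helper73_MGDefs
import Cfsg.Agent.S3707
import Cfsg.Agent.Lib.Helper86_MG_WITT

/-!
# MG-STAB2T (S3620, Marggraf; architect helper73)

`stab_two_trans_aux`: the statement of MG-STAB2T, with the statement of MG-WITT as a hypothesis.
`stab_two_trans`: MG-STAB2T verbatim (MG-WITT from `Helper86_MG_WITT`).
-/

set_option autoImplicit false

namespace Cfsg.Agent.Lib.Helper58_MG_STAB2T

open MulAction Equiv
open scoped Pointwise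
open Cfsg.Agent.Lib.Helper73_MG

universe u v
variable {G : Type u} {Ω : Type v} [Group G] [MulAction G Ω]

/-- three-transitivity in elementary form -/
theorem three_trans_elem (h3 : IsMultiplyPretransitive G Ω 3) :
    ∀ a b c a' b' c' : Ω, a ≠ b → a ≠ c → b ≠ c → a' ≠ b' → a' ≠ c' → b' ≠ c' →
      ∃ g : G, g • a = a' ∧ g • b = b' ∧ g • c = c' := by
  intro a b c a' b' c' hab hac hbc hab' hac' hbc'
  have inj : Function.Injective ![a, b, c] := by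
    intro i j h
    fin_cases i <;> fin_cases j <;> simp_all
  have inj' : Function.Injective ![a', b', c'] := by
    intro i j h
    fin_cases i <;> fin_cases j <;> simp_all
  obtain ⟨g, hg⟩ := h3.exists_smul_eq (⟨![a, b, c], inj⟩ : Fin 3 ↪ Ω) ⟨![a', b', c'], inj'⟩
  refine ⟨g, ?_, ?_, ?_⟩
  · have := DFunLike.congr_fun hg 0
    simpa using this
  · have := DFunLike.congr_fun hg 1
    simpa using this
  · have := DFunLike.congr_fun hg 2
    simpa using this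

/-- the complement of a pair of points is a Jordan set of a 3-transitive group -/
theorem js_compl_pair (h3 : IsMultiplyPretransitive G Ω 3) (a b : Ω) (hab : a ≠ b) :
    JS G ({a, b} : Set Ω)ᶜ := by
  intro p hp q hq
  have hp' : p ≠ a ∧ p ≠ b := by
    simpa [Set.mem_compl_iff, Set.mem_insert_iff, not_or] using hp
  have hq' : q ≠ a ∧ q ≠ b := by
    simpa [Set.mem_compl_iff, Set.mem_insert_iff, not_or] using hq
  by_cases hpq : p = q
  · refine ⟨1, fun z _ => one_smul _ _, ?_⟩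
    rw [one_smul, hpq]
  · obtain ⟨g, hga, hgb, hgp⟩ := three_trans_elem h3 a b p a b q hab (Ne.symm hp'.1)
      (Ne.symm hp'.2) hab (Ne.symm hq'.1) (Ne.symm hq'.2)
    refine ⟨g, ?_, hgp⟩
    intro z hz
    have hz' : z = a ∨ z = b := by
      rw [Set.mem_compl_iff, not_not] at hz
      exact hz
    rcases hz' with rfl | rfl
    · exact hga
    · exact hgb

/-- MG-STAB2T, with the statement of MG-WITT as a hypothesis. -/
theorem stab_two_trans_aux [Finite Ω]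
    (hW : ∀ (Γ : Set Ω), Nat.card Ω = 2 * Γ.ncard + 1 → JS G Γ →
      ∀ (F : Set Ω), F.Nonempty → JS G Fᶜ → ∀ (g₁ g₂ : G), F ⊆ g₁ • Γᶜ → F ⊆ g₂ • Γᶜ →
        ∃ h : G, (∀ f ∈ F, h • f = f) ∧ (h * g₁) • Γᶜ = g₂ • Γᶜ)
    (Γ : Set Ω) (hn : Nat.card Ω = 2 * Γ.ncard + 1)
    (hΓ : JS G Γ) (h3 : IsMultiplyPretransitive G Ω 3) :
    ∀ x ∈ Γᶜ, ∀ y ∈ Γᶜ, ∀ x' ∈ Γᶜ, ∀ y' ∈ Γᶜ, x ≠ y → x' ≠ y' →
      ∃ u : G, u • Γᶜ = Γᶜ ∧ u • x = x' ∧ u • y = y' := by
  intro x hx y hy x' hx' y' hy' hxy hxy'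
  -- the degree is at least 3
  have hc : Γᶜ.ncard = Nat.card Ω - Γ.ncard := Set.ncard_compl Γ
  have h2c : 1 < Γᶜ.ncard := (Set.one_lt_ncard_iff (Set.toFinite _)).2 ⟨x, y, hx, hy, hxy⟩
  have hcard : 3 ≤ Nat.card Ω := by omega
  -- 2-transitivity
  have h2 : IsMultiplyPretransitive G Ω 2 :=
    isMultiplyPretransitive_of_le (G := G) (α := Ω) (m := 2) (n := 3) (by norm_num) hcard
  obtain ⟨g, hgx, hgy⟩ := Cfsg.Agent.S3707.two_trans_elem h2 x y x' y' hxy hxy'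
  -- the flat F = {x', y'}
  have hJF : JS G ({x', y'} : Set Ω)ᶜ := js_compl_pair h3 x' y' hxy'
  have hF : ({x', y'} : Set Ω).Nonempty := ⟨x', Set.mem_insert _ _⟩
  have h1 : ({x', y'} : Set Ω) ⊆ g • Γᶜ := by
    intro f hf
    rcases hf with rfl | hf
    · exact ⟨x, hx, hgx⟩
    · rw [Set.mem_singleton_iff] at hf
      subst hf
      exact ⟨y, hy, hgy⟩
  have h2' : ({x', y'} : Set Ω) ⊆ (1 : G) • Γᶜ := by
    rw [one_smul]
    intro f hf
    rcases hf with rfl | hf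
    · exact hx'
    · rw [Set.mem_singleton_iff] at hf
      subst hf
      exact hy'
  obtain ⟨h, hfix, hh⟩ := hW Γ hn hΓ {x', y'} hF hJF g 1 h1 h2'
  rw [one_smul] at hh
  refine ⟨h * g, hh, ?_, ?_⟩
  · rw [mul_smul, hgx]
    exact hfix x' (Set.mem_insert _ _)
  · rw [mul_smul, hgy]
    exact hfix y' (Set.mem_insert_of_mem _ rfl)

/-- MG-STAB2T -/
theorem stab_two_trans [Finite Ω] (Γ : Set Ω) (hn : Nat.card Ω = 2 * Γ.ncard + 1)
    (hΓ : JS G Γ) (h3 : IsMultiplyPretransitive G Ω 3) :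
    ∀ x ∈ Γᶜ, ∀ y ∈ Γᶜ, ∀ x' ∈ Γᶜ, ∀ y' ∈ Γᶜ, x ≠ y → x' ≠ y' →
      ∃ u : G, u • Γᶜ = Γᶜ ∧ u • x = x' ∧ u • y = y' :=
  stab_two_trans_aux
    (fun Γ hn hΓ F hF hJF g₁ g₂ h1 h2 =>
      Cfsg.Agent.Lib.Helper86_MG_WITT.witt Γ hn hΓ F hF hJF g₁ g₂ h1 h2) Γ hn hΓ h3

end Cfsg.Agent.Lib.Helper58_MG_STAB2T
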