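import Mathlib
import Cfsg.Agent.Lib.Helper73_MGDefs
import Cfsg.Agent.S3707
import Cfsg.Agent.Lib.Helper58_MG_STAB2T
import Cfsg.Agent.Lib.Helper86_MG_WITT

/-!
# MG-SWAP (S3620, Marggraf; architect helper73)

`exists_swap_aux`: the statement of MG-SWAP, with the statement of MG-WITT as a hypothesis
(MG-UNION and MG-SMUL are reproved locally as `h58_js_union`, `h58_js_smul`).
`exists_swap`: MG-SWAP verbatim (MG-WITT from `Helper86_MG_WITT`).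
-/

set_option autoImplicit false

namespace Cfsg.Agent.Lib.Helper58_MG_SWAP

open MulAction Equiv
open scoped Pointwise
open Cfsg.Agent.Lib.Helper73_MG

universe u v
variable {G : Type u} {Ω : Type v} [Group G] [MulAction G Ω]

/-- local copy of MG-UNION -/
theorem h58_js_union {S T : Set Ω} (hS : JS G S) (hT : JS G T) (h : (S ∩ T).Nonempty) :
    JS G (S ∪ T) := by
  obtain ⟨c, hcS, hcT⟩ := h
  have key : ∀ x ∈ S ∪ T, ∃ g : G, (∀ z, z ∉ S ∪ T → g • z = z) ∧ g • x = c := by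
    intro x hx
    rcases hx with hx | hx
    · obtain ⟨g, hg1, hg2⟩ := hS x hx c hcS
      exact ⟨g, fun z hz => hg1 z (fun hzS => hz (Or.inl hzS)), hg2⟩
    · obtain ⟨g, hg1, hg2⟩ := hT x hx c hcT
      exact ⟨g, fun z hz => hg1 z (fun hzT => hz (Or.inr hzT)), hg2⟩
  intro x hx y hy
  obtain ⟨gx, hgx1, hgx2⟩ := key x hx
  obtain ⟨gy, hgy1, hgy2⟩ := key y hy
  refine ⟨gy⁻¹ * gx, ?_, ?_⟩
  · intro z hz
    rw [mul_smul, hgx1 z hz, inv_smul_eq_iff, hgy1 z hz]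
  · rw [mul_smul, hgx2, inv_smul_eq_iff, hgy2]

/-- local copy of MG-SMUL -/
theorem h58_js_smul {S : Set Ω} (hS : JS G S) (g : G) : JS G (g • S) := by
  intro x hx y hy
  obtain ⟨x', hx', rfl⟩ := hx
  obtain ⟨y', hy', rfl⟩ := hy
  obtain ⟨k, hk1, hk2⟩ := hS x' hx' y' hy'
  refine ⟨g * k * g⁻¹, ?_, ?_⟩
  · intro z hz
    have hz' : g⁻¹ • z ∉ S := by
      intro hmem
      apply hz
      exact ⟨g⁻¹ • z, hmem, smul_inv_smul g z⟩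
    rw [mul_smul, mul_smul, hk1 _ hz', smul_inv_smul]
  · rw [mul_smul, mul_smul, inv_smul_smul, hk2]

/-- MG-SWAP, with the statement of MG-WITT as a hypothesis. -/
theorem exists_swap_aux [Finite Ω]
    (hW : ∀ (Γ : Set Ω), Nat.card Ω = 2 * Γ.ncard + 1 → JS G Γ →
      ∀ (F : Set Ω), F.Nonempty → JS G Fᶜ → ∀ (g₁ g₂ : G), F ⊆ g₁ • Γᶜ → F ⊆ g₂ • Γᶜ →
        ∃ h : G, (∀ f ∈ F, h • f = f) ∧ (h * g₁) • Γᶜ = g₂ • Γᶜ)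
    (Γ : Set Ω) (hn : Nat.card Ω = 2 * Γ.ncard + 1)
    (h3 : 3 ≤ Γ.ncard) (hΓ : JS G Γ) (h3t : IsMultiplyPretransitive G Ω 3)
    (x₀ y₀ : Ω) (hx : x₀ ∈ Γᶜ) (hy : y₀ ∈ Γᶜ) (hxy : x₀ ≠ y₀) (hJ : JS G (Γ ∪ {x₀})) :
    ∃ u : G, u • Γᶜ = Γᶜ ∧ (∀ z ∈ Γᶜ, z ≠ x₀ → z ≠ y₀ → u • z = z) ∧
      u • x₀ = y₀ ∧ u • y₀ = x₀ := by
  -- Γ is non-empty
  have hΓne : Γ.Nonempty := by
    rw [← Set.ncard_pos (Set.toFinite Γ)]
    omega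
  obtain ⟨c, hc⟩ := hΓne
  -- u₀ swapping x₀ and y₀ and preserving Δ
  obtain ⟨u₀, hu₀Δ, hu₀x, _⟩ :=
    Cfsg.Agent.Lib.Helper58_MG_STAB2T.stab_two_trans_aux hW Γ hn hΓ h3t x₀ hx y₀ hy y₀ hy x₀ hx
      hxy (Ne.symm hxy)
  have hu₀Γ : u₀ • Γ = Γ := by
    have : (u₀ • Γ)ᶜ = Γᶜ := by rw [← Set.smul_set_compl]; exact hu₀Δ
    exact compl_injective this
  -- Γ ∪ {y₀} is a Jordan set
  have hJy : JS G (Γ ∪ {y₀}) := by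
    have := h58_js_smul hJ u₀
    rwa [Set.smul_set_union, hu₀Γ, Set.smul_set_singleton, hu₀x] at this
  -- Γ ∪ {x₀, y₀} is a Jordan set
  have hJxy : JS G ((Γ ∪ {x₀}) ∪ (Γ ∪ {y₀})) :=
    h58_js_union hJ hJy ⟨c, Or.inl hc, Or.inl hc⟩
  obtain ⟨g, hg1, hg2⟩ := hJxy x₀ (Or.inl (Or.inr rfl)) y₀ (Or.inr (Or.inr rfl))
  have hgfix : ∀ z ∈ Γᶜ, z ≠ x₀ → z ≠ y₀ → g • z = z := by
    intro z hz hzx hzy
    apply hg1
    rintro ((h | h) | (h | h))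
    · exact hz h
    · exact hzx h
    · exact hz h
    · exact hzy h
  -- the flat F₁ = Δ ∖ {x₀}
  have hF₁ : ((Γ ∪ {x₀})ᶜ : Set Ω).Nonempty := by
    refine ⟨y₀, ?_⟩
    rintro (h | h)
    · exact hy h
    · exact hxy h.symm
  have hJF₁ : JS G ((Γ ∪ {x₀})ᶜ)ᶜ := by rwa [compl_compl]
  have h1 : ((Γ ∪ {x₀})ᶜ : Set Ω) ⊆ g • Γᶜ := by
    intro f hf
    have hfΓ : f ∈ Γᶜ := fun h => hf (Or.inl h)
    have hfx : f ≠ x₀ := fun h => hf (Or.inr h)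
    by_cases hfy : f = y₀
    · exact ⟨x₀, hx, hg2.trans hfy.symm⟩
    · exact ⟨f, hfΓ, hgfix f hfΓ hfx hfy⟩
  have h2 : ((Γ ∪ {x₀})ᶜ : Set Ω) ⊆ (1 : G) • Γᶜ := by
    rw [one_smul]
    intro f hf
    exact fun h => hf (Or.inl h)
  obtain ⟨h, hfix, hh⟩ := hW Γ hn hΓ _ hF₁ hJF₁ g 1 h1 h2
  rw [one_smul] at hh
  have hux : (h * g) • x₀ = y₀ := by
    rw [mul_smul, hg2]
    apply hfix
    rintro (h' | h')
    · exact hy h'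
    · exact hxy h'.symm
  have hufix : ∀ z ∈ Γᶜ, z ≠ x₀ → z ≠ y₀ → (h * g) • z = z := by
    intro z hz hzx hzy
    rw [mul_smul, hgfix z hz hzx hzy]
    apply hfix
    rintro (h' | h')
    · exact hz h'
    · exact hzx h'
  refine ⟨h * g, hh, hufix, hux, ?_⟩
  -- the image of y₀
  have hmem : (h * g) • y₀ ∈ Γᶜ := by
    rw [← hh]
    exact ⟨y₀, hy, rfl⟩
  by_contra hne
  have hney : (h * g) • y₀ ≠ y₀ := by
    intro heq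
    have : (h * g) • y₀ = (h * g) • x₀ := by rw [heq, hux]
    exact hxy (smul_left_cancel _ this).symm
  have := hufix _ hmem hne hney
  exact hney (smul_left_cancel _ this)

/-- MG-SWAP -/
theorem exists_swap [Finite Ω] (Γ : Set Ω) (hn : Nat.card Ω = 2 * Γ.ncard + 1)
    (h3 : 3 ≤ Γ.ncard) (hΓ : JS G Γ) (h3t : IsMultiplyPretransitive G Ω 3)
    (x₀ y₀ : Ω) (hx : x₀ ∈ Γᶜ) (hy : y₀ ∈ Γᶜ) (hxy : x₀ ≠ y₀) (hJ : JS G (Γ ∪ {x₀})) :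
    ∃ u : G, u • Γᶜ = Γᶜ ∧ (∀ z ∈ Γᶜ, z ≠ x₀ → z ≠ y₀ → u • z = z) ∧ u • x₀ = y₀ ∧ u • y₀ = x₀ :=
  exists_swap_aux
    (fun Γ hn hΓ F hF hJF g₁ g₂ h1 h2 =>
      Cfsg.Agent.Lib.Helper86_MG_WITT.witt Γ hn hΓ F hF hJF g₁ g₂ h1 h2)
    Γ hn h3 hΓ h3t x₀ y₀ hx hy hxy hJ

end Cfsg.Agent.Lib.Helper58_MG_SWAP
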