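import Mathlib
import Cfsg.Agent.Lib.Helper75_MI3MDefs
import Cfsg.Agent.Lib.Helper54_MI2_HYPORB

/-!
# MI3M-HYPORB (S2147 `q = 3` slice, architect helper75): orbits of points and of hyperplanes under `T Q`
have at least `Nsing3 k` members (minus setting over the field with three elements; counts as hypotheses).
Adapted from `Helper84_MI3_HYPORB`.
-/

set_option autoImplicit false
set_option linter.unusedSectionVars false
set_option linter.unusedVariables false
set_option linter.style.haveILetI false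

namespace Cfsg.Agent.Lib.Helper58_MI3M_HYPORB

open Module Cfsg.Agent.Lib.Helper14_OmegaSimple Cfsg.Agent.Lib.Helper22_MI2Defs
  Cfsg.Agent.Lib.Helper44_MI3Defs Cfsg.Agent.Lib.Helper75_MI3MDefs

variable {F V : Type*} [Field F] [AddCommGroup V] [Module F V]

section finite

variable [Finite F] [FiniteDimensional F V]

/-- the three level sets have at least `(3^k+1)(3^(k-1)-1)` nonzero members -/
theorem card_level (Q : QuadraticForm F V) {k : ℕ} (hS : MinusSetting3 Q k)
    (hs : Nat.card {x : V // x ≠ 0 ∧ Q x = 0} = (3 ^ k + 1) * (3 ^ (k - 1) - 1))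
    (hp : Nat.card {x : V // Q x = 1} = 3 ^ (k - 1) * (3 ^ k + 1))
    (hm : Nat.card {x : V // Q x = -1} = 3 ^ (k - 1) * (3 ^ k + 1)) (c : F) :
    (3 ^ k + 1) * (3 ^ (k - 1) - 1) ≤ {y : V | y ≠ 0 ∧ Q y = c}.ncard := by
  classical
  haveI : Finite V := Module.finite_of_finite F
  have hνσ : (3 ^ k + 1) * (3 ^ (k - 1) - 1) ≤ 3 ^ (k - 1) * (3 ^ k + 1) := by
    rw [mul_comm (3 ^ (k - 1)) (3 ^ k + 1)]
    exact Nat.mul_le_mul_left _ (Nat.sub_le _ _)
  have h0c : Nat.card {x : V // x ≠ 0 ∧ Q x = 0} = {y : V | y ≠ 0 ∧ Q y = 0}.ncard :=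
    Nat.card_coe_set_eq {x : V | x ≠ 0 ∧ Q x = 0}
  have hpc : Nat.card {x : V // Q x = 1} = {y : V | Q y = 1}.ncard :=
    Nat.card_coe_set_eq {x : V | Q x = 1}
  have hmc : Nat.card {x : V // Q x = -1} = {y : V | Q y = -1}.ncard :=
    Nat.card_coe_set_eq {x : V | Q x = -1}
  rcases hS.f3 c with rfl | rfl | rfl
  · rw [← h0c, hs]
  · have hset : {y : V | y ≠ 0 ∧ Q y = 1} = {y : V | Q y = 1} := by
      ext y
      constructor
      · exact fun h => h.2
      · intro h
        refine ⟨?_, h⟩
        rintro rfl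
        have h' : Q (0 : V) = 1 := h
        rw [map_zero] at h'
        exact zero_ne_one h'
    rw [hset, ← hpc, hp]
    exact hνσ
  · have hset : {y : V | y ≠ 0 ∧ Q y = -1} = {y : V | Q y = -1} := by
      ext y
      constructor
      · exact fun h => h.2
      · intro h
        refine ⟨?_, h⟩
        rintro rfl
        have h' : Q (0 : V) = -1 := h
        rw [map_zero] at h'
        have : (1 : F) = 0 := by linear_combination h'
        exact one_ne_zero this
    rw [hset, ← hmc, hm]
    exact hνσ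

/-- the orbit of a point -/
theorem point_orbit_minus (Q : QuadraticForm F V) {k : ℕ} (hS : MinusSetting3 Q k) (hk : 3 ≤ k)
    (hs : Nat.card {x : V // x ≠ 0 ∧ Q x = 0} = (3 ^ k + 1) * (3 ^ (k - 1) - 1))
    (hp : Nat.card {x : V // Q x = 1} = 3 ^ (k - 1) * (3 ^ k + 1))
    (hm : Nat.card {x : V // Q x = -1} = 3 ^ (k - 1) * (3 ^ k + 1))
    (htr : ∀ x y : V, Q x ≠ 0 → Q x = Q y → ∃ g ∈ T Q, g x = y)
    (S : Submodule F V) (hS1 : finrank F S = 1) : Nsing3 k ≤ (subOrbit Q S).ncard := by
  classical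
  haveI : Finite V := Module.finite_of_finite F
  have hdim : 5 ≤ finrank F V := by rw [hS.dim]; omega
  -- a generator
  obtain ⟨v, hv0, hv⟩ := finrank_eq_one_iff'.1 hS1
  obtain ⟨lam, hlam⟩ : ∃ lam : V, lam = (v : V) := ⟨_, rfl⟩
  have hlam0 : lam ≠ 0 := by
    rw [hlam]
    intro h
    exact hv0 (Subtype.ext h)
  have hSspan : S = Submodule.span F {lam} := by
    apply le_antisymm
    · intro w hw
      obtain ⟨c, hc⟩ := hv ⟨w, hw⟩
      rw [Submodule.mem_span_singleton]
      refine ⟨c, ?_⟩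
      rw [hlam]
      exact congrArg Subtype.val hc
    · rw [Submodule.span_singleton_le_iff_mem, hlam]
      exact v.2
  -- the orbit of `lam` up to scalars
  have horb : ∀ y : V, y ≠ 0 → Q y = Q lam → ∃ g ∈ T Q, ∃ c : F, c ≠ 0 ∧ g lam = c • y := by
    intro y hy hQy
    by_cases hQl : Q lam = 0
    · exact exists_mem_T_map Q hS.nondeg hdim hlam0 hQl hy (by rw [hQy, hQl])
    · obtain ⟨g, hg, hgl⟩ := htr lam y hQl hQy.symm
      exact ⟨g, hg, 1, one_ne_zero, by rw [one_smul]; exact hgl⟩
  have hmaps : ∀ y ∈ {y : V | y ≠ 0 ∧ Q y = Q lam}, Submodule.span F {y} ∈ subOrbit Q S := by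
    rintro y ⟨hy, hQy⟩
    obtain ⟨g, hg, c, hc, hgl⟩ := horb y hy hQy
    refine ⟨g, hg, ?_⟩
    rw [hSspan, Submodule.map_span, Set.image_singleton]
    show Submodule.span F {y} = Submodule.span F {g lam}
    rw [hgl, Submodule.span_singleton_smul_eq (IsUnit.mk0 c hc)]
  -- the map is at most two-to-one
  obtain ⟨L, hL⟩ : ∃ L : Finset V, L = (Set.toFinite {y : V | y ≠ 0 ∧ Q y = Q lam}).toFinset :=
    ⟨_, rfl⟩
  have hLmem : ∀ y, y ∈ L ↔ y ≠ 0 ∧ Q y = Q lam := by
    intro y
    rw [hL, Set.Finite.mem_toFinset]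
    rfl
  obtain ⟨O, hO⟩ : ∃ O : Finset (Submodule F V), O = (Set.toFinite (subOrbit Q S)).toFinset :=
    ⟨_, rfl⟩
  have himg : L.image (fun y : V => Submodule.span F {y}) ⊆ O := by
    intro W hW
    obtain ⟨y, hy, rfl⟩ := Finset.mem_image.mp hW
    rw [hO, Set.Finite.mem_toFinset]
    exact hmaps y ((hLmem y).mp hy)
  have hfib : ∀ W ∈ L.image (fun y : V => Submodule.span F {y}),
      (L.filter (fun y => Submodule.span F {y} = W)).card ≤ 2 := by
    intro W hW
    obtain ⟨y0, hy0, rfl⟩ := Finset.mem_image.mp hW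
    have hsub : L.filter (fun y => Submodule.span F {y} = Submodule.span F {y0}) ⊆ {y0, -y0} := by
      intro y hy
      rw [Finset.mem_filter] at hy
      have hmem : y ∈ Submodule.span F {y0} := by
        rw [← hy.2]
        exact Submodule.mem_span_singleton_self y
      obtain ⟨c, hc⟩ := Submodule.mem_span_singleton.1 hmem
      rw [Finset.mem_insert, Finset.mem_singleton]
      rcases hS.f3 c with rfl | rfl | rfl
      · rw [zero_smul] at hc
        exact absurd hc.symm ((hLmem y).mp hy.1).1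
      · left
        rw [one_smul] at hc
        exact hc.symm
      · right
        rw [neg_smul, one_smul] at hc
        exact hc.symm
    exact le_trans (Finset.card_le_card hsub) Finset.card_le_two
  have hcard := Finset.card_le_mul_card_image (f := fun y : V => Submodule.span F {y}) L 2 hfib
  have hLcard : L.card = {y : V | y ≠ 0 ∧ Q y = Q lam}.ncard := by
    rw [hL, Set.ncard_eq_toFinset_card _ (Set.toFinite _)]
  have hOcard : O.card = (subOrbit Q S).ncard := by
    rw [hO, Set.ncard_eq_toFinset_card _ (Set.toFinite _)]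
  have h1 := card_level Q hS hs hp hm (Q lam)
  have h2 := Finset.card_le_card himg
  rw [← hLcard] at h1
  rw [← hOcard]
  unfold Nsing3
  apply Nat.div_le_of_le_mul
  omega

end finite

theorem point_hyperplane_orbit_minus [Finite F] [FiniteDimensional F V] (Q : QuadraticForm F V)
    {k : ℕ} (hS : MinusSetting3 Q k) (hk : 3 ≤ k)
    (hs : Nat.card {x : V // x ≠ 0 ∧ Q x = 0} = (3 ^ k + 1) * (3 ^ (k - 1) - 1))
    (hp : Nat.card {x : V // Q x = 1} = 3 ^ (k - 1) * (3 ^ k + 1))
    (hm : Nat.card {x : V // Q x = -1} = 3 ^ (k - 1) * (3 ^ k + 1))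
    (htr : ∀ x y : V, Q x ≠ 0 → Q x = Q y → ∃ g ∈ T Q, g x = y) (S : Submodule F V)
    (hS1 : finrank F S = 1 ∨ finrank F S + 1 = 2 * k) :
    Nsing3 k ≤ (subOrbit Q S).ncard := by
  haveI : Finite V := Module.finite_of_finite F
  rcases hS1 with h1 | h1
  · exact point_orbit_minus Q hS hk hs hp hm htr S h1
  · have hrefl : (QuadraticMap.polarBilin Q).IsRefl := by
      intro x y h
      rw [QuadraticMap.polarBilin_apply_apply] at h ⊢
      rw [QuadraticMap.polar_comm]
      exact h
    have hfr : finrank F (LinearMap.BilinForm.orthogonal (QuadraticMap.polarBilin Q) S) = 1 := by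
      rw [LinearMap.BilinForm.finrank_orthogonal hS.nondeg, hS.dim]
      omega
    have hpt := point_orbit_minus Q hS hk hs hp hm htr _ hfr
    refine le_trans hpt ?_
    have hoo : ∀ W : Submodule F V,
        LinearMap.BilinForm.orthogonal (QuadraticMap.polarBilin Q)
          (LinearMap.BilinForm.orthogonal (QuadraticMap.polarBilin Q) W) = W :=
      LinearMap.BilinForm.orthogonal_orthogonal hS.nondeg hrefl
    refine Set.ncard_le_ncard_of_injOn
      (fun D => LinearMap.BilinForm.orthogonal (QuadraticMap.polarBilin Q) D) ?_ ?_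
      (Set.toFinite _)
    · rintro D ⟨g, hg, rfl⟩
      refine ⟨g, hg, ?_⟩
      show LinearMap.BilinForm.orthogonal (QuadraticMap.polarBilin Q) _ = _
      rw [Cfsg.Agent.Lib.Helper54_MI2_HYPORB.orthogonal_map Q hg, hoo]
    · intro D _ D' _ h
      have := congrArg (fun W => LinearMap.BilinForm.orthogonal (QuadraticMap.polarBilin Q) W) h
      simpa only [hoo] using this

end Cfsg.Agent.Lib.Helper58_MI3M_HYPORB
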