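import Mathlib
import Cfsg.Agent.Lib.Helper75_MI3MDefs

/-!
# MI3M-SUBI (S2147 `q = 3` slice, architect helper75): the subspaces through `lam` invariant under
`Kstab Q lam` have dimension one or codimension at most one (any dimension `≥ 5`, characteristic `≠ 2`).
Adapted from `Helper60_MI3_SUBI` (helper60).
-/

set_option autoImplicit false
set_option linter.unusedVariables false
set_option linter.unusedSectionVars false

namespace Cfsg.Agent.Lib.Helper58_MI3M_SUBI

open Module Cfsg.Agent.Lib.Helper14_OmegaSimple Cfsg.Agent.Lib.Helper22_MI2Defs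
  Cfsg.Agent.Lib.Helper44_MI3Defs Cfsg.Agent.Lib.Helper75_MI3MDefs

variable {F V : Type*} [Field F] [AddCommGroup V] [Module F V]

theorem isRefl_polarBilin (Q : QuadraticForm F V) :
    LinearMap.BilinForm.IsRefl (QuadraticMap.polarBilin Q) := by
  intro x y h
  rw [QuadraticMap.polarBilin_apply_apply] at h ⊢
  rw [QuadraticMap.polar_comm]
  exact h

/-- membership in the orthogonal of the span of three vectors -/
theorem mem_orth_triple (Q : QuadraticForm F V) (a l c x : V) :
    x ∈ LinearMap.BilinForm.orthogonal (QuadraticMap.polarBilin Q)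
        (Submodule.span F ({a, l, c} : Set V)) ↔
      QuadraticMap.polar (⇑Q) a x = 0 ∧ QuadraticMap.polar (⇑Q) l x = 0 ∧
        QuadraticMap.polar (⇑Q) c x = 0 := by
  rw [LinearMap.BilinForm.mem_orthogonal_iff]
  constructor
  · intro h
    refine ⟨h a (Submodule.subset_span (by simp)), h l (Submodule.subset_span (by simp)),
      h c (Submodule.subset_span (by simp))⟩
  · rintro ⟨h1, h2, h3⟩ n hn
    obtain ⟨α, β, γ, rfl⟩ := Submodule.mem_span_triple.1 hn
    show QuadraticMap.polarBilin Q (α • a + β • l + γ • c) x = 0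
    rw [map_add, map_add, map_smul, map_smul, map_smul, LinearMap.add_apply, LinearMap.add_apply,
      LinearMap.smul_apply, LinearMap.smul_apply, LinearMap.smul_apply,
      QuadraticMap.polarBilin_apply_apply, QuadraticMap.polarBilin_apply_apply,
      QuadraticMap.polarBilin_apply_apply, h1, h2, h3]
    simp

/-- The heart: an invariant subspace containing `lam` and a vector `c ⟂ lam` outside `span lam`
contains `lam^⟂`. -/
theorem le_of_orth_gen [Finite F] [FiniteDimensional F V] (Q : QuadraticForm F V)
    (h2ne : (2 : F) ≠ 0) (hQ : (QuadraticMap.polarBilin Q).Nondegenerate) (hdim5 : 5 ≤ finrank F V)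
    {lam : V} (hlam : lam ≠ 0) (C : Submodule F V)
    (hinv : ∀ g ∈ Kstab Q lam, ∀ x ∈ C, g x ∈ C) {c : V} (hc : c ∈ C)
    (hlc : QuadraticMap.polar (⇑Q) lam c = 0) (hcl : c ∉ Submodule.span F {lam}) :
    ∀ x : V, QuadraticMap.polar (⇑Q) lam x = 0 → x ∈ C := by
  have hnd := hQ
  -- Step 1: the singular vector `a`
  obtain ⟨a, haQ, hla, hac⟩ : ∃ a : V, Q a = 0 ∧ QuadraticMap.polar (⇑Q) lam a = 0 ∧
      QuadraticMap.polar (⇑Q) a c = 1 := by
    by_cases hQl : Q lam = 0
    · obtain ⟨s, hs, hls, hsc⟩ :=
        Cfsg.Agent.Lib.Helper14_Siegel.exists_singular_orth_polar Q hnd hdim5 hlam hQl hlc hcl 1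
      exact ⟨s, hs, hls, hsc⟩
    · obtain ⟨s, hs, hsl, hsc⟩ := exists_singular_orth_polar_ns Q hnd hdim5 hQl hcl 1
      exact ⟨s, hs, by rw [QuadraticMap.polar_comm]; exact hsl, hsc⟩
  have hca : QuadraticMap.polar (⇑Q) c a = 1 := by rw [QuadraticMap.polar_comm]; exact hac
  have hal : QuadraticMap.polar (⇑Q) a lam = 0 := by rw [QuadraticMap.polar_comm]; exact hla
  have hcl0 : QuadraticMap.polar (⇑Q) c lam = 0 := by rw [QuadraticMap.polar_comm]; exact hlc
  have haa : QuadraticMap.polar (⇑Q) a a = 0 := by
    rw [Cfsg.Agent.Lib.Helper44_QuadClass.polar_self', haQ, mul_zero]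
  -- Step 2
  have hstar : ∀ b : V, QuadraticMap.polar (⇑Q) a b = 0 → QuadraticMap.polar (⇑Q) lam b = 0 →
      QuadraticMap.polar (⇑Q) c b = 0 → b - Q b • a ∈ C := by
    intro b hab hlb hcb
    have hg : E Q a b ∈ Kstab Q lam :=
      Subgroup.subset_closure ⟨a, b, haQ, hab, hla, hlb, rfl⟩
    have h1 := hinv _ hg c hc
    rw [E_apply Q haQ hab, hca, hcb] at h1
    have h2 : c + (1 : F) • b - (0 : F) • a - (Q b * 1) • a - c ∈ C := C.sub_mem h1 hc
    have h3 : c + (1 : F) • b - (0 : F) • a - (Q b * 1) • a - c = b - Q b • a := by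
      rw [one_smul, zero_smul, mul_one]; abel
    rw [h3] at h2
    exact h2
  -- Step 3: `a ∈ C`
  have haC : a ∈ C := by
    by_contra haC
    set W : Submodule F V := Submodule.span F ({a, lam, c} : Set V) with hW
    set X : Submodule F V := LinearMap.BilinForm.orthogonal (QuadraticMap.polarBilin Q) W with hX
    have hiso : ∀ b ∈ X, ∀ b' ∈ X, QuadraticMap.polar (⇑Q) b b' = 0 := by
      intro b hb b' hb'
      by_contra hne
      obtain ⟨h1, h2, h3⟩ := (mem_orth_triple Q a lam c b).1 hb
      obtain ⟨h1', h2', h3'⟩ := (mem_orth_triple Q a lam c b').1 hb'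
      have e1 := hstar b h1 h2 h3
      have e2 := hstar b' h1' h2' h3'
      have e3 := hstar (b + b') (by rw [QuadraticMap.polar_add_right, h1, h1', add_zero])
        (by rw [QuadraticMap.polar_add_right, h2, h2', add_zero])
        (by rw [QuadraticMap.polar_add_right, h3, h3', add_zero])
      have e4 : (b + b' - Q (b + b') • a) - ((b - Q b • a) + (b' - Q b' • a)) ∈ C :=
        C.sub_mem e3 (C.add_mem e1 e2)
      have e5 : (b + b' - Q (b + b') • a) - ((b - Q b • a) + (b' - Q b' • a))
          = (-QuadraticMap.polar (⇑Q) b b') • a := by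
        rw [QuadraticMap.polar, neg_smul, sub_smul, sub_smul]
        abel
      rw [e5] at e4
      apply haC
      have := C.smul_mem (-QuadraticMap.polar (⇑Q) b b')⁻¹ e4
      rwa [smul_smul, inv_mul_cancel₀ (neg_ne_zero.2 hne), one_smul] at this
    -- `X` lies in `span lam`
    have hXle : X ≤ Submodule.span F {lam} := by
      intro x hx
      have hxW : x ∈ W := by
        have hxo : x ∈ LinearMap.BilinForm.orthogonal (QuadraticMap.polarBilin Q) X := by
          rw [LinearMap.BilinForm.mem_orthogonal_iff]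
          intro n hn
          exact hiso n hn x hx
        rw [hX, LinearMap.BilinForm.orthogonal_orthogonal hnd (isRefl_polarBilin Q)] at hxo
        exact hxo
      obtain ⟨α, β, γ, rfl⟩ := Submodule.mem_span_triple.1 hxW
      obtain ⟨h1, -, h3⟩ := (mem_orth_triple Q a lam c _).1 hx
      have hγ : γ = 0 := by
        rw [QuadraticMap.polar_add_right, QuadraticMap.polar_add_right,
          QuadraticMap.polar_smul_right, QuadraticMap.polar_smul_right,
          QuadraticMap.polar_smul_right, haa, hal, hac] at h1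
        simpa using h1
      have hα : α = 0 := by
        rw [QuadraticMap.polar_add_right, QuadraticMap.polar_add_right,
          QuadraticMap.polar_smul_right, QuadraticMap.polar_smul_right,
          QuadraticMap.polar_smul_right, hca, hcl0, hγ] at h3
        simpa using h3
      rw [hα, hγ, zero_smul, zero_smul, zero_add, add_zero]
      exact Submodule.smul_mem _ _ (Submodule.mem_span_singleton_self lam)
    have hfX : finrank F X ≤ 1 := by
      have := Submodule.finrank_mono hXle
      rw [finrank_span_singleton hlam] at this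
      exact this
    have hfW : finrank F W ≤ 3 := by
      classical
      have h := finrank_span_finset_le_card (R := F) ({a, lam, c} : Finset V)
      have hc3 : ({a, lam, c} : Finset V).card ≤ 3 := Finset.card_le_three
      have e : ((({a, lam, c} : Finset V) : Set V)) = ({a, lam, c} : Set V) := by
        ext; simp
      rw [e] at h
      exact le_trans h hc3
    have hfo := LinearMap.BilinForm.finrank_orthogonal hnd W
    rw [← hX] at hfo
    omega
  -- Step 4
  intro x hx
  set ν : F := QuadraticMap.polar (⇑Q) a x with hν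
  set μ : F := QuadraticMap.polar (⇑Q) c x - ν * QuadraticMap.polar (⇑Q) c c with hμ
  set x' : V := x - μ • a - ν • c with hx'
  have h1 : QuadraticMap.polar (⇑Q) a x' = 0 := by
    rw [hx', QuadraticMap.polar_sub_right, QuadraticMap.polar_sub_right,
      QuadraticMap.polar_smul_right, QuadraticMap.polar_smul_right, haa, hac, ← hν]
    simp
  have h2 : QuadraticMap.polar (⇑Q) lam x' = 0 := by
    rw [hx', QuadraticMap.polar_sub_right, QuadraticMap.polar_sub_right,
      QuadraticMap.polar_smul_right, QuadraticMap.polar_smul_right, hla, hlc, hx]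
    simp
  have h3 : QuadraticMap.polar (⇑Q) c x' = 0 := by
    rw [hx', QuadraticMap.polar_sub_right, QuadraticMap.polar_sub_right,
      QuadraticMap.polar_smul_right, QuadraticMap.polar_smul_right, hca, hμ]
    simp
  have h4 := hstar x' h1 h2 h3
  have h5 : x' ∈ C := by
    have := C.add_mem h4 (C.smul_mem (Q x') haC)
    rwa [sub_add_cancel] at this
  have h6 : x = x' + μ • a + ν • c := by
    rw [hx']; abel
  rw [h6]
  exact C.add_mem (C.add_mem h5 (C.smul_mem _ haC)) (C.smul_mem _ hc)

theorem invariant_of_Kstab_gen [Finite F] [FiniteDimensional F V] (Q : QuadraticForm F V)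
    (h2 : (2 : F) ≠ 0) (hQ : (QuadraticMap.polarBilin Q).Nondegenerate) (hdim : 5 ≤ finrank F V)
    {lam : V} (hlam : lam ≠ 0) (C : Submodule F V)
    (hlC : lam ∈ C) (hinv : ∀ g ∈ Kstab Q lam, C.map (g : V →ₗ[F] V) = C) :
    finrank F C = 1 ∨ finrank F V ≤ finrank F C + 1 := by
  have hnd := hQ
  have hfwd : ∀ g ∈ Kstab Q lam, ∀ x ∈ C, g x ∈ C := by
    intro g hg x hx
    have : g x ∈ C.map (g : V →ₗ[F] V) := ⟨x, hx, rfl⟩
    rwa [hinv g hg] at this
  have hspan_le : Submodule.span F {lam} ≤ C := by
    rw [Submodule.span_le]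
    intro x hx
    rw [Set.mem_singleton_iff.mp hx]
    exact hlC
  have horth : ∀ x : V, x ∈ LinearMap.BilinForm.orthogonal (QuadraticMap.polarBilin Q)
      (Submodule.span F {lam}) ↔ QuadraticMap.polar (⇑Q) lam x = 0 := by
    intro x
    rw [LinearMap.BilinForm.mem_orthogonal_iff]
    constructor
    · intro h
      exact h lam (Submodule.mem_span_singleton_self lam)
    · intro h n hn
      obtain ⟨r, rfl⟩ := Submodule.mem_span_singleton.mp hn
      show QuadraticMap.polarBilin Q (r • lam) x = 0
      rw [map_smul, LinearMap.smul_apply, QuadraticMap.polarBilin_apply_apply, h, smul_zero]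
  by_cases hCs : C ≤ Submodule.span F {lam}
  · left
    rw [le_antisymm hCs hspan_le, finrank_span_singleton hlam]
  right
  -- it suffices that `lam^⟂ ≤ C`
  have hsuff : (∀ x : V, QuadraticMap.polar (⇑Q) lam x = 0 → x ∈ C) →
      finrank F V ≤ finrank F C + 1 := by
    intro h
    have hle : LinearMap.BilinForm.orthogonal (QuadraticMap.polarBilin Q)
        (Submodule.span F {lam}) ≤ C := fun x hx => h x ((horth x).1 hx)
    have h1 := Submodule.finrank_mono hle
    have h2 := LinearMap.BilinForm.finrank_orthogonal hnd (Submodule.span F {lam})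
    rw [finrank_span_singleton hlam] at h2
    omega
  apply hsuff
  obtain ⟨c₀, hc₀, hc₀l⟩ := Set.not_subset.mp hCs
  by_cases hQl : Q lam = 0
  · have hll : QuadraticMap.polar (⇑Q) lam lam = 0 := by
      rw [Cfsg.Agent.Lib.Helper44_QuadClass.polar_self', hQl, mul_zero]
    by_cases hCo : ∀ x ∈ C, QuadraticMap.polar (⇑Q) lam x = 0
    · exact le_of_orth_gen Q h2 hQ hdim hlam C hfwd hc₀ (hCo c₀ hc₀) hc₀l
    · push Not at hCo
      obtain ⟨c, hc, hlc⟩ := hCo
      have hcl : QuadraticMap.polar (⇑Q) c lam ≠ 0 := by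
        rw [QuadraticMap.polar_comm]; exact hlc
      intro w hw
      have hg : E Q lam w ∈ Kstab Q lam :=
        Subgroup.subset_closure ⟨lam, w, hQl, hw, hll, hw, rfl⟩
      have h1 := hfwd _ hg c hc
      rw [E_apply Q hQl hw] at h1
      have h2 : c + QuadraticMap.polar (⇑Q) c lam • w - QuadraticMap.polar (⇑Q) c w • lam -
          (Q w * QuadraticMap.polar (⇑Q) c lam) • lam - c +
          QuadraticMap.polar (⇑Q) c w • lam + (Q w * QuadraticMap.polar (⇑Q) c lam) • lam ∈ C :=
        C.add_mem (C.add_mem (C.sub_mem h1 hc) (C.smul_mem _ hlC)) (C.smul_mem _ hlC)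
      have h3 : c + QuadraticMap.polar (⇑Q) c lam • w - QuadraticMap.polar (⇑Q) c w • lam -
          (Q w * QuadraticMap.polar (⇑Q) c lam) • lam - c +
          QuadraticMap.polar (⇑Q) c w • lam + (Q w * QuadraticMap.polar (⇑Q) c lam) • lam =
          QuadraticMap.polar (⇑Q) c lam • w := by abel
      rw [h3] at h2
      have := C.smul_mem (QuadraticMap.polar (⇑Q) c lam)⁻¹ h2
      rwa [smul_smul, inv_mul_cancel₀ hcl, one_smul] at this
  · have hll : QuadraticMap.polar (⇑Q) lam lam ≠ 0 := by
      rw [Cfsg.Agent.Lib.Helper44_QuadClass.polar_self']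
      exact mul_ne_zero h2 hQl
    set t : F := QuadraticMap.polar (⇑Q) lam c₀ / QuadraticMap.polar (⇑Q) lam lam with ht
    have hc : c₀ - t • lam ∈ C := C.sub_mem hc₀ (C.smul_mem _ hlC)
    have hlc : QuadraticMap.polar (⇑Q) lam (c₀ - t • lam) = 0 := by
      rw [QuadraticMap.polar_sub_right, QuadraticMap.polar_smul_right, ht, smul_eq_mul,
        div_mul_cancel₀ _ hll, sub_self]
    have hcl : c₀ - t • lam ∉ Submodule.span F {lam} := by
      intro h
      apply hc₀l
      have := Submodule.add_mem _ h
        (Submodule.smul_mem _ t (Submodule.mem_span_singleton_self lam))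
      rwa [sub_add_cancel] at this
    exact le_of_orth_gen Q h2 hQ hdim hlam C hfwd hc hlc hcl

end Cfsg.Agent.Lib.Helper58_MI3M_SUBI
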