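import Mathlib
import Cfsg.Agent.Lib.Helper66_MI_SpDefs
import Cfsg.Agent.Lib.Helper94_MI_SpKiso

set_option autoImplicit false
set_option linter.unusedVariables false
set_option linter.unusedSimpArgs false
set_option linter.unusedSectionVars false

/-!
# S2141 (MISp, architect helper66), package PERF: `K_v ≅ Sp(W)` is perfect unless
`(m, q) = (2, 3)`.
-/

namespace Cfsg.Agent.Lib.Helper58_MISp_PERF

open Cfsg.Agent.Lib.Helper94_Symp Cfsg.Agent.Lib.Helper94_SympTI
  Cfsg.Agent.Lib.Helper94_SympPerfect Cfsg.Agent.Lib.Helper66_MI_SpDefs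
  Cfsg.Agent.Lib.Helper94_MI_SpKiso

universe u

/-- a field with at least four elements has `a ≠ 0` with `a² ≠ 1` -/
theorem exists_sq_ne_one {F : Type*} [Field F] [Finite F] (h4 : 4 ≤ Nat.card F) :
    ∃ a : F, a ≠ 0 ∧ a * a ≠ 1 := by
  classical
  have : Fintype F := Fintype.ofFinite F
  by_contra hcon
  push Not at hcon
  have hall : ∀ a : F, a ∈ ({0, 1, -1} : Finset F) := by
    intro a
    simp only [Finset.mem_insert, Finset.mem_singleton]
    by_cases ha : a = 0
    · exact Or.inl ha
    · right
      have h1 := hcon a ha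
      have h2 : (a - 1) * (a + 1) = 0 := by linear_combination h1
      rcases mul_eq_zero.mp h2 with h | h
      · left; linear_combination h
      · right; linear_combination h
  have hsub : (Finset.univ : Finset F) ⊆ {0, 1, -1} := fun a _ => hall a
  have h1 := Finset.card_le_card hsub
  have h3 : ({0, 1, -1} : Finset F).card ≤ 3 := Finset.card_le_three
  rw [Finset.card_univ, ← Nat.card_eq_fintype_card] at h1
  omega

/-- a field with three elements has characteristic different from two -/
theorem two_ne_zero_of_card_three {F : Type*} [Field F] [Finite F] (h3 : Nat.card F = 3) :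
    (2 : F) ≠ 0 := by
  intro h2
  have h1 : addOrderOf (1 : F) ∣ 2 := by
    apply addOrderOf_dvd_of_nsmul_eq_zero
    rw [two_nsmul]
    linear_combination h2
  have h4 : addOrderOf (1 : F) ∣ 3 := by
    rw [← h3]
    exact addOrderOf_dvd_natCard 1
  have h5 : addOrderOf (1 : F) ∣ Nat.gcd 2 3 := Nat.dvd_gcd h1 h4
  have h6 : addOrderOf (1 : F) = 1 := by
    have : Nat.gcd 2 3 = 1 := by norm_num
    rw [this] at h5
    exact Nat.dvd_one.mp h5
  rw [AddMonoid.addOrderOf_eq_one_iff] at h6
  exact one_ne_zero h6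

/-- a subgroup contained in its own commutator is perfect as a group -/
theorem commutator_subtype_eq_top {G : Type*} [Group G] (K : Subgroup G) (h : K ≤ ⁅K, K⁆) :
    commutator ↥K = ⊤ := by
  have h' : ⁅K, K⁆ = K := le_antisymm (Subgroup.commutator_le_self K) h
  apply Subgroup.map_injective K.subtype_injective
  rw [Subgroup.map_subtype_commutator, h', ← MonoidHom.range_eq_map, Subgroup.range_subtype]

/-- perfectness is transported by isomorphisms -/
theorem commutator_eq_top_of_mulEquiv {G H : Type*} [Group G] [Group H] (e : G ≃* H)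
    (h : commutator G = ⊤) : commutator H = ⊤ := by
  have h1 : Subgroup.map e.toMonoidHom (⊤ : Subgroup G) = ⊤ :=
    Subgroup.map_top_of_surjective _ e.surjective
  rw [commutator_def] at h ⊢
  have h2 := Subgroup.map_commutator (⊤ : Subgroup G) ⊤ e.toMonoidHom
  rw [h, h1] at h2
  exact h2.symm

theorem KPerfect_of {F : Type*} [Field F] [Finite F] {V : Type u} [AddCommGroup V] [Module F V]
    [FiniteDimensional F V] (B : LinearMap.BilinForm F V) {m q : ℕ} (S : Setting B m q)
    (hm : 2 ≤ m) (hq : 3 ≤ q) (hexc : ¬ (m = 2 ∧ q = 3)) {v v' : V} (hvv : B v v' = 1) :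
    KPerfect B v v' := by
  have hB := S.alt
  have hBW := restrict_isAlt B hB v v'
  have hNW := Wsub_restrict_nondeg B hB hvv S.nondeg
  have hdimW : Module.finrank F ↥(Wsub B v v') + 2 = 2 * m := by
    rw [← S.dim]
    exact finrank_Wsub_add_two B hB hvv
  -- every transvection of `W` is a commutator
  have hstv : ∀ (w : ↥(Wsub B v v')) (c : F), stv (B.restrict (Wsub B v v')) hBW w c ∈
      ⁅isoGroup (B.restrict (Wsub B v v')), isoGroup (B.restrict (Wsub B v v'))⁆ := by
    intro w c
    by_cases hq3 : q = 3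
    · have hm3 : 3 ≤ m := by
        by_contra hcon
        exact hexc ⟨by omega, hq3⟩
      have h2 : (2 : F) ≠ 0 := two_ne_zero_of_card_three (by rw [S.card, hq3])
      exact stv_mem_comm_B (B.restrict (Wsub B v v')) hBW hNW h2 (by omega) w c
    · obtain ⟨a, ha0, ha1⟩ := exists_sq_ne_one (F := F) (by rw [S.card]; omega)
      exact stv_mem_comm_A (B.restrict (Wsub B v v')) hBW hNW ha0 ha1 w c
  have hperfW : isoGroup (B.restrict (Wsub B v v')) ≤
      ⁅isoGroup (B.restrict (Wsub B v v')), isoGroup (B.restrict (Wsub B v v'))⁆ :=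
    isoGroup_le_of_stv_mem (B.restrict (Wsub B v v')) hBW hNW _ hstv
  have h1 : commutator ↥(isoGroup (B.restrict (Wsub B v v'))) = ⊤ :=
    commutator_subtype_eq_top _ hperfW
  obtain ⟨e, -⟩ := Kiso B hB hvv
  have h2 : commutator ↥(Kv B v v') = ⊤ := commutator_eq_top_of_mulEquiv e.symm h1
  -- back to subgroups of `V ≃ₗ V`
  show Kv B v v' ≤ ⁅Kv B v v', Kv B v v'⁆
  rw [← Subgroup.map_subtype_commutator, h2, ← MonoidHom.range_eq_map, Subgroup.range_subtype]

end Cfsg.Agent.Lib.Helper58_MISp_PERF
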