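import Mathlib
import Cfsg.Agent.Lib.Helper66_MI_SpDefs

set_option autoImplicit false
set_option linter.unusedVariables false
set_option linter.unusedSimpArgs false
set_option linter.unusedSectionVars false

/-!
# S2141 (MISp, architect helper66), package PTS: the point stabiliser `P_v` has index
`N_m = (q^(2m) - 1)/(q - 1)` in `Sp`.
-/

namespace Cfsg.Agent.Lib.Helper58_MISp_PTS

open Cfsg.Agent.Lib.Helper94_Symp Cfsg.Agent.Lib.Helper94_SympTI
  Cfsg.Agent.Lib.Helper94_SympPerfect Cfsg.Agent.Lib.Helper66_MI_SpDefs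

variable {F V : Type*} [Field F] [AddCommGroup V] [Module F V]
variable (B : LinearMap.BilinForm F V)

/-- the number of nonzero elements -/
theorem ncard_ne_zero {α : Type*} [Finite α] [Zero α] : {x : α | x ≠ 0}.ncard = Nat.card α - 1 := by
  have h : {x : α | x ≠ 0} = ({0} : Set α)ᶜ := by
    ext x
    simp
  rw [h, Set.ncard_compl, Set.ncard_singleton]

theorem relIndex_Pv [Finite F] [FiniteDimensional F V] {m q : ℕ} (S : Setting B m q) (hm : 1 ≤ m)
    {v : V} (hv : v ≠ 0) : (Pv B v).relIndex (isoGroup B) = Npts m q := by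
  classical
  have hB := S.alt
  have hfinV : Finite V := Module.finite_of_finite F
  obtain ⟨Gv, hGv⟩ : ∃ Gv : Subgroup (V ≃ₗ[F] V),
      Gv = isoGroup B ⊓ MulAction.stabilizer (V ≃ₗ[F] V) v := ⟨_, rfl⟩
  have hmemGv : ∀ g : V ≃ₗ[F] V, g ∈ Gv ↔ g ∈ isoGroup B ∧ g v = v := by
    intro g
    rw [hGv, Subgroup.mem_inf, MulAction.mem_stabilizer_iff, LinearEquiv.smul_def]
  have h1 : Gv ≤ Pv B v := fun g hg =>
    ⟨((hmemGv g).1 hg).1, 1, one_ne_zero, by rw [one_smul]; exact ((hmemGv g).1 hg).2⟩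
  have h2 : Pv B v ≤ isoGroup B := Pv_le B v
  have key := Subgroup.relIndex_mul_relIndex Gv (Pv B v) (isoGroup B) h1 h2
  -- relative index of the vector stabiliser = size of the orbit
  have hrel : ∀ K : Subgroup (V ≃ₗ[F] V), K ≤ isoGroup B →
      Gv.relIndex K = (MulAction.orbit ↥K v).ncard := by
    intro K hK
    rw [← MulAction.index_stabilizer, Subgroup.relIndex]
    congr 1
    ext x
    rw [Subgroup.mem_subgroupOf, MulAction.mem_stabilizer_iff, hmemGv, Subgroup.smul_def,
      LinearEquiv.smul_def]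
    exact ⟨fun hx => hx.2, fun hx => ⟨hK x.2, hx⟩⟩
  -- the two orbits
  have horbG : MulAction.orbit ↥(isoGroup B) v = {x : V | x ≠ 0} := by
    ext x
    rw [MulAction.mem_orbit_iff]
    show _ ↔ x ≠ 0
    constructor
    · rintro ⟨g, rfl⟩
      rw [Subgroup.smul_def, LinearEquiv.smul_def]
      exact fun h => hv ((LinearEquiv.map_eq_zero_iff _).1 h)
    · intro hx
      obtain ⟨g, hg, hgv⟩ := exists_iso_move B hB S.nondeg hv hx
      exact ⟨⟨g, hg⟩, hgv⟩
  have horbP : MulAction.orbit ↥(Pv B v) v = (fun c : F => c • v) '' {c : F | c ≠ 0} := by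
    ext x
    rw [MulAction.mem_orbit_iff, Set.mem_image]
    constructor
    · rintro ⟨g, rfl⟩
      obtain ⟨c, hc, hgc⟩ := g.2.2
      exact ⟨c, hc, hgc.symm⟩
    · rintro ⟨c, hc, rfl⟩
      have hcv : c • v ≠ 0 := smul_ne_zero hc hv
      obtain ⟨g, hg, hgv⟩ := exists_iso_move B hB S.nondeg hv hcv
      exact ⟨⟨g, hg, c, hc, hgv⟩, hgv⟩
  have hinj : Function.Injective (fun c : F => c • v) := fun a b hab => smul_left_injective F hv hab
  have hcardV : Nat.card V = q ^ (2 * m) := by
    rw [Module.natCard_eq_pow_finrank (K := F) (V := V), S.card, S.dim]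
  have hnG : Gv.relIndex (isoGroup B) = q ^ (2 * m) - 1 := by
    rw [hrel _ le_rfl, horbG, ncard_ne_zero, hcardV]
  have hnP : Gv.relIndex (Pv B v) = q - 1 := by
    rw [hrel _ h2, horbP, Set.ncard_image_of_injective _ hinj, ncard_ne_zero, S.card]
  rw [hnG, hnP] at key
  have hq2 : 2 ≤ q := by
    rw [← S.card]
    exact Finite.one_lt_card
  unfold Npts
  exact (Nat.div_eq_of_eq_mul_right (by omega) key.symm).symm

end Cfsg.Agent.Lib.Helper58_MISp_PTS
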