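import Mathlib
import Cfsg.Agent.Lib.Helper72_MinIdxDefs

/-!
# MI-R1A core (helper58, for helper72, S2140): in configuration R1, `q - 1` divides `n`

`R1_dvd_of` is `R1_dvd` with MI-FACT (`exists_axis_mul_mem`) and MI-AX (`mem_axisGrp_of_fix`) as
hypotheses (central element trick).
-/

set_option autoImplicit false
set_option linter.style.haveILetI false
set_option linter.unusedVariables false
set_option linter.unusedSimpArgs false

namespace Cfsg.Agent.Lib.Helper58_MI_R1Acore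

open Module Cfsg.Agent.Lib.Helper72_MinIdxDefs

variable {F : Type*} [Field F] {V : Type*} [AddCommGroup V] [Module F V]

/-- the linear map `x ↦ μ x + (l - μ) φ(x) e`. -/
noncomputable def zl (φ : Dual F V) (e : V) (μ l : F) : V →ₗ[F] V :=
  μ • LinearMap.transvection (((l - μ) / μ) • φ) e

theorem zl_apply (φ : Dual F V) (e : V) (μ l : F) (hμ : μ ≠ 0) (x : V) :
    zl φ e μ l x = μ • x + ((l - μ) * φ x) • e := by
  simp only [zl, LinearMap.smul_apply, LinearMap.transvection.apply, smul_add, smul_smul,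
    smul_eq_mul]
  congr 2
  field_simp

theorem det_zl [Module.Finite F V] (φ : Dual F V) (e : V) (he : φ e = 1) (μ : F) (hμ : μ ≠ 0) :
    LinearMap.det (zl φ e μ (μ * (μ ^ finrank F V)⁻¹)) = 1 := by
  have hp := pow_ne_zero (finrank F V) hμ
  rw [zl, LinearMap.det_smul, LinearMap.transvection.det, LinearMap.smul_apply, he, smul_eq_mul]
  field_simp
  ring

/-- the element `x ↦ μ x + (l - μ) φ(x) e` of `SL(V)`, `l = μ / μ^n`. -/
noncomputable def zz [Module.Finite F V] (φ : Dual F V) (e : V) (he : φ e = 1) (μ : F)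
    (hμ : μ ≠ 0) : SpecialLinearGroup F V :=
  ⟨LinearMap.equivOfIsUnitDet (f := zl φ e μ (μ * (μ ^ finrank F V)⁻¹))
      (by rw [det_zl φ e he μ hμ]; exact isUnit_one), by
    apply Units.ext
    rw [LinearEquiv.coe_det, LinearMap.coe_equivOfIsUnitDet, det_zl φ e he μ hμ]
    rfl⟩

theorem zz_apply [Module.Finite F V] (φ : Dual F V) (e : V) (he : φ e = 1) (μ : F)
    (hμ : μ ≠ 0) (x : V) :
    zz φ e he μ hμ x = μ • x + ((μ * (μ ^ finrank F V)⁻¹ - μ) * φ x) • e := by
  have h := LinearMap.equivOfIsUnitDet_apply (f := zl φ e μ (μ * (μ ^ finrank F V)⁻¹))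
    (by rw [det_zl φ e he μ hμ]; exact isUnit_one) x
  rw [zl_apply _ _ _ _ hμ] at h
  exact h

/-- MI-R1A with MI-FACT and MI-AX as hypotheses. -/
theorem R1_dvd_of [Fintype F] [Module.Finite F V] (hn : 3 ≤ finrank F V)
    (H : Subgroup (SpecialLinearGroup F V))
    (hno : ∀ (φ : Dual F V) (w : V) (h : φ w = 0), tv φ w h ∈ H → tv φ w h = 1)
    (hfact : ∀ φ : Dual F V, φ ≠ 0 → ∀ g : SpecialLinearGroup F V,
      ∃ (w : V) (h : φ w = 0), tv φ w h * g ∈ H)
    (hax : ∀ φ : Dual F V, φ ≠ 0 → ∀ g : SpecialLinearGroup F V,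
      (∀ x : V, φ x = 0 → g x = x) → g ∈ axisGrp φ) :
    (Fintype.card F - 1) ∣ finrank F V := by
  classical
  by_contra hdvd
  -- a scalar `μ` with `μ ^ n ≠ 1`
  obtain ⟨μ, hμ0, hμn⟩ : ∃ μ : F, μ ≠ 0 ∧ μ ^ finrank F V ≠ 1 := by
    obtain ⟨g, hg⟩ := IsCyclic.exists_generator (α := Fˣ)
    refine ⟨(g : F), g.ne_zero, ?_⟩
    intro h
    apply hdvd
    have h1 : g ^ finrank F V = 1 := by
      apply Units.ext
      rw [Units.val_pow_eq_pow_val, h, Units.val_one]
    have h2 := orderOf_dvd_of_pow_eq_one h1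
    rwa [orderOf_eq_card_of_forall_mem_zpowers hg, Nat.card_eq_fintype_card,
      Fintype.card_units] at h2
  obtain ⟨l, hl⟩ : ∃ l : F, l = μ * (μ ^ finrank F V)⁻¹ := ⟨_, rfl⟩
  have hlμ : l ≠ μ := by
    intro h
    apply hμn
    have h1 : μ * (μ ^ finrank F V)⁻¹ = μ * 1 := by rw [mul_one, ← hl]; exact h
    have h2 := mul_left_cancel₀ hμ0 h1
    rwa [inv_eq_one] at h2
  have hlμ' : l - μ ≠ 0 := sub_ne_zero.mpr hlμ
  -- `φ ≠ 0`, `e` with `φ e = 1`
  obtain ⟨v, hv⟩ : ∃ v : V, v ≠ 0 := by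
    haveI : Nontrivial V := Module.nontrivial_of_finrank_pos (R := F) (by omega)
    exact exists_ne 0
  obtain ⟨φ, hφv⟩ : ∃ φ : Dual F V, φ v ≠ 0 := by
    by_contra h
    push Not at h
    exact hv ((Module.forall_dual_apply_eq_zero_iff F v).mp h)
  have hφ : φ ≠ 0 := fun h => hφv (by rw [h]; rfl)
  obtain ⟨e, he⟩ : ∃ e : V, φ e = 1 :=
    ⟨(φ v)⁻¹ • v, by rw [map_smul, smul_eq_mul, inv_mul_cancel₀ hφv]⟩
  have hzz : ∀ (e : V) (he : φ e = 1) (x : V),
      zz φ e he μ hμ0 x = μ • x + ((l - μ) * φ x) • e := by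
    intro e he x
    rw [zz_apply, hl]
  -- step 1: an element of `H` of the shape `zz φ e'`
  obtain ⟨e', he', hz⟩ : ∃ (e' : V) (he' : φ e' = 1), zz φ e' he' μ hμ0 ∈ H := by
    obtain ⟨w₀, hw₀, hmem⟩ := hfact φ hφ (zz φ e he μ hμ0)
    have he'' : φ (e + ((l - μ)⁻¹ * l) • w₀) = 1 := by
      rw [map_add, map_smul, hw₀, smul_zero, add_zero, he]
    refine ⟨e + ((l - μ)⁻¹ * l) • w₀, he'', ?_⟩
    convert hmem using 1
    apply SpecialLinearGroup.ext
    intro x
    rw [mul_apply', tv_apply, hzz, hzz]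
    have h1 : φ (μ • x + ((l - μ) * φ x) • e) = l * φ x := by
      rw [map_add, map_smul, map_smul, he, smul_eq_mul, smul_eq_mul, mul_one]
      ring
    have h2 : ((l - μ) * φ x) • (((l - μ)⁻¹ * l) • w₀) = (l * φ x) • w₀ := by
      rw [smul_smul]
      congr 1
      field_simp
    rw [h1, smul_add, h2, add_assoc]
  -- step 2: `u ∈ ker φ`, `u ≠ 0`, and `ψ ≠ 0` vanishing at `u` and `e'`
  have hker : 2 ≤ finrank F (LinearMap.ker φ) := by
    have h1 := LinearMap.finrank_range_add_finrank_ker φ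
    have h2 : finrank F (LinearMap.range φ) ≤ 1 := by
      have := Submodule.finrank_le (LinearMap.range φ)
      rwa [finrank_self] at this
    omega
  obtain ⟨u, huW, hu0⟩ : ∃ u ∈ LinearMap.ker φ, u ≠ 0 := by
    apply Submodule.exists_mem_ne_zero_of_ne_bot
    intro h
    rw [h, finrank_bot] at hker
    omega
  have hφu : φ u = 0 := LinearMap.mem_ker.mp huW
  obtain ⟨ψ, hψ0, hψ⟩ : ∃ ψ : Dual F V, ψ ≠ 0 ∧
      (Submodule.span F ({u, e'} : Set V)).map ψ = ⊥ := by
    apply Submodule.exists_dual_map_eq_bot_of_lt_top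
    · rw [lt_top_iff_ne_top]
      intro h
      have h1 : finrank F (Submodule.span F ((({u, e'} : Finset V)) : Set V)) ≤ 2 :=
        (finrank_span_finset_le_card _).trans Finset.card_le_two
      rw [Finset.coe_pair, h, finrank_top] at h1
      omega
    · infer_instance
  have hψu : ψ u = 0 := by
    have : ψ u ∈ (Submodule.span F ({u, e'} : Set V)).map ψ :=
      Submodule.mem_map_of_mem (Submodule.subset_span (by simp))
    rwa [hψ, Submodule.mem_bot] at this
  have hψe : ψ e' = 0 := by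
    have : ψ e' ∈ (Submodule.span F ({u, e'} : Set V)).map ψ :=
      Submodule.mem_map_of_mem (Submodule.subset_span (by simp))
    rwa [hψ, Submodule.mem_bot] at this
  -- step 3: `t = tv φ w₂ * tv ψ u ∈ H` commutes with `z`
  obtain ⟨w₂, hw₂, ht⟩ := hfact φ hφ (tv ψ u hψu)
  obtain ⟨z, hzdef⟩ : ∃ z : SpecialLinearGroup F V, z = zz φ e' he' μ hμ0 := ⟨_, rfl⟩
  obtain ⟨t, htdef⟩ : ∃ t : SpecialLinearGroup F V, t = tv φ w₂ hw₂ * tv ψ u hψu := ⟨_, rfl⟩
  rw [← hzdef] at hz
  rw [← htdef] at ht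
  have hz_apply : ∀ x, z x = μ • x + ((l - μ) * φ x) • e' := fun x => by
    rw [hzdef, hzz]
  have ht_apply : ∀ x, t x = x + ψ x • u + φ x • w₂ := by
    intro x
    rw [htdef, mul_apply', tv_apply, tv_apply, map_add, map_smul, hφu, smul_zero, add_zero]
  have hcomm : z * t = t * z := by
    have hg : (t * z)⁻¹ * (z * t) ∈ H :=
      H.mul_mem (H.inv_mem (H.mul_mem ht hz)) (H.mul_mem hz ht)
    have hfix : ∀ x : V, φ x = 0 → ((t * z)⁻¹ * (z * t)) x = x := by
      intro x hx
      have h1 : (z * t) x = (t * z) x := by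
        rw [mul_apply', mul_apply', ht_apply, hz_apply, hz_apply, hx, ht_apply]
        simp only [map_add, map_smul, hx, hφu, hψu, smul_zero, zero_smul, add_zero, mul_zero,
          smul_eq_mul, smul_add, smul_smul]
      rw [mul_apply', h1, inv_apply_self']
    obtain ⟨w, hw, hgw⟩ := hax φ hφ _ hfix
    have h1 := hno φ w hw (hgw ▸ hg)
    rw [← hgw] at h1
    exact (inv_mul_eq_one.mp h1).symm
  -- step 4: evaluate at `e'`
  have hte : t e' = e' + w₂ := by
    rw [ht_apply, hψe, he', zero_smul, add_zero, one_smul]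
  have hze : z e' = l • e' := by
    rw [hz_apply, he', mul_one, ← add_smul]
    congr 1
    ring
  have hzt : z (e' + w₂) = l • e' + μ • w₂ := by
    rw [hz_apply, map_add, he', hw₂, add_zero, mul_one, smul_add, sub_smul]
    abel
  have htl : t (l • e') = l • e' + l • w₂ := by
    rw [map_smul', hte, smul_add]
  have hfin : (z * t) e' = (t * z) e' := by rw [hcomm]
  rw [mul_apply', mul_apply', hte, hze, hzt, htl] at hfin
  have hw₂0 : w₂ = 0 := by
    have h1 : μ • w₂ = l • w₂ := add_left_cancel hfin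
    have h2 : (l - μ) • w₂ = 0 := by rw [sub_smul, h1, sub_self]
    exact (smul_eq_zero.mp h2).resolve_left hlμ'
  have htv : t = tv ψ u hψu := by
    apply SpecialLinearGroup.ext
    intro x
    rw [ht_apply, hw₂0, smul_zero, add_zero, tv_apply]
  rw [htv] at ht
  have h1 := hno ψ u hψu ht
  exact hu0 (tv_injective hψ0 hψu (map_zero ψ) (h1.trans (tv_zero_right ψ).symm))

end Cfsg.Agent.Lib.Helper58_MI_R1Acore
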