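import Mathlib
import Cfsg.Agent.Lib.Helper72_MinIdxDefs
import Cfsg.Agent.Lib.Helper72_MI_R1BCore
import Cfsg.Agent.Lib.Helper47_MI_FACT
import Cfsg.Agent.Lib.Helper47_MI_AX
import Cfsg.Agent.Lib.Helper58_MI_R1Acore

/-!
# MI-R1A (helper58, for helper72, S2140): in configuration R1, `q - 1` divides `n`

Verbatim wrapper of `Helper58_MI_R1Acore.R1_dvd_of` over helper47's MI-FACT and MI-AX.
-/

set_option autoImplicit false

namespace Cfsg.Agent.Lib.Helper58_MI_R1A

open Module Cfsg.Agent.Lib.Helper72_MinIdxDefs Cfsg.Agent.Lib.Helper72_MI_R1BCore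

variable {F : Type*} [Field F] {V : Type*} [AddCommGroup V] [Module F V]

theorem R1_dvd [Fintype F] [Module.Finite F V] (hn : 3 ≤ finrank F V)
    (H : Subgroup (SpecialLinearGroup F V))
    (hidx : H.index = Fintype.card F ^ (finrank F V - 1))
    (hno : ∀ (φ : Dual F V) (w : V) (h : φ w = 0), tv φ w h ∈ H → tv φ w h = 1) :
    (Fintype.card F - 1) ∣ finrank F V :=
  Cfsg.Agent.Lib.Helper58_MI_R1Acore.R1_dvd_of hn H hno
    (fun φ hφ g => Cfsg.Agent.Lib.Helper47_MI_FACT.exists_axis_mul_mem H hidx hno φ hφ g)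
    (fun φ hφ g hg => Cfsg.Agent.Lib.Helper47_MI_AX.mem_axisGrp_of_fix φ hφ g hg)

end Cfsg.Agent.Lib.Helper58_MI_R1A
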