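import Cfsg.Agent.Lib.Helper6_MXDefs

/-!
# MX-D5A (S4017, architect helper6): in Case I the product of `t ∈ Q \ {1}` with an involution
outside `N(Q)` is a `p`-element.
-/

set_option autoImplicit false
open Cfsg.Agent.Lib.Helper6_MXDefs

namespace Cfsg.Agent.Lib.Helper58_MX_D5A

variable {G : Type*} [Group G] [Finite G] {p a : ℕ} {Q : Subgroup G} {x : G}

omit [Finite G] in
/-- an element inverted by `t` has its powers inverted by `t` -/
theorem h58_inv_pow {t y : G} (h : t * y * t⁻¹ = y⁻¹) (n : ℕ) :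
    t * y ^ n * t⁻¹ = (y ^ n)⁻¹ := by
  have : t * y ^ n * t⁻¹ = (t * y * t⁻¹) ^ n := by
    rw [conj_pow]
  rw [this, h, inv_pow]

/-- (i): an odd prime `s ≠ p` does not divide the order of `y` inverted by the involution `t`. -/
theorem h58_no_odd (h : Ctx G p a Q x) (F : Facts G p a Q x) {t y : G} (ht2 : orderOf t = 2)
    (hinv : t * y * t⁻¹ = y⁻¹) {s : ℕ} (hs : s.Prime) (hsk : s ∣ orderOf y) (hs2 : s ≠ 2)
    (hsp : s ≠ p) : False := by
  have hk0 : 0 < orderOf y := orderOf_pos y
  obtain ⟨m, hm⟩ := hsk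
  have hm0 : 0 < m := by
    rcases Nat.eq_zero_or_pos m with h0 | h0
    · rw [h0, mul_zero] at hm; omega
    · exact h0
  obtain ⟨y', hy'⟩ : ∃ y', y' = y ^ m := ⟨_, rfl⟩
  have hy'ord : orderOf y' = s := by
    rw [hy', orderOf_pow' y (by omega : m ≠ 0), hm, Nat.gcd_eq_right (Dvd.intro_left s rfl),
      Nat.mul_div_cancel _ hm0]
  have hy'inv : t * y' * t⁻¹ = y'⁻¹ := by rw [hy']; exact h58_inv_pow hinv m
  have hy'1 : y' ≠ 1 := by
    intro h1
    rw [h1, orderOf_one] at hy'ord
    exact hs.one_lt.ne hy'ord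
  -- K := zpowers y'
  have hKbot : Subgroup.zpowers y' ≠ ⊥ := by
    intro hb
    exact hy'1 (Subgroup.zpowers_eq_bot.mp hb)
  have hKcard : Nat.card (Subgroup.zpowers y') = s := by
    rw [Nat.card_zpowers, hy'ord]
  have hKtop : Subgroup.zpowers y' ≠ ⊤ := by
    intro htop
    have htK : t ∈ Subgroup.zpowers y' := by rw [htop]; trivial
    have hd : orderOf t ∣ Nat.card (Subgroup.zpowers y') := by
      have := Subgroup.orderOf_dvd_natCard (Subgroup.zpowers y') htK
      exact this
    rw [ht2, hKcard] at hd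
    exact hs2 ((Nat.prime_dvd_prime_iff_eq Nat.prime_two hs).mp hd).symm
  have hNne := F.norm_ne _ hKbot hKtop
  have htN : t ∈ Subgroup.normalizer ((Subgroup.zpowers y' : Subgroup G) : Set G) := by
    rw [Subgroup.mem_normalizer_iff]
    intro g
    have key : ∀ t' : G, t' * y' * t'⁻¹ = y'⁻¹ → ∀ g : G, g ∈ Subgroup.zpowers y' →
        t' * g * t'⁻¹ ∈ Subgroup.zpowers y' := by
      intro t' ht' g hg
      obtain ⟨n, rfl⟩ := Subgroup.mem_zpowers_iff.mp hg
      have : t' * y' ^ n * t'⁻¹ = (t' * y' * t'⁻¹) ^ n := by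
        rw [conj_zpow]
      rw [this, ht']
      exact Subgroup.zpow_mem _ (Subgroup.inv_mem _ (Subgroup.mem_zpowers y')) n
    constructor
    · exact key t hy'inv g
    · intro hg
      have ht'' : t⁻¹ * y' * t⁻¹⁻¹ = y'⁻¹ := by
        have h1 : y' = t⁻¹ * y'⁻¹ * t := by rw [← hy'inv]; group
        rw [inv_inv]
        calc t⁻¹ * y' * t = (t⁻¹ * y'⁻¹ * t)⁻¹ := by group
          _ = y'⁻¹ := by rw [← h1]
      have := key t⁻¹ ht'' _ hg
      have e : t⁻¹ * (t * g * t⁻¹) * t⁻¹⁻¹ = g := by group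
      rwa [e] at this
  have hyN : y' ∈ Subgroup.normalizer ((Subgroup.zpowers y' : Subgroup G) : Set G) :=
    Subgroup.le_normalizer (Subgroup.mem_zpowers y')
  have h2 : 2 ∣ Nat.card (Subgroup.normalizer ((Subgroup.zpowers y' : Subgroup G) : Set G)) := by
    have := Subgroup.orderOf_dvd_natCard _ htN
    rwa [ht2] at this
  have hsd : s ∣ Nat.card (Subgroup.normalizer ((Subgroup.zpowers y' : Subgroup G) : Set G)) := by
    have := Subgroup.orderOf_dvd_natCard _ hyN
    rwa [hy'ord] at this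
  rcases h.even _ hNne h2 s hs hsd with h' | h'
  · exact hs2 h'
  · exact hsp h'

omit [Finite G] in
/-- `CentQ Q g` implies `g ∈ N(Q)` -/
theorem h58_centQ_mem_NQ {Q : Subgroup G} {g : G} (hg : CentQ Q g) : g ∈ NQ Q := by
  rw [Subgroup.mem_normalizer_iff]
  intro v
  constructor
  · intro hv
    have : g * v * g⁻¹ = v := by rw [hg v hv]; group
    rw [this]; exact hv
  · intro hv
    have h1 := hg _ hv
    have : v = g * v * g⁻¹ := by
      have h2 : g * (g * v * g⁻¹) = g * v := by rw [h1]; group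
      exact (mul_left_cancel h2).symm
    rw [this]; exact hv

/-- MX-D5A. -/
theorem caseI_prod (hC : UConj G p a) (hF : UFacts G p a) (hD1 : D1Prop G p a)
    (hD2 : D2Prop G p a) : D5aProp G p a := by
  intro Q x h hI t htQ ht1 u hu2 huN
  have F := hF Q x h
  have htt : t * t = 1 := F.elem.1 t htQ
  have ht2 : orderOf t = 2 := by
    have : t ^ 2 = 1 := by rw [pow_two]; exact htt
    exact orderOf_eq_prime this ht1
  have huu : u * u = 1 := by
    have := pow_orderOf_eq_one u
    rwa [hu2, pow_two] at this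
  have htinv : t⁻¹ = t := inv_eq_of_mul_eq_one_right htt
  have huinv : u⁻¹ = u := inv_eq_of_mul_eq_one_right huu
  have hu1 : u ≠ 1 := by
    intro h1; rw [h1, orderOf_one] at hu2; omega
  obtain ⟨y, hy⟩ : ∃ y, y = t * u := ⟨_, rfl⟩
  have hyinv : y⁻¹ = u * t := by rw [hy, mul_inv_rev, htinv, huinv]
  have hty : t * y * t⁻¹ = y⁻¹ := by
    rw [hyinv, hy, htinv, ← mul_assoc, htt, one_mul]
  have huy : u * y * u⁻¹ = y⁻¹ := by
    rw [hyinv, hy, huinv, mul_assoc, mul_assoc, huu, mul_one]
  rw [← hy]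
  -- all prime divisors of `orderOf y` equal `p`
  have hprimes : ∀ {d : ℕ}, d.Prime → d ∣ orderOf y → d = p := by
    intro d hd hdk
    by_contra hdp
    by_cases hd2 : d = 2
    · -- (ii)
      subst hd2
      obtain ⟨m, hm⟩ := hdk
      have hk0 : 0 < orderOf y := orderOf_pos y
      have hm0 : 0 < m := by
        rcases Nat.eq_zero_or_pos m with h0 | h0
        · rw [h0, mul_zero] at hm; omega
        · exact h0
      obtain ⟨z, hz⟩ : ∃ z, z = y ^ m := ⟨_, rfl⟩
      have hzord : orderOf z = 2 := by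
        rw [hz, orderOf_pow' y (by omega : m ≠ 0), hm, Nat.gcd_eq_right (Dvd.intro_left 2 rfl),
          Nat.mul_div_cancel _ hm0]
      have hzz : z * z = 1 := by
        have := pow_orderOf_eq_one z
        rwa [hzord, pow_two] at this
      have hzinv : z⁻¹ = z := inv_eq_of_mul_eq_one_right hzz
      have hz1 : z ≠ 1 := by
        intro h1; rw [h1, orderOf_one] at hzord; omega
      have htz : t * z = z * t := by
        have := h58_inv_pow hty m
        rw [← hz, hzinv] at this
        calc t * z = t * z * t⁻¹ * t := by group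
          _ = z * t := by rw [this]
      have huz : u * z = z * u := by
        have := h58_inv_pow huy m
        rw [← hz, hzinv] at this
        calc u * z = u * z * u⁻¹ * u := by group
          _ = z * u := by rw [this]
      obtain ⟨c, hc⟩ := F.syl z ⟨1, by rw [pow_one, pow_two]; exact hzz⟩
      -- the conjugate context
      have h' := hC Q x h c⁻¹
      have F' := hF _ _ h'
      obtain ⟨w, hw1, hwp, hwc⟩ := hI
      have hmemQ' : ∀ g : G, c * g * c⁻¹ ∈ Q → g ∈ Q.map (MulAut.conj c⁻¹).toMonoidHom := by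
        intro g hg
        refine Subgroup.mem_map.mpr ⟨c * g * c⁻¹, hg, ?_⟩
        simp only [MulEquiv.toMonoidHom_eq_coe, MonoidHom.coe_coe, MulAut.conj_apply, inv_inv]
        group
      have hQ'mem : ∀ g : G, g ∈ Q.map (MulAut.conj c⁻¹).toMonoidHom → c * g * c⁻¹ ∈ Q := by
        intro g hg
        obtain ⟨q, hq, rfl⟩ := Subgroup.mem_map.mp hg
        simp only [MulEquiv.toMonoidHom_eq_coe, MonoidHom.coe_coe, MulAut.conj_apply, inv_inv]
        have : c * (c⁻¹ * q * c) * c⁻¹ = q := by group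
        rw [this]; exact hq
      have hI' : HI p (Q.map (MulAut.conj c⁻¹).toMonoidHom) := by
        refine ⟨c⁻¹ * w * c, ?_, ?_, ?_⟩
        · intro h1
          apply hw1
          have : w = c * (c⁻¹ * w * c) * c⁻¹ := by group
          rw [this, h1]; group
        · obtain ⟨k, hk⟩ := hwp
          refine ⟨k, ?_⟩
          have : (c⁻¹ * w * c) ^ p ^ k = c⁻¹ * w ^ p ^ k * c := by
            have := conj_pow (a := c⁻¹) (b := w) (i := p ^ k)
            rw [inv_inv] at this
            exact this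
          rw [this, hk]; group
        · intro v hv
          have hq := hQ'mem v hv
          have h1 := hwc _ hq
          -- w * (c v c⁻¹) = (c v c⁻¹) * w
          calc c⁻¹ * w * c * v = c⁻¹ * (w * (c * v * c⁻¹)) * c := by group
            _ = c⁻¹ * ((c * v * c⁻¹) * w) * c := by rw [h1]
            _ = v * (c⁻¹ * w * c) := by group
      have hzQ' : z ∈ Q.map (MulAut.conj c⁻¹).toMonoidHom := hmemQ' z hc
      have hct : CentQ (Q.map (MulAut.conj c⁻¹).toMonoidHom) t :=
        hD1 _ _ h' hI' z hzQ' hz1 t htz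
      have hcu : CentQ (Q.map (MulAut.conj c⁻¹).toMonoidHom) u :=
        hD1 _ _ h' hI' z hzQ' hz1 u huz
      have htQ' : t ∈ Q.map (MulAut.conj c⁻¹).toMonoidHom :=
        F'.twoN t (h58_centQ_mem_NQ hct) ⟨1, by rw [pow_one, pow_two]; exact htt⟩
      have huQ' : u ∈ Q.map (MulAut.conj c⁻¹).toMonoidHom :=
        F'.twoN u (h58_centQ_mem_NQ hcu) ⟨1, by rw [pow_one, pow_two]; exact huu⟩
      have hcN : c ∈ NQ Q := hD2 Q x h ⟨w, hw1, hwp, hwc⟩ c t htQ ht1 (hQ'mem t htQ')
      have huQ : u ∈ Q := by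
        have := (Subgroup.mem_normalizer_iff.mp hcN u).mpr (hQ'mem u huQ')
        exact this
      exact huN (Subgroup.le_normalizer huQ)
    · exact h58_no_odd h F ht2 hty hd hdk hd2 hdp
  have hk0 : orderOf y ≠ 0 := (orderOf_pos y).ne'
  have hpow := Nat.eq_prime_pow_of_unique_prime_dvd hk0 hprimes
  refine ⟨(orderOf y).primeFactorsList.length, ?_⟩
  rw [← hpow]
  exact pow_orderOf_eq_one y

end Cfsg.Agent.Lib.Helper58_MX_D5A
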