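import Mathlib
import Cfsg.Prelude.Def_Solvable

set_option autoImplicit false
set_option linter.style.haveILetI false

/-!
Normal abelian / nilpotent subgroups of a faithful primitive group `H` acting on `Δ`:
they are regular, self-centralizing, unique and elementary abelian.
-/

namespace Cfsg.Agent.Lib.Helper58_PrimNormal

open MulAction

variable {H : Type*} [Group H] {Δ : Type*} [MulAction H Δ]

/-- A nontrivial normal subgroup of a faithful primitive group is transitive. -/
theorem normal_transitive [FaithfulSMul H Δ] [IsPreprimitive H Δ] (N : Subgroup H) [N.Normal]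
    (hN : N ≠ ⊥) (δ δ' : Δ) : ∃ n ∈ N, n • δ = δ' := by
  have hfix : fixedPoints N Δ ≠ Set.univ := by
    intro hfix
    apply hN
    rw [eq_bot_iff]
    intro n hn
    rw [Subgroup.mem_bot]
    apply FaithfulSMul.eq_of_smul_eq_smul (α := Δ)
    intro x
    have hx : x ∈ fixedPoints N Δ := by rw [hfix]; exact Set.mem_univ _
    have := hx ⟨n, hn⟩
    rw [one_smul]
    exact this
  have htr := IsQuasiPreprimitive.isPretransitive_of_normal (G := H) (X := Δ) hfix
  obtain ⟨n, hn⟩ := htr.exists_smul_eq δ δ'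
  exact ⟨n.1, n.2, hn⟩

/-- A nontrivial abelian normal subgroup of a faithful primitive group is semiregular. -/
theorem abelian_semiregular [FaithfulSMul H Δ] [IsPreprimitive H Δ] (N : Subgroup H) [N.Normal]
    (hN : N ≠ ⊥) (hc : ∀ a ∈ N, ∀ b ∈ N, a * b = b * a) (n : H) (hn : n ∈ N) (δ : Δ)
    (h : n • δ = δ) : n = 1 := by
  apply FaithfulSMul.eq_of_smul_eq_smul (α := Δ)
  intro x
  obtain ⟨n', hn', rfl⟩ := normal_transitive N hN δ x
  rw [one_smul, ← mul_smul, hc n hn n' hn', mul_smul, h]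

/-- A nontrivial abelian normal subgroup of a faithful primitive group contains its
centralizer. -/
theorem centralizer_le [FaithfulSMul H Δ] [IsPreprimitive H Δ] [Nonempty Δ] (N : Subgroup H)
    [N.Normal] (hN : N ≠ ⊥) (hc : ∀ a ∈ N, ∀ b ∈ N, a * b = b * a) (h : H)
    (hh : ∀ n ∈ N, h * n = n * h) : h ∈ N := by
  obtain ⟨δ⟩ := ‹Nonempty Δ›
  obtain ⟨n, hn, hnδ⟩ := normal_transitive N hN δ (h • δ)
  have hx : n⁻¹ * h = 1 := by
    apply FaithfulSMul.eq_of_smul_eq_smul (α := Δ)
    intro x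
    obtain ⟨n', hn', rfl⟩ := normal_transitive N hN δ x
    rw [one_smul, ← mul_smul, mul_assoc, hh n' hn', ← mul_assoc,
      hc n⁻¹ (N.inv_mem hn) n' hn', mul_assoc, mul_smul, mul_smul, ← hnδ, inv_smul_smul]
  have : h = n := by
    have := congrArg (fun z => n * z) hx
    simpa using this
  rw [this]; exact hn

/-- A faithful primitive group with a nontrivial centre has prime order. -/
theorem center_eq_bot [Finite H] [FaithfulSMul H Δ] [IsPreprimitive H Δ] [Nontrivial Δ]
    (hcard : ¬ (Nat.card H).Prime) : Subgroup.center H = ⊥ := by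
  by_contra hZ
  have hcZ : ∀ a ∈ Subgroup.center H, ∀ b ∈ Subgroup.center H, a * b = b * a :=
    fun a _ b hb => (Subgroup.mem_center_iff.mp hb a)
  have htop : ∀ h : H, h ∈ Subgroup.center H := fun h =>
    centralizer_le (Δ := Δ) (Subgroup.center H) hZ hcZ h (fun n hn => Subgroup.mem_center_iff.mp hn h)
  obtain ⟨δ⟩ := (inferInstance : Nonempty Δ)
  have hstab : stabilizer H δ = ⊥ := by
    rw [eq_bot_iff]
    intro x hx
    rw [Subgroup.mem_bot]
    exact abelian_semiregular (Subgroup.center H) hZ hcZ x (htop x) δ hx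
  have hco := IsPreprimitive.isCoatom_stabilizer_of_isPreprimitive (G := H) δ
  rw [hstab] at hco
  -- `H` is nontrivial
  have hnt : Nontrivial H := by
    by_contra hnt
    rw [not_nontrivial_iff_subsingleton] at hnt
    exact hco.1 (Subsingleton.elim _ _)
  have h1 : 1 < Nat.card H := Finite.one_lt_card
  obtain ⟨q, hq, hqd⟩ := Nat.exists_prime_and_dvd (Nat.ne_of_gt h1)
  haveI : Fact q.Prime := ⟨hq⟩
  obtain ⟨x, hx⟩ := exists_prime_orderOf_dvd_card' q hqd
  have hxne : Subgroup.zpowers x ≠ ⊥ := by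
    intro h0
    rw [Subgroup.zpowers_eq_bot] at h0
    rw [h0, orderOf_one] at hx
    exact hq.one_lt.ne hx
  have hxtop : Subgroup.zpowers x = ⊤ := hco.2 _ (bot_lt_iff_ne_bot.mpr hxne)
  apply hcard
  have : Nat.card H = q := by
    rw [← hx, ← Nat.card_zpowers, hxtop, Subgroup.card_top]
  rw [this]; exact hq

/-- A nilpotent normal subgroup of a faithful primitive group is abelian. -/
theorem nilpotent_normal_abelian [FaithfulSMul H Δ] [IsPreprimitive H Δ] [Nonempty Δ]
    (N : Subgroup H) [N.Normal] (hnil : Group.IsNilpotent N) :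
    ∀ a ∈ N, ∀ b ∈ N, a * b = b * a := by
  by_cases hN : N = ⊥
  · intro a ha b hb
    rw [hN, Subgroup.mem_bot] at ha hb
    rw [ha, hb]
  haveI : Nontrivial N := by
    rw [← not_subsingleton_iff_nontrivial]
    intro hs
    apply hN
    rw [eq_bot_iff]
    intro x hx
    have : (⟨x, hx⟩ : N) = 1 := Subsingleton.elim _ _
    rw [Subgroup.mem_bot]
    exact congrArg Subtype.val this
  haveI := hnil
  have hZne : Subgroup.center N ≠ ⊥ := Group.IsNilpotent.center_ne_bot N
  have hZne' : (Subgroup.center N).map N.subtype ≠ ⊥ := by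
    intro h0
    apply hZne
    rw [eq_bot_iff]
    intro z hz
    have : N.subtype z ∈ (Subgroup.center N).map N.subtype := Subgroup.mem_map_of_mem _ hz
    rw [h0, Subgroup.mem_bot] at this
    rw [Subgroup.mem_bot]
    exact Subtype.ext this
  have hZc : ∀ a ∈ (Subgroup.center N).map N.subtype, ∀ b ∈ (Subgroup.center N).map N.subtype,
      a * b = b * a := by
    rintro _ ⟨a, ha, rfl⟩ _ ⟨b, hb, rfl⟩
    have := Subgroup.mem_center_iff.mp hb a
    have h2 := congrArg Subtype.val this
    simpa using h2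
  have key : ∀ n ∈ N, n ∈ (Subgroup.center N).map N.subtype := by
    intro n hn
    apply centralizer_le (Δ := Δ) ((Subgroup.center N).map N.subtype) hZne' hZc n
    rintro _ ⟨z, hz, rfl⟩
    have := Subgroup.mem_center_iff.mp hz ⟨n, hn⟩
    have h2 := congrArg Subtype.val this
    simpa using h2
  intro a ha b hb
  exact hZc a (key a ha) b (key b hb)

/-- Two nontrivial abelian normal subgroups of a faithful primitive group: one is contained
in the other. -/
theorem abelian_normal_le [FaithfulSMul H Δ] [IsPreprimitive H Δ] [Nonempty Δ]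
    (N₁ N₂ : Subgroup H) [N₁.Normal] [N₂.Normal] (h₁ : N₁ ≠ ⊥) (h₂ : N₂ ≠ ⊥)
    (hc₁ : ∀ a ∈ N₁, ∀ b ∈ N₁, a * b = b * a) (hc₂ : ∀ a ∈ N₂, ∀ b ∈ N₂, a * b = b * a) :
    N₁ ≤ N₂ := by
  intro a ha
  by_cases hinf : N₁ ⊓ N₂ = ⊥
  · apply centralizer_le (Δ := Δ) N₂ h₂ hc₂ a
    intro b hb
    have hmem : a * b * a⁻¹ * b⁻¹ ∈ N₁ ⊓ N₂ := by
      refine ⟨?_, ?_⟩
      · have : b * a⁻¹ * b⁻¹ ∈ N₁ := Subgroup.Normal.conj_mem inferInstance _ (N₁.inv_mem ha) b
        have h3 := N₁.mul_mem ha this
        simpa [mul_assoc] using h3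
      · have : a * b * a⁻¹ ∈ N₂ := Subgroup.Normal.conj_mem inferInstance _ hb a
        exact N₂.mul_mem this (N₂.inv_mem hb)
    rw [hinf, Subgroup.mem_bot] at hmem
    have : a * b = b * a := by
      have h3 := congrArg (fun z => z * b * a) hmem
      simpa [mul_assoc] using h3
    exact this
  · obtain ⟨δ⟩ := ‹Nonempty Δ›
    obtain ⟨x, hx, hxδ⟩ := normal_transitive (N₁ ⊓ N₂) hinf δ (a • δ)
    have h3 : x⁻¹ * a = 1 := by
      apply abelian_semiregular N₁ h₁ hc₁ _ (N₁.mul_mem (N₁.inv_mem hx.1) ha) δ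
      rw [mul_smul, ← hxδ, inv_smul_smul]
    have : a = x := by
      have := congrArg (fun z => x * z) h3
      simpa using this
    rw [this]; exact hx.2

/-- A nontrivial abelian normal subgroup of a finite faithful primitive group is
elementary abelian. -/
theorem abelian_normal_elementary [Finite H] [FaithfulSMul H Δ] [IsPreprimitive H Δ]
    [Nonempty Δ] (N : Subgroup H) [N.Normal] (hN : N ≠ ⊥)
    (hc : ∀ a ∈ N, ∀ b ∈ N, a * b = b * a) :
    ∃ p e : ℕ, p.Prime ∧ Nat.card N = p ^ e ∧ ∀ x ∈ N, x ^ p = 1 := by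
  haveI : Nontrivial N := by
    rw [← not_subsingleton_iff_nontrivial]
    intro hs
    apply hN
    rw [eq_bot_iff]
    intro x hx
    have : (⟨x, hx⟩ : N) = 1 := Subsingleton.elim _ _
    rw [Subgroup.mem_bot]
    exact congrArg Subtype.val this
  have h1 : 1 < Nat.card N := Finite.one_lt_card
  obtain ⟨p, hp, hpd⟩ := Nat.exists_prime_and_dvd (Nat.ne_of_gt h1)
  haveI : Fact p.Prime := ⟨hp⟩
  obtain ⟨x, hx⟩ := exists_prime_orderOf_dvd_card' p hpd
  -- the subgroup of elements of order dividing `p`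
  let E : Subgroup H :=
    { carrier := {y | y ∈ N ∧ y ^ p = 1}
      mul_mem' := by
        rintro a b ⟨ha, hap⟩ ⟨hb, hbp⟩
        refine ⟨N.mul_mem ha hb, ?_⟩
        have hcomm : Commute a b := hc a ha b hb
        rw [hcomm.mul_pow, hap, hbp, one_mul]
      one_mem' := ⟨N.one_mem, one_pow _⟩
      inv_mem' := by
        rintro a ⟨ha, hap⟩
        exact ⟨N.inv_mem ha, by rw [inv_pow, hap, inv_one]⟩ }
  haveI hEn : E.Normal := by
    constructor
    rintro y ⟨hy, hyp⟩ g
    refine ⟨Subgroup.Normal.conj_mem inferInstance y hy g, ?_⟩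
    rw [conj_pow, hyp, mul_one, mul_inv_cancel]
  have hEne : E ≠ ⊥ := by
    intro h0
    have hxE : (x : H) ∈ E := by
      refine ⟨x.2, ?_⟩
      have : x ^ p = 1 := by rw [← hx]; exact pow_orderOf_eq_one x
      have h2 := congrArg Subtype.val this
      simpa using h2
    rw [h0, Subgroup.mem_bot] at hxE
    have : x = 1 := Subtype.ext hxE
    rw [this, orderOf_one] at hx
    exact hp.one_lt.ne hx
  have hEle : E ≤ N := fun y hy => hy.1
  have hNE : ∀ y ∈ N, y ^ p = 1 := by
    intro y hy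
    obtain ⟨δ⟩ := ‹Nonempty Δ›
    obtain ⟨z, hz, hzδ⟩ := normal_transitive E hEne δ (y • δ)
    have h3 : z⁻¹ * y = 1 := by
      apply abelian_semiregular N hN hc _ (N.mul_mem (N.inv_mem hz.1) hy) δ
      rw [mul_smul, ← hzδ, inv_smul_smul]
    have : y = z := by
      have := congrArg (fun w => z * w) h3
      simpa using this
    rw [this]; exact hz.2
  have hpg : IsPGroup p N := by
    intro y
    refine ⟨1, ?_⟩
    rw [pow_one]
    apply Subtype.ext
    have := hNE y y.2
    simpa using this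
  obtain ⟨e, he⟩ := IsPGroup.iff_card.mp hpg
  exact ⟨p, e, hp, he, hNE⟩

/-- The Fitting subgroup of a finite faithful primitive group is trivial, or an abelian
normal subgroup. -/
theorem fitting_cases [FaithfulSMul H Δ] [IsPreprimitive H Δ] [Nonempty Δ] :
    Cfsg.fittingSubgroup H = ⊥ ∨
      ((Cfsg.fittingSubgroup H).Normal ∧
        ∀ a ∈ Cfsg.fittingSubgroup H, ∀ b ∈ Cfsg.fittingSubgroup H, a * b = b * a) := by
  by_cases hex : ∃ N : Subgroup H, N.Normal ∧ Group.IsNilpotent N ∧ N ≠ ⊥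
  · right
    obtain ⟨N₀, hn₀, hnil₀, hne₀⟩ := hex
    haveI := hn₀
    have hc₀ := nilpotent_normal_abelian (Δ := Δ) N₀ hnil₀
    have hF : Cfsg.fittingSubgroup H = N₀ := by
      apply le_antisymm
      · apply sSup_le
        rintro N ⟨hn, hnil⟩
        haveI := hn
        by_cases hne : N = ⊥
        · rw [hne]; exact bot_le
        · exact abelian_normal_le (Δ := Δ) N N₀ hne hne₀
            (nilpotent_normal_abelian (Δ := Δ) N hnil) hc₀
      · exact le_sSup ⟨hn₀, hnil₀⟩
    rw [hF]
    exact ⟨hn₀, hc₀⟩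
  · left
    rw [eq_bot_iff]
    apply sSup_le
    rintro N ⟨hn, hnil⟩
    by_contra hne
    exact hex ⟨N, hn, hnil, fun h0 => hne (by rw [h0])⟩

end Cfsg.Agent.Lib.Helper58_PrimNormal
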