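import Mathlib
import Cfsg.Agent.Lib.Helper58_ExtPrim
import Cfsg.Agent.Lib.Helper58_PrimNormal
import Cfsg.Agent.Lib.Helper58_MinInv
import Cfsg.Agent.Lib.Helper58_Jordan

set_option autoImplicit false
set_option linter.style.haveILetI false

/-!
More on minimal invariant subgroups `X` of a nonabelian minimal normal subgroup `N` of a
(primitive) permutation group: trivial centre, two prime orders, and the behaviour of the point
stabilizer `N_α` with respect to the decomposition `N = X · C_N(X)`.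
-/

namespace Cfsg.Agent.Lib.Helper58_MinInv2

open MulAction
open scoped Pointwise
open Cfsg.Agent.Lib.Helper58_ExtPrim Cfsg.Agent.Lib.Helper58_PrimNormal
open Cfsg.Agent.Lib.Helper58_MinInv Cfsg.Agent.Lib.Helper58_Jordan

variable {G : Type*} [Group G]

/-- If a minimal invariant subgroup of the minimal normal subgroup `N` is abelian, so is `N`. -/
theorem abelian_of_minInv_abelian [Finite G] {N X : Subgroup G} [hNn : N.Normal]
    (hNmin : ∀ B : Subgroup G, B.Normal → B ≤ N → B = ⊥ ∨ B = N) (hX : IsMinInv N X)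
    (hXab : ∀ a ∈ X, ∀ b ∈ X, a * b = b * a) : ∀ a ∈ N, ∀ b ∈ N, a * b = b * a := by
  have hdecX := exists_decomp hNmin hX
  haveI : (Subgroup.centralizer (N : Set G)).Normal := Subgroup.normal_centralizer
  have hZn : (N ⊓ Subgroup.centralizer (N : Set G)).Normal := Subgroup.normal_inf_normal _ _
  have hXZ : X ≤ N ⊓ Subgroup.centralizer (N : Set G) := by
    intro x hx
    refine Subgroup.mem_inf.mpr ⟨hX.le hx, ?_⟩
    rw [Subgroup.mem_centralizer_iff]
    intro n hn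
    obtain ⟨t, ht, c, _, hcs, rfl⟩ := hdecX n hn
    rw [mul_assoc, hcs x hx, ← mul_assoc, hXab t ht x hx, mul_assoc]
  have hZne : N ⊓ Subgroup.centralizer (N : Set G) ≠ ⊥ := by
    intro h
    apply hX.ne_bot
    rw [eq_bot_iff, ← h]
    exact hXZ
  have hZN := (hNmin _ hZn inf_le_left).resolve_left hZne
  intro a ha b hb
  have hb' : b ∈ N ⊓ Subgroup.centralizer (N : Set G) := by rw [hZN]; exact hb
  exact Subgroup.mem_centralizer_iff.mp (Subgroup.mem_inf.mp hb').2 a ha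

/-- The centre of a minimal invariant subgroup of a nonabelian minimal normal subgroup is
trivial. -/
theorem center_trivial [Finite G] {N X : Subgroup G} [hNn : N.Normal]
    (hNmin : ∀ B : Subgroup G, B.Normal → B ≤ N → B = ⊥ ∨ B = N) (hX : IsMinInv N X)
    (hNna : ¬ ∀ a ∈ N, ∀ b ∈ N, a * b = b * a) :
    ∀ t ∈ X, (∀ s ∈ X, s * t = t * s) → t = 1 := by
  let Z : Subgroup G :=
    { carrier := {t | t ∈ X ∧ ∀ s ∈ X, s * t = t * s}
      one_mem' := ⟨X.one_mem, fun s _ => by simp⟩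
      mul_mem' := by
        rintro a b ⟨ha, hac⟩ ⟨hb, hbc⟩
        refine ⟨X.mul_mem ha hb, fun s hs => ?_⟩
        rw [← mul_assoc, hac s hs, mul_assoc, hbc s hs, mul_assoc]
      inv_mem' := by
        rintro a ⟨ha, hac⟩
        refine ⟨X.inv_mem ha, fun s hs => ?_⟩
        have := hac s hs
        calc s * a⁻¹ = a⁻¹ * (a * s) * a⁻¹ := by group
          _ = a⁻¹ * (s * a) * a⁻¹ := by rw [this]
          _ = a⁻¹ * s := by group }
  have hZle : Z ≤ X := fun t ht => ht.1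
  have hZinv : ∀ n ∈ N, ∀ z ∈ Z, n * z * n⁻¹ ∈ Z := by
    rintro n hn z ⟨hz, hzc⟩
    refine ⟨hX.inv n hn z hz, fun s hs => ?_⟩
    have hs' : n⁻¹ * s * n⁻¹⁻¹ ∈ X := hX.inv n⁻¹ (N.inv_mem hn) s hs
    have := hzc _ hs'
    calc s * (n * z * n⁻¹) = n * (n⁻¹ * s * n⁻¹⁻¹ * z) * n⁻¹ := by group
      _ = n * (z * (n⁻¹ * s * n⁻¹⁻¹)) * n⁻¹ := by rw [this]
      _ = n * z * n⁻¹ * s := by group
  intro t ht htc
  rcases hX.min Z hZle hZinv with h | h
  · have : t ∈ Z := ⟨ht, htc⟩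
    rw [h, Subgroup.mem_bot] at this
    exact this
  · exfalso
    apply hNna
    apply abelian_of_minInv_abelian hNmin hX
    intro a ha b hb
    have : b ∈ Z := by rw [h]; exact hb
    exact this.2 a ha

/-- A minimal invariant subgroup of a nonabelian minimal normal subgroup contains elements of
two different prime orders. -/
theorem exists_two_primes [Finite G] {N X : Subgroup G} [hNn : N.Normal]
    (hNmin : ∀ B : Subgroup G, B.Normal → B ≤ N → B = ⊥ ∨ B = N) (hX : IsMinInv N X)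
    (hNna : ¬ ∀ a ∈ N, ∀ b ∈ N, a * b = b * a) :
    ∃ p q : ℕ, p.Prime ∧ q.Prime ∧ p ≠ q ∧ (∃ a ∈ X, orderOf a = p) ∧ ∃ b ∈ X, orderOf b = q := by
  haveI : Nontrivial X := (Subgroup.nontrivial_iff_ne_bot X).mpr hX.ne_bot
  have hcard : Nat.card X ≠ 1 := fun h => hX.ne_bot (Subgroup.card_eq_one.mp h)
  obtain ⟨p, hp, hpd⟩ := Nat.exists_prime_and_dvd hcard
  haveI := Fact.mk hp
  have hnp : ¬ IsPGroup p X := by
    intro h
    exact hNna (abelian_of_minInv_abelian hNmin hX (abelian_of_pgroup hX p h))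
  have hex : ∃ q : ℕ, q.Prime ∧ q ≠ p ∧ q ∣ Nat.card X := by
    by_contra hcon
    push Not at hcon
    apply hnp
    rw [IsPGroup.iff_card]
    exact ⟨_, Nat.eq_prime_pow_of_unique_prime_dvd Nat.card_pos.ne' (fun {d} hd hdvd => by
      by_contra hne; exact hcon d hd hne hdvd)⟩
  obtain ⟨q, hq, hqp, hqd⟩ := hex
  haveI := Fact.mk hq
  obtain ⟨a, hao⟩ := exists_prime_orderOf_dvd_card' p hpd
  obtain ⟨b, hbo⟩ := exists_prime_orderOf_dvd_card' q hqd
  refine ⟨p, q, hp, hq, hqp.symm, ⟨a, a.2, ?_⟩, ⟨b, b.2, ?_⟩⟩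
  · rw [← hao, Subgroup.orderOf_coe]
  · rw [← hbo, Subgroup.orderOf_coe]

section action

variable {Ω : Type*} [MulAction G Ω]

/-- A nontrivial invariant subgroup of a transitive subgroup `N` of a faithful group does not
fix a point. -/
theorem not_le_stabilizer [FaithfulSMul G Ω] {N X : Subgroup G} (hX : IsMinInv N X)
    (hNt : ∀ ω ω' : Ω, ∃ n ∈ N, n • ω = ω') (α : Ω) : ¬ X ≤ stabilizer G α := by
  intro hle
  apply hX.ne_bot
  rw [eq_bot_iff]
  intro t ht
  rw [Subgroup.mem_bot]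
  apply FaithfulSMul.eq_of_smul_eq_smul (α := Ω)
  intro ω
  obtain ⟨n, hn, rfl⟩ := hNt α ω
  have h1 : n⁻¹ * t * n⁻¹⁻¹ ∈ X := hX.inv n⁻¹ (N.inv_mem hn) t ht
  have h2 : (n⁻¹ * t * n⁻¹⁻¹) • α = α := hle h1
  rw [one_smul]
  calc t • n • α = n • (n⁻¹ * t * n⁻¹⁻¹) • α := by
        rw [← mul_smul, ← mul_smul]; congr 1; group
    _ = n • α := by rw [h2]

/-- If `X ∩ G_α` is trivial then `X` is semiregular. -/
theorem semiregular_of_inf_eq_bot {N X : Subgroup G} (hX : IsMinInv N X)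
    (hNt : ∀ ω ω' : Ω, ∃ n ∈ N, n • ω = ω') (α : Ω) (hR : X ⊓ stabilizer G α = ⊥) :
    ∀ t ∈ X, ∀ ω : Ω, t • ω = ω → t = 1 := by
  intro t ht ω hω
  obtain ⟨n, hn, rfl⟩ := hNt α ω
  have h1 : n⁻¹ * t * n⁻¹⁻¹ ∈ X := hX.inv n⁻¹ (N.inv_mem hn) t ht
  have h2 : (n⁻¹ * t * n⁻¹⁻¹) • α = α := by
    rw [inv_inv, mul_smul, mul_smul, hω, inv_smul_smul]
  have h3 : n⁻¹ * t * n⁻¹⁻¹ ∈ X ⊓ stabilizer G α := Subgroup.mem_inf.mpr ⟨h1, h2⟩
  rw [hR, Subgroup.mem_bot] at h3
  calc t = n * (n⁻¹ * t * n⁻¹⁻¹) * n⁻¹ := by group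
    _ = 1 := by rw [h3]; group

/-- **Product structure of the stabilizer.** In a faithful primitive group with nonabelian
minimal normal subgroup `N`, let `X` be a minimal invariant subgroup with `X ∩ G_α ≠ 1`. If
`a * c` fixes `α`, where `a ∈ X` and `c ∈ N` centralizes `X`, then `a` fixes `α`. -/
theorem component_fix [Finite G] [FaithfulSMul G Ω] [IsPreprimitive G Ω] {N X : Subgroup G}
    [hNn : N.Normal] (hN1 : N ≠ ⊥)
    (hNmin : ∀ B : Subgroup G, B.Normal → B ≤ N → B = ⊥ ∨ B = N)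
    (hNna : ¬ ∀ a ∈ N, ∀ b ∈ N, a * b = b * a) (hX : IsMinInv N X) (α : Ω)
    (hR₁ : X ⊓ stabilizer G α ≠ ⊥) {a c : G} (ha : a ∈ X) (hc : c ∈ N)
    (hcs : ∀ s ∈ X, c * s = s * c) (hac : (a * c) • α = α) : a • α = α := by
  have hNt : ∀ ω ω' : Ω, ∃ n ∈ N, n • ω = ω' := fun ω ω' => normal_transitive N hN1 ω ω'
  have hdec := exists_decomp hNmin hX
  have hZ := center_trivial hNmin hX hNna
  have hH : stabilizer G α ≠ ⊥ := by
    intro h
    apply hR₁
    rw [h]; exact inf_bot_eq _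
  let S₁ : Subgroup G :=
    { carrier := {a | a ∈ X ∧ ∃ c ∈ N, (∀ s ∈ X, c * s = s * c) ∧ (a * c) • α = α}
      one_mem' := ⟨X.one_mem, 1, N.one_mem, fun s _ => by simp, by simp⟩
      mul_mem' := by
        rintro a a' ⟨ha, c, hc, hcs, hac⟩ ⟨ha', c', hc', hcs', hac'⟩
        refine ⟨X.mul_mem ha ha', c * c', N.mul_mem hc hc', fun s hs => ?_, ?_⟩
        · rw [mul_assoc, hcs' s hs, ← mul_assoc, hcs s hs, mul_assoc]
        · have e := hcs a' ha'
          have : a * a' * (c * c') = (a * c) * (a' * c') := by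
            calc a * a' * (c * c') = a * (a' * c) * c' := by group
              _ = a * (c * a') * c' := by rw [e]
              _ = (a * c) * (a' * c') := by group
          rw [this, mul_smul, hac', hac]
      inv_mem' := by
        rintro a ⟨ha, c, hc, hcs, hac⟩
        refine ⟨X.inv_mem ha, c⁻¹, N.inv_mem hc, fun s hs => ?_, ?_⟩
        · have := hcs s hs
          calc c⁻¹ * s = c⁻¹ * (s * c) * c⁻¹ := by group
            _ = c⁻¹ * (c * s) * c⁻¹ := by rw [this]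
            _ = s * c⁻¹ := by group
        · have e := hcs a ha
          have : a⁻¹ * c⁻¹ = (a * c)⁻¹ := by
            rw [← e, mul_inv_rev]
          rw [this, inv_smul_eq_iff, hac] }
  have hS₁X : S₁ ≤ X := fun a ha => ha.1
  -- Step 1: S₁ ≠ X
  have hS₁ne : S₁ ≠ X := by
    intro hS
    have hRinv : ∀ n ∈ N, ∀ r ∈ X ⊓ stabilizer G α, n * r * n⁻¹ ∈ X ⊓ stabilizer G α := by
      intro n hn r hr
      obtain ⟨hrT, hrα⟩ := Subgroup.mem_inf.mp hr
      refine Subgroup.mem_inf.mpr ⟨hX.inv n hn r hrT, ?_⟩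
      obtain ⟨t, ht, c', hc', hcs', rfl⟩ := hdec n hn
      have htS : t ∈ S₁ := by rw [hS]; exact ht
      obtain ⟨-, b, hb, hbs, htb⟩ := htS
      have e1 := hcs' r hrT
      have e2 := hbs r hrT
      have e : t * c' * r * (t * c')⁻¹ = (t * b) * r * (t * b)⁻¹ := by
        calc t * c' * r * (t * c')⁻¹ = t * (c' * r) * c'⁻¹ * t⁻¹ := by group
          _ = t * (r * c') * c'⁻¹ * t⁻¹ := by rw [e1]
          _ = t * (r * b) * b⁻¹ * t⁻¹ := by group
          _ = t * (b * r) * b⁻¹ * t⁻¹ := by rw [e2]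
          _ = (t * b) * r * (t * b)⁻¹ := by group
      rw [mem_stabilizer_iff, e, mul_smul, mul_smul, inv_smul_eq_iff.mpr htb.symm, hrα, htb]
    rcases hX.min _ inf_le_left hRinv with h | h
    · exact hR₁ h
    · exact not_le_stabilizer hX hNt α (by rw [← h]; exact inf_le_right)
  -- Step 2: P₁
  let P₁ : Subgroup G :=
    { carrier := {n | ∃ a ∈ S₁, ∃ c ∈ N, (∀ s ∈ X, c * s = s * c) ∧ n = a * c}
      one_mem' := ⟨1, S₁.one_mem, 1, N.one_mem, fun s _ => by simp, by simp⟩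
      mul_mem' := by
        rintro _ _ ⟨a, ha, c, hc, hcs, rfl⟩ ⟨a', ha', c', hc', hcs', rfl⟩
        refine ⟨a * a', S₁.mul_mem ha ha', c * c', N.mul_mem hc hc', fun s hs => ?_, ?_⟩
        · rw [mul_assoc, hcs' s hs, ← mul_assoc, hcs s hs, mul_assoc]
        · have e := hcs a' (hS₁X ha')
          calc a * c * (a' * c') = a * (c * a') * c' := by group
            _ = a * (a' * c) * c' := by rw [e]
            _ = a * a' * (c * c') := by group
      inv_mem' := by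
        rintro _ ⟨a, ha, c, hc, hcs, rfl⟩
        refine ⟨a⁻¹, S₁.inv_mem ha, c⁻¹, N.inv_mem hc, fun s hs => ?_, ?_⟩
        · have := hcs s hs
          calc c⁻¹ * s = c⁻¹ * (s * c) * c⁻¹ := by group
            _ = c⁻¹ * (c * s) * c⁻¹ := by rw [this]
            _ = s * c⁻¹ := by group
        · have e := hcs a⁻¹ (X.inv_mem (hS₁X ha))
          have e' : c⁻¹ * a⁻¹ = a⁻¹ * c⁻¹ := by
            calc c⁻¹ * a⁻¹ = c⁻¹ * (a⁻¹ * c) * c⁻¹ := by group
              _ = c⁻¹ * (c * a⁻¹) * c⁻¹ := by rw [e]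
              _ = a⁻¹ * c⁻¹ := by group
          rw [mul_inv_rev, e'] }
  have hP₁N : P₁ ≤ N := by
    rintro _ ⟨a, ha, c, hc, -, rfl⟩
    exact N.mul_mem (hX.le (hS₁X ha)) hc
  have hRP : N ⊓ stabilizer G α ≤ P₁ := by
    intro r hr
    obtain ⟨hrN, hrα⟩ := Subgroup.mem_inf.mp hr
    obtain ⟨t, ht, c', hc', hcs', rfl⟩ := hdec r hrN
    exact ⟨t, ⟨ht, c', hc', hcs', hrα⟩, c', hc', hcs', rfl⟩
  -- Step 3: Q
  let Q : Subgroup G :=
    { carrier := {n | ∀ h : G, h • α = α → h⁻¹ * n * h ∈ P₁}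
      one_mem' := fun h _ => by simp
      mul_mem' := by
        intro x y hx hy h hα
        have := P₁.mul_mem (hx h hα) (hy h hα)
        convert this using 1; group
      inv_mem' := by
        intro x hx h hα
        have := P₁.inv_mem (hx h hα)
        convert this using 1; group }
  have hQN : Q ≤ N := by
    intro n hn
    have := hn 1 (one_smul _ _)
    apply hP₁N
    convert this using 1; group
  have hQinv : ∀ k : G, k • α = α → ∀ n ∈ Q, k * n * k⁻¹ ∈ Q := by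
    intro k hk n hn h hα
    have hkh : (k⁻¹ * h) • α = α := by rw [mul_smul, hα, inv_smul_eq_iff, hk]
    have := hn (k⁻¹ * h) hkh
    convert this using 1; group
  have hRQ : N ⊓ stabilizer G α ≤ Q := by
    intro r hr h hα
    apply hRP
    obtain ⟨hrN, hrα⟩ := Subgroup.mem_inf.mp hr
    refine Subgroup.mem_inf.mpr ⟨?_, ?_⟩
    · have := hNn.conj_mem r hrN h⁻¹
      convert this using 1; group
    · rw [mem_stabilizer_iff, mul_smul, mul_smul, hα, hrα, inv_smul_eq_iff, hα]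
  -- Step 4: Q ≤ stabilizer
  have hQα : ∀ q ∈ Q, q • α = α := by
    by_contra hcon
    push Not at hcon
    obtain ⟨q₀, hq₀, hq₀α⟩ := hcon
    have hB : {ω : Ω | ∃ q ∈ Q, q • α = ω} = Set.univ := by
      apply eq_univ_of_invariant α hH {ω : Ω | ∃ q ∈ Q, q • α = ω} (q₀ • α)
        ⟨α, 1, Q.one_mem, one_smul _ _⟩ hq₀α
      · rintro h hα _ ⟨q, hq, rfl⟩
        have hinv : h⁻¹ • α = α := by rw [inv_smul_eq_iff, hα]
        exact ⟨h * q * h⁻¹, hQinv h hα q hq, by rw [mul_smul, mul_smul, hinv]⟩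
      · rintro g hσ _ ⟨q, hq, rfl⟩
        have hkα : (q₀⁻¹ * g * q₀) • α = α := by
          rw [mul_smul, mul_smul, hσ, inv_smul_smul]
        have hkinv : (q₀⁻¹ * g * q₀)⁻¹ • α = α := by rw [inv_smul_eq_iff, hkα]
        have h1 := hQinv _ hkα (q₀⁻¹ * q) (Q.mul_mem (Q.inv_mem hq₀) hq)
        refine ⟨q₀ * ((q₀⁻¹ * g * q₀) * (q₀⁻¹ * q) * (q₀⁻¹ * g * q₀)⁻¹), Q.mul_mem hq₀ h1, ?_⟩
        have e : q₀ * ((q₀⁻¹ * g * q₀) * (q₀⁻¹ * q) * (q₀⁻¹ * g * q₀)⁻¹) =
            g * q * (q₀⁻¹ * g * q₀)⁻¹ := by group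
        rw [e, mul_smul, mul_smul, hkinv]
    have hNQ : N ≤ Q := by
      intro n hn
      have : n • α ∈ {ω : Ω | ∃ q ∈ Q, q • α = ω} := by rw [hB]; exact Set.mem_univ _
      obtain ⟨q, hq, hqα⟩ := this
      have hmem : q⁻¹ * n ∈ N ⊓ stabilizer G α := by
        refine Subgroup.mem_inf.mpr ⟨N.mul_mem (N.inv_mem (hQN hq)) hn, ?_⟩
        rw [mem_stabilizer_iff, mul_smul, ← hqα, inv_smul_smul]
      have := Q.mul_mem hq (hRQ hmem)
      convert this using 1; group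
    apply hS₁ne
    apply le_antisymm hS₁X
    intro t ht
    have htP : t ∈ P₁ := by
      have := hNQ (hX.le ht) 1 (one_smul _ _)
      convert this using 1; group
    obtain ⟨a, ha, c, hc, hcs, rfl⟩ := htP
    have hcX : c ∈ X := by
      have := X.mul_mem (X.inv_mem (hS₁X ha)) ht
      convert this using 1; group
    have hc1 : c = 1 := hZ c hcX (fun s hs => (hcs s hs).symm)
    rw [hc1, mul_one]; exact ha
  -- Step 5: S₁ ≤ Q
  have hS₁Q : S₁ ≤ Q := by
    rintro a ⟨ha, c, hc, hcs, hac⟩ h hα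
    by_cases hX' : MulAut.conj h⁻¹ • X = X
    · have hmemX : ∀ x ∈ X, h⁻¹ * x * h ∈ X := by
        intro x hx
        have := conj_mem_conj_smul (g := h⁻¹) hx
        rw [hX', inv_inv] at this
        exact this
      have hmemX' : ∀ x ∈ X, h * x * h⁻¹ ∈ X := by
        intro x hx
        have hx' : x ∈ MulAut.conj h⁻¹ • X := by rw [hX']; exact hx
        rw [mem_conj_smul, inv_inv] at hx'
        exact hx'
      refine ⟨h⁻¹ * a * h, ⟨hmemX a ha, h⁻¹ * c * h, ?_, ?_, ?_⟩, 1, N.one_mem,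
        fun s _ => by simp, by simp⟩
      · have := hNn.conj_mem c hc h⁻¹
        convert this using 1; group
      · intro s hs
        have := hcs _ (hmemX' s hs)
        calc h⁻¹ * c * h * s = h⁻¹ * (c * (h * s * h⁻¹)) * h := by group
          _ = h⁻¹ * ((h * s * h⁻¹) * c) * h := by rw [this]
          _ = s * (h⁻¹ * c * h) := by group
      · have e : h⁻¹ * a * h * (h⁻¹ * c * h) = h⁻¹ * (a * c) * h := by group
        rw [e, mul_smul, mul_smul, hα, hac, inv_smul_eq_iff, hα]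
    · have hmem : h⁻¹ * a * h ∈ MulAut.conj h⁻¹ • X := by
        have := conj_mem_conj_smul (g := h⁻¹) ha
        rwa [inv_inv] at this
      refine ⟨1, S₁.one_mem, h⁻¹ * a * h, (hX.conj h⁻¹).le hmem, fun s hs => ?_, by simp⟩
      exact (hX.conj h⁻¹).commute hX hX' _ hmem s hs
  exact hQα a (hS₁Q ⟨ha, c, hc, hcs, hac⟩)

/-- Existence of an element of `X` none of whose `X`-conjugates fixes `α`. -/
theorem exists_local_derangement [Finite G] [FaithfulSMul G Ω] {N X : Subgroup G}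
    (hX : IsMinInv N X) (hNt : ∀ ω ω' : Ω, ∃ n ∈ N, n • ω = ω') (α : Ω) :
    ∃ x ∈ X, ∀ t ∈ X, (t⁻¹ * x * t) • α ≠ α := by
  by_contra hcon
  push Not at hcon
  apply not_le_stabilizer hX hNt α
  have := eq_of_conj_cover X (X ⊓ stabilizer G α) inf_le_left (fun x hx => by
    obtain ⟨t, ht, htx⟩ := hcon x hx
    exact ⟨t, ht, Subgroup.mem_inf.mpr ⟨X.mul_mem (X.mul_mem (X.inv_mem ht) hx) ht, htx⟩⟩)
  rw [← this]
  exact inf_le_right

/-- In the situation of `component_fix`, a local derangement times any element of `C_N(X)` is a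
derangement. -/
theorem derangement_mul [Finite G] [FaithfulSMul G Ω] [IsPreprimitive G Ω] {N X : Subgroup G}
    [hNn : N.Normal] (hN1 : N ≠ ⊥)
    (hNmin : ∀ B : Subgroup G, B.Normal → B ≤ N → B = ⊥ ∨ B = N)
    (hNna : ¬ ∀ a ∈ N, ∀ b ∈ N, a * b = b * a) (hX : IsMinInv N X) (α : Ω)
    (hR₁ : X ⊓ stabilizer G α ≠ ⊥) {x c : G} (hx : x ∈ X)
    (hxd : ∀ t ∈ X, (t⁻¹ * x * t) • α ≠ α) (hc : c ∈ N) (hcs : ∀ s ∈ X, c * s = s * c) :
    ∀ ω : Ω, (x * c) • ω ≠ ω := by
  intro ω hω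
  have hNt : ∀ ω ω' : Ω, ∃ n ∈ N, n • ω = ω' := fun ω ω' => normal_transitive N hN1 ω ω'
  obtain ⟨n, hn, rfl⟩ := hNt α ω
  obtain ⟨t, ht, c', hc', hcs', rfl⟩ := exists_decomp hNmin hX n hn
  have hxt : t⁻¹ * x * t ∈ X := X.mul_mem (X.mul_mem (X.inv_mem ht) hx) ht
  apply hxd t ht
  have hc'' : (t * c')⁻¹ * c * (t * c') ∈ N := by
    have := hNn.conj_mem c hc (t * c')⁻¹
    convert this using 1; group
  have hcs'' : ∀ s ∈ X, (t * c')⁻¹ * c * (t * c') * s = s * ((t * c')⁻¹ * c * (t * c')) := by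
    intro s hs
    have hs' : (t * c') * s * (t * c')⁻¹ ∈ X := hX.inv _ hn s hs
    have := hcs _ hs'
    calc (t * c')⁻¹ * c * (t * c') * s
        = (t * c')⁻¹ * (c * ((t * c') * s * (t * c')⁻¹)) * (t * c') := by group
      _ = (t * c')⁻¹ * (((t * c') * s * (t * c')⁻¹) * c) * (t * c') := by rw [this]
      _ = s * ((t * c')⁻¹ * c * (t * c')) := by group
  apply component_fix hN1 hNmin hNna hX α hR₁ hxt hc'' hcs''
  have e1 : c'⁻¹ * (t⁻¹ * x * t) = (t⁻¹ * x * t) * c'⁻¹ := by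
    have := hcs' _ hxt
    calc c'⁻¹ * (t⁻¹ * x * t) = c'⁻¹ * ((t⁻¹ * x * t) * c') * c'⁻¹ := by group
      _ = c'⁻¹ * (c' * (t⁻¹ * x * t)) * c'⁻¹ := by rw [this]
      _ = (t⁻¹ * x * t) * c'⁻¹ := by group
  have e2 : t⁻¹ * x * t * ((t * c')⁻¹ * c * (t * c')) = (t * c')⁻¹ * (x * c) * (t * c') := by
    calc t⁻¹ * x * t * ((t * c')⁻¹ * c * (t * c'))
        = (t⁻¹ * x * t) * c'⁻¹ * t⁻¹ * c * (t * c') := by group
      _ = c'⁻¹ * (t⁻¹ * x * t) * t⁻¹ * c * (t * c') := by rw [← e1]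
      _ = (t * c')⁻¹ * (x * c) * (t * c') := by group
  rw [e2, mul_smul, mul_smul, hω, inv_smul_smul]

end action

end Cfsg.Agent.Lib.Helper58_MinInv2
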