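import Mathlib

set_option autoImplicit false
set_option linter.style.haveILetI false

/-!
Minimal normal subgroups of finite groups: existence, and minimal normal `q`-subgroups are
elementary abelian.
-/

namespace Cfsg.Agent.Lib.Helper58_MinNormal

variable {G : Type*} [Group G]

/-- A finite nontrivial non-simple group has a proper nontrivial minimal normal subgroup. -/
theorem exists_minimal_normal [Finite G] [Nontrivial G] (hns : ¬ IsSimpleGroup G) :
    ∃ N : Subgroup G, N.Normal ∧ N ≠ ⊥ ∧ N ≠ ⊤ ∧
      ∀ B : Subgroup G, B.Normal → B ≤ N → B = ⊥ ∨ B = N := by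
  classical
  have hex : ∃ n : ℕ, ∃ N : Subgroup G, N.Normal ∧ N ≠ ⊥ ∧ N ≠ ⊤ ∧ Nat.card N = n := by
    by_contra hcon
    push Not at hcon
    apply hns
    refine ⟨fun H hH => ?_⟩
    by_contra h
    push Not at h
    exact hcon _ H hH h.1 h.2 rfl
  obtain ⟨N, hN, hN1, hNtop, hNcard⟩ := Nat.find_spec hex
  refine ⟨N, hN, hN1, hNtop, fun B hB hBN => ?_⟩
  by_cases hB1 : B = ⊥
  · exact Or.inl hB1
  · right
    have hBtop : B ≠ ⊤ := by
      rintro rfl
      exact hNtop (top_le_iff.mp hBN)
    have h1 : Nat.find hex ≤ Nat.card B := Nat.find_min' hex ⟨B, hB, hB1, hBtop, rfl⟩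
    rw [← hNcard] at h1
    exact Subgroup.eq_of_le_of_card_ge hBN h1

/-- A normal subgroup that is minimal normal and a `q`-group is elementary abelian. -/
theorem minimal_normal_pgroup_elementary [Finite G] (q : ℕ) [Fact q.Prime] (N : Subgroup G)
    [N.Normal] (hN1 : N ≠ ⊥) (hmin : ∀ B : Subgroup G, B.Normal → B ≤ N → B = ⊥ ∨ B = N)
    (hq : IsPGroup q N) :
    (∀ a ∈ N, ∀ b ∈ N, a * b = b * a) ∧ ∀ a ∈ N, a ^ q = 1 := by
  have hqp : q.Prime := Fact.out
  haveI : Nontrivial N := by
    rw [← not_subsingleton_iff_nontrivial]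
    intro hs
    apply hN1
    rw [eq_bot_iff]
    intro x hx
    have : (⟨x, hx⟩ : N) = 1 := Subsingleton.elim _ _
    rw [Subgroup.mem_bot]
    exact congrArg Subtype.val this
  -- the centre of `N` is nontrivial, characteristic in `N`, hence normal in `G`
  have hZne : Subgroup.center N ≠ ⊥ := by
    have := hq.center_nontrivial
    intro h0
    rw [← not_subsingleton_iff_nontrivial] at this
    apply this
    rw [h0]
    infer_instance
  have hZn : ((Subgroup.center N).map N.subtype).Normal := inferInstance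
  have hZle : (Subgroup.center N).map N.subtype ≤ N := Subgroup.map_subtype_le _
  have hZ : (Subgroup.center N).map N.subtype = N := by
    rcases hmin _ hZn hZle with h | h
    · exfalso
      apply hZne
      rwa [Subgroup.map_eq_bot_iff_of_injective _ (Subgroup.subtype_injective _)] at h
    · exact h
  have hcomm : ∀ a ∈ N, ∀ b ∈ N, a * b = b * a := by
    intro a ha b hb
    rw [← hZ] at hb
    obtain ⟨z, hz, rfl⟩ := hb
    have := Subgroup.mem_center_iff.mp hz ⟨a, ha⟩
    exact congrArg Subtype.val this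
  refine ⟨hcomm, ?_⟩
  -- the elements of order dividing `q`
  let E : Subgroup G :=
    { carrier := {y | y ∈ N ∧ y ^ q = 1}
      mul_mem' := by
        rintro a b ⟨ha, hap⟩ ⟨hb, hbp⟩
        refine ⟨N.mul_mem ha hb, ?_⟩
        have hc : Commute a b := hcomm a ha b hb
        rw [hc.mul_pow, hap, hbp, one_mul]
      one_mem' := ⟨N.one_mem, one_pow _⟩
      inv_mem' := by
        rintro a ⟨ha, hap⟩
        exact ⟨N.inv_mem ha, by rw [inv_pow, hap, inv_one]⟩ }
  have hEn : E.Normal := by
    constructor
    rintro y ⟨hy, hyp⟩ g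
    refine ⟨Subgroup.Normal.conj_mem inferInstance y hy g, ?_⟩
    rw [conj_pow, hyp, mul_one, mul_inv_cancel]
  have hEle : E ≤ N := fun y hy => hy.1
  have h1 : 1 < Nat.card N := Finite.one_lt_card
  have hqd : q ∣ Nat.card N := by
    obtain ⟨n, hn⟩ := IsPGroup.iff_card.mp hq
    rw [hn] at h1 ⊢
    have : n ≠ 0 := by
      rintro rfl
      simp at h1
    exact dvd_pow_self q this
  obtain ⟨x, hx⟩ := exists_prime_orderOf_dvd_card' q hqd
  have hEne : E ≠ ⊥ := by
    intro h0
    have hxE : (x : G) ∈ E := by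
      refine ⟨x.2, ?_⟩
      have : x ^ q = 1 := by rw [← hx]; exact pow_orderOf_eq_one x
      have h2 := congrArg Subtype.val this
      simpa using h2
    rw [h0, Subgroup.mem_bot] at hxE
    have : x = 1 := Subtype.ext hxE
    rw [this, orderOf_one] at hx
    exact hqp.one_lt.ne hx
  rcases hmin E hEn hEle with h | h
  · exact absurd h hEne
  · intro a ha
    rw [← h] at ha
    exact ha.2

end Cfsg.Agent.Lib.Helper58_MinNormal
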