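import Mathlib
import Cfsg.Agent.Lib.Helper71_FrobSolutions

/-!
# Counting elements of a given order (helper58)

`cnt G m` is the number of elements of order `m` of `G`.  General facts used for the
"same-order-type" characterisations of small groups: Frobenius' congruence, divisibility by the
totient, Sylow counting in the cyclic case, normal subgroups contain elements of order prime to
their index, fixed points of an element of prime order.
-/

set_option autoImplicit false
set_option linter.style.haveILetI false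
set_option linter.unusedSectionVars false

namespace Cfsg.Agent.Lib.Helper58_Nse

open Finset

/-- number of elements of order `m` -/
noncomputable def cnt (G : Type*) [Group G] (m : ℕ) : ℕ := Nat.card {g : G // orderOf g = m}

section basic

variable {G : Type*} [Group G]

theorem cnt_one : cnt G 1 = 1 := by
  unfold cnt
  rw [Nat.card_eq_one_iff_unique]
  refine ⟨⟨fun a b => Subtype.ext ?_⟩, ⟨⟨1, orderOf_one⟩⟩⟩
  rw [orderOf_eq_one_iff.mp a.2, orderOf_eq_one_iff.mp b.2]

variable [Finite G]

theorem cnt_ne_zero_iff (m : ℕ) : cnt G m ≠ 0 ↔ ∃ g : G, orderOf g = m := by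
  unfold cnt
  rw [Nat.card_ne_zero]
  constructor
  · rintro ⟨⟨g, hg⟩, _⟩; exact ⟨g, hg⟩
  · rintro ⟨g, hg⟩; exact ⟨⟨⟨g, hg⟩⟩, inferInstance⟩

theorem cnt_eq_card_filter [Fintype G] [DecidableEq G] (m : ℕ) :
    cnt G m = (univ.filter (fun g : G => orderOf g = m)).card := by
  unfold cnt
  rw [Nat.card_eq_fintype_card, Fintype.card_subtype]

theorem dvd_card_of_cnt_ne_zero {m : ℕ} (h : cnt G m ≠ 0) : m ∣ Nat.card G := by
  obtain ⟨g, rfl⟩ := (cnt_ne_zero_iff m).mp h
  exact orderOf_dvd_natCard g

theorem cnt_ne_zero_of_dvd {j k : ℕ} (hjk : j ∣ k) (h : cnt G k ≠ 0) : cnt G j ≠ 0 := by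
  obtain ⟨g, rfl⟩ := (cnt_ne_zero_iff k).mp h
  obtain ⟨c, hc⟩ := hjk
  rw [cnt_ne_zero_iff]
  have hpos : 0 < orderOf g := orderOf_pos g
  have hc0 : c ≠ 0 := by rintro rfl; omega
  refine ⟨g ^ c, ?_⟩
  rw [orderOf_pow_of_dvd hc0 (Dvd.intro_left j hc.symm), hc]
  exact Nat.mul_div_cancel _ (Nat.pos_of_ne_zero hc0)

/-- **Frobenius**: `d ∣ |G|` divides the number of elements of order dividing `d`. -/
theorem frob (d : ℕ) (hd : d ∣ Nat.card G) : d ∣ ∑ k ∈ d.divisors, cnt G k := by
  classical
  haveI : Fintype G := Fintype.ofFinite G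
  have hd0 : d ≠ 0 := by
    rintro rfl
    exact (Nat.card_pos (α := G)).ne' (Nat.eq_zero_of_zero_dvd hd)
  have h1 := Cfsg.Agent.Lib.Helper71_FrobSolutions.dvd_card_pow_eq_one (G := G) d hd
  have h2 := sum_card_orderOf_eq_card_pow_eq_one (G := G) hd0
  have h3 : Nat.card {x : G // x ^ d = 1} = (univ.filter (fun x : G => x ^ d = 1)).card := by
    rw [Nat.card_eq_fintype_card, Fintype.card_subtype]
  rw [h3, ← h2] at h1
  have h4 : ∑ k ∈ d.divisors, cnt G k =
      ∑ m ∈ d.divisors, (univ.filter (fun x : G => orderOf x = m)).card :=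
    sum_congr rfl (fun k _ => cnt_eq_card_filter k)
  rw [h4]; exact h1

theorem total : ∑ k ∈ (Nat.card G).divisors, cnt G k = Nat.card G := by
  classical
  haveI : Fintype G := Fintype.ofFinite G
  have h2 := sum_card_orderOf_eq_card_pow_eq_one (G := G) (n := Nat.card G) Nat.card_pos.ne'
  have h3 : (univ.filter (fun x : G => x ^ Nat.card G = 1)) = univ := by
    ext x; simp
  rw [h3, card_univ, ← Nat.card_eq_fintype_card] at h2
  exact Eq.trans (sum_congr rfl (fun k _ => cnt_eq_card_filter k)) h2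

/-- in a cyclic group the number of elements of order `m ∣ |C|` is `φ m` -/
theorem cnt_cyclic (C : Type*) [Group C] [Finite C] [IsCyclic C] (m : ℕ) (hm : m ∣ Nat.card C) :
    cnt C m = Nat.totient m := by
  classical
  haveI : Fintype C := Fintype.ofFinite C
  rw [cnt_eq_card_filter]
  exact IsCyclic.card_orderOf_eq_totient (by rwa [← Nat.card_eq_fintype_card])

/-- elements of order `m` inside a subgroup -/
theorem card_mem_and_orderOf (Q : Subgroup G) (m : ℕ) :
    Nat.card {g : G // g ∈ Q ∧ orderOf g = m} = cnt Q m := by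
  unfold cnt
  refine Nat.card_congr ?_
  refine (Equiv.subtypeSubtypeEquivSubtypeInter (fun g : G => g ∈ Q)
    (fun g : G => orderOf g = m)).symm.trans ?_
  exact Equiv.subtypeEquivRight (fun c => by rw [Subgroup.orderOf_coe])

/-- generators of a subgroup of order `m` -/
theorem card_fiber_zpowers (m : ℕ) (C : Subgroup G) (hC : Nat.card C = m) :
    Nat.card {x : {g : G // orderOf g = m} // Subgroup.zpowers x.1 = C} = cnt C m := by
  rw [← card_mem_and_orderOf]
  refine Nat.card_congr ?_
  refine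
    { toFun := fun x => ⟨x.1.1, by have h := Subgroup.mem_zpowers x.1.1; rw [x.2] at h; exact h,
        x.1.2⟩
      invFun := fun g => ⟨⟨g.1, g.2.2⟩, ?_⟩
      left_inv := fun x => rfl
      right_inv := fun g => rfl }
  apply Subgroup.eq_of_le_of_card_ge
  · rw [Subgroup.zpowers_le]; exact g.2.1
  · rw [Nat.card_zpowers, hC, g.2.2]

/-- the number of elements of order `m` is `φ m` times the number of cyclic subgroups of
order `m` -/
theorem cnt_eq_totient_mul (m : ℕ) :
    cnt G m = Nat.totient m * Nat.card {C : Subgroup G // IsCyclic C ∧ Nat.card C = m} := by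
  classical
  haveI : Fintype {C : Subgroup G // IsCyclic C ∧ Nat.card C = m} := Fintype.ofFinite _
  let f : {g : G // orderOf g = m} → {C : Subgroup G // IsCyclic C ∧ Nat.card C = m} :=
    fun g => ⟨Subgroup.zpowers g.1, inferInstance, by rw [Nat.card_zpowers, g.2]⟩
  have h1 : cnt G m = Nat.card (Σ y, {x // f x = y}) :=
    Nat.card_congr (Equiv.sigmaFiberEquiv f).symm
  rw [h1, Nat.card_sigma]
  have h2 : ∀ y : {C : Subgroup G // IsCyclic C ∧ Nat.card C = m},
      Nat.card {x // f x = y} = Nat.totient m := by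
    rintro ⟨C, hcyc, hcard⟩
    haveI := hcyc
    have e : {x // f x = ⟨C, hcyc, hcard⟩} ≃
        {x : {g : G // orderOf g = m} // Subgroup.zpowers x.1 = C} :=
      Equiv.subtypeEquivRight (fun x => by simp [f, Subtype.ext_iff])
    rw [Nat.card_congr e, card_fiber_zpowers m C hcard, cnt_cyclic C m (by rw [hcard])]
  simp only [h2, sum_const, card_univ, smul_eq_mul, Nat.card_eq_fintype_card]
  exact mul_comm _ _

theorem totient_dvd_cnt (m : ℕ) : Nat.totient m ∣ cnt G m :=
  Dvd.intro _ (cnt_eq_totient_mul m).symm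

/-- Sylow counting when a Sylow `p`-subgroup is cyclic. -/
theorem sylow_count (p : ℕ) [Fact p.Prime] (a : ℕ) (h1 : p ^ a ∣ Nat.card G)
    (h2 : ¬ p ^ (a + 1) ∣ Nat.card G) (h3 : cnt G (p ^ a) ≠ 0) :
    ∃ n, cnt G (p ^ a) = Nat.totient (p ^ a) * n ∧ n % p = 1 ∧ n * p ^ a ∣ Nat.card G ∧
      ∀ i, i ≤ a → cnt G (p ^ i) ≤ Nat.totient (p ^ i) * n := by
  classical
  haveI : Fintype G := Fintype.ofFinite G
  haveI : Fintype (Sylow p G) := Fintype.ofFinite _
  have hp : p.Prime := Fact.out
  have hfac : (Nat.card G).factorization p = a := by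
    have hN : Nat.card G ≠ 0 := Nat.card_pos.ne'
    have e1 := (hp.pow_dvd_iff_le_factorization hN).mp h1
    have e2 := mt (hp.pow_dvd_iff_le_factorization hN).mpr h2
    omega
  have hcardP : ∀ P : Sylow p G, Nat.card P = p ^ a := fun P => by
    rw [P.card_eq_multiplicity, hfac]
  obtain ⟨x, hx⟩ := (cnt_ne_zero_iff _).mp h3
  have hx' : Nat.card (Subgroup.zpowers x) = p ^ (Nat.card G).factorization p := by
    rw [Nat.card_zpowers, hx, hfac]
  let P0 : Sylow p G := Sylow.ofCard (Subgroup.zpowers x) hx'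
  have hcyc : ∀ Q : Sylow p G, IsCyclic Q := by
    intro Q
    obtain ⟨g, rfl⟩ := MulAction.exists_smul_eq G P0 Q
    have e := Sylow.equivSMul P0 g
    haveI : IsCyclic P0 := (inferInstance : IsCyclic (Subgroup.zpowers x))
    exact isCyclic_of_surjective e e.surjective
  let B : ℕ → Sylow p G → Finset G := fun i Q =>
    univ.filter (fun g => g ∈ (Q : Subgroup G) ∧ orderOf g = p ^ i)
  have hB : ∀ i, i ≤ a → ∀ Q, (B i Q).card = Nat.totient (p ^ i) := by
    intro i hi Q
    haveI := hcyc Q
    have e1 : (B i Q).card = Nat.card {g : G // g ∈ (Q : Subgroup G) ∧ orderOf g = p ^ i} := by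
      rw [Nat.card_eq_fintype_card, Fintype.card_subtype]
    rw [e1, card_mem_and_orderOf, cnt_cyclic Q (p ^ i) (by rw [hcardP]; exact pow_dvd_pow p hi)]
  have hsub : ∀ i, univ.filter (fun g : G => orderOf g = p ^ i) ⊆ univ.biUnion (B i) := by
    intro i g hg
    simp only [mem_filter, mem_univ, true_and] at hg
    have hpg : IsPGroup p (Subgroup.zpowers g) :=
      IsPGroup.of_card (n := i) (by rw [Nat.card_zpowers, hg])
    obtain ⟨Q, hQ⟩ := hpg.exists_le_sylow
    simp only [mem_biUnion, mem_univ, true_and, B, mem_filter]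
    exact ⟨Q, hQ (Subgroup.mem_zpowers g), hg⟩
  have hle : ∀ i, i ≤ a → cnt G (p ^ i) ≤ Nat.totient (p ^ i) * Nat.card (Sylow p G) := by
    intro i hi
    rw [cnt_eq_card_filter]
    calc _ ≤ (univ.biUnion (B i)).card := card_le_card (hsub i)
      _ ≤ ∑ Q, (B i Q).card := card_biUnion_le
      _ = ∑ _Q : Sylow p G, Nat.totient (p ^ i) := sum_congr rfl (fun Q _ => hB i hi Q)
      _ = _ := by
        simp only [sum_const, card_univ, smul_eq_mul, Nat.card_eq_fintype_card]
        exact mul_comm _ _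
  have hdisj : ∀ Q ∈ (univ : Finset (Sylow p G)), ∀ Q' ∈ (univ : Finset (Sylow p G)),
      Q ≠ Q' → Disjoint (B a Q) (B a Q') := by
    intro Q _ Q' _ hne
    rw [Finset.disjoint_left]
    intro g hg hg'
    simp only [B, mem_filter, mem_univ, true_and] at hg hg'
    apply hne
    have k1 : Subgroup.zpowers g = (Q : Subgroup G) := by
      apply Subgroup.eq_of_le_of_card_ge
      · rw [Subgroup.zpowers_le]; exact hg.1
      · rw [Nat.card_zpowers, hg.2]; exact (hcardP Q).le
    have k2 : Subgroup.zpowers g = (Q' : Subgroup G) := by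
      apply Subgroup.eq_of_le_of_card_ge
      · rw [Subgroup.zpowers_le]; exact hg'.1
      · rw [Nat.card_zpowers, hg.2]; exact (hcardP Q').le
    exact Sylow.ext (k1.symm.trans k2)
  have hge : Nat.totient (p ^ a) * Nat.card (Sylow p G) ≤ cnt G (p ^ a) := by
    rw [cnt_eq_card_filter]
    calc _ = ∑ _Q : Sylow p G, Nat.totient (p ^ a) := by
            simp only [sum_const, card_univ, smul_eq_mul, Nat.card_eq_fintype_card]
            exact mul_comm _ _
      _ = ∑ Q, (B a Q).card := sum_congr rfl (fun Q _ => (hB a le_rfl Q).symm)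
      _ = (univ.biUnion (B a)).card := (card_biUnion hdisj).symm
      _ ≤ _ := by
        apply card_le_card
        intro g hg
        simp only [mem_biUnion, mem_univ, true_and, B, mem_filter] at hg
        obtain ⟨Q, -, hg⟩ := hg
        simp only [mem_filter, mem_univ, true_and]
        exact hg
  refine ⟨Nat.card (Sylow p G), le_antisymm (hle a le_rfl) hge, ?_, ?_, hle⟩
  · have := card_sylow_modEq_one p G
    rw [Nat.ModEq, Nat.mod_eq_of_lt hp.one_lt] at this
    exact this
  · have k1 := P0.card_dvd_index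
    have k2 := (P0 : Subgroup G).card_mul_index
    rw [hcardP P0] at k2
    rw [← k2, mul_comm]
    exact Nat.mul_dvd_mul_left _ k1

/-- a normal subgroup contains every element of order prime to its index -/
theorem mem_of_coprime_index (H : Subgroup G) [H.Normal] (z : G)
    (h : (orderOf z).Coprime H.index) : z ∈ H := by
  have h1 : z ^ H.index ∈ H := Subgroup.pow_index_mem H z
  obtain ⟨m, hm⟩ := exists_pow_eq_self_of_coprime h.symm
  rw [← hm]; exact H.pow_mem h1 m

/-- counting elements of a normal subgroup by orders prime to the index -/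
theorem sum_cnt_le_card (H : Subgroup G) [H.Normal] (M : List ℕ) (hM : M.Nodup)
    (hc : ∀ m ∈ M, Nat.Coprime m H.index) : (M.map (cnt G)).sum ≤ Nat.card H := by
  classical
  haveI : Fintype G := Fintype.ofFinite G
  rw [← List.sum_toFinset _ hM]
  have e1 : ∑ m ∈ M.toFinset, cnt G m =
      (univ.filter (fun g : G => orderOf g ∈ M.toFinset)).card := by
    rw [card_eq_sum_card_fiberwise (f := fun g : G => orderOf g) (t := M.toFinset)
      (s := univ.filter (fun g : G => orderOf g ∈ M.toFinset))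
      (fun g hg => (mem_filter.mp hg).2)]
    refine sum_congr rfl (fun m hm => ?_)
    rw [cnt_eq_card_filter, filter_filter]
    apply congrArg
    apply filter_congr
    intro g _
    constructor
    · intro h; exact ⟨by rw [h]; exact hm, h⟩
    · intro h; exact h.2
  rw [e1]
  have e2 : Nat.card H = (univ.filter (fun g : G => g ∈ H)).card := by
    rw [Nat.card_eq_fintype_card, Fintype.card_subtype]
  rw [e2]
  apply card_le_card
  intro g hg
  simp only [mem_filter, mem_univ, true_and, List.mem_toFinset] at hg ⊢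
  exact mem_of_coprime_index H g (hc _ hg)

end basic

/-- an element `x` with `x ^ p = 1` acting by conjugation on a finite set `T ∋ 1`, fixing only
`1`: then `|T| ≡ 1 mod p`. -/
theorem card_mod_eq_one_of_fpf {G : Type*} [Group G] (x : G) (p : ℕ) [Fact p.Prime]
    (hx : x ^ p = 1) (T : Set G) [Finite T] (h1 : (1 : G) ∈ T)
    (hT : ∀ t ∈ T, x * t * x⁻¹ ∈ T) (hfix : ∀ t ∈ T, x * t = t * x → t = 1) :
    Nat.card T % p = 1 := by
  classical
  haveI : Fintype T := Fintype.ofFinite T
  let f : Function.End T := fun t => ⟨x * t.1 * x⁻¹, hT t.1 t.2⟩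
  have hpow : ∀ (k : ℕ) (t : T), (((f ^ k) t : T) : G) = x ^ k * t.1 * (x ^ k)⁻¹ := by
    intro k
    induction k with
    | zero => intro t; rw [pow_zero, pow_zero, one_mul, inv_one, mul_one]; rfl
    | succ k ih =>
      intro t
      rw [pow_succ]
      change (((f ^ k) (f t) : T) : G) = _
      rw [ih (f t)]
      simp only [f, pow_succ, mul_inv_rev]
      group
  have hf : f ^ p ^ 1 = 1 := by
    funext t
    apply Subtype.ext
    rw [pow_one, hpow, hx]
    simp only [one_mul, inv_one, mul_one]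
    rfl
  have key := Equiv.Perm.card_fixedPoints_modEq (p := p) (n := 1) hf
  rw [← Nat.card_eq_fintype_card, ← Nat.card_eq_fintype_card] at key
  have hfp : Nat.card (Function.fixedPoints f) = 1 := by
    rw [Nat.card_eq_one_iff_unique]
    refine ⟨⟨?_⟩, ⟨⟨⟨1, h1⟩, ?_⟩⟩⟩
    · have hh : ∀ a : Function.fixedPoints f, (a.1 : G) = 1 := by
        rintro ⟨⟨t, ht⟩, hft⟩
        have h2 : x * t * x⁻¹ = t := congrArg Subtype.val hft
        exact hfix t ht (mul_inv_eq_iff_eq_mul.mp h2)
      intro a b
      apply Subtype.ext; apply Subtype.ext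
      rw [hh a, hh b]
    · show f ⟨1, h1⟩ = ⟨1, h1⟩
      apply Subtype.ext; simp [f]
  rw [hfp] at key
  have h3 := key
  rw [Nat.ModEq, Nat.mod_eq_of_lt (Fact.out : p.Prime).one_lt] at h3
  exact h3

/-- abstract arithmetic data satisfied by `N = |G|` and `s = cnt G` -/
structure NseData (N : ℕ) (s : ℕ → ℕ) : Prop where
  pos : 0 < N
  one : s 1 = 1
  phi : ∀ k, Nat.totient k ∣ s k
  frob : ∀ d, d ∣ N → d ∣ ∑ k ∈ d.divisors, s k
  total : ∑ k ∈ N.divisors, s k = N
  clos : ∀ j k, j ∣ k → s k ≠ 0 → s j ≠ 0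
  supp : ∀ k, s k ≠ 0 → k ∣ N
  sylow : ∀ p a, p.Prime → p ^ a ∣ N → ¬ p ^ (a + 1) ∣ N → s (p ^ a) ≠ 0 →
    ∃ n, s (p ^ a) = Nat.totient (p ^ a) * n ∧ n % p = 1 ∧ n * p ^ a ∣ N ∧
      ∀ i, i ≤ a → s (p ^ i) ≤ Nat.totient (p ^ i) * n

theorem nseData (G : Type*) [Group G] [Finite G] : NseData (Nat.card G) (cnt G) where
  pos := Nat.card_pos
  one := cnt_one
  phi := totient_dvd_cnt
  frob := frob
  total := total
  clos := fun _ _ hjk h => cnt_ne_zero_of_dvd hjk h
  supp := fun _ h => dvd_card_of_cnt_ne_zero h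
  sylow := fun p a hp h1 h2 h3 => by
    haveI : Fact p.Prime := ⟨hp⟩
    exact sylow_count p a h1 h2 h3

namespace NseData

variable {N : ℕ} {s : ℕ → ℕ}

theorem zero (D : NseData N s) : s 0 = 0 := by
  by_contra h
  have := D.supp 0 h
  have := D.pos
  simp_all

theorem clos0 (D : NseData N s) {j k : ℕ} (hjk : j ∣ k) (h : s j = 0) : s k = 0 := by
  by_contra hk
  exact D.clos j k hjk hk h

theorem even_of_three_le (D : NseData N s) {k : ℕ} (hk : 3 ≤ k) : 2 ∣ s k :=
  (Nat.totient_even (by omega)).two_dvd.trans (D.phi k)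

theorem frob_prime (D : NseData N s) {p : ℕ} (hp : p.Prime) (h : p ∣ N) : p ∣ 1 + s p := by
  have := D.frob p h
  rw [hp.sum_divisors, D.one, add_comm] at this
  exact this

theorem prime_ne_zero (D : NseData N s) {p : ℕ} (hp : p.Prime) (h : p ∣ N) : s p ≠ 0 := by
  intro h0
  have := D.frob_prime hp h
  rw [h0] at this
  exact hp.one_lt.ne' (Nat.dvd_one.mp this)

theorem sum_le (D : NseData N s) (l : List ℕ) (hl : l.Nodup) : (l.map s).sum ≤ N := by
  classical
  rw [← List.sum_toFinset _ hl]
  calc ∑ k ∈ l.toFinset, s k = ∑ k ∈ l.toFinset.filter (fun k => k ∣ N), s k := by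
        rw [Finset.sum_filter]
        refine Finset.sum_congr rfl (fun k _ => ?_)
        split_ifs with h
        · rfl
        · by_contra h0; exact h (D.supp k h0)
    _ ≤ ∑ k ∈ N.divisors, s k := by
        apply Finset.sum_le_sum_of_subset
        intro k hk
        rw [Finset.mem_filter] at hk
        exact Nat.mem_divisors.mpr ⟨hk.2, D.pos.ne'⟩
    _ = N := D.total

/-- prime power bounds give a divisibility bound -/
theorem dvd_of_bounds (_D : NseData N s) (L : ℕ)
    (h : ∀ p k, p.Prime → 0 < k → p ^ k ∣ N → p ^ k ∣ L) : N ∣ L := by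
  rw [Nat.dvd_iff_prime_pow_dvd_dvd]
  intro p k hp hpk
  rcases Nat.eq_zero_or_pos k with rfl | hk
  · simp
  · exact h p k hp hk hpk

end NseData

theorem pow_dvd_of_not_dvd {p k a N L : ℕ} (h : p ^ k ∣ N) (hn : ¬ p ^ (a + 1) ∣ N)
    (hL : p ^ a ∣ L) : p ^ k ∣ L := by
  have hka : k ≤ a := by
    by_contra hka
    exact hn ((pow_dvd_pow p (by omega)).trans h)
  exact (pow_dvd_pow p hka).trans hL

end Cfsg.Agent.Lib.Helper58_Nse
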