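import Cfsg.Agent.Lib.Helper58_Nse
import Cfsg.Agent.Lib.Helper58_A6

/-!
# Same-order counts of `A₄`, `A₅`, `A₆` (helper58)
-/

set_option autoImplicit false
set_option linter.style.haveILetI false
set_option linter.unusedSectionVars false

namespace Cfsg.Agent.Lib.Helper58_NseAlt

open Cfsg.Agent.Lib.Helper58_Nse Equiv

theorem cnt_alt (n m : ℕ) (hm : 0 < m) :
    cnt (alternatingGroup (Fin n)) m = (Finset.univ.filter (fun g : Perm (Fin n) =>
      Perm.sign g = 1 ∧ g ^ m = 1 ∧ ∀ d < m, 0 < d → g ^ d ≠ 1)).card := by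
  haveI : Fintype {g : Perm (Fin n) // g ∈ alternatingGroup (Fin n) ∧ orderOf g = m} :=
    Fintype.ofFinite _
  rw [← card_mem_and_orderOf, Nat.card_eq_fintype_card]
  apply Fintype.card_of_subtype
  intro g
  simp only [Finset.mem_filter, Finset.mem_univ, true_and, Perm.mem_alternatingGroup,
    orderOf_eq_iff hm]

theorem cnt_A4_2 : cnt (alternatingGroup (Fin 4)) 2 = 3 := by
  rw [cnt_alt _ _ (by norm_num)]; decide +kernel
theorem cnt_A4_3 : cnt (alternatingGroup (Fin 4)) 3 = 8 := by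
  rw [cnt_alt _ _ (by norm_num)]; decide +kernel
theorem cnt_A5_2 : cnt (alternatingGroup (Fin 5)) 2 = 15 := by
  rw [cnt_alt _ _ (by norm_num)]; decide +kernel
theorem cnt_A5_3 : cnt (alternatingGroup (Fin 5)) 3 = 20 := by
  rw [cnt_alt _ _ (by norm_num)]; decide +kernel
theorem cnt_A5_5 : cnt (alternatingGroup (Fin 5)) 5 = 24 := by
  rw [cnt_alt _ _ (by norm_num)]; decide +kernel
theorem cnt_A6_2 : cnt (alternatingGroup (Fin 6)) 2 = 45 := by
  rw [cnt_alt _ _ (by norm_num)]; decide +kernel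
theorem cnt_A6_3 : cnt (alternatingGroup (Fin 6)) 3 = 80 := by
  rw [cnt_alt _ _ (by norm_num)]; decide +kernel
theorem cnt_A6_4 : cnt (alternatingGroup (Fin 6)) 4 = 90 := by
  rw [cnt_alt _ _ (by norm_num)]; decide +kernel
theorem cnt_A6_5 : cnt (alternatingGroup (Fin 6)) 5 = 144 := by
  rw [cnt_alt _ _ (by norm_num)]; decide +kernel

theorem a4_pow : ∀ g : Perm (Fin 4), Perm.sign g = 1 → g ^ 2 = 1 ∨ g ^ 3 = 1 := by
  decide +kernel
theorem a5_pow : ∀ g : Perm (Fin 5), Perm.sign g = 1 → g ^ 2 = 1 ∨ g ^ 3 = 1 ∨ g ^ 5 = 1 := by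
  decide +kernel

theorem orderOf_dvd_of_coe_pow {n k : ℕ} (g : alternatingGroup (Fin n))
    (h : (g : Perm (Fin n)) ^ k = 1) : orderOf g ∣ k :=
  orderOf_dvd_of_pow_eq_one (Subtype.ext (by simpa using h))

theorem spec_A4 (g : alternatingGroup (Fin 4)) :
    orderOf g = 1 ∨ orderOf g = 2 ∨ orderOf g = 3 := by
  rcases a4_pow g.1 (Perm.mem_alternatingGroup.mp g.2) with h | h
  · have hm : orderOf g ∈ Nat.divisors 2 :=
      Nat.mem_divisors.mpr ⟨orderOf_dvd_of_coe_pow g h, by norm_num⟩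
    simp only [Nat.divisors_ofNat, Finset.mem_insert, Finset.mem_singleton] at hm
    omega
  · have hm : orderOf g ∈ Nat.divisors 3 :=
      Nat.mem_divisors.mpr ⟨orderOf_dvd_of_coe_pow g h, by norm_num⟩
    simp only [Nat.divisors_ofNat, Finset.mem_insert, Finset.mem_singleton] at hm
    omega

theorem spec_A5 (g : alternatingGroup (Fin 5)) :
    orderOf g = 1 ∨ orderOf g = 2 ∨ orderOf g = 3 ∨ orderOf g = 5 := by
  rcases a5_pow g.1 (Perm.mem_alternatingGroup.mp g.2) with h | h | h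
  · have hm : orderOf g ∈ Nat.divisors 2 :=
      Nat.mem_divisors.mpr ⟨orderOf_dvd_of_coe_pow g h, by norm_num⟩
    simp only [Nat.divisors_ofNat, Finset.mem_insert, Finset.mem_singleton] at hm
    omega
  · have hm : orderOf g ∈ Nat.divisors 3 :=
      Nat.mem_divisors.mpr ⟨orderOf_dvd_of_coe_pow g h, by norm_num⟩
    simp only [Nat.divisors_ofNat, Finset.mem_insert, Finset.mem_singleton] at hm
    omega
  · have hm : orderOf g ∈ Nat.divisors 5 :=
      Nat.mem_divisors.mpr ⟨orderOf_dvd_of_coe_pow g h, by norm_num⟩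
    simp only [Nat.divisors_ofNat, Finset.mem_insert, Finset.mem_singleton] at hm
    omega

theorem spec_A6' (g : alternatingGroup (Fin 6)) :
    orderOf g = 1 ∨ orderOf g = 2 ∨ orderOf g = 3 ∨ orderOf g = 4 ∨ orderOf g = 5 := by
  rcases Cfsg.Agent.Lib.Helper58_A6.a6_pow g.1 (Perm.mem_alternatingGroup.mp g.2) with h | h | h
  · have hm : orderOf g ∈ Nat.divisors 3 :=
      Nat.mem_divisors.mpr ⟨orderOf_dvd_of_coe_pow g h, by norm_num⟩
    simp only [Nat.divisors_ofNat, Finset.mem_insert, Finset.mem_singleton] at hm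
    omega
  · have hm : orderOf g ∈ Nat.divisors 4 :=
      Nat.mem_divisors.mpr ⟨orderOf_dvd_of_coe_pow g h, by norm_num⟩
    simp only [Nat.divisors_ofNat, Finset.mem_insert, Finset.mem_singleton] at hm
    omega
  · have hm : orderOf g ∈ Nat.divisors 5 :=
      Nat.mem_divisors.mpr ⟨orderOf_dvd_of_coe_pow g h, by norm_num⟩
    simp only [Nat.divisors_ofNat, Finset.mem_insert, Finset.mem_singleton] at hm
    omega

theorem nse_A4 : ((fun m : ℕ => Nat.card {g : ↥(alternatingGroup (Fin 4)) // orderOf g = m}) ''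
    Set.range (orderOf : ↥(alternatingGroup (Fin 4)) → ℕ)) = {1, 3, 8} := by
  ext v
  simp only [Set.mem_image, Set.mem_range, Set.mem_insert_iff, Set.mem_singleton_iff]
  constructor
  · rintro ⟨m, ⟨g, rfl⟩, rfl⟩
    rcases spec_A4 g with h | h | h <;> rw [h]
    · left; exact cnt_one
    · right; left; exact cnt_A4_2
    · right; right; exact cnt_A4_3
  · rintro (rfl | rfl | rfl)
    · exact ⟨1, ⟨1, orderOf_one⟩, cnt_one⟩
    · obtain ⟨g, hg⟩ := (cnt_ne_zero_iff 2).mp (by rw [cnt_A4_2]; norm_num)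
      exact ⟨2, ⟨g, hg⟩, cnt_A4_2⟩
    · obtain ⟨g, hg⟩ := (cnt_ne_zero_iff 3).mp (by rw [cnt_A4_3]; norm_num)
      exact ⟨3, ⟨g, hg⟩, cnt_A4_3⟩

theorem nse_A5 : ((fun m : ℕ => Nat.card {g : ↥(alternatingGroup (Fin 5)) // orderOf g = m}) ''
    Set.range (orderOf : ↥(alternatingGroup (Fin 5)) → ℕ)) = {1, 15, 20, 24} := by
  ext v
  simp only [Set.mem_image, Set.mem_range, Set.mem_insert_iff, Set.mem_singleton_iff]
  constructor
  · rintro ⟨m, ⟨g, rfl⟩, rfl⟩
    rcases spec_A5 g with h | h | h | h <;> rw [h]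
    · left; exact cnt_one
    · right; left; exact cnt_A5_2
    · right; right; left; exact cnt_A5_3
    · right; right; right; exact cnt_A5_5
  · rintro (rfl | rfl | rfl | rfl)
    · exact ⟨1, ⟨1, orderOf_one⟩, cnt_one⟩
    · obtain ⟨g, hg⟩ := (cnt_ne_zero_iff 2).mp (by rw [cnt_A5_2]; norm_num)
      exact ⟨2, ⟨g, hg⟩, cnt_A5_2⟩
    · obtain ⟨g, hg⟩ := (cnt_ne_zero_iff 3).mp (by rw [cnt_A5_3]; norm_num)
      exact ⟨3, ⟨g, hg⟩, cnt_A5_3⟩
    · obtain ⟨g, hg⟩ := (cnt_ne_zero_iff 5).mp (by rw [cnt_A5_5]; norm_num)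
      exact ⟨5, ⟨g, hg⟩, cnt_A5_5⟩

theorem nse_A6 : ((fun m : ℕ => Nat.card {g : ↥(alternatingGroup (Fin 6)) // orderOf g = m}) ''
    Set.range (orderOf : ↥(alternatingGroup (Fin 6)) → ℕ)) = {1, 45, 80, 90, 144} := by
  ext v
  simp only [Set.mem_image, Set.mem_range, Set.mem_insert_iff, Set.mem_singleton_iff]
  constructor
  · rintro ⟨m, ⟨g, rfl⟩, rfl⟩
    rcases spec_A6' g with h | h | h | h | h <;> rw [h]
    · left; exact cnt_one
    · right; left; exact cnt_A6_2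
    · right; right; left; exact cnt_A6_3
    · right; right; right; left; exact cnt_A6_4
    · right; right; right; right; exact cnt_A6_5
  · rintro (rfl | rfl | rfl | rfl | rfl)
    · exact ⟨1, ⟨1, orderOf_one⟩, cnt_one⟩
    · obtain ⟨g, hg⟩ := (cnt_ne_zero_iff 2).mp (by rw [cnt_A6_2]; norm_num)
      exact ⟨2, ⟨g, hg⟩, cnt_A6_2⟩
    · obtain ⟨g, hg⟩ := (cnt_ne_zero_iff 3).mp (by rw [cnt_A6_3]; norm_num)
      exact ⟨3, ⟨g, hg⟩, cnt_A6_3⟩
    · obtain ⟨g, hg⟩ := (cnt_ne_zero_iff 4).mp (by rw [cnt_A6_4]; norm_num)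
      exact ⟨4, ⟨g, hg⟩, cnt_A6_4⟩
    · obtain ⟨g, hg⟩ := (cnt_ne_zero_iff 5).mp (by rw [cnt_A6_5]; norm_num)
      exact ⟨5, ⟨g, hg⟩, cnt_A6_5⟩

end Cfsg.Agent.Lib.Helper58_NseAlt
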