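import Cfsg.Agent.Lib.Helper58_Nse

/-!
# Arithmetic of the same-order counts of `A₄`, `A₅`, `A₆` (helper58)
-/

set_option autoImplicit false
set_option linter.style.haveILetI false
set_option linter.unusedSectionVars false

namespace Cfsg.Agent.Lib.Helper58_NseArith

open Cfsg.Agent.Lib.Helper58_Nse

theorem arith_A4 {N : ℕ} {s : ℕ → ℕ} (D : NseData N s)
    (hval : ∀ k, s k = 0 ∨ s k = 1 ∨ s k = 3 ∨ s k = 8)
    (h3 : ∃ k, s k = 3) (h8 : ∃ k, s k = 8) : N = 12 ∧ s 3 = 8 := by
  have hv : ∀ k, 3 ≤ k → s k = 0 ∨ s k = 8 := by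
    intro k hk
    have := D.even_of_three_le hk
    rcases hval k with h | h | h | h <;> rw [h] at this <;> omega
  have hs2 : s 2 = 3 := by
    obtain ⟨k, hk⟩ := h3
    have : k ≤ 2 := by
      by_contra hk2
      rcases hv k (by omega) with h | h <;> omega
    interval_cases k
    · rw [D.zero] at hk; omega
    · rw [D.one] at hk; omega
    · exact hk
  have h2N : 2 ∣ N := D.supp 2 (by rw [hs2]; norm_num)
  have hpr : ∀ p, p.Prime → p ∣ N → p = 2 ∨ p = 3 := by
    intro p hp hpN
    have h1 := D.frob_prime hp hpN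
    have h0 := D.prime_ne_zero hp hpN
    by_cases hp2 : p = 2
    · exact Or.inl hp2
    · have hp3 : 3 ≤ p := by have := hp.two_le; omega
      rcases hv p hp3 with h | h
      · exact absurd h h0
      · rw [h] at h1
        have hmem : p ∈ Nat.divisors 9 := Nat.mem_divisors.mpr ⟨h1, by norm_num⟩
        simp [Nat.divisors_ofNat] at hmem
        rcases hmem with rfl | rfl | rfl
        · exact absurd hp (by norm_num)
        · exact Or.inr rfl
        · exact absurd hp (by norm_num)
  have hs3 : 3 ∣ N → s 3 = 8 := by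
    intro h
    have h0 := D.prime_ne_zero Nat.prime_three h
    rcases hv 3 le_rfl with h' | h'
    · exact absurd h' h0
    · exact h'
  have h8N : ¬ 2 ^ (2 + 1) ∣ N := by
    intro h
    have f8 := D.frob 8 h
    simp [Nat.divisors_ofNat] at f8
    rw [D.one, hs2] at f8
    rcases hv 4 (by norm_num) with h4 | h4 <;> rcases hv 8 (by norm_num) with h8' | h8' <;>
      rw [h4, h8'] at f8 <;> omega
  have h9N : ¬ 3 ^ (1 + 1) ∣ N := by
    intro h
    have h9 : 9 ∣ N := h
    have h3N : 3 ∣ N := by omega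
    have f9 := D.frob 9 h9
    simp [Nat.divisors_ofNat] at f9
    rw [D.one, hs3 h3N] at f9
    have hs9 : s 9 = 0 := by
      rcases hv 9 (by norm_num) with h' | h'
      · exact h'
      · rw [h'] at f9; omega
    have h18 : 18 ∣ N := by omega
    have f18 := D.frob 18 h18
    simp [Nat.divisors_ofNat] at f18
    rw [D.one, hs2, hs3 h3N, hs9, D.clos0 (by norm_num : 9 ∣ 18) hs9] at f18
    rcases hv 6 (by norm_num) with h6 | h6 <;> rw [h6] at f18 <;> omega
  have hN12 : N ∣ 12 := by
    apply D.dvd_of_bounds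
    intro p k hp hk hpk
    rcases hpr p hp (dvd_trans (dvd_pow_self p hk.ne') hpk) with rfl | rfl
    · exact pow_dvd_of_not_dvd hpk h8N (by norm_num)
    · exact pow_dvd_of_not_dvd hpk h9N (by norm_num)
  obtain ⟨k8, hk8⟩ := h8
  have hge : 12 ≤ N := by
    have := D.sum_le [1, 2, k8] (List.Nodup.of_map s (by simp [D.one, hs2, hk8]))
    simpa [D.one, hs2, hk8] using this
  have hN : N = 12 := le_antisymm (Nat.le_of_dvd (by norm_num) hN12) hge
  exact ⟨hN, hs3 (by rw [hN]; norm_num)⟩

theorem tot7 : Nat.totient 7 = 6 := by decide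
theorem tot9 : Nat.totient (3 ^ 2) = 6 := by decide
theorem tot3 : Nat.totient (3 ^ 1) = 2 := by decide
theorem tot5 : Nat.totient (5 ^ 1) = 4 := by decide
theorem tot32 : Nat.totient 32 = 16 := by decide

theorem arith_A5 {N : ℕ} {s : ℕ → ℕ} (D : NseData N s)
    (hval : ∀ k, s k = 0 ∨ s k = 1 ∨ s k = 15 ∨ s k = 20 ∨ s k = 24)
    (h15 : ∃ k, s k = 15) (h20 : ∃ k, s k = 20) (h24 : ∃ k, s k = 24) :
    N = 60 ∧ s 2 = 15 ∧ s 3 = 20 ∧ s 5 = 24 ∧
      ∀ k, s k ≠ 0 → k = 1 ∨ k = 2 ∨ k = 3 ∨ k = 5 := by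
  have hv : ∀ k, 3 ≤ k → s k = 0 ∨ s k = 20 ∨ s k = 24 := by
    intro k hk
    have := D.even_of_three_le hk
    rcases hval k with h | h | h | h | h <;> rw [h] at this <;> omega
  have hs2 : s 2 = 15 := by
    obtain ⟨k, hk⟩ := h15
    have : k ≤ 2 := by
      by_contra hk2
      rcases hv k (by omega) with h | h | h <;> omega
    interval_cases k
    · rw [D.zero] at hk; omega
    · rw [D.one] at hk; omega
    · exact hk
  have h2N : 2 ∣ N := D.supp 2 (by rw [hs2]; norm_num)
  have hpr : ∀ p, p.Prime → p ∣ N → p = 2 ∨ p = 3 ∨ p = 5 := by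
    intro p hp hpN
    have h1 := D.frob_prime hp hpN
    have h0 := D.prime_ne_zero hp hpN
    by_cases hp2 : p = 2
    · exact Or.inl hp2
    · have hp3 : 3 ≤ p := by have := hp.two_le; omega
      rcases hv p hp3 with h | h | h
      · exact absurd h h0
      · rw [h] at h1
        have hmem : p ∈ Nat.divisors 21 := Nat.mem_divisors.mpr ⟨h1, by norm_num⟩
        simp [Nat.divisors_ofNat] at hmem
        rcases hmem with rfl | rfl | rfl | rfl
        · exact absurd hp (by norm_num)
        · exact Or.inr (Or.inl rfl)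
        · have := D.phi 7
          rw [h, tot7] at this
          omega
        · exact absurd hp (by norm_num)
      · rw [h] at h1
        have hmem : p ∈ Nat.divisors 25 := Nat.mem_divisors.mpr ⟨h1, by norm_num⟩
        simp [Nat.divisors_ofNat] at hmem
        rcases hmem with rfl | rfl | rfl
        · exact absurd hp (by norm_num)
        · exact Or.inr (Or.inr rfl)
        · exact absurd hp (by norm_num)
  have hs3 : 3 ∣ N → s 3 = 20 := by
    intro h
    have h1 := D.frob_prime Nat.prime_three h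
    rcases hv 3 le_rfl with h' | h' | h' <;> rw [h'] at h1 <;> omega
  have hs5 : 5 ∣ N → s 5 = 24 := by
    intro h
    have h1 := D.frob_prime Nat.prime_five h
    rcases hv 5 (by norm_num) with h' | h' | h' <;> rw [h'] at h1 <;> omega
  have h25N : ¬ 5 ^ (1 + 1) ∣ N := by
    intro h
    have h25 : 25 ∣ N := h
    have h5N : 5 ∣ N := by omega
    have f25 := D.frob 25 h25
    simp [Nat.divisors_ofNat] at f25
    rw [D.one, hs5 h5N] at f25
    have hs25 : s 25 = 0 := by
      rcases hv 25 (by norm_num) with h' | h' | h' <;> rw [h'] at f25 <;> omega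
    have h50 : 50 ∣ N := by omega
    have f50 := D.frob 50 h50
    simp [Nat.divisors_ofNat] at f50
    rw [D.one, hs2, hs5 h5N, hs25, D.clos0 (by norm_num : 25 ∣ 50) hs25] at f50
    rcases hv 10 (by norm_num) with h' | h' | h' <;> rw [h'] at f50 <;> omega
  have hs9 : 9 ∣ N → s 9 = 24 := by
    intro h9
    have h3N : 3 ∣ N := by omega
    have f9 := D.frob 9 h9
    simp [Nat.divisors_ofNat] at f9
    rw [D.one, hs3 h3N] at f9
    rcases hv 9 (by norm_num) with h' | h' | h' <;> rw [h'] at f9 <;> omega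
  have h27N : ¬ 3 ^ (2 + 1) ∣ N := by
    intro h
    have h27 : 27 ∣ N := h
    have h9 : 9 ∣ N := by omega
    have h3N : 3 ∣ N := by omega
    have f27 := D.frob 27 h27
    simp [Nat.divisors_ofNat] at f27
    rw [D.one, hs3 h3N, hs9 h9] at f27
    rcases hv 27 (by norm_num) with h' | h' | h' <;> rw [h'] at f27 <;> omega
  have h9N : ¬ 3 ^ (1 + 1) ∣ N := by
    intro h
    have h9 : 9 ∣ N := h
    have h3N : 3 ∣ N := by omega
    obtain ⟨n, e1, -, -, e4⟩ := D.sylow 3 2 Nat.prime_three h h27N
      (by rw [show (3 : ℕ) ^ 2 = 9 by norm_num, hs9 h9]; norm_num)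
    have e5 := e4 1 (by norm_num)
    rw [tot9, show (3 : ℕ) ^ 2 = 9 by norm_num, hs9 h9] at e1
    rw [tot3, pow_one, hs3 h3N] at e5
    omega
  have h3to5 : 3 ∣ N → 5 ∣ N := by
    intro h3N
    obtain ⟨n, e1, -, e3, -⟩ := D.sylow 3 1 Nat.prime_three (by simpa using h3N) h9N
      (by rw [pow_one, hs3 h3N]; norm_num)
    rw [tot3, pow_one, hs3 h3N] at e1
    have hn : n = 10 := by omega
    subst hn
    norm_num at e3
    omega
  have h5to3 : 5 ∣ N → 3 ∣ N := by
    intro h5N
    obtain ⟨n, e1, -, e3, -⟩ := D.sylow 5 1 Nat.prime_five (by simpa using h5N) h25N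
      (by rw [pow_one, hs5 h5N]; norm_num)
    rw [tot5, pow_one, hs5 h5N] at e1
    have hn : n = 6 := by omega
    subst hn
    norm_num at e3
    omega
  by_cases h3N : 3 ∣ N
  · have h5N := h3to5 h3N
    have h15N : 15 ∣ N := by omega
    have h6N : 6 ∣ N := by omega
    have h10N : 10 ∣ N := by omega
    have h30N : 30 ∣ N := by omega
    have f15 := D.frob 15 h15N
    simp [Nat.divisors_ofNat] at f15
    rw [D.one, hs3 h3N, hs5 h5N] at f15
    have hs15 : s 15 = 0 := by
      rcases hv 15 (by norm_num) with h' | h' | h' <;> rw [h'] at f15 <;> omega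
    have f6 := D.frob 6 h6N
    simp [Nat.divisors_ofNat] at f6
    rw [D.one, hs2, hs3 h3N] at f6
    have f10 := D.frob 10 h10N
    simp [Nat.divisors_ofNat] at f10
    rw [D.one, hs2, hs5 h5N] at f10
    have f30 := D.frob 30 h30N
    simp [Nat.divisors_ofNat] at f30
    rw [D.one, hs2, hs3 h3N, hs5 h5N, hs15, D.clos0 (by norm_num : 15 ∣ 30) hs15] at f30
    have hs6 : s 6 = 0 := by
      rcases hv 6 (by norm_num) with h' | h' | h' <;> rcases hv 10 (by norm_num) with h'' | h'' | h'' <;>
        rw [h'] at f6 f30 <;> rw [h''] at f10 f30 <;> omega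
    have hs10 : s 10 = 0 := by
      rcases hv 10 (by norm_num) with h'' | h'' | h'' <;>
        rw [hs6] at f30 <;> rw [h''] at f10 f30 <;> omega
    have h8N : ¬ 2 ^ (2 + 1) ∣ N := by
      intro h
      have h8 : 8 ∣ N := h
      have h24 : 24 ∣ N := by omega
      have f8 := D.frob 8 h8
      simp [Nat.divisors_ofNat] at f8
      rw [D.one, hs2] at f8
      have f24 := D.frob 24 h24
      simp [Nat.divisors_ofNat] at f24
      rw [D.one, hs2, hs3 h3N, hs6, D.clos0 (by norm_num : 6 ∣ 12) hs6,
        D.clos0 (by norm_num : 6 ∣ 24) hs6] at f24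
      omega
    have hN60 : N ∣ 60 := by
      apply D.dvd_of_bounds
      intro p k hp hk hpk
      rcases hpr p hp (dvd_trans (dvd_pow_self p hk.ne') hpk) with rfl | rfl | rfl
      · exact pow_dvd_of_not_dvd hpk h8N (by norm_num)
      · exact pow_dvd_of_not_dvd hpk h9N (by norm_num)
      · exact pow_dvd_of_not_dvd hpk h25N (by norm_num)
    have hle : N ≤ 60 := Nat.le_of_dvd (by norm_num) hN60
    obtain ⟨m, hm⟩ := h30N
    have hpos := D.pos
    have hm12 : m = 1 ∨ m = 2 := by omega
    rcases hm12 with rfl | rfl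
    · exfalso
      have hN : N = 30 := by omega
      subst hN
      have t := D.total
      simp [Nat.divisors_ofNat] at t
      rw [D.one, hs2, hs3 h3N, hs5 h5N] at t
      omega
    · have hN : N = 60 := by omega
      subst hN
      have t := D.total
      simp [Nat.divisors_ofNat] at t
      rw [D.one, hs2, hs3 h3N, hs5 h5N, hs6, hs10, hs15,
        D.clos0 (by norm_num : 15 ∣ 30) hs15, D.clos0 (by norm_num : 6 ∣ 12) hs6] at t
      refine ⟨rfl, hs2, hs3 h3N, hs5 h5N, ?_⟩
      intro k hk
      have hk60 := D.supp k hk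
      have hmem : k ∈ Nat.divisors 60 := Nat.mem_divisors.mpr ⟨hk60, by norm_num⟩
      simp [Nat.divisors_ofNat] at hmem
      have hs12 := D.clos0 (by norm_num : 6 ∣ 12) hs6
      have hs30 := D.clos0 (by norm_num : 15 ∣ 30) hs15
      rcases hmem with rfl | rfl | rfl | rfl | rfl | rfl | rfl | rfl | rfl | rfl | rfl | rfl <;>
        omega
  · exfalso
    have h5N : ¬ 5 ∣ N := fun h => h3N (h5to3 h)
    have hs32 : s 32 = 0 := by
      have := D.phi 32
      rw [tot32] at this
      rcases hv 32 (by norm_num) with h' | h' | h' <;> rw [h'] at this <;> omega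
    have h128N : ¬ 2 ^ (6 + 1) ∣ N := by
      intro h
      have h128 : 128 ∣ N := h
      have f := D.frob 128 h128
      simp [Nat.divisors_ofNat] at f
      rw [D.one, hs2, hs32, D.clos0 (by norm_num : 32 ∣ 64) hs32,
        D.clos0 (by norm_num : 32 ∣ 128) hs32] at f
      rcases hv 4 (by norm_num) with h4 | h4 | h4 <;> rcases hv 8 (by norm_num) with h8 | h8 | h8 <;>
        rcases hv 16 (by norm_num) with h16 | h16 | h16 <;> rw [h4, h8, h16] at f <;> omega
    have hN64 : N ∣ 64 := by
      apply D.dvd_of_bounds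
      intro p k hp hk hpk
      rcases hpr p hp (dvd_trans (dvd_pow_self p hk.ne') hpk) with rfl | rfl | rfl
      · exact pow_dvd_of_not_dvd hpk h128N (by norm_num)
      · exact absurd (dvd_trans (dvd_pow_self 3 hk.ne') hpk) h3N
      · exact absurd (dvd_trans (dvd_pow_self 5 hk.ne') hpk) h5N
    obtain ⟨k20, hk20⟩ := h20
    obtain ⟨k24, hk24⟩ := h24
    have hge : 60 ≤ N := by
      have := D.sum_le [1, 2, k20, k24] (List.Nodup.of_map s (by simp [D.one, hs2, hk20, hk24]))
      simpa [D.one, hs2, hk20, hk24] using this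
    have hle : N ≤ 64 := Nat.le_of_dvd (by norm_num) hN64
    have hN : N = 64 := by
      interval_cases N <;> first | rfl | omega
    subst hN
    have t := D.total
    simp [Nat.divisors_ofNat] at t
    rw [D.one, hs2, hs32, D.clos0 (by norm_num : 32 ∣ 64) hs32] at t
    have hk : k20 ∣ 64 := D.supp k20 (by rw [hk20]; norm_num)
    have hmem : k20 ∈ Nat.divisors 64 := Nat.mem_divisors.mpr ⟨hk, by norm_num⟩
    simp [Nat.divisors_ofNat] at hmem
    have hs64 := D.clos0 (by norm_num : 32 ∣ 64) hs32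
    have one := D.one
    rcases hv 4 (by norm_num) with h4 | h4 | h4 <;> rcases hv 8 (by norm_num) with h8 | h8 | h8 <;>
      rcases hv 16 (by norm_num) with h16 | h16 | h16 <;>
      rcases hmem with rfl | rfl | rfl | rfl | rfl | rfl | rfl <;> omega

theorem tot13 : Nat.totient 13 = 12 := by decide
theorem tot29 : Nat.totient 29 = 28 := by decide
theorem tot35 : Nat.totient 35 = 24 := by decide
theorem tot71 : Nat.totient (7 ^ 1) = 6 := by decide
theorem tot25 : Nat.totient (5 ^ 2) = 20 := by decide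

set_option maxHeartbeats 800000 in
theorem arith_A6 {N : ℕ} {s : ℕ → ℕ} (D : NseData N s)
    (hval : ∀ k, s k = 0 ∨ s k = 1 ∨ s k = 45 ∨ s k = 80 ∨ s k = 90 ∨ s k = 144)
    (h45 : ∃ k, s k = 45) (h80 : ∃ k, s k = 80) (h90 : ∃ k, s k = 90)
    (h144 : ∃ k, s k = 144) :
    N = 360 ∧ s 2 = 45 ∧ s 3 = 80 ∧ s 4 = 90 ∧ s 5 = 144 ∧
      ∀ k, s k ≠ 0 → k = 1 ∨ k = 2 ∨ k = 3 ∨ k = 4 ∨ k = 5 := by
  have hv : ∀ k, 3 ≤ k → s k = 0 ∨ s k = 80 ∨ s k = 90 ∨ s k = 144 := by
    intro k hk
    have := D.even_of_three_le hk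
    rcases hval k with h | h | h | h | h | h <;> rw [h] at this <;> omega
  have hs2 : s 2 = 45 := by
    obtain ⟨k, hk⟩ := h45
    have : k ≤ 2 := by
      by_contra hk2
      rcases hv k (by omega) with h | h | h | h <;> omega
    interval_cases k
    · rw [D.zero] at hk; omega
    · rw [D.one] at hk; omega
    · exact hk
  have h2N : 2 ∣ N := D.supp 2 (by rw [hs2]; norm_num)
  have hpr : ∀ p, p.Prime → p ∣ N → p = 2 ∨ p = 3 ∨ p = 5 ∨ p = 7 := by
    intro p hp hpN
    have h1 := D.frob_prime hp hpN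
    have h0 := D.prime_ne_zero hp hpN
    by_cases hp2 : p = 2
    · exact Or.inl hp2
    · have hp3 : 3 ≤ p := by have := hp.two_le; omega
      rcases hv p hp3 with h | h | h | h
      · exact absurd h h0
      · rw [h] at h1
        have hmem : p ∈ Nat.divisors 81 := Nat.mem_divisors.mpr ⟨h1, by norm_num⟩
        simp [Nat.divisors_ofNat] at hmem
        rcases hmem with rfl | rfl | rfl | rfl | rfl
        · exact absurd hp (by norm_num)
        · exact Or.inr (Or.inl rfl)
        · exact absurd hp (by norm_num)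
        · exact absurd hp (by norm_num)
        · exact absurd hp (by norm_num)
      · rw [h] at h1
        have hmem : p ∈ Nat.divisors 91 := Nat.mem_divisors.mpr ⟨h1, by norm_num⟩
        simp [Nat.divisors_ofNat] at hmem
        rcases hmem with rfl | rfl | rfl | rfl
        · exact absurd hp (by norm_num)
        · exact Or.inr (Or.inr (Or.inr rfl))
        · have := D.phi 13
          rw [h, tot13] at this
          omega
        · exact absurd hp (by norm_num)
      · rw [h] at h1
        have hmem : p ∈ Nat.divisors 145 := Nat.mem_divisors.mpr ⟨h1, by norm_num⟩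
        simp [Nat.divisors_ofNat] at hmem
        rcases hmem with rfl | rfl | rfl | rfl
        · exact absurd hp (by norm_num)
        · exact Or.inr (Or.inr (Or.inl rfl))
        · have := D.phi 29
          rw [h, tot29] at this
          omega
        · exact absurd hp (by norm_num)
  have hs3 : 3 ∣ N → s 3 = 80 := by
    intro h
    have h1 := D.frob_prime Nat.prime_three h
    rcases hv 3 le_rfl with h' | h' | h' | h' <;> rw [h'] at h1 <;> omega
  have hs5 : 5 ∣ N → s 5 = 144 := by
    intro h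
    have h1 := D.frob_prime Nat.prime_five h
    rcases hv 5 (by norm_num) with h' | h' | h' | h' <;> rw [h'] at h1 <;> omega
  have hs7 : 7 ∣ N → s 7 = 90 := by
    intro h
    have h1 := D.frob_prime (by norm_num : Nat.Prime 7) h
    rcases hv 7 (by norm_num) with h' | h' | h' | h' <;> rw [h'] at h1 <;> omega
  have h49N : ¬ 7 ^ (1 + 1) ∣ N := by
    intro h
    have h49 : 49 ∣ N := h
    have h7N : 7 ∣ N := by omega
    have f := D.frob 49 h49
    simp [Nat.divisors_ofNat] at f
    rw [D.one, hs7 h7N] at f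
    rcases hv 49 (by norm_num) with h' | h' | h' | h' <;> rw [h'] at f <;> omega
  have h7N : ¬ 7 ∣ N := by
    intro h7N
    obtain ⟨n, e1, -, e3, -⟩ := D.sylow 7 1 (by norm_num) (by simpa using h7N) h49N
      (by rw [pow_one, hs7 h7N]; norm_num)
    rw [tot71, pow_one, hs7 h7N] at e1
    have hn : n = 15 := by omega
    subst hn
    norm_num at e3
    have h5N : 5 ∣ N := by omega
    have h35 : 35 ∣ N := by omega
    have f := D.frob 35 h35
    simp [Nat.divisors_ofNat] at f
    rw [D.one, hs5 h5N, hs7 h7N] at f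
    have hphi := D.phi 35
    rw [tot35] at hphi
    rcases hv 35 (by norm_num) with h' | h' | h' | h' <;> rw [h'] at f hphi <;> omega
  have hs25 : 25 ∣ N → s 25 = 80 := by
    intro h25
    have h5N : 5 ∣ N := by omega
    have f := D.frob 25 h25
    simp [Nat.divisors_ofNat] at f
    rw [D.one, hs5 h5N] at f
    rcases hv 25 (by norm_num) with h' | h' | h' | h' <;> rw [h'] at f <;> omega
  have h125N : ¬ 5 ^ (2 + 1) ∣ N := by
    intro h
    have h125 : 125 ∣ N := h
    have h25 : 25 ∣ N := by omega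
    have h5N : 5 ∣ N := by omega
    have f := D.frob 125 h125
    simp [Nat.divisors_ofNat] at f
    rw [D.one, hs5 h5N, hs25 h25] at f
    rcases hv 125 (by norm_num) with h' | h' | h' | h' <;> rw [h'] at f <;> omega
  have h25N : ¬ 5 ^ (1 + 1) ∣ N := by
    intro h
    have h25 : 25 ∣ N := h
    obtain ⟨n, e1, e2, -, -⟩ := D.sylow 5 2 Nat.prime_five h h125N
      (by rw [show (5 : ℕ) ^ 2 = 25 by norm_num, hs25 h25]; norm_num)
    rw [tot25, show (5 : ℕ) ^ 2 = 25 by norm_num, hs25 h25] at e1
    omega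
  have hs9 : s 9 = 0 := by
    by_contra hne
    have h9 : 9 ∣ N := D.supp 9 hne
    have h3N : 3 ∣ N := by omega
    have f9 := D.frob 9 h9
    simp [Nat.divisors_ofNat] at f9
    rw [D.one, hs3 h3N] at f9
    have h27N : ¬ 3 ^ (2 + 1) ∣ N := by
      intro h
      have h27 : 27 ∣ N := h
      have f27 := D.frob 27 h27
      simp [Nat.divisors_ofNat] at f27
      rw [D.one, hs3 h3N] at f27
      rcases hv 9 (by norm_num) with h' | h' | h' | h' <;>
        rcases hv 27 (by norm_num) with h'' | h'' | h'' | h'' <;>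
        rw [h'] at f9 f27 hne <;> rw [h''] at f27 <;> omega
    obtain ⟨n, e1, e2, -, -⟩ := D.sylow 3 2 Nat.prime_three h9 h27N
      (by rw [show (3 : ℕ) ^ 2 = 9 by norm_num]; exact hne)
    rw [tot9, show (3 : ℕ) ^ 2 = 9 by norm_num] at e1
    rcases hv 9 (by norm_num) with h' | h' | h' | h' <;> rw [h'] at f9 e1 hne <;> omega
  have h81N : ¬ 3 ^ (3 + 1) ∣ N := by
    intro h
    have h81 : 81 ∣ N := h
    have h3N : 3 ∣ N := by omega
    have h162 : 162 ∣ N := by omega
    have f := D.frob 162 h162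
    simp [Nat.divisors_ofNat] at f
    rw [D.one, hs2, hs3 h3N, hs9, D.clos0 (by norm_num : 9 ∣ 18) hs9,
      D.clos0 (by norm_num : 9 ∣ 27) hs9, D.clos0 (by norm_num : 9 ∣ 54) hs9,
      D.clos0 (by norm_num : 9 ∣ 81) hs9, D.clos0 (by norm_num : 9 ∣ 162) hs9] at f
    rcases hv 6 (by norm_num) with h' | h' | h' | h' <;> rw [h'] at f <;> omega
  have hs4 : 4 ∣ N → s 4 = 90 := by
    intro h4
    have f := D.frob 4 h4
    simp [Nat.divisors_ofNat] at f
    rw [D.one, hs2] at f
    rcases hv 4 (by norm_num) with h' | h' | h' | h' <;> rw [h'] at f <;> omega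
  have h16N : ¬ 2 ^ (3 + 1) ∣ N := by
    intro h
    have h16 : 16 ∣ N := h
    have h8 : 8 ∣ N := by omega
    have h4 : 4 ∣ N := by omega
    have f8 := D.frob 8 h8
    simp [Nat.divisors_ofNat] at f8
    rw [D.one, hs2, hs4 h4] at f8
    have f16 := D.frob 16 h16
    simp [Nat.divisors_ofNat] at f16
    rw [D.one, hs2, hs4 h4] at f16
    rcases hv 8 (by norm_num) with h' | h' | h' | h' <;>
      rcases hv 16 (by norm_num) with h'' | h'' | h'' | h'' <;>
      rw [h'] at f8 f16 <;> rw [h''] at f16 <;> omega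
  have hN1080 : N ∣ 1080 := by
    apply D.dvd_of_bounds
    intro p k hp hk hpk
    rcases hpr p hp (dvd_trans (dvd_pow_self p hk.ne') hpk) with rfl | rfl | rfl | rfl
    · exact pow_dvd_of_not_dvd hpk h16N (by norm_num)
    · exact pow_dvd_of_not_dvd hpk h81N (by norm_num)
    · exact pow_dvd_of_not_dvd hpk h25N (by norm_num)
    · exact absurd (dvd_trans (dvd_pow_self 7 hk.ne') hpk) h7N
  obtain ⟨k80, hk80⟩ := h80
  obtain ⟨k90, hk90⟩ := h90
  obtain ⟨k144, hk144⟩ := h144
  have hge : 360 ≤ N := by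
    have := D.sum_le [1, 2, k80, k90, k144]
      (List.Nodup.of_map s (by simp [D.one, hs2, hk80, hk90, hk144]))
    simpa [D.one, hs2, hk80, hk90, hk144] using this
  have hmem : N ∈ Nat.divisors 1080 := Nat.mem_divisors.mpr ⟨hN1080, by norm_num⟩
  simp [Nat.divisors_ofNat] at hmem
  have hN3 : N = 360 ∨ N = 540 ∨ N = 1080 := by omega
  have h135 : ¬ 135 ∣ N := by
    intro h135
    have h3N : 3 ∣ N := by omega
    have h5N : 5 ∣ N := by omega
    have f := D.frob 135 h135
    simp [Nat.divisors_ofNat] at f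
    rw [D.one, hs3 h3N, hs5 h5N, hs9, D.clos0 (by norm_num : 9 ∣ 27) hs9,
      D.clos0 (by norm_num : 9 ∣ 45) hs9, D.clos0 (by norm_num : 9 ∣ 135) hs9] at f
    rcases hv 15 (by norm_num) with h' | h' | h' | h' <;> rw [h'] at f <;> omega
  have hN : N = 360 := by omega
  subst hN
  have h3N : 3 ∣ 360 := by norm_num
  have h5N : 5 ∣ 360 := by norm_num
  have h4N : 4 ∣ 360 := by norm_num
  refine ⟨rfl, hs2, hs3 h3N, hs4 h4N, hs5 h5N, ?_⟩
  intro k hk
  by_contra hcon
  have hnd : [1, 2, 3, 4, 5, k].Nodup := by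
    simp
    omega
  have := D.sum_le [1, 2, 3, 4, 5, k] hnd
  simp only [List.map_cons, List.map_nil, List.sum_cons, List.sum_nil, D.one, hs2, hs3 h3N,
    hs4 h4N, hs5 h5N] at this
  omega

end Cfsg.Agent.Lib.Helper58_NseArith
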