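import Cfsg.Agent.Lib.Helper58_Nse
import Cfsg.Agent.Lib.Helper55_V4A4

/-!
# Identifying `A₄`, `A₅`, `A₆` from their element counts (helper58)
-/

set_option autoImplicit false
set_option linter.style.haveILetI false
set_option linter.unusedSectionVars false

namespace Cfsg.Agent.Lib.Helper58_NseIdent

open Cfsg.Agent.Lib.Helper58_Nse

variable {G : Type*} [Group G] [Finite G]

/-- an element of prime order `p`, no elements of order `p k` with `k > 1`: invariant subsets of
a normal `p'`-subgroup have size `≡ 1 mod p`. -/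
theorem card_mod_of_no_mixed (H : Subgroup G) (p : ℕ) [Fact p.Prime] (x : G)
    (hx : orderOf x = p) (hco : ¬ p ∣ Nat.card H) (hno : ∀ k, 1 < k → cnt G (p * k) = 0)
    (T : Set G) (hTH : T ⊆ H) (h1 : (1 : G) ∈ T) (hT : ∀ t ∈ T, x * t * x⁻¹ ∈ T) :
    Nat.card T % p = 1 := by
  have hp : p.Prime := Fact.out
  apply card_mod_eq_one_of_fpf x p (by rw [← hx]; exact pow_orderOf_eq_one x) T h1 hT
  intro t ht hcomm
  have hdvd : orderOf t ∣ Nat.card H := Subgroup.orderOf_dvd_natCard H (hTH ht)
  have hcop : (orderOf x).Coprime (orderOf t) := by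
    rw [hx]
    exact Nat.Coprime.coprime_dvd_right hdvd ((Nat.Prime.coprime_iff_not_dvd hp).mpr hco)
  have ho := Commute.orderOf_mul_eq_mul_orderOf_of_coprime (show Commute x t from hcomm) hcop
  rw [hx] at ho
  by_contra ht1
  have hot : 1 < orderOf t := by
    have h0 : 0 < orderOf t := orderOf_pos t
    have h1' : orderOf t ≠ 1 := fun h => ht1 (orderOf_eq_one_iff.mp h)
    omega
  have := hno (orderOf t) hot
  rw [← ho] at this
  exact (cnt_ne_zero_iff _).mpr ⟨x * t, rfl⟩ this

theorem iso_A4 (hN : Nat.card G = 12) (h3 : cnt G 3 = 8) :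
    Nonempty (G ≃* alternatingGroup (Fin 4)) := by
  obtain ⟨y, hy⟩ := (cnt_ne_zero_iff 3).mp (by rw [h3]; norm_num)
  have hH : Nat.card (Subgroup.zpowers y) = 3 := by rw [Nat.card_zpowers, hy]
  have hidx : (Subgroup.zpowers y).index = 4 := by
    have := (Subgroup.zpowers y).card_mul_index
    rw [hH, hN] at this
    omega
  apply Cfsg.Agent.Lib.Helper55_V4A4.nonempty_equiv_alt_of_core (Subgroup.zpowers y) 4 hidx _
    (by rw [hN]; decide)
  have hKH : (Subgroup.zpowers y).normalCore ≤ Subgroup.zpowers y := Subgroup.normalCore_le _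
  have hKdvd : Nat.card (Subgroup.zpowers y).normalCore ∣ 3 := by
    rw [← hH]; exact Subgroup.card_dvd_of_le hKH
  rcases (Nat.dvd_prime Nat.prime_three).mp hKdvd with h1 | h3'
  · exact Subgroup.eq_bot_of_card_eq _ h1
  · exfalso
    have hi : (Subgroup.zpowers y).normalCore.index = 4 := by
      have := (Subgroup.zpowers y).normalCore.card_mul_index
      rw [h3', hN] at this
      omega
    have := sum_cnt_le_card (Subgroup.zpowers y).normalCore [1, 3] (by decide)
      (by rw [hi]; decide)
    simp only [List.map_cons, List.map_nil, List.sum_cons, List.sum_nil, cnt_one, h3, h3'] at this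
    omega

theorem isSimpleGroup_of_card60 (hN : Nat.card G = 60) (h3 : cnt G 3 = 20) (h5 : cnt G 5 = 24)
    (hspec : ∀ k, cnt G k ≠ 0 → k = 1 ∨ k = 2 ∨ k = 3 ∨ k = 5) : IsSimpleGroup G := by
  haveI : Nontrivial G := by
    apply Finite.one_lt_card_iff_nontrivial.mp; rw [hN]; norm_num
  haveI : Fact (Nat.Prime 5) := ⟨by norm_num⟩
  refine ⟨fun H hH => ?_⟩
  haveI := hH
  have hmul := H.card_mul_index
  rw [hN] at hmul
  have hmem : Nat.card H ∈ Nat.divisors 60 := Nat.mem_divisors.mpr ⟨Dvd.intro _ hmul, by norm_num⟩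
  simp only [Nat.divisors_ofNat, Finset.mem_insert, Finset.mem_singleton] at hmem
  obtain ⟨x, hx⟩ := (cnt_ne_zero_iff 5).mp (by rw [h5]; norm_num)
  have hno : ∀ k, 1 < k → cnt G (5 * k) = 0 := by
    intro k hk
    by_contra hne
    have := hspec _ hne
    omega
  have c5 : 5 ∣ Nat.card H → Nat.Coprime 5 H.index := by
    intro h5h
    rw [Nat.Prime.coprime_iff_not_dvd (by norm_num)]
    intro h5i
    have : 5 * 5 ∣ Nat.card H * H.index := Nat.mul_dvd_mul h5h h5i
    rw [hmul] at this
    omega
  have c3 : 3 ∣ Nat.card H → Nat.Coprime 3 H.index := by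
    intro h3h
    rw [Nat.Prime.coprime_iff_not_dvd (by norm_num)]
    intro h3i
    have : 3 * 3 ∣ Nat.card H * H.index := Nat.mul_dvd_mul h3h h3i
    rw [hmul] at this
    omega
  by_cases h5h : 5 ∣ Nat.card H
  · have k1 := sum_cnt_le_card H [1, 5] (by decide) (by
      intro m hm
      simp only [List.mem_cons, List.not_mem_nil, or_false] at hm
      rcases hm with rfl | rfl
      · exact Nat.coprime_one_left _
      · exact c5 h5h)
    simp only [List.map_cons, List.map_nil, List.sum_cons, List.sum_nil, cnt_one, h5] at k1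
    have h30 : Nat.card H = 30 ∨ Nat.card H = 60 := by omega
    rcases h30 with h30 | h60
    · exfalso
      have hi : H.index = 2 := by rw [h30] at hmul; omega
      have k2 := sum_cnt_le_card H [1, 3, 5] (by decide) (by rw [hi]; decide)
      simp only [List.map_cons, List.map_nil, List.sum_cons, List.sum_nil, cnt_one, h3, h5] at k2
      omega
    · right
      exact (Subgroup.card_eq_iff_eq_top H).mp (by rw [h60, hN])
  · have hT := card_mod_of_no_mixed H 5 x hx h5h hno (H : Set G) (fun _ h => h) H.one_mem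
      (fun t ht => hH.conj_mem t ht x)
    change Nat.card H % 5 = 1 at hT
    have h16 : Nat.card H = 1 ∨ Nat.card H = 6 := by omega
    rcases h16 with h1 | h6
    · left; exact Subgroup.eq_bot_of_card_eq _ h1
    · exfalso
      have k1 := sum_cnt_le_card H [1, 3] (by decide) (by
        intro m hm
        simp only [List.mem_cons, List.not_mem_nil, or_false] at hm
        rcases hm with rfl | rfl
        · exact Nat.coprime_one_left _
        · exact c3 (by rw [h6]; norm_num))
      simp only [List.map_cons, List.map_nil, List.sum_cons, List.sum_nil, cnt_one, h3] at k1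
      omega

theorem isSimpleGroup_of_card360 (hN : Nat.card G = 360) (h3 : cnt G 3 = 80)
    (h5 : cnt G 5 = 144)
    (hspec : ∀ k, cnt G k ≠ 0 → k = 1 ∨ k = 2 ∨ k = 3 ∨ k = 4 ∨ k = 5) : IsSimpleGroup G := by
  haveI : Nontrivial G := by
    apply Finite.one_lt_card_iff_nontrivial.mp; rw [hN]; norm_num
  haveI : Fact (Nat.Prime 5) := ⟨by norm_num⟩
  refine ⟨fun H hH => ?_⟩
  haveI := hH
  have hmul := H.card_mul_index
  rw [hN] at hmul
  have hmem : Nat.card H ∈ Nat.divisors 360 :=
    Nat.mem_divisors.mpr ⟨Dvd.intro _ hmul, by norm_num⟩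
  simp only [Nat.divisors_ofNat, Finset.mem_insert, Finset.mem_singleton] at hmem
  obtain ⟨x, hx⟩ := (cnt_ne_zero_iff 5).mp (by rw [h5]; norm_num)
  have hno : ∀ k, 1 < k → cnt G (5 * k) = 0 := by
    intro k hk
    by_contra hne
    have := hspec _ hne
    omega
  have c5 : 5 ∣ Nat.card H → Nat.Coprime 5 H.index := by
    intro h5h
    rw [Nat.Prime.coprime_iff_not_dvd (by norm_num)]
    intro h5i
    have : 5 * 5 ∣ Nat.card H * H.index := Nat.mul_dvd_mul h5h h5i
    rw [hmul] at this
    omega
  have c3 : 9 ∣ Nat.card H → Nat.Coprime 3 H.index := by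
    intro h9h
    rw [Nat.Prime.coprime_iff_not_dvd (by norm_num)]
    intro h3i
    have : 9 * 3 ∣ Nat.card H * H.index := Nat.mul_dvd_mul h9h h3i
    rw [hmul] at this
    omega
  by_cases h5h : 5 ∣ Nat.card H
  · have k1 := sum_cnt_le_card H [1, 5] (by decide) (by
      intro m hm
      simp only [List.mem_cons, List.not_mem_nil, or_false] at hm
      rcases hm with rfl | rfl
      · exact Nat.coprime_one_left _
      · exact c5 h5h)
    simp only [List.map_cons, List.map_nil, List.sum_cons, List.sum_nil, cnt_one, h5] at k1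
    have h180 : Nat.card H = 180 ∨ Nat.card H = 360 := by omega
    rcases h180 with h180 | h360
    · exfalso
      have hi : H.index = 2 := by rw [h180] at hmul; omega
      have k2 := sum_cnt_le_card H [1, 3, 5] (by decide) (by rw [hi]; decide)
      simp only [List.map_cons, List.map_nil, List.sum_cons, List.sum_nil, cnt_one, h3, h5] at k2
      omega
    · right
      exact (Subgroup.card_eq_iff_eq_top H).mp (by rw [h360, hN])
  · have hT := card_mod_of_no_mixed H 5 x hx h5h hno (H : Set G) (fun _ h => h) H.one_mem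
      (fun t ht => hH.conj_mem t ht x)
    change Nat.card H % 5 = 1 at hT
    have h16 : Nat.card H = 1 ∨ Nat.card H = 6 ∨ Nat.card H = 36 := by omega
    rcases h16 with h1 | h6 | h36
    · left; exact Subgroup.eq_bot_of_card_eq _ h1
    · exfalso
      haveI : Fact (Nat.Prime 2) := ⟨Nat.prime_two⟩
      haveI : Fact (Nat.Prime 3) := ⟨Nat.prime_three⟩
      obtain ⟨y2, hy2⟩ := exists_prime_orderOf_dvd_card' (G := H) 2 (by rw [h6]; norm_num)
      obtain ⟨y3, hy3⟩ := exists_prime_orderOf_dvd_card' (G := H) 3 (by rw [h6]; norm_num)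
      let T : Set G := {t | t ∈ H ∧ t ^ 2 = 1}
      have hTH : T ⊆ H := fun t ht => ht.1
      have hT1 : (1 : G) ∈ T := ⟨H.one_mem, one_pow 2⟩
      have hTc : ∀ t ∈ T, x * t * x⁻¹ ∈ T := fun t ht =>
        ⟨hH.conj_mem t ht.1 x, by rw [conj_pow, ht.2, mul_one, mul_inv_cancel]⟩
      have hcard := card_mod_of_no_mixed H 5 x hx h5h hno T hTH hT1 hTc
      rw [Nat.card_coe_set_eq] at hcard
      have hy2T : (y2 : G) ∈ T := by
        refine ⟨y2.2, ?_⟩
        have := pow_orderOf_eq_one y2
        rw [hy2] at this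
        exact_mod_cast congrArg Subtype.val this
      have hy2ne : (1 : G) ≠ (y2 : G) := by
        intro h
        have : y2 = 1 := Subtype.ext h.symm
        rw [this, orderOf_one] at hy2
        omega
      have hge : 1 < T.ncard := (Set.one_lt_ncard_iff (Set.toFinite T)).mpr
        ⟨1, y2, hT1, hy2T, hy2ne⟩
      have hy3T : (y3 : G) ∉ T := by
        rintro ⟨-, h⟩
        have : orderOf (y3 : G) ∣ 2 := orderOf_dvd_of_pow_eq_one h
        rw [Subgroup.orderOf_coe, hy3] at this
        omega
      have hlt : T.ncard < (H : Set G).ncard :=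
        Set.ncard_lt_ncard ⟨hTH, fun hsub => hy3T (hsub y3.2)⟩ (Set.toFinite _)
      have h6' : (H : Set G).ncard = 6 := by
        rw [← Nat.card_coe_set_eq]; exact h6
      omega
    · exfalso
      have k1 := sum_cnt_le_card H [1, 3] (by decide) (by
        intro m hm
        simp only [List.mem_cons, List.not_mem_nil, or_false] at hm
        rcases hm with rfl | rfl
        · exact Nat.coprime_one_left _
        · exact c3 (by rw [h36]; norm_num))
      simp only [List.map_cons, List.map_nil, List.sum_cons, List.sum_nil, cnt_one, h3] at k1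
      omega

end Cfsg.Agent.Lib.Helper58_NseIdent
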