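import Mathlib
import Cfsg.Agent.Lib.Helper94_OD3Defs

/-!
# OD3 market (architect helper94), package OD3-IRR: the Siegel elements of a nondegenerate subspace
of dimension at least three act irreducibly on it, in every characteristic (`IrrK Q B 3`).
-/

set_option autoImplicit false
set_option linter.unusedSectionVars false
set_option linter.unusedVariables false

namespace Cfsg.Agent.Lib.Helper58_OD3_IRR

open Module Cfsg.Agent.Lib.Helper94_Symp Cfsg.Agent.Lib.Helper94_OrthSmall
  Cfsg.Agent.Lib.Helper94_OrthSiegel Cfsg.Agent.Lib.Helper94_OrthNondeg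
  Cfsg.Agent.Lib.Helper29_ODDefs Cfsg.Agent.Lib.Helper94_Q2Defs Cfsg.Agent.Lib.Helper94_OD3Defs

variable {F V : Type*} [Field F] [AddCommGroup V] [Module F V] [Finite F] [FiniteDimensional F V]
  {Q : V → F} {B : LinearMap.BilinForm F V} {t k : ℕ} {D : Fin t → Submodule F V}
  {S M L : Subgroup (V ≃ₗ[F] V)}

omit [Finite F] in
/-- In a nondegenerate subspace of dimension at least three, the orthogonal of a nonzero vector
contains two vectors which are not orthogonal to each other. -/
theorem exists_pair_orth_in (hQp : ∀ u v : V, Q (u + v) = Q u + Q v + B u v)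
    (A : Submodule F V) (hA : ∀ a ∈ A, a ≠ 0 → ∃ x ∈ A, B x a ≠ 0) (h3 : 3 ≤ finrank F A)
    {u : V} (hu : u ∈ A) (hu0 : u ≠ 0) :
    ∃ v ∈ A, ∃ v' ∈ A, B u v = 0 ∧ B u v' = 0 ∧ B v' v ≠ 0 := by
  have hsymm := B_symm Q B hQp
  obtain ⟨f, hfA, hfu⟩ := hA u hu hu0
  have h1 := finrank_le_inf_ker_add_one A (B.flip u)
  have h2 := finrank_le_inf_ker_add_one (A ⊓ LinearMap.ker (B.flip u)) (B.flip f)
  have hpos : 0 < finrank F
      ↥(A ⊓ LinearMap.ker (B.flip u) ⊓ LinearMap.ker (B.flip f) : Submodule F V) := by omega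
  obtain ⟨⟨w, hw⟩, hw0⟩ := finrank_pos_iff_exists_ne_zero.mp hpos
  have hw0' : w ≠ 0 := fun h => hw0 (Subtype.ext h)
  have hwA : w ∈ A := hw.1.1
  have hwu : B w u = 0 := mem_ker_flip.mp hw.1.2
  have hwf : B w f = 0 := mem_ker_flip.mp hw.2
  obtain ⟨x', hx'A, hx'w⟩ := hA w hwA hw0'
  refine ⟨w, hwA, x' - (B x' u / B f u) • f, A.sub_mem hx'A (A.smul_mem _ hfA), ?_, ?_, ?_⟩
  · rw [hsymm, hwu]
  · rw [hsymm, map_sub, LinearMap.sub_apply, map_smul, LinearMap.smul_apply, smul_eq_mul,
      div_mul_cancel₀ _ hfu, sub_self]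
  · rw [map_sub, LinearMap.sub_apply, map_smul, LinearMap.smul_apply, hsymm f w, hwf, smul_zero,
      sub_zero]
    exact hx'w

/-- **OD3-IRR** [M] characteristic-free irreducibility. -/
theorem IRR (hQs : ∀ (c : F) (v : V), Q (c • v) = c * c * Q v)
    (hQp : ∀ u v : V, Q (u + v) = Q u + Q v + B u v) :
    Cfsg.Agent.Lib.Helper38_OD2Defs.IrrK Q B 3 := by
  intro A X hA h3 hX a a' hx ha ha0 ha'
  have hsymm := B_symm Q B hQp
  have hsapp := @sieg_apply F V _ _ _ Q B hQs hQp
  -- key: a singular vector of `A` not orthogonal to a vector of `X` lies in `X`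
  have key : ∀ b ∈ X, ∀ u ∈ A, Q u = 0 → B b u ≠ 0 → u ∈ X := by
    intro b hbX u huA hQu hbu
    have hu0 : u ≠ 0 := by
      rintro rfl
      exact hbu (by rw [map_zero])
    have huu : B u u = 0 := by rw [B_self Q B hQs hQp, hQu, mul_zero]
    obtain ⟨v, hvA, v', hv'A, huv, huv', hv'v⟩ := exists_pair_orth_in hQp A hA h3 huA hu0
    have hvu : B v u = 0 := by rw [hsymm, huv]
    have hv'u : B v' u = 0 := by rw [hsymm, huv']
    -- first step: `(c_{v'} - 1) b`
    have h1 := hX u huA v' hv'A hQu huv' b hbX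
    rw [hsapp hQu huv'] at h1
    have h2 := X.sub_mem h1 hbX
    obtain ⟨y, hy⟩ : ∃ y, y = B b u • v' - B b v' • u - (Q v' * B b u) • u := ⟨_, rfl⟩
    have e1 : b + B b u • v' - B b v' • u - (Q v' * B b u) • u - b = y := by
      rw [hy]; module
    rw [e1] at h2
    have hyu : B y u = 0 := by
      rw [hy]
      simp only [map_sub, map_smul, LinearMap.sub_apply, LinearMap.smul_apply, smul_eq_mul,
        hv'u, huu, mul_zero, sub_zero]
    have hyv : B y v = B b u * B v' v := by
      rw [hy]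
      simp only [map_sub, map_smul, LinearMap.sub_apply, LinearMap.smul_apply, smul_eq_mul,
        huv, mul_zero, sub_zero]
    -- second step: `(c_v - 1) y`
    have h3' := hX u huA v hvA hQu huv y h2
    rw [hsapp hQu huv, hyu, hyv] at h3'
    have h4 := X.sub_mem h3' h2
    have e2 : y + (0 : F) • v - (B b u * B v' v) • u - (Q v * 0) • u - y =
        (-(B b u * B v' v)) • u := by module
    rw [e2] at h4
    have hne : -(B b u * B v' v) ≠ 0 := neg_ne_zero.mpr (mul_ne_zero hbu hv'v)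
    have h5 := X.smul_mem (-(B b u * B v' v))⁻¹ h4
    rwa [smul_smul, inv_mul_cancel₀ hne, one_smul] at h5
  -- Step 1: `X ⊓ A` contains a nonzero singular vector
  obtain ⟨s, hsA, hQs', hsa⟩ := exists_sing_not_orth Q B hQs hQp A hA h3 (hA a ha ha0)
  have hs0 : s ≠ 0 := by
    rintro rfl
    exact hsa (by rw [map_zero, LinearMap.zero_apply])
  have hsX : s ∈ X := by
    apply key _ hx s hsA hQs'
    rw [map_add, LinearMap.add_apply, hsymm a' s, ha' s hsA, add_zero, hsymm]
    exact hsa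
  obtain ⟨s', hs'A, hQs'', hs's⟩ := exists_sing_not_orth Q B hQs hQp A hA h3 (hA s hsA hs0)
  have hs'X : s' ∈ X := key s hsX s' hs'A hQs'' (by rw [hsymm]; exact hs's)
  -- Step 2: all singular vectors of `A` lie in `X`
  have hall : ∀ t ∈ A, Q t = 0 → t ∈ X := by
    intro t htA hQt
    by_cases h1 : B s t = 0
    · by_cases h1' : B s' t = 0
      · have hst : Q (s + t) = 0 := by rw [hQp, hQs', hQt, h1]; ring
        have h4 : s + t ∈ X := by
          apply key s' hs'X (s + t) (A.add_mem hsA htA) hst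
          rw [map_add, h1', add_zero]
          exact hs's
        have := X.sub_mem h4 hsX
        rwa [add_sub_cancel_left] at this
      · exact key s' hs'X t htA hQt h1'
    · exact key s hsX t htA hQt h1
  -- Step 3: the singular vectors span `A`
  intro a1 ha1
  by_cases ha10 : a1 = 0
  · rw [ha10]
    exact X.zero_mem
  obtain ⟨s1, hs1A, hQs1, hs1a⟩ := exists_sing_not_orth Q B hQs hQp A hA h3 (hA a1 ha1 ha10)
  have ha1s : B a1 s1 ≠ 0 := by rw [hsymm]; exact hs1a
  have h1 := Cfsg.Agent.Lib.Helper94_OrthPara.sing_adjust Q B hQs hQp hQs1 ha1s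
  have h4 := hall _ (A.add_mem ha1 (A.smul_mem _ hs1A)) h1
  have h5 := hall s1 hs1A hQs1
  have h6 := X.sub_mem h4 (X.smul_mem (-(Q a1 / B a1 s1)) h5)
  rwa [add_sub_cancel_right] at h6

end Cfsg.Agent.Lib.Helper58_OD3_IRR
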