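import Mathlib
import Cfsg.Agent.Lib.Helper94_OD3Defs
import Cfsg.Agent.Lib.Helper94_OD_Aux

/-!
# OD3 market (architect helper94), package OD3-LGRP: the group `L = M ⊔ R`, `R` the group generated
by the block reflections (twin of `Helper42_Q2_LGRP`).
-/

set_option autoImplicit false
set_option linter.unusedSectionVars false
set_option linter.unusedVariables false

namespace Cfsg.Agent.Lib.Helper58_OD3_LGRP

open Module Cfsg.Agent.Lib.Helper94_Symp Cfsg.Agent.Lib.Helper94_OrthSmall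
  Cfsg.Agent.Lib.Helper94_OrthSiegel Cfsg.Agent.Lib.Helper94_OrthNondeg
  Cfsg.Agent.Lib.Helper29_ODDefs Cfsg.Agent.Lib.Helper94_Q2Defs Cfsg.Agent.Lib.Helper94_OD3Defs
open scoped Pointwise

variable {F V : Type*} [Field F] [AddCommGroup V] [Module F V] [Finite F] [FiniteDimensional F V]
  {Q : V → F} {B : LinearMap.BilinForm F V} {t k : ℕ} {D : Fin t → Submodule F V}
  {S M L : Subgroup (V ≃ₗ[F] V)}

/-- **OD3-LGRP** [M] twin: Helper42_Q2_LGRP. -/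
theorem LGRP (hC : Ctx3 Q B k D S M) (hn : ∀ x, IsBlN Q D x → NrmA Q B hC.hQs hC.hQp M x) :
    ∃ L : Subgroup (V ≃ₗ[F] V), M ≤ L ∧ L ≤ oG Q ∧
      (∀ x, IsBlN Q D x → ∀ hx : Q x ≠ 0, refl Q B hC.hQs hC.hQp hx ∈ L) ∧
      L ⊓ ⁅oG Q, oG Q⁆ ≤ M := by
  have hQs := hC.hQs
  have hQp := hC.hQp
  obtain ⟨gens, hgens⟩ : ∃ gens : Set (V ≃ₗ[F] V), gens =
    {g | ∃ x : V, IsBlN Q D x ∧ ∃ hx : Q x ≠ 0, g = refl Q B hC.hQs hC.hQp hx} := ⟨_, rfl⟩
  obtain ⟨R, hR⟩ : ∃ R : Subgroup (V ≃ₗ[F] V), R = Subgroup.closure gens := ⟨_, rfl⟩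
  have hMO : M ≤ oG Q := hC.hMO.trans (Subgroup.commutator_le_self _)
  have hRS : R ≤ S := by
    rw [hR, Subgroup.closure_le, hgens]
    rintro g ⟨x, hx, hx', rfl⟩
    obtain ⟨l, hl⟩ := hx.2
    exact Cfsg.Agent.Lib.Helper94_OD_Aux.refl_mem_dstab hC.hQs hC.hQp hC.hD hC.hS hl hx'
  have hRO : R ≤ oG Q := by
    rw [hR, Subgroup.closure_le, hgens]
    rintro g ⟨x, hx, hx', rfl⟩
    exact refl_mem Q B hC.hQs hC.hQp hx'
  have hRN : R ≤ Subgroup.normalizer (M : Set (V ≃ₗ[F] V)) := by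
    rw [hR, Subgroup.closure_le, hgens]
    rintro g ⟨x, hx, hx', rfl⟩
    obtain ⟨r, hr⟩ : ∃ r, r = refl Q B hC.hQs hC.hQp hx' := ⟨_, rfl⟩
    have hrinv : r⁻¹ = r := by rw [hr]; exact refl_inv Q B hC.hQs hC.hQp hx'
    have hrr : r * r = 1 := by
      nth_rewrite 1 [← hrinv]
      exact inv_mul_cancel r
    show refl Q B hC.hQs hC.hQp hx' ∈ Subgroup.normalizer (M : Set (V ≃ₗ[F] V))
    rw [← hr, Subgroup.mem_normalizer_iff]
    intro m
    rw [hrinv]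
    constructor
    · intro hm
      have := hn x hx hx' m hm
      rwa [← hr] at this
    · intro hm
      have h1 := hn x hx hx' _ hm
      rw [← hr] at h1
      have h2 : r * (r * m * r) * r = (r * r) * m * (r * r) := by group
      rw [h2, hrr, one_mul, mul_one] at h1
      exact h1
  refine ⟨M ⊔ R, le_sup_left, sup_le hMO hRO, ?_, ?_⟩
  · intro x hx hx'
    apply (le_sup_right : R ≤ M ⊔ R)
    rw [hR]
    apply Subgroup.subset_closure
    rw [hgens]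
    exact ⟨x, hx, hx', rfl⟩
  · rintro g ⟨hgL, hgO⟩
    have hset := Subgroup.coe_mul_of_right_le_normalizer_left M R hRN
    have hg' : g ∈ (M : Set (V ≃ₗ[F] V)) * (R : Set (V ≃ₗ[F] V)) := by
      rw [← hset]
      exact hgL
    obtain ⟨m, hm, r, hr, rfl⟩ := hg'
    have hm' : m ∈ M := hm
    have hr' : r ∈ R := hr
    have hrO : r ∈ ⁅oG Q, oG Q⁆ := by
      have h1 : m⁻¹ * (m * r) ∈ ⁅oG Q, oG Q⁆ := mul_mem (inv_mem (hC.hMO hm')) hgO
      rwa [inv_mul_cancel_left] at h1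
    have hrM : r ∈ M := hC.hmin.le ⟨hRS hr', hrO⟩
    exact mul_mem hm' hrM

end Cfsg.Agent.Lib.Helper58_OD3_LGRP
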