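import Mathlib
import Cfsg.Agent.Lib.Helper95_OPDefs
import Cfsg.Agent.Lib.Helper95_OPBasic
import Cfsg.Agent.Lib.Helper48_OODefs
import Cfsg.Agent.Lib.Helper87_OO2Defs
import Cfsg.Agent.Lib.Helper87_OO2Defs2
import Cfsg.Agent.Lib.Helper85_OO2_RankOne
import Cfsg.Agent.Lib.Helper85_OO2_LemK
import Cfsg.Agent.Lib.Helper16_OO2B3Defs
import Cfsg.Agent.Lib.Helper52_OO2_AZ

set_option autoImplicit false
set_option linter.unusedSectionVars false
set_option linter.unusedVariables false

/-!
# S2344 OO2 market, wave 3 (co-cutter helper16): package OO2-B3-FIXLTOP (helper58)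

For `n = 3` the space `W₁` has Witt index `1`: two orthogonal singular vectors of `W₁` are proportional, the
corresponding long root element is trivial, and `fixL Q ρ W₁ = ⊤`.
-/

namespace Cfsg.Agent.Lib.Helper58_OO2_B3_FIXLTOP

open Module Cfsg.Agent.Lib.Helper94_OrthSmall Cfsg.Agent.Lib.Helper44_QuadClass
  Cfsg.Agent.Lib.Helper14_OmegaSimple Cfsg.Agent.Lib.Helper38_MIODefs
  Cfsg.Agent.Lib.Helper95_OPDefs Cfsg.Agent.Lib.Helper95_OPBasic Cfsg.Agent.Lib.Helper48_OODefs
  Cfsg.Agent.Lib.Helper87_OO2Defs Cfsg.Agent.Lib.Helper16_OO2B3Defs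

variable {F V : Type*} [Field F] [Fintype F] [AddCommGroup V] [Module F V] [FiniteDimensional F V]
  {X : Type*} [AddCommGroup X] [Module ℂ X] [FiniteDimensional ℂ X]

/-- two orthogonal singular vectors of `W₁` are proportional (`W₁` has Witt index `1`) -/
theorem h58_dep (Q : QuadraticForm F V) (hP : IsOddT Q 3) {v v' w0 w0' : V}
    (h : HQuad Q v v' w0 w0') {a b : V} (ha : a ∈ W1 Q v v' w0 w0') (hb : b ∈ W1 Q v v' w0 w0')
    (qa : Q a = 0) (qb : Q b = 0) (hab : QuadraticMap.polar (⇑Q) a b = 0) :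
    a = 0 ∨ ∃ c : F, b = c • a := by
  classical
  obtain ⟨⟨a1, a2⟩, a3, a4⟩ := (Cfsg.Agent.Lib.Helper52_OO2_AZ.mem_W1 Q v v' w0 w0' a).1 ha
  obtain ⟨⟨b1, b2⟩, b3, b4⟩ := (Cfsg.Agent.Lib.Helper52_OO2_AZ.mem_W1 Q v v' w0 w0' b).1 hb
  have svv : QuadraticMap.polar (⇑Q) v v = 0 := by
    rw [QuadraticMap.polar_self, h.pa.qa, smul_zero]
  have sww : QuadraticMap.polar (⇑Q) w0 w0 = 0 := by
    rw [QuadraticMap.polar_self, h.pb.qa, smul_zero]
  have saa : QuadraticMap.polar (⇑Q) a a = 0 := by
    rw [QuadraticMap.polar_self, qa, smul_zero]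
  have sbb : QuadraticMap.polar (⇑Q) b b = 0 := by
    rw [QuadraticMap.polar_self, qb, smul_zero]
  have cwv : QuadraticMap.polar (⇑Q) w0 v = 0 := by rw [QuadraticMap.polar_comm]; exact h.ab
  have cav : QuadraticMap.polar (⇑Q) a v = 0 := by rw [QuadraticMap.polar_comm]; exact a1
  have caw : QuadraticMap.polar (⇑Q) a w0 = 0 := by rw [QuadraticMap.polar_comm]; exact a3
  have cbv : QuadraticMap.polar (⇑Q) b v = 0 := by rw [QuadraticMap.polar_comm]; exact b1
  have cbw : QuadraticMap.polar (⇑Q) b w0 = 0 := by rw [QuadraticMap.polar_comm]; exact b3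
  have cba : QuadraticMap.polar (⇑Q) b a = 0 := by rw [QuadraticMap.polar_comm]; exact hab
  obtain ⟨f, hf⟩ : ∃ f : Fin 4 → V, f = ![v, w0, a, b] := ⟨_, rfl⟩
  have key : ∀ i j, QuadraticMap.polar (⇑Q) (f i) (f j) = 0 := by
    intro i j
    rw [hf]
    fin_cases i <;> fin_cases j
    · exact svv
    · exact h.ab
    · exact a1
    · exact b1
    · exact cwv
    · exact sww
    · exact a3
    · exact b3
    · exact cav
    · exact caw
    · exact saa
    · exact hab
    · exact cbv
    · exact cbw
    · exact cba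
    · exact sbb
  -- the span is totally singular
  have hU : Submodule.span F (Set.range f) ≤
      LinearMap.BilinForm.orthogonal (QuadraticMap.polarBilin Q) (Submodule.span F (Set.range f)) := by
    rw [Submodule.span_le]
    rintro _ ⟨i, rfl⟩
    rw [SetLike.mem_coe, LinearMap.BilinForm.mem_orthogonal_iff]
    intro y hy
    have hle : Submodule.span F (Set.range f) ≤
        LinearMap.ker ((QuadraticMap.polarBilin Q).flip (f i)) := by
      rw [Submodule.span_le]
      rintro _ ⟨j, rfl⟩
      rw [SetLike.mem_coe, LinearMap.mem_ker, LinearMap.flip_apply,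
        QuadraticMap.polarBilin_apply_apply]
      exact key j i
    have := hle hy
    rw [LinearMap.mem_ker, LinearMap.flip_apply] at this
    exact this
  have h1 := Submodule.finrank_mono hU
  rw [LinearMap.BilinForm.finrank_orthogonal hP.nondeg, hP.dim] at h1
  have hnli : ¬ LinearIndependent F f := by
    intro hli
    have := finrank_span_eq_card hli
    rw [Fintype.card_fin] at this
    omega
  rw [Fintype.not_linearIndependent_iff] at hnli
  obtain ⟨g, hg, i, hi⟩ := hnli
  rw [Fin.sum_univ_four, hf] at hg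
  change g 0 • v + g 1 • w0 + g 2 • a + g 3 • b = 0 at hg
  -- pair with `v'` and `w0'`
  have cwv' : QuadraticMap.polar (⇑Q) w0 v' = 0 := by rw [QuadraticMap.polar_comm]; exact h.a'b
  have cav' : QuadraticMap.polar (⇑Q) a v' = 0 := by rw [QuadraticMap.polar_comm]; exact a2
  have cbv' : QuadraticMap.polar (⇑Q) b v' = 0 := by rw [QuadraticMap.polar_comm]; exact b2
  have caw' : QuadraticMap.polar (⇑Q) a w0' = 0 := by rw [QuadraticMap.polar_comm]; exact a4
  have cbw' : QuadraticMap.polar (⇑Q) b w0' = 0 := by rw [QuadraticMap.polar_comm]; exact b4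
  have g0 : g 0 = 0 := by
    have := congrArg (fun x => QuadraticMap.polar (⇑Q) x v') hg
    simp only [QuadraticMap.polar_add_left, QuadraticMap.polar_smul_left, smul_eq_mul, h.pa.aa',
      cwv', cav', cbv', mul_zero, add_zero, mul_one, QuadraticMap.polar_zero_left] at this
    exact this
  have g1 : g 1 = 0 := by
    have := congrArg (fun x => QuadraticMap.polar (⇑Q) x w0') hg
    simp only [QuadraticMap.polar_add_left, QuadraticMap.polar_smul_left, smul_eq_mul, h.pb.aa',
      h.ab', caw', cbw', mul_zero, add_zero, zero_add, mul_one,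
      QuadraticMap.polar_zero_left] at this
    exact this
  rw [g0, g1, zero_smul, zero_smul, zero_add, zero_add] at hg
  by_cases g3 : g 3 = 0
  · left
    rw [g3, zero_smul, add_zero] at hg
    have g2 : g 2 ≠ 0 := by
      intro g2
      apply hi
      fin_cases i
      · exact g0
      · exact g1
      · exact g2
      · exact g3
    exact (smul_eq_zero.mp hg).resolve_left g2
  · right
    refine ⟨-(g 2 / g 3), ?_⟩
    have e : g 3 • b = -(g 2 • a) := by
      rw [eq_neg_iff_add_eq_zero, add_comm]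
      exact hg
    have e2 : b = (g 3)⁻¹ • (g 3 • b) := by
      rw [smul_smul, inv_mul_cancel₀ g3, one_smul]
    rw [e2, e, smul_neg, smul_smul, neg_smul, div_eq_inv_mul, mul_comm]

theorem fixL_W1_eq_top (Q : QuadraticForm F V) (hP : IsOddT Q 3) {v v' w0 w0' : V}
    (h : HQuad Q v v' w0 w0') (ρ : Representation ℂ ↥(T Q) X) :
    fixL Q ρ (W1 Q v v' w0 w0') = ⊤ := by
  rw [eq_top_iff]
  intro x _
  rw [mem_fixL]
  intro a ha b hb qa qb hab
  have hE : E Q a b = 1 := by
    rcases h58_dep Q hP h ha hb qa qb hab with rfl | ⟨c, rfl⟩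
    · exact E_zero_left Q b
    · apply LinearEquiv.ext
      intro y
      have saa : QuadraticMap.polar (⇑Q) a a = 0 := by
        rw [QuadraticMap.polar_self, qa, smul_zero]
      rw [E_apply Q qa (by rw [QuadraticMap.polar_smul_right, saa, smul_zero]),
        QuadraticMap.map_smul, qa, QuadraticMap.polar_smul_right]
      simp only [LinearEquiv.coe_one, id_eq, smul_eq_mul, mul_zero, zero_mul, zero_smul, sub_zero,
        smul_smul]
      rw [mul_comm, add_sub_cancel_right]
  rw [hE, repE_one]
  rfl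

end Cfsg.Agent.Lib.Helper58_OO2_B3_FIXLTOP
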