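import Mathlib
import Cfsg.Agent.Lib.Helper95_OPDefs
import Cfsg.Agent.Lib.Helper95_OPBasic
import Cfsg.Agent.Lib.Helper48_OODefs
import Cfsg.Agent.Lib.Helper87_OO2Defs
import Cfsg.Agent.Lib.Helper87_OO2Defs2
import Cfsg.Agent.Lib.Helper85_OO2_RankOne
import Cfsg.Agent.Lib.Helper85_OO2_LemK
import Cfsg.Agent.Lib.Helper16_OO2B3Defs
import Cfsg.Agent.Lib.Helper52_OO2_AZ
import Cfsg.Agent.Lib.Helper41_OO2_N1MAP
import Cfsg.Agent.Lib.Helper43_OO2_XTRIV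

set_option autoImplicit false
set_option linter.unusedSectionVars false
set_option linter.unusedVariables false

/-!
# S2344 OO2 market, wave 3 (co-cutter helper16): package OO2-B3-L2DIM (helper58)

The level-2 weight space `wsp2 z` of `X^R` is `B_z`: zero for a non-singular `z ∈ W₁`, a line for a non-zero
singular `z ∈ W₁`.
-/

namespace Cfsg.Agent.Lib.Helper58_OO2_B3_L2DIM

open Module Cfsg.Agent.Lib.Helper94_OrthSmall Cfsg.Agent.Lib.Helper44_QuadClass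
  Cfsg.Agent.Lib.Helper14_OmegaSimple Cfsg.Agent.Lib.Helper38_MIODefs
  Cfsg.Agent.Lib.Helper95_OPDefs Cfsg.Agent.Lib.Helper95_OPBasic Cfsg.Agent.Lib.Helper48_OODefs
  Cfsg.Agent.Lib.Helper87_OO2Defs Cfsg.Agent.Lib.Helper16_OO2B3Defs

variable {F V : Type*} [Field F] [Fintype F] [AddCommGroup V] [Module F V] [FiniteDimensional F V]
  {X : Type*} [AddCommGroup X] [Module ℂ X] [FiniteDimensional ℂ X]

/-- `wsp2 z ≤ B_z` -/
theorem h58_wsp2_le_Bsp (Q : QuadraticForm F V) {v v' w0 w0' : V} (h : HQuad Q v v' w0 w0')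
    (ρ : Representation ℂ ↥(T Q) X) (ψ : AddChar F ℂ) (z : V) :
    wsp2 Q ρ ψ v v' w0 w0' z ≤ Bsp Q ρ ψ v v' w0 w0' z := by
  intro x hx
  obtain ⟨hx1, hx2⟩ := Submodule.mem_inf.1 hx
  refine Submodule.mem_inf.2 ⟨?_, hx2⟩
  rw [mem_fixE]
  intro w hw
  exact hx1 w (Cfsg.Agent.Lib.Helper52_OO2_AZ.sup_le_perp Q h hw)

/-- `B_z ≤ wsp2 z` when `B_z` is at most a line -/
theorem h58_Bsp_le_wsp2 (Q : QuadraticForm F V) (hQ : (QuadraticMap.polarBilin Q).Nondegenerate)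
    (hdim : 5 ≤ finrank F V) (hq : 4 ≤ Fintype.card F) {v v' w0 w0' : V}
    (h : HQuad Q v v' w0 w0') (ρ : Representation ℂ ↥(T Q) X) (ψ : AddChar F ℂ) (z : V)
    (hz : z ∈ W1 Q v v' w0 w0') (hfr : finrank ℂ ↥(Bsp Q ρ ψ v v' w0 w0' z) ≤ 1) :
    Bsp Q ρ ψ v v' w0 w0' z ≤ wsp2 Q ρ ψ v v' w0 w0' z := by
  intro x hx
  exact Submodule.mem_inf.2
    ⟨Cfsg.Agent.Lib.Helper43_OO2_XTRIV.Bsp_le_X0 Q hQ hdim hq h ρ ψ z hz hfr hx,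
      (Submodule.mem_inf.1 hx).2⟩

theorem wsp2_eq_bot (Q : QuadraticForm F V) (n : ℕ) (hn : 3 ≤ n) (hq : 4 ≤ Fintype.card F)
    (hP : IsOddT Q n) {v v' w0 w0' : V} (h : HQuad Q v v' w0 w0') [DecidableEq ↥(perp Q v v')]
    (ρ : Representation ℂ ↥(T Q) X) (ψ : AddChar F ℂ) (hψ : ψ ≠ 1)
    (hint : DirectSum.IsInternal (fun u : ↥(perp Q v v') => wsp Q ρ ψ v v' u))
    (f : ℕ) (hW : WData Q ρ ψ v v' 1 f) (z : V) (hz : z ∈ W1 Q v v' w0 w0') (hQz : Q z ≠ 0) :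
    wsp2 Q ρ ψ v v' w0 w0' z = ⊥ := by
  have hQ := hP.nondeg
  have hdimV : finrank F V = 2 * n + 1 := hP.dim
  have hdim5 : 5 ≤ finrank F V := by omega
  have hA := Cfsg.Agent.Lib.Helper52_OO2_AZ.Asp_eq_bot Q n hn hq hP h ρ ψ hψ hint f hW z hz hQz
  have hB := Cfsg.Agent.Lib.Helper41_OO2_N1MAP.finrank_Bsp_eq Q hQ hdim5 h ρ ψ z hz
  rw [hA, finrank_bot] at hB
  have hB' : Bsp Q ρ ψ v v' w0 w0' z = ⊥ := Submodule.finrank_eq_zero.mp hB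
  rw [eq_bot_iff, ← hB']
  exact h58_wsp2_le_Bsp Q h ρ ψ z

theorem finrank_wsp2 (Q : QuadraticForm F V) (n : ℕ) (hn : 3 ≤ n) (hq : 4 ≤ Fintype.card F)
    (hP : IsOddT Q n) {v v' w0 w0' : V} (h : HQuad Q v v' w0 w0') [DecidableEq ↥(perp Q v v')]
    (ρ : Representation ℂ ↥(T Q) X) (ψ : AddChar F ℂ) (hψ : ψ ≠ 1)
    (hint : DirectSum.IsInternal (fun u : ↥(perp Q v v') => wsp Q ρ ψ v v' u))
    (f : ℕ) (hW : WData Q ρ ψ v v' 1 f) (z : V) (hz : z ∈ W1 Q v v' w0 w0') (hz0 : z ≠ 0)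
    (hQz : Q z = 0) : finrank ℂ ↥(wsp2 Q ρ ψ v v' w0 w0' z) = 1 := by
  have hQ := hP.nondeg
  have hdimV : finrank F V = 2 * n + 1 := hP.dim
  have hdim5 : 5 ≤ finrank F V := by omega
  have hA := Cfsg.Agent.Lib.Helper52_OO2_AZ.finrank_Asp Q n hn hq hP h ρ ψ hψ hint f hW z hz hz0 hQz
  have hB := Cfsg.Agent.Lib.Helper41_OO2_N1MAP.finrank_Bsp_eq Q hQ hdim5 h ρ ψ z hz
  rw [hA] at hB
  have heq : wsp2 Q ρ ψ v v' w0 w0' z = Bsp Q ρ ψ v v' w0 w0' z :=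
    le_antisymm (h58_wsp2_le_Bsp Q h ρ ψ z)
      (h58_Bsp_le_wsp2 Q hQ hdim5 hq h ρ ψ z hz (le_of_eq hB))
  rw [heq, hB]

end Cfsg.Agent.Lib.Helper58_OO2_B3_L2DIM
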