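import Mathlib
import Cfsg.Agent.Lib.Helper97_OX3Defs
import Cfsg.Agent.Lib.Helper94_OrthVec

set_option autoImplicit false
set_option linter.unusedSectionVars false
set_option linter.unusedVariables false

/-!
# OEXT3 market (architect helper97), package TT_ORTH, verbatim: `aniso_normal_form`.
Normal form of the anisotropic plane `{p, p'}^⊥` of a four-dimensional quadratic space over a finite
field of odd characteristic.
-/

namespace Cfsg.Agent.Lib.Helper58_OX3_TT_ORTH

open Module Cfsg.Agent.Lib.Helper94_OrthSmall Cfsg.Agent.Lib.Helper94_OrthSiegel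
  Cfsg.Agent.Lib.Helper98_ExtDefs Cfsg.Agent.Lib.Helper97_OX2Defs
  Cfsg.Agent.Lib.Helper97_OX3Defs
open scoped commutatorElement

/-- in a finite field the product of two nonsquares is a square -/
theorem h58_isSquare_mul_of_nonsq {K : Type*} [Field K] [Finite K] {a b : K}
    (ha : ¬ IsSquare a) (hb : ¬ IsSquare b) : IsSquare (a * b) := by
  classical
  letI : Fintype K := Fintype.ofFinite K
  have hχa : quadraticChar K a = -1 := quadraticChar_neg_one_iff_not_isSquare.mpr ha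
  have hχb : quadraticChar K b = -1 := quadraticChar_neg_one_iff_not_isSquare.mpr hb
  have ha0 : a ≠ 0 := fun h => ha (h ▸ IsSquare.zero)
  have hb0 : b ≠ 0 := fun h => hb (h ▸ IsSquare.zero)
  have hχ : quadraticChar K (a * b) = 1 := by rw [map_mul, hχa, hχb]; norm_num
  exact (quadraticChar_one_iff_isSquare (mul_ne_zero ha0 hb0)).mp hχ

section GEO

variable {K V : Type*} [Field K] [AddCommGroup V] [Module K V]
  (Q : V → K) (B : LinearMap.BilinForm K V)
  (hQs : ∀ (c : K) (v : V), Q (c • v) = c * c * Q v)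
  (hQp : ∀ u v : V, Q (u + v) = Q u + Q v + B u v)

include hQs hQp

/-- four vectors with "orthogonal hyperbolic pair + two orthogonal nonsingular" Gram matrix span a
four-dimensional space; coordinates of the vectors of `{p, p'}^⊥` -/
theorem h58_span_of_gram [FiniteDimensional K V] (h2 : (2 : K) ≠ 0) (hm : finrank K V = 4)
    {p p' e₁ e₂ : V} (hp : Q p = 0) (hp' : Q p' = 0) (hpp' : B p p' = 1)
    (he₁p : B e₁ p = 0) (he₁p' : B e₁ p' = 0) (he₂p : B e₂ p = 0) (he₂p' : B e₂ p' = 0)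
    (he₁e₂ : B e₁ e₂ = 0) (hQe₁ : Q e₁ ≠ 0) (hQe₂ : Q e₂ ≠ 0) :
    ∀ x : V, B x p = 0 → B x p' = 0 → ∃ α β : K, x = α • e₁ + β • e₂ := by
  have hsymm := B_symm Q B hQp
  have hself := B_self Q B hQs hQp
  have hpp : B p p = 0 := by rw [hself, hp, mul_zero]
  have hp'p' : B p' p' = 0 := by rw [hself, hp', mul_zero]
  have hp'p : B p' p = 1 := by rw [hsymm, hpp']
  have he₂e₁ : B e₂ e₁ = 0 := by rw [hsymm, he₁e₂]
  have he₁e₁ : B e₁ e₁ ≠ 0 := by rw [hself]; exact mul_ne_zero h2 hQe₁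
  have he₂e₂ : B e₂ e₂ ≠ 0 := by rw [hself]; exact mul_ne_zero h2 hQe₂
  have hli : LinearIndependent K ![p, p', e₁, e₂] := by
    rw [Fintype.linearIndependent_iff]
    intro g hg
    rw [Fin.sum_univ_four] at hg
    change g 0 • p + g 1 • p' + g 2 • e₁ + g 3 • e₂ = 0 at hg
    have h0 : g 0 = 0 := by
      have := congrArg (fun y => B y p') hg
      simpa [hpp', hp'p', he₁p', he₂p'] using this
    have h1 : g 1 = 0 := by
      have := congrArg (fun y => B y p) hg
      simpa [hpp, hp'p, he₁p, he₂p] using this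
    have h2' : g 2 = 0 := by
      have := congrArg (fun y => B y e₁) hg
      simp only [map_add, map_smul, LinearMap.add_apply, LinearMap.smul_apply, smul_eq_mul,
        hsymm p e₁, hsymm p' e₁, he₁p, he₁p', he₂e₁, mul_zero, zero_add, add_zero, map_zero,
        LinearMap.zero_apply] at this
      exact (mul_eq_zero.mp this).resolve_right he₁e₁
    have h3 : g 3 = 0 := by
      have := congrArg (fun y => B y e₂) hg
      simp only [map_add, map_smul, LinearMap.add_apply, LinearMap.smul_apply, smul_eq_mul,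
        hsymm p e₂, hsymm p' e₂, he₂p, he₂p', he₁e₂, mul_zero, zero_add, add_zero, map_zero,
        LinearMap.zero_apply] at this
      exact (mul_eq_zero.mp this).resolve_right he₂e₂
    intro i
    fin_cases i
    · exact h0
    · exact h1
    · exact h2'
    · exact h3
  have htop := hli.span_eq_top_of_card_eq_finrank' (by rw [hm]; rfl)
  intro x hxp hxp'
  have hx : x ∈ Submodule.span K (Set.range ![p, p', e₁, e₂]) := by rw [htop]; trivial
  obtain ⟨c, hc⟩ := (Submodule.mem_span_range_iff_exists_fun K).mp hx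
  rw [Fin.sum_univ_four] at hc
  change c 0 • p + c 1 • p' + c 2 • e₁ + c 3 • e₂ = x at hc
  have h0 : c 0 = 0 := by
    have := congrArg (fun y => B y p') hc
    simp only [map_add, map_smul, LinearMap.add_apply, LinearMap.smul_apply, smul_eq_mul,
      hpp', hp'p', he₁p', he₂p', mul_zero, add_zero, mul_one, hxp'] at this
    exact this
  have h1 : c 1 = 0 := by
    have := congrArg (fun y => B y p) hc
    simp only [map_add, map_smul, LinearMap.add_apply, LinearMap.smul_apply, smul_eq_mul,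
      hpp, hp'p, he₁p, he₂p, mul_zero, add_zero, zero_add, mul_one, hxp] at this
    exact this
  refine ⟨c 2, c 3, ?_⟩
  rw [← hc, h0, h1, zero_smul, zero_smul, zero_add, zero_add]

/-- TT_ORTH: normal form of an anisotropic plane `Λ = {p, p'}^⊥` over a finite field of odd
characteristic: for every nonsquare `f'` there is an orthogonal basis `e₁, e₂` of `Λ` with
`Q e₂ = - f' * Q e₁` -/
theorem aniso_normal_form [Finite K] [FiniteDimensional K V] (h2 : (2 : K) ≠ 0)
    (hN : B.Nondegenerate) (hm : finrank K V = 4) {p p' : V} (hp : Q p = 0) (hp' : Q p' = 0)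
    (hpp' : B p p' = 1)
    (haniso : ∀ x : V, B x p = 0 → B x p' = 0 → Q x = 0 → x = 0)
    {f' : K} (hf' : ¬ IsSquare f') :
    ∃ e₁ e₂ : V, B e₁ p = 0 ∧ B e₁ p' = 0 ∧ B e₂ p = 0 ∧ B e₂ p' = 0 ∧ Q e₁ ≠ 0 ∧ B e₁ e₂ = 0 ∧
      Q e₂ = - f' * Q e₁ ∧
      ∀ x : V, B x p = 0 → B x p' = 0 → ∃ α β : K, x = α • e₁ + β • e₂ := by
  have hsymm := B_symm Q B hQp
  have hself := B_self Q B hQs hQp
  -- a nonzero vector of `Λ`
  obtain ⟨e₁, he₁0, he₁p, he₁p'⟩ : ∃ e₁ : V, e₁ ≠ 0 ∧ B e₁ p = 0 ∧ B e₁ p' = 0 := by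
    have hlt : finrank K (K × K) < finrank K V := by
      rw [hm, Module.finrank_prod, Module.finrank_self]; norm_num
    have hker := LinearMap.ker_ne_bot_of_finrank_lt (f := (B.flip p).prod (B.flip p')) hlt
    obtain ⟨x, hx, hx0⟩ := (Submodule.ne_bot_iff _).mp hker
    have hx' : ((B.flip p).prod (B.flip p')) x = 0 := LinearMap.mem_ker.mp hx
    have h1 : B x p = 0 := congrArg Prod.fst hx'
    have h2 : B x p' = 0 := congrArg Prod.snd hx'
    exact ⟨x, hx0, h1, h2⟩
  have hQe₁ : Q e₁ ≠ 0 := fun h => he₁0 (haniso e₁ he₁p he₁p' h)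
  -- a nonzero vector of `Λ` orthogonal to `e₁`
  obtain ⟨e₂, he₂0, he₂p, he₂p', he₂e₁⟩ :
      ∃ e₂ : V, e₂ ≠ 0 ∧ B e₂ p = 0 ∧ B e₂ p' = 0 ∧ B e₂ e₁ = 0 := by
    have hlt : finrank K (K × K × K) < finrank K V := by
      rw [hm, Module.finrank_prod, Module.finrank_prod, Module.finrank_self]; norm_num
    have hker := LinearMap.ker_ne_bot_of_finrank_lt
      (f := (B.flip p).prod ((B.flip p').prod (B.flip e₁))) hlt
    obtain ⟨x, hx, hx0⟩ := (Submodule.ne_bot_iff _).mp hker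
    have hx' : ((B.flip p).prod ((B.flip p').prod (B.flip e₁))) x = 0 := LinearMap.mem_ker.mp hx
    have h1 : B x p = 0 := congrArg Prod.fst hx'
    have h2 : B x p' = 0 := congrArg (fun z => z.2.1) hx'
    have h3 : B x e₁ = 0 := congrArg (fun z => z.2.2) hx'
    exact ⟨x, hx0, h1, h2, h3⟩
  have hQe₂ : Q e₂ ≠ 0 := fun h => he₂0 (haniso e₂ he₂p he₂p' h)
  have he₁e₂ : B e₁ e₂ = 0 := by rw [hsymm, he₂e₁]
  -- `n = - Q e₂ / Q e₁` is a nonsquare
  obtain ⟨n, hn⟩ : ∃ n, n = -Q e₂ / Q e₁ := ⟨_, rfl⟩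
  have hnQ : Q e₂ = -n * Q e₁ := by rw [hn]; field_simp
  have hn0 : n ≠ 0 := by
    rw [hn]
    exact div_ne_zero (neg_ne_zero.mpr hQe₂) hQe₁
  have hnsq : ¬ IsSquare n := by
    rintro ⟨r, hr⟩
    have hx : Q (r • e₁ + e₂) = 0 := by
      rw [hQp, hQs, map_smul, LinearMap.smul_apply, he₁e₂, hnQ, hr, smul_zero]; ring
    have h0 := haniso (r • e₁ + e₂)
      (by rw [map_add, LinearMap.add_apply, map_smul, LinearMap.smul_apply, he₁p, he₂p, smul_zero,
        add_zero])
      (by rw [map_add, LinearMap.add_apply, map_smul, LinearMap.smul_apply, he₁p', he₂p',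
        smul_zero, add_zero]) hx
    have h3 : B (r • e₁ + e₂) e₂ = 2 * Q e₂ := by
      rw [map_add, LinearMap.add_apply, map_smul, LinearMap.smul_apply, he₁e₂, smul_zero, zero_add,
        hself]
    rw [h0, map_zero, LinearMap.zero_apply] at h3
    rcases mul_eq_zero.mp h3.symm with h | h
    · exact h2 h
    · exact hQe₂ h
  have hf'0 : f' ≠ 0 := fun h => hf' (h ▸ IsSquare.zero)
  obtain ⟨r, hr⟩ := h58_isSquare_mul_of_nonsq hnsq hf'
  have hr0 : r ≠ 0 := by
    rintro rfl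
    rw [mul_zero] at hr
    exact mul_ne_zero hn0 hf'0 hr
  obtain ⟨E₂, hE₂⟩ : ∃ E₂, E₂ = (f' / r) • e₂ := ⟨_, rfl⟩
  have hQE₂ : Q E₂ = -f' * Q e₁ := by
    rw [hE₂, hQs, hnQ]
    have : n = r * r / f' := by rw [← hr]; field_simp
    rw [this]
    field_simp
  have hE₂p : B E₂ p = 0 := by rw [hE₂, map_smul, LinearMap.smul_apply, he₂p, smul_zero]
  have hE₂p' : B E₂ p' = 0 := by rw [hE₂, map_smul, LinearMap.smul_apply, he₂p', smul_zero]
  have he₁E₂ : B e₁ E₂ = 0 := by rw [hE₂, map_smul, he₁e₂, smul_zero]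
  have hQE₂0 : Q E₂ ≠ 0 := by
    rw [hQE₂]
    exact mul_ne_zero (neg_ne_zero.mpr hf'0) hQe₁
  exact ⟨e₁, E₂, he₁p, he₁p', hE₂p, hE₂p', hQe₁, he₁E₂, hQE₂,
    h58_span_of_gram Q B hQs hQp h2 hm hp hp' hpp' he₁p he₁p' hE₂p hE₂p' he₁E₂ hQe₁ hQE₂0⟩

end GEO

end Cfsg.Agent.Lib.Helper58_OX3_TT_ORTH
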