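import Mathlib
import Cfsg.Agent.Lib.Helper14_OrthAutDefs

/-!
# Orthogonal Aut project, package PC-conf (helper58)

A semilinear bijection of `W = ⟨e, f⟩^⊥` which preserves singular vectors multiplies the quadratic
form by a constant (twisted by the field endomorphism): `Q (A w) = c * τ (Q w)`.

Only the finiteness of the field, the non-degeneracy of the polar form and `7 ≤ dim V` are used.
-/

set_option autoImplicit false

namespace Cfsg.Agent.Lib.Helper58_OrthConf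

open Module Cfsg.Agent.Lib.Helper14_OmegaSimple Cfsg.Agent.Lib.Helper14_OrthAut
  Cfsg.Agent.Lib.Helper44_QuadClass

section pure

variable {F V : Type*} [Field F] [AddCommGroup V] [Module F V]

/-- Expansion of `Q (X + α Y + β Z)`. -/
theorem Q_three (Q : QuadraticForm F V) (X Y Z : V) (α β : F) :
    Q (X + α • Y + β • Z) = Q X + α * α * Q Y + β * β * Q Z + α * QuadraticMap.polar (⇑Q) X Y
      + β * QuadraticMap.polar (⇑Q) X Z + α * β * QuadraticMap.polar (⇑Q) Y Z := by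
  have e1 : Q (X + α • Y + β • Z) = Q (X + α • Y) + Q (β • Z) +
      QuadraticMap.polar (⇑Q) (X + α • Y) (β • Z) := by
    simp only [QuadraticMap.polar]; ring
  have e2 : Q (X + α • Y) = Q X + Q (α • Y) + QuadraticMap.polar (⇑Q) X (α • Y) := by
    simp only [QuadraticMap.polar]; ring
  rw [e1, e2]
  simp only [QuadraticMap.polar_smul_right, QuadraticMap.polar_smul_left,
    QuadraticMap.polar_add_left, QuadraticMap.map_smul, smul_eq_mul]
  ring

variable {Q : QuadraticForm F V}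

/-- A map which is `τ`-semilinear on `W`, maps `W` to `W` and preserves singular vectors of `W`. -/
structure SemiOn (Q : QuadraticForm F V) (W : Submodule F V) (τ : F →+* F) (A : V → V) : Prop where
  maps : ∀ w ∈ W, A w ∈ W
  add : ∀ w ∈ W, ∀ w' ∈ W, A (w + w') = A w + A w'
  smul : ∀ (a : F), ∀ w ∈ W, A (a • w) = τ a • A w
  sing : ∀ w ∈ W, Q w = 0 → Q (A w) = 0

/-- A hyperbolic pair inside `W`. -/
structure HPair (Q : QuadraticForm F V) (W : Submodule F V) (u v : V) : Prop where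
  uW : u ∈ W
  vW : v ∈ W
  qu : Q u = 0
  qv : Q v = 0
  uv : QuadraticMap.polar (⇑Q) u v = 1

variable {W : Submodule F V} {τ : F →+* F} {A : V → V}

theorem SemiOn.map_three (h : SemiOn Q W τ A) {w u v : V} (hw : w ∈ W) (hu : u ∈ W) (hv : v ∈ W)
    (a b : F) : A (w + a • u + b • v) = A w + τ a • A u + τ b • A v := by
  rw [h.add _ (W.add_mem hw (W.smul_mem a hu)) _ (W.smul_mem b hv), h.add _ hw _ (W.smul_mem a hu),
    h.smul a u hu, h.smul b v hv]

/-- Orthogonal singular vectors have orthogonal images. -/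
theorem SemiOn.polar_zero (h : SemiOn Q W τ A) {s t : V} (hs : s ∈ W) (ht : t ∈ W)
    (hQs : Q s = 0) (hQt : Q t = 0) (hst : QuadraticMap.polar (⇑Q) s t = 0) :
    QuadraticMap.polar (⇑Q) (A s) (A t) = 0 := by
  have hst0 : Q (s + t) = 0 := by
    have : Q (s + t) = Q s + Q t + QuadraticMap.polar (⇑Q) s t := by
      simp only [QuadraticMap.polar]; ring
    rw [this, hQs, hQt, hst]; ring
  have h1 : Q (A (s + t)) = Q (A s) + Q (A t) + QuadraticMap.polar (⇑Q) (A s) (A t) := by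
    rw [h.add s hs t ht]
    simp only [QuadraticMap.polar]; ring
  rw [h.sing _ (W.add_mem hs ht) hst0, h.sing s hs hQs, h.sing t ht hQt] at h1
  linear_combination -h1

/-- If `t` is singular and orthogonal to the hyperbolic pair `u1, v1`, and `w` is orthogonal to
`u1, v1, t`, then `A w ⊥ A t`. -/
theorem SemiOn.polar_zero_of_orth (h : SemiOn Q W τ A) {u1 v1 : V} (hp : HPair Q W u1 v1)
    {t w : V} (ht : t ∈ W) (hQt : Q t = 0)
    (htu : QuadraticMap.polar (⇑Q) u1 t = 0) (htv : QuadraticMap.polar (⇑Q) v1 t = 0)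
    (hw : w ∈ W) (hwu : QuadraticMap.polar (⇑Q) w u1 = 0) (hwv : QuadraticMap.polar (⇑Q) w v1 = 0)
    (hwt : QuadraticMap.polar (⇑Q) w t = 0) :
    QuadraticMap.polar (⇑Q) (A w) (A t) = 0 := by
  have hx : w + (-(Q w)) • u1 + (1 : F) • v1 ∈ W :=
    W.add_mem (W.add_mem hw (W.smul_mem _ hp.uW)) (W.smul_mem _ hp.vW)
  have hQx : Q (w + (-(Q w)) • u1 + (1 : F) • v1) = 0 := by
    rw [Q_three, hp.qu, hp.qv, hwu, hwv, hp.uv]; ring
  have hxt : QuadraticMap.polar (⇑Q) (w + (-(Q w)) • u1 + (1 : F) • v1) t = 0 := by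
    simp only [QuadraticMap.polar_add_left, QuadraticMap.polar_smul_left, hwt, htu, htv,
      smul_zero, add_zero]
  have h0 := h.polar_zero hx ht hQx hQt hxt
  rw [h.map_three hw hp.uW hp.vW] at h0
  simp only [QuadraticMap.polar_add_left, QuadraticMap.polar_smul_left,
    h.polar_zero hp.uW ht hp.qu hQt htu, h.polar_zero hp.vW ht hp.qv hQt htv, smul_zero,
    add_zero] at h0
  exact h0

/-- If `t` is singular and orthogonal to the hyperbolic pair `u1, v1`, and `w ⊥ t`, then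
`A w ⊥ A t`. -/
theorem SemiOn.polar_zero_of_orth' (h : SemiOn Q W τ A) {u1 v1 : V} (hp : HPair Q W u1 v1)
    {t w : V} (ht : t ∈ W) (hQt : Q t = 0)
    (htu : QuadraticMap.polar (⇑Q) u1 t = 0) (htv : QuadraticMap.polar (⇑Q) v1 t = 0)
    (hw : w ∈ W) (hwt : QuadraticMap.polar (⇑Q) w t = 0) :
    QuadraticMap.polar (⇑Q) (A w) (A t) = 0 := by
  obtain ⟨a, ha⟩ : ∃ a, a = QuadraticMap.polar (⇑Q) w v1 := ⟨_, rfl⟩
  obtain ⟨b, hb⟩ : ∃ b, b = QuadraticMap.polar (⇑Q) w u1 := ⟨_, rfl⟩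
  have hvu : QuadraticMap.polar (⇑Q) v1 u1 = 1 := by rw [QuadraticMap.polar_comm]; exact hp.uv
  have huu : QuadraticMap.polar (⇑Q) u1 u1 = 0 := by rw [polar_self', hp.qu, mul_zero]
  have hvv : QuadraticMap.polar (⇑Q) v1 v1 = 0 := by rw [polar_self', hp.qv, mul_zero]
  have hw1 : w + (-a) • u1 + (-b) • v1 ∈ W :=
    W.add_mem (W.add_mem hw (W.smul_mem _ hp.uW)) (W.smul_mem _ hp.vW)
  have hw1u : QuadraticMap.polar (⇑Q) (w + (-a) • u1 + (-b) • v1) u1 = 0 := by
    simp only [QuadraticMap.polar_add_left, QuadraticMap.polar_smul_left, huu, hvu, smul_eq_mul]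
    rw [hb]; ring
  have hw1v : QuadraticMap.polar (⇑Q) (w + (-a) • u1 + (-b) • v1) v1 = 0 := by
    simp only [QuadraticMap.polar_add_left, QuadraticMap.polar_smul_left, hp.uv, hvv, smul_eq_mul]
    rw [ha]; ring
  have hw1t : QuadraticMap.polar (⇑Q) (w + (-a) • u1 + (-b) • v1) t = 0 := by
    simp only [QuadraticMap.polar_add_left, QuadraticMap.polar_smul_left, hwt, htu, htv,
      smul_zero, add_zero]
  have hweq : w = (w + (-a) • u1 + (-b) • v1) + a • u1 + b • v1 := by module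
  have hA : A w = A (w + (-a) • u1 + (-b) • v1) + τ a • A u1 + τ b • A v1 := by
    rw [← h.map_three hw1 hp.uW hp.vW]
    congr 1
  rw [hA]
  simp only [QuadraticMap.polar_add_left, QuadraticMap.polar_smul_left,
    h.polar_zero_of_orth hp ht hQt htu htv hw1 hw1u hw1v hw1t,
    h.polar_zero hp.uW ht hp.qu hQt htu, h.polar_zero hp.vW ht hp.qv hQt htv, smul_zero,
    add_zero]

/-- Main computation: with two orthogonal hyperbolic pairs in `W`, `Q ∘ A = c · τ ∘ Q` on `W`. -/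
theorem SemiOn.conformal_of_pairs (h : SemiOn Q W τ A) {u v u1 v1 : V} (hp : HPair Q W u v)
    (hp1 : HPair Q W u1 v1)
    (huu1 : QuadraticMap.polar (⇑Q) u u1 = 0) (huv1 : QuadraticMap.polar (⇑Q) u v1 = 0)
    (hvu1 : QuadraticMap.polar (⇑Q) v u1 = 0) (hvv1 : QuadraticMap.polar (⇑Q) v v1 = 0) :
    ∀ w ∈ W, Q (A w) = QuadraticMap.polar (⇑Q) (A u) (A v) * τ (Q w) := by
  have hu1u : QuadraticMap.polar (⇑Q) u1 u = 0 := by rw [QuadraticMap.polar_comm]; exact huu1
  have hv1u : QuadraticMap.polar (⇑Q) v1 u = 0 := by rw [QuadraticMap.polar_comm]; exact huv1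
  have hu1v : QuadraticMap.polar (⇑Q) u1 v = 0 := by rw [QuadraticMap.polar_comm]; exact hvu1
  have hv1v : QuadraticMap.polar (⇑Q) v1 v = 0 := by rw [QuadraticMap.polar_comm]; exact hvv1
  have Ku : ∀ w ∈ W, QuadraticMap.polar (⇑Q) w u = 0 →
      QuadraticMap.polar (⇑Q) (A w) (A u) = 0 := fun w hw hwu =>
    h.polar_zero_of_orth' hp1 hp.uW hp.qu hu1u hv1u hw hwu
  have Kv : ∀ w ∈ W, QuadraticMap.polar (⇑Q) w v = 0 →
      QuadraticMap.polar (⇑Q) (A w) (A v) = 0 := fun w hw hwv =>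
    h.polar_zero_of_orth' hp1 hp.vW hp.qv hu1v hv1v hw hwv
  have K4 : ∀ w ∈ W, QuadraticMap.polar (⇑Q) w u = 0 → QuadraticMap.polar (⇑Q) w v = 0 →
      Q (A w) = QuadraticMap.polar (⇑Q) (A u) (A v) * τ (Q w) := by
    intro w hw hwu hwv
    have hx : w + (-(Q w)) • u + (1 : F) • v ∈ W :=
      W.add_mem (W.add_mem hw (W.smul_mem _ hp.uW)) (W.smul_mem _ hp.vW)
    have hQx : Q (w + (-(Q w)) • u + (1 : F) • v) = 0 := by
      rw [Q_three, hp.qu, hp.qv, hwu, hwv, hp.uv]; ring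
    have h0 := h.sing _ hx hQx
    rw [h.map_three hw hp.uW hp.vW, Q_three, h.sing u hp.uW hp.qu, h.sing v hp.vW hp.qv,
      Ku w hw hwu, Kv w hw hwv] at h0
    simp only [map_neg, map_one] at h0
    linear_combination h0
  intro w hw
  obtain ⟨a, ha⟩ : ∃ a, a = QuadraticMap.polar (⇑Q) w v := ⟨_, rfl⟩
  obtain ⟨b, hb⟩ : ∃ b, b = QuadraticMap.polar (⇑Q) w u := ⟨_, rfl⟩
  have hvu : QuadraticMap.polar (⇑Q) v u = 1 := by rw [QuadraticMap.polar_comm]; exact hp.uv
  have huu : QuadraticMap.polar (⇑Q) u u = 0 := by rw [polar_self', hp.qu, mul_zero]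
  have hvv : QuadraticMap.polar (⇑Q) v v = 0 := by rw [polar_self', hp.qv, mul_zero]
  have hw0 : w + (-a) • u + (-b) • v ∈ W :=
    W.add_mem (W.add_mem hw (W.smul_mem _ hp.uW)) (W.smul_mem _ hp.vW)
  have hw0u : QuadraticMap.polar (⇑Q) (w + (-a) • u + (-b) • v) u = 0 := by
    simp only [QuadraticMap.polar_add_left, QuadraticMap.polar_smul_left, huu, hvu, smul_eq_mul]
    rw [hb]; ring
  have hw0v : QuadraticMap.polar (⇑Q) (w + (-a) • u + (-b) • v) v = 0 := by
    simp only [QuadraticMap.polar_add_left, QuadraticMap.polar_smul_left, hp.uv, hvv, smul_eq_mul]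
    rw [ha]; ring
  have hweq : w = (w + (-a) • u + (-b) • v) + a • u + b • v := by module
  have hQw : Q w = Q (w + (-a) • u + (-b) • v) + a * b := by
    conv_lhs => rw [hweq]
    rw [Q_three, hp.qu, hp.qv, hw0u, hw0v, hp.uv]; ring
  have hA : A w = A (w + (-a) • u + (-b) • v) + τ a • A u + τ b • A v := by
    rw [← h.map_three hw0 hp.uW hp.vW]
    congr 1
  rw [hA, Q_three, h.sing u hp.uW hp.qu, h.sing v hp.vW hp.qv, Ku _ hw0 hw0u, Kv _ hw0 hw0v,
    K4 _ hw0 hw0u hw0v, hQw, map_add τ, map_mul τ]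
  ring

end pure

section finite

variable {F V : Type*} [Field F] [Finite F] [AddCommGroup V] [Module F V] [FiniteDimensional F V]
variable {Q : QuadraticForm F V}

/-- Two mutually orthogonal hyperbolic pairs inside `⟨e, f⟩^⊥` (finite field, `dim ≥ 7`). -/
theorem exists_two_pairs (hnd : (QuadraticMap.polarBilin Q).Nondegenerate)
    (hdim : 7 ≤ finrank F V) {e f : V} (he : Q e = 0) (hf : Q f = 0)
    (hef : QuadraticMap.polar (⇑Q) e f = 1) :
    ∃ u v u1 v1 : V, HPair Q (Wp Q e f) u v ∧ HPair Q (Wp Q e f) u1 v1 ∧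
      QuadraticMap.polar (⇑Q) u u1 = 0 ∧ QuadraticMap.polar (⇑Q) u v1 = 0 ∧
      QuadraticMap.polar (⇑Q) v u1 = 0 ∧ QuadraticMap.polar (⇑Q) v v1 = 0 := by
  have hfr := finrank_perp (Q := Q) he hf hef
  have hnd1 := nondegenerate_perp hnd he hf hef
  obtain ⟨u, hu0, hQu⟩ := exists_singular (Q.comp (perp Q e f).subtype) (by omega)
  obtain ⟨v, hQv, huv⟩ := exists_hyperbolic_partner (Q.comp (perp Q e f).subtype) hnd1 hu0 hQu
  have hfr2 := finrank_perp (Q := Q.comp (perp Q e f).subtype) hQu hQv huv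
  have hnd2 := nondegenerate_perp hnd1 hQu hQv huv
  obtain ⟨u1, hu10, hQu1⟩ := exists_singular
    ((Q.comp (perp Q e f).subtype).comp (perp (Q.comp (perp Q e f).subtype) u v).subtype)
    (by omega)
  obtain ⟨v1, hQv1, hu1v1⟩ := exists_hyperbolic_partner _ hnd2 hu10 hQu1
  have memW : ∀ x : perp Q e f, (x : V) ∈ Wp Q e f := by
    intro x
    have := (mem_perp Q e f).mp x.2
    rw [mem_Wp, QuadraticMap.polar_comm, QuadraticMap.polar_comm (⇑Q) _ f]
    exact this
  have hu1m := (mem_perp _ u v).mp u1.2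
  have hv1m := (mem_perp _ u v).mp v1.2
  simp only [polar_comp_subtype] at hu1m hv1m huv hu1v1
  refine ⟨(u : V), (v : V), ((u1 : perp Q e f) : V), ((v1 : perp Q e f) : V),
    ⟨memW u, memW v, ?_, ?_, huv⟩, ⟨memW _, memW _, ?_, ?_, hu1v1⟩,
    hu1m.1, hv1m.1, hu1m.2, hv1m.2⟩
  · simpa using hQu
  · simpa using hQv
  · simpa using hQu1
  · simpa using hQv1

/-- **PC-conf**: a semilinear bijection of `W = ⟨e, f⟩^⊥` preserving singular vectors multiplies
`Q` by a non-zero constant (twisted by `τ`). -/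
theorem conformal (hH : Hyp Q) {e f : V} (he : Q e = 0) (hf : Q f = 0)
    (hef : QuadraticMap.polar (⇑Q) e f = 1) (τ : F →+* F) (A : V → V)
    (hmaps : ∀ w ∈ Wp Q e f, A w ∈ Wp Q e f)
    (hsurj : ∀ w ∈ Wp Q e f, ∃ w' ∈ Wp Q e f, A w' = w)
    (hadd : ∀ w ∈ Wp Q e f, ∀ w' ∈ Wp Q e f, A (w + w') = A w + A w')
    (hsmul : ∀ (a : F), ∀ w ∈ Wp Q e f, A (a • w) = τ a • A w)
    (hsing : ∀ w ∈ Wp Q e f, Q w = 0 → Q (A w) = 0) :
    ∃ c : F, c ≠ 0 ∧ ∀ w ∈ Wp Q e f, Q (A w) = c * τ (Q w) := by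
  obtain ⟨u, v, u1, v1, hp, hp1, h1, h2, h3, h4⟩ := exists_two_pairs hH.nd hH.dim he hf hef
  have h : SemiOn Q (Wp Q e f) τ A := ⟨hmaps, hadd, hsmul, hsing⟩
  have key := h.conformal_of_pairs hp hp1 h1 h2 h3 h4
  refine ⟨_, ?_, key⟩
  intro hc
  obtain ⟨w', hw', hAw'⟩ := hsurj (u + v) ((Wp Q e f).add_mem hp.uW hp.vW)
  have h0 := key w' hw'
  rw [hAw', hc, zero_mul] at h0
  have hQuv : Q (u + v) = 1 := by
    have : Q (u + v) = Q u + Q v + QuadraticMap.polar (⇑Q) u v := by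
      simp only [QuadraticMap.polar]; ring
    rw [this, hp.qu, hp.qv, hp.uv]; ring
  rw [hQuv] at h0
  exact one_ne_zero h0

end finite

end Cfsg.Agent.Lib.Helper58_OrthConf
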