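import Mathlib
import Cfsg.Prelude.Def_GeometricClasses
import Cfsg.Agent.Lib.Helper94_TensorVec

/-!
# Even-dimensional orthogonal rows, package EV18 (helper58, for helper22)

A tensor product of symmetric forms whose second factor is of plus type is of plus type.
-/

set_option autoImplicit false
set_option linter.unusedVariables false
set_option linter.unusedSectionVars false

open Cfsg Cfsg.Geo Matrix
open scoped Kronecker MatrixGroups

namespace Cfsg.Agent.Lib.Helper58_OrthEven_EV18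

open Cfsg.Agent.Lib.Helper94_TensorVec

variable {ι : Type} [Fintype ι] [DecidableEq ι] {F : Type*} [Field F]

/-- the Gram form of a Kronecker product, summed factor by factor -/
theorem formOfGram_kron {n₁ n₂ : ℕ} (f₂ : (Fin n₂ → F) → (Fin n₂ → F) → F)
    (hf₂ : IsBilinearForm f₂) (G₁ : Matrix (Fin n₁) (Fin n₁) F) (x y : Fin n₁ × Fin n₂ → F) :
    formOfGram id (G₁ ⊗ₖ gramMatrix f₂) x y =
      ∑ a, ∑ a', G₁ a a' * f₂ (fun b => x (a, b)) (fun b => y (a', b)) := by
  unfold formOfGram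
  simp only [Fintype.sum_prod_type, Matrix.kroneckerMap_apply, id]
  refine Finset.sum_congr rfl fun a _ => ?_
  rw [Finset.sum_comm]
  refine Finset.sum_congr rfl fun a' _ => ?_
  rw [form_eq_gram f₂ hf₂, Finset.mul_sum]
  refine Finset.sum_congr rfl fun b _ => ?_
  rw [Finset.mul_sum]
  refine Finset.sum_congr rfl fun b' _ => ?_
  ring

theorem EV18 [Fintype F] (Q : (ι → F) → F) (hQ : IsNondegenerateQuadraticForm Q) (h2 : (2 : F) ≠ 0)
    (n₁ n₂ : ℕ) (e : ι ≃ Fin n₁ × Fin n₂) (P : GL ι F)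
    (f₁ : (Fin n₁ → F) → (Fin n₁ → F) → F) (f₂ : (Fin n₂ → F) → (Fin n₂ → F) → F)
    (hf₁ : IsSymmetricForm f₁) (hf₂ : IsSymmetricForm f₂)
    (hten : IsTensorFormStructure id (QuadraticMap.polar Q) f₁ f₂ e P)
    (hplus : IsPlusTypeOn (fun v : Fin n₂ → F => f₂ v v) ⊤) : IsPlusTypeOn Q ⊤ := by
  obtain ⟨c, hc, hform⟩ := hten
  obtain ⟨U₂, -, hU₂ts, hU₂dim⟩ := hplus
  rw [finrank_top, Module.finrank_fintype_fun_eq_card, Fintype.card_fin] at hU₂dim
  -- polarisation
  have hpol : ∀ u ∈ U₂, ∀ u' ∈ U₂, f₂ u u' = 0 := by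
    intro u hu u' hu'
    have h1 : f₂ (u + u') (u + u') = 0 := hU₂ts _ (U₂.add_mem hu hu')
    have hu0 : f₂ u u = 0 := hU₂ts u hu
    have hu'0 : f₂ u' u' = 0 := hU₂ts u' hu'
    rw [hf₂.bilinear.add_left, hf₂.bilinear.add_right, hf₂.bilinear.add_right,
      hu0, hu'0, hf₂.symm u' u] at h1
    have h3 : (2 : F) * f₂ u u' = 0 := by linear_combination h1
    exact (mul_eq_zero.1 h3).resolve_left h2
  -- the subspace
  let Ψ₀ : (Fin n₁ → ↥U₂) →ₗ[F] (Fin n₁ × Fin n₂ → F) :=
    { toFun := fun w p => (w p.1 : Fin n₂ → F) p.2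
      map_add' := fun w w' => by
        ext p
        simp
      map_smul' := fun r w => by
        ext p
        simp }
  have hΨ₀inj : Function.Injective Ψ₀ := by
    intro w w' h
    ext a b
    exact congrFun h (a, b)
  let Ψ : (Fin n₁ → ↥U₂) →ₗ[F] (ι → F) := (phi e P).toLinearMap.comp Ψ₀
  have hΨinj : Function.Injective Ψ := (phi e P).injective.comp hΨ₀inj
  have hdim : Module.finrank F ↥(LinearMap.range Ψ) = n₁ * Module.finrank F ↥U₂ := by
    rw [LinearMap.finrank_range_of_inj hΨinj, Module.finrank_pi_fintype, Finset.sum_const,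
      Finset.card_univ, Fintype.card_fin, smul_eq_mul]
  have hcard : Fintype.card ι = n₁ * n₂ := by
    rw [Fintype.card_congr e, Fintype.card_prod, Fintype.card_fin, Fintype.card_fin]
  refine ⟨LinearMap.range Ψ, le_top, ?_, ?_⟩
  · rintro v ⟨w, rfl⟩
    have h1 : QuadraticMap.polar Q (Ψ w) (Ψ w) = 0 := by
      have h3 : Ψ w = (P : Matrix ι ι F) *ᵥ ((Ψ₀ w) ∘ e) := phi_apply e P (Ψ₀ w)
      rw [h3, hform, formOfGram_kron f₂ hf₂.bilinear]
      have h4 : ∀ a a' : Fin n₁, f₂ (fun b => Ψ₀ w (a, b)) (fun b => Ψ₀ w (a', b)) = 0 := by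
        intro a a'
        exact hpol _ (w a).2 _ (w a').2
      simp only [h4, mul_zero, Finset.sum_const_zero]
    have h5 : QuadraticMap.polar Q (Ψ w) (Ψ w) = 2 * Q (Ψ w) := by
      unfold QuadraticMap.polar
      have h6 : Ψ w + Ψ w = (2 : F) • Ψ w := (two_smul F _).symm
      rw [h6, hQ.smul]
      ring
    rw [h5] at h1
    exact (mul_eq_zero.1 h1).resolve_left h2
  · rw [finrank_top, Module.finrank_fintype_fun_eq_card, hcard, hdim]
    calc 2 * (n₁ * Module.finrank F ↥U₂) = n₁ * (2 * Module.finrank F ↥U₂) := by ring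
      _ = n₁ * n₂ := by rw [hU₂dim]

end Cfsg.Agent.Lib.Helper58_OrthEven_EV18
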