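import Mathlib
import Cfsg.Prelude.Def_GeometricClasses
import Cfsg.Agent.Lib.Helper94_OrthGenBridge
import Cfsg.Agent.Lib.Helper94_OrthSiegel2
import Cfsg.Agent.Lib.Helper94_TensorVec

/-!
# EVEN-orthogonal package EV20 (helper58, for helper22)

`Ω(Q)` (dimension at least `7`, finite field) preserves no tensor decomposition `d ⊗ s` with
`d, s ≥ 2`.  Fix a nonzero singular `u`; every Siegel element `sieg u z` (`z ∈ u^⊥`) acts
factorwise on pure tensors.  If the second factor has dimension at least `3`, the first factor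
of every `sieg u z` is scalar (otherwise `y ↦ (g - 1) (x ⊗ y)` embeds the second factor into
`span {u, z}`), so all `sieg u z` preserve each `a ⊗ F^s`; choosing `v ∈ a ⊗ F^s` with
`B v u ≠ 0` gives `u^⊥ ≤ a ⊗ F^s + span {u}`, impossible by dimensions.
-/

set_option autoImplicit false

namespace Cfsg.Agent.Lib.Helper58_OrthEven_EV20

open Cfsg Cfsg.Geo Matrix Module
open Cfsg.Agent.Lib.Helper94_Bridge Cfsg.Agent.Lib.Helper94_OrthSmall
  Cfsg.Agent.Lib.Helper94_OrthBridge Cfsg.Agent.Lib.Helper94_OrthSiegel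
  Cfsg.Agent.Lib.Helper94_OrthSiegel2 Cfsg.Agent.Lib.Helper94_OrthGenBridge
  Cfsg.Agent.Lib.Helper94_TensorVec
open scoped MatrixGroups

section core

variable {F V : Type*} [Field F] [AddCommGroup V] [Module F V]
variable {κ₁ κ₂ : Type} [Fintype κ₁] [Fintype κ₂] [DecidableEq κ₁] [DecidableEq κ₂]

/-- right tensoring with a fixed left factor, as a linear map -/
def tenR (x : κ₁ → F) : (κ₂ → F) →ₗ[F] (κ₁ × κ₂ → F) where
  toFun := ten x
  map_add' := ten_add_right x
  map_smul' := fun c y => by rw [ten_smul_right]; rfl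

omit [Fintype κ₁] [Fintype κ₂] [DecidableEq κ₁] [DecidableEq κ₂] in
lemma tenR_apply (x : κ₁ → F) (y : κ₂ → F) : tenR x y = ten x y := rfl

omit [Fintype κ₂] [DecidableEq κ₂] in
/-- a matrix mapping every vector to a multiple of itself is scalar -/
lemma scalar_of_parallel (a : Matrix κ₁ κ₁ F)
    (h : ∀ x : κ₁ → F, ∃ c : F, a *ᵥ x = c • x) : ∃ α : F, a = α • (1 : Matrix κ₁ κ₁ F) := by
  obtain ⟨α, hα⟩ := LinearMap.exists_eq_smul_id_of_forall_notLinearIndependent
    (f := Matrix.toLin' a) (fun v hli => by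
      obtain ⟨c, hc⟩ := h v
      rw [LinearIndependent.pair_iff] at hli
      have := hli c (-1) (by rw [Matrix.toLin'_apply, hc]; simp)
      exact one_ne_zero (neg_eq_zero.mp this.2))
  refine ⟨α, ?_⟩
  apply Matrix.toLin'.injective
  rw [hα, map_smul, Matrix.toLin'_one]
  rfl

omit [Fintype κ₁] [Fintype κ₂] [DecidableEq κ₁] [DecidableEq κ₂] in
lemma ten_eq_ten_eigen (x x' : κ₁ → F) (y y' : κ₂ → F) (h : ten x' y' = ten x y) (hy : y ≠ 0) :
    ∃ c : F, x = c • x' := by
  obtain ⟨j, hj⟩ : ∃ j, y j ≠ 0 := by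
    by_contra hcon
    apply hy
    funext j
    by_contra hj
    exact hcon ⟨j, hj⟩
  refine ⟨y' j / y j, ?_⟩
  funext i
  have h1 := congrFun h (i, j)
  simp only [ten_apply] at h1
  simp only [Pi.smul_apply, smul_eq_mul]
  rw [div_mul_eq_mul_div, eq_div_iff hj, ← h1]
  ring

variable (Q : V → F) (B : LinearMap.BilinForm F V)
  (hQs : ∀ (c : F) (v : V), Q (c • v) = c * c * Q v)
  (hQp : ∀ u v : V, Q (u + v) = Q u + Q v + B u v)

omit [DecidableEq κ₁] [DecidableEq κ₂] in
include hQs hQp in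
/-- if the second factor has dimension at least three, every vector is an eigenvector of the
first factor of a Siegel element acting factorwise -/
lemma left_eigen (u z : V) (hu : Q u = 0) (huz : B u z = 0) (φ : (κ₁ × κ₂ → F) ≃ₗ[F] V)
    (A : Matrix κ₁ κ₁ F) (C : Matrix κ₂ κ₂ F)
    (hAC : ∀ a y, sieg Q B u z (φ (ten a y)) = φ (ten (A *ᵥ a) (C *ᵥ y)))
    (h2 : 3 ≤ Fintype.card κ₂) (x : κ₁ → F) : ∃ c : F, A *ᵥ x = c • x := by
  classical
  by_contra hcon
  have hcon' : ∀ c : F, A *ᵥ x ≠ c • x := fun c hc => hcon ⟨c, hc⟩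
  have hx0 : x ≠ 0 := by
    rintro rfl
    exact hcon' 0 (by simp)
  let Λ : (κ₂ → F) →ₗ[F] V :=
    ((sieg Q B u z : V →ₗ[F] V) - LinearMap.id) ∘ₗ (φ : (κ₁ × κ₂ → F) →ₗ[F] V) ∘ₗ tenR x
  have hΛ : ∀ y, Λ y = sieg Q B u z (φ (ten x y)) - φ (ten x y) := fun y => rfl
  have hinj : Function.Injective Λ := by
    rw [← LinearMap.ker_eq_bot, LinearMap.ker_eq_bot']
    intro y hy
    rw [hΛ, hAC, sub_eq_zero] at hy
    have hy' := φ.injective hy
    by_contra hy0
    obtain ⟨c, hc⟩ := ten_eq_ten_eigen x (A *ᵥ x) y (C *ᵥ y) hy' hy0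
    by_cases hc0 : c = 0
    · rw [hc0, zero_smul] at hc
      exact hx0 hc
    · apply hcon' c⁻¹
      calc A *ᵥ x = c⁻¹ • (c • A *ᵥ x) := by rw [smul_smul, inv_mul_cancel₀ hc0, one_smul]
        _ = c⁻¹ • x := by rw [← hc]
  have hrange : LinearMap.range Λ ≤ Submodule.span F ({u, z} : Set V) := by
    rintro _ ⟨y, rfl⟩
    rw [hΛ, sieg_apply Q B hQs hQp hu huz]
    set w := φ (ten x y)
    have hu' : u ∈ Submodule.span F ({u, z} : Set V) := Submodule.subset_span (by simp)
    have hz' : z ∈ Submodule.span F ({u, z} : Set V) := Submodule.subset_span (by simp)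
    have h3 : w + B w u • z - B w z • u - (Q z * B w u) • u - w
        = B w u • z - B w z • u - (Q z * B w u) • u := by abel
    rw [h3]
    exact Submodule.sub_mem _ (Submodule.sub_mem _ (Submodule.smul_mem _ _ hz')
      (Submodule.smul_mem _ _ hu')) (Submodule.smul_mem _ _ hu')
  have : FiniteDimensional F V := Module.Finite.equiv φ
  have h1 : Module.finrank F (LinearMap.range Λ) = Fintype.card κ₂ := by
    rw [LinearMap.finrank_range_of_inj hinj, Module.finrank_fintype_fun_eq_card]
  have h3 : Module.finrank F (Submodule.span F ({u, z} : Set V)) ≤ 2 := by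
    have h4 := finrank_span_finset_le_card (R := F) ({u, z} : Finset V)
    rw [Finset.coe_pair] at h4
    exact h4.trans Finset.card_le_two
  have h5 := Submodule.finrank_mono hrange
  omega

include hQs hQp in
/-- the abstract core: Siegel elements at a fixed singular vector cannot all act factorwise -/
theorem core (hN : B.Nondegenerate) (φ : (κ₁ × κ₂ → F) ≃ₗ[F] V) (u : V) (hu0 : u ≠ 0)
    (hu : Q u = 0)
    (H : ∀ z, B u z = 0 → ∃ (A : Matrix κ₁ κ₁ F) (C : Matrix κ₂ κ₂ F), ∀ a y,
      sieg Q B u z (φ (ten a y)) = φ (ten (A *ᵥ a) (C *ᵥ y)))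
    (h1 : 2 ≤ Fintype.card κ₁) (h2 : 3 ≤ Fintype.card κ₂) : False := by
  classical
  have : FiniteDimensional F V := Module.Finite.equiv φ
  obtain ⟨x, hx⟩ : ∃ x, B x u ≠ 0 := by
    by_contra hcon
    apply hu0
    apply hN.2 u
    intro x
    by_contra hx
    exact hcon ⟨x, hx⟩
  obtain ⟨t, rfl⟩ : ∃ t, φ t = x := ⟨φ.symm x, φ.apply_symm_apply x⟩
  obtain ⟨i, hi⟩ : ∃ i : κ₁, B (φ (ten (Pi.single i 1) (fun j => t (i, j)))) u ≠ 0 := by
    by_contra hcon
    apply hx
    rw [eq_sum_ten t, map_sum, map_sum, LinearMap.sum_apply]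
    apply Finset.sum_eq_zero
    intro i _
    by_contra hi
    exact hcon ⟨i, hi⟩
  set v := φ (ten (Pi.single i 1) (fun j => t (i, j))) with hv
  set b := B v u with hb
  let W : Submodule F V :=
    Submodule.map (φ : (κ₁ × κ₂ → F) →ₗ[F] V) (LinearMap.range (tenR (Pi.single i (1 : F))))
      ⊔ Submodule.span F {u}
  have hvW : v ∈ W := Submodule.mem_sup_left (Submodule.mem_map_of_mem
    (LinearMap.mem_range_self (tenR (Pi.single i (1 : F))) (fun j => t (i, j))))
  have huW : u ∈ W := Submodule.mem_sup_right (Submodule.mem_span_singleton_self u)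
  have hker : LinearMap.ker (B u) ≤ W := by
    intro z hz
    have huz : B u z = 0 := hz
    obtain ⟨A, C, hAC⟩ := H z huz
    obtain ⟨α, hα⟩ := scalar_of_parallel A (left_eigen Q B hQs hQp u z hu huz φ A C hAC h2)
    have h3 : sieg Q B u z v ∈ W := by
      rw [hv, hAC, hα, Matrix.smul_mulVec, Matrix.one_mulVec, ten_smul_left, ← ten_smul_right]
      exact Submodule.mem_sup_left (Submodule.mem_map_of_mem
        (LinearMap.mem_range_self (tenR (Pi.single i (1 : F))) _))
    have h4 : sieg Q B u z v = v + b • z - B v z • u - (Q z * b) • u :=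
      sieg_apply Q B hQs hQp hu huz v
    have h5 : b • z = sieg Q B u z v - v + (B v z + Q z * b) • u := by
      rw [h4, add_smul]; abel
    have h6 : b • z ∈ W := by
      rw [h5]
      exact Submodule.add_mem _ (Submodule.sub_mem _ h3 hvW) (Submodule.smul_mem _ _ huW)
    have h7 : z = b⁻¹ • (b • z) := by rw [smul_smul, inv_mul_cancel₀ hi, one_smul]
    rw [h7]
    exact Submodule.smul_mem _ _ h6
  have hd1 : Module.finrank F W ≤ Fintype.card κ₂ + 1 := by
    refine (Submodule.finrank_add_le_finrank_add_finrank _ _).trans ?_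
    have e1 : Module.finrank F (Submodule.map (φ : (κ₁ × κ₂ → F) →ₗ[F] V)
        (LinearMap.range (tenR (Pi.single i (1 : F))))) ≤ Fintype.card κ₂ := by
      refine (Submodule.finrank_map_le _ _).trans ?_
      refine (LinearMap.finrank_range_le _).trans ?_
      rw [Module.finrank_fintype_fun_eq_card]
    have e2 : Module.finrank F (Submodule.span F ({u} : Set V)) ≤ 1 := by
      rw [finrank_span_singleton hu0]
    omega
  have hd2 : Module.finrank F V ≤ Module.finrank F (LinearMap.ker (B u)) + 1 := by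
    have h := LinearMap.finrank_range_add_finrank_ker (B u)
    have h' : Module.finrank F (LinearMap.range (B u)) ≤ 1 := by
      have := Submodule.finrank_le (LinearMap.range (B u))
      rwa [Module.finrank_self] at this
    omega
  have hd3 : Module.finrank F V = Fintype.card κ₁ * Fintype.card κ₂ := by
    rw [← φ.finrank_eq, Module.finrank_fintype_fun_eq_card, Fintype.card_prod]
  have hd4 := Submodule.finrank_mono hker
  have hd5 : 2 * Fintype.card κ₂ ≤ Fintype.card κ₁ * Fintype.card κ₂ :=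
    Nat.mul_le_mul_right _ h1
  rw [hd3] at hd2
  omega

end core

variable {ι : Type} [Fintype ι] [DecidableEq ι] {F : Type*} [Field F]

/-- EV20: `Ω` preserves no tensor decomposition `d ⊗ s`, `d, s ≥ 2`, in dimension at least `7` -/
theorem EV20 [Fintype F] (Q : (ι → F) → F) (hQ : IsNondegenerateQuadraticForm Q)
    (hn : 7 ≤ Fintype.card ι) (d s : ℕ) (hd : 1 < d) (hs : 1 < s) (e : ι ≃ Fin d × Fin s)
    (P : GL ι F) : ¬ omegaGL Q ≤ tensorProductSubgroup d s e P := by
  intro hle
  have hQs := gen_hQs Q hQ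
  have hQp := gen_hQp Q hQ
  have hN := gen_hN Q hQ
  have hfr : Module.finrank F (ι → F) = Fintype.card ι := Module.finrank_fintype_fun_eq_card F
  obtain ⟨u, -, hu0, hu⟩ := exists_singular_in Q (polarForm Q hQ) hQs hQp
    (⊤ : Submodule F (ι → F)) (by rw [finrank_top, hfr]; omega)
  have H : ∀ z, polarForm Q hQ u z = 0 → ∃ (A : Matrix (Fin d) (Fin d) F)
      (C : Matrix (Fin s) (Fin s) F), ∀ a y,
      sieg Q (polarForm Q hQ) u z (phi e P (ten a y)) = phi e P (ten (A *ᵥ a) (C *ᵥ y)) := by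
    intro z huz
    have hg : sieg Q (polarForm Q hQ) u z ∈ ⁅oG Q, oG Q⁆ :=
      sieg_mem_commutator' Q (polarForm Q hQ) hQs hQp hN (by rw [hfr]; exact hn) hu huz
    have hA : (glEquiv ι F).symm (sieg Q (polarForm Q hQ) u z) ∈ omegaGL Q := by
      rw [omegaGL_eq, Subgroup.mem_comap]
      simpa using hg
    obtain ⟨A, C, hAC⟩ := exists_factors e P (hle hA)
    refine ⟨A, C, fun a y => ?_⟩
    have h := hAC a y
    rwa [MulEquiv.apply_symm_apply] at h
  have hcard : Fintype.card ι = d * s := by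
    rw [Fintype.card_congr e, Fintype.card_prod, Fintype.card_fin, Fintype.card_fin]
  by_cases hs3 : 3 ≤ s
  · exact core Q (polarForm Q hQ) hQs hQp hN (phi e P) u hu0 hu H
      (by rw [Fintype.card_fin]; omega) (by rw [Fintype.card_fin]; exact hs3)
  · have hs2 : s = 2 := by omega
    have hd3 : 3 ≤ d := by
      subst hs2
      omega
    let φ' : (Fin s × Fin d → F) ≃ₗ[F] (ι → F) :=
      (LinearEquiv.funCongrLeft F F (Equiv.prodComm (Fin d) (Fin s))).trans (phi e P)
    have hφ' : ∀ (y : Fin s → F) (a : Fin d → F), φ' (ten y a) = phi e P (ten a y) := by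
      intro y a
      show phi e P (LinearEquiv.funCongrLeft F F (Equiv.prodComm (Fin d) (Fin s)) (ten y a)) = _
      congr 1
      ext ⟨i, j⟩
      simp [LinearEquiv.funCongrLeft_apply, LinearMap.funLeft_apply, mul_comm]
    refine core Q (polarForm Q hQ) hQs hQp hN φ' u hu0 hu ?_
      (by rw [Fintype.card_fin]; omega) (by rw [Fintype.card_fin]; exact hd3)
    intro z huz
    obtain ⟨A, C, hAC⟩ := H z huz
    exact ⟨C, A, fun y a => by rw [hφ', hAC, hφ']⟩

end Cfsg.Agent.Lib.Helper58_OrthEven_EV20
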