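import Mathlib
import Cfsg.Agent.Lib.Helper34_PG_Defs

set_option autoImplicit false
set_option linter.unusedVariables false
set_option linter.unusedSimpArgs false
set_option linter.unusedSectionVars false

/-!
# S3663 (prime graph of `PSU₃(4)`, architect helper34), package PG-NONTRIV:
the explicit function `f0` lies in `Wset`, and `Vset` contains a non-zero element.
-/

namespace Cfsg.Agent.Lib.Helper58_PG_NONTRIV

open Matrix Cfsg.Agent.Lib.Helper34_PG_F16 Cfsg.Agent.Lib.Helper34_PG_Defs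

/-- `f0` on plain vectors -/
def f0v (v : V3) : ZMod 5 :=
  if v 0 = 0 ∨ v 1 = 0 ∨ v 2 = 0 then 3
  else if (v 1 * (v 0)⁻¹) ^ 5 = F16.mk 6 then 1 else 0

theorem f0_eq (x : Pt) : f0 x = f0v x.1 := rfl

/-- the index type of the normalized vectors -/
abbrev NI : Type := (F16 × F16) ⊕ (F16 ⊕ Unit)

/-- the normalized vectors -/
def nv : NI → V3
  | Sum.inl (a, b) => ![1, a, b]
  | Sum.inr (Sum.inl b) => ![0, 1, b]
  | Sum.inr (Sum.inr _) => ![0, 0, 1]

theorem nrm_nv (n : NI) : Nrm (nv n) := by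
  rcases n with ⟨a, b⟩ | b | u <;> simp [Nrm, nv]

theorem exists_nv_of_nrm (v : V3) (h : Nrm v) : ∃ n, nv n = v := by
  rcases h with h | ⟨h0, h1⟩ | ⟨h0, h1, h2⟩
  · refine ⟨Sum.inl (v 1, v 2), ?_⟩
    funext i
    fin_cases i <;> simp [nv, h]
  · refine ⟨Sum.inr (Sum.inl (v 2)), ?_⟩
    funext i
    fin_cases i <;> simp [nv, h0, h1]
  · refine ⟨Sum.inr (Sum.inr ()), ?_⟩
    funext i
    fin_cases i <;> simp [nv, h0, h1, h2]

theorem nv_injective : Function.Injective nv := by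
  intro n n' h
  have h0 := congrFun h 0
  have h1 := congrFun h 1
  have h2 := congrFun h 2
  rcases n with ⟨a, b⟩ | b | u <;> rcases n' with ⟨a', b'⟩ | b' | u' <;>
    simp [nv] at h0 h1 h2 <;> simp_all

theorem herm_smul_right (x u : V3) (c : F16) : herm x (c • u) = c ^ 4 * herm x u := by
  unfold herm
  simp only [Pi.smul_apply, smul_eq_mul, ← F16.frob_eq, mul_pow]
  ring

theorem herm_smul_left (x u : V3) (c : F16) : herm (c • x) u = c * herm x u := by
  unfold herm
  simp only [Pi.smul_apply, smul_eq_mul]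
  ring

theorem herm_zero_zero : herm (0 : V3) 0 = 0 := by
  unfold herm
  simp

theorem lineSum_smul (f : Pt → ZMod 5) (u : V3) (c : F16) (hc : c ≠ 0) :
    lineSum f (c • u) = lineSum f u := by
  unfold lineSum
  apply Finset.sum_congr rfl
  intro x _
  have : herm x.1 (c • u) = 0 ↔ herm x.1 u = 0 := by
    rw [herm_smul_right]
    simp [hc]
  simp only [this]

theorem exists_normal (u : V3) (hu : u ≠ 0) : ∃ c : F16, c ≠ 0 ∧ ∃ m : NI, u = c • nv m := by
  by_cases h0 : u 0 = 0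
  · by_cases h1 : u 1 = 0
    · have h2 : u 2 ≠ 0 := by
        intro h2
        apply hu
        funext i
        fin_cases i <;> simp [h0, h1, h2]
      refine ⟨u 2, h2, Sum.inr (Sum.inr ()), ?_⟩
      funext i
      fin_cases i <;> simp [nv, h0, h1]
    · refine ⟨u 1, h1, Sum.inr (Sum.inl ((u 1)⁻¹ * u 2)), ?_⟩
      funext i
      fin_cases i <;> simp [nv, h0, h1, mul_inv_cancel_left₀]
  · refine ⟨u 0, h0, Sum.inl ((u 0)⁻¹ * u 1, (u 0)⁻¹ * u 2), ?_⟩
    funext i
    fin_cases i <;> simp [nv, h0, mul_inv_cancel_left₀]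

theorem lineSum_f0 (u : V3) :
    lineSum f0 u = ∑ n : NI, if IsIso (nv n) ∧ herm (nv n) u = 0 then f0v (nv n) else 0 := by
  obtain ⟨G, hG⟩ : ∃ G : V3 → ZMod 5, G = fun v => if Nrm v ∧ herm v u = 0 then f0v v else 0 :=
    ⟨_, rfl⟩
  have h1 : lineSum f0 u = ∑ x : Pt, G x.1 := by
    rw [hG]
    rfl
  rw [h1]
  have h2 : ∑ x : Pt, G x.1 = ∑ v ∈ Finset.univ.filter IsIso, G v :=
    (Finset.sum_subtype (Finset.univ.filter IsIso) (by simp) G).symm
  rw [h2]
  have h3 : ∑ v ∈ Finset.univ.filter IsIso, G v =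
      ∑ v ∈ Finset.univ.filter Nrm, (if IsIso v ∧ herm v u = 0 then f0v v else 0) := by
    rw [Finset.sum_filter, Finset.sum_filter]
    apply Finset.sum_congr rfl
    intro v _
    rw [hG]
    by_cases hi : IsIso v <;> by_cases hn : Nrm v <;> simp [hi, hn]
  rw [h3]
  have h4 : Finset.univ.filter Nrm = Finset.univ.image nv := by
    ext v
    simp only [Finset.mem_filter, Finset.mem_univ, true_and, Finset.mem_image]
    constructor
    · exact exists_nv_of_nrm v
    · rintro ⟨n, rfl⟩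
      exact nrm_nv n
  rw [h4, Finset.sum_image (fun a _ b _ h => nv_injective h)]

set_option maxRecDepth 100000 in
theorem check : ∀ m : NI, herm (nv m) (nv m) ≠ 0 →
    (∑ n : NI, if IsIso (nv n) ∧ herm (nv n) (nv m) = 0 then f0v (nv n) else 0) = 0 := by
  decide +kernel

theorem f0_mem_Wset : f0 ∈ Wset := by
  refine ⟨?_, ?_⟩
  · rintro x y ⟨c, hc⟩
    have hc0 : c ≠ 0 := by
      rintro rfl
      apply y.2.1
      rw [hc, zero_smul]
    have e0 : y.1 0 = c * x.1 0 := by rw [hc]; rfl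
    have e1 : y.1 1 = c * x.1 1 := by rw [hc]; rfl
    have e2 : y.1 2 = c * x.1 2 := by rw [hc]; rfl
    have key : (c * x.1 1) * (c * x.1 0)⁻¹ = x.1 1 * (x.1 0)⁻¹ := by
      rw [mul_inv, mul_mul_mul_comm, mul_inv_cancel₀ hc0, one_mul]
    rw [f0_eq, f0_eq]
    unfold f0v
    rw [e0, e1, e2, key]
    simp only [mul_eq_zero, hc0, false_or]
  · intro u hu
    have hu0 : u ≠ 0 := by
      rintro rfl
      exact hu herm_zero_zero
    obtain ⟨c, hc, m, rfl⟩ := exists_normal u hu0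
    rw [lineSum_smul _ _ _ hc, lineSum_f0]
    apply check
    intro h
    apply hu
    rw [herm_smul_right, herm_smul_left, h, mul_zero, mul_zero]

theorem isIso_a : IsIso ![0, 1, 1] := by decide +kernel

theorem isIso_b : IsIso ![1, F16.mk 2, F16.mk 4] := by decide +kernel

theorem f0v_a : f0v ![0, 1, 1] = 3 := by decide +kernel

theorem f0v_b : f0v ![1, F16.mk 2, F16.mk 4] = 1 := by decide +kernel

theorem exists_ne_zero_Vset : ∃ F ∈ Vset, F ≠ 0 := by
  refine ⟨dd f0, ⟨f0, f0_mem_Wset, rfl⟩, ?_⟩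
  intro h
  have h1 : dd f0 ⟨_, isIso_a⟩ ⟨_, isIso_b⟩ = 0 := by
    rw [h]
    rfl
  unfold dd at h1
  rw [f0_eq, f0_eq] at h1
  simp only [f0v_a, f0v_b] at h1
  revert h1
  decide

end Cfsg.Agent.Lib.Helper58_PG_NONTRIV
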