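/-
S4613 family POM (family architect helper86), sub-market `pom_packages`, package EICHA, verbatim:
`eich_mem_omega` — every Eichler transformation `E(e_k, w)`, `w ⊥ e_k, f_k`, lies in `Ω`.
-/
import Mathlib
import Cfsg.Agent.Lib.Helper86_PomDefs

set_option autoImplicit false
set_option linter.unusedSectionVars false
set_option linter.unusedVariables false

namespace Cfsg.Agent.Lib.Helper58_Pom_EICHA

open Matrix Cfsg Cfsg.Agent.Lib.Helper68_MatGrp Cfsg.Agent.Lib.Helper22_BlkGrp Cfsg.Agent.Lib.Helper22_StOmDefs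
open Cfsg.Agent.Lib.Helper86_PomDefs Cfsg.Agent.Lib.Helper68_AutU
open Cfsg.Agent.Lib.Helper5_OmegaCenter (eichO eichMat)

variable {m : ℕ} {F : Type*} [Field F] [Fintype F] {A B : F} [Fact (Aniso A B)]

/-- `E(e_k, y) ∈ Ω` for a non-singular `y ⊥ e_k, f_k` -/
theorem h58_mem_of_nonsing (k : Fin m) (y : I m → F)
    (hye : QuadraticMap.polar (⇑(Qm m F A B)) (Pi.single (ie k) 1) y = 0)
    (hyf : QuadraticMap.polar (⇑(Qm m F A B)) (Pi.single (jf k) 1) y = 0)
    (hQ : Qm m F A B y ≠ 0) :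
    eichO (Qm m F A B) (Pi.single (ie k) 1) y (Qm_single_np A B (not_isPl_ie k) 1) hye ∈
      Cfsg.Omega F (⇑(Qm m F A B)) := by
  apply Cfsg.Agent.Lib.Helper5_OmegaCenter.eichO_mem_omega (Qm m F A B) Qm_hnd
    (f := Pi.single (jf k) 1)
  · rw [polar_single_single_np A B (not_isPl_jf k), op_jf, if_pos rfl, mul_one]
  · exact hyf
  · exact hQ

/-- `E(e_k, y₁ + y₂) = E(e_k, y₁) E(e_k, y₂)`, membership form -/
theorem h58_mem_of_add (k : Fin m) (y y₁ y₂ : I m → F) (hy : y = y₁ + y₂)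
    (h₁ : QuadraticMap.polar (⇑(Qm m F A B)) (Pi.single (ie k) 1) y₁ = 0)
    (h₂ : QuadraticMap.polar (⇑(Qm m F A B)) (Pi.single (ie k) 1) y₂ = 0)
    (hm₁ : eichO (Qm m F A B) (Pi.single (ie k) 1) y₁ (Qm_single_np A B (not_isPl_ie k) 1) h₁ ∈
      Cfsg.Omega F (⇑(Qm m F A B)))
    (hm₂ : eichO (Qm m F A B) (Pi.single (ie k) 1) y₂ (Qm_single_np A B (not_isPl_ie k) 1) h₂ ∈
      Cfsg.Omega F (⇑(Qm m F A B)))
    (h : QuadraticMap.polar (⇑(Qm m F A B)) (Pi.single (ie k) 1) y = 0) :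
    eichO (Qm m F A B) (Pi.single (ie k) 1) y (Qm_single_np A B (not_isPl_ie k) 1) h ∈
      Cfsg.Omega F (⇑(Qm m F A B)) := by
  subst hy
  have key : eichO (Qm m F A B) (Pi.single (ie k) 1) (y₁ + y₂)
        (Qm_single_np A B (not_isPl_ie k) 1) h =
      eichO (Qm m F A B) (Pi.single (ie k) 1) y₁ (Qm_single_np A B (not_isPl_ie k) 1) h₁ *
        eichO (Qm m F A B) (Pi.single (ie k) 1) y₂ (Qm_single_np A B (not_isPl_ie k) 1) h₂ := by
    apply φO_injective
    rw [map_mul]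
    show eichMat (Qm m F A B) (Pi.single (ie k) 1) (y₁ + y₂) =
      eichMat (Qm m F A B) (Pi.single (ie k) 1) y₁ * eichMat (Qm m F A B) (Pi.single (ie k) 1) y₂
    rw [Cfsg.Agent.Lib.Helper5_OmegaCenter.eichMat_mul (Qm m F A B)
      (Qm_single_np A B (not_isPl_ie k) 1) h₁ h₂]
  rw [key]
  exact Subgroup.mul_mem _ hm₁ hm₂

/-- `E(e_k, 0) = 1` -/
theorem h58_mem_zero (k : Fin m)
    (h : QuadraticMap.polar (⇑(Qm m F A B)) (Pi.single (ie k) 1) (0 : I m → F) = 0) :
    eichO (Qm m F A B) (Pi.single (ie k) 1) (0 : I m → F)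
      (Qm_single_np A B (not_isPl_ie k) 1) h ∈ Cfsg.Omega F (⇑(Qm m F A B)) := by
  have key : eichO (Qm m F A B) (Pi.single (ie k) 1) (0 : I m → F)
      (Qm_single_np A B (not_isPl_ie k) 1) h = 1 := by
    apply φO_injective
    rw [map_one]
    show eichMat (Qm m F A B) (Pi.single (ie k) 1) (0 : I m → F) = 1
    exact Cfsg.Agent.Lib.Helper5_OmegaCenter.eichMat_zero _ _
  rw [key]
  exact one_mem _

/-- EICHA (M).  Every Eichler transformation `E(e_k, w)`, `w ⊥ e_k, f_k`, lies in `Ω`. -/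
theorem eich_mem_omega (k : Fin m) (w : I m → F)
    (hwe : QuadraticMap.polar (⇑(Qm m F A B)) (Pi.single (ie k) 1) w = 0)
    (hwf : QuadraticMap.polar (⇑(Qm m F A B)) (Pi.single (jf k) 1) w = 0) :
    eichO (Qm m F A B) (Pi.single (ie k) 1) w (Qm_single_np A B (not_isPl_ie k) 1) hwe ∈
      Cfsg.Omega F (⇑(Qm m F A B)) := by
  -- plane part and the rest
  obtain ⟨w₀, hw₀⟩ : ∃ w₀ : I m → F, w₀ = pv (w d0) (w d1) := ⟨_, rfl⟩
  obtain ⟨w', hw'⟩ : ∃ w' : I m → F, w' = w - w₀ := ⟨_, rfl⟩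
  have hsum : w = w' + w₀ := by rw [hw']; abel
  have hw'0 : w' d0 = 0 := by rw [hw', hw₀, Pi.sub_apply, pv_d0, sub_self]
  have hw'1 : w' d1 = 0 := by rw [hw', hw₀, Pi.sub_apply, pv_d1, sub_self]
  have h0e : QuadraticMap.polar (⇑(Qm m F A B)) (Pi.single (ie k) 1) w₀ = 0 := by
    rw [hw₀]; exact sx_orth A B (not_isPl_ie k) _ _
  have h0f : QuadraticMap.polar (⇑(Qm m F A B)) (Pi.single (jf k) 1) w₀ = 0 := by
    rw [hw₀]; exact sx_orth A B (not_isPl_jf k) _ _
  have h'e : QuadraticMap.polar (⇑(Qm m F A B)) (Pi.single (ie k) 1) w' = 0 := by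
    rw [hw', QuadraticMap.polar_sub_right, hwe, h0e, sub_zero]
  have h'f : QuadraticMap.polar (⇑(Qm m F A B)) (Pi.single (jf k) 1) w' = 0 := by
    rw [hw', QuadraticMap.polar_sub_right, hwf, h0f, sub_zero]
  -- the plane part
  have hm0 : eichO (Qm m F A B) (Pi.single (ie k) 1) w₀ (Qm_single_np A B (not_isPl_ie k) 1) h0e ∈
      Cfsg.Omega F (⇑(Qm m F A B)) := by
    by_cases hst : w d0 = 0 ∧ w d1 = 0
    · have hz : w₀ = 0 := by
        rw [hw₀, hst.1, hst.2]
        unfold pv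
        rw [Pi.single_zero, Pi.single_zero, add_zero]
      subst hz
      exact h58_mem_zero k h0e
    · apply h58_mem_of_nonsing k w₀ h0e h0f
      rw [hw₀, Qm_pv]
      apply nrm_ne_zero
      by_contra hcon
      push Not at hcon
      exact hst hcon
  -- the part outside the plane
  have hm' : eichO (Qm m F A B) (Pi.single (ie k) 1) w' (Qm_single_np A B (not_isPl_ie k) 1) h'e ∈
      Cfsg.Omega F (⇑(Qm m F A B)) := by
    by_cases hQ : Qm m F A B w' = 0
    · obtain ⟨v, hv⟩ : ∃ v : I m → F, v = pv 1 0 := ⟨_, rfl⟩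
      have hve : QuadraticMap.polar (⇑(Qm m F A B)) (Pi.single (ie k) 1) v = 0 := by
        rw [hv]; exact sx_orth A B (not_isPl_ie k) _ _
      have hvf : QuadraticMap.polar (⇑(Qm m F A B)) (Pi.single (jf k) 1) v = 0 := by
        rw [hv]; exact sx_orth A B (not_isPl_jf k) _ _
      have hn1 : nrm A B (1 : F) 0 = 1 := by unfold nrm; ring
      have hQv : Qm m F A B v = 1 := by rw [hv, Qm_pv, hn1]
      have hpol : QuadraticMap.polar (⇑(Qm m F A B)) w' v = 0 := by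
        rw [hv, polar_pv, hw'0, hw'1, mul_zero, mul_zero, add_zero]
      have hQd : Qm m F A B (w' - v) = 1 := by
        rw [Cfsg.Agent.Lib.Helper14_OmegaSimple.map_sub' (Qm m F A B) w' v, hQ, hQv, hpol]
        ring
      have hde : QuadraticMap.polar (⇑(Qm m F A B)) (Pi.single (ie k) 1) (w' - v) = 0 := by
        rw [QuadraticMap.polar_sub_right, h'e, hve, sub_zero]
      have hdf : QuadraticMap.polar (⇑(Qm m F A B)) (Pi.single (jf k) 1) (w' - v) = 0 := by
        rw [QuadraticMap.polar_sub_right, h'f, hvf, sub_zero]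
      exact h58_mem_of_add k w' (w' - v) v (by abel) hde hve
        (h58_mem_of_nonsing k (w' - v) hde hdf (by rw [hQd]; exact one_ne_zero))
        (h58_mem_of_nonsing k v hve hvf (by rw [hQv]; exact one_ne_zero)) h'e
    · exact h58_mem_of_nonsing k w' h'e h'f hQ
  exact h58_mem_of_add k w w' w₀ hsum h'e h0e hm' hm0 hwe

end Cfsg.Agent.Lib.Helper58_Pom_EICHA
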