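/-
S4613 family POM (family architect helper86), sub-market `pom_packages`, package EICHBU, verbatim:
`eichMat_isBU` — the Eichler transformation `E(e_k, y)` is block unitriangular when `y` is supported on
the heights strictly between `k` and `2m - k`.
-/
import Mathlib
import Cfsg.Agent.Lib.Helper86_PomDefs

set_option autoImplicit false
set_option linter.unusedSectionVars false
set_option linter.unusedVariables false

namespace Cfsg.Agent.Lib.Helper58_Pom_EICHBU

open Matrix Cfsg Cfsg.Agent.Lib.Helper68_MatGrp Cfsg.Agent.Lib.Helper22_BlkGrp Cfsg.Agent.Lib.Helper22_StOmDefs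
open Cfsg.Agent.Lib.Helper86_PomDefs Cfsg.Agent.Lib.Helper68_AutU
open Cfsg.Agent.Lib.Helper5_OmegaCenter (eichO eichMat)

variable {m : ℕ} {F : Type*} [Field F] [Fintype F] {A B : F} [Fact (Aniso A B)]

/-- the entries of `E(e_k, y)` -/
theorem h58_eichMat_entry (k : Fin m) (y : I m → F) (a b : I m) :
    eichMat (Qm m F A B) (Pi.single (ie k) 1) y a b =
      (Pi.single b (1 : F) : I m → F) a
      + QuadraticMap.polar (⇑(Qm m F A B)) (Pi.single b 1) y * (Pi.single (ie k) (1 : F) : I m → F) a
      - (Pi.single b (1 : F) : I m → F) (jf k) * y a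
      - Qm m F A B y * (Pi.single b (1 : F) : I m → F) (jf k)
          * (Pi.single (ie k) (1 : F) : I m → F) a := by
  have h1 : eichMat (Qm m F A B) (Pi.single (ie k) 1) y a b
      = (eichMat (Qm m F A B) (Pi.single (ie k) 1) y *ᵥ Pi.single b 1) a := by
    rw [Cfsg.Agent.Lib.Helper22_StOmDefs.mulVec_single_one]
  rw [h1, Cfsg.Agent.Lib.Helper5_OmegaCenter.eichMat_mulVec]
  unfold Cfsg.Agent.Lib.Helper44_Eichler.eich
  have h2 : QuadraticMap.polar (⇑(Qm m F A B)) (Pi.single b 1) (Pi.single (ie k) 1)
      = (Pi.single b (1 : F) : I m → F) (jf k) := by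
    rw [polar_single_np A B _ (not_isPl_ie k), one_mul, op_ie]
  rw [h2]
  simp only [Pi.add_apply, Pi.sub_apply, Pi.smul_apply, smul_eq_mul]

/-- an index of height below `m` is an `e_i` -/
theorem h58_eq_ie_of_ht_lt {a : I m} (h : ht m a < m) : ∃ i : Fin m, a = ie i := by
  rcases index_cases a with ⟨i, rfl⟩ | ⟨i, rfl⟩ | rfl | rfl
  · exact ⟨i, rfl⟩
  · rw [ht_jf] at h; have := i.2; omega
  · rw [ht_d0] at h; omega
  · rw [ht_d1] at h; omega

/-- EICHBU (M).  `E(e_k, y)` is block unitriangular when `y` is supported on the heights strictly between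
`ht e_k = k` and `ht f_k = 2m - k`. -/
theorem eichMat_isBU (k : Fin m) (y : I m → F)
    (hy : ∀ x, (ht m x ≤ k.val ∨ 2 * m - k.val ≤ ht m x) → y x = 0) :
    IsBU (eichMat (Qm m F A B) (Pi.single (ie k) 1) y) := by
  have hk := k.2
  -- `B(e_{e_i}, y) = 0` for `i ≤ k`
  have hpol : ∀ i : Fin m, i.val ≤ k.val →
      QuadraticMap.polar (⇑(Qm m F A B)) (Pi.single (ie i) 1) y = 0 := by
    intro i hik
    rw [QuadraticMap.polar_comm, polar_single_np A B y (not_isPl_ie i), one_mul, op_ie]
    apply hy
    right
    rw [ht_jf]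
    omega
  constructor
  · intro a b hab
    rw [h58_eichMat_entry]
    have hne : a ≠ b := fun e => by rw [e] at hab; exact lt_irrefl _ hab
    have t1 : (Pi.single b (1 : F) : I m → F) a = 0 := Pi.single_eq_of_ne hne 1
    have t2 : QuadraticMap.polar (⇑(Qm m F A B)) (Pi.single b 1) y
        * (Pi.single (ie k) (1 : F) : I m → F) a = 0 := by
      by_cases ha : a = ie k
      · subst ha
        rw [ht_ie] at hab
        obtain ⟨i, rfl⟩ := h58_eq_ie_of_ht_lt (a := b) (by omega)
        rw [ht_ie] at hab
        rw [hpol i (by omega), zero_mul]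
      · rw [Pi.single_eq_of_ne ha, mul_zero]
    have t3 : (Pi.single b (1 : F) : I m → F) (jf k) * y a = 0 := by
      by_cases hb : jf k = b
      · subst hb
        rw [ht_jf] at hab
        rw [hy a (Or.inr (by omega)), mul_zero]
      · rw [Pi.single_eq_of_ne hb, zero_mul]
    have t4 : Qm m F A B y * (Pi.single b (1 : F) : I m → F) (jf k)
        * (Pi.single (ie k) (1 : F) : I m → F) a = 0 := by
      by_cases hb : jf k = b
      · subst hb
        by_cases ha : a = ie k
        · subst ha
          rw [ht_jf, ht_ie] at hab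
          omega
        · rw [Pi.single_eq_of_ne ha, mul_zero]
      · rw [Pi.single_eq_of_ne hb, mul_zero, zero_mul]
    rw [t1, t2, t3, t4]
    ring
  · intro a b hab
    rw [h58_eichMat_entry]
    have t1 : (Pi.single b (1 : F) : I m → F) a = if a = b then 1 else 0 := Pi.single_apply b 1 a
    have t2 : QuadraticMap.polar (⇑(Qm m F A B)) (Pi.single b 1) y
        * (Pi.single (ie k) (1 : F) : I m → F) a = 0 := by
      by_cases ha : a = ie k
      · subst ha
        have hb : ie k = b := eq_of_ht_eq hab (not_isPl_ie k)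
        subst hb
        rw [hpol k le_rfl, zero_mul]
      · rw [Pi.single_eq_of_ne ha, mul_zero]
    have t3 : (Pi.single b (1 : F) : I m → F) (jf k) * y a = 0 := by
      by_cases hb : jf k = b
      · subst hb
        rw [ht_jf] at hab
        rw [hy a (Or.inr (by omega)), mul_zero]
      · rw [Pi.single_eq_of_ne hb, zero_mul]
    have t4 : Qm m F A B y * (Pi.single b (1 : F) : I m → F) (jf k)
        * (Pi.single (ie k) (1 : F) : I m → F) a = 0 := by
      by_cases hb : jf k = b
      · subst hb
        by_cases ha : a = ie k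
        · subst ha
          rw [ht_jf, ht_ie] at hab
          omega
        · rw [Pi.single_eq_of_ne ha, mul_zero]
      · rw [Pi.single_eq_of_ne hb, mul_zero, zero_mul]
    rw [t1, t2, t3, t4]
    ring

end Cfsg.Agent.Lib.Helper58_Pom_EICHBU
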