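import Mathlib

set_option autoImplicit false
set_option linter.style.haveILetI false
set_option linter.unusedSectionVars false

namespace Cfsg.Agent.Lib.Helper58_PrimeDegAut

open Finset Polynomial

/-- geometric sum over a nontrivial `p`-th root of unity vanishes -/
theorem geom_sum_root {K : Type*} [Field K] {p : ℕ} {c : K} (hc : c ^ p = 1) (hc1 : c ≠ 1) :
    ∑ t ∈ range p, c ^ t = 0 := by
  have := geom_sum_mul c p
  rw [hc, sub_self] at this
  exact (mul_eq_zero.mp this).resolve_right (sub_ne_zero.mpr hc1)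

/-- the "character sum" of a subset of `ZMod p` -/
noncomputable def theta {K : Type*} [Field K] {p : ℕ} (D : Finset (ZMod p)) (c : K) : K :=
  ∑ i ∈ D, c ^ i.val

theorem theta_one {K : Type*} [Field K] {p : ℕ} (D : Finset (ZMod p)) :
    theta D (1 : K) = (D.card : K) := by
  simp [theta]

theorem theta_map {K : Type*} [Field K] {p : ℕ} (D : Finset (ZMod p)) (σ : K →+* K) (c : K) :
    σ (theta D c) = theta D (σ c) := by
  simp [theta, map_sum, map_pow]

/-- Fourier inversion on `ZMod p` -/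
theorem inversion {K : Type*} [Field K] {p : ℕ} [Fact p.Prime] {ζ : K} (hζ : IsPrimitiveRoot ζ p)
    (D : Finset (ZMod p)) (i₀ : ZMod p) :
    ∑ t ∈ range p, theta D (ζ ^ t) * ((ζ ^ i₀.val)⁻¹) ^ t = if i₀ ∈ D then (p : K) else 0 := by
  classical
  have hp : p.Prime := Fact.out
  have hζ0 : ζ ≠ 0 := hζ.ne_zero hp.ne_zero
  unfold theta
  simp_rw [Finset.sum_mul]
  rw [Finset.sum_comm]
  have key : ∀ i ∈ D, ∑ t ∈ range p, (ζ ^ t) ^ i.val * ((ζ ^ i₀.val)⁻¹) ^ t
      = if i = i₀ then (p : K) else 0 := by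
    intro i _
    have h1 : ∀ t, (ζ ^ t) ^ i.val * ((ζ ^ i₀.val)⁻¹) ^ t = (ζ ^ i.val * (ζ ^ i₀.val)⁻¹) ^ t := by
      intro t
      rw [mul_pow, ← pow_mul, ← pow_mul, Nat.mul_comm]
    simp_rw [h1]
    split_ifs with h
    · subst h
      rw [mul_inv_cancel₀ (pow_ne_zero _ hζ0)]
      simp
    · apply geom_sum_root
      · rw [mul_pow, inv_pow, ← pow_mul, ← pow_mul, mul_comm _ p, mul_comm _ p, pow_mul, pow_mul,
          hζ.pow_eq_one, one_pow, one_pow, inv_one, mul_one]
      · intro h2
        apply h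
        have h3 : ζ ^ i.val = ζ ^ i₀.val := by
          field_simp at h2
          exact h2
        exact ZMod.val_injective p (hζ.pow_inj (ZMod.val_lt i) (ZMod.val_lt i₀) h3)
  rw [Finset.sum_congr rfl key]
  simp

theorem nt_stepB {K : Type*} [Field K] [CharZero K] {p : ℕ} [Fact p.Prime] {ζ : K}
    (hζ : IsPrimitiveRoot ζ p) (D : Finset (ZMod p)) (q w : K) (hw : w ^ p = 1)
    (h : ∀ t, 1 ≤ t → t < p → theta D (ζ ^ t) = q * w ^ t) :
    ∃ j : ZMod p, ∀ i₁ i₂, i₁ ≠ j → i₂ ≠ j → (i₁ ∈ D ↔ i₂ ∈ D) := by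
  classical
  have hp : p.Prime := Fact.out
  have hζ0 : ζ ≠ 0 := hζ.ne_zero hp.ne_zero
  have hpK : (p : K) ≠ 0 := Nat.cast_ne_zero.mpr hp.ne_zero
  have key : ∀ i₀ : ZMod p, ζ ^ i₀.val ≠ w →
      (if i₀ ∈ D then (p : K) else 0) = (D.card : K) - q := by
    intro i₀ hne
    rw [← inversion hζ D i₀]
    set v : K := (ζ ^ i₀.val)⁻¹ with hv
    have hv0 : ζ ^ i₀.val ≠ 0 := pow_ne_zero _ hζ0
    have hwv1 : w * v ≠ 1 := by
      intro h1
      apply hne
      rw [hv] at h1
      field_simp at h1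
      exact h1.symm
    have hwvp : (w * v) ^ p = 1 := by
      have h5 : (ζ ^ i₀.val) ^ p = 1 := by
        rw [← pow_mul, mul_comm, pow_mul, hζ.pow_eq_one, one_pow]
      rw [mul_pow, hw, hv, inv_pow, h5, inv_one, mul_one]
    have hsum0 := geom_sum_root hwvp hwv1
    rw [Finset.range_eq_Ico, Finset.sum_eq_sum_Ico_succ_bot hp.pos] at hsum0
    rw [Finset.range_eq_Ico, Finset.sum_eq_sum_Ico_succ_bot hp.pos]
    have h2 : ∑ t ∈ Ico (0 + 1) p, theta D (ζ ^ t) * v ^ t = q * ∑ t ∈ Ico (0 + 1) p, (w * v) ^ t := by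
      rw [Finset.mul_sum]
      apply Finset.sum_congr rfl
      intro t ht
      rw [Finset.mem_Ico] at ht
      rw [h t (by omega) ht.2, mul_pow, mul_assoc]
    rw [h2]
    have h3 : ∑ t ∈ Ico (0 + 1) p, (w * v) ^ t = -1 := by
      rw [pow_zero] at hsum0
      linear_combination hsum0
    rw [h3, pow_zero, pow_zero, theta_one]
    ring
  by_cases hj : ∃ j : ZMod p, ζ ^ j.val = w
  · obtain ⟨j, hj⟩ := hj
    refine ⟨j, fun i₁ i₂ h1 h2 => ?_⟩
    have hne : ∀ i : ZMod p, i ≠ j → ζ ^ i.val ≠ w := by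
      intro i hi h3
      apply hi
      rw [← hj] at h3
      exact ZMod.val_injective p (hζ.pow_inj (ZMod.val_lt i) (ZMod.val_lt j) h3)
    have e1 := key i₁ (hne i₁ h1)
    have e2 := key i₂ (hne i₂ h2)
    rw [← e2] at e1
    by_cases c1 : i₁ ∈ D <;> by_cases c2 : i₂ ∈ D
    · exact ⟨fun _ => c2, fun _ => c1⟩
    · exfalso; rw [if_pos c1, if_neg c2] at e1; exact hpK e1
    · exfalso; rw [if_neg c1, if_pos c2] at e1; exact hpK e1.symm
    · exact ⟨fun h => absurd h c1, fun h => absurd h c2⟩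
  · push Not at hj
    refine ⟨0, fun i₁ i₂ _ _ => ?_⟩
    have e1 := key i₁ (hj i₁)
    have e2 := key i₂ (hj i₂)
    rw [← e2] at e1
    by_cases c1 : i₁ ∈ D <;> by_cases c2 : i₂ ∈ D
    · exact ⟨fun _ => c2, fun _ => c1⟩
    · exfalso; rw [if_pos c1, if_neg c2] at e1; exact hpK e1
    · exfalso; rw [if_neg c1, if_pos c2] at e1; exact hpK e1.symm
    · exact ⟨fun h => absurd h c1, fun h => absurd h c2⟩

/-- the number-theoretic heart: if all nontrivial character sums of `D ⊆ ZMod p` have the same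
`m`-th power, `m` odd, then `D` is constant off one point. -/
theorem nt_main {p : ℕ} [Fact p.Prime] [NeZero p] {K : Type*} [Field K] [NumberField K]
    [IsCyclotomicExtension {p} ℚ K] (hp2 : p ≠ 2) (D : Finset (ZMod p)) (m : ℕ) (hm : Odd m)
    (a : K)
    (h : ∀ c : K, c ^ p = 1 → c ≠ 1 → (theta D c) ^ m = a) :
    ∃ j : ZMod p, ∀ i₁ i₂, i₁ ≠ j → i₂ ≠ j → (i₁ ∈ D ↔ i₂ ∈ D) := by
  classical
  have hp : p.Prime := Fact.out
  have hp3 : 2 < p := lt_of_le_of_ne hp.two_le (Ne.symm hp2)
  have hpodd : Odd p := hp.odd_of_ne_two hp2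
  set ζ : K := IsCyclotomicExtension.zeta p ℚ K with hζdef
  have hζ : IsPrimitiveRoot ζ p := IsCyclotomicExtension.zeta_spec p ℚ K
  have hζ0 : ζ ≠ 0 := hζ.ne_zero hp.ne_zero
  have hirr : Irreducible (cyclotomic p ℚ) := cyclotomic.irreducible_rat hp.pos
  have hm0 : m ≠ 0 := by
    rintro rfl
    simp at hm
  -- primitive powers
  have hprim : ∀ t, 1 ≤ t → t < p → IsPrimitiveRoot (ζ ^ t) p := by
    intro t ht1 htp
    apply hζ.pow_of_coprime
    exact Nat.Coprime.symm ((Nat.Prime.coprime_iff_not_dvd hp).mpr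
      (Nat.not_dvd_of_pos_of_lt ht1 htp))
  have hθ : ∀ t, 1 ≤ t → t < p → (theta D (ζ ^ t)) ^ m = a := by
    intro t ht1 htp
    exact h _ (hprim t ht1 htp).pow_eq_one ((hprim t ht1 htp).ne_one hp.one_lt)
  obtain ⟨q, w, hw, hqw⟩ : ∃ q w : K, w ^ p = 1 ∧
      ∀ t, 1 ≤ t → t < p → theta D (ζ ^ t) = q * w ^ t := by
    by_cases ha : a = 0
    · refine ⟨0, 1, one_pow _, ?_⟩
      intro t ht1 htp
      have := hθ t ht1 htp
      rw [ha] at this
      rw [pow_eq_zero_iff hm0] at this
      rw [this, zero_mul]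
    · set y : K := theta D ζ with hy
      have hym : y ^ m = a := by
        have := hθ 1 le_rfl hp.one_lt
        rwa [pow_one] at this
      have hy0 : y ≠ 0 := by
        intro h0
        rw [h0, zero_pow hm0] at hym
        exact ha hym.symm
      -- each theta is a power of ζ times y
      have hpow : ∀ t, 1 ≤ t → t < p → ∃ r : ℕ, theta D (ζ ^ t) = ζ ^ r * y := by
        intro t ht1 htp
        have h1 : (theta D (ζ ^ t) / y) ^ m = 1 := by
          rw [div_pow, hθ t ht1 htp, hym, div_self ha]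
        have hfin : IsOfFinOrder (theta D (ζ ^ t) / y) :=
          isOfFinOrder_iff_pow_eq_one.mpr ⟨m, Nat.pos_of_ne_zero hm0, h1⟩
        obtain ⟨r, -, hr | hr⟩ := hζ.exists_pow_or_neg_mul_pow_of_isOfFinOrder hpodd hfin
        · refine ⟨r, ?_⟩
          rw [← hr, div_mul_cancel₀ _ hy0]
        · exfalso
          rw [hr, neg_pow, hm.neg_one_pow] at h1
          have h2 : (ζ ^ r) ^ m = -1 := by linear_combination -h1
          have h3 : ((ζ ^ r) ^ m) ^ p = 1 := by
            rw [← pow_mul, ← pow_mul, show r * (m * p) = p * (r * m) by ring, pow_mul,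
              hζ.pow_eq_one, one_pow]
          rw [h2, hpodd.neg_one_pow] at h3
          have : (2 : K) = 0 := by linear_combination -h3
          exact two_ne_zero this
      obtain ⟨r2, hr2⟩ := hpow 2 (by norm_num) hp3
      set w : K := ζ ^ r2 with hw
      have hw0 : w ≠ 0 := pow_ne_zero _ hζ0
      refine ⟨y * w⁻¹, w, ?_, ?_⟩
      · rw [hw, ← pow_mul, mul_comm, pow_mul, hζ.pow_eq_one, one_pow]
      · intro t ht1 htp
        obtain ⟨rt, hrt⟩ := hpow t ht1 htp
        -- Galois automorphisms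
        set σt := IsCyclotomicExtension.fromZetaAut (hprim t ht1 htp) hirr with hσt
        set σ2 := IsCyclotomicExtension.fromZetaAut (hprim 2 (by norm_num) hp3) hirr with hσ2
        have e1 : σt ζ = ζ ^ t := IsCyclotomicExtension.fromZetaAut_spec (hprim t ht1 htp) hirr
        have e2 : σ2 ζ = ζ ^ 2 := IsCyclotomicExtension.fromZetaAut_spec _ hirr
        have f1 : σt y = theta D (ζ ^ t) := by
          rw [hy]
          have := theta_map D (σt : K →+* K) ζ
          simpa [e1] using this
        have f2 : σ2 y = theta D (ζ ^ 2) := by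
          rw [hy]
          have := theta_map D (σ2 : K →+* K) ζ
          simpa [e2] using this
        have g1 : σt (theta D (ζ ^ 2)) = theta D ((ζ ^ t) ^ 2) := by
          have := theta_map D (σt : K →+* K) (ζ ^ 2)
          simpa [e1] using this
        have g2 : σ2 (theta D (ζ ^ t)) = theta D ((ζ ^ 2) ^ t) := by
          have := theta_map D (σ2 : K →+* K) (ζ ^ t)
          simpa [e2] using this
        have hcomm : (ζ ^ t) ^ 2 = (ζ ^ 2) ^ t := by rw [← pow_mul, ← pow_mul, mul_comm]
        have key : σt (theta D (ζ ^ 2)) = σ2 (theta D (ζ ^ t)) := by rw [g1, g2, hcomm]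
        rw [hr2, hrt, map_mul, map_mul, map_pow, map_pow, e1, e2, f1, f2, hr2, hrt] at key
        -- key : (ζ^t)^r2 * (ζ^rt * y) = (ζ^2)^rt * (ζ^r2 * y)
        have hrt0 : ζ ^ rt ≠ 0 := pow_ne_zero _ hζ0
        have key2 : w ^ t * ζ ^ rt = (ζ ^ rt) ^ 2 * w := by
          have : (ζ ^ t) ^ r2 = w ^ t := by rw [hw, ← pow_mul, ← pow_mul, mul_comm]
          rw [this] at key
          have h4 : (ζ ^ 2) ^ rt = (ζ ^ rt) ^ 2 := by rw [← pow_mul, ← pow_mul, mul_comm]
          rw [h4] at key
          have := mul_right_cancel₀ hy0 (by linear_combination key :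
            (w ^ t * ζ ^ rt) * y = ((ζ ^ rt) ^ 2 * w) * y)
          exact this
        have key3 : w ^ t = ζ ^ rt * w := by
          have := mul_right_cancel₀ hrt0 (by linear_combination key2 :
            (w ^ t) * ζ ^ rt = (ζ ^ rt * w) * ζ ^ rt)
          exact this
        rw [hrt, key3]
        field_simp
  exact nt_stepB hζ D q w hw hqw

section Mat

variable {G : Type*} [Group G] {Ω : Type*} [Fintype Ω] [DecidableEq Ω] [MulAction G Ω]
variable {K : Type*} [Field K]

/-- invariance of a matrix under the action twisted by an automorphism -/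
def InvB (β : MulAut G) (B : Matrix Ω Ω K) : Prop :=
  ∀ (g : G) (u v : Ω), B (β g • u) (g • v) = B u v

theorem invB_one : InvB (1 : MulAut G) (1 : Matrix Ω Ω K) := by
  intro g u v
  change (1 : Matrix Ω Ω K) (g • u) (g • v) = _
  by_cases h : u = v
  · subst h; simp
  · rw [Matrix.one_apply_ne h, Matrix.one_apply_ne]
    intro h2
    exact h (MulAction.injective g h2)

theorem invB_mul {β γ : MulAut G} {B C : Matrix Ω Ω K} (hB : InvB β B) (hC : InvB γ C) :
    InvB (β * γ) (B * C) := by
  intro g u w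
  simp only [Matrix.mul_apply, MulAut.mul_apply]
  rw [← Equiv.sum_comp (MulAction.toPerm (γ g))]
  apply Finset.sum_congr rfl
  intro v _
  simp only [MulAction.toPerm_apply]
  rw [hB, hC]

theorem invB_pow {α : MulAut G} {A : Matrix Ω Ω K} (h : InvB α A) (n : ℕ) :
    InvB (α ^ n) (A ^ n) := by
  induction n with
  | zero => simpa using invB_one
  | succ n ih => rw [pow_succ, pow_succ]; exact invB_mul ih h

/-- the orbital matrix attached to an automorphism -/
noncomputable def matA (α : MulAut G) (o : Ω) : Matrix Ω Ω K := fun u v =>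
  open Classical in if ∃ g : G, g • o = v ∧ α g • o = u then 1 else 0

theorem invB_matA (α : MulAut G) (o : Ω) : InvB α (matA α o : Matrix Ω Ω K) := by
  classical
  intro g₀ u v
  unfold matA
  have : (∃ g : G, g • o = g₀ • v ∧ α g • o = α g₀ • u) ↔ (∃ g : G, g • o = v ∧ α g • o = u) := by
    constructor
    · rintro ⟨g, h1, h2⟩
      refine ⟨g₀⁻¹ * g, ?_, ?_⟩
      · rw [mul_smul, h1, inv_smul_smul]
      · rw [map_mul, map_inv, mul_smul, h2, inv_smul_smul]
    · rintro ⟨g, h1, h2⟩
      refine ⟨g₀ * g, ?_, ?_⟩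
      · rw [mul_smul, h1]
      · rw [map_mul, mul_smul, h2]
  simp only [this]

end Mat

section Eig

variable {G : Type*} [Group G] {Ω : Type*} [Fintype Ω] [DecidableEq Ω] [MulAction G Ω]
variable {K : Type*} [Field K] {p : ℕ} [Fact p.Prime]

/-- labelling of the points by `ZMod p` through a regular element -/
def lab (x : G) (o : Ω) (i : ZMod p) : Ω := x ^ i.val • o

theorem lab_natCast {x : G} (o : Ω) (hx : x ^ p = 1) (n : ℕ) :
    lab (p := p) x o (n : ZMod p) = x ^ n • o := by
  unfold lab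
  rw [ZMod.val_natCast, ← pow_eq_pow_mod n hx]

theorem exists_pow_of_lab {x : G} {o : Ω} (he : Function.Bijective (lab (p := p) x o)) (u : Ω) :
    ∃ n : ℕ, u = x ^ n • o := by
  obtain ⟨i, rfl⟩ := he.2 u
  exact ⟨i.val, rfl⟩

/-- the eigenfunctions of the regular element -/
noncomputable def vc {x : G} {o : Ω} (he : Function.Bijective (lab (p := p) x o)) (c : K) : Ω → K :=
  fun u => c ^ ((Equiv.ofBijective _ he).symm u).val

theorem vc_pow_smul {x : G} {o : Ω} (hx : x ^ p = 1) (he : Function.Bijective (lab (p := p) x o))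
    {c : K} (hc : c ^ p = 1) (n : ℕ) : vc he c (x ^ n • o) = c ^ n := by
  unfold vc
  rw [← lab_natCast o hx n]
  have : (Equiv.ofBijective _ he).symm (lab (p := p) x o (n : ZMod p)) = (n : ZMod p) :=
    (Equiv.ofBijective _ he).symm_apply_apply _
  rw [this, ZMod.val_natCast, ← pow_eq_pow_mod n hc]

theorem vc_smul {x : G} {o : Ω} (hx : x ^ p = 1) (he : Function.Bijective (lab (p := p) x o))
    {c : K} (hc : c ^ p = 1) (u : Ω) : vc he c (x • u) = c * vc he c u := by
  obtain ⟨n, rfl⟩ := exists_pow_of_lab he u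
  rw [← mul_smul, ← pow_succ', vc_pow_smul hx he hc, vc_pow_smul hx he hc, pow_succ']

theorem vc_lab {x : G} {o : Ω} (he : Function.Bijective (lab (p := p) x o))
    (c : K) (i : ZMod p) : vc he c (lab x o i) = c ^ i.val := by
  unfold vc
  have : (Equiv.ofBijective _ he).symm (lab (p := p) x o i) = i :=
    (Equiv.ofBijective _ he).symm_apply_apply _
  rw [this]

theorem sum_vc {x : G} {o : Ω} (hx : x ^ p = 1) (he : Function.Bijective (lab (p := p) x o))
    {c : K} (hc : c ^ p = 1) (hc1 : c ≠ 1) : ∑ u, vc he c u = 0 := by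
  have h1 : ∑ u, vc he c u = c * ∑ u, vc he c u := by
    rw [Finset.mul_sum]
    rw [← Equiv.sum_comp (MulAction.toPerm x)]
    apply Finset.sum_congr rfl
    intro u _
    rw [MulAction.toPerm_apply, vc_smul hx he hc]
  have h2 : (1 - c) * ∑ u, vc he c u = 0 := by linear_combination h1
  rcases mul_eq_zero.mp h2 with h | h
  · exact absurd (sub_eq_zero.mp h).symm hc1
  · exact h

/-- an `x`-invariant matrix has the `vc` as eigenvectors -/
theorem mulVec_vc {x : G} {o : Ω} (hx : x ^ p = 1) (he : Function.Bijective (lab (p := p) x o))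
    {c : K} (hc : c ^ p = 1) (A : Matrix Ω Ω K) (hA : ∀ u v, A (x • u) (x • v) = A u v) :
    A.mulVec (vc he c) = (A.mulVec (vc he c) o) • vc he c := by
  set w := A.mulVec (vc he c) with hw
  have h1 : ∀ u, w (x • u) = c * w u := by
    intro u
    rw [hw]
    simp only [Matrix.mulVec, dotProduct]
    rw [Finset.mul_sum, ← Equiv.sum_comp (MulAction.toPerm x)]
    apply Finset.sum_congr rfl
    intro z _
    rw [MulAction.toPerm_apply, hA, vc_smul hx he hc]
    ring
  have h2 : ∀ n : ℕ, w (x ^ n • o) = c ^ n * w o := by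
    intro n
    induction n with
    | zero => simp
    | succ n ih => rw [pow_succ', mul_smul, h1, ih, pow_succ']; ring
  funext u
  obtain ⟨n, rfl⟩ := exists_pow_of_lab he u
  rw [h2, Pi.smul_apply, vc_pow_smul hx he hc, smul_eq_mul, mul_comm]

theorem pow_mulVec_vc {x : G} {o : Ω} (hx : x ^ p = 1)
    (he : Function.Bijective (lab (p := p) x o))
    {c : K} (hc : c ^ p = 1) (A : Matrix Ω Ω K) (hA : ∀ u v, A (x • u) (x • v) = A u v) (n : ℕ) :
    (A ^ n).mulVec (vc he c) = (A.mulVec (vc he c) o) ^ n • vc he c := by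
  have key := mulVec_vc hx he hc A hA
  generalize A.mulVec (vc he c) o = θ at key ⊢
  induction n with
  | zero => simp
  | succ n ih =>
    rw [pow_succ, ← Matrix.mulVec_mulVec, key, Matrix.mulVec_smul, ih, smul_smul, pow_succ']

open Classical in
/-- Part II: all nontrivial character sums of the orbit set have the same `m`-th power. -/
theorem partII {x : G} {o : Ω} (hx : x ^ p = 1) (he : Function.Bijective (lab (p := p) x o))
    (h2 : ∀ a b c d : Ω, a ≠ b → c ≠ d → ∃ g : G, g • a = c ∧ g • b = d)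
    (α : MulAut G) (hαx : α x = x) (m : ℕ) (hαm : α ^ m = 1) :
    ∃ a : K, ∀ c : K, c ^ p = 1 → c ≠ 1 →
      (theta (Finset.univ.filter
        (fun i : ZMod p => ∃ g : G, g • o = lab x o i ∧ α g • o = o)) c) ^ m = a := by
  classical
  have hp : p.Prime := Fact.out
  haveI : Fact (1 < p) := ⟨hp.one_lt⟩
  set A : Matrix Ω Ω K := matA α o with hA
  have hinv : InvB α A := invB_matA α o
  have hAx : ∀ u v, A (x • u) (x • v) = A u v := by
    intro u v
    have := hinv x u v
    rwa [hαx] at this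
  set B : Matrix Ω Ω K := A ^ m with hB
  have hBinv : ∀ (g : G) (u v : Ω), B (g • u) (g • v) = B u v := by
    have := invB_pow hinv m
    rw [hαm] at this
    exact this
  have hox : o ≠ x • o := by
    intro h
    have h0 : lab (p := p) x o 0 = o := by simp [lab]
    have h1 : lab (p := p) x o 1 = x • o := by simp [lab, ZMod.val_one]
    have : lab (p := p) x o 0 = lab (p := p) x o 1 := by rw [h0, h1]; exact h
    exact zero_ne_one (he.1 this)
  have hBform : ∀ u v, B u v = if u = v then B o o else B o (x • o) := by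
    intro u v
    split_ifs with h
    · subst h
      obtain ⟨n, rfl⟩ := exists_pow_of_lab he u
      exact hBinv (x ^ n) o o
    · obtain ⟨g, h3, h4⟩ := h2 o (x • o) u v hox h
      rw [← h3, ← h4]
      exact hBinv g o (x • o)
  refine ⟨B o o - B o (x • o), fun c hc hc1 => ?_⟩
  have hv0 : vc he c o = 1 := by
    have := vc_pow_smul hx he hc 0
    simpa using this
  have e1 := congrFun (pow_mulVec_vc hx he hc A hAx m) o
  rw [Pi.smul_apply, hv0, smul_eq_mul, mul_one] at e1
  have e2 : (A ^ m).mulVec (vc he c) o = B o o - B o (x • o) := by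
    rw [← hB]
    simp only [Matrix.mulVec, dotProduct]
    have : ∀ u, B o u * vc he c u
        = (if o = u then (B o o - B o (x • o)) * vc he c u else 0) + B o (x • o) * vc he c u := by
      intro u
      rw [hBform o u]
      split_ifs <;> ring
    rw [Finset.sum_congr rfl (fun u _ => this u), Finset.sum_add_distrib, ← Finset.mul_sum,
      sum_vc hx he hc hc1, Finset.sum_ite_eq, if_pos (Finset.mem_univ _), hv0]
    ring
  have e3 : A.mulVec (vc he c) o = theta (Finset.univ.filter
        (fun i : ZMod p => ∃ g : G, g • o = lab x o i ∧ α g • o = o)) c := by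
    simp only [Matrix.mulVec, dotProduct]
    rw [← Equiv.sum_comp (Equiv.ofBijective _ he)]
    unfold theta
    rw [Finset.sum_filter]
    apply Finset.sum_congr rfl
    intro i _
    rw [Equiv.ofBijective_apply, vc_lab, hA]
    unfold matA
    split_ifs <;> simp
  rw [← e3, ← e1, e2]

end Eig

section Main

variable {G : Type*} [Group G] [Finite G] {Ω : Type*} [Fintype Ω] [DecidableEq Ω] [MulAction G Ω]
variable {p : ℕ} [Fact p.Prime]

/-- if an automorphism fixing `x` maps the stabilizer of `o` into itself, it is trivial -/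
theorem aut_eq_one_of_stab {x : G} {o : Ω} (he : Function.Bijective (lab (p := p) x o))
    (hfaith : ∀ g : G, (∀ u : Ω, g • u = u) → g = 1)
    (β : MulAut G) (hβx : β x = x) (hβ : ∀ g : G, g • o = o → β g • o = o) : β = 1 := by
  have hβpow : ∀ n : ℕ, β (x ^ n) = x ^ n := by
    intro n
    rw [map_pow, hβx]
  have h1 : ∀ g : G, β g • o = g • o := by
    intro g
    obtain ⟨n, hn⟩ := exists_pow_of_lab he (g • o)
    have h3 : ((x ^ n)⁻¹ * g) • o = o := by rw [mul_smul, hn, inv_smul_smul]
    have h4 := hβ _ h3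
    rw [map_mul, map_inv, hβpow, mul_smul, inv_smul_eq_iff] at h4
    rw [h4, hn]
  have h2 : ∀ (g : G) (u : Ω), β g • u = g • u := by
    intro g u
    obtain ⟨n, rfl⟩ := exists_pow_of_lab he u
    rw [← hβpow n, ← mul_smul, ← map_mul, h1, hβpow, mul_smul]
  ext g
  have h3 : (g⁻¹ * β g) = 1 := by
    apply hfaith
    intro u
    rw [mul_smul, h2, inv_smul_smul]
  rw [MulAut.one_apply]
  exact (inv_mul_eq_one.mp h3).symm

/-- Key lemma: an odd-order automorphism centralizing the regular element `x` of a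
2-transitive group of odd prime degree is inner (conjugation by a power of `x`). -/
theorem inner_of_odd_order_of_fix {x : G} {o : Ω} (hx : x ^ p = 1)
    (he : Function.Bijective (lab (p := p) x o))
    (hfaith : ∀ g : G, (∀ u : Ω, g • u = u) → g = 1)
    (h2 : ∀ a b c d : Ω, a ≠ b → c ≠ d → ∃ g : G, g • a = c ∧ g • b = d)
    (hp2 : p ≠ 2) (hpH : ¬ p ∣ Nat.card (MulAction.stabilizer G o))
    (α : MulAut G) (hαx : α x = x) (hodd : Odd (orderOf α)) :
    ∃ g : G, MulAut.conj g = α := by
  classical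
  have hp : p.Prime := Fact.out
  haveI : NeZero p := ⟨hp.ne_zero⟩
  haveI : Fact (1 < p) := ⟨hp.one_lt⟩
  haveI : NeZero ((p : ℕ) : ℚ) := ⟨Nat.cast_ne_zero.mpr hp.ne_zero⟩
  haveI : IsCyclotomicExtension {p} ℚ (CyclotomicField p ℚ) :=
    CyclotomicField.isCyclotomicExtension p ℚ
  have hcardΩ : Fintype.card Ω = p := by
    rw [← Fintype.card_congr (Equiv.ofBijective _ he), ZMod.card]
  set S : Finset (ZMod p) := Finset.univ.filter
        (fun i : ZMod p => ∃ g : G, g • o = lab x o i ∧ α g • o = o) with hS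
  obtain ⟨a, ha⟩ := partII (K := CyclotomicField p ℚ) hx he h2 α hαx (orderOf α)
    (pow_orderOf_eq_one α)
  obtain ⟨j, hj⟩ := nt_main hp2 S (orderOf α) hodd a ha
  have hlab0 : lab (p := p) x o 0 = o := by simp [lab]
  have hmemS : ∀ i, i ∈ S ↔ ∃ g : G, g • o = lab x o i ∧ α g • o = o := by
    intro i
    rw [hS, Finset.mem_filter]
    simp
  have h0S : (0 : ZMod p) ∈ S := by
    rw [hmemS]
    exact ⟨1, by rw [one_smul, hlab0], by rw [map_one, one_smul]⟩
  -- S is not everything
  have hSne : ∃ i, i ∉ S := by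
    by_contra hall
    push Not at hall
    apply hpH
    -- L := comap α (stabilizer o) is transitive
    set L : Subgroup G := (MulAction.stabilizer G o).comap α.toMonoidHom with hL
    have hcardL : Nat.card L = Nat.card (MulAction.stabilizer G o) := by
      apply Nat.card_congr
      refine ⟨fun l => ⟨α l.1, l.2⟩, fun h => ⟨α.symm h.1, ?_⟩, ?_, ?_⟩
      · rw [hL, Subgroup.mem_comap]
        simp
      · intro l; simp
      · intro h; simp
    rw [← hcardL]
    have horb : MulAction.orbit L o = Set.univ := by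
      rw [Set.eq_univ_iff_forall]
      intro u
      obtain ⟨i, rfl⟩ := he.2 u
      obtain ⟨g, hg1, hg2⟩ := (hmemS i).mp (hall i)
      refine ⟨⟨g, ?_⟩, hg1⟩
      rw [hL, Subgroup.mem_comap]
      exact hg2
    have h5 := MulAction.index_stabilizer L o
    rw [horb, Set.ncard_univ, Nat.card_eq_fintype_card, hcardΩ] at h5
    rw [← h5]
    exact Subgroup.index_dvd_card _
  -- L fixes some point lab j'
  obtain ⟨j', hj'⟩ : ∃ j' : ZMod p, ∀ g : G, α g • o = o → g • lab x o j' = lab x o j' := by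
    by_cases hjS : j ∈ S
    · -- then S = {j} and j = 0
      have hnot : ∀ i, i ≠ j → i ∉ S := by
        intro i hi hiS
        obtain ⟨i', hi'⟩ := hSne
        have : i' ≠ j := fun h => hi' (h ▸ hjS)
        exact hi' ((hj i i' hi this).mp hiS)
      have hj0 : j = 0 := by
        by_contra h
        exact hnot 0 (Ne.symm h) h0S
      refine ⟨0, fun g hg => ?_⟩
      obtain ⟨i, hi⟩ := he.2 (g • o)
      rw [hlab0]
      have hiS : i ∈ S := (hmemS i).mpr ⟨g, hi.symm, hg⟩
      have : i = 0 := by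
        by_contra h
        exact hnot i (hj0 ▸ h) hiS
      rw [← hi, this, hlab0]
    · -- j ∉ S; 0 ∈ S so 0 ≠ j, all i ≠ j in S
      have h0j : (0 : ZMod p) ≠ j := fun h => hjS (h ▸ h0S)
      have hall : ∀ i, i ≠ j → i ∈ S := fun i hi => (hj 0 i h0j hi).mp h0S
      refine ⟨j, fun g hg => ?_⟩
      obtain ⟨i, hi⟩ := he.2 (g • lab x o j)
      by_contra hne
      have hij : i ≠ j := by
        rintro rfl
        exact hne hi.symm
      obtain ⟨g', hg'1, hg'2⟩ := (hmemS i).mp (hall i hij)
      apply hjS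
      rw [hmemS]
      refine ⟨g⁻¹ * g', ?_, ?_⟩
      · rw [mul_smul, hg'1, hi, inv_smul_smul]
      · rw [map_mul, map_inv, mul_smul, hg'2, inv_smul_eq_iff, hg]
  set t : G := x ^ j'.val with ht
  have hlabt : lab x o j' = t • o := rfl
  have hαinv : α⁻¹ x = x := by
    rw [MulAut.inv_apply, MulEquiv.symm_apply_eq, hαx]
  have hβ1 : (MulAut.conj t⁻¹ * α⁻¹) = 1 := by
    apply aut_eq_one_of_stab he hfaith
    · rw [MulAut.mul_apply, hαinv, MulAut.conj_apply, inv_inv, ht, mul_assoc, ← pow_succ',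
        pow_succ, ← mul_assoc, inv_mul_cancel, one_mul]
    · intro g hg
      have h3 := hj' (α⁻¹ g) (by
        rw [MulAut.inv_apply, MulEquiv.apply_symm_apply]
        exact hg)
      rw [hlabt] at h3
      rw [MulAut.mul_apply, MulAut.conj_apply, inv_inv, mul_smul, mul_smul, h3, inv_smul_smul]
  exact ⟨t⁻¹, mul_inv_eq_one.mp hβ1⟩

end Main

end Cfsg.Agent.Lib.Helper58_PrimeDegAut
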