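import Mathlib
import Cfsg.Agent.Lib.Helper77_SLnDefs
import Cfsg.Prelude.Def_Characters

set_option autoImplicit false
set_option linter.unusedVariables false
set_option linter.unusedSimpArgs false
set_option linter.unusedSectionVars false
open Matrix Cfsg.Agent.Lib.Helper5_Transv Cfsg.Agent.Lib.Helper77_SLnDefs

/-!
# S2332 (architect helper77), package TRACEALL:
all transvections of the Levi factor have the same trace on the fixed space.
-/

namespace Cfsg.Agent.Lib.Helper58_S2332_TRACEALL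

variable {F : Type*} [Field F] [Fintype F] [DecidableEq F] {κ : Type} [Fintype κ] [DecidableEq κ]
  {V : Type} [AddCommGroup V] [Module ℂ V] [FiniteDimensional ℂ V]

theorem exists_third (hκ : 3 ≤ Fintype.card κ) (j k : κ) : ∃ l : κ, l ≠ j ∧ l ≠ k := by
  by_contra hcon
  push Not at hcon
  have hsub : (Finset.univ : Finset κ) ⊆ {j, k} := by
    intro x _
    by_cases hx : x = j
    · simp [hx]
    · simp [hcon x hx]
  have h1 := Finset.card_le_card hsub
  have h2 : ({j, k} : Finset κ).card ≤ 2 := Finset.card_le_two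
  rw [Finset.card_univ] at h1
  omega

/-- the trace of a representation is invariant under conjugation -/
theorem trace_conj {G : Type*} [Group G] {X : Type*} [AddCommGroup X] [Module ℂ X]
    (σ : Representation ℂ G X) (g x : G) :
    LinearMap.trace ℂ X (σ (g * x * g⁻¹)) = LinearMap.trace ℂ X (σ x) := by
  have h1 : σ (g * x * g⁻¹) = σ g * σ x * σ g⁻¹ := by rw [map_mul, map_mul]
  have h2 : σ g⁻¹ * (σ g * σ x) = σ x := by
    rw [← mul_assoc, ← map_mul, inv_mul_cancel, map_one, one_mul]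
  rw [h1, LinearMap.trace_mul_comm, h2]

theorem trace_psiRep_tvS (hκ : 3 ≤ Fintype.card κ)
    (ρ : Representation ℂ (Matrix.SpecialLinearGroup (Unit ⊕ κ) F) V)
    (ψ : AddChar F ℂ) (c : ℂ) (j k : κ) (hjk : j ≠ k)
    (h0 : LinearMap.trace ℂ (wsp ρ ψ (0 : κ → F)) (psiRep ρ ψ (rootEl j k hjk 1)) = c)
    (a φ : κ → F) (ha : a ≠ 0) (hφ : φ ≠ 0) (h : φ ⬝ᵥ a = 0) :
    LinearMap.trace ℂ (wsp ρ ψ (0 : κ → F)) (psiRep ρ ψ (tvS a φ h 1)) = c := by
  obtain ⟨l, hlj, hlk⟩ := exists_third hκ j k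
  obtain ⟨g, hg1, hg2⟩ := exists_conj (k := F) hjk (Ne.symm hlj) (Ne.symm hlk) a φ ha hφ h
  have hconj : g * rootEl j k hjk 1 * g⁻¹ = tvS a φ h 1 := by
    unfold rootEl
    rw [conj_tvS]
    apply Subtype.ext
    rw [tvS_coe, tvS_coe, hg1, hg2]
  rw [← hconj, trace_conj, h0]

end Cfsg.Agent.Lib.Helper58_S2332_TRACEALL
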