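import Mathlib
import Cfsg.Agent.Lib.Helper77_SLnDefs
import Cfsg.Prelude.Def_Characters

set_option autoImplicit false
set_option linter.unusedVariables false
set_option linter.unusedSimpArgs false
set_option linter.unusedSectionVars false
open Matrix Cfsg.Agent.Lib.Helper5_Transv Cfsg.Agent.Lib.Helper77_SLnDefs

/-!
# S2332 (architect helper77), package WSPDIAG:
diagonal elements permute the weight spaces of the unipotent radical.
-/

namespace Cfsg.Agent.Lib.Helper58_S2332_WSPDIAG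

variable {F : Type*} [Field F] [Fintype F] [DecidableEq F] {κ : Type} [Fintype κ] [DecidableEq κ]
  {V : Type} [AddCommGroup V] [Module ℂ V] [FiniteDimensional ℂ V]

theorem d0_ne_zero (d : Unit ⊕ κ → F) (hd : ∏ i, d i = 1) : d (Sum.inl ()) ≠ 0 := by
  intro h0
  have h1 : ∏ i, d i = 0 := Finset.prod_eq_zero (Finset.mem_univ (Sum.inl ())) h0
  rw [hd] at h1
  exact one_ne_zero h1

/-- `xu u * diag d = diag d * xu u'` with `u' i = d₀⁻¹ d_i u_i` -/
theorem xu_mul_diagS (d : Unit ⊕ κ → F) (hd : ∏ i, d i = 1) (u : κ → F) :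
    xu u * diagS d hd = diagS d hd * xu (fun i => (d (Sum.inl ()))⁻¹ * d (Sum.inr i) * u i) := by
  have hd0 := d0_ne_zero d hd
  apply Subtype.ext
  show (xu u).1 * Matrix.diagonal d = Matrix.diagonal d * (xu _).1
  unfold xu
  simp only [tvS_coe]
  unfold tv
  rw [add_mul, mul_add, one_mul, mul_one, one_smul, one_smul, Matrix.vecMulVec_mul,
    Matrix.mul_vecMulVec]
  congr 1
  ext i j
  simp only [vecMulVec_apply, vecMul_diagonal, mulVec_diagonal]
  rcases i with i | i <;> rcases j with j | j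
  · simp [e0, ext0]
  · simp only [e0, ext0, Sum.elim_inl, Sum.elim_inr]
    field_simp
  · simp [e0, ext0]
  · simp [e0, ext0]

theorem wsp_diagS (ρ : Representation ℂ (Matrix.SpecialLinearGroup (Unit ⊕ κ) F) V) (ψ : AddChar F ℂ)
    (d : Unit ⊕ κ → F) (hd : ∏ i, d i = 1) (v : κ → F) (w : V) (hw : w ∈ wsp ρ ψ v) :
    ρ (diagS d hd) w ∈ wsp ρ ψ (fun i => (d (Sum.inl ()))⁻¹ * d (Sum.inr i) * v i) := by
  intro u
  have h3 : ρ (xu u) (ρ (diagS d hd) w) =
      ρ (diagS d hd) (ρ (xu (fun i => (d (Sum.inl ()))⁻¹ * d (Sum.inr i) * u i)) w) := by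
    rw [← Module.End.mul_apply, ← map_mul, xu_mul_diagS, map_mul, Module.End.mul_apply]
  rw [h3, hw _, map_smul]
  congr 2
  unfold dotProduct
  apply Finset.sum_congr rfl
  intro i _
  ring

end Cfsg.Agent.Lib.Helper58_S2332_WSPDIAG
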