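import Mathlib

/-!
S4699 PK-FREE (architect helper57): summation over the orbits of a free action.
-/

set_option autoImplicit false
set_option linter.unusedVariables false
set_option linter.unusedSimpArgs false

namespace Cfsg.Agent.Lib.Helper58_S4699_FREE

/-- summation over the orbits of a free action -/
theorem sum_eq_sum_orbits {H : Type*} [Group H] [Fintype H] {Ω : Type*} [Fintype Ω]
    [MulAction H Ω] (hfree : ∀ (h : H) (ω : Ω), h • ω = ω → h = 1) {E : Type*} [AddCommMonoid E]
    (f : Ω → E) : ∃ R : Finset Ω, ∑ ω, f ω = ∑ r ∈ R, ∑ h : H, f (h • r) := by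
  classical
  let R : Finset Ω :=
    Finset.univ.image (fun q : MulAction.orbitRel.Quotient H Ω => q.out)
  refine ⟨R, ?_⟩
  rw [← Finset.sum_product']
  symm
  have hmk : ∀ (h : H) (ω : Ω),
      (Quotient.mk'' (h • ω) : MulAction.orbitRel.Quotient H Ω) = Quotient.mk'' ω := by
    intro h ω
    apply Quotient.sound'
    show MulAction.orbitRel H Ω (h • ω) ω
    rw [MulAction.orbitRel_apply]
    exact MulAction.mem_orbit ω h
  apply Finset.sum_nbij (fun x : Ω × H => x.2 • x.1)
  · intro a _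
    exact Finset.mem_univ _
  · rintro ⟨r₁, h₁⟩ hx₁ ⟨r₂, h₂⟩ hx₂ heq
    simp only [Finset.coe_product, Set.mem_prod, Finset.mem_coe, Finset.mem_univ, and_true,
      Finset.coe_univ, Set.mem_univ] at hx₁ hx₂
    simp only at heq
    obtain ⟨q₁, -, hq₁⟩ := Finset.mem_image.mp hx₁
    obtain ⟨q₂, -, hq₂⟩ := Finset.mem_image.mp hx₂
    have e₁ : (Quotient.mk'' r₁ : MulAction.orbitRel.Quotient H Ω) = q₁ := by
      rw [← hq₁]; exact Quotient.out_eq' q₁
    have e₂ : (Quotient.mk'' r₂ : MulAction.orbitRel.Quotient H Ω) = q₂ := by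
      rw [← hq₂]; exact Quotient.out_eq' q₂
    have hq : q₁ = q₂ := by
      rw [← e₁, ← e₂, ← hmk h₁ r₁, ← hmk h₂ r₂, heq]
    have hr : r₁ = r₂ := by rw [← hq₁, ← hq₂, hq]
    subst hr
    have h3 : (h₂⁻¹ * h₁) • r₁ = r₁ := by
      rw [mul_smul, heq, inv_smul_smul]
    have h4 := hfree _ _ h3
    have h5 : h₁ = h₂ := by
      have := congrArg (fun t => h₂ * t) h4
      simpa using this
    rw [h5]
  · intro ω _
    have hrel : MulAction.orbitRel H Ω (Quotient.mk'' ω : MulAction.orbitRel.Quotient H Ω).out ω :=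
      Quotient.exact' (Quotient.out_eq' (Quotient.mk'' ω : MulAction.orbitRel.Quotient H Ω))
    rw [MulAction.orbitRel_apply] at hrel
    obtain ⟨h, hh⟩ := hrel
    refine ⟨((Quotient.mk'' ω : MulAction.orbitRel.Quotient H Ω).out, h⁻¹), ?_, ?_⟩
    · simp only [Finset.coe_product, Set.mem_prod, Finset.mem_coe, Finset.coe_univ, Set.mem_univ,
        and_true]
      exact Finset.mem_image.mpr ⟨_, Finset.mem_univ _, rfl⟩
    · show h⁻¹ • (Quotient.mk'' ω : MulAction.orbitRel.Quotient H Ω).out = ω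
      rw [← hh, inv_smul_smul]
  · intro a _
    rfl

end Cfsg.Agent.Lib.Helper58_S4699_FREE
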