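import Mathlib
import Cfsg.Agent.Lib.Helper57_S4699_GEOM

/-!
S4699 PK-L (architect helper57): the range of a `P`-trace `∑_{i<q} X^i c X^{-i}` lies in the range of
`(X - 1)^k` as soon as `k + dim V ≤ q = p^n`.
-/

set_option autoImplicit false
set_option linter.unusedVariables false
set_option linter.unusedSimpArgs false

namespace Cfsg.Agent.Lib.Helper58_S4699_L

open Cfsg.Agent.Lib.Helper57_S4699_GEOM

/-- A nilpotent endomorphism has `finrank`-th power zero. -/
theorem pow_finrank_eq_zero' {k : Type*} [Field k] {M : Type*} [AddCommGroup M] [Module k M]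
    [FiniteDimensional k M] {φ : Module.End k M} (h : IsNilpotent φ) :
    φ ^ Module.finrank k M = 0 := by
  have h1 := LinearMap.aeval_self_charpoly φ
  rw [IsNilpotent.charpoly_eq_X_pow_finrank h] at h1
  simpa using h1

/-- PK-L -/
theorem range_trace_le {F : Type*} [Field F] {p : ℕ} [Fact p.Prime] [CharP F p] {V : Type*}
    [AddCommGroup V] [Module F V] [FiniteDimensional F V] (n : ℕ) (X Xi : Module.End F V)
    (hX : X * Xi = 1) (hXi : Xi * X = 1) (hXq : X ^ (p ^ n) = 1) (c : Module.End F V) (k : ℕ)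
    (hk : k + Module.finrank F V ≤ p ^ n) :
    LinearMap.range (∑ i ∈ Finset.range (p ^ n), X ^ i * c * Xi ^ i) ≤
      LinearMap.range ((X - 1) ^ k) := by
  have hp : p.Prime := Fact.out
  have hq : 0 < p ^ n := Nat.pos_of_ne_zero (pow_ne_zero _ hp.ne_zero)
  have hcomm : Commute X Xi := by
    show X * Xi = Xi * X
    rw [hX, hXi]
  -- `Xi ^ q = 1`
  have hXiq : Xi ^ (p ^ n) = 1 := by
    have h1 : (X * Xi) ^ (p ^ n) = X ^ (p ^ n) * Xi ^ (p ^ n) := hcomm.mul_pow _
    rw [hX, one_pow, hXq, one_mul] at h1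
    exact h1.symm
  -- `(Xi - 1) ^ d = 0`
  have hEq : (Xi - 1) ^ (p ^ n) = 0 := by
    rw [sub_one_pow_char_pow (F := F) n Xi, hXiq, sub_self]
  have hEd : (Xi - 1) ^ Module.finrank F V = 0 := pow_finrank_eq_zero' ⟨_, hEq⟩
  -- the operators on `End V`
  set l : Module.End F (Module.End F V) := LinearMap.mulLeft F (X - 1) with hl
  set r : Module.End F (Module.End F V) := LinearMap.mulRight F (Xi - 1) with hr
  have hlr : Commute l r := LinearMap.commute_mulLeft_right _ _
  have hrd : r ^ Module.finrank F V = 0 := by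
    rw [hr, LinearMap.pow_mulRight, hEd]
    apply LinearMap.ext
    intro a
    simp
  have hexp : (LinearMap.mulLeft F X * LinearMap.mulRight F Xi - 1 :
      Module.End F (Module.End F V)) = l * (1 + r) + r := by
    apply LinearMap.ext
    intro a
    simp only [hl, hr, LinearMap.sub_apply, Module.End.mul_apply, LinearMap.mulLeft_apply,
      LinearMap.mulRight_apply, Module.End.one_apply, LinearMap.add_apply]
    noncomm_ring
  have hl1r : Commute l (1 + r) := (Commute.one_right l).add_right hlr
  have hc2 : Commute (l * (1 + r)) r :=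
    (hlr.mul_left ((Commute.one_left r).add_left (Commute.refl r)))
  -- each power of `LR` applied to `c`
  have hpow : ∀ i : ℕ, ((LinearMap.mulLeft F X * LinearMap.mulRight F Xi :
      Module.End F (Module.End F V)) ^ i) c = X ^ i * c * Xi ^ i := by
    intro i
    rw [(LinearMap.commute_mulLeft_right X Xi).mul_pow, LinearMap.pow_mulLeft,
      LinearMap.pow_mulRight]
    simp [Module.End.mul_apply, mul_assoc]
  -- the sum is `(LR - 1)^(q-1) c`
  have hsum : (∑ i ∈ Finset.range (p ^ n), X ^ i * c * Xi ^ i) =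
      ((l * (1 + r) + r) ^ (p ^ n - 1)) c := by
    rw [← hexp, ← geom_sum_pow (F := F) n, LinearMap.sum_apply]
    exact Finset.sum_congr rfl (fun i _ => (hpow i).symm)
  -- binomial expansion: every term is a left multiple of `l ^ k`
  have hterm : ∀ j ∈ Finset.range (p ^ n - 1 + 1), ∃ y : Module.End F (Module.End F V),
      (l * (1 + r)) ^ j * r ^ (p ^ n - 1 - j) * ((p ^ n - 1).choose j : Module.End F (Module.End F V))
        = l ^ k * y := by
    intro j hj
    by_cases hjk : k ≤ j
    · refine ⟨l ^ (j - k) * (1 + r) ^ j * r ^ (p ^ n - 1 - j) *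
        ((p ^ n - 1).choose j : Module.End F (Module.End F V)), ?_⟩
      have : l ^ j = l ^ k * l ^ (j - k) := by
        rw [← pow_add, Nat.add_sub_cancel' hjk]
      rw [hl1r.mul_pow, this]
      simp only [mul_assoc]
    · refine ⟨0, ?_⟩
      have hz : r ^ (p ^ n - 1 - j) = 0 :=
        pow_eq_zero_of_le (by omega) hrd
      rw [hz, mul_zero, zero_mul, mul_zero]
  choose! Y hY using hterm
  have hbin : (l * (1 + r) + r) ^ (p ^ n - 1) = l ^ k * ∑ j ∈ Finset.range (p ^ n - 1 + 1), Y j := by
    rw [hc2.add_pow, Finset.mul_sum]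
    exact Finset.sum_congr rfl hY
  rw [hsum, hbin, Module.End.mul_apply, hl, LinearMap.pow_mulLeft, LinearMap.mulLeft_apply]
  exact LinearMap.range_comp_le_range _ _

end Cfsg.Agent.Lib.Helper58_S4699_L
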