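import Mathlib

/-!
S4699 PK-PHIA (architect helper57): the polynomial congruence
`(X^a - 1)^(p-1) = (X - 1)^(p-1) + (X - 1)^p * w` for `p ∤ a` in characteristic `p`.
-/

set_option autoImplicit false
set_option linter.unusedVariables false
set_option linter.unusedSimpArgs false

namespace Cfsg.Agent.Lib.Helper58_S4699_PHIA

/-- Fermat in a field of characteristic `p`. -/
theorem natCast_pow_sub_one {F : Type*} [Field F] {p : ℕ} [Fact p.Prime] [CharP F p] (a : ℕ)
    (ha : ¬ p ∣ a) : ((a : F)) ^ (p - 1) = 1 := by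
  have h0 : (a : ZMod p) ≠ 0 := by
    rw [Ne, ZMod.natCast_eq_zero_iff]
    exact ha
  have h1 := ZMod.pow_card_sub_one_eq_one h0
  have h2 := congrArg (ZMod.castHom (dvd_refl p) F) h1
  simpa using h2

/-- the polynomial identity -/
theorem poly_identity {F : Type*} [Field F] {p : ℕ} [Fact p.Prime] [CharP F p] (a : ℕ)
    (ha : ¬ p ∣ a) : ∃ W : Polynomial F,
      ((Polynomial.X : Polynomial F) ^ a - 1) ^ (p - 1) =
        (Polynomial.X - 1) ^ (p - 1) + (Polynomial.X - 1) ^ p * W := by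
  set T : Polynomial F := Polynomial.X with hT
  set S : Polynomial F := ∑ i ∈ Finset.range a, T ^ i with hS
  have h1 : T ^ a - 1 = (T - 1) * S := (mul_geom_sum T a).symm
  have h2 : (T - 1) ∣ S - Polynomial.C (a : F) := by
    have hev : S.eval 1 = (a : F) := by
      simp [hS, hT, Polynomial.eval_finsetSum]
    have hroot : (S - Polynomial.C (a : F)).IsRoot 1 := by
      simp [Polynomial.IsRoot, hev]
    have := Polynomial.dvd_iff_isRoot.mpr hroot
    simpa using this
  have h3 : S - Polynomial.C (a : F) ∣ S ^ (p - 1) - (Polynomial.C (a : F)) ^ (p - 1) :=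
    sub_dvd_pow_sub_pow _ _ _
  obtain ⟨G, hG⟩ := h2.trans h3
  have h4 : (Polynomial.C (a : F)) ^ (p - 1) = 1 := by
    rw [← Polynomial.C_pow, natCast_pow_sub_one a ha, Polynomial.C_1]
  refine ⟨G, ?_⟩
  have hp1 : p - 1 + 1 = p := Nat.sub_add_cancel (Fact.out : p.Prime).one_le
  have hpow : (T - 1) ^ p = (T - 1) ^ (p - 1) * (T - 1) := by
    rw [← pow_succ, hp1]
  have hSp : S ^ (p - 1) = 1 + (T - 1) * G := by
    rw [← hG, h4]
    ring
  rw [h1, mul_pow, hSp, hpow]
  ring

/-- PK-PHIA -/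
theorem pow_sub_one_pow {F : Type*} [Field F] {p : ℕ} [Fact p.Prime] [CharP F p] {A : Type*}
    [Ring A] [Algebra F A] (X : A) (a : ℕ) (ha : ¬ p ∣ a) :
    ∃ w : A, w * X = X * w ∧ (X ^ a - 1) ^ (p - 1) = (X - 1) ^ (p - 1) + (X - 1) ^ p * w := by
  obtain ⟨W, hW⟩ := poly_identity (F := F) (p := p) a ha
  refine ⟨Polynomial.aeval X W, ?_, ?_⟩
  · have := congrArg (Polynomial.aeval X) (mul_comm W (Polynomial.X : Polynomial F))
    simpa using this
  · have := congrArg (Polynomial.aeval X) hW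
    simpa using this

end Cfsg.Agent.Lib.Helper58_S4699_PHIA
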