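import Mathlib
import Cfsg.Prelude.Def_Characters
import Cfsg.Prelude.Def_Blocks
import Cfsg.Agent.S0157

/-!
# S4707 PK-E2 (helper58, for helper15): `(ρ_H, ρ_H) ≥ 3`

`H = G_a`, `Δ` the `H`-orbit of `b`, `|Δ| < ρ(1)`, `(ρ, π) = 1`, `(ρ|_{G_ab}, 1) = m ≥ 2`.  Then
`ρ_H` and the permutation character of `H` on `Δ` share a non-trivial irreducible constituent and
`(ρ_H, ρ_H) ≥ 3`.
-/

set_option autoImplicit false
set_option linter.style.haveILetI false
set_option linter.unusedVariables false
set_option linter.unusedSimpArgs false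

namespace Cfsg.Agent.Lib.Helper58_S4707_E2

open Cfsg MulAction
open scoped ComplexConjugate
open Cfsg.Agent.Lib.Helper3_CharBridge Cfsg.Agent.Lib.Helper3_CharOrtho
  Cfsg.Agent.Lib.Helper3_CharComplete Cfsg.Agent.Lib.Helper75_CharArith

/-- Number of fixed points as a sum of indicators. -/
theorem card_fixedBy_eq_sum {H : Type*} [Group H] {X : Type*} [Fintype X] [DecidableEq X]
    [MulAction H X] (g : H) :
    (Nat.card (fixedBy X g) : ℂ) = ∑ x : X, if g • x = x then (1 : ℂ) else 0 := by
  have h : Nat.card (fixedBy X g) = (Finset.univ.filter (fun x : X => g • x = x)).card :=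
    Nat.subtype_card _ (fun x => by simp [mem_fixedBy])
  rw [h, Finset.sum_boole]

/-- Double counting: `∑_g F(g) |Fix g| = |X| ∑_{g ∈ G_{x₀}} F(g)` for a class function `F` and a
transitive action. -/
theorem sum_mul_fixedBy {H : Type*} [Group H] [Fintype H] {X : Type*} [Fintype X] [DecidableEq X]
    [MulAction H X] [IsPretransitive H X] (x₀ : X) (F : H → ℂ)
    (hF : ∀ g t : H, F (t * g * t⁻¹) = F g) :
    ∑ g : H, F g * (Nat.card (fixedBy X g) : ℂ) =
      (Fintype.card X : ℂ) * ∑ g ∈ Finset.univ.filter (fun g : H => g • x₀ = x₀), F g := by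
  classical
  calc ∑ g : H, F g * (Nat.card (fixedBy X g) : ℂ)
      = ∑ g : H, ∑ x : X, if g • x = x then F g else 0 := by
        refine Finset.sum_congr rfl fun g _ => ?_
        rw [card_fixedBy_eq_sum, Finset.mul_sum]
        refine Finset.sum_congr rfl fun x _ => ?_
        split_ifs <;> simp
    _ = ∑ x : X, ∑ g : H, if g • x = x then F g else 0 := Finset.sum_comm
    _ = ∑ _x : X, ∑ g ∈ Finset.univ.filter (fun g : H => g • x₀ = x₀), F g := by
        refine Finset.sum_congr rfl fun x _ => ?_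
        rw [← Finset.sum_filter]
        obtain ⟨t, rfl⟩ := exists_smul_eq H x₀ x
        symm
        refine Finset.sum_bij' (fun g _ => t * g * t⁻¹) (fun g _ => t⁻¹ * g * t) ?_ ?_ ?_ ?_ ?_
        · intro g hg
          rw [Finset.mem_filter] at hg ⊢
          refine ⟨Finset.mem_univ _, ?_⟩
          rw [mul_smul, mul_smul, inv_smul_smul, hg.2]
        · intro g hg
          rw [Finset.mem_filter] at hg ⊢
          refine ⟨Finset.mem_univ _, ?_⟩
          rw [mul_smul, mul_smul, hg.2, inv_smul_smul]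
        · intro g _
          group
        · intro g _
          group
        · intro g _
          exact (hF g t).symm
    _ = _ := by
        rw [Finset.sum_const, Finset.card_univ, nsmul_eq_mul]

/-- Orbit-stabiliser in the filter form. -/
theorem card_mul_card_filter {H : Type*} [Group H] [Fintype H] {X : Type*} [Fintype X]
    [DecidableEq X] [MulAction H X] [IsPretransitive H X] (x₀ : X) :
    (Fintype.card X : ℂ) * ((Finset.univ.filter (fun g : H => g • x₀ = x₀)).card : ℂ) =
      (Nat.card H : ℂ) := by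
  haveI : Nonempty X := ⟨x₀⟩
  have h := sum_mul_fixedBy x₀ (fun _ : H => (1 : ℂ)) (fun _ _ => rfl)
  simp only [one_mul, Finset.sum_const, nsmul_eq_mul, mul_one] at h
  rw [← h]
  exact Cfsg.Agent.S0157.sum_perm (G := H) (X := X)

/-- The abstract core: a character `σ` of `H` with `(σ, 1) = 1`, `H` transitive on `X` with
`|X| < σ(1)` and `(σ|_{H_{x₀}}, 1) = m ≥ 2` has `(σ, σ) ≥ 3`. -/
theorem core {H : Type*} [Group H] [Fintype H] {X : Type*} [Fintype X] [DecidableEq X]
    [MulAction H X] [IsPretransitive H X] (x₀ : X) (σ : H → ℂ) (hσ : IsCharacter H σ)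
    (h1 : ∑ h : H, σ h = (Nat.card H : ℂ)) (m : ℕ) (hm : 2 ≤ m)
    (h2 : ∑ h ∈ Finset.univ.filter (fun h : H => h • x₀ = x₀), σ h =
      (m : ℂ) * ((Finset.univ.filter (fun h : H => h • x₀ = x₀)).card : ℂ))
    (h3 : ((Fintype.card X : ℕ) : ℝ) < (σ 1).re) :
    ∃ c : ℕ, 3 ≤ c ∧ ∑ h : H, σ h * conj (σ h) = (c : ℂ) * (Nat.card H : ℂ) := by
  classical
  haveI : Nonempty X := ⟨x₀⟩
  have hH : (Nat.card H : ℂ) ≠ 0 := card_ne_zero_complex
  have hσcf := isClassFunction_of_isCharacter hσ
  obtain ⟨π, hπdef⟩ : ∃ π : H → ℂ, π = Cfsg.Agent.S0157.perm H X := ⟨_, rfl⟩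
  have hπ : IsCharacter H π := by
    rw [hπdef]
    exact Cfsg.Agent.S0157.isCharacter_perm
  have hπapp : ∀ h, π h = (Nat.card (fixedBy X h) : ℂ) := fun h => by
    rw [hπdef]
    rfl
  have hπconj : ∀ h, conj (π h) = π h := fun h => by
    rw [hπapp, Complex.conj_natCast]
  have hπsum : ∑ h : H, π h = (Nat.card H : ℂ) := by
    rw [hπdef]
    exact Cfsg.Agent.S0157.sum_perm
  obtain ⟨n, hn, hnsum⟩ := exists_multiplicities hσ
  obtain ⟨e, he, hesum⟩ := exists_multiplicities hπ
  obtain ⟨one, hone⟩ : ∃ one : IrrCharacter H, (one : H → ℂ) = fun _ => 1 :=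
    ⟨⟨fun _ => 1, Cfsg.Agent.Lib.Helper80_CharBasic.isIrrCharacter_one H⟩, rfl⟩
  have hn1 : n one = 1 := by
    have h : classInner σ (one : H → ℂ) = 1 := by
      unfold classInner
      simp only [hone, map_one, mul_one]
      rw [h1]
      exact inv_mul_cancel₀ hH
    rw [hn] at h
    exact_mod_cast h
  have he1 : e one = 1 := by
    have h : classInner π (one : H → ℂ) = 1 := by
      unfold classInner
      simp only [hone, map_one, mul_one]
      rw [hπsum]
      exact inv_mul_cancel₀ hH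
    rw [he] at h
    exact_mod_cast h
  have hcard := card_mul_card_filter (H := H) x₀
  have hσπ : classInner σ π = m := by
    unfold classInner
    simp only [hπapp, Complex.conj_natCast]
    rw [sum_mul_fixedBy x₀ σ hσcf, h2]
    calc (Nat.card H : ℂ)⁻¹ * ((Fintype.card X : ℂ) *
          ((m : ℂ) * ((Finset.univ.filter (fun h : H => h • x₀ = x₀)).card : ℂ)))
        = (Nat.card H : ℂ)⁻¹ * ((m : ℂ) * ((Fintype.card X : ℂ) *
          ((Finset.univ.filter (fun h : H => h • x₀ = x₀)).card : ℂ))) := by ring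
      _ = (m : ℂ) := by
        rw [hcard]
        field_simp
  have hsum_ne : ∑ χ : IrrCharacter H, n χ * e χ = m := by
    have h := classInner_eq_sum_irr hσcf π
    rw [hσπ] at h
    have h' : ∀ χ : IrrCharacter H,
        classInner σ (χ : H → ℂ) * classInner (χ : H → ℂ) π = ((n χ * e χ : ℕ) : ℂ) := by
      intro χ
      rw [hn, ← classInner_conj_symm π χ, he, Complex.conj_natCast]
      push_cast
      rfl
    simp only [h'] at h
    rw [← Nat.cast_sum] at h
    exact_mod_cast h.symm
  have hsum_nn : classInner σ σ = ((∑ χ : IrrCharacter H, n χ * n χ : ℕ) : ℂ) := by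
    rw [classInner_self_eq_sum hσcf]
    push_cast
    refine Finset.sum_congr rfl fun χ _ => ?_
    rw [hn, Complex.conj_natCast]
  refine ⟨∑ χ : IrrCharacter H, n χ * n χ, ?_, ?_⟩
  swap
  · rw [← hsum_nn]
    unfold classInner
    field_simp
  by_contra hc
  have hc2 : ∑ χ : IrrCharacter H, n χ * n χ ≤ 2 := by omega
  have hex : ∃ χ₀ : IrrCharacter H, χ₀ ≠ one ∧ 1 ≤ n χ₀ * e χ₀ := by
    by_contra hno
    have hno' : ∀ χ : IrrCharacter H, χ ≠ one → n χ * e χ = 0 := by
      intro χ hχ
      by_contra h0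
      exact hno ⟨χ, hχ, Nat.one_le_iff_ne_zero.mpr h0⟩
    have h : ∑ χ : IrrCharacter H, n χ * e χ = n one * e one := by
      apply Finset.sum_eq_single one
      · intro χ _ hχ
        exact hno' χ hχ
      · intro h
        exact absurd (Finset.mem_univ _) h
    rw [hsum_ne, hn1, he1] at h
    omega
  obtain ⟨χ₀, hχ₀, h10⟩ := hex
  have hn0 : 1 ≤ n χ₀ := by
    by_contra h
    have : n χ₀ = 0 := by omega
    rw [this] at h10
    omega
  have he0 : 1 ≤ e χ₀ := by
    by_contra h
    have : e χ₀ = 0 := by omega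
    rw [this] at h10
    omega
  have hle : ∀ χ : IrrCharacter H, n χ ≤ e χ := by
    intro χ
    by_cases hχ1 : χ = one
    · rw [hχ1, hn1, he1]
    by_cases hχ0 : χ = χ₀
    · rw [hχ0]
      have h : ∑ x ∈ ({one, χ₀} : Finset (IrrCharacter H)), n x * n x ≤
          ∑ χ : IrrCharacter H, n χ * n χ :=
        Finset.sum_le_sum_of_subset (Finset.subset_univ _)
      rw [Finset.sum_pair (Ne.symm hχ₀), hn1] at h
      nlinarith
    · have h : ∑ x ∈ ({χ, one, χ₀} : Finset (IrrCharacter H)), n x * n x ≤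
          ∑ χ : IrrCharacter H, n χ * n χ :=
        Finset.sum_le_sum_of_subset (Finset.subset_univ _)
      rw [Finset.sum_insert (by simp [hχ1, hχ0]), Finset.sum_pair (Ne.symm hχ₀), hn1] at h
      have : n χ = 0 := by nlinarith
      omega
  have hdeg : ∀ χ : IrrCharacter H, ∃ d : ℕ, (χ : H → ℂ) 1 = d := fun χ =>
    (Cfsg.Agent.Lib.Helper80_CharBasic.irr_apply_one χ).imp fun d h => h.2
  choose d hd using hdeg
  have hσ1 : σ 1 = ((∑ χ : IrrCharacter H, n χ * d χ : ℕ) : ℂ) := by
    have h := congrFun hnsum 1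
    rw [h, Finset.sum_apply]
    push_cast
    refine Finset.sum_congr rfl fun χ _ => ?_
    rw [Pi.smul_apply, hd, smul_eq_mul]
  have hπ1 : π 1 = ((∑ χ : IrrCharacter H, e χ * d χ : ℕ) : ℂ) := by
    have h := congrFun hesum 1
    rw [h, Finset.sum_apply]
    push_cast
    refine Finset.sum_congr rfl fun χ _ => ?_
    rw [Pi.smul_apply, hd, smul_eq_mul]
  have hπ1' : π 1 = (Fintype.card X : ℂ) := by
    rw [hπapp]
    have : Nat.card (fixedBy X (1 : H)) = Fintype.card X := by
      rw [← Nat.card_eq_fintype_card]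
      exact Nat.subtype_card Finset.univ (fun x => by simp [mem_fixedBy]) |>.trans (by simp)
    rw [this]
  have hmono : ∑ χ : IrrCharacter H, n χ * d χ ≤ ∑ χ : IrrCharacter H, e χ * d χ :=
    Finset.sum_le_sum fun χ _ => Nat.mul_le_mul_right _ (hle χ)
  have hX : (∑ χ : IrrCharacter H, e χ * d χ) = Fintype.card X := by
    exact_mod_cast hπ1.symm.trans hπ1'
  rw [hσ1, Complex.natCast_re] at h3
  have := Nat.cast_lt.mp h3
  omega

/-- S4707 PK-E2. -/
theorem pkE2 {G : Type*} [Group G] [Fintype G] {Ω : Type*} [Fintype Ω] [DecidableEq Ω]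
    [MulAction G Ω] [MulAction.IsPretransitive G Ω] (ρ : IrrCharacter G)
    (hρπ : classInner (fun g : G => (Nat.card (MulAction.fixedBy Ω g) : ℂ)) (ρ : G → ℂ) = 1)
    (a b : Ω) (hab : a ≠ b)
    (hk : Nat.card (MulAction.orbit (MulAction.stabilizer G a) b) < charDegree (ρ : G → ℂ))
    (m : ℕ) (hm : 2 ≤ m)
    (hsum : ∑ g ∈ Finset.univ.filter (fun g : G => g • a = a ∧ g • b = b), (ρ : G → ℂ) g =
        (m : ℂ) * ((Finset.univ.filter (fun g : G => g • a = a ∧ g • b = b)).card : ℂ)) :
    ∃ c : ℕ, 3 ≤ c ∧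
      ∑ h ∈ Finset.univ.filter (fun g : G => g • a = a),
          (ρ : G → ℂ) h * conj ((ρ : G → ℂ) h) =
        (c : ℂ) * ((Finset.univ.filter (fun g : G => g • a = a)).card : ℂ) := by
  classical
  have hG : (Nat.card G : ℂ) ≠ 0 := card_ne_zero_complex
  have hρcf := isClassFunction_of_isIrrCharacter ρ.2
  -- sums over `H` versus filter sums
  have hsub : ∀ f : G → ℂ, ∑ g ∈ Finset.univ.filter (fun g : G => g • a = a), f g =
      ∑ h : stabilizer G a, f h := fun f =>
    Finset.sum_subtype _ (fun g => by simp [mem_stabilizer_iff]) f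
  have hcardH : Nat.card (stabilizer G a) = (Finset.univ.filter (fun g : G => g • a = a)).card :=
    Nat.subtype_card _ (fun g => by simp [mem_stabilizer_iff])
  -- `(ρ_H, 1_H) = 1`
  have hA : ∑ h : stabilizer G a, (ρ : G → ℂ) h = (Nat.card (stabilizer G a) : ℂ) := by
    have h0 := hρπ
    unfold classInner at h0
    have h1 : ∑ g : G, (Nat.card (fixedBy Ω g) : ℂ) * conj ((ρ : G → ℂ) g) = (Nat.card G : ℂ) := by
      have := congrArg (fun z => (Nat.card G : ℂ) * z) h0
      simp only [mul_one] at this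
      rw [← this, ← mul_assoc, mul_inv_cancel₀ hG, one_mul]
    have h2 : ∑ g : G, (Nat.card (fixedBy Ω g) : ℂ) * conj ((ρ : G → ℂ) g) =
        ∑ g : G, conj ((ρ : G → ℂ) g) * (Nat.card (fixedBy Ω g) : ℂ) :=
      Finset.sum_congr rfl fun g _ => mul_comm _ _
    rw [h2, sum_mul_fixedBy a (fun g => conj ((ρ : G → ℂ) g))
      (fun g t => by simp only [hρcf g t]), ← card_mul_card_filter (H := G) a] at h1
    have hΩ : (Fintype.card Ω : ℂ) ≠ 0 := by
      have : 0 < Fintype.card Ω := Fintype.card_pos_iff.mpr ⟨a⟩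
      exact_mod_cast this.ne'
    have h3 := mul_left_cancel₀ hΩ h1
    rw [← hsub, hcardH]
    have h4 := congrArg conj h3
    rw [map_sum] at h4
    simp only [Complex.conj_conj, Complex.conj_natCast] at h4
    exact h4
  -- apply the core
  let x₀ : orbit (stabilizer G a) b := ⟨b, mem_orbit_self b⟩
  have hfilt : (Finset.univ.filter (fun h : stabilizer G a => h • x₀ = x₀)).map
      (Function.Embedding.subtype _) =
      Finset.univ.filter (fun g : G => g • a = a ∧ g • b = b) := by
    ext g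
    simp only [Finset.mem_map, Finset.mem_filter, Finset.mem_univ, true_and,
      Function.Embedding.coe_subtype]
    constructor
    · rintro ⟨h, hh, rfl⟩
      refine ⟨h.2, ?_⟩
      have := congrArg Subtype.val hh
      exact this
    · rintro ⟨ha, hb⟩
      refine ⟨⟨g, ha⟩, ?_, rfl⟩
      apply Subtype.ext
      exact hb
  have hB : ∑ h ∈ Finset.univ.filter (fun h : stabilizer G a => h • x₀ = x₀),
        (ρ : G → ℂ) h =
      (m : ℂ) * ((Finset.univ.filter (fun h : stabilizer G a => h • x₀ = x₀)).card : ℂ) := by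
    have h1 := Finset.sum_map (Finset.univ.filter (fun h : stabilizer G a => h • x₀ = x₀))
      (Function.Embedding.subtype _) (ρ : G → ℂ)
    simp only [Function.Embedding.coe_subtype] at h1
    rw [← h1, hfilt, hsum, ← hfilt, Finset.card_map]
  have hC : ((Fintype.card (orbit (stabilizer G a) b) : ℕ) : ℝ) <
      (((ρ : G → ℂ) ((1 : stabilizer G a) : G))).re := by
    rw [← Nat.card_eq_fintype_card, Subgroup.coe_one]
    unfold charDegree at hk
    have h1 : Nat.card (orbit (stabilizer G a) b) + 1 ≤ ⌊(((ρ : G → ℂ) 1)).re⌋₊ := hk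
    rw [Nat.le_floor_iff' (Nat.succ_ne_zero _)] at h1
    push_cast at h1
    linarith
  obtain ⟨c, hc, hcsum⟩ := core x₀ (fun h : stabilizer G a => (ρ : G → ℂ) h)
    (isCharacter_restrict _ (isCharacter_of_isIrrCharacter ρ.2)) hA m hm hB hC
  refine ⟨c, hc, ?_⟩
  rw [hsub, hcsum, hcardH]

end Cfsg.Agent.Lib.Helper58_S4707_E2
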