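import Mathlib
import Cfsg.Prelude.Def_Classical
import Cfsg.Prelude.Def_GeometricClasses
import Cfsg.Agent.Lib.Helper58_S5982Defs
import Cfsg.Agent.Lib.Helper40_UClasses
import Cfsg.Agent.Lib.Helper40_UExistMatrix
import Cfsg.Agent.Lib.Helper40_ScalePoly
import Cfsg.Agent.Lib.Helper40_SemisimpleCentralizer
import Cfsg.Agent.Lib.Helper40_PrimeOrderClasses
import Cfsg.Agent.Lib.Helper40_ProjClasses
import Cfsg.Agent.Lib.Helper94_HermBridge

/-!
# S5982 (helper58): the criterion

A semisimple `x ∈ SL_n(q₀²)` is `SL`-conjugate into the similarity group of the standard hermitian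
form iff some scaling of its characteristic polynomial is self-dual; admissible polynomials are
exactly the characteristic polynomials of the elements in question.
-/

set_option autoImplicit false
set_option linter.unusedVariables false
set_option linter.unusedSectionVars false
open scoped MatrixGroups

namespace Cfsg.Agent.Lib.Helper58_S5982_Crit

open Polynomial Module Matrix Cfsg.Agent.Lib.Helper58_S5982Defs Cfsg.Agent.Lib.Helper40_UExist
  Cfsg.Agent.Lib.Helper94_Herm Cfsg.Agent.Lib.Helper94_HermBridge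
  Cfsg.Agent.Lib.Helper40_SemisimpleGL

universe v

variable {F : Type v} [Field F] [Fintype F] {q₀ : ℕ} {n : ℕ}

theorem mem_sim_iff (f : (Fin n → F) → (Fin n → F) → F) (g : GL (Fin n) F) :
    g ∈ Cfsg.Geo.similarityGroup f ↔ ∃ c : Fˣ, ∀ u v,
      f ((g : Matrix (Fin n) (Fin n) F) *ᵥ u) ((g : Matrix (Fin n) (Fin n) F) *ᵥ v) = (c : F) * f u v :=
  Iff.rfl

theorem mem_sl_iff (g : GL (Fin n) F) :
    g ∈ Cfsg.Geo.specialLinear (Fin n) F ↔ (g : Matrix (Fin n) (Fin n) F).det = 1 := by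
  unfold Cfsg.Geo.specialLinear
  rw [MonoidHom.mem_ker, Units.ext_iff]
  rfl

section scal

variable (σ : F →+* F) (hσq : ∀ x, σ x = x ^ q₀)

include hσq in
theorem herm_smul_smul (a b : F) (u v : Fin n → F) :
    Cfsg.hermForm n F q₀ (a • u) (b • v) = a * σ b * Cfsg.hermForm n F q₀ u v := by
  rw [← hermB_apply σ hσq, LinearMap.map_smul₂, LinearMap.map_smulₛₗ, smul_eq_mul, smul_eq_mul, hermB_apply,
    mul_assoc]

include hσq in
/-- a scalar multiple of a similarity is an isometry -/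
theorem exists_scalar_isometry (hσ : Invol σ) (hn : 0 < n) (A : Matrix (Fin n) (Fin n) F) (c : F)
    (hc : c ≠ 0)
    (h : ∀ u v, Cfsg.hermForm n F q₀ (A *ᵥ u) (A *ᵥ v) = c * Cfsg.hermForm n F q₀ u v) :
    ∃ μ : F, μ ≠ 0 ∧ ∀ u v, Cfsg.hermForm n F q₀ ((μ • A) *ᵥ u) ((μ • A) *ᵥ v) =
      Cfsg.hermForm n F q₀ u v := by
  classical
  set e : Fin n → F := Pi.single ⟨0, hn⟩ 1 with he
  have hee : Cfsg.hermForm n F q₀ e e = 1 := by
    unfold Cfsg.hermForm
    rw [Finset.sum_eq_single ⟨0, hn⟩]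
    · simp [he]
    · intro j _ hj
      simp [he, hj]
    · intro h0
      exact absurd (Finset.mem_univ _) h0
  have hce : c = Cfsg.hermForm n F q₀ (A *ᵥ e) (A *ᵥ e) := by
    rw [h e e, hee, mul_one]
  have hσc : σ c = c := by
    rw [hce, ← hermB_apply σ hσq]
    exact (hermB_isHerm σ hσq hσ _ _).symm
  obtain ⟨l, hl⟩ := norm_surj hσ c hσc
  have hl0 : l ≠ 0 := by
    rintro rfl
    rw [zero_mul] at hl
    exact hc hl.symm
  have hσl0 : σ l ≠ 0 := (map_ne_zero σ).2 hl0
  refine ⟨l⁻¹, inv_ne_zero hl0, fun u v => ?_⟩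
  rw [Matrix.smul_mulVec, Matrix.smul_mulVec, herm_smul_smul σ hσq, h, map_inv₀, ← hl]
  field_simp

end scal

section crit

variable (σ : F →+* F) (hσq : ∀ x, σ x = x ^ q₀)

include hσq in
/-- necessity of scaled self-duality -/
theorem ssd_of_conjInto (hK : Fintype.card F = q₀ ^ 2) (hσ : Invol σ) (hn : 0 < n)
    (x : GL (Fin n) F) (h : ConjInto n q₀ x) :
    SSD σ (x : Matrix (Fin n) (Fin n) F).charpoly := by
  obtain ⟨g, -, hg⟩ := h
  rw [mem_sim_iff] at hg
  obtain ⟨c, hc⟩ := hg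
  obtain ⟨A, hA⟩ : ∃ A : Matrix (Fin n) (Fin n) F,
      A = ((g⁻¹ * x * g : GL (Fin n) F) : Matrix (Fin n) (Fin n) F) := ⟨_, rfl⟩
  rw [← hA] at hc
  obtain ⟨μ, hμ, hiso⟩ := exists_scalar_isometry σ hσq hσ hn A (c : F) c.ne_zero hc
  have h1 := Helper40_UClasses.udual_charpoly_of_isU σ hσq hK hσ (μ • A) hiso
  have h2 : A.charpoly = (x : Matrix (Fin n) (Fin n) F).charpoly := by
    rw [hA, Units.val_mul, Matrix.charpoly_mul_comm, ← Units.val_mul, mul_inv_cancel_left]
  refine ⟨μ, hμ, ?_⟩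
  rw [← h2, ← Helper40_ScalePoly.charpoly_smul μ hμ A]
  exact h1

theorem isSS_smul (a : F) (ha : a ≠ 0) (A : Matrix (Fin n) (Fin n) F) (hA : IsSS A) :
    IsSS (a • A) := by
  unfold IsSS at hA ⊢
  rw [map_smul]
  rw [Module.End.isSemisimple_iff] at hA ⊢
  intro p hp
  have hp' : p ∈ Module.End.invtSubmodule (Matrix.toLin' A) := by
    rw [Module.End.mem_invtSubmodule] at hp ⊢
    intro v hv
    have h1 := hp hv
    rw [Submodule.mem_comap, LinearMap.smul_apply] at h1
    have h2 := p.smul_mem a⁻¹ h1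
    rw [smul_smul, inv_mul_cancel₀ ha, one_smul] at h2
    exact h2
  obtain ⟨q, hq, hpq⟩ := hA p hp'
  refine ⟨q, ?_, hpq⟩
  rw [Module.End.mem_invtSubmodule] at hq ⊢
  intro v hv
  rw [Submodule.mem_comap, LinearMap.smul_apply]
  exact q.smul_mem a (hq hv)

include hσq in
/-- sufficiency of scaled self-duality for semisimple elements -/
theorem conjInto_of_ssd (hK : Fintype.card F = q₀ ^ 2) (hσ : Invol σ) (hn : 0 < n)
    (x : GL (Fin n) F) (hx : (x : Matrix (Fin n) (Fin n) F).det = 1)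
    (hss : IsSS (x : Matrix (Fin n) (Fin n) F))
    (h : SSD σ (x : Matrix (Fin n) (Fin n) F).charpoly) : ConjInto n q₀ x := by
  classical
  obtain ⟨μ, hμ, hd⟩ := h
  set c : F[X] := (x : Matrix (Fin n) (Fin n) F).charpoly with hc
  have hcm : c.Monic := Matrix.charpoly_monic _
  have hcd : c.natDegree = n := by
    rw [hc, Matrix.charpoly_natDegree_eq_dim, Fintype.card_fin]
  set c' := c.scaleRoots μ with hc'
  have hc'm : c'.Monic := (monic_scaleRoots_iff μ).2 hcm
  have hc'd : c'.natDegree = n := by rw [hc', natDegree_scaleRoots, hcd]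
  obtain ⟨A0, hA0iso, hA0c, hA0k⟩ :=
    Helper40_UExistMatrix.exists_GU_matrix σ hσq hσ n c' hc'm hc'd hd
  have hA0ss : IsSS A0 := by
    apply isSS_of_squarefree_aeval_eq_zero _ (UniqueFactorizationMonoid.radical c')
      UniqueFactorizationMonoid.squarefree_radical
    exact hA0k _ (fun g hg hgc =>
      (UniqueFactorizationMonoid.dvd_radical_iff_of_irreducible hg hc'm.ne_zero).2 hgc)
  set Y : Matrix (Fin n) (Fin n) F := μ⁻¹ • A0 with hY
  have hYc : Y.charpoly = c := by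
    rw [hY, Helper40_ScalePoly.charpoly_smul μ⁻¹ (inv_ne_zero hμ), hA0c, hc', ← scaleRoots_mul,
      mul_inv_cancel₀ hμ, scaleRoots_one]
  have hYss : IsSS Y := isSS_smul _ (inv_ne_zero hμ) _ hA0ss
  have hYdet : Y.det = 1 := by
    rw [Helper40_SemisimpleExist.det_of_charpoly, hYc, hc,
      ← Helper40_SemisimpleExist.det_of_charpoly, hx]
  set X' : Matrix.SpecialLinearGroup (Fin n) F := ⟨(x : Matrix (Fin n) (Fin n) F), hx⟩ with hX'
  set Y' : Matrix.SpecialLinearGroup (Fin n) F := ⟨Y, hYdet⟩ with hY'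
  have hconj : IsConj X' Y' :=
    Helper40_SemisimpleCentralizer.sl_isConj_of_charpoly_eq X' Y' hss hYss hYc.symm
  obtain ⟨s, hs⟩ := isConj_iff.1 hconj
  refine ⟨Matrix.SpecialLinearGroup.toGL s⁻¹, ?_, ?_⟩
  · rw [mem_sl_iff]
    exact (s⁻¹).2
  · have hmat : ((((Matrix.SpecialLinearGroup.toGL s⁻¹)⁻¹ * x * Matrix.SpecialLinearGroup.toGL s⁻¹ :
        GL (Fin n) F)) : Matrix (Fin n) (Fin n) F) = Y := by
      have h1 : (Matrix.SpecialLinearGroup.toGL s⁻¹ : GL (Fin n) F)⁻¹ =
          Matrix.SpecialLinearGroup.toGL s := by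
        rw [← map_inv, inv_inv]
      rw [h1, Units.val_mul, Units.val_mul, Matrix.SpecialLinearGroup.coe_GL_coe_matrix,
        Matrix.SpecialLinearGroup.coe_GL_coe_matrix]
      have h2 : (s : Matrix (Fin n) (Fin n) F) * (X' : Matrix (Fin n) (Fin n) F) *
          ((s⁻¹ : Matrix.SpecialLinearGroup (Fin n) F) : Matrix (Fin n) (Fin n) F) =
          (Y' : Matrix (Fin n) (Fin n) F) := by
        rw [← Matrix.SpecialLinearGroup.coe_mul, ← Matrix.SpecialLinearGroup.coe_mul, hs]
      exact h2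
    rw [mem_sim_iff, hmat]
    have hu : μ⁻¹ * σ μ⁻¹ ≠ 0 := mul_ne_zero (inv_ne_zero hμ) ((map_ne_zero σ).2 (inv_ne_zero hμ))
    refine ⟨Units.mk0 _ hu, fun u v => ?_⟩
    rw [hY, Matrix.smul_mulVec, Matrix.smul_mulVec, herm_smul_smul σ hσq, hA0iso, Units.val_mk0]

end crit

section adm

variable {r : ℕ}

/-- a semisimple matrix with characteristic polynomial `(X - a) ^ n` is the scalar `a` -/
theorem eq_smul_one_of_isSS (A : Matrix (Fin n) (Fin n) F) (hA : IsSS A) (a : F)
    (h : A.charpoly = (X - C a) ^ n) : A = a • (1 : Matrix (Fin n) (Fin n) F) := by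
  unfold IsSS at hA
  set u : Module.End F (Fin n → F) := Matrix.toLin' A with hu
  have h1 : (u - algebraMap F _ a) ^ n = 0 := by
    have h2 : aeval u (((X : F[X]) - C a) ^ n) = (u - algebraMap F _ a) ^ n := by
      rw [map_pow, map_sub, aeval_X, aeval_C]
    rw [← h2, ← h, aeval_toLin', Matrix.aeval_self_charpoly, map_zero]
  have hnil : IsNilpotent (u - algebraMap F _ a) := ⟨n, h1⟩
  have hss : (u - algebraMap F _ a).IsSemisimple :=
    (Module.End.isSemisimple_sub_algebraMap_iff (f := u) (μ := a)).2 hA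
  have h0 : u - algebraMap F _ a = 0 := Module.End.eq_zero_of_isNilpotent_isSemisimple hnil hss
  have h4 : Matrix.toLin' A = Matrix.toLin' (a • (1 : Matrix (Fin n) (Fin n) F)) := by
    rw [map_smul, Matrix.toLin'_one]
    rw [sub_eq_zero] at h0
    rw [← hu, h0]
    rfl
  exact Matrix.toLin'.injective h4

theorem aeval_X_pow_sub_C (A : Matrix (Fin n) (Fin n) F) (z : F) :
    aeval A ((X : F[X]) ^ r - C z) = A ^ r - z • (1 : Matrix (Fin n) (Fin n) F) := by
  rw [map_sub, map_pow, aeval_X, aeval_C, Algebra.algebraMap_eq_smul_one]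

/-- the characteristic polynomial of a non-scalar element of `SL_n` with scalar `r`-th power,
`r` invertible in `F`, is admissible, and the element is semisimple -/
theorem adm_charpoly (hn : 0 < n) (hrF : (r : F) ≠ 0) (x : GL (Fin n) F)
    (hx : (x : Matrix (Fin n) (Fin n) F).det = 1) (z : F)
    (hxz : ((x ^ r : GL (Fin n) F) : Matrix (Fin n) (Fin n) F) = z • (1 : Matrix (Fin n) (Fin n) F))
    (hns : ∀ a : F, (x : Matrix (Fin n) (Fin n) F) ≠ a • (1 : Matrix (Fin n) (Fin n) F)) :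
    Adm n r (x : Matrix (Fin n) (Fin n) F).charpoly ∧ IsSS (x : Matrix (Fin n) (Fin n) F) := by
  classical
  set A : Matrix (Fin n) (Fin n) F := (x : Matrix (Fin n) (Fin n) F) with hA
  have hAr : A ^ r = z • (1 : Matrix (Fin n) (Fin n) F) := by
    rw [← hxz, Units.val_pow_eq_pow_val]
  have hz : z ≠ 0 := by
    rintro rfl
    rw [zero_smul] at hAr
    have : Nonempty (Fin n) := ⟨⟨0, hn⟩⟩
    have h1 : (A ^ r).det = 0 := by
      rw [hAr, Matrix.det_zero]
    rw [Matrix.det_pow, hx, one_pow] at h1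
    exact one_ne_zero h1
  have hkill : aeval A ((X : F[X]) ^ r - C z) = 0 := by
    rw [aeval_X_pow_sub_C, hAr, sub_self]
  have hss : IsSS A :=
    isSS_of_squarefree_aeval_eq_zero A _ (separable_X_pow_sub_C z hrF hz).squarefree hkill
  refine ⟨⟨Matrix.charpoly_monic _, ?_, ?_, ⟨z, hz, fun g hg hgd => ?_⟩, fun a ha => ?_⟩, hss⟩
  · rw [Matrix.charpoly_natDegree_eq_dim, Fintype.card_fin]
  · have h1 := Helper40_SemisimpleExist.det_of_charpoly n A
    rw [hx] at h1
    have h2 : ((-1 : F) ^ n) * ((-1) ^ n * A.charpoly.coeff 0) = (-1) ^ n * 1 := by rw [← h1]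
    rw [← mul_assoc, ← mul_pow, neg_mul_neg, one_mul, one_pow, one_mul, mul_one] at h2
    exact h2
  · exact Helper40_PrimeOrderClasses.dvd_of_irreducible_of_dvd_charpoly A _ hkill g hg hgd
  · exact hns a (eq_smul_one_of_isSS A hss a ha)

/-- every admissible polynomial is the characteristic polynomial of a semisimple non-scalar element
of `SL_n` with scalar `r`-th power -/
theorem exists_of_adm (hn : 0 < n) (c : F[X]) (hc : Adm n r c) :
    ∃ x : GL (Fin n) F, (x : Matrix (Fin n) (Fin n) F).det = 1 ∧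
      (∃ z : F, ((x ^ r : GL (Fin n) F) : Matrix (Fin n) (Fin n) F) =
        z • (1 : Matrix (Fin n) (Fin n) F)) ∧
      (∀ a : F, (x : Matrix (Fin n) (Fin n) F) ≠ a • (1 : Matrix (Fin n) (Fin n) F)) ∧
      IsSS (x : Matrix (Fin n) (Fin n) F) ∧ (x : Matrix (Fin n) (Fin n) F).charpoly = c := by
  classical
  obtain ⟨A, hAc, hAss, hAk⟩ :=
    Helper40_PrimeOrderClasses.exists_matrix_of_monic' n c hc.monic hc.deg
  obtain ⟨z, hz, hfac⟩ := hc.fac
  have hdet : A.det = 1 := by
    rw [Helper40_SemisimpleExist.det_of_charpoly, hAc, hc.det, ← mul_pow, neg_mul_neg, one_mul,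
      one_pow]
  have hkill : aeval A ((X : F[X]) ^ r - C z) = 0 := hAk _ hfac
  rw [aeval_X_pow_sub_C, sub_eq_zero] at hkill
  have hdet0 : A.det ≠ 0 := by rw [hdet]; exact one_ne_zero
  refine ⟨Matrix.GeneralLinearGroup.mkOfDetNeZero A hdet0, hdet, ⟨z, ?_⟩, fun a ha => ?_, hAss, hAc⟩
  · rw [Units.val_pow_eq_pow_val]
    exact hkill
  · have h1 : A = a • (1 : Matrix (Fin n) (Fin n) F) := ha
    apply hc.ns a
    rw [← hAc, h1, Helper40_ProjClasses.charpoly_smul_one]

end adm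

end Cfsg.Agent.Lib.Helper58_S5982_Crit
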