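import Mathlib
import Cfsg.Prelude.Def_Classical
import Cfsg.Prelude.Def_GeometricClasses
import Cfsg.Agent.Lib.Helper58_S5982Defs
import Cfsg.Agent.Lib.Helper58_S5982_Crit

/-!
# S5982 (helper58): transfer to an arbitrary unitary form, reduction to polynomials, arithmetic
-/

set_option autoImplicit false
set_option linter.unusedVariables false
set_option linter.unusedSectionVars false
open scoped MatrixGroups

namespace Cfsg.Agent.Lib.Helper58_S5982_Asm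

open Polynomial Module Matrix Cfsg.Agent.Lib.Helper58_S5982Defs Cfsg.Agent.Lib.Helper40_UExist
  Cfsg.Agent.Lib.Helper94_Herm Cfsg.Agent.Lib.Helper94_HermBridge
  Cfsg.Agent.Lib.Helper40_SemisimpleGL Cfsg.Agent.Lib.Helper58_S5982_Crit

universe v

variable {F : Type v} [Field F] [Fintype F] {q₀ : ℕ} {n : ℕ}

/-- candidates: non-scalar elements of `SL_n` with scalar `r`-th power -/
def IsCand (r : ℕ) (x : GL (Fin n) F) : Prop :=
  x ∈ Cfsg.Geo.specialLinear (Fin n) F ∧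
    (∃ z : F, ((x ^ r : GL (Fin n) F) : Matrix (Fin n) (Fin n) F) =
      z • (1 : Matrix (Fin n) (Fin n) F)) ∧
    (∀ z : F, (x : Matrix (Fin n) (Fin n) F) ≠ z • (1 : Matrix (Fin n) (Fin n) F))

theorem sl_conj (P x : GL (Fin n) F) (hx : x ∈ Cfsg.Geo.specialLinear (Fin n) F) :
    P * x * P⁻¹ ∈ Cfsg.Geo.specialLinear (Fin n) F := by
  unfold Cfsg.Geo.specialLinear at hx ⊢
  rw [MonoidHom.mem_ker] at hx ⊢
  rw [map_mul, map_mul, hx, mul_one, map_inv, mul_inv_cancel]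

theorem conj_smul_one (P : GL (Fin n) F) (a : F) :
    (P : Matrix (Fin n) (Fin n) F) * (a • (1 : Matrix (Fin n) (Fin n) F)) *
      ((P⁻¹ : GL (Fin n) F) : Matrix (Fin n) (Fin n) F) = a • (1 : Matrix (Fin n) (Fin n) F) := by
  rw [Matrix.mul_smul, Matrix.mul_one, Matrix.smul_mul, ← Units.val_mul, mul_inv_cancel,
    Units.val_one]

theorem isCand_conj (r : ℕ) (P x : GL (Fin n) F) (hx : IsCand r x) : IsCand r (P * x * P⁻¹) := by
  obtain ⟨h1, ⟨z, hz⟩, h3⟩ := hx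
  refine ⟨sl_conj P x h1, ⟨z, ?_⟩, fun a ha => ?_⟩
  · rw [conj_pow, Units.val_mul, Units.val_mul, hz, conj_smul_one]
  · apply h3 a
    have h4 : x = P⁻¹ * (P * x * P⁻¹) * (P⁻¹)⁻¹ := by group
    rw [h4, Units.val_mul, Units.val_mul, ha, conj_smul_one]

section transfer

variable (f : (Fin n → F) → (Fin n → F) → F) (P : GL (Fin n) F)
  (hP : ∀ u v, f ((P : Matrix (Fin n) (Fin n) F) *ᵥ u) ((P : Matrix (Fin n) (Fin n) F) *ᵥ v) =
    Cfsg.hermForm n F q₀ u v)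

include hP in
theorem mem_sim_conj (g : GL (Fin n) F) :
    g ∈ Cfsg.Geo.similarityGroup f ↔
      P⁻¹ * g * P ∈ Cfsg.Geo.similarityGroup (Cfsg.hermForm n F q₀) := by
  rw [mem_sim_iff, mem_sim_iff]
  have key : ∀ w, (P : Matrix (Fin n) (Fin n) F) *ᵥ
      (((P⁻¹ * g * P : GL (Fin n) F) : Matrix (Fin n) (Fin n) F) *ᵥ w) =
      (g : Matrix (Fin n) (Fin n) F) *ᵥ ((P : Matrix (Fin n) (Fin n) F) *ᵥ w) := by
    intro w
    rw [Matrix.mulVec_mulVec, Matrix.mulVec_mulVec, ← Units.val_mul, ← Units.val_mul]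
    congr 2
    group
  constructor
  · rintro ⟨c, hc⟩
    refine ⟨c, fun u v => ?_⟩
    rw [← hP, ← hP, key, key, hc]
  · rintro ⟨c, hc⟩
    refine ⟨c, fun u v => ?_⟩
    have hu : ∀ w : Fin n → F, (P : Matrix (Fin n) (Fin n) F) *ᵥ
        (((P⁻¹ : GL (Fin n) F) : Matrix (Fin n) (Fin n) F) *ᵥ w) = w := by
      intro w
      rw [Matrix.mulVec_mulVec, ← Units.val_mul, mul_inv_cancel, Units.val_one, Matrix.one_mulVec]
    obtain ⟨u', hu'⟩ : ∃ u', (P : Matrix (Fin n) (Fin n) F) *ᵥ u' = u := ⟨_, hu u⟩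
    obtain ⟨v', hv'⟩ : ∃ v', (P : Matrix (Fin n) (Fin n) F) *ᵥ v' = v := ⟨_, hu v⟩
    rw [← hu', ← hv', ← key, ← key, hP, hP, hc]

include hP in
/-- the left hand side of S5982 for `f` in terms of the standard form -/
theorem lhs_iff (r : ℕ) :
    (∀ x ∈ Cfsg.Geo.specialLinear (Fin n) F,
      (∃ z : F, ((x ^ r : GL (Fin n) F) : Matrix (Fin n) (Fin n) F) =
        z • (1 : Matrix (Fin n) (Fin n) F)) →
      (∀ z : F, (x : Matrix (Fin n) (Fin n) F) ≠ z • (1 : Matrix (Fin n) (Fin n) F)) →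
      ∃ g ∈ Cfsg.Geo.specialLinear (Fin n) F, g⁻¹ * x * g ∈ Cfsg.Geo.similarityGroup f) ↔
    (∀ x : GL (Fin n) F, IsCand r x → ConjInto n q₀ x) := by
  constructor
  · intro H x hx
    obtain ⟨h1, h2, h3⟩ := isCand_conj r P x hx
    obtain ⟨g, hg, hgs⟩ := H _ h1 h2 h3
    rw [mem_sim_conj f P hP] at hgs
    refine ⟨P⁻¹ * g * (P⁻¹)⁻¹, sl_conj P⁻¹ g hg, ?_⟩
    have h4 : (P⁻¹ * g * (P⁻¹)⁻¹)⁻¹ * x * (P⁻¹ * g * (P⁻¹)⁻¹) =
        P⁻¹ * (g⁻¹ * (P * x * P⁻¹) * g) * P := by group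
    rw [h4]
    exact hgs
  · intro H x h1 h2 h3
    have hx : IsCand r x := ⟨h1, h2, h3⟩
    obtain ⟨g, hg, hgs⟩ := H _ (isCand_conj r P⁻¹ x hx)
    refine ⟨P * g * P⁻¹, sl_conj P g hg, ?_⟩
    rw [mem_sim_conj f P hP]
    have h4 : P⁻¹ * ((P * g * P⁻¹)⁻¹ * x * (P * g * P⁻¹)) * P =
        g⁻¹ * (P⁻¹ * x * (P⁻¹)⁻¹) * g := by group
    rw [h4]
    exact hgs

include hP in
theorem relIndex_eq :
    (Cfsg.Geo.similarityGroup f).relIndex (Cfsg.Geo.specialLinear (Fin n) F) =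
      (Cfsg.Geo.similarityGroup (Cfsg.hermForm n F q₀)).relIndex
        (Cfsg.Geo.specialLinear (Fin n) F) := by
  set φ : GL (Fin n) F →* GL (Fin n) F := (MulAut.conj P).toMonoidHom with hφ
  have hφa : ∀ g, φ g = P * g * P⁻¹ := fun g => rfl
  have h1 : (Cfsg.Geo.similarityGroup f).comap φ =
      Cfsg.Geo.similarityGroup (Cfsg.hermForm n F q₀) := by
    ext g
    rw [Subgroup.mem_comap, hφa, mem_sim_conj f P hP]
    have : P⁻¹ * (P * g * P⁻¹) * P = g := by group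
    rw [this]
  have h2 : (Cfsg.Geo.specialLinear (Fin n) F).map φ = Cfsg.Geo.specialLinear (Fin n) F := by
    ext y
    rw [Subgroup.mem_map]
    constructor
    · rintro ⟨x, hx, rfl⟩
      rw [hφa]
      exact sl_conj P x hx
    · intro hy
      refine ⟨P⁻¹ * y * (P⁻¹)⁻¹, sl_conj P⁻¹ y hy, ?_⟩
      rw [hφa]
      group
  rw [← h1, Subgroup.relIndex_comap, h2]

end transfer

section red

variable (σ : F →+* F) (hσq : ∀ x, σ x = x ^ q₀)

include hσq in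
/-- reduction of the left hand side to polynomials -/
theorem cand_iff (hK : Fintype.card F = q₀ ^ 2) (hσ : Invol σ) (hn : 0 < n) (r : ℕ)
    (hrF : (r : F) ≠ 0) :
    (∀ x : GL (Fin n) F, IsCand r x → ConjInto n q₀ x) ↔ ∀ c : F[X], Adm n r c → SSD σ c := by
  constructor
  · intro H c hc
    obtain ⟨x, hx1, hx2, hx3, -, hxc⟩ := exists_of_adm hn c hc
    have h1 := H x ⟨(mem_sl_iff x).2 hx1, hx2, hx3⟩
    have h2 := ssd_of_conjInto σ hσq hK hσ hn x h1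
    rwa [hxc] at h2
  · rintro H x ⟨h1, ⟨z, hz⟩, h3⟩
    have hdet := (mem_sl_iff x).1 h1
    obtain ⟨hadm, hss⟩ := adm_charpoly hn hrF x hdet z hz h3
    exact conjInto_of_ssd σ hσq hK hσ hn x hdet hss (H _ hadm)

end red

section arith

/-- the arithmetic consequence of `r` dividing the index bound -/
theorem exists_j_of_dvd (r : ℕ) (hr : r.Prime) (hrq : ¬ r ∣ q₀) (hq1 : 1 ≤ q₀)
    (h : r ∣ q₀ ^ (n * (n - 1) / 2) *
      ∏ j ∈ Finset.Icc 2 n, (if Even j then q₀ ^ j + 1 else q₀ ^ j - 1)) :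
    ∃ j, 2 ≤ j ∧ j ≤ n ∧ ((Even j ∧ ((q₀ : ℕ) : ZMod r) ^ j = -1) ∨
      (¬ Even j ∧ ((q₀ : ℕ) : ZMod r) ^ j = 1)) := by
  rcases (Nat.Prime.dvd_mul hr).1 h with h1 | h1
  · exact absurd (hr.dvd_of_dvd_pow h1) hrq
  · obtain ⟨j, hj, hjd⟩ := (Prime.dvd_finsetProd_iff hr.prime _).1 h1
    rw [Finset.mem_Icc] at hj
    refine ⟨j, hj.1, hj.2, ?_⟩
    by_cases he : Even j
    · left
      rw [if_pos he] at hjd
      refine ⟨he, ?_⟩
      have h2 : ((q₀ ^ j + 1 : ℕ) : ZMod r) = 0 := (ZMod.natCast_eq_zero_iff _ _).2 hjd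
      rw [Nat.cast_add, Nat.cast_pow, Nat.cast_one] at h2
      exact eq_neg_of_add_eq_zero_left h2
    · right
      rw [if_neg he] at hjd
      refine ⟨he, ?_⟩
      have h2 : ((q₀ ^ j - 1 : ℕ) : ZMod r) = 0 := (ZMod.natCast_eq_zero_iff _ _).2 hjd
      rw [Nat.cast_sub (Nat.one_le_pow _ _ hq1), Nat.cast_pow, Nat.cast_one] at h2
      exact sub_eq_zero.1 h2

/-- `ord_r(q₀²) ≤ n` -/
theorem orderOf_sq_le (r : ℕ) (a : ZMod r) (j : ℕ) (hj2 : 2 ≤ j) (hjn : j ≤ n)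
    (h : (Even j ∧ a ^ j = -1) ∨ (¬ Even j ∧ a ^ j = 1)) : orderOf (a ^ 2) ≤ n := by
  have h1 : (a ^ 2) ^ j = 1 := by
    rw [← pow_mul, mul_comm, pow_mul]
    rcases h with ⟨-, h⟩ | ⟨-, h⟩
    · rw [h, neg_one_sq]
    · rw [h, one_pow]
  exact (Nat.le_of_dvd (by omega) (orderOf_dvd_of_pow_eq_one h1)).trans hjn

/-- `ord_r(q₀) ≡ 2 (mod 4)` is impossible -/
theorem mod4_ne_two (r : ℕ) [Fact r.Prime] (hr2 : r ≠ 2) (a : ZMod r) (j : ℕ)
    (h : (Even j ∧ a ^ j = -1) ∨ (¬ Even j ∧ a ^ j = 1)) : orderOf a % 4 ≠ 2 := by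
  intro h4
  have hne : (-1 : ZMod r) ≠ 1 := by
    intro h1
    have h2 : (2 : ZMod r) = 0 := by
      have : (1 : ZMod r) + 1 = 0 := by
        nth_rewrite 1 [← h1]
        exact neg_add_cancel 1
      rw [← this]
      norm_num
    have h3 : ((2 : ℕ) : ZMod r) = 0 := by exact_mod_cast h2
    rw [ZMod.natCast_eq_zero_iff] at h3
    have hr : r.Prime := Fact.out
    exact hr2 ((Nat.prime_dvd_prime_iff_eq hr Nat.prime_two).1 h3)
  obtain ⟨u, hu⟩ : ∃ u, orderOf a = 2 * u ∧ ¬ Even u := by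
    refine ⟨orderOf a / 2, by omega, ?_⟩
    rw [Nat.even_iff]
    omega
  obtain ⟨hu1, hu2⟩ := hu
  rcases h with ⟨hje, hj⟩ | ⟨hjo, hj⟩
  · -- `a ^ u = -1`
    have hau2 : (a ^ u) ^ 2 = 1 := by rw [← pow_mul, mul_comm, ← hu1, pow_orderOf_eq_one]
    have hau1 : a ^ u ≠ 1 := by
      intro h1
      have := orderOf_dvd_of_pow_eq_one h1
      rw [hu1] at this
      have hu0 : 0 < u := by
        rcases Nat.eq_zero_or_pos u with h0 | h0
        · exfalso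
          apply hu2
          rw [h0]
          exact ⟨0, rfl⟩
        · exact h0
      have := Nat.le_of_dvd hu0 this
      omega
    have hau : a ^ u = -1 := by
      rcases sq_eq_one_iff.1 hau2 with h1 | h1
      · exact absurd h1 hau1
      · exact h1
    have h2 : a ^ (2 * j) = 1 := by rw [mul_comm, pow_mul, hj, neg_one_sq]
    have h3 : 2 * u ∣ 2 * j := hu1 ▸ orderOf_dvd_of_pow_eq_one h2
    obtain ⟨t, ht⟩ : u ∣ j := Nat.dvd_of_mul_dvd_mul_left (by norm_num) h3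
    rw [ht, pow_mul, hau] at hj
    have hto : ¬ Even t := by
      intro hte
      rw [hte.neg_one_pow] at hj
      exact hne hj.symm
    apply hto
    rw [ht] at hje
    rcases (Nat.even_mul.1 hje) with h5 | h5
    · exact absurd h5 hu2
    · exact h5
  · have h2 := orderOf_dvd_of_pow_eq_one hj
    rw [hu1] at h2
    exact hjo ((even_two_mul u).trans_dvd h2 |>.elim (fun k hk => ⟨k, hk⟩))

end arith

section roots

theorem card_units_eq (hK : Fintype.card F = q₀ ^ 2) (hq1 : 1 ≤ q₀) :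
    Nat.card Fˣ = (q₀ - 1) * (q₀ + 1) := by
  rw [Nat.card_units, Nat.card_eq_fintype_card, hK]
  obtain ⟨k, rfl⟩ : ∃ k, q₀ = k + 1 := ⟨q₀ - 1, by omega⟩
  rw [Nat.add_sub_cancel]
  have : (k + 1) ^ 2 = k * (k + 1 + 1) + 1 := by ring
  rw [this, Nat.add_sub_cancel]

/-- an element of order `r` -/
theorem exists_root (hK : Fintype.card F = q₀ ^ 2) (hq1 : 1 ≤ q₀) (r : ℕ) [Fact r.Prime]
    (hrq : r ∣ q₀ - 1) : ∃ l : F, l ^ r = 1 ∧ l ≠ 1 := by
  have h1 : r ∣ Nat.card Fˣ := by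
    rw [card_units_eq hK hq1]
    exact Dvd.dvd.mul_right hrq _
  obtain ⟨x, hx⟩ := exists_prime_orderOf_dvd_card' r h1
  refine ⟨(x : F), ?_, ?_⟩
  · rw [← Units.val_pow_eq_pow_val, ← hx, pow_orderOf_eq_one, Units.val_one]
  · intro h
    have h2 : x = 1 := Units.ext h
    rw [h2, orderOf_one] at hx
    exact (Fact.out : r.Prime).one_lt.ne hx

/-- solving `w ^ n * l = 1` inside the group generated by `l` when `r ∤ n` -/
theorem exists_w_of_not_dvd (r : ℕ) (hr : r.Prime) (hrn : ¬ r ∣ n) (l : F) (hl : l ^ r = 1) :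
    ∃ w : F, w ^ n * l = 1 := by
  have hl0 : l ≠ 0 := by
    rintro rfl
    rw [zero_pow hr.ne_zero] at hl
    exact zero_ne_one hl
  have hcop : Nat.Coprime n r := ((Nat.Prime.coprime_iff_not_dvd hr).2 hrn).symm
  obtain ⟨s, -, hs⟩ := Nat.exists_mul_mod_eq_one_of_coprime hcop hr.one_lt
  refine ⟨(l⁻¹) ^ s, ?_⟩
  have h1 : l ^ (n * s) = l := by
    conv_lhs => rw [← Nat.div_add_mod (n * s) r, hs, pow_add, pow_mul, hl, one_pow, one_mul, pow_one]
  rw [← pow_mul, mul_comm s n, inv_pow, h1, inv_mul_cancel₀ hl0]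

/-- an element of order `r ^ 2` -/
theorem exists_w_of_sq_dvd (hK : Fintype.card F = q₀ ^ 2) (hq1 : 1 ≤ q₀) (r : ℕ) (hr : r.Prime)
    (hrq : r ^ 2 ∣ q₀ - 1) : ∃ l w : F, l ^ r = 1 ∧ l ≠ 1 ∧ w ^ r * l = 1 := by
  obtain ⟨g, hg⟩ := IsCyclic.exists_ofOrder_eq_natCard (α := Fˣ)
  rw [card_units_eq hK hq1] at hg
  obtain ⟨k, hk⟩ : r ^ 2 ∣ orderOf g := by
    rw [hg]
    exact Dvd.dvd.mul_right hrq _
  have hk0 : 0 < k := by
    rcases Nat.eq_zero_or_pos k with h0 | h0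
    · rw [h0, mul_zero] at hk
      exact absurd hk (orderOf_pos g).ne'
    · exact h0
  set w : Fˣ := g ^ k with hw
  have hwo : orderOf w = r ^ 2 := by
    rw [hw, orderOf_pow_of_dvd hk0.ne' ⟨r ^ 2, by rw [hk, mul_comm]⟩, hk,
      Nat.mul_div_cancel _ hk0]
  refine ⟨((w ^ r)⁻¹ : Fˣ), (w : F), ?_, ?_, ?_⟩
  · rw [← Units.val_pow_eq_pow_val, inv_pow, ← pow_mul, ← sq, ← hwo, pow_orderOf_eq_one, inv_one,
      Units.val_one]
  · intro h
    have h1 : (w ^ r)⁻¹ = 1 := Units.ext h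
    rw [inv_eq_one] at h1
    have h2 := orderOf_dvd_of_pow_eq_one h1
    rw [hwo] at h2
    have h3 := Nat.le_of_dvd hr.pos h2
    have : r * 2 ≤ r * r := Nat.mul_le_mul_left r hr.two_le
    nlinarith [hr.two_le]
  · rw [← Units.val_pow_eq_pow_val, ← Units.val_mul, mul_inv_cancel, Units.val_one]

end roots

end Cfsg.Agent.Lib.Helper58_S5982_Asm
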