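import Mathlib
import Cfsg.Agent.Lib.Helper66_S92LiftDefs
import Cfsg.Agent.Lib.Helper66_S92Lift2Defs
import Cfsg.Agent.Lib.Helper66_S92Rank

set_option autoImplicit false
set_option linter.unusedVariables false
set_option linter.unusedSectionVars false
set_option linter.unusedSimpArgs false

/-!
# S2092 (architect helper66): package L2_REL (helper58)

Over the field with two elements, an equivariant section `τ` on the transvections, normalised
to involutions with trivial seven-products, gives a Steinberg family of type `C` lifting `XM`.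
-/

namespace Cfsg.Agent.Lib.Helper66_S92

open Cfsg.Agent.Lib.Helper81_UceA Cfsg.Agent.Lib.Helper5_SteinbergA

section field2

variable {ι : Type*} [DecidableEq ι] [Fintype ι] {K : Type*} [Field K]

/-- the arithmetic of the field with two elements -/
structure H58F2 (K : Type*) [Field K] : Prop where
  two : (2 : K) = 0
  cases : ∀ t : K, t = 0 ∨ t = 1

theorem h58F2_of_card (hcard : Nat.card K = 2) : H58F2 K := by
  have hfin : Finite K := Nat.finite_of_card_ne_zero (by rw [hcard]; norm_num)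
  have : Fintype K := Fintype.ofFinite K
  have hR : Fintype.card K = 2 := by rw [← Nat.card_eq_fintype_card]; exact hcard
  refine ⟨?_, ?_⟩
  · have := Nat.cast_card_eq_zero K
    rw [hR] at this
    exact_mod_cast this
  · intro t
    have h := FiniteField.pow_card t
    rw [hR] at h
    have h' : t * (t - 1) = 0 := by linear_combination h
    rcases mul_eq_zero.mp h' with h0 | h1
    · exact Or.inl h0
    · exact Or.inr (sub_eq_zero.mp h1)

namespace H58F2

variable (F : H58F2 K)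
include F

theorem neg (t : K) : -t = t := by linear_combination (-t) * F.two

theorem add_self (t : K) : t + t = 0 := by linear_combination t * F.two

theorem sub (s t : K) : s - t = s + t := by linear_combination (-t) * F.two

omit [DecidableEq ι] [Fintype ι] in
theorem om (a : ι ⊕ ι) : om K a = 1 := by
  cases a
  · rw [om_inl]; exact F.neg 1
  · rw [om_inr]

omit [DecidableEq ι] [Fintype ι] in
theorem vadd_self (v : ι ⊕ ι → K) : v + v = 0 := by
  ext d
  exact F.add_self (v d)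

omit [DecidableEq ι] [Fintype ι] in
theorem vadd_cancel (v w : ι ⊕ ι → K) : v + w + w = v := by
  rw [add_assoc, F.vadd_self, add_zero]

omit [DecidableEq ι] [Fintype ι] in
theorem vneg (v : ι ⊕ ι → K) : -v = v := by
  ext d
  exact F.neg (v d)

omit [DecidableEq ι] [Fintype ι] in
theorem vsub (v w : ι ⊕ ι → K) : v - w = v + w := by
  ext d
  exact F.sub (v d) (w d)

theorem ne_zero_iff (t : K) : t ≠ 0 ↔ t = 1 := by
  constructor
  · intro h
    rcases F.cases t with h0 | h1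
    · exact absurd h0 h
    · exact h1
  · rintro rfl
    exact one_ne_zero

end H58F2

/-! ### the alternating form on basis vectors -/

omit [DecidableEq ι] in
theorem h58_Bst_add_left (v v' w : ι ⊕ ι → K) : Bst (v + v') w = Bst v w + Bst v' w := by
  unfold Bst
  rw [← Finset.sum_add_distrib]
  refine Finset.sum_congr rfl fun d _ => ?_
  simp only [Pi.add_apply]
  ring

omit [DecidableEq ι] in
theorem h58_Bst_add_right (v w w' : ι ⊕ ι → K) : Bst v (w + w') = Bst v w + Bst v w' := by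
  unfold Bst
  rw [← Finset.sum_add_distrib]
  refine Finset.sum_congr rfl fun d _ => ?_
  simp only [Pi.add_apply]
  ring

omit [DecidableEq ι] in
theorem h58_Bst_smul_left (s : K) (v w : ι ⊕ ι → K) : Bst (s • v) w = s * Bst v w := by
  unfold Bst
  rw [Finset.mul_sum]
  refine Finset.sum_congr rfl fun d _ => ?_
  simp only [Pi.smul_apply, smul_eq_mul]
  ring

omit [DecidableEq ι] in
theorem h58_Bst_smul_right (s : K) (v w : ι ⊕ ι → K) : Bst v (s • w) = s * Bst v w := by
  unfold Bst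
  rw [Finset.mul_sum]
  refine Finset.sum_congr rfl fun d _ => ?_
  simp only [Pi.smul_apply, smul_eq_mul]
  ring

theorem h58_Bst_single_right (x : ι ⊕ ι → K) (a : ι ⊕ ι) :
    Bst x (Pi.single a 1) = om K (ng a) * x (ng a) := by
  unfold Bst
  rw [Finset.sum_eq_single (ng a)]
  · simp
  · intro d _ hd
    have : ng d ≠ a := fun h => hd (by rw [← h, ng_ng])
    simp [Pi.single_apply, this]
  · intro h
    exact absurd (Finset.mem_univ _) h

theorem h58_Bst_single_single (a c : ι ⊕ ι) :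
    Bst (Pi.single a (1 : K)) (Pi.single c 1) = if c = ng a then om K a else 0 := by
  rw [h58_Bst_single_right]
  by_cases h : c = ng a
  · subst h
    simp
  · have : ng c ≠ a := fun h' => h (by rw [← h', ng_ng])
    simp [Pi.single_apply, h, this]

end field2

section grouplemmas

variable {G : Type*} [Group G]

theorem h58_three_sq {x y z : G} (hxy : x * y = y * x) (hxz : x * z = z * x)
    (hyz : y * z = z * y) (qx : x * x = 1) (qy : y * y = 1) (qz : z * z = 1) :
    (x * y * z) * (x * y * z) = 1 := by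
  calc (x * y * z) * (x * y * z) = x * y * (z * x) * y * z := by group
    _ = x * y * (x * z) * y * z := by rw [hxz]
    _ = x * (y * x) * (z * y) * z := by group
    _ = x * (x * y) * (y * z) * z := by rw [← hxy, ← hyz]
    _ = (x * x) * (y * y) * (z * z) := by group
    _ = 1 := by rw [qx, qy, qz, one_mul, one_mul]

theorem h58_comm_three {w x y z : G} (hx : w * x = x * w) (hy : w * y = y * w)
    (hz : w * z = z * w) : w * (x * y * z) = x * y * z * w := by
  calc w * (x * y * z) = (w * x) * y * z := by group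
    _ = x * (w * y) * z := by rw [hx]; group
    _ = x * y * (w * z) := by rw [hy]; group
    _ = x * y * z * w := by rw [hz]; group

theorem h58_three_comm {w x y z : G} (hx : x * w = w * x) (hy : y * w = w * y)
    (hz : z * w = w * z) : (x * y * z) * w = w * (x * y * z) :=
  (h58_comm_three hx.symm hy.symm hz.symm).symm

theorem h58_rel_conj {x y : G} (qx : x * x = 1) (qy : y * y = 1)
    (hb : x * y * x = y * x * y) : (x * y * x) * x * (x * y * x)⁻¹ = y := by
  have ix : x⁻¹ = x := inv_eq_of_mul_eq_one_left qx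
  have iy : y⁻¹ = y := inv_eq_of_mul_eq_one_left qy
  have e1 : (x * y * x)⁻¹ = x * y * x := by
    rw [mul_inv_rev, mul_inv_rev, ix, iy, mul_assoc]
  rw [e1]
  calc x * y * x * x * (x * y * x) = x * y * (x * x) * x * y * x := by group
    _ = (x * y * x) * y * x := by rw [qx]; group
    _ = y * x * (y * y) * x := by rw [hb]; group
    _ = y * (x * x) := by rw [qy]; group
    _ = y := by rw [qx, mul_one]

theorem h58_seven_mul {A : Type*} [CommGroup A] (x1 x2 x3 x4 x5 x6 x7 : A)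
    (q1 : x1 * x1 = 1) (q2 : x2 * x2 = 1) (q3 : x3 * x3 = 1)
    (q4 : x4 * x4 = 1) (q5 : x5 * x5 = 1) (q6 : x6 * x6 = 1)
    (h : x1 * x2 * x3 * x4 * x5 * x6 * x7 = 1) :
    x7 * x4 * x3 * (x6 * x2 * x3)⁻¹ = x5 * x1 * x3 := by
  have e7 : x7 = (x1 * x2 * x3 * x4 * x5 * x6)⁻¹ := eq_inv_of_mul_eq_one_right h
  have i1 : x1⁻¹ = x1 := inv_eq_of_mul_eq_one_left q1
  have i2 : x2⁻¹ = x2 := inv_eq_of_mul_eq_one_left q2
  have i3 : x3⁻¹ = x3 := inv_eq_of_mul_eq_one_left q3
  have i4 : x4⁻¹ = x4 := inv_eq_of_mul_eq_one_left q4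
  have i5 : x5⁻¹ = x5 := inv_eq_of_mul_eq_one_left q5
  have i6 : x6⁻¹ = x6 := inv_eq_of_mul_eq_one_left q6
  rw [e7]
  simp only [mul_inv, i1, i2, i3, i4, i5, i6]
  calc x1 * x2 * x3 * x4 * x5 * x6 * x4 * x3 * (x6 * x2 * x3)
      = (x2 * x2) * (x3 * x3) * (x4 * x4) * (x6 * x6) * (x5 * x1 * x3) := by
        simp only [mul_comm, mul_left_comm]
    _ = x5 * x1 * x3 := by rw [q2, q3, q4, q6]; simp

/-- seven pairwise commuting involutions with trivial product -/
theorem h58_seven (s : Set G) (hs : ∀ x ∈ s, ∀ y ∈ s, x * y = y * x)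
    {x1 x2 x3 x4 x5 x6 x7 : G} (m1 : x1 ∈ s) (m2 : x2 ∈ s) (m3 : x3 ∈ s) (m4 : x4 ∈ s)
    (m5 : x5 ∈ s) (m6 : x6 ∈ s) (m7 : x7 ∈ s)
    (q1 : x1 * x1 = 1) (q2 : x2 * x2 = 1) (q3 : x3 * x3 = 1)
    (q4 : x4 * x4 = 1) (q5 : x5 * x5 = 1) (q6 : x6 * x6 = 1)
    (h : x1 * x2 * x3 * x4 * x5 * x6 * x7 = 1) :
    x7 * x4 * x3 * (x6 * x2 * x3)⁻¹ = x5 * x1 * x3 := by
  let inst : CommGroup (Subgroup.closure s) :=
    { (inferInstance : Group (Subgroup.closure s)) with
      mul_comm := (Subgroup.isMulCommutative_closure hs).is_comm.comm }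
  have key := h58_seven_mul (A := Subgroup.closure s)
    ⟨x1, Subgroup.subset_closure m1⟩ ⟨x2, Subgroup.subset_closure m2⟩
    ⟨x3, Subgroup.subset_closure m3⟩ ⟨x4, Subgroup.subset_closure m4⟩
    ⟨x5, Subgroup.subset_closure m5⟩ ⟨x6, Subgroup.subset_closure m6⟩
    ⟨x7, Subgroup.subset_closure m7⟩ (Subtype.ext q1) (Subtype.ext q2) (Subtype.ext q3)
    (Subtype.ext q4) (Subtype.ext q5) (Subtype.ext q6) (Subtype.ext h)
  exact congrArg Subtype.val key

end grouplemmas

section tau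

variable {ι : Type*} [DecidableEq ι] [Fintype ι] {K : Type*} [Field K] {S E : Type*} [Group S]
  [Group E] {π : E →* S} {XM : ι ⊕ ι → ι ⊕ ι → K → S}

/-- the hypotheses on the section `τ` -/
structure H58Tau (π : E →* S) (ρ : S →* Module.End K (ι ⊕ ι → K)) (τ : (ι ⊕ ι → K) → E) :
    Prop where
  eqv : ∀ v, v ≠ 0 → ∀ e : E, e * τ v * e⁻¹ = τ (ρ (π e) v)
  act : ∀ v, v ≠ 0 → ∀ x, ρ (π (τ v)) x = x + Bst x v • v
  sq : ∀ v, v ≠ 0 → τ v * τ v = 1

namespace H58Tau

variable {ρ : S →* Module.End K (ι ⊕ ι → K)} {τ : (ι ⊕ ι → K) → E} (T : H58Tau π ρ τ)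
include T

theorem inv {v : ι ⊕ ι → K} (hv : v ≠ 0) : (τ v)⁻¹ = τ v :=
  inv_eq_of_mul_eq_one_left (T.sq v hv)

theorem conj {u v : ι ⊕ ι → K} (hu : u ≠ 0) (hv : v ≠ 0) :
    τ u * τ v * (τ u)⁻¹ = τ (v + Bst v u • u) := by
  rw [T.eqv v hv (τ u), T.act u hu v]

theorem comm {u v : ι ⊕ ι → K} (hu : u ≠ 0) (hv : v ≠ 0) (h : Bst v u = 0) :
    τ u * τ v = τ v * τ u := by
  have := T.conj hu hv
  rw [h, zero_smul, add_zero] at this
  calc τ u * τ v = τ u * τ v * (τ u)⁻¹ * τ u := by group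
    _ = τ v * τ u := by rw [this]

theorem braid {u v : ι ⊕ ι → K} (hu : u ≠ 0) (hv : v ≠ 0) (h : Bst v u = 1) :
    τ u * τ v * τ u = τ (v + u) := by
  have := T.conj hu hv
  rw [h, one_smul, T.inv hu] at this
  exact this

end H58Tau

end tau

section family

variable {ι : Type*} [DecidableEq ι] [Fintype ι] {K : Type*} [Field K] {S E : Type*} [Group S]
  [Group E] {π : E →* S} {XM : ι ⊕ ι → ι ⊕ ι → K → S}

open Classical in
/-- the family of lifts built from the section -/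
noncomputable def h58Y (τ : (ι ⊕ ι → K) → E) (a c : ι ⊕ ι) (t : K) : E :=
  if t = 0 ∨ c = ng a then 1
  else if c = a then τ (Pi.single a 1)
  else τ (Pi.single a 1 + Pi.single c 1) * τ (Pi.single a 1) * τ (Pi.single c 1)

omit [Fintype ι] in
theorem h58Y_zero (τ : (ι ⊕ ι → K) → E) (a c : ι ⊕ ι) : h58Y τ a c 0 = 1 := by
  simp [h58Y]

omit [Fintype ι] in
theorem h58Y_opp (τ : (ι ⊕ ι → K) → E) (a : ι ⊕ ι) (t : K) : h58Y τ a (ng a) t = 1 := by
  simp [h58Y]

omit [Fintype ι] in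
theorem h58Y_long (τ : (ι ⊕ ι → K) → E) (a : ι ⊕ ι) : h58Y τ a a 1 = τ (Pi.single a 1) := by
  simp [h58Y, ne_ng a]

omit [Fintype ι] in
theorem h58Y_short (τ : (ι ⊕ ι → K) → E) {a c : ι ⊕ ι} (hne : c ≠ a) (hopp : c ≠ ng a) :
    h58Y τ a c 1 = τ (Pi.single a 1 + Pi.single c 1) * τ (Pi.single a 1) * τ (Pi.single c 1) := by
  simp [h58Y, hne, hopp]

omit [Fintype ι] in
theorem h58_ne_zero_of_apply {v : ι ⊕ ι → K} (d : ι ⊕ ι) (h : v d ≠ 0) : v ≠ 0 := by
  rintro rfl
  exact h rfl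

omit [Fintype ι] in
theorem h58_single_ne_zero (a : ι ⊕ ι) : (Pi.single a (1 : K) : ι ⊕ ι → K) ≠ 0 :=
  h58_ne_zero_of_apply a (by simp)

omit [Fintype ι] in
theorem h58_single_add_ne_zero {a c : ι ⊕ ι} (h : c ≠ a) :
    (Pi.single a (1 : K) + Pi.single c 1 : ι ⊕ ι → K) ≠ 0 :=
  h58_ne_zero_of_apply a (by simp [Pi.single_apply, h.symm])

end family

section main

variable {ι : Type*} [DecidableEq ι] [Fintype ι] {K : Type*} [Field K] {S E : Type*} [Group S]
  [Group E] {π : E →* S} {XM : ι ⊕ ι → ι ⊕ ι → K → S}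

omit [Fintype ι] in
theorem h58_single_eq_smul (a : ι ⊕ ι) (s : K) :
    (Pi.single a s : ι ⊕ ι → K) = s • Pi.single a (1 : K) := by
  ext d
  by_cases h : d = a
  · subst h; simp
  · simp [Pi.single_apply, h]

omit [Fintype ι] in
theorem h58_xact_long (F : H58F2 K) (a : ι ⊕ ι) (x : ι ⊕ ι → K) :
    xact a a 1 x = x + x (ng a) • Pi.single a (1 : K) := by
  unfold xact
  rw [if_neg (ne_ng a), if_pos rfl, F.om, one_mul, one_mul, F.vsub, h58_single_eq_smul]

omit [Fintype ι] in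
theorem h58_xact_short (F : H58F2 K) {a c : ι ⊕ ι} (hne : c ≠ a) (hopp : c ≠ ng a)
    (x : ι ⊕ ι → K) :
    xact a c 1 x = x + x (ng a) • Pi.single c (1 : K) + x (ng c) • Pi.single a (1 : K) := by
  unfold xact
  rw [if_neg hopp, if_neg hne.symm, F.om, F.om, one_mul, one_mul, one_mul, F.vsub, F.vsub,
    h58_single_eq_smul, h58_single_eq_smul a]

omit [Fintype ι] in
theorem h58_xact_opp (a : ι ⊕ ι) (t : K) (x : ι ⊕ ι → K) : xact a (ng a) t x = x := by
  unfold xact
  rw [if_pos rfl]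

omit [Fintype ι] in
theorem h58_xact_zero (a c : ι ⊕ ι) (x : ι ⊕ ι → K) : xact a c 0 x = x := by
  unfold xact
  split_ifs <;> simp

/-- the family lifts `XM` -/
theorem h58Y_lift (F : H58F2 K) {ρ : S →* Module.End K (ι ⊕ ι → K)} (hρ : IsAct XM ρ)
    (hinj : Function.Injective ρ) {τ : (ι ⊕ ι → K) → E} (T : H58Tau π ρ τ)
    (a c : ι ⊕ ι) (t : K) : π (h58Y τ a c t) = XM a c t := by
  apply hinj
  apply LinearMap.ext
  intro x
  rw [hρ a c t x]
  rcases F.cases t with rfl | rfl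
  · rw [h58Y_zero, map_one, map_one, h58_xact_zero]
    rfl
  by_cases hopp : c = ng a
  · subst hopp
    rw [h58Y_opp, map_one, map_one, h58_xact_opp]
    rfl
  by_cases hne : c = a
  · subst hne
    rw [h58Y_long, T.act _ (h58_single_ne_zero c), h58_xact_long F, h58_Bst_single_right,
      F.om, one_mul]
  · rw [h58Y_short τ hne hopp, h58_xact_short F hne hopp]
    simp only [map_mul, Module.End.mul_apply]
    rw [T.act _ (h58_single_ne_zero c), T.act _ (h58_single_ne_zero a),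
      T.act _ (h58_single_add_ne_zero hne)]
    have e1 : ng a ≠ c := fun h => hopp h.symm
    have e2 : ng c ≠ a := fun h => hopp (by rw [← h, ng_ng])
    simp only [h58_Bst_add_right, h58_Bst_single_right, F.om, one_mul, Pi.add_apply,
      Pi.smul_apply, smul_eq_mul, Pi.single_apply, if_neg e1, if_neg e2, if_neg (ng_ne a),
      if_neg (ng_ne c), mul_zero, add_zero]
    ext d
    simp only [Pi.add_apply, Pi.smul_apply, smul_eq_mul]
    linear_combination (x (ng c) * (Pi.single c (1 : K) : ι ⊕ ι → K) d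
      + x (ng a) * (Pi.single a (1 : K) : ι ⊕ ι → K) d) * F.two

omit [Fintype ι] in
/-- a short root element on a basis vector -/
theorem h58_xs (F : H58F2 K) {a c : ι ⊕ ι} (hne : c ≠ a) (hopp : c ≠ ng a) (d : ι ⊕ ι) :
    xact a c 1 (Pi.single d (1 : K)) =
      Pi.single d 1 + (if d = ng a then Pi.single c 1 else 0)
        + (if d = ng c then Pi.single a 1 else 0) := by
  rw [h58_xact_short F hne hopp]
  congr 1
  · congr 1
    by_cases h : d = ng a
    · subst h; simp
    · have : ng a ≠ d := fun h' => h h'.symm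
      simp [Pi.single_apply, h, this]
  · by_cases h : d = ng c
    · subst h; simp
    · have : ng c ≠ d := fun h' => h h'.symm
      simp [Pi.single_apply, h, this]

omit [Fintype ι] in
/-- a long root element on a basis vector -/
theorem h58_xl (F : H58F2 K) (a d : ι ⊕ ι) :
    xact a a 1 (Pi.single d (1 : K)) =
      Pi.single d 1 + (if d = ng a then Pi.single a 1 else 0) := by
  rw [h58_xact_long F]
  congr 1
  by_cases h : d = ng a
  · subst h; simp
  · have : ng a ≠ d := fun h' => h h'.symm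
    simp [Pi.single_apply, h, this]

section rel

variable (F : H58F2 K) {ρ : S →* Module.End K (ι ⊕ ι → K)} (hρ : IsAct XM ρ)
  (hinj : Function.Injective ρ) {τ : (ι ⊕ ι → K) → E} (T : H58Tau π ρ τ)
include F hρ hinj T

theorem h58_xact_add (a c : ι ⊕ ι) (t : K) (v w : ι ⊕ ι → K) :
    xact a c t (v + w) = xact a c t v + xact a c t w := by
  rw [← hρ a c t, ← hρ a c t, ← hρ a c t, map_add]

theorem h58Y_conj_tau (a c : ι ⊕ ι) (t : K) {v : ι ⊕ ι → K} (hv : v ≠ 0) :
    h58Y τ a c t * τ v * (h58Y τ a c t)⁻¹ = τ (xact a c t v) := by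
  rw [T.eqv v hv, h58Y_lift F hρ hinj T, hρ]

theorem h58Y_conj_short (a c : ι ⊕ ι) {d f : ι ⊕ ι} (hne : f ≠ d) (hopp : f ≠ ng d) :
    h58Y τ a c 1 * h58Y τ d f 1 * (h58Y τ a c 1)⁻¹ =
      τ (xact a c 1 (Pi.single d 1) + xact a c 1 (Pi.single f 1))
        * τ (xact a c 1 (Pi.single d 1)) * τ (xact a c 1 (Pi.single f 1)) := by
  rw [h58Y_short τ hne hopp]
  rw [← h58Y_conj_tau F hρ hinj T a c 1 (h58_single_ne_zero d),
    ← h58Y_conj_tau F hρ hinj T a c 1 (h58_single_ne_zero f), ← h58_xact_add F hρ hinj T,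
    ← h58Y_conj_tau F hρ hinj T a c 1 (h58_single_add_ne_zero hne)]
  group

theorem h58_Bst_ss_zero {a c : ι ⊕ ι} (h : c ≠ ng a) :
    Bst (Pi.single a (1 : K)) (Pi.single c 1) = 0 := by
  rw [h58_Bst_single_single, if_neg h]

theorem h58_Bst_ss_one (a : ι ⊕ ι) :
    Bst (Pi.single a (1 : K)) (Pi.single (ng a) 1) = 1 := by
  rw [h58_Bst_single_single, if_pos rfl, F.om]

theorem h58_Bst_ss_one' (a : ι ⊕ ι) :
    Bst (Pi.single (ng a) (1 : K)) (Pi.single a 1) = 1 := by
  rw [h58_Bst_single_single, if_pos (ng_ng a).symm, F.om]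

theorem h58Y_symm (a c : ι ⊕ ι) (t : K) : h58Y τ a c t = h58Y τ c a t := by
  rcases F.cases t with rfl | rfl
  · rw [h58Y_zero, h58Y_zero]
  by_cases hopp : c = ng a
  · subst hopp
    rw [h58Y_opp]
    have := h58Y_opp τ (ng a) (1 : K)
    rw [ng_ng] at this
    exact this.symm
  by_cases hne : c = a
  · subst hne; rfl
  · have hopp' : a ≠ ng c := fun h => hopp (by rw [h, ng_ng])
    rw [h58Y_short τ hne hopp, h58Y_short τ (Ne.symm hne) hopp', add_comm (Pi.single c 1),
      mul_assoc, mul_assoc,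
      T.comm (h58_single_ne_zero a) (h58_single_ne_zero c) (h58_Bst_ss_zero F hρ hinj T hopp')]

theorem h58Y_sq (a c : ι ⊕ ι) : h58Y τ a c 1 * h58Y τ a c 1 = 1 := by
  by_cases hopp : c = ng a
  · subst hopp
    rw [h58Y_opp, one_mul]
  by_cases hne : c = a
  · subst hne
    rw [h58Y_long]
    exact T.sq _ (h58_single_ne_zero c)
  · have hopp' : a ≠ ng c := fun h => hopp (by rw [h, ng_ng])
    rw [h58Y_short τ hne hopp]
    have z1 : Bst (Pi.single a (1 : K)) (Pi.single a 1) = 0 :=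
      h58_Bst_ss_zero F hρ hinj T (ne_ng a)
    have z2 : Bst (Pi.single c (1 : K)) (Pi.single c 1) = 0 :=
      h58_Bst_ss_zero F hρ hinj T (ne_ng c)
    have z3 : Bst (Pi.single a (1 : K)) (Pi.single c 1) = 0 :=
      h58_Bst_ss_zero F hρ hinj T hopp
    have z4 : Bst (Pi.single c (1 : K)) (Pi.single a 1) = 0 :=
      h58_Bst_ss_zero F hρ hinj T hopp'
    apply h58_three_sq
    · exact T.comm (h58_single_add_ne_zero hne) (h58_single_ne_zero a)
        (by rw [h58_Bst_add_right, z1, z3, add_zero])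
    · exact T.comm (h58_single_add_ne_zero hne) (h58_single_ne_zero c)
        (by rw [h58_Bst_add_right, z4, z2, add_zero])
    · exact T.comm (h58_single_ne_zero a) (h58_single_ne_zero c) z4
    · exact T.sq _ (h58_single_add_ne_zero hne)
    · exact T.sq _ (h58_single_ne_zero a)
    · exact T.sq _ (h58_single_ne_zero c)

theorem h58Y_inv (a c : ι ⊕ ι) : (h58Y τ a c 1)⁻¹ = h58Y τ a c 1 :=
  inv_eq_of_mul_eq_one_left (h58Y_sq F hρ hinj T a c)

theorem h58Y_add (a c : ι ⊕ ι) (t u : K) : h58Y τ a c t * h58Y τ a c u = h58Y τ a c (t + u) := by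
  rcases F.cases t with rfl | rfl
  · rw [h58Y_zero, one_mul, zero_add]
  rcases F.cases u with rfl | rfl
  · rw [h58Y_zero, mul_one, add_zero]
  rw [F.add_self, h58Y_zero]
  exact h58Y_sq F hρ hinj T a c

theorem h58Y_comm_tau {v : ι ⊕ ι → K} (hv : v ≠ 0) (d f : ι ⊕ ι) (u : K)
    (hd : Bst (Pi.single d 1) v = 0) (hf : Bst (Pi.single f 1) v = 0) :
    τ v * h58Y τ d f u = h58Y τ d f u * τ v := by
  rcases F.cases u with rfl | rfl
  · rw [h58Y_zero, mul_one, one_mul]
  by_cases hopp : f = ng d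
  · subst hopp
    rw [h58Y_opp, mul_one, one_mul]
  by_cases hne : f = d
  · subst hne
    rw [h58Y_long]
    exact T.comm hv (h58_single_ne_zero f) hd
  · rw [h58Y_short τ hne hopp]
    apply h58_comm_three
    · exact T.comm hv (h58_single_add_ne_zero hne) (by rw [h58_Bst_add_left, hd, hf, add_zero])
    · exact T.comm hv (h58_single_ne_zero d) hd
    · exact T.comm hv (h58_single_ne_zero f) hf

theorem h58Y_comm (a c d e : ι ⊕ ι) (t u : K) (h1 : d ≠ ng a) (h2 : d ≠ ng c) (h3 : e ≠ ng a)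
    (h4 : e ≠ ng c) : h58Y τ a c t * h58Y τ d e u = h58Y τ d e u * h58Y τ a c t := by
  rcases F.cases t with rfl | rfl
  · rw [h58Y_zero, mul_one, one_mul]
  by_cases hopp : c = ng a
  · subst hopp
    rw [h58Y_opp, mul_one, one_mul]
  have da : Bst (Pi.single d (1 : K)) (Pi.single a 1) = 0 :=
    h58_Bst_ss_zero F hρ hinj T (fun h => h1 (by rw [h, ng_ng]))
  have dc : Bst (Pi.single d (1 : K)) (Pi.single c 1) = 0 :=
    h58_Bst_ss_zero F hρ hinj T (fun h => h2 (by rw [h, ng_ng]))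
  have ea : Bst (Pi.single e (1 : K)) (Pi.single a 1) = 0 :=
    h58_Bst_ss_zero F hρ hinj T (fun h => h3 (by rw [h, ng_ng]))
  have ec : Bst (Pi.single e (1 : K)) (Pi.single c 1) = 0 :=
    h58_Bst_ss_zero F hρ hinj T (fun h => h4 (by rw [h, ng_ng]))
  by_cases hne : c = a
  · subst hne
    rw [h58Y_long]
    exact h58Y_comm_tau F hρ hinj T (h58_single_ne_zero c) d e u dc ec
  · rw [h58Y_short τ hne hopp]
    apply h58_three_comm
    · exact h58Y_comm_tau F hρ hinj T (h58_single_add_ne_zero hne) d e u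
        (by rw [h58_Bst_add_right, da, dc, add_zero]) (by rw [h58_Bst_add_right, ea, ec, add_zero])
    · exact h58Y_comm_tau F hρ hinj T (h58_single_ne_zero a) d e u da ea
    · exact h58Y_comm_tau F hρ hinj T (h58_single_ne_zero c) d e u dc ec

theorem h58Y_ssl (a c : ι ⊕ ι) (t u : K) (h1 : a ≠ c) (h2 : a ≠ ng c) :
    h58Y τ a c t * h58Y τ (ng c) a u * (h58Y τ a c t)⁻¹ * (h58Y τ (ng c) a u)⁻¹ =
      h58Y τ a a (-(2 * om K c * t * u)) := by
  have hz : -(2 * om K c * t * u) = 0 := by rw [F.two]; ring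
  rw [hz, h58Y_zero]
  rcases F.cases t with rfl | rfl
  · rw [h58Y_zero]; group
  rcases F.cases u with rfl | rfl
  · rw [h58Y_zero]; group
  have hca : c ≠ a := Ne.symm h1
  have hca' : c ≠ ng a := fun h => h2 (by rw [h, ng_ng])
  have hB2 : a ≠ ng (ng c) := by rw [ng_ng]; exact h1
  have key := h58Y_conj_short F hρ hinj T a c h2 hB2
  have n1 : ¬ ng c = ng a := fun h => hca (ng_injective h)
  rw [h58_xs F hca hca' (ng c), h58_xs F hca hca' a, if_neg n1, if_pos rfl, if_neg (ne_ng a),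
    if_neg h2, add_zero, add_zero, add_zero, F.vadd_cancel] at key
  rw [key, h58Y_short τ h2 hB2]
  have z1 : Bst (Pi.single (ng c) (1 : K)) (Pi.single (ng c) 1) = 0 :=
    h58_Bst_ss_zero F hρ hinj T (ne_ng (ng c))
  have z2 : Bst (Pi.single a (1 : K)) (Pi.single (ng c) 1) = 0 :=
    h58_Bst_ss_zero F hρ hinj T n1
  rw [T.comm (h58_single_ne_zero (ng c)) (h58_single_add_ne_zero h2)
    (by rw [h58_Bst_add_left, z1, z2, add_zero])]
  group

theorem h58Y_ls (a e : ι ⊕ ι) (t u : K) (h1 : e ≠ a) (h2 : e ≠ ng a) :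
    h58Y τ a a t * h58Y τ (ng a) e u * (h58Y τ a a t)⁻¹ * (h58Y τ (ng a) e u)⁻¹ =
      h58Y τ a e (-(om K a * t * u)) * h58Y τ e e (-(t * u ^ 2)) := by
  rcases F.cases t with rfl | rfl
  · simp only [mul_zero, zero_mul, neg_zero, h58Y_zero]
    group
  rcases F.cases u with rfl | rfl
  · have : (0 : K) ^ 2 = 0 := by norm_num
    simp only [mul_zero, zero_mul, neg_zero, h58Y_zero, this]
    group
  have h2' : e ≠ ng (ng a) := by rw [ng_ng]; exact h1
  have hae : a ≠ ng e := fun h => h2 (by rw [h, ng_ng])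
  simp only [F.om, one_mul, mul_one, one_pow, F.neg]
  rw [h58Y_long, h58Y_long, h58Y_short τ h1 h2]
  have key := h58Y_conj_tau F hρ hinj T (ng a) e 1 (h58_single_ne_zero a)
  rw [h58_xs F h2 h2' a, ng_ng, if_pos rfl, if_neg hae, add_zero] at key
  have z1 : Bst (Pi.single a (1 : K)) (Pi.single a 1) = 0 :=
    h58_Bst_ss_zero F hρ hinj T (ne_ng a)
  have z2 : Bst (Pi.single e (1 : K)) (Pi.single a 1) = 0 :=
    h58_Bst_ss_zero F hρ hinj T hae
  calc τ (Pi.single a 1) * h58Y τ (ng a) e 1 * (τ (Pi.single a 1))⁻¹ * (h58Y τ (ng a) e 1)⁻¹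
      = τ (Pi.single a 1) *
          (h58Y τ (ng a) e 1 * τ (Pi.single a 1) * (h58Y τ (ng a) e 1)⁻¹)⁻¹ := by group
    _ = τ (Pi.single a 1) * τ (Pi.single a 1 + Pi.single e 1) := by
        rw [key, T.inv (h58_single_add_ne_zero h1)]
    _ = τ (Pi.single a 1 + Pi.single e 1) * τ (Pi.single a 1) :=
        T.comm (h58_single_ne_zero a) (h58_single_add_ne_zero h1)
          (by rw [h58_Bst_add_left, z1, z2, add_zero])
    _ = τ (Pi.single a 1 + Pi.single e 1) * τ (Pi.single a 1) * τ (Pi.single e 1)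
          * τ (Pi.single e 1) := by
        rw [mul_assoc _ (τ (Pi.single e 1)), T.sq _ (h58_single_ne_zero e), mul_one]

theorem h58Y_braid (a c : ι ⊕ ι) (hopp : c ≠ ng a) :
    h58Y τ a c 1 * h58Y τ (ng a) (ng c) 1 * h58Y τ a c 1 =
      h58Y τ (ng a) (ng c) 1 * h58Y τ a c 1 * h58Y τ (ng a) (ng c) 1 := by
  by_cases hne : c = a
  · subst hne
    rw [h58Y_long, h58Y_long,
      T.braid (h58_single_ne_zero c) (h58_single_ne_zero (ng c)) (h58_Bst_ss_one' F hρ hinj T c),
      T.braid (h58_single_ne_zero (ng c)) (h58_single_ne_zero c) (h58_Bst_ss_one F hρ hinj T c),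
      add_comm]
  · have hne' : ng c ≠ ng a := fun h => hne (ng_injective h)
    have hopp' : ng c ≠ ng (ng a) := by
      rw [ng_ng]
      exact fun h => hopp (by rw [← h, ng_ng])
    have hac : a ≠ c := Ne.symm hne
    have k1 := h58Y_conj_short F hρ hinj T a c hne' hopp'
    have k2 := h58Y_conj_short F hρ hinj T (ng a) (ng c) hne hopp
    rw [h58_xs F hne hopp (ng a), h58_xs F hne hopp (ng c), if_pos rfl, if_neg (Ne.symm hne'),
      if_neg hne', if_pos rfl, add_zero, add_zero] at k1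
    rw [h58_xs F hne' hopp' a, h58_xs F hne' hopp' c, ng_ng, ng_ng, if_pos rfl, if_neg hac,
      if_neg hne, if_pos rfl, add_zero, add_zero] at k2
    have z1 : Bst (Pi.single a (1 : K)) (Pi.single c 1) = 0 :=
      h58_Bst_ss_zero F hρ hinj T hopp
    have z2 : Bst (Pi.single (ng c) (1 : K)) (Pi.single (ng a) 1) = 0 :=
      h58_Bst_ss_zero F hρ hinj T (fun h => hopp (by rw [ng_ng] at h; exact h.symm))
    have e : h58Y τ a c 1 * h58Y τ (ng a) (ng c) 1 * (h58Y τ a c 1)⁻¹ =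
        h58Y τ (ng a) (ng c) 1 * h58Y τ a c 1 * (h58Y τ (ng a) (ng c) 1)⁻¹ := by
      rw [k1, k2]
      have v1 : (Pi.single (ng a) (1 : K) + Pi.single c 1 + (Pi.single (ng c) 1 + Pi.single a 1) :
          ι ⊕ ι → K) = Pi.single a 1 + Pi.single (ng c) 1 + (Pi.single c 1 + Pi.single (ng a) 1) := by
        abel
      rw [v1, add_comm (Pi.single (ng a) (1 : K) : ι ⊕ ι → K) (Pi.single c 1),
        add_comm (Pi.single (ng c) (1 : K) : ι ⊕ ι → K) (Pi.single a 1), mul_assoc, mul_assoc]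
      congr 1
      have hca' : ng c ≠ a := fun h => hopp (by rw [← h, ng_ng])
      refine T.comm (h58_single_add_ne_zero (Ne.symm hopp)) (h58_single_add_ne_zero hca') ?_
      rw [h58_Bst_add_left, h58_Bst_add_right, h58_Bst_add_right, z1,
        h58_Bst_ss_one F hρ hinj T a, h58_Bst_ss_one' F hρ hinj T c, z2, zero_add, add_zero,
        F.add_self]
    rw [h58Y_inv F hρ hinj T, h58Y_inv F hρ hinj T] at e
    exact e

theorem h58Y_pairC_true (a c : ι ⊕ ι) (s : K) : pairC (h58Y τ) a c true s = h58Y τ a c s := by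
  rw [pairC_true, F.om, one_mul, F.neg]

theorem h58Y_pairC_false (a c : ι ⊕ ι) (s : K) :
    pairC (h58Y τ) a c false s = h58Y τ (ng a) (ng c) s := by
  rw [pairC_false, F.om, one_mul]

theorem h58Y_rank1 (a c : ι ⊕ ι) (hac : c ≠ ng a) : Rel (pairC (h58Y τ) a c) := by
  constructor
  · intro b t u
    cases b
    · rw [h58Y_pairC_false F hρ hinj T, h58Y_pairC_false F hρ hinj T,
        h58Y_pairC_false F hρ hinj T, h58Y_add F hρ hinj T]
    · rw [h58Y_pairC_true F hρ hinj T, h58Y_pairC_true F hρ hinj T,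
        h58Y_pairC_true F hρ hinj T, h58Y_add F hρ hinj T]
  · intro b t u ht
    have ht1 : t = 1 := (F.ne_zero_iff t).mp ht
    subst ht1
    have e1 : -(1 : K)⁻¹ = 1 := by rw [inv_one, F.neg]
    have e2 : -((1 : K)⁻¹ ^ 2 * u) = u := by rw [inv_one, one_pow, one_mul, F.neg]
    rw [e1, e2]
    rcases F.cases u with rfl | rfl
    · cases b
      · simp only [Bool.not_false, h58Y_pairC_true F hρ hinj T, h58Y_pairC_false F hρ hinj T,
          h58Y_zero]
        group
      · simp only [Bool.not_true, h58Y_pairC_true F hρ hinj T, h58Y_pairC_false F hρ hinj T,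
          h58Y_zero]
        group
    cases b
    · simp only [Bool.not_false, h58Y_pairC_true F hρ hinj T, h58Y_pairC_false F hρ hinj T]
      exact h58_rel_conj (h58Y_sq F hρ hinj T _ _) (h58Y_sq F hρ hinj T _ _)
        (h58Y_braid F hρ hinj T a c hac).symm
    · simp only [Bool.not_true, h58Y_pairC_true F hρ hinj T, h58Y_pairC_false F hρ hinj T]
      exact h58_rel_conj (h58Y_sq F hρ hinj T _ _) (h58Y_sq F hρ hinj T _ _)
        (h58Y_braid F hρ hinj T a c hac)

theorem h58Y_a2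
    (h7 : ∀ a e f : ι ⊕ ι, e ≠ a → e ≠ ng a → f ≠ a → f ≠ ng a → f ≠ e → f ≠ ng e →
        τ (Pi.single a 1) * τ (Pi.single e 1) * τ (Pi.single f 1) *
          τ (Pi.single a 1 + Pi.single e 1) * τ (Pi.single a 1 + Pi.single f 1) *
          τ (Pi.single e 1 + Pi.single f 1) *
          τ (Pi.single a 1 + Pi.single e 1 + Pi.single f 1) = 1)
    (a c e : ι ⊕ ι) (t u : K) (h1 : a ≠ c) (h2 : a ≠ ng c) (h3 : a ≠ e) (h4 : a ≠ ng e)
    (h5 : c ≠ e) (h6 : c ≠ ng e) :
    h58Y τ a c t * h58Y τ (ng c) e u * (h58Y τ a c t)⁻¹ * (h58Y τ (ng c) e u)⁻¹ =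
      h58Y τ a e (-(om K c * t * u)) := by
  rcases F.cases t with rfl | rfl
  · simp only [mul_zero, zero_mul, neg_zero, h58Y_zero]
    group
  rcases F.cases u with rfl | rfl
  · simp only [mul_zero, zero_mul, neg_zero, h58Y_zero]
    group
  simp only [F.om, one_mul, mul_one, F.neg]
  -- the index facts
  have hca : c ≠ a := Ne.symm h1
  have hca' : c ≠ ng a := fun h => h2 (by rw [h, ng_ng])
  have hea : e ≠ a := Ne.symm h3
  have hea' : e ≠ ng a := fun h => h4 (by rw [h, ng_ng])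
  have hec' : e ≠ ng c := fun h => h6 (by rw [h, ng_ng])
  have hec2 : e ≠ ng (ng c) := by rw [ng_ng]; exact Ne.symm h5
  have n1 : ¬ ng c = ng a := fun h => hca (ng_injective h)
  have hc'a : ng c ≠ a := Ne.symm h2
  have hce' : ng c ≠ ng e := fun h => h5 (ng_injective h)
  -- conjugation
  have key := h58Y_conj_short F hρ hinj T a c hec' hec2
  rw [h58_xs F hca hca' (ng c), h58_xs F hca hca' e, if_neg n1, if_pos rfl, if_neg hea',
    if_neg hec', add_zero, add_zero, add_zero] at key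
  rw [key, h58Y_short τ hec' hec2, h58Y_short τ hea hea',
    add_comm (Pi.single (ng c) (1 : K) : ι ⊕ ι → K) (Pi.single a 1)]
  -- the seven commuting involutions
  obtain ⟨ba, hba⟩ : ∃ v : ι ⊕ ι → K, v = Pi.single a 1 := ⟨_, rfl⟩
  obtain ⟨bc, hbc⟩ : ∃ v : ι ⊕ ι → K, v = Pi.single (ng c) 1 := ⟨_, rfl⟩
  obtain ⟨be, hbe⟩ : ∃ v : ι ⊕ ι → K, v = Pi.single e 1 := ⟨_, rfl⟩
  have zaa : Bst ba ba = 0 := by rw [hba]; exact h58_Bst_ss_zero F hρ hinj T (ne_ng a)
  have zac : Bst ba bc = 0 := by rw [hba, hbc]; exact h58_Bst_ss_zero F hρ hinj T n1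
  have zae : Bst ba be = 0 := by rw [hba, hbe]; exact h58_Bst_ss_zero F hρ hinj T hea'
  have zca : Bst bc ba = 0 := by
    rw [hba, hbc]; exact h58_Bst_ss_zero F hρ hinj T (by rw [ng_ng]; exact h1)
  have zcc : Bst bc bc = 0 := by rw [hbc]; exact h58_Bst_ss_zero F hρ hinj T (ne_ng (ng c))
  have zce : Bst bc be = 0 := by rw [hbc, hbe]; exact h58_Bst_ss_zero F hρ hinj T hec2
  have zea : Bst be ba = 0 := by rw [hba, hbe]; exact h58_Bst_ss_zero F hρ hinj T h4
  have zec : Bst be bc = 0 := by rw [hbc, hbe]; exact h58_Bst_ss_zero F hρ hinj T hce'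
  have zee : Bst be be = 0 := by rw [hbe]; exact h58_Bst_ss_zero F hρ hinj T (ne_ng e)
  have H7 := h7 a (ng c) e hc'a n1 hea hea' hec' hec2
  -- nonzero vectors
  have v1 : ba ≠ 0 := by rw [hba]; exact h58_single_ne_zero a
  have v2 : bc ≠ 0 := by rw [hbc]; exact h58_single_ne_zero (ng c)
  have v3 : be ≠ 0 := by rw [hbe]; exact h58_single_ne_zero e
  have v4 : ba + bc ≠ 0 := by rw [hba, hbc]; exact h58_single_add_ne_zero hc'a
  have v5 : ba + be ≠ 0 := by rw [hba, hbe]; exact h58_single_add_ne_zero hea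
  have v6 : bc + be ≠ 0 := by rw [hbc, hbe]; exact h58_single_add_ne_zero hec'
  have v7 : ba + bc + be ≠ 0 := by
    rw [hba, hbc, hbe]
    refine h58_ne_zero_of_apply a ?_
    simp [Pi.single_apply, h2, h3]
  rw [← hba, ← hbc, ← hbe] at H7 ⊢
  let s : Set E := {g | ∃ v : ι ⊕ ι → K, v ≠ 0 ∧ (∃ p q r : K, v = p • ba + q • bc + r • be) ∧
    g = τ v}
  have hs : ∀ x ∈ s, ∀ y ∈ s, x * y = y * x := by
    rintro x ⟨v, hv, ⟨p, q, r, rfl⟩, rfl⟩ y ⟨w, hw, ⟨p', q', r', rfl⟩, rfl⟩
    refine T.comm hv hw ?_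
    simp only [h58_Bst_add_left, h58_Bst_add_right, h58_Bst_smul_left, h58_Bst_smul_right,
      zaa, zac, zae, zca, zcc, zce, zea, zec, zee, mul_zero, add_zero]
  have m : ∀ (v : ι ⊕ ι → K) (p q r : K), v ≠ 0 → v = p • ba + q • bc + r • be → τ v ∈ s :=
    fun v p q r hv h => ⟨v, hv, ⟨p, q, r, h⟩, rfl⟩
  exact h58_seven s hs (m ba 1 0 0 v1 (by simp)) (m bc 0 1 0 v2 (by simp))
    (m be 0 0 1 v3 (by simp)) (m (ba + bc) 1 1 0 v4 (by simp)) (m (ba + be) 1 0 1 v5 (by simp))
    (m (bc + be) 0 1 1 v6 (by simp)) (m (ba + bc + be) 1 1 1 v7 (by simp))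
    (T.sq _ v1) (T.sq _ v2) (T.sq _ v3) (T.sq _ v4) (T.sq _ v5) (T.sq _ v6) H7

end rel

/-- the Steinberg family built from a normalised section -/
theorem cSt_of_tau (hXM : CSt XM) (hπ : CExt π) (ρ : S →* Module.End K (ι ⊕ ι → K))
    (hρ : IsAct XM ρ) (hcard : Nat.card K = 2) (hinj : Function.Injective ρ)
    (τ : (ι ⊕ ι → K) → E)
    (h1 : ∀ v, v ≠ 0 → ∀ e : E, e * τ v * e⁻¹ = τ (ρ (π e) v))
    (h2 : ∀ v, v ≠ 0 → ∀ x, ρ (π (τ v)) x = x + Bst x v • v)
    (h3 : ∀ v, v ≠ 0 → τ v * τ v = 1)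
    (h7 : ∀ a e f : ι ⊕ ι, e ≠ a → e ≠ ng a → f ≠ a → f ≠ ng a → f ≠ e → f ≠ ng e →
        τ (Pi.single a 1) * τ (Pi.single e 1) * τ (Pi.single f 1) *
          τ (Pi.single a 1 + Pi.single e 1) * τ (Pi.single a 1 + Pi.single f 1) *
          τ (Pi.single e 1 + Pi.single f 1) *
          τ (Pi.single a 1 + Pi.single e 1 + Pi.single f 1) = 1) :
    ∃ Y : ι ⊕ ι → ι ⊕ ι → K → E, CSt Y ∧ ∀ a c t, π (Y a c t) = XM a c t := by
  have F := h58F2_of_card hcard
  have T : H58Tau π ρ τ := ⟨h1, h2, h3⟩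
  refine ⟨h58Y τ, ?_, h58Y_lift F hρ hinj T⟩
  exact
    { symm := h58Y_symm F hρ hinj T
      opp := h58Y_opp τ
      add := h58Y_add F hρ hinj T
      comm := h58Y_comm F hρ hinj T
      a2 := h58Y_a2 F hρ hinj T h7
      ssl := h58Y_ssl F hρ hinj T
      ls := h58Y_ls F hρ hinj T
      rank1 := h58Y_rank1 F hρ hinj T }

end main

end Cfsg.Agent.Lib.Helper66_S92
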