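import Mathlib
import Cfsg.Agent.Lib.Helper66_S92LiftDefs
import Cfsg.Agent.Lib.Helper66_S92Rank
import Cfsg.Agent.Lib.Helper58_S92_LC_NE

set_option autoImplicit false
set_option linter.unusedVariables false
set_option linter.unusedSectionVars false

/-!
# S2092 (architect helper66): package LC_3 (helper58)

Lifts of commuting root elements commute over the field with three elements.
-/

namespace Cfsg.Agent.Lib.Helper66_S92

open Cfsg.Agent.Lib.Helper81_UceA Cfsg.Agent.Lib.Helper5_SteinbergA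

variable {ι : Type*} [DecidableEq ι] {K : Type*} [Field K] {S E : Type*} [Group S] [Group E]
  {π : E →* S} {XM : ι ⊕ ι → ι ⊕ ι → K → S}

/-- every element of a field with `p` elements is a natural number -/
theorem h58_exists_natCast (p : ℕ) [hp : Fact p.Prime] (hcard : Nat.card K = p) (r : K) :
    ∃ n : ℕ, r = (n : K) := by
  have hfin : Finite K := Nat.finite_of_card_ne_zero (by rw [hcard]; exact hp.out.ne_zero)
  have : Fintype K := Fintype.ofFinite K
  have hR : Fintype.card K = p := by rw [← Nat.card_eq_fintype_card]; exact hcard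
  have : NeZero p := ⟨hp.out.ne_zero⟩
  refine ⟨((ZMod.ringEquivOfPrime K hp.out hR).symm r).val, ?_⟩
  have h1 : (ZMod.ringEquivOfPrime K hp.out hR) ((ZMod.ringEquivOfPrime K hp.out hR).symm r) = r :=
    RingEquiv.apply_symm_apply _ r
  rw [← ZMod.natCast_zmod_val ((ZMod.ringEquivOfPrime K hp.out hR).symm r), map_natCast] at h1
  exact h1.symm

omit [DecidableEq ι] in
theorem h58_XM_natCast_mul (hXM : CStAB XM) (a c : ι ⊕ ι) (t : K) (n : ℕ) :
    XM a c ((n : K) * t) = (XM a c t) ^ n := by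
  induction n with
  | zero => rw [Nat.cast_zero, zero_mul, hXM.X_zero, pow_zero]
  | succ m ih =>
    rw [pow_succ, ← ih, hXM.add]
    congr 1
    push_cast
    ring

/-- one root subgroup is cyclic over a prime field -/
theorem liftComm_same_prime (hXM : CStAB XM) (hπ : CExt π) (p : ℕ) [Fact p.Prime] [CharP K p]
    (hcard : Nat.card K = p) (a c : ι ⊕ ι) (t u : K) (x y : E)
    (hx : π x = XM a c t) (hy : π y = XM a c u) : x * y = y * x := by
  by_cases ht : t = 0
  · rw [ht, hXM.X_zero] at hx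
    exact ker_comm hπ hx y
  obtain ⟨n, hn⟩ := h58_exists_natCast p hcard (u / t)
  have hu : u = (n : K) * t := by
    rw [← hn]
    field_simp
  have h1 : π (x ^ n) = π y := by
    rw [map_pow, hx, hy, hu, h58_XM_natCast_mul hXM]
  obtain ⟨z, hz, rfl⟩ := hπ.exists_mul_of_eq h1
  have hzc := ker_comm hπ hz
  calc x * (x ^ n * z) = x ^ n * (x * z) := by
        rw [← mul_assoc, ← pow_succ', pow_succ, mul_assoc]
    _ = x ^ n * (z * x) := by rw [hzc x]
    _ = x ^ n * z * x := by rw [mul_assoc]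

/-- the commutator of lifts is trivial when all lifts commute -/
theorem h58_brk_eq_one (hπ : CExt π) {g h : S}
    (hc : ∀ x y : E, π x = g → π y = h → x * y = y * x) : brk hπ g h = 1 := by
  unfold brk
  rw [hc (lft hπ g) (lft hπ h) (map_lft hπ g) (map_lft hπ h)]
  group

/-- an element commuting with all lifts of `g₁` and of `g₂` commutes with all lifts of `g₁ * g₂` -/
theorem h58_comm_lift_mul (hπ : CExt π) {g₁ g₂ : S} {w : E}
    (h1 : ∀ y : E, π y = g₁ → y * w = w * y) (h2 : ∀ y : E, π y = g₂ → y * w = w * y)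
    (y : E) (hy : π y = g₁ * g₂) : y * w = w * y := by
  have h3 : π (lft hπ g₁ * lft hπ g₂) = π y := by
    rw [map_mul, map_lft, map_lft, hy]
  obtain ⟨z, hz, rfl⟩ := hπ.exists_mul_of_eq h3
  have e1 := h1 (lft hπ g₁) (map_lft hπ g₁)
  have e2 := h2 (lft hπ g₂) (map_lft hπ g₂)
  have e3 := ker_comm hπ hz w
  calc lft hπ g₁ * lft hπ g₂ * z * w = lft hπ g₁ * lft hπ g₂ * (z * w) := by group
    _ = lft hπ g₁ * (lft hπ g₂ * w) * z := by rw [e3]; group
    _ = (lft hπ g₁ * w) * lft hπ g₂ * z := by rw [e2]; group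
    _ = w * (lft hπ g₁ * lft hπ g₂ * z) := by rw [e1]; group

omit [DecidableEq ι] in
theorem h58_three (hcard : Nat.card K = 3) : (3 : K) = 0 ∧ (2 : K) ≠ 0 := by
  have hfin : Finite K := Nat.finite_of_card_ne_zero (by rw [hcard]; norm_num)
  have : Fintype K := Fintype.ofFinite K
  have hR : Fintype.card K = 3 := by rw [← Nat.card_eq_fintype_card]; exact hcard
  have h3 : (3 : K) = 0 := by
    have := Nat.cast_card_eq_zero K
    rw [hR] at this
    exact_mod_cast this
  refine ⟨h3, ?_⟩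
  intro h2
  have : (1 : K) = 0 := by linear_combination h3 - h2
  exact one_ne_zero this

/-- distinct commuting long roots over `F_3` (helper72's argument) -/
theorem liftComm_ll3 (hXM : CStAB XM) (Tor : TorusC XM) (hπ : CExt π) (hcard : Nat.card K = 3)
    (a d : ι ⊕ ι) (t u : K) (x y : E) (h1 : d ≠ ng a) (hne : d ≠ a)
    (hx : π x = XM a a t) (hy : π y = XM d d u) : x * y = y * x := by
  obtain ⟨h3, h2⟩ := h58_three (K := K) hcard
  have hp3 : Fact (Nat.Prime 3) := ⟨Nat.prime_three⟩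
  have hfin : Finite K := Nat.finite_of_card_ne_zero (by rw [hcard]; norm_num)
  have hFt : Fintype K := Fintype.ofFinite K
  have hR : Fintype.card K = 3 := by rw [← Nat.card_eq_fintype_card]; exact hcard
  have hchar : CharP K 3 := charP_of_card_eq_prime hR
  have hK : ∃ l : K, l ≠ 0 ∧ l ≠ 1 := by
    refine ⟨-1, neg_ne_zero.mpr one_ne_zero, ?_⟩
    intro h
    apply h2
    linear_combination -h
  have hda' : a ≠ ng d := fun h => h1 (by rw [h, ng_ng])
  -- `XM d d u = [A, B]`
  obtain ⟨t1, ht1⟩ : ∃ t1 : K, t1 = -(2⁻¹ * om K a * u) := ⟨_, rfl⟩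
  have hAB : XM d a t1 * XM (ng a) d 1 * (XM d a t1)⁻¹ * (XM (ng a) d 1)⁻¹ = XM d d u := by
    rw [hXM.ssl d a t1 1 hne h1]
    congr 1
    rw [ht1]
    have := om_mul_self (K := K) a
    field_simp
    linear_combination u * this
  -- the lifts of `XM d d u` are `brk A B` up to the centre
  have hw : π (brk hπ (XM d a t1) (XM (ng a) d 1)) = π y := by
    rw [map_brk, hAB, hy]
  obtain ⟨z, hz, rfl⟩ := hπ.exists_mul_of_eq hw
  -- lifts commuting with `w`
  have hwlift : π (brk hπ (XM d a t1) (XM (ng a) d 1)) = XM d d u := by rw [map_brk, hAB]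
  have hZ1 : ∀ (s : K) (y' : E), π y' = XM a d s →
      y' * brk hπ (XM d a t1) (XM (ng a) d 1) = brk hπ (XM d a t1) (XM (ng a) d 1) * y' := by
    intro s y' hy'
    exact liftComm_ne hXM Tor hπ hK a d d d s u y' _ h1 (ne_ng d) h1 (ne_ng d)
      (by rintro (⟨h, -⟩ | ⟨-, h⟩) <;> exact hne h) (by rintro ⟨h, -⟩; exact hne h.symm) hy' hwlift
  have hZ2 : ∀ (s : K) (y' : E), π y' = XM d d s →
      y' * brk hπ (XM d a t1) (XM (ng a) d 1) = brk hπ (XM d a t1) (XM (ng a) d 1) * y' := by
    intro s y' hy'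
    exact liftComm_same_prime hXM hπ 3 hcard d d s u y' _ hy' hwlift
  -- conjugation by `x`
  have hgA : XM a a t * XM d a t1 * (XM a a t)⁻¹ = XM d a t1 :=
    hXM.cj_comm a a d a t t1 h1 h1 (ne_ng a) (ne_ng a)
  have hgB : XM a a t * XM (ng a) d 1 * (XM a a t)⁻¹ =
      (XM a d (-(om K a * t * 1)) * XM d d (-(t * 1 ^ 2))) * XM (ng a) d 1 := by
    rw [hXM.cj_ls a d t 1 hne h1]
  have hconj : x * brk hπ (XM d a t1) (XM (ng a) d 1) * x⁻¹ =
      brk hπ (XM d a t1) (XM (ng a) d 1) := by
    rw [conj_brk, hx, hgA, hgB, brk_mul_right]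
    -- the first factor is trivial
    have hb1 : brk hπ (XM d a t1) (XM a d (-(om K a * t * 1)) * XM d d (-(t * 1 ^ 2))) = 1 := by
      apply h58_brk_eq_one
      intro x' y' hx' hy'
      have hc1 : ∀ y'' : E, π y'' = XM a d (-(om K a * t * 1)) → y'' * x' = x' * y'' := by
        intro y'' hy''
        rw [hXM.symm a d] at hy''
        exact liftComm_same_prime hXM hπ 3 hcard d a _ t1 y'' x' hy'' hx'
      have hc2 : ∀ y'' : E, π y'' = XM d d (-(t * 1 ^ 2)) → y'' * x' = x' * y'' := by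
        intro y'' hy''
        exact (liftComm_ne hXM Tor hπ hK d a d d t1 _ x' y'' (ne_ng d) h1 (ne_ng d) h1
          (by rintro (⟨-, h⟩ | ⟨h, -⟩) <;> exact hne h) (by rintro ⟨h, -⟩; exact hne h)
          hx' hy'').symm
      exact (h58_comm_lift_mul hπ hc1 hc2 y' hy').symm
    rw [hb1, one_mul]
    -- the conjugating lift commutes with `w`
    have hcz := h58_comm_lift_mul hπ (hZ1 (-(om K a * t * 1))) (hZ2 (-(t * 1 ^ 2))) _
      (map_lft hπ (XM a d (-(om K a * t * 1)) * XM d d (-(t * 1 ^ 2))))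
    rw [hcz, mul_inv_cancel_right]
  have hxw : x * brk hπ (XM d a t1) (XM (ng a) d 1) =
      brk hπ (XM d a t1) (XM (ng a) d 1) * x := by
    calc x * brk hπ (XM d a t1) (XM (ng a) d 1)
        = (x * brk hπ (XM d a t1) (XM (ng a) d 1) * x⁻¹) * x := by group
      _ = brk hπ (XM d a t1) (XM (ng a) d 1) * x := by rw [hconj]
  have hzc := ker_comm hπ hz x
  calc x * (brk hπ (XM d a t1) (XM (ng a) d 1) * z)
      = (x * brk hπ (XM d a t1) (XM (ng a) d 1)) * z := by group
    _ = brk hπ (XM d a t1) (XM (ng a) d 1) * (x * z) := by rw [hxw]; group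
    _ = brk hπ (XM d a t1) (XM (ng a) d 1) * z * x := by rw [← hzc]; group

theorem liftComm3 (hXM : CStAB XM) (Tor : TorusC XM) (hπ : CExt π) (hcard : Nat.card K = 3) :
    LiftComm π XM := by
  obtain ⟨h3, h2⟩ := h58_three (K := K) hcard
  have hp3 : Fact (Nat.Prime 3) := ⟨Nat.prime_three⟩
  have hfin : Finite K := Nat.finite_of_card_ne_zero (by rw [hcard]; norm_num)
  have hFt : Fintype K := Fintype.ofFinite K
  have hR : Fintype.card K = 3 := by rw [← Nat.card_eq_fintype_card]; exact hcard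
  have hchar : CharP K 3 := charP_of_card_eq_prime hR
  have hK : ∃ l : K, l ≠ 0 ∧ l ≠ 1 := by
    refine ⟨-1, neg_ne_zero.mpr one_ne_zero, ?_⟩
    intro h
    apply h2
    linear_combination -h
  intro a c d e t u x y h1 h2' h3' h4 hx hy
  by_cases hsame : (d = a ∧ e = c) ∨ (d = c ∧ e = a)
  · rcases hsame with ⟨hd, he⟩ | ⟨hd, he⟩
    · rw [hd, he] at hy
      exact liftComm_same_prime hXM hπ 3 hcard a c t u x y hx hy
    · rw [hd, he, hXM.symm c a] at hy
      exact liftComm_same_prime hXM hπ 3 hcard a c t u x y hx hy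
  by_cases hll : a = c ∧ d = e
  · obtain ⟨hac, hde⟩ := hll
    rw [← hac] at hx
    rw [← hde] at hy
    have hne : d ≠ a := by
      intro h
      apply hsame
      left
      exact ⟨h, by rw [← hde, h, hac]⟩
    exact liftComm_ll3 hXM Tor hπ hcard a d t u x y h1 hne hx hy
  exact liftComm_ne hXM Tor hπ hK a c d e t u x y h1 h2' h3' h4 hsame hll hx hy

end Cfsg.Agent.Lib.Helper66_S92
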