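import Mathlib
import Cfsg.Agent.Lib.Helper66_S92LiftDefs
import Cfsg.Agent.Lib.Helper66_S92Rank
import Cfsg.Agent.Lib.Helper58_S92_LC_NE

set_option autoImplicit false
set_option linter.unusedVariables false
set_option linter.unusedSectionVars false

/-!
# S2092 (architect helper66): package REL_A2 (helper58)

The relations `comm` and `a2` for an equivariant family of lifts.
-/

namespace Cfsg.Agent.Lib.Helper66_S92

open Cfsg.Agent.Lib.Helper81_UceA Cfsg.Agent.Lib.Helper5_SteinbergA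

variable {ι : Type*} [DecidableEq ι] {K : Type*} [Field K] {S E : Type*} [Group S] [Group E]
  {π : E →* S} {XM : ι ⊕ ι → ι ⊕ ι → K → S}

theorem comm_of_liftFam (hLC : LiftComm π XM) {Y : ι ⊕ ι → ι ⊕ ι → K → E}
    (hY : LiftFam π XM Y) (a c d e : ι ⊕ ι) (t u : K) (h1 : d ≠ ng a) (h2 : d ≠ ng c)
    (h3 : e ≠ ng a) (h4 : e ≠ ng c) : Y a c t * Y d e u = Y d e u * Y a c t :=
  hLC a c d e t u (Y a c t) (Y d e u) h1 h2 h3 h4 (hY.lift a c t) (hY.lift d e u)

/-- conjugation form of a commutation -/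
theorem h58_conj_of_comm {x r : E} (h : x * r = r * x) : x * r * x⁻¹ = r := by
  rw [h, mul_inv_cancel_right]

theorem a2_of_liftFam (hXM : CStAB XM) (Tor : TorusC XM) (hπ : CExt π)
    (hK : ∃ l : K, l ≠ 0 ∧ l ≠ 1) (hLC : LiftComm π XM) {Y : ι ⊕ ι → ι ⊕ ι → K → E}
    (hY : LiftFam π XM Y) (hT : TorEq π Tor Y) (a c e : ι ⊕ ι) (t u : K)
    (h1 : a ≠ c) (h2 : a ≠ ng c) (h3 : a ≠ e) (h4 : a ≠ ng e) (h5 : c ≠ e) (h6 : c ≠ ng e) :
    Y a c t * Y (ng c) e u * (Y a c t)⁻¹ * (Y (ng c) e u)⁻¹ = Y a e (-(om K c * t * u)) := by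
  have hca' : c ≠ ng a := fun h => h2 (by rw [h, ng_ng])
  have hea' : e ≠ ng a := fun h => h4 (by rw [h, ng_ng])
  have hec' : e ≠ ng c := fun h => h6 (by rw [h, ng_ng])
  -- the defect
  obtain ⟨D, hD⟩ : ∃ D : K → E, ∀ s, D s = Y a c s * Y (ng c) e u * (Y a c s)⁻¹ *
      (Y (ng c) e u)⁻¹ * (Y a e (-(om K c * s * u)))⁻¹ := ⟨_, fun _ => rfl⟩
  have hker : ∀ s, π (D s) = 1 := by
    intro s
    rw [hD]
    simp only [map_mul, map_inv, hY.lift]
    rw [hXM.a2 a c e s u h1 h2 h3 h4 h5 h6, mul_inv_cancel]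
  -- `Y a c s` commutes with `Y a e s'`
  have hxr : ∀ s s', Y a c s * Y a e s' * (Y a c s)⁻¹ = Y a e s' := by
    intro s s'
    exact h58_conj_of_comm (comm_of_liftFam hLC hY a c a e s s' (ne_ng a) h2 hea' hec')
  have hrr : ∀ s s', Y a e s' * Y a e s * (Y a e s')⁻¹ = Y a e s := by
    intro s s'
    apply h58_conj_of_comm
    rw [hY.add, hY.add, add_comm]
  have hadd : ∀ s s' : K, D (s + s') = D s * D s' := by
    intro s s'
    have hc : Y a c s * Y (ng c) e u * (Y a c s)⁻¹ * (Y (ng c) e u)⁻¹ =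
        D s * Y a e (-(om K c * s * u)) := by
      rw [hD]
      group
    have hc' : Y a c s' * Y (ng c) e u * (Y a c s')⁻¹ * (Y (ng c) e u)⁻¹ =
        D s' * Y a e (-(om K c * s' * u)) := by
      rw [hD]
      group
    have e0 : -(om K c * (s + s') * u) = -(om K c * s * u) + -(om K c * s' * u) := by ring
    have e1 : Y a c s * (D s' * Y a e (-(om K c * s' * u))) * (Y a c s)⁻¹ =
        D s' * Y a e (-(om K c * s' * u)) := by
      calc Y a c s * (D s' * Y a e (-(om K c * s' * u))) * (Y a c s)⁻¹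
          = (Y a c s * D s' * (Y a c s)⁻¹) *
            (Y a c s * Y a e (-(om K c * s' * u)) * (Y a c s)⁻¹) := by group
        _ = D s' * Y a e (-(om K c * s' * u)) := by
          rw [h58_conj_central hπ (hker s') (Y a c s), hxr]
    have e2 : Y a e (-(om K c * s' * u)) * (D s * Y a e (-(om K c * s * u))) *
        (Y a e (-(om K c * s' * u)))⁻¹ = D s * Y a e (-(om K c * s * u)) := by
      calc Y a e (-(om K c * s' * u)) * (D s * Y a e (-(om K c * s * u))) *
            (Y a e (-(om K c * s' * u)))⁻¹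
          = (Y a e (-(om K c * s' * u)) * D s * (Y a e (-(om K c * s' * u)))⁻¹) *
            (Y a e (-(om K c * s' * u)) * Y a e (-(om K c * s * u)) *
              (Y a e (-(om K c * s' * u)))⁻¹) := by group
        _ = D s * Y a e (-(om K c * s * u)) := by
          rw [h58_conj_central hπ (hker s) _, hrr]
    have e3 : D (s + s') = D s' * D s := by
      calc D (s + s')
          = Y a c (s + s') * Y (ng c) e u * (Y a c (s + s'))⁻¹ * (Y (ng c) e u)⁻¹ *
              (Y a e (-(om K c * (s + s') * u)))⁻¹ := hD _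
        _ = (Y a c s * Y a c s') * Y (ng c) e u * (Y a c s * Y a c s')⁻¹ * (Y (ng c) e u)⁻¹ *
              (Y a e (-(om K c * s * u)) * Y a e (-(om K c * s' * u)))⁻¹ := by
          rw [hY.add a c s s', hY.add a e, ← e0]
        _ = Y a c s * (Y a c s' * Y (ng c) e u * (Y a c s')⁻¹ * (Y (ng c) e u)⁻¹) * (Y a c s)⁻¹ *
              (Y a c s * Y (ng c) e u * (Y a c s)⁻¹ * (Y (ng c) e u)⁻¹) *
              (Y a e (-(om K c * s * u)) * Y a e (-(om K c * s' * u)))⁻¹ := by group
        _ = (D s' * Y a e (-(om K c * s' * u))) * (D s * Y a e (-(om K c * s * u))) *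
              (Y a e (-(om K c * s * u)) * Y a e (-(om K c * s' * u)))⁻¹ := by
          rw [hc', hc, e1]
        _ = D s' * (Y a e (-(om K c * s' * u)) * (D s * Y a e (-(om K c * s * u))) *
              (Y a e (-(om K c * s' * u)))⁻¹) * (Y a e (-(om K c * s * u)))⁻¹ := by group
        _ = D s' * D s := by
          rw [e2]
          group
    rw [e3]
    exact ker_comm hπ (hker s') (D s)
  -- the torus element
  obtain ⟨l, hl0, hl1⟩ := hK
  obtain ⟨k, hk, hoff, hon⟩ := h58_exists_tor Tor l hl0 (idx a)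
  have hic : idx c ≠ idx a := by
    intro h
    rcases (h58_idx_eq_iff c a).mp h with h' | h'
    · exact h1 h'.symm
    · exact hca' h'
  have hie : idx e ≠ idx a := by
    intro h
    rcases (h58_idx_eq_iff e a).mp h with h' | h'
    · exact h3 h'.symm
    · exact hea' h'
  have hinc : idx (ng c) ≠ idx a := by rw [h58_idx_ng]; exact hic
  have hlam : Tor.chi k a ≠ 1 := by
    rcases hon a rfl with h | h
    · rw [h]
      exact hl1
    · rw [h]
      intro h'
      exact hl1 (inv_eq_one.mp h')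
  have hkT : π (lft hπ k) ∈ Tor.T := by rw [map_lft]; exact hk
  have hinv : ∀ s : K, D (Tor.chi k a * s) = D s := by
    intro s
    have q1 := hT (lft hπ k) hkT a c s
    have q2 := hT (lft hπ k) hkT (ng c) e u
    have q3 := hT (lft hπ k) hkT a e (-(om K c * s * u))
    rw [map_lft, hoff c hic, mul_one] at q1
    rw [map_lft, hoff (ng c) hinc, hoff e hie, mul_one, one_mul] at q2
    rw [map_lft, hoff e hie, mul_one] at q3
    have e4 : Tor.chi k a * -(om K c * s * u) = -(om K c * (Tor.chi k a * s) * u) := by ring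
    rw [e4] at q3
    have q4 : lft hπ k * D s * (lft hπ k)⁻¹ = D (Tor.chi k a * s) := by
      rw [hD s, hD (Tor.chi k a * s)]
      calc lft hπ k * (Y a c s * Y (ng c) e u * (Y a c s)⁻¹ * (Y (ng c) e u)⁻¹ *
              (Y a e (-(om K c * s * u)))⁻¹) * (lft hπ k)⁻¹
          = (lft hπ k * Y a c s * (lft hπ k)⁻¹) * (lft hπ k * Y (ng c) e u * (lft hπ k)⁻¹) *
              (lft hπ k * Y a c s * (lft hπ k)⁻¹)⁻¹ *
              (lft hπ k * Y (ng c) e u * (lft hπ k)⁻¹)⁻¹ *
              (lft hπ k * Y a e (-(om K c * s * u)) * (lft hπ k)⁻¹)⁻¹ := by group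
        _ = _ := by rw [q1, q2, q3]
    rw [← q4, h58_conj_central hπ (hker s)]
  have hfin := eq_one_of_add_of_scale D hadd hlam hinv t
  rw [hD] at hfin
  exact mul_inv_eq_one.mp hfin

end Cfsg.Agent.Lib.Helper66_S92
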