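import Mathlib
import Cfsg.Agent.Lib.Helper66_S92LiftDefs
import Cfsg.Agent.Lib.Helper66_S92Rank

set_option autoImplicit false
set_option linter.unusedVariables false
set_option linter.unusedSectionVars false

/-!
Package REL_R1 of the S2092 market (architect helper66): the rank one relations for an equivariant
family of lifts of the root elements.
-/

namespace Cfsg.Agent.Lib.Helper66_S92

open Cfsg.Agent.Lib.Helper81_UceA Cfsg.Agent.Lib.Helper5_SteinbergA

variable {ι : Type*} [DecidableEq ι] {K : Type*} [Field K] {S E : Type*} [Group S] [Group E]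
  {π : E →* S} {XM : ι ⊕ ι → ι ⊕ ι → K → S}

namespace H60R

theorem map_pairC {Y : ι ⊕ ι → ι ⊕ ι → K → E} (hY : LiftFam π XM Y) (a c : ι ⊕ ι) (b : Bool)
    (t : K) : π (pairC Y a c b t) = pairC XM a c b t := by
  cases b
  · show π (Y (ng a) (ng c) (om K c * t)) = XM (ng a) (ng c) (om K c * t)
    exact hY.lift _ _ _
  · show π (Y a c (-(om K a * t))) = XM a c (-(om K a * t))
    exact hY.lift _ _ _

theorem map_W {Y : ι ⊕ ι → ι ⊕ ι → K → E} (hY : LiftFam π XM Y) (a c : ι ⊕ ι) (b : Bool)
    (t : K) : π (W (pairC Y a c) b t) = W (pairC XM a c) b t := by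
  unfold W
  rw [map_mul, map_mul, map_pairC hY, map_pairC hY]

theorem sgC_a (a c : ι ⊕ ι) (hac : c ≠ ng a) : sgC a c a = ng c := by
  unfold sgC
  rw [if_neg (ne_ng a)]
  by_cases h : a = c
  · rw [if_pos h, h]
  · rw [if_neg h, if_neg (fun h' => hac (by rw [h', ng_ng])), if_pos rfl]

theorem sgC_c (a c : ι ⊕ ι) (hac : c ≠ ng a) : sgC a c c = ng a := by
  unfold sgC
  rw [if_neg hac, if_pos rfl]

theorem sgC_nga (a c : ι ⊕ ι) : sgC a c (ng a) = c := by
  unfold sgC
  rw [if_pos rfl]

theorem sgC_ngc (a c : ι ⊕ ι) : sgC a c (ng c) = a := by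
  unfold sgC
  by_cases h : ng c = ng a
  · rw [if_pos h]
    exact ng_injective h
  · rw [if_neg h, if_neg (ng_ne c), if_pos rfl]

theorem muC_a (a c : ι ⊕ ι) (hac : c ≠ ng a) (s : K) :
    muC a c s a = -s⁻¹ * om K a * om K c := by
  unfold muC
  rw [if_neg (ne_ng a)]
  by_cases h : a = c
  · rw [if_pos h, h, mul_assoc, om_mul_self, mul_one]
  · rw [if_neg h, if_neg (fun h' => hac (by rw [h', ng_ng])), if_pos rfl]

theorem muC_c (a c : ι ⊕ ι) (hac : c ≠ ng a) (s : K) : muC a c s c = -s⁻¹ := by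
  unfold muC
  rw [if_neg hac, if_pos rfl]

theorem muC_nga (a c : ι ⊕ ι) (s : K) : muC a c s (ng a) = s := by
  unfold muC
  rw [if_pos rfl]

theorem muC_ngc (a c : ι ⊕ ι) (s : K) : muC a c s (ng c) = s * om K a * om K c := by
  unfold muC
  by_cases h : ng c = ng a
  · rw [if_pos h, ng_injective h, mul_assoc, om_mul_self, mul_one]
  · rw [if_neg h, if_neg (ng_ne c), if_pos rfl]

end H60R

theorem rank1_of_liftFam (hXM : CSt XM) (hπ : CExt π) {Y : ι ⊕ ι → ι ⊕ ι → K → E}
    (hY : LiftFam π XM Y) (a c : ι ⊕ ι) (hac : c ≠ ng a) : Rel (pairC Y a c) := by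
  have hoa := om_mul_self (K := K) a
  have hoc := om_mul_self (K := K) c
  constructor
  · intro b t u
    cases b
    · show Y (ng a) (ng c) (om K c * t) * Y (ng a) (ng c) (om K c * u) =
        Y (ng a) (ng c) (om K c * (t + u))
      rw [hY.add, mul_add]
    · show Y a c (-(om K a * t)) * Y a c (-(om K a * u)) = Y a c (-(om K a * (t + u)))
      rw [hY.add]
      congr 1
      ring
  · intro b t u ht
    cases b
    · -- b = false
      have hs : (-t⁻¹ : K) ≠ 0 := neg_ne_zero.mpr (inv_ne_zero ht)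
      have hW : π (W (pairC Y a c) false t) = WC XM a c (-t⁻¹) := by
        rw [H60R.map_W hY]
        have e := (hXM.rank1 a c hac).W_not true hs
        rw [inv_neg, neg_neg, inv_inv] at e
        exact e
      have key := hY.weyl a c hac (-t⁻¹) hs (W (pairC Y a c) false t) hW (ng a) (ng c)
        (om K c * u)
      rw [H60R.sgC_nga, H60R.sgC_ngc, H60R.muC_nga, H60R.muC_ngc] at key
      show W (pairC Y a c) false t * Y (ng a) (ng c) (om K c * u) *
        (W (pairC Y a c) false t)⁻¹ = Y a c (-(om K a * -(t⁻¹ ^ 2 * u)))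
      rw [key, hY.symm c a]
      congr 1
      linear_combination (t⁻¹ ^ 2 * om K a * u) * hoc
    · -- b = true
      have hW : π (W (pairC Y a c) true t) = WC XM a c t := H60R.map_W hY a c true t
      have key := hY.weyl a c hac t ht (W (pairC Y a c) true t) hW a c (-(om K a * u))
      rw [H60R.sgC_a a c hac, H60R.sgC_c a c hac, H60R.muC_a a c hac, H60R.muC_c a c hac] at key
      show W (pairC Y a c) true t * Y a c (-(om K a * u)) * (W (pairC Y a c) true t)⁻¹ =
        Y (ng a) (ng c) (om K c * -(t⁻¹ ^ 2 * u))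
      rw [key, hY.symm (ng c) (ng a)]
      congr 1
      linear_combination (-(t⁻¹ ^ 2 * om K c * u)) * hoa

end Cfsg.Agent.Lib.Helper66_S92
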