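import Mathlib
import Cfsg.Agent.Lib.Helper66_S92LiftDefs
import Cfsg.Agent.Lib.Helper66_S92Rank

set_option autoImplicit false
set_option linter.unusedVariables false
set_option linter.unusedSectionVars false

/-!
Package REL_SSL4 of the S2092 market (architect helper66): the relation `ssl` (commutator of two
short root elements with a long root as sum) for an equivariant family of lifts, when the field has
a scalar `l` with `l ^ 2 ≠ 1`.
-/

namespace Cfsg.Agent.Lib.Helper66_S92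

open Cfsg.Agent.Lib.Helper81_UceA Cfsg.Agent.Lib.Helper5_SteinbergA

variable {ι : Type*} [DecidableEq ι] {K : Type*} [Field K] {S E : Type*} [Group S] [Group E]
  {π : E →* S} {XM : ι ⊕ ι → ι ⊕ ι → K → S}

namespace H60S

omit [DecidableEq ι] in
theorem idx_ne (a c : ι ⊕ ι) (h1 : a ≠ c) (h2 : a ≠ ng c) : idx a ≠ idx c := by
  intro h
  rcases a with i | i <;> rcases c with j | j
  · exact h1 (by simp only [idx, Sum.elim_inl, id] at h; rw [h])
  · exact h2 (by simp only [idx, Sum.elim_inl, Sum.elim_inr, id] at h; rw [h]; rfl)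
  · exact h2 (by simp only [idx, Sum.elim_inl, Sum.elim_inr, id] at h; rw [h]; rfl)
  · exact h1 (by simp only [idx, Sum.elim_inr, id] at h; rw [h])

/-- a torus element with prescribed character values at two indices of distinct hyperbolic pairs -/
theorem exists_tor (Tor : TorusC XM) (a c : ι ⊕ ι) (hac : idx a ≠ idx c) (la lc : Kˣ) :
    ∃ h ∈ Tor.T, Tor.chi h a = (la : K) ∧ Tor.chi h c = (lc : K) := by
  obtain ⟨h, hT, hχ⟩ := Tor.rich (fun i => if i = idx a then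
      (Sum.elim (fun _ => la) (fun _ => la⁻¹) a : Kˣ)
    else if i = idx c then (Sum.elim (fun _ => lc) (fun _ => lc⁻¹) c : Kˣ) else 1)
  refine ⟨h, hT, ?_, ?_⟩
  · rcases a with i | i
    · rw [hχ]
      simp [idx]
    · have e := Tor.chi_ng h hT (Sum.inl i)
      rw [ng_inl] at e
      rw [e, hχ]
      simp [idx]
  · rcases c with j | j
    · have hne : j ≠ idx a := fun h' => hac (by rw [← h']; rfl)
      have hj : j = idx (Sum.inl j : ι ⊕ ι) := rfl
      rw [hχ, if_neg hne, if_pos hj]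
      rfl
    · have e := Tor.chi_ng h hT (Sum.inl j)
      rw [ng_inl] at e
      have hne : j ≠ idx a := fun h' => hac (by rw [← h']; rfl)
      have hj : j = idx (Sum.inr j : ι ⊕ ι) := rfl
      rw [e, hχ, if_neg hne, if_pos hj]
      simp

/-- the group computation behind the additivity of the defect -/
theorem defect_add {x d₁ d₂ z₁ z₂ z₁₂ : E} (hd₁ : ∀ e : E, d₁ * e = e * d₁)
    (hd₂ : ∀ e : E, d₂ * e = e * d₂) (hxz : x * z₂ = z₂ * x) (hz : z₂ * z₁ = z₁₂) :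
    x * (d₂ * z₂) * x⁻¹ * (d₁ * z₁) * z₁₂⁻¹ = d₁ * d₂ := by
  have e1 : x * (d₂ * z₂) * x⁻¹ = d₂ * z₂ := by
    calc x * (d₂ * z₂) * x⁻¹ = (x * d₂) * z₂ * x⁻¹ := by group
      _ = d₂ * (x * z₂) * x⁻¹ := by rw [← hd₂ x]; group
      _ = d₂ * z₂ := by rw [hxz]; group
  rw [e1, ← hz]
  calc d₂ * z₂ * (d₁ * z₁) * (z₂ * z₁)⁻¹ = d₂ * (z₂ * d₁) * z₁ * (z₂ * z₁)⁻¹ := by group
    _ = d₂ * d₁ * (z₂ * z₁) * (z₂ * z₁)⁻¹ := by rw [← hd₁ z₂]; group
    _ = d₂ * d₁ := by group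
    _ = d₁ * d₂ := hd₂ d₁

end H60S

theorem ssl_of_liftFam4 (hXM : CStAB XM) (Tor : TorusC XM) (hπ : CExt π)
    (hK : ∃ l : K, l ≠ 0 ∧ l ^ 2 ≠ 1) (hLC : LiftComm π XM) {Y : ι ⊕ ι → ι ⊕ ι → K → E}
    (hY : LiftFam π XM Y) (hT : TorEq π Tor Y) (a c : ι ⊕ ι) (t u : K)
    (h1 : a ≠ c) (h2 : a ≠ ng c) :
    Y a c t * Y (ng c) a u * (Y a c t)⁻¹ * (Y (ng c) a u)⁻¹ = Y a a (-(2 * om K c * t * u)) := by
  obtain ⟨l, hl0, hl2⟩ := hK
  have hca : c ≠ ng a := fun h => h2 (by rw [h, ng_ng])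
  -- the defect
  have hdef : ∀ t : K, ∃ d : E, (∀ e : E, d * e = e * d) ∧
      d = Y a c t * Y (ng c) a u * (Y a c t)⁻¹ * (Y (ng c) a u)⁻¹ *
        (Y a a (-(2 * om K c * t * u)))⁻¹ := by
    intro t
    refine ⟨_, fun e => ker_comm hπ ?_ e, rfl⟩
    simp only [map_mul, map_inv, hY.lift]
    rw [hXM.ssl a c t u h1 h2, mul_inv_cancel]
  -- commutation of `Y a a s` with `Y a c t`
  have hZA : ∀ s t : K, Y a c t * Y a a s = Y a a s * Y a c t := by
    intro s t
    exact hLC a c a a t s (Y a c t) (Y a a s) (ne_ng a) h2 (ne_ng a) h2 (hY.lift _ _ _)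
      (hY.lift _ _ _)
  set D : K → E := fun t => Y a c t * Y (ng c) a u * (Y a c t)⁻¹ * (Y (ng c) a u)⁻¹ *
    (Y a a (-(2 * om K c * t * u)))⁻¹ with hD
  have hDc : ∀ t (e : E), D t * e = e * D t := by
    intro t e
    obtain ⟨d, hd, hd'⟩ := hdef t
    have : D t = d := hd'.symm
    rw [this]
    exact hd e
  have hcm : ∀ t, Y a c t * Y (ng c) a u * (Y a c t)⁻¹ * (Y (ng c) a u)⁻¹ =
      D t * Y a a (-(2 * om K c * t * u)) := by
    intro t
    rw [hD]
    group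
  have hadd : ∀ s s', D (s + s') = D s * D s' := by
    intro s s'
    have e0 : D (s + s') = Y a c (s + s') * Y (ng c) a u * (Y a c (s + s'))⁻¹ * (Y (ng c) a u)⁻¹ *
      (Y a a (-(2 * om K c * (s + s') * u)))⁻¹ := rfl
    rw [e0, ← hY.add a c s s']
    have e1 : Y a c s * Y a c s' * Y (ng c) a u * (Y a c s * Y a c s')⁻¹ * (Y (ng c) a u)⁻¹ =
        Y a c s * (Y a c s' * Y (ng c) a u * (Y a c s')⁻¹ * (Y (ng c) a u)⁻¹) * (Y a c s)⁻¹ *
          (Y a c s * Y (ng c) a u * (Y a c s)⁻¹ * (Y (ng c) a u)⁻¹) := by group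
    rw [e1, hcm s, hcm s']
    apply H60S.defect_add (hDc s) (hDc s') (hZA _ _)
    rw [hY.add]
    congr 1
    ring
  -- the torus element
  obtain ⟨k, hkT, hka, hkc⟩ := H60S.exists_tor Tor a c (H60S.idx_ne a c h1 h2)
    (Units.mk0 l hl0) (Units.mk0 l hl0)
  rw [Units.val_mk0] at hka hkc
  have hkc' : Tor.chi k (ng c) = l⁻¹ := by rw [Tor.chi_ng k hkT, hkc]
  have hinv : ∀ s, D (l ^ 2 * s) = D s := by
    intro s
    have hk : π (lft hπ k) ∈ Tor.T := by rw [map_lft]; exact hkT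
    have c1 := hT (lft hπ k) hk a c s
    have c2 := hT (lft hπ k) hk (ng c) a u
    have c3 := hT (lft hπ k) hk a a (-(2 * om K c * s * u))
    rw [map_lft, hka, hkc] at c1
    rw [map_lft, hka, hkc', inv_mul_cancel₀ hl0, one_mul] at c2
    rw [map_lft, hka] at c3
    have e1 : lft hπ k * D s * (lft hπ k)⁻¹ = D s := by
      rw [← hDc s (lft hπ k)]
      group
    have e2 : lft hπ k * D s * (lft hπ k)⁻¹ =
        (lft hπ k * Y a c s * (lft hπ k)⁻¹) * (lft hπ k * Y (ng c) a u * (lft hπ k)⁻¹) *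
        (lft hπ k * Y a c s * (lft hπ k)⁻¹)⁻¹ * (lft hπ k * Y (ng c) a u * (lft hπ k)⁻¹)⁻¹ *
        (lft hπ k * Y a a (-(2 * om K c * s * u)) * (lft hπ k)⁻¹)⁻¹ := by
      rw [hD]
      group
    rw [c1, c2, c3] at e2
    rw [← e1, e2]
    have e3 : l * l * s = l ^ 2 * s := by ring
    have e4 : l * l * -(2 * om K c * s * u) = -(2 * om K c * (l ^ 2 * s) * u) := by ring
    rw [e3, e4]
  have hone := eq_one_of_add_of_scale D hadd hl2 hinv t
  have := hcm t
  rw [hone, one_mul] at this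
  exact this

end Cfsg.Agent.Lib.Helper66_S92
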