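import Mathlib
import Cfsg.Agent.Lib.Helper66_S92Rank
import Cfsg.Agent.Lib.Helper66_StCol

set_option autoImplicit false
set_option linter.unusedVariables false
set_option linter.unusedSectionVars false

/-!
# S2092 (architect helper66): package WCJ_ALL (helper58)

Assembly of the uniform conjugation formula for the Weyl elements `WC X a c s` from the parts
`WCJParts X` and the rank one relations.
-/

namespace Cfsg.Agent.Lib.Helper66_S92

open Cfsg.Agent.Lib.Helper5_SteinbergA Cfsg.Agent.Lib.Helper66_StCalc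

variable {ι : Type*} [DecidableEq ι] {K : Type*} [Field K] {G : Type*} [Group G]
  {X : ι ⊕ ι → ι ⊕ ι → K → G}

/-! ### evaluation of `sgC`, `muC` -/

theorem h58_classify (a c d : ι ⊕ ι) :
    d = ng a ∨ d = c ∨ d = ng c ∨ d = a ∨ (d ≠ ng a ∧ d ≠ c ∧ d ≠ ng c ∧ d ≠ a) := by
  by_cases h1 : d = ng a
  · exact Or.inl h1
  by_cases h2 : d = c
  · exact Or.inr (Or.inl h2)
  by_cases h3 : d = ng c
  · exact Or.inr (Or.inr (Or.inl h3))
  by_cases h4 : d = a
  · exact Or.inr (Or.inr (Or.inr (Or.inl h4)))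
  exact Or.inr (Or.inr (Or.inr (Or.inr ⟨h1, h2, h3, h4⟩)))

theorem h58_sgC_nga (a c : ι ⊕ ι) : sgC a c (ng a) = c := if_pos rfl

theorem h58_sgC_c (a c : ι ⊕ ι) (h : c ≠ ng a) : sgC a c c = ng a := by
  unfold sgC
  rw [if_neg h, if_pos rfl]

theorem h58_sgC_ngc (a c : ι ⊕ ι) (h1 : a ≠ c) : sgC a c (ng c) = a := by
  unfold sgC
  rw [if_neg (fun h => h1 (ng_injective h).symm), if_neg (ng_ne c), if_pos rfl]

theorem h58_sgC_a (a c : ι ⊕ ι) (h1 : a ≠ c) (h2 : a ≠ ng c) : sgC a c a = ng c := by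
  unfold sgC
  rw [if_neg (ne_ng a), if_neg h1, if_neg h2, if_pos rfl]

theorem h58_sgC_out (a c d : ι ⊕ ι) (h1 : d ≠ ng a) (h2 : d ≠ c) (h3 : d ≠ ng c) (h4 : d ≠ a) :
    sgC a c d = d := by
  unfold sgC
  rw [if_neg h1, if_neg h2, if_neg h3, if_neg h4]

theorem h58_muC_nga (a c : ι ⊕ ι) (s : K) : muC a c s (ng a) = s := if_pos rfl

theorem h58_muC_c (a c : ι ⊕ ι) (s : K) (h : c ≠ ng a) : muC a c s c = -s⁻¹ := by
  unfold muC
  rw [if_neg h, if_pos rfl]

theorem h58_muC_ngc (a c : ι ⊕ ι) (s : K) (h1 : a ≠ c) :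
    muC a c s (ng c) = s * om K a * om K c := by
  unfold muC
  rw [if_neg (fun h => h1 (ng_injective h).symm), if_neg (ng_ne c), if_pos rfl]

theorem h58_muC_a (a c : ι ⊕ ι) (s : K) (h1 : a ≠ c) (h2 : a ≠ ng c) :
    muC a c s a = -s⁻¹ * om K a * om K c := by
  unfold muC
  rw [if_neg (ne_ng a), if_neg h1, if_neg h2, if_pos rfl]

theorem h58_muC_out (a c d : ι ⊕ ι) (s : K) (h1 : d ≠ ng a) (h2 : d ≠ c) (h3 : d ≠ ng c)
    (h4 : d ≠ a) : muC a c s d = 1 := by
  unfold muC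
  rw [if_neg h1, if_neg h2, if_neg h3, if_neg h4]

/-! ### the two self cases, from the rank one relations -/

theorem h58_wcj_self (h : CSt X) (a c : ι ⊕ ι) (hac : c ≠ ng a) (s : K) (hs : s ≠ 0) (u : K) :
    WC X a c s * X a c u * (WC X a c s)⁻¹ = X (ng a) (ng c) (s⁻¹ ^ 2 * om K a * om K c * u) := by
  have e1 : X a c u = pairC X a c true (-(om K a * u)) := by
    rw [pairC_true]
    congr 1
    linear_combination (-u) * om_mul_self (K := K) a
  rw [e1]
  show W (pairC X a c) true s * pairC X a c true (-(om K a * u)) * (W (pairC X a c) true s)⁻¹ = _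
  rw [(h.rank1 a c hac).conjW_t hs, pairC_false]
  congr 1
  ring

theorem h58_wcj_self' (h : CSt X) (a c : ι ⊕ ι) (hac : c ≠ ng a) (s : K) (hs : s ≠ 0) (u : K) :
    WC X a c s * X (ng a) (ng c) u * (WC X a c s)⁻¹ = X a c (s ^ 2 * om K a * om K c * u) := by
  have e1 : X (ng a) (ng c) u = pairC X a c false (om K c * u) := by
    rw [pairC_false]
    congr 1
    linear_combination (-u) * om_mul_self (K := K) c
  rw [e1]
  show W (pairC X a c) true s * pairC X a c false (om K c * u) * (W (pairC X a c) true s)⁻¹ = _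
  rw [(h.rank1 a c hac).conjW_f hs, pairC_true]
  congr 1
  ring

/-- the formula is symmetric in `d`, `e` -/
theorem h58_sym (h : CStAB X) (a c : ι ⊕ ι) (s : K) (d e : ι ⊕ ι)
    (hde : ∀ u : K, WC X a c s * X d e u * (WC X a c s)⁻¹ =
      X (sgC a c d) (sgC a c e) (muC a c s d * muC a c s e * u)) (u : K) :
    WC X a c s * X e d u * (WC X a c s)⁻¹ =
      X (sgC a c e) (sgC a c d) (muC a c s e * muC a c s d * u) := by
  rw [h.symm e d, h.symm (sgC a c e) (sgC a c d), mul_comm (muC a c s e) (muC a c s d)]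
  exact hde u

/-- a trivial element stays trivial -/
theorem h58_triv (g : G) : g * 1 * g⁻¹ = 1 := by group

/-! ### the long reflection -/

theorem h58_long (h : CSt X) (P : WCJParts X) (a : ι ⊕ ι) (s : K) (hs : s ≠ 0)
    (d e : ι ⊕ ι) (u : K) :
    WC X a a s * X d e u * (WC X a a s)⁻¹ =
      X (sgC a a d) (sgC a a e) (muC a a s d * muC a a s e * u) := by
  have hA := h.toCStAB
  have haa : a ≠ ng a := ne_ng a
  have ha2 : om K a * om K a = 1 := om_mul_self a
  -- the cases up to symmetry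
  have g_oo : ∀ d e : ι ⊕ ι, d ≠ a → d ≠ ng a → e ≠ a → e ≠ ng a → ∀ u : K,
      WC X a a s * X d e u * (WC X a a s)⁻¹ =
        X (sgC a a d) (sgC a a e) (muC a a s d * muC a a s e * u) := by
    intro d e hd1 hd2 he1 he2 u
    rw [h58_sgC_out a a d hd2 hd1 hd2 hd1, h58_sgC_out a a e he2 he1 he2 he1,
      h58_muC_out a a d s hd2 hd1 hd2 hd1, h58_muC_out a a e s he2 he1 he2 he1,
      P.disj a a d e s u hd1 hd2 hd1 hd2 he1 he2 he1 he2]
    congr 1
    ring
  have g_ao : ∀ e : ι ⊕ ι, e ≠ a → e ≠ ng a → ∀ u : K,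
      WC X a a s * X a e u * (WC X a a s)⁻¹ =
        X (sgC a a a) (sgC a a e) (muC a a s a * muC a a s e * u) := by
    intro e he1 he2 u
    rw [h58_sgC_c a a haa, h58_sgC_out a a e he2 he1 he2 he1, h58_muC_c a a s haa,
      h58_muC_out a a e s he2 he1 he2 he1, P.D1 a e s u hs he1 he2]
    congr 1
    ring
  have g_no : ∀ e : ι ⊕ ι, e ≠ a → e ≠ ng a → ∀ u : K,
      WC X a a s * X (ng a) e u * (WC X a a s)⁻¹ =
        X (sgC a a (ng a)) (sgC a a e) (muC a a s (ng a) * muC a a s e * u) := by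
    intro e he1 he2 u
    rw [h58_sgC_nga, h58_sgC_out a a e he2 he1 he2 he1, h58_muC_nga,
      h58_muC_out a a e s he2 he1 he2 he1, P.D2 a e s u hs he1 he2]
    congr 1
    ring
  have g_aa : ∀ u : K, WC X a a s * X a a u * (WC X a a s)⁻¹ =
        X (sgC a a a) (sgC a a a) (muC a a s a * muC a a s a * u) := by
    intro u
    rw [h58_sgC_c a a haa, h58_muC_c a a s haa, h58_wcj_self h a a haa s hs u]
    congr 1
    linear_combination (s⁻¹ ^ 2 * u) * ha2
  have g_nn : ∀ u : K, WC X a a s * X (ng a) (ng a) u * (WC X a a s)⁻¹ =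
        X (sgC a a (ng a)) (sgC a a (ng a)) (muC a a s (ng a) * muC a a s (ng a) * u) := by
    intro u
    rw [h58_sgC_nga, h58_muC_nga, h58_wcj_self' h a a haa s hs u]
    congr 1
    linear_combination (s ^ 2 * u) * ha2
  have g_an : ∀ u : K, WC X a a s * X a (ng a) u * (WC X a a s)⁻¹ =
        X (sgC a a a) (sgC a a (ng a)) (muC a a s a * muC a a s (ng a) * u) := by
    intro u
    rw [h58_sgC_c a a haa, h58_sgC_nga, hA.opp, hA.opp', h58_triv]
  -- classification
  have cl : ∀ d : ι ⊕ ι, d = a ∨ d = ng a ∨ (d ≠ a ∧ d ≠ ng a) := by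
    intro d
    by_cases h1 : d = a
    · exact Or.inl h1
    by_cases h2 : d = ng a
    · exact Or.inr (Or.inl h2)
    exact Or.inr (Or.inr ⟨h1, h2⟩)
  rcases cl d with hd | hd | ⟨hd1, hd2⟩ <;> rcases cl e with he | he | ⟨he1, he2⟩
  · rw [hd, he]
    exact g_aa u
  · rw [hd, he]
    exact g_an u
  · rw [hd]
    exact g_ao e he1 he2 u
  · rw [hd, he]
    exact h58_sym hA a a s a (ng a) g_an u
  · rw [hd, he]
    exact g_nn u
  · rw [hd]
    exact g_no e he1 he2 u
  · rw [he]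
    exact h58_sym hA a a s a d (g_ao d hd1 hd2) u
  · rw [he]
    exact h58_sym hA a a s (ng a) d (g_no d hd1 hd2) u
  · exact g_oo d e hd1 hd2 he1 he2 u

/-! ### the short reflection -/

theorem h58_short (h : CSt X) (P : WCJParts X) (a c : ι ⊕ ι) (hca : a ≠ c) (hac : c ≠ ng a)
    (s : K) (hs : s ≠ 0) (d e : ι ⊕ ι) (u : K) :
    WC X a c s * X d e u * (WC X a c s)⁻¹ =
      X (sgC a c d) (sgC a c e) (muC a c s d * muC a c s e * u) := by
  have hA := h.toCStAB
  have hac' : a ≠ ng c := fun h' => hac (by rw [h', ng_ng])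
  have ha2 : om K a * om K a = 1 := om_mul_self a
  have hc2 : om K c * om K c = 1 := om_mul_self c
  have hss : s⁻¹ * s = 1 := inv_mul_cancel₀ hs
  have hss' : s * s⁻¹ = 1 := mul_inv_cancel₀ hs
  -- abbreviations for the outside condition
  have g_oo : ∀ d e : ι ⊕ ι, (d ≠ ng a ∧ d ≠ c ∧ d ≠ ng c ∧ d ≠ a) →
      (e ≠ ng a ∧ e ≠ c ∧ e ≠ ng c ∧ e ≠ a) → ∀ u : K,
      WC X a c s * X d e u * (WC X a c s)⁻¹ =
        X (sgC a c d) (sgC a c e) (muC a c s d * muC a c s e * u) := by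
    rintro d e ⟨hd1, hd2, hd3, hd4⟩ ⟨he1, he2, he3, he4⟩ u
    rw [h58_sgC_out a c d hd1 hd2 hd3 hd4, h58_sgC_out a c e he1 he2 he3 he4,
      h58_muC_out a c d s hd1 hd2 hd3 hd4, h58_muC_out a c e s he1 he2 he3 he4,
      P.disj a c d e s u hd4 hd1 hd2 hd3 he4 he1 he2 he3]
    congr 1
    ring
  have g_1o : ∀ e : ι ⊕ ι, (e ≠ ng a ∧ e ≠ c ∧ e ≠ ng c ∧ e ≠ a) → ∀ u : K,
      WC X a c s * X (ng a) e u * (WC X a c s)⁻¹ =
        X (sgC a c (ng a)) (sgC a c e) (muC a c s (ng a) * muC a c s e * u) := by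
    rintro e ⟨he1, he2, he3, he4⟩ u
    rw [h58_sgC_nga, h58_sgC_out a c e he1 he2 he3 he4, h58_muC_nga,
      h58_muC_out a c e s he1 he2 he3 he4, P.A1 a c e s u hs hca hac' he4 he1 he2 he3]
    congr 1
    ring
  have g_2o : ∀ e : ι ⊕ ι, (e ≠ ng a ∧ e ≠ c ∧ e ≠ ng c ∧ e ≠ a) → ∀ u : K,
      WC X a c s * X c e u * (WC X a c s)⁻¹ =
        X (sgC a c c) (sgC a c e) (muC a c s c * muC a c s e * u) := by
    rintro e ⟨he1, he2, he3, he4⟩ u
    rw [h58_sgC_c a c hac, h58_sgC_out a c e he1 he2 he3 he4, h58_muC_c a c s hac,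
      h58_muC_out a c e s he1 he2 he3 he4, P.A2 a c e s u hs hca hac' he4 he1 he2 he3]
    congr 1
    ring
  have g_3o : ∀ e : ι ⊕ ι, (e ≠ ng a ∧ e ≠ c ∧ e ≠ ng c ∧ e ≠ a) → ∀ u : K,
      WC X a c s * X (ng c) e u * (WC X a c s)⁻¹ =
        X (sgC a c (ng c)) (sgC a c e) (muC a c s (ng c) * muC a c s e * u) := by
    rintro e ⟨he1, he2, he3, he4⟩ u
    rw [h58_sgC_ngc a c hca, h58_sgC_out a c e he1 he2 he3 he4, h58_muC_ngc a c s hca,
      h58_muC_out a c e s he1 he2 he3 he4, P.A3 a c e s u hs hca hac' he4 he1 he2 he3]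
    congr 1
    ring
  have g_4o : ∀ e : ι ⊕ ι, (e ≠ ng a ∧ e ≠ c ∧ e ≠ ng c ∧ e ≠ a) → ∀ u : K,
      WC X a c s * X a e u * (WC X a c s)⁻¹ =
        X (sgC a c a) (sgC a c e) (muC a c s a * muC a c s e * u) := by
    rintro e ⟨he1, he2, he3, he4⟩ u
    rw [h58_sgC_a a c hca hac', h58_sgC_out a c e he1 he2 he3 he4, h58_muC_a a c s hca hac',
      h58_muC_out a c e s he1 he2 he3 he4, P.A4 a c e s u hs hca hac' he4 he1 he2 he3]
    congr 1
    ring
  have g_11 : ∀ u : K, WC X a c s * X (ng a) (ng a) u * (WC X a c s)⁻¹ =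
      X (sgC a c (ng a)) (sgC a c (ng a)) (muC a c s (ng a) * muC a c s (ng a) * u) := by
    intro u
    rw [h58_sgC_nga, h58_muC_nga, P.C3 a c s u hs hca hac']
    congr 1
    ring
  have g_22 : ∀ u : K, WC X a c s * X c c u * (WC X a c s)⁻¹ =
      X (sgC a c c) (sgC a c c) (muC a c s c * muC a c s c * u) := by
    intro u
    rw [h58_sgC_c a c hac, h58_muC_c a c s hac, P.C2 a c s u hs hca hac']
    congr 1
    ring
  have g_33 : ∀ u : K, WC X a c s * X (ng c) (ng c) u * (WC X a c s)⁻¹ =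
      X (sgC a c (ng c)) (sgC a c (ng c)) (muC a c s (ng c) * muC a c s (ng c) * u) := by
    intro u
    rw [h58_sgC_ngc a c hca, h58_muC_ngc a c s hca, P.C4 a c s u hs hca hac']
    congr 1
    linear_combination (-(s ^ 2 * u * (om K c * om K c))) * ha2 + (-(s ^ 2 * u)) * hc2
  have g_44 : ∀ u : K, WC X a c s * X a a u * (WC X a c s)⁻¹ =
      X (sgC a c a) (sgC a c a) (muC a c s a * muC a c s a * u) := by
    intro u
    rw [h58_sgC_a a c hca hac', h58_muC_a a c s hca hac', P.C1 a c s u hs hca hac']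
    congr 1
    linear_combination (-(s⁻¹ ^ 2 * u * (om K c * om K c))) * ha2 + (-(s⁻¹ ^ 2 * u)) * hc2
  have g_12 : ∀ u : K, WC X a c s * X (ng a) c u * (WC X a c s)⁻¹ =
      X (sgC a c (ng a)) (sgC a c c) (muC a c s (ng a) * muC a c s c * u) := by
    intro u
    rw [h58_sgC_nga, h58_sgC_c a c hac, h58_muC_nga, h58_muC_c a c s hac,
      P.B2 a c s u hs hca hac', hA.symm c (ng a)]
    congr 1
    linear_combination u * hss'
  have g_13 : ∀ u : K, WC X a c s * X (ng a) (ng c) u * (WC X a c s)⁻¹ =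
      X (sgC a c (ng a)) (sgC a c (ng c)) (muC a c s (ng a) * muC a c s (ng c) * u) := by
    intro u
    rw [h58_sgC_nga, h58_sgC_ngc a c hca, h58_muC_nga, h58_muC_ngc a c s hca,
      h58_wcj_self' h a c hac s hs u, hA.symm c a]
    congr 1
    ring
  have g_14 : ∀ u : K, WC X a c s * X (ng a) a u * (WC X a c s)⁻¹ =
      X (sgC a c (ng a)) (sgC a c a) (muC a c s (ng a) * muC a c s a * u) := by
    intro u
    rw [h58_sgC_nga, h58_sgC_a a c hca hac', hA.opp', hA.opp, h58_triv]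
  have g_23 : ∀ u : K, WC X a c s * X c (ng c) u * (WC X a c s)⁻¹ =
      X (sgC a c c) (sgC a c (ng c)) (muC a c s c * muC a c s (ng c) * u) := by
    intro u
    rw [h58_sgC_c a c hac, h58_sgC_ngc a c hca, hA.opp, hA.opp', h58_triv]
  have g_42 : ∀ u : K, WC X a c s * X a c u * (WC X a c s)⁻¹ =
      X (sgC a c a) (sgC a c c) (muC a c s a * muC a c s c * u) := by
    intro u
    rw [h58_sgC_a a c hca hac', h58_sgC_c a c hac, h58_muC_a a c s hca hac', h58_muC_c a c s hac,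
      h58_wcj_self h a c hac s hs u, hA.symm (ng c) (ng a)]
    congr 1
    ring
  have g_43 : ∀ u : K, WC X a c s * X a (ng c) u * (WC X a c s)⁻¹ =
      X (sgC a c a) (sgC a c (ng c)) (muC a c s a * muC a c s (ng c) * u) := by
    intro u
    rw [h58_sgC_a a c hca hac', h58_sgC_ngc a c hca, h58_muC_a a c s hca hac',
      h58_muC_ngc a c s hca, P.B1 a c s u hs hca hac', hA.symm (ng c) a]
    congr 1
    linear_combination (om K a * om K a * om K c * om K c * u) * hss +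
      (om K c * om K c * u) * ha2 + u * hc2
  rcases h58_classify a c d with hd | hd | hd | hd | hd <;>
    rcases h58_classify a c e with he | he | he | he | he
  · rw [hd, he]
    exact g_11 u
  · rw [hd, he]
    exact g_12 u
  · rw [hd, he]
    exact g_13 u
  · rw [hd, he]
    exact g_14 u
  · rw [hd]
    exact g_1o e he u
  · rw [hd, he]
    exact h58_sym hA a c s (ng a) c g_12 u
  · rw [hd, he]
    exact g_22 u
  · rw [hd, he]
    exact g_23 u
  · rw [hd, he]
    exact h58_sym hA a c s a c g_42 u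
  · rw [hd]
    exact g_2o e he u
  · rw [hd, he]
    exact h58_sym hA a c s (ng a) (ng c) g_13 u
  · rw [hd, he]
    exact h58_sym hA a c s c (ng c) g_23 u
  · rw [hd, he]
    exact g_33 u
  · rw [hd, he]
    exact h58_sym hA a c s a (ng c) g_43 u
  · rw [hd]
    exact g_3o e he u
  · rw [hd, he]
    exact h58_sym hA a c s (ng a) a g_14 u
  · rw [hd, he]
    exact g_42 u
  · rw [hd, he]
    exact g_43 u
  · rw [hd, he]
    exact g_44 u
  · rw [hd]
    exact g_4o e he u
  · rw [he]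
    exact h58_sym hA a c s (ng a) d (g_1o d hd) u
  · rw [he]
    exact h58_sym hA a c s c d (g_2o d hd) u
  · rw [he]
    exact h58_sym hA a c s (ng c) d (g_3o d hd) u
  · rw [he]
    exact h58_sym hA a c s a d (g_4o d hd) u
  · exact g_oo d e hd he u

/-! ### WCJ_ALL -/

theorem wc_conj_all (h : CSt X) (P : WCJParts X) (a c : ι ⊕ ι) (hac : c ≠ ng a) (s : K) (hs : s ≠ 0)
    (d e : ι ⊕ ι) (u : K) :
    WC X a c s * X d e u * (WC X a c s)⁻¹ =
      X (sgC a c d) (sgC a c e) (muC a c s d * muC a c s e * u) := by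
  by_cases hca : a = c
  · subst hca
    exact h58_long h P a s hs d e u
  · exact h58_short h P a c hca hac s hs d e u

end Cfsg.Agent.Lib.Helper66_S92
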