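import Mathlib
import Cfsg.Agent.Lib.Helper66_S92Rank
import Cfsg.Agent.Lib.Helper66_StCol
import Cfsg.Agent.Lib.Helper58_S92_WCJ_ALL

set_option autoImplicit false
set_option linter.unusedVariables false
set_option linter.unusedSectionVars false

/-!
# S2092 (architect helper66): package TOR (helper58)

Conjugation by the torus elements `HC X a c s = WC X a c s * WC X a c (-1)`, from the conjugation
formula for the Weyl elements.
-/

namespace Cfsg.Agent.Lib.Helper66_S92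

open Cfsg.Agent.Lib.Helper5_SteinbergA Cfsg.Agent.Lib.Helper66_StCalc

variable {ι : Type*} [DecidableEq ι] {K : Type*} [Field K] {G : Type*} [Group G]
  {X : ι ⊕ ι → ι ⊕ ι → K → G}

theorem h58_chC_a (a c : ι ⊕ ι) (s : K) : chC a c s a = s := if_pos (Or.inl rfl)

theorem h58_chC_c (a c : ι ⊕ ι) (s : K) : chC a c s c = s := if_pos (Or.inr rfl)

theorem h58_chC_nga (a c : ι ⊕ ι) (s : K) (h : c ≠ ng a) : chC a c s (ng a) = s⁻¹ := by
  unfold chC
  rw [if_neg (not_or.mpr ⟨ng_ne a, fun h' => h h'.symm⟩), if_pos (Or.inl rfl)]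

theorem h58_chC_ngc (a c : ι ⊕ ι) (s : K) (h : c ≠ ng a) : chC a c s (ng c) = s⁻¹ := by
  unfold chC
  rw [if_neg (not_or.mpr ⟨fun h' => h ((ng_eq_iff c a).mp h'), ng_ne c⟩), if_pos (Or.inr rfl)]

theorem h58_chC_out (a c d : ι ⊕ ι) (s : K) (h1 : d ≠ ng a) (h2 : d ≠ c) (h3 : d ≠ ng c)
    (h4 : d ≠ a) : chC a c s d = 1 := by
  unfold chC
  rw [if_neg (not_or.mpr ⟨h4, h2⟩), if_neg (not_or.mpr ⟨h1, h3⟩)]

theorem h58_sgC_sgC (a c d : ι ⊕ ι) (hac : c ≠ ng a) : sgC a c (sgC a c d) = d := by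
  by_cases hca : a = c
  · subst hca
    by_cases h1 : d = ng a
    · rw [h1, h58_sgC_nga, h58_sgC_c a a hac]
    by_cases h2 : d = a
    · rw [h2, h58_sgC_c a a hac, h58_sgC_nga]
    · rw [h58_sgC_out a a d h1 h2 h1 h2, h58_sgC_out a a d h1 h2 h1 h2]
  · have hac' : a ≠ ng c := fun h' => hac (by rw [h', ng_ng])
    rcases h58_classify a c d with hd | hd | hd | hd | ⟨hd1, hd2, hd3, hd4⟩
    · rw [hd, h58_sgC_nga, h58_sgC_c a c hac]
    · rw [hd, h58_sgC_c a c hac, h58_sgC_nga]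
    · rw [hd, h58_sgC_ngc a c hca, h58_sgC_a a c hca hac']
    · rw [hd, h58_sgC_a a c hca hac', h58_sgC_ngc a c hca]
    · rw [h58_sgC_out a c d hd1 hd2 hd3 hd4, h58_sgC_out a c d hd1 hd2 hd3 hd4]

theorem h58_mu_mul (a c d : ι ⊕ ι) (hac : c ≠ ng a) (s : K) (hs : s ≠ 0) :
    muC a c s (sgC a c d) * muC a c (-1) d = chC a c s d := by
  have hm : ((-1 : K))⁻¹ = -1 := by rw [inv_neg, inv_one]
  have ha2 : om K a * om K a = 1 := om_mul_self a
  have hc2 : om K c * om K c = 1 := om_mul_self c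
  by_cases hca : a = c
  · subst hca
    by_cases h1 : d = ng a
    · rw [h1, h58_sgC_nga, h58_muC_c a a s hac, h58_muC_nga, h58_chC_nga a a s hac]
      ring
    by_cases h2 : d = a
    · rw [h2, h58_sgC_c a a hac, h58_muC_nga, h58_muC_c a a (-1) hac, h58_chC_a, hm]
      ring
    · rw [h58_sgC_out a a d h1 h2 h1 h2, h58_muC_out a a d s h1 h2 h1 h2,
        h58_muC_out a a d (-1) h1 h2 h1 h2, h58_chC_out a a d s h1 h2 h1 h2, mul_one]
  · have hac' : a ≠ ng c := fun h' => hac (by rw [h', ng_ng])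
    rcases h58_classify a c d with hd | hd | hd | hd | ⟨hd1, hd2, hd3, hd4⟩
    · rw [hd, h58_sgC_nga, h58_muC_c a c s hac, h58_muC_nga, h58_chC_nga a c s hac]
      ring
    · rw [hd, h58_sgC_c a c hac, h58_muC_nga, h58_muC_c a c (-1) hac, h58_chC_c, hm]
      ring
    · rw [hd, h58_sgC_ngc a c hca, h58_muC_a a c s hca hac', h58_muC_ngc a c (-1) hca,
        h58_chC_ngc a c s hac]
      linear_combination (s⁻¹ * (om K c * om K c)) * ha2 + s⁻¹ * hc2
    · rw [hd, h58_sgC_a a c hca hac', h58_muC_ngc a c s hca, h58_muC_a a c (-1) hca hac',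
        h58_chC_a, hm]
      linear_combination (s * (om K c * om K c)) * ha2 + s * hc2
    · rw [h58_sgC_out a c d hd1 hd2 hd3 hd4, h58_muC_out a c d s hd1 hd2 hd3 hd4,
        h58_muC_out a c d (-1) hd1 hd2 hd3 hd4, h58_chC_out a c d s hd1 hd2 hd3 hd4, mul_one]

/-! ## TOR : the torus -/

theorem hc_conj_all (h : CSt X)
    (hW : ∀ a c : ι ⊕ ι, c ≠ ng a → ∀ s : K, s ≠ 0 → ∀ (d e : ι ⊕ ι) (u : K),
      WC X a c s * X d e u * (WC X a c s)⁻¹ =
        X (sgC a c d) (sgC a c e) (muC a c s d * muC a c s e * u))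
    (a c : ι ⊕ ι) (hac : c ≠ ng a) (s : K) (hs : s ≠ 0)
    (d e : ι ⊕ ι) (u : K) :
    HC X a c s * X d e u * (HC X a c s)⁻¹ = X d e (chC a c s d * chC a c s e * u) := by
  have hm1 : (-1 : K) ≠ 0 := neg_ne_zero.mpr one_ne_zero
  have e1 : HC X a c s = WC X a c s * WC X a c (-1) := by
    unfold HC
    rw [h.wc_inv a c hac 1]
  rw [e1]
  have e2 : WC X a c s * WC X a c (-1) * X d e u * (WC X a c s * WC X a c (-1))⁻¹ =
      WC X a c s * (WC X a c (-1) * X d e u * (WC X a c (-1))⁻¹) * (WC X a c s)⁻¹ := by group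
  rw [e2, hW a c hac (-1) hm1 d e u, hW a c hac s hs, h58_sgC_sgC a c d hac,
    h58_sgC_sgC a c e hac]
  congr 1
  rw [← h58_mu_mul a c d hac s hs, ← h58_mu_mul a c e hac s hs]
  ring

end Cfsg.Agent.Lib.Helper66_S92
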