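import Mathlib
import Cfsg.Agent.Lib.Helper66_S92Rank

/-!
# S2092 packages T1 and RC2 (helper81; architect helper66)

`t1_all` : `HC X a c s = HC X a a s * HC X c c s` for a short root `(a, c)`.
`rc2_all` : `WC X a c t * WC X a (ng c) u = WC X a a (..) * WC X (ng c) (ng c) (..)`.
Both from the conjugation formulas `hW`, `hH` and the rank one facts of `Helper66_S92Rank`.
-/

set_option autoImplicit false
set_option linter.unusedVariables false
set_option linter.unusedSectionVars false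

namespace Cfsg.Agent.Lib.Helper66_S92

open Cfsg.Agent.Lib.Helper5_SteinbergA Cfsg.Agent.Lib.Helper66_StCalc

variable {ι : Type*} [DecidableEq ι] {K : Type*} [Field K] {G : Type*} [Group G]
  {X : ι ⊕ ι → ι ⊕ ι → K → G}

theorem h81_conj3 (g x y : G) :
    g * (x * y * x) * g⁻¹ = (g * x * g⁻¹) * (g * y * g⁻¹) * (g * x * g⁻¹) := by group

/-! ### values of `sgC`, `muC`, `chC` -/

theorem h81_sgC_ngl (a c : ι ⊕ ι) : sgC a c (ng a) = c := by
  unfold sgC; rw [if_pos rfl]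

theorem h81_sgC_r (a c : ι ⊕ ι) : sgC a c c = ng a := by
  unfold sgC
  by_cases h : c = ng a
  · rw [if_pos h]; exact h
  · rw [if_neg h, if_pos rfl]

theorem h81_sgC_ngr (a c : ι ⊕ ι) : sgC a c (ng c) = a := by
  unfold sgC
  by_cases h : ng c = ng a
  · rw [if_pos h]; exact ng_injective h
  · rw [if_neg h, if_neg (ng_ne c), if_pos rfl]

theorem h81_sgC_l (a c : ι ⊕ ι) : sgC a c a = ng c := by
  unfold sgC
  rw [if_neg (ne_ng a)]
  by_cases h : a = c
  · rw [if_pos h, h]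
  · rw [if_neg h]
    by_cases h2 : a = ng c
    · rw [if_pos h2]; exact h2
    · rw [if_neg h2, if_pos rfl]

theorem h81_muC_ngl (a c : ι ⊕ ι) (s : K) : muC a c s (ng a) = s := by
  unfold muC; rw [if_pos rfl]

theorem h81_muC_r (a c : ι ⊕ ι) (s : K) (h : c ≠ ng a) : muC a c s c = -s⁻¹ := by
  unfold muC; rw [if_neg h, if_pos rfl]

theorem h81_muC_ngr (a c : ι ⊕ ι) (s : K) (h : c ≠ a) :
    muC a c s (ng c) = s * om K a * om K c := by
  unfold muC
  rw [if_neg (fun h' => h (ng_injective h')), if_neg (ng_ne c), if_pos rfl]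

theorem h81_muC_l (a c : ι ⊕ ι) (s : K) (h1 : a ≠ c) (h2 : a ≠ ng c) :
    muC a c s a = -s⁻¹ * om K a * om K c := by
  unfold muC
  rw [if_neg (ne_ng a), if_neg h1, if_neg h2, if_pos rfl]

theorem h81_sgC_other (a c d : ι ⊕ ι) (h1 : d ≠ ng a) (h2 : d ≠ c) (h3 : d ≠ ng c) (h4 : d ≠ a) :
    sgC a c d = d := by
  unfold sgC
  rw [if_neg h1, if_neg h2, if_neg h3, if_neg h4]

theorem h81_muC_other (a c : ι ⊕ ι) (s : K) (d : ι ⊕ ι) (h1 : d ≠ ng a) (h2 : d ≠ c)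
    (h3 : d ≠ ng c) (h4 : d ≠ a) : muC a c s d = 1 := by
  unfold muC
  rw [if_neg h1, if_neg h2, if_neg h3, if_neg h4]

theorem h81_chC_l (a c : ι ⊕ ι) (s : K) : chC a c s a = s := by
  unfold chC; rw [if_pos (Or.inl rfl)]

theorem h81_chC_r (a c : ι ⊕ ι) (s : K) : chC a c s c = s := by
  unfold chC; rw [if_pos (Or.inr rfl)]

theorem h81_chC_ngl (a c : ι ⊕ ι) (s : K) (h : c ≠ ng a) : chC a c s (ng a) = s⁻¹ := by
  unfold chC
  rw [if_neg (by rintro (h' | h'); exact ng_ne a h'; exact h h'.symm), if_pos (Or.inl rfl)]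

theorem h81_chC_ngr (a c : ι ⊕ ι) (s : K) (h : c ≠ ng a) : chC a c s (ng c) = s⁻¹ := by
  unfold chC
  rw [if_neg (by
    rintro (h' | h')
    · exact h ((ng_eq_iff c a).mp h')
    · exact ng_ne c h'), if_pos (Or.inr rfl)]

theorem h81_chC_other (a c : ι ⊕ ι) (s : K) (d : ι ⊕ ι) (h1 : d ≠ a) (h2 : d ≠ c)
    (h3 : d ≠ ng a) (h4 : d ≠ ng c) : chC a c s d = 1 := by
  unfold chC
  rw [if_neg (by rintro (h' | h'); exact h1 h'; exact h2 h'),
    if_neg (by rintro (h' | h'); exact h3 h'; exact h4 h')]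

theorem h81_om_sq (a : ι ⊕ ι) : om K a ^ 2 = 1 := by
  rw [pow_two, om_mul_self]

theorem h81_om_cases (a : ι ⊕ ι) : om K a = 1 ∨ om K a = -1 := by
  cases a
  · right; rfl
  · left; rfl

/-! ### T1 -/

/-- conjugating a long Weyl element by the short Weyl element `WC X a c 1` -/
theorem h81_t1_step1 (h : CSt X)
    (hW : ∀ a c : ι ⊕ ι, c ≠ ng a → ∀ s : K, s ≠ 0 → ∀ (d e : ι ⊕ ι) (u : K),
      WC X a c s * X d e u * (WC X a c s)⁻¹ =
        X (sgC a c d) (sgC a c e) (muC a c s d * muC a c s e * u))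
    (a c : ι ⊕ ι) (hca : c ≠ a) (hac : c ≠ ng a) (l : K) (hl : l ≠ 0) :
    WC X a c 1 * WC X (ng c) (ng c) l * (WC X a c 1)⁻¹ =
      WC X a a (-(om K a * om K c * l)) := by
  rw [WC_eq X (ng c) (ng c) l, h81_conj3, hW a c hac 1 one_ne_zero (ng c) (ng c),
    hW a c hac 1 one_ne_zero (ng (ng c)) (ng (ng c)), ng_ng, h81_sgC_ngr, h81_sgC_r,
    h81_muC_ngr a c 1 hca, h81_muC_r a c 1 hac, WC_eq X a a]
  have e1 : (1 * om K a * om K c * (1 * om K a * om K c) * -(om K (ng c) * l) : K) =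
      -(om K a * -(om K a * om K c * l)) := by
    rw [om_ng]
    rcases h81_om_cases (K := K) a with ha | ha <;> rcases h81_om_cases (K := K) c with hc | hc <;>
      simp only [ha, hc] <;> ring
  have e2 : (-(1 : K)⁻¹ * -(1 : K)⁻¹ * (om K (ng c) * -l⁻¹) : K) =
      om K a * -(-(om K a * om K c * l))⁻¹ := by
    rw [om_ng]
    rcases h81_om_cases (K := K) a with ha | ha <;> rcases h81_om_cases (K := K) c with hc | hc <;>
      simp only [ha, hc] <;> field_simp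
  rw [e1, e2]

/-- conjugating the short Weyl element `WC X a c 1` by a long torus element -/
theorem h81_t1_step2
    (hH : ∀ a c : ι ⊕ ι, c ≠ ng a → ∀ s : K, s ≠ 0 → ∀ (d e : ι ⊕ ι) (u : K),
      HC X a c s * X d e u * (HC X a c s)⁻¹ = X d e (chC a c s d * chC a c s e * u))
    (a c : ι ⊕ ι) (hca : c ≠ a) (hac : c ≠ ng a) (s : K) (hs : s ≠ 0) :
    HC X (ng c) (ng c) s * WC X a c 1 * (HC X (ng c) (ng c) s)⁻¹ = WC X a c s⁻¹ := by
  have hanc : a ≠ ng c := fun h' => hac (by rw [h', ng_ng])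
  have c1 : chC (ng c) (ng c) s a = 1 :=
    h81_chC_other (ng c) (ng c) s a hanc hanc (by rw [ng_ng]; exact hca.symm)
      (by rw [ng_ng]; exact hca.symm)
  have c2 : chC (ng c) (ng c) s c = s⁻¹ := by
    have := h81_chC_ngl (ng c) (ng c) s (ne_ng (ng c))
    rwa [ng_ng] at this
  have c3 : chC (ng c) (ng c) s (ng a) = 1 :=
    h81_chC_other (ng c) (ng c) s (ng a) (fun h' => hca (ng_injective h').symm)
      (fun h' => hca (ng_injective h').symm) (by rw [ng_ng]; exact hac.symm)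
      (by rw [ng_ng]; exact hac.symm)
  have c4 : chC (ng c) (ng c) s (ng c) = s := h81_chC_l (ng c) (ng c) s
  rw [WC_eq X a c 1, h81_conj3, hH (ng c) (ng c) (ne_ng (ng c)) s hs a c,
    hH (ng c) (ng c) (ne_ng (ng c)) s hs (ng a) (ng c), c1, c2, c3, c4, WC_eq X a c s⁻¹]
  have e1 : (1 * s⁻¹ * -(om K a * 1) : K) = -(om K a * s⁻¹) := by ring
  have e2 : (1 * s * (om K c * -(1 : K)⁻¹) : K) = om K c * -s⁻¹⁻¹ := by
    rw [inv_inv, inv_one]; ring
  rw [e1, e2]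

theorem t1_all [Finite K] (h : CSt X)
    (hW : ∀ a c : ι ⊕ ι, c ≠ ng a → ∀ s : K, s ≠ 0 → ∀ (d e : ι ⊕ ι) (u : K),
      WC X a c s * X d e u * (WC X a c s)⁻¹ =
        X (sgC a c d) (sgC a c e) (muC a c s d * muC a c s e * u))
    (hH : ∀ a c : ι ⊕ ι, c ≠ ng a → ∀ s : K, s ≠ 0 → ∀ (d e : ι ⊕ ι) (u : K),
      HC X a c s * X d e u * (HC X a c s)⁻¹ = X d e (chC a c s d * chC a c s e * u))
    (a c : ι ⊕ ι) (hca : c ≠ a) (hac : c ≠ ng a) (s : K)
    (hs : s ≠ 0) : HC X a c s = HC X a a s * HC X c c s := by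
  have hκ : (-(om K a * om K c) : K) ≠ 0 :=
    neg_ne_zero.mpr (mul_ne_zero (om_ne_zero a) (om_ne_zero c))
  -- `n H n⁻¹` computed in two ways
  have hA : WC X a c 1 * HC X (ng c) (ng c) s * (WC X a c 1)⁻¹ = HC X a a s := by
    have e : WC X a c 1 * HC X (ng c) (ng c) s * (WC X a c 1)⁻¹ =
        (WC X a c 1 * WC X (ng c) (ng c) s * (WC X a c 1)⁻¹) *
          (WC X a c 1 * WC X (ng c) (ng c) 1 * (WC X a c 1)⁻¹)⁻¹ := by
      unfold HC; group
    rw [e, h81_t1_step1 h hW a c hca hac s hs, h81_t1_step1 h hW a c hca hac 1 one_ne_zero,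
      h.wc_mul_inv a a (ne_ng a) _ _ (neg_ne_zero.mpr (mul_ne_zero
        (mul_ne_zero (om_ne_zero a) (om_ne_zero c)) hs)) (neg_ne_zero.mpr (mul_ne_zero
        (mul_ne_zero (om_ne_zero a) (om_ne_zero c)) one_ne_zero))]
    congr 1
    have h0 : (om K a * om K c : K) ≠ 0 := mul_ne_zero (om_ne_zero a) (om_ne_zero c)
    rw [mul_one, inv_neg, neg_mul_neg, mul_comm (om K a * om K c) s, mul_assoc,
      mul_inv_cancel₀ h0, mul_one]
  have hB : WC X a c 1 * HC X (ng c) (ng c) s * (WC X a c 1)⁻¹ =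
      HC X a c s * HC X (ng c) (ng c) s := by
    have e : WC X a c 1 * HC X (ng c) (ng c) s * (WC X a c 1)⁻¹ =
        WC X a c 1 * (HC X (ng c) (ng c) s * WC X a c 1 * (HC X (ng c) (ng c) s)⁻¹)⁻¹ *
          HC X (ng c) (ng c) s := by group
    rw [e, h81_t1_step2 hH a c hca hac s hs,
      h.wc_mul_inv a c hac 1 s⁻¹ one_ne_zero (inv_ne_zero hs), inv_inv, one_mul]
  rw [hA, h.hc_ng c c (ne_ng c) s hs, ← h.hc_inv c c (ne_ng c) s hs] at hB
  rw [hB]
  group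

/-! ### RC2 -/

/-- the long reflection `WC X c c 1` maps the root of `X a c` to the root of `X a (ng c)` -/
theorem h81_rc2_step1 (h : CSt X)
    (hW : ∀ a c : ι ⊕ ι, c ≠ ng a → ∀ s : K, s ≠ 0 → ∀ (d e : ι ⊕ ι) (u : K),
      WC X a c s * X d e u * (WC X a c s)⁻¹ =
        X (sgC a c d) (sgC a c e) (muC a c s d * muC a c s e * u))
    (a c : ι ⊕ ι) (hca : c ≠ a) (hac : c ≠ ng a) (v : K) (hv : v ≠ 0) :
    WC X c c 1 * WC X a c v * (WC X c c 1)⁻¹ = WC X a (ng c) (-v) := by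
  have hanc : a ≠ ng c := fun h' => hac (by rw [h', ng_ng])
  have hnanc : ng a ≠ ng c := fun h' => hca (ng_injective h').symm
  have s1 : sgC c c a = a := h81_sgC_other c c a hanc hca.symm hanc hca.symm
  have s2 : sgC c c (ng a) = ng a := h81_sgC_other c c (ng a) hnanc hac.symm hnanc hac.symm
  have m1 : muC c c (1 : K) a = 1 := h81_muC_other c c 1 a hanc hca.symm hanc hca.symm
  have m2 : muC c c (1 : K) (ng a) = 1 :=
    h81_muC_other c c 1 (ng a) hnanc hac.symm hnanc hac.symm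
  rw [WC_eq X a c v, h81_conj3, hW c c (ne_ng c) 1 one_ne_zero a c,
    hW c c (ne_ng c) 1 one_ne_zero (ng a) (ng c), s1, s2, h81_sgC_r, h81_sgC_ngl, m1, m2,
    h81_muC_r c c 1 (ne_ng c), h81_muC_ngl, WC_eq X a (ng c) (-v), ng_ng, om_ng]
  have e1 : (1 * -(1 : K)⁻¹ * -(om K a * v) : K) = -(om K a * -v) := by
    rw [inv_one]; ring
  have e2 : (1 * 1 * (om K c * -v⁻¹) : K) = -om K c * -(-v)⁻¹ := by
    rw [inv_neg]; ring
  rw [e1, e2]

/-- the short reflection `WC X a c t` maps the long root of `X c c` to the one of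
`X (ng a) (ng a)` -/
theorem h81_rc2_step2 (h : CSt X)
    (hW : ∀ a c : ι ⊕ ι, c ≠ ng a → ∀ s : K, s ≠ 0 → ∀ (d e : ι ⊕ ι) (u : K),
      WC X a c s * X d e u * (WC X a c s)⁻¹ =
        X (sgC a c d) (sgC a c e) (muC a c s d * muC a c s e * u))
    (a c : ι ⊕ ι) (hca : c ≠ a) (hac : c ≠ ng a) (t : K) (ht : t ≠ 0) :
    WC X a c t * WC X c c 1 * (WC X a c t)⁻¹ =
      WC X (ng a) (ng a) (-(om K a * om K c * (t⁻¹) ^ 2)) := by
  rw [WC_eq X c c 1, h81_conj3, hW a c hac t ht c c, hW a c hac t ht (ng c) (ng c),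
    h81_sgC_r, h81_sgC_ngr, h81_muC_r a c t hac, h81_muC_ngr a c t hca,
    WC_eq X (ng a) (ng a), ng_ng, om_ng]
  have e1 : (-t⁻¹ * -t⁻¹ * -(om K c * 1) : K) =
      -(-om K a * -(om K a * om K c * t⁻¹ ^ 2)) := by
    rcases h81_om_cases (K := K) a with ha | ha <;> rcases h81_om_cases (K := K) c with hc | hc <;>
      simp only [ha, hc] <;> ring
  have e2 : (t * om K a * om K c * (t * om K a * om K c) * (om K c * -(1 : K)⁻¹) : K) =
      -om K a * -(-(om K a * om K c * t⁻¹ ^ 2))⁻¹ := by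
    rcases h81_om_cases (K := K) a with ha | ha <;> rcases h81_om_cases (K := K) c with hc | hc <;>
      simp only [ha, hc] <;> field_simp
  rw [e1, e2]

theorem rc2_all [Finite K] (h : CSt X)
    (hW : ∀ a c : ι ⊕ ι, c ≠ ng a → ∀ s : K, s ≠ 0 → ∀ (d e : ι ⊕ ι) (u : K),
      WC X a c s * X d e u * (WC X a c s)⁻¹ =
        X (sgC a c d) (sgC a c e) (muC a c s d * muC a c s e * u))
    (hH : ∀ a c : ι ⊕ ι, c ≠ ng a → ∀ s : K, s ≠ 0 → ∀ (d e : ι ⊕ ι) (u : K),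
      HC X a c s * X d e u * (HC X a c s)⁻¹ = X d e (chC a c s d * chC a c s e * u))
    (hT1 : ∀ a c : ι ⊕ ι, c ≠ a → c ≠ ng a → ∀ s : K, s ≠ 0 →
      HC X a c s = HC X a a s * HC X c c s)
    (a c : ι ⊕ ι) (hca : c ≠ a) (hac : c ≠ ng a) (t u : K)
    (ht : t ≠ 0) (hu : u ≠ 0) :
    WC X a c t * WC X a (ng c) u =
      WC X a a (om K a * om K c * u * t) * WC X (ng c) (ng c) (u * t⁻¹) := by
  have h0 : (om K a * om K c : K) ≠ 0 := mul_ne_zero (om_ne_zero a) (om_ne_zero c)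
  have hB : WC X a (ng c) u = WC X c c 1 * WC X a c (-u) * (WC X c c 1)⁻¹ := by
    rw [h81_rc2_step1 h hW a c hca hac (-u) (neg_ne_zero.mpr hu), neg_neg]
  have hr : (-(om K a * om K c * (t⁻¹) ^ 2) : K) ≠ 0 :=
    neg_ne_zero.mpr (mul_ne_zero h0 (pow_ne_zero 2 (inv_ne_zero ht)))
  have htu : t * u⁻¹ ≠ 0 := mul_ne_zero ht (inv_ne_zero hu)
  have hut : u * t⁻¹ ≠ 0 := mul_ne_zero hu (inv_ne_zero ht)
  have e : WC X a c t * WC X a (ng c) u =
      (WC X a c t * WC X c c 1 * (WC X a c t)⁻¹) * (WC X a c t * (WC X a c u)⁻¹) *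
        (WC X c c 1)⁻¹ := by
    rw [hB, h.wc_inv a c hac u]; group
  have e2 : ∀ (w1 h1 h2 w2 : G), w1 * (h1 * h2) * w2 = (w1 * h1) * (h2 * w2) := by
    intros; group
  have hx : (-(om K a * om K a * (-(om K a * om K c * (t⁻¹) ^ 2))⁻¹) : K) ≠ 0 :=
    neg_ne_zero.mpr (mul_ne_zero (mul_ne_zero (om_ne_zero a) (om_ne_zero a)) (inv_ne_zero hr))
  rw [e, h81_rc2_step2 h hW a c hca hac t ht, h.wc_mul_inv a c hac t u ht hu,
    hT1 a c hca hac (t * u⁻¹) htu, h.wc_ng a a (ne_ng a) _ hr, h.wc_inv c c (ne_ng c) 1,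
    h.wc_ng c c (ne_ng c) (u * t⁻¹) hut, e2,
    h.wc_mul_hc a a (ne_ng a) _ _ hx htu,
    h.hc_mul_wc c c (ne_ng c) _ _ (neg_ne_zero.mpr one_ne_zero) htu]
  congr 2
  · rcases h81_om_cases (K := K) a with ha | ha <;> rcases h81_om_cases (K := K) c with hc | hc <;>
      simp only [ha, hc] <;> field_simp
  · rcases h81_om_cases (K := K) c with hc | hc <;>
      simp only [hc] <;> field_simp

end Cfsg.Agent.Lib.Helper66_S92
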