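import Mathlib
import Cfsg.Agent.Lib.Helper66_S92LiftDefs
import Cfsg.Agent.Lib.Helper66_S92Rank
import Cfsg.Agent.Lib.Helper58_S92_LC_NE
import Cfsg.Agent.Lib.Helper58_S92_TOR
import Cfsg.Agent.Lib.Helper81_S92_T1RC2

/-!
# S2092 package LF4 (helper81; architect helper66): canonical equivariant lifts through the torus

For a root `(a, c)` and `h` in the torus put `ψ_h(t) = brk h (XM a c t)`, a lift of
`XM a c ((α(h) - 1) t)`, `α(h) = chi h a * chi h c`.  It is additive and `ψ_h((α(k) - 1) t) =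
ψ_k((α(h) - 1) t)`.  A family `Y` is *canonical* on a root if `brk k (XM a c t) =
Y a c ((α(k) - 1) t)` for all `k` in the torus; canonical families are equivariant under the torus and
the Weyl elements.
-/

set_option autoImplicit false
set_option linter.unusedVariables false
set_option linter.unusedSectionVars false

namespace Cfsg.Agent.Lib.Helper66_S92

open Cfsg.Agent.Lib.Helper81_UceA Cfsg.Agent.Lib.Helper5_SteinbergA

variable {ι : Type*} [DecidableEq ι] {K : Type*} [Field K] {S E : Type*} [Group S] [Group E]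
  {π : E →* S} {XM : ι ⊕ ι → ι ⊕ ι → K → S}

/-! ### the maps `ψ_h` -/

/-- `ψ_h(t)` lifts `XM a c ((α(h) - 1) t)` -/
theorem h81_map_psi (hXM : CStAB XM) (Tor : TorusC XM) (hπ : CExt π) (a c : ι ⊕ ι)
    (h : S) (hh : h ∈ Tor.T) (t : K) :
    π (brk hπ h (XM a c t)) = XM a c ((Tor.chi h a * Tor.chi h c - 1) * t) := by
  rw [map_brk, Tor.conj h hh, hXM.X_inv, hXM.add]
  congr 1
  ring

/-- same root lifts commute (from `LiftComm`) -/
theorem h81_lc_same (hLC : LiftComm π XM) (a c : ι ⊕ ι) (hac : c ≠ ng a) (t u : K) (x y : E)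
    (hx : π x = XM a c t) (hy : π y = XM a c u) : x * y = y * x :=
  hLC a c a c t u x y (ne_ng a) (fun h' => hac (by rw [h', ng_ng])) hac (ne_ng c) hx hy

/-- `ψ_h` is additive -/
theorem h81_psi_add (hXM : CStAB XM) (Tor : TorusC XM) (hπ : CExt π) (hLC : LiftComm π XM)
    (a c : ι ⊕ ι) (hac : c ≠ ng a) (h : S) (hh : h ∈ Tor.T) (t u : K) :
    brk hπ h (XM a c (t + u)) = brk hπ h (XM a c t) * brk hπ h (XM a c u) := by
  rw [← hXM.add a c t u, brk_mul_right]
  congr 1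
  have hc := h81_lc_same hLC a c hac t _ (lft hπ (XM a c t)) (brk hπ h (XM a c u))
    (map_lft hπ _) (h81_map_psi hXM Tor hπ a c h hh u)
  rw [hc, mul_inv_cancel_right]

theorem h81_psi_zero (hXM : CStAB XM) (Tor : TorusC XM) (hπ : CExt π) (hLC : LiftComm π XM)
    (a c : ι ⊕ ι) (hac : c ≠ ng a) (h : S) (hh : h ∈ Tor.T) :
    brk hπ h (XM a c 0) = 1 := by
  have := h81_psi_add hXM Tor hπ hLC a c hac h hh 0 0
  rw [add_zero] at this
  exact mul_eq_left.mp this.symm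

theorem h81_psi_neg (hXM : CStAB XM) (Tor : TorusC XM) (hπ : CExt π) (hLC : LiftComm π XM)
    (a c : ι ⊕ ι) (hac : c ≠ ng a) (h : S) (hh : h ∈ Tor.T) (t : K) :
    brk hπ h (XM a c (-t)) = (brk hπ h (XM a c t))⁻¹ := by
  rw [eq_inv_iff_mul_eq_one, ← h81_psi_add hXM Tor hπ hLC a c hac h hh, neg_add_cancel,
    h81_psi_zero hXM Tor hπ hLC a c hac h hh]

/-- conjugating `ψ_h(t)` by a lift of a torus element -/
theorem h81_psi_conj (Tor : TorusC XM) (hπ : CExt π) (a c : ι ⊕ ι)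
    (h : S) (hh : h ∈ Tor.T) (e : E) (he : π e ∈ Tor.T) (t : K) :
    e * brk hπ h (XM a c t) * e⁻¹ =
      brk hπ h (XM a c (Tor.chi (π e) a * Tor.chi (π e) c * t)) := by
  rw [conj_brk, Tor.conj (π e) he, Tor.comm (π e) he h hh, mul_inv_cancel_right]

/-- independence of the torus element -/
theorem h81_psi_indep (hXM : CStAB XM) (Tor : TorusC XM) (hπ : CExt π) (hLC : LiftComm π XM)
    (a c : ι ⊕ ι) (hac : c ≠ ng a) (h k : S) (hh : h ∈ Tor.T) (hk : k ∈ Tor.T) (t : K) :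
    brk hπ h (XM a c ((Tor.chi k a * Tor.chi k c - 1) * t)) =
      brk hπ k (XM a c ((Tor.chi h a * Tor.chi h c - 1) * t)) := by
  have h1 := h81_psi_conj Tor hπ a c h hh (lft hπ k) (by rw [map_lft]; exact hk) t
  rw [map_lft] at h1
  have h2 := brk_eq' hπ (map_lft hπ k) (h81_map_psi hXM Tor hπ a c h hh t)
  rw [h1] at h2
  have e1 : (Tor.chi k a * Tor.chi k c - 1) * t = Tor.chi k a * Tor.chi k c * t + -t := by ring
  rw [e1, h81_psi_add hXM Tor hπ hLC a c hac h hh, h81_psi_neg hXM Tor hπ hLC a c hac h hh]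
  exact h2

/-! ### canonical families -/

/-- `Y` is canonical on the root `(a, c)` -/
def h81_Canon (hπ : CExt π) (Tor : TorusC XM) (Y : ι ⊕ ι → ι ⊕ ι → K → E) (a c : ι ⊕ ι) : Prop :=
  ∀ k ∈ Tor.T, ∀ t : K, brk hπ k (XM a c t) = Y a c ((Tor.chi k a * Tor.chi k c - 1) * t)

/-- a torus element not in the kernel of a (nondegenerate) root -/
theorem h81_exists_tor_ne (Tor : TorusC XM) (hK : ∃ l : K, l ≠ 0 ∧ l ^ 2 ≠ 1) (a c : ι ⊕ ι)
    (hac : c ≠ ng a) : ∃ h ∈ Tor.T, Tor.chi h a * Tor.chi h c ≠ 1 := by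
  obtain ⟨l, hl0, hl2⟩ := hK
  have hl1 : l ≠ 1 := fun h' => hl2 (by rw [h', one_pow])
  have hli1 : l⁻¹ ≠ 1 := fun h' => hl1 (inv_eq_one.mp h')
  have hli2 : l⁻¹ * l⁻¹ ≠ 1 := by
    intro h'
    apply hl2
    have : (l * l)⁻¹ = 1 := by rw [mul_inv]; exact h'
    rw [pow_two]
    exact inv_eq_one.mp this
  obtain ⟨k, hk, hoff, hon⟩ := h58_exists_tor Tor l hl0 (idx a)
  refine ⟨k, hk, ?_⟩
  by_cases hc : idx c = idx a
  · have hca : c = a := by
      rcases (h58_idx_eq_iff c a).mp hc with h' | h'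
      · exact h'
      · exact absurd h' hac
    rw [hca]
    rcases hon a rfl with h' | h'
    · rw [h', ← pow_two]; exact hl2
    · rw [h']; exact hli2
  · rw [hoff c hc, mul_one]
    rcases hon a rfl with h' | h'
    · rw [h']; exact hl1
    · rw [h']; exact hli1

/-- a canonical `Y` on a root from one torus element -/
theorem h81_canon_of_eq (hXM : CStAB XM) (Tor : TorusC XM) (hπ : CExt π) (hLC : LiftComm π XM)
    (Y : ι ⊕ ι → ι ⊕ ι → K → E) (a c : ι ⊕ ι) (hac : c ≠ ng a) (h : S) (hh : h ∈ Tor.T)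
    (hne : Tor.chi h a * Tor.chi h c ≠ 1)
    (hY : ∀ t, Y a c t = brk hπ h (XM a c ((Tor.chi h a * Tor.chi h c - 1)⁻¹ * t))) :
    h81_Canon hπ Tor Y a c := by
  intro k hk t
  have h0 : Tor.chi h a * Tor.chi h c - 1 ≠ 0 := sub_ne_zero.mpr hne
  rw [hY]
  have e1 : (Tor.chi h a * Tor.chi h c - 1)⁻¹ * ((Tor.chi k a * Tor.chi k c - 1) * t) =
      (Tor.chi k a * Tor.chi k c - 1) * ((Tor.chi h a * Tor.chi h c - 1)⁻¹ * t) := by ring
  rw [e1, h81_psi_indep hXM Tor hπ hLC a c hac h k hh hk, ← mul_assoc, mul_inv_cancel₀ h0,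
    one_mul]

/-- the degenerate root: `brk k 1 = 1` -/
theorem h81_brk_one_right (hπ : CExt π) (g : S) : brk hπ g 1 = 1 := by
  have h1 : π (1 : E) = 1 := map_one π
  rw [← brk_eq' hπ (map_lft hπ g) h1]
  group

section canon

variable (hXM : CStAB XM) (Tor : TorusC XM) (hπ : CExt π) (hLC : LiftComm π XM)
  {Y : ι ⊕ ι → ι ⊕ ι → K → E}

include hXM hLC in
/-- a canonical family lifts the root elements -/
theorem h81_canon_lift (a c : ι ⊕ ι) (hac : c ≠ ng a) (hY : h81_Canon hπ Tor Y a c)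
    (h : S) (hh : h ∈ Tor.T) (hne : Tor.chi h a * Tor.chi h c ≠ 1) (t : K) :
    π (Y a c t) = XM a c t := by
  have h0 : Tor.chi h a * Tor.chi h c - 1 ≠ 0 := sub_ne_zero.mpr hne
  have h1 := hY h hh ((Tor.chi h a * Tor.chi h c - 1)⁻¹ * t)
  rw [← mul_assoc, mul_inv_cancel₀ h0, one_mul] at h1
  rw [← h1, h81_map_psi hXM Tor hπ a c h hh, ← mul_assoc, mul_inv_cancel₀ h0, one_mul]

include hXM hLC in
theorem h81_canon_add (a c : ι ⊕ ι) (hac : c ≠ ng a) (hY : h81_Canon hπ Tor Y a c)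
    (h : S) (hh : h ∈ Tor.T) (hne : Tor.chi h a * Tor.chi h c ≠ 1) (t u : K) :
    Y a c t * Y a c u = Y a c (t + u) := by
  have h0 : Tor.chi h a * Tor.chi h c - 1 ≠ 0 := sub_ne_zero.mpr hne
  have key : ∀ s : K, Y a c s = brk hπ h (XM a c ((Tor.chi h a * Tor.chi h c - 1)⁻¹ * s)) := by
    intro s
    have h1 := hY h hh ((Tor.chi h a * Tor.chi h c - 1)⁻¹ * s)
    rw [← mul_assoc, mul_inv_cancel₀ h0, one_mul] at h1
    exact h1.symm
  rw [key t, key u, key (t + u), mul_add, h81_psi_add hXM Tor hπ hLC a c hac h hh]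

include hXM in
/-- a canonical family is equivariant under the torus -/
theorem h81_canon_tor (a c : ι ⊕ ι) (hY : h81_Canon hπ Tor Y a c)
    (h : S) (hh : h ∈ Tor.T) (hne : Tor.chi h a * Tor.chi h c ≠ 1) (e : E) (he : π e ∈ Tor.T)
    (t : K) : e * Y a c t * e⁻¹ = Y a c (Tor.chi (π e) a * Tor.chi (π e) c * t) := by
  have h0 : Tor.chi h a * Tor.chi h c - 1 ≠ 0 := sub_ne_zero.mpr hne
  have key : ∀ s : K, Y a c s = brk hπ h (XM a c ((Tor.chi h a * Tor.chi h c - 1)⁻¹ * s)) := by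
    intro s
    have h1 := hY h hh ((Tor.chi h a * Tor.chi h c - 1)⁻¹ * s)
    rw [← mul_assoc, mul_inv_cancel₀ h0, one_mul] at h1
    exact h1.symm
  rw [key t, key, h81_psi_conj Tor hπ a c h hh e he]
  congr 2
  ring

/-- two canonical families agree on a root -/
theorem h81_canon_unique {Y' : ι ⊕ ι → ι ⊕ ι → K → E} (a c a' c' : ι ⊕ ι)
    (hXeq : ∀ t, XM a c t = XM a' c' t)
    (hY : h81_Canon hπ Tor Y a c) (hY' : h81_Canon hπ Tor Y' a' c')
    (h : S) (hh : h ∈ Tor.T) (hne : Tor.chi h a * Tor.chi h c ≠ 1)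
    (hχ : Tor.chi h a * Tor.chi h c = Tor.chi h a' * Tor.chi h c') (t : K) :
    Y a c t = Y' a' c' t := by
  have h0 : Tor.chi h a * Tor.chi h c - 1 ≠ 0 := sub_ne_zero.mpr hne
  have h1 := hY h hh ((Tor.chi h a * Tor.chi h c - 1)⁻¹ * t)
  have h2 := hY' h hh ((Tor.chi h a * Tor.chi h c - 1)⁻¹ * t)
  rw [← hχ, ← hXeq, h1] at h2
  rw [← mul_assoc, mul_inv_cancel₀ h0, one_mul] at h2
  exact h2

end canon

/-! ### equivariance under the Weyl elements, assembly -/

theorem h81_sgC_ng (p r d : ι ⊕ ι) : sgC p r (ng d) = ng (sgC p r d) := by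
  rcases h58_classify p r d with hd | hd | hd | hd | ⟨hd1, hd2, hd3, hd4⟩
  · rw [hd, ng_ng, h81_sgC_l, h81_sgC_ngl]
  · rw [hd, h81_sgC_ngr, h81_sgC_r, ng_ng]
  · rw [hd, ng_ng, h81_sgC_r, h81_sgC_ngr]
  · rw [hd, h81_sgC_ngl, h81_sgC_l, ng_ng]
  · rw [h81_sgC_other p r d hd1 hd2 hd3 hd4, h81_sgC_other p r (ng d)
      (fun h' => hd4 (ng_injective h')) (fun h' => hd3 (by rw [← h', ng_ng]))
      (fun h' => hd2 (ng_injective h')) (fun h' => hd1 (by rw [← h', ng_ng]))]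

/-- a canonical family is equivariant under the Weyl elements -/
theorem h81_canon_weyl (hXM : CStAB XM) (C : WCalc XM) (Tor : TorusC XM) (hπ : CExt π)
    {Y : ι ⊕ ι → ι ⊕ ι → K → E} (p r : ι ⊕ ι) (hpr : r ≠ ng p) (s : K) (hs : s ≠ 0)
    (e : E) (he : π e = WC XM p r s) (a c : ι ⊕ ι)
    (hY : h81_Canon hπ Tor Y a c) (hY' : h81_Canon hπ Tor Y (sgC p r a) (sgC p r c))
    (h : S) (hh : h ∈ Tor.T) (hne : Tor.chi h a * Tor.chi h c ≠ 1) (t : K) :
    e * Y a c t * e⁻¹ = Y (sgC p r a) (sgC p r c) (muC p r s a * muC p r s c * t) := by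
  have h0 : Tor.chi h a * Tor.chi h c - 1 ≠ 0 := sub_ne_zero.mpr hne
  have key : ∀ s : K, Y a c s = brk hπ h (XM a c ((Tor.chi h a * Tor.chi h c - 1)⁻¹ * s)) := by
    intro s
    have h1 := hY h hh ((Tor.chi h a * Tor.chi h c - 1)⁻¹ * s)
    rw [← mul_assoc, mul_inv_cancel₀ h0, one_mul] at h1
    exact h1.symm
  obtain ⟨hT', hχ'⟩ := Tor.weyl p r hpr s hs h hh
  rw [key t, conj_brk, he, C.wc_conj p r hpr s hs, hY' _ hT', hχ' a, hχ' c]
  congr 1
  have : (Tor.chi h a * Tor.chi h c - 1) *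
      (muC p r s a * muC p r s c * ((Tor.chi h a * Tor.chi h c - 1)⁻¹ * t)) =
      ((Tor.chi h a * Tor.chi h c - 1) * (Tor.chi h a * Tor.chi h c - 1)⁻¹) *
        (muC p r s a * muC p r s c * t) := by ring
  rw [this, mul_inv_cancel₀ h0, one_mul]

/-- a family which is canonical on all nondegenerate roots (and trivial on the degenerate ones) is
an equivariant family of lifts, provided the torus separates every nondegenerate root -/
theorem h81_liftFam_of_canon (hXM : CStAB XM) (C : WCalc XM) (Tor : TorusC XM) (hπ : CExt π)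
    (hLC : LiftComm π XM) (Y : ι ⊕ ι → ι ⊕ ι → K → E)
    (hsel : ∀ a c : ι ⊕ ι, c ≠ ng a → ∃ h ∈ Tor.T, Tor.chi h a * Tor.chi h c ≠ 1)
    (hdeg : ∀ a t, Y a (ng a) t = 1)
    (hcan : ∀ a c : ι ⊕ ι, c ≠ ng a → h81_Canon hπ Tor Y a c) :
    LiftFam π XM Y ∧ TorEq π Tor Y := by
  have hdeg' : ∀ a c t, c = ng a → Y a c t = 1 := by
    intro a c t h'; rw [h']; exact hdeg a t
  refine ⟨⟨?_, ?_, ?_, hdeg, ?_⟩, ?_⟩
  · intro a c t
    by_cases hac : c = ng a
    · rw [hdeg' a c t hac, hac, hXM.opp, map_one]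
    · obtain ⟨h, hh, hne⟩ := hsel a c hac
      exact h81_canon_lift hXM Tor hπ hLC a c hac (hcan a c hac) h hh hne t
  · intro a c t u
    by_cases hac : c = ng a
    · rw [hdeg' a c t hac, hdeg' a c u hac, hdeg' a c _ hac, one_mul]
    · obtain ⟨h, hh, hne⟩ := hsel a c hac
      exact h81_canon_add hXM Tor hπ hLC a c hac (hcan a c hac) h hh hne t u
  · intro a c t
    by_cases hac : c = ng a
    · rw [hdeg' a c t hac, hdeg' c a t (by rw [hac, ng_ng])]
    · obtain ⟨h, hh, hne⟩ := hsel a c hac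
      have hca : a ≠ ng c := fun h' => hac (by rw [h', ng_ng])
      exact h81_canon_unique Tor hπ a c c a (fun t => hXM.symm a c t) (hcan a c hac)
        (hcan c a hca) h hh hne (mul_comm _ _) t
  · intro p r hpr s hs e he a c t
    by_cases hac : c = ng a
    · rw [hdeg' a c t hac, hac, h81_sgC_ng, hdeg]
      group
    · obtain ⟨h, hh, hne⟩ := hsel a c hac
      have hac' : sgC p r c ≠ ng (sgC p r a) := by
        intro h'
        apply hac
        rw [← h81_sgC_ng] at h'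
        have := congrArg (sgC p r) h'
        rwa [h58_sgC_sgC p r c hpr, h58_sgC_sgC p r (ng a) hpr] at this
      exact h81_canon_weyl hXM C Tor hπ p r hpr s hs e he a c (hcan a c hac)
        (hcan _ _ hac') h hh hne t
  · intro e he a c t
    by_cases hac : c = ng a
    · rw [hdeg' a c t hac, hdeg' a c _ hac]
      group
    · obtain ⟨h, hh, hne⟩ := hsel a c hac
      exact h81_canon_tor hXM Tor hπ a c (hcan a c hac) h hh hne e he t

/-- `q ≥ 4` : all roots through the torus -/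
theorem exists_liftFam4 (hXM : CSt XM) (C : WCalc XM) (Tor : TorusC XM) (hπ : CExt π)
    (hK : ∃ l : K, l ≠ 0 ∧ l ^ 2 ≠ 1) (hLC : LiftComm π XM) :
    ∃ Y : ι ⊕ ι → ι ⊕ ι → K → E, LiftFam π XM Y ∧ TorEq π Tor Y := by
  have hsel := h81_exists_tor_ne Tor hK
  choose hs hsT hsne using hsel
  refine ⟨fun a c t => if hac : c = ng a then 1 else
    brk hπ (hs a c hac) (XM a c ((Tor.chi (hs a c hac) a * Tor.chi (hs a c hac) c - 1)⁻¹ * t)),
    ?_⟩
  apply h81_liftFam_of_canon hXM.toCStAB C Tor hπ hLC _ (h81_exists_tor_ne Tor hK)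
  · intro a t
    exact dif_pos rfl
  · intro a c hac
    apply h81_canon_of_eq hXM.toCStAB Tor hπ hLC _ a c hac (hs a c hac) (hsT a c hac)
      (hsne a c hac)
    intro t
    exact dif_neg hac

end Cfsg.Agent.Lib.Helper66_S92
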