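import Mathlib
import Cfsg.Agent.Lib.Helper81_S92_LF4

/-!
# S2092 package LF3 (helper81; architect helper66): equivariant lifts over the field with three elements

Short roots through the torus (`h81_Canon`, as in LF4), long roots as commutators of lifts of short root
elements: `Φ a c t u = brk (XM a c t) (XM (ng c) a u)` lifts `XM a a (-(2 om c t u))`, is bi-additive,
over `F_3` depends only on `om c * t * u` and not on `c`.
-/

set_option autoImplicit false
set_option linter.unusedVariables false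
set_option linter.unusedSectionVars false

namespace Cfsg.Agent.Lib.Helper66_S92

open Cfsg.Agent.Lib.Helper81_UceA Cfsg.Agent.Lib.Helper5_SteinbergA

variable {ι : Type*} [DecidableEq ι] {K : Type*} [Field K] {S E : Type*} [Group S] [Group E]
  {π : E →* S} {XM : ι ⊕ ι → ι ⊕ ι → K → S}

/-! ### the field with three elements -/

theorem h81_three_eq_zero (hcard : Nat.card K = 3) : (3 : K) = 0 := by
  have : Finite K := Nat.finite_of_card_ne_zero (by rw [hcard]; norm_num)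
  have : Fintype K := Fintype.ofFinite K
  have h1 := Nat.cast_card_eq_zero K
  rw [← Nat.card_eq_fintype_card, hcard] at h1
  exact_mod_cast h1

theorem h81_f3_cases (hcard : Nat.card K = 3) (x : K) : x = 0 ∨ x = 1 ∨ x = -1 := by
  have : Finite K := Nat.finite_of_card_ne_zero (by rw [hcard]; norm_num)
  have : Fintype K := Fintype.ofFinite K
  have h1 := FiniteField.pow_card x
  rw [← Nat.card_eq_fintype_card, hcard] at h1
  have h2 : x * (x - 1) * (x + 1) = 0 := by linear_combination h1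
  rcases mul_eq_zero.mp h2 with h3 | h3
  · rcases mul_eq_zero.mp h3 with h4 | h4
    · exact Or.inl h4
    · exact Or.inr (Or.inl (sub_eq_zero.mp h4))
  · exact Or.inr (Or.inr (eq_neg_of_add_eq_zero_left h3))

theorem h81_neg_two (hcard : Nat.card K = 3) : (-(2 : K)) = 1 := by
  have := h81_three_eq_zero hcard
  linear_combination (-1 : K) * this

theorem h81_neg_one_ne_one (hcard : Nat.card K = 3) : (-1 : K) ≠ 1 := by
  intro h
  have h3 := h81_three_eq_zero hcard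
  have h2 : (2 : K) = 0 := by linear_combination (-1 : K) * h
  have : (1 : K) = 0 := by linear_combination h3 - h2
  exact one_ne_zero this

/-! ### `muC` and the form -/

theorem h81_mu_mul_ng (p r : ι ⊕ ι) (hpr : r ≠ ng p) (s : K) (hs : s ≠ 0) (d : ι ⊕ ι) :
    muC p r s d * muC p r s (ng d) = om K d * om K (sgC p r d) := by
  have hpr' : p ≠ ng r := fun h' => hpr (by rw [h', ng_ng])
  by_cases hp : p = r
  · subst hp
    have m1 : muC p p s (ng p) = s := h81_muC_ngl p p s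
    have m2 : muC p p s p = -s⁻¹ := h81_muC_r p p s hpr
    by_cases h1 : d = ng p
    · rw [h1, ng_ng, m1, m2, h81_sgC_ngl, om_ng]
      have := om_mul_self (K := K) p
      field_simp
      linear_combination this
    by_cases h2 : d = p
    · rw [h2, m1, m2, h81_sgC_l, om_ng]
      have := om_mul_self (K := K) p
      field_simp
      linear_combination this
    · have h3 : ng d ≠ ng p := fun h' => h2 (ng_injective h')
      have h4 : ng d ≠ p := fun h' => h1 (by rw [← h', ng_ng])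
      rw [h81_muC_other p p s d h1 h2 h1 h2, h81_muC_other p p s (ng d) h3 h4 h3 h4,
        h81_sgC_other p p d h1 h2 h1 h2, om_mul_self, one_mul]
  · have m1 : muC p r s (ng p) = s := h81_muC_ngl p r s
    have m2 : muC p r s r = -s⁻¹ := h81_muC_r p r s hpr
    have m3 : muC p r s (ng r) = s * om K p * om K r := h81_muC_ngr p r s (Ne.symm hp)
    have m4 : muC p r s p = -s⁻¹ * om K p * om K r := h81_muC_l p r s hp hpr'
    have hpp := om_mul_self (K := K) p
    have hrr := om_mul_self (K := K) r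
    rcases h58_classify p r d with hd | hd | hd | hd | ⟨hd1, hd2, hd3, hd4⟩
    · rw [hd, ng_ng, m1, m4, h81_sgC_ngl, om_ng]
      field_simp
    · rw [hd, m2, m3, h81_sgC_r, om_ng]
      field_simp
    · rw [hd, ng_ng, m3, m2, h81_sgC_ngr, om_ng]
      field_simp
    · rw [hd, m4, m1, h81_sgC_l, om_ng]
      field_simp
    · have h3 : ng d ≠ ng p := fun h' => hd4 (ng_injective h')
      have h4 : ng d ≠ r := fun h' => hd3 (by rw [← h', ng_ng])
      have h5 : ng d ≠ ng r := fun h' => hd2 (ng_injective h')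
      have h6 : ng d ≠ p := fun h' => hd1 (by rw [← h', ng_ng])
      rw [h81_muC_other p r s d hd1 hd2 hd3 hd4, h81_muC_other p r s (ng d) h3 h4 h5 h6,
        h81_sgC_other p r d hd1 hd2 hd3 hd4, om_mul_self, one_mul]

/-! ### the commutator `Φ a c t u = brk (XM a c t) (XM (ng c) a u)`, lifting a long root element -/

/-- `Φ_c(t, u)` -/
noncomputable def h81_Phi (hπ : CExt π) (XM : ι ⊕ ι → ι ⊕ ι → K → S) (a c : ι ⊕ ι) (t u : K) : E :=
  brk hπ (XM a c t) (XM (ng c) a u)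

theorem h81_map_Phi (hXM : CStAB XM) (hπ : CExt π) (a c : ι ⊕ ι) (h1 : a ≠ c) (h2 : a ≠ ng c)
    (t u : K) : π (h81_Phi hπ XM a c t u) = XM a a (-(2 * om K c * t * u)) := by
  unfold h81_Phi
  rw [map_brk, hXM.ssl a c t u h1 h2]

/-- a lift of `XM d e t` commutes with a lift of `XM a a v` -/
theorem h81_lc_long (hLC : LiftComm π XM) (d e a : ι ⊕ ι) (hd : a ≠ ng d) (he : a ≠ ng e)
    (t v : K) (x y : E) (hx : π x = XM d e t) (hy : π y = XM a a v) : x * y = y * x :=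
  hLC d e a a t v x y hd he hd he hx hy

theorem h81_Phi_add_left (hXM : CStAB XM) (hπ : CExt π) (hLC : LiftComm π XM) (a c : ι ⊕ ι)
    (h1 : a ≠ c) (h2 : a ≠ ng c) (t t' u : K) :
    h81_Phi hπ XM a c (t + t') u = h81_Phi hπ XM a c t u * h81_Phi hπ XM a c t' u := by
  have hc := h81_lc_long hLC a c a (ne_ng a) h2 t _ (lft hπ (XM a c t))
    (h81_Phi hπ XM a c t' u) (map_lft hπ _) (h81_map_Phi hXM hπ a c h1 h2 t' u)
  have hc2 := h81_lc_same hLC a a (ne_ng a) _ _ (h81_Phi hπ XM a c t' u) (h81_Phi hπ XM a c t u)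
    (h81_map_Phi hXM hπ a c h1 h2 t' u) (h81_map_Phi hXM hπ a c h1 h2 t u)
  show brk hπ (XM a c (t + t')) (XM (ng c) a u) = _
  rw [← hXM.add a c t t', brk_mul_left]
  show lft hπ (XM a c t) * h81_Phi hπ XM a c t' u * (lft hπ (XM a c t))⁻¹ *
    h81_Phi hπ XM a c t u = _
  rw [hc, mul_inv_cancel_right, hc2]

theorem h81_Phi_add_right (hXM : CStAB XM) (hπ : CExt π) (hLC : LiftComm π XM) (a c : ι ⊕ ι)
    (h1 : a ≠ c) (h2 : a ≠ ng c) (t u u' : K) :
    h81_Phi hπ XM a c t (u + u') = h81_Phi hπ XM a c t u * h81_Phi hπ XM a c t u' := by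
  have hc := h81_lc_long hLC (ng c) a a (by rw [ng_ng]; exact h1) (ne_ng a)
    u _ (lft hπ (XM (ng c) a u)) (h81_Phi hπ XM a c t u')
    (map_lft hπ _) (h81_map_Phi hXM hπ a c h1 h2 t u')
  show brk hπ (XM a c t) (XM (ng c) a (u + u')) = _
  rw [← hXM.add (ng c) a u u', brk_mul_right]
  show h81_Phi hπ XM a c t u * (lft hπ (XM (ng c) a u) * h81_Phi hπ XM a c t u' *
    (lft hπ (XM (ng c) a u))⁻¹) = _
  rw [hc, mul_inv_cancel_right]

theorem h81_Phi_zero_left (hXM : CStAB XM) (hπ : CExt π) (hLC : LiftComm π XM) (a c : ι ⊕ ι)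
    (h1 : a ≠ c) (h2 : a ≠ ng c) (u : K) : h81_Phi hπ XM a c 0 u = 1 := by
  have := h81_Phi_add_left hXM hπ hLC a c h1 h2 0 0 u
  rw [add_zero] at this
  exact mul_eq_left.mp this.symm

theorem h81_Phi_zero_right (hXM : CStAB XM) (hπ : CExt π) (hLC : LiftComm π XM) (a c : ι ⊕ ι)
    (h1 : a ≠ c) (h2 : a ≠ ng c) (t : K) : h81_Phi hπ XM a c t 0 = 1 := by
  have := h81_Phi_add_right hXM hπ hLC a c h1 h2 t 0 0
  rw [add_zero] at this
  exact mul_eq_left.mp this.symm

theorem h81_Phi_neg_left (hXM : CStAB XM) (hπ : CExt π) (hLC : LiftComm π XM) (a c : ι ⊕ ι)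
    (h1 : a ≠ c) (h2 : a ≠ ng c) (t u : K) :
    h81_Phi hπ XM a c (-t) u = (h81_Phi hπ XM a c t u)⁻¹ := by
  rw [eq_inv_iff_mul_eq_one, ← h81_Phi_add_left hXM hπ hLC a c h1 h2, neg_add_cancel,
    h81_Phi_zero_left hXM hπ hLC a c h1 h2]

theorem h81_Phi_neg_right (hXM : CStAB XM) (hπ : CExt π) (hLC : LiftComm π XM) (a c : ι ⊕ ι)
    (h1 : a ≠ c) (h2 : a ≠ ng c) (t u : K) :
    h81_Phi hπ XM a c t (-u) = (h81_Phi hπ XM a c t u)⁻¹ := by
  rw [eq_inv_iff_mul_eq_one, ← h81_Phi_add_right hXM hπ hLC a c h1 h2, neg_add_cancel,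
    h81_Phi_zero_right hXM hπ hLC a c h1 h2]

/-- over `F_3`, `Φ_c(t, u)` depends only on the product -/
theorem h81_Phi_prod (hXM : CStAB XM) (hπ : CExt π) (hLC : LiftComm π XM)
    (hF : ∀ x : K, x = 0 ∨ x = 1 ∨ x = -1) (a c : ι ⊕ ι)
    (h1 : a ≠ c) (h2 : a ≠ ng c) (t u : K) :
    h81_Phi hπ XM a c t u = h81_Phi hπ XM a c (t * u) 1 := by
  have z1 := h81_Phi_zero_left hXM hπ hLC a c h1 h2
  have z2 := h81_Phi_zero_right hXM hπ hLC a c h1 h2
  have n1 := h81_Phi_neg_left hXM hπ hLC a c h1 h2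
  have n2 := h81_Phi_neg_right hXM hπ hLC a c h1 h2
  rcases hF t with rfl | rfl | rfl <;> rcases hF u with rfl | rfl | rfl
  · rw [mul_zero, z1, z1]
  · rw [zero_mul]
  · rw [zero_mul, z1, z1]
  · rw [mul_zero, z1, z2]
  · rw [one_mul]
  · rw [one_mul, n1, n2]
  · rw [mul_zero, z1, z2]
  · rw [mul_one]
  · rw [neg_mul_neg, one_mul, n1, n2, inv_inv]

/-- the other orientation -/
theorem h81_Phi_swap (hXM : CStAB XM) (hπ : CExt π) (a c : ι ⊕ ι) (t u : K) :
    h81_Phi hπ XM a (ng c) t u = (h81_Phi hπ XM a c u t)⁻¹ := by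
  unfold h81_Phi
  rw [ng_ng, brk_inv, hXM.symm a (ng c) t, hXM.symm c a u]

/-- conjugation of `Φ` by a lift of a Weyl element -/
theorem h81_Phi_weyl (C : WCalc XM) (hπ : CExt π) (p r : ι ⊕ ι) (hpr : r ≠ ng p) (s : K)
    (hs : s ≠ 0) (e : E) (he : π e = WC XM p r s) (a c : ι ⊕ ι) (t u : K) :
    e * h81_Phi hπ XM a c t u * e⁻¹ =
      h81_Phi hπ XM (sgC p r a) (sgC p r c) (muC p r s a * muC p r s c * t)
        (muC p r s (ng c) * muC p r s a * u) := by
  unfold h81_Phi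
  rw [conj_brk, he, C.wc_conj p r hpr s hs, C.wc_conj p r hpr s hs, h81_sgC_ng]

/-- conjugation of `Φ` by a lift of a torus element -/
theorem h81_Phi_tor (Tor : TorusC XM) (hπ : CExt π) (e : E) (he : π e ∈ Tor.T) (a c : ι ⊕ ι)
    (t u : K) :
    e * h81_Phi hπ XM a c t u * e⁻¹ =
      h81_Phi hπ XM a c (Tor.chi (π e) a * Tor.chi (π e) c * t)
        (Tor.chi (π e) (ng c) * Tor.chi (π e) a * u) := by
  unfold h81_Phi
  rw [conj_brk, Tor.conj _ he, Tor.conj _ he]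

/-! ### independence of the auxiliary index -/

/-- changing the auxiliary index by a Weyl element -/
theorem h81_Phi_indep (hXM : CStAB XM) (C : WCalc XM) (hπ : CExt π) (hLC : LiftComm π XM)
    (a c e : ι ⊕ ι) (h1 : a ≠ c) (h2 : a ≠ ng c) (h3 : a ≠ e) (h4 : a ≠ ng e) (h5 : e ≠ c)
    (h6 : e ≠ ng c) (t u : K) :
    h81_Phi hπ XM a c t u = h81_Phi hπ XM a e t (om K c * om K e * u) := by
  -- a lift of `WC XM (ng c) e 1`
  set y₁ : E := lft hπ (XM (ng c) e (-(om K (ng c) * 1))) with hy₁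
  set y₂ : E := lft hπ (XM (ng (ng c)) (ng e) (om K e * -(1 : K)⁻¹)) with hy₂
  have hpr : e ≠ ng (ng c) := by rw [ng_ng]; exact h5
  have hn : π (y₁ * y₂ * y₁) = WC XM (ng c) e 1 := by
    rw [map_mul, map_mul, hy₁, hy₂, map_lft, map_lft, WC_eq]
  have hv := h81_map_Phi hXM hπ a c h1 h2 t u
  have c1 : y₁ * h81_Phi hπ XM a c t u = h81_Phi hπ XM a c t u * y₁ :=
    h81_lc_long hLC (ng c) e a (by rw [ng_ng]; exact h1) h4 _ _ y₁ _ (map_lft hπ _) hv
  have c2 : y₂ * h81_Phi hπ XM a c t u = h81_Phi hπ XM a c t u * y₂ :=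
    h81_lc_long hLC (ng (ng c)) (ng e) a (by rw [ng_ng]; exact h2)
      (by rw [ng_ng]; exact h3) _ _ y₂ _ (map_lft hπ _) hv
  have hcomm : (y₁ * y₂ * y₁) * h81_Phi hπ XM a c t u * (y₁ * y₂ * y₁)⁻¹ =
      h81_Phi hπ XM a c t u := by
    have : (y₁ * y₂ * y₁) * h81_Phi hπ XM a c t u = h81_Phi hπ XM a c t u * (y₁ * y₂ * y₁) := by
      calc (y₁ * y₂ * y₁) * h81_Phi hπ XM a c t u
          = y₁ * y₂ * (y₁ * h81_Phi hπ XM a c t u) := by group
        _ = y₁ * (y₂ * h81_Phi hπ XM a c t u) * y₁ := by rw [c1]; group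
        _ = (y₁ * h81_Phi hπ XM a c t u) * y₂ * y₁ := by rw [c2]; group
        _ = h81_Phi hπ XM a c t u * (y₁ * y₂ * y₁) := by rw [c1]; group
    rw [this, mul_inv_cancel_right]
  have hw := h81_Phi_weyl C hπ (ng c) e hpr 1 one_ne_zero (y₁ * y₂ * y₁) hn a c t u
  rw [hcomm] at hw
  have s1 : sgC (ng c) e a = a :=
    h81_sgC_other (ng c) e a (by rw [ng_ng]; exact h1) h3 h4 h2
  have s2 : sgC (ng c) e c = e := by
    have := h81_sgC_ngl (ng c) e
    rwa [ng_ng] at this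
  have m1 : muC (ng c) e (1 : K) a = 1 :=
    h81_muC_other (ng c) e 1 a (by rw [ng_ng]; exact h1) h3 h4 h2
  have m2 : muC (ng c) e (1 : K) c = 1 := by
    have := h81_muC_ngl (ng c) e (1 : K)
    rwa [ng_ng] at this
  have m3 : muC (ng c) e (1 : K) (ng c) = -(1 : K)⁻¹ * om K (ng c) * om K e :=
    h81_muC_l (ng c) e 1 (fun h' => h6 h'.symm) (fun h' => h5 (ng_injective h').symm)
  rw [s1, s2, m1, m2, m3, om_ng] at hw
  rw [hw]
  congr 1
  · ring
  · rw [inv_one]; ring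

/-- `G_c(s) = Φ_c(om c * s, 1)`, a lift of `XM a a s` over `F_3` -/
noncomputable def h81_G (hπ : CExt π) (XM : ι ⊕ ι → ι ⊕ ι → K → S) (a c : ι ⊕ ι) (s : K) : E :=
  h81_Phi hπ XM a c (om K c * s) 1

theorem h81_G_swap (hXM : CStAB XM) (hπ : CExt π) (hLC : LiftComm π XM)
    (hF : ∀ x : K, x = 0 ∨ x = 1 ∨ x = -1) (a c : ι ⊕ ι) (h1 : a ≠ c) (h2 : a ≠ ng c) (s : K) :
    h81_G hπ XM a (ng c) s = h81_G hπ XM a c s := by
  unfold h81_G
  rw [h81_Phi_swap hXM hπ a c, om_ng, neg_mul, h81_Phi_neg_right hXM hπ hLC a c h1 h2, inv_inv,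
    h81_Phi_prod hXM hπ hLC hF a c h1 h2 1, one_mul]

theorem h81_G_indep (hXM : CStAB XM) (C : WCalc XM) (hπ : CExt π) (hLC : LiftComm π XM)
    (hF : ∀ x : K, x = 0 ∨ x = 1 ∨ x = -1) (a c e : ι ⊕ ι) (h1 : a ≠ c) (h2 : a ≠ ng c)
    (h3 : a ≠ e) (h4 : a ≠ ng e) (s : K) : h81_G hπ XM a c s = h81_G hπ XM a e s := by
  by_cases h5 : e = c
  · rw [h5]
  by_cases h6 : e = ng c
  · rw [h6, h81_G_swap hXM hπ hLC hF a c h1 h2]
  unfold h81_G
  rw [h81_Phi_indep hXM C hπ hLC a c e h1 h2 h3 h4 h5 h6, h81_Phi_prod hXM hπ hLC hF a e h3 h4]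
  congr 1
  have := om_mul_self (K := K) c
  linear_combination (om K e * s) * this

/-! ### canonical families on the long roots -/

/-- `Y` is canonical on the long root of `a` -/
def h81_LCanon (hπ : CExt π) (XM : ι ⊕ ι → ι ⊕ ι → K → S) (Y : ι ⊕ ι → ι ⊕ ι → K → E)
    (a : ι ⊕ ι) : Prop :=
  ∀ c, a ≠ c → a ≠ ng c → ∀ t u : K,
    h81_Phi hπ XM a c t u = Y a a (-(2 * om K c * t * u))

theorem h81_lcanon_of_eq (hXM : CStAB XM) (C : WCalc XM) (hπ : CExt π) (hLC : LiftComm π XM)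
    (hF : ∀ x : K, x = 0 ∨ x = 1 ∨ x = -1) (h3 : (-(2 : K)) = 1)
    (Y : ι ⊕ ι → ι ⊕ ι → K → E) (a c₀ : ι ⊕ ι) (h1 : a ≠ c₀) (h2 : a ≠ ng c₀)
    (hY : ∀ s, Y a a s = h81_G hπ XM a c₀ s) : h81_LCanon hπ XM Y a := by
  intro c hc1 hc2 t u
  rw [hY, ← h81_G_indep hXM C hπ hLC hF a c c₀ hc1 hc2 h1 h2,
    h81_Phi_prod hXM hπ hLC hF a c hc1 hc2]
  unfold h81_G
  congr 1
  have := om_mul_self (K := K) c
  linear_combination (-(t * u)) * h3 + (2 * t * u) * this

section lcanon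

variable (hXM : CStAB XM) (hπ : CExt π) (hLC : LiftComm π XM) (h3 : (-(2 : K)) = 1)
  {Y : ι ⊕ ι → ι ⊕ ι → K → E}

include h3 in
theorem h81_lcanon_key (a c : ι ⊕ ι) (h1 : a ≠ c) (h2 : a ≠ ng c)
    (hY : h81_LCanon hπ XM Y a) (s : K) : Y a a s = h81_Phi hπ XM a c (om K c * s) 1 := by
  rw [hY c h1 h2]
  congr 1
  have := om_mul_self (K := K) c
  linear_combination (-s) * h3 + (2 * s) * this

include hXM h3 in
theorem h81_lcanon_lift (a c : ι ⊕ ι) (h1 : a ≠ c) (h2 : a ≠ ng c)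
    (hY : h81_LCanon hπ XM Y a) (s : K) : π (Y a a s) = XM a a s := by
  rw [h81_lcanon_key hπ h3 a c h1 h2 hY, h81_map_Phi hXM hπ a c h1 h2]
  congr 1
  have := om_mul_self (K := K) c
  linear_combination s * h3 - (2 * s) * this

include hXM hLC h3 in
theorem h81_lcanon_add (a c : ι ⊕ ι) (h1 : a ≠ c) (h2 : a ≠ ng c)
    (hY : h81_LCanon hπ XM Y a) (s s' : K) : Y a a s * Y a a s' = Y a a (s + s') := by
  rw [h81_lcanon_key hπ h3 a c h1 h2 hY, h81_lcanon_key hπ h3 a c h1 h2 hY,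
    h81_lcanon_key hπ h3 a c h1 h2 hY, mul_add, h81_Phi_add_left hXM hπ hLC a c h1 h2]

include h3 in
theorem h81_lcanon_weyl (C : WCalc XM) (p r : ι ⊕ ι) (hpr : r ≠ ng p) (s₀ : K) (hs : s₀ ≠ 0)
    (e : E) (he : π e = WC XM p r s₀) (a c : ι ⊕ ι) (h1 : a ≠ c) (h2 : a ≠ ng c)
    (hY : h81_LCanon hπ XM Y a) (hY' : h81_LCanon hπ XM Y (sgC p r a)) (t : K) :
    e * Y a a t * e⁻¹ = Y (sgC p r a) (sgC p r a) (muC p r s₀ a * muC p r s₀ a * t) := by
  have hne1 : sgC p r a ≠ sgC p r c := by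
    intro h'
    apply h1
    have := congrArg (sgC p r) h'
    rwa [h58_sgC_sgC p r a hpr, h58_sgC_sgC p r c hpr] at this
  have hne2 : sgC p r a ≠ ng (sgC p r c) := by
    intro h'
    apply h2
    rw [← h81_sgC_ng] at h'
    have := congrArg (sgC p r) h'
    rwa [h58_sgC_sgC p r a hpr, h58_sgC_sgC p r (ng c) hpr] at this
  rw [h81_lcanon_key hπ h3 a c h1 h2 hY, h81_Phi_weyl C hπ p r hpr s₀ hs e he,
    hY' (sgC p r c) hne1 hne2]
  congr 1
  have hm := h81_mu_mul_ng p r hpr s₀ hs c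
  have hwc := om_mul_self (K := K) c
  have hwv := om_mul_self (K := K) (sgC p r c)
  linear_combination
    (muC p r s₀ a * muC p r s₀ a * t * (-2 * om K (sgC p r c) * om K c)) * hm +
    (muC p r s₀ a * muC p r s₀ a * t * (-2 * om K (sgC p r c) * om K (sgC p r c))) * hwc +
    (muC p r s₀ a * muC p r s₀ a * t * (-2)) * hwv + (muC p r s₀ a * muC p r s₀ a * t) * h3

include h3 in
theorem h81_lcanon_tor (Tor : TorusC XM) (e : E) (he : π e ∈ Tor.T) (a c : ι ⊕ ι) (h1 : a ≠ c)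
    (h2 : a ≠ ng c) (hY : h81_LCanon hπ XM Y a) (t : K) :
    e * Y a a t * e⁻¹ = Y a a (Tor.chi (π e) a * Tor.chi (π e) a * t) := by
  rw [h81_lcanon_key hπ h3 a c h1 h2 hY, h81_Phi_tor Tor hπ e he, hY c h1 h2]
  congr 1
  have hz : Tor.chi (π e) c * Tor.chi (π e) (ng c) = 1 := by
    rw [Tor.chi_ng (π e) he c, mul_inv_cancel₀ (Tor.chi_ne (π e) he c)]
  have hwc := om_mul_self (K := K) c
  linear_combination
    (Tor.chi (π e) a * Tor.chi (π e) a * t * (-2 * om K c * om K c)) * hz +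
    (Tor.chi (π e) a * Tor.chi (π e) a * t * (-2)) * hwc +
    (Tor.chi (π e) a * Tor.chi (π e) a * t) * h3

end lcanon

/-! ### assembly -/

theorem h81_sgC_inj (p r : ι ⊕ ι) (hpr : r ≠ ng p) {x y : ι ⊕ ι} (h : sgC p r x = sgC p r y) :
    x = y := by
  have := congrArg (sgC p r) h
  rwa [h58_sgC_sgC p r x hpr, h58_sgC_sgC p r y hpr] at this

theorem h81_liftFam3_of_canon (hXM : CStAB XM) (C : WCalc XM) (Tor : TorusC XM) (hπ : CExt π)
    (hLC : LiftComm π XM) (h3 : (-(2 : K)) = 1) (Y : ι ⊕ ι → ι ⊕ ι → K → E)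
    (hselS : ∀ a c : ι ⊕ ι, c ≠ ng a → c ≠ a → ∃ h ∈ Tor.T, Tor.chi h a * Tor.chi h c ≠ 1)
    (hselL : ∀ a : ι ⊕ ι, ∃ c, a ≠ c ∧ a ≠ ng c)
    (hdeg : ∀ a t, Y a (ng a) t = 1)
    (hcanS : ∀ a c : ι ⊕ ι, c ≠ ng a → c ≠ a → h81_Canon hπ Tor Y a c)
    (hcanL : ∀ a : ι ⊕ ι, h81_LCanon hπ XM Y a) :
    LiftFam π XM Y ∧ TorEq π Tor Y ∧
      ∀ a c t u, a ≠ c → a ≠ ng c →
        Y a c t * Y (ng c) a u * (Y a c t)⁻¹ * (Y (ng c) a u)⁻¹ =
          Y a a (-(2 * om K c * t * u)) := by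
  have hdeg' : ∀ a c t, c = ng a → Y a c t = 1 := by
    intro a c t h'; rw [h']; exact hdeg a t
  have hlift : ∀ a c t, π (Y a c t) = XM a c t := by
    intro a c t
    by_cases hac : c = ng a
    · rw [hdeg' a c t hac, hac, hXM.opp, map_one]
    by_cases hca : c = a
    · rw [hca]
      obtain ⟨c', h1, h2⟩ := hselL a
      exact h81_lcanon_lift hXM hπ h3 a c' h1 h2 (hcanL a) t
    · obtain ⟨h, hh, hne⟩ := hselS a c hac hca
      exact h81_canon_lift hXM Tor hπ hLC a c hac (hcanS a c hac hca) h hh hne t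
  refine ⟨⟨hlift, ?_, ?_, hdeg, ?_⟩, ?_, ?_⟩
  · intro a c t u
    by_cases hac : c = ng a
    · rw [hdeg' a c t hac, hdeg' a c u hac, hdeg' a c _ hac, one_mul]
    by_cases hca : c = a
    · rw [hca]
      obtain ⟨c', h1, h2⟩ := hselL a
      exact h81_lcanon_add hXM hπ hLC h3 a c' h1 h2 (hcanL a) t u
    · obtain ⟨h, hh, hne⟩ := hselS a c hac hca
      exact h81_canon_add hXM Tor hπ hLC a c hac (hcanS a c hac hca) h hh hne t u
  · intro a c t
    by_cases hac : c = ng a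
    · rw [hdeg' a c t hac, hdeg' c a t (by rw [hac, ng_ng])]
    by_cases hca : c = a
    · rw [hca]
    · obtain ⟨h, hh, hne⟩ := hselS a c hac hca
      have hac' : a ≠ ng c := fun h' => hac (by rw [h', ng_ng])
      exact h81_canon_unique Tor hπ a c c a (fun t => hXM.symm a c t) (hcanS a c hac hca)
        (hcanS c a hac' (Ne.symm hca)) h hh hne (mul_comm _ _) t
  · intro p r hpr s hs e he a c t
    by_cases hac : c = ng a
    · rw [hdeg' a c t hac, hac, h81_sgC_ng, hdeg]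
      group
    by_cases hca : c = a
    · rw [hca]
      obtain ⟨c', h1, h2⟩ := hselL a
      exact h81_lcanon_weyl hπ h3 C p r hpr s hs e he a c' h1 h2 (hcanL a) (hcanL _) t
    · obtain ⟨h, hh, hne⟩ := hselS a c hac hca
      have hac' : sgC p r c ≠ ng (sgC p r a) := by
        intro h'
        apply hac
        rw [← h81_sgC_ng] at h'
        exact h81_sgC_inj p r hpr h'
      have hca' : sgC p r c ≠ sgC p r a := fun h' => hca (h81_sgC_inj p r hpr h')
      exact h81_canon_weyl hXM C Tor hπ p r hpr s hs e he a c (hcanS a c hac hca)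
        (hcanS _ _ hac' hca') h hh hne t
  · intro e he a c t
    by_cases hac : c = ng a
    · rw [hdeg' a c t hac, hdeg' a c _ hac]
      group
    by_cases hca : c = a
    · rw [hca]
      obtain ⟨c', h1, h2⟩ := hselL a
      exact h81_lcanon_tor hπ h3 Tor e he a c' h1 h2 (hcanL a) t
    · obtain ⟨h, hh, hne⟩ := hselS a c hac hca
      exact h81_canon_tor hXM Tor hπ a c (hcanS a c hac hca) h hh hne e he t
  · intro a c t u h1 h2
    rw [brk_eq' hπ (hlift a c t) (hlift (ng c) a u)]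
    exact hcanL a c h1 h2 t u

/-- `q = 3` : short roots through the torus, long roots as commutators of short ones; the relation
`ssl` comes with the construction -/
theorem exists_liftFam3 (hXM : CSt XM) (C : WCalc XM) (Tor : TorusC XM) (hπ : CExt π)
    (hcard : Nat.card K = 3) (h2 : ∃ i j : ι, i ≠ j) (hLC : LiftComm π XM) :
    ∃ Y : ι ⊕ ι → ι ⊕ ι → K → E, LiftFam π XM Y ∧ TorEq π Tor Y ∧
      ∀ a c t u, a ≠ c → a ≠ ng c →
        Y a c t * Y (ng c) a u * (Y a c t)⁻¹ * (Y (ng c) a u)⁻¹ = Y a a (-(2 * om K c * t * u)) := by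
  have hF := h81_f3_cases hcard
  have h3 := h81_neg_two hcard
  have hm1 : (-1 : K) ≠ 1 := h81_neg_one_ne_one hcard
  have hm0 : (-1 : K) ≠ 0 := neg_ne_zero.mpr one_ne_zero
  have hselS : ∀ a c : ι ⊕ ι, c ≠ ng a → c ≠ a →
      ∃ h ∈ Tor.T, Tor.chi h a * Tor.chi h c ≠ 1 := by
    intro a c hac hca
    obtain ⟨k, hk, hoff, hon⟩ := h58_exists_tor Tor (-1 : K) hm0 (idx a)
    refine ⟨k, hk, ?_⟩
    have hc : idx c ≠ idx a := by
      intro h'
      rcases (h58_idx_eq_iff c a).mp h' with h'' | h''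
      · exact hca h''
      · exact hac h''
    rw [hoff c hc, mul_one]
    rcases hon a rfl with h' | h'
    · rw [h']; exact hm1
    · rw [h', inv_neg, inv_one]; exact hm1
  have hselL : ∀ a : ι ⊕ ι, ∃ c, a ≠ c ∧ a ≠ ng c := by
    intro a
    obtain ⟨i, j, hij⟩ := h2
    have key : ∀ k : ι, k ≠ idx a → ∃ c : ι ⊕ ι, a ≠ c ∧ a ≠ ng c := by
      intro k hk
      refine ⟨Sum.inl k, ?_, ?_⟩
      · intro h'
        apply hk
        rw [h']
        rfl
      · intro h'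
        apply hk
        rw [h']
        rfl
    by_cases hi : i = idx a
    · exact key j (fun h' => hij (by rw [hi, h']))
    · exact key i hi
  choose hs hsT hsne using hselS
  choose cs hcs1 hcs2 using hselL
  refine ⟨fun a c t => if hac : c = ng a then 1 else if hca : c = a then
      h81_G hπ XM a (cs a) t else
    brk hπ (hs a c hac hca)
      (XM a c ((Tor.chi (hs a c hac hca) a * Tor.chi (hs a c hac hca) c - 1)⁻¹ * t)), ?_⟩
  apply h81_liftFam3_of_canon hXM.toCStAB C Tor hπ hLC h3 _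
    (fun a c hac hca => ⟨hs a c hac hca, hsT a c hac hca, hsne a c hac hca⟩)
    (fun a => ⟨cs a, hcs1 a, hcs2 a⟩)
  · intro a t
    exact dif_pos rfl
  · intro a c hac hca
    apply h81_canon_of_eq hXM.toCStAB Tor hπ hLC _ a c hac (hs a c hac hca) (hsT a c hac hca)
      (hsne a c hac hca)
    intro t
    show (if hac : c = ng a then (1 : E) else if hca : c = a then
      h81_G hπ XM a (cs a) t else _) = _
    rw [dif_neg hac, dif_neg hca]
  · intro a
    apply h81_lcanon_of_eq hXM.toCStAB C hπ hLC hF h3 _ a (cs a) (hcs1 a) (hcs2 a)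
    intro s
    show (if hac : a = ng a then (1 : E) else if hca : a = a then
      h81_G hπ XM a (cs a) s else _) = _
    rw [dif_neg (ne_ng a), dif_pos rfl]

end Cfsg.Agent.Lib.Helper66_S92
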