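import Mathlib
import Cfsg.Agent.Lib.Helper66_S92LiftDefs
import Cfsg.Agent.Lib.Helper66_S92Rank
import Cfsg.Agent.Lib.Helper58_S92_LC_3
import Cfsg.Agent.Lib.Helper58_S92_REL_A2
import Cfsg.Agent.Lib.Helper60_S92_RELR1
import Cfsg.Agent.Lib.Helper60_S92_RELSSL4
import Cfsg.Agent.Lib.Helper24_S92_LC_SAME4
import Cfsg.Agent.Lib.Helper24_S92_REL_LS
import Cfsg.Agent.Lib.Helper81_S92_LF4
import Cfsg.Agent.Lib.Helper81_S92_LF3

set_option autoImplicit false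
set_option linter.unusedVariables false
set_option linter.unusedSectionVars false

/-!
# S2092 (architect helper66): package LIFT43 (helper58), generic assembly

A family of lifts that is equivariant under the Weyl elements and the torus, and satisfies the
relations `ssl` and `ls`, satisfies the Steinberg relations of type `C`.
-/

namespace Cfsg.Agent.Lib.Helper66_S92

open Cfsg.Agent.Lib.Helper81_UceA Cfsg.Agent.Lib.Helper5_SteinbergA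

variable {ι : Type*} [DecidableEq ι] {K : Type*} [Field K] {S E : Type*} [Group S] [Group E]
  {π : E →* S} {XM : ι ⊕ ι → ι ⊕ ι → K → S}

/-- the generic assembly: the relations `ssl` and `ls` are hypotheses -/
theorem h58_cSt_of_liftFam (hXM : CSt XM) (Tor : TorusC XM) (hπ : CExt π)
    (hK : ∃ l : K, l ≠ 0 ∧ l ≠ 1) (hLC : LiftComm π XM) {Y : ι ⊕ ι → ι ⊕ ι → K → E}
    (hY : LiftFam π XM Y) (hT : TorEq π Tor Y)
    (hssl : ∀ a c t u, a ≠ c → a ≠ ng c →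
      Y a c t * Y (ng c) a u * (Y a c t)⁻¹ * (Y (ng c) a u)⁻¹ = Y a a (-(2 * om K c * t * u)))
    (hls : ∀ (a e : ι ⊕ ι) (t u : K), e ≠ a → e ≠ ng a →
      Y a a t * Y (ng a) e u * (Y a a t)⁻¹ * (Y (ng a) e u)⁻¹ =
        Y a e (-(om K a * t * u)) * Y e e (-(t * u ^ 2))) : CSt Y where
  symm := hY.symm
  opp := hY.opp
  add := hY.add
  comm := fun a c d e t u h1 h2 h3 h4 => comm_of_liftFam hLC hY a c d e t u h1 h2 h3 h4
  a2 := fun a c e t u h1 h2 h3 h4 h5 h6 =>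
    a2_of_liftFam hXM.toCStAB Tor hπ hK hLC hY hT a c e t u h1 h2 h3 h4 h5 h6
  ssl := hssl
  ls := hls
  rank1 := fun a c hac => rank1_of_liftFam hXM hπ hY a c hac

/-- the assembly for `q ≥ 4`, with the packages not yet available as hypotheses -/
theorem h58_exists_cSt_lift4_aux (hXM : CSt XM) (Tor : TorusC XM) (hπ : CExt π)
    (hK : ∃ l : K, l ≠ 0 ∧ l ^ 2 ≠ 1)
    (hLC : LiftComm π XM)
    (hLF : ∃ Y : ι ⊕ ι → ι ⊕ ι → K → E, LiftFam π XM Y ∧ TorEq π Tor Y)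
    (Hssl : ∀ {Y : ι ⊕ ι → ι ⊕ ι → K → E}, LiftFam π XM Y → TorEq π Tor Y →
      ∀ (a c : ι ⊕ ι) (t u : K), a ≠ c → a ≠ ng c →
      Y a c t * Y (ng c) a u * (Y a c t)⁻¹ * (Y (ng c) a u)⁻¹ = Y a a (-(2 * om K c * t * u)))
    (Hls : ∀ {Y : ι ⊕ ι → ι ⊕ ι → K → E}, LiftFam π XM Y → TorEq π Tor Y →
      (∀ a c t u, a ≠ c → a ≠ ng c →
        Y a c t * Y (ng c) a u * (Y a c t)⁻¹ * (Y (ng c) a u)⁻¹ = Y a a (-(2 * om K c * t * u))) →
      ∀ (a e : ι ⊕ ι) (t u : K), e ≠ a → e ≠ ng a →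
      Y a a t * Y (ng a) e u * (Y a a t)⁻¹ * (Y (ng a) e u)⁻¹ =
        Y a e (-(om K a * t * u)) * Y e e (-(t * u ^ 2))) :
    ∃ Y : ι ⊕ ι → ι ⊕ ι → K → E, CSt Y ∧ ∀ a c t, π (Y a c t) = XM a c t := by
  obtain ⟨l, hl0, hl2⟩ := hK
  have hK' : ∃ l : K, l ≠ 0 ∧ l ≠ 1 := ⟨l, hl0, fun h => hl2 (by rw [h, one_pow])⟩
  obtain ⟨Y, hY, hT⟩ := hLF
  have hssl := Hssl hY hT
  exact ⟨Y, h58_cSt_of_liftFam hXM Tor hπ hK' hLC hY hT hssl (Hls hY hT hssl), hY.lift⟩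

/-- the assembly for `q = 3`, with the packages not yet available as hypotheses -/
theorem h58_exists_cSt_lift3_aux (hXM : CSt XM) (Tor : TorusC XM) (hπ : CExt π)
    (hcard : Nat.card K = 3)
    (hLF : ∃ Y : ι ⊕ ι → ι ⊕ ι → K → E, LiftFam π XM Y ∧ TorEq π Tor Y ∧
      ∀ a c t u, a ≠ c → a ≠ ng c →
        Y a c t * Y (ng c) a u * (Y a c t)⁻¹ * (Y (ng c) a u)⁻¹ = Y a a (-(2 * om K c * t * u)))
    (Hls : ∀ {Y : ι ⊕ ι → ι ⊕ ι → K → E}, LiftFam π XM Y → TorEq π Tor Y →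
      (∀ a c t u, a ≠ c → a ≠ ng c →
        Y a c t * Y (ng c) a u * (Y a c t)⁻¹ * (Y (ng c) a u)⁻¹ = Y a a (-(2 * om K c * t * u))) →
      ∀ (a e : ι ⊕ ι) (t u : K), e ≠ a → e ≠ ng a →
      Y a a t * Y (ng a) e u * (Y a a t)⁻¹ * (Y (ng a) e u)⁻¹ =
        Y a e (-(om K a * t * u)) * Y e e (-(t * u ^ 2))) :
    ∃ Y : ι ⊕ ι → ι ⊕ ι → K → E, CSt Y ∧ ∀ a c t, π (Y a c t) = XM a c t := by
  obtain ⟨h3, h2⟩ := h58_three (K := K) hcard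
  have hK' : ∃ l : K, l ≠ 0 ∧ l ≠ 1 := by
    refine ⟨-1, neg_ne_zero.mpr one_ne_zero, ?_⟩
    intro h
    apply h2
    linear_combination -h
  have hLC : LiftComm π XM := liftComm3 hXM.toCStAB Tor hπ hcard
  obtain ⟨Y, hY, hT, hssl⟩ := hLF
  exact ⟨Y, h58_cSt_of_liftFam hXM Tor hπ hK' hLC hY hT hssl (Hls hY hT hssl), hY.lift⟩

/-- the assembly for `q ≥ 4` -/
theorem exists_cSt_lift4 (hXM : CSt XM) (C : WCalc XM) (Tor : TorusC XM) (hπ : CExt π)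
    (hK : ∃ l : K, l ≠ 0 ∧ l ^ 2 ≠ 1) (h2 : ∃ i j : ι, i ≠ j) :
    ∃ Y : ι ⊕ ι → ι ⊕ ι → K → E, CSt Y ∧ ∀ a c t, π (Y a c t) = XM a c t := by
  have hLC : LiftComm π XM := liftComm4 hXM.toCStAB Tor hπ hK h2
  have hK' : ∃ l : K, l ≠ 0 ∧ l ≠ 1 := by
    obtain ⟨l, hl0, hl2⟩ := hK
    exact ⟨l, hl0, fun h => hl2 (by rw [h, one_pow])⟩
  exact h58_exists_cSt_lift4_aux hXM Tor hπ hK hLC (exists_liftFam4 hXM C Tor hπ hK hLC)
    (fun {Y} hY hT => ssl_of_liftFam4 hXM.toCStAB Tor hπ hK hLC hY hT)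
    (fun {Y} hY hT hssl => ls_of_liftFam hXM.toCStAB Tor hπ hK' hLC hY hT hssl)

/-- the assembly for `q = 3` -/
theorem exists_cSt_lift3 (hXM : CSt XM) (C : WCalc XM) (Tor : TorusC XM) (hπ : CExt π)
    (hcard : Nat.card K = 3) (h2 : ∃ i j : ι, i ≠ j) :
    ∃ Y : ι ⊕ ι → ι ⊕ ι → K → E, CSt Y ∧ ∀ a c t, π (Y a c t) = XM a c t := by
  obtain ⟨h3, h2'⟩ := h58_three (K := K) hcard
  have hK' : ∃ l : K, l ≠ 0 ∧ l ≠ 1 := by
    refine ⟨-1, neg_ne_zero.mpr one_ne_zero, ?_⟩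
    intro h
    apply h2'
    linear_combination -h
  have hLC : LiftComm π XM := liftComm3 hXM.toCStAB Tor hπ hcard
  exact h58_exists_cSt_lift3_aux hXM Tor hπ hcard (exists_liftFam3 hXM C Tor hπ hcard h2 hLC)
    (fun {Y} hY hT hssl => ls_of_liftFam hXM.toCStAB Tor hπ hK' hLC hY hT hssl)

end Cfsg.Agent.Lib.Helper66_S92
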