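import Mathlib
import Cfsg.Agent.Lib.Helper66_S96Rank
import Cfsg.Agent.Lib.Helper99_S96_WW
import Cfsg.Agent.Lib.Helper58_S96_T1aux

set_option autoImplicit false
set_option linter.unusedVariables false
set_option linter.unusedSectionVars false

/-!
Package D_T1 of helper66's `s96_packages` market (S2096, type `D`): the torus relation
`HD X a c s * HD X (ng a) e s = HD X c e s`, verbatim statement.  The proof is `h58_t1D_core`
(`Helper58_S96_T1aux`) fed with `wh_conj_all` / `hw_conj_all` of package D_WW (`Helper99_S96_WW`).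
-/

namespace Cfsg.Agent.Lib.Helper66_S96

open Cfsg.Agent.Lib.Helper5_SteinbergA Cfsg.Agent.Lib.Helper66_S92

variable {ι : Type*} [DecidableEq ι] {K : Type*} [Field K] {G : Type*} [Group G]
  {X : ι ⊕ ι → ι ⊕ ι → K → G}

theorem t1D_all [Finite K] (h : DSt X)
    (hW : ∀ a c : ι ⊕ ι, c ≠ a → c ≠ ng a → ∀ s : K, s ≠ 0 → ∀ (d e : ι ⊕ ι) (u : K),
      WD X a c s * X d e u * (WD X a c s)⁻¹ =
        X (sgD a c d) (sgD a c e) (muD a c s d * muD a c s e * u))
    (hH : ∀ a c : ι ⊕ ι, c ≠ a → c ≠ ng a → ∀ s : K, s ≠ 0 → ∀ (d e : ι ⊕ ι) (u : K),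
      HD X a c s * X d e u * (HD X a c s)⁻¹ = X d e (chD a c s d * chD a c s e * u))
    (a c e : ι ⊕ ι) (h1 : c ≠ a) (h2 : c ≠ ng a) (h3 : e ≠ a) (h4 : e ≠ ng a) (h5 : e ≠ c)
    (h6 : e ≠ ng c) (s : K) (hs : s ≠ 0) :
    HD X a c s * HD X (ng a) e s = HD X c e s :=
  h58_t1D_core h
    (fun a c h1 h2 s hs d e h3 h4 u hu => wh_conj_all h hW a c h1 h2 s hs d e h3 h4 u hu)
    (fun a c h1 h2 s hs d e h3 h4 u hu => hw_conj_all h hH a c h1 h2 s hs d e h3 h4 u hu)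
    a c e h1 h2 h3 h4 h5 h6 s hs

end Cfsg.Agent.Lib.Helper66_S96
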