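import Mathlib
import Cfsg.Prelude.Def_GeometricClasses
import Cfsg.Prelude.Def_LieClassical
import Cfsg.Agent.Lib.Helper39_QSDefs
import Cfsg.Agent.Lib.Helper5_SUOrder

/-!
# SUG package U2 (helper58, for helper39): `|scalars| * n! < |SU_n(q)|` for `n ≥ 3`.
-/

set_option autoImplicit false
set_option linter.unusedVariables false
set_option linter.style.haveILetI false

namespace Cfsg.Agent.Lib.Helper58_SUG_U2

open Matrix Cfsg.Geo Cfsg.Agent.Lib.Helper39_QSDefs

theorem factorial_le_two_pow (n : ℕ) : n.factorial ≤ 2 ^ (∑ i ∈ Finset.range n, i) := by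
  induction n with
  | zero => simp
  | succ n ih =>
    rw [Nat.factorial_succ, Finset.sum_range_succ, pow_add, mul_comm]
    exact Nat.mul_le_mul ih Nat.lt_two_pow_self

theorem prod_ge (q : ℕ) (hq : 2 ≤ q) (n : ℕ) (hn : 3 ≤ n) :
    (q + 1) * ((q ^ 2 - 1) * (q ^ 3 + 1)) ≤
      ∏ i ∈ Finset.range n, (if Even i then q ^ (i + 1) + 1 else q ^ (i + 1) - 1) := by
  induction n, hn using Nat.le_induction with
  | base =>
    rw [Finset.prod_range_succ, Finset.prod_range_succ, Finset.prod_range_succ,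
      Finset.prod_range_zero, if_pos (by decide : Even 0), if_neg (by decide : ¬ Even 1),
      if_pos (by decide : Even 2)]
    apply le_of_eq
    simp only [zero_add, pow_one, Nat.reduceAdd]
    ring
  | succ n hn ih =>
    rw [Finset.prod_range_succ]
    have h1 : 1 ≤ (if Even n then q ^ (n + 1) + 1 else q ^ (n + 1) - 1) := by
      have h2 : 2 ≤ q ^ (n + 1) := by
        calc 2 ≤ q := hq
          _ = q ^ 1 := (pow_one q).symm
          _ ≤ q ^ (n + 1) := Nat.pow_le_pow_right (by omega) (by omega)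
      split_ifs
      · omega
      · omega
    calc (q + 1) * ((q ^ 2 - 1) * (q ^ 3 + 1))
        ≤ (∏ i ∈ Finset.range n, (if Even i then q ^ (i + 1) + 1 else q ^ (i + 1) - 1)) * 1 := by
          rw [mul_one]; exact ih
      _ ≤ _ := Nat.mul_le_mul_left _ h1

variable {F : Type*} [Field F]

theorem card_scalars' {ι : Type} [Fintype ι] [DecidableEq ι] [Fintype F] [Nonempty ι] :
    Nat.card ↥(Cfsg.Geo.scalars ι F) = Fintype.card F - 1 := by
  unfold Cfsg.Geo.scalars
  have hinj : Function.Injective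
      (Units.map (Matrix.scalar ι : F →+* Matrix ι ι F).toMonoidHom) := by
    apply Units.map_injective
    intro a b h
    exact Matrix.scalar_inj.mp h
  rw [← Nat.card_congr (MonoidHom.ofInjective hinj).toEquiv, Nat.card_units,
    Nat.card_eq_fintype_card]

section SU
variable [Fintype F]

/-- the special unitary group inside `GL` has the order of `SU` -/
theorem card_GU_inf_SL' {q : ℕ} (n : ℕ) :
    Nat.card ↥(Cfsg.GU n F q ⊓ Cfsg.Geo.specialLinear (Fin n) F) = Nat.card (Cfsg.SU n F q) := by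
  rw [← Nat.card_congr (Cfsg.Agent.Lib.Helper5_SUOrder.kerEquiv (F := F) (q := q) n)]
  refine Nat.card_congr
    { toFun := fun g => ⟨⟨g.1, g.2.1⟩, ?_⟩
      invFun := fun g => ⟨g.1.1, ⟨g.1.2, ?_⟩⟩
      left_inv := fun g => rfl
      right_inv := fun g => rfl }
  · rw [MonoidHom.mem_ker]
    exact MonoidHom.mem_ker.mp g.2.2
  · have h := MonoidHom.mem_ker.mp g.2
    exact MonoidHom.mem_ker.mpr h

theorem U2 {q : ℕ} (hF : Fintype.card F = q ^ 2) (n : ℕ) (hn : 3 ≤ n) :
    Nat.card (scalars (Fin n) F) * n.factorial <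
      Nat.card (Cfsg.GU n F q ⊓ specialLinear (Fin n) F : Subgroup (GL (Fin n) F)) := by
  haveI : Nonempty (Fin n) := ⟨⟨0, by omega⟩⟩
  have hq : 2 ≤ q := Cfsg.Agent.Lib.Helper13_Herm.two_le_q hF
  rw [card_scalars', hF, card_GU_inf_SL']
  have hSU := Cfsg.Agent.Lib.Helper5_SUOrder.card_SU hF n (by omega)
  obtain ⟨S, hS⟩ : ∃ S : ℕ, S = Nat.card (Cfsg.SU n F q) := ⟨_, rfl⟩
  rw [← hS] at hSU ⊢
  rw [← Finset.sum_range_id] at hSU
  obtain ⟨T, hT⟩ : ∃ T : ℕ, T = ∑ i ∈ Finset.range n, i := ⟨_, rfl⟩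
  have h1 := prod_ge q hq n hn
  have h2 := factorial_le_two_pow n
  rw [← hT] at hSU h2
  have h3 : (q + 1) * (q ^ T * ((q ^ 2 - 1) * (q ^ 3 + 1))) ≤ (q + 1) * S := by
    rw [hSU]
    calc (q + 1) * (q ^ T * ((q ^ 2 - 1) * (q ^ 3 + 1)))
        = q ^ T * ((q + 1) * ((q ^ 2 - 1) * (q ^ 3 + 1))) := by ring
      _ ≤ _ := Nat.mul_le_mul_left _ h1
  have h4 := Nat.le_of_mul_le_mul_left h3 (by omega : 0 < q + 1)
  have hq2 : 0 < q ^ 2 - 1 := by
    have : 2 ^ 2 ≤ q ^ 2 := Nat.pow_le_pow_left hq 2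
    omega
  have hqT : 0 < q ^ T := Nat.pow_pos (by omega)
  calc (q ^ 2 - 1) * n.factorial ≤ (q ^ 2 - 1) * q ^ T :=
        Nat.mul_le_mul_left _ (h2.trans (Nat.pow_le_pow_left hq _))
    _ = q ^ T * ((q ^ 2 - 1) * 1) := by ring
    _ < q ^ T * ((q ^ 2 - 1) * (q ^ 3 + 1)) := by
        apply Nat.mul_lt_mul_of_pos_left _ hqT
        apply Nat.mul_lt_mul_of_pos_left _ hq2
        have : 0 < q ^ 3 := Nat.pow_pos (by omega)
        omega
    _ ≤ S := h4

end SU

end Cfsg.Agent.Lib.Helper58_SUG_U2
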