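import Mathlib
import Cfsg.Agent.Lib.Helper58_Schur

/-!
# Schur's theorem on regular cyclic subgroups, general form (helper58)

Continuation of `Helper58_Schur`.  Here primitivity is replaced by the weaker hypothesis that no
proper nontrivial subgroup of the regular cyclic subgroup `C` is invariant under the point
stabiliser; we prove that then the point stabiliser is transitive on `C ∖ {1}` whenever `|C|` is
divisible by a prime `p` and different from `p`.  We also attach a block to every invariant
subgroup and show that the normal closure of an element of a proper invariant subgroup is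
intransitive.
-/

set_option autoImplicit false
set_option linter.style.haveILetI false

namespace Cfsg.Agent.Lib.Helper58_Schur2

open MulAction Cfsg.Agent.Lib.Helper58_Schur

/-- A finite set stable under right multiplication by an element of prime order `p` has
cardinality divisible by `p`. -/
theorem dvd_card_of_mul_invariant {A : Type*} [Group A] [DecidableEq A] (p : ℕ)
    [hp : Fact p.Prime] (z : A) (hz : z ^ p = 1) (hz1 : z ≠ 1) (W : Finset A)
    (hW : ∀ t ∈ W, t * z ∈ W) : p ∣ W.card := by
  let f : Function.End W := fun t => ⟨t.1 * z, hW t.1 t.2⟩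
  have hpow : ∀ k : ℕ, ∀ t : W, (((f ^ k) t : W) : A) = t.1 * z ^ k := by
    intro k
    induction k with
    | zero => intro t; rw [pow_zero, pow_zero, mul_one]; rfl
    | succ n ih =>
      intro t
      rw [pow_succ']
      change ((f ((f ^ n) t) : W) : A) = _
      change (((f ^ n) t : W) : A) * z = _
      rw [ih t, pow_succ, mul_assoc]
  have hf : f ^ p ^ 1 = 1 := by
    rw [pow_one]
    funext t
    apply Subtype.ext
    rw [hpow, hz, mul_one]
    rfl
  have key := Equiv.Perm.card_fixedPoints_modEq (p := p) (n := 1) hf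
  have hfix : IsEmpty (Function.fixedPoints f) := by
    refine ⟨fun ⟨t, ht⟩ => hz1 ?_⟩
    have h1 : ((f t : W) : A) = t.1 := congrArg Subtype.val ht
    change t.1 * z = t.1 at h1
    exact mul_left_cancel (h1.trans (mul_one _).symm)
  rw [Fintype.card_eq_zero (α := Function.fixedPoints f), Fintype.card_coe] at key
  exact (Nat.modEq_zero_iff_dvd).mp key

variable {G : Type*} [Group G] {Ω : Type*} [MulAction G Ω] {C : Subgroup G}

theorem coeff_sum_single_one {A : Type*} [DecidableEq A] {R : Type*} [Semiring R] (T : Finset A)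
    (c : A) :
    (∑ t ∈ T, MonoidAlgebra.single t (1 : R)).coeff c = if c ∈ T then 1 else 0 := by
  rw [MonoidAlgebra.coeff_sum, Finsupp.finsetSum_apply]
  simp_rw [MonoidAlgebra.coeff_single, Finsupp.single_apply]
  rw [Finset.sum_ite_eq']

/-- The indicator of an invariant set lies in the transitivity module. -/
theorem indicator_mem_invSub [Finite G] (hC : IsRegSub Ω C) (α : Ω) (R : Type*) [Semiring R]
    [DecidableEq C] {T : Set C} (hT : IsInv hC α T) (Tf : Finset C)
    (hTf : ∀ c, c ∈ Tf ↔ c ∈ T) :
    (∑ t ∈ Tf, MonoidAlgebra.single t (1 : R)) ∈ invSub R hC α := by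
  intro h hα c
  rw [coeff_sum_single_one, coeff_sum_single_one]
  have : rho hC α h c ∈ Tf ↔ c ∈ Tf := by rw [hTf, hTf, hT.mem_iff hα]
  simp only [this]

/-- The coefficients of the square of an indicator count factorisations. -/
theorem coeff_indicator_sq {A : Type*} [Group A] [Fintype A] [DecidableEq A] {R : Type*}
    [Semiring R] (T : Finset A) (u : A) :
    ((∑ t ∈ T, MonoidAlgebra.single t (1 : R)) * (∑ t ∈ T, MonoidAlgebra.single t (1 : R))).coeff u
      = ((T.filter (fun t => t⁻¹ * u ∈ T)).card : R) := by
  rw [MonoidAlgebra.coeff_mul_apply_left, Finsupp.sum_fintype _ _ (fun _ => zero_mul _)]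
  simp_rw [coeff_sum_single_one]
  rw [← Finset.sum_boole]
  rw [← Finset.sum_subset (Finset.subset_univ T)]
  · apply Finset.sum_congr rfl
    intro t ht
    rw [if_pos ht, one_mul]
  · intro t _ ht
    rw [if_neg ht, zero_mul]

/-- Step A of Schur's argument under the weak primitivity hypothesis `hprim`: every invariant
set `T` contains the whole coset `x * {y | y ^ p = 1}` of each of its elements `x` with
`x ^ p ≠ 1`. -/
theorem coset_subset' [Finite G] (hC : IsRegSub Ω C) [IsCyclic C] (α : Ω)
    (p : ℕ) [hp : Fact p.Prime] (hpC : p ∣ Nat.card C)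
    (hprim : ∀ K : Subgroup C, IsInv hC α (K : Set C) → K = ⊥ ∨ K = ⊤)
    {T : Set C} (hT : IsInv hC α T)
    {x : C} (hx : x ∈ T) (hxp : x ^ p ≠ 1) {y : C} (hy : y ^ p = 1) : x * y ∈ T := by
  classical
  haveI := Fintype.ofFinite C
  have hcomm : ∀ a b : C, Commute a b := fun a b => Subtype.ext (hC.comm a a.2 b b.2)
  set Tf : Finset C := Finset.univ.filter (· ∈ T) with hTf
  have hmemTf : ∀ c, c ∈ Tf ↔ c ∈ T := fun c => by simp [hTf]
  -- the indicator of `T` is invariant
  have hz : (∑ t ∈ Tf, MonoidAlgebra.single t (1 : ZMod p)) ∈ invSub (ZMod p) hC α :=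
    indicator_mem_invSub hC α (ZMod p) hT Tf hmemTf
  -- hence so is its `p`-th power, whose coefficients count `p`-th roots in `T`
  have hzp : (∑ t ∈ Tf, MonoidAlgebra.single (t ^ p) (1 : ZMod p)) ∈ invSub (ZMod p) hC α := by
    letI : CommGroup C := { (inferInstance : Group C) with mul_comm := fun a b => hcomm a b }
    have := pow_mem hz p
    rwa [sum_single_pow] at this
  set ν : C → ZMod p := fun c => ((Tf.filter (fun t => t ^ p = c)).card : ZMod p) with hν
  have hνinv : ∀ h : G, h • α = α → ∀ c : C, ν (rho hC α h c) = ν c := by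
    intro h hα c
    have := hzp h hα c
    rwa [coeff_sum_single, coeff_sum_single] at this
  -- the support of `ν` is an invariant set of `p`-th powers
  have hU : IsInv hC α {c | ν c ≠ 0} := by
    intro h hα c hc
    change ν (rho hC α h c) ≠ 0
    rw [hνinv h hα c]
    exact hc
  have hUpow : ∀ c, ν c ≠ 0 → ∃ t : C, t ^ p = c := by
    intro c hc
    have : (Tf.filter (fun t => t ^ p = c)).Nonempty := by
      rw [Finset.nonempty_iff_ne_empty]
      intro h
      apply hc
      simp [hν, h]
    obtain ⟨t, ht⟩ := this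
    exact ⟨t, (Finset.mem_filter.mp ht).2⟩
  have hKpow : ∀ k ∈ Subgroup.closure {c | ν c ≠ 0}, ∃ t : C, t ^ p = k := by
    intro k hk
    induction hk using Subgroup.closure_induction with
    | mem c hc => exact hUpow c hc
    | one => exact ⟨1, one_pow p⟩
    | mul a b _ _ iha ihb =>
      obtain ⟨t, rfl⟩ := iha
      obtain ⟨t', rfl⟩ := ihb
      exact ⟨t * t', (hcomm t t').mul_pow p⟩
    | inv a _ iha =>
      obtain ⟨t, rfl⟩ := iha
      exact ⟨t⁻¹, inv_pow t p⟩
  -- an element of order `p`
  obtain ⟨z, hz⟩ := exists_prime_orderOf_dvd_card' (G := C) p hpC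
  have hz1 : z ≠ 1 := by
    intro h
    rw [h, orderOf_one] at hz
    exact hp.out.one_lt.ne hz
  have hzp1 : z ^ p = 1 := by rw [← hz]; exact pow_orderOf_eq_one z
  have hKbot : Subgroup.closure {c | ν c ≠ 0} = ⊥ := by
    rcases hprim _ (isInv_closure hC α hU) with h | h
    · exact h
    · exfalso
      -- the `p`-th power map would be surjective, hence injective
      have hsurj : Function.Surjective (fun t : C => t ^ p) := by
        intro k
        exact hKpow k (by rw [h]; exact Subgroup.mem_top k)
      have hinj := Finite.injective_iff_surjective.mpr hsurj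
      apply hz1
      apply hinj
      change z ^ p = 1 ^ p
      rw [hzp1, one_pow]
  have hν0 : ν (x ^ p) = 0 := by
    by_contra hne
    have : x ^ p ∈ Subgroup.closure {c | ν c ≠ 0} := Subgroup.subset_closure hne
    rw [hKbot, Subgroup.mem_bot] at this
    exact hxp this
  -- so `p` divides the number of `p`-th roots of `x ^ p` in `T`
  set F : Finset C := Tf.filter (fun t => t ^ p = x ^ p) with hF
  set E : Finset C := Finset.univ.filter (fun t => t ^ p = x ^ p) with hE
  have hdvd : p ∣ F.card := (ZMod.natCast_eq_zero_iff _ _).mp hν0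
  have hxF : x ∈ F := Finset.mem_filter.mpr ⟨(hmemTf x).mpr hx, rfl⟩
  have hFpos : 0 < F.card := Finset.card_pos.mpr ⟨x, hxF⟩
  have hFle : p ≤ F.card := Nat.le_of_dvd hFpos hdvd
  have hFE : F ⊆ E := by
    intro t ht
    exact Finset.mem_filter.mpr ⟨Finset.mem_univ _, (Finset.mem_filter.mp ht).2⟩
  have hEle : E.card ≤ p := by
    calc E.card ≤ (Finset.univ.filter (fun a : C => a ^ p = 1)).card := by
          apply Finset.card_le_card_of_injOn (fun t => x⁻¹ * t)
          · intro t ht
            have ht' : t ^ p = x ^ p := (Finset.mem_filter.mp ht).2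
            refine Finset.mem_filter.mpr ⟨Finset.mem_univ _, ?_⟩
            rw [(hcomm x⁻¹ t).mul_pow, ht', inv_pow, inv_mul_cancel]
          · intro a _ b _ hab
            exact mul_left_cancel hab
      _ ≤ p := IsCyclic.card_pow_eq_one_le hp.out.pos
  have hEF : E = F := (Finset.eq_of_subset_of_card_le hFE (hEle.trans hFle)).symm
  have hxyE : x * y ∈ E := by
    refine Finset.mem_filter.mpr ⟨Finset.mem_univ _, ?_⟩
    rw [(hcomm x y).mul_pow, hy, mul_one]
  rw [hEF] at hxyE
  exact (hmemTf _).mp (Finset.mem_filter.mp hxyE).1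

/-- In a cyclic group, the solutions of `y ^ p = 1` are the powers of any one nontrivial
solution. -/
theorem exists_pow_eq_of_pow_prime_eq_one {A : Type*} [Group A] [Finite A] [IsCyclic A] (p : ℕ)
    [hp : Fact p.Prime] {a : A} (ha : a ^ p = 1) (ha1 : a ≠ 1) {y : A} (hy : y ^ p = 1) :
    ∃ i : ℕ, y = a ^ i := by
  classical
  haveI := Fintype.ofFinite A
  have hord : orderOf a = p := by
    rcases (Nat.dvd_prime hp.out).mp (orderOf_dvd_of_pow_eq_one ha) with h | h
    · exact absurd (orderOf_eq_one_iff.mp h) ha1
    · exact h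
  set E : Finset A := Finset.univ.filter (fun t : A => t ^ p = 1) with hE
  set P : Finset A := (Finset.range p).image (fun i => a ^ i) with hP
  have hPcard : P.card = p := by
    rw [hP, Finset.card_image_of_injOn, Finset.card_range]
    intro i hi j hj hij
    have hi' : i < orderOf a := by rw [hord]; exact Finset.mem_range.mp hi
    have hj' : j < orderOf a := by rw [hord]; exact Finset.mem_range.mp hj
    exact pow_injOn_Iio_orderOf hi' hj' hij
  have hPE : P ⊆ E := by
    intro t ht
    obtain ⟨i, _, rfl⟩ := Finset.mem_image.mp ht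
    refine Finset.mem_filter.mpr ⟨Finset.mem_univ _, ?_⟩
    rw [← pow_mul, mul_comm, pow_mul, ha, one_pow]
  have hEle : E.card ≤ p := IsCyclic.card_pow_eq_one_le hp.out.pos
  have hEP : P = E := Finset.eq_of_subset_of_card_le hPE (by rw [hPcard]; exact hEle)
  have hyE : y ∈ E := Finset.mem_filter.mpr ⟨Finset.mem_univ _, hy⟩
  rw [← hEP] at hyE
  obtain ⟨i, _, rfl⟩ := Finset.mem_image.mp hyE
  exact ⟨i, rfl⟩

/-- Schur's theorem, orbit form, general version: let `C` be a regular cyclic subgroup none of
whose proper nontrivial subgroups is invariant under the point stabiliser.  If `|C|` is divisible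
by the prime `p` and different from `p`, the point stabiliser is transitive on `C ∖ {1}`. -/
theorem orb_eq_of_ne_one' [Finite G] (hC : IsRegSub Ω C) [IsCyclic C] (α : Ω)
    (p : ℕ) [hp : Fact p.Prime] (hpC : p ∣ Nat.card C) (hne : Nat.card C ≠ p)
    (hprim : ∀ K : Subgroup C, IsInv hC α (K : Set C) → K = ⊥ ∨ K = ⊤)
    (c c' : C) (hc : c ≠ 1) (hc' : c' ≠ 1) : c' ∈ orb hC α c := by
  classical
  haveI := Fintype.ofFinite C
  have hcomm : ∀ a b : C, a * b = b * a := fun a b => Subtype.ext (hC.comm a a.2 b b.2)
  have hcm : ∀ a b : C, Commute a b := hcomm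
  obtain ⟨z, hz⟩ := exists_prime_orderOf_dvd_card' (G := C) p hpC
  have hz1 : z ≠ 1 := by
    intro h
    rw [h, orderOf_one] at hz
    exact hp.out.one_lt.ne hz
  have hzp : z ^ p = 1 := by rw [← hz]; exact pow_orderOf_eq_one z
  have hzinvp : z⁻¹ ^ p = 1 := by rw [inv_pow, hzp, inv_one]
  have hmulinv : ∀ t u : C, (t * z)⁻¹ * u = t⁻¹ * u * z⁻¹ := by
    intro t u
    rw [mul_inv_rev, hcomm z⁻¹ t⁻¹, mul_assoc, hcomm z⁻¹ u, mul_assoc]
  have hEle : (Finset.univ.filter (fun t : C => t ^ p = 1)).card ≤ p :=
    IsCyclic.card_pow_eq_one_le hp.out.pos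
  -- not every element satisfies `y ^ p = 1`
  have hnotall : ¬ ∀ y : C, y ^ p = 1 := by
    intro hall
    have h1 : Finset.univ.filter (fun t : C => t ^ p = 1) = Finset.univ := by
      ext t; simp [hall t]
    rw [h1, Finset.card_univ, ← Nat.card_eq_fintype_card] at hEle
    exact hne (le_antisymm hEle (Nat.le_of_dvd Nat.card_pos hpC))
  -- the key claim: every nontrivial orbit contains `z`
  have key : ∀ d : C, d ≠ 1 → z ∈ orb hC α d := by
    intro d hd
    have hS := isInv_orb hC α d
    have h1S : (1 : C) ∉ orb hC α d := by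
      intro h
      have := mem_orb_symm hC α h
      rw [orb_one] at this
      exact hd this
    -- (a) the orbit meets `Z`
    have hmeet : ∀ e : C, e ≠ 1 → ∃ a ∈ orb hC α e, a ^ p = 1 := by
      intro e he
      by_contra hno
      push Not at hno
      have hTe := isInv_orb hC α e
      have h1T : (1 : C) ∉ orb hC α e := by
        intro h
        have := mem_orb_symm hC α h
        rw [orb_one] at this
        exact he this
      have hstep : ∀ t ∈ orb hC α e, z * t ∈ orb hC α e := by
        intro t ht
        have := coset_subset' hC α p hpC hprim hTe ht (hno t ht) hzp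
        rwa [hcomm t z] at this
      have hstep' : ∀ t ∈ orb hC α e, z⁻¹ * t ∈ orb hC α e := by
        intro t ht
        have := coset_subset' hC α p hpC hprim hTe ht (hno t ht) hzinvp
        rwa [hcomm t z⁻¹] at this
      have hzS : z ∈ stabSet (orb hC α e) := by
        intro t
        refine ⟨hstep t, fun ht => ?_⟩
        have := hstep' _ ht
        rwa [inv_mul_cancel_left] at this
      rcases hprim _ (isInv_stabSet hC α hTe) with h | h
      · rw [h, Subgroup.mem_bot] at hzS
        exact hz1 hzS
      · have hdS : e⁻¹ ∈ stabSet (orb hC α e) := by rw [h]; exact Subgroup.mem_top _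
        have := (hdS e).mp (mem_orb_self hC α e)
        rw [inv_mul_cancel] at this
        exact h1T this
    -- (b) the orbit is not contained in `Z`
    have hout : ∀ e : C, e ≠ 1 → ∃ y ∈ orb hC α e, y ^ p ≠ 1 := by
      intro e he
      by_contra hno
      push Not at hno
      have hTe := isInv_orb hC α e
      have hcl : ∀ k ∈ Subgroup.closure (orb hC α e), k ^ p = 1 := by
        intro k hk
        induction hk using Subgroup.closure_induction with
        | mem t ht => exact hno t ht
        | one => exact one_pow p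
        | mul a b _ _ iha ihb => rw [(hcm a b).mul_pow, iha, ihb, one_mul]
        | inv a _ iha => rw [inv_pow, iha, inv_one]
      rcases hprim _ (isInv_closure hC α hTe) with h | h
      · have : e ∈ Subgroup.closure (orb hC α e) := Subgroup.subset_closure (mem_orb_self hC α e)
        rw [h, Subgroup.mem_bot] at this
        exact he this
      · exact hnotall (fun y => hcl y (by rw [h]; exact Subgroup.mem_top y))
    -- (c) products of two elements of `S ∩ Z` stay in `(S ∩ Z) ∪ {1}`
    have hprod : ∀ a ∈ orb hC α d, ∀ a' ∈ orb hC α d, a ^ p = 1 → a' ^ p = 1 →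
        a * a' = 1 ∨ a * a' ∈ orb hC α d := by
      intro a ha a' ha' hap ha'p
      by_contra hcon
      push Not at hcon
      obtain ⟨hx1, hxS⟩ := hcon
      set x : C := a * a' with hx
      have hxp : x ^ p = 1 := by rw [hx, (hcm a a').mul_pow, hap, ha'p, one_mul]
      have hT := isInv_orb hC α x
      have hdisj : ∀ t ∈ orb hC α x, t ∉ orb hC α d := by
        intro t ht htS
        exact hxS (orb_subset_of_mem hC α hS htS (mem_orb_symm hC α ht))
      obtain ⟨y, hyT, hyp⟩ := hout x hx1
      set Sf : Finset C := Finset.univ.filter (· ∈ orb hC α d) with hSf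
      have hmemSf : ∀ c, c ∈ Sf ↔ c ∈ orb hC α d := fun c => by simp [hSf]
      have hind : (∑ t ∈ Sf, MonoidAlgebra.single t (1 : ZMod p)) ∈ invSub (ZMod p) hC α :=
        indicator_mem_invSub hC α (ZMod p) hS Sf hmemSf
      have hsq := mul_mem hind hind
      obtain ⟨h, hα, hhy⟩ := hyT
      have hN := hsq h hα x
      rw [hhy, coeff_indicator_sq, coeff_indicator_sq] at hN
      -- the count at `y` is divisible by `p`
      have hNy : p ∣ (Sf.filter (fun t => t⁻¹ * y ∈ Sf)).card := by
        apply dvd_card_of_mul_invariant p z hzp hz1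
        intro t ht
        rw [Finset.mem_filter, hmemSf, hmemSf] at ht
        obtain ⟨htS, htyS⟩ := ht
        have hyT' : y ∈ orb hC α x := ⟨h, hα, hhy⟩
        have htp : t ^ p ≠ 1 := by
          intro htp
          have h1 : (t⁻¹ * y) ^ p ≠ 1 := by
            rw [(hcm t⁻¹ y).mul_pow, inv_pow, htp, inv_one, one_mul]
            exact hyp
          have := coset_subset' hC α p hpC hprim hS htyS h1 htp
          rw [hcomm, mul_inv_cancel_left] at this
          exact hdisj y hyT' this
        have htyp : (t⁻¹ * y) ^ p ≠ 1 := by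
          intro htyp
          have := coset_subset' hC α p hpC hprim hS htS htp htyp
          rw [mul_inv_cancel_left] at this
          exact hdisj y hyT' this
        rw [Finset.mem_filter, hmemSf, hmemSf]
        refine ⟨coset_subset' hC α p hpC hprim hS htS htp hzp, ?_⟩
        have := coset_subset' hC α p hpC hprim hS htyS htyp hzinvp
        rwa [hmulinv]
      have hNx0 : ((Sf.filter (fun t => t⁻¹ * x ∈ Sf)).card : ZMod p) = 0 := by
        rw [← hN]
        exact (ZMod.natCast_eq_zero_iff _ _).mpr hNy
      have hNx : p ∣ (Sf.filter (fun t => t⁻¹ * x ∈ Sf)).card :=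
        (ZMod.natCast_eq_zero_iff _ _).mp hNx0
      set W : Finset C := Sf.filter (fun t => t⁻¹ * x ∈ Sf) with hW
      -- the part of `W` outside `Z` has cardinality divisible by `p`
      have hW2 : p ∣ (W.filter (fun t => ¬ t ^ p = 1)).card := by
        apply dvd_card_of_mul_invariant p z hzp hz1
        intro t ht
        rw [Finset.mem_filter, hW, Finset.mem_filter, hmemSf, hmemSf] at ht
        obtain ⟨⟨htS, htxS⟩, htp⟩ := ht
        have htxp : (t⁻¹ * x) ^ p ≠ 1 := by
          rw [(hcm t⁻¹ x).mul_pow, hxp, mul_one, inv_pow]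
          intro h
          exact htp (inv_eq_one.mp h)
        rw [Finset.mem_filter, hW, Finset.mem_filter, hmemSf, hmemSf]
        refine ⟨⟨coset_subset' hC α p hpC hprim hS htS htp hzp, ?_⟩, ?_⟩
        · have := coset_subset' hC α p hpC hprim hS htxS htxp hzinvp
          rwa [hmulinv]
        · rw [(hcm t z).mul_pow, hzp, mul_one]
          exact htp
      have hW1 : p ∣ (W.filter (fun t => t ^ p = 1)).card := by
        have hsum := Finset.card_filter_add_card_filter_not (s := W) (fun t => t ^ p = 1)
        have : p ∣ (W.filter (fun t => t ^ p = 1)).card +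
            (W.filter (fun t => ¬ t ^ p = 1)).card := by rw [hsum]; exact hNx
        exact (Nat.dvd_add_left hW2).mp this
      have haW : a ∈ W.filter (fun t => t ^ p = 1) := by
        rw [Finset.mem_filter, hW, Finset.mem_filter, hmemSf, hmemSf]
        refine ⟨⟨ha, ?_⟩, hap⟩
        rw [hx, inv_mul_cancel_left]
        exact ha'
      have hpos : 0 < (W.filter (fun t => t ^ p = 1)).card := Finset.card_pos.mpr ⟨a, haW⟩
      have hple : p ≤ (W.filter (fun t => t ^ p = 1)).card := Nat.le_of_dvd hpos hW1
      have hsub : W.filter (fun t => t ^ p = 1) ⊆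
          (Finset.univ.filter (fun t : C => t ^ p = 1)).erase 1 := by
        intro t ht
        rw [Finset.mem_filter, hW, Finset.mem_filter, hmemSf] at ht
        rw [Finset.mem_erase, Finset.mem_filter]
        refine ⟨?_, Finset.mem_univ _, ht.2⟩
        rintro rfl
        exact h1S ht.1.1
      have h1E : (1 : C) ∈ Finset.univ.filter (fun t : C => t ^ p = 1) :=
        Finset.mem_filter.mpr ⟨Finset.mem_univ _, one_pow p⟩
      have hcard := Finset.card_le_card hsub
      rw [Finset.card_erase_of_mem h1E] at hcard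
      have hEpos : 0 < (Finset.univ.filter (fun t : C => t ^ p = 1)).card :=
        Finset.card_pos.mpr ⟨1, h1E⟩
      omega
    -- (d) all powers of an element of `S ∩ Z` lie in `S ∪ {1}`
    obtain ⟨a, haS, hap⟩ := hmeet d hd
    have ha1 : a ≠ 1 := fun h => h1S (h ▸ haS)
    have hpows : ∀ i : ℕ, a ^ (i + 1) = 1 ∨ a ^ (i + 1) ∈ orb hC α d := by
      intro i
      induction i with
      | zero => right; rwa [zero_add, pow_one]
      | succ n ih =>
        rcases ih with h | h
        · right
          rw [pow_succ, h, one_mul]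
          exact haS
        · rw [pow_succ]
          apply hprod _ h _ haS _ hap
          rw [← pow_mul, mul_comm, pow_mul, hap, one_pow]
    obtain ⟨i, hi⟩ := exists_pow_eq_of_pow_prime_eq_one p hap ha1 hzp
    cases i with
    | zero => rw [pow_zero] at hi; exact absurd hi hz1
    | succ n =>
      rcases hpows n with h | h
      · rw [h] at hi; exact absurd hi hz1
      · rw [hi]; exact h
  have h1 := key c hc
  have h2 := key c' hc'
  exact orb_subset_of_mem hC α (isInv_orb hC α c) h1 (mem_orb_symm hC α h2)

/-- Schur's theorem, general version: a group with a regular cyclic subgroup `C` of order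
divisible by the prime `p` and different from `p`, such that no proper nontrivial subgroup of `C`
is invariant under the point stabiliser, is doubly transitive. -/
theorem two_pretransitive_of_hprim [Finite G] (hC : IsRegSub Ω C) [IsCyclic C] (α : Ω)
    (p : ℕ) [Fact p.Prime] (hpC : p ∣ Nat.card C) (hne : Nat.card C ≠ p)
    (hprim : ∀ K : Subgroup C, IsInv hC α (K : Set C) → K = ⊥ ∨ K = ⊤) :
    IsMultiplyPretransitive G Ω 2 := by
  haveI : IsPretransitive G Ω :=
    ⟨fun ω ω' => by obtain ⟨c, _, h⟩ := hC.trans ω ω'; exact ⟨c, h⟩⟩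
  apply two_pretransitive_of_stabilizer α
  intro ω ω' hω hω'
  obtain ⟨c, hc, rfl⟩ := hC.trans α ω
  obtain ⟨c', hc', rfl⟩ := hC.trans α ω'
  have hc1 : (⟨c, hc⟩ : C) ≠ 1 := by
    intro h
    apply hω
    have : c = 1 := congrArg Subtype.val h
    rw [this, one_smul]
  have hc'1 : (⟨c', hc'⟩ : C) ≠ 1 := by
    intro h
    apply hω'
    have : c' = 1 := congrArg Subtype.val h
    rw [this, one_smul]
  obtain ⟨h, hα, hh⟩ := orb_eq_of_ne_one' hC α p hpC hne hprim _ _ hc1 hc'1
  refine ⟨h, hα, ?_⟩
  have := rho_smul hC α h ⟨c, hc⟩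
  rw [hh] at this
  exact this.symm

/-! ### The block of an invariant subgroup -/

open scoped Pointwise

/-- The subset `K • α` of `Ω` attached to a subgroup `K` of `C`. -/
def blockOf (α : Ω) (K : Subgroup C) : Set Ω := {ω | ∃ k ∈ K, ((k : C) : G) • α = ω}

theorem mem_blockOf_self (α : Ω) (K : Subgroup C) : α ∈ blockOf α K :=
  ⟨1, K.one_mem, by simp⟩

/-- An invariant subgroup gives a block. -/
theorem isBlock_blockOf (hC : IsRegSub Ω C) (α : Ω) (K : Subgroup C)
    (hK : IsInv hC α (K : Set C)) : IsBlock G (blockOf α K) := by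
  have key : ∀ g : G, ∀ a ∈ blockOf α K, g • a ∈ blockOf α K →
      ∀ b ∈ blockOf α K, g • b ∈ blockOf α K := by
    rintro g _ ⟨k₁, hk₁, rfl⟩ ⟨k₂, hk₂, hk⟩ _ ⟨k, hk', rfl⟩
    have hfix : ((k₂ : G)⁻¹ * g * (k₁ : G)) • α = α := by
      rw [mul_smul, mul_smul, ← hk, inv_smul_smul]
    have hmem := hK _ hfix (k₁⁻¹ * k) (K.mul_mem (K.inv_mem hk₁) hk')
    refine ⟨k₂ * rho hC α ((k₂ : G)⁻¹ * g * (k₁ : G)) (k₁⁻¹ * k), K.mul_mem hk₂ hmem, ?_⟩
    rw [Subgroup.coe_mul, mul_smul, rho_smul, Subgroup.coe_mul, Subgroup.coe_inv, mul_smul,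
      mul_smul, mul_smul, smul_inv_smul, smul_inv_smul]
  rw [isBlock_iff_smul_eq_of_mem]
  intro g a ha hga
  apply Set.Subset.antisymm
  · rintro _ ⟨b, hb, rfl⟩
    exact key g a ha hga b hb
  · intro b hb
    refine ⟨g⁻¹ • b, key g⁻¹ (g • a) hga (by rwa [inv_smul_smul]) b hb, smul_inv_smul g b⟩

theorem eq_top_of_blockOf_eq_univ (hC : IsRegSub Ω C) (α : Ω) (K : Subgroup C)
    (h : blockOf α K = Set.univ) : K = ⊤ := by
  rw [eq_top_iff]
  intro c _
  have : ((c : C) : G) • α ∈ blockOf α K := by rw [h]; exact Set.mem_univ _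
  obtain ⟨k, hk, hkc⟩ := this
  rw [← hC.eq_of_smul_eq α hkc]
  exact hk

/-- The elements of `G` fixing every translate of `B`. -/
def fixBlocks (B : Set Ω) : Subgroup G where
  carrier := {x | ∀ g : G, x • g • B = g • B}
  one_mem' := fun g => one_smul _ _
  mul_mem' := fun {a b} ha hb g => by rw [mul_smul, hb g, ha g]
  inv_mem' := fun {a} ha g => by rw [inv_smul_eq_iff, ha g]

theorem fixBlocks_normal (B : Set Ω) : (fixBlocks (G := G) B).Normal := by
  refine ⟨fun x hx y g => ?_⟩
  have := hx (y⁻¹ * g)
  simp only [mul_smul] at this ⊢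
  rw [this, smul_inv_smul]

/-- An element of an invariant subgroup fixes every translate of the corresponding block. -/
theorem mem_fixBlocks (hC : IsRegSub Ω C) (α : Ω) (K : Subgroup C)
    (hK : IsInv hC α (K : Set C)) (z : C) (hz : z ∈ K) :
    (z : G) ∈ fixBlocks (G := G) (blockOf α K) := by
  have hB := isBlock_blockOf hC α K hK
  rw [isBlock_iff_smul_eq_of_mem] at hB
  have hα := mem_blockOf_self α K
  intro g
  obtain ⟨c, hc, hcg⟩ := hC.trans α (g • α)
  have h1 : (c⁻¹ * g) • blockOf α K = blockOf α K := by
    apply hB hα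
    rw [mul_smul, ← hcg, inv_smul_smul]
    exact hα
  have h2 : g • blockOf α K = c • blockOf α K := by
    conv_rhs => rw [← h1, smul_smul, mul_inv_cancel_left]
  have h3 : (z : G) • blockOf α K = blockOf α K := hB hα ⟨z, hz, rfl⟩
  rw [h2, smul_smul, hC.comm _ z.2 _ hc, ← smul_smul, h3]

/-- The normal closure of an element of a proper invariant subgroup is intransitive. -/
theorem not_pretransitive_normalClosure (hC : IsRegSub Ω C) (α : Ω) (K : Subgroup C)
    (hK : IsInv hC α (K : Set C)) (hKtop : K ≠ ⊤) (z : C) (hz : z ∈ K) :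
    ¬ IsPretransitive (Subgroup.normalClosure ({(z : G)} : Set G)) Ω := by
  intro htr
  apply hKtop
  apply eq_top_of_blockOf_eq_univ hC α K
  haveI := fixBlocks_normal (G := G) (blockOf α K)
  have hle : Subgroup.normalClosure ({(z : G)} : Set G) ≤ fixBlocks (blockOf α K) := by
    apply Subgroup.normalClosure_le_normal
    intro x hx
    rw [Set.mem_singleton_iff] at hx
    rw [hx]
    exact mem_fixBlocks hC α K hK z hz
  rw [Set.eq_univ_iff_forall]
  intro ω
  obtain ⟨n, hn⟩ := htr.exists_smul_eq α ω
  have h1 := hle n.2 1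
  rw [one_smul] at h1
  rw [← hn, ← h1]
  exact ⟨α, mem_blockOf_self α K, rfl⟩

end Cfsg.Agent.Lib.Helper58_Schur2
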