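import Mathlib
import Cfsg.Agent.Lib.Helper67_Sp4Defs

/-!
# S5789 package XQ (helper64, architect helper67): calculus of the elements `xq` in
characteristic two
-/

set_option autoImplicit false
set_option linter.unusedSectionVars false
set_option linter.unusedVariables false

open Cfsg.Agent.Lib.Helper94_Symp Cfsg.Agent.Lib.Helper38_SpSub1 Cfsg.Agent.Lib.Helper38_SpSub2
  Cfsg.Agent.Lib.Helper98_ExtDefs Cfsg.Agent.Lib.Helper67_Sp4Defs

namespace Cfsg.Agent.Lib.Helper64_Sp4E_XQ

section XQ

variable {F V : Type*} [Field F] [AddCommGroup V] [Module F V] [CharP F 2]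
variable (B : LinearMap.BilinForm F V) (hB : B.IsAlt)

omit [CharP F 2] in
include hB in
theorem alt_symm2 [CharP F 2] (x y : V) : B x y = B y x := by
  rw [alt_swap B hB x y, CharTwo.neg_eq]

omit [CharP F 2] in
theorem two_smul_zero [CharP F 2] (c : F) (v : V) : c • v + c • v = 0 := by
  rw [← add_smul, CharTwo.add_self_eq_zero, zero_smul]

variable (F) in
omit [CharP F 2] in
theorem two_smul_zero' [CharP F 2] (v : V) : v + v = 0 := by
  have := two_smul_zero (1 : F) v
  rwa [one_smul] at this

theorem xq_mul {w a a' : V} (h : B a w = 0) (h' : B a' w = 0) (c c' : F) :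
    xq B hB w a c * xq B hB w a' c' = xq B hB w (a + a') (c + c' + B a a') := by
  have hw : B w a = 0 := alt_zero B hB h
  have hw' : B w a' = 0 := alt_zero B hB h'
  have hs : B a' a = B a a' := alt_symm2 B hB a' a
  have haa : B (a + a') w = 0 := by rw [map_add, LinearMap.add_apply, h, h', add_zero]
  ext x
  rw [LinearEquiv.mul_apply, xq_apply B hB h', xq_apply B hB h, xq_apply B hB haa]
  simp only [map_add, map_smul, LinearMap.add_apply, LinearMap.smul_apply, smul_eq_mul, hB w, h',
    hw, hs, mul_zero, add_zero]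
  module

theorem xq_add_smul {w a : V} (h : B a w = 0) (s c : F) :
    xq B hB w (a + s • w) c = xq B hB w a c := by
  have haa : B (a + s • w) w = 0 := by
    rw [map_add, LinearMap.add_apply, h, map_smul, LinearMap.smul_apply, hB w, smul_zero, add_zero]
  ext x
  rw [xq_apply B hB haa, xq_apply B hB h]
  simp only [map_add, map_smul, smul_eq_mul]
  have h2 := two_smul_zero (s * B x w) w
  linear_combination (norm := module) h2

theorem conj_xq {g : V ≃ₗ[F] V} (hg : g ∈ isoGroup B) (w a : V) (c : F) :
    g * xq B hB w a c * g⁻¹ = xq B hB (g w) (g a) c := by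
  have e : g * xq B hB w a c * g⁻¹ = (g * T B hB a w * g⁻¹) * (g * stv B hB w c * g⁻¹) := by
    simp only [xq]; group
  rw [e, conj_T B hB hg, conj_stv B hB hg]
  rfl

theorem xq_zero (w : V) (c : F) : xq B hB w 0 c = stv B hB w c := by
  rw [xq, T_zero_left, one_mul]

theorem xq_T (w a : V) : xq B hB w a 0 = T B hB a w := by
  have : stv B hB w 0 = 1 := by
    ext x; simp
  rw [xq, this, mul_one]

theorem xq_smul_left {w a : V} (h : B a w = 0) (μ c : F) :
    xq B hB (μ • w) a c = xq B hB w (μ • a) (μ * μ * c) := by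
  rw [xq, xq, stv_smul, T_smul_swap B hB h]

/-- the key identity: a conjugate of a long root element times the long root element -/
theorem stv_add_eq {v y : V} (h : B v y = 0) (s t : F) :
    stv B hB (y + s • v) t * stv B hB y t = T B hB ((t * s) • v) y * stv B hB v (t * s * s) := by
  have h' : B y v = 0 := alt_zero B hB h
  have hT : B ((t * s) • v) y = 0 := by rw [map_smul, LinearMap.smul_apply, h, smul_zero]
  ext x
  rw [LinearEquiv.mul_apply, LinearEquiv.mul_apply, T_apply B hB hT]
  simp only [stv_apply, map_add, map_smul, LinearMap.add_apply, LinearMap.smul_apply, smul_eq_mul,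
    hB v, hB y, h, h', mul_zero, add_zero]
  have h2 := two_smul_zero (t * B x y) y
  linear_combination (norm := module) h2

/-- an isometry fixing `w` and acting trivially on `w^⊥ / F w` is some `xq w a c` -/
theorem exists_xq_of_trivial [FiniteDimensional F V] (hN : B.Nondegenerate) {w : V} (hw : w ≠ 0)
    {g : V ≃ₗ[F] V} (hg : g ∈ isoGroup B) (hgw : g w = w)
    (htriv : ∀ v, B v w = 0 → ∃ s : F, g v = v + s • w) :
    ∃ (a : V) (c : F), B a w = 0 ∧ g = xq B hB w a c := by
  -- a vector `w'` with `B w' w = 1`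
  obtain ⟨w', hw'⟩ : ∃ w' : V, B w' w = 1 := by
    have hne : ¬ ∀ y, B w y = 0 := fun hall => hw (hN.1 w hall)
    push Not at hne
    obtain ⟨y, hy⟩ := hne
    have hy' : B y w ≠ 0 := alt_ne_zero_comm B hB hy
    refine ⟨(B y w)⁻¹ • y, ?_⟩
    rw [map_smul, LinearMap.smul_apply, smul_eq_mul, inv_mul_cancel₀ hy']
  have hww' : B w w' = 1 := by rw [alt_symm2 B hB w w', hw']
  obtain ⟨y, hy⟩ : ∃ y : V, y = g w' + w' := ⟨_, rfl⟩
  have hgw' : g w' = y + w' := by
    rw [hy, add_assoc, two_smul_zero' F w', add_zero]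
  have hyw : B y w = 0 := by
    have h1 : B (g w') w = 1 := by
      conv_lhs => rw [← hgw]
      rw [hg w' w, hw']
    rw [hy, map_add, LinearMap.add_apply, h1, hw', CharTwo.add_self_eq_zero]
  have hwy : B w y = 0 := alt_zero B hB hyw
  refine ⟨y, B w' y, hyw, ?_⟩
  -- the action of `g` on `w^⊥`
  have hperp : ∀ v, B v w = 0 → g v = v + B v y • w := by
    intro v hv
    obtain ⟨s, hs⟩ := htriv v hv
    have h1 : B (g v) (g w') = B v w' := hg v w'
    rw [hs, hgw'] at h1
    simp only [map_add, map_smul, LinearMap.add_apply, LinearMap.smul_apply, smul_eq_mul, hwy, hww',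
      mul_zero, mul_one, add_zero] at h1
    have h2 : s = B v y := by
      have h3 : B v y + s = 0 := by linear_combination h1
      exact (CharTwo.add_eq_zero.mp h3).symm
    rw [hs, h2]
  ext x
  rw [xq_apply B hB hyw]
  obtain ⟨t, ht⟩ : ∃ t : F, t = B x w := ⟨_, rfl⟩
  obtain ⟨v, hv⟩ : ∃ v : V, v = x + t • w' := ⟨_, rfl⟩
  have hvw : B v w = 0 := by
    rw [hv, map_add, LinearMap.add_apply, map_smul, LinearMap.smul_apply, hw', smul_eq_mul, mul_one,
      ← ht, CharTwo.add_self_eq_zero]
  have hx : x = v + t • w' := by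
    rw [hv, add_assoc, two_smul_zero, add_zero]
  have hgx : g x = g v + t • g w' := by
    conv_lhs => rw [hx]
    rw [map_add, map_smul]
  have hvy : B v y = B x y + t * B w' y := by
    rw [hv, map_add, LinearMap.add_apply, map_smul, LinearMap.smul_apply, smul_eq_mul]
  rw [hgx, hperp v hvw, hgw', hvy, ← ht, hv]
  have h2 := two_smul_zero t w'
  linear_combination (norm := module) h2

end XQ

end Cfsg.Agent.Lib.Helper64_Sp4E_XQ
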