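import Mathlib
import Cfsg.Agent.Lib.Helper67_Sp4Defs
import Cfsg.Agent.Lib.Helper64_Sp4E_XQ
import Cfsg.Agent.Lib.Helper50_Sp4E_RW2

set_option autoImplicit false
set_option linter.unusedSectionVars false
set_option linter.unusedVariables false
set_option linter.unusedSimpArgs false

/-!
# S5789, package RRB (architect helper67): the relations R0, R1 between the long and the short
root parameter sets of an overgroup `X` of the rational group `Sp_4(F₀)` in `Sp_4(F)`, `F` of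
characteristic 2.
-/

open Cfsg.Agent.Lib.Helper94_Symp Cfsg.Agent.Lib.Helper38_SpSub1 Cfsg.Agent.Lib.Helper38_SpSub2
  Cfsg.Agent.Lib.Helper98_ExtDefs Cfsg.Agent.Lib.Helper67_Sp4Defs

namespace Cfsg.Agent.Lib.Helper58_Sp4E_RRB

section Aux

variable {F V : Type*} [Field F] [AddCommGroup V] [Module F V] [CharP F 2]

/-- in characteristic 2 two vectors whose difference is twice something are equal -/
theorem eq_of_sub_eq_two_smul {a c w : V} (h : a - c = (2 : F) • w) : a = c := by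
  rw [← sub_eq_zero, h, CharTwo.two_eq_zero, zero_smul]

theorem sg_eq_one (x : Fin 2 ⊕ Fin 2) : sg F x = 1 := by
  cases x
  · rfl
  · simp [sg, CharTwo.neg_eq]

variable {B : LinearMap.BilinForm F V} {b : Module.Basis (Fin 2 ⊕ Fin 2) F V} (hb : IsSymp B b)

include hb

theorem B_eq (x y : Fin 2 ⊕ Fin 2) : B (b x) (b y) = if y = x.swap then 1 else 0 := by
  have h := hb x y
  rw [sg_eq_one] at h
  exact h

end Aux

section Rat

variable {F V : Type*} [Field F] [AddCommGroup V] [Module F V] [CharP F 2] [Finite F]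
variable {B : LinearMap.BilinForm F V} (hB : B.IsAlt)
variable {F₀ : Subfield F}
variable {b : Module.Basis (Fin 2 ⊕ Fin 2) F V} (hb : IsSymp B b)
variable {S : Subgroup (V ≃ₗ[F] V)} (hS : IsRatGroup b B F₀ S)

include hB hb hS

variable {X : Subgroup (V ≃ₗ[F] V)} (hSX : S ⊓ isoGroup B ≤ X) (hXI : X ≤ isoGroup B)

include hSX hXI

/-- rational short root parameters lie in `shortSet` (local copy of the RRA fact) -/
theorem short_of_rat {c : F} (hc : c ∈ F₀) : c ∈ shortSet B hB b X :=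
  hSX (T_rat_mem hB hb hS (rat_smul F₀ hc (rat_basis hb F₀ _)) (rat_basis hb F₀ _))

/-- rational long root parameters lie in `longSet` (local copy of the RRA fact) -/
theorem long_of_rat {c : F} (hc : c ∈ F₀) : c ∈ longSet B hB b X :=
  hSX (stv_rat_mem hB hb hS (rat_basis hb F₀ _) hc)

/-- Weyl invariance, long roots: `e₂` instead of `e₁` -/
theorem long_e2_iff (c : F) : stv B hB (b (Sum.inl 1)) c ∈ X ↔ c ∈ longSet B hB b X := by
  obtain ⟨σ, hσ, hσ1, hσ2, -, -⟩ :=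
    Cfsg.Agent.Lib.Helper50_Sp4E_RW2.exists_rat_perm hB hb hS (Sum.inl 1) (Sum.inl 0)
      (by simp [pr])
  have hσX : σ ∈ X := hSX hσ
  have e1 : σ * stv B hB (b (Sum.inl 0)) c * σ⁻¹ = stv B hB (b (Sum.inl 1)) c := by
    rw [conj_stv B hB hσ.2, hσ1]
  constructor
  · intro h
    show stv B hB (b (Sum.inl 0)) c ∈ X
    have h1 := X.mul_mem (X.mul_mem (X.inv_mem hσX) h) hσX
    rw [← e1] at h1
    have e2 : σ⁻¹ * (σ * stv B hB (b (Sum.inl 0)) c * σ⁻¹) * σ = stv B hB (b (Sum.inl 0)) c := by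
      group
    rwa [e2] at h1
  · intro h
    rw [← e1]
    exact X.mul_mem (X.mul_mem hσX h) (X.inv_mem hσX)

/-- Weyl invariance, short roots: `f₂` instead of `e₂` -/
theorem short_f2_iff (c : F) :
    T B hB (c • b (Sum.inl 0)) (b (Sum.inr 1)) ∈ X ↔ c ∈ shortSet B hB b X := by
  obtain ⟨σ, hσ, hσ1, hσ2, -, -⟩ :=
    Cfsg.Agent.Lib.Helper50_Sp4E_RW2.exists_rat_perm hB hb hS (Sum.inl 0) (Sum.inr 1)
      (by simp [pr])
  have hσX : σ ∈ X := hSX hσ
  have e1 : σ * T B hB (c • b (Sum.inl 0)) (b (Sum.inl 1)) * σ⁻¹ =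
      T B hB (c • b (Sum.inl 0)) (b (Sum.inr 1)) := by
    rw [conj_T B hB hσ.2, map_smul, hσ1, hσ2]
  constructor
  · intro h
    show T B hB (c • b (Sum.inl 0)) (b (Sum.inl 1)) ∈ X
    have h1 := X.mul_mem (X.mul_mem (X.inv_mem hσX) h) hσX
    rw [← e1] at h1
    have e2 : σ⁻¹ * (σ * T B hB (c • b (Sum.inl 0)) (b (Sum.inl 1)) * σ⁻¹) * σ =
        T B hB (c • b (Sum.inl 0)) (b (Sum.inl 1)) := by
      group
    rwa [e2] at h1
  · intro h
    rw [← e1]
    exact X.mul_mem (X.mul_mem hσX h) (X.inv_mem hσX)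

theorem rel0 {s t : F} (hs : s ∈ shortSet B hB b X) (ht : t ∈ longSet B hB b X) :
    T B hB ((s * t) • b (Sum.inl 0)) (b (Sum.inl 1)) * stv B hB (b (Sum.inl 0)) (s * s * t) ∈ X := by
  have hx : T B hB (s • b (Sum.inl 0)) (b (Sum.inr 1)) ∈ X :=
    (short_f2_iff hB hb hS hSX hXI s).mpr hs
  have h2 : stv B hB (b (Sum.inl 1)) t ∈ X :=
    (long_e2_iff hB hb hS hSX hXI t).mpr ht
  have h12 : B (b (Sum.inl 0)) (b (Sum.inl 1)) = 0 := by rw [B_eq hb]; simp
  have h0 : B (s • b (Sum.inl 0)) (b (Sum.inr 1)) = 0 := by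
    rw [map_smul, LinearMap.smul_apply, B_eq hb]; simp
  have hxe2 : T B hB (s • b (Sum.inl 0)) (b (Sum.inr 1)) (b (Sum.inl 1)) =
      b (Sum.inl 1) + s • b (Sum.inl 0) := by
    rw [T_apply B hB h0]
    simp [B_eq hb]
  have hconj := conj_stv B hB (hXI hx) (b (Sum.inl 1)) t
  have h3 : stv B hB (b (Sum.inl 1) + s • b (Sum.inl 0)) t ∈ X := by
    rw [← hxe2, ← hconj]
    exact X.mul_mem (X.mul_mem hx h2) (X.inv_mem hx)
  have h4 := Cfsg.Agent.Lib.Helper64_Sp4E_XQ.stv_add_eq B hB h12 s t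
  have e1 : s * t = t * s := mul_comm _ _
  have e2 : s * s * t = t * s * s := by ring
  rw [e1, e2, ← h4]
  exact X.mul_mem h3 h2

theorem long_le_short {t : F} (ht : t ∈ longSet B hB b X) : t ∈ shortSet B hB b X := by
  have h1 : (1 : F) ∈ shortSet B hB b X :=
    short_of_rat hB hb hS hSX hXI F₀.one_mem
  have h := rel0 hB hb hS hSX hXI h1 ht
  simp only [one_mul] at h
  have h' : stv B hB (b (Sum.inl 0)) t ∈ X := ht
  have := X.mul_mem h (X.inv_mem h')
  rwa [mul_inv_cancel_right] at this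

theorem sq_short_long {s : F} (hs : s ∈ shortSet B hB b X) : s * s ∈ longSet B hB b X := by
  have h1 : (1 : F) ∈ longSet B hB b X :=
    long_of_rat hB hb hS hSX hXI F₀.one_mem
  have h := rel0 hB hb hS hSX hXI hs h1
  simp only [mul_one] at h
  have h' : T B hB (s • b (Sum.inl 0)) (b (Sum.inl 1)) ∈ X := hs
  have := X.mul_mem (X.inv_mem h') h
  rwa [inv_mul_cancel_left] at this

/-- the `S₃`-trick in the unipotent radical of the stabiliser of the totally isotropic plane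
`⟨e₁, e₂⟩` -/
theorem plane_trick {m p : F}
    (h : T B hB (p • b (Sum.inl 0)) (b (Sum.inl 1)) * stv B hB (b (Sum.inl 0)) m ∈ X) :
    p + m ∈ shortSet B hB b X := by
  have h11 : B (b (Sum.inl 0)) (b (Sum.inl 0)) = 0 := hB _
  have h22 : B (b (Sum.inl 1)) (b (Sum.inl 1)) = 0 := hB _
  have h12 : B (b (Sum.inl 0)) (b (Sum.inl 1)) = 0 := by rw [B_eq hb]; simp
  have h21 : B (b (Sum.inl 1)) (b (Sum.inl 0)) = 0 := by rw [B_eq hb]; simp
  -- the rational swap
  obtain ⟨σ, hσ, hσ1, hσ2, -, -⟩ :=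
    Cfsg.Agent.Lib.Helper50_Sp4E_RW2.exists_rat_perm hB hb hS (Sum.inl 1) (Sum.inl 0)
      (by simp [pr])
  have hσX : σ ∈ X := hSX hσ
  have hz' : T B hB (p • b (Sum.inl 0)) (b (Sum.inl 1)) * stv B hB (b (Sum.inl 1)) m ∈ X := by
    have h1 := X.mul_mem (X.mul_mem hσX h) (X.inv_mem hσX)
    have e : σ * (T B hB (p • b (Sum.inl 0)) (b (Sum.inl 1)) * stv B hB (b (Sum.inl 0)) m) * σ⁻¹ =
        (σ * T B hB (p • b (Sum.inl 0)) (b (Sum.inl 1)) * σ⁻¹) *
          (σ * stv B hB (b (Sum.inl 0)) m * σ⁻¹) := by group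
    rw [e, conj_T B hB hσ.2, conj_stv B hB hσ.2, map_smul, hσ1, hσ2,
      T_smul_swap B hB h21, T_comm B hB (by rw [map_smul, h21, smul_zero])] at h1
    exact h1
  -- the rational element `T e₁ f₂`
  have hg : T B hB (b (Sum.inl 0)) (b (Sum.inr 1)) ∈ S ⊓ isoGroup B :=
    T_rat_mem hB hb hS (rat_basis hb F₀ _) (rat_basis hb F₀ _)
  have hgX := hSX hg
  have hg0 : B (b (Sum.inl 0)) (b (Sum.inr 1)) = 0 := by rw [B_eq hb]; simp
  have hg1 : T B hB (b (Sum.inl 0)) (b (Sum.inr 1)) (b (Sum.inl 0)) = b (Sum.inl 0) := by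
    rw [T_apply B hB hg0]; simp [B_eq hb]
  have hg2 : T B hB (b (Sum.inl 0)) (b (Sum.inr 1)) (b (Sum.inl 1)) =
      b (Sum.inl 1) + b (Sum.inl 0) := by
    rw [T_apply B hB hg0]; simp [B_eq hb]
  have hz'' : T B hB (p • b (Sum.inl 0)) (b (Sum.inl 1) + b (Sum.inl 0)) *
      stv B hB (b (Sum.inl 1) + b (Sum.inl 0)) m ∈ X := by
    have h1 := X.mul_mem (X.mul_mem hgX hz') (X.inv_mem hgX)
    have e : T B hB (b (Sum.inl 0)) (b (Sum.inr 1)) *
        (T B hB (p • b (Sum.inl 0)) (b (Sum.inl 1)) * stv B hB (b (Sum.inl 1)) m) *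
          (T B hB (b (Sum.inl 0)) (b (Sum.inr 1)))⁻¹ =
        (T B hB (b (Sum.inl 0)) (b (Sum.inr 1)) * T B hB (p • b (Sum.inl 0)) (b (Sum.inl 1)) *
          (T B hB (b (Sum.inl 0)) (b (Sum.inr 1)))⁻¹) *
        (T B hB (b (Sum.inl 0)) (b (Sum.inr 1)) * stv B hB (b (Sum.inl 1)) m *
          (T B hB (b (Sum.inl 0)) (b (Sum.inr 1)))⁻¹) := by group
    rw [e, conj_T B hB hg.2, conj_stv B hB hg.2, map_smul, hg1, hg2] at h1
    exact h1
  -- the product of the three elements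
  have hA0 : B (p • b (Sum.inl 0)) (b (Sum.inl 1)) = 0 := by
    rw [map_smul, LinearMap.smul_apply, h12, smul_zero]
  have hA'0 : B (p • b (Sum.inl 0)) (b (Sum.inl 1) + b (Sum.inl 0)) = 0 := by
    rw [map_smul, LinearMap.smul_apply, map_add, h12, h11, add_zero, smul_zero]
  have hT0 : B ((p + m) • b (Sum.inl 0)) (b (Sum.inl 1)) = 0 := by
    rw [map_smul, LinearMap.smul_apply, h12, smul_zero]
  have key : T B hB ((p + m) • b (Sum.inl 0)) (b (Sum.inl 1)) =
      (T B hB (p • b (Sum.inl 0)) (b (Sum.inl 1)) * stv B hB (b (Sum.inl 0)) m) *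
      (T B hB (p • b (Sum.inl 0)) (b (Sum.inl 1)) * stv B hB (b (Sum.inl 1)) m) *
      (T B hB (p • b (Sum.inl 0)) (b (Sum.inl 1) + b (Sum.inl 0)) *
        stv B hB (b (Sum.inl 1) + b (Sum.inl 0)) m) := by
    ext x
    apply eq_of_sub_eq_two_smul (F := F)
      (w := -((p * B x (b (Sum.inl 1)) + m * B x (b (Sum.inl 0)) + p * B x (b (Sum.inl 0))) •
          b (Sum.inl 0) +
        (p * B x (b (Sum.inl 0)) + m * B x (b (Sum.inl 1))) • b (Sum.inl 1)))
    simp only [LinearEquiv.mul_apply, T_apply B hB hA0, T_apply B hB hA'0, T_apply B hB hT0,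
      stv_apply, map_add, map_smul, LinearMap.add_apply, LinearMap.smul_apply, smul_eq_mul,
      h11, h12, h21, h22, mul_zero, add_zero, zero_add]
    module
  show T B hB ((p + m) • b (Sum.inl 0)) (b (Sum.inl 1)) ∈ X
  rw [key]
  exact X.mul_mem (X.mul_mem h hz') hz''

theorem rel1 {s t : F} (hs : s ∈ shortSet B hB b X) (ht : t ∈ longSet B hB b X) :
    (s * s + s) * t ∈ shortSet B hB b X := by
  have h := plane_trick hB hb hS hSX hXI (rel0 hB hb hS hSX hXI hs ht)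
  have e : (s * s + s) * t = s * t + s * s * t := by ring
  rw [e]
  exact h

end Rat

end Cfsg.Agent.Lib.Helper58_Sp4E_RRB
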