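import Mathlib
import Cfsg.Agent.Lib.Helper67_Sp4Defs
import Cfsg.Agent.Lib.Helper64_Sp4E_XQ
import Cfsg.Agent.Lib.Helper50_Sp4E_RW2
import Cfsg.Agent.Lib.Helper58_Sp4E_RRB

set_option autoImplicit false
set_option linter.unusedSectionVars false
set_option linter.unusedVariables false
set_option linter.unusedSimpArgs false

/-!
# S5789, package RA2b (architect helper67): an irrational skew transvection
`stv (e₂ + α • e₁) 1`, `α ∉ F₀`, in an overgroup `X` of the rational group gives an irrational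
short root parameter (including the `F₄`-trick when `F₀ = F₂`).
-/

open Cfsg.Agent.Lib.Helper94_Symp Cfsg.Agent.Lib.Helper38_SpSub1 Cfsg.Agent.Lib.Helper38_SpSub2
  Cfsg.Agent.Lib.Helper98_ExtDefs Cfsg.Agent.Lib.Helper67_Sp4Defs

namespace Cfsg.Agent.Lib.Helper58_Sp4E_RA2b

open Cfsg.Agent.Lib.Helper58_Sp4E_RRB

section Rat

variable {F V : Type*} [Field F] [AddCommGroup V] [Module F V] [CharP F 2] [Finite F]
variable {B : LinearMap.BilinForm F V} (hB : B.IsAlt)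
variable {F₀ : Subfield F}
variable {b : Module.Basis (Fin 2 ⊕ Fin 2) F V} (hb : IsSymp B b)
variable {S : Subgroup (V ≃ₗ[F] V)} (hS : IsRatGroup b B F₀ S)

include hB hb hS

variable {X : Subgroup (V ≃ₗ[F] V)} (hSX : S ⊓ isoGroup B ≤ X) (hXI : X ≤ isoGroup B)

include hSX hXI

/-- `stv (e₂ + δ • e₁) 1 ∈ X` gives `δ + δ² ∈ shortSet` -/
theorem wp_of_skew {δ : F} (h : stv B hB (b (Sum.inl 1) + δ • b (Sum.inl 0)) 1 ∈ X) :
    δ + δ * δ ∈ shortSet B hB b X := by
  have h12 : B (b (Sum.inl 0)) (b (Sum.inl 1)) = 0 := by rw [B_eq hb]; simp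
  have h2 : stv B hB (b (Sum.inl 1)) 1 ∈ X :=
    hSX (stv_rat_mem hB hb hS (rat_basis hb F₀ _) F₀.one_mem)
  have h4 := Cfsg.Agent.Lib.Helper64_Sp4E_XQ.stv_add_eq B hB h12 δ 1
  have h5 := X.mul_mem h h2
  rw [h4] at h5
  simp only [one_mul] at h5
  exact plane_trick hB hb hS hSX hXI h5

/-- the rational torus moves the skew transvections -/
theorem skew_torus {α μ : F} (hμ : μ ∈ F₀) (hμ0 : μ ≠ 0)
    (h : stv B hB (b (Sum.inl 1) + α • b (Sum.inl 0)) 1 ∈ X) :
    stv B hB (b (Sum.inl 1) + (μ * α) • b (Sum.inl 0)) 1 ∈ X := by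
  obtain ⟨τ, hτ, hτ1, -, hτ2, -⟩ :=
    Cfsg.Agent.Lib.Helper50_Sp4E_RW2.exists_rat_torus hB hb hS hμ hμ0
  have hτX : τ ∈ X := hSX hτ
  have h1 := X.mul_mem (X.mul_mem hτX h) (X.inv_mem hτX)
  rw [conj_stv B hB hτ.2, map_add, map_smul, hτ1, hτ2, smul_smul, mul_comm α μ] at h1
  exact h1

theorem irrational_of_skew {α : F} (hα : α ∉ F₀)
    (h : stv B hB (b (Sum.inl 1) + α • b (Sum.inl 0)) 1 ∈ X) :
    ∃ c ∈ shortSet B hB b X, c ∉ F₀ := by
  have h2 : (2 : F) = 0 := CharTwo.two_eq_zero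
  by_cases hex : ∃ μ ∈ F₀, μ ≠ 0 ∧ (μ * α) + (μ * α) * (μ * α) ∉ F₀
  · obtain ⟨μ, hμ, hμ0, hn⟩ := hex
    exact ⟨_, wp_of_skew hB hb hS hSX hXI (skew_torus hB hb hS hSX hXI hμ hμ0 h), hn⟩
  push Not at hex
  -- `℘(α) ∈ F₀`
  have hc : α + α * α ∈ F₀ := by
    have := hex 1 F₀.one_mem one_ne_zero
    simpa only [one_mul] using this
  -- every element of `F₀` is `0` or `1`
  have hF0 : ∀ μ ∈ F₀, μ * μ + μ = 0 := by
    intro μ hμ
    by_contra hne
    have h1 : (μ * μ + μ) * α ∈ F₀ := by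
      by_cases hμ0 : μ = 0
      · rw [hμ0]; simp
      · have e : (μ * μ + μ) * α = ((μ * α) + (μ * α) * (μ * α)) + μ * μ * (α + α * α) := by
          linear_combination (-(μ * μ * α * α)) * h2
        rw [e]
        exact F₀.add_mem (hex μ hμ hμ0) (F₀.mul_mem (F₀.mul_mem hμ hμ) hc)
    apply hα
    have e : α = (μ * μ + μ)⁻¹ * ((μ * μ + μ) * α) := by
      rw [← mul_assoc, inv_mul_cancel₀ hne, one_mul]
    rw [e]
    exact F₀.mul_mem (F₀.inv_mem (F₀.add_mem (F₀.mul_mem hμ hμ) hμ)) h1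
  -- `α² = α + 1`
  have hα2 : α * α = α + 1 := by
    have h1 := hF0 _ hc
    have h3 : (α + α * α) * (α + α * α + 1) = 0 := by linear_combination h1
    rcases mul_eq_zero.mp h3 with h4 | h4
    · exfalso
      have h5 : α * (α + 1) = 0 := by linear_combination h4
      rcases mul_eq_zero.mp h5 with h6 | h6
      · exact hα (h6 ▸ F₀.zero_mem)
      · apply hα
        have : α = 1 := by linear_combination h6 - h2
        rw [this]; exact F₀.one_mem
    · linear_combination h4 - (α + 1) * h2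
  -- the `F₄`-trick
  have hf1X : stv B hB (b (Sum.inr 0)) 1 ∈ X :=
    hSX (stv_rat_mem hB hb hS (rat_basis hb F₀ _) F₀.one_mem)
  have hu3 : stv B hB (b (Sum.inl 1) + α • b (Sum.inl 0)) 1 (b (Sum.inr 0)) =
      b (Sum.inr 0) + α • b (Sum.inl 1) + (α * α) • b (Sum.inl 0) := by
    have hB1 : B (b (Sum.inr 0)) (b (Sum.inl 1) + α • b (Sum.inl 0)) = α := by
      simp [B_eq hb]
    rw [stv_apply, hB1]
    module
  have hu3X : stv B hB (b (Sum.inr 0) + α • b (Sum.inl 1) + (α * α) • b (Sum.inl 0)) 1 ∈ X := by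
    rw [← hu3, ← conj_stv B hB (hXI h)]
    exact X.mul_mem (X.mul_mem h hf1X) (X.inv_mem h)
  have hrX : stv B hB (b (Sum.inr 0) + b (Sum.inl 1)) 1 ∈ X :=
    hSX (stv_rat_mem hB hb hS (rat_add F₀ (rat_basis hb F₀ _) (rat_basis hb F₀ _)) F₀.one_mem)
  have hmove : stv B hB (b (Sum.inr 0) + α • b (Sum.inl 1) + (α * α) • b (Sum.inl 0)) 1
      (b (Sum.inr 0) + b (Sum.inl 1)) = α • (b (Sum.inr 0) + b (Sum.inl 0)) := by
    have hB2 : B (b (Sum.inr 0) + b (Sum.inl 1))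
        (b (Sum.inr 0) + α • b (Sum.inl 1) + (α * α) • b (Sum.inl 0)) = α * α := by
      simp [B_eq hb]
    have c1 : 1 + α * α = α := by linear_combination hα2 + h2
    have c2 : 1 + α * α * α = 0 := by linear_combination (α + 1) * hα2 + (α + 1) * h2
    have c3 : α * α * (α * α) = α := by
      linear_combination (α * α + α + 2) * hα2 + (α + 1) * h2
    have e : stv B hB (b (Sum.inr 0) + α • b (Sum.inl 1) + (α * α) • b (Sum.inl 0)) 1
        (b (Sum.inr 0) + b (Sum.inl 1)) = (1 + α * α) • b (Sum.inr 0) +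
          (1 + α * α * α) • b (Sum.inl 1) + (α * α * (α * α)) • b (Sum.inl 0) := by
      rw [stv_apply, hB2]
      module
    rw [e, c1, c2, c3]
    module
  have hv1X : stv B hB (b (Sum.inr 0) + b (Sum.inl 0)) (α * α) ∈ X := by
    have h1 := X.mul_mem (X.mul_mem hu3X hrX) (X.inv_mem hu3X)
    rw [conj_stv B hB (hXI hu3X), hmove, stv_smul, mul_one] at h1
    exact h1
  have hmove2 : stv B hB (b (Sum.inr 0)) 1 (b (Sum.inr 0) + b (Sum.inl 0)) = b (Sum.inl 0) := by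
    have hB3 : B (b (Sum.inr 0) + b (Sum.inl 0)) (b (Sum.inr 0)) = 1 := by
      simp [B_eq hb]
    rw [stv_apply, hB3]
    apply eq_of_sub_eq_two_smul (F := F) (w := b (Sum.inr 0))
    module
  have hlong : α * α ∈ longSet B hB b X := by
    have h1 := X.mul_mem (X.mul_mem hf1X hv1X) (X.inv_mem hf1X)
    rw [conj_stv B hB (hXI hf1X), hmove2] at h1
    exact h1
  refine ⟨α * α, long_le_short hB hb hS hSX hXI hlong, ?_⟩
  intro hmem
  apply hα
  have : α = α * α + 1 := by linear_combination (-1 : F) * hα2 - h2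
  rw [this]
  exact F₀.add_mem hmem F₀.one_mem

end Rat

end Cfsg.Agent.Lib.Helper58_Sp4E_RA2b
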