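import Mathlib
import Cfsg.Agent.Lib.Helper67_T2ODefs
import Cfsg.Agent.Lib.Helper94_OrthNondeg
import Cfsg.Agent.Lib.Helper82_T2_KR
import Cfsg.Agent.Lib.Helper9_T2_BR
import Cfsg.Agent.Lib.Helper78_UT2_NEXA
import Cfsg.Agent.Lib.Helper60_T2O_SSO

set_option autoImplicit false
set_option linter.unusedSectionVars false
set_option linter.unusedVariables false

/-!
# TENS2O package RSO (architect helper67): a non-scalar `S` with `ux S ∈ M` yields a full root
group `ux (t • aw ω y w)`.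

`rso_of` : the statement of RSO with the scalar closure `ss_smul` (package SSO) as a hypothesis;
the eigenvector lemma (EIGO, for `D = ⊤`) and `ss_conj` are proved locally.
`rso` : RSO verbatim (`ss_smul` from `Helper60_T2O_SSO`).
-/

open Module
open Cfsg.Agent.Lib.Helper94_Symp Cfsg.Agent.Lib.Helper94_OrthSmall
  Cfsg.Agent.Lib.Helper94_OrthSiegel Cfsg.Agent.Lib.Helper94_OrthNondeg
  Cfsg.Agent.Lib.Helper67_Tens2Defs Cfsg.Agent.Lib.Helper67_T2ODefs

namespace Cfsg.Agent.Lib.Helper58_T2O_RSO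

variable {F W : Type*} [Field F] [Finite F] [AddCommGroup W] [Module F W] [FiniteDimensional F W]
variable {ω : LinearMap.BilinForm F W}

/-- a linear map with every vector an eigenvector is scalar -/
theorem h58_scalar_of_eig (S : W →ₗ[F] W) (h : ∀ y : W, S y ∈ Submodule.span F {y}) :
    ∃ c : F, S = c • (LinearMap.id : W →ₗ[F] W) := by
  obtain ⟨a, ha⟩ := LinearMap.exists_eq_smul_id_of_forall_notLinearIndependent (f := S) (by
    intro v hv
    obtain ⟨l, hl⟩ := Submodule.mem_span_singleton.1 (h v)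
    rw [LinearIndependent.pair_iff] at hv
    have := hv l (-1) (by rw [hl]; simp)
    exact absurd this.2 (by norm_num))
  exact ⟨a, ha⟩

/-- local copy of `ss_conj` (package SSO) -/
theorem h58_ss_conj (M : Subgroup ((W × W) ≃ₗ[F] (W × W))) (hM : HypO ω M)
    (S : W →ₗ[F] W) (hS : ux S ∈ M) (T : W ≃ₗ[F] W) (hT : T ∈ isoGroup ω) :
    ux ((T : W →ₗ[F] W) ∘ₗ S ∘ₗ (T.symm : W →ₗ[F] W)) ∈ M := by
  rw [← oE_conj_ux T S]
  exact M.mul_mem (M.mul_mem (hM.oE_mem T hT) hS) (M.inv_mem (hM.oE_mem T hT))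

/-- the inverse of the transvection `stv ω halt y 1` -/
theorem h58_stv_symm (halt : ω.IsAlt) (y v : W) :
    (stv ω halt y 1).symm v = v - ω v y • y := by
  rw [LinearEquiv.symm_apply_eq, stv_apply]
  simp only [one_mul, map_sub, map_smul, LinearMap.sub_apply, LinearMap.smul_apply, halt y,
    smul_eq_mul, mul_zero, sub_zero]
  abel

/-- the key computation: `t S t⁻¹ - S = aw ω y (S y)` for `t = stv ω halt y 1` -/
theorem h58_conj_sub (halt : ω.IsAlt) (S : W →ₗ[F] W) (hS : IsAltMap ω S) (y : W) :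
    ((stv ω halt y 1 : W ≃ₗ[F] W) : W →ₗ[F] W) ∘ₗ S ∘ₗ ((stv ω halt y 1).symm : W →ₗ[F] W) + -S =
      aw ω y (S y) := by
  apply LinearMap.ext
  intro v
  simp only [LinearMap.add_apply, LinearMap.comp_apply, LinearEquiv.coe_coe, LinearMap.neg_apply,
    aw_apply, h58_stv_symm, stv_apply, one_mul, map_sub, map_smul, hS y, mul_zero, zero_smul,
    add_zero]
  rw [hS.adj halt v y]
  abel

/-- RSO, with `ss_smul` (package SSO) as a hypothesis -/
theorem rso_of (halt : ω.IsAlt) (hN : ω.Nondegenerate)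
    (M : Subgroup ((W × W) ≃ₗ[F] (W × W))) (hM : HypO ω M)
    (hSMUL : ∀ S : W →ₗ[F] W, ux S ∈ M → ∀ c : F, ux (c • S) ∈ M)
    (S : W →ₗ[F] W) (hSM : ux S ∈ M)
    (hns : ¬ ∃ c : F, S = c • (LinearMap.id : W →ₗ[F] W)) :
    ∃ y w : W, y ≠ 0 ∧ w ∉ Submodule.span F {y} ∧ ω y w = 0 ∧
      ∀ t : F, ux (t • aw ω y w) ∈ M := by
  have hSalt : IsAltMap ω S := isAltMap_of_ux_mem ω S (hM.le_oG hSM)
  -- a vector which is not an eigenvector
  have hex : ∃ y : W, S y ∉ Submodule.span F {y} := by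
    by_contra hno
    push Not at hno
    exact hns (h58_scalar_of_eig S hno)
  obtain ⟨y, hy⟩ := hex
  have hy0 : y ≠ 0 := by
    intro h0
    apply hy
    rw [h0, map_zero]
    exact Submodule.zero_mem _
  -- conjugate by the transvection
  have h1 := h58_ss_conj M hM S hSM (stv ω halt y 1) (stv_mem_isoGroup ω halt y 1)
  have h2 : ux (aw ω y (S y)) ∈ M := by
    rw [← h58_conj_sub halt S hSalt y, ← ux_mul, ← ux_inv]
    exact M.mul_mem h1 (M.inv_mem hSM)
  refine ⟨y, S y, hy0, hy, ?_, fun t => hSMUL _ h2 t⟩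
  rw [alt_swap ω halt y (S y), hSalt y, neg_zero]

/-- RSO : a non-scalar `S` with `ux S ∈ M` yields a full root group `ux (t • aw ω y w)`,
`y`, `w` independent, `ω y w = 0` -/
theorem rso (halt : ω.IsAlt) (hN : ω.Nondegenerate)
    (M : Subgroup ((W × W) ≃ₗ[F] (W × W))) (hM : HypO ω M)
    (S : W →ₗ[F] W) (hSM : ux S ∈ M)
    (hns : ¬ ∃ c : F, S = c • (LinearMap.id : W →ₗ[F] W)) :
    ∃ y w : W, y ≠ 0 ∧ w ∉ Submodule.span F {y} ∧ ω y w = 0 ∧
      ∀ t : F, ux (t • aw ω y w) ∈ M :=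
  rso_of halt hN M hM
    (fun S hS c => Cfsg.Agent.Lib.Helper60_T2O_SSO.ss_smul M hM S hS c) S hSM hns

end Cfsg.Agent.Lib.Helper58_T2O_RSO
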