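import Mathlib
import Cfsg.Agent.Lib.Helper21_TICDefs

/-!
# S4064 B3 (helper58, for helper21): `iso_of_structure`

`E = C ⊔ Q` with `C` cyclic of odd order commuting elementwise with `Q ≃* QuaternionGroup (2 ^ n)`,
`n ≤ 1`: then `E ≃* C × Q`, which is cyclic for `n = 0` and `Z_m × Q_8` for `n = 1`.
-/

set_option autoImplicit false
set_option linter.style.haveILetI false

namespace Cfsg.Agent.Lib.Helper58_TIC_B3

open Cfsg Cfsg.Agent.Lib.Helper21_TICDefs

variable {G : Type*} [Group G]

theorem iso_of_structure [Finite G] (E C Q : Subgroup G) (hsup : C ⊔ Q = E)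
    (hcomm : ∀ a ∈ C, ∀ b ∈ Q, a * b = b * a) (hC : IsCyclic C) (hodd : Odd (Nat.card C))
    (n : ℕ) (hn : n ≤ 1) (e : Q ≃* QuaternionGroup (2 ^ n)) :
    IsCyclic E ∨ ∃ m : ℕ, Odd m ∧
      Nonempty (E ≃* Multiplicative (ZMod m) × QuaternionGroup 2) := by
  classical
  have hQcard : Nat.card Q = 2 ^ (n + 2) := by
    rw [Nat.card_congr e.toEquiv, Nat.card_eq_fintype_card, QuaternionGroup.card]
    ring
  have hcop : (Nat.card C).Coprime (Nat.card Q) := by
    rw [hQcard]
    exact (hodd.coprime_two_right).pow_right _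
  have hdisj : Disjoint C Q := Subgroup.disjoint_of_coprime_natCard hcop
  have hcm : ∀ (a : C) (b : Q), Commute (C.subtype a) (Q.subtype b) :=
    fun a b => hcomm a a.2 b b.2
  obtain ⟨φ, hφ⟩ : ∃ φ : C × Q →* G, φ =
      MonoidHom.noncommCoprod C.subtype Q.subtype hcm := ⟨_, rfl⟩
  have hinj : Function.Injective φ := by
    rw [hφ, MonoidHom.noncommCoprod_injective]
    refine ⟨C.subtype_injective, Q.subtype_injective, ?_⟩
    rw [Subgroup.range_subtype, Subgroup.range_subtype]
    exact hdisj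
  have hrange : φ.range = E := by
    rw [← hsup, hφ, MonoidHom.noncommCoprod_range, Subgroup.range_subtype, Subgroup.range_subtype]
  let ψ : C × Q ≃* E := (MonoidHom.ofInjective hinj).trans (MulEquiv.subgroupCongr hrange)
  interval_cases n
  · left
    have hQc : IsCyclic Q := by
      haveI : IsCyclic (QuaternionGroup (2 ^ 0)) := QuaternionGroup.quaternionGroup_one_isCyclic
      exact isCyclic_of_surjective e.symm.toMonoidHom e.symm.surjective
    have hprod : IsCyclic (C × Q) := Group.isCyclic_prod_iff.mpr ⟨hC, hQc, hcop⟩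
    exact isCyclic_of_surjective ψ.toMonoidHom ψ.surjective
  · right
    have e' : Q ≃* QuaternionGroup 2 := e
    exact ⟨Nat.card C, hodd,
      ⟨ψ.symm.trans (MulEquiv.prodCongr (zmodCyclicMulEquiv hC).symm e')⟩⟩

end Cfsg.Agent.Lib.Helper58_TIC_B3
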