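import Mathlib

set_option autoImplicit false
set_option linter.style.haveILetI false
set_option linter.unusedSectionVars false

namespace Cfsg.Agent.Lib.Helper58_TwistMat


open Finset

section Mat

variable {G : Type*} [Group G] {Ω : Type*} [Fintype Ω] [DecidableEq Ω] [MulAction G Ω]
variable {R : Type*} [CommRing R]

/-- invariance of a matrix under the action twisted by an automorphism -/
def InvT (β : MulAut G) (B : Matrix Ω Ω R) : Prop :=
  ∀ (g : G) (u v : Ω), B (β g • u) (g • v) = B u v

theorem invT_one : InvT (1 : MulAut G) (1 : Matrix Ω Ω R) := by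
  intro g u v
  change (1 : Matrix Ω Ω R) (g • u) (g • v) = _
  by_cases h : u = v
  · subst h; simp
  · rw [Matrix.one_apply_ne h, Matrix.one_apply_ne]
    intro h2
    exact h (MulAction.injective g h2)

theorem invT_mul {β γ : MulAut G} {B C : Matrix Ω Ω R} (hB : InvT β B) (hC : InvT γ C) :
    InvT (β * γ) (B * C) := by
  intro g u w
  simp only [Matrix.mul_apply, MulAut.mul_apply]
  rw [← Equiv.sum_comp (MulAction.toPerm (γ g))]
  apply Finset.sum_congr rfl
  intro v _
  simp only [MulAction.toPerm_apply]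
  rw [hB, hC]

theorem invT_pow {α : MulAut G} {A : Matrix Ω Ω R} (h : InvT α A) (n : ℕ) :
    InvT (α ^ n) (A ^ n) := by
  induction n with
  | zero => simpa using invT_one
  | succ n ih => rw [pow_succ, pow_succ]; exact invT_mul ih h

/-- the orbital matrix attached to an automorphism and two base points -/
noncomputable def matO (α : MulAut G) (o ω : Ω) : Matrix Ω Ω R := fun u v =>
  open Classical in if ∃ g : G, g • o = v ∧ α g • ω = u then 1 else 0

theorem invT_matO (α : MulAut G) (o ω : Ω) : InvT α (matO α o ω : Matrix Ω Ω R) := by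
  classical
  intro g₀ u v
  unfold matO
  have : (∃ g : G, g • o = g₀ • v ∧ α g • ω = α g₀ • u) ↔ (∃ g : G, g • o = v ∧ α g • ω = u) := by
    constructor
    · rintro ⟨g, h1, h2⟩
      refine ⟨g₀⁻¹ * g, ?_, ?_⟩
      · rw [mul_smul, h1, inv_smul_smul]
      · rw [map_mul, map_inv, mul_smul, h2, inv_smul_smul]
    · rintro ⟨g, h1, h2⟩
      refine ⟨g₀ * g, ?_, ?_⟩
      · rw [mul_smul, h1]
      · rw [map_mul, mul_smul, h2]
  simp only [this]

theorem matO_sq (α : MulAut G) (o ω : Ω) (u v : Ω) :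
    (matO α o ω : Matrix Ω Ω R) u v * matO α o ω u v = matO α o ω u v := by
  unfold matO
  split_ifs <;> simp

/-- a matrix invariant under a 2-transitive group has the form `x I + y J` -/
theorem form_of_inv (h2 : ∀ a b c d : Ω, a ≠ b → c ≠ d → ∃ g : G, g • a = c ∧ g • b = d)
    (htr : ∀ a b : Ω, ∃ g : G, g • a = b)
    (B : Ω → Ω → R) (hB : ∀ (g : G) (u v : Ω), B (g • u) (g • v) = B u v) {o o' : Ω} (hoo' : o ≠ o') :
    ∀ u v, B u v = if u = v then B o o else B o o' := by
  intro u v
  split_ifs with h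
  · subst h
    obtain ⟨g, rfl⟩ := htr o u
    exact hB g o o
  · obtain ⟨g, h3, h4⟩ := h2 o o' u v hoo' h
    rw [← h3, ← h4]
    exact hB g o o'

end Mat




section Vec

variable {Ω : Type*} [Fintype Ω] [DecidableEq Ω]

/-- V1: column sums `k` multiply the total sum by `k` -/
theorem sum_mulVec (A : Matrix Ω Ω ℤ) (k : ℤ) (hc : ∀ v, ∑ u, A u v = k) (w : Ω → ℤ) :
    ∑ u, A.mulVec w u = k * ∑ v, w v := by
  simp only [Matrix.mulVec, dotProduct]
  rw [Finset.sum_comm, Finset.mul_sum]
  apply Finset.sum_congr rfl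
  intro v _
  rw [← Finset.sum_mul, hc]

/-- V2: the norm of `A w` when `Aᵀ A = (k - l) I + l J` -/
theorem nsq_mulVec (A : Matrix Ω Ω ℤ) (k l : ℤ)
    (hS : ∀ v v', ∑ u, A u v * A u v' = if v = v' then k else l) (w : Ω → ℤ) :
    ∑ u, (A.mulVec w u) ^ 2 = (k - l) * ∑ v, (w v) ^ 2 + l * (∑ v, w v) ^ 2 := by
  simp only [Matrix.mulVec, dotProduct]
  have h1 : ∀ u, (∑ v, A u v * w v) ^ 2 = ∑ v, ∑ v', (w v * w v') * (A u v * A u v') := by
    intro u
    rw [sq, Finset.sum_mul_sum]
    apply Finset.sum_congr rfl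
    intro v _
    apply Finset.sum_congr rfl
    intro v' _
    ring
  simp_rw [h1]
  rw [Finset.sum_comm]
  have h2 : ∀ v, ∑ u, ∑ v', (w v * w v') * (A u v * A u v')
      = ∑ v', (w v * w v') * (if v = v' then k else l) := by
    intro v
    rw [Finset.sum_comm]
    apply Finset.sum_congr rfl
    intro v' _
    rw [← Finset.mul_sum, hS]
  simp_rw [h2]
  have h3 : ∀ v, ∑ v', (w v * w v') * (if v = v' then k else l)
      = (k - l) * (w v) ^ 2 + l * (w v * ∑ v', w v') := by
    intro v
    have : ∀ v', (w v * w v') * (if v = v' then k else l)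
        = (if v = v' then (k - l) * (w v * w v') else 0) + l * (w v * w v') := by
      intro v'
      split_ifs <;> ring
    simp_rw [this]
    rw [Finset.sum_add_distrib, Finset.sum_ite_eq, if_pos (Finset.mem_univ _), ← Finset.mul_sum,
      ← Finset.mul_sum]
    ring
  simp_rw [h3]
  rw [Finset.sum_add_distrib, ← Finset.mul_sum, ← Finset.mul_sum, ← Finset.sum_mul]
  ring

end Vec



theorem not_coprime_self_nat {n : ℕ} (hn : 2 ≤ n) : ¬ IsCoprime (n : ℤ) (n : ℤ) := by
  intro h
  have := Int.isCoprime_iff_gcd_eq_one.mp h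
  simp at this
  omega

theorem not_coprime_zero_nat {n : ℕ} (hn : 2 ≤ n) : ¬ IsCoprime (0 : ℤ) (n : ℤ) := by
  intro h
  have := Int.isCoprime_iff_gcd_eq_one.mp h
  simp at this
  omega

/-- the arithmetic heart of the argument -/
theorem arith_core (n : ℕ) (hn : 2 ≤ n) (k l a b : ℤ) (m : ℕ) (hm : Odd m)
    (hl0 : 0 ≤ l) (hlk : l ≤ k) (hkn : k ≤ n)
    (E1 : k ^ 2 = (k - l) + l * n) (E2 : k ^ m = a + b * n) (E3 : a ^ 2 = (k - l) ^ m)
    (hcop : IsCoprime k (n : ℤ)) : k = 1 ∨ k = n - 1 := by
  have hnpos : (0 : ℤ) < n := by exact_mod_cast (by omega : 0 < n)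
  have hk0 : k ≠ 0 := by
    rintro rfl
    exact not_coprime_zero_nat hn hcop
  have hkn' : k ≠ n := by
    rintro rfl
    exact not_coprime_self_nat hn hcop
  have hkpos : 0 < k := lt_of_le_of_ne (le_trans hl0 hlk) (Ne.symm hk0)
  set σ : ℤ := k - l with hσ
  have hσ0 : 0 ≤ σ := by omega
  have hσne : σ ≠ 0 := by
    intro h0
    have hlk' : l = k := by omega
    rw [h0, hlk'] at E1
    have : k * (k - n) = 0 := by nlinarith
    rcases mul_eq_zero.mp this with h | h
    · exact hk0 h
    · exact hkn' (by omega)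
  obtain ⟨j, rfl⟩ := hm
  -- extract the square root
  have h1 : (σ ^ j) ^ 2 ∣ a ^ 2 := by
    rw [E3]
    exact ⟨σ, by ring⟩
  have h2 : σ ^ j ∣ a := (Int.pow_dvd_pow_iff (by norm_num)).mp h1
  obtain ⟨s, hs⟩ := h2
  have hs2 : s ^ 2 = σ := by
    have h3 : (σ ^ j) ^ 2 * s ^ 2 = (σ ^ j) ^ 2 * σ := by
      have : a ^ 2 = (σ ^ j) ^ 2 * s ^ 2 := by rw [hs]; ring
      rw [← this, E3]; ring
    exact mul_left_cancel₀ (pow_ne_zero _ (pow_ne_zero _ hσne)) h3
  have ha : a = s ^ (2 * j) * s := by
    rw [hs, ← hs2]; ring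
  -- coprimality of s and n
  have hsn : IsCoprime s (n : ℤ) := by
    have h4 : IsCoprime (k ^ 2) (n : ℤ) := hcop.pow_left
    rw [E1, ← hs2] at h4
    exact (IsCoprime.pow_left_iff (by norm_num : 0 < 2)).mp h4.of_add_mul_right_left
  -- congruences
  have c1 : k ^ 2 ≡ s ^ 2 [ZMOD (n : ℤ)] := by
    rw [E1, hs2]
    exact (Int.modEq_iff_dvd.mpr ⟨-l, by ring⟩)
  have c2 : k ^ (2 * j + 1) ≡ s ^ (2 * j) * s [ZMOD (n : ℤ)] := by
    rw [E2, ← ha]
    exact (Int.modEq_iff_dvd.mpr ⟨-b, by ring⟩)
  have c3 : k ^ (2 * j + 1) ≡ s ^ (2 * j) * k [ZMOD (n : ℤ)] := by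
    have : k ^ (2 * j + 1) = (k ^ 2) ^ j * k := by ring
    rw [this, pow_mul]
    exact (c1.pow j).mul_right k
  have c4 : s ^ (2 * j) * k ≡ s ^ (2 * j) * s [ZMOD (n : ℤ)] := c3.symm.trans c2
  have h5 : (n : ℤ) ∣ (s - k) * s ^ (2 * j) := by
    have := c4.dvd
    rw [show s ^ (2 * j) * s - s ^ (2 * j) * k = (s - k) * s ^ (2 * j) by ring] at this
    exact this
  have h6 : (n : ℤ) ∣ s - k := (hsn.symm.pow_right).dvd_of_dvd_mul_right h5
  -- bounds
  have hsσ : |s| ≤ σ := by
    rw [← hs2, sq]
    rcases abs_cases s with ⟨h, _⟩ | ⟨h, _⟩ <;> rw [h] <;> nlinarith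
  have hσk : σ ≤ k := by omega
  have hb1 : -k ≤ s := by
    have := neg_abs_le s
    omega
  have hb2 : s ≤ k := by
    have := le_abs_self s
    omega
  obtain ⟨c, hc⟩ := h6
  have hc1 : -2 ≤ c := by nlinarith
  have hc2 : c ≤ 0 := by nlinarith
  interval_cases c
  · -- s - k = -2n
    exfalso
    apply hkn'
    omega
  · -- s - k = -n
    right
    have hs' : s = k - n := by linarith
    have hl : l = 2 * k - n := by
      have : (n : ℤ) * l = n * (2 * k - n) := by
        rw [hs'] at hs2
        nlinarith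
      exact mul_left_cancel₀ hnpos.ne' this
    have h7 : (n - k) ^ 2 = n - k := by
      rw [hs'] at hs2
      have : σ = n - k := by omega
      rw [this] at hs2
      nlinarith
    have h8 : ((n : ℤ) - k) * (n - k - 1) = 0 := by nlinarith
    rcases mul_eq_zero.mp h8 with h | h
    · exact absurd (by omega) hkn'
    · omega
  · -- s = k
    left
    have hs' : s = k := by linarith
    rw [hs'] at hs2
    have : k ^ 2 ≤ k := by omega
    nlinarith


section Core

variable {G : Type*} [Group G] {Ω : Type*} [Fintype Ω] [DecidableEq Ω] [MulAction G Ω]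

open Classical in
/-- Core theorem: in a 2-transitive group, if the image under an odd-order automorphism `α` of
the stabilizer of `o` has an orbit (that of `ω`) of size `k` coprime to the degree `n`, then
`k = 1` or `k = n - 1`. -/
theorem orbit_card_of_coprime
    (h2 : ∀ a b c d : Ω, a ≠ b → c ≠ d → ∃ g : G, g • a = c ∧ g • b = d)
    (htr : ∀ a b : Ω, ∃ g : G, g • a = b) (hn : 2 ≤ Fintype.card Ω)
    (α : MulAut G) (m : ℕ) (hm : Odd m) (hαm : α ^ m = 1) (o ω : Ω)
    (hcop : ((Finset.univ.filter (fun u : Ω => ∃ g : G, g • o = o ∧ α g • ω = u)).card).Coprime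
      (Fintype.card Ω)) :
    (Finset.univ.filter (fun u : Ω => ∃ g : G, g • o = o ∧ α g • ω = u)).card = 1 ∨
    (Finset.univ.filter (fun u : Ω => ∃ g : G, g • o = o ∧ α g • ω = u)).card
      = Fintype.card Ω - 1 := by
  set kk : ℕ := (Finset.univ.filter (fun u : Ω => ∃ g : G, g • o = o ∧ α g • ω = u)).card with hkk
  set n : ℕ := Fintype.card Ω with hn_def
  set k : ℤ := (kk : ℤ) with hk
  set A : Matrix Ω Ω ℤ := matO α o ω with hA
  have hinv : InvT α A := invT_matO α o ω
  have hA01 : ∀ u v, A u v = 0 ∨ A u v = 1 := by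
    intro u v
    rw [hA]; unfold matO
    split_ifs <;> simp
  have hAnn : ∀ u v, 0 ≤ A u v := fun u v => by
    rcases hA01 u v with h | h
    · rw [h]
    · rw [h]; norm_num
  have hAle : ∀ u v, A u v ≤ 1 := fun u v => by
    rcases hA01 u v with h | h
    · rw [h]; norm_num
    · rw [h]
  -- a second point
  obtain ⟨o', hoo'⟩ : ∃ o' : Ω, o ≠ o' := by
    by_contra hall
    push Not at hall
    have : Fintype.card Ω ≤ 1 := Fintype.card_le_one_iff.mpr (fun x y => by rw [← hall x, ← hall y])
    omega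
  -- column sums
  have hcol : ∀ v, ∑ u, A u v = k := by
    have hc0 : ∑ u, A u o = k := by
      rw [hk, hkk, hA]
      unfold matO
      rw [Finset.sum_boole]
    have hcg : ∀ (g : G) (v : Ω), ∑ u, A u (g • v) = ∑ u, A u v := by
      intro g v
      rw [← Equiv.sum_comp (MulAction.toPerm (α g))]
      apply Finset.sum_congr rfl
      intro u _
      rw [MulAction.toPerm_apply, hinv]
    intro v
    obtain ⟨g, rfl⟩ := htr o v
    rw [hcg, hc0]
  -- row sums
  have hrow : ∀ u, ∑ v, A u v = k := by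
    have hrg : ∀ (g : G) (u : Ω), ∑ v, A (α g • u) v = ∑ v, A u v := by
      intro g u
      rw [← Equiv.sum_comp (MulAction.toPerm g)]
      apply Finset.sum_congr rfl
      intro v _
      rw [MulAction.toPerm_apply, hinv]
    have hconst : ∀ u, ∑ v, A u v = ∑ v, A o v := by
      intro u
      obtain ⟨g, rfl⟩ := htr o u
      have := hrg (α.symm g) o
      rwa [MulEquiv.apply_symm_apply] at this
    have htot : ∑ u, ∑ v, A u v = ∑ v, ∑ u, A u v := Finset.sum_comm
    simp_rw [hcol] at htot
    have h3 : ∑ u : Ω, ∑ v, A u v = ∑ _u : Ω, ∑ v, A o v :=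
      Finset.sum_congr rfl (fun u _ => hconst u)
    rw [h3, Finset.sum_const, Finset.sum_const, Finset.card_univ, nsmul_eq_mul, nsmul_eq_mul] at htot
    have hn0 : ((Fintype.card Ω : ℕ) : ℤ) ≠ 0 := by
      have : 0 < Fintype.card Ω := by omega
      exact_mod_cast this.ne'
    intro u
    rw [hconst u]
    exact mul_left_cancel₀ hn0 htot
  -- the Gram matrix
  have htrG : ∀ (g : G) (u v : Ω), (1 : MulAut G) g • u = g • u := fun g u v => rfl
  set l : ℤ := ∑ u, A u o * A u o' with hl
  have hS : ∀ v v', ∑ u, A u v * A u v' = if v = v' then k else l := by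
    have hSinv : ∀ (g : G) (v v' : Ω), ∑ u, A u (g • v) * A u (g • v') = ∑ u, A u v * A u v' := by
      intro g v v'
      rw [← Equiv.sum_comp (MulAction.toPerm (α g))]
      apply Finset.sum_congr rfl
      intro u _
      rw [MulAction.toPerm_apply, hinv, hinv]
    have hform := form_of_inv h2 htr (fun v v' => ∑ u, A u v * A u v') hSinv hoo'
    intro v v'
    rw [hform v v']
    split_ifs with h
    · have : ∀ u, A u o * A u o = A u o := fun u => matO_sq α o ω u o
      simp_rw [this]
      exact hcol o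
    · rfl
  have hl0 : 0 ≤ l := Finset.sum_nonneg (fun u _ => mul_nonneg (hAnn u o) (hAnn u o'))
  have hlk : l ≤ k := by
    rw [← hcol o, hl]
    apply Finset.sum_le_sum
    intro u _
    have := hAle u o'
    have := hAnn u o
    nlinarith
  have hkn : k ≤ n := by
    rw [← hcol o]
    calc ∑ u, A u o ≤ ∑ _u : Ω, (1 : ℤ) := Finset.sum_le_sum (fun u _ => hAle u o)
      _ = n := by simp [hn_def]
  -- E1
  have E1 : k ^ 2 = (k - l) + l * n := by
    have h5 := nsq_mulVec A k l hS (fun _ => 1)
    have h6 : ∀ u, A.mulVec (fun _ => (1 : ℤ)) u = k := by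
      intro u
      simp only [Matrix.mulVec, dotProduct, mul_one]
      exact hrow u
    simp_rw [h6] at h5
    simp only [Finset.sum_const, Finset.card_univ, nsmul_eq_mul, one_pow, mul_one] at h5
    have hn0 : ((Fintype.card Ω : ℕ) : ℤ) ≠ 0 := by
      have : 0 < Fintype.card Ω := by omega
      exact_mod_cast this.ne'
    have : ((Fintype.card Ω : ℕ) : ℤ) * k ^ 2 = (Fintype.card Ω : ℤ) * ((k - l) + l * n) := by
      rw [h5, hn_def]; ring
    exact mul_left_cancel₀ hn0 this
  -- the power
  set B : Matrix Ω Ω ℤ := A ^ m with hB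
  have hBinv : ∀ (g : G) (u v : Ω), B (g • u) (g • v) = B u v := by
    have := invT_pow hinv m
    rw [hαm] at this
    exact this
  have hBform := form_of_inv h2 htr (fun u v => B u v) hBinv hoo'
  set b : ℤ := B o o' with hb
  set a : ℤ := B o o - B o o' with ha
  -- iterated sums
  have hsum_pow : ∀ (j : ℕ) (w : Ω → ℤ), ∑ u, (A ^ j).mulVec w u = k ^ j * ∑ v, w v := by
    intro j
    induction j with
    | zero => intro w; simp
    | succ j ih =>
      intro w
      rw [pow_succ, ← Matrix.mulVec_mulVec, ih, sum_mulVec A k hcol, pow_succ]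
      ring
  have E2 : k ^ m = a + b * n := by
    have h7 := hsum_pow m (fun u => if u = o then 1 else 0)
    rw [Finset.sum_ite_eq' Finset.univ o, if_pos (Finset.mem_univ _), mul_one] at h7
    rw [← h7, ← hB]
    have h8 : ∀ u, B.mulVec (fun u => if u = o then (1 : ℤ) else 0) u = B u o := by
      intro u
      simp [Matrix.mulVec, dotProduct]
    simp_rw [h8]
    have h9 : ∀ u, B u o = (if u = o then a else 0) + b := by
      intro u
      have := hBform u o
      rw [this]
      split_ifs with h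
      · rw [ha, hb]; ring
      · rw [hb]; ring
    simp_rw [h9]
    rw [Finset.sum_add_distrib, Finset.sum_ite_eq' Finset.univ o, if_pos (Finset.mem_univ _),
      Finset.sum_const, Finset.card_univ, nsmul_eq_mul, hn_def]
    ring
  -- E3
  set e : Ω → ℤ := fun u => (if u = o then 1 else 0) - (if u = o' then 1 else 0) with he
  have hesum : ∑ u, e u = 0 := by
    rw [he]
    simp only [Finset.sum_sub_distrib]
    rw [Finset.sum_ite_eq' Finset.univ o, Finset.sum_ite_eq' Finset.univ o',
      if_pos (Finset.mem_univ _), if_pos (Finset.mem_univ _)]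
    ring
  have hensq : ∑ u, (e u) ^ 2 = 2 := by
    have : ∀ u, (e u) ^ 2 = (if u = o then 1 else 0) + (if u = o' then 1 else 0) := by
      intro u
      rw [he]
      by_cases h1 : u = o
      · have h2' : u ≠ o' := fun h => hoo' (h1.symm.trans h)
        simp [h1, hoo']
      · by_cases h2' : u = o'
        · simp [h2', hoo'.symm]
        · simp [h1, h2']
    simp_rw [this]
    rw [Finset.sum_add_distrib, Finset.sum_ite_eq' Finset.univ o, Finset.sum_ite_eq' Finset.univ o',
      if_pos (Finset.mem_univ _), if_pos (Finset.mem_univ _)]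
    norm_num
  have hpow_e : ∀ j : ℕ, ∑ u, (A ^ j).mulVec e u = 0 ∧
      ∑ u, ((A ^ j).mulVec e u) ^ 2 = (k - l) ^ j * 2 := by
    intro j
    induction j with
    | zero => simp [hesum, hensq]
    | succ j ih =>
      rw [pow_succ', ← Matrix.mulVec_mulVec]
      constructor
      · rw [sum_mulVec A k hcol, ih.1, mul_zero]
      · rw [nsq_mulVec A k l hS, ih.1, ih.2, pow_succ]
        ring
  have E3 : a ^ 2 = (k - l) ^ m := by
    have h10 := (hpow_e m).2
    rw [← hB] at h10
    have h11 : ∀ u, B.mulVec e u = a * e u := by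
      intro u
      have h12 : B.mulVec e u = B u o - B u o' := by
        simp only [Matrix.mulVec, dotProduct, he, mul_sub, Finset.sum_sub_distrib]
        simp
      rw [h12, hBform u o, hBform u o', he, ha, hb]
      by_cases h1 : u = o
      · have h2' : u ≠ o' := fun h => hoo' (h1.symm.trans h)
        simp [h1, hoo']
      · by_cases h2' : u = o'
        · simp [h2', hoo'.symm]
        · simp [h1, h2']
    simp_rw [h11, mul_pow, ← Finset.mul_sum, hensq] at h10
    linarith
  have hcopZ : IsCoprime k (n : ℤ) := by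
    rw [hk]
    exact Nat.isCoprime_iff_coprime.mpr hcop
  rcases arith_core n hn k l a b m hm hl0 hlk hkn E1 E2 E3 hcopZ with h | h
  · left
    rw [hk] at h
    exact_mod_cast h
  · right
    rw [hk] at h
    omega

/-- `Set.ncard` version of `orbit_card_of_coprime` (free of decidability instances). -/
theorem orbit_ncard_of_coprime
    (h2 : ∀ a b c d : Ω, a ≠ b → c ≠ d → ∃ g : G, g • a = c ∧ g • b = d)
    (htr : ∀ a b : Ω, ∃ g : G, g • a = b) (hn : 2 ≤ Fintype.card Ω)
    (α : MulAut G) (m : ℕ) (hm : Odd m) (hαm : α ^ m = 1) (o ω : Ω)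
    (hcop : (Set.ncard {u : Ω | ∃ g : G, g • o = o ∧ α g • ω = u}).Coprime (Fintype.card Ω)) :
    Set.ncard {u : Ω | ∃ g : G, g • o = o ∧ α g • ω = u} = 1 ∨
    Set.ncard {u : Ω | ∃ g : G, g • o = o ∧ α g • ω = u} = Fintype.card Ω - 1 := by
  classical
  have h : Set.ncard {u : Ω | ∃ g : G, g • o = o ∧ α g • ω = u}
      = (Finset.univ.filter (fun u : Ω => ∃ g : G, g • o = o ∧ α g • ω = u)).card := by
    rw [Set.ncard_eq_toFinset_card']
    congr 1
    ext u
    simp
  rw [h] at hcop ⊢
  exact orbit_card_of_coprime h2 htr hn α m hm hαm o ω hcop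

end Core

end Cfsg.Agent.Lib.Helper58_TwistMat
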