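import Mathlib
import Cfsg.Agent.Lib.Helper39_U4Defs
import Cfsg.Agent.Lib.Helper13_SUGen
import Cfsg.Agent.Lib.Helper95_UQ_FLD

set_option autoImplicit false
set_option linter.unusedVariables false
set_option linter.unusedSimpArgs false
set_option linter.unusedSectionVars false

/-!
# S2150 (architect helper39), package L-STAB1: the stabiliser in `K = {(1, k)}` of a nonzero vector of
the two-dimensional hermitian space has at most `q` elements.
-/

namespace Cfsg.Agent.Lib.Helper58_U4_LSTAB1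

open Module Cfsg.Agent.Lib.Helper94_Symp Cfsg.Agent.Lib.Helper94_Herm
  Cfsg.Agent.Lib.Helper94_HermEich Cfsg.Agent.Lib.Helper94_HermOrth
  Cfsg.Agent.Lib.Helper13_SUGen Cfsg.Agent.Lib.Helper39_U4Defs

variable {F W : Type*} [Field F] [AddCommGroup W] [Module F W] {σ : F →+* F}
  {h : W →ₗ[F] W →ₛₗ[σ] F} [Finite F] [FiniteDimensional F W]

/-- a vector outside the line of `w` -/
theorem exists_not_mem_span (h2 : finrank F W = 2) {w : W} (hw : w ≠ 0) :
    ∃ y : W, y ∉ Submodule.span F {w} := by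
  by_contra hcon
  push Not at hcon
  have htop : Submodule.span F {w} = ⊤ := eq_top_iff.mpr (fun x _ => hcon x)
  have h1 := finrank_span_singleton (K := F) hw
  rw [htop, finrank_top, h2] at h1
  omega

theorem li_pair {w y : W} (hw : w ≠ 0) (hy : y ∉ Submodule.span F {w}) :
    LinearIndependent F ![y, w] := by
  rw [LinearIndependent.pair_iff]
  intro s t hst
  have hs : s = 0 := by
    by_contra hs
    apply hy
    rw [Submodule.mem_span_singleton]
    refine ⟨-(s⁻¹ * t), ?_⟩
    have h1 : s • y = -(t • w) := eq_neg_of_add_eq_zero_left hst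
    have h2 : y = s⁻¹ • (s • y) := by rw [smul_smul, inv_mul_cancel₀ hs, one_smul]
    rw [h2, h1, smul_neg, smul_smul, neg_smul]
  refine ⟨hs, ?_⟩
  rw [hs, zero_smul, zero_add] at hst
  rcases smul_eq_zero.mp hst with ht | ht
  · exact ht
  · exact absurd ht hw

theorem span_pair_top (h2 : finrank F W = 2) {w y : W} (hw : w ≠ 0)
    (hy : y ∉ Submodule.span F {w}) : Submodule.span F (Set.range ![y, w]) = ⊤ :=
  (li_pair hw hy).span_eq_top_of_card_eq_finrank' (by rw [h2]; rfl)

/-- the structure of an isometry of determinant one fixing `w` -/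
theorem stab_struct (hh : IsHerm h) (h2 : finrank F W = 2) {w y : W} (hw : w ≠ 0)
    (hy : y ∉ Submodule.span F {w}) (k : W ≃ₗ[F] W) (hk : k ∈ uG h)
    (hdet : ((LinearEquiv.det k : Fˣ) : F) = 1) (hkw : k w = w) :
    ∃ s : F, k y = y + s • w ∧ s * h w w = 0 ∧
      s * h w y + σ s * h y w + s * σ s * h w w = 0 := by
  have hspan := span_pair_top h2 hw hy
  have hmem : k y ∈ Submodule.span F (Set.range ![y, w]) := by
    rw [hspan]
    exact Submodule.mem_top
  rw [Submodule.mem_span_range_iff_exists_fun] at hmem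
  obtain ⟨c, hc⟩ := hmem
  rw [Fin.sum_univ_two] at hc
  have hc' : k y = c 0 • y + c 1 • w := by
    rw [← hc]
    rfl
  -- the determinant
  have hd : LinearMap.det (k : W →ₗ[F] W) = (!![c 0, 0; c 1, 1] : Matrix (Fin 2) (Fin 2) F).det := by
    apply det_eq_of_span (li_pair hw hy) (k : W →ₗ[F] W)
    · intro j
      rw [Fin.sum_univ_two]
      fin_cases j
      · show k y = c 0 • y + c 1 • w
        exact hc'
      · show k w = (0 : F) • y + (1 : F) • w
        rw [hkw, zero_smul, one_smul, zero_add]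
    · intro v
      rw [hspan]
      exact Submodule.mem_top
  rw [Matrix.det_fin_two_of, mul_one, zero_mul, sub_zero] at hd
  have hc0 : c 0 = 1 := by
    rw [← hd, ← LinearEquiv.coe_det]
    exact hdet
  refine ⟨c 1, ?_, ?_, ?_⟩
  · rw [hc', hc0, one_smul]
  · have h1 := hk y w
    rw [hkw, hc', hc0, one_smul, map_add, LinearMap.add_apply, map_smul, LinearMap.smul_apply,
      smul_eq_mul] at h1
    linear_combination h1
  · have h1 := hk y y
    rw [hc', hc0, one_smul] at h1
    simp only [map_add, LinearMap.add_apply, map_smul, LinearMap.smul_apply, map_smulₛₗ,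
      smul_eq_mul] at h1
    linear_combination h1

/-- an isotropic `w` is not orthogonal to `y` -/
theorem pair_ne_zero (hh : IsHerm h) (hN : NondegOn h ⊤) (h2 : finrank F W = 2) {w y : W}
    (hw : w ≠ 0) (hy : y ∉ Submodule.span F {w}) (hww : h w w = 0) : h w y ≠ 0 := by
  intro h0
  obtain ⟨z, -, hz⟩ := hN w Submodule.mem_top hw
  apply hz
  have hmem : z ∈ Submodule.span F (Set.range ![y, w]) := by
    rw [span_pair_top h2 hw hy]
    exact Submodule.mem_top
  rw [Submodule.mem_span_range_iff_exists_fun] at hmem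
  obtain ⟨c, hc⟩ := hmem
  rw [Fin.sum_univ_two] at hc
  have hc' : z = c 0 • y + c 1 • w := by
    rw [← hc]
    rfl
  rw [hc', map_add, map_smulₛₗ, map_smulₛₗ, h0, hww, smul_zero, smul_zero, add_zero]

theorem two_le_q {q : ℕ} (hq : Nat.card F = q ^ 2) : 2 ≤ q := by
  have h1 : 1 < Nat.card F := Finite.one_lt_card
  rw [hq] at h1
  by_contra hcon
  have : q ≤ 1 := by omega
  have := Nat.pow_le_pow_left this 2
  omega

theorem stab_vec_K {q : ℕ} (hσ : Invol σ) (hh : IsHerm h) (hN : NondegOn h ⊤) (h2 : finrank F W = 2)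
    (hq : Nat.card F = q ^ 2) (hσq : ∀ x, σ x = x ^ q) {w : W} (hw : w ≠ 0) :
    Nat.card {p : ↥(LL h) // (p : Fˣ × (W ≃ₗ[F] W)).1 = 1 ∧ (p : Fˣ × (W ≃ₗ[F] W)).2 w = w} ≤ q := by
  obtain ⟨y, hy⟩ := exists_not_mem_span h2 hw
  have hstruct : ∀ p : {p : ↥(LL h) // (p : Fˣ × (W ≃ₗ[F] W)).1 = 1 ∧
      (p : Fˣ × (W ≃ₗ[F] W)).2 w = w},
      ∃ s : F, (p.1 : Fˣ × (W ≃ₗ[F] W)).2 y = y + s • w ∧ s * h w w = 0 ∧
        s * h w y + σ s * h y w + s * σ s * h w w = 0 := by
    intro p
    have hmem := (mem_LL (h := h)).mp p.1.2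
    have hdet : ((LinearEquiv.det (p.1 : Fˣ × (W ≃ₗ[F] W)).2 : Fˣ) : F) = 1 := by
      have h1 := hmem.2
      rw [p.2.1] at h1
      simpa using h1
    exact stab_struct hh h2 hw hy _ hmem.1 hdet p.2.2
  have hfin : Finite {c : F // σ c = -c} := inferInstance
  rw [← Cfsg.Agent.Lib.Helper95_UQ_FLD.card_skew hσ hq]
  refine Nat.card_le_card_of_injective
    (fun p => (⟨h ((p.1 : Fˣ × (W ≃ₗ[F] W)).2 y - y) y, ?_⟩ : {c : F // σ c = -c})) ?_
  · obtain ⟨s, hs1, hs2, hs3⟩ := hstruct p
    rw [hs1, add_sub_cancel_left, map_smul, LinearMap.smul_apply, smul_eq_mul, map_mul,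
      ← hh w y]
    by_cases hww : h w w = 0
    · rw [hww, mul_zero, add_zero] at hs3
      linear_combination hs3
    · have hs0 : s = 0 := by
        rcases mul_eq_zero.mp hs2 with h0 | h0
        · exact h0
        · exact absurd h0 hww
      rw [hs0]
      simp
  · intro p p' hpp
    have hval : h ((p.1 : Fˣ × (W ≃ₗ[F] W)).2 y - y) y =
        h ((p'.1 : Fˣ × (W ≃ₗ[F] W)).2 y - y) y := congrArg Subtype.val hpp
    obtain ⟨s, hs1, hs2, hs3⟩ := hstruct p
    obtain ⟨s', hs1', hs2', hs3'⟩ := hstruct p'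
    rw [hs1, hs1', add_sub_cancel_left, add_sub_cancel_left, map_smul, map_smul,
      LinearMap.smul_apply, LinearMap.smul_apply, smul_eq_mul, smul_eq_mul] at hval
    have hss : s = s' := by
      by_cases hww : h w w = 0
      · exact mul_right_cancel₀ (pair_ne_zero hh hN h2 hw hy hww) hval
      · have hs0 : s = 0 := by
          rcases mul_eq_zero.mp hs2 with h0 | h0
          · exact h0
          · exact absurd h0 hww
        have hs0' : s' = 0 := by
          rcases mul_eq_zero.mp hs2' with h0 | h0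
          · exact h0
          · exact absurd h0 hww
        rw [hs0, hs0']
    -- the two isometries agree on a basis
    have hk : (p.1 : Fˣ × (W ≃ₗ[F] W)).2 = (p'.1 : Fˣ × (W ≃ₗ[F] W)).2 := by
      have hlin : ((p.1 : Fˣ × (W ≃ₗ[F] W)).2 : W →ₗ[F] W) =
          ((p'.1 : Fˣ × (W ≃ₗ[F] W)).2 : W →ₗ[F] W) := by
        apply LinearMap.ext_on_range (span_pair_top h2 hw hy)
        intro i
        fin_cases i
        · show (p.1 : Fˣ × (W ≃ₗ[F] W)).2 y = (p'.1 : Fˣ × (W ≃ₗ[F] W)).2 y
          rw [hs1, hs1', hss]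
        · show (p.1 : Fˣ × (W ≃ₗ[F] W)).2 w = (p'.1 : Fˣ × (W ≃ₗ[F] W)).2 w
          rw [p.2.2, p'.2.2]
      apply LinearEquiv.ext
      intro x
      exact congrArg (fun f : W →ₗ[F] W => f x) hlin
    apply Subtype.ext
    apply Subtype.ext
    apply Prod.ext
    · rw [p.2.1, p'.2.1]
    · exact hk

end Cfsg.Agent.Lib.Helper58_U4_LSTAB1
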