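import Mathlib
import Cfsg.Agent.Lib.Helper39_U4Defs
import Cfsg.Agent.Lib.Helper13_SUGen
import Cfsg.Agent.Lib.Helper95_UQ_FLD

set_option autoImplicit false
set_option linter.unusedVariables false
set_option linter.unusedSimpArgs false
set_option linter.unusedSectionVars false

/-!
# S2150 (architect helper39), package L-T0: the local theorem when `Bb = 0`.
-/

namespace Cfsg.Agent.Lib.Helper58_U4_LT0

open Module Cfsg.Agent.Lib.Helper94_Symp Cfsg.Agent.Lib.Helper94_Herm
  Cfsg.Agent.Lib.Helper94_HermEich Cfsg.Agent.Lib.Helper94_HermOrth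
  Cfsg.Agent.Lib.Helper13_SUGen Cfsg.Agent.Lib.Helper39_U4Defs

variable {F W : Type*} [Field F] [AddCommGroup W] [Module F W] {σ : F →+* F}
  {h : W →ₗ[F] W →ₛₗ[σ] F} [Finite F] [FiniteDimensional F W]

/-- the skew scalars -/
def skew (σ : F →+* F) : AddSubgroup F where
  carrier := {c | σ c = -c}
  add_mem' := by
    intro a b ha hb
    show σ (a + b) = -(a + b)
    rw [map_add, ha, hb]
    ring
  zero_mem' := by
    show σ 0 = -0
    simp
  neg_mem' := by
    intro a ha
    show σ (-a) = - -a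
    rw [map_neg, ha]

theorem card_skew' (hσ : Invol σ) {q : ℕ} (hq : Nat.card F = q ^ 2) :
    Nat.card ↥(skew σ) = q :=
  Cfsg.Agent.Lib.Helper95_UQ_FLD.card_skew hσ hq

/-- a proper subgroup of the skew scalars has at most `q / 2` elements -/
theorem two_mul_card_le {q : ℕ} {Bb : AddSubgroup W} {Y : AddSubgroup F}
    {S : Subgroup (Fˣ × (W ≃ₗ[F] W))} (H : LocHyp h q Bb Y S) : 2 * Nat.card ↥Y ≤ q := by
  have hle : Y ≤ skew σ := fun y hy => H.hY0 y hy
  obtain ⟨c, hc, hcY⟩ := H.hY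
  have hdvd : Nat.card ↥Y ∣ Nat.card ↥(skew σ) := AddSubgroup.card_dvd_of_le hle
  rw [card_skew' H.hσ H.hq] at hdvd
  obtain ⟨m, hm⟩ := hdvd
  have hYpos : 0 < Nat.card ↥Y := Nat.card_pos
  have hq2 : 2 ≤ q := by
    have h1 : 1 < Nat.card F := Finite.one_lt_card
    rw [H.hq] at h1
    by_contra hcon
    have : q ≤ 1 := by omega
    have := Nat.pow_le_pow_left this 2
    omega
  have hm2 : 2 ≤ m := by
    by_contra hcon
    have hm1 : m ≤ 1 := by omega
    interval_cases m
    · omega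
    · -- `|Y| = q` forces `Y = skew`
      have hcard : Nat.card ↥(skew σ) ≤ Nat.card ↥Y := by
        rw [card_skew' H.hσ H.hq, hm, mul_one]
      have heq : Y = skew σ := AddSubgroup.eq_of_le_of_card_ge hle hcard
      apply hcY
      rw [heq]
      exact hc
  calc 2 * Nat.card ↥Y ≤ m * Nat.card ↥Y := Nat.mul_le_mul_right _ hm2
    _ = q := by rw [hm, mul_comm]

theorem two_le_q {q : ℕ} (hq : Nat.card F = q ^ 2) : 2 ≤ q := by
  have h1 : 1 < Nat.card F := Finite.one_lt_card
  rw [hq] at h1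
  by_contra hcon
  have : q ≤ 1 := by omega
  have := Nat.pow_le_pow_left this 2
  omega

theorem loc_T0 {q : ℕ} {Bb : AddSubgroup W} {Y : AddSubgroup F}
    {S : Subgroup (Fˣ × (W ≃ₗ[F] W))} (H : LocHyp h q Bb Y S) (hB0 : Bb = ⊥) :
    (q + 1) * (q ^ 3 + 1) * (Nat.card Bb * Nat.card Y * Nat.card S) ≤ q ^ 5 * Nat.card ↥(LL h) := by
  have h1 : Nat.card ↥Bb = 1 := by
    rw [hB0]
    exact AddSubgroup.card_bot
  have h2 := two_mul_card_le H
  have h3 : Nat.card ↥S ≤ Nat.card ↥(LL h) := by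
    have : Finite ↥(LL h) := by
      have : Finite (Fˣ × (W ≃ₗ[F] W)) := by
        have : Finite W := Module.finite_of_finite F
        have : Finite (W ≃ₗ[F] W) := Finite.of_injective (fun e : W ≃ₗ[F] W => (e : W → W))
          (fun a b hab => LinearEquiv.ext (fun x => congrFun hab x))
        infer_instance
      infer_instance
    exact Subgroup.card_le_of_le H.hS
  have hq2 := two_le_q H.hq
  rw [h1, one_mul]
  have h4 : (q + 1) * (q ^ 3 + 1) * Nat.card ↥Y ≤ q ^ 5 := by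
    have h5 : (q + 1) * (q ^ 3 + 1) ≤ 2 * q ^ 4 := by
      have e3 : q ^ 3 = q * q * q := by ring
      have e4 : q ^ 4 = q * q * q * q := by ring
      rw [e3, e4]
      have h6 : 2 * (q * q * q) ≤ q * q * q * q := by
        calc 2 * (q * q * q) = (q * q * q) * 2 := by ring
          _ ≤ (q * q * q) * q := Nat.mul_le_mul_left _ hq2
      have h7 : 4 * q ≤ q * q * q := by
        calc 4 * q = (2 * 2) * q := by ring
          _ ≤ (q * q) * q := Nat.mul_le_mul_right _ (Nat.mul_le_mul hq2 hq2)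
      nlinarith
    calc (q + 1) * (q ^ 3 + 1) * Nat.card ↥Y ≤ 2 * q ^ 4 * Nat.card ↥Y :=
          Nat.mul_le_mul_right _ h5
      _ = q ^ 4 * (2 * Nat.card ↥Y) := by ring
      _ ≤ q ^ 4 * q := Nat.mul_le_mul_left _ h2
      _ = q ^ 5 := by ring
  calc (q + 1) * (q ^ 3 + 1) * (Nat.card ↥Y * Nat.card ↥S)
      = (q + 1) * (q ^ 3 + 1) * Nat.card ↥Y * Nat.card ↥S := by ring
    _ ≤ q ^ 5 * Nat.card ↥(LL h) := Nat.mul_le_mul h4 h3

end Cfsg.Agent.Lib.Helper58_U4_LT0
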