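import Mathlib
import Cfsg.Agent.Lib.Helper3_BFDefs

/-!
S4700 package RANK (architect helper3): finite-sum arithmetic on the abstract principal-block data
`FData0` in the configuration `Shape` with `C_G(P) = P`: the permutation character on the Sylow
`p`-subgroups has norm `n + 1`, and the numerical consequences `n + 1 < p`, `5 ≤ p`,
`(n + 1) ∣ (p - 1) → 2 n + 3 ≤ p`.
-/

set_option autoImplicit false

namespace Cfsg.Agent.Lib.Helper59_BF_RANK

open Cfsg.Agent.Lib.Helper3_BFDefs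

section split

variable {ι M : Type*} [Fintype ι] [DecidableEq ι] [AddCommMonoid M]

/-- splitting a sum over everything along `X = {one} ∪ X⁺ ∪ X⁻`, `Y` and the rest -/
theorem sum_split (X Y : Finset ι) (one : ι) (hone : one ∈ X) (hdisj : Disjoint X Y)
    (q : ι → Prop) [DecidablePred q] (f : ι → M) :
    ∑ χ, f χ = f one + ∑ χ ∈ (X.erase one).filter q, f χ
      + ∑ χ ∈ (X.erase one).filter (fun χ => ¬ q χ), f χ + ∑ χ ∈ Y, f χ + ∑ χ ∈ (X ∪ Y)ᶜ, f χ := by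
  rw [← Finset.sum_add_sum_compl (X ∪ Y) f, Finset.sum_union hdisj, ← Finset.add_sum_erase X f hone,
    ← Finset.sum_filter_add_sum_filter_not (X.erase one) q f]
  simp only [add_assoc]

end split

theorem rank_arith {p e t n : ℕ} {ι : Type*} [Fintype ι] [DecidableEq ι] (hp : p.Prime)
    (D : FData0 p e t n ι) (hS : D.Shape)
    (hout : ∀ χ, χ ∉ D.X → χ ∉ D.Y → D.deg χ = p * D.m1 χ)
    (hsq : ∑ χ, D.deg χ ^ 2 = p * e * (1 + n * p))
    (c : ι → ℕ) (hcle : ∀ χ, c χ ≤ D.m1 χ) (hcone : c D.one = 1)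
    (hcm : ∑ χ, c χ * D.m1 χ = n + 1) (hcdeg : ∑ χ, c χ * D.deg χ = 1 + n * p) :
    ∑ χ, c χ ^ 2 = n + 1 ∧ n + 1 < p ∧ 5 ≤ p ∧ ((n + 1) ∣ (p - 1) → 2 * n + 3 ≤ p) := by
  classical
  obtain ⟨hX, hYs, hex⟩ := hS
  have hp2 := hp.two_le
  have het := D.het
  have he2 := D.he2
  have hn1 := D.hn1
  have hpe : e * t + 1 = p := by omega
  have ht1 : 1 ≤ t := by
    rcases Nat.eq_zero_or_pos t with h0 | h0
    · rw [h0] at hpe; omega
    · exact h0
  have hep : e < p := by nlinarith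
  have htp : t < p := by nlinarith
  -- `m1 one = 1`
  have hm1one : D.m1 D.one = 1 := by
    have h1 := D.hdegX D.one D.hone
    rw [D.hdegone, D.hδone] at h1
    have h2 : (p : ℤ) * D.m1 D.one = p * 1 := by push_cast at h1; linarith
    have h3 : (D.m1 D.one : ℤ) = 1 := mul_left_cancel₀ (by exact_mod_cast hp.ne_zero) h2
    exact_mod_cast h3
  -- the two kinds of nontrivial members of `X`
  set Xp : Finset ι := (D.X.erase D.one).filter (fun χ => D.δ χ = 1) with hXp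
  set Xm : Finset ι := (D.X.erase D.one).filter (fun χ => ¬ D.δ χ = 1) with hXm
  have hsr : Xp.card + Xm.card + 1 = e := by
    have h1 : Xp.card + Xm.card = (D.X.erase D.one).card :=
      Finset.card_filter_add_card_filter_not (s := D.X.erase D.one) (fun χ => D.δ χ = 1)
    have h2 := Finset.card_erase_of_mem D.hone
    rw [D.hXcard] at h2
    omega
  have hXp_mem : ∀ χ ∈ Xp, χ ∈ D.X ∧ χ ≠ D.one ∧ D.δ χ = 1 ∧ D.m1 χ = n + 1 ∧
      D.deg χ = 1 + n * p := by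
    intro χ hχ
    rw [hXp, Finset.mem_filter, Finset.mem_erase] at hχ
    obtain ⟨⟨hne, hχX⟩, hδ⟩ := hχ
    have hm : D.m1 χ = n + 1 := by
      rcases hX χ hχX hne with h | h
      · exact h.2
      · rw [h.1] at hδ; norm_num at hδ
    refine ⟨hχX, hne, hδ, hm, ?_⟩
    have h1 := D.hdegX χ hχX
    rw [hδ, hm] at h1
    have h2 : (D.deg χ : ℤ) = ((1 + n * p : ℕ) : ℤ) := by push_cast at h1 ⊢; linarith
    exact_mod_cast h2
  have hXm_mem : ∀ χ ∈ Xm, χ ∈ D.X ∧ χ ≠ D.one ∧ D.δ χ = -1 ∧ D.m1 χ = 0 ∧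
      D.deg χ + 1 = p := by
    intro χ hχ
    rw [hXm, Finset.mem_filter, Finset.mem_erase] at hχ
    obtain ⟨⟨hne, hχX⟩, hδ⟩ := hχ
    have hh : D.δ χ = -1 ∧ D.m1 χ = 0 := by
      rcases hX χ hχX hne with h | h
      · exact absurd h.1 hδ
      · exact h
    refine ⟨hχX, hne, hh.1, hh.2, ?_⟩
    have h1 := D.hdegX χ hχX
    rw [hh.1, hh.2] at h1
    have h2 : ((D.deg χ + 1 : ℕ) : ℤ) = (p : ℤ) := by push_cast at h1 ⊢; linarith
    exact_mod_cast h2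
  -- `c = 0` on `X - one`
  have hcX : ∀ χ ∈ D.X, χ ≠ D.one → c χ = 0 := by
    intro χ hχX hne
    rcases hX χ hχX hne with h | h
    · have h1 : ∑ x ∈ ({D.one, χ} : Finset ι), c x * D.m1 x ≤ ∑ x, c x * D.m1 x :=
        Finset.sum_le_sum_of_subset (Finset.subset_univ _)
      rw [Finset.sum_pair (Ne.symm hne), hcm, hcone, hm1one, h.2] at h1
      by_contra h0
      have : 1 ≤ c χ := Nat.one_le_iff_ne_zero.2 h0
      nlinarith
    · have := hcle χ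
      rw [h.2] at this
      omega
  set Z : Finset ι := (D.X ∪ D.Y)ᶜ with hZ
  have hZ_mem : ∀ χ ∈ Z, D.deg χ = p * D.m1 χ := by
    intro χ hχ
    rw [hZ, Finset.mem_compl, Finset.mem_union, not_or] at hχ
    exact hout χ hχ.1 hχ.2
  obtain ⟨θ0, hθ0⟩ : D.Y.Nonempty := by
    rw [← Finset.card_pos, D.hYcard]; exact ht1
  have splitN : ∀ f : ι → ℕ, ∑ χ, f χ = f D.one + ∑ χ ∈ Xp, f χ + ∑ χ ∈ Xm, f χ
      + ∑ χ ∈ D.Y, f χ + ∑ χ ∈ Z, f χ := by
    intro f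
    rw [hXp, hXm, hZ]
    exact sum_split D.X D.Y D.one D.hone D.hdisj (fun χ => D.δ χ = 1) f
  have splitZ : ∀ f : ι → ℤ, ∑ χ, f χ = f D.one + ∑ χ ∈ Xp, f χ + ∑ χ ∈ Xm, f χ
      + ∑ χ ∈ D.Y, f χ + ∑ χ ∈ Z, f χ := by
    intro f
    rw [hXp, hXm, hZ]
    exact sum_split D.X D.Y D.one D.hone D.hdisj (fun χ => D.δ χ = 1) f
  -- sums of `c χ * g χ`
  have hcsum : ∀ g : ι → ℕ, ∑ χ, c χ * g χ =
      g D.one + ∑ χ ∈ D.Y, c χ * g χ + ∑ χ ∈ Z, c χ * g χ := by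
    intro g
    rw [splitN (fun χ => c χ * g χ), hcone, one_mul]
    have h1 : ∑ χ ∈ Xp, c χ * g χ = 0 := Finset.sum_eq_zero (fun χ hχ => by
      rw [hcX χ (hXp_mem χ hχ).1 (hXp_mem χ hχ).2.1, zero_mul])
    have h2 : ∑ χ ∈ Xm, c χ * g χ = 0 := Finset.sum_eq_zero (fun χ hχ => by
      rw [hcX χ (hXm_mem χ hχ).1 (hXm_mem χ hχ).2.1, zero_mul])
    rw [h1, h2, add_zero, add_zero]
  -- (E2): the degree relation
  have hE2 : (1 : ℤ) + Xp.card * (1 + n * p) - Xm.card * (p - 1) = D.ε * (D.deg θ0 : ℤ) := by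
    rw [← D.hrel θ0 hθ0, ← Finset.add_sum_erase D.X _ D.hone,
      ← Finset.sum_filter_add_sum_filter_not (D.X.erase D.one) (fun χ => D.δ χ = 1), ← hXp, ← hXm,
      D.hδone, D.hdegone]
    have h1 : ∑ χ ∈ Xp, D.δ χ * (D.deg χ : ℤ) = Xp.card * (1 + n * p) := by
      rw [Finset.sum_eq_card_nsmul (b := ((1 : ℤ) + n * p)), nsmul_eq_mul]
      intro χ hχ
      obtain ⟨-, -, h3, -, h5⟩ := hXp_mem χ hχ
      rw [h3, h5]; push_cast; ring
    have h2 : ∑ χ ∈ Xm, D.δ χ * (D.deg χ : ℤ) = Xm.card * (-((p : ℤ) - 1)) := by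
      rw [Finset.sum_eq_card_nsmul (b := (-((p : ℤ) - 1))), nsmul_eq_mul]
      intro χ hχ
      obtain ⟨-, -, h3, -, h5⟩ := hXm_mem χ hχ
      have h6 : (D.deg χ : ℤ) = p - 1 := by
        have := congrArg (Nat.cast (R := ℤ)) h5
        push_cast at this; linarith
      rw [h3, h6]; ring
    rw [h1, h2]; push_cast; ring
  -- (E3): the sum of squares
  have hE3 : (1 : ℤ) + Xp.card * (1 + n * p) ^ 2 + Xm.card * ((p : ℤ) - 1) ^ 2
      + ∑ θ ∈ D.Y, (D.deg θ : ℤ) ^ 2 + (p : ℤ) ^ 2 * ∑ χ ∈ Z, (D.m1 χ : ℤ) ^ 2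
      = p * e * (1 + n * p) := by
    have hsqZ : ∑ χ, (D.deg χ : ℤ) ^ 2 = p * e * (1 + n * p) := by exact_mod_cast hsq
    rw [← hsqZ, splitZ (fun χ => (D.deg χ : ℤ) ^ 2), D.hdegone]
    have h1 : ∑ χ ∈ Xp, (D.deg χ : ℤ) ^ 2 = Xp.card * (1 + n * p) ^ 2 := by
      rw [Finset.sum_eq_card_nsmul (b := ((1 : ℤ) + n * p) ^ 2), nsmul_eq_mul]
      intro χ hχ
      obtain ⟨-, -, -, -, h5⟩ := hXp_mem χ hχ
      rw [h5]; push_cast; ring
    have h2 : ∑ χ ∈ Xm, (D.deg χ : ℤ) ^ 2 = Xm.card * ((p : ℤ) - 1) ^ 2 := by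
      rw [Finset.sum_eq_card_nsmul (b := ((p : ℤ) - 1) ^ 2), nsmul_eq_mul]
      intro χ hχ
      obtain ⟨-, -, -, -, h5⟩ := hXm_mem χ hχ
      have h6 : (D.deg χ : ℤ) = p - 1 := by
        have := congrArg (Nat.cast (R := ℤ)) h5
        push_cast at this; linarith
      rw [h6]
    have h3 : ∑ χ ∈ Z, (D.deg χ : ℤ) ^ 2 = (p : ℤ) ^ 2 * ∑ χ ∈ Z, (D.m1 χ : ℤ) ^ 2 := by
      rw [Finset.mul_sum]
      refine Finset.sum_congr rfl (fun χ hχ => ?_)
      rw [hZ_mem χ hχ]; push_cast; ring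
    rw [h1, h2, h3]; push_cast; ring
  -- (E4), (E5)
  have hE4 : 1 + ∑ θ ∈ D.Y, c θ * D.m1 θ + ∑ χ ∈ Z, c χ * D.m1 χ = n + 1 := by
    rw [← hcm, hcsum D.m1, hm1one]
  have hE5 : 1 + ∑ θ ∈ D.Y, c θ * D.deg θ + p * ∑ χ ∈ Z, c χ * D.m1 χ = 1 + n * p := by
    rw [← hcdeg, hcsum D.deg, D.hdegone, Finset.mul_sum]
    congr 1
    refine Finset.sum_congr rfl (fun χ hχ => ?_)
    rw [hZ_mem χ hχ]; ring
  -- the final step, from `c = 0` on `Y`, `Σ_Z m1² = n` and `Σ_Z c m1 = n`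
  have hfinal : (∀ θ ∈ D.Y, c θ = 0) → ∑ χ ∈ Z, D.m1 χ ^ 2 = n → ∑ χ ∈ Z, c χ * D.m1 χ = n →
      ∑ χ, c χ ^ 2 = n + 1 := by
    intro hcY h2 h3
    have hle : ∀ χ ∈ Z, c χ * D.m1 χ ≤ D.m1 χ ^ 2 := by
      intro χ _
      rw [sq]
      exact Nat.mul_le_mul_right _ (hcle χ)
    have heq := (Finset.sum_eq_sum_iff_of_le hle).1 (h3.trans h2.symm)
    have hcZ : ∀ χ ∈ Z, c χ = D.m1 χ := by
      intro χ hχ
      have h4 := heq χ hχ
      have h5 : 0 < D.m1 χ := by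
        rcases Nat.eq_zero_or_pos (D.m1 χ) with h0 | h0
        · have := D.hdegpos χ
          rw [hZ_mem χ hχ, h0] at this
          omega
        · exact h0
      rw [sq] at h4
      exact Nat.eq_of_mul_eq_mul_right h5 h4
    rw [splitN (fun χ => c χ ^ 2), hcone]
    have h6 : ∑ χ ∈ Xp, c χ ^ 2 = 0 := Finset.sum_eq_zero (fun χ hχ => by
      rw [hcX χ (hXp_mem χ hχ).1 (hXp_mem χ hχ).2.1]; rfl)
    have h7 : ∑ χ ∈ Xm, c χ ^ 2 = 0 := Finset.sum_eq_zero (fun χ hχ => by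
      rw [hcX χ (hXm_mem χ hχ).1 (hXm_mem χ hχ).2.1]; rfl)
    have h8 : ∑ χ ∈ D.Y, c χ ^ 2 = 0 := Finset.sum_eq_zero (fun χ hχ => by
      rw [hcY χ hχ]; rfl)
    have h9 : ∑ χ ∈ Z, c χ ^ 2 = n := by
      rw [← h2]
      exact Finset.sum_congr rfl (fun χ hχ => by rw [hcZ χ hχ])
    rw [h6, h7, h8, h9]; ring
  have hp4 : p ≠ 4 := by
    rintro rfl
    norm_num at hp
  have hpZ : (p : ℤ) ≠ 0 := by exact_mod_cast hp.ne_zero
  have hsrZ : (Xp.card : ℤ) + Xm.card + 1 = e := by exact_mod_cast hsr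
  have hpeZ : (e : ℤ) * t = p - 1 := by
    have := congrArg (Nat.cast (R := ℤ)) hpe
    push_cast at this; linarith
  rcases hYs with ⟨hε, hm0⟩ | ⟨hε, hm⟩
  · -- `ε = 1`
    have hdegY : ∀ θ ∈ D.Y, D.deg θ = e := by
      intro θ hθ
      have h1 := D.hdegY θ hθ
      rw [hε, hm0 θ hθ] at h1
      have h2 : (D.deg θ : ℤ) = (e : ℤ) := by push_cast at h1; linarith
      exact_mod_cast h2
    have hcY : ∀ θ ∈ D.Y, c θ = 0 := by
      intro θ hθ
      have := hcle θ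
      rw [hm0 θ hθ] at this
      omega
    have hYsq : ∑ θ ∈ D.Y, (D.deg θ : ℤ) ^ 2 = (t : ℤ) * (e : ℤ) ^ 2 := by
      rw [Finset.sum_eq_card_nsmul (b := ((e : ℤ)) ^ 2), nsmul_eq_mul, D.hYcard]
      intro θ hθ
      rw [hdegY θ hθ]
    rw [hε, hdegY θ0 hθ0, one_mul] at hE2
    have hkeyZ : (Xp.card : ℤ) * (n + 1) + 1 = e := by
      have h1 : (p : ℤ) * ((Xp.card : ℤ) * (n + 1) + 1 - e) = 0 := by
        linear_combination hE2 + ((p : ℤ) - 1) * hsrZ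
      rcases mul_eq_zero.1 h1 with h2 | h2
      · exact absurd h2 hpZ
      · linarith
    have hkey : Xp.card * (n + 1) + 1 = e := by exact_mod_cast hkeyZ
    have hrZ : (Xm.card : ℤ) = Xp.card * n := by linarith
    have hte : (t : ℤ) * (e : ℤ) ^ 2 = e * ((p : ℤ) - 1) := by rw [← hpeZ]; ring
    have hSZ2Z : (p : ℤ) ^ 2 * ∑ χ ∈ Z, (D.m1 χ : ℤ) ^ 2 = (p : ℤ) ^ 2 * n := by
      rw [hYsq, hte, hrZ] at hE3
      rw [← hkeyZ] at hE3
      linear_combination hE3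
    have hSZ2 : ∑ χ ∈ Z, D.m1 χ ^ 2 = n := by
      have h1 := mul_left_cancel₀ (pow_ne_zero 2 hpZ) hSZ2Z
      exact_mod_cast h1
    have hYcm : ∑ θ ∈ D.Y, c θ * D.m1 θ = 0 := Finset.sum_eq_zero (fun θ hθ => by
      rw [hcY θ hθ, zero_mul])
    have hSZc : ∑ χ ∈ Z, c χ * D.m1 χ = n := by
      rw [hYcm] at hE4; omega
    have hs1 : 1 ≤ Xp.card := by
      rcases Nat.eq_zero_or_pos Xp.card with h0 | h0
      · rw [h0] at hkey; omega
      · exact h0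
    have hle : n + 1 ≤ Xp.card * (n + 1) := Nat.le_mul_of_pos_left _ hs1
    have het' : e ≤ e * t := Nat.le_mul_of_pos_right _ ht1
    refine ⟨hfinal hcY hSZ2 hSZc, by omega, by omega, ?_⟩
    intro hdvd
    have hdvd' : (n + 1) ∣ t * e := by
      have : p - 1 = t * e := by rw [mul_comm]; omega
      rwa [this] at hdvd
    have hcop : Nat.Coprime (n + 1) e := by
      have h1 := Nat.gcd_dvd_left (n + 1) e
      have h2 : Nat.gcd (n + 1) e ∣ Xp.card * (n + 1) + 1 := by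
        rw [hkey]; exact Nat.gcd_dvd_right (n + 1) e
      have h3 : Nat.gcd (n + 1) e ∣ 1 :=
        (Nat.dvd_add_right (Dvd.dvd.mul_left h1 Xp.card)).1 h2
      exact Nat.dvd_one.1 h3
    have h4 : (n + 1) ∣ t := hcop.dvd_of_dvd_mul_right hdvd'
    have h5 : n + 1 ≤ t := Nat.le_of_dvd ht1 h4
    have h6 : 2 * (n + 1) ≤ e * t := Nat.mul_le_mul he2 h5
    omega
  · -- `ε = -1`
    set a0 := D.m1 θ0 with ha0
    have hna : n + 1 = t * a0 := hm θ0 hθ0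
    have hmY : ∀ θ ∈ D.Y, D.m1 θ = a0 := by
      intro θ hθ
      have h1 := hm θ hθ
      rw [hna] at h1
      exact (Nat.eq_of_mul_eq_mul_left ht1 h1).symm
    have ha01 : 1 ≤ a0 := by
      rcases Nat.eq_zero_or_pos a0 with h0 | h0
      · rw [h0] at hna; omega
      · exact h0
    have hdegY : ∀ θ ∈ D.Y, D.deg θ + e = p * a0 := by
      intro θ hθ
      have h1 := D.hdegY θ hθ
      rw [hε, hmY θ hθ] at h1
      have h2 : ((D.deg θ + e : ℕ) : ℤ) = ((p * a0 : ℕ) : ℤ) := by push_cast at h1 ⊢; linarith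
      exact_mod_cast h2
    have hdegYZ : ∀ θ ∈ D.Y, (D.deg θ : ℤ) = p * a0 - e := by
      intro θ hθ
      have := congrArg (Nat.cast (R := ℤ)) (hdegY θ hθ)
      push_cast at this; linarith
    have hYsq : ∑ θ ∈ D.Y, (D.deg θ : ℤ) ^ 2 = (t : ℤ) * ((p : ℤ) * a0 - e) ^ 2 := by
      rw [Finset.sum_eq_card_nsmul (b := ((p : ℤ) * a0 - e) ^ 2), nsmul_eq_mul, D.hYcard]
      intro θ hθ
      rw [hdegYZ θ hθ]
    rw [hε, hdegYZ θ0 hθ0] at hE2
    have hkeyZ : (Xp.card : ℤ) * (n + 1) + a0 + 1 = e := by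
      have h1 : (p : ℤ) * ((Xp.card : ℤ) * (n + 1) + a0 + 1 - e) = 0 := by
        linear_combination hE2 + ((p : ℤ) - 1) * hsrZ
      rcases mul_eq_zero.1 h1 with h2 | h2
      · exact absurd h2 hpZ
      · linarith
    have hkey : Xp.card * (n + 1) + a0 + 1 = e := by exact_mod_cast hkeyZ
    have hrZ : (Xm.card : ℤ) = Xp.card * n + a0 := by linarith
    have hnaZ : (t : ℤ) * a0 = n + 1 := by
      have := congrArg (Nat.cast (R := ℤ)) hna
      push_cast at this; linarith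
    have hT : (t : ℤ) * ((p : ℤ) * a0 - e) ^ 2
        = (p : ℤ) ^ 2 * a0 * (n + 1) - 2 * p * e * (n + 1) + e * ((p : ℤ) - 1) := by
      linear_combination ((p : ℤ) ^ 2 * a0 - 2 * p * e) * hnaZ + (e : ℤ) * hpeZ
    have hv : (e : ℤ) * (n + 1) = a0 * ((p : ℤ) - 1) := by
      linear_combination (-(e : ℤ)) * hnaZ + (a0 : ℤ) * hpeZ
    have hSZ2Z : (p : ℤ) ^ 2 * ∑ χ ∈ Z, (D.m1 χ : ℤ) ^ 2 = (p : ℤ) ^ 2 * n := by
      rw [hYsq, hT, hrZ] at hE3
      rw [← hkeyZ] at hE3 hv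
      linear_combination hE3 + 2 * (p : ℤ) * hv
    have hSZ2 : ∑ χ ∈ Z, D.m1 χ ^ 2 = n := by
      have h1 := mul_left_cancel₀ (pow_ne_zero 2 hpZ) hSZ2Z
      exact_mod_cast h1
    -- `c = 0` on `Y`
    have hYcm : ∑ θ ∈ D.Y, c θ * D.m1 θ = (∑ θ ∈ D.Y, c θ) * a0 := by
      rw [Finset.sum_mul]
      exact Finset.sum_congr rfl (fun θ hθ => by rw [hmY θ hθ])
    have hYcd : ∑ θ ∈ D.Y, c θ * D.deg θ + e * ∑ θ ∈ D.Y, c θ = p * a0 * ∑ θ ∈ D.Y, c θ := by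
      rw [Finset.mul_sum, Finset.mul_sum, ← Finset.sum_add_distrib]
      refine Finset.sum_congr rfl (fun θ hθ => ?_)
      rw [← hdegY θ hθ]; ring
    have hcop : Nat.Coprime p e :=
      (Nat.Prime.coprime_iff_not_dvd hp).2 (Nat.not_dvd_of_pos_of_lt (by omega) hep)
    have hpCY : p ∣ ∑ θ ∈ D.Y, c θ := by
      have h1 : e * (∑ θ ∈ D.Y, c θ) + n * p
          = p * (a0 * (∑ θ ∈ D.Y, c θ) + ∑ χ ∈ Z, c χ * D.m1 χ) := by
        have h2 : p * (a0 * (∑ θ ∈ D.Y, c θ) + ∑ χ ∈ Z, c χ * D.m1 χ)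
            = p * a0 * (∑ θ ∈ D.Y, c θ) + p * ∑ χ ∈ Z, c χ * D.m1 χ := by ring
        rw [h2, ← hYcd]
        omega
      have h3 : p ∣ e * (∑ θ ∈ D.Y, c θ) + n * p := by rw [h1]; exact dvd_mul_right p _
      have h4 : p ∣ e * (∑ θ ∈ D.Y, c θ) := (Nat.dvd_add_left (dvd_mul_left p n)).1 h3
      exact hcop.dvd_of_dvd_mul_left h4
    have hCY0 : ∑ θ ∈ D.Y, c θ = 0 := by
      apply Nat.eq_zero_of_dvd_of_lt hpCY
      rw [hYcm] at hE4
      have h1 : (∑ θ ∈ D.Y, c θ) * a0 < t * a0 := by omega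
      have h2 : ∑ θ ∈ D.Y, c θ < t := lt_of_mul_lt_mul_right h1 (Nat.zero_le a0)
      omega
    have hcY : ∀ θ ∈ D.Y, c θ = 0 := (Finset.sum_eq_zero_iff.1 hCY0)
    have hSZc : ∑ χ ∈ Z, c χ * D.m1 χ = n := by
      rw [hYcm, hCY0, zero_mul] at hE4; omega
    have h7 : t * (a0 + 1) ≤ t * e := Nat.mul_le_mul_left t (by omega)
    have h8 : t * (a0 + 1) = t * a0 + t := by ring
    have h9 : t * e = e * t := mul_comm t e
    refine ⟨hfinal hcY hSZ2 hSZc, by omega, ?_, ?_⟩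
    · rcases Nat.lt_or_ge t 2 with ht2 | ht2
      · have ht' : t = 1 := by omega
        rw [ht', one_mul] at hna
        rw [ht', mul_one] at hpe
        omega
      · have : 2 * 2 ≤ e * t := Nat.mul_le_mul he2 ht2
        omega
    · intro hdvd
      have hdvd' : t * a0 ∣ t * e := by
        have : p - 1 = t * e := by rw [mul_comm]; omega
        rw [this, hna] at hdvd; exact hdvd
      have h10 : a0 ∣ e := Nat.dvd_of_mul_dvd_mul_left ht1 hdvd'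
      have h11 : a0 ∣ Xp.card * (n + 1) + a0 := by
        rw [hna]
        exact dvd_add (Dvd.dvd.mul_left (dvd_mul_left a0 t) _) dvd_rfl
      have h12 : a0 ∣ 1 := by
        rw [← hkey] at h10
        exact (Nat.dvd_add_right h11).1 h10
      have h13 : a0 = 1 := Nat.dvd_one.1 h12
      rw [h13, mul_one] at hna
      have h14 : 2 * (n + 1) ≤ e * t := Nat.mul_le_mul he2 (by omega)
      omega

end Cfsg.Agent.Lib.Helper59_BF_RANK
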