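import Mathlib
import Cfsg.Prelude.Def_OddOrderLocal
import Cfsg.Agent.S1410
import Cfsg.Agent.S1411
import Cfsg.Agent.S1412
import Cfsg.Agent.S1453
import Cfsg.Agent.Lib.Helper73_PLen
import Cfsg.Agent.Lib.Helper22_BGTrans
import Cfsg.Agent.Lib.Helper2_Narrow
import Cfsg.Agent.Lib.Helper10_Thompson
import Cfsg.Agent.Lib.Helper70_KeySig
import Cfsg.Agent.Lib.Helper76_BG13a

/-!
# The core of Bender-Glauberman 13.12 (`tau12_regular`), "Lemma B" (helper59)

`G` a minimal simple group of odd order, `p ≠ q` primes, `A` a maximal elementary abelian `p`-subgroup of order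
`p²`, `X ≤ A` of order `p`, `Y` of order `q` normalizing `A` with `C_A(Y) = X`.  If `N_G(X) = C_G(X)`, every
`p`-subgroup of `C_G(X)` containing `A` is abelian with all its elements of order `p` in `A`, and `q` does not
divide `|C_G(A)|`, then the Sylow `p`-subgroups of `G` are abelian (`lemmaB`, stated as a contradiction).

Proof: `p`-length one (S1410) gives a `Y`-invariant Sylow `p`-subgroup `S ≥ A`; take a complement `V ≥ Y` of `S`
in `N_G(S)`; `S` is narrow, so `V'` centralizes `S` (B-G 5.5), hence `V` normalizes `C_S(Y)`, whose elements of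
order `p` form `X`; so `V ≤ N_G(X) = C_G(X)`.  By S1411 `S = [S,V]`, so by averaging `X ≤ S'`; but `S' ≤ Z(S)`
(rank two, S1412) or `S' ≤ C_S(Ω₁(Z₂(S)))` (rank three, S1453), and `X` lies in neither.
-/

set_option autoImplicit false
set_option linter.unusedSectionVars false

namespace Cfsg.Agent.Lib.Helper59_BG137

open Subgroup Cfsg
open scoped commutatorElement

universe u

section General

variable {G : Type u} [Group G]

/-- coprime action by averaging: if `S = [S,V]` with `(|S|,|V|) = 1` then every element of `S` centralized by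
`V` lies in the derived group of `S`. -/
theorem mem_commutator_of_fixed {S V : Subgroup G} [Finite S] [Finite V]
    (hVS : V ≤ normalizer (S : Set G))
    (hcop : (Nat.card S).Coprime (Nat.card V)) (hSV : S ≤ ⁅S, V⁆) {x : G} (hxS : x ∈ S)
    (hxV : ∀ v ∈ V, v * x = x * v) : x ∈ ⁅S, S⁆ := by
  classical
  have := Fintype.ofFinite ↥V
  -- conjugation by `v ∈ V` on `S`
  have hconj : ∀ (v : ↥V) (s : ↥S), (v : G) * s * (v : G)⁻¹ ∈ S := fun v s =>
    (mem_normalizer_iff.mp (hVS v.2) s).mp s.2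
  let c : ↥V → ↥S → ↥S := fun v s => ⟨(v : G) * s * (v : G)⁻¹, hconj v s⟩
  have hc_mul : ∀ v s t, c v (s * t) = c v s * c v t := by
    intro v s t
    apply Subtype.ext
    simp only [c, Subgroup.coe_mul]
    group
  have hc_comp : ∀ v w s, c v (c w s) = c (v * w) s := by
    intro v w s
    apply Subtype.ext
    simp only [c, Subgroup.coe_mul]
    group
  let θ : ↥S →* Abelianization ↥S := MonoidHom.mk' (fun s => ∏ v : ↥V, Abelianization.of (c v s))
    (by
      intro s t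
      simp only [hc_mul, map_mul]
      exact Finset.prod_mul_distrib)
  have hθ : ∀ s, θ s = ∏ v : ↥V, Abelianization.of (c v s) := fun s => rfl
  have hθc : ∀ w s, θ (c w s) = θ s := by
    intro w s
    rw [hθ, hθ]
    simp only [hc_comp]
    exact Fintype.prod_equiv (Equiv.mulRight w) _ _ (fun v => rfl)
  -- `θ` kills `[S,V]`
  have hker : ⁅S, V⁆ ≤ θ.ker.map S.subtype := by
    rw [Subgroup.commutator_le]
    intro s hs v hv
    have h1 : ⁅s, v⁆ = ((⟨s, hs⟩ : ↥S) * c ⟨v, hv⟩ (⟨s, hs⟩⁻¹ : ↥S) : ↥S) := by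
      simp only [c, Subgroup.coe_mul, Subgroup.coe_inv, commutatorElement_def]
      group
    rw [h1]
    refine ⟨(⟨s, hs⟩ : ↥S) * c ⟨v, hv⟩ (⟨s, hs⟩⁻¹ : ↥S), ?_, rfl⟩
    show _ ∈ θ.ker
    rw [MonoidHom.mem_ker, map_mul, hθc, map_inv, mul_inv_cancel]
  have hx1 : θ ⟨x, hxS⟩ = 1 := by
    obtain ⟨y, hy, hyx⟩ := hker (hSV hxS)
    have : y = ⟨x, hxS⟩ := Subtype.ext hyx
    rw [← this]; exact hy
  have hx2 : θ ⟨x, hxS⟩ = (Abelianization.of (⟨x, hxS⟩ : ↥S)) ^ Nat.card V := by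
    rw [hθ]
    have : ∀ v : ↥V, c v ⟨x, hxS⟩ = ⟨x, hxS⟩ := by
      intro v
      apply Subtype.ext
      simp only [c]
      rw [hxV v v.2]; group
    simp only [this]
    rw [Finset.prod_const, Finset.card_univ, Nat.card_eq_fintype_card]
  have hx3 : (Abelianization.of (⟨x, hxS⟩ : ↥S)) ^ Nat.card S = 1 := by
    rw [← map_pow, pow_card_eq_one', map_one]
  have hx4 : Abelianization.of (⟨x, hxS⟩ : ↥S) = 1 := by
    rw [← orderOf_eq_one_iff]
    apply Nat.eq_one_of_dvd_coprimes hcop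
    · exact orderOf_dvd_of_pow_eq_one hx3
    · exact orderOf_dvd_of_pow_eq_one (by rw [← hx2, hx1])
  have hx5 : (⟨x, hxS⟩ : ↥S) ∈ commutator ↥S := by
    rw [← Abelianization.ker_of]; exact hx4
  have := Subgroup.mem_map_of_mem S.subtype hx5
  rw [Subgroup.map_subtype_commutator] at this
  exact this

/-- a subgroup of prime order is generated by any of its nontrivial elements -/
theorem le_zpowers_of_prime_card {p : ℕ} [Fact p.Prime] {X : Subgroup G} (hX : Nat.card X = p) {z : G}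
    (hz : z ∈ X) (hz1 : z ≠ 1) : X ≤ zpowers z := by
  have hp : p.Prime := Fact.out
  have : Finite ↥X := Nat.finite_of_card_ne_zero (by rw [hX]; exact hp.ne_zero)
  have hle : zpowers z ≤ X := (Subgroup.zpowers_le).mpr hz
  have h1 : orderOf z ∣ p := by
    rw [← hX]; exact Subgroup.orderOf_dvd_natCard X hz
  have h2 : orderOf z = p := by
    rcases (Nat.dvd_prime hp).mp h1 with h | h
    · exact absurd (orderOf_eq_one_iff.mp h) hz1
    · exact h
  have h3 : Nat.card (zpowers z) = p := by rw [Nat.card_zpowers, h2]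
  exact (Subgroup.eq_of_le_of_card_ge hle (by rw [h3, hX])).ge

/-- groups of order `p³` have class at most two -/
theorem commutator_le_center_of_card_cube {p : ℕ} [Fact p.Prime] {P : Type*} [Group P]
    (hcard : Nat.card P = p ^ 3) : commutator P ≤ center P := by
  have hp : p.Prime := Fact.out
  have : Finite P := Nat.finite_of_card_ne_zero (by rw [hcard]; exact pow_ne_zero _ hp.ne_zero)
  obtain ⟨k, hk0, hk⟩ := IsPGroup.card_center_eq_prime_pow hcard (by norm_num)
  have hmul := (center P).card_mul_index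
  rw [hk, hcard] at hmul
  have hk3 : k ≤ 3 := by
    have h1 : p ^ k ∣ p ^ 3 := Dvd.intro _ hmul
    exact (Nat.pow_dvd_pow_iff_le_right hp.one_lt).mp h1
  have hidx : (center P).index = p ^ (3 - k) := by
    have h2 : p ^ k * p ^ (3 - k) = p ^ 3 := by rw [← pow_add]; congr 1; omega
    exact Nat.eq_of_mul_eq_mul_left (pow_pos hp.pos k) (by rw [hmul, h2])
  have hQ : Nat.card (P ⧸ center P) = p ^ (3 - k) := hidx
  apply Subgroup.Normal.quotient_commutative_iff_commutator_le.mp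
  have hcases : 3 - k = 0 ∨ 3 - k = 1 ∨ 3 - k = 2 := by omega
  rcases hcases with h | h | h
  · rw [h, pow_zero] at hQ
    have hsub : Subsingleton (P ⧸ center P) := (Nat.card_eq_one_iff_unique.mp hQ).1
    exact ⟨⟨fun a b => Subsingleton.elim _ _⟩⟩
  · rw [h, pow_one] at hQ
    have := isCyclic_of_prime_card hQ
    exact IsCyclic.isMulCommutative
  · rw [h] at hQ
    exact IsPGroup.isMulCommutative_of_card_eq_prime_sq hQ

/-- the derived group of a central product `P₁ ∘ P₂`, `|P₁| = p³`, `P₂` abelian, is central -/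
theorem commutator_le_centralizer_of_central_product {p : ℕ} [Fact p.Prime] {S P₁ P₂ : Subgroup G}
    (hS : P₁ ⊔ P₂ = S) (hc : ∀ a ∈ P₁, ∀ b ∈ P₂, a * b = b * a)
    (hP₂ : ∀ a ∈ P₂, ∀ b ∈ P₂, a * b = b * a)
    (hcard : Nat.card P₁ = p ^ 3) : ⁅S, S⁆ ≤ centralizer (S : Set G) := by
  have hdec : ∀ s ∈ S, ∃ a ∈ P₁, ∃ b ∈ P₂, s = a * b := by
    intro s hs
    rw [← hS] at hs
    exact Cfsg.Agent.Lib.Helper2_Narrow.exists_mul_of_mem_sup' hc hs
  -- `P₂` is central in `S`
  have hP₂S : ∀ b ∈ P₂, ∀ s ∈ S, b * s = s * b := by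
    intro b hb s hs
    obtain ⟨a, ha, b', hb', rfl⟩ := hdec s hs
    calc b * (a * b') = (b * a) * b' := by group
      _ = (a * b) * b' := by rw [hc a ha b hb]
      _ = a * (b * b') := by group
      _ = a * (b' * b) := by rw [hP₂ b hb b' hb']
      _ = a * b' * b := by group
  have hP₁S : P₁ ≤ S := hS ▸ le_sup_left
  have hP₂S' : P₂ ≤ S := hS ▸ le_sup_right
  -- class two in `P₁`
  have hcl := commutator_le_center_of_card_cube (P := ↥P₁) hcard
  have hcl' : ∀ a ∈ P₁, ∀ a' ∈ P₁, ∀ c ∈ P₁, ⁅a, a'⁆ * c = c * ⁅a, a'⁆ := by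
    intro a ha a' ha' c hc'
    have h1 : ⁅(⟨a, ha⟩ : ↥P₁), ⟨a', ha'⟩⁆ ∈ commutator ↥P₁ :=
      Subgroup.commutator_mem_commutator (Subgroup.mem_top _) (Subgroup.mem_top _)
    have h2 := Subgroup.mem_center_iff.mp (hcl h1) ⟨c, hc'⟩
    have h3 := congrArg (fun t : ↥P₁ => (t : G)) h2
    have h4 : ((⁅(⟨a, ha⟩ : ↥P₁), ⟨a', ha'⟩⁆ : ↥P₁) : G) = ⁅a, a'⁆ := by
      simp [commutatorElement_def]
    simp only [Subgroup.coe_mul, h4] at h3
    exact h3.symm
  rw [Subgroup.commutator_le]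
  intro g hg h hh
  obtain ⟨a, ha, b, hb, rfl⟩ := hdec g hg
  obtain ⟨a', ha', b', hb', rfl⟩ := hdec h hh
  have e1 : ⁅a * b, a' * b'⁆ = ⁅a, a'⁆ := by
    have hb1 : b * (a' * b') = (a' * b') * b := hP₂S b hb _ hh
    have hb2 : b' * a = a * b' := hP₂S b' hb' a (hP₁S ha)
    have hb3 : b' * a⁻¹ = a⁻¹ * b' := hP₂S b' hb' a⁻¹ (hP₁S (P₁.inv_mem ha))
    calc ⁅a * b, a' * b'⁆ = a * (b * (a' * b')) * b⁻¹ * a⁻¹ * b'⁻¹ * a'⁻¹ := by
          rw [commutatorElement_def]; group
      _ = a * ((a' * b') * b) * b⁻¹ * a⁻¹ * b'⁻¹ * a'⁻¹ := by rw [hb1]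
      _ = a * a' * (b' * a⁻¹) * b'⁻¹ * a'⁻¹ := by group
      _ = a * a' * (a⁻¹ * b') * b'⁻¹ * a'⁻¹ := by rw [hb3]
      _ = ⁅a, a'⁆ := by rw [commutatorElement_def]; group
  rw [e1, mem_centralizer_iff]
  intro s hs
  obtain ⟨c, hc', d, hd, rfl⟩ := hdec s hs
  have hmem : ⁅a, a'⁆ ∈ P₁ := by
    rw [commutatorElement_def]
    exact P₁.mul_mem (P₁.mul_mem (P₁.mul_mem ha ha') (P₁.inv_mem ha)) (P₁.inv_mem ha')
  have h1 := hcl' a ha a' ha' c hc'
  have h2 := hc _ hmem d hd
  calc c * d * ⁅a, a'⁆ = c * (d * ⁅a, a'⁆) := by group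
    _ = c * (⁅a, a'⁆ * d) := by rw [h2]
    _ = (c * ⁅a, a'⁆) * d := by group
    _ = (⁅a, a'⁆ * c) * d := by rw [h1]
    _ = ⁅a, a'⁆ * (c * d) := by group

end General

section Main

variable {G : Type u} [Group G] [Finite G]

/-- Step 1 of Lemma B: a `q`-subgroup `Y` normalizing a nontrivial `p`-subgroup `A` with `q ∤ |C_G(A)|`
normalizes a Sylow `p`-subgroup of `G` containing `A` (uses `p`-length one of proper subgroups). -/
theorem exists_invariant_sylow_ge (hG : IsMinSimpleOddOrder G)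
    {p q : ℕ} [Fact p.Prime] [Fact q.Prime] {A Y : Subgroup G} (hA : IsPGroup p A) (hA1 : A ≠ ⊥)
    (hY : IsPGroup q Y) (hYA : Y ≤ normalizer (A : Set G))
    (hB3 : ¬ q ∣ Nat.card (centralizer (A : Set G))) :
    ∃ S : Sylow p G, A ≤ (S : Subgroup G) ∧ Y ≤ normalizer ((S : Subgroup G) : Set G) := by
  classical
  have hp : p.Prime := Fact.out
  have hq : q.Prime := Fact.out
  let 𝒴 : Set (Subgroup G) := {P | IsPGroup p P ∧ A ≤ P ∧ Y ≤ normalizer (P : Set G)}
  have hne : 𝒴.Nonempty := ⟨A, hA, le_rfl, hYA⟩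
  obtain ⟨P, hP𝒴, hPmax⟩ := Set.Finite.exists_maximalFor (fun P : Subgroup G => Nat.card P) 𝒴
    (Set.toFinite 𝒴) hne
  obtain ⟨hPp, hAP, hYP⟩ := hP𝒴
  have hP1 : P ≠ ⊥ := fun h => hA1 (le_bot_iff.mp (h ▸ hAP))
  have hPtop : P ≠ ⊤ := Cfsg.Agent.Lib.Helper22_BGTrans.ne_top_of_isPGroup hG hp hPp
  set N : Subgroup G := normalizer (P : Set G) with hN
  have hNtop : N ≠ ⊤ := Cfsg.Agent.Lib.Helper22_BGTrans.normalizer_ne_top hG hP1 hPtop
  have hPN : P ≤ N := le_normalizer
  have hpl : PLengthLE p 1 ↥N := Cfsg.Agent.S1410.result hG p N hNtop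
  obtain ⟨K, hKn, hKp, hKdec⟩ := Cfsg.Agent.Lib.Helper73_PLen.exists_decomp' hpl
  -- `P` as a normal subgroup of `N`
  have hPn : (P.subgroupOf N).Normal := Subgroup.normal_in_normalizer
  have hPp' : IsPGroup p (P.subgroupOf N) := hPp.comap_subtype
  -- `K` and `P` commute
  have hdisj : Disjoint K (P.subgroupOf N) := by
    apply Subgroup.disjoint_of_coprime_natCard
    obtain ⟨b, hb⟩ := IsPGroup.iff_card.mp hPp'
    rw [hb]
    exact Nat.Coprime.pow_right b hKp
  have hKcent : K.map N.subtype ≤ centralizer (A : Set G) := by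
    rintro _ ⟨k, hk, rfl⟩
    rw [mem_centralizer_iff]
    intro a ha
    have haN : a ∈ N := hPN (hAP ha)
    have hc := Subgroup.commute_of_normal_of_disjoint K (P.subgroupOf N) hKn hPn hdisj k ⟨a, haN⟩ hk
      (by rw [Subgroup.mem_subgroupOf]; exact hAP ha)
    have h2 := congrArg (fun t : ↥N => (t : G)) hc.eq
    simpa using h2.symm
  have hKq : ¬ q ∣ Nat.card K := by
    intro hd
    apply hB3
    have h1 : Nat.card (K.map N.subtype) = Nat.card K :=
      Subgroup.card_map_of_injective (Subgroup.subtype_injective _)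
    rw [← h1] at hd
    exact hd.trans (Subgroup.card_dvd_of_le hKcent)
  -- the number of Sylow `p`-subgroups of `N` divides `|K|`
  obtain ⟨P0⟩ : Nonempty (Sylow p ↥N) := inferInstance
  have horb : ∀ P2 : Sylow p ↥N, ∃ k : ↥K, k • P0 = P2 := by
    intro P2
    obtain ⟨m, hm⟩ := MulAction.exists_smul_eq ↥N P0 P2
    obtain ⟨n, hn, k, hk, hmk⟩ := hKdec P0 m⁻¹
    refine ⟨⟨k⁻¹, K.inv_mem hk⟩, ?_⟩
    have h1 : m = k⁻¹ * n⁻¹ := by
      rw [← mul_inv_rev, ← hmk, inv_inv]
    have h2 : n⁻¹ • P0 = P0 := Sylow.smul_eq_iff_mem_normalizer.mpr (Subgroup.inv_mem _ hn)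
    show (k⁻¹ : ↥N) • P0 = P2
    rw [← hm, h1, mul_smul, h2]
  have hcardS : Nat.card (Sylow p ↥N) ∣ Nat.card K := by
    have : MulAction.IsPretransitive ↥K (Sylow p ↥N) := by
      refine ⟨fun P1 P2 => ?_⟩
      obtain ⟨k1, hk1⟩ := horb P1
      obtain ⟨k2, hk2⟩ := horb P2
      refine ⟨k2 * k1⁻¹, ?_⟩
      rw [mul_smul, ← hk1, inv_smul_smul, hk2]
    rw [← MulAction.index_stabilizer_of_transitive ↥K P0]
    exact Subgroup.index_dvd_card _
  have hqS : ¬ q ∣ Nat.card (Sylow p ↥N) := fun h => hKq (h.trans hcardS)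
  -- a `Y`-fixed Sylow subgroup of `N`
  have hYq' : IsPGroup q (Y.subgroupOf N) := hY.comap_subtype
  have hmod := hYq'.card_modEq_card_fixedPoints (Sylow p ↥N)
  have hfix : (MulAction.fixedPoints ↥(Y.subgroupOf N) (Sylow p ↥N)).Nonempty := by
    by_contra hemp
    rw [Set.not_nonempty_iff_eq_empty] at hemp
    rw [hemp] at hmod
    apply hqS
    have h0 : Nat.card (∅ : Set (Sylow p ↥N)) = 0 := by simp
    rw [h0] at hmod
    exact (Nat.modEq_zero_iff_dvd).mp hmod
  obtain ⟨P1, hP1fix⟩ := hfix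
  rw [Subgroup.sylow_mem_fixedPoints_iff] at hP1fix
  -- `P ≤ P1`
  have := hPn
  have hPP1 : P.subgroupOf N ≤ (P1 : Subgroup ↥N) := hPp'.le_sylow_of_normal P1
  set P1G : Subgroup G := (P1 : Subgroup ↥N).map N.subtype with hP1G
  have hP1Gp : IsPGroup p P1G := P1.isPGroup'.map _
  have hPP1G : P ≤ P1G := by
    intro x hx
    exact ⟨⟨x, hPN hx⟩, hPP1 (by rw [Subgroup.mem_subgroupOf]; exact hx), rfl⟩
  have hYP1G : Y ≤ normalizer (P1G : Set G) := by
    intro y hy
    have hyN : y ∈ N := hYP hy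
    have h1 : (⟨y, hyN⟩ : ↥N) ∈ normalizer ((P1 : Subgroup ↥N) : Set ↥N) :=
      hP1fix (by rw [Subgroup.mem_subgroupOf]; exact hy)
    have h2 := Subgroup.le_normalizer_map N.subtype (Subgroup.mem_map_of_mem N.subtype h1)
    exact h2
  have hcard : Nat.card P1G ≤ Nat.card P := hPmax ⟨hP1Gp, hAP.trans hPP1G, hYP1G⟩
    (Subgroup.card_le_of_le hPP1G)
  have hPeq : P = P1G := Subgroup.eq_of_le_of_card_ge hPP1G hcard
  -- `P` is a Sylow subgroup of `G`
  obtain ⟨S, hPS⟩ := hPp.exists_le_sylow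
  have hSP : (S : Subgroup G) ≤ P := by
    by_contra hne
    apply Cfsg.Agent.Lib.Helper22_BGTrans.normalizer_growth hp S.isPGroup' hPS hne
    intro x hx
    have hxN : x ∈ N := hx.1
    have hQp : IsPGroup p ((N ⊓ (S : Subgroup G)).subgroupOf N) :=
      (S.isPGroup'.to_le inf_le_right).comap_subtype
    have hle : (P1 : Subgroup ↥N) ≤ (N ⊓ (S : Subgroup G)).subgroupOf N := by
      intro z hz
      rw [Subgroup.mem_subgroupOf]
      have hzP : (z : G) ∈ P := by
        rw [hPeq]; exact ⟨z, hz, rfl⟩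
      exact ⟨z.2, hPS hzP⟩
    have heq := P1.is_maximal' hQp hle
    have hx' : (⟨x, hxN⟩ : ↥N) ∈ (P1 : Subgroup ↥N) := by
      rw [← heq, Subgroup.mem_subgroupOf]; exact hx
    rw [hPeq]
    exact ⟨⟨x, hxN⟩, hx', rfl⟩
  have hSeq : (S : Subgroup G) = P := le_antisymm hSP hPS
  exact ⟨S, by rw [hSeq]; exact hAP, by rw [hSeq]; exact hYP⟩

/-- **Lemma B** (core of B-G 13.12). -/
theorem lemmaB (hG : Cfsg.IsMinSimpleOddOrder G) {p q : ℕ} [Fact p.Prime] [Fact q.Prime]
    (hpq : p ≠ q) {A X Y : Subgroup G}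
    (hA : Cfsg.IsElementaryAbelian p A) (hAcard : Nat.card A = p ^ 2)
    (hAmax : ∀ D : Subgroup G, Cfsg.IsElementaryAbelian p D → A ≤ D → D = A)
    (hXA : X ≤ A) (hXcard : Nat.card X = p) (hY : Nat.card Y = q)
    (hYA : Y ≤ normalizer (A : Set G)) (hCA : A ⊓ centralizer (Y : Set G) = X)
    (hB1 : normalizer (X : Set G) ≤ centralizer (X : Set G))
    (hB2 : ∀ P : Subgroup G, IsPGroup p P → A ≤ P → P ≤ centralizer (X : Set G) →
      (∀ a ∈ P, ∀ b ∈ P, a * b = b * a) ∧ ∀ z ∈ P, z ^ p = 1 → z ∈ A)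
    (hB3 : ¬ q ∣ Nat.card (centralizer (A : Set G)))
    (hB4 : ∀ S : Sylow p G, ¬ IsMulCommutative (S : Subgroup G)) : False := by
  classical
  have hp : p.Prime := Fact.out
  have hq : q.Prime := Fact.out
  have hodd : Odd (Nat.card G) := hG.1
  have hAp : IsPGroup p A := Cfsg.Agent.Lib.Helper10_Thompson.ea_isPGroup hA
  have hA1 : A ≠ ⊥ := by
    intro h
    rw [h, Subgroup.card_bot] at hAcard
    have : 1 < p ^ 2 := Nat.one_lt_pow (by norm_num) hp.one_lt
    omega
  have hp2 : p ≠ 2 := by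
    intro h2
    have h1 : p ∣ Nat.card G := by
      have : Nat.card A ∣ Nat.card G := Subgroup.card_subgroup_dvd_card A
      rw [hAcard] at this
      exact (dvd_pow_self p two_ne_zero).trans this
    rw [h2] at h1
    exact (Nat.not_even_iff_odd.mpr hodd) (even_iff_two_dvd.mpr h1)
  have hYq : IsPGroup q Y := IsPGroup.of_card (n := 1) (by rw [hY, pow_one])
  obtain ⟨S, hAS, hYS⟩ := exists_invariant_sylow_ge hG hAp hA1 hYq hYA hB3
  have hSp : IsPGroup p (S : Subgroup G) := S.isPGroup'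
  have hXS : X ≤ (S : Subgroup G) := hXA.trans hAS
  -- `X` is not central in `S`
  have hXZ : ¬ X ≤ centralizer ((S : Subgroup G) : Set G) := by
    intro h
    have h1 : (S : Subgroup G) ≤ centralizer (X : Set G) := Subgroup.le_centralizer_iff.mp h
    obtain ⟨hc, -⟩ := hB2 S hSp hAS h1
    exact hB4 S ⟨⟨fun a b => Subtype.ext (hc a a.2 b b.2)⟩⟩
  have hAX : A ≤ centralizer (X : Set G) := by
    intro a ha
    rw [mem_centralizer_iff]
    intro t ht
    exact Cfsg.Agent.Lib.Helper10_Thompson.ea_comm hA (hXA ht) ha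
  -- elements of order `p` of `C_S(X)` lie in `A`
  have h2b : ∀ z ∈ (S : Subgroup G), z ^ p = 1 → (∀ t ∈ X, t * z = z * t) → z ∈ A := by
    intro z hz hzp hzX
    have hP : IsPGroup p ((S : Subgroup G) ⊓ centralizer (X : Set G) : Subgroup G) :=
      hSp.to_le inf_le_left
    obtain ⟨-, h⟩ := hB2 _ hP (le_inf hAS hAX) inf_le_right
    exact h z (Subgroup.mem_inf.mpr ⟨hz, mem_centralizer_iff.mpr hzX⟩) hzp
  -- `C = C_S(Y)`
  set C : Subgroup G := (S : Subgroup G) ⊓ centralizer (Y : Set G) with hC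
  have hXC : X ≤ C := by
    intro t ht
    have : t ∈ A ⊓ centralizer (Y : Set G) := by rw [hCA]; exact ht
    exact Subgroup.mem_inf.mpr ⟨hXS ht, (Subgroup.mem_inf.mp this).2⟩
  have hCp : IsPGroup p C := hSp.to_le inf_le_left
  have hX1 : X ≠ ⊥ := by
    intro h
    rw [h, Subgroup.card_bot] at hXcard
    exact hp.one_lt.ne hXcard
  have hCnt : Nontrivial ↥C := by
    rw [Subgroup.nontrivial_iff_ne_bot]
    intro h
    exact hX1 (le_bot_iff.mp (h ▸ hXC))
  have hZnt : Nontrivial ↥(center ↥C) := hCp.center_nontrivial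
  have hZp : IsPGroup p ↥(center ↥C) := hCp.to_subgroup _
  obtain ⟨n, hn0, hn⟩ := (hZp.nontrivial_iff_card).mp hZnt
  have hpd : p ∣ Nat.card ↥(center ↥C) := by rw [hn]; exact dvd_pow_self p hn0.ne'
  obtain ⟨z1, hz1⟩ := exists_prime_orderOf_dvd_card' p hpd
  have hz1c : ∀ c ∈ C, c * ((z1 : ↥C) : G) = ((z1 : ↥C) : G) * c := by
    intro c hc
    have := Subgroup.mem_center_iff.mp z1.2 ⟨c, hc⟩
    exact congrArg Subtype.val this
  have hz1G : ((z1 : ↥C) : G) ∈ X := by
    have hzS : ((z1 : ↥C) : G) ∈ (S : Subgroup G) := (Subgroup.mem_inf.mp (z1 : ↥C).2).1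
    have hzY : ((z1 : ↥C) : G) ∈ centralizer (Y : Set G) := (Subgroup.mem_inf.mp (z1 : ↥C).2).2
    have hzp : ((z1 : ↥C) : G) ^ p = 1 := by
      have h1 := pow_orderOf_eq_one z1
      rw [hz1] at h1
      have h2 := congrArg (fun t : ↥(center ↥C) => ((t : ↥C) : G)) h1
      simpa using h2
    have hzA := h2b _ hzS hzp (fun t ht => hz1c t (hXC ht))
    rw [← hCA]; exact Subgroup.mem_inf.mpr ⟨hzA, hzY⟩
  have hz1ne : ((z1 : ↥C) : G) ≠ 1 := by
    intro h
    have h1 : z1 = 1 := by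
      apply Subtype.ext; apply Subtype.ext; simpa using h
    rw [h1, orderOf_one] at hz1
    exact hp.one_lt.ne hz1
  have hXz := le_zpowers_of_prime_card hXcard hz1G hz1ne
  have hXcentC : ∀ t ∈ X, ∀ c ∈ C, t * c = c * t := by
    intro t ht c hc
    obtain ⟨k, rfl⟩ := Subgroup.mem_zpowers_iff.mp (hXz ht)
    have h0 : Commute ((z1 : ↥C) : G) c := (hz1c c hc).symm
    exact (h0.zpow_left k).eq
  have hΩ : ∀ z ∈ C, z ^ p = 1 → z ∈ X := by
    intro z hz hzp
    have hz' := Subgroup.mem_inf.mp hz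
    have hzA := h2b z hz'.1 hzp (fun t ht => hXcentC t ht z hz)
    rw [← hCA]; exact Subgroup.mem_inf.mpr ⟨hzA, hz'.2⟩
  -- the complement `V`
  set N : Subgroup G := normalizer ((S : Subgroup G) : Set G) with hN
  have hS1 : (S : Subgroup G) ≠ ⊥ := fun h => hA1 (le_bot_iff.mp (h ▸ hAS))
  have hStop : (S : Subgroup G) ≠ ⊤ := Cfsg.Agent.Lib.Helper22_BGTrans.ne_top_of_isPGroup hG hp hSp
  have hNtop : N ≠ ⊤ := Cfsg.Agent.Lib.Helper22_BGTrans.normalizer_ne_top hG hS1 hStop
  have hsolv : Group.IsSolvable ↥N := hG.2.2.2 N hNtop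
  have hSN : (S : Subgroup G) ≤ N := le_normalizer
  have hSidx : ¬ p ∣ (S : Subgroup G).relIndex N := fun hd =>
    S.not_dvd_index (hd.trans (Subgroup.relIndex_dvd_index_of_le hSN))
  have hHall : IsPiHallOf {p} (S : Subgroup G) N := by
    refine ⟨hSN, ?_, ?_⟩
    · intro r hr hrd
      obtain ⟨k, hk⟩ := IsPGroup.iff_card.mp hSp
      rw [hk] at hrd
      exact (Nat.prime_dvd_prime_iff_eq hr hp).mp (hr.dvd_of_dvd_pow hrd)
    · intro r hr hrp hrd
      rw [Set.mem_singleton_iff] at hrp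
      subst hrp
      exact hSidx hrd
  have hYN : Y ≤ N := hYS
  have hYpi : ∀ r : ℕ, r.Prime → r ∣ Nat.card Y → r ∉ ({p} : Set ℕ) := by
    intro r hr hrd hrp
    rw [Set.mem_singleton_iff] at hrp
    rw [hY] at hrd
    have := (Nat.prime_dvd_prime_iff_eq hr hq).mp hrd
    exact hpq (hrp.symm.trans this)
  obtain ⟨V, hVc, hYV⟩ := Cfsg.Agent.Lib.Helper76_BG13a.exists_compl_ge hsolv hHall hYN hYpi
  have hVN : V ≤ N := hVc.1
  have hVc' : IsComplIn (S : Subgroup G) V N := by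
    obtain ⟨h1, h2, h3, h4⟩ := hVc
    refine ⟨h2, h1, by rw [inf_comm]; exact h3, ?_⟩
    intro m hm
    obtain ⟨a, ha, b, hb, hab⟩ := h4 m⁻¹ (N.inv_mem hm)
    refine ⟨b⁻¹, (S : Subgroup G).inv_mem hb, a⁻¹, V.inv_mem ha, ?_⟩
    rw [← mul_inv_rev, ← hab, inv_inv]
  have hcardV : Nat.card V * Nat.card (S : Subgroup G) = Nat.card N :=
    Cfsg.Agent.Lib.Helper76_BG13a.card_mul_of_isComplIn hVc
  have hVp : ¬ p ∣ Nat.card V := by
    intro hd
    have h1 := Cfsg.Agent.Lib.Helper76_BG13a.relIndex_mul_card' hSN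
    have h2 : Nat.card V = (S : Subgroup G).relIndex N :=
      Nat.eq_of_mul_eq_mul_right Nat.card_pos (hcardV.trans h1.symm)
    rw [h2] at hd
    exact hSidx hd
  have hVcop : (Nat.card V).Coprime p := ((Nat.Prime.coprime_iff_not_dvd hp).mpr hVp).symm
  have hcop : (Nat.card (S : Subgroup G)).Coprime (Nat.card V) := by
    obtain ⟨k, hk⟩ := IsPGroup.iff_card.mp hSp
    rw [hk]
    exact Nat.Coprime.pow_left k hVcop.symm
  -- `S` is narrow, so `[V,Y]` centralizes `S`
  have hSn : IsNarrow p ↥(S : Subgroup G) :=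
    Cfsg.Agent.Lib.Helper70_KeySig.isNarrow_of_maxEA_le hp2 (S : Subgroup G) hSp A hAS hA hAcard hAmax
  have hcomm : ∀ v ∈ V, ∀ y ∈ Y, ⁅v, y⁆ ∈ centralizer ((S : Subgroup G) : Set G) := by
    intro v hv y hy
    apply Cfsg.Agent.Lib.Helper70_KeySig.mem_centralizer_of_mem_commutator_normalizer hp2 hodd
      (S : Subgroup G) hSp hSn
    · exact Subgroup.commutator_mem_commutator (hVN hv) (hYN hy)
    · have hmem : ⁅v, y⁆ ∈ V := by
        rw [commutatorElement_def]
        exact V.mul_mem (V.mul_mem (V.mul_mem hv (hYV hy)) (V.inv_mem hv)) (V.inv_mem (hYV hy))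
      have h1 : orderOf ⁅v, y⁆ ∣ Nat.card V := Subgroup.orderOf_dvd_natCard V hmem
      exact Nat.Coprime.coprime_dvd_left h1 hVcop
  -- `V` normalizes `C`
  have hVC : ∀ v ∈ V, ∀ c ∈ C, v * c * v⁻¹ ∈ C := by
    intro v hv c hc
    have hc := Subgroup.mem_inf.mp hc
    refine Subgroup.mem_inf.mpr ⟨(mem_normalizer_iff.mp (hVN hv) c).mp hc.1, ?_⟩
    rw [mem_centralizer_iff]
    intro y hy
    have hd := hcomm v⁻¹ (V.inv_mem hv) y hy
    set d : G := ⁅v⁻¹, y⁆ with hd_def
    have hdc : c * d = d * c := (mem_centralizer_iff.mp hd) c hc.1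
    have hyc : y * c = c * y := (mem_centralizer_iff.mp hc.2) y hy
    have e1 : y * v = v * (d * y) := by
      rw [hd_def, commutatorElement_def]; group
    calc y * (v * c * v⁻¹) = (y * v) * c * v⁻¹ := by group
      _ = v * (d * y) * c * v⁻¹ := by rw [e1]
      _ = v * d * (y * c) * v⁻¹ := by group
      _ = v * d * (c * y) * v⁻¹ := by rw [hyc]
      _ = v * (d * c) * y * v⁻¹ := by group
      _ = v * (c * d) * y * v⁻¹ := by rw [hdc]
      _ = v * c * v⁻¹ * (v * (d * y)) * v⁻¹ := by group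
      _ = v * c * v⁻¹ * (y * v) * v⁻¹ := by rw [e1]
      _ = (v * c * v⁻¹) * y := by group
  have hVX : ∀ v ∈ V, ∀ t ∈ X, v * t * v⁻¹ ∈ X := by
    intro v hv t ht
    apply hΩ _ (hVC v hv t (hXC ht))
    have htp : t ^ p = 1 := hA.2 t (hXA ht)
    rw [conj_pow, htp, mul_one, mul_inv_cancel]
  have hVcentX : V ≤ centralizer (X : Set G) := by
    intro v hv
    apply hB1
    rw [mem_normalizer_iff]
    intro t
    constructor
    · exact hVX v hv t
    · intro h
      have h1 := hVX v⁻¹ (V.inv_mem hv) _ h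
      have h2 : v⁻¹ * (v * t * v⁻¹) * v⁻¹⁻¹ = t := by group
      rwa [h2] at h1
  -- `X ≤ S'`
  have h1411 := (Cfsg.Agent.S1411.result hG p S V hVc').1
  have hXder : X ≤ ⁅(S : Subgroup G), (S : Subgroup G)⁆ := by
    intro x hx
    apply mem_commutator_of_fixed hVN hcop h1411.le (hXS hx)
    intro v hv
    exact ((mem_centralizer_iff.mp (hVcentX hv)) x hx).symm
  -- the two cases
  by_cases hr : PRankLE p 2 ↥(S : Subgroup G)
  · rcases Cfsg.Agent.S1412.result hG p S hr with hab | ⟨P₁, P₂, hsup, hcomm12, -, hcard1, -, hcyc, -⟩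
    · exact hB4 S hab
    · have hP₂ : ∀ a ∈ P₂, ∀ b ∈ P₂, a * b = b * a := by
        intro a ha b hb
        have hcm : IsMulCommutative ↥P₂ := IsCyclic.isMulCommutative
        have := hcm.is_comm.comm (⟨a, ha⟩ : ↥P₂) ⟨b, hb⟩
        exact congrArg Subtype.val this
      have h1 := commutator_le_centralizer_of_central_product hsup hcomm12 hP₂ hcard1
      exact hXZ (hXder.trans h1)
  · set E : Subgroup ↥(S : Subgroup G) := A.subgroupOf (S : Subgroup G) with hE
    have hEea : IsElementaryAbelian p E := Cfsg.Agent.Lib.Helper10_Thompson.ea_subgroupOf hA _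
    have hE2 : Nat.card E = p ^ 2 := by
      rw [← hAcard]
      exact Nat.card_congr (Subgroup.subgroupOfEquivOfLe hAS).toEquiv
    have hEmax : ∀ B : Subgroup ↥(S : Subgroup G), IsElementaryAbelian p B → E ≤ B → B = E := by
      intro B hB hEB
      have h1 : IsElementaryAbelian p (B.map (S : Subgroup G).subtype) :=
        Cfsg.Agent.Lib.Helper10_Thompson.ea_map hB _
      have h2 : A ≤ B.map (S : Subgroup G).subtype := by
        intro a ha
        exact ⟨⟨a, hAS ha⟩, hEB (Subgroup.mem_subgroupOf.mpr ha), rfl⟩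
      have h3 := hAmax _ h1 h2
      apply le_antisymm _ hEB
      intro b hb
      rw [hE, Subgroup.mem_subgroupOf, ← h3]
      exact ⟨b, hb, rfl⟩
    obtain ⟨r1, r2, -, r4, r5⟩ := Cfsg.Agent.S1453.result p hp2 hSp hr E hEea hE2 hEmax
    set T : Subgroup ↥(S : Subgroup G) := centralizer ((closure {x : ↥(S : Subgroup G) |
      x ∈ Subgroup.upperCentralSeries ↥(S : Subgroup G) 2 ∧ x ^ p = 1} : Subgroup ↥(S : Subgroup G)) :
        Set ↥(S : Subgroup G)) with hT
    have hTn : T.Normal := by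
      have := r4
      exact Subgroup.normal_of_characteristic T
    have hder : commutator ↥(S : Subgroup G) ≤ T := by
      apply Subgroup.Normal.quotient_commutative_iff_commutator_le.mp
      have hQ : Nat.card (↥(S : Subgroup G) ⧸ T) = p := r5
      have := isCyclic_of_prime_card hQ
      exact IsCyclic.isMulCommutative
    have hXT : ∀ x (hx : x ∈ X), (⟨x, hXS hx⟩ : ↥(S : Subgroup G)) ∈ T := by
      intro x hx
      have h1 := hXder hx
      rw [← Subgroup.map_subtype_commutator] at h1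
      obtain ⟨y, hy, hyx⟩ := h1
      have : y = ⟨x, hXS hx⟩ := Subtype.ext hyx
      rw [← this]; exact hder hy
    obtain ⟨z, hzc, hzp, hz1⟩ : ∃ z : ↥(S : Subgroup G), z ∈ center ↥(S : Subgroup G) ∧ z ^ p = 1 ∧
        z ≠ 1 := by
      by_contra hcon
      have hcon : ∀ x : ↥(S : Subgroup G), x ∈ center ↥(S : Subgroup G) → x ^ p = 1 → x = 1 := by
        intro x h1 h2
        by_contra h3
        exact hcon ⟨x, h1, h2, h3⟩
      have hbot : closure {x : ↥(S : Subgroup G) | x ∈ center ↥(S : Subgroup G) ∧ x ^ p = 1} = ⊥ := by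
        rw [Subgroup.closure_eq_bot_iff]
        intro x hx
        exact Set.mem_singleton_iff.mpr (hcon x hx.1 hx.2)
      rw [hbot, Subgroup.card_bot] at r2
      exact hp.one_lt.ne r2
    have hzT : z ∈ T := Subgroup.center_le_centralizer _ hzc
    have hzcG : ∀ s ∈ (S : Subgroup G), s * (z : G) = (z : G) * s := by
      intro s hs
      have := Subgroup.mem_center_iff.mp hzc ⟨s, hs⟩
      exact congrArg Subtype.val this
    have hzA : (z : G) ∈ A := by
      apply h2b _ z.2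
      · have := congrArg Subtype.val hzp
        simpa using this
      · intro t ht
        exact hzcG t (hXS ht)
    set T' : Subgroup G := T.map (S : Subgroup G).subtype with hT'
    have hXT' : X ≤ A ⊓ T' := fun x hx => Subgroup.mem_inf.mpr ⟨hXA hx, ⟨_, hXT x hx, rfl⟩⟩
    have hzAT : (z : G) ∈ A ⊓ T' := Subgroup.mem_inf.mpr ⟨hzA, ⟨z, hzT, rfl⟩⟩
    have hne : A ⊓ T' ≠ A := by
      intro h
      apply r1
      intro a ha
      rw [hE, Subgroup.mem_subgroupOf] at ha
      have h1 : (a : G) ∈ A ⊓ T' := by rw [h]; exact ha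
      obtain ⟨b, hb, hba⟩ := (Subgroup.mem_inf.mp h1).2
      have : b = a := Subtype.ext hba
      rw [← this]; exact hb
    have hcardAT : Nat.card ↥(A ⊓ T') ≤ p := by
      have hd : Nat.card ↥(A ⊓ T') ∣ p ^ 2 := hAcard ▸ Subgroup.card_dvd_of_le inf_le_left
      obtain ⟨k, hk2, hk⟩ := (Nat.dvd_prime_pow hp).mp hd
      have hk1 : k ≠ 2 := by
        intro h2
        apply hne
        exact Subgroup.eq_of_le_of_card_ge inf_le_left (by rw [hk, h2, hAcard])
      have hk' : k ≤ 1 := by omega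
      rw [hk]
      calc p ^ k ≤ p ^ 1 := Nat.pow_le_pow_right hp.pos hk'
        _ = p := pow_one p
    have hXeq : X = A ⊓ T' := Subgroup.eq_of_le_of_card_ge hXT' (by rw [hXcard]; exact hcardAT)
    have hzX : (z : G) ∈ X := by rw [hXeq]; exact hzAT
    have hz1' : (z : G) ≠ 1 := fun h => hz1 (Subtype.ext h)
    have hXz' := le_zpowers_of_prime_card hXcard hzX hz1'
    apply hXZ
    refine hXz'.trans ?_
    rw [Subgroup.zpowers_le, mem_centralizer_iff]
    exact hzcG

end Main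

end Cfsg.Agent.Lib.Helper59_BG137
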