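import Mathlib

/-!
# S3282 package B5e (helper59): three subgroups of order `q` through `y` give too many factorizations
-/

set_option autoImplicit false

namespace Cfsg.Agent.Lib.Helper59_BSW_B5e

open Finset

variable {G : Type*} [Group G] [Fintype G] [DecidableEq G]

/-- Bonferroni for three finite sets. -/
theorem bonferroni {α : Type*} [DecidableEq α] (X Y Z : Finset α) :
    X.card + Y.card + Z.card ≤
      (X ∪ Y ∪ Z).card + (X ∩ Y).card + (X ∩ Z).card + (Y ∩ Z).card := by
  have h1 := Finset.card_union_add_card_inter (X ∪ Y) Z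
  have h2 := Finset.card_union_add_card_inter X Y
  have h3 : ((X ∪ Y) ∩ Z).card ≤ (X ∩ Z).card + (Y ∩ Z).card := by
    rw [Finset.union_inter_distrib_right]
    exact Finset.card_union_le _ _
  omega

/-- the non-identity elements `≠ y` of a subgroup, as a finset -/
noncomputable def pts (y : G) (H : Subgroup G) : Finset G := by
  classical
  exact ((Finset.univ.filter (fun g => g ∈ H)).erase 1).erase y

theorem mem_pts {y : G} {H : Subgroup G} {g : G} :
    g ∈ pts y H ↔ g ≠ y ∧ g ≠ 1 ∧ g ∈ H := by
  classical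
  simp [pts, Finset.mem_erase]

theorem pts_inter (y : G) (A B : Subgroup G) : pts y A ∩ pts y B = pts y (A ⊓ B) := by
  ext g
  simp only [Finset.mem_inter, mem_pts, Subgroup.mem_inf]
  tauto

theorem card_pts {y : G} {H : Subgroup G} (hy : y ∈ H) (hy1 : y ≠ 1) :
    (pts y H).card + 2 = Nat.card H := by
  classical
  have h0 : (Finset.univ.filter (fun g => g ∈ H)).card = Nat.card H := by
    rw [Nat.card_eq_fintype_card, Fintype.card_subtype]
  have h1 : (1 : G) ∈ Finset.univ.filter (fun g => g ∈ H) := by simp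
  have h2 : y ∈ (Finset.univ.filter (fun g => g ∈ H)).erase 1 := by
    simp [Finset.mem_erase, hy, hy1]
  have h3 := Finset.card_erase_of_mem h2
  have h4 := Finset.card_erase_of_mem h1
  have h5 : 0 < (Finset.univ.filter (fun g => g ∈ H)).card := Finset.card_pos.mpr ⟨1, h1⟩
  have h6 : 0 < ((Finset.univ.filter (fun g => g ∈ H)).erase 1).card :=
    Finset.card_pos.mpr ⟨y, h2⟩
  unfold pts
  omega

omit [DecidableEq G] in
/-- a proper intersection of two distinct subgroups of odd order `q` has order at most `q / 3` -/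
theorem three_mul_card_inf_le {q : ℕ} (hq : Odd q) {A B : Subgroup G} (hA : Nat.card A = q)
    (hB : Nat.card B = q) (hne : A ≠ B) : 3 * Nat.card (A ⊓ B : Subgroup G) ≤ q := by
  have hdvd : Nat.card (A ⊓ B : Subgroup G) ∣ q := by
    rw [← hA]; exact Subgroup.card_dvd_of_le inf_le_left
  have hqpos : 0 < q := hq.pos
  obtain ⟨j, hj⟩ := hdvd
  have hne' : Nat.card (A ⊓ B : Subgroup G) ≠ q := by
    intro heq
    have h1 : (A ⊓ B : Subgroup G) = A :=
      Subgroup.eq_of_le_of_card_ge inf_le_left (by rw [heq, hA])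
    have h2 : A ≤ B := by rw [← h1]; exact inf_le_right
    exact hne (Subgroup.eq_of_le_of_card_ge h2 (by rw [hA, hB]))
  have hj0 : j ≠ 0 := by rintro rfl; omega
  have hj1 : j ≠ 1 := by rintro rfl; apply hne'; omega
  have hj2 : j ≠ 2 := by
    rintro rfl
    rcases hq with ⟨m, hm⟩
    omega
  have hj3 : 3 ≤ j := by omega
  calc 3 * Nat.card (A ⊓ B : Subgroup G) ≤ j * Nat.card (A ⊓ B : Subgroup G) :=
        Nat.mul_le_mul_right _ hj3
    _ = q := by rw [hj, mul_comm]

theorem comm_of_count (q : ℕ) (hq : Odd q)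
    (S : Finset G)
    (hS1 : (1 : G) ∉ S)
    (hcent : ∀ x ∈ S, Nat.card (Subgroup.centralizer ({x} : Set G)) = q)
    (hmem : ∀ x ∈ S, ∀ z ∈ Subgroup.centralizer ({x} : Set G), z ≠ 1 → z ∈ S)
    (hcount : ∀ y ∈ S, (S.filter (fun v => v⁻¹ * y ∈ S)).card ≤ 2 * (q - 1))
    {y : G} (hy : y ∈ S) :
    ∀ a ∈ Subgroup.centralizer ({y} : Set G), ∀ b ∈ Subgroup.centralizer ({y} : Set G),
      a * b = b * a := by
  intro a ha b hb
  by_contra hab
  have hy1 : y ≠ 1 := fun h => hS1 (h ▸ hy)
  have ha1 : a ≠ 1 := by rintro rfl; simp at hab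
  have hb1 : b ≠ 1 := by rintro rfl; simp at hab
  have haS : a ∈ S := hmem y hy a ha ha1
  have hbS : b ∈ S := hmem y hy b hb hb1
  have hay : a * y = y * a := Subgroup.mem_centralizer_singleton_iff.mp ha
  have hby : b * y = y * b := Subgroup.mem_centralizer_singleton_iff.mp hb
  have hyA : y ∈ Subgroup.centralizer ({y} : Set G) :=
    Subgroup.mem_centralizer_singleton_iff.mpr rfl
  have hyB : y ∈ Subgroup.centralizer ({a} : Set G) :=
    Subgroup.mem_centralizer_singleton_iff.mpr hay.symm
  have hyC : y ∈ Subgroup.centralizer ({b} : Set G) :=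
    Subgroup.mem_centralizer_singleton_iff.mpr hby.symm
  have hbB : b ∉ Subgroup.centralizer ({a} : Set G) :=
    fun h => hab (Subgroup.mem_centralizer_singleton_iff.mp h).symm
  have haC : a ∉ Subgroup.centralizer ({b} : Set G) :=
    fun h => hab (Subgroup.mem_centralizer_singleton_iff.mp h)
  have haB : a ∈ Subgroup.centralizer ({a} : Set G) :=
    Subgroup.mem_centralizer_singleton_iff.mpr rfl
  set A := Subgroup.centralizer ({y} : Set G) with hAdef
  set B := Subgroup.centralizer ({a} : Set G) with hBdef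
  set C := Subgroup.centralizer ({b} : Set G) with hCdef
  have hAB : A ≠ B := fun h => hbB (h ▸ hb)
  have hAC : A ≠ C := fun h => haC (h ▸ ha)
  have hBC : B ≠ C := fun h => haC (h ▸ haB)
  have cA : Nat.card A = q := hcent y hy
  have cB : Nat.card B = q := hcent a haS
  have cC : Nat.card C = q := hcent b hbS
  have iAB := three_mul_card_inf_le hq cA cB hAB
  have iAC := three_mul_card_inf_le hq cA cC hAC
  have iBC := three_mul_card_inf_le hq cB cC hBC
  have pA := card_pts hyA hy1
  have pB := card_pts hyB hy1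
  have pC := card_pts hyC hy1
  have pAB := card_pts (H := A ⊓ B) ⟨hyA, hyB⟩ hy1
  have pAC := card_pts (H := A ⊓ C) ⟨hyA, hyC⟩ hy1
  have pBC := card_pts (H := B ⊓ C) ⟨hyB, hyC⟩ hy1
  have hbon := bonferroni (pts y A) (pts y B) (pts y C)
  rw [pts_inter, pts_inter, pts_inter] at hbon
  -- the union is contained in the filter
  have hsub : pts y A ∪ pts y B ∪ pts y C ⊆ S.filter (fun v => v⁻¹ * y ∈ S) := by
    have key : ∀ x ∈ S, y ∈ Subgroup.centralizer ({x} : Set G) →
        pts y (Subgroup.centralizer ({x} : Set G)) ⊆ S.filter (fun v => v⁻¹ * y ∈ S) := by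
      intro x hx hyx v hv
      rw [mem_pts] at hv
      obtain ⟨hvy, hv1, hvx⟩ := hv
      rw [Finset.mem_filter]
      refine ⟨hmem x hx v hvx hv1, hmem x hx _ (Subgroup.mul_mem _ (Subgroup.inv_mem _ hvx) hyx) ?_⟩
      intro h
      apply hvy
      have : v * (v⁻¹ * y) = v * 1 := by rw [h]
      simpa using this.symm
    intro v hv
    rw [Finset.mem_union, Finset.mem_union] at hv
    rcases hv with (hv | hv) | hv
    · exact key y hy hyA hv
    · exact key a haS hyB hv
    · exact key b hbS hyC hv
  have hle := Finset.card_le_card hsub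
  have hc := hcount y hy
  omega

end Cfsg.Agent.Lib.Helper59_BSW_B5e
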