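import Mathlib
import Cfsg.Agent.Lib.Helper59_ConjOrbits

set_option autoImplicit false

/-!
# Half-transitive automorphism groups (helper59)

The theorem of Isaacs and Passman in the following internal form: `N` is a normal subgroup of the
finite group `G`, `A` a subgroup acting faithfully on `N` by conjugation, such that all the
centralizers `C_A(x)`, `x ∈ N`, `x ≠ 1`, have the same order `c > 1`. Then `N` is abelian and has
no proper non-trivial `A`-invariant subgroup.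
-/

namespace Cfsg.Agent.Lib.Helper59_HalfTrans

open MulAction Cfsg.Agent.Lib.Helper59_ConjOrbits

variable {G : Type*} [Group G]

/-- the hypotheses -/
structure Setting (N A : Subgroup G) (c : ℕ) : Prop where
  normal : N.Normal
  one_lt : 1 < c
  card_cent : ∀ x ∈ N, x ≠ 1 → Nat.card ↥(A ⊓ Subgroup.centralizer {x}) = c
  faithful : ∀ α ∈ A, (∀ x ∈ N, α * x = x * α) → α = 1

/-- Counting: `H ≤ A` acting by conjugation on an invariant set `X` all of whose elements have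
their full `A`-centralizer inside `H`, of order `c`. -/
theorem div_dvd_card [Finite G] {A : Subgroup G} {c : ℕ} (H : Subgroup G) (hHA : H ≤ A) (X : Set G)
    (hX : ∀ h ∈ H, ∀ y ∈ X, h * y * h⁻¹ ∈ X)
    (hcent : ∀ y ∈ X, A ⊓ Subgroup.centralizer {y} ≤ H)
    (hc : ∀ y ∈ X, Nat.card ↥(A ⊓ Subgroup.centralizer {y}) = c) :
    Nat.card H / c ∣ Nat.card X := by
  let _ : MulAction H X := conjOn H X hX
  apply dvd_card_of_dvd_index_stabilizer (A := H) (X := X)
  intro y
  have hcard : Nat.card (stabilizer H y) = c := by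
    rw [← hc y y.2]
    have h1 : ∀ s : stabilizer H y, ((s : H) : G) ∈ A ⊓ Subgroup.centralizer {(y : G)} := by
      intro s
      refine Subgroup.mem_inf.2 ⟨hHA (s : H).2, Subgroup.mem_centralizer_singleton_iff.2 ?_⟩
      have hs2 := s.2
      rw [mem_stabilizer_iff] at hs2
      have h1 : ((s : H) : G) * y * ((s : H) : G)⁻¹ = y := congrArg Subtype.val hs2
      calc ((s : H) : G) * y = ((s : H) : G) * y * ((s : H) : G)⁻¹ * ((s : H) : G) := by group
        _ = y * ((s : H) : G) := by rw [h1]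
    have h2 : ∀ t : ↥(A ⊓ Subgroup.centralizer {(y : G)}),
        (⟨(t : G), hcent y y.2 t.2⟩ : H) ∈ stabilizer H y := by
      intro t
      rw [mem_stabilizer_iff]
      apply Subtype.ext
      change (t : G) * y * (t : G)⁻¹ = y
      have ht := (Subgroup.mem_inf.1 t.2).2
      rw [Subgroup.mem_centralizer_singleton_iff] at ht
      rw [ht]; group
    refine Nat.card_congr ⟨fun s => ⟨((s : H) : G), h1 s⟩,
      fun t => ⟨⟨(t : G), hcent y y.2 t.2⟩, h2 t⟩, ?_, ?_⟩
    · intro s; rfl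
    · intro t; rfl
  have hmul := (stabilizer H y).index_mul_card
  rw [hcard] at hmul
  rw [← hmul]
  have h0 : 0 < c := by
    rw [← hcard]
    exact Nat.card_pos
  rw [Nat.mul_div_cancel _ h0]

/-- Lemma L: in the situation of `div_dvd_card`, if `|X|` divides `m` and `|A|/c` divides `m - 1`
then `H` centralizes `X`. -/
theorem centralizes_of_coprime [Finite G] {A : Subgroup G} {c : ℕ} (H : Subgroup G) (hHA : H ≤ A)
    (X : Set G)
    (hX : ∀ h ∈ H, ∀ y ∈ X, h * y * h⁻¹ ∈ X)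
    (hcent : ∀ y ∈ X, A ⊓ Subgroup.centralizer {y} ≤ H)
    (hc : ∀ y ∈ X, Nat.card ↥(A ⊓ Subgroup.centralizer {y}) = c)
    (m : ℕ) (hm1 : 1 ≤ m) (hXm : Nat.card X ∣ m) (hAm : Nat.card A ∣ c * (m - 1)) :
    ∀ h ∈ H, ∀ y ∈ X, h * y = y * h := by
  intro h hh y hy
  have hc0 : 0 < c := by rw [← hc y hy]; exact Nat.card_pos
  have hcH : c ∣ Nat.card H := by rw [← hc y hy]; exact Subgroup.card_dvd_of_le (hcent y hy)
  obtain ⟨h', hh'⟩ := hcH
  have hd1 : h' ∣ m := by
    have := div_dvd_card H hHA X hX hcent hc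
    rw [hh', Nat.mul_div_cancel_left _ hc0] at this
    exact this.trans hXm
  have hd2 : h' ∣ m - 1 := by
    have : c * h' ∣ c * (m - 1) := by
      rw [← hh']; exact (Subgroup.card_dvd_of_le hHA).trans hAm
    exact (Nat.mul_dvd_mul_iff_left hc0).1 this
  have h1 : h' = 1 := by
    have : h' ∣ m - (m - 1) := Nat.dvd_sub hd1 hd2
    rw [Nat.sub_sub_self hm1] at this
    exact Nat.dvd_one.1 this
  have heq : A ⊓ Subgroup.centralizer {y} = H := by
    apply Subgroup.eq_of_le_of_card_ge (hcent y hy)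
    rw [hc y hy, hh', h1, mul_one]
  have : h ∈ A ⊓ Subgroup.centralizer {y} := heq ▸ hh
  exact Subgroup.mem_centralizer_singleton_iff.1 (Subgroup.mem_inf.1 this).2

theorem card_diff_one (K : Subgroup G) [Finite K] :
    Nat.card ↥((K : Set G) \ {1}) = Nat.card K - 1 := by
  rw [Nat.card_coe_set_eq, Set.ncard_sdiff_singleton_of_mem K.one_mem]
  congr 1

variable {N A : Subgroup G} {c : ℕ}

theorem Setting.card_dvd [Finite G] (hS : Setting N A c) (K : Subgroup G) (hKN : K ≤ N)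
    (hKA : ∀ α ∈ A, ∀ k ∈ K, α * k * α⁻¹ ∈ K) : Nat.card A ∣ c * (Nat.card K - 1) := by
  have hX : ∀ α ∈ A, ∀ y ∈ ((K : Set G) \ {1}), α * y * α⁻¹ ∈ ((K : Set G) \ {1}) := by
    intro α hα y hy
    refine ⟨hKA α hα y hy.1, ?_⟩
    intro h
    apply hy.2
    rw [Set.mem_singleton_iff] at h ⊢
    have : y = α⁻¹ * (α * y * α⁻¹) * α := by group
    rw [this, h]; group
  have hdiv := div_dvd_card (A := A) (c := c) A le_rfl ((K : Set G) \ {1}) hX
    (fun y _ => inf_le_left) (fun y hy => hS.card_cent y (hKN hy.1) hy.2)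
  rw [card_diff_one] at hdiv
  rcases Nat.eq_zero_or_pos (Nat.card K - 1) with h0 | h0
  · rw [h0]; simp
  · -- pick an element
    have hne : ((K : Set G) \ {1}).Nonempty := by
      by_contra hcon
      rw [Set.not_nonempty_iff_eq_empty] at hcon
      have := card_diff_one K
      rw [hcon] at this
      simp at this
      omega
    obtain ⟨y, hy⟩ := hne
    have hcA : c ∣ Nat.card A := by
      rw [← hS.card_cent y (hKN hy.1) hy.2]
      exact Subgroup.card_dvd_of_le inf_le_left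
    obtain ⟨a', ha'⟩ := hcA
    have hc0 : 0 < c := lt_trans Nat.zero_lt_one hS.one_lt
    rw [ha', Nat.mul_div_cancel_left _ hc0] at hdiv
    rw [ha']
    exact Nat.mul_dvd_mul_left c hdiv

/-- The stabilizer in `A` of the coset `xK`. -/
def cosetStab (A K : Subgroup G) (hKA : ∀ α ∈ A, ∀ k ∈ K, α * k * α⁻¹ ∈ K) (x : G) : Subgroup G where
  carrier := {β | β ∈ A ∧ x⁻¹ * (β * x * β⁻¹) ∈ K}
  one_mem' := ⟨A.one_mem, by simp⟩
  mul_mem' := by
    intro a b ha hb
    refine ⟨A.mul_mem ha.1 hb.1, ?_⟩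
    have : x⁻¹ * (a * b * x * (a * b)⁻¹) =
        (x⁻¹ * (a * x * a⁻¹)) * (a * (x⁻¹ * (b * x * b⁻¹)) * a⁻¹) := by group
    rw [this]
    exact K.mul_mem ha.2 (hKA a ha.1 _ hb.2)
  inv_mem' := by
    intro a ha
    refine ⟨A.inv_mem ha.1, ?_⟩
    have : x⁻¹ * (a⁻¹ * x * a⁻¹⁻¹) = (a⁻¹ * (x⁻¹ * (a * x * a⁻¹)) * a⁻¹⁻¹)⁻¹ := by group
    rw [this]
    exact K.inv_mem (hKA a⁻¹ (A.inv_mem ha.1) _ ha.2)

theorem Setting.cent_le_of_not_mem [Finite G] (hS : Setting N A c) (K : Subgroup G) (hKN : K ≤ N)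
    (hKA : ∀ α ∈ A, ∀ k ∈ K, α * k * α⁻¹ ∈ K) {x : G} (hxN : x ∈ N) (hxK : x ∉ K)
    {k : G} (hk : k ∈ K) {α : G} (hα : α ∈ A ⊓ Subgroup.centralizer {x}) : α * k = k * α := by
  set H := cosetStab A K hKA x with hH
  set X : Set G := {y | x⁻¹ * y ∈ K} with hXdef
  have hHA : H ≤ A := fun β hβ => hβ.1
  have hX : ∀ h ∈ H, ∀ y ∈ X, h * y * h⁻¹ ∈ X := by
    intro h hh y hy
    change x⁻¹ * (h * y * h⁻¹) ∈ K
    have : x⁻¹ * (h * y * h⁻¹) = (x⁻¹ * (h * x * h⁻¹)) * (h * (x⁻¹ * y) * h⁻¹) := by group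
    rw [this]
    exact K.mul_mem hh.2 (hKA h hh.1 _ hy)
  have hcent : ∀ y ∈ X, A ⊓ Subgroup.centralizer {y} ≤ H := by
    intro y hy β hβ
    have hβA := (Subgroup.mem_inf.1 hβ).1
    have hβy := Subgroup.mem_centralizer_singleton_iff.1 (Subgroup.mem_inf.1 hβ).2
    refine ⟨hβA, ?_⟩
    have e : y * β * y⁻¹ = β := by rw [← hβy]; group
    have : x⁻¹ * (β * x * β⁻¹) = (x⁻¹ * y) * (β * (x⁻¹ * y)⁻¹ * β⁻¹) := by
      have : (x⁻¹ * y) * (β * (x⁻¹ * y)⁻¹ * β⁻¹) = x⁻¹ * (y * β * y⁻¹) * x * β⁻¹ := by group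
      rw [this, e]; group
    rw [this]
    exact K.mul_mem hy (hKA β hβA _ (K.inv_mem hy))
  have hXN : ∀ y ∈ X, y ∈ N ∧ y ≠ 1 := by
    intro y hy
    constructor
    · have : y = x * (x⁻¹ * y) := by group
      rw [this]
      exact N.mul_mem hxN (hKN hy)
    · rintro rfl
      apply hxK
      have : x⁻¹ ∈ K := by simpa [hXdef] using hy
      simpa using K.inv_mem this
  have hc : ∀ y ∈ X, Nat.card ↥(A ⊓ Subgroup.centralizer {y}) = c := fun y hy =>
    hS.card_cent y (hXN y hy).1 (hXN y hy).2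
  have hcardX : Nat.card X = Nat.card K := by
    refine Nat.card_congr ⟨fun y => ⟨x⁻¹ * (y : G), y.2⟩, fun k => ⟨x * (k : G), ?_⟩, ?_, ?_⟩
    · change x⁻¹ * (x * (k : G)) ∈ K
      rw [inv_mul_cancel_left]; exact k.2
    · intro y; apply Subtype.ext; change x * (x⁻¹ * (y : G)) = y; group
    · intro k; apply Subtype.ext; change x⁻¹ * (x * (k : G)) = k; group
  have hL := centralizes_of_coprime (A := A) (c := c) H hHA X hX hcent hc (Nat.card K)
    Nat.card_pos (by rw [hcardX]) (hS.card_dvd K hKN hKA)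
  have hxX : x ∈ X := by change x⁻¹ * x ∈ K; rw [inv_mul_cancel]; exact K.one_mem
  have hxkX : x * k ∈ X := by change x⁻¹ * (x * k) ∈ K; rw [inv_mul_cancel_left]; exact hk
  have hαH : α ∈ H := hcent x hxX hα
  have e1 := hL α hαH x hxX
  have e2 := hL α hαH (x * k) hxkX
  have : x * (α * k) = x * (k * α) := by
    calc x * (α * k) = α * x * k := by rw [e1]; group
      _ = α * (x * k) := by group
      _ = x * k * α := e2
      _ = x * (k * α) := by group
  exact mul_left_cancel this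

/-- `N` has no proper non-trivial `A`-invariant subgroup. -/
theorem Setting.eq_bot_or_eq [Finite G] (hS : Setting N A c) (K : Subgroup G) (hKN : K ≤ N)
    (hKA : ∀ α ∈ A, ∀ k ∈ K, α * k * α⁻¹ ∈ K) : K = ⊥ ∨ K = N := by
  by_contra hcon
  obtain ⟨hK1, hK2⟩ := not_or.1 hcon
  obtain ⟨k₀, hk₀1⟩ := (Subgroup.ne_bot_iff_exists_ne_one.1 hK1)
  have : ∃ x₀ ∈ N, x₀ ∉ K := by
    by_contra h
    apply hK2
    apply le_antisymm hKN
    intro x hx
    by_contra hxK
    exact h ⟨x, hx, hxK⟩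
  obtain ⟨x₀, hx₀N, hx₀K⟩ := this
  have hx₀1 : x₀ ≠ 1 := by rintro rfl; exact hx₀K K.one_mem
  have hk₀K : (k₀ : G) ∈ K := k₀.2
  have hk₀ne : (k₀ : G) ≠ 1 := by
    intro h; apply hk₀1; exact Subtype.ext h
  -- all centralizers of elements outside K equal D
  have hD : ∀ x ∈ N, x ∉ K → A ⊓ Subgroup.centralizer {x} = A ⊓ Subgroup.centralizer {(k₀ : G)} := by
    intro x hxN hxK
    apply Subgroup.eq_of_le_of_card_ge
    · intro α hα
      refine Subgroup.mem_inf.2 ⟨(Subgroup.mem_inf.1 hα).1, ?_⟩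
      exact Subgroup.mem_centralizer_singleton_iff.2 (hS.cent_le_of_not_mem K hKN hKA hxN hxK hk₀K hα)
    · rw [hS.card_cent x hxN (by rintro rfl; exact hxK K.one_mem),
        hS.card_cent _ (hKN hk₀K) hk₀ne]
  have hbot : A ⊓ Subgroup.centralizer {(k₀ : G)} = ⊥ := by
    rw [eq_bot_iff]
    intro α hα
    rw [Subgroup.mem_bot]
    apply hS.faithful α (Subgroup.mem_inf.1 hα).1
    intro x hxN
    by_cases hxK : x ∈ K
    · have hα' : α ∈ A ⊓ Subgroup.centralizer {x₀} := by rw [hD x₀ hx₀N hx₀K]; exact hα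
      exact hS.cent_le_of_not_mem K hKN hKA hx₀N hx₀K hxK hα'
    · have hα' : α ∈ A ⊓ Subgroup.centralizer {x} := by rw [hD x hxN hxK]; exact hα
      exact Subgroup.mem_centralizer_singleton_iff.1 (Subgroup.mem_inf.1 hα').2
  have := hS.card_cent _ (hKN hk₀K) hk₀ne
  rw [hbot, Subgroup.card_bot] at this
  have := hS.one_lt
  omega

/-- The size of an `N`-conjugacy class divides `|N|`. -/
theorem card_conjClass_dvd [Finite G] (N : Subgroup G) (x : G) :
    Nat.card ↥{y : G | ∃ n ∈ N, y = n * x * n⁻¹} ∣ Nat.card N := by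
  set X : Set G := {y : G | ∃ n ∈ N, y = n * x * n⁻¹} with hXdef
  have hX : ∀ a ∈ N, ∀ y ∈ X, a * y * a⁻¹ ∈ X := by
    rintro a ha y ⟨n, hn, rfl⟩
    exact ⟨a * n, N.mul_mem ha hn, by group⟩
  let _ : MulAction N X := conjOn N X hX
  have hx : x ∈ X := ⟨1, N.one_mem, by group⟩
  have htr : IsPretransitive N X := by
    refine ⟨?_⟩
    rintro ⟨y, n, hn, rfl⟩ ⟨y', n', hn', rfl⟩
    refine ⟨⟨n' * n⁻¹, N.mul_mem hn' (N.inv_mem hn)⟩, ?_⟩
    apply Subtype.ext
    change (n' * n⁻¹) * (n * x * n⁻¹) * (n' * n⁻¹)⁻¹ = n' * x * n'⁻¹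
    group
  rw [← index_stabilizer_of_transitive N (⟨x, hx⟩ : X)]
  exact Subgroup.index_dvd_card _

/-- If an element of `A` maps `x` to an `N`-conjugate of `x` then it fixes `x`. -/
theorem Setting.commute_of_conj [Finite G] (hS : Setting N A c) {x : G} (hx : x ∈ N) (hx1 : x ≠ 1)
    {α n : G} (hα : α ∈ A) (hn : n ∈ N) (h : α * x * α⁻¹ = n * x * n⁻¹) : α * x = x * α := by
  have := hS.normal
  set H : Subgroup G := A ⊓ (N ⊔ Subgroup.centralizer {x}) with hH
  set X : Set G := {y : G | ∃ n ∈ N, y = n * x * n⁻¹} with hXdef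
  have hmemH : ∀ g, g ∈ N ⊔ Subgroup.centralizer {x} ↔
      ∃ n ∈ N, ∃ z ∈ Subgroup.centralizer {x}, n * z = g := by
    intro g
    rw [← SetLike.mem_coe, Subgroup.normal_mul, Set.mem_mul]
    rfl
  have hHA : H ≤ A := inf_le_left
  have hX : ∀ h ∈ H, ∀ y ∈ X, h * y * h⁻¹ ∈ X := by
    rintro h hh y ⟨n', hn', rfl⟩
    obtain ⟨m, hm, z, hz, rfl⟩ := (hmemH h).1 (Subgroup.mem_inf.1 hh).2
    rw [Subgroup.mem_centralizer_singleton_iff] at hz
    refine ⟨(m * z) * n' * (m * z)⁻¹ * m, N.mul_mem (hS.normal.conj_mem n' hn' (m * z)) hm, ?_⟩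
    have e : z * x * z⁻¹ = x := by rw [hz]; group
    calc m * z * (n' * x * n'⁻¹) * (m * z)⁻¹
        = (m * z) * n' * (m * z)⁻¹ * m * (z * x * z⁻¹) * ((m * z) * n' * (m * z)⁻¹ * m)⁻¹ := by group
      _ = _ := by rw [e]
  have hcent : ∀ y ∈ X, A ⊓ Subgroup.centralizer {y} ≤ H := by
    rintro y ⟨n', hn', rfl⟩ β hβ
    have hβA := (Subgroup.mem_inf.1 hβ).1
    have hβy := Subgroup.mem_centralizer_singleton_iff.1 (Subgroup.mem_inf.1 hβ).2
    refine Subgroup.mem_inf.2 ⟨hβA, ?_⟩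
    rw [hmemH]
    refine ⟨n' * ((n'⁻¹ * β * n') * n'⁻¹ * (n'⁻¹ * β * n')⁻¹),
      N.mul_mem hn' (hS.normal.conj_mem _ (N.inv_mem hn') _), n'⁻¹ * β * n', ?_, by group⟩
    rw [Subgroup.mem_centralizer_singleton_iff]
    calc n'⁻¹ * β * n' * x = n'⁻¹ * (β * (n' * x * n'⁻¹)) * n' := by group
      _ = n'⁻¹ * ((n' * x * n'⁻¹) * β) * n' := by rw [hβy]
      _ = x * (n'⁻¹ * β * n') := by group
  have hXN : ∀ y ∈ X, y ∈ N ∧ y ≠ 1 := by
    rintro y ⟨n', hn', rfl⟩
    refine ⟨N.mul_mem (N.mul_mem hn' hx) (N.inv_mem hn'), ?_⟩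
    intro h1
    apply hx1
    have : x = n'⁻¹ * (n' * x * n'⁻¹) * n' := by group
    rw [this, h1]; group
  have hc : ∀ y ∈ X, Nat.card ↥(A ⊓ Subgroup.centralizer {y}) = c := fun y hy =>
    hS.card_cent y (hXN y hy).1 (hXN y hy).2
  have hAm : Nat.card A ∣ c * (Nat.card N - 1) :=
    hS.card_dvd N le_rfl (fun α _ k hk => hS.normal.conj_mem k hk α)
  have hL := centralizes_of_coprime (A := A) (c := c) H hHA X hX hcent hc (Nat.card N)
    Nat.card_pos (card_conjClass_dvd N x) hAm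
  have hxX : x ∈ X := ⟨1, N.one_mem, by group⟩
  have hαH : α ∈ H := by
    refine Subgroup.mem_inf.2 ⟨hα, ?_⟩
    rw [hmemH]
    refine ⟨n, hn, n⁻¹ * α, ?_, by group⟩
    rw [Subgroup.mem_centralizer_singleton_iff]
    calc n⁻¹ * α * x = n⁻¹ * (α * x * α⁻¹) * α := by group
      _ = n⁻¹ * (n * x * n⁻¹) * α := by rw [h]
      _ = x * (n⁻¹ * α) := by group
  exact hL α hαH x hxX

/-- `N`-conjugate elements of `N` have the same centralizer in `A`. -/
theorem Setting.cent_conj [Finite G] (hS : Setting N A c) {x n : G} (hx : x ∈ N) (hx1 : x ≠ 1)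
    (hn : n ∈ N) :
    A ⊓ Subgroup.centralizer {x} = A ⊓ Subgroup.centralizer {n * x * n⁻¹} := by
  have hyN : n * x * n⁻¹ ∈ N := N.mul_mem (N.mul_mem hn hx) (N.inv_mem hn)
  have hy1 : n * x * n⁻¹ ≠ 1 := by
    intro h1
    apply hx1
    have : x = n⁻¹ * (n * x * n⁻¹) * n := by group
    rw [this, h1]; group
  apply Subgroup.eq_of_le_of_card_ge
  · intro α hα
    have hαA := (Subgroup.mem_inf.1 hα).1
    have hαx := Subgroup.mem_centralizer_singleton_iff.1 (Subgroup.mem_inf.1 hα).2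
    refine Subgroup.mem_inf.2 ⟨hαA, Subgroup.mem_centralizer_singleton_iff.2 ?_⟩
    have hm : α * n * α⁻¹ * n⁻¹ ∈ N := N.mul_mem (hS.normal.conj_mem n hn α) (N.inv_mem hn)
    apply hS.commute_of_conj hyN hy1 hαA hm
    have e : α * x * α⁻¹ = x := by rw [hαx]; group
    calc α * (n * x * n⁻¹) * α⁻¹ = (α * n * α⁻¹) * (α * x * α⁻¹) * (α * n * α⁻¹)⁻¹ := by group
      _ = (α * n * α⁻¹) * x * (α * n * α⁻¹)⁻¹ := by rw [e]
      _ = _ := by group
  · rw [hS.card_cent x hx hx1, hS.card_cent _ hyN hy1]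

theorem Setting.commute_of_cent_ne [Finite G] (hS : Setting N A c) {x y : G} (hx : x ∈ N)
    (hy : y ∈ N) (hx1 : x ≠ 1) (hy1 : y ≠ 1)
    (hne : A ⊓ Subgroup.centralizer {x} ≠ A ⊓ Subgroup.centralizer {y}) : x * y = y * x := by
  by_contra hxy
  set z := x * y * x⁻¹ * y⁻¹ with hz
  have hzN : z ∈ N := N.mul_mem (N.mul_mem (N.mul_mem hx hy) (N.inv_mem hx)) (N.inv_mem hy)
  have hz1 : z ≠ 1 := by
    intro h1
    apply hxy
    have : x * y = z * (y * x) := by rw [hz]; group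
    rw [this, h1, one_mul]
  have h1 : A ⊓ Subgroup.centralizer {y} = A ⊓ Subgroup.centralizer {z} := by
    apply Subgroup.eq_of_le_of_card_ge
    · intro α hα
      have hα' : α ∈ A ⊓ Subgroup.centralizer {x * y * x⁻¹} := by
        rw [← hS.cent_conj hy hy1 hx]; exact hα
      have e1 := Subgroup.mem_centralizer_singleton_iff.1 (Subgroup.mem_inf.1 hα).2
      have e2 := Subgroup.mem_centralizer_singleton_iff.1 (Subgroup.mem_inf.1 hα').2
      refine Subgroup.mem_inf.2 ⟨(Subgroup.mem_inf.1 hα).1,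
        Subgroup.mem_centralizer_singleton_iff.2 ?_⟩
      have e3 : α * y⁻¹ = y⁻¹ * α := by
        calc α * y⁻¹ = y⁻¹ * (y * α) * y⁻¹ := by group
          _ = y⁻¹ * (α * y) * y⁻¹ := by rw [e1]
          _ = y⁻¹ * α := by group
      calc α * z = α * (x * y * x⁻¹) * y⁻¹ := by rw [hz]; group
        _ = (x * y * x⁻¹) * α * y⁻¹ := by rw [e2]
        _ = (x * y * x⁻¹) * (α * y⁻¹) := by group
        _ = (x * y * x⁻¹) * (y⁻¹ * α) := by rw [e3]
        _ = z * α := by rw [hz]; group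
    · rw [hS.card_cent y hy hy1, hS.card_cent z hzN hz1]
  have h2 : A ⊓ Subgroup.centralizer {x} = A ⊓ Subgroup.centralizer {z} := by
    apply Subgroup.eq_of_le_of_card_ge
    · intro α hα
      have hα' : α ∈ A ⊓ Subgroup.centralizer {y * x * y⁻¹} := by
        rw [← hS.cent_conj hx hx1 hy]; exact hα
      have e1 := Subgroup.mem_centralizer_singleton_iff.1 (Subgroup.mem_inf.1 hα).2
      have e2 := Subgroup.mem_centralizer_singleton_iff.1 (Subgroup.mem_inf.1 hα').2
      refine Subgroup.mem_inf.2 ⟨(Subgroup.mem_inf.1 hα).1,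
        Subgroup.mem_centralizer_singleton_iff.2 ?_⟩
      have e3 : α * (y * x * y⁻¹)⁻¹ = (y * x * y⁻¹)⁻¹ * α := by
        calc α * (y * x * y⁻¹)⁻¹ = (y * x * y⁻¹)⁻¹ * ((y * x * y⁻¹) * α) * (y * x * y⁻¹)⁻¹ := by
              group
          _ = (y * x * y⁻¹)⁻¹ * (α * (y * x * y⁻¹)) * (y * x * y⁻¹)⁻¹ := by rw [e2]
          _ = (y * x * y⁻¹)⁻¹ * α := by group
      calc α * z = (α * x) * (y * x * y⁻¹)⁻¹ := by rw [hz]; group
        _ = (x * α) * (y * x * y⁻¹)⁻¹ := by rw [e1]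
        _ = x * (α * (y * x * y⁻¹)⁻¹) := by group
        _ = x * ((y * x * y⁻¹)⁻¹ * α) := by rw [e3]
        _ = z * α := by rw [hz]; group
    · rw [hS.card_cent x hx hx1, hS.card_cent z hzN hz1]
  exact hne (h2.trans h1.symm)

/-- `N` is abelian. -/
theorem Setting.comm [Finite G] (hS : Setting N A c) : ∀ x ∈ N, ∀ y ∈ N, x * y = y * x := by
  intro x hx y hy
  by_cases hx1 : x = 1
  · subst hx1; simp
  by_cases hy1 : y = 1
  · subst hy1; simp
  by_cases hne : A ⊓ Subgroup.centralizer {x} = A ⊓ Subgroup.centralizer {y}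
  swap
  · exact hS.commute_of_cent_ne hx hy hx1 hy1 hne
  -- a third element with a different centralizer
  have hw : ∃ w ∈ N, w ≠ 1 ∧ A ⊓ Subgroup.centralizer {w} ≠ A ⊓ Subgroup.centralizer {x} := by
    by_contra hcon
    have hall : ∀ w ∈ N, w ≠ 1 → A ⊓ Subgroup.centralizer {w} = A ⊓ Subgroup.centralizer {x} := by
      intro w hw hw1
      by_contra h
      exact hcon ⟨w, hw, hw1, h⟩
    have hbot : A ⊓ Subgroup.centralizer {x} = ⊥ := by
      rw [eq_bot_iff]
      intro α hα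
      rw [Subgroup.mem_bot]
      apply hS.faithful α (Subgroup.mem_inf.1 hα).1
      intro w hw
      by_cases hw1 : w = 1
      · subst hw1; simp
      · have hα' : α ∈ A ⊓ Subgroup.centralizer {w} := by rw [hall w hw hw1]; exact hα
        exact Subgroup.mem_centralizer_singleton_iff.1 (Subgroup.mem_inf.1 hα').2
    have := hS.card_cent x hx hx1
    rw [hbot, Subgroup.card_bot] at this
    have := hS.one_lt
    omega
  obtain ⟨w, hw, hw1, hwne⟩ := hw
  have hwx : w * x = x * w := hS.commute_of_cent_ne hw hx hw1 hx1 hwne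
  have hwy : w * y = y * w := hS.commute_of_cent_ne hw hy hw1 hy1 (hne ▸ hwne)
  by_cases hu1 : x * w = 1
  · -- x = w⁻¹
    have : x = w⁻¹ := eq_inv_of_mul_eq_one_left hu1
    rw [this]
    calc w⁻¹ * y = w⁻¹ * (y * w) * w⁻¹ := by group
      _ = w⁻¹ * (w * y) * w⁻¹ := by rw [hwy]
      _ = y * w⁻¹ := by group
  have huN : x * w ∈ N := N.mul_mem hx hw
  by_cases hune : A ⊓ Subgroup.centralizer {x * w} = A ⊓ Subgroup.centralizer {y}
  · exfalso
    apply hwne
    symm
    apply Subgroup.eq_of_le_of_card_ge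
    · intro α hα
      have hα' : α ∈ A ⊓ Subgroup.centralizer {x * w} := by rw [hune, ← hne]; exact hα
      have e1 := Subgroup.mem_centralizer_singleton_iff.1 (Subgroup.mem_inf.1 hα).2
      have e2 := Subgroup.mem_centralizer_singleton_iff.1 (Subgroup.mem_inf.1 hα').2
      refine Subgroup.mem_inf.2 ⟨(Subgroup.mem_inf.1 hα).1,
        Subgroup.mem_centralizer_singleton_iff.2 ?_⟩
      have : x * (α * w) = x * (w * α) := by
        calc x * (α * w) = (x * α) * w := by group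
          _ = (α * x) * w := by rw [e1]
          _ = α * (x * w) := by group
          _ = x * w * α := e2
          _ = x * (w * α) := by group
      exact mul_left_cancel this
    · rw [hS.card_cent x hx hx1, hS.card_cent w hw hw1]
  · have huy : (x * w) * y = y * (x * w) := hS.commute_of_cent_ne huN hy hu1 hy1 hune
    have : (x * y) * w = (y * x) * w := by
      calc (x * y) * w = x * (y * w) := by group
        _ = x * (w * y) := by rw [hwy]
        _ = (x * w) * y := by group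
        _ = y * (x * w) := huy
        _ = (y * x) * w := by group
    exact mul_right_cancel this

end Cfsg.Agent.Lib.Helper59_HalfTrans
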