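import Mathlib
import Cfsg.Agent.Lib.Helper74_M11UDefs

/-!
S0420 package A6 (architect helper74): in the graph on the 55 Sylow 3-subgroups of a group with the
local structure of a simple group of order 7920, every vertex has valency 18, `N(P)` is transitive
on the neighbours of `P`, and every edge lies in a triangle.
Also the orbit-stabiliser lemma for subgroups acting on the Sylow 3-subgroups (`orbit_ncard_mul`).
-/

set_option autoImplicit false
set_option linter.unusedVariables false

open Cfsg.Agent.Lib.Helper74_M11UDefs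
open scoped Pointwise

namespace Cfsg.Agent.Lib.Helper59_M11U_A6

universe u

variable {G : Type u} [Group G]

theorem mem_orbit_subgroup_iff (S : Subgroup G) (P X : Sylow 3 G) :
    X ∈ MulAction.orbit S P ↔ ∃ g ∈ S, g • P = X := by
  rw [MulAction.mem_orbit_iff]
  constructor
  · rintro ⟨g, hg⟩
    exact ⟨g.1, g.2, hg⟩
  · rintro ⟨g, hgS, hg⟩
    exact ⟨⟨g, hgS⟩, hg⟩

/-- orbit-stabiliser for a subgroup `S` of `G` acting on the Sylow 3-subgroups -/
theorem orbit_ncard_mul [Finite G] (S : Subgroup G) (P : Sylow 3 G) :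
    (MulAction.orbit S P).ncard * Nat.card ↥(S ⊓ NN P) = Nat.card S := by
  have h1 := MulAction.index_stabilizer S P
  have h2 := Subgroup.card_mul_index (MulAction.stabilizer S P)
  have h3 : MulAction.stabilizer S P = (NN P).subgroupOf S := by
    ext g
    rw [MulAction.mem_stabilizer_iff, Subgroup.mem_subgroupOf, mem_NN_iff]
    rfl
  have h4 : Nat.card ((NN P).subgroupOf S) = Nat.card ↥(S ⊓ NN P) := by
    rw [← Subgroup.inf_subgroupOf_left]
    exact Nat.card_congr (Subgroup.subgroupOfEquivOfLe inf_le_left).toEquiv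
  rw [← h1, ← h4, ← h3, mul_comm]
  exact h2

variable [Finite G]

theorem A6 (h : Loc G) (hp : LocP G) (hi : InvP G) (ha : TriA G) (hb : TriB G) : Val G := by
  have hPN : ∀ (P : Sylow 3 G) (y : G), y ∈ (P : Subgroup G) → y ∈ NN P :=
    fun P y hy => Subgroup.le_normalizer hy
  -- transitivity on neighbours
  have transN : ∀ P X X' : Sylow 3 G, Adj3 P X → Adj3 P X' → ∃ g ∈ NN P, g • X = X' := by
    rintro P X X' ⟨hPX, z, hzP, hzX⟩ ⟨hPX', z', hz'P, hz'X'⟩
    obtain ⟨y, hyP, rfl⟩ := hi.conj P z z' hzP hz'P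
    have hyN : y ∈ NN P := hPN P y hyP
    have hyPP : y • P = P := mem_NN_iff.1 hyN
    have hyX : Inverts (y * z * y⁻¹) ((y • X : Sylow 3 G) : Subgroup G) := hzX.conj y
    have hyXne : y • X ≠ P := by
      intro hh
      apply hPX
      rw [← hyPP] at hh
      exact (smul_left_cancel y hh).symm
    obtain ⟨Q', T', hPQ', hPT', hQT', hzQ', hzT', hall⟩ := ha.three P (y * z * y⁻¹) hz'P
    have htri : Tri P Q' T' := ⟨hPQ', hPT', hQT', y * z * y⁻¹, hz'P, hzQ', hzT'⟩
    rcases hall (y • X) hyX with h1 | h1 | h1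
    · exact absurd h1 hyXne
    · rcases hall X' hz'X' with h2 | h2 | h2
      · exact absurd h2.symm hPX'
      · exact ⟨y, hyN, by rw [h1, h2]⟩
      · obtain ⟨s, hsN, hs⟩ := hb.swap P Q' T' htri
        refine ⟨s * y, (NN P).mul_mem hsN hyN, ?_⟩
        rw [mul_smul, h1, hs, h2]
    · rcases hall X' hz'X' with h2 | h2 | h2
      · exact absurd h2.symm hPX'
      · obtain ⟨s, hsN, hs⟩ := hb.swap P T' Q' htri.swap23
        refine ⟨s * y, (NN P).mul_mem hsN hyN, ?_⟩
        rw [mul_smul, h1, hs, h2]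
      · exact ⟨y, hyN, by rw [h1, h2]⟩
  refine ⟨?_, transN, ?_⟩
  · -- valency
    intro P
    obtain ⟨z, hzP⟩ := hi.ex P
    obtain ⟨Q, T, hPQ, -, -, hzQ, -, -⟩ := ha.three P z hzP
    have hadj : Adj3 P Q := ⟨hPQ, z, hzP, hzQ⟩
    have horb : MulAction.orbit (NN P) Q = {X : Sylow 3 G | Adj3 P X} := by
      ext X
      rw [mem_orbit_subgroup_iff]
      show (∃ g ∈ NN P, g • Q = X) ↔ Adj3 P X
      constructor
      · rintro ⟨g, hg, rfl⟩
        have hgP : g • P = P := mem_NN_iff.1 hg
        have := (adj3_smul_iff g P Q).2 hadj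
        rwa [hgP] at this
      · intro hX
        exact transN P Q X hadj hX
    have h1 := orbit_ncard_mul (NN P) Q
    rw [horb, hb.cardK P Q hadj, h.n3 P] at h1
    omega
  · -- triangles
    rintro P Q ⟨hPQ, z, hzP, hzQ⟩
    obtain ⟨Q', T', hPQ', hPT', hQT', hzQ', hzT', hall⟩ := ha.three P z hzP
    rcases hall Q hzQ with h1 | h1 | h1
    · exact absurd h1.symm hPQ
    · subst h1
      exact ⟨T', hPQ, hPT', hQT', z, hzP, hzQ, hzT'⟩
    · subst h1
      exact ⟨Q', hPQ, hPQ', hQT'.symm, z, hzP, hzQ, hzQ'⟩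

end Cfsg.Agent.Lib.Helper59_M11U_A6
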