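import Mathlib
import Cfsg.Agent.Lib.Helper74_M11UDefs
import Cfsg.Agent.Lib.Helper59_M11U_A6

/-!
S0420 package A9 (architect helper74): the stabiliser of the 10-clique `{P} ∪ P • Q` of an edge
`P, Q` of the graph on the Sylow 3-subgroups has order `10 * 9 * 8 = 720`, hence index 11.
-/

set_option autoImplicit false
set_option linter.unusedVariables false

open Cfsg.Agent.Lib.Helper74_M11UDefs Cfsg.Agent.Lib.Helper59_M11U_A6
open scoped Pointwise

namespace Cfsg.Agent.Lib.Helper59_M11U_A9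

universe u

variable {G : Type u} [Group G] [Finite G]

theorem A9 (h : Loc G) (hp : LocP G) (hb : TriB G) (hl : Link G) (hc : CliqueStmt G)
    (P Q : Sylow 3 G) (hPQ : Adj3 P Q) : ∃ H : Subgroup G, H.index = 11 := by
  classical
  have hne : P ≠ Q := hPQ.1
  have hPN : ∀ (R : Sylow 3 G) (y : G), y ∈ (R : Subgroup G) → y • R = R :=
    fun R y hy => mem_NN_iff.1 (Subgroup.le_normalizer hy)
  -- the clique
  set C : Set (Sylow 3 G) := {X | X = P ∨ ∃ y ∈ (P : Subgroup G), X = y • Q} with hC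
  have hCmem : ∀ X, X ∈ C ↔ (X = P ∨ ∃ y ∈ (P : Subgroup G), X = y • Q) := fun X => Iff.rfl
  have hCmem' : ∀ X, X ∈ C ↔ (X = Q ∨ ∃ y ∈ (Q : Subgroup G), X = y • P) :=
    fun X => (hCmem X).trans (hc P Q hPQ X)
  have hPC : P ∈ C := Or.inl rfl
  have hQC : Q ∈ C := (hCmem' Q).2 (Or.inl rfl)
  -- the stabiliser of `C` as a subgroup, described elementwise
  let H : Subgroup G :=
    { carrier := {g | ∀ X, X ∈ C ↔ g • X ∈ C}
      one_mem' := fun X => by rw [one_smul]
      mul_mem' := by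
        intro a b ha hb' X
        rw [mul_smul]
        exact (hb' X).trans (ha (b • X))
      inv_mem' := by
        intro a ha X
        have := ha (a⁻¹ • X)
        rw [smul_inv_smul] at this
        exact this.symm }
  have hHmem : ∀ g, g ∈ H ↔ ∀ X, X ∈ C ↔ g • X ∈ C := fun g => Iff.rfl
  -- a criterion for membership
  have hcrit : ∀ g : G, (∀ X ∈ C, g • X ∈ C) → (∀ X ∈ C, g⁻¹ • X ∈ C) → g ∈ H := by
    intro g h1 h2 X
    constructor
    · exact h1 X
    · intro hX
      have := h2 _ hX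
      rwa [inv_smul_smul] at this
  -- `P ≤ H`
  have hPH : ∀ y ∈ (P : Subgroup G), y ∈ H := by
    have key : ∀ y ∈ (P : Subgroup G), ∀ X ∈ C, y • X ∈ C := by
      intro y hy X hX
      rcases (hCmem X).1 hX with rfl | ⟨y', hy', rfl⟩
      · rw [hPN X y hy]; exact hPC
      · rw [← mul_smul]
        exact Or.inr ⟨y * y', (P : Subgroup G).mul_mem hy hy', rfl⟩
    intro y hy
    exact hcrit y (key y hy) (key y⁻¹ ((P : Subgroup G).inv_mem hy))
  -- `Q ≤ H`
  have hQH : ∀ y ∈ (Q : Subgroup G), y ∈ H := by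
    have key : ∀ y ∈ (Q : Subgroup G), ∀ X ∈ C, y • X ∈ C := by
      intro y hy X hX
      rcases (hCmem' X).1 hX with rfl | ⟨y', hy', rfl⟩
      · rw [hPN X y hy]; exact hQC
      · rw [← mul_smul]
        exact (hCmem' _).2 (Or.inr ⟨y * y', (Q : Subgroup G).mul_mem hy hy', rfl⟩)
    intro y hy
    exact hcrit y (key y hy) (key y⁻¹ ((Q : Subgroup G).inv_mem hy))
  -- `K = N(P) ⊓ N(Q) ≤ H`
  have hKH : ∀ k ∈ NN P ⊓ NN Q, k ∈ H := by
    have key : ∀ k ∈ NN P ⊓ NN Q, ∀ X ∈ C, k • X ∈ C := by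
      intro k hk X hX
      have hkP : k • P = P := mem_NN_iff.1 hk.1
      have hkQ : k • Q = Q := mem_NN_iff.1 hk.2
      rcases (hCmem X).1 hX with rfl | ⟨y, hy, rfl⟩
      · rw [hkP]; exact hPC
      · refine Or.inr ⟨k * y * k⁻¹, ?_, ?_⟩
        · exact (Subgroup.mem_normalizer_iff.1 hk.1 y).1 hy
        · rw [← mul_smul]
          nth_rewrite 2 [← hkQ]
          rw [← mul_smul]
          congr 1
          group
    intro k hk
    exact hcrit k (key k hk) (key k⁻¹ ((NN P ⊓ NN Q).inv_mem hk))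
  -- freeness: `y ↦ y • Q` is injective on `P`
  have hfree : ∀ y ∈ (P : Subgroup G), ∀ y' ∈ (P : Subgroup G), y • Q = y' • Q → y = y' := by
    intro y hy y' hy' hyy
    have h1 : (y'⁻¹ * y) • Q = Q := by rw [mul_smul, hyy, inv_smul_smul]
    have h2 := hl.free P Q hne (y'⁻¹ * y) ((P : Subgroup G).mul_mem ((P : Subgroup G).inv_mem hy') hy) h1
    have h3 : y = y' * (y'⁻¹ * y) := by group
    rw [h3, h2, mul_one]
  have hnotP : ∀ y ∈ (P : Subgroup G), y • Q ≠ P := by
    intro y hy hh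
    apply hne
    rw [← hPN P y hy] at hh
    exact (smul_left_cancel y hh).symm
  -- the orbit of `Q` under `P`, as a set: nine elements
  set O : Set (Sylow 3 G) := {X | ∃ y ∈ (P : Subgroup G), X = y • Q} with hO
  have hOcard : O.ncard = 9 := by
    have h1 : O = Set.range (fun y : (P : Subgroup G) => (y : G) • Q) := by
      ext X
      constructor
      · rintro ⟨y, hy, rfl⟩
        exact ⟨⟨y, hy⟩, rfl⟩
      · rintro ⟨y, rfl⟩
        exact ⟨y.1, y.2, rfl⟩
    have hinj : Function.Injective (fun y : (P : Subgroup G) => (y : G) • Q) := by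
      intro a b hab
      exact Subtype.ext (hfree a.1 a.2 b.1 b.2 hab)
    rw [h1, ← Set.image_univ, Set.ncard_image_of_injective _ hinj, Set.ncard_univ, hp.cardP P]
  have hCO : C = insert P O := by
    ext X
    rw [Set.mem_insert_iff]
    rfl
  have hPO : P ∉ O := by
    rintro ⟨y, hy, hh⟩
    exact hnotP y hy hh.symm
  have hCcard : C.ncard = 10 := by
    rw [hCO, Set.ncard_insert_of_notMem hPO (Set.toFinite O), hOcard]
  -- the orbit of `P` under `H` is `C`
  obtain ⟨q, hqQ, hq1⟩ : ∃ q ∈ (Q : Subgroup G), q ≠ 1 := by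
    have h9 := hp.cardP Q
    by_contra hcon
    push Not at hcon
    have hbot : (Q : Subgroup G) = ⊥ := by
      rw [Subgroup.eq_bot_iff_forall]
      exact hcon
    rw [hbot, Subgroup.card_bot] at h9
    omega
  have hqP : q • P ∈ O := by
    have h1 : q • P ∈ C := (hHmem q).1 (hQH q hqQ) P |>.1 hPC
    rcases (hCmem _).1 h1 with h2 | h2
    · exact absurd (hl.free Q P hne.symm q hqQ h2) hq1
    · exact h2
  obtain ⟨y₀, hy₀, hy₀q⟩ := hqP
  have hQorb : ∃ g ∈ H, g • P = Q := by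
    refine ⟨y₀⁻¹ * q, H.mul_mem (H.inv_mem (hPH y₀ hy₀)) (hQH q hqQ), ?_⟩
    rw [mul_smul, hy₀q, inv_smul_smul]
  have horbH : MulAction.orbit H P = C := by
    ext X
    rw [mem_orbit_subgroup_iff]
    constructor
    · rintro ⟨g, hg, rfl⟩
      exact ((hHmem g).1 hg P).1 hPC
    · intro hX
      rcases (hCmem X).1 hX with rfl | ⟨y, hy, rfl⟩
      · exact ⟨1, H.one_mem, one_smul _ _⟩
      · obtain ⟨g, hg, hgP⟩ := hQorb
        exact ⟨y * g, H.mul_mem (hPH y hy) hg, by rw [mul_smul, hgP]⟩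
  -- the orbit of `Q` under `H ⊓ N(P)` is `O`
  have horbL : MulAction.orbit ↥(H ⊓ NN P) Q = O := by
    ext X
    rw [mem_orbit_subgroup_iff]
    constructor
    · rintro ⟨g, hg, rfl⟩
      have h1 : g • Q ∈ C := ((hHmem g).1 hg.1 Q).1 hQC
      rcases (hCmem _).1 h1 with h2 | h2
      · exfalso
        apply hne
        have hgP : g • P = P := mem_NN_iff.1 hg.2
        rw [← hgP] at h2
        exact (smul_left_cancel g h2).symm
      · exact h2
    · rintro ⟨y, hy, rfl⟩
      exact ⟨y, ⟨hPH y hy, Subgroup.le_normalizer hy⟩, rfl⟩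
  have hLK : H ⊓ NN P ⊓ NN Q = NN P ⊓ NN Q := by
    apply le_antisymm
    · intro g hg
      exact ⟨hg.1.2, hg.2⟩
    · intro g hg
      exact ⟨⟨hKH g hg, hg.1⟩, hg.2⟩
  have h1 := orbit_ncard_mul (H ⊓ NN P) Q
  rw [horbL, hOcard, hLK, hb.cardK P Q hPQ] at h1
  have h2 := orbit_ncard_mul H P
  rw [horbH, hCcard, ← h1] at h2
  have h3 := Subgroup.card_mul_index H
  rw [h.card, ← h2] at h3
  refine ⟨H, ?_⟩
  omega

end Cfsg.Agent.Lib.Helper59_M11U_A9
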