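import Mathlib
import Cfsg.Agent.Lib.Helper72_MinIdxDefs
import Cfsg.Agent.Lib.Helper72_MI_R1BCore

set_option autoImplicit false

/-!
MI-CONJ (architect helper72, S2140): transvections with the same axis are conjugate in `SL(V)`
when `dim V ≥ 3`.  The conjugating element is a product of at most two transvections with centre
in `ker φ`.
-/

namespace Cfsg.Agent.Lib.Helper59_MI_CONJ

open Module Cfsg.Agent.Lib.Helper72_MinIdxDefs Cfsg.Agent.Lib.Helper72_MI_R1BCore

variable {F : Type*} [Field F] {V : Type*} [AddCommGroup V] [Module F V]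

/-- a functional vanishing on `W` with a prescribed value at `x ∉ W` -/
theorem exists_functional (W : Submodule F V) (x : V) (hx : x ∉ W) (c : F) :
    ∃ χ : Dual F V, (∀ w ∈ W, χ w = 0) ∧ χ x = c := by
  obtain ⟨f, hfx, hf⟩ := Submodule.exists_dual_map_eq_bot_of_notMem hx inferInstance
  refine ⟨(c / f x) • f, ?_, ?_⟩
  · intro w hw
    have : f w ∈ W.map f := Submodule.mem_map_of_mem hw
    rw [hf, Submodule.mem_bot] at this
    rw [LinearMap.smul_apply, this, smul_zero]
  · rw [LinearMap.smul_apply, smul_eq_mul, div_mul_cancel₀ _ hfx]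

/-- one transvection with centre in `ker φ` moving `w` to `w'` (`w' ∉ F w`) -/
theorem exists_step (φ : Dual F V) (w w' : V) (h : φ w = 0) (h' : φ w' = 0) (hw : w ≠ 0)
    (hnot : w' ∉ Submodule.span F {w}) :
    ∃ g : SpecialLinearGroup F V, g w = w' ∧ ∀ x, φ (g x) = φ x := by
  have h1 : w ∉ Submodule.span F {w' - w} := by
    intro hmem
    obtain ⟨a, ha⟩ := Submodule.mem_span_singleton.1 hmem
    have ha0 : a ≠ 0 := by
      rintro rfl
      rw [zero_smul] at ha
      exact hw ha.symm
    apply hnot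
    rw [Submodule.mem_span_singleton]
    refine ⟨(1 + a) / a, ?_⟩
    have h2 : a • w' = (1 + a) • w := by
      rw [smul_sub, sub_eq_iff_eq_add] at ha
      rw [ha, add_smul, one_smul]
    rw [div_eq_inv_mul, mul_smul, ← h2, smul_smul, inv_mul_cancel₀ ha0, one_smul]
  obtain ⟨ψ, hψ0, hψ1⟩ := exists_functional (Submodule.span F {w' - w}) w h1 1
  have hψu : ψ (w' - w) = 0 := hψ0 _ (Submodule.mem_span_singleton_self _)
  refine ⟨tv ψ (w' - w) hψu, ?_, ?_⟩
  · rw [tv_apply, hψ1, one_smul, add_sub_cancel]
  · intro x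
    rw [tv_apply, map_add, map_smul, map_sub, h', h, sub_zero, smul_zero, add_zero]

/-- conjugation by an element preserving `φ` and moving `w` to `w'` -/
theorem conj_of_map (φ : Dual F V) (w w' : V) (h : φ w = 0) (h' : φ w' = 0)
    (g : SpecialLinearGroup F V) (hg : g w = w') (hφ : ∀ x, φ (g x) = φ x) :
    g * tv φ w h * g⁻¹ = tv φ w' h' := by
  rw [conj_tv]
  apply tv_congr
  · apply LinearMap.ext
    intro x
    show φ (g⁻¹ x) = φ x
    rw [← hφ (g⁻¹ x), apply_inv_self']
  · exact hg

theorem tv_conj_same_axis [Module.Finite F V] (hn : 3 ≤ finrank F V) (φ : Dual F V) (w w' : V)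
    (h : φ w = 0) (h' : φ w' = 0) (hw : w ≠ 0) (hw' : w' ≠ 0) :
    ∃ g : SpecialLinearGroup F V, g * tv φ w h * g⁻¹ = tv φ w' h' := by
  classical
  by_cases hdep : w' ∈ Submodule.span F {w}
  · -- dependent: go through a third vector of `ker φ`
    have hker : 2 ≤ finrank F (LinearMap.ker φ) := by
      have h1 := LinearMap.finrank_range_add_finrank_ker φ
      have h2 : finrank F (LinearMap.range φ) ≤ 1 := by
        have := Submodule.finrank_le (LinearMap.range φ)
        rwa [finrank_self] at this
      omega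
    obtain ⟨w'', hw''W, hw''⟩ : ∃ x ∈ LinearMap.ker φ, x ∉ Submodule.span F {w} := by
      by_contra hcon
      push Not at hcon
      have hle : LinearMap.ker φ ≤ Submodule.span F {w} := hcon
      have h3 := Submodule.finrank_mono hle
      have h4 : finrank F (Submodule.span F {w}) = 1 := finrank_span_singleton hw
      omega
    have hφw'' : φ w'' = 0 := LinearMap.mem_ker.1 hw''W
    have hw''0 : w'' ≠ 0 := by
      rintro rfl
      exact hw'' (Submodule.zero_mem _)
    have hnot2 : w' ∉ Submodule.span F {w''} := by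
      intro hmem
      obtain ⟨a, ha⟩ := Submodule.mem_span_singleton.1 hmem
      have ha0 : a ≠ 0 := by
        rintro rfl
        rw [zero_smul] at ha
        exact hw' ha.symm
      apply hw''
      have : w'' = a⁻¹ • w' := by
        rw [← ha, smul_smul, inv_mul_cancel₀ ha0, one_smul]
      rw [this]
      exact Submodule.smul_mem _ _ hdep
    obtain ⟨g1, hg1, hφ1⟩ := exists_step φ w w'' h hφw'' hw hw''
    obtain ⟨g2, hg2, hφ2⟩ := exists_step φ w'' w' hφw'' h' hw''0 hnot2
    refine ⟨g2 * g1, conj_of_map φ w w' h h' (g2 * g1) ?_ ?_⟩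
    · rw [mul_apply', hg1, hg2]
    · intro x
      rw [mul_apply', hφ2, hφ1]
  · obtain ⟨g, hg, hφg⟩ := exists_step φ w w' h h' hw hdep
    exact ⟨g, conj_of_map φ w w' h h' g hg hφg⟩

end Cfsg.Agent.Lib.Helper59_MI_CONJ
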