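import Mathlib
import Cfsg.Agent.Lib.Helper72_MinIdxDefs
import Cfsg.Agent.Lib.Helper72_MI_R1BCore

set_option autoImplicit false

/-!
MI-R2 (architect helper72, S2140): the configuration R2 is impossible when `dim V ≥ 3`:
there is no subgroup `H` of `SL(V)` such that for every `φ ≠ 0` the transvections `tv φ w` in `H`
are exactly those with `w` in a subspace `U_φ ≤ ker φ` of codimension 2 in `V`.
-/

namespace Cfsg.Agent.Lib.Helper59_MI_R2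

open Module Cfsg.Agent.Lib.Helper72_MinIdxDefs Cfsg.Agent.Lib.Helper72_MI_R1BCore

variable {F : Type*} [Field F] {V : Type*} [AddCommGroup V] [Module F V]

/-- the commutator of two transvections, the centre of the second lying on both axes -/
theorem comm_tv (φ₁ φ₂ : Dual F V) (u u' : V) (h1 : φ₁ u = 0) (h2 : φ₂ u' = 0)
    (h3 : φ₁ u' = 0) :
    tv φ₁ u h1 * tv φ₂ u' h2 * (tv φ₁ u h1)⁻¹ * (tv φ₂ u' h2)⁻¹ =
      tv φ₁ (-(φ₂ u) • u') (by rw [map_smul, h3, smul_zero]) := by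
  rw [tv_inv, tv_inv]
  apply SpecialLinearGroup.ext
  intro x
  simp only [mul_apply', tv_apply, map_add, map_smul, map_neg, h1, h2, h3]
  module

/-- `U` is the subspace attached to `φ` in configuration R2 -/
def IsU (H : Subgroup (SpecialLinearGroup F V)) (φ : Dual F V) (U : Submodule F V) : Prop :=
  U ≤ LinearMap.ker φ ∧ finrank F U + 2 = finrank F V ∧
    ∀ (w : V) (h : φ w = 0), tv φ w h ∈ H ↔ w ∈ U

/-- (*) : `U₁ ⊄ ker φ₂ ⇒ U₂ ∩ ker φ₁ ⊆ U₁` -/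
theorem star_lemma {H : Subgroup (SpecialLinearGroup F V)} {φ₁ φ₂ : Dual F V}
    {U₁ U₂ : Submodule F V} (hI₁ : IsU H φ₁ U₁) (hI₂ : IsU H φ₂ U₂)
    (hnot : ¬ U₁ ≤ LinearMap.ker φ₂) : U₂ ⊓ LinearMap.ker φ₁ ≤ U₁ := by
  obtain ⟨u, huU, hu⟩ := Set.not_subset.1 hnot
  have huU' : u ∈ U₁ := huU
  have hu' : φ₂ u ≠ 0 := fun h => hu (LinearMap.mem_ker.2 h)
  have h1 : φ₁ u = 0 := LinearMap.mem_ker.1 (hI₁.1 huU')
  intro u' hu'mem
  obtain ⟨hu'U, hu'k⟩ := Submodule.mem_inf.1 hu'mem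
  have h2 : φ₂ u' = 0 := LinearMap.mem_ker.1 (hI₂.1 hu'U)
  have h3 : φ₁ u' = 0 := LinearMap.mem_ker.1 hu'k
  have hm1 : tv φ₁ u h1 ∈ H := (hI₁.2.2 u h1).2 huU'
  have hm2 : tv φ₂ u' h2 ∈ H := (hI₂.2.2 u' h2).2 hu'U
  have hc : tv φ₁ u h1 * tv φ₂ u' h2 * (tv φ₁ u h1)⁻¹ * (tv φ₂ u' h2)⁻¹ ∈ H :=
    H.mul_mem (H.mul_mem (H.mul_mem hm1 hm2) (H.inv_mem hm1)) (H.inv_mem hm2)
  rw [comm_tv φ₁ φ₂ u u' h1 h2 h3] at hc
  have h4 : -(φ₂ u) • u' ∈ U₁ := (hI₁.2.2 _ _).1 hc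
  have h5 := U₁.smul_mem (-(φ₂ u))⁻¹ h4
  rwa [smul_smul, inv_mul_cancel₀ (neg_ne_zero.2 hu'), one_smul] at h5

section fin

variable [Module.Finite F V]

theorem finrank_inf_ker {φ₁ φ₂ : Dual F V} (hφ₁ : φ₁ ≠ 0) (hφ₂ : φ₂ ≠ 0)
    (hne : LinearMap.ker φ₁ ≠ LinearMap.ker φ₂) :
    finrank F ↥(LinearMap.ker φ₁ ⊓ LinearMap.ker φ₂) + 2 ≤ finrank F V := by
  have h1 := Module.Dual.finrank_ker_add_one_of_ne_zero hφ₁
  have h2 := Module.Dual.finrank_ker_add_one_of_ne_zero hφ₂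
  have hnle : ¬ LinearMap.ker φ₁ ≤ LinearMap.ker φ₂ := by
    intro hle
    exact hne (Submodule.eq_of_le_of_finrank_eq hle (by omega))
  have hlt : LinearMap.ker φ₁ ⊓ LinearMap.ker φ₂ < LinearMap.ker φ₁ := by
    refine lt_of_le_of_ne inf_le_left ?_
    intro h
    exact hnle (h ▸ inf_le_right)
  have := Submodule.finrank_lt_finrank_of_lt hlt
  omega

/-- Case 1: `U₁ ⊆ ker φ₂` -/
theorem case_one {H : Subgroup (SpecialLinearGroup F V)} {φ₁ φ₂ : Dual F V}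
    {U₁ U₂ : Submodule F V} (hφ₁ : φ₁ ≠ 0) (hφ₂ : φ₂ ≠ 0) (hI₁ : IsU H φ₁ U₁) (hI₂ : IsU H φ₂ U₂)
    (hne : LinearMap.ker φ₁ ≠ LinearMap.ker φ₂) (hle : U₁ ≤ LinearMap.ker φ₂) :
    U₁ = LinearMap.ker φ₁ ⊓ LinearMap.ker φ₂ ∧ U₂ = LinearMap.ker φ₁ ⊓ LinearMap.ker φ₂ := by
  have hfin := finrank_inf_ker hφ₁ hφ₂ hne
  have hU₁ : U₁ = LinearMap.ker φ₁ ⊓ LinearMap.ker φ₂ :=
    Submodule.eq_of_le_of_finrank_le (le_inf hI₁.1 hle) (by have := hI₁.2.1; omega)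
  have hU₂le : U₂ ≤ LinearMap.ker φ₁ := by
    by_contra hnot
    have h1 := star_lemma hI₂ hI₁ hnot
    have h2 : U₁ ≤ U₂ := by
      intro x hx
      exact h1 (Submodule.mem_inf.2 ⟨hx, hle hx⟩)
    have h3 : U₁ = U₂ :=
      Submodule.eq_of_le_of_finrank_le h2 (by have := hI₁.2.1; have := hI₂.2.1; omega)
    exact hnot (h3 ▸ hI₁.1)
  refine ⟨hU₁, ?_⟩
  exact Submodule.eq_of_le_of_finrank_le (le_inf hU₂le hI₂.1) (by have := hI₂.2.1; omega)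

/-- Case 2 is impossible -/
theorem case_two {H : Subgroup (SpecialLinearGroup F V)}
    (hR2 : ∀ φ : Dual F V, φ ≠ 0 → ∃ U : Submodule F V, IsU H φ U)
    {φ₁ φ₂ : Dual F V}
    {U₁ U₂ : Submodule F V} (hφ₁ : φ₁ ≠ 0) (hφ₂ : φ₂ ≠ 0) (hI₁ : IsU H φ₁ U₁) (hI₂ : IsU H φ₂ U₂)
    (hn1 : ¬ U₁ ≤ LinearMap.ker φ₂) (hn2 : ¬ U₂ ≤ LinearMap.ker φ₁) : False := by
  have hs1 := star_lemma hI₁ hI₂ hn1
  have hne : U₁ ≠ U₂ := by
    intro h
    exact hn1 (h ▸ hI₂.1)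
  have hk1 := Module.Dual.finrank_ker_add_one_of_ne_zero hφ₁
  -- `dim (U₂ ∩ W₁) ≥ n - 3`
  have hd1 := Submodule.finrank_sup_add_finrank_inf_eq U₂ (LinearMap.ker φ₁)
  have hd2 := Submodule.finrank_le (U₂ ⊔ LinearMap.ker φ₁)
  have hd3 : finrank F ↥(U₂ ⊓ LinearMap.ker φ₁) ≤ finrank F ↥(U₁ ⊓ U₂) :=
    Submodule.finrank_mono (le_inf hs1 inf_le_left)
  have hd4 := Submodule.finrank_sup_add_finrank_inf_eq U₁ U₂
  have hlt : U₁ ⊔ U₂ < ⊤ := by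
    refine lt_of_le_of_ne le_top ?_
    intro h
    rw [h, finrank_top] at hd4
    have := hI₁.2.1
    have := hI₂.2.1
    omega
  obtain ⟨φ₃, hφ₃, hmap⟩ := Submodule.exists_dual_map_eq_bot_of_lt_top hlt inferInstance
  have hle3 : U₁ ⊔ U₂ ≤ LinearMap.ker φ₃ := by
    intro x hx
    have : φ₃ x ∈ (U₁ ⊔ U₂).map φ₃ := Submodule.mem_map_of_mem hx
    rw [hmap, Submodule.mem_bot] at this
    exact LinearMap.mem_ker.2 this
  obtain ⟨U₃, hI₃⟩ := hR2 φ₃ hφ₃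
  have hne13 : LinearMap.ker φ₁ ≠ LinearMap.ker φ₃ := by
    intro h
    exact hn2 (h ▸ le_sup_right.trans hle3)
  have hne23 : LinearMap.ker φ₂ ≠ LinearMap.ker φ₃ := by
    intro h
    exact hn1 (h ▸ le_sup_left.trans hle3)
  obtain ⟨h13a, h13b⟩ := case_one hφ₁ hφ₃ hI₁ hI₃ hne13 (le_sup_left.trans hle3)
  obtain ⟨h23a, h23b⟩ := case_one hφ₂ hφ₃ hI₂ hI₃ hne23 (le_sup_right.trans hle3)
  exact hne (h13a.trans (h13b.symm.trans (h23b.trans h23a.symm)))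

theorem R2_false (hn : 3 ≤ finrank F V)
    (H : Subgroup (SpecialLinearGroup F V))
    (hR2 : ∀ φ : Dual F V, φ ≠ 0 → ∃ U : Submodule F V, U ≤ LinearMap.ker φ ∧
      finrank F U + 2 = finrank F V ∧ ∀ (w : V) (h : φ w = 0), tv φ w h ∈ H ↔ w ∈ U) :
    False := by
  classical
  have hR2' : ∀ φ : Dual F V, φ ≠ 0 → ∃ U : Submodule F V, IsU H φ U := hR2
  -- a nonzero functional
  have hnt : Nontrivial V := Module.nontrivial_of_finrank_pos (R := F) (by omega)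
  obtain ⟨v₀, hv₀⟩ := exists_ne (0 : V)
  obtain ⟨φ₁, hφ₁v⟩ : ∃ φ : Dual F V, φ v₀ ≠ 0 := by
    by_contra hcon
    push Not at hcon
    exact hv₀ ((Module.forall_dual_apply_eq_zero_iff F v₀).1 hcon)
  have hφ₁ : φ₁ ≠ 0 := by
    rintro rfl
    exact hφ₁v rfl
  obtain ⟨U₁, hI₁⟩ := hR2' φ₁ hφ₁
  -- `U₁` lies in every hyperplane
  have hall : ∀ φ : Dual F V, U₁ ≤ LinearMap.ker φ := by
    intro φ
    by_cases hφ : φ = 0
    · rw [hφ, LinearMap.ker_zero]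
      exact le_top
    by_cases hk : LinearMap.ker φ₁ = LinearMap.ker φ
    · rw [← hk]
      exact hI₁.1
    obtain ⟨U, hI⟩ := hR2' φ hφ
    by_cases hc1 : U₁ ≤ LinearMap.ker φ
    · exact hc1
    by_cases hc2 : U ≤ LinearMap.ker φ₁
    · have := (case_one hφ hφ₁ hI hI₁ (Ne.symm hk) hc2).2
      rw [this]
      exact inf_le_left
    · exact (case_two hR2' hφ₁ hφ hI₁ hI hc1 hc2).elim
  have hbot : U₁ = ⊥ := by
    rw [Submodule.eq_bot_iff]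
    intro x hx
    apply (Module.forall_dual_apply_eq_zero_iff F x).1
    intro φ
    exact LinearMap.mem_ker.1 (hall φ hx)
  have := hI₁.2.1
  rw [hbot, finrank_bot] at this
  omega

end fin

end Cfsg.Agent.Lib.Helper59_MI_R2
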