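import Mathlib
import Cfsg.Agent.Lib.Helper32_OFDefs

/-!
# S5679 + S5696 (orthogonal frames), package OF-C0 (architect helper32).
-/

set_option autoImplicit false

namespace Cfsg.Agent.Lib.Helper91_OF_C0

open Module Cfsg.Agent.Lib.Helper94_Symp Cfsg.Agent.Lib.Helper94_OrthSmall
  Cfsg.Agent.Lib.Helper94_OrthSiegel Cfsg.Agent.Lib.Helper94_OrthSiegel2
  Cfsg.Agent.Lib.Helper94_OrthNondeg Cfsg.Agent.Lib.Helper29_ODDefs
  Cfsg.Agent.Lib.Helper32_OFDefs

variable {F V : Type*} [Field F] [AddCommGroup V] [Module F V]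
variable {Q : V → F} {B : LinearMap.BilinForm F V}
variable {ι : Type*} [Fintype ι] [DecidableEq ι] {c : F} {e : ι → V}
variable {M : Subgroup (V ≃ₗ[F] V)}

/-- a third index -/
theorem exists_third (hn : 3 ≤ Fintype.card ι) (i j : ι) : ∃ m : ι, m ≠ i ∧ m ≠ j := by
  by_contra hcon
  have hsub : (Finset.univ : Finset ι) ⊆ {i, j} := by
    intro m _
    by_contra hm
    apply hcon
    simp only [Finset.mem_insert, Finset.mem_singleton, not_or] at hm
    exact ⟨m, hm.1, hm.2⟩
  have h1 := Finset.card_le_card hsub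
  have h2 : ({i, j} : Finset ι).card ≤ 2 := Finset.card_le_two
  rw [Finset.card_univ] at h1
  omega

/-- OF-C0. -/
theorem C0 (hC : CCtx Q B c e M) (hn : 3 ≤ Fintype.card ι) : PropC0 e M := by
  intro g hg i j hij
  by_cases hji : j = i
  · rw [hji] at hij
    exact hC.hC g hg i hij
  · obtain ⟨m, hmi, hmj⟩ := exists_third hn i j
    obtain ⟨τ, hτM, hτj, hτi, hτm, hτo⟩ := hC.mon.h3 j i m hji (Ne.symm hmj) (Ne.symm hmi)
    have hτmon : IsMon e τ := by
      intro k
      by_cases hkj : k = j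
      · exact ⟨i, Or.inl (by rw [hkj, hτj])⟩
      · by_cases hki : k = i
        · exact ⟨m, Or.inl (by rw [hki, hτi])⟩
        · by_cases hkm : k = m
          · exact ⟨j, Or.inl (by rw [hkm, hτm])⟩
          · exact ⟨k, Or.inl (hτo k hkj hki hkm)⟩
    have h1 : (τ * g) (e i) = e i ∨ (τ * g) (e i) = -e i := by
      rw [LinearEquiv.mul_apply]
      rcases hij with h | h
      · left; rw [h, hτj]
      · right; rw [h, map_neg, hτj]
    have h2 : IsMon e (τ * g) := hC.hC (τ * g) (M.mul_mem hτM hg) i h1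
    have h3 : IsMon e (τ⁻¹ * (τ * g)) := IsMon.mul (hC.fr.isMon_inv hτmon) h2
    rwa [inv_mul_cancel_left] at h3

end Cfsg.Agent.Lib.Helper91_OF_C0
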