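import Mathlib
import Cfsg.Agent.Lib.Helper32_OFDefs
import Cfsg.Agent.Lib.Helper31_OF_API
import Cfsg.Agent.Lib.Helper7_OF_DIH
import Cfsg.Agent.Lib.Helper18_OF_V
import Cfsg.Agent.Lib.Helper44_OF_MOVED
import Cfsg.Agent.Lib.Helper91_OF_C0
import Cfsg.Agent.Lib.Helper21_OF_FUScore

/-!
# Orthogonal frames, case (C), in dimension `n ≥ 10` (helper59)

helper32's THEOREM C (`pending/helper32/OrthFrames_notes.md`; packages OF-VJ, OF-B, OF-FUS for
`n ≥ 13`) holds for `n ≥ 10`: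

* `mon_of_zeros` : a column of `g ∈ M` with at least five zero coordinates forces `g` monomial
  (Lemma V + (C0); this is the second half of the proof of OF-VJ);
* `PB9`  : (B) for `n ≥ 9`, without (VJ): the conjugate `t = g z_{ab} g⁻¹` fixes `e l`, so is
  monomial, and the column `g e_a` is supported on the moved set of `t` (at most four indices);
* `VJ10` : (VJ) for `n ≥ 10`: by `PB9` applied to `g⁻¹` every column of a non-monomial `g` has at
  most one zero, but `g e_j` (`j ∈ J`) is supported on the moved set of `t` (at most eight indices);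
* `FUS10`: the fusion argument of OF-FUS (it only needs `n - 8 ≥ 2`).
-/

set_option autoImplicit false
set_option linter.unusedSectionVars false
set_option linter.unusedVariables false

namespace Cfsg.Agent.Lib.Helper59_OF10

open Module Cfsg.Agent.Lib.Helper94_Symp Cfsg.Agent.Lib.Helper94_OrthSmall
  Cfsg.Agent.Lib.Helper32_OFDefs

variable {F V : Type*} [Field F] [AddCommGroup V] [Module F V]
variable {Q : V → F} {B : LinearMap.BilinForm F V}
variable {ι : Type*} [Fintype ι] [DecidableEq ι] {c : F} {e : ι → V}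
variable {M : Subgroup (V ≃ₗ[F] V)}

/-- A column of `g ∈ M` vanishing outside a set `S` with `|Sᶜ| ≥ 5` forces `g` to be monomial. -/
theorem mon_of_zeros (hC : CCtx Q B c e M) (h0 : PropC0 e M) (hV : PropV B c e M)
    {g : V ≃ₗ[F] V} (hg : g ∈ M) (j : ι) (S : Finset ι) (hSc : 5 ≤ Sᶜ.card)
    (hxS : ∀ i, i ∉ S → B (g (e j)) (e i) = 0) : IsMon e g := by
  classical
  have hfr := hC.fr
  have hgO : g ∈ oG Q := hC.hMO hg
  have hfix : ∀ h : V ≃ₗ[F] V, (∀ i ∈ S, h (e i) = e i) → h (g (e j)) = g (e j) := by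
    intro h hh
    have key : h (∑ i, ((2 * c)⁻¹ * B (g (e j)) (e i)) • e i)
        = ∑ i, ((2 * c)⁻¹ * B (g (e j)) (e i)) • e i := by
      rw [map_sum]
      refine Finset.sum_congr rfl (fun i _ => ?_)
      rw [map_smul]
      by_cases hi : i ∈ S
      · rw [hh i hi]
      · rw [hxS i hi, mul_zero, zero_smul, zero_smul]
    rw [← hfr.exp (g (e j))] at key
    exact key
  have hex : ∃ a k, k ∉ S ∧ B (g (e a)) (e k) ≠ 0 := by
    by_contra hcon
    push Not at hcon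
    have hpos : 0 < Sᶜ.card := by omega
    obtain ⟨k, hk⟩ := Finset.card_pos.mp hpos
    have hkS : k ∉ S := Finset.mem_compl.mp hk
    have hz : g⁻¹ (e k) = 0 := by
      apply hfr.ext
      intro a
      rw [map_zero, LinearMap.zero_apply, hfr.symm]
      have h1 := oG_B Q B hfr.hQp hgO (e a) (g⁻¹ (e k))
      rw [apply_inv_apply'] at h1
      rw [← h1]
      exact hcon a k hkS
    have : e k = 0 := by
      have h2 : g (g⁻¹ (e k)) = g 0 := by rw [hz]
      rw [apply_inv_apply', map_zero] at h2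
      exact h2
    exact hfr.e_ne_zero k this
  obtain ⟨a, k, hkS, hak⟩ := hex
  have hyy : B (g (e a)) (g (e a)) = 2 * c := by
    rw [oG_B Q B hfr.hQp hgO, hfr.Bee]
  have hcond : ∀ h ∈ M, (∀ i ∈ S, h (e i) = e i) →
      (h (g (e a)) = g (e a) ∨ h (g (e a)) = -g (e a) ∨ B (h (g (e a))) (g (e a)) = 0) := by
    intro h hhM hh
    have hxfix := hfix h hh
    have hk0M : g⁻¹ * h * g ∈ M :=
      Subgroup.mul_mem _ (Subgroup.mul_mem _ (Subgroup.inv_mem _ hg) hhM) hg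
    have hk0j : (g⁻¹ * h * g) (e j) = e j := by
      rw [LinearEquiv.mul_apply, LinearEquiv.mul_apply, hxfix, inv_apply_apply']
    have hk0mon : IsMon e (g⁻¹ * h * g) := hC.hC _ hk0M j (Or.inl hk0j)
    obtain ⟨b, hb⟩ := hk0mon a
    have hhy : h (g (e a)) = g ((g⁻¹ * h * g) (e a)) := by
      rw [LinearEquiv.mul_apply, LinearEquiv.mul_apply, apply_inv_apply']
    rcases hb with hb | hb
    · rw [hhy, hb]
      by_cases hba : b = a
      · left; rw [hba]
      · right; right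
        rw [oG_B Q B hfr.hQp hgO, hfr.orth b a hba]
    · rw [hhy, hb, map_neg]
      by_cases hba : b = a
      · right; left; rw [hba]
      · right; right
        rw [map_neg, LinearMap.neg_apply, oG_B Q B hfr.hQp hgO, hfr.orth b a hba, neg_zero]
  obtain ⟨k', hk'⟩ := hV S (g (e a)) hSc hyy ⟨k, hkS, hak⟩ hcond
  exact h0 g hg a k' hk'

/-- The column `g e_j` (`j ∈ J`) is supported on the moved set of the monomial involution
`t = g z_J g⁻¹`, which has at most `2 |J|` elements. -/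
theorem column_support [FiniteDimensional F V] (hC : CCtx Q B c e M) (hMv : PropMoved F e)
    {g : V ≃ₗ[F] V} (hg : g ∈ M) (J : Finset ι) {j : ι} (hj : j ∈ J)
    (htmon : IsMon e (g * zJ B c e J * g⁻¹)) :
    ∃ S : Finset ι, S.card ≤ 2 * J.card ∧ ∀ i, i ∉ S → B (g (e j)) (e i) = 0 := by
  classical
  have hfr := hC.fr
  have hgO : g ∈ oG Q := hC.hMO hg
  have htO : g * zJ B c e J * g⁻¹ ∈ oG Q :=
    Subgroup.mul_mem _ (Subgroup.mul_mem _ hgO (hfr.zJ_mem_oG J)) (Subgroup.inv_mem _ hgO)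
  have htt : (g * zJ B c e J * g⁻¹) * (g * zJ B c e J * g⁻¹) = 1 := by
    have h1 := hfr.zJ_mul_self J
    calc g * zJ B c e J * g⁻¹ * (g * zJ B c e J * g⁻¹)
        = g * (zJ B c e J * zJ B c e J) * g⁻¹ := by group
      _ = 1 := by rw [h1]; group
  have hW : ∀ x, x - (g * zJ B c e J * g⁻¹) x
      ∈ Submodule.span F ((fun j => g (e j)) '' (J : Set ι)) := by
    intro x
    have h1 : x - (g * zJ B c e J * g⁻¹) x = g (g⁻¹ x - zJ B c e J (g⁻¹ x)) := by
      rw [LinearEquiv.mul_apply, LinearEquiv.mul_apply, map_sub, apply_inv_apply']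
    rw [h1, hfr.zJ_apply, sub_sub_cancel, map_sum]
    refine Submodule.sum_mem _ (fun j hj => ?_)
    rw [map_smul]
    exact Submodule.smul_mem _ _ (Submodule.subset_span ⟨j, hj, rfl⟩)
  have hWr : finrank F (Submodule.span F ((fun j => g (e j)) '' (J : Set ι))) ≤ J.card := by
    have h2 : ((fun j => g (e j)) '' (J : Set ι))
        = ((J.image (fun j => g (e j)) : Finset V) : Set V) := by
      rw [Finset.coe_image]
    rw [h2]
    exact le_trans (finrank_span_finset_le_card _) Finset.card_image_le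
  have hmv := hMv (g * zJ B c e J * g⁻¹) htmon htt _ hW
  have htx : (g * zJ B c e J * g⁻¹) (g (e j)) = -g (e j) := by
    rw [LinearEquiv.mul_apply, LinearEquiv.mul_apply, inv_apply_apply', hfr.zJ_e_mem hj, map_neg]
  refine ⟨Finset.univ.filter (fun i => (g * zJ B c e J * g⁻¹) (e i) ≠ e i),
    le_trans hmv (by omega), ?_⟩
  intro i hi
  have hti : (g * zJ B c e J * g⁻¹) (e i) = e i := by
    by_contra hne
    exact hi (Finset.mem_filter.mpr ⟨Finset.mem_univ _, hne⟩)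
  have h1 := oG_B Q B hfr.hQp htO (g (e j)) (e i)
  rw [htx, hti, map_neg, LinearMap.neg_apply] at h1
  have h2 : (2 : F) * B (g (e j)) (e i) = 0 := by linear_combination -h1
  rcases mul_eq_zero.mp h2 with h3 | h3
  · exact absurd h3 hfr.h2
  · exact h3

/-- (B) for `n ≥ 9`, without (VJ). -/
theorem PB9 [FiniteDimensional F V] (hC : CCtx Q B c e M) (hn : 9 ≤ Fintype.card ι)
    (h0 : PropC0 e M) (hV : PropV B c e M) (hMv : PropMoved F e) : PropB B e M := by
  classical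
  intro g hg a b l hab ha hb
  have hfr : OFr Q B c e := hC.fr
  have hgO : g ∈ oG Q := hC.hMO hg
  have hz : zJ B c e {a, b} ∈ M := hC.mon.hz a b hab
  have ht : g * zJ B c e {a, b} * g⁻¹ ∈ M := M.mul_mem (M.mul_mem hg hz) (M.inv_mem hg)
  have hfix : zJ B c e {a, b} (g⁻¹ (e l)) = g⁻¹ (e l) := by
    rw [Cfsg.Agent.Lib.Helper31_OF_API.zJ_fix_iff hfr]
    intro j hj
    rw [Cfsg.Agent.Lib.Helper31_OF_API.B_inv_left hfr g hgO, hfr.symm]
    rw [Finset.mem_insert, Finset.mem_singleton] at hj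
    rcases hj with rfl | rfl
    · exact ha
    · exact hb
  have htl : (g * zJ B c e {a, b} * g⁻¹) (e l) = e l := by
    rw [LinearEquiv.mul_apply, LinearEquiv.mul_apply, hfix, apply_inv_apply']
  have htm : IsMon e (g * zJ B c e {a, b} * g⁻¹) := hC.hC _ ht l (Or.inl htl)
  obtain ⟨S, hScard, hxS⟩ := column_support hC hMv hg {a, b} (Finset.mem_insert_self a _) htm
  rw [Finset.card_pair hab] at hScard
  refine mon_of_zeros hC h0 hV hg a S ?_ hxS
  rw [Finset.card_compl]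
  omega

/-- Every column of a non-monomial element of `M` has at most one zero coordinate (`n ≥ 9`). -/
theorem column_zero_unique [FiniteDimensional F V] (hC : CCtx Q B c e M)
    (hB : PropB B e M) {g : V ≃ₗ[F] V} (hg : g ∈ M) (hgm : ¬ IsMon e g) (j : ι) {i i' : ι}
    (hi : B (g (e j)) (e i) = 0) (hi' : B (g (e j)) (e i') = 0) : i = i' := by
  by_contra hne
  have hfr := hC.fr
  have hgO : g ∈ oG Q := hC.hMO hg
  have h1 : B (g⁻¹ (e i)) (e j) = 0 := by
    rw [Cfsg.Agent.Lib.Helper31_OF_API.B_inv_left hfr g hgO, hfr.symm]; exact hi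
  have h2 : B (g⁻¹ (e i')) (e j) = 0 := by
    rw [Cfsg.Agent.Lib.Helper31_OF_API.B_inv_left hfr g hgO, hfr.symm]; exact hi'
  have hm : IsMon e g⁻¹ := hB g⁻¹ (M.inv_mem hg) i i' j hne h1 h2
  have := hfr.isMon_inv hm
  rw [inv_inv] at this
  exact hgm this

/-- (VJ) for `n ≥ 10`. -/
theorem VJ10 [FiniteDimensional F V] (hC : CCtx Q B c e M) (hn : 10 ≤ Fintype.card ι)
    (hB : PropB B e M) (hMv : PropMoved F e) : PropVJ B c e M := by
  classical
  intro g hg J hJne hJ4 htmon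
  by_contra hgm
  obtain ⟨j, hj⟩ := hJne
  obtain ⟨S, hScard, hxS⟩ := column_support hC hMv hg J hj htmon
  have h1 : 1 < Sᶜ.card := by
    rw [Finset.card_compl]
    omega
  obtain ⟨i, hi, i', hi', hii'⟩ := Finset.one_lt_card.mp h1
  exact hii' (column_zero_unique hC hB hg hgm j (hxS i (Finset.mem_compl.mp hi))
    (hxS i' (Finset.mem_compl.mp hi')))

/-- OF-FUS for `n ≥ 10` (copy of `Helper21_OF_FUScore.FUS_core`, which only uses `n - 8 ≥ 2`). -/
theorem FUS10_core [Finite F] [FiniteDimensional F V] (hC : CCtx Q B c e M)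
    (hn : 10 ≤ Fintype.card ι) (hVJ : PropVJ B c e M) (hB : PropB B e M)
    (hAPI : (∀ J J' : Finset ι, zJ B c e J * zJ B c e J' = zJ B c e (symmDiff J J')) ∧
      (∀ J J' : Finset ι, zJ B c e J = zJ B c e J' → J = J') ∧
      (∀ (J : Finset ι) (v : V), zJ B c e J v = v ↔ ∀ j ∈ J, B v (e j) = 0) ∧
      (∀ (J : Finset ι) (v : V), zJ B c e J v = -v ↔ ∀ i, i ∉ J → B v (e i) = 0) ∧
      (∀ g : V ≃ₗ[F] V, g ∈ oG Q → IsMon e g → ∀ J : Finset ι,
        ∃ J' : Finset ι, J'.card = J.card ∧ g * zJ B c e J * g⁻¹ = zJ B c e J') ∧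
      (∀ g : V ≃ₗ[F] V, g ∈ oG Q → ∀ x y : V, B (g⁻¹ x) y = B x (g y)) ∧
      (∀ (g : V ≃ₗ[F] V) (J : Finset ι) (x : V),
        x - (g * zJ B c e J * g⁻¹) x ∈ Submodule.span F ((fun j => g (e j)) '' (J : Set ι))))
    (hDIH : ∀ z s : V ≃ₗ[F] V, z * z = 1 → s * s = 1 → IsOfFinOrder (z * s) →
      (∃ d ∈ Subgroup.closure ({z, s} : Set (V ≃ₗ[F] V)), d * z * d⁻¹ = s) ∨
      (∃ c ∈ Subgroup.closure ({z, s} : Set (V ≃ₗ[F] V)), c ≠ 1 ∧ c * c = 1 ∧ c * z = z * c ∧
        c * s = s * c ∧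
        (∃ d ∈ Subgroup.closure ({z, s} : Set (V ≃ₗ[F] V)),
          z * c = d * z * d⁻¹ ∨ z * c = d * s * d⁻¹) ∧
        (∃ d ∈ Subgroup.closure ({z, s} : Set (V ≃ₗ[F] V)),
          s * c = d * s * d⁻¹ ∨ s * c = d * z * d⁻¹))) :
    ∀ g ∈ M, IsMon e g := by
  obtain ⟨h1, h2, h3, -, h5, -, -⟩ := hAPI
  have hfr := hC.fr
  intro g hg
  by_contra hgm
  -- four distinct indices
  obtain ⟨f⟩ := Function.Embedding.nonempty_of_card_le (α := Fin 10) (β := ι)
    (by simpa using hn)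
  have hne : ∀ a b : Fin 10, a ≠ b → f a ≠ f b := fun a b hab h => hab (f.injective h)
  obtain ⟨i1, i2, i3, i4, h12, h13, h14, h23, h24, h34⟩ :
      ∃ i1 i2 i3 i4 : ι, i1 ≠ i2 ∧ i1 ≠ i3 ∧ i1 ≠ i4 ∧ i2 ≠ i3 ∧ i2 ≠ i4 ∧ i3 ≠ i4 :=
    ⟨f 0, f 1, f 2, f 3, hne _ _ (by decide), hne _ _ (by decide), hne _ _ (by decide),
      hne _ _ (by decide), hne _ _ (by decide), hne _ _ (by decide)⟩
  obtain ⟨Jz, hJz⟩ : ∃ Jz : Finset ι, Jz = {i1, i2} := ⟨_, rfl⟩
  obtain ⟨J0, hJ0⟩ : ∃ J0 : Finset ι, J0 = {i1, i2, i3, i4} := ⟨_, rfl⟩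
  have hJzc : Jz.card = 2 := by rw [hJz]; exact Finset.card_pair h12
  have hJ0c : J0.card = 4 := by
    rw [hJ0]
    rw [Finset.card_insert_of_notMem, Finset.card_insert_of_notMem, Finset.card_pair h34]
    · simp [h23, h24]
    · simp [h12, h13, h14]
  have hJzne : Jz.Nonempty := Finset.card_pos.mp (by omega)
  have hJ0ne : J0.Nonempty := Finset.card_pos.mp (by omega)
  have hsd : symmDiff ({i1, i2} : Finset ι) {i3, i4} = J0 := by
    rw [hJ0]
    ext x
    simp only [Finset.mem_symmDiff, Finset.mem_insert, Finset.mem_singleton]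
    constructor
    · rintro (⟨h, -⟩ | ⟨h, -⟩)
      · rcases h with h | h
        · exact Or.inl h
        · exact Or.inr (Or.inl h)
      · rcases h with h | h
        · exact Or.inr (Or.inr (Or.inl h))
        · exact Or.inr (Or.inr (Or.inr h))
    · rintro (h | h | h | h)
      · left; refine ⟨Or.inl h, ?_⟩; rw [h]; rintro (h' | h'); exacts [h13 h', h14 h']
      · left; refine ⟨Or.inr h, ?_⟩; rw [h]; rintro (h' | h'); exacts [h23 h', h24 h']
      · right; refine ⟨Or.inl h, ?_⟩; rw [h]; rintro (h' | h'); exacts [h13 h'.symm, h23 h'.symm]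
      · right; refine ⟨Or.inr h, ?_⟩; rw [h]; rintro (h' | h'); exacts [h14 h'.symm, h24 h'.symm]
  obtain ⟨z, hz⟩ : ∃ z : V ≃ₗ[F] V, z = zJ B c e Jz := ⟨_, rfl⟩
  obtain ⟨s0, hs0⟩ : ∃ s0 : V ≃ₗ[F] V, s0 = zJ B c e J0 := ⟨_, rfl⟩
  have hzM : z ∈ M := by rw [hz, hJz]; exact hC.mon.hz i1 i2 h12
  have hs0M : s0 ∈ M := by
    rw [hs0, ← hsd, ← h1]
    exact M.mul_mem (hC.mon.hz i1 i2 h12) (hC.mon.hz i3 i4 h34)
  have hzz : z * z = 1 := by rw [hz]; exact hfr.zJ_mul_self _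
  have hs0s0 : s0 * s0 = 1 := by rw [hs0]; exact hfr.zJ_mul_self _
  obtain ⟨s, hs⟩ : ∃ s : V ≃ₗ[F] V, s = g * s0 * g⁻¹ := ⟨_, rfl⟩
  have hsM : s ∈ M := by rw [hs]; exact M.mul_mem (M.mul_mem hg hs0M) (M.inv_mem hg)
  have hss : s * s = 1 := by
    have : s * s = g * (s0 * s0) * g⁻¹ := by rw [hs]; group
    rw [this, hs0s0]; group
  -- finiteness
  have : Finite V := Module.finite_of_finite F
  have : Finite (V ≃ₗ[F] V) :=
    Finite.of_injective (fun f : V ≃ₗ[F] V => (f : V → V)) DFunLike.coe_injective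
  have hfin : IsOfFinOrder (z * s) := isOfFinOrder_of_finite _
  have hcl : Subgroup.closure ({z, s} : Set (V ≃ₗ[F] V)) ≤ M := by
    rw [Subgroup.closure_le]
    intro x hx
    rcases hx with hx | hx
    · rw [hx]; exact hzM
    · rw [Set.mem_singleton_iff.mp hx]; exact hsM
  have hcard2 : Jz.card + 2 ≤ Fintype.card ι := by omega
  have hcard4 : J0.card + 2 ≤ Fintype.card ι := by omega
  rcases hDIH z s hzz hss hfin with ⟨d, hd, hdz⟩ | ⟨cc, hcm, hc1, hcc, hcz, hcs, ⟨d, hd, hdz⟩,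
    ⟨d', hd', hds⟩⟩
  · -- (i)
    have hdM := hcl hd
    have hconj : (d⁻¹ * g) * zJ B c e J0 * (d⁻¹ * g)⁻¹ = zJ B c e Jz := by
      rw [← hs0, ← hz]
      have : (d⁻¹ * g) * s0 * (d⁻¹ * g)⁻¹ = d⁻¹ * (g * s0 * g⁻¹) * d := by group
      rw [this, ← hs, ← hdz]; group
    obtain ⟨J', hJ'c, hJ'⟩ := Cfsg.Agent.Lib.Helper21_OF_FUScore.conj_eq_zJ hC hVJ h5 (M.mul_mem (M.inv_mem hdM) hg) J0 hJ0ne
      (by omega) (by rw [hconj]; exact hfr.isMon_zJ _)
    rw [hconj] at hJ'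
    have := h2 _ _ hJ'
    rw [← this] at hJ'c
    omega
  · -- (ii)
    have hcM := hcl hcm
    have hdM := hcl hd
    have hd'M := hcl hd'
    -- z * cc is monomial
    have hzcM : z * cc ∈ M := M.mul_mem hzM hcM
    have hzcmon : IsMon e (z * cc) := by
      refine Cfsg.Agent.Lib.Helper21_OF_FUScore.propZ hB hzcM Jz hJzne hcard2 ?_
      refine Cfsg.Agent.Lib.Helper21_OF_FUScore.zero_of_comm hfr h3 Jz Jz ?_
      rw [← hz]
      calc z * (z * cc) = z * (cc * z) := by rw [hcz]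
        _ = z * cc * z := by group
    -- z * cc is a sign change
    obtain ⟨J', hJ'4, hJ'⟩ : ∃ J' : Finset ι, J'.card ≤ 4 ∧ z * cc = zJ B c e J' := by
      rcases hdz with hdz | hdz
      · have hm : IsMon e (d * zJ B c e Jz * d⁻¹) := by rw [← hz, ← hdz]; exact hzcmon
        obtain ⟨J', hJ'c, hJ'⟩ := Cfsg.Agent.Lib.Helper21_OF_FUScore.conj_eq_zJ hC hVJ h5 hdM Jz hJzne (by omega) hm
        exact ⟨J', by omega, by rw [hdz, hz]; exact hJ'⟩
      · have he : z * cc = (d * g) * zJ B c e J0 * (d * g)⁻¹ := by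
          rw [hdz, hs, ← hs0]; group
        have hm : IsMon e ((d * g) * zJ B c e J0 * (d * g)⁻¹) := by rw [← he]; exact hzcmon
        obtain ⟨J', hJ'c, hJ'⟩ := Cfsg.Agent.Lib.Helper21_OF_FUScore.conj_eq_zJ hC hVJ h5 (M.mul_mem hdM hg) J0 hJ0ne (by omega) hm
        exact ⟨J', by omega, by rw [he]; exact hJ'⟩
    obtain ⟨J1, hJ1⟩ : ∃ J1 : Finset ι, J1 = symmDiff Jz J' := ⟨_, rfl⟩
    have hccJ : cc = zJ B c e J1 := by
      have : cc = z * (z * cc) := by rw [← mul_assoc, hzz, one_mul]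
      rw [this, hJ', hz, h1, hJ1]
    have hJ1ne : J1.Nonempty := by
      rw [Finset.nonempty_iff_ne_empty]
      intro h
      apply hc1
      rw [hccJ, h, hfr.zJ_empty]
    -- c0
    obtain ⟨c0, hc0⟩ : ∃ c0 : V ≃ₗ[F] V, c0 = g⁻¹ * cc * g := ⟨_, rfl⟩
    have hc0M : c0 ∈ M := by rw [hc0]; exact M.mul_mem (M.mul_mem (M.inv_mem hg) hcM) hg
    have hs0c0M : s0 * c0 ∈ M := M.mul_mem hs0M hc0M
    have hcomm0 : c0 * s0 = s0 * c0 := by
      have e1 : c0 * s0 = g⁻¹ * (cc * s) * g := by rw [hc0, hs]; group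
      have e2 : s0 * c0 = g⁻¹ * (s * cc) * g := by rw [hc0, hs]; group
      rw [e1, e2, hcs]
    have hs0c0mon : IsMon e (s0 * c0) := by
      refine Cfsg.Agent.Lib.Helper21_OF_FUScore.propZ hB hs0c0M J0 hJ0ne hcard4 ?_
      refine Cfsg.Agent.Lib.Helper21_OF_FUScore.zero_of_comm hfr h3 J0 J0 ?_
      rw [← hs0]
      calc s0 * (s0 * c0) = s0 * (c0 * s0) := by rw [hcomm0]
        _ = s0 * c0 * s0 := by group
    have hs0c0 : s0 * c0 = g⁻¹ * (s * cc) * g := by rw [hc0, hs]; group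
    obtain ⟨J'', hJ''4, hJ''⟩ : ∃ J'' : Finset ι, J''.card ≤ 4 ∧ s0 * c0 = zJ B c e J'' := by
      rcases hds with hds | hds
      · have he : s0 * c0 = (g⁻¹ * d' * g) * zJ B c e J0 * (g⁻¹ * d' * g)⁻¹ := by
          rw [hs0c0, hds, hs, ← hs0]; group
        have hm : IsMon e ((g⁻¹ * d' * g) * zJ B c e J0 * (g⁻¹ * d' * g)⁻¹) := by
          rw [← he]; exact hs0c0mon
        obtain ⟨J'', hJ''c, hJ''⟩ := Cfsg.Agent.Lib.Helper21_OF_FUScore.conj_eq_zJ hC hVJ h5
          (M.mul_mem (M.mul_mem (M.inv_mem hg) hd'M) hg) J0 hJ0ne (by omega) hm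
        exact ⟨J'', by omega, by rw [he]; exact hJ''⟩
      · have he : s0 * c0 = (g⁻¹ * d') * zJ B c e Jz * (g⁻¹ * d')⁻¹ := by
          rw [hs0c0, hds, ← hz]; group
        have hm : IsMon e ((g⁻¹ * d') * zJ B c e Jz * (g⁻¹ * d')⁻¹) := by
          rw [← he]; exact hs0c0mon
        obtain ⟨J'', hJ''c, hJ''⟩ := Cfsg.Agent.Lib.Helper21_OF_FUScore.conj_eq_zJ hC hVJ h5
          (M.mul_mem (M.inv_mem hg) hd'M) Jz hJzne (by omega) hm
        exact ⟨J'', by omega, by rw [he]; exact hJ''⟩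
    obtain ⟨J2, hJ2⟩ : ∃ J2 : Finset ι, J2 = symmDiff J0 J'' := ⟨_, rfl⟩
    have hc0J : c0 = zJ B c e J2 := by
      have : c0 = s0 * (s0 * c0) := by rw [← mul_assoc, hs0s0, one_mul]
      rw [this, hJ'', hs0, h1, hJ2]
    have hJ2c : J2.card + 2 ≤ Fintype.card ι := by
      have := Cfsg.Agent.Lib.Helper21_OF_FUScore.card_symmDiff_le' J0 J''
      rw [← hJ2] at this
      omega
    -- the final step
    have hfinal : zJ B c e J1 * g = g * zJ B c e J2 := by
      rw [← hccJ, ← hc0J, hc0]; group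
    have h0 := Cfsg.Agent.Lib.Helper21_OF_FUScore.zero_of_comm hfr h3 J1 J2 hfinal
    obtain ⟨l, hl⟩ := hJ1ne
    obtain ⟨a, b, hab, ha, hb⟩ := Cfsg.Agent.Lib.Helper21_OF_FUScore.exists_two_notMem J2 hJ2c
    exact hgm (hB g hg a b l hab (h0 a ha l hl) (h0 b hb l hl))


/-- THEOREM C for `n ≥ 10`: in case (C) every element of `M` is monomial. -/
theorem thmC10 [Finite F] [FiniteDimensional F V] (hC : CCtx Q B c e M)
    (hn : 10 ≤ Fintype.card ι) : ∀ g ∈ M, IsMon e g := by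
  have h0 : PropC0 e M := Cfsg.Agent.Lib.Helper91_OF_C0.C0 hC (by omega)
  have hV : PropV B c e M := Cfsg.Agent.Lib.Helper18_OF_V.LEMV hC.fr hC.mon
  have hMv : PropMoved F e := Cfsg.Agent.Lib.Helper44_OF_MOVED.MOVED hC.fr
  have hB : PropB B e M := PB9 hC (by omega) h0 hV hMv
  have hVJ : PropVJ B c e M := VJ10 hC hn hB hMv
  exact FUS10_core hC hn hVJ hB (Cfsg.Agent.Lib.Helper31_OF_API.API hC.fr)
    (fun z s hz hs hfin => Cfsg.Agent.Lib.Helper7_OF_DIH.DIH z s hz hs hfin)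

end Cfsg.Agent.Lib.Helper59_OF10
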