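import Mathlib

/-!
# S5798 package OS6-CW (architect helper59)

Two quadratic forms on a subspace of dimension at least 5 over a finite field of odd characteristic
have a common nonzero singular vector (Chevalley-Warning).
-/

set_option autoImplicit false

namespace Cfsg.Agent.Lib.Helper64_S5798_OS6_CW

open Module

variable {F V : Type*} [Field F] [AddCommGroup V] [Module F V]

/-- the quadratic polynomial of a bilinear form on a finite family of vectors -/
noncomputable def qpoly {m : ℕ} (B : LinearMap.BilinForm F V) (b : Fin m → V) :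
    MvPolynomial (Fin m) F :=
  ∑ i, ∑ j, MvPolynomial.C (B (b i) (b j)) * MvPolynomial.X i * MvPolynomial.X j

theorem eval_qpoly {m : ℕ} (B : LinearMap.BilinForm F V) (b : Fin m → V) (x : Fin m → F) :
    MvPolynomial.eval x (qpoly B b) = B (∑ i, x i • b i) (∑ i, x i • b i) := by
  unfold qpoly
  simp only [map_sum, map_mul, MvPolynomial.eval_C, MvPolynomial.eval_X, LinearMap.sum_apply,
    map_smul, LinearMap.smul_apply, smul_eq_mul, Finset.mul_sum]
  rw [Finset.sum_comm]
  refine Finset.sum_congr rfl fun i _ => Finset.sum_congr rfl fun j _ => ?_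
  ring

theorem totalDegree_qpoly {m : ℕ} (B : LinearMap.BilinForm F V) (b : Fin m → V) :
    (qpoly B b).totalDegree ≤ 2 := by
  unfold qpoly
  refine MvPolynomial.totalDegree_finsetSum_le fun i _ =>
    MvPolynomial.totalDegree_finsetSum_le fun j _ => ?_
  refine (MvPolynomial.totalDegree_mul _ _).trans ?_
  have h1 : (MvPolynomial.C (B (b i) (b j)) * MvPolynomial.X i :
      MvPolynomial (Fin m) F).totalDegree ≤ 1 := by
    refine (MvPolynomial.totalDegree_mul _ _).trans ?_
    rw [MvPolynomial.totalDegree_C, MvPolynomial.totalDegree_X]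
  have h2 : (MvPolynomial.X j : MvPolynomial (Fin m) F).totalDegree = 1 :=
    MvPolynomial.totalDegree_X j
  omega

theorem polar_self {Q : V → F} {B : LinearMap.BilinForm F V}
    (hQs : ∀ (c : F) (v : V), Q (c • v) = c * c * Q v)
    (hQp : ∀ u v : V, Q (u + v) = Q u + Q v + B u v) (w : V) : B w w = 2 * Q w := by
  have h1 := hQp w w
  have h2 := hQs 2 w
  rw [two_smul] at h2
  rw [h2] at h1
  linear_combination (-1 : F) * h1

theorem exists_common_singular [Finite F] [FiniteDimensional F V] {Q Q' : V → F}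
    {B B' : LinearMap.BilinForm F V}
    (hQs : ∀ (c : F) (v : V), Q (c • v) = c * c * Q v)
    (hQp : ∀ u v : V, Q (u + v) = Q u + Q v + B u v)
    (hQs' : ∀ (c : F) (v : V), Q' (c • v) = c * c * Q' v)
    (hQp' : ∀ u v : V, Q' (u + v) = Q' u + Q' v + B' u v)
    (h2 : (2 : F) ≠ 0) (U : Submodule F V) (h5 : 5 ≤ finrank F U) :
    ∃ w ∈ U, w ≠ 0 ∧ Q w = 0 ∧ Q' w = 0 := by
  classical
  let _ : Fintype F := Fintype.ofFinite F
  obtain ⟨p, hp⟩ := CharP.exists F
  have hpp : p.Prime := CharP.char_is_prime F p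
  set m := finrank F U with hm
  let b : Basis (Fin m) F U := Module.finBasis F U
  let bV : Fin m → V := fun i => (b i : V)
  have hdeg : (qpoly B bV).totalDegree + (qpoly B' bV).totalDegree < Fintype.card (Fin m) := by
    have h1 := totalDegree_qpoly B bV
    have h1' := totalDegree_qpoly B' bV
    rw [Fintype.card_fin]
    omega
  have hdvd := char_dvd_card_solutions_of_add_lt p hdeg
  -- zero is a solution
  have hzero : MvPolynomial.eval (0 : Fin m → F) (qpoly B bV) = 0 ∧
      MvPolynomial.eval (0 : Fin m → F) (qpoly B' bV) = 0 := by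
    constructor <;> · rw [eval_qpoly]; simp
  have hpos : 0 < Fintype.card { x : Fin m → F //
      MvPolynomial.eval x (qpoly B bV) = 0 ∧ MvPolynomial.eval x (qpoly B' bV) = 0 } :=
    Fintype.card_pos_iff.mpr ⟨⟨0, hzero⟩⟩
  have hle := Nat.le_of_dvd hpos hdvd
  have h1lt : 1 < Fintype.card { x : Fin m → F //
      MvPolynomial.eval x (qpoly B bV) = 0 ∧ MvPolynomial.eval x (qpoly B' bV) = 0 } :=
    lt_of_lt_of_le hpp.one_lt hle
  obtain ⟨⟨x, hx⟩, hxne⟩ := Fintype.exists_ne_of_one_lt_card h1lt ⟨0, hzero⟩
  have hx0 : x ≠ 0 := fun h => hxne (Subtype.ext h)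
  -- the vector
  let u : U := ∑ i, x i • b i
  have hu : (u : V) = ∑ i, x i • bV i := by
    simp only [u, bV, Submodule.coe_sum, Submodule.coe_smul]
  have hune : (u : V) ≠ 0 := by
    intro h0
    have h1 : u = 0 := Subtype.ext h0
    apply hx0
    funext i
    have h3 : b.repr u i = x i := by
      simp only [u]
      rw [Basis.repr_sum_self]
    rw [h1] at h3
    simpa using h3.symm
  refine ⟨(u : V), u.2, hune, ?_, ?_⟩
  · have h3 := hx.1
    rw [eval_qpoly, ← hu, polar_self hQs hQp] at h3
    rcases mul_eq_zero.mp h3 with h4 | h4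
    · exact absurd h4 h2
    · exact h4
  · have h3 := hx.2
    rw [eval_qpoly, ← hu, polar_self hQs' hQp'] at h3
    rcases mul_eq_zero.mp h3 with h4 | h4
    · exact absurd h4 h2
    · exact h4

end Cfsg.Agent.Lib.Helper64_S5798_OS6_CW
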