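import Mathlib
import Cfsg.Agent.Lib.Helper94_OrthSim
import Cfsg.Agent.Lib.Helper64_S5798_OS6_CW

set_option autoImplicit false
set_option linter.unusedSimpArgs false
set_option linter.unusedVariables false

namespace Cfsg.Agent.Lib.Helper59_OSim6

open Module Cfsg.Agent.Lib.Helper94_Symp Cfsg.Agent.Lib.Helper94_SympSim
  Cfsg.Agent.Lib.Helper94_OrthSmall
  Cfsg.Agent.Lib.Helper94_OrthSiegel Cfsg.Agent.Lib.Helper94_OrthSiegel2
  Cfsg.Agent.Lib.Helper94_OrthNondeg Cfsg.Agent.Lib.Helper94_OrthTS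
  Cfsg.Agent.Lib.Helper94_OrthHyp Cfsg.Agent.Lib.Helper94_OrthSim
  Cfsg.Agent.Lib.Helper94_LinStab

variable {F V : Type*} [Field F] [AddCommGroup V] [Module F V]

section

variable {Q Q' : V → F} {B B' : LinearMap.BilinForm F V}
  (hQs : ∀ (c : F) (v : V), Q (c • v) = c * c * Q v)
  (hQp : ∀ u v : V, Q (u + v) = Q u + Q v + B u v)
  (hQs' : ∀ (c : F) (v : V), Q' (c • v) = c * c * Q' v)
  (hQp' : ∀ u v : V, Q' (u + v) = Q' u + Q' v + B' u v)

include hQs hQp hQs' hQp' in
/-- **Commutator formula**: the commutator of Siegel elements of two quadratic forms at a common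
singular vector `p` is a transvection with centre `p`. -/
theorem comm_formula {p z z' : V} (hp : Q p = 0) (hp' : Q' p = 0) (h1 : B p z = 0)
    (h2 : B p z' = 0) (h3 : B' p z = 0) (h4 : B' p z' = 0)
    (hψ : (B' z z' • B.flip p - B z z' • B'.flip p) p = 0) :
    sieg Q B p z * sieg Q' B' p z' =
      LinearEquiv.transvection hψ * (sieg Q' B' p z' * sieg Q B p z) := by
  have hsymm := B_symm Q B hQp
  have hsymm' := B_symm Q' B' hQp'
  have hpp : B p p = 0 := by rw [B_self Q B hQs hQp, hp, mul_zero]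
  have hpp' : B' p p = 0 := by rw [B_self Q' B' hQs' hQp', hp', mul_zero]
  have h1s : B z p = 0 := by rw [hsymm]; exact h1
  have h2s : B z' p = 0 := by rw [hsymm]; exact h2
  have h3s : B' z p = 0 := by rw [hsymm']; exact h3
  have h4s : B' z' p = 0 := by rw [hsymm']; exact h4
  have hzz : B z' z = B z z' := hsymm _ _
  have hzz' : B' z' z = B' z z' := hsymm' _ _
  have hf : ∀ y, (B.flip p) y = B y p := fun y => rfl
  have hf' : ∀ y, (B'.flip p) y = B' y p := fun y => rfl
  ext x
  simp only [LinearEquiv.mul_apply, LinearEquiv.transvection.apply, LinearMap.transvection.apply]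
  rw [sieg_apply Q' B' hQs' hQp' hp' h4, sieg_apply Q B hQs hQp hp h1,
    sieg_apply Q B hQs hQp hp h1, sieg_apply Q' B' hQs' hQp' hp' h4]
  simp only [map_add, map_sub, map_smul, LinearMap.add_apply, LinearMap.sub_apply,
    LinearMap.smul_apply, hf, hf', smul_eq_mul, hpp, hpp', h1s, h2s, h3s, h4s, hzz,
    hzz', h1, h2, h3, h4, mul_zero, zero_mul, sub_zero, add_zero, zero_smul, smul_zero]
  module

end

section

variable [Finite F] [FiniteDimensional F V] {Q : V → F} {B : LinearMap.BilinForm F V}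
  (hQs : ∀ (c : F) (v : V), Q (c • v) = c * c * Q v)
  (hQp : ∀ u v : V, Q (u + v) = Q u + Q v + B u v)

include hQs hQp in
/-- **Centre lemma, nonsingular centre**: if `M` contains the Siegel elements of `Q` and a full
root group of transvections with nonsingular centre `v`, then `M` contains all transvections with
centre `v` (dimension at least six). -/
theorem centre_nonsing (h2 : (2 : F) ≠ 0) (hN : B.Nondegenerate) (h6 : 6 ≤ finrank F V)
    (M : Subgroup (V ≃ₗ[F] V))
    (hM : ∀ u z, Q u = 0 → B u z = 0 → sieg Q B u z ∈ M)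
    {v : V} (hQv : Q v ≠ 0) {w₀ : V} (hw₀0 : w₀ ≠ 0) (hw₀v : B v w₀ = 0)
    (hT : ∀ (t : F) (h : B v (t • w₀) = 0), gtv B (t • w₀) v h ∈ M) :
    ∀ w (h : B v w = 0), gtv B w v h ∈ M := by
  have hsymm := B_symm Q B hQp
  have htopnd : ∀ a ∈ (⊤ : Submodule F V), a ≠ 0 → ∃ x ∈ (⊤ : Submodule F V), B x a ≠ 0 := by
    intro a _ ha
    by_contra hcon
    push Not at hcon
    exact ha (hN.2 a (fun x => hcon x trivial))
  have hvv : B v v ≠ 0 := by
    rw [B_self Q B hQs hQp]
    exact mul_ne_zero h2 hQv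
  obtain ⟨A, hAdef⟩ : ∃ A : Submodule F V, A = LinearMap.ker (B.flip v) := ⟨_, rfl⟩
  have hAmem : ∀ x, x ∈ A ↔ B x v = 0 := by
    intro x
    rw [hAdef]
    exact mem_ker_flip
  have hproj : ∀ x : V, x - (B x v / B v v) • v ∈ A := by
    intro x
    rw [hAmem, map_sub, map_smul, LinearMap.sub_apply, LinearMap.smul_apply, smul_eq_mul,
      div_mul_cancel₀ _ hvv, sub_self]
  have hAnd : ∀ a ∈ A, a ≠ 0 → ∃ x ∈ A, B x a ≠ 0 := by
    intro a ha ha0
    obtain ⟨x, -, hxa⟩ := htopnd a trivial ha0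
    refine ⟨_, hproj x, ?_⟩
    rw [map_sub, map_smul, LinearMap.sub_apply, LinearMap.smul_apply,
      hsymm v a, (hAmem a).mp ha, smul_zero, sub_zero]
    exact hxa
  have hAfr : finrank F V ≤ finrank F A + 1 := by
    have := finrank_le_inf_ker_add_one (⊤ : Submodule F V) (B.flip v)
    rw [top_inf_eq, finrank_top, ← hAdef] at this
    exact this
  have hvA : ∀ w ∈ A, B v w = 0 := fun w hw => by rw [hsymm]; exact (hAmem w).mp hw
  -- the additive group of admissible functionals
  let D : AddSubgroup V :=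
    { carrier := {w | ∃ h : B v w = 0, gtv B w v h ∈ M}
      zero_mem' := by
        refine ⟨by simp, ?_⟩
        have : gtv B 0 v (by simp) = 1 := by
          ext x
          simp
        rw [this]
        exact M.one_mem
      add_mem' := by
        rintro a b ⟨ha, ham⟩ ⟨hb, hbm⟩
        have hab : B v (a + b) = 0 := by rw [map_add, ha, hb, add_zero]
        refine ⟨hab, ?_⟩
        rw [← gtv_mul B a b v ha hb hab]
        exact M.mul_mem ham hbm
      neg_mem' := by
        rintro a ⟨ha, ham⟩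
        have hna : B v (-a) = 0 := by rw [map_neg, ha, neg_zero]
        refine ⟨hna, ?_⟩
        have h1 : gtv B a v ha * gtv B (-a) v hna = 1 := by
          rw [gtv_mul B a (-a) v ha hna (by simp)]
          ext x
          simp
        have h3 : gtv B (-a) v hna = (gtv B a v ha)⁻¹ := eq_inv_of_mul_eq_one_right h1
        rw [h3]
        exact M.inv_mem ham }
  have hDmem : ∀ w, w ∈ D ↔ ∃ h : B v w = 0, gtv B w v h ∈ M := fun w => Iff.rfl
  have hDinv : ∀ g ∈ M, g ∈ oG Q → g v = v → ∀ w ∈ D, g w ∈ D := by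
    rintro g hgM hgO hgc w ⟨hw, hwm⟩
    have hgI : g ∈ isoGroup B := mem_isoGroup.mpr (fun x y => oG_B Q B hQp hgO x y)
    have h' : B (g v) (g w) = 0 := by rw [oG_B Q B hQp hgO, hw]
    have hcj := conj_gtv B hgI w v hw h'
    have hm : gtv B (g w) (g v) h' ∈ M := by
      rw [← hcj]
      exact M.mul_mem (M.mul_mem hgM hwm) (M.inv_mem hgM)
    have h'' : B v (g w) = 0 := by rw [hgc] at h'; exact h'
    refine ⟨h'', ?_⟩
    have e : gtv B (g w) v h'' = gtv B (g w) (g v) h' := by
      ext y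
      simp [hgc]
    rw [e]
    exact hm
  -- the subspace of vectors all of whose multiples are admissible
  let X : Submodule F V :=
    { carrier := {x | ∀ t : F, t • x ∈ D}
      add_mem' := by
        intro x y hx hy t
        rw [smul_add]
        exact D.add_mem (hx t) (hy t)
      zero_mem' := by
        intro t
        rw [smul_zero]
        exact D.zero_mem
      smul_mem' := by
        intro s x hx t
        rw [smul_smul]
        exact hx (t * s) }
  have hXmem : ∀ x, x ∈ X ↔ ∀ t : F, t • x ∈ D := fun x => Iff.rfl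
  have hfixv : ∀ u z, B v u = 0 → B v z = 0 → Q u = 0 → B u z = 0 → sieg Q B u z v = v := by
    intro u z hvu hvz hQu huz
    rw [sieg_apply Q B hQs hQp hQu huz, hvu, hvz]
    simp
  have hXinv : ∀ u ∈ A, ∀ z ∈ A, Q u = 0 → B u z = 0 → ∀ x ∈ X, sieg Q B u z x ∈ X := by
    intro u hu z hz hQu huz x hx t
    rw [← map_smul]
    exact hDinv _ (hM u z hQu huz) (sieg_mem_oG Q B hQs hQp hQu huz)
      (hfixv u z (hvA u hu) (hvA z hz) hQu huz) _ (hx t)
  have hw₀X : w₀ ∈ X := by
    intro t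
    have h : B v (t • w₀) = 0 := by rw [map_smul, hw₀v, smul_zero]
    exact ⟨h, hT t h⟩
  have hw₀A : w₀ ∈ A := by
    rw [hAmem, hsymm]
    exact hw₀v
  have hAX : A ≤ X := irr Q B hQs hQp A hAnd (by omega) X hXinv
    (a := w₀) (a' := 0) (by rw [add_zero]; exact hw₀X) hw₀A hw₀0 (fun y _ => by simp)
  intro w hw
  have hwA : w ∈ A := by
    rw [hAmem, hsymm]
    exact hw
  have h4 := hAX hwA 1
  rw [one_smul] at h4
  obtain ⟨_, h5⟩ := h4
  exact h5

end

section

variable [Finite F] [FiniteDimensional F V] {Q : V → F} {B : LinearMap.BilinForm F V}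
  (hQs : ∀ (c : F) (v : V), Q (c • v) = c * c * Q v)
  (hQp : ∀ u v : V, Q (u + v) = Q u + Q v + B u v)

include hQs hQp in
/-- A singular vector not orthogonal to two given nonzero vectors. -/
theorem exists_sing_two (h2 : (2 : F) ≠ 0) (hN : B.Nondegenerate) (h5 : 5 ≤ finrank F V)
    {a c : V} (ha : a ≠ 0) (hc : c ≠ 0) : ∃ s, Q s = 0 ∧ B s a ≠ 0 ∧ B s c ≠ 0 := by
  have hsymm := B_symm Q B hQp
  by_contra hcon
  push Not at hcon
  -- the quadratic form `R x = B x a * B x c`
  let BR : LinearMap.BilinForm F V :=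
    LinearMap.mk₂ F (fun x y => B x a * B y c + B y a * B x c)
      (by intro x x' y; simp only [map_add, LinearMap.add_apply]; ring)
      (by intro t x y; simp only [map_smul, LinearMap.smul_apply, smul_eq_mul]; ring)
      (by intro x y y'; simp only [map_add, LinearMap.add_apply]; ring)
      (by intro t x y; simp only [map_smul, LinearMap.smul_apply, smul_eq_mul]; ring)
  have hBR : ∀ x y, BR x y = B x a * B y c + B y a * B x c := fun x y => rfl
  have hRs : ∀ (t : F) (x : V), B (t • x) a * B (t • x) c = t * t * (B x a * B x c) := by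
    intro t x
    simp only [map_smul, LinearMap.smul_apply, smul_eq_mul]
    ring
  have hRp : ∀ x y : V, B (x + y) a * B (x + y) c =
      B x a * B x c + B y a * B y c + BR x y := by
    intro x y
    rw [hBR]
    simp only [map_add, LinearMap.add_apply]
    ring
  have hcone : ∀ x, Q x = 0 → B x a * B x c = 0 := by
    intro x hx
    by_cases h : B x a = 0
    · rw [h, zero_mul]
    · rw [hcon x hx h, mul_zero]
  obtain ⟨l, hl⟩ := quad_cone (Q := fun x => B x a * B x c) (B := BR) (Q' := Q) (B' := B)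
    hRs hRp hQs hQp h2 hN h5 hcone
  have hpol : ∀ x y, BR x y = l * B x y := by
    intro x y
    have h1 := hRp x y
    have h3 := hQp x y
    have e1 := hl (x + y)
    have e2 := hl x
    have e3 := hl y
    beta_reduce at e1 e2 e3
    rw [e1, e2, e3, h3] at h1
    linear_combination -h1
  have hl0 : l = 0 := by
    by_contra hl0
    have hfr1 := finrank_le_inf_ker_add_one (⊤ : Submodule F V) (B.flip a)
    have hfr2 := finrank_le_inf_ker_add_one (⊤ ⊓ LinearMap.ker (B.flip a) : Submodule F V)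
      (B.flip c)
    rw [finrank_top] at hfr1
    have hne : ((⊤ ⊓ LinearMap.ker (B.flip a)) ⊓ LinearMap.ker (B.flip c) : Submodule F V) ≠ ⊥ := by
      intro h
      rw [h, finrank_bot] at hfr2
      omega
    obtain ⟨x, hx, hx0⟩ := Submodule.exists_mem_ne_zero_of_ne_bot hne
    have hxa : B x a = 0 := mem_ker_flip.mp hx.1.2
    have hxc : B x c = 0 := mem_ker_flip.mp hx.2
    apply hx0
    apply hN.1
    intro y
    have := hpol x y
    rw [hBR, hxa, hxc, zero_mul, mul_zero, add_zero] at this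
    rcases mul_eq_zero.mp this.symm with h | h
    · exact absurd h hl0
    · exact h
  have hex : ∀ b : V, b ≠ 0 → ∃ x ∈ (⊤ : Submodule F V), B x b ≠ 0 := by
    intro b hb
    by_contra hcon'
    push Not at hcon'
    exact hb (hN.2 b (fun x => hcon' x trivial))
  obtain ⟨z, -, hza, hzc⟩ := exists_both_ne_zero B ⊤ (hex a ha) (hex c hc)
  have := hl z
  beta_reduce at this
  rw [hl0, zero_mul] at this
  rcases mul_eq_zero.mp this with h | h
  · exact hza h
  · exact hzc h

include hQs hQp in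
/-- From a full root group of transvections with singular centre to one with nonsingular
centre. -/
theorem to_nonsing (h2 : (2 : F) ≠ 0) (hN : B.Nondegenerate) (h5 : 5 ≤ finrank F V)
    (M : Subgroup (V ≃ₗ[F] V))
    (hM : ∀ u z, Q u = 0 → B u z = 0 → sieg Q B u z ∈ M)
    {c a : V} (hc0 : c ≠ 0) (hQc : Q c = 0) (ha0 : a ≠ 0) (hca : B c a = 0)
    (hT : ∀ (t : F) (h : B c (t • a) = 0), gtv B (t • a) c h ∈ M) :
    ∃ v w₀ : V, Q v ≠ 0 ∧ w₀ ≠ 0 ∧ B v w₀ = 0 ∧
      ∀ (t : F) (h : B v (t • w₀) = 0), gtv B (t • w₀) v h ∈ M := by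
  have hsymm := B_symm Q B hQp
  have htopnd : ∀ a ∈ (⊤ : Submodule F V), a ≠ 0 → ∃ x ∈ (⊤ : Submodule F V), B x a ≠ 0 := by
    intro a _ ha
    by_contra hcon
    push Not at hcon
    exact ha (hN.2 a (fun x => hcon x trivial))
  have hcc : B c c = 0 := by rw [B_self Q B hQs hQp, hQc, mul_zero]
  obtain ⟨s, hQs0, hsa, hsc⟩ := exists_sing_two hQs hQp h2 hN h5 ha0 hc0
  have hcs : B c s ≠ 0 := by rw [hsymm]; exact hsc
  obtain ⟨p₁, hp₁def⟩ : ∃ p₁ : V, p₁ = (B c s)⁻¹ • s := ⟨_, rfl⟩
  have hQp₁ : Q p₁ = 0 := by rw [hp₁def, hQs, hQs0, mul_zero]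
  have hcp₁ : B c p₁ = 1 := by rw [hp₁def, map_smul, smul_eq_mul, inv_mul_cancel₀ hcs]
  have hp₁a : B p₁ a ≠ 0 := by
    rw [hp₁def, map_smul, LinearMap.smul_apply, smul_eq_mul]
    exact mul_ne_zero (inv_ne_zero hcs) hsa
  obtain ⟨hAnd, hAfr, -⟩ := hyp_step hQs hQp ⊤ htopnd trivial trivial hQc hQp₁ hcp₁
  rw [finrank_top] at hAfr
  obtain ⟨A, hAdef⟩ : ∃ A : Submodule F V, A = ((⊤ ⊓ LinearMap.ker (B.flip c)) ⊓
      LinearMap.ker (B.flip p₁) : Submodule F V) := ⟨_, rfl⟩
  rw [← hAdef] at hAnd hAfr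
  have hAc : ∀ w ∈ A, B w c = 0 := by
    intro w hw
    rw [hAdef] at hw
    exact mem_ker_flip.mp hw.1.2
  have hAp₁ : ∀ w ∈ A, B w p₁ = 0 := by
    intro w hw
    rw [hAdef] at hw
    exact mem_ker_flip.mp hw.2
  -- a nonsingular vector of `A`
  obtain ⟨z₀, hz₀A, hQz₀⟩ : ∃ z ∈ A, Q z ≠ 0 := by
    have hA0 : A ≠ ⊥ := by
      intro h
      rw [h, finrank_bot] at hAfr
      omega
    obtain ⟨a₁, ha₁A, ha₁0⟩ := Submodule.exists_mem_ne_zero_of_ne_bot hA0
    obtain ⟨y, hyA, hya₁⟩ := hAnd a₁ ha₁A ha₁0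
    by_cases h1 : Q a₁ = 0
    · by_cases h3 : Q y = 0
      · refine ⟨y + a₁, A.add_mem hyA ha₁A, ?_⟩
        rw [hQp, h1, h3, zero_add, zero_add]
        exact hya₁
      · exact ⟨y, hyA, h3⟩
    · exact ⟨a₁, ha₁A, h1⟩
  -- adjust the sign
  obtain ⟨z, hzA, hQz, hza⟩ : ∃ z ∈ A, Q z ≠ 0 ∧ B z a - Q z * B p₁ a ≠ 0 := by
    by_cases h : B z₀ a - Q z₀ * B p₁ a = 0
    · refine ⟨-z₀, A.neg_mem hz₀A, ?_, ?_⟩
      · have : Q (-z₀) = Q z₀ := by
          have := hQs (-1) z₀
          rw [neg_one_smul] at this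
          rw [this]; ring
        rw [this]; exact hQz₀
      · have e : Q (-z₀) = Q z₀ := by
          have := hQs (-1) z₀
          rw [neg_one_smul] at this
          rw [this]; ring
        rw [e, map_neg, LinearMap.neg_apply]
        intro h'
        have : (2 : F) * (Q z₀ * B p₁ a) = 0 := by linear_combination -h - h'
        rcases mul_eq_zero.mp this with h3 | h3
        · exact h2 h3
        · rcases mul_eq_zero.mp h3 with h4 | h4
          · exact hQz₀ h4
          · exact hp₁a h4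
    · exact ⟨z₀, hz₀A, hQz₀, h⟩
  have hp₁z : B p₁ z = 0 := by rw [hsymm]; exact hAp₁ z hzA
  have hcz : B c z = 0 := by rw [hsymm]; exact hAc z hzA
  obtain ⟨g, hgdef⟩ : ∃ g : V ≃ₗ[F] V, g = sieg Q B p₁ z := ⟨_, rfl⟩
  have hgM : g ∈ M := by rw [hgdef]; exact hM _ _ hQp₁ hp₁z
  have hgO : g ∈ oG Q := by rw [hgdef]; exact sieg_mem_oG Q B hQs hQp hQp₁ hp₁z
  obtain ⟨s₂, hs₂def⟩ : ∃ s₂ : V, s₂ = c + z - Q z • p₁ := ⟨_, rfl⟩
  have hgc : g c = s₂ := by
    rw [hgdef, sieg_apply Q B hQs hQp hQp₁ hp₁z, hcp₁, hcz, hs₂def]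
    module
  have hQs₂ : Q s₂ = 0 := by rw [← hgc, hgO c, hQc]
  have hs₂a : B s₂ a ≠ 0 := by
    rw [hs₂def, map_sub, map_add, map_smul, LinearMap.sub_apply, LinearMap.add_apply,
      LinearMap.smul_apply, hca, zero_add, smul_eq_mul]
    exact hza
  have hs₂c : B s₂ c = -Q z := by
    rw [hs₂def, map_sub, map_add, map_smul, LinearMap.sub_apply, LinearMap.add_apply,
      LinearMap.smul_apply, hcc, hAc z hzA, hsymm p₁ c, hcp₁, smul_eq_mul]
    ring
  have hca1 : B c ((1 : F) • a) = 0 := by rw [one_smul]; exact hca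
  obtain ⟨h, hhdef⟩ : ∃ h : V ≃ₗ[F] V, h = gtv B ((1 : F) • a) c hca1 := ⟨_, rfl⟩
  have hhM : h ∈ M := by rw [hhdef]; exact hT 1 hca1
  obtain ⟨v, hvdef⟩ : ∃ v : V, v = s₂ + B s₂ a • c := ⟨_, rfl⟩
  have hhs₂ : h s₂ = v := by rw [hhdef, gtv_apply, one_smul, hvdef]
  have hQv : Q v ≠ 0 := by
    rw [hvdef, Q_add_smul Q B hQs hQp, hQs₂, hQc, hs₂c]
    have : (0 : F) + B s₂ a * B s₂ a * 0 + B s₂ a * -Q z = -(B s₂ a * Q z) := by ring
    rw [this]
    exact neg_ne_zero.mpr (mul_ne_zero hs₂a hQz)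
  obtain ⟨k, hkdef⟩ : ∃ k : V ≃ₗ[F] V, k = h * g := ⟨_, rfl⟩
  have hkM : k ∈ M := by rw [hkdef]; exact M.mul_mem hhM hgM
  have hkc : k c = v := by rw [hkdef, LinearEquiv.mul_apply, hgc, hhs₂]
  -- the new functional
  obtain ⟨w₀, hw₀⟩ := exists_rep' hsymm hN ((B.flip a) ∘ₗ (k⁻¹ : V ≃ₗ[F] V).toLinearMap)
  have hw₀app : ∀ x, B x w₀ = B (k⁻¹ x) a := fun x => by rw [hw₀]; rfl
  have hkinv : k⁻¹ v = c := by rw [← hkc, inv_apply_apply']
  refine ⟨v, w₀, hQv, ?_, ?_, ?_⟩
  · intro h0
    obtain ⟨y, -, hya⟩ := htopnd a trivial ha0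
    apply hya
    have := hw₀app (k y)
    rw [h0, map_zero, inv_apply_apply'] at this
    exact this.symm
  · rw [hw₀app, hkinv]; exact hca
  · intro t ht
    have hta : B c (t • a) = 0 := by rw [map_smul, hca, smul_zero]
    have : gtv B (t • w₀) v ht = k * gtv B (t • a) c hta * k⁻¹ := by
      ext x
      simp only [LinearEquiv.mul_apply, gtv_apply, map_add, map_smul, apply_inv_apply', hkc,
        hw₀app, smul_eq_mul]
    rw [this]
    exact M.mul_mem (M.mul_mem hkM (hT t hta)) (M.inv_mem hkM)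

include hQs hQp in
/-- **Second half**: a subgroup containing the Siegel elements of `Q` and a full root group of
transvections contains all transvections (dimension at least six). -/
theorem all_of_root_group (h2 : (2 : F) ≠ 0) (hN : B.Nondegenerate) (h6 : 6 ≤ finrank F V)
    (M : Subgroup (V ≃ₗ[F] V))
    (hM : ∀ u z, Q u = 0 → B u z = 0 → sieg Q B u z ∈ M)
    {c a : V} (hc0 : c ≠ 0) (ha0 : a ≠ 0) (hca : B c a = 0)
    (hT : ∀ (t : F) (h : B c (t • a) = 0), gtv B (t • a) c h ∈ M) :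
    ∀ (φ : Dual F V) (w : V) (h : φ w = 0), LinearEquiv.transvection h ∈ M := by
  have hsymm := B_symm Q B hQp
  have htopnd : ∀ a ∈ (⊤ : Submodule F V), a ≠ 0 → ∃ x ∈ (⊤ : Submodule F V), B x a ≠ 0 := by
    intro a _ ha
    by_contra hcon
    push Not at hcon
    exact ha (hN.2 a (fun x => hcon x trivial))
  -- a root group with nonsingular centre
  obtain ⟨v, w₀, hQv, hw₀0, hvw₀, hTv⟩ : ∃ v w₀ : V, Q v ≠ 0 ∧ w₀ ≠ 0 ∧ B v w₀ = 0 ∧
      ∀ (t : F) (h : B v (t • w₀) = 0), gtv B (t • w₀) v h ∈ M := by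
    by_cases hQc : Q c = 0
    · exact to_nonsing hQs hQp h2 hN (by omega) M hM hc0 hQc ha0 hca hT
    · exact ⟨c, a, hQc, ha0, hca, hT⟩
  have hfull := centre_nonsing hQs hQp h2 hN h6 M hM hQv hw₀0 hvw₀ hTv
  have hv0 : v ≠ 0 := by
    rintro rfl
    exact hQv (Q_zero Q hQs)
  have hvD : v ∈ Cfsg.Agent.Lib.Helper94_HermSim.dirSub M := by
    intro φ hφ
    obtain ⟨w, hw⟩ := exists_rep' hsymm hN φ
    have hvw : B v w = 0 := by rw [hw]; exact hφ
    have : LinearEquiv.transvection hφ = gtv B w v hvw := by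
      ext x
      simp [LinearEquiv.transvection.apply, LinearMap.transvection.apply, hw]
    rw [this]
    exact hfull w hvw
  have hDtop : (⊤ : Submodule F V) ≤ Cfsg.Agent.Lib.Helper94_HermSim.dirSub M := by
    apply irr Q B hQs hQp ⊤ htopnd (by rw [finrank_top]; omega) _ _ (a := v) (a' := 0)
      (by rw [add_zero]; exact hvD) trivial hv0 (fun y _ => by simp)
    intro a _ b _ hQa hab x hx
    exact Cfsg.Agent.Lib.Helper94_HermSim.dirSub_map (hM a b hQa hab) hx
  intro φ w hφ
  exact hDtop (Submodule.mem_top : w ∈ ⊤) φ hφ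

end

section

variable [Finite F] [FiniteDimensional F V]

omit [Finite F] in
/-- A subspace of more than half the dimension is not totally isotropic. -/
theorem exists_not_orth {B : LinearMap.BilinForm F V} (hN : B.Nondegenerate) (U : Submodule F V)
    (hU : finrank F V < 2 * finrank F U) : ∃ y ∈ U, ∃ y' ∈ U, B y y' ≠ 0 := by
  by_contra hcon
  push Not at hcon
  have hle : U ≤ B.orthogonal U := by
    intro m hm
    rw [LinearMap.BilinForm.mem_orthogonal_iff]
    intro n hn
    exact hcon n hn m hm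
  have h1 := Submodule.finrank_mono hle
  have h3 := LinearMap.BilinForm.finrank_orthogonal hN U
  omega

variable {Q Q' : V → F} {B B' : LinearMap.BilinForm F V}
  (hQs : ∀ (c : F) (v : V), Q (c • v) = c * c * Q v)
  (hQp : ∀ u v : V, Q (u + v) = Q u + Q v + B u v)
  (hQs' : ∀ (c : F) (v : V), Q' (c • v) = c * c * Q' v)
  (hQp' : ∀ u v : V, Q' (u + v) = Q' u + Q' v + B' u v)

include hQs hQp hQs' hQp' in
/-- **First half**: for two non-proportional nondegenerate quadratic forms with a common singular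
vector there are a common singular vector `p` and `z, z'` orthogonal to `p` for both forms such that
the commutator transvection of `comm_formula` is nontrivial. -/
theorem exists_good (h2 : (2 : F) ≠ 0) (hN : B.Nondegenerate) (hN' : B'.Nondegenerate)
    (h6 : 6 ≤ finrank F V) (hnp : ¬ ∃ κ : F, ∀ v, Q' v = κ * Q v)
    (hcs : ∃ w : V, w ≠ 0 ∧ Q w = 0 ∧ Q' w = 0) :
    ∃ p z z' : V, p ≠ 0 ∧ Q p = 0 ∧ Q' p = 0 ∧ B p z = 0 ∧ B p z' = 0 ∧ B' p z = 0 ∧
      B' p z' = 0 ∧ (B' z z' • B.flip p - B z z' • B'.flip p) ≠ 0 := by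
  have hsymm := B_symm Q B hQp
  have hsymm' := B_symm Q' B' hQp'
  by_contra hcon
  push Not at hcon
  -- the key consequence of the negation
  have hstar : ∀ p z z' : V, p ≠ 0 → Q p = 0 → Q' p = 0 → B p z = 0 → B p z' = 0 → B' p z = 0 →
      B' p z' = 0 → ∀ x, B' z z' * B x p = B z z' * B' x p := by
    intro p z z' hp0 hp hp' h1 h3 h4 h5 x
    have := hcon p z z' hp0 hp hp' h1 h3 h4 h5
    have h7 := LinearMap.congr_fun this x
    have hf : ∀ y, (B.flip p) y = B y p := fun y => rfl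
    have hf' : ∀ y, (B'.flip p) y = B' y p := fun y => rfl
    simp only [LinearMap.sub_apply, LinearMap.smul_apply, hf, hf', smul_eq_mul,
      LinearMap.zero_apply] at h7
    linear_combination h7
  have hQB : ∀ x, (2 : F) * Q x = B x x := fun x => (B_self Q B hQs hQp x).symm
  have hQB' : ∀ x, (2 : F) * Q' x = B' x x := fun x => (B_self Q' B' hQs' hQp' x).symm
  -- Step 2
  have step2 : ∀ p : V, p ≠ 0 → Q p = 0 → Q' p = 0 → ∃ κ : F, (∀ x, B' x p = κ * B x p) ∧
      ∀ z z', B p z = 0 → B p z' = 0 → B' z z' = κ * B z z' := by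
    intro p hp0 hp hp'
    have hfr1 := finrank_le_inf_ker_add_one (⊤ : Submodule F V) (B.flip p)
    have hfr2 := finrank_le_inf_ker_add_one (⊤ ⊓ LinearMap.ker (B.flip p) : Submodule F V)
      (B'.flip p)
    rw [finrank_top] at hfr1
    obtain ⟨y, hy, y', hy', hyy'⟩ := exists_not_orth hN
      ((⊤ ⊓ LinearMap.ker (B.flip p)) ⊓ LinearMap.ker (B'.flip p) : Submodule F V) (by omega)
    have hyp : B y p = 0 := mem_ker_flip.mp hy.1.2
    have hyp' : B' y p = 0 := mem_ker_flip.mp hy.2
    have hy'p : B y' p = 0 := mem_ker_flip.mp hy'.1.2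
    have hy'p' : B' y' p = 0 := mem_ker_flip.mp hy'.2
    have hk := hstar p y y' hp0 hp hp' (by rw [hsymm]; exact hyp) (by rw [hsymm]; exact hy'p)
      (by rw [hsymm']; exact hyp') (by rw [hsymm']; exact hy'p')
    obtain ⟨κ, hκ⟩ : ∃ κ : F, κ = B' y y' / B y y' := ⟨_, rfl⟩
    have hκp : ∀ x, B' x p = κ * B x p := by
      intro x
      have := hk x
      rw [hκ]
      field_simp
      linear_combination -this
    refine ⟨κ, hκp, ?_⟩
    intro z z' hz hz'
    have hz1 : B' p z = 0 := by rw [hsymm', hκp, hsymm, hz, mul_zero]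
    have hz1' : B' p z' = 0 := by rw [hsymm', hκp, hsymm, hz', mul_zero]
    obtain ⟨x, hx⟩ : ∃ x, B x p ≠ 0 := by
      by_contra hc
      push Not at hc
      exact hp0 (hN.2 p hc)
    have := hstar p z z' hp0 hp hp' hz hz' hz1 hz1' x
    rw [hκp x] at this
    have h8 : (B' z z' - κ * B z z') * B x p = 0 := by linear_combination this
    rcases mul_eq_zero.mp h8 with h9 | h9
    · linear_combination h9
    · exact absurd h9 hx
  -- Step 3
  obtain ⟨p₀, hp₀0, hp₀, hp₀'⟩ := hcs
  obtain ⟨κ₀, hκ₀p, hκ₀⟩ := step2 p₀ hp₀0 hp₀ hp₀'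
  have step3 : ∀ x : V, x ≠ 0 → Q x = 0 → B p₀ x = 0 →
      ∀ z z', B x z = 0 → B x z' = 0 → B' z z' = κ₀ * B z z' := by
    intro x hx0 hQx hp₀x
    have hQ'x : Q' x = 0 := by
      have h1 := hκ₀ x x hp₀x hp₀x
      rw [← hQB', ← hQB, hQx, mul_zero, mul_zero] at h1
      rcases mul_eq_zero.mp h1 with h | h
      · exact absurd h h2
      · exact h
    obtain ⟨κ, hκp, hκ⟩ := step2 x hx0 hQx hQ'x
    have hfr1 := finrank_le_inf_ker_add_one (⊤ : Submodule F V) (B.flip p₀)
    have hfr2 := finrank_le_inf_ker_add_one (⊤ ⊓ LinearMap.ker (B.flip p₀) : Submodule F V)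
      (B.flip x)
    rw [finrank_top] at hfr1
    obtain ⟨y, hy, y', hy', hyy'⟩ := exists_not_orth hN
      ((⊤ ⊓ LinearMap.ker (B.flip p₀)) ⊓ LinearMap.ker (B.flip x) : Submodule F V) (by omega)
    have e1 := hκ₀ y y' (by rw [hsymm]; exact mem_ker_flip.mp hy.1.2)
      (by rw [hsymm]; exact mem_ker_flip.mp hy'.1.2)
    have e2 := hκ y y' (by rw [hsymm]; exact mem_ker_flip.mp hy.2)
      (by rw [hsymm]; exact mem_ker_flip.mp hy'.2)
    have hκκ : κ = κ₀ := by
      have : (κ - κ₀) * B y y' = 0 := by linear_combination e1 - e2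
      rcases mul_eq_zero.mp this with h | h
      · linear_combination h
      · exact absurd h hyy'
    rw [← hκκ]
    exact hκ
  -- Step 4
  have step4 : ∀ u v : V, B' u v = κ₀ * B u v := by
    intro u v
    have hfr1 := finrank_le_inf_ker_add_one (⊤ : Submodule F V) (B.flip p₀)
    have hfr2 := finrank_le_inf_ker_add_one (⊤ ⊓ LinearMap.ker (B.flip p₀) : Submodule F V)
      (B.flip u)
    have hfr3 := finrank_le_inf_ker_add_one ((⊤ ⊓ LinearMap.ker (B.flip p₀)) ⊓
      LinearMap.ker (B.flip u) : Submodule F V) (B.flip v)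
    rw [finrank_top] at hfr1
    obtain ⟨x, hx, hx0, hQx⟩ := exists_singular_in Q B hQs hQp
      (((⊤ ⊓ LinearMap.ker (B.flip p₀)) ⊓ LinearMap.ker (B.flip u)) ⊓
        LinearMap.ker (B.flip v) : Submodule F V) (by omega)
    exact step3 x hx0 hQx (by rw [hsymm]; exact mem_ker_flip.mp hx.1.1.2) u v
      (mem_ker_flip.mp hx.1.2) (mem_ker_flip.mp hx.2)
  -- Step 5
  apply hnp
  refine ⟨κ₀, fun v => ?_⟩
  have h1 := step4 v v
  rw [← hQB', ← hQB] at h1
  have : (2 : F) * (Q' v - κ₀ * Q v) = 0 := by linear_combination h1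
  rcases mul_eq_zero.mp this with h | h
  · exact absurd h h2
  · linear_combination h

end

section

variable [Finite F] [FiniteDimensional F V] {Q : V → F} {B : LinearMap.BilinForm F V}
  (hQs : ∀ (c : F) (v : V), Q (c • v) = c * c * Q v)
  (hQp : ∀ u v : V, Q (u + v) = Q u + Q v + B u v)

include hQs hQp in
/-- **Maximality of the similarity group of a quadratic form in the group generated by
transvections**, dimension at least six (helper59; common singular point of two quadrics).  The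
existence of common singular vectors (Chevalley-Warning) is the hypothesis `hCW`. -/
theorem maximal_osim6_aux (h2 : (2 : F) ≠ 0) (hN : B.Nondegenerate) (hdim : 6 ≤ finrank F V)
    (hCW : ∀ (Q' : V → F) (B' : LinearMap.BilinForm F V),
      (∀ (c : F) (v : V), Q' (c • v) = c * c * Q' v) →
      (∀ u v : V, Q' (u + v) = Q' u + Q' v + B' u v) →
      ∃ w : V, w ≠ 0 ∧ Q w = 0 ∧ Q' w = 0)
    (S K : Subgroup (V ≃ₗ[F] V))
    (hS : ∀ g, g ∈ S ↔ ∃ c : Fˣ, ∀ v, Q (g v) = (c : F) * Q v)
    (hK1 : ∀ (φ : Dual F V) (v : V) (h : φ v = 0), LinearEquiv.transvection h ∈ K)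
    (hK2 : ∀ M : Subgroup (V ≃ₗ[F] V),
      (∀ (φ : Dual F V) (v : V) (h : φ v = 0), LinearEquiv.transvection h ∈ M) → K ≤ M) :
    (S ⊓ K < K) ∧ ∀ M : Subgroup (V ≃ₗ[F] V), S ⊓ K ≤ M → M ≤ K → M = S ⊓ K ∨ M = K := by
  have hsymm := B_symm Q B hQp
  have htopnd : ∀ a ∈ (⊤ : Submodule F V), a ≠ 0 → ∃ x ∈ (⊤ : Submodule F V), B x a ≠ 0 := by
    intro a _ ha
    by_contra hcon
    push Not at hcon
    exact ha (hN.2 a (fun x => hcon x trivial))
  have hsiegH : ∀ u z, Q u = 0 → B u z = 0 → sieg Q B u z ∈ S ⊓ K := by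
    intro u z hu huz
    refine ⟨(hS _).mpr ⟨1, fun v => ?_⟩, ?_⟩
    · rw [sieg_mem_oG Q B hQs hQp hu huz v, Units.val_one, one_mul]
    · unfold sieg
      split_ifs
      · exact K.mul_mem (hK1 _ _ _) (hK1 _ _ _)
      · exact K.one_mem
  constructor
  · -- proper
    refine lt_of_le_of_ne inf_le_right ?_
    intro heq
    obtain ⟨e, -, he0, hQe⟩ := exists_singular_in Q B hQs hQp ⊤ (by rw [finrank_top]; omega)
    obtain ⟨f, -, hQf, hef⟩ := exists_partner hQs hQp ⊤ htopnd trivial he0 hQe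
    obtain ⟨hAnd, hAfr, -⟩ := hyp_step hQs hQp ⊤ htopnd trivial trivial hQe hQf hef
    rw [finrank_top] at hAfr
    obtain ⟨A, hAdef⟩ : ∃ A : Submodule F V, A = ((⊤ ⊓ LinearMap.ker (B.flip e)) ⊓
        LinearMap.ker (B.flip f) : Submodule F V) := ⟨_, rfl⟩
    rw [← hAdef] at hAnd hAfr
    have hA0 : A ≠ ⊥ := by
      intro h
      rw [h, finrank_bot] at hAfr
      omega
    obtain ⟨a, haA, ha0⟩ := Submodule.exists_mem_ne_zero_of_ne_bot hA0
    obtain ⟨y, hyA, hya⟩ := hAnd a haA ha0
    have hAe : ∀ w ∈ A, B w e = 0 := by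
      intro w hw
      rw [hAdef] at hw
      exact mem_ker_flip.mp hw.1.2
    have hAf : ∀ w ∈ A, B w f = 0 := by
      intro w hw
      rw [hAdef] at hw
      exact mem_ker_flip.mp hw.2
    have hea : B e a = 0 := by rw [hsymm]; exact hAe a haA
    have ht : gtv B a e hea ∈ S := by
      have : gtv B a e hea ∈ S ⊓ K := by
        rw [heq]
        exact hK1 _ _ _
      exact this.1
    obtain ⟨c, hc⟩ := (hS _).mp ht
    have hee : B e e = 0 := by rw [B_self Q B hQs hQp, hQe, mul_zero]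
    have h1 := hc y
    rw [gtv_apply, Q_add_smul Q B hQs hQp, hQe, hAe y hyA, mul_zero, mul_zero, add_zero,
      add_zero] at h1
    have hfy : B f y = 0 := by rw [hsymm]; exact hAf y hyA
    have hfa : B f a = 0 := by rw [hsymm]; exact hAf a haA
    have hfe : B f e = 1 := by rw [hsymm]; exact hef
    have hB1 : B (f + y) a = B y a := by rw [map_add, LinearMap.add_apply, hfa, zero_add]
    have hB2 : B (f + y) e = 1 := by
      rw [map_add, LinearMap.add_apply, hfe, hAe y hyA, add_zero]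
    have hQfy : Q (f + y) = Q y := by
      rw [hQp, hQf, hfy]
      ring
    have h3 := hc (f + y)
    rw [gtv_apply, Q_add_smul Q B hQs hQp, hQe, hB1, hB2, hQfy] at h3
    by_cases hQy : Q y = 0
    · rw [hQy] at h3
      apply hya
      linear_combination h3
    · have hc1 : (c : F) = 1 := by
        have : ((c : F) - 1) * Q y = 0 := by linear_combination -h1
        rcases mul_eq_zero.mp this with h | h
        · linear_combination h
        · exact absurd h hQy
      rw [hc1] at h3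
      apply hya
      linear_combination h3
  · intro M hHM hMK
    by_cases hMS : M ≤ S
    · left
      exact le_antisymm (fun g hg => ⟨hMS hg, hMK hg⟩) hHM
    · right
      apply le_antisymm hMK
      obtain ⟨g, hgM, hgS⟩ := SetLike.not_le_iff_exists.mp hMS
      have hM : ∀ u z, Q u = 0 → B u z = 0 → sieg Q B u z ∈ M := fun u z hu huz =>
        hHM (hsiegH u z hu huz)
      -- the second quadratic form
      obtain ⟨Q', hQ'def⟩ : ∃ Q' : V → F, Q' = fun v => Q (g v) := ⟨_, rfl⟩
      obtain ⟨B', hB'def⟩ : ∃ B' : LinearMap.BilinForm F V,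
          B' = LinearMap.BilinForm.comp B (g : V →ₗ[F] V) (g : V →ₗ[F] V) := ⟨_, rfl⟩
      have hB'app : ∀ x y, B' x y = B (g x) (g y) := by
        intro x y
        rw [hB'def]
        simp
      have hQ'app : ∀ v, Q' v = Q (g v) := by
        intro v
        rw [hQ'def]
      have hQs' : ∀ (c : F) (v : V), Q' (c • v) = c * c * Q' v := by
        intro c v
        rw [hQ'app, hQ'app, map_smul, hQs]
      have hQp' : ∀ u v : V, Q' (u + v) = Q' u + Q' v + B' u v := by
        intro u v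
        rw [hQ'app, hQ'app, hQ'app, hB'app, map_add, hQp]
      have hsymm' := B_symm Q' B' hQp'
      have hN' : B'.Nondegenerate := by
        constructor
        · intro x hx
          have : g x = 0 := hN.1 (g x) (fun y => by
            have := hx (g⁻¹ y)
            rwa [hB'app, apply_inv_apply'] at this)
          exact g.injective (this.trans (map_zero g).symm)
        · intro y hy
          have : g y = 0 := hN.2 (g y) (fun x => by
            have := hy (g⁻¹ x)
            rwa [hB'app, apply_inv_apply'] at this)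
          exact g.injective (this.trans (map_zero g).symm)
      have hM' : ∀ u z, Q' u = 0 → B' u z = 0 → sieg Q' B' u z ∈ M := by
        intro u z hu huz
        have hu1 : Q (g u) = 0 := by rw [← hQ'app]; exact hu
        have huz1 : B (g u) (g z) = 0 := by rw [← hB'app]; exact huz
        have : sieg Q' B' u z = g⁻¹ * sieg Q B (g u) (g z) * g := by
          ext x
          rw [LinearEquiv.mul_apply, LinearEquiv.mul_apply, sieg_apply Q' B' hQs' hQp' hu huz,
            sieg_apply Q B hQs hQp hu1 huz1]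
          simp only [map_add, map_sub, map_smul, inv_apply_apply', hB'app, hQ'app]
        rw [this]
        exact M.mul_mem (M.mul_mem (M.inv_mem hgM) (hM _ _ hu1 huz1)) hgM
      -- the forms are not proportional
      have hnp : ¬ ∃ κ : F, ∀ v, Q' v = κ * Q v := by
        rintro ⟨κ, hκ⟩
        have hκ0 : κ ≠ 0 := by
          rintro rfl
          obtain ⟨e, -, he0, hQe⟩ := exists_singular_in Q B hQs hQp ⊤
            (by rw [finrank_top]; omega)
          obtain ⟨x, hx⟩ : ∃ x, B' x e ≠ 0 := by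
            by_contra hc
            push Not at hc
            exact he0 (hN'.2 e hc)
          apply hx
          have h1 := hQp' x e
          rw [hκ, hκ x, hκ e] at h1
          linear_combination -h1
        apply hgS
        rw [hS]
        refine ⟨Units.mk0 κ hκ0, fun v => ?_⟩
        rw [Units.val_mk0, ← hQ'app, hκ]
      obtain ⟨p, z, z', hp0, hQp0, hQ'p0, hpz, hpz', hpz1, hpz1', hψne⟩ :=
        exists_good hQs hQp hQs' hQp' h2 hN hN' hdim hnp (hCW Q' B' hQs' hQp')
      have hpp : B p p = 0 := by rw [B_self Q B hQs hQp, hQp0, mul_zero]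
      have hpp' : B' p p = 0 := by rw [B_self Q' B' hQs' hQp', hQ'p0, mul_zero]
      -- the functional
      obtain ⟨ψ, hψdef⟩ : ∃ ψ : Dual F V, ψ = B' z z' • B.flip p - B z z' • B'.flip p := ⟨_, rfl⟩
      rw [← hψdef] at hψne
      have hψapp : ∀ x, ψ x = B' z z' * B x p - B z z' * B' x p := by
        intro x
        rw [hψdef]
        rfl
      obtain ⟨a, ha⟩ := exists_rep' hsymm hN ψ
      have ha0 : a ≠ 0 := by
        rintro rfl
        apply hψne
        ext x
        rw [← ha x]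
        simp
      have hpa : B p a = 0 := by rw [ha, hψapp, hpp, hpp']; ring
      apply hK2
      apply all_of_root_group hQs hQp h2 hN hdim M hM hp0 ha0 hpa
      intro t ht
      have e1 : B p (t • z) = 0 := by rw [map_smul, hpz, smul_zero]
      have e2 : B' p (t • z) = 0 := by rw [map_smul, hpz1, smul_zero]
      have hψt : (B' (t • z) z' • B.flip p - B (t • z) z' • B'.flip p) p = 0 := by
        have hf : ∀ y, (B.flip p) y = B y p := fun y => rfl
        have hf' : ∀ y, (B'.flip p) y = B' y p := fun y => rfl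
        simp only [LinearMap.sub_apply, LinearMap.smul_apply, hf, hf', hpp, hpp', smul_eq_mul,
          mul_zero, sub_zero]
      have hcomm := comm_formula hQs hQp hQs' hQp' hQp0 hQ'p0 e1 hpz' e2 hpz1' hψt
      have heq : gtv B (t • a) p ht = LinearEquiv.transvection hψt := by
        ext x
        have hf : ∀ y, (B.flip p) y = B y p := fun y => rfl
        have hf' : ∀ y, (B'.flip p) y = B' y p := fun y => rfl
        simp only [gtv_apply, LinearEquiv.transvection.apply, map_smul, LinearMap.smul_apply,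
          LinearMap.sub_apply, hf, hf', smul_eq_mul, ha, hψapp]
        congr 2
        ring
      rw [heq]
      have h1 : LinearEquiv.transvection hψt = sieg Q B p (t • z) * sieg Q' B' p z' *
          (sieg Q' B' p z' * sieg Q B p (t • z))⁻¹ := by
        rw [hcomm, mul_inv_cancel_right]
      rw [h1]
      exact M.mul_mem (M.mul_mem (hM _ _ hQp0 e1) (hM' _ _ hQ'p0 hpz1'))
        (M.inv_mem (M.mul_mem (hM' _ _ hQ'p0 hpz1') (hM _ _ hQp0 e1)))

end

section

variable [Finite F] [FiniteDimensional F V] {Q : V → F} {B : LinearMap.BilinForm F V}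
  (hQs : ∀ (c : F) (v : V), Q (c • v) = c * c * Q v)
  (hQp : ∀ u v : V, Q (u + v) = Q u + Q v + B u v)

include hQs hQp in
/-- **Maximality of the similarity group of a quadratic form in the group generated by
transvections**, odd characteristic, dimension at least six. -/
theorem maximal_osim6 (h2 : (2 : F) ≠ 0) (hN : B.Nondegenerate) (hdim : 6 ≤ finrank F V)
    (S K : Subgroup (V ≃ₗ[F] V))
    (hS : ∀ g, g ∈ S ↔ ∃ c : Fˣ, ∀ v, Q (g v) = (c : F) * Q v)
    (hK1 : ∀ (φ : Dual F V) (v : V) (h : φ v = 0), LinearEquiv.transvection h ∈ K)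
    (hK2 : ∀ M : Subgroup (V ≃ₗ[F] V),
      (∀ (φ : Dual F V) (v : V) (h : φ v = 0), LinearEquiv.transvection h ∈ M) → K ≤ M) :
    (S ⊓ K < K) ∧ ∀ M : Subgroup (V ≃ₗ[F] V), S ⊓ K ≤ M → M ≤ K → M = S ⊓ K ∨ M = K := by
  apply maximal_osim6_aux hQs hQp h2 hN hdim _ S K hS hK1 hK2
  intro Q' B' hQs' hQp'
  obtain ⟨w, -, hw0, hw, hw'⟩ :=
    Cfsg.Agent.Lib.Helper64_S5798_OS6_CW.exists_common_singular hQs hQp hQs' hQp' h2 ⊤
      (by rw [finrank_top]; omega)
  exact ⟨w, hw0, hw, hw'⟩

end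

end Cfsg.Agent.Lib.Helper59_OSim6
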