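import Mathlib
import Cfsg.Agent.Lib.Helper94_OrthSmall

set_option autoImplicit false
set_option linter.unusedSectionVars false
set_option linter.unusedVariables false

/-!
# Type transfer for the cubic extension-field subgroup, part J (helper59, project OEXT3)

A quadratic space `(W, Q, B)` over a field `F`, a subspace `A` carrying an `F`-linear map `J` with
`J ∘ J = ε` (`ε` a nonsquare of `F`), `Q (J v) = -ε * Q v` and `B (J v) v = 0` (so `A` is a hermitian
space over `F(√ε)`).  If all totally singular subspaces of `A` have dimension at most three, then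
there is NO totally singular subspace of dimension three in `A`: a totally singular `3`-space would be
`J`-invariant (radical of the alternating form `B (J x) y` on it, then maximality), hence of even
dimension.
-/

namespace Cfsg.Agent.Lib.Helper59_OX3TypeJ

open Module Cfsg.Agent.Lib.Helper94_OrthSmall

variable {F W : Type*} [Field F] [AddCommGroup W] [Module F W]
  (Q : W → F) (B : LinearMap.BilinForm F W)
  (hQs : ∀ (c : F) (v : W), Q (c • v) = c * c * Q v)
  (hQp : ∀ u v : W, Q (u + v) = Q u + Q v + B u v)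

include hQs hQp in
/-- no totally singular `3`-space in a hermitian `F(√ε)`-space whose totally singular subspaces have
dimension at most `3` -/
theorem no_ts3_of_J [FiniteDimensional F W] (ε : F) (hε : ¬ IsSquare ε)
    (A : Submodule F W) (J : W →ₗ[F] W)
    (hJA : ∀ v ∈ A, J v ∈ A)
    (hJJ : ∀ v ∈ A, J (J v) = ε • v)
    (hJQ : ∀ v ∈ A, Q (J v) = -ε * Q v)
    (hJB : ∀ v ∈ A, B (J v) v = 0)
    (hmax : ∀ S' : Submodule F W, S' ≤ A → (∀ x ∈ S', Q x = 0) → finrank F S' ≤ 3)
    (S : Submodule F W) (hSA : S ≤ A) (hS : ∀ x ∈ S, Q x = 0) (hS3 : finrank F S = 3) : False := by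
  classical
  have hsymm := B_symm Q B hQp
  have hεc : ∀ c : F, ε - c * c ≠ 0 := by
    intro c h
    exact hε ⟨c, by linear_combination h⟩
  -- `B` vanishes on `S`
  have hSB : ∀ x ∈ S, ∀ y ∈ S, B x y = 0 := by
    intro x hx y hy
    have := hQp x y
    rw [hS x hx, hS y hy, hS _ (S.add_mem hx hy)] at this
    linear_combination -this
  -- polarised identities on `A`
  have hJBB : ∀ x ∈ A, ∀ y ∈ A, B (J x) (J y) = -ε * B x y := by
    intro x hx y hy
    have h1 := hJQ (x + y) (A.add_mem hx hy)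
    rw [map_add, hQp, hQp, hJQ x hx, hJQ y hy] at h1
    linear_combination h1
  have hJskew : ∀ x ∈ A, ∀ y ∈ A, B (J x) y = -B (J y) x := by
    intro x hx y hy
    have h1 := hJB (x + y) (A.add_mem hx hy)
    simp only [map_add, LinearMap.add_apply] at h1
    rw [hJB x hx, hJB y hy] at h1
    linear_combination h1
  -- maximality: a singular vector of `A` orthogonal to `S` lies in `S`
  have hext : ∀ z ∈ A, Q z = 0 → (∀ t ∈ S, B t z = 0) → z ∈ S := by
    intro z hzA hQz hz
    have hS'A : S ⊔ Submodule.span F {z} ≤ A :=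
      sup_le hSA (by rw [Submodule.span_singleton_le_iff_mem]; exact hzA)
    have hS'Q : ∀ x ∈ S ⊔ Submodule.span F {z}, Q x = 0 := by
      intro x hx
      obtain ⟨s, hs, w, hw, rfl⟩ := Submodule.mem_sup.mp hx
      obtain ⟨c, rfl⟩ := Submodule.mem_span_singleton.mp hw
      rw [Q_add_smul Q B hQs hQp, hS s hs, hQz, hz s hs]
      ring
    have h3 := hmax _ hS'A hS'Q
    have heq : S = S ⊔ Submodule.span F {z} :=
      Submodule.eq_of_le_of_finrank_le le_sup_left (by rw [hS3]; exact h3)
    rw [heq]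
    exact Submodule.mem_sup_right (Submodule.mem_span_singleton_self z)
  -- a basis of `S`
  let b := Module.finBasisOfFinrankEq F S hS3
  obtain ⟨s1, hs1d⟩ : ∃ s1 : W, s1 = (b 0 : W) := ⟨_, rfl⟩
  obtain ⟨s2, hs2d⟩ : ∃ s2 : W, s2 = (b 1 : W) := ⟨_, rfl⟩
  obtain ⟨s3, hs3d⟩ : ∃ s3 : W, s3 = (b 2 : W) := ⟨_, rfl⟩
  have hs1 : s1 ∈ S := by rw [hs1d]; exact (b 0).2
  have hs2 : s2 ∈ S := by rw [hs2d]; exact (b 1).2
  have hs3 : s3 ∈ S := by rw [hs3d]; exact (b 2).2
  have hrep : ∀ y ∈ S, ∃ c1 c2 c3 : F, y = c1 • s1 + c2 • s2 + c3 • s3 := by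
    intro y hy
    have h := congrArg Subtype.val (b.sum_repr ⟨y, hy⟩)
    rw [Fin.sum_univ_three] at h
    refine ⟨b.repr ⟨y, hy⟩ 0, b.repr ⟨y, hy⟩ 1, b.repr ⟨y, hy⟩ 2, ?_⟩
    rw [hs1d, hs2d, hs3d]
    simpa using h.symm
  have hind : ∀ c1 c2 c3 : F, c1 • s1 + c2 • s2 + c3 • s3 = 0 → c1 = 0 ∧ c2 = 0 ∧ c3 = 0 := by
    intro c1 c2 c3 h
    have hli := b.linearIndependent
    rw [Fintype.linearIndependent_iff] at hli
    have := hli ![c1, c2, c3] (by
      rw [Fin.sum_univ_three]
      apply Subtype.ext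
      rw [hs1d, hs2d, hs3d] at h
      simpa using h)
    exact ⟨this 0, this 1, this 2⟩
  have hs1A := hSA hs1
  have hs2A := hSA hs2
  have hs3A := hSA hs3
  -- a nonzero vector of the radical of `B (J x) y` on `S`
  obtain ⟨x0, hx0S, hx00, hx0⟩ : ∃ x0 ∈ S, x0 ≠ 0 ∧ ∀ y ∈ S, B (J x0) y = 0 := by
    have h21 : B (J s2) s1 = -B (J s1) s2 := hJskew s2 hs2A s1 hs1A
    have h31 : B (J s3) s1 = -B (J s1) s3 := hJskew s3 hs3A s1 hs1A
    have h32 : B (J s3) s2 = -B (J s2) s3 := hJskew s3 hs3A s2 hs2A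
    by_cases hz : B (J s1) s2 = 0 ∧ B (J s1) s3 = 0 ∧ B (J s2) s3 = 0
    · refine ⟨s1, hs1, ?_, ?_⟩
      · intro h0
        have := hind 1 0 0 (by rw [h0]; simp)
        exact one_ne_zero this.1
      · intro y hy
        obtain ⟨c1, c2, c3, rfl⟩ := hrep y hy
        simp only [map_add, map_smul, smul_eq_mul]
        rw [hJB s1 hs1A, hz.1, hz.2.1]
        ring
    · refine ⟨B (J s2) s3 • s1 + (-B (J s1) s3) • s2 + B (J s1) s2 • s3,
        S.add_mem (S.add_mem (S.smul_mem _ hs1) (S.smul_mem _ hs2)) (S.smul_mem _ hs3), ?_, ?_⟩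
      · intro h0
        obtain ⟨h1, h2, h3⟩ := hind _ _ _ h0
        exact hz ⟨h3, neg_eq_zero.mp h2, h1⟩
      · intro y hy
        obtain ⟨c1, c2, c3, rfl⟩ := hrep y hy
        simp only [map_add, map_smul, smul_eq_mul, LinearMap.add_apply, LinearMap.smul_apply]
        rw [hJB s1 hs1A, hJB s2 hs2A, hJB s3 hs3A, h21, h31, h32]
        ring
  have hx0A := hSA hx0S
  have hJx0S : J x0 ∈ S :=
    hext (J x0) (hJA x0 hx0A) (by rw [hJQ x0 hx0A, hS x0 hx0S, mul_zero])
      (fun t ht => by rw [hsymm]; exact hx0 t ht)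
  -- `J x0` is not a multiple of `x0`
  have hJx0 : J x0 ∉ Submodule.span F {x0} := by
    intro h
    obtain ⟨c, hc⟩ := Submodule.mem_span_singleton.mp h
    have h1 : J (J x0) = ε • x0 := hJJ x0 hx0A
    rw [← hc, map_smul, ← hc, smul_smul] at h1
    have h2 : (ε - c * c) • x0 = 0 := by rw [sub_smul, h1, sub_self]
    rcases smul_eq_zero.mp h2 with h3 | h3
    · exact hεc c h3
    · exact hx00 h3
  -- a third vector
  obtain ⟨s, hsS, hsP⟩ : ∃ s ∈ S, s ∉ Submodule.span F {x0, J x0} := by
    by_contra hcon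
    push Not at hcon
    have hle : S ≤ Submodule.span F {x0, J x0} := fun x hx => hcon x hx
    have h1 := Submodule.finrank_mono hle
    have h2 : finrank F (Submodule.span F ({x0, J x0} : Set W)) ≤ 2 := by
      have h3 := finrank_span_le_card (R := F) ({x0, J x0} : Set W)
      have h4 : ({x0, J x0} : Set W).toFinset.card ≤ 2 := by
        have : ({x0, J x0} : Set W).toFinset = {x0, J x0} := by
          ext; simp
        rw [this]
        exact Finset.card_le_two
      omega
    omega
  have hsA := hSA hsS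
  -- `S` is spanned by `x0`, `J x0`, `s`
  have hspan : S = Submodule.span F {x0, J x0} ⊔ Submodule.span F {s} := by
    symm
    have hP : Submodule.span F {x0, J x0} ≤ S := by
      rw [Submodule.span_le]
      intro x hx
      rcases hx with rfl | rfl
      · exact hx0S
      · exact hJx0S
    have hle : Submodule.span F {x0, J x0} ⊔ Submodule.span F {s} ≤ S :=
      sup_le hP (by rw [Submodule.span_singleton_le_iff_mem]; exact hsS)
    apply Submodule.eq_of_le_of_finrank_le hle
    rw [hS3]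
    have h1 : Submodule.span F {x0} < Submodule.span F {x0, J x0} := by
      refine lt_of_le_of_ne (Submodule.span_mono (by simp)) ?_
      intro h
      apply hJx0
      rw [h]
      exact Submodule.subset_span (by simp)
    have h2 : Submodule.span F {x0, J x0} <
        Submodule.span F {x0, J x0} ⊔ Submodule.span F {s} := by
      refine lt_of_le_of_ne le_sup_left ?_
      intro h
      apply hsP
      rw [h]
      exact Submodule.mem_sup_right (Submodule.mem_span_singleton_self s)
    have h3 := Submodule.finrank_lt_finrank_of_lt h1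
    have h4 := Submodule.finrank_lt_finrank_of_lt h2
    have h5 : finrank F (Submodule.span F {x0}) = 1 := finrank_span_singleton hx00
    omega
  have hdec : ∀ y ∈ S, ∃ p q r : F, y = p • x0 + q • J x0 + r • s := by
    intro y hy
    rw [hspan] at hy
    obtain ⟨u, hu, w, hw, rfl⟩ := Submodule.mem_sup.mp hy
    obtain ⟨p, q, rfl⟩ := Submodule.mem_span_pair.mp hu
    obtain ⟨r, rfl⟩ := Submodule.mem_span_singleton.mp hw
    exact ⟨p, q, r, rfl⟩
  -- `J s ∈ S`
  have hJsS : J s ∈ S := by
    apply hext (J s) (hJA s hsA) (by rw [hJQ s hsA, hS s hsS, mul_zero])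
    intro t ht
    obtain ⟨p, q, r, rfl⟩ := hdec t ht
    simp only [map_add, map_smul, LinearMap.add_apply, LinearMap.smul_apply, smul_eq_mul]
    have e1 : B x0 (J s) = 0 := by
      rw [hsymm, hJskew s hsA x0 hx0A, hx0 s hsS, neg_zero]
    have e2 : B (J x0) (J s) = 0 := by
      rw [hJBB x0 hx0A s hsA, hSB x0 hx0S s hsS, mul_zero]
    have e3 : B s (J s) = 0 := by
      rw [hsymm, hJB s hsA]
    rw [e1, e2, e3]
    ring
  obtain ⟨p, q, r, hpqr⟩ := hdec (J s) hJsS
  have h1 : J (J s) = ε • s := hJJ s hsA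
  have h2 : J (J s) = p • J x0 + q • (ε • x0) + r • (p • x0 + q • J x0 + r • s) := by
    conv_lhs => rw [hpqr]
    simp only [map_add, map_smul]
    rw [hJJ x0 hx0A, ← hpqr]
  have h3 : (ε - r * r) • s = (q * ε + r * p) • x0 + (p + r * q) • J x0 := by
    rw [sub_smul, ← h1, h2]
    module
  apply hsP
  have h4 : s = (ε - r * r)⁻¹ • ((q * ε + r * p) • x0 + (p + r * q) • J x0) := by
    rw [← h3, smul_smul, inv_mul_cancel₀ (hεc r), one_smul]
  rw [h4]
  apply Submodule.smul_mem
  exact Submodule.add_mem _ (Submodule.smul_mem _ _ (Submodule.subset_span (by simp)))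
    (Submodule.smul_mem _ _ (Submodule.subset_span (by simp)))

end Cfsg.Agent.Lib.Helper59_OX3TypeJ
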