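import Mathlib
import Cfsg.Agent.Lib.Helper94_OrthSmall
import Cfsg.Agent.Lib.Helper94_OrthTS
import Cfsg.Agent.Lib.Helper44_FinSq

set_option autoImplicit false
set_option linter.unusedSectionVars false
set_option linter.unusedVariables false
set_option linter.style.haveILetI false

/-!
# Type transfer for the cubic extension-field subgroup, part K (helper59, project OEXT3)

`K / F` an extension of finite fields of degree three, `2 ≠ 0`; an anisotropic `K`-plane `A` of a
`K`-quadratic space carries a `K`-linear map `J` with `J ∘ J = ε` for a NONSQUARE `ε` of `F`,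
`QK (J v) = -ε * QK v` and `BK (J v) v = 0`: in an orthogonal basis the form is
`α (x² - ε γ² y²)`, because a nonsquare of `F` stays a nonsquare in `K` (norm argument).
-/

namespace Cfsg.Agent.Lib.Helper59_OX3TypeK

open Module Cfsg.Agent.Lib.Helper94_OrthSmall Cfsg.Agent.Lib.Helper94_OrthNondeg
  Cfsg.Agent.Lib.Helper94_OrthTS

variable {F K V : Type*} [Field F] [Field K] [Algebra F K] [AddCommGroup V] [Module F V]
  [Module K V] [IsScalarTower F K V]

/-- a nonsquare of `F` stays a nonsquare in an extension of degree three -/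
theorem not_isSquare_algebraMap (h3 : finrank F K = 3) {ε : F} (hε : ¬ IsSquare ε) :
    ¬ IsSquare (algebraMap F K ε) := by
  rintro ⟨k, hk⟩
  have hε0 : ε ≠ 0 := by
    rintro rfl
    exact hε ⟨0, by simp⟩
  have h := congrArg (Algebra.norm F) hk
  rw [Algebra.norm_algebraMap, h3, map_mul] at h
  apply hε
  refine ⟨Algebra.norm F k / ε, ?_⟩
  rw [div_mul_div_comm, ← h]
  field_simp

variable (QK : V → K) (BK : LinearMap.BilinForm K V)
  (hQKs : ∀ (c : K) (v : V), QK (c • v) = c * c * QK v)
  (hQKp : ∀ u v : V, QK (u + v) = QK u + QK v + BK u v)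

include hQKs hQKp in
/-- the `F(√ε)`-structure of an anisotropic `K`-plane -/
theorem exists_J_of_aniso [Finite K] [FiniteDimensional K V] (h2 : (2 : F) ≠ 0)
    (h3 : finrank F K = 3) (A : Submodule K V) (hA2 : finrank K A = 2)
    (haniso : ∀ a ∈ A, a ≠ 0 → QK a ≠ 0) :
    ∃ (ε : F) (J : V →ₗ[K] V), ¬ IsSquare ε ∧ (∀ v ∈ A, J v ∈ A) ∧
      (∀ v ∈ A, J (J v) = algebraMap F K ε • v) ∧
      (∀ v ∈ A, QK (J v) = -(algebraMap F K ε) * QK v) ∧ (∀ v ∈ A, BK (J v) v = 0) := by
  classical
  have hsymm := B_symm QK BK hQKp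
  haveI : Finite F := Finite.of_injective (algebraMap F K) (algebraMap F K).injective
  haveI : Fintype F := Fintype.ofFinite F
  haveI : Fintype K := Fintype.ofFinite K
  have h2K : (2 : K) ≠ 0 := by
    have : (2 : K) = algebraMap F K 2 := (map_ofNat (algebraMap F K) 2).symm
    rw [this]
    intro h
    exact h2 ((algebraMap F K).injective (by rw [h, map_zero]))
  -- an orthogonal basis `a`, `b` of `A`
  have hA0 : A ≠ ⊥ := by
    intro h
    rw [h, finrank_bot] at hA2
    omega
  obtain ⟨a, haA, ha0⟩ := Submodule.exists_mem_ne_zero_of_ne_bot hA0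
  have hα : QK a ≠ 0 := haniso a haA ha0
  have haa : BK a a = 2 * QK a := B_self QK BK hQKs hQKp a
  have haa0 : BK a a ≠ 0 := by rw [haa]; exact mul_ne_zero h2K hα
  have hfr1 := finrank_inf_ker_add_one A (BK.flip a) haA (by
    show BK a a ≠ 0
    exact haa0)
  have hA1 : (A ⊓ LinearMap.ker (BK.flip a) : Submodule K V) ≠ ⊥ := by
    intro h
    rw [h, finrank_bot] at hfr1
    omega
  obtain ⟨b, hb, hb0⟩ := Submodule.exists_mem_ne_zero_of_ne_bot hA1
  have hbA : b ∈ A := hb.1
  have hba : BK b a = 0 := mem_ker_flip.mp hb.2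
  have hab : BK a b = 0 := by rw [hsymm]; exact hba
  have hβ : QK b ≠ 0 := haniso b hbA hb0
  have hbb : BK b b = 2 * QK b := B_self QK BK hQKs hQKp b
  -- `A` is spanned by `a`, `b`
  have hbna : b ∉ Submodule.span K {a} := by
    intro h
    obtain ⟨c, rfl⟩ := Submodule.mem_span_singleton.mp h
    rw [map_smul, LinearMap.smul_apply, smul_eq_mul] at hba
    rcases mul_eq_zero.mp hba with h1 | h1
    · exact hb0 (by rw [h1, zero_smul])
    · exact haa0 h1
  have hspan : Submodule.span K {a, b} = A := by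
    have hle : Submodule.span K {a, b} ≤ A := by
      rw [Submodule.span_le]
      intro x hx
      rcases hx with rfl | rfl
      · exact haA
      · exact hbA
    apply Submodule.eq_of_le_of_finrank_le hle
    rw [hA2]
    have h1 : Submodule.span K {a} < Submodule.span K {a, b} := by
      refine lt_of_le_of_ne (Submodule.span_mono (by simp)) ?_
      intro h
      apply hbna
      rw [h]
      exact Submodule.subset_span (by simp)
    have h4 := Submodule.finrank_lt_finrank_of_lt h1
    have h5 : finrank K (Submodule.span K {a}) = 1 := finrank_span_singleton ha0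
    omega
  have hdec : ∀ v ∈ A, ∃ x y : K, v = x • a + y • b := by
    intro v hv
    rw [← hspan] at hv
    obtain ⟨x, y, rfl⟩ := Submodule.mem_span_pair.mp hv
    exact ⟨x, y, rfl⟩
  -- `-β / α` is a nonsquare of `K`
  have hns : ¬ IsSquare (-(QK b) / QK a) := by
    rintro ⟨g, hg⟩
    have hga : g * g * QK a = -QK b := by
      rw [← hg]
      field_simp
    have h1 : QK (g • a + b) = 0 := by
      rw [hQKp, hQKs, map_smul, LinearMap.smul_apply, hab, smul_zero, hga]
      ring
    have h0 : g • a + b ≠ 0 := by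
      intro h
      have h5 : BK (g • a + b) b = 0 := by rw [h]; simp
      rw [map_add, map_smul, LinearMap.add_apply, LinearMap.smul_apply, hab, smul_zero, zero_add,
        hbb] at h5
      exact mul_ne_zero h2K hβ h5
    exact haniso _ (A.add_mem (A.smul_mem _ haA) hbA) h0 h1
  -- a nonsquare of `F`
  obtain ⟨ε, hε⟩ := FiniteField.exists_nonsquare
    (Cfsg.Agent.Lib.Helper44_FinSq.ringChar_ne_two_of_two_ne_zero h2)
  have hεK := not_isSquare_algebraMap (K := K) h3 hε
  have hε0 : algebraMap F K ε ≠ 0 := by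
    intro h
    exact hεK ⟨0, by rw [h]; simp⟩
  obtain ⟨δ, hδ⟩ := Cfsg.Agent.Lib.Helper44_FinSq.isSquare_mul_of_nonsq_of_nonsq hns hεK
  obtain ⟨γ, hγd⟩ : ∃ γ : K, γ = δ / algebraMap F K ε := ⟨_, rfl⟩
  have hγ : -(QK b) / QK a = algebraMap F K ε * γ * γ := by
    rw [hγd]
    have h5 : algebraMap F K ε * (δ / algebraMap F K ε) * (δ / algebraMap F K ε) =
        (δ * δ) / algebraMap F K ε := by
      field_simp
    rw [h5, ← hδ]
    field_simp
  have hβγ : QK b = -(QK a * algebraMap F K ε * γ * γ) := by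
    have : -(QK b) = QK a * (algebraMap F K ε * γ * γ) := by
      rw [← hγ]
      field_simp
    linear_combination -this
  have hγ0 : γ ≠ 0 := by
    rintro rfl
    apply hβ
    rw [hβγ]
    ring
  -- the map `J`
  obtain ⟨J, hJdef⟩ : ∃ J : V →ₗ[K] V, ∀ v, J v =
      ((2 * QK b)⁻¹ * γ * algebraMap F K ε * BK v b) • a + ((2 * QK a)⁻¹ * γ⁻¹ * BK v a) • b := by
    refine ⟨((2 * QK b)⁻¹ * γ * algebraMap F K ε) • (BK.flip b).smulRight a +
      ((2 * QK a)⁻¹ * γ⁻¹) • (BK.flip a).smulRight b, fun v => ?_⟩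
    simp only [LinearMap.add_apply, LinearMap.smul_apply, LinearMap.smulRight_apply,
      LinearMap.BilinForm.flip_apply, smul_smul]
  have hJab : ∀ x y : K, J (x • a + y • b) = (y * γ * algebraMap F K ε) • a + (x * γ⁻¹) • b := by
    intro x y
    rw [hJdef]
    have e1 : BK (x • a + y • b) b = y * (2 * QK b) := by
      simp only [map_add, map_smul, LinearMap.add_apply, LinearMap.smul_apply, smul_eq_mul, hab,
        hbb, mul_zero, zero_add]
    have e2 : BK (x • a + y • b) a = x * (2 * QK a) := by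
      simp only [map_add, map_smul, LinearMap.add_apply, LinearMap.smul_apply, smul_eq_mul, hba,
        haa, mul_zero, add_zero]
    rw [e1, e2]
    have e3 : (2 * QK b)⁻¹ * γ * algebraMap F K ε * (y * (2 * QK b)) =
        y * γ * algebraMap F K ε := by
      field_simp
    have e4 : (2 * QK a)⁻¹ * γ⁻¹ * (x * (2 * QK a)) = x * γ⁻¹ := by
      field_simp
    rw [e3, e4]
  refine ⟨ε, J, hε, ?_, ?_, ?_, ?_⟩
  · intro v hv
    obtain ⟨x, y, rfl⟩ := hdec v hv
    rw [hJab]
    exact A.add_mem (A.smul_mem _ haA) (A.smul_mem _ hbA)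
  · intro v hv
    obtain ⟨x, y, rfl⟩ := hdec v hv
    rw [hJab, hJab, smul_add, smul_smul, smul_smul]
    have e3 : x * γ⁻¹ * γ * algebraMap F K ε = algebraMap F K ε * x := by
      field_simp
    have e4 : y * γ * algebraMap F K ε * γ⁻¹ = algebraMap F K ε * y := by
      field_simp
    rw [e3, e4]
  · intro v hv
    obtain ⟨x, y, rfl⟩ := hdec v hv
    rw [hJab, hQKp, hQKs, hQKs, hQKp, hQKs, hQKs]
    simp only [map_smul, LinearMap.smul_apply, smul_eq_mul, hab, mul_zero, add_zero]
    rw [hβγ]
    field_simp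
    ring
  · intro v hv
    obtain ⟨x, y, rfl⟩ := hdec v hv
    rw [hJab]
    simp only [map_add, map_smul, LinearMap.add_apply, LinearMap.smul_apply, smul_eq_mul, hab, hba,
      haa, hbb, mul_zero, add_zero, zero_add]
    rw [hβγ]
    field_simp
    ring

end Cfsg.Agent.Lib.Helper59_OX3TypeK
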