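import Mathlib
import Cfsg.Agent.Lib.Helper59_OX3TypeJ
import Cfsg.Agent.Lib.Helper59_OX3TypeK
import Cfsg.Agent.Lib.Helper94_OrthHyp
import Cfsg.Agent.Lib.Helper94_OrthSiegel2
import Cfsg.Agent.Lib.Helper97_OX2Defs

set_option autoImplicit false
set_option linter.unusedSectionVars false
set_option linter.unusedVariables false
set_option linter.style.haveILetI false

/-!
# Type transfer for the cubic extension-field subgroup (helper59, project OEXT3)

`K / F` an extension of finite fields of degree three, `2 ≠ 0`, `τ : K →ₗ[F] F` a nonzero functional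
(for instance the trace), `V` a `K`-space of dimension four with a nondegenerate `K`-quadratic form
`QK` (polar form `BK`).  If the `F`-quadratic form `τ ∘ QK` (dimension twelve) has a totally singular
`F`-subspace of dimension six (plus type), then `QK` has a totally singular `K`-line (`QK` is split).

No counting: a hyperbolic `K`-pair `e, f`, `A = ⟨e, f⟩^⊥`; if `A` were anisotropic it would be a
hermitian `F(√ε)`-space of odd dimension `3` (`Helper59_OX3TypeK`), the totally singular `6`-space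
gives a totally singular `F`-subspace of dimension `3` of `A`, contradicting `Helper59_OX3TypeJ`.
-/

namespace Cfsg.Agent.Lib.Helper59_OX3Type

open Module Cfsg.Agent.Lib.Helper94_OrthSmall Cfsg.Agent.Lib.Helper94_OrthNondeg
  Cfsg.Agent.Lib.Helper94_OrthTS Cfsg.Agent.Lib.Helper97_OX2Defs

variable {F K V : Type*} [Field F] [Field K] [Algebra F K] [AddCommGroup V] [Module F V]
  [Module K V] [IsScalarTower F K V]

/-- a nonzero `F`-linear functional of `K` separates: `τ (k * c) = 0` for all `k` forces `c = 0` -/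
theorem tau_sep (τ : K →ₗ[F] F) (hτ : τ ≠ 0) (c : K) (h : ∀ k : K, τ (k * c) = 0) : c = 0 := by
  by_contra hc
  apply hτ
  ext k
  have := h (k * c⁻¹)
  rw [mul_assoc, inv_mul_cancel₀ hc, mul_one] at this
  rw [this]
  rfl

variable (QK : V → K) (BK : LinearMap.BilinForm K V)
  (hQKs : ∀ (c : K) (v : V), QK (c • v) = c * c * QK v)
  (hQKp : ∀ u v : V, QK (u + v) = QK u + QK v + BK u v)

include hQKs in
theorem trQ_smul' (τ : K →ₗ[F] F) (c : F) (v : V) :
    trQ τ QK (c • v) = c * c * trQ τ QK v := by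
  simp only [trQ_apply]
  rw [← algebraMap_smul K c v, hQKs, ← map_mul, ← Algebra.smul_def, map_smul, smul_eq_mul]

include hQKp in
theorem trQ_add' (τ : K →ₗ[F] F) (u v : V) :
    trQ τ QK (u + v) = trQ τ QK u + trQ τ QK v + trB τ BK u v := by
  simp only [trQ_apply, trB_apply]
  rw [hQKp, map_add, map_add]

theorem trB_nondeg' (τ : K →ₗ[F] F) (hτ : τ ≠ 0) (hsymm : ∀ u v : V, BK u v = BK v u)
    (hN : BK.Nondegenerate) : (trB τ BK).Nondegenerate := by
  have key : ∀ x : V, (∀ y, trB τ BK x y = 0) → x = 0 := by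
    intro x hx
    apply hN.1 x
    intro y
    apply tau_sep τ hτ
    intro k
    have := hx (k • y)
    rwa [trB_apply, map_smul, smul_eq_mul] at this
  refine ⟨key, fun y hy => key y (fun x => ?_)⟩
  have := hy x
  rwa [trB_apply, hsymm] at this

include hQKs hQKp in
/-- **type transfer**: plus type of `τ ∘ QK` forces a totally singular `K`-line -/
theorem split_of_plus [Finite K] (h2 : (2 : F) ≠ 0) (τ : K →ₗ[F] F) (hτ : τ ≠ 0)
    (hN : BK.Nondegenerate) (h3 : finrank F K = 3) (h4 : finrank K V = 4)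
    (T : Submodule F V) (hT6 : finrank F T = 6) (hT : ∀ x ∈ T, τ (QK x) = 0) :
    ∃ u w : V, QK u = 0 ∧ QK w = 0 ∧ BK u w = 0 ∧ LinearIndependent K ![u, w] := by
  classical
  by_contra hno
  have hsymm := B_symm QK BK hQKp
  haveI : FiniteDimensional K V := Module.finite_of_finrank_pos (by omega)
  haveI : FiniteDimensional F K := Module.finite_of_finrank_pos (by omega)
  haveI : FiniteDimensional F V := Module.Finite.trans K V
  have h12 : finrank F V = 12 := by rw [← Module.finrank_mul_finrank F K V, h3, h4]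
  -- the `F`-forms
  obtain ⟨Q, hQd⟩ : ∃ Q : V → F, Q = trQ τ QK := ⟨_, rfl⟩
  obtain ⟨B, hBd⟩ : ∃ B : LinearMap.BilinForm F V, B = trB τ BK := ⟨_, rfl⟩
  have hQa : ∀ v, Q v = τ (QK v) := fun v => by rw [hQd]; rfl
  have hBa : ∀ u v, B u v = τ (BK u v) := fun u v => by rw [hBd]; rfl
  have hQs : ∀ (c : F) (v : V), Q (c • v) = c * c * Q v := by
    rw [hQd]; exact trQ_smul' QK hQKs τ
  have hQp : ∀ u v : V, Q (u + v) = Q u + Q v + B u v := by
    rw [hQd, hBd]; exact trQ_add' QK BK hQKp τ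
  have hNF : B.Nondegenerate := by
    rw [hBd]; exact trB_nondeg' BK τ hτ hsymm hN
  have hsymmF := B_symm Q B hQp
  -- a hyperbolic `K`-pair
  obtain ⟨e, -, he0, hQe⟩ := Cfsg.Agent.Lib.Helper94_OrthSiegel2.exists_singular_in QK BK hQKs hQKp
    (⊤ : Submodule K V) (by rw [finrank_top, h4]; norm_num)
  have hAnd : ∀ a ∈ (⊤ : Submodule K V), a ≠ 0 → ∃ x ∈ (⊤ : Submodule K V), BK x a ≠ 0 := by
    intro a _ ha0
    by_contra hcon
    push Not at hcon
    exact ha0 (hN.2 a (fun x => hcon x Submodule.mem_top))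
  obtain ⟨f, -, hQf, hef⟩ := Cfsg.Agent.Lib.Helper94_OrthHyp.exists_partner hQKs hQKp
    (⊤ : Submodule K V) hAnd Submodule.mem_top he0 hQe
  obtain ⟨-, hfr', hproj⟩ := Cfsg.Agent.Lib.Helper94_OrthHyp.hyp_step hQKs hQKp
    (⊤ : Submodule K V) hAnd Submodule.mem_top Submodule.mem_top hQe hQf hef
  obtain ⟨A, hAd⟩ : ∃ A : Submodule K V,
      A = ((⊤ ⊓ LinearMap.ker (BK.flip e)) ⊓ LinearMap.ker (BK.flip f) : Submodule K V) :=
    ⟨_, rfl⟩
  rw [← hAd] at hfr' hproj
  have hA2 : finrank K A = 2 := by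
    rw [finrank_top, h4] at hfr'
    omega
  have hAe : ∀ a ∈ A, BK a e = 0 := by
    intro a ha
    rw [hAd] at ha
    exact mem_ker_flip.mp ha.1.2
  have hAf : ∀ a ∈ A, BK a f = 0 := by
    intro a ha
    rw [hAd] at ha
    exact mem_ker_flip.mp ha.2
  have hee : BK e e = 0 := by rw [B_self QK BK hQKs hQKp, hQe, mul_zero]
  -- `A` is anisotropic
  have haniso : ∀ a ∈ A, a ≠ 0 → QK a ≠ 0 := by
    intro a ha ha0 hQa'
    apply hno
    refine ⟨e, a, hQe, hQa', by rw [hsymm]; exact hAe a ha, ?_⟩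
    rw [LinearIndependent.pair_iff]
    intro s t hst
    have h1 : BK (s • e + t • a) f = 0 := by rw [hst]; simp
    rw [map_add, map_smul, map_smul, LinearMap.add_apply, LinearMap.smul_apply,
      LinearMap.smul_apply, hef, hAf a ha, smul_zero, add_zero, smul_eq_mul, mul_one] at h1
    rw [h1, zero_smul, zero_add] at hst
    rcases smul_eq_zero.mp hst with h5 | h5
    · exact ⟨h1, h5⟩
    · exact absurd h5 ha0
  obtain ⟨ε, J, hε, hJA, hJJ, hJQ, hJB⟩ :=
    Cfsg.Agent.Lib.Helper59_OX3TypeK.exists_J_of_aniso QK BK hQKs hQKp h2 h3 A hA2 haniso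
  -- the `F`-subspace `U = K e`
  obtain ⟨R, hRd⟩ : ∃ R : K →ₗ[F] V, R = (LinearMap.toSpanSingleton K V e).restrictScalars F :=
    ⟨_, rfl⟩
  have hRa : ∀ k : K, R k = k • e := fun k => by rw [hRd]; rfl
  have hRinj : Function.Injective R := by
    intro k k' h
    rw [hRa, hRa] at h
    exact smul_left_injective K he0 h
  obtain ⟨U, hUd⟩ : ∃ U : Submodule F V, U = LinearMap.range R := ⟨_, rfl⟩
  have hU3 : finrank F U = 3 := by
    rw [hUd, LinearMap.finrank_range_of_inj hRinj, h3]
  have hUmem : ∀ x, x ∈ U ↔ ∃ k : K, k • e = x := by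
    intro x
    rw [hUd, LinearMap.mem_range]
    constructor
    · rintro ⟨k, hk⟩
      exact ⟨k, by rw [← hRa]; exact hk⟩
    · rintro ⟨k, hk⟩
      exact ⟨k, by rw [hRa]; exact hk⟩
  have hUQ : ∀ u ∈ U, Q u = 0 := by
    intro u hu
    obtain ⟨k, rfl⟩ := (hUmem u).mp hu
    rw [hQa, hQKs, hQe, mul_zero, map_zero]
  have hUB : ∀ u ∈ U, ∀ x : V, BK x e = 0 → B u x = 0 := by
    intro u hu x hx
    obtain ⟨k, rfl⟩ := (hUmem u).mp hu
    rw [hBa, map_smul, LinearMap.smul_apply, hsymm, hx, smul_zero, map_zero]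
  obtain ⟨AF, hAFd⟩ : ∃ AF : Submodule F V, AF = A.restrictScalars F := ⟨_, rfl⟩
  have hAFmem : ∀ x, x ∈ AF ↔ x ∈ A := fun x => by rw [hAFd]; rfl
  have hUA : ∀ x, x ∈ U → x ∈ AF → x = 0 := by
    intro x hxU hxA
    obtain ⟨k, rfl⟩ := (hUmem x).mp hxU
    have := hAf _ ((hAFmem _).mp hxA)
    rw [map_smul, LinearMap.smul_apply, hef, smul_eq_mul, mul_one] at this
    rw [this, zero_smul]
  -- totally singular subspaces have dimension at most six
  have hts6 : ∀ X : Submodule F V, (∀ x ∈ X, Q x = 0) → finrank F X ≤ 6 := by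
    intro X hX
    have hle : X ≤ B.orthogonal X := by
      intro x hx y hy
      show B y x = 0
      have := hQp y x
      rw [hX x hx, hX y hy, hX _ (X.add_mem hy hx)] at this
      linear_combination -this
    have h5 := LinearMap.BilinForm.finrank_orthogonal hNF X
    have h6 := Submodule.finrank_mono hle
    omega
  -- totally singular subspaces of `A` have dimension at most three
  have hmax : ∀ S' : Submodule F V, S' ≤ AF → (∀ x ∈ S', Q x = 0) → finrank F S' ≤ 3 := by
    intro S' hS'A hS'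
    have h1 : ∀ x ∈ U ⊔ S', Q x = 0 := by
      intro x hx
      obtain ⟨u, hu, s, hs, rfl⟩ := Submodule.mem_sup.mp hx
      rw [hQp, hUQ u hu, hS' s hs, hUB u hu s (hAe s ((hAFmem s).mp (hS'A hs)))]
      ring
    have h5 := hts6 _ h1
    have h6 := Submodule.finrank_sup_add_finrank_inf_eq U S'
    have h7 : U ⊓ S' = ⊥ := by
      rw [eq_bot_iff]
      intro x hx
      rw [Submodule.mem_bot]
      exact hUA x hx.1 (hS'A hx.2)
    rw [h7, finrank_bot] at h6
    omega
  -- `T` is its own orthogonal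
  have hTB : ∀ x ∈ T, ∀ y ∈ T, B x y = 0 := by
    intro x hx y hy
    have := hQp x y
    rw [hQa x, hQa y, hQa (x + y), hT x hx, hT y hy, hT _ (T.add_mem hx hy)] at this
    linear_combination -this
  have hTperp : T = B.orthogonal T := by
    apply Submodule.eq_of_le_of_finrank_le
    · intro x hx y hy
      exact hTB y hy x hx
    · rw [LinearMap.BilinForm.finrank_orthogonal hNF T, h12, hT6]
  -- `T0 = T ∩ e^⊥`
  obtain ⟨φe, hφed⟩ : ∃ φe : V →ₗ[F] K, φe = (BK.flip e).restrictScalars F := ⟨_, rfl⟩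
  have hφea : ∀ x, φe x = BK x e := fun x => by rw [hφed]; rfl
  obtain ⟨T0, hT0d⟩ : ∃ T0 : Submodule F V, T0 = T ⊓ LinearMap.ker φe := ⟨_, rfl⟩
  have hT0mem : ∀ x, x ∈ T0 ↔ x ∈ T ∧ BK x e = 0 := by
    intro x
    rw [hT0d, Submodule.mem_inf, LinearMap.mem_ker, hφea]
  have hT0fr : 3 + finrank F (T ⊓ U : Submodule F V) ≤ finrank F T0 := by
    have hsub : B.orthogonal (T ⊔ U) ≤ T0 := by
      intro x hx
      rw [hT0mem]
      constructor
      · rw [hTperp]
        intro y hy
        exact hx y (Submodule.mem_sup_left hy)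
      · rw [hsymm]
        apply tau_sep τ hτ
        intro k
        have h5 : B (k • e) x = 0 :=
          hx (k • e) (Submodule.mem_sup_right ((hUmem _).mpr ⟨k, rfl⟩))
        rwa [hBa, map_smul, LinearMap.smul_apply, smul_eq_mul] at h5
    have h5 := Submodule.finrank_mono hsub
    have h6 := LinearMap.BilinForm.finrank_orthogonal hNF (T ⊔ U)
    have h7 := Submodule.finrank_sup_add_finrank_inf_eq T U
    omega
  -- the projection to `A`
  obtain ⟨π, hπd⟩ : ∃ π : V →ₗ[F] V, π = (LinearMap.id - (BK.flip f).smulRight e -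
      (BK.flip e).smulRight f : V →ₗ[K] V).restrictScalars F := ⟨_, rfl⟩
  have hπa : ∀ x, π x = x - BK x f • e - BK x e • f := fun x => by rw [hπd]; rfl
  have hπA : ∀ x, π x ∈ AF := by
    intro x
    rw [hAFmem, hπa]
    exact hproj x Submodule.mem_top
  obtain ⟨S, hSd⟩ : ∃ S : Submodule F V, S = T0.map π := ⟨_, rfl⟩
  have hSA : S ≤ AF := by
    rw [hSd]
    rintro x ⟨t, -, rfl⟩
    exact hπA t
  have hSQ : ∀ x ∈ S, Q x = 0 := by
    intro x hx
    rw [hSd] at hx
    obtain ⟨t, ht, rfl⟩ := hx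
    have ht' := (hT0mem t).mp ht
    rw [hQa, hπa, ht'.2, zero_smul, sub_zero, sub_eq_add_neg, ← neg_smul,
      Q_add_smul QK BK hQKs hQKp, hQe, ht'.2, mul_zero, mul_zero, add_zero, add_zero]
    exact hT t ht'.1
  have hS3 : finrank F S = 3 := by
    apply le_antisymm (hmax S hSA hSQ)
    have h5 := LinearMap.finrank_range_add_finrank_ker (π.domRestrict T0)
    rw [LinearMap.range_domRestrict, ← hSd] at h5
    have h6 : finrank F (LinearMap.ker (π.domRestrict T0)) ≤
        finrank F (T ⊓ U : Submodule F V) := by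
      have hmem : ∀ x : LinearMap.ker (π.domRestrict T0),
          ((x : T0) : V) ∈ (T ⊓ U : Submodule F V) := by
        intro x
        have hx0 : π ((x : T0) : V) = 0 := LinearMap.mem_ker.mp x.2
        have hxT := (hT0mem _).mp (x : T0).2
        refine ⟨hxT.1, (hUmem _).mpr ⟨BK ((x : T0) : V) f, ?_⟩⟩
        rw [hπa, hxT.2, zero_smul, sub_zero, sub_eq_zero] at hx0
        exact hx0.symm
      apply LinearMap.finrank_le_finrank_of_injective
        (f := LinearMap.codRestrict (T ⊓ U)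
          (T0.subtype.comp (LinearMap.ker (π.domRestrict T0)).subtype) hmem)
      intro x y hxy
      have := congrArg Subtype.val hxy
      exact Subtype.ext (Subtype.ext this)
    omega
  -- the contradiction
  refine Cfsg.Agent.Lib.Helper59_OX3TypeJ.no_ts3_of_J Q B hQs hQp ε hε AF
    (J.restrictScalars F) ?_ ?_ ?_ ?_ hmax S hSA hSQ hS3
  · intro v hv
    exact (hAFmem _).mpr (hJA v ((hAFmem v).mp hv))
  · intro v hv
    show J (J v) = ε • v
    rw [hJJ v ((hAFmem v).mp hv), algebraMap_smul]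
  · intro v hv
    show Q (J v) = -ε * Q v
    rw [hQa, hJQ v ((hAFmem v).mp hv), hQa, ← map_neg, ← Algebra.smul_def, map_smul, smul_eq_mul]
  · intro v hv
    show B (J v) v = 0
    rw [hBa, hJB v ((hAFmem v).mp hv), map_zero]

include hQKs hQKp in
/-- **type transfer**, trace version -/
theorem split_of_plus_trace [Finite K] (h2 : (2 : F) ≠ 0)
    (hN : BK.Nondegenerate) (h3 : finrank F K = 3) (h4 : finrank K V = 4)
    (T : Submodule F V) (hT6 : finrank F T = 6) (hT : ∀ x ∈ T, Algebra.trace F K (QK x) = 0) :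
    ∃ u w : V, QK u = 0 ∧ QK w = 0 ∧ BK u w = 0 ∧ LinearIndependent K ![u, w] := by
  haveI : Finite F := Finite.of_injective (algebraMap F K) (algebraMap F K).injective
  haveI : FiniteDimensional F K := Module.finite_of_finrank_pos (by omega)
  exact split_of_plus QK BK hQKs hQKp h2 (Algebra.trace F K) (Algebra.trace_ne_zero F K) hN h3 h4
    T hT6 hT

include hQKs hQKp in
/-- **type transfer**, hyperbolic-basis version: `V` has a hyperbolic `K`-basis `e1, f1, e2, f2` -/
theorem hyp_basis_of_plus [Finite K] (h2 : (2 : F) ≠ 0) (τ : K →ₗ[F] F) (hτ : τ ≠ 0)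
    (hN : BK.Nondegenerate) (h3 : finrank F K = 3) (h4 : finrank K V = 4)
    (T : Submodule F V) (hT6 : finrank F T = 6) (hT : ∀ x ∈ T, τ (QK x) = 0) :
    ∃ e1 f1 e2 f2 : V, QK e1 = 0 ∧ QK f1 = 0 ∧ QK e2 = 0 ∧ QK f2 = 0 ∧
      BK e1 f1 = 1 ∧ BK e2 f2 = 1 ∧ BK e1 e2 = 0 ∧ BK e1 f2 = 0 ∧ BK f1 e2 = 0 ∧ BK f1 f2 = 0 ∧
      ∀ v : V, v = BK v f1 • e1 + BK v e1 • f1 + BK v f2 • e2 + BK v e2 • f2 := by
  classical
  haveI : FiniteDimensional K V := Module.finite_of_finrank_pos (by omega)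
  obtain ⟨u, w, hu, hw, huw, hli⟩ := split_of_plus QK BK hQKs hQKp h2 τ hτ hN h3 h4 T hT6 hT
  have hAnd : ∀ a ∈ (⊤ : Submodule K V), a ≠ 0 → ∃ x ∈ (⊤ : Submodule K V), BK x a ≠ 0 := by
    intro a _ ha0
    by_contra hcon
    push Not at hcon
    exact ha0 (hN.2 a (fun x => hcon x Submodule.mem_top))
  have hU2 : finrank K (Submodule.span K (Set.range ![u, w])) = 2 := by
    rw [finrank_span_eq_card hli, Fintype.card_fin]
  have hUQ : ∀ x ∈ Submodule.span K (Set.range ![u, w]), QK x = 0 := by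
    intro x hx
    rw [Matrix.range_cons, Matrix.range_cons, Matrix.range_empty, Set.union_empty] at hx
    have hx' : x ∈ Submodule.span K ({u, w} : Set V) := by
      convert hx using 2
      exact Set.insert_eq u {w}
    obtain ⟨a, b, rfl⟩ := Submodule.mem_span_pair.mp hx'
    rw [hQKp, hQKs, hQKs, hu, hw, map_smul, map_smul, LinearMap.smul_apply, huw]
    simp
  obtain ⟨e1, -, f1, -, e2, -, f2, -, h1, h2', h3', h4', h5, h6, h7, h8, h9, h10, h11⟩ :=
    Cfsg.Agent.Lib.Helper94_OrthHyp.exists_hyp_basis4 hQKs hQKp (⊤ : Submodule K V) hAnd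
      (by rw [finrank_top, h4]) (Submodule.span K (Set.range ![u, w])) le_top hUQ hU2
  exact ⟨e1, f1, e2, f2, h1, h2', h3', h4', h5, h6, h7, h8, h9, h10,
    fun v => h11 v Submodule.mem_top⟩

end Cfsg.Agent.Lib.Helper59_OX3Type
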