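import Mathlib
import Cfsg.Agent.Lib.Helper59_OX3Type
import Cfsg.Agent.Lib.Helper97_OX3Defs

set_option autoImplicit false
set_option linter.unusedSectionVars false
set_option linter.unusedVariables false
set_option linter.style.haveILetI false

/-!
# OEXT3: the type transfer in the vocabulary of `Helper97_OX3Defs` (helper59)

`Ctx3 τ QK BK` and a totally singular `F`-subspace of dimension six for `trQ τ QK` give
`Split3 QK BK` (and a `Frame`): direct corollary of `Helper59_OX3Type.split_of_plus`.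
-/

namespace Cfsg.Agent.Lib.Helper59_OX3Split

open Module Cfsg.Agent.Lib.Helper94_OrthSmall Cfsg.Agent.Lib.Helper97_OX2Defs
  Cfsg.Agent.Lib.Helper97_OX3Defs

variable {F K V : Type*} [Field F] [Field K] [Algebra F K] [AddCommGroup V] [Module F V]
  [Module K V] [IsScalarTower F K V]
variable {τ : K →ₗ[F] F} {QK : V → K} {BK : LinearMap.BilinForm K V}

/-- `τ ≠ 0` in `Ctx3` -/
theorem tau_ne_zero [Finite K] (C : Ctx3 τ QK BK) : τ ≠ 0 := by
  haveI : Finite F := Finite.of_injective (algebraMap F K) (algebraMap F K).injective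
  haveI : FiniteDimensional F K := C.finiteDimensional
  intro h
  have h1 : Algebra.trace F K = 0 := by
    ext k
    rw [← C.hτ k, h]
  exact Algebra.trace_ne_zero F K h1

/-- **type transfer** in the `OX3Defs` vocabulary -/
theorem split_of_plus [Finite K] (C : Ctx3 τ QK BK) (W : Submodule F V) (hW6 : finrank F W = 6)
    (hW : ∀ x ∈ W, trQ τ QK x = 0) : Split3 QK BK := by
  obtain ⟨u, w, hu, hw, huw, hli⟩ := Cfsg.Agent.Lib.Helper59_OX3Type.split_of_plus QK BK C.hQs C.hQp
    C.h2 τ (tau_ne_zero C) C.hN C.hdim C.hm W hW6 hW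
  refine ⟨u, w, hu, hw, huw, ?_⟩
  rw [LinearIndependent.pair_iff] at hli
  exact hli

/-- **type transfer**, frame version -/
theorem frame_of_plus [Finite K] (C : Ctx3 τ QK BK) (W : Submodule F V) (hW6 : finrank F W = 6)
    (hW : ∀ x ∈ W, trQ τ QK x = 0) :
    ∃ p p' a b : V, Frame QK BK p p' a b ∧
      ∀ v : V, v = BK v p' • p + BK v p • p' + BK v b • a + BK v a • b := by
  obtain ⟨e1, f1, e2, f2, h1, h2, h3, h4, h5, h6, h7, h8, h9, h10, h11⟩ :=
    Cfsg.Agent.Lib.Helper59_OX3Type.hyp_basis_of_plus QK BK C.hQs C.hQp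
      C.h2 τ (tau_ne_zero C) C.hN C.hdim C.hm W hW6 hW
  exact ⟨e1, f1, e2, f2, ⟨h1, h2, h3, h4, h5, h6, h7, h8, h9, h10⟩, h11⟩

end Cfsg.Agent.Lib.Helper59_OX3Split
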