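import Mathlib
import Cfsg.Agent.Lib.Helper97_OX2Defs
import Cfsg.Agent.Lib.Helper94_OrthVec

set_option autoImplicit false
set_option linter.unusedSectionVars false
set_option linter.unusedVariables false

/-!
# OEXT2 package ALL2 (helper92): the long root elements of a totally singular `K`-line

If `M` contains the `K`-Siegel elements and the root elements `sieg Q B v (θ • v)` of all singular
`K`-points, then `M` contains `sieg Q B x y` for all `x`, `y` in a totally singular `K`-line.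
-/

namespace Cfsg.Agent.Lib.Helper92_OX2_ALL2

open Module Cfsg.Agent.Lib.Helper94_OrthSmall Cfsg.Agent.Lib.Helper94_OrthSiegel
  Cfsg.Agent.Lib.Helper98_ExtDefs Cfsg.Agent.Lib.Helper97_OX2Defs

section Swap

variable {F V : Type*} [Field F] [AddCommGroup V] [Module F V]
  (Q : V → F) (B : LinearMap.BilinForm F V)
  (hQs : ∀ (c : F) (v : V), Q (c • v) = c * c * Q v)
  (hQp : ∀ u v : V, Q (u + v) = Q u + Q v + B u v)

include hQs hQp in
/-- `T(u, z) = T(z, -u)` for singular orthogonal `u`, `z` -/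
theorem sieg_swap {u z : V} (hu : Q u = 0) (hz : Q z = 0) (huz : B u z = 0) :
    sieg Q B u z = sieg Q B z (-u) := by
  have hzu : B z u = 0 := by rw [B_symm Q B hQp, huz]
  have hnu : Q (-u) = 0 := by rw [← neg_one_smul F u, hQs, hu, mul_zero]
  ext v
  rw [sieg_apply Q B hQs hQp hu huz, sieg_apply Q B hQs hQp hz (by rw [map_neg, hzu, neg_zero]),
    hz, hnu]
  simp only [map_neg, zero_mul, zero_smul, sub_zero]
  module

end Swap

variable {F K V : Type*} [Field F] [Field K] [Algebra F K] [AddCommGroup V] [Module F V]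
  [Module K V] [IsScalarTower F K V]
variable {θ : K} {ε : F} {τ : K →ₗ[F] F} {QK : V → K} {BK : LinearMap.BilinForm K V}

/-- step (1): `T(θx, w)⁻¹ T(x, θw) ∈ M` -/
theorem step_one (C : Ctx θ ε τ QK BK) (M : Subgroup (V ≃ₗ[F] V))
    (hroot : ∀ v : V, QK v = 0 → sieg (trQ τ QK) (trB τ BK) v (θ • v) ∈ M) {x w : V}
    (hx : QK x = 0) (hw : QK w = 0) (hxw : BK x w = 0) :
    (sieg (trQ τ QK) (trB τ BK) (θ • x) w)⁻¹ * sieg (trQ τ QK) (trB τ BK) x (θ • w) ∈ M := by
  have hQs := C.trQ_smul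
  have hQp := C.trQ_add
  have hwx : BK w x = 0 := by rw [C.BK_symm, hxw]
  have hxx : BK x x = 0 := by rw [B_self QK BK C.hQs C.hQp, hx, mul_zero]
  have hww : BK w w = 0 := by rw [B_self QK BK C.hQs C.hQp, hw, mul_zero]
  have hxw' : QK (x + w) = 0 := by rw [C.hQp, hx, hw, hxw]; simp
  have hθx : QK (θ • x) = 0 := by rw [C.hQs, hx, mul_zero]
  have hθw : QK (θ • w) = 0 := by rw [C.hQs, hw, mul_zero]
  -- the three root elements
  have r1 := hroot x hx
  have r2 := hroot w hw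
  have r3 := hroot (x + w) hxw'
  -- abbreviations
  set Q := trQ τ QK with hQ
  set B := trB τ BK with hB
  have q_x : Q x = 0 := trQ_eq_zero hx
  have q_w : Q w = 0 := trQ_eq_zero hw
  have q_xw : Q (x + w) = 0 := trQ_eq_zero hxw'
  have q_θx : Q (θ • x) = 0 := trQ_eq_zero hθx
  have q_θw : Q (θ • w) = 0 := trQ_eq_zero hθw
  -- orthogonality facts
  have b1 : B (x + w) (θ • x) = 0 := trB_eq_zero (by
    rw [map_smul, map_add, LinearMap.add_apply, hxx, hwx]; simp)
  have b2 : B (x + w) (θ • w) = 0 := trB_eq_zero (by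
    rw [map_smul, map_add, LinearMap.add_apply, hxw, hww]; simp)
  have b3 : B (θ • x) (-x) = 0 := trB_eq_zero (by
    rw [map_neg, map_smul, LinearMap.smul_apply, hxx]; simp)
  have b4 : B (θ • x) (-w) = 0 := trB_eq_zero (by
    rw [map_neg, map_smul, LinearMap.smul_apply, hxw]; simp)
  have b5 : B (θ • w) (-x) = 0 := trB_eq_zero (by
    rw [map_neg, map_smul, LinearMap.smul_apply, hwx]; simp)
  have b6 : B (θ • w) (-w) = 0 := trB_eq_zero (by
    rw [map_neg, map_smul, LinearMap.smul_apply, hww]; simp)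
  have b7 : B x (θ • x) = 0 := trB_eq_zero (by rw [map_smul, hxx]; simp)
  have b8 : B w (θ • w) = 0 := trB_eq_zero (by rw [map_smul, hww]; simp)
  have b9 : B x (θ • w) = 0 := trB_eq_zero (by rw [map_smul, hxw]; simp)
  have b10 : B (θ • x) w = 0 := trB_eq_zero (by rw [map_smul, LinearMap.smul_apply, hxw]; simp)
  -- decompose `T(x + w, θ(x + w))`
  have e1 : sieg Q B (x + w) (θ • (x + w))
      = sieg Q B (x + w) (θ • x) * sieg Q B (x + w) (θ • w) := by
    rw [sieg_mul Q B hQs hQp q_xw b1 b2, smul_add]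
  have e2 : sieg Q B (x + w) (θ • x) = sieg Q B x (θ • x) * (sieg Q B (θ • x) w)⁻¹ := by
    rw [sieg_swap Q B hQs hQp q_xw q_θx b1, neg_add, ← sieg_mul Q B hQs hQp q_θx b3 b4,
      ← sieg_swap Q B hQs hQp q_x q_θx b7, sieg_inv Q B hQs hQp q_θx b10]
  have e3 : sieg Q B (x + w) (θ • w) = sieg Q B x (θ • w) * sieg Q B w (θ • w) := by
    rw [sieg_swap Q B hQs hQp q_xw q_θw b2, neg_add, ← sieg_mul Q B hQs hQp q_θw b5 b6,
      ← sieg_swap Q B hQs hQp q_x q_θw b9, ← sieg_swap Q B hQs hQp q_w q_θw b8]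
  have e4 : (sieg Q B (θ • x) w)⁻¹ * sieg Q B x (θ • w)
      = (sieg Q B x (θ • x))⁻¹ * sieg Q B (x + w) (θ • (x + w)) * (sieg Q B w (θ • w))⁻¹ := by
    rw [e1, e2, e3]
    group
  rw [e4]
  exact M.mul_mem (M.mul_mem (M.inv_mem r1) r3) (M.inv_mem r2)

/-- step (2): the `K`-Siegel element is `T(x, y) T(θx, ε⁻¹θy)` -/
theorem step_two (C : Ctx θ ε τ QK BK) {x y : V}
    (hx : QK x = 0) (hy : QK y = 0) (hxy : BK x y = 0) :
    ksieg F QK BK x y = sieg (trQ τ QK) (trB τ BK) x y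
      * sieg (trQ τ QK) (trB τ BK) (θ • x) (ε⁻¹ • θ • y) := by
  have hQs := C.trQ_smul
  have hQp := C.trQ_add
  have hyx : BK y x = 0 := by rw [C.BK_symm, hxy]
  have hxx : BK x x = 0 := by rw [B_self QK BK C.hQs C.hQp, hx, mul_zero]
  have hyy : BK y y = 0 := by rw [B_self QK BK C.hQs C.hQp, hy, mul_zero]
  have hθx : QK (θ • x) = 0 := by rw [C.hQs, hx, mul_zero]
  have hθy : QK (θ • y) = 0 := by rw [C.hQs, hy, mul_zero]
  have q_x : trQ τ QK x = 0 := trQ_eq_zero hx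
  have q_y : trQ τ QK y = 0 := trQ_eq_zero hy
  have q_θx : trQ τ QK (θ • x) = 0 := trQ_eq_zero hθx
  have q_θy : trQ τ QK (θ • y) = 0 := trQ_eq_zero hθy
  have q_eθy : trQ τ QK (ε⁻¹ • θ • y) = 0 := by rw [hQs, q_θy, mul_zero]
  have b0 : trB τ BK x y = 0 := trB_eq_zero hxy
  have b1 : trB τ BK (θ • x) (θ • y) = 0 := trB_eq_zero (by
    rw [map_smul, map_smul, LinearMap.smul_apply, hxy]; simp)
  have b2 : trB τ BK (θ • x) (ε⁻¹ • θ • y) = 0 := by rw [map_smul, b1, smul_zero]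
  have c1 : trB τ BK (θ • y) x = 0 := trB_eq_zero (by
    rw [map_smul, LinearMap.smul_apply, hyx]; simp)
  have c2 : trB τ BK (θ • x) x = 0 := trB_eq_zero (by
    rw [map_smul, LinearMap.smul_apply, hxx]; simp)
  have c3 : trB τ BK (θ • y) y = 0 := trB_eq_zero (by
    rw [map_smul, LinearMap.smul_apply, hyy]; simp)
  have c4 : trB τ BK (θ • x) y = 0 := trB_eq_zero (by
    rw [map_smul, LinearMap.smul_apply, hxy]; simp)
  ext v
  rw [C.ksieg_apply hx hxy, LinearEquiv.mul_apply, sieg_apply _ _ hQs hQp q_θx b2,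
    sieg_apply _ _ hQs hQp q_x b0, q_y, q_eθy, hy]
  have r1 := C.recon (BK v x)
  have r2 := C.recon (BK v y)
  have t1 : trB τ BK v (θ • x) = τ (θ * BK v x) := by rw [trB_apply, map_smul, smul_eq_mul]
  have t2 : trB τ BK v (θ • y) = τ (θ * BK v y) := by rw [trB_apply, map_smul, smul_eq_mul]
  simp only [map_add, map_sub, map_smul, LinearMap.add_apply, LinearMap.sub_apply,
    LinearMap.smul_apply, c1, c2, c3, c4, sub_zero, add_zero, zero_mul, zero_smul,
    smul_eq_mul, mul_zero, t1, t2]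
  rw [trB_apply, trB_apply]
  conv_lhs => rw [r1, r2]
  rw [add_smul, add_smul, algebraMap_smul, algebraMap_smul, smul_assoc, smul_assoc]
  module

/-- ALL2 -/
theorem line_all (C : Ctx θ ε τ QK BK) (M : Subgroup (V ≃ₗ[F] V)) (hM : HypO τ QK BK M)
    (hroot : ∀ v : V, QK v = 0 → sieg (trQ τ QK) (trB τ BK) v (θ • v) ∈ M) {x y : V}
    (hx : QK x = 0) (hy : QK y = 0) (hxy : BK x y = 0) :
    sieg (trQ τ QK) (trB τ BK) x y ∈ M := by
  have hQs := C.trQ_smul
  have hQp := C.trQ_add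
  have key : ∀ y' : V, QK y' = 0 → BK x y' = 0 →
      sieg (trQ τ QK) (trB τ BK) x (ε • y' + ε • y') ∈ M := by
    intro y' hy' hxy'
    have hθy : QK (θ • y') = 0 := by rw [C.hQs, hy', mul_zero]
    have hxθy : BK x (θ • y') = 0 := by rw [map_smul, hxy', smul_zero]
    have s1 := step_one C M hroot hx hθy hxθy
    have hεy : QK (ε • y') = 0 := by rw [← algebraMap_smul K ε y', C.hQs, hy', mul_zero]
    have hxεy : BK x (ε • y') = 0 := by
      rw [← algebraMap_smul K ε y', map_smul, hxy', smul_zero]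
    have s2 := hM.sieg_mem x (ε • y') hx hxεy
    rw [step_two C hx hεy hxεy] at s2
    have e1 : θ • θ • y' = ε • y' := by rw [smul_smul, C.hθ, algebraMap_smul]
    have e2 : ε⁻¹ • θ • ε • y' = θ • y' := by
      rw [smul_comm θ ε y', smul_smul, inv_mul_cancel₀ C.eps_ne_zero, one_smul]
    rw [e1] at s1
    rw [e2] at s2
    have s3 := M.mul_mem s2 s1
    rw [mul_assoc, mul_inv_cancel_left] at s3
    rwa [sieg_mul _ _ hQs hQp (trQ_eq_zero hx) (trB_eq_zero hxεy) (trB_eq_zero hxεy)] at s3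
  have h2ε : (2 * ε : F) ≠ 0 := mul_ne_zero C.h2 C.eps_ne_zero
  have h1 : QK ((2 * ε)⁻¹ • y) = 0 := by
    rw [← algebraMap_smul K (2 * ε)⁻¹ y, C.hQs, hy, mul_zero]
  have h2 : BK x ((2 * ε)⁻¹ • y) = 0 := by
    rw [← algebraMap_smul K (2 * ε)⁻¹ y, map_smul, hxy, smul_zero]
  have h3 := key _ h1 h2
  have e : ε • (2 * ε)⁻¹ • y + ε • (2 * ε)⁻¹ • y = y := by
    rw [← two_smul F, smul_smul, smul_smul]
    rw [mul_inv_cancel₀ h2ε, one_smul]
  rwa [e] at h3

end Cfsg.Agent.Lib.Helper92_OX2_ALL2
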