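import Mathlib
import Cfsg.Agent.Lib.Helper97_OX3Defs
import Cfsg.Agent.Lib.Helper94_OrthVec
import Cfsg.Agent.Lib.Helper92_OX2_ALL2

set_option autoImplicit false
set_option linter.unusedSectionVars false
set_option linter.unusedVariables false

/-!
OEXT3 market (helper97), package **LINEALL** in `_of` form (the statement of CROSS is a
hypothesis): all long root elements `sieg Q B z z'` with `z, z'` in a totally singular `K`-line lie
in `M`.  (helper94)
-/

namespace Cfsg.Agent.Lib.Helper94_OX3_LINEALLaux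

open Module Cfsg.Agent.Lib.Helper94_OrthSmall Cfsg.Agent.Lib.Helper94_OrthSiegel
  Cfsg.Agent.Lib.Helper98_ExtDefs Cfsg.Agent.Lib.Helper97_OX2Defs
  Cfsg.Agent.Lib.Helper97_OX3Defs
open scoped commutatorElement

section AddLeft

variable {F V : Type*} [Field F] [AddCommGroup V] [Module F V]
  (Q : V → F) (B : LinearMap.BilinForm F V)
  (hQs : ∀ (c : F) (v : V), Q (c • v) = c * c * Q v)
  (hQp : ∀ u v : V, Q (u + v) = Q u + Q v + B u v)

include hQs hQp in
/-- additivity of `sieg` in the first argument on totally singular subspaces -/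
theorem sieg_add_left {u₁ u₂ z : V} (h1 : Q u₁ = 0) (h2 : Q u₂ = 0) (h12 : B u₁ u₂ = 0)
    (hz : Q z = 0) (h1z : B u₁ z = 0) (h2z : B u₂ z = 0) :
    sieg Q B (u₁ + u₂) z = sieg Q B u₁ z * sieg Q B u₂ z := by
  have hsum : Q (u₁ + u₂) = 0 := by rw [hQp, h1, h2, h12]; simp
  have hsz : B (u₁ + u₂) z = 0 := by rw [map_add, LinearMap.add_apply, h1z, h2z, add_zero]
  have hz1 : B z u₁ = 0 := by rw [B_symm Q B hQp, h1z]
  have hz2 : B z u₂ = 0 := by rw [B_symm Q B hQp, h2z]
  rw [Cfsg.Agent.Lib.Helper92_OX2_ALL2.sieg_swap Q B hQs hQp hsum hz hsz, neg_add,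
    ← sieg_mul Q B hQs hQp hz (by rw [map_neg, hz1, neg_zero]) (by rw [map_neg, hz2, neg_zero]),
    ← Cfsg.Agent.Lib.Helper92_OX2_ALL2.sieg_swap Q B hQs hQp h1 hz h1z,
    ← Cfsg.Agent.Lib.Helper92_OX2_ALL2.sieg_swap Q B hQs hQp h2 hz h2z]

end AddLeft

variable {F K V : Type*} [Field F] [Field K] [Algebra F K] [AddCommGroup V] [Module F V]
  [Module K V] [IsScalarTower F K V]
variable {τ : K →ₗ[F] F} {QK : V → K} {BK : LinearMap.BilinForm K V}
variable [Finite F] [Finite K] [Module.Finite F V] [Module.Finite K V]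

theorem tspair_symm (C : Ctx3 τ QK BK) {x y : V} (h : TSPair QK BK x y) : TSPair QK BK y x := by
  obtain ⟨hx, hy, hxy, hind⟩ := h
  refine ⟨hy, hx, by rw [C.BK_symm, hxy], ?_⟩
  intro a b hab
  have := hind b a (by rw [add_comm]; exact hab)
  exact ⟨this.2, this.1⟩

theorem tspair_smul_right (C : Ctx3 τ QK BK) {x y : V} (h : TSPair QK BK x y) {c : K}
    (hc : c ≠ 0) : TSPair QK BK x (c • y) := by
  obtain ⟨hx, hy, hxy, hind⟩ := h
  refine ⟨hx, by rw [C.hQs, hy, mul_zero], by rw [map_smul, hxy, smul_zero], ?_⟩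
  intro a b hab
  rw [smul_smul] at hab
  have := hind a (b * c) hab
  refine ⟨this.1, ?_⟩
  rcases mul_eq_zero.mp this.2 with h0 | h0
  · exact h0
  · exact absurd h0 hc

/-- LINEALL, with the statement of CROSS as a hypothesis -/
theorem line_all3_of (C : Ctx3 τ QK BK) (M : Subgroup (V ≃ₗ[F] V))
    (hroot : ∀ v : V, QK v = 0 → Root τ QK BK M v)
    (hcross : ∀ x y : V, TSPair QK BK x y → ∀ κ : K,
      sieg (trQ τ QK) (trB τ BK) (κ • x) y ∈ M)
    {x y : V} (h : TSPair QK BK x y) :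
    ∀ z ∈ kln F (K := K) x y, ∀ z' ∈ kln F (K := K) x y,
      sieg (trQ τ QK) (trB τ BK) z z' ∈ M := by
  intro z hz z' hz'
  obtain ⟨a, b, rfl⟩ := mem_kln.mp hz
  obtain ⟨a', b', rfl⟩ := mem_kln.mp hz'
  have hQs := C.trQ_smul
  have hQp := C.trQ_add
  have h' := tspair_symm C h
  obtain ⟨hx, hy, hxy, hind⟩ := h
  have hyx : BK y x = 0 := by rw [C.BK_symm, hxy]
  have hxx : BK x x = 0 := by rw [C.BK_self, hx, mul_zero]
  have hyy : BK y y = 0 := by rw [C.BK_self, hy, mul_zero]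
  -- singularity and orthogonality of the multiples
  have qx : ∀ c : K, trQ τ QK (c • x) = 0 := fun c => trQ_eq_zero (by rw [C.hQs, hx, mul_zero])
  have qy : ∀ c : K, trQ τ QK (c • y) = 0 := fun c => trQ_eq_zero (by rw [C.hQs, hy, mul_zero])
  have bxx : ∀ c d : K, trB τ BK (c • x) (d • x) = 0 := fun c d => trB_eq_zero (by
    rw [map_smul, map_smul, LinearMap.smul_apply, hxx, smul_zero, smul_zero])
  have bxy : ∀ c d : K, trB τ BK (c • x) (d • y) = 0 := fun c d => trB_eq_zero (by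
    rw [map_smul, map_smul, LinearMap.smul_apply, hxy, smul_zero, smul_zero])
  have byx : ∀ c d : K, trB τ BK (c • y) (d • x) = 0 := fun c d => trB_eq_zero (by
    rw [map_smul, map_smul, LinearMap.smul_apply, hyx, smul_zero, smul_zero])
  have byy : ∀ c d : K, trB τ BK (c • y) (d • y) = 0 := fun c d => trB_eq_zero (by
    rw [map_smul, map_smul, LinearMap.smul_apply, hyy, smul_zero, smul_zero])
  have qz : trQ τ QK (a • x + b • y) = 0 := by rw [hQp, qx, qy, bxy]; simp
  have bzx : ∀ d : K, trB τ BK (a • x + b • y) (d • x) = 0 := fun d => by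
    rw [map_add, LinearMap.add_apply, bxx, byx, add_zero]
  have bzy : ∀ d : K, trB τ BK (a • x + b • y) (d • y) = 0 := fun d => by
    rw [map_add, LinearMap.add_apply, bxy, byy, add_zero]
  -- the four pieces
  have m1 : sieg (trQ τ QK) (trB τ BK) (a • x) (a' • x) ∈ M := hroot x hx a a'
  have m4 : sieg (trQ τ QK) (trB τ BK) (b • y) (b' • y) ∈ M := hroot y hy b b'
  have m2 : sieg (trQ τ QK) (trB τ BK) (b • y) (a' • x) ∈ M := by
    by_cases ha' : a' = 0
    · rw [ha', zero_smul, sieg_zero_right _ _ hQs hQp (qy b)]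
      exact M.one_mem
    · exact hcross y (a' • x) (tspair_smul_right C h' ha') b
  have m3 : sieg (trQ τ QK) (trB τ BK) (a • x) (b' • y) ∈ M := by
    by_cases hb' : b' = 0
    · rw [hb', zero_smul, sieg_zero_right _ _ hQs hQp (qx a)]
      exact M.one_mem
    · exact hcross x (b' • y) (tspair_smul_right C ⟨hx, hy, hxy, hind⟩ hb') a
  rw [← sieg_mul _ _ hQs hQp qz (bzx a') (bzy b'),
    sieg_add_left _ _ hQs hQp (qx a) (qy b) (bxy a b) (qx a') (bxx a a') (byx b a'),
    sieg_add_left _ _ hQs hQp (qx a) (qy b) (bxy a b) (qy b') (bxy a b') (byy b b')]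
  exact M.mul_mem (M.mul_mem m1 m2) (M.mul_mem m3 m4)

end Cfsg.Agent.Lib.Helper94_OX3_LINEALLaux
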