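import Mathlib
import Cfsg.Agent.Lib.Helper97_OX3Defs
import Cfsg.Agent.Lib.Helper94_OX3_LINEALLaux

set_option autoImplicit false
set_option linter.unusedSectionVars false
set_option linter.unusedVariables false
set_option linter.style.haveILetI false

/-!
# OEXT3 package BAL (architect helper97; helper59)

The `K`-balanced relation modulo `M`: the root group at `x + y` together with the root groups at
`x` and `y` gives `(α x) ∧ (β y) ≡ (β x) ∧ (α y)`.
-/

namespace Cfsg.Agent.Lib.Helper59_OX3_BAL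

open Module Cfsg.Agent.Lib.Helper94_OrthSmall Cfsg.Agent.Lib.Helper94_OrthSiegel
  Cfsg.Agent.Lib.Helper98_ExtDefs Cfsg.Agent.Lib.Helper97_OX2Defs
  Cfsg.Agent.Lib.Helper97_OX3Defs
open scoped commutatorElement

variable {F K V : Type*} [Field F] [Field K] [Algebra F K] [AddCommGroup V] [Module F V]
  [Module K V] [IsScalarTower F K V]
variable {τ : K →ₗ[F] F} {QK : V → K} {BK : LinearMap.BilinForm K V}
variable [Finite F] [Finite K] [Module.Finite F V] [Module.Finite K V]

/-- BAL: the `K`-balanced relation modulo `M` -/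
theorem balanced (C : Ctx3 τ QK BK) (M : Subgroup (V ≃ₗ[F] V)) (hM : HypO3 τ QK BK M)
    (hroot : ∀ v : V, QK v = 0 → Root τ QK BK M v) {x y : V} (h : TSPair QK BK x y) (α β : K) :
    sieg (trQ τ QK) (trB τ BK) (α • x) (β • y) *
      (sieg (trQ τ QK) (trB τ BK) (β • x) (α • y))⁻¹ ∈ M := by
  obtain ⟨hx, hy, hxy, -⟩ := h
  have hsymm := C.BK_symm
  have hyx : BK y x = 0 := by rw [hsymm]; exact hxy
  have hxx : BK x x = 0 := by rw [C.BK_self, hx, mul_zero]
  have hyy : BK y y = 0 := by rw [C.BK_self, hy, mul_zero]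
  have hQs := C.trQ_smul
  have hQp := C.trQ_add
  -- everything in `K x + K y` is singular and pairwise orthogonal
  have hQL : ∀ k k' : K, trQ τ QK (k • x + k' • y) = 0 := by
    intro k k'
    rw [trQ_apply, C.hQp, C.hQs, C.hQs, hx, hy, map_smul, map_smul, LinearMap.smul_apply, hxy]
    simp
  have hQx : ∀ k : K, trQ τ QK (k • x) = 0 := by
    intro k
    have := hQL k 0
    rwa [zero_smul, add_zero] at this
  have hQy : ∀ k : K, trQ τ QK (k • y) = 0 := by
    intro k
    have := hQL 0 k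
    rwa [zero_smul, zero_add] at this
  have hBxx : ∀ k k' : K, trB τ BK (k • x) (k' • x) = 0 := by
    intro k k'
    have h0 : ∀ a b : V, BK a b = 0 → BK (k • a) (k' • b) = 0 := by
      intro a b hab
      simp only [map_smul, LinearMap.smul_apply, smul_eq_mul, hab, mul_zero]
    rw [trB_apply, h0 _ _ hxx, map_zero]
  have hByy : ∀ k k' : K, trB τ BK (k • y) (k' • y) = 0 := by
    intro k k'
    have h0 : ∀ a b : V, BK a b = 0 → BK (k • a) (k' • b) = 0 := by
      intro a b hab
      simp only [map_smul, LinearMap.smul_apply, smul_eq_mul, hab, mul_zero]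
    rw [trB_apply, h0 _ _ hyy, map_zero]
  have hBxy : ∀ k k' : K, trB τ BK (k • x) (k' • y) = 0 := by
    intro k k'
    have h0 : ∀ a b : V, BK a b = 0 → BK (k • a) (k' • b) = 0 := by
      intro a b hab
      simp only [map_smul, LinearMap.smul_apply, smul_eq_mul, hab, mul_zero]
    rw [trB_apply, h0 _ _ hxy, map_zero]
  have hByx : ∀ k k' : K, trB τ BK (k • y) (k' • x) = 0 := by
    intro k k'
    have h0 : ∀ a b : V, BK a b = 0 → BK (k • a) (k' • b) = 0 := by
      intro a b hab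
      simp only [map_smul, LinearMap.smul_apply, smul_eq_mul, hab, mul_zero]
    rw [trB_apply, h0 _ _ hyx, map_zero]
  -- the three root elements
  have hxyQ : QK (x + y) = 0 := by rw [C.hQp, hx, hy, hxy]; simp
  have g1 : sieg (trQ τ QK) (trB τ BK) (α • (x + y)) (β • (x + y)) ∈ M := hroot (x + y) hxyQ α β
  have g2 : sieg (trQ τ QK) (trB τ BK) (α • x) (β • x) ∈ M := hroot x hx α β
  have g3 : sieg (trQ τ QK) (trB τ BK) (α • y) (β • y) ∈ M := hroot y hy α β
  -- expansion
  have hQsum : trQ τ QK (β • x + β • y) = 0 := hQL β β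
  have hB1 : trB τ BK (α • x) (β • x + β • y) = 0 := by
    rw [map_add, hBxx, hBxy, add_zero]
  have hB2 : trB τ BK (α • y) (β • x + β • y) = 0 := by
    rw [map_add, hByx, hByy, add_zero]
  have e1 : sieg (trQ τ QK) (trB τ BK) (α • (x + y)) (β • (x + y)) =
      (sieg (trQ τ QK) (trB τ BK) (α • x) (β • x) * sieg (trQ τ QK) (trB τ BK) (α • x) (β • y)) *
      (sieg (trQ τ QK) (trB τ BK) (α • y) (β • x) * sieg (trQ τ QK) (trB τ BK) (α • y) (β • y)) := by
    rw [smul_add, smul_add,
      Cfsg.Agent.Lib.Helper94_OX3_LINEALLaux.sieg_add_left (trQ τ QK) (trB τ BK) hQs hQp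
        (hQx α) (hQy α) (hBxy α α) hQsum hB1 hB2,
      sieg_mul (trQ τ QK) (trB τ BK) hQs hQp (hQx α) (hBxx α β) (hBxy α β),
      sieg_mul (trQ τ QK) (trB τ BK) hQs hQp (hQy α) (hByx α β) (hByy α β)]
  have e2 : (sieg (trQ τ QK) (trB τ BK) (β • x) (α • y))⁻¹ =
      sieg (trQ τ QK) (trB τ BK) (α • y) (β • x) := by
    rw [sieg_inv (trQ τ QK) (trB τ BK) hQs hQp (hQx β) (hBxy β α),
      ← Cfsg.Agent.Lib.Helper92_OX2_ALL2.sieg_swap (trQ τ QK) (trB τ BK) hQs hQp (hQy α) (hQx β)
        (hByx α β)]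
  have key : sieg (trQ τ QK) (trB τ BK) (α • x) (β • y) *
      (sieg (trQ τ QK) (trB τ BK) (β • x) (α • y))⁻¹ =
      (sieg (trQ τ QK) (trB τ BK) (α • x) (β • x))⁻¹ *
        sieg (trQ τ QK) (trB τ BK) (α • (x + y)) (β • (x + y)) *
        (sieg (trQ τ QK) (trB τ BK) (α • y) (β • y))⁻¹ := by
    rw [e1, e2]
    group
  rw [key]
  exact M.mul_mem (M.mul_mem (M.inv_mem g2) g1) (M.inv_mem g3)

end Cfsg.Agent.Lib.Helper59_OX3_BAL
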