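import Mathlib
import Cfsg.Agent.Lib.Helper97_OX3Defs
import Cfsg.Agent.Lib.Helper49_OX3_ALT3
import Cfsg.Agent.Lib.Helper34_OX3_LINE6

set_option autoImplicit false
set_option linter.unusedSectionVars false
set_option linter.unusedVariables false
set_option linter.style.haveILetI false

/-!
# OEXT3 package PAR_ALT (architect helper97; helper59)

A totally singular `F`-3-space `T'` of a hyperbolic `K`-plane `K a + K b` meets the two singular
`K`-points in subspaces of dimensions adding up to an odd number: the form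
`c (y, y') = τ (BK y b * BK y' a)` is alternating on `T'`, its radical is
`(T' ∩ K a) ⊕ (T' ∩ K b)` (because `T'^⊥ ∩ (K a + K b) = T'`), and the radical of an alternating form
on a three-dimensional space has dimension `1` or `3` (ALT3).
-/

namespace Cfsg.Agent.Lib.Helper59_OX3_PAR_ALT

open Module Cfsg.Agent.Lib.Helper94_OrthSmall Cfsg.Agent.Lib.Helper94_OrthSiegel
  Cfsg.Agent.Lib.Helper98_ExtDefs Cfsg.Agent.Lib.Helper97_OX2Defs
  Cfsg.Agent.Lib.Helper97_OX3Defs

variable {F K V : Type*} [Field F] [Field K] [Algebra F K] [AddCommGroup V] [Module F V]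
  [Module K V] [IsScalarTower F K V]
variable {τ : K →ₗ[F] F} {QK : V → K} {BK : LinearMap.BilinForm K V}
variable [Finite F] [Finite K] [Module.Finite F V] [Module.Finite K V]

/-- PAR_ALT: a totally singular `F`-3-space `T'` of a hyperbolic `K`-plane `K a + K b` meets the
two singular `K`-points in subspaces of dimensions adding up to an odd number -/
theorem parity_plane (C : Ctx3 τ QK BK) {a b : V} (ha : QK a = 0) (hb : QK b = 0)
    (hab : BK a b = 1) (T' : Submodule F V) (h3 : finrank F T' = 3)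
    (hle : T' ≤ kln F (K := K) a b) (hts : ∀ y ∈ T', trQ τ QK y = 0) :
    Odd (finrank F ↥(T' ⊓ kpt F (K := K) a) + finrank F ↥(T' ⊓ kpt F (K := K) b)) := by
  classical
  have hsymm := C.BK_symm
  have hba : BK b a = 1 := by rw [hsymm]; exact hab
  have haa : BK a a = 0 := by rw [C.BK_self, ha, mul_zero]
  have hbb : BK b b = 0 := by rw [C.BK_self, hb, mul_zero]
  -- coordinates in the plane
  have hcoord : ∀ y ∈ kln F (K := K) a b, y = BK y b • a + BK y a • b := by
    intro y hy
    obtain ⟨z, w, rfl⟩ := mem_kln.mp hy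
    simp only [map_add, map_smul, LinearMap.add_apply, LinearMap.smul_apply, smul_eq_mul, hab, hba,
      haa, hbb, mul_one, mul_zero, add_zero, zero_add]
  have hQcoord : ∀ y ∈ kln F (K := K) a b, QK y = BK y b * BK y a := by
    intro y hy
    obtain ⟨z, w, rfl⟩ := mem_kln.mp hy
    rw [C.hQp, C.hQs, C.hQs, ha, hb]
    simp only [map_add, map_smul, LinearMap.add_apply, LinearMap.smul_apply, smul_eq_mul, hab, hba,
      haa, hbb]
    ring
  have hind : ∀ z w : K, z • a + w • b = 0 → z = 0 ∧ w = 0 := by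
    intro z w h
    have h1 : BK (z • a + w • b) b = 0 := by rw [h]; simp
    have h2 : BK (z • a + w • b) a = 0 := by rw [h]; simp
    simp only [map_add, map_smul, LinearMap.add_apply, LinearMap.smul_apply, smul_eq_mul, hab, hba,
      haa, hbb, mul_one, mul_zero, add_zero, zero_add] at h1 h2
    exact ⟨h1, h2⟩
  have hP6 : finrank F ↥(kln F (K := K) a b) = 6 :=
    Cfsg.Agent.Lib.Helper34_OX3_LINE6.finrank_kln C hind
  -- `B` vanishes on `T'`
  have hTB : ∀ x ∈ T', ∀ y ∈ T', trB τ BK x y = 0 := by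
    intro x hx y hy
    have := C.trQ_add x y
    rw [hts x hx, hts y hy, hts _ (T'.add_mem hx hy)] at this
    linear_combination -this
  have haP : ∀ z : K, z • a ∈ kln F (K := K) a b := fun z => mem_kln.mpr ⟨z, 0, by simp⟩
  have hbP : ∀ w : K, w • b ∈ kln F (K := K) a b := fun w => mem_kln.mpr ⟨0, w, by simp⟩
  -- `T'^⊥ ∩ (K a + K b) = T'`
  have hperp : ∀ x ∈ kln F (K := K) a b, (∀ y ∈ T', trB τ BK x y = 0) → x ∈ T' := by
    obtain ⟨P, hPd⟩ : ∃ P : Submodule F V, P = kln F (K := K) a b := ⟨_, rfl⟩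
    rw [← hPd] at hP6 hle haP hbP hcoord
    rw [← hPd]
    obtain ⟨BP, hBPd⟩ : ∃ BP : LinearMap.BilinForm F ↥P, BP = (trB τ BK).restrict P := ⟨_, rfl⟩
    have hBPa : ∀ x y : ↥P, BP x y = τ (BK (x : V) (y : V)) := by
      intro x y
      rw [hBPd]
      rfl
    have hBPsymm : ∀ x y : ↥P, BP x y = BP y x := by
      intro x y
      rw [hBPa, hBPa, hsymm]
    have hBPn : BP.Nondegenerate := by
      have key : ∀ x : ↥P, (∀ y : ↥P, BP x y = 0) → x = 0 := by
        intro x hx
        have h1 : BK (x : V) b = 0 := by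
          apply C.eq_zero_of_tau_mul
          intro k
          have := hx ⟨k • b, hbP k⟩
          rw [hBPa] at this
          simpa using this
        have h2 : BK (x : V) a = 0 := by
          apply C.eq_zero_of_tau_mul
          intro k
          have := hx ⟨k • a, haP k⟩
          rw [hBPa] at this
          simpa using this
        apply Subtype.ext
        rw [hcoord x.1 x.2, h1, h2]
        simp
      refine ⟨key, fun y hy => key y (fun x => ?_)⟩
      rw [hBPsymm]
      exact hy x
    obtain ⟨W0, hW0d⟩ : ∃ W0 : Submodule F ↥P, W0 = T'.comap P.subtype := ⟨_, rfl⟩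
    have hW0 : finrank F W0 = 3 := by
      rw [hW0d, (Submodule.comapSubtypeEquivOfLe hle).finrank_eq, h3]
    have hfo := LinearMap.BilinForm.finrank_orthogonal hBPn W0
    have hW0le : W0 ≤ BP.orthogonal W0 := by
      intro x hx y hy
      show BP y x = 0
      rw [hBPa]
      rw [hW0d] at hx hy
      exact hTB _ hy _ hx
    have heq : W0 = BP.orthogonal W0 :=
      Submodule.eq_of_le_of_finrank_le hW0le (by rw [hfo, hP6, hW0])
    intro x hx hxT
    have hmem : (⟨x, hx⟩ : ↥P) ∈ BP.orthogonal W0 := by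
      intro y hy
      show BP y ⟨x, hx⟩ = 0
      rw [hBPsymm, hBPa]
      rw [hW0d] at hy
      have := hxT _ hy
      rwa [trB_apply] at this
    rw [← heq, hW0d] at hmem
    exact hmem
  -- the alternating form on `T'`
  obtain ⟨c, hcd⟩ : ∃ c : LinearMap.BilinForm F ↥T',
      ∀ y y' : ↥T', c y y' = τ (BK (y : V) b * BK (y' : V) a) := by
    refine ⟨LinearMap.mk₂ F (fun y y' : ↥T' => τ (BK (y : V) b * BK (y' : V) a)) ?_ ?_ ?_ ?_,
      fun y y' => rfl⟩
    · intro y₁ y₂ y'
      simp only [Submodule.coe_add, map_add, LinearMap.add_apply, add_mul]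
    · intro r y y'
      simp only [Submodule.coe_smul]
      rw [← algebraMap_smul K r (y : V), map_smul, LinearMap.smul_apply, smul_eq_mul, mul_assoc,
        ← Algebra.smul_def, map_smul]
    · intro y y₁ y₂
      simp only [Submodule.coe_add, map_add, LinearMap.add_apply, mul_add]
    · intro r y y'
      simp only [Submodule.coe_smul]
      rw [← algebraMap_smul K r (y' : V), map_smul, LinearMap.smul_apply, smul_eq_mul,
        mul_left_comm, ← Algebra.smul_def, map_smul]
  have hcalt : ∀ y : ↥T', c y y = 0 := by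
    intro y
    rw [hcd, ← hQcoord y.1 (hle y.2)]
    exact hts y.1 y.2
  have hrad := Cfsg.Agent.Lib.Helper49_OX3_ALT3.alt3_radical h3 c hcalt
  -- the radical is `(T' ∩ K a) ⊕ (T' ∩ K b)`
  obtain ⟨R, hRd⟩ : ∃ R : Submodule F V,
      R = (T' ⊓ kpt F (K := K) a) ⊔ (T' ⊓ kpt F (K := K) b) := ⟨_, rfl⟩
  have hRle : R ≤ T' := by
    rw [hRd]
    exact sup_le inf_le_left inf_le_left
  have hRfr : finrank F R = finrank F ↥(T' ⊓ kpt F (K := K) a) +
      finrank F ↥(T' ⊓ kpt F (K := K) b) := by
    have h5 := Submodule.finrank_sup_add_finrank_inf_eq (T' ⊓ kpt F (K := K) a)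
      (T' ⊓ kpt F (K := K) b)
    have h6 : (T' ⊓ kpt F (K := K) a) ⊓ (T' ⊓ kpt F (K := K) b) = ⊥ := by
      rw [eq_bot_iff]
      rintro x ⟨⟨-, hxa⟩, ⟨-, hxb⟩⟩
      obtain ⟨z, rfl⟩ := mem_kpt.mp hxa
      obtain ⟨w, hw⟩ := mem_kpt.mp hxb
      have h7 : z • a + (-w) • b = 0 := by rw [hw, neg_smul, add_neg_cancel]
      rw [(hind z (-w) h7).1, zero_smul]
      exact Submodule.zero_mem _
    rw [h6, finrank_bot, add_zero, ← hRd] at h5
    exact h5
  have hker : LinearMap.ker c = R.comap T'.subtype := by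
    ext y
    rw [LinearMap.mem_ker, Submodule.mem_comap, Submodule.subtype_apply]
    constructor
    · intro hy
      have hyP := hle y.2
      have h1 : BK (y : V) b • a ∈ T' := by
        apply hperp _ (haP _)
        intro y' hy'
        have := LinearMap.congr_fun hy ⟨y', hy'⟩
        rw [hcd] at this
        rw [trB_apply, map_smul, LinearMap.smul_apply, smul_eq_mul, hsymm a y']
        simpa using this
      have h2 : BK (y : V) a • b ∈ T' := by
        have h5 : BK (y : V) a • b = (y : V) - BK (y : V) b • a := by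
          rw [eq_sub_iff_add_eq, add_comm]
          exact (hcoord y.1 hyP).symm
        rw [h5]
        exact T'.sub_mem y.2 h1
      rw [hRd, hcoord y.1 hyP]
      exact Submodule.add_mem _
        (Submodule.mem_sup_left ⟨h1, mem_kpt.mpr ⟨_, rfl⟩⟩)
        (Submodule.mem_sup_right ⟨h2, mem_kpt.mpr ⟨_, rfl⟩⟩)
    · intro hy
      rw [hRd] at hy
      obtain ⟨y1, ⟨hy1T, hy1a⟩, y2, ⟨hy2T, hy2b⟩, hsum⟩ := Submodule.mem_sup.mp hy
      obtain ⟨z, rfl⟩ := mem_kpt.mp hy1a
      obtain ⟨w, rfl⟩ := mem_kpt.mp hy2b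
      apply LinearMap.ext
      intro y'
      rw [hcd, LinearMap.zero_apply, ← hsum]
      have h5 : BK (z • a + w • b) b = z := by
        simp only [map_add, map_smul, LinearMap.add_apply, LinearMap.smul_apply, smul_eq_mul, hab,
          hbb, mul_one, mul_zero, add_zero]
      rw [h5]
      have h6 := hTB _ hy1T _ y'.2
      rw [trB_apply, map_smul, LinearMap.smul_apply, smul_eq_mul, hsymm a] at h6
      exact h6
  have hfr : finrank F ↥(LinearMap.ker c) = finrank F R := by
    rw [hker, (Submodule.comapSubtypeEquivOfLe hRle).finrank_eq]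
  rw [← hRfr, ← hfr]
  rcases hrad with h | h
  · rw [h]; exact odd_one
  · rw [h]; exact ⟨1, by norm_num⟩

end Cfsg.Agent.Lib.Helper59_OX3_PAR_ALT
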