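import Mathlib
import Cfsg.Prelude.Def_GeometricClasses

/-!
# Auxiliary lemmas for the rows `Ω_10^±(q)`, `Ω_12^±(q)` (helper59)

If the blocks of an orthogonal decomposition into isometric blocks are not all anisotropic, then
every block contains a nonzero singular vector.
-/

set_option autoImplicit false

namespace Cfsg.Agent.Lib.Helper59_Omega10Aux

variable {ι : Type} {F : Type*} [Field F]

/-- If some block of an orthogonal decomposition into pairwise isometric blocks contains a nonzero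
singular vector, then every block does. -/
theorem sing_all_of_not_aniso (Q : (ι → F) → F) {t m : ℕ} (D : Fin t → Submodule F (ι → F))
    (hD : Cfsg.Geo.IsOrthogonalMDecomposition Q m D)
    (h : ¬ ∀ i, ∀ x ∈ D i, Q x = 0 → x = 0) : ∀ j, ∃ y ∈ D j, y ≠ 0 ∧ Q y = 0 := by
  push Not at h
  obtain ⟨i₀, x₀, hx₀, hQx₀, hne⟩ := h
  intro j
  obtain ⟨e, he⟩ := hD.isometric i₀ j
  refine ⟨(e ⟨x₀, hx₀⟩ : ι → F), (e ⟨x₀, hx₀⟩).2, ?_, by rw [he]; exact hQx₀⟩
  intro h0
  have h1 : e ⟨x₀, hx₀⟩ = 0 := Subtype.ext h0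
  have h2 : (⟨x₀, hx₀⟩ : D i₀) = 0 := by
    rw [← e.symm_apply_apply ⟨x₀, hx₀⟩, h1, map_zero]
  exact hne (congrArg Subtype.val h2)

/-- If the planes of an orthogonal decomposition into pairwise isometric planes are not all
anisotropic, then every plane is of plus type. -/
theorem plus_all_of_not_aniso (Q : (ι → F) → F) (hQ : Cfsg.Geo.IsNondegenerateQuadraticForm Q)
    {t : ℕ} (D : Fin t → Submodule F (ι → F))
    (hD : Cfsg.Geo.IsOrthogonalMDecomposition Q 2 D)
    (h : ¬ ∀ i, ∀ x ∈ D i, Q x = 0 → x = 0) : ∀ j, Cfsg.Geo.IsPlusTypeOn Q (D j) := by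
  intro j
  obtain ⟨y, hyD, hy0, hQy⟩ := sing_all_of_not_aniso Q D hD h j
  refine ⟨Submodule.span F {y}, ?_, ?_, ?_⟩
  · rw [Submodule.span_singleton_le_iff_mem]
    exact hyD
  · intro w hw
    obtain ⟨c, rfl⟩ := Submodule.mem_span_singleton.mp hw
    rw [hQ.smul, hQy, mul_zero]
  · rw [finrank_span_singleton hy0, hD.decomp.decomp.finrank_eq j]

end Cfsg.Agent.Lib.Helper59_Omega10Aux
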