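import Mathlib
import Cfsg.Agent.Lib.Helper94_OrthNondeg
import Cfsg.Agent.Lib.Helper31_OD2_IRR

/-!
# Non-degenerate subspace stabilisers with a small complement (helper59)

`Helper94_OrthNondeg.maximal_stab_nondeg` asks both summands of `V = A ⊥ A'` to have dimension at
least five, because it uses `Helper94_OrthNondeg.irr` on both.  With the characteristic-free
irreducibility `Helper31_OD2_IRR.irrK3` (dimension at least three) the same proof works as soon as
`3 ≤ dim A` and `5 ≤ dim A'`: this covers the splits `4 ∣ 6` of `Ω_10^±`, `4 ∣ 5`, `3 ∣ 6` of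
`Ω_9`, `3 ∣ 5` of `Ω_8^±`.
-/

set_option autoImplicit false

namespace Cfsg.Agent.Lib.Helper59_OrthNondeg3

open Module Cfsg.Agent.Lib.Helper94_Symp Cfsg.Agent.Lib.Helper94_OrthSmall
  Cfsg.Agent.Lib.Helper94_OrthSiegel Cfsg.Agent.Lib.Helper94_OrthSiegel2
  Cfsg.Agent.Lib.Helper94_OrthPara Cfsg.Agent.Lib.Helper94_OrthVec
  Cfsg.Agent.Lib.Helper94_OrthNondeg Cfsg.Agent.Lib.Helper38_OD2Defs

variable {F V : Type*} [Field F] [AddCommGroup V] [Module F V]
variable [Finite F] [FiniteDimensional F V] {Q : V → F} {B : LinearMap.BilinForm F V}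
  (hQs : ∀ (c : F) (v : V), Q (c • v) = c * c * Q v)
  (hQp : ∀ u v : V, Q (u + v) = Q u + Q v + B u v)

include hQs hQp in
/-- Irreducibility of the Siegel elements of a nondegenerate subspace of dimension at least
three, in the shape of `Helper94_OrthNondeg.irr`. -/
lemma irr3 (A : Submodule F V) (hA : ∀ a ∈ A, a ≠ 0 → ∃ x ∈ A, B x a ≠ 0) (h3 : 3 ≤ finrank F A)
    (X : Submodule F V)
    (hX : ∀ u ∈ A, ∀ v ∈ A, Q u = 0 → B u v = 0 → ∀ x ∈ X, sieg Q B u v x ∈ X)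
    {a a' : V} (hx : a + a' ∈ X) (ha : a ∈ A) (ha0 : a ≠ 0) (ha' : ∀ y ∈ A, B y a' = 0) :
    A ≤ X :=
  Cfsg.Agent.Lib.Helper31_OD2_IRR.irrK3 hQs hQp A X hA h3 hX a a' hx ha ha0 ha'

include hQs hQp in
/-- If the part of the Siegel group at `w ∈ A'` contained in `M` is not inside `A'`, then the full
Siegel group at `w` lies in `M` (`3 ≤ dim A`). -/
lemma full_of_notMem3 (hN : B.Nondegenerate) (A A' : Submodule F V)
    (hAA' : ∀ a ∈ A, ∀ a' ∈ A', B a a' = 0) (hsup : A ⊔ A' = ⊤) (h3 : 3 ≤ finrank F A)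
    (G M : Subgroup (V ≃ₗ[F] V)) (hG2 : ∀ u z, Q u = 0 → B u z = 0 → sieg Q B u z ∈ G)
    (hHM : stab A' ⊓ G ≤ M) {w : V} (hwA' : w ∈ A') (hw : Q w = 0)
    {z : V} (hz : InZ Q B M w z) (hzA' : z ∉ A') :
    ∀ z, B w z = 0 → sieg Q B w z ∈ M := by
  have hsymm := B_symm Q B hQp
  have hdec : ∀ x : V, ∃ a ∈ A, ∃ a' ∈ A', a + a' = x := fun x =>
    Submodule.mem_sup.mp (hsup ▸ Submodule.mem_top)
  have hAnd := nondegOn_left hQp hN A A' hAA' hsup
  obtain ⟨x, hxA, y, hyA', hxy⟩ := hdec z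
  have hx0 : x ≠ 0 := by
    rintro rfl
    apply hzA'
    rw [← hxy, zero_add]
    exact hyA'
  have hwA : ∀ x ∈ A, B w x = 0 := fun x hx => by rw [hsymm]; exact hAA' x hx w hwA'
  have hwy : B w y = 0 := by
    have := hz.1
    rw [← hxy, map_add, hwA x hxA, zero_add] at this
    exact this
  have hHA' : ∀ y ∈ A', B w y = 0 → InZ Q B M w y := fun y hy hwy =>
    ⟨hwy, fun t => hHM ⟨sieg_mem_stab_of_mem hQs hQp A' hwA' (A'.smul_mem t hy) hw
      (by rw [map_smul, hwy, smul_zero]), hG2 _ _ hw (by rw [map_smul, hwy, smul_zero])⟩⟩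
  have hxZ : InZ Q B M w x := by
    have := InZ_sub hQs hQp hw hz (hHA' y hyA' hwy)
    rwa [← hxy, add_sub_cancel_right] at this
  let X : Submodule F V :=
    { carrier := {z | InZ Q B M w z}
      add_mem' := fun h1 h2 => InZ_add hQs hQp hw h1 h2
      zero_mem' := InZ_zero hQs hQp hw
      smul_mem' := fun c _ h1 => InZ_smul c h1 }
  have hXinv : ∀ u ∈ A, ∀ v ∈ A, Q u = 0 → B u v = 0 → ∀ x ∈ X, sieg Q B u v x ∈ X := by
    intro u hu v hv hQu huv x hx
    have hgM : sieg Q B u v ∈ M :=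
      hHM ⟨sieg_mem_stab_of_orth hQs hQp A A' hAA' hu hv hQu huv, hG2 u v hQu huv⟩
    have hgO := sieg_mem_oG Q B hQs hQp hQu huv
    have hfix : sieg Q B u v w = w := by
      rw [sieg_apply Q B hQs hQp hQu huv, hwA u hu, hwA v hv]
      simp
    have h1 : InZ Q B M (sieg Q B u v w) (sieg Q B u v x) := InZ_map hQs hQp hgM hgO hw hx
    rw [hfix] at h1
    exact h1
  have hAX : A ≤ X := irr3 hQs hQp A hAnd h3 X hXinv (a := x) (a' := 0)
    (by rw [add_zero]; exact hxZ) hxA hx0 (fun y _ => by simp)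
  intro z' hwz'
  obtain ⟨x', hx'A, y', hy'A', hx'y'⟩ := hdec z'
  have hwy' : B w y' = 0 := by
    have := hwz'
    rw [← hx'y', map_add, hwA x' hx'A, zero_add] at this
    exact this
  have h1 : InZ Q B M w x' := hAX hx'A
  have h2 := hHA' y' hy'A' hwy'
  have h3 := InZ_add hQs hQp hw h1 h2
  rw [hx'y'] at h3
  have h4 := h3.2 1
  rwa [one_smul] at h4

include hQs hQp in
lemma stab_of_general3 (hN : B.Nondegenerate) (A A' : Submodule F V)
    (hAA' : ∀ a ∈ A, ∀ a' ∈ A', B a a' = 0) (hsup : A ⊔ A' = ⊤) (h3 : 3 ≤ finrank F A)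
    (h5' : 5 ≤ finrank F A')
    (G M : Subgroup (V ≃ₗ[F] V)) (hG2 : ∀ u z, Q u = 0 → B u z = 0 → sieg Q B u z ∈ G)
    (hHM : stab A' ⊓ G ≤ M) (hMO : M ≤ oG Q)
    (hZ : ∀ w ∈ A', w ≠ 0 → Q w = 0 → ∀ z, InZ Q B M w z → z ∈ A')
    (hni : ∀ g ∈ oG Q, ¬ ∀ y ∈ A', g y ∈ A)
    {m : V ≃ₗ[F] V} (hmM : m ∈ M) : ∀ y ∈ A', m y ∈ A' := by
  have hsymm := B_symm Q B hQp
  have hmO := hMO hmM
  have hdec : ∀ x : V, ∃ a ∈ A, ∃ a' ∈ A', a + a' = x := fun x =>
    Submodule.mem_sup.mp (hsup ▸ Submodule.mem_top)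
  have hAnd := nondegOn_left hQp hN A A' hAA' hsup
  have hA'nd := nondegOn_right hQp hN A A' hAA' hsup
  have hinf : A ⊓ A' = ⊥ := by
    rw [eq_bot_iff]
    rintro x ⟨hx, hx'⟩
    by_contra hx0
    obtain ⟨y, hy, hyx⟩ := hAnd x hx hx0
    exact hyx (hAA' y hy x hx')
  by_cases c : ∃ w ∈ A', w ≠ 0 ∧ Q w = 0 ∧ m w ∈ A'
  · obtain ⟨w, hwA', hw0, hw, hmw⟩ := c
    exact stab_of_fix hQs hQp A' h5' G M hG2 hHM hZ hmM hmO hwA' hw0 hw hmw
  -- general position
  have hHelt : ∀ u z, ((u ∈ A' ∧ z ∈ A') ∨ (u ∈ A ∧ z ∈ A)) → Q u = 0 → B u z = 0 →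
      ∀ x ∈ A'.map (m : V →ₗ[F] V), sieg Q B u z x ∈ A'.map (m : V →ₗ[F] V) := by
    intro u z huz hQu hBuz x hx
    have hhM : sieg Q B u z ∈ M := by
      apply hHM
      refine ⟨?_, hG2 u z hQu hBuz⟩
      rcases huz with ⟨hu, hz⟩ | ⟨hu, hz⟩
      · exact sieg_mem_stab_of_mem hQs hQp A' hu hz hQu hBuz
      · exact sieg_mem_stab_of_orth hQs hQp A A' hAA' hu hz hQu hBuz
    have hhO := sieg_mem_oG Q B hQs hQp hQu hBuz
    obtain ⟨w, hwA', hw0, hQw, hw1, hw2⟩ :=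
      exists_sing_orth2 Q B hQs hQp A' h5' (m⁻¹ u) (m⁻¹ z)
    have hmwu : B (m w) u = 0 := by
      have := oG_B Q B hQp hmO w (m⁻¹ u)
      rw [apply_inv_apply'] at this
      rw [this]
      exact hw1
    have hmwz : B (m w) z = 0 := by
      have := oG_B Q B hQp hmO w (m⁻¹ z)
      rw [apply_inv_apply'] at this
      rw [this]
      exact hw2
    have hfix : sieg Q B u z (m w) = m w := by
      rw [sieg_apply Q B hQs hQp hQu hBuz, hmwu, hmwz]
      simp
    have hm'M : m⁻¹ * sieg Q B u z * m ∈ M := M.mul_mem (M.mul_mem (M.inv_mem hmM) hhM) hmM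
    have hm'O : m⁻¹ * sieg Q B u z * m ∈ oG Q := hMO hm'M
    have hm'w : (m⁻¹ * sieg Q B u z * m) w = w := by
      simp only [LinearEquiv.mul_apply]
      rw [hfix, inv_apply_apply']
    have hst := stab_of_fix hQs hQp A' h5' G M hG2 hHM hZ hm'M hm'O hwA' hw0 hQw
      (by rw [hm'w]; exact hwA')
    obtain ⟨y, hy, rfl⟩ := hx
    refine ⟨(m⁻¹ * sieg Q B u z * m) y, hst y hy, ?_⟩
    simp only [LinearEquiv.mul_apply, LinearEquiv.coe_coe]
    rw [apply_inv_apply']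
  have hXfr : finrank F (A'.map (m : V →ₗ[F] V)) = finrank F A' := LinearEquiv.finrank_map_eq m A'
  have hV : finrank F V = finrank F A + finrank F A' := by
    have := Submodule.finrank_sup_add_finrank_inf_eq A A'
    rw [hsup, hinf, finrank_bot, finrank_top] at this
    omega
  by_cases c1 : ∃ a ∈ A, ∃ a' ∈ A', a + a' ∈ A'.map (m : V →ₗ[F] V) ∧ a ≠ 0
  · obtain ⟨a, ha, a', ha', hx, ha0⟩ := c1
    have hAX : A ≤ A'.map (m : V →ₗ[F] V) :=
      irr3 hQs hQp A hAnd h3 _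
        (fun u hu v hv hQu huv x hx => hHelt u v (Or.inr ⟨hu, hv⟩) hQu huv x hx)
        hx ha ha0 (fun y hy => hAA' y hy a' ha')
    by_cases c2 : ∃ a ∈ A, ∃ a' ∈ A', a + a' ∈ A'.map (m : V →ₗ[F] V) ∧ a' ≠ 0
    · exfalso
      obtain ⟨b, hb, b', hb', hx2, hb'0⟩ := c2
      have hA'X : A' ≤ A'.map (m : V →ₗ[F] V) :=
        irr3 hQs hQp A' hA'nd (by omega) _
          (fun u hu v hv hQu huv x hx => hHelt u v (Or.inl ⟨hu, hv⟩) hQu huv x hx)
          (a := b') (a' := b) (by rw [add_comm]; exact hx2) hb' hb'0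
          (fun y hy => by rw [hsymm]; exact hAA' b hb y hy)
      have htop : A'.map (m : V →ₗ[F] V) = ⊤ := by
        rw [eq_top_iff, ← hsup]
        exact sup_le hAX hA'X
      rw [htop, finrank_top] at hXfr
      omega
    · exfalso
      push Not at c2
      apply hni m hmO
      intro y hy
      obtain ⟨b, hb, b', hb', hbb'⟩ := hdec (m y)
      have hmem : b + b' ∈ A'.map (m : V →ₗ[F] V) := by
        rw [hbb']
        exact ⟨y, hy, rfl⟩
      have := c2 b hb b' hb' hmem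
      rw [← hbb', this, add_zero]
      exact hb
  · push Not at c1
    intro y hy
    obtain ⟨b, hb, b', hb', hbb'⟩ := hdec (m y)
    have hmem : b + b' ∈ A'.map (m : V →ₗ[F] V) := by
      rw [hbb']
      exact ⟨y, hy, rfl⟩
    have := c1 b hb b' hb' hmem
    rw [← hbb', this, zero_add]
    exact hb'

include hQs hQp in
/-- **Maximality of the stabiliser of a nondegenerate subspace** `A'` of dimension at least five
whose orthogonal complement `A` has dimension at least three, `A'` not isometrically embeddable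
into `A`. -/
theorem maximal_stab_nondeg3 (hN : B.Nondegenerate) (G : Subgroup (V ≃ₗ[F] V)) (hG1 : G ≤ oG Q)
    (hG2 : ∀ u z, Q u = 0 → B u z = 0 → sieg Q B u z ∈ G)
    (hG3 : ∀ M : Subgroup (V ≃ₗ[F] V),
      (∀ u z, Q u = 0 → B u z = 0 → sieg Q B u z ∈ M) → G ≤ M)
    (A A' : Submodule F V)
    (hAA' : ∀ a ∈ A, ∀ a' ∈ A', B a a' = 0) (hsup : A ⊔ A' = ⊤) (h3 : 3 ≤ finrank F A)
    (h5' : 5 ≤ finrank F A')
    (hni : ∀ g ∈ oG Q, ¬ ∀ y ∈ A', g y ∈ A) :
    (stab A' ⊓ G < G) ∧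
      ∀ M : Subgroup (V ≃ₗ[F] V), stab A' ⊓ G ≤ M → M ≤ G → M = stab A' ⊓ G ∨ M = G := by
  have hsymm := B_symm Q B hQp
  have hAnd := nondegOn_left hQp hN A A' hAA' hsup
  have hA'nd := nondegOn_right hQp hN A A' hAA' hsup
  have hinf : A ⊓ A' = ⊥ := by
    rw [eq_bot_iff]
    rintro x ⟨hx, hx'⟩
    by_contra hx0
    obtain ⟨y, hy, hyx⟩ := hAnd x hx hx0
    exact hyx (hAA' y hy x hx')
  constructor
  · refine lt_of_le_of_ne inf_le_right ?_
    intro heq
    obtain ⟨u, huA', hu0, hQu, -, -⟩ := exists_sing_orth2 Q B hQs hQp A' h5' 0 0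
    obtain ⟨z, hzA, hz0, -⟩ := exists_singular_in Q B hQs hQp A h3
    obtain ⟨x, hxA', hxu⟩ := hA'nd u huA' hu0
    have huz : B u z = 0 := by rw [hsymm]; exact hAA' z hzA u huA'
    have hg : sieg Q B u z ∈ stab A' ⊓ G := by
      rw [heq]
      exact hG2 u z hQu huz
    have h1 := (mem_stab.mp hg.1 x).mp hxA'
    rw [sieg_apply Q B hQs hQp hQu huz, hsymm x z, hAA' z hzA x hxA'] at h1
    have h2 : B x u • z ∈ A' := by
      have h3 := A'.add_mem (A'.sub_mem h1 hxA') (A'.smul_mem (Q z * B x u) huA')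
      have e : x + B x u • z - (0 : F) • u - (Q z * B x u) • u - x + (Q z * B x u) • u =
          B x u • z := by module
      rwa [e] at h3
    have h4 : z ∈ A' := by
      have := A'.smul_mem (B x u)⁻¹ h2
      rwa [smul_smul, inv_mul_cancel₀ hxu, one_smul] at this
    have : z ∈ (A ⊓ A' : Submodule F V) := ⟨hzA, h4⟩
    rw [hinf, Submodule.mem_bot] at this
    exact hz0 this
  · intro M hHM hMG
    have hMO : M ≤ oG Q := hMG.trans hG1
    by_cases hZ : ∀ w ∈ A', w ≠ 0 → Q w = 0 → ∀ z, InZ Q B M w z → z ∈ A'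
    · left
      apply le_antisymm _ hHM
      intro m hmM
      refine ⟨mem_stab_of_forall_mem ?_, hMG hmM⟩
      exact stab_of_general3 hQs hQp hN A A' hAA' hsup h3 h5' G M hG2 hHM hMO hZ hni hmM
    · right
      push Not at hZ
      obtain ⟨w, hwA', hw0, hw, z, hz, hzA'⟩ := hZ
      apply le_antisymm hMG
      apply hG3
      have hfull := full_of_notMem3 hQs hQp hN A A' hAA' hsup h3 G M hG2 hHM hwA' hw hz hzA'
      exact all_of_full hQs hQp hN A A' hAA' hsup h5' G M hG2 hHM hMO hwA' hw0 hw hfull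

end Cfsg.Agent.Lib.Helper59_OrthNondeg3
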