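import Mathlib
import Cfsg.Agent.Lib.Helper94_OrthUni6

/-!
# Normalisers of a quadratic field structure in orthogonal groups of dimension at least nine
(helper59)

`Helper94_OrthUni.maximal_ufield` (the group of type `GU_{n/2}(q).2` is maximal in `Ω_n^±(q)`) is
stated for `13 ≤ n`.  The bound enters in two places only: a nonsingular vector orthogonal to six
given vectors in `line_of_vec` (here obtained inside the nondegenerate complement of a hyperbolic
pair of lines over the quadratic field), and a singular vector orthogonal to eight given vectors in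
`semifull_all` (here replaced by a case distinction using four vectors).  Everything else is
`Helper94`'s proof with `9 ≤ n`; this gives `GU_5(q).2 < Ω_10^-(q)` and `GU_6(q).2 < Ω_12^+(q)`.
-/

set_option autoImplicit false
set_option linter.unusedSectionVars false

namespace Cfsg.Agent.Lib.Helper59_OrthUni9

open Module Cfsg.Agent.Lib.Helper94_Symp Cfsg.Agent.Lib.Helper94_OrthSmall
  Cfsg.Agent.Lib.Helper94_OrthSiegel Cfsg.Agent.Lib.Helper94_OrthSiegel2
  Cfsg.Agent.Lib.Helper94_OrthPara Cfsg.Agent.Lib.Helper94_OrthNondeg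
  Cfsg.Agent.Lib.Helper94_OrthUni

variable {F V : Type*} [Field F] [AddCommGroup V] [Module F V]

section Main

variable [Finite F] [FiniteDimensional F V] {Q : V → F} {B : LinearMap.BilinForm F V}
  {θ : V →ₗ[F] V} {τ ν : F} (U : UStr Q B θ τ ν)
  (hQs : ∀ (c : F) (v : V), Q (c • v) = c * c * Q v)
  (hQp : ∀ u v : V, Q (u + v) = Q u + Q v + B u v)

include U hQs hQp in
/-- A nonsingular vector of a nondegenerate subspace `A` orthogonal to the hyperbolic pair of
lines (over the quadratic field) spanned by `u` and `f`. -/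
lemma exists_nonsing_compl (A : Submodule F V) (hA : ∀ a ∈ A, a ≠ 0 → ∃ a' ∈ A, B a' a ≠ 0)
    (h5 : 5 ≤ finrank F A) {u f : V} (huA : u ∈ A) (hθuA : θ u ∈ A) (hfA : f ∈ A)
    (hθfA : θ f ∈ A) {ε : F} (hε : ε ≠ 0) (hQu : Q u = 0) (hQf : Q f = 0) (huf : B u f = 0)
    (huθf : B u (θ f) = -ε) :
    ∃ w ∈ A, Q w ≠ 0 ∧ B w u = 0 ∧ B w (θ u) = 0 ∧ B w f = 0 ∧ B w (θ f) = 0 := by
  have hsymm := B_symm Q B hQp
  have huu : B u u = 0 := by rw [B_self Q B hQs hQp, hQu, mul_zero]
  have hff : B f f = 0 := by rw [B_self Q B hQs hQp, hQf, mul_zero]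
  have huθu : B u (θ u) = 0 := B_theta_self U hQu
  have hfθf : B f (θ f) = 0 := B_theta_self U hQf
  have hθuθu : B (θ u) (θ u) = 0 := by rw [U.Bθθ, huu, mul_zero]
  have hθfθf : B (θ f) (θ f) = 0 := by rw [U.Bθθ, hff, mul_zero]
  have hθuf : B (θ u) f = ε := by rw [U.adj, huf, huθf]; ring
  have hθuθf : B (θ u) (θ f) = 0 := by rw [U.Bθθ, huf, mul_zero]
  have hfu : B f u = 0 := by rw [hsymm]; exact huf
  have hfθu : B f (θ u) = ε := by rw [hsymm]; exact hθuf
  have hθfu : B (θ f) u = -ε := by rw [hsymm]; exact huθf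
  have hθfθu : B (θ f) (θ u) = 0 := by rw [hsymm]; exact hθuθf
  have hθuu : B (θ u) u = 0 := by rw [hsymm]; exact huθu
  have hθff : B (θ f) f = 0 := by rw [hsymm]; exact hfθf
  -- a nonzero vector of `A` orthogonal to the four vectors
  have d1 := finrank_le_inf_ker_add_one A (B.flip u)
  have d2 := finrank_le_inf_ker_add_one (A ⊓ LinearMap.ker (B.flip u)) (B.flip (θ u))
  have d3 := finrank_le_inf_ker_add_one
    (A ⊓ LinearMap.ker (B.flip u) ⊓ LinearMap.ker (B.flip (θ u))) (B.flip f)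
  have d4 := finrank_le_inf_ker_add_one
    (A ⊓ LinearMap.ker (B.flip u) ⊓ LinearMap.ker (B.flip (θ u)) ⊓ LinearMap.ker (B.flip f))
    (B.flip (θ f))
  have hpos : 0 < finrank F (A ⊓ LinearMap.ker (B.flip u) ⊓ LinearMap.ker (B.flip (θ u)) ⊓
      LinearMap.ker (B.flip f) ⊓ LinearMap.ker (B.flip (θ f)) : Submodule F V) := by omega
  obtain ⟨a₁, ha₁, ha₁0⟩ := Submodule.exists_mem_ne_zero_of_ne_bot
    (p := (A ⊓ LinearMap.ker (B.flip u) ⊓ LinearMap.ker (B.flip (θ u)) ⊓
      LinearMap.ker (B.flip f) ⊓ LinearMap.ker (B.flip (θ f)) : Submodule F V))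
    (fun h => by rw [h, finrank_bot] at hpos; exact lt_irrefl 0 hpos)
  have ha₁A : a₁ ∈ A := ha₁.1.1.1.1
  have ha₁u : B a₁ u = 0 := mem_ker_flip.mp ha₁.1.1.1.2
  have ha₁θu : B a₁ (θ u) = 0 := mem_ker_flip.mp ha₁.1.1.2
  have ha₁f : B a₁ f = 0 := mem_ker_flip.mp ha₁.1.2
  have ha₁θf : B a₁ (θ f) = 0 := mem_ker_flip.mp ha₁.2
  by_cases hQa : Q a₁ = 0
  · obtain ⟨b, hbA, hba⟩ := hA a₁ ha₁A ha₁0
    obtain ⟨b₁, hb₁d⟩ : ∃ b₁, b₁ = b - (-(B b (θ f) / ε)) • u - (B b f / ε) • θ u -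
        (B b (θ u) / ε) • f - (-(B b u / ε)) • θ f := ⟨_, rfl⟩
    have hb₁A : b₁ ∈ A := by
      rw [hb₁d]
      exact A.sub_mem (A.sub_mem (A.sub_mem (A.sub_mem hbA (A.smul_mem _ huA))
        (A.smul_mem _ hθuA)) (A.smul_mem _ hfA)) (A.smul_mem _ hθfA)
    have hb₁u : B b₁ u = 0 := by
      rw [hb₁d]
      simp only [map_sub, map_smul, LinearMap.sub_apply, LinearMap.smul_apply, smul_eq_mul, huu,
        hθuu, hfu, hθfu]
      field_simp
      ring
    have hb₁θu : B b₁ (θ u) = 0 := by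
      rw [hb₁d]
      simp only [map_sub, map_smul, LinearMap.sub_apply, LinearMap.smul_apply, smul_eq_mul, huθu,
        hθuθu, hfθu, hθfθu]
      field_simp
      ring
    have hb₁f : B b₁ f = 0 := by
      rw [hb₁d]
      simp only [map_sub, map_smul, LinearMap.sub_apply, LinearMap.smul_apply, smul_eq_mul, huf,
        hθuf, hff, hθff]
      field_simp
      ring
    have hb₁θf : B b₁ (θ f) = 0 := by
      rw [hb₁d]
      simp only [map_sub, map_smul, LinearMap.sub_apply, LinearMap.smul_apply, smul_eq_mul, huθf,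
        hθuθf, hfθf, hθfθf]
      field_simp
      ring
    have hab₁ : B a₁ b₁ ≠ 0 := by
      have e : B a₁ b₁ = B b a₁ := by
        rw [hb₁d]
        simp only [map_sub, map_smul, smul_eq_mul, ha₁u, ha₁θu, ha₁f, ha₁θf]
        rw [hsymm a₁ b]
        ring
      rw [e]
      exact hba
    by_cases hQb : Q b₁ = 0
    · refine ⟨a₁ + b₁, A.add_mem ha₁A hb₁A, ?_, ?_, ?_, ?_, ?_⟩
      · rw [hQp, hQa, hQb, zero_add, zero_add]
        exact hab₁
      · rw [map_add, LinearMap.add_apply, ha₁u, hb₁u, add_zero]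
      · rw [map_add, LinearMap.add_apply, ha₁θu, hb₁θu, add_zero]
      · rw [map_add, LinearMap.add_apply, ha₁f, hb₁f, add_zero]
      · rw [map_add, LinearMap.add_apply, ha₁θf, hb₁θf, add_zero]
    · exact ⟨b₁, hb₁A, hQb, hb₁u, hb₁θu, hb₁f, hb₁θf⟩
  · exact ⟨a₁, ha₁A, hQa, ha₁u, ha₁θu, ha₁f, ha₁θf⟩

variable (M : Subgroup (V ≃ₗ[F] V)) (hMO : M ≤ oG Q)
  (hT : ∀ (u : V) (t : F), Q u = 0 → sieg Q B u (t • θ u) ∈ M)

include U hQs hQp hMO hT in
/-- Spreading inside the complement: from one full line to all singular vectors. -/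
lemma spread9 {x y : V} {A : Submodule F V} (C : Compl Q B θ x y A) (hN : B.Nondegenerate)
    (h9 : 9 ≤ finrank F V) (hx : Q x = 0)
    {f : V} (hfA : f ∈ A) (hf0 : f ≠ 0) (hQf : Q f = 0) (hf : InZ Q B M x f)
    (hθf : InZ Q B M x (θ f)) {s : V} (hsA : s ∈ A) (hQs' : Q s = 0) :
    InZ Q B M x s ∧ InZ Q B M x (θ s) := by
  have hsymm := B_symm Q B hQp
  have hA := C.nondeg U hQs hQp hN hx
  have hdim := C.finrank_le
  have h3 : 3 ≤ finrank F A := by omega
  by_cases hs0 : s = 0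
  · subst hs0
    rw [map_zero]
    exact ⟨InZ_zero hQs hQp hx, InZ_zero hQs hQp hx⟩
  by_cases hne : B f s = 0 ∧ B f (θ s) = 0
  · obtain ⟨h, hhA, hQh, hhf⟩ := exists_sing_not_orth Q B hQs hQp A hA h3 (hA f hfA hf0)
    have hfh : B f h ≠ 0 := by rw [hsymm]; exact hhf
    obtain ⟨Xh, Xθh⟩ := InZ_step U hQs hQp M hMO hT hx hf hθf hQh (C.memP hhA).1 (C.memP hhA).2
      (fun hc => hfh hc.1)
    by_cases hhs : B h s = 0
    · have hnd := nondeg_hyp hQs hQp A hA hhA hfA hQh hQf hhf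
      have d1 := finrank_le_inf_ker_add_one A (B.flip h)
      have d2 := finrank_le_inf_ker_add_one (A ⊓ LinearMap.ker (B.flip h)) (B.flip f)
      have hsA' : s ∈ A ⊓ LinearMap.ker (B.flip h) ⊓ LinearMap.ker (B.flip f) :=
        Submodule.mem_inf.mpr ⟨Submodule.mem_inf.mpr ⟨hsA, mem_ker_flip.mpr (by rw [hsymm]; exact hhs)⟩,
          mem_ker_flip.mpr (by rw [hsymm]; exact hne.1)⟩
      obtain ⟨t, htA', hQt, hts⟩ := exists_sing_not_orth Q B hQs hQp _ hnd (by omega)
        (hnd s hsA' hs0)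
      have htA : t ∈ A := htA'.1.1
      have hth : B t h = 0 := mem_ker_flip.mp htA'.1.2
      have htf : B t f = 0 := mem_ker_flip.mp htA'.2
      have hQg : Q (h + t) = 0 := by rw [hQp, hQh, hQt, hsymm, hth]; ring
      have hgA : h + t ∈ A := A.add_mem hhA htA
      have hfg : B f (h + t) ≠ 0 := by
        rw [map_add, hsymm f t, htf, add_zero]; exact hfh
      obtain ⟨Xg, Xθg⟩ := InZ_step U hQs hQp M hMO hT hx hf hθf hQg (C.memP hgA).1 (C.memP hgA).2
        (fun hc => hfg hc.1)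
      have hgs : B (h + t) s ≠ 0 := by
        rw [map_add, LinearMap.add_apply, hhs, zero_add]; exact hts
      exact InZ_step U hQs hQp M hMO hT hx Xg Xθg hQs' (C.memP hsA).1 (C.memP hsA).2
        (fun hc => hgs hc.1)
    · exact InZ_step U hQs hQp M hMO hT hx Xh Xθh hQs' (C.memP hsA).1 (C.memP hsA).2
        (fun hc => hhs hc.1)
  · exact InZ_step U hQs hQp M hMO hT hx hf hθf hQs' (C.memP hsA).1 (C.memP hsA).2 hne

include U hQs hQp hMO hT in
/-- From a nonzero vector of the complement to a full line in the complement. -/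
lemma line_of_vec9 {x y : V} {A : Submodule F V} (C : Compl Q B θ x y A) (hN : B.Nondegenerate)
    (h9 : 9 ≤ finrank F V) (hx : Q x = 0)
    {z₀ : V} (hzA : z₀ ∈ A) (hz0 : z₀ ≠ 0) (hz : InZ Q B M x z₀) :
    ∃ f ∈ A, f ≠ 0 ∧ Q f = 0 ∧ InZ Q B M x f ∧ InZ Q B M x (θ f) := by
  have hsymm := B_symm Q B hQp
  have hA := C.nondeg U hQs hQp hN hx
  have hdim := C.finrank_le
  have h3 : 3 ≤ finrank F A := by omega
  -- a singular vector of the line of `s₀`
  obtain ⟨s₀, hs₀A, hQs₀, hs₀z⟩ := exists_sing_not_orth Q B hQs hQp A hA h3 (hA z₀ hzA hz0)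
  have hs₀0 : s₀ ≠ 0 := by
    rintro rfl
    simp at hs₀z
  have hz₀s : B z₀ s₀ ≠ 0 := by rw [hsymm]; exact hs₀z
  obtain ⟨u, hud⟩ : ∃ u, u = dv B θ s₀ z₀ := ⟨_, rfl⟩
  have Xu : InZ Q B M x u := by
    rw [hud]
    exact InZ_dv U hQs hQp M hMO hT hx hQs₀ (C.memP hs₀A).1 (C.memP hs₀A).2 hz
  have hu0 : u ≠ 0 := by rw [hud]; exact dv_ne_zero U hs₀0 hz₀s
  have hKu : Kmem θ s₀ u := by rw [hud]; exact dv_Kmem s₀ z₀
  have hQu : Q u = 0 := hKu.sing U hQs hQp hQs₀
  have huA : u ∈ A := by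
    obtain ⟨a, b, rfl⟩ := hKu
    exact A.add_mem (A.smul_mem _ hs₀A) (A.smul_mem _ (C.theta_mem U hs₀A))
  -- the second line
  obtain ⟨p', hp'A, hQp', hp'u⟩ := exists_sing_not_orth Q B hQs hQp A hA h3 (hA u huA hu0)
  have hup' : B u p' ≠ 0 := by rw [hsymm]; exact hp'u
  obtain ⟨f, hfd⟩ : ∃ f, f = dv B θ p' u := ⟨_, rfl⟩
  have Xf : InZ Q B M x f := by
    rw [hfd]
    exact InZ_dv U hQs hQp M hMO hT hx hQp' (C.memP hp'A).1 (C.memP hp'A).2 Xu
  have hKf : Kmem θ p' f := by rw [hfd]; exact dv_Kmem p' u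
  have hQf : Q f = 0 := hKf.sing U hQs hQp hQp'
  have hfA : f ∈ A := by
    obtain ⟨a, b, rfl⟩ := hKf
    exact A.add_mem (A.smul_mem _ hp'A) (A.smul_mem _ (C.theta_mem U hp'A))
  obtain ⟨ε, hεd⟩ : ∃ ε, ε = B u (θ p') * B u (θ p') + B u (θ p') * (-(B u p')) * τ +
      (-(B u p')) * (-(B u p')) * ν := ⟨_, rfl⟩
  have hε : ε ≠ 0 := by
    rw [hεd]
    apply U.norm_ne
    rintro ⟨-, h2⟩
    exact hup' (neg_eq_zero.mp h2)
  have huf : B u f = 0 := by rw [hfd]; exact dv_dv_left U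
  have huθf : B u (θ f) = -ε := by rw [hfd, hεd]; exact dv_dv_right U
  have hf0 : f ≠ 0 := by
    rintro rfl
    rw [map_zero, map_zero] at huθf
    exact hε (neg_eq_zero.mp huθf.symm)
  -- a nonsingular vector orthogonal to everything
  obtain ⟨w, hwA, hQw, hwu, hwθu, hwf, hwθf⟩ := exists_nonsing_compl U hQs hQp A hA (by omega)
    huA (C.theta_mem U huA) hfA (C.theta_mem U hfA) hε hQu hQf huf huθf
  have hwx : B w x = 0 := (C.memP hwA).1
  have hwθx : B w (θ x) = 0 := (C.memP hwA).2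
  obtain ⟨u', hu'd⟩ : ∃ u', u' = (-(Q w / ε)) • θ u + f + w := ⟨_, rfl⟩
  have hQu' : Q u' = 0 := by
    rw [hu'd]; exact key_sing U hQs hQp hε hQu hQf huf huθf hwu hwθu hwf
  have hθuA := C.theta_mem U huA
  have hu'x : B u' x = 0 := by
    rw [hu'd]
    simp only [map_add, map_smul, LinearMap.add_apply, LinearMap.smul_apply, (C.memP hθuA).1,
      (C.memP hfA).1, hwx]
    simp
  have hu'θx : B u' (θ x) = 0 := by
    rw [hu'd]
    simp only [map_add, map_smul, LinearMap.add_apply, LinearMap.smul_apply, (C.memP hθuA).2,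
      (C.memP hfA).2, hwθx]
    simp
  have Xu' : InZ Q B M x u' := by
    have h1 := InZ_dv U hQs hQp M hMO hT hx hQu' hu'x hu'θx Xu
    rw [hu'd, key_dv1 U hQs hQp hQu huf huθf hwu hwθu, ← hu'd] at h1
    have h2 := InZ_smul ε⁻¹ h1
    rwa [smul_smul, inv_mul_cancel₀ hε, one_smul] at h2
  have Xθf : InZ Q B M x (θ f) := by
    have h1 := InZ_dv U hQs hQp M hMO hT hx hQf (C.memP hfA).1 (C.memP hfA).2 Xu'
    rw [hu'd, key_dv2 U hQs hQp hε hQf huf huθf hwf hwθf] at h1
    have h2 := InZ_smul (-(Q w))⁻¹ h1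
    rwa [smul_smul, inv_mul_cancel₀ (neg_ne_zero.mpr hQw), one_smul] at h2
  exact ⟨f, hfA, hf0, hQf, Xf, Xθf⟩

include U hQs hQp hMO hT in
/-- **Main step**: a vector of the Siegel part at `x` outside the line of `x` forces the whole
orthogonal of the line. -/
theorem semifull_of_notK9 (hN : B.Nondegenerate) (h9 : 9 ≤ finrank F V) {x z : V} (hx0 : x ≠ 0)
    (hx : Q x = 0) (hz : InZ Q B M x z) (hzK : ¬ Kmem θ x z) :
    ∀ p, B p x = 0 → B p (θ x) = 0 → InZ Q B M x p := by
  have hsymm := B_symm Q B hQp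
  obtain ⟨y, A, C⟩ := exists_compl U hQs hQp hN hx0 hx
  have hA := C.nondeg U hQs hQp hN hx
  have hdim := C.finrank_le
  have h3 : 3 ≤ finrank F A := by omega
  have Xx : InZ Q B M x x := InZ_self hQs hQp M hx
  have Xθx : InZ Q B M x (θ x) := InZ_theta_self U M hT hx
  have hzx : B z x = 0 := by rw [hsymm]; exact hz.1
  -- a nonzero vector of the complement in the Siegel part
  have step0 : ∃ z₀ ∈ A, z₀ ≠ 0 ∧ InZ Q B M x z₀ := by
    obtain ⟨c1, hc1⟩ : ∃ c1, c1 = B z (θ y) := ⟨_, rfl⟩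
    obtain ⟨c2, hc2⟩ : ∃ c2, c2 = B z y := ⟨_, rfl⟩
    obtain ⟨c3, hc3d⟩ : ∃ c3, c3 = B z (θ x) := ⟨_, rfl⟩
    obtain ⟨zA, hzAd⟩ : ∃ zA, zA = z - (c1 • x - c2 • θ x - c3 • y + B z x • θ y) := ⟨_, rfl⟩
    have hzAA : zA ∈ A := by rw [hzAd, hc1, hc2, hc3d]; exact C.proj U hQs hQp hx z
    have hzdec : z = c1 • x - c2 • θ x - c3 • y + zA := by
      rw [hzAd, hzx]; module
    by_cases hzA0 : zA = 0
    · -- then `y` lies in the Siegel part
      have hc3 : c3 ≠ 0 := by
        intro h0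
        apply hzK
        refine ⟨c1, -c2, ?_⟩
        rw [hzdec, hzA0, h0]
        module
      have Xy : InZ Q B M x y := by
        have h1 := InZ_sub hQs hQp hx (InZ_sub hQs hQp hx hz (InZ_smul c1 Xx))
          (InZ_smul (-c2) Xθx)
        have h2 := InZ_smul (-c3)⁻¹ h1
        have hz' : z - c1 • x - (-c2) • θ x = (-c3) • y := by
          rw [hzdec, hzA0]
          module
        rwa [hz', smul_smul, inv_mul_cancel₀ (neg_ne_zero.mpr hc3), one_smul] at h2
      obtain ⟨s, hsA, hs0, hQs'⟩ := exists_singular_in Q B hQs hQp A h3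
      obtain ⟨h1, h2, h3', h4⟩ := (C.mem s).mp hsA
      have hθsA := C.theta_mem U hsA
      obtain ⟨g1, g2, g3, g4⟩ := (C.mem (θ s)).mp hθsA
      have hxx : B x x = 0 := by rw [B_self Q B hQs hQp, hx, mul_zero]
      have hθxθx : B (θ x) (θ x) = 0 := by rw [U.Bθθ, hxx, mul_zero]
      have hQu : Q (θ x + s) = 0 := by
        rw [hQp, U.Qθ, hx, hQs', hsymm, h2]; ring
      have hux : B (θ x + s) x = 0 := by
        rw [map_add, LinearMap.add_apply, h1, hsymm, B_theta_self U hx, add_zero]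
      have huθx : B (θ x + s) (θ x) = 0 := by
        rw [map_add, LinearMap.add_apply, h2, hθxθx, add_zero]
      have h5 := InZ_dv U hQs hQp M hMO hT hx hQu hux huθx Xy
      have hyθx : B y (θ x) = -1 := by rw [hsymm, U.adj, C.xy, C.xθy]; ring
      have hyx : B y x = 0 := by rw [hsymm]; exact C.xy
      have e : dv B θ (θ x + s) y = ν • x + (τ • s - θ s) := by
        rw [dv]
        have e1 : B y (θ x + s) = -1 := by
          rw [map_add, hyθx, hsymm, h3', add_zero]
        have e2 : B y (θ (θ x + s)) = -τ := by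
          rw [map_add, U.sq, map_add, map_sub, map_smul, map_smul, hyθx, hyx, hsymm y (θ s), g3]
          simp
        rw [e1, e2, map_add, U.sq]
        module
      rw [e] at h5
      have h6 := InZ_sub hQs hQp hx h5 (InZ_smul ν Xx)
      rw [add_sub_cancel_left] at h6
      refine ⟨τ • s - θ s, A.sub_mem (A.smul_mem _ hsA) hθsA, ?_, h6⟩
      intro h0
      have h7 : τ • s + (-1 : F) • θ s = 0 := by rw [← h0]; module
      have := (U.indep hs0 h7).2
      exact one_ne_zero (neg_eq_zero.mp this)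
    · obtain ⟨s, hsA, hQs', hszA⟩ := exists_sing_not_orth Q B hQs hQp A hA h3 (hA zA hzAA hzA0)
      have hs0 : s ≠ 0 := by
        rintro rfl
        simp at hszA
      obtain ⟨h1, h2, h3', h4⟩ := (C.mem s).mp hsA
      have hzs : B z s ≠ 0 := by
        rw [hzdec]
        simp only [map_sub, map_add, map_smul, LinearMap.sub_apply, LinearMap.add_apply,
          LinearMap.smul_apply, smul_eq_mul, hsymm x s, hsymm (θ x) s, hsymm y s, h1, h2, h3',
          mul_zero, sub_zero, zero_add]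
        rw [hsymm]; exact hszA
      refine ⟨dv B θ s z, ?_, dv_ne_zero U hs0 hzs,
        InZ_dv U hQs hQp M hMO hT hx hQs' h1 h2 hz⟩
      obtain ⟨a, b, hab⟩ := dv_Kmem (B := B) (θ := θ) s z
      rw [hab]
      exact A.add_mem (A.smul_mem _ hsA) (A.smul_mem _ (C.theta_mem U hsA))
  obtain ⟨z₀, hz₀A, hz₀0, Xz₀⟩ := step0
  obtain ⟨f, hfA, hf0, hQf, Xf, Xθf⟩ := line_of_vec9 U hQs hQp M hMO hT C hN h9 hx hz₀A hz₀0 Xz₀
  intro p hp1 hp2
  obtain ⟨c, d, a, haA, rfl⟩ := C.decompP U hQs hQp hx hp1 hp2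
  obtain ⟨s₁, hs₁, s₂, hs₂, hQ1, hQ2, c', rfl⟩ := sing_sum hQs hQp A hA h3 haA
  have X1 := (spread9 U hQs hQp M hMO hT C hN h9 hx hfA hf0 hQf Xf Xθf hs₁ hQ1).1
  have X2 := (spread9 U hQs hQp M hMO hT C hN h9 hx hfA hf0 hQf Xf Xθf hs₂ hQ2).1
  exact InZ_add hQs hQp hx (InZ_add hQs hQp hx (InZ_smul c Xx) (InZ_smul d Xθx))
    (InZ_add hQs hQp hx X1 (InZ_smul c' X2))


include U hQs hQp hMO hT in
lemma semifull_step9 (hN : B.Nondegenerate) (h9 : 9 ≤ finrank F V) {x z : V} (hx0 : x ≠ 0)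
    (hx : Q x = 0) (hz0 : z ≠ 0) (hz : Q z = 0) (hzx : B z x = 0) (hzθx : B z (θ x) = 0)
    (hK : ¬ Kmem θ x z) (hS : SemiFull Q B θ M x) : SemiFull Q B θ M z := by
  have hsymm := B_symm Q B hQp
  have h1 := hS z hzx hzθx
  have h2 : InZ Q B M z x := by
    refine ⟨hzx, fun t => ?_⟩
    rw [sieg_swap hQs hQp hx hz h1.1]
    exact h1.2 (-t)
  have h3 : ¬ Kmem θ z x := fun h => hK (h.symm U hx0)
  exact semifull_of_notK9 U hQs hQp M hMO hT hN h9 hz0 hz h2 h3

include U hQs hQp hMO hT in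
lemma semifull_all9 (hN : B.Nondegenerate) (h9 : 9 ≤ finrank F V) {x y : V} (hx0 : x ≠ 0)
    (hx : Q x = 0) (hy0 : y ≠ 0) (hy : Q y = 0) (hS : SemiFull Q B θ M x) :
    SemiFull Q B θ M y := by
  have hsymm := B_symm Q B hQp
  by_cases hort : B y x = 0 ∧ B y (θ x) = 0
  · by_cases hKxy : Kmem θ x y
    · -- `y` on the line of `x`: go through a third point
      obtain ⟨y₁, hy₁⟩ := exists_not_orth hQp hN hx0
      obtain ⟨w, -, hw0, hQw, hw⟩ := exists_sing_perp Q B hQs hQp
        [x, θ x, y₁, θ y₁] ⊤ (by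
          rw [finrank_top]; simp only [List.length_cons, List.length_nil]; omega)
      have hwx : B w x = 0 := hw x (by simp)
      have hwθx : B w (θ x) = 0 := hw (θ x) (by simp)
      have hwy₁ : B w y₁ = 0 := hw y₁ (by simp)
      have hwθy₁ : B w (θ y₁) = 0 := hw (θ y₁) (by simp)
      have hK1 : ¬ Kmem θ x w := fun h => hw0 (notK_of_perp U hy₁ h hwy₁ hwθy₁)
      have hSw := semifull_step9 U hQs hQp M hMO hT hN h9 hx0 hx hw0 hQw hwx hwθx hK1 hS
      have hK2 : ¬ Kmem θ w y := fun h => hK1 (hKxy.trans U (h.symm U hy0))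
      have hxw : B x w = 0 := by rw [hsymm]; exact hwx
      have hθxw : B (θ x) w = 0 := by rw [hsymm]; exact hwθx
      obtain ⟨a, b, rfl⟩ := hKxy
      have hyw : B (a • x + b • θ x) w = 0 := by
        simp only [map_add, map_smul, LinearMap.add_apply, LinearMap.smul_apply, hxw, hθxw]
        simp
      have hyθw : B (a • x + b • θ x) (θ w) = 0 := by
        rw [U.adj' (a • x + b • θ x) w, hyw]
        simp only [map_add, map_smul, LinearMap.add_apply, LinearMap.smul_apply, U.sq, map_sub,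
          LinearMap.sub_apply, hxw, hθxw]
        simp
      exact semifull_step9 U hQs hQp M hMO hT hN h9 hw0 hQw hy0 hy hyw hyθw hK2 hSw
    · exact semifull_step9 U hQs hQp M hMO hT hN h9 hx0 hx hy0 hy hort.1 hort.2 hKxy hS
  · obtain ⟨w, -, hw0, hQw, hw⟩ := exists_sing_perp Q B hQs hQp
      [x, θ x, y, θ y] ⊤ (by
        rw [finrank_top]; simp only [List.length_cons, List.length_nil]; omega)
    have hwx : B w x = 0 := hw x (by simp)
    have hwθx : B w (θ x) = 0 := hw (θ x) (by simp)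
    have hwy : B w y = 0 := hw y (by simp)
    have hwθy : B w (θ y) = 0 := hw (θ y) (by simp)
    have hK1 : ¬ Kmem θ x w := by
      intro h
      by_cases hxy : B x y = 0
      · have hxθy : B x (θ y) ≠ 0 := by
          intro h0
          apply hort
          refine ⟨by rw [hsymm]; exact hxy, ?_⟩
          rw [hsymm, U.adj, hxy, h0]; ring
        apply hw0
        apply notK_of_perp U hxθy h hwθy
        rw [U.sq, map_sub, map_smul, map_smul, hwθy, hwy]
        simp
      · exact hw0 (notK_of_perp U hxy h hwy hwθy)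
    have hSw := semifull_step9 U hQs hQp M hMO hT hN h9 hx0 hx hw0 hQw hwx hwθx hK1 hS
    have hyw : B y w = 0 := by rw [hsymm]; exact hwy
    have hyθw : B y (θ w) = 0 := by rw [U.adj' y w, hyw, hsymm (θ y) w, hwθy]; ring
    have hK2 : ¬ Kmem θ w y := by
      rintro ⟨a, b, rfl⟩
      apply hort
      have hθwx : B (θ w) x = 0 := by rw [U.adj, hwx, hwθx]; ring
      have hθwθx : B (θ w) (θ x) = 0 := by rw [U.Bθθ, hwx]; ring
      constructor
      · simp only [map_add, map_smul, LinearMap.add_apply, LinearMap.smul_apply, hwx, hθwx]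
        simp
      · simp only [map_add, map_smul, LinearMap.add_apply, LinearMap.smul_apply, hwθx, hθwθx]
        simp
    exact semifull_step9 U hQs hQp M hMO hT hN h9 hw0 hQw hy0 hy hyw hyθw hK2 hSw

include U hQs hQp hMO hT in
/-- If all Siegel parts are semi-full then `M` contains all Siegel elements. -/
lemma all_of_semifull9 (hN : B.Nondegenerate) (h9 : 9 ≤ finrank F V)
    (hS : ∀ x, x ≠ 0 → Q x = 0 → SemiFull Q B θ M x) :
    ∀ v z, Q v = 0 → B v z = 0 → sieg Q B v z ∈ M := by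
  have hsymm := B_symm Q B hQp
  intro v z' hv hvz'
  by_cases hv0 : v = 0
  · subst hv0
    rw [sieg_zero_left Q B hQs hQp]
    exact M.one_mem
  obtain ⟨z, hz, hvz, hvθz⟩ := exists_partner U hQs hQp hN hv0 hv
  have hzv : B z v = 0 := by rw [hsymm]; exact hvz
  have hzθv : B z (θ v) = -1 := by rw [U.adj' z v, hzv, hsymm (θ z) v, hvθz]; ring
  have hz0 : z ≠ 0 := by
    rintro rfl
    rw [map_zero, map_zero] at hvθz
    exact zero_ne_one hvθz
  have hSv := hS v hv0 hv
  have hSz := hS z hz0 hz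
  -- the partner lies in the Siegel part
  have Xz : InZ Q B M v z := by
    obtain ⟨yz, hyz⟩ := exists_not_orth hQp hN hz0
    obtain ⟨p', -, hp'0, -, hp'⟩ := exists_sing_perp Q B hQs hQp [z, θ z, v, yz] ⊤ (by
      rw [finrank_top]; simp only [List.length_cons, List.length_nil]; omega)
    have hp'z : B p' z = 0 := hp' z (by simp)
    have hp'θz : B p' (θ z) = 0 := hp' (θ z) (by simp)
    have hp'v : B p' v = 0 := hp' v (by simp)
    have hp'yz : B p' yz = 0 := hp' yz (by simp)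
    have hnot : p' ∉ Submodule.span F ({v, θ v, z} : Set V) := by
      intro hmem
      rw [Submodule.mem_span_insert] at hmem
      obtain ⟨a, r, hr, rfl⟩ := hmem
      rw [Submodule.mem_span_insert] at hr
      obtain ⟨b, r', hr', rfl⟩ := hr
      rw [Submodule.mem_span_singleton] at hr'
      obtain ⟨c, rfl⟩ := hr'
      have hzz : B z z = 0 := by rw [B_self Q B hQs hQp, hz, mul_zero]
      have e1 : a * 1 = 0 := by
        rw [← hp'θz]
        simp only [map_add, map_smul, LinearMap.add_apply, LinearMap.smul_apply, smul_eq_mul,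
          hvθz, U.Bθθ, hvz, B_theta_self U hz]
        ring
      have e2 : b * (-1) = 0 := by
        rw [← hp'z]
        have hθvz : B (θ v) z = -1 := by rw [hsymm]; exact hzθv
        simp only [map_add, map_smul, LinearMap.add_apply, LinearMap.smul_apply, smul_eq_mul,
          hvz, hθvz, hzz]
        ring
      have ha : a = 0 := by linear_combination e1
      have hb : b = 0 := by linear_combination -e2
      have e3 : c * B z yz = 0 := by
        rw [← hp'yz, ha, hb]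
        simp only [map_add, map_smul, LinearMap.add_apply, LinearMap.smul_apply, smul_eq_mul]
        ring
      have hc : c = 0 := (mul_eq_zero.mp e3).resolve_right hyz
      apply hp'0
      rw [ha, hb, hc]
      simp
    obtain ⟨p, hpS, hpp'⟩ := exists_perp_ne Q B hQp hN _ hnot
    have hpv : B p v = 0 := hpS v (Submodule.subset_span (by simp))
    have hpθv : B p (θ v) = 0 := hpS (θ v) (Submodule.subset_span (by simp))
    have hpz : B p z = 0 := hpS z (Submodule.subset_span (by simp))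
    have hp'p : B p' p ≠ 0 := by rw [hsymm]; exact hpp'
    refine ⟨hvz, fun t => ?_⟩
    obtain ⟨s, hsd⟩ : ∃ s, s = t / B p' p := ⟨_, rfl⟩
    have hE1 : sieg Q B v (s • p) ∈ M := (hSv p hpv hpθv).2 s
    have hE2 : sieg Q B z p' ∈ M := by
      have := (hSz p' hp'z hp'θz).2 1
      rwa [one_smul] at this
    have hvsp : B v (s • p) = 0 := by rw [map_smul, hsymm, hpv, smul_zero]
    have hzp' : B z p' = 0 := by rw [hsymm]; exact hp'z
    have hE1O := sieg_mem_oG Q B hQs hQp hv hvsp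
    have h1 := conj_sieg Q B hQs hQp hE1O hz hzp'
    have e1 : sieg Q B v (s • p) z = z := by
      rw [sieg_apply Q B hQs hQp hv hvsp, hzv, map_smul, hsymm z p, hpz]
      simp
    have e2 : sieg Q B v (s • p) p' = p' + (-t) • v := by
      rw [sieg_apply Q B hQs hQp hv hvsp, hp'v, map_smul, hsd]
      simp only [smul_eq_mul, zero_smul, add_zero, mul_zero, sub_zero]
      rw [div_mul_cancel₀ _ hp'p]
      module
    rw [e1, e2] at h1
    have h2 : sieg Q B z (p' + (-t) • v) * sieg Q B z (-p') ∈ M := by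
      rw [← h1, ← sieg_inv Q B hQs hQp hz hzp']
      exact M.mul_mem (M.mul_mem (M.mul_mem hE1 hE2) (M.inv_mem hE1)) (M.inv_mem hE2)
    rw [sieg_mul Q B hQs hQp hz (by rw [map_add, map_smul, hzp', hzv]; simp)
      (by rw [map_neg, hzp', neg_zero])] at h2
    have e3 : p' + (-t) • v + -p' = (-t) • v := by module
    rw [e3, sieg_swap hQs hQp hv hz hvz, neg_neg] at h2
    exact h2
  -- decompose a general vector
  obtain ⟨c, hc⟩ : ∃ c, c = -(B z' (θ v)) := ⟨_, rfl⟩
  have hz'v : B z' v = 0 := by rw [hsymm]; exact hvz'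
  have h1 : InZ Q B M v (z' - c • z) := by
    apply hSv
    · rw [map_sub, map_smul, LinearMap.sub_apply, LinearMap.smul_apply, hz'v, hzv]; simp
    · rw [map_sub, map_smul, LinearMap.sub_apply, LinearMap.smul_apply, hzθv, hc]
      simp
  have h2 := InZ_add hQs hQp hv h1 (InZ_smul c Xz)
  rw [sub_add_cancel] at h2
  have := h2.2 1
  rwa [one_smul] at this

include U hQs hQp hMO hT in
/-- If all Siegel parts are inside their lines then `M` normalises the field. -/
lemma semilinear_of_small9 (hN : B.Nondegenerate) (h9 : 9 ≤ finrank F V)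
    (hK : ∀ x, x ≠ 0 → Q x = 0 → ∀ z, InZ Q B M x z → Kmem θ x z) {g : V ≃ₗ[F] V}
    (hg : g ∈ M) : ∃ a b : F, ∀ x, g (θ x) = a • g x + b • θ (g x) := by
  have hsymm := B_symm Q B hQp
  have hgO := hMO hg
  -- the conjugate of `θ` preserves all singular lines
  have hL : ∀ y, y ≠ 0 → Q y = 0 → Kmem θ y (g (θ (g⁻¹ y))) := by
    intro y hy0 hy
    have hx : Q (g⁻¹ y) = 0 := by rw [← hgO (g⁻¹ y), apply_inv_apply']; exact hy
    have h1 := InZ_map hQs hQp hg hgO hx (InZ_theta_self U M hT hx)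
    rw [apply_inv_apply'] at h1
    exact hK y hy0 hy _ h1
  -- independence
  have hind : ∀ y y', y ≠ 0 → y' ≠ 0 → ¬ Kmem θ y y' → ∀ α β α' β' : F,
      α • y + β • θ y + (α' • y' + β' • θ y') = 0 → α = 0 ∧ β = 0 ∧ α' = 0 ∧ β' = 0 := by
    intro y y' hy0 hy'0 hK' α β α' β' h
    have hm : α • y + β • θ y = 0 := by
      by_contra hm0
      have k1 : Kmem θ y (α • y + β • θ y) := ⟨α, β, rfl⟩
      have k2 : Kmem θ y' (α • y + β • θ y) := by
        refine ⟨-α', -β', ?_⟩
        have := eq_neg_of_add_eq_zero_left h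
        rw [this]; module
      exact hK' ((k2.trans U (k1.symm U hm0)).symm U hy0)
    have hm' : α' • y' + β' • θ y' = 0 := by rwa [hm, zero_add] at h
    exact ⟨(U.indep hy0 hm).1, (U.indep hy0 hm).2, (U.indep hy'0 hm').1, (U.indep hy'0 hm').2⟩
  -- the coefficients agree for orthogonal independent singular vectors
  have hstep : ∀ y y', y ≠ 0 → y' ≠ 0 → Q y = 0 → Q y' = 0 → B y y' = 0 → ¬ Kmem θ y y' →
      ∀ a b a' b' : F, g (θ (g⁻¹ y)) = a • y + b • θ y → g (θ (g⁻¹ y')) = a' • y' + b' • θ y' →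
      a = a' ∧ b = b' := by
    intro y y' hy0 hy'0 hy hy' hyy' hK' a b a' b' e e'
    have hs : Q (y + y') = 0 := by rw [hQp, hy, hy', hyy']; ring
    have hs0 : y + y' ≠ 0 := by
      intro h0
      apply hK'
      refine ⟨-1, 0, ?_⟩
      have := eq_neg_of_add_eq_zero_right h0
      rw [this]; module
    obtain ⟨a'', b'', e''⟩ := hL (y + y') hs0 hs
    have e3 : g (θ (g⁻¹ (y + y'))) = g (θ (g⁻¹ y)) + g (θ (g⁻¹ y')) := by
      simp only [map_add]
    rw [e3, e, e'] at e''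
    have h0 : (a - a'') • y + (b - b'') • θ y + ((a' - a'') • y' + (b' - b'') • θ y') = 0 := by
      have : (a - a'') • y + (b - b'') • θ y + ((a' - a'') • y' + (b' - b'') • θ y') =
          (a • y + b • θ y + (a' • y' + b' • θ y')) - (a'' • (y + y') + b'' • θ (y + y')) := by
        rw [map_add]; module
      rw [this, e'', sub_self]
    obtain ⟨h1, h2, h3, h4⟩ := hind y y' hy0 hy'0 hK' _ _ _ _ h0
    exact ⟨by linear_combination h1 - h3, by linear_combination h2 - h4⟩
  -- a base singular vector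
  obtain ⟨y₀, -, hy₀0, hQy₀⟩ := exists_singular_in Q B hQs hQp (⊤ : Submodule F V) (by
    rw [finrank_top]; omega)
  obtain ⟨a, b, e₀⟩ := hL y₀ hy₀0 hQy₀
  have hall : ∀ y, Q y = 0 → g (θ (g⁻¹ y)) = a • y + b • θ y := by
    intro y hy
    by_cases hy0 : y = 0
    · subst hy0; simp
    obtain ⟨a', b', e'⟩ := hL y hy0 hy
    obtain ⟨y₁, hy₁⟩ := exists_not_orth hQp hN hy₀0
    obtain ⟨y₂, hy₂⟩ := exists_not_orth hQp hN hy0
    obtain ⟨w, -, hw0, hQw, hw⟩ := exists_sing_perp Q B hQs hQp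
      [y₀, y, y₁, θ y₁, y₂, θ y₂] ⊤ (by
        rw [finrank_top]; simp only [List.length_cons, List.length_nil]; omega)
    have hwy₀ : B w y₀ = 0 := hw y₀ (by simp)
    have hwy : B w y = 0 := hw y (by simp)
    have hwy₁ : B w y₁ = 0 := hw y₁ (by simp)
    have hwθy₁ : B w (θ y₁) = 0 := hw (θ y₁) (by simp)
    have hwy₂ : B w y₂ = 0 := hw y₂ (by simp)
    have hwθy₂ : B w (θ y₂) = 0 := hw (θ y₂) (by simp)
    have hK1 : ¬ Kmem θ y₀ w := fun h => hw0 (notK_of_perp U hy₁ h hwy₁ hwθy₁)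
    have hK2 : ¬ Kmem θ y w := fun h => hw0 (notK_of_perp U hy₂ h hwy₂ hwθy₂)
    obtain ⟨aw, bw, ew⟩ := hL w hw0 hQw
    obtain ⟨h1, h2⟩ := hstep y₀ w hy₀0 hw0 hQy₀ hQw (by rw [hsymm]; exact hwy₀) hK1 _ _ _ _ e₀ ew
    obtain ⟨h3, h4⟩ := hstep y w hy0 hw0 hy hQw (by rw [hsymm]; exact hwy) hK2 _ _ _ _ e' ew
    rw [e', h3, h4, ← h1, ← h2]
  refine ⟨a, b, fun x => ?_⟩
  have hnd : ∀ a ∈ (⊤ : Submodule F V), a ≠ 0 → ∃ a' ∈ (⊤ : Submodule F V), B a' a ≠ 0 := by
    intro a _ ha0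
    obtain ⟨y, hy⟩ := exists_not_orth hQp hN ha0
    exact ⟨y, Submodule.mem_top, by rw [hsymm]; exact hy⟩
  obtain ⟨s₁, -, s₂, -, hQ1, hQ2, c, hc⟩ := sing_sum hQs hQp (⊤ : Submodule F V) hnd (by
    rw [finrank_top]; omega) (Submodule.mem_top (x := g x))
  have h1 := hall s₁ hQ1
  have h2 := hall s₂ hQ2
  have h3 : g (θ (g⁻¹ (g x))) = a • g x + b • θ (g x) := by
    rw [hc]
    simp only [map_add, map_smul, h1, h2]
    module
  rwa [inv_apply_apply'] at h3

end Main

section Final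

variable [Finite F] [FiniteDimensional F V] {Q : V → F} {B : LinearMap.BilinForm F V}
  {θ : V →ₗ[F] V} {τ ν : F}
  (hQs : ∀ (c : F) (v : V), Q (c • v) = c * c * Q v)
  (hQp : ∀ u v : V, Q (u + v) = Q u + Q v + B u v)

include hQs hQp in
theorem maximal_ufield9 (hN : B.Nondegenerate) (G : Subgroup (V ≃ₗ[F] V)) (hG1 : G ≤ oG Q)
    (hG2 : ∀ u z, Q u = 0 → B u z = 0 → sieg Q B u z ∈ G)
    (hG3 : ∀ M : Subgroup (V ≃ₗ[F] V),
      (∀ u z, Q u = 0 → B u z = 0 → sieg Q B u z ∈ M) → G ≤ M)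
    (h9 : 9 ≤ finrank F V) (U : UStr Q B θ τ ν) (S : Subgroup (V ≃ₗ[F] V))
    (hS : ∀ g, g ∈ S ↔ ∃ a b : F, ∀ x, g (θ x) = a • g x + b • θ (g x)) :
    (S ⊓ G < G) ∧
      ∀ M : Subgroup (V ≃ₗ[F] V), S ⊓ G ≤ M → M ≤ G → M = S ⊓ G ∨ M = G := by
  have hsymm := B_symm Q B hQp
  constructor
  · refine lt_of_le_of_ne inf_le_right ?_
    intro heq
    obtain ⟨v, -, hv0, hQv⟩ := exists_singular_in Q B hQs hQp (⊤ : Submodule F V) (by
      rw [finrank_top]; omega)
    obtain ⟨y₁, hy₁⟩ := exists_not_orth hQp hN hv0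
    obtain ⟨z, -, hz0, hQz, hz⟩ := exists_sing_perp Q B hQs hQp [v, θ v, y₁, θ y₁] ⊤ (by
      rw [finrank_top]; simp only [List.length_cons, List.length_nil]; omega)
    have hzv : B z v = 0 := hz v (by simp)
    have hzθv : B z (θ v) = 0 := hz (θ v) (by simp)
    have hzy₁ : B z y₁ = 0 := hz y₁ (by simp)
    have hzθy₁ : B z (θ y₁) = 0 := hz (θ y₁) (by simp)
    have hvz : B v z = 0 := by rw [hsymm]; exact hzv
    have hvv : B v v = 0 := by rw [B_self Q B hQs hQp, hQv, mul_zero]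
    have hE : sieg Q B v z ∈ S ⊓ G := by
      rw [heq]; exact hG2 v z hQv hvz
    obtain ⟨a, b, hab⟩ := (hS _).mp hE.1
    have h1 := hab v
    have eθv : sieg Q B v z (θ v) = θ v := by
      rw [sieg_apply Q B hQs hQp hQv hvz, hsymm (θ v) v, B_theta_self U hQv, hsymm (θ v) z, hzθv]
      simp
    have ev : sieg Q B v z v = v := by
      rw [sieg_apply Q B hQs hQp hQv hvz, hvv, hvz]
      simp
    rw [eθv, ev] at h1
    have h2 : a • v + (b - 1) • θ v = 0 := by
      have : a • v + (b - 1) • θ v = (a • v + b • θ v) - θ v := by module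
      rw [this, ← h1, sub_self]
    obtain ⟨ha, hb⟩ := U.indep hv0 h2
    have hb' : b = 1 := by linear_combination hb
    have h3 := hab y₁
    rw [ha, hb', zero_smul, zero_add, one_smul, sieg_apply Q B hQs hQp hQv hvz,
      sieg_apply Q B hQs hQp hQv hvz, hQz, hsymm (θ y₁) z, hzθy₁, hsymm y₁ z, hzy₁] at h3
    have h4 : B (θ y₁) v • z + (-(B y₁ v)) • θ z = 0 := by
      have e1 : θ y₁ + B (θ y₁) v • z - (0 : F) • v - (0 * B (θ y₁) v) • v =
          θ y₁ + B (θ y₁) v • z := by module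
      have e2 : θ (y₁ + B y₁ v • z - (0 : F) • v - (0 * B y₁ v) • v) =
          θ y₁ + B y₁ v • θ z := by
        simp only [map_add, map_sub, map_smul]
        module
      rw [e1, e2] at h3
      have : B (θ y₁) v • z + (-(B y₁ v)) • θ z =
          (θ y₁ + B (θ y₁) v • z) - (θ y₁ + B y₁ v • θ z) := by module
      rw [this, h3, sub_self]
    have h5 := (U.indep hz0 h4).2
    apply hy₁
    rw [hsymm]
    exact neg_eq_zero.mp h5
  · intro M hHM hMG
    have hMO : M ≤ oG Q := hMG.trans hG1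
    have hT : ∀ (u : V) (t : F), Q u = 0 → sieg Q B u (t • θ u) ∈ M := by
      intro u t hu
      apply hHM
      refine ⟨(hS _).mpr ⟨0, 1, fun x => ?_⟩,
        hG2 u _ hu (by rw [map_smul, B_theta_self U hu, smul_zero])⟩
      rw [T_comm U hQs hQp hu]
      module
    by_cases hK : ∀ x, x ≠ 0 → Q x = 0 → ∀ z, InZ Q B M x z → Kmem θ x z
    · left
      apply le_antisymm _ hHM
      intro m hm
      exact ⟨(hS m).mpr (semilinear_of_small9 U hQs hQp M hMO hT hN h9 hK hm), hMG hm⟩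
    · right
      push Not at hK
      obtain ⟨x, hx0, hx, z, hz, hzK⟩ := hK
      apply le_antisymm hMG
      apply hG3
      have h1 : SemiFull Q B θ M x := semifull_of_notK9 U hQs hQp M hMO hT hN h9 hx0 hx hz hzK
      apply all_of_semifull9 U hQs hQp M hMO hT hN h9
      intro y hy0 hy
      exact semifull_all9 U hQs hQp M hMO hT hN h9 hx0 hx hy0 hy h1

end Final

end Cfsg.Agent.Lib.Helper59_OrthUni9
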