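import Mathlib
import Cfsg.Prelude.Def_GeometricClasses
import Cfsg.Agent.Lib.Helper38_OD2Bridge
import Cfsg.Agent.Lib.Helper94_Q2Main
import Cfsg.Agent.Lib.Helper94_OrthUniBridge
import Cfsg.Agent.Lib.Helper59_OrthUni9
import Cfsg.Agent.Lib.Helper59_OrthNondeg9
import Cfsg.Agent.Lib.Helper59_OF10
import Cfsg.Agent.Lib.Helper32_OFBridge
import Cfsg.Agent.Lib.Helper32_OFTransfer
import Cfsg.Agent.Lib.Helper98_OFAMain

/-!
# Geometric rows for `Ω_n^±(q)` in small even dimension (helper59)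

Bridges from the abstract theorems (helper38 `OD2`, helper94 `Q2`, `OrthNondeg`, `OrthUni`) to the
`Cfsg.Geo` vocabulary with the dimension bounds the abstract theorems really need (`7 ≤ n` for the
generation hypotheses), for the rows `cmax5_omega10±`, `cmax5_omega12±`.
-/

set_option autoImplicit false
set_option linter.unusedSectionVars false

namespace Cfsg.Agent.Lib.Helper59_OmegaEvenRows

open Matrix Module Cfsg.Agent.Lib.Helper94_Symp Cfsg.Agent.Lib.Helper94_Bridge
  Cfsg.Agent.Lib.Helper94_SLBridge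
  Cfsg.Agent.Lib.Helper94_OrthSmall Cfsg.Agent.Lib.Helper94_OrthBridge
  Cfsg.Agent.Lib.Helper94_OrthSiegel Cfsg.Agent.Lib.Helper94_OrthSiegel2
  Cfsg.Agent.Lib.Helper94_OrthGenBridge Cfsg.Agent.Lib.Helper94_OrthFinal
  Cfsg.Agent.Lib.Helper29_ODDefs Cfsg.Agent.Lib.Helper38_CBDefs
  Cfsg.Agent.Lib.Helper38_OD2Bridge

variable {ι : Type} [Fintype ι] [DecidableEq ι] {F : Type*} [Field F] [Fintype F]

/-- The characteristic-two generation hypothesis, dimension at least five. -/
theorem hc2_geo (Q : (ι → F) → F) (hQ : Cfsg.Geo.IsNondegenerateQuadraticForm Q)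
    (hn : 5 ≤ Fintype.card ι) : (2 : F) = 0 →
      commutator ↥(Cfsg.isometryGroup F (⇑(qfOf Q hQ))) ≤
        Cfsg.Agent.Lib.Helper14_Siegel.siegelGroup (qfOf Q hQ) :=
  fun h2 => Cfsg.Agent.Lib.Helper14_SiegelOmega2.commutator_le_siegelGroup_two h2 _
    (polarBilin_qfOf_nondeg Q hQ) hn

/-- Siegel elements lie in `Ω`, dimension at least seven. -/
theorem hG2_geo (Q : (ι → F) → F) (hQ : Cfsg.Geo.IsNondegenerateQuadraticForm Q)
    (hn : 7 ≤ Fintype.card ι) (u z : ι → F) (hu : Q u = 0) (huz : polarForm Q hQ u z = 0) :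
    sieg Q (polarForm Q hQ) u z ∈ ⁅oG Q, oG Q⁆ := by
  have hfr : finrank F (ι → F) = Fintype.card ι := Module.finrank_pi F
  exact sieg_mem_commutator' Q _ (gen_hQs Q hQ) (gen_hQp Q hQ) (gen_hN Q hQ)
    (by rw [hfr]; exact hn) hu huz

/-- `Ω` is generated by the Siegel elements, dimension at least five. -/
theorem hG3_geo (Q : (ι → F) → F) (hQ : Cfsg.Geo.IsNondegenerateQuadraticForm Q)
    (hn : 5 ≤ Fintype.card ι) (M : Subgroup ((ι → F) ≃ₗ[F] (ι → F)))
    (hM : ∀ u z, Q u = 0 → polarForm Q hQ u z = 0 → sieg Q (polarForm Q hQ) u z ∈ M) :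
    ⁅oG Q, oG Q⁆ ≤ M :=
  gen_hG3 Q hQ (hc2_geo Q hQ hn) hn M hM

/-- Stabilisers of orthogonal decompositions into blocks of dimension at least four, dimension at
least seven (`Helper38_OD2Bridge.dstab_maximal_ge4` with the bound the proof needs). -/
theorem dstab_maximal_ge4' (Q : (ι → F) → F) (hQ : Cfsg.Geo.IsNondegenerateQuadraticForm Q)
    (hn : 7 ≤ Fintype.card ι) {t : ℕ} (k : ℕ) (D : Fin t → Submodule F (ι → F))
    (hD : Cfsg.Geo.IsOrthogonalMDecomposition Q k D) (hk : 4 ≤ k)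
    (hq : 2 < Fintype.card F ∨ 5 ≤ k ∨ ∀ i, ¬ Cfsg.Geo.IsPlusTypeOn Q (D i)) :
    Cfsg.Geo.IsMaximalIn (Cfsg.Geo.omegaGL Q)
      (Cfsg.Geo.decompositionStabilizer D ⊓ Cfsg.Geo.omegaGL Q) := by
  classical
  apply dstab_bridge
  have hq' : 2 < Nat.card F ∨ 5 ≤ k ∨ ∀ i, NoTSLine Q (polarForm Q hQ) (D i) := by
    rw [Nat.card_eq_fintype_card]
    rcases hq with h | h | h
    · exact Or.inl h
    · exact Or.inr (Or.inl h)
    · by_cases hk5 : 5 ≤ k
      · exact Or.inr (Or.inl hk5)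
      · refine Or.inr (Or.inr fun i => ?_)
        apply noTSLine_of_not_plus Q hQ (D i) _ (h i)
        rw [hD.decomp.decomp.finrank_eq i]
        omega
  exact Cfsg.Agent.Lib.Helper38_OD2_Main.maximal_dstab_orth2 (gen_hQs Q hQ) (gen_hQp Q hQ)
    (gen_hN Q hQ) (hG2_geo Q hQ hn) (hG3_geo Q hQ (by omega)) k D (odec_of_geo Q hQ hD)
    hD.decomp.decomp.two_le hk hq' (stabL D) (isDStab_stabL D)

/-- Stabilisers of orthogonal decompositions into at least five anisotropic planes, `q ≠ 3`. -/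
theorem dstab_maximal_planes' (Q : (ι → F) → F) (hQ : Cfsg.Geo.IsNondegenerateQuadraticForm Q)
    (hn : 7 ≤ Fintype.card ι) {t : ℕ} (D : Fin t → Submodule F (ι → F))
    (hD : Cfsg.Geo.IsOrthogonalMDecomposition Q 2 D)
    (hani : ∀ i, ∀ x ∈ D i, Q x = 0 → x = 0) (ht : 5 ≤ t) (hq : Fintype.card F ≠ 3) :
    Cfsg.Geo.IsMaximalIn (Cfsg.Geo.omegaGL Q)
      (Cfsg.Geo.decompositionStabilizer D ⊓ Cfsg.Geo.omegaGL Q) := by
  classical
  apply dstab_bridge
  exact Cfsg.Agent.Lib.Helper94_Q2Main.maximal_dstab_planes (gen_hQs Q hQ) (gen_hQp Q hQ)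
    (hG2_geo Q hQ hn) (hG3_geo Q hQ (by omega)) D (odec_of_geo Q hQ hD) hani ht
    (by rw [Nat.card_eq_fintype_card]; exact hq) (stabL D) (isDStab_stabL D)

/-- In a space of minus type the blocks of an orthogonal decomposition into isometric blocks are
anisotropic as soon as their number is half the dimension (i.e. the blocks are planes). -/
theorem aniso_of_minus (Q : (ι → F) → F) (hQ : Cfsg.Geo.IsNondegenerateQuadraticForm Q)
    (hminus : ¬ Cfsg.Geo.IsPlusTypeOn Q ⊤) {t : ℕ} (D : Fin t → Submodule F (ι → F))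
    (hD : Cfsg.Geo.IsOrthogonalMDecomposition Q 2 D) :
    ∀ i, ∀ x ∈ D i, Q x = 0 → x = 0 := by
  classical
  intro i₀ x₀ hx₀ hQx₀
  by_contra hne
  apply hminus
  have hQs := gen_hQs Q hQ
  have hQp := gen_hQp Q hQ
  have hsymm := B_symm Q (polarForm Q hQ) hQp
  -- a nonzero singular vector in every block
  have hex : ∀ j, ∃ y ∈ D j, y ≠ 0 ∧ Q y = 0 := by
    intro j
    obtain ⟨e, he⟩ := hD.isometric i₀ j
    refine ⟨(e ⟨x₀, hx₀⟩ : ι → F), (e ⟨x₀, hx₀⟩).2, ?_, by rw [he]; exact hQx₀⟩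
    intro h0
    have h1 : e ⟨x₀, hx₀⟩ = 0 := Subtype.ext h0
    have h2 : (⟨x₀, hx₀⟩ : D i₀) = 0 := by
      rw [← e.symm_apply_apply ⟨x₀, hx₀⟩, h1, map_zero]
    exact hne (congrArg Subtype.val h2)
  choose y hyD hy0 hQy using hex
  have hli : LinearIndependent F y :=
    hD.decomp.decomp.indep.linearIndependent D hyD hy0
  have hBy : ∀ j j', polarForm Q hQ (y j) (y j') = 0 := by
    intro j j'
    by_cases hjj : j = j'
    · subst hjj
      rw [B_self Q (polarForm Q hQ) hQs hQp, hQy, mul_zero]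
    · rw [polarForm_apply]
      exact hD.decomp.orthogonal j j' hjj (y j) (hyD j) (y j') (hyD j')
  have hB1 : ∀ w ∈ Submodule.span F (Set.range y), ∀ j, polarForm Q hQ w (y j) = 0 := by
    intro w hw j
    induction hw using Submodule.span_induction with
    | mem x hx =>
      obtain ⟨j', rfl⟩ := hx
      exact hBy j' j
    | zero => simp
    | add a b _ _ ha hb => rw [map_add, LinearMap.add_apply, ha, hb, add_zero]
    | smul c a _ ha => rw [map_smul, LinearMap.smul_apply, ha, smul_zero]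
  have hB2 : ∀ w ∈ Submodule.span F (Set.range y), ∀ v ∈ Submodule.span F (Set.range y),
      polarForm Q hQ w v = 0 := by
    intro w hw v hv
    induction hv using Submodule.span_induction with
    | mem x hx =>
      obtain ⟨j', rfl⟩ := hx
      exact hB1 w hw j'
    | zero => simp
    | add a b _ _ ha hb => rw [map_add, ha, hb, add_zero]
    | smul c a _ ha => rw [map_smul, ha, smul_zero]
  have hts : ∀ w ∈ Submodule.span F (Set.range y), Q w = 0 := by
    intro w hw
    induction hw using Submodule.span_induction with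
    | mem x hx =>
      obtain ⟨j', rfl⟩ := hx
      exact hQy j'
    | zero =>
      have := hQs 0 0
      rwa [zero_smul, zero_mul, zero_mul] at this
    | add a b ha' hb' ha hb => rw [hQp, ha, hb, hB2 a ha' b hb']; ring
    | smul c a _ ha => rw [hQs, ha, mul_zero]
  have htk : t * 2 = Fintype.card ι :=
    Cfsg.Agent.Lib.Helper29_OmegaMaxMain.decomp_card hD.decomp.decomp
  refine ⟨Submodule.span F (Set.range y), le_top, hts, ?_⟩
  rw [finrank_span_eq_card hli, Fintype.card_fin, finrank_top, Module.finrank_pi]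
  omega


/-- Two non-isometric orthogonal halves of dimension at least five (`S5699` with the bounds the
proof needs). -/
theorem noniso_halves_maximal (Q : (ι → F) → F) (hQ : Cfsg.Geo.IsNondegenerateQuadraticForm Q)
    (hn : 7 ≤ Fintype.card ι) (k : ℕ) (hk : 5 ≤ k) (D : Fin 2 → Submodule F (ι → F))
    (hD : Cfsg.Geo.IsNondegenerateMDecomposition (QuadraticMap.polar Q) k D)
    (hni : ¬ Cfsg.Geo.AreIsometricFor Q (D 0) (D 1)) :
    Cfsg.Geo.IsMaximalIn (Cfsg.Geo.omegaGL Q)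
      (Cfsg.Geo.decompositionStabilizer D ⊓ Cfsg.Geo.omegaGL Q) := by
  classical
  have hc2 := hc2_geo Q hQ (by omega : 5 ≤ Fintype.card ι)
  have hfrV : finrank F (ι → F) = Fintype.card ι := Module.finrank_pi F
  have hfr : ∀ i, finrank F (D i) = k := hD.decomp.finrank_eq
  let S : Subgroup ((ι → F) ≃ₗ[F] (ι → F)) :=
    (Cfsg.Geo.decompositionStabilizer D).comap (glEquiv ι F).symm.toMonoidHom
  have hSeq : Cfsg.Geo.decompositionStabilizer D = S.comap (glEquiv ι F).toMonoidHom :=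
    (comap_symm_comap (glEquiv ι F) _).symm
  have hSchar : ∀ g, g ∈ S ↔ ∃ π : Equiv.Perm (Fin 2),
      ∀ i, (D i).map (g : (ι → F) →ₗ[F] (ι → F)) = D (π i) := by
    intro g
    have key : Matrix.toLin' (((glEquiv ι F).symm g :
        Matrix.GeneralLinearGroup ι F) : Matrix ι ι F) =
        (g : (ι → F) →ₗ[F] (ι → F)) := by
      refine LinearMap.ext fun x => ?_
      rw [Matrix.toLin'_apply, ← glEquiv_apply, MulEquiv.apply_symm_apply]
      rfl
    constructor
    · rintro ⟨π, hπ⟩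
      refine ⟨π, fun i => ?_⟩
      have := hπ i
      simp only [MulEquiv.toMonoidHom_eq_coe, MonoidHom.coe_coe] at this
      rw [key] at this
      exact this
    · rintro ⟨π, hπ⟩
      refine ⟨π, fun i => ?_⟩
      simp only [MulEquiv.toMonoidHom_eq_coe, MonoidHom.coe_coe]
      rw [key]
      exact hπ i
  have hsymm := B_symm Q (polarForm Q hQ) (gen_hQp Q hQ)
  have hAA' : ∀ a ∈ D 0, ∀ a' ∈ D 1, polarForm Q hQ a a' = 0 := by
    intro a ha a' ha'
    rw [polarForm_apply]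
    exact hD.orthogonal 0 1 (by decide) a ha a' ha'
  have hsup : D 0 ⊔ D 1 = ⊤ := by
    rw [eq_top_iff, ← hD.decomp.iSup_eq_top]
    apply iSup_le
    intro i
    fin_cases i
    · exact le_sup_left
    · exact le_sup_right
  have hdec : ∀ x : ι → F, ∃ a ∈ D 0, ∃ a' ∈ D 1, a + a' = x := fun x =>
    Submodule.mem_sup.mp (hsup ▸ Submodule.mem_top)
  have hmapeq : ∀ (g : (ι → F) ≃ₗ[F] (ι → F)) (W W' : Submodule F (ι → F)),
      finrank F W = finrank F W' →
      (∀ v ∈ W, g v ∈ W') → W.map (g : (ι → F) →ₗ[F] (ι → F)) = W' := by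
    intro g W W' hf h
    apply Submodule.eq_of_le_of_finrank_eq
    · rintro _ ⟨v, hv, rfl⟩
      exact h v hv
    · rw [LinearEquiv.finrank_map_eq g W]
      exact hf
  have hni' : ∀ g ∈ oG Q, ¬ ∀ y ∈ D 1, g y ∈ D 0 := by
    intro g hg hcon
    apply hni
    have hmap := hmapeq g (D 1) (D 0) (by rw [hfr, hfr]) hcon
    let e' : D 1 ≃ₗ[F] D 0 := (g.submoduleMap (D 1)).trans (LinearEquiv.ofEq _ _ hmap)
    refine ⟨e'.symm, fun w => ?_⟩
    have h1 : e' (e'.symm w) = w := e'.apply_symm_apply w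
    have h2 : ((e' (e'.symm w) : D 0) : ι → F) = g ((e'.symm w : D 1) : ι → F) := rfl
    rw [← hg ((e'.symm w : D 1) : ι → F), ← h2, h1]
  rw [hSeq, omegaGL_eq, ← Subgroup.comap_inf]
  apply isMaximalIn_comap
  have key := Cfsg.Agent.Lib.Helper94_OrthNondeg.maximal_stab_nondeg (gen_hQs Q hQ) (gen_hQp Q hQ) (gen_hN Q hQ) ⁅oG Q, oG Q⁆
    (Subgroup.commutator_le_self _)
    (fun u z hu huz => sieg_mem_commutator' Q _ (gen_hQs Q hQ) (gen_hQp Q hQ) (gen_hN Q hQ)
      (by rw [hfrV]; omega) hu huz)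
    (gen_hG3 Q hQ hc2 (by omega)) (D 0) (D 1) hAA' hsup
    (by rw [hfr]; omega) (by rw [hfr]; omega) hni'
  have hSG : S ⊓ ⁅oG Q, oG Q⁆ = stab (D 1) ⊓ ⁅oG Q, oG Q⁆ := by
    ext g
    constructor
    · rintro ⟨hgS, hgG⟩
      refine ⟨?_, hgG⟩
      obtain ⟨π, hπ⟩ := (hSchar g).mp hgS
      have h01 : ∀ j : Fin 2, j = 0 ∨ j = 1 := by decide
      rcases h01 (π 1) with h | h
      · exfalso
        apply hni' g (Subgroup.commutator_le_self _ hgG)
        intro y hy
        have := hπ 1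
        rw [h] at this
        rw [← this]
        exact ⟨y, hy, rfl⟩
      · apply mem_stab_of_forall_mem
        intro y hy
        have := hπ 1
        rw [h] at this
        rw [← this]
        exact ⟨y, hy, rfl⟩
    · rintro ⟨hgs, hgG⟩
      refine ⟨?_, hgG⟩
      have hgO : g ∈ oG Q := Subgroup.commutator_le_self _ hgG
      apply (hSchar g).mpr
      refine ⟨1, ?_⟩
      have h1 : ∀ y ∈ D 1, g y ∈ D 1 := fun y hy => (mem_stab.mp hgs y).mp hy
      have h1' : ∀ y ∈ D 1, g⁻¹ y ∈ D 1 := fun y hy => by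
        apply (mem_stab.mp hgs _).mpr
        rw [apply_inv_apply']
        exact hy
      have h0 : ∀ a ∈ D 0, g a ∈ D 0 := by
        intro a ha
        obtain ⟨x0, hx0, x1, hx1, hx⟩ := hdec (g a)
        have horth : ∀ y ∈ D 1, polarForm Q hQ (g a) y = 0 := by
          intro y hy
          have := oG_B Q (polarForm Q hQ) (gen_hQp Q hQ) hgO a (g⁻¹ y)
          rw [apply_inv_apply'] at this
          rw [this]
          exact hAA' a ha _ (h1' y hy)
        have hx10 : x1 = 0 := by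
          by_contra hne
          obtain ⟨y, hy, hyx⟩ := (hD.nondegenerate 1 x1 hx1 hne).1
          apply hyx
          have h3 := horth y hy
          rw [← hx, map_add, LinearMap.add_apply, hAA' x0 hx0 y hy, zero_add, hsymm,
            polarForm_apply] at h3
          exact h3
        rw [← hx, hx10, add_zero]
        exact hx0
      intro i
      fin_cases i
      · exact hmapeq g _ _ rfl h0
      · exact hmapeq g _ _ rfl h1
  rw [hSG]
  exact key


/-- **Normalisers of a quadratic extension field acting by similarities** (type `GU_{n/2}(q).2`) in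
`Ω(Q)`, dimension at least nine. -/
theorem ufield_maximal9 (Q : (ι → F) → F) (hQ : Cfsg.Geo.IsNondegenerateQuadraticForm Q)
    (K : Subalgebra F (Matrix ι ι F)) (hK : Cfsg.Geo.IsFieldSubalgebra 2 K)
    (hn : 9 ≤ Fintype.card ι)
    (hac : Cfsg.Geo.IsAdjointClosedFor (QuadraticMap.polar Q) K)
    (hnsa : ¬ Cfsg.Geo.IsSelfAdjointFor (QuadraticMap.polar Q) K)
    (hsc : ∀ k ∈ K, ∃ c : F, ∀ v : ι → F, Q (k *ᵥ v) = c * Q v) :
    Cfsg.Geo.IsMaximalIn (Cfsg.Geo.omegaGL Q)
      (Cfsg.Geo.subalgebraNormalizer K ⊓ Cfsg.Geo.omegaGL Q) := by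
  classical
  have hne : Nonempty ι := by
    rw [← Fintype.card_pos_iff]; omega
  have hfr : finrank F (ι → F) = Fintype.card ι := Module.finrank_pi F
  obtain ⟨T, τ, ν, hTK, hTns, hgen, U⟩ :=
    Cfsg.Agent.Lib.Helper94_OrthUniBridge.exists_ustr Q hQ K hK hac hnsa hsc
  let S : Subgroup ((ι → F) ≃ₗ[F] (ι → F)) :=
    (Cfsg.Geo.subalgebraNormalizer K).comap (glEquiv ι F).symm.toMonoidHom
  have hSeq : Cfsg.Geo.subalgebraNormalizer K = S.comap (glEquiv ι F).toMonoidHom :=
    (comap_symm_comap (glEquiv ι F) _).symm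
  have hS : ∀ g, g ∈ S ↔ ∃ a b : F, ∀ x, g (Matrix.toLin' T x) =
      a • g x + b • Matrix.toLin' T (g x) := by
    intro g
    have key : ∀ y, g y = (((glEquiv ι F).symm g : GL ι F) : Matrix ι ι F) *ᵥ y := by
      intro y
      rw [← glEquiv_apply, MulEquiv.apply_symm_apply]
    have h1 : g ∈ S ↔ (glEquiv ι F).symm g ∈ Cfsg.Geo.subalgebraNormalizer K := Iff.rfl
    rw [h1, Cfsg.Agent.Lib.Helper94_OrthUniBridge.mem_normalizer_iff K hK hTK hTns hgen]
    constructor
    · rintro ⟨a, b, hab⟩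
      refine ⟨a, b, fun x => ?_⟩
      rw [key, key, Matrix.toLin'_apply, Matrix.toLin'_apply, Matrix.mulVec_mulVec, hab,
        ← Matrix.mulVec_mulVec, Matrix.add_mulVec, Matrix.smul_mulVec, Matrix.smul_mulVec,
        Matrix.one_mulVec]
    · rintro ⟨a, b, hab⟩
      refine ⟨a, b, ?_⟩
      apply Matrix.toLin'.injective
      refine LinearMap.ext fun x => ?_
      have := hab x
      rw [key, key, Matrix.toLin'_apply, Matrix.toLin'_apply] at this
      rw [Matrix.toLin'_apply, Matrix.toLin'_apply, ← Matrix.mulVec_mulVec, this,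
        ← Matrix.mulVec_mulVec, Matrix.add_mulVec, Matrix.smul_mulVec, Matrix.smul_mulVec,
        Matrix.one_mulVec]
  rw [hSeq, omegaGL_eq, ← Subgroup.comap_inf]
  apply isMaximalIn_comap
  exact Cfsg.Agent.Lib.Helper59_OrthUni9.maximal_ufield9 (gen_hQs Q hQ) (gen_hQp Q hQ)
    (gen_hN Q hQ) _ (Subgroup.commutator_le_self _) (hG2_geo Q hQ (by omega))
    (hG3_geo Q hQ (by omega)) (by rw [hfr]; exact hn) U S hS


/-- **Orthogonal frames** `O_1(p) wr S_n ∩ Ω` are maximal in `Ω_n(p)` for every `n ≥ 10` (odd or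
even), `p` an odd prime: helper32's reduction, Theorem C for `n ≥ 10` and helper98's `T(n - 1)`. -/
theorem frames_maximal10 (Q : (ι → F) → F) (hQ : Cfsg.Geo.IsNondegenerateQuadraticForm Q)
    (h2 : (2 : F) ≠ 0) (hn : 10 ≤ Fintype.card ι) (hp : (Fintype.card F).Prime) {t : ℕ}
    (D : Fin t → Submodule F (ι → F)) (hD : Cfsg.Geo.IsOrthogonalMDecomposition Q 1 D) :
    Cfsg.Geo.IsMaximalIn (Cfsg.Geo.omegaGL Q)
      (Cfsg.Geo.decompositionStabilizer D ⊓ Cfsg.Geo.omegaGL Q) := by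
  have hpN : (Nat.card F).Prime := by rw [Nat.card_eq_fintype_card]; exact hp
  obtain ⟨m, hm⟩ : ∃ m, Fintype.card ι = m + 1 := ⟨Fintype.card ι - 1, by omega⟩
  exact Cfsg.Agent.Lib.Helper32_OFBridge.frame_maximal' Q hQ h2 (by omega)
    (fun c e M hC => Cfsg.Agent.Lib.Helper59_OF10.thmC10 hC
      (by rw [Fintype.card_fin]; exact hn))
    (fun c e hfr => Cfsg.Agent.Lib.Helper32_OFTransfer.propT_of_abs hfr
      (Cfsg.Agent.Lib.Helper98_OFAMain.propTabs hpN (by omega : 7 ≤ m))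
      (by rw [Fintype.card_fin, hm])) D hD

end Cfsg.Agent.Lib.Helper59_OmegaEvenRows
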