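import Mathlib
import Cfsg.Agent.Lib.Helper32_P3Defs
import Cfsg.Agent.Lib.Helper32_OFRoot

/-!
# P3-UNIP (market P3 of helper32, rows S5679 + S5696 + S5858): an isometry of order `p` supported
on a nondegenerate 3-space is a Siegel element.
-/

set_option autoImplicit false
set_option linter.unusedSectionVars false
set_option linter.unusedVariables false
set_option linter.unusedSimpArgs false

namespace Cfsg.Agent.Lib.Helper59_P3_UNIP

open Module Cfsg.Agent.Lib.Helper94_Symp Cfsg.Agent.Lib.Helper94_OrthSmall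
  Cfsg.Agent.Lib.Helper94_OrthSiegel Cfsg.Agent.Lib.Helper32_P3Defs

variable {F : Type*} [Field F]
variable {V : Type*} [AddCommGroup V] [Module F V]
variable {Q : V → F} {B : LinearMap.BilinForm F V}

lemma coe_pow_apply' (g : V ≃ₗ[F] V) (n : ℕ) (x : V) :
    ((g : V →ₗ[F] V) ^ n) x = (g ^ n) x := by
  induction n generalizing x with
  | zero => simp
  | succ n ih =>
    rw [pow_succ, pow_succ, Module.End.mul_apply, LinearEquiv.mul_apply, ih]
    rfl

open Polynomial in
lemma sub_one_pow_eq_zero (p : ℕ) [Fact p.Prime] [CharP F p] (g : V ≃ₗ[F] V) (hgp : g ^ p = 1) :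
    ((g : V →ₗ[F] V) - 1) ^ p = 0 := by
  have h1 : ((X : F[X]) - 1) ^ p = X ^ p - 1 := by
    rw [sub_pow_char, one_pow]
  have h2 := congrArg (Polynomial.aeval (g : V →ₗ[F] V)) h1
  simp only [map_pow, map_sub, aeval_X, map_one] at h2
  rw [h2]
  ext x
  rw [LinearMap.sub_apply, coe_pow_apply', hgp]
  simp

/-- three vectors `u, v, w` of a 3-space `U` with `B u v = 1`, `v, u` singular-orthogonal as
below and `w ≠ 0` orthogonal to both span `U` -/
lemma span_three (U : Submodule F V) (h3 : finrank F U = 3) {u v w : V} (hu : u ∈ U) (hv : v ∈ U)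
    (hw : w ∈ U) (huu : B u u = 0) (hvv : B v v = 0) (huv : B u v = 1) (hvu : B v u = 1)
    (hwu : B w u = 0) (hwv : B w v = 0) (hw0 : w ≠ 0) :
    ∀ y ∈ U, ∃ c0 c1 c2 : F, y = c0 • u + c1 • v + c2 • w := by
  classical
  have : FiniteDimensional F U := FiniteDimensional.of_finrank_pos (by omega)
  let b : Fin 3 → U := ![⟨u, hu⟩, ⟨v, hv⟩, ⟨w, hw⟩]
  have hli : LinearIndependent F b := by
    rw [Fintype.linearIndependent_iff]
    intro c hc
    rw [Fin.sum_univ_three] at hc
    have hc' : c 0 • u + c 1 • v + c 2 • w = 0 := by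
      have := congrArg (Subtype.val) hc
      simpa [b] using this
    have e0 : c 0 = 0 := by
      have := congrArg (fun t => B t v) hc'
      simp only [map_add, map_smul, LinearMap.add_apply, LinearMap.smul_apply, smul_eq_mul,
        huv, hvv, hwv, map_zero, LinearMap.zero_apply, mul_zero, add_zero, mul_one] at this
      exact this
    have e1 : c 1 = 0 := by
      have := congrArg (fun t => B t u) hc'
      simp only [map_add, map_smul, LinearMap.add_apply, LinearMap.smul_apply, smul_eq_mul,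
        huu, hvu, hwu, map_zero, LinearMap.zero_apply, mul_zero, add_zero, mul_one, zero_add]
        at this
      exact this
    have e2 : c 2 = 0 := by
      rw [e0, e1, zero_smul, zero_smul, zero_add, zero_add] at hc'
      rcases smul_eq_zero.mp hc' with h | h
      · exact h
      · exact absurd h hw0
    intro i
    fin_cases i
    · exact e0
    · exact e1
    · exact e2
  let bs := basisOfLinearIndependentOfCardEqFinrank hli (by simp [h3])
  intro y hy
  have hrep := bs.sum_repr ⟨y, hy⟩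
  rw [Fin.sum_univ_three] at hrep
  refine ⟨bs.repr ⟨y, hy⟩ 0, bs.repr ⟨y, hy⟩ 1, bs.repr ⟨y, hy⟩ 2, ?_⟩
  have hbs : ⇑bs = b := coe_basisOfLinearIndependentOfCardEqFinrank hli _
  have := congrArg (Subtype.val) hrep
  rw [hbs] at this
  simpa [b] using this.symm

theorem UNIP [FiniteDimensional F V] (hQs : ∀ (a : F) (v : V), Q (a • v) = a * a * Q v)
    (hQp : ∀ u v : V, Q (u + v) = Q u + Q v + B u v) (h2 : (2 : F) ≠ 0)
    (p : ℕ) [Fact p.Prime] [CharP F p] (U : Submodule F V) (h3 : finrank F U = 3)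
    (hU : ∀ a ∈ U, a ≠ 0 → ∃ x ∈ U, B x a ≠ 0) {g : V ≃ₗ[F] V} (hg : g ∈ oG Q)
    (hgU : ∀ x ∈ U, g x ∈ U) (hperp : ∀ y : V, (∀ x ∈ U, B x y = 0) → g y = y)
    (hg1 : g ≠ 1) (hgp : g ^ p = 1) :
    ∃ u ∈ U, ∃ z ∈ U, u ≠ 0 ∧ Q u = 0 ∧ B u z = 0 ∧ g = sieg Q B u z := by
  classical
  have hsymm := B_symm Q B hQp
  have hBg : ∀ x y, B (g x) (g y) = B x y := oG_B Q B hQp hg
  have hrefl : B.IsRefl := B_isRefl Q B hQp
  have hcompl : IsCompl U (B.orthogonal U) := by
    rw [LinearMap.BilinForm.isCompl_orthogonal_iff_disjoint hrefl, Submodule.disjoint_def]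
    intro x hx hx'
    by_contra hne
    obtain ⟨y, hy, hyx⟩ := hU x hx hne
    exact hyx (hx' y hy)
  have hdec : ∀ x : V, ∃ x1 ∈ U, ∃ x2, (∀ y ∈ U, B y x2 = 0) ∧ x = x1 + x2 := by
    intro x
    have hx : x ∈ U ⊔ B.orthogonal U := by rw [hcompl.sup_eq_top]; exact Submodule.mem_top
    obtain ⟨x1, hx1, x2, hx2, rfl⟩ := Submodule.mem_sup.mp hx
    exact ⟨x1, hx1, x2, hx2, rfl⟩
  -- the nilpotent part
  obtain ⟨N, hN⟩ : ∃ N : V →ₗ[F] V, N = (g : V →ₗ[F] V) - 1 := ⟨_, rfl⟩
  have hNapp : ∀ x, N x = g x - x := by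
    intro x; rw [hN]; rfl
  have hNp : N ^ p = 0 := by rw [hN]; exact sub_one_pow_eq_zero p g hgp
  have hNU : ∀ x ∈ U, N x ∈ U := fun x hx => by rw [hNapp]; exact U.sub_mem (hgU x hx) hx
  have hNkU : ∀ (k : ℕ) (x : V), x ∈ U → (N ^ k) x ∈ U := by
    intro k
    induction k with
    | zero => intro x hx; simpa using hx
    | succ k ih =>
      intro x hx
      rw [pow_succ', Module.End.mul_apply]
      exact hNU _ (ih x hx)
  have hex : ∃ x ∈ U, N x ≠ 0 := by
    by_contra hcon
    push Not at hcon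
    apply hg1
    ext x
    obtain ⟨x1, hx1, x2, hx2, rfl⟩ := hdec x
    have h1 : g x1 = x1 := by
      have := hcon x1 hx1
      rw [hNapp, sub_eq_zero] at this
      exact this
    rw [map_add, h1, hperp x2 hx2]
    rfl
  obtain ⟨x, hxU, hNx⟩ := hex
  have hex2 : ∃ k, (N ^ (k + 1)) x = 0 := by
    refine ⟨p - 1, ?_⟩
    have hp1 : 1 ≤ p := (Fact.out : p.Prime).one_le
    rw [Nat.sub_add_cancel hp1, hNp]
    rfl
  obtain ⟨k, hk0, hkmin⟩ : ∃ k, (N ^ (k + 1)) x = 0 ∧ ∀ j < k, (N ^ (j + 1)) x ≠ 0 :=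
    ⟨Nat.find hex2, Nat.find_spec hex2, fun j hj => Nat.find_min hex2 hj⟩
  have hkpos : 1 ≤ k := by
    rcases Nat.eq_zero_or_pos k with h | h
    · exfalso
      rw [h] at hk0
      simp only [zero_add, pow_one] at hk0
      exact hNx hk0
    · exact h
  obtain ⟨k', rfl⟩ : ∃ k', k = k' + 1 := ⟨k - 1, by omega⟩
  obtain ⟨u, hudef⟩ : ∃ u : V, u = (N ^ (k' + 1)) x := ⟨_, rfl⟩
  obtain ⟨y0, hy0def⟩ : ∃ y0 : V, y0 = (N ^ k') x := ⟨_, rfl⟩
  have huy0 : u = N y0 := by
    rw [hudef, hy0def, pow_succ', Module.End.mul_apply]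
  have huU : u ∈ U := by rw [hudef]; exact hNkU _ x hxU
  have hu0 : u ≠ 0 := by
    rw [hudef]
    exact hkmin k' (by omega)
  have hNu : N u = 0 := by
    rw [hudef, ← Module.End.mul_apply, ← pow_succ']
    exact hk0
  have hgu : g u = u := by
    have := hNu
    rw [hNapp, sub_eq_zero] at this
    exact this
  have huu : B u u = 0 := by
    have h1 : B (N y0) u = 0 := by
      rw [hNapp, map_sub, LinearMap.sub_apply]
      nth_rewrite 1 [← hgu]
      rw [hBg, sub_self]
    rw [← huy0] at h1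
    exact h1
  have hQu : Q u = 0 := by
    have := B_self Q B hQs hQp u
    rw [huu] at this
    rcases mul_eq_zero.mp this.symm with h | h
    · exact absurd h h2
    · exact h
  -- the hyperbolic partner
  obtain ⟨x0, hx0U, hx0⟩ := hU u huU hu0
  obtain ⟨t, ht⟩ : ∃ t : F, t = (B x0 u)⁻¹ := ⟨_, rfl⟩
  have htx : t * B x0 u = 1 := by rw [ht]; exact inv_mul_cancel₀ hx0
  obtain ⟨v, hvdef⟩ : ∃ v : V, v = t • x0 + (-(t * t * Q x0)) • u := ⟨_, rfl⟩
  have hvU : v ∈ U := by
    rw [hvdef]
    exact U.add_mem (U.smul_mem _ hx0U) (U.smul_mem _ huU)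
  have hvu : B v u = 1 := by
    rw [hvdef, map_add, map_smul, map_smul, LinearMap.add_apply, LinearMap.smul_apply,
      LinearMap.smul_apply, huu, smul_eq_mul, smul_eq_mul, mul_zero, add_zero, htx]
  have huv : B u v = 1 := by rw [hsymm, hvu]
  have hQv : Q v = 0 := by
    rw [hvdef, Q_add_smul Q B hQs hQp, hQu, hQs, map_smul, LinearMap.smul_apply, smul_eq_mul]
    have : t * t * Q x0 + -(t * t * Q x0) * -(t * t * Q x0) * 0
        + -(t * t * Q x0) * (t * B x0 u) = t * t * Q x0 * (1 - t * B x0 u) := by ring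
    rw [this, htx, sub_self, mul_zero]
  have hvv : B v v = 0 := by rw [B_self Q B hQs hQp, hQv, mul_zero]
  -- the third vector
  have hexw : ∃ y ∈ U, y ∉ Submodule.span F ({u, v} : Set V) := by
    by_contra hcon
    push Not at hcon
    have hle : U ≤ Submodule.span F ({u, v} : Set V) := fun y hy => hcon y hy
    have h1 := Submodule.finrank_mono hle
    have h2' : finrank F (Submodule.span F ({u, v} : Set V)) ≤ 2 := by
      have := finrank_span_finset_le_card (R := F) ({u, v} : Finset V)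
      have hc : ({u, v} : Finset V).card ≤ 2 := Finset.card_le_two
      have he : ((({u, v} : Finset V)) : Set V) = ({u, v} : Set V) := by simp
      rw [he] at this
      simp only [Set.finrank] at this
      omega
    omega
  obtain ⟨y1, hy1U, hy1⟩ := hexw
  obtain ⟨w, hwdef⟩ : ∃ w : V, w = y1 - B y1 v • u - B y1 u • v := ⟨_, rfl⟩
  have hwU : w ∈ U := by
    rw [hwdef]
    exact U.sub_mem (U.sub_mem hy1U (U.smul_mem _ huU)) (U.smul_mem _ hvU)
  have hw0 : w ≠ 0 := by
    intro h
    apply hy1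
    have h' : y1 - B y1 v • u - B y1 u • v = 0 := by rw [← hwdef]; exact h
    have hy : y1 = B y1 v • u + B y1 u • v := by
      calc y1 = y1 - (y1 - B y1 v • u - B y1 u • v) := by rw [h', sub_zero]
        _ = B y1 v • u + B y1 u • v := by abel
    have hmem : B y1 v • u + B y1 u • v ∈ Submodule.span F ({u, v} : Set V) :=
      Submodule.add_mem _ (Submodule.smul_mem _ _ (Submodule.subset_span (by simp)))
        (Submodule.smul_mem _ _ (Submodule.subset_span (by simp)))
    rwa [← hy] at hmem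
  have hwu : B w u = 0 := by
    rw [hwdef]
    simp only [map_sub, map_smul, LinearMap.sub_apply, LinearMap.smul_apply, smul_eq_mul, huu,
      hvu, mul_zero, mul_one, sub_zero, sub_self]
  have hwv : B w v = 0 := by
    rw [hwdef]
    simp only [map_sub, map_smul, LinearMap.sub_apply, LinearMap.smul_apply, smul_eq_mul, huv,
      hvv, mul_zero, mul_one, sub_zero, sub_self]
  have huw : B u w = 0 := by rw [hsymm, hwu]
  have hvw : B v w = 0 := by rw [hsymm, hwv]
  have hspan := span_three U h3 huU hvU hwU huu hvv huv hvu hwu hwv hw0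
  obtain ⟨d, hd⟩ : ∃ d : F, d = Q w := ⟨_, rfl⟩
  have hww : B w w = 2 * d := by rw [hd]; exact B_self Q B hQs hQp w
  have hd0 : d ≠ 0 := by
    intro h0
    obtain ⟨x', hx'U, hx'⟩ := hU w hwU hw0
    obtain ⟨c0, c1, c2, rfl⟩ := hspan x' hx'U
    apply hx'
    simp only [map_add, map_smul, LinearMap.add_apply, LinearMap.smul_apply, smul_eq_mul, huw,
      hvw, hww, h0, mul_zero, add_zero]
  -- the images of `w` and `v`
  have hgw : ∃ α : F, g w = w + α • u := by
    obtain ⟨c0, c1, c2, hc⟩ := hspan (g w) (hgU w hwU)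
    have e1 : c1 = 0 := by
      have h1 : B (g w) u = 0 := by
        nth_rewrite 1 [← hgu]
        rw [hBg, hwu]
      rw [hc] at h1
      simp only [map_add, map_smul, LinearMap.add_apply, LinearMap.smul_apply, smul_eq_mul, huu,
        hvu, hwu, mul_zero, mul_one, add_zero, zero_add] at h1
      exact h1
    -- `c2 = 1` by unipotence: `N^j w = (c2 - 1)^j w + (..) u`
    have hNw : N w = c0 • u + (c2 - 1) • w := by
      rw [hNapp, hc, e1, zero_smul, add_zero, sub_smul, one_smul]
      abel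
    have hNj : ∀ j : ℕ, ∃ a : F, (N ^ j) w = a • u + (c2 - 1) ^ j • w := by
      intro j
      induction j with
      | zero => exact ⟨0, by simp⟩
      | succ j ih =>
        obtain ⟨a, ha⟩ := ih
        refine ⟨(c2 - 1) ^ j * c0, ?_⟩
        rw [pow_succ', Module.End.mul_apply, ha, map_add, map_smul, map_smul, hNu, smul_zero,
          zero_add, hNw, smul_add, smul_smul, smul_smul, pow_succ]
    obtain ⟨a, ha⟩ := hNj p
    rw [hNp] at ha
    have e2 : (c2 - 1) ^ p = 0 := by
      have h1 := congrArg (fun t => B t w) ha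
      simp only [LinearMap.zero_apply, map_zero, map_add, map_smul, LinearMap.add_apply,
        LinearMap.smul_apply, smul_eq_mul, huw, hww, mul_zero, zero_add] at h1
      have h3' : (2 * d : F) ≠ 0 := mul_ne_zero h2 hd0
      rcases mul_eq_zero.mp h1.symm with h | h
      · exact h
      · exact absurd h h3'
    have e3 : c2 = 1 := by
      have := pow_eq_zero_iff (Fact.out : p.Prime).ne_zero |>.mp e2
      exact sub_eq_zero.mp this
    refine ⟨c0, ?_⟩
    rw [hc, e1, e3, zero_smul, add_zero, one_smul, add_comm]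
  obtain ⟨α, hα⟩ := hgw
  obtain ⟨a, b, hab⟩ : ∃ a b : F, g v = v + a • u + b • w := by
    obtain ⟨c0, c1, c2, hc⟩ := hspan (g v) (hgU v hvU)
    have e1 : c1 = 1 := by
      have h1 : B (g v) u = 1 := by
        nth_rewrite 1 [← hgu]
        rw [hBg, hvu]
      rw [hc] at h1
      simp only [map_add, map_smul, LinearMap.add_apply, LinearMap.smul_apply, smul_eq_mul, huu,
        hvu, hwu, mul_zero, mul_one, add_zero, zero_add] at h1
      exact h1
    refine ⟨c0, c2, ?_⟩
    rw [hc, e1, one_smul]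
    abel
  have hQgv : Q (g v) = 0 := by rw [hg v, hQv]
  have ha : a = -(b * b * d) := by
    have h1 : Q (v + a • u + b • w) = a + b * b * d := by
      rw [Q_add_smul Q B hQs hQp, Q_add_smul Q B hQs hQp, hQv, hQu, ← hd]
      simp only [map_add, map_smul, LinearMap.add_apply, LinearMap.smul_apply, smul_eq_mul, hvu,
        hvw, huw, mul_zero, mul_one, add_zero, zero_add]
    rw [← hab, hQgv] at h1
    linear_combination -h1
  have hαb : α = -(2 * b * d) := by
    have h1 : B (g v) (g w) = 0 := by rw [hBg, hvw]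
    rw [hab, hα] at h1
    simp only [map_add, map_smul, LinearMap.add_apply, LinearMap.smul_apply, smul_eq_mul, hvu, huv,
      hvw, huw, hwu, hwv, huu, hvv, hww, mul_zero, mul_one, add_zero, zero_add] at h1
    linear_combination h1
  -- conclusion
  have huz : B u (b • w) = 0 := by rw [map_smul, huw, smul_zero]
  refine ⟨u, huU, b • w, U.smul_mem _ hwU, hu0, hQu, huz, ?_⟩
  have hs := @sieg_apply F V _ _ _ Q B hQs hQp u (b • w) hQu huz
  have hQbw : Q (b • w) = b * b * d := by rw [hQs, hd]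
  ext x
  obtain ⟨x1, hx1, x2, hx2, rfl⟩ := hdec x
  obtain ⟨c0, c1, c2, rfl⟩ := hspan x1 hx1
  have hx2u : B x2 u = 0 := by rw [hsymm]; exact hx2 u huU
  have hx2w : B x2 w = 0 := by rw [hsymm]; exact hx2 w hwU
  have e1 : sieg Q B u (b • w) x2 = x2 := by
    rw [hs]
    simp only [map_smul, smul_eq_mul, hx2u, hx2w, mul_zero, zero_smul, sub_zero, add_zero]
  have e2 : sieg Q B u (b • w) u = u := by
    rw [hs]
    simp only [map_smul, smul_eq_mul, huu, huw, mul_zero, zero_smul, sub_zero, add_zero]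
  have e3 : sieg Q B u (b • w) v = g v := by
    rw [hs, hab, ha, hQbw]
    simp only [map_smul, smul_eq_mul, hvu, hvw, mul_zero, mul_one, zero_smul, sub_zero, one_smul]
    module
  have e4 : sieg Q B u (b • w) w = g w := by
    rw [hs, hα, hαb]
    simp only [map_smul, smul_eq_mul, hwu, hww, mul_zero, zero_smul, sub_zero, add_zero]
    module
  simp only [map_add, map_smul, e1, e2, e3, e4, hgu, hperp x2 hx2]

end Cfsg.Agent.Lib.Helper59_P3_UNIP
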