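import Mathlib
import Cfsg.Agent.Lib.Helper38_QSubTwo2
import Cfsg.Agent.Lib.Helper59_QSub7b

/-!
# Orthogonal subfield groups of index two in dimension at least seven (helper59)

`Helper59_QSub7b.minor_rat_of_two11` (the replacement of Dickson's generation lemma for the pair
`𝔽₃ ⊂ 𝔽₉`) needs `11 ≤ dim`.  Here the same conclusion is proved for `7 ≤ dim`:

* `unip_rat_two7`: if `p` is a rational singular vector and `sieg p z` lies in the overgroup `M`
  (whose rational root subgroups have rational parameters only), then `z ∈ V₀ + F p`;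
* `nm_rat_two7`: for `a = k u`, `b = k w` and a rational singular `p ⊥ a, b`, the vectors
  `nm a b t` (`t` rational, `t ⊥ p`) lie in `V₀ + F p`;
* `minor_rat_of_two7`: all minors are rational.

Consequently `maximal_qsub7_all`: the maximality theorem for `7 ≤ dim` in odd characteristic with
no exception.
-/

set_option autoImplicit false
set_option linter.unusedSectionVars false
set_option linter.unusedVariables false
set_option linter.unusedSimpArgs false

namespace Cfsg.Agent.Lib.Helper59_QSub39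

open Module Matrix Cfsg.Agent.Lib.Helper94_Symp Cfsg.Agent.Lib.Helper94_OrthSmall
  Cfsg.Agent.Lib.Helper94_OrthSiegel Cfsg.Agent.Lib.Helper94_OrthSiegel2
  Cfsg.Agent.Lib.Helper94_OrthPara Cfsg.Agent.Lib.Helper94_OrthNondeg
  Cfsg.Agent.Lib.Helper94_OrthUni Cfsg.Agent.Lib.Helper94_QSub Cfsg.Agent.Lib.Helper50_SL2Mat
  Cfsg.Agent.Lib.Helper83_SL2GenBasic Cfsg.Agent.Lib.Helper38_QSubTwo
  Cfsg.Agent.Lib.Helper59_QSub7
open scoped MatrixGroups

variable {F V : Type*} [Field F] [AddCommGroup V] [Module F V]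
variable {Q : V → F} {B : LinearMap.BilinForm F V} {F₀ : Subfield F} {V₀ : AddSubgroup V}

section Gen

variable (R : QStr Q B F₀ V₀)

variable [Finite F] [FiniteDimensional F V]

include R in
/-- A rational singular vector orthogonal to `u` and `x` and not to `z`. -/
lemma rat_sno2 (hN : B.Nondegenerate) (h7 : 7 ≤ finrank F V) {u x z : V} (hu : u ∈ V₀)
    (hx : x ∈ V₀) (hz : z ∈ V₀)
    (h : ∀ α β : F, α ∈ F₀ → β ∈ F₀ → z ≠ α • u + β • x) :
    ∃ s ∈ V₀, Q s = 0 ∧ B s u = 0 ∧ B s x = 0 ∧ B s z ≠ 0 := by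
  classical
  have : Finite V := Module.finite_of_finite F
  have hfr := R.finrank_le
  obtain ⟨W, hWdef⟩ : ∃ W : Submodule F₀ R.ratSub,
      W = Submodule.span F₀ ((({(⟨u, hu⟩ : R.ratSub), ⟨x, hx⟩} : Finset R.ratSub)) :
        Set R.ratSub) := ⟨_, rfl⟩
  have hW : finrank F₀ W ≤ 2 := by
    rw [hWdef]
    exact (finrank_span_finset_le_card _).trans Finset.card_le_two
  have huW : (⟨u, hu⟩ : R.ratSub) ∈ W := by
    rw [hWdef]
    apply Submodule.subset_span
    simp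
  have hxW : (⟨x, hx⟩ : R.ratSub) ∈ W := by
    rw [hWdef]
    apply Submodule.subset_span
    simp
  have hb : (⟨z, hz⟩ : R.ratSub) ∉ W := by
    intro hmem
    rw [hWdef, Finset.coe_pair] at hmem
    obtain ⟨α, β, hαβ⟩ := Submodule.mem_span_pair.mp hmem
    apply h (α : F) (β : F) α.2 β.2
    have h3 := congrArg Subtype.val hαβ
    exact h3.symm
  obtain ⟨s, hQs, hsW, hsb⟩ := Cfsg.Agent.Lib.Helper94_QuadGen.sno_gen R.q0 R.b0 R.q0_smul
    R.q0_add (R.b0_nondeg hN) W (by omega) hb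
  refine ⟨s.1, s.2, congrArg Subtype.val hQs, ?_, ?_, ?_⟩
  · exact congrArg Subtype.val (hsW ⟨u, hu⟩ huW)
  · exact congrArg Subtype.val (hsW ⟨x, hx⟩ hxW)
  · intro h0
    apply hsb
    apply Subtype.ext
    exact h0

end Gen

section Two

variable (R : QStr Q B F₀ V₀)

variable (S M G : Subgroup (V ≃ₗ[F] V))
  (hS : ∀ g, g ∈ S ↔ ∃ μ : F, μ ≠ 0 ∧ ∀ v ∈ V₀, ∃ w ∈ V₀, g v = μ • w)
  (hG2 : ∀ u z, Q u = 0 → B u z = 0 → sieg Q B u z ∈ G)
  (hHM : S ⊓ G ≤ M) (hMO : M ≤ oG Q)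

variable [Finite F] [FiniteDimensional F V]

variable (hA0 : ∀ u z : V, RPair Q B F₀ V₀ u z → ∀ c : F, sieg Q B u (c • z) ∈ M → c ∈ F₀)

include R hS hG2 hHM hMO hA0 in
/-- **Quadratic case, dimension at least seven**: a Siegel element of the overgroup at a rational
singular vector `p` has its direction in `V₀ + F p`. -/
theorem unip_rat_two7 (hN : B.Nondegenerate) (h7 : 7 ≤ finrank F V)
    {ω : F} (hdec : ∀ c : F, ∃ c₁ ∈ F₀, ∃ c₂ ∈ F₀, c = c₁ + c₂ * ω) (hω : ω ∉ F₀)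
    {p z : V} (hp : p ∈ V₀) (hQp : Q p = 0) (hp0 : p ≠ 0) (hpz : B p z = 0)
    (hg : sieg Q B p z ∈ M) : ∃ κ : F, z - κ • p ∈ V₀ := by
  have hsymm := R.symm
  obtain ⟨z₁, hz₁, z₂, hz₂, hzdec⟩ := R.vdec hdec z
  have h1 : B p z₁ + ω * B p z₂ = 0 := by
    rw [← hpz, hzdec, map_add, map_smul, smul_eq_mul]
  have hpz₂ : B p z₂ = 0 := by
    by_contra hne
    apply hω
    have e : ω = -(B p z₁) / B p z₂ := by
      field_simp
      linear_combination h1
    rw [e]
    exact F₀.div_mem (F₀.neg_mem (R.bval hp hz₁)) (R.bval hp hz₂)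
  have hpz₁ : B p z₁ = 0 := by
    rw [hpz₂, mul_zero, add_zero] at h1
    exact h1
  have hg₁ : sieg Q B p z₁ ∈ M := R.rat_sieg_mem S M G hS hG2 hHM hp hz₁ hQp hpz₁
  have hpωz₂ : B p (ω • z₂) = 0 := by rw [map_smul, hpz₂, smul_zero]
  have hg₂ : sieg Q B p (ω • z₂) ∈ M := by
    have h2 : (sieg Q B p z₁)⁻¹ * sieg Q B p z ∈ M := M.mul_mem (M.inv_mem hg₁) hg
    rw [sieg_inv Q B R.hQs R.hQp hQp hpz₁,
      sieg_mul Q B R.hQs R.hQp hQp (by rw [map_neg, hpz₁, neg_zero]) hpz] at h2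
    have e : -z₁ + z = ω • z₂ := by rw [hzdec]; abel
    rwa [e] at h2
  by_cases hind : ∀ t : F, t ∈ F₀ → z₂ ≠ t • p
  · exfalso
    by_cases hQz₂ : Q z₂ = 0
    · have P : RPair Q B F₀ V₀ p z₂ := ⟨hp, hz₂, hQp, hQz₂, hpz₂, hp0, hind⟩
      exact hω (hA0 p z₂ P ω hg₂)
    · obtain ⟨p', hp', hpp'⟩ := R.exists_dual hN hp hp0
      obtain ⟨x, hx, hx0, hQx, hxl⟩ := R.rat_sing_perp [p, p', z₂]
        (by
          intro v hv
          simp only [List.mem_cons, List.not_mem_nil, or_false] at hv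
          rcases hv with rfl | rfl | rfl
          · exact hp
          · exact hp'
          · exact hz₂)
        (by simp only [List.length_cons, List.length_nil]; omega)
      have hxp : B x p = 0 := hxl p (by simp)
      have hxp' : B x p' = 0 := hxl p' (by simp)
      have hxz₂ : B x z₂ = 0 := hxl z₂ (by simp)
      obtain ⟨s, hs, hQs, hsp, hsx, hsz₂⟩ := rat_sno2 R hN h7 hp hx hz₂ (by
        intro α β hα hβ h
        apply hQz₂
        rw [h, R.hQp, R.hQs, R.hQs, hQp, hQx]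
        simp only [map_smul, LinearMap.smul_apply, hsymm p x, hxp, smul_eq_mul, mul_zero,
          add_zero])
      have hh : sieg Q B s x ∈ M := R.rat_sieg_mem S M G hS hG2 hHM hs hx hQs hsx
      have hhp : sieg Q B s x p = p := by
        rw [sieg_apply Q B R.hQs R.hQp hQs hsx, hsymm p s, hsp, hsymm p x, hxp]
        simp
      have h3 := comm_step R M hMO hh hhp hQp hpωz₂ hg₂
      have e3 : sieg Q B s x (ω • z₂) - ω • z₂ = (ω * B z₂ s) • x := by
        rw [sieg_apply Q B R.hQs R.hQp hQs hsx, hQx]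
        simp only [map_smul, LinearMap.smul_apply, smul_eq_mul, hsymm z₂ x, hxz₂, mul_zero,
          zero_mul, zero_smul, sub_zero]
        module
      rw [e3] at h3
      have P : RPair Q B F₀ V₀ p x := by
        refine ⟨hp, hx, hQp, hQx, by rw [hsymm, hxp], hp0, ?_⟩
        intro t _ h
        have h5 : B x p' = t := by
          rw [h, map_smul, LinearMap.smul_apply, hpp', smul_eq_mul, mul_one]
        rw [hxp'] at h5
        apply hx0
        rw [h, ← h5, zero_smul]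
      have h4 := hA0 p x P _ h3
      apply hω
      have hne : B z₂ s ≠ 0 := by rw [hsymm]; exact hsz₂
      have e : ω = ω * B z₂ s / B z₂ s := by field_simp
      rw [e]
      exact F₀.div_mem h4 (R.bval hz₂ hs)
  · push Not at hind
    obtain ⟨t, ht, hz₂t⟩ := hind
    refine ⟨ω * t, ?_⟩
    have e : z - (ω * t) • p = z₁ := by
      rw [hzdec, hz₂t, smul_smul]
      abel
    rw [e]
    exact hz₁

include R hS hG2 hHM hMO hA0 in
/-- For a totally singular pair `a, b` with `sieg a b` in the overgroup and a rational singular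
vector `p ⊥ a, b`: the vectors `nm a b t`, `t` rational orthogonal to `p`, lie in `V₀ + F p`. -/
theorem nm_rat_two7 (hN : B.Nondegenerate) (h7 : 7 ≤ finrank F V)
    {ω : F} (hdec : ∀ c : F, ∃ c₁ ∈ F₀, ∃ c₂ ∈ F₀, c = c₁ + c₂ * ω) (hω : ω ∉ F₀)
    {a b : V} (hQa : Q a = 0) (hQb : Q b = 0) (hab : B a b = 0) (hg₁ : sieg Q B a b ∈ M)
    {p t : V} (hp : p ∈ V₀) (hQp : Q p = 0) (hp0 : p ≠ 0) (hpa : B p a = 0) (hpb : B p b = 0)
    (ht : t ∈ V₀) (hpt : B p t = 0) : ∃ κ : F, nm B a b t - κ • p ∈ V₀ := by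
  have hsymm := R.symm
  have hh : sieg Q B p t ∈ M := R.rat_sieg_mem S M G hS hG2 hHM hp ht hQp hpt
  have hgp : sieg Q B a b p = p := by
    rw [sieg_apply Q B R.hQs R.hQp hQa hab, hpa, hpb]
    simp
  have h1 := comm_step R M hMO hg₁ hgp hQp hpt hh
  have e1 : sieg Q B a b t - t = nm B a b t := by
    rw [sieg_apply Q B R.hQs R.hQp hQa hab, hQb]
    unfold nm
    module
  rw [e1] at h1
  have hpn : B p (nm B a b t) = 0 := by
    unfold nm
    rw [map_sub, map_smul, map_smul, hpa, hpb, smul_zero, smul_zero, sub_zero]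
  exact unip_rat_two7 R S M G hS hG2 hHM hMO hA0 hN h7 hdec hω hp hQp hp0 hpn h1

include R hS hG2 hHM hMO hA0 in
/-- The minors at rational vectors orthogonal to a rational singular vector `p ⊥ a, b` are
rational. -/
theorem minor_rat_perp7 (hN : B.Nondegenerate) (h7 : 7 ≤ finrank F V)
    {ω : F} (hdec : ∀ c : F, ∃ c₁ ∈ F₀, ∃ c₂ ∈ F₀, c = c₁ + c₂ * ω) (hω : ω ∉ F₀)
    {a b : V} (hQa : Q a = 0) (hQb : Q b = 0) (hab : B a b = 0) (hg₁ : sieg Q B a b ∈ M)
    {p t y : V} (hp : p ∈ V₀) (hQp : Q p = 0) (hp0 : p ≠ 0) (hpa : B p a = 0) (hpb : B p b = 0)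
    (ht : t ∈ V₀) (hpt : B p t = 0) (hy : y ∈ V₀) (hpy : B p y = 0) :
    B a t * B b y - B a y * B b t ∈ F₀ := by
  have hsymm := R.symm
  obtain ⟨κ, hκ⟩ := nm_rat_two7 R S M G hS hG2 hHM hMO hA0 hN h7 hdec hω hQa hQb hab hg₁ hp hQp
    hp0 hpa hpb ht hpt
  have h1 : B y (nm B a b t - κ • p) ∈ F₀ := R.bval hy hκ
  have e : B a t * B b y - B a y * B b t = B y (nm B a b t - κ • p) := by
    unfold nm
    simp only [map_sub, map_smul, smul_eq_mul, hsymm y p, hpy, mul_zero, sub_zero]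
    rw [hsymm t a, hsymm t b, hsymm y a, hsymm y b]
    ring
  rw [e]
  exact h1

include R hS hG2 hHM hMO hA0 in
/-- If the span of `a, b` contains a nonzero rational vector, all minors are rational. -/
theorem minor_rat_of_mem7 (hN : B.Nondegenerate) (h7 : 7 ≤ finrank F V)
    {ω : F} (hdec : ∀ c : F, ∃ c₁ ∈ F₀, ∃ c₂ ∈ F₀, c = c₁ + c₂ * ω) (hω : ω ∉ F₀)
    {a b : V} (hQa : Q a = 0) (hQb : Q b = 0) (hab : B a b = 0) (hg₁ : sieg Q B a b ∈ M)
    {p : V} (hp : p ∈ V₀) (hp0 : p ≠ 0) {α β : F} (hpab : p = α • b - β • a)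
    {t y : V} (ht : t ∈ V₀) (hy : y ∈ V₀) :
    B a t * B b y - B a y * B b t ∈ F₀ := by
  have hsymm := R.symm
  have haa : B a a = 0 := by rw [B_self Q B R.hQs R.hQp, hQa, mul_zero]
  have hbb : B b b = 0 := by rw [B_self Q B R.hQs R.hQp, hQb, mul_zero]
  have hba : B b a = 0 := by rw [hsymm, hab]
  have hQp : Q p = 0 := by
    have e : p = α • b + (-β) • a := by rw [hpab]; module
    rw [e, R.hQp, R.hQs, R.hQs, hQa, hQb]
    simp only [map_smul, LinearMap.smul_apply, hba, smul_eq_mul, mul_zero, add_zero]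
  have hpx : ∀ x : V, B p x = α * B b x - β * B a x := by
    intro x
    rw [hpab]
    simp only [map_sub, map_smul, LinearMap.sub_apply, LinearMap.smul_apply, smul_eq_mul]
  by_cases hα : α = 0
  · -- `p = -β a`
    have hβ : β ≠ 0 := by
      intro h0
      apply hp0
      rw [hpab, hα, h0]
      simp
    obtain ⟨z, hz⟩ : ∃ z : V, z = (-β⁻¹) • b := ⟨_, rfl⟩
    have hpz : B p z = 0 := by
      rw [hpx, hz]
      simp only [map_smul, smul_eq_mul, hbb, hab, mul_zero, sub_zero]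
    have hQz : Q z = 0 := by rw [hz, R.hQs, hQb, mul_zero]
    have hsz : sieg Q B p z = sieg Q B a b := by
      ext x
      rw [sieg_apply Q B R.hQs R.hQp hQp hpz, sieg_apply Q B R.hQs R.hQp hQa hab, hQz, hQb,
        hsymm x p, hpx, hz, hpab, hα]
      simp only [map_smul, smul_eq_mul, hsymm x a, hsymm x b]
      match_scalars <;> field_simp <;> ring
    obtain ⟨κ, hκ⟩ := unip_rat_two7 R S M G hS hG2 hHM hMO hA0 hN h7 hdec hω hp hQp hp0 hpz
      (by rw [hsz]; exact hg₁)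
    obtain ⟨z₀, hz₀⟩ : ∃ z₀ : V, z₀ = z - κ • p := ⟨_, rfl⟩
    rw [← hz₀] at hκ
    have hbx : ∀ x : V, B b x = -β * (B z₀ x + κ * B p x) := by
      intro x
      rw [hz₀, hz]
      simp only [map_sub, map_smul, LinearMap.sub_apply, LinearMap.smul_apply, smul_eq_mul]
      field_simp
      ring
    have hax : ∀ x : V, B a x = -β⁻¹ * B p x := by
      intro x
      rw [hpx, hα]
      field_simp
      ring
    have e : B a t * B b y - B a y * B b t = B p t * B z₀ y - B p y * B z₀ t := by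
      rw [hax t, hax y, hbx y, hbx t]
      field_simp
      ring
    rw [e]
    exact F₀.sub_mem (F₀.mul_mem (R.bval hp ht) (R.bval hκ hy))
      (F₀.mul_mem (R.bval hp hy) (R.bval hκ ht))
  · -- `b = α⁻¹ (p + β a)`
    obtain ⟨z, hz⟩ : ∃ z : V, z = (-α⁻¹) • a := ⟨_, rfl⟩
    have hpz : B p z = 0 := by
      rw [hpx, hz]
      simp only [map_smul, smul_eq_mul, hba, haa, mul_zero, sub_zero]
    have hQz : Q z = 0 := by rw [hz, R.hQs, hQa, mul_zero]
    have hsz : sieg Q B p z = sieg Q B a b := by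
      ext x
      rw [sieg_apply Q B R.hQs R.hQp hQp hpz, sieg_apply Q B R.hQs R.hQp hQa hab, hQz, hQb,
        hsymm x p, hpx, hz, hpab]
      simp only [map_smul, smul_eq_mul, hsymm x a, hsymm x b]
      match_scalars <;> field_simp <;> ring
    obtain ⟨κ, hκ⟩ := unip_rat_two7 R S M G hS hG2 hHM hMO hA0 hN h7 hdec hω hp hQp hp0 hpz
      (by rw [hsz]; exact hg₁)
    obtain ⟨z₀, hz₀⟩ : ∃ z₀ : V, z₀ = z - κ • p := ⟨_, rfl⟩
    rw [← hz₀] at hκ
    have hax : ∀ x : V, B a x = -α * (B z₀ x + κ * B p x) := by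
      intro x
      rw [hz₀, hz]
      simp only [map_sub, map_smul, LinearMap.sub_apply, LinearMap.smul_apply, smul_eq_mul]
      field_simp
      ring
    have hbx : ∀ x : V, B b x = α⁻¹ * (B p x + β * B a x) := by
      intro x
      rw [hpx]
      field_simp
      ring
    have e : B a t * B b y - B a y * B b t = B z₀ y * B p t - B z₀ t * B p y := by
      rw [hbx y, hbx t, hax t, hax y]
      field_simp
      ring
    rw [e]
    exact F₀.sub_mem (F₀.mul_mem (R.bval hκ hy) (R.bval hp ht))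
      (F₀.mul_mem (R.bval hκ ht) (R.bval hp hy))

include R in
/-- A combination of three pairwise orthogonal singular vectors is singular. -/
lemma Q_comb3 {a b p : V} (hQa : Q a = 0) (hQb : Q b = 0) (hQp : Q p = 0) (hab : B a b = 0)
    (hpa : B p a = 0) (hpb : B p b = 0) (x y c : F) : Q (x • b - y • a - c • p) = 0 := by
  have hsymm := R.symm
  have e : x • b - y • a - c • p = (x • b + (-y) • a) + (-c) • p := by module
  rw [e, R.hQp, R.hQp, R.hQs, R.hQs, R.hQs, hQa, hQb, hQp]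
  simp only [map_add, map_smul, LinearMap.add_apply, LinearMap.smul_apply, smul_eq_mul,
    hsymm b a, hab, hsymm b p, hpb, hsymm a p, hpa, mul_zero, add_zero]

include R hS hG2 hHM hMO hA0 in
/-- **Rationality of the minors in the quadratic case, dimension at least seven.** -/
theorem minor_rat_of_two7 (hN : B.Nondegenerate) (h7 : 7 ≤ finrank F V)
    {ω : F} (hdec : ∀ c : F, ∃ c₁ ∈ F₀, ∃ c₂ ∈ F₀, c = c₁ + c₂ * ω) (hω : ω ∉ F₀)
    {k : V ≃ₗ[F] V} (hk : k ∈ M) {u w t y : V}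
    (hu : u ∈ V₀) (hw : w ∈ V₀) (ht : t ∈ V₀) (hy : y ∈ V₀) (hQu : Q u = 0) (hQw : Q w = 0)
    (huw : B u w = 0) :
    B (k u) t * B (k w) y - B (k u) y * B (k w) t ∈ F₀ := by
  have hsymm := R.symm
  have hkO : k ∈ oG Q := hMO hk
  obtain ⟨a, ha⟩ : ∃ a : V, a = k u := ⟨_, rfl⟩
  obtain ⟨b, hb⟩ : ∃ b : V, b = k w := ⟨_, rfl⟩
  rw [← ha, ← hb]
  have hQa : Q a = 0 := by rw [ha, hkO, hQu]
  have hQb : Q b = 0 := by rw [hb, hkO, hQw]
  have hab : B a b = 0 := by rw [ha, hb, oG_B Q B R.hQp hkO, huw]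
  have hba : B b a = 0 := by rw [hsymm, hab]
  have haa : B a a = 0 := by rw [B_self Q B R.hQs R.hQp, hQa, mul_zero]
  have hbb : B b b = 0 := by rw [B_self Q B R.hQs R.hQp, hQb, mul_zero]
  have hg₁ : sieg Q B a b ∈ M := by
    rw [ha, hb, ← conj_sieg Q B R.hQs R.hQp hkO hQu huw]
    exact M.mul_mem (M.mul_mem hk (R.rat_sieg_mem S M G hS hG2 hHM hu hw hQu huw)) (M.inv_mem hk)
  -- the case of a rational point on the line
  by_cases hL : ∃ p ∈ V₀, p ≠ 0 ∧ ∃ α β : F, p = α • b - β • a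
  · obtain ⟨p, hp, hp0, α, β, hpab⟩ := hL
    exact minor_rat_of_mem7 R S M G hS hG2 hHM hMO hA0 hN h7 hdec hω hQa hQb hab hg₁ hp hp0 hpab
      ht hy
  push Not at hL
  obtain ⟨a₁, ha₁, a₂, ha₂, hadec⟩ := R.vdec hdec a
  obtain ⟨b₁, hb₁, b₂, hb₂, hbdec⟩ := R.vdec hdec b
  obtain ⟨p, hp, hp0, hQp, hpl⟩ := R.rat_sing_perp [a₁, a₂, b₁, b₂]
    (by
      intro v hv
      simp only [List.mem_cons, List.not_mem_nil, or_false] at hv
      rcases hv with rfl | rfl | rfl | rfl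
      · exact ha₁
      · exact ha₂
      · exact hb₁
      · exact hb₂)
    (by simp only [List.length_cons, List.length_nil]; omega)
  have hpa : B p a = 0 := by
    rw [hadec, map_add, map_smul, hpl a₁ (by simp), hpl a₂ (by simp), smul_zero, add_zero]
  have hpb : B p b = 0 := by
    rw [hbdec, map_add, map_smul, hpl b₁ (by simp), hpl b₂ (by simp), smul_zero, add_zero]
  obtain ⟨p', hp', hpp'⟩ := R.exists_dual hN hp hp0
  -- the minors against the dual vector
  have claimB : ∀ t₀ ∈ V₀, B p t₀ = 0 → B a t₀ * B b p' - B a p' * B b t₀ ∈ F₀ := by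
    intro t₀ ht₀ hpt₀
    obtain ⟨κ, hκ⟩ := nm_rat_two7 R S M G hS hG2 hHM hMO hA0 hN h7 hdec hω hQa hQb hab hg₁ hp
      hQp hp0 hpa hpb ht₀ hpt₀
    obtain ⟨n₀, hn₀⟩ : ∃ n₀ : V, n₀ = nm B a b t₀ - κ • p := ⟨_, rfl⟩
    rw [← hn₀] at hκ
    obtain ⟨lam, hlam⟩ : ∃ lam : F, lam = B n₀ p' := ⟨_, rfl⟩
    have hlamm : lam ∈ F₀ := by rw [hlam]; exact R.bval hκ hp'
    obtain ⟨p₂, hp₂def⟩ : ∃ p₂ : V, p₂ = n₀ - lam • p := ⟨_, rfl⟩
    have hp₂ : p₂ ∈ V₀ := by
      rw [hp₂def]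
      exact V₀.sub_mem hκ (R.smul_mem _ _ hlamm hp)
    have hp₂e : p₂ = B t₀ a • b - B t₀ b • a - (κ + lam) • p := by
      rw [hp₂def, hn₀]
      unfold nm
      module
    by_cases hp₂0 : p₂ = 0
    · by_cases hc : κ + lam = 0
      · have hκm : κ ∈ F₀ := by
          have e : κ = -lam := by linear_combination hc
          rw [e]
          exact F₀.neg_mem hlamm
        have e : B a t₀ * B b p' - B a p' * B b t₀ = B p' n₀ + κ := by
          rw [hn₀]
          unfold nm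
          simp only [map_sub, map_smul, smul_eq_mul, hsymm p' p, hpp', mul_one]
          rw [hsymm t₀ a, hsymm t₀ b, hsymm p' a, hsymm p' b]
          ring
        rw [e]
        exact F₀.add_mem (R.bval hp' hκ) hκm
      · exfalso
        apply hL p hp hp0 ((κ + lam)⁻¹ * B t₀ a) ((κ + lam)⁻¹ * B t₀ b)
        have h5 : (κ + lam) • p = B t₀ a • b - B t₀ b • a := by
          have h6 := hp₂e
          rw [hp₂0] at h6
          exact (sub_eq_zero.mp h6.symm).symm
        rw [mul_smul, mul_smul, ← smul_sub, ← h5, smul_smul, inv_mul_cancel₀ hc, one_smul]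
    · have hQp₂ : Q p₂ = 0 := by
        rw [hp₂e]
        exact Q_comb3 R hQa hQb hQp hab hpa hpb _ _ _
      have hpp : B p p = 0 := by rw [B_self Q B R.hQs R.hQp, hQp, mul_zero]
      have hp₂a : B p₂ a = 0 := by
        rw [hp₂e]
        simp only [map_sub, map_smul, LinearMap.sub_apply, LinearMap.smul_apply, smul_eq_mul,
          hba, haa, hpa, mul_zero, sub_zero]
      have hp₂b : B p₂ b = 0 := by
        rw [hp₂e]
        simp only [map_sub, map_smul, LinearMap.sub_apply, LinearMap.smul_apply, smul_eq_mul,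
          hbb, hab, hpb, mul_zero, sub_zero]
      have hp₂t₀ : B p₂ t₀ = 0 := by
        rw [hp₂e]
        simp only [map_sub, map_smul, LinearMap.sub_apply, LinearMap.smul_apply, smul_eq_mul,
          hpt₀, mul_zero, sub_zero]
        rw [hsymm b t₀, hsymm a t₀]
        ring
      have hp₂p' : B p₂ p' = 0 := by
        rw [hp₂def, map_sub, LinearMap.sub_apply, map_smul, LinearMap.smul_apply, hpp', ← hlam,
          smul_eq_mul, mul_one, sub_self]
      exact minor_rat_perp7 R S M G hS hG2 hHM hMO hA0 hN h7 hdec hω hQa hQb hab hg₁ hp₂ hQp₂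
        hp₂0 hp₂a hp₂b ht₀ hp₂t₀ hp' hp₂p'
  -- the general minor
  obtain ⟨τ, hτ⟩ : ∃ τ : F, τ = B p t := ⟨_, rfl⟩
  obtain ⟨η, hη⟩ : ∃ η : F, η = B p y := ⟨_, rfl⟩
  have hτm : τ ∈ F₀ := by rw [hτ]; exact R.bval hp ht
  have hηm : η ∈ F₀ := by rw [hη]; exact R.bval hp hy
  obtain ⟨t₀, ht₀def⟩ : ∃ t₀ : V, t₀ = t - τ • p' := ⟨_, rfl⟩
  obtain ⟨y₀, hy₀def⟩ : ∃ y₀ : V, y₀ = y - η • p' := ⟨_, rfl⟩
  have ht₀ : t₀ ∈ V₀ := by
    rw [ht₀def]
    exact V₀.sub_mem ht (R.smul_mem _ _ hτm hp')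
  have hy₀ : y₀ ∈ V₀ := by
    rw [hy₀def]
    exact V₀.sub_mem hy (R.smul_mem _ _ hηm hp')
  have hpt₀ : B p t₀ = 0 := by
    rw [ht₀def, map_sub, map_smul, hpp', smul_eq_mul, mul_one, hτ, sub_self]
  have hpy₀ : B p y₀ = 0 := by
    rw [hy₀def, map_sub, map_smul, hpp', smul_eq_mul, mul_one, hη, sub_self]
  have hA := minor_rat_perp7 R S M G hS hG2 hHM hMO hA0 hN h7 hdec hω hQa hQb hab hg₁ hp hQp
    hp0 hpa hpb ht₀ hpt₀ hy₀ hpy₀
  have hB1 := claimB t₀ ht₀ hpt₀
  have hB2 := claimB y₀ hy₀ hpy₀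
  have et : t = t₀ + τ • p' := by rw [ht₀def]; abel
  have ey : y = y₀ + η • p' := by rw [hy₀def]; abel
  have e : B a t * B b y - B a y * B b t =
      (B a t₀ * B b y₀ - B a y₀ * B b t₀) + η * (B a t₀ * B b p' - B a p' * B b t₀) -
        τ * (B a y₀ * B b p' - B a p' * B b y₀) := by
    rw [et, ey]
    simp only [map_add, map_smul, smul_eq_mul]
    ring
  rw [e]
  exact F₀.sub_mem (F₀.add_mem hA (F₀.mul_mem hηm hB1)) (F₀.mul_mem hτm hB2)

end Two

/-- **Maximality of the stabiliser of a rational structure over a subfield of prime index** in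
the group generated by the Siegel elements of an orthogonal space of dimension at least `7` in
odd characteristic; the quadratic alternative needs no further dimension hypothesis. -/
theorem maximal_qsub7_all [Finite F] [FiniteDimensional F V] (R : QStr Q B F₀ V₀)
    (hN : B.Nondegenerate) (h2 : (2 : F) ≠ 0) (G : Subgroup (V ≃ₗ[F] V)) (hG1 : G ≤ oG Q)
    (hG2 : ∀ u z, Q u = 0 → B u z = 0 → sieg Q B u z ∈ G)
    (hG3 : ∀ M : Subgroup (V ≃ₗ[F] V),
      (∀ u z, Q u = 0 → B u z = 0 → sieg Q B u z ∈ M) → G ≤ M)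
    (h7 : 7 ≤ finrank F V)
    (hsimple : ∀ K : Subalgebra F₀ F, K = ⊥ ∨ K = ⊤) (hne : ∃ c : F, c ∉ F₀)
    (hgen : (∀ Δ : F, Δ ∉ F₀ → tL (1 : F) ∈ GG F₀ Δ) ∨
      (∃ ω : F, ∀ c : F, ∃ c₁ ∈ F₀, ∃ c₂ ∈ F₀, c = c₁ + c₂ * ω))
    (S : Subgroup (V ≃ₗ[F] V))
    (hS : ∀ g, g ∈ S ↔ ∃ μ : F, μ ≠ 0 ∧ ∀ v ∈ V₀, ∃ w ∈ V₀, g v = μ • w) :
    (S ⊓ G < G) ∧
      ∀ M : Subgroup (V ≃ₗ[F] V), S ⊓ G ≤ M → M ≤ G → M = S ⊓ G ∨ M = G := by
  obtain ⟨c₀, hc₀⟩ := hne
  obtain ⟨u₀, z₀, P₀⟩ := exists_rpair7 R hN h7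
  constructor
  · refine lt_of_le_of_ne inf_le_right ?_
    intro heq
    have h1 : sieg Q B u₀ (c₀ • z₀) ∈ S ⊓ G := by
      rw [heq]
      exact hG2 _ _ P₀.Qu (by rw [map_smul, P₀.Buz, smul_zero])
    exact not_mem_S5 R S hS hN (by omega) P₀ hc₀ h1.1
  · intro M hHM hMG
    have hMO : M ≤ oG Q := hMG.trans hG1
    rcases par_dichotomy7 R S M G hS hG2 hHM hMO hN h7 hsimple with hA0 | hall
    · left
      apply le_antisymm _ hHM
      intro k hk
      refine ⟨(hS k).mpr ?_, hMG hk⟩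
      apply rat_of_minors7 R k (hMO hk) _ hN h7 h2
      intro u w t y hu hw ht hy hQu hQw hQt hQy huw hty
      by_cases hu0 : u = 0
      · rw [hu0, map_zero]
        simp only [map_zero, LinearMap.zero_apply, zero_mul, sub_zero]
        exact F₀.zero_mem
      by_cases hind : ∀ t' : F, t' ∈ F₀ → w ≠ t' • u
      · have P : RPair Q B F₀ V₀ u w := ⟨hu, hw, hQu, hQw, huw, hu0, hind⟩
        rcases hgen with hgen | ⟨ω, hdec⟩
        · by_contra hΔ
          have h1 := R.par_all_of_minor S M G hS hG2 hHM hMO hsimple hk hu hw ht hy hQu hQw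
            hQt hQy huw hty rfl hΔ (hgen _ hΔ) c₀
          exact hc₀ (hA0 u w P c₀ h1)
        · have hω : ω ∉ F₀ := by
            intro hω
            apply hc₀
            obtain ⟨c₁, hc₁, c₂, hc₂, e⟩ := hdec c₀
            rw [e]
            exact F₀.add_mem hc₁ (F₀.mul_mem hc₂ hω)
          exact minor_rat_of_two7 R S M G hS hG2 hHM hMO hA0 hN h7 hdec hω hk hu hw ht hy hQu hQw
            huw
      · push Not at hind
        obtain ⟨t', -, rfl⟩ := hind
        have e : B (k u) t * B (k (t' • u)) y - B (k u) y * B (k (t' • u)) t = 0 := by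
          simp only [map_smul, LinearMap.smul_apply, smul_eq_mul]
          ring
        rw [e]
        exact F₀.zero_mem
    · right
      apply le_antisymm hMG
      apply hG3
      intro x z hQx hxz
      exact all_full5 R M hMO hall hN (by omega) hQx hxz

end Cfsg.Agent.Lib.Helper59_QSub39
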