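import Mathlib
import Cfsg.Prelude.Def_GeometricClasses
import Cfsg.Agent.S5675
import Cfsg.Agent.Lib.Helper94_QSubBridge
import Cfsg.Agent.Lib.Helper94_QSubScaled
import Cfsg.Agent.Lib.Helper59_QSub39
import Cfsg.Agent.Lib.Helper59_QSub7Bridge

/-!
# Orthogonal subfield groups `Ω_n(q₀) < Ω_n(q)`, `q` odd, `n ≥ 7`, no exception (helper59)

`Helper59_QSub7Bridge.qsub_maximal7` without the hypothesis `h39` (which asked for `11 ≤ n` when
`F₀ = 𝔽₃ ⊂ F = 𝔽₉`): the quadratic case is handled by `Helper59_QSub39.minor_rat_of_two7`.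
In particular `sub_max_odd_all` is the subfield conjunct of `Ω_7(q)`, `Ω_9(q)`, `q` odd, verbatim.
-/

set_option autoImplicit false
set_option linter.style.haveILetI false

namespace Cfsg.Agent.Lib.Helper59_QSub39Bridge

open Matrix Module Cfsg.Agent.Lib.Helper94_Symp Cfsg.Agent.Lib.Helper94_Bridge
  Cfsg.Agent.Lib.Helper94_SLBridge
  Cfsg.Agent.Lib.Helper94_OrthSmall Cfsg.Agent.Lib.Helper94_OrthBridge
  Cfsg.Agent.Lib.Helper94_OrthSiegel Cfsg.Agent.Lib.Helper94_OrthSiegel2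
  Cfsg.Agent.Lib.Helper94_OrthGenBridge Cfsg.Agent.Lib.Helper94_OrthFinal
  Cfsg.Agent.Lib.Helper94_SubfieldBridge Cfsg.Agent.Lib.Helper94_QSub
  Cfsg.Agent.Lib.Helper94_QSubBridge Cfsg.Agent.Lib.Helper94_QSubScaled
  Cfsg.Agent.Lib.Helper50_SL2Mat Cfsg.Agent.Lib.Helper83_SL2GenBasic
open scoped MatrixGroups

variable {ι : Type} [Fintype ι] [DecidableEq ι] {F : Type*} [Field F] [Fintype F]

/-- **Maximality of the orthogonal subfield groups** (odd characteristic, dimension at least `7`,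
prime degree), with no exception. -/
theorem qsub_maximal7_all (Q : (ι → F) → F) (hQ : Cfsg.Geo.IsNondegenerateQuadraticForm Q)
    (h2 : (2 : F) ≠ 0) (hn : 7 ≤ Fintype.card ι) (F₀ : Subfield F) (r : ℕ) (hr : r.Prime)
    (hcard : Fintype.card F = Nat.card F₀ ^ r) (P : GL ι F)
    (hP : Cfsg.Geo.IsQuadFormRationalStructure Q F₀ P) :
    Cfsg.Geo.IsMaximalIn (Cfsg.Geo.omegaGL Q)
      (Cfsg.Geo.subfieldSubgroup F₀ P ⊓ Cfsg.Geo.omegaGL Q) := by
  classical
  have hfr : finrank F (ι → F) = Fintype.card ι := Module.finrank_pi F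
  have hfin : Module.finrank F₀ F = r := finrank_eq' F₀ r hcard
  have hp : (Module.finrank F₀ F).Prime := by rw [hfin]; exact hr
  haveI := Subalgebra.isSimpleOrder_of_finrank_prime F₀ F hp
  have hsimple : ∀ K : Subalgebra F₀ F, K = ⊥ ∨ K = ⊤ := fun K => eq_bot_or_eq_top K
  have hne : ∃ c : F, c ∉ F₀ := exists_not_mem F₀ (by rw [hfin]; exact hr.two_le)
  have hchar : ringChar F₀ ≠ 2 := ringChar_sub_ne_two F₀ h2
  have hgen : (∀ Δ : F, Δ ∉ F₀ → tL (1 : F) ∈ GG F₀ Δ) ∨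
      (∃ ω : F, ∀ c : F, ∃ c₁ ∈ F₀, ∃ c₂ ∈ F₀, c = c₁ + c₂ * ω) := by
    by_cases h3 : Nat.card F₀ = 3
    · by_cases hr2 : r = 2
      · right
        exact exists_dec F₀ (by rw [hfin, hr2])
      · left
        intro Δ hΔ
        have hΔ0 : Δ ≠ 0 := by
          intro h0
          apply hΔ
          rw [h0]
          exact F₀.zero_mem
        have hodd : Odd r := hr.odd_of_ne_two hr2
        apply Cfsg.Agent.Lib.Helper94_SL2GenF3.tL_one_mem_of_not_five hchar _ hΔ0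
        apply not_five_dvd _ hodd
        rw [hcard, h3]
    · left
      intro Δ hΔ
      have hΔ0 : Δ ≠ 0 := by
        intro h0
        apply hΔ
        rw [h0]
        exact F₀.zero_mem
      exact Cfsg.Agent.Lib.Helper83_SL2GenFin.tL_one_mem_of_finite hchar h3 hΔ0
  have R := qstr_of Q hQ F₀ P hP
  let S : Subgroup ((ι → F) ≃ₗ[F] (ι → F)) :=
    (Cfsg.Geo.subfieldSubgroup F₀ P).comap (glEquiv ι F).symm.toMonoidHom
  have hSeq : Cfsg.Geo.subfieldSubgroup F₀ P = S.comap (glEquiv ι F).toMonoidHom :=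
    (comap_symm_comap (glEquiv ι F) _).symm
  rw [hSeq, omegaGL_eq, ← Subgroup.comap_inf]
  apply isMaximalIn_comap
  apply Cfsg.Agent.Lib.Helper59_QSub39.maximal_qsub7_all R (gen_hN Q hQ) h2 _
    (Subgroup.commutator_le_self _)
    (fun u z hu huz => sieg_mem_commutator' Q _ (gen_hQs Q hQ) (gen_hQp Q hQ) (gen_hN Q hQ)
      (by rw [hfr]; omega) hu huz)
    (gen_hG3 Q hQ (fun h => absurd h h2) (by omega)) (by rw [hfr]; exact hn) hsimple hne hgen S
  intro g
  have key : ∀ x, (((glEquiv ι F).symm g : GL ι F) : Matrix ι ι F).mulVec x = g x := by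
    intro x
    rw [← glEquiv_apply, MulEquiv.apply_symm_apply]
  show (glEquiv ι F).symm g ∈ Cfsg.Geo.subfieldSubgroup F₀ P ↔ _
  rw [mem_subfieldSubgroup_iff]
  simp only [key]

/-- **Maximality of the orthogonal subfield groups** in odd characteristic and dimension at least
`7`, with a scaled form on the rational structure, with no exception. -/
theorem qsub_maximal_scaled7_all (Q : (ι → F) → F)
    (hQ : Cfsg.Geo.IsNondegenerateQuadraticForm Q)
    (h2 : (2 : F) ≠ 0) (hn : 7 ≤ Fintype.card ι) (F₀ : Subfield F) (r : ℕ) (hr : r.Prime)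
    (hcard : Fintype.card F = Nat.card F₀ ^ r) (P : GL ι F) {ζ : F} (hζ : ζ ≠ 0)
    (hP : Cfsg.Geo.IsQuadFormRationalStructure (fun v : ι → F => ζ * Q v) F₀ P) :
    Cfsg.Geo.IsMaximalIn (Cfsg.Geo.omegaGL Q)
      (Cfsg.Geo.subfieldSubgroup F₀ P ⊓ Cfsg.Geo.omegaGL Q) := by
  have h := qsub_maximal7_all (fun v : ι → F => ζ * Q v)
    (scaled_nondeg Q hQ hζ) h2 hn F₀ r hr hcard P hP
  rwa [omegaGL_scaled Q hζ] at h

/-- Subfield groups in `Ω_{2m+1}(q)`, `q` odd, `m ≥ 3`: the subfield conjunct of the rows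
`Ω_7(q)`, `Ω_9(q)`, `Ω_11(q)`, … verbatim, with no exception. -/
theorem sub_max_odd_all {F : Type*} [Field F] [Fintype F] (hodd : Odd (Fintype.card F)) (m : ℕ)
    (hm : 3 ≤ m)
    (F₀ : Subfield F) (r : ℕ) (P : Matrix.GeneralLinearGroup (Unit ⊕ (Fin m ⊕ Fin m)) F)
    (hr : r.Prime) (hcard : Fintype.card F = Nat.card F₀ ^ r)
    (hP : Cfsg.Geo.IsQuadFormRationalStructure (Cfsg.quadFormOdd m F) F₀ P) :
    Cfsg.Geo.IsMaximalIn (Cfsg.Geo.omegaGL (Cfsg.quadFormOdd m F))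
      (Cfsg.Geo.subfieldSubgroup F₀ P ⊓ Cfsg.Geo.omegaGL (Cfsg.quadFormOdd m F)) := by
  have h2 : (2 : F) ≠ 0 := Cfsg.Agent.Lib.Helper44_FinSq.two_ne_zero_of_odd_card hodd
  have hc : Fintype.card (Unit ⊕ (Fin m ⊕ Fin m)) = 2 * m + 1 := by
    simp [Fintype.card_sum]; ring
  exact qsub_maximal7_all (Cfsg.quadFormOdd m F)
    (Cfsg.Agent.S5675.quadFormOdd_nondeg h2 m) h2 (by rw [hc]; omega) F₀ r hr hcard P hP

end Cfsg.Agent.Lib.Helper59_QSub39Bridge
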