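import Mathlib
import Cfsg.Agent.Lib.Helper38_QSubTwo4
import Cfsg.Agent.Lib.Helper59_QSub7b

/-!
# Orthogonal subfield groups in characteristic two, dimension at least nine (helper59)

helper38's `Helper38_QSubTwo2/3/4` (characteristic-two subfield groups, stated for `13 ≤ dim`)
with the dimension hypotheses relaxed to `9 ≤ dim`, on top of the relaxed general lemmas of
`Helper59_QSub7` / `Helper59_QSub7b` (`exists_rpair7`, `nm_kappa7`, `par_dichotomy7`,
`all_full5`, `not_mem_S5`).  Needed for the subfield conjunct of `Ω_10^±(q)`, `Ω_12^±(q)`, `q` even.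
-/

set_option autoImplicit false
set_option linter.unusedSimpArgs false
set_option linter.unusedSectionVars false
set_option linter.unnecessarySimpa false
set_option linter.style.haveILetI false
set_option linter.unusedVariables false

namespace Cfsg.Agent.Lib.Helper59_QSubTwo9

open Module Matrix Cfsg.Agent.Lib.Helper94_Symp Cfsg.Agent.Lib.Helper94_OrthSmall
  Cfsg.Agent.Lib.Helper94_OrthSiegel Cfsg.Agent.Lib.Helper94_OrthSiegel2
  Cfsg.Agent.Lib.Helper94_QSub Cfsg.Agent.Lib.Helper50_SL2Mat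
  Cfsg.Agent.Lib.Helper38_QSubTwo Cfsg.Agent.Lib.Helper59_QSub7
open scoped MatrixGroups

variable {F V : Type*} [Field F] [AddCommGroup V] [Module F V]
variable {Q : V → F} {B : LinearMap.BilinForm F V} {F₀ : Subfield F} {V₀ : AddSubgroup V}

section Two2

variable (R : QStr Q B F₀ V₀)

variable (S M G : Subgroup (V ≃ₗ[F] V))
  (hS : ∀ g, g ∈ S ↔ ∃ μ : F, μ ≠ 0 ∧ ∀ v ∈ V₀, ∃ w ∈ V₀, g v = μ • w)
  (hG2 : ∀ u z, Q u = 0 → B u z = 0 → sieg Q B u z ∈ G)
  (hHM : S ⊓ G ≤ M) (hMO : M ≤ oG Q)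

variable [Finite F] [FiniteDimensional F V]

variable (hA0 : ∀ u z : V, RPair Q B F₀ V₀ u z → ∀ c : F, sieg Q B u (c • z) ∈ M → c ∈ F₀)

include R hS hG2 hHM hMO hA0 in
/-- If the parameters of the rational root subgroups in the overgroup are rational, then the
Siegel elements at a rational singular vector in the overgroup are rational. -/
theorem unip_rat_9 (hN : B.Nondegenerate) (h9 : 9 ≤ finrank F V) {u x : V} (hu : u ∈ V₀)
    (hQu : Q u = 0) (hu0 : u ≠ 0) (hux : B u x = 0) (hx : sieg Q B u x ∈ M) :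
    ∃ κ : F, x - κ • u ∈ V₀ := by
  have hsymm := R.symm
  apply R.dual_perp hN hu hu0
  intro v hv hvu
  have key : ∀ w ∈ V₀, Q w = 0 → B w u = 0 → B x w ∈ F₀ := by
    intro w hw hQw hwu
    obtain ⟨y, hy, w', hw', hQy, hQw', hyw', hyl, hw'l⟩ := R.rat_hyp hN [u, w]
      (by
        intro p hp
        simp only [List.mem_cons, List.not_mem_nil, or_false] at hp
        rcases hp with rfl | rfl
        · exact hu
        · exact hw)
      (by simp only [List.length_cons, List.length_nil]; omega)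
    have hyu : B y u = 0 := hyl u (by simp)
    have hyw : B y w = 0 := hyl w (by simp)
    have hw'u : B w' u = 0 := hw'l u (by simp)
    have hw'w : B w' w = 0 := hw'l w (by simp)
    obtain ⟨s, hs, -, hsu⟩ := R.rat_sno0 hN (by omega) hu hu0
    obtain ⟨y', hy', hy'0, hQy', hy'l⟩ := R.rat_sing_perp [u, w, y, w', s]
      (by
        intro p hp
        simp only [List.mem_cons, List.not_mem_nil, or_false] at hp
        rcases hp with rfl | rfl | rfl | rfl | rfl
        · exact hu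
        · exact hw
        · exact hy
        · exact hw'
        · exact hs)
      (by simp only [List.length_cons, List.length_nil]; omega)
    have hy'u : B y' u = 0 := hy'l u (by simp)
    have hy'w : B y' w = 0 := hy'l w (by simp)
    have hy'y : B y' y = 0 := hy'l y (by simp)
    have hy'w' : B y' w' = 0 := hy'l w' (by simp)
    have hy's : B y' s = 0 := hy'l s (by simp)
    -- first commutator
    have hwy : B w y = 0 := by rw [hsymm, hyw]
    have hg₁ : sieg Q B w y ∈ M := R.rat_sieg_mem S M G hS hG2 hHM hw hy hQw hwy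
    have hg₁u : sieg Q B w y u = u := by
      rw [sieg_apply Q B R.hQs R.hQp hQw hwy, hsymm u w, hwu, hsymm u y, hyu]
      simp
    have h1 := comm_step R M hMO hg₁ hg₁u hQu hux hx
    have e1 : sieg Q B w y x - x = B x w • y - B x y • w := by
      rw [sieg_apply Q B R.hQs R.hQp hQw hwy, hQy]
      module
    rw [e1] at h1
    have hux' : B u (B x w • y - B x y • w) = 0 := by
      rw [map_sub, map_smul, map_smul, hsymm u y, hyu, hsymm u w, hwu, smul_zero, smul_zero,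
        sub_zero]
    -- second commutator
    have hw'y' : B w' y' = 0 := by rw [hsymm, hy'w']
    have hg₂ : sieg Q B w' y' ∈ M := R.rat_sieg_mem S M G hS hG2 hHM hw' hy' hQw' hw'y'
    have hg₂u : sieg Q B w' y' u = u := by
      rw [sieg_apply Q B R.hQs R.hQp hQw' hw'y', hsymm u w', hw'u, hsymm u y', hy'u]
      simp
    have h2 := comm_step R M hMO hg₂ hg₂u hQu hux' h1
    have e2 : sieg Q B w' y' (B x w • y - B x y • w) - (B x w • y - B x y • w) =
        B x w • y' := by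
      rw [sieg_apply Q B R.hQs R.hQp hQw' hw'y', hQy']
      simp only [map_sub, map_smul, LinearMap.sub_apply, LinearMap.smul_apply, smul_eq_mul,
        hyw', hsymm w w', hw'w, hsymm y y', hy'y, hsymm w y', hy'w, mul_zero, mul_one, sub_zero,
        zero_smul, zero_mul]
      module
    rw [e2] at h2
    have P : RPair Q B F₀ V₀ u y' := by
      refine ⟨hu, hy', hQu, hQy', by rw [hsymm, hy'u], hu0, ?_⟩
      intro t _ h
      have h3 : t * B u s = 0 := by
        rw [← smul_eq_mul, ← LinearMap.smul_apply, ← map_smul, ← h, hy's]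
      rcases mul_eq_zero.mp h3 with h4 | h4
      · apply hy'0
        rw [h, h4, zero_smul]
      · apply hsu
        rw [hsymm, h4]
    exact hA0 u y' P _ h2
  obtain ⟨s₁, hs₁, s₂, hs₂, hQ₁, hQ₂, h₁u, h₂u, rfl⟩ :=
    R.rat_two_sing hN (by omega) hu hv hQu hvu
  rw [map_add]
  exact F₀.add_mem (key s₁ hs₁ hQ₁ h₁u) (key s₂ hs₂ hQ₂ h₂u)


include R hS hG2 hHM hMO hA0 in
/-- In characteristic two: if `sieg a b` lies in the overgroup, then the image of a rational
singular vector `u` under the skew map of `a, b` is a multiple of a vector of `V₀ + F u`. -/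
theorem point_step_9 (hN : B.Nondegenerate) (h9 : 9 ≤ finrank F V) (h2 : (2 : F) = 0)
    {a b : V} (hQa : Q a = 0) (hQb : Q b = 0) (hab : B a b = 0) (hg : sieg Q B a b ∈ M)
    {u : V} (hu : u ∈ V₀) (hQu : Q u = 0) (hx0 : nm B a b u ≠ 0) :
    ∃ lam κ : F, ∃ v ∈ V₀, nm B a b u = lam • (v + κ • u) := by
  have hsymm := R.symm
  have haa : B a a = 0 := by rw [B_self Q B R.hQs R.hQp, hQa, mul_zero]
  have hbb : B b b = 0 := by rw [B_self Q B R.hQs R.hQp, hQb, mul_zero]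
  have hba : B b a = 0 := by rw [hsymm, hab]
  obtain ⟨x, hx⟩ : ∃ x : V, x = nm B a b u := ⟨_, rfl⟩
  have hxdef : x = B u a • b - B u b • a := by rw [hx]; rfl
  rw [← hx] at hx0 ⊢
  have hu0 : u ≠ 0 := by
    intro h0
    apply hx0
    rw [hxdef, h0]
    simp
  have hxa : B x a = 0 := by
    rw [hxdef]
    simp only [map_sub, map_smul, LinearMap.sub_apply, LinearMap.smul_apply, smul_eq_mul, hba,
      haa, mul_zero, sub_zero]
  have hxb : B x b = 0 := by
    rw [hxdef]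
    simp only [map_sub, map_smul, LinearMap.sub_apply, LinearMap.smul_apply, smul_eq_mul, hbb,
      hab, mul_zero, sub_zero]
  have hxu : B x u = 0 := by
    rw [hxdef]
    simp only [map_sub, map_smul, LinearMap.sub_apply, LinearMap.smul_apply, smul_eq_mul,
      hsymm b u, hsymm a u]
    ring
  -- step 1: a rational vector orthogonal to `u` and not to `x`
  obtain ⟨z₀, hz₀, hz₀u, hxz₀⟩ : ∃ z₀ ∈ V₀, B z₀ u = 0 ∧ B x z₀ ≠ 0 := by
    by_contra hcon
    push Not at hcon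
    obtain ⟨u', hu', huu'⟩ := R.exists_dual hN hu hu0
    have h1 : x - B x u' • u = 0 := by
      apply R.eq_zero_of_perp hN
      intro v hv
      have hvm : v - B v u • u' ∈ V₀ := V₀.sub_mem hv (R.smul_mem _ _ (R.bval hv hu) hu')
      have h3 := hcon _ hvm (by
        rw [map_sub, LinearMap.sub_apply, map_smul, LinearMap.smul_apply, hsymm u' u, huu',
          smul_eq_mul, mul_one, sub_self])
      rw [map_sub, map_smul, smul_eq_mul] at h3
      rw [map_sub, LinearMap.sub_apply, map_smul, LinearMap.smul_apply, smul_eq_mul, hsymm u v]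
      linear_combination h3
    have h3 : x = B x u' • u := sub_eq_zero.mp h1
    have hc0 : B x u' ≠ 0 := by
      intro h0
      rw [h0, zero_smul] at h3
      exact hx0 h3
    have h4 : B u a = 0 := by
      have := hxa
      rw [h3, map_smul, LinearMap.smul_apply, smul_eq_mul] at this
      rcases mul_eq_zero.mp this with h | h
      · exact absurd h hc0
      · exact h
    have h5 : B u b = 0 := by
      have := hxb
      rw [h3, map_smul, LinearMap.smul_apply, smul_eq_mul] at this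
      rcases mul_eq_zero.mp this with h | h
      · exact absurd h hc0
      · exact h
    apply hx0
    rw [hxdef, h4, h5]
    simp
  -- step 2: moreover nonsingular
  obtain ⟨z, hz, hzu, hxz, hQz⟩ : ∃ z ∈ V₀, B z u = 0 ∧ B x z ≠ 0 ∧ Q z ≠ 0 := by
    by_cases hQz₀ : Q z₀ = 0
    · obtain ⟨x₁, hx₁, x₂, hx₂, hQx₁, hQx₂, hx₁x₂, hx₁l, hx₂l⟩ := R.rat_hyp hN [u, z₀]
        (by
          intro p hp
          simp only [List.mem_cons, List.not_mem_nil, or_false] at hp
          rcases hp with rfl | rfl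
          · exact hu
          · exact hz₀)
        (by simp only [List.length_cons, List.length_nil]; omega)
      have hx₁u : B x₁ u = 0 := hx₁l u (by simp)
      have hx₂u : B x₂ u = 0 := hx₂l u (by simp)
      have hx₁z : B x₁ z₀ = 0 := hx₁l z₀ (by simp)
      have hx₂z : B x₂ z₀ = 0 := hx₂l z₀ (by simp)
      have hQm : Q (x₁ + x₂) = 1 := by rw [R.hQp, hQx₁, hQx₂, hx₁x₂]; ring
      have hmu : B (x₁ + x₂) u = 0 := by rw [map_add, LinearMap.add_apply, hx₁u, hx₂u, add_zero]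
      by_cases hxm : B x (x₁ + x₂) = 0
      · refine ⟨z₀ + (x₁ + x₂), V₀.add_mem hz₀ (V₀.add_mem hx₁ hx₂), ?_, ?_, ?_⟩
        · rw [map_add, LinearMap.add_apply, hz₀u, hmu, add_zero]
        · rw [map_add, hxm, add_zero]; exact hxz₀
        · rw [R.hQp, hQz₀, hQm, map_add, hsymm z₀ x₁, hsymm z₀ x₂, hx₁z, hx₂z]
          simp
      · exact ⟨x₁ + x₂, V₀.add_mem hx₁ hx₂, hmu, hxm, by rw [hQm]; exact one_ne_zero⟩
    · exact ⟨z₀, hz₀, hz₀u, hxz₀, hQz₀⟩
  -- step 3: the decomposition `z = z₁ + z₂`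
  obtain ⟨Δ, hΔ⟩ : ∃ Δ : F, Δ = B x z := ⟨_, rfl⟩
  have hΔ0 : Δ ≠ 0 := by rw [hΔ]; exact hxz
  obtain ⟨c, hc⟩ : ∃ c : F, c = -(Q z) / Δ := ⟨_, rfl⟩
  have hc0 : c ≠ 0 := by rw [hc]; exact div_ne_zero (neg_ne_zero.mpr hQz) hΔ0
  obtain ⟨z₂, hz₂⟩ : ∃ z₂ : V, z₂ = c • (B u b • a - B u a • b) := ⟨_, rfl⟩
  have hz₂x : z₂ = (-c) • x := by rw [hz₂, hxdef]; module
  obtain ⟨z₁, hz₁⟩ : ∃ z₁ : V, z₁ = z - z₂ := ⟨_, rfl⟩
  have huz : B u z = 0 := by rw [hsymm, hzu]
  have huz₂ : B u z₂ = 0 := by rw [hz₂x, map_smul, hsymm u x, hxu, smul_zero]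
  have huz₁ : B u z₁ = 0 := by rw [hz₁, map_sub, huz, huz₂, sub_zero]
  have hQz₂ : Q z₂ = 0 := by
    rw [hz₂, R.hQs, sub_eq_add_neg, ← neg_smul, Q_add_smul Q B R.hQs R.hQp, R.hQs, hQa, hQb,
      map_smul, LinearMap.smul_apply, hab]
    simp
  have hzz₂ : B z z₂ = Q z := by
    rw [hz₂x, map_smul, hsymm z x, ← hΔ, hc, smul_eq_mul]
    field_simp
  have hQz₁ : Q z₁ = 0 := by
    have e : z₁ = z + (-1 : F) • z₂ := by rw [hz₁]; module
    rw [e, Q_add_smul Q B R.hQs R.hQp, hQz₂, hzz₂]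
    ring
  have haz₂ : B a z₂ = 0 := by rw [hz₂x, map_smul, hsymm a x, hxa, smul_zero]
  have hbz₂ : B b z₂ = 0 := by rw [hz₂x, map_smul, hsymm b x, hxb, smul_zero]
  have hΔ' : Δ = B a u * B b z₁ - B a z₁ * B b u := by
    rw [hΔ, hz₁, map_sub, map_sub, haz₂, hbz₂, sub_zero, sub_zero, hxdef]
    simp only [map_sub, map_smul, LinearMap.sub_apply, LinearMap.smul_apply, smul_eq_mul,
      hsymm u a, hsymm u b]
    ring
  -- step 4: the odd order
  obtain ⟨a', ha'⟩ : ∃ a' : V, a' = Δ⁻¹ • (B z₁ b • u - B u b • z₁) := ⟨_, rfl⟩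
  obtain ⟨b', hb'⟩ : ∃ b' : V, b' = Δ⁻¹ • (-(B z₁ a) • u + B u a • z₁) := ⟨_, rfl⟩
  have H : Hyp4 Q B a b a' b' := by
    rw [ha', hb']
    exact hyp4_of_minor R.hQs R.hQp hQa hQb hab hQu hQz₁ huz₁ hΔ' hΔ0
  have hL := rho_tL_eq R.hQs R.hQp hQu hQz₁ huz₁ hΔ' hΔ0 ha' hb' H (-1)
  rw [neg_neg, one_smul] at hL
  have hU := rho_tU R.hQs R.hQp H (1 : F)
  rw [one_smul] at hU
  obtain ⟨e, he, hpow⟩ := exists_odd_pow h2 (d := -1 * Δ)
    (mul_ne_zero (neg_ne_zero.mpr one_ne_zero) hΔ0)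
  have hpow' : (sieg Q B a b * sieg Q B u z₁) ^ e = 1 := by
    rw [← hU, ← hL, ← map_mul, ← map_pow, hpow, map_one]
  -- step 5: the element `sieg u z₂` lies in the overgroup
  have hzsum : z = z₁ + z₂ := by rw [hz₁]; abel
  have hs₂ : sieg Q B u z₂ * sieg Q B u z₂ = 1 := by
    rw [sieg_mul Q B R.hQs R.hQp hQu huz₂ huz₂]
    have e0 : z₂ + z₂ = 0 := by
      have : z₂ + z₂ = (2 : F) • z₂ := by module
      rw [this, h2, zero_smul]
    rw [e0, sieg_zero_right Q B R.hQs R.hQp hQu]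
  have hcomm : sieg Q B a b * sieg Q B u z₂ = sieg Q B u z₂ * sieg Q B a b := by
    rw [hz₂]
    exact sieg_comm R.hQs R.hQp hQa hQb hab hQu c
  have hcomm' : sieg Q B u z₁ * sieg Q B u z₂ = sieg Q B u z₂ * sieg Q B u z₁ := by
    rw [sieg_mul Q B R.hQs R.hQp hQu huz₁ huz₂, sieg_mul Q B R.hQs R.hQp hQu huz₂ huz₁,
      add_comm]
  have hfin := pow_eq_of_odd he hpow' hcomm hcomm' hs₂
  rw [sieg_mul Q B R.hQs R.hQp hQu huz₁ huz₂, ← hzsum] at hfin
  have hi : sieg Q B u z ∈ M := R.rat_sieg_mem S M G hS hG2 hHM hu hz hQu huz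
  have hs₂M : sieg Q B u z₂ ∈ M := by
    rw [← hfin]
    exact M.pow_mem (M.mul_mem hg hi) e
  -- step 6: rationality
  obtain ⟨κ, hκ⟩ := unip_rat_9 R S M G hS hG2 hHM hMO hA0 hN h9 hu hQu hu0 huz₂ hs₂M
  refine ⟨-c⁻¹, κ, z₂ - κ • u, hκ, ?_⟩
  rw [sub_add_cancel, hz₂x, smul_smul]
  have : -c⁻¹ * -c = 1 := by field_simp
  rw [this, one_smul]


include R hS hG2 hHM hMO hA0 in
/-- In characteristic two: if `sieg a b` lies in the overgroup (`a, b` an independent totally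
singular pair), then `a` and `b` lie in the span of four rational vectors. -/
theorem line_trap_9 (hN : B.Nondegenerate) (h9 : 9 ≤ finrank F V) (h2 : (2 : F) = 0)
    {a b : V} (hQa : Q a = 0) (hQb : Q b = 0) (hab : B a b = 0) (hg : sieg Q B a b ∈ M)
    (hind : ∀ s t : F, s • a + t • b = 0 → s = 0 ∧ t = 0) :
    ∃ r₁ ∈ V₀, ∃ r₂ ∈ V₀, ∃ r₃ ∈ V₀, ∃ r₄ ∈ V₀, ∀ p : V, B p r₁ = 0 → B p r₂ = 0 →
      B p r₃ = 0 → B p r₄ = 0 → B p a = 0 ∧ B p b = 0 := by
  have hsymm := R.symm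
  have ha0 : a ≠ 0 := by
    intro h0
    have := (hind 1 0 (by rw [h0]; simp)).1
    exact one_ne_zero this
  obtain ⟨u, hu, hQu, hau⟩ := R.exists_rat_sing_ne hN (by omega) ha0
  have hx0 : nm B a b u ≠ 0 := by
    intro h0
    have h1 : (-(B u b)) • a + B u a • b = 0 := by
      rw [← h0]; unfold nm; module
    have := (hind _ _ h1).2
    rw [hsymm] at this
    exact hau this
  obtain ⟨u', hu', hQu', hxu'⟩ := R.exists_rat_sing_ne hN (by omega) hx0
  have hD : B u a * B u' b - B u b * B u' a ≠ 0 := by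
    intro h0
    apply hxu'
    unfold nm
    simp only [map_sub, map_smul, LinearMap.sub_apply, LinearMap.smul_apply, smul_eq_mul,
      hsymm b u', hsymm a u']
    linear_combination h0
  have hx0' : nm B a b u' ≠ 0 := by
    intro h0
    have h1 : (-(B u' b)) • a + B u' a • b = 0 := by
      rw [← h0]; unfold nm; module
    obtain ⟨e1, e2⟩ := hind _ _ h1
    apply hD
    rw [e2, neg_eq_zero.mp e1]
    ring
  obtain ⟨lam, κ, v, hv, e⟩ := point_step_9 R S M G hS hG2 hHM hMO hA0 hN h9 h2 hQa hQb hab hg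
    hu hQu hx0
  obtain ⟨lam', κ', v', hv', e'⟩ := point_step_9 R S M G hS hG2 hHM hMO hA0 hN h9 h2 hQa hQb hab hg
    hu' hQu' hx0'
  refine ⟨u, hu, v, hv, u', hu', v', hv', ?_⟩
  intro p h1 h2' h3 h4
  have hpx : B p (nm B a b u) = 0 := by
    rw [e]
    simp only [map_smul, map_add, smul_eq_mul, h1, h2', mul_zero, add_zero]
  have hpx' : B p (nm B a b u') = 0 := by
    rw [e']
    simp only [map_smul, map_add, smul_eq_mul, h3, h4, mul_zero, add_zero]
  unfold nm at hpx hpx'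
  simp only [map_sub, map_smul, smul_eq_mul] at hpx hpx'
  constructor
  · have : (B u a * B u' b - B u b * B u' a) * B p a = 0 := by
      linear_combination B u' a * hpx - B u a * hpx'
    rcases mul_eq_zero.mp this with h | h
    · exact absurd h hD
    · exact h
  · have : (B u a * B u' b - B u b * B u' a) * B p b = 0 := by
      linear_combination B u' b * hpx - B u b * hpx'
    rcases mul_eq_zero.mp this with h | h
    · exact absurd h hD
    · exact h


include R hS hG2 hHM hMO hA0 in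
/-- **Rationality of the minors** of a totally singular pair `a, b` with `sieg a b` in the
overgroup, when `a, b` lie in the span of four rational vectors (double commutator with rational
Siegel elements). -/
theorem minor_rat_of_trap_9 (hN : B.Nondegenerate) (h9 : 9 ≤ finrank F V)
    {a b : V} (hQa : Q a = 0) (hQb : Q b = 0) (hab : B a b = 0) (hg₁ : sieg Q B a b ∈ M)
    {r₁ r₂ r₃ r₄ : V} (hr₁ : r₁ ∈ V₀) (hr₂ : r₂ ∈ V₀) (hr₃ : r₃ ∈ V₀) (hr₄ : r₄ ∈ V₀)
    (htrap : ∀ p : V, B p r₁ = 0 → B p r₂ = 0 → B p r₃ = 0 → B p r₄ = 0 →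
      B p a = 0 ∧ B p b = 0)
    {t y : V} (ht : t ∈ V₀) (hy : y ∈ V₀) (hQt : Q t = 0) (hQy : Q y = 0) (hty : B t y = 0) :
    B a t * B b y - B a y * B b t ∈ F₀ := by
  have hsymm := R.symm
  -- the first rational singular vector
  obtain ⟨p, hp, hp0, hQp, hpl⟩ := R.rat_sing_perp [r₁, r₂, r₃, r₄, t, y]
    (by
      intro v hv
      simp only [List.mem_cons, List.not_mem_nil, or_false] at hv
      rcases hv with rfl | rfl | rfl | rfl | rfl | rfl
      · exact hr₁
      · exact hr₂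
      · exact hr₃
      · exact hr₄
      · exact ht
      · exact hy)
    (by simp only [List.length_cons, List.length_nil]; omega)
  obtain ⟨hpa, hpb⟩ := htrap p (hpl r₁ (by simp)) (hpl r₂ (by simp)) (hpl r₃ (by simp))
    (hpl r₄ (by simp))
  have hpt : B p t = 0 := hpl t (by simp)
  have hpy : B p y = 0 := hpl y (by simp)
  -- first commutator
  obtain ⟨n, hn⟩ : ∃ n : V, n = nm B a b t := ⟨_, rfl⟩
  have hpn : B p n = 0 := by
    rw [hn]
    unfold nm
    rw [map_sub, map_smul, map_smul, hpa, hpb, smul_zero, smul_zero, sub_zero]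
  have hh₁ : sieg Q B p t ∈ M := R.rat_sieg_mem S M G hS hG2 hHM hp ht hQp hpt
  have hg₁O : sieg Q B a b ∈ oG Q := hMO hg₁
  have hc₁ := conj_sieg Q B R.hQs R.hQp hg₁O hQp hpt
  have e1 : sieg Q B a b p = p := by
    rw [sieg_apply Q B R.hQs R.hQp hQa hab, hpa, hpb]
    simp
  have e2 : sieg Q B a b t = t + n := by
    rw [sieg_apply Q B R.hQs R.hQp hQa hab, hQb, hn]
    unfold nm
    module
  rw [e1, e2] at hc₁
  have hg₂ : sieg Q B p n ∈ M := by
    have h1 : sieg Q B a b * sieg Q B p t * (sieg Q B a b)⁻¹ * (sieg Q B p t)⁻¹ ∈ M :=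
      M.mul_mem (M.mul_mem (M.mul_mem hg₁ hh₁) (M.inv_mem hg₁)) (M.inv_mem hh₁)
    rw [hc₁, sieg_inv Q B R.hQs R.hQp hQp hpt,
      sieg_mul Q B R.hQs R.hQp hQp (by rw [map_add, hpt, hpn, add_zero])
        (by rw [map_neg, hpt, neg_zero])] at h1
    have e : t + n + -t = n := by abel
    rwa [e] at h1
  -- rationality of the direction
  obtain ⟨κ, hκ⟩ := unip_rat_9 R S M G hS hG2 hHM hMO hA0 hN h9 hp hQp hp0 hpn hg₂
  have h3 : -(B y n) ∈ F₀ := by
    have e : B y n = B y (n - κ • p) := by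
      rw [map_sub, map_smul, hsymm y p, hpy, smul_zero, sub_zero]
    rw [e]
    exact F₀.neg_mem (R.bval hy hκ)
  have e : B a t * B b y - B a y * B b t = -(-(B y n)) := by
    rw [hn]
    unfold nm
    simp only [map_sub, map_smul, smul_eq_mul]
    rw [hsymm t a, hsymm t b, hsymm y a, hsymm y b]
    ring
  rw [e]
  exact F₀.neg_mem h3

end Two2

section Two3

variable (R : QStr Q B F₀ V₀)

variable [Finite F] [FiniteDimensional F V]

variable (k : V ≃ₗ[F] V) (hk : k ∈ oG Q)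
  (hmin : ∀ u w t y : V, u ∈ V₀ → w ∈ V₀ → t ∈ V₀ → y ∈ V₀ → Q u = 0 → Q w = 0 → Q t = 0 →
    Q y = 0 → B u w = 0 → B t y = 0 → B (k u) t * B (k w) y - B (k u) y * B (k w) t ∈ F₀)

include R hk hmin in
/-- Second step in characteristic two: the skew map of the image of a rational totally singular
pair preserves the rational structure. -/
lemma nm_rat2_9 (hN : B.Nondegenerate) (h9 : 9 ≤ finrank F V) (h2 : (2 : F) = 0) {u w : V}
    (hu : u ∈ V₀) (hw : w ∈ V₀) (hQu : Q u = 0) (hQw : Q w = 0) (huw : B u w = 0) {v : V}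
    (hv : v ∈ V₀) : nm B (k u) (k w) v ∈ V₀ := by
  have hsymm := R.symm
  have hdbl : ∀ c : F, c + c = 0 := by
    intro c
    rw [← two_mul, h2, zero_mul]
  -- a base point
  obtain ⟨t₀, z₀, P₀⟩ := exists_rpair7 R hN (by omega)
  obtain ⟨κ₀, hκ₀⟩ := nm_kappa7 R k hmin hN (by omega) hu hw hQu hQw huw P₀.hu P₀.Qu P₀.u0
  -- the good vectors
  have step : ∀ t ∈ V₀, Q t = 0 → t ≠ 0 → ∀ y ∈ V₀, B t y ≠ 0 →
      (∃ κy : F, nm B (k u) (k w) y - κy • y ∈ V₀ ∧ κy + κ₀ ∈ F₀) →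
      ∃ κt : F, nm B (k u) (k w) t - κt • t ∈ V₀ ∧ κt + κ₀ ∈ F₀ := by
    intro t ht hQt ht0 y hy hty ⟨κy, hκy, hy0⟩
    obtain ⟨κt, hκt⟩ := nm_kappa7 R k hmin hN (by omega) hu hw hQu hQw huw ht hQt ht0
    refine ⟨κt, hκt, ?_⟩
    have a1 := R.kappa_add ht hy hκt hκy hty
    have e : κt + κ₀ = (κt + κy) + (κy + κ₀) := by
      linear_combination -(hdbl κy)
    rw [e]
    exact F₀.add_mem a1 hy0
  have base : ∃ κy : F, nm B (k u) (k w) t₀ - κy • t₀ ∈ V₀ ∧ κy + κ₀ ∈ F₀ :=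
    ⟨κ₀, hκ₀, by rw [hdbl]; exact F₀.zero_mem⟩
  have good : ∀ t ∈ V₀, Q t = 0 → t ≠ 0 →
      ∃ κt : F, nm B (k u) (k w) t - κt • t ∈ V₀ ∧ κt + κ₀ ∈ F₀ := by
    intro t ht hQt ht0
    by_cases htt₀ : B t t₀ = 0
    · obtain ⟨y₁, hy₁, hQy₁, hy₁t⟩ := R.rat_sno0 hN (by omega) ht ht0
      obtain ⟨y₂, hy₂, hQy₂, hy₂t₀⟩ := R.rat_sno0 hN (by omega) P₀.hu P₀.u0
      have hy₁0 : y₁ ≠ 0 := by
        intro h0
        rw [h0, map_zero, LinearMap.zero_apply] at hy₁t
        exact hy₁t rfl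
      have hy₂0 : y₂ ≠ 0 := by
        intro h0
        rw [h0, map_zero, LinearMap.zero_apply] at hy₂t₀
        exact hy₂t₀ rfl
      have hty₁ : B t y₁ ≠ 0 := by rw [hsymm]; exact hy₁t
      by_cases h1 : B y₁ t₀ = 0
      · by_cases h3 : B y₂ t = 0
        · by_cases h4 : B y₁ y₂ = 0
          · -- the sum `y₁ + y₂`
            have hQs : Q (y₁ + y₂) = 0 := by rw [R.hQp, hQy₁, hQy₂, h4]; ring
            have hs0 : y₁ + y₂ ≠ 0 := by
              intro h0
              have : B (y₁ + y₂) t = 0 := by rw [h0, map_zero, LinearMap.zero_apply]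
              rw [map_add, LinearMap.add_apply, h3, add_zero] at this
              exact hy₁t this
            have hst₀ : B (y₁ + y₂) t₀ ≠ 0 := by
              rw [map_add, LinearMap.add_apply, h1, zero_add]; exact hy₂t₀
            have hts : B t (y₁ + y₂) ≠ 0 := by
              rw [map_add, hsymm t y₂, h3, add_zero]; exact hty₁
            exact step t ht hQt ht0 _ (V₀.add_mem hy₁ hy₂) hts
              (step _ (V₀.add_mem hy₁ hy₂) hQs hs0 t₀ P₀.hu hst₀ base)
          · exact step t ht hQt ht0 y₁ hy₁ hty₁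
              (step y₁ hy₁ hQy₁ hy₁0 y₂ hy₂ h4 (step y₂ hy₂ hQy₂ hy₂0 t₀ P₀.hu hy₂t₀ base))
        · exact step t ht hQt ht0 y₂ hy₂ (by rw [hsymm]; exact h3)
            (step y₂ hy₂ hQy₂ hy₂0 t₀ P₀.hu hy₂t₀ base)
      · exact step t ht hQt ht0 y₁ hy₁ hty₁ (step y₁ hy₁ hQy₁ hy₁0 t₀ P₀.hu h1 base)
    · exact step t ht hQt ht0 t₀ P₀.hu htt₀ base
  -- the shifted map preserves the rational structure
  have key : ∀ t ∈ V₀, Q t = 0 → nm B (k u) (k w) t - κ₀ • t ∈ V₀ := by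
    intro t ht hQt
    by_cases ht0 : t = 0
    · rw [ht0, nm_zero, smul_zero, sub_zero]; exact V₀.zero_mem
    obtain ⟨κt, hκt, hsum⟩ := good t ht hQt ht0
    have e : nm B (k u) (k w) t - κ₀ • t =
        (nm B (k u) (k w) t - κt • t) + (κt + κ₀) • t := by
      have : (κt + κ₀) • t = κt • t - κ₀ • t + (κ₀ + κ₀) • t := by module
      rw [this, hdbl, zero_smul]
      abel
    rw [e]
    exact V₀.add_mem hκt (R.smul_mem _ _ hsum ht)
  have key2 : ∀ x ∈ V₀, nm B (k u) (k w) x - κ₀ • x ∈ V₀ := by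
    intro x hx
    obtain ⟨s₁, hs₁, s₂, hs₂, hQ₁, hQ₂, -, -, rfl⟩ :=
      R.rat_two_sing hN (by omega) V₀.zero_mem hx (Q_zero Q R.hQs) (by simp)
    have e : nm B (k u) (k w) (s₁ + s₂) - κ₀ • (s₁ + s₂) =
        (nm B (k u) (k w) s₁ - κ₀ • s₁) + (nm B (k u) (k w) s₂ - κ₀ • s₂) := by
      rw [nm_add, smul_add]; abel
    rw [e]
    exact V₀.add_mem (key s₁ hs₁ hQ₁) (key s₂ hs₂ hQ₂)
  -- the shift is rational
  have hκm : κ₀ ∈ F₀ := by
    apply mem_of_sq_mem h2
    have haa : B (k u) (k u) = 0 := by rw [B_self Q B R.hQs R.hQp, h2, zero_mul]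
    have hbb : B (k w) (k w) = 0 := by rw [B_self Q B R.hQs R.hQp, h2, zero_mul]
    have hab : B (k u) (k w) = 0 := by rw [oG_B Q B R.hQp hk, huw]
    have h1 := key2 _ (key2 t₀ P₀.hu)
    have e : nm B (k u) (k w) (nm B (k u) (k w) t₀ - κ₀ • t₀) -
        κ₀ • (nm B (k u) (k w) t₀ - κ₀ • t₀) = (κ₀ * κ₀) • t₀ := by
      rw [nm_sub_smul, nm_nm hsymm hab haa hbb]
      have : (0 : V) - κ₀ • nm B (k u) (k w) t₀ - κ₀ • (nm B (k u) (k w) t₀ - κ₀ • t₀) =
          (κ₀ * κ₀) • t₀ - ((κ₀ + κ₀)) • nm B (k u) (k w) t₀ := by module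
      rw [this, hdbl, zero_smul, sub_zero]
    rw [e] at h1
    exact R.mem_of_smul hN P₀.hu P₀.u0 h1
  have e : nm B (k u) (k w) v = (nm B (k u) (k w) v - κ₀ • v) + κ₀ • v := by abel
  rw [e]
  exact V₀.add_mem (key2 v hv) (R.smul_mem _ _ hκm hv)

include R hk hmin in
/-- Third step: the image of a rational singular vector is a rational point. -/
lemma pt_rat2_9 (hN : B.Nondegenerate) (h9 : 9 ≤ finrank F V) (h2 : (2 : F) = 0) {u : V}
    (hu : u ∈ V₀) (hQu : Q u = 0) : ∃ μ : F, ∃ v ∈ V₀, k u = μ • v := by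
  have hsymm := R.symm
  by_cases hu0 : u = 0
  · exact ⟨1, 0, V₀.zero_mem, by rw [hu0, map_zero, smul_zero]⟩
  obtain ⟨w, hw, w', hw', hQw, hQw', hww', hwl, hw'l⟩ := R.rat_hyp hN [u]
    (by
      intro v hv
      simp only [List.mem_cons, List.not_mem_nil, or_false] at hv
      rw [hv]; exact hu)
    (by simp only [List.length_cons, List.length_nil]; omega)
  have hwu : B w u = 0 := hwl u (by simp)
  have hw'u : B w' u = 0 := hw'l u (by simp)
  have hku0 : k u ≠ 0 := fun h0 => hu0 (by simpa using h0)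
  obtain ⟨x, hx, hax⟩ := R.exists_rat_ne hN hku0
  have h1 : nm B (k u) (k w') x ∈ V₀ :=
    nm_rat2_9 R k hk hmin hN h9 h2 hu hw' hQu hQw' (by rw [hsymm, hw'u]) hx
  have h3 : nm B (k u) (k w) (nm B (k u) (k w') x) ∈ V₀ :=
    nm_rat2_9 R k hk hmin hN h9 h2 hu hw hQu hQw (by rw [hsymm, hwu]) h1
  have huu : B u u = 0 := by rw [B_self Q B R.hQs R.hQp, hQu, mul_zero]
  have e : nm B (k u) (k w) (nm B (k u) (k w') x) = (-(B x (k u))) • k u := by
    unfold nm
    simp only [map_sub, map_smul, LinearMap.sub_apply, LinearMap.smul_apply, smul_eq_mul,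
      oG_B Q B R.hQp hk, huu, hw'u, hwu, hsymm u w, hsymm u w', hsymm w' w, hww', mul_zero,
      mul_one, sub_zero, zero_smul, zero_sub]
    module
  rw [e] at h3
  have hxa : B x (k u) ≠ 0 := by rw [hsymm]; exact hax
  refine ⟨(-(B x (k u)))⁻¹, _, h3, ?_⟩
  rw [smul_smul, inv_mul_cancel₀ (neg_ne_zero.mpr hxa), one_smul]

include R hk hmin in
/-- Fourth step: compatibility of the scalars along a rational totally singular pair. -/
lemma scalar_compat2_9 (hN : B.Nondegenerate) (h9 : 9 ≤ finrank F V) (h2 : (2 : F) = 0)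
    {u₁ u₂ : V} (P : RPair Q B F₀ V₀ u₁ u₂) {μ₁ : F} {v₁ : V} (hv₁ : v₁ ∈ V₀)
    (h1 : k u₁ = μ₁ • v₁) : ∃ v₂ ∈ V₀, k u₂ = μ₁ • v₂ := by
  have hsymm := R.symm
  have hu₂0 : u₂ ≠ 0 := by
    intro h0
    exact P.ind 0 F₀.zero_mem (by rw [h0, zero_smul])
  have hk1 : k u₁ ≠ 0 := fun h0 => P.u0 (by simpa using h0)
  have hk2 : k u₂ ≠ 0 := fun h0 => hu₂0 (by simpa using h0)
  have hμ₁ : μ₁ ≠ 0 := by
    intro h0
    rw [h0, zero_smul] at h1
    exact hk1 h1
  have hv₁0 : v₁ ≠ 0 := by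
    intro h0
    rw [h0, smul_zero] at h1
    exact hk1 h1
  obtain ⟨μ₂, v₂, hv₂, h2'⟩ := pt_rat2_9 R k hk hmin hN h9 h2 P.hz P.Qz
  have hμ₂ : μ₂ ≠ 0 := by
    intro h0
    rw [h0, zero_smul] at h2'
    exact hk2 h2'
  have hv₂0 : v₂ ≠ 0 := by
    intro h0
    rw [h0, smul_zero] at h2'
    exact hk2 h2'
  have hQ12 : Q (u₁ + u₂) = 0 := by rw [R.hQp, P.Qu, P.Qz, P.Buz]; ring
  obtain ⟨μ₃, v₃, hv₃, h3⟩ := pt_rat2_9 R k hk hmin hN h9 h2 (V₀.add_mem P.hu P.hz) hQ12
  rw [map_add, h1, h2'] at h3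
  -- `v₁` is not a rational multiple of `v₂`
  have hind : ∀ t : F, t ∈ F₀ → v₁ ≠ t • v₂ := by
    intro t ht hv
    have e : k u₁ = k ((μ₁ * t / μ₂) • u₂) := by
      rw [map_smul, h1, h2', hv, smul_smul, smul_smul]
      congr 1
      field_simp
    have e' : u₁ = (μ₁ * t / μ₂) • u₂ := k.injective e
    have hcm : μ₁ * t / μ₂ ∈ F₀ := R.mem_of_smul hN P.hz hu₂0 (by rw [← e']; exact P.hu)
    have hc0 : μ₁ * t / μ₂ ≠ 0 := by
      intro h0
      rw [h0, zero_smul] at e'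
      exact P.u0 e'
    apply P.ind (μ₁ * t / μ₂)⁻¹ (F₀.inv_mem hcm)
    rw [e', smul_smul, inv_mul_cancel₀ hc0, one_smul]
  have hind' : ∀ t : F, t ∈ F₀ → v₂ ≠ t • v₁ := by
    intro t ht hv
    have ht0 : t ≠ 0 := by
      intro h0
      rw [h0, zero_smul] at hv
      exact hv₂0 hv
    apply hind t⁻¹ (F₀.inv_mem ht)
    rw [hv, smul_smul, inv_mul_cancel₀ ht0, one_smul]
  obtain ⟨y₁, hy₁, -, hy₁v₂, hy₁v₁⟩ := R.rat_sno hN (by omega) hv₂ hv₁ hind
  obtain ⟨y₂, hy₂, -, hy₂v₁, hy₂v₂⟩ := R.rat_sno hN (by omega) hv₁ hv₂ hind'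
  have p1 : μ₁ * B y₁ v₁ = μ₃ * B y₁ v₃ := by
    have := congrArg (fun z => B y₁ z) h3
    simp only [map_add, map_smul, smul_eq_mul, hy₁v₂, mul_zero, add_zero] at this
    exact this
  have p2 : μ₂ * B y₂ v₂ = μ₃ * B y₂ v₃ := by
    have := congrArg (fun z => B y₂ z) h3
    simp only [map_add, map_smul, smul_eq_mul, hy₂v₁, mul_zero, zero_add] at this
    exact this
  have hμ₃ : μ₃ ≠ 0 := by
    intro h0
    rw [h0, zero_mul] at p1
    rcases mul_eq_zero.mp p1 with h | h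
    · exact hμ₁ h
    · exact hy₁v₁ h
  have hy₁v₃ : B y₁ v₃ ≠ 0 := by
    intro h0
    rw [h0, mul_zero] at p1
    rcases mul_eq_zero.mp p1 with h | h
    · exact hμ₁ h
    · exact hy₁v₁ h
  obtain ⟨c, hc⟩ : ∃ c : F, c = (B y₂ v₃ / B y₂ v₂) * (B y₁ v₁ / B y₁ v₃) := ⟨_, rfl⟩
  have hcm : c ∈ F₀ := by
    rw [hc]
    exact F₀.mul_mem (F₀.div_mem (R.bval hy₂ hv₃) (R.bval hy₂ hv₂))
      (F₀.div_mem (R.bval hy₁ hv₁) (R.bval hy₁ hv₃))
  have hμ : μ₂ = μ₁ * c := by
    rw [hc]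
    have e1 : μ₂ = μ₃ * B y₂ v₃ / B y₂ v₂ := by
      rw [← p2, mul_div_assoc, div_self hy₂v₂, mul_one]
    have e2 : μ₃ = μ₁ * B y₁ v₁ / B y₁ v₃ := by
      rw [p1, mul_div_assoc, div_self hy₁v₃, mul_one]
    rw [e1, e2]
    field_simp
  refine ⟨c • v₂, R.smul_mem _ _ hcm hv₂, ?_⟩
  rw [h2', hμ, mul_smul]

include R hk hmin in
/-- **Rational minors force the isometry to map the rational structure to a multiple of
itself.** -/
theorem rat_of_minors2_9 (hN : B.Nondegenerate) (h9 : 9 ≤ finrank F V) (h2 : (2 : F) = 0) :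
    ∃ μ : F, μ ≠ 0 ∧ ∀ v ∈ V₀, ∃ w ∈ V₀, k v = μ • w := by
  have hsymm := R.symm
  obtain ⟨u₀, z₀, P₀⟩ := exists_rpair7 R hN (by omega)
  obtain ⟨μ₀, v₀, hv₀, h0⟩ := pt_rat2_9 R k hk hmin hN h9 h2 P₀.hu P₀.Qu
  have hk0 : k u₀ ≠ 0 := fun h => P₀.u0 (by simpa using h)
  have hμ₀ : μ₀ ≠ 0 := by
    intro h
    rw [h, zero_smul] at h0
    exact hk0 h0
  refine ⟨μ₀, hμ₀, ?_⟩
  -- singular vectors
  have key : ∀ u ∈ V₀, Q u = 0 → ∃ w ∈ V₀, k u = μ₀ • w := by
    intro u hu hQu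
    by_cases hu0 : u = 0
    · exact ⟨0, V₀.zero_mem, by rw [hu0, map_zero, smul_zero]⟩
    obtain ⟨x, hx, x', hx', hQx, hQx', hxx', hxl, hx'l⟩ := R.rat_hyp hN [u₀, u]
      (by
        intro v hv
        simp only [List.mem_cons, List.not_mem_nil, or_false] at hv
        rcases hv with rfl | rfl
        · exact P₀.hu
        · exact hu)
      (by simp only [List.length_cons, List.length_nil]; omega)
    have hxu₀ : B x u₀ = 0 := hxl u₀ (by simp)
    have hxu : B x u = 0 := hxl u (by simp)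
    have hx'u₀ : B x' u₀ = 0 := hx'l u₀ (by simp)
    have hx'u : B x' u = 0 := hx'l u (by simp)
    have hx0 : x ≠ 0 := by
      intro h
      rw [h, map_zero, LinearMap.zero_apply] at hxx'
      exact zero_ne_one hxx'
    have P₁ : RPair Q B F₀ V₀ u₀ x := by
      refine ⟨P₀.hu, hx, P₀.Qu, hQx, by rw [hsymm, hxu₀], P₀.u0, ?_⟩
      intro t _ h
      have h1 : B x x' = 0 := by
        rw [h, map_smul, LinearMap.smul_apply, hsymm u₀ x', hx'u₀, smul_zero]
      rw [hxx'] at h1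
      exact one_ne_zero h1
    have P₂ : RPair Q B F₀ V₀ x u := by
      refine ⟨hx, hu, hQx, hQu, hxu, hx0, ?_⟩
      intro t _ h
      have h1 : B x' u = t := by
        rw [h, map_smul, smul_eq_mul, hsymm x' x, hxx', mul_one]
      rw [hx'u] at h1
      apply hu0
      rw [h, ← h1, zero_smul]
    obtain ⟨v₁, hv₁, e1⟩ := scalar_compat2_9 R k hk hmin hN h9 h2 P₁ hv₀ h0
    exact scalar_compat2_9 R k hk hmin hN h9 h2 P₂ hv₁ e1
  intro v hv
  obtain ⟨s₁, hs₁, s₂, hs₂, hQ₁, hQ₂, -, -, rfl⟩ :=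
    R.rat_two_sing hN (by omega) V₀.zero_mem hv (Q_zero Q R.hQs) (by simp)
  obtain ⟨w₁, hw₁, e1⟩ := key s₁ hs₁ hQ₁
  obtain ⟨w₂, hw₂, e2⟩ := key s₂ hs₂ hQ₂
  exact ⟨w₁ + w₂, V₀.add_mem hw₁ hw₂, by rw [map_add, e1, e2, smul_add]⟩


end Two3

/-- **Maximality of the stabiliser of a rational structure over a subfield of prime index** in
the group generated by the Siegel elements of an orthogonal space of dimension at least `9` in
characteristic two. -/
theorem maximal_qsub2_9 [Finite F] [FiniteDimensional F V] (R : QStr Q B F₀ V₀)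
    (hN : B.Nondegenerate) (h2 : (2 : F) = 0) (G : Subgroup (V ≃ₗ[F] V)) (hG1 : G ≤ oG Q)
    (hG2 : ∀ u z, Q u = 0 → B u z = 0 → sieg Q B u z ∈ G)
    (hG3 : ∀ M : Subgroup (V ≃ₗ[F] V),
      (∀ u z, Q u = 0 → B u z = 0 → sieg Q B u z ∈ M) → G ≤ M)
    (h9 : 9 ≤ finrank F V)
    (hsimple : ∀ K : Subalgebra F₀ F, K = ⊥ ∨ K = ⊤) (hne : ∃ c : F, c ∉ F₀)
    (S : Subgroup (V ≃ₗ[F] V))
    (hS : ∀ g, g ∈ S ↔ ∃ μ : F, μ ≠ 0 ∧ ∀ v ∈ V₀, ∃ w ∈ V₀, g v = μ • w) :
    (S ⊓ G < G) ∧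
      ∀ M : Subgroup (V ≃ₗ[F] V), S ⊓ G ≤ M → M ≤ G → M = S ⊓ G ∨ M = G := by
  obtain ⟨c₀, hc₀⟩ := hne
  obtain ⟨u₀, z₀, P₀⟩ := exists_rpair7 R hN (by omega)
  constructor
  · refine lt_of_le_of_ne inf_le_right ?_
    intro heq
    have h1 : sieg Q B u₀ (c₀ • z₀) ∈ S ⊓ G := by
      rw [heq]
      exact hG2 _ _ P₀.Qu (by rw [map_smul, P₀.Buz, smul_zero])
    exact not_mem_S5 R S hS hN (by omega) P₀ hc₀ h1.1
  · intro M hHM hMG
    have hMO : M ≤ oG Q := hMG.trans hG1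
    rcases par_dichotomy7 R S M G hS hG2 hHM hMO hN (by omega) hsimple with hA0 | hall
    · left
      apply le_antisymm _ hHM
      intro k hk
      refine ⟨(hS k).mpr ?_, hMG hk⟩
      have hkO : k ∈ oG Q := hMO hk
      apply rat_of_minors2_9 R k hkO _ hN h9 h2
      intro u w t y hu hw ht hy hQu hQw hQt hQy huw hty
      by_cases hu0 : u = 0
      · rw [hu0, map_zero]
        simp only [map_zero, LinearMap.zero_apply, zero_mul, sub_zero]
        exact F₀.zero_mem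
      by_cases hind : ∀ t' : F, t' ∈ F₀ → w ≠ t' • u
      · -- the conjugate root element
        have hg : sieg Q B (k u) (k w) ∈ M := by
          rw [← conj_sieg Q B R.hQs R.hQp hkO hQu huw]
          exact M.mul_mem (M.mul_mem hk (R.rat_sieg_mem S M G hS hG2 hHM hu hw hQu huw))
            (M.inv_mem hk)
        have hQa : Q (k u) = 0 := by rw [hkO, hQu]
        have hQb : Q (k w) = 0 := by rw [hkO, hQw]
        have hab : B (k u) (k w) = 0 := by rw [oG_B Q B R.hQp hkO, huw]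
        have hli : ∀ s t' : F, s • k u + t' • k w = 0 → s = 0 ∧ t' = 0 := by
          intro s t' hst
          have h1 : s • u + t' • w = 0 := by
            apply k.injective
            rw [map_add, map_smul, map_smul, hst, map_zero]
          have ht'0 : t' = 0 := by
            by_contra hne
            have h3 : w = (-s / t') • u := by
              have : t' • w = (-s) • u := by
                rw [neg_smul]
                exact eq_neg_of_add_eq_zero_right h1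
              rw [div_eq_inv_mul, mul_smul, ← this, smul_smul, inv_mul_cancel₀ hne, one_smul]
            have h4 : -s / t' ∈ F₀ := R.mem_of_smul hN hu hu0 (by rw [← h3]; exact hw)
            exact hind _ h4 h3
          refine ⟨?_, ht'0⟩
          rw [ht'0, zero_smul, add_zero] at h1
          rcases smul_eq_zero.mp h1 with h | h
          · exact h
          · exact absurd h hu0
        obtain ⟨r₁, hr₁, r₂, hr₂, r₃, hr₃, r₄, hr₄, htrap⟩ :=
          line_trap_9 R S M G hS hG2 hHM hMO hA0 hN h9 h2 hQa hQb hab hg hli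
        exact minor_rat_of_trap_9 R S M G hS hG2 hHM hMO hA0 hN h9 hQa hQb hab hg hr₁ hr₂ hr₃ hr₄
          htrap ht hy hQt hQy hty
      · push Not at hind
        obtain ⟨t', -, rfl⟩ := hind
        have e : B (k u) t * B (k (t' • u)) y - B (k u) y * B (k (t' • u)) t = 0 := by
          simp only [map_smul, LinearMap.smul_apply, smul_eq_mul]
          ring
        rw [e]
        exact F₀.zero_mem
    · right
      apply le_antisymm hMG
      apply hG3
      intro x z hQx hxz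
      exact all_full5 R M hMO hall hN (by omega) hQx hxz

end Cfsg.Agent.Lib.Helper59_QSubTwo9
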