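import Mathlib
import Cfsg.Prelude.Def_GeometricClasses
import Cfsg.Agent.Lib.Helper94_QSubBridge
import Cfsg.Agent.Lib.Helper94_QSubScaled
import Cfsg.Agent.Lib.Helper14_SiegelOmega2
import Cfsg.Agent.Lib.Helper59_QSubTwo9
import Cfsg.Agent.Lib.Helper59_QSub7Bridge

/-!
# Orthogonal subfield groups `Ω_n(q₀) < Ω_n(q)`, `q` even, `n ≥ 9` (helper59)

`Helper38_QSubTwoBridge.qsub_maximal_two` with `9 ≤ n` instead of `13 ≤ n`, and the
characteristic-free scaled statement for `n ≥ 9` (in odd characteristic the pair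
`F₀ = 𝔽₃ ⊂ F = 𝔽₉` still needs `11 ≤ n`).
-/

set_option autoImplicit false
set_option linter.unusedSimpArgs false
set_option linter.unusedSectionVars false
set_option linter.unnecessarySimpa false
set_option linter.style.haveILetI false

namespace Cfsg.Agent.Lib.Helper59_QSubTwo9Bridge

open Matrix Module Cfsg.Agent.Lib.Helper94_Symp Cfsg.Agent.Lib.Helper94_Bridge
  Cfsg.Agent.Lib.Helper94_SLBridge
  Cfsg.Agent.Lib.Helper94_OrthSmall Cfsg.Agent.Lib.Helper94_OrthBridge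
  Cfsg.Agent.Lib.Helper94_OrthSiegel Cfsg.Agent.Lib.Helper94_OrthSiegel2
  Cfsg.Agent.Lib.Helper94_OrthGenBridge Cfsg.Agent.Lib.Helper94_OrthFinal
  Cfsg.Agent.Lib.Helper94_SubfieldBridge Cfsg.Agent.Lib.Helper94_QSub
  Cfsg.Agent.Lib.Helper94_QSubBridge Cfsg.Agent.Lib.Helper94_QSubScaled

variable {ι : Type} [Fintype ι] [DecidableEq ι] {F : Type*} [Field F] [Fintype F]

/-- **Maximality of the orthogonal subfield groups** (characteristic two, dimension at least
`9`, prime degree). -/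
theorem qsub_maximal_two9 (Q : (ι → F) → F) (hQ : Cfsg.Geo.IsNondegenerateQuadraticForm Q)
    (h2 : (2 : F) = 0) (hn : 9 ≤ Fintype.card ι) (F₀ : Subfield F) (r : ℕ) (hr : r.Prime)
    (hcard : Fintype.card F = Nat.card F₀ ^ r) (P : GL ι F)
    (hP : Cfsg.Geo.IsQuadFormRationalStructure Q F₀ P) :
    Cfsg.Geo.IsMaximalIn (Cfsg.Geo.omegaGL Q)
      (Cfsg.Geo.subfieldSubgroup F₀ P ⊓ Cfsg.Geo.omegaGL Q) := by
  classical
  have hfr : finrank F (ι → F) = Fintype.card ι := Module.finrank_pi F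
  have hfin : Module.finrank F₀ F = r := finrank_eq' F₀ r hcard
  have hp : (Module.finrank F₀ F).Prime := by rw [hfin]; exact hr
  haveI := Subalgebra.isSimpleOrder_of_finrank_prime F₀ F hp
  have hsimple : ∀ K : Subalgebra F₀ F, K = ⊥ ∨ K = ⊤ := fun K => eq_bot_or_eq_top K
  have hne : ∃ c : F, c ∉ F₀ := exists_not_mem F₀ (by rw [hfin]; exact hr.two_le)
  have hc2 : (2 : F) = 0 →
      commutator ↥(Cfsg.isometryGroup F (⇑(qfOf Q hQ))) ≤
        Cfsg.Agent.Lib.Helper14_Siegel.siegelGroup (qfOf Q hQ) :=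
    fun h2 => Cfsg.Agent.Lib.Helper14_SiegelOmega2.commutator_le_siegelGroup_two h2 _
      (polarBilin_qfOf_nondeg Q hQ) (by omega)
  have R := qstr_of Q hQ F₀ P hP
  let S : Subgroup ((ι → F) ≃ₗ[F] (ι → F)) :=
    (Cfsg.Geo.subfieldSubgroup F₀ P).comap (glEquiv ι F).symm.toMonoidHom
  have hSeq : Cfsg.Geo.subfieldSubgroup F₀ P = S.comap (glEquiv ι F).toMonoidHom :=
    (comap_symm_comap (glEquiv ι F) _).symm
  rw [hSeq, omegaGL_eq, ← Subgroup.comap_inf]
  apply isMaximalIn_comap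
  apply Cfsg.Agent.Lib.Helper59_QSubTwo9.maximal_qsub2_9 R (gen_hN Q hQ) h2 _
    (Subgroup.commutator_le_self _)
    (fun u z hu huz => sieg_mem_commutator' Q _ (gen_hQs Q hQ) (gen_hQp Q hQ) (gen_hN Q hQ)
      (by rw [hfr]; omega) hu huz)
    (gen_hG3 Q hQ hc2 (by omega)) (by rw [hfr]; exact hn) hsimple hne S
  intro g
  have key : ∀ x, (((glEquiv ι F).symm g : GL ι F) : Matrix ι ι F).mulVec x = g x := by
    intro x
    rw [← glEquiv_apply, MulEquiv.apply_symm_apply]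
  show (glEquiv ι F).symm g ∈ Cfsg.Geo.subfieldSubgroup F₀ P ↔ _
  rw [mem_subfieldSubgroup_iff]
  simp only [key]

/-- **Maximality of the orthogonal subfield groups**, with a scaled form on the rational
structure, in any characteristic, dimension at least `9` (at least `11` for `𝔽₃ ⊂ 𝔽₉`). -/
theorem qsub_maximal_all9 (Q : (ι → F) → F)
    (hQ : Cfsg.Geo.IsNondegenerateQuadraticForm Q)
    (hn : 9 ≤ Fintype.card ι) (F₀ : Subfield F) (r : ℕ) (hr : r.Prime)
    (h39 : Nat.card F₀ = 3 → r = 2 → 11 ≤ Fintype.card ι)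
    (hcard : Fintype.card F = Nat.card F₀ ^ r) (P : GL ι F) {ζ : F} (hζ : ζ ≠ 0)
    (hP : Cfsg.Geo.IsQuadFormRationalStructure (fun v : ι → F => ζ * Q v) F₀ P) :
    Cfsg.Geo.IsMaximalIn (Cfsg.Geo.omegaGL Q)
      (Cfsg.Geo.subfieldSubgroup F₀ P ⊓ Cfsg.Geo.omegaGL Q) := by
  by_cases h2 : (2 : F) = 0
  · have h := qsub_maximal_two9 (fun v : ι → F => ζ * Q v)
      (scaled_nondeg Q hQ hζ) h2 hn F₀ r hr hcard P hP
    rwa [omegaGL_scaled Q hζ] at h
  · exact Cfsg.Agent.Lib.Helper59_QSub7Bridge.qsub_maximal_scaled7 Q hQ h2 (by omega) F₀ r hr h39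
      hcard P hζ hP

end Cfsg.Agent.Lib.Helper59_QSubTwo9Bridge
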