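import Mathlib
import Cfsg.Prelude.Def_GeometricClasses
import Cfsg.Agent.Lib.Helper59_QSubTwo9Bridge
import Cfsg.Agent.Lib.Helper59_QSub39Bridge

/-!
# Orthogonal subfield groups, any characteristic, `n ≥ 9`, no exception (helper59)

`Helper59_QSubTwo9Bridge.qsub_maximal_all9` without the hypothesis `h39`.
-/

set_option autoImplicit false

namespace Cfsg.Agent.Lib.Helper59_QSubAll9

open Matrix

variable {ι : Type} [Fintype ι] [DecidableEq ι] {F : Type*} [Field F] [Fintype F]

/-- **Maximality of the orthogonal subfield groups**, with a scaled form on the rational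
structure, in any characteristic, dimension at least `9`, prime degree. -/
theorem qsub_maximal_all9_noex (Q : (ι → F) → F)
    (hQ : Cfsg.Geo.IsNondegenerateQuadraticForm Q)
    (hn : 9 ≤ Fintype.card ι) (F₀ : Subfield F) (r : ℕ) (hr : r.Prime)
    (hcard : Fintype.card F = Nat.card F₀ ^ r) (P : GL ι F) {ζ : F} (hζ : ζ ≠ 0)
    (hP : Cfsg.Geo.IsQuadFormRationalStructure (fun v : ι → F => ζ * Q v) F₀ P) :
    Cfsg.Geo.IsMaximalIn (Cfsg.Geo.omegaGL Q)
      (Cfsg.Geo.subfieldSubgroup F₀ P ⊓ Cfsg.Geo.omegaGL Q) := by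
  by_cases h2 : (2 : F) = 0
  · have h := Cfsg.Agent.Lib.Helper59_QSubTwo9Bridge.qsub_maximal_two9 (fun v : ι → F => ζ * Q v)
      (Cfsg.Agent.Lib.Helper94_QSubScaled.scaled_nondeg Q hQ hζ) h2 hn F₀ r hr hcard P hP
    rwa [Cfsg.Agent.Lib.Helper94_QSubScaled.omegaGL_scaled Q hζ] at h
  · exact Cfsg.Agent.Lib.Helper59_QSub39Bridge.qsub_maximal_scaled7_all Q hQ h2 (by omega) F₀ r hr
      hcard P hζ hP

end Cfsg.Agent.Lib.Helper59_QSubAll9
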