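import Mathlib
import Cfsg.Agent.Lib.Helper71_S2149Defs
import Cfsg.Agent.Lib.Helper5_SUOrder

/-!
# S2149 package MCARDB (architect helper71): `|BB| = 3000`

Transitivity of `SU(3,5)` on the 126 isotropic points by one transvection per point, then
orbit-stabiliser with `|SU(3,5)| = 378000`.
-/

set_option autoImplicit false

namespace Cfsg.Agent.Lib.Helper59_S2149_MCARDB

open Cfsg.Agent.Lib.Helper91_K25 Cfsg.Agent.Lib.Helper91_U3Pts Cfsg.Agent.Lib.Helper91_U3Theta
  Cfsg.Agent.Lib.Helper71_S2149Defs Matrix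

/-- the centre of a transvection moving the point `0` to the point `j` -/
def wOf (j : Fin 126) : V :=
  u0 + K25.cj (-(c0 * hf u0 (pt (iota j)))⁻¹) • pt (iota j)

set_option maxRecDepth 100000 in
theorem wOf_cert : ∀ j : Fin 126, j ≠ 0 →
    hf (wOf j) (wOf j) = 0 ∧ nrm (tv (wOf j) u0) = iota j := by
  decide +kernel

/-- `SU(3,5)` is transitive on the 126 isotropic points -/
theorem trans0 (j : Fin 126) : ∃ A : SU3, thetaX A 0 = j := by
  by_cases hj : j = 0
  · exact ⟨1, by rw [hj, map_one]; rfl⟩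
  · obtain ⟨h1, h2⟩ := wOf_cert j hj
    refine ⟨T (wOf j) h1, ?_⟩
    apply iota_injective
    rw [thetaX_spec, theta_T]
    exact h2

theorem card_SU3 : Nat.card SU3 = 378000 := by
  have h := Cfsg.Agent.Lib.Helper5_SUOrder.card_SU (F := K25) cardK25 3 (by norm_num)
  have h2 : (5 + 1) * Nat.card SU3 = (5 + 1) * 378000 := by
    rw [h]
    decide
  exact Nat.eq_of_mul_eq_mul_left (by norm_num) h2

/-- **S2149-MCARDB** -/
theorem card_BB : Nat.card ↥BB = 3000 := by
  let _ : MulAction SU3 (Fin 126) := MulAction.compHom (Fin 126) thetaX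
  have hsmul : ∀ (A : SU3) (i : Fin 126), A • i = thetaX A i := fun A i => rfl
  have hstab : MulAction.stabilizer SU3 (0 : Fin 126) = BB := by
    ext A
    rw [MulAction.mem_stabilizer_iff, hsmul, mem_BB]
  have horb : MulAction.orbit SU3 (0 : Fin 126) = Set.univ := by
    ext j
    simp only [Set.mem_univ, iff_true]
    obtain ⟨A, hA⟩ := trans0 j
    exact ⟨A, hA⟩
  have hidx : (BB : Subgroup SU3).index = 126 := by
    rw [← hstab, MulAction.index_stabilizer, horb, Set.ncard_univ, Nat.card_eq_fintype_card,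
      Fintype.card_fin]
  have hmul := Subgroup.card_mul_index (BB : Subgroup SU3)
  rw [hidx, card_SU3] at hmul
  omega

end Cfsg.Agent.Lib.Helper59_S2149_MCARDB
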