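import Mathlib
import Cfsg.Agent.Lib.Helper71_S2149Defs
import Cfsg.Agent.Lib.Helper5_SUOrder

/-!
# S2149 package ROOT (architect helper71)

A subgroup of `SU(3,5)` transitive on the 126 isotropic points and containing the root element `t0`
is the whole group.
-/

set_option autoImplicit false

namespace Cfsg.Agent.Lib.Helper59_S2149_ROOT

open Cfsg.Agent.Lib.Helper91_K25 Cfsg.Agent.Lib.Helper91_U3Pts Cfsg.Agent.Lib.Helper91_U3Theta
  Cfsg.Agent.Lib.Helper91_U3Closure Cfsg.Agent.Lib.Helper71_S2149Defs Matrix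

theorem hf_add_smul (x y z : V) (a : K25) : hf (x + a • y) z = hf x z + a * hf y z := by
  unfold hf
  simp only [Pi.add_apply, Pi.smul_apply, smul_eq_mul]
  ring

theorem hf_smul_right (x y : V) (μ : K25) : hf x (μ • y) = K25.cj μ * hf x y := by
  unfold hf
  simp only [Pi.smul_apply, smul_eq_mul, ← K25.pow_five, mul_pow]
  ring

/-- conjugating the root element -/
theorem conj_t0 (h : SU3) (hy : hf (toM h *ᵥ u0) (toM h *ᵥ u0) = 0) :
    h * t0 * h⁻¹ = T (toM h *ᵥ u0) hy := by
  rw [mul_inv_eq_iff_eq_mul]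
  apply ext_toM
  apply Matrix.mulVec_injective
  funext x
  show toM (h * T u0 hu0) *ᵥ x = toM (T (toM h *ᵥ u0) hy * h) *ᵥ x
  rw [map_mul, map_mul, ← Matrix.mulVec_mulVec, ← Matrix.mulVec_mulVec, T_mulVec, T_mulVec]
  show toM h *ᵥ (x + (c0 * hf x u0) • u0) =
    toM h *ᵥ x + (c0 * hf (toM h *ᵥ x) (toM h *ᵥ u0)) • (toM h *ᵥ u0)
  rw [Matrix.mulVec_add, Matrix.mulVec_smul, toM_preserves]

/-- powers of a transvection -/
theorem T_pow_mulVec (y : V) (hy : hf y y = 0) (k : ℕ) (x : V) :
    toM (T y hy ^ k) *ᵥ x = x + ((k : K25) * c0 * hf x y) • y := by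
  induction k with
  | zero => simp
  | succ k ih =>
    rw [pow_succ', map_mul, ← Matrix.mulVec_mulVec, ih, T_mulVec]
    show x + ((k : K25) * c0 * hf x y) • y + (c0 * hf (x + ((k : K25) * c0 * hf x y) • y) y) • y = _
    rw [hf_add_smul, hy, mul_zero, add_zero, add_assoc, ← add_smul]
    congr 2
    push_cast
    ring

set_option maxRecDepth 100000 in
theorem norm_cases : ∀ μ : K25, μ ≠ 0 → ∃ k : Fin 5, μ * K25.cj μ = ((k.val : ℕ) : K25) := by
  decide +kernel

/-- the transvection of a scalar multiple is a power -/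
theorem T_smul_eq_pow (y : V) (hy : hf y y = 0) (μ : K25) (k : ℕ)
    (hk : μ * K25.cj μ = (k : K25)) (hμy : hf (μ • y) (μ • y) = 0) :
    T (μ • y) hμy = T y hy ^ k := by
  apply ext_toM
  apply Matrix.mulVec_injective
  funext x
  show toM (T (μ • y) hμy) *ᵥ x = toM (T y hy ^ k) *ᵥ x
  rw [T_pow_mulVec, T_mulVec]
  show x + (c0 * hf x (μ • y)) • (μ • y) = _
  rw [hf_smul_right, smul_smul, ← hk]
  congr 2
  ring

/-- **S2149-ROOT** -/
theorem root_generates (H : Subgroup SU3) (hH : Trans thetaX H) (ht : t0 ∈ H) : H = ⊤ := by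
  -- every transvection with a nonzero isotropic centre lies in `H`
  have hall : ∀ w : V, ∀ hw : hf w w = 0, w ≠ 0 → T w hw ∈ H := by
    intro w hw hw0
    have hlt := iso_nrm w hw hw0
    obtain ⟨h, hhH, hh⟩ := hH 0 ⟨(nrm w).val, hlt⟩
    have h1 : nrm (toM h *ᵥ u0) = nrm w := by
      have := thetaX_spec h 0
      rw [hh, theta_apply] at this
      show nrm (toM h *ᵥ pt (iota 0)) = nrm w
      rw [← this]
      exact Fin.ext rfl
    obtain ⟨s, hs, hpt⟩ := pt_nrm (toM h *ᵥ u0)
    obtain ⟨s', hs', hpt'⟩ := pt_nrm w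
    rw [h1, hpt'] at hpt
    -- hpt : s' • w = s • (h u0)
    have hw_eq : w = (s'⁻¹ * s) • (toM h *ᵥ u0) := by
      rw [mul_smul, ← hpt, smul_smul, inv_mul_cancel₀ hs', one_smul]
    have hy : hf (toM h *ᵥ u0) (toM h *ᵥ u0) = 0 := by
      rw [toM_preserves]
      exact hu0
    have hTy : T (toM h *ᵥ u0) hy ∈ H := by
      rw [← conj_t0 h hy]
      exact H.mul_mem (H.mul_mem hhH ht) (H.inv_mem hhH)
    have hμ : s'⁻¹ * s ≠ 0 := mul_ne_zero (inv_ne_zero hs') hs
    obtain ⟨k, hk⟩ := norm_cases _ hμ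
    have hμy : hf ((s'⁻¹ * s) • (toM h *ᵥ u0)) ((s'⁻¹ * s) • (toM h *ᵥ u0)) = 0 := by
      rw [← hw_eq]
      exact hw
    have h3 := T_smul_eq_pow (toM h *ᵥ u0) hy (s'⁻¹ * s) k.val hk hμy
    have h4 : T w hw = T ((s'⁻¹ * s) • (toM h *ᵥ u0)) hμy := by
      apply ext_toM
      rw [toM_T, toM_T, ← hw_eq]
    rw [h4, h3]
    exact H.pow_mem hTy _
  rw [eq_top_iff, ← Cfsg.Agent.S0780.result (F := K25) cardK25 3 (by norm_num) (by norm_num),
    Subgroup.closure_le]
  rintro A ⟨v, c, hv, hA⟩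
  show A ∈ H
  by_cases hv0 : v = 0
  · have : A = 1 := by
      apply ext_toM
      show ((A : Matrix.SpecialLinearGroup (Fin 3) K25) : M3) = toM 1
      rw [hA, hv0, map_one]
      unfold Cfsg.unitaryTransvection
      ext i j
      simp
    rw [this]
    exact H.one_mem
  · have hpres := (Cfsg.Agent.S0779.result (F := K25) cardK25 3 v hv0 hv c).mp (by
      intro x y
      rw [← hA]
      exact A.2 x y)
    rcases hpres with rfl | hc
    · have : A = 1 := by
        apply ext_toM
        show ((A : Matrix.SpecialLinearGroup (Fin 3) K25) : M3) = toM 1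
        rw [hA, map_one]
        unfold Cfsg.unitaryTransvection
        simp
      rw [this]
      exact H.one_mem
    · obtain ⟨l, hl, hlc⟩ := scalar_cases c hc
      have hv' : hf v v = 0 := by rw [← hermForm_eq_hf]; exact hv
      have hlv : hf (l • v) (l • v) = 0 := by rw [hf_smul, hv', mul_zero]
      have hlv0 : l • v ≠ 0 := smul_ne_zero hl hv0
      have hmem := hall (l • v) hlv hlv0
      have : A = T (l • v) hlv := by
        apply ext_toM
        show ((A : Matrix.SpecialLinearGroup (Fin 3) K25) : M3) = toM (T (l • v) hlv)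
        rw [hA, toM_T, ← hlc]
        unfold Cfsg.unitaryTransvection
        ext i j
        simp only [Matrix.add_apply, Matrix.smul_apply, Matrix.vecMulVec_apply, Pi.smul_apply,
          smul_eq_mul, mul_pow]
        ring
      rw [this]
      exact hmem

end Cfsg.Agent.Lib.Helper59_S2149_ROOT
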