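import Mathlib
import Cfsg.Agent.Lib.Helper87_S4016Cfg

/-!
# S4016 package MAXSUB (architect helper87)

A subgroup `X ≥ ⟨P, l⟩` satisfying the conclusion of S4016 normalizes `P`.
-/

set_option autoImplicit false
open Cfsg.Agent.Lib.Helper87_S4016

namespace Cfsg.Agent.Lib.Helper59_S4016_MAXSUB

/-- a `p`-element of a subgroup of order prime to `p` is trivial -/
theorem eq_one_of_mem_of_mem {G : Type*} [Group G] [Finite G] {p : ℕ} [Fact p.Prime]
    {P K : Subgroup G} (hP : IsPGroup p ↥P) (hK : ¬ p ∣ Nat.card ↥K) {w : G} (hwP : w ∈ P)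
    (hwK : w ∈ K) : w = 1 := by
  have hp : p.Prime := Fact.out
  obtain ⟨k, hk⟩ := hP ⟨w, hwP⟩
  have hk' : w ^ p ^ k = 1 := by
    have := congrArg Subtype.val hk
    simpa using this
  have h1 : orderOf w ∣ p ^ k := orderOf_dvd_of_pow_eq_one hk'
  have h2 : orderOf w ∣ Nat.card ↥K := Subgroup.orderOf_dvd_natCard K hwK
  have hcop : (Nat.card ↥K).Coprime (p ^ k) :=
    Nat.Coprime.pow_right k ((Nat.Prime.coprime_iff_not_dvd hp).mpr hK).symm
  have h3 : orderOf w ∣ 1 := by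
    have := Nat.dvd_gcd h2 h1
    rwa [hcop.gcd_eq_one] at this
  exact orderOf_eq_one_iff.mp (Nat.dvd_one.mp h3)

/-- **MAXSUB** -/
theorem MAXSUB {G : Type*} [Group G] [Finite G] {p : ℕ} [Fact p.Prime] (P : Sylow p G) (l : G)
    (hl : l ∈ Subgroup.normalizer ((P : Subgroup G) : Set G)) (hcop : (orderOf l).Coprime p)
    (hfpf : ∀ y ∈ P, y ≠ 1 → l * y ≠ y * l)
    (X : Subgroup G) (hPX : (P : Subgroup G) ≤ X) (hlX : l ∈ X)
    (hX : (∃ K : Subgroup G, K ≤ X ∧ (∀ x ∈ X, ∀ k ∈ K, x * k * x⁻¹ ∈ K) ∧ ¬ p ∣ Nat.card ↥K ∧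
        ∃ n : ℕ, K.relIndex X = p ^ n) ∨
      (∃ Q : Subgroup G, Q ≤ X ∧ (∀ x ∈ X, ∀ k ∈ Q, x * k * x⁻¹ ∈ Q) ∧ IsPGroup p ↥Q ∧
        ¬ p ∣ Q.relIndex X)) :
    X ≤ Subgroup.normalizer ((P : Subgroup G) : Set G) := by
  have hp : p.Prime := Fact.out
  rcases hX with ⟨K, hKX, hKn, hKp, n, hn⟩ | ⟨Q, hQX, hQn, hQp, hQi⟩
  · -- case `K`
    have hnorm : (K.subgroupOf X).Normal :=
      (Subgroup.normal_subgroupOf_iff hKX).mpr (fun h k hh hk => hKn k hk h hh)
    have h1 : (⟨l, hlX⟩ : ↥X) ^ (K.subgroupOf X).index ∈ K.subgroupOf X :=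
      Subgroup.pow_index_mem (K.subgroupOf X) ⟨l, hlX⟩
    have h2 : l ^ p ^ n ∈ K := by
      rw [Subgroup.mem_subgroupOf] at h1
      have h3 : (K.subgroupOf X).index = p ^ n := hn
      rw [h3] at h1
      simpa using h1
    have hlK : l ∈ K := by
      obtain ⟨m, hm⟩ := exists_pow_eq_self_of_coprime (x := l) (n := p ^ n)
        (Nat.Coprime.pow_left n hcop.symm)
      rw [← hm]
      exact K.pow_mem h2 m
    have hcomm : ∀ z ∈ (P : Subgroup G), z = 1 := by
      intro z hz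
      by_contra hz1
      apply hfpf z hz hz1
      have hK1 : z * l * z⁻¹ * l⁻¹ ∈ K := K.mul_mem (hKn z (hPX hz) l hlK) (K.inv_mem hlK)
      have hP1 : z * l * z⁻¹ * l⁻¹ ∈ (P : Subgroup G) := by
        have h4 : l * z⁻¹ * l⁻¹ ∈ (P : Subgroup G) := (hl z⁻¹).mp (inv_mem hz)
        have h5 : z * l * z⁻¹ * l⁻¹ = z * (l * z⁻¹ * l⁻¹) := by group
        rw [h5]
        exact mul_mem hz h4
      have h6 := eq_one_of_mem_of_mem P.isPGroup' hKp hP1 hK1
      have h7 : z * l = l * z := by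
        have := congrArg (fun w => w * l * z) h6
        simpa [mul_assoc] using this
      exact h7.symm
    have hbot : (P : Subgroup G) = ⊥ := by
      rw [Subgroup.eq_bot_iff_forall]
      exact hcomm
    rw [hbot, Subgroup.normalizer_eq_top]
    exact le_top
  · -- case `Q`
    have hXN : X ≤ Subgroup.normalizer (Q : Set G) := Subgroup.le_normalizer_iff.mpr hQn
    have hsup : IsPGroup p ↥((P : Subgroup G) ⊔ Q) :=
      IsPGroup.to_sup_of_normal_right' P.isPGroup' hQp (hPX.trans hXN)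
    have hPQ : (P : Subgroup G) ⊔ Q = P := P.is_maximal' hsup le_sup_left
    have hQP : Q ≤ (P : Subgroup G) := by
      rw [← hPQ]
      exact le_sup_right
    have hmul := Subgroup.relIndex_mul_relIndex Q (P : Subgroup G) X hQP hPX
    obtain ⟨j, hj⟩ := IsPGroup.index P.isPGroup' (Q.subgroupOf (P : Subgroup G))
    have hj' : Q.relIndex (P : Subgroup G) = p ^ j := hj
    have hj0 : j = 0 := by
      by_contra hj0
      apply hQi
      rw [← hmul, hj']
      exact Dvd.dvd.mul_right (dvd_pow_self p hj0) _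
    rw [hj0, pow_zero] at hj'
    have hPleQ : (P : Subgroup G) ≤ Q := Subgroup.relIndex_eq_one.mp hj'
    have hEq : Q = (P : Subgroup G) := le_antisymm hQP hPleQ
    rw [← hEq]
    exact hXN

end Cfsg.Agent.Lib.Helper59_S4016_MAXSUB
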