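import Mathlib
import Cfsg.Agent.Lib.Helper87_S4016Cfg

/-!
# S4016 package TI (architect helper87)

`N(Q) ≤ N(P)` for `⊥ ≠ Q ≤ P`, `C(y) ≤ N(P)` for `1 ≠ y ∈ P`, and `P` is a TI-subgroup.
-/

set_option autoImplicit false
open Cfsg.Agent.Lib.Helper87_S4016

namespace Cfsg.Agent.Lib.Helper59_S4016_TI

/-- in a finite cyclic group a subgroup is determined by its order -/
theorem eq_of_card_eq_cyc {J : Type*} [Group J] [Finite J] [IsCyclic J] (H K : Subgroup J)
    (h : Nat.card H = Nat.card K) : H = K := by
  classical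
  let _ : Fintype J := Fintype.ofFinite J
  have hn0 : 0 < Nat.card H := Nat.card_pos
  have key : ∀ M : Subgroup J, Nat.card M = Nat.card H →
      (M : Set J).toFinset = Finset.univ.filter (fun a : J => a ^ Nat.card H = 1) := by
    intro M hM
    apply Finset.eq_of_subset_of_card_le
    · intro x hx
      simp only [Set.mem_toFinset, SetLike.mem_coe] at hx
      simp only [Finset.mem_filter, Finset.mem_univ, true_and]
      have := pow_card_eq_one' (G := M) (x := ⟨x, hx⟩)
      rw [hM] at this
      exact congrArg Subtype.val this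
    · calc _ ≤ Nat.card H := IsCyclic.card_pow_eq_one_le hn0
        _ = Nat.card M := hM.symm
        _ = _ := by
          rw [Set.toFinset_card, Nat.card_eq_fintype_card]
          rfl
  have h1 := key H rfl
  have h2 := key K h.symm
  have : (H : Set J) = (K : Set J) := Set.toFinset_inj.mp (h1.trans h2.symm)
  exact SetLike.coe_injective this

/-- two subgroups of the same order inside a cyclic subgroup coincide -/
theorem eq_of_le_cyc {G : Type*} [Group G] [Finite G] {T X X' : Subgroup G} (hT : IsCyclic ↥T)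
    (hX : X ≤ T) (hX' : X' ≤ T) (h : Nat.card X = Nat.card X') : X = X' := by
  have h1 : X.subgroupOf T = X'.subgroupOf T := by
    apply eq_of_card_eq_cyc
    rw [Nat.card_congr (Subgroup.subgroupOfEquivOfLe hX).toEquiv,
      Nat.card_congr (Subgroup.subgroupOfEquivOfLe hX').toEquiv, h]
  have h2 := Subgroup.subgroupOf_inj.mp h1
  rw [inf_eq_left.mpr hX, inf_eq_left.mpr hX'] at h2
  exact h2

/-- an element normalizing a cyclic subgroup normalizes each of its subgroups -/
theorem mem_normalizer_of_le_cyc {G : Type*} [Group G] [Finite G] {T Q : Subgroup G}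
    (hT : IsCyclic ↥T) (hQ : Q ≤ T) {g : G} (hg : g ∈ Subgroup.normalizer (T : Set G)) :
    g ∈ Subgroup.normalizer (Q : Set G) := by
  have hle : Q.map (MulAut.conj g).toMonoidHom ≤ T := by
    rintro _ ⟨x, hx, rfl⟩
    exact (hg x).mp (hQ hx)
  have hcard : Nat.card ↥(Q.map (MulAut.conj g).toMonoidHom) = Nat.card ↥Q :=
    Subgroup.card_map_of_injective (MulAut.conj g).injective
  have heq : Q.map (MulAut.conj g).toMonoidHom = Q := eq_of_le_cyc hT hle hQ hcard
  apply Subgroup.mem_normalizer_fintype
  intro n hn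
  have : (MulAut.conj g).toMonoidHom n ∈ Q.map (MulAut.conj g).toMonoidHom :=
    Subgroup.mem_map_of_mem _ hn
  rw [heq] at this
  exact this

/-- **TI** -/
theorem TI {G : Type*} [Group G] [Finite G] {p : ℕ} [Fact p.Prime] {P : Sylow p G} {L : Subgroup G}
    {l : G} (h : Cfg p P L l) :
    (∀ Q : Subgroup G, Q ≤ (P : Subgroup G) → Q ≠ ⊥ →
      Subgroup.normalizer (Q : Set G) ≤ Subgroup.normalizer ((P : Subgroup G) : Set G)) ∧
    (∀ y ∈ P, y ≠ 1 →
      Subgroup.centralizer ({y} : Set G) ≤ Subgroup.normalizer ((P : Subgroup G) : Set G)) ∧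
    (∀ g : G, g ∉ Subgroup.normalizer ((P : Subgroup G) : Set G) →
      (P : Subgroup G) ⊓ (P : Subgroup G).map (MulAut.conj g).toMonoidHom = ⊥) := by
  have part1 : ∀ Q : Subgroup G, Q ≤ (P : Subgroup G) → Q ≠ ⊥ →
      Subgroup.normalizer (Q : Set G) ≤ Subgroup.normalizer ((P : Subgroup G) : Set G) := by
    intro Q hQ hQ1
    apply h.max
    · intro htop
      have hn : Q.Normal := Subgroup.normalizer_eq_top_iff.mp htop
      rcases h.simple Q hn with h0 | h1
      · exact hQ1 h0
      · have hP : (P : Subgroup G) = ⊤ := top_le_iff.mp (h1 ▸ hQ)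
        apply h.notNormal
        rw [hP]
        infer_instance
    · intro a ha
      exact mem_normalizer_of_le_cyc h.cyc hQ (Subgroup.le_normalizer ha)
    · exact mem_normalizer_of_le_cyc h.cyc hQ (h.L_le h.l_mem)
  refine ⟨part1, ?_, ?_⟩
  · intro y hy hy1
    have hz : Subgroup.zpowers y ≤ (P : Subgroup G) := by
      rw [Subgroup.zpowers_le]
      exact hy
    refine le_trans ?_ (part1 (Subgroup.zpowers y) hz (Subgroup.zpowers_ne_bot.mpr hy1))
    intro g hg
    rw [Subgroup.mem_centralizer_iff] at hg
    have hc : Commute g y := (hg y rfl).symm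
    apply Subgroup.mem_normalizer_fintype
    rintro n ⟨k, rfl⟩
    have hck : Commute g (y ^ k) := hc.zpow_right k
    have : g * y ^ k * g⁻¹ = y ^ k := by
      rw [hck.eq, mul_inv_cancel_right]
    rw [this]
    exact ⟨k, rfl⟩
  · intro g hg
    by_contra hne
    apply hg
    set Pg : Subgroup G := (P : Subgroup G).map (MulAut.conj g).toMonoidHom with hPg
    have hcycg : IsCyclic ↥Pg := by
      have := h.cyc
      exact isCyclic_of_surjective ((MulAut.conj g).toMonoidHom.subgroupMap (P : Subgroup G))
        (MonoidHom.subgroupMap_surjective _ _)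
    have hN : Subgroup.normalizer (((P : Subgroup G) ⊓ Pg : Subgroup G) : Set G) ≤
        Subgroup.normalizer ((P : Subgroup G) : Set G) := part1 _ inf_le_left hne
    have hPgN : Pg ≤ Subgroup.normalizer ((P : Subgroup G) : Set G) := by
      intro a ha
      exact hN (mem_normalizer_of_le_cyc hcycg inf_le_right (Subgroup.le_normalizer ha))
    have hPgp : IsPGroup p ↥Pg := IsPGroup.map P.isPGroup' _
    have hsup : IsPGroup p ↥((P : Subgroup G) ⊔ Pg) :=
      IsPGroup.to_sup_of_normal_left' P.isPGroup' hPgp hPgN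
    have hEq : (P : Subgroup G) ⊔ Pg = P := P.is_maximal' hsup le_sup_left
    have hle : Pg ≤ (P : Subgroup G) := by
      rw [← hEq]
      exact le_sup_right
    apply Subgroup.mem_normalizer_fintype
    intro n hn
    apply hle
    exact ⟨n, hn, rfl⟩

end Cfsg.Agent.Lib.Helper59_S4016_TI
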