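import Mathlib
import Cfsg.Agent.Lib.Helper94_SpUni4
import Cfsg.Agent.Lib.Helper31_S5804_WITT1
import Cfsg.Agent.Lib.Helper41_S5804_REFL

/-!
# S5804 clause (6), package CONFIG: the tangent configuration (helper59)

`exists_config_of`: an element of `M` moving a singular `K`-line off its line produces the tangent
configuration.  The two inputs WITT1 (`kmem_of_sing_hp`) and REFL (`exists_refl`) are hypotheses
here (`hW`, `hR`); the assembly file plugs the landed packages in.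
-/

set_option autoImplicit false

namespace Cfsg.Agent.Lib.Helper59_S5804_CONFIG

open Module Cfsg.Agent.Lib.Helper94_Symp Cfsg.Agent.Lib.Helper94_OrthSmall
  Cfsg.Agent.Lib.Helper94_OrthSiegel Cfsg.Agent.Lib.Helper94_OrthSiegel2
  Cfsg.Agent.Lib.Helper94_OrthPara Cfsg.Agent.Lib.Helper94_OrthNondeg
  Cfsg.Agent.Lib.Helper94_OrthUni Cfsg.Agent.Lib.Helper94_SpUni

variable {F V : Type*} [Field F] [AddCommGroup V] [Module F V]
variable {Q : V → F} {P B : LinearMap.BilinForm F V} {θ : V →ₗ[F] V} {τ ν : F}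

/-- A nonzero vector of `A` orthogonal to a given list of vectors. -/
lemma exists_perp_list [FiniteDimensional F V] (B : LinearMap.BilinForm F V) :
    ∀ (l : List V) (A : Submodule F V), l.length + 1 ≤ finrank F A →
    ∃ w ∈ A, w ≠ 0 ∧ ∀ p ∈ l, B w p = 0 := by
  intro l
  induction l with
  | nil =>
    intro A h
    have hA : A ≠ ⊥ := by
      intro h0
      rw [h0, finrank_bot] at h
      simp at h
    obtain ⟨w, hw, hw0⟩ := Submodule.exists_mem_ne_zero_of_ne_bot hA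
    exact ⟨w, hw, hw0, by simp⟩
  | cons p l ih =>
    intro A h
    have h1 := finrank_le_inf_ker_add_one A (B.flip p)
    rw [List.length_cons] at h
    obtain ⟨w, hw, hw0, hl⟩ := ih (A ⊓ LinearMap.ker (B.flip p)) (by omega)
    refine ⟨w, hw.1, hw0, ?_⟩
    intro p' hp'
    rcases List.mem_cons.mp hp' with rfl | hp'
    · exact Cfsg.Agent.Lib.Helper94_OrthNondeg.mem_ker_flip.mp hw.2
    · exact hl p' hp'


section Main

variable (S : SpU Q P B θ τ ν)

include S in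
/-- Norm avoidance on a `K`-line: some nonzero vector of `K w` has `c + Q w' ≠ 0`. -/
lemma exists_kmem_norm_ne {c : F} (hc : c ≠ 0) {w : V} (hw : w ≠ 0) :
    ∃ w', Kmem θ w w' ∧ w' ≠ 0 ∧ c + Q w' ≠ 0 := by
  by_cases hQw : Q w = 0
  · exact ⟨w, Kmem.refl θ w, hw, by rw [hQw, add_zero]; exact hc⟩
  · by_contra hcon
    push Not at hcon
    have h1 := hcon w (Kmem.refl θ w) hw
    have h2 := hcon ((2 : F) • w) ((Kmem.refl θ w).smul 2) (smul_ne_zero S.two hw)
    rw [S.hQs] at h2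
    have hθ0 : θ w ≠ 0 := fun h => one_ne_zero
      (S.U.indep hw (a := 0) (b := 1) (by rw [zero_smul, one_smul, zero_add, h])).2
    have h3 := hcon (θ w) (Kmem.theta_self θ w) hθ0
    rw [S.U.Qθ] at h3
    have h40 : (1 : F) • w + (-1 : F) • θ w ≠ 0 := fun h => one_ne_zero (S.U.indep hw h).1
    have h4 := hcon _ ⟨1, -1, rfl⟩ h40
    rw [Q_comb S.U S.hQs S.hQp] at h4
    have e3 : (3 : F) = 0 := by
      have : (3 : F) * Q w = 0 := by linear_combination h2 - h1
      exact (mul_eq_zero.mp this).resolve_right hQw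
    have eν : ν = 1 := by
      have : (ν - 1) * Q w = 0 := by linear_combination h3 - h1
      have := (mul_eq_zero.mp this).resolve_right hQw
      linear_combination this
    have eτ : τ = 1 := by
      have : (ν - τ) * Q w = 0 := by linear_combination h4 - h1
      have := (mul_eq_zero.mp this).resolve_right hQw
      rw [eν] at this
      linear_combination -this
    have := (S.U.aniso 1 1 (by rw [eτ, eν]; linear_combination e3)).1
    exact one_ne_zero this

include S in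
/-- **CONFIG** with WITT1 (`hW`) and REFL (`hR`) as hypotheses. -/
theorem exists_config_of [FiniteDimensional F V] (h6 : finrank F V = 6)
    (hW : ∀ {x y : V}, x ≠ 0 → Q x = 0 → Q y = 0 → HP P θ x y → Kmem θ x y)
    (hR : ∀ {y : V}, Q y ≠ 0 → ∃ r : V ≃ₗ[F] V, r ∈ isoGroup B ∧ (∀ x, r (θ x) = θ (r x)) ∧
      ∀ x, r x = x - (2 / Q y) • (B x (θ y) • y - B x y • θ y))
    (M : Subgroup (V ≃ₗ[F] V)) (hMB : M ≤ isoGroup B)
    (hH : ∀ r : V ≃ₗ[F] V, r ∈ isoGroup B → (∀ x, r (θ x) = θ (r x)) → r ∈ M)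
    {g : V ≃ₗ[F] V} (hg : g ∈ M) {u : V} (hu : Q u = 0)
    (hgK : ¬ Kmem θ (g u) (g (θ u))) :
    ∃ (z z₀ : V) (m : V ≃ₗ[F] V), z ≠ 0 ∧ Q z = 0 ∧ Q z₀ = 0 ∧ m ∈ M ∧ m z₀ = z ∧
      HP P θ (m (θ z₀)) z ∧ ¬ Kmem θ z (m (θ z₀)) := by
  have hgB : ∀ x y, B (g x) (g y) = B x y := hMB hg
  have hu0 : u ≠ 0 := by
    rintro rfl
    apply hgK
    simp only [map_zero]
    exact Kmem.zero θ _
  have hgu0 : g u ≠ 0 := (LinearEquiv.map_ne_zero_iff g).mpr hu0
  -- no `K`-line contains both `g u` and `g (θ u)`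
  have hA : ∀ w, Kmem θ w (g u) → Kmem θ w (g (θ u)) → False := fun w h1 h2 =>
    hgK ((h1.symm S.U hgu0).trans S.U h2)
  -- Step 1: a generator of the line with non-singular image
  obtain ⟨u₁, hu₁, hu₁0, hKu, hQe⟩ :
      ∃ u₁, Q u₁ = 0 ∧ u₁ ≠ 0 ∧ Kmem θ u₁ u ∧ Q (g u₁) ≠ 0 := by
    by_cases h1 : Q (g u) = 0
    swap
    · exact ⟨u, hu, hu0, Kmem.refl θ u, h1⟩
    by_cases h2 : Q (g (θ u)) = 0
    swap
    · have hθ0 : θ u ≠ 0 := fun h => one_ne_zero
        (S.U.indep hu0 (a := 0) (b := 1) (by rw [zero_smul, one_smul, zero_add, h])).2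
      exact ⟨θ u, by rw [S.U.Qθ, hu, mul_zero], hθ0, (Kmem.theta_self θ u).symm S.U hθ0, h2⟩
    by_cases h3 : Q (g (u + θ u)) = 0
    swap
    · have hk : Kmem θ u (u + θ u) := ⟨1, 1, by rw [one_smul, one_smul]⟩
      have h0 : u + θ u ≠ 0 := fun h => one_ne_zero
        (S.U.indep hu0 (a := 1) (b := 1) (by rw [one_smul, one_smul, h])).1
      exact ⟨u + θ u, hk.sing S.U S.hQs S.hQp hu, h0, hk.symm S.U h0, h3⟩
    exfalso
    rw [map_add, S.hQp, h1, h2, zero_add, zero_add] at h3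
    have hB1 : B (g u) (g (θ u)) = 0 := by rw [hgB, ← S.QB, hu]
    have hB2 : B (g u) (θ (g (θ u))) = 0 := by
      have := S.PB (g u) (g (θ u))
      rw [h3, hB1] at this
      have h4 : 2 * B (g u) (θ (g (θ u))) = 0 := by linear_combination -this
      exact (mul_eq_zero.mp h4).resolve_left S.two
    exact hgK (hW hgu0 h1 h2 (HP_of_B S hB1 hB2))
  -- Step 2: orthogonalise
  have he0 : g u₁ ≠ 0 := (LinearEquiv.map_ne_zero_iff g).mpr hu₁0
  have hQeB : B (g u₁) (θ (g u₁)) = Q (g u₁) := (S.QB (g u₁)).symm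
  obtain ⟨lam, hlam⟩ : ∃ lam : F, lam = B (g (θ u₁)) (θ (g u₁)) / Q (g u₁) := ⟨_, rfl⟩
  obtain ⟨u₂, hu₂⟩ : ∃ u₂ : V, u₂ = θ u₁ - lam • u₁ := ⟨_, rfl⟩
  have hbb : g u₂ = g (θ u₁) - lam • g u₁ := by rw [hu₂, map_sub, map_smul]
  have hb₁' : g (θ u₁) = g u₂ + lam • g u₁ := by rw [hbb]; abel
  have hk₂ : Kmem θ u₁ u₂ := ⟨-lam, 1, by rw [hu₂]; module⟩
  have hu₂s : Q u₂ = 0 := hk₂.sing S.U S.hQs S.hQp hu₁
  have hu₂0 : u₂ ≠ 0 := fun h => one_ne_zero
    (S.U.indep hu₁0 (a := -lam) (b := 1) (by rw [← h, hu₂]; module)).2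
  have hb0 : g u₂ ≠ 0 := (LinearEquiv.map_ne_zero_iff g).mpr hu₂0
  have hbe : HP P θ (g u₂) (g u₁) := by
    apply HP_of_B S
    · rw [hgB]
      exact (((HP.self S hu₁).kmem_left S hk₂).toB S).1
    · rw [hbb, map_sub, map_smul, LinearMap.sub_apply, LinearMap.smul_apply, hQeB, hlam,
        smul_eq_mul, div_mul_cancel₀ _ hQe, sub_self]
  have hnK : ¬ Kmem θ (g u₁) (g u₂) := by
    intro hk
    have hb₁k : Kmem θ (g u₁) (g (θ u₁)) := by
      rw [hb₁']
      exact hk.add ((Kmem.refl θ (g u₁)).smul lam)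
    have hall : ∀ x, Kmem θ u₁ x → Kmem θ (g u₁) (g x) := by
      rintro x ⟨α, β, rfl⟩
      rw [map_add, map_smul, map_smul]
      exact ((Kmem.refl θ (g u₁)).smul α).add (hb₁k.smul β)
    exact hA (g u₁) (hall u hKu) (hall (θ u) (hKu.theta S.U))
  by_cases hQb : Q (g u₂) = 0
  · -- Step 3: `g u₂` singular
    have hα : lam * lam + lam * (-1) * τ + (-1) * (-1) * ν ≠ 0 :=
      S.U.norm_ne (by rintro ⟨-, h⟩; exact one_ne_zero (neg_eq_zero.mp h))
    have hθu₂ : θ u₂ = (τ - lam) • u₂ +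
        (-(lam * lam + lam * (-1) * τ + (-1) * (-1) * ν)) • u₁ := by
      rw [hu₂, map_sub, map_smul, S.U.sq]; module
    have hgθ : g (θ u₂) = (τ - lam) • g u₂ +
        (-(lam * lam + lam * (-1) * τ + (-1) * (-1) * ν)) • g u₁ := by
      rw [hθu₂, map_add, map_smul, map_smul]
    refine ⟨g u₂, u₂, g, hb0, hQb, hu₂s, hg, rfl, ?_, ?_⟩
    · rw [hgθ]
      exact ((HP.self S hQb).smul_left _).add_left ((hbe.symm S).smul_left _)
    · rw [hgθ]
      intro hk
      have h1 : Kmem θ (g u₂)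
          ((-(lam * lam + lam * (-1) * τ + (-1) * (-1) * ν)) • g u₁) := by
        have := hk.sub ((Kmem.refl θ (g u₂)).smul (τ - lam))
        rwa [add_sub_cancel_left] at this
      have h2 : Kmem θ (g u₂) (g u₁) := by
        have := h1.smul (-(lam * lam + lam * (-1) * τ + (-1) * (-1) * ν))⁻¹
        rwa [smul_smul, inv_mul_cancel₀ (neg_ne_zero.mpr hα), one_smul] at this
      exact hnK (h2.symm S.U he0)
  · -- Step 4: `g u₂` non-singular
    obtain ⟨w, -, hw0, hwl⟩ := exists_perp_list B [g u₁, θ (g u₁), g u₂, θ (g u₂)] ⊤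
      (by rw [finrank_top, h6]; simp)
    have hwe : HP P θ w (g u₁) := HP_of_B S (hwl _ (by simp)) (hwl _ (by simp))
    have hwb : HP P θ w (g u₂) := HP_of_B S (hwl _ (by simp)) (hwl _ (by simp))
    obtain ⟨w', hkw', hw'0, hsum⟩ := exists_kmem_norm_ne S hQb hw0
    have hw'e : HP P θ w' (g u₁) := hwe.kmem_left S hkw'
    have hw'b : HP P θ w' (g u₂) := hwb.kmem_left S hkw'
    obtain ⟨y, hy⟩ : ∃ y : V, y = g u₂ + w' := ⟨_, rfl⟩
    have hQy : Q y = Q (g u₂) + Q w' := by rw [hy, S.hQp, (hw'b.symm S).1, add_zero]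
    have hQy0 : Q y ≠ 0 := by rw [hQy]; exact hsum
    have hye : HP P θ y (g u₁) := by rw [hy]; exact hbe.add_left hw'e
    obtain ⟨r, hrB, hrθ, hr⟩ := hR hQy0
    have hrM : r ∈ M := hH r hrB hrθ
    have hre : r (g u₁) = g u₁ := by
      rw [hr, ((hye.symm S).toB S).1, ((hye.symm S).toB S).2]
      simp
    have hBby : B (g u₂) y = 0 := by
      rw [hy, map_add, S.alt (g u₂), zero_add]
      exact ((hw'b.symm S).toB S).1
    have hBbθy : B (g u₂) (θ y) = Q (g u₂) := by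
      rw [hy, map_add, map_add, ← S.QB, ((hw'b.symm S).toB S).2, add_zero]
    obtain ⟨s, hs⟩ : ∃ s : F, s = 2 * Q (g u₂) / Q y := ⟨_, rfl⟩
    have hs0 : s ≠ 0 := by rw [hs]; exact div_ne_zero (mul_ne_zero S.two hQb) hQy0
    have hrb : r (g u₂) = g u₂ - s • y := by
      rw [hr, hBby, hBbθy, zero_smul, sub_zero, smul_smul, hs]
      congr 2
      field_simp
    have hrb₁ : r (g (θ u₁)) = g (θ u₁) - s • y := by
      rw [hb₁', map_add, map_smul, hre, hrb]; abel
    have hp' : (g⁻¹ * r * g) (θ u₁) = g⁻¹ (g (θ u₁) - s • y) := by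
      rw [LinearEquiv.mul_apply, LinearEquiv.mul_apply, ← hrb₁]
    have hBye : B y (g u₁) = 0 := (hye.toB S).1
    have hBb₁e : B (g (θ u₁)) (g u₁) = 0 := by
      rw [hgB, alt_swap B S.alt, S.Bsing hu₁, neg_zero]
    have hByb₁ : B y (g (θ u₁)) = 0 := by
      rw [hb₁', map_add, map_smul, hBye, smul_zero, add_zero, hy, map_add, LinearMap.add_apply,
        S.alt (g u₂), zero_add]
      exact (hw'b.toB S).1
    refine ⟨u₁, u₁, g⁻¹ * r * g, hu₁0, hu₁, hu₁,
      M.mul_mem (M.mul_mem (M.inv_mem hg) hrM) hg, ?_, ?_, ?_⟩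
    · rw [LinearEquiv.mul_apply, LinearEquiv.mul_apply, hre, inv_apply_apply']
    · rw [hp']
      apply HP_of_B S
      · rw [isoGroup_inv_apply (hMB hg), map_sub, map_smul, LinearMap.sub_apply,
          LinearMap.smul_apply, hBb₁e, hBye, smul_zero, sub_zero]
      · rw [isoGroup_inv_apply (hMB hg), map_sub, map_smul, LinearMap.sub_apply,
          LinearMap.smul_apply, S.alt, hByb₁, smul_zero, sub_zero]
    · rw [hp']
      rintro ⟨α, β, hαβ⟩
      have h1 := congrArg g hαβ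
      rw [apply_inv_apply', map_add, map_smul, map_smul] at h1
      -- `s • w' = β' • g u₂ + α' • g u₁`
      have h2 : s • w' = (1 - β - s) • g u₂ + ((1 - β) * lam - α) • g u₁ := by
        have h3 : s • y = g (θ u₁) - (α • g u₁ + β • g (θ u₁)) := by
          rw [← h1]; abel
        have h4 : s • w' = s • y - s • g u₂ := by rw [hy]; module
        rw [h4, h3, hb₁']
        module
      have hw'θe : B w' (θ (g u₁)) = 0 := (hw'e.toB S).2
      have hw'θb : B w' (θ (g u₂)) = 0 := (hw'b.toB S).2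
      have hbθe : B (g u₂) (θ (g u₁)) = 0 := (hbe.toB S).2
      have heθb : B (g u₁) (θ (g u₂)) = 0 := ((hbe.symm S).toB S).2
      have hα' : (1 - β) * lam - α = 0 := by
        have h5 := congrArg (fun v => B v (θ (g u₁))) h2
        simp only [map_add, map_smul, LinearMap.add_apply, LinearMap.smul_apply, hw'θe, hbθe,
          hQeB, smul_eq_mul, mul_zero, zero_add] at h5
        exact (mul_eq_zero.mp h5.symm).resolve_right hQe
      have hβ' : 1 - β - s = 0 := by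
        have h5 := congrArg (fun v => B v (θ (g u₂))) h2
        simp only [map_add, map_smul, LinearMap.add_apply, LinearMap.smul_apply, hw'θb, heθb,
          ← S.QB, smul_eq_mul, mul_zero, add_zero] at h5
        exact (mul_eq_zero.mp h5.symm).resolve_right hQb
      rw [hα', hβ', zero_smul, zero_smul, add_zero] at h2
      exact hw'0 ((smul_eq_zero.mp h2).resolve_left hs0)

end Main

/-- **CONFIG** (verbatim package statement). -/
theorem exists_config [Finite F] [FiniteDimensional F V] (S : SpU Q P B θ τ ν)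
    (h6 : finrank F V = 6) (M : Subgroup (V ≃ₗ[F] V)) (hMB : M ≤ isoGroup B)
    (hH : ∀ r : V ≃ₗ[F] V, r ∈ isoGroup B → (∀ x, r (θ x) = θ (r x)) → r ∈ M)
    {g : V ≃ₗ[F] V} (hg : g ∈ M) {u : V} (hu : Q u = 0)
    (hgK : ¬ Kmem θ (g u) (g (θ u))) :
    ∃ (z z₀ : V) (m : V ≃ₗ[F] V), z ≠ 0 ∧ Q z = 0 ∧ Q z₀ = 0 ∧ m ∈ M ∧ m z₀ = z ∧
      HP P θ (m (θ z₀)) z ∧ ¬ Kmem θ z (m (θ z₀)) :=
  exists_config_of S h6
    (fun hx0 hx hy hxy => Cfsg.Agent.Lib.Helper31_S5804_WITT1.kmem_of_sing_hp S h6 hx0 hx hy hxy)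
    (fun hy => Cfsg.Agent.Lib.Helper41_S5804_REFL.exists_refl S hy) M hMB hH hg hu hgK

end Cfsg.Agent.Lib.Helper59_S5804_CONFIG
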