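import Mathlib
import Cfsg.Agent.Lib.Helper94_SpUni4

/-!
# S5804 clause (6), package SEMI: the fundamental-theorem step in Witt index one (helper59)

An isometry `g` of `B` such that `g θ g⁻¹` preserves every singular `K`-line is `K`-semilinear
(`finrank F V = 6`).
-/

set_option autoImplicit false

namespace Cfsg.Agent.Lib.Helper59_S5804_SEMI

open Module Cfsg.Agent.Lib.Helper94_Symp Cfsg.Agent.Lib.Helper94_OrthSmall
  Cfsg.Agent.Lib.Helper94_OrthSiegel Cfsg.Agent.Lib.Helper94_OrthSiegel2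
  Cfsg.Agent.Lib.Helper94_OrthPara Cfsg.Agent.Lib.Helper94_OrthNondeg
  Cfsg.Agent.Lib.Helper94_OrthUni Cfsg.Agent.Lib.Helper94_SpUni

variable {F V : Type*} [Field F] [AddCommGroup V] [Module F V]
variable {Q : V → F} {P B : LinearMap.BilinForm F V} {θ : V →ₗ[F] V} {τ ν : F}

section

variable (S : SpU Q P B θ τ ν)

include S in
/-- `K`-independence gives `F`-independence of `y, θ y, y', θ y'`. -/
lemma indep4 {y y' : V} (hy0 : y ≠ 0) (hy'0 : y' ≠ 0) (hK' : ¬ Kmem θ y y') (α β α' β' : F)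
    (h : α • y + β • θ y + (α' • y' + β' • θ y') = 0) : α = 0 ∧ β = 0 ∧ α' = 0 ∧ β' = 0 := by
  have hm : α • y + β • θ y = 0 := by
    by_contra hm0
    have k1 : Kmem θ y (α • y + β • θ y) := ⟨α, β, rfl⟩
    have k2 : Kmem θ y' (α • y + β • θ y) := by
      refine ⟨-α', -β', ?_⟩
      have := eq_neg_of_add_eq_zero_left h
      rw [this]; module
    exact hK' ((k2.trans S.U (k1.symm S.U hm0)).symm S.U hy0)
  have hm' : α' • y' + β' • θ y' = 0 := by rwa [hm, zero_add] at h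
  exact ⟨(S.U.indep hy0 hm).1, (S.U.indep hy0 hm).2, (S.U.indep hy'0 hm').1,
    (S.U.indep hy'0 hm').2⟩

omit S in
/-- A vector off a given `K`-line. -/
lemma exists_not_kmem [FiniteDimensional F V] (h6 : finrank F V = 6) (y : V) :
    ∃ w, ¬ Kmem θ y w := by
  classical
  by_contra hcon
  push Not at hcon
  have htop : Submodule.span F (({y, θ y} : Finset V) : Set V) = ⊤ := by
    rw [eq_top_iff]
    intro w _
    obtain ⟨a, b, rfl⟩ := hcon w
    refine Submodule.add_mem _ (Submodule.smul_mem _ _ (Submodule.subset_span ?_))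
      (Submodule.smul_mem _ _ (Submodule.subset_span ?_))
    · simp
    · simp
  have h1 := finrank_span_finset_le_card ({y, θ y} : Finset V) (R := F)
  rw [Set.finrank, htop, finrank_top, h6] at h1
  have h2 : ({y, θ y} : Finset V).card ≤ 2 := Finset.card_le_two
  omega

include S in
/-- **SEMI** (verbatim package statement). -/
theorem semilinear_of_lines6 [Finite F] [FiniteDimensional F V]
    (h6 : finrank F V = 6) {g : V ≃ₗ[F] V} (hg : g ∈ isoGroup B)
    (hL : ∀ y, y ≠ 0 → Q y = 0 → Kmem θ y (g (θ (g⁻¹ y)))) :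
    ∃ a b : F, ∀ x, g (θ x) = a • g x + b • θ (g x) := by
  have hsymm := S.Psymm
  -- (1) the conjugate of `θ` has the same adjoint
  have hadj : ∀ x y, B (g (θ (g⁻¹ x))) y = τ * B x y - B x (g (θ (g⁻¹ y))) := by
    intro x y
    have e1 : B (g (θ (g⁻¹ x))) y = B (θ (g⁻¹ x)) (g⁻¹ y) := by
      have := hg (θ (g⁻¹ x)) (g⁻¹ y)
      rwa [apply_inv_apply'] at this
    have e2 : B x (g (θ (g⁻¹ y))) = B (g⁻¹ x) (θ (g⁻¹ y)) := by
      rw [isoGroup_inv_apply hg]
    have e3 : B (g⁻¹ x) (g⁻¹ y) = B x y := by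
      rw [isoGroup_inv_apply hg, apply_inv_apply']
    rw [e1, e2, S.adjB, e3]
  -- (3) non-singular vectors
  have hns : ∀ v, Q v ≠ 0 → Kmem θ v (g (θ (g⁻¹ v))) := by
    intro v hv
    obtain ⟨W₀, hW₀⟩ : ∃ W₀ : Submodule F V,
        W₀ = LinearMap.ker (B.flip v) ⊓ LinearMap.ker (B.flip (θ v)) := ⟨_, rfl⟩
    have hmemW₀ : ∀ x, x ∈ W₀ ↔ B x v = 0 ∧ B x (θ v) = 0 := by
      intro x
      rw [hW₀, Submodule.mem_inf, Cfsg.Agent.Lib.Helper94_OrthNondeg.mem_ker_flip,
        Cfsg.Agent.Lib.Helper94_OrthNondeg.mem_ker_flip]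
    have hW₀HP : ∀ x, x ∈ W₀ ↔ HP P θ x v := fun x =>
      ⟨fun h => HP_of_B S ((hmemW₀ x).mp h).1 ((hmemW₀ x).mp h).2,
        fun h => (hmemW₀ x).mpr (h.toB S)⟩
    have hfr : 4 ≤ finrank F W₀ := by
      have h1 := finrank_le_inf_ker_add_one (⊤ : Submodule F V) (B.flip v)
      have h2 := finrank_le_inf_ker_add_one
        ((⊤ : Submodule F V) ⊓ LinearMap.ker (B.flip v)) (B.flip (θ v))
      rw [finrank_top, h6] at h1
      rw [top_inf_eq] at h1 h2
      rw [hW₀]
      omega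
    have hnd : ∀ a ∈ W₀, a ≠ 0 → ∃ a' ∈ W₀, P a' a ≠ 0 := by
      intro a ha ha0
      obtain ⟨y, hy⟩ : ∃ y, P y a ≠ 0 := by
        by_contra hcon
        push Not at hcon
        exact ha0 (S.nP.2 a hcon)
      have haHP := (hW₀HP a).mp ha
      obtain ⟨pr, hpr⟩ : ∃ pr : V, pr = (1 / Q v) • (B y (θ v) • v - B y v • θ v) := ⟨_, rfl⟩
      have hprK : Kmem θ v pr :=
        ⟨(1 / Q v) * B y (θ v), -((1 / Q v) * B y v), by rw [hpr]; module⟩
      have hθvv : B (θ v) v = - Q v := by rw [alt_swap B S.alt, ← S.QB]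
      refine ⟨y - pr, (hmemW₀ _).mpr ⟨?_, ?_⟩, ?_⟩
      · rw [hpr]
        simp only [map_sub, map_smul, LinearMap.sub_apply, LinearMap.smul_apply, smul_eq_mul,
          S.alt v, hθvv]
        field_simp
        ring
      · rw [hpr]
        simp only [map_sub, map_smul, LinearMap.sub_apply, LinearMap.smul_apply, smul_eq_mul,
          S.alt (θ v), ← S.QB]
        field_simp
        ring
      · have : P pr a = 0 := by rw [hsymm]; exact (haHP.kmem_right S hprK).1
        rw [map_sub, LinearMap.sub_apply, this, sub_zero]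
        exact hy
    have hTW₀ : ∀ x ∈ W₀, g (θ (g⁻¹ x)) ∈ W₀ := by
      intro x hx
      obtain ⟨s₁, hs₁, s₂, hs₂, hQ1, hQ2, c, rfl⟩ :=
        sing_sum S.hQs S.hQp W₀ hnd (by omega) hx
      have key : ∀ s ∈ W₀, Q s = 0 → g (θ (g⁻¹ s)) ∈ W₀ := by
        intro s hs hQs'
        by_cases hs0 : s = 0
        · subst hs0; simp
        exact (hW₀HP _).mpr (((hW₀HP s).mp hs).kmem_left S (hL s hs0 hQs'))
      simp only [map_add, map_smul]
      exact W₀.add_mem (key s₁ hs₁ hQ1) (W₀.smul_mem c (key s₂ hs₂ hQ2))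
    have hW : g (θ (g⁻¹ v)) ∈ B.orthogonal (B.orthogonal (Submodule.span F {v, θ v})) := by
      rw [mem_orth]
      intro n hn
      rw [mem_orth] at hn
      have hnW₀ : n ∈ W₀ := by
        rw [hmemW₀]
        constructor
        · rw [alt_swap B S.alt, hn v (Submodule.subset_span (by simp)), neg_zero]
        · rw [alt_swap B S.alt, hn (θ v) (Submodule.subset_span (by simp)), neg_zero]
      have h1 := hadj v n
      have h2 := (hmemW₀ _).mp (hTW₀ n hnW₀)
      have h3 := (hmemW₀ _).mp hnW₀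
      rw [alt_swap B S.alt, h1, alt_swap B S.alt v n, h3.1, alt_swap B S.alt v, h2.1]
      ring
    rw [LinearMap.BilinForm.orthogonal_orthogonal S.nB S.alt.isRefl] at hW
    obtain ⟨a, b, hab⟩ := Submodule.mem_span_pair.mp hW
    exact ⟨a, b, hab.symm⟩
  have hKall : ∀ v, v ≠ 0 → Kmem θ v (g (θ (g⁻¹ v))) := by
    intro v hv0
    by_cases hQ : Q v = 0
    · exact hL v hv0 hQ
    · exact hns v hQ
  -- the coefficients agree for independent vectors
  have hstep : ∀ y y', y ≠ 0 → y' ≠ 0 → ¬ Kmem θ y y' →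
      ∀ a b a' b' : F, g (θ (g⁻¹ y)) = a • y + b • θ y → g (θ (g⁻¹ y')) = a' • y' + b' • θ y' →
      a = a' ∧ b = b' := by
    intro y y' hy0 hy'0 hK' a b a' b' e e'
    have hs0 : y + y' ≠ 0 := by
      intro h0
      apply hK'
      refine ⟨-1, 0, ?_⟩
      have := eq_neg_of_add_eq_zero_right h0
      rw [this]; module
    obtain ⟨a'', b'', e''⟩ := hKall (y + y') hs0
    have e3 : g (θ (g⁻¹ (y + y'))) = g (θ (g⁻¹ y)) + g (θ (g⁻¹ y')) := by
      simp only [map_add]
    rw [e3, e, e'] at e''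
    have h0 : (a - a'') • y + (b - b'') • θ y + ((a' - a'') • y' + (b' - b'') • θ y') = 0 := by
      have : (a - a'') • y + (b - b'') • θ y + ((a' - a'') • y' + (b' - b'') • θ y') =
          (a • y + b • θ y + (a' • y' + b' • θ y')) - (a'' • (y + y') + b'' • θ (y + y')) := by
        rw [map_add]; module
      rw [this, e'', sub_self]
    obtain ⟨h1, h2, h3, h4⟩ := indep4 S hy0 hy'0 hK' _ _ _ _ h0
    exact ⟨by linear_combination h1 - h3, by linear_combination h2 - h4⟩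
  obtain ⟨y₀, hy₀⟩ := exists_not_kmem (θ := θ) h6 (0 : V)
  have hy₀0 : y₀ ≠ 0 := by
    rintro rfl
    exact hy₀ (Kmem.zero θ _)
  obtain ⟨a, b, e₀⟩ := hKall y₀ hy₀0
  have hall : ∀ y, g (θ (g⁻¹ y)) = a • y + b • θ y := by
    intro y
    by_cases hy0 : y = 0
    · subst hy0; simp
    obtain ⟨a', b', e'⟩ := hKall y hy0
    by_cases hk : Kmem θ y₀ y
    · obtain ⟨w, hw⟩ := exists_not_kmem (θ := θ) h6 y₀
      have hw0 : w ≠ 0 := by
        rintro rfl
        exact hw (Kmem.zero θ _)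
      have hw' : ¬ Kmem θ y w := fun h => hw (hk.trans S.U h)
      obtain ⟨aw, bw, ew⟩ := hKall w hw0
      obtain ⟨h1, h2⟩ := hstep y₀ w hy₀0 hw0 hw _ _ _ _ e₀ ew
      obtain ⟨h3, h4⟩ := hstep y w hy0 hw0 hw' _ _ _ _ e' ew
      rw [e', h3, h4, ← h1, ← h2]
    · obtain ⟨h1, h2⟩ := hstep y₀ y hy₀0 hy0 hk _ _ _ _ e₀ e'
      rw [e', ← h1, ← h2]
  refine ⟨a, b, fun x => ?_⟩
  have := hall (g x)
  rwa [inv_apply_apply'] at this

end

end Cfsg.Agent.Lib.Helper59_S5804_SEMI
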