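import Mathlib

set_option autoImplicit false

/-!
# S2098 market (helper66), package KLEIN_SURJ (helper59): a subgroup generated by two commuting
involutions is an image of the four-group `Multiplicative (ZMod 2 × ZMod 2)`.
-/

namespace Cfsg.Agent.Lib.Helper66_S98

/-- the homomorphism `Multiplicative (ZMod 2) →* G` attached to an element of square one -/
private noncomputable def h59_pow2 {G : Type*} [Group G] (x : G) (hxx : x * x = 1) :
    Multiplicative (ZMod 2) →* G :=
  AddMonoidHom.toMultiplicativeLeft (ZMod.lift 2 ⟨zmultiplesHom (Additive G) (Additive.ofMul x), by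
    show ((2 : ℕ) : ℤ) • Additive.ofMul x = 0
    rw [natCast_zsmul, two_nsmul]
    exact congrArg Additive.ofMul hxx⟩)

private theorem h59_pow2_one {G : Type*} [Group G] (x : G) (hxx : x * x = 1) :
    h59_pow2 x hxx (Multiplicative.ofAdd 1) = x := by
  unfold h59_pow2
  show Additive.toMul ((ZMod.lift 2 ⟨zmultiplesHom (Additive G) (Additive.ofMul x), _⟩)
    (1 : ZMod 2)) = x
  have h1 : (1 : ZMod 2) = ((1 : ℤ) : ZMod 2) := by simp
  rw [h1, ZMod.lift_coe]
  simp

private theorem h59_cases (m : Multiplicative (ZMod 2)) :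
    m = 1 ∨ m = Multiplicative.ofAdd 1 := by
  have h : ∀ a : ZMod 2, a = 0 ∨ a = 1 := by decide
  rcases h m.toAdd with h0 | h1
  · left
    exact congrArg Multiplicative.ofAdd h0
  · right
    exact congrArg Multiplicative.ofAdd h1

theorem exists_klein_surj {G : Type*} [Group G] (K : Subgroup G) (x y : G) (hx : x ∈ K) (hy : y ∈ K)
    (hxx : x * x = 1) (hyy : y * y = 1) (hxy : x * y = y * x) (hgen : K ≤ Subgroup.closure {x, y}) :
    ∃ π : Multiplicative (ZMod 2 × ZMod 2) →* K, Function.Surjective π := by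
  have hxx' : (⟨x, hx⟩ : K) * ⟨x, hx⟩ = 1 := Subtype.ext hxx
  have hyy' : (⟨y, hy⟩ : K) * ⟨y, hy⟩ = 1 := Subtype.ext hyy
  have hc : Commute (⟨x, hx⟩ : K) ⟨y, hy⟩ := Subtype.ext hxy
  have hcomm : ∀ m n : Multiplicative (ZMod 2),
      Commute (h59_pow2 (⟨x, hx⟩ : K) hxx' m) (h59_pow2 (⟨y, hy⟩ : K) hyy' n) := by
    intro m n
    rcases h59_cases m with rfl | rfl <;> rcases h59_cases n with rfl | rfl
    · rw [map_one, map_one]
    · rw [map_one]; exact Commute.one_left _
    · rw [map_one (h59_pow2 (⟨y, hy⟩ : K) hyy')]; exact Commute.one_right _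
    · rw [h59_pow2_one, h59_pow2_one]; exact hc
  refine ⟨(MonoidHom.noncommCoprod _ _ hcomm).comp
    (MulEquiv.prodMultiplicative (ZMod 2) (ZMod 2)).toMonoidHom, ?_⟩
  have hrange : K ≤ ((MonoidHom.noncommCoprod _ _ hcomm).comp
      (MulEquiv.prodMultiplicative (ZMod 2) (ZMod 2)).toMonoidHom).range.map K.subtype := by
    refine hgen.trans ?_
    rw [Subgroup.closure_le]
    intro g hg
    rcases hg with rfl | rfl
    · refine ⟨⟨g, hx⟩, ⟨Multiplicative.ofAdd (1, 0), ?_⟩, rfl⟩
      simp only [MonoidHom.comp_apply, MulEquiv.coe_toMonoidHom]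
      show (MonoidHom.noncommCoprod _ _ hcomm) (Multiplicative.ofAdd 1, Multiplicative.ofAdd 0) = _
      rw [MonoidHom.noncommCoprod_apply, h59_pow2_one]
      simp
    · refine ⟨⟨g, hy⟩, ⟨Multiplicative.ofAdd (0, 1), ?_⟩, rfl⟩
      simp only [MonoidHom.comp_apply, MulEquiv.coe_toMonoidHom]
      show (MonoidHom.noncommCoprod _ _ hcomm) (Multiplicative.ofAdd 0, Multiplicative.ofAdd 1) = _
      rw [MonoidHom.noncommCoprod_apply, h59_pow2_one]
      simp
  intro k
  obtain ⟨k', ⟨m, hm⟩, hk'⟩ := hrange k.2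
  refine ⟨m, ?_⟩
  rw [hm]
  exact Subtype.ext hk'

end Cfsg.Agent.Lib.Helper66_S98
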