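import Mathlib
import Cfsg.Prelude.Def_GeometricClasses
import Cfsg.Agent.Lib.Helper29_SLGeo
import Cfsg.Agent.Lib.Helper59_OSim6

set_option autoImplicit false
open Cfsg

/-!
# The two missing pieces of the `SL_6` geometric row (helper59)

`quad_max6`: the similarity group of a nondegenerate quadratic form is maximal in `SL_n`, `n ≥ 6`, odd `q`
(`Helper29_SLGeo.quad_max` with `Helper59_OSim6.maximal_osim6` in place of the `n ≥ 9` engine).
`subfield_max_of`: `Helper29_SLGeo.subfield_max` with the projective-rationality input as a hypothesis.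
-/

namespace Cfsg.Agent.Lib.Helper59_SLGeo6b

section Quad

theorem quad_max6 {F : Type*} [Field F] [Fintype F] (n : ℕ) (hn : 6 ≤ n) (hodd : Odd (Fintype.card F)) (Q : (Fin n → F) → F) (hQ : Cfsg.Geo.IsNondegenerateQuadraticForm Q) : Cfsg.Geo.IsMaximalIn (Cfsg.Geo.specialLinear (Fin n) F) (Cfsg.Geo.quadSimilarityGroup Q ⊓ Cfsg.Geo.specialLinear (Fin n) F) := by
  open Cfsg.Agent.Lib.Helper94_Symp Cfsg.Agent.Lib.Helper94_Bridge
    Cfsg.Agent.Lib.Helper94_SLBridge Cfsg.Agent.Lib.Helper94_OrthBridge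
    Cfsg.Agent.Lib.Helper94_OrthGenBridge Cfsg.Agent.Lib.Helper94_OrthC2Bridge
    Cfsg.Agent.Lib.Helper94_OrthSim in
  have h2 : (2 : F) ≠ 0 := two_ne_zero_of_odd_card (Nat.odd_iff.mp hodd)
  have hnt : Nontrivial (Fin n) := Fin.nontrivial_iff_two_le.mpr (by omega)
  let S : Subgroup ((Fin n → F) ≃ₗ[F] (Fin n → F)) :=
    (Cfsg.Geo.quadSimilarityGroup Q).comap (glEquiv (Fin n) F).symm.toMonoidHom
  have hSeq : Cfsg.Geo.quadSimilarityGroup Q = S.comap (glEquiv (Fin n) F).toMonoidHom :=
    (comap_symm_comap (glEquiv (Fin n) F) _).symm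
  rw [hSeq, specialLinear_eq, ← Subgroup.comap_inf]
  apply isMaximalIn_comap
  have hdim : 6 ≤ Module.finrank F (Fin n → F) := by
    rw [Module.finrank_fintype_fun_eq_card, Fintype.card_fin]; exact hn
  apply Cfsg.Agent.Lib.Helper59_OSim6.maximal_osim6 (gen_hQs Q hQ) (gen_hQp Q hQ) h2 (gen_hN Q hQ) hdim S (slK (Fin n) F)
  · intro g
    have key : ∀ u, (((glEquiv (Fin n) F).symm g : Matrix.GeneralLinearGroup (Fin n) F) :
        Matrix (Fin n) (Fin n) F).mulVec u = g u := by
      intro u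
      rw [← glEquiv_apply, MulEquiv.apply_symm_apply]
    constructor
    · rintro ⟨c, hc⟩
      refine ⟨c, fun v => ?_⟩
      have := hc v
      simp only [MulEquiv.toMonoidHom_eq_coe, MonoidHom.coe_coe] at this
      rw [key] at this
      exact this
    · rintro ⟨c, hc⟩
      refine ⟨c, fun v => ?_⟩
      simp only [MulEquiv.toMonoidHom_eq_coe, MonoidHom.coe_coe]
      rw [key]
      exact hc v
  · exact transvection_mem_slK
  · exact slK_le_of_transvections

end Quad

section Subfield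
open Cfsg.Agent.Lib.Helper98_MonoG Cfsg.Agent.Lib.Helper98_MonoTop
  Cfsg.Agent.Lib.Helper98_SubfBase Cfsg.Agent.Lib.Helper98_SubfU
  Cfsg.Agent.Lib.Helper98_SubfTS Cfsg.Agent.Lib.Helper98_SubfInv Cfsg.Agent.S5639
open scoped MatrixGroups

theorem subfield_max_of {F : Type*} [Field F] [Fintype F] (n : ℕ) (hn : 3 ≤ n) (F₀ : Subfield F) (r : ℕ) (hr : r.Prime) (hcard : Fintype.card F = Nat.card F₀ ^ r) (P : Matrix.GeneralLinearGroup (Fin n) F)
    (hle' : ∀ M : Subgroup (GL (Fin n) F), HypS F₀ M → n ≤ Module.finrank F₀ F →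
      ∀ k ∈ M, PRat F₀ (k : Matrix (Fin n) (Fin n) F)) :
    Cfsg.Geo.IsMaximalIn (Cfsg.Geo.specialLinear (Fin n) F) (Cfsg.Geo.subfieldSubgroup F₀ P ⊓ Cfsg.Geo.specialLinear (Fin n) F) := by
  classical
  apply maximal_of_standard P
  have hfin : Module.finrank F₀ F = r := finrank_eq F₀ r hcard
  have hp : (Module.finrank F₀ F).Prime := by rw [hfin]; exact hr
  have hn3 : 3 ≤ Fintype.card (Fin n) := by rw [Fintype.card_fin]; omega
  set i0 : Fin n := ⟨0, by omega⟩ with hi0
  set i1 : Fin n := ⟨1, by omega⟩ with hi1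
  have h01 : i0 ≠ i1 := by simp [hi0, hi1, Fin.ext_iff]
  constructor
  · refine lt_of_le_of_ne inf_le_right ?_
    intro heq
    -- an element of `F` outside `F₀`
    obtain ⟨c, hc⟩ : ∃ c : F, c ∉ F₀ := by
      by_contra hcon
      push Not at hcon
      have htop : F₀ = ⊤ := by
        ext x
        simp [hcon x]
      have h1 : Nat.card F₀ = Fintype.card F := by
        rw [htop, ← Nat.card_eq_fintype_card]
        exact Nat.card_congr Subfield.topEquiv.toEquiv
      have h2 : 2 ≤ Nat.card F₀ := by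
        rw [h1]
        exact Fintype.one_lt_card
      rw [← h1] at hcard
      have h3 : Nat.card F₀ ^ 1 = Nat.card F₀ ^ r := by rw [pow_one]; exact hcard
      have := Nat.pow_right_injective h2 h3
      exact hr.one_lt.ne this
    have hdetE : ((1 : Matrix (Fin n) (Fin n) F) + Matrix.single i0 i1 c).det = 1 :=
      Matrix.det_transvection_of_ne i0 i1 h01 c
    set E : GL (Fin n) F := Matrix.GeneralLinearGroup.mkOfDetNeZero (1 + Matrix.single i0 i1 c)
      (by rw [hdetE]; exact one_ne_zero) with hE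
    have hEv : (E : Matrix (Fin n) (Fin n) F) = 1 + Matrix.single i0 i1 c := rfl
    have hE1 : E ∈ Cfsg.Geo.specialLinear (Fin n) F := (mem_SL_iff _).mpr (by rw [hEv, hdetE])
    rw [← heq] at hE1
    obtain ⟨ν, hν, hA⟩ := hE1.1
    have e1 := hA i0 i0
    have e2 := hA i0 i1
    rw [hEv, Matrix.smul_apply, Matrix.add_apply, Matrix.one_apply_eq, Matrix.single_apply,
      if_neg (fun h => h01 h.2.symm), add_zero, smul_eq_mul, mul_one] at e1
    rw [hEv, Matrix.smul_apply, Matrix.add_apply, Matrix.one_apply_ne h01, Matrix.single_apply,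
      if_pos ⟨rfl, rfl⟩, zero_add, smul_eq_mul] at e2
    apply hc
    have := F₀.mul_mem (F₀.inv_mem e1) e2
    rwa [← mul_assoc, inv_mul_cancel₀ hν, one_mul] at this
  · intro M hHM hMS
    have hR : HypR F₀ M :=
      ⟨fun g hg => (mem_SL_iff g).mp (hMS hg),
        fun g hrat hdet => hHM ⟨hrat.prat, (mem_SL_iff g).mpr hdet⟩⟩
    by_cases hirr : ∃ i j : Fin n, i ≠ j ∧ ∃ c : F, c ∉ F₀ ∧ InK M (1 + Matrix.single i j c)
    · right
      obtain ⟨i, j, hij, c, hc, hE⟩ := hirr
      exact le_antisymm hMS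
        (fun g hg => sl_le_of_irrational hR hn3 hp hij hc hE g ((mem_SL_iff g).mp hg))
    · left
      have hS : HypS F₀ M := by
        refine ⟨hR, fun i j hij c hpc => ?_⟩
        by_contra hc
        exact hirr ⟨i, j, hij, c, hc, pc_single.mp hpc⟩
      have hle : ∀ k ∈ M, PRat F₀ (k : Matrix (Fin n) (Fin n) F) := by
        by_cases hlt : Module.finrank F₀ F < n
        · intro k hk
          exact prat_of_finrank_lt hS hn3 (by rw [Fintype.card_fin]; exact hlt) hk
        · exact hle' M hS (by omega)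
      exact le_antisymm (fun g hg => ⟨hle g hg, hMS hg⟩) hHM

end Subfield

end Cfsg.Agent.Lib.Helper59_SLGeo6b
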