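import Mathlib
import Cfsg.Agent.Lib.Helper98_ExtDefs
import Cfsg.Agent.Lib.Helper29_SpExtDefs
import Cfsg.Agent.Lib.Helper59_Ext_S5a
import Cfsg.Agent.Lib.Helper59_Ext_S5b

/-!
S5664 package CFA (architect helper29): `t' ⊆ K δ + K u₀` for `u₀ ∈ t' \ K δ`.
If `u ∈ t'` is not in `W = K δ + K u₀`, some `w` is `B`-orthogonal to `W` but not to `u`; the
`K`-transvections with centre `w` lie in `M`, fix `K δ` pointwise and fix `u₀`, so by `Dich` they
stabilise `t'`; hence `K w ⊆ t'`, so `t' = K w = K δ`, a contradiction.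
-/

set_option autoImplicit false

open Cfsg.Agent.Lib.Helper98_ExtDefs Cfsg.Agent.Lib.Helper29_SpExtDefs
open Cfsg.Agent.Lib.Helper59_Ext_S5a Cfsg.Agent.Lib.Helper59_Ext_S5b

namespace Cfsg.Agent.Lib.Helper59_SpExt_CFA

variable {F K V : Type*} [Field F] [Field K] [Algebra F K] [AddCommGroup V] [Module F V]
  [Module K V] [IsScalarTower F K V] [Finite F] [Finite K] [Module.Finite K V]

theorem CFA (B : LinearMap.BilinForm K V) (halt : B.IsAlt) (hnd : B.Nondegenerate)
    (M : Subgroup (V ≃ₗ[F] V)) (hS : SpHyp F B M)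
    (hktv : ∀ (κ : K) (w : V), ∃ g : V ≃ₗ[K] V, (∀ x, g x = x + (κ * B x w) • w) ∧
      ∀ x y, B (g x) (g y) = B x y)
    (y : V ≃ₗ[F] V) (v₁ δ u₀ : V) (hv₁ : v₁ ≠ 0) (hδ : δ ≠ 0) (hδt : δ ∈ tsp F K V y v₁)
    (hne : tsp F K V y v₁ ≠ kline F K V δ) (hd : Dich F K V M y v₁ δ)
    (hu₀t : u₀ ∈ tsp F K V y v₁) (hu₀ : u₀ ∉ kline F K V δ) :
    ∀ u ∈ tsp F K V y v₁, ∃ α γ : K, u = α • δ + γ • u₀ := by
  classical
  have hfinV : Finite V := Module.finite_of_finite K
  have hfin : Module.finrank F (tsp F K V y v₁) = Module.finrank F K := by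
    unfold tsp
    rw [LinearEquiv.finrank_map_eq y, finrank_kline hv₁]
  intro u hu
  by_contra hnot
  have huW : u ∉ Submodule.span K {δ, u₀} := by
    intro h
    obtain ⟨α, γ, h'⟩ := Submodule.mem_span_pair.1 h
    exact hnot ⟨α, γ, h'.symm⟩
  obtain ⟨χ, hχW, hχ1⟩ := exists_functional (Submodule.span K {δ, u₀}) u huW (1 : K)
  have hχδ : χ δ = 0 := hχW δ (Submodule.subset_span (by simp))
  have hχu₀ : χ u₀ = 0 := hχW u₀ (Submodule.subset_span (by simp))
  -- the vector representing `χ`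
  set w : V := (B.toDual hnd).symm χ with hw
  have hBw : ∀ v : V, B w v = χ v := fun v => LinearMap.BilinForm.apply_toDual_symm_apply χ v
  have hBw' : ∀ v : V, B v w = - χ v := by
    intro v
    rw [← hBw, ← halt.neg_eq]
  have hw0 : w ≠ 0 := by
    intro h
    have h1 := hBw u
    rw [h, map_zero, LinearMap.zero_apply, hχ1] at h1
    exact zero_ne_one h1
  have hfinw : Module.finrank F (kline F K V w) = Module.finrank F K := finrank_kline hw0
  -- every `K`-multiple of `w` lies in `t'`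
  have hall : ∀ κ : K, κ • w ∈ tsp F K V y v₁ := by
    intro κ
    obtain ⟨g, hg, hgB⟩ := hktv (-κ) w
    obtain ⟨x, hxM, hx'⟩ := hS g hgB
    have hx : ∀ a : V, x a = a + ((-κ) * B a w) • w := by
      intro a
      rw [← hg a]
      exact hx' a
    have hfix : ∀ a ∈ kline F K V δ ⊓ tsp F K V y v₁, x a = a := by
      intro a ha
      obtain ⟨k, rfl⟩ := mem_kline.1 (Submodule.mem_inf.1 ha).1
      rw [hx, hBw', map_smul, hχδ, smul_zero, neg_zero, mul_zero, zero_smul, add_zero]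
    have hxu₀ : x u₀ = u₀ := by
      rw [hx, hBw', hχu₀, neg_zero, mul_zero, zero_smul, add_zero]
    rcases hd x hxM hfix with h | h
    · have h1 := h u hu
      rw [hx, hBw', hχ1, neg_mul_neg, mul_one] at h1
      have h2 := Submodule.sub_mem _ h1 hu
      rwa [add_sub_cancel_left] at h2
    · exfalso
      have h1 : x u₀ ∈ tsp F K V y v₁ := by rw [hxu₀]; exact hu₀t
      have h2 := h u₀ hu₀t h1
      rw [hxu₀] at h2
      exact hu₀ h2
  have hle : kline F K V w ≤ tsp F K V y v₁ := by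
    intro a ha
    obtain ⟨k, rfl⟩ := mem_kline.1 ha
    exact hall k
  have heq : kline F K V w = tsp F K V y v₁ :=
    Submodule.eq_of_le_of_finrank_eq hle (hfinw.trans hfin.symm)
  apply hne
  rw [← heq]
  apply kline_eq_of_mem hδ
  rw [heq]
  exact hδt

end Cfsg.Agent.Lib.Helper59_SpExt_CFA
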