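import Mathlib
import Cfsg.Agent.Lib.Helper94_Symp
import Cfsg.Agent.Lib.Helper94_SympQuad

set_option autoImplicit false

/-!
helper59: `Helper94_SympQuad.maximal_oGroup` (characteristic two: `O(Q)` is maximal in `Sp(B)`) for
`6 ≤ dim V` instead of `8 ≤ dim V`.  The only place where the dimension enters is the existence of
a vector orthogonal to three given vectors with prescribed `Q`-value; in dimension `6` this needs
the three vectors not to span a totally isotropic subspace, which holds at both call sites.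
-/

namespace Cfsg.Agent.Lib.Helper59_SympQuad6

open Cfsg.Agent.Lib.Helper94_Symp Cfsg.Agent.Lib.Helper94_SympQuad

variable {F V : Type*} [Field F] [AddCommGroup V] [Module F V]

section Main

variable [CharP F 2] (B : LinearMap.BilinForm F V) (hB : B.IsAlt) (Q : V → F)
  (hsq : ∀ a : F, ∃ b : F, b * b = a)
  (hQs : ∀ (c : F) (v : V), Q (c • v) = c * c * Q v)
  (hQp : ∀ u v : V, Q (u + v) = Q u + Q v + B u v)

include hB hsq hQs hQp in
lemma exists_orth_Q [FiniteDimensional F V] (hN : B.Nondegenerate)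
    (hdim : 6 ≤ Module.finrank F V) (x y z : V) (hnti : B x y ≠ 0 ∨ B x z ≠ 0 ∨ B y z ≠ 0)
    (κ : F) :
    ∃ w, B x w = 0 ∧ B y w = 0 ∧ B z w = 0 ∧ Q w = κ := by
  classical
  set S : Submodule F V := Submodule.span F ((({x, y, z} : Finset V)) : Set V) with hS
  have hSle : Module.finrank F S ≤ 3 :=
    le_trans (finrank_span_finset_le_card _) Finset.card_le_three
  have hU : Module.finrank F (B.orthogonal S) = Module.finrank F V - Module.finrank F S :=
    LinearMap.BilinForm.finrank_orthogonal hN S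
  have hxS : x ∈ S := Submodule.subset_span (by simp)
  have hyS : y ∈ S := Submodule.subset_span (by simp)
  have hzS : z ∈ S := Submodule.subset_span (by simp)
  have hex : ∃ w1 ∈ B.orthogonal S, ∃ w2 ∈ B.orthogonal S, B w1 w2 ≠ 0 := by
    by_contra hcon
    push Not at hcon
    have hle : B.orthogonal S ≤ B.orthogonal (B.orthogonal S) := by
      intro w hw
      rw [mem_orth]
      intro n hn
      exact hcon n hn w hw
    rw [LinearMap.BilinForm.orthogonal_orthogonal hN hB.isRefl] at hle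
    have heq : B.orthogonal S = S :=
      Submodule.eq_of_le_of_finrank_le hle (by omega)
    have hti : ∀ u ∈ S, ∀ v ∈ S, B u v = 0 := by
      intro u hu v hv
      have hv' : v ∈ B.orthogonal S := by rw [heq]; exact hv
      rw [mem_orth] at hv'
      exact hv' u hu
    rcases hnti with h | h | h
    · exact h (hti x hxS y hyS)
    · exact h (hti x hxS z hzS)
    · exact h (hti y hyS z hzS)
  obtain ⟨w1, hw1, w2, hw2, h12⟩ := hex
  have hw0 : ∃ w0 ∈ B.orthogonal S, Q w0 ≠ 0 := by
    by_contra hcon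
    push Not at hcon
    have h1 := hcon w1 hw1
    have h2 := hcon w2 hw2
    have h3 := hcon (w1 + w2) (Submodule.add_mem _ hw1 hw2)
    rw [hQp, h1, h2, zero_add, zero_add] at h3
    exact h12 h3
  obtain ⟨w0, hw0, hq0⟩ := hw0
  obtain ⟨c, hc⟩ := hsq (κ / Q w0)
  have hmem : c • w0 ∈ B.orthogonal S := Submodule.smul_mem _ c hw0
  rw [mem_orth] at hmem
  refine ⟨c • w0, hmem x hxS, hmem y hyS, hmem z hzS, ?_⟩
  rw [hQs, hc, div_mul_cancel₀ _ hq0]

include hB hsq hQs hQp in
lemma exists_B_one_Q [FiniteDimensional F V] (hN : B.Nondegenerate)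
    (hdim : 6 ≤ Module.finrank F V) {a' : V} (ha' : a' ≠ 0) (s : F) :
    ∃ b, B b a' = 1 ∧ Q b = s := by
  have h1 : ∃ z, B z a' ≠ 0 := by
    by_contra hcon
    push Not at hcon
    exact ha' (hN.2 a' hcon)
  obtain ⟨z, hz⟩ := h1
  have hb0 : B ((B z a')⁻¹ • z) a' = 1 := by
    rw [map_smul, LinearMap.smul_apply, smul_eq_mul, inv_mul_cancel₀ hz]
  obtain ⟨w, h1w, h2w, -, hQw⟩ := exists_orth_Q B hB Q hsq hQs hQp hN hdim a'
    ((B z a')⁻¹ • z) ((B z a')⁻¹ • z) (Or.inl (by
      rw [alt_swap B hB, hb0]; exact neg_ne_zero.mpr one_ne_zero)) (s + Q ((B z a')⁻¹ • z))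
  refine ⟨(B z a')⁻¹ • z + w, ?_, ?_⟩
  · rw [map_add, LinearMap.add_apply, hb0, alt_swap B hB w a', h1w, neg_zero, add_zero]
  · rw [hQp, hQw, h2w, add_zero, add_comm s, ← add_assoc, CharTwo.add_self_eq_zero, zero_add]

include hB hsq hQs hQp in
lemma witt_vec [FiniteDimensional F V] (hN : B.Nondegenerate)
    (hdim : 6 ≤ Module.finrank F V) {x y : V} (hx : x ≠ 0) (hy : y ≠ 0) (hxy : Q x = Q y) :
    ∃ g ∈ oGroup B Q, g x = y := by
  by_cases h : B x y = 0
  · have h1 : ∃ z ∈ (⊤ : Submodule F V), B z x ≠ 0 := by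
      by_contra hcon
      push Not at hcon
      exact hx (hN.2 x (fun z => hcon z trivial))
    have h2 : ∃ z ∈ (⊤ : Submodule F V), B z y ≠ 0 := by
      by_contra hcon
      push Not at hcon
      exact hy (hN.2 y (fun z => hcon z trivial))
    obtain ⟨z0, -, hz0x, hz0y⟩ := exists_both_ne_zero B ⊤ h1 h2
    obtain ⟨w, hxw, hyw, hzw, hQw⟩ := exists_orth_Q B hB Q hsq hQs hQp hN hdim x y z0
      (Or.inr (Or.inl (alt_ne_zero_comm B hB hz0x))) (Q x + Q z0)
    have hQz : Q (z0 + w) = Q x := by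
      rw [hQp, hQw, hzw, add_zero, add_comm (Q x), ← add_assoc, CharTwo.add_self_eq_zero,
        zero_add]
    have hzx : B x (z0 + w) ≠ 0 := by
      rw [map_add, hxw, add_zero]
      exact alt_ne_zero_comm B hB hz0x
    have hzy : B (z0 + w) y ≠ 0 := by
      rw [map_add, LinearMap.add_apply, alt_swap B hB w y, hyw, neg_zero, add_zero]
      exact hz0y
    obtain ⟨g1, hg1, e1⟩ := exists_refl_move B hB Q hQs hQp (x := x) (y := z0 + w) hQz.symm hzx
    obtain ⟨g2, hg2, e2⟩ := exists_refl_move B hB Q hQs hQp (x := z0 + w) (y := y)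
      (hQz.trans hxy) hzy
    exact ⟨g2 * g1, mul_mem hg2 hg1, by rw [LinearEquiv.mul_apply, e1, e2]⟩
  · exact exists_refl_move B hB Q hQs hQp hxy h

include hB hsq hQs hQp in
lemma exists_defect [FiniteDimensional F V] (hN : B.Nondegenerate) {g : V ≃ₗ[F] V}
    (hg : g ∈ isoGroup B) : ∃ a, ∀ v, Q (g v) = Q v + B v a * B v a := by
  choose s hs using hsq
  have hs_add : ∀ a b, s (a + b) = s a + s b := fun a b =>
    sq_inj (by rw [hs, CharTwo.add_mul_self, hs, hs])
  have hs_mul : ∀ c a, s (c * c * a) = c * s a := fun c a =>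
    sq_inj (by rw [hs, mul_mul_mul_comm, hs])
  have hD_add : ∀ u v, Q (g (u + v)) + Q (u + v) = (Q (g u) + Q u) + (Q (g v) + Q v) := by
    intro u v
    rw [map_add, hQp, hQp, hg u v]
    have := CharTwo.add_self_eq_zero (B u v)
    linear_combination this
  have hD_smul : ∀ (c : F) v, Q (g (c • v)) + Q (c • v) = c * c * (Q (g v) + Q v) := by
    intro c v
    rw [map_smul, hQs, hQs]
    ring
  let φ : V →ₗ[F] F :=
    { toFun := fun v => s (Q (g v) + Q v)
      map_add' := fun u v => by rw [hD_add, hs_add]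
      map_smul' := fun c v => by rw [hD_smul, hs_mul]; rfl }
  refine ⟨(B.toDual hN).symm φ, fun v => ?_⟩
  have h1 : B v ((B.toDual hN).symm φ) = φ v := by
    rw [alt_swap B hB, CharTwo.neg_eq, LinearMap.BilinForm.apply_toDual_symm_apply]
  rw [h1]
  show Q (g v) = Q v + s (Q (g v) + Q v) * s (Q (g v) + Q v)
  rw [hs, add_comm (Q (g v)), ← add_assoc, CharTwo.add_self_eq_zero, zero_add]

include hB hsq hQs hQp in
/-- In characteristic two, the isometry group of a quadratic map polarising to a nondegenerate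
alternating form is maximal in the symplectic group. -/
theorem maximal_oGroup6 [FiniteDimensional F V] (hN : B.Nondegenerate)
    (hdim : 6 ≤ Module.finrank F V) :
    oGroup B Q < isoGroup B ∧ ∀ M : Subgroup (V ≃ₗ[F] V), oGroup B Q ≤ M → M ≤ isoGroup B →
      M = oGroup B Q ∨ M = isoGroup B := by
  have hle : oGroup B Q ≤ isoGroup B := fun g hg => hg.1
  have key : ∀ M : Subgroup (V ≃ₗ[F] V), oGroup B Q ≤ M → M ≤ isoGroup B →
      (∃ g ∈ M, g ∉ oGroup B Q) → isoGroup B ≤ M := by
    rintro M hHM hMK ⟨g, hgM, hgH⟩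
    have hgI := hMK hgM
    obtain ⟨a', ha'⟩ := exists_defect B hB Q hsq hQs hQp hN hgI
    have ha'0 : a' ≠ 0 := by
      rintro rfl
      apply hgH
      exact ⟨hgI, fun v => by rw [ha', map_zero, mul_zero, add_zero]⟩
    have claim : ∀ a : V, (∃ u : F, Q a = u * u + u) →
        ∃ m ∈ M, ∀ v, Q (m v) = Q v + B v a * B v a := by
      rintro a ⟨u0, hu0⟩
      by_cases ha : a = 0
      · subst ha
        exact ⟨1, M.one_mem, fun v => by simp⟩
      obtain ⟨u, hu, hune⟩ : ∃ u : F, Q a = u * u + u ∧ u ≠ 0 := by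
        by_cases h0 : u0 = 0
        · refine ⟨1, ?_, one_ne_zero⟩
          rw [hu0, h0, mul_zero, add_zero, mul_one, CharTwo.add_self_eq_zero]
        · exact ⟨u0, hu0, h0⟩
      obtain ⟨b, hb1, hbs⟩ := exists_B_one_Q B hB Q hsq hQs hQp hN hdim ha'0 (u⁻¹ + 1)
      have hQgb : Q (g b) = u⁻¹ := by
        rw [ha', hbs, hb1, mul_one, add_assoc, CharTwo.add_self_eq_zero, add_zero]
      have hgb0 : Q (g b) ≠ 0 := by rw [hQgb]; exact inv_ne_zero hune
      have hr : stv B hB (g b) u ∈ M := by
        have := hHM (refl_mem B hB Q hQs hQp hgb0)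
        rwa [hQgb, inv_inv] at this
      have ht : stv B hB b u ∈ M := by
        have hc := conj_stv B hB ((isoGroup B).inv_mem hgI) (g b) u
        rw [inv_inv, inv_apply_apply'] at hc
        rw [← hc]
        exact M.mul_mem (M.mul_mem (M.inv_mem hgM) hr) hgM
      have hbne : b ≠ 0 := by
        rintro rfl
        rw [map_zero, LinearMap.zero_apply] at hb1
        exact zero_ne_one hb1
      have hub : u • b ≠ 0 := smul_ne_zero hune hbne
      have huu : u * u * (u⁻¹ + 1) = u + u * u := by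
        rw [mul_add, mul_assoc, mul_inv_cancel₀ hune, mul_one, mul_one]
      have hQub : Q a = Q (u • b) := by
        rw [hQs, hbs, hu, huu, add_comm]
      obtain ⟨h, hhH, hha⟩ := witt_vec B hB Q hsq hQs hQp hN hdim ha hub hQub
      refine ⟨stv B hB b u * h, M.mul_mem ht (hHM hhH), fun v => ?_⟩
      rw [LinearEquiv.mul_apply, Q_stv B hB Q hQs hQp, hhH.2 v, hbs]
      have e1 : B v a = B (h v) (u • b) := by rw [← hha, hhH.1 v a]
      have huu2 : u + u * u + u = u * u := by
        rw [add_comm u (u * u), add_assoc, CharTwo.add_self_eq_zero, add_zero]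
      rw [e1, map_smul, smul_eq_mul, huu, huu2]
      ring
    apply isoGroup_le_of_stv_mem B hB hN
    intro v c
    obtain ⟨l, hl⟩ := hsq (c * c * Q v + c)
    obtain ⟨m, hmM, hm⟩ := claim (l • v) ⟨c * Q v, by rw [hQs, hl]; ring⟩
    have hmI := hMK hmM
    have hmem : stv B hB v c * m⁻¹ ∈ oGroup B Q := by
      refine ⟨(isoGroup B).mul_mem (stv_mem_isoGroup B hB v c) ((isoGroup B).inv_mem hmI),
        fun w => ?_⟩
      rw [LinearEquiv.mul_apply, Q_stv B hB Q hQs hQp]
      have := hm (m⁻¹ w)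
      rw [apply_inv_apply', map_smul, smul_eq_mul] at this
      rw [this, ← hl]
      ring
    have : stv B hB v c = (stv B hB v c * m⁻¹) * m := by group
    rw [this]
    exact M.mul_mem (hHM hmem) hmM
  refine ⟨lt_of_le_of_ne hle ?_, ?_⟩
  · intro heq
    have hpos : 0 < Module.finrank F V := by omega
    obtain ⟨a', ha'⟩ := Module.finrank_pos_iff_exists_ne_zero.mp hpos
    obtain ⟨b, hb1, hbs⟩ := exists_B_one_Q B hB Q hsq hQs hQp hN hdim ha' 0
    have ht : stv B hB b 1 ∈ oGroup B Q := by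
      rw [heq]
      exact stv_mem_isoGroup B hB b 1
    have := ht.2 a'
    rw [Q_stv B hB Q hQs hQp, hbs, alt_swap B hB a' b, hb1] at this
    simp at this
  · intro M hHM hMK
    by_cases h : ∃ g ∈ M, g ∉ oGroup B Q
    · right
      exact le_antisymm hMK (key M hHM hMK h)
    · left
      push Not at h
      exact le_antisymm h hHM

end Main

end Cfsg.Agent.Lib.Helper59_SympQuad6
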