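import Mathlib
import Cfsg.Agent.Lib.Helper94_Symp

set_option autoImplicit false
set_option linter.unusedSimpArgs false

/-!
Swapping two orthogonal nondegenerate subspaces of a symplectic space by an isometry.
-/

namespace Cfsg.Agent.Lib.Helper94_SympSwap

open Module Cfsg.Agent.Lib.Helper94_Symp

variable {F V : Type*} [Field F] [AddCommGroup V] [Module F V]

section

variable (B : LinearMap.BilinForm F V) (hB : B.IsAlt)

/-- The map `x ↦ x + B x a • b - B x b • a`; for `B a b = 2` it is an involutive isometry. -/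
def swapLin (a b : V) : V →ₗ[F] V :=
  LinearMap.id + (B.flip a).smulRight b - (B.flip b).smulRight a

@[simp] lemma swapLin_apply (a b x : V) : swapLin B a b x = x + B x a • b - B x b • a := by
  simp [swapLin]

include hB in
lemma swapLin_swapLin (a b : V) (h : B a b = 2) (x : V) : swapLin B a b (swapLin B a b x) = x := by
  have hba : B b a = -2 := by rw [alt_swap B hB, h]
  simp only [swapLin_apply, map_add, map_sub, map_smul, LinearMap.add_apply, LinearMap.sub_apply,
    LinearMap.smul_apply, smul_eq_mul, hB a, hB b, h, hba, mul_zero]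
  module

/-- The swap as a linear equivalence. -/
def swapEl (a b : V) (h : B a b = 2) : V ≃ₗ[F] V :=
  LinearEquiv.ofLinearMap (swapLin B a b) (swapLin B a b)
    (LinearMap.ext fun x => swapLin_swapLin B hB a b h x)
    (LinearMap.ext fun x => swapLin_swapLin B hB a b h x)

@[simp] lemma swapEl_apply (a b : V) (h : B a b = 2) (x : V) :
    swapEl B hB a b h x = x + B x a • b - B x b • a := by
  simp [swapEl]

lemma swapEl_mem_isoGroup (a b : V) (h : B a b = 2) : swapEl B hB a b h ∈ isoGroup B := by
  intro x y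
  have hba : B b a = -2 := by rw [alt_swap B hB, h]
  have h1 : B a y = - B y a := alt_swap B hB a y
  have h2 : B b y = - B y b := alt_swap B hB b y
  simp only [swapEl_apply, map_add, map_sub, map_smul, LinearMap.add_apply, LinearMap.sub_apply,
    LinearMap.smul_apply, smul_eq_mul, hB a, hB b, h, hba, h1, h2]
  ring


include hB in
/-- A hyperbolic partner: for nonzero `e` in a nondegenerate subspace `W` there is `f ∈ W`
with `B e f = 1`. -/
lemma exists_partner {W : Submodule F V} (hW : NondegOn B W) {e : V} (he : e ∈ W) (he0 : e ≠ 0) :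
    ∃ f ∈ W, B e f = 1 := by
  obtain ⟨x, hx, hxe⟩ := hW e he he0
  have hex : B e x ≠ 0 := alt_ne_zero_comm B hB hxe
  refine ⟨(B e x)⁻¹ • x, W.smul_mem _ hx, ?_⟩
  rw [map_smul, smul_eq_mul, inv_mul_cancel₀ hex]

variable [FiniteDimensional F V]

include hB in
/-- Two orthogonal nondegenerate subspaces can be (partially) swapped by an isometry which fixes
every vector orthogonal to both. -/
theorem swap_exists : ∀ n : ℕ, ∀ W W' : Submodule F V, finrank F W = n →
    NondegOn B W → NondegOn B W' → (∀ w ∈ W, ∀ w' ∈ W', B w w' = 0) →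
    ∃ g ∈ isoGroup B, (∀ x, (∀ w ∈ W, B w x = 0) → (∀ w' ∈ W', B w' x = 0) → g x = x) ∧
      ((∀ w ∈ W, g w ∈ W') ∨ (∀ w' ∈ W', g w' ∈ W)) := by
  intro n
  induction n using Nat.strong_induction_on with
  | _ n ih =>
    intro W W' hn hW hW' horth
    by_cases hW0 : W = ⊥
    · refine ⟨1, (isoGroup B).one_mem, fun x _ _ => rfl, Or.inl ?_⟩
      intro w hw
      rw [hW0, Submodule.mem_bot] at hw
      rw [hw]; simp
    by_cases hW'0 : W' = ⊥
    · refine ⟨1, (isoGroup B).one_mem, fun x _ _ => rfl, Or.inr ?_⟩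
      intro w hw
      rw [hW'0, Submodule.mem_bot] at hw
      rw [hw]; simp
    obtain ⟨e, heW, he0⟩ := Submodule.exists_mem_ne_zero_of_ne_bot hW0
    obtain ⟨f, hfW, hef⟩ := exists_partner B hB hW heW he0
    obtain ⟨e', he'W, he'0⟩ := Submodule.exists_mem_ne_zero_of_ne_bot hW'0
    obtain ⟨f', hf'W, he'f'⟩ := exists_partner B hB hW' he'W he'0
    have hfe : B f e = -1 := by rw [alt_swap B hB, hef]
    have hf'e' : B f' e' = -1 := by rw [alt_swap B hB, he'f']
    -- cross terms
    have c1 : B e e' = 0 := horth e heW e' he'W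
    have c2 : B e f' = 0 := horth e heW f' hf'W
    have c3 : B f e' = 0 := horth f hfW e' he'W
    have c4 : B f f' = 0 := horth f hfW f' hf'W
    have c1' : B e' e = 0 := by rw [alt_swap B hB, c1, neg_zero]
    have c2' : B f' e = 0 := by rw [alt_swap B hB, c2, neg_zero]
    have c3' : B e' f = 0 := by rw [alt_swap B hB, c3, neg_zero]
    have c4' : B f' f = 0 := by rw [alt_swap B hB, c4, neg_zero]
    have hab : B (e' - e) (f' - f) = 2 := by
      simp only [map_sub, LinearMap.sub_apply, he'f', c3', c2, hef]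
      ring
    set g0 := swapEl B hB (e' - e) (f' - f) hab with hg0
    -- the smaller subspaces
    set W1 : Submodule F V := W ⊓ LinearMap.ker (B e) ⊓ LinearMap.ker (B f) with hW1
    set W1' : Submodule F V := W' ⊓ LinearMap.ker (B e') ⊓ LinearMap.ker (B f') with hW1'
    have memW1 : ∀ w, w ∈ W1 ↔ w ∈ W ∧ B e w = 0 ∧ B f w = 0 := by
      intro w
      simp only [hW1, Submodule.mem_inf, LinearMap.mem_ker, and_assoc]
    have memW1' : ∀ w, w ∈ W1' ↔ w ∈ W' ∧ B e' w = 0 ∧ B f' w = 0 := by
      intro w
      simp only [hW1', Submodule.mem_inf, LinearMap.mem_ker, and_assoc]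
    have hW1le : W1 ≤ W := fun w hw => ((memW1 w).mp hw).1
    have hW1'le : W1' ≤ W' := fun w hw => ((memW1' w).mp hw).1
    have hlt : finrank F W1 < n := by
      rw [← hn]
      apply Submodule.finrank_lt_finrank_of_lt
      refine lt_of_le_of_ne hW1le ?_
      intro heq
      have : e ∈ W1 := by rw [heq]; exact heW
      have := ((memW1 e).mp this).2.2
      rw [hfe] at this
      exact (neg_ne_zero.mpr one_ne_zero) this
    -- projections
    have hproj : ∀ w ∈ W, w - (B w f • e - B w e • f) ∈ W1 := by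
      intro w hw
      rw [memW1]
      refine ⟨W.sub_mem hw (W.sub_mem (W.smul_mem _ heW) (W.smul_mem _ hfW)), ?_, ?_⟩
      · simp only [map_sub, map_smul, smul_eq_mul, hB e, hef, mul_zero, mul_one]
        rw [alt_swap B hB e w]; ring
      · simp only [map_sub, map_smul, smul_eq_mul, hB f, hfe, mul_zero]
        rw [alt_swap B hB f w]; ring
    have hproj' : ∀ w ∈ W', w - (B w f' • e' - B w e' • f') ∈ W1' := by
      intro w hw
      rw [memW1']
      refine ⟨W'.sub_mem hw (W'.sub_mem (W'.smul_mem _ he'W) (W'.smul_mem _ hf'W)), ?_, ?_⟩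
      · simp only [map_sub, map_smul, smul_eq_mul, hB e', he'f', mul_zero, mul_one]
        rw [alt_swap B hB e' w]; ring
      · simp only [map_sub, map_smul, smul_eq_mul, hB f', hf'e', mul_zero]
        rw [alt_swap B hB f' w]; ring
    have hW1nd : NondegOn B W1 := by
      intro w hw hw0
      obtain ⟨hwW, hew, hfw⟩ := (memW1 w).mp hw
      obtain ⟨y, hy, hyw⟩ := hW w hwW hw0
      refine ⟨_, hproj y hy, ?_⟩
      simp only [map_sub, map_smul, LinearMap.sub_apply, LinearMap.smul_apply, smul_eq_mul, hew,
        hfw, mul_zero, sub_zero]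
      exact hyw
    have hW1'nd : NondegOn B W1' := by
      intro w hw hw0
      obtain ⟨hwW, hew, hfw⟩ := (memW1' w).mp hw
      obtain ⟨y, hy, hyw⟩ := hW' w hwW hw0
      refine ⟨_, hproj' y hy, ?_⟩
      simp only [map_sub, map_smul, LinearMap.sub_apply, LinearMap.smul_apply, smul_eq_mul, hew,
        hfw, mul_zero, sub_zero]
      exact hyw
    have horth1 : ∀ w ∈ W1, ∀ w' ∈ W1', B w w' = 0 := fun w hw w' hw' =>
      horth w (hW1le hw) w' (hW1'le hw')
    obtain ⟨g1, hg1I, hg1fix, hg1⟩ := ih _ hlt W1 W1' rfl hW1nd hW1'nd horth1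
    -- facts on g0
    have hg0I : g0 ∈ isoGroup B := swapEl_mem_isoGroup B hB _ _ hab
    have hg0fix : ∀ x, B x e = 0 → B x f = 0 → B x e' = 0 → B x f' = 0 → g0 x = x := by
      intro x h1 h2 h3 h4
      rw [hg0, swapEl_apply]
      simp only [map_sub, h1, h2, h3, h4, sub_zero, zero_smul, add_zero]
    have hg0e : g0 e = e' := by
      rw [hg0, swapEl_apply]
      have s1 : B e (e' - e) = 0 := by rw [map_sub, c1, hB e, sub_zero]
      have s2 : B e (f' - f) = -1 := by rw [map_sub, c2, hef, zero_sub]
      rw [s1, s2]; module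
    have hg0f : g0 f = f' := by
      rw [hg0, swapEl_apply]
      have s1 : B f (e' - e) = 1 := by rw [map_sub, c3, hfe, zero_sub, neg_neg]
      have s2 : B f (f' - f) = 0 := by rw [map_sub, c4, hB f, sub_zero]
      rw [s1, s2]; module
    have hg0e' : g0 e' = e := by
      rw [hg0, swapEl_apply]
      have s1 : B e' (e' - e) = 0 := by rw [map_sub, hB e', c1', sub_zero]
      have s2 : B e' (f' - f) = 1 := by rw [map_sub, he'f', c3', sub_zero]
      rw [s1, s2]; module
    have hg0f' : g0 f' = f := by
      rw [hg0, swapEl_apply]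
      have s1 : B f' (e' - e) = -1 := by rw [map_sub, hf'e', c2', sub_zero]
      have s2 : B f' (f' - f) = 0 := by rw [map_sub, hB f', c4', sub_zero]
      rw [s1, s2]; module
    have hswap : ∀ x y : V, B x y = 0 → B y x = 0 := fun x y h => by
      rw [alt_swap B hB, h, neg_zero]
    -- g1 fixes e, f, e', f'
    have hg1e : g1 e = e := by
      apply hg1fix
      · intro w hw; exact hswap _ _ ((memW1 w).mp hw).2.1
      · intro w hw; exact hswap _ _ (horth e heW w (hW1'le hw))
    have hg1f : g1 f = f := by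
      apply hg1fix
      · intro w hw; exact hswap _ _ ((memW1 w).mp hw).2.2
      · intro w hw; exact hswap _ _ (horth f hfW w (hW1'le hw))
    have hg1e' : g1 e' = e' := by
      apply hg1fix
      · intro w hw; exact horth w (hW1le hw) e' he'W
      · intro w hw; exact hswap _ _ ((memW1' w).mp hw).2.1
    have hg1f' : g1 f' = f' := by
      apply hg1fix
      · intro w hw; exact horth w (hW1le hw) f' hf'W
      · intro w hw; exact hswap _ _ ((memW1' w).mp hw).2.2
    -- g0 fixes W1 and W1'
    have hg0W1 : ∀ w ∈ W1, g0 w = w := by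
      intro w hw
      obtain ⟨hwW, hew, hfw⟩ := (memW1 w).mp hw
      exact hg0fix w (hswap _ _ hew) (hswap _ _ hfw) (horth w hwW e' he'W) (horth w hwW f' hf'W)
    have hg0W1' : ∀ w ∈ W1', g0 w = w := by
      intro w hw
      obtain ⟨hwW, hew, hfw⟩ := (memW1' w).mp hw
      exact hg0fix w (hswap _ _ (horth e heW w hwW)) (hswap _ _ (horth f hfW w hwW))
        (hswap _ _ hew) (hswap _ _ hfw)
    refine ⟨g1 * g0, (isoGroup B).mul_mem hg1I hg0I, ?_, ?_⟩
    · intro x hxW hxW'
      rw [LinearEquiv.mul_apply, hg0fix x (hswap _ _ (hxW e heW)) (hswap _ _ (hxW f hfW))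
        (hswap _ _ (hxW' e' he'W)) (hswap _ _ (hxW' f' hf'W))]
      exact hg1fix x (fun w hw => hxW w (hW1le hw)) (fun w hw => hxW' w (hW1'le hw))
    · rcases hg1 with hg1 | hg1
      · left
        intro w hw
        have hdec : w = (B w f • e - B w e • f) + (w - (B w f • e - B w e • f)) := by abel
        rw [hdec, map_add, LinearEquiv.mul_apply, LinearEquiv.mul_apply, map_sub, map_smul, map_smul,
          hg0e, hg0f, map_sub, map_smul, map_smul, hg1e', hg1f', hg0W1 _ (hproj w hw)]
        exact W'.add_mem (W'.sub_mem (W'.smul_mem _ he'W) (W'.smul_mem _ hf'W))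
          (hW1'le (hg1 _ (hproj w hw)))
      · right
        intro w hw
        have hdec : w = (B w f' • e' - B w e' • f') + (w - (B w f' • e' - B w e' • f')) := by abel
        rw [hdec, map_add, LinearEquiv.mul_apply, LinearEquiv.mul_apply, map_sub, map_smul, map_smul,
          hg0e', hg0f', map_sub, map_smul, map_smul, hg1e, hg1f, hg0W1' _ (hproj' w hw)]
        exact W.add_mem (W.sub_mem (W.smul_mem _ heW) (W.smul_mem _ hfW))
          (hW1le (hg1 _ (hproj' w hw)))

end

end Cfsg.Agent.Lib.Helper94_SympSwap
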