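import Mathlib
import Cfsg.Agent.Lib.Helper94_Symp
import Cfsg.Agent.Lib.Helper94_SympSwap

set_option autoImplicit false
set_option linter.unusedSimpArgs false

/-!
Maximality of the stabiliser of an orthogonal decomposition into nondegenerate subspaces
(type `Sp_k wr S_t`) in the symplectic group, abstract setting of `Helper94_Symp`.
-/

namespace Cfsg.Agent.Lib.Helper94_SympDecomp

open Module Cfsg.Agent.Lib.Helper94_Symp Cfsg.Agent.Lib.Helper94_SympSwap

variable {F V : Type*} [Field F] [AddCommGroup V] [Module F V]

section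

variable (B : LinearMap.BilinForm F V) (hB : B.IsAlt) [FiniteDimensional F V]

include hB in
/-- In a nondegenerate subspace `W` of dimension `k`, with `k ≠ 2` or the field having an
element different from `0` and `1`, every nonzero `b ∈ W` has a companion `b' ∈ W`,
`b' ≠ 0`, `b' ≠ b`, `B b b' = 0`. -/
lemma exists_companion (hN : B.Nondegenerate) {W : Submodule F V} (hW : NondegOn B W) (k : ℕ)
    (hk : finrank F W = k) (hex : k = 2 → ∃ c : F, c ≠ 0 ∧ c ≠ 1) {b : V} (hb : b ∈ W)
    (hb0 : b ≠ 0) : ∃ b' ∈ W, b' ≠ 0 ∧ b' ≠ b ∧ B b b' = 0 := by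
  by_cases h2 : ∃ c : F, c ≠ 0 ∧ c ≠ 1
  · obtain ⟨c, hc0, hc1⟩ := h2
    refine ⟨c • b, W.smul_mem _ hb, smul_ne_zero hc0 hb0, ?_, ?_⟩
    · intro h
      have : (c - 1) • b = 0 := by rw [sub_smul, one_smul, h, sub_self]
      rcases smul_eq_zero.mp this with h3 | h3
      · exact hc1 (sub_eq_zero.mp h3)
      · exact hb0 h3
    · rw [map_smul, hB b, smul_zero]
  · have hk2 : k ≠ 2 := fun h => h2 (hex h)
    -- the subspace W ⊓ b^⊥ has dimension ≥ k - 1
    set O := B.orthogonal (Submodule.span F {b}) with hO
    have hfrO : finrank F O = finrank F V - 1 := by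
      rw [hO, LinearMap.BilinForm.finrank_orthogonal hN, finrank_span_singleton hb0]
    have hsum := Submodule.finrank_sup_add_finrank_inf_eq W O
    have hle : finrank F (W ⊔ O : Submodule F V) ≤ finrank F V := Submodule.finrank_le _
    have hVpos : 0 < finrank F V := by
      have : 0 < finrank F W := by
        rw [pos_iff_ne_zero]
        intro h0
        have := (Submodule.finrank_eq_zero.mp h0)
        rw [this, Submodule.mem_bot] at hb
        exact hb0 hb
      exact lt_of_lt_of_le this (Submodule.finrank_le _)
    have hinf : k ≤ finrank F (W ⊓ O : Submodule F V) + 1 := by omega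
    have hbmem : b ∈ W ⊓ O := by
      refine ⟨hb, (mem_orth B).mpr ?_⟩
      intro n hn
      obtain ⟨c, rfl⟩ := Submodule.mem_span_singleton.mp hn
      rw [map_smul, LinearMap.smul_apply, hB b, smul_zero]
    by_cases hk1 : k ≤ 1
    · -- impossible: W = span b is degenerate
      exfalso
      have hspan : Submodule.span F {b} ≤ W := (Submodule.span_singleton_le_iff_mem b W).mpr hb
      have heq : Submodule.span F {b} = W := by
        apply Submodule.eq_of_le_of_finrank_le hspan
        rw [finrank_span_singleton hb0, hk]; exact hk1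
      obtain ⟨x, hx, hxb⟩ := hW b hb hb0
      rw [← heq] at hx
      obtain ⟨c, rfl⟩ := Submodule.mem_span_singleton.mp hx
      rw [map_smul, LinearMap.smul_apply, hB b, smul_zero] at hxb
      exact hxb rfl
    · have h3 : 2 ≤ finrank F (W ⊓ O : Submodule F V) := by omega
      have hnotle : ¬ ((W ⊓ O : Submodule F V) ≤ Submodule.span F {b}) := by
        intro hle2
        have := Submodule.finrank_mono hle2
        rw [finrank_span_singleton hb0] at this
        omega
      obtain ⟨z, hz, hznot⟩ := SetLike.not_le_iff_exists.mp hnotle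
      refine ⟨z, hz.1, ?_, ?_, ?_⟩
      · rintro rfl
        exact hznot (Submodule.zero_mem _)
      · rintro rfl
        exact hznot (Submodule.mem_span_singleton_self _)
      · exact (mem_orth B).mp hz.2 b (Submodule.mem_span_singleton_self b)

include hB in
theorem maximal_dstab (hN : B.Nondegenerate) {t : ℕ} (k : ℕ) (D : Fin t → Submodule F V)
    (ht : 2 ≤ t) (hk : 0 < k) (hfr : ∀ i, finrank F (D i) = k) (hsup : iSup D = ⊤)
    (hnd : ∀ i, NondegOn B (D i)) (horth : ∀ i j, i ≠ j → ∀ u ∈ D i, ∀ v ∈ D j, B u v = 0)
    (hex : k = 2 → ∃ c : F, c ≠ 0 ∧ c ≠ 1)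
    (S : Subgroup (V ≃ₗ[F] V))
    (hS : ∀ g, g ∈ S ↔ ∃ σ : Equiv.Perm (Fin t), ∀ i, (D i).map (g : V →ₗ[F] V) = D (σ i)) :
    (S ⊓ isoGroup B < isoGroup B) ∧
      ∀ M : Subgroup (V ≃ₗ[F] V), S ⊓ isoGroup B ≤ M → M ≤ isoGroup B →
        M = S ⊓ isoGroup B ∨ M = isoGroup B := by
  classical
  have hR : B.IsRefl := hB.isRefl
  have hsep : ∀ y : V, y ≠ 0 → ∃ x, B x y ≠ 0 := by
    intro y hy
    by_contra hcon
    push Not at hcon
    exact hy (hN.2 y hcon)
  have htopnd : NondegOn B ⊤ := fun y _ hy0 => by
    obtain ⟨x, hx⟩ := hsep y hy0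
    exact ⟨x, trivial, hx⟩
  have hswapz : ∀ x y : V, B x y = 0 → B y x = 0 := fun x y h => by
    rw [alt_swap B hB, h, neg_zero]
  have hDne : ∀ i, D i ≠ ⊥ := by
    intro i h
    have := hfr i
    rw [h, finrank_bot] at this
    omega
  have hdec : ∀ i (x : V), ∃ a ∈ D i, ∃ y ∈ B.orthogonal (D i), a + y = x := by
    intro i x
    have hdisj : D i ⊓ B.orthogonal (D i) = ⊥ := by
      rw [eq_bot_iff]
      intro z hz
      obtain ⟨hz1, hz2⟩ := Submodule.mem_inf.mp hz
      by_contra hz0
      obtain ⟨y, hy, hyz⟩ := hnd i z hz1 hz0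
      exact hyz ((mem_orth B).mp hz2 y hy)
    have hcompl : IsCompl (D i) (B.orthogonal (D i)) :=
      (LinearMap.BilinForm.isCompl_orthogonal_iff_disjoint hR).mpr (disjoint_iff.mpr hdisj)
    have : x ∈ D i ⊔ B.orthogonal (D i) := by rw [hcompl.sup_eq_top]; trivial
    exact Submodule.mem_sup.mp this
  have hDorth : ∀ i j, i ≠ j → D j ≤ B.orthogonal (D i) := fun i j hij v hv =>
    (mem_orth B).mpr (fun n hn => horth i j hij n hn v hv)
  have hall : ∀ x : V, (∀ i, x ∈ B.orthogonal (D i)) → x = 0 := by
    intro x hx
    apply hN.2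
    intro y
    have hle : iSup D ≤ LinearMap.ker (B.flip x) := by
      apply iSup_le
      intro i v hv
      rw [LinearMap.mem_ker]
      change B v x = 0
      exact (mem_orth B).mp (hx i) v hv
    have hy : y ∈ iSup D := by rw [hsup]; trivial
    have := hle hy
    rw [LinearMap.mem_ker] at this
    exact this
  have hsingle : ∀ p (x : V), (∀ j, j ≠ p → x ∈ B.orthogonal (D j)) → x ∈ D p := by
    intro p x hx
    obtain ⟨a, ha, y, hy, rfl⟩ := hdec p x
    have : y = 0 := by
      apply hall
      intro j
      by_cases hj : j = p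
      · rw [hj]; exact hy
      · have h1 := hx j hj
        have h2 : a ∈ B.orthogonal (D j) := hDorth j p hj ha
        have := Submodule.sub_mem _ h1 h2
        simpa using this
    rw [this, add_zero]; exact ha
  -- a vector of D p which is not orthogonal to D p
  have hnotorth : ∀ p, ∀ a ∈ D p, a ≠ 0 → a ∉ B.orthogonal (D p) := by
    intro p a ha ha0 hao
    obtain ⟨x, hx, hxa⟩ := hnd p a ha ha0
    exact hxa ((mem_orth B).mp hao x hx)
  have hmapeq : ∀ (g : V ≃ₗ[F] V) (i j : Fin t), (∀ x ∈ D i, g x ∈ D j) →
      (D i).map (g : V →ₗ[F] V) = D j := by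
    intro g i j h
    apply Submodule.eq_of_le_of_finrank_eq
    · rintro _ ⟨x, hx, rfl⟩
      exact h x hx
    · rw [LinearEquiv.finrank_map_eq g (D i), hfr, hfr]
  constructor
  · -- proper
    refine lt_of_le_of_ne inf_le_right ?_
    intro heq
    set i0 : Fin t := ⟨0, by omega⟩ with hi0
    set i1 : Fin t := ⟨1, by omega⟩ with hi1
    have h01 : i0 ≠ i1 := by
      intro h
      have := congrArg Fin.val h
      simp [hi0, hi1] at this
    obtain ⟨a, haD, ha0⟩ := Submodule.exists_mem_ne_zero_of_ne_bot (hDne i0)
    obtain ⟨b, hbD, hb0⟩ := Submodule.exists_mem_ne_zero_of_ne_bot (hDne i1)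
    obtain ⟨x, hx, hxa⟩ := hnd i0 a haD ha0
    obtain ⟨x', hx', hxb⟩ := hnd i1 b hbD hb0
    have hxu : B x (a + b) ≠ 0 := by
      rw [map_add, horth i0 i1 h01 x hx b hbD, add_zero]; exact hxa
    have hx'u : B x' (a + b) ≠ 0 := by
      rw [map_add, horth i1 i0 h01.symm x' hx' a haD, zero_add]; exact hxb
    have hu0 : a + b ≠ 0 := by
      intro h
      rw [h, map_zero] at hxu
      exact hxu rfl
    obtain ⟨a1, -, c1, a2, -, c2, hmove⟩ :=
      exists_move B hB htopnd (Submodule.mem_top : a ∈ ⊤) (Submodule.mem_top : a + b ∈ ⊤) ha0 hu0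
    have hg : stv B hB a2 c2 * stv B hB a1 c1 ∈ S ⊓ isoGroup B := by
      rw [heq]
      exact (isoGroup B).mul_mem (stv_mem_isoGroup _ _ _ _) (stv_mem_isoGroup _ _ _ _)
    obtain ⟨σ, hσ⟩ := (hS _).mp hg.1
    have hur : a + b ∈ D (σ i0) := by
      rw [← hσ i0, ← hmove]
      exact Submodule.mem_map_of_mem haD
    by_cases hr : σ i0 = i0
    · rw [hr] at hur
      exact hx'u (horth i1 i0 h01.symm x' hx' _ hur)
    · exact hxu (horth i0 (σ i0) (Ne.symm hr) x hx _ hur)
  · intro M hHM hMK
    set T := TV B hB M with hT
    have hDT : ∀ i, ∀ a ∈ D i, a ∈ T := by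
      intro i a ha c
      apply hHM
      refine ⟨(hS _).mpr ⟨1, fun j => ?_⟩, stv_mem_isoGroup _ _ _ _⟩
      rw [Equiv.Perm.one_apply]
      apply hmapeq
      intro x hx
      by_cases hji : j = i
      · rw [stv_apply]
        rw [hji] at hx ⊢
        exact (D i).add_mem hx ((D i).smul_mem _ ha)
      · rw [stv_fix B hB c (horth j i hji x hx a ha)]
        exact hx
    by_cases hMS : M ≤ S
    · left
      exact le_antisymm (fun g hg => ⟨hMS hg, hMK hg⟩) hHM
    · right
      apply le_antisymm hMK
      obtain ⟨g, hgM, hgS⟩ := SetLike.not_le_iff_exists.mp hMS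
      have hgK : g ∈ isoGroup B := hMK hgM
      -- (B3)
      have hB3 : ∃ i, ∀ j, (D i).map (g : V →ₗ[F] V) ≠ D j := by
        by_contra hcon
        push Not at hcon
        choose σ0 hσ0 using hcon
        have hinj : Function.Injective σ0 := by
          intro i i' h
          have h1 : (D i).map (g : V →ₗ[F] V) = (D i').map (g : V →ₗ[F] V) := by
            rw [hσ0 i, hσ0 i', h]
          have h2 : D i = D i' :=
            Submodule.map_injective_of_injective (f := (g : V →ₗ[F] V)) g.injective h1
          by_contra hne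
          obtain ⟨a, haD, ha0⟩ := Submodule.exists_mem_ne_zero_of_ne_bot (hDne i)
          obtain ⟨x, hx, hxa⟩ := hnd i a haD ha0
          exact hxa (horth i i' hne x hx a (h2 ▸ haD))
        apply hgS
        rw [hS]
        exact ⟨Equiv.ofBijective σ0 (Finite.injective_iff_bijective.mp hinj), fun i => by
          rw [Equiv.ofBijective_apply]; exact hσ0 i⟩
      obtain ⟨i, hi⟩ := hB3
      have hUT : ∀ x ∈ D i, g x ∈ T := fun x hx => TV_map hgM hgK (hDT i x hx)
      -- (B4)
      have hu : ∃ u ∈ T, ∃ p q, p ≠ q ∧ u ∉ B.orthogonal (D p) ∧ u ∉ B.orthogonal (D q) := by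
        by_contra hcon
        push Not at hcon
        have hone : ∀ x ∈ D i, ∃ p, g x ∈ D p := by
          intro x hx
          by_cases hall' : ∀ p, g x ∈ B.orthogonal (D p)
          · refine ⟨i, ?_⟩
            rw [hall _ hall']; exact Submodule.zero_mem _
          · push Not at hall'
            obtain ⟨p, hp⟩ := hall'
            refine ⟨p, hsingle p _ ?_⟩
            intro j hj
            exact hcon _ (hUT x hx) p j (Ne.symm hj) hp
        obtain ⟨x0, hx0D, hx00⟩ := Submodule.exists_mem_ne_zero_of_ne_bot (hDne i)
        obtain ⟨p0, hp0⟩ := hone x0 hx0D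
        have hgx00 : g x0 ≠ 0 := fun h => hx00 (by simpa using h)
        have hsub : ∀ x ∈ D i, g x ∈ D p0 := by
          intro x hx
          obtain ⟨p, hp⟩ := hone x hx
          by_cases hpp : p = p0
          · rw [← hpp]; exact hp
          · by_cases hgx0 : g x = 0
            · rw [hgx0]; exact Submodule.zero_mem _
            · exfalso
              obtain ⟨r, hr⟩ := hone (x + x0) ((D i).add_mem hx hx0D)
              rw [map_add] at hr
              obtain ⟨y, hy, hyx⟩ := hnd p _ hp hgx0
              obtain ⟨y0, hy0, hyx0⟩ := hnd p0 _ hp0 hgx00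
              have h1 : B y (g x + g x0) ≠ 0 := by
                rw [map_add, horth p p0 hpp y hy _ hp0, add_zero]; exact hyx
              have h2 : B y0 (g x + g x0) ≠ 0 := by
                rw [map_add, horth p0 p (Ne.symm hpp) y0 hy0 _ hp, zero_add]; exact hyx0
              have hrp : r = p := by
                by_contra hne
                exact h1 (horth p r (Ne.symm hne) y hy _ hr)
              have hrp0 : r = p0 := by
                by_contra hne
                exact h2 (horth p0 r (Ne.symm hne) y0 hy0 _ hr)
              exact hpp (hrp.symm.trans hrp0)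
        exact hi p0 (hmapeq g i p0 hsub)
      -- (L-mod)
      have hLmod : ∀ j (x a a' : V), x ∈ B.orthogonal (D j) → a ∈ D j → a' ∈ D j → a ≠ 0 →
          a' ≠ 0 → x + a ∈ T → x + a' ∈ T := by
        intro j x a a' hx ha ha' ha0 ha'0 hxa
        obtain ⟨a1, ha1, c1, a2, ha2, c2, hmove⟩ := exists_move B hB (hnd j) ha ha' ha0 ha'0
        set h := stv B hB a2 c2 * stv B hB a1 c1 with hh
        have hhM : h ∈ M := M.mul_mem (hDT j a2 ha2 c2) (hDT j a1 ha1 c1)
        have hhx : h x = x := by
          rw [hh, LinearEquiv.mul_apply,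
            stv_fix B hB c1 (hswapz _ _ ((mem_orth B).mp hx a1 ha1)),
            stv_fix B hB c2 (hswapz _ _ ((mem_orth B).mp hx a2 ha2))]
        have := TV_map hhM (hMK hhM) hxa
        rwa [map_add, hhx, hmove] at this
      -- Step 1'
      obtain ⟨u, huT, p, q, hpq, hup, huq⟩ := hu
      obtain ⟨a, ha, y, hy, hay⟩ := hdec p u
      obtain ⟨b, hb, x, hx, hbx⟩ := hdec q y
      have ha0 : a ≠ 0 := by
        rintro rfl
        rw [zero_add] at hay
        exact hup (hay ▸ hy)
      have hb0 : b ≠ 0 := by
        rintro rfl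
        rw [zero_add] at hbx
        apply huq
        rw [← hay, ← hbx]
        exact Submodule.add_mem _ (hDorth q p (Ne.symm hpq) ha) hx
      have hxp : x ∈ B.orthogonal (D p) := by
        have : x = y - b := by rw [← hbx]; abel
        rw [this]
        exact Submodule.sub_mem _ hy (hDorth p q hpq hb)
      obtain ⟨a'0, ha'0D, ha'0a⟩ := hnd p a ha ha0
      have haa' : B a a'0 ≠ 0 := alt_ne_zero_comm B hB ha'0a
      have ha'00 : a'0 ≠ 0 := by
        rintro rfl
        rw [map_zero] at haa'
        exact haa' rfl
      obtain ⟨b', hb'D, hb'0, hb'b, hbb'⟩ := exists_companion B hB hN (hnd q) k (hfr q) hex hb hb0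
      -- u = a + (b + x); u3 = a'0 + (b' + x)
      have hu_eq : u = (b + x) + a := by rw [← hay, ← hbx]; abel
      have hbxp : b + x ∈ B.orthogonal (D p) :=
        Submodule.add_mem _ (hDorth p q hpq hb) hxp
      have h1 : (b + x) + a'0 ∈ T := hLmod p _ a a'0 hbxp ha ha'0D ha0 ha'00 (hu_eq ▸ huT)
      have h1' : (a'0 + x) + b ∈ T := by
        have : (a'0 + x) + b = (b + x) + a'0 := by abel
        rw [this]; exact h1
      have ha'xq : a'0 + x ∈ B.orthogonal (D q) :=
        Submodule.add_mem _ (hDorth q p (Ne.symm hpq) ha'0D) hx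
      have h2 : (a'0 + x) + b' ∈ T := hLmod q _ b b' ha'xq hb hb'D hb0 hb'0 h1'
      have hBuu3 : B u ((a'0 + x) + b') ≠ 0 := by
        have e1 : B a x = 0 := (mem_orth B).mp hxp a ha
        have e2 : B b x = 0 := (mem_orth B).mp hx b hb
        have e3 : B a b' = 0 := horth p q hpq a ha b' hb'D
        have e4 : B b a'0 = 0 := horth q p (Ne.symm hpq) b hb a'0 ha'0D
        have e5 : B x a'0 = 0 := hswapz _ _ ((mem_orth B).mp hxp a'0 ha'0D)
        have e6 : B x b' = 0 := hswapz _ _ ((mem_orth B).mp hx b' hb'D)
        rw [hu_eq]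
        simp only [map_add, LinearMap.add_apply, e1, e2, e3, e4, e5, e6, hbb', hB x, add_zero,
          zero_add]
        exact haa'
      have h3 := TV_add_smul h2 huT hBuu3 (-1)
      have hw0 : (a - a'0) + (b - b') ∈ T := by
        have : u + (-1 : F) • ((a'0 + x) + b') = (a - a'0) + (b - b') := by
          rw [hu_eq, neg_one_smul]; abel
        rwa [this] at h3
      have ha2 : a - a'0 ∈ D p := (D p).sub_mem ha ha'0D
      have hb2 : b - b' ∈ D q := (D q).sub_mem hb hb'D
      have ha20 : a - a'0 ≠ 0 := by
        intro h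
        rw [sub_eq_zero] at h
        rw [← h, hB a] at haa'
        exact haa' rfl
      have hb20 : b - b' ≠ 0 := by
        intro h
        rw [sub_eq_zero] at h
        exact hb'b h.symm
      -- relation R
      let R : Fin t → Fin t → Prop := fun p q => ∀ a ∈ D p, ∀ b ∈ D q, a + b ∈ T
      have hRof : ∀ p q, p ≠ q → ∀ a2 ∈ D p, ∀ b2 ∈ D q, a2 ≠ 0 → b2 ≠ 0 → a2 + b2 ∈ T → R p q := by
        intro p q hpq a2 ha2 b2 hb2 ha20 hb20 hw a ha b hb
        by_cases ha0 : a = 0
        · rw [ha0, zero_add]; exact hDT q b hb
        by_cases hb0 : b = 0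
        · rw [hb0, add_zero]; exact hDT p a ha
        have s1 : b2 + a ∈ T := by
          apply hLmod p b2 a2 a (hDorth p q hpq hb2) ha2 ha ha20 ha0
          rw [add_comm]; exact hw
        have s2 : a + b ∈ T := by
          apply hLmod q a b2 b (hDorth q p (Ne.symm hpq) ha) hb2 hb hb20 hb0
          rw [add_comm]; exact s1
        exact s2
      have hRpq : R p q := hRof p q hpq _ ha2 _ hb2 ha20 hb20 hw0
      have hRsymm : ∀ p q, R p q → R q p := by
        intro p q h a ha b hb
        rw [add_comm]; exact h b hb a ha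
      -- swaps
      have hswapel : ∀ p r, p ≠ r → ∃ h ∈ M, (∀ a' ∈ D r, ∃ a ∈ D p, h a = a') ∧
          ∀ q, q ≠ p → q ≠ r → ∀ b ∈ D q, h b = b := by
        -- auxiliary: an isometry fixing the common orthogonal and mapping D p into D r swaps them
        have aux : ∀ p r, p ≠ r → ∀ g0 ∈ isoGroup B,
            (∀ x, (∀ w ∈ D p, B w x = 0) → (∀ w' ∈ D r, B w' x = 0) → g0 x = x) →
            (∀ w ∈ D p, g0 w ∈ D r) →
            g0 ∈ S ∧ (∀ a' ∈ D r, ∃ a ∈ D p, g0 a = a') ∧ (∀ a' ∈ D p, ∃ a ∈ D r, g0 a = a') ∧
              ∀ q, q ≠ p → q ≠ r → ∀ b ∈ D q, g0 b = b := by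
          intro p r hpr g0 hg0I hfix hpr'
          have hfixq : ∀ q, q ≠ p → q ≠ r → ∀ b ∈ D q, g0 b = b := by
            intro q hqp hqr b hb
            apply hfix
            · intro w hw; exact horth p q (Ne.symm hqp) w hw b hb
            · intro w hw; exact horth r q (Ne.symm hqr) w hw b hb
          have hmap1 : (D p).map (g0 : V →ₗ[F] V) = D r := hmapeq g0 p r hpr'
          have hrp' : ∀ w ∈ D r, g0 w ∈ D p := by
            intro w hw
            apply hsingle p
            intro j hjp
            rw [mem_orth]
            intro d hd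
            by_cases hjr : j = r
            · rw [hjr, ← hmap1] at hd
              obtain ⟨d', hd', rfl⟩ := hd
              rw [LinearEquiv.coe_coe, mem_isoGroup.mp hg0I]
              exact horth p r hpr d' hd' w hw
            · have : g0 d = d := hfixq j hjp hjr d hd
              rw [← this, mem_isoGroup.mp hg0I]
              exact horth j r hjr d hd w hw
          have hmap2 : (D r).map (g0 : V →ₗ[F] V) = D p := hmapeq g0 r p hrp'
          refine ⟨?_, ?_, ?_, hfixq⟩
          · rw [hS]
            refine ⟨Equiv.swap p r, fun i => ?_⟩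
            by_cases hip : i = p
            · rw [hip, Equiv.swap_apply_left]; exact hmap1
            · by_cases hir : i = r
              · rw [hir, Equiv.swap_apply_right]; exact hmap2
              · rw [Equiv.swap_apply_of_ne_of_ne hip hir]
                apply hmapeq
                intro x hx
                rw [hfixq i hip hir x hx]; exact hx
          · intro a' ha'
            rw [← hmap1] at ha'
            obtain ⟨a, ha, rfl⟩ := ha'
            exact ⟨a, ha, rfl⟩
          · intro a' ha'
            rw [← hmap2] at ha'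
            obtain ⟨a, ha, rfl⟩ := ha'
            exact ⟨a, ha, rfl⟩
        intro p r hpr
        obtain ⟨g0, hg0I, hfix, hcase⟩ :=
          swap_exists B hB _ (D p) (D r) rfl (hnd p) (hnd r) (horth p r hpr)
        rcases hcase with hc | hc
        · obtain ⟨h1, h2, -, h4⟩ := aux p r hpr g0 hg0I hfix hc
          exact ⟨g0, hHM ⟨h1, hg0I⟩, h2, h4⟩
        · obtain ⟨h1, -, h3, h4⟩ := aux r p (Ne.symm hpr) g0 hg0I
            (fun x h1 h2 => hfix x h2 h1) hc
          exact ⟨g0, hHM ⟨h1, hg0I⟩, h3, fun q hqp hqr => h4 q hqr hqp⟩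
      have hC1 : ∀ p q, p ≠ q → R p q → ∀ r, r ≠ q → R r q := by
        intro p q hpq hR r hrq
        by_cases hrp : r = p
        · rw [hrp]; exact hR
        · obtain ⟨h, hhM, hsurj, hfixq⟩ := hswapel p r (Ne.symm hrp)
          intro a' ha' b hb
          obtain ⟨a, ha, rfl⟩ := hsurj a' ha'
          have := TV_map hhM (hMK hhM) (hR a ha b hb)
          rwa [map_add, hfixq q (Ne.symm hpq) (Ne.symm hrq) b hb] at this
      have hRall : ∀ r s, r ≠ s → R r s := by
        intro r s hrs
        by_cases hsq : s = q
        · rw [hsq]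
          exact hC1 p q hpq hRpq r (hsq ▸ hrs)
        · have h1 : R s q := hC1 p q hpq hRpq s hsq
          have h2 : R q s := hRsymm _ _ h1
          exact hC1 q s (Ne.symm hsq) h2 r hrs
      -- Step 3
      let P : V → Finset (Fin t) := fun x => Finset.univ.filter (fun j => x ∉ B.orthogonal (D j))
      have hPmem : ∀ x j, j ∈ P x ↔ x ∉ B.orthogonal (D j) := by
        intro x j
        simp [P]
      have hstep3 : ∀ n : ℕ, ∀ x : V, (P x).card ≤ n → x ∈ T := by
        intro n
        induction n with
        | zero =>
          intro x hx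
          have hempty : P x = ∅ := Finset.card_eq_zero.mp (Nat.le_zero.mp hx)
          have : x = 0 := by
            apply hall
            intro j
            by_contra hj
            have : j ∈ P x := (hPmem x j).mpr hj
            rw [hempty] at this
            exact (Finset.notMem_empty j) this
          rw [this]; exact TV_zero
        | succ n ih =>
          intro x hx
          by_cases hempty : P x = ∅
          · exact ih x (by rw [hempty]; simp)
          obtain ⟨p, hp⟩ := Finset.nonempty_iff_ne_empty.mpr hempty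
          rw [hPmem] at hp
          obtain ⟨a, ha, y, hy, rfl⟩ := hdec p x
          have ha0 : a ≠ 0 := by
            rintro rfl
            rw [zero_add] at hp
            exact hp hy
          -- P y ⊆ P (a + y) \ {p}
          have hPy : P y ⊆ (P (a + y)).erase p := by
            intro j hj
            rw [hPmem] at hj
            rw [Finset.mem_erase, hPmem]
            have hjp : j ≠ p := by
              rintro rfl
              exact hj hy
            refine ⟨hjp, fun h => hj ?_⟩
            have h2 : a ∈ B.orthogonal (D j) := hDorth j p hjp ha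
            have := Submodule.sub_mem _ h h2
            simpa using this
          have hpmem : p ∈ P (a + y) := (hPmem _ _).mpr hp
          have hcardy : (P y).card ≤ n := by
            have h1 := Finset.card_le_card hPy
            rw [Finset.card_erase_of_mem hpmem] at h1
            omega
          by_cases hPy0 : P y = ∅
          · have : y = 0 := by
              apply hall
              intro j
              by_contra hj
              have : j ∈ P y := (hPmem y j).mpr hj
              rw [hPy0] at this
              exact (Finset.notMem_empty j) this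
            rw [this, add_zero]
            exact hDT p a ha
          obtain ⟨q, hq⟩ := Finset.nonempty_iff_ne_empty.mpr hPy0
          have hqp : q ≠ p := (Finset.mem_erase.mp (hPy hq)).1
          rw [hPmem] at hq
          obtain ⟨b, hb, z, hz, hbz⟩ := hdec q y
          have hb0 : b ≠ 0 := by
            rintro rfl
            rw [zero_add] at hbz
            exact hq (hbz ▸ hz)
          obtain ⟨d0, hd0, hd0b⟩ := hnd q b hb hb0
          have hbd : B b d0 ≠ 0 := alt_ne_zero_comm B hB hd0b
          -- y' = y - d0, z0 = a + d0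
          have hz0T : a + d0 ∈ T := hRall p q (Ne.symm hqp) a ha d0 hd0
          have hPy' : P (y - d0) ⊆ P y := by
            intro j hj
            rw [hPmem] at hj ⊢
            intro h
            apply hj
            by_cases hjq : j = q
            · exfalso
              rw [hjq] at h
              exact hq h
            · exact Submodule.sub_mem _ h (hDorth j q hjq hd0)
          have hy'T : y - d0 ∈ T := ih _ (le_trans (Finset.card_le_card hPy') hcardy)
          have hBne : B (y - d0) (a + d0) ≠ 0 := by
            have e1 : B y a = 0 := hswapz _ _ ((mem_orth B).mp hy a ha)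
            have e2 : B d0 a = 0 := horth q p hqp d0 hd0 a ha
            have e3 : B z d0 = 0 := hswapz _ _ ((mem_orth B).mp hz d0 hd0)
            have e4 : B y d0 = B b d0 := by
              rw [← hbz, map_add, LinearMap.add_apply, e3, add_zero]
            simp only [map_sub, map_add, LinearMap.sub_apply, e1, e2, hB d0, e4, sub_zero,
              zero_add]
            exact hbd
          have := TV_add hz0T hy'T hBne
          have e : y - d0 + (a + d0) = a + y := by abel
          rwa [e] at this
      apply isoGroup_le_of_stv_mem B hB hN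
      intro x
      exact hstep3 _ x le_rfl

end

end Cfsg.Agent.Lib.Helper94_SympDecomp
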