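import Mathlib
import Cfsg.Agent.Lib.Helper94_Symp

set_option autoImplicit false

/-!
Maximality of the stabiliser of a nondegenerate subspace (of less than half the dimension) in the
symplectic group, in the abstract setting of `Helper94_Symp`.
-/

namespace Cfsg.Agent.Lib.Helper94_SympNondeg

open Module Cfsg.Agent.Lib.Helper94_Symp

variable {F V : Type*} [Field F] [AddCommGroup V] [Module F V]

/-- A subspace mapped into a union of two subspaces is mapped into one of them. -/
lemma map_union_cases (g : V ≃ₗ[F] V) (W A C : Submodule F V)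
    (h : ∀ w ∈ W, g w ∈ A ∨ g w ∈ C) : (∀ w ∈ W, g w ∈ A) ∨ (∀ w ∈ W, g w ∈ C) := by
  by_contra hcon
  push Not at hcon
  obtain ⟨⟨w1, hw1, h1⟩, ⟨w2, hw2, h2⟩⟩ := hcon
  have h1C : g w1 ∈ C := (h w1 hw1).resolve_left h1
  have h2A : g w2 ∈ A := (h w2 hw2).resolve_right h2
  rcases h (w1 + w2) (W.add_mem hw1 hw2) with h3 | h3
  · apply h1
    have : g w1 = g (w1 + w2) - g w2 := by rw [map_add]; abel
    rw [this]; exact A.sub_mem h3 h2A
  · apply h2
    have : g w2 = g (w1 + w2) - g w1 := by rw [map_add]; abel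
    rw [this]; exact C.sub_mem h3 h1C

section

variable (B : LinearMap.BilinForm F V) (hB : B.IsAlt)

include hB in
lemma orth_apply_eq_zero {W : Submodule F V} {y n : V} (hy : y ∈ B.orthogonal W) (hn : n ∈ W) :
    B y n = 0 := by
  rw [alt_swap B hB, (mem_orth B).mp hy n hn, neg_zero]

/-- An isometry stabilising `W` stabilises its orthogonal complement. -/
lemma stab_orth [FiniteDimensional F V] {g : V ≃ₗ[F] V} (hg : g ∈ isoGroup B) {W : Submodule F V}
    (hgW : g ∈ stab W) : g ∈ stab (B.orthogonal W) := by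
  apply mem_stab_of_forall_mem
  intro y hy
  rw [mem_orth] at hy ⊢
  intro n hn
  have h1 : g⁻¹ n ∈ W := by
    have := (stab W).inv_mem hgW
    exact (mem_stab.mp this n).mp hn
  have h2 := hy _ h1
  rw [isoGroup_inv_apply hg] at h2
  exact h2

variable [FiniteDimensional F V]

include hB in
theorem maximal_stab_nondegenerate (hN : B.Nondegenerate) (W : Submodule F V) (hW0 : W ≠ ⊥)
    (hW : NondegOn B W) (hdim : 2 * finrank F W < finrank F V) :
    (stab W ⊓ isoGroup B < isoGroup B) ∧
      ∀ M : Subgroup (V ≃ₗ[F] V), stab W ⊓ isoGroup B ≤ M → M ≤ isoGroup B →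
        M = stab W ⊓ isoGroup B ∨ M = isoGroup B := by
  have hR : B.IsRefl := hB.isRefl
  set W' := B.orthogonal W with hW'
  have hdisj : W ⊓ W' = ⊥ := by
    rw [eq_bot_iff]
    intro x hx
    obtain ⟨hx1, hx2⟩ := Submodule.mem_inf.mp hx
    by_contra hx0
    obtain ⟨y, hy, hyx⟩ := hW x hx1 hx0
    exact hyx ((mem_orth B).mp hx2 y hy)
  have hcompl : IsCompl W W' :=
    (LinearMap.BilinForm.isCompl_orthogonal_iff_disjoint hR).mpr (disjoint_iff.mpr hdisj)
  have hsup : W ⊔ W' = ⊤ := hcompl.sup_eq_top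
  have hfr : finrank F W' = finrank F V - finrank F W := LinearMap.BilinForm.finrank_orthogonal hN W
  have hdecomp : ∀ x : V, ∃ a ∈ W, ∃ b ∈ W', a + b = x := by
    intro x
    have : x ∈ W ⊔ W' := by rw [hsup]; trivial
    exact Submodule.mem_sup.mp this
  have hW'nd : NondegOn B W' := by
    intro y hy hy0
    have : ∃ x, B x y ≠ 0 := by
      by_contra hcon
      push Not at hcon
      exact hy0 (hN.2 y hcon)
    obtain ⟨x, hx⟩ := this
    obtain ⟨a, ha, b, hb, rfl⟩ := hdecomp x
    refine ⟨b, hb, ?_⟩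
    rw [map_add, LinearMap.add_apply, (mem_orth B).mp hy a ha, zero_add] at hx
    exact hx
  have hW'0 : W' ≠ ⊥ := by
    intro h
    rw [h, finrank_bot] at hfr
    omega
  have htopnd : NondegOn B ⊤ := by
    intro y _ hy0
    have : ∃ x, B x y ≠ 0 := by
      by_contra hcon
      push Not at hcon
      exact hy0 (hN.2 y hcon)
    obtain ⟨x, hx⟩ := this
    exact ⟨x, trivial, hx⟩
  constructor
  · refine lt_of_le_of_ne inf_le_right ?_
    intro heq
    obtain ⟨a, haW, ha0⟩ := Submodule.exists_mem_ne_zero_of_ne_bot hW0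
    obtain ⟨b, hbW, hb0⟩ := Submodule.exists_mem_ne_zero_of_ne_bot hW'0
    obtain ⟨a1, -, c1, a2, -, c2, hmove⟩ :=
      exists_move B hB htopnd (Submodule.mem_top : a ∈ ⊤) (Submodule.mem_top : b ∈ ⊤) ha0 hb0
    have hg : stv B hB a2 c2 * stv B hB a1 c1 ∈ stab W ⊓ isoGroup B := by
      rw [heq]
      exact (isoGroup B).mul_mem (stv_mem_isoGroup _ _ _ _) (stv_mem_isoGroup _ _ _ _)
    have := (mem_stab.mp hg.1 a).mp haW
    rw [hmove] at this
    have hb : b ∈ W ⊓ W' := ⟨this, hbW⟩
    rw [hdisj] at hb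
    exact hb0 ((Submodule.mem_bot F).mp hb)
  · intro M hHM hMK
    set T := TV B hB M with hT
    have hWT : ∀ a ∈ W, a ∈ T := by
      intro a ha c
      apply hHM
      refine ⟨mem_stab_of_forall_mem ?_, stv_mem_isoGroup _ _ _ _⟩
      intro v hv
      rw [stv_apply]
      exact W.add_mem hv (W.smul_mem _ ha)
    have hW'T : ∀ a ∈ W', a ∈ T := by
      intro a ha c
      apply hHM
      refine ⟨mem_stab_of_forall_mem ?_, stv_mem_isoGroup _ _ _ _⟩
      intro v hv
      rw [stv_fix B hB c ((mem_orth B).mp ha v hv)]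
      exact hv
    by_cases hMs : M ≤ stab W
    · left
      exact le_antisymm (fun g hg => ⟨hMs hg, hMK hg⟩) hHM
    · right
      apply le_antisymm hMK
      obtain ⟨g, hgM, hgs⟩ := SetLike.not_le_iff_exists.mp hMs
      have hgK : g ∈ isoGroup B := hMK hgM
      -- a vector of T outside W ∪ W'
      have hu : ∃ u ∈ T, u ∉ W ∧ u ∉ W' := by
        by_contra hcon
        push Not at hcon
        have hc : ∀ u ∈ T, u ∈ W ∨ u ∈ W' := by
          intro u hu
          by_cases h : u ∈ W
          · exact Or.inl h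
          · exact Or.inr (hcon u hu h)
        have h1 : ∀ w ∈ W, g w ∈ W ∨ g w ∈ W' := fun w hw => hc _ (TV_map hgM hgK (hWT w hw))
        have h2 : ∀ y ∈ W', g y ∈ W ∨ g y ∈ W' := fun y hy => hc _ (TV_map hgM hgK (hW'T y hy))
        rcases map_union_cases g W W W' h1 with h3 | h3
        · exact hgs (mem_stab_of_forall_mem h3)
        · rcases map_union_cases g W' W W' h2 with h4 | h4
          · have hle : W'.map (g : V →ₗ[F] V) ≤ W := by
              rintro _ ⟨y, hy, rfl⟩
              exact h4 y hy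
            have := Submodule.finrank_mono hle
            rw [LinearEquiv.finrank_map_eq g W'] at this
            omega
          · have h5 : g ∈ stab W' := mem_stab_of_forall_mem h4
            have h6 := stab_orth B hgK h5
            rw [hW', LinearMap.BilinForm.orthogonal_orthogonal hN hR] at h6
            exact hgs h6
      obtain ⟨u, huT, huW, huW'⟩ := hu
      obtain ⟨a, haW, b, hbW', hab⟩ := hdecomp u
      have ha0 : a ≠ 0 := by
        rintro rfl
        rw [zero_add] at hab
        exact huW' (hab ▸ hbW')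
      have hb0 : b ≠ 0 := by
        rintro rfl
        rw [add_zero] at hab
        exact huW (hab ▸ haW)
      have hsum : ∀ a' ∈ W, a' ≠ 0 → ∀ b' ∈ W', b' ≠ 0 → a' + b' ∈ T := by
        intro a' ha'W ha'0 b' hb'W' hb'0
        obtain ⟨a1, ha1, c1, a2, ha2, c2, hm1⟩ := exists_move B hB hW haW ha'W ha0 ha'0
        obtain ⟨b1, hb1, d1, b2, hb2, d2, hm2⟩ := exists_move B hB hW'nd hbW' hb'W' hb0 hb'0
        set g1 := stv B hB a2 c2 * stv B hB a1 c1 with hg1
        set g2 := stv B hB b2 d2 * stv B hB b1 d1 with hg2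
        have hg1M : g1 ∈ M := M.mul_mem (hWT a2 ha2 c2) (hWT a1 ha1 c1)
        have hg2M : g2 ∈ M := M.mul_mem (hW'T b2 hb2 d2) (hW'T b1 hb1 d1)
        have hg1b : g1 b = b := by
          rw [hg1, LinearEquiv.mul_apply, stv_fix B hB c1 (orth_apply_eq_zero B hB hbW' ha1),
            stv_fix B hB c2 (orth_apply_eq_zero B hB hbW' ha2)]
        have hg2a : g2 a' = a' := by
          rw [hg2, LinearEquiv.mul_apply, stv_fix B hB d1 ((mem_orth B).mp hb1 a' ha'W),
            stv_fix B hB d2 ((mem_orth B).mp hb2 a' ha'W)]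
        have h1 : g1 u ∈ T := TV_map hg1M (hMK hg1M) huT
        have h2 : g2 (g1 u) ∈ T := TV_map hg2M (hMK hg2M) h1
        rw [← hab, map_add, hm1, hg1b, map_add, hg2a, hm2] at h2
        exact h2
      apply isoGroup_le_of_stv_mem B hB hN
      intro x
      obtain ⟨a', ha', b', hb', rfl⟩ := hdecomp x
      by_cases h1 : a' = 0
      · rw [h1, zero_add]; exact hW'T b' hb'
      · by_cases h2 : b' = 0
        · rw [h2, add_zero]; exact hWT a' ha'
        · exact hsum a' ha' h1 b' hb' h2

end

end Cfsg.Agent.Lib.Helper94_SympNondeg
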