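import Mathlib
import Cfsg.Prelude.Def_GeometricClasses
import Cfsg.Agent.Lib.Helper94_Symp
import Cfsg.Agent.Lib.Helper94_Bridge
import Cfsg.Agent.Lib.Helper94_SubfieldBridge
import Cfsg.Agent.Lib.Helper38_SpSub1
import Cfsg.Agent.Lib.Helper38_SpSub2
import Cfsg.Agent.Lib.Helper38_SpSub3
import Cfsg.Agent.Lib.Helper38_SpSub4
import Cfsg.Agent.Lib.Helper38_SpSub6
import Cfsg.Agent.Lib.Helper38_SpSub8
import Cfsg.Agent.Lib.Helper38_SpSub9
import Cfsg.Agent.Lib.Helper38_SpSubBridge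
import Cfsg.Agent.S5650

set_option autoImplicit false
set_option linter.unusedSimpArgs false
set_option linter.unusedSectionVars false
set_option linter.unnecessarySimpa false
set_option linter.style.haveILetI false

/-!
# Subfield subgroups of `Sp_2m(q)` are maximal for `m ≥ 4` (helper59)

helper38's `Helper38_SpSub9.maximal_rat` (S5650) asks for six hyperbolic pairs, only because
`Helper38_SpSub3.prop_all` moves a short root element through two fresh pairs.  Three pairs are enough for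
the propagation; the rest of helper38's argument needs four.
-/

namespace Cfsg.Agent.Lib.Helper59_SpSub5

open Cfsg.Agent.Lib.Helper94_Symp Cfsg.Agent.Lib.Helper38_SpSub1 Cfsg.Agent.Lib.Helper38_SpSub2
  Cfsg.Agent.Lib.Helper38_SpSub3 Cfsg.Agent.Lib.Helper38_SpSub4
  Cfsg.Agent.Lib.Helper38_SpSub6 Cfsg.Agent.Lib.Helper38_SpSub8 Cfsg.Agent.Lib.Helper38_SpSub9

section Abstract

variable {F V : Type*} [Field F] [AddCommGroup V] [Module F V]
variable {κ : Type*} [Fintype κ] [DecidableEq κ]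
variable {B : LinearMap.BilinForm F V} (hB : B.IsAlt)
variable {F₀ : Subfield F}
variable {b : Module.Basis (κ ⊕ κ) F V} (hb : IsSymp B b)
variable {S : Subgroup (V ≃ₗ[F] V)} (hS : IsRatGroup b B F₀ S)
variable {H : Subgroup (V ≃ₗ[F] V)} (hMH : S ⊓ isoGroup B ≤ H)

include hb hS hMH in
/-- The second index of a short root element can be moved to any index outside the pair of the first. -/
lemma reach (h3 : 3 ≤ Fintype.card κ) {c : F} {x z z' : κ ⊕ κ} (hxz : pr x ≠ pr z)
    (hxz' : pr x ≠ pr z') (h : T B hB (c • b x) (b z) ∈ H) : T B hB (c • b x) (b z') ∈ H := by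
  by_cases hzz' : pr z' = pr z
  · obtain ⟨t, ht⟩ := exists_fresh ({pr x, pr z} : Finset κ) (by
      refine lt_of_le_of_lt (Finset.card_le_two) (by omega))
    simp only [Finset.mem_insert, Finset.mem_singleton, not_or] at ht
    obtain ⟨ht1, ht2⟩ := ht
    have a1 := prop1 hB hb hS hMH hxz ht1 ht2 h
    exact prop1 hB hb hS hMH (Ne.symm ht1) (Ne.symm hxz') (by rw [hzz']; exact Ne.symm ht2) a1
  · exact prop1 hB hb hS hMH hxz (Ne.symm hxz') hzz' h

include hb hS hMH in
/-- Propagation of one short root element to all positions, with three pairs. -/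
lemma prop_all3 (h3 : 3 ≤ Fintype.card κ) {c : F} {x z x' z' : κ ⊕ κ} (hxz : pr x ≠ pr z)
    (hxz' : pr x' ≠ pr z') (h : T B hB (c • b x) (b z) ∈ H) : T B hB (c • b x') (b z') ∈ H := by
  obtain ⟨t, ht⟩ := exists_fresh ({pr x, pr x'} : Finset κ) (by
    refine lt_of_le_of_lt (Finset.card_le_two) (by omega))
  simp only [Finset.mem_insert, Finset.mem_singleton, not_or] at ht
  obtain ⟨ht1, ht2⟩ := ht
  -- (x,z) → (x,t)
  have a1 := reach hB hb hS hMH h3 hxz (Ne.symm ht1) h
  -- → (t,x)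
  rw [root_swap hB hb (Ne.symm ht1)] at a1
  -- → (t,x')
  have a2 := reach hB hb hS hMH h3 ht1 ht2 a1
  -- → (x',t)
  rw [root_swap hB hb ht2] at a2
  -- → (x',z')
  exact reach hB hb hS hMH h3 (Ne.symm ht2) hxz' a2

include hb hS hMH in
lemma Rset_of_one3 (h3 : 3 ≤ Fintype.card κ) {c : F} {x z : κ ⊕ κ} (hxz : pr x ≠ pr z)
    (h : T B hB (c • b x) (b z) ∈ H) : c ∈ Rset hB b H :=
  fun _ _ hxz' => prop_all3 hB hb hS hMH h3 hxz hxz' h

include hb hS hMH in
lemma Rset_mul3 (h3 : 3 ≤ Fintype.card κ) {c d : F} (hc : c ∈ Rset hB b H)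
    (hd : d ∈ Rset hB b H) : c * d ∈ Rset hB b H := by
  have hne : Nonempty κ := Fintype.card_pos_iff.mp (by omega)
  obtain ⟨i₀⟩ := hne
  obtain ⟨t, ht⟩ := exists_fresh ({i₀} : Finset κ) (by rw [Finset.card_singleton]; omega)
  obtain ⟨z, hz⟩ := exists_fresh ({i₀, pr t} : Finset κ) (by
    refine lt_of_le_of_lt (Finset.card_le_two) (by omega))
  simp only [Finset.mem_insert, Finset.mem_singleton, not_or] at ht hz
  obtain ⟨hz1, hz2⟩ := hz
  set x : κ ⊕ κ := Sum.inl i₀ with hx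
  set y : κ ⊕ κ := Sum.inl (pr t) with hy
  have hxy : pr x ≠ pr y := fun h => ht h.symm
  have hxz : pr x ≠ pr z := fun h => hz1 h.symm
  have hyz : pr y ≠ pr z := fun h => hz2 h.symm
  have hX := hc x y hxy
  have hY := hd y.swap z (by rw [pr_swap]; exact hyz)
  have hxy' : pr x ≠ pr y.swap := by rw [pr_swap]; exact hxy
  have key := comm_T B hB (u := c • b x) (u' := b y) (q := d • b y.swap) (w := b z)
    (B_smul_basis hb hxy c) (B_smul_basis hb (by rw [pr_swap]; exact hyz) d)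
    (by rw [map_smul, map_smul, LinearMap.smul_apply, B_of_pr_ne hb hxy', smul_zero, smul_zero])
    (B_smul_basis hb hxz c) (B_of_pr_ne hb hyz)
  have e : -B (b y) (d • b y.swap) = -d := by
    rw [map_smul, B_swap hb, smul_eq_mul]
    simp [hy, sg]
  rw [e, smul_smul] at key
  have h1 : T B hB ((-d * c) • b x) (b z) ∈ H := by
    rw [← key]
    exact H.mul_mem (H.mul_mem (H.mul_mem hX hY) (H.inv_mem hX)) (H.inv_mem hY)
  have h2 := Rset_neg hB hb (Rset_of_one3 hB hb hS hMH h3 hxz h1)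
  have e2 : -(-d * c) = c * d := by ring
  rwa [e2] at h2

/-- The multipliers form a subalgebra over the subfield. -/
def Ralg3 (hb : IsSymp B b) (hS : IsRatGroup b B F₀ S) (hMH : S ⊓ isoGroup B ≤ H)
    (h3 : 3 ≤ Fintype.card κ) : Subalgebra F₀ F where
  carrier := Rset hB b H
  mul_mem' := fun hc hd => Rset_mul3 hB hb hS hMH h3 hc hd
  add_mem' := fun hc hd => Rset_add hB hb hc hd
  algebraMap_mem' := fun r => Rset_rat hB hb hS hMH r.2

include hb hS hMH in
/-- An irrational short root element forces all of them. -/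
lemma Rset_top3 (h3 : 3 ≤ Fintype.card κ) (hp : (Module.finrank F₀ F).Prime) {c₀ : F}
    (hc₀ : c₀ ∉ F₀) {x z : κ ⊕ κ} (hxz : pr x ≠ pr z) (h : T B hB (c₀ • b x) (b z) ∈ H) :
    ∀ c : F, c ∈ Rset hB b H := by
  haveI := Subalgebra.isSimpleOrder_of_finrank_prime F₀ F hp
  have hcU : c₀ ∈ Ralg3 hB hb hS hMH h3 := Rset_of_one3 hB hb hS hMH h3 hxz h
  have htop : Ralg3 hB hb hS hMH h3 = ⊤ := by
    rcases eq_bot_or_eq_top (Ralg3 hB hb hS hMH h3) with hbot | ht
    · exfalso
      rw [hbot, Algebra.mem_bot] at hcU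
      obtain ⟨r, hr⟩ := hcU
      apply hc₀
      rw [← hr]
      exact r.2
    · exact ht
  intro c
  have : c ∈ Ralg3 hB hb hS hMH h3 := by rw [htop]; exact Algebra.mem_top
  exact this

include hB hb hS in
/-- **Maximality of the rational symplectic group**, abstract version, four pairs. -/
theorem maximal_rat4 [Finite F] (h4 : 4 ≤ Fintype.card κ) (hp : (Module.finrank F₀ F).Prime) :
    (S ⊓ isoGroup B < isoGroup B) ∧
      ∀ H : Subgroup (V ≃ₗ[F] V), S ⊓ isoGroup B ≤ H → H ≤ isoGroup B →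
        H = S ⊓ isoGroup B ∨ H = isoGroup B := by
  haveI : Nonempty κ := Fintype.card_pos_iff.mp (by omega)
  constructor
  · have hex : ∃ l : F, l ∉ F₀ := by
      by_contra hcon
      push Not at hcon
      haveI := Subalgebra.isSimpleOrder_of_finrank_prime F₀ F hp
      have : (⊥ : Subalgebra F₀ F) = ⊤ := by
        ext x
        simp only [Algebra.mem_bot, Algebra.mem_top, iff_true]
        exact ⟨⟨x, hcon x⟩, rfl⟩
      exact bot_ne_top this
    obtain ⟨l, hl⟩ := hex
    exact proper hB hb hS hl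
  · intro H hMH hHK
    by_cases hstar : ∀ (c : F) (x z : κ ⊕ κ), pr x ≠ pr z → T B hB (c • b x) (b z) ∈ H → c ∈ F₀
    · left
      apply le_antisymm _ hMH
      intro k hkH
      have hkI := hHK hkH
      refine ⟨mem_S_of_lin hb hS hkI ?_, hkI⟩
      intro v hv
      have hPv : PH hB F₀ H v := fun c hc => hMH (stv_rat_mem hB hb hS hv hc)
      exact PH_scaled hB hb hS hMH hstar h4 (PH_map hB hPv hkH hkI)
    · right
      push Not at hstar
      obtain ⟨c, x, z, hxz, hT, hc⟩ := hstar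
      have hR := Rset_top3 hB hb hS hMH (by omega) hp hc hxz hT
      exact le_antisymm hHK (iso_le_of_Rset hB hb hS hMH hR (by omega))

end Abstract

open Cfsg Cfsg.Agent.Lib.Helper94_Bridge Cfsg.Agent.Lib.Helper94_SubfieldBridge
  Cfsg.Agent.Lib.Helper38_SpSubBridge Cfsg.Agent.S5650

/-- S5650 (subfield subgroups of `Sp_2m(q)` are maximal) for all `m ≥ 4`. -/
theorem subfield_sp_max {F : Type*} [Field F] [Fintype F] (m : ℕ) (hm : 4 ≤ m) (F₀ : Subfield F) (r : ℕ) (hr : r.Prime) (hcard : Fintype.card F = Nat.card F₀ ^ r) (P : Matrix.GeneralLinearGroup (Fin m ⊕ Fin m) F) (ζ : F) (hζ : ζ ≠ 0) (hP : Cfsg.Geo.IsFormRationalStructure (Cfsg.sympForm m F) F₀ ζ P) : Cfsg.Geo.IsMaximalIn (Cfsg.spGL m F) (Cfsg.Geo.subfieldSubgroup F₀ P ⊓ Cfsg.spGL m F) := by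
  classical
  have hfin : Module.finrank F₀ F = r := finrank_eq' F₀ r hcard
  have hp : (Module.finrank F₀ F).Prime := by rw [hfin]; exact hr
  have hBalt : (ζ • Bsymp m F).IsAlt := isAlt_smul (Bsymp_isAlt m) ζ
  have hBN : (ζ • Bsymp m F).Nondegenerate := by
    have hN := Bsymp_nondegenerate (F := F) m
    constructor
    · intro x hx
      apply hN.1 x
      intro y
      have := hx y
      simp only [LinearMap.smul_apply, smul_eq_mul] at this
      rcases mul_eq_zero.mp this with h | h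
      · exact absurd h hζ
      · exact h
    · intro y hy
      apply hN.2 y
      intro x
      have := hy x
      simp only [LinearMap.smul_apply, smul_eq_mul] at this
      rcases mul_eq_zero.mp this with h | h
      · exact absurd h hζ
      · exact h
  have hrat : ∀ u v : Fin m ⊕ Fin m → F₀,
      (ζ • Bsymp m F) ((P : Matrix (Fin m ⊕ Fin m) (Fin m ⊕ Fin m) F).mulVec (cv F₀ u))
        ((P : Matrix (Fin m ⊕ Fin m) (Fin m ⊕ Fin m) F).mulVec (cv F₀ v)) ∈ F₀ := by
    intro u v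
    simp only [LinearMap.smul_apply, smul_eq_mul, Bsymp_apply]
    exact hP _ _ (cv_mem F₀ u) (cv_mem F₀ v)
  obtain ⟨m', b, hcount, hbs, hratV⟩ := exists_rat_basis F₀ P (ζ • Bsymp m F) hBalt hBN hrat
  have hm' : 4 ≤ Fintype.card (Fin m') := by
    simp only [Fintype.card_sum, Fintype.card_fin] at hcount
    rw [Fintype.card_fin]
    omega
  let S : Subgroup ((Fin m ⊕ Fin m → F) ≃ₗ[F] (Fin m ⊕ Fin m → F)) :=
    (Cfsg.Geo.subfieldSubgroup F₀ P).comap (glEquiv (Fin m ⊕ Fin m) F).symm.toMonoidHom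
  have hSeq : Cfsg.Geo.subfieldSubgroup F₀ P = S.comap (glEquiv (Fin m ⊕ Fin m) F).toMonoidHom :=
    (comap_symm_comap' (glEquiv (Fin m ⊕ Fin m) F) _).symm
  rw [hSeq, spGL_eq, ← Subgroup.comap_inf]
  apply isMaximalIn_comap
  rw [← isoGroup_smul (Bsymp m F) hζ]
  apply maximal_rat4 hBalt hbs ?_ hm' hp
  intro g
  have key : ∀ x, (((glEquiv (Fin m ⊕ Fin m) F).symm g :
      Matrix.GeneralLinearGroup (Fin m ⊕ Fin m) F) :
      Matrix (Fin m ⊕ Fin m) (Fin m ⊕ Fin m) F).mulVec x = g x := by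
    intro x
    rw [← glEquiv_apply, MulEquiv.apply_symm_apply]
  show (glEquiv (Fin m ⊕ Fin m) F).symm g ∈ Cfsg.Geo.subfieldSubgroup F₀ P ↔ _
  rw [mem_subfieldSubgroup_iff]
  simp only [key]
  constructor
  · rintro ⟨μ, hμ, h⟩
    refine ⟨μ, hμ, fun v hv => ?_⟩
    obtain ⟨w, hw, hgw⟩ := h v ((hratV v).mpr hv)
    exact ⟨w, (hratV w).mp hw, hgw⟩
  · rintro ⟨μ, hμ, h⟩
    refine ⟨μ, hμ, fun v hv => ?_⟩
    obtain ⟨w, hw, hgw⟩ := h v ((hratV v).mp hv)
    exact ⟨w, (hratV w).mpr hw, hgw⟩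

end Cfsg.Agent.Lib.Helper59_SpSub5
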