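import Mathlib
import Cfsg.Prelude.Def_GeometricClasses
import Cfsg.Agent.Lib.Helper59_SpSub5
import Cfsg.Agent.Lib.Helper38_SpSub5
import Cfsg.Agent.Lib.Helper38_SpSub7

set_option autoImplicit false
set_option linter.unusedSimpArgs false
set_option linter.unusedSectionVars false
set_option linter.unnecessarySimpa false
set_option linter.style.haveILetI false

/-!
# Subfield subgroups of `Sp_2m(q)` are maximal for `m ≥ 3` (helper59)

`Helper59_SpSub5.maximal_rat4` needs four hyperbolic pairs only through helper38's characteristic-two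
lemma `K1_even` (two fresh pairs).  Here `K1_even3` does the same with ONE fresh pair `w`: for the target
product `B a (b x) * B a (b z)` use the two rational root elements `T (b w) (b x)` and `T (b z) (b x)`
(both moving `a` inside the totally isotropic space `⟨b x, b z, b w⟩`), then extract twice.
-/

namespace Cfsg.Agent.Lib.Helper59_SpSub3p

open Cfsg.Agent.Lib.Helper94_Symp Cfsg.Agent.Lib.Helper38_SpSub1 Cfsg.Agent.Lib.Helper38_SpSub2
  Cfsg.Agent.Lib.Helper38_SpSub3 Cfsg.Agent.Lib.Helper38_SpSub4 Cfsg.Agent.Lib.Helper38_SpSub5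
  Cfsg.Agent.Lib.Helper38_SpSub6 Cfsg.Agent.Lib.Helper38_SpSub7 Cfsg.Agent.Lib.Helper38_SpSub8
  Cfsg.Agent.Lib.Helper38_SpSub9 Cfsg.Agent.Lib.Helper59_SpSub5

section Abstract

variable {F V : Type*} [Field F] [AddCommGroup V] [Module F V]
variable {κ : Type*} [Fintype κ] [DecidableEq κ]
variable {B : LinearMap.BilinForm F V} (hB : B.IsAlt)
variable {F₀ : Subfield F}
variable {b : Module.Basis (κ ⊕ κ) F V} (hb : IsSymp B b)
variable {S : Subgroup (V ≃ₗ[F] V)} (hS : IsRatGroup b B F₀ S)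
variable {H : Subgroup (V ≃ₗ[F] V)} (hMH : S ⊓ isoGroup B ≤ H)

include hb hS hMH in
/-- Characteristic two, three pairs: the product of two coordinates from different pairs is rational. -/
lemma K1_even3 (h2 : (2 : F) = 0) (h3 : 3 ≤ Fintype.card κ)
    (hstar : ∀ (c : F) (x z : κ ⊕ κ), pr x ≠ pr z → T B hB (c • b x) (b z) ∈ H → c ∈ F₀)
    {a : V} (ha : PH hB F₀ H a) {x z : κ ⊕ κ} (hxz : pr x ≠ pr z) :
    B a (b x) * B a (b z) ∈ F₀ := by
  obtain ⟨w, hw⟩ := exists_fresh ({pr x, pr z} : Finset κ) (by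
    refine lt_of_le_of_lt (Finset.card_le_two) (by omega))
  simp only [Finset.mem_insert, Finset.mem_singleton, not_or] at hw
  obtain ⟨hwx, hwz⟩ := hw
  have hxw := Ne.symm hwx
  have hzw := Ne.symm hwz
  have hzx := Ne.symm hxz
  have Bz : ∀ {i j : κ ⊕ κ}, pr i ≠ pr j → B (b i) (b j) = 0 := fun h => B_of_pr_ne hb h
  have Bs : ∀ i : κ ⊕ κ, B (b i) (b i) = 0 := fun i => B_self hb i
  -- the two rational root elements
  have hgH : T B hB (b w) (b x) ∈ H := hMH (T_rat_mem hB hb hS (rat_basis hb F₀ _) (rat_basis hb F₀ _))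
  have hg'H : T B hB (b z) (b x) ∈ H :=
    hMH (T_rat_mem hB hb hS (rat_basis hb F₀ _) (rat_basis hb F₀ _))
  obtain ⟨d, hd⟩ : ∃ d, d = B a (b w) • b x + B a (b x) • b w := ⟨_, rfl⟩
  obtain ⟨d', hd'⟩ : ∃ d', d' = B a (b z) • b x + B a (b x) • b z := ⟨_, rfl⟩
  have hga : T B hB (b w) (b x) a = a + d := by
    rw [T_apply B hB (Bz hwx), hd]; abel
  have hg'a : T B hB (b z) (b x) a = a + d' := by
    rw [T_apply B hB (Bz hzx), hd']; abel
  have h1 : B a d = 0 := by
    rw [hd, map_add, map_smul, map_smul, smul_eq_mul, smul_eq_mul]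
    linear_combination (B a (b w) * B a (b x)) * h2
  have h1' : B a d' = 0 := by
    rw [hd', map_add, map_smul, map_smul, smul_eq_mul, smul_eq_mul]
    linear_combination (B a (b z) * B a (b x)) * h2
  have hdz : B d (b z) = 0 := by
    rw [hd]; simp [Bz hxz, Bz hwz]
  have hdx : B d (b x) = 0 := by
    rw [hd]; simp [Bs x, Bz hwx]
  have h3' : B d d' = 0 := by
    rw [hd', map_add, map_smul, map_smul, hdz, hdx]; simp
  have hg'd : T B hB (b z) (b x) (a + d) = a + d + d' := by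
    rw [map_add, hg'a, T_apply B hB (Bz hzx), hdz, hdx]
    simp only [zero_smul, add_zero]
    abel
  -- the first family
  have fam0 : Fam hB F₀ H d' d := by
    intro c hc
    have k0 := ha c hc
    have k1 := PH_map hB ha hgH (T_mem_isoGroup B hB _ _)
    rw [hga] at k1
    have k2 := PH_map hB ha hg'H (T_mem_isoGroup B hB _ _)
    rw [hg'a] at k2
    have k3 := PH_map hB k1 hg'H (T_mem_isoGroup B hB _ _)
    rw [hg'd] at k3
    have := H.mul_mem (H.mul_mem (H.mul_mem (k3 c hc) (k2 (-c) (F₀.neg_mem hc)))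
      (k1 (-c) (F₀.neg_mem hc))) k0
    rwa [stv_four B hB h1 h1' h3'] at this
  -- first extraction: `u₁ = T (b z) (b w.swap)` fixes `d'` and moves `d` by a multiple of `b z`
  have hd'z : B d' (b z) = 0 := by
    rw [hd']; simp [Bz hxz, Bs z]
  have hd'ws : B d' (b w.swap) = 0 := by
    rw [hd']; simp [Bz (show pr x ≠ pr w.swap by rw [pr_swap]; exact hxw),
      Bz (show pr z ≠ pr w.swap by rw [pr_swap]; exact hzw)]
  have hzws : B (b z) (b w.swap) = 0 := Bz (by rw [pr_swap]; exact hzw)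
  have fam1 : Fam hB F₀ H ((B a (b x) * sg F w) • b z) d' := by
    apply extract_orth hB (q := d) (u := T B hB (b z) (b w.swap)) (alt_zero B hB h3') hd'z _
      (hMH (T_rat_mem hB hb hS (rat_basis hb F₀ _) (rat_basis hb F₀ _)))
      (T_mem_isoGroup B hB _ _) _ _ fam0
    · rw [hd]; simp [Bz hzx, Bz hzw]
    · rw [T_apply B hB hzws, hd'z, hd'ws]; simp
    · rw [T_apply B hB hzws, hd]
      simp [Bz hxz, Bz hwz, hzws, B_swap hb w,
        Bz (show pr x ≠ pr w.swap by rw [pr_swap]; exact hxw)]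
  -- second extraction: `u₂ = T (b x.swap) (b w)` fixes `b z` and moves `d'` by a multiple of `b w`
  have hxsw : B (b x.swap) (b w) = 0 := Bz (by rw [pr_swap]; exact hxw)
  have hzxs : B (b z) (b x.swap) = 0 := Bz (by rw [pr_swap]; exact hzx)
  have fam2 : Fam hB F₀ H ((B a (b z) * sg F x) • b w) ((B a (b x) * sg F w) • b z) := by
    apply extract_orth hB (q := d') (u := T B hB (b x.swap) (b w)) _ _ _
      (hMH (T_rat_mem hB hb hS (rat_basis hb F₀ _) (rat_basis hb F₀ _)))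
      (T_mem_isoGroup B hB _ _) _ _ fam1
    · rw [hd']; simp [Bz hzx, Bs z]
    · simp [Bz hzw]
    · rw [hd']; simp [Bz hwx, Bz hwz]
    · rw [T_apply B hB hxsw]; simp [hzxs, Bz hzw]
    · rw [T_apply B hB hxsw, hd']
      simp [Bz hxw, Bz hzw, Bs x, hzxs, B_swap hb x]
  -- conclusion
  have h5 := fam2 1 F₀.one_mem
  rw [one_smul, ← T_smul_swap B hB (by simp [Bz hwz]), smul_smul] at h5
  have h6 := hstar _ w z hwz h5
  have h7 := F₀.mul_mem h6 (F₀.mul_mem (sg_mem F₀ w) (sg_mem F₀ x))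
  have e7 : B a (b x) * sg F w * (B a (b z) * sg F x) * (sg F w * sg F x) =
      B a (b x) * B a (b z) := by
    have e1 := sg_mul_self (F := F) w
    have e2 := sg_mul_self (F := F) x
    linear_combination (B a (b x) * B a (b z) * sg F x * sg F x) * e1 +
      (B a (b x) * B a (b z)) * e2
  rwa [e7] at h7

variable (hstar : ∀ (c : F) (x z : κ ⊕ κ), pr x ≠ pr z → T B hB (c • b x) (b z) ∈ H → c ∈ F₀)

include hb hS hMH hstar in
lemma K1t (h3 : 3 ≤ Fintype.card κ) {a : V} (ha : PH hB F₀ H a) {x z : κ ⊕ κ}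
    (hxz : pr x ≠ pr z) : B a (b x) * B a (b z) ∈ F₀ := by
  by_cases h2 : (2 : F) = 0
  · exact K1_even3 hB hb hS hMH h2 h3 hstar ha hxz
  · exact K1_odd hB hb hS hMH h2 hstar ha hxz

include hb hS hMH hstar in
lemma K2t (h3 : 3 ≤ Fintype.card κ) {a : V} (ha : PH hB F₀ H a) (z : κ ⊕ κ) :
    B a (b z) * B a (b z) ∈ F₀ := by
  obtain ⟨y, hy⟩ := exists_fresh ({pr z} : Finset κ) (by rw [Finset.card_singleton]; omega)
  simp only [Finset.mem_singleton] at hy
  have hzy := Ne.symm hy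
  have hzys : pr z ≠ pr y.swap := by rw [pr_swap]; exact hzy
  have hkM : T B hB (sg F y • b y.swap) (b z) ∈ S ⊓ isoGroup B :=
    T_rat_mem hB hb hS (rat_smul F₀ (sg_mem F₀ y) (rat_basis hb F₀ _)) (rat_basis hb F₀ _)
  have hkI := hkM.2
  have hkH := hMH hkM
  have hpq : B (sg F y • b y.swap) (b z) = 0 := by simp [B_of_pr_ne hb (Ne.symm hzys)]
  have ha2 := PH_map hB ha (H.inv_mem hkH) ((isoGroup B).inv_mem hkI)
  have e1 : B ((T B hB (sg F y • b y.swap) (b z))⁻¹ a) (b y) = B a (b y) + B a (b z) := by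
    rw [isoGroup_inv_apply hkI, T_apply B hB hpq]
    simp [B_of_pr_ne hb hy, B_swap hb y, sg_mul_self]
  have e2 : B ((T B hB (sg F y • b y.swap) (b z))⁻¹ a) (b z) = B a (b z) := by
    rw [isoGroup_inv_apply hkI, T_apply B hB hpq]
    simp [B_of_pr_ne hb hzys, B_self hb z]
  have k1 := K1t hB hb hS hMH hstar h3 ha2 hy
  rw [e1, e2] at k1
  have k2 := K1t hB hb hS hMH hstar h3 ha hy
  have := F₀.sub_mem k1 k2
  have e3 : (B a (b y) + B a (b z)) * B a (b z) - B a (b y) * B a (b z) =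
      B a (b z) * B a (b z) := by ring
  rwa [e3] at this

include hb hS hMH hstar in
lemma K3t (h3 : 3 ≤ Fintype.card κ) (h2 : (2 : F) ≠ 0) {a : V} (ha : PH hB F₀ H a)
    (y : κ ⊕ κ) : B a (b y) * B a (b y.swap) ∈ F₀ := by
  have hkM : stv B hB (b y.swap) (sg F y) ∈ S ⊓ isoGroup B :=
    stv_rat_mem hB hb hS (rat_basis hb F₀ _) (sg_mem F₀ y)
  have hkI := hkM.2
  have hkH := hMH hkM
  have ha2 := PH_map hB ha (H.inv_mem hkH) ((isoGroup B).inv_mem hkI)
  have e1 : B ((stv B hB (b y.swap) (sg F y))⁻¹ a) (b y) = B a (b y) + B a (b y.swap) := by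
    rw [isoGroup_inv_apply hkI, stv_apply, B_swap hb, sg_mul_self, one_smul, map_add]
  have k1 := K2t hB hb hS hMH hstar h3 ha2 y
  rw [e1] at k1
  have k2 := K2t hB hb hS hMH hstar h3 ha y
  have k3 := K2t hB hb hS hMH hstar h3 ha y.swap
  have h2m : (2 : F)⁻¹ ∈ F₀ := by
    apply F₀.inv_mem
    have : (2 : F) = ((2 : ℕ) : F) := by norm_num
    rw [this]
    exact natCast_mem F₀ 2
  have := F₀.mul_mem h2m (F₀.sub_mem (F₀.sub_mem k1 k2) k3)
  have e3 : (2 : F)⁻¹ * ((B a (b y) + B a (b y.swap)) * (B a (b y) + B a (b y.swap)) -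
      B a (b y) * B a (b y) - B a (b y.swap) * B a (b y.swap)) = B a (b y) * B a (b y.swap) := by
    field_simp
    ring
  rwa [e3] at this

include hb hS hMH hstar in
lemma K2t' [Finite F] (h3 : 3 ≤ Fintype.card κ) (h2 : (2 : F) = 0) {a : V} (ha : PH hB F₀ H a)
    (z : κ ⊕ κ) : B a (b z) ∈ F₀ := by
  have k := K2t hB hb hS hMH hstar h3 ha z
  have h20 : ((2 : ℕ) : F₀) = 0 := by
    apply Subtype.ext
    push_cast
    exact h2
  have hch : ringChar F₀ = 2 := CharP.ringChar_of_prime_eq_zero Nat.prime_two h20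
  obtain ⟨s, hs⟩ := FiniteField.isSquare_of_char_two hch ⟨_, k⟩
  have hs' : B a (b z) * B a (b z) = (s : F) * (s : F) := by
    have := congrArg (Subtype.val) hs
    simpa using this
  have e : (B a (b z) - s) * (B a (b z) - s) = 0 := by
    linear_combination hs' + (s * s - B a (b z) * s) * h2
  have : B a (b z) - s = 0 := by
    rcases mul_eq_zero.mp e with h | h <;> exact h
  rw [sub_eq_zero] at this
  rw [this]
  exact s.2

include hb hS hMH hstar in
lemma K_allt [Finite F] (h3 : 3 ≤ Fintype.card κ) {a : V} (ha : PH hB F₀ H a) (y z : κ ⊕ κ) :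
    B a (b y) * B a (b z) ∈ F₀ := by
  by_cases h2 : (2 : F) = 0
  · exact F₀.mul_mem (K2t' hB hb hS hMH hstar h3 h2 ha y) (K2t' hB hb hS hMH hstar h3 h2 ha z)
  · by_cases hp : pr y = pr z
    · rcases eq_or_eq_swap_of_pr_eq hp with h | h
      · rw [h]; exact K2t hB hb hS hMH hstar h3 ha y
      · rw [h]; exact K3t hB hb hS hMH hstar h3 h2 ha y
    · exact K1t hB hb hS hMH hstar h3 ha hp

include hb hS hMH hstar in
/-- A vector all of whose rational transvections lie in `H` is a multiple of a rational vector. -/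
lemma PH_scaled3 [Finite F] (h3 : 3 ≤ Fintype.card κ) {a : V} (ha : PH hB F₀ H a) :
    ∃ (l : F) (w : V), Rat b B F₀ w ∧ a = l • w := by
  by_cases h : ∀ y, B a (b y) = 0
  · exact ⟨1, 0, rat_zero F₀, by rw [eq_zero_of_forall hb a h, smul_zero]⟩
  · push Not at h
    obtain ⟨y₀, hy₀⟩ := h
    obtain ⟨w, hw, haw⟩ := rat_of_scaled F₀ (b := b) (B := B) (a := a) hy₀ (by
      intro y
      have h1 := K_allt hB hb hS hMH hstar h3 ha y₀ y
      have h2 := K_allt hB hb hS hMH hstar h3 ha y₀ y₀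
      have := F₀.mul_mem h1 (F₀.inv_mem h2)
      have e : B a (b y₀) * B a (b y) * (B a (b y₀) * B a (b y₀))⁻¹ = (B a (b y₀))⁻¹ * B a (b y) := by
        field_simp
      rwa [e] at this)
    exact ⟨_, w, hw, haw⟩


include hB hb hS in
/-- **Maximality of the rational symplectic group**, abstract version, three pairs. -/
theorem maximal_rat3 [Finite F] (h3 : 3 ≤ Fintype.card κ) (hp : (Module.finrank F₀ F).Prime) :
    (S ⊓ isoGroup B < isoGroup B) ∧
      ∀ H : Subgroup (V ≃ₗ[F] V), S ⊓ isoGroup B ≤ H → H ≤ isoGroup B →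
        H = S ⊓ isoGroup B ∨ H = isoGroup B := by
  haveI : Nonempty κ := Fintype.card_pos_iff.mp (by omega)
  constructor
  · have hex : ∃ l : F, l ∉ F₀ := by
      by_contra hcon
      push Not at hcon
      haveI := Subalgebra.isSimpleOrder_of_finrank_prime F₀ F hp
      have : (⊥ : Subalgebra F₀ F) = ⊤ := by
        ext x
        simp only [Algebra.mem_bot, Algebra.mem_top, iff_true]
        exact ⟨⟨x, hcon x⟩, rfl⟩
      exact bot_ne_top this
    obtain ⟨l, hl⟩ := hex
    exact proper hB hb hS hl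
  · intro H hMH hHK
    by_cases hstar : ∀ (c : F) (x z : κ ⊕ κ), pr x ≠ pr z → T B hB (c • b x) (b z) ∈ H → c ∈ F₀
    · left
      apply le_antisymm _ hMH
      intro k hkH
      have hkI := hHK hkH
      refine ⟨mem_S_of_lin hb hS hkI ?_, hkI⟩
      intro v hv
      have hPv : PH hB F₀ H v := fun c hc => hMH (stv_rat_mem hB hb hS hv hc)
      exact PH_scaled3 hB hb hS hMH hstar h3 (PH_map hB hPv hkH hkI)
    · right
      push Not at hstar
      obtain ⟨c, x, z, hxz, hT, hc⟩ := hstar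
      have hR := Rset_top3 hB hb hS hMH (by omega) hp hc hxz hT
      exact le_antisymm hHK (iso_le_of_Rset hB hb hS hMH hR (by omega))

end Abstract

open Cfsg Cfsg.Agent.Lib.Helper94_Bridge Cfsg.Agent.Lib.Helper94_SubfieldBridge
  Cfsg.Agent.Lib.Helper38_SpSubBridge Cfsg.Agent.S5650

/-- S5650 (subfield subgroups of `Sp_2m(q)` are maximal) for all `m ≥ 3`. -/
theorem subfield_sp_max3 {F : Type*} [Field F] [Fintype F] (m : ℕ) (hm : 3 ≤ m) (F₀ : Subfield F) (r : ℕ) (hr : r.Prime) (hcard : Fintype.card F = Nat.card F₀ ^ r) (P : Matrix.GeneralLinearGroup (Fin m ⊕ Fin m) F) (ζ : F) (hζ : ζ ≠ 0) (hP : Cfsg.Geo.IsFormRationalStructure (Cfsg.sympForm m F) F₀ ζ P) : Cfsg.Geo.IsMaximalIn (Cfsg.spGL m F) (Cfsg.Geo.subfieldSubgroup F₀ P ⊓ Cfsg.spGL m F) := by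
  classical
  have hfin : Module.finrank F₀ F = r := finrank_eq' F₀ r hcard
  have hp : (Module.finrank F₀ F).Prime := by rw [hfin]; exact hr
  have hBalt : (ζ • Bsymp m F).IsAlt := isAlt_smul (Bsymp_isAlt m) ζ
  have hBN : (ζ • Bsymp m F).Nondegenerate := by
    have hN := Bsymp_nondegenerate (F := F) m
    constructor
    · intro x hx
      apply hN.1 x
      intro y
      have := hx y
      simp only [LinearMap.smul_apply, smul_eq_mul] at this
      rcases mul_eq_zero.mp this with h | h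
      · exact absurd h hζ
      · exact h
    · intro y hy
      apply hN.2 y
      intro x
      have := hy x
      simp only [LinearMap.smul_apply, smul_eq_mul] at this
      rcases mul_eq_zero.mp this with h | h
      · exact absurd h hζ
      · exact h
  have hrat : ∀ u v : Fin m ⊕ Fin m → F₀,
      (ζ • Bsymp m F) ((P : Matrix (Fin m ⊕ Fin m) (Fin m ⊕ Fin m) F).mulVec (cv F₀ u))
        ((P : Matrix (Fin m ⊕ Fin m) (Fin m ⊕ Fin m) F).mulVec (cv F₀ v)) ∈ F₀ := by
    intro u v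
    simp only [LinearMap.smul_apply, smul_eq_mul, Bsymp_apply]
    exact hP _ _ (cv_mem F₀ u) (cv_mem F₀ v)
  obtain ⟨m', b, hcount, hbs, hratV⟩ := exists_rat_basis F₀ P (ζ • Bsymp m F) hBalt hBN hrat
  have hm' : 3 ≤ Fintype.card (Fin m') := by
    simp only [Fintype.card_sum, Fintype.card_fin] at hcount
    rw [Fintype.card_fin]
    omega
  let S : Subgroup ((Fin m ⊕ Fin m → F) ≃ₗ[F] (Fin m ⊕ Fin m → F)) :=
    (Cfsg.Geo.subfieldSubgroup F₀ P).comap (glEquiv (Fin m ⊕ Fin m) F).symm.toMonoidHom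
  have hSeq : Cfsg.Geo.subfieldSubgroup F₀ P = S.comap (glEquiv (Fin m ⊕ Fin m) F).toMonoidHom :=
    (comap_symm_comap' (glEquiv (Fin m ⊕ Fin m) F) _).symm
  rw [hSeq, spGL_eq, ← Subgroup.comap_inf]
  apply isMaximalIn_comap
  rw [← isoGroup_smul (Bsymp m F) hζ]
  apply maximal_rat3 hBalt hbs ?_ hm' hp
  intro g
  have key : ∀ x, (((glEquiv (Fin m ⊕ Fin m) F).symm g :
      Matrix.GeneralLinearGroup (Fin m ⊕ Fin m) F) :
      Matrix (Fin m ⊕ Fin m) (Fin m ⊕ Fin m) F).mulVec x = g x := by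
    intro x
    rw [← glEquiv_apply, MulEquiv.apply_symm_apply]
  show (glEquiv (Fin m ⊕ Fin m) F).symm g ∈ Cfsg.Geo.subfieldSubgroup F₀ P ↔ _
  rw [mem_subfieldSubgroup_iff]
  simp only [key]
  constructor
  · rintro ⟨μ, hμ, h⟩
    refine ⟨μ, hμ, fun v hv => ?_⟩
    obtain ⟨w, hw, hgw⟩ := h v ((hratV v).mpr hv)
    exact ⟨w, (hratV w).mp hw, hgw⟩
  · rintro ⟨μ, hμ, h⟩
    refine ⟨μ, hμ, fun v hv => ?_⟩
    obtain ⟨w, hw, hgw⟩ := h v ((hratV v).mp hv)
    exact ⟨w, (hratV w).mpr hw, hgw⟩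

end Cfsg.Agent.Lib.Helper59_SpSub3p
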