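import Mathlib
import Cfsg.Agent.Lib.Helper94_SpUni4
import Cfsg.Agent.Lib.Helper31_S5804_WITT1

/-!
# S5804 clause (6), package TVALL (architect helper59)

Root groups on one singular `K`-line give all symplectic transvections (dimension 6, Witt index 1).
`TV_all6_of` takes the statement of the package WITT1 as a hypothesis.
-/

set_option autoImplicit false

namespace Cfsg.Agent.Lib.Helper95_S5804_TVALL

open Module Cfsg.Agent.Lib.Helper94_Symp Cfsg.Agent.Lib.Helper94_OrthSmall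
  Cfsg.Agent.Lib.Helper94_OrthSiegel Cfsg.Agent.Lib.Helper94_OrthSiegel2
  Cfsg.Agent.Lib.Helper94_OrthPara Cfsg.Agent.Lib.Helper94_OrthNondeg
  Cfsg.Agent.Lib.Helper94_OrthUni Cfsg.Agent.Lib.Helper94_SpUni

variable {F V : Type*} [Field F] [AddCommGroup V] [Module F V]
variable {Q : V → F} {P B : LinearMap.BilinForm F V} {θ : V →ₗ[F] V} {τ ν : F}

/-- singular vectors: the root group moves from the line `K z` to any singular vector -/
theorem TV_sing6_of [Finite F] [FiniteDimensional F V] (S : SpU Q P B θ τ ν)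
    (hW : ∀ {x y : V}, x ≠ 0 → Q x = 0 → Q y = 0 → HP P θ x y → Kmem θ x y)
    (M : Subgroup (V ≃ₗ[F] V)) (hMB : M ≤ isoGroup B)
    (hT : ∀ (u : V) (t : F), Q u = 0 → Tm Q P θ u t ∈ M)
    {z : V} (hz0 : z ≠ 0) (hz : Q z = 0) (hzT : ∀ κ, Kmem θ z κ → κ ∈ TV B S.alt M) {v : V}
    (hv : Q v = 0) : v ∈ TV B S.alt M := by
  have hsymm := S.Psymm
  by_cases hK : Kmem θ z v
  · exact hzT v hK
  obtain ⟨z', hz'⟩ : ∃ z' : V, z' = P v (θ z) • z + (-(P v z)) • θ z := ⟨_, rfl⟩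
  have kz' : Kmem θ z z' := ⟨P v (θ z), -(P v z), hz'⟩
  have hz'0 : z' ≠ 0 := by
    intro h0
    rw [hz'] at h0
    obtain ⟨h1, h2⟩ := S.U.indep hz0 h0
    have h3 : P v z = 0 := neg_eq_zero.mp h2
    exact hK (hW hz0 hz hv (HP.symm S ⟨h3, h1⟩))
  have hQz' : Q z' = 0 := Kmem.sing S.U S.hQs S.hQp kz' hz
  have hvz' : P v z' = 0 := by
    rw [hz', map_add, map_smul, map_smul, smul_eq_mul, smul_eq_mul]
    ring
  have hz'v : P z' v = 0 := by rw [hsymm, hvz']
  obtain ⟨w, hw⟩ : ∃ w : V, w = v - z' := ⟨_, rfl⟩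
  have hQw : Q w = 0 := by
    have e : w = v + (-1 : F) • z' := by rw [hw]; module
    rw [e, Q_add_smul Q P S.hQs S.hQp, hv, hQz', hvz']
    ring
  have hne : P z' (θ v) ≠ 0 := by
    intro h0
    have hk : Kmem θ z' v := hW hz'0 hQz' hv ⟨hz'v, h0⟩
    exact hK (kz'.trans S.U hk)
  have hz'z' : P z' z' = 0 := by
    rw [B_self Q P S.hQs S.hQp, hQz', mul_zero]
  have hz'θz' : P z' (θ z') = 0 := by rw [S.U.Bθ, hQz', mul_zero]
  have hmove : Tm Q P θ w (-(P z' (θ v))⁻¹) z' = v := by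
    rw [Tm_apply S hQw, hw, map_sub, map_sub, map_sub, hz'v, hz'z', hz'θz', sub_zero, sub_zero,
      zero_smul, zero_sub, smul_neg, neg_smul, neg_neg, smul_smul, inv_mul_cancel₀ hne, one_smul]
    abel
  rw [← hmove]
  have hg := hT w (-(P z' (θ v))⁻¹) hQw
  exact TV_map hg (hMB hg) (hzT z' kz')

/-- TVALL from the statement of WITT1. -/
theorem TV_all6_of [Finite F] [FiniteDimensional F V] (S : SpU Q P B θ τ ν)
    (hW : ∀ {x y : V}, x ≠ 0 → Q x = 0 → Q y = 0 → HP P θ x y → Kmem θ x y)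
    (h6 : finrank F V = 6) (M : Subgroup (V ≃ₗ[F] V)) (hMB : M ≤ isoGroup B)
    (hT : ∀ (u : V) (t : F), Q u = 0 → Tm Q P θ u t ∈ M)
    {z : V} (hz0 : z ≠ 0) (hz : Q z = 0) (hzT : ∀ κ, Kmem θ z κ → κ ∈ TV B S.alt M) (v : V) :
    v ∈ TV B S.alt M := by
  have hsymm := S.Psymm
  have hsing : ∀ {v : V}, Q v = 0 → v ∈ TV B S.alt M :=
    fun hv => TV_sing6_of S hW M hMB hT hz0 hz hzT hv
  by_cases hv0 : v = 0
  · rw [hv0]; exact TV_zero
  by_cases hQv : Q v = 0
  · exact hsing hQv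
  -- a singular vector `x` with `P v x ≠ 0` and `B v x ≠ 0`
  have hnd : ∀ a ∈ (⊤ : Submodule F V), a ≠ 0 → ∃ a' ∈ (⊤ : Submodule F V), P a' a ≠ 0 := by
    intro a _ ha0
    obtain ⟨y, hy⟩ := exists_not_orth S.hQp S.nP ha0
    exact ⟨y, Submodule.mem_top, by rw [hsymm]; exact hy⟩
  obtain ⟨s, -, hQs', hsv⟩ := exists_sing_not_orth Q P S.hQs S.hQp ⊤ hnd (by
    rw [finrank_top]; omega) (hnd v Submodule.mem_top hv0)
  have hvs : P v s ≠ 0 := by rw [hsymm]; exact hsv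
  obtain ⟨x, hQx, hPx, hBx⟩ : ∃ x, Q x = 0 ∧ P v x ≠ 0 ∧ B v x ≠ 0 := by
    by_cases hB : B v s = 0
    · have hθ : B v (θ s) ≠ 0 := by
        intro h0
        apply hvs
        rw [S.PB, hB, h0]; ring
      have hPθ : P v (θ s) = τ * B v (θ s) := by rw [S.PBθ, hB]; ring
      have hPs : P v s = 2 * B v (θ s) := by rw [S.PB, hB]; ring
      by_cases hτ : 2 + τ = 0
      · refine ⟨s + (-1 : F) • θ s, Kmem.sing S.U S.hQs S.hQp ⟨1, -1, by module⟩ hQs', ?_, ?_⟩
        · rw [map_add, map_smul, hPθ, hPs]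
          have h4 : (2 : F) - τ ≠ 0 := by
            intro h
            have h5 : (2 : F) * 2 = 0 := by linear_combination hτ + h
            exact S.two ((mul_eq_zero.mp h5).elim id id)
          have : 2 * B v (θ s) + (-1 : F) • (τ * B v (θ s)) = (2 - τ) * B v (θ s) := by
            simp only [smul_eq_mul]; ring
          rw [this]
          exact mul_ne_zero h4 hθ
        · rw [map_add, map_smul, hB]
          simpa using hθ
      · refine ⟨s + (1 : F) • θ s, Kmem.sing S.U S.hQs S.hQp ⟨1, 1, by module⟩ hQs', ?_, ?_⟩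
        · rw [map_add, map_smul, hPθ, hPs]
          have : 2 * B v (θ s) + (1 : F) • (τ * B v (θ s)) = (2 + τ) * B v (θ s) := by
            simp only [smul_eq_mul]; ring
          rw [this]
          exact mul_ne_zero hτ hθ
        · rw [map_add, map_smul, hB]
          simpa using hθ
    · exact ⟨s, hQs', hvs, hB⟩
  have hxT : x ∈ TV B S.alt M := hsing hQx
  have hx'Q : Q (v + (-(Q v / P v x)) • x) = 0 := sing_adjust Q P S.hQs S.hQp hQx hPx
  have hx'T : v + (-(Q v / P v x)) • x ∈ TV B S.alt M := hsing hx'Q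
  have hB' : B (v + (-(Q v / P v x)) • x) x ≠ 0 := by
    rw [map_add, LinearMap.add_apply, map_smul, LinearMap.smul_apply, S.alt x, smul_zero, add_zero]
    exact hBx
  have := TV_add_smul hxT hx'T hB' (Q v / P v x)
  have e : v + (-(Q v / P v x)) • x + (Q v / P v x) • x = v := by module
  rwa [e] at this

/-- **TVALL** (verbatim package statement). -/
theorem TV_all6 [Finite F] [FiniteDimensional F V] (S : SpU Q P B θ τ ν)
    (h6 : finrank F V = 6) (M : Subgroup (V ≃ₗ[F] V)) (hMB : M ≤ isoGroup B)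
    (hT : ∀ (u : V) (t : F), Q u = 0 → Tm Q P θ u t ∈ M)
    {z : V} (hz0 : z ≠ 0) (hz : Q z = 0) (hzT : ∀ κ, Kmem θ z κ → κ ∈ TV B S.alt M) (v : V) :
    v ∈ TV B S.alt M :=
  TV_all6_of S (fun hx0 hx hy hxy =>
    Cfsg.Agent.Lib.Helper31_S5804_WITT1.kmem_of_sing_hp S h6 hx0 hx hy hxy) h6 M hMB hT hz0 hz hzT v

end Cfsg.Agent.Lib.Helper95_S5804_TVALL
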