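import Mathlib
import Cfsg.Agent.Lib.Helper94_SpUni4
import Cfsg.Agent.Lib.Helper94_SpUniBridge
import Cfsg.Agent.Lib.Helper59_S5804_SEMI
import Cfsg.Agent.Lib.Helper59_S5804_CONFIG
import Cfsg.Agent.Lib.Helper95_S5804_TVALL
import Cfsg.Agent.Lib.Helper12_S5804_TRANSV

/-!
# `GU_3(q).2` is maximal in `Sp_6(q)`, `q` odd (helper59; S5804 clause (6))

Assembly of the seven S5804 packages (REFL helper41, WITT1 helper31, SIEGEL + TVALL helper95,
TRANSV helper12, SEMI + CONFIG helper59) into `maximal_spfield6`, and the bridge to the matrix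
statement `spfield_maximal3` (copy of `Helper98_SpUniSmallBridge.spfield_maximalL` at `m = 3`).
Hermitian `K^3` has Witt index one, so helper94's Witt-index-two arguments are replaced.
-/

set_option autoImplicit false

namespace Cfsg.Agent.Lib.Helper59_SpUni6

open Module Cfsg.Agent.Lib.Helper94_Symp Cfsg.Agent.Lib.Helper94_OrthSmall
  Cfsg.Agent.Lib.Helper94_OrthSiegel Cfsg.Agent.Lib.Helper94_OrthSiegel2
  Cfsg.Agent.Lib.Helper94_OrthPara Cfsg.Agent.Lib.Helper94_OrthNondeg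
  Cfsg.Agent.Lib.Helper94_OrthUni Cfsg.Agent.Lib.Helper94_SpUni
  Cfsg.Agent.Lib.Helper59_S5804_SEMI Cfsg.Agent.Lib.Helper59_S5804_CONFIG
  Cfsg.Agent.Lib.Helper95_S5804_TVALL Cfsg.Agent.Lib.Helper12_S5804_TRANSV

variable {F V : Type*} [Field F] [AddCommGroup V] [Module F V]
variable {Q : V → F} {P B : LinearMap.BilinForm F V} {θ : V →ₗ[F] V} {τ ν : F}

/-- **MAIN**: the semilinear isometries form a maximal subgroup of `Sp(B)` (`finrank = 6`). -/
theorem maximal_spfield6 [Finite F] [FiniteDimensional F V] (S : SpU Q P B θ τ ν)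
    (h6 : finrank F V = 6) (Sg : Subgroup (V ≃ₗ[F] V))
    (hS : ∀ g, g ∈ Sg ↔ ∃ a b : F, ∀ x, g (θ x) = a • g x + b • θ (g x)) :
    (Sg ⊓ isoGroup B < isoGroup B) ∧
      ∀ M : Subgroup (V ≃ₗ[F] V), Sg ⊓ isoGroup B ≤ M → M ≤ isoGroup B →
        M = Sg ⊓ isoGroup B ∨ M = isoGroup B := by
  have hsymm := S.Psymm
  constructor
  · refine lt_of_le_of_ne inf_le_right ?_
    intro heq
    obtain ⟨x, -, hx0, hQx⟩ := exists_singular_in Q P S.hQs S.hQp (⊤ : Submodule F V) (by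
      rw [finrank_top]; omega)
    have hE : stv B S.alt x 1 ∈ Sg ⊓ isoGroup B := by
      rw [heq]; exact stv_mem_isoGroup B S.alt x 1
    obtain ⟨a, b, hab⟩ := (hS _).mp hE.1
    have hxθx : B x (θ x) = 0 := S.Bsing hQx
    have hθxx : B (θ x) x = 0 := by rw [alt_swap B S.alt, hxθx, neg_zero]
    have h1 := hab x
    rw [stv_apply, stv_apply, S.alt x, hθxx] at h1
    have h2 : a • x + (b - 1) • θ x = 0 := by
      have : a • x + (b - 1) • θ x = (a • (x + ((1 : F) * 0) • x) + b • θ (x + ((1 : F) * 0) • x)) -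
          (θ x + ((1 : F) * 0) • x) := by
        simp only [map_add, map_smul]; module
      rw [this, ← h1, sub_self]
    obtain ⟨ha, hb⟩ := S.U.indep hx0 h2
    have hb' : b = 1 := by linear_combination hb
    obtain ⟨y, hy⟩ : ∃ y, B y x ≠ 0 := by
      by_contra hcon
      push Not at hcon
      exact hx0 (S.nB.2 x hcon)
    have h3 := hab y
    rw [ha, hb', zero_smul, zero_add, one_smul, stv_apply, stv_apply] at h3
    have h4 : (B (θ y) x) • x + (-(B y x)) • θ x = 0 := by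
      have : (B (θ y) x) • x + (-(B y x)) • θ x =
          (θ y + ((1 : F) * B (θ y) x) • x) - θ (y + ((1 : F) * B y x) • x) := by
        simp only [map_add, map_smul]; module
      rw [this, h3, sub_self]
    exact hy (neg_eq_zero.mp (S.U.indep hx0 h4).2)
  · intro M hHM hMB
    have hH : ∀ r : V ≃ₗ[F] V, r ∈ isoGroup B → (∀ x, r (θ x) = θ (r x)) → r ∈ M := by
      intro r hr hc
      apply hHM
      refine ⟨(hS _).mpr ⟨0, 1, fun x => ?_⟩, hr⟩
      rw [hc]; module
    have hT : ∀ (u : V) (t : F), Q u = 0 → Tm Q P θ u t ∈ M := by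
      intro u t hu
      exact hH _ (Tm_mem_iso S hu t) (fun x => Tm_comm S hu t x)
    by_cases hK : ∀ g ∈ M, ∀ u, Q u = 0 → Kmem θ (g u) (g (θ u))
    · left
      apply le_antisymm _ hHM
      intro m hm
      refine ⟨(hS m).mpr ?_, hMB hm⟩
      apply semilinear_of_lines6 S h6 (hMB hm)
      intro y hy0 hy
      have hmi : m⁻¹ ∈ M := M.inv_mem hm
      obtain ⟨α, β, hαβ⟩ := hK m⁻¹ hmi y hy
      have hβ : β ≠ 0 := by
        rintro rfl
        have h1 := congrArg m hαβ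
        rw [apply_inv_apply', zero_smul, add_zero, map_smul, apply_inv_apply'] at h1
        have h2 : (-α) • y + (1 : F) • θ y = 0 := by rw [one_smul, h1]; module
        exact one_ne_zero (S.U.indep hy0 h2).2
      have h1 := congrArg m hαβ
      rw [apply_inv_apply', map_add, map_smul, map_smul, apply_inv_apply'] at h1
      refine ⟨-(α / β), 1 / β, ?_⟩
      have h2 : m (θ (m⁻¹ y)) = β⁻¹ • (β • m (θ (m⁻¹ y))) := by
        rw [smul_smul, inv_mul_cancel₀ hβ, one_smul]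
      have h3 : β • m (θ (m⁻¹ y)) = θ y - α • y := by rw [h1]; module
      rw [h2, h3, smul_sub, smul_smul]
      have e1 : β⁻¹ * α = α / β := by field_simp
      have e2 : β⁻¹ = 1 / β := by field_simp
      rw [e1, e2]
      module
    · right
      push Not at hK
      obtain ⟨g, hg, u, hu, hgK⟩ := hK
      obtain ⟨z, z₀, m, hz0, hz, hz₀, hm, hmz, hp, hnK⟩ :=
        exists_config S h6 M hMB hH hg hu hgK
      have hzT := TV_of_config S h6 M hMB hH hz0 hz hz₀ hm hmz hp hnK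
      apply le_antisymm hMB
      apply isoGroup_le_of_stv_mem B S.alt S.nB
      intro v c
      exact TV_all6 S h6 M hMB hT hz0 hz hzT v c


section Symp6

open Matrix Cfsg.Agent.Lib.Helper94_Bridge
  Cfsg.Agent.Lib.Helper94_SLBridge
  Cfsg.Agent.Lib.Helper94_OrthUniBridge Cfsg.Agent.Lib.Helper94_SpUniBridge

variable {F : Type*} [Field F]

/-- **Maximality of the normaliser of a quadratic extension field** (closed under adjoints, not
self-adjoint) in `Sp_6(F)`, for `F` of odd order: `GU_3(q).2 < Sp_6(q)`. -/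
theorem spfield_maximal3 [Fintype F] (h2 : (2 : F) ≠ 0)
    (K : Subalgebra F (Matrix (Fin 3 ⊕ Fin 3) (Fin 3 ⊕ Fin 3) F))
    (hK : Cfsg.Geo.IsFieldSubalgebra 2 K)
    (hac : Cfsg.Geo.IsAdjointClosedFor (Cfsg.sympForm 3 F) K)
    (hnsa : ¬ Cfsg.Geo.IsSelfAdjointFor (Cfsg.sympForm 3 F) K) :
    Cfsg.Geo.IsMaximalIn (Cfsg.spGL 3 F) (Cfsg.Geo.subalgebraNormalizer K ⊓ Cfsg.spGL 3 F) := by
  classical
  have hne : Nonempty (Fin 3 ⊕ Fin 3) := ⟨Sum.inl ⟨0, by omega⟩⟩
  have hfr : finrank F (Fin 3 ⊕ Fin 3 → F) = 6 := by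
    rw [Module.finrank_pi, Fintype.card_sum, Fintype.card_fin]
  have hac' : Cfsg.Geo.IsAdjointClosedFor (fun u v => Bsymp 3 F u v) K := by
    intro k hk
    obtain ⟨k', hk', h⟩ := hac k hk
    refine ⟨k', hk', fun u v => ?_⟩
    show Bsymp 3 F (k *ᵥ u) v = Bsymp 3 F u (k' *ᵥ v)
    rw [Bsymp_apply, Bsymp_apply]; exact h u v
  have hnsa' : ¬ Cfsg.Geo.IsSelfAdjointFor (fun u v => Bsymp 3 F u v) K := by
    intro h
    apply hnsa
    intro k hk u v
    have : Bsymp 3 F (k *ᵥ u) v = Bsymp 3 F u (k *ᵥ v) := h k hk u v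
    rw [Bsymp_apply, Bsymp_apply] at this
    exact this
  obtain ⟨T, τ, ν, hTK, hTns, hgen, hsq, hadj, haniso⟩ :=
    exists_sstr K hK (Bsymp 3 F) (Bsymp_nondegenerate 3) hac' hnsa'
  have hSp := spU_of (Bsymp 3 F) (Bsymp_isAlt 3) (Bsymp_nondegenerate 3) (Matrix.toLin' T) τ ν h2
    (fun x => by simp only [Matrix.toLin'_apply]; exact hsq x)
    (fun x y => by simp only [Matrix.toLin'_apply]; exact hadj x y) haniso
  let S : Subgroup ((Fin 3 ⊕ Fin 3 → F) ≃ₗ[F] (Fin 3 ⊕ Fin 3 → F)) :=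
    (Cfsg.Geo.subalgebraNormalizer K).comap (glEquiv (Fin 3 ⊕ Fin 3) F).symm.toMonoidHom
  have hSeq : Cfsg.Geo.subalgebraNormalizer K =
      S.comap (glEquiv (Fin 3 ⊕ Fin 3) F).toMonoidHom :=
    (comap_symm_comap (glEquiv (Fin 3 ⊕ Fin 3) F) _).symm
  have hS : ∀ g, g ∈ S ↔ ∃ a b : F, ∀ x, g (Matrix.toLin' T x) =
      a • g x + b • Matrix.toLin' T (g x) := by
    intro g
    have key : ∀ y, g y = (((glEquiv (Fin 3 ⊕ Fin 3) F).symm g : GL (Fin 3 ⊕ Fin 3) F) :
        Matrix (Fin 3 ⊕ Fin 3) (Fin 3 ⊕ Fin 3) F) *ᵥ y := by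
      intro y
      rw [← glEquiv_apply, MulEquiv.apply_symm_apply]
    have h1 : g ∈ S ↔ (glEquiv (Fin 3 ⊕ Fin 3) F).symm g ∈ Cfsg.Geo.subalgebraNormalizer K :=
      Iff.rfl
    rw [h1, mem_normalizer_iff K hK hTK hTns hgen]
    constructor
    · rintro ⟨a, b, hab⟩
      refine ⟨a, b, fun x => ?_⟩
      rw [key, key, Matrix.toLin'_apply, Matrix.toLin'_apply, Matrix.mulVec_mulVec, hab,
        ← Matrix.mulVec_mulVec, Matrix.add_mulVec, Matrix.smul_mulVec, Matrix.smul_mulVec,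
        Matrix.one_mulVec]
    · rintro ⟨a, b, hab⟩
      refine ⟨a, b, ?_⟩
      apply Matrix.toLin'.injective
      refine LinearMap.ext fun x => ?_
      have := hab x
      rw [key, key, Matrix.toLin'_apply, Matrix.toLin'_apply] at this
      rw [Matrix.toLin'_apply, Matrix.toLin'_apply, ← Matrix.mulVec_mulVec, this,
        ← Matrix.mulVec_mulVec, Matrix.add_mulVec, Matrix.smul_mulVec, Matrix.smul_mulVec,
        Matrix.one_mulVec]
  rw [hSeq, spGL_eq, ← Subgroup.comap_inf]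
  apply isMaximalIn_comap
  exact maximal_spfield6 hSp hfr S hS

end Symp6

end Cfsg.Agent.Lib.Helper59_SpUni6
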