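import Mathlib
import Cfsg.Agent.Lib.Helper50_SL2Mat
import Cfsg.Agent.Lib.Helper51_SL2Sub
import Cfsg.Agent.Lib.Helper5_SLCard

set_option autoImplicit false
set_option linter.unusedSectionVars false
set_option linter.unusedVariables false
set_option linter.unusedSimpArgs false

/-!
# S5798 (architect helper59), package SB-DK3: Dickson over `F_3`.
If `Γ ≤ SL(2, F)`, `|F| = 3^r` with `r` odd, contains `tU 1` and `tL θ` with `θ ≠ 0`, `θ^3 ≠ θ`, then `Γ`
contains an irrational upper transvection `tU a`, `a^3 ≠ a`.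
Proof: otherwise `Qs` has three elements; `Helper51_SL2Dich.std_dichotomy_strong` gives index four
(impossible by a computation in `Perm (Fin 4)`) or `60 ∣ |Γ|` (impossible as `5 ∤ |SL(2, 3^r)|`, `r` odd).
-/

namespace Cfsg.Agent.Lib.Helper71_S5798_SB_DK3

open Matrix Cfsg.Agent.Lib.Helper50_SL2Mat Cfsg.Agent.Lib.Helper50_SL2Rep
  Cfsg.Agent.Lib.Helper50_SL2Std Cfsg.Agent.Lib.Helper51_SL2Dich Cfsg.Agent.Lib.Helper51_SL2Sub
open scoped MatrixGroups

set_option maxRecDepth 100000 in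
theorem perm4_cube : ∀ a b : Equiv.Perm (Fin 4), a ^ 3 = 1 → b ^ 3 = 1 →
    (a * b) ^ 2 = 1 ∨ (a * b) ^ 3 = 1 := by
  decide

/-- the same in any `Perm Ω` with `|Ω| = 4` -/
theorem perm_cube_of_card {Ω : Type*} [Finite Ω] (h4 : Nat.card Ω = 4) (a b : Equiv.Perm Ω)
    (ha : a ^ 3 = 1) (hb : b ^ 3 = 1) : (a * b) ^ 2 = 1 ∨ (a * b) ^ 3 = 1 := by
  let e : Ω ≃ Fin 4 := Finite.equivFinOfCardEq h4
  let ψ : Equiv.Perm Ω ≃* Equiv.Perm (Fin 4) := e.permCongrHom
  have ha' : (ψ a) ^ 3 = 1 := by rw [← map_pow, ha, map_one]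
  have hb' : (ψ b) ^ 3 = 1 := by rw [← map_pow, hb, map_one]
  rcases perm4_cube (ψ a) (ψ b) ha' hb' with h | h
  · left
    apply ψ.injective
    rw [map_pow, map_mul, h, map_one]
  · right
    apply ψ.injective
    rw [map_pow, map_mul, h, map_one]

/-- `5 ∤ 3^r (9^r - 1)` for odd `r` -/
theorem not_five_dvd {r : ℕ} (hr : Odd r) : ¬ 5 ∣ 3 ^ r * ((3 ^ r) ^ 2 - 1) := by
  obtain ⟨s, rfl⟩ := hr
  intro h
  rcases (Nat.Prime.dvd_mul (by norm_num : Nat.Prime 5)).mp h with h1 | h1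
  · have := Nat.Prime.dvd_of_dvd_pow (by norm_num : Nat.Prime 5) h1
    omega
  · have e1 : (3 ^ (2 * s + 1)) ^ 2 = 9 * 81 ^ s := by
      rw [← pow_mul]
      have : (2 * s + 1) * 2 = 4 * s + 2 := by ring
      rw [this, pow_add, pow_mul]
      norm_num
      ring
    rw [e1] at h1
    have h81 : 81 ^ s % 5 = 1 := by
      rw [Nat.pow_mod]
      norm_num
    have hpos : 1 ≤ 81 ^ s := Nat.one_le_pow _ _ (by norm_num)
    omega

variable {F : Type*} [Field F]

/-- `|SL(2, q)| = q (q^2 - 1)` (as in `Cfsg.Agent.S2301.card_SL2`) -/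
theorem card_SL2' [Fintype F] [DecidableEq F] :
    Nat.card SL(2, F) = Fintype.card F * (Fintype.card F ^ 2 - 1) := by
  have h1 := Cfsg.Agent.Lib.Helper5_SLCard.card_GL_eq_card_SL_mul (F := F) 2 (by norm_num)
  have h2 := Matrix.card_GL_field (𝔽 := F) 2
  rw [h2, Fin.prod_univ_two] at h1
  simp only [Fin.val_zero, Fin.val_one, pow_zero, pow_one] at h1
  have hq : 2 ≤ Fintype.card F := Fintype.one_lt_card
  set q := Fintype.card F
  have hq1 : 0 < q - 1 := by omega
  have h3 : q ^ 2 - q = q * (q - 1) := by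
    rw [pow_two, Nat.mul_sub, mul_one]
  rw [h3] at h1
  have h4 : (q * (q ^ 2 - 1)) * (q - 1) = Nat.card SL(2, F) * (q - 1) := by
    rw [← h1]; ring
  exact (Nat.eq_of_mul_eq_mul_right hq1 h4).symm

/-- entry `(1,0)` of a conjugate by a lower transvection -/
theorem conj_tL10 (s : F) (C : SL(2, F)) :
    (tL (-s) * C * tL s) 1 0 = C 1 0 - s * (C 0 0 - C 1 1) - s * s * C 0 1 := by
  simp only [mul00, mul01, mul10, mul11, tL00, tL01, tL10, tL11]
  ring

theorem sq01 (θ : F) : ((tU 1 * tL θ) ^ 2 : SL(2, F)) 0 1 = 2 + θ := by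
  rw [pow_two]
  simp only [mul00, mul01, mul10, mul11, tL00, tL01, tL10, tL11, tU00, tU01, tU10, tU11]
  ring

theorem cube01 (θ : F) : ((tU 1 * tL θ) ^ 3 : SL(2, F)) 0 1 = θ ^ 2 + 4 * θ + 3 := by
  rw [pow_succ, pow_two]
  simp only [mul00, mul01, mul10, mul11, tL00, tL01, tL10, tL11, tU00, tU01, tU10, tU11]
  ring

theorem dickson_three [Fintype F] [CharP F 3] {r : ℕ} (hr : Odd r)
    (hF : Fintype.card F = 3 ^ r) {θ : F} (hθ : θ ≠ 0) (hθ3 : θ ^ 3 ≠ θ)
    (Γ : Subgroup SL(2, F)) (hU : tU 1 ∈ Γ) (hL : tL θ ∈ Γ) :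
    ∃ a : F, a ^ 3 ≠ a ∧ tU a ∈ Γ := by
  classical
  by_contra hcon
  push Not at hcon
  have hall : ∀ a : F, tU a ∈ Γ → a ^ 3 = a := fun a ha => by
    by_contra h
    exact hcon a h ha
  have hprime : Fact (Nat.Prime 3) := ⟨by norm_num⟩
  have h3 : (3 : F) = 0 := by
    have := CharP.cast_eq_zero F 3
    exact_mod_cast this
  have h2 : (2 : F) ≠ 0 := by
    intro h
    have h1 : (1 : F) = 0 := by linear_combination h3 - h
    exact one_ne_zero h1
  -- standard position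
  have hstd : Std 3 Γ.subtype (⟨tU 1, hU⟩ : ↥Γ) (⟨tL θ, hL⟩ : ↥Γ) 1 θ :=
    ⟨Γ.subtype_injective, by norm_num, one_ne_zero, hθ, rfl, rfl⟩
  -- `AA Γ = {0, 1, -1}`
  have hAA : AA Γ = {0, 1, -1} := by
    ext a
    constructor
    · intro ha
      have h := hall a ha
      have h' : a * (a - 1) * (a + 1) = 0 := by linear_combination h
      rcases mul_eq_zero.mp h' with h'' | h''
      · rcases mul_eq_zero.mp h'' with h0 | h0
        · left; exact h0
        · right; left; exact sub_eq_zero.mp h0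
      · right; right
        exact eq_neg_of_add_eq_zero_left h''
    · rintro (rfl | rfl | rfl)
      · exact AA_zero
      · exact hU
      · exact AA_neg hU
  have hQ : Nat.card (Qs Γ.subtype) = 3 := by
    rw [card_Qs_eq, hAA, Nat.card_coe_set_eq, Set.ncard_eq_three]
    have d1 : (0 : F) ≠ -1 := by
      intro h
      have : (1 : F) = 0 := by linear_combination h
      exact one_ne_zero this
    have d2 : (1 : F) ≠ -1 := by
      intro h
      have : (2 : F) = 0 := by linear_combination h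
      exact h2 this
    exact ⟨0, 1, -1, zero_ne_one, d1, d2, rfl⟩
  rcases std_dichotomy_strong hstd with hA | ⟨-, -, hB⟩
  · -- index four
    rw [hQ] at hA
    have h4 : Nat.card (↥Γ ⧸ Bn Γ.subtype) = 4 := hA
    let φ : ↥Γ →* Equiv.Perm (↥Γ ⧸ Bn Γ.subtype) := MulAction.toPermHom ↥Γ (↥Γ ⧸ Bn Γ.subtype)
    set u : ↥Γ := ⟨tU 1, hU⟩ with hu
    set v : ↥Γ := ⟨tL θ, hL⟩ with hv
    have hu3 : u ^ 3 = 1 := by
      apply Subtype.ext
      show (tU (1 : F)) ^ 3 = 1
      rw [tU_pow]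
      have : ((3 : ℕ) : F) * 1 = 0 := by push_cast; rw [h3, zero_mul]
      rw [this, tU_zero]
    have hv3 : v ^ 3 = 1 := by
      apply Subtype.ext
      show (tL θ) ^ 3 = 1
      rw [tL_pow]
      have : ((3 : ℕ) : F) * θ = 0 := by push_cast; rw [h3, zero_mul]
      rw [this, tL_zero]
    have hφu : (φ u) ^ 3 = 1 := by rw [← map_pow, hu3, map_one]
    have hφv : (φ v) ^ 3 = 1 := by rw [← map_pow, hv3, map_one]
    -- elements acting trivially have `(0,1)`-entry zero
    have hcore : ∀ c : ↥Γ, φ c = 1 → ((c : SL(2, F))) 0 1 = 0 := by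
      intro c hc
      have hfix : ∀ x : ↥Γ, x⁻¹ * c * x ∈ Bn Γ.subtype := by
        intro x
        have h1 : φ c (x : ↥Γ ⧸ Bn Γ.subtype) = (x : ↥Γ ⧸ Bn Γ.subtype) := by rw [hc]; rfl
        have h2 : ((c * x : ↥Γ) : ↥Γ ⧸ Bn Γ.subtype) = (x : ↥Γ ⧸ Bn Γ.subtype) := h1
        have h3' := QuotientGroup.eq.mp h2
        have h4' := (Bn Γ.subtype).inv_mem h3'
        have e : ((c * x)⁻¹ * x)⁻¹ = x⁻¹ * c * x := by group
        rw [e] at h4'
        exact h4'
      have k1 := hfix 1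
      have k2 := hfix v
      have k3 := hfix v⁻¹
      rw [mem_Bn] at k1 k2 k3
      have e1 : (Γ.subtype (1⁻¹ * c * 1) : SL(2, F)) = (c : SL(2, F)) := by simp
      have e2 : (Γ.subtype (v⁻¹ * c * v) : SL(2, F)) = tL (-θ) * (c : SL(2, F)) * tL θ := by
        simp [hv, tL_inv]
      have e3 : (Γ.subtype (v⁻¹⁻¹ * c * v⁻¹) : SL(2, F)) =
          tL (-(-θ)) * (c : SL(2, F)) * tL (-θ) := by
        simp [hv, tL_inv]
      rw [e1] at k1
      rw [e2, conj_tL10, k1] at k2
      rw [e3, conj_tL10, k1] at k3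
      have h5 : (2 * θ * θ) * ((c : SL(2, F)) 0 1) = 0 := by linear_combination -k2 - k3
      rcases mul_eq_zero.mp h5 with h6 | h6
      · exfalso
        rcases mul_eq_zero.mp h6 with h7 | h7
        · rcases mul_eq_zero.mp h7 with h8 | h8
          · exact h2 h8
          · exact hθ h8
        · exact hθ h7
      · exact h6
    rcases perm_cube_of_card h4 (φ u) (φ v) hφu hφv with h | h
    · have hc : φ ((u * v) ^ 2) = 1 := by rw [map_pow, map_mul, h]
      have h01 := hcore _ hc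
      have e : (((u * v) ^ 2 : ↥Γ) : SL(2, F)) = (tU 1 * tL θ) ^ 2 := by simp [hu, hv]
      rw [e, sq01] at h01
      apply hθ3
      linear_combination θ * (θ + 1) * h01 - θ * (θ + 1) * h3
    · have hc : φ ((u * v) ^ 3) = 1 := by rw [map_pow, map_mul, h]
      have h01 := hcore _ hc
      have e : (((u * v) ^ 3 : ↥Γ) : SL(2, F)) = (tU 1 * tL θ) ^ 3 := by simp [hu, hv]
      rw [e, cube01] at h01
      apply hθ3
      linear_combination (θ - 1) * h01 - (θ - 1) * (θ + 1) * h3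
  · -- `60 ∣ |Γ|`
    have h5 : 5 ∣ Nat.card ↥Γ := by
      rw [hB]
      exact Dvd.dvd.mul_right (by norm_num) _
    have hdvd : Nat.card ↥Γ ∣ Nat.card SL(2, F) := Subgroup.card_subgroup_dvd_card Γ
    have hcard : Nat.card SL(2, F) = Fintype.card F * (Fintype.card F ^ 2 - 1) :=
      card_SL2'
    rw [hcard, hF] at hdvd
    exact not_five_dvd hr (dvd_trans h5 hdvd)

end Cfsg.Agent.Lib.Helper71_S5798_SB_DK3
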