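import Mathlib
import Cfsg.Agent.Lib.Helper98_SubfTS
import Cfsg.Agent.Lib.Helper50_SL2Mat
import Cfsg.Agent.Lib.Helper10_S5798_SB_DK5
import Cfsg.Agent.Lib.Helper10_S5798_SB_EMB
import Cfsg.Agent.Lib.Helper32_S5798_SB_ENT
import Cfsg.Agent.Lib.Helper71_S5798_SB_DK3

set_option autoImplicit false
set_option linter.unusedSectionVars false
set_option linter.unusedVariables false

/-!
# Overgroups of the subfield group without irrational elementary transvections: odd characteristic (helper59)

`Helper98_SubfInv.le_PR` (dihedral argument) needs seven coordinates.  Here a different route, valid in every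
dimension at least three, odd characteristic and odd degree: DICKSON.  For `k ∈ K`, the rational transvection
groups `{1 + b x ⊗ ξ}` and their `k`-conjugates `{1 + a y ⊗ η}` generate on the plane `<y, x>` the group
`<U(F₀), L(θ F₀)>`, `θ = (η·x)(ξ·y)`.  If `θ ∉ F₀`, Dickson's theorem (S5060 for `|F₀| ≠ 3`, the dichotomy of
helper51 for `|F₀| = 3`) produces an irrational elementary transvection in `K`; if `θ ∈ F₀` for all choices then
all entries of `k` lie in one class `c F₀`.  Packages by helper10, helper32, helper71.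
-/

namespace Cfsg.Agent.Lib.Helper59_SubfOdd

open Matrix Cfsg.Agent.Lib.Helper50_SL2Mat
open scoped MatrixGroups
open Cfsg.Agent.Lib.Helper10_S5798_SB_DK5 Cfsg.Agent.Lib.Helper10_S5798_SB_EMB
  Cfsg.Agent.Lib.Helper32_S5798_SB_ENT Cfsg.Agent.Lib.Helper71_S5798_SB_DK3

section GLUE

open Cfsg.Agent.Lib.Helper98_MonoBase Cfsg.Agent.Lib.Helper98_MonoG
  Cfsg.Agent.Lib.Helper98_SubfBase Cfsg.Agent.Lib.Helper98_SubfU Cfsg.Agent.Lib.Helper98_SubfTS

variable {F : Type*} [Field F] [Fintype F] {ι : Type} [Fintype ι] [DecidableEq ι] {F₀ : Subfield F}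

/-- the elements of `F₀` are the roots of `X^3 - X` when `|F₀| = 3` -/
lemma mem_of_cube (h3 : Nat.card F₀ = 3) {a : F} (ha : a ^ 3 = a) : a ∈ F₀ := by
  classical
  by_contra hna
  have : Fintype F₀ := Fintype.ofFinite _
  -- the roots of `X^3 - X`
  let P : Polynomial F := Polynomial.X ^ 3 - Polynomial.X
  have hP0 : P ≠ 0 := by
    intro h
    have := congrArg (fun q => Polynomial.coeff q 3) h
    simp [P, Polynomial.coeff_X] at this
  have hdeg : P.natDegree ≤ 3 := by
    simp only [P]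
    compute_degree
  have hroot : ∀ b : F, b ^ 3 = b → b ∈ P.roots.toFinset := by
    intro b hb
    rw [Multiset.mem_toFinset, Polynomial.mem_roots hP0]
    simp [P, hb]
  have hF₀root : ∀ b : F₀, (b : F) ^ 3 = b := by
    intro b
    have h := FiniteField.pow_card b
    rw [← Nat.card_eq_fintype_card, h3] at h
    exact_mod_cast congrArg (fun x : F₀ => (x : F)) h
  have hsub : insert a (Finset.univ.image (fun b : F₀ => (b : F))) ⊆ P.roots.toFinset := by
    intro b hb
    rcases Finset.mem_insert.mp hb with rfl | hb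
    · exact hroot _ ha
    · obtain ⟨c, -, rfl⟩ := Finset.mem_image.mp hb
      exact hroot _ (hF₀root c)
  have hcard1 : (insert a (Finset.univ.image (fun b : F₀ => (b : F)))).card = 4 := by
    rw [Finset.card_insert_of_notMem, Finset.card_image_of_injective _ Subtype.val_injective,
      Finset.card_univ, ← Nat.card_eq_fintype_card, h3]
    intro hb
    obtain ⟨c, -, hc⟩ := Finset.mem_image.mp hb
    exact hna (hc ▸ c.2)
  have hcard2 : P.roots.toFinset.card ≤ 3 :=
    (Multiset.toFinset_card_le _).trans ((Polynomial.card_roots' P).trans hdeg)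
  have := Finset.card_le_card hsub
  omega

/-- **Overgroups of the rational special linear group with no irrational elementary transvection
are projectively rational** (odd characteristic, odd prime degree, any dimension at least three). -/
theorem le_PR_odd (hn : 3 ≤ Fintype.card ι) {K : Subgroup (GL ι F)} (hK : HypS F₀ K)
    (h2 : (2 : F) ≠ 0) (hodd : Odd (Module.finrank F₀ F)) :
    ∀ k ∈ K, PRat F₀ (k : Matrix ι ι F) := by
  classical
  intro k hk
  apply prat_of_products hK hn hk
  intro i j a b hij hab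
  by_cases hz1 : ((k⁻¹ : GL ι F) : Matrix ι ι F) b i = 0
  · rw [hz1, zero_mul]; exact F₀.zero_mem
  by_cases hz2 : (k : Matrix ι ι F) j a = 0
  · rw [hz2, mul_zero]; exact F₀.zero_mem
  -- the data
  set x : ι → F := Pi.single i 1 with hx
  set ξ : ι → F := Pi.single j 1 with hξ
  set y : ι → F := (k : Matrix ι ι F) *ᵥ (Pi.single a 1 : ι → F) with hy
  set η : ι → F := (Pi.single b 1 : ι → F) ᵥ* ((k⁻¹ : GL ι F) : Matrix ι ι F) with hη
  have hξx : ξ ⬝ᵥ x = 0 := single_dot_single hij
  have hηx : η ⬝ᵥ x = ((k⁻¹ : GL ι F) : Matrix ι ι F) b i := by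
    rw [hη, hx, dotProduct_single, mul_one, Matrix.single_vecMul, one_smul]
    rfl
  have hξy : ξ ⬝ᵥ y = (k : Matrix ι ι F) j a := by
    rw [hξ, hy, single_dotProduct, one_mul, mulVec_single_one_apply]
  have hηy : η ⬝ᵥ y = 0 := by
    rw [hη, hy, dot_conj]
    exact single_dot_single hab
  set θ : F := (η ⬝ᵥ x) * (ξ ⬝ᵥ y) with hθdef
  have hθ0 : θ ≠ 0 := by
    rw [hθdef, hηx, hξy]
    exact mul_ne_zero hz1 hz2
  have hηx0 : η ⬝ᵥ x ≠ 0 := by rw [hηx]; exact hz1
  rw [← hηx, ← hξy]
  change θ ∈ F₀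
  by_contra hθ
  -- the root groups in `K`
  have hR : ∀ c ∈ F₀, Pc K c y η := by
    intro c hc
    exact (rat_pc hK.toR hc (ratV_single_one a) (ratV_single_one b)
      (single_dot_single hab)).conj hk
  have hR' : ∀ c ∈ F₀, Pc K c x ξ := by
    intro c hc
    exact rat_pc hK.toR hc (ratV_single_one i) (ratV_single_one j) hξx
  -- the plane embedding
  obtain ⟨φ, hφU, hφL⟩ := exists_emb ((η ⬝ᵥ x) • y) x (θ⁻¹ • ξ) ((η ⬝ᵥ x)⁻¹ • η)
    (by rw [smul_dotProduct, dotProduct_smul, smul_eq_mul, smul_eq_mul]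
        exact inv_mul_cancel₀ hθ0)
    (by rw [smul_dotProduct, hξx, smul_zero])
    (by rw [smul_dotProduct, dotProduct_smul, hηy, smul_zero, smul_zero])
    (by rw [smul_dotProduct, smul_eq_mul, inv_mul_cancel₀ hηx0])
  have hφU' : ∀ c : F, ((φ (tU c) : GL ι F) : Matrix ι ι F) = 1 + c • vecMulVec y η := by
    intro c
    rw [hφU, smul_vecMulVec, vecMulVec_smul, smul_smul, smul_smul, mul_assoc,
      mul_inv_cancel₀ hηx0, mul_one]
  have hφL' : ∀ c : F, ((φ (tL c) : GL ι F) : Matrix ι ι F) = 1 + (c * θ⁻¹) • vecMulVec x ξ := by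
    intro c
    rw [hφL, vecMulVec_smul, smul_smul]
  set Γ : Subgroup SL(2, F) := K.comap φ with hΓ
  have hΓU : ∀ c ∈ F₀, tU c ∈ Γ := by
    intro c hc
    obtain ⟨u, hu, huv⟩ := hR c hc
    rw [hΓ, Subgroup.mem_comap]
    have : φ (tU c) = u := Units.ext (by rw [hφU', huv])
    rw [this]; exact hu
  have hΓL : ∀ c ∈ F₀, tL (c * θ) ∈ Γ := by
    intro c hc
    obtain ⟨u, hu, huv⟩ := hR' c hc
    rw [hΓ, Subgroup.mem_comap]
    have : φ (tL (c * θ)) = u := Units.ext (by
      rw [hφL', huv, mul_assoc, mul_inv_cancel₀ hθ0, mul_one])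
    rw [this]; exact hu
  by_cases h3 : Nat.card F₀ = 3
  · -- the field with three elements
    have : Fintype F₀ := Fintype.ofFinite _
    have hcardF : Fintype.card F = 3 ^ Module.finrank F₀ F := by
      rw [Module.card_eq_pow_finrank (K := F₀) (V := F), ← Nat.card_eq_fintype_card (α := F₀), h3]
    have hchar : CharP F 3 := by
      obtain ⟨p, hp⟩ := CharP.exists F
      have hpp : Fact p.Prime := ⟨CharP.char_is_prime F p⟩
      obtain ⟨n, hpr, hn⟩ := FiniteField.card F p
      have h1 : (p : ℕ) ^ (n : ℕ) = 3 ^ Module.finrank F₀ F := by rw [← hn, hcardF]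
      have hpd : p ∣ 3 ^ Module.finrank F₀ F := by
        rw [← h1]
        exact dvd_pow_self p n.ne_zero
      have : p = 3 := (Nat.prime_dvd_prime_iff_eq hpr Nat.prime_three).mp
        (hpr.dvd_of_dvd_pow hpd)
      rw [← this]; exact hp
    have hθ3 : θ ^ 3 ≠ θ := fun h => hθ (mem_of_cube h3 h)
    obtain ⟨c, hc3, hcΓ⟩ := dickson_three hodd hcardF hθ0 hθ3 Γ (hΓU 1 F₀.one_mem)
      (by have := hΓL 1 F₀.one_mem; rwa [one_mul] at this)
    apply hc3
    have hcF₀ : c ∈ F₀ := by
      rw [hΓ, Subgroup.mem_comap] at hcΓ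
      have h1 : Pc K c y η := ⟨φ (tU c), hcΓ, hφU' c⟩
      have h4 := h1.conj (K.inv_mem hk)
      have e1 : ((k⁻¹ : GL ι F) : Matrix ι ι F) *ᵥ y = Pi.single a 1 := by
        rw [hy]; exact inv_mulVec_mulVec k _
      have e2 : η ᵥ* (((k⁻¹)⁻¹ : GL ι F) : Matrix ι ι F) = Pi.single b 1 := by
        rw [hη, inv_inv, vecMul_vecMul, ← Units.val_mul, inv_mul_cancel, Units.val_one, vecMul_one]
      rw [e1, e2] at h4
      exact hK.no_irr a b hab c h4
    have : Fintype F₀ := Fintype.ofFinite _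
    have h := FiniteField.pow_card (⟨c, hcF₀⟩ : F₀)
    rw [← Nat.card_eq_fintype_card, h3] at h
    have h' := congrArg (fun z : F₀ => (z : F)) h
    simpa using h'
  · -- at least five elements
    have h5 := dickson_big F₀ h2 h3 hθ0 Γ hΓU hΓL
    rw [hΓ, Subgroup.mem_comap] at h5
    have h1 : Pc K θ x ξ := by
      refine ⟨φ (tL (θ * θ)), h5, ?_⟩
      rw [hφL', mul_assoc, mul_inv_cancel₀ hθ0, mul_one]
    exact hθ (hK.no_irr i j hij θ h1)

end GLUE

end Cfsg.Agent.Lib.Helper59_SubfOdd
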