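import Mathlib
import Cfsg.Prelude.Def_GeometricClasses
import Cfsg.Agent.Lib.Helper98_MonoBase
import Cfsg.Agent.Lib.Helper98_MonoG
import Cfsg.Agent.Lib.Helper98_MonoTop
import Cfsg.Agent.Lib.Helper98_SubfBase
import Cfsg.Agent.Lib.Helper98_SubfU
import Cfsg.Agent.Lib.Helper98_SubfTS
import Cfsg.Agent.Lib.Helper98_SubfInv

set_option autoImplicit false
set_option linter.unusedSectionVars false
set_option linter.unusedSimpArgs false
set_option linter.unusedVariables false
set_option linter.style.haveILetI false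

/-!
The dihedral argument of `Helper98_SubfInv.le_PR` in characteristic two needs only five
coordinates (two disjoint transvections and one more coordinate).  Used for `SL_6` and `SL_5`.
-/

namespace Cfsg.Agent.Lib.Helper59_SubfTwo

open Matrix Cfsg.Agent.Lib.Helper98_MonoBase Cfsg.Agent.Lib.Helper98_MonoG
  Cfsg.Agent.Lib.Helper98_SubfBase Cfsg.Agent.Lib.Helper98_SubfU Cfsg.Agent.Lib.Helper98_SubfTS
  Cfsg.Agent.Lib.Helper98_SubfInv

variable {F : Type*} [Field F] [Fintype F] {F₀ : Subfield F}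

/-- **Characteristic two, at least five coordinates**: an overgroup of the rational special
linear group without irrational elementary transvections consists of projectively rational
matrices. -/
theorem le_PR_two {n : ℕ} (hn : 5 ≤ n) {K : Subgroup (GL (Fin n) F)} (hK : HypS F₀ K)
    (h2 : (2 : F) = 0)
    (hdeg : Module.finrank F₀ F < n ∨ ∀ ν : F, ν * ν ∈ F₀ → ν ∈ F₀) :
    ∀ k ∈ K, PRat F₀ (k : Matrix (Fin n) (Fin n) F) := by
  classical
  have hcard : Fintype.card (Fin n) = n := Fintype.card_fin n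
  have hn3 : 3 ≤ Fintype.card (Fin n) := by omega
  rcases hdeg with hdeg | hsq
  · intro k hk
    exact prat_of_finrank_lt hK hn3 (by rw [hcard]; exact hdeg) hk
  intro k hk
  by_contra hknot
  haveI : Finite (GL (Fin n) F) := Finite.of_injective Units.val Units.val_injective
  set i0 : Fin n := ⟨0, by omega⟩ with hi0
  set i1 : Fin n := ⟨1, by omega⟩ with hi1
  set i2 : Fin n := ⟨2, by omega⟩ with hi2
  set i3 : Fin n := ⟨3, by omega⟩ with hi3
  set i4 : Fin n := ⟨4, by omega⟩ with hi4
  have h01 : i0 ≠ i1 := by simp [hi0, hi1, Fin.ext_iff]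
  have h02 : i0 ≠ i2 := by simp [hi0, hi2, Fin.ext_iff]
  have h03 : i0 ≠ i3 := by simp [hi0, hi3, Fin.ext_iff]
  have h12 : i1 ≠ i2 := by simp [hi1, hi2, Fin.ext_iff]
  have h13 : i1 ≠ i3 := by simp [hi1, hi3, Fin.ext_iff]
  have h23 : i2 ≠ i3 := by simp [hi2, hi3, Fin.ext_iff]
  have h04 : i0 ≠ i4 := by simp [hi0, hi4, Fin.ext_iff]
  have h24 : i2 ≠ i4 := by simp [hi2, hi4, Fin.ext_iff]
  have hneg1 : (-1 : F) = 1 := by
    have : (1 : F) + 1 = 0 := by rw [one_add_one_eq_two]; exact h2
    exact neg_eq_of_add_eq_zero_left this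
  set a : GL (Fin n) F := tvU (Pi.single i0 1) (Pi.single i1 1) (single_dot_single h01) with ha
  set a' : GL (Fin n) F := tvU (Pi.single i2 1) (Pi.single i3 1) (single_dot_single h23)
    with ha'
  have haa : a * a = 1 := tvU_mul_self h2 _ _ _
  have ha'a' : a' * a' = 1 := tvU_mul_self h2 _ _ _
  have hXX' : vecMulVec (Pi.single i0 (1 : F) : Fin n → F) (Pi.single i1 1) *
      vecMulVec (Pi.single i2 (1 : F) : Fin n → F) (Pi.single i3 1) = 0 := by
    rw [vecMulVec_mul_vecMulVec, single_dot_single (Ne.symm h12), zero_smul, vecMulVec_zero]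
  have hX'X : vecMulVec (Pi.single i2 (1 : F) : Fin n → F) (Pi.single i3 1) *
      vecMulVec (Pi.single i0 (1 : F) : Fin n → F) (Pi.single i1 1) = 0 := by
    rw [vecMulVec_mul_vecMulVec, single_dot_single h03, zero_smul, vecMulVec_zero]
  have hcomm : a * a' = a' * a := by
    apply Units.ext
    rw [Units.val_mul, Units.val_mul, ha, ha', tvU_val, tvU_val, add_mul, one_mul, mul_add,
      mul_one, hXX', add_mul, one_mul, mul_add, mul_one, hX'X]
    abel
  have ha₂val : ((a * a' : GL (Fin n) F) : Matrix (Fin n) (Fin n) F) - 1 =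
      vecMulVec (Pi.single i0 (1 : F) : Fin n → F) (Pi.single i1 1) +
        vecMulVec (Pi.single i2 (1 : F) : Fin n → F) (Pi.single i3 1) := by
    rw [Units.val_mul, ha, ha', tvU_val, tvU_val, add_mul, one_mul, mul_add, mul_one, hXX']
    abel
  have haval : (a : Matrix (Fin n) (Fin n) F) - 1 =
      vecMulVec (Pi.single i0 (1 : F) : Fin n → F) (Pi.single i1 1) := by
    rw [ha, tvU_val, add_sub_cancel_left]
  have ha₂a₂ : (a * a') * (a * a') = 1 := by
    calc (a * a') * (a * a') = a * (a' * a) * a' := by group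
      _ = a * (a * a') * a' := by rw [hcomm]
      _ = (a * a) * (a' * a') := by group
      _ = 1 := by rw [haa, ha'a', mul_one]
  have hbb : (k * (a * a') * k⁻¹) * (k * (a * a') * k⁻¹) = 1 := by
    calc (k * (a * a') * k⁻¹) * (k * (a * a') * k⁻¹)
        = k * ((a * a') * (a * a')) * k⁻¹ := by group
      _ = 1 := by rw [ha₂a₂]; group
  have haK : a ∈ K := tvU_mem hK.toR (ratV_single_one _) (ratV_single_one _) _
  have ha'K : a' ∈ K := tvU_mem hK.toR (ratV_single_one _) (ratV_single_one _) _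
  have hbK : k * (a * a') * k⁻¹ ∈ K :=
    K.mul_mem (K.mul_mem hk (K.mul_mem haK ha'K)) (K.inv_mem hk)
  have hzp : Subgroup.zpowers (a * (k * (a * a') * k⁻¹)) ≤ K :=
    Subgroup.zpowers_le.mpr (K.mul_mem haK hbK)
  -- data for `prat_of_comm`
  have hd1 : ((a : Matrix (Fin n) (Fin n) F) - 1) *ᵥ (Pi.single i1 1 : Fin n → F) =
      (1 : F) • Pi.single i0 1 := by
    rw [haval, vmv_mulVec, single_dotProduct, one_mul, Pi.single_eq_same]
  have hd2 : (Pi.single i4 1 : Fin n → F) ᵥ* ((a : Matrix (Fin n) (Fin n) F) - 1) = 0 := by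
    rw [haval, vecMul_vmv, single_dot_single h04, zero_smul]
  have hd3 : (((a * a' : GL (Fin n) F) : Matrix (Fin n) (Fin n) F) - 1) *ᵥ
      (Pi.single i1 1 : Fin n → F) = (1 : F) • Pi.single i0 1 := by
    rw [ha₂val, add_mulVec, vmv_mulVec, vmv_mulVec, single_dotProduct, one_mul,
      Pi.single_eq_same, single_dot_single h13, zero_smul, add_zero]
  have hd4 : (Pi.single i4 1 : Fin n → F) ᵥ*
      (((a * a' : GL (Fin n) F) : Matrix (Fin n) (Fin n) F) - 1) = 0 := by
    rw [ha₂val, vecMul_add, vecMul_vmv, vecMul_vmv, single_dot_single h04,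
      single_dot_single h24, zero_smul, zero_smul, add_zero]
  rcases dihedral a (k * (a * a') * k⁻¹) 1 haa hbb (fun g => by rw [one_mul, mul_one])
    (one_mul 1) with ⟨g, hg, hconj⟩ | ⟨hε, -⟩ | ⟨z, hz, hz1, -, hz2, hza, hzb⟩
  · have hconj' : g * a * g⁻¹ = k * (a * a') * k⁻¹ := by
      rcases hconj with h | h
      · exact h
      · rw [h, one_mul]
    have hconj2 : (k⁻¹ * g) * a * (k⁻¹ * g)⁻¹ = a * a' := by
      calc (k⁻¹ * g) * a * (k⁻¹ * g)⁻¹ = k⁻¹ * (g * a * g⁻¹) * k := by group
        _ = a * a' := by rw [hconj']; group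
    have h1 := sub_one_conj hconj2
    rw [ha₂val, haval, Matrix.mul_vecMulVec, Matrix.vecMulVec_mul] at h1
    have e1 := congrFun (congrFun h1 i0) i1
    have e2 := congrFun (congrFun h1 i2) i3
    have e3 := congrFun (congrFun h1 i0) i3
    simp only [Matrix.add_apply, vecMulVec_apply, Pi.single_eq_same,
      Pi.single_eq_of_ne h02, Pi.single_eq_of_ne (Ne.symm h02), Pi.single_eq_of_ne h13,
      Pi.single_eq_of_ne (Ne.symm h13), mul_one, mul_zero, zero_mul, add_zero, zero_add]
      at e1 e2 e3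
    have hu : ((((k⁻¹ * g : GL (Fin n) F)) : Matrix (Fin n) (Fin n) F) *ᵥ
        (Pi.single i0 1 : Fin n → F)) i0 ≠ 0 := by
      intro h0
      rw [h0, zero_mul] at e1
      exact one_ne_zero e1
    have hw : ((Pi.single i1 1 : Fin n → F) ᵥ*
        ((((k⁻¹ * g)⁻¹ : GL (Fin n) F)) : Matrix (Fin n) (Fin n) F)) i3 ≠ 0 := by
      intro h0
      rw [h0, mul_zero] at e2
      exact one_ne_zero e2
    exact mul_ne_zero hu hw e3.symm
  · exact hε rfl
  · have hzK : z ∈ K := hzp hz
    have hzH := prat_of_comm hK hn3 hzK hza one_ne_zero hd1 hd2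
    have hz'K : k⁻¹ * z * k ∈ K := K.mul_mem (K.mul_mem (K.inv_mem hk) hzK) hk
    have hz'H := prat_of_comm hK hn3 hz'K (conj_comm hzb) one_ne_zero hd3 hd4
    have hzm : (z : Matrix (Fin n) (Fin n) F) ≠ -1 := by
      intro h0
      apply hz1
      apply Units.ext
      rw [h0, Units.val_one]
      have : (-1 : Matrix (Fin n) (Fin n) F) = (-1 : F) • 1 := by simp
      rw [this, hneg1, one_smul]
    exact gamma hK hn3 hsq hk hknot hz2 hz1 hzm hzH hz'H

end Cfsg.Agent.Lib.Helper59_SubfTwo
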