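import Mathlib
import Cfsg.Agent.Lib.Helper65_U3Defs

set_option autoImplicit false
set_option linter.unusedSectionVars false
set_option linter.unusedVariables false

open Cfsg.Agent.Lib.Helper65_U3Defs

namespace Cfsg.Agent.Lib.Helper59_U3A_S4AQ8aux

/-- Pure Sylow counting for a group of order `12312 = 2^3 * 3^4 * 19`: either a normal subgroup of order `19`,
or an element `s` of order `19` and an involution `τ` normalising `⟨s⟩`. -/
theorem sylow19 {K : Type*} [Group K] [Finite K] (hK : Nat.card K = 12312) :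
    (∃ S : Subgroup K, S.Normal ∧ Nat.card ↥S = 19) ∨
    (∃ s τ : K, orderOf s = 19 ∧ orderOf τ = 2 ∧ ∃ k : ℤ, τ * s * τ⁻¹ = s ^ k) := by
  have hp19 : Fact (Nat.Prime 19) := ⟨by norm_num⟩
  obtain ⟨P⟩ : Nonempty (Sylow 19 K) := inferInstance
  -- |P| = 19
  have hPcard : Nat.card ↥(P : Subgroup K) = 19 := by
    obtain ⟨n, hn⟩ := (P.isPGroup').exists_card_eq
    have hdvd : Nat.card ↥(P : Subgroup K) ∣ 12312 := by
      rw [← hK]; exact Subgroup.card_subgroup_dvd_card _
    have h19 : 19 ∣ Nat.card ↥(P : Subgroup K) := by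
      apply P.dvd_card_of_dvd_card
      rw [hK]; norm_num
    rw [hn] at hdvd h19 ⊢
    have hn0 : n ≠ 0 := by
      rintro rfl
      norm_num at h19
    have hn1 : n < 2 := by
      by_contra hcon
      push Not at hcon
      have : 19 ^ 2 ∣ 12312 := (pow_dvd_pow 19 hcon).trans hdvd
      norm_num at this
    have : n = 1 := by omega
    rw [this, pow_one]
  -- the normaliser
  have hN1 : Nat.card (Sylow 19 K) = (Subgroup.normalizer ((P : Subgroup K) : Set K)).index :=
    Sylow.card_eq_index_normalizer P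
  have hmod : Nat.card (Sylow 19 K) ≡ 1 [MOD 19] := card_sylow_modEq_one 19 K
  have hmul : Nat.card ↥(Subgroup.normalizer ((P : Subgroup K) : Set K)) * (Subgroup.normalizer ((P : Subgroup K) : Set K)).index = 12312 := by
    rw [← hK]; exact Subgroup.card_mul_index _
  have h19N : 19 ∣ Nat.card ↥(Subgroup.normalizer ((P : Subgroup K) : Set K)) := by
    have := Subgroup.card_dvd_of_le (Subgroup.le_normalizer (H := (P : Subgroup K)))
    rwa [hPcard] at this
  obtain ⟨m, hm⟩ := h19N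
  obtain ⟨n, hn⟩ : ∃ n, n = (Subgroup.normalizer ((P : Subgroup K) : Set K)).index := ⟨_, rfl⟩
  rw [← hn] at hmul
  rw [hN1, ← hn] at hmod
  rw [hm] at hmul
  have hnm : m * n = 648 := by
    have : 19 * (m * n) = 19 * 648 := by rw [← mul_assoc]; exact hmul
    exact Nat.eq_of_mul_eq_mul_left (by norm_num) this
  have hmod' : n % 19 = 1 := hmod
  have hnle : n ≤ 648 := by
    apply Nat.le_of_dvd (by norm_num)
    exact ⟨m, by rw [← hnm, mul_comm]⟩
  have hcases : n = 1 ∨ n = 324 := by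
    obtain ⟨j, hj⟩ : ∃ j, n = 19 * j + 1 := ⟨n / 19, by omega⟩
    have hjle : j ≤ 34 := by omega
    have hndvd : n ∣ 648 := ⟨m, by rw [← hnm, mul_comm]⟩
    subst hj
    interval_cases j <;> first | (left; rfl) | (right; rfl) | (exfalso; revert hndvd; decide)
  rcases hcases with h1 | h324
  · left
    refine ⟨(P : Subgroup K), ?_, hPcard⟩
    have : (Subgroup.normalizer ((P : Subgroup K) : Set K)) = ⊤ := by
      rw [← Subgroup.index_eq_one, ← hn, h1]
    exact Subgroup.normalizer_eq_top_iff.mp this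
  · right
    have hm2 : m = 2 := by
      rw [h324] at hnm; omega
    have hNcard : Nat.card ↥(Subgroup.normalizer ((P : Subgroup K) : Set K)) = 38 := by rw [hm, hm2]
    have hp2 : Fact (Nat.Prime 2) := ⟨Nat.prime_two⟩
    obtain ⟨τ0, hτ0⟩ := exists_prime_orderOf_dvd_card' (G := ↥(Subgroup.normalizer ((P : Subgroup K) : Set K))) 2
      (by rw [hNcard]; norm_num)
    -- generator of P
    have hone : 1 < Nat.card ↥(P : Subgroup K) := by rw [hPcard]; norm_num
    have hfin : Finite ↥(P : Subgroup K) := inferInstance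
    obtain ⟨s0, hs0⟩ : ∃ s0 : ↥(P : Subgroup K), s0 ≠ 1 := by
      have := Finite.one_lt_card_iff_nontrivial.mp hone
      exact exists_ne 1
    have hs0ord : orderOf s0 = 19 := by
      have hd : orderOf s0 ∣ 19 := by
        have := orderOf_dvd_natCard s0
        rwa [hPcard] at this
      rcases (Nat.dvd_prime (by norm_num)).mp hd with h | h
      · exact absurd (orderOf_eq_one_iff.mp h) hs0
      · exact h
    have hsord : orderOf (s0 : K) = 19 := by rw [Subgroup.orderOf_coe]; exact hs0ord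
    have hzp : Subgroup.zpowers (s0 : K) = (P : Subgroup K) := by
      apply Subgroup.eq_of_le_of_card_ge
      · rw [Subgroup.zpowers_le]; exact s0.2
      · rw [Nat.card_zpowers, hsord, hPcard]
    refine ⟨(s0 : K), (τ0 : K), hsord, by rw [Subgroup.orderOf_coe]; exact hτ0, ?_⟩
    have hmem : (τ0 : K) * (s0 : K) * (τ0 : K)⁻¹ ∈ (P : Subgroup K) :=
      (Subgroup.mem_normalizer_iff.mp τ0.2 (s0 : K)).mp s0.2
    have hmem' : (τ0 : K) * (s0 : K) * (τ0 : K)⁻¹ ∈ Subgroup.zpowers (s0 : K) := by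
      rw [hzp]; exact hmem
    obtain ⟨k, hk⟩ := Subgroup.mem_zpowers_iff.mp hmem'
    exact ⟨k, hk.symm⟩

variable {p q : ℕ} {F G U : Type*} [Field F] [Group G] [MulAction G U]
variable {D : U3Data p q F G U} {H : Subgroup G}

/-- **S4AQ8**, with the needed earlier packages as explicit hypotheses. -/
theorem step4A_q8_aux (hG : Good D H) (hq : q = 8) (hr : Nat.card ↥(H ⊓ D.Q) = 8)
    (ht : Nat.card ↥(H ⊓ D.T) = 3)
    (hcT : Nat.card ↥D.T * Nat.gcd 3 (q + 1) = q ^ 2 - 1)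
    (hcH : Nat.card ↥H = (q ^ 3 + 1) * (Nat.card ↥(H ⊓ D.Q) * Nat.card ↥(H ⊓ D.T)))
    (hconj : ∀ g ∈ H, ∀ n : ℕ, g ^ (p ^ n) = 1 → ∃ h ∈ H, h * g * h⁻¹ ∈ H ⊓ D.Q)
    (hnormal : ∀ l : ℕ, l.Prime → ¬ l ∣ q ^ 3 * Nat.card ↥D.T → ∀ S : Subgroup G, S ≤ H →
      Nat.card ↥S = l → (∀ h ∈ H, ∀ s ∈ S, h * s * h⁻¹ ∈ S) → Nat.card ↥(H ⊓ D.Q) ∣ l - 1)
    (hfixc : ∀ g z : G, z ∈ D.Qat g → z ≠ 1 → ∀ s : G, s * z = z * s →
      s • (g • D.u) = g • D.u)
    (hord : ∀ (s : G) (w : U), s • w = w → orderOf s ∣ q ^ 3 * Nat.card ↥D.T)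
    (hblk : ∀ (s g : G) (l : ℕ), l.Prime → orderOf s = l → q + 1 < l →
      (∀ v ∈ D.Blk, (g⁻¹ * s * g) • v ∈ D.Blk) → l ∣ q ^ 3 * Nat.card ↥D.T)
    (hZat : ∀ n : G, n • D.u ∈ D.Blk → ∀ z ∈ D.Zat n, ∀ v ∈ D.Blk, z • v ∈ D.Blk)
    (hxsq : p = 2 → ∀ a b : F, Rel q a b → D.x a b * D.x a b = D.x 0 (a * a ^ q))
    (hxinj : ∀ a b a' b' : F, Rel q a b → Rel q a' b' → D.x a b = D.x a' b' →
      a = a' ∧ b = b') : False := by
  have := D.finG
  subst hq
  -- p = 2
  have hp2 : p = 2 := by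
    have hpd : p ∣ 8 := by
      have h := D.hq
      rw [h]
      exact dvd_pow_self p D.hk.ne'
    have : p ∣ 2 ^ 3 := by norm_num; exact hpd
    have := D.hp.dvd_of_dvd_pow this
    exact (Nat.prime_dvd_prime_iff_eq D.hp Nat.prime_two).mp this
  have hT21 : Nat.card ↥D.T = 21 := by
    have h3 : Nat.gcd 3 (8 + 1) = 3 := by norm_num
    rw [h3] at hcT
    norm_num at hcT
    omega
  have hB : 8 ^ 3 * Nat.card ↥D.T = 10752 := by rw [hT21]; norm_num
  have h19B : ¬ 19 ∣ 8 ^ 3 * Nat.card ↥D.T := by rw [hB]; norm_num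
  have hHcard : Nat.card ↥H = 12312 := by rw [hcH, hr, ht]; norm_num
  have hprime19 : Nat.Prime 19 := by norm_num
  -- no element of order 19 fixes a point
  have hnofix : ∀ s : G, orderOf s = 19 → ∀ w : U, s • w ≠ w := by
    intro s hs w hw
    have := hord s w hw
    rw [hs] at this
    exact h19B this
  have hfinH : Finite ↥H := inferInstance
  rcases sylow19 (K := ↥H) hHcard with ⟨S, hSn, hScard⟩ | ⟨s0, τ0, hs0, hτ0, k, hk⟩
  · -- normal Sylow 19-subgroup
    have hdvd := hnormal 19 hprime19 h19B (S.map H.subtype) (Subgroup.map_subtype_le S)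
      (by rw [Subgroup.card_subtype]; exact hScard)
      (by
        intro h hh s hs
        obtain ⟨s1, hs1, rfl⟩ := Subgroup.mem_map.mp hs
        refine Subgroup.mem_map.mpr ⟨⟨h, hh⟩ * s1 * ⟨h, hh⟩⁻¹, hSn.conj_mem s1 hs1 ⟨h, hh⟩, ?_⟩
        simp)
    rw [hr] at hdvd
    norm_num at hdvd
  · -- an involution τ normalising ⟨s⟩
    obtain ⟨s, hsdef⟩ : ∃ s : G, s = (s0 : G) := ⟨_, rfl⟩
    obtain ⟨τ, hτdef⟩ : ∃ τ : G, τ = (τ0 : G) := ⟨_, rfl⟩
    have hsH : s ∈ H := by rw [hsdef]; exact s0.2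
    have hτH : τ ∈ H := by rw [hτdef]; exact τ0.2
    have hs : orderOf s = 19 := by rw [hsdef, Subgroup.orderOf_coe]; exact hs0
    have hτ : orderOf τ = 2 := by rw [hτdef, Subgroup.orderOf_coe]; exact hτ0
    have hk' : τ * s * τ⁻¹ = s ^ k := by
      have := congrArg (fun x : ↥H => (x : G)) hk
      simpa [hsdef, hτdef] using this
    have hτsq : τ * τ = 1 := by
      have := pow_orderOf_eq_one τ
      rwa [hτ, pow_two] at this
    have hτinv : τ⁻¹ = τ := inv_eq_of_mul_eq_one_right hτsq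
    have hτne : τ ≠ 1 := by
      intro h
      rw [h, orderOf_one] at hτ
      norm_num at hτ
    -- conjugate τ into H ⊓ Q, hence into Z
    obtain ⟨h, hhH, hhQ⟩ := hconj τ hτH 1 (by rw [hp2, pow_one, pow_two]; exact hτsq)
    have hz0Z : h * τ * h⁻¹ ∈ D.Z := by
      obtain ⟨a, b, hab, he⟩ := D.mem_Q.mp hhQ.2
      have hsq : D.x a b * D.x a b = 1 := by
        rw [← he]
        calc h * τ * h⁻¹ * (h * τ * h⁻¹) = h * (τ * τ) * h⁻¹ := by group
          _ = 1 := by rw [hτsq]; group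
      rw [hxsq hp2 a b hab] at hsq
      have hrel0 : Rel 8 (0 : F) (a * a ^ 8) := by
        have := D.charF
        rw [D.rel_zero_iff, mul_pow, D.frob_sq]
        have h2 : (2 : F) = 0 := by
          have := CharP.cast_eq_zero F p
          rw [hp2] at this
          exact_mod_cast this
        linear_combination (a * a ^ 8) * h2
      have := hxinj 0 (a * a ^ 8) 0 0 hrel0 D.rel_zero_zero (by rw [hsq, D.x_zero_zero])
      have ha0 : a = 0 := by
        rcases mul_eq_zero.mp this.2 with h | h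
        · exact h
        · exact pow_eq_zero_iff (by norm_num) |>.mp h
      subst ha0
      exact D.mem_Z.mpr ⟨b, (D.rel_zero_iff b).mp hab, he⟩
    -- τ does not commute with s
    have hncomm : s * τ ≠ τ * s := by
      intro hc
      have hτQat : τ ∈ D.Qat h⁻¹ := by
        rw [D.mem_Qat, inv_inv]
        exact hhQ.2
      exact hnofix s hs _ (hfixc h⁻¹ τ hτQat hτne s hc)
    -- the commutator c = τ τ' generates ⟨s⟩
    obtain ⟨τ', hτ'⟩ : ∃ τ' : G, τ' = s * τ * s⁻¹ := ⟨_, rfl⟩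
    obtain ⟨c, hc⟩ : ∃ c : G, c = τ * τ' := ⟨_, rfl⟩
    have hcs : c = s ^ k * s⁻¹ := by
      rw [hc, hτ', ← hk', hτinv]; group
    have hcz : c ∈ Subgroup.zpowers s := by
      rw [hcs]
      exact Subgroup.mul_mem _ (Subgroup.zpow_mem_zpowers s k)
        (Subgroup.inv_mem _ (Subgroup.mem_zpowers s))
    have hcne : c ≠ 1 := by
      intro h1
      apply hncomm
      have : τ * (s * τ * s⁻¹) = 1 := by rw [← hτ', ← hc, h1]
      have h2 : s * τ * s⁻¹ = τ := by
        have := eq_inv_of_mul_eq_one_right this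
        rw [this, hτinv]
      calc s * τ = (s * τ * s⁻¹) * s := by group
        _ = τ * s := by rw [h2]
    have hcord : orderOf c = 19 := by
      have hd : orderOf c ∣ 19 := by
        apply orderOf_dvd_of_pow_eq_one
        obtain ⟨j, hj⟩ := Subgroup.mem_zpowers_iff.mp hcz
        rw [← hj, ← zpow_natCast, ← zpow_mul, mul_comm, zpow_mul, zpow_natCast, ← hs,
          pow_orderOf_eq_one, one_zpow]
      rcases (Nat.dvd_prime hprime19).mp hd with h | h
      · exact absurd (orderOf_eq_one_iff.mp h) hcne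
      · exact h
    have hzeq : Subgroup.zpowers c = Subgroup.zpowers s := by
      apply Subgroup.eq_of_le_of_card_ge
      · rw [Subgroup.zpowers_le]; exact hcz
      · rw [Nat.card_zpowers, Nat.card_zpowers, hs, hcord]
    obtain ⟨n, hn⟩ : ∃ n : ℕ, c ^ n = s := by
      have hsm : s ∈ Subgroup.zpowers c := by rw [hzeq]; exact Subgroup.mem_zpowers s
      have hfo : IsOfFinOrder c := isOfFinOrder_of_finite c
      exact (Submonoid.mem_powers_iff _ _).mp ((hfo.mem_powers_iff_mem_zpowers).mpr hsm)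
    -- the two points
    obtain ⟨w1, hw1⟩ : ∃ w1 : U, w1 = h⁻¹ • D.u := ⟨_, rfl⟩
    obtain ⟨w2, hw2⟩ : ∃ w2 : U, w2 = s • w1 := ⟨_, rfl⟩
    have hw12 : w1 ≠ w2 := by
      intro he
      exact hnofix s hs w1 (by rw [← hw2, ← he])
    obtain ⟨g, hg1, hg2⟩ := D.two_trans D.u D.u' w1 w2 D.huu' hw12
    -- stabiliser of the block, transported by g
    have hu'Blk : D.u' ∈ D.Blk := by
      refine D.mem_Blk.mpr (Or.inr ⟨0, ?_, ?_⟩)
      · rw [zero_pow (by norm_num), add_zero]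
      · rw [D.x_zero_zero, one_smul]
    have huBlk : D.u ∈ D.Blk := D.mem_Blk.mpr (Or.inl rfl)
    have hstτ : ∀ v ∈ D.Blk, (g⁻¹ * τ * g) • v ∈ D.Blk := by
      apply hZat (g⁻¹ * h⁻¹)
      · rw [mul_smul, ← hw1, ← hg1, inv_smul_smul]; exact huBlk
      · rw [D.mem_Zat]
        have : (g⁻¹ * h⁻¹)⁻¹ * (g⁻¹ * τ * g) * (g⁻¹ * h⁻¹) = h * τ * h⁻¹ := by group
        rw [this]; exact hz0Z
    have hstτ' : ∀ v ∈ D.Blk, (g⁻¹ * τ' * g) • v ∈ D.Blk := by
      apply hZat (g⁻¹ * (s * h⁻¹))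
      · rw [mul_smul, mul_smul, ← hw1, ← hw2, ← hg2, inv_smul_smul]; exact hu'Blk
      · rw [D.mem_Zat, hτ']
        have : (g⁻¹ * (s * h⁻¹))⁻¹ * (g⁻¹ * (s * τ * s⁻¹) * g) * (g⁻¹ * (s * h⁻¹)) =
            h * τ * h⁻¹ := by group
        rw [this]; exact hz0Z
    have hstc : ∀ v ∈ D.Blk, (g⁻¹ * c * g) • v ∈ D.Blk := by
      intro v hv
      have : g⁻¹ * c * g = (g⁻¹ * τ * g) * (g⁻¹ * τ' * g) := by rw [hc]; group
      rw [this, mul_smul]
      exact hstτ _ (hstτ' v hv)
    have hstpow : ∀ m : ℕ, ∀ v ∈ D.Blk, (g⁻¹ * c ^ m * g) • v ∈ D.Blk := by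
      intro m
      induction m with
      | zero =>
        intro v hv
        simpa using hv
      | succ m ih =>
        intro v hv
        have : g⁻¹ * c ^ (m + 1) * g = (g⁻¹ * c ^ m * g) * (g⁻¹ * c * g) := by
          rw [pow_succ]; group
        rw [this, mul_smul]
        exact ih _ (hstc v hv)
    have hsts : ∀ v ∈ D.Blk, (g⁻¹ * s * g) • v ∈ D.Blk := by
      rw [← hn]; exact hstpow n
    exact h19B (hblk s g 19 hprime19 hs (by norm_num) hsts)

end Cfsg.Agent.Lib.Helper59_U3A_S4AQ8aux
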