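import Mathlib
import Cfsg.Agent.Lib.Helper83_FrCDefs

set_option autoImplicit false
set_option linter.unusedVariables false
set_option linter.unusedSectionVars false
set_option linter.style.haveILetI false

/-!
helper59: the sharp rank lemma for monomial maps, `#{i : m e_i ≠ l e_i} ≤ 2 rank (m - l)`
(helper83's `RankLemma` has `3 rank`).  It lowers the dimension bound of helper83's case (C) of
the unitary frames theorem (S5655, blocks of dimension one) from `13` to `9`.

Proof without cycles: let `K = ker (m - l)`; choose a set `J` of coordinates with dual vectors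
in `K` (`exists_coord_set`), `|J| ≥ dim K ≥ n - r`.  For `j ∈ J ∩ A` (`A` the moved set) the dual
vector `x` has `x_{π j} = (w_j / l) x_j ≠ 0`, hence `π j ∉ J`, `π j ≠ j`, `π j ∈ A`: `π` embeds
`J ∩ A` into `A \ J`.
-/

namespace Cfsg.Agent.Lib.Helper59_UFrRank

open Module Cfsg.Agent.Lib.Helper94_Herm Cfsg.Agent.Lib.Helper13_PSUSimple
  Cfsg.Agent.Lib.Helper94_FrmDefs Cfsg.Agent.Lib.Helper83_FrCDefs

variable {F V ι : Type*} [Field F] [AddCommGroup V] [Module F V] [Fintype ι] [DecidableEq ι]
variable {σ : F →+* F} {B : V →ₗ[F] V →ₛₗ[σ] F} {e : ι → V}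

/-- the sharp rank lemma: at most `2 r` moved indices -/
def RankLemma2 (F : Type*) [Field F] {V ι : Type*} [AddCommGroup V] [Module F V]
    (e : ι → V) : Prop :=
  ∀ m : V ≃ₗ[F] V, IsMonoMap e m → ∀ l : F, l ≠ 0 → ∀ U : Submodule F V,
    (∀ x, m x - l • x ∈ U) → ∀ r : ℕ, finrank F U ≤ r →
    Set.ncard {i | m (e i) ≠ l • e i} ≤ 2 * r

/-- the dual-vector property of a set of coordinates -/
def HasDual (c : ι → V →ₗ[F] F) (K : Submodule F V) (J : Finset ι) : Prop :=
  ∀ j ∈ J, ∃ x ∈ K, c j x = 1 ∧ ∀ j' ∈ J, j' ≠ j → c j' x = 0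

/-- echelon form: a subspace `K` of a space with separating coordinates `c` has a set `J` of
coordinates with dual vectors in `K` and `dim K ≤ |J|` -/
theorem exists_coord_set [FiniteDimensional F V] (c : ι → V →ₗ[F] F) (K : Submodule F V)
    (hsep : ∀ x ∈ K, (∀ i, c i x = 0) → x = 0) :
    ∃ J : Finset ι, finrank F K ≤ J.card ∧ HasDual c K J := by
  classical
  -- a set with the dual property of maximal cardinality
  have hne : (Finset.univ.filter (fun J : Finset ι => HasDual c K J)).Nonempty :=
    ⟨∅, by
      rw [Finset.mem_filter]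
      exact ⟨Finset.mem_univ _, fun j hj => absurd hj (Finset.notMem_empty j)⟩⟩
  obtain ⟨J, hJmem, hJmax⟩ := Finset.exists_max_image _ (fun J : Finset ι => J.card) hne
  rw [Finset.mem_filter] at hJmem
  have hJ : HasDual c K J := hJmem.2
  refine ⟨J, ?_, hJ⟩
  -- the restriction map to the coordinates in `J` is injective
  let f : K →ₗ[F] (J → F) :=
    { toFun := fun x j => c j.1 x.1
      map_add' := fun x y => by ext j; simp
      map_smul' := fun a x => by ext j; simp }
  have hinj : Function.Injective f := by
    rw [← LinearMap.ker_eq_bot, LinearMap.ker_eq_bot']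
    intro x hx
    by_contra hx0
    have hxJ : ∀ j ∈ J, c j x.1 = 0 := fun j hj => congrFun hx ⟨j, hj⟩
    have hx0' : x.1 ≠ 0 := fun h => hx0 (Subtype.ext h)
    obtain ⟨i, hi⟩ : ∃ i, c i x.1 ≠ 0 := by
      by_contra hall
      push Not at hall
      exact hx0' (hsep x.1 x.2 hall)
    have hiJ : i ∉ J := fun h => hi (hxJ i h)
    -- the normalised vector
    set x' : V := (c i x.1)⁻¹ • x.1 with hx'
    have hx'K : x' ∈ K := K.smul_mem _ x.2
    have hx'i : c i x' = 1 := by
      rw [hx', map_smul, smul_eq_mul, inv_mul_cancel₀ hi]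
    have hx'J : ∀ j ∈ J, c j x' = 0 := by
      intro j hj
      rw [hx', map_smul, hxJ j hj, smul_zero]
    have hnew : HasDual c K (insert i J) := by
      intro j hj
      rw [Finset.mem_insert] at hj
      rcases hj with rfl | hj
      · refine ⟨x', hx'K, hx'i, ?_⟩
        intro j' hj' hne'
        rw [Finset.mem_insert] at hj'
        rcases hj' with rfl | hj'
        · exact absurd rfl hne'
        · exact hx'J j' hj'
      · obtain ⟨y, hyK, hyj, hyo⟩ := hJ j hj
        refine ⟨y - c i y • x', K.sub_mem hyK (K.smul_mem _ hx'K), ?_, ?_⟩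
        · rw [map_sub, map_smul, hyj, hx'J j hj, smul_zero, sub_zero]
        · intro j' hj' hne'
          rw [Finset.mem_insert] at hj'
          rcases hj' with rfl | hj'
          · rw [map_sub, map_smul, hx'i, smul_eq_mul, mul_one, sub_self]
          · rw [map_sub, map_smul, hyo j' hj' hne', hx'J j' hj', smul_zero, sub_zero]
    have h1 := hJmax (insert i J) (by rw [Finset.mem_filter]; exact ⟨Finset.mem_univ _, hnew⟩)
    rw [Finset.card_insert_of_notMem hiJ] at h1
    omega
  have h2 := LinearMap.finrank_le_finrank_of_injective hinj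
  rw [Module.finrank_fintype_fun_eq_card, Fintype.card_coe] at h2
  exact h2

/-- the sharp rank lemma (R'). -/
theorem rankLemma2 (hfr : OFrame B e) : RankLemma2 F e := by
  classical
  intro m hm l hl U hU r hr
  haveI := fr_finiteDimensional hfr
  obtain ⟨π, hπ⟩ := hm
  choose w hw0 hw using hπ
  -- coordinates
  let c : ι → V →ₗ[F] F := fun i => (B.flip (e i))
  have hc : ∀ i x, c i x = B x (e i) := fun i x => rfl
  -- the kernel
  set φ : V →ₗ[F] V := (m : V →ₗ[F] V) - l • LinearMap.id with hφ
  have hφx : ∀ x, φ x = m x - l • x := fun x => rfl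
  set K : Submodule F V := LinearMap.ker φ with hK
  have hrange : LinearMap.range φ ≤ U := by
    rintro _ ⟨x, rfl⟩
    exact hU x
  have hdim : Fintype.card ι ≤ finrank F K + r := by
    have h1 := LinearMap.finrank_range_add_finrank_ker φ
    have h2 := Submodule.finrank_mono hrange
    rw [fr_finrank_eq hfr, ← hK] at h1
    omega
  obtain ⟨J, hJcard, hJ⟩ := exists_coord_set c K (fun x _ hx => by
    rw [fr_expand hfr x]
    exact Finset.sum_eq_zero (fun i _ => by rw [← hc i x, hx i, zero_smul]))
  -- coordinates of the elements of the kernel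
  have hker : ∀ x ∈ K, ∀ i, l * B x (e (π i)) = w i * B x (e i) := by
    intro x hx i
    have h1 : m x = l • x := by
      have : φ x = 0 := hx
      rw [hφx] at this
      exact sub_eq_zero.mp this
    have h2 : B (m x) (e (π i)) = w i * B x (e i) := by
      conv_lhs => rw [fr_expand hfr x]
      rw [map_sum, map_sum, LinearMap.sum_apply]
      rw [Finset.sum_eq_single i]
      · rw [map_smul, hw, map_smul, map_smul, LinearMap.smul_apply, LinearMap.smul_apply,
          hfr.unit, smul_eq_mul, smul_eq_mul, mul_one, mul_comm]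
      · intro k _ hki
        rw [map_smul, hw, map_smul, map_smul, LinearMap.smul_apply, LinearMap.smul_apply,
          hfr.orth _ _ (fun h => hki (π.injective h)), smul_zero, smul_zero]
      · intro h
        exact absurd (Finset.mem_univ i) h
    rw [← h2, h1, map_smul, LinearMap.smul_apply, smul_eq_mul]
  -- the moved set
  set A : Finset ι := Finset.univ.filter (fun i => m (e i) ≠ l • e i) with hA
  have hAset : {i | m (e i) ≠ l • e i} = (A : Set ι) := by
    ext i
    simp [hA]
  rw [hAset, Set.ncard_coe_finset]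
  have hmemA : ∀ i, i ∈ A ↔ m (e i) ≠ l • e i := fun i => by simp [hA]
  -- `π` maps `J ∩ A` into `A \ J`
  have hmap : ∀ j ∈ J ∩ A, π j ∈ A \ J := by
    intro j hj
    rw [Finset.mem_inter] at hj
    obtain ⟨hjJ, hjA⟩ := hj
    obtain ⟨x, hxK, hxj, hxo⟩ := hJ j hjJ
    rw [hc] at hxj
    have h1 := hker x hxK j
    rw [hxj, mul_one] at h1
    have hπj0 : B x (e (π j)) ≠ 0 := by
      intro h0
      rw [h0, mul_zero] at h1
      exact hw0 j h1.symm
    have hπj : π j ≠ j := by
      intro h
      rw [h, hxj, mul_one] at h1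
      apply (hmemA j).mp hjA
      rw [hw, h, ← h1]
    have hπjJ : π j ∉ J := by
      intro h
      exact hπj0 (by rw [← hc]; exact hxo (π j) h hπj)
    rw [Finset.mem_sdiff]
    refine ⟨(hmemA _).mpr ?_, hπjJ⟩
    intro h
    rw [hw] at h
    have h2 := congrArg (fun y => B y (e (π j))) h
    simp only [map_smul, LinearMap.smul_apply, smul_eq_mul, hfr.unit, mul_one] at h2
    by_cases hππ : π (π j) = π j
    · exact hπj (π.injective hππ)
    · rw [hfr.orth _ _ hππ, mul_zero] at h2
      exact hl h2.symm
  have hcard1 : (J ∩ A).card ≤ (A \ J).card :=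
    Finset.card_le_card_of_injOn (fun j => π j) hmap (fun a _ b _ h => π.injective h)
  have hcard2 : (A ∩ J).card + (A \ J).card = A.card := Finset.card_inter_add_card_sdiff A J
  have hcard3 : (J ∩ A).card + (J \ A).card = J.card := Finset.card_inter_add_card_sdiff J A
  have hcard4 : (J \ A).card + A.card ≤ Fintype.card ι := by
    rw [← Finset.card_union_of_disjoint]
    · exact Finset.card_le_univ _
    · exact Finset.sdiff_disjoint
  rw [Finset.inter_comm] at hcard2
  omega

end Cfsg.Agent.Lib.Helper59_UFrRank
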