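import Mathlib
import Cfsg.Agent.Lib.Helper83_FrCDefs

set_option autoImplicit false
set_option linter.unusedVariables false
set_option linter.unusedSectionVars false

/-!
S5655, k = 1, case (C), package PK20 (architect helper83): `q = 2`, step (T1).

If all conjugates `g τ_p g⁻¹` of the frame transvections are monomial, then every `g (e a) + l • g (e b)` has weight two;
counting zeros of `x_j + l y_j` for the three values of `l` shows that all columns of `g` are supported on one set of three
indices, which is impossible for `n ≥ 4`.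
-/

namespace Cfsg.Agent.Lib.Helper61_FrC_PK20

open Module Cfsg.Agent.Lib.Helper94_Herm Cfsg.Agent.Lib.Helper13_PSUSimple
  Cfsg.Agent.Lib.Helper94_FrmDefs Cfsg.Agent.Lib.Helper83_FrCDefs

variable {F V ι : Type*} [Field F] [AddCommGroup V] [Module F V] [Fintype ι] [DecidableEq ι]
variable {σ : F →+* F} {B : V →ₗ[F] V →ₛₗ[σ] F} {e : ι → V}

/-- The support of a coordinate vector. -/
noncomputable def supp (x : ι → F) : Finset ι := by
  classical exact Finset.univ.filter (fun j => x j ≠ 0)

omit [DecidableEq ι] in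
lemma mem_supp {x : ι → F} {j : ι} : j ∈ supp x ↔ x j ≠ 0 := by
  classical
  simp [supp]

/-- A monomial transvection has a centre of weight at most two. -/
lemma weight_le_two (hσ : Invol σ) (hB : IsHerm B) (hfr : OFrame B e) {v : V} (hvv : B v v = 0)
    (hmon : utv B v 1 ∈ Mono B e) :
    (supp (fun j => B v (e j))).card ≤ 2 := by
  by_contra hcard
  push Not at hcard
  obtain ⟨j1, h1, j2, h2', j3, h3, h12, h13, h23⟩ := Finset.two_lt_card.mp hcard
  rw [mem_supp] at h1 h2' h3
  obtain ⟨-, π, hπ⟩ := mem_Mono.mp hmon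
  obtain ⟨c, hc0, hc⟩ := hπ j1
  have hcoord : ∀ k, k ≠ j1 → B v (e k) ≠ 0 → π j1 = k := by
    intro k hk hvk
    by_contra hne
    have h4 : B (utv B v 1 (e j1)) (e k) = B (c • e (π j1)) (e k) := by rw [hc]
    rw [utv_apply B hvv, map_add, LinearMap.add_apply, map_smul, LinearMap.smul_apply, map_smul,
      LinearMap.smul_apply, hfr.orth j1 k (Ne.symm hk), hfr.orth _ _ hne, smul_eq_mul, smul_eq_mul,
      mul_zero, zero_add, one_mul] at h4
    exact mul_ne_zero (herm_ne_zero hσ hB h1) hvk h4
  have e1 := hcoord j2 (Ne.symm h12) h2'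
  have e2 := hcoord j3 (Ne.symm h13) h3
  exact h23 (e1.symm.trans e2)

/-- The counting lemma: if `x + l y` has weight at most two for the three nonzero `l` and `x` has weight at least three,
then `x` has weight three and the support of `y` lies in that of `x`. -/
lemma supp_le (h2 : (2 : F) = 0) (w : F) (hw : w ^ 2 + w + 1 = 0) (x y : ι → F)
    (hx : 3 ≤ (supp x).card)
    (h : ∀ l : F, l ≠ 0 → (supp (fun j => x j + l * y j)).card ≤ 2) :
    (supp x).card ≤ 3 ∧ ∀ j, y j ≠ 0 → x j ≠ 0 := by
  classical
  have hw0 : w ≠ 0 := by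
    rintro rfl
    simp at hw
  have hw1 : w ≠ 1 := by
    rintro rfl
    have : (1 : F) = 0 := by linear_combination hw - h2
    exact one_ne_zero this
  have hw2 : w ^ 2 ≠ 0 := pow_ne_zero 2 hw0
  have hw21 : w ^ 2 ≠ 1 := by
    intro h1
    apply hw0
    linear_combination hw - h1 - h2
  have hw2w : w ^ 2 ≠ w := by
    intro h1
    have : (1 : F) = 0 := by linear_combination hw - h1 - w * h2
    exact one_ne_zero this
  set S : Finset ι := Finset.univ.filter (fun j => x j ≠ 0 ∨ y j ≠ 0) with hS
  set Z : F → Finset ι := fun l => S.filter (fun j => x j + l * y j = 0) with hZ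
  have hZC : ∀ l, l ≠ 0 → S.card ≤ (Z l).card + 2 := by
    intro l hl
    have h1 := Finset.card_filter_add_card_filter_not (s := S) (fun j => x j + l * y j = 0)
    have h3 : (S.filter (fun j => ¬ (x j + l * y j = 0))).card ≤ 2 := by
      refine le_trans (Finset.card_le_card ?_) (h l hl)
      intro j hj
      rw [Finset.mem_filter] at hj
      rw [mem_supp]
      exact hj.2
    show S.card ≤ (S.filter (fun j => x j + l * y j = 0)).card + 2
    omega
  have hdisj : ∀ l l', l ≠ l' → Disjoint (Z l) (Z l') := by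
    intro l l' hll
    rw [Finset.disjoint_left]
    intro j hj hj'
    simp only [hZ, Finset.mem_filter] at hj hj'
    have hy : y j = 0 := by
      have h1 : (l - l') * y j = 0 := by linear_combination hj.2 - hj'.2
      rcases mul_eq_zero.mp h1 with h3 | h3
      · exact absurd (sub_eq_zero.mp h3) hll
      · exact h3
    have hxj : x j = 0 := by
      have := hj.2
      rwa [hy, mul_zero, add_zero] at this
    have hjS := hj.1
    rw [hS, Finset.mem_filter] at hjS
    rcases hjS.2 with h3 | h3
    · exact h3 hxj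
    · exact h3 hy
  have hsub : ∀ l, Z l ⊆ S := fun l => Finset.filter_subset _ _
  have hS3 : S.card ≤ 3 := by
    have h1 := hZC 1 one_ne_zero
    have h3 := hZC w hw0
    have h4 := hZC (w ^ 2) hw2
    have h5 : (Z 1 ∪ Z w).card = (Z 1).card + (Z w).card :=
      Finset.card_union_of_disjoint (hdisj 1 w (Ne.symm hw1))
    have h6 : Disjoint (Z 1 ∪ Z w) (Z (w ^ 2)) := by
      rw [Finset.disjoint_union_left]
      exact ⟨hdisj 1 (w ^ 2) (Ne.symm hw21), hdisj w (w ^ 2) (Ne.symm hw2w)⟩
    have h7 : ((Z 1 ∪ Z w) ∪ Z (w ^ 2)).card = (Z 1 ∪ Z w).card + (Z (w ^ 2)).card :=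
      Finset.card_union_of_disjoint h6
    have h8 : ((Z 1 ∪ Z w) ∪ Z (w ^ 2)).card ≤ S.card :=
      Finset.card_le_card (Finset.union_subset (Finset.union_subset (hsub 1) (hsub w)) (hsub _))
    omega
  have hxS : supp x ⊆ S := by
    intro j hj
    rw [mem_supp] at hj
    rw [hS, Finset.mem_filter]
    exact ⟨Finset.mem_univ _, Or.inl hj⟩
  have hle := Finset.card_le_card hxS
  refine ⟨by omega, ?_⟩
  have heq : supp x = S := Finset.eq_of_subset_of_card_le hxS (by omega)
  intro j hyj
  have hjS : j ∈ S := by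
    rw [hS, Finset.mem_filter]
    exact ⟨Finset.mem_univ _, Or.inr hyj⟩
  rw [← heq, mem_supp] at hjS
  exact hjS


/-- PK20. paper (T1). -/
theorem q2_exists_tv (hσ : Invol σ) (hB : IsHerm B) (hfr : OFrame B e) (hmono : HasMono B e)
    (h2 : (2 : F) = 0) (hnorm : ∀ c : F, c ≠ 0 → c * σ c = 1) (w : F) (hw : w ^ 2 + w + 1 = 0)
    (h4 : 4 ≤ Fintype.card ι) (M : Subgroup (V ≃ₗ[F] V)) (hHM : frH B e ≤ M) (hMU : M ≤ uG B)
    (hC' : PC' B e M) :
    ∀ g ∈ M, g ∉ Mono B e → ∃ a b : ι, a ≠ b ∧ ∃ l : F, l ≠ 0 ∧
      g * utv B (e a + l • e b) 1 * g⁻¹ ∉ Mono B e := by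
  classical
  intro g hg hgM
  by_contra hcon
  push Not at hcon
  have hgU : g ∈ uG B := hMU hg
  set X : ι → ι → F := fun a j => B (g (e a)) (e j) with hX
  -- the weight of `x + l y` is at most two
  have hw2 : ∀ a b, a ≠ b → ∀ l : F, l ≠ 0 → (supp (fun j => X a j + l * X b j)).card ≤ 2 := by
    intro a b hab l hl0
    have hl : l * σ l = 1 := hnorm l hl0
    have hpp : B (e a + l • e b) (e a + l • e b) = 0 := by
      simp only [map_add, map_smul, map_smulₛₗ, LinearMap.add_apply, LinearMap.smul_apply, smul_eq_mul,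
        hfr.unit, hfr.orth a b hab, hfr.orth b a (Ne.symm hab)]
      linear_combination hl + h2
    have h1 := hcon a b hab l hl0
    rw [conj_utv hgU] at h1
    have hvv : B (g (e a + l • e b)) (g (e a + l • e b)) = 0 := by rw [hgU, hpp]
    have h3 := weight_le_two hσ hB hfr hvv h1
    have e1 : (fun j => B (g (e a + l • e b)) (e j)) = fun j => X a j + l * X b j := by
      funext j
      simp only [hX, map_add, map_smul, LinearMap.add_apply, LinearMap.smul_apply, smul_eq_mul]
    rwa [e1] at h3
  -- the weight of a column is at least three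
  have hw3 : ∀ a, 3 ≤ (supp (X a)).card := by
    intro a
    by_contra hlt
    push Not at hlt
    have hN : (1 : F) = ((supp (X a)).card : F) := by
      have h1 : B (g (e a)) (g (e a)) = 1 := by rw [hgU, hfr.unit]
      rw [fr_form_eq hfr] at h1
      rw [← h1]
      have h3 : ∀ j, B (g (e a)) (e j) * σ (B (g (e a)) (e j)) = if j ∈ supp (X a) then 1 else 0 := by
        intro j
        by_cases hj : X a j = 0
        · rw [if_neg (by rw [mem_supp]; exact not_not.mpr hj)]
          show X a j * σ (X a j) = 0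
          rw [hj, zero_mul]
        · rw [if_pos (mem_supp.mpr hj)]
          exact hnorm _ hj
      simp only [h3]
      rw [Finset.sum_ite_mem, Finset.univ_inter, Finset.sum_const, nsmul_eq_mul, mul_one]
    have hcases : (supp (X a)).card = 0 ∨ (supp (X a)).card = 1 ∨ (supp (X a)).card = 2 := by omega
    rcases hcases with h0 | h1 | h2c
    · rw [h0] at hN
      simp at hN
    · obtain ⟨j0, hj0⟩ := Finset.card_eq_one.mp h1
      apply hgM
      apply hC' g hg a j0 (X a j0)
      apply fr_ext_coord hfr
      intro i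
      rw [map_smul, LinearMap.smul_apply, smul_eq_mul, fr_apply_eq hfr]
      by_cases hi : j0 = i
      · subst hi
        rw [if_pos rfl, mul_one]
      · rw [if_neg hi, mul_zero]
        have h3 : i ∉ supp (X a) := by
          rw [hj0, Finset.mem_singleton]
          exact fun h => hi h.symm
        rw [mem_supp, not_not] at h3
        exact h3
    · rw [h2c] at hN
      push_cast at hN
      rw [h2] at hN
      exact one_ne_zero hN
  have hne : Nonempty ι := by
    rw [← Fintype.card_pos_iff]
    omega
  obtain ⟨a0⟩ := hne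
  obtain ⟨b0, hb0⟩ : ∃ b0, b0 ≠ a0 := by
    by_contra hall
    push Not at hall
    have h1 : Fintype.card ι ≤ 1 := Fintype.card_le_one_iff.mpr (fun x y => by rw [hall x, hall y])
    omega
  have hS3 : (supp (X a0)).card ≤ 3 :=
    (supp_le h2 w hw (X a0) (X b0) (hw3 a0) (hw2 a0 b0 (Ne.symm hb0))).1
  have hsub : ∀ b, b ≠ a0 → ∀ j, X b j ≠ 0 → X a0 j ≠ 0 := fun b hb =>
    (supp_le h2 w hw (X a0) (X b) (hw3 a0) (hw2 a0 b (Ne.symm hb))).2
  obtain ⟨i, hi⟩ : ∃ i, i ∉ supp (X a0) := by
    by_contra hall
    push Not at hall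
    have h1 : supp (X a0) = Finset.univ := Finset.eq_univ_iff_forall.mpr hall
    rw [h1, Finset.card_univ] at hS3
    omega
  rw [mem_supp, not_not] at hi
  have hrow : ∀ a, X a i = 0 := by
    intro a
    by_cases ha : a = a0
    · rw [ha]
      exact hi
    · by_contra h
      exact hsub a ha i h hi
  have h0 : g⁻¹ (e i) = 0 := by
    apply fr_ext_coord hfr
    intro a
    rw [map_zero, LinearMap.zero_apply, uG_inv_apply B hgU]
    exact herm_eq_zero hB (hrow a)
  have h1 : e i = 0 := by
    have h3 := congrArg g h0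
    rwa [Cfsg.Agent.Lib.Helper94_Symp.apply_inv_apply', map_zero] at h3
  exact fr_ne_zero hfr i h1

end Cfsg.Agent.Lib.Helper61_FrC_PK20
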