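import Mathlib
import Cfsg.Agent.Lib.Helper83_FrCDefs
import Cfsg.Agent.Lib.Helper14_PSULocal1

set_option autoImplicit false
set_option linter.unusedVariables false
set_option linter.unusedSectionVars false

/-!
S5655, k = 1, case (C), package PK21 (architect helper83): `q = 2`, steps (T2), (T3).
-/

namespace Cfsg.Agent.Lib.Helper61_FrC_PK21

open Module Cfsg.Agent.Lib.Helper94_Herm Cfsg.Agent.Lib.Helper13_PSUSimple
  Cfsg.Agent.Lib.Helper94_FrmDefs Cfsg.Agent.Lib.Helper83_FrCDefs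

variable {F V ι : Type*} [Field F] [AddCommGroup V] [Module F V] [Fintype ι] [DecidableEq ι]
variable {σ : F →+* F} {B : V →ₗ[F] V →ₛₗ[σ] F} {e : ι → V}

/-- A frame transvection lies in the frame stabiliser (characteristic 2). -/
lemma ftv_mem_frH (hB : IsHerm B) (hfr : OFrame B e) (h2 : (2 : F) = 0) {a b : ι} (hab : a ≠ b) {l : F}
    (hl : l * σ l = 1) : utv B (e a + l • e b) 1 ∈ frH B e := by
  have hc1 : σ (1 : F) = -1 := by
    rw [map_one]
    linear_combination h2
  have hl0 : l ≠ 0 := left_ne_zero_of_mul_eq_one hl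
  have hσl0 : σ l ≠ 0 := right_ne_zero_of_mul_eq_one hl
  have h2v : ∀ x : V, x + x = 0 := fun x => by rw [← two_smul F x, h2, zero_smul]
  have hp : B (e a + l • e b) (e a + l • e b) = 0 := by
    simp only [map_add, map_smul, map_smulₛₗ, LinearMap.add_apply, LinearMap.smul_apply, smul_eq_mul,
      hfr.unit, hfr.orth a b hab, hfr.orth b a (Ne.symm hab)]
    linear_combination hl + h2
  refine mem_frH.mpr ⟨mem_Mono.mpr ⟨utv_mem_uG hB _ hc1, Equiv.swap a b, fun i => ?_⟩,
    Cfsg.Agent.Lib.Helper14_PSULocal1.utv_mem_SUg hB _ hc1⟩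
  by_cases hia : i = a
  · subst hia
    refine ⟨l, hl0, ?_⟩
    rw [Equiv.swap_apply_left, utv_apply B hp]
    have h1 : B (e i) (e i + l • e b) = 1 := by
      simp only [map_add, map_smulₛₗ, smul_eq_mul, hfr.unit, hfr.orth i b hab, mul_zero, add_zero]
    rw [h1, mul_one, one_smul, ← add_assoc, h2v, zero_add]
  · by_cases hib : i = b
    · subst hib
      refine ⟨σ l, hσl0, ?_⟩
      rw [Equiv.swap_apply_right, utv_apply B hp]
      have h1 : B (e i) (e a + l • e i) = σ l := by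
        simp only [map_add, map_smulₛₗ, smul_eq_mul, hfr.unit, hfr.orth i a (Ne.symm hab), mul_one,
          zero_add]
      rw [h1, one_mul, smul_add, smul_smul, mul_comm (σ l) l, hl, one_smul, add_comm (σ l • e a),
        ← add_assoc, h2v, zero_add]
    · refine ⟨1, one_ne_zero, ?_⟩
      rw [Equiv.swap_apply_of_ne_of_ne hia hib, one_smul]
      apply utv_fix
      simp only [map_add, map_smulₛₗ, smul_eq_mul, hfr.orth i a hia, hfr.orth i b hib, mul_zero,
        add_zero]


/-- The diagonal element `diag(w,w,w,w²,w²,w²,1,…,1)` of the frame stabiliser. -/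
lemma exists_diag (hmono : HasMono B e) (h2 : (2 : F) = 0) (hnorm : ∀ c : F, c ≠ 0 → c * σ c = 1) (w : F)
    (hw : w ^ 2 + w + 1 = 0) (g : Fin 6 ↪ ι) :
    ∃ t ∈ frH B e, ∃ wt : ι → F, (∀ i, t (e i) = wt i • e i) ∧ (∀ i, wt i ≠ 0) ∧
      (wt (g 0) = w ∧ wt (g 1) = w ∧ wt (g 2) = w) ∧ (∀ j, (∀ k, j ≠ g k) → wt j = 1) ∧
      ∑ j, (wt j - 1) = 1 := by
  classical
  have hw0 : w ≠ 0 := by
    rintro rfl
    simp at hw
  set c : Fin 6 → F := ![w, w, w, w ^ 2, w ^ 2, w ^ 2] with hc
  have hc0 : ∀ k, c k ≠ 0 := by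
    intro k
    fin_cases k <;> simp [hc, hw0]
  set wt : ι → F := fun j => ∏ k, (if j = g k then c k else 1) with hwt
  have hwt_g : ∀ k0, wt (g k0) = c k0 := by
    intro k0
    show ∏ k, (if g k0 = g k then c k else 1) = c k0
    rw [Finset.prod_eq_single k0]
    · rw [if_pos rfl]
    · intro k _ hk
      rw [if_neg]
      intro h
      exact hk (g.injective h).symm
    · intro h
      exact absurd (Finset.mem_univ _) h
  have hwt_out : ∀ j, (∀ k, j ≠ g k) → wt j = 1 := by
    intro j hj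
    show ∏ k, (if j = g k then c k else 1) = 1
    apply Finset.prod_eq_one
    intro k _
    rw [if_neg (hj k)]
  have hwt0 : ∀ j, wt j ≠ 0 := by
    intro j
    show ∏ k, (if j = g k then c k else 1) ≠ 0
    rw [Finset.prod_ne_zero_iff]
    intro k _
    split_ifs
    · exact hc0 k
    · exact one_ne_zero
  have hw3 : w ^ 3 = 1 := by linear_combination (w - 1) * hw
  have hprod : ∏ j, wt j = 1 := by
    show ∏ j, ∏ k, (if j = g k then c k else 1) = 1
    rw [Finset.prod_comm]
    have h1 : ∀ k, ∏ j, (if j = g k then c k else 1) = c k := by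
      intro k
      rw [Finset.prod_ite_eq' Finset.univ (g k) (fun _ => c k)]
      simp
    simp only [h1]
    rw [Fin.prod_univ_six]
    simp only [hc, Matrix.cons_val_zero, Matrix.cons_val_one, Matrix.cons_val]
    calc w * w * w * w ^ 2 * w ^ 2 * w ^ 2 = (w ^ 3) ^ 3 := by ring
      _ = 1 := by rw [hw3, one_pow]
  have hsum : ∑ j, (wt j - 1) = 1 := by
    have h1 : ∑ j, (wt j - 1) = ∑ j ∈ Finset.univ.map g, (wt j - 1) := by
      symm
      apply Finset.sum_subset (Finset.subset_univ _)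
      intro j _ hj
      rw [hwt_out j, sub_self]
      intro k hk
      apply hj
      rw [Finset.mem_map]
      exact ⟨k, Finset.mem_univ _, hk.symm⟩
    rw [h1, Finset.sum_map]
    simp only [hwt_g]
    rw [Fin.sum_univ_six]
    simp only [hc, Matrix.cons_val_zero, Matrix.cons_val_one, Matrix.cons_val]
    linear_combination 3 * hw - 5 * h2
  obtain ⟨t, htH, ht⟩ := hmono 1 wt (fun i => hnorm _ (hwt0 i)) (by rw [hprod]; simp)
  refine ⟨t, htH, wt, fun i => by simpa using ht i, hwt0, ⟨?_, ?_, ?_⟩, hwt_out, hsum⟩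
  · rw [hwt_g]; simp [hc]
  · rw [hwt_g]; simp [hc]
  · rw [hwt_g]; simp [hc]


/-- PK21. paper (T2), (T3). -/
theorem caseC_two (hσ : Invol σ) (hB : IsHerm B) (hfr : OFrame B e) (hmono : HasMono B e)
    (h2 : (2 : F) = 0) (hnorm : ∀ c : F, c ≠ 0 → c * σ c = 1) (w : F) (hw : w ^ 2 + w + 1 = 0)
    (h7 : 7 ≤ Fintype.card ι) (M : Subgroup (V ≃ₗ[F] V)) (hHM : frH B e ≤ M)
    (hMS : M ≤ SUg B) (hC : CaseC B e M)
    (hT1 : ∀ g ∈ M, g ∉ Mono B e → ∃ a b : ι, a ≠ b ∧ ∃ l : F, l ≠ 0 ∧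
      g * utv B (e a + l • e b) 1 * g⁻¹ ∉ Mono B e) :
    M ≤ Mono B e := by
  classical
  intro g hg
  by_contra hgM
  obtain ⟨a, b, hab, l, hl0, hτ⟩ := hT1 g hg hgM
  have hMU : M ≤ uG B := fun x hx => (mem_SUg.mp (hMS hx)).1
  have hc1 : σ (1 : F) = -1 := by
    rw [map_one]
    linear_combination h2
  have h2F : ∀ x : F, x + x = 0 := fun x => by linear_combination x * h2
  have hl : l * σ l = 1 := hnorm l hl0
  set p : V := e a + l • e b with hp
  have hτpM : utv B p 1 ∈ M := hHM (ftv_mem_frH hB hfr h2 hab hl)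
  have hgU : g ∈ uG B := hMU hg
  rw [conj_utv hgU p 1] at hτ
  set v : V := g p with hv
  have hpp : B p p = 0 := by
    simp only [hp, map_add, map_smul, map_smulₛₗ, LinearMap.add_apply, LinearMap.smul_apply, smul_eq_mul,
      hfr.unit, hfr.orth a b hab, hfr.orth b a (Ne.symm hab)]
    linear_combination hl + h2
  have hvv : B v v = 0 := by rw [hv, hgU, hpp]
  have hτM : utv B v 1 ∈ M := by
    rw [← conj_utv hgU p 1]
    exact M.mul_mem (M.mul_mem hg hτpM) (M.inv_mem hg)
  have hτU : utv B v 1 ∈ uG B := hMU hτM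
  -- (T2): all coordinates of `v` are nonzero
  have hvj : ∀ j, B v (e j) ≠ 0 := by
    intro j h0
    apply hτ
    apply hC j _ hτM
    refine ⟨1, ?_⟩
    rw [one_smul]
    exact utv_fix B v 1 (herm_eq_zero hB h0)
  have hNv : ∀ j, B v (e j) * σ (B v (e j)) = 1 := fun j => hnorm _ (hvj j)
  -- seven indices
  obtain ⟨f⟩ : Nonempty (Fin 7 ↪ ι) := Function.Embedding.nonempty_of_card_le (by simpa using h7)
  set g6 : Fin 6 ↪ ι := ⟨fun k => f k.castSucc, fun x y hxy => Fin.castSucc_injective _ (f.injective hxy)⟩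
    with hg6
  have hj7 : ∀ k, f (Fin.last 6) ≠ g6 k := by
    intro k h
    have h1 := f.injective h
    exact absurd h1.symm (Fin.castSucc_lt_last k).ne
  obtain ⟨t, htH, wt, ht, hwt0, ⟨hw0', hw1', hw2'⟩, hwt_out, hsum⟩ := exists_diag hmono h2 hnorm w hw g6
  have htM : t ∈ M := hHM htH
  have htU : t ∈ uG B := hMU htM
  -- coordinates of `t v`
  have htv : ∀ j, B (t v) (e j) = wt j * B v (e j) := by
    intro j
    have h1 : t v = ∑ i, (B v (e i) * wt i) • e i := by
      conv_lhs => rw [fr_expand hfr v]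
      rw [map_sum]
      refine Finset.sum_congr rfl (fun i _ => ?_)
      rw [map_smul, ht, smul_smul]
    rw [h1, fr_coord_sum hfr (fun i => B v (e i) * wt i) j, mul_comm]
  -- `B v (t v) = 1`
  have hBvtv : B v (t v) = 1 := by
    have h1 : B v (t v) = ∑ j, σ (wt j) := by
      rw [fr_form_eq hfr v (t v)]
      refine Finset.sum_congr rfl (fun j _ => ?_)
      rw [htv, map_mul, mul_comm (σ (wt j)), ← mul_assoc, hNv, one_mul]
    have h3 : (0 : F) = ∑ j : ι, (1 : F) := by
      rw [← hvv, fr_form_eq hfr v v]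
      exact Finset.sum_congr rfl (fun j _ => hNv j)
    have h4 : ∑ j, σ (wt j) = σ (∑ j, (wt j - 1)) := by
      rw [map_sum]
      simp only [map_sub, map_one, Finset.sum_sub_distrib]
      rw [← h3, sub_zero]
    rw [h1, h4, hsum, map_one]
  -- the second transvection
  have hτ'eq : t * utv B v 1 * t⁻¹ = utv B (t v) 1 := conj_utv htU v 1
  have hτ'M : utv B (t v) 1 ∈ M := by
    rw [← hτ'eq]
    exact M.mul_mem (M.mul_mem htM hτM) (M.inv_mem htM)
  have hτ'U : utv B (t v) 1 ∈ uG B := hMU hτ'M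
  have htvtv : B (t v) (t v) = 0 := by rw [htU, hvv]
  have hτ'v : utv B (t v) 1 v = v + t v := by
    rw [utv_apply B htvtv, hBvtv, mul_one, one_smul]
  -- the third transvection
  set w' : V := v + t v with hw'
  have hτ''eq : utv B (t v) 1 * utv B v 1 * (utv B (t v) 1)⁻¹ = utv B w' 1 := by
    rw [conj_utv hτ'U v 1, hτ'v]
  have hτ''M : utv B w' 1 ∈ M := by
    rw [← hτ''eq]
    exact M.mul_mem (M.mul_mem hτ'M hτM) (M.inv_mem hτ'M)
  have hw'w' : B w' w' = 0 := by rw [← hτ'v, hτ'U, hvv]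
  have hw'j : ∀ j, B w' (e j) = (1 + wt j) * B v (e j) := by
    intro j
    rw [hw', map_add, LinearMap.add_apply, htv]
    ring
  -- `τ''` fixes `e_7`
  have hfix : utv B w' 1 (e (f (Fin.last 6))) = e (f (Fin.last 6)) := by
    apply utv_fix
    apply herm_eq_zero hB
    rw [hw'j, hwt_out _ hj7, h2F, zero_mul]
  have hτ''Mono : utv B w' 1 ∈ Mono B e := hC (f (Fin.last 6)) _ hτ''M ⟨1, by rw [one_smul]; exact hfix⟩
  obtain ⟨-, π, hπ⟩ := mem_Mono.mp hτ''Mono
  obtain ⟨c, hc0, hc⟩ := hπ (g6 0)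
  -- `1 + w ≠ 0`
  have h1w : (1 : F) + w ≠ 0 := by
    intro h
    have h3 : w = -1 := by linear_combination h
    rw [h3] at hw
    norm_num at hw
  have hcoord : ∀ k : Fin 6, k ≠ 0 → wt (g6 k) = w → π (g6 0) = g6 k := by
    intro k hk hwk
    by_contra hne
    have h3 : B (utv B w' 1 (e (g6 0))) (e (g6 k)) = B (c • e (π (g6 0))) (e (g6 k)) := by rw [hc]
    rw [utv_apply B hw'w', map_add, LinearMap.add_apply, map_smul, LinearMap.smul_apply, map_smul,
      LinearMap.smul_apply, hfr.orth (g6 0) (g6 k) (fun h => hk (g6.injective h).symm),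
      hfr.orth _ _ hne, smul_eq_mul, smul_eq_mul, mul_zero, zero_add, one_mul] at h3
    have h4 : B (e (g6 0)) w' ≠ 0 := by
      apply herm_ne_zero hσ hB
      rw [hw'j, hw0']
      exact mul_ne_zero h1w (hvj _)
    have h5 : B w' (e (g6 k)) ≠ 0 := by
      rw [hw'j, hwk]
      exact mul_ne_zero h1w (hvj _)
    exact mul_ne_zero h4 h5 h3
  have e1 := hcoord 1 (by decide) hw1'
  have e2 := hcoord 2 (by decide) hw2'
  have e3 : (1 : Fin 6) = 2 := g6.injective (e1.symm.trans e2)
  exact absurd e3 (by decide)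

end Cfsg.Agent.Lib.Helper61_FrC_PK21
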