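/-
helper63 — package PK16 of helper83's market S5655 case (C): paper (E-lift).
-/
import Mathlib
import Cfsg.Agent.Lib.Helper83_FrCDefs

set_option autoImplicit false
set_option linter.unusedVariables false
set_option linter.unusedSectionVars false

namespace Cfsg.Agent.Lib.Helper63_FrC_PK16

open Module Cfsg.Agent.Lib.Helper94_Herm Cfsg.Agent.Lib.Helper13_PSUSimple
  Cfsg.Agent.Lib.Helper94_FrmDefs Cfsg.Agent.Lib.Helper83_FrCDefs

variable {F V ι : Type*} [Field F] [AddCommGroup V] [Module F V] [Fintype ι] [DecidableEq ι]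
variable {σ : F →+* F} {B : V →ₗ[F] V →ₛₗ[σ] F} {e : ι → V}

lemma inv_apply_apply_le (g : V ≃ₗ[F] V) (x : V) : g⁻¹ (g x) = x := by
  rw [← LinearEquiv.mul_apply, inv_mul_cancel]
  rfl

lemma apply_inv_apply_le (g : V ≃ₗ[F] V) (x : V) : g (g⁻¹ x) = x := by
  rw [← LinearEquiv.mul_apply, mul_inv_cancel]
  rfl

lemma fixesPt_mul {a b : ι} {l : F} {m m' : V ≃ₗ[F] V} (h : FixesPt e a b l m)
    (h' : FixesPt e a b l m') : FixesPt e a b l (m * m') := by
  obtain ⟨c, hc⟩ := h
  obtain ⟨c', hc'⟩ := h'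
  exact ⟨c' * c, by rw [LinearEquiv.mul_apply, hc', map_smul, hc, smul_smul]⟩

lemma fixesPt_inv {a b : ι} {l : F} {m : V ≃ₗ[F] V} (h : FixesPt e a b l m) :
    FixesPt e a b l m⁻¹ := by
  obtain ⟨c, hc⟩ := h
  by_cases hc0 : c = 0
  · have hp : e a + l • e b = 0 := by
      apply m.injective
      rw [hc, hc0, zero_smul, map_zero]
    exact ⟨0, by rw [hp, map_zero, smul_zero]⟩
  · refine ⟨c⁻¹, ?_⟩
    apply m.injective
    rw [apply_inv_apply_le, map_smul, hc, smul_smul, inv_mul_cancel₀ hc0, one_smul]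

/-- a monomial map times a diagonal map is monomial -/
lemma isMonoMap_mul_diag {W κ : Type*} [AddCommGroup W] [Module F W] {e' : κ → W}
    {g d : W ≃ₗ[F] W} (hg : IsMonoMap e' g) (w : κ → F) (hw : ∀ s, w s ≠ 0)
    (hd : ∀ s, d (e' s) = w s • e' s) : IsMonoMap e' (g * d) := by
  obtain ⟨π, hπ⟩ := hg
  refine ⟨π, fun i => ?_⟩
  obtain ⟨c, hc0, hc⟩ := hπ i
  exact ⟨w i * c, mul_ne_zero (hw i) hc0, by
    rw [LinearEquiv.mul_apply, hd, map_smul, hc, smul_smul]⟩

/-- PK16. paper (E-lift). -/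
theorem e_lift (hσ : Invol σ) (hB : IsHerm B) (hfr : OFrame B e) (hmono : HasMono B e)
    (h2 : (2 : F) = 0) (h5 : 5 ≤ Fintype.card ι) (a b : ι) (hab : a ≠ b) (l : F)
    (hl : l * σ l = 1) (M : Subgroup (V ≃ₗ[F] V)) (hHM : frH B e ≤ M) (hMU : M ≤ uG B)
    (hC : CaseC B e M) (K : Subgroup ((Idx' a b → F) ≃ₗ[F] (Idx' a b → F)))
    (hK : QuotData B e a b l M K) (hcyc : CycleLemma σ (stdE F (Idx' a b))) (z : F)
    (hz : Good σ z) :
    ∀ k ∈ K, ∀ r : Idx' a b, k (stdE F (Idx' a b) r) = stdE F (Idx' a b) r →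
      IsMonoMap (stdE F (Idx' a b)) k := by
  intro k hk r hkr
  obtain ⟨m, hmM, hmp, hmk⟩ := hK.lift k hk
  have hmU : m ∈ uG B := hMU hmM
  have hz1 : z * σ z = 1 := hz.1
  have hz0 : z ≠ 0 := left_ne_zero_of_mul_eq_one hz1
  have hsz0 : σ z ≠ 0 := right_ne_zero_of_mul_eq_one hz1
  -- the key step: every `e_c`, `c ≠ r`, is (up to a scalar) in the image of the frame under `k`
  have key : ∀ c c' : Idx' a b, c ≠ c' → c ≠ r → c' ≠ r →
      ∃ j, ∃ c0 : F, k (stdE F (Idx' a b) j) = c0 • stdE F (Idx' a b) c := by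
    intro c c' hcc' hcr hc'r
    have hcc'1 : c.1 ≠ c'.1 := fun h => hcc' (Subtype.ext h)
    set w : ι → F := fun i => if i = c.1 then z else if i = c'.1 then σ z else 1 with hw
    have hwc : w c.1 = z := by simp [hw]
    have hwc' : w c'.1 = σ z := by simp [hw, Ne.symm hcc'1]
    have hwo : ∀ i, i ≠ c.1 → i ≠ c'.1 → w i = 1 := by
      intro i h1 h2
      simp [hw, h1, h2]
    have hw0 : ∀ i, w i ≠ 0 := by
      intro i
      by_cases h1 : i = c.1
      · rw [h1, hwc]; exact hz0
      · by_cases h2' : i = c'.1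
        · rw [h2', hwc']; exact hsz0
        · rw [hwo i h1 h2']; exact one_ne_zero
    have hw1 : ∀ i, w i * σ (w i) = 1 := by
      intro i
      by_cases h1 : i = c.1
      · rw [h1, hwc]; exact hz1
      · by_cases h2' : i = c'.1
        · rw [h2', hwc', hσ.invol, mul_comm]; exact hz1
        · rw [hwo i h1 h2', map_one, mul_one]
    have hprod : ∏ i, w i = 1 := by
      rw [Finset.prod_eq_mul c.1 c'.1 hcc'1 (fun i _ hi => hwo i hi.1 hi.2)
        (fun h => absurd (Finset.mem_univ _) h) (fun h => absurd (Finset.mem_univ _) h), hwc, hwc']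
      exact hz1
    obtain ⟨t, htH, ht⟩ := hmono 1 w hw1 (by
      rw [hprod, Equiv.Perm.sign_one]
      simp)
    have ht' : ∀ i, t (e i) = w i • e i := by
      intro i
      rw [ht i, Equiv.Perm.one_apply]
    have htM : t ∈ M := hHM htH
    have htU : t ∈ uG B := hMU htM
    -- `t` fixes every vector with vanishing coordinates at `c`, `c'`
    have htfix : ∀ x : V, B x (e c.1) = 0 → B x (e c'.1) = 0 → t x = x := by
      intro x h0 h0'
      conv_lhs => rw [fr_expand hfr x]
      conv_rhs => rw [fr_expand hfr x]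
      rw [map_sum]
      apply Finset.sum_congr rfl
      intro i _
      rw [map_smul, ht' i]
      by_cases h1 : i = c.1
      · rw [h1, h0, zero_smul, zero_smul]
      · by_cases h2' : i = c'.1
        · rw [h2', h0', zero_smul, zero_smul]
        · rw [hwo i h1 h2', one_smul]
    have hta : t (e a) = e a := by
      rw [ht', hwo a (Ne.symm c.2.1) (Ne.symm c'.2.1), one_smul]
    have htb' : t (e b) = e b := by
      rw [ht', hwo b (Ne.symm c.2.2) (Ne.symm c'.2.2), one_smul]
    have htp : FixesPt e a b l t := ⟨1, by rw [map_add, map_smul, hta, htb', one_smul]⟩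
    obtain ⟨tb, htbK, htb⟩ := hK.proj t htM htp
    -- `tb` is diagonal
    have htbE : ∀ s : Idx' a b, tb (stdE F (Idx' a b) s) = w s.1 • stdE F (Idx' a b) s := by
      intro s
      funext r'
      rw [htb r' s, ht' s.1, map_smul, LinearMap.smul_apply, fr_apply_eq hfr, Pi.smul_apply]
      show _ = w s.1 • (Pi.single s (1 : F) : Idx' a b → F) r'
      by_cases h : s = r'
      · subst h
        rw [if_pos rfl, Pi.single_eq_same]
      · rw [if_neg (fun h' => h (Subtype.ext h')), Pi.single_eq_of_ne (Ne.symm h)]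
    -- the relations `QRel`
    have hminv : QRel B e a b m⁻¹ k⁻¹ := hK.inv m k hmU hmp hmk
    have htinv : QRel B e a b t⁻¹ tb⁻¹ := hK.inv t tb htU htp htb
    have hmpinv : FixesPt e a b l m⁻¹ := fixesPt_inv hmp
    have htpinv : FixesPt e a b l t⁻¹ := fixesPt_inv htp
    have h1 : QRel B e a b (m⁻¹ * t) (k⁻¹ * tb) :=
      hK.mul _ _ _ _ ((uG B).inv_mem hmU) htU hmpinv htp hminv htb
    have h1p : FixesPt e a b l (m⁻¹ * t) := fixesPt_mul hmpinv htp
    have h1U : m⁻¹ * t ∈ uG B := (uG B).mul_mem ((uG B).inv_mem hmU) htU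
    have h2' : QRel B e a b (m⁻¹ * t * m) (k⁻¹ * tb * k) :=
      hK.mul _ _ _ _ h1U hmU h1p hmp h1 hmk
    have h2p : FixesPt e a b l (m⁻¹ * t * m) := fixesPt_mul h1p hmp
    have h2U : m⁻¹ * t * m ∈ uG B := (uG B).mul_mem h1U hmU
    have h3 : QRel B e a b (m⁻¹ * t * m * t⁻¹) (k⁻¹ * tb * k * tb⁻¹) :=
      hK.mul _ _ _ _ h2U ((uG B).inv_mem htU) h2p htpinv h2' htinv
    have h3p : FixesPt e a b l (m⁻¹ * t * m * t⁻¹) := fixesPt_mul h2p htpinv
    have h3M : m⁻¹ * t * m * t⁻¹ ∈ M :=
      M.mul_mem (M.mul_mem (M.mul_mem (M.inv_mem hmM) htM) hmM) (M.inv_mem htM)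
    -- `m''` fixes `e_r`
    have hter : t (e r.1) = e r.1 := by
      rw [ht', hwo r.1 (fun h => hcr (Subtype.ext h.symm)) (fun h => hc'r (Subtype.ext h.symm)),
        one_smul]
    have htinv_er : t⁻¹ (e r.1) = e r.1 := by
      conv_lhs => rw [← hter]
      exact inv_apply_apply_le t _
    have hmer0 : B (m (e r.1)) (e c.1) = 0 := by
      rw [← hmk c r, hkr]
      exact Pi.single_eq_of_ne hcr _
    have hmer0' : B (m (e r.1)) (e c'.1) = 0 := by
      rw [← hmk c' r, hkr]
      exact Pi.single_eq_of_ne hc'r _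
    have htm : t (m (e r.1)) = m (e r.1) := htfix _ hmer0 hmer0'
    have hfix : (m⁻¹ * t * m * t⁻¹) (e r.1) = e r.1 := by
      rw [LinearEquiv.mul_apply, htinv_er, LinearEquiv.mul_apply, LinearEquiv.mul_apply, htm,
        inv_apply_apply_le]
    have hMono : m⁻¹ * t * m * t⁻¹ ∈ Mono B e :=
      hC r.1 _ h3M ⟨1, by rw [hfix, one_smul]⟩
    have hk'' : IsMonoMap (stdE F (Idx' a b)) (k⁻¹ * tb * k * tb⁻¹) :=
      hK.mono_of _ hMono h3p _ h3
    have hconj : IsMonoMap (stdE F (Idx' a b)) (k⁻¹ * tb * k) := by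
      have he : k⁻¹ * tb * k = (k⁻¹ * tb * k * tb⁻¹) * tb := by group
      rw [he]
      exact isMonoMap_mul_diag hk'' (fun s => w s.1) (fun s => hw0 s.1) htbE
    refine hcyc z hz c c' hcc' tb ?_ ?_ ?_ k hconj
    · rw [htbE c, hwc]
    · rw [htbE c', hwc']
    · intro s hsc hsc'
      rw [htbE s, hwo s.1 (fun h => hsc (Subtype.ext h)) (fun h => hsc' (Subtype.ext h)), one_smul]
  -- every `e_c` is (up to a scalar) in the image of the frame under `k`
  have hall : ∀ c : Idx' a b, ∃ j, ∃ c0 : F,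
      k (stdE F (Idx' a b) j) = c0 • stdE F (Idx' a b) c := by
    intro c
    by_cases hcr : c = r
    · exact ⟨r, 1, by rw [hcr, hkr, one_smul]⟩
    · -- a third index
      have hex : ∃ c' : Idx' a b, c ≠ c' ∧ c' ≠ r := by
        by_contra hcon
        push Not at hcon
        have hsub : (Finset.univ : Finset ι) ⊆ {a, b, c.1, r.1} := by
          intro i _
          simp only [Finset.mem_insert, Finset.mem_singleton]
          by_cases hia : i = a
          · exact Or.inl hia
          · by_cases hib : i = b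
            · exact Or.inr (Or.inl hib)
            · by_cases hic : i = c.1
              · exact Or.inr (Or.inr (Or.inl hic))
              · right; right; right
                have := hcon ⟨i, hia, hib⟩ (fun h => hic (congrArg Subtype.val h).symm)
                exact congrArg Subtype.val this
        have h4 := Finset.card_le_card hsub
        rw [Finset.card_univ] at h4
        have := (Finset.card_le_four (a := a) (b := b) (c := c.1) (d := r.1))
        omega
      obtain ⟨c', hcc', hc'r⟩ := hex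
      exact key c c' hcc' hcr hc'r
  choose f c0 hf using hall
  have hE0 : ∀ s : Idx' a b, stdE F (Idx' a b) s ≠ 0 := by
    intro s h
    have := congrFun h s
    rw [show stdE F (Idx' a b) s s = 1 from Pi.single_eq_same s 1] at this
    exact one_ne_zero this
  have hc00 : ∀ c, c0 c ≠ 0 := by
    intro c h
    have h' := hf c
    rw [h, zero_smul] at h'
    exact hE0 _ (k.injective (by rw [h', map_zero]))
  have hinj : Function.Injective f := by
    intro c c' hcc'
    by_contra hne
    have h1 := hf c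
    rw [hcc', hf c'] at h1
    have h3 := congrFun h1 c
    rw [Pi.smul_apply, Pi.smul_apply,
      show stdE F (Idx' a b) c c = 1 from Pi.single_eq_same c 1,
      show stdE F (Idx' a b) c' c = 0 from Pi.single_eq_of_ne hne 1, smul_zero, smul_eq_mul,
      mul_one] at h3
    exact hc00 c h3.symm
  have hbij : Function.Bijective f := Finite.injective_iff_bijective.mp hinj
  refine ⟨(Equiv.ofBijective f hbij).symm, fun i => ?_⟩
  refine ⟨c0 ((Equiv.ofBijective f hbij).symm i), hc00 _, ?_⟩
  have hfi : f ((Equiv.ofBijective f hbij).symm i) = i :=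
    (Equiv.ofBijective f hbij).apply_symm_apply i
  have := hf ((Equiv.ofBijective f hbij).symm i)
  rw [hfi] at this
  exact this

end Cfsg.Agent.Lib.Helper63_FrC_PK16
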