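import Mathlib
import Cfsg.Agent.Lib.Helper83_FrCDefs

set_option autoImplicit false
set_option linter.unusedVariables false
set_option linter.unusedSectionVars false

/-!
helper73 — small common lemmas for the packages PK09 / PK12 of helper83's S5655 case (C) market:
coordinates of the image under a diagonal map, sums and products of functions supported on
four indices.
-/

namespace Cfsg.Agent.Lib.Helper73_FrC_Common

open Module Cfsg.Agent.Lib.Helper94_Herm Cfsg.Agent.Lib.Helper13_PSUSimple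
  Cfsg.Agent.Lib.Helper94_FrmDefs Cfsg.Agent.Lib.Helper83_FrCDefs

variable {F V ι : Type*} [Field F] [AddCommGroup V] [Module F V] [Fintype ι] [DecidableEq ι]
variable {σ : F →+* F} {B : V →ₗ[F] V →ₛₗ[σ] F} {e : ι → V}

/-- coordinates of the image of a vector under a map which is diagonal on the frame -/
theorem diag_coord (hfr : OFrame B e) (s : V ≃ₗ[F] V) (w : ι → F)
    (hs : ∀ i, s (e i) = w i • e i) (y : V) (r : ι) : B (s y) (e r) = w r * B y (e r) := by
  have h1 : s y = ∑ j, (B y (e j) * w j) • e j := by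
    conv_lhs => rw [fr_expand hfr y]
    rw [map_sum]
    refine Finset.sum_congr rfl (fun j _ => ?_)
    rw [map_smul, hs j, smul_smul]
  rw [h1]
  have h2 := fr_coord_sum hfr (fun j => B y (e j) * w j) r
  rw [h2, mul_comm]

/-- a map which is the identity on the frame is the identity -/
theorem eq_one_of_frame (hfr : OFrame B e) (s : V ≃ₗ[F] V) (hs : ∀ i, s (e i) = e i) : s = 1 := by
  apply LinearEquiv.ext
  intro y
  apply fr_ext_coord hfr
  intro r
  rw [diag_coord hfr s (fun _ => 1) (fun i => by rw [hs i, one_smul]) y r, one_mul]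
  rfl

theorem sum4 {A : Type*} [AddCommMonoid A] (f : ι → A) (r1 r2 r3 r4 : ι) (h12 : r1 ≠ r2)
    (h13 : r1 ≠ r3) (h14 : r1 ≠ r4) (h23 : r2 ≠ r3) (h24 : r2 ≠ r4) (h34 : r3 ≠ r4)
    (h0 : ∀ r, r ≠ r1 → r ≠ r2 → r ≠ r3 → r ≠ r4 → f r = 0) :
    ∑ r, f r = f r1 + f r2 + f r3 + f r4 := by
  rw [← Finset.sum_subset (Finset.subset_univ ({r1, r2, r3, r4} : Finset ι))]
  · rw [Finset.sum_insert (by simp [h12, h13, h14]), Finset.sum_insert (by simp [h23, h24]),
      Finset.sum_insert (by simp [h34]), Finset.sum_singleton, add_assoc, add_assoc]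
  · intro r _ hr
    simp only [Finset.mem_insert, Finset.mem_singleton, not_or] at hr
    exact h0 r hr.1 hr.2.1 hr.2.2.1 hr.2.2.2

theorem prod4 {A : Type*} [CommMonoid A] (f : ι → A) (r1 r2 r3 r4 : ι) (h12 : r1 ≠ r2)
    (h13 : r1 ≠ r3) (h14 : r1 ≠ r4) (h23 : r2 ≠ r3) (h24 : r2 ≠ r4) (h34 : r3 ≠ r4)
    (h0 : ∀ r, r ≠ r1 → r ≠ r2 → r ≠ r3 → r ≠ r4 → f r = 1) :
    ∏ r, f r = f r1 * f r2 * f r3 * f r4 := by
  rw [← Finset.prod_subset (Finset.subset_univ ({r1, r2, r3, r4} : Finset ι))]
  · rw [Finset.prod_insert (by simp [h12, h13, h14]), Finset.prod_insert (by simp [h23, h24]),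
      Finset.prod_insert (by simp [h34]), Finset.prod_singleton, mul_assoc, mul_assoc]
  · intro r _ hr
    simp only [Finset.mem_insert, Finset.mem_singleton, not_or] at hr
    exact h0 r hr.1 hr.2.1 hr.2.2.1 hr.2.2.2

end Cfsg.Agent.Lib.Helper73_FrC_Common
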