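import Mathlib
import Cfsg.Agent.Lib.Helper83_FrCDefs
import Cfsg.Agent.Lib.Helper73_FrC_Common

set_option autoImplicit false
set_option linter.unusedVariables false
set_option linter.unusedSectionVars false

/-!
helper73 — package PK09 of helper83's S5655 case (C) market: paper (2.2).
A diagonal element `s ≠ 1` of `H` with at most four entries `≠ 1`: if `g ∈ M` and `g⁻¹ s g` is
monomial then `g` is monomial (rank lemma with `l = 1`, `r = 4`; `det s = 1` gives two entries
`≠ 1`; (2.1)).
-/

namespace Cfsg.Agent.Lib.Helper73_FrC_PK09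

open Module Cfsg.Agent.Lib.Helper94_Herm Cfsg.Agent.Lib.Helper13_PSUSimple
  Cfsg.Agent.Lib.Helper94_FrmDefs Cfsg.Agent.Lib.Helper83_FrCDefs

open Cfsg.Agent.Lib.Helper73_FrC_Common

variable {F V ι : Type*} [Field F] [AddCommGroup V] [Module F V] [Fintype ι] [DecidableEq ι]
variable {σ : F →+* F} {B : V →ₗ[F] V →ₛₗ[σ] F} {e : ι → V}

/-- PK09. paper (2.2). -/
theorem p22 (hσ : Invol σ) (hB : IsHerm B) (hfr : OFrame B e) (hdet : HasDet F e)
    (hrank : RankLemma F e) (h13 : 13 ≤ Fintype.card ι) (M : Subgroup (V ≃ₗ[F] V))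
    (hMU : M ≤ uG B) (h21 : P21 B e M) : P22 B e M := by
  intro s hs hdiag hs1 S hS hSfix g hg hconj
  by_contra hgM
  classical
  haveI := fr_finiteDimensional hfr
  choose c hc using hdiag
  -- the diagonal entries outside `S` are one
  have hcS : ∀ i, i ∉ S → c i = 1 := by
    intro i hi
    have h1 := hSfix i hi
    rw [hc i] at h1
    have h2 : (c i - 1) • e i = 0 := by rw [sub_smul, one_smul, h1, sub_self]
    rcases smul_eq_zero.mp h2 with h | h
    · exact sub_eq_zero.mp h
    · exact absurd h (fr_ne_zero hfr i)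
  -- the determinant
  have hprod : ∏ i, c i = 1 := by
    have h1 := hdet s 1 c (fun i => by rw [hc i]; rfl)
    have h2 : LinearEquiv.det s = 1 := (mem_SUg.mp (frH_le_SUg hs)).2
    rw [h2] at h1
    simpa using h1.symm
  -- two entries different from one
  obtain ⟨a, ha⟩ : ∃ a, c a ≠ 1 := by
    by_contra hall
    push Not at hall
    exact hs1 (eq_one_of_frame hfr s (fun i => by rw [hc i, hall i, one_smul]))
  obtain ⟨b, hba, hb⟩ : ∃ b, b ≠ a ∧ c b ≠ 1 := by
    by_contra hall
    push Not at hall
    have h1 : ∏ i, c i = c a :=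
      Finset.prod_eq_single a (fun b _ hb => hall b hb) (fun h => absurd (Finset.mem_univ a) h)
    exact ha (h1.symm.trans hprod)
  -- the range of `s - 1`
  set U0 : Submodule F V := Submodule.span F ((S.image e : Finset V) : Set V) with hU0def
  have hU0 : finrank F U0 ≤ 4 :=
    (finrank_span_finset_le_card _).trans (Finset.card_image_le.trans hS)
  have hsy : ∀ y, s y - y ∈ U0 := by
    intro y
    have h1 : s y - y = ∑ r, ((c r - 1) * B y (e r)) • e r := by
      apply fr_ext_coord hfr
      intro r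
      rw [map_sub, LinearMap.sub_apply, diag_coord hfr s c hc, fr_coord_sum hfr]
      ring
    rw [h1]
    apply Submodule.sum_mem
    intro r _
    by_cases hr : r ∈ S
    · apply Submodule.smul_mem
      apply Submodule.subset_span
      rw [Finset.mem_coe, Finset.mem_image]
      exact ⟨r, hr, rfl⟩
    · rw [hcS r hr, sub_self, zero_mul, zero_smul]
      exact Submodule.zero_mem _
  set U : Submodule F V := U0.map ((g⁻¹ : V ≃ₗ[F] V) : V →ₗ[F] V) with hUdef
  have hU : finrank F U ≤ 4 := (Submodule.finrank_map_le _ _).trans hU0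
  have hmx : ∀ x, (g⁻¹ * s * g) x - (1 : F) • x ∈ U := by
    intro x
    rw [one_smul]
    refine ⟨s (g x) - g x, hsy _, ?_⟩
    rw [LinearEquiv.coe_coe, map_sub, LinearEquiv.mul_apply, LinearEquiv.mul_apply,
      Cfsg.Agent.Lib.Helper94_Symp.inv_apply_apply']
  have hcnt := hrank (g⁻¹ * s * g) ((mem_Mono_iff B e).mp hconj).2 1 one_ne_zero U hmx 4 hU
  -- a fixed frame vector of the conjugate
  obtain ⟨i, hi⟩ : ∃ i, (g⁻¹ * s * g) (e i) = (1 : F) • e i := by
    by_contra hne
    push Not at hne
    have h1 : {i | (g⁻¹ * s * g) (e i) ≠ (1 : F) • e i} = Set.univ := Set.eq_univ_of_forall hne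
    rw [h1, Set.ncard_univ, Nat.card_eq_fintype_card] at hcnt
    omega
  have hfix : s (g (e i)) = g (e i) := by
    rw [one_smul, LinearEquiv.mul_apply, LinearEquiv.mul_apply] at hi
    have h1 := congrArg g hi
    rwa [Cfsg.Agent.Lib.Helper94_Symp.apply_inv_apply'] at h1
  -- the two zero coordinates
  have hzero : ∀ r, c r ≠ 1 → B (g (e i)) (e r) = 0 := by
    intro r hr
    have h1 := diag_coord hfr s c hc (g (e i)) r
    rw [hfix] at h1
    have h2 : (c r - 1) * B (g (e i)) (e r) = 0 := by linear_combination -h1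
    rcases mul_eq_zero.mp h2 with h | h
    · exact absurd (sub_eq_zero.mp h) hr
    · exact h
  exact h21 g hg hgM i a b (Ne.symm hba) (hzero a ha) (hzero b hb)

end Cfsg.Agent.Lib.Helper73_FrC_PK09
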