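import Mathlib
import Cfsg.Agent.Lib.Helper83_FrCDefs
import Cfsg.Agent.Lib.Helper73_FrC_Common

set_option autoImplicit false
set_option linter.unusedVariables false
set_option linter.unusedSectionVars false

/-!
helper73 — package PK12 of helper83's S5655 case (C) market: paper (2.4) and (2.5).
(2.4): orthogonal points of the orbit lie in the same frame.
(2.5): the colours `N (x_r)` of a column of a non-monomial element of `M` have no two disjoint
monochromatic pairs (via `s = diag(z, σ z, x, σ x)` and the pigeonhole on norms).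
-/

namespace Cfsg.Agent.Lib.Helper73_FrC_PK12

open Module Cfsg.Agent.Lib.Helper94_Herm Cfsg.Agent.Lib.Helper13_PSUSimple
  Cfsg.Agent.Lib.Helper94_FrmDefs Cfsg.Agent.Lib.Helper83_FrCDefs

open Cfsg.Agent.Lib.Helper73_FrC_Common

variable {F V ι : Type*} [Field F] [AddCommGroup V] [Module F V] [Fintype ι] [DecidableEq ι]
variable {σ : F →+* F} {B : V →ₗ[F] V →ₛₗ[σ] F} {e : ι → V}

/-- PK12a. paper (2.4). -/
theorem p24 (hB : IsHerm B) (M : Subgroup (V ≃ₗ[F] V)) (hMU : M ≤ uG B) (h23 : P23 B e M) :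
    P24 B e M := by
  intro g hg g' hg' i j h0
  by_contra hk
  have hkM : g⁻¹ * g' ∈ M := M.mul_mem (M.inv_mem hg) hg'
  apply h23 (g⁻¹ * g') hkM hk j i
  rw [LinearEquiv.mul_apply, uG_inv_apply B (hMU hg), hB (g (e i)) (g' (e j)), h0, map_zero]

/-- PK12b. paper (2.5). -/
theorem p25 (hσ : Invol σ) (hB : IsHerm B) (hfr : OFrame B e) (hmono : HasMono B e)
    (hpig : ∀ c c' : F, σ c = c → σ c' = c' → c ≠ 0 → c' ≠ 0 → ∃ z x : F, z * σ z = 1 ∧
      x * σ x = 1 ∧ c * ((z - 1) * σ (z - 1)) + c' * ((x - 1) * σ (x - 1)) = 1)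
    (M : Subgroup (V ≃ₗ[F] V)) (hHM : frH B e ≤ M) (hMU : M ≤ uG B) (h22 : P22 B e M)
    (h23 : P23 B e M) (h24 : P24 B e M) : P25 B e M := by
  intro g hg hgM i r1 r2 r3 r4 h12 h13 h14 h23' h24' h34 hc12 hc34
  -- the column and its colours
  set y : V := g (e i) with hy
  set c : ι → F := fun r => B y (e r) * σ (B y (e r)) with hcdef
  have hyr : ∀ r, B y (e r) ≠ 0 := fun r => h23 g hg hgM i r
  have hσyr : ∀ r, σ (B y (e r)) ≠ 0 := fun r => (map_ne_zero σ).2 (hyr r)
  have hσc : ∀ r, σ (c r) = c r := by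
    intro r
    simp only [hcdef, map_mul, hσ.invol]
    ring
  have hc0 : ∀ r, c r ≠ 0 := fun r => mul_ne_zero (hyr r) (hσyr r)
  have hc12' : c r1 = c r2 := hc12
  have hc34' : c r3 = c r4 := hc34
  have hsumc : ∑ r, c r = 1 := by
    have h1 := fr_form_eq hfr y y
    rw [hy, hMU hg, hfr.unit i] at h1
    exact h1.symm
  -- the pigeonhole
  obtain ⟨z, x, hz, hx, hzx⟩ := hpig (c r1) (c r3) (hσc r1) (hσc r3) (hc0 r1) (hc0 r3)
  rw [map_sub, map_sub, map_one] at hzx
  have hσz : σ z * σ (σ z) = 1 := by rw [hσ.invol, mul_comm]; exact hz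
  have hσx : σ x * σ (σ x) = 1 := by rw [hσ.invol, mul_comm]; exact hx
  -- the diagonal element
  set w : ι → F := fun r => if r = r1 then z else if r = r2 then σ z else if r = r3 then x else
    if r = r4 then σ x else 1 with hwdef
  have hw1 : w r1 = z := by simp [hwdef]
  have hw2 : w r2 = σ z := by simp [hwdef, h12.symm]
  have hw3 : w r3 = x := by simp [hwdef, h13.symm, h23'.symm]
  have hw4 : w r4 = σ x := by simp [hwdef, h14.symm, h24'.symm, h34.symm]
  have hw0 : ∀ r, r ≠ r1 → r ≠ r2 → r ≠ r3 → r ≠ r4 → w r = 1 := by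
    intro r h1 h2 h3 h4
    simp [hwdef, h1, h2, h3, h4]
  have hwn : ∀ r, w r * σ (w r) = 1 := by
    intro r
    by_cases h1 : r = r1
    · rw [h1, hw1]; exact hz
    by_cases h2 : r = r2
    · rw [h2, hw2]; exact hσz
    by_cases h3 : r = r3
    · rw [h3, hw3]; exact hx
    by_cases h4 : r = r4
    · rw [h4, hw4]; exact hσx
    rw [hw0 r h1 h2 h3 h4, map_one, one_mul]
  have hwprod : ∏ r, w r = 1 := by
    rw [prod4 w r1 r2 r3 r4 h12 h13 h14 h23' h24' h34 hw0, hw1, hw2, hw3, hw4]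
    linear_combination (x * σ x) * hz + hx
  obtain ⟨s, hs, hse⟩ := hmono 1 w hwn (by
    rw [Equiv.Perm.sign_one, hwprod]
    simp)
  have hse' : ∀ r, s (e r) = w r • e r := fun r => by rw [hse r]; rfl
  -- `s ≠ 1`
  have hs1 : s ≠ 1 := by
    intro h1
    have e1 : ∀ r, w r = 1 := by
      intro r
      have h2 := hse' r
      rw [h1, LinearEquiv.coe_one, id_eq] at h2
      have h3 : (w r - 1) • e r = 0 := by rw [sub_smul, one_smul, ← h2, sub_self]
      rcases smul_eq_zero.mp h3 with h | h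
      · exact sub_eq_zero.mp h
      · exact absurd h (fr_ne_zero hfr r)
    have ez : z = 1 := by rw [← hw1]; exact e1 r1
    have ex : x = 1 := by rw [← hw3]; exact e1 r3
    rw [ez, ex, map_one] at hzx
    simp at hzx
  -- `s y` is orthogonal to `y`
  have horth : B (s y) y = 0 := by
    rw [fr_form_eq hfr (s y) y]
    have h1 : ∀ r, B (s y) (e r) * σ (B y (e r)) = c r + (w r - 1) * c r := by
      intro r
      rw [diag_coord hfr s w hse' y r]
      simp only [hcdef]
      ring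
    rw [Finset.sum_congr rfl (fun r _ => h1 r), Finset.sum_add_distrib, hsumc,
      sum4 (fun r => (w r - 1) * c r) r1 r2 r3 r4 h12 h13 h14 h23' h24' h34
        (fun r h1 h2 h3 h4 => by
          show (w r - 1) * c r = 0
          rw [hw0 r h1 h2 h3 h4, sub_self, zero_mul])]
    show 1 + ((w r1 - 1) * c r1 + (w r2 - 1) * c r2 + (w r3 - 1) * c r3 + (w r4 - 1) * c r4) = 0
    rw [hw1, hw2, hw3, hw4, ← hc12', ← hc34']
    linear_combination (-1 : F) * hzx + c r1 * hz + c r3 * hx
  -- (2.4) and (2.2)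
  have hsM : s ∈ M := hHM hs
  have h1 := h24 (s * g) (M.mul_mem hsM hg) g hg i i (by
    rw [LinearEquiv.mul_apply]
    exact horth)
  have h2 : g⁻¹ * s * g ∈ Mono B e := by
    have h3 : g⁻¹ * s * g = ((s * g)⁻¹ * g)⁻¹ := by group
    rw [h3]
    exact (Mono B e).inv_mem h1
  apply hgM
  refine h22 s hs (fun r => ⟨w r, hse' r⟩) hs1 {r1, r2, r3, r4} Finset.card_le_four ?_ g hg h2
  intro r hr
  simp only [Finset.mem_insert, Finset.mem_singleton, not_or] at hr
  rw [hse' r, hw0 r hr.1 hr.2.1 hr.2.2.1 hr.2.2.2, one_smul]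

end Cfsg.Agent.Lib.Helper73_FrC_PK12
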