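/-
helper79 — package PK18 of helper83's market S5655 case (C): paper (E8).
-/
import Mathlib
import Cfsg.Agent.Lib.Helper83_FrCDefs

set_option autoImplicit false
set_option linter.unusedVariables false
set_option linter.unusedSectionVars false

namespace Cfsg.Agent.Lib.Helper79_FrC_PK18

open Module Cfsg.Agent.Lib.Helper94_Herm Cfsg.Agent.Lib.Helper13_PSUSimple
  Cfsg.Agent.Lib.Helper94_FrmDefs Cfsg.Agent.Lib.Helper83_FrCDefs

variable {F V ι : Type*} [Field F] [AddCommGroup V] [Module F V] [Fintype ι] [DecidableEq ι]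
variable {σ : F →+* F} {B : V →ₗ[F] V →ₛₗ[σ] F} {e : ι → V}

/-- PK18. paper (E8). -/
theorem pE8 (hσ : Invol σ) (hB : IsHerm B) (hfr : OFrame B e) (hmono : HasMono B e)
    (M : Subgroup (V ≃ₗ[F] V)) (hHM : frH B e ≤ M) (hMU : M ≤ uG B) (h22 : P22 B e M) (hE7 : PE7 B e M) (z : F)
    (hz : Good σ z) : PE8 B e M := by
  intro g hg hgM a b hab l hl c c' hcc' h0 h0'
  apply hgM
  obtain ⟨hz1, hz3, hz4⟩ := hz
  have hzne : z ≠ 1 := by
    intro h
    apply hz3
    rw [h, one_pow]
  -- the diagonal element `d = d_{cc'}(z)`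
  set w : ι → F := fun i => if i = c then z else if i = c' then σ z else 1 with hw
  have hwc : w c = z := by simp [hw]
  have hwc' : w c' = σ z := by simp [hw, Ne.symm hcc']
  have hwo : ∀ i, i ≠ c → i ≠ c' → w i = 1 := by
    intro i h1 h2
    simp [hw, h1, h2]
  have hw1 : ∀ i, w i * σ (w i) = 1 := by
    intro i
    by_cases h1 : i = c
    · rw [h1, hwc]; exact hz1
    · by_cases h2 : i = c'
      · rw [h2, hwc', hσ.invol, mul_comm]; exact hz1
      · rw [hwo i h1 h2, map_one, mul_one]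
  have hprod : ∏ i, w i = 1 := by
    rw [Finset.prod_eq_mul c c' hcc' (fun i _ hi => hwo i hi.1 hi.2)
      (fun h => absurd (Finset.mem_univ _) h) (fun h => absurd (Finset.mem_univ _) h), hwc, hwc']
    exact hz1
  obtain ⟨d, hdH, hd⟩ := hmono 1 w hw1 (by
    rw [hprod, Equiv.Perm.sign_one]
    simp)
  have hd' : ∀ i, d (e i) = w i • e i := by
    intro i
    rw [hd i, Equiv.Perm.one_apply]
  -- `d` fixes `x = g p`
  set x : V := g (e a + l • e b) with hx
  have hdx : d x = x := by
    conv_lhs => rw [fr_expand hfr x]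
    conv_rhs => rw [fr_expand hfr x]
    rw [map_sum]
    apply Finset.sum_congr rfl
    intro i _
    rw [map_smul, hd' i]
    by_cases h1 : i = c
    · rw [h1, h0, zero_smul, zero_smul]
    · by_cases h2 : i = c'
      · rw [h2, h0', zero_smul, zero_smul]
      · rw [hwo i h1 h2, one_smul]
  -- `m = g⁻¹ d g` fixes `p`
  have hdM : d ∈ M := hHM hdH
  have hm : g⁻¹ * d * g ∈ M := M.mul_mem (M.mul_mem (M.inv_mem hg) hdM) hg
  have hmp : (g⁻¹ * d * g) (e a + l • e b) = (1 : F) • (e a + l • e b) := by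
    rw [LinearEquiv.mul_apply, LinearEquiv.mul_apply, ← hx, hdx, hx, one_smul]
    show g⁻¹ (g (e a + l • e b)) = e a + l • e b
    rw [← LinearEquiv.mul_apply, inv_mul_cancel]
    rfl
  have hmMono : g⁻¹ * d * g ∈ Mono B e := hE7 a b hab l hl _ hm ⟨1, hmp⟩
  -- apply (2.2)
  have hd1 : d ≠ 1 := by
    intro h
    have h1 := hd' c
    rw [h, hwc] at h1
    change e c = z • e c at h1
    have h2 : (z - 1) • e c = 0 := by rw [sub_smul, one_smul, ← h1, sub_self]
    rcases smul_eq_zero.1 h2 with h3 | h3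
    · exact hzne (sub_eq_zero.1 h3)
    · exact fr_ne_zero hfr c h3
  refine h22 d hdH (fun i => ⟨w i, hd' i⟩) hd1 {c, c'} ?_ ?_ g hg hmMono
  · exact le_trans (Finset.card_insert_le _ _) (by simp)
  · intro i hi
    rw [Finset.mem_insert, Finset.mem_singleton] at hi
    push Not at hi
    rw [hd' i, hwo i hi.1 hi.2, one_smul]

end Cfsg.Agent.Lib.Helper79_FrC_PK18
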