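import Mathlib
import Cfsg.Agent.Lib.Helper83_FrCDefs

set_option autoImplicit false
set_option linter.unusedVariables false
set_option linter.unusedSectionVars false

/-!
S5655 case (C), package PK05 (helper7): the rank lemmas (R), (R2) for monomial maps.
-/

namespace Cfsg.Agent.Lib.Helper7_FrC_PK05

open Module Cfsg.Agent.Lib.Helper94_Herm Cfsg.Agent.Lib.Helper13_PSUSimple
  Cfsg.Agent.Lib.Helper94_FrmDefs Cfsg.Agent.Lib.Helper83_FrCDefs

variable {F V ι : Type*} [Field F] [AddCommGroup V] [Module F V] [Fintype ι] [DecidableEq ι]
variable {σ : F →+* F} {B : V →ₗ[F] V →ₛₗ[σ] F} {e : ι → V}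

/-- greedy choice: `S ⊆ A`, `|A| ≤ 3 |S|`, and `π i ∉ S` for `i ∈ S` with `π i ≠ i`. -/
lemma greedy3 (π : Equiv.Perm ι) : ∀ (n : ℕ) (A : Finset ι), A.card = n →
    ∃ S : Finset ι, S ⊆ A ∧ A.card ≤ 3 * S.card ∧ ∀ i ∈ S, π i ≠ i → π i ∉ S := by
  intro n
  induction n using Nat.strong_induction_on with
  | _ n ih =>
    intro A hA
    rcases A.eq_empty_or_nonempty with h0 | ⟨i, hi⟩
    · exact ⟨∅, by simp, by simp [h0], by simp⟩
    · set A' : Finset ι := A \ {i, π i, π.symm i} with hA'
      have hlt : A'.card < n := by
        rw [← hA]
        apply Finset.card_lt_card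
        refine ⟨Finset.sdiff_subset, fun hsub => ?_⟩
        have := hsub hi
        rw [hA', Finset.mem_sdiff] at this
        exact this.2 (by simp)
      obtain ⟨S', hS'A, hcard, hS'⟩ := ih A'.card hlt A' rfl
      have hiS' : i ∉ S' := by
        intro h
        have := hS'A h
        rw [hA', Finset.mem_sdiff] at this
        exact this.2 (by simp)
      have hπiS' : π i ∉ S' := by
        intro h
        have := hS'A h
        rw [hA', Finset.mem_sdiff] at this
        exact this.2 (by simp)
      have hπsiS' : π.symm i ∉ S' := by
        intro h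
        have := hS'A h
        rw [hA', Finset.mem_sdiff] at this
        exact this.2 (by simp)
      refine ⟨insert i S', ?_, ?_, ?_⟩
      · intro j hj
        rw [Finset.mem_insert] at hj
        rcases hj with rfl | hj
        · exact hi
        · exact Finset.sdiff_subset (hS'A hj)
      · rw [Finset.card_insert_of_notMem hiS']
        have h3 : ({i, π i, π.symm i} : Finset ι).card ≤ 3 := Finset.card_le_three
        have h4 : A.card ≤ A'.card + ({i, π i, π.symm i} : Finset ι).card := by
          rw [hA']
          have := Finset.card_le_card_sdiff_add_card (s := A) (t := ({i, π i, π.symm i} : Finset ι))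
          omega
        omega
      · intro j hj hπj
        rw [Finset.mem_insert] at hj ⊢
        rcases hj with rfl | hj
        · rintro (h | h)
          · exact hπj h
          · exact hπiS' h
        · rintro (h | h)
          · apply hπsiS'
            rw [← h, Equiv.symm_apply_apply]
            exact hj
          · exact hS' j hj hπj h

/-- greedy choice for an involution: `S ⊆ A`, `|A| ≤ 2 |S|`, and `π i ∉ S` for `i ∈ S`. -/
lemma greedy2 (π : Equiv.Perm ι) (hπ : ∀ i, π (π i) = i) : ∀ (n : ℕ) (A : Finset ι), A.card = n →
    (∀ i ∈ A, π i ≠ i) →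
    ∃ S : Finset ι, S ⊆ A ∧ A.card ≤ 2 * S.card ∧ ∀ i ∈ S, π i ∉ S := by
  intro n
  induction n using Nat.strong_induction_on with
  | _ n ih =>
    intro A hA hmove
    rcases A.eq_empty_or_nonempty with h0 | ⟨i, hi⟩
    · exact ⟨∅, by simp, by simp [h0], by simp⟩
    · set A' : Finset ι := A \ {i, π i} with hA'
      have hlt : A'.card < n := by
        rw [← hA]
        apply Finset.card_lt_card
        refine ⟨Finset.sdiff_subset, fun hsub => ?_⟩
        have := hsub hi
        rw [hA', Finset.mem_sdiff] at this
        exact this.2 (by simp)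
      obtain ⟨S', hS'A, hcard, hS'⟩ := ih A'.card hlt A' rfl
        (fun j hj => hmove j (Finset.sdiff_subset hj))
      have hiS' : i ∉ S' := by
        intro h
        have := hS'A h
        rw [hA', Finset.mem_sdiff] at this
        exact this.2 (by simp)
      have hπiS' : π i ∉ S' := by
        intro h
        have := hS'A h
        rw [hA', Finset.mem_sdiff] at this
        exact this.2 (by simp)
      refine ⟨insert i S', ?_, ?_, ?_⟩
      · intro j hj
        rw [Finset.mem_insert] at hj
        rcases hj with rfl | hj
        · exact hi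
        · exact Finset.sdiff_subset (hS'A hj)
      · rw [Finset.card_insert_of_notMem hiS']
        have h3 : ({i, π i} : Finset ι).card ≤ 2 := Finset.card_le_two
        have h4 : A.card ≤ A'.card + ({i, π i} : Finset ι).card := by
          rw [hA']
          have := Finset.card_le_card_sdiff_add_card (s := A) (t := ({i, π i} : Finset ι))
          omega
        omega
      · intro j hj
        rw [Finset.mem_insert] at hj ⊢
        rcases hj with rfl | hj
        · rintro (h | h)
          · exact hmove j hi h
          · exact hπiS' h
        · rintro (h | h)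
          · apply hπiS'
            rw [← h, hπ]
            exact hj
          · exact hS' j hj h

/-- vectors in `U` with "triangular" coordinates on `S` are independent, so `|S| ≤ dim U`. -/
lemma card_le_finrank (hfr : OFrame B e) (S : Finset ι) (v : ι → V) (d : ι → F)
    (hd : ∀ j ∈ S, d j ≠ 0) (hdiag : ∀ j ∈ S, B (v j) (e j) = d j)
    (hoff : ∀ i ∈ S, ∀ j ∈ S, i ≠ j → B (v i) (e j) = 0)
    (U : Submodule F V) (hU : ∀ i ∈ S, v i ∈ U) : S.card ≤ finrank F U := by
  have hfd : FiniteDimensional F V := fr_finiteDimensional hfr
  have hli : LinearIndependent F (fun i : S => v i.1) := by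
    rw [Fintype.linearIndependent_iff]
    intro a ha j
    have h1 := congrArg (fun x => B x (e j.1)) ha
    simp only [map_sum, map_smul, LinearMap.sum_apply, LinearMap.smul_apply, smul_eq_mul,
      map_zero, LinearMap.zero_apply] at h1
    rw [Finset.sum_eq_single j] at h1
    · rw [hdiag j.1 j.2] at h1
      rcases mul_eq_zero.mp h1 with h | h
      · exact h
      · exact absurd h (hd j.1 j.2)
    · intro i _ hij
      rw [hoff i.1 i.2 j.1 j.2 (fun h => hij (Subtype.ext h)), mul_zero]
    · intro h
      exact absurd (Finset.mem_univ j) h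
  have h2 : finrank F (Submodule.span F (Set.range (fun i : S => v i.1))) = Fintype.card S :=
    finrank_span_eq_card hli
  have h3 : Submodule.span F (Set.range (fun i : S => v i.1)) ≤ U := by
    rw [Submodule.span_le]
    rintro _ ⟨i, rfl⟩
    exact hU i.1 i.2
  have h4 := Submodule.finrank_mono h3
  rw [h2, Fintype.card_coe] at h4
  exact h4

/-- PK05a. the rank lemma (R). -/
theorem rankLemma (hfr : OFrame B e) : RankLemma F e := by
  classical
  intro m hm l hl U hU r hr
  obtain ⟨π, hπ⟩ := hm
  choose c hc0 hc using hπ
  set A : Finset ι := Finset.univ.filter (fun i => m (e i) ≠ l • e i) with hA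
  have hset : {i | m (e i) ≠ l • e i} = (A : Set ι) := by
    ext i
    simp [hA]
  rw [hset, Set.ncard_coe_finset]
  obtain ⟨S, hSA, hcard, hS⟩ := greedy3 π A.card A rfl
  have hle : S.card ≤ finrank F U := by
    refine card_le_finrank hfr S (fun i => m (e i) - l • e i)
      (fun j => if π j = j then c j - l else -l) ?_ ?_ ?_ U (fun i _ => hU (e i))
    · intro j hj
      by_cases h : π j = j
      · rw [if_pos h]
        intro h0
        have hjA := hSA hj
        rw [hA, Finset.mem_filter] at hjA
        apply hjA.2
        rw [hc j, h, sub_eq_zero.mp h0]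
      · rw [if_neg h]
        exact neg_ne_zero.mpr hl
    · intro j hj
      show B (m (e j) - l • e j) (e j) = _
      rw [hc j, map_sub, LinearMap.sub_apply, map_smul, map_smul, LinearMap.smul_apply,
        LinearMap.smul_apply, smul_eq_mul, smul_eq_mul, fr_apply_eq hfr, fr_apply_eq hfr]
      by_cases h : π j = j
      · rw [if_pos h, if_pos rfl, if_pos h]; ring
      · rw [if_neg h, if_pos rfl, if_neg h]; ring
    · intro i hi j hj hij
      show B (m (e i) - l • e i) (e j) = 0
      rw [hc i, map_sub, LinearMap.sub_apply, map_smul, map_smul, LinearMap.smul_apply,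
        LinearMap.smul_apply, smul_eq_mul, smul_eq_mul, fr_apply_eq hfr, fr_apply_eq hfr,
        if_neg hij]
      have : π i ≠ j := by
        intro h
        have h1 : π i ≠ i := fun h' => hij (h'.symm.trans h)
        exact hS i hi h1 (h ▸ hj)
      rw [if_neg this]; ring
  omega

/-- PK05b. involutive version: one index from each 2-cycle of `π`. -/
theorem rankLemmaInvol (hfr : OFrame B e) : RankLemmaInvol F e := by
  classical
  intro m hm hmm U hU r hr
  obtain ⟨π, hπ⟩ := hm
  choose c hc0 hc using hπ
  have hli := fr_linearIndependent hfr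
  have hinj : ∀ i j (a b : F), a ≠ 0 → a • e i = b • e j → i = j := by
    intro i j a b ha h
    by_contra hij
    have h1 := congrArg (fun x => B x (e i)) h
    simp only [map_smul, LinearMap.smul_apply, smul_eq_mul] at h1
    rw [fr_apply_eq hfr, fr_apply_eq hfr, if_pos rfl, if_neg (fun h' => hij h'.symm), mul_one,
      mul_zero] at h1
    exact ha h1
  have hππ : ∀ i, π (π i) = i := by
    intro i
    have h1 : m (m (e i)) = e i := by
      have := LinearEquiv.congr_fun hmm (e i)
      simpa using this
    rw [hc i, map_smul, hc (π i), smul_smul] at h1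
    have h2 : (c i * c (π i)) • e (π (π i)) = (1 : F) • e i := by rw [h1, one_smul]
    exact hinj _ _ _ _ (mul_ne_zero (hc0 i) (hc0 (π i))) h2
  set A : Finset ι := Finset.univ.filter (fun i => π i ≠ i) with hA
  have hset : {i | ∀ a : F, m (e i) ≠ a • e i} = (A : Set ι) := by
    ext i
    simp only [Set.mem_ofPred_eq, hA, Finset.coe_filter, Finset.mem_univ, true_and]
    constructor
    · intro h hπi
      apply h (c i)
      rw [hc i, hπi]
    · intro h a ha
      rw [hc i] at ha
      exact h (hinj _ _ _ _ (hc0 i) ha)
  rw [hset, Set.ncard_coe_finset]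
  obtain ⟨S, hSA, hcard, hS⟩ := greedy2 π hππ A.card A rfl
    (fun i hi => by rw [hA, Finset.mem_filter] at hi; exact hi.2)
  have hle : S.card ≤ finrank F U := by
    refine card_le_finrank hfr S (fun i => m (e i) - e i) (fun _ => -1) ?_ ?_ ?_ U
      (fun i _ => hU (e i))
    · intro j _
      exact neg_ne_zero.mpr one_ne_zero
    · intro j hj
      show B (m (e j) - e j) (e j) = _
      have hj' : π j ≠ j := by
        have := hSA hj
        rw [hA, Finset.mem_filter] at this
        exact this.2
      rw [hc j, map_sub, LinearMap.sub_apply, map_smul, LinearMap.smul_apply, smul_eq_mul,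
        fr_apply_eq hfr, fr_apply_eq hfr, if_neg hj', if_pos rfl]
      ring
    · intro i hi j hj hij
      show B (m (e i) - e i) (e j) = 0
      rw [hc i, map_sub, LinearMap.sub_apply, map_smul, LinearMap.smul_apply, smul_eq_mul,
        fr_apply_eq hfr, fr_apply_eq hfr, if_neg hij]
      have : π i ≠ j := fun h => hS i hi (h ▸ hj)
      rw [if_neg this]; ring
  omega

end Cfsg.Agent.Lib.Helper7_FrC_PK05
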