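import Mathlib
import Cfsg.Agent.Lib.Helper83_FrCDefs

set_option autoImplicit false
set_option linter.unusedVariables false
set_option linter.unusedSectionVars false

namespace Cfsg.Agent.Lib.Helper84_FrC_PK04

open Module Cfsg.Agent.Lib.Helper94_Herm Cfsg.Agent.Lib.Helper13_PSUSimple
  Cfsg.Agent.Lib.Helper94_FrmDefs Cfsg.Agent.Lib.Helper83_FrCDefs

variable {F V ι : Type*} [Field F] [AddCommGroup V] [Module F V] [Fintype ι] [DecidableEq ι]
variable {σ : F →+* F} {B : V →ₗ[F] V →ₛₗ[σ] F} {e : ι → V}

/-- coordinates of the image under a diagonal map -/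
lemma diag_coord (hfr : OFrame B e) (d : V ≃ₗ[F] V) (δ : ι → F) (hd : ∀ r, d (e r) = δ r • e r)
    (x : V) (r : ι) : B (d x) (e r) = δ r * B x (e r) := by
  conv_lhs => rw [fr_expand hfr x]
  rw [map_sum]
  have : ∀ i, d (B x (e i) • e i) = (B x (e i) * δ i) • e i := by
    intro i
    rw [map_smul, hd, smul_smul]
  simp only [this]
  rw [fr_coord_sum hfr (fun i => B x (e i) * δ i) r, mul_comm]

/-- a vector whose coordinates vanish outside `a` is a multiple of `e a` -/
lemma eq_smul_of_coord (hfr : OFrame B e) (x : V) (a : ι) (h : ∀ r, r ≠ a → B x (e r) = 0) :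
    x = B x (e a) • e a := by
  apply fr_ext_coord hfr
  intro r
  rw [map_smul, LinearMap.smul_apply, smul_eq_mul, fr_apply_eq hfr]
  by_cases hr : a = r
  · subst hr; simp
  · rw [if_neg hr, mul_zero]
    exact h r (Ne.symm hr)

open Classical in
/-- a vector whose coordinates vanish outside `a, b` lies in the span of `e a, e b` -/
lemma mem_span_pair_of_coord (hfr : OFrame B e) (x : V) (a b : ι) (hab : a ≠ b)
    (h : ∀ r, r ≠ a → r ≠ b → B x (e r) = 0) :
    x ∈ Submodule.span F ((({e a, e b} : Finset V)) : Set V) := by
  have hx : x = B x (e a) • e a + B x (e b) • e b := by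
    apply fr_ext_coord hfr
    intro r
    rw [map_add, LinearMap.add_apply, map_smul, map_smul, LinearMap.smul_apply,
      LinearMap.smul_apply, smul_eq_mul, smul_eq_mul, fr_apply_eq hfr, fr_apply_eq hfr]
    by_cases hra : a = r
    · subst hra
      rw [if_pos rfl, if_neg (Ne.symm hab)]
      ring
    · by_cases hrb : b = r
      · subst hrb
        rw [if_neg hra, if_pos rfl]
        ring
      · rw [if_neg hra, if_neg hrb, h r (Ne.symm hra) (Ne.symm hrb)]
        ring
  rw [hx]
  apply Submodule.add_mem
  · apply Submodule.smul_mem
    apply Submodule.subset_span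
    simp
  · apply Submodule.smul_mem
    apply Submodule.subset_span
    simp

open Classical in
/-- three distinct columns of an invertible map cannot all lie in a plane spanned by two vectors -/
lemma three_in_plane (hfr : OFrame B e) (g : V ≃ₗ[F] V) (a b : ι) (j1 j2 j3 : ι)
    (h12 : j1 ≠ j2) (h13 : j1 ≠ j3) (h23 : j2 ≠ j3)
    (m1 : g (e j1) ∈ Submodule.span F ((({e a, e b} : Finset V)) : Set V))
    (m2 : g (e j2) ∈ Submodule.span F ((({e a, e b} : Finset V)) : Set V))
    (m3 : g (e j3) ∈ Submodule.span F ((({e a, e b} : Finset V)) : Set V)) : False := by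
  classical
  have hinj : Function.Injective ![j1, j2, j3] := by
    intro x y hxy
    fin_cases x <;> fin_cases y <;> simp_all
  have hli : LinearIndependent F (fun k : Fin 3 => g (e (![j1, j2, j3] k))) := by
    have h1 : LinearIndependent F (fun k : Fin 3 => e (![j1, j2, j3] k)) :=
      (fr_linearIndependent hfr).comp _ hinj
    exact h1.map' (g : V →ₗ[F] V) (LinearMap.ker_eq_bot.mpr g.injective)
  have hsub : Set.range (fun k : Fin 3 => g (e (![j1, j2, j3] k))) ≤
      Submodule.span F ((({e a, e b} : Finset V)) : Set V) := by
    rintro _ ⟨k, rfl⟩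
    fin_cases k
    · exact m1
    · exact m2
    · exact m3
  have hcard := linearIndependent_le_span' _ hli ((({e a, e b} : Finset V)) : Set V) hsub
  simp only [Finset.coe_sort_coe, Fintype.card_coe, Cardinal.mk_fin] at hcard
  have h2 : ({e a, e b} : Finset V).card ≤ 2 := Finset.card_le_two
  have : (3 : ℕ) ≤ ({e a, e b} : Finset V).card := by exact_mod_cast hcard
  omega

/-- PK04. -/
theorem cycleLemma3 (hσ : Invol σ) (hB : IsHerm B) (hfr : OFrame B e) (h2 : (2 : F) ≠ 0) :
    CycleLemma3 B e := by
  classical
  intro i0 hi0 hsi a b hab d hda hdb hdr g hg hmono hna hnb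
  obtain ⟨π, hπ⟩ := hmono
  choose w hw0 hw using hπ
  -- the diagonal entries of `d`
  obtain ⟨δ, hδ⟩ : ∃ δ : ι → F, δ = fun r => if r = a then i0 else if r = b then -i0 else 1 :=
    ⟨_, rfl⟩
  have hδa : δ a = i0 := by rw [hδ]; simp
  have hδb : δ b = -i0 := by rw [hδ]; simp [Ne.symm hab]
  have hδr : ∀ r, r ≠ a → r ≠ b → δ r = 1 := by
    intro r hra hrb; rw [hδ]; simp [hra, hrb]
  have hd : ∀ r, d (e r) = δ r • e r := by
    intro r
    by_cases hra : r = a
    · subst hra; rw [hδa, hda]
    · by_cases hrb : r = b
      · subst hrb; rw [hδb, hdb]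
      · rw [hδr r hra hrb, one_smul, hdr r hra hrb]
  have hco := diag_coord hfr d δ hd
  have hpoly : ∀ r, δ r * (δ r * δ r) - δ r * δ r + δ r - 1 = 0 := by
    intro r
    by_cases hra : r = a
    · subst hra; rw [hδa]; linear_combination (i0 - 1) * hi0
    · by_cases hrb : r = b
      · subst hrb; rw [hδb]; linear_combination (-i0 - 1) * hi0
      · rw [hδr r hra hrb]; ring
  -- the polynomial identity for `d`
  have hP : ∀ y, d (d (d y)) - d (d y) + d y - y = 0 := by
    intro y
    apply fr_ext_coord hfr
    intro r
    rw [map_sub, map_add, map_sub, LinearMap.sub_apply, LinearMap.add_apply, LinearMap.sub_apply,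
      map_zero, LinearMap.zero_apply]
    simp only [hco]
    linear_combination B y (e r) * hpoly r
  -- `d g = g m`
  have hdg : ∀ x, d (g x) = g ((g⁻¹ * d * g) x) := by
    intro x
    have : g * (g⁻¹ * d * g) = d * g := by group
    have h := congrArg (fun f : V ≃ₗ[F] V => f x) this
    simp only [LinearEquiv.mul_apply] at h
    rw [LinearEquiv.mul_apply, LinearEquiv.mul_apply]
    exact h.symm
  have hdu : ∀ j, d (g (e j)) = w j • g (e (π j)) := by
    intro j
    rw [hdg, hw, map_smul]
  -- the relation among the frame vectors
  have hrelg : ∀ j, (w j * w (π j) * w (π (π j))) • g (e (π (π (π j)))) -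
      (w j * w (π j)) • g (e (π (π j))) + w j • g (e (π j)) - g (e j) = 0 := by
    intro j
    have h := hP (g (e j))
    rw [hdu, map_smul, hdu, map_smul, map_smul, hdu, smul_smul, smul_smul, smul_smul] at h
    exact h
  have hrel : ∀ j, (w j * w (π j) * w (π (π j))) • e (π (π (π j))) -
      (w j * w (π j)) • e (π (π j)) + w j • e (π j) - e j = 0 := by
    intro j
    apply g.injective
    rw [map_sub, map_add, map_sub, map_smul, map_smul, map_smul, map_zero]
    exact hrelg j
  have hcoef : ∀ j k, (w j * w (π j) * w (π (π j))) * (if π (π (π j)) = k then 1 else 0) -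
      (w j * w (π j)) * (if π (π j) = k then 1 else 0) + w j * (if π j = k then 1 else 0) -
      (if j = k then 1 else 0) = 0 := by
    intro j k
    have h := congrArg (fun x => B x (e k)) (hrel j)
    simp only [map_sub, map_add, map_smul, LinearMap.sub_apply, LinearMap.add_apply,
      LinearMap.smul_apply, smul_eq_mul, fr_apply_eq hfr, map_zero, LinearMap.zero_apply] at h
    exact h
  have key : ∀ j, π j = j ∨ (π (π j) = j ∧ w j * w (π j) = -1) := by
    intro j
    by_cases h1 : π j = j
    · left; exact h1
    · right
      by_cases h2' : π (π j) = j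
      · refine ⟨h2', ?_⟩
        have h := hcoef j j
        rw [h2', if_neg h1, if_pos rfl] at h
        linear_combination -h
      · exfalso
        by_cases h3 : π (π (π j)) = j
        · have h := hcoef j (π j)
          have e1 : ¬ π (π (π j)) = π j := by
            intro hh; exact h2' (π.injective hh)
          have e2 : ¬ π (π j) = π j := by
            intro hh; exact h1 (π.injective hh)
          have e3 : ¬ j = π j := fun hh => h1 hh.symm
          rw [if_neg e1, if_neg e2, if_pos rfl, if_neg e3] at h
          apply hw0 j
          linear_combination h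
        · have h := hcoef j (π (π (π j)))
          have e2 : ¬ π (π j) = π (π (π j)) := by
            intro hh; exact h1 (π.injective (π.injective hh)).symm
          have e3 : ¬ π j = π (π (π j)) := by
            intro hh; exact h2' (π.injective hh).symm
          have e4 : ¬ j = π (π (π j)) := fun hh => h3 hh.symm
          rw [if_pos rfl, if_neg e2, if_neg e3, if_neg e4] at h
          have : w j * w (π j) * w (π (π j)) = 0 := by linear_combination h
          rcases mul_eq_zero.mp this with h' | h'
          · rcases mul_eq_zero.mp h' with h'' | h''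
            · exact hw0 j h''
            · exact hw0 _ h''
          · exact hw0 _ h'
  have hi00 : i0 ≠ 0 := by
    intro h; rw [h] at hi0; simp at hi0
  have h2i : (2 : F) * i0 ≠ 0 := mul_ne_zero h2 hi00
  have h1m : (1 : F) - i0 ≠ 0 := by
    intro h
    have : i0 = 1 := by linear_combination -h
    rw [this] at hi0
    apply h2; linear_combination hi0
  have h1p : (1 : F) + i0 ≠ 0 := by
    intro h
    have : i0 = -1 := by linear_combination h
    rw [this] at hi0
    apply h2; linear_combination hi0
  -- fixed columns
  have hfixed : ∀ j, π j = j → B (g (e j)) (e a) = 0 ∧ B (g (e j)) (e b) = 0 := by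
    intro j hj
    have hev : ∀ r, δ r * B (g (e j)) (e r) = w j * B (g (e j)) (e r) := by
      intro r
      rw [← hco, hdu, hj, map_smul, LinearMap.smul_apply, smul_eq_mul]
    constructor
    · by_contra hxa
      have hwj : w j = i0 := by
        have h := hev a
        rw [hδa] at h
        have : (i0 - w j) * B (g (e j)) (e a) = 0 := by linear_combination h
        rcases mul_eq_zero.mp this with h' | h'
        · linear_combination -h'
        · exact absurd h' hxa
      apply hna j (B (g (e j)) (e a))
      apply eq_smul_of_coord hfr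
      intro r hra
      have h := hev r
      rw [hwj] at h
      by_cases hrb : r = b
      · subst hrb
        rw [hδb] at h
        have : (2 * i0) * B (g (e j)) (e r) = 0 := by linear_combination -h
        rcases mul_eq_zero.mp this with h' | h'
        · exact absurd h' h2i
        · exact h'
      · rw [hδr r hra hrb] at h
        have : (1 - i0) * B (g (e j)) (e r) = 0 := by linear_combination h
        rcases mul_eq_zero.mp this with h' | h'
        · exact absurd h' h1m
        · exact h'
    · by_contra hxb
      have hwj : w j = -i0 := by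
        have h := hev b
        rw [hδb] at h
        have : (-i0 - w j) * B (g (e j)) (e b) = 0 := by linear_combination h
        rcases mul_eq_zero.mp this with h' | h'
        · linear_combination -h'
        · exact absurd h' hxb
      apply hnb j (B (g (e j)) (e b))
      apply eq_smul_of_coord hfr
      intro r hrb
      have h := hev r
      rw [hwj] at h
      by_cases hra : r = a
      · subst hra
        rw [hδa] at h
        have : (2 * i0) * B (g (e j)) (e r) = 0 := by linear_combination h
        rcases mul_eq_zero.mp this with h' | h'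
        · exact absurd h' h2i
        · exact h'
      · rw [hδr r hra hrb] at h
        have : (1 + i0) * B (g (e j)) (e r) = 0 := by linear_combination h
        rcases mul_eq_zero.mp this with h' | h'
        · exact absurd h' h1p
        · exact h'
  -- 2-cycle columns
  have htwo : ∀ j, π j ≠ j → ∀ c, c ≠ a → c ≠ b → B (g (e j)) (e c) = 0 := by
    intro j hj c hca hcb
    rcases key j with h | ⟨hpp, hww⟩
    · exact absurd h hj
    · have h : d (d (g (e j))) = -(g (e j)) := by
        rw [hdu, map_smul, hdu, smul_smul, hpp, hww, neg_one_smul]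
      have hc := congrArg (fun x => B x (e c)) h
      simp only [hco, hδr c hca hcb, one_mul, map_neg, LinearMap.neg_apply] at hc
      have : (2 : F) * B (g (e j)) (e c) = 0 := by linear_combination hc
      rcases mul_eq_zero.mp this with h' | h'
      · exact absurd h' h2
      · exact h'
  -- some column is not fixed
  have hex : ∃ j, π j ≠ j := by
    by_contra hall
    push Not at hall
    have hrow : ∀ j, B (g (e j)) (e a) = 0 := fun j => (hfixed j (hall j)).1
    have hexp : e a = ∑ j, B (g⁻¹ (e a)) (e j) • g (e j) := by
      have h1 : e a = g (g⁻¹ (e a)) := by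
        rw [← LinearEquiv.mul_apply, mul_inv_cancel]
        rfl
      conv_lhs => rw [h1, fr_expand hfr (g⁻¹ (e a))]
      rw [map_sum]
      exact Finset.sum_congr rfl (fun j _ => by rw [map_smul])
    have h := congrArg (fun x => B x (e a)) hexp
    simp only [map_sum, LinearMap.sum_apply, map_smul, LinearMap.smul_apply, smul_eq_mul, hrow,
      mul_zero, Finset.sum_const_zero] at h
    rw [hfr.unit a] at h
    exact one_ne_zero h
  obtain ⟨j1, hj1⟩ := hex
  have hj2 : π (π j1) ≠ π j1 := fun h => hj1 (π.injective h)
  refine ⟨j1, π j1, Ne.symm hj1, htwo j1 hj1, ?_⟩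
  intro j hjj1 hjj2
  by_cases hj : π j = j
  · exact hfixed j hj
  · exfalso
    exact three_in_plane hfr g a b j1 (π j1) j (Ne.symm hj1) (Ne.symm hjj1) (Ne.symm hjj2)
      (mem_span_pair_of_coord hfr _ a b hab (htwo j1 hj1))
      (mem_span_pair_of_coord hfr _ a b hab (htwo (π j1) hj2))
      (mem_span_pair_of_coord hfr _ a b hab (htwo j hj))

end Cfsg.Agent.Lib.Helper84_FrC_PK04
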