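import Mathlib
import Cfsg.Agent.Lib.Helper83_FrCDefs

set_option autoImplicit false
set_option linter.unusedVariables false
set_option linter.unusedSectionVars false

namespace Cfsg.Agent.Lib.Helper84_FrC_PK10

open Module Cfsg.Agent.Lib.Helper94_Herm Cfsg.Agent.Lib.Helper13_PSUSimple
  Cfsg.Agent.Lib.Helper94_FrmDefs Cfsg.Agent.Lib.Helper83_FrCDefs

variable {F : Type*} [Field F]
variable {σ : F →+* F}

open Classical in
/-- the fixed points of `σ` as a finset -/
noncomputable def Kf [Fintype F] (σ : F →+* F) : Finset F := Finset.univ.filter (fun c => σ c = c)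

lemma mem_Kf [Fintype F] {c : F} : c ∈ Kf σ ↔ σ c = c := by
  classical
  simp [Kf]

lemma two_le_q [Fintype F] (q : ℕ) (hcard : Fintype.card F = q ^ 2) : 2 ≤ q := by
  have h1 : 1 < Fintype.card F := Fintype.one_lt_card
  rw [hcard] at h1
  by_contra h
  push Not at h
  interval_cases q <;> simp at h1

open Polynomial in
lemma card_Kf_le [Fintype F] (q : ℕ) (hq : ∀ x : F, σ x = x ^ q)
    (hcard : Fintype.card F = q ^ 2) : (Kf σ).card ≤ q := by
  classical
  have h2 := two_le_q q hcard
  have hne : (X ^ q - X : F[X]) ≠ 0 := FiniteField.X_pow_card_sub_X_ne_zero F (by omega)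
  have hdeg : (X ^ q - X : F[X]).natDegree = q := FiniteField.X_pow_card_sub_X_natDegree_eq F (by omega)
  have hsub : (Kf σ).val ⊆ (X ^ q - X : F[X]).roots := by
    intro c hc
    rw [Finset.mem_val, mem_Kf, hq] at hc
    rw [mem_roots hne]
    simp [hc]
  have := Polynomial.card_le_degree_of_subset_roots hsub
  rwa [hdeg] at this

lemma card_Kf_ge [Fintype F] (hσ : Invol σ) (q : ℕ) (hq : ∀ x : F, σ x = x ^ q)
    (hcard : Fintype.card F = q ^ 2) : q ≤ (Kf σ).card := by
  classical
  obtain ⟨θ, hθ⟩ := hσ.ne_id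
  have hd : σ θ - θ ≠ 0 := sub_ne_zero.mpr hθ
  -- injective map F → Kf × Kf
  let b : F → F := fun x => (σ x - x) / (σ θ - θ)
  have hb : ∀ x, σ (b x) = b x := by
    intro x
    simp only [b]
    rw [map_div₀, map_sub, map_sub, hσ.invol, hσ.invol]
    rw [div_eq_div_iff (by intro h; apply hd; linear_combination -h) hd]
    ring
  have ha : ∀ x, σ (x - b x * θ) = x - b x * θ := by
    intro x
    rw [map_sub, map_mul, hb]
    have : b x * (σ θ - θ) = σ x - x := by
      simp only [b]
      field_simp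
    linear_combination -this
  let f : F → (Kf σ) × (Kf σ) := fun x => (⟨x - b x * θ, mem_Kf.mpr (ha x)⟩, ⟨b x, mem_Kf.mpr (hb x)⟩)
  have hf : Function.Injective f := by
    intro x y hxy
    have h1 : x - b x * θ = y - b y * θ := congrArg (fun p => (p.1 : F)) hxy
    have h2 : b x = b y := congrArg (fun p => (p.2 : F)) hxy
    rw [h2] at h1
    linear_combination h1
  have hle := Fintype.card_le_of_injective f hf
  rw [Fintype.card_prod, Fintype.card_coe, hcard] at hle
  have : q ^ 2 ≤ (Kf σ).card ^ 2 := by rw [sq ((Kf σ).card)]; exact hle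
  exact (Nat.pow_le_pow_iff_left (by norm_num)).mp this

lemma card_Kf [Fintype F] (hσ : Invol σ) (q : ℕ) (hq : ∀ x : F, σ x = x ^ q)
    (hcard : Fintype.card F = q ^ 2) : (Kf σ).card = q :=
  le_antisymm (card_Kf_le q hq hcard) (card_Kf_ge hσ q hq hcard)

/-- PK10a. the fixed field of `σ` has `q` elements. -/
theorem card_fixed [Fintype F] (hσ : Invol σ) (q : ℕ) (hq : ∀ x : F, σ x = x ^ q)
    (hcard : Fintype.card F = q ^ 2) : Set.ncard {c : F | σ c = c} = q := by
  classical
  have : {c : F | σ c = c} = ((Kf σ : Finset F) : Set F) := by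
    ext c
    simp [mem_Kf]
  rw [this, Set.ncard_coe_finset, card_Kf hσ q hq hcard]

open Classical in
/-- the norm-one elements as a finset -/
noncomputable def Mu [Fintype F] (σ : F →+* F) : Finset F := Finset.univ.filter (fun z => z * σ z = 1)

lemma mem_Mu [Fintype F] {z : F} : z ∈ Mu σ ↔ z * σ z = 1 := by
  classical
  simp [Mu]

lemma norm_fixed (hσ : Invol σ) (w : F) : σ (w * σ w) = w * σ w := by
  rw [map_mul, hσ.invol, mul_comm]

/-- `|μ| ≥ q + 1` by counting the fibres of the norm. -/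
lemma card_Mu_ge [Fintype F] (hσ : Invol σ) (q : ℕ) (hq : ∀ x : F, σ x = x ^ q)
    (hcard : Fintype.card F = q ^ 2) : q + 1 ≤ (Mu σ).card := by
  classical
  have h2 := two_le_q q hcard
  have hK := card_Kf hσ q hq hcard
  -- the nonzero elements of F, mapped by the norm to the nonzero elements of Kf
  let S : Finset F := Finset.univ.filter (fun w => w ≠ 0)
  let T : Finset F := (Kf σ).erase 0
  have hS : S.card = q ^ 2 - 1 := by
    have : S = Finset.univ.erase (0 : F) := by
      ext w; simp [S]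
    rw [this, Finset.card_erase_of_mem (Finset.mem_univ _), Finset.card_univ, hcard]
  have hT : T.card = q - 1 := by
    have h0 : (0 : F) ∈ Kf σ := mem_Kf.mpr (map_zero σ)
    rw [Finset.card_erase_of_mem h0, hK]
  have hmap : ∀ w ∈ S, w * σ w ∈ T := by
    intro w hw
    have hw0 : w ≠ 0 := by simpa [S] using hw
    rw [Finset.mem_erase]
    refine ⟨?_, mem_Kf.mpr (norm_fixed hσ w)⟩
    apply mul_ne_zero hw0
    intro h
    apply hw0
    have := congrArg σ h
    rwa [hσ.invol, map_zero] at this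
  have hfib : ∀ k ∈ T, (S.filter (fun w => w * σ w = k)).card ≤ (Mu σ).card := by
    intro k hk
    by_cases hne : (S.filter (fun w => w * σ w = k)).Nonempty
    · obtain ⟨w0, hw0⟩ := hne
      rw [Finset.mem_filter] at hw0
      have hw00 : w0 ≠ 0 := by simpa [S] using hw0.1
      have hk0 : k ≠ 0 := (Finset.mem_erase.mp hk).1
      apply Finset.card_le_card_of_injOn (fun w => w / w0)
      · intro w hw
        rw [Finset.mem_coe, Finset.mem_filter] at hw
        rw [Finset.mem_coe, mem_Mu, map_div₀]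
        have hsw0 : σ w0 ≠ 0 := by
          intro h
          apply hw00
          have := congrArg σ h
          rwa [hσ.invol, map_zero] at this
        field_simp
        rw [hw.2, hw0.2]
      · intro w _ w' _ h
        have h' : w / w0 = w' / w0 := h
        field_simp at h'
        exact h'
    · rw [Finset.not_nonempty_iff_eq_empty] at hne
      rw [hne]
      simp
  have hsum := Finset.card_eq_sum_card_fiberwise (f := fun w => w * σ w) hmap
  have hle : S.card ≤ T.card * (Mu σ).card := by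
    rw [hsum]
    calc ∑ k ∈ T, (S.filter (fun w => w * σ w = k)).card ≤ ∑ k ∈ T, (Mu σ).card :=
          Finset.sum_le_sum hfib
      _ = T.card * (Mu σ).card := by rw [Finset.sum_const, smul_eq_mul]
  rw [hS, hT] at hle
  -- (q^2 - 1) ≤ (q-1) * |μ|  ⇒  q + 1 ≤ |μ|
  by_contra hlt
  push Not at hlt
  have h3 : (q - 1) * (Mu σ).card ≤ (q - 1) * q := Nat.mul_le_mul_left _ (by omega)
  have h4 : (q - 1) * q < q ^ 2 - 1 := by
    obtain ⟨r, rfl⟩ : ∃ r, q = r + 2 := ⟨q - 2, by omega⟩
    have : (r + 2) ^ 2 = (r + 1) * (r + 2) + (r + 2) := by ring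
    have h5 : r + 2 - 1 = r + 1 := by omega
    rw [h5, this]
    omega
  omega

open Classical in
/-- the map `z ↦ u * N(z - 1) + v` is at most 2-to-1 on `μ` (for `u ≠ 0`). -/
lemma card_image_ge [Fintype F] (hσ : Invol σ) (u v : F) (hu : u ≠ 0) :
    (Mu σ).card ≤ 2 * ((Mu σ).image (fun z => u * ((z - 1) * σ (z - 1)) + v)).card := by
  classical
  apply Finset.card_le_mul_card_image
  intro a _
  by_contra hgt
  push Not at hgt
  obtain ⟨z1, h1, z2, h2, z3, h3, h12, h13, h23⟩ := Finset.two_lt_card.mp hgt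
  rw [Finset.mem_filter, mem_Mu] at h1 h2 h3
  -- N(z-1) = 2 - z - σ z and σ z = z⁻¹
  have key : ∀ z : F, z * σ z = 1 → u * ((z - 1) * σ (z - 1)) + v = a →
      z * z - (2 - (a - v) / u) * z + 1 = 0 := by
    intro z hz hza
    have h1' : (z - 1) * σ (z - 1) = 2 - z - σ z := by
      rw [map_sub, map_one]
      linear_combination hz
    rw [h1'] at hza
    have hav : (a - v) / u = 2 - z - σ z := by
      rw [← hza]
      field_simp
      ring
    rw [hav]
    linear_combination -hz
  have e1 := key z1 h1.1 h1.2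
  have e2 := key z2 h2.1 h2.2
  have e3 := key z3 h3.1 h3.2
  obtain ⟨t, ht⟩ : ∃ t, t = 2 - (a - v) / u := ⟨_, rfl⟩
  rw [← ht] at e1 e2 e3
  have s12 : z1 + z2 = t := by
    have : (z1 - z2) * (z1 + z2 - t) = 0 := by linear_combination e1 - e2
    rcases mul_eq_zero.mp this with h | h
    · exact absurd (sub_eq_zero.mp h) h12
    · linear_combination h
  have s13 : z1 + z3 = t := by
    have : (z1 - z3) * (z1 + z3 - t) = 0 := by linear_combination e1 - e3
    rcases mul_eq_zero.mp this with h | h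
    · exact absurd (sub_eq_zero.mp h) h13
    · linear_combination h
  apply h23
  linear_combination s12 - s13

/-- PK10b. pigeonhole (PH). -/
theorem pigeon_norm [Fintype F] (hσ : Invol σ) (q : ℕ) (hq : ∀ x : F, σ x = x ^ q)
    (hcard : Fintype.card F = q ^ 2) (c c' : F) (hc : σ c = c) (hc' : σ c' = c') (hc0 : c ≠ 0)
    (hc'0 : c' ≠ 0) :
    ∃ z x : F, z * σ z = 1 ∧ x * σ x = 1 ∧
      c * ((z - 1) * σ (z - 1)) + c' * ((x - 1) * σ (x - 1)) = 1 := by
  classical
  have hK := card_Kf hσ q hq hcard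
  have hM := card_Mu_ge hσ q hq hcard
  obtain ⟨A, hA⟩ : ∃ A, A = (Mu σ).image (fun z => c * ((z - 1) * σ (z - 1)) + 0) := ⟨_, rfl⟩
  obtain ⟨B, hB⟩ : ∃ B, B = (Mu σ).image (fun x => (-c') * ((x - 1) * σ (x - 1)) + 1) := ⟨_, rfl⟩
  have hA2 : (Mu σ).card ≤ 2 * A.card := by rw [hA]; exact card_image_ge hσ c 0 hc0
  have hB2 : (Mu σ).card ≤ 2 * B.card := by
    rw [hB]; exact card_image_ge hσ (-c') 1 (neg_ne_zero.mpr hc'0)
  have hAK : A ⊆ Kf σ := by
    intro a ha
    rw [hA, Finset.mem_image] at ha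
    obtain ⟨z, _, rfl⟩ := ha
    rw [mem_Kf, map_add, map_mul, norm_fixed hσ, hc, map_zero]
  have hBK : B ⊆ Kf σ := by
    intro a ha
    rw [hB, Finset.mem_image] at ha
    obtain ⟨z, _, rfl⟩ := ha
    rw [mem_Kf, map_add, map_mul, norm_fixed hσ, map_neg, hc', map_one]
  have hmeet : ¬ Disjoint A B := by
    intro hd
    have h1 : (A ∪ B).card = A.card + B.card := Finset.card_union_of_disjoint hd
    have h2 : (A ∪ B).card ≤ (Kf σ).card := Finset.card_le_card (Finset.union_subset hAK hBK)
    omega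
  rw [Finset.not_disjoint_iff] at hmeet
  obtain ⟨a, haA, haB⟩ := hmeet
  rw [hA, Finset.mem_image] at haA
  rw [hB, Finset.mem_image] at haB
  obtain ⟨z, hz, hza⟩ := haA
  obtain ⟨x, hx, hxa⟩ := haB
  refine ⟨z, x, mem_Mu.mp hz, mem_Mu.mp hx, ?_⟩
  linear_combination hza - hxa

/-- PK10c. for `q ≥ 4` the fixed field has a third element. -/
theorem exists_third [Fintype F] (hσ : Invol σ) (q : ℕ) (hq : ∀ x : F, σ x = x ^ q)
    (hcard : Fintype.card F = q ^ 2) (h4 : 4 ≤ q) (x : F) :
    ∃ t : F, σ t = t ∧ t ≠ 0 ∧ t * x ≠ 1 := by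
  classical
  have hK := card_Kf hσ q hq hcard
  have hlt : ({0, x⁻¹} : Finset F).card < (Kf σ).card := by
    have : ({0, x⁻¹} : Finset F).card ≤ 2 := Finset.card_le_two
    omega
  obtain ⟨t, ht, htn⟩ := Finset.exists_mem_notMem_of_card_lt_card hlt
  rw [Finset.mem_insert, Finset.mem_singleton, not_or] at htn
  refine ⟨t, mem_Kf.mp ht, htn.1, ?_⟩
  intro h1
  apply htn.2
  exact eq_inv_of_mul_eq_one_left h1

end Cfsg.Agent.Lib.Helper84_FrC_PK10
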