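import Mathlib
import Cfsg.Agent.Lib.Helper83_FrCDefs

/-!
# S5655, k = 1, case (C) (architect helper83), package PK07

Paper (2.1), generic case `q ≥ 4`: a column of a non-monomial element of `M` has at most one zero
coordinate (from the cycle lemma).
-/

set_option autoImplicit false
set_option linter.unusedVariables false
set_option linter.unusedSectionVars false

namespace Cfsg.Agent.Lib.Helper8_FrC_PK07

open Module Cfsg.Agent.Lib.Helper94_Herm Cfsg.Agent.Lib.Helper13_PSUSimple
  Cfsg.Agent.Lib.Helper94_FrmDefs Cfsg.Agent.Lib.Helper83_FrCDefs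

variable {F V ι : Type*} [Field F] [AddCommGroup V] [Module F V] [Fintype ι] [DecidableEq ι]
variable {σ : F →+* F} {B : V →ₗ[F] V →ₛₗ[σ] F} {e : ι → V}

/-- PK07. paper (2.1), generic case. -/
theorem p21_generic (hσ : Invol σ) (hB : IsHerm B) (hfr : OFrame B e) (hmono : HasMono B e)
    (hcyc : CycleLemma σ e) (M : Subgroup (V ≃ₗ[F] V)) (hHM : frH B e ≤ M) (hMU : M ≤ uG B)
    (hC : CaseC B e M) (hC' : PC' B e M) (z : F) (hz : Good σ z) : P21 B e M := by
  intro g hgM hgmono i a b hab hxa hxb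
  -- the diagonal element `d = d_ab(z)`
  set w : ι → F := fun r => if r = a then z else if r = b then σ z else 1 with hw
  have hwa : w a = z := by simp [hw]
  have hwb : w b = σ z := by simp [hw, hab.symm]
  have hwr : ∀ r, r ≠ a → r ≠ b → w r = 1 := by
    intro r hra hrb; simp [hw, hra, hrb]
  have hnorm : ∀ r, w r * σ (w r) = 1 := by
    intro r
    by_cases hra : r = a
    · rw [hra, hwa]; exact hz.1
    · by_cases hrb : r = b
      · rw [hrb, hwb, hσ.invol, mul_comm]; exact hz.1
      · rw [hwr r hra hrb, map_one, mul_one]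
  have hprod : (((Equiv.Perm.sign (1 : Equiv.Perm ι) : ℤˣ) : ℤ) : F) * ∏ r, w r = 1 := by
    rw [Fintype.prod_eq_mul a b hab (fun r hr => hwr r hr.1 hr.2), hwa, hwb]
    simp [hz.1]
  obtain ⟨d, hdH, hd⟩ := hmono 1 w hnorm hprod
  simp only [Equiv.Perm.one_apply] at hd
  have hdM : d ∈ M := hHM hdH
  -- `d` fixes `g e_i`
  have hfix : d (g (e i)) = g (e i) := by
    conv_lhs => rw [fr_expand hfr (g (e i))]
    conv_rhs => rw [fr_expand hfr (g (e i))]
    rw [map_sum]
    refine Finset.sum_congr rfl (fun r _ => ?_)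
    rw [map_smul, hd r]
    by_cases hra : r = a
    · rw [hra, hxa, zero_smul, zero_smul]
    · by_cases hrb : r = b
      · rw [hrb, hxb, zero_smul, zero_smul]
      · rw [hwr r hra hrb, one_smul]
  -- `m = g⁻¹ d g` fixes `e_i`, hence is monomial
  have hmM : g⁻¹ * d * g ∈ M := M.mul_mem (M.mul_mem (M.inv_mem hgM) hdM) hgM
  have hme : (g⁻¹ * d * g) (e i) = (1 : F) • e i := by
    rw [LinearEquiv.mul_apply, LinearEquiv.mul_apply, hfix, one_smul]
    show (g⁻¹ * g) (e i) = e i
    rw [inv_mul_cancel]; rfl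
  have hmMono : g⁻¹ * d * g ∈ Mono B e := hC i _ hmM ⟨1, hme⟩
  -- the cycle lemma
  obtain ⟨j, c, hj⟩ := hcyc z hz a b hab d (by rw [hd a, hwa]) (by rw [hd b, hwb])
    (fun r hra hrb => by rw [hd r, hwr r hra hrb, one_smul]) g ((mem_Mono_iff B e).mp hmMono).2
  exact hgmono (hC' g hgM j a c hj)

end Cfsg.Agent.Lib.Helper8_FrC_PK07
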