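import Mathlib
import Cfsg.Agent.Lib.Helper83_FrCDefs

set_option autoImplicit false
set_option linter.unusedVariables false
set_option linter.unusedSectionVars false

/-!
S5655 case (C), package PK06 (architect helper83): (C') transitivity of `H` on the frame.
-/

namespace Cfsg.Agent.Lib.Helper91_FrC_PK06

open Module Cfsg.Agent.Lib.Helper94_Herm Cfsg.Agent.Lib.Helper13_PSUSimple
  Cfsg.Agent.Lib.Helper94_FrmDefs Cfsg.Agent.Lib.Helper83_FrCDefs

variable {F V ι : Type*} [Field F] [AddCommGroup V] [Module F V] [Fintype ι] [DecidableEq ι]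
variable {σ : F →+* F} {B : V →ₗ[F] V →ₛₗ[σ] F} {e : ι → V}

/-- PK06. `h ∈ H` with `h e_j = - e_i`, `h e_i = e_j` (PK01); `(h g) e_i ∈ F e_i`. -/
theorem caseC' (hσ : Invol σ) (hB : IsHerm B) (hfr : OFrame B e) (hmono : HasMono B e)
    (M : Subgroup (V ≃ₗ[F] V)) (hHM : frH B e ≤ M) (hC : CaseC B e M) : PC' B e M := by
  intro g hg i j c hgi
  by_cases hij : i = j
  · subst hij
    exact hC i g hg ⟨c, hgi⟩
  · -- the monomial map swapping `i` and `j` with weight `-1` at `j`
    let w : ι → F := fun k => if k = j then -1 else 1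
    have hw : ∀ k, w k * σ (w k) = 1 := by
      intro k
      by_cases hk : k = j
      · simp [w, hk]
      · simp [w, hk]
    have hprod : ∏ k, w k = -1 := by
      simp only [w]
      rw [Finset.prod_ite_eq' Finset.univ j (fun _ => (-1 : F))]
      simp
    have hsign : (((Equiv.Perm.sign (Equiv.swap i j) : ℤˣ) : ℤ) : F) * ∏ k, w k = 1 := by
      rw [Equiv.Perm.sign_swap hij, hprod]
      simp
    obtain ⟨h, hh, hhe⟩ := hmono (Equiv.swap i j) w hw hsign
    have hhM : h ∈ M := hHM hh
    have hhj : h (e j) = -e i := by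
      rw [hhe j, Equiv.swap_apply_right]
      simp [w]
    have hhg : (h * g) (e i) = (-c) • e i := by
      rw [LinearEquiv.mul_apply, hgi, map_smul, hhj, smul_neg, neg_smul]
    have h1 : h * g ∈ Mono B e := hC i (h * g) (M.mul_mem hhM hg) ⟨-c, hhg⟩
    have h2 : h ∈ Mono B e := frH_le_Mono hh
    have h3 : h⁻¹ * (h * g) ∈ Mono B e := (Mono B e).mul_mem ((Mono B e).inv_mem h2) h1
    rwa [inv_mul_cancel_left] at h3

end Cfsg.Agent.Lib.Helper91_FrC_PK06
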