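import Mathlib
import Cfsg.Agent.Lib.Helper83_FrCDefs

set_option autoImplicit false
set_option linter.unusedVariables false
set_option linter.unusedSectionVars false

/-!
S5655 case (C), package PK08 (architect helper83): (2.1) for `q = 3`, the two-step argument from
`CycleLemma3`.
-/

namespace Cfsg.Agent.Lib.Helper91_FrC_PK08

open Module Cfsg.Agent.Lib.Helper94_Herm Cfsg.Agent.Lib.Helper13_PSUSimple
  Cfsg.Agent.Lib.Helper94_FrmDefs Cfsg.Agent.Lib.Helper83_FrCDefs

variable {F V ι : Type*} [Field F] [AddCommGroup V] [Module F V] [Fintype ι] [DecidableEq ι]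
variable {σ : F →+* F} {B : V →ₗ[F] V →ₛₗ[σ] F} {e : ι → V}

/-- the diagonal element `d_ab(i)` of `H` -/
theorem exists_diag (hmono : HasMono B e) (i0 : F) (hi : i0 * i0 = -1) (hsi : σ i0 = -i0)
    (a b : ι) (hab : a ≠ b) :
    ∃ d ∈ frH B e, d (e a) = i0 • e a ∧ d (e b) = (-i0) • e b ∧
      ∀ r, r ≠ a → r ≠ b → d (e r) = e r := by
  let w : ι → F := fun k => if k = a then i0 else if k = b then -i0 else 1
  have hwa : w a = i0 := by simp [w]
  have hwb : w b = -i0 := by simp [w, hab.symm]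
  have hwr : ∀ r, r ≠ a → r ≠ b → w r = 1 := by
    intro r hra hrb
    simp [w, hra, hrb]
  have hw : ∀ k, w k * σ (w k) = 1 := by
    intro k
    by_cases hka : k = a
    · rw [hka, hwa, hsi]
      linear_combination (-1 : F) * hi
    · by_cases hkb : k = b
      · rw [hkb, hwb, map_neg, hsi]
        linear_combination (-1 : F) * hi
      · rw [hwr k hka hkb]
        simp
  have hprod : ∏ k, w k = 1 := by
    rw [Finset.prod_eq_mul a b hab (fun c _ hc => hwr c hc.1 hc.2)
      (fun h => absurd (Finset.mem_univ a) h) (fun h => absurd (Finset.mem_univ b) h), hwa, hwb]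
    linear_combination (-1 : F) * hi
  have hsign : (((Equiv.Perm.sign (1 : Equiv.Perm ι) : ℤˣ) : ℤ) : F) * ∏ k, w k = 1 := by
    rw [Equiv.Perm.sign_one, hprod]
    simp
  obtain ⟨d, hd, hde⟩ := hmono 1 w hw hsign
  refine ⟨d, hd, ?_, ?_, ?_⟩
  · rw [hde a, hwa, Equiv.Perm.one_apply]
  · rw [hde b, hwb, Equiv.Perm.one_apply]
  · intro r hra hrb
    rw [hde r, hwr r hra hrb, Equiv.Perm.one_apply, one_smul]

/-- a map fixing all frame vectors except `e_a`, `e_b` fixes every vector with zero `a`- and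
`b`-coordinates -/
theorem diag_fix (hfr : OFrame B e) {d : V ≃ₗ[F] V} {a b : ι}
    (hd : ∀ r, r ≠ a → r ≠ b → d (e r) = e r) {x : V} (hxa : B x (e a) = 0)
    (hxb : B x (e b) = 0) : d x = x := by
  conv_lhs => rw [fr_expand hfr x]
  conv_rhs => rw [fr_expand hfr x]
  rw [map_sum]
  refine Finset.sum_congr rfl (fun r _ => ?_)
  rw [map_smul]
  by_cases hra : r = a
  · rw [hra, hxa, zero_smul, zero_smul]
  · by_cases hrb : r = b
    · rw [hrb, hxb, zero_smul, zero_smul]
    · rw [hd r hra hrb]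

theorem apply_inv_apply (g : V ≃ₗ[F] V) (x : V) : g (g⁻¹ x) = x := by
  have : (g * g⁻¹) x = x := by rw [mul_inv_cancel]; rfl
  exact this

theorem inv_apply_apply (g : V ≃ₗ[F] V) (x : V) : g⁻¹ (g x) = x := by
  have : (g⁻¹ * g) x = x := by rw [inv_mul_cancel]; rfl
  exact this

/-- the rows of `g` are the conjugated columns of `g⁻¹` -/
theorem inv_coord (hB : IsHerm B) {g : V ≃ₗ[F] V} (hg : g ∈ uG B) (c j : ι) :
    B (g⁻¹ (e c)) (e j) = σ (B (g (e j)) (e c)) := by
  have h1 : B (g (g⁻¹ (e c))) (g (e j)) = B (g⁻¹ (e c)) (e j) := hg _ _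
  rw [← h1, apply_inv_apply]
  exact hB _ _

/-- a row of `g` with a single non-zero entry -/
theorem inv_single (hB : IsHerm B) (hfr : OFrame B e) {g : V ≃ₗ[F] V} (hg : g ∈ uG B) (c k : ι)
    (h : ∀ j, j ≠ k → B (g (e j)) (e c) = 0) :
    g⁻¹ (e c) = σ (B (g (e k)) (e c)) • e k := by
  apply fr_ext_coord hfr
  intro j
  rw [inv_coord hB hg, map_smul, LinearMap.smul_apply, smul_eq_mul, fr_apply_eq hfr]
  by_cases hjk : j = k
  · rw [hjk]; simp
  · rw [h j hjk, if_neg (fun h' => hjk h'.symm)]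
    simp

/-- three rows of `g` cannot be supported on two columns -/
theorem three_rows (hB : IsHerm B) (hfr : OFrame B e) {g : V ≃ₗ[F] V} (hg : g ∈ uG B)
    {c c' c'' k1 k2 : ι} (h1 : c ≠ c') (h2 : c ≠ c'') (h3 : c' ≠ c'')
    (hc : ∀ j, j ≠ k1 → j ≠ k2 → B (g (e j)) (e c) = 0)
    (hc' : ∀ j, j ≠ k1 → j ≠ k2 → B (g (e j)) (e c') = 0)
    (hc'' : ∀ j, j ≠ k1 → j ≠ k2 → B (g (e j)) (e c'') = 0) : False := by
  have := fr_finiteDimensional hfr
  set S : Submodule F V := Submodule.span F (Set.range ![e k1, e k2]) with hS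
  have hk1 : e k1 ∈ S := Submodule.subset_span ⟨0, rfl⟩
  have hk2 : e k2 ∈ S := Submodule.subset_span ⟨1, rfl⟩
  have hmem : ∀ x, (∀ j, j ≠ k1 → j ≠ k2 → B (g (e j)) (e x) = 0) → g⁻¹ (e x) ∈ S := by
    intro x hx
    rw [fr_expand hfr (g⁻¹ (e x))]
    apply Submodule.sum_mem
    intro j _
    by_cases hj1 : j = k1
    · rw [hj1]; exact S.smul_mem _ hk1
    · by_cases hj2 : j = k2
      · rw [hj2]; exact S.smul_mem _ hk2
      · rw [inv_coord hB hg, hx j hj1 hj2, map_zero, zero_smul]; exact S.zero_mem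
  have hinj : Function.Injective ![c, c', c''] := by
    intro s t hst
    fin_cases s <;> fin_cases t <;> simp_all
  have h0 : LinearIndependent F (fun t : Fin 3 => e (![c, c', c''] t)) :=
    (fr_linearIndependent hfr).comp _ hinj
  have hli : LinearIndependent F (fun t : Fin 3 => g⁻¹ (e (![c, c', c''] t))) :=
    h0.map' (g⁻¹ : V ≃ₗ[F] V).toLinearMap (LinearEquiv.ker _)
  have hall : ∀ t : Fin 3, g⁻¹ (e (![c, c', c''] t)) ∈ S := by
    intro t
    fin_cases t
    · exact hmem c hc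
    · exact hmem c' hc'
    · exact hmem c'' hc''
  let f : Fin 3 → S := fun t => ⟨g⁻¹ (e (![c, c', c''] t)), hall t⟩
  have hfli : LinearIndependent F f := LinearIndependent.of_comp S.subtype hli
  have h3le := hfli.fintype_card_le_finrank
  have h2le : finrank F S ≤ 2 := by
    have := finrank_range_le_card (R := F) ![e k1, e k2]
    simpa [Set.finrank] using this
  rw [Fintype.card_fin] at h3le
  omega

/-- three indices outside `{a, b}` -/
theorem exists_three (h5 : 5 ≤ Fintype.card ι) (a b : ι) :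
    ∃ c c' c'' : ι, c ≠ a ∧ c ≠ b ∧ c' ≠ a ∧ c' ≠ b ∧ c'' ≠ a ∧ c'' ≠ b ∧
      c ≠ c' ∧ c ≠ c'' ∧ c' ≠ c'' := by
  have hcard : 2 < ((Finset.univ.erase a).erase b).card := by
    have h1 : (Finset.univ.erase a).card = Fintype.card ι - 1 := by
      rw [Finset.card_erase_of_mem (Finset.mem_univ a), Finset.card_univ]
    have h2 := Finset.pred_card_le_card_erase (s := Finset.univ.erase a) (a := b)
    omega
  obtain ⟨c, c', c'', hc, hc', hc'', h1, h2, h3⟩ := Finset.two_lt_card_iff.1 hcard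
  simp only [Finset.mem_erase, Finset.mem_univ, and_true] at hc hc' hc''
  exact ⟨c, c', c'', hc.2, hc.1, hc'.2, hc'.1, hc''.2, hc''.1, h1, h2, h3⟩

/-- the statement (*) of the paper proof -/
theorem step (hσ : Invol σ) (hB : IsHerm B) (hfr : OFrame B e) (hmono : HasMono B e)
    (hcyc3 : CycleLemma3 B e) (i0 : F) (hi : i0 * i0 = -1)
    (hsi : σ i0 = -i0) (M : Subgroup (V ≃ₗ[F] V)) (hHM : frH B e ≤ M) (hMU : M ≤ uG B)
    (hC : CaseC B e M) (hC' : PC' B e M) {g : V ≃ₗ[F] V} (hg : g ∈ M) (hgn : g ∉ Mono B e)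
    {i a b : ι} (hab : a ≠ b) (ha : B (g (e i)) (e a) = 0) (hb : B (g (e i)) (e b) = 0) :
    ∃ j1 j2, j1 ≠ j2 ∧ (∀ c, c ≠ a → c ≠ b → B (g (e j1)) (e c) = 0) ∧
      ∀ j, j ≠ j1 → j ≠ j2 → B (g (e j)) (e a) = 0 ∧ B (g (e j)) (e b) = 0 := by
  obtain ⟨d, hdH, hda, hdb, hdr⟩ := exists_diag hmono i0 hi hsi a b hab
  have hdM : d ∈ M := hHM hdH
  have hmM : g⁻¹ * d * g ∈ M := M.mul_mem (M.mul_mem (M.inv_mem hg) hdM) hg
  have hfix : (g⁻¹ * d * g) (e i) = (1 : F) • e i := by
    rw [LinearEquiv.mul_apply, LinearEquiv.mul_apply, diag_fix hfr hdr ha hb, inv_apply_apply,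
      one_smul]
  have hmMono : g⁻¹ * d * g ∈ Mono B e := hC i _ hmM ⟨1, hfix⟩
  have hmm : IsMonoMap e (g⁻¹ * d * g) := ((mem_Mono_iff B e).1 hmMono).2
  exact hcyc3 i0 hi hsi a b hab d hda hdb hdr g (hMU hg) hmm
    (fun j c h => hgn (hC' g hg j a c h)) (fun j c h => hgn (hC' g hg j b c h))

/-- PK08. paper (2.1), `q = 3`: the two-step argument from (*) = `CycleLemma3`. -/
theorem p21_three (hσ : Invol σ) (hB : IsHerm B) (hfr : OFrame B e) (hmono : HasMono B e)
    (hcyc3 : CycleLemma3 B e) (h5 : 5 ≤ Fintype.card ι) (i0 : F) (hi : i0 * i0 = -1)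
    (hsi : σ i0 = -i0) (M : Subgroup (V ≃ₗ[F] V)) (hHM : frH B e ≤ M) (hMU : M ≤ uG B)
    (hC : CaseC B e M) (hC' : PC' B e M) : P21 B e M := by
  intro g hg hgn i a b hab ha hb
  have hgU : g ∈ uG B := hMU hg
  obtain ⟨j1, j2, hj12, hcol, -⟩ :=
    step hσ hB hfr hmono hcyc3 i0 hi hsi M hHM hMU hC hC' hg hgn hab ha hb
  obtain ⟨c, c', c'', hca, hcb, hc'a, hc'b, hc''a, hc''b, h1, h2, h3⟩ := exists_three h5 a b
  obtain ⟨k1, k2, hk12, -, hk⟩ :=
    step hσ hB hfr hmono hcyc3 i0 hi hsi M hHM hMU hC hC' hg hgn h1 (hcol c hca hcb)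
      (hcol c' hc'a hc'b)
  obtain ⟨l1, l2, hl12, -, hl⟩ :=
    step hσ hB hfr hmono hcyc3 i0 hi hsi M hHM hMU hC hC' hg hgn h2 (hcol c hca hcb)
      (hcol c'' hc''a hc''b)
  -- a row with a single non-zero entry makes `g⁻¹`, hence `g`, monomial
  have hsingle : ∀ k, (∀ j, j ≠ k → B (g (e j)) (e c) = 0) → False := by
    intro k hk0
    have h4 := inv_single hB hfr hgU c k hk0
    have h5 : g⁻¹ ∈ Mono B e := hC' g⁻¹ (M.inv_mem hg) c k _ h4
    have h6 := (Mono B e).inv_mem h5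
    rw [inv_inv] at h6
    exact hgn h6
  by_cases hA1 : k1 = l1 ∨ k1 = l2
  · by_cases hA2 : k2 = l1 ∨ k2 = l2
    · -- the two pairs of columns coincide
      have hl' : ∀ j, j ≠ k1 → j ≠ k2 → B (g (e j)) (e c'') = 0 := by
        intro j hj1 hj2
        apply (hl j ?_ ?_).2
        · rcases hA1 with h | h
          · rw [← h]; exact hj1
          · rcases hA2 with h' | h'
            · rw [← h']; exact hj2
            · exact absurd (h.trans h'.symm) hk12
        · rcases hA1 with h | h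
          · rcases hA2 with h' | h'
            · exact absurd (h.trans h'.symm) hk12
            · rw [← h']; exact hj2
          · rw [← h]; exact hj1
      exact three_rows hB hfr hgU h1 h2 h3 (fun j hj1 hj2 => (hk j hj1 hj2).1)
        (fun j hj1 hj2 => (hk j hj1 hj2).2) hl'
    · -- `k2` is not among `l1, l2`: row `c` is supported on column `k1`
      have hA2' : k2 ≠ l1 ∧ k2 ≠ l2 := by
        constructor
        · intro h; exact hA2 (Or.inl h)
        · intro h; exact hA2 (Or.inr h)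
      apply hsingle k1
      intro j hj
      by_cases hj2 : j = k2
      · rw [hj2]; exact (hl k2 hA2'.1 hA2'.2).1
      · exact (hk j hj hj2).1
  · have hA1' : k1 ≠ l1 ∧ k1 ≠ l2 := by
      constructor
      · intro h; exact hA1 (Or.inl h)
      · intro h; exact hA1 (Or.inr h)
    apply hsingle k2
    intro j hj
    by_cases hj1 : j = k1
    · rw [hj1]; exact (hl k1 hA1'.1 hA1'.2).1
    · exact (hk j hj1 hj).1

end Cfsg.Agent.Lib.Helper91_FrC_PK08
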