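import Mathlib
import Cfsg.Agent.Lib.Helper83_FrCDefs
import Cfsg.Agent.Lib.Helper91_FrC_PK08

set_option autoImplicit false
set_option linter.unusedVariables false
set_option linter.unusedSectionVars false

/-!
S5655 case (C), package PK17 (architect helper83): `q` even, (E2) and (E7).
-/

namespace Cfsg.Agent.Lib.Helper91_FrC_PK17

open Module Cfsg.Agent.Lib.Helper94_Herm Cfsg.Agent.Lib.Helper13_PSUSimple
  Cfsg.Agent.Lib.Helper94_FrmDefs Cfsg.Agent.Lib.Helper83_FrCDefs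

variable {F V ι : Type*} [Field F] [AddCommGroup V] [Module F V] [Fintype ι] [DecidableEq ι]
variable {σ : F →+* F} {B : V →ₗ[F] V →ₛₗ[σ] F} {e : ι → V}

section Std
variable {κ : Type*} [Fintype κ] [DecidableEq κ]

theorem stdE_apply (s r : κ) : stdE F κ s r = if r = s then 1 else 0 := by
  simp [stdE, Pi.single_apply]

theorem stdB_stdE_left (σ : F →+* F) (s : κ) (y : κ → F) :
    stdB σ κ (stdE F κ s) y = σ (y s) := by
  rw [stdB_apply, Finset.sum_eq_single s]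
  · simp [stdE_apply]
  · intro r _ hr
    simp [stdE_apply, hr]
  · intro h
    exact absurd (Finset.mem_univ s) h

theorem comb_apply (al be : F) (c c' r : κ) :
    (al • stdE F κ c + be • stdE F κ c') r =
      al * (if r = c then 1 else 0) + be * (if r = c' then 1 else 0) := by
  simp [stdE_apply]

theorem exists_ne_two {x1 x2 x3 : κ} (h12 : x1 ≠ x2) (h13 : x1 ≠ x3) (h23 : x2 ≠ x3)
    (c c' : κ) : ∃ r, r ≠ c ∧ r ≠ c' := by
  by_cases h1 : x1 ≠ c ∧ x1 ≠ c'
  · exact ⟨x1, h1⟩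
  by_cases h2 : x2 ≠ c ∧ x2 ≠ c'
  · exact ⟨x2, h2⟩
  have h1' : x1 = c ∨ x1 = c' := by tauto
  have h2' : x2 = c ∨ x2 = c' := by tauto
  refine ⟨x3, ?_, ?_⟩
  · intro h3
    rcases h1' with h | h
    · exact h13 (h.trans h3.symm)
    · rcases h2' with h' | h'
      · exact h23 (h'.trans h3.symm)
      · exact h12 (h.trans h'.symm)
  · intro h3
    rcases h1' with h | h
    · rcases h2' with h' | h'
      · exact h12 (h.trans h'.symm)
      · exact h23 (h'.trans h3.symm)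
    · exact h13 (h.trans h3.symm)

theorem exists_two_ne {x1 x2 x3 : κ} (h12 : x1 ≠ x2) (h13 : x1 ≠ x3) (h23 : x2 ≠ x3)
    (p : κ) : ∃ r1 r2, r1 ≠ r2 ∧ r1 ≠ p ∧ r2 ≠ p := by
  by_cases h1 : x1 = p
  · refine ⟨x2, x3, h23, ?_, ?_⟩
    · intro h; exact h12 (h1.trans h.symm)
    · intro h; exact h13 (h1.trans h.symm)
  · by_cases h2 : x2 = p
    · refine ⟨x1, x3, h13, h1, ?_⟩
      intro h; exact h23 (h2.trans h.symm)
    · exact ⟨x1, x2, h12, h1, h2⟩

/-- paper (E2): `K` consists of monomial maps -/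
theorem e2 (h2 : (2 : F) = 0) (hthird : ∀ x : F, ∃ t : F, σ t = t ∧ t ≠ 0 ∧ t * x ≠ 1)
    {x1 x2 x3 : κ} (h12 : x1 ≠ x2) (h13 : x1 ≠ x3) (h23 : x2 ≠ x3)
    (K : Subgroup ((κ → F) ≃ₗ[F] (κ → F))) (hle : K ≤ uG (stdB σ κ))
    (hmm : ∀ k ∈ uG (stdB σ κ), IsMonoMap (stdE F κ) k → k ∈ K)
    (hroot : RootGU (stdB σ κ) (stdE F κ) K)
    (hlift : ∀ k ∈ K, ∀ r : κ, k (stdE F κ r) = stdE F κ r → IsMonoMap (stdE F κ) k) :
    ∀ k ∈ K, IsMonoMap (stdE F κ) k := by
  intro k hk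
  by_contra hnot
  obtain ⟨c, c', hcc', al, be, hu0, huu, hutv⟩ := hroot hle hmm ⟨k, hk, hnot⟩
  have hneg : ∀ x : F, -x = x := by
    intro x
    linear_combination (-x) * h2
  have huc : (al • stdE F κ c + be • stdE F κ c') c = al := by
    rw [comb_apply, if_pos rfl, if_neg hcc']; ring
  have huc' : (al • stdE F κ c + be • stdE F κ c') c' = be := by
    rw [comb_apply, if_pos rfl, if_neg hcc'.symm]; ring
  have hur : ∀ r, r ≠ c → r ≠ c' → (al • stdE F κ c + be • stdE F κ c') r = 0 := by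
    intro r h1 h2
    rw [comb_apply, if_neg h1, if_neg h2]; ring
  have hB1 : ∀ w : κ → F, stdB σ κ (al • stdE F κ c + be • stdE F κ c') w =
      al * σ (w c) + be * σ (w c') := by
    intro w
    rw [LinearMap.map_add₂, LinearMap.map_smul₂, LinearMap.map_smul₂, stdB_stdE_left,
      stdB_stdE_left, smul_eq_mul, smul_eq_mul]
  have hBuu : al * σ al + be * σ be = 0 := by
    rw [← huu, hB1, huc, huc']
  have hal : al ≠ 0 := by
    intro h
    rw [h, zero_mul, zero_add] at hBuu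
    have hbe : be = 0 := by
      rcases mul_eq_zero.1 hBuu with h' | h'
      · exact h'
      · exact (map_eq_zero σ).1 h'
    apply hu0
    rw [h, hbe, zero_smul, zero_smul, add_zero]
  have hbe : be ≠ 0 := by
    intro h
    rw [h, zero_mul, add_zero] at hBuu
    have hal0 : al = 0 := by
      rcases mul_eq_zero.1 hBuu with h' | h'
      · exact h'
      · exact (map_eq_zero σ).1 h'
    exact hal hal0
  obtain ⟨t, hσt, ht0, htx⟩ := hthird (al * σ al)
  have hT : utv (stdB σ κ) (al • stdE F κ c + be • stdE F κ c') t ∈ K :=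
    hutv t (by rw [hσt, hneg])
  obtain ⟨r0, hr0c, hr0c'⟩ := exists_ne_two h12 h13 h23 c c'
  have hfix : utv (stdB σ κ) (al • stdE F κ c + be • stdE F κ c') t (stdE F κ r0) =
      stdE F κ r0 := by
    apply utv_fix
    rw [stdB_stdE_left, hur r0 hr0c hr0c', map_zero]
  obtain ⟨π, hπ⟩ := hlift _ hT r0 hfix
  obtain ⟨c0, hc0, hTc⟩ := hπ c
  rw [utv_apply _ huu, stdB_stdE_left, huc] at hTc
  by_cases hπc : π c = c
  · -- the `c'`-coordinate vanishes
    have h1 := congrFun hTc c'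
    rw [Pi.add_apply, Pi.smul_apply, huc', Pi.smul_apply, stdE_apply, stdE_apply, hπc,
      if_neg hcc'.symm] at h1
    simp only [smul_eq_mul, mul_zero, zero_add] at h1
    have hσal : σ al ≠ 0 := (map_ne_zero σ).2 hal
    exact mul_ne_zero (mul_ne_zero ht0 hσal) hbe h1
  · -- the `c`-coordinate vanishes
    have h1 := congrFun hTc c
    rw [Pi.add_apply, Pi.smul_apply, huc, Pi.smul_apply, stdE_apply, stdE_apply, if_pos rfl,
      if_neg (fun h => hπc h.symm)] at h1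
    simp only [smul_eq_mul, mul_zero] at h1
    apply htx
    have h3 : t * (al * σ al) = -1 := by linear_combination h1
    rw [h3, hneg]

end Std

/-- PK17. paper (E2), (E7). -/
theorem pE7 (hσ : Invol σ) (hB : IsHerm B) (hfr : OFrame B e) (h2 : (2 : F) = 0)
    (h5 : 5 ≤ Fintype.card ι) (hthird : ∀ x : F, ∃ t : F, σ t = t ∧ t ≠ 0 ∧ t * x ≠ 1)
    (M : Subgroup (V ≃ₗ[F] V)) (hMU : M ≤ uG B) (h21 : P21 B e M)
    (hquot : ∀ a b : ι, a ≠ b → ∀ l : F, l * σ l = 1 →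
      ∃ K : Subgroup ((Idx' a b → F) ≃ₗ[F] (Idx' a b → F)), QuotData B e a b l M K ∧
        RootGU (stdB σ (Idx' a b)) (stdE F (Idx' a b)) K ∧
        ∀ k ∈ K, ∀ r : Idx' a b, k (stdE F (Idx' a b) r) = stdE F (Idx' a b) r →
          IsMonoMap (stdE F (Idx' a b)) k) :
    PE7 B e M := by
  intro a b hab l hl m hm hfix
  obtain ⟨K, hK, hroot, hlift⟩ := hquot a b hab l hl
  obtain ⟨c1, c2, c3, h1a, h1b, h2a, h2b, h3a, h3b, h12, h13, h23⟩ :=
    Cfsg.Agent.Lib.Helper91_FrC_PK08.exists_three h5 a b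
  let x1 : Idx' a b := ⟨c1, h1a, h1b⟩
  let x2 : Idx' a b := ⟨c2, h2a, h2b⟩
  let x3 : Idx' a b := ⟨c3, h3a, h3b⟩
  have hx12 : x1 ≠ x2 := fun h => h12 (congrArg Subtype.val h)
  have hx13 : x1 ≠ x3 := fun h => h13 (congrArg Subtype.val h)
  have hx23 : x2 ≠ x3 := fun h => h23 (congrArg Subtype.val h)
  have hE2 := e2 h2 hthird hx12 hx13 hx23 K hK.le_uG hK.mono_mem hroot hlift
  obtain ⟨k, hk, hq⟩ := hK.proj m hm hfix
  obtain ⟨π, hπ⟩ := hE2 k hk
  by_contra hmn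
  obtain ⟨r1, r2, hr12, hr1, hr2⟩ := exists_two_ne hx12 hx13 hx23 (π x1)
  obtain ⟨c0, hc0, hkx⟩ := hπ x1
  have hz : ∀ r : Idx' a b, r ≠ π x1 → B (m (e x1.1)) (e r.1) = 0 := by
    intro r hr
    rw [← hq r x1, hkx, Pi.smul_apply, stdE_apply, if_neg hr, smul_zero]
  exact h21 m hm hmn x1.1 r1.1 r2.1 (fun h => hr12 (Subtype.ext h)) (hz r1 hr1) (hz r2 hr2)

end Cfsg.Agent.Lib.Helper91_FrC_PK17
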