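import Mathlib
import Cfsg.Agent.Lib.Helper83_FrCDefs
import Cfsg.Agent.Lib.Helper7_FrC_PK01
import Cfsg.Agent.Lib.Helper46_FrC_PK02
import Cfsg.Agent.Lib.Helper39_FrC_PK03
import Cfsg.Agent.Lib.Helper84_FrC_PK04
import Cfsg.Agent.Lib.Helper7_FrC_PK05
import Cfsg.Agent.Lib.Helper91_FrC_PK06
import Cfsg.Agent.Lib.Helper8_FrC_PK07
import Cfsg.Agent.Lib.Helper91_FrC_PK08
import Cfsg.Agent.Lib.Helper73_FrC_PK09
import Cfsg.Agent.Lib.Helper84_FrC_PK10
import Cfsg.Agent.Lib.Helper73_FrC_PK12
import Cfsg.Agent.Lib.Helper26_FrC_PK15A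
import Cfsg.Agent.Lib.Helper63_FrC_PK16
import Cfsg.Agent.Lib.Helper91_FrC_PK17
import Cfsg.Agent.Lib.Helper79_FrC_PK18
import Cfsg.Agent.Lib.Helper61_FrC_PK21
import Cfsg.Agent.Lib.Helper61_FrC_PK20
import Cfsg.Agent.Lib.Helper10_FrC_PK19
import Cfsg.Agent.Lib.Helper2_FrC_PK11
import Cfsg.Agent.Lib.Helper2_FrC_PK14
import Cfsg.Agent.Lib.Helper10_FrC_PK15B

set_option autoImplicit false
set_option linter.unusedVariables false
set_option linter.unusedSectionVars false

namespace Cfsg.Agent.Lib.Helper83_FrCAsm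

open Module Cfsg.Agent.Lib.Helper94_Herm Cfsg.Agent.Lib.Helper13_PSUSimple
  Cfsg.Agent.Lib.Helper94_FrmDefs Cfsg.Agent.Lib.Helper83_FrCDefs
  Cfsg.Agent.Lib

variable {F V ι : Type*} [Field F] [AddCommGroup V] [Module F V] [Fintype ι] [DecidableEq ι]
variable {σ : F →+* F} {B : V →ₗ[F] V →ₛₗ[σ] F} {e : ι → V}

lemma SUg_le_uG : SUg B ≤ uG B := fun g hg => (mem_SUg.mp hg).1

/-- q is a prime power ≥ 2 and the cases -/
theorem frames_caseC [Fintype F] (hσ : Invol σ) (hB : IsHerm B) (hfr : OFrame B e) (q : ℕ)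
    (hq : ∀ x : F, σ x = x ^ q) (hcard : Fintype.card F = q ^ 2) (h13 : 13 ≤ Fintype.card ι)
    (hroot : ∀ (a b : ι) (K : Subgroup ((Idx' a b → F) ≃ₗ[F] (Idx' a b → F))),
      RootGU (stdB σ (Idx' a b)) (stdE F (Idx' a b)) K)
    (M : Subgroup (V ≃ₗ[F] V)) (hHM : frH B e ≤ M) (hMS : M ≤ SUg B) (hC : CaseC B e M) :
    M ≤ Mono B e := by
  have hMU : M ≤ uG B := hMS.trans SUg_le_uG
  have hdet : HasDet F e := Helper7_FrC_PK01.hasDet hfr
  have hmono : HasMono B e := Helper7_FrC_PK01.hasMono hσ hB hfr hdet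
  have hC' : PC' B e M := Helper91_FrC_PK06.caseC' hσ hB hfr hmono M hHM hC
  have hrank : RankLemma F e := Helper7_FrC_PK05.rankLemma hfr
  have hrinv : RankLemmaInvol F e := Helper7_FrC_PK05.rankLemmaInvol hfr
  have hq2 : 2 ≤ q := by
    have h1 : 1 < Fintype.card F := Fintype.one_lt_card
    rw [hcard] at h1
    by_contra hlt
    push Not at hlt
    interval_cases q <;> simp at h1
  by_cases h2 : (2 : F) = 0
  · -- q even
    by_cases hq4 : 4 ≤ q
    · obtain ⟨z, hz⟩ := Helper46_FrC_PK02.exists_good hσ q hq hcard hq4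
      have h21 : P21 B e M :=
        Helper8_FrC_PK07.p21_generic hσ hB hfr hmono (Helper39_FrC_PK03.cycleLemma hσ hfr) M hHM hMU hC hC' z hz
      have h22 : P22 B e M := Helper73_FrC_PK09.p22 hσ hB hfr hdet hrank h13 M hMU h21
      have hE7 : PE7 B e M := by
        apply Helper91_FrC_PK17.pE7 hσ hB hfr h2 (by omega) (Helper84_FrC_PK10.exists_third hσ q hq hcard hq4) M hMU h21
        intro a b hab l hl
        obtain ⟨K, hK⟩ := Helper10_FrC_PK15B.exists_quotData hσ hB hfr hmono h2 a b hab l hl M hHM hMU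
          (fun m hm hfix => Helper26_FrC_PK15A.qrel_exists hσ hB hfr h2 a b hab l hl m hm hfix)
          (fun m m' k k' hm hm' hf hf' h h' =>
            Helper26_FrC_PK15A.qrel_mul hσ hB hfr h2 a b hab l hl m m' k k' hm hm' hf hf' h h')
        refine ⟨K, hK, hroot a b K, ?_⟩
        exact Helper63_FrC_PK16.e_lift hσ hB hfr hmono h2 (by omega) a b hab l hl M hHM hMU hC K hK
          (Helper39_FrC_PK03.cycleLemma hσ (Helper26_FrC_PK15A.stdFrame σ (Idx' a b))) z hz
      have hE8 : PE8 B e M := Helper79_FrC_PK18.pE8 hσ hB hfr hmono M hHM hMU h22 hE7 z hz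
      exact Helper10_FrC_PK19.caseC_even hσ hB hfr hmono hrank h2 h13 M hHM hMS hE7 hE8
    · -- q = 2 (q = 3 is impossible in characteristic 2)
      have hq2' : q = 2 := by
        have hq3 : q = 2 ∨ q = 3 := by omega
        rcases hq3 with h | h
        · exact h
        · exfalso
          subst h
          have h9 : ((Fintype.card F : ℕ) : F) = 0 := Nat.cast_card_eq_zero F
          rw [hcard] at h9
          have h9' : (9 : F) = 0 := by norm_num at h9; exact_mod_cast h9
          have : (1 : F) = 0 := by linear_combination h9' - 4 * h2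
          exact one_ne_zero this
      subst hq2'
      have hnorm : ∀ c : F, c ≠ 0 → c * σ c = 1 := by
        intro c hc
        have := FiniteField.pow_card_sub_one_eq_one c hc
        rw [hcard] at this
        rw [hq]
        calc c * c ^ 2 = c ^ (2 ^ 2 - 1) := by ring
          _ = 1 := this
      obtain ⟨w, hw⟩ : ∃ w : F, w ^ 2 + w + 1 = 0 := by
        have hc4 : 2 < Fintype.card F := by rw [hcard]; norm_num
        obtain ⟨x, y, z, hxy, hxz, hyz⟩ := Fintype.two_lt_card_iff.mp hc4
        have key : ∀ c : F, c ≠ 0 → c ≠ 1 → c ^ 2 + c + 1 = 0 := by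
          intro c hc0 hc1
          have h3 := FiniteField.pow_card_sub_one_eq_one c hc0
          rw [hcard] at h3
          have h3' : (c - 1) * (c ^ 2 + c + 1) = 0 := by
            have : c ^ 3 = 1 := by simpa using h3
            linear_combination this
          rcases mul_eq_zero.mp h3' with h | h
          · exact absurd (sub_eq_zero.mp h) hc1
          · exact h
        by_cases hx0 : x = 0
        · by_cases hy1 : y = 1
          · exact ⟨z, key z (fun h => hxz (hx0.trans h.symm)) (fun h => hyz (hy1.trans h.symm))⟩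
          · exact ⟨y, key y (fun h => hxy (hx0.trans h.symm)) hy1⟩
        · by_cases hx1 : x = 1
          · by_cases hy0 : y = 0
            · exact ⟨z, key z (fun h => hyz (hy0.trans h.symm)) (fun h => hxz (hx1.trans h.symm))⟩
            · exact ⟨y, key y hy0 (fun h => hxy (hx1.trans h.symm))⟩
          · exact ⟨x, key x hx0 hx1⟩
      have hT1 := Helper61_FrC_PK20.q2_exists_tv hσ hB hfr hmono h2 hnorm w hw (by omega) M hHM hMU hC'
      exact Helper61_FrC_PK21.caseC_two hσ hB hfr hmono h2 hnorm w hw (by omega) M hHM hMS hC hT1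
  · -- q odd
    have h21 : P21 B e M := by
      by_cases hq3 : q = 3
      · subst hq3
        obtain ⟨i0, hi, hsi⟩ := Helper46_FrC_PK02.exists_i3 hσ hq hcard
        exact Helper91_FrC_PK08.p21_three hσ hB hfr hmono (Helper84_FrC_PK04.cycleLemma3 hσ hB hfr h2) (by omega) i0 hi hsi M hHM hMU
          hC hC'
      · have hq4 : 4 ≤ q := by
          have : q ≠ 2 := by
            rintro rfl
            have h4 : ((Fintype.card F : ℕ) : F) = 0 := Nat.cast_card_eq_zero F
            rw [hcard] at h4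
            have h4' : (2 : F) * 2 = 0 := by norm_num at h4; exact_mod_cast h4
            exact h2 (mul_self_eq_zero.mp h4')
          omega
        obtain ⟨z, hz⟩ := Helper46_FrC_PK02.exists_good hσ q hq hcard hq4
        exact Helper8_FrC_PK07.p21_generic hσ hB hfr hmono (Helper39_FrC_PK03.cycleLemma hσ hfr) M hHM hMU hC hC' z hz
    have h22 : P22 B e M := Helper73_FrC_PK09.p22 hσ hB hfr hdet hrank h13 M hMU h21
    have h23 : P23 B e M := Helper2_FrC_PK11.p23 hσ hB hfr hmono hrank q hq hcard h2 (by omega)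
      (Helper46_FrC_PK02.exists_mu_gen hσ q hq hcard) (Helper84_FrC_PK10.card_fixed hσ q hq hcard) M hHM hMU hC h21
    have h24 : P24 B e M := Helper73_FrC_PK12.p24 hB M hMU h23
    have h25 : P25 B e M := Helper73_FrC_PK12.p25 hσ hB hfr hmono
      (fun c c' hc hc' hc0 hc'0 => Helper84_FrC_PK10.pigeon_norm hσ q hq hcard c c' hc hc' hc0 hc'0) M hHM hMU h22
      h23 h24
    exact Helper2_FrC_PK14.caseC_odd hσ hB hfr hmono hdet hrinv h2 h13 M hHM hMS h22 h23 h25

end Cfsg.Agent.Lib.Helper83_FrCAsm
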