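import Mathlib
import Cfsg.Agent.Lib.Helper83_FrCDefs
import Cfsg.Agent.Lib.Helper13_SUGen

set_option autoImplicit false
set_option linter.unusedVariables false
set_option linter.unusedSectionVars false

/-!
S5655: from a decomposition into nondegenerate lines to an orthonormal frame; strictness.
-/

namespace Cfsg.Agent.Lib.Helper83_FrCTop

open Module Cfsg.Agent.Lib.Helper94_Herm Cfsg.Agent.Lib.Helper13_PSUSimple
  Cfsg.Agent.Lib.Helper94_FrmDefs Cfsg.Agent.Lib.Helper83_FrCDefs Cfsg.Agent.Lib.Helper13_SUGen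

variable {F V : Type*} [Field F] [AddCommGroup V] [Module F V]
variable {σ : F →+* F} {B : V →ₗ[F] V →ₛₗ[σ] F}

/-- `k = 1`: an orthonormal frame from a decomposition into nondegenerate lines. -/
theorem frame_of_decomp [Finite F] (hσ : Invol σ) (hB : IsHerm B) {t : ℕ}
    (D : Fin t → Submodule F V) (hfr : ∀ i, finrank F (D i) = 1) (hsup : iSup D = ⊤)
    (hnd : ∀ i, NondegOn B (D i))
    (horth : ∀ i j, i ≠ j → ∀ u ∈ D i, ∀ v ∈ D j, B u v = 0) :
    ∃ e : Fin t → V, OFrame B e ∧ ∀ i, D i = Submodule.span F {e i} := by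
  have key : ∀ i, ∃ x : V, B x x = 1 ∧ D i = Submodule.span F {x} := by
    intro i
    obtain ⟨⟨d, hdD⟩, hd0, hspan⟩ := finrank_eq_one_iff'.mp (hfr i)
    have hd0' : d ≠ 0 := fun h => hd0 (Subtype.ext h)
    have hDi : D i = Submodule.span F {d} := by
      apply le_antisymm
      · intro w hw
        obtain ⟨c, hc⟩ := hspan ⟨w, hw⟩
        have : c • d = w := congrArg Subtype.val hc
        rw [← this]
        exact Submodule.smul_mem _ _ (Submodule.mem_span_singleton_self d)
      · exact (Submodule.span_singleton_le_iff_mem d (D i)).mpr hdD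
    obtain ⟨y, hy, hdy⟩ := hnd i d hdD hd0'
    rw [hDi] at hy
    obtain ⟨c, rfl⟩ := Submodule.mem_span_singleton.mp hy
    have hdd : B d d ≠ 0 := by
      intro h
      apply hdy
      rw [map_smulₛₗ, h, smul_zero]
    have hfix : σ (B d d)⁻¹ = (B d d)⁻¹ := by rw [map_inv₀, herm_self hB]
    obtain ⟨l, hl⟩ := norm_surj hσ (B d d)⁻¹ hfix
    have hl0 : l ≠ 0 := by
      rintro rfl
      rw [zero_mul] at hl
      exact inv_ne_zero hdd hl.symm
    refine ⟨l • d, ?_, ?_⟩
    · rw [self_smul, hl, inv_mul_cancel₀ hdd]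
    · rw [hDi]
      apply le_antisymm
      · rw [Submodule.span_singleton_le_iff_mem]
        have hd' : d = l⁻¹ • (l • d) := by rw [smul_smul, inv_mul_cancel₀ hl0, one_smul]
        have hmem : l⁻¹ • (l • d) ∈ Submodule.span F {l • d} :=
          Submodule.smul_mem _ _ (Submodule.mem_span_singleton_self _)
        rw [← hd'] at hmem
        exact hmem
      · rw [Submodule.span_singleton_le_iff_mem]
        exact Submodule.smul_mem _ _ (Submodule.mem_span_singleton_self _)
  choose e he1 heD using key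
  refine ⟨e, ⟨?_, he1, ?_⟩, heD⟩
  · intro i j hij
    apply horth i j hij
    · rw [heD i]; exact Submodule.mem_span_singleton_self _
    · rw [heD j]; exact Submodule.mem_span_singleton_self _
  · rw [eq_top_iff, ← hsup, iSup_le_iff]
    intro i
    rw [heD i, Submodule.span_singleton_le_iff_mem]
    exact Submodule.subset_span ⟨i, rfl⟩

/-- `k = 1`: the decomposition stabiliser is the monomial group. -/
theorem stab_iff_mono {t : ℕ} (D : Fin t → Submodule F V) (e : Fin t → V) (he : OFrame B e)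
    (heD : ∀ i, D i = Submodule.span F {e i}) (S : Subgroup (V ≃ₗ[F] V))
    (hS : ∀ g, g ∈ S ↔ ∃ π : Equiv.Perm (Fin t), ∀ i, (D i).map (g : V →ₗ[F] V) = D (π i))
    (g : V ≃ₗ[F] V) (hg : g ∈ uG B) : g ∈ S ↔ g ∈ Mono B e := by
  rw [hS, mem_Mono]
  constructor
  · rintro ⟨π, hπ⟩
    refine ⟨hg, π, fun i => ?_⟩
    have h1 : g (e i) ∈ (D i).map (g : V →ₗ[F] V) := by
      refine ⟨e i, ?_, rfl⟩
      rw [heD i]; exact Submodule.mem_span_singleton_self _
    rw [hπ i, heD (π i)] at h1
    obtain ⟨c, hc⟩ := Submodule.mem_span_singleton.mp h1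
    refine ⟨c, ?_, hc.symm⟩
    rintro rfl
    rw [zero_smul] at hc
    have : e i = 0 := by
      have h2 : g (e i) = g 0 := by rw [← hc, map_zero]
      exact g.injective h2
    exact fr_ne_zero he i this
  · rintro ⟨_, π, hπ⟩
    refine ⟨π, fun i => ?_⟩
    obtain ⟨c, hc0, hc⟩ := hπ i
    rw [heD i, heD (π i), Submodule.map_span, Set.image_singleton]
    show Submodule.span F {g (e i)} = _
    rw [hc]
    exact Submodule.span_singleton_smul_eq (IsUnit.mk0 c hc0) _

/-- `k = 1`: the special unitary group is not monomial (four frame vectors suffice). -/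
theorem exists_not_mono [Finite F] [FiniteDimensional F V] (hσ : Invol σ) (hB : IsHerm B)
    {ι : Type*} [Fintype ι] [DecidableEq ι] {e : ι → V} (he : OFrame B e)
    (i0 i1 i2 i3 : ι) (h01 : i0 ≠ i1) (h02 : i0 ≠ i2) (h03 : i0 ≠ i3) (h12 : i1 ≠ i2)
    (h13 : i1 ≠ i3) (h23 : i2 ≠ i3) : ∃ g ∈ SUg B, g ∉ Mono B e := by
  have hm1 : σ (-1 : F) = -1 := by rw [map_neg, map_one]
  obtain ⟨α, hα⟩ := norm_surj hσ (-1 : F) hm1
  obtain ⟨c, hc0, hc⟩ := exists_skew hσ
  have hα0 : α ≠ 0 := by
    rintro rfl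
    rw [zero_mul] at hα
    have : (1 : F) = 0 := by linear_combination hα
    exact one_ne_zero this
  obtain ⟨u, hu⟩ : ∃ u : V, u = e i0 + e i1 + α • e i2 + α • e i3 := ⟨_, rfl⟩
  have hue : ∀ j, B u (e j) = (if i0 = j then 1 else 0) + (if i1 = j then 1 else 0) +
      α * (if i2 = j then 1 else 0) + α * (if i3 = j then 1 else 0) := by
    intro j
    simp only [hu, map_add, map_smul, LinearMap.add_apply, LinearMap.smul_apply, smul_eq_mul,
      fr_apply_eq he]
  have heu : ∀ j, B (e j) u = σ (B u (e j)) := fun j => hB u (e j)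
  have huu : B u u = 0 := by
    have h0 := hue i0
    have h1 := hue i1
    have h2 := hue i2
    have h3 := hue i3
    simp only [h01, h02, h03, h12, h13, h23, h01.symm, h02.symm, h03.symm, h12.symm, h13.symm,
      h23.symm, if_true, if_false, mul_one, mul_zero, add_zero, zero_add] at h0 h1 h2 h3
    have hexp : B u u = B u (e i0) + B u (e i1) + σ α * B u (e i2) + σ α * B u (e i3) := by
      conv_lhs => rw [hu, map_add, map_add, map_add, map_smulₛₗ, map_smulₛₗ, ← hu]
      simp only [smul_eq_mul]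
    rw [hexp, h0, h1, h2, h3]
    linear_combination 2 * hα
  refine ⟨utv B u c, mem_SUg.mpr ⟨utv_mem_uG hB u hc, det_utv u c⟩, ?_⟩
  intro hmono
  obtain ⟨_, π, hπ⟩ := mem_Mono.mp hmono
  obtain ⟨d, hd0, hd⟩ := hπ i0
  rw [utv_apply B huu] at hd
  have h0 : B (e i0) u = 1 := by
    rw [heu, hue]
    simp [h01.symm, h02.symm, h03.symm]
  rw [h0, mul_one] at hd
  have hc1 : B (e i0 + c • u) (e i1) = c := by
    rw [map_add, map_smul, LinearMap.add_apply, LinearMap.smul_apply, smul_eq_mul, hue,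
      fr_apply_eq he]
    simp [h01, h12.symm, h13.symm]
  have hc2 : B (e i0 + c • u) (e i2) = c * α := by
    rw [map_add, map_smul, LinearMap.add_apply, LinearMap.smul_apply, smul_eq_mul, hue,
      fr_apply_eq he]
    simp [h02, h12, h23.symm]
  rw [hd, map_smul, LinearMap.smul_apply, smul_eq_mul, fr_apply_eq he] at hc1 hc2
  have hj1 : π i0 = i1 := by
    by_contra h
    rw [if_neg h, mul_zero] at hc1
    exact hc0 hc1.symm
  have hj2 : π i0 = i2 := by
    by_contra h
    rw [if_neg h, mul_zero] at hc2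
    exact mul_ne_zero hc0 hα0 hc2.symm
  exact h12 (hj1.symm.trans hj2)

/-- blocks of dimension at least two: the special unitary group does not permute the blocks. -/
theorem exists_not_stab [Finite F] (hσ : Invol σ) (hB : IsHerm B) {t k : ℕ}
    (D : Fin t → Submodule F V) (ht : 2 ≤ t) (hk : 2 ≤ k) (hfr : ∀ i, finrank F (D i) = k)
    (hnd : ∀ i, NondegOn B (D i))
    (horth : ∀ i j, i ≠ j → ∀ u ∈ D i, ∀ v ∈ D j, B u v = 0) (S : Subgroup (V ≃ₗ[F] V))
    (hS : ∀ g, g ∈ S ↔ ∃ π : Equiv.Perm (Fin t), ∀ i, (D i).map (g : V →ₗ[F] V) = D (π i)) :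
    ∃ g ∈ SUg B, g ∉ S := by
  classical
  let i0 : Fin t := ⟨0, by omega⟩
  let i1 : Fin t := ⟨1, by omega⟩
  have h01 : i0 ≠ i1 := by
    intro h
    have := congrArg Fin.val h
    simp [i0, i1] at this
  have hne : ∀ i, ∃ x ∈ D i, x ≠ 0 := by
    intro i
    have hpos : 0 < finrank F (D i) := by rw [hfr i]; omega
    have : Nontrivial (D i) := Module.nontrivial_of_finrank_pos hpos
    obtain ⟨⟨x, hx⟩, hx0⟩ := exists_ne (0 : D i)
    exact ⟨x, hx, fun h => hx0 (Subtype.ext h)⟩
  obtain ⟨x0, hx0D, hx00⟩ := hne i0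
  obtain ⟨a, haD, haa⟩ := exists_aniso hσ hB (hnd i0) hx0D hx00
  obtain ⟨x1, hx1D, hx10⟩ := hne i1
  obtain ⟨b', hb'D, hb'b'⟩ := exists_aniso hσ hB (hnd i1) hx1D hx10
  have hfix : σ (-(B a a) / B b' b') = -(B a a) / B b' b' := by
    rw [map_div₀, map_neg, herm_self hB, herm_self hB]
  obtain ⟨l, hl⟩ := norm_surj hσ _ hfix
  set b : V := l • b' with hb
  have hbD : b ∈ D i1 := (D i1).smul_mem _ hb'D
  have hbb : B b b = -(B a a) := by
    rw [hb, self_smul, hl]
    field_simp
  have hab : B a b = 0 := horth i0 i1 h01 a haD b hbD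
  have hba : B b a = 0 := horth i1 i0 h01.symm b hbD a haD
  have huu : B (a + b) (a + b) = 0 := by
    simp only [map_add, LinearMap.add_apply, hab, hba, hbb]
    ring
  -- a vector of `D i0` outside the line of `a`, not orthogonal to `a`
  have ha0 : a ≠ 0 := by
    rintro rfl
    exact haa (by simp)
  obtain ⟨x, hxD, hxa, hxs⟩ : ∃ x ∈ D i0, B x a ≠ 0 ∧ x ∉ Submodule.span F {a} := by
    have hlt : Submodule.span F {a} < D i0 := by
      refine lt_of_le_of_ne ((Submodule.span_singleton_le_iff_mem a _).mpr haD) ?_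
      intro heq
      have := hfr i0
      rw [← heq, finrank_span_singleton ha0] at this
      omega
    obtain ⟨y, hyD, hys⟩ := SetLike.exists_of_lt hlt
    by_cases hya : B y a = 0
    · refine ⟨y + a, (D i0).add_mem hyD haD, ?_, ?_⟩
      · rw [map_add, LinearMap.add_apply, hya, zero_add]
        exact haa
      · intro h
        apply hys
        have := Submodule.sub_mem _ h (Submodule.mem_span_singleton_self a)
        simpa using this
    · exact ⟨y, hyD, hya, hys⟩
  obtain ⟨c, hc0, hc⟩ := exists_skew hσ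
  refine ⟨utv B (a + b) c, mem_SUg.mpr ⟨utv_mem_uG hB _ hc, det_utv _ c⟩, ?_⟩
  intro hgS
  obtain ⟨π, hπ⟩ := (hS _).mp hgS
  have hxb : B x b = 0 := horth i0 i1 h01 x hxD b hbD
  have hxu : B x (a + b) = B x a := by rw [map_add, hxb, add_zero]
  have hgx : utv B (a + b) c x = x + (c * B x a) • (a + b) := by
    rw [utv_apply B huu, hxu]
  have hmem : utv B (a + b) c x ∈ D (π i0) := by
    rw [← hπ i0]
    exact ⟨x, hxD, rfl⟩
  rw [hgx] at hmem
  have hc' : c * B x a ≠ 0 := mul_ne_zero hc0 hxa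
  by_cases hj : π i0 = i1
  · -- the image lies in `D i1`, so it is orthogonal to `D i0`
    rw [hj] at hmem
    have horth0 : ∀ z ∈ D i0, B (x + (c * B x a) • a) z = 0 := by
      intro z hz
      have h1 := horth i1 i0 h01.symm _ hmem z hz
      have hbz : B b z = 0 := horth i1 i0 h01.symm b hbD z hz
      simp only [map_add, map_smul, LinearMap.add_apply, LinearMap.smul_apply, smul_eq_mul, hbz,
        add_zero] at h1 ⊢
      exact h1
    have hmem0 : x + (c * B x a) • a ∈ D i0 := (D i0).add_mem hxD ((D i0).smul_mem _ haD)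
    have hzero : x + (c * B x a) • a = 0 := by
      by_contra hne0
      obtain ⟨y, hy, hyn⟩ := hnd i0 _ hmem0 hne0
      exact hyn (horth0 y hy)
    apply hxs
    have : x = (-(c * B x a)) • a := by
      rw [neg_smul]
      exact eq_neg_of_add_eq_zero_left hzero
    rw [this]
    exact Submodule.smul_mem _ _ (Submodule.mem_span_singleton_self a)
  · -- the image lies in a block orthogonal to `D i1`
    have h1 := horth (π i0) i1 hj _ hmem b hbD
    simp only [map_add, map_smul, LinearMap.add_apply, LinearMap.smul_apply, smul_eq_mul, hxb, hab,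
      zero_add] at h1
    rw [hbb] at h1
    exact (mul_ne_zero hc' (neg_ne_zero.mpr haa)) h1

end Cfsg.Agent.Lib.Helper83_FrCTop
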