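import Mathlib
import Cfsg.Agent.Lib.Helper94_FrmDefs2
import Cfsg.Agent.Lib.Helper9_S2151_CNT
import Cfsg.Agent.Lib.Helper14_PSULocal1
import Cfsg.Agent.Lib.Helper73_FR_Diag2

/-!
helper73 — package FR-S2A of helper94's S5655 frames market: tangent pair, isotropic remainder.
`y = w`, `y' = σ l • d w`, `d = diag(l at i, l at j)`, `l` of norm one, `l ≠ 1`.
-/

set_option autoImplicit false
set_option linter.unusedSectionVars false
set_option linter.unusedVariables false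

namespace Cfsg.Agent.Lib.Helper73_FR_S2A

open Module Cfsg.Agent.Lib.Helper94_Symp Cfsg.Agent.Lib.Helper94_Herm
  Cfsg.Agent.Lib.Helper13_PSUSimple Cfsg.Agent.Lib.Helper27_UQDefs
  Cfsg.Agent.Lib.Helper94_FrmDefs Cfsg.Agent.Lib.Helper94_UDDefs
  Cfsg.Agent.Lib.Helper94_FrmDefs2 Cfsg.Agent.Lib.Helper27_UQ_KISO
  Cfsg.Agent.Lib.Helper94_HermTrans

open Cfsg.Agent.Lib.Helper73_FR_Diag2

variable {F W : Type*} [Field F] [AddCommGroup W] [Module F W] [Finite F] [FiniteDimensional F W]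
variable {σ : F →+* F} {B : W →ₗ[F] W →ₛₗ[σ] F}
variable {ι : Type*} [Fintype ι] [DecidableEq ι] {e : ι → W} {L : Subgroup (W ≃ₗ[F] W)}

/-- FR-S2A. -/
theorem S2A (hC : FCtx B e L) {w : W} (hw : w ∈ Rc B (mu1 σ) L) {i j k : ι} (hij : i ≠ j)
    (hik : i ≠ k) (hjk : j ≠ k) (hk : B w (e k) ≠ 0)
    (ht : B w (e i) * σ (B w (e i)) + B w (e j) * σ (B w (e j)) = 1) :
    ∃ y ∈ Rc B (mu1 σ) L, ∃ y' ∈ Rc B (mu1 σ) L, B y y' = 1 ∧ y ≠ y' := by
  obtain ⟨l, hl, hl2⟩ := Cfsg.Agent.Lib.Helper73_UD_ZETA.exists_norm_one_sq_ne hC.hσ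
  have hl1 : l ≠ 1 := by
    rintro rfl
    exact hl2 (one_mul 1)
  have hσl : σ l * σ (σ l) = 1 := by rw [hC.hσ.invol, mul_comm]; exact hl
  have hσl1 : σ l ≠ 1 := by
    intro h
    apply hl1
    have := congrArg σ h
    rwa [hC.hσ.invol, map_one] at this
  have hd : dg B e i j l l ∈ L := hC.hML (dg_mem_Mono hC.hB hC.he i j hl hl)
  have hdw : dg B e i j l l w =
      w + ((l - 1) * B w (e i)) • e i + ((l - 1) * B w (e j)) • e j :=
    dg_apply hC.he hij hl hl w
  refine ⟨w, hw, σ l • dg B e i j l l w, Rc_smul (Rc_map hC.hLU hw hd) hσl, ?_, ?_⟩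
  · rw [map_smulₛₗ, hC.hσ.invol, hdw]
    simp only [map_add, map_smulₛₗ, smul_eq_mul, map_mul, map_sub, map_one, hw.1]
    have h1 : (1 : F) + (σ l - 1) * σ (B w (e i)) * B w (e i) +
        (σ l - 1) * σ (B w (e j)) * B w (e j) = σ l := by
      linear_combination (σ l - 1) * ht
    rw [h1]
    exact hl
  · intro h
    have h2 := congrArg (fun v => B v (e k)) h
    simp only [hdw, map_add, map_smul, LinearMap.add_apply, LinearMap.smul_apply, smul_eq_mul,
      hC.he.orth i k hik, hC.he.orth j k hjk, mul_zero, add_zero] at h2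
    have h3 : (1 - σ l) * B w (e k) = 0 := by linear_combination h2
    rcases mul_eq_zero.mp h3 with h4 | h4
    · exact hσl1 (by linear_combination -h4)
    · exact hk h4

end Cfsg.Agent.Lib.Helper73_FR_S2A
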