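import Mathlib
import Cfsg.Agent.Lib.Helper94_FrmDefs2

/-!
# S5655 package FR-RES3 (helper77 for helper94): a monomial restriction comes from a monomial element
-/

set_option autoImplicit false
set_option linter.unusedSectionVars false
set_option linter.unusedVariables false

namespace Cfsg.Agent.Lib.Helper77_FR_RES3

open Module Cfsg.Agent.Lib.Helper94_Symp Cfsg.Agent.Lib.Helper94_Herm
  Cfsg.Agent.Lib.Helper13_PSUSimple Cfsg.Agent.Lib.Helper27_UQDefs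
  Cfsg.Agent.Lib.Helper94_FrmDefs Cfsg.Agent.Lib.Helper94_UDDefs
  Cfsg.Agent.Lib.Helper94_FrmDefs2 Cfsg.Agent.Lib.Helper27_UQ_KISO
  Cfsg.Agent.Lib.Helper94_HermTrans

variable {F V : Type*} [Field F] [AddCommGroup V] [Module F V] [Finite F] [FiniteDimensional F V]
variable {σ : F →+* F} {B : V →ₗ[F] V →ₛₗ[σ] F}
variable {ι : Type*} [Fintype ι] [DecidableEq ι] {e : ι → V} {M : Subgroup (V ≃ₗ[F] V)}

/-- FR-RES3. -/
theorem RES3 (hB : IsHerm B) (he : OFrame B e) (k : ι) {g : V ≃ₗ[F] V} (hg : g ∈ uG B) {c : F}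
    (hc : c ≠ 0) (hgk : g (e k) = c • e k) {l : ↥(orthV B (e k)) ≃ₗ[F] ↥(orthV B (e k))}
    (hl : ∀ w : ↥(orthV B (e k)), ((l w : ↥(orthV B (e k))) : V) = g w)
    (hlM : l ∈ Mono (Bw B (orthV B (e k))) (delFrame he k)) : g ∈ Mono B e := by
  obtain ⟨-, π', hπ'⟩ := hlM
  refine ⟨hg, Equiv.Perm.ofSubtype (p := fun i => i ≠ k) π', fun i => ?_⟩
  by_cases hik : i = k
  · subst hik
    refine ⟨c, hc, ?_⟩
    rw [Equiv.Perm.ofSubtype_apply_of_not_mem (p := fun j => j ≠ i) π' (by simp)]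
    exact hgk
  · obtain ⟨c', hc'0, hc'⟩ := hπ' ⟨i, hik⟩
    refine ⟨c', hc'0, ?_⟩
    rw [Equiv.Perm.ofSubtype_apply_of_mem (p := fun j => j ≠ k) π' hik]
    have h1 := hl (delFrame he k ⟨i, hik⟩)
    rw [hc'] at h1
    have h2 : ((delFrame he k ⟨i, hik⟩ : ↥(orthV B (e k))) : V) = e i := rfl
    rw [h2] at h1
    rw [← h1]
    rfl

end Cfsg.Agent.Lib.Helper77_FR_RES3
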