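import Mathlib
import Cfsg.Agent.Lib.Helper94_FrmDefs2
import Cfsg.Agent.Lib.Helper77_FR_DETN
import Cfsg.Agent.Lib.Helper77_FR_RES3

/-!
# S5655 package FR-RES2 (helper77 for helper94): extension of a monomial isometry of `(e k)^⊥`

A monomial isometry `l` of `(e k)^⊥` (for the deleted frame) is the restriction of an element of
`Mono B e ⊓ SUg B` stabilising the span of `e k`.
-/

set_option autoImplicit false
set_option linter.unusedSectionVars false
set_option linter.unusedVariables false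

namespace Cfsg.Agent.Lib.Helper77_FR_RES2

open Module Cfsg.Agent.Lib.Helper94_Symp Cfsg.Agent.Lib.Helper94_Herm
  Cfsg.Agent.Lib.Helper13_PSUSimple Cfsg.Agent.Lib.Helper27_UQDefs
  Cfsg.Agent.Lib.Helper94_FrmDefs Cfsg.Agent.Lib.Helper94_UDDefs
  Cfsg.Agent.Lib.Helper94_FrmDefs2 Cfsg.Agent.Lib.Helper27_UQ_KISO
  Cfsg.Agent.Lib.Helper94_HermTrans

variable {F V : Type*} [Field F] [AddCommGroup V] [Module F V] [Finite F] [FiniteDimensional F V]
variable {σ : F →+* F} {B : V →ₗ[F] V →ₛₗ[σ] F}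
variable {ι : Type*} [Fintype ι] [DecidableEq ι] {e : ι → V} {M : Subgroup (V ≃ₗ[F] V)}

/-- the projection onto `x^⊥` along a vector `x` of norm one -/
noncomputable def prj (B : V →ₗ[F] V →ₛₗ[σ] F) (x : V) (hx : B x x = 1) : V →ₗ[F] ↥(orthV B x) :=
  LinearMap.codRestrict (orthV B x) (LinearMap.id - (B.flip x).smulRight x) (by
    intro v
    rw [mem_orthV]
    simp only [LinearMap.sub_apply, LinearMap.id_apply, LinearMap.smulRight_apply,
      LinearMap.flip_apply, map_sub, map_smul, LinearMap.smul_apply, smul_eq_mul, hx, mul_one,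
      sub_self])

lemma prj_coe {x : V} (hx : B x x = 1) (v : V) : ((prj B x hx v : ↥(orthV B x)) : V) = v - B v x • x := by
  simp [prj]

lemma prj_of_mem {x : V} (hx : B x x = 1) (w : ↥(orthV B x)) : prj B x hx (w : V) = w := by
  apply Subtype.ext
  rw [prj_coe, mem_orthV.mp w.2, zero_smul, sub_zero]

lemma prj_self {x : V} (hx : B x x = 1) : prj B x hx x = 0 := by
  apply Subtype.ext
  rw [prj_coe, hx, one_smul, sub_self]
  rfl

/-- the extension of a linear endomorphism of `x^⊥` by the identity on `x` -/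
noncomputable def extLin (B : V →ₗ[F] V →ₛₗ[σ] F) (x : V) (hx : B x x = 1)
    (l : ↥(orthV B x) →ₗ[F] ↥(orthV B x)) : V →ₗ[F] V :=
  (orthV B x).subtype ∘ₗ l ∘ₗ prj B x hx + (B.flip x).smulRight x

lemma extLin_apply {x : V} (hx : B x x = 1) (l : ↥(orthV B x) →ₗ[F] ↥(orthV B x)) (v : V) :
    extLin B x hx l v = ((l (prj B x hx v) : ↥(orthV B x)) : V) + B v x • x := by
  simp [extLin]

lemma prj_extLin {x : V} (hx : B x x = 1) (l : ↥(orthV B x) →ₗ[F] ↥(orthV B x)) (v : V) :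
    prj B x hx (extLin B x hx l v) = l (prj B x hx v) := by
  rw [extLin_apply, map_add, map_smul, prj_self, smul_zero, add_zero, prj_of_mem]

lemma coord_extLin {x : V} (hx : B x x = 1) (l : ↥(orthV B x) →ₗ[F] ↥(orthV B x)) (v : V) :
    B (extLin B x hx l v) x = B v x := by
  rw [extLin_apply, map_add, LinearMap.add_apply, mem_orthV.mp (l (prj B x hx v)).2, zero_add,
    map_smul, LinearMap.smul_apply, hx, smul_eq_mul, mul_one]

lemma extLin_comp {x : V} (hx : B x x = 1) (l l' : ↥(orthV B x) →ₗ[F] ↥(orthV B x)) (v : V) :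
    extLin B x hx l (extLin B x hx l' v) = extLin B x hx (l ∘ₗ l') v := by
  rw [extLin_apply, prj_extLin, coord_extLin, extLin_apply]
  rfl

lemma extLin_id {x : V} (hx : B x x = 1) (v : V) : extLin B x hx LinearMap.id v = v := by
  rw [extLin_apply, LinearMap.id_apply, prj_coe]
  abel

/-- the extension of a linear automorphism of `x^⊥` by the identity on `x` -/
noncomputable def ext (B : V →ₗ[F] V →ₛₗ[σ] F) (x : V) (hx : B x x = 1)
    (l : ↥(orthV B x) ≃ₗ[F] ↥(orthV B x)) : V ≃ₗ[F] V :=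
  LinearEquiv.ofLinear (extLin B x hx l) (extLin B x hx l.symm)
    (by
      ext v
      rw [LinearMap.comp_apply, extLin_comp]
      have : (l : ↥(orthV B x) →ₗ[F] ↥(orthV B x)) ∘ₗ (l.symm : ↥(orthV B x) →ₗ[F] ↥(orthV B x)) =
          LinearMap.id := by ext w; simp
      rw [this, extLin_id]; rfl)
    (by
      ext v
      rw [LinearMap.comp_apply, extLin_comp]
      have : (l.symm : ↥(orthV B x) →ₗ[F] ↥(orthV B x)) ∘ₗ (l : ↥(orthV B x) →ₗ[F] ↥(orthV B x)) =
          LinearMap.id := by ext w; simp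
      rw [this, extLin_id]; rfl)

lemma ext_apply {x : V} (hx : B x x = 1) (l : ↥(orthV B x) ≃ₗ[F] ↥(orthV B x)) (v : V) :
    ext B x hx l v = ((l (prj B x hx v) : ↥(orthV B x)) : V) + B v x • x := by
  simp [ext, extLin_apply]

lemma ext_self {x : V} (hx : B x x = 1) (l : ↥(orthV B x) ≃ₗ[F] ↥(orthV B x)) :
    ext B x hx l x = x := by
  rw [ext_apply, prj_self, map_zero, hx, one_smul]
  simp

lemma ext_of_mem {x : V} (hx : B x x = 1) (l : ↥(orthV B x) ≃ₗ[F] ↥(orthV B x))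
    (w : ↥(orthV B x)) : ext B x hx l (w : V) = ((l w : ↥(orthV B x)) : V) := by
  rw [ext_apply, prj_of_mem, mem_orthV.mp w.2, zero_smul, add_zero]

lemma ext_mem_uG (hB : IsHerm B) {x : V} (hx : B x x = 1) {l : ↥(orthV B x) ≃ₗ[F] ↥(orthV B x)}
    (hl : l ∈ uG (Bw B (orthV B x))) : ext B x hx l ∈ uG B := by
  intro v w
  rw [ext_apply, ext_apply]
  have h1 := hl (prj B x hx v) (prj B x hx w)
  rw [Bw_apply, Bw_apply] at h1
  have h2 : B ((l (prj B x hx v) : ↥(orthV B x)) : V) x = 0 := mem_orthV.mp (l (prj B x hx v)).2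
  have h3 : B x ((l (prj B x hx w) : ↥(orthV B x)) : V) = 0 :=
    herm_eq_zero hB (mem_orthV.mp (l (prj B x hx w)).2)
  simp only [map_add, map_smul, map_smulₛₗ, LinearMap.add_apply, LinearMap.smul_apply, smul_eq_mul,
    h1, h2, h3, hx, mul_zero, mul_one, add_zero, zero_add]
  rw [prj_coe, prj_coe]
  simp only [map_sub, map_smul, map_smulₛₗ, LinearMap.sub_apply, LinearMap.smul_apply, smul_eq_mul,
    hx, mul_one]
  rw [hB w x]
  ring

/-- FR-RES2. -/
theorem RES2 (hσ : Invol σ) (hB : IsHerm B) (he : OFrame B e) (k : ι)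
    (l : ↥(orthV B (e k)) ≃ₗ[F] ↥(orthV B (e k)))
    (hl : l ∈ Mono (Bw B (orthV B (e k))) (delFrame he k)) :
    ∃ g ∈ Mono B e ⊓ SUg B, (∃ c : F, c ≠ 0 ∧ g (e k) = c • e k) ∧
      ∀ w : ↥(orthV B (e k)), ((l w : ↥(orthV B (e k))) : V) = g w := by
  have hx : B (e k) (e k) = 1 := he.unit k
  have hx0 : B (e k) (e k) ≠ 0 := by rw [hx]; exact one_ne_zero
  set gh : V ≃ₗ[F] V := ext B (e k) hx l with hgh
  have hghU : gh ∈ uG B := ext_mem_uG hB hx hl.1
  have hghk : gh (e k) = (1 : F) • e k := by rw [one_smul]; exact ext_self hx l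
  have hghl : ∀ w : ↥(orthV B (e k)), ((l w : ↥(orthV B (e k))) : V) = gh w :=
    fun w => (ext_of_mem hx l w).symm
  have hghM : gh ∈ Mono B e :=
    Cfsg.Agent.Lib.Helper77_FR_RES3.RES3 hB he k hghU one_ne_zero hghk hghl hl
  set δ : F := ((LinearEquiv.det gh : Fˣ) : F) with hδ
  have hδ0 : δ ≠ 0 := Units.ne_zero _
  have hδN : δ * σ δ = 1 := Cfsg.Agent.Lib.Helper77_FR_DETN.DETN hσ hB he hghU
  have hδi0 : δ⁻¹ ≠ 0 := inv_ne_zero hδ0
  have hδiN : δ⁻¹ * σ δ⁻¹ = 1 := by rw [map_inv₀, ← mul_inv, hδN, inv_one]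
  have hqU : qr B (e k) δ⁻¹ ∈ uG B := qr_mem_uG hB (e k) hδiN
  have hqM : qr B (e k) δ⁻¹ ∈ Mono B e := by
    refine ⟨hqU, 1, fun i => ?_⟩
    by_cases hik : i = k
    · subst hik
      exact ⟨δ⁻¹, hδi0, by rw [Equiv.Perm.one_apply]; exact qr_self B hx0 hδi0⟩
    · refine ⟨1, one_ne_zero, ?_⟩
      rw [Equiv.Perm.one_apply, one_smul]
      exact qr_fix B (e k) δ⁻¹ (he.orth i k hik)
  refine ⟨gh * qr B (e k) δ⁻¹, ⟨(Mono B e).mul_mem hghM hqM, ?_⟩, ⟨δ⁻¹, hδi0, ?_⟩, fun w => ?_⟩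
  · show gh * qr B (e k) δ⁻¹ ∈ SUg B
    rw [mem_SUg]
    refine ⟨(uG B).mul_mem hghU hqU, ?_⟩
    rw [map_mul, det_qr hx0 hδi0]
    apply Units.ext
    rw [Units.val_mul, Units.val_mk0, Units.val_one, ← hδ, mul_inv_cancel₀ hδ0]
  · rw [LinearEquiv.mul_apply, qr_self B hx0 hδi0, map_smul, ext_self hx l]
  · rw [LinearEquiv.mul_apply, qr_fix B (e k) δ⁻¹ (mem_orthV.mp w.2)]
    exact hghl w

end Cfsg.Agent.Lib.Helper77_FR_RES2
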