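/-
helper79 — package FR-RES0 of helper94's FR market (S5655, blocks of dimension one, case (A)):
an orthonormal frame makes the form nondegenerate; the deleted frame.
-/
import Mathlib
import Cfsg.Agent.Lib.Helper94_FrmDefs2
import Cfsg.Agent.Lib.Helper83_FrCDefs

set_option autoImplicit false
set_option linter.unusedVariables false
set_option linter.unusedSectionVars false

namespace Cfsg.Agent.Lib.Helper79_FR_RES0

open Module Cfsg.Agent.Lib.Helper94_Symp Cfsg.Agent.Lib.Helper94_Herm
  Cfsg.Agent.Lib.Helper13_PSUSimple Cfsg.Agent.Lib.Helper27_UQDefs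
  Cfsg.Agent.Lib.Helper94_FrmDefs Cfsg.Agent.Lib.Helper94_UDDefs
  Cfsg.Agent.Lib.Helper94_FrmDefs2 Cfsg.Agent.Lib.Helper27_UQ_KISO

variable {F V : Type*} [Field F] [AddCommGroup V] [Module F V] [Finite F] [FiniteDimensional F V]
variable {σ : F →+* F} {B : V →ₗ[F] V →ₛₗ[σ] F}
variable {ι : Type*} [Fintype ι] [DecidableEq ι] {e : ι → V} {M : Subgroup (V ≃ₗ[F] V)}

/-- FR-RES0.  An orthonormal frame makes the form nondegenerate; deleting `e k` gives an
orthonormal frame of `(e k)^⊥` for the restricted form (span: expand `w` in the frame, the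
coefficient of `e k` is `B w (e k) = 0`). -/
theorem RES0 (hσ : Invol σ) (hB : IsHerm B) (he : OFrame B e) :
    NondegOn B ⊤ ∧ finrank F V = Fintype.card ι ∧
    ∀ k : ι, OFrame (Bw B (orthV B (e k))) (delFrame he k) := by
  refine ⟨?_, Cfsg.Agent.Lib.Helper83_FrCDefs.fr_finrank_eq he, ?_⟩
  · intro x _ hx0
    by_contra hcon
    push Not at hcon
    apply hx0
    rw [Cfsg.Agent.Lib.Helper83_FrCDefs.fr_expand he x]
    apply Finset.sum_eq_zero
    intro i _
    rw [hcon (e i) trivial, zero_smul]
  · intro k
    refine ⟨?_, ?_, ?_⟩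
    · intro i j hij
      rw [Bw_apply]
      exact he.orth i.1 j.1 (fun h => hij (Subtype.ext h))
    · intro i
      rw [Bw_apply]
      exact he.unit i.1
    · rw [eq_top_iff]
      intro w _
      -- expand `w` in the frame
      have hw : (w : V) = ∑ i, B (w : V) (e i) • e i :=
        Cfsg.Agent.Lib.Helper83_FrCDefs.fr_expand he (w : V)
      have hk0 : B (w : V) (e k) = 0 := mem_orthV.mp w.2
      have hw' : w = ∑ i : {i : ι // i ≠ k}, B (w : V) (e i.1) • delFrame he k i := by
        apply Subtype.ext
        rw [Submodule.coe_sum]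
        simp only [Submodule.coe_smul]
        have h1 : ∑ i : {i : ι // i ≠ k}, B (w : V) (e i.1) • ((delFrame he k i : ↥(orthV B (e k))) : V)
            = ∑ i : {i : ι // i ≠ k}, B (w : V) (e i.1) • e i.1 := rfl
        rw [h1]
        conv_lhs => rw [hw]
        have h2 : ∑ i : {i : ι // i ≠ k}, B (w : V) (e i.1) • e i.1 =
            ∑ i ∈ Finset.univ.erase k, B (w : V) (e i) • e i :=
          (Finset.sum_subtype (Finset.univ.erase k) (by simp)
            (fun i => B (w : V) (e i) • e i)).symm
        rw [h2, Finset.sum_erase]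
        rw [hk0, zero_smul]
      rw [hw']
      apply Submodule.sum_mem
      intro i _
      apply Submodule.smul_mem
      exact Submodule.subset_span ⟨i, rfl⟩

end Cfsg.Agent.Lib.Helper79_FR_RES0
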