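import Mathlib
import Cfsg.Agent.Lib.Helper94_FrmDefs2
import Cfsg.Agent.Lib.Helper73_UD_ZETA

/-!
# S5655, blocks of dimension one (architect helper94), package FR-ZETA

Norm-one elements `ζ` with `ζ² ≠ 1` (the same statement as UD-ZETA, landed by helper73).
-/

set_option autoImplicit false
set_option linter.unusedSectionVars false

namespace Cfsg.Agent.Lib.Helper8_FR_ZETA

open Module Cfsg.Agent.Lib.Helper94_Symp Cfsg.Agent.Lib.Helper94_Herm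
  Cfsg.Agent.Lib.Helper13_PSUSimple Cfsg.Agent.Lib.Helper27_UQDefs
  Cfsg.Agent.Lib.Helper94_FrmDefs Cfsg.Agent.Lib.Helper94_UDDefs
  Cfsg.Agent.Lib.Helper94_FrmDefs2

variable {F W : Type*} [Field F] [AddCommGroup W] [Module F W] [Finite F] [FiniteDimensional F W]
variable {σ : F →+* F} {B : W →ₗ[F] W →ₛₗ[σ] F}
variable {ι : Type*} [Fintype ι] [DecidableEq ι] {e : ι → W} {L : Subgroup (W ≃ₗ[F] W)}

/-- FR-ZETA.  (`ζ = θ / σ θ`; `ζ² = 1` iff `θ² ` is fixed iff `θ` is fixed or skew.) -/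
theorem ZETA (hσ : Invol σ) :
    (∃ ζ : F, ζ * σ ζ = 1 ∧ ζ * ζ ≠ 1) ∧ (∃ ζ : F, ζ * σ ζ = 1 ∧ ζ ≠ 1) :=
  Cfsg.Agent.Lib.Helper73_UD_ZETA.ZETA hσ

end Cfsg.Agent.Lib.Helper8_FR_ZETA
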