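/-
helper79 — package FR-STEP1 of helper94's FR market (S5655, blocks of dimension one, case (A)):
a reflection centre with three nonzero coordinates.
-/
import Mathlib
import Cfsg.Agent.Lib.Helper94_FrmDefs2
import Cfsg.Agent.Lib.Helper83_FrCDefs
import Cfsg.Agent.Lib.Helper79_FR_FRAME
import Cfsg.Agent.Lib.Helper91_FR_RC
import Cfsg.Agent.Lib.Helper8_FR_ZETA

set_option autoImplicit false
set_option linter.unusedVariables false
set_option linter.unusedSectionVars false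

namespace Cfsg.Agent.Lib.Helper79_FR_STEP1

open Module Cfsg.Agent.Lib.Helper94_Symp Cfsg.Agent.Lib.Helper94_Herm
  Cfsg.Agent.Lib.Helper13_PSUSimple Cfsg.Agent.Lib.Helper27_UQDefs
  Cfsg.Agent.Lib.Helper94_FrmDefs Cfsg.Agent.Lib.Helper94_UDDefs
  Cfsg.Agent.Lib.Helper94_FrmDefs2 Cfsg.Agent.Lib.Helper27_UQ_KISO
  Cfsg.Agent.Lib.Helper83_FrCDefs

variable {F W : Type*} [Field F] [AddCommGroup W] [Module F W] [Finite F] [FiniteDimensional F W]
variable {σ : F →+* F} {B : W →ₗ[F] W →ₛₗ[σ] F}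
variable {ι : Type*} [Fintype ι] [DecidableEq ι] {e : ι → W} {L : Subgroup (W ≃ₗ[F] W)}

/-- FR-STEP1.  A reflection centre with three nonzero coordinates. -/
theorem STEP1 (hC : FCtx B e L) (hne : ¬ L ≤ Mono B e) (h3 : 3 ≤ Fintype.card ι) :
    ∃ w ∈ Rc B (mu1 σ) L, ∃ i j k : ι, i ≠ j ∧ i ≠ k ∧ j ≠ k ∧
      B w (e i) ≠ 0 ∧ B w (e j) ≠ 0 ∧ B w (e k) ≠ 0 := by
  have he := hC.he
  have hσ := hC.hσ
  obtain ⟨x, hx, hxne⟩ := (Cfsg.Agent.Lib.Helper91_FR_RC.RC hC).2.2.2 hne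
  have hexp := fr_expand he x
  -- a first nonzero coordinate
  have h1 : ∃ i, B x (e i) ≠ 0 := by
    by_contra hcon
    push Not at hcon
    have hx0 : x = 0 := by
      rw [hexp]
      exact Finset.sum_eq_zero (fun i _ => by rw [hcon i, zero_smul])
    have h := hx.1
    rw [hx0, map_zero] at h
    exact zero_ne_one h
  obtain ⟨i, hi⟩ := h1
  -- a second nonzero coordinate
  have h2 : ∃ j, j ≠ i ∧ B x (e j) ≠ 0 := by
    by_contra hcon
    push Not at hcon
    apply hxne i (B x (e i))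
    conv_lhs => rw [hexp]
    apply Finset.sum_eq_single i
    · intro j _ hji
      rw [hcon j hji, zero_smul]
    · intro h
      exact absurd (Finset.mem_univ i) h
  obtain ⟨j, hji, hj⟩ := h2
  have hij : i ≠ j := fun h => hji h.symm
  by_cases h3' : ∃ k, k ≠ i ∧ k ≠ j ∧ B x (e k) ≠ 0
  · obtain ⟨k, hki, hkj, hk⟩ := h3'
    exact ⟨x, hx, i, j, k, hij, fun h => hki h.symm, fun h => hkj h.symm, hi, hj, hk⟩
  push Not at h3'
  -- a third index
  have hk : ∃ k, k ≠ i ∧ k ≠ j := by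
    have hlt : ({i, j} : Finset ι).card < (Finset.univ : Finset ι).card := by
      rw [Finset.card_univ]
      have := Finset.card_le_two (a := i) (b := j)
      omega
    obtain ⟨k, _, hk⟩ := Finset.exists_mem_notMem_of_card_lt_card hlt
    simp only [Finset.mem_insert, Finset.mem_singleton, not_or] at hk
    exact ⟨k, hk.1, hk.2⟩
  obtain ⟨k, hki, hkj⟩ := hk
  -- the permutation element
  obtain ⟨p, hp, hpe⟩ := (Cfsg.Agent.Lib.Helper79_FR_FRAME.FRAME hC.hσ hC.hB he).2.2.2.2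
    (Equiv.swap j k)
  have hpL : p ∈ L := hC.hML hp
  have hpU : p ∈ uG B := hC.hLU hpL
  have hw' : p x ∈ Rc B (mu1 σ) L := Cfsg.Agent.Lib.Helper91_FR_RC.map_mem_Rc hC hx hpL
  -- coordinates of `p x`
  have hcoord : ∀ m, B (p x) (e m) = B x (e (Equiv.swap j k m)) := by
    intro m
    have h := hpU x (e (Equiv.swap j k m))
    rw [hpe, Equiv.swap_apply_self] at h
    exact h
  have hci : B (p x) (e i) = B x (e i) := by
    rw [hcoord, Equiv.swap_apply_of_ne_of_ne hij (fun h => hki h.symm)]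
  have hcj : B (p x) (e j) = 0 := by
    rw [hcoord, Equiv.swap_apply_left]
    exact h3' k hki hkj
  have hck : B (p x) (e k) = B x (e j) := by
    rw [hcoord, Equiv.swap_apply_right]
  have hxk : B x (e k) = 0 := h3' k hki hkj
  -- the inner product
  have hxw : B x (p x) = B x (e i) * σ (B x (e i)) := by
    rw [fr_form_eq he x (p x)]
    rw [Finset.sum_eq_single_of_mem i (Finset.mem_univ i), hci]
    intro m _ hmi
    by_cases hmj : m = j
    · rw [hmj, hcj, map_zero, mul_zero]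
    · rw [h3' m hmi hmj, zero_mul]
  set t := B x (e i) * σ (B x (e i)) with ht
  have ht0 : t ≠ 0 := mul_ne_zero hi ((map_ne_zero σ).2 hi)
  -- the norm-one scalar
  have hζ : ∃ ζ : F, ζ * σ ζ = 1 ∧ ζ ≠ 1 ∧ 1 + (ζ - 1) * t ≠ 0 := by
    obtain ⟨ζ, hζ1, hζ2⟩ := (Cfsg.Agent.Lib.Helper8_FR_ZETA.ZETA (F := F) hσ).1
    have hζne : ζ ≠ 1 := by
      rintro rfl
      exact hζ2 (one_mul 1)
    by_cases hz : 1 + (ζ - 1) * t = 0
    · refine ⟨σ ζ, ?_, ?_, ?_⟩
      · rw [hσ.invol, mul_comm]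
        exact hζ1
      · intro h
        apply hζne
        have := congrArg σ h
        rwa [hσ.invol, map_one] at this
      · intro hz'
        apply hζ2
        have h4 : (ζ - σ ζ) * t = 0 := by linear_combination hz - hz'
        rcases mul_eq_zero.1 h4 with h5 | h5
        · have h6 : ζ = σ ζ := sub_eq_zero.1 h5
          rw [← h6] at hζ1
          exact hζ1
        · exact absurd h5 ht0
    · exact ⟨ζ, hζ1, hζne, hz⟩
  obtain ⟨ζ, hζ1, hζne, hz⟩ := hζ
  have hζ0 : ζ ≠ 0 := Cfsg.Agent.Lib.Helper91_FR_RC.mu1_ne_zero (σ := σ) hζ1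
  have hqL : qr B (p x) ζ ∈ L := hw'.2 ζ hζ1
  have hy : qr B (p x) ζ x ∈ Rc B (mu1 σ) L :=
    Cfsg.Agent.Lib.Helper91_FR_RC.map_mem_Rc hC hx hqL
  have hyeq : qr B (p x) ζ x = x + ((ζ - 1) * t) • p x := by
    rw [qr_apply B (p x) hζ0, hw'.1, hxw, inv_one, mul_one]
  refine ⟨qr B (p x) ζ x, hy, i, j, k, hij, fun h => hki h.symm, fun h => hkj h.symm, ?_, ?_, ?_⟩
  · rw [hyeq, map_add, LinearMap.add_apply, map_smul, LinearMap.smul_apply, hci, smul_eq_mul]
    have : B x (e i) + (ζ - 1) * t * B x (e i) = (1 + (ζ - 1) * t) * B x (e i) := by ring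
    rw [this]
    exact mul_ne_zero hz hi
  · rw [hyeq, map_add, LinearMap.add_apply, map_smul, LinearMap.smul_apply, hcj, smul_eq_mul,
      mul_zero, add_zero]
    exact hj
  · rw [hyeq, map_add, LinearMap.add_apply, map_smul, LinearMap.smul_apply, hck, hxk, smul_eq_mul,
      zero_add]
    exact mul_ne_zero (mul_ne_zero (sub_ne_zero.2 hζne) ht0) hj

end Cfsg.Agent.Lib.Helper79_FR_STEP1
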