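import Mathlib
import Cfsg.Agent.Lib.Helper94_FrmDefs2
import Cfsg.Agent.Lib.Helper9_S2151_CNT
import Cfsg.Agent.Lib.Helper14_PSULocal1
import Cfsg.Agent.Lib.Helper73_FR_Diag2

/-!
helper73 — package FR-S5A of helper94's S5655 frames market: support reduction, balanced pair.
`d = diag(l at i, σ l at j)`, `l` of norm one with `l² ≠ 1`; `z = d u - u`.
-/

set_option autoImplicit false
set_option linter.unusedSectionVars false
set_option linter.unusedVariables false

namespace Cfsg.Agent.Lib.Helper73_FR_S5A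

open Module Cfsg.Agent.Lib.Helper94_Symp Cfsg.Agent.Lib.Helper94_Herm
  Cfsg.Agent.Lib.Helper13_PSUSimple Cfsg.Agent.Lib.Helper27_UQDefs
  Cfsg.Agent.Lib.Helper94_FrmDefs Cfsg.Agent.Lib.Helper94_UDDefs
  Cfsg.Agent.Lib.Helper94_FrmDefs2 Cfsg.Agent.Lib.Helper27_UQ_KISO
  Cfsg.Agent.Lib.Helper94_HermTrans

open Cfsg.Agent.Lib.Helper73_FR_Diag2

variable {F W : Type*} [Field F] [AddCommGroup W] [Module F W] [Finite F] [FiniteDimensional F W]
variable {σ : F →+* F} {B : W →ₗ[F] W →ₛₗ[σ] F}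
variable {ι : Type*} [Fintype ι] [DecidableEq ι] {e : ι → W} {L : Subgroup (W ≃ₗ[F] W)}

/-- FR-S5A. -/
theorem S5A (hC : FCtx B e L) {u : W} (hu : u ∈ UU B L) {i j : ι} (hij : i ≠ j)
    (hi : B u (e i) ≠ 0)
    (hb : B u (e i) * σ (B u (e i)) + B u (e j) * σ (B u (e j)) = 0) :
    ∃ z ∈ UU B L, z ≠ 0 ∧ ∀ k, k ≠ i → k ≠ j → B z (e k) = 0 := by
  obtain ⟨l, hl, hl2⟩ := Cfsg.Agent.Lib.Helper73_UD_ZETA.exists_norm_one_sq_ne hC.hσ
  have hl0 : l ≠ 0 := ne_zero_of_norm hl
  have hl1 : l ≠ 1 := by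
    rintro rfl
    exact hl2 (one_mul 1)
  have hσl : σ l * σ (σ l) = 1 := by rw [hC.hσ.invol, mul_comm]; exact hl
  have hlσ : l - σ l ≠ 0 := by
    intro h
    apply hl2
    have h1 : σ l = l := by linear_combination -h
    rw [h1] at hl
    exact hl
  have hσi : σ (B u (e i)) ≠ 0 := (map_ne_zero σ).2 hi
  have hd : dg B e i j l (σ l) ∈ L := hC.hML (dg_mem_Mono hC.hB hC.he i j hl hσl)
  have hdu : dg B e i j l (σ l) u =
      u + ((l - 1) * B u (e i)) • e i + ((σ l - 1) * B u (e j)) • e j :=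
    dg_apply hC.he hij hl hσl u
  have hu' : dg B e i j l (σ l) u ∈ UU B L := UU_map hC.hLU hd hu
  have hei : B (e i) u = σ (B u (e i)) := hC.hB u (e i)
  have hej : B (e j) u = σ (B u (e j)) := hC.hB u (e j)
  have hne : B (dg B e i j l (σ l) u) u ≠ 0 := by
    rw [hdu]
    simp only [map_add, map_smul, LinearMap.add_apply, LinearMap.smul_apply, smul_eq_mul, hu.1,
      hei, hej]
    have h1 : (0 : F) + (l - 1) * B u (e i) * σ (B u (e i)) +
        (σ l - 1) * B u (e j) * σ (B u (e j)) = (l - σ l) * (B u (e i) * σ (B u (e i))) := by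
      linear_combination (σ l - 1) * hb
    rw [h1]
    exact mul_ne_zero hlσ (mul_ne_zero hi hσi)
  have hz : (1 : F) • dg B e i j l (σ l) u + (-1 : F) • u =
      ((l - 1) * B u (e i)) • e i + ((σ l - 1) * B u (e j)) • e j := by
    rw [hdu, one_smul, neg_one_smul]
    abel
  have hiso : B ((1 : F) • dg B e i j l (σ l) u + (-1 : F) • u)
      ((1 : F) • dg B e i j l (σ l) u + (-1 : F) • u) = 0 := by
    rw [hz]
    simp only [map_add, map_smul, map_smulₛₗ, LinearMap.add_apply, LinearMap.smul_apply,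
      smul_eq_mul, hC.he.unit, hC.he.orth i j hij, hC.he.orth j i (Ne.symm hij), mul_zero,
      add_zero, zero_add, mul_one, map_mul, map_sub, map_one, hC.hσ.invol]
    linear_combination ((l - 1) * (σ l - 1)) * hb
  have hmem := UU_hyp hC.hσ hC.hB hC.hLU hu' hu hne 1 (-1) hiso
  rw [hz] at hmem
  refine ⟨_, hmem, ?_, ?_⟩
  · intro h0
    have h1 := congrArg (fun v => B v (e i)) h0
    simp only [map_add, map_smul, LinearMap.add_apply, LinearMap.smul_apply, smul_eq_mul,
      hC.he.unit, hC.he.orth j i (Ne.symm hij), mul_zero, add_zero, mul_one, map_zero,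
      LinearMap.zero_apply] at h1
    rcases mul_eq_zero.mp h1 with h2 | h2
    · exact hl1 (by linear_combination h2)
    · exact hi h2
  · intro k hki hkj
    simp only [map_add, map_smul, LinearMap.add_apply, LinearMap.smul_apply, smul_eq_mul,
      hC.he.orth i k (Ne.symm hki), hC.he.orth j k (Ne.symm hkj), mul_zero, add_zero]

end Cfsg.Agent.Lib.Helper73_FR_S5A
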