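import Mathlib
import Cfsg.Agent.Lib.Helper94_FrmDefs2
import Cfsg.Agent.Lib.Helper73_FR_S5A
import Cfsg.Agent.Lib.Helper22_FR_S5B

set_option autoImplicit false
set_option linter.unusedSimpArgs false
set_option linter.unusedVariables false
set_option linter.unusedSectionVars false

/-!
# S5655 frames market, package FR-STEP5 (architect helper94)

A nonzero root vector with at most two nonzero coordinates, by strong induction on the size of the
support, from the two support reductions FR-S5A (balanced pair) and FR-S5B (unbalanced pair).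
The file also proves the elementary algebra of an orthonormal frame used here (expansion,
coordinates of a combination, Parseval).
-/

namespace Cfsg.Agent.Lib.Helper86_FR_STEP5

open Module Cfsg.Agent.Lib.Helper94_Symp Cfsg.Agent.Lib.Helper94_Herm
  Cfsg.Agent.Lib.Helper13_PSUSimple Cfsg.Agent.Lib.Helper27_UQDefs
  Cfsg.Agent.Lib.Helper94_FrmDefs Cfsg.Agent.Lib.Helper94_UDDefs
  Cfsg.Agent.Lib.Helper94_FrmDefs2 Cfsg.Agent.Lib.Helper27_UQ_KISO

variable {F W : Type*} [Field F] [AddCommGroup W] [Module F W]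
variable {σ : F →+* F} {B : W →ₗ[F] W →ₛₗ[σ] F}
variable {ι : Type*} [Fintype ι] [DecidableEq ι] {e : ι → W} {L : Subgroup (W ≃ₗ[F] W)}

/-- coordinates of a linear combination of an orthonormal frame -/
lemma coord_sum (he : OFrame B e) (a : ι → F) (i : ι) : B (∑ j, a j • e j) (e i) = a i := by
  rw [map_sum, LinearMap.sum_apply, Finset.sum_eq_single i]
  · rw [map_smul, LinearMap.smul_apply, he.unit, smul_eq_mul, mul_one]
  · intro j _ hji
    rw [map_smul, LinearMap.smul_apply, he.orth j i hji, smul_zero]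
  · intro h
    exact absurd (Finset.mem_univ i) h

/-- expansion of a vector in an orthonormal frame -/
lemma expand (he : OFrame B e) (w : W) : w = ∑ i, B w (e i) • e i := by
  have hw : w ∈ Submodule.span F (Set.range e) := by rw [he.span]; trivial
  obtain ⟨c, hc⟩ := (Submodule.mem_span_range_iff_exists_fun F).mp hw
  have h1 : ∀ i, B w (e i) = c i := fun i => by rw [← hc, coord_sum he]
  rw [← hc]
  apply Finset.sum_congr rfl
  intro i _
  rw [hc, h1]

/-- Parseval for an orthonormal frame -/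
lemma parseval (hB : IsHerm B) (he : OFrame B e) (v w : W) :
    B v w = ∑ i, B v (e i) * σ (B w (e i)) := by
  conv_lhs => rw [expand he v]
  rw [map_sum, LinearMap.sum_apply]
  apply Finset.sum_congr rfl
  intro i _
  rw [map_smul, LinearMap.smul_apply, smul_eq_mul, hB w (e i)]

/-- a nonzero vector has a nonzero coordinate -/
lemma exists_coord_ne_zero (he : OFrame B e) {u : W} (hu : u ≠ 0) : ∃ i, B u (e i) ≠ 0 := by
  by_contra hcon
  push Not at hcon
  apply hu
  rw [expand he u]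
  apply Finset.sum_eq_zero
  intro i _
  rw [hcon i, zero_smul]

/-- a nonzero isotropic vector has two nonzero coordinates -/
lemma exists_two_coord (hB : IsHerm B) (he : OFrame B e) {u : W} (hu : u ≠ 0) (h0 : B u u = 0) :
    ∃ i j, i ≠ j ∧ B u (e i) ≠ 0 ∧ B u (e j) ≠ 0 := by
  obtain ⟨i, hi⟩ := exists_coord_ne_zero he hu
  by_contra hcon
  push Not at hcon
  have h1 := parseval hB he u u
  rw [h0, Finset.sum_eq_single i] at h1
  · have hσ0 : σ (B u (e i)) ≠ 0 := (map_ne_zero σ).2 hi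
    exact mul_ne_zero hi hσ0 h1.symm
  · intro j _ hji
    have : B u (e j) = 0 := hcon i j (Ne.symm hji) hi
    rw [this, zero_mul]
  · intro h
    exact absurd (Finset.mem_univ i) h

/-- FR-STEP5 with the two support reductions FR-S5A and FR-S5B as hypotheses. -/
theorem STEP5_aux (hC : FCtx B e L)
    (hS5A : ∀ {u : W}, u ∈ UU B L → ∀ {i j : ι}, i ≠ j → B u (e i) ≠ 0 →
      B u (e i) * σ (B u (e i)) + B u (e j) * σ (B u (e j)) = 0 →
      ∃ z ∈ UU B L, z ≠ 0 ∧ ∀ k, k ≠ i → k ≠ j → B z (e k) = 0)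
    (hS5B : ∀ {u : W}, u ∈ UU B L → ∀ {i j : ι}, i ≠ j → B u (e i) ≠ 0 → B u (e j) ≠ 0 →
      B u (e i) * σ (B u (e i)) + B u (e j) * σ (B u (e j)) ≠ 0 →
      ∃ v ∈ UU B L, v ≠ 0 ∧ B v (e i) = 0 ∧ ∀ k, B u (e k) = 0 → B v (e k) = 0)
    (h : ∃ u ∈ UU B L, u ≠ 0) :
    ∃ u ∈ UU B L, u ≠ 0 ∧ ∃ i j : ι, i ≠ j ∧ ∀ k, k ≠ i → k ≠ j → B u (e k) = 0 := by
  classical
  have key : ∀ n : ℕ, ∀ u ∈ UU B L, u ≠ 0 → (supp B e u).card ≤ n →
      ∃ u ∈ UU B L, u ≠ 0 ∧ ∃ i j : ι, i ≠ j ∧ ∀ k, k ≠ i → k ≠ j → B u (e k) = 0 := by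
    intro n
    induction n with
    | zero =>
      intro u hu hne hcard
      exfalso
      obtain ⟨i, hi⟩ := exists_coord_ne_zero hC.he hne
      have hmem : i ∈ supp B e u := mem_supp.mpr hi
      have hpos : 0 < (supp B e u).card := Finset.card_pos.mpr ⟨i, hmem⟩
      omega
    | succ n ih =>
      intro u hu hne hcard
      obtain ⟨i, j, hij, hi, hj⟩ := exists_two_coord hC.hB hC.he hne hu.1
      by_cases hb : B u (e i) * σ (B u (e i)) + B u (e j) * σ (B u (e j)) = 0
      · obtain ⟨z, hz, hz0, hzk⟩ := hS5A hu hij hi hb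
        exact ⟨z, hz, hz0, i, j, hij, hzk⟩
      · obtain ⟨v, hv, hv0, hvi, hvk⟩ := hS5B hu hij hi hj hb
        apply ih v hv hv0
        have hsub : supp B e v ⊆ (supp B e u).erase i := by
          intro k hk
          rw [mem_supp] at hk
          rw [Finset.mem_erase, mem_supp]
          refine ⟨?_, fun h0 => hk (hvk k h0)⟩
          rintro rfl
          exact hk hvi
        have h1 := Finset.card_le_card hsub
        rw [Finset.card_erase_of_mem (mem_supp.mpr hi)] at h1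
        omega
  obtain ⟨u, hu, hne⟩ := h
  exact key _ u hu hne le_rfl

/-- FR-STEP5 with the landed FR-S5A and only FR-S5B as a hypothesis. -/
theorem STEP5_of_S5B [Finite F] [FiniteDimensional F W] (hC : FCtx B e L)
    (hS5B : ∀ {u : W}, u ∈ UU B L → ∀ {i j : ι}, i ≠ j → B u (e i) ≠ 0 → B u (e j) ≠ 0 →
      B u (e i) * σ (B u (e i)) + B u (e j) * σ (B u (e j)) ≠ 0 →
      ∃ v ∈ UU B L, v ≠ 0 ∧ B v (e i) = 0 ∧ ∀ k, B u (e k) = 0 → B v (e k) = 0)
    (h : ∃ u ∈ UU B L, u ≠ 0) :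
    ∃ u ∈ UU B L, u ≠ 0 ∧ ∃ i j : ι, i ≠ j ∧ ∀ k, k ≠ i → k ≠ j → B u (e k) = 0 :=
  STEP5_aux hC (fun hu _ _ hij hi hb => Cfsg.Agent.Lib.Helper73_FR_S5A.S5A hC hu hij hi hb)
    hS5B h

/-- FR-STEP5.  A nonzero root vector with at most two nonzero coordinates. -/
theorem STEP5 [Finite F] [FiniteDimensional F W] (hC : FCtx B e L) (h : ∃ u ∈ UU B L, u ≠ 0) :
    ∃ u ∈ UU B L, u ≠ 0 ∧ ∃ i j : ι, i ≠ j ∧ ∀ k, k ≠ i → k ≠ j → B u (e k) = 0 :=
  STEP5_of_S5B hC
    (fun hu _ _ hij hi hj hb => Cfsg.Agent.Lib.Helper22_FR_S5B.S5B hC hu hij hi hj hb) h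

end Cfsg.Agent.Lib.Helper86_FR_STEP5
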