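import Mathlib
import Cfsg.Agent.Lib.Helper94_FrmDefs2
import Cfsg.Agent.Lib.Helper86_FR_STEP5
import Cfsg.Agent.Lib.Helper79_FR_FRAME
import Cfsg.Agent.Lib.Helper8_FR_Q2E

set_option autoImplicit false
set_option linter.unusedSimpArgs false
set_option linter.unusedVariables false
set_option linter.unusedSectionVars false

/-!
# S5655 frames market, package FR-Q2C (architect helper94)

`|F| = 4`: from a root vector of support at least four to a root vector of support exactly four:
`u' = d u` with `d = diag(ω at k1, ω² at three further indices, 1 elsewhere)`, `B u u' = 1`, and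
`u + u'` is isotropic with support the four chosen indices.
-/

namespace Cfsg.Agent.Lib.Helper86_FR_Q2C

open Module Cfsg.Agent.Lib.Helper94_Symp Cfsg.Agent.Lib.Helper94_Herm
  Cfsg.Agent.Lib.Helper13_PSUSimple Cfsg.Agent.Lib.Helper27_UQDefs
  Cfsg.Agent.Lib.Helper94_FrmDefs Cfsg.Agent.Lib.Helper94_UDDefs
  Cfsg.Agent.Lib.Helper94_FrmDefs2 Cfsg.Agent.Lib.Helper27_UQ_KISO
  Cfsg.Agent.Lib.Helper86_FR_STEP5 Cfsg.Agent.Lib.Helper8_FR_Q2E

variable {F W : Type*} [Field F] [AddCommGroup W] [Module F W] [Finite F] [FiniteDimensional F W]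
variable {σ : F →+* F} {B : W →ₗ[F] W →ₛₗ[σ] F}
variable {ι : Type*} [Fintype ι] [DecidableEq ι] {e : ι → W} {L : Subgroup (W ≃ₗ[F] W)}

/-- coordinates of the image of a vector under a diagonal element -/
lemma coord_diag (he : OFrame B e) {d : W ≃ₗ[F] W} {ζ : ι → F} (hd : ∀ i, d (e i) = ζ i • e i)
    (u : W) (k : ι) : B (d u) (e k) = ζ k * B u (e k) := by
  have h1 : d u = ∑ i, (B u (e i) * ζ i) • e i := by
    conv_lhs => rw [expand he u]
    rw [map_sum]
    apply Finset.sum_congr rfl
    intro i _
    rw [map_smul, hd, smul_smul]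
  rw [h1, coord_sum he, mul_comm]

/-- the field with four elements: an element `ω ≠ 0, 1` and its conjugate `1 + ω` -/
lemma omega_facts (hσ : Invol σ) (hF4 : Nat.card F = 4) :
    ∃ ω : F, ω ≠ 0 ∧ 1 + ω ≠ 0 ∧ σ ω = 1 + ω ∧ σ (1 + ω) = ω ∧ ω * σ ω = 1 ∧
      (1 + ω) * σ (1 + ω) = 1 := by
  have h2 := two_eq_zero_of_card_four (F := F) hF4
  obtain ⟨ω, hω⟩ := hσ.ne_id
  have hω0 : ω ≠ 0 := by
    rintro rfl
    exact hω (map_zero σ)
  have hω1 : 1 + ω ≠ 0 := by
    intro h
    have : ω = 1 := by linear_combination h - h2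
    rw [this] at hω
    exact hω (map_one σ)
  have hN := norm_eq_one_of_card_four hσ hF4 hω0
  have hN' := norm_eq_one_of_card_four hσ hF4 hω1
  have hσω : σ ω = 1 + ω := by
    have h3 := hN'
    rw [map_add, map_one] at h3
    linear_combination h3 - hN - (1 + ω) * h2
  have hσω' : σ (1 + ω) = ω := by
    rw [map_add, map_one, hσω]
    linear_combination h2
  exact ⟨ω, hω0, hω1, hσω, hσω', hN, hN'⟩

/-- FR-Q2C. -/
theorem Q2C (hC : FCtx B e L) (hF4 : Nat.card F = 4) {u : W} (hu : u ∈ UU B L)
    (h6 : 6 ≤ (supp B e u).card) : ∃ u' ∈ UU B L, (supp B e u').card = 4 := by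
  classical
  have hσ := hC.hσ
  have hB := hC.hB
  have he := hC.he
  have h2 := two_eq_zero_of_card_four (F := F) hF4
  obtain ⟨ω, hω0, hω1, hσω, hσω', hNω, hNω'⟩ := omega_facts hσ hF4
  -- four indices of the support
  obtain ⟨T, hTS, hT4⟩ := Finset.exists_subset_card_eq (s := supp B e u) (n := 4) (by omega)
  have hTne : T.Nonempty := by
    rw [← Finset.card_pos, hT4]; norm_num
  obtain ⟨k1, hk1⟩ := hTne
  set T' : Finset ι := T.erase k1 with hT'
  have hT'3 : T'.card = 3 := by rw [hT', Finset.card_erase_of_mem hk1, hT4]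
  have hTins : T = insert k1 T' := by rw [hT', Finset.insert_erase hk1]
  have hk1T' : k1 ∉ T' := by rw [hT']; exact Finset.notMem_erase k1 T
  have hT'T : ∀ k, k ∈ T' → k ∈ T := fun k hk => Finset.mem_of_mem_erase hk
  have hmemT : ∀ k, k ∈ T ↔ k = k1 ∨ k ∈ T' := by
    intro k
    rw [hTins, Finset.mem_insert]
  -- the diagonal element
  set ζ : ι → F := fun k => if k = k1 then ω else if k ∈ T' then 1 + ω else 1 with hζ
  have hζN : ∀ k, ζ k * σ (ζ k) = 1 := by
    intro k
    simp only [hζ]
    by_cases hk : k = k1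
    · rw [if_pos hk]; exact hNω
    · by_cases hkT' : k ∈ T'
      · rw [if_neg hk, if_pos hkT']; exact hNω'
      · rw [if_neg hk, if_neg hkT', map_one, mul_one]
  obtain ⟨_, _, _, hD, _⟩ := Cfsg.Agent.Lib.Helper79_FR_FRAME.FRAME hσ hB he
  obtain ⟨d, hd, hde⟩ := hD ζ hζN
  have hu' : d u ∈ UU B L := UU_map hC.hLU (hC.hML hd) hu
  have hcoord : ∀ k, B (d u) (e k) = ζ k * B u (e k) := coord_diag he hde u
  -- norms of the coordinates
  have hNk : ∀ k, k ∈ supp B e u → B u (e k) * σ (B u (e k)) = 1 := fun k hk =>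
    norm_eq_one_of_card_four hσ hF4 (mem_supp.mp hk)
  have hsum0 : ∑ k, B u (e k) * σ (B u (e k)) = 0 := by
    rw [← parseval hB he u u]; exact hu.1
  -- the inner product of `u` and `d u`
  have hBuu' : B u (d u) = 1 := by
    rw [parseval hB he u (d u)]
    have h1 : ∀ k, B u (e k) * σ (B (d u) (e k)) =
        B u (e k) * σ (B u (e k)) +
          (if k ∈ T then (if k = k1 then ω else 1 + ω) else 0) := by
      intro k
      rw [hcoord, map_mul]
      by_cases hkT : k ∈ T
      · have hNk' := hNk k (hTS hkT)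
        rw [if_pos hkT]
        simp only [hζ]
        by_cases hk : k = k1
        · rw [if_pos hk, if_pos hk, hσω]
          linear_combination (1 + ω - 1) * hNk'
        · have hkT' : k ∈ T' := by
            rcases (hmemT k).mp hkT with h | h
            · exact absurd h hk
            · exact h
          rw [if_neg hk, if_pos hkT', if_neg hk, hσω']
          linear_combination (ω - 1) * hNk' - h2
      · rw [if_neg hkT]
        have hk : k ≠ k1 := by
          rintro rfl
          exact hkT hk1
        have hkT' : k ∉ T' := fun h => hkT (hT'T k h)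
        simp only [hζ]
        rw [if_neg hk, if_neg hkT', map_one]
        ring
    rw [Finset.sum_congr rfl (fun k _ => h1 k), Finset.sum_add_distrib, hsum0, zero_add,
      Finset.sum_ite_mem, Finset.univ_inter, hTins, Finset.sum_insert hk1T', if_pos rfl]
    have h3 : ∑ k ∈ T', (if k = k1 then ω else 1 + ω) = ∑ k ∈ T', (1 + ω) := by
      apply Finset.sum_congr rfl
      intro k hk
      rw [if_neg]
      rintro rfl
      exact hk1T' hk
    rw [h3, Finset.sum_const, hT'3]
    simp only [nsmul_eq_mul]
    push_cast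
    linear_combination (2 * ω + 1) * h2
  have hBu'u : B (d u) u = 1 := by rw [hB u (d u), hBuu', map_one]
  have hne : B u (d u) ≠ 0 := by rw [hBuu']; exact one_ne_zero
  have hiso : B (u + d u) (u + d u) = 0 := by
    simp only [map_add, LinearMap.add_apply, hu.1, hu'.1, hBuu', hBu'u]
    linear_combination h2
  refine ⟨u + d u, UU_add hσ hB hC.hLU hu hu' hne hiso, ?_⟩
  -- the support of `u + d u`
  have hsupp : supp B e (u + d u) = T := by
    ext k
    rw [mem_supp, map_add, LinearMap.add_apply, hcoord]
    have hfac : B u (e k) + ζ k * B u (e k) = (1 + ζ k) * B u (e k) := by ring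
    rw [hfac]
    constructor
    · intro h
      by_contra hkT
      apply h
      have hk : k ≠ k1 := by
        rintro rfl
        exact hkT hk1
      have hkT' : k ∉ T' := fun h => hkT (hT'T k h)
      simp only [hζ]
      rw [if_neg hk, if_neg hkT']
      have : (1 : F) + 1 = 0 := by linear_combination h2
      rw [this, zero_mul]
    · intro hkT
      have hk0 : B u (e k) ≠ 0 := mem_supp.mp (hTS hkT)
      apply mul_ne_zero _ hk0
      simp only [hζ]
      by_cases hk : k = k1
      · rw [if_pos hk]; exact hω1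
      · have hkT' : k ∈ T' := by
          rcases (hmemT k).mp hkT with h | h
          · exact absurd h hk
          · exact h
        rw [if_neg hk, if_pos hkT']
        intro h
        apply hω0
        linear_combination h - h2
  rw [hsupp, hT4]

end Cfsg.Agent.Lib.Helper86_FR_Q2C
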