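import Mathlib
import Cfsg.Agent.Lib.Helper94_FrmDefs2
import Cfsg.Agent.Lib.Helper86_FR_STEP5
import Cfsg.Agent.Lib.Helper79_FR_FRAME

set_option autoImplicit false
set_option linter.unusedSimpArgs false
set_option linter.unusedVariables false
set_option linter.unusedSectionVars false

/-!
# S5655 frames market, package FR-STEP6 (architect helper94)

From one nonzero root vector supported on two frame vectors to all isotropic vectors of all
coordinate planes, using the diagonal and the permutation elements of the monomial group.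
-/

namespace Cfsg.Agent.Lib.Helper86_FR_STEP6

open Module Cfsg.Agent.Lib.Helper94_Symp Cfsg.Agent.Lib.Helper94_Herm
  Cfsg.Agent.Lib.Helper13_PSUSimple Cfsg.Agent.Lib.Helper27_UQDefs
  Cfsg.Agent.Lib.Helper94_FrmDefs Cfsg.Agent.Lib.Helper94_UDDefs
  Cfsg.Agent.Lib.Helper94_FrmDefs2 Cfsg.Agent.Lib.Helper27_UQ_KISO
  Cfsg.Agent.Lib.Helper86_FR_STEP5

variable {F W : Type*} [Field F] [AddCommGroup W] [Module F W]
variable {σ : F →+* F} {B : W →ₗ[F] W →ₛₗ[σ] F}
variable {ι : Type*} [Fintype ι] [DecidableEq ι] {e : ι → W} {L : Subgroup (W ≃ₗ[F] W)}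

/-- a vector supported on two frame vectors is the combination of them -/
lemma expand_two (he : OFrame B e) {u : W} {i j : ι} (hij : i ≠ j)
    (hk : ∀ k, k ≠ i → k ≠ j → B u (e k) = 0) :
    u = B u (e i) • e i + B u (e j) • e j := by
  classical
  conv_lhs => rw [expand he u]
  rw [← Finset.add_sum_erase Finset.univ _ (Finset.mem_univ i),
    ← Finset.add_sum_erase _ _ (Finset.mem_erase.mpr ⟨Ne.symm hij, Finset.mem_univ j⟩)]
  rw [Finset.sum_eq_zero, add_zero]
  intro k hk'
  rw [Finset.mem_erase, Finset.mem_erase] at hk'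
  rw [hk k hk'.2.1 hk'.1, zero_smul]

/-- the norm of a combination of two frame vectors -/
lemma norm_two (he : OFrame B e) {i j : ι} (hij : i ≠ j) (a b : F) :
    B (a • e i + b • e j) (a • e i + b • e j) = a * σ a + b * σ b := by
  simp only [map_add, map_smul, map_smulₛₗ, LinearMap.add_apply, LinearMap.smul_apply,
    smul_eq_mul, he.unit, he.orth i j hij, he.orth j i (Ne.symm hij), mul_zero, mul_one, add_zero,
    zero_add]
  ring

/-- a permutation with two prescribed values -/
lemma exists_perm {i0 j0 i j : ι} (h0 : i0 ≠ j0) (hij : i ≠ j) :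
    ∃ π : Equiv.Perm ι, π i0 = i ∧ π j0 = j := by
  set π1 : Equiv.Perm ι := Equiv.swap i0 i with hπ1
  have h1 : π1 i0 = i := Equiv.swap_apply_left i0 i
  have h2 : π1 j0 ≠ i := by
    intro h
    rw [← h1] at h
    exact h0 (π1.injective h).symm
  refine ⟨Equiv.swap (π1 j0) j * π1, ?_, ?_⟩
  · rw [Equiv.Perm.mul_apply, h1, Equiv.swap_apply_of_ne_of_ne (Ne.symm h2) hij]
  · rw [Equiv.Perm.mul_apply, Equiv.swap_apply_left]

/-- FR-STEP6 with the diagonal and permutation elements of the monomial group as hypotheses. -/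
theorem STEP6_aux (hC : FCtx B e L)
    (hD : ∀ ζ : ι → F, (∀ i, ζ i * σ (ζ i) = 1) → ∃ d ∈ Mono B e, ∀ i, d (e i) = ζ i • e i)
    (hP : ∀ π : Equiv.Perm ι, ∃ p ∈ Mono B e, ∀ i, p (e i) = e (π i))
    (h : ∃ u ∈ UU B L, u ≠ 0 ∧ ∃ i j : ι, i ≠ j ∧ ∀ k, k ≠ i → k ≠ j → B u (e k) = 0) :
    ∀ i j : ι, i ≠ j → ∀ a b : F, a * σ a + b * σ b = 0 → a • e i + b • e j ∈ UU B L := by
  classical
  obtain ⟨u0, hu0, hu0ne, i0, j0, h0, hk0⟩ := h
  have hσ := hC.hσ
  have hB := hC.hB
  have he := hC.he
  set a0 : F := B u0 (e i0) with ha0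
  set b0 : F := B u0 (e j0) with hb0
  have hexp : u0 = a0 • e i0 + b0 • e j0 := expand_two he h0 hk0
  have hN0 : a0 * σ a0 + b0 * σ b0 = 0 := by
    have h1 := hu0.1
    rw [hexp, norm_two he h0] at h1
    exact h1
  have norm_zero : ∀ x : F, x * σ x = 0 → x = 0 := by
    intro x hx
    rcases mul_eq_zero.mp hx with h | h
    · exact h
    · exact (map_eq_zero σ).mp h
  have ha0ne : a0 ≠ 0 := by
    intro h
    have hb : b0 = 0 := by
      apply norm_zero
      rw [h, zero_mul, zero_add] at hN0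
      exact hN0
    apply hu0ne
    rw [hexp, h, hb, zero_smul, zero_smul, add_zero]
  have hb0ne : b0 ≠ 0 := by
    intro h
    apply ha0ne
    apply norm_zero
    rw [h, zero_mul, add_zero] at hN0
    exact hN0
  intro i j hij a b hab
  by_cases ha : a = 0
  · have hb : b = 0 := by
      apply norm_zero
      rw [ha, zero_mul, zero_add] at hab
      exact hab
    rw [ha, hb, zero_smul, zero_smul, add_zero]
    exact UU_zero L
  -- scale
  set c : F := a / a0 with hc
  have h1 : c • u0 ∈ UU B L := UU_smul hσ hu0 c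
  have hca : c * a0 = a := by rw [hc]; field_simp
  set b'' : F := c * b0 with hb''
  have hcne : c ≠ 0 := div_ne_zero ha ha0ne
  have hb''ne : b'' ≠ 0 := mul_ne_zero hcne hb0ne
  have hNb'' : b'' * σ b'' = b * σ b := by
    have h2 : b'' * σ b'' = c * σ c * (b0 * σ b0) := by rw [hb'', map_mul]; ring
    have h3 : a * σ a = c * σ c * (a0 * σ a0) := by rw [← hca, map_mul]; ring
    have h4 : b0 * σ b0 = -(a0 * σ a0) := by linear_combination hN0
    have h5 : b * σ b = -(a * σ a) := by linear_combination hab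
    rw [h2, h5, h3, h4]
    ring
  set ζ : F := b / b'' with hζ
  have hζb : ζ * b'' = b := by rw [hζ]; field_simp
  have hζN : ζ * σ ζ = 1 := by
    have hσb'' : σ b'' ≠ 0 := (map_ne_zero σ).2 hb''ne
    rw [hζ, map_div₀, div_mul_div_comm, ← hNb'']
    exact div_self (mul_ne_zero hb''ne hσb'')
  have hsc : c • u0 = a • e i0 + b'' • e j0 := by
    rw [hexp, smul_add, smul_smul, smul_smul, hca]
  -- diagonal element
  obtain ⟨d, hd, hde⟩ := hD (fun k => if k = j0 then ζ else 1) (by
    intro k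
    by_cases hk : k = j0
    · simp only [hk, if_true]; exact hζN
    · simp only [hk, if_false]; rw [map_one, mul_one])
  have hdi : d (e i0) = e i0 := by
    have := hde i0
    simp only [h0, if_false, one_smul] at this
    exact this
  have hdj : d (e j0) = ζ • e j0 := by
    have := hde j0
    simp only [if_true] at this
    exact this
  have h2 : d (c • u0) ∈ UU B L := UU_map hC.hLU (hC.hML hd) h1
  have h2' : d (c • u0) = a • e i0 + b • e j0 := by
    rw [hsc, map_add, map_smul, map_smul, hdi, hdj, smul_smul, mul_comm b'' ζ, hζb]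
  rw [h2'] at h2
  -- permutation element
  obtain ⟨π, hπi, hπj⟩ := exists_perm h0 hij
  obtain ⟨p, hp, hpe⟩ := hP π
  have h3 : p (a • e i0 + b • e j0) ∈ UU B L := UU_map hC.hLU (hC.hML hp) h2
  rw [map_add, map_smul, map_smul, hpe, hpe, hπi, hπj] at h3
  exact h3

/-- FR-STEP6.  All isotropic vectors of all coordinate planes are root vectors. -/
theorem STEP6 [Finite F] [FiniteDimensional F W] (hC : FCtx B e L)
    (h : ∃ u ∈ UU B L, u ≠ 0 ∧ ∃ i j : ι, i ≠ j ∧ ∀ k, k ≠ i → k ≠ j → B u (e k) = 0) :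
    ∀ i j : ι, i ≠ j → ∀ a b : F, a * σ a + b * σ b = 0 → a • e i + b • e j ∈ UU B L := by
  obtain ⟨_, _, _, hD, hP⟩ := Cfsg.Agent.Lib.Helper79_FR_FRAME.FRAME hC.hσ hC.hB hC.he
  exact STEP6_aux hC hD hP h

end Cfsg.Agent.Lib.Helper86_FR_STEP6
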