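import Mathlib
import Cfsg.Agent.Lib.Helper20_FR_Q2B
import Cfsg.Agent.Lib.Helper86_FR_Q2C
import Cfsg.Agent.Lib.Helper38_FR_Q2D
import Cfsg.Agent.Lib.Helper86_FR_STEP5
import Cfsg.Agent.Lib.Helper22_FR_STEP7
import Cfsg.Agent.Lib.Helper94_FrmDefs2
import Cfsg.Agent.Lib.Helper9_S2151_CNT
import Cfsg.Agent.Lib.Helper79_FR_STEP1
import Cfsg.Agent.Lib.Helper73_FR_S2A
import Cfsg.Agent.Lib.Helper38_FR_S2B
import Cfsg.Agent.Lib.Helper8_FR_ZETA
import Cfsg.Agent.Lib.Helper32_FR_ROOT1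
import Cfsg.Agent.Lib.Helper7_FR_SPAN
import Cfsg.Agent.Lib.Helper8_FR_Q2E
import Cfsg.Agent.Lib.Helper86_FR_STEP6
import Cfsg.Agent.Lib.Helper77_FR_DETN
import Cfsg.Agent.Lib.Helper79_FR_RES0
import Cfsg.Agent.Lib.Helper49_FR_RES1
import Cfsg.Agent.Lib.Helper77_FR_RES2
import Cfsg.Agent.Lib.Helper77_FR_RES3
import Cfsg.Agent.Lib.Helper49_FR_RES4
import Cfsg.Agent.Lib.Helper31_FR_SYM
import Cfsg.Agent.Lib.Helper20_FR_FIN

/-!
# S5655, blocks of dimension one: the theorem on overgroups of the full monomial group of an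
orthonormal frame in the unitary group, and CASE (A) of the maximality proof (helper94).

Assembly of the packages of the market "FR" (finding 200, sections 1 and 2).
-/

set_option autoImplicit false

namespace Cfsg.Agent.Lib.Helper94_FrmMain

open Module Cfsg.Agent.Lib.Helper94_Symp Cfsg.Agent.Lib.Helper94_Herm
  Cfsg.Agent.Lib.Helper13_PSUSimple Cfsg.Agent.Lib.Helper27_UQDefs
  Cfsg.Agent.Lib.Helper94_FrmDefs Cfsg.Agent.Lib.Helper94_UDDefs
  Cfsg.Agent.Lib.Helper94_FrmDefs2 Cfsg.Agent.Lib.Helper27_UQ_KISO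
  Cfsg.Agent.Lib.Helper94_HermTrans

section part1

variable {F W : Type*} [Field F] [AddCommGroup W] [Module F W] [Finite F] [FiniteDimensional F W]
variable {σ : F →+* F} {B : W →ₗ[F] W →ₛₗ[σ] F}
variable {ι : Type*} [Fintype ι] [DecidableEq ι] {e : ι → W} {L : Subgroup (W ≃ₗ[F] W)}

theorem STEP2 (hC : FCtx B e L) {q : ℕ} (hF : Nat.card F = q ^ 2) (hne : ¬ L ≤ Mono B e)
    (h3 : 3 ≤ Fintype.card ι) :
    ∃ y ∈ Rc B (mu1 σ) L, ∃ y' ∈ Rc B (mu1 σ) L, B y y' = 1 ∧ y ≠ y' := by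
  obtain ⟨w, hw, i, j, k, hij, hik, hjk, hi, hj, hk⟩ :=
    Cfsg.Agent.Lib.Helper79_FR_STEP1.STEP1 hC hne h3
  by_cases ht : B w (e i) * σ (B w (e i)) + B w (e j) * σ (B w (e j)) = 1
  · exact Cfsg.Agent.Lib.Helper73_FR_S2A.S2A hC hw hij hik hjk hk ht
  · exact Cfsg.Agent.Lib.Helper38_FR_S2B.S2B hC hF hw hij hi hj ht

theorem STEP34 (hσ : Invol σ) (hB : IsHerm B) {y y' : W} (hy : y ∈ Rc B (mu1 σ) L)
    (hy' : y' ∈ Rc B (mu1 σ) L) (h1 : B y y' = 1) : y - y' ∈ UU B L := by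
  have h1' : B y' y = 1 := by rw [hB y y', h1, map_one]
  have hiso : B (y - y') (y - y') = 0 := by
    simp only [map_sub, LinearMap.sub_apply, hy.1, hy'.1, h1, h1']
    ring
  refine ⟨hiso, fun c hc => ?_⟩
  obtain ⟨⟨ξ, hξ, hξ2⟩, -⟩ := Cfsg.Agent.Lib.Helper8_FR_ZETA.ZETA hσ
  have hξ0 : ξ ≠ 0 := by
    rintro rfl
    simp at hξ
  have hσξ : σ ξ = ξ⁻¹ := eq_inv_of_mul_eq_one_right hξ
  set κ : F := σ ξ - ξ with hκ
  have hκ0 : κ ≠ 0 := by
    intro h
    apply hξ2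
    have h2 : σ ξ = ξ := sub_eq_zero.mp h
    rw [h2] at hξ
    exact hξ
  have hκs : σ κ = -κ := by rw [hκ, map_sub, hσ.invol]; ring
  let A : AddSubgroup F :=
    { carrier := {a | utv B (y - y') (a * κ) ∈ L}
      zero_mem' := by
        change utv B (y - y') (0 * κ) ∈ L
        rw [zero_mul, utv_zero_right]
        exact L.one_mem
      add_mem' := by
        intro a b ha hb
        change utv B (y - y') ((a + b) * κ) ∈ L
        rw [add_mul, ← utv_add]
        exact L.mul_mem ha hb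
      neg_mem' := by
        intro a ha
        change utv B (y - y') (-a * κ) ∈ L
        rw [neg_mul, ← utv_neg]
        exact L.inv_mem ha }
  have hA : ∀ ζ ∈ mu1 σ, (1 - ζ) * σ (1 - ζ) ∈ A := fun ζ hζ =>
    Cfsg.Agent.Lib.Helper32_FR_ROOT1.ROOT1 hσ hB hy hy' h1 ζ hζ ξ hξ
  have hall := Cfsg.Agent.Lib.Helper7_FR_SPAN.SPAN hσ A hA
  have hfix : σ (c / κ) = c / κ := by rw [map_div₀, hc, hκs, neg_div_neg_eq]
  have := hall (c / κ) hfix
  change utv B (y - y') (c / κ * κ) ∈ L at this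
  rwa [div_mul_cancel₀ _ hκ0] at this

/-- **The theorem on overgroups of the full monomial group**: a group of isometries of a
nondegenerate hermitian space with an orthonormal frame of at least four vectors which contains
the full monomial group of the frame and is not monomial contains every unitary transvection. -/
theorem GUFRAMES (hC : FCtx B e L) {q : ℕ} (hF : Nat.card F = q ^ 2) (h4 : 4 ≤ Fintype.card ι)
    (hne : ¬ L ≤ Mono B e) : ∀ u : W, B u u = 0 → u ∈ UU B L := by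
  obtain ⟨y, hy, y', hy', h1, hyy'⟩ := STEP2 hC hF hne (by omega)
  have hu := STEP34 hC.hσ hC.hB hy hy' h1
  have hu0 : y - y' ≠ 0 := sub_ne_zero.mpr hyy'
  by_cases hF4 : Nat.card F = 4
  · obtain ⟨hev, h2⟩ := Cfsg.Agent.Lib.Helper8_FR_Q2E.Q2E hC.hσ hC.hB hC.he hF4 hu.1 hu0
    have h4' : ∃ u ∈ UU B L, (supp B e u).card = 4 := by
      by_cases hc2 : (supp B e (y - y')).card = 2
      · exact Cfsg.Agent.Lib.Helper20_FR_Q2B.Q2B hC hF4 h4 hy hy' h1 hyy' hc2
      · by_cases hc4 : (supp B e (y - y')).card = 4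
        · exact ⟨_, hu, hc4⟩
        · apply Cfsg.Agent.Lib.Helper86_FR_Q2C.Q2C hC hF4 hu
          obtain ⟨r, hr⟩ := hev
          omega
    exact Cfsg.Agent.Lib.Helper38_FR_Q2D.Q2D hC hF4 h4'
  · have hq : 4 < Nat.card F := by
      have hq2 : 2 ≤ q := Cfsg.Agent.Lib.Helper9_S2151_CNT.two_le_q hF
      have : 2 ^ 2 ≤ q ^ 2 := Nat.pow_le_pow_left hq2 2
      omega
    exact Cfsg.Agent.Lib.Helper22_FR_STEP7.STEP7 hC hq
      (Cfsg.Agent.Lib.Helper86_FR_STEP6.STEP6 hC (Cfsg.Agent.Lib.Helper86_FR_STEP5.STEP5 hC ⟨_, hu, hu0⟩))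

end part1

section partA

variable {F V : Type*} [Field F] [AddCommGroup V] [Module F V] [Finite F] [FiniteDimensional F V]
variable {σ : F →+* F} {B : V →ₗ[F] V →ₛₗ[σ] F}
variable {ι : Type*} [Fintype ι] [DecidableEq ι] {e : ι → V} {M : Subgroup (V ≃ₗ[F] V)}

/-- **CASE (A)**: an overgroup `M ≤ SU` of the monomial group of an orthonormal frame of at least
five vectors which contains a non-monomial element stabilising a frame point is `SU`. -/
theorem CASEA (hσ : Invol σ) (hB : IsHerm B) (he : OFrame B e) {q : ℕ}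
    (hF : Nat.card F = q ^ 2) (h5 : 5 ≤ Fintype.card ι) (hHM : Mono B e ⊓ SUg B ≤ M)
    (hMK : M ≤ SUg B) (k : ι) {g : V ≃ₗ[F] V} (hgM : g ∈ M) {c : F} (hc : c ≠ 0)
    (hgk : g (e k) = c • e k) (hgn : g ∉ Mono B e) : M = SUg B := by
  classical
  obtain ⟨hN, hfr, hdel⟩ := Cfsg.Agent.Lib.Helper79_FR_RES0.RES0 hσ hB he
  have hMU : M ≤ uG B := fun _ h => SUg_le_uG (hMK h)
  set W' := orthV B (e k) with hW'
  set B' := Bw B W' with hB'
  set L := resSub B M (e k) with hL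
  have hC : FCtx B' (delFrame he k) L :=
    { hσ := hσ
      hB := isHerm_Bw hB W'
      he := hdel k
      hML := by
        intro l hl
        obtain ⟨g1, hg1, hg1k, hag⟩ := Cfsg.Agent.Lib.Helper77_FR_RES2.RES2 hσ hB he k l hl
        exact ⟨g1, hHM hg1, hg1k, hag⟩
      hLU := by
        rintro l ⟨g1, hg1, -, hag⟩ a b
        change B ((l a : W') : V) ((l b : W') : V) = B (a : V) (b : V)
        rw [hag, hag, hMU hg1] }
  have hne : ¬ L ≤ Mono B' (delFrame he k) := by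
    intro hle
    obtain ⟨l0, hl0⟩ := Cfsg.Agent.Lib.Helper49_FR_RES1.RES1 hB (hMU hgM) hc hgk
    have hl0L : l0 ∈ L := ⟨g, hgM, ⟨c, hc, hgk⟩, hl0⟩
    exact hgn (Cfsg.Agent.Lib.Helper77_FR_RES3.RES3 hB he k (hMU hgM) hc hgk hl0 (hle hl0L))
  have hcard : 4 ≤ Fintype.card {i : ι // i ≠ k} := by
    rw [Fintype.card_subtype_compl, Fintype.card_subtype_eq]
    omega
  have hall := GUFRAMES hC hF hcard hne
  have hk1 : ∀ u : V, B u u = 0 → B u (e k) = 0 → u ∈ UU B M := by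
    intro u hu huk
    refine ⟨hu, fun s hs => ?_⟩
    have huW : u ∈ W' := mem_orthV.mpr huk
    have h1 := (hall ⟨u, huW⟩ hu).2 s hs
    obtain ⟨g1, hg1, ⟨c1, hc1, hg1k⟩, hag⟩ := h1
    have hek : B (e k) u = 0 := herm_eq_zero hB huk
    have heq : g1 = utv B u s := by
      apply Cfsg.Agent.Lib.Helper49_FR_RES4.RES4 hσ hB (x := e k)
        (by rw [he.unit]; exact one_ne_zero) (hMK hg1)
        (Cfsg.Agent.Lib.Helper27_UQDefs.Xv_le_SUg hB u (utv_mem_Xv B u hs)) ⟨c1, hg1k⟩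
        ⟨1, by rw [utv_fix B u s hek, one_smul]⟩
      intro w hw
      have hwW : w ∈ W' := mem_orthV.mpr hw
      have h2 := hag ⟨w, hwW⟩
      rw [← h2]
      have hu' : B' (⟨u, huW⟩ : W') ⟨u, huW⟩ = 0 := hu
      rw [utv_apply B' hu', utv_apply B hu]
      rfl
    rw [← heq]
    exact hg1
  have hallj := Cfsg.Agent.Lib.Helper31_FR_SYM.SYM hσ hB he hHM hMK k hk1
  have hfin := Cfsg.Agent.Lib.Helper20_FR_FIN.FIN hσ hB he h5 hMU hallj
  apply le_antisymm hMK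
  exact SUg_le_of_UU hσ hB hN (by omega) hfin

end partA

end Cfsg.Agent.Lib.Helper94_FrmMain
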