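import Mathlib
import Cfsg.Agent.Lib.Helper94_UDDefs

set_option autoImplicit false
set_option linter.unusedSectionVars false
set_option linter.unusedVariables false

/-!
S5655, market UD (architect helper94): cores of UD-Q1 and UD-Q2, with the statements of UD-BLK (parts 1, 2) and UD-MOVE as
explicit hypotheses.
-/

namespace Cfsg.Agent.Lib.Helper61_UD_Q1core

open Module Cfsg.Agent.Lib.Helper94_Symp Cfsg.Agent.Lib.Helper94_Herm
  Cfsg.Agent.Lib.Helper13_PSUSimple Cfsg.Agent.Lib.Helper27_UQDefs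
  Cfsg.Agent.Lib.Helper94_FrmDefs Cfsg.Agent.Lib.Helper94_UDDefs Cfsg.Agent.Lib.Helper94_HermWitt

variable {F V : Type*} [Field F] [AddCommGroup V] [Module F V] [Finite F] [FiniteDimensional F V]
variable {σ : F →+* F} {B : V →ₗ[F] V →ₛₗ[σ] F}
variable {t k : ℕ} {D : Fin t → Submodule F V} {S M : Subgroup (V ≃ₗ[F] V)}

/-- One move `α + β0 ↦ α' + β0` inside `UU B M`. -/
lemma move_step (hC : Ctx B k D S M)
    (hBLK1 : ∀ i, ∀ a ∈ D i, ∀ c : F, σ c = -c → utv B a c ∈ S ⊓ SUg B)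
    (hBLK2 : ∀ i j, ∀ x ∈ D i, ∀ y ∈ D j, B x y = 0 → B x x ≠ 0 → B y y ≠ 0 → ∀ ζ : F, ζ * σ ζ = 1 →
      rho B x y ζ ∈ S ⊓ SUg B)
    (hMOVE : ∀ α α' : V, B α α ≠ 0 → B α' α' = B α α → B α α - B α α' ≠ 0 →
      (B (α - α') (α - α') ≠ 0 ∧ ∃ ζ : F, ζ * σ ζ = 1 ∧ qr B (α - α') ζ α = α') ∨
      (B (α - α') (α - α') = 0 ∧ ∃ c : F, σ c = -c ∧ utv B (α - α') c α = α'))
    {p q : Fin t} (hpq : p ≠ q) {β0 y : V} (hβ0 : β0 ∈ D q) (hy : y ∈ D q) (hNy : B y y ≠ 0)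
    (hyβ : B β0 y = 0) {α α' : V} (hα : α ∈ D p) (hα' : α' ∈ D p) (hN : B α α ≠ 0)
    (hNN : B α' α' = B α α) (hm : B α α - B α α' ≠ 0) (hw : α + β0 ∈ UU B M) :
    α' + β0 ∈ UU B M := by
  have hMu : M ≤ uG B := hC.hMK.trans SUg_le_uG
  have hx : α - α' ∈ D p := (D p).sub_mem hα hα'
  have hβx : B β0 (α - α') = 0 := hC.horth q p (Ne.symm hpq) β0 hβ0 _ hx
  rcases hMOVE α α' hN hNN hm with ⟨hNx, ζ, hζ, hmv⟩ | ⟨hNx, c, hc, hmv⟩
  · have hg : rho B (α - α') y ζ ∈ M :=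
      hC.hHM (hBLK2 p q _ hx y hy (hC.horth p q hpq _ hx y hy) hNx hNy ζ hζ)
    have h1 := UU_map hMu hg hw
    have h0 : B (α + β0) y = 0 := by
      rw [map_add, LinearMap.add_apply, hC.horth p q hpq α hα y hy, hyβ, add_zero]
    have e : rho B (α - α') y ζ (α + β0) = α' + β0 := by
      rw [rho, LinearEquiv.mul_apply, qr_fix B y ζ⁻¹ h0, map_add, hmv, qr_fix B (α - α') ζ hβx]
    rwa [e] at h1
  · have hg : utv B (α - α') c ∈ M := hC.hHM (hBLK1 p _ hx c hc)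
    have h1 := UU_map hMu hg hw
    have e : utv B (α - α') c (α + β0) = α' + β0 := by
      rw [map_add, hmv, utv_fix B (α - α') c hβx]
    rwa [e] at h1

/-- UD-Q1 with the statements of UD-BLK and UD-MOVE as hypotheses. -/
theorem Q1_core (hC : Ctx B k D S M)
    (hBLK1 : ∀ i, ∀ a ∈ D i, ∀ c : F, σ c = -c → utv B a c ∈ S ⊓ SUg B)
    (hBLK2 : ∀ i j, ∀ x ∈ D i, ∀ y ∈ D j, B x y = 0 → B x x ≠ 0 → B y y ≠ 0 → ∀ ζ : F, ζ * σ ζ = 1 →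
      rho B x y ζ ∈ S ⊓ SUg B)
    (hMOVE : ∀ α α' : V, B α α ≠ 0 → B α' α' = B α α → B α α - B α α' ≠ 0 →
      (B (α - α') (α - α') ≠ 0 ∧ ∃ ζ : F, ζ * σ ζ = 1 ∧ qr B (α - α') ζ α = α') ∨
      (B (α - α') (α - α') = 0 ∧ ∃ c : F, σ c = -c ∧ utv B (α - α') c α = α'))
    {p q : Fin t} (hpq : p ≠ q) {α0 β0 : V} (hα0 : α0 ∈ D p)
    (hβ0 : β0 ∈ D q) (hNα : B α0 α0 ≠ 0) (hNβ : B β0 β0 ≠ 0) (hw : α0 + β0 ∈ UU B M) :
    ∀ α ∈ D p, B α α = B α0 α0 → α + β0 ∈ UU B M := by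
  intro α hα hNαα
  have hnd' := nondegOn_orthV hC.hB (hC.hnd q) hβ0 hNβ
  have hfr : 1 ≤ finrank F (D q ⊓ orthV B β0 : Submodule F V) := by
    have h1 := finrank_le_inf_orthV_add_one (B := B) (D q) β0
    have h2 := hC.hfr q
    have h3 := hC.hk
    omega
  obtain ⟨x0, hx0U, hx00⟩ := exists_ne_zero_of_finrank_pos hfr
  obtain ⟨y, hyU, hNy⟩ := exists_aniso hC.hσ hC.hB hnd' hx0U hx00
  have hy : y ∈ D q := (Submodule.mem_inf.mp hyU).1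
  have hyβ' : B y β0 = 0 := mem_orthV.mp (Submodule.mem_inf.mp hyU).2
  have hyβ : B β0 y = 0 := herm_eq_zero hC.hB hyβ'
  by_cases hm : B α0 α0 - B α0 α = 0
  · obtain ⟨θ, hθ⟩ := hC.hσ.ne_id
    have hθ0 : θ ≠ 0 := by
      rintro rfl
      exact hθ (map_zero σ)
    have hσθ0 : σ θ ≠ 0 := (map_ne_zero σ).2 hθ0
    set ζ' : F := θ / σ θ with hζ'
    have hζn : ζ' * σ ζ' = 1 := by
      rw [hζ', map_div₀, hC.hσ.invol]
      field_simp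
    have hζ1 : ζ' ≠ 1 := by
      intro h
      rw [hζ', div_eq_one_iff_eq hσθ0] at h
      exact hθ h.symm
    have hσζ1 : σ ζ' ≠ 1 := by
      intro h
      apply hζ1
      have h2 := congrArg σ h
      rwa [hC.hσ.invol, map_one] at h2
    have hα'' : ζ' • α0 ∈ D p := (D p).smul_mem _ hα0
    have hN'' : B (ζ' • α0) (ζ' • α0) = B α0 α0 := by rw [self_smul, hζn, one_mul]
    have hm1 : B α0 α0 - B α0 (ζ' • α0) ≠ 0 := by
      rw [map_smulₛₗ, smul_eq_mul]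
      intro h
      apply hσζ1
      have h2 : (1 - σ ζ') * B α0 α0 = 0 := by linear_combination h
      rcases mul_eq_zero.mp h2 with h3 | h3
      · exact (sub_eq_zero.mp h3).symm
      · exact absurd h3 hNα
    have h1 := move_step hC hBLK1 hBLK2 hMOVE hpq hβ0 hy hNy hyβ hα0 hα'' hNα hN'' hm1 hw
    have hB0 : B α0 α = B α0 α0 := (sub_eq_zero.mp hm).symm
    have hm2 : B (ζ' • α0) (ζ' • α0) - B (ζ' • α0) α ≠ 0 := by
      rw [hN'', map_smul, LinearMap.smul_apply, smul_eq_mul, hB0]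
      intro h
      apply hζ1
      have h2 : (1 - ζ') * B α0 α0 = 0 := by linear_combination h
      rcases mul_eq_zero.mp h2 with h3 | h3
      · exact (sub_eq_zero.mp h3).symm
      · exact absurd h3 hNα
    exact move_step hC hBLK1 hBLK2 hMOVE hpq hβ0 hy hNy hyβ hα'' hα (by rw [hN'']; exact hNα)
      (by rw [hN'']; exact hNαα) hm2 h1
  · exact move_step hC hBLK1 hBLK2 hMOVE hpq hβ0 hy hNy hyβ hα0 hα hNα hNαα hm hw

/-- UD-Q2 with the statements of UD-BLK and UD-MOVE as hypotheses. -/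
theorem Q2_core (hC : Ctx B k D S M)
    (hBLK1 : ∀ i, ∀ a ∈ D i, ∀ c : F, σ c = -c → utv B a c ∈ S ⊓ SUg B)
    (hBLK2 : ∀ i j, ∀ x ∈ D i, ∀ y ∈ D j, B x y = 0 → B x x ≠ 0 → B y y ≠ 0 → ∀ ζ : F, ζ * σ ζ = 1 →
      rho B x y ζ ∈ S ⊓ SUg B)
    (hMOVE : ∀ α α' : V, B α α ≠ 0 → B α' α' = B α α → B α α - B α α' ≠ 0 →
      (B (α - α') (α - α') ≠ 0 ∧ ∃ ζ : F, ζ * σ ζ = 1 ∧ qr B (α - α') ζ α = α') ∨
      (B (α - α') (α - α') = 0 ∧ ∃ c : F, σ c = -c ∧ utv B (α - α') c α = α'))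
    {p q : Fin t} (hpq : p ≠ q) {α0 β0 : V} (hα0 : α0 ∈ D p)
    (hβ0 : β0 ∈ D q) (hNα : B α0 α0 = 1) (hNβ : B β0 β0 = -1) (hw : α0 + β0 ∈ UU B M) :
    ∀ α ∈ D p, ∀ β ∈ D q, B α α ≠ 0 → B α α + B β β = 0 → α + β ∈ UU B M := by
  intro α hα β hβ hNa hNab
  obtain ⟨l, hl⟩ := norm_surj hC.hσ (B α α) (herm_self hC.hB α)
  have hl0 : l ≠ 0 := by
    rintro rfl
    rw [zero_mul] at hl
    exact hNa hl.symm
  have hσl0 : σ l ≠ 0 := (map_ne_zero σ).2 hl0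
  have hα1 : l⁻¹ • α ∈ D p := (D p).smul_mem _ hα
  have hβ1 : l⁻¹ • β ∈ D q := (D q).smul_mem _ hβ
  have hNα1 : B (l⁻¹ • α) (l⁻¹ • α) = 1 := by
    rw [self_smul, ← hl, map_inv₀]
    field_simp
  have hNβ1 : B (l⁻¹ • β) (l⁻¹ • β) = -1 := by
    have hNb : B β β = -(l * σ l) := by
      rw [hl]
      linear_combination hNab
    rw [self_smul, hNb, map_inv₀]
    field_simp
  have h10 : B α0 α0 ≠ 0 := by rw [hNα]; exact one_ne_zero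
  have h20 : B β0 β0 ≠ 0 := by rw [hNβ]; exact neg_ne_zero.mpr one_ne_zero
  -- first move `α0` to `l⁻¹ • α`
  have h1 := Q1_core hC hBLK1 hBLK2 hMOVE hpq hα0 hβ0 h10 h20 hw (l⁻¹ • α) hα1 (by rw [hNα1, hNα])
  -- then move `β0` to `l⁻¹ • β`
  rw [add_comm] at h1
  have h2 := Q1_core hC hBLK1 hBLK2 hMOVE (Ne.symm hpq) hβ0 hα1 h20 (by rw [hNα1]; exact one_ne_zero) h1
    (l⁻¹ • β) hβ1 (by rw [hNβ1, hNβ])
  rw [add_comm] at h2
  have h3 := UU_smul hC.hσ h2 l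
  rwa [smul_add, smul_smul, smul_smul, mul_inv_cancel₀ hl0, one_smul, one_smul] at h3

end Cfsg.Agent.Lib.Helper61_UD_Q1core
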