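import Mathlib
import Cfsg.Agent.Lib.Helper94_UDDefs
import Cfsg.Agent.Lib.Helper44_HermOrtho

/-!
# S5655, market "UD" (architect helper94): package UD-MOVE

One elementary move between two vectors of equal nonzero norm: a quasi-reflection or a unitary
transvection with centre `α - α'`.
-/

set_option autoImplicit false
set_option linter.unusedSectionVars false
set_option linter.unusedVariables false

namespace Cfsg.Agent.Lib.Helper73_UD_MOVE

open Module Cfsg.Agent.Lib.Helper94_Symp Cfsg.Agent.Lib.Helper94_Herm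
  Cfsg.Agent.Lib.Helper13_PSUSimple Cfsg.Agent.Lib.Helper27_UQDefs
  Cfsg.Agent.Lib.Helper94_FrmDefs Cfsg.Agent.Lib.Helper94_UDDefs

variable {F V : Type*} [Field F] [AddCommGroup V] [Module F V] [Finite F] [FiniteDimensional F V]
variable {σ : F →+* F} {B : V →ₗ[F] V →ₛₗ[σ] F}
variable {t k : ℕ} {D : Fin t → Submodule F V} {S M : Subgroup (V ≃ₗ[F] V)}

/-- UD-MOVE. -/
theorem MOVE (hσ : Invol σ) (hB : IsHerm B) {α α' : V} (hN : B α α ≠ 0) (hNN : B α' α' = B α α)
    (hm : B α α - B α α' ≠ 0) :
    (B (α - α') (α - α') ≠ 0 ∧ ∃ ζ : F, ζ * σ ζ = 1 ∧ qr B (α - α') ζ α = α') ∨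
    (B (α - α') (α - α') = 0 ∧ ∃ c : F, σ c = -c ∧ utv B (α - α') c α = α') := by
  set m : F := B α α - B α α' with hmdef
  have hσN : σ (B α α) = B α α := herm_self hB α
  have hba : B α' α = σ (B α α') := hB α α'
  have hσm : σ m = B α α - B α' α := by rw [hmdef, map_sub, hσN, hba]
  have hσm0 : σ m ≠ 0 := (map_ne_zero σ).2 hm
  have hdd : B (α - α') (α - α') = m + σ m := by
    rw [hσm, hmdef]
    simp only [map_sub, LinearMap.sub_apply]
    rw [hNN]
    ring
  have had : B α (α - α') = m := by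
    rw [hmdef, map_sub]
  by_cases hd : B (α - α') (α - α') = 0
  · right
    refine ⟨hd, -m⁻¹, ?_, ?_⟩
    · have hs : σ m = -m := by
        rw [hdd] at hd
        linear_combination hd
      rw [map_neg, map_inv₀, hs, inv_neg]
    · rw [utv_apply B hd, had]
      have : -m⁻¹ * m = -1 := by field_simp
      rw [this, neg_one_smul]
      abel
  · left
    refine ⟨hd, -(σ m) / m, ?_, ?_⟩
    · rw [map_div₀, map_neg, hσ.invol]
      field_simp
    · have hζ0 : -(σ m) / m ≠ 0 := div_ne_zero (neg_ne_zero.2 hσm0) hm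
      rw [qr_apply B _ hζ0, had]
      have hmm : m + σ m ≠ 0 := by rwa [hdd] at hd
      have : (-(σ m) / m - 1) * (B (α - α') (α - α'))⁻¹ * m = -1 := by
        rw [hdd]
        field_simp
        ring
      rw [this, neg_one_smul]
      abel

end Cfsg.Agent.Lib.Helper73_UD_MOVE
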