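import Mathlib
import Cfsg.Agent.Lib.Helper94_UDDefs
import Cfsg.Agent.Lib.Helper44_HermOrtho

/-!
# S5655, blocks of dimension `k ≥ 2` (architect helper94), package UD-BLK

Transvections with centre in a block and double reflections with anisotropic orthogonal centres in
blocks lie in `S ⊓ SUg B`; isotropic vectors of blocks are in `UU B M`.
-/

set_option autoImplicit false
set_option linter.unusedSectionVars false
set_option linter.unusedVariables false

namespace Cfsg.Agent.Lib.Helper8_UD_BLK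

open Module Cfsg.Agent.Lib.Helper94_Symp Cfsg.Agent.Lib.Helper94_Herm
  Cfsg.Agent.Lib.Helper13_PSUSimple Cfsg.Agent.Lib.Helper27_UQDefs
  Cfsg.Agent.Lib.Helper94_FrmDefs Cfsg.Agent.Lib.Helper94_UDDefs

variable {F V : Type*} [Field F] [AddCommGroup V] [Module F V] [Finite F] [FiniteDimensional F V]
variable {σ : F →+* F} {B : V →ₗ[F] V →ₛₗ[σ] F}
variable {t k : ℕ} {D : Fin t → Submodule F V} {S M : Subgroup (V ≃ₗ[F] V)}

/-- an element mapping each block into itself lies in `S` -/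
theorem mem_S_of_stab (hC : Ctx B k D S M) (g : V ≃ₗ[F] V) (hg : ∀ j, ∀ x ∈ D j, g x ∈ D j) :
    g ∈ S := by
  rw [hC.hS]
  refine ⟨1, fun i => ?_⟩
  rw [Equiv.Perm.one_apply]
  apply Submodule.eq_of_le_of_finrank_eq
  · rintro _ ⟨x, hx, rfl⟩
    exact hg i x hx
  · rw [hC.hfr i]
    have := LinearEquiv.finrank_map_eq g (D i)
    rw [← hC.hfr i]
    exact this

/-- a quasi-reflection with centre in a block maps each block into itself -/
theorem qr_stab (hC : Ctx B k D S M) {i : Fin t} {x : V} (hx : x ∈ D i) {ζ : F} (hζ : ζ ≠ 0) :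
    ∀ j, ∀ v ∈ D j, qr B x ζ v ∈ D j := by
  intro j v hv
  rw [qr_apply B x hζ]
  by_cases hji : j = i
  · subst hji
    exact (D j).add_mem hv ((D j).smul_mem _ hx)
  · rw [hC.horth j i hji v hv x hx, mul_zero, zero_smul, add_zero]
    exact hv

theorem BLK (hC : Ctx B k D S M) :
    (∀ i, ∀ a ∈ D i, ∀ c : F, σ c = -c → utv B a c ∈ S ⊓ SUg B) ∧
    (∀ i j, ∀ x ∈ D i, ∀ y ∈ D j, B x y = 0 → B x x ≠ 0 → B y y ≠ 0 → ∀ ζ : F, ζ * σ ζ = 1 →
      rho B x y ζ ∈ S ⊓ SUg B) ∧
    (∀ i, ∀ a ∈ D i, B a a = 0 → a ∈ UU B M) := by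
  have h1 : ∀ i, ∀ a ∈ D i, ∀ c : F, σ c = -c → utv B a c ∈ S ⊓ SUg B := by
    intro i a ha c hc
    refine ⟨?_, Cfsg.Agent.Lib.Helper14_PSULocal1.utv_mem_SUg hC.hB a hc⟩
    apply mem_S_of_stab hC
    intro j x hx
    by_cases haa : B a a = 0
    · rw [utv_apply B haa]
      by_cases hji : j = i
      · subst hji
        exact (D j).add_mem hx ((D j).smul_mem _ ha)
      · rw [hC.horth j i hji x hx a ha, mul_zero, zero_smul, add_zero]
        exact hx
    · have : utv B a c = 1 := by simp [utv, haa]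
      rw [this]
      exact hx
  refine ⟨h1, ?_, ?_⟩
  · intro i j x hx y hy hxy hxx hyy ζ hζ
    have hζ0 : ζ ≠ 0 := by
      rintro rfl
      rw [zero_mul] at hζ
      exact zero_ne_one hζ
    refine ⟨?_, rho_mem_SUg hC.hσ hC.hB hxx hyy hζ⟩
    apply mem_S_of_stab hC
    intro l v hv
    rw [rho, LinearEquiv.mul_apply]
    exact qr_stab hC hx hζ0 l _ (qr_stab hC hy (inv_ne_zero hζ0) l v hv)
  · intro i a ha haa
    exact ⟨haa, fun c hc => hC.hHM (h1 i a ha c hc)⟩

end Cfsg.Agent.Lib.Helper8_UD_BLK
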