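import Mathlib
import Cfsg.Agent.Lib.Helper94_UDDefs
import Cfsg.Agent.Lib.Helper44_HermOrtho

/-!
# S5655 package UD-SWAP (helper77 for helper94): block swaps in `S ⊓ SUg B`

For two different blocks `D p`, `D r` of the decomposition there is an element of `S ⊓ SUg B`
mapping `D p` onto `D r` and fixing all the other blocks pointwise: the product of the elementary
swaps `v ↦ v - B v (x i - y i) • (x i - y i)` for orthonormal bases `x`, `y` of the two blocks,
corrected by a quasi-reflection of determinant `(-1)^k`.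
-/

set_option autoImplicit false
set_option linter.unusedSectionVars false
set_option linter.unusedVariables false

namespace Cfsg.Agent.Lib.Helper77_UD_SWAP

open Module Cfsg.Agent.Lib.Helper94_Symp Cfsg.Agent.Lib.Helper94_Herm
  Cfsg.Agent.Lib.Helper13_PSUSimple Cfsg.Agent.Lib.Helper27_UQDefs
  Cfsg.Agent.Lib.Helper94_FrmDefs Cfsg.Agent.Lib.Helper94_UDDefs

variable {F V : Type*} [Field F] [AddCommGroup V] [Module F V] [Finite F] [FiniteDimensional F V]
variable {σ : F →+* F} {B : V →ₗ[F] V →ₛₗ[σ] F}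
variable {t k : ℕ} {D : Fin t → Submodule F V} {S M : Subgroup (V ≃ₗ[F] V)}

/-- the linear map `v ↦ v - B v d • d` -/
noncomputable def swLin (B : V →ₗ[F] V →ₛₗ[σ] F) (d : V) : V →ₗ[F] V :=
  LinearMap.transvection (-(B.flip d)) d

lemma swLin_apply (d v : V) : swLin B d v = v - B v d • d := by
  simp [swLin, LinearMap.transvection.apply, sub_eq_add_neg]

lemma swLin_swLin {d : V} (hd : B d d = 2) (v : V) : swLin B d (swLin B d v) = v := by
  rw [swLin_apply, swLin_apply]
  simp only [map_sub, map_smul, LinearMap.sub_apply, LinearMap.smul_apply, smul_eq_mul, hd]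
  rw [sub_sub, ← add_smul]
  have : B v d + (B v d - B v d * 2) = 0 := by ring
  rw [this, zero_smul, sub_zero]

/-- the elementary swap as a linear equivalence -/
noncomputable def swE (B : V →ₗ[F] V →ₛₗ[σ] F) (d : V) (hd : B d d = 2) : V ≃ₗ[F] V :=
  LinearEquiv.ofLinear (swLin B d) (swLin B d)
    (by ext v; simp [swLin_swLin hd]) (by ext v; simp [swLin_swLin hd])

lemma swE_apply {d : V} (hd : B d d = 2) (v : V) : swE B d hd v = v - B v d • d := by
  simp [swE, swLin_apply]

lemma swE_mem_uG (hB : IsHerm B) {d : V} (hd : B d d = 2) : swE B d hd ∈ uG B := by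
  intro v w
  rw [swE_apply, swE_apply]
  simp only [map_sub, map_smul, map_smulₛₗ, LinearMap.sub_apply, LinearMap.smul_apply,
    smul_eq_mul, hd]
  rw [hB w d]
  ring

lemma det_swE {d : V} (hd : B d d = 2) : LinearEquiv.det (swE B d hd) = -1 := by
  apply Units.ext
  rw [LinearEquiv.coe_det]
  have : ((swE B d hd : V ≃ₗ[F] V) : V →ₗ[F] V) = swLin B d := by
    ext v
    simp [swE]
  rw [this, swLin, LinearMap.transvection.det]
  simp only [LinearMap.neg_apply, LinearMap.flip_apply, hd, Units.val_neg, Units.val_one]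
  ring

/-- the product of the elementary swaps along a list of indices -/
noncomputable def swP (B : V →ₗ[F] V →ₛₗ[σ] F) {k : ℕ} (x y : Fin k → V)
    (hd : ∀ i, B (x i - y i) (x i - y i) = 2) (L : List (Fin k)) : V ≃ₗ[F] V :=
  (L.map (fun i => swE B (x i - y i) (hd i))).prod

lemma swP_nil {k : ℕ} (x y : Fin k → V) (hd : ∀ i, B (x i - y i) (x i - y i) = 2) :
    swP B x y hd [] = 1 := by
  simp [swP]

lemma swP_cons {k : ℕ} (x y : Fin k → V) (hd : ∀ i, B (x i - y i) (x i - y i) = 2) (i : Fin k)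
    (L : List (Fin k)) : swP B x y hd (i :: L) = swE B (x i - y i) (hd i) * swP B x y hd L := by
  simp [swP]

lemma swP_mem_uG (hB : IsHerm B) {k : ℕ} (x y : Fin k → V)
    (hd : ∀ i, B (x i - y i) (x i - y i) = 2) (L : List (Fin k)) : swP B x y hd L ∈ uG B := by
  induction L with
  | nil => rw [swP_nil]; exact (uG B).one_mem
  | cons i L ih => rw [swP_cons]; exact (uG B).mul_mem (swE_mem_uG hB (hd i)) ih

lemma det_swP {k : ℕ} (x y : Fin k → V) (hd : ∀ i, B (x i - y i) (x i - y i) = 2)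
    (L : List (Fin k)) : LinearEquiv.det (swP B x y hd L) = (-1) ^ L.length := by
  induction L with
  | nil => rw [swP_nil, map_one, List.length_nil, pow_zero]
  | cons i L ih => rw [swP_cons, map_mul, ih, det_swE, List.length_cons, pow_succ']

lemma swP_fix {k : ℕ} (x y : Fin k → V) (hd : ∀ i, B (x i - y i) (x i - y i) = 2)
    (L : List (Fin k)) {v : V} (hv : ∀ i ∈ L, B v (x i - y i) = 0) : swP B x y hd L v = v := by
  induction L with
  | nil => rw [swP_nil]; rfl
  | cons i L ih =>
    rw [swP_cons, LinearEquiv.mul_apply, ih (fun j hj => hv j (List.mem_cons_of_mem _ hj)),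
      swE_apply, hv i List.mem_cons_self, zero_smul, sub_zero]

lemma swP_swap {k : ℕ} (x y : Fin k → V) (hd : ∀ i, B (x i - y i) (x i - y i) = 2)
    (hx : ∀ i j, B (x i) (x j) = if i = j then 1 else 0)
    (hy : ∀ i j, B (y i) (y j) = if i = j then 1 else 0)
    (hxy : ∀ i j, B (x i) (y j) = 0) (hyx : ∀ i j, B (y i) (x j) = 0)
    (L : List (Fin k)) (hL : L.Nodup) {j : Fin k} (hj : j ∈ L) :
    swP B x y hd L (x j) = y j ∧ swP B x y hd L (y j) = x j := by
  have hxd : ∀ i l, i ≠ l → B (x i) (x l - y l) = 0 := by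
    intro i l hil
    rw [map_sub, hx, hxy, if_neg hil, sub_zero]
  have hyd : ∀ i l, i ≠ l → B (y i) (x l - y l) = 0 := by
    intro i l hil
    rw [map_sub, hy, hyx, if_neg hil, sub_zero]
  have hxd' : ∀ i, B (x i) (x i - y i) = 1 := by
    intro i
    rw [map_sub, hx, hxy, if_pos rfl, sub_zero]
  have hyd' : ∀ i, B (y i) (x i - y i) = -1 := by
    intro i
    rw [map_sub, hy, hyx, if_pos rfl, zero_sub]
  induction L with
  | nil => exact absurd hj List.not_mem_nil
  | cons i L ih =>
    rw [List.nodup_cons] at hL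
    rw [swP_cons, LinearEquiv.mul_apply, LinearEquiv.mul_apply]
    by_cases hji : j = i
    · subst hji
      have h1 : swP B x y hd L (x j) = x j :=
        swP_fix x y hd L (fun l hl => hxd j l (fun e => hL.1 (e ▸ hl)))
      have h2 : swP B x y hd L (y j) = y j :=
        swP_fix x y hd L (fun l hl => hyd j l (fun e => hL.1 (e ▸ hl)))
      rw [h1, h2, swE_apply, swE_apply, hxd', hyd']
      constructor
      · rw [one_smul]; abel
      · rw [neg_one_smul]; abel
    · have hjL : j ∈ L := by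
        rcases List.mem_cons.mp hj with h | h
        · exact absurd h hji
        · exact h
      obtain ⟨h1, h2⟩ := ih hL.2 hjL
      rw [h1, h2, swE_apply, swE_apply, hxd j i hji, hyd j i hji, zero_smul, sub_zero, sub_zero]
      exact ⟨rfl, rfl⟩

/-- an orthonormal family of `k` vectors in a subspace of dimension `k` spans it -/
lemma exists_coeff {U : Submodule F V} {k : ℕ} (hk : finrank F U = k) (w : Fin k → V)
    (hwU : ∀ i, w i ∈ U) (hw : ∀ i j, B (w i) (w j) = if i = j then 1 else 0) {a : V}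
    (ha : a ∈ U) : ∃ c : Fin k → F, a = ∑ i, c i • w i := by
  have hli : LinearIndependent F w := by
    rw [linearIndependent_iff']
    intro s g hg i hi
    have h1 : B (∑ l ∈ s, g l • w l) (w i) = 0 := by rw [hg]; simp
    rw [map_sum, LinearMap.sum_apply] at h1
    rw [Finset.sum_eq_single i] at h1
    · simpa [hw] using h1
    · intro l _ hli
      simp [hw, hli]
    · intro h; exact absurd hi h
  have hspan : Submodule.span F (Set.range w) = U := by
    apply Submodule.eq_of_le_of_finrank_eq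
    · rw [Submodule.span_le]
      rintro _ ⟨i, rfl⟩
      exact hwU i
    · rw [finrank_span_eq_card hli, Fintype.card_fin, hk]
  rw [← hspan] at ha
  obtain ⟨c, hc⟩ := (Submodule.mem_span_range_iff_exists_fun F).mp ha
  exact ⟨c, hc.symm⟩

/-- a linear equivalence mapping `U` into `U'` of the same dimension maps it onto `U'` -/
lemma map_eq_of_le {U U' : Submodule F V} (h : V ≃ₗ[F] V) (hfr : finrank F U = finrank F U')
    (hle : ∀ a ∈ U, h a ∈ U') : U.map (h : V →ₗ[F] V) = U' := by
  apply Submodule.eq_of_le_of_finrank_eq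
  · rintro _ ⟨a, ha, rfl⟩
    exact hle a ha
  · have := LinearEquiv.finrank_map_eq h U
    rw [← hfr, ← this]

/-- UD-SWAP. -/
theorem SWAP (hC : Ctx B k D S M) {p r : Fin t} (hpr : p ≠ r) :
    ∃ h ∈ S ⊓ SUg B, (∀ a' ∈ D r, ∃ a ∈ D p, h a = a') ∧
      ∀ q, q ≠ p → q ≠ r → ∀ b ∈ D q, h b = b := by
  have hσ := hC.hσ
  have hB := hC.hB
  obtain ⟨x, hxU, hx⟩ := Cfsg.Agent.Lib.Helper44_HermOrtho.exists_orthonormal hσ hB k (D p)
    (hC.hnd p) (hC.hfr p)
  obtain ⟨y, hyU, hy⟩ := Cfsg.Agent.Lib.Helper44_HermOrtho.exists_orthonormal hσ hB k (D r)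
    (hC.hnd r) (hC.hfr r)
  have hxy : ∀ i j, B (x i) (y j) = 0 := fun i j => hC.horth p r hpr _ (hxU i) _ (hyU j)
  have hyx : ∀ i j, B (y i) (x j) = 0 := fun i j => hC.horth r p hpr.symm _ (hyU i) _ (hxU j)
  have hd : ∀ i, B (x i - y i) (x i - y i) = 2 := by
    intro i
    simp only [map_sub, LinearMap.sub_apply, hx, hy, hxy, hyx, if_pos]
    ring
  have hk0 : 0 < k := by have := hC.hk; omega
  set i0 : Fin k := ⟨0, hk0⟩ with hi0
  set ζ : F := (-1) ^ k with hζdef
  have hζ0 : ζ ≠ 0 := pow_ne_zero _ (neg_ne_zero.mpr one_ne_zero)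
  have hζ : ζ * σ ζ = 1 := by
    rw [hζdef, map_pow, map_neg, map_one, ← mul_pow]
    simp
  set h0 : V ≃ₗ[F] V := swP B x y hd (List.finRange k) with hh0
  set h : V ≃ₗ[F] V := h0 * qr B (x i0) ζ with hh
  have hx0 : B (x i0) (x i0) ≠ 0 := by rw [hx, if_pos rfl]; exact one_ne_zero
  -- values of `h`
  have hswap : ∀ j, h0 (x j) = y j ∧ h0 (y j) = x j := fun j =>
    swP_swap x y hd hx hy hxy hyx _ (List.nodup_finRange k) (List.mem_finRange j)
  have hhy : ∀ j, h (y j) = x j := by
    intro j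
    rw [hh, LinearEquiv.mul_apply, qr_fix B (x i0) ζ (hyx j i0)]
    exact (hswap j).2
  have hhx : ∀ j, h (x j) ∈ D r := by
    intro j
    rw [hh, LinearEquiv.mul_apply]
    by_cases hj : j = i0
    · rw [hj, qr_self B hx0 hζ0, map_smul, (hswap i0).1]
      exact (D r).smul_mem _ (hyU i0)
    · have : B (x j) (x i0) = 0 := by rw [hx, if_neg hj]
      rw [qr_fix B (x i0) ζ this, (hswap j).1]
      exact hyU j
  have hfixq : ∀ q, q ≠ p → q ≠ r → ∀ b ∈ D q, h b = b := by
    intro q hqp hqr b hb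
    have hbx : ∀ i, B b (x i) = 0 := fun i => hC.horth q p hqp b hb _ (hxU i)
    have hby : ∀ i, B b (y i) = 0 := fun i => hC.horth q r hqr b hb _ (hyU i)
    rw [hh, LinearEquiv.mul_apply, qr_fix B (x i0) ζ (hbx i0)]
    exact swP_fix x y hd _ (fun i _ => by rw [map_sub, hbx, hby, sub_zero])
  have hpr' : ∀ a ∈ D p, h a ∈ D r := by
    intro a ha
    obtain ⟨c, rfl⟩ := exists_coeff (hC.hfr p) x hxU hx ha
    rw [map_sum]
    refine (D r).sum_mem (fun i _ => ?_)
    rw [map_smul]
    exact (D r).smul_mem _ (hhx i)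
  have hrp' : ∀ a ∈ D r, h a ∈ D p := by
    intro a ha
    obtain ⟨c, rfl⟩ := exists_coeff (hC.hfr r) y hyU hy ha
    rw [map_sum]
    refine (D p).sum_mem (fun i _ => ?_)
    rw [map_smul, hhy]
    exact (D p).smul_mem _ (hxU i)
  have hmap_p : (D p).map (h : V →ₗ[F] V) = D r :=
    map_eq_of_le h (by rw [hC.hfr, hC.hfr]) hpr'
  have hmap_r : (D r).map (h : V →ₗ[F] V) = D p :=
    map_eq_of_le h (by rw [hC.hfr, hC.hfr]) hrp'
  have hmap_q : ∀ q, q ≠ p → q ≠ r → (D q).map (h : V →ₗ[F] V) = D q := by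
    intro q hqp hqr
    ext v
    constructor
    · rintro ⟨b, hb, rfl⟩
      have : h b = b := hfixq q hqp hqr b hb
      show h b ∈ D q
      rw [this]; exact hb
    · intro hv
      exact ⟨v, hv, hfixq q hqp hqr v hv⟩
  have hS : h ∈ S := by
    rw [hC.hS]
    refine ⟨Equiv.swap p r, fun i => ?_⟩
    by_cases hip : i = p
    · rw [hip, Equiv.swap_apply_left]; exact hmap_p
    by_cases hir : i = r
    · rw [hir, Equiv.swap_apply_right]; exact hmap_r
    · rw [Equiv.swap_apply_of_ne_of_ne hip hir]; exact hmap_q i hip hir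
  have hSU : h ∈ SUg B := by
    rw [mem_SUg]
    refine ⟨(uG B).mul_mem (swP_mem_uG hB x y hd _) (qr_mem_uG hB (x i0) hζ), ?_⟩
    rw [hh, map_mul, hh0, det_swP, det_qr hx0 hζ0, List.length_finRange]
    apply Units.ext
    simp only [Units.val_mul, Units.val_pow_eq_pow_val, Units.val_neg, Units.val_one,
      Units.val_mk0]
    rw [hζdef, ← mul_pow]
    simp
  refine ⟨h, ⟨hS, hSU⟩, ?_, hfixq⟩
  intro a' ha'
  rw [← hmap_p] at ha'
  obtain ⟨a, ha, rfl⟩ := ha'
  exact ⟨a, ha, rfl⟩

end Cfsg.Agent.Lib.Helper77_UD_SWAP
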