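import Mathlib
import Cfsg.Agent.Lib.Helper94_UDDefs
import Cfsg.Agent.Lib.Helper44_HermOrtho
import Cfsg.Agent.Lib.Helper77_UD_SWAP

/-!
# S5655, blocks of dimension `k ≥ 2` (architect helper94), package UD-RALL

From one pair of blocks to all pairs (`RALL_of_swap`: the block swaps of UD-SWAP as a hypothesis;
`RALL`: with helper77's landed `SWAP`).
-/

set_option autoImplicit false
set_option linter.unusedSectionVars false
set_option linter.unusedVariables false

namespace Cfsg.Agent.Lib.Helper8_UD_RALL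

open Module Cfsg.Agent.Lib.Helper94_Symp Cfsg.Agent.Lib.Helper94_Herm
  Cfsg.Agent.Lib.Helper13_PSUSimple Cfsg.Agent.Lib.Helper27_UQDefs
  Cfsg.Agent.Lib.Helper94_FrmDefs Cfsg.Agent.Lib.Helper94_UDDefs

variable {F V : Type*} [Field F] [AddCommGroup V] [Module F V] [Finite F] [FiniteDimensional F V]
variable {σ : F →+* F} {B : V →ₗ[F] V →ₛₗ[σ] F}
variable {t k : ℕ} {D : Fin t → Submodule F V} {S M : Subgroup (V ≃ₗ[F] V)}

/-- `RR` is symmetric -/
theorem RR_symm {p q : Fin t} (hR : RR B D M p q) : RR B D M q p := by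
  intro a ha b hb hab
  rw [add_comm] at hab ⊢
  exact hR b hb a ha hab

/-- UD-RALL with the block swaps as a hypothesis -/
theorem RALL_of_swap (hC : Ctx B k D S M)
    (hSWAP : ∀ p r : Fin t, p ≠ r → ∃ h ∈ S ⊓ SUg B, (∀ a' ∈ D r, ∃ a ∈ D p, h a = a') ∧
      ∀ q, q ≠ p → q ≠ r → ∀ b ∈ D q, h b = b)
    {p q : Fin t} (hpq : p ≠ q) (hR : RR B D M p q) :
    ∀ r s : Fin t, r ≠ s → RR B D M r s := by
  have hMu : M ≤ uG B := hC.hMK.trans SUg_le_uG
  have hC1 : ∀ p q : Fin t, p ≠ q → RR B D M p q → ∀ r, r ≠ q → RR B D M r q := by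
    intro p q hpq hR r hrq
    by_cases hrp : r = p
    · rw [hrp]; exact hR
    · obtain ⟨h, hh, hsurj, hfixq⟩ := hSWAP p r (Ne.symm hrp)
      have hhM : h ∈ M := hC.hHM hh
      have hhu : h ∈ uG B := hMu hhM
      intro a' ha' b hb hab
      obtain ⟨a, ha, rfl⟩ := hsurj a' ha'
      have hb' : h b = b := hfixq q (Ne.symm hpq) (Ne.symm hrq) b hb
      have hiso : B (a + b) (a + b) = 0 := by
        rw [← hhu (a + b) (a + b), map_add, hb']
        exact hab
      have := UU_map hMu hhM (hR a ha b hb hiso)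
      rwa [map_add, hb'] at this
  intro r s hrs
  by_cases hsq : s = q
  · rw [hsq]
    exact hC1 p q hpq hR r (hsq ▸ hrs)
  · have h1 : RR B D M s q := hC1 p q hpq hR s hsq
    have h2 : RR B D M q s := RR_symm h1
    exact hC1 q s (Ne.symm hsq) h2 r hrs

/-- UD-RALL.  From one pair to all pairs. -/
theorem RALL (hC : Ctx B k D S M) {p q : Fin t} (hpq : p ≠ q) (hR : RR B D M p q) :
    ∀ r s : Fin t, r ≠ s → RR B D M r s :=
  RALL_of_swap hC (fun _ _ hpr => Cfsg.Agent.Lib.Helper77_UD_SWAP.SWAP hC hpr) hpq hR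

end Cfsg.Agent.Lib.Helper8_UD_RALL
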