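import Mathlib
import Cfsg.Agent.Lib.Helper94_UDDefs
import Cfsg.Agent.Lib.Helper44_HermOrtho
import Cfsg.Agent.Lib.Helper73_UD_ZETA
import Cfsg.Agent.Lib.Helper8_UD_BLK
import Cfsg.Agent.Lib.Helper16_UD_PROJ

/-!
# S5655, market "UD" (architect helper94): package UD-P (pair start)

From a root vector `u ∈ UU B M` meeting two blocks `D p`, `D q` we get `α + β ∈ UU B M` with
`α ∈ D p`, `β ∈ D q`, `N α = 1`, `N β = -1`.  `P_aux` takes the conclusions of UD-PROJ and UD-BLK (2)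
as hypotheses.
-/

set_option autoImplicit false
set_option linter.unusedSectionVars false
set_option linter.unusedVariables false

namespace Cfsg.Agent.Lib.Helper95_UD_P

open Module Cfsg.Agent.Lib.Helper94_Symp Cfsg.Agent.Lib.Helper94_Herm
  Cfsg.Agent.Lib.Helper13_PSUSimple Cfsg.Agent.Lib.Helper27_UQDefs
  Cfsg.Agent.Lib.Helper94_FrmDefs Cfsg.Agent.Lib.Helper94_UDDefs

variable {F V : Type*} [Field F] [AddCommGroup V] [Module F V] [Finite F] [FiniteDimensional F V]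
variable {σ : F →+* F} {B : V →ₗ[F] V →ₛₗ[σ] F}
variable {t k : ℕ} {D : Fin t → Submodule F V} {S M : Subgroup (V ≃ₗ[F] V)}

/-- UD-P with the conclusions of UD-PROJ (for the two blocks) and UD-BLK (2) as hypotheses. -/
theorem P_aux (hC : Ctx B k D S M) {u : V} (hu : u ∈ UU B M) {p q : Fin t} (hpq : p ≠ q)
    (hPp : ∃ a ∈ D p, B u a = 1 ∧ B a a = 1) (hPq : ∃ b ∈ D q, B u b = -1 ∧ B b b = -1)
    (hBLK : ∀ i j, ∀ x ∈ D i, ∀ y ∈ D j, B x y = 0 → B x x ≠ 0 → B y y ≠ 0 → ∀ ζ : F,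
      ζ * σ ζ = 1 → rho B x y ζ ∈ S ⊓ SUg B) :
    ∃ α ∈ D p, ∃ β ∈ D q, B α α = 1 ∧ B β β = -1 ∧ α + β ∈ UU B M := by
  have hσ := hC.hσ
  have hB := hC.hB
  have hM : M ≤ uG B := hC.hMK.trans SUg_le_uG
  obtain ⟨a, ha, hua, haa⟩ := hPp
  obtain ⟨b, hb, hub, hbb⟩ := hPq
  obtain ⟨ζ, hζ, hζ2⟩ := Cfsg.Agent.Lib.Helper73_UD_ZETA.exists_norm_one_sq_ne hσ
  have hζ0 : ζ ≠ 0 := by
    rintro rfl
    rw [zero_mul] at hζ
    exact zero_ne_one hζ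
  have hζ1 : ζ ≠ 1 := by
    rintro rfl
    exact hζ2 (one_mul 1)
  have hσζ : σ ζ = ζ⁻¹ := by
    field_simp
    rw [mul_comm]
    exact hζ
  have hσζi : σ ζ⁻¹ = ζ := by
    rw [map_inv₀, hσζ, inv_inv]
  have hab : B a b = 0 := hC.horth p q hpq a ha b hb
  have hba : B b a = 0 := hC.horth q p (Ne.symm hpq) b hb a ha
  have ha1 : B a a ≠ 0 := by rw [haa]; exact one_ne_zero
  have hb1 : B b b ≠ 0 := by rw [hbb]; exact neg_ne_zero.mpr one_ne_zero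
  have hhM : rho B a b ζ ∈ M := hC.hHM (hBLK p q a ha b hb hab ha1 hb1 ζ hζ)
  -- the image of `u`
  have hhu : rho B a b ζ u = u + (ζ - 1) • a + (ζ⁻¹ - 1) • b := by
    rw [rho, LinearEquiv.mul_apply, qr_apply B b (inv_ne_zero hζ0), qr_apply B a hζ0, hbb, hub, haa]
    simp only [map_add, map_smul, LinearMap.add_apply, LinearMap.smul_apply, smul_eq_mul, hua, hba,
      mul_zero, add_zero]
    have e1 : (ζ⁻¹ - 1) * (-1 : F)⁻¹ * -1 = ζ⁻¹ - 1 := by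
      field_simp
    have e2 : (ζ - 1) * (1 : F)⁻¹ * 1 = ζ - 1 := by
      field_simp
    rw [e1, e2]
    abel
  have hhuU : rho B a b ζ u ∈ UU B M := UU_map hM hhM hu
  -- `B u (h u) ≠ 0`
  have hne : B u (rho B a b ζ u) ≠ 0 := by
    rw [hhu]
    simp only [map_add, map_smulₛₗ, smul_eq_mul, hu.1, hua, hub, map_sub, map_one, hσζ, hσζi]
    intro h
    apply hζ2
    have h1 : ζ⁻¹ - ζ = 0 := by linear_combination h
    have h2 : ζ⁻¹ = ζ := sub_eq_zero.mp h1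
    calc ζ * ζ = ζ * ζ⁻¹ := by rw [h2]
      _ = 1 := mul_inv_cancel₀ hζ0
  -- the difference is isotropic
  have hw : (-1 : F) • u + (1 : F) • rho B a b ζ u = (ζ - 1) • a + (ζ⁻¹ - 1) • b := by
    rw [hhu]
    simp only [neg_smul, one_smul]
    abel
  have hiso : B ((-1 : F) • u + (1 : F) • rho B a b ζ u)
      ((-1 : F) • u + (1 : F) • rho B a b ζ u) = 0 := by
    rw [hw]
    simp only [map_add, map_smul, map_smulₛₗ, LinearMap.add_apply, LinearMap.smul_apply,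
      smul_eq_mul, hab, hba, haa, hbb, map_sub, map_one, hσζ, hσζi, mul_zero, add_zero, zero_add]
    field_simp
    ring
  have hwU := UU_hyp hσ hB hM hu hhuU hne (-1) 1 hiso
  rw [hw] at hwU
  have hz : ζ - 1 ≠ 0 := sub_ne_zero.mpr hζ1
  have h3 := UU_smul hσ hwU (ζ - 1)⁻¹
  have h4 : (ζ - 1)⁻¹ • ((ζ - 1) • a + (ζ⁻¹ - 1) • b) = a + (-ζ⁻¹) • b := by
    rw [smul_add, smul_smul, smul_smul, inv_mul_cancel₀ hz, one_smul]
    congr 2
    field_simp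
    ring
  rw [h4] at h3
  refine ⟨a, ha, (-ζ⁻¹) • b, (D q).smul_mem _ hb, haa, ?_, h3⟩
  rw [self_smul, hbb, map_neg, hσζi]
  field_simp

/-- UD-P with the statement of UD-PROJ as a hypothesis (UD-BLK is the landed `Helper8_UD_BLK.BLK`). -/
theorem P_of
    (hPROJ : ∀ {U : Submodule F V}, NondegOn B U → 2 ≤ finrank F U → ∀ {u : V},
      (∃ z ∈ U, B u z ≠ 0) → ∀ {ν : F}, σ ν = ν → ν ≠ 0 → ∃ a ∈ U, B u a = ν ∧ B a a = ν)
    (hC : Ctx B k D S M) {u : V} (hu : u ∈ UU B M) {p q : Fin t} (hpq : p ≠ q)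
    (hp : ∃ z ∈ D p, B u z ≠ 0) (hq : ∃ z ∈ D q, B u z ≠ 0) :
    ∃ α ∈ D p, ∃ β ∈ D q, B α α = 1 ∧ B β β = -1 ∧ α + β ∈ UU B M := by
  have h2p : 2 ≤ finrank F (D p) := by rw [hC.hfr p]; exact hC.hk
  have h2q : 2 ≤ finrank F (D q) := by rw [hC.hfr q]; exact hC.hk
  have hPp := hPROJ (hC.hnd p) h2p hp (map_one σ) one_ne_zero
  have hPq := hPROJ (hC.hnd q) h2q hq (ν := -1) (by rw [map_neg, map_one])
    (neg_ne_zero.mpr one_ne_zero)
  exact P_aux hC hu hpq hPp hPq (Cfsg.Agent.Lib.Helper8_UD_BLK.BLK hC).2.1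

/-- **UD-P** (verbatim). -/
theorem P (hC : Ctx B k D S M) {u : V} (hu : u ∈ UU B M) {p q : Fin t} (hpq : p ≠ q)
    (hp : ∃ z ∈ D p, B u z ≠ 0) (hq : ∃ z ∈ D q, B u z ≠ 0) :
    ∃ α ∈ D p, ∃ β ∈ D q, B α α = 1 ∧ B β β = -1 ∧ α + β ∈ UU B M :=
  P_of (fun hU h2 _ hu _ hν hν0 =>
    Cfsg.Agent.Lib.Helper16_UD_PROJ.PROJ hC.hσ hC.hB hC.hN hU h2 hu hν hν0) hC hu hpq hp hq

end Cfsg.Agent.Lib.Helper95_UD_P
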