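import Mathlib
import Cfsg.Agent.Lib.Helper94_UDDefs
import Cfsg.Agent.Lib.Helper44_HermOrtho
import Cfsg.Agent.Lib.Helper8_UD_BLK

/-!
# S5655, market "UD" (architect helper94): package UD-Q3 (sums of two isotropic vectors)

`Q3_aux` takes the conclusions of UD-REP2 (for the two blocks) and UD-BLK (3) as hypotheses.
-/

set_option autoImplicit false
set_option linter.unusedSectionVars false
set_option linter.unusedVariables false

namespace Cfsg.Agent.Lib.Helper95_UD_Q3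

open Module Cfsg.Agent.Lib.Helper94_Symp Cfsg.Agent.Lib.Helper94_Herm
  Cfsg.Agent.Lib.Helper13_PSUSimple Cfsg.Agent.Lib.Helper27_UQDefs
  Cfsg.Agent.Lib.Helper94_FrmDefs Cfsg.Agent.Lib.Helper94_UDDefs

variable {F V : Type*} [Field F] [AddCommGroup V] [Module F V] [Finite F] [FiniteDimensional F V]
variable {σ : F →+* F} {B : V →ₗ[F] V →ₛₗ[σ] F}
variable {t k : ℕ} {D : Fin t → Submodule F V} {S M : Subgroup (V ≃ₗ[F] V)}

/-- UD-Q3 with the conclusions of UD-REP2 (in the blocks `D p`, `D q`) and UD-BLK (3) as hypotheses. -/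
theorem Q3_aux (hC : Ctx B k D S M) {p q : Fin t} (hpq : p ≠ q)
    (hA : ∀ α ∈ D p, ∀ β ∈ D q, B α α ≠ 0 → B α α + B β β = 0 → α + β ∈ UU B M)
    (hREPp : ∀ b ∈ D p, b ≠ 0 → B b b = 0 → ∀ ν : F, σ ν = ν → ∀ s : F,
      ∃ b1 ∈ D p, B b1 b1 = ν ∧ σ (B b1 b) = -(B b1 b) ∧ B b1 b ≠ s)
    (hREPq : ∀ b ∈ D q, b ≠ 0 → B b b = 0 → ∀ ν : F, σ ν = ν → ∀ s : F,
      ∃ b1 ∈ D q, B b1 b1 = ν ∧ σ (B b1 b) = -(B b1 b) ∧ B b1 b ≠ s)
    (hBLK : ∀ i, ∀ a ∈ D i, B a a = 0 → a ∈ UU B M) :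
    ∀ α ∈ D p, ∀ β ∈ D q, B α α = 0 → B β β = 0 → α + β ∈ UU B M := by
  have hσ := hC.hσ
  have hB := hC.hB
  have hM : M ≤ uG B := hC.hMK.trans SUg_le_uG
  intro α hα β hβ hαα hββ
  by_cases hα0 : α = 0
  · rw [hα0, zero_add]
    exact hBLK q β hβ hββ
  by_cases hβ0 : β = 0
  · rw [hβ0, add_zero]
    exact hBLK p α hα hαα
  obtain ⟨α1, hα1, hN1, hs1, -⟩ := hREPp α hα hα0 hαα 1 (map_one σ) 0
  obtain ⟨β1, hβ1, hN2, hs2, hne2⟩ := hREPq β hβ hβ0 hββ (-1) (by rw [map_neg, map_one])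
    (-(B α1 α))
  -- orthogonality between the blocks
  have o1 : ∀ x ∈ D p, ∀ y ∈ D q, B x y = 0 := fun x hx y hy => hC.horth p q hpq x hx y hy
  have o2 : ∀ y ∈ D q, ∀ x ∈ D p, B y x = 0 := fun y hy x hx =>
    hC.horth q p (Ne.symm hpq) y hy x hx
  have hαα1 : B α α1 = -(B α1 α) := by rw [hB α1 α, hs1]
  have hββ1 : B β β1 = -(B β1 β) := by rw [hB β1 β, hs2]
  -- the two summands
  have hw1 : α1 + β1 ∈ UU B M := by
    apply hA α1 hα1 β1 hβ1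
    · rw [hN1]; exact one_ne_zero
    · rw [hN1, hN2]; ring
  have hd1 : α - α1 ∈ D p := (D p).sub_mem hα hα1
  have hd2 : β - β1 ∈ D q := (D q).sub_mem hβ hβ1
  have hNd1 : B (α - α1) (α - α1) = 1 := by
    simp only [map_sub, LinearMap.sub_apply, hαα, hN1, hαα1]
    ring
  have hNd2 : B (β - β1) (β - β1) = -1 := by
    simp only [map_sub, LinearMap.sub_apply, hββ, hN2, hββ1]
    ring
  have hw2 : (α - α1) + (β - β1) ∈ UU B M := by
    apply hA (α - α1) hd1 (β - β1) hd2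
    · rw [hNd1]; exact one_ne_zero
    · rw [hNd1, hNd2]; ring
  have hne : B (α1 + β1) ((α - α1) + (β - β1)) ≠ 0 := by
    have e : B (α1 + β1) ((α - α1) + (β - β1)) = B α1 α + B β1 β := by
      simp only [map_add, map_sub, LinearMap.add_apply, LinearMap.sub_apply, hN1, hN2,
        o1 α1 hα1 β hβ, o1 α1 hα1 β1 hβ1, o2 β1 hβ1 α hα, o2 β1 hβ1 α1 hα1]
      ring
    rw [e]
    intro h
    apply hne2
    linear_combination h
  have hsum : (α1 + β1) + ((α - α1) + (β - β1)) = α + β := by abel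
  have hiso : B ((α1 + β1) + ((α - α1) + (β - β1))) ((α1 + β1) + ((α - α1) + (β - β1))) = 0 := by
    rw [hsum]
    simp only [map_add, LinearMap.add_apply, hαα, hββ, o1 α hα β hβ, o2 β hβ α hα, add_zero]
  have := UU_add hσ hB hM hw1 hw2 hne hiso
  rwa [hsum] at this

/-- UD-Q3 with the statement of UD-REP2 as a hypothesis (UD-BLK is the landed `Helper8_UD_BLK.BLK`). -/
theorem Q3_of
    (hREP2 : ∀ {U : Submodule F V}, NondegOn B U → ∀ (k : ℕ), finrank F U = k → 2 ≤ k →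
      (k = 2 → 4 < Nat.card F) → ∀ {b : V}, b ∈ U → b ≠ 0 → B b b = 0 → ∀ {ν : F}, σ ν = ν →
      ∀ s : F, ∃ b1 ∈ U, B b1 b1 = ν ∧ σ (B b1 b) = -(B b1 b) ∧ B b1 b ≠ s)
    (hC : Ctx B k D S M) {p q : Fin t} (hpq : p ≠ q)
    (hA : ∀ α ∈ D p, ∀ β ∈ D q, B α α ≠ 0 → B α α + B β β = 0 → α + β ∈ UU B M) :
    ∀ α ∈ D p, ∀ β ∈ D q, B α α = 0 → B β β = 0 → α + β ∈ UU B M :=
  Q3_aux hC hpq hA
    (fun b hb hb0 hbb ν hν s => hREP2 (hC.hnd p) k (hC.hfr p) hC.hk hC.hex hb hb0 hbb hν s)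
    (fun b hb hb0 hbb ν hν s => hREP2 (hC.hnd q) k (hC.hfr q) hC.hk hC.hex hb hb0 hbb hν s)
    (Cfsg.Agent.Lib.Helper8_UD_BLK.BLK hC).2.2

end Cfsg.Agent.Lib.Helper95_UD_Q3
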