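import Mathlib
import Cfsg.Agent.Lib.Helper94_UDDefs
import Cfsg.Agent.Lib.Helper38_UD_B34
import Cfsg.Agent.Lib.Helper38_UD_DIM
import Cfsg.Agent.Lib.Helper38_UD_STEP7
import Cfsg.Agent.Lib.Helper95_UD_P
import Cfsg.Agent.Lib.Helper95_UD_Q3
import Cfsg.Agent.Lib.Helper61_UD_Q2
import Cfsg.Agent.Lib.Helper16_UD_REP2
import Cfsg.Agent.Lib.Helper77_UD_SWAP
import Cfsg.Agent.Lib.Helper8_UD_RALL

set_option autoImplicit false

/-!
Maximality of the stabiliser of a decomposition into pairwise orthogonal nondegenerate subspaces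
of dimension `k ≥ 2` in the special unitary group (abstract form; S5655 for `k ≥ 2`): assembly of
the packages of the UD market.
-/

namespace Cfsg.Agent.Lib.Helper94_UDMain

open Module Cfsg.Agent.Lib.Helper94_Symp Cfsg.Agent.Lib.Helper94_Herm
  Cfsg.Agent.Lib.Helper13_PSUSimple Cfsg.Agent.Lib.Helper27_UQDefs
  Cfsg.Agent.Lib.Helper94_FrmDefs Cfsg.Agent.Lib.Helper94_UDDefs

variable {F V : Type*} [Field F] [AddCommGroup V] [Module F V] [Finite F] [FiniteDimensional F V]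
variable {σ : F →+* F} {B : V →ₗ[F] V →ₛₗ[σ] F}
variable {t k : ℕ} {D : Fin t → Submodule F V} {S M : Subgroup (V ≃ₗ[F] V)}

theorem RR_of_UU (hC : Ctx B k D S M) {u : V} (hu : u ∈ UU B M) {p q : Fin t} (hpq : p ≠ q)
    (hp : ∃ z ∈ D p, B u z ≠ 0) (hq : ∃ z ∈ D q, B u z ≠ 0) : RR B D M p q := by
  obtain ⟨α0, hα0, β0, hβ0, h1, h2, hw⟩ := Cfsg.Agent.Lib.Helper95_UD_P.P hC hu hpq hp hq
  have hA := Cfsg.Agent.Lib.Helper61_UD_Q2.Q2 hC hpq hα0 hβ0 h1 h2 hw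
  have hI := Cfsg.Agent.Lib.Helper95_UD_Q3.Q3_of
    (fun hU k hk h2 hex _ hb hb0 hbb _ hv s =>
      Cfsg.Agent.Lib.Helper16_UD_REP2.REP2 hC.hσ hC.hB hU k hk h2 hex hb hb0 hbb hv s) hC hpq hA
  intro a ha b hb hab
  have hsum : B (a + b) (a + b) = B a a + B b b := by
    have e1 : B a b = 0 := hC.horth p q hpq a ha b hb
    have e2 : B b a = 0 := hC.horth q p (Ne.symm hpq) b hb a ha
    simp only [map_add, LinearMap.add_apply, e1, e2, add_zero, zero_add]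
  rw [hsum] at hab
  by_cases hNa : B a a = 0
  · have hNb : B b b = 0 := by rw [hNa, zero_add] at hab; exact hab
    exact hI a ha b hb hNa hNb
  · exact hA a ha b hb hNa hab

/-- A subgroup between the stabiliser of the decomposition and the special unitary group is one of
the two. -/
theorem main (hC : Ctx B k D S M) : M = S ⊓ SUg B ∨ M = SUg B := by
  by_cases hMS : M ≤ S
  · left
    exact le_antisymm (fun g hg => ⟨hMS hg, hC.hMK hg⟩) hC.hHM
  · right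
    apply le_antisymm hC.hMK
    obtain ⟨u, hu, p, q, hpq, hp, hq⟩ := Cfsg.Agent.Lib.Helper38_UD_B34.B34 hC hMS
    have hR := Cfsg.Agent.Lib.Helper8_UD_RALL.RALL_of_swap hC
      (fun p r hpr => Cfsg.Agent.Lib.Helper77_UD_SWAP.SWAP hC hpr) hpq
      (RR_of_UU hC hu hpq hp hq)
    have h4 : 4 ≤ finrank F V := Cfsg.Agent.Lib.Helper38_UD_DIM.DIM hC
    exact SUg_le_of_UU hC.hσ hC.hB hC.hN h4 (Cfsg.Agent.Lib.Helper38_UD_STEP7.STEP7 hC hR)

/-- The same statement with unbundled hypotheses. -/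
theorem maximal_udstab (hσ : Invol σ) (hB : IsHerm B) (hN : NondegOn B ⊤) (ht : 2 ≤ t)
    (hk : 2 ≤ k) (hfr : ∀ i, finrank F (D i) = k) (hsup : iSup D = ⊤)
    (hnd : ∀ i, NondegOn B (D i)) (horth : ∀ i j, i ≠ j → ∀ u ∈ D i, ∀ v ∈ D j, B u v = 0)
    (hex : k = 2 → 4 < Nat.card F)
    (hS : ∀ g, g ∈ S ↔ ∃ π : Equiv.Perm (Fin t), ∀ i, (D i).map (g : V →ₗ[F] V) = D (π i)) :
    ∀ M : Subgroup (V ≃ₗ[F] V), S ⊓ SUg B ≤ M → M ≤ SUg B → M = S ⊓ SUg B ∨ M = SUg B :=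
  fun _ hHM hMK => main
    { hσ := hσ, hB := hB, hN := hN, ht := ht, hk := hk, hfr := hfr, hsup := hsup, hnd := hnd,
      horth := horth, hex := hex, hS := hS, hHM := hHM, hMK := hMK }

end Cfsg.Agent.Lib.Helper94_UDMain
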