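import Mathlib
import Cfsg.Agent.Lib.Helper83_FrCDefs
import Cfsg.Agent.Lib.Helper83_FrCTop
import Cfsg.Agent.Lib.Helper83_FrCAsm
import Cfsg.Agent.Lib.Helper94_FrmMain
import Cfsg.Agent.Lib.Helper94_UDMain

set_option autoImplicit false
set_option linter.unusedVariables false
set_option linter.unusedSectionVars false

/-!
S5655: the abstract theorem (all block dimensions) from case (A), case (C) and the theorem for
blocks of dimension at least two.
-/

namespace Cfsg.Agent.Lib.Helper83_FrCMain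

open Module Cfsg.Agent.Lib.Helper94_Herm Cfsg.Agent.Lib.Helper13_PSUSimple
  Cfsg.Agent.Lib.Helper94_FrmDefs Cfsg.Agent.Lib.Helper94_FrmDefs2 Cfsg.Agent.Lib.Helper94_UDDefs
  Cfsg.Agent.Lib.Helper83_FrCDefs Cfsg.Agent.Lib.Helper83_FrCTop Cfsg.Agent.Lib.Helper83_FrCAsm
  Cfsg.Agent.Lib.Helper94_FrmMain

variable {F V : Type*} [Field F] [AddCommGroup V] [Module F V]
variable {σ : F →+* F} {B : V →ₗ[F] V →ₛₗ[σ] F}

/-- `RootGU` from the theorem on overgroups of the full monomial group. -/
theorem rootGU_of_frames [Fintype F] (hσ : Invol σ) (q : ℕ) (hcard : Fintype.card F = q ^ 2)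
    (κ : Type*) [Fintype κ] [DecidableEq κ] (h4 : 4 ≤ Fintype.card κ)
    (K : Subgroup ((κ → F) ≃ₗ[F] (κ → F))) : RootGU (stdB σ κ) (stdE F κ) K := by
  intro hKU hmono ⟨k, hkK, hkn⟩
  have hC : FCtx (stdB σ κ) (stdE F κ) K :=
    { hσ := hσ
      hB := Cfsg.Agent.Lib.Helper26_FrC_PK15A.stdB_isHerm hσ κ
      he := Cfsg.Agent.Lib.Helper26_FrC_PK15A.stdFrame σ κ
      hML := fun g hg => hmono g hg.1 hg.2
      hLU := hKU }
  have hF : Nat.card F = q ^ 2 := by rw [Nat.card_eq_fintype_card, hcard]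
  have hne : ¬ K ≤ Mono (stdB σ κ) (stdE F κ) := fun hle => hkn (hle hkK).2
  have hall := GUFRAMES hC hF h4 hne
  -- two distinct indices
  have h2 : 1 < Fintype.card κ := by omega
  obtain ⟨c, c', hcc'⟩ := Fintype.exists_pair_of_one_lt_card h2
  have hm1 : σ (-1 : F) = -1 := by rw [map_neg, map_one]
  obtain ⟨l, hl⟩ := norm_surj hσ (-1 : F) hm1
  have he := Cfsg.Agent.Lib.Helper26_FrC_PK15A.stdFrame σ κ
  have hnorm : stdB σ κ ((1 : F) • stdE F κ c + l • stdE F κ c')
      ((1 : F) • stdE F κ c + l • stdE F κ c') = 0 := by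
    have e1 : stdB σ κ (stdE F κ c) (stdE F κ c) = 1 := by rw [fr_apply_eq he]; simp
    have e2 : stdB σ κ (stdE F κ c') (stdE F κ c') = 1 := by rw [fr_apply_eq he]; simp
    have e3 : stdB σ κ (stdE F κ c) (stdE F κ c') = 0 := by rw [fr_apply_eq he]; simp [hcc']
    have e4 : stdB σ κ (stdE F κ c') (stdE F κ c) = 0 := by
      rw [fr_apply_eq he]; simp [hcc'.symm]
    simp only [map_add, map_smul, map_smulₛₗ, LinearMap.add_apply, LinearMap.smul_apply,
      smul_eq_mul, e1, e2, e3, e4, map_one]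
    linear_combination hl
  refine ⟨c, c', hcc', 1, l, ?_, hnorm, ?_⟩
  · intro h0
    have := congrArg (fun x => stdB σ κ x (stdE F κ c)) h0
    simp only [map_add, map_smul, LinearMap.add_apply, LinearMap.smul_apply, smul_eq_mul,
      fr_apply_eq he, if_true, if_neg hcc'.symm, mul_zero, add_zero, mul_one, map_zero,
      LinearMap.zero_apply] at this
    exact one_ne_zero this
  · intro t ht
    exact (hall _ hnorm).2 t ht


lemma card_idx' {ι : Type*} [Fintype ι] [DecidableEq ι] (a b : ι) :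
    Fintype.card ι ≤ Fintype.card (Idx' a b) + 2 := by
  classical
  rw [Fintype.card_subtype]
  have h1 := Finset.card_filter_add_card_filter_not (s := (Finset.univ : Finset ι))
    (fun r => r ≠ a ∧ r ≠ b)
  have h2 : (Finset.univ.filter (fun r : ι => ¬ (r ≠ a ∧ r ≠ b))).card ≤ 2 := by
    have hsub : Finset.univ.filter (fun r : ι => ¬ (r ≠ a ∧ r ≠ b)) ⊆ {a, b} := by
      intro r hr
      rw [Finset.mem_filter] at hr
      have := hr.2
      rw [Finset.mem_insert, Finset.mem_singleton]
      by_contra hcon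
      push Not at hcon
      exact this hcon
    exact (Finset.card_le_card hsub).trans Finset.card_le_two
  rw [Finset.card_univ] at h1
  omega

/-- blocks of dimension one: the frame stabiliser is maximal among the subgroups of `SUg B`. -/
theorem frames_maximal [Fintype F] [FiniteDimensional F V] {ι : Type*} [Fintype ι] [DecidableEq ι]
    {e : ι → V} (hσ : Invol σ) (hB : IsHerm B) (he : OFrame B e) (q : ℕ)
    (hq : ∀ x : F, σ x = x ^ q) (hcard : Fintype.card F = q ^ 2) (h13 : 13 ≤ Fintype.card ι)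
    (M : Subgroup (V ≃ₗ[F] V)) (hHM : frH B e ≤ M) (hMS : M ≤ SUg B) :
    M = frH B e ∨ M = SUg B := by
  by_cases hA : ∃ k, ∃ g ∈ M, (∃ c : F, g (e k) = c • e k) ∧ g ∉ Mono B e
  · right
    obtain ⟨k, g, hgM, ⟨c, hc⟩, hgn⟩ := hA
    have hc0 : c ≠ 0 := by
      rintro rfl
      rw [zero_smul] at hc
      have h2 : g (e k) = g 0 := by rw [hc, map_zero]
      exact fr_ne_zero he k (g.injective h2)
    have hF : Nat.card F = q ^ 2 := by rw [Nat.card_eq_fintype_card, hcard]
    exact CASEA hσ hB he hF (by omega) hHM hMS k hgM hc0 hc hgn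
  · left
    push Not at hA
    have hC : CaseC B e M := fun k g hg hfix => hA k g hg hfix
    have hle : M ≤ Mono B e := by
      apply frames_caseC hσ hB he q hq hcard h13 ?_ M hHM hMS hC
      intro a b K
      apply rootGU_of_frames hσ q hcard
      have := card_idx' a b
      omega
    exact le_antisymm (fun g hg => mem_frH.mpr ⟨hle hg, hMS hg⟩) hHM


/-- S5655 in abstract form: all block dimensions. -/
theorem maximal_udstab_all [Fintype F] [FiniteDimensional F V] (hσ : Invol σ) (hB : IsHerm B)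
    (hN : NondegOn B ⊤) (q : ℕ) (hq : ∀ x : F, σ x = x ^ q) (hcard : Fintype.card F = q ^ 2)
    (h13 : 13 ≤ finrank F V) {t : ℕ} (k : ℕ) (D : Fin t → Submodule F V) (ht : 2 ≤ t)
    (hk : 0 < k) (hfr : ∀ i, finrank F (D i) = k) (hsup : iSup D = ⊤)
    (hnd : ∀ i, NondegOn B (D i))
    (horth : ∀ i j, i ≠ j → ∀ u ∈ D i, ∀ v ∈ D j, B u v = 0) (hex : ¬ (k = 2 ∧ q = 2))
    (S : Subgroup (V ≃ₗ[F] V))
    (hS : ∀ g, g ∈ S ↔ ∃ π : Equiv.Perm (Fin t), ∀ i, (D i).map (g : V →ₗ[F] V) = D (π i)) :
    (S ⊓ SUg B < SUg B) ∧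
      ∀ M : Subgroup (V ≃ₗ[F] V), S ⊓ SUg B ≤ M → M ≤ SUg B → M = S ⊓ SUg B ∨ M = SUg B := by
  have hq2 : 2 ≤ q := by
    have h1 : 1 < Fintype.card F := Fintype.one_lt_card
    rw [hcard] at h1
    by_contra hlt
    push Not at hlt
    interval_cases q <;> simp at h1
  by_cases hk1 : k = 1
  · subst hk1
    obtain ⟨e, he, heD⟩ := frame_of_decomp hσ hB D hfr hsup hnd horth
    have hcardt : Fintype.card (Fin t) = finrank F V := (fr_finrank_eq he).symm
    have ht13 : 13 ≤ t := by
      rw [Fintype.card_fin] at hcardt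
      omega
    have hSH : S ⊓ SUg B = frH B e := by
      ext g
      rw [Subgroup.mem_inf, mem_frH]
      constructor
      · rintro ⟨h1, h2⟩
        exact ⟨(stab_iff_mono D e he heD S hS g (mem_SUg.mp h2).1).mp h1, h2⟩
      · rintro ⟨h1, h2⟩
        exact ⟨(stab_iff_mono D e he heD S hS g (mem_SUg.mp h2).1).mpr h1, h2⟩
    rw [hSH]
    refine ⟨lt_of_le_of_ne frH_le_SUg ?_, ?_⟩
    · intro heq
      obtain ⟨g, hg, hgn⟩ := exists_not_mono hσ hB he (⟨0, by omega⟩ : Fin t) ⟨1, by omega⟩
        ⟨2, by omega⟩ ⟨3, by omega⟩ (by simp [Fin.ext_iff]) (by simp [Fin.ext_iff])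
        (by simp [Fin.ext_iff]) (by simp [Fin.ext_iff]) (by simp [Fin.ext_iff])
        (by simp [Fin.ext_iff])
      rw [← heq] at hg
      exact hgn (mem_frH.mp hg).1
    · intro M hHM hMS
      exact frames_maximal hσ hB he q hq hcard (by rw [Fintype.card_fin]; exact ht13) M hHM hMS
  · have hk2 : 2 ≤ k := by omega
    refine ⟨lt_of_le_of_ne inf_le_right ?_, ?_⟩
    · intro heq
      obtain ⟨g, hg, hgn⟩ := exists_not_stab hσ hB D ht hk2 hfr hnd horth S hS
      rw [← heq] at hg
      exact hgn hg.1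
    · intro M hHM hMS
      have hC : Ctx B k D S M :=
        { hσ := hσ
          hB := hB
          hN := hN
          ht := ht
          hk := hk2
          hfr := hfr
          hsup := hsup
          hnd := hnd
          horth := horth
          hex := by
            intro hk2'
            have hq3 : 3 ≤ q := by
              by_contra hlt
              exact hex ⟨hk2', by omega⟩
            rw [Nat.card_eq_fintype_card, hcard]
            nlinarith
          hS := hS
          hHM := hHM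
          hMK := hMS }
      exact Cfsg.Agent.Lib.Helper94_UDMain.main hC

end Cfsg.Agent.Lib.Helper83_FrCMain
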