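import Mathlib
import Cfsg.Agent.Lib.Helper83_FrCMain
import Cfsg.Agent.Lib.Helper59_UFrRank

set_option autoImplicit false
set_option linter.unusedVariables false
set_option linter.unusedSectionVars false
set_option linter.unusedSimpArgs false
set_option linter.style.haveILetI false
set_option linter.deprecated false

/-!
helper59: the unitary frames theorem (S5655, blocks of dimension one) for `9 ≤ n` instead of
`13 ≤ n`: `GU_1(q) wr S_n` is maximal in `SU_n(q)`, all `q`, `n ≥ 9`.  Needed by the rows
`cmax5_su10` (S5840) and `cmax5_su12` (S5864).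

helper94's case (A) needs `5 ≤ n` only.  In helper83's case (C) the bound `13 ≤ n` enters in
three packages, re-proved here with the sharp rank lemma `Helper59_UFrRank.rankLemma2`:
* `p22'` (paper (2.2)), `9 ≤ n`: a monomial map with `rank (m - 1) ≤ 4` moves `≤ 8` indices;
* `caseC_even'` (paper (E9)), `8 ≤ n`: `rank (z - 1) ≤ 3`, at most `6` moved indices;
* `caseC_odd'` (paper (2.6)), `9 ≤ n`: the monomial involution `m` with `rank (m - 1) ≤ 6` has a
  fixed point: if not, `n = 2 k ≤ 12`, `det m = (-1)^k` forces `k = 6`, and then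
  `range (m - 1) = g⁻¹ U ∋ e_j` (`j ∈ S4`), so `m e_j = - e_j`.
-/

namespace Cfsg.Agent.Lib.Helper59_UFr9

open Module Cfsg.Agent.Lib.Helper94_Herm Cfsg.Agent.Lib.Helper13_PSUSimple
  Cfsg.Agent.Lib.Helper94_FrmDefs Cfsg.Agent.Lib.Helper83_FrCDefs
  Cfsg.Agent.Lib.Helper59_UFrRank

variable {F V ι : Type*} [Field F] [AddCommGroup V] [Module F V] [Fintype ι] [DecidableEq ι]
variable {σ : F →+* F} {B : V →ₗ[F] V →ₛₗ[σ] F} {e : ι → V}

section P22

open Cfsg.Agent.Lib.Helper73_FrC_Common

/-- paper (2.2) for `9 ≤ n`. -/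
theorem p22' (hσ : Invol σ) (hB : IsHerm B) (hfr : OFrame B e) (hdet : HasDet F e)
    (hrank : RankLemma2 F e) (h9 : 9 ≤ Fintype.card ι) (M : Subgroup (V ≃ₗ[F] V))
    (hMU : M ≤ uG B) (h21 : P21 B e M) : P22 B e M := by
  intro s hs hdiag hs1 S hS hSfix g hg hconj
  by_contra hgM
  classical
  haveI := fr_finiteDimensional hfr
  choose c hc using hdiag
  -- the diagonal entries outside `S` are one
  have hcS : ∀ i, i ∉ S → c i = 1 := by
    intro i hi
    have h1 := hSfix i hi
    rw [hc i] at h1
    have h2 : (c i - 1) • e i = 0 := by rw [sub_smul, one_smul, h1, sub_self]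
    rcases smul_eq_zero.mp h2 with h | h
    · exact sub_eq_zero.mp h
    · exact absurd h (fr_ne_zero hfr i)
  -- the determinant
  have hprod : ∏ i, c i = 1 := by
    have h1 := hdet s 1 c (fun i => by rw [hc i]; rfl)
    have h2 : LinearEquiv.det s = 1 := (mem_SUg.mp (frH_le_SUg hs)).2
    rw [h2] at h1
    simpa using h1.symm
  -- two entries different from one
  obtain ⟨a, ha⟩ : ∃ a, c a ≠ 1 := by
    by_contra hall
    push Not at hall
    exact hs1 (eq_one_of_frame hfr s (fun i => by rw [hc i, hall i, one_smul]))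
  obtain ⟨b, hba, hb⟩ : ∃ b, b ≠ a ∧ c b ≠ 1 := by
    by_contra hall
    push Not at hall
    have h1 : ∏ i, c i = c a :=
      Finset.prod_eq_single a (fun b _ hb => hall b hb) (fun h => absurd (Finset.mem_univ a) h)
    exact ha (h1.symm.trans hprod)
  -- the range of `s - 1`
  set U0 : Submodule F V := Submodule.span F ((S.image e : Finset V) : Set V) with hU0def
  have hU0 : finrank F U0 ≤ 4 :=
    (finrank_span_finset_le_card _).trans (Finset.card_image_le.trans hS)
  have hsy : ∀ y, s y - y ∈ U0 := by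
    intro y
    have h1 : s y - y = ∑ r, ((c r - 1) * B y (e r)) • e r := by
      apply fr_ext_coord hfr
      intro r
      rw [map_sub, LinearMap.sub_apply, diag_coord hfr s c hc, fr_coord_sum hfr]
      ring
    rw [h1]
    apply Submodule.sum_mem
    intro r _
    by_cases hr : r ∈ S
    · apply Submodule.smul_mem
      apply Submodule.subset_span
      rw [Finset.mem_coe, Finset.mem_image]
      exact ⟨r, hr, rfl⟩
    · rw [hcS r hr, sub_self, zero_mul, zero_smul]
      exact Submodule.zero_mem _
  set U : Submodule F V := U0.map ((g⁻¹ : V ≃ₗ[F] V) : V →ₗ[F] V) with hUdef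
  have hU : finrank F U ≤ 4 := (Submodule.finrank_map_le _ _).trans hU0
  have hmx : ∀ x, (g⁻¹ * s * g) x - (1 : F) • x ∈ U := by
    intro x
    rw [one_smul]
    refine ⟨s (g x) - g x, hsy _, ?_⟩
    rw [LinearEquiv.coe_coe, map_sub, LinearEquiv.mul_apply, LinearEquiv.mul_apply,
      Cfsg.Agent.Lib.Helper94_Symp.inv_apply_apply']
  have hcnt := hrank (g⁻¹ * s * g) ((mem_Mono_iff B e).mp hconj).2 1 one_ne_zero U hmx 4 hU
  -- a fixed frame vector of the conjugate
  obtain ⟨i, hi⟩ : ∃ i, (g⁻¹ * s * g) (e i) = (1 : F) • e i := by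
    by_contra hne
    push Not at hne
    have h1 : {i | (g⁻¹ * s * g) (e i) ≠ (1 : F) • e i} = Set.univ := Set.eq_univ_of_forall hne
    rw [h1, Set.ncard_univ, Nat.card_eq_fintype_card] at hcnt
    omega
  have hfix : s (g (e i)) = g (e i) := by
    rw [one_smul, LinearEquiv.mul_apply, LinearEquiv.mul_apply] at hi
    have h1 := congrArg g hi
    rwa [Cfsg.Agent.Lib.Helper94_Symp.apply_inv_apply'] at h1
  -- the two zero coordinates
  have hzero : ∀ r, c r ≠ 1 → B (g (e i)) (e r) = 0 := by
    intro r hr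
    have h1 := diag_coord hfr s c hc (g (e i)) r
    rw [hfix] at h1
    have h2 : (c r - 1) * B (g (e i)) (e r) = 0 := by linear_combination -h1
    rcases mul_eq_zero.mp h2 with h | h
    · exact absurd (sub_eq_zero.mp h) hr
    · exact h
  exact h21 g hg hgM i a b (Ne.symm hba) (hzero a ha) (hzero b hb)

end P22

/-- the sign of a fixed-point-free involution -/
theorem sign_fpf_invol {ι : Type*} [Fintype ι] [DecidableEq ι] [Nonempty ι] (π : Equiv.Perm ι)
    (hππ : ∀ i, π (π i) = i) (hfix : ∀ i, π i ≠ i) :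
    ∃ k, Fintype.card ι = 2 * k ∧ Equiv.Perm.sign π = (-1) ^ k := by
  have hne1 : π ≠ 1 := by
    intro h
    obtain ⟨i⟩ := ‹Nonempty ι›
    exact hfix i (by rw [h]; rfl)
  have hsq : π ^ 2 = 1 := by
    ext i
    rw [pow_two, Equiv.Perm.mul_apply, hππ]
    rfl
  have hord : orderOf π = 2 := orderOf_eq_prime hsq hne1
  have hp : (orderOf π).Prime := by rw [hord]; exact Nat.prime_two
  obtain ⟨n, hn⟩ := Equiv.Perm.cycleType_prime_order hp
  rw [hord] at hn
  have hsupp : π.support = Finset.univ := by
    ext i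
    simp [hfix i]
  have hsum := Equiv.Perm.sum_cycleType π
  rw [hn, hsupp, Finset.card_univ, Multiset.sum_replicate, smul_eq_mul] at hsum
  refine ⟨n + 1, by omega, ?_⟩
  rw [Equiv.Perm.sign_of_cycleType, hn, Multiset.sum_replicate, Multiset.card_replicate,
    smul_eq_mul]
  have : (n + 1) * 2 + (n + 1) = 2 * (n + 1) + (n + 1) := by ring
  rw [this, pow_add, pow_mul]
  simp

section Odd

open Cfsg.Agent.Lib.Helper8_FrC_PK13 Cfsg.Agent.Lib.Helper2_FrC_PK11
  Cfsg.Agent.Lib.Helper2_FrC_PK14

/-- paper (2.6) for `9 ≤ n`. -/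
theorem caseC_odd' [Finite F] (hσ : Invol σ) (hB : IsHerm B) (hfr : OFrame B e)
    (hmono : HasMono B e) (hdet : HasDet F e) (hrinv : RankLemmaInvol F e) (h2 : (2 : F) ≠ 0)
    (h9 : 9 ≤ Fintype.card ι) (M : Subgroup (V ≃ₗ[F] V)) (hHM : frH B e ≤ M)
    (hMS : M ≤ SUg B) (h22 : P22 B e M) (h23 : P23 B e M) (h25 : P25 B e M) :
    M ≤ Mono B e := by
  classical
  haveI : FiniteDimensional F V := fr_finiteDimensional hfr
  haveI : Finite V := Module.finite_of_finite F
  haveI : Finite (V ≃ₗ[F] V) :=
    Finite.of_injective (fun g : V ≃ₗ[F] V => (g : V → V)) DFunLike.coe_injective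
  have hMU : M ≤ uG B := fun g hg => (mem_SUg.1 (hMS hg)).1
  intro g hg
  by_contra hgn
  have hginv : ∀ y, (g⁻¹ : V ≃ₗ[F] V) (g y) = y := fun y => g.symm_apply_apply y
  have hgg : ∀ y, g ((g⁻¹ : V ≃ₗ[F] V) y) = y := fun y => g.apply_symm_apply y
  -- the two sign elements
  obtain ⟨S4, -, hS4⟩ := Finset.exists_subset_card_eq (s := (Finset.univ : Finset ι)) (n := 4)
    (by rw [Finset.card_univ]; omega)
  obtain ⟨S2, hS24, hS2⟩ := Finset.exists_subset_card_eq (s := S4) (n := 2) (by omega)
  obtain ⟨t2, ht2H, ht2⟩ := exists_sign_diag hmono S2 (by rw [hS2]; decide)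
  obtain ⟨t4, ht4H, ht4⟩ := exists_sign_diag hmono S4 (by rw [hS4]; decide)
  have ht2sq : t2 * t2 = 1 := sign_sq hfr ht2
  have ht4sq : t4 * t4 = 1 := sign_sq hfr ht4
  have hS2ne : S2.Nonempty := Finset.card_pos.mp (by omega)
  have hS4ne : S4.Nonempty := Finset.card_pos.mp (by omega)
  have ht2ne : t2 ≠ 1 := sign_ne_one hfr ht2 h2 hS2ne
  have ht4ne : t4 ≠ 1 := sign_ne_one hfr ht4 h2 hS4ne
  set u : V ≃ₗ[F] V := g * t4 * g⁻¹ with hu
  have husq : u * u = 1 := by
    calc u * u = g * (t4 * t4) * g⁻¹ := by rw [hu]; group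
      _ = 1 := by rw [ht4sq]; group
  have huM : u ∈ M := M.mul_mem (M.mul_mem hg (hHM ht4H)) (M.inv_mem hg)
  have ht2M : t2 ∈ M := hHM ht2H
  -- the ranges
  set U : Submodule F V := US F e S2 ⊔ (US F e S4).map (g : V →ₗ[F] V) with hU
  have hUdim : finrank F ↥U ≤ 6 := by
    have h1 := Submodule.finrank_add_le_finrank_add_finrank (US F e S2)
      ((US F e S4).map (g : V →ₗ[F] V))
    have h3 : finrank F ↥((US F e S4).map (g : V →ₗ[F] V)) = finrank F ↥(US F e S4) :=
      LinearEquiv.finrank_map_eq g (US F e S4)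
    have h4 := finrank_US_le (F := F) (e := e) S2
    have h5 := finrank_US_le (F := F) (e := e) S4
    rw [hU]
    omega
  have hat2 : ∀ x, t2 x - x ∈ U := fun x =>
    Submodule.mem_sup_left (sign_range hfr ht2 x)
  have hau : ∀ x, u x - x ∈ U := by
    intro x
    apply Submodule.mem_sup_right
    rw [Submodule.mem_map]
    refine ⟨t4 ((g⁻¹ : V ≃ₗ[F] V) x) - (g⁻¹ : V ≃ₗ[F] V) x, sign_range hfr ht4 _, ?_⟩
    rw [LinearEquiv.coe_coe, map_sub, hgg]
    rfl
  -- `t2` and `u` are not conjugate
  have hnc : ¬ ∃ k : V ≃ₗ[F] V, u = k * t2 * k⁻¹ := by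
    rintro ⟨k, hk⟩
    have h1 := finrank_range_conj t2 k
    rw [← hk] at h1
    have h3 := finrank_range_conj t4 g
    rw [← hu] at h3
    have h4 : 4 ≤ finrank F ↥(LinearMap.range ((t4 : V →ₗ[F] V) - LinearMap.id)) := by
      rw [← hS4]
      exact card_le_finrank hfr _ S4 (fun r hr => sign_mem_range hfr ht4 h2 r hr)
    have h5 : finrank F ↥(LinearMap.range ((t2 : V →ₗ[F] V) - LinearMap.id)) ≤ 2 := by
      have hle : LinearMap.range ((t2 : V →ₗ[F] V) - LinearMap.id) ≤ US F e S2 := by
        rintro _ ⟨y, rfl⟩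
        exact sign_range hfr ht2 y
      have := Submodule.finrank_mono hle
      have h6 := finrank_US_le (F := F) (e := e) S2
      omega
    omega
  -- the dihedral lemma
  rcases dihedral_lemma t2 u ht2sq husq (isOfFinOrder_of_finite _) with hconj | ⟨z, hzcl, hz1, hzsq, hza, hzb⟩
  · exact hnc hconj
  have hzM : z ∈ M := by
    have hle : Subgroup.closure {t2, u} ≤ M := by
      rw [Subgroup.closure_le]
      rintro x (rfl | rfl)
      · exact ht2M
      · exact huM
    exact hle hzcl
  have hzU : ∀ x, z x - x ∈ U := closure_range t2 u U hat2 hau z hzcl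
  -- `z` is monomial
  have hzMono : z ∈ Mono B e := by
    refine h22 t2 ht2H (sign_diag ht2) ht2ne S2 (by omega) (sign_fix ht2) z hzM ?_
    have : z⁻¹ * t2 * z = t2 := by
      calc z⁻¹ * t2 * z = z⁻¹ * (t2 * z) := by group
        _ = z⁻¹ * (z * t2) := by rw [hza]
        _ = t2 := by group
    rw [this]
    exact frH_le_Mono ht2H
  -- `m = g⁻¹ z g` is monomial
  set m : V ≃ₗ[F] V := g⁻¹ * z * g with hm
  have hmM : m ∈ M := M.mul_mem (M.mul_mem (M.inv_mem hg) hzM) hg
  have hmt4 : m * t4 = t4 * m := by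
    calc m * t4 = g⁻¹ * (z * (g * t4 * g⁻¹)) * g := by rw [hm]; group
      _ = g⁻¹ * ((g * t4 * g⁻¹) * z) * g := by rw [← hu, hzb]
      _ = t4 * m := by rw [hm]; group
  have hmMono : m ∈ Mono B e := by
    refine h22 t4 ht4H (sign_diag ht4) ht4ne S4 (by omega) (sign_fix ht4) m hmM ?_
    have : m⁻¹ * t4 * m = t4 := by
      calc m⁻¹ * t4 * m = m⁻¹ * (t4 * m) := by group
        _ = m⁻¹ * (m * t4) := by rw [hmt4]
        _ = t4 := by group
    rw [this]
    exact frH_le_Mono ht4H
  have hmsq : m * m = 1 := by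
    calc m * m = g⁻¹ * (z * z) * g := by rw [hm]; group
      _ = 1 := by rw [hzsq]; group
  have hmmx : ∀ x, m (m x) = x := by
    intro x
    have := congrArg (fun f : V ≃ₗ[F] V => f x) hmsq
    exact this
  -- a fixed point of the permutation of `m`
  have hmU : ∀ x, m x - x ∈ U.map ((g⁻¹ : V ≃ₗ[F] V) : V →ₗ[F] V) := by
    intro x
    have := conj_sub_mem_map g z 1 U (fun y => by rw [one_smul]; exact hzU y) x
    rwa [one_smul] at this
  have hU'dim : finrank F ↥(U.map ((g⁻¹ : V ≃ₗ[F] V) : V →ₗ[F] V)) ≤ 6 := by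
    rw [finrank_map_inv]; exact hUdim
  have hcount := hrinv m ((mem_Mono_iff B e).1 hmMono).2 hmsq _ hmU 6 hU'dim
  obtain ⟨i, c, hmi⟩ : ∃ i, ∃ c : F, m (e i) = c • e i := by
    by_contra hcon
    push Not at hcon
    have huniv : {i | ∀ c : F, m (e i) ≠ c • e i} = Set.univ := by
      ext j
      simp only [Set.mem_setOf_eq, Set.mem_univ, iff_true]
      exact hcon j
    rw [huniv, Set.ncard_univ, Nat.card_eq_fintype_card] at hcount
    -- the permutation of `m`
    obtain ⟨-, πm, hπm⟩ := hmMono
    choose wm hwm0 hmw using hπm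
    have hπfix : ∀ i, πm i ≠ i := fun i h => hcon i (wm i) (by rw [hmw, h])
    have hππm : ∀ r, πm (πm r) = r := by
      intro r
      have h1 := hmmx (e r)
      rw [hmw, map_smul, hmw, smul_smul] at h1
      by_contra hne
      have h3 := congrArg (fun y => B y (e r)) h1
      simp only [map_smul, LinearMap.smul_apply, hfr.orth _ _ hne, hfr.unit, smul_zero] at h3
      exact zero_ne_one h3
    have hwwm : ∀ r, wm r * wm (πm r) = 1 := by
      intro r
      have h1 := hmmx (e r)
      rw [hmw, map_smul, hmw, smul_smul, hππm] at h1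
      have h3 : (wm r * wm (πm r) - 1) • e r = 0 := by rw [sub_smul, h1, one_smul, sub_self]
      rcases smul_eq_zero.mp h3 with h4 | h4
      · exact sub_eq_zero.mp h4
      · exact absurd h4 (fr_ne_zero hfr r)
    have hprod : ∏ r, wm r = 1 :=
      Finset.prod_involution (fun r _ => πm r) (fun r _ => hwwm r) (fun r _ _ => hπfix r)
        (fun r _ => Finset.mem_univ _) (fun r _ => hππm r)
    have hdm := hdet m πm wm hmw
    have hdet1 : LinearEquiv.det m = 1 := (mem_SUg.1 (hMS hmM)).2
    haveI : Nonempty ι := Fintype.card_pos_iff.mp (by omega)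
    obtain ⟨k, hk, hsign⟩ := sign_fpf_invol πm hππm hπfix
    rw [hdet1, hprod, hsign, mul_one] at hdm
    have hk' : k = 5 ∨ k = 6 := by omega
    rcases hk' with rfl | rfl
    · -- `n = 10`: the determinant is `-1`
      have : (1 : F) = -1 := by
        simpa using hdm
      apply h2
      linear_combination this
    · -- `n = 12`: the range of `m - 1` is all of `g⁻¹ U`
      set R : Submodule F V := LinearMap.range ((m : V →ₗ[F] V) - LinearMap.id) with hR
      have hRle : R ≤ U.map ((g⁻¹ : V ≃ₗ[F] V) : V →ₗ[F] V) := by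
        rintro _ ⟨x, rfl⟩
        exact hmU x
      have hRdim : 6 ≤ finrank F ↥R := by
        by_contra hlt
        push Not at hlt
        have h5 := hrinv m ⟨πm, fun i => ⟨wm i, hwm0 i, hmw i⟩⟩ hmsq R
          (fun x => ⟨x, rfl⟩) 5 (by omega)
        rw [huniv, Set.ncard_univ, Nat.card_eq_fintype_card] at h5
        omega
      have hReq : R = U.map ((g⁻¹ : V ≃ₗ[F] V) : V →ₗ[F] V) :=
        Submodule.eq_of_le_of_finrank_le hRle (by omega)
      obtain ⟨j, hj⟩ := hS4ne
      have hej : e j ∈ R := by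
        rw [hReq, Submodule.mem_map]
        refine ⟨g (e j), Submodule.mem_sup_right ?_, hginv _⟩
        rw [Submodule.mem_map]
        exact ⟨e j, Submodule.subset_span ⟨j, hj, rfl⟩, rfl⟩
      obtain ⟨x, hx⟩ := hej
      rw [LinearMap.sub_apply, LinearMap.id_apply, LinearEquiv.coe_coe] at hx
      apply hcon j (-1)
      rw [← hx, map_sub, hmmx, neg_one_smul, neg_sub]
  have hcsq : c * c = 1 := by
    have h1 : m (m (e i)) = e i := hmmx (e i)
    rw [hmi, map_smul, hmi, smul_smul] at h1
    have h3 : (c * c - 1) • e i = 0 := by rw [sub_smul, h1, one_smul, sub_self]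
    rcases smul_eq_zero.mp h3 with h4 | h4
    · exact sub_eq_zero.mp h4
    · exact absurd h4 (fr_ne_zero hfr i)
  have hc1 : c = 1 ∨ c = -1 := by
    have : (c - 1) * (c + 1) = 0 := by linear_combination hcsq
    rcases mul_eq_zero.mp this with h | h
    · exact Or.inl (sub_eq_zero.mp h)
    · exact Or.inr (eq_neg_of_add_eq_zero_left h)
  have hσc : σ c = c := by
    rcases hc1 with rfl | rfl
    · exact map_one σ
    · rw [map_neg, map_one]
  have hc0 : c ≠ 0 := by
    rintro rfl
    rw [mul_zero] at hcsq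
    exact zero_ne_one hcsq
  -- `f = g e_i` is an eigenvector of `z`
  have hzf : z (g (e i)) = c • g (e i) := by
    have h1 : g (m (e i)) = z (g (e i)) := by
      show g ((g⁻¹ : V ≃ₗ[F] V) (z (g (e i)))) = z (g (e i))
      rw [hgg]
    rw [← h1, hmi, map_smul]
  have hfne : ∀ r, B (g (e i)) (e r) ≠ 0 := fun r => h23 g hg hgn i r
  -- the permutation of `z`
  obtain ⟨hzuG, π, hπ⟩ := hzMono
  choose w hw0 hzw using hπ
  have hwN : ∀ r, w r * σ (w r) = 1 := by
    intro r
    have h1 := hzuG (e r) (e r)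
    rw [hzw, self_smul, hfr.unit, hfr.unit, mul_one] at h1
    exact h1
  have hcoord : ∀ r, c * B (g (e i)) (e (π r)) = w r * B (g (e i)) (e r) := by
    intro r
    have h1 := coord_mono hfr z π w hzw (g (e i)) r
    rw [hzf, map_smul, LinearMap.smul_apply, smul_eq_mul] at h1
    exact h1
  have hcol : ∀ r, B (g (e i)) (e (π r)) * σ (B (g (e i)) (e (π r))) =
      B (g (e i)) (e r) * σ (B (g (e i)) (e r)) := by
    intro r
    have h1 := hcoord r
    have h3 : B (g (e i)) (e (π r)) = c * (w r * B (g (e i)) (e r)) := by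
      rw [← h1, ← mul_assoc, hcsq, one_mul]
    rw [h3, map_mul, map_mul, hσc]
    calc c * (w r * B (g (e i)) (e r)) * (c * (σ (w r) * σ (B (g (e i)) (e r))))
        = (c * c) * (w r * σ (w r)) * (B (g (e i)) (e r) * σ (B (g (e i)) (e r))) := by ring
      _ = B (g (e i)) (e r) * σ (B (g (e i)) (e r)) := by rw [hcsq, hwN, one_mul, one_mul]
  have hππ : ∀ r, π (π r) = r := by
    intro r
    have h1 : z (z (e r)) = e r := by
      have := congrArg (fun f : V ≃ₗ[F] V => f (e r)) hzsq
      exact this
    rw [hzw, map_smul, hzw, smul_smul] at h1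
    by_contra hne
    have h3 := congrArg (fun y => B y (e r)) h1
    simp only [map_smul, LinearMap.smul_apply, hfr.orth _ _ hne, hfr.unit, smul_zero] at h3
    exact zero_ne_one h3
  -- at most one 2-cycle
  have hone : ∀ r r', π r ≠ r → π r' ≠ r' → r' = r ∨ r' = π r := by
    intro r r' hr hr'
    by_contra hcon
    push Not at hcon
    obtain ⟨h1, h3⟩ := hcon
    refine h25 g hg hgn i r (π r) r' (π r') (Ne.symm hr) (Ne.symm h1) ?_ (Ne.symm h3) ?_
      (Ne.symm hr') (hcol r).symm (hcol r').symm
    · intro h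
      apply h3
      rw [h, hππ]
    · intro h
      exact h1 (π.injective h).symm
  -- the fixed labels have `w = c`
  have hwfix : ∀ r, π r = r → w r = c := by
    intro r hr
    have h1 := hcoord r
    rw [hr] at h1
    exact (mul_right_cancel₀ (hfne r) h1).symm
  have hfixU : c = -1 → ∀ r, π r = r → e r ∈ U := by
    intro hc r hr
    have h1 := hzU (e r)
    rw [hzw, hr, hwfix r hr, hc] at h1
    have h3 : (-1 : F) • e r - e r = (-2 : F) • e r := by
      rw [neg_smul, neg_smul, one_smul, two_smul]; abel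
    rw [h3] at h1
    have := U.smul_mem ((-2 : F)⁻¹) h1
    rwa [smul_smul, inv_mul_cancel₀ (neg_ne_zero.mpr h2), one_smul] at this
  by_cases hall : ∀ r, π r = r
  · -- `π = 1`: `z = c`
    have hzc : ∀ x, z x = c • x := by
      intro x
      apply fr_ext_coord hfr
      intro r
      have h1 := coord_mono hfr z π w hzw x r
      rw [hall r, hwfix r (hall r)] at h1
      rw [h1, map_smul, LinearMap.smul_apply, smul_eq_mul]
    rcases hc1 with hc | hc
    · apply hz1
      ext x
      rw [hzc x, hc, one_smul]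
      rfl
    · have h1 := card_le_finrank hfr U Finset.univ (fun r _ => hfixU hc r (hall r))
      rw [Finset.card_univ] at h1
      omega
  · -- one transposition `(a b)`
    push Not at hall
    obtain ⟨a, ha⟩ := hall
    set b := π a with hb
    have hab : a ≠ b := Ne.symm ha
    have hπb : π b = a := hππ a
    have hother : ∀ r, r ≠ a → r ≠ b → π r = r := by
      intro r hra hrb
      by_contra hr
      rcases hone a r ha hr with h | h
      · exact hra h
      · exact hrb h
    have hc : c = 1 := by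
      rcases hc1 with hc | hc
      · exact hc
      · exfalso
        have h1 := card_le_finrank hfr U ((Finset.univ.erase a).erase b) (fun r hr => by
          have hrb : r ≠ b := Finset.ne_of_mem_erase hr
          have hra : r ≠ a := Finset.ne_of_mem_erase (Finset.mem_of_mem_erase hr)
          exact hfixU hc r (hother r hra hrb))
        rw [Finset.card_erase_of_mem (Finset.mem_erase.mpr ⟨Ne.symm hab, Finset.mem_univ _⟩),
          Finset.card_erase_of_mem (Finset.mem_univ _), Finset.card_univ] at h1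
        omega
    have hwo : ∀ r, r ≠ a → r ≠ b → w r = 1 := by
      intro r hra hrb
      rw [hwfix r (hother r hra hrb), hc]
    have hwab : w a * w b = 1 := by
      have h1 : z (z (e a)) = e a := by
        have := congrArg (fun f : V ≃ₗ[F] V => f (e a)) hzsq
        exact this
      rw [hzw, map_smul, ← hb, hzw, hπb, smul_smul] at h1
      have h3 : (w a * w b - 1) • e a = 0 := by rw [sub_smul, h1, one_smul, sub_self]
      rcases smul_eq_zero.mp h3 with h4 | h4
      · exact sub_eq_zero.mp h4
      · exact absurd h4 (fr_ne_zero hfr a)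
    have hπswap : π = Equiv.swap a b := by
      ext r
      by_cases hra : r = a
      · rw [hra, Equiv.swap_apply_left]
      by_cases hrb : r = b
      · rw [hrb, Equiv.swap_apply_right, hπb]
      · rw [Equiv.swap_apply_of_ne_of_ne hra hrb, hother r hra hrb]
    have hprod : ∏ r, w r = 1 := by
      rw [← Finset.mul_prod_erase Finset.univ w (Finset.mem_univ a),
        ← Finset.mul_prod_erase (Finset.univ.erase a) w
          (Finset.mem_erase.mpr ⟨Ne.symm hab, Finset.mem_univ b⟩),
        Finset.prod_eq_one, mul_one, hwab]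
      intro r hr
      have hrb : r ≠ b := Finset.ne_of_mem_erase hr
      have hra : r ≠ a := Finset.ne_of_mem_erase (Finset.mem_of_mem_erase hr)
      exact hwo r hra hrb
    have hdz := hdet z π w hzw
    have hdet1 : LinearEquiv.det z = 1 := (mem_SUg.1 (hMS hzM)).2
    rw [hdet1, hπswap, Equiv.Perm.sign_swap hab, hprod] at hdz
    have : (1 : F) = -1 := by
      simpa using hdz
    apply h2
    linear_combination this

end Odd

section Even

open Cfsg.Agent.Lib.Helper10_FrC_PK19

/-- paper (E9) for `8 ≤ n`. -/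
theorem caseC_even' [Finite F] (hσ : Invol σ) (hB : IsHerm B) (hfr : OFrame B e)
    (hmono : HasMono B e) (hrank : RankLemma2 F e) (h2 : (2 : F) = 0) (h8 : 8 ≤ Fintype.card ι)
    (M : Subgroup (V ≃ₗ[F] V)) (hHM : frH B e ≤ M) (hMS : M ≤ SUg B) (hE7 : PE7 B e M)
    (hE8 : PE8 B e M) : M ≤ Mono B e := by
  intro g hgM
  by_contra hgnot
  have hfd : FiniteDimensional F V := fr_finiteDimensional hfr
  have hMU : M ≤ uG B := fun x hx => (mem_SUg.1 (hMS hx)).1
  -- distinct indices
  obtain ⟨f⟩ : Nonempty (Fin 6 ↪ ι) :=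
    Function.Embedding.nonempty_of_card_le (by rw [Fintype.card_fin]; omega)
  have hne : ∀ k k' : Fin 6, k ≠ k' → f k ≠ f k' := fun k k' h hh => h (f.injective hh)
  have h12 : f 0 ≠ f 1 := hne _ _ (by decide)
  have h13' : f 0 ≠ f 2 := hne _ _ (by decide)
  have h14 : f 0 ≠ f 3 := hne _ _ (by decide)
  have h23 : f 1 ≠ f 2 := hne _ _ (by decide)
  have h24 : f 1 ≠ f 3 := hne _ _ (by decide)
  have h34 : f 2 ≠ f 3 := hne _ _ (by decide)
  -- the two involutions
  obtain ⟨a, haH, hae⟩ := exists_perm_map hmono h2 (Equiv.swap (f 0) (f 1))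
  obtain ⟨u, huH, hue⟩ := exists_perm_map hmono h2
    (Equiv.swap (f 0) (f 1) * Equiv.swap (f 2) (f 3))
  have haM : a ∈ M := hHM haH
  have huM : u ∈ M := hHM huH
  have hbM : g * u * g⁻¹ ∈ M := M.mul_mem (M.mul_mem hgM huM) (M.inv_mem hgM)
  have haa : a * a = 1 := by
    apply ext_frame hfr
    intro i
    rw [LinearEquiv.mul_apply, hae, hae, Equiv.swap_apply_self]
    rfl
  have huu : u * u = 1 := by
    apply ext_frame hfr
    intro i
    rw [LinearEquiv.mul_apply, hue, hue, ← Equiv.Perm.mul_apply,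
      swap2_sq h12 h13' h14 h23 h24 h34]
    rfl
  have hbb : (g * u * g⁻¹) * (g * u * g⁻¹) = 1 := by
    calc (g * u * g⁻¹) * (g * u * g⁻¹) = g * (u * u) * g⁻¹ := by group
      _ = 1 := by rw [huu]; group
  set p1 : V := e (f 0) + (1 : F) • e (f 1) with hp1
  set p2 : V := e (f 2) + (1 : F) • e (f 3) with hp2
  have haU : ∀ x, a x - x ∈ Submodule.span F {p1} := swap_sub_mem hfr h2 h12 a hae
  have huU : ∀ x, u x - x ∈ Submodule.span F {p1, p2} :=
    swap2_sub_mem hfr h2 h13' h14 h23 h24 u hue
  have hp1a : a (e (f 0)) - e (f 0) = p1 := by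
    rw [hae, Equiv.swap_apply_left, sub_eq_add_of_two h2, add_comm, hp1, one_smul]
  have hp1u : u (e (f 0)) - e (f 0) = p1 := by
    rw [hue, Equiv.Perm.mul_apply, Equiv.swap_apply_of_ne_of_ne h13' h14, Equiv.swap_apply_left,
      sub_eq_add_of_two h2, add_comm, hp1, one_smul]
  have hp2u : u (e (f 2)) - e (f 2) = p2 := by
    rw [hue, Equiv.Perm.mul_apply, Equiv.swap_apply_left,
      Equiv.swap_apply_of_ne_of_ne (Ne.symm h14) (Ne.symm h24),
      sub_eq_add_of_two h2, add_comm, hp2, one_smul]
  -- finiteness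
  have : Finite V := Module.finite_of_finite F
  have : Finite (V ≃ₗ[F] V) :=
    Finite.of_injective (fun k : V ≃ₗ[F] V => (k : V → V)) DFunLike.coe_injective
  have hfin : IsOfFinOrder (a * (g * u * g⁻¹)) := isOfFinOrder_of_finite _
  have hU1 : finrank F (Submodule.span F {p1}) ≤ 1 := by
    have := finrank_span_finset_le_card (R := F) ({p1} : Finset V)
    rw [Finset.coe_singleton, Finset.card_singleton] at this
    exact this
  have hU2 : finrank F (Submodule.span F {p1, p2}) ≤ 2 := by
    classical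
    have := finrank_span_finset_le_card (R := F) ({p1, p2} : Finset V)
    rw [Finset.coe_insert, Finset.coe_singleton] at this
    exact this.trans Finset.card_le_two
  rcases Cfsg.Agent.Lib.Helper8_FrC_PK13.dihedral_lemma a (g * u * g⁻¹) haa hbb hfin with
    ⟨k, hk⟩ | ⟨z, hzcl, hz1, hzz, hza, hzb⟩
  · -- the ranks differ
    exfalso
    have e1 := Cfsg.Agent.Lib.Helper8_FrC_PK13.finrank_range_conj a k
    have e2 := Cfsg.Agent.Lib.Helper8_FrC_PK13.finrank_range_conj u g
    rw [← hk, e2] at e1
    have hle : finrank F (LinearMap.range ((a : V →ₗ[F] V) - LinearMap.id)) ≤ 1 := by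
      refine le_trans (Submodule.finrank_mono ?_) hU1
      rintro _ ⟨x, rfl⟩
      exact haU x
    have hli : LinearIndependent F ![p1, p2] := by
      rw [LinearIndependent.pair_iff]
      intro s t hst
      have h0 := congrArg (fun y => B y (e (f 0))) hst
      have h2' := congrArg (fun y => B y (e (f 2))) hst
      simp only [hp1, hp2, map_add, map_smul, LinearMap.add_apply, LinearMap.smul_apply,
        smul_eq_mul, fr_apply_eq hfr, if_neg (Ne.symm h12), if_neg (Ne.symm h13'),
        if_neg (Ne.symm h14), if_neg h13', if_neg h23, if_neg (Ne.symm h34), if_true,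
        map_zero, LinearMap.zero_apply] at h0 h2'
      constructor
      · linear_combination h0
      · linear_combination h2'
    have hge : 2 ≤ finrank F (LinearMap.range ((u : V →ₗ[F] V) - LinearMap.id)) := by
      have h3 : finrank F (Submodule.span F (Set.range ![p1, p2])) = 2 :=
        (finrank_span_eq_card hli).trans (by simp)
      rw [← h3]
      apply Submodule.finrank_mono
      rw [Submodule.span_le]
      rintro _ ⟨i, rfl⟩
      fin_cases i
      · exact ⟨e (f 0), hp1u⟩
      · exact ⟨e (f 2), hp2u⟩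
    omega
  · -- the involution `z`
    have hzM : z ∈ M := by
      refine (Subgroup.closure_le M).2 ?_ hzcl
      intro y hy
      rcases hy with rfl | rfl
      · exact haM
      · exact hbM
    set U : Submodule F V :=
      Submodule.span F {p1} ⊔ (Submodule.span F {p1, p2}).map (g : V →ₗ[F] V) with hU
    have haU' : ∀ x, a x - x ∈ U := fun x => Submodule.mem_sup_left (haU x)
    have hbU' : ∀ x, (g * u * g⁻¹) x - x ∈ U := by
      intro x
      apply Submodule.mem_sup_right
      refine ⟨u (g⁻¹ x) - g⁻¹ x, huU _, ?_⟩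
      simp only [LinearEquiv.coe_coe, map_sub, LinearEquiv.mul_apply,
        Cfsg.Agent.Lib.Helper94_Symp.apply_inv_apply']
    have hzU : ∀ x, z x - x ∈ U :=
      Cfsg.Agent.Lib.Helper8_FrC_PK13.closure_range a _ U haU' hbU' z hzcl
    have hU3 : finrank F U ≤ 3 := by
      calc finrank F U ≤ finrank F (Submodule.span F {p1}) +
            finrank F ((Submodule.span F {p1, p2}).map (g : V →ₗ[F] V)) :=
            Submodule.finrank_add_le_finrank_add_finrank _ _
        _ ≤ 1 + 2 := Nat.add_le_add hU1 ((Submodule.finrank_map_le _ _).trans hU2)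
    -- `z` is monomial
    have hzp1 : z p1 ∈ Submodule.span F {p1} := by
      have h1 : z p1 = a (z (e (f 0))) - z (e (f 0)) := by
        rw [← hp1a, map_sub, ← LinearEquiv.mul_apply, hza, LinearEquiv.mul_apply]
      rw [h1]
      exact haU _
    obtain ⟨c, hc⟩ := Submodule.mem_span_singleton.1 hzp1
    have hzMono : z ∈ Mono B e := hE7 (f 0) (f 1) h12 1 (by simp) z hzM ⟨c, hc.symm⟩
    -- `m = g⁻¹ z g` is monomial
    set m := g⁻¹ * z * g with hm
    have hmM : m ∈ M := M.mul_mem (M.mul_mem (M.inv_mem hgM) hzM) hgM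
    have hmu : m * u = u * m := by
      calc m * u = g⁻¹ * (z * (g * u * g⁻¹)) * g := by rw [hm]; group
        _ = g⁻¹ * ((g * u * g⁻¹) * z) * g := by rw [hzb]
        _ = u * m := by rw [hm]; group
    have hmp1 : m p1 ∈ Submodule.span F {p1, p2} := by
      have h1 : m p1 = u (m (e (f 0))) - m (e (f 0)) := by
        rw [← hp1u, map_sub, ← LinearEquiv.mul_apply, hmu, LinearEquiv.mul_apply]
      rw [h1]
      exact huU _
    have hmMono : m ∈ Mono B e := by
      by_contra hmnot
      exact hE8 m hmM hmnot (f 0) (f 1) h12 1 (by simp) (f 4) (f 5) (hne _ _ (by decide))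
        (coord_span_pair hfr (hne _ _ (by decide)) (hne _ _ (by decide)) (hne _ _ (by decide))
          (hne _ _ (by decide)) hmp1)
        (coord_span_pair hfr (hne _ _ (by decide)) (hne _ _ (by decide)) (hne _ _ (by decide))
          (hne _ _ (by decide)) hmp1)
    have hm1 : m ≠ 1 := by
      intro h
      apply hz1
      calc z = g * m * g⁻¹ := by rw [hm]; group
        _ = 1 := by rw [h]; group
    have hmm : m * m = 1 := by
      calc m * m = g⁻¹ * (z * z) * g := by rw [hm]; group
        _ = 1 := by rw [hzz]; group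
    obtain ⟨hmU, π, hπ⟩ := hmMono
    have hex : ∃ r, π r ≠ r := by
      by_contra hall
      push Not at hall
      apply hm1
      apply ext_frame hfr
      intro i
      obtain ⟨c, hc0, hc⟩ := hπ i
      rw [hall i] at hc
      have hcc : c * c = 1 := by
        have h1 : (m * m) (e i) = (c * c) • e i := by
          rw [LinearEquiv.mul_apply, hc, map_smul, hc, smul_smul]
        rw [hmm] at h1
        have h1' : e i = (c * c) • e i := h1
        have h2' : ((c * c) - 1) • e i = 0 := by
          rw [sub_smul, ← h1', one_smul, sub_self]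
        rcases smul_eq_zero.1 h2' with h3 | h3
        · exact sub_eq_zero.1 h3
        · exact absurd h3 (fr_ne_zero hfr i)
      rw [hc, eq_one_of_sq_of_two h2 hcc, one_smul]
      rfl
    obtain ⟨r, hr⟩ := hex
    obtain ⟨w, hw0, hw⟩ := hπ r
    have hww : w * σ w = 1 := by
      have := hmU (e r) (e r)
      simp only [hw, map_smul, map_smulₛₗ, LinearMap.smul_apply, smul_eq_mul, hfr.unit,
        mul_one] at this
      rw [mul_comm]
      exact this
    have hp'm : m (e r) - e r = e r + w • e (π r) := by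
      rw [hw, sub_eq_add_of_two h2, add_comm]
    have hgm : g * m = z * g := by rw [hm]; group
    have hgp' : g (e r + w • e (π r)) = z (g (e r)) - g (e r) := by
      rw [← hp'm, map_sub, ← LinearEquiv.mul_apply, hgm, LinearEquiv.mul_apply]
    -- the fixed frame vectors of `z`
    have hzU1 : ∀ x, z x - (1 : F) • x ∈ U := by
      intro x
      rw [one_smul]
      exact hzU x
    have hcnt := hrank z hzMono.2 1 one_ne_zero U hzU1 3 hU3
    have hcompl : 1 < Set.ncard {s : ι | z (e s) = (1 : F) • e s} := by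
      have h1 := Set.ncard_add_ncard_compl {i | z (e i) ≠ (1 : F) • e i}
      have h3 : {i | z (e i) ≠ (1 : F) • e i}ᶜ = {s : ι | z (e s) = (1 : F) • e s} := by
        ext s
        simp
      rw [h3, Nat.card_eq_fintype_card] at h1
      omega
    obtain ⟨c, c', hc, hc', hcc'⟩ := (Set.one_lt_ncard_iff (Set.toFinite _)).1 hcompl
    have hzero : ∀ s, z (e s) = (1 : F) • e s → B (g (e r + w • e (π r))) (e s) = 0 := by
      intro s hs
      rw [one_smul] at hs
      rw [hgp', map_sub, LinearMap.sub_apply]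
      have hzuG : z ∈ uG B := hzMono.1
      have : B (z (g (e r))) (e s) = B (g (e r)) (e s) := by
        conv_lhs => rw [← hs]
        exact hzuG _ _
      rw [this, sub_self]
    exact hE8 g hgM hgnot r (π r) (Ne.symm hr) w hww c c' hcc' (hzero c hc) (hzero c' hc')

end Even

section Assembly

open Cfsg.Agent.Lib Cfsg.Agent.Lib.Helper83_FrCAsm Cfsg.Agent.Lib.Helper83_FrCMain
  Cfsg.Agent.Lib.Helper94_FrmMain Cfsg.Agent.Lib.Helper94_FrmDefs2

/-- case (C) of the frames theorem for `9 ≤ n` (copy of `Helper83_FrCAsm.frames_caseC`). -/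
theorem frames_caseC9 [Fintype F] (hσ : Invol σ) (hB : IsHerm B) (hfr : OFrame B e) (q : ℕ)
    (hq : ∀ x : F, σ x = x ^ q) (hcard : Fintype.card F = q ^ 2) (h9 : 9 ≤ Fintype.card ι)
    (hroot : ∀ (a b : ι) (K : Subgroup ((Idx' a b → F) ≃ₗ[F] (Idx' a b → F))),
      RootGU (stdB σ (Idx' a b)) (stdE F (Idx' a b)) K)
    (M : Subgroup (V ≃ₗ[F] V)) (hHM : frH B e ≤ M) (hMS : M ≤ SUg B) (hC : CaseC B e M) :
    M ≤ Mono B e := by
  have hMU : M ≤ uG B := hMS.trans SUg_le_uG
  have hdet : HasDet F e := Helper7_FrC_PK01.hasDet hfr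
  have hmono : HasMono B e := Helper7_FrC_PK01.hasMono hσ hB hfr hdet
  have hC' : PC' B e M := Helper91_FrC_PK06.caseC' hσ hB hfr hmono M hHM hC
  have hrank : RankLemma F e := Helper7_FrC_PK05.rankLemma hfr
  have hrank2 : RankLemma2 F e := rankLemma2 hfr
  have hrinv : RankLemmaInvol F e := Helper7_FrC_PK05.rankLemmaInvol hfr
  have hq2 : 2 ≤ q := by
    have h1 : 1 < Fintype.card F := Fintype.one_lt_card
    rw [hcard] at h1
    by_contra hlt
    push Not at hlt
    interval_cases q <;> simp at h1
  by_cases h2 : (2 : F) = 0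
  · -- q even
    by_cases hq4 : 4 ≤ q
    · obtain ⟨z, hz⟩ := Helper46_FrC_PK02.exists_good hσ q hq hcard hq4
      have h21 : P21 B e M :=
        Helper8_FrC_PK07.p21_generic hσ hB hfr hmono (Helper39_FrC_PK03.cycleLemma hσ hfr) M hHM hMU hC hC' z hz
      have h22 : P22 B e M := p22' hσ hB hfr hdet hrank2 h9 M hMU h21
      have hE7 : PE7 B e M := by
        apply Helper91_FrC_PK17.pE7 hσ hB hfr h2 (by omega) (Helper84_FrC_PK10.exists_third hσ q hq hcard hq4) M hMU h21
        intro a b hab l hl
        obtain ⟨K, hK⟩ := Helper10_FrC_PK15B.exists_quotData hσ hB hfr hmono h2 a b hab l hl M hHM hMU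
          (fun m hm hfix => Helper26_FrC_PK15A.qrel_exists hσ hB hfr h2 a b hab l hl m hm hfix)
          (fun m m' k k' hm hm' hf hf' h h' =>
            Helper26_FrC_PK15A.qrel_mul hσ hB hfr h2 a b hab l hl m m' k k' hm hm' hf hf' h h')
        refine ⟨K, hK, hroot a b K, ?_⟩
        exact Helper63_FrC_PK16.e_lift hσ hB hfr hmono h2 (by omega) a b hab l hl M hHM hMU hC K hK
          (Helper39_FrC_PK03.cycleLemma hσ (Helper26_FrC_PK15A.stdFrame σ (Idx' a b))) z hz
      have hE8 : PE8 B e M := Helper79_FrC_PK18.pE8 hσ hB hfr hmono M hHM hMU h22 hE7 z hz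
      exact caseC_even' hσ hB hfr hmono hrank2 h2 (by omega) M hHM hMS hE7 hE8
    · -- q = 2 (q = 3 is impossible in characteristic 2)
      have hq2' : q = 2 := by
        have hq3 : q = 2 ∨ q = 3 := by omega
        rcases hq3 with h | h
        · exact h
        · exfalso
          subst h
          have h9 : ((Fintype.card F : ℕ) : F) = 0 := Nat.cast_card_eq_zero F
          rw [hcard] at h9
          have h9' : (9 : F) = 0 := by norm_num at h9; exact_mod_cast h9
          have : (1 : F) = 0 := by linear_combination h9' - 4 * h2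
          exact one_ne_zero this
      subst hq2'
      have hnorm : ∀ c : F, c ≠ 0 → c * σ c = 1 := by
        intro c hc
        have := FiniteField.pow_card_sub_one_eq_one c hc
        rw [hcard] at this
        rw [hq]
        calc c * c ^ 2 = c ^ (2 ^ 2 - 1) := by ring
          _ = 1 := this
      obtain ⟨w, hw⟩ : ∃ w : F, w ^ 2 + w + 1 = 0 := by
        have hc4 : 2 < Fintype.card F := by rw [hcard]; norm_num
        obtain ⟨x, y, z, hxy, hxz, hyz⟩ := Fintype.two_lt_card_iff.mp hc4
        have key : ∀ c : F, c ≠ 0 → c ≠ 1 → c ^ 2 + c + 1 = 0 := by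
          intro c hc0 hc1
          have h3 := FiniteField.pow_card_sub_one_eq_one c hc0
          rw [hcard] at h3
          have h3' : (c - 1) * (c ^ 2 + c + 1) = 0 := by
            have : c ^ 3 = 1 := by simpa using h3
            linear_combination this
          rcases mul_eq_zero.mp h3' with h | h
          · exact absurd (sub_eq_zero.mp h) hc1
          · exact h
        by_cases hx0 : x = 0
        · by_cases hy1 : y = 1
          · exact ⟨z, key z (fun h => hxz (hx0.trans h.symm)) (fun h => hyz (hy1.trans h.symm))⟩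
          · exact ⟨y, key y (fun h => hxy (hx0.trans h.symm)) hy1⟩
        · by_cases hx1 : x = 1
          · by_cases hy0 : y = 0
            · exact ⟨z, key z (fun h => hyz (hy0.trans h.symm)) (fun h => hxz (hx1.trans h.symm))⟩
            · exact ⟨y, key y hy0 (fun h => hxy (hx1.trans h.symm))⟩
          · exact ⟨x, key x hx0 hx1⟩
      have hT1 := Helper61_FrC_PK20.q2_exists_tv hσ hB hfr hmono h2 hnorm w hw (by omega) M hHM hMU hC'
      exact Helper61_FrC_PK21.caseC_two hσ hB hfr hmono h2 hnorm w hw (by omega) M hHM hMS hC hT1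
  · -- q odd
    have h21 : P21 B e M := by
      by_cases hq3 : q = 3
      · subst hq3
        obtain ⟨i0, hi, hsi⟩ := Helper46_FrC_PK02.exists_i3 hσ hq hcard
        exact Helper91_FrC_PK08.p21_three hσ hB hfr hmono (Helper84_FrC_PK04.cycleLemma3 hσ hB hfr h2) (by omega) i0 hi hsi M hHM hMU
          hC hC'
      · have hq4 : 4 ≤ q := by
          have : q ≠ 2 := by
            rintro rfl
            have h4 : ((Fintype.card F : ℕ) : F) = 0 := Nat.cast_card_eq_zero F
            rw [hcard] at h4
            have h4' : (2 : F) * 2 = 0 := by norm_num at h4; exact_mod_cast h4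
            exact h2 (mul_self_eq_zero.mp h4')
          omega
        obtain ⟨z, hz⟩ := Helper46_FrC_PK02.exists_good hσ q hq hcard hq4
        exact Helper8_FrC_PK07.p21_generic hσ hB hfr hmono (Helper39_FrC_PK03.cycleLemma hσ hfr) M hHM hMU hC hC' z hz
    have h22 : P22 B e M := p22' hσ hB hfr hdet hrank2 h9 M hMU h21
    have h23 : P23 B e M := Helper2_FrC_PK11.p23 hσ hB hfr hmono hrank q hq hcard h2 (by omega)
      (Helper46_FrC_PK02.exists_mu_gen hσ q hq hcard) (Helper84_FrC_PK10.card_fixed hσ q hq hcard) M hHM hMU hC h21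
    have h24 : P24 B e M := Helper73_FrC_PK12.p24 hB M hMU h23
    have h25 : P25 B e M := Helper73_FrC_PK12.p25 hσ hB hfr hmono
      (fun c c' hc hc' hc0 hc'0 => Helper84_FrC_PK10.pigeon_norm hσ q hq hcard c c' hc hc' hc0 hc'0) M hHM hMU h22
      h23 h24
    exact caseC_odd' hσ hB hfr hmono hdet hrinv h2 h9 M hHM hMS h22 h23 h25

/-- blocks of dimension one, `9 ≤ n`: the frame stabiliser is maximal among the subgroups of
`SUg B` (copy of `Helper83_FrCMain.frames_maximal`). -/
theorem frames_maximal9 [Fintype F] [FiniteDimensional F V] (hσ : Invol σ) (hB : IsHerm B)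
    (he : OFrame B e) (q : ℕ)
    (hq : ∀ x : F, σ x = x ^ q) (hcard : Fintype.card F = q ^ 2) (h9 : 9 ≤ Fintype.card ι)
    (M : Subgroup (V ≃ₗ[F] V)) (hHM : frH B e ≤ M) (hMS : M ≤ SUg B) :
    M = frH B e ∨ M = SUg B := by
  by_cases hA : ∃ k, ∃ g ∈ M, (∃ c : F, g (e k) = c • e k) ∧ g ∉ Mono B e
  · right
    obtain ⟨k, g, hgM, ⟨c, hc⟩, hgn⟩ := hA
    have hc0 : c ≠ 0 := by
      rintro rfl
      rw [zero_smul] at hc
      have h2 : g (e k) = g 0 := by rw [hc, map_zero]
      exact fr_ne_zero he k (g.injective h2)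
    have hF : Nat.card F = q ^ 2 := by rw [Nat.card_eq_fintype_card, hcard]
    exact CASEA hσ hB he hF (by omega) hHM hMS k hgM hc0 hc hgn
  · left
    push Not at hA
    have hC : CaseC B e M := fun k g hg hfix => hA k g hg hfix
    have hle : M ≤ Mono B e := by
      apply frames_caseC9 hσ hB he q hq hcard h9 ?_ M hHM hMS hC
      intro a b K
      apply rootGU_of_frames hσ q hcard
      have := card_idx' a b
      omega
    exact le_antisymm (fun g hg => mem_frH.mpr ⟨hle hg, hMS hg⟩) hHM

end Assembly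

end Cfsg.Agent.Lib.Helper59_UFr9
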