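import Mathlib
import Cfsg.Prelude.Def_GeometricClasses
import Cfsg.Agent.Lib.Helper94_Bridge
import Cfsg.Agent.Lib.Helper94_SLBridge
import Cfsg.Agent.Lib.Helper94_HermBridge
import Cfsg.Agent.Lib.Helper59_UFr9

set_option autoImplicit false
set_option linter.unusedVariables false
set_option linter.unusedSectionVars false

/-!
helper59: the unitary frames theorem for `9 ≤ n` at the level of the statements: the stabiliser
in `SU_n(q)` of a decomposition of `F^n` into `n` pairwise orthogonal non-degenerate points is a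
maximal subgroup of `SU_n(q)` (all `q`, `n ≥ 9`).  Conjunct (3) of `cmax5_su10` (S5840) and of
`cmax5_su12` (S5864).  Copy of the `k = 1` part of `Helper83_FrCMain.maximal_udstab_all` and of
the bridge in `Cfsg/Agent/S5655.lean`.
-/

namespace Cfsg.Agent.Lib.Helper59_UFr9Geo

open Module Cfsg.Agent.Lib.Helper94_Herm Cfsg.Agent.Lib.Helper13_PSUSimple
  Cfsg.Agent.Lib.Helper94_FrmDefs Cfsg.Agent.Lib.Helper94_FrmDefs2 Cfsg.Agent.Lib.Helper94_UDDefs
  Cfsg.Agent.Lib.Helper83_FrCDefs Cfsg.Agent.Lib.Helper83_FrCTop Cfsg.Agent.Lib.Helper83_FrCAsm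
  Cfsg.Agent.Lib.Helper94_FrmMain Cfsg.Agent.Lib.Helper83_FrCMain Cfsg.Agent.Lib.Helper59_UFr9

section Abstract

variable {F V : Type*} [Field F] [AddCommGroup V] [Module F V]
variable {σ : F →+* F} {B : V →ₗ[F] V →ₛₗ[σ] F}

/-- the abstract theorem for blocks of dimension one, `9 ≤ dim V`. -/
theorem maximal_udstab_one [Fintype F] [FiniteDimensional F V] (hσ : Invol σ) (hB : IsHerm B)
    (hN : NondegOn B ⊤) (q : ℕ) (hq : ∀ x : F, σ x = x ^ q) (hcard : Fintype.card F = q ^ 2)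
    (h9 : 9 ≤ finrank F V) {t : ℕ} (D : Fin t → Submodule F V)
    (hfr : ∀ i, finrank F (D i) = 1) (hsup : iSup D = ⊤)
    (hnd : ∀ i, NondegOn B (D i))
    (horth : ∀ i j, i ≠ j → ∀ u ∈ D i, ∀ v ∈ D j, B u v = 0)
    (S : Subgroup (V ≃ₗ[F] V))
    (hS : ∀ g, g ∈ S ↔ ∃ π : Equiv.Perm (Fin t), ∀ i, (D i).map (g : V →ₗ[F] V) = D (π i)) :
    (S ⊓ SUg B < SUg B) ∧
      ∀ M : Subgroup (V ≃ₗ[F] V), S ⊓ SUg B ≤ M → M ≤ SUg B → M = S ⊓ SUg B ∨ M = SUg B := by
  obtain ⟨e, he, heD⟩ := frame_of_decomp hσ hB D hfr hsup hnd horth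
  have hcardt : Fintype.card (Fin t) = finrank F V := (fr_finrank_eq he).symm
  have ht9 : 9 ≤ t := by
    rw [Fintype.card_fin] at hcardt
    omega
  have hSH : S ⊓ SUg B = frH B e := by
    ext g
    rw [Subgroup.mem_inf, mem_frH]
    constructor
    · rintro ⟨h1, h2⟩
      exact ⟨(stab_iff_mono D e he heD S hS g (mem_SUg.mp h2).1).mp h1, h2⟩
    · rintro ⟨h1, h2⟩
      exact ⟨(stab_iff_mono D e he heD S hS g (mem_SUg.mp h2).1).mpr h1, h2⟩
  rw [hSH]
  refine ⟨lt_of_le_of_ne frH_le_SUg ?_, ?_⟩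
  · intro heq
    obtain ⟨g, hg, hgn⟩ := exists_not_mono hσ hB he (⟨0, by omega⟩ : Fin t) ⟨1, by omega⟩
      ⟨2, by omega⟩ ⟨3, by omega⟩ (by simp [Fin.ext_iff]) (by simp [Fin.ext_iff])
      (by simp [Fin.ext_iff]) (by simp [Fin.ext_iff]) (by simp [Fin.ext_iff])
      (by simp [Fin.ext_iff])
    rw [← heq] at hg
    exact hgn (mem_frH.mp hg).1
  · intro M hHM hMS
    exact frames_maximal9 hσ hB he q hq hcard (by rw [Fintype.card_fin]; exact ht9) M hHM hMS

end Abstract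

open Cfsg Cfsg.Agent.Lib.Helper94_Symp Cfsg.Agent.Lib.Helper94_Bridge
  Cfsg.Agent.Lib.Helper94_SLBridge Cfsg.Agent.Lib.Helper94_HermBridge

/-- `GU_1(q) wr S_n` is maximal in `SU_n(q)`, `n ≥ 9`, all `q`: conjunct (3) of the rows
`cmax5_su10`, `cmax5_su12` (`t` is forced to be `n`). -/
theorem frames_geo {F : Type*} [Field F] [Fintype F] (n q : ℕ) (hF : Fintype.card F = q ^ 2)
    (hn : 9 ≤ n) {t : ℕ} (D : Fin t → Submodule F (Fin n → F))
    (hD : Cfsg.Geo.IsNondegenerateMDecomposition (Cfsg.hermForm n F q) 1 D) :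
    Cfsg.Geo.IsMaximalIn (Cfsg.GU n F q ⊓ Cfsg.Geo.specialLinear (Fin n) F)
      (Cfsg.Geo.decompositionStabilizer D ⊓
        (Cfsg.GU n F q ⊓ Cfsg.Geo.specialLinear (Fin n) F)) := by
  obtain ⟨σ, hσq, hσ⟩ := exists_frob hF
  let S : Subgroup ((Fin n → F) ≃ₗ[F] (Fin n → F)) :=
    (Cfsg.Geo.decompositionStabilizer D).comap (glEquiv (Fin n) F).symm.toMonoidHom
  have hSeq : Cfsg.Geo.decompositionStabilizer D = S.comap (glEquiv (Fin n) F).toMonoidHom :=
    (comap_symm_comap (glEquiv (Fin n) F) _).symm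
  have hSU : SUg (hermB n σ hσq) = uG (hermB n σ hσq) ⊓ slK (Fin n) F := by
    ext g
    rw [mem_SUg, Subgroup.mem_inf, mem_slK]
  rw [hSeq, GU_eq σ hσq, specialLinear_eq, ← Subgroup.comap_inf, ← Subgroup.comap_inf, ← hSU]
  apply isMaximalIn_comap
  have hfr : Module.finrank F (Fin n → F) = n := by simp
  apply maximal_udstab_one hσ (hermB_isHerm σ hσq hσ) (hermB_nondeg σ hσq) q hσq hF
    (by rw [hfr]; exact hn) D hD.decomp.finrank_eq
    hD.decomp.iSup_eq_top
  · intro i w hw hw0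
    obtain ⟨x, hx, hxw⟩ := (hD.nondegenerate i w hw hw0).2
    exact ⟨x, hx, by rw [hermB_apply]; exact hxw⟩
  · intro i j hij u hu v hv
    rw [hermB_apply]
    exact hD.orthogonal i j hij u hu v hv
  · intro g
    have key : Matrix.toLin' (((glEquiv (Fin n) F).symm g :
        Matrix.GeneralLinearGroup (Fin n) F) : Matrix (Fin n) (Fin n) F) =
        (g : (Fin n → F) →ₗ[F] (Fin n → F)) := by
      refine LinearMap.ext fun x => ?_
      rw [Matrix.toLin'_apply, ← glEquiv_apply, MulEquiv.apply_symm_apply]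
      rfl
    constructor
    · rintro ⟨π, hπ⟩
      refine ⟨π, fun i => ?_⟩
      have := hπ i
      simp only [MulEquiv.toMonoidHom_eq_coe, MonoidHom.coe_coe] at this
      rw [key] at this
      exact this
    · rintro ⟨π, hπ⟩
      refine ⟨π, fun i => ?_⟩
      simp only [MulEquiv.toMonoidHom_eq_coe, MonoidHom.coe_coe]
      rw [key]
      exact hπ i

/-- conjunct (3) of `cmax5_su10` (S5840), verbatim. -/
theorem su10_frames {F : Type*} [Field F] [Fintype F] (q : ℕ) (hF : Fintype.card F = q ^ 2) :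
    ∀ D : Fin 10 → Submodule F (Fin 10 → F),
      Cfsg.Geo.IsNondegenerateMDecomposition (Cfsg.hermForm 10 F q) 1 D →
      Cfsg.Geo.IsMaximalIn (Cfsg.GU 10 F q ⊓ Cfsg.Geo.specialLinear (Fin 10) F)
        (Cfsg.Geo.decompositionStabilizer D ⊓
          (Cfsg.GU 10 F q ⊓ Cfsg.Geo.specialLinear (Fin 10) F)) :=
  fun D hD => frames_geo 10 q hF (by norm_num) D hD

/-- conjunct (3) of `cmax5_su12` (S5864), verbatim. -/
theorem su12_frames {F : Type*} [Field F] [Fintype F] (q : ℕ) (hF : Fintype.card F = q ^ 2) :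
    ∀ D : Fin 12 → Submodule F (Fin 12 → F),
      Cfsg.Geo.IsNondegenerateMDecomposition (Cfsg.hermForm 12 F q) 1 D →
      Cfsg.Geo.IsMaximalIn (Cfsg.GU 12 F q ⊓ Cfsg.Geo.specialLinear (Fin 12) F)
        (Cfsg.Geo.decompositionStabilizer D ⊓
          (Cfsg.GU 12 F q ⊓ Cfsg.Geo.specialLinear (Fin 12) F)) :=
  fun D hD => frames_geo 12 q hF (by norm_num) D hD

end Cfsg.Agent.Lib.Helper59_UFr9Geo
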