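import Mathlib
import Cfsg.Agent.Lib.Helper50_UQAbsDefs
import Cfsg.Agent.Lib.Helper79_UQ_BINJ

set_option autoImplicit false
set_option linter.unusedSectionVars false
set_option linter.unusedVariables false
set_option linter.style.haveILetI false

/-!
# S2152 / UQ-COVER2 (helper59, for helper50's market)

Covering count for a nonzero additive subgroup `A'` of `W`, even-dimensional version: the number `n` of
`K`-translates of `A'` satisfies `T1 ≤ |A'| n`.
-/

namespace Cfsg.Agent.Lib.Helper59_UQ_COVER2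

open Cfsg.Agent.Lib.Helper50_UQAbsDefs Cfsg.Agent.Lib.Helper79_UQ_BINJ
open scoped Pointwise

variable {G : Type*} [Group G] {W : Type*} [AddCommGroup W] {A : Type*} [AddCommGroup A]

theorem ρ_zero (D : UDat G W A) (hD : D.Ok) (k : G) (hk : k ∈ D.L) : D.ρ k 0 = 0 := by
  have h := hD.L_conj_π k hk 1 (one_mem _)
  rw [π_one hD] at h
  rw [← h]
  have : k * 1 * k⁻¹ = 1 := by group
  rw [this, π_one hD]

/-- the action of `K` on `W` through `ρ` -/
@[reducible] def actK (D : UDat G W A) (hD : D.Ok) : MulAction ↥D.K W where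
  smul k w := D.ρ (k : G) w
  one_smul w := ρ_one hD w
  mul_smul k k' w := ρ_mul hD k k' (hD.K_le k.2) (hD.K_le k'.2) w


theorem key_ineq (a Q : ℕ) (ha : 1 ≤ a) (hQ : 1 ≤ Q) (h : a ≤ Q) : (a - 1) * Q ≤ a * (Q - 1) := by
  obtain ⟨a', rfl⟩ : ∃ a', a = a' + 1 := ⟨a - 1, by omega⟩
  obtain ⟨Q', rfl⟩ : ∃ Q', Q = Q' + 1 := ⟨Q - 1, by omega⟩
  simp only [Nat.add_sub_cancel]
  nlinarith

/-- **UQ-COVER2.** -/
theorem COVER2 {G : Type*} [Group G] [Finite G] {W : Type*} [AddCommGroup W] [Finite W]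
    {A : Type*} [AddCommGroup A] [Finite A] (D : UDat G W A) (hD : D.Ok)
    {R : Type*} [Zero R] (nm : W → R)
    (q μ c0 ν T1 a0 : ℕ) (hq : 2 ≤ q)
    (hirr : ∀ I : AddSubgroup W, (∀ k ∈ D.K, ∀ w ∈ I, D.ρ k w ∈ I) → I = ⊥ ∨ I = ⊤)
    (hμ : ∀ E : Subgroup G, E ≤ D.K → E ≠ D.K → μ ≤ E.relIndex D.K)
    (hnm0 : nm 0 = 0)
    (hnm : ∀ k ∈ D.K, ∀ w : W, nm (D.ρ k w) = nm w)
    (htrans : ∀ w w' : W, w ≠ 0 → w' ≠ 0 → nm w = nm w' → ∃ k ∈ D.K, D.ρ k w = w')
    (hc0 : Nat.card {w : W // w ≠ 0 ∧ nm w = 0} = c0)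
    (hν : ∀ w : W, nm w ≠ 0 → Nat.card {w' : W // nm w' = nm w} = ν)
    (hnorm1 : ∀ I : AddSubgroup W, (∃ c : R, c ≠ 0 ∧ ∀ w ∈ I, w ≠ 0 → nm w = c) → Nat.card I ≤ 4)
    (h1 : T1 ≤ a0 * μ) (h2 : T1 * (q ^ 2 - 1) ≤ c0 * q ^ 2) (h3 : T1 ≤ 2 * ν) (h4 : ν ≤ c0)
    (h5 : 3 * T1 ≤ 4 * ν) (h6 : T1 ≤ Nat.card W)
    (hgap : ∀ a : ℕ, q ^ 2 < a → a < a0 → a ∣ Nat.card W → ¬ (a - 1) ∣ c0) :
    ∀ A' : AddSubgroup W, A' ≠ ⊥ →
      T1 ≤ Nat.card A' * Nat.card {S : Set W // ∃ k ∈ D.K, S = D.ρ k '' (A' : Set W)} := by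
  classical
  intro A' hA'
  haveI : Fintype W := Fintype.ofFinite W
  haveI : Fintype G := Fintype.ofFinite G
  letI := actK D hD
  have hsmul : ∀ (k : ↥D.K) (w : W), k • w = D.ρ (k : G) w := fun k w => rfl
  have hsmul0 : ∀ k : ↥D.K, k • (0 : W) = 0 := fun k => ρ_zero D hD k (hD.K_le k.2)
  have hnm' : ∀ (k : ↥D.K) (w : W), nm (k • w) = nm w := fun k w => hnm k k.2 w
  have htrans' : ∀ w w' : W, w ≠ 0 → w' ≠ 0 → nm w = nm w' → ∃ k : ↥D.K, k • w = w' := by
    intro w w' hw hw' he
    obtain ⟨k, hk, hkw⟩ := htrans w w' hw hw' he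
    exact ⟨⟨k, hk⟩, hkw⟩
  set n := Nat.card {S : Set W // ∃ k ∈ D.K, S = D.ρ k '' (A' : Set W)} with hn
  -- `n` is the size of the orbit of `A'`
  have hmemT : ∀ S : Set W, (∃ k ∈ D.K, S = D.ρ k '' (A' : Set W)) ↔
      S ∈ MulAction.orbit ↥D.K (A' : Set W) := by
    intro S
    rw [MulAction.mem_orbit_iff]
    constructor
    · rintro ⟨k, hk, rfl⟩
      exact ⟨⟨k, hk⟩, (Set.image_smul (a := (⟨k, hk⟩ : ↥D.K)) (t := (A' : Set W))).symm⟩
    · rintro ⟨k, rfl⟩
      exact ⟨k, k.2, (Set.image_smul (a := k) (t := (A' : Set W))).symm⟩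
  have horb : n = (MulAction.orbit ↥D.K (A' : Set W)).ncard := by
    rw [hn, ← Nat.card_coe_set_eq]
    exact Nat.card_congr (Equiv.subtypeEquivRight hmemT)
  have hn1 : 1 ≤ n := by
    rw [horb]
    have hne : (MulAction.orbit ↥D.K (A' : Set W)).Nonempty := MulAction.nonempty_orbit _
    exact (Set.ncard_pos (Set.toFinite _)).mpr hne
  by_cases hAtop : A' = ⊤
  · have hc : Nat.card A' = Nat.card W := by rw [hAtop]; exact AddSubgroup.card_top
    calc T1 ≤ Nat.card W := h6
      _ = Nat.card A' * 1 := by rw [hc, mul_one]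
      _ ≤ Nat.card A' * n := Nat.mul_le_mul_left _ hn1
  -- the stabiliser of `A'`
  set E : Subgroup G := (MulAction.stabilizer ↥D.K (A' : Set W)).map D.K.subtype with hE
  have hE_le : E ≤ D.K := by
    rintro _ ⟨k, -, rfl⟩
    exact k.2
  have hE_ne : E ≠ D.K := by
    intro hEK
    have hinv : ∀ k ∈ D.K, ∀ w ∈ A', D.ρ k w ∈ A' := by
      intro k hk w hw
      have hkE : k ∈ E := by rw [hEK]; exact hk
      obtain ⟨k', hk', rfl⟩ := hkE
      have hst := MulAction.mem_stabilizer_iff.mp hk'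
      have hmem : k' • w ∈ k' • (A' : Set W) := Set.smul_mem_smul_set hw
      rw [hst] at hmem
      exact hmem
    rcases hirr A' hinv with h | h
    · exact hA' h
    · exact hAtop h
  have hμn : μ ≤ n := by
    have h1' := hμ E hE_le hE_ne
    have h2' : E.relIndex D.K = n := by
      rw [horb, ← MulAction.index_stabilizer]
      have htop : D.K = (⊤ : Subgroup ↥D.K).map D.K.subtype := by
        rw [← MonoidHom.range_eq_map, Subgroup.range_subtype]
      calc E.relIndex D.K
          = ((MulAction.stabilizer ↥D.K (A' : Set W)).map D.K.subtype).relIndex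
              ((⊤ : Subgroup ↥D.K).map D.K.subtype) := by rw [← htop]
        _ = (MulAction.stabilizer ↥D.K (A' : Set W)).relIndex ⊤ :=
            Subgroup.relIndex_map_map_of_injective _ _ D.K.subtype_injective
        _ = (MulAction.stabilizer ↥D.K (A' : Set W)).index := Subgroup.relIndex_top_right _
    omega
  by_cases ha0 : a0 ≤ Nat.card A'
  · calc T1 ≤ a0 * μ := h1
      _ ≤ Nat.card A' * n := Nat.mul_le_mul ha0 hμn
  push Not at ha0
  -- finsets
  set T : Finset (Set W) := (MulAction.orbit ↥D.K (A' : Set W)).toFinset with hT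
  have hTcard : T.card = n := by rw [horb, hT, Set.ncard_eq_toFinset_card']
  have hmemT' : ∀ S, S ∈ T ↔ ∃ k : ↥D.K, k • (A' : Set W) = S := by
    intro S
    rw [hT, Set.mem_toFinset, MulAction.mem_orbit_iff]
  set cnt : Set W → Finset W := fun S => Finset.univ.filter (fun w => w ∈ S ∧ w ≠ 0) with hcntdef
  set a := Nat.card A' with ha
  have ha1 : 1 ≤ a := Nat.card_pos
  have hcntA : (cnt (A' : Set W)).card = a - 1 := by
    have : cnt (A' : Set W) = (Finset.univ.filter (fun w => w ∈ A')).erase 0 := by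
      ext w
      simp only [cnt, Finset.mem_filter, Finset.mem_univ, true_and, Finset.mem_erase,
        SetLike.mem_coe]
      tauto
    rw [this, Finset.card_erase_of_mem (by simp), ha, Nat.card_eq_fintype_card,
      Fintype.card_subtype]
  have hcnt : ∀ S ∈ T, (cnt S).card = a - 1 := by
    intro S hS
    obtain ⟨k, rfl⟩ := (hmemT' S).mp hS
    have : cnt (k • (A' : Set W)) = (cnt (A' : Set W)).image (fun w => k • w) := by
      ext w
      simp only [cnt, Finset.mem_filter, Finset.mem_univ, true_and, Finset.mem_image,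
        Set.mem_smul_set]
      constructor
      · rintro ⟨⟨y, hy, rfl⟩, hne⟩
        refine ⟨y, ⟨hy, ?_⟩, rfl⟩
        rintro rfl
        exact hne (hsmul0 k)
      · rintro ⟨y, ⟨hy, hy0⟩, rfl⟩
        refine ⟨⟨y, hy, rfl⟩, ?_⟩
        intro h0
        apply hy0
        apply MulAction.injective k
        show k • y = k • 0
        rw [h0, hsmul0]
    rw [this, Finset.card_image_of_injective _ (MulAction.injective k), hcntA]
  -- covering lemma
  have hcover : ∀ U : Finset W, (∀ u ∈ U, u ≠ 0 ∧ ∃ k : ↥D.K, ∃ w ∈ A', k • w = u) →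
      U.card ≤ n * (a - 1) := by
    intro U hU
    have hsub : U ⊆ T.biUnion cnt := by
      intro u hu
      obtain ⟨hu0, k, w, hw, rfl⟩ := hU u hu
      rw [Finset.mem_biUnion]
      refine ⟨k • (A' : Set W), (hmemT' _).mpr ⟨k, rfl⟩, ?_⟩
      simp only [cnt, Finset.mem_filter, Finset.mem_univ, true_and]
      exact ⟨Set.smul_mem_smul_set hw, hu0⟩
    calc U.card ≤ (T.biUnion cnt).card := Finset.card_le_card hsub
      _ ≤ ∑ S ∈ T, (cnt S).card := Finset.card_biUnion_le
      _ = ∑ S ∈ T, (a - 1) := Finset.sum_congr rfl hcnt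
      _ = n * (a - 1) := by rw [Finset.sum_const, smul_eq_mul, hTcard]
  -- norm classes
  set Cl : W → Finset W := fun w => Finset.univ.filter (fun u => u ≠ 0 ∧ nm u = nm w) with hCl
  have hClcover : ∀ w ∈ A', w ≠ 0 → (Cl w).card ≤ n * (a - 1) := by
    intro w hw hw0
    apply hcover
    intro u hu
    simp only [Cl, Finset.mem_filter, Finset.mem_univ, true_and] at hu
    obtain ⟨k, hk⟩ := htrans' w u hw0 hu.1 hu.2.symm
    exact ⟨hu.1, k, w, hw, hk⟩
  have hClν : ∀ w : W, nm w ≠ 0 → (Cl w).card = ν := by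
    intro w hw
    rw [← hν w hw, Nat.card_eq_fintype_card, Fintype.card_subtype]
    congr 1
    ext u
    simp only [Cl, Finset.mem_filter, Finset.mem_univ, true_and]
    constructor
    · exact fun h => h.2
    · intro h
      refine ⟨?_, h⟩
      rintro rfl
      rw [hnm0] at h
      exact hw h.symm
  have hClc0 : ∀ w : W, nm w = 0 → (Cl w).card = c0 := by
    intro w hw
    rw [← hc0, Nat.card_eq_fintype_card, Fintype.card_subtype]
    congr 1
    ext u
    simp only [Cl, Finset.mem_filter, Finset.mem_univ, true_and, hw]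
  have hle : n * (a - 1) ≤ a * n := by
    rw [mul_comm]
    exact Nat.mul_le_mul_right _ (Nat.sub_le _ _)
  obtain ⟨w0, hw0A, hw00⟩ : ∃ w ∈ A', w ≠ 0 := by
    by_contra hcon
    push Not at hcon
    apply hA'
    ext w
    rw [AddSubgroup.mem_bot]
    constructor
    · exact hcon w
    · rintro rfl
      exact A'.zero_mem
  by_cases hiso : ∀ w ∈ A', nm w = 0
  · -- all of `A'` isotropic
    have hc0cover := hClcover w0 hw0A hw00
    rw [hClc0 w0 (hiso w0 hw0A)] at hc0cover
    have hq2 : 4 ≤ q ^ 2 := by nlinarith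
    by_cases haq : a ≤ q ^ 2
    · have key : (a - 1) * q ^ 2 ≤ a * (q ^ 2 - 1) := key_ineq a (q ^ 2) ha1 (by omega) haq
      have hfin : T1 * (q ^ 2 - 1) ≤ (a * n) * (q ^ 2 - 1) := by
        calc T1 * (q ^ 2 - 1) ≤ c0 * q ^ 2 := h2
          _ ≤ n * (a - 1) * q ^ 2 := Nat.mul_le_mul_right _ hc0cover
          _ = n * ((a - 1) * q ^ 2) := by ring
          _ ≤ n * (a * (q ^ 2 - 1)) := Nat.mul_le_mul_left _ key
          _ = a * n * (q ^ 2 - 1) := by ring
      exact Nat.le_of_mul_le_mul_right hfin (by omega)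
    · push Not at haq
      -- double counting
      set Iso := Cl w0 with hIso
      have hIsocard : Iso.card = c0 := hClc0 w0 (hiso w0 hw0A)
      have hmemIso : ∀ w, w ∈ Iso ↔ w ≠ 0 ∧ nm w = 0 := by
        intro w
        simp only [Iso, Cl, Finset.mem_filter, Finset.mem_univ, true_and, hiso w0 hw0A]
      set b := (T.filter (fun S => w0 ∈ S)).card with hb
      have hTsmul : ∀ (k : ↥D.K) (S : Set W), S ∈ T → k • S ∈ T := by
        intro k S hS
        obtain ⟨k', rfl⟩ := (hmemT' S).mp hS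
        exact (hmemT' _).mpr ⟨k * k', mul_smul k k' _⟩
      have hbw : ∀ w ∈ Iso, (T.filter (fun S => w ∈ S)).card = b := by
        intro w hw
        rw [hmemIso] at hw
        obtain ⟨k, hk⟩ := htrans' w0 w hw00 hw.1 ((hiso w0 hw0A).trans hw.2.symm)
        symm
        apply Finset.card_nbij' (fun S => k • S) (fun S => k⁻¹ • S)
        · intro S hS
          simp only [Finset.coe_filter, Set.mem_setOf_eq] at hS ⊢
          refine ⟨hTsmul k S hS.1, ?_⟩
          rw [← hk]
          exact Set.smul_mem_smul_set hS.2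
        · intro S hS
          simp only [Finset.coe_filter, Set.mem_setOf_eq] at hS ⊢
          refine ⟨hTsmul k⁻¹ S hS.1, ?_⟩
          have : w0 = k⁻¹ • w := by rw [← hk, inv_smul_smul]
          rw [this]
          exact Set.smul_mem_smul_set hS.2
        · intro S _
          exact inv_smul_smul k S
        · intro S _
          exact smul_inv_smul k S
      have hdc := Finset.sum_card_bipartiteAbove_eq_sum_card_bipartiteBelow (s := T) (t := Iso)
        (fun (S : Set W) (w : W) => w ∈ S)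
      have hL : ∀ S ∈ T, (Finset.bipartiteAbove (fun (S : Set W) (w : W) => w ∈ S) Iso S).card
          = a - 1 := by
        intro S hS
        rw [← hcnt S hS]
        congr 1
        ext w
        simp only [Finset.bipartiteAbove, Finset.mem_filter, hmemIso, cnt, Finset.mem_univ,
          true_and]
        constructor
        · rintro ⟨⟨h0, -⟩, hwS⟩
          exact ⟨hwS, h0⟩
        · rintro ⟨hwS, h0⟩
          refine ⟨⟨h0, ?_⟩, hwS⟩
          obtain ⟨k, rfl⟩ := (hmemT' S).mp hS
          obtain ⟨y, hy, rfl⟩ := Set.mem_smul_set.mp hwS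
          rw [hnm']
          exact hiso y hy
      have hR : ∀ w ∈ Iso, (Finset.bipartiteBelow (fun (S : Set W) (w : W) => w ∈ S) T w).card
          = b := by
        intro w hw
        exact hbw w hw
      rw [Finset.sum_congr rfl hL, Finset.sum_congr rfl hR, Finset.sum_const, Finset.sum_const,
        smul_eq_mul, smul_eq_mul, hTcard, hIsocard] at hdc
      have hb1 : b ≠ 1 := by
        intro hb1
        rw [hb1, mul_one] at hdc
        exact hgap a haq ha0 (AddSubgroup.card_addSubgroup_dvd_card A')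
          ⟨n, by rw [← hdc]; ring⟩
      have hb0 : b ≠ 0 := by
        rw [hb]
        apply Finset.card_ne_zero_of_mem (a := (A' : Set W))
        simp only [Finset.mem_filter, SetLike.mem_coe]
        exact ⟨(hmemT' _).mpr ⟨1, one_smul _ _⟩, hw0A⟩
      have hb2 : 2 ≤ b := by omega
      have h2c : 2 * c0 ≤ n * (a - 1) := by
        rw [hdc, mul_comm]
        exact Nat.mul_le_mul_left _ hb2
      omega
  · push Not at hiso
    obtain ⟨w1, hw1A, hw1⟩ := hiso
    have hw10 : w1 ≠ 0 := by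
      rintro rfl
      exact hw1 hnm0
    by_cases hsingle : ∀ w ∈ A', w ≠ 0 → nm w = nm w1
    · have ha4 : a ≤ 4 := hnorm1 A' ⟨nm w1, hw1, hsingle⟩
      have hc := hClcover w1 hw1A hw10
      rw [hClν w1 hw1] at hc
      have h43 : 4 * (a - 1) ≤ 3 * a := by omega
      have h43' : 4 * (n * (a - 1)) ≤ 3 * (a * n) := by
        calc 4 * (n * (a - 1)) = n * (4 * (a - 1)) := by ring
          _ ≤ n * (3 * a) := Nat.mul_le_mul_left _ h43
          _ = 3 * (a * n) := by ring
      omega
    · push Not at hsingle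
      obtain ⟨w2, hw2A, hw20, hw2⟩ := hsingle
      have hdisj : Disjoint (Cl w1) (Cl w2) := by
        rw [Finset.disjoint_left]
        intro u hu1 hu2
        simp only [Cl, Finset.mem_filter, Finset.mem_univ, true_and] at hu1 hu2
        exact hw2 (hu2.2.symm.trans hu1.2)
      have hunion : (Cl w1 ∪ Cl w2).card ≤ n * (a - 1) := by
        apply hcover
        intro u hu
        rcases Finset.mem_union.mp hu with hu | hu
        · simp only [Cl, Finset.mem_filter, Finset.mem_univ, true_and] at hu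
          obtain ⟨k, hk⟩ := htrans' w1 u hw10 hu.1 hu.2.symm
          exact ⟨hu.1, k, w1, hw1A, hk⟩
        · simp only [Cl, Finset.mem_filter, Finset.mem_univ, true_and] at hu
          obtain ⟨k, hk⟩ := htrans' w2 u hw20 hu.1 hu.2.symm
          exact ⟨hu.1, k, w2, hw2A, hk⟩
      rw [Finset.card_union_of_disjoint hdisj, hClν w1 hw1] at hunion
      have hC2 : ν ≤ (Cl w2).card := by
        by_cases h : nm w2 = 0
        · rw [hClc0 w2 h]; exact h4
        · rw [hClν w2 h]
      omega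

end Cfsg.Agent.Lib.Helper59_UQ_COVER2
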