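import Mathlib
import Cfsg.Agent.S5396
import Cfsg.Agent.S1339
import Cfsg.Agent.Lib.Helper1_Cores
import Cfsg.Agent.Lib.Helper63_Heisenberg
import Cfsg.Prelude.Def_MonsterType

set_option autoImplicit false
set_option linter.unusedSectionVars false
set_option linter.unusedSimpArgs false
set_option linter.unusedVariables false

namespace Cfsg.Agent.Lib.Helper5_LnTwo

open Matrix Cfsg.Agent.S5396

variable {n : ℕ}

/-- the index `r + 2` -/
def up (r : Fin n) : Fin (n + 2) := r.succ.succ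

lemma up_ne_zero (r : Fin n) : up r ≠ 0 := Fin.succ_ne_zero _

lemma up_ne_one (r : Fin n) : up r ≠ 1 := by
  intro h
  have : (up r).val = 1 := by rw [h]; rfl
  simp [up] at this

lemma zero_ne_up (r : Fin n) : (0 : Fin (n + 2)) ≠ up r := (up_ne_zero r).symm
lemma one_ne_up (r : Fin n) : (1 : Fin (n + 2)) ≠ up r := (up_ne_one r).symm

lemma up_injective : Function.Injective (up : Fin n → Fin (n + 2)) := by
  intro r s h
  exact Fin.succ_injective _ (Fin.succ_injective _ h)

@[simp] lemma up_inj (r s : Fin n) : up r = up s ↔ r = s := up_injective.eq_iff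

lemma zero_ne_one' : (0 : Fin (n + 2)) ≠ 1 := by
  intro h
  have := congrArg Fin.val h
  simp at this

@[elab_as_elim]
lemma cases3 {P : Fin (n + 2) → Prop} (h0 : P 0) (h1 : P 1) (h2 : ∀ r : Fin n, P (up r)) :
    ∀ k, P k := by
  intro k
  refine Fin.cases h0 (fun k' => ?_) k
  refine Fin.cases ?_ (fun r => h2 r) k'
  exact h1

lemma sum3 {M : Type*} [AddCommMonoid M] (f : Fin (n + 2) → M) :
    ∑ m, f m = f 0 + (f 1 + ∑ r : Fin n, f (up r)) := by
  rw [Fin.sum_univ_succ, Fin.sum_univ_succ]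
  rfl

lemma det_eq_one_of_mul_eq_one {m : Type*} [Fintype m] [DecidableEq m]
    (A B : Matrix m m (ZMod 2)) (h : A * B = 1) : A.det = 1 := by
  have h1 : A.det * B.det = 1 := by rw [← Matrix.det_mul, h, Matrix.det_one]
  have : ∀ a b : ZMod 2, a * b = 1 → a = 1 := by decide
  exact this _ _ h1


/-! ### the embedding of the extraspecial group -/

/-- the standard basis vectors -/
def e0 : Fin (n + 2) → ZMod 2 := Pi.single 0 1
def e1 : Fin (n + 2) → ZMod 2 := Pi.single 1 1

@[simp] lemma e0_zero : (e0 : Fin (n + 2) → ZMod 2) 0 = 1 := by simp [e0]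
@[simp] lemma e0_one : (e0 : Fin (n + 2) → ZMod 2) 1 = 0 := by
  simp [e0, Pi.single_apply, (zero_ne_one' (n := n)).symm]
@[simp] lemma e0_up (r : Fin n) : (e0 : Fin (n + 2) → ZMod 2) (up r) = 0 := by
  simp [e0, Pi.single_apply, up_ne_zero]
@[simp] lemma e1_zero : (e1 : Fin (n + 2) → ZMod 2) 0 = 0 := by
  simp [e1, Pi.single_apply, zero_ne_one' (n := n)]
@[simp] lemma e1_one : (e1 : Fin (n + 2) → ZMod 2) 1 = 1 := by simp [e1]
@[simp] lemma e1_up (r : Fin n) : (e1 : Fin (n + 2) → ZMod 2) (up r) = 0 := by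
  simp [e1, Pi.single_apply, up_ne_one]

lemma e0_apply (k : Fin (n + 2)) : (e0 : Fin (n + 2) → ZMod 2) k = if k = 0 then 1 else 0 := by
  simp [e0, Pi.single_apply]
lemma e1_apply (k : Fin (n + 2)) : (e1 : Fin (n + 2) → ZMod 2) k = if k = 1 then 1 else 0 := by
  simp [e1, Pi.single_apply]

/-- the row part -/
def cvec (x : ES n 0) : Fin (n + 2) → ZMod 2 :=
  Fin.cases 0 (Fin.cases x.c (fun r => (x.v r).1))

/-- the column part -/
def dvec (x : ES n 0) : Fin (n + 2) → ZMod 2 :=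
  Fin.cases 0 (Fin.cases 0 (fun r => (x.v r).2))

@[simp] lemma cvec_zero (x : ES n 0) : cvec x 0 = 0 := rfl
@[simp] lemma cvec_one (x : ES n 0) : cvec x 1 = x.c := rfl
@[simp] lemma cvec_up (x : ES n 0) (r : Fin n) : cvec x (up r) = (x.v r).1 := rfl
@[simp] lemma dvec_zero (x : ES n 0) : dvec x 0 = 0 := rfl
@[simp] lemma dvec_one (x : ES n 0) : dvec x 1 = 0 := rfl
@[simp] lemma dvec_up (x : ES n 0) (r : Fin n) : dvec x (up r) = (x.v r).2 := rfl

lemma cvec_mul (x y : ES n 0) :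
    cvec (x * y) = cvec x + cvec y + (cvec x ⬝ᵥ dvec y) • e1 := by
  funext k
  have hdot : cvec x ⬝ᵥ dvec y = β 0 x.v y.v := by
    unfold dotProduct β
    rw [sum3]
    simp
  rw [hdot]
  induction k using cases3 with
  | h0 => simp
  | h1 => simp
  | h2 r => simp

lemma dvec_mul (x y : ES n 0) : dvec (x * y) = dvec x + dvec y := by
  funext k
  induction k using cases3 with
  | h0 => simp
  | h1 => simp
  | h2 r => simp

/-- the matrix of an element of the extraspecial group -/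
def Φ0 (x : ES n 0) : Matrix (Fin (n + 2)) (Fin (n + 2)) (ZMod 2) :=
  1 + vecMulVec e0 (cvec x) + vecMulVec (dvec x) e1

lemma Φ0_apply (x : ES n 0) (k l : Fin (n + 2)) :
    Φ0 x k l = (if k = l then 1 else 0) + (if k = 0 then cvec x l else 0)
      + (if l = 1 then dvec x k else 0) := by
  unfold Φ0
  rw [Matrix.add_apply, Matrix.add_apply, Matrix.one_apply, vecMulVec_apply, vecMulVec_apply,
    e0_apply, e1_apply]
  simp

lemma Φ0_one : Φ0 (1 : ES n 0) = 1 := by
  ext k l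
  rw [Φ0_apply]
  have h1 : cvec (1 : ES n 0) = 0 := by
    funext k
    induction k using cases3 with
    | h0 => simp
    | h1 => simp
    | h2 r => simp
  have h2 : dvec (1 : ES n 0) = 0 := by
    funext k
    induction k using cases3 with
    | h0 => simp
    | h1 => simp
    | h2 r => simp
  rw [h1, h2, Matrix.one_apply]
  simp

lemma Φ0_mul (x y : ES n 0) : Φ0 (x * y) = Φ0 x * Φ0 y := by
  unfold Φ0
  rw [cvec_mul, dvec_mul]
  have h1 : cvec x ⬝ᵥ e0 = 0 := by simp [e0]
  have h2 : (e1 : Fin (n + 2) → ZMod 2) ⬝ᵥ e0 = 0 := by simp [e0]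
  have h3 : (e1 : Fin (n + 2) → ZMod 2) ⬝ᵥ dvec y = 0 := by simp [e1]
  simp only [add_mul, mul_add, one_mul, mul_one, vecMulVec_mul_vecMulVec, h1, h2, h3, zero_smul,
    vecMulVec_zero, add_zero, vecMulVec_add, add_vecMulVec, vecMulVec_smul]
  abel


lemma Φ0_det (x : ES n 0) : (Φ0 x).det = 1 := by
  apply det_eq_one_of_mul_eq_one _ (Φ0 x⁻¹)
  rw [← Φ0_mul, mul_inv_cancel, Φ0_one]

/-- the embedding of the extraspecial group into the special linear group -/
def Φ : ES n 0 →* Matrix.SpecialLinearGroup (Fin (n + 2)) (ZMod 2) where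
  toFun x := ⟨Φ0 x, Φ0_det x⟩
  map_one' := Subtype.ext Φ0_one
  map_mul' x y := Subtype.ext (Φ0_mul x y)

@[simp] lemma Φ_coe (x : ES n 0) : (Φ x).1 = Φ0 x := rfl

lemma Φ_injective : Function.Injective (Φ : ES n 0 → _) := by
  intro x y h
  have h0 : Φ0 x = Φ0 y := congrArg Subtype.val h
  have hc : ∀ l, cvec x l = cvec y l := by
    intro l
    have := congrFun (congrFun h0 0) l
    rw [Φ0_apply, Φ0_apply] at this
    simpa using this
  have hd : ∀ k, dvec x (up k) = dvec y (up k) := by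
    intro k
    have := congrFun (congrFun h0 (up k)) 1
    rw [Φ0_apply, Φ0_apply] at this
    simpa [up_ne_zero, up_ne_one] using this
  ext1
  · funext r
    ext
    · simpa using hc (up r)
    · simpa using hd r
  · simpa using hc 1

/-- the central involution -/
def zES : ES n 0 := ⟨0, 1⟩

lemma zES_central (x : ES n 0) : zES * x = x * zES := by
  ext1
  · simp [zES]
  · simp [zES, β_zero_left, β_zero_right, add_comm]

lemma Φ0_zES : Φ0 (zES : ES n 0) = Matrix.transvection 0 1 1 := by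
  ext k l
  rw [Φ0_apply, Matrix.transvection, Matrix.add_apply, Matrix.one_apply, Matrix.single_apply]
  induction k using cases3 with
  | h0 =>
    induction l using cases3 with
    | h0 => simp [zES, zero_ne_one']
    | h1 => simp [zES, zero_ne_one']
    | h2 r => simp [zES, zero_ne_up, one_ne_up]
  | h1 =>
    induction l using cases3 with
    | h0 => simp [zES, zero_ne_one', (zero_ne_one' (n := n)).symm]
    | h1 => simp [zES, zero_ne_one', (zero_ne_one' (n := n)).symm]
    | h2 r => simp [zES, zero_ne_up, one_ne_up, (zero_ne_one' (n := n)).symm]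
  | h2 s =>
    induction l using cases3 with
    | h0 => simp [zES, up_ne_zero, up_ne_one, zero_ne_up]
    | h1 => simp [zES, up_ne_zero, up_ne_one, zero_ne_up]
    | h2 r => simp [zES, up_ne_zero, up_ne_one, zero_ne_up]


/-! ### the centralizer of the transvection -/

abbrev GG (n : ℕ) := Matrix.SpecialLinearGroup (Fin (n + 2)) (ZMod 2)

/-- the transvection -/
def z0 : GG n := Φ zES

lemma z0_coe : (z0 : GG n).1 = Matrix.transvection 0 1 1 := Φ0_zES

/-- the centralizer -/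
def CC (n : ℕ) : Subgroup (GG n) := Subgroup.centralizer {z0}

/-- entries description of the centralizer -/
def InC (g : Matrix (Fin (n + 2)) (Fin (n + 2)) (ZMod 2)) : Prop :=
  (∀ k, g k 0 = if k = 0 then 1 else 0) ∧ (∀ l, g 1 l = if l = 1 then 1 else 0)

lemma single_mul_entry {i j : Fin (n + 2)} (g : Matrix (Fin (n + 2)) (Fin (n + 2)) (ZMod 2))
    (k l : Fin (n + 2)) :
    (Matrix.single i j (1 : ZMod 2) * g) k l = if k = i then g j l else 0 := by
  by_cases hk : k = i
  · subst hk; simp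
  · simp [hk]

lemma mul_single_entry {i j : Fin (n + 2)} (g : Matrix (Fin (n + 2)) (Fin (n + 2)) (ZMod 2))
    (k l : Fin (n + 2)) :
    (g * Matrix.single i j (1 : ZMod 2)) k l = if l = j then g k i else 0 := by
  by_cases hl : l = j
  · subst hl; simp
  · simp [hl]

lemma comm_transvection_iff {i j : Fin (n + 2)} (g : Matrix (Fin (n + 2)) (Fin (n + 2)) (ZMod 2)) :
    Matrix.transvection i j 1 * g = g * Matrix.transvection i j 1 ↔
      Matrix.single i j (1 : ZMod 2) * g = g * Matrix.single i j 1 := by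
  unfold Matrix.transvection
  rw [add_mul, mul_add, one_mul, mul_one]
  exact add_right_inj _

lemma inC_of_comm (g : Matrix (Fin (n + 2)) (Fin (n + 2)) (ZMod 2)) (hdet : g.det = 1)
    (h : Matrix.transvection 0 1 1 * g = g * Matrix.transvection 0 1 1) : InC g :=
  Cfsg.Agent.S1339.comm_iff (by simp) zero_ne_one' g hdet h

lemma comm_of_inC (g : Matrix (Fin (n + 2)) (Fin (n + 2)) (ZMod 2)) (h : InC g) :
    Matrix.transvection 0 1 1 * g = g * Matrix.transvection 0 1 1 := by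
  rw [comm_transvection_iff]
  ext k l
  rw [single_mul_entry, mul_single_entry, h.1 k, h.2 l]
  by_cases hk : k = 0 <;> by_cases hl : l = 1 <;> simp [hk, hl]

lemma mem_CC_iff (g : GG n) : g ∈ CC n ↔ InC g.1 := by
  unfold CC
  rw [Subgroup.mem_centralizer_iff]
  constructor
  · intro h
    have := h z0 rfl
    have h' : (z0 : GG n).1 * g.1 = g.1 * (z0 : GG n).1 := congrArg Subtype.val this
    rw [z0_coe] at h'
    exact inC_of_comm g.1 g.2 h'
  · intro h y hy
    rw [Set.mem_singleton_iff] at hy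
    subst hy
    apply Subtype.ext
    show (z0 : GG n).1 * g.1 = g.1 * (z0 : GG n).1
    rw [z0_coe]
    exact comm_of_inC g.1 h

/-- the lower right block -/
def Apart (g : Matrix (Fin (n + 2)) (Fin (n + 2)) (ZMod 2)) : Matrix (Fin n) (Fin n) (ZMod 2) :=
  g.submatrix up up

@[simp] lemma Apart_apply (g : Matrix (Fin (n + 2)) (Fin (n + 2)) (ZMod 2)) (r s : Fin n) :
    Apart g r s = g (up r) (up s) := rfl

lemma Apart_one : Apart (1 : Matrix (Fin (n + 2)) (Fin (n + 2)) (ZMod 2)) = 1 := by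
  ext r s
  simp [Matrix.one_apply]

lemma Apart_mul (g h : Matrix (Fin (n + 2)) (Fin (n + 2)) (ZMod 2)) (hg : InC g) (hh : InC h) :
    Apart (g * h) = Apart g * Apart h := by
  ext r s
  rw [Apart_apply, Matrix.mul_apply, sum3, Matrix.mul_apply, hg.1 (up r), hh.2 (up s)]
  simp [up_ne_zero, up_ne_one]

/-- the projection onto the Levi factor -/
def π : ↥(CC n) →* Matrix.SpecialLinearGroup (Fin n) (ZMod 2) where
  toFun g := ⟨Apart g.1.1, by
    apply det_eq_one_of_mul_eq_one _ (Apart (g⁻¹).1.1)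
    rw [← Apart_mul _ _ ((mem_CC_iff _).mp g.2) ((mem_CC_iff _).mp (g⁻¹).2)]
    have : g.1.1 * (g⁻¹).1.1 = 1 := congrArg (fun y : ↥(CC n) => y.1.1) (mul_inv_cancel g)
    rw [this, Apart_one]⟩
  map_one' := Subtype.ext Apart_one
  map_mul' g h := Subtype.ext (Apart_mul _ _ ((mem_CC_iff _).mp g.2) ((mem_CC_iff _).mp h.2))

@[simp] lemma π_coe (g : ↥(CC n)) : (π g).1 = Apart g.1.1 := rfl


lemma Φ_mem_CC (x : ES n 0) : Φ x ∈ CC n := by
  unfold CC
  rw [Subgroup.mem_centralizer_iff]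
  intro y hy
  rw [Set.mem_singleton_iff] at hy
  subst hy
  unfold z0
  rw [← map_mul, ← map_mul, zES_central]

lemma Apart_Φ0 (x : ES n 0) : Apart (Φ0 x) = 1 := by
  ext r s
  rw [Apart_apply, Φ0_apply, Matrix.one_apply]
  simp [up_ne_zero, up_ne_one]

/-- the element of the extraspecial group attached to a matrix -/
def toES (g : Matrix (Fin (n + 2)) (Fin (n + 2)) (ZMod 2)) : ES n 0 :=
  ⟨fun r => (g 0 (up r), g (up r) 1), g 0 1⟩

lemma Φ0_toES (g : Matrix (Fin (n + 2)) (Fin (n + 2)) (ZMod 2)) (hg : InC g)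
    (hA : Apart g = 1) : Φ0 (toES g) = g := by
  have hA' : ∀ r s, g (up r) (up s) = if r = s then 1 else 0 := by
    intro r s
    have := congrFun (congrFun hA r) s
    rw [Apart_apply, Matrix.one_apply] at this
    exact this
  ext k l
  rw [Φ0_apply]
  induction k using cases3 with
  | h0 =>
    induction l using cases3 with
    | h0 => simp [hg.1 0]
    | h1 => simp [toES, zero_ne_one']
    | h2 r => simp [toES, zero_ne_up, up_ne_one]
  | h1 =>
    induction l using cases3 with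
    | h0 => simp [hg.1 1, (zero_ne_one' (n := n)).symm]
    | h1 => simp [hg.2 1, (zero_ne_one' (n := n)).symm]
    | h2 r => simp [hg.2 (up r), one_ne_up, up_ne_one, (zero_ne_one' (n := n)).symm]
  | h2 s =>
    induction l using cases3 with
    | h0 => simp [hg.1 (up s), up_ne_zero, (zero_ne_one' (n := n))]
    | h1 => simp [toES, up_ne_zero, up_ne_one]
    | h2 r => simp [hA' s r, up_ne_zero, up_ne_one]

lemma π_eq_one_iff (g : ↥(CC n)) : π g = 1 ↔ g.1 ∈ (Φ : ES n 0 →* GG n).range := by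
  constructor
  · intro h
    have hA : Apart g.1.1 = 1 := congrArg Subtype.val h
    refine ⟨toES g.1.1, ?_⟩
    apply Subtype.ext
    exact Φ0_toES _ ((mem_CC_iff _).mp g.2) hA
  · rintro ⟨x, hx⟩
    apply Subtype.ext
    show Apart g.1.1 = 1
    rw [← hx]
    exact Apart_Φ0 x

/-! ### the complement -/

/-- the block diagonal embedding -/
def σ0 (A : Matrix (Fin n) (Fin n) (ZMod 2)) : Matrix (Fin (n + 2)) (Fin (n + 2)) (ZMod 2) :=
  fun k l => Fin.cases (e0 l) (Fin.cases (e1 l) (fun r => Fin.cases 0 (Fin.cases 0 (fun s => A r s)) l)) k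

@[simp] lemma σ0_zero (A : Matrix (Fin n) (Fin n) (ZMod 2)) (l : Fin (n + 2)) : σ0 A 0 l = e0 l := rfl
@[simp] lemma σ0_one (A : Matrix (Fin n) (Fin n) (ZMod 2)) (l : Fin (n + 2)) : σ0 A 1 l = e1 l := rfl
@[simp] lemma σ0_up_zero (A : Matrix (Fin n) (Fin n) (ZMod 2)) (r : Fin n) : σ0 A (up r) 0 = 0 := rfl
@[simp] lemma σ0_up_one (A : Matrix (Fin n) (Fin n) (ZMod 2)) (r : Fin n) : σ0 A (up r) 1 = 0 := rfl
@[simp] lemma σ0_up_up (A : Matrix (Fin n) (Fin n) (ZMod 2)) (r s : Fin n) :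
    σ0 A (up r) (up s) = A r s := rfl

lemma σ0_one' : σ0 (1 : Matrix (Fin n) (Fin n) (ZMod 2)) = 1 := by
  ext k l
  rw [Matrix.one_apply]
  induction k using cases3 with
  | h0 => simp [e0_apply, eq_comm]
  | h1 => simp [e1_apply, eq_comm]
  | h2 r =>
    induction l using cases3 with
    | h0 => simp [up_ne_zero]
    | h1 => simp [up_ne_one]
    | h2 s => simp [Matrix.one_apply]

lemma σ0_mul (A B : Matrix (Fin n) (Fin n) (ZMod 2)) : σ0 (A * B) = σ0 A * σ0 B := by
  ext k l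
  rw [Matrix.mul_apply, sum3]
  induction k using cases3 with
  | h0 => simp
  | h1 => simp
  | h2 r =>
    induction l using cases3 with
    | h0 => simp
    | h1 => simp
    | h2 s => simp [Matrix.mul_apply]

lemma σ0_inC (A : Matrix (Fin n) (Fin n) (ZMod 2)) : InC (σ0 A) := by
  constructor
  · intro k
    induction k using cases3 with
    | h0 => simp
    | h1 => simp [(zero_ne_one' (n := n)).symm]
    | h2 r => simp [up_ne_zero]
  · intro l
    rw [σ0_one, e1_apply]

lemma Apart_σ0 (A : Matrix (Fin n) (Fin n) (ZMod 2)) : Apart (σ0 A) = A := by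
  ext r s
  simp

/-- the Levi complement as a homomorphism -/
def σ : Matrix.SpecialLinearGroup (Fin n) (ZMod 2) →* GG n where
  toFun A := ⟨σ0 A.1, by
    apply det_eq_one_of_mul_eq_one _ (σ0 (A⁻¹).1)
    rw [← σ0_mul]
    have : A.1 * (A⁻¹).1 = 1 := congrArg Subtype.val (mul_inv_cancel A)
    rw [this, σ0_one']⟩
  map_one' := Subtype.ext σ0_one'
  map_mul' A B := Subtype.ext (σ0_mul A.1 B.1)

@[simp] lemma σ_coe (A : Matrix.SpecialLinearGroup (Fin n) (ZMod 2)) : (σ A).1 = σ0 A.1 := rfl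

lemma σ_mem_CC (A : Matrix.SpecialLinearGroup (Fin n) (ZMod 2)) : σ A ∈ CC n :=
  (mem_CC_iff _).mpr (σ0_inC A.1)

lemma π_σ (A : Matrix.SpecialLinearGroup (Fin n) (ZMod 2)) : π ⟨σ A, σ_mem_CC A⟩ = A :=
  Subtype.ext (Apart_σ0 A.1)

lemma σ_injective : Function.Injective (σ : Matrix.SpecialLinearGroup (Fin n) (ZMod 2) → GG n) := by
  intro A B h
  have := congrArg (fun g : GG n => Apart g.1) h
  apply Subtype.ext
  simpa [Apart_σ0] using this

lemma zmod2_add_self (a : ZMod 2) : a + a = 0 := by revert a; decide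

lemma zmod2_eq_zero_of_ne_one : ∀ a : ZMod 2, a ≠ 1 → a = 0 := by decide

lemma vec_add_self {m : Type*} (v : m → ZMod 2) : v + v = 0 := by
  funext k
  exact zmod2_add_self _

lemma single_mulVec_entry {n : ℕ} (l k : Fin n) (v : Fin n → ZMod 2) :
    Matrix.single l k (1 : ZMod 2) *ᵥ v = v k • (Pi.single l 1 : Fin n → ZMod 2) := by
  funext m
  simp only [Matrix.mulVec, dotProduct, Matrix.single_apply, Pi.smul_apply, Pi.single_apply,
    smul_eq_mul]
  by_cases hm : m = l
  · subst hm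
    simp
  · simp [hm, Ne.symm hm]

/-- a normal `2`-subgroup of `SL_n(2)` is trivial (`n ≥ 2`) -/
theorem normal_two_subgroup_eq_bot {n : ℕ} (hn : 2 ≤ n)
    (N : Subgroup (Matrix.SpecialLinearGroup (Fin n) (ZMod 2))) [hNn : N.Normal]
    (hN : IsPGroup 2 N) : N = ⊥ := by
  have : Fact (Nat.Prime 2) := ⟨Nat.prime_two⟩
  let _ : MulAction ↥N (Fin n → ZMod 2) :=
    { smul := fun g v => g.1.1 *ᵥ v
      one_smul := fun v => by
        show (1 : Matrix (Fin n) (Fin n) (ZMod 2)) *ᵥ v = v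
        simp
      mul_smul := fun g h v => by
        show (g.1.1 * h.1.1) *ᵥ v = g.1.1 *ᵥ (h.1.1 *ᵥ v)
        simp [Matrix.mulVec_mulVec] }
  have hsmul : ∀ (g : ↥N) (v : Fin n → ZMod 2), g • v = g.1.1 *ᵥ v := fun _ _ => rfl
  have hcard : 2 ∣ Nat.card (Fin n → ZMod 2) := by
    rw [Nat.card_fun, Nat.card_zmod, Nat.card_fin]
    exact dvd_pow_self 2 (by omega)
  have h0 : (0 : Fin n → ZMod 2) ∈ MulAction.fixedPoints ↥N (Fin n → ZMod 2) := by
    intro g
    rw [hsmul]
    simp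
  obtain ⟨v, hv, hv0⟩ := hN.exists_fixed_point_of_prime_dvd_card_of_fixed_point
    (Fin n → ZMod 2) hcard h0
  -- the fixed space
  let W : Set (Fin n → ZMod 2) := {w | ∀ g ∈ N, g.1 *ᵥ w = w}
  have hvW : v ∈ W := by
    intro g hg
    exact hv ⟨g, hg⟩
  have hWadd : ∀ a b, a ∈ W → b ∈ W → a + b ∈ W := by
    intro a b ha hb g hg
    rw [Matrix.mulVec_add, ha g hg, hb g hg]
  have hWinv : ∀ (h : Matrix.SpecialLinearGroup (Fin n) (ZMod 2)) (w), w ∈ W → h.1 *ᵥ w ∈ W := by
    intro h w hw g hg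
    have h1 : h⁻¹ * g * h ∈ N := by
      have := hNn.conj_mem g hg h⁻¹
      simpa using this
    have h2 := hw _ h1
    have h3 : (h⁻¹ * g * h).1 = (h⁻¹).1 * g.1 * h.1 := rfl
    rw [h3] at h2
    have h4 : h.1 * ((h⁻¹).1 * g.1 * h.1) = g.1 * h.1 := by
      have : h.1 * (h⁻¹).1 = 1 := congrArg Subtype.val (mul_inv_cancel h)
      rw [← mul_assoc, ← mul_assoc, this, one_mul]
    calc g.1 *ᵥ (h.1 *ᵥ w) = (g.1 * h.1) *ᵥ w := by rw [Matrix.mulVec_mulVec]
      _ = (h.1 * ((h⁻¹).1 * g.1 * h.1)) *ᵥ w := by rw [h4]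
      _ = h.1 *ᵥ (((h⁻¹).1 * g.1 * h.1) *ᵥ w) := by rw [Matrix.mulVec_mulVec]
      _ = h.1 *ᵥ w := by rw [h2]
  -- a nonzero coordinate
  obtain ⟨k, hk⟩ : ∃ k, v k = 1 := by
    by_contra hcon
    push Not at hcon
    apply hv0
    funext k
    exact (zmod2_eq_zero_of_ne_one _ (hcon k)).symm
  have htr : ∀ (l m : Fin n) (hlm : l ≠ m) (w : Fin n → ZMod 2), w ∈ W →
      w + w m • (Pi.single l 1 : Fin n → ZMod 2) ∈ W := by
    intro l m hlm w hw
    have := hWinv (Matrix.SpecialLinearGroup.transvection hlm 1) w hw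
    have h1 : (Matrix.SpecialLinearGroup.transvection hlm (1 : ZMod 2)).1 = Matrix.transvection l m 1 := rfl
    rw [h1, Matrix.transvection, Matrix.add_mulVec, Matrix.one_mulVec, single_mulVec_entry] at this
    exact this
  have hel : ∀ l, l ≠ k → (Pi.single l 1 : Fin n → ZMod 2) ∈ W := by
    intro l hl
    have h1 := htr l k hl v hvW
    rw [hk, one_smul] at h1
    have h2 := hWadd _ _ h1 hvW
    have h3 : v + Pi.single l 1 + v = (Pi.single l 1 : Fin n → ZMod 2) := by
      rw [add_comm v, add_assoc, vec_add_self, add_zero]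
    rw [h3] at h2
    exact h2
  have hek : (Pi.single k 1 : Fin n → ZMod 2) ∈ W := by
    obtain ⟨l, hl⟩ : ∃ l : Fin n, l ≠ k := by
      by_cases h0 : k = ⟨0, by omega⟩
      · exact ⟨⟨1, by omega⟩, by rw [h0]; simp [Fin.ext_iff]⟩
      · exact ⟨⟨0, by omega⟩, fun h => h0 h.symm⟩
    have h1 := htr k l (Ne.symm hl) _ (hel l hl)
    rw [Pi.single_eq_same, one_smul] at h1
    have h2 := hWadd _ _ h1 (hel l hl)
    have h3 : (Pi.single l 1 : Fin n → ZMod 2) + Pi.single k 1 + Pi.single l 1 = Pi.single k 1 := by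
      rw [add_comm (Pi.single l 1), add_assoc, vec_add_self, add_zero]
    rw [h3] at h2
    exact h2
  have hall : ∀ l, (Pi.single l 1 : Fin n → ZMod 2) ∈ W := by
    intro l
    by_cases hl : l = k
    · rw [hl]; exact hek
    · exact hel l hl
  rw [Subgroup.eq_bot_iff_forall]
  intro g hg
  apply Subtype.ext
  ext a b
  have := congrFun (hall b g hg) a
  rw [Matrix.mulVec_single_one] at this
  simpa [Matrix.one_apply, Pi.single_apply] using this


/-! ### identification of `O_2` -/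

/-- the unipotent radical, as a subgroup of the centralizer -/
def Qc (n : ℕ) : Subgroup ↥(CC n) := (π : ↥(CC n) →* _).ker

lemma Qc_map : (Qc n).map (CC n).subtype = (Φ : ES n 0 →* GG n).range := by
  ext g
  constructor
  · rintro ⟨x, hx, rfl⟩
    exact (π_eq_one_iff x).mp hx
  · rintro ⟨y, rfl⟩
    refine ⟨⟨Φ y, Φ_mem_CC y⟩, ?_, rfl⟩
    exact (π_eq_one_iff _).mpr ⟨y, rfl⟩

lemma Qc_isPGroup : IsPGroup 2 ↥(Qc n) := by
  intro x
  obtain ⟨y, hy⟩ := (π_eq_one_iff x.1).mp x.2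
  obtain ⟨k, hk⟩ := (ES.isPGroup (n := n) (e := 0)) y
  refine ⟨k, ?_⟩
  apply Subtype.ext
  apply Subtype.ext
  show (x.1.1) ^ 2 ^ k = 1
  rw [← hy, ← map_pow, hk, map_one]

lemma π_surjective : Function.Surjective (π : ↥(CC n) →* _) :=
  fun A => ⟨⟨σ A, σ_mem_CC A⟩, π_σ A⟩

theorem pCore_eq (hn : 2 ≤ n) : Cfsg.pCore 2 ↥(CC n) = Qc n := by
  have : Fact (Nat.Prime 2) := ⟨Nat.prime_two⟩
  apply le_antisymm
  · have hN : ((Cfsg.pCore 2 ↥(CC n)).map (π : ↥(CC n) →* _)).Normal :=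
      (Cfsg.Agent.Lib.Helper1_Cores.pCore_normal 2).map _ π_surjective
    have hP : IsPGroup 2 ↥((Cfsg.pCore 2 ↥(CC n)).map (π : ↥(CC n) →* _)) :=
      (Cfsg.Agent.Lib.Helper1_Cores.pCore_isPGroup 2).map _
    have := normal_two_subgroup_eq_bot hn _ hP
    intro x hx
    show π x = 1
    have hx' : π x ∈ (Cfsg.pCore 2 ↥(CC n)).map (π : ↥(CC n) →* _) := ⟨x, hx, rfl⟩
    rw [this] at hx'
    exact hx'
  · exact Cfsg.Agent.Lib.Helper1_Cores.le_pCore (MonoidHom.normal_ker _) Qc_isPGroup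

theorem pCore_map_eq (hn : 2 ≤ n) :
    (Cfsg.pCore 2 ↥(CC n)).map (CC n).subtype = (Φ : ES n 0 →* GG n).range := by
  rw [pCore_eq hn, Qc_map]

/-! ### the complement -/

theorem range_σ_le : (σ : _ →* GG n).range ≤ CC n := by
  rintro _ ⟨A, rfl⟩
  exact σ_mem_CC A

theorem range_Φ_le : (Φ : ES n 0 →* GG n).range ≤ CC n := by
  rintro _ ⟨x, rfl⟩
  exact Φ_mem_CC x

theorem range_inf : (Φ : ES n 0 →* GG n).range ⊓ (σ : _ →* GG n).range = ⊥ := by
  rw [Subgroup.eq_bot_iff_forall]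
  rintro g ⟨hg1, ⟨A, rfl⟩⟩
  have h1 := (π_eq_one_iff ⟨σ A, σ_mem_CC A⟩).mpr hg1
  rw [π_σ] at h1
  rw [h1, map_one]

theorem range_sup : (Φ : ES n 0 →* GG n).range ⊔ (σ : _ →* GG n).range = CC n := by
  apply le_antisymm
  · exact sup_le range_Φ_le range_σ_le
  · intro g hg
    let g' : ↥(CC n) := ⟨g, hg⟩
    let k' : ↥(CC n) := ⟨σ (π g'), σ_mem_CC _⟩
    have h1 : π (g' * k'⁻¹) = 1 := by
      rw [map_mul, map_inv, π_σ, mul_inv_cancel]
    have h2 := (π_eq_one_iff _).mp h1
    have h3 : g = (g' * k'⁻¹).1 * k'.1 := by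
      show g = g * (σ (π g'))⁻¹ * σ (π g')
      rw [inv_mul_cancel_right]
    rw [h3]
    exact Subgroup.mul_mem_sup h2 ⟨_, rfl⟩


/-! ### transport of the extraspecial structure -/

/-- the isomorphism onto the range -/
noncomputable def ψ : ES n 0 ≃* ↥(Φ : ES n 0 →* GG n).range := MonoidHom.ofInjective Φ_injective

theorem range_isExtraspecial (hn : 1 ≤ n) : Cfsg.IsExtraspecial 2 ↥(Φ : ES n 0 →* GG n).range :=
  Cfsg.Agent.Lib.Helper63_Heisenberg.isExtraspecial_of_mulEquiv ψ (ES.isExtraspecial hn)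

theorem range_card : Nat.card ↥(Φ : ES n 0 →* GG n).range = 2 ^ (2 * n + 1) := by
  rw [← Nat.card_congr (ψ (n := n)).toEquiv, ES.card]

/-- the elementary abelian subgroup of order `2^(n+1)` -/
def EE (n : ℕ) : Subgroup (GG n) := (ES.stdSub n 0).map Φ

theorem EE_le : EE n ≤ (Φ : ES n 0 →* GG n).range := by
  rintro _ ⟨x, _, rfl⟩
  exact ⟨x, rfl⟩

theorem EE_sq (g : GG n) (hg : g ∈ EE n) : g ^ 2 = 1 := by
  obtain ⟨x, hx, rfl⟩ := hg
  rw [← map_pow, (ES.stdSub_elementary (n := n) (e := 0)).2 x hx, map_one]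

theorem EE_elem : Cfsg.IsElementaryAbelian 2 (EE n) := by
  refine ⟨?_, fun a ha => EE_sq a ha⟩
  have := (ES.stdSub_elementary (n := n) (e := 0)).1
  unfold EE
  infer_instance

theorem EE_card : Nat.card ↥(EE n) = 2 ^ (n + 1) := by
  unfold EE
  rw [Subgroup.card_map_of_injective Φ_injective, ES.card_stdSub]
  simp [pow_succ]

/-- entries description of the elementary abelian subgroup -/
def InE (g : Matrix (Fin (n + 2)) (Fin (n + 2)) (ZMod 2)) : Prop :=
  (∀ k l, l ≠ 1 → g k l = if k = l then 1 else 0) ∧ g 1 1 = 1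

lemma inC_of_inE (g : Matrix (Fin (n + 2)) (Fin (n + 2)) (ZMod 2)) (h : InE g) : InC g := by
  constructor
  · intro k
    exact h.1 k 0 zero_ne_one'
  · intro l
    by_cases hl : l = 1
    · rw [hl, h.2, if_pos rfl]
    · rw [h.1 1 l hl, if_neg hl, if_neg (Ne.symm hl)]

lemma mem_EE_of_inE (g : GG n) (h : InE g.1) : g ∈ EE n := by
  have hA : Apart g.1 = 1 := by
    ext r s
    rw [Apart_apply, h.1 _ _ (up_ne_one s), Matrix.one_apply]
    simp
  refine ⟨toES g.1, ?_, ?_⟩
  · intro r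
    constructor
    · show g.1 0 (up r) = 0
      rw [h.1 _ _ (up_ne_one r), if_neg (zero_ne_up r)]
    · simp
  · apply Subtype.ext
    exact Φ0_toES g.1 (inC_of_inE g.1 h) hA

/-- the column vector of an element of `EE` -/
lemma exists_vec_of_mem_EE (g : GG n) (hg : g ∈ EE n) :
    ∃ d : Fin (n + 2) → ZMod 2, d 1 = 0 ∧ g.1 = 1 + vecMulVec d e1 := by
  obtain ⟨x, hx, rfl⟩ := hg
  refine ⟨x.c • e0 + dvec x, by simp, ?_⟩
  have hc : cvec x = x.c • e1 := by
    funext k
    induction k using cases3 with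
    | h0 => simp
    | h1 => simp
    | h2 r => simpa using (hx r).1
  show Φ0 x = _
  unfold Φ0
  rw [hc, add_vecMulVec, vecMulVec_smul, smul_vecMulVec, add_assoc]

lemma inE_of_vec (d : Fin (n + 2) → ZMod 2) (hd : d 1 = 0) :
    InE (1 + vecMulVec d e1) := by
  constructor
  · intro k l hl
    rw [Matrix.add_apply, vecMulVec_apply, e1_apply, if_neg hl, mul_zero, add_zero,
      Matrix.one_apply]
  · rw [Matrix.add_apply, vecMulVec_apply, hd, zero_mul, add_zero, Matrix.one_apply_eq]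

lemma inE_of_mem_EE (g : GG n) (hg : g ∈ EE n) : InE g.1 := by
  obtain ⟨d, hd, h⟩ := exists_vec_of_mem_EE g hg
  rw [h]
  exact inE_of_vec d hd

lemma mem_EE_iff (g : GG n) : g ∈ EE n ↔ InE g.1 :=
  ⟨inE_of_mem_EE g, mem_EE_of_inE g⟩

/-- rows description of the stabilizer of the hyperplane -/
def InP (k : Matrix (Fin (n + 2)) (Fin (n + 2)) (ZMod 2)) : Prop :=
  ∀ l, k 1 l = if l = 1 then 1 else 0

lemma inP_iff (k : Matrix (Fin (n + 2)) (Fin (n + 2)) (ZMod 2)) : InP k ↔ e1 ᵥ* k = e1 := by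
  unfold InP
  constructor
  · intro h
    funext l
    rw [e1, Matrix.single_one_vecMul]
    show k 1 l = _
    rw [h l, Pi.single_apply]
  · intro h l
    have := congrFun h l
    rw [e1, Matrix.single_one_vecMul] at this
    rw [Pi.single_apply] at this
    exact this

/-- elements commuting with a nontrivial element of `EE` stabilize the hyperplane -/
lemma inP_of_comm (k e : GG n) (he : e ∈ EE n) (he1 : e ≠ 1) (hk : e * k = k * e) : InP k.1 := by
  obtain ⟨d, hd, h⟩ := exists_vec_of_mem_EE e he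
  have hk' : e.1 * k.1 = k.1 * e.1 := congrArg Subtype.val hk
  rw [h, add_mul, mul_add, one_mul, mul_one] at hk'
  have hk2 : vecMulVec d e1 * k.1 = k.1 * vecMulVec d e1 := add_left_cancel hk'
  rw [vecMulVec_mul, mul_vecMulVec] at hk2
  obtain ⟨a, ha⟩ : ∃ a, d a = 1 := by
    by_contra hcon
    push Not at hcon
    apply he1
    apply Subtype.ext
    rw [h]
    have : d = 0 := by
      funext a
      exact zmod2_eq_zero_of_ne_one _ (hcon a)
    rw [this]
    simp
  have hrow : ∀ l, k.1 1 l = (k.1 *ᵥ d) a * e1 l := by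
    intro l
    have := congrFun (congrFun hk2 a) l
    rw [vecMulVec_apply, vecMulVec_apply, ha, one_mul, e1, Matrix.single_one_vecMul] at this
    exact this
  have h11 : k.1 1 1 = 1 := by
    by_contra hcon
    have h0 : k.1 1 1 = 0 := zmod2_eq_zero_of_ne_one _ hcon
    have : k.1.det = 0 := by
      apply Matrix.det_eq_zero_of_row_eq_zero 1
      intro l
      by_cases hl : l = 1
      · rw [hl, h0]
      · rw [hrow l, e1_apply, if_neg hl, mul_zero]
    rw [k.2] at this
    exact one_ne_zero this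
  intro l
  by_cases hl : l = 1
  · rw [hl, h11, if_pos rfl]
  · rw [hrow l, e1_apply, if_neg hl, mul_zero]

/-- the stabilizer of the hyperplane normalizes `EE` -/
lemma conj_mem_EE (k e : GG n) (hk : InP k.1) (he : e ∈ EE n) : k * e * k⁻¹ ∈ EE n := by
  obtain ⟨d, hd, h⟩ := exists_vec_of_mem_EE e he
  rw [mem_EE_iff]
  have hk1 : e1 ᵥ* k.1 = e1 := (inP_iff _).mp hk
  have hkk : k.1 * (k⁻¹).1 = 1 := congrArg Subtype.val (mul_inv_cancel k)
  have hk2 : e1 ᵥ* (k⁻¹).1 = e1 := by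
    calc e1 ᵥ* (k⁻¹).1 = (e1 ᵥ* k.1) ᵥ* (k⁻¹).1 := by rw [hk1]
      _ = e1 ᵥ* (k.1 * (k⁻¹).1) := by rw [Matrix.vecMul_vecMul]
      _ = e1 := by rw [hkk, Matrix.vecMul_one]
  have h3 : (k * e * k⁻¹).1 = 1 + vecMulVec (k.1 *ᵥ d) e1 := by
    show k.1 * e.1 * (k⁻¹).1 = _
    rw [h, mul_add, add_mul, mul_one, hkk, mul_vecMulVec, vecMulVec_mul, hk2]
  rw [h3]
  apply inE_of_vec
  have : (k.1 *ᵥ d) 1 = (e1 ᵥ* k.1) ⬝ᵥ d := by
    rw [e1, Matrix.single_one_vecMul]
    rfl
  rw [this, hk1, e1, single_one_dotProduct, hd]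

/-- `EE` is self-centralizing -/
lemma mem_EE_of_comm (k : GG n) (hk : ∀ e ∈ EE n, e * k = k * e) : k ∈ EE n := by
  rw [mem_EE_iff]
  have key : ∀ m : Fin (n + 2), m ≠ 1 →
      (∀ a, k.1 a m = if a = m then 1 else 0) ∧ (∀ l, k.1 1 l = if l = 1 then 1 else 0) := by
    intro m hm
    have hT : Matrix.SpecialLinearGroup.transvection hm (1 : ZMod 2) ∈ EE n := by
      rw [mem_EE_iff]
      have h1 : (Matrix.SpecialLinearGroup.transvection hm (1 : ZMod 2)).1 =
        Matrix.transvection m 1 1 := rfl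
      rw [h1]
      constructor
      · intro a l hl
        rw [Matrix.transvection, Matrix.add_apply, Matrix.single_apply,
          if_neg (fun h => hl h.2.symm), add_zero, Matrix.one_apply]
      · rw [Matrix.transvection, Matrix.add_apply, Matrix.single_apply,
          if_neg (fun h => hm h.1), add_zero, Matrix.one_apply_eq]
    have h2 := hk _ hT
    have h3 : Matrix.transvection m 1 (1 : ZMod 2) * k.1 = k.1 * Matrix.transvection m 1 1 :=
      congrArg Subtype.val h2
    exact Cfsg.Agent.S1339.comm_iff (by simp) hm k.1 k.2 h3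
  constructor
  · intro a l hl
    exact (key l hl).1 a
  · have := (key 0 zero_ne_one').2 1
    rw [this, if_pos rfl]


/-! ### odd order subgroups normalized by a four-group -/

/-- an involution normalizing a finite subgroup with trivial fixed points inverts it -/
lemma inverts_of_fixed_point_free {G : Type*} [Group G] (K : Subgroup G) [Finite K] (t : G)
    (ht : t * t = 1) (hK : ∀ k ∈ K, t * k * t⁻¹ ∈ K) (hC : ∀ k ∈ K, t * k = k * t → k = 1) :
    ∀ k ∈ K, t * k * t⁻¹ = k⁻¹ := by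
  have htinv : t⁻¹ = t := inv_eq_of_mul_eq_one_left ht
  let f : ↥K → ↥K := fun k => ⟨k.1⁻¹ * (t * k.1 * t⁻¹), K.mul_mem (K.inv_mem k.2) (hK k.1 k.2)⟩
  have hinj : Function.Injective f := by
    intro k l hkl
    have h1 : k.1⁻¹ * (t * k.1 * t⁻¹) = l.1⁻¹ * (t * l.1 * t⁻¹) := congrArg Subtype.val hkl
    have h2 : t * (l.1 * k.1⁻¹) = (l.1 * k.1⁻¹) * t := by
      have : l.1 * k.1⁻¹ = t * l.1 * t⁻¹ * (t * k.1 * t⁻¹)⁻¹ := by
        have h3 : l.1 * (k.1⁻¹ * (t * k.1 * t⁻¹)) = t * l.1 * t⁻¹ := by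
          rw [h1, mul_inv_cancel_left]
        rw [← h3]
        group
      have h4 : t * l.1 * t⁻¹ * (t * k.1 * t⁻¹)⁻¹ = t * (l.1 * k.1⁻¹) * t⁻¹ := by group
      rw [h4] at this
      calc t * (l.1 * k.1⁻¹) = t * (l.1 * k.1⁻¹) * t⁻¹ * t := by group
        _ = (l.1 * k.1⁻¹) * t := by rw [← this]
    have h5 := hC _ (K.mul_mem l.2 (K.inv_mem k.2)) h2
    apply Subtype.ext
    have : l.1 = k.1 := by
      have := mul_inv_eq_one.mp h5
      exact this
    exact this.symm
  have hsurj : Function.Surjective f := Finite.surjective_of_injective hinj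
  intro k hk
  obtain ⟨m, hm⟩ := hsurj ⟨k, hk⟩
  have hm' : m.1⁻¹ * (t * m.1 * t⁻¹) = k := congrArg Subtype.val hm
  rw [← hm', htinv]
  have h6 : t * (m.1⁻¹ * (t * m.1 * t)) * t = t * m.1⁻¹ * t * m.1 * (t * t) := by
    simp only [mul_assoc]
  rw [h6, ht, mul_one]
  have h7 : (m.1⁻¹ * (t * m.1 * t))⁻¹ = t⁻¹ * m.1⁻¹ * t⁻¹ * m.1 := by group
  rw [h7, htinv]

/-- a finite subgroup normalized by a four-group all of whose involutions act without fixed
points is trivial -/
lemma eq_bot_of_four_group {G : Type*} [Group G] (K : Subgroup G) [Finite K] (a b : G)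
    (ha : a * a = 1) (hb : b * b = 1)
    (hKa : ∀ k ∈ K, a * k * a⁻¹ ∈ K) (hKb : ∀ k ∈ K, b * k * b⁻¹ ∈ K)
    (hCa : ∀ k ∈ K, a * k = k * a → k = 1) (hCb : ∀ k ∈ K, b * k = k * b → k = 1)
    (hCab : ∀ k ∈ K, (a * b) * k = k * (a * b) → k = 1) : K = ⊥ := by
  have hia := inverts_of_fixed_point_free K a ha hKa hCa
  have hib := inverts_of_fixed_point_free K b hb hKb hCb
  rw [Subgroup.eq_bot_iff_forall]
  intro k hk
  apply hCab k hk
  have h1 : b * k * b⁻¹ = k⁻¹ := hib k hk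
  have h2 : a * k⁻¹ * a⁻¹ = k := by
    have := hia k⁻¹ (K.inv_mem hk)
    rw [inv_inv] at this
    exact this
  have h3 : a * b * k * (a * b)⁻¹ = k := by
    calc a * b * k * (a * b)⁻¹ = a * (b * k * b⁻¹) * a⁻¹ := by group
      _ = k := by rw [h1, h2]
  calc a * b * k = a * b * k * (a * b)⁻¹ * (a * b) := by group
    _ = k * (a * b) := by rw [h3]


/-! ### the large extraspecial property -/

lemma conj_mem_range (g h : GG n) (hg : g ∈ CC n) (hh : h ∈ (Φ : ES n 0 →* GG n).range) :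
    g * h * g⁻¹ ∈ (Φ : ES n 0 →* GG n).range := by
  let g' : ↥(CC n) := ⟨g, hg⟩
  let h' : ↥(CC n) := ⟨h, range_Φ_le hh⟩
  have h1 : π h' = 1 := (π_eq_one_iff h').mpr hh
  have h2 : π (g' * h' * g'⁻¹) = 1 := by
    rw [map_mul, map_mul, h1, mul_one, map_inv, mul_inv_cancel]
  exact (π_eq_one_iff _).mp h2

lemma z0_mem_center :
    (z0 : GG n) ∈ (Subgroup.center ↥(Φ : ES n 0 →* GG n).range).map
      (Φ : ES n 0 →* GG n).range.subtype := by
  refine ⟨⟨z0, ⟨zES, rfl⟩⟩, ?_, rfl⟩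
  rw [SetLike.mem_coe, Subgroup.mem_center_iff]
  rintro ⟨_, ⟨y, rfl⟩⟩
  apply Subtype.ext
  show Φ y * Φ zES = Φ zES * Φ y
  rw [← map_mul, ← map_mul, zES_central]

/-- the second involution -/
def xb (hn : 1 ≤ n) : ES n 0 := ⟨Pi.single ⟨0, hn⟩ (0, 1), 0⟩

lemma zES_mem_stdSub : (zES : ES n 0) ∈ ES.stdSub n 0 := by
  intro i
  simp [zES]

lemma xb_mem_stdSub (hn : 1 ≤ n) : xb hn ∈ ES.stdSub n 0 := by
  intro i
  constructor
  · show ((Pi.single (⟨0, hn⟩ : Fin n) ((0 : ZMod 2), (1 : ZMod 2)) : Fin n → ZMod 2 × ZMod 2) i).1 = 0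
    by_cases hi : i = ⟨0, hn⟩
    · rw [hi, Pi.single_eq_same]
    · rw [Pi.single_eq_of_ne hi]; rfl
  · simp

lemma zES_ne_one : (zES : ES n 0) ≠ 1 := by
  intro h
  have := congrArg ES.c h
  simp [zES] at this

lemma xb_ne_one (hn : 1 ≤ n) : xb hn ≠ 1 := by
  intro h
  have := congrFun (congrArg ES.v h) ⟨0, hn⟩
  simp [xb] at this

lemma zES_mul_xb_ne_one (hn : 1 ≤ n) : zES * xb hn ≠ 1 := by
  intro h
  have := congrArg ES.c h
  simp [zES, xb, β_zero_left] at this

theorem range_isLarge (hn : 1 ≤ n) :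
    Cfsg.IsLargeExtraspecial (Φ : ES n 0 →* GG n).range := by
  refine ⟨range_isExtraspecial hn, ?_, ?_, ?_⟩
  · ext g
    constructor
    · intro hg
      have hg' : ∀ h ∈ (Φ : ES n 0 →* GG n).range, h * g = g * h :=
        fun h hh => Subgroup.mem_centralizer_iff.mp hg h hh
      have hgE : g ∈ EE n := mem_EE_of_comm g (fun e he => hg' e (EE_le he))
      refine ⟨⟨g, EE_le hgE⟩, ?_, rfl⟩
      rw [SetLike.mem_coe, Subgroup.mem_center_iff]
      intro q
      apply Subtype.ext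
      exact hg' q.1 q.2
    · rintro ⟨c, hc, rfl⟩
      rw [Subgroup.mem_centralizer_iff]
      intro h hh
      have := Subgroup.mem_center_iff.mp hc ⟨h, hh⟩
      exact congrArg Subtype.val this
  · intro g hg
    have hgC : g ∈ CC n := by
      unfold CC
      rw [Subgroup.mem_centralizer_iff]
      intro y hy
      rw [Set.mem_singleton_iff] at hy
      subst hy
      exact Subgroup.mem_centralizer_iff.mp hg z0 z0_mem_center
    rw [Subgroup.mem_normalizer_iff]
    intro h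
    constructor
    · intro hh
      exact conj_mem_range g h hgC hh
    · intro hh
      have := conj_mem_range g⁻¹ _ ((CC n).inv_mem hgC) hh
      have h2 : g⁻¹ * (g * h * g⁻¹) * g⁻¹⁻¹ = h := by group
      rw [h2] at this
      exact this
  · intro K hodd hQK
    have hfin : Finite ↥K := Nat.finite_of_card_ne_zero (by
      intro h0
      rw [h0] at hodd
      exact absurd hodd (by decide))
    have hnorm : ∀ q ∈ (Φ : ES n 0 →* GG n).range, ∀ k ∈ K, q * k * q⁻¹ ∈ K := by
      intro q hq k hk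
      exact (Subgroup.mem_normalizer_iff.mp (hQK hq) k).mp hk
    have hEK : ∀ y ∈ EE n, y ∈ K → y = 1 := by
      intro y hyE hyK
      have h1 : y ^ 2 = 1 := EE_sq y hyE
      have h2 : y ^ Nat.card ↥K = 1 := by
        have := pow_card_eq_one' (G := ↥K) (x := ⟨y, hyK⟩)
        exact congrArg Subtype.val this
      have h3 : orderOf y ∣ Nat.gcd 2 (Nat.card ↥K) :=
        Nat.dvd_gcd (orderOf_dvd_of_pow_eq_one h1) (orderOf_dvd_of_pow_eq_one h2)
      have h4 : Nat.gcd 2 (Nat.card ↥K) = 1 := Nat.coprime_two_left.mpr hodd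
      rw [h4, Nat.dvd_one] at h3
      exact orderOf_eq_one_iff.mp h3
    have hfpf : ∀ e ∈ EE n, e ≠ 1 → ∀ k ∈ K, e * k = k * e → k = 1 := by
      intro e he he1 k hk hek
      have hP := inP_of_comm k e he he1 hek
      have hcomm : ∀ x ∈ EE n, x * k = k * x := by
        intro x hx
        have hc1 : k * x * k⁻¹ * x⁻¹ ∈ EE n :=
          (EE n).mul_mem (conj_mem_EE k x hP hx) ((EE n).inv_mem hx)
        have hc2 : k * x * k⁻¹ * x⁻¹ ∈ K := by
          have h1 : x * k⁻¹ * x⁻¹ ∈ K := hnorm x (EE_le hx) k⁻¹ (K.inv_mem hk)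
          have h2 : k * x * k⁻¹ * x⁻¹ = k * (x * k⁻¹ * x⁻¹) := by group
          rw [h2]
          exact K.mul_mem hk h1
        have hc3 := hEK _ hc1 hc2
        have h4 : k * x = k * x * k⁻¹ * x⁻¹ * (x * k) := by group
        rw [h4, hc3, one_mul]
      have hkE := mem_EE_of_comm k hcomm
      exact hEK k hkE hk
    have haE : (z0 : GG n) ∈ EE n := ⟨zES, zES_mem_stdSub, rfl⟩
    have hbE : Φ (xb hn) ∈ EE n := ⟨xb hn, xb_mem_stdSub hn, rfl⟩
    have habE : (z0 : GG n) * Φ (xb hn) ∈ EE n := (EE n).mul_mem haE hbE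
    have ha1 : (z0 : GG n) ≠ 1 := by
      intro h
      apply zES_ne_one (n := n)
      apply Φ_injective
      rw [map_one]
      exact h
    have hb1 : Φ (xb hn) ≠ 1 := by
      intro h
      apply xb_ne_one hn
      apply Φ_injective
      rw [map_one]
      exact h
    have hab1 : (z0 : GG n) * Φ (xb hn) ≠ 1 := by
      intro h
      apply zES_mul_xb_ne_one hn
      apply Φ_injective
      rw [map_one, map_mul]
      exact h
    have hsq : ∀ y ∈ EE n, y * y = 1 := by
      intro y hy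
      rw [← pow_two]
      exact EE_sq y hy
    exact eq_bot_of_four_group K z0 (Φ (xb hn)) (hsq _ haE) (hsq _ hbE)
      (hnorm _ (EE_le haE)) (hnorm _ (EE_le hbE))
      (hfpf _ haE ha1) (hfpf _ hbE hb1) (hfpf _ habE hab1)

end Cfsg.Agent.Lib.Helper5_LnTwo
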