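import Mathlib
import Cfsg.Prelude.Def_Transfer
import Cfsg.Agent.Lib.Helper5_LnTwo
import Cfsg.Agent.Lib.Helper5_Transv

set_option autoImplicit false
set_option linter.style.haveILetI false
set_option linter.unusedSectionVars false

namespace Cfsg.Agent.Lib.Helper5_AffineTwo

open Matrix
open scoped Pointwise

section coords

variable {G : Type*} [Group G]

/-- additive coordinates on an elementary abelian `2`-group of order `2 ^ d` -/
theorem exists_coords (U : Subgroup G) [Finite U] (hU : Cfsg.IsElementaryAbelian 2 U) (d : ℕ)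
    (hcard : Nat.card U = 2 ^ d) :
    ∃ κ : ↥U ≃ (Fin d → ZMod 2), ∀ u v : ↥U, κ (u * v) = κ u + κ v := by
  classical
  haveI : Fact (Nat.Prime 2) := ⟨Nat.prime_two⟩
  obtain ⟨hcomm, hexp⟩ := hU
  let inst1 : CommGroup U :=
    { (inferInstance : Group U) with mul_comm := fun a b => hcomm.is_comm.comm a b }
  let inst2 : Module (ZMod 2) (Additive U) := AddCommGroup.zmodModule (n := 2) (by
    intro x
    have h1 : (Additive.toMul x) ^ 2 = 1 := by
      apply Subtype.ext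
      have := hexp _ (Additive.toMul x).2
      simpa using this
    have h2 : Additive.ofMul ((Additive.toMul x) ^ 2) = 0 := by rw [h1]; rfl
    rw [ofMul_pow] at h2
    exact h2)
  haveI : Finite (Additive U) := inferInstanceAs (Finite U)
  have hcard' : Nat.card (Additive U) = 2 ^ d := hcard
  have hfin : Module.finrank (ZMod 2) (Additive U) = d := by
    have h1 := Module.natCard_eq_pow_finrank (K := ZMod 2) (V := Additive U)
    rw [hcard', Nat.card_zmod] at h1
    exact (Nat.pow_right_injective (le_refl 2) h1).symm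
  let b : Module.Basis (Fin d) (ZMod 2) (Additive U) :=
    Module.finBasisOfFinrankEq (ZMod 2) (Additive U) hfin
  refine ⟨Additive.ofMul.trans b.equivFun.toEquiv, ?_⟩
  intro u v
  show b.equivFun (Additive.ofMul (u * v)) = b.equivFun (Additive.ofMul u) + b.equivFun (Additive.ofMul v)
  rw [ofMul_mul, map_add]

end coords

section embed

variable {G : Type*} [Group G] {n : ℕ} {U M : Subgroup G} [U.Normal]
  (κ : ↥U ≃ (Fin (n + 1) → ZMod 2)) (hκ : ∀ u v : ↥U, κ (u * v) = κ u + κ v)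

include hκ in
lemma κ_symm_add (v w : Fin (n + 1) → ZMod 2) : κ.symm (v + w) = κ.symm v * κ.symm w := by
  apply κ.injective
  rw [hκ, Equiv.apply_symm_apply, Equiv.apply_symm_apply, Equiv.apply_symm_apply]

include hκ in
lemma κ_one : κ 1 = 0 := by
  have h := hκ 1 1
  rw [mul_one] at h
  have : κ 1 + 0 = κ 1 + κ 1 := by rw [add_zero]; exact h
  exact (add_left_cancel this).symm

include hκ in
lemma U_comm (u v : ↥U) : u * v = v * u := by
  apply κ.injective
  rw [hκ, hκ]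
  exact add_comm _ _

/-- conjugation in coordinates, as an additive map -/
def F (g : G) : (Fin (n + 1) → ZMod 2) →+ (Fin (n + 1) → ZMod 2) where
  toFun v := κ (MulAut.conjNormal g (κ.symm v))
  map_zero' := by
    have h0 : κ.symm 0 = 1 := by
      apply κ.injective
      rw [Equiv.apply_symm_apply, κ_one κ hκ]
    rw [h0, map_one, κ_one κ hκ]
  map_add' v w := by
    rw [κ_symm_add κ hκ, map_mul, hκ]

/-- the matrix of conjugation -/
def Mat (g : G) : Matrix (Fin (n + 1)) (Fin (n + 1)) (ZMod 2) :=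
  LinearMap.toMatrix' ((F κ hκ g).toZModLinearMap 2)

lemma Mat_mulVec (g : G) (v : Fin (n + 1) → ZMod 2) :
    Mat κ hκ g *ᵥ v = κ (MulAut.conjNormal g (κ.symm v)) := by
  unfold Mat
  rw [LinearMap.toMatrix'_mulVec]
  rfl

lemma Mat_mulVec_κ (g : G) (u : ↥U) :
    Mat κ hκ g *ᵥ κ u = κ (MulAut.conjNormal g u) := by
  rw [Mat_mulVec, Equiv.symm_apply_apply]

lemma Mat_eq_of (g : G) (A : Matrix (Fin (n + 1)) (Fin (n + 1)) (ZMod 2))
    (h : ∀ u : ↥U, A *ᵥ κ u = κ (MulAut.conjNormal g u)) : Mat κ hκ g = A := by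
  apply Matrix.toLin'.injective
  apply LinearMap.ext
  intro v
  rw [Matrix.toLin'_apply, Matrix.toLin'_apply, Mat_mulVec]
  have := h (κ.symm v)
  rw [Equiv.apply_symm_apply] at this
  exact this.symm

lemma Mat_one : Mat κ hκ (1 : G) = 1 := by
  apply Mat_eq_of
  intro u
  rw [Matrix.one_mulVec, map_one]
  rfl

lemma Mat_mul (g g' : G) : Mat κ hκ (g * g') = Mat κ hκ g * Mat κ hκ g' := by
  apply Mat_eq_of
  intro u
  rw [← Matrix.mulVec_mulVec, Mat_mulVec_κ, Mat_mulVec_κ, map_mul]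
  rfl

lemma Mat_of_mem (u : G) (hu : u ∈ U) : Mat κ hκ u = 1 := by
  apply Mat_eq_of
  intro v
  rw [Matrix.one_mulVec]
  congr 1
  apply Subtype.ext
  rw [MulAut.conjNormal_apply]
  have := congrArg Subtype.val (U_comm κ hκ ⟨u, hu⟩ v)
  simp only [Subgroup.coe_mul] at this
  rw [this, mul_inv_cancel_right]


/-! ### the semidirect decomposition -/

variable (hUM : U ⊓ M = ⊥) (hUM' : U ⊔ M = ⊤)

include hUM' in
lemma exists_decomp (g : G) : ∃ u : ↥U, ∃ m : ↥M, g = u * m := by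
  have hg : g ∈ U ⊔ M := by rw [hUM']; trivial
  have h2 : g ∈ ((U : Set G) * (M : Set G)) := by
    rw [← Subgroup.normal_mul]
    exact hg
  obtain ⟨u, hu, m, hm, rfl⟩ := Set.mem_mul.mp h2
  exact ⟨⟨u, hu⟩, ⟨m, hm⟩, rfl⟩

include hUM in
lemma decomp_unique (u u' : ↥U) (m m' : ↥M) (h : (u : G) * m = u' * m') : u = u' ∧ m = m' := by
  have h1 : (u' : G)⁻¹ * u = m' * (m : G)⁻¹ := by
    calc (u' : G)⁻¹ * u = (u' : G)⁻¹ * (u * m) * (m : G)⁻¹ := by group
      _ = (u' : G)⁻¹ * (u' * m') * (m : G)⁻¹ := by rw [h]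
      _ = m' * (m : G)⁻¹ := by group
  have h2 : (u' : G)⁻¹ * u ∈ U ⊓ M := by
    refine ⟨U.mul_mem (U.inv_mem u'.2) u.2, ?_⟩
    rw [h1]
    exact M.mul_mem m'.2 (M.inv_mem m.2)
  rw [hUM, Subgroup.mem_bot] at h2
  have h3 : (u : G) = u' := by
    calc (u : G) = u' * ((u' : G)⁻¹ * u) := by group
      _ = u' := by rw [h2, mul_one]
  have h4 : (m : G) = m' := by
    rw [h3] at h
    exact mul_left_cancel h
  exact ⟨Subtype.ext h3, Subtype.ext h4⟩

/-- the `U`-part -/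
noncomputable def uPart (g : G) : ↥U := Classical.choose (exists_decomp (U := U) (M := M) hUM' g)

/-- the `M`-part -/
noncomputable def mPart (g : G) : ↥M :=
  Classical.choose (Classical.choose_spec (exists_decomp (U := U) (M := M) hUM' g))

lemma up_mul_mp (g : G) : g = (uPart hUM' g : G) * (mPart hUM' g : G) :=
  Classical.choose_spec (Classical.choose_spec (exists_decomp (U := U) (M := M) hUM' g))

include hUM in
lemma up_mp_eq (g : G) (u : ↥U) (m : ↥M) (h : g = u * m) : uPart hUM' g = u ∧ mPart hUM' g = m := by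
  apply decomp_unique hUM
  rw [← h]
  exact (up_mul_mp hUM' g).symm

include hκ hUM in
lemma up_mul (g g' : G) :
    uPart hUM' (g * g') = uPart hUM' g * MulAut.conjNormal g (uPart hUM' g') := by
  have hg := up_mul_mp hUM' g
  have hg' := up_mul_mp hUM' g'
  set u := uPart hUM' g
  set m := mPart hUM' g
  set u' := uPart hUM' g'
  set m' := mPart hUM' g'
  have hc : ((MulAut.conjNormal g u' : ↥U) : G) = m * u' * (m : G)⁻¹ := by
    rw [MulAut.conjNormal_apply, hg]
    have h1 : (m : G) * u' * (m : G)⁻¹ ∈ U := Subgroup.Normal.conj_mem inferInstance _ u'.2 _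
    have h2 := congrArg Subtype.val (U_comm κ hκ u ⟨_, h1⟩)
    simp only [Subgroup.coe_mul] at h2
    calc (u : G) * m * u' * ((u : G) * m)⁻¹ = (u * (m * u' * (m : G)⁻¹)) * (u : G)⁻¹ := by group
      _ = ((m * u' * (m : G)⁻¹) * u) * (u : G)⁻¹ := by rw [h2]
      _ = m * u' * (m : G)⁻¹ := by group
  refine (up_mp_eq hUM hUM' (g * g') (u * MulAut.conjNormal g u') (m * m') ?_).1
  rw [Subgroup.coe_mul, Subgroup.coe_mul, hc]
  conv_lhs => rw [hg, hg']
  group

include hκ hUM in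
lemma up_of_mem_U (u : G) (hu : u ∈ U) : uPart hUM' u = ⟨u, hu⟩ :=
  (up_mp_eq hUM hUM' u ⟨u, hu⟩ 1 (by simp)).1

include hκ hUM in
lemma up_of_mem_M (m : G) (hm : m ∈ M) : uPart hUM' m = 1 :=
  (up_mp_eq hUM hUM' m 1 ⟨m, hm⟩ (by simp)).1

/-- the translation part -/
noncomputable def bvec (g : G) : Fin (n + 1) → ZMod 2 := κ (uPart hUM' g)

include hUM in
lemma bvec_mul (g g' : G) :
    bvec κ hUM' (g * g') = bvec κ hUM' g + Mat κ hκ g *ᵥ bvec κ hUM' g' := by
  unfold bvec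
  rw [up_mul κ hκ hUM hUM', hκ, Mat_mulVec_κ]

include hκ hUM in
lemma bvec_one : bvec κ hUM' (1 : G) = 0 := by
  unfold bvec
  rw [up_of_mem_U κ hκ hUM hUM' 1 U.one_mem]
  exact κ_one κ hκ


/-! ### the matrix of an element -/

/-- the affine matrix -/
noncomputable def ι₀ (g : G) : Matrix (Fin (n + 2)) (Fin (n + 2)) (ZMod 2) :=
  Matrix.of fun i j =>
    Fin.cases (motive := fun _ => ZMod 2) (Fin.cases (motive := fun _ => ZMod 2) 1 (fun _ => 0) j)
      (fun a => Fin.cases (motive := fun _ => ZMod 2) (bvec κ hUM' g a) (fun c => Mat κ hκ g a c) j) i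

@[simp] lemma ι₀_zero_zero (g : G) : ι₀ κ hκ hUM' g 0 0 = 1 := rfl
@[simp] lemma ι₀_zero_succ (g : G) (c : Fin (n + 1)) : ι₀ κ hκ hUM' g 0 c.succ = 0 := rfl
@[simp] lemma ι₀_succ_zero (g : G) (a : Fin (n + 1)) :
    ι₀ κ hκ hUM' g a.succ 0 = bvec κ hUM' g a := rfl
@[simp] lemma ι₀_succ_succ (g : G) (a c : Fin (n + 1)) :
    ι₀ κ hκ hUM' g a.succ c.succ = Mat κ hκ g a c := rfl

include hUM in
lemma ι₀_mul (g g' : G) : ι₀ κ hκ hUM' (g * g') = ι₀ κ hκ hUM' g * ι₀ κ hκ hUM' g' := by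
  ext i j
  rw [Matrix.mul_apply, Fin.sum_univ_succ]
  induction i using Fin.cases with
  | zero =>
    simp only [ι₀_zero_zero, ι₀_zero_succ, one_mul, zero_mul, Finset.sum_const_zero, add_zero]
    induction j using Fin.cases with
    | zero => simp
    | succ c => simp
  | succ a =>
    induction j using Fin.cases with
    | zero =>
      simp only [ι₀_succ_zero, ι₀_succ_succ, ι₀_zero_zero, mul_one]
      rw [bvec_mul κ hκ hUM hUM']
      rfl
    | succ c =>
      simp only [ι₀_succ_zero, ι₀_succ_succ, ι₀_zero_succ, mul_zero, zero_add]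
      rw [Mat_mul, Matrix.mul_apply]

include hUM in
lemma ι₀_one : ι₀ κ hκ hUM' (1 : G) = 1 := by
  ext i j
  induction i using Fin.cases with
  | zero =>
    induction j using Fin.cases with
    | zero => simp
    | succ c => simp [Fin.succ_ne_zero c, (Fin.succ_ne_zero c).symm]
  | succ a =>
    induction j using Fin.cases with
    | zero => simp [bvec_one κ hκ hUM hUM', Fin.succ_ne_zero a]
    | succ c => simp [Mat_one, Matrix.one_apply]


open Cfsg.Agent.Lib.Helper5_LnTwo in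
/-- the embedding into `SL_{n+2}(2)` -/
noncomputable def ι₁ : G →* Matrix.SpecialLinearGroup (Fin (n + 2)) (ZMod 2) where
  toFun g := ⟨ι₀ κ hκ hUM' g, det_eq_one_of_mul_eq_one _ (ι₀ κ hκ hUM' g⁻¹) (by
    rw [← ι₀_mul κ hκ hUM hUM', mul_inv_cancel, ι₀_one κ hκ hUM hUM'])⟩
  map_one' := Subtype.ext (ι₀_one κ hκ hUM hUM')
  map_mul' g g' := Subtype.ext (ι₀_mul κ hκ hUM hUM' g g')

lemma ι₁_coe (g : G) : (ι₁ κ hκ hUM hUM' g).1 = ι₀ κ hκ hUM' g := rfl

lemma ι₁_injective (hfaith : ∀ m ∈ M, (∀ u ∈ U, m * u * m⁻¹ = u) → m = 1) :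
    Function.Injective (ι₁ κ hκ hUM hUM') := by
  rw [injective_iff_map_eq_one]
  intro g hg
  have h0 : ι₀ κ hκ hUM' g = 1 := congrArg Subtype.val hg
  have hb : bvec κ hUM' g = 0 := by
    funext a
    have := congrFun (congrFun h0 a.succ) 0
    rw [ι₀_succ_zero, Matrix.one_apply_ne (Fin.succ_ne_zero a)] at this
    exact this
  have hM : Mat κ hκ g = 1 := by
    ext a c
    have := congrFun (congrFun h0 a.succ) c.succ
    rw [ι₀_succ_succ] at this
    rw [this, Matrix.one_apply, Matrix.one_apply]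
    simp [Fin.succ_inj]
  have hu : uPart hUM' g = 1 := by
    apply κ.injective
    rw [κ_one κ hκ]
    exact hb
  have hgm : g = (mPart hUM' g : G) := by
    have := up_mul_mp hUM' g
    rw [hu, Subgroup.coe_one, one_mul] at this
    exact this
  have hgM : g ∈ M := by rw [hgm]; exact (mPart hUM' g).2
  apply hfaith g hgM
  intro u hu'
  have h1 := Mat_mulVec_κ κ hκ g ⟨u, hu'⟩
  rw [hM, Matrix.one_mulVec] at h1
  have h2 := congrArg Subtype.val (κ.injective h1)
  rw [MulAut.conjNormal_apply] at h2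
  exact h2.symm

/-- first row trivial -/
def Row0 (X : Matrix (Fin (n + 2)) (Fin (n + 2)) (ZMod 2)) : Prop :=
  (Pi.single 0 1 : Fin (n + 2) → ZMod 2) ᵥ* X = Pi.single 0 1

lemma row0_iff (X : Matrix (Fin (n + 2)) (Fin (n + 2)) (ZMod 2)) :
    Row0 X ↔ ∀ j, X 0 j = if j = 0 then 1 else 0 := by
  unfold Row0
  rw [Matrix.single_one_vecMul]
  constructor
  · intro h j
    have := congrFun h j
    rw [Matrix.row_apply] at this
    rw [this, Pi.single_apply]
  · intro h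
    funext j
    rw [Matrix.row_apply, h j, Pi.single_apply]

lemma row0_inv (h : Matrix.SpecialLinearGroup (Fin (n + 2)) (ZMod 2)) (hh : Row0 h.1) :
    Row0 (h⁻¹).1 := by
  unfold Row0 at hh ⊢
  conv_lhs => rw [← hh]
  rw [Matrix.vecMul_vecMul]
  have : h.1 * (h⁻¹).1 = 1 := by
    have := congrArg Subtype.val (mul_inv_cancel h)
    exact this
  rw [this, Matrix.vecMul_one]

lemma sub_mul (X Y : Matrix (Fin (n + 2)) (Fin (n + 2)) (ZMod 2)) (hY : Row0 Y) :
    (X * Y).submatrix Fin.succ Fin.succ = X.submatrix Fin.succ Fin.succ * Y.submatrix Fin.succ Fin.succ := by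
  ext a c
  rw [Matrix.submatrix_apply, Matrix.mul_apply, Fin.sum_univ_succ, Matrix.mul_apply]
  have := (row0_iff Y).mp hY c.succ
  rw [this, if_neg (Fin.succ_ne_zero c), mul_zero, zero_add]
  rfl

include hκ hUM in
lemma mem_range_of_row0 (hfull : ∀ φ : ↥U ≃* ↥U, ∃ m ∈ M, ∀ u : ↥U, ((φ u : ↥U) : G) = m * u * m⁻¹)
    (h : Matrix.SpecialLinearGroup (Fin (n + 2)) (ZMod 2)) (hh : Row0 h.1) :
    h ∈ (ι₁ κ hκ hUM hUM').range := by
  set A := h.1.submatrix Fin.succ Fin.succ with hA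
  set A' := (h⁻¹).1.submatrix Fin.succ Fin.succ with hA'
  have hh' := row0_inv h hh
  have h1 : A * A' = 1 := by
    rw [hA, hA', ← sub_mul _ _ hh']
    have : h.1 * (h⁻¹).1 = 1 := congrArg Subtype.val (mul_inv_cancel h)
    rw [this]
    ext a c
    simp [Matrix.one_apply, Fin.succ_inj]
  have h2 : A' * A = 1 := by
    rw [hA, hA', ← sub_mul _ _ hh]
    have : (h⁻¹).1 * h.1 = 1 := congrArg Subtype.val (inv_mul_cancel h)
    rw [this]
    ext a c
    simp [Matrix.one_apply, Fin.succ_inj]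
  let φ : ↥U ≃* ↥U :=
    { toFun := fun u => κ.symm (A *ᵥ κ u)
      invFun := fun u => κ.symm (A' *ᵥ κ u)
      left_inv := by
        intro u
        show κ.symm (A' *ᵥ κ (κ.symm (A *ᵥ κ u))) = u
        rw [Equiv.apply_symm_apply, Matrix.mulVec_mulVec, h2, Matrix.one_mulVec,
          Equiv.symm_apply_apply]
      right_inv := by
        intro u
        show κ.symm (A *ᵥ κ (κ.symm (A' *ᵥ κ u))) = u
        rw [Equiv.apply_symm_apply, Matrix.mulVec_mulVec, h1, Matrix.one_mulVec,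
          Equiv.symm_apply_apply]
      map_mul' := by
        intro u v
        show κ.symm (A *ᵥ κ (u * v)) = κ.symm (A *ᵥ κ u) * κ.symm (A *ᵥ κ v)
        rw [hκ, Matrix.mulVec_add, κ_symm_add κ hκ] }
  obtain ⟨m, hm, hφ⟩ := hfull φ
  have hMat : Mat κ hκ m = A := by
    apply Mat_eq_of
    intro u
    have : MulAut.conjNormal m u = φ u := by
      apply Subtype.ext
      rw [MulAut.conjNormal_apply, hφ]
    rw [this]
    show A *ᵥ κ u = κ (κ.symm (A *ᵥ κ u))
    rw [Equiv.apply_symm_apply]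
  let b : Fin (n + 1) → ZMod 2 := fun a => h.1 a.succ 0
  let u₀ : ↥U := κ.symm b
  refine ⟨(u₀ : G) * m, ?_⟩
  apply Subtype.ext
  rw [ι₁_coe]
  have hup : uPart hUM' ((u₀ : G) * m) = u₀ :=
    (up_mp_eq hUM hUM' _ u₀ ⟨m, hm⟩ rfl).1
  have hbv : bvec κ hUM' ((u₀ : G) * m) = b := by
    unfold bvec
    rw [hup]
    exact Equiv.apply_symm_apply _ _
  have hMat' : Mat κ hκ ((u₀ : G) * m) = A := by
    rw [Mat_mul, Mat_of_mem κ hκ _ u₀.2, one_mul, hMat]
  ext i j
  induction i using Fin.cases with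
  | zero =>
    rw [(row0_iff _).mp hh j]
    induction j using Fin.cases with
    | zero => simp
    | succ c => simp [Fin.succ_ne_zero c]
  | succ a =>
    induction j using Fin.cases with
    | zero => rw [ι₀_succ_zero, hbv]
    | succ c => rw [ι₀_succ_succ, hMat']; rfl

include hUM in
lemma ι₁_of_mem_U (u : G) (hu : u ∈ U) :
    ∃ v : Fin (n + 2) → ZMod 2, v 0 = 0 ∧
      (ι₁ κ hκ hUM hUM' u).1 = Cfsg.Agent.Lib.Helper5_Transv.tv v (Pi.single 0 1) 1 := by
  refine ⟨Fin.cons 0 (κ ⟨u, hu⟩), rfl, ?_⟩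
  rw [ι₁_coe]
  unfold Cfsg.Agent.Lib.Helper5_Transv.tv
  rw [one_smul]
  have hb : bvec κ hUM' u = κ ⟨u, hu⟩ := by
    unfold bvec
    rw [up_of_mem_U κ hκ hUM hUM' u hu]
  ext i j
  rw [Matrix.add_apply, Matrix.vecMulVec_apply]
  induction i using Fin.cases with
  | zero =>
    induction j using Fin.cases with
    | zero => simp
    | succ c => simp [(Fin.succ_ne_zero c).symm]
  | succ a =>
    induction j using Fin.cases with
    | zero => simp [hb, Fin.succ_ne_zero a]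
    | succ c => simp [Mat_of_mem κ hκ u hu, Matrix.one_apply, Fin.succ_ne_zero c]

end embed

open Cfsg.Agent.Lib.Helper5_LnTwo
open Cfsg.Agent.Lib.Helper5_Transv

lemma tv_e0_e1 (n : ℕ) :
    tv (e (0 : Fin (n + 2)) : Fin (n + 2) → ZMod 2) (e 1) 1 = Matrix.transvection 0 1 1 := by
  unfold tv Matrix.transvection
  rw [one_smul]
  congr 1
  ext i j
  rw [Matrix.vecMulVec_apply, Matrix.single_apply]
  show (Pi.single 0 1 : Fin (n + 2) → ZMod 2) i * (Pi.single 1 1 : Fin (n + 2) → ZMod 2) j = _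
  rw [Pi.single_apply, Pi.single_apply]
  by_cases hi : i = 0 <;> by_cases hj : j = 1 <;> simp [hi, hj, eq_comm]

theorem exists_embedding {G : Type*} [Group G] [Finite G] (n : ℕ) (hn : 1 ≤ n) (U M : Subgroup G)
    [U.Normal]
    (hU : Cfsg.IsElementaryAbelian 2 U) (hUcard : Nat.card ↥U = 2 ^ (n + 1)) (hUM : U ⊓ M = ⊥)
    (hUM' : U ⊔ M = ⊤) (hfaith : ∀ m ∈ M, (∀ u ∈ U, m * u * m⁻¹ = u) → m = 1)
    (hfull : ∀ φ : ↥U ≃* ↥U, ∃ m ∈ M, ∀ u : ↥U, ((φ u : ↥U) : G) = m * u * m⁻¹)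
    (z : G) (hz : z ∈ U) (hz1 : z ≠ 1) :
    ∃ ι : G →* GG n, Function.Injective ι ∧ ι z = z0 ∧ CC n ≤ ι.range := by
  obtain ⟨κ, hκ⟩ := exists_coords U hU (n + 1) hUcard
  have hinj := ι₁_injective κ hκ hUM hUM' hfaith
  obtain ⟨v, hv0, hv⟩ := ι₁_of_mem_U κ hκ hUM hUM' z hz
  have hvne : v ≠ 0 := by
    intro h0
    apply hz1
    apply hinj
    rw [map_one]
    apply Subtype.ext
    rw [hv, h0]
    unfold tv
    simp
  have h01 : (0 : Fin (n + 2)) ≠ 1 := zero_ne_one' (n := n)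
  have h02 : (0 : Fin (n + 2)) ≠ Helper5_LnTwo.up (⟨0, hn⟩ : Fin n) := zero_ne_up _
  have h12 : (1 : Fin (n + 2)) ≠ Helper5_LnTwo.up (⟨0, hn⟩ : Fin n) := one_ne_up _
  have he0 : (e (0 : Fin (n + 2)) : Fin (n + 2) → ZMod 2) ≠ 0 := by
    intro h
    have := congrFun h 0
    simp at this
  have hdot : (e (0 : Fin (n + 2)) : Fin (n + 2) → ZMod 2) ⬝ᵥ v = 0 := by
    rw [e_dot]; exact hv0
  obtain ⟨g, hg1, hg2⟩ := exists_conj h01 h02 h12 v (e 0) hvne he0 hdot
  have hgg : (g⁻¹).1 * g.1 = 1 := congrArg Subtype.val (inv_mul_cancel g)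
  have hgg' : g.1 * (g⁻¹).1 = 1 := congrArg Subtype.val (mul_inv_cancel g)
  have hg1' : (g⁻¹).1 *ᵥ v = e 0 := by
    rw [← hg1, Matrix.mulVec_mulVec, hgg, Matrix.one_mulVec]
  have hg2' : (e (0 : Fin (n + 2)) : Fin (n + 2) → ZMod 2) ᵥ* g.1 = e 1 := by
    rw [← hg2, Matrix.vecMul_vecMul, hgg, Matrix.vecMul_one]
  refine ⟨(MulAut.conj g⁻¹).toMonoidHom.comp (ι₁ κ hκ hUM hUM'), ?_, ?_, ?_⟩
  · exact (MulAut.conj g⁻¹).injective.comp hinj
  · apply Subtype.ext
    show (g⁻¹ * ι₁ κ hκ hUM hUM' z * g⁻¹⁻¹).1 = (z0 : GG n).1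
    rw [z0_coe]
    show (g⁻¹).1 * (ι₁ κ hκ hUM hUM' z).1 * (g⁻¹⁻¹).1 = _
    rw [hv, conj_tv, hg1', inv_inv, hg2', tv_e0_e1]
  · intro x hx
    have hInC := (mem_CC_iff x).mp hx
    have hrow : (e (1 : Fin (n + 2)) : Fin (n + 2) → ZMod 2) ᵥ* x.1 = e 1 := by
      rw [Matrix.single_one_vecMul]
      funext l
      rw [Matrix.row_apply, hInC.2 l]
      show _ = (Pi.single 1 1 : Fin (n + 2) → ZMod 2) l
      rw [Pi.single_apply]
    have hR : Row0 (g * x * g⁻¹).1 := by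
      unfold Row0
      show (e (0 : Fin (n + 2)) : Fin (n + 2) → ZMod 2) ᵥ* (g.1 * x.1 * (g⁻¹).1) = e 0
      rw [← Matrix.vecMul_vecMul, ← Matrix.vecMul_vecMul, hg2', hrow, hg2]
    obtain ⟨w, hw⟩ := mem_range_of_row0 κ hκ hUM hUM' hfull _ hR
    refine ⟨w, ?_⟩
    show g⁻¹ * ι₁ κ hκ hUM hUM' w * g⁻¹⁻¹ = x
    rw [hw]
    group

end Cfsg.Agent.Lib.Helper5_AffineTwo
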