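import Mathlib
import Cfsg.Prelude.Def_Transfer
import Cfsg.Prelude.Def_MonsterType
import Cfsg.Agent.Lib.Helper5_LnTwo
import Cfsg.Agent.Lib.Helper5_Transv
import Cfsg.Agent.Lib.Helper1_Cores
import Cfsg.Agent.Lib.Helper63_Heisenberg

set_option autoImplicit false
set_option linter.style.haveILetI false
set_option linter.unusedSectionVars false

namespace Cfsg.Agent.Lib.Helper5_AffineTwo

open Cfsg.Agent.Lib.Helper5_LnTwo

section transport

variable {G H : Type*} [Group G] [Group H] (ι : G →* H) (hι : Function.Injective ι)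

include hι in
lemma mem_iff_of_map_eq {Q : Subgroup G} {R : Subgroup H} (h : Q.map ι = R) (x : G) :
    x ∈ Q ↔ ι x ∈ R := by
  rw [← h]
  constructor
  · intro hx; exact ⟨x, hx, rfl⟩
  · rintro ⟨q, hq, hqx⟩
    rw [← hι hqx]; exact hq

theorem pCore_map_equiv (p : ℕ) [Fact p.Prime] (e : G ≃* H) :
    (Cfsg.pCore p G).map e.toMonoidHom = Cfsg.pCore p H := by
  apply le_antisymm
  · apply Cfsg.Agent.Lib.Helper1_Cores.le_pCore
    · exact (Cfsg.Agent.Lib.Helper1_Cores.pCore_normal p).map _ e.surjective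
    · exact (Cfsg.Agent.Lib.Helper1_Cores.pCore_isPGroup p).map _
  · have h1 : (Cfsg.pCore p H).map e.symm.toMonoidHom ≤ Cfsg.pCore p G := by
      apply Cfsg.Agent.Lib.Helper1_Cores.le_pCore
      · exact (Cfsg.Agent.Lib.Helper1_Cores.pCore_normal p).map _ e.symm.surjective
      · exact (Cfsg.Agent.Lib.Helper1_Cores.pCore_isPGroup p).map _
    intro y hy
    refine ⟨e.symm y, h1 ⟨y, hy, rfl⟩, ?_⟩
    exact e.apply_symm_apply y

lemma mem_center_map_subtype (Q : Subgroup G) (x : G) :
    x ∈ (Subgroup.center ↥Q).map Q.subtype ↔ x ∈ Q ∧ ∀ q ∈ Q, q * x = x * q := by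
  constructor
  · rintro ⟨y, hy, rfl⟩
    refine ⟨y.2, fun q hq => ?_⟩
    have := Subgroup.mem_center_iff.mp hy ⟨q, hq⟩
    exact congrArg Subtype.val this
  · rintro ⟨hx, hc⟩
    refine ⟨⟨x, hx⟩, ?_, rfl⟩
    show (⟨x, hx⟩ : ↥Q) ∈ Subgroup.center ↥Q
    rw [Subgroup.mem_center_iff]
    intro q
    exact Subtype.ext (hc q.1 q.2)

include hι in
lemma mem_center_iff_of_map_eq {Q : Subgroup G} {R : Subgroup H} (h : Q.map ι = R) (x : G) :
    x ∈ (Subgroup.center ↥Q).map Q.subtype ↔ ι x ∈ (Subgroup.center ↥R).map R.subtype := by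
  rw [mem_center_map_subtype, mem_center_map_subtype, mem_iff_of_map_eq ι hι h]
  apply and_congr Iff.rfl
  constructor
  · intro hc r hr
    rw [← h] at hr
    obtain ⟨q, hq, rfl⟩ := hr
    rw [← map_mul, ← map_mul, hc q hq]
  · intro hc q hq
    apply hι
    rw [map_mul, map_mul]
    exact hc _ ((mem_iff_of_map_eq ι hι h q).mp hq)

include hι in
theorem isLarge_of_map {Q : Subgroup G} {R : Subgroup H} (h : Q.map ι = R)
    (hQ : Cfsg.IsExtraspecial 2 ↥Q) (hR : Cfsg.IsLargeExtraspecial R) :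
    Cfsg.IsLargeExtraspecial Q := by
  obtain ⟨-, hR2, hR3, hR4⟩ := hR
  refine ⟨hQ, ?_, ?_, ?_⟩
  · ext g
    rw [mem_center_iff_of_map_eq ι hι h, ← hR2, Subgroup.mem_centralizer_iff,
      Subgroup.mem_centralizer_iff]
    constructor
    · intro hc r hr
      rw [SetLike.mem_coe, ← h] at hr
      obtain ⟨q, hq, rfl⟩ := hr
      rw [← map_mul, ← map_mul, hc q hq]
    · intro hc q hq
      apply hι
      rw [map_mul, map_mul]
      exact hc _ ((mem_iff_of_map_eq ι hι h q).mp hq)
  · intro g hg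
    have h1 : ι g ∈ Subgroup.centralizer
        (((Subgroup.center ↥R).map R.subtype : Subgroup H) : Set H) := by
      rw [Subgroup.mem_centralizer_iff]
      intro r hr
      have hrR : r ∈ R := ((mem_center_map_subtype R r).mp hr).1
      rw [← h] at hrR
      obtain ⟨q, hq, rfl⟩ := hrR
      have hqc : q ∈ (Subgroup.center ↥Q).map Q.subtype :=
        (mem_center_iff_of_map_eq ι hι h q).mpr hr
      rw [← map_mul, ← map_mul, (Subgroup.mem_centralizer_iff.mp hg) q hqc]
    have h2 := hR3 h1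
    rw [Subgroup.mem_normalizer_iff] at h2 ⊢
    intro x
    rw [mem_iff_of_map_eq ι hι h, mem_iff_of_map_eq ι hι h, h2 (ι x), map_mul, map_mul, map_inv]
  · intro K hK hQK
    have h1 : Odd (Nat.card ↥(K.map ι)) := by
      rw [Subgroup.card_map_of_injective hι]; exact hK
    have h2 : R ≤ Subgroup.normalizer ((K.map ι : Subgroup H) : Set H) := by
      intro r hr
      rw [← h] at hr
      obtain ⟨q, hq, rfl⟩ := hr
      have hqK := hQK hq
      rw [Subgroup.mem_normalizer_iff] at hqK ⊢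
      intro y
      constructor
      · rintro ⟨k, hk, rfl⟩
        refine ⟨q * k * q⁻¹, (hqK k).mp hk, ?_⟩
        rw [map_mul, map_mul, map_inv]
      · rintro ⟨k, hk, hky⟩
        refine ⟨q⁻¹ * k * q, ?_, ?_⟩
        · show q⁻¹ * k * q ∈ K
          rw [hqK]
          have : q * (q⁻¹ * k * q) * q⁻¹ = k := by group
          rw [this]; exact hk
        · rw [map_mul, map_mul, map_inv, hky]
          group
    have h3 := hR4 _ h1 h2
    exact (Subgroup.map_eq_bot_iff_of_injective K hι).mp h3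

end transport

end Cfsg.Agent.Lib.Helper5_AffineTwo
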