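import Mathlib
import Cfsg.Prelude.Def_Transfer
import Cfsg.Prelude.Def_MonsterType
import Cfsg.Agent.Lib.Helper5_LnTwo
import Cfsg.Agent.Lib.Helper5_Transv
import Cfsg.Agent.Lib.Helper1_Cores
import Cfsg.Agent.Lib.Helper63_Heisenberg
import Cfsg.Agent.Lib.Helper5_AffineTwoA
import Cfsg.Agent.Lib.Helper5_AffineTwoB

set_option autoImplicit false
set_option linter.style.haveILetI false
set_option linter.unusedSectionVars false

namespace Cfsg.Agent.Lib.Helper5_AffineTwo

open Cfsg.Agent.Lib.Helper5_LnTwo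
open Cfsg.Agent.S5396

lemma sl_one_eq_one (A : Matrix.SpecialLinearGroup (Fin 1) (ZMod 2)) : A = 1 := by
  apply Subtype.ext
  ext i j
  have hi : i = 0 := Subsingleton.elim _ _
  have hj : j = 0 := Subsingleton.elim _ _
  subst hi; subst hj
  have := A.2
  rw [Matrix.det_fin_one] at this
  rw [this]
  simp

theorem pCore_eq' {n : ℕ} (hn : 1 ≤ n) : Cfsg.pCore 2 ↥(CC n) = Qc n := by
  rcases Nat.lt_or_ge n 2 with h | h
  · have h1 : n = 1 := by omega
    subst h1
    apply le_antisymm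
    · intro x _
      show π x = 1
      exact sl_one_eq_one _
    · exact Cfsg.Agent.Lib.Helper1_Cores.le_pCore (MonoidHom.normal_ker _) Qc_isPGroup
  · exact pCore_eq h

theorem pCore_map_eq' {n : ℕ} (hn : 1 ≤ n) :
    (Cfsg.pCore 2 ↥(CC n)).map (CC n).subtype = (Φ : ES n 0 →* GG n).range := by
  rw [pCore_eq' hn, Qc_map]

/-- `SL_n(2) = GL_n(2)` -/
noncomputable def slEquivGL (n : ℕ) :
    Matrix.SpecialLinearGroup (Fin n) (ZMod 2) ≃* Matrix.GeneralLinearGroup (Fin n) (ZMod 2) :=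
  MulEquiv.ofBijective (Matrix.SpecialLinearGroup.toGL : _ →* _) (by
    constructor
    · intro A B hAB
      apply Subtype.ext
      have := congrArg (fun g : Matrix.GeneralLinearGroup (Fin n) (ZMod 2) =>
        (g : Matrix (Fin n) (Fin n) (ZMod 2))) hAB
      exact this
    · intro g
      have hdet : (g : Matrix (Fin n) (Fin n) (ZMod 2)).det = 1 := by
        have h1 : (g : Matrix (Fin n) (Fin n) (ZMod 2)) * ((g⁻¹ : Matrix.GeneralLinearGroup (Fin n) (ZMod 2)) : Matrix (Fin n) (Fin n) (ZMod 2)) = 1 := by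
          rw [← Matrix.GeneralLinearGroup.coe_mul, mul_inv_cancel]
          rfl
        exact det_eq_one_of_mul_eq_one _ _ h1
      refine ⟨⟨g, hdet⟩, ?_⟩
      apply Matrix.GeneralLinearGroup.ext
      intro i j
      rfl)


theorem main {G : Type*} [Group G] [Finite G] (n : ℕ) (hn : 1 ≤ n) (U M : Subgroup G) [U.Normal]
    (hU : Cfsg.IsElementaryAbelian 2 U) (hUcard : Nat.card ↥U = 2 ^ (n + 1)) (hUM : U ⊓ M = ⊥)
    (hUM' : U ⊔ M = ⊤) (hfaith : ∀ m ∈ M, (∀ u ∈ U, m * u * m⁻¹ = u) → m = 1)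
    (hfull : ∀ φ : ↥U ≃* ↥U, ∃ m ∈ M, ∀ u : ↥U, ((φ u : ↥U) : G) = m * u * m⁻¹)
    (Z : Subgroup G) (hZU : Z ≤ U) (hZ : Nat.card ↥Z = 2) (Q : Subgroup G)
    (hQ : Q = (Cfsg.pCore 2 ↥(Subgroup.centralizer (Z : Set G))).map
      (Subgroup.centralizer (Z : Set G)).subtype) :
    Cfsg.IsExtraspecial 2 ↥Q ∧ Nat.card ↥Q = 2 ^ (2 * n + 1) ∧
      (∃ E : Subgroup G, E ≤ Q ∧ Cfsg.IsElementaryAbelian 2 E ∧ Nat.card ↥E = 2 ^ (n + 1)) ∧
      Cfsg.IsLargeExtraspecial Q ∧
      ∃ K : Subgroup G, K ≤ Subgroup.centralizer (Z : Set G) ∧ Q ⊓ K = ⊥ ∧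
        Q ⊔ K = Subgroup.centralizer (Z : Set G) ∧
        Nonempty (↥K ≃* Matrix.GeneralLinearGroup (Fin n) (ZMod 2)) := by
  haveI : Fact (Nat.Prime 2) := ⟨Nat.prime_two⟩
  -- the generator of `Z`
  obtain ⟨z', hz'1, hz'u⟩ := (Nat.card_eq_two_iff' (1 : ↥Z)).mp hZ
  set z : G := (z' : G) with hzdef
  have hzZ : z ∈ Z := z'.2
  have hz1 : z ≠ 1 := fun h => hz'1 (Subtype.ext h)
  have hZel : ∀ x ∈ Z, x = 1 ∨ x = z := by
    intro x hx
    by_cases h1 : x = 1
    · exact Or.inl h1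
    · right
      have : (⟨x, hx⟩ : ↥Z) = z' := hz'u _ (fun h => h1 (congrArg Subtype.val h))
      exact congrArg Subtype.val this
  set C := Subgroup.centralizer (Z : Set G) with hCdef
  have hC : ∀ g, g ∈ C ↔ z * g = g * z := by
    intro g
    rw [hCdef, Subgroup.mem_centralizer_iff]
    constructor
    · intro h; exact h z hzZ
    · intro h x hx
      rcases hZel x hx with rfl | rfl
      · simp
      · exact h
  obtain ⟨ι, hι, hιz, hrange⟩ :=
    exists_embedding n hn U M hU hUcard hUM hUM' hfaith hfull z (hZU hzZ) hz1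
  have hCmap : C.map ι = CC n := by
    ext y
    constructor
    · rintro ⟨g, hg, rfl⟩
      unfold CC
      rw [Subgroup.mem_centralizer_iff]
      intro h hh
      rw [Set.mem_singleton_iff] at hh
      rw [hh, ← hιz, ← map_mul, ← map_mul, (hC g).mp hg]
    · intro hy
      obtain ⟨g, rfl⟩ := hrange hy
      refine ⟨g, (hC g).mpr ?_, rfl⟩
      apply hι
      unfold CC at hy
      rw [Subgroup.mem_centralizer_iff] at hy
      rw [map_mul, map_mul, hιz]
      exact hy z0 rfl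
  let e : ↥C ≃* ↥(CC n) := (C.equivMapOfInjective ι hι).trans (MulEquiv.subgroupCongr hCmap)
  have he : ∀ x : ↥C, ((e x : ↥(CC n)) : GG n) = ι x := fun x => rfl
  have hQmap : Q.map ι = (Φ : ES n 0 →* GG n).range := by
    rw [← pCore_map_eq' hn, ← pCore_map_equiv 2 e, hQ, Subgroup.map_map, Subgroup.map_map]
    congr 1
  set R := (Φ : ES n 0 →* GG n).range with hRdef
  have hRrange : R ≤ ι.range := le_trans range_Φ_le hrange
  -- the isomorphism `Q ≃* R`
  let eQ : ↥Q ≃* ↥R := (Q.equivMapOfInjective ι hι).trans (MulEquiv.subgroupCongr hQmap)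
  have hQex : Cfsg.IsExtraspecial 2 ↥Q :=
    Cfsg.Agent.Lib.Helper63_Heisenberg.isExtraspecial_of_mulEquiv eQ.symm (range_isExtraspecial hn)
  refine ⟨hQex, ?_, ?_, ?_, ?_⟩
  · rw [Nat.card_congr eQ.toEquiv, range_card]
  · refine ⟨(EE n).comap ι, ?_, ?_, ?_⟩
    · intro x hx
      rw [mem_iff_of_map_eq ι hι hQmap]
      exact EE_le hx
    · obtain ⟨hEc, hEe⟩ := EE_elem (n := n)
      refine ⟨⟨⟨fun a b => ?_⟩⟩, fun a ha => ?_⟩
      · apply Subtype.ext
        apply hι
        show ι ((a : G) * (b : G)) = ι ((b : G) * (a : G))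
        rw [map_mul, map_mul]
        have := hEc.is_comm.comm (⟨ι a, a.2⟩ : ↥(EE n)) ⟨ι b, b.2⟩
        exact congrArg Subtype.val this
      · apply hι
        rw [map_pow, map_one]
        exact hEe _ ha
    · rw [← Subgroup.card_map_of_injective hι,
        Subgroup.map_comap_eq_self (le_trans EE_le hRrange), EE_card]
  · exact isLarge_of_map ι hι hQmap hQex (range_isLarge hn)
  · set S := (σ : _ →* GG n).range with hSdef
    have hSrange : S ≤ ι.range := le_trans range_σ_le hrange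
    have hKmap : (S.comap ι).map ι = S := Subgroup.map_comap_eq_self hSrange
    refine ⟨S.comap ι, ?_, ?_, ?_, ?_⟩
    · intro x hx
      rw [mem_iff_of_map_eq ι hι hCmap]
      exact range_σ_le hx
    · rw [Subgroup.eq_bot_iff_forall]
      intro x hx
      have h1 : ι x ∈ R ⊓ S := ⟨(mem_iff_of_map_eq ι hι hQmap x).mp hx.1, hx.2⟩
      rw [hRdef, hSdef, range_inf, Subgroup.mem_bot] at h1
      apply hι
      rw [h1, map_one]
    · apply Subgroup.map_injective hι
      rw [Subgroup.map_sup, hQmap, hKmap, hCmap]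
      exact range_sup
    · let eK : ↥(S.comap ι) ≃* ↥S :=
        ((S.comap ι).equivMapOfInjective ι hι).trans (MulEquiv.subgroupCongr hKmap)
      exact ⟨(eK.trans (MonoidHom.ofInjective σ_injective).symm).trans (slEquivGL n)⟩

end Cfsg.Agent.Lib.Helper5_AffineTwo
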