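import Mathlib
import Cfsg.Prelude.Def_Transfer
import Cfsg.Prelude.Def_MonsterType
import Cfsg.Agent.Lib.Helper5_LnTwo
import Cfsg.Agent.Lib.Helper1_Cores
import Cfsg.Agent.Lib.Helper63_Heisenberg
import Cfsg.Agent.Lib.Helper5_AffineTwoB

set_option autoImplicit false
set_option linter.style.haveILetI false
set_option linter.unusedSectionVars false

namespace Cfsg.Agent.Lib.Helper5_AffineTwo

open Cfsg.Agent.Lib.Helper5_LnTwo

open Matrix

section full

variable {G : Type*} [Group G] {d : ℕ} {U M : Subgroup G} [U.Normal]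
  (κ : ↥U ≃ (Fin d → ZMod 2)) (hκ : ∀ u v : ↥U, κ (u * v) = κ u + κ v)

include hκ in
lemma κ_symm_add' (v w : Fin d → ZMod 2) : κ.symm (v + w) = κ.symm v * κ.symm w := by
  apply κ.injective
  rw [hκ, Equiv.apply_symm_apply, Equiv.apply_symm_apply, Equiv.apply_symm_apply]

include hκ in
lemma κ_one' : κ 1 = 0 := by
  have h := hκ 1 1
  rw [mul_one] at h
  have : κ 1 + 0 = κ 1 + κ 1 := by rw [add_zero]; exact h
  exact (add_left_cancel this).symm

/-- an automorphism in coordinates, as an additive map -/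
def FA (φ : ↥U ≃* ↥U) : (Fin d → ZMod 2) →+ (Fin d → ZMod 2) where
  toFun v := κ (φ (κ.symm v))
  map_zero' := by
    have h0 : κ.symm 0 = 1 := by
      apply κ.injective
      rw [Equiv.apply_symm_apply, κ_one' κ hκ]
    rw [h0, map_one, κ_one' κ hκ]
  map_add' v w := by
    rw [κ_symm_add' κ hκ, map_mul, hκ]

/-- the matrix of an automorphism -/
def MatA (φ : ↥U ≃* ↥U) : Matrix (Fin d) (Fin d) (ZMod 2) :=
  LinearMap.toMatrix' ((FA κ hκ φ).toZModLinearMap 2)

lemma MatA_mulVec_κ (φ : ↥U ≃* ↥U) (u : ↥U) : MatA κ hκ φ *ᵥ κ u = κ (φ u) := by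
  unfold MatA
  rw [LinearMap.toMatrix'_mulVec]
  show κ (φ (κ.symm (κ u))) = _
  rw [Equiv.symm_apply_apply]

lemma MatA_eq_of (φ : ↥U ≃* ↥U) (A : Matrix (Fin d) (Fin d) (ZMod 2))
    (h : ∀ u : ↥U, A *ᵥ κ u = κ (φ u)) : MatA κ hκ φ = A := by
  apply Matrix.toLin'.injective
  apply LinearMap.ext
  intro v
  rw [Matrix.toLin'_apply, Matrix.toLin'_apply]
  have h1 := h (κ.symm v)
  have h2 := MatA_mulVec_κ κ hκ φ (κ.symm v)
  rw [Equiv.apply_symm_apply] at h1 h2
  rw [h1, h2]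

/-- the matrix representation of the automorphism group -/
def MatAHom : MulAut ↥U →* Matrix (Fin d) (Fin d) (ZMod 2) where
  toFun φ := MatA κ hκ φ
  map_one' := by
    apply MatA_eq_of
    intro u
    rw [Matrix.one_mulVec]
    rfl
  map_mul' φ ψ := by
    apply MatA_eq_of
    intro u
    rw [← Matrix.mulVec_mulVec, MatA_mulVec_κ, MatA_mulVec_κ]
    rfl

lemma MatAHom_injective : Function.Injective (MatAHom κ hκ) := by
  intro φ ψ h
  apply MulEquiv.ext
  intro u
  apply κ.injective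
  have h1 : MatA κ hκ φ = MatA κ hκ ψ := h
  rw [← MatA_mulVec_κ κ hκ φ u, ← MatA_mulVec_κ κ hκ ψ u, h1]

include hκ in
theorem full_of_card [Finite ↥M] (hfaith : ∀ m ∈ M, (∀ u ∈ U, m * u * m⁻¹ = u) → m = 1)
    (hcard : Nat.card (GL (Fin d) (ZMod 2)) ≤ Nat.card ↥M) :
    ∀ φ : ↥U ≃* ↥U, ∃ m ∈ M, ∀ u : ↥U, ((φ u : ↥U) : G) = m * u * m⁻¹ := by
  let c : ↥M →* MulAut ↥U := (MulAut.conjNormal (H := U)).comp M.subtype
  let A : MulAut ↥U →* GL (Fin d) (ZMod 2) := (MatAHom κ hκ).toHomUnits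
  have hA : Function.Injective A := by
    intro φ ψ h
    apply MatAHom_injective κ hκ
    have := congrArg (fun g : GL (Fin d) (ZMod 2) => (g : Matrix (Fin d) (Fin d) (ZMod 2))) h
    exact this
  have hc : Function.Injective c := by
    rw [injective_iff_map_eq_one]
    intro m hm
    apply Subtype.ext
    apply hfaith m.1 m.2
    intro u hu
    have := congrArg (fun φ : MulAut ↥U => ((φ ⟨u, hu⟩ : ↥U) : G)) hm
    simpa [c, MulAut.conjNormal_apply] using this
  have hbij : Function.Bijective (A ∘ c) :=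
    Function.Injective.bijective_of_nat_card_le (hA.comp hc) hcard
  intro φ
  obtain ⟨m, hm⟩ := hbij.2 (A φ)
  have h1 : c m = φ := hA hm
  refine ⟨m.1, m.2, fun u => ?_⟩
  rw [← h1]
  show ((MulAut.conjNormal (m : G) u : ↥U) : G) = _
  rw [MulAut.conjNormal_apply]

end full

/-- pushing the large extraspecial conclusion forward along an injective homomorphism whose range
contains the relevant centralizers -/
theorem push_concl {G₁ G L : Type*} [Group G₁] [Group G] [Group L] (j : G₁ →* G)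
    (hj : Function.Injective j) (z₁ : G₁) (N w : ℕ)
    (hC : ∀ g : G, g * j z₁ = j z₁ * g → g ∈ j.range)
    (Q₁ : Subgroup G₁)
    (hQ₁ : Q₁ = (Cfsg.pCore 2 ↥(Subgroup.centralizer ({z₁} : Set G₁))).map
      (Subgroup.centralizer ({z₁} : Set G₁)).subtype)
    (Q : Subgroup G)
    (hQ : Q = (Cfsg.pCore 2 ↥(Subgroup.centralizer ({j z₁} : Set G))).map
      (Subgroup.centralizer ({j z₁} : Set G)).subtype)
    (a b : G₁) (ha : a ∈ Q₁) (hb : b ∈ Q₁) (haa : a * a = 1) (hbb : b * b = 1)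
    (hCa : ∀ g : G, g * j a = j a * g → g ∈ j.range)
    (hCb : ∀ g : G, g * j b = j b * g → g ∈ j.range)
    (hCab : ∀ g : G, g * j (a * b) = j (a * b) * g → g ∈ j.range)
    (h₁ : Cfsg.IsExtraspecial 2 ↥Q₁ ∧ Nat.card ↥Q₁ = N ∧
      (∃ E : Subgroup G₁, E ≤ Q₁ ∧ Cfsg.IsElementaryAbelian 2 E ∧ Nat.card ↥E = w) ∧
      Cfsg.IsLargeExtraspecial Q₁ ∧
      ∃ K : Subgroup G₁, K ≤ Subgroup.centralizer ({z₁} : Set G₁) ∧ Q₁ ⊓ K = ⊥ ∧
        Q₁ ⊔ K = Subgroup.centralizer ({z₁} : Set G₁) ∧ Nonempty (↥K ≃* L)) :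
    Cfsg.IsExtraspecial 2 ↥Q ∧ Nat.card ↥Q = N ∧
      (∃ E : Subgroup G, E ≤ Q ∧ Cfsg.IsElementaryAbelian 2 E ∧ Nat.card ↥E = w) ∧
      Cfsg.IsLargeExtraspecial Q ∧
      ∃ K : Subgroup G, K ≤ Subgroup.centralizer ({j z₁} : Set G) ∧ Q ⊓ K = ⊥ ∧
        Q ⊔ K = Subgroup.centralizer ({j z₁} : Set G) ∧ Nonempty (↥K ≃* L) := by
  haveI : Fact (Nat.Prime 2) := ⟨Nat.prime_two⟩
  obtain ⟨hex₁, hcard₁, ⟨E₁, hE₁Q, hE₁el, hE₁card⟩, hlarge₁, K₁, hK₁C, hK₁inf, hK₁sup, ⟨eK₁⟩⟩ := h₁
  set C₁ := Subgroup.centralizer ({z₁} : Set G₁) with hC₁def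
  set C := Subgroup.centralizer ({j z₁} : Set G) with hCdef
  have hmemC₁ : ∀ g, g ∈ C₁ ↔ z₁ * g = g * z₁ := by
    intro g
    rw [hC₁def, Subgroup.mem_centralizer_iff]
    constructor
    · intro h; exact h z₁ rfl
    · intro h x hx
      rw [Set.mem_singleton_iff] at hx
      rw [hx]; exact h
  have hmemC : ∀ g, g ∈ C ↔ j z₁ * g = g * j z₁ := by
    intro g
    rw [hCdef, Subgroup.mem_centralizer_iff]
    constructor
    · intro h; exact h _ rfl
    · intro h x hx
      rw [Set.mem_singleton_iff] at hx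
      rw [hx]; exact h
  have hCmap : C₁.map j = C := by
    ext y
    constructor
    · rintro ⟨g, hg, rfl⟩
      rw [hmemC, ← map_mul, ← map_mul, (hmemC₁ g).mp hg]
    · intro hy
      obtain ⟨g, rfl⟩ := hC y ((hmemC y).mp hy).symm
      refine ⟨g, (hmemC₁ g).mpr ?_, rfl⟩
      apply hj
      rw [map_mul, map_mul]
      exact (hmemC _).mp hy
  let e : ↥C₁ ≃* ↥C := (C₁.equivMapOfInjective j hj).trans (MulEquiv.subgroupCongr hCmap)
  have hQmap : Q₁.map j = Q := by
    rw [hQ, hQ₁, ← pCore_map_equiv 2 e, Subgroup.map_map, Subgroup.map_map]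
    congr 1
  let eQ : ↥Q₁ ≃* ↥Q := (Q₁.equivMapOfInjective j hj).trans (MulEquiv.subgroupCongr hQmap)
  have hQex : Cfsg.IsExtraspecial 2 ↥Q :=
    Cfsg.Agent.Lib.Helper63_Heisenberg.isExtraspecial_of_mulEquiv eQ hex₁
  obtain ⟨-, hL2, hL3, hL4⟩ := hlarge₁
  -- `z₁` lies in the centre of `Q₁`
  have hQ₁C₁ : Q₁ ≤ C₁ := by
    rw [hQ₁]
    rintro _ ⟨x, _, rfl⟩
    exact x.2
  have hz₁Z : z₁ ∈ (Subgroup.center ↥Q₁).map Q₁.subtype := by
    rw [← hL2, Subgroup.mem_centralizer_iff]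
    intro q hq
    exact ((hmemC₁ q).mp (hQ₁C₁ hq)).symm
  have hzZ : j z₁ ∈ (Subgroup.center ↥Q).map Q.subtype :=
    (mem_center_iff_of_map_eq j hj hQmap z₁).mp hz₁Z
  refine ⟨hQex, ?_, ?_, ?_, ?_⟩
  · rw [← Nat.card_congr eQ.toEquiv, hcard₁]
  · refine ⟨E₁.map j, ?_, ?_, ?_⟩
    · rw [← hQmap]
      exact Subgroup.map_mono hE₁Q
    · obtain ⟨hEc, hEe⟩ := hE₁el
      refine ⟨⟨⟨?_⟩⟩, ?_⟩
      · rintro ⟨_, ⟨x, hx, rfl⟩⟩ ⟨_, ⟨y, hy, rfl⟩⟩
        apply Subtype.ext
        show j x * j y = j y * j x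
        rw [← map_mul, ← map_mul]
        have := hEc.is_comm.comm (⟨x, hx⟩ : ↥E₁) ⟨y, hy⟩
        have h2 : x * y = y * x := congrArg Subtype.val this
        rw [h2]
      · rintro _ ⟨x, hx, rfl⟩
        rw [← map_pow, hEe x hx, map_one]
    · rw [Subgroup.card_map_of_injective hj, hE₁card]
  · refine ⟨hQex, ?_, ?_, ?_⟩
    · ext g
      constructor
      · intro hg
        have hgz : g * j z₁ = j z₁ * g :=
          ((Subgroup.mem_centralizer_iff.mp hg) _ ((mem_center_map_subtype Q _).mp hzZ).1).symm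
        obtain ⟨g', rfl⟩ := hC g hgz
        rw [← mem_center_iff_of_map_eq j hj hQmap, ← hL2, Subgroup.mem_centralizer_iff]
        intro q hq
        apply hj
        rw [map_mul, map_mul]
        exact (Subgroup.mem_centralizer_iff.mp hg) _ ((mem_iff_of_map_eq j hj hQmap q).mp hq)
      · intro hg
        rw [Subgroup.mem_centralizer_iff]
        intro q hq
        exact ((mem_center_map_subtype Q g).mp hg).2 q hq
    · intro g hg
      have hgz : g * j z₁ = j z₁ * g := ((Subgroup.mem_centralizer_iff.mp hg) _ hzZ).symm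
      obtain ⟨g', rfl⟩ := hC g hgz
      have hg' : g' ∈ Subgroup.centralizer
          (((Subgroup.center ↥Q₁).map Q₁.subtype : Subgroup G₁) : Set G₁) := by
        rw [Subgroup.mem_centralizer_iff]
        intro x hx
        apply hj
        rw [map_mul, map_mul]
        exact (Subgroup.mem_centralizer_iff.mp hg) _
          ((mem_center_iff_of_map_eq j hj hQmap x).mp hx)
      have hN := hL3 hg'
      rw [Subgroup.mem_normalizer_iff] at hN
      rw [Subgroup.mem_normalizer_iff]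
      intro x
      constructor
      · intro hx
        rw [← hQmap] at hx ⊢
        obtain ⟨x₁, hx₁, rfl⟩ := hx
        refine ⟨g' * x₁ * g'⁻¹, (hN x₁).mp hx₁, ?_⟩
        rw [map_mul, map_mul, map_inv]
      · intro hx
        rw [← hQmap] at hx ⊢
        obtain ⟨y₁, hy₁, hy⟩ := hx
        refine ⟨g'⁻¹ * y₁ * g', ?_, ?_⟩
        · show g'⁻¹ * y₁ * g' ∈ Q₁
          rw [hN]
          have : g' * (g'⁻¹ * y₁ * g') * g'⁻¹ = y₁ := by group
          rw [this]; exact hy₁
        · rw [map_mul, map_mul, map_inv, hy]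
          group
    · intro K hKodd hQK
      have hfin : Finite ↥K := Nat.finite_of_card_ne_zero (by
        intro h0
        rw [h0] at hKodd
        exact absurd hKodd (by decide))
      have hnorm : ∀ q ∈ Q, ∀ k ∈ K, q * k * q⁻¹ ∈ K := by
        intro q hq k hk
        exact (Subgroup.mem_normalizer_iff.mp (hQK hq) k).mp hk
      -- the preimage of `K`
      have hK₁ : K.comap j = ⊥ := by
        apply hL4
        · have h1 : Nat.card ↥((K.comap j).map j) = Nat.card ↥(K.comap j) :=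
            Subgroup.card_map_of_injective hj
          have h2 : (K.comap j).map j ≤ K := Subgroup.map_comap_le j K
          have h3 := Subgroup.card_dvd_of_le h2
          rw [h1] at h3
          exact Odd.of_dvd_nat hKodd h3
        · intro q hq
          rw [Subgroup.mem_normalizer_iff]
          intro x
          have hjq : j q ∈ Q := (mem_iff_of_map_eq j hj hQmap q).mp hq
          have := Subgroup.mem_normalizer_iff.mp (hQK hjq) (j x)
          rw [Subgroup.mem_comap, Subgroup.mem_comap, this, map_mul, map_mul, map_inv]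
      have hfpf : ∀ t : G₁, (∀ g : G, g * j t = j t * g → g ∈ j.range) →
          ∀ k ∈ K, j t * k = k * j t → k = 1 := by
        intro t ht k hk hkt
        obtain ⟨k', rfl⟩ := ht k hkt.symm
        have : k' ∈ K.comap j := hk
        rw [hK₁, Subgroup.mem_bot] at this
        rw [this, map_one]
      have hjQ : ∀ t ∈ Q₁, j t ∈ Q := fun t ht => (mem_iff_of_map_eq j hj hQmap t).mp ht
      have hCab' : ∀ k ∈ K, j a * j b * k = k * (j a * j b) → k = 1 := by
        intro k hk h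
        rw [← map_mul] at h
        exact hfpf (a * b) hCab k hk h
      exact eq_bot_of_four_group K (j a) (j b) (by rw [← map_mul, haa, map_one])
        (by rw [← map_mul, hbb, map_one]) (hnorm _ (hjQ a ha)) (hnorm _ (hjQ b hb))
        (hfpf a hCa) (hfpf b hCb) hCab'
  · refine ⟨K₁.map j, ?_, ?_, ?_, ?_⟩
    · rw [← hCmap]
      exact Subgroup.map_mono hK₁C
    · rw [← hQmap, ← Subgroup.map_inf _ _ j hj, hK₁inf, Subgroup.map_bot]
    · rw [← hQmap, ← Subgroup.map_sup, hK₁sup, hCmap]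
    · exact ⟨(K₁.equivMapOfInjective j hj).symm.trans eK₁⟩

end Cfsg.Agent.Lib.Helper5_AffineTwo
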