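import Mathlib

set_option autoImplicit false

/-!
# BR-W1ARITH (S0999 / S4701 sub-package; architect helper77): pure arithmetic.
-/

namespace Cfsg.Agent.Lib.Helper5_BR_W1ARITH

/-- **W1ARITH** (S, pure arithmetic). -/
theorem W1ARITH (p q n w t x0 : ℕ) (hp : p.Prime) (hq2 : 2 ≤ q) (htq : t * q = p - 1)
    (hn : 1 ≤ n) (hw : 1 ≤ w) (hbig : p * w * q * (1 + n * p) < p ^ 3)
    (hx0 : x0 = 1 + (q - 1) * (1 + n * p)) (hsq : t * (x0 * x0) < p * w * q * (1 + n * p)) :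
    q = 2 ∧ n = 1 := by
  have hp2 := hp.two_le
  have hpt : p = t * q + 1 := by omega
  have h1 : t * (x0 * x0) < p ^ 3 := lt_trans hsq hbig
  obtain ⟨k, rfl⟩ : ∃ k, q = k + 2 := ⟨q - 2, by omega⟩
  obtain ⟨m, rfl⟩ : ∃ m, n = m + 1 := ⟨n - 1, by omega⟩
  have ht : 1 ≤ t := by
    rcases Nat.eq_zero_or_pos t with h | h
    · subst h; omega
    · exact h
  have hx : (k + 1) * ((m + 1) * p) ≤ x0 := by
    rw [hx0]
    have : k + 2 - 1 = k + 1 := by omega
    rw [this]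
    nlinarith
  have h2 : t * (((k + 1) * ((m + 1) * p)) * ((k + 1) * ((m + 1) * p))) < p ^ 3 :=
    lt_of_le_of_lt (Nat.mul_le_mul_left t (Nat.mul_le_mul hx hx)) h1
  have h3 : t * (((k + 1) * (m + 1)) * ((k + 1) * (m + 1))) < p := by
    by_contra hcon
    rw [not_lt] at hcon
    have h4 : p * (p * p) ≤ t * (((k + 1) * (m + 1)) * ((k + 1) * (m + 1))) * (p * p) :=
      Nat.mul_le_mul_right _ hcon
    have h5 : t * (((k + 1) * ((m + 1) * p)) * ((k + 1) * ((m + 1) * p))) =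
        t * (((k + 1) * (m + 1)) * ((k + 1) * (m + 1))) * (p * p) := by ring
    have h6 : p ^ 3 = p * (p * p) := by ring
    omega
  -- now `t * ((k+1)(m+1))² ≤ t * (k+2)`
  have h7 : t * (((k + 1) * (m + 1)) * ((k + 1) * (m + 1))) ≤ t * (k + 2) := by omega
  have h8 : ((k + 1) * (m + 1)) * ((k + 1) * (m + 1)) ≤ k + 2 := Nat.le_of_mul_le_mul_left h7 ht
  have hk : k = 0 := by
    by_contra hk
    have hk1 : 1 ≤ k := Nat.one_le_iff_ne_zero.2 hk
    have h9 : (k + 1) * (k + 1) ≤ (k + 1) * (m + 1) * ((k + 1) * (m + 1)) :=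
      Nat.mul_le_mul (Nat.le_mul_of_pos_right _ (by omega)) (Nat.le_mul_of_pos_right _ (by omega))
    nlinarith
  subst hk
  have hm : m = 0 := by
    by_contra hm
    have hm1 : 1 ≤ m := Nat.one_le_iff_ne_zero.2 hm
    nlinarith
  subst hm
  exact ⟨rfl, rfl⟩

end Cfsg.Agent.Lib.Helper5_BR_W1ARITH
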