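import Mathlib

set_option autoImplicit false

/-!
# BR-XARITH (S0999 / S4701 sub-package; architect helper77): pure arithmetic.
-/

namespace Cfsg.Agent.Lib.Helper5_BR_XARITH

/-- the integer core of `XARITH`, case `ε = 1`. -/
theorem core_pos (P N U X : ℤ) (hP : 2 ≤ P) (hN : 1 ≤ N) (h2N : 2 * N < P) (hU : 0 ≤ U)
    (hX : X = U * P + 1) (hX2 : 2 ≤ X) (hX3 : X * X < P * P * P)
    (hdvd : X ∣ (U - N) * (U + 1)) : U = N := by
  by_contra hne
  have hU1 : 1 ≤ U := by
    by_contra h
    have : U = 0 := by omega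
    subst this
    omega
  rcases lt_or_gt_of_ne hne with hlt | hgt
  · -- `U < N`
    have hd2 : X ∣ (N - U) * (U + 1) := by
      have : (N - U) * (U + 1) = -((U - N) * (U + 1)) := by ring
      rw [this]
      exact (dvd_neg).2 hdvd
    have hpos : 0 < (N - U) * (U + 1) := mul_pos (by omega) (by omega)
    have hle := Int.le_of_dvd hpos hd2
    have h1 : 0 ≤ U * (U + 1) := mul_nonneg hU (by omega)
    have h2 : 0 ≤ N * (U - 1) := mul_nonneg (by omega) (by omega)
    have h3 : 0 < (P - 2 * N) * U := mul_pos (by omega) (by omega)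
    nlinarith
  · -- `N < U`
    have hpos : 0 < (U - N) * (U + 1) := mul_pos (by omega) (by omega)
    have hle := Int.le_of_dvd hpos hdvd
    have h1 : (U - N) * (U + 1) ≤ (U - 1) * (U + 1) :=
      mul_le_mul_of_nonneg_right (by omega) (by omega)
    have h2 : P < U := by
      by_contra h
      rw [not_lt] at h
      have : U * U ≤ U * P := mul_le_mul_of_nonneg_left h hU
      nlinarith
    have h3 : P * P < X := by
      have : P * P < U * P := mul_lt_mul_of_pos_right h2 (by omega)
      omega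
    have h4 : P * P * (P * P) < X * X := mul_lt_mul'' h3 h3 (by positivity) (by positivity)
    have h5 : P * P * P ≤ P * P * (P * P) := by
      have : 0 ≤ P * P * P := by positivity
      nlinarith
    omega

/-- the integer core of `XARITH`, case `ε = -1`. -/
theorem core_neg (P N U X : ℤ) (hP : 2 ≤ P) (hN : 1 ≤ N) (h2N : 2 * N < P) (hU : 0 ≤ U)
    (hX : X = U * P - 1) (hX2 : 2 ≤ X) (hX3 : X * X < P * P * P)
    (hdvd : X ∣ (U + N) * (U - 1)) : U = 1 := by
  by_contra hne
  have hU1 : 2 ≤ U := by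
    by_contra h
    have : U = 0 := by omega
    subst this
    omega
  have hpos : 0 < (U + N) * (U - 1) := mul_pos (by omega) (by omega)
  have hle := Int.le_of_dvd hpos hdvd
  have h1 : P - N + 1 ≤ U := by
    by_contra h
    have h' : U ≤ P - N := by omega
    have : U * U ≤ U * (P - N) := mul_le_mul_of_nonneg_left h' hU
    nlinarith
  have h2 : P * P + 3 * P - 2 ≤ 2 * X := by
    have : (P + 3) * P ≤ (2 * U) * P := mul_le_mul_of_nonneg_right (by omega) (by omega)
    nlinarith
  have h3 : P * P ≤ 2 * X := by omega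
  have h4 : 4 * P ≤ 2 * X := by nlinarith
  have h5 : (4 * P) * (P * P) ≤ (2 * X) * (2 * X) :=
    mul_le_mul h4 h3 (by positivity) (by omega)
  nlinarith

/-- **XARITH** (M, pure arithmetic). -/
theorem XARITH (p q n w x u : ℕ) (ε : ℤ) (hp : p.Prime) (hq2 : 2 ≤ q) (hn : 1 ≤ n) (hw : 1 ≤ w)
    (hbig : p * w * q * (1 + n * p) < p ^ 3) (hε : ε = 1 ∨ ε = -1)
    (hx : (x : ℤ) = u * p + ε) (hx2 : 2 ≤ x) (hsq : x * x < p * w * q * (1 + n * p))
    (hdvd : (x : ℤ) ∣ (1 + n * p : ℤ) * (u + ε)) :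
    (ε = 1 ∧ x = 1 + n * p) ∨ (ε = -1 ∧ x = p - 1) := by
  have hp2 := hp.two_le
  have hB1 : w * q * (1 + n * p) < p ^ 2 := by
    have : p * (w * q * (1 + n * p)) < p * p ^ 2 := by
      calc p * (w * q * (1 + n * p)) = p * w * q * (1 + n * p) := by ring
        _ < p ^ 3 := hbig
        _ = p * p ^ 2 := by ring
    exact Nat.lt_of_mul_lt_mul_left this
  have hB1' : 2 * (1 + n * p) < p ^ 2 := by
    have : 2 ≤ w * q := by nlinarith
    calc 2 * (1 + n * p) ≤ w * q * (1 + n * p) := Nat.mul_le_mul_right _ this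
      _ < p ^ 2 := hB1
  have h2n : 2 * n < p := by
    by_contra h
    rw [not_lt] at h
    have : p * p ≤ 2 * n * p := Nat.mul_le_mul_right p h
    nlinarith
  have hx3 : x * x < p * p * p := by
    calc x * x < p * w * q * (1 + n * p) := hsq
      _ < p ^ 3 := hbig
      _ = p * p * p := by ring
  -- integer versions
  have hP : (2 : ℤ) ≤ p := by exact_mod_cast hp2
  have hN : (1 : ℤ) ≤ n := by exact_mod_cast hn
  have h2N : 2 * (n : ℤ) < p := by exact_mod_cast h2n
  have hU : (0 : ℤ) ≤ u := by positivity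
  have hX2 : (2 : ℤ) ≤ x := by exact_mod_cast hx2
  have hX3 : (x : ℤ) * x < (p : ℤ) * p * p := by exact_mod_cast hx3
  have hkey : (x : ℤ) ∣ ((u : ℤ) - ε * n) * (u + ε) := by
    have h1 : (x : ℤ) ∣ (u : ℤ) * ((1 + n * p : ℤ) * (u + ε)) := Dvd.dvd.mul_left hdvd _
    have h2 : (u : ℤ) * ((1 + n * p : ℤ) * (u + ε)) =
        ((u : ℤ) - ε * n) * (u + ε) + (n * (u + ε)) * x := by
      rw [hx]; ring
    rw [h2] at h1
    exact (Int.dvd_add_left (dvd_mul_left _ _)).1 h1
  rcases hε with rfl | rfl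
  · left
    refine ⟨rfl, ?_⟩
    have hd : (x : ℤ) ∣ ((u : ℤ) - n) * (u + 1) := by simpa using hkey
    have := core_pos p n u x hP hN h2N hU hx hX2 hX3 hd
    have hun : u = n := by exact_mod_cast this
    subst hun
    have : (x : ℤ) = ((1 + u * p : ℕ) : ℤ) := by rw [hx]; push_cast; ring
    exact_mod_cast this
  · right
    refine ⟨rfl, ?_⟩
    have hd : (x : ℤ) ∣ ((u : ℤ) + n) * (u - 1) := by
      have : ((u : ℤ) - -1 * n) * (u + -1) = ((u : ℤ) + n) * (u - 1) := by ring
      rw [this] at hkey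
      exact hkey
    have hx' : (x : ℤ) = u * p - 1 := by rw [hx]; ring
    have := core_neg p n u x hP hN h2N hU hx' hX2 hX3 hd
    have hu1 : u = 1 := by exact_mod_cast this
    subst hu1
    have : (x : ℤ) = (p : ℤ) - 1 := by rw [hx']; push_cast; ring
    omega

end Cfsg.Agent.Lib.Helper5_BR_XARITH
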