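import Cfsg.Agent.Lib.Helper77_BRDefs
import Cfsg.Agent.Lib.Helper3_CharColumn
import Cfsg.Agent.Lib.Helper5_BR_XARITH

/-!
# BR-XDEG (S0999 / S4701 sub-package; architect helper77)

`XDEG_of` : the package statement `XDEG` with the statements of the packages INT and NOLIN (for the
group at hand) as hypotheses.
-/

set_option autoImplicit false

namespace Cfsg.Agent.Lib.Helper5_BR_XDEG

open Cfsg Cfsg.Agent.Lib.Helper80_CharBasic Cfsg.Agent.Lib.Helper77_BRDefs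
open scoped ComplexConjugate

universe u

variable {G : Type u} [Group G] [Fintype G] {p : ℕ} [hp : Fact p.Prime]

omit [Fintype G] in
/-- the degree as a complex number. -/
theorem charDegree_cast' (χ : IrrCharacter G) :
    ((charDegree (χ : G → ℂ) : ℕ) : ℂ) = (χ : G → ℂ) 1 := by
  obtain ⟨n, -, hn⟩ := irr_apply_one χ
  unfold charDegree
  rw [hn]
  simp

/-- `χ(1)² < |G|` for a nontrivial irreducible character. -/
theorem charDegree_sq_lt (χ : IrrCharacter G) (hχ : χ ≠ oneIrr G) :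
    charDegree (χ : G → ℂ) * charDegree (χ : G → ℂ) < Nat.card G := by
  classical
  have h1 := Cfsg.Agent.Lib.Helper3_CharColumn.sum_sq_irr_one (G := G)
  have h2 : ∑ ψ : IrrCharacter G, charDegree (ψ : G → ℂ) ^ 2 = Nat.card G := by
    have : ((∑ ψ : IrrCharacter G, charDegree (ψ : G → ℂ) ^ 2 : ℕ) : ℂ) = (Nat.card G : ℂ) := by
      rw [← h1]
      push_cast
      refine Finset.sum_congr rfl (fun ψ _ => ?_)
      rw [charDegree_cast']
    exact_mod_cast this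
  have h3 : ∑ ψ ∈ ({χ, oneIrr G} : Finset (IrrCharacter G)), charDegree (ψ : G → ℂ) ^ 2 ≤
      ∑ ψ : IrrCharacter G, charDegree (ψ : G → ℂ) ^ 2 :=
    Finset.sum_le_sum_of_subset (Finset.subset_univ _)
  rw [Finset.sum_pair hχ, h2] at h3
  have h4 : charDegree ((oneIrr G : IrrCharacter G) : G → ℂ) = 1 := by
    have := charDegree_cast' (oneIrr G)
    have h5 : ((oneIrr G : IrrCharacter G) : G → ℂ) 1 = 1 := rfl
    rw [h5] at this
    exact_mod_cast this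
  rw [h4] at h3
  nlinarith

/-- the sum of `χ` over `P \ 1` when `χ` is constant `= ε` there. -/
theorem finsum_P_const (P : Sylow p G) (hP : Nat.card P = p) (f : G → ℂ) (c : ℂ)
    (hf : ∀ x ∈ (P : Subgroup G), x ≠ 1 → f x = c) :
    ∑ᶠ x ∈ {x : G | x ∈ (P : Subgroup G) ∧ x ≠ 1}, f x = ((p : ℂ) - 1) * c := by
  classical
  have hfin : ({x : G | x ∈ (P : Subgroup G) ∧ x ≠ 1} : Set G).Finite := Set.toFinite _
  rw [finsum_mem_eq_finite_toFinset_sum _ hfin]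
  rw [Finset.sum_congr rfl (fun x hx => hf x ((Set.Finite.mem_toFinset hfin).1 hx).1
    ((Set.Finite.mem_toFinset hfin).1 hx).2)]
  rw [Finset.sum_const, ← Set.ncard_eq_toFinset_card _ hfin]
  have h1 : ({x : G | x ∈ (P : Subgroup G) ∧ x ≠ 1} : Set G) =
      ((P : Subgroup G) : Set G) \ {1} := by
    ext x
    simp only [Set.mem_ofPred_eq, Set.mem_sdiff, SetLike.mem_coe, Set.mem_singleton_iff]
  have h2 : (((P : Subgroup G) : Set G) \ {1}).ncard = p - 1 := by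
    rw [Set.ncard_sdiff_singleton_of_mem (Subgroup.one_mem _)]
    have : (((P : Subgroup G) : Set G)).ncard = p := by
      have h3 := (Nat.card_coe_set_eq ((P : Subgroup G) : Set G)).symm
      rw [h3]
      exact hP
    rw [this]
  rw [h1, h2, nsmul_eq_mul, Nat.cast_sub hp.out.one_le]
  simp

/-- **XDEG** with INT and NOLIN (for `G`) as hypotheses. -/
theorem XDEG_of (P : Sylow p G) (hP : Nat.card P = p)
    (hINT : ∀ (χ : IrrCharacter G) (k : ℤ),
      ∑ᶠ x ∈ {x : G | x ∈ (P : Subgroup G) ∧ x ≠ 1}, (χ : G → ℂ) x = (k : ℂ) →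
      (charDegree (χ : G → ℂ) : ℤ) ∣ (Nat.card (Sylow p G) : ℤ) * k)
    (hNOLIN : ∀ χ : IrrCharacter G, χ ≠ oneIrr G → 2 ≤ charDegree (χ : G → ℂ))
    (D : PBData P) (hq2 : 2 ≤ qq P) (n w : ℕ) (hn1 : 1 ≤ n) (hw : 1 ≤ w)
    (hn : Nat.card (Sylow p G) = 1 + n * p)
    (hG : Nat.card G = p * w * qq P * (1 + n * p)) (hbig : Nat.card G < p ^ 3) :
    ∀ χ ∈ D.X, χ ≠ oneIrr G →
      (((χ : G → ℂ) 1 = 1 + (n : ℂ) * (p : ℂ)) ∧ D.εX χ = 1) ∨
        (((χ : G → ℂ) 1 = (p : ℂ) - 1) ∧ D.εX χ = -1) := by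
  intro χ hχX hχ1
  have hpp := hp.out
  have hp1 : 1 ≤ p := hpp.one_le
  have hε := D.hεX χ hχX
  have hx2 := hNOLIN χ hχ1
  have hsq := charDegree_sq_lt χ hχ1
  have hcast := charDegree_cast' χ
  -- `x = u p + ε`
  have hmod := D.hXdeg χ hχX
  obtain ⟨u₀, hu₀⟩ : (p : ℤ) ∣ (charDegree (χ : G → ℂ) : ℤ) - D.εX χ :=
    (Int.modEq_iff_dvd.1 hmod.symm)
  have hu₀pos : 0 ≤ u₀ := by
    by_contra hneg
    rw [not_le] at hneg
    have h1 : (p : ℤ) * u₀ ≤ (p : ℤ) * (-1) :=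
      mul_le_mul_of_nonneg_left (by omega) (by positivity)
    have h2 : (2 : ℤ) ≤ charDegree (χ : G → ℂ) := by exact_mod_cast hx2
    have h3 : (1 : ℤ) ≤ p := by exact_mod_cast hp1
    rcases hε with h | h <;> rw [h] at hu₀ <;> omega
  obtain ⟨u, rfl⟩ := Int.eq_ofNat_of_zero_le hu₀pos
  have hx : (charDegree (χ : G → ℂ) : ℤ) = (u : ℤ) * p + D.εX χ := by
    have : (charDegree (χ : G → ℂ) : ℤ) = (p : ℤ) * u + D.εX χ := by omega
    rw [this]; ring
  -- INT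
  have hsum : ∑ᶠ x ∈ {x : G | x ∈ (P : Subgroup G) ∧ x ≠ 1}, (χ : G → ℂ) x =
      (((p : ℤ) - 1) * D.εX χ : ℤ) := by
    rw [finsum_P_const P hP (χ : G → ℂ) (D.εX χ : ℂ)]
    · push_cast; ring
    · intro x hxP hx1
      have := D.hXval χ hχX x hxP hx1 1 (Subgroup.one_mem _) (by
        rw [orderOf_one]
        exact fun h => hpp.one_lt.ne' (Nat.dvd_one.1 h))
      rwa [mul_one] at this
  have hdvd0 := hINT χ _ hsum
  rw [hn] at hdvd0
  -- `x ∣ (1 + n p) (u + ε)`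
  have hεsq : D.εX χ * D.εX χ = 1 := by
    rcases hε with h | h <;> rw [h] <;> norm_num
  have hdvd : (charDegree (χ : G → ℂ) : ℤ) ∣ (1 + n * p : ℤ) * (u + D.εX χ) := by
    have h1 : (charDegree (χ : G → ℂ) : ℤ) ∣
        (-(D.εX χ) * u) * (((1 + n * p : ℕ) : ℤ) * (((p : ℤ) - 1) * D.εX χ)) :=
      Dvd.dvd.mul_left hdvd0 _
    have h2 : (-(D.εX χ) * u) * (((1 + n * p : ℕ) : ℤ) * (((p : ℤ) - 1) * D.εX χ)) =
        (1 + n * p : ℤ) * (u + D.εX χ) +
          (-(1 + n * p : ℤ)) * (D.εX χ * D.εX χ - 1) * u * (p - 1) +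
          (-(1 + n * p : ℤ)) * ((u : ℤ) * p + D.εX χ) := by
      push_cast; ring
    rw [h2, hεsq, sub_self, mul_zero, zero_mul, zero_mul, add_zero, ← hx] at h1
    exact (Int.dvd_add_left (dvd_mul_left _ _)).1 h1
  rw [hG] at hsq hbig
  have key := Cfsg.Agent.Lib.Helper5_BR_XARITH.XARITH p (qq P) n w (charDegree (χ : G → ℂ)) u
    (D.εX χ) hpp hq2 hn1 hw hbig hε hx hx2 hsq hdvd
  rcases key with ⟨h1, h2⟩ | ⟨h1, h2⟩
  · left
    refine ⟨?_, h1⟩
    rw [← hcast, h2]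
    push_cast; ring
  · right
    refine ⟨?_, h1⟩
    rw [← hcast, h2, Nat.cast_sub hp1]
    simp

end Cfsg.Agent.Lib.Helper5_BR_XDEG
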