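import Cfsg.Agent.Lib.Helper36_ChevHAll
import Cfsg.Agent.Lib.Helper36_ChevHConj

set_option autoImplicit false

/-!
Relation (B) for all roots of a Chevalley datum: `n_r(t) x_r(u) = x_{-r}(-t⁻² u) n_r(t)`,
by induction along the reachability certificate of `Helper36_ChevGen`.
-/

namespace Cfsg.Agent.Lib.Helper5_ChevSL2

open Cfsg Cfsg.Lie Cfsg.Agent.Lib.Helper36_ChevSparse Cfsg.Agent.Lib.Helper36_ChevCoeff
  Cfsg.Agent.Lib.Helper36_ChevCoo Cfsg.Agent.Lib.Helper36_ChevAdd Cfsg.Agent.Lib.Helper36_ChevIdx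
  Cfsg.Agent.Lib.Helper36_ChevWeyl Cfsg.Agent.Lib.Helper36_ChevGen Cfsg.Agent.Lib.Helper36_ChevH
  Cfsg.Agent.Lib.Helper36_ChevHAll Cfsg.Agent.Lib.Helper36_ChevHConj Cfsg.Agent.Lib.Helper36_ChevTables

variable (D : ChevalleyDatum)

/-- relation (B) for the root `r` -/
def GoodB (F : Type*) [Field F] (r : ℕ) : Prop :=
  r < D.nroots ∧ D.neg r < D.nroots ∧
    ∀ t u : F, t ≠ 0 →
      D.nMat F r t * D.x F r u = D.x F (D.neg r) (-(t⁻¹ ^ 2 * u)) * D.nMat F r t

section
variable (hlen : ChainLenOK D) (hadd : AddOK D) (hsimple : SimpleOK D) (Nl : NLits) (hNl : NLitOK D Nl)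
  (F : Type*) [Field F] (k : ℕ)

include hlen hadd hsimple hNl in
/-- One step: from `s` to `w_i s`. -/
theorem goodB_step (i s : ℕ) (η : ℤ) (h : ConjPair D Nl k i s η) (hs : GoodB D F s) :
    GoodB D F (D.reflectRoot i s) := by
  obtain ⟨-, -, hB⟩ := hs
  have hconj := fun c => nMat_conj D hlen hadd hsimple Nl hNl F k i s η h c
  obtain ⟨hr1, hr2, hη, -⟩ := hconj 1
  obtain ⟨hi, hs, hns, h1, h2, h3⟩ := h
  obtain ⟨-, -, e1⟩ := nMat_mul_x_of_pairCheck D hlen hadd hsimple Nl hNl F k (i, s, η) hi hs h1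
  obtain ⟨-, -, e2⟩ := nMat_mul_x_of_pairCheck D hlen hadd hsimple Nl hNl F k (i, D.neg s, η) hi hns h2
  simp only at e1 e2
  rw [h3] at e2
  set N := D.nMat F (D.simple i) 1 with hN
  set r' := D.reflectRoot i s with hr'
  have hunit : IsUnit N := ⟨nGL D hlen hadd F i, nGL_coe D hlen hadd F i⟩
  have hηη : ∀ c : F, (η : F) * ((η : F) * c) = c := by
    intro c
    rcases hη with h | h <;> rw [h] <;> simp
  have hη0 : (η : F) ≠ 0 := by
    rcases hη with h | h <;> rw [h] <;> simp
  refine ⟨hr1, hr2, ?_⟩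
  intro t u ht
  apply hunit.mul_left_injective
  show D.nMat F r' t * D.x F r' u * N = D.x F (D.neg r') (-(t⁻¹ ^ 2 * u)) * D.nMat F r' t * N
  have ht0 : (η : F) * t ≠ 0 := mul_ne_zero hη0 ht
  have c1 : D.nMat F r' t * N = N * D.nMat F s ((η : F) * t) := by
    have := (hconj ((η : F) * t)).2.2.2
    rw [hηη] at this
    exact this.symm
  have c2 : D.x F r' u * N = N * D.x F s ((η : F) * u) := by
    have := e1 ((η : F) * u)
    rw [hηη] at this
    exact this.symm
  have hB' := hB ((η : F) * t) ((η : F) * u) ht0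
  have e3 : (η : F) * -(((η : F) * t)⁻¹ ^ 2 * ((η : F) * u)) = -(t⁻¹ ^ 2 * u) := by
    rcases hη with h | h <;> rw [h] <;> simp
  calc D.nMat F r' t * D.x F r' u * N
      = D.nMat F r' t * (D.x F r' u * N) := by rw [Matrix.mul_assoc]
    _ = D.nMat F r' t * N * D.x F s ((η : F) * u) := by rw [c2, Matrix.mul_assoc]
    _ = N * (D.nMat F s ((η : F) * t) * D.x F s ((η : F) * u)) := by rw [c1, Matrix.mul_assoc]
    _ = N * D.x F (D.neg s) (-(((η : F) * t)⁻¹ ^ 2 * ((η : F) * u))) * D.nMat F s ((η : F) * t) := by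
        rw [hB', Matrix.mul_assoc]
    _ = D.x F (D.neg r') (-(t⁻¹ ^ 2 * u)) * (N * D.nMat F s ((η : F) * t)) := by
        rw [e2, e3, Matrix.mul_assoc]
    _ = D.x F (D.neg r') (-(t⁻¹ ^ 2 * u)) * D.nMat F r' t * N := by
        rw [← c1, Matrix.mul_assoc]

/-- The extra table checks for the fundamental roots: `A_{p,p} = 2` and the sign of `n_p x_p n_p⁻¹` is `-1`. -/
def FundB (tbl : List (List ℤ)) : Prop :=
  ∀ j < D.rank, D.cartan j (D.simple j) = 2 ∧ (tbl.getD j []).getD (D.simple j) 0 = -1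

instance (tbl : List (List ℤ)) : Decidable (FundB D tbl) := by
  unfold FundB
  infer_instance

include hlen hadd hsimple hNl in
theorem goodB_fund (hOK : ChainOK D) (hCA : CartanAddOK D) (n : ℕ) (hH : HChecks D Nl n)
    (tbl : List (List ℤ)) (hF : FundOK D Nl k tbl) (hFB : FundB D tbl)
    (j : ℕ) (hj : j < D.rank) : GoodB D F (D.simple j) := by
  obtain ⟨h1, h2⟩ := hH j hj
  obtain ⟨hc2, hηm⟩ := hFB j hj
  have hn := fun (c : F) (hc : c ≠ 0) =>
    nMat_eq_mul_Dg D hlen hadd hsimple F n j hj _ _ (hNl j hj) h1 c hc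
  have hh := fun (c : F) (hc : c ≠ 0) =>
    hMat_eq_Dg D hlen hadd hsimple F n j hj _ _ (hNl j hj) h1 h2 c hc
  obtain ⟨hp, hq⟩ := hsimple j hj
  refine ⟨hp, hq, ?_⟩
  intro t u ht
  have hti : t⁻¹ ≠ 0 := inv_ne_zero ht
  -- the diagonal part
  have hD : Dg D F j t * D.x F (D.simple j) u = D.x F (D.simple j) (t⁻¹ ^ 2 * u) * Dg D F j t := by
    have e := h_mul_x D hOK hCA F j hj t⁻¹ hti (hh t⁻¹ hti) (D.simple j) hp u
    rw [hh t⁻¹ hti, inv_inv, hc2] at e
    have e' : t⁻¹ ^ (2 : ℤ) = t⁻¹ ^ 2 := by norm_cast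
    rw [e'] at e
    exact e
  -- the monomial part
  have hcp := hF j hj j hj
  rw [hηm] at hcp
  obtain ⟨hi', hs', hns', p1, -, -⟩ := hcp
  obtain ⟨-, -, e1⟩ := nMat_mul_x_of_pairCheck D hlen hadd hsimple Nl hNl F k (j, D.simple j, -1) hj hp p1
  simp only at e1
  have hrefl : D.reflectRoot j (D.simple j) = D.neg (D.simple j) := by
    unfold ChevalleyDatum.reflectRoot
    simp
  rw [hrefl] at e1
  rw [hn t ht, Matrix.mul_assoc, hD, ← Matrix.mul_assoc, e1, Matrix.mul_assoc]
  congr 2
  push_cast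
  ring

include hlen hadd hsimple hNl in
theorem goodB_run (T0 : List (ℕ × ℕ × ℤ)) (hT0 : PairsOK D k Nl T0) (hsym : treeSymCheck D T0 = true)
    (T : List (ℕ × ℕ × ℤ)) : (∀ p ∈ T, p ∈ T0) → ∀ (R R' : List ℕ), (∀ r ∈ R, GoodB D F r) →
    reachRun D T R = some R' → ∀ r ∈ R', GoodB D F r := by
  induction T with
  | nil =>
    intro _ R R' hR h
    simp only [reachRun, Option.some.injEq] at h
    subst h
    exact hR
  | cons p T ih =>
    intro hsub R R' hR h
    simp only [reachRun] at h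
    cases hstep : reachStep D R p with
    | none => rw [hstep] at h; simp at h
    | some R1 =>
      rw [hstep] at h
      refine ih (fun q hq => hsub q (List.mem_cons_of_mem _ hq)) R1 R' ?_ h
      unfold reachStep at hstep
      split_ifs at hstep with hc
      obtain ⟨hi, hmem⟩ := hc
      simp only [Option.some.injEq] at hstep
      subst hstep
      intro r hr
      rw [List.mem_cons] at hr
      rcases hr with rfl | hr
      · have hp0 : p ∈ T0 := hsub p List.mem_cons_self
        unfold treeSymCheck at hsym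
        rw [List.all_eq_true] at hsym
        have hs := hsym p hp0
        simp only [Bool.and_eq_true, decide_eq_true_eq, List.contains_iff_mem] at hs
        obtain ⟨⟨hmem', hrefl⟩, hneg⟩ := hs
        have hgood := hR _ hmem
        have hcp : ConjPair D Nl k p.1 p.2.1 p.2.2 :=
          ⟨hi, hgood.1, hneg, hT0 p hp0, hT0 _ hmem', hrefl⟩
        exact goodB_step D hlen hadd hsimple Nl hNl F k p.1 p.2.1 p.2.2 hcp hgood
      · exact hR r hr

include hlen hadd hsimple hNl in
/-- Every root satisfies relation (B). -/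
theorem goodB_all (hOK : ChainOK D) (hCA : CartanAddOK D) (n : ℕ) (hH : HChecks D Nl n)
    (tbl : List (List ℤ)) (hF : FundOK D Nl k tbl) (hFB : FundB D tbl)
    (T : List (ℕ × ℕ × ℤ)) (hT : PairsOK D k Nl T) (hsym : treeSymCheck D T = true)
    (hreach : reachCheck D T = true) (r : ℕ) (hr : r < D.nroots) : GoodB D F r := by
  have hinit : ∀ r ∈ initReached D, GoodB D F r := by
    intro r hr
    unfold initReached at hr
    rw [List.mem_flatMap] at hr
    obtain ⟨j, hj, hr⟩ := hr
    rw [List.mem_range] at hj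
    simp only [List.mem_cons, List.not_mem_nil, or_false] at hr
    have hfund := goodB_fund D hlen hadd hsimple Nl hNl F k hOK hCA n hH tbl hF hFB j hj
    rcases hr with rfl | rfl
    · exact hfund
    · have hcp := hF j hj j hj
      have hstep := goodB_step D hlen hadd hsimple Nl hNl F k j (D.simple j) _ hcp hfund
      have : D.reflectRoot j (D.simple j) = D.neg (D.simple j) := by
        unfold ChevalleyDatum.reflectRoot
        simp
      rw [this] at hstep
      exact hstep
  unfold reachCheck at hreach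
  cases hrun : reachRun D T (initReached D) with
  | none => rw [hrun] at hreach; simp at hreach
  | some R =>
    rw [hrun] at hreach
    simp only [List.all_eq_true, List.mem_range] at hreach
    have hmem : r ∈ R := by simpa using hreach r hr
    exact goodB_run D hlen hadd hsimple Nl hNl F k T hT hsym T (fun _ h => h) _ R hinit hrun r hmem

end

end Cfsg.Agent.Lib.Helper5_ChevSL2
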