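import Mathlib
import Cfsg.Agent.Lib.Helper1_D8Defs
import Cfsg.Agent.Lib.Helper79_FrobSchur

/-!
S3716 market `d8_packages` (helper1 architect), package **FSEVEN**: for an irreducible character
of quaternionic type (Frobenius–Schur indicator `-1`) the fixed space of every subgroup has even
dimension.  (helper5, parallel attempt)
-/

set_option autoImplicit false
set_option linter.unusedSectionVars false
set_option linter.style.haveILetI false

namespace Cfsg.Agent.Lib.Helper5_D8_FSEVEN

open Cfsg Cfsg.Agent.Lib.Helper80_CharBasic Cfsg.Agent.Lib.Helper1_D8Defs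
open Representation Cfsg.Agent.Lib.Helper79_FrobSchur

/-- A space with a left-separating skew-symmetric bilinear form has even dimension. -/
lemma even_finrank_of_skew {W : Type*} [AddCommGroup W] [Module ℂ W] [FiniteDimensional ℂ W]
    (B : W →ₗ[ℂ] W →ₗ[ℂ] ℂ) (hskew : ∀ v w, B w v = -B v w) (hsep : B.SeparatingLeft) :
    Even (Module.finrank ℂ W) := by
  classical
  let b := Module.finBasis ℂ W
  have hdet : (LinearMap.toMatrix₂ b b B).det ≠ 0 :=
    (LinearMap.separatingLeft_iff_det_ne_zero b).1 hsep
  have hT : (LinearMap.toMatrix₂ b b B).transpose = -(LinearMap.toMatrix₂ b b B) := by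
    ext i j
    rw [Matrix.transpose_apply, Matrix.neg_apply, LinearMap.toMatrix₂_apply,
      LinearMap.toMatrix₂_apply, hskew]
  by_contra hodd
  rw [Nat.not_even_iff_odd] at hodd
  have h1 : (LinearMap.toMatrix₂ b b B).det = -(LinearMap.toMatrix₂ b b B).det := by
    conv_lhs => rw [← Matrix.det_transpose, hT, Matrix.det_neg, Fintype.card_fin,
      hodd.neg_one_pow, neg_one_mul]
  have h2 : (2 : ℂ) * (LinearMap.toMatrix₂ b b B).det = 0 := by linear_combination h1
  rcases mul_eq_zero.1 h2 with h | h
  · exact two_ne_zero h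
  · exact hdet h

section rep

variable {G : Type*} [Group G] [Fintype G] {V : Type*} [AddCommGroup V] [Module ℂ V]
  [FiniteDimensional ℂ V] (ρ : Representation ℂ G V) [ρ.IsIrreducible]

/-- the sum identity for a given symmetry sign (cf. `Helper79_FrobSchur.exists_sign_sum`) -/
lemma sign_sum {ε : ℂ} (hflip : ∀ f : IntertwiningMap ρ ρ.dual, flipI ρ f = ε • f) :
    ∑ g : G, ρ.character (g * g) = ε * ∑ g : G, ρ.character g * ρ.character g := by
  classical
  let b := Module.finBasis ℂ V
  rw [sum_char_mul_self ρ b, sum_char_sq ρ b, Finset.mul_sum]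
  refine Finset.sum_congr rfl (fun i _ => ?_)
  rw [Finset.mul_sum]
  refine Finset.sum_congr rfl (fun j _ => ?_)
  have := hflip (avgForm ρ (b.coord i) (b.coord j))
  have h2 := congrArg (fun F : IntertwiningMap ρ ρ.dual => F (b i) (b j)) this
  simpa using h2

/-- indicator `-1`: there is a nonzero skew-symmetric invariant form -/
lemma exists_skew_form (hν : ∑ g : G, ρ.character (g * g) = -(Nat.card G : ℂ)) :
    ∃ f : IntertwiningMap ρ ρ.dual, f ≠ 0 ∧ ∀ v w, f w v = -f v w := by
  obtain ⟨ε, hε, hflip⟩ := exists_sign ρ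
  have hsum := sign_sum ρ hflip
  have hd := card_inv_mul_sum_char_sq ρ
  have hle := finrank_forms_le_one ρ
  have hcard : (Nat.card G : ℂ) ≠ 0 := by exact_mod_cast Nat.card_pos.ne'
  have hsq : ∑ g : G, ρ.character g * ρ.character g =
      (Nat.card G : ℂ) * (Module.finrank ℂ (IntertwiningMap ρ ρ.dual) : ℂ) := by
    rw [← hd, ← mul_assoc, mul_inv_cancel₀ hcard, one_mul]
  rw [hsum, hsq] at hν
  have hεd : ε * (Module.finrank ℂ (IntertwiningMap ρ ρ.dual) : ℂ) = -1 := by
    have h1 : (Nat.card G : ℂ) * (ε * (Module.finrank ℂ (IntertwiningMap ρ ρ.dual) : ℂ)) =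
        (Nat.card G : ℂ) * (-1) := by linear_combination hν
    exact mul_left_cancel₀ hcard h1
  have hd1 : Module.finrank ℂ (IntertwiningMap ρ ρ.dual) = 1 := by
    interval_cases hh : Module.finrank ℂ (IntertwiningMap ρ ρ.dual)
    · exfalso
      rw [Nat.cast_zero, mul_zero] at hεd
      norm_num at hεd
    · rfl
  rw [hd1, Nat.cast_one, mul_one] at hεd
  obtain ⟨f, hf⟩ : ∃ f : IntertwiningMap ρ ρ.dual, f ≠ 0 := by
    by_contra hall
    have hall' : ∀ f : IntertwiningMap ρ ρ.dual, f = 0 := by
      intro f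
      by_contra h
      exact hall ⟨f, h⟩
    have : Subsingleton (IntertwiningMap ρ ρ.dual) :=
      ⟨fun a b => by rw [hall' a, hall' b]⟩
    rw [Module.finrank_zero_of_subsingleton] at hd1
    exact absurd hd1 (by norm_num)
  refine ⟨f, hf, fun v w => ?_⟩
  have h1 := congrArg (fun F : IntertwiningMap ρ ρ.dual => F v w) (hflip f)
  rw [hεd] at h1
  simpa using h1

/-- the fixed space of a subgroup has even dimension -/
lemma even_finrank_invariants (hν : ∑ g : G, ρ.character (g * g) = -(Nat.card G : ℂ))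
    (H : Subgroup G) : Even (Module.finrank ℂ (invariants (ρ.comp H.subtype))) := by
  classical
  obtain ⟨f, hf, hskew⟩ := exists_skew_form ρ hν
  have hinj : Function.Injective f :=
    (IsIrreducible.injective_or_eq_zero f).resolve_right hf
  let B : (invariants (ρ.comp H.subtype)) →ₗ[ℂ] (invariants (ρ.comp H.subtype)) →ₗ[ℂ] ℂ :=
    (f.toLinearMap.domRestrict₁₂ (invariants (ρ.comp H.subtype))
      (invariants (ρ.comp H.subtype)))
  have hB : ∀ v w : invariants (ρ.comp H.subtype), B v w = f (v : V) (w : V) := fun v w => rfl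
  apply even_finrank_of_skew B
  · intro v w
    rw [hB, hB, hskew]
  · intro v hv
    -- `f v = 0`
    have hcardH : (Nat.card H : ℂ) ≠ 0 := by exact_mod_cast Nat.card_pos.ne'
    have hfv : f (v : V) = 0 := by
      apply LinearMap.ext
      intro w
      -- the `H`-sum of `w`
      have hmem : (∑ x : H, ρ (x : G) w) ∈ invariants (ρ.comp H.subtype) := by
        intro y
        show ρ (y : G) (∑ x : H, ρ (x : G) w) = ∑ x : H, ρ (x : G) w
        rw [map_sum]
        refine Fintype.sum_equiv (Equiv.mulLeft y) _ _ (fun x => ?_)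
        show ρ (y : G) (ρ (x : G) w) = ρ ((y * x : H) : G) w
        rw [Subgroup.coe_mul, map_mul]
        rfl
      have h0 := hv ⟨_, hmem⟩
      rw [hB] at h0
      have h1 : f (v : V) (∑ x : H, ρ (x : G) w) = (Nat.card H : ℂ) * f (v : V) w := by
        rw [map_sum]
        have h2 : ∀ x : H, f (v : V) (ρ (x : G) w) = f (v : V) w := by
          intro x
          have h3 := form_invariant ρ f ((x : G)⁻¹) (v : V) w
          rw [inv_inv] at h3
          rw [← h3]
          have h4 : ρ ((x : G)⁻¹) (v : V) = (v : V) := v.2 (x⁻¹)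
          rw [h4]
        rw [Finset.sum_congr rfl (fun x _ => h2 x), Finset.sum_const, Finset.card_univ,
          nsmul_eq_mul, Nat.card_eq_fintype_card]
      rw [h1] at h0
      rcases mul_eq_zero.1 h0 with h | h
      · exact absurd h hcardH
      · exact h
    have : (v : V) = 0 := hinj (by rw [hfv, map_zero])
    exact Subtype.ext this

end rep

section grp

variable {G : Type*} [Group G] [Finite G]

theorem even_fixed (χ : IrrCharacter G)
    (hν : ∑ᶠ g : G, (χ : G → ℂ) (g * g) = -(Nat.card G : ℂ)) (H : Subgroup G) :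
    ∃ k : ℤ, ∑ᶠ x : H, (χ : G → ℂ) x = 2 * k * (Nat.card H : ℂ) := by
  classical
  have : Fintype G := Fintype.ofFinite G
  obtain ⟨n, ρ, hirr, hχ⟩ := χ.2
  have : ρ.IsIrreducible := hirr
  rw [finsum_eq_sum_of_fintype] at hν
  rw [finsum_eq_sum_of_fintype]
  rw [← hχ] at hν ⊢
  obtain ⟨k, hk⟩ := even_finrank_invariants ρ hν H
  have hcardH : (Nat.card H : ℂ) ≠ 0 := by exact_mod_cast Nat.card_pos.ne'
  haveI : Invertible (Nat.card H : ℂ) := invertibleOfNonzero hcardH
  have hdim := card_inv_mul_sum_char_eq_finrank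
    (ρ.comp H.subtype : Representation ℂ H (Fin n → ℂ))
  have hchar : ∀ x : H,
      Representation.character (ρ.comp H.subtype : Representation ℂ H (Fin n → ℂ)) x =
        ρ.character (x : G) := fun x => rfl
  rw [Finset.sum_congr rfl (fun x _ => hchar x)] at hdim
  refine ⟨(k : ℤ), ?_⟩
  have h1 : ∑ x : H, ρ.character (x : G) =
      (Nat.card H : ℂ) * (Module.finrank ℂ (invariants (ρ.comp H.subtype)) : ℂ) := by
    rw [← hdim, ← mul_assoc, mul_inv_cancel₀ hcardH, one_mul]
  rw [h1, hk]
  push_cast
  ring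

end grp

end Cfsg.Agent.Lib.Helper5_D8_FSEVEN
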