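import Mathlib
import Cfsg.Agent.Lib.Helper1_D8Defs

/-!
S3716 market `d8_packages` (helper1 architect), package **SWAP**: the mirror symmetry
`(m1, m1', m2, m2') ↦ (m2, m2', m1, m1')` of the coordinates preserves `Core` and `IsShape`.
(helper5)
-/

set_option autoImplicit false

namespace Cfsg.Agent.Lib.Helper5_D8_SWAP

open Cfsg Cfsg.Agent.Lib.Helper1_D8Defs

/-- the mirror symmetry of the coordinates: `(m1, m1', m2, m2') ↦ (m2, m2', m1, m1')`
(same body as `S3716P.sw` of the packages file) -/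
def sw : Fin 4 → Fin 4 := ![2, 3, 0, 1]

lemma pv_sw (x : Fin 4 → ℤ) : pv (fun j => x (sw j)) = qv x := by
  simp [pv, qv, sw]

lemma qv_sw (x : Fin 4 → ℤ) : qv (fun j => x (sw j)) = pv x := by
  simp [pv, qv, sw]

lemma gram_sw (j k : Fin 4) : gram (sw j) (sw k) = gram j k := by
  fin_cases j <;> fin_cases k <;> rfl

lemma base_sw (j : Fin 4) : (![1, 0, 1, 0] : Fin 4 → ℤ) (sw j) = (![1, 0, 1, 0] : Fin 4 → ℤ) j := by
  fin_cases j <;> rfl

theorem core_swap {I : Type*} [Fintype I] {o : I} {d : I → ℕ} {m : I → Fin 4 → ℤ} {ν : I → ℤ} {h : ℕ}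
    (c : Core I o d m ν h) : Core I o d (fun i j => m i (sw j)) ν h := by
  refine ⟨c.dpos, ?_, c.nuo, c.lin, ?_, ?_, ?_, ?_, ?_, c.sq, c.hmod, c.hne, ?_, ?_, ?_⟩
  · funext j
    show m o (sw j) = _
    rw [c.mo, base_sw]
  · intro j k
    show ∑ i, m i (sw j) * m i (sw k) = gram j k
    rw [c.gram, gram_sw]
  · intro j
    exact c.col (sw j)
  · intro i
    show (9 : ℤ) ∣ (d i : ℤ) + 4 * pv (fun j => m i (sw j)) + 4 * qv (fun j => m i (sw j))
    rw [pv_sw, qv_sw]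
    have := c.fix9 i
    have h1 : (d i : ℤ) + 4 * qv (m i) + 4 * pv (m i) = (d i : ℤ) + 4 * pv (m i) + 4 * qv (m i) := by
      ring
    rw [h1]
    exact this
  · show (h : ℚ) * ∑ i, (pv (fun j => m i (sw j)) : ℚ) ^ 2 * (qv (fun j => m i (sw j)) : ℚ) /
      (d i : ℚ) = 9
    rw [← c.eq2]
    congr 1
    refine Finset.sum_congr rfl fun i _ => ?_
    rw [pv_sw, qv_sw]
    ring
  · show (h : ℚ) * ∑ i, (pv (fun j => m i (sw j)) : ℚ) * (qv (fun j => m i (sw j)) : ℚ) ^ 2 /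
      (d i : ℚ) = 9
    rw [← c.eq1]
    congr 1
    refine Finset.sum_congr rfl fun i _ => ?_
    rw [pv_sw, qv_sw]
    ring
  · intro j
    exact c.fs (sw j)
  · intro i
    rcases c.fs01 i with h0 | h1 | ⟨h2, h3⟩
    · exact Or.inl h0
    · exact Or.inr (Or.inl h1)
    · exact Or.inr (Or.inr ⟨h2, fun j => h3 (sw j)⟩)
  · intro i hi
    obtain ⟨i', h1, h2, h3⟩ := c.fs0 i hi
    refine ⟨i', h1, ?_, h3⟩
    funext j
    show m i' (sw j) = m i (sw j)
    rw [h2]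

theorem shape_swap {I : Type*} {o : I} {m : I → Fin 4 → ℤ} {n : ℕ} {R : Fin n → Fin 4 → ℤ}
    (hs : IsShape o m n R) : IsShape o (fun i j => m i (sw j)) n (fun k j => R k (sw j)) := by
  obtain ⟨idx, ε, hinj, hno, hε, hm, hz⟩ := hs
  exact ⟨idx, ε, hinj, hno, hε, fun k j => hm k (sw j), fun i hi hik j => hz i hi hik (sw j)⟩

end Cfsg.Agent.Lib.Helper5_D8_SWAP
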