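import Cfsg.Prelude.Def_ChevStructure
import Cfsg.Prelude.Def_ChevE8
import Cfsg.Agent.Lib.Helper5_E8C_CONN1Raw

/-!
# S5751 package CONNJ (helper4's market `e8c_packages`), table part

Connectivity of the levels `2, …, 6` of `E₈` with respect to the node `3`: every positive root of level `j` is joined
by a chain of translations by roots of the Levi subsystem to a root `b` of level `j` with `A_{p₄, b} = 1`.  Stated on
the raw tables of `Cfsg.Lie.chevE8`; `Helper5_E8C_CONNJ` restates it with helper4's definitions.
-/

set_option autoImplicit false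

namespace Cfsg.Agent.Lib.Helper5_E8C_CONNJRaw

open Cfsg Cfsg.Lie Cfsg.Agent.Lib.Helper5_E8C_CONN1Raw


/-- the positive roots of level 2 -/
def lev2 : List ℕ := [152, 153, 154, 155, 156, 157, 158, 159, 160, 161, 174, 175, 176, 177, 178, 179, 180, 181, 182, 183, 184, 185, 186, 187, 188, 189, 190, 191, 192, 193]

theorem mem_lev2 : ∀ r < 240, chevE8.IsPosRoot r → lvRaw r = ((2 : ℕ) : ℤ) → r ∈ lev2 := by
  decide +kernel

theorem conn_level_2 (Z : ℕ → Prop)
    (hstep : ∀ β r s, β < 240 → (chevE8.coroot.getD β #[]).getD 3 0 = 0 → chevE8.IsPosRoot r →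
      lvRaw r = ((2 : ℕ) : ℤ) → chevE8.chainRoot β r 1 = some s → Z s → Z r)
    (hbase : ∀ b, chevE8.IsPosRoot b → lvRaw b = ((2 : ℕ) : ℤ) → chevE8.cartan 3 b = 1 → Z b) :
    ∀ r, chevE8.IsPosRoot r → lvRaw r = ((2 : ℕ) : ℤ) → Z r := by
  have h152 : Z 152 := hbase 152 (by decide +kernel) (by decide +kernel) (by decide +kernel)
  have h153 : Z 153 := hbase 153 (by decide +kernel) (by decide +kernel) (by decide +kernel)
  have h154 : Z 154 := hbase 154 (by decide +kernel) (by decide +kernel) (by decide +kernel)
  have h155 : Z 155 := hbase 155 (by decide +kernel) (by decide +kernel) (by decide +kernel)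
  have h174 : Z 174 := hbase 174 (by decide +kernel) (by decide +kernel) (by decide +kernel)
  have h175 : Z 175 := hbase 175 (by decide +kernel) (by decide +kernel) (by decide +kernel)
  have h176 : Z 176 := hbase 176 (by decide +kernel) (by decide +kernel) (by decide +kernel)
  have h177 : Z 177 := hbase 177 (by decide +kernel) (by decide +kernel) (by decide +kernel)
  have h156 : Z 156 := hstep 112 156 152 (by decide +kernel) (by decide +kernel) (by decide +kernel)
    (by decide +kernel) (by decide +kernel) h152
  have h157 : Z 157 := hstep 111 157 152 (by decide +kernel) (by decide +kernel) (by decide +kernel)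
    (by decide +kernel) (by decide +kernel) h152
  have h158 : Z 158 := hstep 110 158 152 (by decide +kernel) (by decide +kernel) (by decide +kernel)
    (by decide +kernel) (by decide +kernel) h152
  have h159 : Z 159 := hstep 111 159 153 (by decide +kernel) (by decide +kernel) (by decide +kernel)
    (by decide +kernel) (by decide +kernel) h153
  have h160 : Z 160 := hstep 110 160 153 (by decide +kernel) (by decide +kernel) (by decide +kernel)
    (by decide +kernel) (by decide +kernel) h153
  have h161 : Z 161 := hstep 110 161 154 (by decide +kernel) (by decide +kernel) (by decide +kernel)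
    (by decide +kernel) (by decide +kernel) h154
  have h178 : Z 178 := hstep 112 178 174 (by decide +kernel) (by decide +kernel) (by decide +kernel)
    (by decide +kernel) (by decide +kernel) h174
  have h179 : Z 179 := hstep 111 179 174 (by decide +kernel) (by decide +kernel) (by decide +kernel)
    (by decide +kernel) (by decide +kernel) h174
  have h180 : Z 180 := hstep 110 180 174 (by decide +kernel) (by decide +kernel) (by decide +kernel)
    (by decide +kernel) (by decide +kernel) h174
  have h181 : Z 181 := hstep 111 181 175 (by decide +kernel) (by decide +kernel) (by decide +kernel)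
    (by decide +kernel) (by decide +kernel) h175
  have h182 : Z 182 := hstep 110 182 175 (by decide +kernel) (by decide +kernel) (by decide +kernel)
    (by decide +kernel) (by decide +kernel) h175
  have h183 : Z 183 := hstep 110 183 176 (by decide +kernel) (by decide +kernel) (by decide +kernel)
    (by decide +kernel) (by decide +kernel) h176
  have h184 : Z 184 := hstep 76 184 152 (by decide +kernel) (by decide +kernel) (by decide +kernel)
    (by decide +kernel) (by decide +kernel) h152
  have h185 : Z 185 := hstep 76 185 153 (by decide +kernel) (by decide +kernel) (by decide +kernel)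
    (by decide +kernel) (by decide +kernel) h153
  have h186 : Z 186 := hstep 76 186 154 (by decide +kernel) (by decide +kernel) (by decide +kernel)
    (by decide +kernel) (by decide +kernel) h154
  have h187 : Z 187 := hstep 76 187 155 (by decide +kernel) (by decide +kernel) (by decide +kernel)
    (by decide +kernel) (by decide +kernel) h155
  have h188 : Z 188 := hstep 76 188 156 (by decide +kernel) (by decide +kernel) (by decide +kernel)
    (by decide +kernel) (by decide +kernel) h156
  have h189 : Z 189 := hstep 76 189 157 (by decide +kernel) (by decide +kernel) (by decide +kernel)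
    (by decide +kernel) (by decide +kernel) h157
  have h190 : Z 190 := hstep 76 190 158 (by decide +kernel) (by decide +kernel) (by decide +kernel)
    (by decide +kernel) (by decide +kernel) h158
  have h191 : Z 191 := hstep 76 191 159 (by decide +kernel) (by decide +kernel) (by decide +kernel)
    (by decide +kernel) (by decide +kernel) h159
  have h192 : Z 192 := hstep 76 192 160 (by decide +kernel) (by decide +kernel) (by decide +kernel)
    (by decide +kernel) (by decide +kernel) h160
  have h193 : Z 193 := hstep 76 193 161 (by decide +kernel) (by decide +kernel) (by decide +kernel)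
    (by decide +kernel) (by decide +kernel) h161
  intro r hr hl
  have hmem := mem_lev2 r hr.1 hr hl
  simp only [lev2, List.mem_cons, List.not_mem_nil, or_false] at hmem
  rcases hmem with rfl | rfl | rfl | rfl | rfl | rfl | rfl | rfl | rfl | rfl | rfl | rfl | rfl | rfl | rfl | rfl | rfl | rfl | rfl | rfl | rfl | rfl | rfl | rfl | rfl | rfl | rfl | rfl | rfl | rfl
  all_goals assumption

/-- the positive roots of level 3 -/
def lev3 : List ℕ := [194, 195, 196, 197, 198, 199, 200, 201, 202, 203, 204, 205, 206, 207, 208, 209, 210, 211, 212, 213]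

theorem mem_lev3 : ∀ r < 240, chevE8.IsPosRoot r → lvRaw r = ((3 : ℕ) : ℤ) → r ∈ lev3 := by
  decide +kernel

theorem conn_level_3 (Z : ℕ → Prop)
    (hstep : ∀ β r s, β < 240 → (chevE8.coroot.getD β #[]).getD 3 0 = 0 → chevE8.IsPosRoot r →
      lvRaw r = ((3 : ℕ) : ℤ) → chevE8.chainRoot β r 1 = some s → Z s → Z r)
    (hbase : ∀ b, chevE8.IsPosRoot b → lvRaw b = ((3 : ℕ) : ℤ) → chevE8.cartan 3 b = 1 → Z b) :
    ∀ r, chevE8.IsPosRoot r → lvRaw r = ((3 : ℕ) : ℤ) → Z r := by
  have h194 : Z 194 := hbase 194 (by decide +kernel) (by decide +kernel) (by decide +kernel)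
  have h195 : Z 195 := hbase 195 (by decide +kernel) (by decide +kernel) (by decide +kernel)
  have h196 : Z 196 := hbase 196 (by decide +kernel) (by decide +kernel) (by decide +kernel)
  have h197 : Z 197 := hbase 197 (by decide +kernel) (by decide +kernel) (by decide +kernel)
  have h198 : Z 198 := hbase 198 (by decide +kernel) (by decide +kernel) (by decide +kernel)
  have h199 : Z 199 := hbase 199 (by decide +kernel) (by decide +kernel) (by decide +kernel)
  have h200 : Z 200 := hstep 111 200 194 (by decide +kernel) (by decide +kernel) (by decide +kernel)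
    (by decide +kernel) (by decide +kernel) h194
  have h201 : Z 201 := hstep 110 201 194 (by decide +kernel) (by decide +kernel) (by decide +kernel)
    (by decide +kernel) (by decide +kernel) h194
  have h202 : Z 202 := hstep 110 202 195 (by decide +kernel) (by decide +kernel) (by decide +kernel)
    (by decide +kernel) (by decide +kernel) h195
  have h203 : Z 203 := hstep 110 203 197 (by decide +kernel) (by decide +kernel) (by decide +kernel)
    (by decide +kernel) (by decide +kernel) h197
  have h204 : Z 204 := hstep 98 204 194 (by decide +kernel) (by decide +kernel) (by decide +kernel)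
    (by decide +kernel) (by decide +kernel) h194
  have h205 : Z 205 := hstep 98 205 195 (by decide +kernel) (by decide +kernel) (by decide +kernel)
    (by decide +kernel) (by decide +kernel) h195
  have h206 : Z 206 := hstep 98 206 196 (by decide +kernel) (by decide +kernel) (by decide +kernel)
    (by decide +kernel) (by decide +kernel) h196
  have h207 : Z 207 := hstep 98 207 197 (by decide +kernel) (by decide +kernel) (by decide +kernel)
    (by decide +kernel) (by decide +kernel) h197
  have h208 : Z 208 := hstep 98 208 198 (by decide +kernel) (by decide +kernel) (by decide +kernel)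
    (by decide +kernel) (by decide +kernel) h198
  have h209 : Z 209 := hstep 98 209 199 (by decide +kernel) (by decide +kernel) (by decide +kernel)
    (by decide +kernel) (by decide +kernel) h199
  have h210 : Z 210 := hstep 98 210 200 (by decide +kernel) (by decide +kernel) (by decide +kernel)
    (by decide +kernel) (by decide +kernel) h200
  have h211 : Z 211 := hstep 98 211 201 (by decide +kernel) (by decide +kernel) (by decide +kernel)
    (by decide +kernel) (by decide +kernel) h201
  have h212 : Z 212 := hstep 98 212 202 (by decide +kernel) (by decide +kernel) (by decide +kernel)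
    (by decide +kernel) (by decide +kernel) h202
  have h213 : Z 213 := hstep 98 213 203 (by decide +kernel) (by decide +kernel) (by decide +kernel)
    (by decide +kernel) (by decide +kernel) h203
  intro r hr hl
  have hmem := mem_lev3 r hr.1 hr hl
  simp only [lev3, List.mem_cons, List.not_mem_nil, or_false] at hmem
  rcases hmem with rfl | rfl | rfl | rfl | rfl | rfl | rfl | rfl | rfl | rfl | rfl | rfl | rfl | rfl | rfl | rfl | rfl | rfl | rfl | rfl
  all_goals assumption

/-- the positive roots of level 4 -/
def lev4 : List ℕ := [214, 215, 216, 217, 218, 219, 220, 221, 222, 223, 226, 227, 228, 229, 230]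

theorem mem_lev4 : ∀ r < 240, chevE8.IsPosRoot r → lvRaw r = ((4 : ℕ) : ℤ) → r ∈ lev4 := by
  decide +kernel

theorem conn_level_4 (Z : ℕ → Prop)
    (hstep : ∀ β r s, β < 240 → (chevE8.coroot.getD β #[]).getD 3 0 = 0 → chevE8.IsPosRoot r →
      lvRaw r = ((4 : ℕ) : ℤ) → chevE8.chainRoot β r 1 = some s → Z s → Z r)
    (hbase : ∀ b, chevE8.IsPosRoot b → lvRaw b = ((4 : ℕ) : ℤ) → chevE8.cartan 3 b = 1 → Z b) :
    ∀ r, chevE8.IsPosRoot r → lvRaw r = ((4 : ℕ) : ℤ) → Z r := by
  have h214 : Z 214 := hbase 214 (by decide +kernel) (by decide +kernel) (by decide +kernel)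
  have h215 : Z 215 := hbase 215 (by decide +kernel) (by decide +kernel) (by decide +kernel)
  have h216 : Z 216 := hbase 216 (by decide +kernel) (by decide +kernel) (by decide +kernel)
  have h217 : Z 217 := hbase 217 (by decide +kernel) (by decide +kernel) (by decide +kernel)
  have h218 : Z 218 := hstep 110 218 214 (by decide +kernel) (by decide +kernel) (by decide +kernel)
    (by decide +kernel) (by decide +kernel) h214
  have h219 : Z 219 := hstep 104 219 214 (by decide +kernel) (by decide +kernel) (by decide +kernel)
    (by decide +kernel) (by decide +kernel) h214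
  have h220 : Z 220 := hstep 104 220 215 (by decide +kernel) (by decide +kernel) (by decide +kernel)
    (by decide +kernel) (by decide +kernel) h215
  have h221 : Z 221 := hstep 104 221 216 (by decide +kernel) (by decide +kernel) (by decide +kernel)
    (by decide +kernel) (by decide +kernel) h216
  have h222 : Z 222 := hstep 104 222 217 (by decide +kernel) (by decide +kernel) (by decide +kernel)
    (by decide +kernel) (by decide +kernel) h217
  have h226 : Z 226 := hstep 76 226 214 (by decide +kernel) (by decide +kernel) (by decide +kernel)
    (by decide +kernel) (by decide +kernel) h214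
  have h227 : Z 227 := hstep 76 227 215 (by decide +kernel) (by decide +kernel) (by decide +kernel)
    (by decide +kernel) (by decide +kernel) h215
  have h228 : Z 228 := hstep 76 228 216 (by decide +kernel) (by decide +kernel) (by decide +kernel)
    (by decide +kernel) (by decide +kernel) h216
  have h229 : Z 229 := hstep 76 229 217 (by decide +kernel) (by decide +kernel) (by decide +kernel)
    (by decide +kernel) (by decide +kernel) h217
  have h223 : Z 223 := hstep 104 223 218 (by decide +kernel) (by decide +kernel) (by decide +kernel)
    (by decide +kernel) (by decide +kernel) h218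
  have h230 : Z 230 := hstep 76 230 218 (by decide +kernel) (by decide +kernel) (by decide +kernel)
    (by decide +kernel) (by decide +kernel) h218
  intro r hr hl
  have hmem := mem_lev4 r hr.1 hr hl
  simp only [lev4, List.mem_cons, List.not_mem_nil, or_false] at hmem
  rcases hmem with rfl | rfl | rfl | rfl | rfl | rfl | rfl | rfl | rfl | rfl | rfl | rfl | rfl | rfl | rfl
  all_goals assumption

/-- the positive roots of level 5 -/
def lev5 : List ℕ := [224, 225, 231, 232, 233, 234]

theorem mem_lev5 : ∀ r < 240, chevE8.IsPosRoot r → lvRaw r = ((5 : ℕ) : ℤ) → r ∈ lev5 := by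
  decide +kernel

theorem conn_level_5 (Z : ℕ → Prop)
    (hstep : ∀ β r s, β < 240 → (chevE8.coroot.getD β #[]).getD 3 0 = 0 → chevE8.IsPosRoot r →
      lvRaw r = ((5 : ℕ) : ℤ) → chevE8.chainRoot β r 1 = some s → Z s → Z r)
    (hbase : ∀ b, chevE8.IsPosRoot b → lvRaw b = ((5 : ℕ) : ℤ) → chevE8.cartan 3 b = 1 → Z b) :
    ∀ r, chevE8.IsPosRoot r → lvRaw r = ((5 : ℕ) : ℤ) → Z r := by
  have h224 : Z 224 := hbase 224 (by decide +kernel) (by decide +kernel) (by decide +kernel)
  have h231 : Z 231 := hbase 231 (by decide +kernel) (by decide +kernel) (by decide +kernel)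
  have h225 : Z 225 := hstep 98 225 224 (by decide +kernel) (by decide +kernel) (by decide +kernel)
    (by decide +kernel) (by decide +kernel) h224
  have h232 : Z 232 := hstep 76 232 224 (by decide +kernel) (by decide +kernel) (by decide +kernel)
    (by decide +kernel) (by decide +kernel) h224
  have h233 : Z 233 := hstep 98 233 231 (by decide +kernel) (by decide +kernel) (by decide +kernel)
    (by decide +kernel) (by decide +kernel) h231
  have h234 : Z 234 := hstep 76 234 225 (by decide +kernel) (by decide +kernel) (by decide +kernel)
    (by decide +kernel) (by decide +kernel) h225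
  intro r hr hl
  have hmem := mem_lev5 r hr.1 hr hl
  simp only [lev5, List.mem_cons, List.not_mem_nil, or_false] at hmem
  rcases hmem with rfl | rfl | rfl | rfl | rfl | rfl
  all_goals assumption

/-- the positive roots of level 6 -/
def lev6 : List ℕ := [235, 236, 237, 238, 239]

theorem mem_lev6 : ∀ r < 240, chevE8.IsPosRoot r → lvRaw r = ((6 : ℕ) : ℤ) → r ∈ lev6 := by
  decide +kernel

theorem conn_level_6 (Z : ℕ → Prop)
    (hstep : ∀ β r s, β < 240 → (chevE8.coroot.getD β #[]).getD 3 0 = 0 → chevE8.IsPosRoot r →
      lvRaw r = ((6 : ℕ) : ℤ) → chevE8.chainRoot β r 1 = some s → Z s → Z r)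
    (hbase : ∀ b, chevE8.IsPosRoot b → lvRaw b = ((6 : ℕ) : ℤ) → chevE8.cartan 3 b = 1 → Z b) :
    ∀ r, chevE8.IsPosRoot r → lvRaw r = ((6 : ℕ) : ℤ) → Z r := by
  have h235 : Z 235 := hbase 235 (by decide +kernel) (by decide +kernel) (by decide +kernel)
  have h236 : Z 236 := hstep 113 236 235 (by decide +kernel) (by decide +kernel) (by decide +kernel)
    (by decide +kernel) (by decide +kernel) h235
  have h237 : Z 237 := hstep 112 237 235 (by decide +kernel) (by decide +kernel) (by decide +kernel)
    (by decide +kernel) (by decide +kernel) h235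
  have h238 : Z 238 := hstep 111 238 235 (by decide +kernel) (by decide +kernel) (by decide +kernel)
    (by decide +kernel) (by decide +kernel) h235
  have h239 : Z 239 := hstep 110 239 235 (by decide +kernel) (by decide +kernel) (by decide +kernel)
    (by decide +kernel) (by decide +kernel) h235
  intro r hr hl
  have hmem := mem_lev6 r hr.1 hr hl
  simp only [lev6, List.mem_cons, List.not_mem_nil, or_false] at hmem
  rcases hmem with rfl | rfl | rfl | rfl | rfl
  all_goals assumption

/-- **CONNJ**, on the raw tables. -/
theorem conn_ge_two_raw (j : ℕ) (hj : 2 ≤ j) (hj6 : j ≤ 6) (Z : ℕ → Prop) (lvf : ℕ → ℤ) (J : Set ℕ)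
    (hlv : ∀ r, lvf r = lvRaw r) (hJ : J = {i | i ≠ 3})
    (hstep : ∀ β r s, chevE8.InRootSub J β → chevE8.IsPosRoot r → lvf r = j →
      chevE8.chainRoot β r 1 = some s → Z s → Z r)
    (hbase : ∀ b, chevE8.IsPosRoot b → lvf b = j → chevE8.cartan 3 b = 1 → Z b) :
    ∀ r, chevE8.IsPosRoot r → lvf r = j → Z r := by
  subst hJ
  have hstep' : ∀ β r s, β < 240 → (chevE8.coroot.getD β #[]).getD 3 0 = 0 → chevE8.IsPosRoot r →
      lvRaw r = (j : ℤ) → chevE8.chainRoot β r 1 = some s → Z s → Z r := by
    intro β r s h1 h2 h3 h4 h5 h6
    exact hstep β r s (inRootSub_of β h1 h2) h3 (by rw [hlv]; exact h4) h5 h6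
  have hbase' : ∀ b, chevE8.IsPosRoot b → lvRaw b = (j : ℤ) → chevE8.cartan 3 b = 1 → Z b := by
    intro b h1 h2 h3
    exact hbase b h1 (by rw [hlv]; exact h2) h3
  have hfin : ∀ r, chevE8.IsPosRoot r → lvRaw r = (j : ℤ) → Z r := by
    have hj' : j = 2 ∨ j = 3 ∨ j = 4 ∨ j = 5 ∨ j = 6 := by omega
    rcases hj' with rfl | rfl | rfl | rfl | rfl
    · exact conn_level_2 Z hstep' hbase'
    · exact conn_level_3 Z hstep' hbase'
    · exact conn_level_4 Z hstep' hbase'
    · exact conn_level_5 Z hstep' hbase'
    · exact conn_level_6 Z hstep' hbase'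
  intro r hr hl
  exact hfin r hr (by rw [← hlv]; exact hl)

end Cfsg.Agent.Lib.Helper5_E8C_CONNJRaw
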