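import Cfsg.Agent.Lib.Helper4_E8Defs
import Cfsg.Agent.Lib.Helper5_E8C_CONNJRaw

/-!
# S5751 package CONNJ (helper4's market `e8c_packages`)

Connectivity of the levels `2, …, 6` of `E₈` (node `3`), with helper4's definitions; the table part is
`Helper5_E8C_CONNJRaw.conn_ge_two_raw`.
-/

set_option autoImplicit false

namespace Cfsg.Agent.Lib.Helper5_E8C_CONNJ

open Cfsg Cfsg.Lie Cfsg.Agent.Lib.Helper18_MatTri Cfsg.Agent.Lib.Helper18_ChevTri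
  Cfsg.Agent.Lib.Helper4_E8Defs

/-- CONNJ.  Connectivity of the levels 2, …, 6. -/
theorem conn_ge_two (j : ℕ) (hj : 2 ≤ j) (hj6 : j ≤ 6) (Z : ℕ → Prop)
    (hstep : ∀ β r s, D8.InRootSub J3 β → D8.IsPosRoot r → lv r = j → D8.chainRoot β r 1 = some s → Z s → Z r)
    (hbase : ∀ b, D8.IsPosRoot b → lv b = j → D8.cartan 3 b = 1 → Z b) :
    ∀ r, D8.IsPosRoot r → lv r = j → Z r := by
  have h1 : ∀ r, lv r = Cfsg.Agent.Lib.Helper5_E8C_CONN1Raw.lvRaw r := by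
    intro r
    unfold lv Cfsg.Agent.Lib.Helper5_E8C_CONN1Raw.lvRaw D8
    rfl
  have h2 : J3 = {i | i ≠ 3} := rfl
  exact Cfsg.Agent.Lib.Helper5_E8C_CONNJRaw.conn_ge_two_raw j hj hj6 Z lv J3 h1 h2 hstep hbase

end Cfsg.Agent.Lib.Helper5_E8C_CONNJ
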