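import Mathlib
import Cfsg.Prelude.Def_Characters
import Cfsg.Agent.Lib.Helper80_CharBasic
import Cfsg.Agent.Lib.Helper80_CharComplete
import Cfsg.Agent.Lib.Helper6_GL23Defs
import Cfsg.Agent.Lib.Helper41_GL23_CYC8
import Cfsg.Agent.Lib.Helper42_GL23_CYC6

/-!
# S0197 package ORTH (helper5 for helper6): second orthogonality on the special classes `t, a², ts, a, a⁻¹`
of `C_G(t) ≅ GL(2,3)`, in integer coordinates.

`orth_aux` takes the two cyclic-restriction statements (packages CYC8, CYC6) as explicit hypotheses;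
`orth` is the verbatim package statement (CYC8 by helper41, CYC6 by helper42).
-/

set_option autoImplicit false
set_option linter.unusedSectionVars false
open scoped ComplexConjugate

namespace Cfsg.Agent.Lib.Helper5_GL23_ORTH

open Cfsg Cfsg.Agent.Lib.Helper80_CharBasic Cfsg.Agent.Lib.Helper6_GL23Defs

/-- `A + B·i√2 = C` with integers `A, B, C` forces `A = C` and `B = 0`. -/
theorem int_rt_split {A B C : ℤ} (h : (A : ℂ) + (B : ℂ) * rt = (C : ℂ)) : A = C ∧ B = 0 := by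
  have him := congrArg Complex.im h
  have hre := congrArg Complex.re h
  simp only [Complex.add_im, Complex.mul_im, Complex.intCast_im, Complex.intCast_re, rt_re, rt_im,
    Complex.add_re, Complex.mul_re, mul_zero, zero_mul, sub_zero, zero_add, add_zero] at him hre
  have hs : Real.sqrt 2 ≠ 0 := by positivity
  have hB : (B : ℝ) = 0 := by
    rcases mul_eq_zero.mp him with h0 | h0
    · exact h0
    · exact absurd h0 hs
  refine ⟨by exact_mod_cast hre, by exact_mod_cast hB⟩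

/-- splitting a complex sum with summands `A i + B i · i√2` and integer value -/
theorem sum_rt_split {ι : Type*} [Fintype ι] {f : ι → ℂ} {c : ℂ} (h : ∑ i, f i = c)
    (A B : ι → ℤ) (C : ℤ) (hc : c = (C : ℂ))
    (hf : ∀ i, f i = (A i : ℂ) + (B i : ℂ) * rt) :
    ∑ i, A i = C ∧ ∑ i, B i = 0 := by
  apply int_rt_split
  rw [← hc, ← h]
  push_cast
  rw [Finset.sum_mul, ← Finset.sum_add_distrib]
  exact Finset.sum_congr rfl (fun i _ => (hf i).symm)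

section grp
variable {G : Type*} [Group G]

theorem orderOf_eq_of_isConj' {x y : G} (h : IsConj x y) : orderOf x = orderOf y := by
  obtain ⟨c, hc⟩ := isConj_iff.mp h
  rw [← hc]
  exact (orderOf_injective (MulAut.conj c).toMonoidHom (MulAut.conj c).injective x).symm


theorem not_isConj_of_orderOf_ne {x y : G} (h : orderOf x ≠ orderOf y) : ¬ IsConj x y :=
  fun hc => h (orderOf_eq_of_isConj' hc)

variable [Finite G] {t a s : G}

/-- ORTH with the two cyclic-restriction statements (packages CYC8, CYC6) as hypotheses. -/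
theorem orth_aux (h : Loc G t a s)
    (hc8 : ∀ χ : IrrCharacter G, ∃ μ0 μ1 μ2 μ4 μ5 : ℕ,
      (χ : G → ℂ) 1 = (μ0 : ℂ) + μ4 + 2 * μ2 + 2 * μ1 + 2 * μ5 ∧
      (χ : G → ℂ) t = (μ0 : ℂ) + μ4 + 2 * μ2 - 2 * μ1 - 2 * μ5 ∧
      (χ : G → ℂ) (a ^ 2) = (μ0 : ℂ) + μ4 - 2 * μ2 ∧
      (χ : G → ℂ) a = ((μ0 : ℂ) - μ4) + ((μ1 : ℂ) - μ5) * rt)
    (hc6 : ∀ χ : IrrCharacter G, ∃ xy m : ℤ, (χ : G → ℂ) (t * s) = (xy : ℂ) ∧
      (χ : G → ℂ) t - (xy : ℂ) = 3 * (m : ℂ)) :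
    ∃ xt xv xy p q : IrrCharacter G → ℤ,
      (∀ χ : IrrCharacter G, (χ : G → ℂ) t = (xt χ : ℂ) ∧ (χ : G → ℂ) (a ^ 2) = (xv χ : ℂ) ∧
        (χ : G → ℂ) (t * s) = (xy χ : ℂ) ∧ (χ : G → ℂ) a = (p χ : ℂ) + (q χ : ℂ) * rt) ∧
      (xt (oneIrr G) = 1 ∧ xv (oneIrr G) = 1 ∧ xy (oneIrr G) = 1 ∧ p (oneIrr G) = 1 ∧ q (oneIrr G) = 0) ∧
      (∑ᶠ χ : IrrCharacter G, xt χ ^ 2 = 48 ∧ ∑ᶠ χ : IrrCharacter G, xv χ ^ 2 = 8 ∧
        ∑ᶠ χ : IrrCharacter G, xy χ ^ 2 = 6 ∧ ∑ᶠ χ : IrrCharacter G, p χ ^ 2 = 4 ∧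
        ∑ᶠ χ : IrrCharacter G, q χ ^ 2 = 2) ∧
      (∑ᶠ χ : IrrCharacter G, xt χ * xv χ = 0 ∧ ∑ᶠ χ : IrrCharacter G, xt χ * xy χ = 0 ∧
        ∑ᶠ χ : IrrCharacter G, xt χ * p χ = 0 ∧ ∑ᶠ χ : IrrCharacter G, xt χ * q χ = 0 ∧
        ∑ᶠ χ : IrrCharacter G, xv χ * xy χ = 0 ∧ ∑ᶠ χ : IrrCharacter G, xv χ * p χ = 0 ∧
        ∑ᶠ χ : IrrCharacter G, xv χ * q χ = 0 ∧ ∑ᶠ χ : IrrCharacter G, xy χ * p χ = 0 ∧
        ∑ᶠ χ : IrrCharacter G, xy χ * q χ = 0 ∧ ∑ᶠ χ : IrrCharacter G, p χ * q χ = 0) ∧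
      (∑ᶠ χ : IrrCharacter G, (xt χ : ℂ) * (χ : G → ℂ) 1 = 0 ∧
        ∑ᶠ χ : IrrCharacter G, (xv χ : ℂ) * (χ : G → ℂ) 1 = 0 ∧
        ∑ᶠ χ : IrrCharacter G, (xy χ : ℂ) * (χ : G → ℂ) 1 = 0 ∧
        ∑ᶠ χ : IrrCharacter G, (p χ : ℂ) * (χ : G → ℂ) 1 = 0 ∧
        ∑ᶠ χ : IrrCharacter G, (q χ : ℂ) * (χ : G → ℂ) 1 = 0) ∧
      (∀ χ : IrrCharacter G, (2 : ℤ) ∣ xv χ + p χ ∧ (4 : ℤ) ∣ xt χ + xv χ + 2 * p χ - 2 * q χ ∧
        (3 : ℤ) ∣ xt χ - xy χ ∧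
        ∃ m : ℤ, (χ : G → ℂ) 1 + (xt χ : ℂ) + 2 * (xv χ : ℂ) + 4 * (p χ : ℂ) = 8 * (m : ℂ)) := by
  classical
  have := Fintype.ofFinite G
  let _ : Fintype (IrrCharacter G) := Fintype.ofFinite _
  choose μ0 μ1 μ2 μ4 μ5 hμ using hc8
  choose xy m hxy using hc6
  obtain ⟨xt, hxt⟩ : ∃ xt : IrrCharacter G → ℤ, ∀ χ, xt χ =
      (μ0 χ : ℤ) + μ4 χ + 2 * μ2 χ - 2 * μ1 χ - 2 * μ5 χ := ⟨_, fun _ => rfl⟩
  obtain ⟨xv, hxv⟩ : ∃ xv : IrrCharacter G → ℤ, ∀ χ, xv χ =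
      (μ0 χ : ℤ) + μ4 χ - 2 * μ2 χ := ⟨_, fun _ => rfl⟩
  obtain ⟨p, hp⟩ : ∃ p : IrrCharacter G → ℤ, ∀ χ, p χ = (μ0 χ : ℤ) - μ4 χ := ⟨_, fun _ => rfl⟩
  obtain ⟨q, hq⟩ : ∃ q : IrrCharacter G → ℤ, ∀ χ, q χ = (μ1 χ : ℤ) - μ5 χ := ⟨_, fun _ => rfl⟩
  obtain ⟨dg, hdg⟩ : ∃ dg : IrrCharacter G → ℤ, ∀ χ, dg χ =
      (μ0 χ : ℤ) + μ4 χ + 2 * μ2 χ + 2 * μ1 χ + 2 * μ5 χ := ⟨_, fun _ => rfl⟩
  -- values
  have hv1 : ∀ χ : IrrCharacter G, (χ : G → ℂ) 1 = (dg χ : ℂ) := by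
    intro χ; rw [(hμ χ).1, hdg]; push_cast; ring
  have hvt : ∀ χ : IrrCharacter G, (χ : G → ℂ) t = (xt χ : ℂ) := by
    intro χ; rw [(hμ χ).2.1, hxt]; push_cast; ring
  have hvv : ∀ χ : IrrCharacter G, (χ : G → ℂ) (a ^ 2) = (xv χ : ℂ) := by
    intro χ; rw [(hμ χ).2.2.1, hxv]; push_cast; ring
  have hva : ∀ χ : IrrCharacter G, (χ : G → ℂ) a = (p χ : ℂ) + (q χ : ℂ) * rt := by
    intro χ; rw [(hμ χ).2.2.2, hp, hq]; push_cast; ring
  have hvy : ∀ χ : IrrCharacter G, (χ : G → ℂ) (t * s) = (xy χ : ℂ) := fun χ => (hxy χ).1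
  -- orders
  have ho_v : orderOf (a ^ 2) = 4 := by
    rw [orderOf_pow' a (by norm_num : (2 : ℕ) ≠ 0), h.oa]; norm_num
  have ho_y : orderOf (t * s) = 6 := by
    have hcomm : Commute t s := h.st.symm
    rw [hcomm.orderOf_mul_eq_mul_orderOf_of_coprime (by rw [h.ot, h.os]; norm_num), h.ot, h.os]
  have ho_1 : orderOf (1 : G) = 1 := orderOf_one
  -- non-conjugacy
  have n_tv : ¬ IsConj t (a ^ 2) := not_isConj_of_orderOf_ne (by rw [h.ot, ho_v]; norm_num)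
  have n_ty : ¬ IsConj t (t * s) := not_isConj_of_orderOf_ne (by rw [h.ot, ho_y]; norm_num)
  have n_vy : ¬ IsConj (a ^ 2) (t * s) := not_isConj_of_orderOf_ne (by rw [ho_v, ho_y]; norm_num)
  have n_at : ¬ IsConj a t := not_isConj_of_orderOf_ne (by rw [h.ot, h.oa]; norm_num)
  have n_av : ¬ IsConj a (a ^ 2) := not_isConj_of_orderOf_ne (by rw [ho_v, h.oa]; norm_num)
  have n_ay : ¬ IsConj a (t * s) := not_isConj_of_orderOf_ne (by rw [ho_y, h.oa]; norm_num)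
  have n_t1 : ¬ IsConj t 1 := not_isConj_of_orderOf_ne (by rw [h.ot, ho_1]; norm_num)
  have n_v1 : ¬ IsConj (a ^ 2) 1 := not_isConj_of_orderOf_ne (by rw [ho_v, ho_1]; norm_num)
  have n_y1 : ¬ IsConj (t * s) 1 := not_isConj_of_orderOf_ne (by rw [ho_y, ho_1]; norm_num)
  have n_a1 : ¬ IsConj a 1 := not_isConj_of_orderOf_ne (by rw [h.oa, ho_1]; norm_num)
  -- second orthogonality
  have o_tt := Cfsg.Agent.Lib.Helper80_CharComplete.second_orthogonality_sum t t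
  have o_vv := Cfsg.Agent.Lib.Helper80_CharComplete.second_orthogonality_sum (a ^ 2) (a ^ 2)
  have o_yy := Cfsg.Agent.Lib.Helper80_CharComplete.second_orthogonality_sum (t * s) (t * s)
  have o_aa := Cfsg.Agent.Lib.Helper80_CharComplete.second_orthogonality_sum a a
  have o_ai := Cfsg.Agent.Lib.Helper80_CharComplete.second_orthogonality_sum a a⁻¹
  have o_tv := Cfsg.Agent.Lib.Helper80_CharComplete.second_orthogonality_sum t (a ^ 2)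
  have o_ty := Cfsg.Agent.Lib.Helper80_CharComplete.second_orthogonality_sum t (t * s)
  have o_vy := Cfsg.Agent.Lib.Helper80_CharComplete.second_orthogonality_sum (a ^ 2) (t * s)
  have o_at := Cfsg.Agent.Lib.Helper80_CharComplete.second_orthogonality_sum a t
  have o_av := Cfsg.Agent.Lib.Helper80_CharComplete.second_orthogonality_sum a (a ^ 2)
  have o_ay := Cfsg.Agent.Lib.Helper80_CharComplete.second_orthogonality_sum a (t * s)
  have o_t1 := Cfsg.Agent.Lib.Helper80_CharComplete.second_orthogonality_sum t (1 : G)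
  have o_v1 := Cfsg.Agent.Lib.Helper80_CharComplete.second_orthogonality_sum (a ^ 2) (1 : G)
  have o_y1 := Cfsg.Agent.Lib.Helper80_CharComplete.second_orthogonality_sum (t * s) (1 : G)
  have o_a1 := Cfsg.Agent.Lib.Helper80_CharComplete.second_orthogonality_sum a (1 : G)
  rw [if_pos (IsConj.refl _), h.ct] at o_tt
  rw [if_pos (IsConj.refl _), h.cv] at o_vv
  rw [if_pos (IsConj.refl _), h.cy] at o_yy
  rw [if_pos (IsConj.refl _), h.ca] at o_aa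
  rw [if_neg h.ainv] at o_ai
  rw [if_neg n_tv] at o_tv
  rw [if_neg n_ty] at o_ty
  rw [if_neg n_vy] at o_vy
  rw [if_neg n_at] at o_at
  rw [if_neg n_av] at o_av
  rw [if_neg n_ay] at o_ay
  rw [if_neg n_t1] at o_t1
  rw [if_neg n_v1] at o_v1
  rw [if_neg n_y1] at o_y1
  rw [if_neg n_a1] at o_a1
  -- integer relations
  have r_tt := sum_rt_split o_tt (fun χ => xt χ ^ 2) (fun _ => 0) 48 (by norm_num)
    (fun χ => by rw [hvt χ]; simp only [map_intCast]; push_cast; ring)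
  have r_vv := sum_rt_split o_vv (fun χ => xv χ ^ 2) (fun _ => 0) 8 (by norm_num)
    (fun χ => by rw [hvv χ]; simp only [map_intCast]; push_cast; ring)
  have r_yy := sum_rt_split o_yy (fun χ => xy χ ^ 2) (fun _ => 0) 6 (by norm_num)
    (fun χ => by rw [hvy χ]; simp only [map_intCast]; push_cast; ring)
  have r_aa := sum_rt_split o_aa (fun χ => p χ ^ 2 + 2 * q χ ^ 2) (fun _ => 0) 8 (by norm_num)
    (fun χ => by
      rw [hva χ]
      simp only [map_add, map_mul, map_intCast, conj_rt]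
      push_cast
      linear_combination (-(q χ : ℂ) ^ 2) * rt_mul_rt)
  have r_ai := sum_rt_split o_ai (fun χ => p χ ^ 2 - 2 * q χ ^ 2) (fun χ => 2 * (p χ * q χ)) 0
    (by norm_num)
    (fun χ => by
      rw [irr_inv, Complex.conj_conj, hva χ]
      push_cast
      linear_combination ((q χ : ℂ) ^ 2) * rt_mul_rt)
  have r_tv := sum_rt_split o_tv (fun χ => xt χ * xv χ) (fun _ => 0) 0 (by norm_num)
    (fun χ => by rw [hvt χ, hvv χ]; simp only [map_intCast]; push_cast; ring)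
  have r_ty := sum_rt_split o_ty (fun χ => xt χ * xy χ) (fun _ => 0) 0 (by norm_num)
    (fun χ => by rw [hvt χ, hvy χ]; simp only [map_intCast]; push_cast; ring)
  have r_vy := sum_rt_split o_vy (fun χ => xv χ * xy χ) (fun _ => 0) 0 (by norm_num)
    (fun χ => by rw [hvv χ, hvy χ]; simp only [map_intCast]; push_cast; ring)
  have r_at := sum_rt_split o_at (fun χ => xt χ * p χ) (fun χ => xt χ * q χ) 0 (by norm_num)
    (fun χ => by rw [hvt χ, hva χ]; simp only [map_intCast]; push_cast; ring)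
  have r_av := sum_rt_split o_av (fun χ => xv χ * p χ) (fun χ => xv χ * q χ) 0 (by norm_num)
    (fun χ => by rw [hvv χ, hva χ]; simp only [map_intCast]; push_cast; ring)
  have r_ay := sum_rt_split o_ay (fun χ => xy χ * p χ) (fun χ => xy χ * q χ) 0 (by norm_num)
    (fun χ => by rw [hvy χ, hva χ]; simp only [map_intCast]; push_cast; ring)
  have r_t1 := sum_rt_split o_t1 (fun χ => xt χ * dg χ) (fun _ => 0) 0 (by norm_num)
    (fun χ => by rw [hvt χ, hv1 χ]; simp only [map_intCast]; push_cast; ring)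
  have r_v1 := sum_rt_split o_v1 (fun χ => xv χ * dg χ) (fun _ => 0) 0 (by norm_num)
    (fun χ => by rw [hvv χ, hv1 χ]; simp only [map_intCast]; push_cast; ring)
  have r_y1 := sum_rt_split o_y1 (fun χ => xy χ * dg χ) (fun _ => 0) 0 (by norm_num)
    (fun χ => by rw [hvy χ, hv1 χ]; simp only [map_intCast]; push_cast; ring)
  have r_a1 := sum_rt_split o_a1 (fun χ => p χ * dg χ) (fun χ => q χ * dg χ) 0 (by norm_num)
    (fun χ => by rw [hva χ, hv1 χ]; simp only [map_intCast]; push_cast; ring)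
  -- the norms of p, q
  have e1 : ∑ χ : IrrCharacter G, (p χ ^ 2 + 2 * q χ ^ 2)
      = ∑ χ : IrrCharacter G, p χ ^ 2 + 2 * ∑ χ : IrrCharacter G, q χ ^ 2 := by
    rw [Finset.mul_sum, ← Finset.sum_add_distrib]
  have e2 : ∑ χ : IrrCharacter G, (p χ ^ 2 - 2 * q χ ^ 2)
      = ∑ χ : IrrCharacter G, p χ ^ 2 - 2 * ∑ χ : IrrCharacter G, q χ ^ 2 := by
    rw [Finset.mul_sum, ← Finset.sum_sub_distrib]
  have e3 : ∑ χ : IrrCharacter G, 2 * (p χ * q χ) = 2 * ∑ χ : IrrCharacter G, p χ * q χ := by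
    rw [Finset.mul_sum]
  have hpp : ∑ χ : IrrCharacter G, p χ ^ 2 = 4 := by
    have := r_aa.1; have := r_ai.1; linarith
  have hqq : ∑ χ : IrrCharacter G, q χ ^ 2 = 2 := by
    have := r_aa.1; have := r_ai.1; linarith
  have hpq : ∑ χ : IrrCharacter G, p χ * q χ = 0 := by
    have := r_ai.2; linarith
  -- the principal character
  have hone : xt (oneIrr G) = 1 ∧ xv (oneIrr G) = 1 ∧ xy (oneIrr G) = 1 ∧ p (oneIrr G) = 1 ∧
      q (oneIrr G) = 0 := by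
    have h1 := hvt (oneIrr G)
    have h2 := hvv (oneIrr G)
    have h3 := hvy (oneIrr G)
    have h4 := hva (oneIrr G)
    have e1 : ((oneIrr G : IrrCharacter G) : G → ℂ) t = 1 := rfl
    have e2 : ((oneIrr G : IrrCharacter G) : G → ℂ) (a ^ 2) = 1 := rfl
    have e3 : ((oneIrr G : IrrCharacter G) : G → ℂ) (t * s) = 1 := rfl
    have e4 : ((oneIrr G : IrrCharacter G) : G → ℂ) a = 1 := rfl
    rw [e1] at h1
    rw [e2] at h2
    rw [e3] at h3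
    rw [e4] at h4
    have h4' : ((p (oneIrr G) : ℤ) : ℂ) + ((q (oneIrr G) : ℤ) : ℂ) * rt = ((1 : ℤ) : ℂ) := by
      rw [← h4]; norm_num
    obtain ⟨hp1, hq1⟩ := int_rt_split h4'
    refine ⟨by exact_mod_cast h1.symm, by exact_mod_cast h2.symm, by exact_mod_cast h3.symm,
      hp1, hq1⟩
  refine ⟨xt, xv, xy, p, q, fun χ => ⟨hvt χ, hvv χ, hvy χ, hva χ⟩, hone, ?_, ?_, ?_, ?_⟩
  · simp only [finsum_eq_sum_of_fintype]
    exact ⟨r_tt.1, r_vv.1, r_yy.1, hpp, hqq⟩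
  · simp only [finsum_eq_sum_of_fintype]
    exact ⟨r_tv.1, r_ty.1, r_at.1, r_at.2, r_vy.1, r_av.1, r_av.2, r_ay.1, r_ay.2, hpq⟩
  · simp only [finsum_eq_sum_of_fintype, hv1]
    refine ⟨by exact_mod_cast r_t1.1, by exact_mod_cast r_v1.1, by exact_mod_cast r_y1.1,
      by exact_mod_cast r_a1.1, by exact_mod_cast r_a1.2⟩
  · intro χ
    refine ⟨⟨(μ0 χ : ℤ) - μ2 χ, by rw [hxv, hp]; ring⟩,
      ⟨(μ0 χ : ℤ) - μ1 χ, by rw [hxt, hxv, hp, hq]; ring⟩, ⟨m χ, ?_⟩, ⟨(μ0 χ : ℤ), ?_⟩⟩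
    · have := (hxy χ).2
      rw [hvt χ] at this
      exact_mod_cast this
    · rw [hv1 χ, hdg, hxt, hxv, hp]
      push_cast
      ring


/-- **S0197-ORTH**, verbatim. -/
theorem orth (h : Loc G t a s) :
    ∃ xt xv xy p q : IrrCharacter G → ℤ,
      (∀ χ : IrrCharacter G, (χ : G → ℂ) t = (xt χ : ℂ) ∧ (χ : G → ℂ) (a ^ 2) = (xv χ : ℂ) ∧
        (χ : G → ℂ) (t * s) = (xy χ : ℂ) ∧ (χ : G → ℂ) a = (p χ : ℂ) + (q χ : ℂ) * rt) ∧
      (xt (oneIrr G) = 1 ∧ xv (oneIrr G) = 1 ∧ xy (oneIrr G) = 1 ∧ p (oneIrr G) = 1 ∧ q (oneIrr G) = 0) ∧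
      (∑ᶠ χ : IrrCharacter G, xt χ ^ 2 = 48 ∧ ∑ᶠ χ : IrrCharacter G, xv χ ^ 2 = 8 ∧
        ∑ᶠ χ : IrrCharacter G, xy χ ^ 2 = 6 ∧ ∑ᶠ χ : IrrCharacter G, p χ ^ 2 = 4 ∧
        ∑ᶠ χ : IrrCharacter G, q χ ^ 2 = 2) ∧
      (∑ᶠ χ : IrrCharacter G, xt χ * xv χ = 0 ∧ ∑ᶠ χ : IrrCharacter G, xt χ * xy χ = 0 ∧
        ∑ᶠ χ : IrrCharacter G, xt χ * p χ = 0 ∧ ∑ᶠ χ : IrrCharacter G, xt χ * q χ = 0 ∧
        ∑ᶠ χ : IrrCharacter G, xv χ * xy χ = 0 ∧ ∑ᶠ χ : IrrCharacter G, xv χ * p χ = 0 ∧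
        ∑ᶠ χ : IrrCharacter G, xv χ * q χ = 0 ∧ ∑ᶠ χ : IrrCharacter G, xy χ * p χ = 0 ∧
        ∑ᶠ χ : IrrCharacter G, xy χ * q χ = 0 ∧ ∑ᶠ χ : IrrCharacter G, p χ * q χ = 0) ∧
      (∑ᶠ χ : IrrCharacter G, (xt χ : ℂ) * (χ : G → ℂ) 1 = 0 ∧
        ∑ᶠ χ : IrrCharacter G, (xv χ : ℂ) * (χ : G → ℂ) 1 = 0 ∧
        ∑ᶠ χ : IrrCharacter G, (xy χ : ℂ) * (χ : G → ℂ) 1 = 0 ∧
        ∑ᶠ χ : IrrCharacter G, (p χ : ℂ) * (χ : G → ℂ) 1 = 0 ∧
        ∑ᶠ χ : IrrCharacter G, (q χ : ℂ) * (χ : G → ℂ) 1 = 0) ∧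
      (∀ χ : IrrCharacter G, (2 : ℤ) ∣ xv χ + p χ ∧ (4 : ℤ) ∣ xt χ + xv χ + 2 * p χ - 2 * q χ ∧
        (3 : ℤ) ∣ xt χ - xy χ ∧
        ∃ m : ℤ, (χ : G → ℂ) 1 + (xt χ : ℂ) + 2 * (xv χ : ℂ) + 4 * (p χ : ℂ) = 8 * (m : ℂ)) :=
  orth_aux h (Cfsg.Agent.Lib.Helper41_GL23_CYC8.cyc8 h) (Cfsg.Agent.Lib.Helper42_GL23_CYC6.cyc6 h)

end grp

end Cfsg.Agent.Lib.Helper5_GL23_ORTH
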