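import Mathlib
import Cfsg.Agent.S0263

set_option autoImplicit false

/-!
Sylow `p`-subgroups of `GL_2(q)` in the defining characteristic: the unitriangular subgroup `U`,
its normaliser `B`, number of Sylow subgroups `q + 1`, trivial intersections, centralisers.
-/

namespace Cfsg.Agent.Lib.Helper5_GL2Sylow

open Matrix

variable {F : Type*} [Field F]

/-- The upper unitriangular matrix with off-diagonal entry `b`. -/
def uMat (b : F) : Matrix (Fin 2) (Fin 2) F := !![1, b; 0, 1]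

lemma uMat_mul (b c : F) : uMat b * uMat c = uMat (b + c) := by
  ext i j
  fin_cases i <;> fin_cases j <;> simp [uMat, Matrix.mul_apply, Fin.sum_univ_two, add_comm]

lemma uMat_zero : uMat (0 : F) = 1 := by
  ext i j
  fin_cases i <;> fin_cases j <;> simp [uMat]

/-- `b ↦ [[1,b],[0,1]]` as a hom into `GL`. -/
def uHom : Multiplicative F →* GL (Fin 2) F where
  toFun b := ⟨uMat b.toAdd, uMat (-b.toAdd), by rw [uMat_mul, add_neg_cancel, uMat_zero],
    by rw [uMat_mul, neg_add_cancel, uMat_zero]⟩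
  map_one' := by
    apply Units.ext
    exact uMat_zero
  map_mul' a b := by
    apply Units.ext
    simp only [toAdd_mul, Units.val_mul]
    exact (uMat_mul _ _).symm

lemma uHom_coe (b : Multiplicative F) : (uHom b : Matrix (Fin 2) (Fin 2) F) = uMat b.toAdd := rfl

lemma uHom_injective : Function.Injective (uHom : Multiplicative F →* GL (Fin 2) F) := by
  intro a b hab
  have := congrArg (fun g : GL (Fin 2) F => (g : Matrix (Fin 2) (Fin 2) F) 0 1) hab
  simpa [uHom_coe, uMat] using this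

/-- The upper unitriangular subgroup. -/
def U : Subgroup (GL (Fin 2) F) := uHom.range

lemma mem_U_iff (g : GL (Fin 2) F) : g ∈ U ↔ ∃ b : F, (g : Matrix (Fin 2) (Fin 2) F) = uMat b := by
  constructor
  · rintro ⟨b, rfl⟩
    exact ⟨b.toAdd, rfl⟩
  · rintro ⟨b, hb⟩
    exact ⟨Multiplicative.ofAdd b, Units.ext hb.symm⟩

lemma card_U [Fintype F] : Nat.card (U : Subgroup (GL (Fin 2) F)) = Fintype.card F := by
  unfold U
  rw [Nat.card_congr (MonoidHom.ofInjective uHom_injective).toEquiv.symm,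
    Nat.card_congr (Multiplicative.toAdd : Multiplicative F ≃ F), Nat.card_eq_fintype_card]

lemma inv_apply_one_zero (g : GL (Fin 2) F) :
    ((g⁻¹ : GL (Fin 2) F) : Matrix (Fin 2) (Fin 2) F) 1 0 = - (g : Matrix (Fin 2) (Fin 2) F).det⁻¹ * (g : Matrix (Fin 2) (Fin 2) F) 1 0 := by
  rw [Matrix.coe_units_inv, Matrix.inv_def, Matrix.adjugate_fin_two]
  simp [Ring.inverse_eq_inv']

/-- The Borel subgroup (upper triangular). -/
def B : Subgroup (GL (Fin 2) F) where
  carrier := {g | (g : Matrix (Fin 2) (Fin 2) F) 1 0 = 0}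
  mul_mem' := by
    intro a b ha hb
    simp only [Set.mem_ofPred_eq] at ha hb ⊢
    simp [Matrix.mul_apply, Fin.sum_univ_two, ha, hb]
  one_mem' := by simp
  inv_mem' := by
    intro a ha
    simp only [Set.mem_ofPred_eq] at ha ⊢
    rw [inv_apply_one_zero, ha, mul_zero]

lemma mem_B_iff (g : GL (Fin 2) F) : g ∈ B ↔ (g : Matrix (Fin 2) (Fin 2) F) 1 0 = 0 := Iff.rfl

lemma det_ne_zero' (g : GL (Fin 2) F) : (g : Matrix (Fin 2) (Fin 2) F).det ≠ 0 := by
  have := (Matrix.isUnit_iff_isUnit_det (g : Matrix (Fin 2) (Fin 2) F)).mp g.isUnit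
  exact this.ne_zero

lemma diag_ne_zero_of_mem_B {g : GL (Fin 2) F} (hg : g ∈ B) :
    (g : Matrix (Fin 2) (Fin 2) F) 0 0 ≠ 0 ∧ (g : Matrix (Fin 2) (Fin 2) F) 1 1 ≠ 0 := by
  have h := det_ne_zero' g
  rw [Matrix.det_fin_two, (mem_B_iff g).mp hg, mul_zero, sub_zero] at h
  exact ⟨left_ne_zero_of_mul h, right_ne_zero_of_mul h⟩

/-- If `k` conjugates a non-trivial element of `U` into `U` then `k ∈ B`. -/
lemma mem_B_of_conj_mem_U (k g : GL (Fin 2) F) (b : F) (hb : b ≠ 0)
    (hg : (g : Matrix (Fin 2) (Fin 2) F) = uMat b) (h : k * g * k⁻¹ ∈ U) : k ∈ B := by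
  obtain ⟨b', hb'⟩ := (mem_U_iff _).mp h
  have h1 : (k : Matrix (Fin 2) (Fin 2) F) * uMat b = uMat b' * (k : Matrix (Fin 2) (Fin 2) F) := by
    rw [← hb', ← hg, ← Units.val_mul, ← Units.val_mul]
    congr 1
    group
  have h2 := congrFun (congrFun h1 1) 1
  simp [uMat, Matrix.mul_apply, Fin.sum_univ_two] at h2
  rw [mem_B_iff]
  rcases h2 with h2 | h2
  · exact h2
  · exact absurd h2 hb

/-- `B` normalises `U`. -/
lemma conj_mem_U_of_mem_B {k g : GL (Fin 2) F} (hk : k ∈ B) (hg : g ∈ U) : k * g * k⁻¹ ∈ U := by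
  obtain ⟨b, hb⟩ := (mem_U_iff _).mp hg
  obtain ⟨h0, h1⟩ := diag_ne_zero_of_mem_B hk
  have hk10 := (mem_B_iff k).mp hk
  rw [mem_U_iff]
  refine ⟨(k : Matrix (Fin 2) (Fin 2) F) 0 0 * b / (k : Matrix (Fin 2) (Fin 2) F) 1 1, ?_⟩
  have h2 : (k : Matrix (Fin 2) (Fin 2) F) * uMat b =
      uMat ((k : Matrix (Fin 2) (Fin 2) F) 0 0 * b / (k : Matrix (Fin 2) (Fin 2) F) 1 1) * (k : Matrix (Fin 2) (Fin 2) F) := by
    ext i j
    fin_cases i <;> fin_cases j <;> simp [uMat, Matrix.mul_apply, Fin.sum_univ_two, hk10]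
    field_simp
    ring
  have h3 : k * g * k⁻¹ = ⟨uMat ((k : Matrix (Fin 2) (Fin 2) F) 0 0 * b / (k : Matrix (Fin 2) (Fin 2) F) 1 1),
      uMat (-((k : Matrix (Fin 2) (Fin 2) F) 0 0 * b / (k : Matrix (Fin 2) (Fin 2) F) 1 1)),
      by rw [uMat_mul, add_neg_cancel, uMat_zero], by rw [uMat_mul, neg_add_cancel, uMat_zero]⟩ := by
    rw [mul_inv_eq_iff_eq_mul]
    apply Units.ext
    rw [Units.val_mul, Units.val_mul, hb]
    exact h2
  rw [h3]

lemma normalizer_U : Subgroup.normalizer ((U : Subgroup (GL (Fin 2) F)) : Set (GL (Fin 2) F)) = B := by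
  ext k
  constructor
  · intro hk
    rw [Subgroup.mem_normalizer_iff] at hk
    have h1 : uHom (Multiplicative.ofAdd (1 : F)) ∈ (U : Subgroup (GL (Fin 2) F)) := ⟨_, rfl⟩
    exact mem_B_of_conj_mem_U k _ 1 one_ne_zero rfl ((hk _).mp h1)
  · intro hk
    rw [Subgroup.mem_normalizer_iff]
    intro n
    constructor
    · exact conj_mem_U_of_mem_B hk
    · intro h
      have := conj_mem_U_of_mem_B (B.inv_mem hk) h
      simpa [mul_assoc] using this

/-- `B ≃ Fˣ × Fˣ × F`. -/
noncomputable def equivB : (B : Subgroup (GL (Fin 2) F)) ≃ Fˣ × Fˣ × F where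
  toFun g := (Units.mk0 _ (diag_ne_zero_of_mem_B g.2).1, Units.mk0 _ (diag_ne_zero_of_mem_B g.2).2,
    (g.1 : Matrix (Fin 2) (Fin 2) F) 0 1)
  invFun x := ⟨Matrix.GeneralLinearGroup.mkOfDetNeZero !![(x.1 : F), x.2.2; 0, (x.2.1 : F)]
    (by simp [Matrix.det_fin_two]), by simp [mem_B_iff, Matrix.GeneralLinearGroup.mkOfDetNeZero]⟩
  left_inv g := by
    apply Subtype.ext
    apply Units.ext
    ext i j
    fin_cases i <;> fin_cases j <;> simp [Matrix.GeneralLinearGroup.mkOfDetNeZero]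
    exact ((mem_B_iff g.1).mp g.2).symm
  right_inv x := by
    rcases x with ⟨a, d, b⟩
    simp [Matrix.GeneralLinearGroup.mkOfDetNeZero]

lemma card_B [Fintype F] : Nat.card (B : Subgroup (GL (Fin 2) F)) = Fintype.card F * (Fintype.card F - 1) ^ 2 := by
  rw [Nat.card_congr equivB, Nat.card_prod, Nat.card_prod, Nat.card_units, Nat.card_eq_fintype_card]
  ring

section sylow

variable [Fintype F] (p : ℕ) [Fact p.Prime] [CharP F p]

lemma sylow_card (P : Sylow p (GL (Fin 2) F)) : Nat.card P = Fintype.card F := by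
  have := Cfsg.Agent.S0263.result (F := F) rfl p 2 P
  simpa using this

/-- The upper unitriangular subgroup as a Sylow `p`-subgroup. -/
noncomputable def US : Sylow p (GL (Fin 2) F) :=
  Sylow.ofCard U (by rw [card_U, ← sylow_card p default, Sylow.card_eq_multiplicity])

lemma coe_US : ((US p : Sylow p (GL (Fin 2) F)) : Subgroup (GL (Fin 2) F)) = U := Sylow.coe_ofCard _ _

lemma card_GL2 : Nat.card (GL (Fin 2) F) = (Fintype.card F ^ 2 - 1) * (Fintype.card F ^ 2 - Fintype.card F) := by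
  rw [Matrix.card_GL_field, Fin.prod_univ_two]
  simp

lemma index_B : (B : Subgroup (GL (Fin 2) F)).index = Fintype.card F + 1 := by
  have h := Subgroup.card_mul_index (B : Subgroup (GL (Fin 2) F))
  rw [card_B, card_GL2] at h
  have hq : 1 < Fintype.card F := Fintype.one_lt_card
  set q := Fintype.card F with hq_def
  have h1 : q ^ 2 - 1 = (q + 1) * (q - 1) := by
    have := Nat.pow_two_sub_pow_two q 1
    simpa using this
  have h2 : q ^ 2 - q = q * (q - 1) := by
    rw [Nat.mul_sub, mul_one, sq]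
  rw [h1, h2] at h
  have h3 : q * (q - 1) ^ 2 * (B : Subgroup (GL (Fin 2) F)).index = q * (q - 1) ^ 2 * (q + 1) := by
    rw [h]; ring
  have hpos : 0 < q * (q - 1) ^ 2 := by
    have : 0 < q - 1 := by omega
    positivity
  exact Nat.eq_of_mul_eq_mul_left hpos h3

theorem card_sylow : Nat.card (Sylow p (GL (Fin 2) F)) = Fintype.card F + 1 := by
  have h : ((US p : Sylow p (GL (Fin 2) F)) : Set (GL (Fin 2) F)) =
      ((U : Subgroup (GL (Fin 2) F)) : Set (GL (Fin 2) F)) := by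
    rw [← Sylow.coe_coe, coe_US]
  rw [Sylow.card_eq_index_normalizer (US p), h, normalizer_U, index_B]

lemma exists_smul_US (P : Sylow p (GL (Fin 2) F)) : ∃ g : GL (Fin 2) F, g • US p = P :=
  MulAction.exists_smul_eq (GL (Fin 2) F) (US p) P

end sylow

section sylow2

variable [Fintype F] (p : ℕ) [Fact p.Prime] [CharP F p]

lemma mem_smul_US_iff (g x : GL (Fin 2) F) :
    x ∈ ((g • US p : Sylow p (GL (Fin 2) F)) : Subgroup (GL (Fin 2) F)) ↔ g⁻¹ * x * g ∈ (U : Subgroup (GL (Fin 2) F)) := by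
  rw [Sylow.coe_subgroup_smul, Subgroup.mem_pointwise_smul_iff_inv_smul_mem, coe_US]
  simp [MulAut.smul_def]

lemma mem_normalizer_US_iff (k : GL (Fin 2) F) :
    k • (US p : Sylow p (GL (Fin 2) F)) = US p ↔ k ∈ (B : Subgroup (GL (Fin 2) F)) := by
  rw [Sylow.smul_eq_iff_mem_normalizer]
  have h : ((US p : Sylow p (GL (Fin 2) F)) : Set (GL (Fin 2) F)) =
      ((U : Subgroup (GL (Fin 2) F)) : Set (GL (Fin 2) F)) := by
    rw [← Sylow.coe_coe, coe_US]
  rw [h, normalizer_U]

omit [Fintype F] in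
lemma eq_one_of_uMat_zero {u : GL (Fin 2) F} (h : (u : Matrix (Fin 2) (Fin 2) F) = uMat 0) : u = 1 := by
  apply Units.ext
  rw [h, uMat_zero]; rfl

/-- Distinct Sylow `p`-subgroups of `GL_2(q)` meet trivially. -/
theorem sylow_inf_eq_bot (P Q : Sylow p (GL (Fin 2) F)) (h : P ≠ Q) :
    (P : Subgroup (GL (Fin 2) F)) ⊓ (Q : Subgroup (GL (Fin 2) F)) = ⊥ := by
  obtain ⟨g, rfl⟩ := exists_smul_US p P
  obtain ⟨h', rfl⟩ := exists_smul_US p Q
  rw [Subgroup.eq_bot_iff_forall]
  intro x hx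
  by_contra hx1
  apply h
  rw [Subgroup.mem_inf, mem_smul_US_iff, mem_smul_US_iff] at hx
  obtain ⟨hu, hu'⟩ := hx
  obtain ⟨b, hb⟩ := (mem_U_iff _).mp hu
  have hb0 : b ≠ 0 := by
    rintro rfl
    have := eq_one_of_uMat_zero hb
    apply hx1
    have h2 : x = g * (g⁻¹ * x * g) * g⁻¹ := by group
    rw [h2, this]; group
  have hk : h'⁻¹ * g ∈ (B : Subgroup (GL (Fin 2) F)) := by
    apply mem_B_of_conj_mem_U (h'⁻¹ * g) (g⁻¹ * x * g) b hb0 hb
    have h2 : h'⁻¹ * g * (g⁻¹ * x * g) * (h'⁻¹ * g)⁻¹ = h'⁻¹ * x * h' := by group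
    rw [h2]; exact hu'
  have := (mem_normalizer_US_iff p _).mpr hk
  rw [mul_smul, inv_smul_eq_iff] at this
  exact this

end sylow2

lemma card_centralizer_conj {G : Type*} [Group G] (g a : G) :
    Nat.card (Subgroup.centralizer ({g⁻¹ * a * g} : Set G)) = Nat.card (Subgroup.centralizer ({a} : Set G)) := by
  symm
  refine Nat.card_congr (Equiv.subtypeEquiv (MulAut.conj g⁻¹).toEquiv ?_)
  intro k
  simp only [MulEquiv.toEquiv_eq_coe, EquivLike.coe_coe, MulAut.conj_apply, inv_inv]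
  rw [Subgroup.mem_centralizer_singleton_iff, Subgroup.mem_centralizer_singleton_iff]
  constructor
  · intro h
    calc g⁻¹ * k * g * (g⁻¹ * a * g) = g⁻¹ * (k * a) * g := by group
      _ = g⁻¹ * (a * k) * g := by rw [h]
      _ = g⁻¹ * a * g * (g⁻¹ * k * g) := by group
  · intro h
    calc k * a = g * (g⁻¹ * k * g * (g⁻¹ * a * g)) * g⁻¹ := by group
      _ = g * (g⁻¹ * a * g * (g⁻¹ * k * g)) * g⁻¹ := by rw [h]
      _ = a * k := by group

lemma mem_centralizer_uMat_iff (u k : GL (Fin 2) F) (b : F) (hb : b ≠ 0)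
    (hu : (u : Matrix (Fin 2) (Fin 2) F) = uMat b) :
    k ∈ Subgroup.centralizer ({u} : Set (GL (Fin 2) F)) ↔
      (k : Matrix (Fin 2) (Fin 2) F) 1 0 = 0 ∧ (k : Matrix (Fin 2) (Fin 2) F) 0 0 = (k : Matrix (Fin 2) (Fin 2) F) 1 1 := by
  rw [Subgroup.mem_centralizer_singleton_iff]
  constructor
  · intro h
    have h1 : (k : Matrix (Fin 2) (Fin 2) F) * uMat b = uMat b * (k : Matrix (Fin 2) (Fin 2) F) := by
      rw [← hu, ← Units.val_mul, ← Units.val_mul, h]
    have e00 := congrFun (congrFun h1 0) 0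
    have e01 := congrFun (congrFun h1 0) 1
    simp [uMat, Matrix.mul_apply, Fin.sum_univ_two] at e00 e01
    have h10 : (k : Matrix (Fin 2) (Fin 2) F) 1 0 = 0 := by
      rcases e00 with h | h
      · exact absurd h hb
      · exact h
    refine ⟨h10, ?_⟩
    have : b * ((k : Matrix (Fin 2) (Fin 2) F) 0 0 - (k : Matrix (Fin 2) (Fin 2) F) 1 1) = 0 := by
      linear_combination e01
    rcases mul_eq_zero.mp this with h | h
    · exact absurd h hb
    · linear_combination h
  · rintro ⟨h10, h00⟩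
    apply Units.ext
    rw [Units.val_mul, Units.val_mul, hu]
    ext i j
    fin_cases i <;> fin_cases j <;> simp [uMat, Matrix.mul_apply, Fin.sum_univ_two, h10, h00]
    ring

/-- The centraliser of a non-trivial unitriangular element is `≃ Fˣ × F`. -/
noncomputable def equivCentralizer (u : GL (Fin 2) F) (b : F) (hb : b ≠ 0)
    (hu : (u : Matrix (Fin 2) (Fin 2) F) = uMat b) :
    (Subgroup.centralizer ({u} : Set (GL (Fin 2) F))) ≃ Fˣ × F where
  toFun k := (Units.mk0 _ (diag_ne_zero_of_mem_B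
    ((mem_B_iff k.1).mpr ((mem_centralizer_uMat_iff u k.1 b hb hu).mp k.2).1)).1,
      (k.1 : Matrix (Fin 2) (Fin 2) F) 0 1)
  invFun x := ⟨Matrix.GeneralLinearGroup.mkOfDetNeZero !![(x.1 : F), x.2; 0, (x.1 : F)]
    (by simp [Matrix.det_fin_two]), by
      rw [mem_centralizer_uMat_iff u _ b hb hu]
      simp [Matrix.GeneralLinearGroup.mkOfDetNeZero]⟩
  left_inv k := by
    obtain ⟨h10, h00⟩ := (mem_centralizer_uMat_iff u k.1 b hb hu).mp k.2
    apply Subtype.ext
    apply Units.ext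
    ext i j
    fin_cases i <;> fin_cases j <;> simp [Matrix.GeneralLinearGroup.mkOfDetNeZero]
    · exact h10.symm
    · exact h00
  right_inv x := by
    rcases x with ⟨a, b⟩
    simp [Matrix.GeneralLinearGroup.mkOfDetNeZero]

section sylow3

variable [Fintype F] (p : ℕ) [Fact p.Prime] [CharP F p]

theorem card_centralizer_of_mem_sylow (P : Sylow p (GL (Fin 2) F)) (a : GL (Fin 2) F) (ha : a ∈ P) (ha1 : a ≠ 1) :
    Nat.card (Subgroup.centralizer ({a} : Set (GL (Fin 2) F))) = Fintype.card F * (Fintype.card F - 1) := by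
  obtain ⟨g, rfl⟩ := exists_smul_US p P
  have hu : g⁻¹ * a * g ∈ (U : Subgroup (GL (Fin 2) F)) := (mem_smul_US_iff p g a).mp ha
  obtain ⟨b, hb⟩ := (mem_U_iff _).mp hu
  have hb0 : b ≠ 0 := by
    rintro rfl
    have := eq_one_of_uMat_zero hb
    apply ha1
    have h2 : a = g * (g⁻¹ * a * g) * g⁻¹ := by group
    rw [h2, this]; group
  rw [← card_centralizer_conj g a, Nat.card_congr (equivCentralizer _ b hb0 hb), Nat.card_prod,
    Nat.card_units, Nat.card_eq_fintype_card]
  ring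

theorem card_normalizer_sylow (P : Sylow p (GL (Fin 2) F)) :
    Nat.card (Subgroup.normalizer ((P : Subgroup (GL (Fin 2) F)) : Set (GL (Fin 2) F))) =
      Fintype.card F * (Fintype.card F - 1) ^ 2 := by
  have h1 := Sylow.card_eq_index_normalizer P
  rw [card_sylow] at h1
  have h2 := Subgroup.card_mul_index (Subgroup.normalizer ((P : Subgroup (GL (Fin 2) F)) : Set (GL (Fin 2) F)))
  rw [Sylow.coe_coe, ← h1, card_GL2] at h2
  have hq : 1 < Fintype.card F := Fintype.one_lt_card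
  set q := Fintype.card F with hq_def
  have e1 : q ^ 2 - 1 = (q + 1) * (q - 1) := by
    have := Nat.pow_two_sub_pow_two q 1
    simpa using this
  have e2 : q ^ 2 - q = q * (q - 1) := by
    rw [Nat.mul_sub, mul_one, sq]
  rw [e1, e2] at h2
  have h3 : Nat.card (Subgroup.normalizer ((P : Sylow p (GL (Fin 2) F)) : Set (GL (Fin 2) F))) * (q + 1) = q * (q - 1) ^ 2 * (q + 1) := by
    rw [h2]; ring
  rw [Sylow.coe_coe]
  exact Nat.eq_of_mul_eq_mul_right (by omega) h3

end sylow3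

end Cfsg.Agent.Lib.Helper5_GL2Sylow
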