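import Mathlib
import Cfsg.Agent.Lib.Helper84_TutteDefs
import Cfsg.Agent.Lib.Helper84_TutteAPI
import Cfsg.Agent.Lib.Helper84_GlDefs
import Cfsg.Agent.Lib.Helper84_GlAPI
import Cfsg.Agent.Lib.Helper31_Tutte_C_RS

/-!
# S4359 package GC-IDX (helper84's market `gl_packages`): the first index of the chain `R_k = RI P g 0 k` is `p`, all
indices are `1` or `p` (paper (1.1)-(1.3)).
-/

set_option autoImplicit false

open scoped commutatorElement
open Cfsg.Agent.Lib.Helper84_TutteDefs Cfsg.Agent.Lib.Helper84_GlDefs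

namespace Cfsg.Agent.Lib.Helper5_Gl_GCIDX

open Cfsg.Agent.Lib.Helper31_Tutte_C_RS

variable {G : Type*} [Group G] {P : Subgroup G} {g x0 : G} {p t lam : ℕ}

/-- `C = cj g⁻¹ (P ⊓ cj g P) = cj g⁻¹ P ⊓ P` lies in `P` -/
theorem C_le (P : Subgroup G) (g : G) : cj g⁻¹ (P ⊓ cj g P) ≤ P := by
  rw [cj_inf, cj_cj, inv_mul_cancel, cj_one]
  exact inf_le_right

/-- `C` is normalised by `P` -/
theorem C_normal (hc : PChainHyp P g p) : ∀ u ∈ P, cj u (cj g⁻¹ (P ⊓ cj g P)) = cj g⁻¹ (P ⊓ cj g P) := by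
  intro u hu
  have hv : g * u * g⁻¹ ∈ cj g P := conj_mem_cj hu
  rw [cj_cj]
  have e : u * g⁻¹ = g⁻¹ * (g * u * g⁻¹) := by group
  rw [e, ← cj_cj, hc.nrm _ hv]

/-- `|P : C| = p` -/
theorem C_relIndex (hc : PChainHyp P g p) : (cj g⁻¹ (P ⊓ cj g P)).relIndex P = p := by
  have h := Subgroup.relIndex_map_map_of_injective (P ⊓ cj g P) (cj g P)
    (f := (MulAut.conj g⁻¹).toMonoidHom) (MulAut.conj g⁻¹).injective
  have h' : (cj g⁻¹ (P ⊓ cj g P)).relIndex (cj g⁻¹ (cj g P)) = (P ⊓ cj g P).relIndex (cj g P) := h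
  rw [cj_cj, inv_mul_cancel, cj_one, hc.idx] at h'
  exact h'

/-- the members of the chain lie in `P` -/
theorem RI_le (P : Subgroup G) (g : G) (k : ℤ) (hk : 0 ≤ k) : RI P g 0 k ≤ P := by
  have h := RI_anti (H := P) (g := g) (i := 0) (j := 0) (i' := 0) (j' := k) le_rfl hk
  rwa [RI_zero] at h

/-- `RI (-1) k = RI 0 k ⊓ C` -/
theorem RI_neg_one (P : Subgroup G) (g : G) (k : ℤ) (hk : 0 ≤ k) :
    RI P g (-1) k = RI P g 0 k ⊓ cj g⁻¹ (P ⊓ cj g P) := by
  have h1 : RI P g (-1) 0 ⊓ RI P g 0 k = RI P g (-1) k := RI_inf (by omega) (by omega) hk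
  have h2 : RI P g (-1) 0 = cj g⁻¹ (P ⊓ cj g P) := by
    rw [← RI_zero_one, ← zpow_neg_one, cj_zpow_RI]
    congr 1
  rw [← h1, h2, inf_comm]

/-- the index of `R_{k+1}` in `R_k` is the index of `C` in `R_k` -/
theorem relIndex_succ (hc : PChainHyp P g p) (k : ℤ) (hk : 0 ≤ k) :
    (RI P g 0 (k + 1)).relIndex (RI P g 0 k) = (cj g⁻¹ (P ⊓ cj g P)).relIndex (RI P g 0 k) := by
  have hfin : Finite ↥(RI P g 0 k) := by
    have := hc.fin
    exact Finite.of_injective (Subgroup.inclusion (RI_le P g k hk))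
      (Subgroup.inclusion_injective (RI_le P g k hk))
  have e1 : RI P g 0 (k + 1) = cj g (RI P g (-1) k) := by
    rw [cj_RI]
    congr 1
  have hle1 : RI P g 0 (k + 1) ≤ RI P g 0 k := RI_anti le_rfl (by omega)
  have hle2 : RI P g (-1) k ≤ RI P g 0 k := RI_anti (by omega) le_rfl
  have c1 := card_mul_relIndex' hle1
  have c2 := card_mul_relIndex' hle2
  have hcard : Nat.card ↥(RI P g 0 (k + 1)) = Nat.card ↥(RI P g (-1) k) := by
    rw [e1, card_cj]
  rw [hcard, ← c2] at c1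
  have hfin2 : Finite ↥(RI P g (-1) k) :=
    Finite.of_injective (Subgroup.inclusion hle2) (Subgroup.inclusion_injective hle2)
  have hpos : 0 < Nat.card ↥(RI P g (-1) k) := Nat.card_pos
  have h3 := Nat.eq_of_mul_eq_mul_left hpos c1
  rw [h3, RI_neg_one P g k hk, Subgroup.inf_relIndex_left]

/-- GC-IDX (M/L), paper (1.1)-(1.3). -/
theorem pchain_index (hc : PChainHyp P g p) :
    (RI P g 0 1).relIndex (RI P g 0 0) = p ∧
    ∀ k : ℕ, (RI P g 0 ((k : ℤ) + 1)).relIndex (RI P g 0 k) = 1 ∨ (RI P g 0 ((k : ℤ) + 1)).relIndex (RI P g 0 k) = p := by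
  constructor
  · have h := relIndex_succ hc 0 le_rfl
    rw [zero_add] at h
    rw [h, RI_zero]
    exact C_relIndex hc
  · intro k
    have hk : (0 : ℤ) ≤ (k : ℤ) := by exact_mod_cast Nat.zero_le k
    rw [relIndex_succ hc (k : ℤ) hk]
    have hA := RI_le P g (k : ℤ) hk
    have hnorm : ((cj g⁻¹ (P ⊓ cj g P)).subgroupOf P).Normal := by
      constructor
      intro c hcC u
      rw [Subgroup.mem_subgroupOf] at hcC ⊢
      have h1 := conj_mem_cj (u := (u : G)) hcC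
      rw [C_normal hc _ u.2] at h1
      exact h1
    have hdvd := Subgroup.relIndex_dvd_index_of_normal ((cj g⁻¹ (P ⊓ cj g P)).subgroupOf P)
      ((RI P g 0 (k : ℤ)).subgroupOf P)
    rw [Subgroup.relIndex_subgroupOf hA] at hdvd
    have hidx : ((cj g⁻¹ (P ⊓ cj g P)).subgroupOf P).index = p := C_relIndex hc
    rw [hidx] at hdvd
    exact (Nat.dvd_prime hc.prime).1 hdvd

end Cfsg.Agent.Lib.Helper5_Gl_GCIDX
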