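import Mathlib
import Cfsg.Agent.Lib.Helper84_TutteDefs
import Cfsg.Agent.Lib.Helper84_TutteAPI
import Cfsg.Agent.Lib.Helper84_GlDefs
import Cfsg.Agent.Lib.Helper84_GlAPI
import Cfsg.Agent.Lib.Helper31_Tutte_C_RS

/-!
# S4359 package GC-NRM (helper84's market `gl_packages`): `RI (i-1) j` is normalised by `RI i j` (paper (1.2)).
-/

set_option autoImplicit false

open scoped commutatorElement
open Cfsg.Agent.Lib.Helper84_TutteDefs Cfsg.Agent.Lib.Helper84_GlDefs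

namespace Cfsg.Agent.Lib.Helper5_Gl_GCNRM

variable {G : Type*} [Group G] {P : Subgroup G} {g x0 : G} {p t lam : ℕ}

open Cfsg.Agent.Lib.Helper31_Tutte_C_RS in
/-- GC-NRM (M), paper (1.2).  `RI (i-1) j = RI i j ⊓ cj (g^(i-1)) (P ⊓ cj g P)` and `RI i j ≤ cj (g^i) P = cj (g^(i-1)) (cj g P)`,
which normalises `cj (g^(i-1)) (P ⊓ cj g P)` by `hc.nrm`. -/
theorem chain_normal (hc : PChainHyp P g p) (i j : ℤ) (hij : i ≤ j) :
    ∀ u ∈ RI P g i j, cj u (RI P g (i - 1) j) = RI P g (i - 1) j := by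
  intro u hu
  have hsplit : RI P g (i - 1) i ⊓ RI P g i j = RI P g (i - 1) j :=
    RI_inf (by omega) (by omega) hij
  have h1 : RI P g (i - 1) i = cj (g ^ (i - 1)) (P ⊓ cj g P) := by
    rw [← RI_zero_one, cj_zpow_RI]
    congr 1 <;> ring
  have hself : cj u (RI P g i j) = RI P g i j := cj_eq_self_of_mem hu
  have hu' : u ∈ cj (g ^ (i - 1)) (cj g P) := by
    have h2 : RI P g i j ≤ RI P g i i := RI_anti le_rfl hij
    have h3 := h2 hu
    rw [RI_self] at h3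
    rw [cj_cj]
    have e : g ^ (i - 1) * g = g ^ i := by
      rw [← zpow_add_one]
      congr 1
      ring
    rw [e]
    exact h3
  have hv : (g ^ (i - 1))⁻¹ * u * g ^ (i - 1) ∈ cj g P := mem_cj.1 hu'
  have h4 : cj u (RI P g (i - 1) i) = RI P g (i - 1) i := by
    rw [h1, cj_cj]
    have e : u * g ^ (i - 1) = g ^ (i - 1) * ((g ^ (i - 1))⁻¹ * u * g ^ (i - 1)) := by group
    rw [e, ← cj_cj, hc.nrm _ hv]
  rw [← hsplit, cj_inf, h4, hself]

end Cfsg.Agent.Lib.Helper5_Gl_GCNRM
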