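import Mathlib

/-!
# Fixed-point-free automorphisms of order dividing 4 (helper64)

Elementary development towards: a finite solvable group with a fixed-point-free
automorphism `σ`, `σ ^ 4 = 1`, has nilpotent derived subgroup.
-/

set_option autoImplicit false

namespace Cfsg.Agent.Lib.Helper64_Fpf4

open Subgroup
open scoped commutatorElement

section Basics

variable {G : Type*} [Group G]

/-- `σ` fixes only the identity. -/
def Fpf (σ : MulAut G) : Prop := ∀ g : G, σ g = g → g = 1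

theorem Fpf.injective {σ : MulAut G} (h : Fpf σ) :
    Function.Injective (fun g : G => g⁻¹ * σ g) := by
  intro a b hab
  simp only at hab
  have h1 : σ (b * a⁻¹) = b * a⁻¹ := by
    rw [map_mul, map_inv]
    have : σ a = a * (b⁻¹ * σ b) := by rw [← hab]; group
    rw [this]; group
  have := h _ h1
  exact (mul_inv_eq_one.mp this).symm

/-- A `σ`-invariant finite subgroup contains every `g` with `g⁻¹ σ(g)` in it. -/
theorem Fpf.mem_of_inv_mul_mem {σ : MulAut G} (h : Fpf σ) (N : Subgroup G) [Finite N]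
    (hN : ∀ n ∈ N, σ n ∈ N) {g : G} (hg : g⁻¹ * σ g ∈ N) : g ∈ N := by
  let f : N → N := fun n => ⟨(n : G)⁻¹ * σ n, N.mul_mem (N.inv_mem n.2) (hN _ n.2)⟩
  have hf : Function.Injective f := by
    intro a b hab
    have := congrArg Subtype.val hab
    exact Subtype.ext (h.injective this)
  obtain ⟨m, hm⟩ := (Finite.injective_iff_surjective.mp hf) ⟨_, hg⟩
  have := congrArg Subtype.val hm
  have hmg : (m : G) = g := h.injective this
  rw [← hmg]; exact m.2

theorem odd_card_of_fpf [Finite G] {σ : MulAut G} (h : Fpf σ) (h4 : σ ^ 4 = 1) :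
    Odd (Nat.card G) := by
  have hp : IsPGroup 2 (Subgroup.zpowers σ) := by
    intro x
    refine ⟨2, ?_⟩
    obtain ⟨x, hx⟩ := x
    obtain ⟨k, rfl⟩ := Subgroup.mem_zpowers_iff.mp hx
    apply Subtype.ext
    simp only [SubmonoidClass.mk_pow, OneMemClass.coe_one]
    rw [← zpow_natCast, ← zpow_mul, mul_comm, zpow_mul]
    norm_num
    have h4' : σ ^ (4 : ℤ) = 1 := by
      have : σ ^ (4 : ℤ) = σ ^ (4 : ℕ) := by norm_cast
      rw [this, h4]
    first
      | rw [h4', one_zpow]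
      | (rw [h4, one_zpow])
  have : Fact (Nat.Prime 2) := ⟨Nat.prime_two⟩
  have key := hp.card_modEq_card_fixedPoints G
  have hfix : MulAction.fixedPoints (Subgroup.zpowers σ) G = {1} := by
    ext g
    simp only [MulAction.mem_fixedPoints, Set.mem_singleton_iff]
    constructor
    · intro hg
      exact h g (hg ⟨σ, Subgroup.mem_zpowers σ⟩)
    · rintro rfl ⟨x, hx⟩
      show x • (1 : G) = 1
      simp
  rw [hfix] at key
  simp only [Nat.card_eq_fintype_card, Fintype.card_unique] at key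
  rw [Nat.odd_iff]
  have : Nat.card G % 2 = 1 % 2 := by
    simpa [Nat.ModEq] using key
  simpa using this

end Basics

section LemmaR

variable {Γ : Type*} [Group Γ]

theorem eq_one_of_sq_of_odd (R : Subgroup Γ) [Finite R] (hodd : Odd (Nat.card R))
    {u : Γ} (hu : u ∈ R) (h : u * u = 1) : u = 1 := by
  have h1 : orderOf u ∣ 2 := orderOf_dvd_of_pow_eq_one (by rw [pow_two]; exact h)
  have h2 : orderOf u ∣ Nat.card R := by
    have := orderOf_dvd_natCard (⟨u, hu⟩ : R)
    rwa [Subgroup.orderOf_mk] at this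
  have h3 : orderOf u ∣ Nat.gcd 2 (Nat.card R) := Nat.dvd_gcd h1 h2
  have h4 : Nat.gcd 2 (Nat.card R) = 1 := by
    exact Nat.coprime_two_left.mpr hodd
  rw [h4, Nat.dvd_one, orderOf_eq_one_iff] at h3
  exact h3

theorem commute_of_commute_sq_of_odd (R : Subgroup Γ) [Finite R] (hodd : Odd (Nat.card R))
    {u : Γ} (hu : u ∈ R) {z : Γ} (h : Commute z (u * u)) : Commute z u := by
  have h2 : orderOf u ∣ Nat.card R := by
    have := orderOf_dvd_natCard (⟨u, hu⟩ : R)
    rwa [Subgroup.orderOf_mk] at this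
  have hoddu : Odd (orderOf u) := Odd.of_dvd_nat hodd h2
  obtain ⟨k, hk⟩ := hoddu
  have : u = (u * u) ^ (k + 1) := by
    rw [← pow_two, ← pow_mul]
    have : 2 * (k + 1) = orderOf u + 1 := by omega
    rw [this, pow_succ, pow_orderOf_eq_one, one_mul]
  rw [this]
  exact h.pow_right _

/-- **Lemma R.** A minimal `φ`-invariant subgroup not centralised by `φ²` is abelian and
inverted by `φ²`. -/
theorem abelian_inverted_of_minimal (φ : MulAut Γ) (h4 : φ ^ 4 = 1) (R : Subgroup Γ) [Finite R]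
    (hodd : Odd (Nat.card R)) (hsolv : Group.IsSolvable R)
    (hinv : ∀ x ∈ R, φ x ∈ R) (hfpf : ∀ x ∈ R, φ x = x → x = 1)
    (hmin : ∀ R₁ : Subgroup Γ, R₁ < R → (∀ x ∈ R₁, φ x ∈ R₁) → ∀ x ∈ R₁, φ (φ x) = x)
    (hne : ∃ x ∈ R, φ (φ x) ≠ x) :
    (∀ x ∈ R, ∀ y ∈ R, x * y = y * x) ∧ ∀ x ∈ R, φ (φ x) = x⁻¹ := by
  have hτ2 : ∀ x, φ (φ (φ (φ x))) = x := by
    intro x
    have := congrArg (fun f : MulAut Γ => f x) h4
    simpa [pow_succ, MulAut.mul_apply] using this
  obtain ⟨g, hgR, hg⟩ := hne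
  set x : Γ := g⁻¹ * φ (φ g) with hx
  have hxR : x ∈ R := R.mul_mem (R.inv_mem hgR) (hinv _ (hinv _ hgR))
  have hτx : φ (φ x) = x⁻¹ := by
    rw [hx, map_mul, map_mul, map_inv, map_inv, hτ2]; group
  have hx1 : x ≠ 1 := by
    intro h
    apply hg
    have : g * x = g := by rw [h, mul_one]
    rw [hx] at this
    simpa using this
  have hτxne : φ (φ x) ≠ x := by
    intro h
    rw [hτx] at h
    apply hx1
    apply eq_one_of_sq_of_odd R hodd hxR
    calc x * x = x * x⁻¹ := by rw [h]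
      _ = 1 := mul_inv_cancel x
  set y : Γ := φ x with hy
  have hyR : y ∈ R := hinv _ hxR
  have hτy : φ (φ y) = y⁻¹ := by
    rw [hy, hτx, map_inv]
  -- R is generated by x and y
  have hR₁le : Subgroup.closure {x, y} ≤ R := by
    rw [Subgroup.closure_le]
    intro z hz
    rcases hz with rfl | rfl
    · exact hxR
    · exact hyR
  have hR₁inv : ∀ z ∈ Subgroup.closure {x, y}, φ z ∈ Subgroup.closure {x, y} := by
    intro z hz
    induction hz using Subgroup.closure_induction with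
    | mem z hz =>
      rcases hz with rfl | rfl
      · exact Subgroup.subset_closure (by simp [hy])
      · have : φ (φ x) = x⁻¹ := hτx
        rw [hy, this]
        exact Subgroup.inv_mem _ (Subgroup.subset_closure (by simp))
    | one => rw [map_one]; exact Subgroup.one_mem _
    | mul a b _ _ ha hb => rw [map_mul]; exact Subgroup.mul_mem _ ha hb
    | inv a _ ha => rw [map_inv]; exact Subgroup.inv_mem _ ha
  have hR₁ : Subgroup.closure {x, y} = R := by
    by_contra hne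
    have hlt : Subgroup.closure {x, y} < R := lt_of_le_of_ne hR₁le hne
    exact hτxne (hmin _ hlt hR₁inv x (Subgroup.subset_closure (by simp)))
  -- the derived subgroup is proper, hence centralised by φ²
  have hnt : Nontrivial R := ⟨⟨⟨x, hxR⟩, 1, fun h => hx1 (congrArg Subtype.val h)⟩⟩
  have hDlt : ⁅R, R⁆ < R := by
    have h1 : _root_.commutator R < ⊤ := Group.IsSolvable.commutator_lt_top_of_nontrivial R
    have h2 := Subgroup.map_subtype_commutator R
    rw [← h2]
    have h3 : (⊤ : Subgroup R).map R.subtype = R := by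
      rw [← MonoidHom.range_eq_map, Subgroup.range_subtype]
    conv_rhs => rw [← h3]
    exact (Subgroup.map_lt_map_iff_of_injective R.subtype_injective).mpr h1
  have hDinv : ∀ z ∈ ⁅R, R⁆, φ z ∈ ⁅R, R⁆ := by
    intro z hz
    have h1 : φ z ∈ (⁅R, R⁆).map φ.toMonoidHom := ⟨z, hz, rfl⟩
    rw [Subgroup.map_commutator] at h1
    have h2 : R.map φ.toMonoidHom ≤ R := by
      rintro _ ⟨w, hw, rfl⟩
      exact hinv w hw
    exact Subgroup.commutator_mono h2 h2 h1
  have hDfix : ∀ z ∈ ⁅R, R⁆, φ (φ z) = z := hmin _ hDlt hDinv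
  -- inverted elements centralise the derived subgroup
  have hcent : ∀ u ∈ R, φ (φ u) = u⁻¹ → ∀ z ∈ ⁅R, R⁆, Commute z u := by
    intro u huR hu z hz
    apply commute_of_commute_sq_of_odd R hodd huR
    have hconj : u⁻¹ * z * u ∈ ⁅R, R⁆ := by
      have hzR : z ∈ R := Subgroup.commutator_le_self R hz
      have : u⁻¹ * z * u = z * ⁅z⁻¹, u⁻¹⁆ := by
        simp only [commutatorElement_def]; group
      rw [this]
      exact Subgroup.mul_mem _ hz
        (Subgroup.commutator_mem_commutator (R.inv_mem hzR) (R.inv_mem huR))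
    have h1 := hDfix _ hconj
    rw [map_mul, map_mul, map_mul, map_mul, map_inv, map_inv, hu, hDfix z hz, inv_inv] at h1
    -- h1 : u * z * u⁻¹ = u⁻¹ * z * u
    show z * (u * u) = (u * u) * z
    have : u * z * u⁻¹ = u⁻¹ * z * u := h1
    calc z * (u * u) = u * (u⁻¹ * z * u) * u := by group
      _ = u * (u * z * u⁻¹) * u := by rw [this]
      _ = (u * u) * z := by group
  have hcentR : ∀ z ∈ ⁅R, R⁆, ∀ r ∈ R, Commute z r := by
    intro z hz r hr
    rw [← hR₁] at hr
    induction hr using Subgroup.closure_induction with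
    | mem r hr =>
      rcases hr with rfl | rfl
      · exact hcent _ hxR hτx z hz
      · exact hcent _ hyR hτy z hz
    | one => exact Commute.one_right z
    | mul a b _ _ ha hb => exact ha.mul_right hb
    | inv a _ ha => exact ha.inv_right
  -- the commutator of x and y is fixed by φ
  have hc : ⁅x, y⁆ ∈ ⁅R, R⁆ := Subgroup.commutator_mem_commutator hxR hyR
  have hφc : φ ⁅x, y⁆ = ⁅x, y⁆ := by
    have h1 : φ ⁅x, y⁆ = ⁅y, x⁻¹⁆ := by
      rw [map_commutatorElement]
      have : φ y = x⁻¹ := hτx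
      rw [this]
    have h2 : ⁅y, x⁻¹⁆ = x⁻¹ * ⁅x, y⁆ * x := by
      simp only [commutatorElement_def]; group
    rw [h1, h2]
    have := hcentR _ hc x hxR
    calc x⁻¹ * ⁅x, y⁆ * x = x⁻¹ * (⁅x, y⁆ * x) := by group
      _ = x⁻¹ * (x * ⁅x, y⁆) := by rw [this.eq]
      _ = ⁅x, y⁆ := by group
  have hc1 : ⁅x, y⁆ = 1 := hfpf _ (Subgroup.commutator_le_self R hc) hφc
  have hxy : Commute x y := by
    rw [commutatorElement_eq_one_iff_commute] at hc1
    exact hc1
  -- R is abelian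
  have hab : ∀ a ∈ R, ∀ b ∈ R, a * b = b * a := by
    intro a ha b hb
    rw [← hR₁] at ha hb
    have key : ∀ a ∈ Subgroup.closure {x, y}, Commute a x ∧ Commute a y := by
      intro a ha
      induction ha using Subgroup.closure_induction with
      | mem a ha =>
        rcases ha with rfl | rfl
        · exact ⟨Commute.refl _, hxy⟩
        · exact ⟨hxy.symm, Commute.refl _⟩
      | one => exact ⟨Commute.one_left _, Commute.one_left _⟩
      | mul a b _ _ ha hb => exact ⟨ha.1.mul_left hb.1, ha.2.mul_left hb.2⟩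
      | inv a _ ha => exact ⟨ha.1.inv_left, ha.2.inv_left⟩
    induction hb using Subgroup.closure_induction with
    | mem b hb =>
      rcases hb with rfl | rfl
      · exact (key a ha).1.eq
      · exact (key a ha).2.eq
    | one => simp
    | mul b c _ _ hb hc =>
      have hb' : Commute a b := hb
      have hc' : Commute a c := hc
      exact (hb'.mul_right hc').eq
    | inv b _ hb =>
      have hb' : Commute a b := hb
      exact hb'.inv_right.eq
  refine ⟨hab, ?_⟩
  intro r hr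
  have hr' := hr
  rw [← hR₁] at hr
  induction hr using Subgroup.closure_induction with
  | mem r hr =>
    rcases hr with rfl | rfl
    · exact hτx
    · exact hτy
  | one => simp
  | mul a b ha hb iha ihb =>
    have haR : a ∈ R := hR₁le ha
    have hbR : b ∈ R := hR₁le hb
    rw [map_mul, map_mul, iha haR, ihb hbR, mul_inv_rev]
    exact hab _ (R.inv_mem haR) _ (R.inv_mem hbR)
  | inv a ha iha =>
    have haR : a ∈ R := hR₁le ha
    rw [map_inv, map_inv, iha haR]

end LemmaR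

section LemmaE

variable {V : Type*} [CommGroup V] [Finite V]

omit [Finite V] in
theorem Fpf.norm_eq (s : MulAut V) (h4 : s ^ 4 = 1) (hs : Fpf s) (v : V) :
    s v * s (s v) * s (s (s v)) = v⁻¹ := by
  have h4' : ∀ x, s (s (s (s x))) = x := by
    intro x
    have := congrArg (fun f : MulAut V => f x) h4
    simpa [pow_succ, MulAut.mul_apply] using this
  have hw : s (v * s v * s (s v) * s (s (s v))) = v * s v * s (s v) * s (s (s v)) := by
    rw [map_mul, map_mul, map_mul, h4']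
    simp only [mul_comm, mul_left_comm]
  have := hs _ hw
  rw [mul_assoc, mul_assoc, ← mul_assoc (s v)] at this
  exact (eq_inv_of_mul_eq_one_right this)

theorem prod_twist (A : Subgroup (MulAut V)) [Fintype A] (t : MulAut V)
    (hinv : ∀ a ∈ A, t * a * t⁻¹ ∈ A) (hfix : ∀ a ∈ A, t * a * t⁻¹ = a → a = 1) (v : V) :
    ∏ a : A, (a : MulAut V) (t v) = ∏ x : A, (x : MulAut V) (t ((x : MulAut V)⁻¹ v)) := by
  let β : A → A := fun x =>
    ⟨(x : MulAut V) * (t * (x : MulAut V)⁻¹ * t⁻¹), A.mul_mem x.2 (hinv _ (A.inv_mem x.2))⟩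
  have hβ : Function.Injective β := by
    intro x y hxy
    have h1 : (x : MulAut V) * (t * (x : MulAut V)⁻¹ * t⁻¹) =
        (y : MulAut V) * (t * (y : MulAut V)⁻¹ * t⁻¹) := congrArg Subtype.val hxy
    have h2 : t * ((y : MulAut V)⁻¹ * x) * t⁻¹ = (y : MulAut V)⁻¹ * x := by
      have h3 : (x : MulAut V) * t * (x : MulAut V)⁻¹ = (y : MulAut V) * t * (y : MulAut V)⁻¹ := by
        have := congrArg (fun z => z * t) h1
        simpa [mul_assoc] using this
      calc t * ((y : MulAut V)⁻¹ * x) * t⁻¹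
          = (y : MulAut V)⁻¹ * ((y : MulAut V) * t * (y : MulAut V)⁻¹) * x * t⁻¹ := by group
        _ = (y : MulAut V)⁻¹ * ((x : MulAut V) * t * (x : MulAut V)⁻¹) * x * t⁻¹ := by rw [h3]
        _ = (y : MulAut V)⁻¹ * x := by group
    have h4 := hfix _ (A.mul_mem (A.inv_mem y.2) x.2) h2
    apply Subtype.ext
    exact (inv_mul_eq_one.mp h4).symm
  have hβb : Function.Bijective β := Finite.injective_iff_bijective.mp hβ
  rw [← Function.Bijective.prod_comp hβb (fun a : A => (a : MulAut V) (t v))]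
  apply Finset.prod_congr rfl
  intro x _
  show ((x : MulAut V) * (t * (x : MulAut V)⁻¹ * t⁻¹)) (t v) = _
  simp [MulAut.mul_apply]

/-- **Lemma E.** If `⟨s⟩` (of order dividing `4`, fixed-point-free on the abelian group `V`)
acts Frobeniusly by conjugation on a group `A` of automorphisms of `V` of coprime order,
then `A` is trivial. -/
theorem eq_bot_of_frobenius (s : MulAut V) (h4 : s ^ 4 = 1) (hs : Fpf s)
    (A : Subgroup (MulAut V))
    (hinv : ∀ a ∈ A, s * a * s⁻¹ ∈ A)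
    (hfrob : ∀ j : ℕ, 0 < j → j < 4 → ∀ a ∈ A, s ^ j * a * (s ^ j)⁻¹ = a → a = 1)
    (hcop : (Nat.card A).Coprime (Nat.card V)) : A = ⊥ := by
  classical
  have : Fintype A := Fintype.ofFinite A
  have hinvj : ∀ j : ℕ, ∀ a ∈ A, s ^ j * a * (s ^ j)⁻¹ ∈ A := by
    intro j
    induction j with
    | zero => intro a ha; simpa using ha
    | succ j ih =>
      intro a ha
      have := hinv _ (ih a ha)
      have h2 : s ^ (j + 1) * a * (s ^ (j + 1))⁻¹ = s * (s ^ j * a * (s ^ j)⁻¹) * s⁻¹ := by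
        rw [pow_succ']; group
      rw [h2]; exact this
  have hp1 : ∀ x : V, (s ^ 1) x = s x := fun x => by simp
  have hp2 : ∀ x : V, (s ^ 2) x = s (s x) := fun x => by simp [pow_succ, MulAut.mul_apply]
  have hp3 : ∀ x : V, (s ^ 3) x = s (s (s x)) := fun x => by simp [pow_succ, MulAut.mul_apply]
  -- the key identity
  have key : ∀ v : V, ∏ a : A, (a : MulAut V) v = v ^ (Fintype.card A) := by
    intro v
    have hv := Fpf.norm_eq s h4 hs v⁻¹
    rw [inv_inv] at hv
    have e1 := prod_twist A (s ^ 1) (hinvj 1) (hfrob 1 (by norm_num) (by norm_num)) v⁻¹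
    have e2 := prod_twist A (s ^ 2) (hinvj 2) (hfrob 2 (by norm_num) (by norm_num)) v⁻¹
    have e3 := prod_twist A (s ^ 3) (hinvj 3) (hfrob 3 (by norm_num) (by norm_num)) v⁻¹
    have hL : ∏ a : A, (a : MulAut V) v =
        (∏ a : A, (a : MulAut V) ((s ^ 1) v⁻¹)) * (∏ a : A, (a : MulAut V) ((s ^ 2) v⁻¹)) *
          (∏ a : A, (a : MulAut V) ((s ^ 3) v⁻¹)) := by
      rw [← Finset.prod_mul_distrib, ← Finset.prod_mul_distrib]
      apply Finset.prod_congr rfl
      intro a _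
      rw [← map_mul, ← map_mul, hp1, hp2, hp3, hv]
    rw [hL, e1, e2, e3, ← Finset.prod_mul_distrib, ← Finset.prod_mul_distrib]
    have : ∀ x : A, (x : MulAut V) ((s ^ 1) ((x : MulAut V)⁻¹ v⁻¹)) *
        (x : MulAut V) ((s ^ 2) ((x : MulAut V)⁻¹ v⁻¹)) *
        (x : MulAut V) ((s ^ 3) ((x : MulAut V)⁻¹ v⁻¹)) = v := by
      intro x
      rw [← map_mul, ← map_mul]
      have hw := Fpf.norm_eq s h4 hs ((x : MulAut V)⁻¹ v⁻¹)
      have : (s ^ 1) ((x : MulAut V)⁻¹ v⁻¹) * (s ^ 2) ((x : MulAut V)⁻¹ v⁻¹) *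
          (s ^ 3) ((x : MulAut V)⁻¹ v⁻¹) = ((x : MulAut V)⁻¹ v⁻¹)⁻¹ := by
        rw [← hw, hp1, hp2, hp3]
      rw [this]
      simp [map_inv]
    rw [Finset.prod_congr rfl (fun x _ => this x)]
    simp
  -- conclude
  rw [Subgroup.eq_bot_iff_forall]
  intro a₀ ha₀
  ext v
  have h1 : a₀ (∏ a : A, (a : MulAut V) v) = ∏ a : A, (a : MulAut V) v := by
    rw [map_prod]
    have := Function.Bijective.prod_comp (Group.mulLeft_bijective (⟨a₀, ha₀⟩ : A))
      (fun a : A => (a : MulAut V) v)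
    rw [← this]
    apply Finset.prod_congr rfl
    intro a _
    simp [MulAut.mul_apply]
  rw [key, map_pow] at h1
  have h2 : (a₀ v * v⁻¹) ^ Fintype.card A = 1 := by
    rw [mul_pow, h1, inv_pow, mul_inv_cancel]
  have h3 : (a₀ v * v⁻¹) ^ Nat.card V = 1 := pow_card_eq_one'
  have h4 : a₀ v * v⁻¹ = 1 := by
    have hd1 : orderOf (a₀ v * v⁻¹) ∣ Nat.card A := by
      rw [Nat.card_eq_fintype_card]; exact orderOf_dvd_of_pow_eq_one h2
    have hd2 : orderOf (a₀ v * v⁻¹) ∣ Nat.card V := orderOf_dvd_of_pow_eq_one h3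
    have := Nat.dvd_gcd hd1 hd2
    rw [hcop, Nat.dvd_one, orderOf_eq_one_iff] at this
    exact this
  simpa using mul_inv_eq_one.mp h4

end LemmaE

section TT

variable {G : Type*} [Group G]

theorem nilpotent_of_injective {K L : Type*} [Group K] [Group L] (f : K →* L)
    (hf : Function.Injective f) (hL : Group.IsNilpotent L) : Group.IsNilpotent K := by
  have : Group.IsNilpotent f.range := Subgroup.isNilpotent _
  exact Group.nilpotent_of_mulEquiv (MonoidHom.ofInjective hf).symm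

theorem isNilpotent_of_le {K L : Subgroup G} (h : K ≤ L) (hL : Group.IsNilpotent L) :
    Group.IsNilpotent K :=
  nilpotent_of_injective (Subgroup.inclusion h) (Subgroup.inclusion_injective h) hL

/-- The subgroup `[G, σ²]`, generated by the elements `g⁻¹ σ²(g)`. -/
def TT (σ : MulAut G) : Subgroup G := Subgroup.closure (Set.range fun g : G => g⁻¹ * σ (σ g))

theorem gen_mem_TT (σ : MulAut G) (g : G) : g⁻¹ * σ (σ g) ∈ TT σ :=
  Subgroup.subset_closure ⟨g, rfl⟩

instance TT_normal (σ : MulAut G) : (TT σ).Normal := by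
  constructor
  intro n hn g
  induction hn using Subgroup.closure_induction with
  | mem x hx =>
    obtain ⟨a, rfl⟩ := hx
    have : g * (a⁻¹ * σ (σ a)) * g⁻¹ =
        ((a * g⁻¹)⁻¹ * σ (σ (a * g⁻¹))) * ((g⁻¹)⁻¹ * σ (σ g⁻¹))⁻¹ := by
      simp only [map_mul, map_inv]; group
    rw [this]
    exact Subgroup.mul_mem _ (gen_mem_TT σ _) (Subgroup.inv_mem _ (gen_mem_TT σ _))
  | one => simp
  | mul x y _ _ hx hy =>
    have : g * (x * y) * g⁻¹ = (g * x * g⁻¹) * (g * y * g⁻¹) := by group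
    rw [this]; exact Subgroup.mul_mem _ hx hy
  | inv x _ hx =>
    have : g * x⁻¹ * g⁻¹ = (g * x * g⁻¹)⁻¹ := by group
    rw [this]; exact Subgroup.inv_mem _ hx

theorem TT_invariant (σ : MulAut G) : ∀ x ∈ TT σ, σ x ∈ TT σ := by
  intro x hx
  induction hx using Subgroup.closure_induction with
  | mem x hx =>
    obtain ⟨a, rfl⟩ := hx
    have : σ (a⁻¹ * σ (σ a)) = (σ a)⁻¹ * σ (σ (σ a)) := by simp
    rw [this]; exact gen_mem_TT σ _
  | one => simp
  | mul x y _ _ hx hy => rw [map_mul]; exact Subgroup.mul_mem _ hx hy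
  | inv x _ hx => rw [map_inv]; exact Subgroup.inv_mem _ hx

theorem TT_map {H : Type*} [Group H] (σ : MulAut G) (σH : MulAut H) (f : G →* H)
    (hf : Function.Surjective f) (hc : ∀ g, σH (f g) = f (σ g)) :
    (TT σ).map f = TT σH := by
  unfold TT
  rw [MonoidHom.map_closure]
  congr 1
  ext y
  constructor
  · rintro ⟨_, ⟨g, rfl⟩, rfl⟩
    exact ⟨f g, by simp [hc]⟩
  · rintro ⟨h, rfl⟩
    obtain ⟨g, rfl⟩ := hf h
    exact ⟨_, ⟨g, rfl⟩, by simp [hc]⟩

theorem mem_TT_of_inverted (σ : MulAut G) {x : G} (hx : σ (σ x) = x⁻¹) (hodd : Odd (orderOf x)) :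
    x ∈ TT σ := by
  obtain ⟨k, hk⟩ := hodd
  have : x = (x ^ k)⁻¹ * σ (σ (x ^ k)) := by
    rw [map_pow, map_pow, hx, inv_pow]
    have h1 : x ^ k * x ^ k * x = 1 := by
      rw [← pow_add, ← pow_succ, show k + k + 1 = orderOf x by omega, pow_orderOf_eq_one]
    have h2 : x = (x ^ k * x ^ k)⁻¹ := (inv_eq_of_mul_eq_one_right h1).symm ▸ rfl
    rw [mul_inv_rev] at h2
    exact h2
  rw [this]
  exact gen_mem_TT σ _

theorem TT_le_map_of_le (σ : MulAut G) (h4 : σ ^ 4 = 1) (M : Subgroup G) (σM : MulAut M)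
    (hσM : ∀ m : M, (σM m : G) = σ m) (hle : TT σ ≤ M) (hodd : ∀ x : G, Odd (orderOf x)) :
    TT σ ≤ (TT σM).map M.subtype := by
  have hτ2 : ∀ x, σ (σ (σ (σ x))) = x := by
    intro x
    have := congrArg (fun f : MulAut G => f x) h4
    simpa [pow_succ, MulAut.mul_apply] using this
  unfold TT
  rw [Subgroup.closure_le]
  rintro _ ⟨g, rfl⟩
  have hxM : g⁻¹ * σ (σ g) ∈ M := hle (gen_mem_TT σ g)
  refine ⟨⟨_, hxM⟩, ?_, rfl⟩
  apply mem_TT_of_inverted
  · apply Subtype.ext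
    rw [hσM, hσM]
    simp only [Subgroup.coe_inv]
    rw [map_mul, map_mul, map_inv, map_inv, hτ2]; group
  · rw [Subgroup.orderOf_mk]; exact hodd _

end TT

section Induced

variable {G : Type*} [Group G]

theorem pow4_apply {σ : MulAut G} (h4 : σ ^ 4 = 1) (x : G) : σ (σ (σ (σ x))) = x := by
  have := congrArg (fun f : MulAut G => f x) h4
  simpa [pow_succ, MulAut.mul_apply] using this

theorem map_eq_of_invariant (σ : MulAut G) (h4 : σ ^ 4 = 1) (N : Subgroup G)
    (hN : ∀ x ∈ N, σ x ∈ N) : N.map (σ : G ≃* G).toMonoidHom = N := by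
  apply le_antisymm
  · rintro _ ⟨x, hx, rfl⟩
    exact hN x hx
  · intro x hx
    exact ⟨σ (σ (σ x)), hN _ (hN _ (hN _ hx)), pow4_apply h4 x⟩

/-- The automorphism induced on the quotient by an invariant normal subgroup. -/
noncomputable def quotAut (σ : MulAut G) (h4 : σ ^ 4 = 1) (N : Subgroup G) [N.Normal]
    (hN : ∀ x ∈ N, σ x ∈ N) : MulAut (G ⧸ N) :=
  QuotientGroup.congr N N σ (map_eq_of_invariant σ h4 N hN)

theorem quotAut_mk (σ : MulAut G) (h4 : σ ^ 4 = 1) (N : Subgroup G) [N.Normal]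
    (hN : ∀ x ∈ N, σ x ∈ N) (g : G) :
    quotAut σ h4 N hN (QuotientGroup.mk g) = QuotientGroup.mk (σ g) := rfl

theorem quotAut_pow4 (σ : MulAut G) (h4 : σ ^ 4 = 1) (N : Subgroup G) [N.Normal]
    (hN : ∀ x ∈ N, σ x ∈ N) : (quotAut σ h4 N hN) ^ 4 = 1 := by
  ext x
  induction x using QuotientGroup.induction_on with
  | H g =>
    simp only [pow_succ, pow_zero, one_mul, MulAut.mul_apply, MulAut.one_apply]
    rw [quotAut_mk, quotAut_mk, quotAut_mk, quotAut_mk, pow4_apply h4]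

theorem quotAut_fpf [Finite G] (σ : MulAut G) (h4 : σ ^ 4 = 1) (hf : Fpf σ) (N : Subgroup G)
    [N.Normal] (hN : ∀ x ∈ N, σ x ∈ N) : Fpf (quotAut σ h4 N hN) := by
  intro x
  induction x using QuotientGroup.induction_on with
  | H g =>
    intro h
    rw [quotAut_mk, eq_comm, QuotientGroup.eq] at h
    rw [QuotientGroup.eq_one_iff]
    exact hf.mem_of_inv_mul_mem N hN h

/-- The automorphism induced on an invariant subgroup. -/
noncomputable def subAut (σ : MulAut G) (h4 : σ ^ 4 = 1) (M : Subgroup G)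
    (hM : ∀ x ∈ M, σ x ∈ M) : MulAut M :=
  (MulEquiv.subgroupMap σ M).trans (MulEquiv.subgroupCongr (map_eq_of_invariant σ h4 M hM))

theorem subAut_coe (σ : MulAut G) (h4 : σ ^ 4 = 1) (M : Subgroup G)
    (hM : ∀ x ∈ M, σ x ∈ M) (m : M) : (subAut σ h4 M hM m : G) = σ m := rfl

theorem subAut_pow4 (σ : MulAut G) (h4 : σ ^ 4 = 1) (M : Subgroup G)
    (hM : ∀ x ∈ M, σ x ∈ M) : (subAut σ h4 M hM) ^ 4 = 1 := by
  ext x
  simp only [pow_succ, pow_zero, one_mul, MulAut.mul_apply, MulAut.one_apply]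
  rw [subAut_coe, subAut_coe, subAut_coe, subAut_coe, pow4_apply h4]

theorem subAut_fpf (σ : MulAut G) (h4 : σ ^ 4 = 1) (hf : Fpf σ) (M : Subgroup G)
    (hM : ∀ x ∈ M, σ x ∈ M) : Fpf (subAut σ h4 M hM) := by
  intro x hx
  have := congrArg Subtype.val hx
  rw [subAut_coe] at this
  exact Subtype.ext (hf _ this)

/-- The property defining the invariant normal subgroups we minimise over. -/
def InvNormal (σ : MulAut G) (N : Subgroup G) : Prop :=
  N.Normal ∧ N ≠ ⊥ ∧ ∀ x ∈ N, σ x ∈ N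

theorem exists_min_invariant [Finite G] [Nontrivial G] (σ : MulAut G) :
    ∃ V : Subgroup G, Minimal (InvNormal σ) V :=
  exists_minimal_of_wellFoundedLT _ ⟨⊤, inferInstance, top_ne_bot, fun _ _ => Subgroup.mem_top _⟩

theorem min_invariant_abelian [Finite G] (hsolv : Group.IsSolvable G) (σ : MulAut G)
    (V : Subgroup G) (hV : Minimal (InvNormal σ) V) :
    (∀ a ∈ V, ∀ b ∈ V, a * b = b * a) ∧ ∃ q : ℕ, q.Prime ∧ ∀ v ∈ V, v ^ q = 1 := by
  obtain ⟨⟨hVn, hVne, hVinv⟩, hVmin⟩ := hV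
  have hntV : Nontrivial V := (Subgroup.nontrivial_iff_ne_bot V).mpr hVne
  -- V is abelian
  have hD : ⁅V, V⁆ = ⊥ := by
    by_contra hne
    have hDlt : ⁅V, V⁆ < V := by
      have h1 : _root_.commutator V < ⊤ := Group.IsSolvable.commutator_lt_top_of_nontrivial V
      have h2 := Subgroup.map_subtype_commutator V
      rw [← h2]
      have h3 : (⊤ : Subgroup V).map V.subtype = V := by
        rw [← MonoidHom.range_eq_map, Subgroup.range_subtype]
      conv_rhs => rw [← h3]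
      exact (Subgroup.map_lt_map_iff_of_injective V.subtype_injective).mpr h1
    have hDinv : ∀ z ∈ ⁅V, V⁆, σ z ∈ ⁅V, V⁆ := by
      intro z hz
      have h1 : σ z ∈ (⁅V, V⁆).map σ.toMonoidHom := ⟨z, hz, rfl⟩
      rw [Subgroup.map_commutator] at h1
      have h2 : V.map σ.toMonoidHom ≤ V := by
        rintro _ ⟨w, hw, rfl⟩
        exact hVinv w hw
      exact Subgroup.commutator_mono h2 h2 h1
    have := hVmin ⟨inferInstance, hne, hDinv⟩ hDlt.le
    exact absurd (lt_of_lt_of_le hDlt this) (lt_irrefl _)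
  have hab : ∀ a ∈ V, ∀ b ∈ V, a * b = b * a := by
    intro a ha b hb
    have : ⁅a, b⁆ ∈ ⁅V, V⁆ := Subgroup.commutator_mem_commutator ha hb
    rw [hD, Subgroup.mem_bot, commutatorElement_eq_one_iff_commute] at this
    exact this.eq
  refine ⟨hab, ?_⟩
  -- exponent q
  have hc1 : Nat.card V ≠ 1 := by
    intro h
    exact hVne ((Subgroup.card_eq_one).mp h)
  obtain ⟨q, hq, hqd⟩ := Nat.exists_prime_and_dvd hc1
  have : Fact q.Prime := ⟨hq⟩
  obtain ⟨x, hx⟩ := exists_prime_orderOf_dvd_card' q hqd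
  refine ⟨q, hq, ?_⟩
  let W : Subgroup G :=
    { carrier := {v | v ∈ V ∧ v ^ q = 1}
      one_mem' := ⟨V.one_mem, one_pow _⟩
      mul_mem' := by
        rintro a b ⟨ha, ha'⟩ ⟨hb, hb'⟩
        refine ⟨V.mul_mem ha hb, ?_⟩
        have hc : Commute a b := hab a ha b hb
        rw [hc.mul_pow, ha', hb', one_mul]
      inv_mem' := by
        rintro a ⟨ha, ha'⟩
        exact ⟨V.inv_mem ha, by rw [inv_pow, ha', inv_one]⟩ }
  have hWV : W ≤ V := fun v hv => hv.1
  have hWn : W.Normal := by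
    constructor
    rintro n ⟨hn, hn'⟩ g
    exact ⟨hVn.conj_mem n hn g, by rw [conj_pow, hn', mul_one, mul_inv_cancel]⟩
  have hWne : W ≠ ⊥ := by
    intro h
    have hxW : (x : G) ∈ W := by
      refine ⟨x.2, ?_⟩
      have : x ^ q = 1 := by rw [← hx]; exact pow_orderOf_eq_one x
      have := congrArg Subtype.val this
      simpa using this
    rw [h, Subgroup.mem_bot] at hxW
    have hx1 : x = 1 := Subtype.ext hxW
    rw [hx1, orderOf_one] at hx
    exact hq.one_lt.ne hx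
  have hWinv : ∀ z ∈ W, σ z ∈ W := by
    rintro z ⟨hz, hz'⟩
    exact ⟨hVinv z hz, by rw [← map_pow, hz', map_one]⟩
  have := hVmin ⟨hWn, hWne, hWinv⟩ hWV
  intro v hv
  exact (this hv).2

end Induced

section Fixed

variable {V : Type*} [CommGroup V] [Finite V]

/-- A nilpotent group of automorphisms of a `q`-group: the `q`-elements have a common
nontrivial fixed point. -/
theorem exists_fixed_of_nilpotent (q : ℕ) [Fact q.Prime] (hqV : q ∣ Nat.card V)
    (A₀ : Subgroup (MulAut V)) (hnil : Group.IsNilpotent A₀) :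
    ∃ v : V, v ≠ 1 ∧ ∀ a ∈ A₀, (∃ k : ℕ, a ^ (q ^ k) = 1) → a v = v := by
  have hSyl : ∀ P : Sylow q A₀, (P : Subgroup A₀).Normal := by
    have h03 : Group.IsNilpotent A₀ ↔
        ∀ (p : ℕ), Fact (Nat.Prime p) → ∀ (P : Sylow p A₀), (P : Subgroup A₀).Normal :=
      (Group.isNilpotent_of_finite_tfae (G := A₀)).out 0 3
    exact fun P => h03.mp hnil q inferInstance P
  obtain ⟨P⟩ : Nonempty (Sylow q A₀) := inferInstance
  have hPn := hSyl P
  have huniq : ∀ P' : Sylow q A₀, P' = P := by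
    intro P'
    have := Sylow.unique_of_normal P hPn
    exact Subsingleton.elim _ _
  let Q : Subgroup (MulAut V) := (P : Subgroup A₀).map A₀.subtype
  have hQp : IsPGroup q Q := P.2.map _
  have h1 : (1 : V) ∈ MulAction.fixedPoints Q V := by
    intro a
    show (a : MulAut V) • (1 : V) = 1
    simp
  obtain ⟨v, hvfix, hv1⟩ := hQp.exists_fixed_point_of_prime_dvd_card_of_fixed_point V hqV h1
  refine ⟨v, fun h => hv1 h.symm, ?_⟩
  intro a haA ⟨k, hk⟩
  have hz : IsPGroup q (Subgroup.zpowers (⟨a, haA⟩ : A₀)) := by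
    rintro ⟨g, hg⟩
    obtain ⟨m, rfl⟩ := Subgroup.mem_zpowers_iff.mp hg
    refine ⟨k, ?_⟩
    apply Subtype.ext
    simp only [SubmonoidClass.mk_pow, OneMemClass.coe_one]
    rw [← zpow_natCast, ← zpow_mul, mul_comm, zpow_mul, zpow_natCast]
    have : (⟨a, haA⟩ : A₀) ^ q ^ k = 1 := Subtype.ext (by simpa using hk)
    rw [this, one_zpow]
  obtain ⟨P', hP'⟩ := hz.exists_le_sylow
  rw [huniq P'] at hP'
  have haP : (⟨a, haA⟩ : A₀) ∈ (P : Subgroup A₀) := hP' (Subgroup.mem_zpowers _)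
  have haQ : a ∈ Q := ⟨⟨a, haA⟩, haP, rfl⟩
  have := hvfix ⟨a, haQ⟩
  exact this

end Fixed

section Abstract

variable {V : Type*} [Group V] [Finite V]

theorem eq_bot_of_frobenius' (hcomm : ∀ a b : V, a * b = b * a)
    (s : MulAut V) (h4 : s ^ 4 = 1) (hs : Fpf s)
    (A : Subgroup (MulAut V))
    (hinv : ∀ a ∈ A, s * a * s⁻¹ ∈ A)
    (hfrob : ∀ j : ℕ, 0 < j → j < 4 → ∀ a ∈ A, s ^ j * a * (s ^ j)⁻¹ = a → a = 1)
    (hcop : (Nat.card A).Coprime (Nat.card V)) : A = ⊥ := by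
  let _ : CommGroup V := { (inferInstance : Group V) with mul_comm := hcomm }
  exact eq_bot_of_frobenius s h4 hs A hinv hfrob hcop

theorem exists_fixed_of_nilpotent' (hcomm : ∀ a b : V, a * b = b * a)
    (q : ℕ) [Fact q.Prime] (hqV : q ∣ Nat.card V)
    (A₀ : Subgroup (MulAut V)) (hnil : Group.IsNilpotent A₀) :
    ∃ v : V, v ≠ 1 ∧ ∀ a ∈ A₀, (∃ k : ℕ, a ^ (q ^ k) = 1) → a v = v := by
  let _ : CommGroup V := { (inferInstance : Group V) with mul_comm := hcomm }
  exact exists_fixed_of_nilpotent q hqV A₀ hnil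

/-- `s²` centralises every `s`-invariant group `A₀` of automorphisms of coprime odd order on
which `s` acts fixed-point-freely. -/
theorem conj_sq_fix (hcomm : ∀ a b : V, a * b = b * a)
    (s : MulAut V) (hs4 : s ^ 4 = 1) (hsf : Fpf s)
    (A₀ : Subgroup (MulAut V)) (hA₀inv : ∀ a ∈ A₀, s * a * s⁻¹ ∈ A₀)
    (hA₀fpf : ∀ a ∈ A₀, s * a * s⁻¹ = a → a = 1)
    (hA₀odd : Odd (Nat.card A₀)) (hA₀solv : Group.IsSolvable A₀)
    (hcop : (Nat.card A₀).Coprime (Nat.card V)) :
    ∀ a ∈ A₀, s * (s * a * s⁻¹) * s⁻¹ = a := by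
  have hs3 : s⁻¹ = s * s * s := by
    apply inv_eq_of_mul_eq_one_left
    rw [← hs4]; simp [pow_succ, mul_assoc]
  by_contra hcon
  push Not at hcon
  have hΦ : ∀ a, (MulAut.conj s) a = s * a * s⁻¹ := fun a => MulAut.conj_apply s a
  have hΦ4 : (MulAut.conj s) ^ 4 = 1 := by
    rw [← map_pow, hs4, map_one]
  have hPA₀ : A₀ ≤ A₀ ∧ (∀ a ∈ A₀, (MulAut.conj s) a ∈ A₀) ∧
      ∃ a ∈ A₀, (MulAut.conj s) ((MulAut.conj s) a) ≠ a := by
    refine ⟨le_rfl, fun a ha => by rw [hΦ]; exact hA₀inv a ha, ?_⟩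
    obtain ⟨a, ha, hne⟩ := hcon
    exact ⟨a, ha, by rw [hΦ, hΦ]; exact hne⟩
  obtain ⟨A, ⟨hAle, hAinv, hAne⟩, hAmin⟩ := exists_minimal_of_wellFoundedLT
    (fun A : Subgroup (MulAut V) => A ≤ A₀ ∧ (∀ a ∈ A, (MulAut.conj s) a ∈ A) ∧
      ∃ a ∈ A, (MulAut.conj s) ((MulAut.conj s) a) ≠ a) ⟨A₀, hPA₀⟩
  have hAcard : Nat.card A ∣ Nat.card A₀ := Subgroup.card_dvd_of_le hAle
  have hAodd : Odd (Nat.card A) := Odd.of_dvd_nat hA₀odd hAcard
  have hAsolv : Group.IsSolvable A :=
    Group.isSolvable_of_isSolvable_injective (Subgroup.inclusion_injective hAle)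
  have hAfpf : ∀ x ∈ A, (MulAut.conj s) x = x → x = 1 := by
    intro x hx hxx
    rw [hΦ] at hxx
    exact hA₀fpf x (hAle hx) hxx
  have hAmin' : ∀ R₁ : Subgroup (MulAut V), R₁ < A → (∀ x ∈ R₁, (MulAut.conj s) x ∈ R₁) →
      ∀ x ∈ R₁, (MulAut.conj s) ((MulAut.conj s) x) = x := by
    intro R₁ hlt hinv
    by_contra hc
    push Not at hc
    exact absurd (lt_of_lt_of_le hlt (hAmin ⟨hlt.le.trans hAle, hinv, hc⟩ hlt.le)) (lt_irrefl _)
  obtain ⟨hAab, hAτ⟩ := abelian_inverted_of_minimal (MulAut.conj s) hΦ4 A hAodd hAsolv hAinv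
    hAfpf hAmin' hAne
  have hAbot : A = ⊥ := by
    apply eq_bot_of_frobenius' hcomm s hs4 hsf A
    · intro a ha
      rw [← hΦ]; exact hAinv a ha
    · intro j hj0 hj4 a ha hfixa
      have hj : j = 1 ∨ j = 2 ∨ j = 3 := by omega
      rcases hj with rfl | rfl | rfl
      · rw [pow_one] at hfixa
        exact hA₀fpf a (hAle ha) hfixa
      · have h2 : (MulAut.conj s) ((MulAut.conj s) a) = a := by
          rw [hΦ, hΦ]
          have e : s ^ 2 = s * s := pow_two s
          rw [e] at hfixa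
          calc s * (s * a * s⁻¹) * s⁻¹ = s * s * a * (s * s)⁻¹ := by group
            _ = a := hfixa
        rw [hAτ a ha] at h2
        apply eq_one_of_sq_of_odd A hAodd ha
        calc a * a = a * a⁻¹ := by rw [h2]
          _ = 1 := mul_inv_cancel a
      · have h3 : s * a * s⁻¹ = a := by
          have e : s ^ 3 = s⁻¹ := by
            rw [hs3]; simp [pow_succ, mul_assoc]
          rw [e, inv_inv] at hfixa
          calc s * a * s⁻¹ = s * (s⁻¹ * a * s) * s⁻¹ := by rw [hfixa]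
            _ = a := by group
        exact hA₀fpf a (hAle ha) h3
    · exact Nat.Coprime.coprime_dvd_left hAcard hcop
  obtain ⟨a, ha, hane⟩ := hAne
  rw [hAbot, Subgroup.mem_bot] at ha
  apply hane
  rw [ha, map_one, map_one]

end Abstract

section MainCase

variable {G : Type*} [Group G]

/-- Data of the conjugation action on a minimal invariant normal subgroup. -/
theorem not_dvd_card_range [Finite G] (σ : MulAut G) (h4 : σ ^ 4 = 1)
    (V : Subgroup G) [hVn : V.Normal] (hVne : V ≠ ⊥) (hVinv : ∀ x ∈ V, σ x ∈ V)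
    (hVle : ∀ ⦃W : Subgroup G⦄, InvNormal σ W → W ≤ V → V ≤ W)
    (hVab : ∀ a ∈ V, ∀ b ∈ V, a * b = b * a) (q : ℕ) (hq : q.Prime)
    (hVq : ∀ v ∈ V, v ^ q = 1)
    (A₀ : Subgroup (MulAut V)) (hA₀nil : Group.IsNilpotent A₀)
    (hφA₀ : ∀ g : G, (MulAut.conjNormal g : MulAut V) ∈ A₀)
    (hA₀inv' : ∀ a ∈ A₀, (subAut σ h4 V hVinv)⁻¹ * a * (subAut σ h4 V hVinv) ∈ A₀) :
    ¬ q ∣ Nat.card A₀ := by
  classical
  have hqf : Fact q.Prime := ⟨hq⟩
  have hφ : ∀ (g : G) (v : V), (((MulAut.conjNormal g : MulAut V) v : V) : G) = g * v * g⁻¹ :=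
    fun g v => MulAut.conjNormal_apply g v
  have hs : ∀ v : V, ((subAut σ h4 V hVinv v : V) : G) = σ v := fun v => subAut_coe σ h4 V hVinv v
  have hcomm : ∀ a b : V, a * b = b * a := fun a b => Subtype.ext (hVab a a.2 b b.2)
  have hqV : q ∣ Nat.card V := by
    have hp : IsPGroup q V := by
      intro v
      refine ⟨1, ?_⟩
      apply Subtype.ext
      simpa using hVq v v.2
    rcases hp.card_eq_or_dvd with h | h
    · exact absurd ((Subgroup.card_eq_one).mp h) hVne
    · exact h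
  intro hqd
  obtain ⟨v₀, hv₀1, hv₀⟩ := exists_fixed_of_nilpotent' hcomm q hqV A₀ hA₀nil
  let W : Subgroup G :=
    { carrier := {g | ∃ hg : g ∈ V, ∀ a ∈ A₀, (∃ k : ℕ, a ^ (q ^ k) = 1) → a ⟨g, hg⟩ = ⟨g, hg⟩}
      one_mem' := ⟨V.one_mem, fun a _ _ => map_one a⟩
      mul_mem' := by
        rintro x y ⟨hx, hx'⟩ ⟨hy, hy'⟩
        refine ⟨V.mul_mem hx hy, fun a ha hk => ?_⟩
        have : (⟨x * y, V.mul_mem hx hy⟩ : V) = ⟨x, hx⟩ * ⟨y, hy⟩ := rfl
        rw [this, map_mul, hx' a ha hk, hy' a ha hk]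
      inv_mem' := by
        rintro x ⟨hx, hx'⟩
        refine ⟨V.inv_mem hx, fun a ha hk => ?_⟩
        have : (⟨x⁻¹, V.inv_mem hx⟩ : V) = (⟨x, hx⟩ : V)⁻¹ := rfl
        rw [this, map_inv, hx' a ha hk] }
  have hWV : W ≤ V := fun g hg => hg.1
  have hWn : W.Normal := by
    constructor
    rintro w ⟨hw, hw'⟩ g
    refine ⟨hVn.conj_mem w hw g, fun a ha hk => ?_⟩
    obtain ⟨c, hc⟩ : ∃ c : MulAut V, c = MulAut.conjNormal g := ⟨_, rfl⟩
    have hcA : c ∈ A₀ := hc ▸ hφA₀ g
    have e1 : (⟨g * w * g⁻¹, hVn.conj_mem w hw g⟩ : V) = c ⟨w, hw⟩ := by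
      rw [hc]; exact Subtype.ext (hφ g ⟨w, hw⟩).symm
    have ha' : c⁻¹ * a * c ∈ A₀ := A₀.mul_mem (A₀.mul_mem (A₀.inv_mem hcA) ha) hcA
    have hk' : ∃ k : ℕ, (c⁻¹ * a * c) ^ (q ^ k) = 1 := by
      obtain ⟨k, hk⟩ := hk
      refine ⟨k, ?_⟩
      have : c⁻¹ * a * c = c⁻¹ * a * (c⁻¹)⁻¹ := by rw [inv_inv]
      rw [this, conj_pow, hk]; group
    have := hw' _ ha' hk'
    rw [e1]
    have e2 : a (c ⟨w, hw⟩) = c ((c⁻¹ * a * c) ⟨w, hw⟩) := by
      simp [MulAut.mul_apply]
    rw [e2, this]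
  have hWne : W ≠ ⊥ := by
    intro h
    have : (v₀ : G) ∈ W := ⟨v₀.2, fun a ha hk => hv₀ a ha hk⟩
    rw [h, Subgroup.mem_bot] at this
    exact hv₀1 (Subtype.ext this)
  have hWinv : ∀ z ∈ W, σ z ∈ W := by
    rintro w ⟨hw, hw'⟩
    refine ⟨hVinv w hw, fun a ha hk => ?_⟩
    obtain ⟨c, hc⟩ : ∃ c : MulAut V, c = subAut σ h4 V hVinv := ⟨_, rfl⟩
    have e1 : (⟨σ w, hVinv w hw⟩ : V) = c ⟨w, hw⟩ := by
      rw [hc]; exact Subtype.ext (hs ⟨w, hw⟩).symm
    have ha' : c⁻¹ * a * c ∈ A₀ := by rw [hc]; exact hA₀inv' a ha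
    have hk' : ∃ k : ℕ, (c⁻¹ * a * c) ^ (q ^ k) = 1 := by
      obtain ⟨k, hk⟩ := hk
      refine ⟨k, ?_⟩
      have : c⁻¹ * a * c = c⁻¹ * a * (c⁻¹)⁻¹ := by rw [inv_inv]
      rw [this, conj_pow, hk]; group
    have := hw' _ ha' hk'
    rw [e1]
    have e2 : a (c ⟨w, hw⟩) = c ((c⁻¹ * a * c) ⟨w, hw⟩) := by
      simp [MulAut.mul_apply]
    rw [e2, this]
  have hVW : V ≤ W := hVle ⟨hWn, hWne, hWinv⟩ hWV
  obtain ⟨x, hx⟩ := exists_prime_orderOf_dvd_card' (G := A₀) q hqd
  have hx1 : (x : MulAut V) = 1 := by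
    ext v
    obtain ⟨_, hv'⟩ := hVW v.2
    have := hv' x x.2 ⟨1, by
      have : x ^ q = 1 := by rw [← hx]; exact pow_orderOf_eq_one x
      have := congrArg Subtype.val this
      simpa using this⟩
    simpa using congrArg Subtype.val this
  have : x = 1 := Subtype.ext hx1
  rw [this, orderOf_one] at hx
  exact hq.one_lt.ne hx

/-- The main case: `G/V` nilpotent for a minimal invariant normal subgroup `V`. -/
theorem TT_isNilpotent_of_quotient_nilpotent [Finite G] (_hsolv : Group.IsSolvable G)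
    (σ : MulAut G) (h4 : σ ^ 4 = 1)
    (hf : Fpf σ) (V : Subgroup G) (hVmin : Minimal (InvNormal σ) V) [V.Normal]
    (hVab : ∀ a ∈ V, ∀ b ∈ V, a * b = b * a) (q : ℕ) (hq : q.Prime)
    (hVq : ∀ v ∈ V, v ^ q = 1) (hnil : Group.IsNilpotent (G ⧸ V)) :
    Group.IsNilpotent (TT σ) := by
  classical
  have hoddG : Odd (Nat.card G) := odd_card_of_fpf hf h4
  obtain ⟨⟨_, hVne, hVinv⟩, hVle⟩ := hVmin
  have hcomm : ∀ a b : V, a * b = b * a := fun a b => Subtype.ext (hVab a a.2 b b.2)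
  obtain ⟨φ, hφdef⟩ : ∃ φ : G →* MulAut V, φ = MulAut.conjNormal := ⟨_, rfl⟩
  have hφ : ∀ (g : G) (v : V), ((φ g v : V) : G) = g * v * g⁻¹ := fun g v => by
    rw [hφdef]; exact MulAut.conjNormal_apply g v
  obtain ⟨s, hsdef⟩ : ∃ s : MulAut V, s = subAut σ h4 V hVinv := ⟨_, rfl⟩
  have hs : ∀ v : V, ((s v : V) : G) = σ v := fun v => by
    rw [hsdef]; exact subAut_coe σ h4 V hVinv v
  have hs4 : s ^ 4 = 1 := by rw [hsdef]; exact subAut_pow4 σ h4 V hVinv
  have hsf : Fpf s := by rw [hsdef]; exact subAut_fpf σ h4 hf V hVinv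
  have hs3 : s⁻¹ = s * s * s := by
    apply inv_eq_of_mul_eq_one_left
    rw [← hs4]; simp [pow_succ, mul_assoc]
  have hφσ : ∀ g, s * φ g * s⁻¹ = φ (σ g) := by
    intro g
    ext v
    simp only [MulAut.mul_apply]
    rw [hs, hφ, hφ, map_mul, map_mul, map_inv, ← hs, MulAut.apply_inv_self]
  have hφV : ∀ v ∈ V, φ v = 1 := by
    intro v hv
    ext w
    rw [hφ, MulAut.one_apply]
    rw [hVab v hv w w.2]; group
  obtain ⟨ψ, hψ⟩ : ∃ ψ : G ⧸ V →* MulAut V, ∀ g : G, ψ (QuotientGroup.mk g) = φ g :=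
    ⟨QuotientGroup.lift V φ hφV, fun g => rfl⟩
  obtain ⟨A₀, hA₀def⟩ : ∃ A₀ : Subgroup (MulAut V), A₀ = ψ.range := ⟨_, rfl⟩
  have hφA₀ : ∀ g, φ g ∈ A₀ := fun g => by
    rw [hA₀def]; exact ⟨QuotientGroup.mk g, hψ g⟩
  have hA₀rep : ∀ a ∈ A₀, ∃ g, φ g = a := by
    intro a ha
    rw [hA₀def] at ha
    obtain ⟨x, rfl⟩ := ha
    induction x using QuotientGroup.induction_on with
    | H g => exact ⟨g, (hψ g).symm⟩
  have hA₀nil : Group.IsNilpotent A₀ := by
    rw [hA₀def]
    exact Group.nilpotent_of_surjective ψ.rangeRestrict ψ.rangeRestrict_surjective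
  have hA₀inv : ∀ a ∈ A₀, s * a * s⁻¹ ∈ A₀ := by
    intro a ha
    obtain ⟨g, rfl⟩ := hA₀rep a ha
    rw [hφσ]; exact hφA₀ _
  have hA₀inv' : ∀ a ∈ A₀, s⁻¹ * a * s ∈ A₀ := by
    intro a ha
    have h3 := hA₀inv _ (hA₀inv _ (hA₀inv a ha))
    have : s * (s * (s * a * s⁻¹) * s⁻¹) * s⁻¹ = s⁻¹ * a * s := by
      have e : (s * s * s) * a * (s * s * s)⁻¹ = s⁻¹ * a * s := by
        rw [← hs3, inv_inv]
      rw [← e]; group
    rwa [this] at h3
  have hker_inv : ∀ c ∈ φ.ker, σ c ∈ φ.ker := by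
    intro c hc
    rw [MonoidHom.mem_ker] at hc ⊢
    rw [← hφσ, hc]; group
  have hA₀fpf : ∀ a ∈ A₀, s * a * s⁻¹ = a → a = 1 := by
    intro a ha hfix
    obtain ⟨g, rfl⟩ := hA₀rep a ha
    rw [hφσ] at hfix
    have h1 : g⁻¹ * σ g ∈ φ.ker := by
      rw [MonoidHom.mem_ker, map_mul, map_inv, hfix, inv_mul_cancel]
    exact hf.mem_of_inv_mul_mem φ.ker hker_inv h1
  have hA₀card : Nat.card A₀ ∣ Nat.card G := by
    have h1 : Nat.card A₀ ∣ Nat.card (G ⧸ V) := by
      rw [hA₀def]; exact Subgroup.card_range_dvd ψ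
    have h2 : Nat.card (G ⧸ V) ∣ Nat.card G := by
      rw [← Subgroup.index_eq_card]; exact Subgroup.index_dvd_card V
    exact h1.trans h2
  have hA₀odd : Odd (Nat.card A₀) := Odd.of_dvd_nat hoddG hA₀card
  have hA₀solv : Group.IsSolvable A₀ := inferInstance
  have hqA₀ : ¬ q ∣ Nat.card A₀ := by
    apply not_dvd_card_range σ h4 V hVne hVinv hVle hVab q hq hVq A₀ hA₀nil
    · intro g; rw [← hφdef]; exact hφA₀ g
    · intro a ha; rw [← hsdef]; exact hA₀inv' a ha
  have hcop : (Nat.card A₀).Coprime (Nat.card V) := by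
    have hp : IsPGroup q V := by
      intro v
      refine ⟨1, ?_⟩
      apply Subtype.ext
      simpa using hVq v v.2
    have : Fact q.Prime := ⟨hq⟩
    obtain ⟨k, hk⟩ := IsPGroup.iff_card.mp hp
    rw [hk]
    apply Nat.Coprime.pow_right
    apply Nat.Coprime.symm
    rw [Nat.Prime.coprime_iff_not_dvd hq]
    exact hqA₀
  have hfix : ∀ a ∈ A₀, s * (s * a * s⁻¹) * s⁻¹ = a :=
    conj_sq_fix hcomm s hs4 hsf A₀ hA₀inv hA₀fpf hA₀odd hA₀solv hcop
  -- T centralises V
  have hTker : TT σ ≤ φ.ker := by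
    unfold TT
    rw [Subgroup.closure_le]
    rintro _ ⟨g, rfl⟩
    show g⁻¹ * σ (σ g) ∈ φ.ker
    rw [MonoidHom.mem_ker, map_mul, map_inv, ← hφσ, ← hφσ, hfix _ (hφA₀ g), inv_mul_cancel]
  let f : TT σ →* G ⧸ V := (QuotientGroup.mk' V).comp (TT σ).subtype
  apply Subgroup.isNilpotent_of_ker_le_center f
  intro t ht
  rw [MonoidHom.mem_ker] at ht
  have htV : (t : G) ∈ V := by
    have : (QuotientGroup.mk' V) (t : G) = 1 := ht
    rwa [QuotientGroup.mk'_apply, QuotientGroup.eq_one_iff] at this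
  rw [Subgroup.mem_center_iff]
  intro t'
  have h1 : φ (t' : G) = 1 := hTker t'.2
  have h2 : ((φ (t' : G) ⟨(t : G), htV⟩ : V) : G) = t := by rw [h1]; rfl
  rw [hφ] at h2
  apply Subtype.ext
  simp only [Subgroup.coe_mul]
  calc (t' : G) * t = ((t' : G) * t * (t' : G)⁻¹) * t' := by group
    _ = (t : G) * t' := by rw [h2]

end MainCase

section Main

universe u

/-- `[G, σ²]` is nilpotent. -/
theorem TT_isNilpotent : ∀ (n : ℕ) (G : Type u) [Group G] [Finite G] (σ : MulAut G),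
    Nat.card G = n → Group.IsSolvable G → σ ^ 4 = 1 → Fpf σ → Group.IsNilpotent (TT σ) := by
  intro n
  induction n using Nat.strong_induction_on with
  | _ n ih =>
  intro G _ _ σ hcard hsolv h4 hf
  rcases subsingleton_or_nontrivial G with hsub | hnt
  · exact Group.isNilpotent_of_subsingleton
  have hoddG : Odd (Nat.card G) := odd_card_of_fpf hf h4
  have hoddx : ∀ x : G, Odd (orderOf x) := fun x =>
    Odd.of_dvd_nat hoddG (orderOf_dvd_natCard x)
  obtain ⟨V, hVmin⟩ := exists_min_invariant σ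
  obtain ⟨hVab, q, hq, hVq⟩ := min_invariant_abelian hsolv σ V hVmin
  have hVn : V.Normal := hVmin.1.1
  have hVne : V ≠ ⊥ := hVmin.1.2.1
  have hVinv : ∀ x ∈ V, σ x ∈ V := hVmin.1.2.2
  -- the quotient
  have hcardQ : Nat.card (G ⧸ V) < n := by
    rw [← hcard, ← Subgroup.index_eq_card, ← Subgroup.index_mul_card V]
    have h1 : 1 < Nat.card V := by
      rw [Subgroup.one_lt_card_iff_ne_bot]; exact hVne
    have h2 : 0 < V.index := Nat.pos_of_ne_zero Subgroup.index_ne_zero_of_finite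
    nlinarith
  have hTbar : Group.IsNilpotent (TT (quotAut σ h4 V hVinv)) :=
    ih _ hcardQ (G ⧸ V) (quotAut σ h4 V hVinv) rfl inferInstance (quotAut_pow4 σ h4 V hVinv)
      (quotAut_fpf σ h4 hf V hVinv)
  have hmapT : (TT σ).map (QuotientGroup.mk' V) = TT (quotAut σ h4 V hVinv) :=
    TT_map σ (quotAut σ h4 V hVinv) (QuotientGroup.mk' V) (QuotientGroup.mk'_surjective V)
      (fun g => quotAut_mk σ h4 V hVinv g)
  by_cases hM : TT σ ⊔ V = ⊤
  · -- main case : G ⧸ V is nilpotent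
    have htop : TT (quotAut σ h4 V hVinv) = ⊤ := by
      rw [← hmapT]
      have h1 : (TT σ ⊔ V).map (QuotientGroup.mk' V) = (TT σ).map (QuotientGroup.mk' V) := by
        rw [Subgroup.map_sup, QuotientGroup.map_mk'_self, sup_bot_eq]
      rw [← h1, hM, ← MonoidHom.range_eq_map, MonoidHom.range_eq_top]
      exact QuotientGroup.mk'_surjective V
    have hnil : Group.IsNilpotent (G ⧸ V) := by
      rw [htop] at hTbar
      exact Group.nilpotent_of_mulEquiv Subgroup.topEquiv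
    exact TT_isNilpotent_of_quotient_nilpotent hsolv σ h4 hf V hVmin hVab q hq hVq hnil
  · -- proper invariant subgroup
    have hMinv : ∀ x ∈ TT σ ⊔ V, σ x ∈ TT σ ⊔ V := by
      intro x hx
      have h1 : σ x ∈ (TT σ ⊔ V).map σ.toMonoidHom := ⟨x, hx, rfl⟩
      rw [Subgroup.map_sup] at h1
      have h2 : (TT σ).map σ.toMonoidHom ≤ TT σ := by
        rintro _ ⟨y, hy, rfl⟩; exact TT_invariant σ y hy
      have h3 : V.map σ.toMonoidHom ≤ V := by
        rintro _ ⟨y, hy, rfl⟩; exact hVinv y hy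
      exact sup_le_sup h2 h3 h1
    have hcardM : Nat.card (TT σ ⊔ V : Subgroup G) < n := by
      rw [← hcard]
      exact lt_of_le_of_ne (Subgroup.card_le_card_group _)
        (fun h => hM ((Subgroup.card_eq_iff_eq_top _).mp h))
    have hTM : Group.IsNilpotent (TT (subAut σ h4 (TT σ ⊔ V) hMinv)) :=
      ih _ hcardM (TT σ ⊔ V : Subgroup G) (subAut σ h4 (TT σ ⊔ V) hMinv) rfl inferInstance
        (subAut_pow4 σ h4 _ hMinv) (subAut_fpf σ h4 hf _ hMinv)
    have hle := TT_le_map_of_le σ h4 (TT σ ⊔ V) (subAut σ h4 (TT σ ⊔ V) hMinv)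
      (fun m => subAut_coe σ h4 _ hMinv m) le_sup_left hoddx
    have hmapnil : Group.IsNilpotent
        ((TT (subAut σ h4 (TT σ ⊔ V) hMinv)).map (TT σ ⊔ V : Subgroup G).subtype) :=
      Group.nilpotent_of_mulEquiv
        (Subgroup.equivMapOfInjective _ _ (Subgroup.subtype_injective _))
    exact isNilpotent_of_le hle hmapnil

/-- **Gorenstein–Herstein.** A finite solvable group with a fixed-point-free automorphism `σ`
with `σ ^ 4 = 1` has nilpotent derived subgroup. -/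
theorem commutator_isNilpotent {G : Type u} [Group G] [Finite G] (hG : Group.IsSolvable G)
    (σ : MulAut G) (hσ : σ ^ 4 = 1) (hfpf : ∀ g : G, σ g = g → g = 1) :
    Group.IsNilpotent (commutator G) := by
  have hT : Group.IsNilpotent (TT σ) := TT_isNilpotent _ G σ rfl hG hσ hfpf
  have hTinv : ∀ x ∈ TT σ, σ x ∈ TT σ := TT_invariant σ
  -- the quotient by T is abelian
  have hoddG : Odd (Nat.card G) := odd_card_of_fpf hfpf hσ
  have hfq : Fpf (quotAut σ hσ (TT σ) hTinv) := quotAut_fpf σ hσ hfpf (TT σ) hTinv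
  have hτ : ∀ x : G ⧸ TT σ, quotAut σ hσ (TT σ) hTinv (quotAut σ hσ (TT σ) hTinv x) = x := by
    intro x
    induction x using QuotientGroup.induction_on with
    | H g =>
      rw [quotAut_mk, quotAut_mk, eq_comm, QuotientGroup.eq]
      exact gen_mem_TT σ g
  have hinvq : ∀ x : G ⧸ TT σ, quotAut σ hσ (TT σ) hTinv x = x⁻¹ := by
    intro x
    obtain ⟨y, hy⟩ := (Finite.injective_iff_surjective.mp hfq.injective) x
    simp only at hy
    rw [← hy, map_mul, map_inv, hτ, mul_inv_rev, inv_inv]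
  have hcomm : IsMulCommutative (G ⧸ TT σ) := by
    constructor
    constructor
    intro a b
    have h1 := hinvq (a * b)
    rw [map_mul, hinvq, hinvq, mul_inv_rev] at h1
    have h2 := congrArg (fun z => z⁻¹) h1
    have h3 : b * a = a * b := by simpa using h2
    exact h3.symm
  have hle : commutator G ≤ TT σ :=
    Subgroup.Normal.quotient_commutative_iff_commutator_le.mp hcomm
  exact isNilpotent_of_le hle hT

end Main

end Cfsg.Agent.Lib.Helper64_Fpf4
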