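import Mathlib
import Cfsg.Agent.Lib.Helper71_ModRep
import Cfsg.Agent.Lib.Helper71_ESFpf
import Cfsg.Agent.Lib.Helper64_ShultCore

/-!
# Shult's theorem for a `q`-group acting on an elementary abelian `r`-group (helper64)

`shult_elementary`: `V` a finite elementary abelian `r`-group, `τ` an automorphism of `V` of odd
prime power order dividing `p ^ (n+1)` without non-trivial fixed points, `Q` a `q`-subgroup of
`Aut V` (`q ≠ r`) normalised by `τ` such that `τ` centralises no non-identity element of `Q`.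
Then `τ ^ p ^ n` centralises `Q`.
-/

set_option autoImplicit false
set_option linter.unusedSectionVars false

namespace Cfsg.Agent.Lib.Helper64_ShultElem

open Module Cfsg.Agent.Lib.Helper71_ModRep Cfsg.Agent.Lib.Helper71_ESFpf
  Cfsg.Agent.Lib.Helper64_ShultCore

universe u

theorem shult_elementary {p q r : ℕ} [Fact p.Prime] [Fact q.Prime] [Fact r.Prime] (hp2 : p ≠ 2)
    (hpq : p ≠ q) (hpr : p ≠ r) (hqr : q ≠ r)
    {V : Type u} [CommGroup V] [Finite V] (hV : ∀ v : V, v ^ r = 1)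
    (τ : MulAut V) (n : ℕ) (hτ : τ ^ p ^ (n + 1) = 1) (hfixV : ∀ v, τ v = v → v = 1)
    (Q : Subgroup (MulAut V)) (hQ : IsPGroup q Q) (hτQ : ∀ g ∈ Q, τ * g * τ⁻¹ ∈ Q)
    (hfixQ : ∀ g ∈ Q, τ * g * τ⁻¹ = g → g = 1) :
    ∀ g ∈ Q, τ ^ p ^ n * g * (τ ^ p ^ n)⁻¹ = g := by
  classical
  have hp : p.Prime := Fact.out
  have hq : q.Prime := Fact.out
  have hr : r.Prime := Fact.out
  obtain ⟨W, _, _, _, Φ, hΦfix, hΦinj⟩ := exists_rep r hV
  let K := AlgebraicClosure (ZMod r)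
  let Ψ : MulAut V →* (W ≃ₗ[K] W) :=
    (LinearMap.GeneralLinearGroup.generalLinearEquiv K W).toMonoidHom.comp Φ.toHomUnits
  have hΨa : ∀ (f : MulAut V) (w : W), Ψ f w = Φ f w := fun f w => rfl
  have hΨinj : Function.Injective Ψ := by
    rw [injective_iff_map_eq_one]
    intro f hf
    apply hΦinj
    ext w
    rw [← hΨa, hf]
    rfl
  by_contra hcon
  push Not at hcon
  obtain ⟨g₀, hg₀Q, hg₀⟩ := hcon
  have hpK : (p : K) ≠ 0 := by
    have := natCast_ne_zero_of_not_dvd r p (fun h => hpr ((Nat.prime_dvd_prime_iff_eq hr hp).1 h).symm)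
    exact this
  have hqK : (q : K) ≠ 0 := by
    have := natCast_ne_zero_of_not_dvd r q (fun h => hqr ((Nat.prime_dvd_prime_iff_eq hr hq).1 h).symm)
    exact this
  have hx : (Ψ τ) ^ p ^ (n + 1) = 1 := by rw [← map_pow, hτ, map_one]
  have hfinA : Finite (MulAut V) := Finite.of_injective (fun f : MulAut V => (f : V → V))
    (fun f g h => MulEquiv.ext (fun v => congrFun h v))
  have hfinQ0 : Finite Q := inferInstance
  have hfinQ : Finite (Q.map Ψ) :=
    Finite.of_surjective (fun g : Q => (⟨Ψ g, ⟨g, g.2, rfl⟩⟩ : Q.map Ψ))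
      (by rintro ⟨_, ⟨g, hg, rfl⟩⟩; exact ⟨⟨g, hg⟩, rfl⟩)
  have hnorm : ∀ g ∈ Q.map Ψ, Ψ τ * g * (Ψ τ)⁻¹ ∈ Q.map Ψ := by
    rintro _ ⟨g, hg, rfl⟩
    refine ⟨τ * g * τ⁻¹, hτQ g hg, ?_⟩
    rw [map_mul, map_mul, map_inv]
  have hy : ∃ g ∈ Q.map Ψ, ¬ Commute ((Ψ τ) ^ p ^ n) g := by
    refine ⟨Ψ g₀, ⟨g₀, hg₀Q, rfl⟩, ?_⟩
    intro hc
    apply hg₀
    apply hΨinj
    rw [map_mul, map_mul, map_inv, map_pow, hc.eq]
    group
  rcases shult_core p q hpq hp2 hpK hqK n (Ψ τ) hx (Q.map Ψ) (hQ.map Ψ) hnorm hy with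
    ⟨v, hv0, hv⟩ | ⟨c, ⟨g, hgQ, rfl⟩, hc1, hcfix⟩
  · apply hv0
    apply hΦfix τ hfixV
    rw [← hΨa]
    exact hv
  · apply hc1
    have : g = 1 := by
      apply hfixQ g hgQ
      apply hΨinj
      rw [map_mul, map_mul, map_inv]
      exact hcfix
    rw [this, map_one]

end Cfsg.Agent.Lib.Helper64_ShultElem
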