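import Mathlib
import Cfsg.Prelude.Def_Solvable
import Cfsg.Agent.Lib.Helper1_Cores
import Cfsg.Agent.S0552
import Cfsg.Agent.Lib.Helper71_HHBGroup
import Cfsg.Agent.Lib.Helper64_ShultElem
import Cfsg.Agent.Lib.Helper64_ShultAut

/-!
# Shult's theorem for a solvable group acting irreducibly (helper64)

`shult_irreducible`: `V` a finite elementary abelian `r`-group, `τ` an automorphism of `V` of odd
prime power order dividing `p ^ (n+1)` without non-trivial fixed points, `H` a solvable subgroup of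
`Aut V` normalised by `τ` such that `τ` centralises no non-identity element of `H` and such that
`V` has no proper non-trivial `⟨H, τ⟩`-invariant subgroup.  Then `τ ^ p ^ n` centralises `H`.
-/

set_option autoImplicit false
set_option linter.unusedSectionVars false

namespace Cfsg.Agent.Lib.Helper64_ShultIrr

open Cfsg.Agent.Lib.Helper71_HHBGroup Cfsg.Agent.Lib.Helper64_ShultElem
  Cfsg.Agent.Lib.Helper64_ShultAut Cfsg.Agent.Lib.Helper1_Cores

universe u

theorem shult_irreducible {p r : ℕ} [Fact p.Prime] [Fact r.Prime] (hp2 : p ≠ 2)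
    {V : Type u} [CommGroup V] [Finite V] (hV : ∀ v : V, v ^ r = 1)
    (τ : MulAut V) (n : ℕ) (hτ : τ ^ p ^ (n + 1) = 1) (hfixV : ∀ v, τ v = v → v = 1)
    (H : Subgroup (MulAut V)) (hsol : Group.IsSolvable H) (hτH : ∀ h ∈ H, τ * h * τ⁻¹ ∈ H)
    (hfixH : ∀ h ∈ H, τ * h * τ⁻¹ = h → h = 1)
    (hirr : ∀ V₀ : Subgroup V, (∀ h ∈ H, ∀ v ∈ V₀, h v ∈ V₀) → (∀ v ∈ V₀, τ v ∈ V₀) →
      V₀ = ⊥ ∨ V₀ = ⊤) :
    ∀ h ∈ H, τ ^ p ^ n * h * (τ ^ p ^ n)⁻¹ = h := by
  classical
  have hp : p.Prime := Fact.out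
  have hr : r.Prime := Fact.out
  have hfinA : Finite (MulAut V) := Finite.of_injective (fun f : MulAut V => (f : V → V))
    (fun f g h => MulEquiv.ext (fun v => congrFun h v))
  have hfinH : Finite H := inferInstance
  by_cases hVs : Subsingleton V
  · intro h _
    ext v
    exact Subsingleton.elim _ _
  rw [not_subsingleton_iff_nontrivial] at hVs
  have hpV : ¬ p ∣ Nat.card V := not_dvd_card_of_fpf p τ (n + 1) hτ hfixV
  have hrV : r ∣ Nat.card V := by
    obtain ⟨v, hv⟩ := exists_ne (1 : V)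
    have h1 : orderOf v ∣ r := orderOf_dvd_of_pow_eq_one (hV v)
    rcases (Nat.dvd_prime hr).1 h1 with h2 | h2
    · exact absurd (orderOf_eq_one_iff.1 h2) hv
    · rw [← h2]
      exact orderOf_dvd_natCard v
  have hpr : p ≠ r := by
    rintro rfl
    exact hpV hrV
  -- the automorphism `α` of `H`
  have hτH' := inv_conj_mem_of_finite H τ hτH
  obtain ⟨α, hα⟩ : ∃ α : MulAut H, α = conjAut H τ hτH hτH' := ⟨_, rfl⟩
  have hαa : ∀ h : H, ((α h : H) : MulAut V) = τ * h * τ⁻¹ := by
    intro h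
    rw [hα]
    rfl
  have hαpow : ∀ (j : ℕ) (h : H), (((α ^ j) h : H) : MulAut V) = τ ^ j * h * (τ ^ j)⁻¹ := by
    intro j h
    rw [hα]
    exact conjAut_pow_apply H τ hτH hτH' j h
  have hαp : α ^ p ^ (n + 1) = 1 := by
    ext h
    rw [hαpow, hτ]
    simp
  have hαfix : ∀ h, α h = h → h = 1 := by
    intro h hh
    apply Subtype.ext
    apply hfixH h h.2
    rw [← hαa, hh]
  have hpH : ¬ p ∣ Nat.card H := not_dvd_card_of_fpf p α (n + 1) hαp hαfix
  -- `O_r(H) = 1`
  have hR : Cfsg.pCore r H = ⊥ := by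
    obtain ⟨R, hRdef⟩ : ∃ R : Subgroup H, R = Cfsg.pCore r H := ⟨_, rfl⟩
    rw [← hRdef]
    have hRn : R.Normal := by rw [hRdef]; exact pCore_normal (G := H) r
    have hRp : IsPGroup r R := by rw [hRdef]; exact pCore_isPGroup r
    have hRα : ∀ h ∈ R, α⁻¹ h ∈ R := by
      intro h hh
      rw [hRdef] at hh ⊢
      exact pCore_map_le r (α⁻¹ : MulAut H) ⟨h, hh, rfl⟩
    let V₀ : Subgroup V :=
      { carrier := {v | ∀ h ∈ R, ((h : H) : MulAut V) v = v}
        one_mem' := fun h _ => map_one _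
        mul_mem' := by
          intro a b ha hb h hh
          rw [map_mul, ha h hh, hb h hh]
        inv_mem' := by
          intro a ha h hh
          rw [map_inv, ha h hh] }
    have hV₀H : ∀ g ∈ H, ∀ v ∈ V₀, g v ∈ V₀ := by
      intro g hg v hv h hh
      have h1 : (⟨g, hg⟩ : H)⁻¹ * h * (⟨g, hg⟩ : H) ∈ R := by
        have := hRn.conj_mem h hh (⟨g, hg⟩ : H)⁻¹
        simpa using this
      have h2 := hv _ h1
      have h3 : ((h : H) : MulAut V) (g v) = g ((g⁻¹ * (h : MulAut V) * g) v) := by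
        simp [MulAut.mul_apply]
      rw [h3]
      have h4 : ((((⟨g, hg⟩ : H)⁻¹ * h * (⟨g, hg⟩ : H) : H)) : MulAut V) = g⁻¹ * (h : MulAut V) * g := rfl
      rw [← h4, h2]
    have hV₀τ : ∀ v ∈ V₀, τ v ∈ V₀ := by
      intro v hv h hh
      have h1 := hv _ (hRα h hh)
      have h2 : ((h : H) : MulAut V) = τ * ((α⁻¹ h : H) : MulAut V) * τ⁻¹ := by
        rw [← hαa]
        congr 1
        show h = α (α⁻¹ h)
        rw [← MulAut.mul_apply, mul_inv_cancel]
        rfl
      rw [h2]
      simp only [MulAut.mul_apply]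
      have h3 : τ⁻¹ (τ v) = v := by
        rw [← MulAut.mul_apply, inv_mul_cancel]
        rfl
      rw [h3, h1]
    have hV₀ne : V₀ ≠ ⊥ := by
      let _ : MulAction R V := MulAction.compHom V (H.subtype.comp R.subtype)
      have h1 := hRp.card_modEq_card_fixedPoints V
      have h2 : Nat.card (MulAction.fixedPoints R V) ≡ 0 [MOD r] :=
        h1.symm.trans ((Nat.modEq_zero_iff_dvd).2 hrV)
      have h3 : r ∣ Nat.card (MulAction.fixedPoints R V) := (Nat.modEq_zero_iff_dvd).1 h2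
      have h4 : Nat.card (MulAction.fixedPoints R V) ≠ 1 := by
        intro h
        rw [h] at h3
        exact hr.one_lt.ne' (Nat.dvd_one.1 h3)
      have h5 : Nat.card (MulAction.fixedPoints R V) ≠ 0 := by
        have : Nonempty (MulAction.fixedPoints R V) :=
          ⟨⟨1, fun h => map_one ((h : H) : MulAut V)⟩⟩
        exact Nat.card_pos.ne'
      have h6 : 1 < Nat.card (MulAction.fixedPoints R V) := by omega
      rw [Finite.one_lt_card_iff_nontrivial] at h6
      obtain ⟨⟨a, ha⟩, ⟨b, hb⟩, hab⟩ := h6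
      have hmem : ∀ c ∈ MulAction.fixedPoints R V, c ∈ V₀ := by
        intro c hc h hh
        exact hc ⟨h, hh⟩
      intro h0
      apply hab
      have ha' := hmem a ha
      have hb' := hmem b hb
      rw [h0, Subgroup.mem_bot] at ha' hb'
      apply Subtype.ext
      show a = b
      rw [ha', hb']
    rcases hirr V₀ hV₀H hV₀τ with h | h
    · exact absurd h hV₀ne
    · rw [eq_bot_iff]
      intro x hx
      rw [Subgroup.mem_bot]
      apply Subtype.ext
      ext v
      have : v ∈ V₀ := by rw [h]; trivial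
      exact this x hx
  by_contra hcon
  push Not at hcon
  obtain ⟨h₀, hh₀H, hh₀⟩ := hcon
  obtain ⟨β, hβ⟩ : ∃ β : MulAut H, β = α ^ p ^ n := ⟨_, rfl⟩
  have hβne : β ≠ MulEquiv.refl H := by
    intro h
    apply hh₀
    have h1 := congrArg (fun f : MulAut H => ((f ⟨h₀, hh₀H⟩ : H) : MulAut V)) h
    simp only [hβ, hαpow] at h1
    exact h1
  have hβp : β ^ p = 1 := by rw [hβ, ← pow_mul, ← pow_succ, hαp]
  have hcop : (orderOf β).Coprime (Nat.card H) := by
    have h1 : orderOf β ∣ p := orderOf_dvd_of_pow_eq_one hβp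
    rcases (Nat.dvd_prime hp).1 h1 with h2 | h2
    · rw [h2]
      exact Nat.coprime_one_left _
    · rw [h2]
      exact (Nat.Prime.coprime_iff_not_dvd hp).2 hpH
  have hex : ∃ x ∈ Cfsg.fittingSubgroup H, β x ≠ x := by
    by_contra hall
    push Not at hall
    exact Cfsg.Agent.S0552.result β hall hβne hcop
  obtain ⟨x, hxF, hxβ⟩ := hex
  let Fix : Subgroup H :=
    { carrier := {h | β h = h}
      one_mem' := map_one β
      mul_mem' := by
        intro a b ha hb
        show β (a * b) = a * b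
        rw [map_mul, ha, hb]
      inv_mem' := by
        intro a ha
        show β a⁻¹ = a⁻¹
        rw [map_inv, ha] }
  have hexq : ∃ q : Nat.Primes, ¬ (Cfsg.pCore (q : ℕ) H ≤ Fix) := by
    by_contra hall
    push Not at hall
    apply hxβ
    have : Cfsg.fittingSubgroup H ≤ Fix := by
      rw [fittingSubgroup_eq_iSup_pCore]
      exact iSup_le hall
    exact this hxF
  obtain ⟨⟨q, hq⟩, hqFix⟩ := hexq
  have : Fact q.Prime := ⟨hq⟩
  obtain ⟨z, hzQ, hzFix⟩ : ∃ z ∈ Cfsg.pCore q H, z ∉ Fix := SetLike.not_le_iff_exists.1 hqFix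
  have hz1 : z ≠ 1 := by
    intro h
    apply hzFix
    rw [h]
    exact Fix.one_mem
  have hqr : q ≠ r := by
    rintro rfl
    rw [hR, Subgroup.mem_bot] at hzQ
    exact hz1 hzQ
  have hqH : q ∣ Nat.card H := by
    obtain ⟨k, hk⟩ := (pCore_isPGroup (G := H) q) ⟨z, hzQ⟩
    have h1 : z ^ q ^ k = 1 := by
      have := congrArg Subtype.val hk
      simpa using this
    have h2 : orderOf z ∣ q ^ k := orderOf_dvd_of_pow_eq_one h1
    obtain ⟨j, _, hj⟩ := (Nat.dvd_prime_pow hq).1 h2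
    have hj0 : j ≠ 0 := by
      intro h0
      rw [h0, pow_zero] at hj
      exact hz1 (orderOf_eq_one_iff.1 hj)
    have h3 : q ∣ orderOf z := by
      rw [hj]
      exact dvd_pow_self q hj0
    exact h3.trans (orderOf_dvd_natCard z)
  have hpq : p ≠ q := by
    rintro rfl
    exact hpH hqH
  let Q' : Subgroup (MulAut V) := (Cfsg.pCore q H).map H.subtype
  have hQ' : IsPGroup q Q' := (pCore_isPGroup q).map H.subtype
  have hτQ' : ∀ g ∈ Q', τ * g * τ⁻¹ ∈ Q' := by
    rintro _ ⟨y, hy, rfl⟩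
    refine ⟨α y, ?_, hαa y⟩
    exact pCore_map_le q α ⟨y, hy, rfl⟩
  have hfixQ' : ∀ g ∈ Q', τ * g * τ⁻¹ = g → g = 1 := by
    rintro _ ⟨y, _, rfl⟩ h
    exact hfixH _ y.2 h
  have key := shult_elementary hp2 hpq hpr hqr hV τ n hτ hfixV Q' hQ' hτQ' hfixQ' z
    ⟨z, hzQ, rfl⟩
  apply hzFix
  show β z = z
  apply Subtype.ext
  rw [hβ, hαpow]
  exact key

end Cfsg.Agent.Lib.Helper64_ShultIrr
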