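import Mathlib
import Cfsg.Prelude.Def_Solvable
import Cfsg.Agent.Lib.Helper1_Cores
import Cfsg.Agent.Lib.Helper64_ShultGrp
import Cfsg.Agent.Lib.Helper64_ShultAut
import Cfsg.Agent.Lib.Helper64_ShultIrr

/-!
# Shult's Theorem A (helper64)

`shult_theoremA`: a fixed-point-free automorphism `σ` of a finite solvable group `G` with
`σ ^ p ^ (n+1) = 1` (`p` an odd prime): `σ ^ p ^ n` acts trivially on `G / F(G)`.
-/

set_option autoImplicit false
set_option linter.unusedSectionVars false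
set_option maxHeartbeats 1000000

namespace Cfsg.Agent.Lib.Helper64_ShultA

open Cfsg.Agent.Lib.Helper64_ShultGrp Cfsg.Agent.Lib.Helper64_ShultAut
  Cfsg.Agent.Lib.Helper64_ShultIrr Cfsg.Agent.Lib.Helper1_Cores

universe u

open scoped IsMulCommutative in
/-- the centraliser claim: `σ ^ p ^ n` acts trivially on `G / C_G(N)` for a minimal invariant
normal subgroup `N` -/
theorem mem_centralizer_of_minimal {p : ℕ} [Fact p.Prime] (hp2 : p ≠ 2) (n : ℕ)
    {G : Type u} [Group G] [Finite G] [hsol : Group.IsSolvable G] (σ : MulAut G)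
    (hσ : σ ^ p ^ (n + 1) = 1) (hfix : ∀ g, σ g = g → g = 1)
    (N : Subgroup G) (hNn : N.Normal) (hNσ : ∀ g ∈ N, σ g ∈ N)
    (hNmin : ∀ M : Subgroup G, M ≤ N → M ≠ ⊥ → M.Normal → (∀ g ∈ M, σ g ∈ M) → M = N)
    (hNab : ∀ a ∈ N, ∀ b ∈ N, a * b = b * a) (r : ℕ) [Fact r.Prime] (hNr : ∀ a ∈ N, a ^ r = 1) :
    ∀ g, g⁻¹ * (σ ^ p ^ n) g ∈ Subgroup.centralizer (N : Set G) := by
  classical
  have : IsMulCommutative N := ⟨⟨fun a b => Subtype.ext (hNab a a.2 b b.2)⟩⟩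
  obtain ⟨ψ₀, hψ₀⟩ : ∃ ψ₀ : G →* MulAut N, ψ₀ = MulAut.conjNormal := ⟨_, rfl⟩
  have hψ₀a : ∀ (g : G) (v : N), ((ψ₀ g v : N) : G) = g * v * g⁻¹ := by
    intro g v
    rw [hψ₀]
    rfl
  obtain ⟨τ, hτdef⟩ : ∃ τ : MulAut N, τ = restrictAut N σ hNσ := ⟨_, rfl⟩
  have hτa : ∀ v : N, ((τ v : N) : G) = σ v := by
    intro v
    rw [hτdef]
    rfl
  have hτpow : ∀ (j : ℕ) (v : N), (((τ ^ j) v : N) : G) = (σ ^ j) v := by
    intro j v
    rw [hτdef]
    exact restrictAut_pow_apply N σ hNσ j v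
  have hV : ∀ v : N, v ^ r = 1 := by
    intro v
    apply Subtype.ext
    rw [Subgroup.coe_pow]
    exact hNr v v.2
  have hτp : τ ^ p ^ (n + 1) = 1 := by
    ext v
    rw [hτpow, hσ]
    rfl
  have hfixV : ∀ v, τ v = v → v = 1 := by
    intro v hv
    apply Subtype.ext
    apply hfix
    rw [← hτa, hv]
  have hconj' : ∀ g, τ * ψ₀ g = ψ₀ (σ g) * τ := by
    intro g
    ext v
    rw [MulAut.mul_apply, MulAut.mul_apply, hτa, hψ₀a, hψ₀a, hτa, map_mul, map_mul, map_inv]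
  have hconj : ∀ g, τ * ψ₀ g * τ⁻¹ = ψ₀ (σ g) := by
    intro g
    rw [hconj', mul_inv_cancel_right]
  have hconjpow : ∀ (j : ℕ) (g : G), τ ^ j * ψ₀ g * (τ ^ j)⁻¹ = ψ₀ ((σ ^ j) g) := by
    intro j
    induction j with
    | zero => intro g; simp
    | succ j ih =>
      intro g
      have e : τ ^ (j + 1) * ψ₀ g * (τ ^ (j + 1))⁻¹ = τ * (τ ^ j * ψ₀ g * (τ ^ j)⁻¹) * τ⁻¹ := by
        rw [pow_succ']
        group
      rw [e, ih, hconj, pow_succ' σ, MulAut.mul_apply]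
  have hkerσ : ∀ c ∈ ψ₀.ker, σ c ∈ ψ₀.ker := by
    intro c hc
    rw [MonoidHom.mem_ker] at hc ⊢
    rw [← hconj, hc]
    group
  have hpG : ¬ p ∣ Nat.card G := not_dvd_card_of_fpf p σ (n + 1) hσ hfix
  have hpker : ¬ p ∣ Nat.card ψ₀.ker := fun h =>
    hpG (h.trans (Subgroup.card_subgroup_dvd_card _))
  obtain ⟨H, hH⟩ : ∃ H : Subgroup (MulAut N), H = ψ₀.range := ⟨_, rfl⟩
  have hHsol : Group.IsSolvable H := by
    rw [hH]
    exact Group.isSolvable_of_surjective (f := ψ₀.rangeRestrict) ψ₀.rangeRestrict_surjective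
  have hτH : ∀ h ∈ H, τ * h * τ⁻¹ ∈ H := by
    intro h hh
    rw [hH] at hh ⊢
    obtain ⟨g, rfl⟩ := hh
    exact ⟨σ g, (hconj g).symm⟩
  have hfixH : ∀ h ∈ H, τ * h * τ⁻¹ = h → h = 1 := by
    intro h hh hfx
    rw [hH] at hh
    obtain ⟨g, rfl⟩ := hh
    rw [hconj] at hfx
    have h1 : g⁻¹ * σ g ∈ ψ₀.ker := by
      rw [MonoidHom.mem_ker, map_mul, map_inv, hfx, inv_mul_cancel]
    obtain ⟨c, hc, hgc⟩ := exists_fixed_mul p σ (n + 1) hσ ψ₀.ker hpker hkerσ g h1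
    have h2 := hfix _ hgc
    have h3 : g = c⁻¹ := eq_inv_of_mul_eq_one_left h2
    rw [h3, map_inv, MonoidHom.mem_ker.1 hc, inv_one]
  have hirr : ∀ V₀ : Subgroup N, (∀ h ∈ H, ∀ v ∈ V₀, h v ∈ V₀) → (∀ v ∈ V₀, τ v ∈ V₀) →
      V₀ = ⊥ ∨ V₀ = ⊤ := by
    intro V₀ hV₀H hV₀τ
    by_cases h0 : V₀ = ⊥
    · left; exact h0
    · right
      have h1 : V₀.map N.subtype ≤ N := Subgroup.map_subtype_le V₀
      have h2 : V₀.map N.subtype ≠ ⊥ := by
        intro h
        apply h0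
        rw [eq_bot_iff]
        intro v hv
        have : (v : G) ∈ V₀.map N.subtype := ⟨v, hv, rfl⟩
        rw [h, Subgroup.mem_bot] at this
        rw [Subgroup.mem_bot]
        exact Subtype.ext this
      have h3 : (V₀.map N.subtype).Normal := by
        constructor
        rintro _ ⟨v, hv, rfl⟩ g
        refine ⟨ψ₀ g v, hV₀H _ (by rw [hH]; exact ⟨g, rfl⟩) v hv, ?_⟩
        exact hψ₀a g v
      have h4 : ∀ g ∈ V₀.map N.subtype, σ g ∈ V₀.map N.subtype := by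
        rintro _ ⟨v, hv, rfl⟩
        exact ⟨τ v, hV₀τ v hv, hτa v⟩
      have h5 := hNmin _ h1 h2 h3 h4
      rw [eq_top_iff]
      intro v _
      have : (v : G) ∈ V₀.map N.subtype := by rw [h5]; exact v.2
      obtain ⟨v', hv', hvv'⟩ := this
      have : v' = v := Subtype.ext hvv'
      rw [← this]
      exact hv'
  have key := shult_irreducible (V := N) hp2 hV τ n hτp hfixV H hHsol hτH hfixH hirr
  intro g
  have h1 := key (ψ₀ g) (by rw [hH]; exact ⟨g, rfl⟩)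
  rw [hconjpow] at h1
  have h2 : ψ₀ (g⁻¹ * (σ ^ p ^ n) g) = 1 := by
    rw [map_mul, map_inv, h1, inv_mul_cancel]
  rw [Subgroup.mem_centralizer_iff]
  intro x hx
  have h3 := congrArg (fun f : MulAut N => ((f ⟨x, hx⟩ : N) : G)) h2
  simp only [hψ₀a, MulAut.one_apply] at h3
  set c := g⁻¹ * (σ ^ p ^ n) g with hc
  calc x * c = (c * x * c⁻¹) * c := by rw [h3]
    _ = c * x := by group

theorem shult_theoremA {p : ℕ} [Fact p.Prime] (hp2 : p ≠ 2) (n : ℕ) :
    ∀ (m : ℕ) (G : Type u) [Group G] [Finite G] [Group.IsSolvable G] (σ : MulAut G),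
      Nat.card G = m → σ ^ p ^ (n + 1) = 1 → (∀ g, σ g = g → g = 1) →
      ∀ g, g⁻¹ * (σ ^ p ^ n) g ∈ Cfsg.fittingSubgroup G := by
  intro m
  induction m using Nat.strong_induction_on with
  | _ m ih =>
  intro G _ _ _ σ hm hσ hfix
  classical
  by_cases hGs : Subsingleton G
  · intro g
    have : g⁻¹ * (σ ^ p ^ n) g = 1 := Subsingleton.elim _ _
    rw [this]
    exact Subgroup.one_mem _
  rw [not_subsingleton_iff_nontrivial] at hGs
  obtain ⟨N, hN0, hNn, hNσ, hNmin⟩ := exists_minimal_invariant_normal σ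
  obtain ⟨hNab, r, hr, hNr⟩ := minimal_invariant_normal_props σ N hN0 hNn hNσ hNmin
  have : Fact r.Prime := ⟨hr⟩
  have hNmap := map_eq_of_forall_mem N σ hNσ
  have hcardlt : Nat.card (G ⧸ N) < m := by
    rw [← hm, Subgroup.card_eq_card_quotient_mul_card_subgroup N]
    have h1 : 1 < Nat.card N := by
      have hNnt : Nontrivial N := (Subgroup.nontrivial_iff_ne_bot N).2 hN0
      exact Finite.one_lt_card
    have h2 : 0 < Nat.card (G ⧸ N) := Nat.card_pos
    nlinarith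
  have hIH := ih _ hcardlt (G ⧸ N) (quotAut N σ hNmap) rfl
    (quotAut_pow_eq_one N σ hNmap _ hσ) (quotAut_fpf N σ hNmap p (n + 1) hσ hfix)
  obtain ⟨L, hLdef⟩ : ∃ L : Subgroup G,
      L = (Cfsg.fittingSubgroup (G ⧸ N)).comap (QuotientGroup.mk' N) := ⟨_, rfl⟩
  have hL : ∀ g, g⁻¹ * (σ ^ p ^ n) g ∈ L := by
    intro g
    rw [hLdef, Subgroup.mem_comap]
    have := hIH (g : G ⧸ N)
    rw [quotAut_pow_mk] at this
    exact this
  have hLn : L.Normal := by
    rw [hLdef]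
    exact (fittingSubgroup_normal).comap _
  have hC := mem_centralizer_of_minimal hp2 n σ hσ hfix N hNn hNσ hNmin hNab r hNr
  obtain ⟨M, hMdef⟩ : ∃ M : Subgroup G, M = L ⊓ Subgroup.centralizer (N : Set G) := ⟨_, rfl⟩
  have hCn : (Subgroup.centralizer (N : Set G)).Normal := Subgroup.normal_centralizer
  have hMn : M.Normal := by
    rw [hMdef]
    infer_instance
  have hML : ∀ x : M, ((x : G) : G ⧸ N) ∈ Cfsg.fittingSubgroup (G ⧸ N) := by
    intro x
    have h0 : (x : G) ∈ L ⊓ Subgroup.centralizer (N : Set G) := hMdef.le x.2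
    have h1 := h0.1
    rw [hLdef] at h1
    exact h1
  have hMnil : Group.IsNilpotent M := by
    let f : M →* Cfsg.fittingSubgroup (G ⧸ N) :=
      ((QuotientGroup.mk' N).comp M.subtype).codRestrict _ hML
    have hnilF : Group.IsNilpotent (Cfsg.fittingSubgroup (G ⧸ N)) := fittingSubgroup_isNilpotent
    apply Subgroup.isNilpotent_of_ker_le_center f
    intro x hx
    rw [MonoidHom.mem_ker] at hx
    have h1 : ((x : G) : G ⧸ N) = 1 := by
      have := congrArg Subtype.val hx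
      exact this
    have h2 : (x : G) ∈ N := (QuotientGroup.eq_one_iff _).1 h1
    rw [Subgroup.mem_center_iff]
    intro y
    have hy : (y : G) ∈ L ⊓ Subgroup.centralizer (N : Set G) := hMdef.le y.2
    have h3 := (Subgroup.mem_centralizer_iff.1 hy.2) (x : G) h2
    apply Subtype.ext
    rw [Subgroup.coe_mul, Subgroup.coe_mul]
    exact h3.symm
  intro g
  apply le_fittingSubgroup hMn hMnil
  rw [hMdef]
  exact ⟨hL g, hC g⟩

end Cfsg.Agent.Lib.Helper64_ShultA
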