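import Mathlib
import Cfsg.Prelude.Def_Solvable
import Cfsg.Agent.Lib.Helper1_Cores
import Cfsg.Agent.Lib.Helper64_ShultAut
import Cfsg.Agent.Lib.Helper64_ShultA

/-!
# The Shult--Gross theorem (helper64)

`shult_chain`: a finite solvable group with a fixed-point-free automorphism `σ`, `σ ^ p ^ n = 1`,
`p` an odd prime, has a normal series of length `n` with nilpotent factors.
-/

set_option autoImplicit false
set_option linter.unusedSectionVars false

namespace Cfsg.Agent.Lib.Helper64_ShultMain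

open Cfsg.Agent.Lib.Helper64_ShultAut Cfsg.Agent.Lib.Helper64_ShultA
  Cfsg.Agent.Lib.Helper1_Cores

universe u

theorem fittingSubgroup_map_le {G : Type*} [Group G] [Finite G] (σ : MulAut G) :
    ∀ g ∈ Cfsg.fittingSubgroup G, σ g ∈ Cfsg.fittingSubgroup G := by
  intro g hg
  have h1 : σ g ∈ (Cfsg.fittingSubgroup G).map (σ : G ≃* G).toMonoidHom := ⟨g, hg, rfl⟩
  rw [fittingSubgroup_eq_iSup_pCore, Subgroup.map_iSup] at h1
  rw [fittingSubgroup_eq_iSup_pCore]
  have h2 : (⨆ q : Nat.Primes, (Cfsg.pCore (q : ℕ) G).map (σ : G ≃* G).toMonoidHom) ≤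
      ⨆ q : Nat.Primes, Cfsg.pCore (q : ℕ) G := by
    apply iSup_mono
    intro q
    have : Fact (q : ℕ).Prime := ⟨q.2⟩
    exact pCore_map_le (q : ℕ) σ
  exact h2 h1

theorem shult_chain {p : ℕ} [Fact p.Prime] (hp2 : p ≠ 2) (n : ℕ) :
    ∀ (G : Type u) [Group G] [Finite G] [Group.IsSolvable G] (σ : MulAut G),
      σ ^ p ^ n = 1 → (∀ g, σ g = g → g = 1) →
      ∃ F : Fin (n + 1) → Subgroup G, F 0 = ⊥ ∧ F (Fin.last n) = ⊤ ∧ Monotone F ∧
        (∀ i, (F i).Normal) ∧
        ∀ i : Fin n, ∃ k : ℕ, (F i.succ).lowerCentralSeries k ≤ F i.castSucc := by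
  induction n with
  | zero =>
    intro G _ _ _ σ hσ hfix
    have hσ1 : σ = 1 := by simpa using hσ
    have hsub : ∀ g : G, g = 1 := fun g => hfix g (by rw [hσ1]; rfl)
    refine ⟨fun _ => ⊥, rfl, ?_, fun _ _ _ => le_rfl, fun _ => inferInstance, fun i => i.elim0⟩
    rw [eq_comm, eq_bot_iff]
    intro g _
    rw [Subgroup.mem_bot]
    exact hsub g
  | succ n ih =>
    intro G _ _ _ σ hσ hfix
    have hA := shult_theoremA hp2 n _ G σ rfl hσ hfix
    obtain ⟨Fit, hFit⟩ : ∃ Fit : Subgroup G, Fit = Cfsg.fittingSubgroup G := ⟨_, rfl⟩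
    rw [← hFit] at hA
    have hFitn : Fit.Normal := by rw [hFit]; exact fittingSubgroup_normal
    have hFitσ : ∀ g ∈ Fit, σ g ∈ Fit := by rw [hFit]; exact fittingSubgroup_map_le σ
    have hFitnil : Group.IsNilpotent Fit := by rw [hFit]; exact fittingSubgroup_isNilpotent
    have hmap := map_eq_of_forall_mem Fit σ hFitσ
    obtain ⟨Fb, hFb0, hFblast, hFbmono, hFbn, hFbfac⟩ := ih (G ⧸ Fit) (quotAut Fit σ hmap)
      (quotAut_pow_eq_one_of_mem Fit σ hmap (p ^ n) hA) (quotAut_fpf Fit σ hmap p (n + 1) hσ hfix)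
    obtain ⟨π, hπ⟩ : ∃ π : G →* G ⧸ Fit, π = QuotientGroup.mk' Fit := ⟨_, rfl⟩
    have hπsurj : Function.Surjective π := by rw [hπ]; exact QuotientGroup.mk'_surjective Fit
    have hπker : π.ker = Fit := by rw [hπ]; exact QuotientGroup.ker_mk' Fit
    refine ⟨fun i => Fin.cases ⊥ (fun j => (Fb j).comap π) i, ?_, ?_, ?_, ?_, ?_⟩
    · rfl
    · rw [← Fin.succ_last]
      simp only [Fin.cases_succ]
      rw [hFblast, Subgroup.comap_top]
    · rw [Fin.monotone_iff_le_succ]
      intro i
      refine Fin.cases ?_ (fun j => ?_) i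
      · simp only [Fin.castSucc_zero, Fin.cases_zero]
        exact bot_le
      · rw [← Fin.succ_castSucc]
        simp only [Fin.cases_succ]
        exact Subgroup.comap_mono (hFbmono (Fin.castSucc_le_succ j))
    · intro i
      refine Fin.cases ?_ (fun j => ?_) i
      · simp only [Fin.cases_zero]
        infer_instance
      · simp only [Fin.cases_succ]
        exact (hFbn j).comap π
    · intro i
      refine Fin.cases ?_ (fun j => ?_) i
      · simp only [Fin.castSucc_zero, Fin.cases_zero, Fin.cases_succ]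
        have e : (⊥ : Subgroup (G ⧸ Fit)).comap π = Fit := hπker
        rw [hFb0, e]
        obtain ⟨k, hk⟩ := (Subgroup.isNilpotent_iff_lowerCentralSeries Fit).1 hFitnil
        exact ⟨k, hk.le⟩
      · obtain ⟨k, hk⟩ := hFbfac j
        refine ⟨k, ?_⟩
        rw [← Fin.succ_castSucc]
        simp only [Fin.cases_succ]
        rw [← Subgroup.map_le_iff_le_comap, Subgroup.map_lowerCentralSeries,
          Subgroup.map_comap_eq_self_of_surjective hπsurj]
        exact hk

end Cfsg.Agent.Lib.Helper64_ShultMain
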