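import Mathlib
import Cfsg.Agent.Lib.Helper9_GrossDefs
import Cfsg.Agent.Lib.Helper64_ShultMain
import Cfsg.Agent.Lib.Helper64_Fpf4

/-!
# GROSS-GMAIN (S3795 package; architect helper9) : the chain of length `2n - 2`

`hasChain_of_quotient` (verbatim) and `gross_chain_of_A2` : the package statement `gross_chain` with the
statement of GROSS-GA2 (`gross_theoremA2`) taken as a hypothesis (GA2 is not on main yet).
-/

set_option autoImplicit false
set_option linter.unusedSectionVars false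
set_option linter.unusedVariables false

namespace Cfsg.Agent.Lib.Helper5_Gross_GMAIN

open Module Cfsg.Agent.Lib.Helper9_GrossDefs Cfsg.Agent.Lib.Helper64_ShultAut
  Cfsg.Agent.Lib.Helper1_Cores Cfsg.Agent.Lib.Helper64_ShultMain
open scoped commutatorElement

universe u

theorem hasChain_of_quotient {G : Type u} [Group G] (Nn : Subgroup G) [Nn.Normal]
    (hnil : Group.IsNilpotent Nn) (k : ℕ) (h : HasChain (G ⧸ Nn) k) : HasChain G (k + 1) := by
  obtain ⟨Fb, hFb0, hFblast, hFbmono, hFbn, hFbfac⟩ := h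
  obtain ⟨π, hπ⟩ : ∃ π : G →* G ⧸ Nn, π = QuotientGroup.mk' Nn := ⟨_, rfl⟩
  have hπsurj : Function.Surjective π := by rw [hπ]; exact QuotientGroup.mk'_surjective Nn
  have hπker : π.ker = Nn := by rw [hπ]; exact QuotientGroup.ker_mk' Nn
  refine ⟨fun i => Fin.cases ⊥ (fun j => (Fb j).comap π) i, ?_, ?_, ?_, ?_, ?_⟩
  · rfl
  · rw [← Fin.succ_last]
    simp only [Fin.cases_succ]
    rw [hFblast, Subgroup.comap_top]
  · rw [Fin.monotone_iff_le_succ]
    intro i
    refine Fin.cases ?_ (fun j => ?_) i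
    · simp only [Fin.castSucc_zero, Fin.cases_zero]
      exact bot_le
    · rw [← Fin.succ_castSucc]
      simp only [Fin.cases_succ]
      exact Subgroup.comap_mono (hFbmono (Fin.castSucc_le_succ j))
  · intro i
    refine Fin.cases ?_ (fun j => ?_) i
    · simp only [Fin.cases_zero]
      infer_instance
    · simp only [Fin.cases_succ]
      exact (hFbn j).comap π
  · intro i
    refine Fin.cases ?_ (fun j => ?_) i
    · simp only [Fin.castSucc_zero, Fin.cases_zero, Fin.cases_succ]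
      have e : (⊥ : Subgroup (G ⧸ Nn)).comap π = Nn := hπker
      rw [hFb0, e]
      obtain ⟨k, hk⟩ := (Subgroup.isNilpotent_iff_lowerCentralSeries Nn).1 hnil
      exact ⟨k, hk.le⟩
    · obtain ⟨k, hk⟩ := hFbfac j
      refine ⟨k, ?_⟩
      rw [← Fin.succ_castSucc]
      simp only [Fin.cases_succ]
      rw [← Subgroup.map_le_iff_le_comap, Subgroup.map_lowerCentralSeries,
        Subgroup.map_comap_eq_self_of_surjective hπsurj]
      exact hk

/-- `gross_chain` with GROSS-GA2 (`gross_theoremA2`, verbatim statement) as a hypothesis.  Once GA2 is on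
main, `gross_chain n hn = gross_chain_of_A2 (fun N => gross_theoremA2 N) n hn`. -/
theorem gross_chain_of_A2
    (hA2 : ∀ (N : ℕ) (m : ℕ) (G : Type u) [Group G] [Finite G] [Group.IsSolvable G] (σ : MulAut G),
      Nat.card G = m → σ ^ 2 ^ (N + 1) = 1 → (∀ g, σ g = g → g = 1) →
      ∀ g, g⁻¹ * (σ ^ 2 ^ N) g ∈ fit2 G)
    (n : ℕ) (hn : 2 ≤ n) :
    ∀ (G : Type u) [Group G] [Finite G] [Group.IsSolvable G] (σ : MulAut G),
      σ ^ 2 ^ n = 1 → (∀ g, σ g = g → g = 1) → HasChain G (2 * n - 2) := by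
  induction n, hn using Nat.le_induction with
  | base =>
    intro G _ _ hsol σ hσ hfix
    have hσ4 : σ ^ 4 = 1 := by
      have : (2 : ℕ) ^ 2 = 4 := by norm_num
      rwa [this] at hσ
    have hnil := Cfsg.Agent.Lib.Helper64_Fpf4.commutator_isNilpotent hsol σ hσ4 hfix
    show HasChain G 2
    refine ⟨![⊥, commutator G, ⊤], rfl, rfl, ?_, ?_, ?_⟩
    · rw [Fin.monotone_iff_le_succ]
      intro i
      fin_cases i
      · exact bot_le
      · exact le_top
    · intro i
      fin_cases i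
      · show (⊥ : Subgroup G).Normal
        infer_instance
      · show (commutator G).Normal
        infer_instance
      · show (⊤ : Subgroup G).Normal
        infer_instance
    · intro i
      fin_cases i
      · obtain ⟨k, hk⟩ := (Subgroup.isNilpotent_iff_lowerCentralSeries (commutator G)).1 hnil
        exact ⟨k, hk.le⟩
      · refine ⟨1, ?_⟩
        show (⊤ : Subgroup G).lowerCentralSeries 1 ≤ commutator G
        rw [Subgroup.top_lowerCentralSeries_one]
  | succ n hn ih =>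
    intro G _ _ _ σ hσ hfix
    have hA := hA2 n _ G σ rfl hσ hfix
    -- first quotient
    obtain ⟨Fit, hFit⟩ : ∃ Fit : Subgroup G, Fit = Cfsg.fittingSubgroup G := ⟨_, rfl⟩
    have hFitn : Fit.Normal := by rw [hFit]; exact fittingSubgroup_normal
    have hFitσ : ∀ g ∈ Fit, σ g ∈ Fit := by rw [hFit]; exact fittingSubgroup_map_le σ
    have hFitnil : Group.IsNilpotent Fit := by rw [hFit]; exact fittingSubgroup_isNilpotent
    have hmap := map_eq_of_forall_mem Fit σ hFitσ
    set σ₁ := quotAut Fit σ hmap with hσ₁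
    have hσ₁pow : σ₁ ^ 2 ^ (n + 1) = 1 := quotAut_pow_eq_one Fit σ hmap _ hσ
    have hσ₁fix : ∀ s, σ₁ s = s → s = 1 := quotAut_fpf Fit σ hmap 2 (n + 1) hσ hfix
    -- second quotient
    obtain ⟨Fit₂, hFit₂⟩ : ∃ Fit₂ : Subgroup (G ⧸ Fit), Fit₂ = Cfsg.fittingSubgroup (G ⧸ Fit) :=
      ⟨_, rfl⟩
    have hFit₂n : Fit₂.Normal := by rw [hFit₂]; exact fittingSubgroup_normal
    have hFit₂σ : ∀ g ∈ Fit₂, σ₁ g ∈ Fit₂ := by rw [hFit₂]; exact fittingSubgroup_map_le σ₁
    have hFit₂nil : Group.IsNilpotent Fit₂ := by rw [hFit₂]; exact fittingSubgroup_isNilpotent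
    have hmap₂ := map_eq_of_forall_mem Fit₂ σ₁ hFit₂σ
    set σ₂ := quotAut Fit₂ σ₁ hmap₂ with hσ₂
    have hσ₂pow : σ₂ ^ 2 ^ n = 1 := by
      apply quotAut_pow_eq_one_of_mem Fit₂ σ₁ hmap₂ (2 ^ n)
      intro s
      obtain ⟨g, rfl⟩ := QuotientGroup.mk_surjective s
      rw [hσ₁, quotAut_pow_mk]
      have h1 := hA g
      subst hFit
      subst hFit₂
      have h2 : (QuotientGroup.mk' (Cfsg.fittingSubgroup G) (g⁻¹ * (σ ^ 2 ^ n) g)) ∈
          Cfsg.fittingSubgroup (G ⧸ Cfsg.fittingSubgroup G) := h1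
      rw [map_mul, map_inv] at h2
      exact h2
    have hσ₂fix : ∀ s, σ₂ s = s → s = 1 := quotAut_fpf Fit₂ σ₁ hmap₂ 2 (n + 1) hσ₁pow hσ₁fix
    have h1 := ih ((G ⧸ Fit) ⧸ Fit₂) σ₂ hσ₂pow hσ₂fix
    have h2 := hasChain_of_quotient Fit₂ hFit₂nil _ h1
    have h3 := hasChain_of_quotient Fit hFitnil _ h2
    have e : 2 * (n + 1) - 2 = 2 * n - 2 + 1 + 1 := by omega
    rw [e]
    exact h3

end Cfsg.Agent.Lib.Helper5_Gross_GMAIN
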