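import Mathlib
import Cfsg.Prelude.Def_Classical
import Cfsg.Agent.Lib.Helper44_Orth
import Cfsg.Agent.Lib.Helper44_StdForms

set_option autoImplicit false
set_option linter.unusedSectionVars false
set_option linter.unusedSimpArgs false

/-!
The Klein correspondence: `SL₄(F)` acts on alternating `4 × 4` matrices by `X ↦ g X gᵀ`, preserving the Pfaffian,
which is the hyperbolic quadratic form `x₀y₀ + x₁y₁ + x₂y₂` (helper5).
-/

namespace Cfsg.Agent.Lib.Helper5_Klein

open Matrix Cfsg Cfsg.Agent.Lib.Helper44_Orth Cfsg.Agent.Lib.Helper44_StdForms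

variable {F : Type*} [Field F]

/-- the Pfaffian of a 4x4 matrix (using the upper triangle) -/
def Pf (X : Matrix (Fin 4) (Fin 4) F) : F := X 0 1 * X 2 3 - X 0 2 * X 1 3 + X 0 3 * X 1 2

/-- alternating matrix from its upper triangle -/
def altM (a b c d e f : F) : Matrix (Fin 4) (Fin 4) F :=
  !![0, a, b, c; -a, 0, d, e; -b, -d, 0, f; -c, -e, -f, 0]

set_option maxHeartbeats 1600000 in
theorem Pf_conj (g : Matrix (Fin 4) (Fin 4) F) (a b c d e f : F) :
    Pf (g * altM a b c d e f * gᵀ) = g.det * Pf (altM a b c d e f) := by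
  rw [Matrix.det_succ_row_zero]
  simp only [Fin.sum_univ_succ, Matrix.det_succ_row_zero, Pf, altM, Matrix.mul_apply, Matrix.transpose_apply]
  simp [Fin.succAbove, Matrix.submatrix_apply]
  ring

theorem conj_altM_diag (g : Matrix (Fin 4) (Fin 4) F) (a b c d e f : F) (i : Fin 4) :
    (g * altM a b c d e f * gᵀ) i i = 0 := by
  simp only [Matrix.mul_apply, Matrix.transpose_apply, Fin.sum_univ_four, altM]
  simp
  ring

theorem altM_transpose (a b c d e f : F) : (altM a b c d e f)ᵀ = - altM a b c d e f := by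
  ext i j
  fin_cases i <;> fin_cases j <;> simp [altM]

/-- the index type of the 6-dimensional form -/
abbrev I6 : Type := Fin 3 ⊕ Fin 3

/-- vectors to alternating matrices -/
def alt : (I6 → F) →ₗ[F] Matrix (Fin 4) (Fin 4) F where
  toFun v := altM (v (Sum.inl 0)) (v (Sum.inl 1)) (v (Sum.inl 2)) (v (Sum.inr 2)) (- v (Sum.inr 1)) (v (Sum.inr 0))
  map_add' v w := by
    ext i j
    fin_cases i <;> fin_cases j <;> simp [altM] <;> ring
  map_smul' c v := by
    ext i j
    fin_cases i <;> fin_cases j <;> simp [altM]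

lemma alt_apply (v : I6 → F) :
    alt v = altM (v (Sum.inl 0)) (v (Sum.inl 1)) (v (Sum.inl 2)) (v (Sum.inr 2)) (- v (Sum.inr 1)) (v (Sum.inr 0)) := rfl

/-- matrices to vectors -/
def coords : Matrix (Fin 4) (Fin 4) F →ₗ[F] (I6 → F) where
  toFun X := Sum.elim ![X 0 1, X 0 2, X 0 3] ![X 2 3, - X 1 3, X 1 2]
  map_add' X Y := by
    ext i
    rcases i with i | i <;> fin_cases i <;> simp <;> ring
  map_smul' c X := by
    ext i
    rcases i with i | i <;> fin_cases i <;> simp

lemma coords_alt (v : I6 → F) : coords (alt v) = v := by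
  ext i
  rcases i with i | i <;> fin_cases i <;> simp [coords, alt, altM]

lemma alt_coords (X : Matrix (Fin 4) (Fin 4) F) (hT : Xᵀ = -X) (hd : ∀ i, X i i = 0) :
    alt (coords X) = X := by
  have hji : ∀ i j, X j i = - X i j := by
    intro i j
    have := congrFun (congrFun hT i) j
    simpa using this
  ext i j
  fin_cases i <;> fin_cases j <;> simp [coords, alt, altM, hd] <;>
    first | rfl | (rw [hji, neg_neg])

lemma Pf_alt (v : I6 → F) : Pf (alt v) = Cfsg.quadFormPlus 3 F v := by
  rw [alt_apply]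
  simp [Pf, altM, Cfsg.quadFormPlus, Fin.sum_univ_three]

/-- `X ↦ g X gᵀ` as a linear map on matrices -/
def conjT (g : SpecialLinearGroup (Fin 4) F) : Matrix (Fin 4) (Fin 4) F →ₗ[F] Matrix (Fin 4) (Fin 4) F where
  toFun X := (g : Matrix (Fin 4) (Fin 4) F) * X * (g : Matrix (Fin 4) (Fin 4) F)ᵀ
  map_add' X Y := by rw [Matrix.mul_add, Matrix.add_mul]
  map_smul' c X := by simp

lemma conjT_apply (g : SpecialLinearGroup (Fin 4) F) (X : Matrix (Fin 4) (Fin 4) F) :
    conjT g X = (g : Matrix (Fin 4) (Fin 4) F) * X * (g : Matrix (Fin 4) (Fin 4) F)ᵀ := rfl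

lemma conjT_mul (g h : SpecialLinearGroup (Fin 4) F) (X : Matrix (Fin 4) (Fin 4) F) :
    conjT (g * h) X = conjT g (conjT h X) := by
  rw [conjT_apply, conjT_apply, conjT_apply]
  show (g.1 * h.1) * X * (g.1 * h.1)ᵀ = g.1 * (h.1 * X * h.1ᵀ) * g.1ᵀ
  rw [Matrix.transpose_mul]
  simp only [Matrix.mul_assoc]

lemma conjT_one (X : Matrix (Fin 4) (Fin 4) F) : conjT 1 X = X := by
  simp [conjT_apply]

/-- the Klein action on vectors -/
def L (g : SpecialLinearGroup (Fin 4) F) : (I6 → F) →ₗ[F] (I6 → F) :=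
  coords ∘ₗ conjT g ∘ₗ alt

lemma L_apply (g : SpecialLinearGroup (Fin 4) F) (v : I6 → F) : L g v = coords (conjT g (alt v)) := rfl

lemma alt_L (g : SpecialLinearGroup (Fin 4) F) (v : I6 → F) : alt (L g v) = conjT g (alt v) := by
  rw [L_apply, alt_coords]
  · rw [conjT_apply, Matrix.transpose_mul, Matrix.transpose_mul, Matrix.transpose_transpose, alt_apply,
      altM_transpose]
    simp [Matrix.mul_assoc]
  · intro i
    rw [conjT_apply, alt_apply]
    exact conj_altM_diag _ _ _ _ _ _ _ i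

lemma L_mul (g h : SpecialLinearGroup (Fin 4) F) : L (g * h) = L g ∘ₗ L h := by
  refine LinearMap.ext fun v => ?_
  rw [LinearMap.comp_apply, L_apply, conjT_mul, ← alt_L h v, ← L_apply]

lemma L_one : L (1 : SpecialLinearGroup (Fin 4) F) = LinearMap.id := by
  refine LinearMap.ext fun v => ?_
  rw [L_apply, conjT_one, coords_alt, LinearMap.id_apply]

lemma Q_L (g : SpecialLinearGroup (Fin 4) F) (v : I6 → F) :
    Cfsg.quadFormPlus 3 F (L g v) = Cfsg.quadFormPlus 3 F v := by
  rw [← Pf_alt, alt_L, conjT_apply, alt_apply, Pf_conj, g.2, one_mul, ← alt_apply, Pf_alt]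

lemma toMatrix'_L_mul (g h : SpecialLinearGroup (Fin 4) F) :
    LinearMap.toMatrix' (L g) * LinearMap.toMatrix' (L h) = LinearMap.toMatrix' (L (g * h)) := by
  rw [L_mul, LinearMap.toMatrix'_comp]

/-- The Klein representation as a homomorphism into the isometry group. -/
def rho : SpecialLinearGroup (Fin 4) F →* ↥(Cfsg.isometryGroup F (⇑(qfPlus 3 F))) where
  toFun g := ⟨⟨LinearMap.toMatrix' (L g), LinearMap.toMatrix' (L g⁻¹),
      by rw [toMatrix'_L_mul, mul_inv_cancel, L_one, LinearMap.toMatrix'_id],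
      by rw [toMatrix'_L_mul, inv_mul_cancel, L_one, LinearMap.toMatrix'_id]⟩, by
    rw [mem_isometryGroup_iff]
    intro u
    show qfPlus 3 F (LinearMap.toMatrix' (L g) *ᵥ u) = qfPlus 3 F u
    rw [LinearMap.toMatrix'_mulVec, coe_qfPlus, Q_L]⟩
  map_one' := by
    apply Subtype.ext
    apply Units.ext
    show LinearMap.toMatrix' (L (1 : SpecialLinearGroup (Fin 4) F)) = 1
    rw [L_one, LinearMap.toMatrix'_id]
  map_mul' g h := by
    apply Subtype.ext
    apply Units.ext
    show LinearMap.toMatrix' (L (g * h)) = LinearMap.toMatrix' (L g) * LinearMap.toMatrix' (L h)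
    rw [toMatrix'_L_mul]

lemma rho_coe (g : SpecialLinearGroup (Fin 4) F) :
    ((rho g : Matrix.GeneralLinearGroup I6 F) : Matrix I6 I6 F) = LinearMap.toMatrix' (L g) := rfl

lemma rho_mulVec (g : SpecialLinearGroup (Fin 4) F) (v : I6 → F) :
    ((rho g : Matrix.GeneralLinearGroup I6 F) : Matrix I6 I6 F) *ᵥ v = L g v := by
  rw [rho_coe, LinearMap.toMatrix'_mulVec]

/-- If `g` acts as a scalar in the Klein representation, then `g` is central in `SL₄`. -/
theorem mem_center_of_L_scalar (g : SpecialLinearGroup (Fin 4) F) (ε : F) (h : ∀ v, L g v = ε • v) :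
    g ∈ Subgroup.center (SpecialLinearGroup (Fin 4) F) := by
  set G : Matrix (Fin 4) (Fin 4) F := g.1 with hG
  set H : Matrix (Fin 4) (Fin 4) F := ((g⁻¹).1)ᵀ with hH
  have hGH : Gᵀ * H = 1 := by
    rw [hH, ← Matrix.transpose_mul]
    have : (g⁻¹).1 * g.1 = 1 := congrArg (fun x : SpecialLinearGroup (Fin 4) F => x.1) (inv_mul_cancel g)
    rw [this, Matrix.transpose_one]
  have key : ∀ v : I6 → F, G * alt v = ε • (alt v * H) := by
    intro v
    have h1 := alt_L g v
    rw [h v, map_smul, conjT_apply] at h1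
    have h2 : ε • (alt v * H) = (G * alt v * Gᵀ) * H := by
      rw [← Matrix.smul_mul, h1]
    rw [h2, Matrix.mul_assoc, hGH, Matrix.mul_one]
  have k01 := key (Pi.single (Sum.inl 0) 1)
  have k02 := key (Pi.single (Sum.inl 1) 1)
  have k03 := key (Pi.single (Sum.inl 2) 1)
  have k23 := key (Pi.single (Sum.inr 0) 1)
  have k13 := key (Pi.single (Sum.inr 1) 1)
  have ent : ∀ (M N : Matrix (Fin 4) (Fin 4) F), M = N → ∀ k l, M k l = N k l := by
    intro M N hMN k l; rw [hMN]
  -- off-diagonal entries vanish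
  have g20 := ent _ _ k01 2 1
  have g30 := ent _ _ k01 3 1
  have g21 := ent _ _ k01 2 0
  have g31 := ent _ _ k01 3 0
  have g02 := ent _ _ k23 0 3
  have g12 := ent _ _ k23 1 3
  have g03 := ent _ _ k23 0 2
  have g13 := ent _ _ k23 1 2
  have g10 := ent _ _ k02 1 2
  have g32 := ent _ _ k02 3 0
  have g01 := ent _ _ k13 0 3
  have g23 := ent _ _ k13 2 1
  -- diagonal relations
  have d00 := ent _ _ k01 0 1
  have d11 := ent _ _ k13 1 3
  have d33 := ent _ _ k13 3 1
  have d22 := ent _ _ k23 2 3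
  have d00' := ent _ _ k03 0 3
  simp [alt_apply, altM, Matrix.mul_apply, Fin.sum_univ_four, Matrix.smul_apply, Matrix.vecMul, dotProduct] at g20 g30 g21 g31 g02 g12 g03 g13 g10 g32 g01 g23 d00 d11 d33 d22 d00'
  have hscal : G = G 0 0 • (1 : Matrix (Fin 4) (Fin 4) F) := by
    ext i j
    fin_cases i <;> fin_cases j <;> simp [Matrix.smul_apply, Matrix.one_apply]
    all_goals first | assumption | skip
    · linear_combination d11 - d00'
    · linear_combination d22 - d00'
    · linear_combination d33 - d00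
  rw [Subgroup.mem_center_iff]
  intro k
  apply Subtype.ext
  show k.1 * g.1 = g.1 * k.1
  rw [← hG, hscal]
  simp

end Cfsg.Agent.Lib.Helper5_Klein
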