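import Mathlib
import Cfsg.Prelude.Def_Classical
import Cfsg.Agent.Lib.Helper44_Orth
import Cfsg.Agent.Lib.Helper44_StdForms
import Cfsg.Agent.Lib.Helper5_Klein
import Cfsg.Agent.S0302

set_option autoImplicit false
set_option linter.unusedSectionVars false
set_option linter.unusedSimpArgs false

/-!
The Klein correspondence restricted to `Sp₄(F)`: the symplectic group fixes the vector `j₀` corresponding to `J`,
hence acts on `j₀^⊥`, a 5-dimensional space with the form `t² + x₀y₀ + x₁y₁` (helper5).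
-/

namespace Cfsg.Agent.Lib.Helper5_KleinSp

open Matrix Cfsg Cfsg.Agent.Lib.Helper44_Orth Cfsg.Agent.Lib.Helper44_StdForms Cfsg.Agent.Lib.Helper5_Klein

variable {F : Type*} [Field F]

/-- `Fin 4 ≃ Fin 2 ⊕ Fin 2` -/
def e4 : Fin 4 ≃ Fin 2 ⊕ Fin 2 where
  toFun := ![Sum.inl 0, Sum.inl 1, Sum.inr 0, Sum.inr 1]
  invFun := Sum.elim ![0, 1] ![2, 3]
  left_inv i := by fin_cases i <;> rfl
  right_inv i := by rcases i with i | i <;> fin_cases i <;> rfl

/-- reindexing `Fin 2 ⊕ Fin 2` to `Fin 4` -/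
def R4 (M : Matrix (Fin 2 ⊕ Fin 2) (Fin 2 ⊕ Fin 2) F) : Matrix (Fin 4) (Fin 4) F :=
  M.submatrix e4 e4

lemma R4_mul (M N : Matrix (Fin 2 ⊕ Fin 2) (Fin 2 ⊕ Fin 2) F) : R4 (M * N) = R4 M * R4 N := by
  unfold R4
  rw [Matrix.submatrix_mul_equiv]

lemma R4_transpose (M : Matrix (Fin 2 ⊕ Fin 2) (Fin 2 ⊕ Fin 2) F) : R4 Mᵀ = (R4 M)ᵀ := by
  unfold R4
  rw [Matrix.transpose_submatrix]

lemma R4_one : R4 (1 : Matrix (Fin 2 ⊕ Fin 2) (Fin 2 ⊕ Fin 2) F) = 1 := by
  unfold R4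
  rw [Matrix.submatrix_one_equiv]

lemma R4_J : R4 (J (Fin 2) F) = altM 0 (-1) 0 0 (-1) 0 := by
  ext i j
  fin_cases i <;> fin_cases j <;> simp [R4, J, altM, e4, Matrix.one_apply]

lemma R4_injective : Function.Injective (R4 (F := F)) := by
  intro M N h
  ext i j
  have := congrFun (congrFun h (e4.symm i)) (e4.symm j)
  simpa [R4] using this

lemma det_R4_of_mem (g : Matrix (Fin 2 ⊕ Fin 2) (Fin 2 ⊕ Fin 2) F) (hg : g ∈ symplecticGroup (Fin 2) F) :
    (R4 g).det = 1 := by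
  rw [SymplecticGroup.mem_iff] at hg
  have h1 : R4 g * altM 0 (-1) 0 0 (-1) 0 * (R4 g)ᵀ = altM (0 : F) (-1) 0 0 (-1) 0 := by
    rw [← R4_J, ← R4_transpose, ← R4_mul, ← R4_mul, hg]
  have h2 := Pf_conj (R4 g) (0 : F) (-1) 0 0 (-1) 0
  rw [h1] at h2
  have h3 : Pf (altM (0 : F) (-1) 0 0 (-1) 0) = -1 := by
    simp [Pf, altM]
  rw [h3] at h2
  linear_combination h2

/-- `Sp₄ → SL₄` -/
def toSL : symplecticGroup (Fin 2) F →* SpecialLinearGroup (Fin 4) F where
  toFun g := ⟨R4 g.1, det_R4_of_mem g.1 g.2⟩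
  map_one' := by
    apply Subtype.ext
    exact R4_one
  map_mul' g h := by
    apply Subtype.ext
    exact R4_mul g.1 h.1

lemma toSL_coe (g : symplecticGroup (Fin 2) F) : (toSL g).1 = R4 g.1 := rfl

/-- the vector corresponding to `J` -/
def j0 : I6 → F := Pi.single (Sum.inr 1) 1 - Pi.single (Sum.inl 1) 1

lemma alt_j0 : alt (j0 : I6 → F) = altM 0 (-1) 0 0 (-1) 0 := by
  rw [alt_apply]
  simp [j0]

lemma L_j0 (g : symplecticGroup (Fin 2) F) : L (toSL g) j0 = j0 := by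
  rw [Cfsg.Agent.Lib.Helper5_Klein.L_apply, conjT_apply, alt_j0]
  have hg := (SymplecticGroup.mem_iff).mp g.2
  have h1 : R4 g.1 * altM 0 (-1) 0 0 (-1) 0 * (R4 g.1)ᵀ = altM (0 : F) (-1) 0 0 (-1) 0 := by
    rw [← R4_J, ← R4_transpose, ← R4_mul, ← R4_mul, hg]
  show coords (R4 g.1 * altM 0 (-1) 0 0 (-1) 0 * (R4 g.1)ᵀ) = j0
  rw [h1, ← alt_j0, coords_alt]

/-- the index type of the 5-dimensional form -/
abbrev I5 : Type := Unit ⊕ (Fin 2 ⊕ Fin 2)

/-- embedding of the 5-dimensional space as `j₀^⊥` -/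
def emb : (I5 → F) →ₗ[F] (I6 → F) where
  toFun u := Sum.elim ![u (Sum.inr (Sum.inl 0)), u (Sum.inl ()), u (Sum.inr (Sum.inl 1))]
    ![u (Sum.inr (Sum.inr 0)), u (Sum.inl ()), u (Sum.inr (Sum.inr 1))]
  map_add' u w := by
    ext i
    rcases i with i | i <;> fin_cases i <;> simp
  map_smul' c u := by
    ext i
    rcases i with i | i <;> fin_cases i <;> simp

/-- a left inverse of `emb` -/
def prj : (I6 → F) →ₗ[F] (I5 → F) where
  toFun x := Sum.elim (fun _ => x (Sum.inl 1))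
    (Sum.elim ![x (Sum.inl 0), x (Sum.inl 2)] ![x (Sum.inr 0), x (Sum.inr 2)])
  map_add' x y := by
    ext i
    rcases i with i | i | i
    · simp
    · fin_cases i <;> simp
    · fin_cases i <;> simp
  map_smul' c x := by
    ext i
    rcases i with i | i | i
    · simp
    · fin_cases i <;> simp
    · fin_cases i <;> simp

lemma prj_emb (u : I5 → F) : prj (emb u) = u := by
  ext i
  rcases i with i | i | i
  · simp [prj, emb]
  · fin_cases i <;> simp [prj, emb]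
  · fin_cases i <;> simp [prj, emb]

lemma emb_prj (x : I6 → F) (hx : x (Sum.inl 1) = x (Sum.inr 1)) : emb (prj x) = x := by
  ext i
  rcases i with i | i <;> fin_cases i <;> simp [prj, emb, hx]

lemma emb_perp (u : I5 → F) : (emb u) (Sum.inl 1) = (emb u) (Sum.inr 1) := by
  simp [emb]

lemma Q_emb (u : I5 → F) : Cfsg.quadFormPlus 3 F (emb u) = Cfsg.quadFormOdd 2 F u := by
  simp [Cfsg.quadFormPlus, Cfsg.quadFormOdd, emb, Fin.sum_univ_three, Fin.sum_univ_two]
  ring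

lemma polar_j0 (x : I6 → F) :
    QuadraticMap.polar (Cfsg.quadFormPlus 3 F) j0 x = x (Sum.inl 1) - x (Sum.inr 1) := by
  rw [polar_quadFormPlus, Fin.sum_univ_three]
  simp [j0]
  ring

lemma polar_L (g : SpecialLinearGroup (Fin 4) F) (x y : I6 → F) :
    QuadraticMap.polar (Cfsg.quadFormPlus 3 F) (L g x) (L g y) = QuadraticMap.polar (Cfsg.quadFormPlus 3 F) x y := by
  unfold QuadraticMap.polar
  rw [← map_add, Q_L, Q_L, Q_L]

lemma L_perp (g : symplecticGroup (Fin 2) F) (x : I6 → F) (hx : x (Sum.inl 1) = x (Sum.inr 1)) :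
    (L (toSL g) x) (Sum.inl 1) = (L (toSL g) x) (Sum.inr 1) := by
  have h1 := polar_L (toSL g) j0 x
  rw [L_j0, polar_j0, polar_j0, hx, sub_self] at h1
  exact sub_eq_zero.mp h1

/-- the action of `Sp₄` on the 5-dimensional space -/
def L5 (g : symplecticGroup (Fin 2) F) : (I5 → F) →ₗ[F] (I5 → F) :=
  prj ∘ₗ L (toSL g) ∘ₗ emb

lemma L5_apply (g : symplecticGroup (Fin 2) F) (u : I5 → F) : L5 g u = prj (L (toSL g) (emb u)) := rfl

lemma emb_L5 (g : symplecticGroup (Fin 2) F) (u : I5 → F) : emb (L5 g u) = L (toSL g) (emb u) := by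
  rw [L5_apply, emb_prj _ (L_perp g _ (emb_perp u))]

lemma L5_mul (g h : symplecticGroup (Fin 2) F) : L5 (g * h) = L5 g ∘ₗ L5 h := by
  refine LinearMap.ext fun u => ?_
  rw [LinearMap.comp_apply, L5_apply, map_mul, Cfsg.Agent.Lib.Helper5_Klein.L_mul, LinearMap.comp_apply, ← emb_L5 h u, ← L5_apply]

lemma L5_one : L5 (1 : symplecticGroup (Fin 2) F) = LinearMap.id := by
  refine LinearMap.ext fun u => ?_
  rw [L5_apply, map_one, L_one, LinearMap.id_apply, prj_emb, LinearMap.id_apply]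

lemma Q_L5 (g : symplecticGroup (Fin 2) F) (u : I5 → F) :
    Cfsg.quadFormOdd 2 F (L5 g u) = Cfsg.quadFormOdd 2 F u := by
  rw [← Q_emb, emb_L5, Q_L, Q_emb]

lemma toMatrix'_L5_mul (g h : symplecticGroup (Fin 2) F) :
    LinearMap.toMatrix' (L5 g) * LinearMap.toMatrix' (L5 h) = LinearMap.toMatrix' (L5 (g * h)) := by
  rw [L5_mul, LinearMap.toMatrix'_comp]

/-- The representation of `Sp₄` on the 5-dimensional orthogonal space. -/
def rho5 : symplecticGroup (Fin 2) F →* ↥(Cfsg.isometryGroup F (⇑(qfOdd 2 F))) where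
  toFun g := ⟨⟨LinearMap.toMatrix' (L5 g), LinearMap.toMatrix' (L5 g⁻¹),
      by rw [toMatrix'_L5_mul, mul_inv_cancel, L5_one, LinearMap.toMatrix'_id],
      by rw [toMatrix'_L5_mul, inv_mul_cancel, L5_one, LinearMap.toMatrix'_id]⟩, by
    rw [mem_isometryGroup_iff]
    intro u
    show qfOdd 2 F (LinearMap.toMatrix' (L5 g) *ᵥ u) = qfOdd 2 F u
    rw [LinearMap.toMatrix'_mulVec, coe_qfOdd, Q_L5]⟩
  map_one' := by
    apply Subtype.ext
    apply Units.ext
    show LinearMap.toMatrix' (L5 (1 : symplecticGroup (Fin 2) F)) = 1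
    rw [L5_one, LinearMap.toMatrix'_id]
  map_mul' g h := by
    apply Subtype.ext
    apply Units.ext
    show LinearMap.toMatrix' (L5 (g * h)) = LinearMap.toMatrix' (L5 g) * LinearMap.toMatrix' (L5 h)
    rw [toMatrix'_L5_mul]

lemma rho5_coe (g : symplecticGroup (Fin 2) F) :
    ((rho5 g : Matrix.GeneralLinearGroup I5 F) : Matrix I5 I5 F) = LinearMap.toMatrix' (L5 g) := rfl

lemma rho5_mulVec (g : symplecticGroup (Fin 2) F) (u : I5 → F) :
    ((rho5 g : Matrix.GeneralLinearGroup I5 F) : Matrix I5 I5 F) *ᵥ u = L5 g u := by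
  rw [rho5_coe, LinearMap.toMatrix'_mulVec]

lemma L_eq_of_ker (h2 : (2 : F) ≠ 0) (g : symplecticGroup (Fin 2) F) (hg : g ∈ (rho5 (F := F)).ker)
    (x : I6 → F) : L (toSL g) x = x := by
  have h5 : ∀ u : I5 → F, L (toSL g) (emb u) = emb u := by
    intro u
    rw [← emb_L5, ← rho5_mulVec, MonoidHom.mem_ker.mp hg]
    show emb ((1 : Matrix I5 I5 F) *ᵥ u) = emb u
    rw [Matrix.one_mulVec]
  set c : F := (x (Sum.inr 1) - x (Sum.inl 1)) / 2 with hc
  have hx : x = emb (prj (x - c • j0)) + c • j0 := by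
    rw [emb_prj]
    · abel
    · simp [j0, hc]
      field_simp
      ring
  rw [hx, map_add, map_smul, h5, L_j0]

lemma ker_rho5_scalar (h2 : (2 : F) ≠ 0) (g : symplecticGroup (Fin 2) F) (hg : g ∈ (rho5 (F := F)).ker) :
    ∃ r : F, r * r = 1 ∧ g.1 = r • (1 : Matrix (Fin 2 ⊕ Fin 2) (Fin 2 ⊕ Fin 2) F) := by
  have hL := L_eq_of_ker h2 g hg
  have hk : toSL g ∈ (rho (F := F)).ker := by
    rw [MonoidHom.mem_ker]
    apply Subtype.ext
    apply Units.ext
    show LinearMap.toMatrix' (L (toSL g)) = 1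
    have : L (toSL g) = LinearMap.id := LinearMap.ext hL
    rw [this, LinearMap.toMatrix'_id]
  obtain ⟨r, hr, hgr⟩ := Cfsg.Agent.S0302.ker_rho_scalar (toSL g) hk
  refine ⟨r, hr, ?_⟩
  apply R4_injective
  rw [← toSL_coe, hgr]
  have : R4 (r • (1 : Matrix (Fin 2 ⊕ Fin 2) (Fin 2 ⊕ Fin 2) F)) = r • R4 (1 : Matrix (Fin 2 ⊕ Fin 2) (Fin 2 ⊕ Fin 2) F) := by
    rfl
  rw [this, R4_one]

lemma ker_rho5_le_center (h2 : (2 : F) ≠ 0) :
    (rho5 (F := F)).ker ≤ Subgroup.center (symplecticGroup (Fin 2) F) := by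
  intro g hg
  obtain ⟨r, _, hgr⟩ := ker_rho5_scalar h2 g hg
  rw [Subgroup.mem_center_iff]
  intro k
  apply Subtype.ext
  show k.1 * g.1 = g.1 * k.1
  rw [hgr]
  simp

lemma card_ker_rho5_le_two [Fintype F] (h2 : (2 : F) ≠ 0) : Nat.card (rho5 (F := F)).ker ≤ 2 := by
  classical
  have hinj : Function.Injective
      (fun g : (rho5 (F := F)).ker => (⟨g.1.1 (Sum.inl 0) (Sum.inl 0), by
        obtain ⟨r, hr, hg⟩ := ker_rho5_scalar h2 g.1 g.2
        rw [hg]
        have h2 : (r - 1) * (r + 1) = 0 := by linear_combination hr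
        rcases mul_eq_zero.mp h2 with h | h
        · simp [sub_eq_zero.mp h]
        · simp [eq_neg_of_add_eq_zero_left h]⟩ : ↥({1, -1} : Finset F))) := by
    intro g h hgh
    have h0 : g.1.1 (Sum.inl 0) (Sum.inl 0) = h.1.1 (Sum.inl 0) (Sum.inl 0) := congrArg Subtype.val hgh
    obtain ⟨r, _, hg⟩ := ker_rho5_scalar h2 g.1 g.2
    obtain ⟨r', _, hh⟩ := ker_rho5_scalar h2 h.1 h.2
    apply Subtype.ext
    apply Subtype.ext
    rw [hg, hh] at h0 ⊢
    simp at h0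
    rw [h0]
  calc Nat.card (rho5 (F := F)).ker ≤ Nat.card ↥({1, -1} : Finset F) := Nat.card_le_card_of_injective _ hinj
    _ = ({1, -1} : Finset F).card := by rw [Nat.card_eq_fintype_card, Fintype.card_coe]
    _ ≤ 2 := Finset.card_le_two

end Cfsg.Agent.Lib.Helper5_KleinSp
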