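import Mathlib
import Cfsg.Prelude.Def_Classical
import Cfsg.Agent.Lib.Helper44_Orth
import Cfsg.Agent.Lib.Helper44_StdForms
import Cfsg.Agent.Lib.Helper5_Klein
import Cfsg.Agent.Lib.Helper5_KleinSp

set_option autoImplicit false
set_option linter.unusedSectionVars false
set_option linter.unusedSimpArgs false
set_option linter.unnecessarySeqFocus false

/-!
More on the Klein correspondence: the action of the transpose is the transpose of the action; compatibility with
the swap of coordinates (Hodge star) and with ring homomorphisms (helper5).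
-/

namespace Cfsg.Agent.Lib.Helper5_KleinT

open Matrix Cfsg Cfsg.Agent.Lib.Helper44_Orth Cfsg.Agent.Lib.Helper44_StdForms Cfsg.Agent.Lib.Helper5_Klein

section general
variable {K : Type*} [Field K]

/-- the Klein action for an arbitrary matrix -/
def Lraw (G : Matrix (Fin 4) (Fin 4) K) (v : I6 → K) : I6 → K := coords (G * alt v * Gᵀ)

lemma L_eq_Lraw (g : SpecialLinearGroup (Fin 4) K) (v : I6 → K) : L g v = Lraw g.1 v := rfl

set_option maxHeartbeats 1600000 in
lemma Lraw_transpose (G : Matrix (Fin 4) (Fin 4) K) (i j : I6) :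
    Lraw Gᵀ (Pi.single j 1) i = Lraw G (Pi.single i 1) j := by
  rcases i with i | i <;> rcases j with j | j <;> fin_cases i <;> fin_cases j <;>
    simp [Lraw, coords, alt_apply, altM, Matrix.mul_apply, Fin.sum_univ_four, Matrix.transpose_apply] <;> ring

/-- swapping the two halves of the coordinates -/
def swapI (v : I6 → K) : I6 → K := fun k => v (Sum.swap k)

lemma swapI_apply (v : I6 → K) (k : I6) : swapI v k = v (Sum.swap k) := rfl

lemma swapI_swapI (v : I6 → K) : swapI (swapI v) = v := by
  ext k
  simp [swapI]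

lemma polar_eq_sum (v w : I6 → K) :
    QuadraticMap.polar (Cfsg.quadFormPlus 3 K) v w = ∑ k, v k * swapI w k := by
  rw [polar_quadFormPlus, Fintype.sum_sum_type, ← Finset.sum_add_distrib]
  apply Finset.sum_congr rfl
  intro i _
  simp only [swapI_apply, Sum.swap_inl, Sum.swap_inr]
  ring

lemma L_swap (g h : SpecialLinearGroup (Fin 4) K) (hgh : h.1 = g.1ᵀ) (w : I6 → K) :
    L h (swapI (L g w)) = swapI w := by
  ext i
  rw [LinearMap.pi_apply_eq_sum_univ (L h) (swapI (L g w))]
  simp only [Finset.sum_apply, Pi.smul_apply, smul_eq_mul]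
  have h1 : ∀ j, L h (fun k => if j = k then (1 : K) else 0) i = L g (Pi.single i 1) j := by
    intro j
    have h2 : (fun k => if j = k then (1 : K) else 0) = Pi.single j 1 := by
      ext k; simp [Pi.single_apply, eq_comm]
    rw [h2, L_eq_Lraw, hgh, Lraw_transpose]
    rfl
  simp_rw [h1]
  have h3 : ∑ j, swapI (L g w) j * L g (Pi.single i 1) j =
      QuadraticMap.polar (Cfsg.quadFormPlus 3 K) (L g (Pi.single i 1)) (L g w) := by
    rw [polar_eq_sum]
    apply Finset.sum_congr rfl
    intro j _
    ring
  rw [h3, Cfsg.Agent.Lib.Helper5_KleinSp.polar_L, polar_eq_sum]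
  simp [Pi.single_apply]

/-- compatibility with ring homomorphisms applied entrywise -/
lemma L_map (σ : K →+* K) (g : SpecialLinearGroup (Fin 4) K) (v : I6 → K) :
    L (SpecialLinearGroup.map σ g) (fun k => σ (v k)) = fun k => σ (L g v k) := by
  have h1 : alt (fun k => σ (v k)) = σ.mapMatrix (alt v) := by
    ext i j
    fin_cases i <;> fin_cases j <;> simp [alt_apply, altM]
  have h2 : ∀ X : Matrix (Fin 4) (Fin 4) K, coords (σ.mapMatrix X) = fun k => σ (coords X k) := by
    intro X
    ext k
    rcases k with k | k <;> fin_cases k <;> simp [coords]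
  rw [Cfsg.Agent.Lib.Helper5_Klein.L_apply, conjT_apply, h1]
  have h3 : ((SpecialLinearGroup.map σ g : SpecialLinearGroup (Fin 4) K) : Matrix (Fin 4) (Fin 4) K)
      = σ.mapMatrix g.1 := rfl
  rw [h3]
  have h4 : σ.mapMatrix g.1 * σ.mapMatrix (alt v) * (σ.mapMatrix g.1)ᵀ = σ.mapMatrix (g.1 * alt v * g.1ᵀ) := by
    rw [map_mul, map_mul]
    congr 1
  rw [h4, h2]
  rfl

end general

end Cfsg.Agent.Lib.Helper5_KleinT
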