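import Mathlib
import Cfsg.Prelude.Def_Classical
import Cfsg.Agent.Lib.Helper44_Orth
import Cfsg.Agent.Lib.Helper44_StdForms
import Cfsg.Agent.Lib.Helper5_Klein
import Cfsg.Agent.Lib.Helper5_KleinT
import Cfsg.Agent.Lib.Helper5_O4Minus
import Cfsg.Agent.Lib.Helper5_SUOrder
import Cfsg.Agent.Lib.Helper5_SUCenter

set_option autoImplicit false
set_option linter.unusedSectionVars false
set_option linter.unusedSimpArgs false
set_option linter.unnecessarySeqFocus false

/-!
`SU₄(q)` acts on the `F`-form of the space of alternating matrices over the quadratic extension, which carries a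
quadratic form of minus type (helper5).
-/

namespace Cfsg.Agent.Lib.Helper5_KleinSU

open Matrix Cfsg Cfsg.Agent.Lib.Helper44_Orth Cfsg.Agent.Lib.Helper44_StdForms Cfsg.Agent.Lib.Helper5_Klein
  Cfsg.Agent.Lib.Helper5_KleinT Cfsg.Agent.Lib.Helper5_O4Minus QuadraticAlgebra

variable {F : Type*} [Field F] [Fintype F] (a b : F) [hFact : Fact (∀ r : F, r ^ 2 ≠ -b + a * r)]

/-! ### Frobenius is the conjugation -/

local notation "cc" => algebraMap F (KK a b)

lemma eq_C_add (x : KK a b) : x = cc x.re + cc x.im * (ω : KK a b) := by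
  ext <;> simp

lemma C_pow_card (r : F) : (cc r : KK a b) ^ Fintype.card F = cc r := by
  rw [← map_pow, FiniteField.pow_card]

lemma omega_add_star : (ω : KK a b) + star (ω : KK a b) = cc a := by
  ext <;> simp

lemma omega_mul_star : (ω : KK a b) * star (ω : KK a b) = cc b := by
  ext <;> simp

lemma omega_sq : (ω : KK a b) * ω = cc (-b) + cc a * ω := by
  ext <;> simp

theorem pow_card_eq_star (x : KK a b) : x ^ Fintype.card F = star x := by
  let _ : Fintype (KK a b) := fintypeKK a b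
  have hK : Fintype.card (KK a b) = Fintype.card F ^ 2 := card_KK a b
  set σ := Cfsg.Agent.Lib.Helper5_SUOrder.powQ hK with hσ
  have hσx : ∀ y : KK a b, σ y = y ^ Fintype.card F := fun y => rfl
  have hσC : ∀ r : F, σ (cc r) = cc r := fun r => by rw [hσx, C_pow_card]
  set θ := σ ω with hθ
  have h1 : θ * θ = cc (-b) + cc a * θ := by
    rw [hθ, ← map_mul, omega_sq, map_add, map_mul, hσC, hσC]
  have h2 : (θ - ω) * (θ - star (ω : KK a b)) = 0 := by
    have e1 : (θ - ω) * (θ - star (ω : KK a b)) =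
        θ * θ - θ * ((ω : KK a b) + star (ω : KK a b)) + (ω : KK a b) * star (ω : KK a b) := by ring
    rw [e1, h1, omega_add_star, omega_mul_star]
    rw [map_neg]
    ring
  have hgen : ∀ y : KK a b, σ y = cc y.re + cc y.im * θ := by
    intro y
    conv_lhs => rw [eq_C_add a b y]
    rw [map_add, map_mul, hσC, hσC]
  rcases mul_eq_zero.mp h2 with h | h
  · exfalso
    have hθω : θ = ω := sub_eq_zero.mp h
    obtain ⟨c, hc⟩ := Cfsg.Agent.Lib.Helper5_SUCenter.exists_pow_q_ne hK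
    apply hc
    rw [← hσx, hgen, hθω, ← eq_C_add]
  · have hθω : θ = star (ω : KK a b) := sub_eq_zero.mp h
    rw [← hσx, hgen, hθω]
    ext
    · simp; ring
    · simp

lemma norm_eq_mul_pow (x : KK a b) : (cc (QuadraticAlgebra.norm x) : KK a b) = x * x ^ Fintype.card F := by
  rw [pow_card_eq_star]
  exact algebraMap_norm_eq_mul_star x

lemma exists_norm_neg_one : ∃ c : KK a b, QuadraticAlgebra.norm c = -1 := by
  let _ : Fintype (KK a b) := fintypeKK a b
  have hK : Fintype.card (KK a b) = Fintype.card F ^ 2 := card_KK a b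
  obtain ⟨c, hc⟩ := Cfsg.Agent.Lib.Helper5_SUCenter.exists_norm_neg_one hK
  refine ⟨c, ?_⟩
  rw [← norm_eq_mul_pow] at hc
  have := congrArg QuadraticAlgebra.re hc
  simpa using this

/-! ### The `F`-form of the six-dimensional space -/

/-- the index type of the 6-dimensional form of minus type -/
abbrev I6m : Type := (Fin 2 ⊕ Fin 2) ⊕ Fin 2

/-- the semilinear involution -/
def tau (v : I6 → KK a b) : I6 → KK a b := fun k => star (v (Sum.swap k))

variable (ε : KK a b)

/-- auxiliary coordinates -/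
def sOf (u : I6m → F) : KK a b := ⟨u (Sum.inl (Sum.inl 0)), u (Sum.inl (Sum.inl 1))⟩

/-- auxiliary coordinates -/
def yOf (u : I6m → F) : KK a b :=
  ⟨(2 * b * (u (Sum.inl (Sum.inr 0)) - u (Sum.inl (Sum.inl 0)) - a * u (Sum.inl (Sum.inl 1)))
      - a * (u (Sum.inl (Sum.inr 1)) - b * u (Sum.inl (Sum.inl 1)))) / (4 * b - a ^ 2),
   (2 * (u (Sum.inl (Sum.inr 1)) - b * u (Sum.inl (Sum.inl 1)))
      - a * (u (Sum.inl (Sum.inr 0)) - u (Sum.inl (Sum.inl 0)) - a * u (Sum.inl (Sum.inl 1)))) / (4 * b - a ^ 2)⟩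

/-- auxiliary coordinates -/
def zOf (u : I6m → F) : KK a b := ⟨u (Sum.inr 0), u (Sum.inr 1)⟩

/-- the embedding of `F⁶` as the fixed space of `tau` -/
def E (u : I6m → F) : I6 → KK a b :=
  Sum.elim ![yOf a b u + sOf a b u, ε⁻¹ * yOf a b u, zOf a b u]
    ![star (yOf a b u + sOf a b u), star (ε⁻¹ * yOf a b u), star (zOf a b u)]

/-- the inverse map -/
def P (v : I6 → KK a b) : I6m → F :=
  Sum.elim (Sum.elim
    ![(v (Sum.inl 0) - ε * v (Sum.inl 1)).re, (v (Sum.inl 0) - ε * v (Sum.inl 1)).im]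
    ![2 * (ε * v (Sum.inl 1)).re + a * (ε * v (Sum.inl 1)).im + (v (Sum.inl 0) - ε * v (Sum.inl 1)).re
        + a * (v (Sum.inl 0) - ε * v (Sum.inl 1)).im,
      a * (ε * v (Sum.inl 1)).re + 2 * b * (ε * v (Sum.inl 1)).im + b * (v (Sum.inl 0) - ε * v (Sum.inl 1)).im])
    ![(v (Sum.inl 2)).re, (v (Sum.inl 2)).im]

lemma tau_E (u : I6m → F) : tau a b (E a b ε u) = E a b ε u := by
  ext k
  · rcases k with k | k <;> fin_cases k <;> simp [tau, E]
  · rcases k with k | k <;> fin_cases k <;> simp [tau, E]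

lemma E_add (u u' : I6m → F) : E a b ε (u + u') = E a b ε u + E a b ε u' := by
  have hs : sOf a b (u + u') = sOf a b u + sOf a b u' := by ext <;> simp [sOf]
  have hy : yOf a b (u + u') = yOf a b u + yOf a b u' := by ext <;> simp [yOf] <;> ring
  have hz : zOf a b (u + u') = zOf a b u + zOf a b u' := by ext <;> simp [zOf]
  funext k
  rcases k with k | k <;> fin_cases k <;> simp [E, hs, hy, hz, mul_add] <;> abel

lemma E_smul (c : F) (u : I6m → F) : E a b ε (c • u) = (cc c) • E a b ε u := by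
  have hs : sOf a b (c • u) = cc c * sOf a b u := by ext <;> simp [sOf]
  have hy : yOf a b (c • u) = cc c * yOf a b u := by ext <;> simp [yOf] <;> ring
  have hz : zOf a b (c • u) = cc c * zOf a b u := by ext <;> simp [zOf]
  have hst : star (cc c : KK a b) = cc c := by ext <;> simp
  funext k
  rcases k with k | k <;> fin_cases k <;> simp [E, hs, hy, hz, hst, mul_add] <;> ring

lemma P_add (v v' : I6 → KK a b) : P a b ε (v + v') = P a b ε v + P a b ε v' := by
  funext k
  rcases k with (k | k) | k <;> fin_cases k <;> simp [P] <;> ring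

lemma P_smul (c : F) (v : I6 → KK a b) : P a b ε ((cc c) • v) = c • P a b ε v := by
  funext k
  rcases k with (k | k) | k <;> fin_cases k <;> simp [P] <;> ring

lemma P_E (hε : ε ≠ 0) (hΔ : 4 * b - a ^ 2 ≠ 0) (u : I6m → F) : P a b ε (E a b ε u) = u := by
  have hΔ1 : b * 4 - a ^ 2 ≠ 0 := by rwa [mul_comm]
  have hΔ2 : -a ^ 2 + b * 4 ≠ 0 := by rw [neg_add_eq_sub]; exact hΔ1
  have h1 : ε * (ε⁻¹ * yOf a b u) = yOf a b u := by rw [← mul_assoc, mul_inv_cancel₀ hε, one_mul]
  funext k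
  rcases k with (k | k) | k <;> fin_cases k <;> simp [P, E, h1]
  · simp [sOf]
  · simp [sOf]
  · simp [sOf, yOf]
    field_simp
    ring
  · simp [sOf, yOf]
    field_simp
    ring
  · simp [zOf]
  · simp [zOf]

lemma E_P (hε : ε ≠ 0) (hΔ : 4 * b - a ^ 2 ≠ 0) (v : I6 → KK a b) (hv : tau a b v = v) :
    E a b ε (P a b ε v) = v := by
  have hΔ1 : b * 4 - a ^ 2 ≠ 0 := by rwa [mul_comm]
  have hΔ2 : -a ^ 2 + b * 4 ≠ 0 := by rw [neg_add_eq_sub]; exact hΔ1
  have hy : yOf a b (P a b ε v) = ε * v (Sum.inl 1) := by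
    ext
    · simp [yOf, P]
      field_simp
      ring
    · simp [yOf, P]
      field_simp
      ring
  have hs : sOf a b (P a b ε v) = v (Sum.inl 0) - ε * v (Sum.inl 1) := by
    ext <;> simp [sOf, P]
  have hz : zOf a b (P a b ε v) = v (Sum.inl 2) := by
    ext <;> simp [zOf, P]
  have h1 : ε⁻¹ * (ε * v (Sum.inl 1)) = v (Sum.inl 1) := by rw [← mul_assoc, inv_mul_cancel₀ hε, one_mul]
  have hr : ∀ i, v (Sum.inr i) = star (v (Sum.inl i)) := by
    intro i
    have := congrFun hv (Sum.inr i)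
    simp only [tau, Sum.swap_inr] at this
    exact this.symm
  funext k
  rcases k with k | k <;> fin_cases k <;> simp [E, hy, hs, hz, h1, hr]

lemma Q_E (hε : QuadraticAlgebra.norm ε = -1) (hΔ : 4 * b - a ^ 2 ≠ 0) (u : I6m → F) :
    Cfsg.quadFormPlus 3 (KK a b) (E a b ε u) = cc (Cfsg.quadFormMinus 2 F a b u) := by
  have hΔ1 : b * 4 - a ^ 2 ≠ 0 := by rwa [mul_comm]
  have hΔ2 : -a ^ 2 + b * 4 ≠ 0 := by rw [neg_add_eq_sub]; exact hΔ1
  have hε0 : ε ≠ 0 := by
    rintro rfl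
    simp at hε
  have hinv : QuadraticAlgebra.norm ε⁻¹ = -1 := by
    have h1 : QuadraticAlgebra.norm ε * QuadraticAlgebra.norm ε⁻¹ = 1 := by
      rw [← map_mul, mul_inv_cancel₀ hε0, map_one]
    rw [hε] at h1
    linear_combination -h1
  have h0 : Cfsg.quadFormPlus 3 (KK a b) (E a b ε u) =
      cc (QuadraticAlgebra.norm (yOf a b u + sOf a b u) + QuadraticAlgebra.norm (ε⁻¹ * yOf a b u)
        + QuadraticAlgebra.norm (zOf a b u)) := by
    rw [map_add, map_add, algebraMap_norm_eq_mul_star, algebraMap_norm_eq_mul_star, algebraMap_norm_eq_mul_star]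
    simp [Cfsg.quadFormPlus, Fin.sum_univ_three, E]
  rw [h0, map_mul, hinv]
  congr 1
  simp only [QuadraticAlgebra.norm_def, Cfsg.quadFormMinus, Fin.sum_univ_two]
  simp [yOf, sOf, zOf]
  field_simp
  ring

/-! ### The action of `SU₄` -/

lemma tau_eq_swapI (w : I6 → KK a b) : tau a b w = swapI (fun k => star (w k)) := rfl

lemma tau_tau (v : I6 → KK a b) : tau a b (tau a b v) = v := by
  funext k
  simp [tau]

lemma tau_add (v w : I6 → KK a b) : tau a b (v + w) = tau a b v + tau a b w := by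
  funext k
  simp [tau]

lemma tau_smul (l : KK a b) (v : I6 → KK a b) : tau a b (l • v) = star l • tau a b v := by
  funext k
  simp [tau]

lemma unitary_star (g : ↥(Cfsg.SU 4 (KK a b) (Fintype.card F))) :
    (g.1.1)ᵀ * (starRingEnd (KK a b)).mapMatrix g.1.1 = 1 := by
  let _ : Fintype (KK a b) := fintypeKK a b
  have hK : Fintype.card (KK a b) = Fintype.card F ^ 2 := card_KK a b
  have h := Cfsg.Agent.Lib.Helper5_SUOrder.transpose_mul_map_of_isU hK
    ((Cfsg.Agent.Lib.Helper5_SUOrder.mem_SU_iff g.1).mp g.2)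
  have h2 : (Cfsg.Agent.Lib.Helper5_SUOrder.powQ hK).mapMatrix g.1.1 = (starRingEnd (KK a b)).mapMatrix g.1.1 := by
    ext i j
    · show ((g.1.1 i j) ^ Fintype.card F).re = (star (g.1.1 i j)).re
      rw [pow_card_eq_star]
    · show ((g.1.1 i j) ^ Fintype.card F).im = (star (g.1.1 i j)).im
      rw [pow_card_eq_star]
  rw [← h2]
  exact h

lemma L_inv_apply {K : Type*} [Field K] (g : SpecialLinearGroup (Fin 4) K) (v : I6 → K) : L g (L g⁻¹ v) = v := by
  have := Cfsg.Agent.Lib.Helper5_Klein.L_mul g g⁻¹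
  rw [mul_inv_cancel, L_one] at this
  have h2 := congrArg (fun f => f v) this
  simpa using h2.symm

lemma tau_L (g : ↥(Cfsg.SU 4 (KK a b) (Fintype.card F))) (v : I6 → KK a b) :
    tau a b (L g.1 v) = L g.1 (tau a b v) := by
  set σ : KK a b →+* KK a b := starRingEnd (KK a b) with hσ
  set gs := SpecialLinearGroup.map σ g.1 with hgs
  have hmap := L_map σ g.1 v
  have hgh : (g.1⁻¹).1 = gs.1ᵀ := by
    have h1 : gs.1ᵀ * g.1.1 = 1 := by
      have := congrArg Matrix.transpose (unitary_star a b g)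
      rw [Matrix.transpose_mul, Matrix.transpose_transpose, Matrix.transpose_one] at this
      exact this
    have h2 : g.1.1 * (g.1⁻¹).1 = 1 :=
      congrArg (fun x : SpecialLinearGroup (Fin 4) (KK a b) => x.1) (mul_inv_cancel g.1)
    calc (g.1⁻¹).1 = (gs.1ᵀ * g.1.1) * (g.1⁻¹).1 := by rw [h1, Matrix.one_mul]
      _ = gs.1ᵀ * (g.1.1 * (g.1⁻¹).1) := by rw [Matrix.mul_assoc]
      _ = gs.1ᵀ := by rw [h2, Matrix.mul_one]
  have hsw := L_swap gs g.1⁻¹ hgh (fun k => σ (v k))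
  have h3 : swapI (L gs (fun k => σ (v k))) = L g.1 (swapI (fun k => σ (v k))) := by
    rw [← hsw, L_inv_apply]
  rw [tau_eq_swapI, tau_eq_swapI]
  have h4 : (fun k => star (L g.1 v k)) = L gs (fun k => σ (v k)) := hmap.symm
  rw [h4, h3]
  rfl

variable (hε : QuadraticAlgebra.norm ε = -1) (hΔ : 4 * b - a ^ 2 ≠ 0)

include hε in
lemma eps_ne_zero : ε ≠ 0 := by
  rintro rfl
  simp at hε

/-- the action on `F⁶` -/
def L6 (g : ↥(Cfsg.SU 4 (KK a b) (Fintype.card F))) : (I6m → F) →ₗ[F] (I6m → F) where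
  toFun u := P a b ε (L g.1 (E a b ε u))
  map_add' u u' := by rw [E_add, map_add, P_add]
  map_smul' c u := by
    rw [E_smul, map_smul, P_smul]
    rfl

lemma L6_apply (g : ↥(Cfsg.SU 4 (KK a b) (Fintype.card F))) (u : I6m → F) :
    L6 a b ε g u = P a b ε (L g.1 (E a b ε u)) := rfl

include hε hΔ in
lemma E_L6 (g : ↥(Cfsg.SU 4 (KK a b) (Fintype.card F))) (u : I6m → F) :
    E a b ε (L6 a b ε g u) = L g.1 (E a b ε u) := by
  rw [L6_apply, E_P a b ε (eps_ne_zero a b ε hε) hΔ]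
  rw [tau_L, tau_E]

include hε hΔ in
lemma L6_mul (g h : ↥(Cfsg.SU 4 (KK a b) (Fintype.card F))) :
    L6 a b ε (g * h) = L6 a b ε g ∘ₗ L6 a b ε h := by
  refine LinearMap.ext fun u => ?_
  rw [LinearMap.comp_apply, L6_apply, L6_apply, E_L6 a b ε hε hΔ]
  show P a b ε (L (g.1 * h.1) (E a b ε u)) = _
  rw [Cfsg.Agent.Lib.Helper5_Klein.L_mul]
  rfl

include hε hΔ in
lemma L6_one : L6 a b ε (1 : ↥(Cfsg.SU 4 (KK a b) (Fintype.card F))) = LinearMap.id := by
  refine LinearMap.ext fun u => ?_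
  rw [L6_apply]
  show P a b ε (L (1 : SpecialLinearGroup (Fin 4) (KK a b)) (E a b ε u)) = _
  rw [L_one, LinearMap.id_apply, P_E a b ε (eps_ne_zero a b ε hε) hΔ, LinearMap.id_apply]

include hε hΔ in
lemma Q_L6 (g : ↥(Cfsg.SU 4 (KK a b) (Fintype.card F))) (u : I6m → F) :
    Cfsg.quadFormMinus 2 F a b (L6 a b ε g u) = Cfsg.quadFormMinus 2 F a b u := by
  have h1 := Q_E a b ε hε hΔ (L6 a b ε g u)
  rw [E_L6 a b ε hε hΔ, Cfsg.Agent.Lib.Helper5_Klein.Q_L, Q_E a b ε hε hΔ] at h1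
  exact (algebraMap_injective h1).symm

include hε hΔ in
lemma toMatrix'_L6_mul (g h : ↥(Cfsg.SU 4 (KK a b) (Fintype.card F))) :
    LinearMap.toMatrix' (L6 a b ε g) * LinearMap.toMatrix' (L6 a b ε h) = LinearMap.toMatrix' (L6 a b ε (g * h)) := by
  rw [L6_mul a b ε hε hΔ, LinearMap.toMatrix'_comp]

/-- The representation of `SU₄(q)` on the 6-dimensional orthogonal space of minus type. -/
def rho6 : ↥(Cfsg.SU 4 (KK a b) (Fintype.card F)) →* ↥(Cfsg.isometryGroup F (⇑(qfMinus 2 F a b))) where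
  toFun g := ⟨⟨LinearMap.toMatrix' (L6 a b ε g), LinearMap.toMatrix' (L6 a b ε g⁻¹),
      by rw [toMatrix'_L6_mul a b ε hε hΔ, mul_inv_cancel, L6_one a b ε hε hΔ, LinearMap.toMatrix'_id],
      by rw [toMatrix'_L6_mul a b ε hε hΔ, inv_mul_cancel, L6_one a b ε hε hΔ, LinearMap.toMatrix'_id]⟩, by
    rw [mem_isometryGroup_iff]
    intro u
    show qfMinus 2 F a b (LinearMap.toMatrix' (L6 a b ε g) *ᵥ u) = qfMinus 2 F a b u
    rw [LinearMap.toMatrix'_mulVec, coe_qfMinus, Q_L6 a b ε hε hΔ]⟩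
  map_one' := by
    apply Subtype.ext
    apply Units.ext
    show LinearMap.toMatrix' (L6 a b ε (1 : ↥(Cfsg.SU 4 (KK a b) (Fintype.card F)))) = 1
    rw [L6_one a b ε hε hΔ, LinearMap.toMatrix'_id]
  map_mul' g h := by
    apply Subtype.ext
    apply Units.ext
    show LinearMap.toMatrix' (L6 a b ε (g * h)) = LinearMap.toMatrix' (L6 a b ε g) * LinearMap.toMatrix' (L6 a b ε h)
    rw [toMatrix'_L6_mul a b ε hε hΔ]

lemma rho6_coe (g : ↥(Cfsg.SU 4 (KK a b) (Fintype.card F))) :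
    ((rho6 a b ε hε hΔ g : Matrix.GeneralLinearGroup I6m F) : Matrix I6m I6m F) = LinearMap.toMatrix' (L6 a b ε g) := rfl

lemma rho6_mulVec (g : ↥(Cfsg.SU 4 (KK a b) (Fintype.card F))) (u : I6m → F) :
    ((rho6 a b ε hε hΔ g : Matrix.GeneralLinearGroup I6m F) : Matrix I6m I6m F) *ᵥ u = L6 a b ε g u := by
  rw [rho6_coe, LinearMap.toMatrix'_mulVec]

include hΔ in
lemma delta_ne_zero : (ω : KK a b) - star (ω : KK a b) ≠ 0 := by
  intro h
  have h1 := congrArg QuadraticAlgebra.re h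
  have h2 := congrArg QuadraticAlgebra.im h
  simp at h1 h2
  apply hΔ
  have h3 : (2 : F) = 0 := by linear_combination h2
  have h4 : (4 : F) = 0 := by linear_combination 2 * h3
  rw [h4, h1]
  ring

include hε hΔ in
/-- If `g` acts as a scalar on `F⁶`, then it acts as a scalar in the Klein representation. -/
lemma L_scalar_of_L6 (g : ↥(Cfsg.SU 4 (KK a b) (Fintype.card F))) (c : F)
    (h : ∀ u, L6 a b ε g u = c • u) (v : I6 → KK a b) : L g.1 v = (cc c) • v := by
  have hfix : ∀ w : I6 → KK a b, tau a b w = w → L g.1 w = (cc c) • w := by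
    intro w hw
    rw [← E_P a b ε (eps_ne_zero a b ε hε) hΔ w hw, ← E_L6 a b ε hε hΔ, h, E_smul]
  set δ : KK a b := (ω : KK a b) - star (ω : KK a b) with hδ
  have hδ0 : δ ≠ 0 := delta_ne_zero a b hΔ
  set w₁ := v + tau a b v with hw₁
  set w₂ := (ω : KK a b) • v + tau a b ((ω : KK a b) • v) with hw₂
  have hw₁f : tau a b w₁ = w₁ := by rw [hw₁, tau_add, tau_tau, add_comm]
  have hw₂f : tau a b w₂ = w₂ := by rw [hw₂, tau_add, tau_tau, add_comm]
  have hv : v = δ⁻¹ • (w₂ - star (ω : KK a b) • w₁) := by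
    rw [hw₂, hw₁, tau_smul]
    have : (ω : KK a b) • v + star (ω : KK a b) • tau a b v - star (ω : KK a b) • (v + tau a b v) = δ • v := by
      rw [hδ, sub_smul, smul_add]
      abel
    rw [this, smul_smul, inv_mul_cancel₀ hδ0, one_smul]
  rw [hv, map_smul, map_sub, map_smul, hfix w₂ hw₂f, hfix w₁ hw₁f]
  simp only [smul_sub, smul_smul]
  congr 1
  · congr 1
    ring
  · congr 1
    ring

end Cfsg.Agent.Lib.Helper5_KleinSU
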