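import Mathlib
import Cfsg.Agent.Lib.Helper26_OctRes
import Cfsg.Agent.Lib.Helper91_M24Stab3

/-!
The stabiliser of the base octad acts on the sixteen remaining points as a group of affine maps of
a four-dimensional space over the field with two elements: labels of the points by vectors of
`Fin 5 → ZMod 2` (zero on the octad), linearity of every element of the stabiliser, and the
resulting injective matrix homomorphism.
-/

set_option autoImplicit false
open scoped Pointwise
open Cfsg
open Cfsg.Agent.Lib.Helper26_Golay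
open Cfsg.Agent.Lib.Helper91_M24Stab Cfsg.Agent.Lib.Helper91_M24Stab3

namespace Cfsg.Agent.Lib.Helper91_OctAffine

theorem sum_eq_range {M : Type*} [AddCommMonoid M] (s : Finset GolayPt) (F : GolayPt → M) :
    ∑ q ∈ s, F q =
      ∑ i ∈ Finset.range 24, if (enc s).testBit i = true then F (pt i) else 0 := by
  rw [← Finset.sum_filter]
  have h : (Finset.range 24).filter (fun i => (enc s).testBit i = true) = s.image idx := by
    ext i
    rw [Finset.mem_filter, Finset.mem_range, Finset.mem_image, testBit_enc]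
    constructor
    · rintro ⟨_, p, hp, rfl⟩
      exact ⟨p, hp, rfl⟩
    · rintro ⟨p, hp, rfl⟩
      exact ⟨idx_lt p, p, hp, rfl⟩
  rw [h, Finset.sum_image (fun a _ b _ hab => idx_injective hab)]
  apply Finset.sum_congr rfl
  intro q _
  rw [pt_idx]

theorem dec_octAt_mem {j : ℕ} (hj : j < 759) : dec (octAt j) ∈ octads := by
  rw [mem_octads_iff, enc_dec _ (octAt_lt j)]
  exact List.mem_map.mpr ⟨j, List.mem_range.mpr hj, rfl⟩

def LW : ℕ := 0x356a8000f816074f2de40e820820

/-- the label (a number below 32, read as a vector of five bits) of the point with index `i` -/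
def lw (i : ℕ) : ℕ := (LW >>> (5 * i)) &&& 31

/-- the label of a point as a vector over the field with two elements -/
def ℓ (q : GolayPt) : Fin 5 → ZMod 2 := fun k => (((lw (idx q) >>> k.val) &&& 1 : ℕ) : ZMod 2)

theorem planesCheck : allFold (fun j => !(pop (octAt j &&& octAt 0) == 4) ||
    allFold (fun k => (sumFold (fun i => ((octAt j >>> i) &&& 1) * ((lw i >>> k) &&& 1)) 24) % 2 == 0) 5)
    759 = true := by
  decide +kernel

theorem zeroCheck : allFold (fun i => !((octAt 0 >>> i) &&& 1 == 1) || (lw i == 0)) 24 = true := by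
  decide +kernel

theorem baseCheck : lw 1 = 1 ∧ lw 2 = 2 ∧ lw 3 = 4 ∧ lw 4 = 8 ∧ lw 6 = 16 := by
  decide +kernel

/-- labels of points outside the base octad determine the point -/
theorem injCheck : allFold (fun i => allFold (fun j =>
    !(allFold (fun k => ((lw i >>> k) &&& 1) == ((lw j >>> k) &&& 1)) 5) ||
      (allFold (fun k => ((lw i >>> k) &&& 1) == 0) 5) || (i == j)) 24) 24 = true := by
  decide +kernel

theorem ℓ_zero_of_mem {q : GolayPt} (hq : q ∈ oct0) : ℓ q = 0 := by
  have h := (allFold_eq_true _ _).mp zeroCheck (idx q) (idx_lt q)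
  have h1 : (octAt 0 >>> idx q) &&& 1 = 1 := by
    rw [← enc_oct0]
    exact (mem_iff_bit oct0 q).mp hq
  rw [h1] at h
  simp only [beq_self_eq_true, Bool.not_true, Bool.false_or, beq_iff_eq] at h
  funext k
  unfold ℓ
  rw [h]
  simp

/-- the labels of the points of an octad meeting the base octad in four points add up to zero -/
theorem sum_octad_eq_zero {o : Finset GolayPt} (ho : o ∈ octads) (h4 : (o ∩ oct0).card = 4) :
    ∑ q ∈ o, ℓ q = 0 := by
  obtain ⟨j, hj, hjo⟩ := exists_index_of_mem_octads ho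
  have h := (allFold_eq_true _ _).mp planesCheck j hj
  have hp : pop (octAt j &&& octAt 0) = 4 := by
    rw [hjo, ← enc_oct0, ← card_inter_eq_pop, h4]
  rw [hp] at h
  simp only [beq_self_eq_true, Bool.not_true, Bool.false_or] at h
  funext k
  have hk := (allFold_eq_true _ _).mp h k.val k.isLt
  rw [beq_iff_eq, sumFold_eq] at hk
  rw [Finset.sum_apply]
  unfold ℓ
  rw [← Nat.cast_sum, sum_eq_range o (fun q => (lw (idx q) >>> k.val) &&& 1)]
  have e : ∑ i ∈ Finset.range 24, (if (enc o).testBit i = true then (lw (idx (pt i)) >>> k.val) &&& 1 else 0)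
      = ∑ i ∈ Finset.range 24, ((octAt j >>> i) &&& 1) * ((lw i >>> k.val) &&& 1) := by
    apply Finset.sum_congr rfl
    intro i hi
    rw [Finset.mem_range] at hi
    rw [idx_pt i hi, hjo, bit_eq_ite (enc o) i]
    split_ifs <;> simp
  rw [e]
  exact (ZMod.natCast_eq_zero_iff _ 2).mpr (Nat.dvd_of_mod_eq_zero hk)


/-! ### the matrix of an element of the stabiliser and its linearity -/

/-- the five base points, labelled by the standard basis vectors -/
def bpIdx (j : Fin 5) : ℕ := ![1, 2, 3, 4, 6] j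

def bp (j : Fin 5) : GolayPt := pt (bpIdx j)

theorem bpIdx_lt (j : Fin 5) : bpIdx j < 24 := by
  fin_cases j <;> simp [bpIdx]

theorem lw_bpIdx (j : Fin 5) : lw (bpIdx j) = 2 ^ j.val := by
  obtain ⟨h0, h1, h2, h3, h4⟩ := baseCheck
  fin_cases j
  · exact h0
  · exact h1
  · exact h2
  · exact h3
  · exact h4

theorem ℓ_bp (j : Fin 5) : ℓ (bp j) = Pi.single j 1 := by
  funext k
  unfold ℓ bp
  rw [idx_pt _ (bpIdx_lt j), lw_bpIdx]
  fin_cases j <;> fin_cases k <;> simp

/-- the matrix whose columns are the labels of the images of the base points -/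
def Mat (g : Equiv.Perm GolayPt) : Matrix (Fin 5) (Fin 5) (ZMod 2) :=
  Matrix.of fun i j => ℓ (g (bp j)) i

/-- the defect of linearity of `g` at the point `q` -/
def Err (g : Equiv.Perm GolayPt) (q : GolayPt) : Fin 5 → ZMod 2 :=
  ℓ (g q) - Matrix.mulVec (Mat g) (ℓ q)

theorem Err_bp (g : Equiv.Perm GolayPt) (j : Fin 5) : Err g (bp j) = 0 := by
  unfold Err
  rw [ℓ_bp, Matrix.mulVec_single_one]
  funext i
  simp [Mat, Matrix.col_apply]

theorem Err_of_mem {g : Equiv.Perm GolayPt} (hgo : g • oct0 = oct0) {q : GolayPt} (hq : q ∈ oct0) :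
    Err g q = 0 := by
  unfold Err
  have h1 : g q ∈ oct0 := (mem_iff_of_smul_eq hgo q).mpr hq
  rw [ℓ_zero_of_mem hq, ℓ_zero_of_mem h1, Matrix.mulVec_zero, sub_zero]

theorem sum_Err {g : Equiv.Perm GolayPt} (hg : g ∈ M24) (hgo : g • oct0 = oct0)
    {o : Finset GolayPt} (ho : o ∈ octads) (h4 : (o ∩ oct0).card = 4) :
    ∑ q ∈ o, Err g q = 0 := by
  unfold Err
  rw [Finset.sum_sub_distrib, ← Matrix.mulVec_sum, sum_octad_eq_zero ho h4, Matrix.mulVec_zero,
    sub_zero]
  have h1 : g • o ∈ octads := smul_mem_octads hg ho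
  have h2 : (g • o ∩ oct0).card = 4 := by
    conv_lhs => rw [← hgo]
    rw [card_inter_smul, h4]
  have h3 := sum_octad_eq_zero h1 h2
  rw [Finset.smul_finset_def, Finset.sum_image (fun a _ b _ hab =>
    g.injective (by simpa [Equiv.Perm.smul_def] using hab))] at h3
  exact h3

theorem Err_step {g : Equiv.Perm GolayPt} (hg : g ∈ M24) (hgo : g • oct0 = oct0)
    {o : Finset GolayPt} (ho : o ∈ octads) (h4 : (o ∩ oct0).card = 4) {q₀ : GolayPt} (hq₀ : q₀ ∈ o)
    (h : ∀ q ∈ o, q ≠ q₀ → Err g q = 0) : Err g q₀ = 0 := by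
  have h1 := sum_Err hg hgo ho h4
  rw [← Finset.add_sum_erase o _ hq₀] at h1
  have h2 : ∑ q ∈ o.erase q₀, Err g q = 0 := by
    apply Finset.sum_eq_zero
    intro q hq
    rw [Finset.mem_erase] at hq
    exact h q hq.2 hq.1
  rw [h2, add_zero] at h1
  exact h1

/-- the check of a propagation certificate: each step names an octad meeting the base octad in
four points, all of whose points but one are already known -/
def propOk : ℕ → List (ℕ × ℕ) → Bool
  | K, [] => K == 2 ^ 24 - 1
  | K, (j, i) :: r => decide (j < 759) && (pop (octAt j &&& octAt 0) == 4) &&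
      ((octAt j &&& K) ||| 2 ^ i == octAt j) && propOk (K ||| 2 ^ i) r

theorem propOk_sound {g : Equiv.Perm GolayPt} (hg : g ∈ M24) (hgo : g • oct0 = oct0) :
    ∀ (steps : List (ℕ × ℕ)) (K : ℕ), propOk K steps = true →
      (∀ q, K.testBit (idx q) = true → Err g q = 0) → ∀ q, Err g q = 0 := by
  intro steps
  induction steps with
  | nil =>
    intro K hK hq q
    unfold propOk at hK
    rw [beq_iff_eq] at hK
    apply hq
    rw [hK, Nat.testBit_two_pow_sub_one]
    simpa using idx_lt q
  | cons s r ih =>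
    intro K hK hq
    obtain ⟨j, i⟩ := s
    unfold propOk at hK
    rw [Bool.and_eq_true, Bool.and_eq_true, Bool.and_eq_true, decide_eq_true_eq, beq_iff_eq,
      beq_iff_eq] at hK
    obtain ⟨⟨⟨hj, hpop⟩, hmask⟩, hrest⟩ := hK
    apply ih (K ||| 2 ^ i) hrest
    have ho : dec (octAt j) ∈ octads := dec_octAt_mem hj
    have h4 : (dec (octAt j) ∩ oct0).card = 4 := by
      rw [card_inter_eq_pop, enc_dec _ (octAt_lt j), enc_oct0, hpop]
    -- the new point
    have hbit : (octAt j).testBit i = true := by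
      rw [← hmask, Nat.testBit_or, Nat.testBit_two_pow]
      simp
    have hi : i < 24 := by
      by_contra hcon
      have h1 : (octAt j).testBit i = false := by
        apply Nat.testBit_lt_two_pow
        calc octAt j < 2 ^ 24 := octAt_lt j
          _ ≤ 2 ^ i := Nat.pow_le_pow_right (by norm_num) (by omega)
      rw [h1] at hbit
      exact Bool.noConfusion hbit
    have hnew : Err g (pt i) = 0 := by
      apply Err_step hg hgo ho h4 (q₀ := pt i)
      · rw [mem_dec, idx_pt i hi]
        exact hbit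
      · intro q hqo hne
        apply hq
        rw [mem_dec] at hqo
        have h1 : ((octAt j &&& K) ||| 2 ^ i).testBit (idx q) = true := by rw [hmask]; exact hqo
        rw [Nat.testBit_or, Nat.testBit_and, Nat.testBit_two_pow] at h1
        have h2 : i ≠ idx q := by
          intro h
          apply hne
          rw [← pt_idx q, ← h]
        simpa [h2, hqo] using h1
    intro q hqK
    rw [Nat.testBit_or, Nat.testBit_two_pow, Bool.or_eq_true, decide_eq_true_eq] at hqK
    rcases hqK with h | h
    · exact hq q h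
    · rw [← pt_idx q, ← h]
      exact hnew

def steps : List (ℕ × ℕ) := [(19, 13), (35, 5), (47, 21), (7, 19), (1, 15), (3, 20), (78, 7), (131, 8), (210, 9), (330, 10), (506, 11)]

theorem steps_ok : propOk (octAt 0 ||| 94) steps = true := by decide +kernel

theorem bits94 : ∀ i < 24, (94 : ℕ).testBit i = true → i = 1 ∨ i = 2 ∨ i = 3 ∨ i = 4 ∨ i = 6 := by
  decide

/-- every element of the stabiliser of the base octad acts linearly on the labels -/
theorem err_eq_zero {g : Equiv.Perm GolayPt} (hg : g ∈ M24) (hgo : g • oct0 = oct0) (q : GolayPt) :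
    Err g q = 0 := by
  apply propOk_sound hg hgo steps (octAt 0 ||| 94) steps_ok
  intro q hq
  rw [Nat.testBit_or, Bool.or_eq_true] at hq
  rcases hq with h | h
  · apply Err_of_mem hgo
    rw [← testBit_enc_idx, enc_oct0]
    exact h
  · have hb : ∀ j : Fin 5, idx q = bpIdx j → Err g q = 0 := by
      intro j hj
      have : q = bp j := by
        unfold bp
        rw [← hj, pt_idx]
      rw [this]
      exact Err_bp g j
    rcases bits94 (idx q) (idx_lt q) h with h1 | h1 | h1 | h1 | h1
    · exact hb 0 h1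
    · exact hb 1 h1
    · exact hb 2 h1
    · exact hb 3 h1
    · exact hb 4 h1

theorem lin {g : Equiv.Perm GolayPt} (hg : g ∈ M24) (hgo : g • oct0 = oct0) (q : GolayPt) :
    ℓ (g q) = Matrix.mulVec (Mat g) (ℓ q) := by
  have h := err_eq_zero hg hgo q
  unfold Err at h
  exact sub_eq_zero.mp h

theorem Mat_one : Mat 1 = 1 := by
  ext i j
  unfold Mat
  rw [Matrix.of_apply, Equiv.Perm.one_apply, ℓ_bp, Matrix.one_apply, Pi.single_apply]

theorem Mat_mul {g h : Equiv.Perm GolayPt} (hg : g ∈ M24) (hgo : g • oct0 = oct0) :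
    Mat (g * h) = Mat g * Mat h := by
  ext i j
  have h1 := congrFun (lin hg hgo (h (bp j))) i
  rw [Matrix.mul_apply]
  unfold Mat at h1 ⊢
  rw [Matrix.of_apply, Equiv.Perm.mul_apply, h1, Matrix.mulVec, dotProduct]
  rfl


/-! ### injectivity -/

theorem injCheck' : allFold (fun i => allFold (fun j =>
    !(allFold (fun k => ((lw i >>> k) &&& 1) == ((lw j >>> k) &&& 1)) 5) ||
      ((octAt 0 >>> i) &&& 1 == 1) || (i == j)) 24) 24 = true := by
  decide +kernel

theorem bit_cast_inj {a b : ℕ} (h : (((a &&& 1 : ℕ)) : ZMod 2) = ((b &&& 1 : ℕ) : ZMod 2)) :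
    a &&& 1 = b &&& 1 := by
  have h1 := (ZMod.natCast_eq_natCast_iff' _ _ 2).mp h
  rw [Nat.and_one_is_mod, Nat.and_one_is_mod] at h1 ⊢
  omega

/-- a point outside the base octad is determined by its label -/
theorem eq_of_ℓ_eq {q r : GolayPt} (hq : q ∉ oct0) (h : ℓ q = ℓ r) : q = r := by
  have hc := (allFold_eq_true _ _).mp ((allFold_eq_true _ _).mp injCheck' (idx q) (idx_lt q))
    (idx r) (idx_lt r)
  have h1 : allFold (fun k => ((lw (idx q) >>> k) &&& 1) == ((lw (idx r) >>> k) &&& 1)) 5 = true := by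
    rw [allFold_eq_true]
    intro k hk
    rw [beq_iff_eq]
    have := congrFun h ⟨k, hk⟩
    unfold ℓ at this
    exact bit_cast_inj this
  have h2 : ((octAt 0 >>> idx q) &&& 1 == 1) = false := by
    rw [beq_eq_false_iff_ne, ← enc_oct0]
    intro h3
    exact hq ((mem_iff_bit oct0 q).mpr h3)
  rw [h1, h2] at hc
  simp only [Bool.not_true, Bool.false_or, beq_iff_eq] at hc
  exact idx_injective hc

def twoOct : List (ℕ × ℕ × ℕ) := [(0, 12, 27), (12, 23, 40), (14, 24, 27), (16, 23, 30), (17, 11, 30), (18, 12, 34), (22, 24, 39), (23, 11, 33)]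

theorem twoCheck : allFold (fun i => !((octAt 0 >>> i) &&& 1 == 1) ||
    twoOct.any (fun t => (t.1 == i) && decide (t.2.1 < 759) && decide (t.2.2 < 759) &&
      (pop (octAt t.2.1 &&& octAt 0) == 2) && (pop (octAt t.2.2 &&& octAt 0) == 2) &&
      ((octAt t.2.1 &&& octAt t.2.2) &&& octAt 0 == 2 ^ i))) 24 = true := by
  decide +kernel

/-- an element of `M24` fixing all points outside the base octad preserves every octad meeting the
base octad in two points -/
theorem smul_eq_of_fix {g : Equiv.Perm GolayPt} (hg : g ∈ M24) (hfix : ∀ q, q ∉ oct0 → g q = q)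
    {j : ℕ} (hj : j < 759) (h2 : pop (octAt j &&& octAt 0) = 2) :
    g • dec (octAt j) = dec (octAt j) := by
  have ho : dec (octAt j) ∈ octads := dec_octAt_mem hj
  have hgo : g • dec (octAt j) ∈ octads := smul_mem_octads hg ho
  apply octad_eq_of_five_le hgo ho
  have hsub : dec (octAt j) \ oct0 ⊆ g • dec (octAt j) ∩ dec (octAt j) := by
    intro q hq
    rw [Finset.mem_sdiff] at hq
    rw [Finset.mem_inter]
    refine ⟨?_, hq.1⟩
    rw [← hfix q hq.2]
    exact (mem_smul_iff g q _).mpr hq.1
  have hc : (dec (octAt j) \ oct0).card = 6 := by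
    have h1 := Finset.card_sdiff_add_card_inter (dec (octAt j)) oct0
    have h3 : (dec (octAt j) ∩ oct0).card = 2 := by
      rw [card_inter_eq_pop, enc_dec _ (octAt_lt j), enc_oct0, h2]
    rw [h3, ho.2] at h1
    omega
  have := Finset.card_le_card hsub
  omega

/-- an element of `M24` fixing all points outside the base octad is trivial -/
theorem eq_one_of_fix {g : Equiv.Perm GolayPt} (hg : g ∈ M24) (hgo : g • oct0 = oct0)
    (hfix : ∀ q, q ∉ oct0 → g q = q) : g = 1 := by
  apply Equiv.ext
  intro p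
  rw [Equiv.Perm.one_apply]
  by_cases hp : p ∈ oct0
  · have hc := (allFold_eq_true _ _).mp twoCheck (idx p) (idx_lt p)
    have h1 : (octAt 0 >>> idx p) &&& 1 = 1 := by
      rw [← enc_oct0]
      exact (mem_iff_bit oct0 p).mp hp
    rw [h1] at hc
    simp only [beq_self_eq_true, Bool.not_true, Bool.false_or, List.any_eq_true, Bool.and_eq_true,
      beq_iff_eq, decide_eq_true_eq] at hc
    obtain ⟨⟨p', j1, j2⟩, _, ⟨⟨⟨⟨⟨_, hj1⟩, hj2⟩, hp1⟩, hp2⟩, hmask⟩⟩ := hc
    simp only at hj1 hj2 hp1 hp2 hmask
    have e1 := smul_eq_of_fix hg hfix hj1 hp1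
    have e2 := smul_eq_of_fix hg hfix hj2 hp2
    have hset : dec (octAt j1) ∩ dec (octAt j2) ∩ oct0 = {p} := by
      apply enc_injective
      rw [enc_inter, enc_inter, enc_dec _ (octAt_lt j1), enc_dec _ (octAt_lt j2), enc_oct0, hmask,
        enc_singleton]
    have hpm : p ∈ dec (octAt j1) ∩ dec (octAt j2) ∩ oct0 := by
      rw [hset]
      exact Finset.mem_singleton_self p
    rw [Finset.mem_inter, Finset.mem_inter] at hpm
    have hgp : g p ∈ dec (octAt j1) ∩ dec (octAt j2) ∩ oct0 := by
      rw [Finset.mem_inter, Finset.mem_inter]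
      refine ⟨⟨?_, ?_⟩, (mem_iff_of_smul_eq hgo p).mpr hp⟩
      · have := (mem_smul_iff g p _).mpr hpm.1.1
        rwa [e1] at this
      · have := (mem_smul_iff g p _).mpr hpm.1.2
        rwa [e2] at this
    rw [hset, Finset.mem_singleton] at hgp
    exact hgp
  · exact hfix p hp

/-- the matrix homomorphism is injective on the stabiliser of the base octad -/
theorem eq_one_of_Mat {g : Equiv.Perm GolayPt} (hg : g ∈ M24) (hgo : g • oct0 = oct0)
    (h : Mat g = 1) : g = 1 := by
  apply eq_one_of_fix hg hgo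
  intro q hq
  have h1 := lin hg hgo q
  rw [h, Matrix.one_mulVec] at h1
  have hgq : g q ∉ oct0 := by
    rw [mem_iff_of_smul_eq hgo q]
    exact hq
  exact eq_of_ℓ_eq hgq h1

end Cfsg.Agent.Lib.Helper91_OctAffine
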