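import Mathlib
import Cfsg.Prelude.Def_Transfer
import Cfsg.Prelude.Def_MonsterType
import Cfsg.Prelude.Def_Sporadic_a
import Cfsg.Agent.S0381
import Cfsg.Agent.S0367
import Cfsg.Agent.Lib.Helper26_OctRes
import Cfsg.Agent.Lib.Helper26_OctSplit
import Cfsg.Agent.Lib.Helper91_OctAffine
import Cfsg.Agent.Lib.Helper5_AffineTwoC
import Cfsg.Agent.Lib.Helper5_AffineTwoD

set_option autoImplicit false
set_option linter.style.haveILetI false
set_option linter.unusedSectionVars false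

namespace Cfsg.Agent.Lib.Helper5_M24Oct

open Cfsg
open scoped Pointwise
open Cfsg.Agent.Lib.Helper26_Golay
open Cfsg.Agent.Lib.Helper5_AffineTwo

/-- an element of `M24` stabilising an octad and fixing every point off it is trivial -/
theorem eq_one_of_fix_off {o : Finset GolayPt} (ho : o ∈ octads) {m : Equiv.Perm GolayPt}
    (hm : m ∈ M24) (hmo : m • o = o) (hfix : ∀ q, q ∉ o → m q = q) : m = 1 := by
  obtain ⟨g, hg⟩ := Cfsg.Agent.S0367.result o oct0 ho oct0_mem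
  have hgo : (g : Equiv.Perm GolayPt) • o = oct0 := hg
  have hmem : ∀ x : GolayPt, x ∈ oct0 ↔ (g : Equiv.Perm GolayPt)⁻¹ x ∈ o := by
    intro x
    rw [← hgo, Finset.mem_smul_finset]
    constructor
    · rintro ⟨y, hy, rfl⟩
      simpa [Equiv.Perm.smul_def] using hy
    · intro hx
      exact ⟨_, hx, by simp [Equiv.Perm.smul_def]⟩
  have h1 : (g : Equiv.Perm GolayPt) * m * (g : Equiv.Perm GolayPt)⁻¹ = 1 := by
    apply Cfsg.Agent.Lib.Helper91_OctAffine.eq_one_of_fix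
    · exact M24.mul_mem (M24.mul_mem g.2 hm) (M24.inv_mem g.2)
    · rw [mul_smul, mul_smul]
      have : (g : Equiv.Perm GolayPt)⁻¹ • oct0 = o := by
        rw [← hgo, inv_smul_smul]
      rw [this, hmo, hgo]
    · intro q hq
      rw [hmem] at hq
      rw [Equiv.Perm.mul_apply, Equiv.Perm.mul_apply, hfix _ hq]
      simp
  calc m = (g : Equiv.Perm GolayPt)⁻¹ * ((g : Equiv.Perm GolayPt) * m *
      (g : Equiv.Perm GolayPt)⁻¹) * (g : Equiv.Perm GolayPt) := by group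
    _ = 1 := by rw [h1]; group

variable (o : Finset GolayPt)

/-- the pointwise stabiliser inside the setwise stabiliser -/
def U₁ : Subgroup ↥(setStab o) := (ptStab o).subgroupOf (setStab o)

/-- the complement -/
def M₁ (p : GolayPt) : Subgroup ↥(setStab o) := (setPtStab o p).subgroupOf (setStab o)

instance : (U₁ o).Normal := by
  unfold U₁
  rw [← ker_resHom]
  infer_instance

lemma mem_U₁ (x : ↥(setStab o)) : x ∈ U₁ o ↔ (x : Equiv.Perm GolayPt) ∈ ptStab o :=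
  Subgroup.mem_subgroupOf

lemma mem_M₁ (p : GolayPt) (x : ↥(setStab o)) :
    x ∈ M₁ o p ↔ (x : Equiv.Perm GolayPt) ∈ setPtStab o p :=
  Subgroup.mem_subgroupOf

variable {o}

lemma U₁_elem (ho : o ∈ octads) : Cfsg.IsElementaryAbelian 2 (U₁ o) := by
  refine ⟨⟨⟨fun a b => ?_⟩⟩, fun a ha => ?_⟩
  · apply Subtype.ext
    apply Subtype.ext
    exact ptStab_comm ho ((mem_U₁ o a.1).mp a.2) ((mem_U₁ o b.1).mp b.2)
  · apply Subtype.ext
    show (a : Equiv.Perm GolayPt) ^ 2 = 1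
    rw [sq]
    exact (Cfsg.Agent.S0381.result o ho).2 _ ((mem_U₁ o a).mp ha)

lemma U₁_card (ho : o ∈ octads) : Nat.card ↥(U₁ o) = 2 ^ (3 + 1) := by
  unfold U₁
  rw [Nat.card_congr (Subgroup.subgroupOfEquivOfLe (ptStab_le_setStab o)).toEquiv]
  exact (Cfsg.Agent.S0381.result o ho).1

lemma U₁_inf_M₁ (ho : o ∈ octads) {p : GolayPt} (hp : p ∉ o) : U₁ o ⊓ M₁ o p = ⊥ := by
  rw [Subgroup.eq_bot_iff_forall]
  rintro x ⟨hx1, hx2⟩
  have h3 : (x : Equiv.Perm GolayPt) ∈ ptStab o ⊓ setPtStab o p :=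
    ⟨(mem_U₁ o x).mp hx1, (mem_M₁ o p x).mp hx2⟩
  rw [ptStab_inf_setPtStab ho hp, Subgroup.mem_bot] at h3
  exact Subtype.ext h3

lemma U₁_sup_M₁ (ho : o ∈ octads) {p : GolayPt} (hp : p ∉ o) : U₁ o ⊔ M₁ o p = ⊤ := by
  rw [eq_top_iff]
  intro g _
  obtain ⟨k, hk, h, hh, hkh⟩ := exists_mul_of_mem_setStab ho hp g.2
  have : g = (⟨k, ptStab_le_setStab o hk⟩ : ↥(setStab o)) * ⟨h, setPtStab_le o p hh⟩ :=
    Subtype.ext hkh
  rw [this]
  exact Subgroup.mul_mem_sup ((mem_U₁ o _).mpr hk) ((mem_M₁ o p _).mpr hh)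

lemma faithful (ho : o ∈ octads) {p : GolayPt} (hp : p ∉ o) :
    ∀ m ∈ M₁ o p, (∀ u ∈ U₁ o, m * u * m⁻¹ = u) → m = 1 := by
  intro m hm hc
  have hm' := (mem_M₁ o p m).mp hm
  have hmS := (mem_setStab_iff o _).mp m.2
  have hmp : (m : Equiv.Perm GolayPt) p = p := ((mem_setPtStab_iff o p _).mp hm').2
  apply Subtype.ext
  apply eq_one_of_fix_off ho hmS.1 hmS.2
  intro q hq
  obtain ⟨k, hk, rfl⟩ := ptStab_trans ho hp hq
  have h1 := hc ⟨k, ptStab_le_setStab o hk⟩ ((mem_U₁ o _).mpr hk)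
  have h2 : (m : Equiv.Perm GolayPt) * k * (m : Equiv.Perm GolayPt)⁻¹ = k :=
    congrArg Subtype.val h1
  have h3 : (m : Equiv.Perm GolayPt) * k = k * (m : Equiv.Perm GolayPt) := by
    calc (m : Equiv.Perm GolayPt) * k
        = ((m : Equiv.Perm GolayPt) * k * (m : Equiv.Perm GolayPt)⁻¹) * m := by group
      _ = k * m := by rw [h2]
  have h4 := congrArg (fun τ : Equiv.Perm GolayPt => τ p) h3
  simp only [Equiv.Perm.mul_apply] at h4
  rw [h4, hmp]

lemma card_GL4 : Nat.card (GL (Fin 4) (ZMod 2)) = 20160 := by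
  rw [Matrix.card_GL_field]
  simp [Fin.prod_univ_four]

lemma M₁_card (ho : o ∈ octads) {p : GolayPt} (hp : p ∉ o) : Nat.card ↥(M₁ o p) = 20160 := by
  unfold M₁
  rw [Nat.card_congr (Subgroup.subgroupOfEquivOfLe (setPtStab_le o p)).toEquiv]
  obtain ⟨e⟩ := nonempty_mulEquiv_alt ho hp
  rw [Nat.card_congr e.toEquiv, nat_card_alternatingGroup]
  simp [Nat.factorial]

end Cfsg.Agent.Lib.Helper5_M24Oct
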