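import Mathlib
import Cfsg.Agent.Lib.Helper5_M24OctA

set_option autoImplicit false
set_option linter.style.haveILetI false
set_option linter.unusedSectionVars false

namespace Cfsg.Agent.Lib.Helper5_M24Oct

open Cfsg
open scoped Pointwise
open Cfsg.Agent.Lib.Helper26_Golay
open Cfsg.Agent.Lib.Helper5_AffineTwo

variable {o : Finset GolayPt}

/-- the inclusion of the octad stabiliser into `M24` -/
def jj (o : Finset GolayPt) : ↥(setStab o) →* ↥M24 :=
  Subgroup.inclusion (inf_le_left : setStab o ≤ M24)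

lemma jj_injective (o : Finset GolayPt) : Function.Injective (jj o) :=
  Subgroup.inclusion_injective _

lemma jj_coe (o : Finset GolayPt) (x : ↥(setStab o)) :
    ((jj o x : ↥M24) : Equiv.Perm GolayPt) = (x : Equiv.Perm GolayPt) := rfl

/-- the fixed points of a nontrivial element of the pointwise stabiliser -/
lemma fix_iff (ho : o ∈ octads) (u : ↥(setStab o)) (hu : u ∈ U₁ o) (hu1 : u ≠ 1) (x : GolayPt) :
    (u : Equiv.Perm GolayPt) x = x ↔ x ∈ o := by
  have hu' := (mem_U₁ o u).mp hu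
  constructor
  · intro hx
    by_contra hxo
    apply hu1
    have h3 : (u : Equiv.Perm GolayPt) ∈ ptStab o ⊓ setPtStab o x :=
      ⟨hu', (mem_setPtStab_iff o x _).mpr ⟨u.2, hx⟩⟩
    rw [ptStab_inf_setPtStab ho hxo, Subgroup.mem_bot] at h3
    exact Subtype.ext h3
  · intro hx
    exact ((mem_ptStab_iff o _).mp hu').2 x hx

/-- the centralizer in `M24` of a nontrivial element of the pointwise stabiliser lies in the
octad stabiliser -/
lemma cent_le_range (ho : o ∈ octads) (u : ↥(setStab o)) (hu : u ∈ U₁ o) (hu1 : u ≠ 1) :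
    ∀ g : ↥M24, g * jj o u = jj o u * g → g ∈ (jj o).range := by
  intro g hg
  have hg' : (g : Equiv.Perm GolayPt) * (u : Equiv.Perm GolayPt) =
      (u : Equiv.Perm GolayPt) * (g : Equiv.Perm GolayPt) :=
    congrArg (fun t : ↥M24 => (t : Equiv.Perm GolayPt)) hg
  have hgo : (g : Equiv.Perm GolayPt) • o = o := by
    apply smul_eq_of_mem_iff
    intro x
    rw [← fix_iff ho u hu hu1, ← fix_iff ho u hu hu1 x]
    have h1 := congrArg (fun τ : Equiv.Perm GolayPt => τ x) hg'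
    simp only [Equiv.Perm.mul_apply] at h1
    rw [← h1]
    exact ⟨fun h => (g : Equiv.Perm GolayPt).injective h, fun h => by rw [h]⟩
  exact ⟨⟨g.1, (mem_setStab_iff o _).mpr ⟨g.2, hgo⟩⟩, Subtype.ext rfl⟩

/-- the pointwise stabiliser lies in `O_2` of the centralizer of any of its elements -/
lemma U₁_le_pCore (ho : o ∈ octads) (z₁ : ↥(setStab o)) (hz₁ : z₁ ∈ U₁ o) :
    U₁ o ≤ (Cfsg.pCore 2 ↥(Subgroup.centralizer ({z₁} : Set ↥(setStab o)))).map
      (Subgroup.centralizer ({z₁} : Set ↥(setStab o))).subtype := by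
  set C₁ := Subgroup.centralizer ({z₁} : Set ↥(setStab o)) with hC₁
  obtain ⟨hcomm, hexp⟩ := U₁_elem ho
  have hUC : U₁ o ≤ C₁ := by
    intro u hu
    rw [hC₁, Subgroup.mem_centralizer_iff]
    intro y hy
    rw [Set.mem_singleton_iff] at hy
    subst hy
    have := hcomm.is_comm.comm (⟨y, hz₁⟩ : ↥(U₁ o)) ⟨u, hu⟩
    exact congrArg Subtype.val this
  have hN : ((U₁ o).subgroupOf C₁).Normal := Subgroup.Normal.subgroupOf inferInstance C₁
  have hP : IsPGroup 2 ↥((U₁ o).subgroupOf C₁) := by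
    intro x
    refine ⟨1, ?_⟩
    apply Subtype.ext
    apply Subtype.ext
    show ((x : ↥C₁) : ↥(setStab o)) ^ 2 ^ 1 = 1
    rw [pow_one]
    exact hexp _ (Subgroup.mem_subgroupOf.mp x.2)
  have hle := Cfsg.Agent.Lib.Helper1_Cores.le_pCore hN hP
  intro u hu
  exact ⟨⟨u, hUC hu⟩, hle (Subgroup.mem_subgroupOf.mpr hu), rfl⟩

lemma exists_not_mem (ho : o ∈ octads) : ∃ p : GolayPt, p ∉ o := by
  by_contra h
  push Not at h
  have h1 : o = Finset.univ := Finset.eq_univ_iff_forall.mpr h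
  have h2 : o.card = 8 := ho.2
  rw [h1, Finset.card_univ] at h2
  have h3 : Fintype.card GolayPt = 24 := by
    rw [Fintype.card_option, ZMod.card]
  omega

lemma exists_other (ho : o ∈ octads) (z₁ : ↥(setStab o)) (hz₁ : z₁ ∈ U₁ o) :
    ∃ b ∈ U₁ o, b ≠ 1 ∧ b ≠ z₁ := by
  by_contra h
  push Not at h
  have hle : U₁ o ≤ Subgroup.zpowers z₁ := by
    intro b hb
    by_cases hb1 : b = 1
    · rw [hb1]; exact Subgroup.one_mem _
    · rw [h b hb hb1]; exact Subgroup.mem_zpowers z₁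
  have h1 := Subgroup.card_le_of_le hle
  rw [U₁_card ho, Nat.card_zpowers] at h1
  have hsq : z₁ ^ 2 = 1 := (U₁_elem ho).2 z₁ hz₁
  have h2 : orderOf z₁ ≤ 2 := Nat.le_of_dvd (by norm_num) (orderOf_dvd_of_pow_eq_one hsq)
  omega


theorem main_oct (z : ↥Cfsg.M24) (hz : orderOf z = 2)
    (hfix : (Finset.univ.filter fun p : Cfsg.GolayPt => (z : Equiv.Perm Cfsg.GolayPt) p = p) ∈
      Cfsg.octads) (Q : Subgroup ↥Cfsg.M24)
    (hQ : Q = (Cfsg.pCore 2 ↥(Subgroup.centralizer ({z} : Set ↥Cfsg.M24))).map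
      (Subgroup.centralizer ({z} : Set ↥Cfsg.M24)).subtype) :
    Cfsg.IsExtraspecial 2 ↥Q ∧ Nat.card ↥Q = 2 ^ 7 ∧
      (∃ E : Subgroup ↥Cfsg.M24, E ≤ Q ∧ Cfsg.IsElementaryAbelian 2 E ∧ Nat.card ↥E = 2 ^ 4) ∧
      Cfsg.IsLargeExtraspecial Q ∧
      ∃ K : Subgroup ↥Cfsg.M24, K ≤ Subgroup.centralizer ({z} : Set ↥Cfsg.M24) ∧ Q ⊓ K = ⊥ ∧
        Q ⊔ K = Subgroup.centralizer ({z} : Set ↥Cfsg.M24) ∧
        Nonempty (↥K ≃* Matrix.SpecialLinearGroup (Fin 3) (ZMod 2)) := by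
  set o := Finset.univ.filter fun p : Cfsg.GolayPt => (z : Equiv.Perm Cfsg.GolayPt) p = p with ho'
  have ho : o ∈ octads := hfix
  have hmem_o : ∀ x, x ∈ o ↔ (z : Equiv.Perm GolayPt) x = x := by
    intro x
    rw [ho', Finset.mem_filter]
    simp
  have hzo : (z : Equiv.Perm GolayPt) • o = o := by
    apply smul_eq_of_mem_iff
    intro x
    rw [hmem_o, hmem_o]
    exact ⟨fun h => (z : Equiv.Perm GolayPt).injective h,
      fun h => congrArg (z : Equiv.Perm GolayPt) h⟩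
  have hzS : (z : Equiv.Perm GolayPt) ∈ setStab o := (mem_setStab_iff o _).mpr ⟨z.2, hzo⟩
  let z₁ : ↥(setStab o) := ⟨z, hzS⟩
  have hjz : jj o z₁ = z := Subtype.ext rfl
  have hz₁U : z₁ ∈ U₁ o := by
    rw [mem_U₁, mem_ptStab_iff]
    exact ⟨z.2, fun p hp => (hmem_o p).mp hp⟩
  have hz1 : z ≠ 1 := by
    intro h
    rw [h, orderOf_one] at hz
    omega
  have hz₁1 : z₁ ≠ 1 := by
    intro h
    apply hz1
    rw [← hjz, h, map_one]
  have hz₁sq : z₁ * z₁ = 1 := by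
    rw [← sq]
    exact (U₁_elem ho).2 z₁ hz₁U
  obtain ⟨p, hp⟩ := exists_not_mem ho
  haveI : Finite ↥(U₁ o) := inferInstance
  obtain ⟨κ, hκ⟩ := exists_coords (U₁ o) (U₁_elem ho) (3 + 1) (U₁_card ho)
  have hfull := full_of_card κ hκ (faithful ho hp) (by rw [card_GL4, M₁_card ho hp])
  have hZcard : Nat.card ↥(Subgroup.zpowers z₁) = 2 := by
    rw [Nat.card_zpowers]
    apply orderOf_eq_prime
    · rw [sq]; exact hz₁sq
    · exact hz₁1
  have hcent : Subgroup.centralizer ((Subgroup.zpowers z₁ : Subgroup ↥(setStab o)) : Set ↥(setStab o))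
      = Subgroup.centralizer ({z₁} : Set ↥(setStab o)) := by
    rw [Subgroup.zpowers_eq_closure, Subgroup.centralizer_closure]
  set Q₁ := (Cfsg.pCore 2 ↥(Subgroup.centralizer ({z₁} : Set ↥(setStab o)))).map
      (Subgroup.centralizer ({z₁} : Set ↥(setStab o))).subtype with hQ₁
  have h1 := main 3 (by norm_num) (U₁ o) (M₁ o p) (U₁_elem ho) (U₁_card ho) (U₁_inf_M₁ ho hp)
    (U₁_sup_M₁ ho hp) (faithful ho hp) hfull (Subgroup.zpowers z₁)
    ((Subgroup.zpowers_le).mpr hz₁U) hZcard Q₁ (by rw [hcent])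
  rw [hcent] at h1
  obtain ⟨b, hbU, hb1, hbz⟩ := exists_other ho z₁ hz₁U
  have hbsq : b * b = 1 := by
    rw [← sq]
    exact (U₁_elem ho).2 b hbU
  have hab1 : z₁ * b ≠ 1 := by
    intro h
    apply hbz
    have : b = z₁⁻¹ := eq_inv_of_mul_eq_one_right h
    rw [this]
    exact inv_eq_of_mul_eq_one_left hz₁sq
  have hUQ := U₁_le_pCore ho z₁ hz₁U
  have hQ' : Q = (Cfsg.pCore 2 ↥(Subgroup.centralizer ({jj o z₁} : Set ↥Cfsg.M24))).map
      (Subgroup.centralizer ({jj o z₁} : Set ↥Cfsg.M24)).subtype := by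
    rw [hjz]; exact hQ
  have h2 := push_concl (L := Matrix.GeneralLinearGroup (Fin 3) (ZMod 2)) (jj o) (jj_injective o)
    z₁ (2 ^ (2 * 3 + 1)) (2 ^ (3 + 1))
    (cent_le_range ho z₁ hz₁U hz₁1) Q₁ hQ₁ Q hQ' z₁ b (hUQ hz₁U) (hUQ hbU) hz₁sq hbsq
    (cent_le_range ho z₁ hz₁U hz₁1) (cent_le_range ho b hbU hb1)
    (cent_le_range ho (z₁ * b) ((U₁ o).mul_mem hz₁U hbU) hab1) h1
  rw [hjz] at h2
  obtain ⟨h21, h22, h23, h24, K, hK1, hK2, hK3, ⟨eK⟩⟩ := h2
  exact ⟨h21, h22, h23, h24, K, hK1, hK2, hK3, ⟨eK.trans (slEquivGL 3).symm⟩⟩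

end Cfsg.Agent.Lib.Helper5_M24Oct
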