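import Mathlib
import Cfsg.Agent.Lib.Helper75_MI3MDefs
import Cfsg.Agent.Lib.Helper74_MI3_DICHL

set_option autoImplicit false
set_option linter.unusedVariables false

/-!
# MI3M-TRICH (helper5, package of helper75's market for the `q = 3` slice of S2147)

The local trichotomy at one hyperbolic pair in a minus-type space of dimension `2(k+1)` over `F_3`:
adaptation of `Helper74_MI3_DICHL.dichotomy_local` (whose generic tools `stab`, `stab_translate`,
`exists_decomp`, `card_quotient` are reused).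
-/

namespace Cfsg.Agent.Lib.Helper5_MI3M_TRICH

open Module Cfsg.Agent.Lib.Helper14_OmegaSimple Cfsg.Agent.Lib.Helper22_MI2Defs
  Cfsg.Agent.Lib.Helper44_MI3Defs Cfsg.Agent.Lib.Helper75_MI3MDefs
  Cfsg.Agent.Lib.Helper74_MI3_DICHL

variable {F V : Type*} [Field F] [AddCommGroup V] [Module F V]

section action

variable {X : Type*} [MulAction (V ≃ₗ[F] V) X]

theorem trichotomy_local [Finite F] [FiniteDimensional F V] (Q : QuadraticForm F V) {k : ℕ}
    (hS : MinusSetting3 Q (k + 1)) (hk : 3 ≤ k) {v v' : V} (hv : Q v = 0) (hv' : Q v' = 0)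
    (hvv' : QuadraticMap.polar (⇑Q) v v' = 1)
    (hW : MinusSetting3 (resQ Q (perp2 Q v v')) k)
    (ext : (↥(perp2 Q v v') ≃ₗ[F] ↥(perp2 Q v v')) →* (V ≃ₗ[F] V))
    (hext : IsExt Q (perp2 Q v v') ext)
    (harith : Nsing3 (k + 1) = 1 + 3 * Nsing3 k + 3 ^ (2 * k))
    (hsub : ∀ S : Submodule F ↥(perp2 Q v v'), 1 ≤ finrank F S → finrank F S + 2 ≤ 2 * k →
      Nsing3 (k + 1) ≤ Nat.card (↥(perp2 Q v v') ⧸ S) * (subOrbit (resQ Q (perp2 Q v v')) S).ncard)
    (hhyp : ∀ S : Submodule F ↥(perp2 Q v v'), finrank F S + 1 = 2 * k →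
      Nsing3 k ≤ (subOrbit (resQ Q (perp2 Q v v')) S).ncard)
    (hinj : ∀ (ω : X) (S : Submodule F ↥(perp2 Q v v')),
      (∀ w : ↥(perp2 Q v v'), w ∈ S ↔ E Q v (w : V) • ω = ω) →
      Nat.card (↥(perp2 Q v v') ⧸ S) * (subOrbit (resQ Q (perp2 Q v v')) S).ncard ≤
        {ω' : X | ∃ (w : ↥(perp2 Q v v')) (l : ↥(perp2 Q v v') ≃ₗ[F] ↥(perp2 Q v v')),
          l ∈ T (resQ Q (perp2 Q v v')) ∧ ω' = E Q v (w : V) • ext l • ω}.ncard)
    (Ω : Set X) (hΩ : IsOrbit Q Ω) (hn : Ω.ncard < Nsing3 (k + 1)) :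
    (∀ ω ∈ Ω, ∃ lam : V, ∀ w : V, QuadraticMap.polar (⇑Q) v w = 0 →
        QuadraticMap.polar (⇑Q) lam w = 0 → E Q v w • ω = ω) ∨
    (∀ ω ∈ Ω, (∀ w : V, QuadraticMap.polar (⇑Q) v w = 0 → E Q v w • ω = ω) ∨
        (∀ w : V, QuadraticMap.polar (⇑Q) v w = 0 → E Q v w • ω = ω →
          w ∈ Submodule.span F {v})) ∨
    (Ω.ncard + 1 = Nsing3 (k + 1) ∧ ∃ ω ∈ Ω, FreeAt Q v ω) := by
  classical
  have f3 := hS.f3
  have two_ne := hS.two_ne
  have hdimV : 5 ≤ finrank F V := by rw [hS.dim]; omega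
  have hdimW : finrank F ↥(perp2 Q v v') = 2 * k := hW.dim
  have hfinV : Finite V := Module.finite_of_finite F
  have hfinW : Finite ↥(perp2 Q v v') := inferInstance
  have hfinSub : ∀ C : Submodule F ↥(perp2 Q v v'),
      (subOrbit (resQ Q (perp2 Q v v')) C).Finite := fun C => Set.toFinite _
  have hposSub : ∀ C : Submodule F ↥(perp2 Q v v'),
      1 ≤ (subOrbit (resQ Q (perp2 Q v v')) C).ncard := fun C =>
    (Set.ncard_pos (hfinSub C)).mpr ⟨C, Cfsg.Agent.Lib.Helper22_MI2_Sub.self_mem_subOrbit _ C⟩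
  -- notation
  set S : X → Submodule F ↥(perp2 Q v v') := fun ω => stab Q f3 v' hv ω with hSdef
  set O : X → Set X := fun ω => {ω' : X | ∃ (w : ↥(perp2 Q v v'))
      (l : ↥(perp2 Q v v') ≃ₗ[F] ↥(perp2 Q v v')),
      l ∈ T (resQ Q (perp2 Q v v')) ∧ ω' = E Q v (w : V) • ext l • ω} with hOdef
  have hOsub : ∀ ω ∈ Ω, O ω ⊆ Ω := by
    rintro ω hω ω' ⟨w, l, hl, rfl⟩
    exact hΩ.inv _ (E_mem_T Q hS.nondeg hdimV hv (polar_v_of_mem Q w)) _
      (hΩ.inv _ (hext.map_T l hl) _ hω)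
  have hOle : ∀ ω ∈ Ω, (O ω).ncard ≤ Ω.ncard := fun ω hω =>
    Set.ncard_le_ncard (hOsub ω hω) hΩ.fin
  have hinj' : ∀ ω : X, Nat.card (↥(perp2 Q v v') ⧸ S ω) *
      (subOrbit (resQ Q (perp2 Q v v')) (S ω)).ncard ≤ (O ω).ncard := fun ω =>
    hinj ω (S ω) (fun w => Iff.rfl)
  have hrank : ∀ ω ∈ Ω, finrank F ↥(S ω) = 0 ∨ 2 * k ≤ finrank F ↥(S ω) + 1 := by
    intro ω hω
    by_contra hcon
    push Not at hcon
    have h1 := hsub (S ω) (by omega) (by omega)
    have h2 := (hinj' ω).trans (hOle ω hω)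
    omega
  have hfix_of_top : ∀ ω : X, S ω = ⊤ → ∀ w : V, QuadraticMap.polar (⇑Q) v w = 0 →
      E Q v w • ω = ω := by
    intro ω htop w hw
    obtain ⟨wW, -, hE⟩ := exists_decomp Q hv hvv' hw
    rw [hE]
    have hmem : wW ∈ S ω := by rw [htop]; trivial
    exact hmem
  have hfree_of_zero : ∀ ω : X, finrank F ↥(S ω) = 0 → ∀ w : V,
      QuadraticMap.polar (⇑Q) v w = 0 → E Q v w • ω = ω → w ∈ Submodule.span F {v} := by
    intro ω h0 w hw hfix
    obtain ⟨wW, hdec, hE⟩ := exists_decomp Q hv hvv' hw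
    have hmem : wW ∈ S ω := by
      show E Q v (wW : V) • ω = ω
      rw [← hE]; exact hfix
    have hbot : S ω = ⊥ := Submodule.finrank_eq_zero.mp h0
    rw [hbot, Submodule.mem_bot] at hmem
    rw [hdec, hmem, Submodule.coe_zero, zero_add]
    exact Submodule.smul_mem _ _ (Submodule.mem_span_singleton_self v)
  have hfinrank_translate : ∀ (ω : X) (w : ↥(perp2 Q v v'))
      (l : ↥(perp2 Q v v') ≃ₗ[F] ↥(perp2 Q v v')), l ∈ T (resQ Q (perp2 Q v v')) →
      finrank F ↥(S (E Q v (w : V) • ext l • ω)) = finrank F ↥(S ω) := by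
    intro ω w l hl
    show finrank F ↥(stab Q f3 v' hv (E Q v (w : V) • ext l • ω)) = _
    rw [stab_translate Q f3 hv ext hext ω w l hl]
    exact LinearEquiv.finrank_map_eq l (stab Q f3 v' hv ω)
  by_cases hall : ∀ ω ∈ Ω, 2 * k ≤ finrank F ↥(S ω) + 1
  · left
    intro ω hω
    obtain ⟨μ, hμ⟩ : ∃ μ : ↥(perp2 Q v v'), ∀ w : ↥(perp2 Q v v'),
        QuadraticMap.polar (⇑(resQ Q (perp2 Q v v'))) μ w = 0 → w ∈ S ω := by
      by_cases htop : S ω = ⊤
      · exact ⟨0, fun w _ => by rw [htop]; trivial⟩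
      · have hlt : finrank F ↥(S ω) < finrank F ↥(perp2 Q v v') :=
          Submodule.finrank_lt htop
        have h2k : finrank F ↥(S ω) + 1 = 2 * k := by have := hall ω hω; omega
        set B : LinearMap.BilinForm F ↥(perp2 Q v v') :=
          QuadraticMap.polarBilin (resQ Q (perp2 Q v v')) with hBdef
        have hB : B.Nondegenerate := hW.nondeg
        have hrefl : B.IsRefl := by
          intro x y hxy
          rw [hBdef, QuadraticMap.polarBilin_apply_apply] at hxy ⊢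
          rw [QuadraticMap.polar_comm]; exact hxy
        have horth : finrank F ↥(LinearMap.BilinForm.orthogonal B (S ω)) = 1 := by
          rw [LinearMap.BilinForm.finrank_orthogonal hB, hdimW]; omega
        obtain ⟨μ, hμmem, hμne⟩ : ∃ μ ∈ LinearMap.BilinForm.orthogonal B (S ω), μ ≠ 0 := by
          apply Submodule.exists_mem_ne_zero_of_ne_bot
          intro hbot
          rw [hbot, finrank_bot] at horth
          omega
        refine ⟨μ, fun w hw => ?_⟩
        rw [← LinearMap.BilinForm.orthogonal_orthogonal hB hrefl (S ω),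
          LinearMap.BilinForm.mem_orthogonal_iff]
        intro n hn
        have hne : (⟨μ, hμmem⟩ : ↥(LinearMap.BilinForm.orthogonal B (S ω))) ≠ 0 := by
          intro h; exact hμne (congrArg Subtype.val h)
        obtain ⟨c, hc⟩ := (finrank_eq_one_iff_of_nonzero' _ hne).mp horth ⟨n, hn⟩
        have hnc : n = c • μ := by
          have := congrArg Subtype.val hc
          simpa using this.symm
        show B n w = 0
        rw [hnc, map_smul, LinearMap.smul_apply, hBdef, QuadraticMap.polarBilin_apply_apply, hw,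
          smul_zero]
    refine ⟨(μ : V), ?_⟩
    intro w hw hlw
    obtain ⟨wW, hdec, hE⟩ := exists_decomp Q hv hvv' hw
    rw [hE]
    apply hμ wW
    rw [Cfsg.Agent.Lib.Helper44_QuadClass.polar_comp_subtype]
    have hμv : QuadraticMap.polar (⇑Q) (μ : V) v = 0 := by
      rw [QuadraticMap.polar_comm]; exact polar_v_of_mem Q μ
    rw [hdec, QuadraticMap.polar_add_right, QuadraticMap.polar_smul_right, hμv] at hlw
    simpa using hlw
  · right
    push Not at hall
    obtain ⟨ω₁, hω₁, h1⟩ := hall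
    have h10 : finrank F ↥(S ω₁) = 0 := (hrank ω₁ hω₁).resolve_right (by omega)
    by_cases hex : ∃ ω₂ ∈ Ω, finrank F ↥(S ω₂) + 1 = 2 * k
    · right
      obtain ⟨ω₂, hω₂, h2⟩ := hex
      refine ⟨?_, ω₁, hω₁, hfree_of_zero ω₁ h10⟩
      have hdisj : Disjoint (O ω₁) (O ω₂) := by
        rw [Set.disjoint_left]
        rintro ω' ⟨w, l, hl, rfl⟩ ⟨w2, l2, hl2, h'⟩
        have e1 := hfinrank_translate ω₁ w l hl
        have e2 := hfinrank_translate ω₂ w2 l2 hl2
        rw [← h'] at e2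
        omega
      have c1 : 3 ^ (2 * k) ≤ (O ω₁).ncard := by
        refine le_trans ?_ (hinj' ω₁)
        rw [card_quotient f3 two_ne, hdimW, h10]
        have := hposSub (S ω₁)
        calc 3 ^ (2 * k) = 3 ^ (2 * k - 0) * 1 := by simp
          _ ≤ _ := Nat.mul_le_mul_left _ this
      have c2 : 3 * Nsing3 k ≤ (O ω₂).ncard := by
        refine le_trans ?_ (hinj' ω₂)
        rw [card_quotient f3 two_ne, hdimW]
        have : 2 * k - finrank F ↥(S ω₂) = 1 := by omega
        rw [this, pow_one]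
        exact Nat.mul_le_mul_left _ (hhyp (S ω₂) h2)
      have hfin1 : (O ω₁).Finite := hΩ.fin.subset (hOsub ω₁ hω₁)
      have hfin2 : (O ω₂).Finite := hΩ.fin.subset (hOsub ω₂ hω₂)
      have hun : (O ω₁ ∪ O ω₂).ncard = (O ω₁).ncard + (O ω₂).ncard :=
        Set.ncard_union_eq hdisj hfin1 hfin2
      have hle : (O ω₁ ∪ O ω₂).ncard ≤ Ω.ncard :=
        Set.ncard_le_ncard (Set.union_subset (hOsub ω₁ hω₁) (hOsub ω₂ hω₂)) hΩ.fin
      omega
    · left
      push Not at hex
      intro ω hω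
      rcases hrank ω hω with h0 | hge
      · right
        exact hfree_of_zero ω h0
      · left
        have htop : S ω = ⊤ := by
          apply Submodule.eq_top_of_finrank_eq
          have h1 := hex ω hω
          have h2 := Submodule.finrank_le (S ω)
          omega
        exact hfix_of_top ω htop

end action

end Cfsg.Agent.Lib.Helper5_MI3M_TRICH
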