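import Mathlib
import Cfsg.Agent.Lib.Helper97_OX3Defs
import Cfsg.Agent.Lib.Helper94_OrthVec

set_option autoImplicit false
set_option linter.unusedSectionVars false
set_option linter.unusedVariables false

/-!
# OEXT3 package PT3 (helper5): a `K`-point `K p`, `p ≠ 0`, has `F`-dimension three.
-/

namespace Cfsg.Agent.Lib.Helper5_OX3_PT3

open Module Cfsg.Agent.Lib.Helper94_OrthSmall Cfsg.Agent.Lib.Helper94_OrthSiegel
  Cfsg.Agent.Lib.Helper98_ExtDefs Cfsg.Agent.Lib.Helper97_OX2Defs
  Cfsg.Agent.Lib.Helper97_OX3Defs
open scoped commutatorElement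

variable {F K V : Type*} [Field F] [Field K] [Algebra F K] [AddCommGroup V] [Module F V]
  [Module K V] [IsScalarTower F K V]
variable {τ : K →ₗ[F] F} {QK : V → K} {BK : LinearMap.BilinForm K V}
variable [Finite F] [Finite K] [Module.Finite F V] [Module.Finite K V]

/-- PT3 -/
theorem finrank_kpt (C : Ctx3 τ QK BK) {p : V} (hp0 : p ≠ 0) :
    finrank F ↥(kpt F (K := K) p) = 3 := by
  -- the `F`-linear equivalence `K ≃ K p`
  have hinj : Function.Injective (fun a : K => a • p) := by
    intro a b hab
    have : (a - b) • p = 0 := by simpa [sub_smul, sub_eq_zero] using hab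
    rcases smul_eq_zero.mp this with h | h
    · exact sub_eq_zero.mp h
    · exact absurd h hp0
  let f : K →ₗ[F] V :=
    { toFun := fun a => a • p
      map_add' := fun a b => add_smul a b p
      map_smul' := fun c a => by
        simp only [RingHom.id_apply]
        exact smul_assoc c a p }
  have hrange : LinearMap.range f = kpt F (K := K) p := by
    ext x
    rw [mem_kpt, LinearMap.mem_range]
    constructor
    · rintro ⟨a, h⟩; exact ⟨a, h.symm⟩
    · rintro ⟨a, h⟩; exact ⟨a, h.symm⟩
  have hfin : finrank F K = 3 := C.hdim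
  rw [← hrange, LinearMap.finrank_range_of_inj (f := f) hinj, hfin]

end Cfsg.Agent.Lib.Helper5_OX3_PT3
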