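import Mathlib
import Cfsg.Agent.Lib.Helper56_PGDefs

/-!
# S4085 package INV (helper56's market `s4085_packages`): invariance of `Tw`, `cls`, `Dom`, `Lo`, `PhiOdd`, `PhiTwo`
under a relation-preserving bijection.
-/

namespace Cfsg.Agent.Lib.Helper5_PG_INV
open Cfsg.Agent.Lib.Helper56_PGDefs

section INV
variable {V : Type*} {W : Type*} (e : V ≃ W) (R : V → V → Prop) (R' : W → W → Prop)
  (h : ∀ x y, R x y ↔ R' (e x) (e y))
include h

theorem tw_congr (x y : V) : Tw R x y ↔ Tw R' (e x) (e y) := by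
  constructor
  · intro hxy w
    have hw : w = e (e.symm w) := (e.apply_symm_apply w).symm
    rw [hw, ← h, ← h]
    exact hxy _
  · intro hxy z
    rw [h, h]
    exact hxy _

theorem cls_congr (x : V) : cls R x = cls R' (e x) := by
  unfold cls
  exact Nat.card_congr (e.subtypeEquiv (fun y => tw_congr e R R' h x y))

theorem dom_congr (x : V) : Dom R x ↔ Dom R' (e x) := by
  constructor
  · intro hx w
    have hw : w = e (e.symm w) := (e.apply_symm_apply w).symm
    rw [hw, ← h]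
    exact hx _
  · intro hx z
    rw [h]
    exact hx _

theorem lo_congr (x y : V) : y ∈ Lo R x ↔ e y ∈ Lo R' (e x) := by
  show R x y ∧ cls R y < cls R x ↔ R' (e x) (e y) ∧ cls R' (e y) < cls R' (e x)
  rw [h, cls_congr e R R' h x, cls_congr e R R' h y]

theorem card_lo_congr (x : V) : Nat.card (Lo R x) = Nat.card (Lo R' (e x)) :=
  Nat.card_congr (e.subtypeEquiv (fun y => lo_congr e R R' h x y))

theorem phiOdd_congr_mp (N : ℕ) : PhiOdd R N → PhiOdd R' N := by
  rintro ⟨x, ⟨a, ha, b, hb, hab⟩, hN⟩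
  refine ⟨e x, ⟨e a, (lo_congr e R R' h x a).1 ha, e b, (lo_congr e R R' h x b).1 hb, ?_⟩, ?_⟩
  · rw [← h]
    exact hab
  · rw [← cls_congr e R R' h x, ← card_lo_congr e R R' h x]
    exact hN

theorem phiTwo_congr_mp (q : ℕ) : PhiTwo R q → PhiTwo R' q := by
  rintro ⟨x, t, y, h1, h2, h3, h4, h5, h6, h7, h8⟩
  refine ⟨e x, e t, e y, ?_, ?_, ?_, ?_, ?_, ?_, ?_, ?_⟩
  · rw [← dom_congr e R R' h t]
    exact h1
  · rw [← cls_congr e R R' h t]
    exact h2
  · rw [← h]
    exact h3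
  · rw [← cls_congr e R R' h x]
    exact h4
  · rw [← card_lo_congr e R R' h x]
    exact h5
  · rw [← h]
    exact h6
  · rw [← h]
    exact h7
  · rw [← cls_congr e R R' h y]
    exact h8

omit h in
/-- the inverse bijection preserves the relations too -/
theorem symm_hyp (h : ∀ x y, R x y ↔ R' (e x) (e y)) :
    ∀ x y, R' x y ↔ R (e.symm x) (e.symm y) := by
  intro x y
  rw [h, e.apply_symm_apply, e.apply_symm_apply]

theorem phiOdd_congr (N : ℕ) : PhiOdd R N ↔ PhiOdd R' N :=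
  ⟨phiOdd_congr_mp e R R' h N, phiOdd_congr_mp e.symm R' R (symm_hyp e R R' h) N⟩

theorem phiTwo_congr (q : ℕ) : PhiTwo R q ↔ PhiTwo R' q :=
  ⟨phiTwo_congr_mp e R R' h q, phiTwo_congr_mp e.symm R' R (symm_hyp e R R' h) q⟩
end INV

end Cfsg.Agent.Lib.Helper5_PG_INV
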