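import Mathlib
import Cfsg.Agent.Lib.Helper56_PGDefs
import Cfsg.Agent.Lib.Helper73_PG_ARITH

/-!
# S4085 package L2 (helper56's market `s4085_packages`): twin classes of elements of non-prime-power order
(proof.md §2 Lemma 2).  Self-contained for the cyclic-group facts (own copies of the two CYC lemmas needed).
-/

set_option linter.unusedSectionVars false
set_option linter.style.haveILetI false

namespace Cfsg.Agent.Lib.Helper5_PG_L2
open Cfsg.Agent.Lib.Helper56_PGDefs

section CYC
variable {G : Type*} [Group G] [Finite G]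

/-- in `⟨x⟩`, an element killed by `d ∣ o(x)` lies in `⟨x ^ (o(x)/d)⟩` -/
theorem mem_zpowers_pow_of_pow_eq_one {x y : G} {d : ℕ} (hd : d ∣ orderOf x) (hd0 : d ≠ 0)
    (hy : y ∈ Subgroup.zpowers x) (hyd : y ^ d = 1) : y ∈ Subgroup.zpowers (x ^ (orderOf x / d)) := by
  obtain ⟨k, rfl⟩ := Subgroup.mem_zpowers_iff.1 hy
  have h1 : x ^ (k * (d : ℤ)) = 1 := by
    rw [zpow_mul, zpow_natCast]
    exact hyd
  rw [← orderOf_dvd_iff_zpow_eq_one] at h1
  have hn : (orderOf x : ℤ) = ((orderOf x / d : ℕ) : ℤ) * (d : ℤ) := by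
    rw [← Nat.cast_mul, Nat.div_mul_cancel hd]
  rw [hn] at h1
  have h2 : ((orderOf x / d : ℕ) : ℤ) ∣ k :=
    Int.dvd_of_mul_dvd_mul_right (by exact_mod_cast hd0) h1
  obtain ⟨j, rfl⟩ := h2
  rw [Subgroup.mem_zpowers_iff]
  refine ⟨j, ?_⟩
  rw [← zpow_natCast, ← zpow_mul]

/-- for `u v ∈ ⟨x⟩`: `u ∈ ⟨v⟩ ↔ o(u) ∣ o(v)`. -/
theorem mem_zpowers_iff_orderOf_dvd' {x u v : G} (hu : u ∈ Subgroup.zpowers x)
    (hv : v ∈ Subgroup.zpowers x) : u ∈ Subgroup.zpowers v ↔ orderOf u ∣ orderOf v := by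
  constructor
  · exact orderOf_dvd_of_mem_zpowers
  · intro h
    have hd : orderOf v ∣ orderOf x := orderOf_dvd_of_mem_zpowers hv
    have hd0 : orderOf v ≠ 0 := (orderOf_pos v).ne'
    have hn0 : orderOf x ≠ 0 := (orderOf_pos x).ne'
    have hw : orderOf (x ^ (orderOf x / orderOf v)) = orderOf v := by
      rw [orderOf_pow_of_dvd]
      · exact Nat.div_div_self hd hn0
      · intro h0
        have := Nat.div_mul_cancel hd
        rw [h0, zero_mul] at this
        exact hn0 this.symm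
      · exact Nat.div_dvd_of_dvd hd
    have hle : Subgroup.zpowers v ≤ Subgroup.zpowers (x ^ (orderOf x / orderOf v)) := by
      rw [Subgroup.zpowers_le]
      exact mem_zpowers_pow_of_pow_eq_one hd hd0 hv (pow_orderOf_eq_one v)
    have heq : Subgroup.zpowers v = Subgroup.zpowers (x ^ (orderOf x / orderOf v)) := by
      apply Subgroup.eq_of_le_of_card_ge hle
      rw [Nat.card_zpowers, Nat.card_zpowers, hw]
    rw [heq]
    apply mem_zpowers_pow_of_pow_eq_one hd hd0 hu
    exact orderOf_dvd_iff_pow_eq_one.1 h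

/-- every divisor of `o(x)` is the order of an element of `⟨x⟩`. -/
theorem exists_mem_zpowers_orderOf_eq' {x : G} {d : ℕ} (hd : d ∣ orderOf x) :
    ∃ y ∈ Subgroup.zpowers x, orderOf y = d := by
  have hn0 : orderOf x ≠ 0 := (orderOf_pos x).ne'
  refine ⟨x ^ (orderOf x / d), Subgroup.pow_mem _ (Subgroup.mem_zpowers x) _, ?_⟩
  rw [orderOf_pow_of_dvd]
  · exact Nat.div_div_self hd hn0
  · intro h0
    have := Nat.div_mul_cancel hd
    rw [h0, zero_mul] at this
    exact hn0 this.symm
  · exact Nat.div_dvd_of_dvd hd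

omit [Finite G] in
/-- generators of the same cyclic subgroup are twins -/
theorem tw_of_zpowers_eq' {x y : G} (h : Subgroup.zpowers y = Subgroup.zpowers x) :
    Tw (Cmp (G := G)) x y := by
  intro z
  unfold Cmp
  rw [← Subgroup.zpowers_le (g := x), ← Subgroup.zpowers_le (g := y), h]

omit [Finite G] in
theorem not_npp_one : ¬ NPP 1 := by
  rintro ⟨r, s, hr, -, -, h1, -⟩
  exact hr.one_lt.ne' (Nat.dvd_one.1 h1)

end CYC

section main
variable {G : Type*} [Group G] [Finite G] (hS : ∀ x : G, Dom (Cmp (G := G)) x → x = 1)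
include hS

/-- the core case of Lemma 2: `y ∈ ⟨x⟩` -/
theorem zpowers_eq_of_tw_of_mem {x y : G} (hx : NPP (orderOf x)) (ht : Tw (Cmp (G := G)) x y)
    (hy : y ∈ Subgroup.zpowers x) : Subgroup.zpowers y = Subgroup.zpowers x := by
  have hd : orderOf y ∣ orderOf x := orderOf_dvd_of_mem_zpowers hy
  have hchain : ∀ e, e ∣ orderOf x → orderOf y ∣ e ∨ e ∣ orderOf y := by
    intro e he
    obtain ⟨u, hu, huo⟩ := exists_mem_zpowers_orderOf_eq' he
    have h1 : Cmp x u := Or.inr hu
    have h2 : Cmp y u := (ht u).1 h1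
    rcases h2 with h3 | h3
    · left
      rw [← huo]
      exact orderOf_dvd_of_mem_zpowers h3
    · right
      rw [← huo]
      exact orderOf_dvd_of_mem_zpowers h3
  rcases Cfsg.Agent.Lib.Helper73_PG_ARITH.dvd_chain_npp hx hd hchain with h1 | h1
  · -- `y = 1`: then `x` is dominating
    exfalso
    have hy1 : y = 1 := orderOf_eq_one_iff.1 h1
    have hdom : Dom (Cmp (G := G)) x := by
      intro z
      rw [ht z, hy1]
      exact Or.inl (Subgroup.one_mem _)
    have hx1 := hS x hdom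
    rw [hx1, orderOf_one] at hx
    exact not_npp_one hx
  · apply Subgroup.eq_of_le_of_card_ge
    · rw [Subgroup.zpowers_le]
      exact hy
    · rw [Nat.card_zpowers, Nat.card_zpowers, h1]

/-! ### L2 (M) — §2 Lemma 2: twin classes of elements of non-prime-power order. -/
theorem tw_iff_of_npp {x y : G} (hx : NPP (orderOf x)) :
    Tw (Cmp (G := G)) x y ↔ Subgroup.zpowers y = Subgroup.zpowers x := by
  constructor
  · intro ht
    have hxx : Cmp x x := Or.inl (Subgroup.mem_zpowers x)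
    have hyx : Cmp y x := (ht x).1 hxx
    rcases hyx with h1 | h1
    · exact zpowers_eq_of_tw_of_mem hS hx ht h1
    · have hy : NPP (orderOf y) :=
        Cfsg.Agent.Lib.Helper73_PG_ARITH.npp_of_dvd hx (orderOf_dvd_of_mem_zpowers h1)
      have ht' : Tw (Cmp (G := G)) y x := fun z => (ht z).symm
      exact (zpowers_eq_of_tw_of_mem hS hy ht' h1).symm
  · exact tw_of_zpowers_eq'

theorem cls_of_npp {x : G} (hx : NPP (orderOf x)) :
    cls (Cmp (G := G)) x = Nat.totient (orderOf x) := by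
  classical
  unfold cls
  letI : Fintype ↥(Subgroup.zpowers x) := Fintype.ofFinite _
  have hcard : Fintype.card ↥(Subgroup.zpowers x) = orderOf x := by
    rw [← Nat.card_eq_fintype_card, Nat.card_zpowers]
  have h1 := IsCyclic.card_orderOf_eq_totient (α := ↥(Subgroup.zpowers x)) (d := orderOf x)
    (by rw [hcard])
  rw [← h1, ← Fintype.card_subtype, ← Nat.card_eq_fintype_card]
  refine Nat.card_congr ⟨fun y => ⟨⟨y.1, ?_⟩, ?_⟩, fun a => ⟨a.1.1, ?_⟩, ?_, ?_⟩
  · have := (tw_iff_of_npp hS hx).1 y.2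
    rw [← this]
    exact Subgroup.mem_zpowers _
  · have := (tw_iff_of_npp hS hx).1 y.2
    show orderOf (⟨y.1, _⟩ : ↥(Subgroup.zpowers x)) = orderOf x
    rw [Subgroup.orderOf_mk, ← Nat.card_zpowers, this, Nat.card_zpowers]
  · rw [tw_iff_of_npp hS hx]
    have ha : orderOf a.1 = orderOf x := a.2
    rw [← Subgroup.orderOf_coe] at ha
    apply Subgroup.eq_of_le_of_card_ge
    · rw [Subgroup.zpowers_le]
      exact a.1.2
    · rw [Nat.card_zpowers, Nat.card_zpowers, ha]
  · intro y
    rfl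
  · intro a
    rfl

end main

end Cfsg.Agent.Lib.Helper5_PG_L2
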