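/-
Helper library (helper76): the cyclotomic norm + AM-GM inequality behind Burnside's theorem on
zeros of characters.  If `α = ∑ c μ • μ` is a nonzero sum of `N`-th roots of unity then the sum of
`‖α_k‖²` over its "Galois conjugates" `α_k = ∑ c μ • μ ^ k` (`k` prime to `N`) is at least `φ N`.
-/
import Mathlib

set_option autoImplicit false

namespace Cfsg.Agent.Lib.Helper76_CycloAMGM

open Polynomial

/-- AM-GM consequence: nonnegative reals with product `≥ 1` have sum at least their number. -/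
theorem card_le_sum_of_one_le_prod {ι : Type*} (s : Finset ι) (z : ι → ℝ)
    (hz : ∀ i ∈ s, 0 ≤ z i) (hprod : 1 ≤ ∏ i ∈ s, z i) : (s.card : ℝ) ≤ ∑ i ∈ s, z i := by
  rcases s.eq_empty_or_nonempty with rfl | hne
  · simp
  have hcard : (0 : ℝ) < s.card := by exact_mod_cast hne.card_pos
  have h := Real.geom_mean_le_arith_mean_weighted s (fun _ => (s.card : ℝ)⁻¹) z
    (fun i _ => by positivity) (by simp [hcard.ne']) hz
  rw [Real.finsetProd_rpow s z hz] at h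
  have h1 : (1 : ℝ) ≤ (∏ i ∈ s, z i) ^ (s.card : ℝ)⁻¹ := Real.one_le_rpow hprod (by positivity)
  have h2 : (1 : ℝ) ≤ ∑ i ∈ s, (s.card : ℝ)⁻¹ * z i := h1.trans h
  rw [← Finset.mul_sum] at h2
  calc (s.card : ℝ) = s.card * 1 := (mul_one _).symm
    _ ≤ s.card * ((s.card : ℝ)⁻¹ * ∑ i ∈ s, z i) := by gcongr
    _ = ∑ i ∈ s, z i := by field_simp

/-- The primitive `N`-th roots of unity are the powers `ζ ^ k`, `k < N` prime to `N`. -/
theorem prod_primitiveRoots_eq {R M : Type*} [CommRing R] [IsDomain R] [CommMonoid M] {ζ : R}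
    {N : ℕ} (hN : 0 < N) (hζ : IsPrimitiveRoot ζ N) (F : R → M) :
    ∏ η ∈ primitiveRoots N R, F η =
      ∏ k ∈ (Finset.range N).filter (Nat.Coprime N), F (ζ ^ k) := by
  symm
  refine Finset.prod_bij (fun i _ => ζ ^ i) ?_ ?_ ?_ ?_
  · intro i hi
    rw [Finset.mem_filter, Finset.mem_range] at hi
    rw [mem_primitiveRoots hN]
    exact hζ.pow_of_coprime i hi.2.symm
  · intro i hi j hj hij
    rw [Finset.mem_filter, Finset.mem_range] at hi hj
    exact hζ.pow_inj hi.1 hj.1 hij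
  · intro η hη
    rw [mem_primitiveRoots hN] at hη
    have : NeZero N := ⟨hN.ne'⟩
    obtain ⟨i, hi, rfl⟩ := hζ.eq_pow_of_pow_eq_one hη.pow_eq_one
    refine ⟨i, ?_, rfl⟩
    rw [Finset.mem_filter, Finset.mem_range]
    exact ⟨hi, ((hζ.pow_iff_coprime hN i).mp hη).symm⟩
  · intro i hi; rfl

set_option backward.isDefEq.respectTransparency false in
/-- **Cyclotomic AM-GM.** -/
theorem totient_le_sum_norm_sq (N : ℕ) (hN : 0 < N) (S : Finset ℂ) (hS : ∀ μ ∈ S, μ ^ N = 1)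
    (c : ℂ → ℕ) (h : ∑ μ ∈ S, (c μ : ℂ) * μ ≠ 0) :
    (Nat.totient N : ℝ) ≤
      ∑ k ∈ (Finset.range N).filter (Nat.Coprime N), ‖∑ μ ∈ S, (c μ : ℂ) * μ ^ k‖ ^ 2 := by
  classical
  have : NeZero N := ⟨hN.ne'⟩
  obtain ⟨ζ, hζ⟩ : ∃ ζ : ℂ, IsPrimitiveRoot ζ N := ⟨_, Complex.isPrimitiveRoot_exp N hN.ne'⟩
  -- exponents
  have hex : ∀ μ : ℂ, ∃ a : ℕ, μ ∈ S → ζ ^ a = μ := by
    intro μ
    by_cases hμ : μ ∈ S
    · obtain ⟨a, _, ha⟩ := hζ.eq_pow_of_pow_eq_one (hS μ hμ)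
      exact ⟨a, fun _ => ha⟩
    · exact ⟨0, fun h => absurd h hμ⟩
  choose a ha using hex
  -- the cyclotomic field
  have hζK : IsPrimitiveRoot (IsCyclotomicExtension.zeta N ℚ (CyclotomicField N ℚ)) N :=
    IsCyclotomicExtension.zeta_spec N ℚ (CyclotomicField N ℚ)
  generalize IsCyclotomicExtension.zeta N ℚ (CyclotomicField N ℚ) = ζK at hζK
  have hirr : Irreducible (cyclotomic N ℚ) := cyclotomic.irreducible_rat hN
  have : FiniteDimensional ℚ (CyclotomicField N ℚ) :=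
    IsCyclotomicExtension.finiteDimensional {N} ℚ (CyclotomicField N ℚ)
  set x : CyclotomicField N ℚ := ∑ μ ∈ S, (c μ : CyclotomicField N ℚ) * ζK ^ a μ with hx
  have hσx : ∀ σ : CyclotomicField N ℚ →ₐ[ℚ] ℂ,
      σ x = ∑ μ ∈ S, (c μ : ℂ) * ((hζK.embeddingsEquivPrimitiveRoots ℂ hirr σ : ℂ)) ^ a μ := by
    intro σ
    simp only [hx, map_sum, map_mul, map_natCast, map_pow]
    rfl
  -- integrality
  have hxint : IsIntegral ℤ x := by
    refine IsIntegral.sum _ (fun μ _ => ?_)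
    refine IsIntegral.mul ?_ ((hζK.isIntegral hN).pow _)
    exact isIntegral_algebraMap (R := ℤ) (x := ((c μ : ℕ) : ℤ)) |> (by simpa using ·)
  -- nonvanishing
  have hx0 : x ≠ 0 := by
    intro hx0
    set σ₁ := (hζK.embeddingsEquivPrimitiveRoots ℂ hirr).symm ⟨ζ, (mem_primitiveRoots hN).mpr hζ⟩
      with hσ₁
    have h1 := hσx σ₁
    rw [hx0, map_zero, hσ₁, Equiv.apply_symm_apply] at h1
    apply h
    rw [h1]
    exact Finset.sum_congr rfl (fun μ hμ => by rw [ha μ hμ])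
  -- the norm is a nonzero integer
  have hNint : IsIntegral ℤ (Algebra.norm ℚ x) := Algebra.isIntegral_norm ℚ hxint
  obtain ⟨m, hm⟩ := IsIntegrallyClosed.isIntegral_iff.mp hNint
  have hm0 : m ≠ 0 := by
    rintro rfl
    rw [map_zero] at hm
    exact hx0 (Algebra.norm_eq_zero_iff.mp hm.symm)
  have hprod : (algebraMap ℚ ℂ) (Algebra.norm ℚ x) = ∏ σ : CyclotomicField N ℚ →ₐ[ℚ] ℂ, σ x :=
    Algebra.norm_eq_prod_embeddings ℚ ℂ x
  have hnorm : (1 : ℝ) ≤ ∏ σ : CyclotomicField N ℚ →ₐ[ℚ] ℂ, ‖σ x‖ ^ 2 := by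
    rw [Finset.prod_pow, ← norm_prod, ← hprod, ← hm]
    have h1 : ((algebraMap ℚ ℂ) ((algebraMap ℤ ℚ) m)) = (m : ℂ) := by simp
    rw [h1, Complex.norm_intCast]
    have h2 : (1 : ℤ) ≤ |m| := Int.one_le_abs hm0
    have h3 : (1 : ℝ) ≤ |(m : ℝ)| := by exact_mod_cast h2
    nlinarith
  -- reindex the product
  have hre : ∏ σ : CyclotomicField N ℚ →ₐ[ℚ] ℂ, ‖σ x‖ ^ 2 =
      ∏ k ∈ (Finset.range N).filter (Nat.Coprime N), ‖∑ μ ∈ S, (c μ : ℂ) * μ ^ k‖ ^ 2 := by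
    rw [Fintype.prod_equiv (hζK.embeddingsEquivPrimitiveRoots ℂ hirr)
      (fun σ => ‖σ x‖ ^ 2) (fun η => ‖∑ μ ∈ S, (c μ : ℂ) * (η : ℂ) ^ a μ‖ ^ 2)
      (fun σ => by rw [hσx σ])]
    rw [Finset.prod_coe_sort (primitiveRoots N ℂ)
      (fun η => ‖∑ μ ∈ S, (c μ : ℂ) * η ^ a μ‖ ^ 2)]
    rw [prod_primitiveRoots_eq hN hζ]
    refine Finset.prod_congr rfl (fun k _ => ?_)
    congr 2
    refine Finset.sum_congr rfl (fun μ hμ => ?_)
    rw [← pow_mul, mul_comm k, pow_mul, ha μ hμ]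
  rw [hre] at hnorm
  have := card_le_sum_of_one_le_prod _ _ (fun k _ => by positivity) hnorm
  rwa [← Nat.totient_eq_card_coprime] at this

end Cfsg.Agent.Lib.Helper76_CycloAMGM
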