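/-
Helper library (helper76): zeros of irreducible characters (Burnside / Gallagher).
For an irreducible complex representation `ρ` of degree `d` of a finite group, the character
vanishes on at least `(d² - 1) · |Z(χ)|` elements, where `Z(χ) = {g | ‖χ g‖ = d}`.
-/
import Mathlib
import Cfsg.Agent.Lib.Helper3_CharEigen
import Cfsg.Agent.Lib.Helper3_CharOrtho
import Cfsg.Agent.Lib.Helper76_CycloAMGM

set_option autoImplicit false

namespace Cfsg.Agent.Lib.Helper76_CharZeros

open Cfsg.Agent.Lib.Helper3_CharEigen Cfsg.Agent.Lib.Helper3_CharOrtho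
open Cfsg.Agent.Lib.Helper76_CycloAMGM
open scoped ComplexConjugate

variable {G : Type*} [Group G] [Fintype G] {V : Type*} [AddCommGroup V] [Module ℂ V]
  [FiniteDimensional ℂ V] (ρ : Representation ℂ G V)

/-- `∑ ‖χ g‖² = |G|` for an irreducible character. -/
theorem sum_norm_sq_char [ρ.IsIrreducible] :
    ∑ g : G, ‖ρ.character g‖ ^ 2 = (Fintype.card G : ℝ) := by
  classical
  have h := classInner_char_irreducible ρ ρ
  rw [if_pos ⟨Representation.Equiv.refl ρ⟩, Cfsg.classInner] at h
  have hc : (Nat.card G : ℂ) ≠ 0 := card_ne_zero_complex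
  have h1 : ∑ g : G, ρ.character g * conj (ρ.character g) = (Nat.card G : ℂ) := by
    field_simp at h
    exact h
  have h2 : ((∑ g : G, ‖ρ.character g‖ ^ 2 : ℝ) : ℂ) = ((Fintype.card G : ℝ) : ℂ) := by
    rw [Complex.ofReal_sum]
    simp only [Complex.ofReal_pow, ← Complex.mul_conj']
    rw [h1, Nat.card_eq_fintype_card]
    simp
  exact Complex.ofReal_injective h2

/-- Summation is invariant under `g ↦ g ^ k` for `k` prime to the group order. -/
theorem sum_pow_coprime {M : Type*} [AddCommMonoid M] (F : G → M) {k : ℕ}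
    (hk : (Fintype.card G).Coprime k) : ∑ g : G, F (g ^ k) = ∑ g : G, F g := by
  have hk' : (Nat.card G).Coprime k := by rwa [Nat.card_eq_fintype_card]
  exact Equiv.sum_comp (powCoprime hk') F

/-- The centre of the character is closed under powers. -/
theorem norm_char_pow_eq (g : G) (k : ℕ)
    (h : ‖ρ.character g‖ = (Module.finrank ℂ V : ℝ)) :
    ‖ρ.character (g ^ k)‖ = (Module.finrank ℂ V : ℝ) := by
  rw [norm_char_eq_iff] at h ⊢
  obtain ⟨ω, hω⟩ := h
  refine ⟨ω ^ k, ?_⟩
  rw [map_pow, hω]
  ext v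
  induction k with
  | zero => simp
  | succ k ih => simp [pow_succ, ih, smul_smul, mul_comm]

/-- Galois-conjugate average bound at a non-vanishing element. -/
theorem totient_le_sum_norm_sq_char (g : G) (h : ρ.character g ≠ 0) :
    (Nat.totient (Fintype.card G) : ℝ) ≤
      ∑ k ∈ (Finset.range (Fintype.card G)).filter (Nat.Coprime (Fintype.card G)),
        ‖ρ.character (g ^ k)‖ ^ 2 := by
  have hN : 0 < Fintype.card G := Fintype.card_pos
  have hS : ∀ μ ∈ eigSet (ρ g), μ ^ Fintype.card G = 1 := by
    intro μ hμ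
    obtain ⟨t, ht⟩ := orderOf_dvd_card (x := g)
    rw [ht, pow_mul, eig_pow_orderOf ρ hμ, one_pow]
  have h1 : ∑ μ ∈ eigSet (ρ g),
      ((Module.finrank ℂ (Module.End.eigenspace (ρ g) μ) : ℕ) : ℂ) * μ ≠ 0 := by
    rw [← char_eq_sum]; exact h
  have := totient_le_sum_norm_sq (Fintype.card G) hN (eigSet (ρ g)) hS
    (fun μ => Module.finrank ℂ (Module.End.eigenspace (ρ g) μ)) h1
  refine this.trans (le_of_eq ?_)
  refine Finset.sum_congr rfl (fun k _ => ?_)
  rw [char_pow_eq_sum]

omit [Fintype G] in
theorem finrank_pos_of_irreducible [ρ.IsIrreducible] : 0 < Module.finrank ℂ V := by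
  rcases Nat.eq_zero_or_pos (Module.finrank ℂ V) with h0 | h0
  · exfalso
    have : Subsingleton V := Module.finrank_zero_iff.mp h0
    have h1 : (⊥ : Subrepresentation ρ) ≠ ⊤ := bot_ne_top
    apply h1
    apply Subrepresentation.toSubmodule_injective
    exact Subsingleton.elim _ _
  · exact h0

theorem sum_ite_const {ι : Type*} [Fintype ι] (p : ι → Prop) [DecidablePred p] (c : ℝ) :
    ∑ g : ι, (if p g then c else 0) = ((Finset.univ.filter p).card : ℝ) * c := by
  rw [Finset.sum_ite, Finset.sum_const_zero, add_zero, Finset.sum_const, nsmul_eq_mul]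

open scoped Classical in
/-- Partition of the group into centre of `χ`, zeros and the rest. -/
theorem card_partition [ρ.IsIrreducible] :
    (Finset.univ.filter (fun g : G => ‖ρ.character g‖ = (Module.finrank ℂ V : ℝ))).card +
      (Finset.univ.filter (fun g : G => ρ.character g ≠ 0 ∧
        ‖ρ.character g‖ ≠ (Module.finrank ℂ V : ℝ))).card +
      (Finset.univ.filter (fun g : G => ρ.character g = 0)).card = Fintype.card G := by
  have hd : (0 : ℝ) < Module.finrank ℂ V := by exact_mod_cast finrank_pos_of_irreducible ρ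
  have h1 := Finset.card_filter_add_card_filter_not (s := (Finset.univ : Finset G))
    (fun g : G => ρ.character g = 0)
  have h2 := Finset.card_filter_add_card_filter_not
    (s := (Finset.univ.filter (fun g : G => ¬ ρ.character g = 0)))
    (fun g : G => ‖ρ.character g‖ = (Module.finrank ℂ V : ℝ))
  rw [Finset.filter_filter, Finset.filter_filter] at h2
  have h3 : (Finset.univ.filter (fun g : G => ¬ ρ.character g = 0 ∧
      ‖ρ.character g‖ = (Module.finrank ℂ V : ℝ))) =
      (Finset.univ.filter (fun g : G => ‖ρ.character g‖ = (Module.finrank ℂ V : ℝ))) := by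
    apply Finset.filter_congr
    intro g _
    constructor
    · exact fun h => h.2
    · intro h
      refine ⟨fun h0 => ?_, h⟩
      rw [h0, norm_zero] at h
      exact hd.ne h
  rw [h3] at h2
  rw [Finset.card_univ] at h1
  rw [← h1, ← h2]
  ring

open scoped Classical in
/-- Lower bound for the number of zeros, in additive form. -/
theorem zeros_bound_aux [ρ.IsIrreducible] :
    (Module.finrank ℂ V) ^ 2 *
      (Finset.univ.filter (fun g : G => ‖ρ.character g‖ = (Module.finrank ℂ V : ℝ))).card +
      (Finset.univ.filter (fun g : G => ρ.character g ≠ 0 ∧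
        ‖ρ.character g‖ ≠ (Module.finrank ℂ V : ℝ))).card ≤ Fintype.card G := by
  set d := Module.finrank ℂ V with hd
  set N := Fintype.card G with hN
  set I := (Finset.range N).filter (Nat.Coprime N) with hI
  have hNpos : 0 < N := Fintype.card_pos
  have hφ : (0 : ℝ) < Nat.totient N := by exact_mod_cast Nat.totient_pos.mpr hNpos
  have hIcard : (I.card : ℝ) = Nat.totient N := by rw [Nat.totient_eq_card_coprime]
  -- double counting
  have hsum : ∑ g : G, ∑ k ∈ I, ‖ρ.character (g ^ k)‖ ^ 2 = (Nat.totient N : ℝ) * N := by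
    rw [Finset.sum_comm]
    have : ∀ k ∈ I, ∑ g : G, ‖ρ.character (g ^ k)‖ ^ 2 = (N : ℝ) := by
      intro k hk
      rw [hI, Finset.mem_filter] at hk
      rw [sum_pow_coprime (fun g => ‖ρ.character g‖ ^ 2) hk.2, sum_norm_sq_char]
    rw [Finset.sum_congr rfl this, Finset.sum_const, nsmul_eq_mul, hIcard]
  -- pointwise lower bound
  have hpt : ∀ g : G,
      (if ‖ρ.character g‖ = (d : ℝ) then (Nat.totient N : ℝ) * (d : ℝ) ^ 2 else 0) +
      (if ρ.character g ≠ 0 ∧ ‖ρ.character g‖ ≠ (d : ℝ) then (Nat.totient N : ℝ) else 0) ≤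
      ∑ k ∈ I, ‖ρ.character (g ^ k)‖ ^ 2 := by
    intro g
    by_cases h1 : ‖ρ.character g‖ = (d : ℝ)
    · rw [if_pos h1, if_neg (fun h => h.2 h1), add_zero]
      have : ∀ k ∈ I, ‖ρ.character (g ^ k)‖ ^ 2 = (d : ℝ) ^ 2 := by
        intro k _
        rw [norm_char_pow_eq ρ g k h1]
      rw [Finset.sum_congr rfl this, Finset.sum_const, nsmul_eq_mul, hIcard]
    · rw [if_neg h1, zero_add]
      by_cases h2 : ρ.character g = 0
      · rw [if_neg (fun h => h.1 h2)]
        exact Finset.sum_nonneg (fun k _ => by positivity)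
      · rw [if_pos ⟨h2, h1⟩]
        exact totient_le_sum_norm_sq_char ρ g h2
  have hle := Finset.sum_le_sum (fun g (_ : g ∈ Finset.univ) => hpt g)
  rw [hsum, Finset.sum_add_distrib, sum_ite_const, sum_ite_const] at hle
  have hfin : ((d ^ 2 *
      (Finset.univ.filter (fun g : G => ‖ρ.character g‖ = (d : ℝ))).card +
      (Finset.univ.filter (fun g : G => ρ.character g ≠ 0 ∧
        ‖ρ.character g‖ ≠ (d : ℝ))).card : ℕ) : ℝ) ≤ (N : ℝ) := by
    push_cast
    have : (Nat.totient N : ℝ) * ((d : ℝ) ^ 2 *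
      ((Finset.univ.filter (fun g : G => ‖ρ.character g‖ = (d : ℝ))).card : ℝ) +
      ((Finset.univ.filter (fun g : G => ρ.character g ≠ 0 ∧
        ‖ρ.character g‖ ≠ (d : ℝ))).card : ℝ)) ≤ (Nat.totient N : ℝ) * N := by
      refine le_trans (le_of_eq ?_) hle
      ring
    exact le_of_mul_le_mul_left this hφ
  exact_mod_cast hfin

open scoped Classical in
/-- Under the hypothesis that all values have norm `0`, `1` or `d`, equality holds. -/
theorem zeros_eq_aux [ρ.IsIrreducible]
    (h : ∀ g : G, ‖ρ.character g‖ = 0 ∨ ‖ρ.character g‖ = 1 ∨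
      ‖ρ.character g‖ = (Module.finrank ℂ V : ℝ)) :
    (Module.finrank ℂ V) ^ 2 *
      (Finset.univ.filter (fun g : G => ‖ρ.character g‖ = (Module.finrank ℂ V : ℝ))).card +
      (Finset.univ.filter (fun g : G => ρ.character g ≠ 0 ∧
        ‖ρ.character g‖ ≠ (Module.finrank ℂ V : ℝ))).card = Fintype.card G := by
  set d := Module.finrank ℂ V with hd
  have hpt : ∀ g : G, ‖ρ.character g‖ ^ 2 =
      (if ‖ρ.character g‖ = (d : ℝ) then (d : ℝ) ^ 2 else 0) +
      (if ρ.character g ≠ 0 ∧ ‖ρ.character g‖ ≠ (d : ℝ) then (1 : ℝ) else 0) := by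
    intro g
    by_cases h1 : ‖ρ.character g‖ = (d : ℝ)
    · rw [if_pos h1, if_neg (fun h => h.2 h1), add_zero, h1]
    · rw [if_neg h1, zero_add]
      by_cases h2 : ρ.character g = 0
      · rw [if_neg (fun h => h.1 h2), h2, norm_zero]
        norm_num
      · rw [if_pos ⟨h2, h1⟩]
        rcases h g with h3 | h3 | h3
        · exact absurd (norm_eq_zero.mp h3) h2
        · rw [h3]; norm_num
        · exact absurd h3 h1
  have hs := sum_norm_sq_char ρ
  rw [Finset.sum_congr rfl (fun g _ => hpt g), Finset.sum_add_distrib, sum_ite_const,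
    sum_ite_const, mul_one] at hs
  have : ((d ^ 2 *
      (Finset.univ.filter (fun g : G => ‖ρ.character g‖ = (d : ℝ))).card +
      (Finset.univ.filter (fun g : G => ρ.character g ≠ 0 ∧
        ‖ρ.character g‖ ≠ (d : ℝ))).card : ℕ) : ℝ) = (Fintype.card G : ℝ) := by
    push_cast
    rw [← hs]
    ring
  exact_mod_cast this

/-- **Zeros of an irreducible character** (Gallagher's refinement of Burnside's theorem). -/
theorem zeros_bound [ρ.IsIrreducible]
    [DecidablePred (fun g : G => ‖ρ.character g‖ = (Module.finrank ℂ V : ℝ))]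
    [DecidablePred (fun g : G => ρ.character g = 0)] :
    ((Module.finrank ℂ V) ^ 2 - 1) *
      (Finset.univ.filter (fun g : G => ‖ρ.character g‖ = (Module.finrank ℂ V : ℝ))).card ≤
      (Finset.univ.filter (fun g : G => ρ.character g = 0)).card ∧
    ((∀ g : G, ‖ρ.character g‖ = 0 ∨ ‖ρ.character g‖ = 1 ∨
      ‖ρ.character g‖ = (Module.finrank ℂ V : ℝ)) →
    ((Module.finrank ℂ V) ^ 2 - 1) *
      (Finset.univ.filter (fun g : G => ‖ρ.character g‖ = (Module.finrank ℂ V : ℝ))).card =
      (Finset.univ.filter (fun g : G => ρ.character g = 0)).card) := by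
  classical
  have hpart := card_partition ρ
  have hb := zeros_bound_aux ρ
  have hdpos := finrank_pos_of_irreducible ρ
  obtain ⟨q, hq⟩ : ∃ q, (Module.finrank ℂ V) ^ 2 = q + 1 :=
    Nat.exists_eq_succ_of_ne_zero (pow_pos hdpos 2).ne'
  have e1 : (Finset.univ.filter (fun g : G => ‖ρ.character g‖ = (Module.finrank ℂ V : ℝ))) =
    @Finset.filter G (fun g : G => ‖ρ.character g‖ = (Module.finrank ℂ V : ℝ))
      (fun _ => Classical.propDecidable _) Finset.univ := by
    congr
  have e2 : (Finset.univ.filter (fun g : G => ρ.character g = 0)) =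
    @Finset.filter G (fun g : G => ρ.character g = 0)
      (fun _ => Classical.propDecidable _) Finset.univ := by
    congr
  rw [e1, e2, hq, Nat.add_sub_cancel]
  rw [hq] at hb
  constructor
  · nlinarith
  · intro h
    have he := zeros_eq_aux ρ h
    rw [hq] at he
    nlinarith

/-- **Burnside**: an irreducible character of degree `> 1` vanishes somewhere. -/
theorem exists_char_eq_zero [ρ.IsIrreducible] (hdeg : 1 < Module.finrank ℂ V) :
    ∃ g : G, ρ.character g = 0 := by
  classical
  have h := (zeros_bound ρ).1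
  have h1 : (1 : G) ∈ Finset.univ.filter
      (fun g : G => ‖ρ.character g‖ = (Module.finrank ℂ V : ℝ)) := by
    rw [Finset.mem_filter]
    refine ⟨Finset.mem_univ _, ?_⟩
    rw [Representation.char_one]
    simp
  have h2 : 0 < (Finset.univ.filter
      (fun g : G => ‖ρ.character g‖ = (Module.finrank ℂ V : ℝ))).card :=
    Finset.card_pos.mpr ⟨1, h1⟩
  have h3 : 0 < (Module.finrank ℂ V) ^ 2 - 1 := by
    have : 1 < (Module.finrank ℂ V) ^ 2 := by nlinarith
    omega
  have h4 : 0 < (Finset.univ.filter (fun g : G => ρ.character g = 0)).card :=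
    lt_of_lt_of_le (Nat.mul_pos h3 h2) h
  obtain ⟨g, hg⟩ := Finset.card_pos.mp h4
  exact ⟨g, (Finset.mem_filter.mp hg).2⟩

end Cfsg.Agent.Lib.Helper76_CharZeros
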