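import Mathlib
import Cfsg.Prelude.Def_Blocks
import Cfsg.Agent.Lib.Helper78_ADDefs
import Cfsg.Agent.Lib.Helper78_LocalRing
import Cfsg.Agent.Lib.Helper75_Gallagher
import Cfsg.Agent.Lib.Helper75_CharProd
import Cfsg.Agent.Lib.Helper76_CharZeros
import Cfsg.Agent.S0856

/-!
# S4551 (Alperin–Dade) package AD-BURN (architect helper78): a member of the principal block of `G`
over an invariant `θ` which extends to `G` restricts to `θ`.

Gallagher: `ψ = β χ₀` with `β ∈ Irr(G)`, `N ≤ ker β`; by `ADReg` every coset of `N` contains an `x`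
with `ψ x ≠ 0`, so `β` vanishes nowhere, so `β` is linear by Burnside's theorem.
-/

set_option autoImplicit false

namespace Cfsg.Agent.Lib.Helper64_AD_BURN

open Cfsg Cfsg.Agent.Lib.Helper78_ADDefs Cfsg.Agent.Lib.Helper78_LocalRing
open Cfsg.Agent.Lib.Helper3_CharBridge Cfsg.Agent.Lib.Helper3_CharOrtho
  Cfsg.Agent.Lib.Helper75_Induced Cfsg.Agent.Lib.Helper75_Clifford
  Cfsg.Agent.Lib.Helper75_CharProd

universe u

variable {p : ℕ} {M : Ideal AlgInt}

theorem over_res_eq {G : Type u} [Group G] [Fintype G] [Fact p.Prime] (hM : IsPModular p M)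
    (N : Subgroup G) [hN : N.Normal] [Fintype N] (hreg : ADReg p M G N) (θ : IrrCharacter N)
    (hinv : ∀ (g : G) (n : N),
      (θ : N → ℂ) ⟨g * n * g⁻¹, hN.conj_mem (n : G) n.2 g⟩ = (θ : N → ℂ) n)
    (χ₀ : G → ℂ) (hχ₀ : IsIrrCharacter G χ₀) (hext : ∀ n : N, χ₀ n = (θ : N → ℂ) n)
    (ψ : IrrCharacter G) (hψ : ψ ∈ principalBlock M G)
    (hov : classInner (fun n : N => (ψ : G → ℂ) n) (θ : N → ℂ) ≠ 0) :
    ∀ n : N, (ψ : G → ℂ) n = (θ : N → ℂ) n := by
  classical
  have hMp := isPrime_of_isPModular hM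
  have hone : IsIrrCharacter N (fun _ : N => (1 : ℂ)) :=
    Cfsg.Agent.Lib.Helper80_CharBasic.isIrrCharacter_one N
  have hprodeq : (fun _ : N => (1 : ℂ)) * (θ : N → ℂ) = (θ : N → ℂ) := by
    funext n; simp
  have hbij := Cfsg.Agent.S0856.result N (fun _ => 1) (θ : N → ℂ) hone θ.2 (fun _ _ => rfl) hinv
    (by rw [hprodeq]; exact θ.2) χ₀ hχ₀ hext
  have hψc : IsClassFunction G (ψ : G → ℂ) := isClassFunction_of_isIrrCharacter ψ.2
  have hmem : (ψ : G → ℂ) ∈ {ψ' : G → ℂ | IsIrrCharacter G ψ' ∧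
      classInner (indFun N ((fun _ : N => (1 : ℂ)) * (θ : N → ℂ))) ψ' ≠ 0} := by
    refine ⟨ψ.2, ?_⟩
    rw [hprodeq, frobenius_reciprocity N _ _ hψc]
    intro h0
    apply hov
    rw [← classInner_conj_symm, h0, map_zero]
  obtain ⟨β, ⟨hβirr, hβne⟩, hβ⟩ := hbij.surjOn hmem
  have hβψ : ∀ g : G, (ψ : G → ℂ) g = β g * χ₀ g := by
    intro g
    rw [← hβ]; rfl
  -- `β` restricted to `N` is constant
  have hβc : IsClassFunction G β := isClassFunction_of_isIrrCharacter hβirr
  rw [frobenius_reciprocity N _ _ hβc] at hβne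
  have hβne' : classInner (res N β) (fun _ : N => (1 : ℂ)) ≠ 0 := by
    intro h0
    apply hβne
    rw [← classInner_conj_symm]
    show (starRingEnd ℂ) (classInner (res N β) (fun _ : N => (1 : ℂ))) = 0
    rw [h0, map_zero]
  have hres := res_eq_smul_of_invariant N hN hβirr hone
    (conjFun_eq_of_forall N hN (fun _ : N => (1 : ℂ)) (fun _ _ => rfl)) hβne'
  have hβN : ∀ k : N, β k = β 1 := by
    intro k
    have h1 := congrFun hres k
    have h2 := congrFun hres 1
    simp only [res_apply, Pi.smul_apply, smul_eq_mul, mul_one] at h1 h2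
    rw [h1]
    exact h2.symm
  -- a representation affording `β`
  obtain ⟨n, ρ, hρirr, hρ⟩ := hβirr
  have hρN : ∀ k : N, ρ (k : G) = LinearMap.id := by
    intro k
    apply (Cfsg.Agent.Lib.Helper3_CharEigen.char_eq_finrank_iff ρ (k : G)).1
    have h1 : ρ.character 1 = (Module.finrank ℂ (Fin n → ℂ) : ℂ) := Representation.char_one ρ
    rw [← h1, hρ]
    exact hβN k
  have hβcoset : ∀ (g : G) (k : N), β (g * k) = β g := by
    intro g k
    rw [← hρ, Representation.character, Representation.character, map_mul, hρN k]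
    rfl
  -- `β` vanishes nowhere
  have hβnz : ∀ g : G, β g ≠ 0 := by
    intro g
    obtain ⟨x, hxN, -, hcong⟩ := hreg g
    have hc := hcong (fun _ => (1 : ℂ)) (ψ : G → ℂ) hψ
    simp only [div_one] at hc
    have hψx : (ψ : G → ℂ) x ≠ 0 := by
      intro h0
      rw [h0, zero_div, sub_zero] at hc
      exact not_memLocalIdeal_one hMp hc
    have hβx : β x ≠ 0 := by
      intro h0
      apply hψx
      rw [hβψ, h0, zero_mul]
    have : β x = β g := by
      have := hβcoset g ⟨g⁻¹ * x, hxN⟩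
      simp only [mul_inv_cancel_left] at this
      exact this
    rw [← this]; exact hβx
  -- Burnside: `β` is linear
  have hn1 : β 1 = 1 := by
    have := hρirr
    have hfr : Module.finrank ℂ (Fin n → ℂ) = n := by simp
    have hle : ¬ 1 < Module.finrank ℂ (Fin n → ℂ) := by
      intro hlt
      obtain ⟨g, hg⟩ := Cfsg.Agent.Lib.Helper76_CharZeros.exists_char_eq_zero ρ hlt
      rw [hρ] at hg
      exact hβnz g hg
    have hpos : 0 < Module.finrank ℂ (Fin n → ℂ) :=
      Cfsg.Agent.Lib.Helper76_CharZeros.finrank_pos_of_irreducible ρ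
    rw [← hρ, Representation.char_one]
    have : Module.finrank ℂ (Fin n → ℂ) = 1 := by omega
    rw [this]; simp
  intro k
  rw [hβψ, hβN, hn1, one_mul, hext]

end Cfsg.Agent.Lib.Helper64_AD_BURN
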