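import Mathlib
import Cfsg.Prelude.Def_Blocks
import Cfsg.Agent.Lib.Helper78_ADDefs
import Cfsg.Agent.Lib.Helper78_LocalRing
import Cfsg.Agent.Lib.Helper75_Gallagher
import Cfsg.Agent.Lib.Helper75_LinChar

/-!
# S4551 (Alperin–Dade) package AD-UNIQ (architect helper78): two extensions of `θ` in the principal
block of `G` coincide.
-/

set_option autoImplicit false

namespace Cfsg.Agent.Lib.Helper64_AD_UNIQ

open Cfsg Cfsg.Agent.Lib.Helper78_ADDefs Cfsg.Agent.Lib.Helper78_LocalRing
open Cfsg.Agent.Lib.Helper75_LinChar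

universe u

variable {p : ℕ} {M : Ideal AlgInt}

/-- a root of unity of order prime to `p` which is `1` modulo the local ideal is `1` -/
theorem eq_one_of_memLocalIdeal (hM : IsPModular p M) (ε : ℂ) (m : ℕ) (hm : ¬ p ∣ m)
    (hε : ε ^ m = 1) (h : MemLocalIdeal M (ε - 1)) : ε = 1 := by
  by_contra hne
  have hMp := isPrime_of_isPModular hM
  have hεR : MemLocalRing M ε := by
    have := memLocalRing_add hMp (memLocalRing_one hMp) (memLocalRing_of_memLocalIdeal h)
    simpa using this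
  have hsum0 : ∑ j ∈ Finset.range m, ε ^ j = 0 := by
    have h1 := geom_sum_mul ε m
    rw [hε, sub_self] at h1
    rcases mul_eq_zero.1 h1 with h2 | h2
    · exact h2
    · exact absurd (sub_eq_zero.1 h2) hne
  have hterm : ∀ j : ℕ, MemLocalIdeal M (1 - ε ^ j) := by
    intro j
    have h1 := geom_sum_mul ε j
    have h2 : 1 - ε ^ j = (-(∑ i ∈ Finset.range j, ε ^ i)) * (ε - 1) := by
      rw [neg_mul, h1]; ring
    rw [h2]
    apply memLocalIdeal_mul_left hMp _ h
    exact memLocalRing_neg (memLocalRing_sum hMp _ _ (fun i _ => memLocalRing_pow hMp hεR i))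
  have hm' : (m : ℂ) = ∑ j ∈ Finset.range m, (1 - ε ^ j) := by
    rw [Finset.sum_sub_distrib, hsum0, sub_zero]
    simp
  have : MemLocalIdeal M (m : ℂ) := by
    rw [hm']
    exact memLocalIdeal_sum hMp _ _ (fun j _ => hterm j)
  exact hm ((memLocalIdeal_natCast_iff hM m).1 this)

theorem unique_ext {G : Type u} [Group G] [Finite G] [Fact p.Prime] (hM : IsPModular p M)
    (N : Subgroup G) [hN : N.Normal] (hreg : ADReg p M G N) (θ : IrrCharacter N)
    (χ χ' : IrrCharacter G) (hχ : χ ∈ principalBlock M G) (hχ' : χ' ∈ principalBlock M G)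
    (h1 : ∀ n : N, (χ : G → ℂ) n = (θ : N → ℂ) n)
    (h2 : ∀ n : N, (χ' : G → ℂ) n = (θ : N → ℂ) n) : χ = χ' := by
  classical
  have hMp := isPrime_of_isPModular hM
  have : Fintype G := Fintype.ofFinite G
  have hηN : IsIrrCharacter N (fun n : N => (χ : G → ℂ) n) := by
    have : (fun n : N => (χ : G → ℂ) n) = (θ : N → ℂ) := funext h1
    rw [this]; exact θ.2
  obtain ⟨β, hβ, hβN, hβχ⟩ := Cfsg.Agent.Lib.Helper75_Gallagher.exists_lin_of_extensions N
    χ.2 χ'.2 hηN (fun n => (h2 n).trans (h1 n).symm)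
  have hβ1 : ∀ g : G, β g = 1 := by
    intro g
    obtain ⟨x, hxN, hxp, hcong⟩ := hreg g
    have hc1 := hcong (fun _ => (1 : ℂ)) (χ : G → ℂ) hχ
    have hc2 := hcong (fun _ => (1 : ℂ)) (χ' : G → ℂ) hχ'
    simp only [div_one] at hc1 hc2
    have hχ'x : (χ' : G → ℂ) x = β x * (χ : G → ℂ) x := by rw [hβχ]; rfl
    have hχ'1 : (χ' : G → ℂ) 1 = (χ : G → ℂ) 1 := by
      rw [hβχ]
      show β 1 * (χ : G → ℂ) 1 = _
      rw [hβ.2, one_mul]
    rw [hχ'x, hχ'1] at hc2
    -- `β x` is a local integer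
    have hβxR : MemLocalRing M (β x) := by
      have hint : IsIntegral ℤ (β x) := by
        have hpos : 0 < Nat.card G := Nat.card_pos
        apply IsIntegral.of_pow hpos
        rw [hβ.pow_card_eq_one]
        exact isIntegral_one
      exact memLocalRing_algInt hMp ⟨β x, hint⟩
    have hβx1 : MemLocalIdeal M (β x - 1) := by
      have e : β x - 1 = β x * (1 - (χ : G → ℂ) x / (χ : G → ℂ) 1) -
          (1 - β x * (χ : G → ℂ) x / (χ : G → ℂ) 1) := by ring
      rw [e]
      exact memLocalIdeal_sub hMp (memLocalIdeal_mul_left hMp hβxR hc1) hc2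
    have hβx : β x = 1 := by
      apply eq_one_of_memLocalIdeal hM (β x) (orderOf x) hxp _ hβx1
      rw [← hβ.map_pow, pow_orderOf_eq_one, hβ.2]
    have hgx : β x = β g * β (g⁻¹ * x) := by
      rw [← hβ.map_mul, mul_inv_cancel_left]
    have := hβN ⟨g⁻¹ * x, hxN⟩
    simp only at this
    rw [this, mul_one] at hgx
    rw [← hgx, hβx]
  apply Subtype.ext
  rw [hβχ]
  funext g
  show (χ : G → ℂ) g = β g * (χ : G → ℂ) g
  rw [hβ1, one_mul]

end Cfsg.Agent.Lib.Helper64_AD_UNIQ
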