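import Mathlib
import Cfsg.Prelude.Def_Blocks
import Cfsg.Agent.Lib.Helper78_ADDefs
import Cfsg.Agent.Lib.Helper78_Transport
import Cfsg.Agent.Lib.Helper78_TransportBlocks

/-!
# AD-AMB: the typed Alperin–Dade conclusion for `(↥S, N.subgroupOf S)` gives the ambient one (helper78)
-/

set_option autoImplicit false

namespace Cfsg.Agent.Lib.Helper78_AD_AMB

open Cfsg Cfsg.Agent.Lib.Helper78_ADDefs Cfsg.Agent.Lib.Helper78_Transport
  Cfsg.Agent.Lib.Helper78_TransportBlocks

universe u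

variable {M : Ideal AlgInt}

/-- **AD-AMB.** -/
theorem amb_of_typed {G : Type u} [Group G] [Finite G] (N S : Subgroup G) (hNS : N ≤ S)
    (h : ADConcl M S (N.subgroupOf S)) : ADConclAmb M N S hNS := by
  intro θ hθ
  set e : N.subgroupOf S ≃* N := Subgroup.subgroupOfEquivOfLe hNS with he
  have hmem : irrComp e θ ∈ principalBlock M (N.subgroupOf S) := by
    have h1 : SameBlock M ((fun _ : N => (1 : ℂ)) ∘ e) ((θ : N → ℂ) ∘ e) :=
      sameBlock_comp_mulEquiv e hθ
    exact h1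
  -- the key translation
  have key : ∀ η : IrrCharacter S,
      (∀ n : N, (η : S → ℂ) ⟨(n : G), hNS n.2⟩ = (θ : N → ℂ) n) ↔
      (∀ m : N.subgroupOf S, (η : S → ℂ) m = (irrComp e θ : N.subgroupOf S → ℂ) m) := by
    intro η
    constructor
    · intro h1 m
      rw [irrComp_apply]
      have h2 := h1 (e m)
      rw [← h2]
      congr 1
    · intro h1 n
      have h2 := h1 (e.symm n)
      rw [irrComp_apply, MulEquiv.apply_symm_apply] at h2
      rw [← h2]
      congr 1
  obtain ⟨⟨χ, hχ, hχr⟩, huniq⟩ := h.2 (irrComp e θ) hmem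
  refine ⟨⟨χ, hχ, (key χ).2 hχr⟩, ?_⟩
  intro η η' hη hη' h1 h2
  exact huniq η η' hη hη' ((key η).1 h1) ((key η').1 h2)

end Cfsg.Agent.Lib.Helper78_AD_AMB
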