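import Mathlib
import Cfsg.Prelude.Def_Blocks
import Cfsg.Agent.Lib.Helper16_Cover

/-!
# AD-CJ: a conjugate of a member of the principal block of a normal subgroup (helper78)
-/

set_option autoImplicit false

namespace Cfsg.Agent.Lib.Helper78_AD_CJ

open Cfsg Cfsg.Agent.Lib.Helper16_Cover Cfsg.Agent.Lib.Helper16_Orbit

universe u

variable {M : Ideal AlgInt}

/-- **AD-CJ.** -/
theorem exists_cj_principal {G : Type u} [Group G] [Finite G] (hM : M.IsPrime)
    (K : Subgroup G) [hK : K.Normal] (η : IrrCharacter K) (hη : η ∈ principalBlock M K) (g : G) :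
    ∃ η' : IrrCharacter K, η' ∈ principalBlock M K ∧
      ∀ k : K, (η' : K → ℂ) k = (η : K → ℂ) ⟨g * k * g⁻¹, hK.conj_mem (k : G) k.2 g⟩ := by
  refine ⟨cjIrr K g⁻¹ η, ?_, ?_⟩
  · have h := sameBlock_cj (M := M) K g⁻¹ (φ := fun _ : K => (1 : ℂ)) (φ' := (η : K → ℂ)) hη
    exact h
  · intro k
    show cj K g⁻¹ (η : K → ℂ) k = _
    unfold cj
    have h : (MulAut.conjNormal g⁻¹⁻¹ : MulAut K) k =
        ⟨g * k * g⁻¹, hK.conj_mem (k : G) k.2 g⟩ := by
      apply Subtype.ext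
      rw [MulAut.conjNormal_apply, inv_inv]
    rw [h]

end Cfsg.Agent.Lib.Helper78_AD_CJ
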