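import Mathlib
import Cfsg.Prelude.Def_Blocks
import Cfsg.Agent.Lib.Helper78_ADDefs

set_option autoImplicit false

namespace Cfsg.Agent.Lib.Helper78_AD_HYP

open Cfsg Cfsg.Agent.Lib.Helper78_ADDefs

universe u

variable {p : ℕ}

/-- A `p`-subgroup lies in every normal subgroup of index prime to `p`. -/
theorem le_of_isPGroup_of_not_dvd_index {G : Type u} [Group G] [Finite G] [Fact p.Prime]
    (N : Subgroup G) [hN : N.Normal] (hidx : ¬ p ∣ N.index) (P : Subgroup G) (hP : IsPGroup p P) :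
    P ≤ N := by
  intro x hx
  obtain ⟨k, hk⟩ := hP ⟨x, hx⟩
  have hk' : x ^ p ^ k = 1 := by
    have := congrArg Subtype.val hk
    simpa using this
  -- the image of x in G ⧸ N has order dividing p^k and |G/N|
  have h1 : (QuotientGroup.mk x : G ⧸ N) ^ p ^ k = 1 := by
    rw [← QuotientGroup.mk_pow, hk']
    rfl
  have h2 : (QuotientGroup.mk x : G ⧸ N) ^ N.index = 1 := by
    rw [Subgroup.index_eq_card]
    exact pow_card_eq_one'
  have hcop : Nat.Coprime (p ^ k) N.index :=
    Nat.Coprime.pow_left k ((Nat.Prime.coprime_iff_not_dvd Fact.out).mpr hidx)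
  have h3 : (QuotientGroup.mk x : G ⧸ N) = 1 := by
    have h4 := orderOf_dvd_of_pow_eq_one h1
    have h5 := orderOf_dvd_of_pow_eq_one h2
    have h6 : orderOf (QuotientGroup.mk x : G ⧸ N) ∣ 1 := by
      have := Nat.dvd_gcd h4 h5
      rwa [hcop] at this
    exact orderOf_eq_one_iff.mp (Nat.dvd_one.mp h6)
  exact (QuotientGroup.eq_one_iff x).mp h3

/-- The hypothesis of S4551 gives `ADHyp`. -/
theorem adHyp_of_sylow {G : Type u} [Group G] [Finite G] [Fact p.Prime] (N : Subgroup G)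
    [hN : N.Normal] (hidx : ¬ p ∣ N.index) (P : Sylow p G)
    (hsup : N ⊔ Subgroup.centralizer ((P : Subgroup G) : Set G) = ⊤) : ADHyp p G N := by
  refine ⟨(P : Subgroup G), P.isPGroup', le_of_isPGroup_of_not_dvd_index N hidx _ P.isPGroup',
    P.not_dvd_index, ?_⟩
  intro g
  have hg : g ∈ N ⊔ Subgroup.centralizer ((P : Subgroup G) : Set G) := by
    rw [hsup]; exact Subgroup.mem_top g
  rw [← SetLike.mem_coe, Subgroup.normal_mul, Set.mem_mul] at hg
  obtain ⟨n, hn, c, hc, rfl⟩ := hg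
  exact ⟨n, hn, c, hc, rfl⟩

end Cfsg.Agent.Lib.Helper78_AD_HYP
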