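import Mathlib
import Cfsg.Prelude.Def_Blocks
import Cfsg.Agent.Lib.Helper78_ADDefs
import Cfsg.Agent.Lib.Helper78_LocalRing

set_option autoImplicit false

namespace Cfsg.Agent.Lib.Helper78_AD_REG

open Cfsg Cfsg.Agent.Lib.Helper78_ADDefs Cfsg.Agent.Lib.Helper78_LocalRing

universe u

variable {p : ℕ} {M : Ideal AlgInt}

/-- An element killed by a power of `p` lies in every normal subgroup of index prime to `p`. -/
theorem mem_of_pow_eq_one {G : Type u} [Group G] [Finite G] [Fact p.Prime]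
    (N : Subgroup G) [hN : N.Normal] (hidx : ¬ p ∣ N.index) (x : G) (k : ℕ)
    (hk' : x ^ p ^ k = 1) : x ∈ N := by
  have h1 : (QuotientGroup.mk x : G ⧸ N) ^ p ^ k = 1 := by
    rw [← QuotientGroup.mk_pow, hk']
    rfl
  have h2 : (QuotientGroup.mk x : G ⧸ N) ^ N.index = 1 := by
    rw [Subgroup.index_eq_card]
    exact pow_card_eq_one'
  have hcop : Nat.Coprime (p ^ k) N.index :=
    Nat.Coprime.pow_left k ((Nat.Prime.coprime_iff_not_dvd Fact.out).mpr hidx)
  have h3 : (QuotientGroup.mk x : G ⧸ N) = 1 := by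
    have h4 := orderOf_dvd_of_pow_eq_one h1
    have h5 := orderOf_dvd_of_pow_eq_one h2
    have h6 : orderOf (QuotientGroup.mk x : G ⧸ N) ∣ 1 := by
      have := Nat.dvd_gcd h4 h5
      rwa [hcop] at this
    exact orderOf_eq_one_iff.mp (Nat.dvd_one.mp h6)
  exact (QuotientGroup.eq_one_iff x).mp h3

/-- The `p'`-part of an element, as a power. -/
theorem exists_pow_regular {G : Type u} [Group G] [Finite G] [Fact p.Prime] (c : G) :
    ∃ (j k : ℕ), ¬ p ∣ orderOf (c ^ j) ∧ (c⁻¹ * c ^ j) ^ p ^ k = 1 := by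
  have hp : p.Prime := Fact.out
  have hpos : orderOf c ≠ 0 := (orderOf_pos c).ne'
  obtain ⟨k, m, hm, hkm⟩ := Nat.exists_eq_pow_mul_and_not_dvd hpos p hp.ne_one
  have hcop : Nat.Coprime (p ^ k) m :=
    Nat.Coprime.pow_left k ((Nat.Prime.coprime_iff_not_dvd hp).mpr hm)
  obtain ⟨j, hj0, hj1⟩ := Nat.chineseRemainder hcop 0 1
  refine ⟨j, k, ?_, ?_⟩
  · -- (c^j)^m = 1
    have h1 : (c ^ j) ^ m = 1 := by
      rw [← pow_mul]
      have hd : p ^ k ∣ j := (Nat.modEq_zero_iff_dvd).mp hj0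
      obtain ⟨t, ht⟩ := hd
      have : j * m = orderOf c * t := by rw [ht, hkm]; ring
      rw [this, pow_mul, pow_orderOf_eq_one, one_pow]
    intro hd
    exact hm (dvd_trans hd (orderOf_dvd_of_pow_eq_one h1))
  · have hcomm : Commute c⁻¹ (c ^ j) := ((Commute.refl c).inv_left).pow_right j
    rw [hcomm.mul_pow, ← pow_mul, inv_pow]
    have h2 : c ^ (j * p ^ k) = c ^ (p ^ k) := by
      rw [pow_eq_pow_iff_modEq, hkm]
      have h3 : j * p ^ k ≡ 1 * p ^ k [MOD m * p ^ k] := Nat.ModEq.mul_right' (p ^ k) hj1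
      rw [one_mul] at h3
      rwa [mul_comm (p ^ k) m]
    rw [h2, inv_mul_cancel]

/-- **AD-REG.** -/
theorem adReg_of_hyp {G : Type u} [Group G] [Finite G] [Fact p.Prime] (hM : IsPModular p M)
    (N : Subgroup G) [hN : N.Normal] (h : ADHyp p G N) : ADReg p M G N := by
  have hMp := isPrime_of_isPModular hM
  obtain ⟨P, hP, hPN, hPidx, hfac⟩ := h
  have hidx : ¬ p ∣ N.index := fun hd => hPidx (dvd_trans hd (Subgroup.index_dvd_of_le hPN))
  intro g
  obtain ⟨n, hn, c, hc, rfl⟩ := hfac g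
  obtain ⟨j, k, hreg, hpk⟩ := exists_pow_regular (p := p) c
  have hxc : c ^ j ∈ Subgroup.centralizer (P : Set G) := Subgroup.pow_mem _ hc j
  refine ⟨c ^ j, ?_, hreg, ?_⟩
  · have h1 : c⁻¹ * c ^ j ∈ N := mem_of_pow_eq_one N hidx _ k hpk
    have h2 : (n * c)⁻¹ * c ^ j = (c⁻¹ * n⁻¹ * c⁻¹⁻¹) * (c⁻¹ * c ^ j) := by group
    rw [h2]
    exact N.mul_mem (hN.conj_mem _ (N.inv_mem hn) _) h1
  · intro χ ψ hsb
    set x := c ^ j with hx
    have hle : P ≤ Subgroup.centralizer ({x} : Set G) := by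
      intro y hy
      rw [Subgroup.mem_centralizer_iff]
      intro z hz
      rw [Set.mem_singleton_iff] at hz
      subst hz
      exact ((Subgroup.mem_centralizer_iff.mp hxc) y hy).symm
    have hnd : ¬ p ∣ (Subgroup.centralizer ({x} : Set G)).index :=
      fun hd => hPidx (dvd_trans hd (Subgroup.index_dvd_of_le hle))
    have h1 := hsb x
    unfold centralChar at h1
    set I := (Subgroup.centralizer ({x} : Set G)).index with hI
    have hI0 : (I : ℂ) ≠ 0 := by
      have : I ≠ 0 := Subgroup.index_ne_zero_of_finite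
      exact_mod_cast this
    have h2 := memLocalIdeal_mul_left hMp (memLocalRing_inv_natCast hM hnd) h1
    have h3 : ((I : ℂ))⁻¹ * ((I : ℂ) * χ x / χ 1 - (I : ℂ) * ψ x / ψ 1) =
        χ x / χ 1 - ψ x / ψ 1 := by
      field_simp
    rwa [h3] at h2

end Cfsg.Agent.Lib.Helper78_AD_REG
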