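import Mathlib
import Cfsg.Prelude.Def_Characters
import Cfsg.Agent.Lib.Helper80_StabCover
import Cfsg.Agent.Lib.Helper75_Gallagher
import Cfsg.Agent.Lib.Helper75_LinChar

/-!
# Extendibility of an invariant character from Sylow extensions (helper80)

If `ϑ ∈ Irr(N)` is `G`-invariant and extends to subgroups `P ⊇ N` whose indices in `G` have
greatest common divisor one (for instance, for every prime `p`, to some `P` of index prime to `p`),
then `ϑ` extends to `G`.  The proof works in the stabilizer cover, where `ϑ` extends; the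
obstruction is a linear character of the central kernel, which is killed by transfer.
-/

set_option autoImplicit false
set_option linter.unusedSectionVars false

namespace Cfsg.Agent.Lib.Helper80_ExtSylow

open Cfsg.Agent.Lib.Helper80_StabCover
open Cfsg.Agent.Lib.Helper75_LinChar

universe u

/-! ### arithmetic -/

theorem one_mem_of_coprime (S : AddSubgroup ℤ)
    (h : ∀ p : ℕ, p.Prime → ∃ m : ℕ, m.Coprime p ∧ (m : ℤ) ∈ S) : (1 : ℤ) ∈ S := by
  classical
  have hex : ∃ o : ℕ, 0 < o ∧ (o : ℤ) ∈ S := by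
    obtain ⟨m, hm, hmS⟩ := h 2 Nat.prime_two
    refine ⟨m, ?_, hmS⟩
    rcases Nat.eq_zero_or_pos m with h0 | h0
    · subst h0
      simp at hm
    · exact h0
  obtain ⟨hopos, hoS⟩ := Nat.find_spec hex
  set o := Nat.find hex with ho
  have hoZ : (0 : ℤ) < (o : ℤ) := by exact_mod_cast hopos
  have hdiv : ∀ j : ℤ, j ∈ S → (o : ℤ) ∣ j := by
    intro j hj
    have h1 : j % (o : ℤ) ∈ S := by
      rw [Int.emod_def]
      refine S.sub_mem hj ?_
      rw [mul_comm, ← smul_eq_mul]
      exact S.zsmul_mem hoS _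
    have h2 : 0 ≤ j % (o : ℤ) := Int.emod_nonneg _ hoZ.ne'
    have h3 : j % (o : ℤ) < o := Int.emod_lt_of_pos _ hoZ
    by_contra hnd
    have h4 : j % (o : ℤ) ≠ 0 := fun h => hnd (Int.dvd_of_emod_eq_zero h)
    have h5 : ((j % (o : ℤ)).toNat : ℤ) = j % (o : ℤ) := Int.toNat_of_nonneg h2
    have h6 : (j % (o : ℤ)).toNat < o := by
      have : ((j % (o : ℤ)).toNat : ℤ) < o := by rw [h5]; exact h3
      exact_mod_cast this
    have h7 : 0 < (j % (o : ℤ)).toNat := by
      have : (0 : ℤ) < ((j % (o : ℤ)).toNat : ℤ) := by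
        rw [h5]
        exact lt_of_le_of_ne h2 (Ne.symm h4)
      exact_mod_cast this
    exact Nat.find_min hex h6 ⟨h7, by rw [h5]; exact h1⟩
  by_contra h1
  have ho1 : o ≠ 1 := by
    intro h
    rw [h] at hoS
    exact h1 (by exact_mod_cast hoS)
  obtain ⟨q, hq, hqo⟩ := Nat.exists_prime_and_dvd ho1
  obtain ⟨m, hm, hmS⟩ := h q hq
  have h2 : (o : ℤ) ∣ (m : ℤ) := hdiv _ hmS
  have h3 : o ∣ m := by exact_mod_cast h2
  have h4 : q ∣ m := hqo.trans h3
  have h5 : q ∣ Nat.gcd m q := Nat.dvd_gcd h4 dvd_rfl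
  rw [hm] at h5
  exact hq.one_lt.ne' (Nat.dvd_one.mp h5)

/-! ### Gallagher, homomorphism form -/

theorem exists_hom_of_extensions {K : Type*} [Group K] [Finite K] (M : Subgroup K) [hM : M.Normal]
    {η χ' : K → ℂ} (hη : Cfsg.IsIrrCharacter K η) (hχ' : Cfsg.IsIrrCharacter K χ')
    (hηM : Cfsg.IsIrrCharacter M (fun n : M => η n)) (hres : ∀ n : M, χ' n = η n) :
    ∃ lam : K →* ℂˣ, (∀ n : M, lam n = 1) ∧ ∀ x : K, χ' x = (lam x : ℂ) * η x := by
  classical
  have : Fintype K := Fintype.ofFinite K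
  obtain ⟨β, hβ, hβM, hβmul⟩ :=
    Cfsg.Agent.Lib.Helper75_Gallagher.exists_lin_of_extensions M hη hχ' hηM hres
  refine ⟨MonoidHom.toHomUnits hβ.hom, ?_, ?_⟩
  · intro n
    apply Units.ext
    rw [MonoidHom.coe_toHomUnits]
    exact hβM n
  · intro x
    rw [MonoidHom.coe_toHomUnits, hβmul]
    rfl

/-! ### scalars -/

section scalars

variable {V : Type*} [AddCommGroup V] [Module ℂ V]

/-- the scalar units -/
noncomputable def sU : ℂˣ →* (Module.End ℂ V)ˣ :=
  Units.map (algebraMap ℂ (Module.End ℂ V)).toMonoidHom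

theorem coe_sU (a : ℂˣ) : ((sU a : (Module.End ℂ V)ˣ) : Module.End ℂ V) =
    (a : ℂ) • (1 : Module.End ℂ V) := by
  show algebraMap ℂ (Module.End ℂ V) (a : ℂ) = _
  rw [Algebra.algebraMap_eq_smul_one]

theorem sU_comm (a : ℂˣ) (u : (Module.End ℂ V)ˣ) : sU a * u = u * sU a := by
  apply Units.ext
  rw [Units.val_mul, Units.val_mul, coe_sU, smul_mul_assoc, one_mul, mul_smul_comm, mul_one]

theorem scalar_ne_zero [Nontrivial V] (u : (Module.End ℂ V)ˣ) (c : ℂ)
    (h : (u : Module.End ℂ V) = c • (1 : Module.End ℂ V)) : c ≠ 0 := by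
  intro h0
  rw [h0, zero_smul] at h
  obtain ⟨v, hv⟩ := exists_ne (0 : V)
  have h1 : ((u⁻¹ : (Module.End ℂ V)ˣ) : Module.End ℂ V) ((u : Module.End ℂ V) v) = v := by
    rw [← Module.End.mul_apply, Units.inv_mul, Module.End.one_apply]
  rw [h, LinearMap.zero_apply, map_zero] at h1
  exact hv h1.symm

end scalars

/-! ### the exponents realised by linear characters of the cover -/

section good

variable {G : Type u} [Group G] (N : Subgroup G) [hN : N.Normal]
  {V : Type*} [AddCommGroup V] [Module ℂ V] (Y : Representation ℂ N V) (k : ℕ)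
  (hdet : ∀ n : N, LinearMap.det (Y n) ^ k = 1)

/-- `j` is good if some linear character of the cover is trivial on the copy of `N` and restricts
to the `(-j)`-th power of the scalar character on the central kernel. -/
def goodExp [Nontrivial V] : AddSubgroup ℤ where
  carrier := {j | ∃ L : cover N Y k →* ℂˣ, (∀ n : N, L (coverIncl N Y k hdet n) = 1) ∧
    ∀ z ∈ (coverFst N Y k).ker, ∀ c : ℂ, (z.1.2 : Module.End ℂ V) = c • (1 : Module.End ℂ V) →
      ((L z : ℂˣ) : ℂ) * c ^ j = 1}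
  zero_mem' := ⟨1, fun _ => rfl, fun z _ c _ => by simp⟩
  add_mem' := by
    rintro a b ⟨L₁, h₁N, h₁Z⟩ ⟨L₂, h₂N, h₂Z⟩
    refine ⟨L₁ * L₂, fun n => ?_, fun z hz c hc => ?_⟩
    · rw [MonoidHom.mul_apply, h₁N, h₂N, one_mul]
    · have hc0 : c ≠ 0 := scalar_ne_zero z.1.2 c hc
      rw [MonoidHom.mul_apply, Units.val_mul, zpow_add₀ hc0]
      calc ((L₁ z : ℂˣ) : ℂ) * ((L₂ z : ℂˣ) : ℂ) * (c ^ a * c ^ b)
          = (((L₁ z : ℂˣ) : ℂ) * c ^ a) * (((L₂ z : ℂˣ) : ℂ) * c ^ b) := by ring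
        _ = 1 := by rw [h₁Z z hz c hc, h₂Z z hz c hc, one_mul]
  neg_mem' := by
    rintro a ⟨L, hLN, hLZ⟩
    refine ⟨L⁻¹, fun n => ?_, fun z hz c hc => ?_⟩
    · rw [MonoidHom.inv_apply, hLN, inv_one]
    · rw [MonoidHom.inv_apply, Units.val_inv_eq_inv_val, zpow_neg, ← mul_inv, hLZ z hz c hc,
        inv_one]

theorem mem_goodExp [Nontrivial V] (j : ℤ) : j ∈ goodExp N Y k hdet ↔
    ∃ L : cover N Y k →* ℂˣ, (∀ n : N, L (coverIncl N Y k hdet n) = 1) ∧
    ∀ z ∈ (coverFst N Y k).ker, ∀ c : ℂ, (z.1.2 : Module.End ℂ V) = c • (1 : Module.End ℂ V) →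
      ((L z : ℂˣ) : ℂ) * c ^ j = 1 := Iff.rfl

/-- If `1` is a good exponent, the representation extends to `G`. -/
theorem exists_extension_of_one_mem [FiniteDimensional ℂ V] [hY : Y.IsIrreducible] [Nontrivial V]
    (hsurj : Function.Surjective (coverFst N Y k))
    (h1 : (1 : ℤ) ∈ goodExp N Y k hdet) :
    ∃ ρ : Representation ℂ G V, ∀ n : N, ρ (n : G) = Y n := by
  obtain ⟨L, hLN, hLZ⟩ := h1
  -- the twisted representation of the cover
  let R : cover N Y k →* (Module.End ℂ V)ˣ := MonoidHom.mk' (fun x => sU (L x) * x.1.2) (by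
    intro x y
    show sU (L (x * y)) * (x.1.2 * y.1.2) = sU (L x) * x.1.2 * (sU (L y) * y.1.2)
    rw [map_mul, map_mul, mul_assoc, mul_assoc, ← mul_assoc (sU (L y)), sU_comm (L y) x.1.2,
      mul_assoc])
  have hR : ∀ x, R x = sU (L x) * x.1.2 := fun x => rfl
  have hker : (coverFst N Y k).ker ≤ R.ker := by
    intro z hz
    obtain ⟨c, hc, -⟩ := exists_scalar_of_mem_ker N Y k z hz
    rw [MonoidHom.mem_ker, hR]
    apply Units.ext
    rw [Units.val_mul, coe_sU, hc, smul_mul_assoc, one_mul, smul_smul, Units.val_one]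
    have := hLZ z hz c hc
    rw [zpow_one] at this
    rw [this, one_smul]
  let X : G →* (Module.End ℂ V)ˣ :=
    (coverFst N Y k).liftOfRightInverse (Function.surjInv hsurj)
      (Function.rightInverse_surjInv hsurj) ⟨R, hker⟩
  have hX : ∀ x : cover N Y k, X (coverFst N Y k x) = R x := fun x =>
    MonoidHom.liftOfRightInverse_comp_apply _ _ (Function.rightInverse_surjInv hsurj) ⟨R, hker⟩ x
  refine ⟨(Units.coeHom (Module.End ℂ V)).comp X, fun n => ?_⟩
  show ((X (n : G) : (Module.End ℂ V)ˣ) : Module.End ℂ V) = Y n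
  rw [← coverFst_coverIncl N Y k hdet n, hX, hR, hLN, map_one, one_mul]
  rfl

/-- If the character of `Y` extends to an irreducible character of `P ⊇ N`, the index of `P` is a
good exponent. -/
theorem index_mem_goodExp [Finite G] {d : ℕ} (Y : Representation ℂ N (Fin d → ℂ))
    [hY : Y.IsIrreducible] [Nontrivial (Fin d → ℂ)] (k : ℕ) (hk : 0 < k)
    (hdet : ∀ n : N, LinearMap.det (Y n) ^ k = 1)
    (hsurj : Function.Surjective (coverFst N Y k))
    (P : Subgroup G) (hNP : N ≤ P) (η : P → ℂ) (hη : Cfsg.IsIrrCharacter P η)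
    (hres : ∀ n : N, η ⟨(n : G), hNP n.2⟩ = Y.character n) :
    ((P.index : ℕ) : ℤ) ∈ goodExp N Y k hdet := by
  classical
  have hfin : Finite (cover N Y k) := finite_cover N Y k hk
  set π := coverFst N Y k with hπ
  set ι := coverIncl N Y k hdet with hι
  set τ := coverRep N Y k with hτ
  -- the preimage of P
  set Hp : Subgroup (cover N Y k) := P.comap π with hHp
  have hHpidx : Hp.index = P.index := Subgroup.index_comap_of_surjective P hsurj
  let ι' : N →* Hp := ι.codRestrict Hp (fun n => hNP n.2)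
  have hι' : ∀ n : N, ((ι' n : Hp) : cover N Y k) = ι n := fun n => rfl
  set K : Subgroup Hp := ι'.range with hK
  have hKnormal : K.Normal := by
    constructor
    rintro _ ⟨m, rfl⟩ x
    refine ⟨MulAut.conjNormal (π (x : cover N Y k)) m, ?_⟩
    apply Subtype.ext
    rw [Subgroup.coe_mul, Subgroup.coe_mul, Subgroup.coe_inv, hι', hι']
    exact (conj_coverIncl N Y k hdet (x : cover N Y k) m).symm
  -- the two characters of Hp
  set ητ : Hp → ℂ := fun x => τ.character (x : cover N Y k) with hητ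
  have hητirr : Cfsg.IsIrrCharacter Hp ητ :=
    ⟨d, MonoidHom.comp τ Hp.subtype,
      isIrreducible_of_comp ι' (MonoidHom.comp τ Hp.subtype) Y
        (fun n => coverRep_coverIncl N Y k hdet n), rfl⟩
  set χ' : Hp → ℂ := fun x => η ⟨π (x : cover N Y k), x.2⟩ with hχ'
  have hχ'irr : Cfsg.IsIrrCharacter Hp χ' := by
    obtain ⟨d'', Xp, hXirr, hXchar⟩ := hη
    let πp : Hp →* P := (π.comp Hp.subtype).codRestrict P (fun x => x.2)
    have hπp : Function.Surjective πp := by
      intro g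
      obtain ⟨x, hx⟩ := hsurj (g : G)
      have hxm : x ∈ Hp := by
        show π x ∈ P
        rw [hx]
        exact g.2
      exact ⟨⟨x, hxm⟩, Subtype.ext hx⟩
    refine ⟨d'', MonoidHom.comp Xp πp,
      Cfsg.Agent.Lib.Helper16_Orbit.irreducible_comp Xp πp hπp, ?_⟩
    funext x
    rw [hχ', ← hXchar]
    rfl
  have hηK : Cfsg.IsIrrCharacter K (fun n : K => ητ n) :=
    ⟨d, MonoidHom.comp (MonoidHom.comp τ Hp.subtype) K.subtype,
      isIrreducible_of_comp ι'.rangeRestrict
        (MonoidHom.comp (MonoidHom.comp τ Hp.subtype) K.subtype) Y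
        (fun n => coverRep_coverIncl N Y k hdet n), rfl⟩
  have hresK : ∀ n : K, χ' n = ητ n := by
    rintro ⟨_, m, rfl⟩
    show η ⟨π (ι m), _⟩ = τ.character (ι m)
    exact hres m
  obtain ⟨lam, hlamK, hlam⟩ := exists_hom_of_extensions K hητirr hχ'irr hηK hresK
  -- transfer
  refine ⟨MonoidHom.transfer lam, fun n => ?_, fun z hz c hc => ?_⟩
  · have : Fintype (Quotient (MulAction.orbitRel (Subgroup.zpowers (ι n))
        (cover N Y k ⧸ Hp))) := Fintype.ofFinite _
    rw [MonoidHom.transfer_eq_prod_quotient_orbitRel_zpowers_quot]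
    apply Finset.prod_eq_one
    intro q _
    set y : cover N Y k := q.out.out⁻¹ with hy
    have h1 : q.out.out⁻¹ * ι n ^ Function.minimalPeriod (fun x => ι n • x) q.out * q.out.out =
        ι (MulAut.conjNormal (π y) (n ^ Function.minimalPeriod (fun x => ι n • x) q.out)) := by
      rw [← conj_coverIncl N Y k hdet y, map_pow, hy, inv_inv]
    have h2 : (⟨q.out.out⁻¹ * ι n ^ Function.minimalPeriod (fun x => ι n • x) q.out * q.out.out,
        QuotientGroup.out_conj_pow_minimalPeriod_mem Hp (ι n) q.out⟩ : Hp) =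
        ι' (MulAut.conjNormal (π y) (n ^ Function.minimalPeriod (fun x => ι n • x) q.out)) :=
      Subtype.ext h1
    rw [h2]
    exact hlamK ⟨_, _, rfl⟩
  · have hzc : z ∈ Subgroup.center (cover N Y k) := ker_le_center N Y k hz
    have hπz : π z = 1 := hz
    have hzHp : z ∈ Hp := by
      show π z ∈ P
      rw [hπz]
      exact P.one_mem
    have key : ∀ (j : ℕ) (g₀ : cover N Y k), g₀⁻¹ * z ^ j * g₀ ∈ Hp →
        g₀⁻¹ * z ^ j * g₀ = z ^ j := by
      intro j g₀ _
      have h3 : z ^ j ∈ Subgroup.center (cover N Y k) := Subgroup.pow_mem _ hzc j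
      rw [Subgroup.mem_center_iff] at h3
      rw [mul_assoc, ← h3 g₀, ← mul_assoc, inv_mul_cancel, one_mul]
    rw [MonoidHom.transfer_eq_pow lam z key]
    have h4 : (⟨z ^ Hp.index, MonoidHom.transfer_eq_pow_aux z key⟩ : Hp) =
        (⟨z, hzHp⟩ : Hp) ^ Hp.index := Subtype.ext rfl
    rw [h4, map_pow, Units.val_pow_eq_pow_val, hHpidx, zpow_natCast, ← mul_pow]
    -- the relation on z
    have h5 := hlam ⟨z, hzHp⟩
    have h6 : χ' ⟨z, hzHp⟩ = (d : ℂ) := by
      show η ⟨π z, _⟩ = _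
      have h7 := hres 1
      rw [Representation.char_one, Module.finrank_fin_fun] at h7
      rw [← h7]
      congr 1
      exact Subtype.ext hπz
    have h8 : ητ ⟨z, hzHp⟩ = c * (d : ℂ) := by
      show LinearMap.trace ℂ (Fin d → ℂ) (z.1.2 : Module.End ℂ (Fin d → ℂ)) = _
      rw [hc, map_smul, LinearMap.trace_one, Module.finrank_fin_fun, smul_eq_mul]
    rw [h6, h8] at h5
    have hd0 : (d : ℂ) ≠ 0 := by
      have : 0 < d := by
        have := finrank_pos_of_irr N Y
        rwa [Module.finrank_fin_fun] at this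
      exact_mod_cast this.ne'
    have h9 : ((lam ⟨z, hzHp⟩ : ℂˣ) : ℂ) * c = 1 := by
      have : ((lam ⟨z, hzHp⟩ : ℂˣ) : ℂ) * c * (d : ℂ) = 1 * (d : ℂ) := by
        rw [one_mul, mul_assoc]
        exact h5.symm
      exact mul_right_cancel₀ hd0 this
    rw [h9, one_pow]

end good

/-! ### the theorem -/

/-- An invariant irreducible character of `N ⊴ G` which, for every prime `p`, extends to an
irreducible character of a subgroup `P ⊇ N` of index prime to `p`, extends to `G`. -/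
theorem exists_extension_of_coprime_indices {G : Type u} [Group G] [Finite G] (N : Subgroup G)
    [hN : N.Normal] (ϑ : N → ℂ) (hϑ : Cfsg.IsIrrCharacter N ϑ)
    (hinv : ∀ (g : G) (n : N), ϑ ⟨g * n * g⁻¹, hN.conj_mem (n : G) n.2 g⟩ = ϑ n)
    (hsyl : ∀ p : ℕ, p.Prime → ∃ (P : Subgroup G) (hNP : N ≤ P) (η : P → ℂ),
      Nat.Coprime P.index p ∧ Cfsg.IsIrrCharacter P η ∧ ∀ n : N, η ⟨(n : G), hNP n.2⟩ = ϑ n) :
    ∃ χ : G → ℂ, Cfsg.IsIrrCharacter G χ ∧ ∀ n : N, χ n = ϑ n := by
  classical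
  obtain ⟨d, Y, hYirr, hYchar⟩ := hϑ
  have hdpos : 0 < d := by
    have := finrank_pos_of_irr N Y
    rwa [Module.finrank_fin_fun] at this
  have hnt : Nontrivial (Fin d → ℂ) := by
    have : Nonempty (Fin d) := ⟨⟨0, hdpos⟩⟩
    infer_instance
  set k := Nat.card N with hk
  have hkpos : 0 < k := Nat.card_pos
  have hdet : ∀ n : N, LinearMap.det (Y n) ^ k = 1 := fun n => det_pow_card_eq_one N Y n
  have hinv' : ∀ (g : G) (n : N), Y.character (MulAut.conjNormal g n) = Y.character n := by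
    intro g n
    rw [hYchar]
    have h1 : (MulAut.conjNormal g n : N) = ⟨g * n * g⁻¹, hN.conj_mem (n : G) n.2 g⟩ := by
      apply Subtype.ext
      rw [MulAut.conjNormal_apply]
    rw [h1]
    exact hinv g n
  have hsurj : Function.Surjective (coverFst N Y k) := coverFst_surjective N Y k hkpos hinv'
  have hS : ∀ p : ℕ, p.Prime → ∃ m : ℕ, m.Coprime p ∧ (m : ℤ) ∈ goodExp N Y k hdet := by
    intro p hp
    obtain ⟨P, hNP, η, hcop, hηirr, hηres⟩ := hsyl p hp
    refine ⟨P.index, hcop, index_mem_goodExp N Y k hkpos hdet hsurj P hNP η hηirr ?_⟩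
    intro n
    rw [hYchar]
    exact hηres n
  have h1 := one_mem_of_coprime (goodExp N Y k hdet) hS
  obtain ⟨ρ, hρ⟩ := exists_extension_of_one_mem N Y k hdet hsurj h1
  have hρirr : ρ.IsIrreducible := isIrreducible_of_comp N.subtype ρ Y hρ
  refine ⟨ρ.character, ⟨d, ρ, hρirr, rfl⟩, fun n => ?_⟩
  rw [← hYchar]
  show LinearMap.trace ℂ _ (ρ (n : G)) = LinearMap.trace ℂ _ (Y n)
  rw [hρ n]

end Cfsg.Agent.Lib.Helper80_ExtSylow
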