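import Mathlib
import Cfsg.Prelude.Def_Blocks
import Cfsg.Agent.Lib.Helper78_ADDefs
import Cfsg.Agent.Lib.Helper78_LocalRing
import Cfsg.Agent.Lib.Helper78_AD_REG
import Cfsg.Agent.Lib.Helper78_AD_HYP
import Cfsg.Agent.Lib.Helper78_AD_CJ
import Cfsg.Agent.Lib.Helper78_AD_AMB
import Cfsg.Agent.Lib.Helper35_AD_SYL
import Cfsg.Agent.Lib.Helper35_AD_SUB
import Cfsg.Agent.Lib.Helper64_AD_UNIQ
import Cfsg.Agent.Lib.Helper64_AD_BURN
import Cfsg.Agent.Lib.Helper57_AD_INV
import Cfsg.Agent.Lib.Helper75_ExtendCyclic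
import Cfsg.Agent.Lib.Helper75_ExtendSolvable
import Cfsg.Agent.Lib.Helper80_ExtSylow
import Cfsg.Agent.Lib.Helper16_Cover
import Cfsg.Agent.Lib.Helper76_ResidualExt
import Cfsg.Agent.Lib.Helper77_StableCover
import Cfsg.Agent.S4432

/-!
# Alperin–Dade, `p'`-index (S4551): assembly (architect helper78)

THEOREM. `N ⊴ G`, `p ∤ |G:N|`, `P ∈ Syl_p(G)`, `G = N·C_G(P)`. Then restriction is a bijection
`B₀(G) → B₀(N)`.

Packages: AD-REG, AD-HYP, AD-CJ, AD-AMB (helper78), AD-SYL, AD-SUB (helper35), AD-UNIQ, AD-BURN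
(helper64), AD-INV (helper57). The extension of `θ ∈ B₀(N)` to `G` is by strong induction on
`|G:N|`: solvable quotient via a normal subgroup with cyclic quotient (Helper75_ExtendSolvable,
Helper75_ExtendCyclic), non-solvable quotient via preimages of Sylow subgroups
(Helper80_ExtSylow).
-/

set_option autoImplicit false

namespace Cfsg.Agent.Lib.Helper78_ADMain

open Cfsg Cfsg.Agent.Lib.Helper78_ADDefs Cfsg.Agent.Lib.Helper78_LocalRing
open Cfsg.Agent.Lib.Helper78_AD_REG Cfsg.Agent.Lib.Helper78_AD_HYP Cfsg.Agent.Lib.Helper78_AD_CJ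
  Cfsg.Agent.Lib.Helper78_AD_AMB Cfsg.Agent.Lib.Helper35_AD_SYL Cfsg.Agent.Lib.Helper35_AD_SUB
  Cfsg.Agent.Lib.Helper64_AD_UNIQ Cfsg.Agent.Lib.Helper64_AD_BURN Cfsg.Agent.Lib.Helper57_AD_INV

universe u

variable {p : ℕ} {M : Ideal AlgInt}

section glue

open Cfsg.Agent.Lib.Helper3_CharBridge Cfsg.Agent.Lib.Helper3_CharOrtho
  Cfsg.Agent.Lib.Helper80_CharBasic Cfsg.Agent.Lib.Helper76_ResidualExt

/-- A constituent of the restriction of a member of `B₀(G)` lies in `B₀(N)`. -/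
theorem constituent_mem_principal {G : Type u} [Group G] [Fintype G] (hM : M.IsPrime)
    (N : Subgroup G) [hN : N.Normal] [Fintype N] (χ : IrrCharacter G)
    (hχ : χ ∈ principalBlock M G) (θ : IrrCharacter N)
    (h3 : classInner (fun n : N => (χ : G → ℂ) n) (θ : N → ℂ) ≠ 0) :
    θ ∈ principalBlock M N := by
  classical
  have h1 : classInner (fun n : N => ((oneIrr G : IrrCharacter G) : G → ℂ) n)
      ((oneIrr N : IrrCharacter N) : N → ℂ) ≠ 0 := by
    have h2 : (fun n : N => ((oneIrr G : IrrCharacter G) : G → ℂ) n) =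
        ((oneIrr N : IrrCharacter N) : N → ℂ) := rfl
    rw [h2, classInner_self_of_isIrrCharacter (oneIrr N).2]
    exact one_ne_zero
  have h4 := Cfsg.Agent.Lib.Helper16_Cover.mem_gClosure_of_sameBlock N hM
    (isPBlock_principalBlock (M := M) N) (χ := oneIrr G) (χ' := χ) hχ
    (Cfsg.Agent.Lib.Helper16_Cover.subset_gClosure N _ (oneIrr_mem_principalBlock hM N)) h1 h3
  obtain ⟨x, φ, hφ, hx⟩ := h4
  have h5 := Cfsg.Agent.Lib.Helper16_Cover.sameBlock_cj N x
    (φ := fun _ : N => (1 : ℂ)) (φ' := (φ : N → ℂ)) hφ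
  rw [← hx] at h5
  exact h5

/-- Every member of `B₀(N)` lies under a member of `B₀(G)`. -/
theorem exists_over_principal {G : Type u} [Group G] [Fintype G] [Fact p.Prime]
    (hM : IsPModular p M) (N : Subgroup G) [hN : N.Normal] [Fintype N] (θ : IrrCharacter N)
    (hθ : θ ∈ principalBlock M N) :
    ∃ ψ ∈ principalBlock M G, classInner (fun n : N => (ψ : G → ℂ) n) (θ : N → ℂ) ≠ 0 := by
  have hMp := isPrime_of_isPModular hM
  refine Cfsg.Agent.S4432.result p M hM N (principalBlock M G) (isPBlock_principalBlock G)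
    (principalBlock M N) (isPBlock_principalBlock N) ?_ θ hθ
  refine ⟨oneIrr G, oneIrr_mem_principalBlock hMp G, oneIrr N, oneIrr_mem_principalBlock hMp N, ?_⟩
  have h2 : (fun n : N => ((oneIrr G : IrrCharacter G) : G → ℂ) n) =
      ((oneIrr N : IrrCharacter N) : N → ℂ) := rfl
  rw [h2, classInner_self_of_isIrrCharacter (oneIrr N).2]
  exact one_ne_zero

theorem res_eq_of_ext {G : Type u} [Group G] [Finite G] [Fact p.Prime] (hM : IsPModular p M)
    (N : Subgroup G) [hN : N.Normal] (hreg : ADReg p M G N) (θ : IrrCharacter N)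
    (hθ : θ ∈ principalBlock M N) (χ₀ : G → ℂ) (hχ₀ : IsIrrCharacter G χ₀)
    (hext : ∀ n : N, χ₀ n = (θ : N → ℂ) n) :
    ∃ ψ : IrrCharacter G, ψ ∈ principalBlock M G ∧ ∀ n : N, (ψ : G → ℂ) n = (θ : N → ℂ) n := by
  classical
  have := Fintype.ofFinite G
  have := Fintype.ofFinite N
  obtain ⟨ψ, hψ, hov⟩ := exists_over_principal hM N θ hθ
  exact ⟨ψ, hψ, over_res_eq hM N hreg θ (invariant hM N hreg θ hθ) χ₀ hχ₀ hext ψ hψ hov⟩

theorem res_irr_of_all_ext {G : Type u} [Group G] [Finite G] [Fact p.Prime] (hM : IsPModular p M)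
    (N : Subgroup G) [hN : N.Normal] (hreg : ADReg p M G N)
    (hall : ∀ θ : IrrCharacter N, θ ∈ principalBlock M N →
      ∃ χ₀ : G → ℂ, IsIrrCharacter G χ₀ ∧ ∀ n : N, χ₀ n = (θ : N → ℂ) n)
    (χ : IrrCharacter G) (hχ : χ ∈ principalBlock M G) :
    IsIrrCharacter N (fun n : N => (χ : G → ℂ) n) := by
  classical
  have := Fintype.ofFinite G
  have := Fintype.ofFinite N
  have hMp := isPrime_of_isPModular hM
  obtain ⟨θ, hov⟩ := Cfsg.Agent.Lib.Helper77_StableCover.exists_under (N := N) χ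
  have hθ := constituent_mem_principal hMp N χ hχ θ hov
  obtain ⟨χ₀, hχ₀, hext⟩ := hall θ hθ
  have h := over_res_eq hM N hreg θ (invariant hM N hreg θ hθ) χ₀ hχ₀ hext χ hχ hov
  have : (fun n : N => (χ : G → ℂ) n) = (θ : N → ℂ) := funext h
  rw [this]
  exact θ.2

end glue

/-- **Alperin–Dade**, inductive form. -/
theorem main [Fact p.Prime] (hM : IsPModular p M) :
    ∀ (k : ℕ) (G : Type u) [Group G] [Finite G] (N : Subgroup G) [N.Normal],
      N.index = k → ADHyp p G N → ADConcl M G N := by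
  intro k
  induction k using Nat.strong_induction_on with
  | _ k ih =>
  intro G _ _ N hN hk h
  have hMp := isPrime_of_isPModular hM
  have hreg := adReg_of_hyp hM N h
  -- every `θ ∈ B₀(N)` extends to `G`
  have hall : ∀ θ : IrrCharacter N, θ ∈ principalBlock M N →
      ∃ χ₀ : G → ℂ, IsIrrCharacter G χ₀ ∧ ∀ n : N, χ₀ n = (θ : N → ℂ) n := by
    intro θ hθ
    have hinv := invariant hM N hreg θ hθ
    by_cases hsolv : Group.IsSolvable (G ⧸ N)
    · by_cases htop : N = ⊤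
      · have hsub : Subsingleton (G ⧸ N) := by
          rw [htop]
          exact QuotientGroup.subsingleton_quotient_top
        have hcyc : IsCyclic (G ⧸ N) := inferInstance
        exact Cfsg.Agent.Lib.Helper75_ExtendCyclic.exists_irr_extension_of_cyclic N hN hcyc
          (θ : N → ℂ) θ.2 hinv
      · obtain ⟨K, hKn, hNK, hKtop, hcyc⟩ :=
          Cfsg.Agent.Lib.Helper75_ExtendSolvable.exists_normal_cyclic_quotient N htop hsolv
        have hlt : (N.subgroupOf K).index < k := by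
          rw [← hk]
          have h1 : N.relIndex K * K.index = N.index := Subgroup.relIndex_mul_index hNK
          have h2 : K.index ≠ 1 := fun h2 => hKtop (Subgroup.index_eq_one.mp h2)
          have h3 : K.index ≠ 0 := Subgroup.index_ne_zero_of_finite
          have h4 : N.index ≠ 0 := Subgroup.index_ne_zero_of_finite
          show N.relIndex K < N.index
          have h5 : N.relIndex K ≠ 0 := fun h5 => h4 (by rw [← h1, h5, zero_mul])
          have h6 : 2 ≤ K.index := by omega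
          nlinarith [Nat.pos_of_ne_zero h5]
        have hamb := amb_of_typed (M := M) N K hNK
          (ih _ hlt K (N.subgroupOf K) rfl (hyp_subgroupOf N K hNK h))
        obtain ⟨⟨η, hηB, hηres⟩, huniq⟩ := hamb θ hθ
        have hηinv : ∀ (g : G) (x : K),
            (η : K → ℂ) ⟨g * x * g⁻¹, hKn.conj_mem (x : G) x.2 g⟩ = (η : K → ℂ) x := by
          intro g x
          obtain ⟨η', hη'B, hη'⟩ := exists_cj_principal hMp K η hηB g
          have heq : η' = η := by
            refine huniq η' η hη'B hηB ?_ hηres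
            intro n
            rw [hη']
            have := hηres ⟨g * n * g⁻¹, hN.conj_mem (n : G) n.2 g⟩
            rw [hinv g n] at this
            exact this
          rw [← hη' x, heq]
        obtain ⟨χ₀, hχ₀, hres⟩ :=
          Cfsg.Agent.Lib.Helper75_ExtendCyclic.exists_irr_extension_of_cyclic K hKn hcyc
            (η : K → ℂ) η.2 hηinv
        exact ⟨χ₀, hχ₀, fun n => by rw [← hηres n]; exact hres ⟨n, hNK n.2⟩⟩
    · apply Cfsg.Agent.Lib.Helper80_ExtSylow.exists_extension_of_coprime_indices N (θ : N → ℂ) θ.2 hinv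
      intro q hq
      obtain ⟨S, hNS, hcop, hlt⟩ := exists_sylow_preimage N hsolv q hq
      have hamb := amb_of_typed (M := M) N S hNS
        (ih _ (hk ▸ hlt) S (N.subgroupOf S) rfl (hyp_subgroupOf N S hNS h))
      obtain ⟨⟨η, -, hηres⟩, -⟩ := hamb θ hθ
      exact ⟨S, hNS, (η : S → ℂ), hcop, η.2, hηres⟩
  refine ⟨res_irr_of_all_ext hM N hreg hall, fun θ hθ => ⟨?_, ?_⟩⟩
  · obtain ⟨χ₀, hχ₀, hext⟩ := hall θ hθ
    exact res_eq_of_ext hM N hreg θ hθ χ₀ hχ₀ hext
  · intro χ χ' hχ hχ' h1 h2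
    exact unique_ext hM N hreg θ χ χ' hχ hχ' h1 h2

/-- **S4551.** -/
theorem alperin_dade {G : Type u} [Group G] [Finite G] [Fact p.Prime] (hM : IsPModular p M)
    (N : Subgroup G) [N.Normal] (hidx : ¬ p ∣ N.index) (P : Sylow p G)
    (hsup : N ⊔ Subgroup.centralizer ((P : Subgroup G) : Set G) = ⊤) :
    (∀ χ ∈ principalBlock M G, ∃ θ ∈ principalBlock M ↥N,
      ∀ n : N, (χ : G → ℂ) n = (θ : N → ℂ) n) ∧
    ∀ θ ∈ principalBlock M ↥N, ∃! χ : IrrCharacter G, χ ∈ principalBlock M G ∧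
      ∀ n : N, (χ : G → ℂ) n = (θ : N → ℂ) n := by
  have hMp := isPrime_of_isPModular hM
  obtain ⟨hirr, hex⟩ := main hM N.index G N rfl (adHyp_of_sylow N hidx P hsup)
  refine ⟨fun χ hχ => ?_, fun θ hθ => ?_⟩
  · refine ⟨⟨_, hirr χ hχ⟩, ?_, fun n => rfl⟩
    exact Cfsg.Agent.Lib.Helper76_ResidualExt.res_mem_principalBlock hMp N χ hχ ⟨_, hirr χ hχ⟩ rfl
  · obtain ⟨⟨χ, hχB, hχres⟩, huniq⟩ := hex θ hθ
    exact ⟨χ, ⟨hχB, hχres⟩, fun χ' hχ' => huniq χ' χ hχ'.1 hχB hχ'.2 hχres⟩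

end Cfsg.Agent.Lib.Helper78_ADMain
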