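import Mathlib
import Cfsg.Prelude.Def_Blocks
import Cfsg.Prelude.Def_CharExt
import Cfsg.Agent.Lib.Helper75_CanonExt

/-!
# PR-A: the canonical extension over a `p`-group quotient (helper78, package of S4892)

`N ⊴ G` of index `p ^ a`, `θ ∈ Irr N` invariant in `G`, `p ∤ θ 1`, `p ∤ o(det θ)`. Then `θ` has a
unique extension `χ ∈ Irr G` with `p ∤ o(det χ)` (Isaacs 6.28 for a `p`-group quotient).
-/

set_option autoImplicit false

namespace Cfsg.Agent.Lib.Helper78_PR_A

open Cfsg Cfsg.Agent.Lib.Helper3_CharBridge Cfsg.Agent.Lib.Helper3_CharOrtho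
  Cfsg.Agent.Lib.Helper75_CharArith Cfsg.Agent.Lib.Helper75_LinChar
  Cfsg.Agent.Lib.Helper75_DetChar Cfsg.Agent.Lib.Helper75_Gallagher
  Cfsg.Agent.Lib.Helper75_ExtendCoprime Cfsg.Agent.Lib.Helper75_CanonExt
  Cfsg.Agent.Lib.Helper75_ExtendSolvable

universe u

variable {p : ℕ}

/-- Uniqueness of the extension with determinantal order prime to `p`. -/
theorem ext_unique {G : Type u} [Group G] [Finite G] [Fact p.Prime]
    (N : Subgroup G) [hN : N.Normal] (hidx : ∃ a : ℕ, N.index = p ^ a) {χ₁ χ₂ : G → ℂ}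
    (h₁ : IsIrrCharacter G χ₁) (h₂ : IsIrrCharacter G χ₂)
    (hN₁ : IsIrrCharacter N (fun n : N => χ₁ n)) (hres : ∀ n : N, χ₂ n = χ₁ n)
    (hdeg : ¬ p ∣ charDegree χ₁)
    (hd₁ : ¬ p ∣ detOrder χ₁) (hd₂ : ¬ p ∣ detOrder χ₂) : χ₂ = χ₁ := by
  have hp : p.Prime := Fact.out
  have : Fintype G := Fintype.ofFinite G
  obtain ⟨a, ha⟩ := hidx
  obtain ⟨β, hβ, hβN, hβχ⟩ := exists_lin_of_extensions N h₁ h₂ hN₁ hres
  obtain ⟨f, hf1, hfpos, hfdvd⟩ := exists_degree hN₁
  have hf : χ₁ 1 = f := hf1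
  have hfp : ¬ p ∣ f := by
    have : charDegree χ₁ = f := by
      unfold charDegree
      rw [hf]
      simp
    rwa [this] at hdeg
  have hdet : detChar χ₂ = β ^ f * detChar χ₁ := by
    rw [hβχ]
    exact detChar_linear_mul hβ.1 hβ.2 (isCharacter_of_isIrrCharacter h₁) f hf
  set a₁ := detOrder χ₁ with ha₁
  set b₁ := detOrder χ₂ with hb₁
  have h1 : detChar χ₁ ^ (a₁ * b₁) = 1 := by
    rw [pow_mul, ha₁]; unfold detOrder; rw [pow_orderOf_eq_one, one_pow]
  have h2 : detChar χ₂ ^ (a₁ * b₁) = 1 := by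
    rw [mul_comm, pow_mul, hb₁]; unfold detOrder; rw [pow_orderOf_eq_one, one_pow]
  have h3 : β ^ (f * (a₁ * b₁)) = 1 := by
    have := congrArg (· ^ (a₁ * b₁)) hdet
    simp only [mul_pow, h1, h2, mul_one, ← pow_mul] at this
    exact this.symm
  have h4 : β ^ N.index = 1 := by
    funext x
    rw [Pi.pow_apply, Pi.one_apply]
    exact hβ.pow_index_eq_one N hβN x
  have h5 : orderOf β ∣ Nat.gcd (f * (a₁ * b₁)) N.index :=
    Nat.dvd_gcd (orderOf_dvd_of_pow_eq_one h3) (orderOf_dvd_of_pow_eq_one h4)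
  have h6 : Nat.gcd (f * (a₁ * b₁)) N.index = 1 := by
    rw [ha]
    apply Nat.Coprime.pow_right
    rw [Nat.coprime_comm]
    apply (Nat.Prime.coprime_iff_not_dvd hp).2
    intro hdvd
    rcases (Nat.Prime.dvd_mul hp).1 hdvd with h | h
    · exact hfp h
    · rcases (Nat.Prime.dvd_mul hp).1 h with h | h
      · exact hd₁ h
      · exact hd₂ h
  rw [h6, Nat.dvd_one, orderOf_eq_one_iff] at h5
  rw [hβχ, h5, one_mul]

/-- **PR-A.** -/
theorem exists_unique_ext_of_pgroup_quot {G : Type u} [Group G] [Finite G] [Fact p.Prime]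
    (N : Subgroup G) [hN : N.Normal] (hidx : ∃ a : ℕ, N.index = p ^ a) (θ : N → ℂ)
    (hθ : IsIrrCharacter N θ)
    (hinv : ∀ (g : G) (n : N), θ ⟨g * n * g⁻¹, hN.conj_mem (n : G) n.2 g⟩ = θ n)
    (hdeg : ¬ p ∣ charDegree θ) (hdet : ¬ p ∣ detOrder θ) :
    ∃ χ : G → ℂ, IsIrrCharacter G χ ∧ (∀ n : N, χ n = θ n) ∧ ¬ p ∣ detOrder χ ∧
      ∀ χ' : G → ℂ, IsIrrCharacter G χ' → (∀ n : N, χ' n = θ n) → ¬ p ∣ detOrder χ' →
        χ' = χ := by
  have hp : p.Prime := Fact.out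
  have : Fintype G := Fintype.ofFinite G
  obtain ⟨a, ha⟩ := hidx
  have hθc : IsCharacter N θ := isCharacter_of_isIrrCharacter hθ
  have hlam : IsLin N (detChar θ) := isCharacter_detChar hθc
  -- the determinant extends
  obtain ⟨μ, hμ, hμ1, hμN⟩ : ∃ μ : G → ℂ, IsCharacter G μ ∧ μ 1 = 1 ∧
      ∀ n : N, μ n = detChar θ n := by
    apply Cfsg.Agent.S0864.result N (detChar θ) hlam (detChar_invariant N hθc hinv)
    intro r hr hrdvd
    have hrp : r ≠ p := by
      rintro rfl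
      exact hdet hrdvd
    refine ⟨N, le_refl N, detChar θ, ?_, ⟨0, ?_⟩, hlam.1, hlam.2, fun n => rfl⟩
    · rw [ha]
      apply Nat.Coprime.pow_left
      exact (Nat.coprime_primes hp hr).2 (Ne.symm hrp)
    · rw [Subgroup.relIndex_self, pow_zero]
  -- the quotient is a `p`-group, hence solvable
  have hsolv : Group.IsSolvable (G ⧸ N) := by
    have hcard : Nat.card (G ⧸ N) = p ^ a := by
      rw [← ha]; rfl
    have hpg : IsPGroup p (G ⧸ N) := IsPGroup.of_card hcard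
    have : Group.IsNilpotent (G ⧸ N) := hpg.isNilpotent
    infer_instance
  obtain ⟨f, hf1, hfpos, hfdvd⟩ := exists_degree hθ
  have hfp : ¬ p ∣ f := by
    have : charDegree θ = f := by
      unfold charDegree
      rw [hf1]
      simp
    rwa [this] at hdeg
  have hcopf : Nat.Coprime N.index f := by
    rw [ha]
    apply Nat.Coprime.pow_left
    exact (Nat.Prime.coprime_iff_not_dvd hp).2 hfp
  obtain ⟨χ₀, hχ₀, hres₀⟩ :=
    exists_extension_of_solvable N hsolv θ hθ hinv f hf1 hcopf μ ⟨hμ, hμ1⟩ hμN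
  have hχ₀c : IsCharacter G χ₀ := isCharacter_of_isIrrCharacter hχ₀
  have hδ : IsLin G (detChar χ₀) := isCharacter_detChar hχ₀c
  have hf : χ₀ 1 = f := by
    have := hres₀ 1
    rw [← hf1, ← this]; rfl
  -- the restriction of `det χ₀` to `N` is `det θ`
  have hδN : ∀ n : N, detChar χ₀ n = detChar θ n := by
    intro n
    have h1 := congrFun (detChar_res N hχ₀c) n
    have h2 : (fun n : N => χ₀ n) = θ := funext hres₀
    rw [h2] at h1
    exact h1.symm
  -- `o = p^b * e'`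
  set o := orderOf (detChar χ₀) with ho
  have ho0 : o ≠ 0 := by
    have h1 : detChar χ₀ ^ Nat.card G = 1 := by
      funext x
      rw [Pi.pow_apply, Pi.one_apply]
      exact hδ.pow_card_eq_one x
    have := orderOf_dvd_of_pow_eq_one h1
    intro h0
    rw [← ho, h0, zero_dvd_iff] at this
    exact Nat.card_pos.ne' this
  obtain ⟨b, e', ho', he'⟩ := Nat.exists_eq_pow_mul_and_not_dvd ho0 p hp.ne_one
  set l := detOrder θ with hl
  have hl0 : 0 < l := by
    rw [hl]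
    unfold detOrder
    apply orderOf_pos_iff.2
    apply isOfFinOrder_iff_pow_eq_one.2
    refine ⟨Nat.card N, Nat.card_pos, ?_⟩
    funext x
    rw [Pi.pow_apply, Pi.one_apply]
    exact hlam.pow_card_eq_one x
  have hcop : Nat.Coprime l (p ^ b) := by
    apply Nat.Coprime.pow_right
    rw [Nat.coprime_comm]
    exact (Nat.Prime.coprime_iff_not_dvd hp).2 hdet
  have hfcop : f.Coprime (p ^ b) := by
    apply Nat.Coprime.pow_right
    rw [Nat.coprime_comm]
    exact (Nat.Prime.coprime_iff_not_dvd hp).2 hfp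
  have hpbpos : 0 < p ^ b := pow_pos hp.pos b
  -- inverse of `f` mod `p^b`
  have hff' : f * f ^ (Nat.totient (p ^ b) - 1) ≡ 1 [MOD p ^ b] := by
    rw [← pow_succ', Nat.sub_add_cancel (Nat.totient_pos.mpr hpbpos)]
    exact Nat.ModEq.pow_totient hfcop
  obtain ⟨e, he0, he1⟩ := Nat.chineseRemainder hcop 0
    (f ^ (Nat.totient (p ^ b) - 1) * (p ^ b - 1))
  have hle : l ∣ e := Nat.modEq_zero_iff_dvd.mp he0
  have hne : p ^ b ∣ e * f + 1 := by
    rw [← Nat.modEq_zero_iff_dvd]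
    have h1 : e * f ≡ (f ^ (Nat.totient (p ^ b) - 1) * (p ^ b - 1)) * f [MOD p ^ b] :=
      he1.mul_right f
    have h2 : (f ^ (Nat.totient (p ^ b) - 1) * (p ^ b - 1)) * f =
        (f * f ^ (Nat.totient (p ^ b) - 1)) * (p ^ b - 1) := by ring
    rw [h2] at h1
    have h3 : (f * f ^ (Nat.totient (p ^ b) - 1)) * (p ^ b - 1) ≡ 1 * (p ^ b - 1)
        [MOD p ^ b] := hff'.mul_right _
    have h4 : e * f + 1 ≡ 1 * (p ^ b - 1) + 1 [MOD p ^ b] := (h1.trans h3).add_right 1
    rw [one_mul, Nat.sub_add_cancel hpbpos] at h4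
    exact h4.trans (Nat.modEq_zero_iff_dvd.mpr dvd_rfl)
  have hlam' : IsLin G (detChar χ₀ ^ e) := hδ.pow e
  set χ : G → ℂ := detChar χ₀ ^ e * χ₀ with hχdef
  have hχ : IsIrrCharacter G χ := hlam'.mul_irr hχ₀
  have hχres : ∀ n : N, χ n = θ n := by
    intro n
    rw [hχdef, Pi.mul_apply, Pi.pow_apply, hres₀ n, hδN n]
    have h1 : detChar θ ^ l = 1 := by
      rw [hl]; unfold detOrder; exact pow_orderOf_eq_one _
    have h2 : detChar θ n ^ l = 1 := by
      have := congrFun h1 n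
      rwa [Pi.pow_apply] at this
    rw [pow_eq_one_of_dvd' h2 hle, one_mul]
  have hχd : ¬ p ∣ detOrder χ := by
    have hdetχ : detChar χ = detChar χ₀ ^ (e * f + 1) := by
      rw [hχdef, detChar_linear_mul hlam'.1 hlam'.2 hχ₀c f hf, ← pow_mul, ← pow_succ]
    have hpow : detChar χ ^ e' = 1 := by
      rw [hdetχ, ← pow_mul]
      apply pow_eq_one_of_dvd' (pow_orderOf_eq_one (detChar χ₀))
      rw [← ho, he']
      exact Nat.mul_dvd_mul hne dvd_rfl
    have hdvd : detOrder χ ∣ e' := by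
      unfold detOrder
      exact orderOf_dvd_of_pow_eq_one hpow
    intro hpd
    exact ho' (dvd_trans hpd hdvd)
  refine ⟨χ, hχ, hχres, hχd, ?_⟩
  intro χ' hχ' hres' hd'
  have hN₁ : IsIrrCharacter N (fun n : N => χ n) := by
    have : (fun n : N => χ n) = θ := funext hχres
    rw [this]; exact hθ
  have hdegχ : ¬ p ∣ charDegree χ := by
    have h1 : χ 1 = θ 1 := hχres 1
    unfold charDegree at hdeg ⊢
    rwa [h1]
  exact ext_unique N ⟨a, ha⟩ hχ hχ' hN₁ (fun n => by rw [hres' n, hχres n]) hdegχ hχd hd'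

end Cfsg.Agent.Lib.Helper78_PR_A
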