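import Mathlib
import Cfsg.Prelude.Def_Blocks
import Cfsg.Agent.Lib.Helper78_RCDefs
import Cfsg.Agent.Lib.Helper78_PRDefs
import Cfsg.Agent.Lib.Helper78_ADDefs

/-!
# PR-GRP, PR-FRAT, PR-RCH: group-theoretic packages of S4892 (helper78)
-/

set_option autoImplicit false

namespace Cfsg.Agent.Lib.Helper78_PR_GRP

open Cfsg Cfsg.Agent.Lib.Helper78_RCDefs Cfsg.Agent.Lib.Helper78_PRDefs
  Cfsg.Agent.Lib.Helper78_ADDefs

universe u

variable {p : ℕ}

/-- PR-GRP (i). -/
theorem hasGoodReps_of_rcHyp {G : Type u} [Group G] [Finite G] (N : Subgroup G) [hN : N.Normal]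
    (h : RCHyp p G N) : HasGoodReps p N := by
  obtain ⟨P, -, hPN, hidx, hcov⟩ := h
  intro g
  obtain ⟨n, hn, c, hc, rfl⟩ := hcov g
  refine ⟨c, ?_, ?_⟩
  · have h1 : (n * c)⁻¹ * c = c⁻¹ * n⁻¹ * c⁻¹⁻¹ := by group
    rw [h1]
    exact hN.conj_mem _ (N.inv_mem hn) c⁻¹
  · intro hdvd
    apply hidx
    refine dvd_trans hdvd ?_
    unfold relIdx
    have hle : P.subgroupOf N ≤ (Subgroup.centralizer ({c} : Set G)).subgroupOf N := by
      intro x hx
      rw [Subgroup.mem_subgroupOf] at hx ⊢
      rw [Subgroup.mem_centralizer_iff]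
      intro y hy
      rw [Set.mem_singleton_iff] at hy
      subst hy
      rw [Subgroup.mem_centralizer_iff] at hc
      exact (hc _ hx).symm
    exact Subgroup.index_dvd_of_le hle

/-- PR-GRP (ii). -/
theorem adHyp_of_rcHyp {G : Type u} [Group G] [Finite G] [Fact p.Prime] (N S : Subgroup G)
    (hNS : N ≤ S)
    (hS : ¬ p ∣ N.relIndex S) (h : RCHyp p G N) : ADHyp p S (N.subgroupOf S) := by
  obtain ⟨P, hP, hPN, hidx, hcov⟩ := h
  refine ⟨P.subgroupOf S, ?_, ?_, ?_, ?_⟩
  · exact hP.comap_subtype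
  · intro x hx
    rw [Subgroup.mem_subgroupOf] at hx ⊢
    exact hPN hx
  · show ¬ p ∣ P.relIndex S
    rw [← Subgroup.relIndex_mul_relIndex P N S hPN hNS]
    intro hdvd
    rcases (Nat.Prime.dvd_mul (Fact.out : p.Prime)).1 hdvd with h1 | h1
    · exact hidx h1
    · exact hS h1
  · intro s
    obtain ⟨n, hn, c, hc, hs⟩ := hcov (s : G)
    have hcS : c ∈ S := by
      have h1 : c = n⁻¹ * (s : G) := by rw [hs]; group
      rw [h1]
      exact S.mul_mem (S.inv_mem (hNS hn)) s.2
    refine ⟨⟨n, hNS hn⟩, ?_, ⟨c, hcS⟩, ?_, ?_⟩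
    · rw [Subgroup.mem_subgroupOf]; exact hn
    · rw [Subgroup.mem_centralizer_iff] at hc ⊢
      intro y hy
      apply Subtype.ext
      exact hc (y : G) hy
    · apply Subtype.ext
      exact hs

/-- PR-GRP (iii). -/
theorem exists_sylow_preimage {G : Type u} [Group G] [Finite G] (N : Subgroup G) [hN : N.Normal]
    (q : ℕ) (hq : q.Prime) :
    ∃ S : Subgroup G, N ≤ S ∧ Nat.Coprime S.index q ∧ ∃ k : ℕ, N.relIndex S = q ^ k := by
  have : Fact q.Prime := ⟨hq⟩
  obtain ⟨Q⟩ : Nonempty (Sylow q (G ⧸ N)) := inferInstance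
  have hsurj : Function.Surjective (QuotientGroup.mk' N) := QuotientGroup.mk'_surjective N
  have hNS : N ≤ (Q : Subgroup (G ⧸ N)).comap (QuotientGroup.mk' N) := by
    have h := MonoidHom.ker_le_comap (QuotientGroup.mk' N) (Q : Subgroup (G ⧸ N))
    rwa [QuotientGroup.ker_mk'] at h
  refine ⟨(Q : Subgroup (G ⧸ N)).comap (QuotientGroup.mk' N), hNS, ?_, ?_⟩
  · rw [Subgroup.index_comap_of_surjective _ hsurj]
    exact ((Nat.Prime.coprime_iff_not_dvd hq).mpr Q.not_dvd_index).symm
  · obtain ⟨k, hk⟩ := (Q.isPGroup').exists_card_eq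
    refine ⟨k, ?_⟩
    have h1 : (⊥ : Subgroup (G ⧸ N)).comap (QuotientGroup.mk' N) = N := by
      have := QuotientGroup.ker_mk' N
      rwa [MonoidHom.ker] at this
    have h2 := Subgroup.relIndex_comap (⊥ : Subgroup (G ⧸ N)) (QuotientGroup.mk' N)
      ((Q : Subgroup (G ⧸ N)).comap (QuotientGroup.mk' N))
    rw [h1, Subgroup.map_comap_eq_self_of_surjective hsurj, Subgroup.relIndex_bot_left, hk] at h2
    exact h2

/-- PR-FRAT. -/
theorem normal_sup_centralizer {G : Type u} [Group G] [Finite G] [Fact p.Prime] (N : Subgroup G)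
    [hN : N.Normal] (Q : Sylow p N) :
    (N ⊔ Subgroup.centralizer (((Q : Subgroup N).map N.subtype : Subgroup G) : Set G)).Normal := by
  set R : Subgroup G := (Q : Subgroup N).map N.subtype with hR
  set H : Subgroup G := N ⊔ Subgroup.centralizer (R : Set G) with hH
  have hfr : Subgroup.normalizer (R : Set G) ⊔ N = ⊤ := Sylow.normalizer_sup_eq_top Q
  rw [← Subgroup.normalizer_eq_top_iff]
  apply top_le_iff.1
  rw [← hfr]
  apply sup_le
  · -- the normalizer of `R` normalizes `C_G(R)` and `N`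
    intro g hg
    rw [Subgroup.mem_normalizer_iff]
    have hconj : ∀ g : G, g ∈ Subgroup.normalizer (R : Set G) → ∀ x ∈ H, g * x * g⁻¹ ∈ H := by
      intro g hg x hx
      rw [hH, Subgroup.mem_sup_of_normal_left] at hx
      obtain ⟨n, hn, c, hc, rfl⟩ := hx
      have h1 : g * (n * c) * g⁻¹ = (g * n * g⁻¹) * (g * c * g⁻¹) := by group
      rw [h1]
      refine H.mul_mem (Subgroup.mem_sup_left (hN.conj_mem n hn g)) (Subgroup.mem_sup_right ?_)
      rw [Subgroup.mem_centralizer_iff] at hc ⊢
      intro y hy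
      have hy' : g⁻¹ * y * g⁻¹⁻¹ ∈ R := by
        have hg' := (Subgroup.normalizer (R : Set G)).inv_mem hg
        rw [Subgroup.mem_normalizer_iff] at hg'
        exact (hg' y).1 hy
      have h2 := hc _ hy'
      have h3 : y * (g * c * g⁻¹) = g * ((g⁻¹ * y * g⁻¹⁻¹) * c) * g⁻¹ := by group
      have h4 : g * c * g⁻¹ * y = g * (c * (g⁻¹ * y * g⁻¹⁻¹)) * g⁻¹ := by group
      rw [h3, h4, h2]
    intro x
    constructor
    · exact hconj g hg x
    · intro hx
      have := hconj g⁻¹ ((Subgroup.normalizer (R : Set G)).inv_mem hg) _ hx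
      have h5 : g⁻¹ * (g * x * g⁻¹) * g⁻¹⁻¹ = x := by group
      rwa [h5] at this
  · exact le_trans (le_sup_left : N ≤ H) Subgroup.le_normalizer

/-- PR-RCH. -/
theorem rcHyp_sup_centralizer {G : Type u} [Group G] [Finite G] [Fact p.Prime] (N : Subgroup G)
    [hN : N.Normal] (Q : Sylow p N) :
    RCHyp p ↥(N ⊔ Subgroup.centralizer (((Q : Subgroup N).map N.subtype : Subgroup G) : Set G))
      (N.subgroupOf
        (N ⊔ Subgroup.centralizer (((Q : Subgroup N).map N.subtype : Subgroup G) : Set G))) := by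
  set R : Subgroup G := (Q : Subgroup N).map N.subtype with hR
  set H : Subgroup G := N ⊔ Subgroup.centralizer (R : Set G) with hH
  have hNH : N ≤ H := le_sup_left
  have hRN : R ≤ N := by
    rw [hR]
    exact Subgroup.map_subtype_le _
  have hRp : IsPGroup p R := by
    rw [hR]
    exact Q.isPGroup'.map _
  refine ⟨R.subgroupOf H, hRp.comap_subtype, ?_, ?_, ?_⟩
  · intro x hx
    rw [Subgroup.mem_subgroupOf] at hx ⊢
    exact hRN hx
  · -- the relative index is the index of `Q` in `N`
    have h1 : (R.subgroupOf H).relIndex (N.subgroupOf H) = R.relIndex N := by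
      rw [Subgroup.relIndex, Subgroup.relIndex]
      have : ((R.subgroupOf H).subgroupOf (N.subgroupOf H)).index = (R.subgroupOf N).index := by
        let e : N.subgroupOf H ≃* N := Subgroup.subgroupOfEquivOfLe hNH
        have hmap : ((R.subgroupOf H).subgroupOf (N.subgroupOf H)).map e.toMonoidHom =
            R.subgroupOf N := by
          ext x
          constructor
          · rintro ⟨y, hy, rfl⟩
            have hy' : ((y : H) : G) ∈ R := hy
            show ((e y : N) : G) ∈ R
            exact hy'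
          · intro hx
            refine ⟨e.symm x, ?_, by simp⟩
            have hx' : (x : G) ∈ R := hx
            show (((e.symm x : N.subgroupOf H) : H) : G) ∈ R
            have : (((e.symm x : N.subgroupOf H) : H) : G) = (x : G) := by
              simp [e]
            rw [this]
            exact hx'
        rw [← hmap]
        exact (Subgroup.index_map_equiv _ e).symm
      exact this
    rw [h1]
    have h2 : R.relIndex N = (Q : Subgroup N).index := by
      rw [Subgroup.relIndex, hR]
      congr 1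
      ext x
      rw [Subgroup.mem_subgroupOf]
      constructor
      · rintro ⟨y, hy, hyx⟩
        have : y = x := Subtype.ext hyx
        exact this ▸ hy
      · intro hx
        exact ⟨x, hx, rfl⟩
    rw [h2]
    exact Q.not_dvd_index
  · intro h
    have hh : (h : G) ∈ N ⊔ Subgroup.centralizer (R : Set G) := h.2
    rw [Subgroup.mem_sup_of_normal_left] at hh
    obtain ⟨n, hn, c, hc, hnc⟩ := hh
    refine ⟨⟨n, hNH hn⟩, ?_, ⟨c, Subgroup.mem_sup_right hc⟩, ?_, ?_⟩
    · rw [Subgroup.mem_subgroupOf]; exact hn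
    · rw [Subgroup.mem_centralizer_iff] at hc ⊢
      intro y hy
      apply Subtype.ext
      exact hc (y : G) hy
    · apply Subtype.ext
      exact hnc.symm

end Cfsg.Agent.Lib.Helper78_PR_GRP
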