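import Mathlib
import Cfsg.Prelude.Def_Blocks
import Cfsg.Prelude.Def_CharExt
import Cfsg.Agent.Lib.Helper78_RCDefs
import Cfsg.Agent.Lib.Helper78_PRDefs
import Cfsg.Agent.Lib.Helper78_ADDefs
import Cfsg.Agent.Lib.Helper78_LocalRing
import Cfsg.Agent.Lib.Helper78_PR_GRP
import Cfsg.Agent.Lib.Helper78_PR_A
import Cfsg.Agent.Lib.Helper78_ADMain
import Cfsg.Agent.Lib.Helper78_AD_AMB
import Cfsg.Agent.Lib.Helper78_Transport
import Cfsg.Agent.Lib.Helper80_ExtSylow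
import Cfsg.Agent.Lib.Helper75_ExtendSolvable

/-!
# PR-EXT (S4892 package, architect helper78; formalized by helper5)

`N ⊴ H` with `RCHyp p H N`, `θ ∈ B₀(N)` invariant in `H`, `p ∤ θ(1)`, `p ∤ o(det θ)`. Then `θ`
extends to `H`: for every prime `q` it extends to the preimage `S` of a Sylow `q`-subgroup of
`H ⧸ N` (Alperin–Dade for `q ≠ p`, the canonical extension over a `p`-group quotient for `q = p`).
-/

set_option autoImplicit false

namespace Cfsg.Agent.Lib.Helper5_PR_EXT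

open Cfsg Cfsg.Agent.Lib.Helper78_RCDefs Cfsg.Agent.Lib.Helper78_PRDefs
  Cfsg.Agent.Lib.Helper78_ADDefs Cfsg.Agent.Lib.Helper78_LocalRing
  Cfsg.Agent.Lib.Helper78_Transport

universe u

variable {p : ℕ} {M : Ideal AlgInt}

/-- the extension over the preimage of a Sylow `p`-subgroup of the quotient (case `q = p`) -/
theorem exists_ext_sylow_p {H : Type u} [Group H] [Finite H] [Fact p.Prime]
    (N : Subgroup H) [hN : N.Normal] (θ : IrrCharacter N)
    (hinv : ∀ (g : H) (n : N),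
      (θ : N → ℂ) ⟨g * n * g⁻¹, hN.conj_mem (n : H) n.2 g⟩ = (θ : N → ℂ) n)
    (hdeg : ¬ p ∣ charDegree (θ : N → ℂ)) (hdet : ¬ p ∣ detOrder (θ : N → ℂ))
    (S : Subgroup H) (hNS : N ≤ S) (k : ℕ) (hk : N.relIndex S = p ^ k) :
    ∃ η : S → ℂ, IsIrrCharacter S η ∧ ∀ n : N, η ⟨(n : H), hNS n.2⟩ = (θ : N → ℂ) n := by
  have : Fintype N := Fintype.ofFinite N
  have hnorm : (N.subgroupOf S).Normal := Subgroup.normal_subgroupOf
  set e : N.subgroupOf S ≃* N := Subgroup.subgroupOfEquivOfLe hNS with he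
  have hθc : IsCharacter N (θ : N → ℂ) :=
    Cfsg.Agent.Lib.Helper3_CharBridge.isCharacter_of_isIrrCharacter θ.2
  have hinv' : ∀ (g : S) (m : N.subgroupOf S),
      ((θ : N → ℂ) ∘ e) ⟨g * m * g⁻¹, hnorm.conj_mem (m : S) m.2 g⟩ = ((θ : N → ℂ) ∘ e) m := by
    intro g m
    have h1 := hinv (g : H) (e m)
    simp only [Function.comp_apply]
    rw [← h1]
    congr 1
  have hdeg' : ¬ p ∣ charDegree ((θ : N → ℂ) ∘ e) := by
    have h1 : charDegree ((θ : N → ℂ) ∘ e) = charDegree (θ : N → ℂ) := by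
      unfold charDegree
      simp only [Function.comp_apply, map_one]
    rwa [h1]
  have hdet' : ¬ p ∣ detOrder ((θ : N → ℂ) ∘ e) := by
    have h1 : detChar ((θ : N → ℂ) ∘ e) = fun m => detChar (θ : N → ℂ) (e m) :=
      Cfsg.Agent.Lib.Helper75_ExtendSolvable.detChar_comp_hom e.toMonoidHom hθc
    have h2 : detChar ((θ : N → ℂ) ∘ e) ^ detOrder (θ : N → ℂ) = 1 := by
      rw [h1]
      funext m
      have := congrFun (pow_orderOf_eq_one (detChar (θ : N → ℂ))) (e m)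
      simpa [detOrder] using this
    have h3 : detOrder ((θ : N → ℂ) ∘ e) ∣ detOrder (θ : N → ℂ) :=
      orderOf_dvd_of_pow_eq_one h2
    exact fun h => hdet (h.trans h3)
  obtain ⟨χ, hχ, hres, -, -⟩ :=
    Cfsg.Agent.Lib.Helper78_PR_A.exists_unique_ext_of_pgroup_quot (N.subgroupOf S) ⟨k, hk⟩
      ((θ : N → ℂ) ∘ e) (irrComp e θ).2 hinv' hdeg' hdet'
  refine ⟨χ, hχ, ?_⟩
  intro n
  have h2 := hres (e.symm n)
  rw [Function.comp_apply, MulEquiv.apply_symm_apply] at h2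
  rw [← h2]
  congr 1

theorem exists_ext {H : Type u} [Group H] [Finite H] [Fact p.Prime] (hM : IsPModular p M)
    (N : Subgroup H) [hN : N.Normal] (hQ : RCHyp p H N) (θ : IrrCharacter N)
    (hθ : θ ∈ principalBlock M N)
    (hinv : ∀ (g : H) (n : N),
      (θ : N → ℂ) ⟨g * n * g⁻¹, hN.conj_mem (n : H) n.2 g⟩ = (θ : N → ℂ) n)
    (hdeg : ¬ p ∣ charDegree (θ : N → ℂ)) (hdet : ¬ p ∣ detOrder (θ : N → ℂ)) :
    ∃ ψ : H → ℂ, IsIrrCharacter H ψ ∧ ∀ n : N, ψ n = (θ : N → ℂ) n := by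
  have hp : p.Prime := Fact.out
  apply Cfsg.Agent.Lib.Helper80_ExtSylow.exists_extension_of_coprime_indices N (θ : N → ℂ) θ.2 hinv
  intro q hq
  obtain ⟨S, hNS, hcop, k, hk⟩ := Cfsg.Agent.Lib.Helper78_PR_GRP.exists_sylow_preimage N q hq
  by_cases hqp : q = p
  · subst hqp
    obtain ⟨η, hη, hres⟩ := exists_ext_sylow_p N θ hinv hdeg hdet S hNS k hk
    exact ⟨S, hNS, η, hcop, hη, hres⟩
  · have hS : ¬ p ∣ N.relIndex S := by
      rw [hk]
      intro h
      exact hqp ((Nat.prime_dvd_prime_iff_eq hp hq).1 (hp.dvd_of_dvd_pow h)).symm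
    have hnorm : (N.subgroupOf S).Normal := Subgroup.normal_subgroupOf
    have hAD : ADHyp p S (N.subgroupOf S) :=
      Cfsg.Agent.Lib.Helper78_PR_GRP.adHyp_of_rcHyp N S hNS hS hQ
    have hconcl : ADConcl M S (N.subgroupOf S) :=
      Cfsg.Agent.Lib.Helper78_ADMain.main hM _ S (N.subgroupOf S) rfl hAD
    have hamb : ADConclAmb M N S hNS := Cfsg.Agent.Lib.Helper78_AD_AMB.amb_of_typed N S hNS hconcl
    obtain ⟨⟨η, -, hη⟩, -⟩ := hamb θ hθ
    exact ⟨S, hNS, (η : S → ℂ), hcop, η.2, hη⟩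

end Cfsg.Agent.Lib.Helper5_PR_EXT
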