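import Mathlib
import Cfsg.Prelude.Def_Blocks
import Cfsg.Agent.Lib.Helper78_RCDefs
import Cfsg.Agent.Lib.Helper78_LocalRing
import Cfsg.Agent.Lib.Helper75_LinChar
import Cfsg.Agent.Lib.Helper64_AD_UNIQ

/-!
# RC-TEICH (helper82, for helper78's S4937 market): the Teichmüller lift

A function `u : G → R` (local ring at `M`) which is multiplicative modulo the local ideal and `≡ 1`
on `N` lifts to a linear character `lam` of `G`, trivial on `N`, with `lam ≡ u`.
-/

set_option autoImplicit false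

namespace Cfsg.Agent.Lib.Helper82_RC_TEICH

open Cfsg Cfsg.Agent.Lib.Helper78_RCDefs Cfsg.Agent.Lib.Helper78_LocalRing
open Cfsg.Agent.Lib.Helper75_LinChar

universe u

variable {p : ℕ} {M : Ideal AlgInt}

/-- roots of unity are algebraic integers -/
theorem isIntegral_of_pow_eq_one (ζ : ℂ) (k : ℕ) (hk : 0 < k) (hζ : ζ ^ k = 1) :
    IsIntegral ℤ ζ := by
  refine ⟨Polynomial.X ^ k - 1, Polynomial.monic_X_pow_sub_C (1 : ℤ) hk.ne', ?_⟩
  simp [hζ]

theorem root_memLocalRing (hM : M.IsPrime) (ζ : ℂ) (k : ℕ) (hk : 0 < k) (hζ : ζ ^ k = 1) :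
    MemLocalRing M ζ :=
  memLocalRing_algInt hM ⟨ζ, isIntegral_of_pow_eq_one ζ k hk hζ⟩

/-- a `p`-power root of unity is `1` modulo the local ideal -/
theorem ppow_root_congr [Fact p.Prime] (hM : IsPModular p M) (η : ℂ) (a : ℕ)
    (hη : η ^ p ^ a = 1) : MemLocalIdeal M (η - 1) := by
  have hp : p.Prime := Fact.out
  have hMp := isPrime_of_isPModular hM
  have hpa : 0 < p ^ a := pow_pos hp.pos a
  obtain ⟨η', hη'⟩ : ∃ η' : AlgInt, (η' : ℂ) = η :=
    ⟨⟨η, isIntegral_of_pow_eq_one η _ hpa hη⟩, rfl⟩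
  have hη'pow : η' ^ p ^ a = 1 := by
    apply Subtype.ext
    rw [SubmonoidClass.coe_pow, hη', hη]
    rfl
  obtain ⟨r, hr⟩ := exists_add_pow_prime_pow_eq hp η' (-1 : AlgInt) a
  rw [hη'pow] at hr
  have hpM : (p : AlgInt) ∈ M := hM.2.2
  have hmem : (η' + -1) ^ p ^ a ∈ M := by
    rw [hr]
    apply M.add_mem
    · rcases Nat.even_or_odd (p ^ a) with hev | hodd
      · rw [hev.neg_one_pow]
        have hp2 : p = 2 := by
          have h1 : Even p := (Nat.even_pow.1 hev).1
          exact (Nat.Prime.even_iff hp).1 h1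
        have h2 : (1 : AlgInt) + 1 = (p : AlgInt) := by
          rw [hp2]
          norm_num
        rw [h2]
        exact hpM
      · rw [hodd.neg_one_pow, add_neg_cancel]
        exact M.zero_mem
    · have h3 : (p : AlgInt) * η' * -1 * r = (p : AlgInt) * (η' * -1 * r) := by ring
      rw [h3]
      exact M.mul_mem_right _ hpM
  have hmem1 : η' + -1 ∈ M := hMp.mem_of_pow_mem _ hmem
  have := memLocalIdeal_of_mem hMp hmem1
  rw [← hη']
  have h4 : ((η' + -1 : AlgInt) : ℂ) = (η' : ℂ) - 1 := by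
    push_cast
    ring
  rwa [h4] at this

/-- the local ideal is prime: a finite product of local integers in the ideal has a factor there -/
theorem exists_mem_of_prod (hM : M.IsPrime) {ι : Type*} (s : Finset ι) (f : ι → ℂ)
    (hf : ∀ i ∈ s, MemLocalRing M (f i)) (h : MemLocalIdeal M (∏ i ∈ s, f i)) :
    ∃ i ∈ s, MemLocalIdeal M (f i) := by
  classical
  induction s using Finset.induction_on with
  | empty =>
    rw [Finset.prod_empty] at h
    exact absurd h (not_memLocalIdeal_one hM)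
  | insert i s hi ih =>
    rw [Finset.prod_insert hi] at h
    have h1 : MemLocalRing M (f i) := hf i (Finset.mem_insert_self i s)
    have h2 : MemLocalRing M (∏ j ∈ s, f j) :=
      memLocalRing_prod hM s f (fun j hj => hf j (Finset.mem_insert_of_mem hj))
    rcases (memLocalIdeal_mul_iff hM h1 h2).1 h with h3 | h3
    · exact ⟨i, Finset.mem_insert_self i s, h3⟩
    · obtain ⟨j, hj, hj'⟩ := ih (fun j hj => hf j (Finset.mem_insert_of_mem hj)) h3
      exact ⟨j, Finset.mem_insert_of_mem hj, hj'⟩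

/-- powers of an element `≡ 1` are `≡ 1` -/
theorem pow_congr_one (hM : M.IsPrime) (x : ℂ) (hx : MemLocalIdeal M (x - 1)) (t : ℕ) :
    MemLocalIdeal M (x ^ t - 1) := by
  have hxR : MemLocalRing M x := by
    have := memLocalRing_add hM (memLocalRing_one hM) (memLocalRing_of_memLocalIdeal hx)
    simpa using this
  have h1 := geom_sum_mul x t
  rw [← h1]
  exact memLocalIdeal_mul_left hM
    (memLocalRing_sum hM _ _ (fun i _ => memLocalRing_pow hM hxR i)) hx

/-- uniqueness of the `p'`-root of unity in a residue class -/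
theorem root_unique [Fact p.Prime] (hM : IsPModular p M) (m : ℕ) (hm0 : 0 < m) (hm : ¬ p ∣ m)
    (ζ₁ ζ₂ : ℂ) (h1 : ζ₁ ^ m = 1) (h2 : ζ₂ ^ m = 1) (h : MemLocalIdeal M (ζ₁ - ζ₂)) :
    ζ₁ = ζ₂ := by
  have hMp := isPrime_of_isPModular hM
  have hζ₂ : ζ₂ * ζ₂ ^ (m - 1) = 1 := by
    rw [← pow_succ', Nat.sub_add_cancel hm0, h2]
  have hne : ζ₂ ^ (m - 1) ≠ 0 := by
    intro h0
    rw [h0, mul_zero] at hζ₂
    exact zero_ne_one hζ₂
  have hε : (ζ₁ * ζ₂ ^ (m - 1)) ^ m = 1 := by
    rw [mul_pow, h1, one_mul, ← pow_mul, mul_comm, pow_mul, h2, one_pow]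
  have hε1 : MemLocalIdeal M (ζ₁ * ζ₂ ^ (m - 1) - 1) := by
    have h3 : ζ₁ * ζ₂ ^ (m - 1) - 1 = (ζ₁ - ζ₂) * ζ₂ ^ (m - 1) := by
      rw [sub_mul, hζ₂]
    rw [h3]
    exact memLocalIdeal_mul_right hMp h
      (memLocalRing_pow hMp (root_memLocalRing hMp ζ₂ m hm0 h2) _)
  have h4 := Cfsg.Agent.Lib.Helper64_AD_UNIQ.eq_one_of_memLocalIdeal hM _ m hm hε hε1
  have h5 : ζ₁ * ζ₂ ^ (m - 1) = ζ₂ * ζ₂ ^ (m - 1) := by rw [h4, hζ₂]
  exact mul_right_cancel₀ hne h5

theorem exists_lift {G : Type u} [Group G] [Finite G] [Fact p.Prime] (hM : IsPModular p M)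
    (N : Subgroup G) (u : G → ℂ) (hR : ∀ g, MemLocalRing M (u g))
    (hmul : ∀ g h, MemLocalIdeal M (u g * u h - u (g * h)))
    (hN : ∀ n ∈ N, MemLocalIdeal M (u n - 1)) :
    ∃ lam : G → ℂ, IsLin G lam ∧ (∀ n ∈ N, lam n = 1) ∧
      ∀ g, MemLocalIdeal M (lam g - u g) := by
  classical
  have hp : p.Prime := Fact.out
  have hMp := isPrime_of_isPModular hM
  obtain ⟨e, he⟩ : ∃ e : ℕ, e = Nat.card G := ⟨_, rfl⟩
  have he0 : e ≠ 0 := by rw [he]; exact Nat.card_pos.ne'
  have hepos : 0 < e := Nat.pos_of_ne_zero he0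
  obtain ⟨a, m, hm, hem⟩ := Nat.exists_eq_pow_mul_and_not_dvd he0 p hp.ne_one
  have hm0 : 0 < m := Nat.pos_of_ne_zero (by rintro rfl; exact hm (dvd_zero p))
  have hu1 : MemLocalIdeal M (u 1 - 1) := hN 1 N.one_mem
  have hpow : ∀ (g : G) (k : ℕ), MemLocalIdeal M (u g ^ k - u (g ^ k)) := by
    intro g k
    induction k with
    | zero =>
      rw [pow_zero, pow_zero]
      have := memLocalIdeal_neg hu1
      rwa [neg_sub] at this
    | succ k ih =>
      have h1 : u g ^ (k + 1) - u (g ^ (k + 1)) =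
          (u g ^ k - u (g ^ k)) * u g + (u (g ^ k) * u g - u (g ^ k * g)) := by
        rw [pow_succ, pow_succ]
        ring
      rw [h1]
      exact memLocalIdeal_add hMp (memLocalIdeal_mul_right hMp ih (hR g)) (hmul _ _)
  have hpe : ∀ g, MemLocalIdeal M (u g ^ e - 1) := by
    intro g
    have h1 := hpow g e
    rw [he, pow_card_eq_one'] at h1
    have h2 : u g ^ e - 1 = (u g ^ e - u 1) + (u 1 - 1) := by ring
    rw [h2, he]
    exact memLocalIdeal_add hMp h1 hu1
  -- existence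
  have hex : ∀ g, ∃ ζ : ℂ, ζ ^ m = 1 ∧ MemLocalIdeal M (ζ - u g) := by
    intro g
    have hprim := Complex.isPrimitiveRoot_exp e he0
    have hfac := Polynomial.X_pow_sub_one_eq_prod hepos hprim
    have hev := congrArg (Polynomial.eval (u g)) hfac
    rw [Polynomial.eval_sub, Polynomial.eval_pow, Polynomial.eval_X, Polynomial.eval_one,
      Polynomial.eval_prod] at hev
    simp only [Polynomial.eval_sub, Polynomial.eval_X, Polynomial.eval_C] at hev
    have hprod : MemLocalIdeal M (∏ ζ ∈ Polynomial.nthRootsFinset e (1 : ℂ), (u g - ζ)) := by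
      rw [← hev]
      exact hpe g
    obtain ⟨ζ, hζmem, hζ⟩ := exists_mem_of_prod hMp _ _ (fun ζ hζ =>
      memLocalRing_sub hMp (hR g) (root_memLocalRing hMp ζ e hepos
        ((Polynomial.mem_nthRootsFinset hepos 1).1 hζ))) hprod
    have hζe : ζ ^ e = 1 := (Polynomial.mem_nthRootsFinset hepos 1).1 hζmem
    have hζu : MemLocalIdeal M (ζ - u g) := by
      have := memLocalIdeal_neg hζ
      rwa [neg_sub] at this
    have hζR : MemLocalRing M ζ := root_memLocalRing hMp ζ e hepos hζe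
    by_cases hm1 : m = 1
    · refine ⟨1, one_pow m, ?_⟩
      have h1 : ζ ^ p ^ a = 1 := by
        rw [hem, hm1, mul_one] at hζe
        exact hζe
      have h2 := ppow_root_congr hM ζ a h1
      have h3 : (1 : ℂ) - u g = -(ζ - 1) + (ζ - u g) := by ring
      rw [h3]
      exact memLocalIdeal_add hMp (memLocalIdeal_neg h2) hζu
    · have hm2 : 1 < m := by omega
      have hcop : Nat.Coprime (p ^ a) m :=
        Nat.Coprime.pow_left a ((Nat.Prime.coprime_iff_not_dvd hp).2 hm)
      obtain ⟨k, -, hk⟩ := Nat.exists_mul_mod_eq_one_of_coprime hcop hm2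
      have hc : p ^ a * k = m * (p ^ a * k / m) + 1 := by
        have := Nat.div_add_mod (p ^ a * k) m
        rw [hk] at this
        exact this.symm
      obtain ⟨t, ht⟩ : ∃ t, t = p ^ a * k / m := ⟨_, rfl⟩
      rw [← ht] at hc
      have hη : (ζ ^ m) ^ p ^ a = 1 := by
        rw [← pow_mul, mul_comm, ← hem, hζe]
      have hη1 := ppow_root_congr hM (ζ ^ m) a hη
      have hηt := pow_congr_one hMp (ζ ^ m) hη1 t
      refine ⟨ζ ^ (p ^ a * k), ?_, ?_⟩
      · rw [← pow_mul]
        have h1 : p ^ a * k * m = e * k := by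
          rw [hem]
          ring
        rw [h1, pow_mul, hζe, one_pow]
      · have h1 : ζ ^ (p ^ a * k) - u g = ((ζ ^ m) ^ t - 1) * ζ + (ζ - u g) := by
          rw [hc, pow_succ, pow_mul]
          ring
        rw [h1]
        exact memLocalIdeal_add hMp (memLocalIdeal_mul_right hMp hηt hζR) hζu
  choose lam hlam1 hlam2 using hex
  have huniq : ∀ (g : G) (ζ : ℂ), ζ ^ m = 1 → MemLocalIdeal M (ζ - u g) → ζ = lam g := by
    intro g ζ h1 h2
    apply root_unique hM m hm0 hm ζ (lam g) h1 (hlam1 g)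
    have h3 : ζ - lam g = (ζ - u g) - (lam g - u g) := by ring
    rw [h3]
    exact memLocalIdeal_sub hMp h2 (hlam2 g)
  have hlamR : ∀ g, MemLocalRing M (lam g) := fun g =>
    root_memLocalRing hMp (lam g) m hm0 (hlam1 g)
  have hlam_mul : ∀ g h, lam (g * h) = lam g * lam h := by
    intro g h
    symm
    apply huniq
    · rw [mul_pow, hlam1, hlam1, one_mul]
    · have h1 : lam g * lam h - u (g * h) =
          (lam g - u g) * lam h + u g * (lam h - u h) + (u g * u h - u (g * h)) := by ring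
      rw [h1]
      exact memLocalIdeal_add hMp (memLocalIdeal_add hMp
        (memLocalIdeal_mul_right hMp (hlam2 g) (hlamR h))
        (memLocalIdeal_mul_left hMp (hR g) (hlam2 h))) (hmul g h)
  have hlam_N : ∀ n ∈ N, lam n = 1 := by
    intro n hn
    symm
    apply huniq
    · exact one_pow m
    · have := memLocalIdeal_neg (hN n hn)
      rwa [neg_sub] at this
  let f : G →* ℂ :=
    { toFun := lam
      map_one' := hlam_N 1 N.one_mem
      map_mul' := hlam_mul }
  exact ⟨lam, isLin_of_hom f, hlam_N, hlam2⟩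

end Cfsg.Agent.Lib.Helper82_RC_TEICH
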