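import Mathlib
import Cfsg.Prelude.Def_Blocks
import Cfsg.Prelude.Def_CharExt
import Cfsg.Agent.Lib.Helper78_RCDefs
import Cfsg.Agent.Lib.Helper78_PRDefs
import Cfsg.Agent.Lib.Helper78_LocalRing
import Cfsg.Agent.Lib.Helper75_CanonExt
import Cfsg.Agent.Lib.Helper82_RC_TEICH

/-!
# PR-NORM-E (S4892 package, architect helper78; formalized by helper5)

Normalizing the determinant inside the good extensions: a good extension `χ₁` of `θ`
(`p ∤ θ(1)`, `p ∤ o(det θ)`) can be twisted by a linear character of `p`-power order, trivial on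
`N`, to a good extension whose determinantal order is prime to `p`.
-/

set_option autoImplicit false

namespace Cfsg.Agent.Lib.Helper5_PR_NORME

open Cfsg Cfsg.Agent.Lib.Helper78_RCDefs Cfsg.Agent.Lib.Helper78_PRDefs
  Cfsg.Agent.Lib.Helper78_LocalRing
  Cfsg.Agent.Lib.Helper3_CharBridge
  Cfsg.Agent.Lib.Helper75_LinChar Cfsg.Agent.Lib.Helper75_DetChar
  Cfsg.Agent.Lib.Helper75_CanonExt

universe u

variable {p : ℕ} {M : Ideal AlgInt}

/-- arithmetic: for `f` prime to `p` and `e'` prime to `p` there is `t` with `e' ∣ t` and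
`p ^ b ∣ t * f + 1`. -/
theorem exists_twist_exponent (hp : p.Prime) (b e' f : ℕ) (he' : ¬ p ∣ e') (hf : ¬ p ∣ f) :
    ∃ t : ℕ, e' ∣ t ∧ p ^ b ∣ t * f + 1 := by
  have hcop : Nat.Coprime e' (p ^ b) :=
    Nat.Coprime.pow_right b ((Nat.Prime.coprime_iff_not_dvd hp).2 he').symm
  have hfcop : Nat.Coprime f (p ^ b) :=
    Nat.Coprime.pow_right b ((Nat.Prime.coprime_iff_not_dvd hp).2 hf).symm
  have hnpos : 0 < p ^ b := pow_pos hp.pos b
  have hff' : f * f ^ (Nat.totient (p ^ b) - 1) ≡ 1 [MOD p ^ b] := by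
    rw [← pow_succ', Nat.sub_add_cancel (Nat.totient_pos.mpr hnpos)]
    exact Nat.ModEq.pow_totient hfcop
  obtain ⟨t, ht0, ht1⟩ := Nat.chineseRemainder hcop 0
    (f ^ (Nat.totient (p ^ b) - 1) * (p ^ b - 1))
  refine ⟨t, Nat.modEq_zero_iff_dvd.mp ht0, ?_⟩
  rw [← Nat.modEq_zero_iff_dvd]
  have h1 : t * f ≡ (f ^ (Nat.totient (p ^ b) - 1) * (p ^ b - 1)) * f [MOD p ^ b] :=
    ht1.mul_right f
  have h2 : (f ^ (Nat.totient (p ^ b) - 1) * (p ^ b - 1)) * f =
      (f * f ^ (Nat.totient (p ^ b) - 1)) * (p ^ b - 1) := by ring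
  rw [h2] at h1
  have h3 : (f * f ^ (Nat.totient (p ^ b) - 1)) * (p ^ b - 1) ≡ 1 * (p ^ b - 1)
      [MOD p ^ b] := hff'.mul_right _
  have h4 : t * f + 1 ≡ 1 * (p ^ b - 1) + 1 [MOD p ^ b] := (h1.trans h3).add_right 1
  rw [one_mul, Nat.sub_add_cancel hnpos] at h4
  exact h4.trans (Nat.modEq_zero_iff_dvd.mpr dvd_rfl)

theorem exists_good_normalized {H : Type u} [Group H] [Finite H] [Fact p.Prime]
    (hM : IsPModular p M) (N : Subgroup H) [hN : N.Normal] (θ : N → ℂ)
    (hθ : IsIrrCharacter N θ) (hdeg : ¬ p ∣ charDegree θ) (hdet : ¬ p ∣ detOrder θ)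
    (χ₁ : H → ℂ) (hχ₁ : IsIrrCharacter H χ₁) (hres₁ : ∀ n : N, χ₁ n = θ n)
    (hgood₁ : IsGood M N χ₁) :
    ∃ χ : H → ℂ, IsIrrCharacter H χ ∧ (∀ n : N, χ n = θ n) ∧ IsGood M N χ ∧
      ¬ p ∣ detOrder χ := by
  have : Fintype H := Fintype.ofFinite H
  have hp : p.Prime := Fact.out
  have hMp := isPrime_of_isPModular hM
  have hχ₁c : IsCharacter H χ₁ := isCharacter_of_isIrrCharacter hχ₁
  have hδ : IsLin H (detChar χ₁) := isCharacter_detChar hχ₁c
  obtain ⟨f, hf1, hfpos, -⟩ := exists_degree hχ₁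
  -- degree of θ
  have hθ1 : θ 1 = f := by
    have := hres₁ 1
    rw [← this, ← hf1]; rfl
  have hfp : ¬ p ∣ f := by
    have h : charDegree θ = f := by
      unfold charDegree
      rw [hθ1]
      simp
    rwa [h] at hdeg
  -- the order of `δ`
  have hδcard : detChar χ₁ ^ Nat.card H = 1 := by
    funext x
    rw [Pi.pow_apply, Pi.one_apply]
    exact hδ.pow_card_eq_one x
  have ha0 : orderOf (detChar χ₁) ≠ 0 := by
    intro h0
    have h1 := orderOf_dvd_of_pow_eq_one hδcard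
    rw [h0, zero_dvd_iff] at h1
    exact Nat.card_pos.ne' h1
  obtain ⟨b, e', he', hbe⟩ := Nat.exists_eq_pow_mul_and_not_dvd ha0 p hp.ne_one
  obtain ⟨t, het, hpt⟩ := exists_twist_exponent hp b e' f he' hfp
  -- `δ` on `N` is `detChar θ`
  have hresfun : (fun n : N => χ₁ n) = θ := funext hres₁
  have hδN : ∀ n : N, detChar χ₁ (n : H) = detChar θ n := by
    intro n
    have := congrFun (detChar_res N hχ₁c) n
    rw [hresfun] at this
    exact this.symm
  -- `detOrder θ ∣ e'`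
  have hce' : detOrder θ ∣ e' := by
    have h1 : detChar θ ^ orderOf (detChar χ₁) = 1 := by
      funext n
      rw [Pi.pow_apply, Pi.one_apply, ← hδN n]
      have := congrFun (pow_orderOf_eq_one (detChar χ₁)) (n : H)
      simpa using this
    have h2 : detOrder θ ∣ p ^ b * e' := by
      rw [← hbe]
      exact orderOf_dvd_of_pow_eq_one h1
    have h3 : Nat.Coprime (detOrder θ) (p ^ b) :=
      Nat.Coprime.pow_right b ((Nat.Prime.coprime_iff_not_dvd hp).2 hdet).symm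
    exact h3.dvd_of_dvd_mul_left h2
  have hβ : IsLin H (detChar χ₁ ^ t) := hδ.pow t
  -- `β` trivial on `N`
  have hβN : ∀ n : N, (detChar χ₁ ^ t) (n : H) = 1 := by
    intro n
    rw [Pi.pow_apply, hδN n]
    have h1 : detChar θ n ^ detOrder θ = 1 := by
      have := congrFun (pow_orderOf_eq_one (detChar θ)) n
      simpa [detOrder] using this
    exact pow_eq_one_of_dvd' h1 (hce'.trans het)
  -- `β` has `p`-power order
  have hβp : ∀ g : H, (detChar χ₁ ^ t) g ^ p ^ b = 1 := by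
    intro g
    rw [Pi.pow_apply, ← pow_mul]
    have h1 : detChar χ₁ g ^ orderOf (detChar χ₁) = 1 := by
      have := congrFun (pow_orderOf_eq_one (detChar χ₁)) g
      simpa using this
    apply pow_eq_one_of_dvd' h1
    rw [hbe, mul_comm t]
    exact Nat.mul_dvd_mul_left _ het
  refine ⟨detChar χ₁ ^ t * χ₁, hβ.mul_irr hχ₁, ?_, ?_, ?_⟩
  · intro n
    rw [Pi.mul_apply, hβN n, one_mul, hres₁ n]
  · intro g
    have hβg : MemLocalRing M ((detChar χ₁ ^ t) g) :=
      Cfsg.Agent.Lib.Helper82_RC_TEICH.root_memLocalRing hMp _ (p ^ b) (pow_pos hp.pos b) (hβp g)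
    have hβg1 : MemLocalIdeal M ((detChar χ₁ ^ t) g - 1) :=
      Cfsg.Agent.Lib.Helper82_RC_TEICH.ppow_root_congr hM _ b (hβp g)
    have h1 : relOmega N (detChar χ₁ ^ t * χ₁) g =
        (detChar χ₁ ^ t) g * relOmega N χ₁ g := by
      unfold relOmega
      rw [Pi.mul_apply, Pi.mul_apply, hβ.2, one_mul]
      ring
    have h2 : relOmega N (detChar χ₁ ^ t * χ₁) g - (relIdx N g : ℂ) =
        (detChar χ₁ ^ t) g * (relOmega N χ₁ g - (relIdx N g : ℂ)) +
          ((detChar χ₁ ^ t) g - 1) * (relIdx N g : ℂ) := by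
      rw [h1]; ring
    rw [h2]
    exact memLocalIdeal_add hMp (memLocalIdeal_mul_left hMp hβg (hgood₁ g))
      (memLocalIdeal_mul_right hMp hβg1 (memLocalRing_natCast hMp _))
  · have hdetχ : detChar (detChar χ₁ ^ t * χ₁) = detChar χ₁ ^ (t * f + 1) := by
      rw [detChar_linear_mul hβ.1 hβ.2 hχ₁c f hf1, ← pow_mul, ← pow_succ]
    have h1 : detChar (detChar χ₁ ^ t * χ₁) ^ e' = 1 := by
      rw [hdetχ, ← pow_mul]
      apply pow_eq_one_of_dvd' (pow_orderOf_eq_one (detChar χ₁))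
      rw [hbe]
      exact Nat.mul_dvd_mul_right hpt e'
    have h2 : detOrder (detChar χ₁ ^ t * χ₁) ∣ e' := orderOf_dvd_of_pow_eq_one h1
    exact fun h => he' (h.trans h2)

end Cfsg.Agent.Lib.Helper5_PR_NORME
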