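import Mathlib
import Cfsg.Agent.Lib.Helper94_Q2Defs

set_option autoImplicit false
set_option linter.unusedSectionVars false
set_option linter.unusedVariables false

/-!
Q2 market (helper94 architect), package **Q2-T1BETA**: a product `β = r_m r_m'` of two
reflections in orthogonal vectors of equal norm which permutes the coordinate planes induces
the identity or (odd characteristic) a transposition.  (helper5, parallel attempt)
-/

namespace Cfsg.Agent.Lib.Helper5_Q2_T1BETA

open Module Cfsg.Agent.Lib.Helper94_Symp Cfsg.Agent.Lib.Helper94_OrthSmall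
  Cfsg.Agent.Lib.Helper94_OrthSiegel Cfsg.Agent.Lib.Helper94_OrthNondeg
  Cfsg.Agent.Lib.Helper29_ODDefs Cfsg.Agent.Lib.Helper94_Q2Defs

variable {F : Type*} [Field F] [Finite F] {a b : F} [Fact (∀ r : F, r ^ 2 ≠ a + b * r)] {t : ℕ}
  {S M L : Subgroup (MV a b t ≃ₗ[F] MV a b t)}

/-- `β v = v + c • m + c' • m'` for suitable scalars. -/
lemma beta_apply {m m' : MV a b t} (hm0 : mQ a b t m ≠ 0) (hm0' : mQ a b t m' ≠ 0)
    (v : MV a b t) :
    ∃ c c' : F, (mrefl a b t hm0 * mrefl a b t hm0') v = v + c • m + c' • m' := by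
  refine ⟨-((mQ a b t m)⁻¹ * mB a b t (mrefl a b t hm0' v) m),
    -((mQ a b t m')⁻¹ * mB a b t v m'), ?_⟩
  rw [LinearEquiv.mul_apply, refl_apply (mQ a b t) (mB a b t) (mQs a b t) (mQp a b t) hm0,
    refl_apply (mQ a b t) (mB a b t) (mQs a b t) (mQp a b t) hm0' v]
  module

/-- Vectors of different coordinate planes are orthogonal. -/
lemma mB_eq_zero_of_mem {j j' : Fin t} (hjj' : j ≠ j') {x y : MV a b t}
    (hx : x ∈ mD a b t j') (hy : y ∈ mD a b t j) : mB a b t x y = 0 := by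
  rw [mB_apply]
  apply Finset.sum_eq_zero
  intro l _
  by_cases hl : l = j
  · have : x l = 0 := hx l (by rw [hl]; exact hjj')
    rw [this, zero_mul, map_zero]
  · have : y l = 0 := hy l hl
    rw [this, star_zero, mul_zero, map_zero]

lemma mQ_sub (x y : MV a b t) :
    mQ a b t (x - y) = mQ a b t x + mQ a b t y - mB a b t x y := by
  have h1 : mQ a b t (-y) = mQ a b t y := by
    have := mQs a b t (-1 : F) y
    rw [neg_one_smul] at this
    rw [this]; ring
  rw [sub_eq_add_neg, mQp, h1, map_neg]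
  ring

/-- The map `(c, c') ↦ c • z + c' • z'`, if onto `E`, is injective. -/
lemma phi_inj {z z' : QuadraticAlgebra F a b}
    (hsurj : ∀ ζ : QuadraticAlgebra F a b, ∃ c c' : F, c • z + c' • z' = ζ) :
    ∀ c c' d d' : F, c • z + c' • z' = d • z + d' • z' → c = d ∧ c' = d' := by
  have hs : Function.Surjective (fun p : F × F => p.1 • z + p.2 • z') := by
    intro ζ
    obtain ⟨c, c', h⟩ := hsurj ζ
    exact ⟨(c, c'), h⟩
  have hi := Function.Surjective.injective_of_finite (QuadraticAlgebra.equivProd a b).symm hs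
  intro c c' d d' h
  have := @hi (c, c') (d, d') h
  exact ⟨congrArg Prod.fst this, congrArg Prod.snd this⟩

section main

variable {m m' : MV a b t} (hm0 : mQ a b t m ≠ 0) (hm0' : mQ a b t m' ≠ 0)
  (σ : Equiv.Perm (Fin t))
  (hσ : ∀ j, (mD a b t j).map
      ((mrefl a b t hm0 * mrefl a b t hm0' : MV a b t ≃ₗ[F] MV a b t) :
        MV a b t →ₗ[F] MV a b t) = mD a b t (σ j))

include hσ

lemma beta_mem {j : Fin t} {v : MV a b t} (hv : v ∈ mD a b t j) :
    (mrefl a b t hm0 * mrefl a b t hm0') v ∈ mD a b t (σ j) := by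
  rw [← hσ j]
  exact Submodule.mem_map_of_mem hv

/-- For a moved `j`, every `ζ` is `c • m j + c' • m' j` with `c • m i + c' • m' i = 0` off
`{j, σ j}` and `β (single j (-ζ)) = single j (-ζ) + c • m + c' • m'`. -/
lemma moved_repr {j : Fin t} (hj : σ j ≠ j) (ζ : QuadraticAlgebra F a b) :
    ∃ c c' : F, c • m j + c' • m' j = ζ ∧
      (∀ i, i ≠ j → i ≠ σ j → c • m i + c' • m' i = 0) ∧
      (mrefl a b t hm0 * mrefl a b t hm0') (Pi.single j (-ζ)) =
        Pi.single j (-ζ) + c • m + c' • m' := by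
  have hv : (Pi.single j (-ζ) : MV a b t) ∈ mD a b t j := by
    intro i hi
    exact Pi.single_eq_of_ne hi _
  obtain ⟨c, c', hcc⟩ := beta_apply hm0 hm0' (Pi.single j (-ζ) : MV a b t)
  have hmem := beta_mem hm0 hm0' σ hσ hv
  rw [hcc] at hmem
  refine ⟨c, c', ?_, ?_, hcc⟩
  · have h := hmem j (Ne.symm hj)
    simp only [Pi.add_apply, Pi.smul_apply, Pi.single_eq_same] at h
    linear_combination (exp := 1) h
  · intro i hi hi'
    have h := hmem i hi'
    simp only [Pi.add_apply, Pi.smul_apply, Pi.single_eq_of_ne hi, zero_add] at h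
    exact h

lemma moved_inj {j : Fin t} (hj : σ j ≠ j) :
    ∀ c c' d d' : F, c • m j + c' • m' j = d • m j + d' • m' j → c = d ∧ c' = d' := by
  apply phi_inj
  intro ζ
  obtain ⟨c, c', h, -⟩ := moved_repr hm0 hm0' σ hσ hj ζ
  exact ⟨c, c', h⟩

/-- For a moved `j`, `m` and `m'` are supported on `{j, σ j}`. -/
lemma moved_supp {j : Fin t} (hj : σ j ≠ j) {i : Fin t} (hi : i ≠ j) (hi' : i ≠ σ j) :
    m i = 0 ∧ m' i = 0 := by
  constructor
  · obtain ⟨c, c', h, h0, -⟩ := moved_repr hm0 hm0' σ hσ hj ((1 : F) • m j + (0 : F) • m' j)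
    obtain ⟨rfl, rfl⟩ := moved_inj hm0 hm0' σ hσ hj _ _ _ _ h
    have := h0 i hi hi'
    rwa [one_smul, zero_smul, add_zero] at this
  · obtain ⟨c, c', h, h0, -⟩ := moved_repr hm0 hm0' σ hσ hj ((0 : F) • m j + (1 : F) • m' j)
    obtain ⟨rfl, rfl⟩ := moved_inj hm0 hm0' σ hσ hj _ _ _ _ h
    have := h0 i hi hi'
    rwa [one_smul, zero_smul, zero_add] at this

lemma moved_ne_zero {j : Fin t} (hj : σ j ≠ j) : m j ≠ 0 := by
  intro h0
  have h : (1 : F) • m j + (0 : F) • m' j = (0 : F) • m j + (0 : F) • m' j := by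
    rw [h0]; simp
  have := (moved_inj hm0 hm0' σ hσ hj _ _ _ _ h).1
  exact one_ne_zero this

/-- Two moved points: the second is in the orbit of the first. -/
lemma moved_moved {j i : Fin t} (hj : σ j ≠ j) (hi : σ i ≠ i) : i = j ∨ i = σ j := by
  by_contra hcon
  rw [not_or] at hcon
  exact moved_ne_zero hm0 hm0' σ hσ hi (moved_supp hm0 hm0' σ hσ hj hcon.1 hcon.2).1

/-- A moved point forces odd characteristic. -/
lemma moved_two_ne_zero {j : Fin t} (hj : σ j ≠ j) : (2 : F) ≠ 0 := by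
  intro h2
  obtain ⟨c, c', h, -, hβ⟩ := moved_repr hm0 hm0' σ hσ hj ((1 : F) • m j + (0 : F) • m' j)
  obtain ⟨rfl, rfl⟩ := moved_inj hm0 hm0' σ hσ hj _ _ _ _ h
  rw [one_smul, zero_smul, add_zero, one_smul, zero_smul, add_zero] at hβ
  set v : MV a b t := Pi.single j (-m j) with hvdef
  have hv : v ∈ mD a b t j := by
    intro i hi
    exact Pi.single_eq_of_ne hi _
  have hβv := beta_mem hm0 hm0' σ hσ hv
  have hO : mQ a b t ((mrefl a b t hm0 * mrefl a b t hm0') v) = mQ a b t v :=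
    (oG (mQ a b t)).mul_mem (refl_mem _ _ _ _ hm0) (refl_mem _ _ _ _ hm0') v
  have hm : m = (mrefl a b t hm0 * mrefl a b t hm0') v - v := by
    rw [hβ]; abel
  have hB : mB a b t ((mrefl a b t hm0 * mrefl a b t hm0') v) v = 0 :=
    mB_eq_zero_of_mem (Ne.symm hj) hβv hv
  apply hm0
  rw [hm, mQ_sub, hO, hB, sub_zero, ← two_mul, h2, zero_mul]

end main

/-- **Q2-T1BETA** -/
theorem T1BETA {m m' : MV a b t} (hm0 : mQ a b t m ≠ 0) (hm0' : mQ a b t m' ≠ 0)
    (hQ : mQ a b t m = mQ a b t m') (horth : mB a b t m m' = 0) (σ : Equiv.Perm (Fin t))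
    (hσ : ∀ j, (mD a b t j).map
      ((mrefl a b t hm0 * mrefl a b t hm0' : MV a b t ≃ₗ[F] MV a b t) :
        MV a b t →ₗ[F] MV a b t) = mD a b t (σ j)) :
    σ = 1 ∨ ((2 : F) ≠ 0 ∧ ∃ j j', j ≠ j' ∧ σ = Equiv.swap j j') := by
  by_cases h1 : σ = 1
  · exact Or.inl h1
  right
  obtain ⟨j, hj⟩ : ∃ j, σ j ≠ j := by
    by_contra hcon
    apply h1
    refine Equiv.ext fun i => ?_
    have : σ i = i := by
      by_contra h
      exact hcon ⟨i, h⟩
    rw [this]; rfl
  refine ⟨moved_two_ne_zero hm0 hm0' σ hσ hj, j, σ j, Ne.symm hj, ?_⟩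
  have hj' : σ (σ j) ≠ σ j := fun h => hj (σ.injective h)
  have hback : σ (σ j) = j := by
    rcases moved_moved hm0 hm0' σ hσ hj' hj with h | h
    · exact absurd h.symm hj
    · exact h.symm
  refine Equiv.ext fun i => ?_
  by_cases hi : i = j
  · rw [hi, Equiv.swap_apply_left]
  by_cases hi' : i = σ j
  · rw [hi', Equiv.swap_apply_right, hback]
  rw [Equiv.swap_apply_of_ne_of_ne hi hi']
  by_contra hmv
  rcases moved_moved hm0 hm0' σ hσ hj hmv with h | h
  · exact hi h
  · exact hi' h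

end Cfsg.Agent.Lib.Helper5_Q2_T1BETA
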