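import Mathlib
import Cfsg.Agent.Lib.Helper83_SL3Pair

/-!
# Two regular unipotent elements of `SL_n` : basic objects

`N0` is the shift on the basis vectors of index `≥ 1` (it kills `e 0` and `e 1`).  We record
the coordinates of `N0 *ᵥ c`, `φ ᵥ* N0`, the powers of `N0`, and the powers of the rank one
perturbations `N0 + e 0 ψᵀ` and `N0 + c (e 0)ᵀ`.
-/

set_option autoImplicit false
set_option linter.unusedSectionVars false
set_option linter.unusedVariables false
set_option linter.unusedSimpArgs false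
set_option linter.unusedTactic false
set_option linter.unreachableTactic false
set_option linter.unnecessarySeqFocus false

namespace Cfsg.Agent.Lib.Helper5_RUA

open Matrix Cfsg.Agent.Lib.Helper83_TvCalc Cfsg.Agent.Lib.Helper83_SL3Pair

variable {K : Type*} [Field K]

/-- the shift on the indices `≥ 1` -/
def N0 (K : Type*) [Field K] (n : ℕ) : Matrix (Fin n) (Fin n) K :=
  Matrix.of fun i j => if i.val ≠ 0 ∧ j.val = i.val + 1 then 1 else 0

theorem N0_apply (n : ℕ) (i j : Fin n) :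
    N0 K n i j = if i.val ≠ 0 ∧ j.val = i.val + 1 then 1 else 0 := rfl

/-- the powers of `N0` -/
theorem N0_pow (n k : ℕ) :
    (N0 K n) ^ (k + 1) =
      Matrix.of fun i j => if i.val ≠ 0 ∧ j.val = i.val + (k + 1) then (1 : K) else 0 := by
  induction k with
  | zero =>
    rw [zero_add, pow_one]
    rfl
  | succ k ih =>
    rw [pow_succ, ih]
    ext i j
    rw [Matrix.mul_apply]
    simp only [Matrix.of_apply, N0_apply]
    by_cases hik : i.val ≠ 0 ∧ i.val + (k + 1) < n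
    · rw [Finset.sum_eq_single (⟨i.val + (k + 1), hik.2⟩ : Fin n)]
      · rw [if_pos ⟨hik.1, rfl⟩, one_mul]
        have hl : (⟨i.val + (k + 1), hik.2⟩ : Fin n).val = i.val + (k + 1) := rfl
        rw [hl]
        by_cases hj : j.val = i.val + (k + 1 + 1)
        · rw [if_pos (show i.val + (k + 1) ≠ 0 ∧ j.val = i.val + (k + 1) + 1 from
            ⟨by omega, by omega⟩),
            if_pos (show i.val ≠ 0 ∧ j.val = i.val + (k + 1 + 1) from ⟨hik.1, hj⟩)]
        · rw [if_neg (show ¬ (i.val + (k + 1) ≠ 0 ∧ j.val = i.val + (k + 1) + 1) from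
            fun h => hj (by omega)),
            if_neg (show ¬ (i.val ≠ 0 ∧ j.val = i.val + (k + 1 + 1)) from fun h => hj h.2)]
      · intro l _ hl
        have : ¬ (i.val ≠ 0 ∧ l.val = i.val + (k + 1)) := fun h => hl (Fin.ext h.2)
        rw [if_neg this, zero_mul]
      · intro h; exact absurd (Finset.mem_univ _) h
    · rw [Finset.sum_eq_zero]
      · rw [if_neg]
        intro h
        apply hik
        refine ⟨h.1, ?_⟩
        have := j.isLt
        omega
      · intro l _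
        have hl := l.isLt
        rw [if_neg (fun h => hik ⟨h.1, by omega⟩), zero_mul]

theorem N0_pow_eq_zero (n k : ℕ) (hk : n ≤ k + 2) : (N0 K n) ^ (k + 1) = 0 := by
  rw [N0_pow]
  ext i j
  have := j.isLt
  simp only [Matrix.of_apply, Matrix.zero_apply]
  rw [if_neg]
  intro h
  omega

/-- coordinates of `N0 ^ (k+1) *ᵥ c` -/
theorem N0_pow_mulVec (n k : ℕ) (c : Fin n → K) (i : Fin n) :
    ((N0 K n) ^ (k + 1) *ᵥ c) i =
      if h : i.val ≠ 0 ∧ i.val + (k + 1) < n then c ⟨i.val + (k + 1), h.2⟩ else 0 := by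
  rw [N0_pow, Matrix.mulVec, dotProduct]
  simp only [Matrix.of_apply]
  by_cases h : i.val ≠ 0 ∧ i.val + (k + 1) < n
  · rw [dif_pos h, Finset.sum_eq_single (⟨i.val + (k + 1), h.2⟩ : Fin n)]
    · rw [if_pos ⟨h.1, rfl⟩, one_mul]
    · intro l _ hl
      have : ¬ (i.val ≠ 0 ∧ l.val = i.val + (k + 1)) := fun h' => hl (Fin.ext h'.2)
      rw [if_neg this, zero_mul]
    · intro h'; exact absurd (Finset.mem_univ _) h'
  · rw [dif_neg h]
    apply Finset.sum_eq_zero
    intro l _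
    have hl := l.isLt
    rw [if_neg (fun h' => h ⟨h'.1, by omega⟩), zero_mul]

/-- coordinates of `φ ᵥ* N0 ^ (k+1)` -/
theorem vecMul_N0_pow (n k : ℕ) (φ : Fin n → K) (j : Fin n) :
    (φ ᵥ* (N0 K n) ^ (k + 1)) j =
      if h : k + 2 ≤ j.val then φ ⟨j.val - (k + 1), by have := j.isLt; omega⟩ else 0 := by
  rw [N0_pow, Matrix.vecMul, dotProduct]
  simp only [Matrix.of_apply]
  by_cases h : k + 2 ≤ j.val
  · rw [dif_pos h, Finset.sum_eq_single (⟨j.val - (k + 1), by have := j.isLt; omega⟩ : Fin n)]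
    · rw [if_pos ⟨by simp only; omega, by simp only; omega⟩, mul_one]
    · intro l _ hl
      have : ¬ (l.val ≠ 0 ∧ j.val = l.val + (k + 1)) := by
        intro h'
        apply hl
        apply Fin.ext
        simp only
        omega
      rw [if_neg this, mul_zero]
    · intro h'; exact absurd (Finset.mem_univ _) h'
  · rw [dif_neg h]
    apply Finset.sum_eq_zero
    intro l _
    rw [if_neg (fun h' => h (by omega)), mul_zero]

theorem N0_mulVec (n : ℕ) (c : Fin n → K) (i : Fin n) :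
    (N0 K n *ᵥ c) i = if h : i.val ≠ 0 ∧ i.val + 1 < n then c ⟨i.val + 1, h.2⟩ else 0 := by
  simpa using N0_pow_mulVec n 0 c i

theorem vecMul_N0 (n : ℕ) (φ : Fin n → K) (j : Fin n) :
    (φ ᵥ* N0 K n) j =
      if h : 2 ≤ j.val then φ ⟨j.val - 1, by have := j.isLt; omega⟩ else 0 := by
  simpa using vecMul_N0_pow n 0 φ j


/-! ### the unipotent matrix `v0 = 1 - N0` -/

/-- `v0 = 1 - N0` -/
def v0 (K : Type*) [Field K] (n : ℕ) : Matrix (Fin n) (Fin n) K := 1 - N0 K n

theorem det_v0 (n : ℕ) : (v0 K n).det = 1 := by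
  unfold v0
  rw [Matrix.det_of_isUpperTriangular]
  · apply Finset.prod_eq_one
    intro i _
    rw [Matrix.sub_apply, Matrix.one_apply_eq, N0_apply, if_neg (by omega), sub_zero]
  · intro i j hij
    have hij' : j.val < i.val := hij
    rw [Matrix.sub_apply, Matrix.one_apply_ne (by intro h; subst h; omega), N0_apply,
      if_neg (by omega), sub_zero]

theorem v0_mulVec (n : ℕ) (c : Fin n → K) (i : Fin n) :
    (v0 K n *ᵥ c) i =
      c i - (if h : i.val ≠ 0 ∧ i.val + 1 < n then c ⟨i.val + 1, h.2⟩ else 0) := by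
  unfold v0
  rw [Matrix.sub_mulVec, Matrix.one_mulVec, Pi.sub_apply, N0_mulVec]

theorem vecMul_v0 (n : ℕ) (φ : Fin n → K) (j : Fin n) :
    (φ ᵥ* v0 K n) j =
      φ j - (if h : 2 ≤ j.val then φ ⟨j.val - 1, by have := j.isLt; omega⟩ else 0) := by
  unfold v0
  rw [Matrix.vecMul_sub, Matrix.vecMul_one, Pi.sub_apply, vecMul_N0]

/-- `N0` kills `e i0` when `i0` has value `0` -/
theorem N0_mulVec_e0 (n : ℕ) (i0 : Fin n) (h0 : i0.val = 0) :
    N0 K n *ᵥ (e i0 : Fin n → K) = 0 := by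
  funext i
  rw [N0_mulVec]
  simp only [Pi.zero_apply]
  split_ifs with h
  · simp only [e, Pi.single_apply]
    rw [if_neg]
    intro h'
    have := congrArg Fin.val h'
    simp only at this
    omega
  · rfl

theorem e0_vecMul_N0 (n : ℕ) (i0 : Fin n) (h0 : i0.val = 0) :
    (e i0 : Fin n → K) ᵥ* N0 K n = 0 := by
  funext j
  rw [vecMul_N0]
  simp only [Pi.zero_apply]
  split_ifs with h
  · simp only [e, Pi.single_apply]
    rw [if_neg]
    intro h'
    have := congrArg Fin.val h'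
    simp only at this
    omega
  · rfl

theorem v0_mulVec_e0 (n : ℕ) (i0 : Fin n) (h0 : i0.val = 0) :
    v0 K n *ᵥ (e i0 : Fin n → K) = e i0 := by
  unfold v0
  rw [Matrix.sub_mulVec, Matrix.one_mulVec, N0_mulVec_e0 n i0 h0, sub_zero]

theorem e0_vecMul_v0 (n : ℕ) (i0 : Fin n) (h0 : i0.val = 0) :
    (e i0 : Fin n → K) ᵥ* v0 K n = e i0 := by
  unfold v0
  rw [Matrix.vecMul_sub, Matrix.vecMul_one, e0_vecMul_N0 n i0 h0, sub_zero]

/-! ### powers of rank one perturbations of `N0` -/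

/-- powers of `N0 + e0 ψᵀ` -/
theorem N0_add_row_pow (n : ℕ) (i0 : Fin n) (h0 : i0.val = 0) (ψ : Fin n → K)
    (hψ : ψ ⬝ᵥ (e i0 : Fin n → K) = 0) (k : ℕ) :
    (N0 K n + vecMulVec (e i0) ψ) ^ (k + 1) =
      (N0 K n) ^ (k + 1) + vecMulVec (e i0) (ψ ᵥ* (N0 K n) ^ k) := by
  induction k with
  | zero => rw [zero_add, pow_one, pow_one, pow_zero, Matrix.vecMul_one]
  | succ k ih =>
    rw [pow_succ, ih, add_mul, mul_add, mul_add, ← pow_succ, vecMulVec_mul_vecMulVec,
      Matrix.mul_vecMulVec, Matrix.vecMulVec_mul, Matrix.vecMul_vecMul, ← pow_succ]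
    have h1 : (N0 K n) ^ (k + 1) *ᵥ (e i0 : Fin n → K) = 0 := by
      rw [pow_succ, ← Matrix.mulVec_mulVec, N0_mulVec_e0 n i0 h0, Matrix.mulVec_zero]
    have h2 : (ψ ᵥ* (N0 K n) ^ k) ⬝ᵥ (e i0 : Fin n → K) = 0 := by
      rw [← Matrix.dotProduct_mulVec]
      cases k with
      | zero => rw [pow_zero, Matrix.one_mulVec]; exact hψ
      | succ k =>
        rw [pow_succ, ← Matrix.mulVec_mulVec, N0_mulVec_e0 n i0 h0, Matrix.mulVec_zero,
          dotProduct_zero]
    simp only [h1, h2, zero_vecMulVec, vecMulVec_zero, zero_smul, add_zero, zero_add]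

/-- powers of `N0 + c e0ᵀ` -/
theorem N0_add_col_pow (n : ℕ) (i0 : Fin n) (h0 : i0.val = 0) (c : Fin n → K)
    (hc : (e i0 : Fin n → K) ⬝ᵥ c = 0) (k : ℕ) :
    (N0 K n + vecMulVec c (e i0)) ^ (k + 1) =
      (N0 K n) ^ (k + 1) + vecMulVec ((N0 K n) ^ k *ᵥ c) (e i0) := by
  induction k with
  | zero => rw [zero_add, pow_one, pow_one, pow_zero, Matrix.one_mulVec]
  | succ k ih =>
    rw [pow_succ', ih, mul_add, add_mul, add_mul, ← pow_succ', vecMulVec_mul_vecMulVec,
      Matrix.mul_vecMulVec, Matrix.vecMulVec_mul, Matrix.mulVec_mulVec, ← pow_succ']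
    have h1 : (e i0 : Fin n → K) ᵥ* (N0 K n) ^ (k + 1) = 0 := by
      rw [pow_succ', ← Matrix.vecMul_vecMul, e0_vecMul_N0 n i0 h0, Matrix.zero_vecMul]
    have h2 : (e i0 : Fin n → K) ⬝ᵥ ((N0 K n) ^ k *ᵥ c) = 0 := by
      rw [Matrix.dotProduct_mulVec]
      cases k with
      | zero => rw [pow_zero, Matrix.vecMul_one]; exact hc
      | succ k =>
        rw [pow_succ', ← Matrix.vecMul_vecMul, e0_vecMul_N0 n i0 h0, Matrix.zero_vecMul,
          zero_dotProduct]
    simp only [h1, h2, zero_vecMulVec, vecMulVec_zero, zero_smul, add_zero, zero_add]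


/-! ### the two elements -/

section elements

variable (K) (m : ℕ)

/-- the matrix of the first generator : `(1 - e0 e1ᵀ) v0` -/
def Xmat : Matrix (Fin (m + 4)) (Fin (m + 4)) K :=
  MM (e (0 : Fin (m + 4))) (-(e (1 : Fin (m + 4)))) * v0 K (m + 4)

/-- the matrix of the second generator : `v0 (1 - c e0ᵀ)` -/
def Ymat (c : Fin (m + 4) → K) : Matrix (Fin (m + 4)) (Fin (m + 4)) K :=
  v0 K (m + 4) * MM (-c) (e (0 : Fin (m + 4)))

variable {K} {m}

theorem det_Xmat : (Xmat K m).det = 1 := by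
  unfold Xmat
  rw [Matrix.det_mul, det_v0, det_MM, mul_one, neg_dotProduct, e_dot]
  simp [e]

theorem det_Ymat (c : Fin (m + 4) → K) (hc : c 0 = 0) : (Ymat K m c).det = 1 := by
  unfold Ymat
  rw [Matrix.det_mul, det_v0, det_MM, one_mul, dotProduct_neg, e_dot, hc, neg_zero, add_zero]

variable (K) (m)

/-- the first generator -/
def Xs : SpecialLinearGroup (Fin (m + 4)) K := ⟨Xmat K m, det_Xmat⟩

variable {K} {m}

/-- the second generator -/
def Ys (c : Fin (m + 4) → K) (hc : c 0 = 0) : SpecialLinearGroup (Fin (m + 4)) K :=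
  ⟨Ymat K m c, det_Ymat c hc⟩

/-- the covector `e1ᵀ v0` -/
def psi1 (K : Type*) [Field K] (m : ℕ) : Fin (m + 4) → K :=
  (e (1 : Fin (m + 4)) : Fin (m + 4) → K) ᵥ* v0 K (m + 4)

theorem Xmat_eq : Xmat K m = 1 - (N0 K (m + 4) + vecMulVec (e (0 : Fin (m + 4))) (psi1 K m)) := by
  unfold Xmat psi1
  rw [MM_mul', Matrix.neg_vecMul, vecMulVec_neg]
  unfold v0
  abel

theorem Ymat_eq (c : Fin (m + 4) → K) :
    Ymat K m c =
      1 - (N0 K (m + 4) + vecMulVec (v0 K (m + 4) *ᵥ c) (e (0 : Fin (m + 4)))) := by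
  unfold Ymat
  rw [mul_MM, Matrix.mulVec_neg, neg_vecMulVec]
  unfold v0
  abel

theorem psi1_dot_e0 : psi1 K m ⬝ᵥ (e (0 : Fin (m + 4)) : Fin (m + 4) → K) = 0 := by
  unfold psi1
  rw [← Matrix.dotProduct_mulVec, v0_mulVec_e0 _ _ rfl, e_dot]
  simp [e]

theorem psi1_one : psi1 K m (1 : Fin (m + 4)) = 1 := by
  unfold psi1
  rw [vecMul_v0]
  have h1 : ((1 : Fin (m + 4)).val) = 1 := rfl
  rw [dif_neg (by rw [h1]; omega), sub_zero]
  simp [e]

/-- regularity of a matrix `1 - M` -/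
theorem regular_of (M : Matrix (Fin (m + 4)) (Fin (m + 4)) K) (h1 : M ^ (m + 4) = 0)
    (h2 : M ^ (m + 3) ≠ 0) :
    IsNilpotent ((1 - M) - 1) ∧ ((1 - M) - 1) ^ (m + 4 - 1) ≠ 0 := by
  have e1 : (1 - M) - 1 = -M := by abel
  rw [e1]
  constructor
  · exact ⟨m + 4, by rw [neg_pow, h1, mul_zero]⟩
  · show (-M) ^ (m + 3) ≠ 0
    rw [neg_pow]
    intro h
    apply h2
    rcases neg_one_pow_eq_or (Matrix (Fin (m + 4)) (Fin (m + 4)) K) (m + 3) with h3 | h3
    · rw [h3, one_mul] at h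
      exact h
    · rw [h3, neg_one_mul, neg_eq_zero] at h
      exact h

theorem Xs_regular :
    IsNilpotent (((Xs K m : SpecialLinearGroup (Fin (m + 4)) K) :
        Matrix (Fin (m + 4)) (Fin (m + 4)) K) - 1) ∧
      (((Xs K m : SpecialLinearGroup (Fin (m + 4)) K) :
        Matrix (Fin (m + 4)) (Fin (m + 4)) K) - 1) ^ (m + 4 - 1) ≠ 0 := by
  show IsNilpotent (Xmat K m - 1) ∧ (Xmat K m - 1) ^ (m + 4 - 1) ≠ 0
  rw [Xmat_eq]
  apply regular_of
  · rw [N0_add_row_pow _ _ rfl _ psi1_dot_e0, N0_pow_eq_zero _ _ (by omega),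
      N0_pow_eq_zero _ _ (by omega), Matrix.vecMul_zero, vecMulVec_zero, add_zero]
  · rw [N0_add_row_pow _ _ rfl _ psi1_dot_e0, N0_pow_eq_zero _ _ (by omega), zero_add]
    intro h
    have h1 := congrFun (congrFun h (0 : Fin (m + 4))) (Fin.last (m + 3))
    rw [vecMulVec_apply, Matrix.zero_apply, vecMul_N0_pow] at h1
    rw [dif_pos (by simp)] at h1
    have h2 : (⟨(Fin.last (m + 3)).val - (m + 1 + 1), by simp⟩ : Fin (m + 4)) = 1 := by
      apply Fin.ext
      simp
    rw [h2, psi1_one] at h1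
    simp [e] at h1

theorem Ys_regular (c : Fin (m + 4) → K) (hc : c 0 = 0) (htop : c (Fin.last (m + 3)) ≠ 0) :
    IsNilpotent (((Ys c hc : SpecialLinearGroup (Fin (m + 4)) K) :
        Matrix (Fin (m + 4)) (Fin (m + 4)) K) - 1) ∧
      (((Ys c hc : SpecialLinearGroup (Fin (m + 4)) K) :
        Matrix (Fin (m + 4)) (Fin (m + 4)) K) - 1) ^ (m + 4 - 1) ≠ 0 := by
  show IsNilpotent (Ymat K m c - 1) ∧ (Ymat K m c - 1) ^ (m + 4 - 1) ≠ 0
  rw [Ymat_eq]
  have hc2 : (e (0 : Fin (m + 4)) : Fin (m + 4) → K) ⬝ᵥ (v0 K (m + 4) *ᵥ c) = 0 := by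
    rw [Matrix.dotProduct_mulVec, e0_vecMul_v0 _ _ rfl, e_dot, hc]
  apply regular_of
  · rw [N0_add_col_pow _ _ rfl _ hc2, N0_pow_eq_zero _ _ (by omega),
      N0_pow_eq_zero _ _ (by omega), Matrix.zero_mulVec, zero_vecMulVec, add_zero]
  · rw [N0_add_col_pow _ _ rfl _ hc2, N0_pow_eq_zero _ _ (by omega), zero_add]
    intro h
    have h1 := congrFun (congrFun h (1 : Fin (m + 4))) (0 : Fin (m + 4))
    rw [vecMulVec_apply, Matrix.zero_apply, N0_pow_mulVec] at h1
    have h11 : ((1 : Fin (m + 4)).val) = 1 := rfl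
    rw [dif_pos (by rw [h11]; omega)] at h1
    have h2 : (⟨(1 : Fin (m + 4)).val + (m + 1 + 1), by rw [h11]; omega⟩ : Fin (m + 4)) =
        Fin.last (m + 3) := by
      apply Fin.ext
      simp [h11]
      omega
    rw [h2, v0_mulVec] at h1
    rw [dif_neg (by simp)] at h1
    simp [e, htop] at h1

end elements

end Cfsg.Agent.Lib.Helper5_RUA
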