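import Mathlib
import Cfsg.Agent.Lib.Helper5_RUA

/-!
# Two regular unipotent elements of `SL_n` : the two mechanisms

A calculus of the matrices `1 + C B R` for a finite family of vectors (the columns of `C`) and of
covectors (the rows of `R`), and the two mechanisms which produce transvections inside the
subgroup generated by the two elements `Xs`, `Ys c` of `Helper5_RUA`.
-/

set_option autoImplicit false
set_option linter.unusedSectionVars false
set_option linter.unusedVariables false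
set_option linter.unusedSimpArgs false
set_option linter.unusedTactic false
set_option linter.unreachableTactic false
set_option linter.unnecessarySeqFocus false

namespace Cfsg.Agent.Lib.Helper5_RUB

open Matrix Cfsg.Agent.Lib.Helper83_TvCalc Cfsg.Agent.Lib.Helper83_SL3Pair
  Cfsg.Agent.Lib.Helper5_RUA

variable {K : Type*} [Field K]

section gemb

variable {ι : Type*} [Fintype ι] [DecidableEq ι] {κ : Type*} [Fintype κ] [DecidableEq κ]

/-- the matrix `1 + Σ B k l • f k (g l)ᵀ` -/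
def gemb (f g : κ → ι → K) (B : Matrix κ κ K) : Matrix ι ι K :=
  1 + (Matrix.of fun i k => f k i) * B * (Matrix.of g)

/-- the matrix of the pairings -/
def gram (f g : κ → ι → K) : Matrix κ κ K := Matrix.of fun k l => g k ⬝ᵥ f l

theorem rows_mul_cols (f g : κ → ι → K) :
    (Matrix.of g : Matrix κ ι K) * (Matrix.of fun i k => f k i) = gram f g := by
  ext k l
  rw [Matrix.mul_apply]
  rfl

theorem gemb_mul (f g : κ → ι → K) (B B' : Matrix κ κ K) :
    gemb f g B * gemb f g B' = gemb f g (B + B' + B * gram f g * B') := by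
  unfold gemb
  have hRC := rows_mul_cols f g
  generalize (Matrix.of fun i k => f k i : Matrix ι κ K) = C at *
  generalize (Matrix.of g : Matrix κ ι K) = R at *
  have key : C * B * R * (C * B' * R) = C * (B * gram f g * B') * R := by
    rw [← hRC]
    simp only [Matrix.mul_assoc]
  rw [add_mul, mul_add, mul_add, one_mul, mul_one, one_mul, key, Matrix.mul_add, Matrix.mul_add,
    Matrix.add_mul, Matrix.add_mul]
  abel

theorem gemb_zero (f g : κ → ι → K) : gemb f g 0 = 1 := by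
  unfold gemb
  rw [Matrix.mul_zero, Matrix.zero_mul, add_zero]

theorem gemb_single (f g : κ → ι → K) (k l : κ) (a : K) :
    gemb f g (Matrix.single k l a) = MM (a • f k) (g l) := by
  unfold gemb MM
  congr 1
  ext i j
  rw [Matrix.mul_apply]
  simp only [Matrix.mul_apply, Matrix.of_apply, Matrix.single_apply, vecMulVec_apply,
    Pi.smul_apply, smul_eq_mul]
  rw [Finset.sum_eq_single l]
  · rw [Finset.sum_eq_single k]
    · rw [if_pos ⟨rfl, rfl⟩]
      ring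
    · intro b _ hb
      rw [if_neg (fun h => hb h.1.symm), mul_zero]
    · intro h
      exact absurd (Finset.mem_univ k) h
  · intro b _ hb
    rw [Finset.sum_eq_zero, zero_mul]
    intro x _
    rw [if_neg (fun h => hb h.2.symm), mul_zero]
  · intro h
    exact absurd (Finset.mem_univ l) h

theorem gemb_mul_eq (f g : κ → ι → K) {G B B' B'' : Matrix κ κ K} (hG : gram f g = G)
    (h : B + B' + B * G * B' = B'') : gemb f g B * gemb f g B' = gemb f g B'' := by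
  rw [gemb_mul, hG, h]

end gemb

/-! ### the action of the two elements on vectors and covectors -/

section action

variable {m : ℕ}

/-- the covector `e1ᵀ v0 v0` -/
def psi2 (K : Type*) [Field K] (m : ℕ) : Fin (m + 4) → K := psi1 K m ᵥ* v0 K (m + 4)

theorem e1_dot_e0 : (e (1 : Fin (m + 4)) : Fin (m + 4) → K) ⬝ᵥ (e (0 : Fin (m + 4))) = 0 := by
  rw [e_dot]
  simp [e]

theorem e0_dot_e0 : (e (0 : Fin (m + 4)) : Fin (m + 4) → K) ⬝ᵥ (e (0 : Fin (m + 4))) = 1 := by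
  rw [e_dot]
  simp [e]

theorem psi2_dot_e0 : psi2 K m ⬝ᵥ (e (0 : Fin (m + 4)) : Fin (m + 4) → K) = 0 := by
  unfold psi2
  rw [← Matrix.dotProduct_mulVec, v0_mulVec_e0 _ _ rfl, psi1_dot_e0]

theorem e0_dot_v0 (c : Fin (m + 4) → K) :
    (e (0 : Fin (m + 4)) : Fin (m + 4) → K) ⬝ᵥ (v0 K (m + 4) *ᵥ c) = c 0 := by
  rw [Matrix.dotProduct_mulVec, e0_vecMul_v0 _ _ rfl, e_dot]

theorem e1_dot_v0 (c : Fin (m + 4) → K) :
    (e (1 : Fin (m + 4)) : Fin (m + 4) → K) ⬝ᵥ (v0 K (m + 4) *ᵥ c) = psi1 K m ⬝ᵥ c := by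
  rw [Matrix.dotProduct_mulVec]
  rfl

theorem psi1_dot_v0 (c : Fin (m + 4) → K) :
    psi1 K m ⬝ᵥ (v0 K (m + 4) *ᵥ c) = psi2 K m ⬝ᵥ c := by
  rw [Matrix.dotProduct_mulVec]
  rfl

theorem Xmat_mulVec (x : Fin (m + 4) → K) :
    Xmat K m *ᵥ x =
      v0 K (m + 4) *ᵥ x - (psi1 K m ⬝ᵥ x) • (e (0 : Fin (m + 4)) : Fin (m + 4) → K) := by
  unfold Xmat
  rw [← Matrix.mulVec_mulVec, MM_mulVec, neg_dotProduct, e1_dot_v0, neg_smul, sub_eq_add_neg]

theorem vecMul_Xmat (φ : Fin (m + 4) → K)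
    (hφ : φ ⬝ᵥ (e (0 : Fin (m + 4)) : Fin (m + 4) → K) = 0) :
    φ ᵥ* Xmat K m = φ ᵥ* v0 K (m + 4) := by
  unfold Xmat
  rw [← Matrix.vecMul_vecMul, vecMul_MM, hφ, zero_smul, add_zero]

theorem Ymat_mulVec (c x : Fin (m + 4) → K) (hx : x 0 = 0) :
    Ymat K m c *ᵥ x = v0 K (m + 4) *ᵥ x := by
  unfold Ymat
  rw [← Matrix.mulVec_mulVec, MM_mulVec, e_dot, hx, zero_smul, add_zero]

theorem vecMul_Ymat (c φ : Fin (m + 4) → K) (hφ : (φ ᵥ* v0 K (m + 4)) ⬝ᵥ c = 0) :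
    φ ᵥ* Ymat K m c = φ ᵥ* v0 K (m + 4) := by
  unfold Ymat
  rw [← Matrix.vecMul_vecMul, vecMul_MM, dotProduct_neg, hφ, neg_zero, zero_smul, add_zero]

/-- the matrix of `Ys⁻¹ Xs` -/
theorem W1_eq (c : Fin (m + 4) → K) (hc : c 0 = 0) :
    ((Ys c hc)⁻¹ * Xs K m).1 =
      MM c (e (0 : Fin (m + 4))) * MM (e (0 : Fin (m + 4))) (-(psi1 K m)) := by
  have h1 : (Ys c hc).1 * (MM c (e (0 : Fin (m + 4))) * MM (e (0 : Fin (m + 4))) (-(psi1 K m))) =
      (Xs K m).1 := by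
    show Ymat K m c * _ = Xmat K m
    unfold Ymat Xmat
    rw [Matrix.mul_assoc, ← Matrix.mul_assoc (MM (-c) _), MM_mul_same_axis _ _ _
      (by rw [e_dot]; exact hc), neg_add_cancel, MM_zero, Matrix.one_mul, mul_MM, MM_mul',
      v0_mulVec_e0 _ _ rfl, Matrix.neg_vecMul]
    rfl
  rw [val_mul, ← h1, ← Matrix.mul_assoc, val_inv_mul, Matrix.one_mul]

/-- the matrix of `Xs Ys⁻¹` -/
theorem W2_eq (c : Fin (m + 4) → K) (hc : c 0 = 0) :
    (Xs K m * (Ys c hc)⁻¹).1 =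
      MM (e (0 : Fin (m + 4))) (-(e (1 : Fin (m + 4)))) *
        MM (v0 K (m + 4) *ᵥ c) (e (0 : Fin (m + 4))) := by
  have h1 : (MM (e (0 : Fin (m + 4))) (-(e (1 : Fin (m + 4)))) *
        MM (v0 K (m + 4) *ᵥ c) (e (0 : Fin (m + 4)))) * (Ys c hc).1 = (Xs K m).1 := by
    show _ * Ymat K m c = Xmat K m
    unfold Ymat Xmat
    have h2 : MM (v0 K (m + 4) *ᵥ c) (e (0 : Fin (m + 4))) * v0 K (m + 4) =
        v0 K (m + 4) * MM c (e (0 : Fin (m + 4))) := by
      rw [MM_mul', mul_MM, e0_vecMul_v0 _ _ rfl]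
    rw [Matrix.mul_assoc, ← Matrix.mul_assoc (MM (v0 K (m + 4) *ᵥ c) _), h2,
      Matrix.mul_assoc (v0 K (m + 4)), MM_mul_same_axis _ _ _
      (by rw [e_dot, Pi.neg_apply, hc, neg_zero]), add_neg_cancel, MM_zero, Matrix.mul_one]
  rw [val_mul, ← h1, Matrix.mul_assoc, val_mul_inv, Matrix.mul_one]

end action

/-! ### the mechanism in odd characteristic -/

section odd

variable {m : ℕ}

/-- the family of vectors -/
def fam3 (c : Fin (m + 4) → K) : Fin 3 → Fin (m + 4) → K :=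
  ![e (0 : Fin (m + 4)), c, v0 K (m + 4) *ᵥ c]

/-- the family of covectors -/
def cofam3 (K : Type*) [Field K] (m : ℕ) : Fin 3 → Fin (m + 4) → K :=
  ![e (0 : Fin (m + 4)), psi1 K m, e (1 : Fin (m + 4))]

theorem gram3 (c : Fin (m + 4) → K) (hc : c 0 = 0) (s : K)
    (h1 : (e (1 : Fin (m + 4)) : Fin (m + 4) → K) ⬝ᵥ c = s) (h2 : psi1 K m ⬝ᵥ c = 1)
    (h3 : psi2 K m ⬝ᵥ c = 0) :
    gram (fam3 c) (cofam3 K m) = !![1, 0, 0; 0, 1, 0; 0, s, 1] := by
  have hc' : (e (0 : Fin (m + 4)) : Fin (m + 4) → K) ⬝ᵥ c = 0 := by rw [e_dot]; exact hc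
  have hc'' : (e (0 : Fin (m + 4)) : Fin (m + 4) → K) ⬝ᵥ (v0 K (m + 4) *ᵥ c) = 0 := by
    rw [e0_dot_v0]; exact hc
  ext i j
  fin_cases i <;> fin_cases j
  · exact e0_dot_e0
  · exact hc'
  · exact hc''
  · exact psi1_dot_e0
  · exact h2
  · exact (psi1_dot_v0 c).trans h3
  · exact e1_dot_e0
  · exact h1
  · exact (e1_dot_v0 c).trans h2

theorem odd_step1 (s : K) :
    (Matrix.single 1 0 1 + Matrix.single 0 1 (-1) +
      Matrix.single 1 0 1 * !![1, 0, 0; 0, 1, 0; 0, s, 1] * Matrix.single 0 1 (-1) :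
        Matrix (Fin 3) (Fin 3) K) = !![0, -1, 0; 1, -1, 0; 0, 0, 0] := by
  ext i j
  fin_cases i <;> fin_cases j <;>
    simp [Matrix.mul_apply, Fin.sum_univ_three, Matrix.single_apply]

theorem odd_step2 (s : K) :
    (Matrix.single 0 2 (-1) + Matrix.single 2 0 1 +
      Matrix.single 0 2 (-1) * !![1, 0, 0; 0, 1, 0; 0, s, 1] * Matrix.single 2 0 1 :
        Matrix (Fin 3) (Fin 3) K) = !![-1, 0, -1; 0, 0, 0; 1, 0, 0] := by
  ext i j
  fin_cases i <;> fin_cases j <;>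
    simp [Matrix.mul_apply, Fin.sum_univ_three, Matrix.single_apply]

theorem odd_step3 (s : K) :
    (!![0, -1, 0; 1, -1, 0; 0, 0, 0] + !![0, -1, 0; 1, -1, 0; 0, 0, 0] +
      !![0, -1, 0; 1, -1, 0; 0, 0, 0] * !![1, 0, 0; 0, 1, 0; 0, s, 1] *
        !![0, -1, 0; 1, -1, 0; 0, 0, 0] : Matrix (Fin 3) (Fin 3) K) =
      !![-1, -1, 0; 1, -2, 0; 0, 0, 0] := by
  ext i j
  fin_cases i <;> fin_cases j <;>
    simp [Matrix.mul_apply, Fin.sum_univ_three] <;> try ring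

theorem odd_step4 (s : K) :
    (!![-1, -1, 0; 1, -2, 0; 0, 0, 0] + !![0, -1, 0; 1, -1, 0; 0, 0, 0] +
      !![-1, -1, 0; 1, -2, 0; 0, 0, 0] * !![1, 0, 0; 0, 1, 0; 0, s, 1] *
        !![0, -1, 0; 1, -1, 0; 0, 0, 0] : Matrix (Fin 3) (Fin 3) K) =
      !![-2, 0, 0; 0, -2, 0; 0, 0, 0] := by
  ext i j
  fin_cases i <;> fin_cases j <;>
    simp [Matrix.mul_apply, Fin.sum_univ_three] <;> try ring

theorem odd_step5 (s : K) :
    (!![-1, 0, -1; 0, 0, 0; 1, 0, 0] + !![-1, 0, -1; 0, 0, 0; 1, 0, 0] +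
      !![-1, 0, -1; 0, 0, 0; 1, 0, 0] * !![1, 0, 0; 0, 1, 0; 0, s, 1] *
        !![-1, 0, -1; 0, 0, 0; 1, 0, 0] : Matrix (Fin 3) (Fin 3) K) =
      !![-2, 0, -1; 0, 0, 0; 1, 0, -1] := by
  ext i j
  fin_cases i <;> fin_cases j <;>
    simp [Matrix.mul_apply, Fin.sum_univ_three] <;> try ring

theorem odd_step6 (s : K) :
    (!![-2, 0, -1; 0, 0, 0; 1, 0, -1] + !![-1, 0, -1; 0, 0, 0; 1, 0, 0] +
      !![-2, 0, -1; 0, 0, 0; 1, 0, -1] * !![1, 0, 0; 0, 1, 0; 0, s, 1] *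
        !![-1, 0, -1; 0, 0, 0; 1, 0, 0] : Matrix (Fin 3) (Fin 3) K) =
      !![-2, 0, 0; 0, 0, 0; 0, 0, -2] := by
  ext i j
  fin_cases i <;> fin_cases j <;>
    simp [Matrix.mul_apply, Fin.sum_univ_three] <;> try ring

theorem odd_step7 (s : K) :
    (!![-2, 0, 0; 0, -2, 0; 0, 0, 0] + !![-2, 0, 0; 0, 0, 0; 0, 0, -2] +
      !![-2, 0, 0; 0, -2, 0; 0, 0, 0] * !![1, 0, 0; 0, 1, 0; 0, s, 1] *
        !![-2, 0, 0; 0, 0, 0; 0, 0, -2] : Matrix (Fin 3) (Fin 3) K) =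
      !![0, 0, 0; 0, -2, 0; 0, 0, -2] := by
  ext i j
  fin_cases i <;> fin_cases j <;>
    simp [Matrix.mul_apply, Fin.sum_univ_three] <;> try ring

theorem odd_step8 (s : K) :
    (!![0, 0, 0; 0, -2, 0; 0, 0, -2] + !![0, 0, 0; 0, -2, 0; 0, 0, -2] +
      !![0, 0, 0; 0, -2, 0; 0, 0, -2] * !![1, 0, 0; 0, 1, 0; 0, s, 1] *
        !![0, 0, 0; 0, -2, 0; 0, 0, -2] : Matrix (Fin 3) (Fin 3) K) =
      Matrix.single 2 1 (4 * s) := by
  ext i j
  fin_cases i <;> fin_cases j <;>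
    simp [Matrix.mul_apply, Fin.sum_univ_three, Matrix.single_apply] <;> try ring

/-- **the mechanism in odd characteristic** -/
theorem mech_odd (H : Subgroup (SpecialLinearGroup (Fin (m + 4)) K)) (c : Fin (m + 4) → K)
    (hc : c 0 = 0) (s : K)
    (h1 : (e (1 : Fin (m + 4)) : Fin (m + 4) → K) ⬝ᵥ c = s) (h2 : psi1 K m ⬝ᵥ c = 1)
    (h3 : psi2 K m ⬝ᵥ c = 0) (hX : Xs K m ∈ H) (hY : Ys c hc ∈ H) :
    InT H ((4 * s) • (e (0 : Fin (m + 4)) : Fin (m + 4) → K)) (psi2 K m) ∧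
      ∃ d : Fin (m + 4) → K, InT H d (psi1 K m) ∧
        (e (1 : Fin (m + 4)) : Fin (m + 4) → K) ⬝ᵥ d = 4 * s := by
  have hG := gram3 c hc s h1 h2 h3
  set f := fam3 c with hf
  set g := cofam3 K m with hg
  -- the two words
  have hw1 : ((Ys c hc)⁻¹ * Xs K m).1 = gemb f g !![0, -1, 0; 1, -1, 0; 0, 0, 0] := by
    rw [W1_eq]
    have e1 : MM c (e (0 : Fin (m + 4))) = gemb f g (Matrix.single 1 0 1) := by
      rw [gemb_single, one_smul]
      rfl
    have e2 : MM (e (0 : Fin (m + 4))) (-(psi1 K m)) = gemb f g (Matrix.single 0 1 (-1)) := by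
      rw [gemb_single, MM_smul_comm, neg_one_smul]
      rfl
    rw [e1, e2]
    exact gemb_mul_eq f g hG (odd_step1 s)
  have hw2 : (Xs K m * (Ys c hc)⁻¹).1 = gemb f g !![-1, 0, -1; 0, 0, 0; 1, 0, 0] := by
    rw [W2_eq]
    have e1 : MM (e (0 : Fin (m + 4))) (-(e (1 : Fin (m + 4)))) =
        gemb f g (Matrix.single 0 2 (-1)) := by
      rw [gemb_single, MM_smul_comm, neg_one_smul]
      rfl
    have e2 : MM (v0 K (m + 4) *ᵥ c) (e (0 : Fin (m + 4))) = gemb f g (Matrix.single 2 0 1) := by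
      rw [gemb_single, one_smul]
      rfl
    rw [e1, e2]
    exact gemb_mul_eq f g hG (odd_step2 s)
  have hw1H : (Ys c hc)⁻¹ * Xs K m ∈ H := H.mul_mem (H.inv_mem hY) hX
  have hw2H : Xs K m * (Ys c hc)⁻¹ ∈ H := H.mul_mem hX (H.inv_mem hY)
  set w1 := (Ys c hc)⁻¹ * Xs K m with hw1def
  set w2 := Xs K m * (Ys c hc)⁻¹ with hw2def
  have hc1 : (w1 * w1 * w1).1 = gemb f g !![-2, 0, 0; 0, -2, 0; 0, 0, 0] := by
    rw [val_mul, val_mul, hw1, gemb_mul_eq f g hG (odd_step3 s), gemb_mul_eq f g hG (odd_step4 s)]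
  have hc2 : (w2 * w2 * w2).1 = gemb f g !![-2, 0, 0; 0, 0, 0; 0, 0, -2] := by
    rw [val_mul, val_mul, hw2, gemb_mul_eq f g hG (odd_step5 s), gemb_mul_eq f g hG (odd_step6 s)]
  set t := (w1 * w1 * w1) * (w2 * w2 * w2) with htdef
  have ht : (t * t).1 = MM ((4 * s) • (v0 K (m + 4) *ᵥ c)) (psi1 K m) := by
    have h4 : t.1 = gemb f g !![0, 0, 0; 0, -2, 0; 0, 0, -2] := by
      rw [htdef, val_mul, hc1, hc2, gemb_mul_eq f g hG (odd_step7 s)]
    rw [val_mul, h4, gemb_mul_eq f g hG (odd_step8 s), gemb_single]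
    rfl
  have htH : t * t ∈ H := by
    have : t ∈ H := H.mul_mem (H.mul_mem (H.mul_mem hw1H hw1H) hw1H)
      (H.mul_mem (H.mul_mem hw2H hw2H) hw2H)
    exact H.mul_mem this this
  have hT : InT H ((4 * s) • (v0 K (m + 4) *ᵥ c)) (psi1 K m) := ⟨t * t, htH, ht⟩
  refine ⟨?_, (4 * s) • (v0 K (m + 4) *ᵥ c), hT, ?_⟩
  · -- conjugate by the two elements and subtract
    have hx : InT H ((4 * s) • (c + (e (0 : Fin (m + 4)) : Fin (m + 4) → K))) (psi2 K m) := by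
      refine InT_conj_inv hT hX ?_ ?_
      · show Xmat K m *ᵥ _ = _
        rw [Matrix.mulVec_smul, Xmat_mulVec, Matrix.mulVec_add, v0_mulVec_e0 _ _ rfl,
          dotProduct_add, h2, psi1_dot_e0, add_zero, one_smul, add_sub_cancel_right]
      · show psi1 K m ᵥ* Xmat K m = _
        rw [vecMul_Xmat _ psi1_dot_e0]
        rfl
    have hy : InT H ((4 * s) • c) (psi2 K m) := by
      refine InT_conj_inv hT hY ?_ ?_
      · show Ymat K m c *ᵥ _ = _
        rw [Matrix.mulVec_smul, Ymat_mulVec _ _ hc]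
      · show psi1 K m ᵥ* Ymat K m c = _
        rw [vecMul_Ymat _ _ h3]
        rfl
    have h5 := hx.sub hy
    rwa [← smul_sub, add_sub_cancel_left] at h5
  · rw [dotProduct_smul, e1_dot_v0, h2, smul_eq_mul, mul_one]

end odd

/-! ### the mechanism in characteristic two -/

section even

variable {m : ℕ}

/-- the element with matrix `v0` -/
def V0s (K : Type*) [Field K] (m : ℕ) : SpecialLinearGroup (Fin (m + 4)) K :=
  ⟨v0 K (m + 4), det_v0 (m + 4)⟩

/-- the family of vectors -/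
def fam2 (c : Fin (m + 4) → K) : Fin 2 → Fin (m + 4) → K :=
  ![e (0 : Fin (m + 4)), c]

/-- the family of covectors -/
def cofam2 (K : Type*) [Field K] (m : ℕ) : Fin 2 → Fin (m + 4) → K :=
  ![e (0 : Fin (m + 4)), psi1 K m]

theorem gram2 (c : Fin (m + 4) → K) (hc : c 0 = 0) (h2 : psi1 K m ⬝ᵥ c = 0) :
    gram (fam2 c) (cofam2 K m) = !![1, 0; 0, 0] := by
  have hc' : (e (0 : Fin (m + 4)) : Fin (m + 4) → K) ⬝ᵥ c = 0 := by rw [e_dot]; exact hc
  ext i j
  fin_cases i <;> fin_cases j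
  · exact e0_dot_e0
  · exact hc'
  · exact psi1_dot_e0
  · exact h2

theorem even_step1 :
    (Matrix.single 1 0 1 + Matrix.single 0 1 (-1) +
      Matrix.single 1 0 1 * !![1, 0; 0, 0] * Matrix.single 0 1 (-1) :
        Matrix (Fin 2) (Fin 2) K) = !![0, -1; 1, -1] := by
  ext i j
  fin_cases i <;> fin_cases j <;>
    simp [Matrix.mul_apply, Fin.sum_univ_two, Matrix.single_apply]

theorem even_step2 (hchar : (2 : K) = 0) :
    (!![0, -1; 1, -1] + !![0, -1; 1, -1] + !![0, -1; 1, -1] * !![1, 0; 0, 0] * !![0, -1; 1, -1] :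
        Matrix (Fin 2) (Fin 2) K) = Matrix.single 1 1 1 := by
  ext i j
  fin_cases i <;> fin_cases j <;>
    simp [Matrix.mul_apply, Fin.sum_univ_two, Matrix.single_apply]
  · linear_combination (-1 : K) * hchar
  · linear_combination hchar
  · linear_combination (-2 : K) * hchar

/-- **the mechanism in characteristic two** -/
theorem mech_even (hchar : (2 : K) = 0)
    (H : Subgroup (SpecialLinearGroup (Fin (m + 4)) K)) (c : Fin (m + 4) → K)
    (hc : c 0 = 0) (s : K)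
    (h1 : (e (1 : Fin (m + 4)) : Fin (m + 4) → K) ⬝ᵥ c = s) (h2 : psi1 K m ⬝ᵥ c = 0)
    (h3 : psi2 K m ⬝ᵥ c = 0) (hX : Xs K m ∈ H) (hY : Ys c hc ∈ H) :
    InT H (s • (e (0 : Fin (m + 4)) : Fin (m + 4) → K)) (psi2 K m) ∧
      ∃ d : Fin (m + 4) → K, InT H d (psi1 K m) ∧
        (e (1 : Fin (m + 4)) : Fin (m + 4) → K) ⬝ᵥ d = s := by
  have hG := gram2 c hc h2
  set f := fam2 c with hf
  set g := cofam2 K m with hg
  have hw1 : ((Ys c hc)⁻¹ * Xs K m).1 = gemb f g !![0, -1; 1, -1] := by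
    rw [W1_eq]
    have e1 : MM c (e (0 : Fin (m + 4))) = gemb f g (Matrix.single 1 0 1) := by
      rw [gemb_single, one_smul]
      rfl
    have e2 : MM (e (0 : Fin (m + 4))) (-(psi1 K m)) = gemb f g (Matrix.single 0 1 (-1)) := by
      rw [gemb_single, MM_smul_comm, neg_one_smul]
      rfl
    rw [e1, e2]
    exact gemb_mul_eq f g hG even_step1
  have hw1H : (Ys c hc)⁻¹ * Xs K m ∈ H := H.mul_mem (H.inv_mem hY) hX
  set w1 := (Ys c hc)⁻¹ * Xs K m with hw1def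
  have ht : (w1 * w1).1 = MM c (psi1 K m) := by
    rw [val_mul, hw1, gemb_mul_eq f g hG (even_step2 hchar), gemb_single, one_smul]
    rfl
  have hT : InT H c (psi1 K m) := ⟨w1 * w1, H.mul_mem hw1H hw1H, ht⟩
  refine ⟨?_, c, hT, h1⟩
  -- the vector `c0` with `v0 c0 = c`
  set c0 : Fin (m + 4) → K := ((V0s K m)⁻¹).1 *ᵥ c with hc0def
  have hv : v0 K (m + 4) *ᵥ c0 = c := by
    have : (V0s K m).1 *ᵥ c0 = c := by
      rw [hc0def, Matrix.mulVec_mulVec, val_mul_inv, Matrix.one_mulVec]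
    exact this
  have hc00 : c0 0 = 0 := by
    have h4 : (e (0 : Fin (m + 4)) : Fin (m + 4) → K) ᵥ* ((V0s K m)⁻¹).1 = e (0 : Fin (m + 4)) :=
      vecMul_inv_of (show (e (0 : Fin (m + 4)) : Fin (m + 4) → K) ᵥ* (V0s K m).1 = _ from
        e0_vecMul_v0 _ _ rfl)
    rw [← e_dot (0 : Fin (m + 4)) c0, hc0def, Matrix.dotProduct_mulVec, h4, e_dot]
    exact hc
  have hp : psi1 K m ⬝ᵥ c0 = s := by
    rw [← e1_dot_v0, hv]
    exact h1
  have hx : InT H (c0 + s • (e (0 : Fin (m + 4)) : Fin (m + 4) → K)) (psi2 K m) := by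
    refine InT_conj_inv hT hX ?_ ?_
    · show Xmat K m *ᵥ _ = _
      rw [Xmat_mulVec, Matrix.mulVec_add, Matrix.mulVec_smul, v0_mulVec_e0 _ _ rfl, hv,
        dotProduct_add, dotProduct_smul, hp, psi1_dot_e0, smul_zero, add_zero,
        add_sub_cancel_right]
    · show psi1 K m ᵥ* Xmat K m = _
      rw [vecMul_Xmat _ psi1_dot_e0]
      rfl
  have hy : InT H c0 (psi2 K m) := by
    refine InT_conj_inv hT hY ?_ ?_
    · show Ymat K m c *ᵥ _ = _
      rw [Ymat_mulVec _ _ hc00, hv]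
    · show psi1 K m ᵥ* Ymat K m c = _
      rw [vecMul_Ymat _ _ h3]
      rfl
  have h5 := hx.sub hy
  rwa [add_sub_cancel_left] at h5

end even

end Cfsg.Agent.Lib.Helper5_RUB
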