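import Mathlib
import Cfsg.Agent.Lib.Helper5_RUB

/-!
# Two regular unipotent elements of `SL_n` : the endgame

Once the subgroup `H` generated by `Xs` and `Ys c` contains a transvection with centre `e 0` and a
second transvection with axis `psi1`, a bootstrap (using a hypothesis on the additive subgroups
of `K` stable under multiplication by `μ`) shows that `H` is everything.
-/

set_option autoImplicit false
set_option linter.unusedSectionVars false
set_option linter.unusedVariables false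
set_option linter.unusedSimpArgs false
set_option linter.unusedTactic false
set_option linter.unreachableTactic false
set_option linter.unnecessarySeqFocus false

namespace Cfsg.Agent.Lib.Helper5_RUC

open Matrix Cfsg.Agent.Lib.Helper83_TvCalc Cfsg.Agent.Lib.Helper83_SL3Pair
  Cfsg.Agent.Lib.Helper5_RUA Cfsg.Agent.Lib.Helper5_RUB

variable {K : Type*} [Field K]

section general

variable {ι : Type*} [Fintype ι] [DecidableEq ι] {H : Subgroup (SpecialLinearGroup ι K)}

theorem MM_axis_zero (c : ι → K) : MM c (0 : ι → K) = 1 := by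
  unfold MM
  rw [vecMulVec_zero, add_zero]

theorem InT_add_axis {c φ φ' : ι → K} (h : InT H c φ) (h' : InT H c φ') :
    InT H c (φ + φ') := by
  have hd := h.dot
  obtain ⟨g, hgH, hg⟩ := h
  obtain ⟨g', hgH', hg'⟩ := h'
  exact ⟨g * g', H.mul_mem hgH hgH', by rw [val_mul, hg, hg', MM_mul_same_centre _ _ _ hd]⟩

theorem InT_neg_axis {c φ : ι → K} (h : InT H c φ) : InT H c (-φ) := by
  have h1 := h.neg
  rw [← neg_one_smul K c, InT.smul_comm, neg_one_smul] at h1
  exact h1

theorem InT_sub_axis {c φ φ' : ι → K} (h : InT H c φ) (h' : InT H c φ') :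
    InT H c (φ - φ') := by
  rw [sub_eq_add_neg]
  exact InT_add_axis h (InT_neg_axis h')

theorem sum_smul_e (x : ι → K) : ∑ j, x j • (e j : ι → K) = x := by
  funext i
  rw [Finset.sum_apply]
  simp only [Pi.smul_apply, e, Pi.single_apply, smul_eq_mul, mul_ite, mul_one, mul_zero]
  rw [Finset.sum_ite_eq]
  simp

end general

/-- `e j ᵥ* N0 = e (j+1)` for `j ≠ 0` -/
theorem e_vecMul_N0 (n : ℕ) (j : Fin n) (hj : j.val ≠ 0) (hj' : j.val + 1 < n) :
    (e j : Fin n → K) ᵥ* N0 K n = e (⟨j.val + 1, hj'⟩ : Fin n) := by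
  funext l
  rw [vecMul_N0]
  simp only [e, Pi.single_apply]
  by_cases h : 2 ≤ l.val
  · rw [dif_pos h]
    by_cases h2 : l = ⟨j.val + 1, hj'⟩
    · rw [if_pos h2, if_pos]
      subst h2
      apply Fin.ext
      simp
    · rw [if_neg h2, if_neg]
      intro h3
      apply h2
      apply Fin.ext
      have := congrArg Fin.val h3
      simp only at this ⊢
      omega
  · rw [dif_neg h, if_neg]
    intro h3
    have := congrArg Fin.val h3
    simp only at this
    omega

/-- the shifted vector -/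
def shiftv {n : ℕ} (k : ℕ) (c : Fin n → K) : Fin n → K :=
  fun j => if h : j.val ≠ 0 ∧ j.val + k < n then c ⟨j.val + k, h.2⟩ else 0

theorem shiftv_zero {n : ℕ} (c : Fin n → K) (hc : ∀ i : Fin n, i.val = 0 → c i = 0) :
    shiftv 0 c = c := by
  funext j
  unfold shiftv
  by_cases h : j.val ≠ 0
  · rw [dif_pos ⟨h, by have := j.isLt; omega⟩]
    rfl
  · rw [dif_neg (fun h' => h h'.1)]
    exact (hc j (by omega)).symm

theorem shiftv_succ {n : ℕ} (k : ℕ) (c : Fin n → K) :
    shiftv (k + 1) c = N0 K n *ᵥ shiftv k c := by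
  funext j
  rw [N0_mulVec]
  unfold shiftv
  by_cases h : j.val ≠ 0 ∧ j.val + (k + 1) < n
  · rw [dif_pos h, dif_pos ⟨h.1, by omega⟩, dif_pos ⟨by simp, by simp only; omega⟩]
    congr 1
    apply Fin.ext
    simp only
    omega
  · rw [dif_neg h]
    by_cases h2 : j.val ≠ 0 ∧ j.val + 1 < n
    · rw [dif_pos h2, dif_neg]
      intro h3
      apply h
      refine ⟨h2.1, ?_⟩
      have := h3.2
      simp only at this
      omega
    · rw [dif_neg h2]

section endgame

variable {m : ℕ} {H : Subgroup (SpecialLinearGroup (Fin (m + 4)) K)}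

theorem Xmat_mulVec_e0 :
    Xmat K m *ᵥ (e (0 : Fin (m + 4)) : Fin (m + 4) → K) = e (0 : Fin (m + 4)) := by
  rw [Xmat_mulVec, v0_mulVec_e0 _ _ rfl, psi1_dot_e0, zero_smul, sub_zero]

theorem undo_v0 (hX : Xs K m ∈ H) {φ : Fin (m + 4) → K}
    (h : InT H (e (0 : Fin (m + 4))) (φ ᵥ* v0 K (m + 4))) : InT H (e (0 : Fin (m + 4))) φ := by
  have hd : φ ⬝ᵥ (e (0 : Fin (m + 4)) : Fin (m + 4) → K) = 0 := by
    have := h.dot
    rwa [← Matrix.dotProduct_mulVec, v0_mulVec_e0 _ _ rfl] at this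
  refine InT_conj h hX ?_ ?_
  · exact Xmat_mulVec_e0
  · exact vecMul_Xmat _ hd

theorem do_v0 (hX : Xs K m ∈ H) {φ : Fin (m + 4) → K}
    (h : InT H (e (0 : Fin (m + 4))) φ) : InT H (e (0 : Fin (m + 4))) (φ ᵥ* v0 K (m + 4)) := by
  refine InT_conj_inv h hX ?_ ?_
  · exact Xmat_mulVec_e0
  · exact vecMul_Xmat _ h.dot

theorem do_N0 (hX : Xs K m ∈ H) {φ : Fin (m + 4) → K}
    (h : InT H (e (0 : Fin (m + 4))) φ) : InT H (e (0 : Fin (m + 4))) (φ ᵥ* N0 K (m + 4)) := by
  have h1 := InT_sub_axis h (do_v0 hX h)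
  have h2 : φ - φ ᵥ* v0 K (m + 4) = φ ᵥ* N0 K (m + 4) := by
    unfold v0
    rw [Matrix.vecMul_sub, Matrix.vecMul_one, sub_sub_cancel]
  rwa [h2] at h1

/-- the first row is full, once the `(0,1)` root group is -/
theorem row_full (hX : Xs K m ∈ H)
    (h1 : ∀ a : K, InT H (e (0 : Fin (m + 4))) (a • (e (1 : Fin (m + 4)) : Fin (m + 4) → K))) :
    ∀ k : ℕ, ∀ hk : k + 1 < m + 4, ∀ a : K,
      InT H (e (0 : Fin (m + 4))) (a • (e (⟨k + 1, hk⟩ : Fin (m + 4)) : Fin (m + 4) → K))
  | 0, hk, a => h1 a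
  | k + 1, hk, a => by
    have h2 := do_N0 hX (row_full hX h1 k (by omega) a)
    rw [Matrix.smul_vecMul, e_vecMul_N0 _ _ (by simp) (by simpa using hk)] at h2
    exact h2

/-- the additive group of the `a` with `1 + a e0 e1ᵀ ∈ H` -/
def Aset (H : Subgroup (SpecialLinearGroup (Fin (m + 4)) K)) : AddSubgroup K where
  carrier := {a | InT H (a • (e (0 : Fin (m + 4)) : Fin (m + 4) → K)) (e (1 : Fin (m + 4)))}
  zero_mem' := by
    show InT H ((0 : K) • _) _
    rw [zero_smul]
    exact InT.zero _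
  add_mem' := by
    intro a b ha hb
    show InT H ((a + b) • _) _
    rw [add_smul]
    exact InT.add ha hb
  neg_mem' := by
    intro a ha
    show InT H ((-a) • _) _
    rw [neg_smul]
    exact InT.neg ha

theorem mem_Aset (a : K) :
    a ∈ Aset H ↔ InT H (e (0 : Fin (m + 4))) (a • (e (1 : Fin (m + 4)) : Fin (m + 4) → K)) :=
  InT.smul_comm

theorem A_top (hX : Xs K m ∈ H) (μ : K)
    (hgen : ∀ A : AddSubgroup K, μ ∈ A → (∀ x ∈ A, μ * x ∈ A) → A = ⊤)
    (hψ : InT H (μ • (e (0 : Fin (m + 4)) : Fin (m + 4) → K)) (psi2 K m))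
    (d : Fin (m + 4) → K) (hd : InT H d (psi1 K m))
    (hd1 : (e (1 : Fin (m + 4)) : Fin (m + 4) → K) ⬝ᵥ d = μ) (a : K) :
    InT H (e (0 : Fin (m + 4))) (a • (e (1 : Fin (m + 4)) : Fin (m + 4) → K)) := by
  have hA : Aset H = ⊤ := by
    apply hgen
    · rw [mem_Aset]
      have h1 := InT.smul_comm.1 hψ
      have h2 : μ • psi2 K m =
          ((μ • (e (1 : Fin (m + 4)) : Fin (m + 4) → K)) ᵥ* v0 K (m + 4)) ᵥ* v0 K (m + 4) := by
        rw [Matrix.smul_vecMul, Matrix.smul_vecMul]
        rfl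
      rw [h2] at h1
      exact undo_v0 hX (undo_v0 hX h1)
    · intro x hx
      rw [mem_Aset] at hx ⊢
      have h1 := InT.comm hd hx psi1_dot_e0
      rw [smul_dotProduct, hd1, smul_eq_mul, InT.smul_comm] at h1
      have h2 : (x * μ) • psi1 K m =
          ((μ * x) • (e (1 : Fin (m + 4)) : Fin (m + 4) → K)) ᵥ* v0 K (m + 4) := by
        rw [Matrix.smul_vecMul, mul_comm]
        rfl
      rw [h2] at h1
      exact undo_v0 hX h1
  rw [← mem_Aset, hA]
  exact AddSubgroup.mem_top a

theorem V0s_mem (hX : Xs K m ∈ H)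
    (h1 : InT H (e (0 : Fin (m + 4))) ((1 : K) • (e (1 : Fin (m + 4)) : Fin (m + 4) → K))) :
    V0s K m ∈ H := by
  rw [one_smul] at h1
  obtain ⟨g, hgH, hg⟩ := h1
  have h2 : V0s K m = g * Xs K m := by
    apply Subtype.ext
    show v0 K (m + 4) = g.1 * Xmat K m
    rw [hg]
    unfold Xmat
    rw [← Matrix.mul_assoc, MM_mul_same_centre _ _ _ e1_dot_e0, add_neg_cancel, MM_axis_zero,
      Matrix.one_mul]
  rw [h2]
  exact H.mul_mem hgH hX

theorem col_c (hV : V0s K m ∈ H) (c : Fin (m + 4) → K) (hc : c 0 = 0) (hY : Ys c hc ∈ H) :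
    InT H c (e (0 : Fin (m + 4))) := by
  have h1 : InT H (-c) (e (0 : Fin (m + 4))) := by
    refine ⟨(V0s K m)⁻¹ * Ys c hc, H.mul_mem (H.inv_mem hV) hY, ?_⟩
    rw [val_mul]
    show ((V0s K m)⁻¹).1 * (v0 K (m + 4) * MM (-c) (e (0 : Fin (m + 4)))) = _
    rw [← Matrix.mul_assoc]
    have : ((V0s K m)⁻¹).1 * v0 K (m + 4) = 1 := val_inv_mul (V0s K m)
    rw [this, Matrix.one_mul]
  have h2 := h1.neg
  rwa [neg_neg] at h2

theorem B_v0 (hV : V0s K m ∈ H) {x : Fin (m + 4) → K} (h : InT H x (e (0 : Fin (m + 4)))) :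
    InT H (v0 K (m + 4) *ᵥ x) (e (0 : Fin (m + 4))) :=
  InT_conj h hV rfl (e0_vecMul_v0 _ _ rfl)

theorem B_N0 (hV : V0s K m ∈ H) {x : Fin (m + 4) → K} (h : InT H x (e (0 : Fin (m + 4)))) :
    InT H (N0 K (m + 4) *ᵥ x) (e (0 : Fin (m + 4))) := by
  have h1 := h.sub (B_v0 hV h)
  have h2 : x - v0 K (m + 4) *ᵥ x = N0 K (m + 4) *ᵥ x := by
    unfold v0
    rw [Matrix.sub_mulVec, Matrix.one_mulVec, sub_sub_cancel]
  rwa [h2] at h1

theorem B_shift (hV : V0s K m ∈ H) {x : Fin (m + 4) → K} (h : InT H x (e (0 : Fin (m + 4))))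
    (k : ℕ) : InT H (shiftv k x) (e (0 : Fin (m + 4))) := by
  induction k with
  | zero =>
    rw [shiftv_zero]
    · exact h
    · intro i hi
      have h1 := h.dot
      rw [e_dot] at h1
      have : i = 0 := Fin.ext hi
      rw [this]
      exact h1
  | succ k ih =>
    rw [shiftv_succ]
    exact B_N0 hV ih

/-- scaling inside the column group -/
theorem B_scale {x x' : Fin (m + 4) → K} (hx : InT H x (e (0 : Fin (m + 4))))
    (hx' : InT H x' (e (0 : Fin (m + 4)))) (j : Fin (m + 4)) (a : K)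
    (hrow : InT H (e (0 : Fin (m + 4))) (a • (e j : Fin (m + 4) → K))) (hxj : x j = 0) :
    InT H ((a * x' j) • x) (e (0 : Fin (m + 4))) := by
  have h0 : (a • (e j : Fin (m + 4) → K)) ⬝ᵥ x = 0 := by
    rw [smul_dotProduct, e_dot, hxj, smul_zero]
  have h1 := InT.comm hrow hx h0
  rw [e0_dot_e0, one_smul] at h1
  have h2 := InT.comm hx' h1 hx.dot
  rwa [smul_dotProduct, e_dot, smul_eq_mul] at h2

theorem shiftv_apply {n : ℕ} (k : ℕ) (c : Fin n → K) (j : Fin n) :
    shiftv k c j = if h : j.val ≠ 0 ∧ j.val + k < n then c ⟨j.val + k, h.2⟩ else 0 := rfl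

theorem col_scale (hV : V0s K m ∈ H) (c : Fin (m + 4) → K)
    (hcH : InT H c (e (0 : Fin (m + 4)))) (htop : c (Fin.last (m + 3)) ≠ 0)
    (hrow : ∀ k : ℕ, ∀ hk : k + 1 < m + 4, ∀ a : K,
      InT H (e (0 : Fin (m + 4))) (a • (e (⟨k + 1, hk⟩ : Fin (m + 4)) : Fin (m + 4) → K)))
    (idx : Fin (m + 4)) (t : ℕ) (ht : t + 1 < m + 4) (hne : idx ≠ ⟨t + 1, ht⟩)
    (h1 : InT H (c (Fin.last (m + 3)) • (e idx : Fin (m + 4) → K)) (e (0 : Fin (m + 4))))
    (a : K) : InT H (a • (e idx : Fin (m + 4) → K)) (e (0 : Fin (m + 4))) := by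
  set ω := c (Fin.last (m + 3)) with hω
  have hx'H := B_shift hV hcH (m + 2 - t)
  have hx'j : shiftv (m + 2 - t) c (⟨t + 1, ht⟩ : Fin (m + 4)) = ω := by
    rw [shiftv_apply, dif_pos ⟨by simp, by simp only; omega⟩]
    rw [hω]
    congr 1
    apply Fin.ext
    simp only [Fin.val_last]
    omega
  have hz : (ω • (e idx : Fin (m + 4) → K)) (⟨t + 1, ht⟩ : Fin (m + 4)) = 0 := by
    have h5 : (e idx : Fin (m + 4) → K) (⟨t + 1, ht⟩ : Fin (m + 4)) = 0 :=
      Pi.single_eq_of_ne (Ne.symm hne) _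
    rw [Pi.smul_apply, h5, smul_zero]
  have h2 := B_scale h1 hx'H ⟨t + 1, ht⟩ (a / (ω * ω)) (hrow t ht _) hz
  rw [hx'j, smul_smul] at h2
  have h3 : a / (ω * ω) * ω * ω = a := by
    field_simp
  rwa [h3] at h2

/-- the column group is full -/
theorem col_full (hV : V0s K m ∈ H) (c : Fin (m + 4) → K)
    (hcH : InT H c (e (0 : Fin (m + 4)))) (htop : c (Fin.last (m + 3)) ≠ 0)
    (hrow : ∀ k : ℕ, ∀ hk : k + 1 < m + 4, ∀ a : K,
      InT H (e (0 : Fin (m + 4))) (a • (e (⟨k + 1, hk⟩ : Fin (m + 4)) : Fin (m + 4) → K))) :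
    ∀ i : ℕ, ∀ hi : i + 1 < m + 4, ∀ a : K,
      InT H (a • (e (⟨i + 1, hi⟩ : Fin (m + 4)) : Fin (m + 4) → K)) (e (0 : Fin (m + 4))) := by
  intro i
  induction i using Nat.strong_induction_on with
  | _ i ih =>
    intro hi a
    set ω := c (Fin.last (m + 3)) with hω
    set idx : Fin (m + 4) := ⟨i + 1, hi⟩ with hidx
    set u := shiftv (m + 2 - i) c with hu
    have huH : InT H u (e (0 : Fin (m + 4))) := B_shift hV hcH _
    have hu_idx : u idx = ω := by
      rw [hu, shiftv_apply, dif_pos ⟨by simp [hidx], by simp only [hidx]; omega⟩, hω]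
      congr 1
      apply Fin.ext
      simp only [hidx, Fin.val_last]
      omega
    have hu_big : ∀ j : Fin (m + 4), i + 1 < j.val → u j = 0 := by
      intro j hj
      rw [hu, shiftv_apply, dif_neg]
      intro h
      omega
    have hu_zero : ∀ j : Fin (m + 4), j.val = 0 → u j = 0 := by
      intro j hj
      rw [hu, shiftv_apply, dif_neg]
      intro h
      exact h.1 hj
    have h1 : InT H (ω • (e idx : Fin (m + 4) → K)) (e (0 : Fin (m + 4))) := by
      have hsum := sum_smul_e u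
      rw [← Finset.add_sum_erase Finset.univ _ (Finset.mem_univ idx)] at hsum
      have h2 : InT H (∑ j ∈ Finset.univ.erase idx, u j • (e j : Fin (m + 4) → K))
          (e (0 : Fin (m + 4))) := by
        apply InT.sum
        intro j hj
        have hne : j ≠ idx := Finset.ne_of_mem_erase hj
        by_cases hj0 : j.val = 0
        · rw [hu_zero j hj0, zero_smul]
          exact InT.zero _
        by_cases hjb : i + 1 < j.val
        · rw [hu_big j hjb, zero_smul]
          exact InT.zero _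
        · have hjlt : j.val - 1 < i := by
            have : j.val ≠ i + 1 := fun h => hne (Fin.ext h)
            omega
          have h4 := ih (j.val - 1) hjlt (by omega) (u j)
          have hj' : (⟨j.val - 1 + 1, by omega⟩ : Fin (m + 4)) = j := Fin.ext (by
            simp only
            omega)
          rwa [hj'] at h4
      have h3 : ω • (e idx : Fin (m + 4) → K) =
          u - ∑ j ∈ Finset.univ.erase idx, u j • (e j : Fin (m + 4) → K) := by
        rw [eq_sub_iff_add_eq, ← hu_idx]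
        exact hsum
      rw [h3]
      exact huH.sub h2
    by_cases hi0 : i = 0
    · refine col_scale hV c hcH htop hrow idx 1 (by omega) ?_ h1 a
      intro h
      have := congrArg Fin.val h
      simp only [hidx] at this
      omega
    · refine col_scale hV c hcH htop hrow idx 0 (by omega) ?_ h1 a
      intro h
      have := congrArg Fin.val h
      simp only [hidx] at this
      omega

/-- **the endgame** -/
theorem endgame (c : Fin (m + 4) → K) (hc : c 0 = 0) (htop : c (Fin.last (m + 3)) ≠ 0)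
    (hX : Xs K m ∈ H) (hY : Ys c hc ∈ H) (μ : K)
    (hgen : ∀ A : AddSubgroup K, μ ∈ A → (∀ x ∈ A, μ * x ∈ A) → A = ⊤)
    (hψ : InT H (μ • (e (0 : Fin (m + 4)) : Fin (m + 4) → K)) (psi2 K m))
    (d : Fin (m + 4) → K) (hd : InT H d (psi1 K m))
    (hd1 : (e (1 : Fin (m + 4)) : Fin (m + 4) → K) ⬝ᵥ d = μ) : H = ⊤ := by
  have hA := A_top hX μ hgen hψ d hd hd1
  have hrow := row_full hX hA
  have hV := V0s_mem hX (hA 1)
  have hcH := col_c hV c hc hY
  have hcol := col_full hV c hcH htop hrow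
  have hrow' : ∀ j : Fin (m + 4), j ≠ 0 → ∀ a : K,
      InT H (e (0 : Fin (m + 4))) (a • (e j : Fin (m + 4) → K)) := by
    intro j hj a
    have hj0 : j.val ≠ 0 := fun h => hj (Fin.ext h)
    have h4 := hrow (j.val - 1) (by have := j.isLt; omega) a
    have hj' : (⟨j.val - 1 + 1, by have := j.isLt; omega⟩ : Fin (m + 4)) = j := Fin.ext (by
      simp only
      omega)
    rwa [hj'] at h4
  have hcol' : ∀ j : Fin (m + 4), j ≠ 0 → ∀ a : K,
      InT H (a • (e j : Fin (m + 4) → K)) (e (0 : Fin (m + 4))) := by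
    intro j hj a
    have hj0 : j.val ≠ 0 := fun h => hj (Fin.ext h)
    have h4 := hcol (j.val - 1) (by have := j.isLt; omega) a
    have hj' : (⟨j.val - 1 + 1, by have := j.isLt; omega⟩ : Fin (m + 4)) = j := Fin.ext (by
      simp only
      omega)
    rwa [hj'] at h4
  apply eq_top_of_qfull
  intro j
  by_cases hj : j = 0
  · subst hj
    intro x hx
    rw [e_dot] at hx
    rw [← sum_smul_e x]
    apply InT.sum
    intro i _
    by_cases hi : i = 0
    · subst hi
      rw [hx, zero_smul]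
      exact InT.zero _
    · exact hcol' i hi (x i)
  · intro x hx
    rw [e_dot] at hx
    rw [← sum_smul_e x]
    apply InT.sum
    intro i _
    by_cases hi : i = 0
    · subst hi
      rw [InT.smul_comm]
      exact hrow' j hj (x 0)
    · by_cases hij : i = j
      · subst hij
        rw [hx, zero_smul]
        exact InT.zero _
      · have h1 := hrow' j hj 1
        rw [one_smul] at h1
        have h2 := hcol' i hi (x i)
        have h0 : (e j : Fin (m + 4) → K) ⬝ᵥ (x i • (e i : Fin (m + 4) → K)) = 0 := by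
          have h5 : (e i : Fin (m + 4) → K) j = 0 := Pi.single_eq_of_ne (Ne.symm hij) _
          rw [dotProduct_smul, e_dot, h5, smul_zero]
        have h3 := InT.comm h1 h2 h0
        rwa [e0_dot_e0, one_smul] at h3

end endgame

end Cfsg.Agent.Lib.Helper5_RUC
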