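import Mathlib
import Cfsg.Agent.Lib.Helper5_RUC

/-!
# Two regular unipotent elements of `SL_n` : the conjugating element

For a vector `c` whose last coordinate is `(-1)^(n-1)` the two elements `Xs` and `Ys c` are
conjugate in `SL_n`; we write down the conjugating matrix by its columns.
-/

set_option autoImplicit false
set_option linter.unusedSectionVars false
set_option linter.unusedVariables false
set_option linter.unusedSimpArgs false
set_option linter.unusedTactic false
set_option linter.unreachableTactic false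
set_option linter.unnecessarySeqFocus false

namespace Cfsg.Agent.Lib.Helper5_RUD

open Matrix Cfsg.Agent.Lib.Helper83_TvCalc Cfsg.Agent.Lib.Helper83_SL3Pair
  Cfsg.Agent.Lib.Helper5_RUA Cfsg.Agent.Lib.Helper5_RUB Cfsg.Agent.Lib.Helper5_RUC

variable {K : Type*} [Field K]

theorem mat_ext_cols {ι : Type*} [Fintype ι] [DecidableEq ι] {A B : Matrix ι ι K}
    (h : ∀ j, A *ᵥ (e j : ι → K) = B *ᵥ (e j : ι → K)) : A = B := by
  ext i j
  have h1 := congrFun (h j) i
  rwa [Matrix.mulVec_single_one, Matrix.mulVec_single_one] at h1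

/-- `N0 *ᵥ e j` -/
theorem N0_mulVec_e (n : ℕ) (j : Fin n) (hj : 2 ≤ j.val) :
    N0 K n *ᵥ (e j : Fin n → K) = e (⟨j.val - 1, by have := j.isLt; omega⟩ : Fin n) := by
  funext i
  rw [N0_mulVec]
  by_cases h : i.val ≠ 0 ∧ i.val + 1 < n
  · rw [dif_pos h]
    by_cases h2 : i.val + 1 = j.val
    · have e1 : (⟨i.val + 1, h.2⟩ : Fin n) = j := Fin.ext h2
      have e2 : (⟨j.val - 1, by have := j.isLt; omega⟩ : Fin n) = i := Fin.ext (by
        simp only
        omega)
      rw [e1, e2]
      simp [e]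
    · have e1 : (⟨i.val + 1, h.2⟩ : Fin n) ≠ j := fun h3 => h2 (congrArg Fin.val h3)
      have e2 : i ≠ (⟨j.val - 1, by have := j.isLt; omega⟩ : Fin n) := by
        intro h3
        have := congrArg Fin.val h3
        simp only at this
        omega
      have h5 : (e j : Fin n → K) (⟨i.val + 1, h.2⟩ : Fin n) = 0 := Pi.single_eq_of_ne e1 _
      have h6 : (e (⟨j.val - 1, by have := j.isLt; omega⟩ : Fin n) : Fin n → K) i = 0 :=
        Pi.single_eq_of_ne e2 _
      rw [h5, h6]
  · rw [dif_neg h]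
    have e2 : i ≠ (⟨j.val - 1, by have := j.isLt; omega⟩ : Fin n) := by
      intro h3
      have := congrArg Fin.val h3
      simp only at this
      apply h
      have := j.isLt
      omega
    have h6 : (e (⟨j.val - 1, by have := j.isLt; omega⟩ : Fin n) : Fin n → K) i = 0 :=
      Pi.single_eq_of_ne e2 _
    rw [h6]

theorem N0_mulVec_e1 (n : ℕ) (j : Fin n) (hj : j.val < 2) :
    N0 K n *ᵥ (e j : Fin n → K) = 0 := by
  funext i
  rw [N0_mulVec]
  by_cases h : i.val ≠ 0 ∧ i.val + 1 < n
  · rw [dif_pos h]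
    have e1 : (⟨i.val + 1, h.2⟩ : Fin n) ≠ j := by
      intro h3
      have := congrArg Fin.val h3
      simp only at this
      omega
    exact Pi.single_eq_of_ne e1 _
  · rw [dif_neg h]
    rfl

section conj

variable {m : ℕ}

/-- the matrix `v0 (1 - e0 e1ᵀ)`, conjugate to `Xmat` under `v0` -/
def X0mat (K : Type*) [Field K] (m : ℕ) : Matrix (Fin (m + 4)) (Fin (m + 4)) K :=
  v0 K (m + 4) * MM (e (0 : Fin (m + 4))) (-(e (1 : Fin (m + 4))))

theorem X0mat_mulVec (x : Fin (m + 4) → K) :
    X0mat K m *ᵥ x = v0 K (m + 4) *ᵥ x - x 1 • (e (0 : Fin (m + 4)) : Fin (m + 4) → K) := by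
  unfold X0mat
  rw [← Matrix.mulVec_mulVec, MM_mulVec, neg_dotProduct, e_dot, Matrix.mulVec_add,
    Matrix.mulVec_smul, v0_mulVec_e0 _ _ rfl, neg_smul, sub_eq_add_neg]

theorem X0mat_mulVec_e0 :
    X0mat K m *ᵥ (e (0 : Fin (m + 4)) : Fin (m + 4) → K) = e (0 : Fin (m + 4)) := by
  rw [X0mat_mulVec, v0_mulVec_e0 _ _ rfl]
  have h5 : (e (0 : Fin (m + 4)) : Fin (m + 4) → K) 1 = 0 :=
    Pi.single_eq_of_ne (by
      intro h
      have := congrArg Fin.val h
      simp at this) _
  rw [h5, zero_smul, sub_zero]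

theorem X0mat_mulVec_e (j : Fin (m + 4)) (hj : j.val ≠ 0) :
    X0mat K m *ᵥ (e j : Fin (m + 4) → K) =
      e j - e (⟨j.val - 1, by have := j.isLt; omega⟩ : Fin (m + 4)) := by
  rw [X0mat_mulVec]
  unfold v0
  rw [Matrix.sub_mulVec, Matrix.one_mulVec]
  by_cases h2 : 2 ≤ j.val
  · rw [N0_mulVec_e _ _ h2]
    have h5 : (e j : Fin (m + 4) → K) 1 = 0 :=
      Pi.single_eq_of_ne (by
        intro h
        have := congrArg Fin.val h
        have h11 : ((1 : Fin (m + 4)).val) = 1 := rfl
        rw [h11] at this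
        omega) _
    rw [h5, zero_smul, sub_zero]
  · have hj1 : j = 1 := by
      apply Fin.ext
      have h11 : ((1 : Fin (m + 4)).val) = 1 := rfl
      rw [h11]
      omega
    rw [N0_mulVec_e1 _ _ (by omega), sub_zero]
    subst hj1
    have h5 : (e (1 : Fin (m + 4)) : Fin (m + 4) → K) 1 = 1 := Pi.single_eq_same _ _
    rw [h5, one_smul]
    rfl

/-- the column `j` of the conjugating matrix -/
def colG (ε : K) (w : Fin (m + 4) → K) (j : Fin (m + 4)) : Fin (m + 4) → K :=
  if j.val = m + 3 then ε • (e (0 : Fin (m + 4)) : Fin (m + 4) → K)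
  else ε • shiftv (m + 2 - j.val) w

/-- the conjugating matrix -/
def G0mat (ε : K) (w : Fin (m + 4) → K) : Matrix (Fin (m + 4)) (Fin (m + 4)) K :=
  Matrix.of fun i j => colG ε w j i

theorem G0mat_mulVec_e (ε : K) (w : Fin (m + 4) → K) (j : Fin (m + 4)) :
    G0mat ε w *ᵥ (e j : Fin (m + 4) → K) = colG ε w j := by
  rw [Matrix.mulVec_single_one]
  rfl

theorem shiftv_top (w : Fin (m + 4) → K) : shiftv (m + 3) w = 0 := by
  funext i
  rw [shiftv_apply, dif_neg]
  · rfl
  · intro h
    omega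

theorem colG_zero (ε : K) (w : Fin (m + 4) → K) (j : Fin (m + 4)) (hj : j.val ≠ m + 3) :
    colG ε w j 0 = 0 := by
  unfold colG
  rw [if_neg hj, Pi.smul_apply, shiftv_apply, dif_neg (by simp), smul_zero]

/-- the intertwining relation -/
theorem G0mat_mul (ε : K) (c2 : Fin (m + 4) → K) (hc2 : c2 0 = 0) :
    G0mat ε (v0 K (m + 4) *ᵥ c2) * X0mat K m = Ymat K m c2 * G0mat ε (v0 K (m + 4) *ᵥ c2) := by
  set w := v0 K (m + 4) *ᵥ c2 with hw
  have hw0 : w 0 = 0 := by
    have h1 := e0_dot_v0 c2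
    rw [e_dot, hc2] at h1
    exact h1
  apply mat_ext_cols
  intro j
  rw [← Matrix.mulVec_mulVec, ← Matrix.mulVec_mulVec, G0mat_mulVec_e]
  by_cases hj0 : j.val = 0
  · have hj : j = 0 := Fin.ext hj0
    subst hj
    rw [X0mat_mulVec_e0, G0mat_mulVec_e]
    have h1 : colG ε w (0 : Fin (m + 4)) = ε • shiftv (m + 2) w := by
      unfold colG
      rw [if_neg (by simp)]
      rfl
    rw [h1, Ymat_mulVec _ _ (by rw [Pi.smul_apply, shiftv_apply, dif_neg (by simp), smul_zero])]
    unfold v0
    rw [Matrix.sub_mulVec, Matrix.one_mulVec, Matrix.mulVec_smul, ← shiftv_succ]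
    have : m + 2 + 1 = m + 3 := rfl
    rw [this, shiftv_top, smul_zero, sub_zero]
  · rw [X0mat_mulVec_e _ hj0, Matrix.mulVec_sub, G0mat_mulVec_e, G0mat_mulVec_e]
    by_cases hjt : j.val = m + 3
    · -- the last column
      have h1 : colG ε w j = ε • (e (0 : Fin (m + 4)) : Fin (m + 4) → K) := by
        unfold colG
        rw [if_pos hjt]
      have h2 : colG ε w (⟨j.val - 1, by have := j.isLt; omega⟩ : Fin (m + 4)) = ε • w := by
        unfold colG
        rw [if_neg (by simp only; omega)]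
        have : m + 2 - (j.val - 1) = 0 := by omega
        simp only [this]
        rw [shiftv_zero]
        intro i hi
        have : i = 0 := Fin.ext hi
        rw [this]
        exact hw0
      rw [h1, h2]
      unfold Ymat
      rw [← Matrix.mulVec_mulVec, MM_mulVec, dotProduct_smul, e0_dot_e0, Matrix.mulVec_add,
        Matrix.mulVec_smul, Matrix.mulVec_smul, v0_mulVec_e0 _ _ rfl, Matrix.mulVec_neg, ← hw,
        smul_eq_mul, mul_one, smul_neg, sub_eq_add_neg]
    · have hjlt : j.val < m + 3 := by have := j.isLt; omega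
      have h1 : colG ε w j = ε • shiftv (m + 2 - j.val) w := by
        unfold colG
        rw [if_neg hjt]
      have h2 : colG ε w (⟨j.val - 1, by have := j.isLt; omega⟩ : Fin (m + 4)) =
          ε • shiftv (m + 2 - j.val + 1) w := by
        unfold colG
        rw [if_neg (by simp only; omega)]
        have : m + 2 - (j.val - 1) = m + 2 - j.val + 1 := by omega
        simp only [this]
      rw [h1, h2, Ymat_mulVec _ _ (by rw [Pi.smul_apply, shiftv_apply, dif_neg (by simp),
        smul_zero])]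
      unfold v0
      rw [Matrix.sub_mulVec, Matrix.one_mulVec, Matrix.mulVec_smul, ← shiftv_succ]

theorem det_G0mat (ε : K) (w : Fin (m + 4) → K) (hε : ε = (-1) ^ (m + 3))
    (hwtop : w (Fin.last (m + 3)) = ε) : (G0mat ε w).det = 1 := by
  have hεε : ε * ε = 1 := by
    rw [hε, ← pow_add]
    exact Even.neg_one_pow ⟨m + 3, rfl⟩
  rw [Matrix.det_succ_row_zero, Finset.sum_eq_single (Fin.last (m + 3))]
  · rw [Fin.succAbove_last]
    have h1 : G0mat ε w 0 (Fin.last (m + 3)) = ε := by
      show colG ε w (Fin.last (m + 3)) 0 = ε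
      unfold colG
      rw [if_pos (by simp), Pi.smul_apply]
      have h5 : (e (0 : Fin (m + 4)) : Fin (m + 4) → K) 0 = 1 := Pi.single_eq_same _ _
      rw [h5, smul_eq_mul, mul_one]
    have h2 : ((G0mat ε w).submatrix Fin.succ Fin.castSucc).det = 1 := by
      rw [Matrix.det_of_isUpperTriangular]
      · apply Finset.prod_eq_one
        intro i _
        show colG ε w i.castSucc i.succ = 1
        unfold colG
        have hi := i.isLt
        rw [if_neg (by simp only [Fin.val_castSucc]; omega), Pi.smul_apply, shiftv_apply,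
          dif_pos ⟨by simp, by simp only [Fin.val_succ, Fin.val_castSucc]; omega⟩]
        have h3 : (⟨(i.succ : Fin (m + 4)).val + (m + 2 - (i.castSucc : Fin (m + 4)).val),
            by simp only [Fin.val_succ, Fin.val_castSucc]; omega⟩ : Fin (m + 4)) =
            Fin.last (m + 3) := by
          apply Fin.ext
          simp only [Fin.val_succ, Fin.val_castSucc, Fin.val_last]
          omega
        rw [h3, hwtop, smul_eq_mul, hεε]
      · intro i j hij
        have hij' : j.val < i.val := hij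
        show colG ε w j.castSucc i.succ = 0
        unfold colG
        have hj := j.isLt
        rw [if_neg (by simp only [Fin.val_castSucc]; omega), Pi.smul_apply, shiftv_apply,
          dif_neg (by simp only [Fin.val_succ, Fin.val_castSucc]; omega), smul_zero]
    rw [h1, h2, mul_one, Fin.val_last, ← hε, hεε]
  · intro j _ hj
    have h1 : G0mat ε w 0 j = 0 := by
      show colG ε w j 0 = 0
      apply colG_zero
      intro h
      apply hj
      apply Fin.ext
      rw [h, Fin.val_last]
    rw [h1, mul_zero, zero_mul]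
  · intro h
    exact absurd (Finset.mem_univ _) h

theorem det_X0mat : (X0mat K m).det = 1 := by
  unfold X0mat
  rw [Matrix.det_mul, det_v0, det_MM, one_mul, neg_dotProduct, e1_dot_e0, neg_zero, add_zero]

/-- the conjugating element of `SL_n` -/
def G0s (ε : K) (w : Fin (m + 4) → K) (hε : ε = (-1) ^ (m + 3))
    (hwtop : w (Fin.last (m + 3)) = ε) : SpecialLinearGroup (Fin (m + 4)) K :=
  ⟨G0mat ε w, det_G0mat ε w hε hwtop⟩

/-- the element with matrix `X0mat` -/
def X0s (K : Type*) [Field K] (m : ℕ) : SpecialLinearGroup (Fin (m + 4)) K :=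
  ⟨X0mat K m, det_X0mat⟩

theorem v0_mulVec_zero (c : Fin (m + 4) → K) (hc : c 0 = 0) : (v0 K (m + 4) *ᵥ c) 0 = 0 := by
  have h1 := e0_dot_v0 c
  rw [e_dot, hc] at h1
  exact h1

theorem v0_mulVec_last (c : Fin (m + 4) → K) :
    (v0 K (m + 4) *ᵥ c) (Fin.last (m + 3)) = c (Fin.last (m + 3)) := by
  rw [v0_mulVec, dif_neg (by simp), sub_zero]

/-- **conjugacy of the two elements** -/
theorem conj_Xs_Ys (c : Fin (m + 4) → K) (hc : c 0 = 0)
    (htop : c (Fin.last (m + 3)) = (-1) ^ (m + 3)) :
    ∃ g : SpecialLinearGroup (Fin (m + 4)) K, g * Xs K m * g⁻¹ = Ys c hc := by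
  set ε : K := (-1) ^ (m + 3) with hε
  set c2 := v0 K (m + 4) *ᵥ c with hc2
  have hc20 : c2 0 = 0 := v0_mulVec_zero c hc
  set w := v0 K (m + 4) *ᵥ c2 with hw
  have hwtop : w (Fin.last (m + 3)) = ε := by
    rw [hw, v0_mulVec_last, hc2, v0_mulVec_last, htop]
  set G := G0s ε w hε hwtop with hG
  set Y0 := Ys c2 hc20 with hY0
  have e1 : V0s K m * Xs K m = X0s K m * V0s K m := by
    apply Subtype.ext
    show v0 K (m + 4) * Xmat K m = X0mat K m * v0 K (m + 4)
    unfold Xmat X0mat
    rw [Matrix.mul_assoc]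
  have e2 : V0s K m * Ys c hc = Y0 * V0s K m := by
    apply Subtype.ext
    show v0 K (m + 4) * Ymat K m c = Ymat K m c2 * v0 K (m + 4)
    unfold Ymat
    rw [Matrix.mul_assoc, MM_mul', e0_vecMul_v0 _ _ rfl, mul_MM, Matrix.mulVec_neg, hc2]
  have e3 : G * X0s K m = Y0 * G := by
    apply Subtype.ext
    show G0mat ε w * X0mat K m = Ymat K m c2 * G0mat ε w
    exact G0mat_mul ε c2 hc20
  refine ⟨(V0s K m)⁻¹ * G * V0s K m, ?_⟩
  have hX : Xs K m = (V0s K m)⁻¹ * X0s K m * V0s K m := by
    rw [mul_assoc, ← e1, inv_mul_cancel_left]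
  have hY : Ys c hc = (V0s K m)⁻¹ * Y0 * V0s K m := by
    rw [mul_assoc, ← e2, inv_mul_cancel_left]
  have hXY : X0s K m = G⁻¹ * Y0 * G := by
    rw [mul_assoc, ← e3, inv_mul_cancel_left]
  rw [hY, hX, hXY]
  group

end conj

end Cfsg.Agent.Lib.Helper5_RUD
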