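import Mathlib
import Cfsg.Agent.Lib.Helper5_RUD

/-!
# Two regular unipotent elements of `SL_n` : the explicit vector and the two generation theorems
-/

set_option autoImplicit false
set_option linter.unusedSectionVars false
set_option linter.unusedVariables false
set_option linter.unusedSimpArgs false
set_option linter.unusedTactic false
set_option linter.unreachableTactic false
set_option linter.unnecessarySeqFocus false

namespace Cfsg.Agent.Lib.Helper5_RUE

open Matrix Cfsg.Agent.Lib.Helper83_TvCalc Cfsg.Agent.Lib.Helper83_SL3Pair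
  Cfsg.Agent.Lib.Helper5_RUA Cfsg.Agent.Lib.Helper5_RUB Cfsg.Agent.Lib.Helper5_RUC
  Cfsg.Agent.Lib.Helper5_RUD

variable {K : Type*} [Field K]

section pairings

variable {m : ℕ}

theorem psi1_dot (c : Fin (m + 4) → K) :
    psi1 K m ⬝ᵥ c = c 1 - c (⟨2, by omega⟩ : Fin (m + 4)) := by
  rw [← e1_dot_v0, e_dot, v0_mulVec]
  have h11 : ((1 : Fin (m + 4)).val) = 1 := rfl
  rw [dif_pos ⟨by rw [h11]; omega, by rw [h11]; omega⟩]
  rfl

theorem psi2_dot (c : Fin (m + 4) → K) :
    psi2 K m ⬝ᵥ c =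
      c 1 - 2 * c (⟨2, by omega⟩ : Fin (m + 4)) + c (⟨3, by omega⟩ : Fin (m + 4)) := by
  rw [← psi1_dot_v0, psi1_dot, v0_mulVec, v0_mulVec]
  have h11 : ((1 : Fin (m + 4)).val) = 1 := rfl
  rw [dif_pos ⟨by rw [h11]; omega, by rw [h11]; omega⟩,
    dif_pos ⟨by simp, by simp only; omega⟩]
  have e1 : (⟨(1 : Fin (m + 4)).val + 1, by rw [h11]; omega⟩ : Fin (m + 4)) = ⟨2, by omega⟩ := rfl
  have e2 : (⟨(⟨2, by omega⟩ : Fin (m + 4)).val + 1, by simp only; omega⟩ : Fin (m + 4)) =
      ⟨3, by omega⟩ := rfl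
  rw [e1, e2]
  ring

/-- the explicit vector -/
def cvec (m : ℕ) (s δ ω : K) : Fin (m + 4) → K := fun i =>
  if i.val = 1 then s else if i.val = 2 then s - δ else if i.val = 3 then s - 2 * δ
  else if i.val = m + 3 then ω else 0

theorem cvec_zero (s δ ω : K) : cvec m s δ ω 0 = 0 := by
  unfold cvec
  have h0 : ((0 : Fin (m + 4)).val) = 0 := rfl
  rw [h0, if_neg (by omega), if_neg (by omega), if_neg (by omega), if_neg (by omega)]

theorem cvec_one (s δ ω : K) : cvec m s δ ω 1 = s := by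
  unfold cvec
  have h11 : ((1 : Fin (m + 4)).val) = 1 := rfl
  rw [h11, if_pos rfl]

theorem cvec_two (s δ ω : K) : cvec m s δ ω (⟨2, by omega⟩ : Fin (m + 4)) = s - δ := by
  unfold cvec
  rw [if_neg (by simp), if_pos rfl]

theorem cvec_three (s δ ω : K) :
    cvec m s δ ω (⟨3, by omega⟩ : Fin (m + 4)) = s - 2 * δ := by
  unfold cvec
  rw [if_neg (by simp), if_neg (by simp), if_pos rfl]

theorem cvec_last (s δ ω : K) (hm : m ≠ 0) : cvec m s δ ω (Fin.last (m + 3)) = ω := by
  unfold cvec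
  rw [Fin.val_last, if_neg (by omega), if_neg (by omega), if_neg (by omega), if_pos rfl]

theorem cvec_last_zero (s δ ω : K) : cvec 0 s δ ω (Fin.last 3) = s - 2 * δ := by
  unfold cvec
  rw [Fin.val_last, if_neg (by omega), if_neg (by omega), if_pos rfl]

theorem cvec_e1 (s δ ω : K) :
    (e (1 : Fin (m + 4)) : Fin (m + 4) → K) ⬝ᵥ cvec m s δ ω = s := by
  rw [e_dot, cvec_one]

theorem cvec_psi1 (s δ ω : K) : psi1 K m ⬝ᵥ cvec m s δ ω = δ := by
  rw [psi1_dot, cvec_one, cvec_two]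
  ring

theorem cvec_psi2 (s δ ω : K) : psi2 K m ⬝ᵥ cvec m s δ ω = 0 := by
  rw [psi2_dot, cvec_one, cvec_two, cvec_three]
  ring

end pairings

section gen

variable {m : ℕ}

theorem gen_odd (c : Fin (m + 4) → K) (hc : c 0 = 0) (htop : c (Fin.last (m + 3)) ≠ 0) (s : K)
    (h1 : (e (1 : Fin (m + 4)) : Fin (m + 4) → K) ⬝ᵥ c = s) (h2 : psi1 K m ⬝ᵥ c = 1)
    (h3 : psi2 K m ⬝ᵥ c = 0)
    (hgen : ∀ A : AddSubgroup K, 4 * s ∈ A → (∀ x ∈ A, 4 * s * x ∈ A) → A = ⊤) :
    Subgroup.closure ({Xs K m, Ys c hc} : Set (SpecialLinearGroup (Fin (m + 4)) K)) = ⊤ := by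
  set H := Subgroup.closure ({Xs K m, Ys c hc} : Set (SpecialLinearGroup (Fin (m + 4)) K))
    with hH
  have hX : Xs K m ∈ H := Subgroup.subset_closure (Set.mem_insert _ _)
  have hY : Ys c hc ∈ H :=
    Subgroup.subset_closure (Set.mem_insert_of_mem _ (Set.mem_singleton _))
  obtain ⟨hψ, d, hd, hd1⟩ := mech_odd H c hc s h1 h2 h3 hX hY
  exact endgame c hc htop hX hY (4 * s) hgen hψ d hd hd1

theorem gen_even (hchar : (2 : K) = 0) (c : Fin (m + 4) → K) (hc : c 0 = 0)
    (htop : c (Fin.last (m + 3)) ≠ 0) (s : K)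
    (h1 : (e (1 : Fin (m + 4)) : Fin (m + 4) → K) ⬝ᵥ c = s) (h2 : psi1 K m ⬝ᵥ c = 0)
    (h3 : psi2 K m ⬝ᵥ c = 0)
    (hgen : ∀ A : AddSubgroup K, s ∈ A → (∀ x ∈ A, s * x ∈ A) → A = ⊤) :
    Subgroup.closure ({Xs K m, Ys c hc} : Set (SpecialLinearGroup (Fin (m + 4)) K)) = ⊤ := by
  set H := Subgroup.closure ({Xs K m, Ys c hc} : Set (SpecialLinearGroup (Fin (m + 4)) K))
    with hH
  have hX : Xs K m ∈ H := Subgroup.subset_closure (Set.mem_insert _ _)
  have hY : Ys c hc ∈ H :=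
    Subgroup.subset_closure (Set.mem_insert_of_mem _ (Set.mem_singleton _))
  obtain ⟨hψ, d, hd, hd1⟩ := mech_even hchar H c hc s h1 h2 h3 hX hY
  exact endgame c hc htop hX hY s hgen hψ d hd hd1

end gen

section field

variable {F : Type*} [Field F] [Fintype F]

theorem hgen_of_generator (β : Fˣ) (hβ : ∀ y : Fˣ, y ∈ Submonoid.powers β) :
    ∀ A : AddSubgroup F, (β : F) ∈ A → (∀ x ∈ A, (β : F) * x ∈ A) → A = ⊤ := by
  intro A h1 h2
  have hpow : ∀ k : ℕ, (β : F) ^ (k + 1) ∈ A := by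
    intro k
    induction k with
    | zero => simpa using h1
    | succ k ih =>
      rw [pow_succ']
      exact h2 _ ih
  rw [eq_top_iff]
  intro x _
  by_cases hx : x = 0
  · rw [hx]
    exact A.zero_mem
  · obtain ⟨k, hk⟩ := hβ (Units.mk0 x hx)
    have h3 : x = (β : F) ^ k := by
      have := congrArg Units.val hk
      simpa using this.symm
    have h4 : (β : F) ^ (Fintype.card F - 1) = 1 :=
      FiniteField.pow_card_sub_one_eq_one _ β.ne_zero
    have h5 : 2 ≤ Fintype.card F := Fintype.one_lt_card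
    have h6 : x = (β : F) ^ (k + Fintype.card F - 2 + 1) := by
      have : k + Fintype.card F - 2 + 1 = k + (Fintype.card F - 1) := by omega
      rw [this, pow_add, h4, mul_one, h3]
    rw [h6]
    exact hpow _

theorem hgen_of_prime (hp : (Fintype.card F).Prime) (μ : F) (hμ : μ ≠ 0) :
    ∀ A : AddSubgroup F, μ ∈ A → (∀ x ∈ A, μ * x ∈ A) → A = ⊤ := by
  intro A h1 _
  have : Fact (Nat.card F).Prime := ⟨by rwa [Nat.card_eq_fintype_card]⟩
  rcases AddSubgroup.eq_bot_or_eq_top_of_prime_card A with h | h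
  · exfalso
    rw [h, AddSubgroup.mem_bot] at h1
    exact hμ h1
  · exact h

/-- in a finite field of non prime order, there is a generator of the unit group other than 8 -/
theorem exists_generator_ne (hp : ¬ (Fintype.card F).Prime) :
    ∃ β : Fˣ, (∀ y : Fˣ, y ∈ Submonoid.powers β) ∧ (β : F) ≠ 8 := by
  classical
  obtain ⟨β, hβ⟩ := IsCyclic.exists_monoid_generator (α := Fˣ)
  by_cases h8 : (β : F) = 8
  · refine ⟨β⁻¹, ?_, ?_⟩
    · intro y
      obtain ⟨k, hk⟩ := hβ y⁻¹
      refine ⟨k, ?_⟩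
      have hk' : β ^ k = y⁻¹ := hk
      show β⁻¹ ^ k = y
      rw [inv_pow, hk', inv_inv]
    · intro h8'
      apply hp
      have h1 : ((β⁻¹ : Fˣ) : F) = (β : F) := by rw [h8', h8]
      have h2 : β⁻¹ = β := Units.ext h1
      have h3 : β * β = 1 := by
        nth_rewrite 1 [← h2]
        exact inv_mul_cancel β
      -- every unit is 1 or β
      have h4 : ∀ y : Fˣ, y = 1 ∨ y = β := by
        intro y
        obtain ⟨k, hk⟩ := hβ y
        have hk' : β ^ k = y := hk
        rw [← hk']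
        clear hk hk'
        induction k with
        | zero => left; exact pow_zero β
        | succ k ih =>
          rcases ih with h | h
          · right
            rw [pow_succ, h, one_mul]
          · left
            rw [pow_succ, h, h3]
      have h5 : (Finset.univ : Finset F) ⊆ {0, 1, (β : F)} := by
        intro x _
        by_cases hx : x = 0
        · rw [hx]; simp
        · rcases h4 (Units.mk0 x hx) with h | h
          · have := congrArg Units.val h
            simp at this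
            rw [this]; simp
          · have := congrArg Units.val h
            simp at this
            rw [this]; simp
      have h6 : Fintype.card F ≤ 3 := by
        calc Fintype.card F = (Finset.univ : Finset F).card := rfl
          _ ≤ ({0, 1, (β : F)} : Finset F).card := Finset.card_le_card h5
          _ ≤ 3 := Finset.card_le_three
      have h7 : 2 ≤ Fintype.card F := Fintype.one_lt_card
      interval_cases (Fintype.card F) <;> norm_num
  · exact ⟨β, hβ, h8⟩

theorem cvec_last_zero' {K : Type*} [Field K] {m : ℕ} (s δ ω : K) (hm : m = 0) :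
    cvec m s δ ω (Fin.last (m + 3)) = s - 2 * δ := by
  unfold cvec
  rw [Fin.val_last, if_neg (by omega), if_neg (by omega), if_pos (by omega)]

theorem conj_pow_val {n : ℕ} (g : SpecialLinearGroup (Fin n) F) (A : Matrix (Fin n) (Fin n) F)
    (k : ℕ) : (g.1 * A * (g⁻¹).1) ^ k = g.1 * A ^ k * (g⁻¹).1 := by
  induction k with
  | zero => rw [pow_zero, pow_zero, Matrix.mul_one, val_mul_inv]
  | succ k ih =>
    rw [pow_succ, ih, pow_succ]
    calc g.1 * A ^ k * (g⁻¹).1 * (g.1 * A * (g⁻¹).1)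
        = g.1 * A ^ k * ((g⁻¹).1 * g.1) * A * (g⁻¹).1 := by simp only [Matrix.mul_assoc]
      _ = g.1 * (A ^ k * A) * (g⁻¹).1 := by
        rw [val_inv_mul, Matrix.mul_one]
        simp only [Matrix.mul_assoc]

/-- a conjugate of a regular unipotent element is regular unipotent -/
theorem regular_conj {n : ℕ} (u g : SpecialLinearGroup (Fin n) F) (k : ℕ)
    (hu : IsNilpotent ((u : Matrix (Fin n) (Fin n) F) - 1) ∧
      ((u : Matrix (Fin n) (Fin n) F) - 1) ^ k ≠ 0) :
    IsNilpotent (((g * u * g⁻¹ : SpecialLinearGroup (Fin n) F) : Matrix (Fin n) (Fin n) F) - 1) ∧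
      (((g * u * g⁻¹ : SpecialLinearGroup (Fin n) F) : Matrix (Fin n) (Fin n) F) - 1) ^ k ≠ 0 := by
  have h1 : ((g * u * g⁻¹ : SpecialLinearGroup (Fin n) F) : Matrix (Fin n) (Fin n) F) - 1 =
      g.1 * (u.1 - 1) * (g⁻¹).1 := by
    show (g * u * g⁻¹).1 - 1 = _
    rw [val_mul, val_mul, Matrix.mul_sub, Matrix.sub_mul, Matrix.mul_one, val_mul_inv]
  rw [h1]
  obtain ⟨⟨l, hl⟩, h2⟩ := hu
  constructor
  · refine ⟨l, ?_⟩
    rw [conj_pow_val]
    have hl' : (u.1 - 1) ^ l = 0 := hl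
    rw [hl', Matrix.mul_zero, Matrix.zero_mul]
  · rw [conj_pow_val]
    intro h3
    apply h2
    have h4 : (g⁻¹).1 * (g.1 * (u.1 - 1) ^ k * (g⁻¹).1) * g.1 = (u.1 - 1) ^ k := by
      calc (g⁻¹).1 * (g.1 * (u.1 - 1) ^ k * (g⁻¹).1) * g.1
          = ((g⁻¹).1 * g.1) * (u.1 - 1) ^ k * ((g⁻¹).1 * g.1) := by
            simp only [Matrix.mul_assoc]
        _ = (u.1 - 1) ^ k := by rw [val_inv_mul, Matrix.one_mul, Matrix.mul_one]
    rw [h3, Matrix.mul_zero, Matrix.zero_mul] at h4
    exact h4.symm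

/-- **the prime case** : two conjugate regular unipotent elements generating `SL_n(p)` -/
theorem part2 (m : ℕ) (hp : (Fintype.card F).Prime) :
    ∃ u g : SpecialLinearGroup (Fin (m + 4)) F,
      (IsNilpotent ((u : Matrix (Fin (m + 4)) (Fin (m + 4)) F) - 1) ∧
        ((u : Matrix (Fin (m + 4)) (Fin (m + 4)) F) - 1) ^ (m + 4 - 1) ≠ 0) ∧
      Subgroup.closure ({u, g * u * g⁻¹} : Set (SpecialLinearGroup (Fin (m + 4)) F)) = ⊤ := by
  have hε0 : ((-1 : F)) ^ (m + 3) ≠ 0 := pow_ne_zero _ (neg_ne_zero.2 one_ne_zero)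
  by_cases h2 : (2 : F) = 0
  · have hneg : (-1 : F) = 1 := by linear_combination (-1 : F) * h2
    have hc : cvec m (1 : F) 0 ((-1) ^ (m + 3)) 0 = 0 := cvec_zero _ _ _
    have htop : cvec m (1 : F) 0 ((-1) ^ (m + 3)) (Fin.last (m + 3)) = (-1) ^ (m + 3) := by
      by_cases hm : m = 0
      · rw [cvec_last_zero' _ _ _ hm, hneg, one_pow]
        ring
      · rw [cvec_last _ _ _ hm]
    obtain ⟨g, hg⟩ := conj_Xs_Ys _ hc htop
    refine ⟨Xs F m, g, Xs_regular, ?_⟩
    rw [hg]
    exact gen_even h2 _ hc (by rw [htop]; exact hε0) 1 (cvec_e1 _ _ _) (cvec_psi1 _ _ _)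
      (cvec_psi2 _ _ _) (hgen_of_prime hp 1 one_ne_zero)
  · have h4 : (4 : F) * 1 ≠ 0 := by
      rw [mul_one]
      have : (4 : F) = 2 * 2 := by norm_num
      rw [this]
      exact mul_ne_zero h2 h2
    have hc : cvec m (1 : F) 1 ((-1) ^ (m + 3)) 0 = 0 := cvec_zero _ _ _
    have htop : cvec m (1 : F) 1 ((-1) ^ (m + 3)) (Fin.last (m + 3)) = (-1) ^ (m + 3) := by
      by_cases hm : m = 0
      · rw [cvec_last_zero' _ _ _ hm, hm]
        norm_num
      · rw [cvec_last _ _ _ hm]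
    obtain ⟨g, hg⟩ := conj_Xs_Ys _ hc htop
    refine ⟨Xs F m, g, Xs_regular, ?_⟩
    rw [hg]
    exact gen_odd _ hc (by rw [htop]; exact hε0) 1 (cvec_e1 _ _ _) (cvec_psi1 _ _ _)
      (cvec_psi2 _ _ _) (hgen_of_prime hp (4 * 1) h4)

/-- **the general case** : two regular unipotent elements generating `SL_n(q)` -/
theorem part1 (m : ℕ) :
    ∃ u v : SpecialLinearGroup (Fin (m + 4)) F,
      (IsNilpotent ((u : Matrix (Fin (m + 4)) (Fin (m + 4)) F) - 1) ∧
        ((u : Matrix (Fin (m + 4)) (Fin (m + 4)) F) - 1) ^ (m + 4 - 1) ≠ 0) ∧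
      (IsNilpotent ((v : Matrix (Fin (m + 4)) (Fin (m + 4)) F) - 1) ∧
        ((v : Matrix (Fin (m + 4)) (Fin (m + 4)) F) - 1) ^ (m + 4 - 1) ≠ 0) ∧
      Subgroup.closure ({u, v} : Set (SpecialLinearGroup (Fin (m + 4)) F)) = ⊤ := by
  by_cases hp : (Fintype.card F).Prime
  · obtain ⟨u, g, hu, hcl⟩ := part2 (F := F) m hp
    exact ⟨u, g * u * g⁻¹, hu, regular_conj u g _ hu, hcl⟩
  · obtain ⟨β, hβ, hβ8⟩ := exists_generator_ne hp
    by_cases h2 : (2 : F) = 0
    · have hc : cvec m (β : F) 0 1 0 = 0 := cvec_zero _ _ _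
      have htop : cvec m (β : F) 0 1 (Fin.last (m + 3)) ≠ 0 := by
        by_cases hm : m = 0
        · rw [cvec_last_zero' _ _ _ hm, mul_zero, sub_zero]
          exact β.ne_zero
        · rw [cvec_last _ _ _ hm]
          exact one_ne_zero
      refine ⟨Xs F m, Ys _ hc, Xs_regular, Ys_regular _ hc htop, ?_⟩
      exact gen_even h2 _ hc htop β (cvec_e1 _ _ _) (cvec_psi1 _ _ _) (cvec_psi2 _ _ _)
        (hgen_of_generator β hβ)
    · have h4 : (4 : F) ≠ 0 := by
        have : (4 : F) = 2 * 2 := by norm_num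
        rw [this]
        exact mul_ne_zero h2 h2
      have h4s : 4 * ((β : F) / 4) = β := by
        field_simp
      have hc : cvec m ((β : F) / 4) 1 1 0 = 0 := cvec_zero _ _ _
      have htop : cvec m ((β : F) / 4) 1 1 (Fin.last (m + 3)) ≠ 0 := by
        by_cases hm : m = 0
        · rw [cvec_last_zero' _ _ _ hm]
          intro h
          apply hβ8
          have h5 : (β : F) = 4 * ((β : F) / 4) := h4s.symm
          rw [h5]
          linear_combination 4 * h
        · rw [cvec_last _ _ _ hm]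
          exact one_ne_zero
      refine ⟨Xs F m, Ys _ hc, Xs_regular, Ys_regular _ hc htop, ?_⟩
      refine gen_odd _ hc htop ((β : F) / 4) (cvec_e1 _ _ _) (cvec_psi1 _ _ _) (cvec_psi2 _ _ _) ?_
      rw [h4s]
      exact hgen_of_generator β hβ

end field

end Cfsg.Agent.Lib.Helper5_RUE
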