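import Mathlib
import Cfsg.Agent.Lib.Helper49_S2933Defs
import Cfsg.Agent.Lib.Helper76_S3157Defs

/-!
# S2933-HYP (architect helper49; formalized by helper5)

In the `HypR` situation (order 64, class 2, centre a four-group permuted fixed-point-freely by
`ρ`), a non-central involution `u` gives two non-commuting involutions.
-/

set_option autoImplicit false

open scoped commutatorElement
open Cfsg.Agent.Lib.Helper49_S2933Defs Cfsg.Agent.Lib.Helper76_S3157Defs

namespace Cfsg.Agent.Lib.Helper5_S2933_HYP

theorem exists_noncomm_involutions {T : Type*} [Group T] [Finite T] {ρ : MulAut T}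
    (h : HypR T ρ) (u : T) (hu : u ^ 2 = 1) (huZ : u ∉ Subgroup.center T) :
    ∃ a b : T, a ^ 2 = 1 ∧ b ^ 2 = 1 ∧ a * b ≠ b * a := by
  classical
  have := Fintype.ofFinite T
  -- central elements commute with everything
  have hcen : ∀ z ∈ Subgroup.center T, ∀ t : T, z * t = t * z := by
    intro z hz t
    exact ((Subgroup.mem_center_iff.mp hz) t).symm
  -- `y` not commuting with `u`
  obtain ⟨y, hy⟩ : ∃ y : T, y * u ≠ u * y := by
    by_contra hcon
    push_neg at hcon
    exact huZ (Subgroup.mem_center_iff.mpr hcon)
  obtain ⟨c, hc⟩ : ∃ c : T, c = ⁅u, y⁆ := ⟨_, rfl⟩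
  obtain ⟨e, he⟩ : ∃ e : T, e = ρ (ρ c) := ⟨_, rfl⟩
  have hcZ : c ∈ Subgroup.center T := by rw [hc]; exact h.cl2 u y
  have heZ : e ∈ Subgroup.center T := by rw [he]; exact h.rhoZ _ (h.rhoZ _ hcZ)
  have hc1 : c ≠ 1 := by
    intro h1
    rw [hc, commutatorElement_eq_one_iff_mul_comm] at h1
    exact hy h1.symm
  have hcc : c * c = 1 := by rw [← pow_two]; exact h.z2 c hcZ
  have hee : e * e = 1 := by rw [← pow_two]; exact h.z2 e heZ
  have hρc : ρ c ≠ c := fun h1 => hc1 (h.fpf c h1)
  have he1 : e ≠ 1 := by
    intro h1
    rw [he] at h1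
    have h2 : ρ (ρ c) = ρ (ρ 1) := by rw [h1, map_one, map_one]
    exact hc1 (ρ.injective (ρ.injective h2))
  have hec : e ≠ c := by
    intro h1
    rw [he] at h1
    apply hρc
    have h2 := congrArg ρ h1
    rw [h.rho3] at h2
    exact h2.symm
  -- the relations `w * y = d * y * w`
  have hRu : u * y = c * y * u := by rw [hc, commutatorElement_def]; group
  have hRr : ρ u * y = e * y * ρ u := by
    have h1 : ⁅ρ u, y⁆ = e := by rw [h.comm_l u y, ← hc, he]
    rw [← h1, commutatorElement_def]; group
  -- `u` commutes with `ρ u`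
  have hur : u * ρ u = ρ u * u := by
    have h1 : ⁅u, ρ u⁆ = 1 := by
      rw [h.comm_r u u, commutatorElement_self, map_one, map_one]
    exact commutatorElement_eq_one_iff_mul_comm.mp h1
  have huu : u * u = 1 := by rw [← pow_two]; exact hu
  have hrr : ρ u * ρ u = 1 := by rw [← map_mul, huu, map_one]
  have hRur : u * ρ u * y = c * e * y * (u * ρ u) := by
    calc u * ρ u * y = u * (ρ u * y) := by group
      _ = u * (e * y * ρ u) := by rw [hRr]
      _ = u * e * y * ρ u := by group
      _ = e * u * y * ρ u := by rw [← hcen e heZ u]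
      _ = e * (u * y) * ρ u := by group
      _ = e * (c * y * u) * ρ u := by rw [hRu]
      _ = e * c * y * (u * ρ u) := by group
      _ = c * e * y * (u * ρ u) := by rw [hcen e heZ c]
  -- the key: an element `w` commuting with `u`, `w² = 1`, `w * y = y² * y * w`
  have hkey : ∀ w d : T, w * w = 1 → u * w = w * u → d ∈ Subgroup.center T →
      w * y = d * y * w → d = y ^ 2 → ∃ a b : T, a ^ 2 = 1 ∧ b ^ 2 = 1 ∧ a * b ≠ b * a := by
    intro w d hww huw hdZ hR hd
    refine ⟨u, y * w, hu, ?_, ?_⟩
    · have hy2 : (y ^ 2) ^ 2 = 1 := h.z2 _ (h.sq y)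
      calc (y * w) ^ 2 = y * (w * y) * w := by rw [pow_two]; group
        _ = y * (d * y * w) * w := by rw [hR]
        _ = y * d * y * (w * w) := by group
        _ = d * y * y * (w * w) := by rw [← hcen d hdZ y]
        _ = d * (y * y) := by rw [hww]; group
        _ = 1 := by rw [hd, ← pow_two, ← pow_two]; exact hy2
    · intro hcomm
      apply hy
      have h1 : u * y * w = y * u * w := by
        calc u * y * w = u * (y * w) := by group
          _ = y * w * u := hcomm
          _ = y * (w * u) := by group
          _ = y * (u * w) := by rw [huw]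
          _ = y * u * w := by group
      exact (mul_right_cancel h1).symm
  -- the centre is `{1, c, e, c * e}`
  have hZcard : (Finset.univ.filter (fun t : T => t ∈ Subgroup.center T)).card = 4 := by
    rw [← Fintype.card_subtype, ← Nat.card_eq_fintype_card]
    exact h.cardZ
  have hS : ({1, c, e, c * e} : Finset T) = Finset.univ.filter (fun t : T => t ∈ Subgroup.center T) := by
    apply Finset.eq_of_subset_of_card_le
    · intro t ht
      simp only [Finset.mem_insert, Finset.mem_singleton] at ht
      rw [Finset.mem_filter]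
      refine ⟨Finset.mem_univ _, ?_⟩
      rcases ht with rfl | rfl | rfl | rfl
      · exact Subgroup.one_mem _
      · exact hcZ
      · exact heZ
      · exact Subgroup.mul_mem _ hcZ heZ
    · rw [hZcard]
      have hce1 : c * e ≠ 1 := by
        intro h1
        apply hec
        have h2 : e = c⁻¹ := eq_inv_of_mul_eq_one_right h1
        rw [h2]
        exact inv_eq_of_mul_eq_one_right hcc
      have hcce : c ≠ c * e := by
        intro h1
        apply he1
        have h2 : c * 1 = c * e := by rw [mul_one]; exact h1
        exact (mul_left_cancel h2).symm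
      have hece : e ≠ c * e := by
        intro h1
        apply hc1
        have h2 : 1 * e = c * e := by rw [one_mul]; exact h1
        exact (mul_right_cancel h2).symm
      rw [Finset.card_insert_of_notMem, Finset.card_insert_of_notMem, Finset.card_insert_of_notMem,
        Finset.card_singleton]
      · simp only [Finset.mem_singleton]; exact hece
      · simp only [Finset.mem_insert, Finset.mem_singleton]
        rintro (h1 | h1)
        · exact hec h1.symm
        · exact hcce h1
      · simp only [Finset.mem_insert, Finset.mem_singleton]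
        rintro (h1 | h1 | h1)
        · exact hc1 h1.symm
        · exact he1 h1.symm
        · exact hce1 h1.symm
  have hy2 : y ^ 2 ∈ ({1, c, e, c * e} : Finset T) := by
    rw [hS, Finset.mem_filter]
    exact ⟨Finset.mem_univ _, h.sq y⟩
  simp only [Finset.mem_insert, Finset.mem_singleton] at hy2
  rcases hy2 with h1 | h1 | h1 | h1
  · exact hkey 1 1 (by group) (by group) (Subgroup.one_mem _) (by group) h1.symm
  · exact hkey u c huu rfl hcZ hRu h1.symm
  · exact hkey (ρ u) e hrr hur heZ hRr h1.symm
  · refine hkey (u * ρ u) (c * e) ?_ ?_ (Subgroup.mul_mem _ hcZ heZ) hRur h1.symm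
    · calc u * ρ u * (u * ρ u) = u * (ρ u * u) * ρ u := by group
        _ = u * (u * ρ u) * ρ u := by rw [hur]
        _ = (u * u) * (ρ u * ρ u) := by group
        _ = 1 := by rw [huu, hrr, one_mul]
    · calc u * (u * ρ u) = u * u * ρ u := by group
        _ = u * (ρ u * u) := by rw [← hur]; group
        _ = u * ρ u * u := by group

end Cfsg.Agent.Lib.Helper5_S2933_HYP
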