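import Mathlib
import Cfsg.Agent.Lib.Helper80_S4756Defs
import Cfsg.Agent.Lib.Helper79_ClassAlgebra
import Cfsg.Agent.Lib.Helper80_CharBasic

/-!
# S4756-VAN (architect helper80; formalized by helper5)

Schur averaging: under the multiplicativity hypothesis `Mult G`, a nonlinear irreducible character
satisfies `χ x * χ y = 0` for nonidentity `x`, `y` of prime power orders for different primes.
-/

set_option autoImplicit false

namespace Cfsg.Agent.Lib.Helper5_S4756_VAN

open Cfsg.Agent.Lib.Helper80_S4756Defs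

theorem van {G : Type*} [Group G] [Finite G] (hM : Mult G) (χ : Cfsg.IrrCharacter G)
    (hχ : (χ : G → ℂ) 1 ≠ 1) (x y : G) (hx : x ≠ 1) (hy : y ≠ 1) (hxy : CoprimePP x y) :
    (χ : G → ℂ) x * (χ : G → ℂ) y = 0 := by
  classical
  have := Fintype.ofFinite G
  obtain ⟨n, ρ, hirr, hρ⟩ := χ.2
  have := hirr
  have key := Cfsg.Agent.Lib.Helper79_ClassAlgebra.card_mul_char_mul_char ρ x y
  rw [hρ] at key
  have hterm : ∀ g : G, (χ : G → ℂ) (x * (g * y * g⁻¹)) = (χ : G → ℂ) x * (χ : G → ℂ) y := by
    intro g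
    have hne : g * y * g⁻¹ ≠ 1 := by
      intro h
      apply hy
      have := congrArg (fun w => g⁻¹ * w * g) h
      simpa [mul_assoc] using this
    have hord : orderOf (g * y * g⁻¹) = orderOf y := by
      have := (MulAut.conj g).orderOf_eq y
      rwa [MulAut.conj_apply] at this
    have hcop : CoprimePP x (g * y * g⁻¹) := by
      obtain ⟨p, q, a, b, hp, hq, hpq, h1, h2⟩ := hxy
      exact ⟨p, q, a, b, hp, hq, hpq, h1, by rw [hord]; exact h2⟩
    rw [hM x _ χ hx hne hcop, Cfsg.Agent.Lib.Helper80_CharBasic.irr_conj]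
  rw [Finset.sum_congr rfl (fun g _ => hterm g), Finset.sum_const, Finset.card_univ,
    nsmul_eq_mul] at key
  have hdeg : (Module.finrank ℂ (Fin n → ℂ) : ℂ) = (χ : G → ℂ) 1 := by
    rw [← hρ, Representation.char_one]
  rw [hdeg] at key
  have hG : (Fintype.card G : ℂ) ≠ 0 := by
    exact_mod_cast (Fintype.card_pos (α := G)).ne'
  have h0 : (Fintype.card G : ℂ) *
      (((χ : G → ℂ) x * (χ : G → ℂ) y) * (1 - (χ : G → ℂ) 1)) = 0 := by
    linear_combination key
  rcases mul_eq_zero.mp h0 with h | h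
  · exact absurd h hG
  · rcases mul_eq_zero.mp h with h | h
    · exact h
    · exfalso
      apply hχ
      linear_combination -h

end Cfsg.Agent.Lib.Helper5_S4756_VAN
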