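import Mathlib
import Cfsg.Prelude.Def_GeometricClasses
import Cfsg.Agent.Lib.Helper5_SUOrder
import Cfsg.Agent.Lib.Helper5_SLCard

set_option autoImplicit false
open scoped MatrixGroups
open Matrix

namespace Cfsg.Agent.Lib.Helper5_S5982_IDX

/-- `n(n-1)/2 * 2 = n(n-1)`. -/
theorem half_mul_two (n : ℕ) : n * (n - 1) / 2 * 2 = n * (n - 1) := by
  apply Nat.div_mul_cancel
  exact (Nat.even_mul_pred_self n).two_dvd

/-- `∏_{i<n} (q^n - q^i) = q^(n(n-1)/2) ∏_{i<n} (q^(i+1) - 1)`. -/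
theorem prod_gl (q n : ℕ) :
    ∏ i ∈ Finset.range n, (q ^ n - q ^ i) =
      q ^ (n * (n - 1) / 2) * ∏ i ∈ Finset.range n, (q ^ (i + 1) - 1) := by
  have h1 : ∀ i ∈ Finset.range n, q ^ n - q ^ i = q ^ i * (q ^ (n - 1 - i + 1) - 1) := by
    intro i hi
    rw [Finset.mem_range] at hi
    rw [Nat.mul_sub, mul_one, ← pow_add]
    congr 2
    omega
  rw [Finset.prod_congr rfl h1, Finset.prod_mul_distrib, Finset.prod_pow_eq_pow_sum,
    Finset.sum_range_id,
    Finset.prod_range_reflect (fun j => q ^ (j + 1) - 1) n]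

/-- the telescoping identity `∏ U_i * ((Q-1) ∏ V_j) = ∏ (Q^(2(i+1)) - 1)`. -/
theorem prod_UV (Q : ℕ) (hQ : 1 ≤ Q) (n : ℕ) (hn : 1 ≤ n) :
    (∏ i ∈ Finset.range n, (if Even i then Q ^ (i + 1) + 1 else Q ^ (i + 1) - 1)) *
      ((Q - 1) * ∏ j ∈ Finset.Icc 2 n, (if Even j then Q ^ j + 1 else Q ^ j - 1)) =
      ∏ i ∈ Finset.range n, ((Q ^ 2) ^ (i + 1) - 1) := by
  induction n, hn using Nat.le_induction with
  | base =>
    simp only [Finset.range_one, Finset.prod_singleton, Even.zero, if_true, zero_add, pow_one]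
    have : Finset.Icc 2 1 = ∅ := by decide
    rw [this, Finset.prod_empty, mul_one]
    have h1 : 1 ≤ Q ^ 2 := Nat.one_le_pow _ _ hQ
    zify [hQ, h1]
    ring
  | succ n hn ih =>
    rw [Finset.prod_range_succ, Finset.prod_range_succ (fun i => (Q ^ 2) ^ (i + 1) - 1), ← ih,
      ← Finset.insert_Icc_right_eq_Icc_add_one (by omega : 2 ≤ n + 1), Finset.prod_insert (by simp)]
    have hp : 1 ≤ Q ^ (n + 1) := Nat.one_le_pow _ _ hQ
    have hp2 : 1 ≤ (Q ^ 2) ^ (n + 1) := Nat.one_le_pow _ _ (Nat.one_le_pow _ _ hQ)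
    have key : (if Even n then Q ^ (n + 1) + 1 else Q ^ (n + 1) - 1) *
        (if Even (n + 1) then Q ^ (n + 1) + 1 else Q ^ (n + 1) - 1) = (Q ^ 2) ^ (n + 1) - 1 := by
      by_cases he : Even n
      · have ho : ¬ Even (n + 1) := by
          rw [Nat.even_add_one]
          exact not_not.mpr he
        rw [if_pos he, if_neg ho]
        zify [hp, hp2]
        ring
      · have ho : Even (n + 1) := by
          rw [Nat.even_add_one]
          exact he
        rw [if_neg he, if_pos ho]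
        zify [hp, hp2]
        ring
    rw [← key]
    ring

/-- the arithmetic: `|SL_n(Q²)| = |SU_n(Q)| * X`. -/
theorem arith (Q n : ℕ) (hQ : 2 ≤ Q) (hn : 1 ≤ n) (a s : ℕ)
    (hA : ∏ i : Fin n, ((Q ^ 2) ^ n - (Q ^ 2) ^ (i : ℕ)) = a * (Q ^ 2 - 1))
    (hS : (Q + 1) * s = Q ^ (n * (n - 1) / 2) *
      ∏ i ∈ Finset.range n, (if Even i then Q ^ (i + 1) + 1 else Q ^ (i + 1) - 1)) :
    a = s * (Q ^ (n * (n - 1) / 2) *
      ∏ j ∈ Finset.Icc 2 n, (if Even j then Q ^ j + 1 else Q ^ j - 1)) := by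
  have hpos : 0 < (Q + 1) * (Q ^ 2 - 1) := by
    have : 4 ≤ Q ^ 2 := by nlinarith
    have : 0 < Q ^ 2 - 1 := by omega
    positivity
  apply Nat.eq_of_mul_eq_mul_left hpos
  have hA' : a * (Q ^ 2 - 1) = (Q ^ 2) ^ (n * (n - 1) / 2) *
      ∏ i ∈ Finset.range n, ((Q ^ 2) ^ (i + 1) - 1) := by
    rw [← hA, ← prod_gl, Finset.prod_range (fun i => (Q ^ 2) ^ n - (Q ^ 2) ^ i)]
  have hE : (Q ^ 2) ^ (n * (n - 1) / 2) = Q ^ (n * (n - 1) / 2) * Q ^ (n * (n - 1) / 2) := by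
    rw [← pow_mul, ← pow_add]
    congr 1
    ring
  have hQ21 : Q ^ 2 - 1 = (Q + 1) * (Q - 1) := by
    have h1 : 1 ≤ Q ^ 2 := Nat.one_le_pow _ _ (by omega)
    have h2 : 1 ≤ Q := by omega
    zify [h1, h2]
    ring
  calc (Q + 1) * (Q ^ 2 - 1) * a = (Q + 1) * (a * (Q ^ 2 - 1)) := by ring
    _ = (Q + 1) * ((Q ^ 2) ^ (n * (n - 1) / 2) *
          ∏ i ∈ Finset.range n, ((Q ^ 2) ^ (i + 1) - 1)) := by rw [hA']
    _ = (Q + 1) * (Q ^ (n * (n - 1) / 2) * Q ^ (n * (n - 1) / 2) *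
          ((∏ i ∈ Finset.range n, (if Even i then Q ^ (i + 1) + 1 else Q ^ (i + 1) - 1)) *
          ((Q - 1) * ∏ j ∈ Finset.Icc 2 n, (if Even j then Q ^ j + 1 else Q ^ j - 1)))) := by
        rw [hE, prod_UV Q (by omega) n hn]
    _ = ((Q + 1) * (Q - 1)) * ((Q ^ (n * (n - 1) / 2) *
          ∏ i ∈ Finset.range n, (if Even i then Q ^ (i + 1) + 1 else Q ^ (i + 1) - 1)) *
          (Q ^ (n * (n - 1) / 2) *
            ∏ j ∈ Finset.Icc 2 n, (if Even j then Q ^ j + 1 else Q ^ j - 1))) := by ring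
    _ = (Q + 1) * (Q ^ 2 - 1) * (s * (Q ^ (n * (n - 1) / 2) *
          ∏ j ∈ Finset.Icc 2 n, (if Even j then Q ^ j + 1 else Q ^ j - 1))) := by
        rw [← hS, ← hQ21]
        ring

/-- the embedding of `SU_n(q)` into `GL_n(F)`. -/
noncomputable def emb (n : ℕ) (F : Type*) [Field F] (q : ℕ) : Cfsg.SU n F q →* GL (Fin n) F :=
  (Matrix.SpecialLinearGroup.toGL).comp (Cfsg.SU n F q).subtype

theorem emb_injective (n : ℕ) (F : Type*) [Field F] (q : ℕ) : Function.Injective (emb n F q) := by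
  intro a b hab
  apply Subtype.ext
  exact Matrix.SpecialLinearGroup.toGL_injective hab

theorem range_le_sim (n : ℕ) (F : Type*) [Field F] (q : ℕ) :
    (emb n F q).range ≤ Cfsg.Geo.similarityGroup (Cfsg.hermForm n F q) := by
  rintro _ ⟨g, rfl⟩
  refine ⟨1, fun u v => ?_⟩
  rw [Units.val_one, one_mul]
  exact g.2 u v

theorem range_le_sl (n : ℕ) (F : Type*) [Field F] (q : ℕ) :
    (emb n F q).range ≤ Cfsg.Geo.specialLinear (Fin n) F := by
  rintro _ ⟨g, rfl⟩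
  change _ ∈ (Matrix.GeneralLinearGroup.det : GL (Fin n) F →* Fˣ).ker
  rw [MonoidHom.mem_ker]
  ext
  simp [emb]

theorem card_range (n : ℕ) (F : Type*) [Field F] (q : ℕ) :
    Nat.card (emb n F q).range = Nat.card (Cfsg.SU n F q) :=
  (Nat.card_congr (MonoidHom.ofInjective (emb_injective n F q)).toEquiv).symm

theorem card_sl {F : Type*} [Field F] [Fintype F] (n : ℕ) (hn : 1 ≤ n) :
    ∏ i : Fin n, (Fintype.card F ^ n - Fintype.card F ^ (i : ℕ)) =
      Nat.card (Cfsg.Geo.specialLinear (Fin n) F) * (Fintype.card F - 1) := by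
  classical
  have : NeZero n := ⟨by omega⟩
  let d : GL (Fin n) F →* Fˣ := Matrix.GeneralLinearGroup.det
  have hsurj : Function.Surjective d := by
    intro u
    refine ⟨Matrix.GeneralLinearGroup.mkOfDetNeZero (Matrix.diagonal (fun i : Fin n => if i = 0 then (u : F) else 1)) ?_, ?_⟩
    · rw [Matrix.det_diagonal]
      simp [Finset.prod_ite_eq']
    · ext
      simp [d, Matrix.GeneralLinearGroup.mkOfDetNeZero, Matrix.det_diagonal, Finset.prod_ite_eq']
  have h1 := Subgroup.card_mul_index d.ker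
  rw [Subgroup.index_ker, MonoidHom.range_eq_top.mpr hsurj, Subgroup.card_top, Nat.card_units,
    Nat.card_eq_fintype_card (α := F), Matrix.card_GL_field] at h1
  exact h1.symm

/-- IDX: SU_n(q₀) sits inside (similarity group) ⊓ SL, so the index divides |SL_n(q₀²)| / |SU_n(q₀)|. -/
theorem IDX {F : Type*} [Field F] [Fintype F] {q₀ : ℕ} (hK : Fintype.card F = q₀ ^ 2) (n : ℕ) (hn : 1 ≤ n) :
    (Cfsg.Geo.similarityGroup (Cfsg.hermForm n F q₀)).relIndex (Cfsg.Geo.specialLinear (Fin n) F) ∣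
      q₀ ^ (n * (n - 1) / 2) * ∏ j ∈ Finset.Icc 2 n, (if Even j then q₀ ^ j + 1 else q₀ ^ j - 1) := by
  have hq : 2 ≤ q₀ := by
    have h2 : 2 ≤ Fintype.card F := Fintype.one_lt_card
    rw [hK] at h2
    by_contra hc
    have : q₀ ≤ 1 := by omega
    have : q₀ ^ 2 ≤ 1 := by nlinarith
    omega
  have h1 := Subgroup.relIndex_dvd_of_le_left (Cfsg.Geo.specialLinear (Fin n) F) (range_le_sim n F q₀)
  refine h1.trans ?_
  have h2 := Subgroup.relIndex_mul_relIndex ⊥ _ _ bot_le (range_le_sl n F q₀)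
  rw [Subgroup.relIndex_bot_left, Subgroup.relIndex_bot_left, card_range] at h2
  have h3 := card_sl (F := F) n hn
  rw [hK] at h3
  have h4 := arith q₀ n hq hn _ _ h3 (Cfsg.Agent.Lib.Helper5_SUOrder.card_SU hK n hn)
  rw [h4] at h2
  have hpos : 0 < Nat.card (Cfsg.SU n F q₀) := Nat.card_pos
  have h5 := Nat.eq_of_mul_eq_mul_left hpos h2
  rw [h5]

end Cfsg.Agent.Lib.Helper5_S5982_IDX
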