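import Mathlib
import Cfsg.Agent.Lib.Helper66_S92Rank
import Cfsg.Agent.Lib.Helper66_StCol
import Cfsg.Agent.Lib.Helper5_S92_MODEL_A

/-!
# S2092 package MODEL_B (helper5 for helper66): the commutator relations `a2`, `ssl`, `ls` in the model.
-/

set_option autoImplicit false
set_option linter.unusedVariables false
set_option linter.unusedSectionVars false
set_option linter.unusedSimpArgs false

namespace Cfsg.Agent.Lib.Helper66_S92

open Cfsg.Agent.Lib.Helper5_SteinbergA Cfsg.Agent.Lib.Helper66_StCalc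

section model

variable {ι : Type*} [Fintype ι] [DecidableEq ι] {κ : Type*} [Fintype κ] [DecidableEq κ]
  {K : Type*} [Field K]

theorem h5mb_N_zero (a c : ι ⊕ ι) : h5ma_N a c (0 : K) = 0 := by
  unfold h5ma_N
  split_ifs <;> simp [Matrix.single_zero]

theorem h5mb_XM_zero (a c : ι ⊕ ι) : XM ι K a c 0 = 1 := by
  apply Subtype.ext
  rw [XM_coe, h5ma_XMat_eq, h5mb_N_zero, sub_zero]
  rfl

theorem h5mb_XM_inv (a c : ι ⊕ ι) (t : K) : (XM ι K a c t)⁻¹ = XM ι K a c (-t) := by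
  apply inv_eq_of_mul_eq_one_right
  rw [XM_add, add_neg_cancel, h5mb_XM_zero]

theorem h5mb_comm_of {G : Type*} [Group G] {g h k : G} (e : g * h = k * h * g) :
    g * h * g⁻¹ * h⁻¹ = k := by
  rw [e]; group

/-- the short case of `h5ma_N` -/
theorem h5mb_N_short (a c : ι ⊕ ι) (t : K) (h1 : c ≠ ng a) (h2 : a ≠ c) :
    h5ma_N a c t = Matrix.single c (ng a) (t * om K a) + Matrix.single a (ng c) (t * om K c) := by
  unfold h5ma_N
  rw [if_neg h1, if_neg h2]

/-- the long case of `h5ma_N` -/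
theorem h5mb_N_long (a : ι ⊕ ι) (t : K) :
    h5ma_N a a t = Matrix.single a (ng a) (t * om K a) := by
  unfold h5ma_N
  rw [if_neg (ne_ng a), if_pos rfl]

theorem h5mb_ss (i j k l : ι ⊕ ι) (x y : K) :
    Matrix.single i j x * Matrix.single k l y = if j = k then Matrix.single i l (x * y) else 0 := by
  by_cases h : j = k
  · subst h
    rw [if_pos rfl, Matrix.single_mul_single_same]
  · rw [if_neg h, Matrix.single_mul_single_of_ne _ _ _ _ h]

theorem h5mb_single_smul (i j : ι ⊕ ι) (x : K) :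
    Matrix.single i j x = x • Matrix.single i j (1 : K) := by
  rw [Matrix.smul_single, smul_eq_mul, mul_one]

theorem XM_a2 (a c e : ι ⊕ ι) (t u : K) (h1 : a ≠ c) (h2 : a ≠ ng c) (h3 : a ≠ e) (h4 : a ≠ ng e)
    (h5 : c ≠ e) (h6 : c ≠ ng e) :
    XM ι K a c t * XM ι K (ng c) e u * (XM ι K a c t)⁻¹ * (XM ι K (ng c) e u)⁻¹ =
      XM ι K a e (-(om K c * t * u)) := by
  apply h5mb_comm_of
  apply Subtype.ext
  have f1 : c ≠ ng a := fun h => h2 (by rw [h, ng_ng])
  have f2 : e ≠ ng (ng c) := by rw [ng_ng]; exact Ne.symm h5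
  have f3 : ng c ≠ e := fun h => h6 (by rw [← h, ng_ng])
  have f4 : e ≠ ng a := fun h => h4 (by rw [h, ng_ng])
  simp only [Submonoid.coe_mul, XM_coe, h5ma_XMat_eq]
  rw [h5mb_N_short a c t f1 h1, h5mb_N_short (ng c) e u f2 f3, h5mb_N_short a e _ f4 h3, ng_ng,
    om_ng]
  have g1 : ¬ ng a = e := fun h => h4 (by rw [← h, ng_ng])
  have g2 : ¬ ng a = ng c := fun h => h1 (ng_injective h)
  have g3 : ¬ ng c = e := f3
  have g4 : ¬ c = a := Ne.symm h1
  have g5 : ¬ ng e = c := fun h => h6 (by rw [← h])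
  have g6 : ¬ ng e = a := fun h => h4 (by rw [← h])
  have g7 : ¬ ng e = e := ng_ne e
  have g8 : ¬ ng e = ng c := fun h => h5 (ng_injective h).symm
  have g9 : ¬ ng a = c := fun h => h2 (by rw [← h, ng_ng])
  have g10 : ¬ ng a = a := ng_ne a
  simp only [sub_mul, mul_sub, mul_one, one_mul, add_mul, mul_add, h5mb_ss, g1, g2, g3, g4, g5, g6,
    g7, g8, g9, g10, if_true, if_false, add_zero, zero_add, sub_zero, mul_zero, zero_mul]
  simp only [h5mb_single_smul _ _ (_ * _)]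
  module

theorem XM_ssl (a c : ι ⊕ ι) (t u : K) (h1 : a ≠ c) (h2 : a ≠ ng c) :
    XM ι K a c t * XM ι K (ng c) a u * (XM ι K a c t)⁻¹ * (XM ι K (ng c) a u)⁻¹ =
      XM ι K a a (-(2 * om K c * t * u)) := by
  apply h5mb_comm_of
  apply Subtype.ext
  have f1 : c ≠ ng a := fun h => h2 (by rw [h, ng_ng])
  have f2 : a ≠ ng (ng c) := by rw [ng_ng]; exact h1
  have f3 : ng c ≠ a := fun h => h2 h.symm
  simp only [Submonoid.coe_mul, XM_coe, h5ma_XMat_eq]
  rw [h5mb_N_short a c t f1 h1, h5mb_N_short (ng c) a u f2 f3, h5mb_N_long, ng_ng, om_ng]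
  have g1 : ¬ ng a = a := ng_ne a
  have g2 : ¬ ng a = ng c := fun h => h1 (ng_injective h)
  have g3 : ¬ ng c = a := f3
  have g4 : ¬ c = a := Ne.symm h1
  have g5 : ¬ ng a = c := fun h => h2 (by rw [← h, ng_ng])
  simp only [sub_mul, mul_sub, mul_one, one_mul, add_mul, mul_add, h5mb_ss, g1, g2, g3, g4, g5,
    if_true, if_false, add_zero, zero_add, sub_zero, mul_zero, zero_mul]
  simp only [h5mb_single_smul _ _ (_ * _)]
  module

theorem XM_ls (a e : ι ⊕ ι) (t u : K) (h1 : e ≠ a) (h2 : e ≠ ng a) :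
    XM ι K a a t * XM ι K (ng a) e u * (XM ι K a a t)⁻¹ * (XM ι K (ng a) e u)⁻¹ =
      XM ι K a e (-(om K a * t * u)) * XM ι K e e (-(t * u ^ 2)) := by
  apply h5mb_comm_of
  apply Subtype.ext
  have f2 : e ≠ ng (ng a) := by rw [ng_ng]; exact h1
  have f3 : ng a ≠ e := Ne.symm h2
  simp only [Submonoid.coe_mul, XM_coe, h5ma_XMat_eq]
  rw [h5mb_N_long a t, h5mb_N_short (ng a) e u f2 f3, h5mb_N_short a e _ h2 (Ne.symm h1),
    h5mb_N_long e, ng_ng, om_ng]
  have g1 : ¬ ng a = a := ng_ne a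
  have g2 : ¬ ng a = e := f3
  have g3 : ¬ ng e = a := fun h => h2 (by rw [← h, ng_ng])
  have g4 : ¬ ng e = e := ng_ne e
  have g5 : ¬ ng e = ng a := fun h => h1 (ng_injective h)
  have g6 : ¬ a = e := Ne.symm h1
  simp only [sub_mul, mul_sub, mul_one, one_mul, add_mul, mul_add, h5mb_ss, g1, g2, g3, g4, g5, g6,
    if_true, if_false, add_zero, zero_add, sub_zero, mul_zero, zero_mul]
  simp only [h5mb_single_smul _ _ (_ * _)]
  match_scalars <;>
    first
    | ring1
    | linear_combination (t * u ^ 2 * om K e) * om_mul_self (K := K) a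

end model

end Cfsg.Agent.Lib.Helper66_S92
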