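import Mathlib
import Cfsg.Agent.Lib.Helper66_S92Rank
import Cfsg.Agent.Lib.Helper66_StCol
import Cfsg.Agent.Lib.Helper5_S92_MODEL_A
import Cfsg.Agent.Lib.Helper5_S92_MODEL_B

/-!
# S2092 package MODEL_C (helper5 for helper66): the rank one relations in the model, `CSt (XM ι K)`.
-/

set_option autoImplicit false
set_option linter.unusedVariables false
set_option linter.unusedSectionVars false
set_option linter.unusedSimpArgs false

namespace Cfsg.Agent.Lib.Helper66_S92

open Cfsg.Agent.Lib.Helper5_SteinbergA Cfsg.Agent.Lib.Helper66_StCalc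

section model

variable {ι : Type*} [Fintype ι] [DecidableEq ι] {κ : Type*} [Fintype κ] [DecidableEq κ]
  {K : Type*} [Field K]

theorem h5mc_conj_of {G : Type*} [Group G] {x y X Y : G} (hx : x * X = X * x)
    (h : y * X * y⁻¹ = x⁻¹ * Y * x) : (x * y * x) * X * (x * y * x)⁻¹ = Y := by
  have e : x * X * x⁻¹ = X := by rw [hx]; group
  calc (x * y * x) * X * (x * y * x)⁻¹ = x * (y * (x * X * x⁻¹) * y⁻¹) * x⁻¹ := by group
    _ = x * (x⁻¹ * Y * x) * x⁻¹ := by rw [e, h]
    _ = Y := by group

theorem h5mc_om_cases (a : ι ⊕ ι) : om K a = 1 ∨ om K a = -1 := by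
  cases a <;> simp

/-- the rank one identity, long root -/
theorem h5mc_long (a : ι ⊕ ι) (ρ σ' : K) (hρ : ρ ≠ 0) :
    XM ι K (ng a) (ng a) ρ⁻¹ * XM ι K a a (ρ ^ 2 * σ') * XM ι K (ng a) (ng a) (-ρ⁻¹) =
      XM ι K a a (-ρ) * XM ι K (ng a) (ng a) σ' * XM ι K a a ρ := by
  apply Subtype.ext
  simp only [Submonoid.coe_mul, XM_coe, h5ma_XMat_eq]
  rw [h5mb_N_long, h5mb_N_long, h5mb_N_long, h5mb_N_long, h5mb_N_long, h5mb_N_long, ng_ng, om_ng]
  have g1 : ¬ ng a = a := ng_ne a
  have g2 : ¬ a = ng a := ne_ng a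
  simp only [sub_mul, mul_sub, mul_one, one_mul, add_mul, mul_add, h5mb_ss, g1, g2,
    if_true, if_false, add_zero, zero_add, sub_zero, mul_zero, zero_mul]
  simp only [h5mb_single_smul _ _ (_ * _)]
  rcases h5mc_om_cases (K := K) a with h | h <;> rw [h] <;>
  · match_scalars <;> field_simp <;> ring

/-- the rank one identity, short root -/
theorem h5mc_short (a c : ι ⊕ ι) (h1 : a ≠ c) (h2 : c ≠ ng a) (ρ σ' : K) (hρ : ρ ≠ 0) :
    XM ι K (ng a) (ng c) (om K a * om K c * ρ⁻¹) * XM ι K a c (om K a * om K c * ρ ^ 2 * σ') *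
        XM ι K (ng a) (ng c) (-(om K a * om K c * ρ⁻¹)) =
      XM ι K a c (-ρ) * XM ι K (ng a) (ng c) σ' * XM ι K a c ρ := by
  apply Subtype.ext
  have f1 : ng c ≠ ng (ng a) := by rw [ng_ng]; exact fun h => h2 (by rw [← h, ng_ng])
  have f2 : ng a ≠ ng c := fun h => h1 (ng_injective h)
  simp only [Submonoid.coe_mul, XM_coe, h5ma_XMat_eq]
  rw [h5mb_N_short a c _ h2 h1, h5mb_N_short a c _ h2 h1, h5mb_N_short a c _ h2 h1,
    h5mb_N_short (ng a) (ng c) _ f1 f2, h5mb_N_short (ng a) (ng c) _ f1 f2,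
    h5mb_N_short (ng a) (ng c) _ f1 f2, ng_ng, ng_ng, om_ng, om_ng]
  have g1 : ¬ ng a = a := ng_ne a
  have g2 : ¬ a = ng a := ne_ng a
  have g3 : ¬ ng c = c := ng_ne c
  have g4 : ¬ c = ng c := ne_ng c
  have g5 : ¬ ng a = c := fun h => h2 h.symm
  have g6 : ¬ c = ng a := h2
  have g7 : ¬ ng c = a := fun h => h2 (by rw [← h, ng_ng])
  have g8 : ¬ a = ng c := fun h => h2 (by rw [h, ng_ng])
  have g9 : ¬ a = c := h1
  have g10 : ¬ c = a := Ne.symm h1
  have g11 : ¬ ng a = ng c := f2
  have g12 : ¬ ng c = ng a := Ne.symm f2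
  simp only [sub_mul, mul_sub, mul_one, one_mul, add_mul, mul_add, h5mb_ss, g1, g2, g3, g4, g5, g6,
    g7, g8, g9, g10, g11, g12, if_true, if_false, add_zero, zero_add, sub_zero, mul_zero, zero_mul]
  simp only [h5mb_single_smul _ _ (_ * _)]
  rcases h5mc_om_cases (K := K) a with h | h <;> rcases h5mc_om_cases (K := K) c with h' | h' <;>
    rw [h, h'] <;>
  · match_scalars <;> field_simp <;> ring

/-- the rank one identity, any root -/
theorem h5mc_gen (a c : ι ⊕ ι) (h2 : c ≠ ng a) (ρ σ' : K) (hρ : ρ ≠ 0) :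
    XM ι K (ng a) (ng c) (om K a * om K c * ρ⁻¹) * XM ι K a c (om K a * om K c * ρ ^ 2 * σ') *
        XM ι K (ng a) (ng c) (-(om K a * om K c * ρ⁻¹)) =
      XM ι K a c (-ρ) * XM ι K (ng a) (ng c) σ' * XM ι K a c ρ := by
  by_cases h1 : a = c
  · subst h1
    rw [om_mul_self, one_mul, one_mul]
    exact h5mc_long a ρ σ' hρ
  · exact h5mc_short a c h1 h2 ρ σ' hρ

theorem XM_rank1 (a c : ι ⊕ ι) (hac : c ≠ ng a) : Rel (pairC (XM ι K) a c) := by
  have hoa := om_mul_self (K := K) a
  have hoc := om_mul_self (K := K) c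
  have hoa0 := om_ne_zero (K := K) a
  have hoc0 := om_ne_zero (K := K) c
  constructor
  · intro b t u
    cases b
    · rw [pairC_false, pairC_false, pairC_false, XM_add, mul_add]
    · rw [pairC_true, pairC_true, pairC_true, XM_add]
      congr 1
      ring
  · intro b t u ht
    cases b
    · -- `b = false`
      show (pairC (XM ι K) a c false t * pairC (XM ι K) a c true (-t⁻¹) *
          pairC (XM ι K) a c false t) * pairC (XM ι K) a c false u *
          (pairC (XM ι K) a c false t * pairC (XM ι K) a c true (-t⁻¹) *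
          pairC (XM ι K) a c false t)⁻¹ = pairC (XM ι K) a c true (-(t⁻¹ ^ 2 * u))
      simp only [pairC_false, pairC_true]
      apply h5mc_conj_of
      · rw [XM_add, XM_add, add_comm]
      · rw [h5mb_XM_inv, h5mb_XM_inv]
        have hac' : ng c ≠ ng (ng a) := by
          rw [ng_ng]; exact fun h => hac (by rw [← h, ng_ng])
        have key := h5mc_gen (K := K) (ng a) (ng c) hac' (om K c * t)
          (-(om K a * -(t⁻¹ ^ 2 * u))) (mul_ne_zero hoc0 ht)
        simp only [ng_ng, om_ng] at key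
        have e1 : -om K a * -om K c * (om K c * t)⁻¹ = -(om K a * -t⁻¹) := by
          rcases h5mc_om_cases (K := K) a with h | h <;>
            rcases h5mc_om_cases (K := K) c with h' | h' <;> rw [h, h'] <;> field_simp
        have e2 : -om K a * -om K c * (om K c * t) ^ 2 * -(om K a * -(t⁻¹ ^ 2 * u)) = om K c * u := by
          rcases h5mc_om_cases (K := K) a with h | h <;>
            rcases h5mc_om_cases (K := K) c with h' | h' <;> rw [h, h'] <;> field_simp
        rw [e1, e2] at key
        exact key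
    · -- `b = true`
      show (pairC (XM ι K) a c true t * pairC (XM ι K) a c false (-t⁻¹) *
          pairC (XM ι K) a c true t) * pairC (XM ι K) a c true u *
          (pairC (XM ι K) a c true t * pairC (XM ι K) a c false (-t⁻¹) *
          pairC (XM ι K) a c true t)⁻¹ = pairC (XM ι K) a c false (-(t⁻¹ ^ 2 * u))
      simp only [pairC_false, pairC_true]
      apply h5mc_conj_of
      · rw [XM_add, XM_add, add_comm]
      · rw [h5mb_XM_inv, h5mb_XM_inv]
        have key := h5mc_gen (K := K) a c hac (-(om K a * t))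
          (om K c * -(t⁻¹ ^ 2 * u)) (neg_ne_zero.mpr (mul_ne_zero hoa0 ht))
        have e1 : om K a * om K c * (-(om K a * t))⁻¹ = om K c * -t⁻¹ := by
          rcases h5mc_om_cases (K := K) a with h | h <;>
            rcases h5mc_om_cases (K := K) c with h' | h' <;> rw [h, h'] <;> field_simp
        have e2 : om K a * om K c * (-(om K a * t)) ^ 2 * (om K c * -(t⁻¹ ^ 2 * u)) =
            -(om K a * u) := by
          rcases h5mc_om_cases (K := K) a with h | h <;>
            rcases h5mc_om_cases (K := K) c with h' | h' <;> rw [h, h'] <;> field_simp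
        rw [e1, e2] at key
        exact key

theorem cSt_XM : CSt (XM ι K) where
  symm := XM_symm
  opp := XM_opp
  add := XM_add
  comm := XM_comm
  a2 := XM_a2
  ssl := XM_ssl
  ls := XM_ls
  rank1 := XM_rank1

end model

end Cfsg.Agent.Lib.Helper66_S92
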