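import Mathlib
import Cfsg.Agent.Lib.Helper66_S92LiftDefs
import Cfsg.Agent.Lib.Helper66_S92Rank
import Cfsg.Agent.Lib.Helper89_S92_EVAL
import Cfsg.Agent.Lib.Helper5_S92_MODEL_A
import Cfsg.Agent.Lib.Helper5_S92_MODEL_B

/-!
# S2092 package TORUS_M (helper5 for helper66): the diagonal torus of `Sp(ι, K)` as a `TorusC (XM ι K)`.
-/

set_option autoImplicit false
set_option linter.unusedVariables false
set_option linter.unusedSectionVars false
set_option linter.unusedSimpArgs false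

namespace Cfsg.Agent.Lib.Helper66_S92

open Cfsg.Agent.Lib.Helper81_UceA Cfsg.Agent.Lib.Helper5_SteinbergA

section torus

variable {ι : Type*} [Fintype ι] [DecidableEq ι] {K : Type*} [Field K]

/-- a symplectic matrix which is diagonal -/
def h5tm_IsDiag (h : Matrix.symplecticGroup ι K) : Prop :=
  ∀ i j : ι ⊕ ι, i ≠ j → (h : Matrix (ι ⊕ ι) (ι ⊕ ι) K) i j = 0

theorem h5tm_eq_diagonal {h : Matrix.symplecticGroup ι K} (hh : h5tm_IsDiag h) :
    (h : Matrix (ι ⊕ ι) (ι ⊕ ι) K) =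
      Matrix.diagonal (fun d => (h : Matrix (ι ⊕ ι) (ι ⊕ ι) K) d d) := by
  ext i j
  by_cases hij : i = j
  · subst hij
    rw [Matrix.diagonal_apply_eq]
  · rw [Matrix.diagonal_apply_ne _ hij, hh i j hij]

/-- `f x * f (ng x) = 1` for the diagonal entries of a diagonal symplectic matrix -/
theorem h5tm_prod {h : Matrix.symplecticGroup ι K} (hh : h5tm_IsDiag h) (x : ι ⊕ ι) :
    (h : Matrix (ι ⊕ ι) (ι ⊕ ι) K) x x * (h : Matrix (ι ⊕ ι) (ι ⊕ ι) K) (ng x) (ng x) = 1 := by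
  have hm := SymplecticGroup.mem_iff.mp h.2
  have h1 := congrFun (congrFun hm x) (ng x)
  rw [h5tm_eq_diagonal hh, Matrix.diagonal_transpose, Matrix.mul_diagonal, Matrix.diagonal_mul,
    h5ma_J_apply, if_pos rfl] at h1
  have ho := om_ne_zero (K := K) x
  have h2 : ((h : Matrix (ι ⊕ ι) (ι ⊕ ι) K) x x * (h : Matrix (ι ⊕ ι) (ι ⊕ ι) K) (ng x) (ng x)) *
      om K x = 1 * om K x := by
    linear_combination h1
  exact mul_right_cancel₀ ho h2

/-- a diagonal matrix with `g x * g (ng x) = 1` is symplectic -/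
theorem h5tm_diag_mem (g : ι ⊕ ι → K) (hg : ∀ x, g x * g (ng x) = 1) :
    Matrix.diagonal g ∈ Matrix.symplecticGroup ι K := by
  rw [SymplecticGroup.mem_iff]
  ext i j
  rw [Matrix.diagonal_transpose, Matrix.mul_diagonal, Matrix.diagonal_mul, h5ma_J_apply]
  by_cases hj : j = ng i
  · subst hj
    rw [if_pos rfl]
    calc g i * om K i * g (ng i) = om K i * (g i * g (ng i)) := by ring
      _ = om K i := by rw [hg, mul_one]
  · rw [if_neg hj, mul_zero, zero_mul]

variable (ι K) in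
/-- the diagonal torus of the symplectic group -/
def h5tm_T : Subgroup (Matrix.symplecticGroup ι K) where
  carrier := {h | h5tm_IsDiag h}
  one_mem' := fun i j hij => Matrix.one_apply_ne hij
  mul_mem' := by
    intro h k hh hk i j hij
    show ((h * k : Matrix.symplecticGroup ι K) : Matrix (ι ⊕ ι) (ι ⊕ ι) K) i j = 0
    rw [Submonoid.coe_mul, h5tm_eq_diagonal hh, Matrix.diagonal_mul, hk i j hij, mul_zero]
  inv_mem' := by
    intro h hh i j hij
    show ((h⁻¹ : Matrix.symplecticGroup ι K) : Matrix (ι ⊕ ι) (ι ⊕ ι) K) i j = 0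
    rw [SymplecticGroup.coe_inv', h5tm_eq_diagonal hh, Matrix.inv_diagonal,
      Matrix.diagonal_apply_ne _ hij]

theorem h5tm_mem_T (h : Matrix.symplecticGroup ι K) : h ∈ h5tm_T ι K ↔ h5tm_IsDiag h := Iff.rfl

theorem h5tm_diag_mul_single (f : ι ⊕ ι → K) (i j : ι ⊕ ι) (x : K) :
    Matrix.diagonal f * Matrix.single i j x = Matrix.single i j (f i * x) := by
  ext p q
  rw [Matrix.diagonal_mul]
  by_cases hp : i = p
  · subst hp
    by_cases hq : j = q
    · subst hq
      rw [Matrix.single_apply_same, Matrix.single_apply_same]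
    · rw [Matrix.single_apply_of_col_ne _ _ hq, Matrix.single_apply_of_col_ne _ _ hq, mul_zero]
  · rw [Matrix.single_apply_of_row_ne hp, Matrix.single_apply_of_row_ne hp, mul_zero]

theorem h5tm_single_mul_diag (f : ι ⊕ ι → K) (i j : ι ⊕ ι) (x : K) :
    Matrix.single i j x * Matrix.diagonal f = Matrix.single i j (x * f j) := by
  ext p q
  rw [Matrix.mul_diagonal]
  by_cases hp : i = p
  · subst hp
    by_cases hq : j = q
    · subst hq
      rw [Matrix.single_apply_same, Matrix.single_apply_same]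
    · rw [Matrix.single_apply_of_col_ne _ _ hq, Matrix.single_apply_of_col_ne _ _ hq, zero_mul]
  · rw [Matrix.single_apply_of_row_ne hp, Matrix.single_apply_of_row_ne hp, zero_mul]

/-- conjugation of the nilpotent parts by a diagonal matrix -/
theorem h5tm_diag_N (f : ι ⊕ ι → K) (hf : ∀ x, f x * f (ng x) = 1) (a c : ι ⊕ ι) (t : K) :
    Matrix.diagonal f * h5ma_N a c t = h5ma_N a c (f a * f c * t) * Matrix.diagonal f := by
  unfold h5ma_N
  split_ifs with h1 h2
  · rw [mul_zero, zero_mul]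
  · subst h2
    rw [h5tm_diag_mul_single, h5tm_single_mul_diag]
    congr 1
    linear_combination (-(f a * t * om K a)) * hf a
  · rw [mul_add, add_mul, h5tm_diag_mul_single, h5tm_diag_mul_single, h5tm_single_mul_diag,
      h5tm_single_mul_diag]
    congr 2
    · linear_combination (-(f c * t * om K a)) * hf a
    · linear_combination (-(f a * t * om K c)) * hf c

theorem h5tm_conj {h : Matrix.symplecticGroup ι K} (hh : h5tm_IsDiag h) (a c : ι ⊕ ι) (t : K) :
    h * XM ι K a c t * h⁻¹ = XM ι K a c ((h : Matrix (ι ⊕ ι) (ι ⊕ ι) K) a a *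
      (h : Matrix (ι ⊕ ι) (ι ⊕ ι) K) c c * t) := by
  rw [mul_inv_eq_iff_eq_mul]
  apply Subtype.ext
  rw [Submonoid.coe_mul, Submonoid.coe_mul, XM_coe, XM_coe, h5ma_XMat_eq, h5ma_XMat_eq]
  have e := h5tm_diag_N (fun d => (h : Matrix (ι ⊕ ι) (ι ⊕ ι) K) d d) (h5tm_prod hh) a c t
  rw [← h5tm_eq_diagonal hh] at e
  rw [mul_sub, sub_mul, mul_one, one_mul, e]

theorem h5tm_comm {h k : Matrix.symplecticGroup ι K} (hh : h5tm_IsDiag h) (hk : h5tm_IsDiag k) :
    h * k = k * h := by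
  apply Subtype.ext
  rw [Submonoid.coe_mul, Submonoid.coe_mul, h5tm_eq_diagonal hh, h5tm_eq_diagonal hk,
    Matrix.diagonal_mul_diagonal, Matrix.diagonal_mul_diagonal]
  congr 1
  funext i
  rw [mul_comm]

theorem h5tm_rich (χ : ι → Kˣ) : ∃ h ∈ h5tm_T ι K, ∀ i,
    (h : Matrix (ι ⊕ ι) (ι ⊕ ι) K) (Sum.inl i) (Sum.inl i) = (χ i : K) := by
  have hg : ∀ x : ι ⊕ ι, (Sum.elim (fun i => (χ i : K)) (fun i => ((χ i)⁻¹ : Kˣ)) : ι ⊕ ι → K) x *
      (Sum.elim (fun i => (χ i : K)) (fun i => ((χ i)⁻¹ : Kˣ)) : ι ⊕ ι → K) (ng x) = 1 := by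
    intro x
    cases x <;> simp
  refine ⟨⟨Matrix.diagonal _, h5tm_diag_mem _ hg⟩, ?_, ?_⟩
  · intro i j hij
    exact Matrix.diagonal_apply_ne _ hij
  · intro i
    show Matrix.diagonal _ (Sum.inl i) (Sum.inl i) = _
    rw [Matrix.diagonal_apply_eq]
    rfl

/-- the entries of a symplectic matrix through the action on the basis vectors -/
theorem h5tm_entry (m : Matrix.symplecticGroup ι K) (i j : ι ⊕ ι) :
    (m : Matrix (ι ⊕ ι) (ι ⊕ ι) K) i j = actM ι K m (Pi.single j 1) i := by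
  show _ = Matrix.toLin' (m : Matrix (ι ⊕ ι) (ι ⊕ ι) K) (Pi.single j 1) i
  rw [Matrix.toLin'_apply, Matrix.mulVec_single_one]
  rfl

theorem h5tm_act_diag {h : Matrix.symplecticGroup ι K} (hh : h5tm_IsDiag h) (d : ι ⊕ ι) :
    actM ι K h (Pi.single d 1) = (h : Matrix (ι ⊕ ι) (ι ⊕ ι) K) d d • Pi.single d (1 : K) := by
  funext i
  rw [← h5tm_entry]
  by_cases hid : i = d
  · subst hid
    simp
  · rw [hh i d hid]
    simp [hid]

theorem h5tm_weyl (a c : ι ⊕ ι) (hac : c ≠ ng a) (s : K) (hs : s ≠ 0)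
    {h : Matrix.symplecticGroup ι K} (hh : h5tm_IsDiag h) :
    h5tm_IsDiag (WC (XM ι K) a c s * h * (WC (XM ι K) a c s)⁻¹) ∧
      ∀ d, ((WC (XM ι K) a c s * h * (WC (XM ι K) a c s)⁻¹ : Matrix.symplecticGroup ι K) :
        Matrix (ι ⊕ ι) (ι ⊕ ι) K) (sgC a c d) (sgC a c d) =
          (h : Matrix (ι ⊕ ι) (ι ⊕ ι) K) d d := by
  obtain ⟨w, hw⟩ : ∃ w : Matrix.symplecticGroup ι K, w = WC (XM ι K) a c s := ⟨_, rfl⟩
  rw [← hw]
  have hact : ∀ d : ι ⊕ ι, actM ι K w (Pi.single d 1) =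
      muC a c s d • Pi.single (sgC a c d) (1 : K) := by
    intro d
    rw [hw]
    exact act_WC (actM ι K) isAct_XM a c hac s hs d
  have hμ : ∀ d : ι ⊕ ι, muC a c s d ≠ 0 :=
    fun d => Cfsg.Agent.Lib.Helper89_S92_EVAL.muC_ne_zero a c s hs d
  have hinvw : ∀ v : ι ⊕ ι → K, actM ι K w⁻¹ (actM ι K w v) = v := by
    intro v
    have : actM ι K w⁻¹ * actM ι K w = 1 := by rw [← map_mul, inv_mul_cancel, map_one]
    calc actM ι K w⁻¹ (actM ι K w v) = (actM ι K w⁻¹ * actM ι K w) v := rfl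
      _ = v := by rw [this]; rfl
  have hwinv : ∀ d : ι ⊕ ι, actM ι K w⁻¹ (Pi.single (sgC a c d) 1) =
      (muC a c s d)⁻¹ • Pi.single d (1 : K) := by
    intro d
    have h1 : Pi.single (sgC a c d) (1 : K) = (muC a c s d)⁻¹ • actM ι K w (Pi.single d 1) := by
      rw [hact d, smul_smul, inv_mul_cancel₀ (hμ d), one_smul]
    rw [h1, map_smul, hinvw]
  have hm : ∀ d : ι ⊕ ι, actM ι K (w * h * w⁻¹) (Pi.single (sgC a c d) 1) =
      (h : Matrix (ι ⊕ ι) (ι ⊕ ι) K) d d • Pi.single (sgC a c d) (1 : K) := by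
    intro d
    rw [map_mul, map_mul]
    show actM ι K w (actM ι K h (actM ι K w⁻¹ (Pi.single (sgC a c d) 1))) = _
    rw [hwinv d, map_smul, h5tm_act_diag hh, map_smul, map_smul, hact d, smul_smul, smul_smul]
    congr 1
    field_simp [hμ d]
  have hm' : ∀ j : ι ⊕ ι, actM ι K (w * h * w⁻¹) (Pi.single j 1) =
      (h : Matrix (ι ⊕ ι) (ι ⊕ ι) K) (sgC a c j) (sgC a c j) • Pi.single j (1 : K) := by
    intro j
    have := hm (sgC a c j)
    rwa [Cfsg.Agent.Lib.Helper89_S92_EVAL.sgC_sgC a c hac j] at this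
  constructor
  · intro i j hij
    rw [h5tm_entry, hm' j]
    simp [hij]
  · intro d
    rw [h5tm_entry, hm' (sgC a c d), Cfsg.Agent.Lib.Helper89_S92_EVAL.sgC_sgC a c hac d]
    simp

end torus

/-- TORUS_M -/
noncomputable def torusM (ι : Type*) [Fintype ι] [DecidableEq ι] (K : Type*) [Field K] :
    TorusC (XM ι K) where
  T := h5tm_T ι K
  chi := fun h d => (h : Matrix (ι ⊕ ι) (ι ⊕ ι) K) d d
  chi_ne := by
    intro h hh d h0
    have := h5tm_prod hh d
    rw [h0, zero_mul] at this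
    exact zero_ne_one this
  chi_ng := fun h hh d => eq_inv_of_mul_eq_one_right (h5tm_prod hh d)
  conj := fun h hh a c t => h5tm_conj hh a c t
  comm := fun h hh k hk => h5tm_comm hh hk
  rich := h5tm_rich
  weyl := fun a c hac s hs h hh => h5tm_weyl a c hac s hs hh

end Cfsg.Agent.Lib.Helper66_S92
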