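import Mathlib
import Cfsg.Agent.Lib.Helper5_SLPresE

/-!
The semantic construction of the root subgroup and the recognition theorem:
a group `Γ` with a homomorphism `π` to `SL₂(F)` and elements `u, t, h` satisfying the
"Borel conditions" and the Weyl relations is mapped isomorphically by `π`.
-/

namespace Cfsg.Agent.Lib.Helper5_SLPresF

open Matrix Cfsg.Agent.Lib.Helper5_SteinbergA Cfsg.Agent.Lib.Helper5_SLPresC
  Cfsg.Agent.Lib.Helper5_SLPresE Cfsg.Agent.Lib.Helper5_SLPresB Cfsg.Agent.Lib.Helper5_SLPresA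

variable {F : Type*} [Field F] [Finite F] {Γ : Type*} [Group Γ]

/-- the hypotheses of the recognition theorem -/
structure RData (π : Γ →* Matrix.SpecialLinearGroup (Fin 2) F) (u t h : Γ) (ζ : Fˣ) : Prop where
  πu : π u = xm 1
  πt : π t = wm F
  πh : π h = hm ζ
  gen : ∀ a : F, a ≠ 0 → ∃ m : ℕ, a = (ζ : F) ^ m
  comm : ∀ i j, Commute (cj u h i) (cj u h j)
  fin : Finite (UU u h)
  card : Nat.card (UU u h) ≤ Nat.card F
  span : ∀ a : F, ∃ g ∈ UU u h, π g = xm a
  th : t * h * t⁻¹ = h⁻¹
  w1 : u * (t * u * t⁻¹) * u = t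
  wz : ∃ A ∈ UU u h, ∃ B ∈ UU u h, π A = xm (ζ : F) ∧ π B = xm (ζ : F)⁻¹ ∧
    A * (t * B * t⁻¹) * A = h * t
  top : Subgroup.closure ({u, t, h} : Set Γ) = ⊤

variable {π : Γ →* Matrix.SpecialLinearGroup (Fin 2) F} {u t h : Γ} {ζ : Fˣ}

namespace RData

theorem inj_on (D : RData π u t h ζ) {g g' : Γ} (hg : g ∈ UU u h) (hg' : g' ∈ UU u h)
    (e : π g = π g') : g = g' := by
  classical
  have := D.fin
  -- the map U → F, surjective with card U ≤ card F, hence injective
  have hex : ∀ g : UU u h, ∃ a : F, π g = xm a := by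
    rintro ⟨g, hg⟩
    unfold UU at hg
    induction hg using Subgroup.closure_induction with
    | mem y hy =>
      obtain ⟨i, rfl⟩ := hy
      exact ⟨_, by rw [map_cj, D.πu, D.πh, cj_xm]⟩
    | one => exact ⟨0, by rw [map_one, xm_zero]⟩
    | mul a b _ _ ha hb =>
      obtain ⟨a', ha'⟩ := ha
      obtain ⟨b', hb'⟩ := hb
      exact ⟨a' + b', by rw [map_mul, ha', hb', xm_add]⟩
    | inv a _ ha =>
      obtain ⟨a', ha'⟩ := ha
      refine ⟨-a', ?_⟩
      rw [map_inv, ha', inv_eq_iff_mul_eq_one, xm_add, add_neg_cancel, xm_zero]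
  choose f hf using hex
  have hsurj : Function.Surjective f := by
    intro a
    obtain ⟨g, hg, hga⟩ := D.span a
    refine ⟨⟨g, hg⟩, ?_⟩
    apply xm_injective
    rw [← hf, hga]
  have hbij := hsurj.bijective_of_nat_card_le D.card
  have := hbij.1 (a₁ := ⟨g, hg⟩) (a₂ := ⟨g', hg'⟩) (by
    apply xm_injective
    rw [← hf, ← hf]
    exact e)
  exact congrArg Subtype.val this

/-- the root subgroup, defined semantically -/
noncomputable def xx (D : RData π u t h ζ) (a : F) : Γ := Classical.choose (D.span a)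

theorem xx_mem (D : RData π u t h ζ) (a : F) : D.xx a ∈ UU u h :=
  (Classical.choose_spec (D.span a)).1

theorem π_xx (D : RData π u t h ζ) (a : F) : π (D.xx a) = xm a :=
  (Classical.choose_spec (D.span a)).2

theorem eq_xx (D : RData π u t h ζ) {g : Γ} (hg : g ∈ UU u h) {a : F} (e : π g = xm a) :
    g = D.xx a :=
  D.inj_on hg (D.xx_mem a) (by rw [e, D.π_xx])

theorem tdata (D : RData π u t h ζ) : TData D.xx t h (ζ : F) := by
  constructor
  · exact ζ.ne_zero
  · intro a b
    exact D.eq_xx (mul_mem (D.xx_mem a) (D.xx_mem b)) (by rw [map_mul, D.π_xx, D.π_xx, xm_add])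
  · intro a
    exact D.eq_xx (conj_mem_UU u h (D.xx_mem a))
      (by rw [map_mul, map_mul, map_inv, D.π_xx, D.πh, hm_xm])
  · exact D.th
  · have : D.xx 1 = u := (D.eq_xx (u_mem_UU u h) D.πu).symm
    rw [this]
    exact D.w1
  · obtain ⟨A, hA, B, hB, eA, eB, e⟩ := D.wz
    rw [← D.eq_xx hA eA, ← D.eq_xx hB eB]
    exact e
  · exact D.gen

theorem bijective (D : RData π u t h ζ) : Function.Bijective π := by
  obtain ⟨Φ, hΦ⟩ := exists_hom_of_rel D.tdata.rel
  have hπΦ : π.comp Φ = MonoidHom.id _ := by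
    apply hom_ext_mx
    rintro ⟨b, a⟩
    rw [MonoidHom.comp_apply, hΦ, MonoidHom.id_apply]
    cases b
    · show π (yy D.xx t a) = mx (false, a)
      unfold yy
      rw [map_mul, map_mul, map_inv, D.π_xx, D.πt, wm_xm]
      rfl
    · show π (D.xx a) = mx (true, a)
      rw [D.π_xx]; rfl
  have hΦinj : Function.Injective Φ := by
    intro a b hab
    have := congrArg π hab
    have e1 : ∀ s, π (Φ s) = s := fun s => by
      have := DFunLike.congr_fun hπΦ s
      simpa using this
    rwa [e1, e1] at this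
  have hΦsurj : Function.Surjective Φ := by
    rw [← MonoidHom.range_eq_top, eq_top_iff, ← D.top, Subgroup.closure_le]
    have hu : u ∈ Φ.range := by
      have : D.xx 1 = u := (D.eq_xx (u_mem_UU u h) D.πu).symm
      exact ⟨mx (true, 1), by rw [hΦ]; exact this⟩
    have hx : ∀ a, XX D.xx t true a ∈ Φ.range := fun a => ⟨mx (true, a), hΦ true a⟩
    have hy : ∀ a, XX D.xx t false a ∈ Φ.range := fun a => ⟨mx (false, a), hΦ false a⟩
    have hW : ∀ a, W (XX D.xx t) true a ∈ Φ.range := fun a =>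
      mul_mem (mul_mem (hx a) (hy _)) (hx a)
    have ht : t ∈ Φ.range := by
      have := hW 1
      rwa [D.tdata.W_one] at this
    have hh : h ∈ Φ.range := by
      have := hW (ζ : F)
      rw [D.tdata.W_zeta] at this
      have h2 := mul_mem this (inv_mem ht)
      rwa [mul_inv_cancel_right] at h2
    intro g hg
    rcases hg with rfl | rfl | rfl
    · exact hu
    · exact ht
    · exact hh
  -- π is the inverse of Φ
  constructor
  · intro a b hab
    obtain ⟨a', rfl⟩ := hΦsurj a
    obtain ⟨b', rfl⟩ := hΦsurj b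
    have e1 : ∀ s, π (Φ s) = s := fun s => by
      have := DFunLike.congr_fun hπΦ s
      simpa using this
    rw [e1, e1] at hab
    rw [hab]
  · intro s
    exact ⟨Φ s, by
      have := DFunLike.congr_fun hπΦ s
      simpa using this⟩

end RData

end Cfsg.Agent.Lib.Helper5_SLPresF
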