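import Mathlib
import Cfsg.Agent.Lib.Helper5_SLPresF

/-!
The relators of the bounded presentations (odd characteristic), as polymorphic words.
-/

namespace Cfsg.Agent.Lib.Helper5_SLPresG

open Cfsg.Agent.Lib.Helper5_SLPresC

variable {G : Type*} [Group G]

/-- an optional conjugate -/
def opt (u h : G) : Option ℕ → G
  | none => 1
  | some i => cj u h i

theorem map_opt {H : Type*} [Group H] (f : G →* H) (u h : G) (o : Option ℕ) :
    f (opt u h o) = opt (f u) (f h) o := by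
  cases o
  · simp [opt]
  · simp [opt, map_cj]

theorem opt_mem (u h : G) (o : Option ℕ) : opt u h o ∈ UU u h := by
  cases o
  · exact one_mem _
  · exact mem_UU u h _

/-- parameters of the presentation in odd characteristic -/
structure OddParams where
  p : ℕ
  b : ℕ
  k : ℕ
  d : ℕ
  c : Fin d → ℕ
  o₁ : Option ℕ
  o₂ : Option ℕ
  o₃ : Option ℕ
  o₄ : Option ℕ

/-- the eight relators -/
def oddRels (P : OddParams) (u t h : G) : List G :=
  [u ^ P.p,
   cj u h 0 * cj u h 1 * (cj u h 1 * cj u h 0)⁻¹,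
   cj u h P.k * (cj u h 0 * (cj u h 1) ^ P.b * cj u h 2)⁻¹,
   cj u h P.k * (cj u h 2 * (cj u h 1) ^ P.b * cj u h 0)⁻¹,
   cj u h P.d * (pw u h P.d P.c 0)⁻¹,
   t * h * t⁻¹ * h,
   u * (t * u * t⁻¹) * u * t⁻¹,
   (opt u h P.o₁ * opt u h P.o₂) * (t * (opt u h P.o₃ * opt u h P.o₄) * t⁻¹) *
     (opt u h P.o₁ * opt u h P.o₂) * (h * t)⁻¹]

theorem map_oddRels {H : Type*} [Group H] (f : G →* H) (P : OddParams) (u t h : G) :
    (oddRels P u t h).map f = oddRels P (f u) (f t) (f h) := by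
  simp only [oddRels, List.map_cons, List.map_nil, map_mul, map_inv, map_pow, map_cj, map_pw,
    map_opt]

/-- the relations, unpacked -/
structure OddHolds (P : OddParams) (u t h : G) : Prop where
  r1 : u ^ P.p = 1
  r2 : cj u h 0 * cj u h 1 = cj u h 1 * cj u h 0
  r3 : cj u h P.k = cj u h 0 * (cj u h 1) ^ P.b * cj u h 2
  r4 : cj u h P.k = cj u h 2 * (cj u h 1) ^ P.b * cj u h 0
  r5 : cj u h P.d = pw u h P.d P.c 0
  r6 : t * h * t⁻¹ = h⁻¹
  r7 : u * (t * u * t⁻¹) * u = t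
  r8 : (opt u h P.o₁ * opt u h P.o₂) * (t * (opt u h P.o₃ * opt u h P.o₄) * t⁻¹) *
     (opt u h P.o₁ * opt u h P.o₂) = h * t

theorem oddHolds_iff (P : OddParams) (u t h : G) :
    (∀ r ∈ oddRels P u t h, r = 1) ↔ OddHolds P u t h := by
  simp only [oddRels, List.forall_mem_cons, List.not_mem_nil, false_imp_iff, implies_true,
    and_true, mul_inv_eq_one]
  constructor
  · rintro ⟨h1, h2, h3, h4, h5, h6, h7, h8⟩
    exact ⟨h1, h2, h3, h4, h5, by rw [← mul_eq_one_iff_eq_inv]; exact h6, h7, h8⟩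
  · rintro ⟨h1, h2, h3, h4, h5, h6, h7, h8⟩
    exact ⟨h1, h2, h3, h4, h5, by rw [mul_eq_one_iff_eq_inv]; exact h6, h7, h8⟩

end Cfsg.Agent.Lib.Helper5_SLPresG
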