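import Mathlib
import Cfsg.Agent.Lib.Helper5_SLPresG

/-!
Odd characteristic: arithmetic parameters, the relations in `SL₂(F)`, and the recognition data.
-/

namespace Cfsg.Agent.Lib.Helper5_SLPresG

open Matrix Cfsg.Agent.Lib.Helper5_SLPresC Cfsg.Agent.Lib.Helper5_SLPresE
  Cfsg.Agent.Lib.Helper5_SLPresF

variable {F : Type*} [Field F]

/-- value of an optional power -/
def val (ζ : Fˣ) : Option ℕ → F
  | none => 0
  | some i => ((ζ : F) ^ 2) ^ i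

theorem opt_xm (ζ : Fˣ) (o : Option ℕ) : opt (xm (1 : F)) (hm ζ) o = xm (val ζ o) := by
  cases o
  · simp [opt, val, xm_zero]
  · simp [opt, val, cj_xm]

/-- the arithmetic conditions on the parameters -/
structure OddArith (F : Type*) [Field F] (P : OddParams) (ζ : Fˣ) : Prop where
  hp : 0 < P.p
  cast_p : (P.p : F) = 0
  gen : ∀ a : F, a ≠ 0 → ∃ m : ℕ, a = (ζ : F) ^ m
  hk : ((ζ : F) ^ 2) ^ P.k = 1 + (P.b : F) * (ζ : F) ^ 2 + ((ζ : F) ^ 2) ^ 2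
  hd : ((ζ : F) ^ 2) ^ P.d = ∑ i : Fin P.d, (P.c i : F) * ((ζ : F) ^ 2) ^ (i : ℕ)
  hcard : P.p ^ P.d ≤ Nat.card F
  ho12 : (ζ : F) = val ζ P.o₁ + val ζ P.o₂
  ho34 : (ζ : F)⁻¹ = val ζ P.o₃ + val ζ P.o₄
  sq : ∀ a : F, ∃ r s : F, a = r ^ 2 + s ^ 2

theorem oddHolds_matrix {P : OddParams} {ζ : Fˣ} (A : OddArith F P ζ) :
    OddHolds P (xm (1 : F)) (wm F) (hm ζ) := by
  constructor
  · rw [xm_pow, mul_one, A.cast_p, xm_zero]
  · rw [cj_xm, cj_xm, xm_add, xm_add, add_comm]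
  · rw [cj_xm, cj_xm, cj_xm, cj_xm, xm_pow, xm_add, xm_add, A.hk]
    congr 1; ring
  · rw [cj_xm, cj_xm, cj_xm, cj_xm, xm_pow, xm_add, xm_add, A.hk]
    congr 1; ring
  · rw [cj_xm, pw_xm, mul_one, A.hd]
    rfl
  · exact wm_hm ζ
  · exact w_one_eq
  · rw [opt_xm, opt_xm, opt_xm, opt_xm, xm_add, xm_add, ← A.ho12, ← A.ho34]
    exact w_zeta_eq ζ

theorem rdata_of_odd [Finite F] {Γ : Type*} [Group Γ] {P : OddParams} {ζ : Fˣ}
    (A : OddArith F P ζ) (π : Γ →* Matrix.SpecialLinearGroup (Fin 2) F) (u t h : Γ)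
    (πu : π u = xm 1) (πt : π t = wm F) (πh : π h = hm ζ) (H : OddHolds P u t h)
    (top : Subgroup.closure ({u, t, h} : Set Γ) = ⊤) : RData π u t h ζ := by
  have hcomm : ∀ i j, Commute (cj u h i) (cj u h j) :=
    commute_all_three u h P.b P.k H.r2 H.r3 H.r4
  have hU := UU_eq u h P.d P.c H.r5
  have hcl := card_closure_le P.d (fun j : Fin P.d => cj u h j) (fun i j => hcomm i j) P.p A.hp
    (fun i => cj_pow_eq_one u h i P.p H.r1)
  have hsq : ∀ r : F, ∃ g ∈ UU u h, π g = xm (r ^ 2) := by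
    intro r
    by_cases hr : r = 0
    · exact ⟨1, one_mem _, by rw [map_one, hr, zero_pow (by norm_num), xm_zero]⟩
    · obtain ⟨m, rfl⟩ := A.gen r hr
      refine ⟨cj u h m, mem_UU u h m, ?_⟩
      rw [map_cj, πu, πh, cj_xm, mul_one]
      congr 1; ring
  refine
    { πu := πu, πt := πt, πh := πh, gen := A.gen, comm := hcomm, fin := ?_, card := ?_,
      span := ?_, th := H.r6, w1 := H.r7, wz := ?_, top := top }
  · rw [hU]; exact hcl.1
  · rw [hU]; exact hcl.2.trans A.hcard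
  · intro a
    obtain ⟨r, s, rfl⟩ := A.sq a
    obtain ⟨g1, hg1, e1⟩ := hsq r
    obtain ⟨g2, hg2, e2⟩ := hsq s
    exact ⟨g1 * g2, mul_mem hg1 hg2, by rw [map_mul, e1, e2, xm_add]⟩
  · refine ⟨opt u h P.o₁ * opt u h P.o₂, mul_mem (opt_mem _ _ _) (opt_mem _ _ _),
      opt u h P.o₃ * opt u h P.o₄, mul_mem (opt_mem _ _ _) (opt_mem _ _ _), ?_, ?_, H.r8⟩
    · rw [map_mul, map_opt, map_opt, πu, πh, opt_xm, opt_xm, xm_add, ← A.ho12]
    · rw [map_mul, map_opt, map_opt, πu, πh, opt_xm, opt_xm, xm_add, ← A.ho34]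

end Cfsg.Agent.Lib.Helper5_SLPresG
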