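import Mathlib
import Cfsg.Agent.Lib.Helper5_SLPresH

namespace Cfsg.Agent.Lib.Helper5_SLPresG

open Polynomial

variable {F : Type*} [Field F]

/-- every element of a finite field of odd order is a sum of two squares -/
theorem sum_two_sq [Finite F] (h2 : ringChar F ≠ 2) (a : F) : ∃ r s : F, a = r ^ 2 + s ^ 2 := by
  classical
  have := Fintype.ofFinite F
  let f : F[X] := X ^ 2
  let g : F[X] := X ^ 2 - C a
  obtain ⟨r, s, hrs⟩ : ∃ r s, f.eval r + g.eval s = 0 :=
    FiniteField.exists_root_sum_quadratic (degree_X_pow 2) (degree_X_pow_sub_C (by decide) _)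
      (FiniteField.odd_card_of_char_ne_two h2)
  refine ⟨r, s, ?_⟩
  simp only [f, g, eval_pow, eval_X, eval_sub, eval_C] at hrs
  linear_combination -hrs

/-- the minimal polynomial relation with natural number coefficients -/
theorem exists_minpoly_rel [Finite F] (p : ℕ) [Fact p.Prime] [CharP F p] (σ : F) :
    ∃ (d : ℕ) (c : Fin d → ℕ), p ^ d ≤ Nat.card F ∧
      σ ^ d = ∑ i : Fin d, (c i : F) * σ ^ (i : ℕ) := by
  classical
  have := Fintype.ofFinite F
  let _ : Algebra (ZMod p) F := ZMod.algebra F p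
  have hint : IsIntegral (ZMod p) σ := Algebra.IsIntegral.isIntegral σ
  have hmon : (minpoly (ZMod p) σ).Monic := minpoly.monic hint
  have haev : Polynomial.aeval σ (minpoly (ZMod p) σ) = 0 := minpoly.aeval _ _
  set m := minpoly (ZMod p) σ with hm
  refine ⟨m.natDegree, fun i => (-(m.coeff i)).val, ?_, ?_⟩
  · have h1 : m.natDegree ≤ Module.finrank (ZMod p) F := minpoly.natDegree_le σ
    have h2 : Nat.card F = p ^ Module.finrank (ZMod p) F := by
      rw [Nat.card_eq_fintype_card, Module.card_eq_pow_finrank (K := ZMod p), ZMod.card]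
    rw [h2]
    exact Nat.pow_le_pow_right (Nat.Prime.pos Fact.out) h1
  · have hsum := hmon.as_sum
    rw [hsum] at haev
    simp only [map_add, map_pow, aeval_X, map_sum, map_mul, aeval_C] at haev
    have e : ∀ i : ℕ, (((-(m.coeff i)).val : ℕ) : F) = -(algebraMap (ZMod p) F (m.coeff i)) := by
      intro i
      rw [← map_neg]
      conv_rhs => rw [← ZMod.natCast_zmod_val (-(m.coeff i))]
      rw [map_natCast]
    rw [Fin.sum_univ_eq_sum_range (fun i => (((-(m.coeff i)).val : ℕ) : F) * σ ^ i)]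
    simp_rw [e]
    rw [Finset.sum_congr rfl (fun i _ => neg_mul _ _), Finset.sum_neg_distrib]
    linear_combination haev

theorem exists_oddArith (F : Type*) [Field F] [Finite F] (h2 : ringChar F ≠ 2) :
    ∃ (P : OddParams) (ζ : Fˣ), OddArith F P ζ := by
  classical
  have := Fintype.ofFinite F
  set p := ringChar F with hpdef
  have : CharP F p := ringChar.charP F
  have hpp : p.Prime := CharP.char_is_prime F p
  have : Fact p.Prime := ⟨hpp⟩
  obtain ⟨ζ, hζ⟩ := IsCyclic.exists_monoid_generator (α := Fˣ)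
  have gen : ∀ a : F, a ≠ 0 → ∃ m : ℕ, a = (ζ : F) ^ m := by
    intro a ha
    obtain ⟨m, hm⟩ := hζ (Units.mk0 a ha)
    refine ⟨m, ?_⟩
    have := congrArg (fun x : Fˣ => (x : F)) hm
    simpa using this.symm
  have two_ne : (2 : F) ≠ 0 := Ring.two_ne_zero h2
  set σ := (ζ : F) ^ 2 with hσ
  obtain ⟨b, k, hk⟩ : ∃ b k : ℕ, σ ^ k = 1 + (b : F) * σ + σ ^ 2 := by
    by_cases h1 : 1 + σ = 0
    · have h3 : 1 - σ ≠ 0 := by
        have : 1 - σ = 2 := by linear_combination -h1
        rw [this]; exact two_ne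
      obtain ⟨m, hm⟩ := gen (1 - σ) h3
      refine ⟨p - 2, m, ?_⟩
      have hb : ((p - 2 : ℕ) : F) = -2 := by
        rw [Nat.cast_sub hpp.two_le, CharP.cast_eq_zero]; norm_num
      rw [hb]
      calc σ ^ m = ((ζ : F) ^ m) ^ 2 := by rw [hσ]; ring
        _ = (1 - σ) ^ 2 := by rw [← hm]
        _ = _ := by ring
    · obtain ⟨m, hm⟩ := gen (1 + σ) h1
      refine ⟨2, m, ?_⟩
      calc σ ^ m = ((ζ : F) ^ m) ^ 2 := by rw [hσ]; ring
        _ = (1 + σ) ^ 2 := by rw [← hm]
        _ = _ := by push_cast; ring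
  obtain ⟨d, c, hcard, hd⟩ := exists_minpoly_rel p σ
  have hval : ∀ r : F, ∃ o : Option ℕ, val ζ o = r ^ 2 := by
    intro r
    by_cases hr : r = 0
    · exact ⟨none, by simp [val, hr]⟩
    · obtain ⟨m, hm⟩ := gen r hr
      exact ⟨some m, by simp only [val]; rw [hm]; ring⟩
  have hval2 : ∀ a : F, ∃ o o' : Option ℕ, a = val ζ o + val ζ o' := by
    intro a
    obtain ⟨r, s, rfl⟩ := sum_two_sq h2 a
    obtain ⟨o, ho⟩ := hval r
    obtain ⟨o', ho'⟩ := hval s
    exact ⟨o, o', by rw [ho, ho']⟩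
  obtain ⟨o₁, o₂, h12⟩ := hval2 (ζ : F)
  obtain ⟨o₃, o₄, h34⟩ := hval2 (ζ : F)⁻¹
  refine ⟨⟨p, b, k, d, c, o₁, o₂, o₃, o₄⟩, ζ, ?_⟩
  exact
    { hp := hpp.pos
      cast_p := CharP.cast_eq_zero F p
      gen := gen
      hk := hk
      hd := hd
      hcard := hcard
      ho12 := h12
      ho34 := h34
      sq := sum_two_sq h2 }

end Cfsg.Agent.Lib.Helper5_SLPresG
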