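import Mathlib
import Cfsg.Agent.Lib.Helper5_SLPresI

/-!
Generic assembly: presented groups on three generators, passage to `PSL₂`.
-/

namespace Cfsg.Agent.Lib.Helper5_SLPresJ

open Matrix Cfsg.Agent.Lib.Helper5_SLPresE

variable {F : Type*} [Field F]

/-- the three generators of the free group -/
def gu : FreeGroup (Fin 3) := FreeGroup.of 0
/-- second generator -/
def gt : FreeGroup (Fin 3) := FreeGroup.of 1
/-- third generator -/
def gh : FreeGroup (Fin 3) := FreeGroup.of 2

theorem closure_three (rels : Set (FreeGroup (Fin 3))) :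
    Subgroup.closure ({PresentedGroup.mk rels gu, PresentedGroup.mk rels gt,
      PresentedGroup.mk rels gh} : Set (PresentedGroup rels)) = ⊤ := by
  rw [eq_top_iff, ← PresentedGroup.closure_range_of rels]
  apply Subgroup.closure_mono
  rintro _ ⟨i, rfl⟩
  fin_cases i
  · left; rfl
  · right; left; rfl
  · right; right; rfl

/-- the centre of `SL₂` consists of `±1` -/
theorem center_sl2 (A : Matrix.SpecialLinearGroup (Fin 2) F)
    (hA : A ∈ Subgroup.center (Matrix.SpecialLinearGroup (Fin 2) F)) : A = 1 ∨ A = -1 := by
  rw [Matrix.SpecialLinearGroup.mem_center_iff] at hA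
  obtain ⟨r, hr, hrA⟩ := hA
  rw [Fintype.card_fin] at hr
  have : (r - 1) * (r + 1) = 0 := by linear_combination hr
  rcases mul_eq_zero.mp this with h | h
  · left
    have : r = 1 := by linear_combination h
    rw [this] at hrA
    apply Subtype.ext
    rw [← hrA]
    simp
  · right
    have : r = -1 := by linear_combination h
    rw [this] at hrA
    apply Subtype.ext
    rw [← hrA]
    ext i j
    fin_cases i <;> fin_cases j <;> simp

theorem neg_one_mem_center :
    (-1 : Matrix.SpecialLinearGroup (Fin 2) F) ∈
      Subgroup.center (Matrix.SpecialLinearGroup (Fin 2) F) := by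
  rw [Matrix.SpecialLinearGroup.mem_center_iff]
  refine ⟨-1, by simp, ?_⟩
  ext i j
  fin_cases i <;> fin_cases j <;> simp

/-- adding a relator mapping to `-1` presents `PSL₂` -/
theorem psl_of_sl (rels : Set (FreeGroup (Fin 3)))
    (f : Fin 3 → Matrix.SpecialLinearGroup (Fin 2) F)
    (hrel : ∀ r ∈ rels, FreeGroup.lift f r = 1)
    (hbij : Function.Bijective (PresentedGroup.toGroup hrel))
    (r0 : FreeGroup (Fin 3)) (hr0 : FreeGroup.lift f r0 = -1) :
    Nonempty (PresentedGroup (insert r0 rels) ≃* Matrix.ProjectiveSpecialLinearGroup (Fin 2) F) := by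
  set rels' := insert r0 rels with hrels'
  let mkP : Matrix.SpecialLinearGroup (Fin 2) F →* Matrix.ProjectiveSpecialLinearGroup (Fin 2) F :=
    QuotientGroup.mk' _
  -- the map Γ → Γ'
  have hq : ∀ r ∈ rels, FreeGroup.lift (fun i : Fin 3 => (PresentedGroup.of i : PresentedGroup rels')) r = 1 := by
    intro r hr
    have e : FreeGroup.lift (fun i : Fin 3 => (PresentedGroup.of i : PresentedGroup rels')) =
        PresentedGroup.mk rels' := by
      ext i; simp [PresentedGroup.of]
    rw [e]
    exact PresentedGroup.one_of_mem (Set.mem_insert_of_mem _ hr)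
  let q : PresentedGroup rels →* PresentedGroup rels' := PresentedGroup.toGroup hq
  -- the map Γ' → PSL₂
  have e' : FreeGroup.lift (fun i : Fin 3 => mkP (f i)) = mkP.comp (FreeGroup.lift f) := by
    ext i; simp
  have hπ' : ∀ r ∈ rels', FreeGroup.lift (fun i : Fin 3 => mkP (f i)) r = 1 := by
    intro r hr
    rw [e', MonoidHom.comp_apply]
    rcases hr with rfl | hr
    · rw [hr0]
      exact (QuotientGroup.eq_one_iff _).mpr neg_one_mem_center
    · rw [hrel r hr, map_one]
  let π' : PresentedGroup rels' →* Matrix.ProjectiveSpecialLinearGroup (Fin 2) F :=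
    PresentedGroup.toGroup hπ'
  have hcomp : π'.comp q = mkP.comp (PresentedGroup.toGroup hrel) := by
    apply PresentedGroup.ext
    intro i
    simp only [MonoidHom.comp_apply]
    rw [PresentedGroup.toGroup.of, PresentedGroup.toGroup.of, PresentedGroup.toGroup.of]
  have hqsurj : Function.Surjective q := by
    rw [← MonoidHom.range_eq_top, eq_top_iff, ← PresentedGroup.closure_range_of rels',
      Subgroup.closure_le]
    rintro _ ⟨i, rfl⟩
    exact ⟨PresentedGroup.of i, PresentedGroup.toGroup.of hq⟩
  refine ⟨MulEquiv.ofBijective π' ⟨?_, ?_⟩⟩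
  · rw [injective_iff_map_eq_one]
    intro y hy
    obtain ⟨g, rfl⟩ := hqsurj y
    have h1 : mkP (PresentedGroup.toGroup hrel g) = 1 := by
      have := DFunLike.congr_fun hcomp g
      simp only [MonoidHom.comp_apply] at this
      rw [← this]; exact hy
    have h2 : PresentedGroup.toGroup hrel g ∈
        Subgroup.center (Matrix.SpecialLinearGroup (Fin 2) F) :=
      (QuotientGroup.eq_one_iff _).mp h1
    rcases center_sl2 _ h2 with h3 | h3
    · have : g = 1 := hbij.1 (by rw [h3, map_one])
      rw [this, map_one]
    · have : g = PresentedGroup.mk rels r0 := hbij.1 (by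
        rw [h3]
        show -1 = PresentedGroup.toGroup hrel (PresentedGroup.mk rels r0)
        rw [← hr0]
        rfl)
      rw [this]
      have e2 : q (PresentedGroup.mk rels r0) = PresentedGroup.mk rels' r0 := by
        have : q.comp (PresentedGroup.mk rels) = PresentedGroup.mk rels' := by
          ext i
          simp only [MonoidHom.comp_apply]
          exact PresentedGroup.toGroup.of hq
        exact DFunLike.congr_fun this r0
      rw [e2]
      exact PresentedGroup.one_of_mem (Set.mem_insert _ _)
  · intro z
    obtain ⟨s, rfl⟩ := QuotientGroup.mk'_surjective _ z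
    obtain ⟨g, rfl⟩ := hbij.2 s
    refine ⟨q g, ?_⟩
    have := DFunLike.congr_fun hcomp g
    simpa only [MonoidHom.comp_apply] using this

/-- in characteristic two, `SL₂ ≃ PSL₂` -/
theorem psl_of_sl_two [CharP F 2] (rels : Set (FreeGroup (Fin 3)))
    (e : PresentedGroup rels ≃* Matrix.SpecialLinearGroup (Fin 2) F) :
    Nonempty (PresentedGroup rels ≃* Matrix.ProjectiveSpecialLinearGroup (Fin 2) F) := by
  have hbot : Subgroup.center (Matrix.SpecialLinearGroup (Fin 2) F) = ⊥ := by
    rw [eq_bot_iff]
    intro A hA
    rw [Subgroup.mem_bot]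
    rcases center_sl2 A hA with h | h
    · exact h
    · rw [h]
      ext i j
      have : (-1 : F) = 1 := by
        have : (2 : F) = 0 := CharP.cast_eq_zero F 2
        linear_combination -this
      fin_cases i <;> fin_cases j <;> simp [this]
  let mkP : Matrix.SpecialLinearGroup (Fin 2) F →* Matrix.ProjectiveSpecialLinearGroup (Fin 2) F :=
    QuotientGroup.mk' _
  have hb : Function.Bijective mkP := by
    constructor
    · rw [injective_iff_map_eq_one]
      intro a ha
      have := (QuotientGroup.eq_one_iff _).mp ha
      rw [hbot, Subgroup.mem_bot] at this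
      exact this
    · exact QuotientGroup.mk'_surjective _
  exact ⟨e.trans (MulEquiv.ofBijective mkP hb)⟩

end Cfsg.Agent.Lib.Helper5_SLPresJ
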