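import Mathlib
import Cfsg.Agent.Lib.Helper5_SLPresJ

/-!
Odd characteristic: the presentations of `SL₂(F)` and `PSL₂(F)`.
-/

namespace Cfsg.Agent.Lib.Helper5_SLPresK

open Matrix Cfsg.Agent.Lib.Helper5_SLPresE Cfsg.Agent.Lib.Helper5_SLPresG
  Cfsg.Agent.Lib.Helper5_SLPresJ Cfsg.Agent.Lib.Helper5_SLPresF

variable {F : Type*} [Field F]

/-- the images of the three generators -/
def gens (ζ : Fˣ) : Fin 3 → Matrix.SpecialLinearGroup (Fin 2) F := ![xm 1, wm F, hm ζ]

theorem lift_gu (ζ : Fˣ) : FreeGroup.lift (gens ζ) gu = xm 1 := by simp [gu, gens]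
theorem lift_gt (ζ : Fˣ) : FreeGroup.lift (gens ζ) gt = wm F := by simp [gt, gens]
theorem lift_gh (ζ : Fˣ) : FreeGroup.lift (gens ζ) gh = hm ζ := by simp [gh, gens]

/-- the relators in odd characteristic -/
def oddFinset (P : OddParams) : Finset (FreeGroup (Fin 3)) := (oddRels P gu gt gh).toFinset

theorem card_oddFinset (P : OddParams) : (oddFinset P).card ≤ 8 :=
  (List.toFinset_card_le _).trans (by simp [oddRels])

theorem lift_oddFinset {P : OddParams} {ζ : Fˣ} (A : OddArith F P ζ) :
    ∀ r ∈ (↑(oddFinset P) : Set (FreeGroup (Fin 3))), FreeGroup.lift (gens ζ) r = 1 := by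
  intro r hr
  rw [Finset.mem_coe, oddFinset, List.mem_toFinset] at hr
  have h1 : FreeGroup.lift (gens ζ) r ∈ (oddRels P gu gt gh).map (FreeGroup.lift (gens ζ)) :=
    List.mem_map_of_mem hr
  rw [map_oddRels, lift_gu, lift_gt, lift_gh] at h1
  exact (oddHolds_iff P _ _ _).mpr (oddHolds_matrix A) _ h1

theorem odd_bijective [Finite F] {P : OddParams} {ζ : Fˣ} (A : OddArith F P ζ) :
    Function.Bijective (PresentedGroup.toGroup (lift_oddFinset A)) := by
  set rels : Set (FreeGroup (Fin 3)) := ↑(oddFinset P) with hrels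
  have hH : OddHolds P (PresentedGroup.mk rels gu) (PresentedGroup.mk rels gt)
      (PresentedGroup.mk rels gh) := by
    rw [← oddHolds_iff, ← map_oddRels]
    intro r hr
    rw [List.mem_map] at hr
    obtain ⟨r0, hr0, rfl⟩ := hr
    apply PresentedGroup.one_of_mem
    rw [hrels, Finset.mem_coe, oddFinset, List.mem_toFinset]
    exact hr0
  have D := rdata_of_odd A (PresentedGroup.toGroup (lift_oddFinset A))
    (PresentedGroup.mk rels gu) (PresentedGroup.mk rels gt) (PresentedGroup.mk rels gh)
    (by rw [gu]; exact (PresentedGroup.toGroup.of (lift_oddFinset A)).trans (by simp [gens]))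
    (by rw [gt]; exact (PresentedGroup.toGroup.of (lift_oddFinset A)).trans (by simp [gens]))
    (by rw [gh]; exact (PresentedGroup.toGroup.of (lift_oddFinset A)).trans (by simp [gens]))
    hH (closure_three rels)
  exact D.bijective

theorem odd_main (F : Type*) [Field F] [Finite F] (h2 : ringChar F ≠ 2) :
    (∃ rels : Finset (FreeGroup (Fin 3)), rels.card ≤ 9 ∧
      Nonempty (PresentedGroup (↑rels : Set (FreeGroup (Fin 3))) ≃*
        Matrix.SpecialLinearGroup (Fin 2) F)) ∧
    (∃ rels : Finset (FreeGroup (Fin 3)), rels.card ≤ 9 ∧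
      Nonempty (PresentedGroup (↑rels : Set (FreeGroup (Fin 3))) ≃*
        Matrix.ProjectiveSpecialLinearGroup (Fin 2) F)) := by
  classical
  obtain ⟨P, ζ, A⟩ := exists_oddArith F h2
  have hb := odd_bijective A
  constructor
  · exact ⟨oddFinset P, (card_oddFinset P).trans (by norm_num),
      ⟨MulEquiv.ofBijective _ hb⟩⟩
  · refine ⟨insert (gt * gt) (oddFinset P), ?_, ?_⟩
    · exact (Finset.card_insert_le _ _).trans (by have := card_oddFinset P; omega)
    · have := psl_of_sl (↑(oddFinset P)) (gens ζ) (lift_oddFinset A) hb (gt * gt)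
        (by rw [map_mul, lift_gt, wm_sq])
      rw [Finset.coe_insert]
      exact this

end Cfsg.Agent.Lib.Helper5_SLPresK
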