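import Mathlib
import Cfsg.Agent.Lib.Helper5_SLPresK

/-!
Characteristic two: five relators on the generators `u, t, n` (with `h = n t`).
-/

namespace Cfsg.Agent.Lib.Helper5_SLPresL

open Matrix Cfsg.Agent.Lib.Helper5_SLPresC Cfsg.Agent.Lib.Helper5_SLPresE
  Cfsg.Agent.Lib.Helper5_SLPresF Cfsg.Agent.Lib.Helper5_SLPresG Cfsg.Agent.Lib.Helper5_SLPresJ

variable {G : Type*} [Group G]

/-- parameters in characteristic two -/
structure EvenParams where
  two : Bool
  k : ℕ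
  d : ℕ
  c : Fin d → ℕ
  i₁ : ℕ
  i₂ : ℕ

/-- the five relators -/
def evenRels (P : EvenParams) (u t n : G) : List G :=
  [u ^ 2,
   if P.two then cj u (n * t) 1 * (cj u (n * t) 0)⁻¹
     else cj u (n * t) P.k * (cj u (n * t) 0 * cj u (n * t) 1)⁻¹,
   cj u (n * t) P.d * (pw u (n * t) P.d P.c 0)⁻¹,
   u * (t * u * t⁻¹) * u * t⁻¹,
   cj u (n * t) P.i₁ * (t * cj u (n * t) P.i₂ * t⁻¹) * cj u (n * t) P.i₁ * n⁻¹]

theorem map_evenRels {H : Type*} [Group H] (f : G →* H) (P : EvenParams) (u t n : G) :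
    (evenRels P u t n).map f = evenRels P (f u) (f t) (f n) := by
  cases h : P.two <;>
  simp only [evenRels, h, List.map_cons, List.map_nil, map_mul, map_inv, map_pow, map_cj, map_pw,
    if_true, if_false, Bool.false_eq_true]

/-- the relations, unpacked -/
structure EvenHolds (P : EvenParams) (u t n : G) : Prop where
  r1 : u ^ 2 = 1
  r2 : P.two = false → cj u (n * t) P.k = cj u (n * t) 0 * cj u (n * t) 1
  r2' : P.two = true → cj u (n * t) 1 = cj u (n * t) 0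
  r3 : cj u (n * t) P.d = pw u (n * t) P.d P.c 0
  r4 : u * (t * u * t⁻¹) * u = t
  r5 : cj u (n * t) P.i₁ * (t * cj u (n * t) P.i₂ * t⁻¹) * cj u (n * t) P.i₁ = n

theorem evenHolds_iff (P : EvenParams) (u t n : G) :
    (∀ r ∈ evenRels P u t n, r = 1) ↔ EvenHolds P u t n := by
  cases h : P.two
  · simp only [evenRels, h, List.forall_mem_cons, List.not_mem_nil, false_imp_iff, implies_true,
      and_true, mul_inv_eq_one, if_false, Bool.false_eq_true]
    constructor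
    · rintro ⟨h1, h2, h3, h4, h5⟩
      exact ⟨h1, fun _ => h2, fun h' => by simp [h] at h', h3, h4, h5⟩
    · rintro ⟨h1, h2, _, h3, h4, h5⟩
      exact ⟨h1, h2 h, h3, h4, h5⟩
  · simp only [evenRels, h, List.forall_mem_cons, List.not_mem_nil, false_imp_iff, implies_true,
      and_true, mul_inv_eq_one, if_true]
    constructor
    · rintro ⟨h1, h2, h3, h4, h5⟩
      exact ⟨h1, fun h' => by simp [h] at h', fun _ => h2, h3, h4, h5⟩
    · rintro ⟨h1, _, h2, h3, h4, h5⟩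
      exact ⟨h1, h2 h, h3, h4, h5⟩

namespace EvenHolds

variable {P : EvenParams} {u t n : G}

theorem uu (H : EvenHolds P u t n) : u * u = 1 := by rw [← pow_two]; exact H.r1

theorem u_inv (H : EvenHolds P u t n) : u⁻¹ = u := inv_eq_of_mul_eq_one_left H.uu

theorem t_inv (H : EvenHolds P u t n) : t⁻¹ = t := by
  have h1 : t⁻¹ = (u * (t * u * t⁻¹) * u)⁻¹ := by rw [H.r4]
  have h2 : (u * (t * u * t⁻¹) * u)⁻¹ = u⁻¹ * (t * u⁻¹ * t⁻¹) * u⁻¹ := by group
  rw [h1, h2, H.u_inv, H.r4]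

theorem tt (H : EvenHolds P u t n) : t * t = 1 := by
  have := H.t_inv
  rw [inv_eq_iff_mul_eq_one] at this
  exact this

theorem cj_inv (H : EvenHolds P u t n) (h : G) (i : ℕ) : (cj u h i)⁻¹ = cj u h i := by
  have := cj_pow_eq_one u h i 2 H.r1
  rw [pow_two] at this
  exact inv_eq_of_mul_eq_one_left this

theorem n_inv (H : EvenHolds P u t n) : n⁻¹ = n := by
  have h1 : n⁻¹ = (cj u (n * t) P.i₁ * (t * cj u (n * t) P.i₂ * t⁻¹) * cj u (n * t) P.i₁)⁻¹ := by
    rw [H.r5]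
  have h2 : (cj u (n * t) P.i₁ * (t * cj u (n * t) P.i₂ * t⁻¹) * cj u (n * t) P.i₁)⁻¹ =
      (cj u (n * t) P.i₁)⁻¹ * (t * (cj u (n * t) P.i₂)⁻¹ * t⁻¹) * (cj u (n * t) P.i₁)⁻¹ := by group
  rw [h1, h2, H.cj_inv, H.cj_inv, H.r5]

theorem th (H : EvenHolds P u t n) : t * (n * t) * t⁻¹ = (n * t)⁻¹ := by
  rw [_root_.mul_inv_rev, H.t_inv, H.n_inv]
  have := H.tt
  calc t * (n * t) * t = t * n * (t * t) := by group
    _ = t * n := by rw [this, mul_one]

theorem wz (H : EvenHolds P u t n) :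
    cj u (n * t) P.i₁ * (t * cj u (n * t) P.i₂ * t⁻¹) * cj u (n * t) P.i₁ = n * t * t := by
  rw [H.r5, mul_assoc, H.tt, mul_one]

theorem comm (H : EvenHolds P u t n) : ∀ i j, Commute (cj u (n * t) i) (cj u (n * t) j) := by
  cases h : P.two
  · exact commute_all_two u (n * t) P.k H.uu (H.r2 h)
  · have h1 := H.r2' h
    have all : ∀ i, cj u (n * t) i = cj u (n * t) 0 := by
      intro i
      induction i with
      | zero => rfl
      | succ i ih => rw [← cj_succ, ih, cj_succ]; exact h1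
    intro i j
    rw [all i, all j]

end EvenHolds

variable {F : Type*} [Field F]

/-- the arithmetic conditions in characteristic two -/
structure EvenArith (F : Type*) [Field F] (P : EvenParams) (ζ : Fˣ) : Prop where
  cast2 : (2 : F) = 0
  gen : ∀ a : F, a ≠ 0 → ∃ m : ℕ, a = (ζ : F) ^ m
  gen2 : ∀ a : F, a ≠ 0 → ∃ m : ℕ, a = ((ζ : F) ^ 2) ^ m
  hk : P.two = false → ((ζ : F) ^ 2) ^ P.k = 1 + (ζ : F) ^ 2
  h2 : P.two = true → (ζ : F) ^ 2 = 1
  hd : ((ζ : F) ^ 2) ^ P.d = ∑ i : Fin P.d, (P.c i : F) * ((ζ : F) ^ 2) ^ (i : ℕ)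
  hcard : 2 ^ P.d ≤ Nat.card F
  hi1 : (ζ : F) = ((ζ : F) ^ 2) ^ P.i₁
  hi2 : (ζ : F)⁻¹ = ((ζ : F) ^ 2) ^ P.i₂

theorem wm_inv_two (h2 : (2 : F) = 0) : (wm F)⁻¹ = wm F := by
  rw [inv_eq_iff_mul_eq_one, wm_sq]
  apply Subtype.ext
  have : (-1 : F) = 1 := by linear_combination -h2
  ext i j
  fin_cases i <;> fin_cases j <;> simp [this]

theorem evenHolds_matrix {P : EvenParams} {ζ : Fˣ} (A : EvenArith F P ζ) :
    EvenHolds P (xm (1 : F)) (wm F) (hm ζ * (wm F)⁻¹) := by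
  have e : hm ζ * (wm F)⁻¹ * wm F = hm ζ := by group
  constructor
  · rw [xm_pow, mul_one]
    have : ((2 : ℕ) : F) = 0 := by exact_mod_cast A.cast2
    rw [this, xm_zero]
  · intro h
    rw [e, cj_xm, cj_xm, cj_xm, xm_add, A.hk h]
    congr 1; ring
  · intro h
    rw [e, cj_xm, cj_xm, A.h2 h]
    congr 1; ring
  · rw [e, cj_xm, pw_xm, mul_one, A.hd]
    rfl
  · exact w_one_eq
  · rw [e, cj_xm, cj_xm, mul_one, mul_one, ← A.hi1, ← A.hi2, w_zeta_eq, wm_inv_two A.cast2]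

theorem rdata_of_even [Finite F] {Γ : Type*} [Group Γ] {P : EvenParams} {ζ : Fˣ}
    (A : EvenArith F P ζ) (π : Γ →* Matrix.SpecialLinearGroup (Fin 2) F) (u t n : Γ)
    (πu : π u = xm 1) (πt : π t = wm F) (πn : π n = hm ζ * (wm F)⁻¹) (H : EvenHolds P u t n)
    (top : Subgroup.closure ({u, t, n} : Set Γ) = ⊤) : RData π u t (n * t) ζ := by
  have hcomm := H.comm
  have hU := UU_eq u (n * t) P.d P.c H.r3
  have hcl := card_closure_le P.d (fun j : Fin P.d => cj u (n * t) j) (fun i j => hcomm i j) 2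
    (by norm_num) (fun i => cj_pow_eq_one u (n * t) i 2 H.r1)
  have πh : π (n * t) = hm ζ := by rw [map_mul, πn, πt]; group
  refine
    { πu := πu, πt := πt, πh := πh, gen := A.gen, comm := hcomm, fin := ?_, card := ?_,
      span := ?_, th := H.th, w1 := H.r4, wz := ?_, top := ?_ }
  · rw [hU]; exact hcl.1
  · rw [hU]; exact hcl.2.trans A.hcard
  · intro a
    by_cases ha : a = 0
    · exact ⟨1, one_mem _, by rw [map_one, ha, xm_zero]⟩
    · obtain ⟨m, rfl⟩ := A.gen2 a ha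
      exact ⟨cj u (n * t) m, mem_UU _ _ m, by rw [map_cj, πu, πh, cj_xm, mul_one]⟩
  · refine ⟨cj u (n * t) P.i₁, mem_UU _ _ _, cj u (n * t) P.i₂, mem_UU _ _ _, ?_, ?_, H.wz⟩
    · rw [map_cj, πu, πh, cj_xm, mul_one, ← A.hi1]
    · rw [map_cj, πu, πh, cj_xm, mul_one, ← A.hi2]
  · rw [eq_top_iff, ← top, Subgroup.closure_le]
    have hu : u ∈ Subgroup.closure ({u, t, n * t} : Set Γ) :=
      Subgroup.subset_closure (by simp)
    have ht : t ∈ Subgroup.closure ({u, t, n * t} : Set Γ) :=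
      Subgroup.subset_closure (by simp)
    have hnt : n * t ∈ Subgroup.closure ({u, t, n * t} : Set Γ) :=
      Subgroup.subset_closure (by simp)
    intro g hg
    rcases hg with rfl | rfl | rfl
    · exact hu
    · exact ht
    · have := mul_mem hnt (inv_mem ht)
      rwa [mul_inv_cancel_right] at this

end Cfsg.Agent.Lib.Helper5_SLPresL
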