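import Mathlib
import Cfsg.Agent.Lib.Helper5_SLPresL

/-!
Characteristic two: existence of the parameters and the final presentations.
-/

namespace Cfsg.Agent.Lib.Helper5_SLPresL

open Matrix Cfsg.Agent.Lib.Helper5_SLPresC Cfsg.Agent.Lib.Helper5_SLPresE
  Cfsg.Agent.Lib.Helper5_SLPresF Cfsg.Agent.Lib.Helper5_SLPresG Cfsg.Agent.Lib.Helper5_SLPresJ

variable {F : Type*} [Field F]

theorem exists_evenArith (F : Type*) [Field F] [Finite F] (h2 : ringChar F = 2) :
    ∃ (P : EvenParams) (ζ : Fˣ), EvenArith F P ζ := by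
  classical
  have := Fintype.ofFinite F
  have hc : CharP F 2 := ringChar.of_eq h2
  have : Fact (Nat.Prime 2) := ⟨Nat.prime_two⟩
  have cast2 : (2 : F) = 0 := by
    have := CharP.cast_eq_zero F 2
    exact_mod_cast this
  obtain ⟨ζ, hζ⟩ := IsCyclic.exists_monoid_generator (α := Fˣ)
  have gen : ∀ a : F, a ≠ 0 → ∃ m : ℕ, a = (ζ : F) ^ m := by
    intro a ha
    obtain ⟨m, hm⟩ := hζ (Units.mk0 a ha)
    refine ⟨m, ?_⟩
    have := congrArg (fun x : Fˣ => (x : F)) hm
    simpa using this.symm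
  have gen2 : ∀ a : F, a ≠ 0 → ∃ m : ℕ, a = ((ζ : F) ^ 2) ^ m := by
    intro a ha
    obtain ⟨r, hr⟩ := FiniteField.isSquare_of_char_two h2 a
    have hr0 : r ≠ 0 := by
      rintro rfl
      rw [mul_zero] at hr
      exact ha hr
    obtain ⟨m, hm⟩ := gen r hr0
    exact ⟨m, by rw [hr, hm]; ring⟩
  set σ := (ζ : F) ^ 2 with hσ
  obtain ⟨d, c, hcard, hd⟩ := exists_minpoly_rel 2 σ
  obtain ⟨i₁, hi1⟩ := gen2 (ζ : F) ζ.ne_zero
  obtain ⟨i₂, hi2⟩ := gen2 (ζ : F)⁻¹ (inv_ne_zero ζ.ne_zero)
  by_cases h1 : σ = 1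
  · refine ⟨⟨true, 0, d, c, i₁, i₂⟩, ζ, ?_⟩
    exact
      { cast2 := cast2, gen := gen, gen2 := gen2
        hk := fun h => by simp at h
        h2 := fun _ => h1
        hd := hd, hcard := hcard, hi1 := hi1, hi2 := hi2 }
  · have h3 : 1 + σ ≠ 0 := by
      intro h0
      apply h1
      linear_combination h0 - cast2
    obtain ⟨k, hk⟩ := gen2 (1 + σ) h3
    refine ⟨⟨false, k, d, c, i₁, i₂⟩, ζ, ?_⟩
    exact
      { cast2 := cast2, gen := gen, gen2 := gen2
        hk := fun _ => hk.symm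
        h2 := fun h => by simp at h
        hd := hd, hcard := hcard, hi1 := hi1, hi2 := hi2 }

/-- the images of the three generators -/
def gens' (ζ : Fˣ) : Fin 3 → Matrix.SpecialLinearGroup (Fin 2) F :=
  ![xm 1, wm F, hm ζ * (wm F)⁻¹]

theorem lift_gu' (ζ : Fˣ) : FreeGroup.lift (gens' ζ) gu = xm 1 := by simp [gu, gens']
theorem lift_gt' (ζ : Fˣ) : FreeGroup.lift (gens' ζ) gt = wm F := by simp [gt, gens']
theorem lift_gh' (ζ : Fˣ) : FreeGroup.lift (gens' ζ) gh = hm ζ * (wm F)⁻¹ := by simp [gh, gens']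

/-- the relators in characteristic two -/
def evenFinset (P : EvenParams) : Finset (FreeGroup (Fin 3)) := (evenRels P gu gt gh).toFinset

theorem card_evenFinset (P : EvenParams) : (evenFinset P).card ≤ 5 :=
  (List.toFinset_card_le _).trans (by simp [evenRels])

theorem lift_evenFinset {P : EvenParams} {ζ : Fˣ} (A : EvenArith F P ζ) :
    ∀ r ∈ (↑(evenFinset P) : Set (FreeGroup (Fin 3))), FreeGroup.lift (gens' ζ) r = 1 := by
  intro r hr
  rw [Finset.mem_coe, evenFinset, List.mem_toFinset] at hr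
  have h1 : FreeGroup.lift (gens' ζ) r ∈ (evenRels P gu gt gh).map (FreeGroup.lift (gens' ζ)) :=
    List.mem_map_of_mem hr
  rw [map_evenRels, lift_gu', lift_gt', lift_gh'] at h1
  exact (evenHolds_iff P _ _ _).mpr (evenHolds_matrix A) _ h1

theorem even_bijective [Finite F] {P : EvenParams} {ζ : Fˣ} (A : EvenArith F P ζ) :
    Function.Bijective (PresentedGroup.toGroup (lift_evenFinset A)) := by
  set rels : Set (FreeGroup (Fin 3)) := ↑(evenFinset P) with hrels
  have hH : EvenHolds P (PresentedGroup.mk rels gu) (PresentedGroup.mk rels gt)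
      (PresentedGroup.mk rels gh) := by
    rw [← evenHolds_iff, ← map_evenRels]
    intro r hr
    rw [List.mem_map] at hr
    obtain ⟨r0, hr0, rfl⟩ := hr
    apply PresentedGroup.one_of_mem
    rw [hrels, Finset.mem_coe, evenFinset, List.mem_toFinset]
    exact hr0
  have D := rdata_of_even A (PresentedGroup.toGroup (lift_evenFinset A))
    (PresentedGroup.mk rels gu) (PresentedGroup.mk rels gt) (PresentedGroup.mk rels gh)
    (by rw [gu]; exact (PresentedGroup.toGroup.of (lift_evenFinset A)).trans (by simp [gens']))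
    (by rw [gt]; exact (PresentedGroup.toGroup.of (lift_evenFinset A)).trans (by simp [gens']))
    (by rw [gh]; exact (PresentedGroup.toGroup.of (lift_evenFinset A)).trans (by simp [gens']))
    hH (closure_three rels)
  exact D.bijective

theorem even_main (F : Type*) [Field F] [Finite F] (h2 : ringChar F = 2) :
    ∃ rels : Finset (FreeGroup (Fin 3)), rels.card ≤ 5 ∧
      Nonempty (PresentedGroup (↑rels : Set (FreeGroup (Fin 3))) ≃*
        Matrix.SpecialLinearGroup (Fin 2) F) ∧
      Nonempty (PresentedGroup (↑rels : Set (FreeGroup (Fin 3))) ≃*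
        Matrix.ProjectiveSpecialLinearGroup (Fin 2) F) := by
  classical
  obtain ⟨P, ζ, A⟩ := exists_evenArith F h2
  have hb := even_bijective A
  have hc : CharP F 2 := ringChar.of_eq h2
  refine ⟨evenFinset P, card_evenFinset P, ⟨MulEquiv.ofBijective _ hb⟩, ?_⟩
  exact psl_of_sl_two _ (MulEquiv.ofBijective _ hb)

end Cfsg.Agent.Lib.Helper5_SLPresL
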