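import Mathlib
import Cfsg.Agent.Lib.Helper50_SL2Mat

/-!
# Solubilizers in `PSL₂(3^p)` (helper5), part A: elementary facts on `SL(2,F)`

Anticommuting pairs (quaternion subgroups), the "kernel lemma", elements normalising a quaternion
group have `24`-th power one, and in characteristic three with `-1` a non-square such elements have
trace in the prime field.
-/

set_option autoImplicit false

namespace Cfsg.Agent.Lib.Helper5_Sol3A

open Matrix Cfsg.Agent.Lib.Helper50_SL2Mat
open scoped MatrixGroups

variable {F : Type*} [Field F]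

theorem negOne00 : (negOne : SL(2, F)) 0 0 = -1 := rfl
theorem negOne01 : (negOne : SL(2, F)) 0 1 = 0 := rfl
theorem negOne10 : (negOne : SL(2, F)) 1 0 = 0 := rfl
theorem negOne11 : (negOne : SL(2, F)) 1 1 = -1 := rfl

theorem negOne_mul00 (g : SL(2, F)) : ((negOne : SL(2, F)) * g) 0 0 = -g 0 0 := by
  rw [mul00, negOne00, negOne01]; ring
theorem negOne_mul01 (g : SL(2, F)) : ((negOne : SL(2, F)) * g) 0 1 = -g 0 1 := by
  rw [mul01, negOne00, negOne01]; ring
theorem negOne_mul10 (g : SL(2, F)) : ((negOne : SL(2, F)) * g) 1 0 = -g 1 0 := by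
  rw [mul10, negOne10, negOne11]; ring
theorem negOne_mul11 (g : SL(2, F)) : ((negOne : SL(2, F)) * g) 1 1 = -g 1 1 := by
  rw [mul11, negOne10, negOne11]; ring

theorem isScalar_negOne : IsScalar (negOne : SL(2, F)) := ⟨rfl, rfl, rfl⟩

theorem negOne_comm (g : SL(2, F)) : (negOne : SL(2, F)) * g = g * negOne :=
  (isScalar_negOne.commute g).eq

theorem negOne_mul_negOne : (negOne : SL(2, F)) * negOne = 1 := by
  apply ext4
  · rw [negOne_mul00, negOne00, one00]; ring
  · rw [negOne_mul01, negOne01, one01]; ring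
  · rw [negOne_mul10, negOne10, one10]; ring
  · rw [negOne_mul11, negOne11, one11]; ring

theorem negOne_inv : (negOne : SL(2, F))⁻¹ = negOne :=
  inv_eq_of_mul_eq_one_left negOne_mul_negOne

theorem tr_negOne_mul (g : SL(2, F)) : tr (negOne * g) = -tr g := by
  unfold tr
  rw [negOne_mul00, negOne_mul11]; ring

theorem negOne_ne_one (h2 : (2 : F) ≠ 0) : (negOne : SL(2, F)) ≠ 1 := by
  intro h
  have := congrArg (fun g : SL(2, F) => g 0 0) h
  simp only [negOne00, one00] at this
  apply h2
  linear_combination -this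

/-- an element of trace zero squares to `-1` -/
theorem sq_of_tr_zero {g : SL(2, F)} (h : tr g = 0) : g * g = negOne := by
  have hd := det1 g
  have h11 : g 1 1 = -g 0 0 := by unfold tr at h; linear_combination h
  apply ext4
  · rw [mul00, negOne00]; rw [h11] at hd; linear_combination -hd
  · rw [mul01, negOne01, h11]; ring
  · rw [mul10, negOne10, h11]; ring
  · rw [mul11, negOne11, h11]; rw [h11] at hd; linear_combination -hd

/-- an element squaring to `-1` has trace zero (`2 ≠ 0`) -/
theorem tr_zero_of_sq (h2 : (2 : F) ≠ 0) {g : SL(2, F)} (h : g * g = negOne) : tr g = 0 := by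
  have hd := det1 g
  have e00 := congrArg (fun m : SL(2, F) => m 0 0) h
  have e01 := congrArg (fun m : SL(2, F) => m 0 1) h
  have e10 := congrArg (fun m : SL(2, F) => m 1 0) h
  have e11 := congrArg (fun m : SL(2, F) => m 1 1) h
  simp only [mul00, mul01, mul10, mul11, negOne00, negOne01, negOne10, negOne11] at e00 e01 e10 e11
  unfold tr
  by_contra hne
  have h01 : g 0 1 = 0 := by
    have : g 0 1 * (g 0 0 + g 1 1) = 0 := by linear_combination e01
    exact (mul_eq_zero.1 this).resolve_right hne
  have h10 : g 1 0 = 0 := by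
    have : g 1 0 * (g 0 0 + g 1 1) = 0 := by linear_combination e10
    exact (mul_eq_zero.1 this).resolve_right hne
  rw [h01, h10] at e00 e11 hd
  -- g00² = -1, g11² = -1, g00 g11 = 1 ⟹ (g00+g11)² = 0
  apply hne
  have : (g 0 0 + g 1 1) * (g 0 0 + g 1 1) = 0 := by linear_combination e00 + e11 + 2 * hd
  exact mul_self_eq_zero.1 this

/-- inverting a non-scalar element forces trace zero -/
theorem tr_eq_zero_of_conj_eq_inv {n a : SL(2, F)} (ha : ¬ IsScalar a)
    (h : n * a * n⁻¹ = a⁻¹) : tr n = 0 := by
  have h' : n * a = a⁻¹ * n := by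
    calc n * a = (n * a * n⁻¹) * n := by group
      _ = a⁻¹ * n := by rw [h]
  have e00 := congrArg (fun m : SL(2, F) => m 0 0) h'
  have e01 := congrArg (fun m : SL(2, F) => m 0 1) h'
  have e10 := congrArg (fun m : SL(2, F) => m 1 0) h'
  have e11 := congrArg (fun m : SL(2, F) => m 1 1) h'
  simp only [mul00, mul01, mul10, mul11, inv00, inv01, inv10, inv11] at e00 e01 e10 e11
  unfold tr
  by_contra hne
  apply ha
  refine ⟨?_, ?_, ?_⟩
  · have : a 0 1 * (n 0 0 + n 1 1) = 0 := by linear_combination e01
    exact (mul_eq_zero.1 this).resolve_right hne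
  · have : a 1 0 * (n 0 0 + n 1 1) = 0 := by linear_combination e10
    exact (mul_eq_zero.1 this).resolve_right hne
  · have : (a 0 0 - a 1 1) * (n 0 0 + n 1 1) = 0 := by linear_combination e00 - e11
    exact sub_eq_zero.1 ((mul_eq_zero.1 this).resolve_right hne)

/-! ### equality up to sign -/

/-- `g' = ± g` -/
def E (g g' : SL(2, F)) : Prop := g' = g ∨ g' = negOne * g

theorem E.refl (g : SL(2, F)) : E g g := Or.inl rfl

theorem E.symm {g g' : SL(2, F)} (h : E g g') : E g' g := by
  rcases h with h | h
  · exact Or.inl h.symm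
  · right
    rw [h, ← mul_assoc, negOne_mul_negOne, one_mul]

theorem E.trans {g g' g'' : SL(2, F)} (h : E g g') (h' : E g' g'') : E g g'' := by
  rcases h with h | h <;> rcases h' with h' | h'
  · exact Or.inl (h'.trans h)
  · right; rw [h', h]
  · right; rw [h', h]
  · left; rw [h', h, ← mul_assoc, negOne_mul_negOne, one_mul]

theorem E.conj {g g' : SL(2, F)} (h : E g g') (k : SL(2, F)) : E (k * g * k⁻¹) (k * g' * k⁻¹) := by
  rcases h with h | h
  · left; rw [h]
  · right
    rw [h, ← mul_assoc k, ← negOne_comm k, mul_assoc negOne, mul_assoc negOne]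

theorem E.tr_sq {g g' : SL(2, F)} (h : E g g') : tr g' * tr g' = tr g * tr g := by
  rcases h with h | h
  · rw [h]
  · rw [h, tr_negOne_mul]; ring

theorem E.isScalar {g g' : SL(2, F)} (h : E g g') (hg : IsScalar g) : IsScalar g' := by
  rcases h with h | h
  · rw [h]; exact hg
  · rw [h]; exact isScalar_negOne.mul hg

theorem E.pow_four {g g' : SL(2, F)} (h : E g g') : g' ^ 4 = g ^ 4 := by
  rcases h with h | h
  · rw [h]
  · rw [h, (Commute.mul_pow (isScalar_negOne.commute g) 4)]
    have : (negOne : SL(2, F)) ^ 4 = 1 := by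
      have e : (negOne : SL(2, F)) ^ 4 = (negOne * negOne) * (negOne * negOne) := by
        rw [pow_succ, pow_succ, pow_succ, pow_one]; group
      rw [e, negOne_mul_negOne, one_mul]
    rw [this, one_mul]

/-! ### anticommuting pairs -/

/-- `a b = - b a` -/
def Anti (a b : SL(2, F)) : Prop := a * b = negOne * (b * a)

theorem Anti.symm {a b : SL(2, F)} (h : Anti a b) : Anti b a := by
  unfold Anti at *
  rw [h, ← mul_assoc, negOne_mul_negOne, one_mul]

theorem Anti.conj_eq {a b : SL(2, F)} (h : Anti a b) : a * b * a⁻¹ = negOne * b := by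
  unfold Anti at h
  rw [h]; group

theorem Anti.tr_right (h2 : (2 : F) ≠ 0) {a b : SL(2, F)} (h : Anti a b) : tr b = 0 := by
  have h1 := congrArg tr h.conj_eq
  rw [tr_conj, tr_negOne_mul] at h1
  have : (2 : F) * tr b = 0 := by linear_combination h1
  exact (mul_eq_zero.1 this).resolve_left h2

theorem Anti.tr_left (h2 : (2 : F) ≠ 0) {a b : SL(2, F)} (h : Anti a b) : tr a = 0 :=
  h.symm.tr_right h2

theorem Anti.not_commute (h2 : (2 : F) ≠ 0) {a b : SL(2, F)} (h : Anti a b) : ¬ Commute a b := by
  intro hc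
  unfold Anti at h
  have : a * b = negOne * (a * b) := by rw [← hc.eq] at h; exact h
  have h1 : (negOne : SL(2, F)) = 1 := by
    have := congrArg (fun m => m * (a * b)⁻¹) this
    simp only [mul_inv_cancel, mul_assoc] at this
    rw [mul_one] at this
    exact this.symm
  exact negOne_ne_one h2 h1

theorem Anti.not_isScalar_left (h2 : (2 : F) ≠ 0) {a b : SL(2, F)} (h : Anti a b) :
    ¬ IsScalar a := fun hs => h.not_commute h2 (hs.commute b)

theorem Anti.not_isScalar_right (h2 : (2 : F) ≠ 0) {a b : SL(2, F)} (h : Anti a b) :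
    ¬ IsScalar b := fun hs => h.not_commute h2 (hs.commute a).symm

/-- `a` anticommutes with `a b` -/
theorem Anti.mul_right (h2 : (2 : F) ≠ 0) {a b : SL(2, F)} (h : Anti a b) : Anti a (a * b) := by
  unfold Anti at *
  calc a * (a * b) = a * (negOne * (b * a)) := by rw [h]
    _ = negOne * (a * b * a) := by rw [← mul_assoc a, ← negOne_comm a]; group

/-- `a b` anticommutes with `b` -/
theorem Anti.mul_left (h2 : (2 : F) ≠ 0) {a b : SL(2, F)} (h : Anti a b) : Anti (a * b) b := by
  unfold Anti at *
  calc a * b * b = (negOne * (b * a)) * b := by rw [h]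
    _ = negOne * (b * (a * b)) := by group

/-- the three non-central classes of the quaternion group generated by `a`, `b` -/
def cq (a b : SL(2, F)) : Fin 3 → SL(2, F) := ![a, b, a * b]

theorem cq_tr (h2 : (2 : F) ≠ 0) {a b : SL(2, F)} (h : Anti a b) (j : Fin 3) :
    tr (cq a b j) = 0 := by
  fin_cases j
  · exact h.tr_left h2
  · exact h.tr_right h2
  · exact (h.mul_right h2).tr_right h2

theorem cq_anti (h2 : (2 : F) ≠ 0) {a b : SL(2, F)} (h : Anti a b) {j k : Fin 3} (hjk : j ≠ k) :
    Anti (cq a b j) (cq a b k) := by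
  fin_cases j <;> fin_cases k
  · exact absurd rfl hjk
  · exact h
  · exact h.mul_right h2
  · exact h.symm
  · exact absurd rfl hjk
  · exact (h.mul_left h2).symm
  · exact (h.mul_right h2).symm
  · exact h.mul_left h2
  · exact absurd rfl hjk

theorem cq_not_isScalar (h2 : (2 : F) ≠ 0) {a b : SL(2, F)} (h : Anti a b) (j : Fin 3) :
    ¬ IsScalar (cq a b j) := by
  fin_cases j
  · exact (cq_anti h2 h (j := 0) (k := 1) (by decide)).not_isScalar_left h2
  · exact (cq_anti h2 h (j := 1) (k := 0) (by decide)).not_isScalar_left h2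
  · exact (cq_anti h2 h (j := 2) (k := 0) (by decide)).not_isScalar_left h2

/-- distinct classes are not equal up to sign -/
theorem cq_E_inj (h2 : (2 : F) ≠ 0) {a b : SL(2, F)} (h : Anti a b) {j k : Fin 3}
    (hE : E (cq a b j) (cq a b k)) : j = k := by
  by_contra hjk
  have hA := cq_anti h2 h hjk
  apply hA.not_commute h2
  rcases hE with e | e
  · rw [e]
  · rw [e]
    unfold Commute SemiconjBy
    rw [← mul_assoc, ← negOne_comm, mul_assoc]


/-! ### the kernel lemma -/

theorem E.mul_eq {c g : SL(2, F)} (h : E c (g * c * g⁻¹)) :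
    g * c = c * g ∨ g * c = negOne * (c * g) := by
  rcases h with h | h
  · left
    calc g * c = (g * c * g⁻¹) * g := by group
      _ = c * g := by rw [h]
  · right
    calc g * c = (g * c * g⁻¹) * g := by group
      _ = negOne * (c * g) := by rw [h, mul_assoc]

theorem commute_mul_of_anti {q c g : SL(2, F)} (hq : Anti q c) (hg : g * c = negOne * (c * g)) :
    Commute (q * g) c := by
  unfold Commute SemiconjBy
  unfold Anti at hq
  calc q * g * c = q * (g * c) := by group
    _ = q * (negOne * (c * g)) := by rw [hg]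
    _ = negOne * (q * c) * g := by rw [← mul_assoc q, ← negOne_comm q]; group
    _ = negOne * (negOne * (c * q)) * g := by rw [hq]
    _ = (negOne * negOne) * (c * q) * g := by group
    _ = c * (q * g) := by rw [negOne_mul_negOne]; group

theorem isScalar_of_commute_pair (h2 : (2 : F) ≠ 0) {a b g : SL(2, F)} (hab : Anti a b)
    (ha : Commute g a) (hb : Commute g b) : IsScalar g := by
  by_contra hg
  exact hab.not_commute h2 (commute_trans hg ha.symm hb)

theorem E_of_isScalar_mul {q g : SL(2, F)} (hq : tr q = 0) (hs : IsScalar (q * g)) : E q g := by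
  have hqq := sq_of_tr_zero hq
  have hqi : q⁻¹ = negOne * q := by
    apply inv_eq_of_mul_eq_one_left
    rw [mul_assoc, hqq, negOne_mul_negOne]
  have hg : g = q⁻¹ * (q * g) := by group
  rcases hs.eq_one_or with h | h
  · right
    rw [hg, h, mul_one, hqi]
  · left
    rw [hg, h, hqi, mul_assoc, ← negOne_comm q, ← mul_assoc, negOne_mul_negOne, one_mul]

/-- an element acting on the quaternion group `⟨a, b⟩` by signs only lies in it -/
theorem kernel (h2 : (2 : F) ≠ 0) {a b g : SL(2, F)} (hab : Anti a b)
    (ha : E a (g * a * g⁻¹)) (hb : E b (g * b * g⁻¹)) :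
    IsScalar g ∨ ∃ k : Fin 3, E (cq a b k) g := by
  rcases ha.mul_eq with ha | ha <;> rcases hb.mul_eq with hb | hb
  · left
    exact isScalar_of_commute_pair h2 hab ha hb
  · -- commutes with a, anticommutes with b : multiply by a
    right
    refine ⟨0, E_of_isScalar_mul (cq_tr h2 hab 0) ?_⟩
    apply isScalar_of_commute_pair h2 hab
    · exact (Commute.refl a).mul_left ha
    · exact commute_mul_of_anti hab hb
  · right
    refine ⟨1, E_of_isScalar_mul (cq_tr h2 hab 1) ?_⟩
    apply isScalar_of_commute_pair h2 hab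
    · exact commute_mul_of_anti hab.symm ha
    · exact (Commute.refl b).mul_left hb
  · right
    refine ⟨2, E_of_isScalar_mul (cq_tr h2 hab 2) ?_⟩
    apply isScalar_of_commute_pair h2 hab
    · exact commute_mul_of_anti (cq_anti h2 hab (j := 2) (k := 0) (by decide)) ha
    · exact commute_mul_of_anti (cq_anti h2 hab (j := 2) (k := 1) (by decide)) hb

theorem pow_four_of_kernel (h2 : (2 : F) ≠ 0) {a b g : SL(2, F)} (hab : Anti a b)
    (ha : E a (g * a * g⁻¹)) (hb : E b (g * b * g⁻¹)) : g ^ 4 = 1 := by
  have h4 : ∀ x : SL(2, F), x ^ 4 = (x * x) * (x * x) := by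
    intro x; rw [pow_succ, pow_succ, pow_succ, pow_one]; group
  rcases kernel h2 hab ha hb with hs | ⟨k, hk⟩
  · rcases hs.eq_one_or with h | h
    · rw [h, one_pow]
    · rw [h, h4, negOne_mul_negOne, one_mul]
  · rw [hk.pow_four, h4, sq_of_tr_zero (cq_tr h2 hab k), negOne_mul_negOne]

/-! ### elements normalising a quaternion group -/

theorem iterate_six_of_injective : ∀ σ : Fin 3 → Fin 3, Function.Injective σ → ∀ j, σ^[6] j = j := by
  decide

/-- an element permuting the three classes up to sign has sixth power acting by signs -/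
theorem E_pow_six (h2 : (2 : F) ≠ 0) {a b h : SL(2, F)} (hab : Anti a b)
    (hP : ∀ j : Fin 3, ∃ k : Fin 3, E (cq a b k) (h * cq a b j * h⁻¹)) (j : Fin 3) :
    E (cq a b j) (h ^ 6 * cq a b j * (h ^ 6)⁻¹) := by
  choose σ hσ using hP
  have hinj : Function.Injective σ := by
    intro j j' hjj
    have h1 := hσ j
    have h2' := hσ j'
    rw [hjj] at h1
    have h3 : E (h * cq a b j * h⁻¹) (h * cq a b j' * h⁻¹) := h1.symm.trans h2'
    have h4 := h3.conj h⁻¹
    have e : ∀ x : SL(2, F), h⁻¹ * (h * x * h⁻¹) * h⁻¹⁻¹ = x := by intro x; group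
    rw [e, e] at h4
    exact cq_E_inj h2 hab h4
  have hit : ∀ n : ℕ, ∀ j, E (cq a b (σ^[n] j)) (h ^ n * cq a b j * (h ^ n)⁻¹) := by
    intro n
    induction n with
    | zero => intro j; simp only [Function.iterate_zero, id_eq, pow_zero, one_mul, inv_one,
        mul_one]; exact E.refl _
    | succ n ih =>
      intro j
      rw [Function.iterate_succ_apply']
      have h1 := (ih j).conj h
      have e : h * (h ^ n * cq a b j * (h ^ n)⁻¹) * h⁻¹ =
          h ^ (n + 1) * cq a b j * (h ^ (n + 1))⁻¹ := by
        rw [pow_succ']; group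
      rw [e] at h1
      exact (hσ _).trans h1
  have := hit 6 j
  rwa [iterate_six_of_injective σ hinj] at this

theorem pow_24 (h2 : (2 : F) ≠ 0) {a b h : SL(2, F)} (hab : Anti a b)
    (hP : ∀ j : Fin 3, ∃ k : Fin 3, E (cq a b k) (h * cq a b j * h⁻¹)) : h ^ 24 = 1 := by
  have h0 := E_pow_six h2 hab hP 0
  have h1 := E_pow_six h2 hab hP 1
  have := pow_four_of_kernel h2 hab h0 h1
  rw [← pow_mul] at this
  exact this

/-! ### traces in characteristic three -/

section char3

variable [CharP F 3]

theorem three_eq_zero : (3 : F) = 0 := by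
  have := CharP.cast_eq_zero F 3
  exact_mod_cast this

theorem two_ne_zero' : (2 : F) ≠ 0 := by
  intro h
  have h3 := three_eq_zero (F := F)
  have : (1 : F) = 0 := by linear_combination h3 - h
  exact one_ne_zero this

/-- in characteristic three with `-1` a non-square, an element of order dividing `24` has trace in
the prime field -/
theorem tr_cube_of_pow_24 (hns : ∀ x : F, x * x ≠ -1) {h : SL(2, F)} (h24 : h ^ 24 = 1) :
    tr h ^ 3 = tr h := by
  have h3 := three_eq_zero (F := F)
  haveI : Fact (Nat.Prime 3) := ⟨Nat.prime_three⟩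
  have e8 : (h ^ 8) ^ 3 ^ 1 = 1 := by rw [pow_one, ← pow_mul]; exact h24
  have t8 : tr (h ^ 8) = 2 := tr_of_pow_char_pow 3 1 e8
  have p2 : h ^ 2 = h * h := pow_two h
  have p4 : h ^ 4 = (h ^ 2) * (h ^ 2) := by rw [← pow_add]
  have p8 : h ^ 8 = (h ^ 4) * (h ^ 4) := by rw [← pow_add]
  have t2 : tr (h ^ 2) = tr h * tr h - 2 := by rw [p2, tr_sq]
  have t4 : tr (h ^ 4) = tr (h ^ 2) * tr (h ^ 2) - 2 := by rw [p4, tr_sq]
  have t8' : tr (h ^ 8) = tr (h ^ 4) * tr (h ^ 4) - 2 := by rw [p8, tr_sq]
  set t := tr h with ht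
  set s2 := tr (h ^ 2) with hs2
  set s4 := tr (h ^ 4) with hs4
  rw [t8] at t8'
  -- s4² = 4 = 1
  have c4 : (s4 - 1) * (s4 + 1) = 0 := by linear_combination -t8' + h3
  -- s2² = s4 + 2
  have c2 : s2 = 0 ∨ s2 = 1 ∨ s2 = -1 := by
    rcases mul_eq_zero.1 c4 with c | c
    · have : s2 * s2 = 0 := by linear_combination -t4 + c + h3
      left; exact mul_self_eq_zero.1 this
    · have : (s2 - 1) * (s2 + 1) = 0 := by linear_combination -t4 + c
      rcases mul_eq_zero.1 this with d | d
      · right; left; linear_combination d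
      · right; right; linear_combination d
  rcases c2 with c | c | c
  · exfalso
    apply hns t
    linear_combination -t2 + c + h3
  · have : t * t = 0 := by linear_combination -t2 + c + h3
    have : t = 0 := mul_self_eq_zero.1 this
    rw [this]; ring
  · have : (t - 1) * (t + 1) = 0 := by linear_combination -t2 + c
    rcases mul_eq_zero.1 this with d | d
    · have : t = 1 := by linear_combination d
      rw [this]; ring
    · have : t = -1 := by linear_combination d
      rw [this]; ring

end char3

end Cfsg.Agent.Lib.Helper5_Sol3A
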