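import Mathlib
import Cfsg.Agent.Lib.Helper5_Sol3A

/-!
# Solubilizers in `PSL₂(3^p)` (helper5), part B: the structure lemma

A solvable group `Γ` with a faithful representation in `SL(2,F)`, `F` of characteristic three with
`-1` a non-square, is central, or normalises the centraliser of one of its non-central elements, or
has all traces in the prime field (quaternion case).
-/

set_option autoImplicit false

namespace Cfsg.Agent.Lib.Helper5_Sol3B

open Matrix Cfsg.Agent.Lib.Helper50_SL2Mat Cfsg.Agent.Lib.Helper5_Sol3A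
open scoped MatrixGroups

variable {F : Type*} [Field F]

theorem E_of_isScalar_comm {Γ : Type*} [Group Γ] (ρ : Γ →* SL(2, F)) (n z : Γ)
    (hs : IsScalar (ρ (n * z * n⁻¹ * z⁻¹))) : E (ρ z) (ρ n * ρ z * (ρ n)⁻¹) := by
  have e : ρ n * ρ z * (ρ n)⁻¹ = ρ (n * z * n⁻¹ * z⁻¹) * ρ z := by
    rw [← map_inv, ← map_mul, ← map_mul, ← map_mul]
    congr 1
    group
  rcases hs.eq_one_or with h | h
  · left; rw [e, h, one_mul]
  · right; rw [e, h]

theorem structure_lemma [CharP F 3] (hns : ∀ x : F, x * x ≠ -1) {Γ : Type*} [Group Γ]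
    [hsol : Group.IsSolvable Γ] (ρ : Γ →* SL(2, F)) (hρ : Function.Injective ρ) :
    (∀ g : Γ, IsScalar (ρ g)) ∨
    (∃ a : Γ, ¬ IsScalar (ρ a) ∧ ∀ h : Γ, Commute (ρ h * ρ a * (ρ h)⁻¹) (ρ a)) ∨
    (∀ h : Γ, tr (ρ h) ^ 3 = tr (ρ h)) := by
  classical
  have h2 : (2 : F) ≠ 0 := two_ne_zero'
  obtain ⟨n, hn⟩ := hsol.solvable
  let P : ℕ → Prop := fun k => ∀ g ∈ derivedSeries Γ k, IsScalar (ρ g)
  have hPn : ∃ k, P k := by
    refine ⟨n, fun g hg => ?_⟩
    rw [hn, Subgroup.mem_bot] at hg
    rw [hg, map_one]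
    exact isScalar_one
  have hfind := Nat.find_spec hPn
  have hmin := fun m (hm : m < Nat.find hPn) => Nat.find_min hPn hm
  rcases Nat.eq_zero_or_eq_succ_pred (Nat.find hPn) with h0 | hk
  · left
    intro g
    rw [h0] at hfind
    exact hfind g (by rw [derivedSeries_zero]; trivial)
  · right
    set k := (Nat.find hPn).pred with hkdef
    have hPk1 : P (k + 1) := by rw [← Nat.succ_eq_add_one, ← hk]; exact hfind
    have hPk : ¬ P k := hmin k (by rw [hk]; exact Nat.lt_succ_self _)
    set N := derivedSeries Γ k with hN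
    have hNn : N.Normal := inferInstance
    have hcomm : ∀ u ∈ N, ∀ v ∈ N, IsScalar (ρ (u * v * u⁻¹ * v⁻¹)) := by
      intro u hu v hv
      apply hPk1
      rw [derivedSeries_succ]
      have := Subgroup.commutator_mem_commutator hu hv
      rwa [commutatorElement_def] at this
    obtain ⟨a, haN, haS⟩ : ∃ a ∈ N, ¬ IsScalar (ρ a) := by
      by_contra hcon
      push Not at hcon
      exact hPk hcon
    by_cases hab : ∀ u ∈ N, ∀ v ∈ N, Commute u v
    · left
      refine ⟨a, haS, fun h => ?_⟩
      have h1 : h * a * h⁻¹ ∈ N := hNn.conj_mem a haN h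
      have h2 := hab _ h1 a haN
      have := h2.map ρ
      rwa [map_mul, map_mul, map_inv] at this
    · right
      push Not at hab
      obtain ⟨x, hx, y, hy, hxy⟩ := hab
      -- the commutator is `-1`
      have hc := hcomm x hx y hy
      have hne : ρ (x * y * x⁻¹ * y⁻¹) ≠ 1 := by
        intro h1
        have : x * y * x⁻¹ * y⁻¹ = 1 := hρ (by rw [h1, map_one])
        apply hxy
        unfold Commute SemiconjBy
        calc x * y = (x * y * x⁻¹ * y⁻¹) * (y * x) := by group
          _ = y * x := by rw [this, one_mul]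
      have hneg : ρ (x * y * x⁻¹ * y⁻¹) = negOne := by
        rcases hc.eq_one_or with h | h
        · exact absurd h hne
        · exact h
      have hanti : Anti (ρ x) (ρ y) := by
        unfold Anti
        rw [← hneg, ← map_mul, ← map_mul, ← map_mul]
        congr 1
        group
      -- every element of `N` acts on `ρ x`, `ρ y` by signs
      have hNE : ∀ m ∈ N, ∀ z ∈ N, E (ρ z) (ρ m * ρ z * (ρ m)⁻¹) := fun m hm z hz =>
        E_of_isScalar_comm ρ m z (hcomm m hm z hz)
      -- the three classes come from `N`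
      have hw : ∀ j : Fin 3, ∃ w ∈ N, ρ w = cq (ρ x) (ρ y) j := by
        intro j
        fin_cases j
        · exact ⟨x, hx, rfl⟩
        · exact ⟨y, hy, rfl⟩
        · exact ⟨x * y, N.mul_mem hx hy, map_mul ρ x y⟩
      intro h
      apply tr_cube_of_pow_24 hns
      apply pow_24 h2 hanti
      intro j
      obtain ⟨w, hwN, hwj⟩ := hw j
      have hm : h * w * h⁻¹ ∈ N := hNn.conj_mem w hwN h
      have e : ρ (h * w * h⁻¹) = ρ h * cq (ρ x) (ρ y) j * (ρ h)⁻¹ := by
        rw [map_mul, map_mul, map_inv, hwj]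
      rcases kernel h2 hanti (hNE _ hm x hx) (hNE _ hm y hy) with hs | hk
      · exfalso
        rw [e, isScalar_conj_iff] at hs
        exact cq_not_isScalar h2 hanti j hs
      · rw [e] at hk
        exact hk

end Cfsg.Agent.Lib.Helper5_Sol3B
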