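import Mathlib
import Cfsg.Agent.Lib.Helper5_Sol3B
import Cfsg.Agent.Lib.Helper50_DkStruct
import Cfsg.Agent.Lib.Helper50_SL2Classes
import Cfsg.Agent.Lib.Helper50_SL2Dickson
import Cfsg.Agent.Lib.Helper51_SL2Solv

/-!
# Solubilizers in `PSL₂(3^p)` (helper5), part C: solvable subgroups of `SL(2,F)`

`Nc c`, the normaliser of the centraliser of a non-scalar `c`, is solvable; lower triangular
matrices; matrices with entries in the prime field (characteristic three).
-/

set_option autoImplicit false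

namespace Cfsg.Agent.Lib.Helper5_Sol3C

open Matrix Cfsg.Agent.Lib.Helper50_SL2Mat Cfsg.Agent.Lib.Helper5_Sol3A
  Cfsg.Agent.Lib.Helper50_CTClass Cfsg.Agent.Lib.Helper50_SL2Rep
open scoped MatrixGroups

variable {F : Type*} [Field F]

/-- `⟨x, y⟩` is solvable -/
def Solv (x y : SL(2, F)) : Prop :=
  Group.IsSolvable ↥(Subgroup.closure ({x, y} : Set SL(2, F)))

theorem ctSL : CT (Zs (MonoidHom.id SL(2, F))) := ct (ρ := MonoidHom.id SL(2, F)) Function.injective_id

/-- normaliser of the centraliser -/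
def Nc (c : SL(2, F)) : Subgroup SL(2, F) :=
  Subgroup.normalizer ((Subgroup.centralizer ({c} : Set SL(2, F)) : Subgroup SL(2, F)) :
    Set SL(2, F))

theorem mem_Nc_iff {c : SL(2, F)} (hc : ¬ IsScalar c) (m : SL(2, F)) :
    m ∈ Nc c ↔ Commute (m * c * m⁻¹) c := by
  constructor
  · intro h
    exact ctSL.conj_mem_centralizer h
  · intro h
    exact ctSL.mem_normalizer (x := c) (fun hz => hc hz) h

theorem self_mem_Nc {c : SL(2, F)} (hc : ¬ IsScalar c) : c ∈ Nc c := by
  rw [mem_Nc_iff hc]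
  have : c * c * c⁻¹ = c := by group
  rw [this]

theorem mem_Nc_of_commute {c m : SL(2, F)} (hc : ¬ IsScalar c) (h : Commute m c) : m ∈ Nc c := by
  rw [mem_Nc_iff hc]
  have : m * c * m⁻¹ = c := by rw [h.eq]; group
  rw [this]

/-- `Nc` only depends on the centraliser -/
theorem Nc_eq_of_commute {c c' : SL(2, F)} (hc : ¬ IsScalar c) (hc' : ¬ IsScalar c')
    (h : Commute c c') : Nc c = Nc c' := by
  have key : ∀ {u v : SL(2, F)}, ¬ IsScalar u → ¬ IsScalar v → Commute u v → Nc u ≤ Nc v := by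
    intro u v hu hv huv m hm
    rw [mem_Nc_iff hu] at hm
    rw [mem_Nc_iff hv]
    -- m v m⁻¹ ~ m u m⁻¹ ~ u ~ v
    have h1 : Commute (m * v * m⁻¹) (m * u * m⁻¹) := commute_conj m huv.symm
    have hu' : ¬ IsScalar (m * u * m⁻¹) := by rw [isScalar_conj_iff]; exact hu
    have h2 : Commute (m * v * m⁻¹) u := commute_trans hu' h1 hm
    exact commute_trans hu h2 huv
  exact le_antisymm (key hc hc' h) (key hc' hc h.symm)

section fin

variable [Fintype F] [CharP F 3]

/-- a non-scalar element with `tr² = 4` is conjugate to `± tU b` -/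
theorem exists_conj_tU {c : SL(2, F)} (hc : ¬ IsScalar c) (ht : tr c * tr c = 4) :
    ∃ (g : SL(2, F)) (b : F), b ≠ 0 ∧ (g⁻¹ * c * g = tU b ∨ g⁻¹ * c * g = negOne * tU b) := by
  haveI : Fact (Nat.Prime 3) := ⟨Nat.prime_three⟩
  have key : ∀ c' : SL(2, F), ¬ IsScalar c' → tr c' = 2 →
      ∃ (g : SL(2, F)) (b : F), b ≠ 0 ∧ g⁻¹ * c' * g = tU b := by
    intro c' hc' ht'
    have h3 : c' ^ 3 = 1 := pow_char_of_tr_two 3 ht'
    have hP : IsPGroup 3 (Subgroup.zpowers c') :=
      Cfsg.Agent.Lib.Helper50_SL2Classes.isPGroup_zpowers h3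
    obtain ⟨g, hg⟩ := Cfsg.Agent.Lib.Helper50_SL2Dickson.exists_conj_of_isPGroup 3 _ hP
    obtain ⟨b, hb⟩ := hg c' (Subgroup.mem_zpowers c')
    refine ⟨g, b, ?_, hb⟩
    rintro rfl
    rw [tU_zero] at hb
    apply hc'
    have : c' = 1 := by
      calc c' = g * (g⁻¹ * c' * g) * g⁻¹ := by group
        _ = 1 := by rw [hb]; group
    rw [this]; exact isScalar_one
  have h4 : (tr c - 2) * (tr c + 2) = 0 := by linear_combination ht
  rcases mul_eq_zero.1 h4 with h | h
  · obtain ⟨g, b, hb, hg⟩ := key c hc (by linear_combination h)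
    exact ⟨g, b, hb, Or.inl hg⟩
  · have hc' : ¬ IsScalar (negOne * c) := by
      intro hs
      apply hc
      have := isScalar_negOne.mul hs
      rwa [← mul_assoc, negOne_mul_negOne, one_mul] at this
    obtain ⟨g, b, hb, hg⟩ := key (negOne * c) hc' (by rw [tr_negOne_mul]; linear_combination -h)
    refine ⟨g, b, hb, Or.inr ?_⟩
    have : g⁻¹ * c * g = negOne * (g⁻¹ * (negOne * c) * g) := by
      rw [← mul_assoc g⁻¹, ← negOne_comm g⁻¹, mul_assoc negOne, mul_assoc negOne, ← mul_assoc negOne,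
        negOne_mul_negOne, one_mul, mul_assoc]
    rw [this, hg]

/-- normalising the centraliser of `tU b` means being upper triangular -/
theorem lower_zero_of_commute_conj_tU {b : F} (hb : b ≠ 0) {m : SL(2, F)}
    (h : Commute (m * tU b * m⁻¹) (tU b)) : m 1 0 = 0 := by
  obtain ⟨c00, c01, c10, c11⟩ := conj_tU m b
  rw [commute_iff] at h
  obtain ⟨a1, -, -⟩ := h
  rw [tU10, tU01, c10] at a1
  have : b * b * (m 1 0 * m 1 0) = 0 := by linear_combination a1
  rcases mul_eq_zero.1 this with h0 | h0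
  · exact absurd (mul_self_eq_zero.1 h0) hb
  · exact mul_self_eq_zero.1 h0

theorem conj_lower_zero_of_mem_Nc {c g : SL(2, F)} {b : F} (hc : ¬ IsScalar c) (hb : b ≠ 0)
    (hg : g⁻¹ * c * g = tU b ∨ g⁻¹ * c * g = negOne * tU b) {m : SL(2, F)} (hm : m ∈ Nc c) :
    (g⁻¹ * m * g) 1 0 = 0 := by
  rw [mem_Nc_iff hc] at hm
  apply lower_zero_of_commute_conj_tU hb
  have h1 : Commute (g⁻¹ * (m * c * m⁻¹) * g⁻¹⁻¹) (g⁻¹ * c * g⁻¹⁻¹) := commute_conj g⁻¹ hm
  rw [inv_inv] at h1
  have e : g⁻¹ * (m * c * m⁻¹) * g = (g⁻¹ * m * g) * (g⁻¹ * c * g) * (g⁻¹ * m * g)⁻¹ := by group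
  rw [e] at h1
  rcases hg with hg | hg
  · rw [hg] at h1; exact h1
  · rw [hg] at h1
    -- remove the signs
    have e2 : g⁻¹ * m * g * (negOne * tU b) * (g⁻¹ * m * g)⁻¹ =
        negOne * (g⁻¹ * m * g * tU b * (g⁻¹ * m * g)⁻¹) := by
      rw [← mul_assoc (g⁻¹ * m * g), ← negOne_comm (g⁻¹ * m * g), mul_assoc negOne, mul_assoc negOne]
    rw [e2] at h1
    have h2 : Commute (g⁻¹ * m * g * tU b * (g⁻¹ * m * g)⁻¹) (negOne * tU b) := by
      have := (isScalar_negOne.commute (negOne * tU b)).mul_left h1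
      rwa [← mul_assoc, negOne_mul_negOne, one_mul] at this
    have := (isScalar_negOne.commute (g⁻¹ * m * g * tU b * (g⁻¹ * m * g)⁻¹)).symm.mul_right h2
    rwa [← mul_assoc, negOne_mul_negOne, one_mul] at this

/-- the normaliser of the centraliser of a non-scalar element is solvable -/
theorem isSolvable_Nc {c : SL(2, F)} (hc : ¬ IsScalar c) : Group.IsSolvable ↥(Nc c) := by
  by_cases ht : tr c * tr c = 4
  · obtain ⟨g, b, hb, hg⟩ := exists_conj_tU hc ht
    exact Cfsg.Agent.Lib.Helper51_SL2Solv.isSolvable_of_tri (Nc c) g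
      (fun m hm => conj_lower_zero_of_mem_Nc hc hb hg hm)
  · obtain ⟨T, hTK, hTab, hidx⟩ :=
      Cfsg.Agent.Lib.Helper50_DkStruct.exists_abelian_of_conj_commute (Nc c) c ht
        (fun g hg => (mem_Nc_iff hc g).1 hg)
    exact Cfsg.Agent.Lib.Helper51_SL2Solv.isSolvable_of_abelian_index_two (Nc c) T hTab hidx
      Subgroup.index_ne_zero_of_finite

theorem solv_of_mem_Nc {c x y : SL(2, F)} (hc : ¬ IsScalar c) (hx : x ∈ Nc c) (hy : y ∈ Nc c) :
    Solv x y := by
  haveI := isSolvable_Nc hc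
  exact Cfsg.Agent.Lib.Helper99_SL2EvenSol.isSolvable_closure_pair_of_mem (Nc c) x y hx hy

end fin

/-! ### triangular matrices -/

/-- lower triangular matrices -/
def BLo : Subgroup SL(2, F) where
  carrier := {y | y 0 1 = 0}
  mul_mem' := by
    intro a b ha hb
    simp only [Set.mem_setOf_eq] at ha hb ⊢
    rw [mul01, ha, hb]; ring
  one_mem' := by simp
  inv_mem' := by
    intro a ha
    simp only [Set.mem_setOf_eq] at ha ⊢
    rw [inv01, ha, neg_zero]

theorem mem_BLo (y : SL(2, F)) : y ∈ (BLo : Subgroup SL(2, F)) ↔ y 0 1 = 0 := Iff.rfl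

/-- the Weyl element -/
def wE : SL(2, F) := mk 0 1 (-1) 0 (by ring)

instance isSolvable_BLo : Group.IsSolvable ↥(BLo : Subgroup SL(2, F)) := by
  apply Cfsg.Agent.Lib.Helper51_SL2Solv.isSolvable_of_tri BLo wE
  intro m hm
  rw [mem_BLo] at hm
  simp only [mul10, mul11, inv10, inv11, wE, mk00, mk01, mk10, mk11, hm]
  ring

theorem solv_of_upper {x y : SL(2, F)} (hx : x 1 0 = 0) (hy : y 1 0 = 0) : Solv x y :=
  Cfsg.Agent.Lib.Helper99_SL2EvenSol.isSolvable_closure_pair_of_mem
    (Cfsg.Agent.Lib.Helper51_SL2Solv.BT) x y hx hy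

theorem solv_of_lower {x y : SL(2, F)} (hx : x 0 1 = 0) (hy : y 0 1 = 0) : Solv x y :=
  Cfsg.Agent.Lib.Helper99_SL2EvenSol.isSolvable_closure_pair_of_mem BLo x y hx hy

/-! ### general transport -/

theorem solv_symm {x y : SL(2, F)} (h : Solv x y) : Solv y x := by
  unfold Solv at *
  rwa [Set.pair_comm]

theorem solv_congr (e : SL(2, F) ≃* SL(2, F)) (x y : SL(2, F)) : Solv x y ↔ Solv (e x) (e y) :=
  Cfsg.Agent.Lib.Helper99_SL2EvenSol.isSolvable_closure_pair_congr e x y

theorem solv_conj (g x y : SL(2, F)) : Solv x y ↔ Solv (g * x * g⁻¹) (g * y * g⁻¹) :=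
  solv_congr (MulAut.conj g) x y

theorem solv_of_closure_le {x y x' y' : SL(2, F)}
    (h : Subgroup.closure ({x, y} : Set SL(2, F)) ≤ Subgroup.closure ({x', y'} : Set SL(2, F)))
    (hs : Solv x' y') : Solv x y := by
  unfold Solv at *
  exact Cfsg.Agent.Lib.Helper99_SL2EvenSol.isSolvable_of_le h

theorem closure_pair_mul' {G : Type*} [Group G] (x y : G) :
    Subgroup.closure ({x, y} : Set G) = Subgroup.closure ({x, x * y} : Set G) := by
  apply le_antisymm
  · rw [Subgroup.closure_le]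
    intro z hz
    rcases hz with hz | hz
    · rw [hz]; exact Subgroup.subset_closure (by simp)
    · rw [Set.mem_singleton_iff] at hz
      rw [hz]
      have h1 : x ∈ Subgroup.closure ({x, x * y} : Set G) := Subgroup.subset_closure (by simp)
      have h2 : x * y ∈ Subgroup.closure ({x, x * y} : Set G) := Subgroup.subset_closure (by simp)
      have h3 := Subgroup.mul_mem _ (Subgroup.inv_mem _ h1) h2
      rwa [inv_mul_cancel_left] at h3
  · rw [Subgroup.closure_le]
    intro z hz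
    rcases hz with hz | hz
    · rw [hz]; exact Subgroup.subset_closure (by simp)
    · rw [Set.mem_singleton_iff] at hz
      rw [hz]
      exact Subgroup.mul_mem _ (Subgroup.subset_closure (by simp)) (Subgroup.subset_closure (by simp))

/-- replacing `y` by `x y` -/
theorem solv_mul_iff (x y : SL(2, F)) : Solv x y ↔ Solv x (x * y) := by
  unfold Solv
  rw [closure_pair_mul' x y]

end Cfsg.Agent.Lib.Helper5_Sol3C
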