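import Mathlib
import Cfsg.Agent.Lib.Helper5_Sol3C
import Cfsg.Agent.Lib.Helper5_PSLCard
import Cfsg.Agent.Lib.Helper50_DkPSL

/-!
# Solubilizers in `PSL₂(3^p)` (helper5), part D: the prime field subgroup `SL(2,3)`

Matrices with entries in the prime field generate a solvable group; consequence for pairs
`(tU b, y)` with `b y₁₀ = ± 1` and `tr y` in the prime field.
-/

set_option autoImplicit false

namespace Cfsg.Agent.Lib.Helper5_Sol3D

open Matrix Cfsg.Agent.Lib.Helper50_SL2Mat Cfsg.Agent.Lib.Helper5_Sol3A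
  Cfsg.Agent.Lib.Helper5_Sol3C Cfsg.Agent.Lib.Helper50_DkPSL
open scoped MatrixGroups

variable {F : Type*} [Field F] [CharP F 3]

/-- the prime field embedding -/
def ι3 : ZMod 3 →+* F := ZMod.castHom (dvd_refl 3) F

/-- `SL(2,3) → SL(2,F)` -/
def map3 : SL(2, ZMod 3) →* SL(2, F) := Matrix.SpecialLinearGroup.map (ι3 (F := F))

theorem exists_ι3_of_cube {t : F} (h : t ^ 3 = t) : ∃ z : ZMod 3, t = ι3 z := by
  have h3 := three_eq_zero (F := F)
  have : t * ((t - 1) * (t + 1)) = 0 := by linear_combination h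
  rcases mul_eq_zero.1 this with h0 | h0
  · exact ⟨0, by rw [h0, map_zero]⟩
  · rcases mul_eq_zero.1 h0 with h1 | h1
    · exact ⟨1, by rw [map_one]; linear_combination h1⟩
    · exact ⟨-1, by rw [map_neg, map_one]; linear_combination h1⟩

theorem mem_range_map3 {g : SL(2, F)} (h : ∀ i j, (g i j) ^ 3 = g i j) :
    g ∈ (map3 (F := F)).range := by
  have hc : ∀ i j, ∃ z : ZMod 3, g i j = ι3 z := fun i j => exists_ι3_of_cube (h i j)
  choose z hz using hc
  let M : Matrix (Fin 2) (Fin 2) (ZMod 3) := Matrix.of z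
  have hmap : M.map (ι3 (F := F)) = (g : Matrix (Fin 2) (Fin 2) F) := by
    ext i j
    rw [Matrix.map_apply]
    show ι3 (z i j) = _
    rw [← hz]
  have hdet : M.det = 1 := by
    have h1 : (ι3 (F := F)) M.det = 1 := by
      rw [RingHom.map_det, RingHom.mapMatrix_apply, hmap]
      exact g.2
    have hinj : Function.Injective (ι3 (F := F)) := RingHom.injective _
    apply hinj
    rw [h1, map_one]
  refine ⟨⟨M, hdet⟩, ?_⟩
  apply Subtype.ext
  show M.map (ι3 (F := F)) = _
  exact hmap

instance isSolvable_SL23 : Group.IsSolvable (SL(2, ZMod 3)) := by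
  apply Cfsg.Agent.Lib.Helper51_SL2Solv.isSolvable_of_card_dvd_48
  rw [Cfsg.Agent.Lib.Helper5_PSLCard.card_SL_two, ZMod.card]
  norm_num

instance isSolvable_range_map3 : Group.IsSolvable ↥((map3 (F := F)).range) :=
  Group.isSolvable_of_surjective (f := (map3 (F := F)).rangeRestrict) (MonoidHom.rangeRestrict_surjective _)

/-- matrices with entries in the prime field generate a solvable group -/
theorem solv_of_cube {x y : SL(2, F)} (hx : ∀ i j, (x i j) ^ 3 = x i j)
    (hy : ∀ i j, (y i j) ^ 3 = y i j) : Solv x y :=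
  Cfsg.Agent.Lib.Helper99_SL2EvenSol.isSolvable_closure_pair_of_mem _ x y
    (mem_range_map3 hx) (mem_range_map3 hy)

theorem forall_fin2 {P : Fin 2 → Fin 2 → Prop} (h00 : P 0 0) (h01 : P 0 1) (h10 : P 1 0)
    (h11 : P 1 1) : ∀ i j, P i j := by
  intro i j
  fin_cases i <;> fin_cases j <;> assumption

/-- the quaternion-type solvable pairs containing a transvection -/
theorem solv_tU_of_F3 {b : F} (hb : b ≠ 0) {y : SL(2, F)} (hc : (b * y 1 0) * (b * y 1 0) = 1)
    (ht : tr y ^ 3 = tr y) : Solv (tU b) y := by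
  have h3 := three_eq_zero (F := F)
  rw [solv_congr (dc b hb), dc_tU]
  set y1 := dc b hb y with hy1
  have y100 : y1 0 0 = y 0 0 := rfl
  have y110 : y1 1 0 = b * y 1 0 := rfl
  have y111 : y1 1 1 = y 1 1 := rfl
  set c := b * y 1 0 with hcdef
  have hc0 : c ≠ 0 := by
    intro h0
    rw [h0] at hc
    simp at hc
  set t := -(y 0 0) / c with htdef
  rw [solv_conj (tU t)]
  have e1 : tU t * tU 1 * (tU t)⁻¹ = tU (1 : F) := by
    rw [(commute_tU t 1).eq]; group
  rw [e1]
  set y2 := tU t * y1 * (tU t)⁻¹ with hy2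
  have e00 : y2 0 0 = 0 := by
    rw [hy2]
    simp only [mul00, mul01, mul10, mul11, inv00, inv01, inv10, inv11, tU00, tU01, tU10, tU11,
      y100, y110, y111]
    rw [htdef]; field_simp; ring
  have e10 : y2 1 0 = c := by
    rw [hy2]
    simp only [mul00, mul01, mul10, mul11, inv00, inv01, inv10, inv11, tU00, tU01, tU10, tU11,
      y100, y110, y111]
    ring
  have e11 : y2 1 1 = tr y := by
    rw [hy2]
    simp only [mul00, mul01, mul10, mul11, inv00, inv01, inv10, inv11, tU00, tU01, tU10, tU11,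
      y100, y110, y111]
    unfold tr
    rw [htdef]; field_simp; ring
  have e01 : y2 0 1 = -c := by
    have hd := det1 y2
    rw [e00, e10] at hd
    have : c * (y2 0 1 + c) = 0 := by linear_combination -hd + hc
    rcases mul_eq_zero.1 this with h0 | h0
    · exact absurd h0 hc0
    · linear_combination h0
  have hc3 : c ^ 3 = c := by
    have : c ^ 3 = c * (c * c) := by ring
    rw [this, hc, mul_one]
  apply solv_of_cube
  · apply forall_fin2 <;> simp
  · apply forall_fin2
    · rw [e00]; ring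
    · rw [e01]; linear_combination -hc3
    · rw [e10]; exact hc3
    · rw [e11]; exact ht

end Cfsg.Agent.Lib.Helper5_Sol3D
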