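import Mathlib
import Cfsg.Agent.Lib.Helper5_Sol3D

/-!
# Solubilizers in `PSL₂(3^p)` (helper5), part E: the four characterisations in `SL(2,F)`

`F` finite of characteristic three with `-1` a non-square.  For `x` non-split (trace non-zero),
split diagonal, a transvection, or the Weyl element, the set of `y` with `⟨x, y⟩` solvable is
described explicitly.
-/

set_option autoImplicit false

namespace Cfsg.Agent.Lib.Helper5_Sol3E

open Matrix Cfsg.Agent.Lib.Helper50_SL2Mat Cfsg.Agent.Lib.Helper5_Sol3A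
  Cfsg.Agent.Lib.Helper5_Sol3B Cfsg.Agent.Lib.Helper5_Sol3C Cfsg.Agent.Lib.Helper5_Sol3D
open scoped MatrixGroups

variable {F : Type*} [Field F]

theorem commute_of_conj_eq {a m : SL(2, F)} (h : m * a * m⁻¹ = a) : Commute m a := by
  unfold Commute SemiconjBy
  calc m * a = (m * a * m⁻¹) * m := by group
    _ = a * m := by rw [h]

/-- entry `(1,0)` of `g⁻¹ h g` -/
theorem conj_inv10 (g h : SL(2, F)) : (g⁻¹ * h * g) 1 0 =
    g 0 0 * g 1 0 * (h 1 1 - h 0 0) + g 0 0 * g 0 0 * h 1 0 - g 1 0 * g 1 0 * h 0 1 := by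
  simp only [mul10, mul11, mul00, mul01, inv00, inv01, inv10, inv11]
  ring

theorem tr_conj_inv (g h : SL(2, F)) : tr (g⁻¹ * h * g) = tr h := by
  have := tr_conj g⁻¹ h
  rwa [inv_inv] at this

/-- a triangularisable element has an eigenvalue -/
theorem exists_root_of_conj_upper {x g : SL(2, F)} (h : (g⁻¹ * x * g) 1 0 = 0) :
    ∃ l : F, l * l - tr x * l + 1 = 0 := by
  refine ⟨(g⁻¹ * x * g) 0 0, ?_⟩
  have hd := det1 (g⁻¹ * x * g)
  rw [h] at hd
  rw [← tr_conj_inv g x]
  unfold tr
  linear_combination -hd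

/-- diagonal matrix -/
noncomputable def dg (l : F) (hl : l ≠ 0) : SL(2, F) :=
  mk l 0 0 l⁻¹ (by rw [mul_inv_cancel₀ hl]; ring)

@[simp] theorem dg00 (l : F) (hl : l ≠ 0) : (dg l hl) 0 0 = l := rfl
@[simp] theorem dg01 (l : F) (hl : l ≠ 0) : (dg l hl) 0 1 = 0 := rfl
@[simp] theorem dg10 (l : F) (hl : l ≠ 0) : (dg l hl) 1 0 = 0 := rfl
@[simp] theorem dg11 (l : F) (hl : l ≠ 0) : (dg l hl) 1 1 = l⁻¹ := rfl

theorem inv_ne_self {l : F} (hl : l ≠ 0) (hl2 : l * l ≠ 1) : l⁻¹ - l ≠ 0 := by
  intro h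
  apply hl2
  have : l⁻¹ = l := by linear_combination h
  calc l * l = l * l⁻¹ := by rw [this]
    _ = 1 := mul_inv_cancel₀ hl

theorem dg_not_isScalar {l : F} (hl : l ≠ 0) (hl2 : l * l ≠ 1) : ¬ IsScalar (dg l hl) := by
  rintro ⟨-, -, h⟩
  apply inv_ne_self hl hl2
  rw [dg00, dg11] at h
  rw [← h, sub_self]

/-- conjugating a diagonal matrix -/
theorem conj_dg (l : F) (hl : l ≠ 0) (y : SL(2, F)) :
    (y * dg l hl * y⁻¹) 0 1 = y 0 0 * y 0 1 * (l⁻¹ - l) ∧
    (y * dg l hl * y⁻¹) 1 0 = y 1 0 * y 1 1 * (l - l⁻¹) := by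
  constructor <;>
  simp only [mul10, mul11, mul00, mul01, inv00, inv01, inv10, inv11, dg00, dg01, dg10, dg11] <;>
  ring

theorem mem_Nc_dg_iff {l : F} (hl : l ≠ 0) (hl2 : l * l ≠ 1) (y : SL(2, F)) :
    y ∈ Nc (dg l hl) ↔ y 0 0 * y 0 1 = 0 ∧ y 1 0 * y 1 1 = 0 := by
  have hne := inv_ne_self hl hl2
  have hne' : l - l⁻¹ ≠ 0 := fun h => hne (by linear_combination -h)
  rw [mem_Nc_iff (dg_not_isScalar hl hl2), commute_iff]
  obtain ⟨c01, c10⟩ := conj_dg l hl y
  simp only [dg00, dg01, dg10, dg11, mul_zero, zero_mul, true_and]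
  constructor
  · rintro ⟨e1, e2⟩
    constructor
    · rw [c01] at e1
      have := (mul_eq_zero.1 e1).resolve_right hne'
      exact (mul_eq_zero.1 this).resolve_right hne
    · rw [c10] at e2
      have := (mul_eq_zero.1 e2).resolve_right hne'
      exact (mul_eq_zero.1 this).resolve_right hne'
  · rintro ⟨e1, e2⟩
    rw [c01, c10, e1, e2]
    simp

theorem tU_not_isScalar {b : F} (hb : b ≠ 0) : ¬ IsScalar (tU b) := fun h => hb h.1


section fin

variable [Fintype F] [CharP F 3]

/-- the trichotomy for a solvable pair -/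
theorem solv_cases (hns : ∀ x : F, x * x ≠ -1) {x y : SL(2, F)} (h : Solv x y) :
    (IsScalar x ∧ IsScalar y) ∨
    (∃ a : SL(2, F), ¬ IsScalar a ∧ x ∈ Nc a ∧ y ∈ Nc a) ∨
    (tr x ^ 3 = tr x ∧ tr y ^ 3 = tr y ∧ tr (x * y) ^ 3 = tr (x * y)) := by
  unfold Solv at h
  set K := Subgroup.closure ({x, y} : Set SL(2, F)) with hK
  have hxK : x ∈ K := Subgroup.subset_closure (by simp)
  have hyK : y ∈ K := Subgroup.subset_closure (by simp)
  rcases structure_lemma hns K.subtype K.subtype_injective with h1 | ⟨a, ha, h2⟩ | h3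
  · left
    exact ⟨h1 ⟨x, hxK⟩, h1 ⟨y, hyK⟩⟩
  · right; left
    have ha' : ¬ IsScalar (a : SL(2, F)) := ha
    refine ⟨(a : SL(2, F)), ha', ?_, ?_⟩
    · rw [mem_Nc_iff ha']; exact h2 ⟨x, hxK⟩
    · rw [mem_Nc_iff ha']; exact h2 ⟨y, hyK⟩
  · right; right
    exact ⟨h3 ⟨x, hxK⟩, h3 ⟨y, hyK⟩, h3 ⟨x * y, K.mul_mem hxK hyK⟩⟩

theorem cube_cases {t : F} (h : t ^ 3 = t) : t = 0 ∨ t = 1 ∨ t = -1 := by
  have : t * ((t - 1) * (t + 1)) = 0 := by linear_combination h
  rcases mul_eq_zero.1 this with h0 | h0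
  · exact Or.inl h0
  · rcases mul_eq_zero.1 h0 with h1 | h1
    · right; left; linear_combination h1
    · right; right; linear_combination h1

/-- elements of `Nc a`, `a` semisimple: centralise or invert -/
theorem mem_Nc_cases {a m : SL(2, F)} (ha4 : tr a * tr a ≠ 4) (ha : ¬ IsScalar a)
    (hm : m ∈ Nc a) : m * a * m⁻¹ = a ∨ m * a * m⁻¹ = a⁻¹ := by
  rw [mem_Nc_iff ha] at hm
  exact eq_or_eq_inv_of_commute two_ne_zero' hm.symm (tr_conj m a) ha4

/-! ### non-split elements -/

theorem solv_nonsplit_iff (hns : ∀ x : F, x * x ≠ -1) {x : SL(2, F)}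
    (hx : ∀ l : F, l * l - tr x * l + 1 ≠ 0) (htr : tr x ≠ 0) (y : SL(2, F)) :
    Solv x y ↔ y ∈ Nc x := by
  have h3 := three_eq_zero (F := F)
  have hxs : ¬ IsScalar x := by
    intro hs
    apply hx (x 0 0)
    have := hs.sq
    unfold tr
    rw [← hs.2.2]
    linear_combination -this
  constructor
  · intro h
    rcases solv_cases hns h with ⟨h1, -⟩ | ⟨a, ha, hxa, hya⟩ | ⟨h1, -, -⟩
    · exact absurd h1 hxs
    · by_cases ha4 : tr a * tr a = 4
      · exfalso
        obtain ⟨g, b, hb, hg⟩ := exists_conj_tU ha ha4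
        obtain ⟨l, hl⟩ := exists_root_of_conj_upper (conj_lower_zero_of_mem_Nc ha hb hg hxa)
        exact hx l hl
      · rcases mem_Nc_cases ha4 ha hxa with h1 | h1
        · rw [Nc_eq_of_commute hxs ha (commute_of_conj_eq h1)]
          exact hya
        · exact absurd (tr_eq_zero_of_conj_eq_inv ha h1) htr
    · exfalso
      rcases cube_cases h1 with h0 | h0 | h0
      · exact htr h0
      · apply hx (-1)
        rw [h0]; linear_combination h3
      · apply hx 1
        rw [h0]; linear_combination h3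
  · intro h
    exact solv_of_mem_Nc hxs (self_mem_Nc hxs) h

/-! ### split elements -/

theorem solv_split_iff (hns : ∀ x : F, x * x ≠ -1) {l : F} (hl : l ≠ 0) (hl2 : l * l ≠ 1)
    (y : SL(2, F)) :
    Solv (dg l hl) y ↔ (y 1 0 = 0 ∨ y 0 1 = 0 ∨ (y 0 0 = 0 ∧ y 1 1 = 0)) := by
  have h3 := three_eq_zero (F := F)
  have hds := dg_not_isScalar hl hl2
  have hne := inv_ne_self hl hl2
  have htr : tr (dg l hl) = l + l⁻¹ := rfl
  have htr0 : tr (dg l hl) ≠ 0 := by
    rw [htr]
    intro h
    apply hns l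
    have : l * (l + l⁻¹) = 0 := by rw [h, mul_zero]
    rw [mul_add, mul_inv_cancel₀ hl] at this
    linear_combination this
  have hfromNc : y ∈ Nc (dg l hl) → (y 1 0 = 0 ∨ y 0 1 = 0 ∨ (y 0 0 = 0 ∧ y 1 1 = 0)) := by
    intro h
    obtain ⟨e1, e2⟩ := (mem_Nc_dg_iff hl hl2 y).1 h
    rcases mul_eq_zero.1 e1 with h00 | h01
    · rcases mul_eq_zero.1 e2 with h10 | h11
      · exact Or.inl h10
      · exact Or.inr (Or.inr ⟨h00, h11⟩)
    · exact Or.inr (Or.inl h01)
  constructor
  · intro h
    rcases solv_cases hns h with ⟨h1, -⟩ | ⟨a, ha, hxa, hya⟩ | ⟨h1, -, -⟩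
    · exact absurd h1 hds
    · by_cases ha4 : tr a * tr a = 4
      · obtain ⟨g, b, hb, hg⟩ := exists_conj_tU ha ha4
        have hd := conj_lower_zero_of_mem_Nc ha hb hg hxa
        have hy := conj_lower_zero_of_mem_Nc ha hb hg hya
        rw [conj_inv10] at hd hy
        simp only [dg00, dg01, dg10, dg11, mul_zero, sub_zero, add_zero] at hd
        have hdet := det1 g
        rcases mul_eq_zero.1 hd with h0 | h0
        · rcases mul_eq_zero.1 h0 with h00 | h10
          · right; left
            rw [h00] at hy hdet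
            have h10 : g 1 0 ≠ 0 := by
              intro h; rw [h] at hdet; simp at hdet
            have : g 1 0 * g 1 0 * y 0 1 = 0 := by linear_combination -hy
            exact (mul_eq_zero.1 this).resolve_left (mul_ne_zero h10 h10)
          · left
            rw [h10] at hy hdet
            have h00 : g 0 0 ≠ 0 := by
              intro h; rw [h] at hdet; simp at hdet
            have : g 0 0 * g 0 0 * y 1 0 = 0 := by linear_combination hy
            exact (mul_eq_zero.1 this).resolve_left (mul_ne_zero h00 h00)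
        · exact absurd h0 hne
      · rcases mem_Nc_cases ha4 ha hxa with h1 | h1
        · apply hfromNc
          rw [Nc_eq_of_commute hds ha (commute_of_conj_eq h1)]
          exact hya
        · exact absurd (tr_eq_zero_of_conj_eq_inv ha h1) htr0
    · exfalso
      have key : ∀ e : F, e * e = 1 → l + l⁻¹ = e → False := by
        intro e he h
        apply hl2
        have h1 : l * (l + l⁻¹) = l * e := by rw [h]
        rw [mul_add, mul_inv_cancel₀ hl] at h1
        have h2 : (l + e) * (l + e) = 0 := by linear_combination h1 + he + e * l * h3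
        have h4 : l = -e := by linear_combination mul_self_eq_zero.1 h2
        rw [h4]; linear_combination he
      rw [htr] at h1
      rcases cube_cases h1 with h0 | h0 | h0
      · apply htr0; rw [htr]; exact h0
      · exact key 1 (by ring) h0
      · exact key (-1) (by ring) h0
  · rintro (h | h | ⟨h00, h11⟩)
    · exact solv_of_upper rfl h
    · exact solv_of_lower rfl h
    · apply solv_of_mem_Nc hds (self_mem_Nc hds)
      rw [mem_Nc_dg_iff hl hl2, h00, h11]
      simp

/-! ### transvections -/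

theorem solv_tU_iff (hns : ∀ x : F, x * x ≠ -1) {b : F} (hb : b ≠ 0) (y : SL(2, F)) :
    Solv (tU b) y ↔ (y 1 0 = 0 ∨ ((b * y 1 0) * (b * y 1 0) = 1 ∧ tr y ^ 3 = tr y)) := by
  have h3 := three_eq_zero (F := F)
  have h2 : (2 : F) ≠ 0 := two_ne_zero'
  have hus := tU_not_isScalar hb
  constructor
  · intro h
    rcases solv_cases hns h with ⟨h1, -⟩ | ⟨a, ha, hxa, hya⟩ | ⟨-, h1, h2'⟩
    · exact absurd h1 hus
    · left
      by_cases ha4 : tr a * tr a = 4
      · obtain ⟨g, b', hb', hg⟩ := exists_conj_tU ha ha4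
        have hd := conj_lower_zero_of_mem_Nc ha hb' hg hxa
        have hy := conj_lower_zero_of_mem_Nc ha hb' hg hya
        rw [conj_inv10] at hd hy
        simp only [tU00, tU01, tU10, tU11, sub_self, mul_zero, zero_add, add_zero] at hd
        have hdet := det1 g
        have h10 : g 1 0 = 0 := by
          have : b * (g 1 0 * g 1 0) = 0 := by linear_combination -hd
          exact mul_self_eq_zero.1 ((mul_eq_zero.1 this).resolve_left hb)
        rw [h10] at hy hdet
        have h00 : g 0 0 ≠ 0 := by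
          intro h; rw [h] at hdet; simp at hdet
        have : g 0 0 * g 0 0 * y 1 0 = 0 := by linear_combination hy
        exact (mul_eq_zero.1 this).resolve_left (mul_ne_zero h00 h00)
      · exfalso
        rcases mem_Nc_cases ha4 ha hxa with h1 | h1
        · apply ha4
          have hc : Commute a (tU b) := (commute_of_conj_eq h1).symm
          exact tr_sq_of_commute hus hc (by rw [tr_tU]; norm_num)
        · have := tr_eq_zero_of_conj_eq_inv ha h1
          rw [tr_tU] at this
          exact h2 this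
    · have e : tr (tU b * y) = tr y + b * y 1 0 := by
        unfold tr
        rw [mul00, mul11]
        simp only [tU00, tU01, tU10, tU11]
        ring
      rw [e] at h2'
      have hc : (b * y 1 0) ^ 3 = b * y 1 0 := by
        have : (tr y + b * y 1 0) ^ 3 = tr y ^ 3 + (b * y 1 0) ^ 3 +
            3 * (tr y * (b * y 1 0) * (tr y + b * y 1 0)) := by ring
        rw [this, h3, zero_mul, add_zero, h1] at h2'
        linear_combination h2'
      rcases cube_cases hc with h0 | h0 | h0
      · left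
        exact (mul_eq_zero.1 h0).resolve_left hb
      · right
        exact ⟨by rw [h0]; ring, h1⟩
      · right
        exact ⟨by rw [h0]; ring, h1⟩
  · rintro (h | ⟨h1, h2'⟩)
    · exact solv_of_upper rfl h
    · exact solv_tU_of_F3 hb h1 h2'

end fin

end Cfsg.Agent.Lib.Helper5_Sol3E
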