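import Mathlib
import Cfsg.Agent.Lib.Helper5_Sol3E

/-!
# Solubilizers in `PSL₂(3^p)` (helper5), part F: the Weyl element (involutions of `PSL₂`)
-/

set_option autoImplicit false

namespace Cfsg.Agent.Lib.Helper5_Sol3F

open Matrix Cfsg.Agent.Lib.Helper50_SL2Mat Cfsg.Agent.Lib.Helper5_Sol3A
  Cfsg.Agent.Lib.Helper5_Sol3B Cfsg.Agent.Lib.Helper5_Sol3C Cfsg.Agent.Lib.Helper5_Sol3D
  Cfsg.Agent.Lib.Helper5_Sol3E
open scoped MatrixGroups

variable {F : Type*} [Field F]

theorem tr_mul_comm (g h : SL(2, F)) : tr (g * h) = tr (h * g) := by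
  unfold tr
  simp only [mul00, mul11]
  ring

@[simp] theorem wE00 : (wE : SL(2, F)) 0 0 = 0 := rfl
@[simp] theorem wE01 : (wE : SL(2, F)) 0 1 = 1 := rfl
@[simp] theorem wE10 : (wE : SL(2, F)) 1 0 = -1 := rfl
@[simp] theorem wE11 : (wE : SL(2, F)) 1 1 = 0 := rfl

theorem tr_wE : tr (wE : SL(2, F)) = 0 := by
  unfold tr; rw [wE00, wE11, add_zero]

theorem wE_not_isScalar : ¬ IsScalar (wE : SL(2, F)) := by
  rintro ⟨h, -, -⟩
  rw [wE01] at h
  exact one_ne_zero h

theorem tr_wE_mul (y : SL(2, F)) : tr (wE * y) = y 1 0 - y 0 1 := by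
  unfold tr
  rw [mul00, mul11, wE00, wE01, wE10, wE11]
  ring

theorem not_isScalar_of_tr_zero (h2 : (2 : F) ≠ 0) {u : SL(2, F)} (hu : tr u = 0) :
    ¬ IsScalar u := by
  intro hs
  have h1 := hs.sq
  have h3 : u 0 0 = 0 := by
    have : (2 : F) * u 0 0 = 0 := by
      unfold tr at hu
      rw [← hs.2.2] at hu
      linear_combination hu
    exact (mul_eq_zero.1 this).resolve_left h2
  rw [h3] at h1
  simp at h1

theorem inv_of_tr_zero {u : SL(2, F)} (hu : tr u = 0) : u⁻¹ = negOne * u := by
  apply inv_eq_of_mul_eq_one_left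
  rw [mul_assoc, sq_of_tr_zero hu, negOne_mul_negOne]

section fin

variable [Fintype F] [CharP F 3]

/-- two elements of trace zero (involutions of `PSL₂`) generate a solvable group -/
theorem solv_of_tr_zero {u v : SL(2, F)} (hu : tr u = 0) (hv : tr v = 0) : Solv u v := by
  have h2 : (2 : F) ≠ 0 := two_ne_zero'
  have hus := not_isScalar_of_tr_zero h2 hu
  by_cases hc : IsScalar (u * v)
  · apply solv_of_mem_Nc hus (self_mem_Nc hus)
    apply mem_Nc_of_commute hus
    have hv' : v = u⁻¹ * (u * v) := by group
    rw [hv']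
    exact (Commute.refl u).inv_left.mul_left (hc.commute u)
  · apply solv_of_mem_Nc hc
    · rw [mem_Nc_iff hc]
      have e : u * (u * v) * u⁻¹ = (u * v)⁻¹ := by
        calc u * (u * v) * u⁻¹ = (u * u) * v * u⁻¹ := by group
          _ = negOne * v * u⁻¹ := by rw [sq_of_tr_zero hu]
          _ = v⁻¹ * u⁻¹ := by rw [inv_of_tr_zero hv]
          _ = (u * v)⁻¹ := by rw [_root_.mul_inv_rev]
      rw [e]
      exact (Commute.refl (u * v)).inv_left
    · rw [mem_Nc_iff hc]
      have e : v * (u * v) * v⁻¹ = (u * v)⁻¹ := by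
        have hcm : v * negOne = negOne * v := (negOne_comm v).symm
        calc v * (u * v) * v⁻¹ = v * u := by group
          _ = (negOne * negOne) * (v * u) := by rw [negOne_mul_negOne, one_mul]
          _ = negOne * (negOne * v) * u := by group
          _ = negOne * (v * negOne) * u := by rw [hcm]
          _ = (negOne * v) * (negOne * u) := by group
          _ = v⁻¹ * u⁻¹ := by rw [inv_of_tr_zero hv, inv_of_tr_zero hu]
          _ = (u * v)⁻¹ := by rw [_root_.mul_inv_rev]
      rw [e]
      exact (Commute.refl (u * v)).inv_left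

/-- a trace zero element and a `±` transvection with product of trace `± 1` -/
theorem solv_trzero_unip {i' : SL(2, F)} (hi : tr i' = 0) {b : F} (hb : b ≠ 0)
    (h : tr (i' * tU b) * tr (i' * tU b) = 1) :
    Solv i' (tU b) ∧ Solv i' (negOne * tU b) := by
  have e : tr (i' * tU b) = b * i' 1 0 := by
    rw [tr_mul_comm]
    unfold tr at hi ⊢
    rw [mul00, mul11]
    simp only [tU00, tU01, tU10, tU11]
    linear_combination hi
  rw [e] at h
  have h1 : Solv i' (tU b) := by
    apply solv_symm
    apply solv_tU_of_F3 hb h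
    rw [hi]; ring
  refine ⟨h1, ?_⟩
  apply solv_of_closure_le _ h1
  rw [Subgroup.closure_le]
  intro z hz
  have hi' : i' ∈ Subgroup.closure ({i', tU b} : Set SL(2, F)) :=
    Subgroup.subset_closure (by simp)
  have hu' : tU b ∈ Subgroup.closure ({i', tU b} : Set SL(2, F)) :=
    Subgroup.subset_closure (by simp)
  rcases hz with hz | hz
  · rw [hz]; exact hi'
  · rw [Set.mem_singleton_iff] at hz
    rw [hz, ← sq_of_tr_zero hi]
    exact Subgroup.mul_mem _ (Subgroup.mul_mem _ hi' hi') hu'

theorem solv_wE_iff (hns : ∀ x : F, x * x ≠ -1) (y : SL(2, F)) :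
    Solv wE y ↔ (tr y = 0 ∨ y ∈ Nc wE ∨ tr (wE * y) = 0 ∨
      (tr y * tr y = 1 ∧ tr (wE * y) * tr (wE * y) = 1)) := by
  have h3 := three_eq_zero (F := F)
  have h2 : (2 : F) ≠ 0 := two_ne_zero'
  have hws := wE_not_isScalar (F := F)
  constructor
  · intro h
    rcases solv_cases hns h with ⟨h1, -⟩ | ⟨a, ha, hxa, hya⟩ | ⟨-, h1, h2'⟩
    · exact absurd h1 hws
    · by_cases ha4 : tr a * tr a = 4
      · exfalso
        obtain ⟨g, b, hb, hg⟩ := exists_conj_tU ha ha4
        have hd := conj_lower_zero_of_mem_Nc ha hb hg hxa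
        rw [conj_inv10] at hd
        simp only [wE00, wE01, wE10, wE11] at hd
        have hdet := det1 g
        by_cases h10 : g 1 0 = 0
        · rw [h10] at hd hdet
          have h00 : g 0 0 = 0 := by
            have : g 0 0 * g 0 0 = 0 := by linear_combination -hd
            exact mul_self_eq_zero.1 this
          rw [h00] at hdet
          simp at hdet
        · apply hns (g 0 0 * (g 1 0)⁻¹)
          field_simp
          linear_combination -hd
      · rcases mem_Nc_cases ha4 ha hxa with h1 | h1
        · right; left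
          rw [Nc_eq_of_commute hws ha (commute_of_conj_eq h1)]
          exact hya
        · rcases mem_Nc_cases ha4 ha hya with h4 | h4
          · right; right; left
            apply tr_eq_zero_of_conj_eq_inv ha
            calc wE * y * a * (wE * y)⁻¹ = wE * (y * a * y⁻¹) * wE⁻¹ := by group
              _ = a⁻¹ := by rw [h4, h1]
          · left
            exact tr_eq_zero_of_conj_eq_inv ha h4
    · rcases cube_cases h1 with h0 | h0 | h0
      · exact Or.inl h0
      · rcases cube_cases h2' with h4 | h4 | h4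
        · exact Or.inr (Or.inr (Or.inl h4))
        · right; right; right
          rw [h0, h4]; exact ⟨by ring, by ring⟩
        · right; right; right
          rw [h0, h4]; exact ⟨by ring, by ring⟩
      · rcases cube_cases h2' with h4 | h4 | h4
        · exact Or.inr (Or.inr (Or.inl h4))
        · right; right; right
          rw [h0, h4]; exact ⟨by ring, by ring⟩
        · right; right; right
          rw [h0, h4]; exact ⟨by ring, by ring⟩
  · rintro (h | h | h | ⟨h1, h4⟩)
    · exact solv_of_tr_zero tr_wE h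
    · exact solv_of_mem_Nc hws (self_mem_Nc hws) h
    · rw [solv_mul_iff]
      exact solv_of_tr_zero tr_wE h
    · -- the quaternion case
      have hys : ¬ IsScalar y := by
        intro hs
        have : tr (wE * y) = 0 := by
          rcases hs.eq_one_or with e | e
          · rw [e, mul_one, tr_wE]
          · rw [e, ← negOne_comm, tr_negOne_mul, tr_wE, neg_zero]
        rw [this] at h4
        simp at h4
      have hy4 : tr y * tr y = 4 := by rw [h1]; linear_combination -h3
      obtain ⟨g, b, hb, hg⟩ := exists_conj_tU hys hy4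
      rw [solv_conj g⁻¹, inv_inv]
      have hi : tr (g⁻¹ * wE * g) = 0 := by rw [tr_conj_inv, tr_wE]
      have hprod : g⁻¹ * wE * g * (g⁻¹ * y * g) = g⁻¹ * (wE * y) * g := by group
      rcases hg with hg | hg
      · rw [hg]
        refine (solv_trzero_unip hi hb ?_).1
        rw [← hg, hprod, tr_conj_inv]
        exact h4
      · rw [hg]
        refine (solv_trzero_unip hi hb ?_).2
        have e : g⁻¹ * wE * g * tU b = negOne * (g⁻¹ * wE * g * (negOne * tU b)) := by
          rw [← mul_assoc (g⁻¹ * wE * g) negOne, ← negOne_comm (g⁻¹ * wE * g), ← mul_assoc,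
            ← mul_assoc, negOne_mul_negOne, one_mul]
        rw [e, tr_negOne_mul, ← hg, hprod, tr_conj_inv]
        linear_combination h4

end fin

end Cfsg.Agent.Lib.Helper5_Sol3F
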