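import Mathlib
import Cfsg.Agent.Lib.Helper5_Sol3F
import Cfsg.Agent.Lib.Helper42_SL2Class

/-!
# Solubilizers in `PSL₂(3^p)` (helper5), part G: centraliser orders in `SL(2,q)`

`|C(x)| = q + 1` for non-split `x`, `q - 1` for split semisimple `x`, and `|N(C(x))| = 2 |C(x)|`
for `x` with `x ≠ x⁻¹`; conjugacy to a given element of the same trace.
-/

set_option autoImplicit false

namespace Cfsg.Agent.Lib.Helper5_Sol3G

open Matrix Cfsg.Agent.Lib.Helper50_SL2Mat Cfsg.Agent.Lib.Helper5_Sol3A
  Cfsg.Agent.Lib.Helper5_Sol3C Cfsg.Agent.Lib.Helper5_Sol3E Cfsg.Agent.Lib.Helper5_Sol3F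
open scoped MatrixGroups

variable {F : Type*} [Field F] [Fintype F]

theorem trace_eq_tr (g : SL(2, F)) : Matrix.trace (g : Matrix (Fin 2) (Fin 2) F) = tr g := by
  rw [Matrix.trace_fin_two]; rfl

/-- two elements with the same trace `τ`, `τ² ≠ 4`, are conjugate -/
theorem exists_conj_of_tr_eq {x x' : SL(2, F)} (h : tr x = tr x') (hx : tr x' * tr x' ≠ 4) :
    ∃ g : SL(2, F), x = g * x' * g⁻¹ := by
  apply Cfsg.Agent.Lib.Helper41_SL2Conj.conj_of_trace_eq x x'
  · rw [trace_eq_tr, trace_eq_tr, h]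
  · rw [trace_eq_tr]
    intro h4
    apply hx
    rw [← h4]; ring

open Classical in
theorem card_centralizer_mul (x : SL(2, F)) (hx : tr x * tr x ≠ 4) :
    Nat.card (Subgroup.centralizer ({x} : Set SL(2, F))) *
      (Fintype.card F * (Fintype.card F - 1) +
        Fintype.card F * Cfsg.Agent.Lib.Helper42_SL2Class.R (tr x)) =
      Fintype.card F * (Fintype.card F ^ 2 - 1) := by
  have h1 := Subgroup.card_mul_index (Subgroup.centralizer ({x} : Set SL(2, F)))
  rw [Cfsg.Agent.Lib.Helper42_SL2Class.index_centralizer_eq,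
    Cfsg.Agent.Lib.Helper42_SL2Class.ncard_class_of_trace x (by
      rw [trace_eq_tr]
      intro h4
      apply hx
      rw [← h4]; ring),
    trace_eq_tr, Cfsg.Agent.Lib.Helper5_PSLCard.card_SL_two] at h1
  exact h1

/-- the centraliser of a non-split element has order `q + 1` -/
theorem card_centralizer_nonsplit (x : SL(2, F)) (hx : tr x * tr x ≠ 4)
    (hns : ∀ l : F, l * l - tr x * l + 1 ≠ 0) :
    Nat.card (Subgroup.centralizer ({x} : Set SL(2, F))) = Fintype.card F + 1 := by
  classical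
  have h1 := card_centralizer_mul x hx
  rw [Cfsg.Agent.Lib.Helper42_SL2Class.R_eq_zero (tr x) (by
    intro r h
    apply hns r
    linear_combination -h), mul_zero, add_zero] at h1
  have hq : 2 ≤ Fintype.card F := Fintype.one_lt_card
  set q := Fintype.card F with hqdef
  have h2 : q * (q ^ 2 - 1) = (q + 1) * (q * (q - 1)) := by
    obtain ⟨k, hk⟩ : ∃ k, q = k + 1 := ⟨q - 1, by omega⟩
    rw [hk]
    simp only [Nat.add_sub_cancel]
    have : (k + 1) ^ 2 - 1 = k * (k + 2) := by
      have : (k + 1) ^ 2 = k * (k + 2) + 1 := by ring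
      omega
    rw [this]; ring
  rw [h2] at h1
  have hpos : 0 < q * (q - 1) := Nat.mul_pos (by omega) (by omega)
  exact Nat.eq_of_mul_eq_mul_right hpos h1

/-- the centraliser of a split semisimple element has order `q - 1` -/
theorem card_centralizer_split (x : SL(2, F)) (hx : tr x * tr x ≠ 4)
    (l : F) (hl : l * l - tr x * l + 1 = 0) :
    Nat.card (Subgroup.centralizer ({x} : Set SL(2, F))) = Fintype.card F - 1 := by
  classical
  have h1 := card_centralizer_mul x hx
  rw [Cfsg.Agent.Lib.Helper42_SL2Class.R_eq_two (tr x) (by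
    intro h4
    apply hx
    rw [← h4]; ring) l (by linear_combination -hl)] at h1
  have hq : 2 ≤ Fintype.card F := Fintype.one_lt_card
  set q := Fintype.card F with hqdef
  obtain ⟨k, hk⟩ : ∃ k, q = k + 1 := ⟨q - 1, by omega⟩
  rw [hk] at h1 ⊢
  simp only [Nat.add_sub_cancel] at h1 ⊢
  have e1 : (k + 1) ^ 2 - 1 = k * (k + 2) := by
    have : (k + 1) ^ 2 = k * (k + 2) + 1 := by ring
    omega
  rw [e1] at h1
  have e2 : (k + 1) * k + (k + 1) * 2 = (k + 1) * (k + 2) := by ring
  rw [e2] at h1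
  have e3 : (k + 1) * (k * (k + 2)) = k * ((k + 1) * (k + 2)) := by ring
  rw [e3] at h1
  have hpos : 0 < (k + 1) * (k + 2) := Nat.mul_pos (by omega) (by omega)
  exact Nat.eq_of_mul_eq_mul_right hpos h1

/-- `Nc x` has twice the order of the centraliser when `x` is conjugate to `x⁻¹ ≠ x` -/
theorem card_Nc [CharP F 3] (x : SL(2, F)) (hx : tr x * tr x ≠ 4) :
    Nat.card (Nc x) = 2 * Nat.card (Subgroup.centralizer ({x} : Set SL(2, F))) := by
  have h2 : (2 : F) ≠ 0 := two_ne_zero'
  have hxs : ¬ IsScalar x := Cfsg.Agent.Lib.Helper50_DkTorus.not_isScalar_of_tr hx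
  rcases Cfsg.Agent.Lib.Helper50_SL2Classes.card_normalizer_centralizer
      (ρ := MonoidHom.id SL(2, F)) Function.injective_id h2 (x := x) hx with h | h
  · exfalso
    -- an element conjugating `x` to `x⁻¹`
    obtain ⟨g, hg⟩ := exists_conj_of_tr_eq (x := x⁻¹) (x' := x) (tr_inv x) hx
    have hgN : g ∈ Nc x := by
      rw [mem_Nc_iff hxs, ← hg]
      exact (Commute.refl x).inv_left
    have hle : Subgroup.centralizer ({x} : Set SL(2, F)) ≤ Nc x := Subgroup.le_normalizer
    have heq : Subgroup.centralizer ({x} : Set SL(2, F)) = Nc x :=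
      Subgroup.eq_of_le_of_card_ge hle (le_of_eq h)
    rw [← heq, Subgroup.mem_centralizer_singleton_iff] at hgN
    have hxx : x⁻¹ = x := by
      rw [hg]
      calc g * x * g⁻¹ = (g * x) * g⁻¹ := rfl
        _ = (x * g) * g⁻¹ := by rw [hgN]
        _ = x := by group
    -- then `x * x = 1`, so `x` is scalar
    have h1 : x * x = 1 := by
      calc x * x = x⁻¹ * x := by nth_rewrite 1 [← hxx]; rfl
        _ = 1 := inv_mul_cancel x
    apply hx
    have ht := tr_sq x
    rw [h1, tr_one] at ht
    linear_combination -ht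
  · exact h

end Cfsg.Agent.Lib.Helper5_Sol3G
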