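import Mathlib
import Cfsg.Agent.Lib.Helper5_Sol3G

/-!
# Solubilizers in `PSL₂(3^p)` (helper5), part H: from `PSL₂` to `SL₂`

The solubilizer of `proj x` in `PSL(2,F)` has half the size of the solubilizer of `x` in
`SL(2,F)` (odd `q`); invariance under conjugation.
-/

set_option autoImplicit false

namespace Cfsg.Agent.Lib.Helper5_Sol3H

open Matrix Cfsg.Agent.Lib.Helper50_SL2Mat Cfsg.Agent.Lib.Helper5_Sol3A
  Cfsg.Agent.Lib.Helper5_Sol3C Cfsg.Agent.Lib.Helper50_DkPSL
open scoped MatrixGroups

variable {F : Type*} [Field F]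

theorem closure_pair_map (x y : SL(2, F)) :
    Subgroup.closure ({proj x, proj y} : Set PSL(2, F)) =
      (Subgroup.closure ({x, y} : Set SL(2, F))).map proj := by
  rw [MonoidHom.map_closure, Set.image_pair]

theorem solv_iff_proj (x y : SL(2, F)) :
    Solv x y ↔ Group.IsSolvable ↥(Subgroup.closure ({proj x, proj y} : Set PSL(2, F))) := by
  rw [closure_pair_map]
  unfold Solv
  set K := Subgroup.closure ({x, y} : Set SL(2, F)) with hK
  constructor
  · intro h
    exact Group.isSolvable_of_surjective (f := (proj (F := F)).subgroupMap K)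
      ((proj (F := F)).subgroupMap_surjective K)
  · intro h
    set g := (proj (F := F)).subgroupMap K with hg
    haveI : Group.IsSolvable ↥g.ker := by
      apply Group.isSolvable_of_comm
      rintro ⟨a, ha⟩ ⟨b, hb⟩
      apply Subtype.ext
      apply Subtype.ext
      have ha' : proj (a : SL(2, F)) = 1 := by
        have := congrArg Subtype.val (MonoidHom.mem_ker.1 ha)
        exact this
      rw [proj_eq_one_iff] at ha'
      exact (ha'.commute (b : SL(2, F))).eq
    exact Group.isSolvable_of_ker_le_range g.ker.subtype g (by rw [Subgroup.range_subtype])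

section fin

variable [Fintype F]

theorem card_center (hq : Fintype.card F % 2 = 1) :
    Nat.card (Subgroup.center SL(2, F)) = 2 := by
  rw [Cfsg.Agent.Lib.Helper5_PSLCard.card_center_SL 2 (by norm_num)]
  apply Nat.gcd_eq_right
  omega

/-- the solubilizer in `PSL₂` has half the size of the solubilizer in `SL₂` -/
theorem card_psl_sol (hq : Fintype.card F % 2 = 1) (x : SL(2, F)) :
    2 * Nat.card {y : PSL(2, F) //
        Group.IsSolvable ↥(Subgroup.closure ({proj x, y} : Set PSL(2, F)))} =
      Nat.card {y : SL(2, F) // Solv x y} := by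
  set T : Set (SL(2, F) ⧸ Subgroup.center SL(2, F)) :=
    {y | Group.IsSolvable ↥(Subgroup.closure ({proj x, y} : Set PSL(2, F)))} with hT
  have e1 : {y : SL(2, F) // Solv x y} ≃ (QuotientGroup.mk ⁻¹' T : Set SL(2, F)) :=
    Equiv.subtypeEquivRight (fun y => by
      rw [Set.mem_preimage, hT, Set.mem_setOf_eq]
      exact solv_iff_proj x y)
  have e2 := QuotientGroup.preimageMkEquivSubgroupProdSet (Subgroup.center SL(2, F)) T
  rw [Nat.card_congr e1, Nat.card_congr e2, Nat.card_prod, card_center hq]
  rfl

/-- conjugation invariance -/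
theorem card_solv_conj (g x : SL(2, F)) :
    Nat.card {y : SL(2, F) // Solv (g * x * g⁻¹) y} = Nat.card {y : SL(2, F) // Solv x y} := by
  symm
  apply Nat.card_congr
  refine (MulAut.conj g).toEquiv.subtypeEquiv ?_
  intro y
  exact solv_conj g x y

end fin

end Cfsg.Agent.Lib.Helper5_Sol3H
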