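import Mathlib
import Cfsg.Agent.Lib.Helper5_Sol3H
import Cfsg.Agent.Lib.Helper50_DkOrders

/-!
# Solubilizers in `PSL₂(3^p)` (helper5), part I: the counts for non-split, split and unipotent elements
-/

set_option autoImplicit false

namespace Cfsg.Agent.Lib.Helper5_Sol3I

open Matrix Cfsg.Agent.Lib.Helper50_SL2Mat Cfsg.Agent.Lib.Helper5_Sol3A
  Cfsg.Agent.Lib.Helper5_Sol3C Cfsg.Agent.Lib.Helper5_Sol3D Cfsg.Agent.Lib.Helper5_Sol3E
  Cfsg.Agent.Lib.Helper5_Sol3F Cfsg.Agent.Lib.Helper5_Sol3G
open scoped MatrixGroups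

variable {F : Type*} [Field F]

/-- an element of the big cell from its entries `(0,0)`, `(1,0)`, `(1,1)` -/
noncomputable def mkBig (a c d : F) (hc : c ≠ 0) : SL(2, F) :=
  mk a ((a * d - 1) / c) c d (by field_simp; ring)

@[simp] theorem mkBig00 (a c d : F) (hc : c ≠ 0) : (mkBig a c d hc) 0 0 = a := rfl
@[simp] theorem mkBig01 (a c d : F) (hc : c ≠ 0) : (mkBig a c d hc) 0 1 = (a * d - 1) / c := rfl
@[simp] theorem mkBig10 (a c d : F) (hc : c ≠ 0) : (mkBig a c d hc) 1 0 = c := rfl
@[simp] theorem mkBig11 (a c d : F) (hc : c ≠ 0) : (mkBig a c d hc) 1 1 = d := rfl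

theorem eq_mkBig (y : SL(2, F)) (hc : y 1 0 ≠ 0) : y = mkBig (y 0 0) (y 1 0) (y 1 1) hc := by
  have hd := det1 y
  apply ext4
  · rfl
  · rw [mkBig01, eq_div_iff hc]; linear_combination -hd
  · rfl
  · rfl

theorem card_ne_zero [Fintype F] : Nat.card {a : F // a ≠ 0} = Fintype.card F - 1 := by
  rw [← Nat.card_congr (unitsEquivNeZero (G₀ := F)), Nat.card_units, Nat.card_eq_fintype_card]

section fin

variable [Fintype F] [CharP F 3]

theorem card_sq_one : Nat.card {e : F // e * e = 1} = 2 := by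
  classical
  have h2 : (2 : F) ≠ 0 := two_ne_zero'
  have hne : (1 : F) ≠ -1 := by
    intro h
    apply h2
    linear_combination h
  have : {e : F | e * e = 1} = {1, -1} := by
    ext e
    simp only [Set.mem_setOf_eq, Set.mem_insert_iff, Set.mem_singleton_iff]
    constructor
    · intro h
      have : (e - 1) * (e + 1) = 0 := by linear_combination h
      rcases mul_eq_zero.1 this with h1 | h1
      · left; linear_combination h1
      · right; linear_combination h1
    · rintro (rfl | rfl) <;> ring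
  change Nat.card ↥{e : F | e * e = 1} = 2
  rw [this, Nat.card_coe_set_eq, Set.ncard_pair hne]

theorem card_cube : Nat.card {s : F // s ^ 3 = s} = 3 := by
  have e : ZMod 3 ≃ {s : F // s ^ 3 = s} :=
    Equiv.ofBijective (fun z => ⟨ι3 z, by
      rw [← map_pow]
      congr 1
      revert z; decide⟩) (by
      constructor
      · intro z z' h
        exact (RingHom.injective (ι3 (F := F))) (congrArg Subtype.val h)
      · rintro ⟨s, hs⟩
        obtain ⟨z, hz⟩ := exists_ι3_of_cube hs
        exact ⟨z, Subtype.ext hz.symm⟩)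
  rw [← Nat.card_congr e, Nat.card_eq_fintype_card, ZMod.card]

/-! ### non-split -/

theorem card_solv_nonsplit (hns : ∀ x : F, x * x ≠ -1) {x : SL(2, F)}
    (hx : ∀ l : F, l * l - tr x * l + 1 ≠ 0) (htr : tr x ≠ 0) :
    Nat.card {y : SL(2, F) // Solv x y} = 2 * (Fintype.card F + 1) := by
  have hx4 : tr x * tr x ≠ 4 := by
    intro h
    have : (tr x - 2) * (tr x + 2) = 0 := by linear_combination h
    rcases mul_eq_zero.1 this with h1 | h1
    · apply hx 1
      have : tr x = 2 := by linear_combination h1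
      rw [this]; ring
    · apply hx (-1)
      have : tr x = -2 := by linear_combination h1
      rw [this]; ring
  have e : {y : SL(2, F) // Solv x y} ≃ ↥(Nc x) :=
    Equiv.subtypeEquivRight (fun y => solv_nonsplit_iff hns hx htr y)
  rw [Nat.card_congr e, card_Nc x hx4, card_centralizer_nonsplit x hx4 hx]

/-! ### transvections -/

theorem div_ne_zero_of_sq {e b : F} (he : e * e = 1) (hb : b ≠ 0) : e / b ≠ 0 := by
  apply div_ne_zero _ hb
  intro h0
  rw [h0] at he
  simp at he

/-- the quaternion part of the solubilizer of `tU b` -/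
noncomputable def quatEquiv {b : F} (hb : b ≠ 0) :
    {y : SL(2, F) // (b * y 1 0) * (b * y 1 0) = 1 ∧ tr y ^ 3 = tr y} ≃
      ({e : F // e * e = 1} × {s : F // s ^ 3 = s}) × F where
  toFun y := ((⟨b * y.1 1 0, y.2.1⟩, ⟨tr y.1, y.2.2⟩), y.1 0 0)
  invFun p := ⟨mkBig p.2 (p.1.1.1 / b) (p.1.2.1 - p.2) (div_ne_zero_of_sq p.1.1.2 hb), by
    constructor
    · rw [mkBig10, mul_div_cancel₀ _ hb]
      exact p.1.1.2
    · have : tr (mkBig p.2 (p.1.1.1 / b) (p.1.2.1 - p.2) (div_ne_zero_of_sq p.1.1.2 hb)) =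
          p.1.2.1 := by
        unfold tr
        rw [mkBig00, mkBig11]; ring
      rw [this]
      exact p.1.2.2⟩
  left_inv := by
    rintro ⟨y, h1, h2⟩
    apply Subtype.ext
    have hc : y 1 0 ≠ 0 := by
      intro h0
      rw [h0] at h1
      simp at h1
    have hd := det1 y
    simp only
    apply ext4
    · rfl
    · simp only [mkBig01, tr]
      rw [mul_div_cancel_left₀ _ hb, div_eq_iff hc]
      linear_combination hd
    · simp only [mkBig10]
      rw [mul_div_cancel_left₀ _ hb]
    · simp only [mkBig11, tr]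
      ring
  right_inv := by
    rintro ⟨⟨⟨e, he⟩, ⟨s, hs⟩⟩, a⟩
    simp only [mkBig10, mkBig00, tr, mkBig11]
    refine Prod.ext (Prod.ext ?_ ?_) rfl
    · apply Subtype.ext
      simp only
      rw [mul_div_cancel₀ _ hb]
    · apply Subtype.ext
      simp only
      ring

theorem card_solv_tU (hns : ∀ x : F, x * x ≠ -1) {b : F} (hb : b ≠ 0) :
    Nat.card {y : SL(2, F) // Solv (tU b) y} =
      Fintype.card F * (Fintype.card F - 1) + 6 * Fintype.card F := by
  have e : {y : SL(2, F) // Solv (tU b) y} ≃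
      ↥({y : SL(2, F) | y 1 0 = 0} ∪
        {y : SL(2, F) | (b * y 1 0) * (b * y 1 0) = 1 ∧ tr y ^ 3 = tr y}) :=
    Equiv.subtypeEquivRight (fun y => solv_tU_iff hns hb y)
  rw [Nat.card_congr e, Nat.card_coe_set_eq, Set.ncard_union_eq]
  · congr 1
    · have : {y : SL(2, F) | y 1 0 = 0} =
          ((Cfsg.Agent.Lib.Helper50_SL2Rep.Bor : Subgroup SL(2, F)) : Set SL(2, F)) := rfl
      rw [this, ← Nat.card_coe_set_eq]
      have h := Cfsg.Agent.Lib.Helper50_DkOrders.card_Bor (F := F)
      rw [mul_comm] at h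
      exact h
    · rw [← Nat.card_coe_set_eq]
      change Nat.card {y : SL(2, F) // (b * y 1 0) * (b * y 1 0) = 1 ∧ tr y ^ 3 = tr y} = _
      rw [Nat.card_congr (quatEquiv hb), Nat.card_prod, Nat.card_prod, card_sq_one, card_cube,
        Nat.card_eq_fintype_card]
  · rw [Set.disjoint_left]
    intro y h1 h2
    simp only [Set.mem_ofPred_eq] at h1 h2
    rw [h1] at h2
    simp at h2

end fin

end Cfsg.Agent.Lib.Helper5_Sol3I
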