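import Mathlib
import Cfsg.Agent.Lib.Helper5_Sol3I

/-!
# Solubilizers in `PSL₂(3^p)` (helper5), part J: the count for split elements
-/

set_option autoImplicit false

namespace Cfsg.Agent.Lib.Helper5_Sol3J

open Matrix Cfsg.Agent.Lib.Helper50_SL2Mat Cfsg.Agent.Lib.Helper5_Sol3A
  Cfsg.Agent.Lib.Helper5_Sol3C Cfsg.Agent.Lib.Helper5_Sol3D Cfsg.Agent.Lib.Helper5_Sol3E
  Cfsg.Agent.Lib.Helper5_Sol3F Cfsg.Agent.Lib.Helper5_Sol3G Cfsg.Agent.Lib.Helper5_Sol3I
open scoped MatrixGroups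

variable {F : Type*} [Field F]

/-- lower triangular, not diagonal -/
noncomputable def lowEquiv :
    {y : SL(2, F) // y 0 1 = 0 ∧ y 1 0 ≠ 0} ≃ {a : F // a ≠ 0} × {c : F // c ≠ 0} where
  toFun y := (⟨y.1 0 0, by
      intro h0
      have hd := det1 y.1
      rw [h0, y.2.1] at hd
      simp at hd⟩, ⟨y.1 1 0, y.2.2⟩)
  invFun p := ⟨mk p.1.1 0 p.2.1 p.1.1⁻¹ (by rw [mul_inv_cancel₀ p.1.2]; ring), rfl, p.2.2⟩
  left_inv := by
    rintro ⟨y, h1, h2⟩
    apply Subtype.ext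
    have hd := det1 y
    rw [h1] at hd
    have h00 : y 0 0 ≠ 0 := by
      intro h0; rw [h0] at hd; simp at hd
    simp only
    apply ext4
    · rfl
    · rw [mk01, h1]
    · rfl
    · rw [mk11]
      apply inv_eq_of_mul_eq_one_right
      linear_combination hd
  right_inv := by
    rintro ⟨⟨a, ha⟩, ⟨c, hc⟩⟩
    rfl

/-- antidiagonal matrices -/
noncomputable def antiEquiv :
    {y : SL(2, F) // y 0 0 = 0 ∧ y 1 1 = 0} ≃ {β : F // β ≠ 0} where
  toFun y := ⟨y.1 0 1, by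
      intro h0
      have hd := det1 y.1
      rw [h0, y.2.1] at hd
      simp at hd⟩
  invFun β := ⟨mk 0 β.1 (-β.1⁻¹) 0 (by
      have := mul_inv_cancel₀ β.2
      linear_combination this), rfl, rfl⟩
  left_inv := by
    rintro ⟨y, h1, h2⟩
    apply Subtype.ext
    have hd := det1 y
    rw [h1, h2] at hd
    have h01 : y 0 1 ≠ 0 := by
      intro h0; rw [h0] at hd; simp at hd
    simp only
    apply ext4
    · rw [mk00, h1]
    · rfl
    · rw [mk10, neg_eq_iff_eq_neg]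
      apply inv_eq_of_mul_eq_one_right
      linear_combination hd
    · rw [mk11, h2]
  right_inv := by
    rintro ⟨β, hβ⟩
    rfl

section fin

variable [Fintype F] [CharP F 3]

theorem card_solv_split (hns : ∀ x : F, x * x ≠ -1) {l : F} (hl : l ≠ 0) (hl2 : l * l ≠ 1) :
    Nat.card {y : SL(2, F) // Solv (dg l hl) y} =
      2 * (Fintype.card F * (Fintype.card F - 1)) := by
  have hset : ∀ y : SL(2, F), (y 1 0 = 0 ∨ y 0 1 = 0 ∨ (y 0 0 = 0 ∧ y 1 1 = 0)) ↔
      y ∈ ({y : SL(2, F) | y 1 0 = 0} ∪ {y : SL(2, F) | y 0 1 = 0 ∧ y 1 0 ≠ 0}) ∪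
        {y : SL(2, F) | y 0 0 = 0 ∧ y 1 1 = 0} := by
    intro y
    simp only [Set.mem_union, Set.mem_ofPred_eq]
    by_cases h : y 1 0 = 0
    · simp [h]
    · simp [h]
  have e : {y : SL(2, F) // Solv (dg l hl) y} ≃
      ↥(({y : SL(2, F) | y 1 0 = 0} ∪ {y : SL(2, F) | y 0 1 = 0 ∧ y 1 0 ≠ 0}) ∪
        {y : SL(2, F) | y 0 0 = 0 ∧ y 1 1 = 0}) :=
    Equiv.subtypeEquivRight (fun y => (solv_split_iff hns hl hl2 y).trans (hset y))
  have c1 : {y : SL(2, F) | y 1 0 = 0}.ncard = Fintype.card F * (Fintype.card F - 1) := by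
    have : {y : SL(2, F) | y 1 0 = 0} =
        ((Cfsg.Agent.Lib.Helper50_SL2Rep.Bor : Subgroup SL(2, F)) : Set SL(2, F)) := rfl
    rw [this, ← Nat.card_coe_set_eq]
    have h := Cfsg.Agent.Lib.Helper50_DkOrders.card_Bor (F := F)
    rw [mul_comm] at h
    exact h
  have c2 : {y : SL(2, F) | y 0 1 = 0 ∧ y 1 0 ≠ 0}.ncard =
      (Fintype.card F - 1) * (Fintype.card F - 1) := by
    rw [← Nat.card_coe_set_eq]
    change Nat.card {y : SL(2, F) // y 0 1 = 0 ∧ y 1 0 ≠ 0} = _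
    rw [Nat.card_congr lowEquiv, Nat.card_prod, card_ne_zero]
  have c3 : {y : SL(2, F) | y 0 0 = 0 ∧ y 1 1 = 0}.ncard = Fintype.card F - 1 := by
    rw [← Nat.card_coe_set_eq]
    change Nat.card {y : SL(2, F) // y 0 0 = 0 ∧ y 1 1 = 0} = _
    rw [Nat.card_congr antiEquiv, card_ne_zero]
  rw [Nat.card_congr e, Nat.card_coe_set_eq, Set.ncard_union_eq, Set.ncard_union_eq, c1, c2, c3]
  · have hq : 1 ≤ Fintype.card F := Fintype.card_pos
    obtain ⟨k, hk⟩ : ∃ k, Fintype.card F = k + 1 := ⟨Fintype.card F - 1, by omega⟩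
    rw [hk]
    simp only [Nat.add_sub_cancel]
    ring
  · rw [Set.disjoint_left]
    intro y h1 h2
    simp only [Set.mem_ofPred_eq] at h1 h2
    exact h2.2 h1
  · rw [Set.disjoint_left]
    intro y h1 h2
    simp only [Set.mem_union, Set.mem_ofPred_eq] at h1 h2
    have hd := det1 y
    rw [h2.1, h2.2] at hd
    rcases h1 with h1 | h1
    · rw [h1] at hd; simp at hd
    · rw [h1.1] at hd; simp at hd

end fin

end Cfsg.Agent.Lib.Helper5_Sol3J
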