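import Mathlib
import Cfsg.Agent.Lib.Helper5_Sol3J

/-!
# Solubilizers in `PSL₂(3^p)` (helper5), part K: the count for involutions (Weyl element)
-/

set_option autoImplicit false

namespace Cfsg.Agent.Lib.Helper5_Sol3K

open Matrix Cfsg.Agent.Lib.Helper50_SL2Mat Cfsg.Agent.Lib.Helper5_Sol3A
  Cfsg.Agent.Lib.Helper5_Sol3C Cfsg.Agent.Lib.Helper5_Sol3D Cfsg.Agent.Lib.Helper5_Sol3E
  Cfsg.Agent.Lib.Helper5_Sol3F Cfsg.Agent.Lib.Helper5_Sol3G Cfsg.Agent.Lib.Helper5_Sol3I
open scoped MatrixGroups

variable {F : Type*} [Field F]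

/-- points of the circle of radius `κ` -/
def Circ (κ : F) : Type _ := {p : F × F // p.1 * p.1 + p.2 * p.2 = κ}

theorem commute_wE_iff (y : SL(2, F)) : Commute y wE ↔ (y 1 0 = -y 0 1 ∧ y 1 1 = y 0 0) := by
  rw [commute_iff]
  simp only [wE00, wE01, wE10, wE11]
  constructor
  · rintro ⟨e1, e2, e3⟩
    constructor
    · linear_combination -e1
    · linear_combination e2
  · rintro ⟨e1, e2⟩
    rw [e1, e2]
    refine ⟨by ring, by ring, by ring⟩

/-- the centraliser of the Weyl element is the circle group -/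
noncomputable def centEquiv :
    ↥(Subgroup.centralizer ({wE} : Set SL(2, F))) ≃ Circ (1 : F) where
  toFun y := ⟨(y.1 0 0, y.1 0 1), by
    have h := (commute_wE_iff y.1).1 (Subgroup.mem_centralizer_singleton_iff.1 y.2)
    have hd := det1 y.1
    rw [h.1, h.2] at hd
    simp only
    linear_combination hd⟩
  invFun p := ⟨mk p.1.1 p.1.2 (-p.1.2) p.1.1 (by linear_combination p.2), by
    rw [Subgroup.mem_centralizer_singleton_iff]
    exact ((commute_wE_iff _).2 ⟨rfl, rfl⟩).eq⟩
  left_inv := by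
    rintro ⟨y, hy⟩
    apply Subtype.ext
    have h := (commute_wE_iff y).1 (Subgroup.mem_centralizer_singleton_iff.1 hy)
    simp only
    apply ext4
    · rfl
    · rfl
    · rw [mk10, h.1]
    · rw [mk11, h.2]
  right_inv := by
    rintro ⟨⟨a, b⟩, h⟩
    rfl

/-- multiplication by `1 + i` -/
def circNegEquiv (h3 : (3 : F) = 0) : Circ (1 : F) ≃ Circ (-1 : F) where
  toFun p := ⟨(p.1.1 - p.1.2, p.1.1 + p.1.2), by
    have := p.2
    simp only
    linear_combination 2 * this + h3⟩
  invFun p := ⟨(-p.1.1 - p.1.2, p.1.1 - p.1.2), by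
    have := p.2
    simp only
    linear_combination 2 * this - h3⟩
  left_inv := by
    rintro ⟨⟨a, b⟩, h⟩
    apply Subtype.ext
    simp only
    refine Prod.ext ?_ ?_
    · simp only; linear_combination (-a) * h3
    · simp only; linear_combination (-b) * h3
  right_inv := by
    rintro ⟨⟨a, b⟩, h⟩
    apply Subtype.ext
    simp only
    refine Prod.ext ?_ ?_
    · simp only; linear_combination (-a) * h3
    · simp only; linear_combination (-b) * h3

/-- trace zero matrices -/
noncomputable def trZeroEquiv (hns : ∀ x : F, x * x ≠ -1) :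
    {y : SL(2, F) // tr y = 0} ≃ F × {b : F // b ≠ 0} where
  toFun y := (y.1 0 0, ⟨y.1 0 1, by
    intro h0
    have hd := det1 y.1
    have h11 : y.1 1 1 = -y.1 0 0 := by
      have := y.2; unfold tr at this; linear_combination this
    rw [h0, h11] at hd
    apply hns (y.1 0 0)
    linear_combination -hd⟩)
  invFun p := ⟨mk p.1 p.2.1 (-(p.1 * p.1 + 1) / p.2.1) (-p.1) (by
    have := p.2.2
    field_simp
    ring), by
    unfold tr
    rw [mk00, mk11]; ring⟩
  left_inv := by
    rintro ⟨y, hy⟩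
    apply Subtype.ext
    have hd := det1 y
    have h11 : y 1 1 = -y 0 0 := by unfold tr at hy; linear_combination hy
    have h01 : y 0 1 ≠ 0 := by
      intro h0
      rw [h0, h11] at hd
      apply hns (y 0 0)
      linear_combination -hd
    simp only
    apply ext4
    · rfl
    · rfl
    · rw [mk10, div_eq_iff h01]
      rw [h11] at hd
      linear_combination hd
    · rw [mk11, h11]
  right_inv := by
    rintro ⟨a, ⟨b, hb⟩⟩
    rfl

/-- trace zero matrices anticommuting with the Weyl element -/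
noncomputable def trZeroZeroEquiv :
    {y : SL(2, F) // tr y = 0 ∧ tr (wE * y) = 0} ≃ Circ (-1 : F) where
  toFun y := ⟨(y.1 0 0, y.1 0 1), by
    have h1 := y.2.1
    have h2 := y.2.2
    rw [tr_wE_mul] at h2
    unfold tr at h1
    have hd := det1 y.1
    have h11 : y.1 1 1 = -y.1 0 0 := by linear_combination h1
    have h10 : y.1 1 0 = y.1 0 1 := by linear_combination h2
    rw [h11, h10] at hd
    simp only
    linear_combination -hd⟩
  invFun p := ⟨mk p.1.1 p.1.2 p.1.2 (-p.1.1) (by linear_combination -p.2), by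
    constructor
    · unfold tr; rw [mk00, mk11]; ring
    · rw [tr_wE_mul, mk10, mk01]; ring⟩
  left_inv := by
    rintro ⟨y, h1, h2⟩
    apply Subtype.ext
    rw [tr_wE_mul] at h2
    unfold tr at h1
    simp only
    apply ext4
    · rfl
    · rfl
    · rw [mk10]; linear_combination -h2
    · rw [mk11]; linear_combination -h1
  right_inv := by
    rintro ⟨⟨a, b⟩, h⟩
    rfl

theorem tr_mk (a b c d : F) (h : a * d - b * c = 1) : tr (mk a b c d h) = a + d := by
  unfold tr; rw [mk00, mk11]

theorem tr_wE_mul_mk (a b c d : F) (h : a * d - b * c = 1) :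
    tr (wE * mk a b c d h) = c - b := by
  rw [tr_wE_mul, mk10, mk01]

/-- the quaternion part -/
noncomputable def quatEquivW (h3 : (3 : F) = 0) :
    {y : SL(2, F) // tr y * tr y = 1 ∧ tr (wE * y) * tr (wE * y) = 1} ≃
      ({e : F // e * e = 1} × {e : F // e * e = 1}) × Circ (1 : F) where
  toFun y := ((⟨tr y.1, y.2.1⟩, ⟨tr (wE * y.1), y.2.2⟩),
    ⟨(y.1 0 0 + tr y.1, y.1 0 1 - tr (wE * y.1)), by
      have h1 := y.2.1
      have h2 := y.2.2
      have hd := det1 y.1
      rw [tr_wE_mul] at h2 ⊢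
      unfold tr at h1 ⊢
      simp only
      linear_combination h1 + h2 - hd +
        (y.1 0 0 * y.1 0 0 + y.1 0 0 * y.1 1 1 + y.1 0 1 * y.1 0 1 - y.1 0 1 * y.1 1 0) * h3⟩)
  invFun p := ⟨mk (p.2.1.1 - p.1.1.1) (p.2.1.2 + p.1.2.1) (p.2.1.2 + p.1.2.1 + p.1.2.1)
      (p.1.1.1 - (p.2.1.1 - p.1.1.1)) (by
      have h1 := p.1.1.2
      have h2 := p.1.2.2
      have hc := p.2.2
      linear_combination (-1 : F) * hc + (-2 : F) * h1 + (-2 : F) * h2 +
        (p.2.1.1 * p.1.1.1 - p.2.1.2 * p.1.2.1 - 2) * h3), by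
    constructor
    · rw [tr_mk]
      have h1 := p.1.1.2
      linear_combination h1
    · rw [tr_wE_mul_mk]
      have h2 := p.1.2.2
      linear_combination h2⟩
  left_inv := by
    rintro ⟨y, h1, h2⟩
    apply Subtype.ext
    simp only
    apply ext4
    · rw [mk00]; ring
    · rw [mk01]; ring
    · rw [mk10, tr_wE_mul]; ring
    · rw [mk11]; unfold tr; ring
  right_inv := by
    rintro ⟨⟨⟨e1, he1⟩, ⟨e2, he2⟩⟩, ⟨⟨X, Y⟩, hc⟩⟩
    refine Prod.ext (Prod.ext ?_ ?_) ?_
    · apply Subtype.ext
      simp only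
      unfold tr; rw [mk00, mk11]; ring
    · apply Subtype.ext
      simp only
      rw [tr_wE_mul, mk10, mk01]; ring
    · apply Subtype.ext
      simp only
      refine Prod.ext ?_ ?_
      · simp only
        unfold tr; rw [mk00, mk11]; ring
      · simp only
        rw [tr_wE_mul, mk10, mk01]; ring

end Cfsg.Agent.Lib.Helper5_Sol3K
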