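import Mathlib
import Cfsg.Agent.Lib.Helper5_Sol3K

/-!
# Solubilizers in `PSL₂(3^p)` (helper5), part L: the count for involutions (continued)
-/

set_option autoImplicit false

namespace Cfsg.Agent.Lib.Helper5_Sol3L

open Matrix Cfsg.Agent.Lib.Helper50_SL2Mat Cfsg.Agent.Lib.Helper5_Sol3A
  Cfsg.Agent.Lib.Helper5_Sol3C Cfsg.Agent.Lib.Helper5_Sol3D Cfsg.Agent.Lib.Helper5_Sol3E
  Cfsg.Agent.Lib.Helper5_Sol3F Cfsg.Agent.Lib.Helper5_Sol3G Cfsg.Agent.Lib.Helper5_Sol3I
  Cfsg.Agent.Lib.Helper5_Sol3K
open scoped MatrixGroups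

variable {F : Type*} [Field F]

/-- the negative of the Weyl element -/
def nwE : SL(2, F) := mk 0 (-1) 1 0 (by ring)

@[simp] theorem nwE00 : (nwE : SL(2, F)) 0 0 = 0 := rfl
@[simp] theorem nwE01 : (nwE : SL(2, F)) 0 1 = -1 := rfl
@[simp] theorem nwE10 : (nwE : SL(2, F)) 1 0 = 1 := rfl
@[simp] theorem nwE11 : (nwE : SL(2, F)) 1 1 = 0 := rfl

/-- trace zero -/
def sA : Set SL(2, F) := {y | tr y = 0}
/-- trace zero after multiplying by the Weyl element -/
def sB : Set SL(2, F) := {y | tr (wE * y) = 0}
/-- the centraliser of the Weyl element -/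
def sC : Set SL(2, F) := {y | Commute y wE}
/-- the quaternion part -/
def sD : Set SL(2, F) := {y | tr y * tr y = 1 ∧ tr (wE * y) * tr (wE * y) = 1}

section char3

variable [Fintype F] [CharP F 3]

theorem solv_wE_iff_mem (hns : ∀ x : F, x * x ≠ -1) (y : SL(2, F)) :
    Solv wE y ↔ y ∈ (((sA ∪ sB) ∪ sD) ∪ sC : Set SL(2, F)) := by
  have h3 := three_eq_zero (F := F)
  have hw4 : tr (wE : SL(2, F)) * tr (wE : SL(2, F)) ≠ 4 := by
    rw [tr_wE]
    intro h
    have : (1 : F) = 0 := by linear_combination -h - h3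
    exact one_ne_zero this
  rw [solv_wE_iff hns]
  simp only [Set.mem_union, sA, sB, sC, sD, Set.mem_ofPred_eq]
  constructor
  · rintro (h | h | h | h)
    · exact Or.inl (Or.inl (Or.inl h))
    · rcases mem_Nc_cases hw4 wE_not_isScalar h with h' | h'
      · exact Or.inr (commute_of_conj_eq h')
      · exact Or.inl (Or.inl (Or.inl (tr_eq_zero_of_conj_eq_inv wE_not_isScalar h')))
    · exact Or.inl (Or.inl (Or.inr h))
    · exact Or.inl (Or.inr h)
  · rintro (((h | h) | h) | h)
    · exact Or.inl h
    · exact Or.inr (Or.inr (Or.inl h))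
    · exact Or.inr (Or.inr (Or.inr h))
    · exact Or.inr (Or.inl (mem_Nc_of_commute wE_not_isScalar h))

theorem inter_sC_eq :
    (((sA ∪ sB) ∪ sD) ∩ sC : Set SL(2, F)) = {1, negOne, wE, nwE} := by
  have h3 := three_eq_zero (F := F)
  have h2 : (2 : F) ≠ 0 := two_ne_zero'
  ext y
  simp only [Set.mem_inter_iff, Set.mem_union, sA, sB, sC, sD, Set.mem_ofPred_eq,
    Set.mem_insert_iff, Set.mem_singleton_iff]
  constructor
  · rintro ⟨h, hc⟩
    rw [commute_wE_iff] at hc
    obtain ⟨e1, e2⟩ := hc
    have hd := det1 y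
    rw [e1, e2] at hd
    rcases h with (h | h) | h
    · unfold tr at h
      rw [e2] at h
      have h00 : y 0 0 = 0 := by
        have : (2 : F) * y 0 0 = 0 := by linear_combination h
        rcases mul_eq_zero.1 this with h' | h'
        · exact absurd h' h2
        · exact h'
      rw [h00] at hd e2
      have : (y 0 1 - 1) * (y 0 1 + 1) = 0 := by linear_combination hd
      rcases mul_eq_zero.1 this with h' | h'
      · right; right; left
        have h01 : y 0 1 = 1 := by linear_combination h'
        apply ext4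
        · rw [h00, wE00]
        · rw [h01, wE01]
        · rw [e1, h01, wE10]
        · rw [e2, wE11]
      · right; right; right
        have h01 : y 0 1 = -1 := by linear_combination h'
        apply ext4
        · rw [h00, nwE00]
        · rw [h01, nwE01]
        · rw [e1, h01, nwE10]; ring
        · rw [e2, nwE11]
    · rw [tr_wE_mul, e1] at h
      have h01 : y 0 1 = 0 := by
        have : (2 : F) * y 0 1 = 0 := by linear_combination -h
        rcases mul_eq_zero.1 this with h' | h'
        · exact absurd h' h2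
        · exact h'
      rw [h01] at hd e1
      have : (y 0 0 - 1) * (y 0 0 + 1) = 0 := by linear_combination hd
      rcases mul_eq_zero.1 this with h' | h'
      · left
        have h00 : y 0 0 = 1 := by linear_combination h'
        apply ext4
        · rw [h00, one00]
        · rw [h01, one01]
        · rw [e1, one10]; ring
        · rw [e2, h00, one11]
      · right; left
        have h00 : y 0 0 = -1 := by linear_combination h'
        apply ext4
        · rw [h00, negOne00]
        · rw [h01, negOne01]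
        · rw [e1, negOne10]; ring
        · rw [e2, h00, negOne11]
    · exfalso
      obtain ⟨k1, k2⟩ := h
      rw [tr_wE_mul, e1] at k2
      unfold tr at k1
      rw [e2] at k1
      apply h2
      linear_combination k1 + k2 - 4 * hd
  · rintro (rfl | rfl | rfl | rfl)
    · refine ⟨Or.inl (Or.inr ?_), ?_⟩
      · rw [mul_one, tr_wE]
      · exact Commute.one_left _
    · refine ⟨Or.inl (Or.inr ?_), ?_⟩
      · rw [tr_wE_mul, negOne10, negOne01]; ring
      · rw [commute_wE_iff, negOne10, negOne01, negOne11, negOne00]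
        exact ⟨by ring, rfl⟩
    · refine ⟨Or.inl (Or.inl tr_wE), Commute.refl _⟩
    · refine ⟨Or.inl (Or.inl ?_), ?_⟩
      · unfold tr; rw [nwE00, nwE11]; ring
      · rw [commute_wE_iff, nwE10, nwE01, nwE11, nwE00]
        exact ⟨by ring, rfl⟩

theorem ncard_four : ({1, negOne, wE, nwE} : Set SL(2, F)).ncard = 4 := by
  have h2 : (2 : F) ≠ 0 := two_ne_zero'
  have hne : (1 : F) ≠ -1 := by
    intro h
    apply h2
    linear_combination h
  have a1 : (wE : SL(2, F)) ∉ ({nwE} : Set SL(2, F)) := by
    rw [Set.mem_singleton_iff]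
    intro h
    have := congrArg (fun g : SL(2, F) => g 0 1) h
    simp only [wE01, nwE01] at this
    exact hne this
  have a2 : (negOne : SL(2, F)) ∉ ({wE, nwE} : Set SL(2, F)) := by
    simp only [Set.mem_insert_iff, Set.mem_singleton_iff]
    rintro (h | h)
    · have := congrArg (fun g : SL(2, F) => g 0 0) h
      simp only [negOne00, wE00] at this
      exact one_ne_zero (neg_eq_zero.1 this)
    · have := congrArg (fun g : SL(2, F) => g 0 0) h
      simp only [negOne00, nwE00] at this
      exact one_ne_zero (neg_eq_zero.1 this)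
  have a3 : (1 : SL(2, F)) ∉ ({negOne, wE, nwE} : Set SL(2, F)) := by
    simp only [Set.mem_insert_iff, Set.mem_singleton_iff]
    rintro (h | h | h)
    · have := congrArg (fun g : SL(2, F) => g 0 0) h
      rw [one00, negOne00] at this
      exact hne this
    · have := congrArg (fun g : SL(2, F) => g 0 0) h
      rw [one00, wE00] at this
      exact one_ne_zero this
    · have := congrArg (fun g : SL(2, F) => g 0 0) h
      rw [one00, nwE00] at this
      exact one_ne_zero this
  rw [Set.ncard_insert_of_notMem a3, Set.ncard_insert_of_notMem a2,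
    Set.ncard_insert_of_notMem a1, Set.ncard_singleton]

theorem card_circ_one (hns : ∀ x : F, x * x ≠ -1) :
    Nat.card (Circ (1 : F)) = Fintype.card F + 1 := by
  have h3 := three_eq_zero (F := F)
  have hw4 : tr (wE : SL(2, F)) * tr (wE : SL(2, F)) ≠ 4 := by
    rw [tr_wE]
    intro h
    have : (1 : F) = 0 := by linear_combination -h - h3
    exact one_ne_zero this
  rw [← Nat.card_congr centEquiv]
  apply card_centralizer_nonsplit wE hw4
  intro l h
  rw [tr_wE] at h
  apply hns l
  linear_combination h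

theorem ncard_sA (hns : ∀ x : F, x * x ≠ -1) :
    (sA : Set SL(2, F)).ncard = Fintype.card F * (Fintype.card F - 1) := by
  rw [← Nat.card_coe_set_eq]
  change Nat.card {y : SL(2, F) // tr y = 0} = _
  rw [Nat.card_congr (trZeroEquiv hns), Nat.card_prod, card_ne_zero, Nat.card_eq_fintype_card]

theorem ncard_sB (hns : ∀ x : F, x * x ≠ -1) :
    (sB : Set SL(2, F)).ncard = Fintype.card F * (Fintype.card F - 1) := by
  rw [← ncard_sA hns, ← Nat.card_coe_set_eq, ← Nat.card_coe_set_eq]
  change Nat.card {y : SL(2, F) // tr (wE * y) = 0} = Nat.card {y : SL(2, F) // tr y = 0}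
  exact Nat.card_congr ((Equiv.mulLeft (wE : SL(2, F))).subtypeEquiv (fun y => Iff.rfl))

theorem ncard_sA_inter_sB (hns : ∀ x : F, x * x ≠ -1) :
    (sA ∩ sB : Set SL(2, F)).ncard = Fintype.card F + 1 := by
  have h3 := three_eq_zero (F := F)
  rw [← Nat.card_coe_set_eq]
  change Nat.card {y : SL(2, F) // tr y = 0 ∧ tr (wE * y) = 0} = _
  rw [Nat.card_congr trZeroZeroEquiv, ← Nat.card_congr (circNegEquiv h3), card_circ_one hns]

theorem ncard_sC (hns : ∀ x : F, x * x ≠ -1) :
    (sC : Set SL(2, F)).ncard = Fintype.card F + 1 := by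
  rw [← card_circ_one hns, ← Nat.card_congr centEquiv]
  have : (sC : Set SL(2, F)) =
      ((Subgroup.centralizer ({wE} : Set SL(2, F)) : Subgroup SL(2, F)) : Set SL(2, F)) := by
    ext y
    rw [SetLike.mem_coe, Subgroup.mem_centralizer_singleton_iff]
    rfl
  rw [this, ← Nat.card_coe_set_eq]
  rfl

theorem ncard_sD (hns : ∀ x : F, x * x ≠ -1) :
    (sD : Set SL(2, F)).ncard = 4 * (Fintype.card F + 1) := by
  have h3 := three_eq_zero (F := F)
  rw [← Nat.card_coe_set_eq]
  change Nat.card {y : SL(2, F) // tr y * tr y = 1 ∧ tr (wE * y) * tr (wE * y) = 1} = _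
  rw [Nat.card_congr (quatEquivW h3), Nat.card_prod, Nat.card_prod, card_sq_one,
    card_circ_one hns]

theorem card_solv_wE (hns : ∀ x : F, x * x ≠ -1) :
    Nat.card {y : SL(2, F) // Solv wE y} = 2 * (Fintype.card F * (Fintype.card F + 1)) := by
  classical
  have e : {y : SL(2, F) // Solv wE y} ≃ ↥(((sA ∪ sB) ∪ sD) ∪ sC : Set SL(2, F)) :=
    Equiv.subtypeEquivRight (fun y => solv_wE_iff_mem hns y)
  rw [Nat.card_congr e, Nat.card_coe_set_eq]
  have h1 := Set.ncard_union_add_ncard_inter (((sA ∪ sB) ∪ sD) : Set SL(2, F)) sC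
  have hdis : Disjoint (sA ∪ sB : Set SL(2, F)) sD := by
    rw [Set.disjoint_left]
    intro y hy hD
    simp only [Set.mem_union, sA, sB, sD, Set.mem_ofPred_eq] at hy hD
    rcases hy with h | h
    · rw [h] at hD
      simp at hD
    · rw [h] at hD
      simp at hD
  have h2 := Set.ncard_union_eq hdis
  have h3 := Set.ncard_union_add_ncard_inter (sA : Set SL(2, F)) sB
  rw [inter_sC_eq, ncard_four, ncard_sC hns, h2, ncard_sD hns] at h1
  rw [ncard_sA hns, ncard_sB hns, ncard_sA_inter_sB hns] at h3
  have hq : 1 ≤ Fintype.card F := Fintype.card_pos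
  obtain ⟨k, hk⟩ : ∃ k, Fintype.card F = k + 1 := ⟨Fintype.card F - 1, by omega⟩
  rw [hk] at h1 h3 ⊢
  simp only [Nat.add_sub_cancel] at h3
  have e1 : (k + 1) * (k + 1 + 1) = (k + 1) * k + 2 * (k + 1) := by ring
  rw [e1]
  omega

end char3

end Cfsg.Agent.Lib.Helper5_Sol3L
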