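import Mathlib
import Cfsg.Agent.Lib.Helper5_Sol3L

/-!
# Solubilizers in `PSL₂(3^p)` (helper5), part M: from orders to normal forms
-/

set_option autoImplicit false

namespace Cfsg.Agent.Lib.Helper5_Sol3M

open Matrix Cfsg.Agent.Lib.Helper50_SL2Mat Cfsg.Agent.Lib.Helper5_Sol3A
  Cfsg.Agent.Lib.Helper5_Sol3C Cfsg.Agent.Lib.Helper5_Sol3D Cfsg.Agent.Lib.Helper5_Sol3E
  Cfsg.Agent.Lib.Helper5_Sol3F Cfsg.Agent.Lib.Helper5_Sol3G Cfsg.Agent.Lib.Helper5_Sol3H
  Cfsg.Agent.Lib.Helper5_Sol3I Cfsg.Agent.Lib.Helper5_Sol3J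
  Cfsg.Agent.Lib.Helper5_Sol3K Cfsg.Agent.Lib.Helper5_Sol3L Cfsg.Agent.Lib.Helper50_DkPSL
open scoped MatrixGroups

variable {F : Type*} [Field F]

theorem tr_zero_of_isScalar_sq {g : SL(2, F)} (h2 : IsScalar (g * g)) (h1 : ¬ IsScalar g) :
    tr g = 0 := by
  obtain ⟨e1, e2, e3⟩ := h2
  simp only [mul00, mul01, mul10, mul11] at e1 e2 e3
  by_contra ht
  apply h1
  refine ⟨?_, ?_, ?_⟩
  · have : g 0 1 * tr g = 0 := by unfold tr; linear_combination e1
    rcases mul_eq_zero.1 this with h | h
    · exact h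
    · exact absurd h ht
  · have : g 1 0 * tr g = 0 := by unfold tr; linear_combination e2
    rcases mul_eq_zero.1 this with h | h
    · exact h
    · exact absurd h ht
  · have : (g 0 0 - g 1 1) * tr g = 0 := by unfold tr; linear_combination e3
    rcases mul_eq_zero.1 this with h | h
    · linear_combination h
    · exact absurd h ht

theorem tr_sq_of_isScalar_cube [CharP F 3] {g : SL(2, F)} (h3 : IsScalar (g * g * g))
    (h1 : ¬ IsScalar g) : tr g * tr g = 4 := by
  have k3 := three_eq_zero (F := F)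
  have hd := det1 g
  obtain ⟨e1, e2, e3⟩ := h3
  simp only [mul00, mul01, mul10, mul11] at e1 e2 e3
  by_contra ht
  have ht' : tr g * tr g - 4 ≠ 0 := fun h => ht (by linear_combination h)
  apply h1
  refine ⟨?_, ?_, ?_⟩
  · have : g 0 1 * (tr g * tr g - 4) = 0 := by
      unfold tr
      linear_combination e1 + g 0 1 * hd - g 0 1 * k3
    rcases mul_eq_zero.1 this with h | h
    · exact h
    · exact absurd h ht'
  · have : g 1 0 * (tr g * tr g - 4) = 0 := by
      unfold tr
      linear_combination e2 + g 1 0 * hd - g 1 0 * k3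
    rcases mul_eq_zero.1 this with h | h
    · exact h
    · exact absurd h ht'
  · have : (g 0 0 - g 1 1) * (tr g * tr g - 4) = 0 := by
      unfold tr
      linear_combination e3 + (g 0 0 - g 1 1) * hd - (g 0 0 - g 1 1) * k3
    rcases mul_eq_zero.1 this with h | h
    · linear_combination h
    · exact absurd h ht'

theorem proj_negOne : proj (negOne : SL(2, F)) = 1 := (proj_eq_one_iff _).2 isScalar_negOne

theorem proj_negOne_mul (g : SL(2, F)) : proj (negOne * g) = proj g := by
  rw [map_mul, proj_negOne, one_mul]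

theorem proj_pow_three [CharP F 3] {g : SL(2, F)} (ht : tr g * tr g = 4) : (proj g) ^ 3 = 1 := by
  have h4 : (tr g - 2) * (tr g + 2) = 0 := by linear_combination ht
  rcases mul_eq_zero.1 h4 with h | h
  · have := pow_char_of_tr_two 3 (g := g) (by linear_combination h)
    rw [← map_pow, this, map_one]
  · have := pow_char_of_tr_two 3 (g := negOne * g) (by rw [tr_negOne_mul]; linear_combination -h)
    rw [← proj_negOne_mul, ← map_pow, this, map_one]

theorem proj_pow_card_centralizer (g : SL(2, F)) :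
    (proj g) ^ (Nat.card (Subgroup.centralizer ({g} : Set SL(2, F)))) = 1 := by
  have hg : g ∈ Subgroup.centralizer ({g} : Set SL(2, F)) :=
    Subgroup.mem_centralizer_singleton_iff.2 rfl
  have h := pow_card_eq_one' (G := ↥(Subgroup.centralizer ({g} : Set SL(2, F)))) (x := ⟨g, hg⟩)
  have h' : g ^ (Nat.card (Subgroup.centralizer ({g} : Set SL(2, F)))) = 1 := by
    have := congrArg Subtype.val h
    simp only [SubgroupClass.coe_pow, OneMemClass.coe_one] at this
    exact this
  rw [← map_pow, h', map_one]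

section fin

variable [Fintype F] [CharP F 3]

theorem hw4 : tr (wE : SL(2, F)) * tr (wE : SL(2, F)) ≠ 4 := by
  have h3 := three_eq_zero (F := F)
  rw [tr_wE]
  intro h
  have : (1 : F) = 0 := by linear_combination -h - h3
  exact one_ne_zero this

theorem card_case_two (hns : ∀ x : F, x * x ≠ -1) (hq : Fintype.card F % 2 = 1)
    (x : PSL(2, F)) (hx : orderOf x = 2) :
    Nat.card {y : PSL(2, F) //
        Group.IsSolvable ↥(Subgroup.closure ({x, y} : Set PSL(2, F)))} =
      Fintype.card F * (Fintype.card F + 1) := by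
  obtain ⟨g, rfl⟩ := proj_surjective x
  have hg1 : ¬ IsScalar g := by
    intro h
    have : proj g = 1 := (proj_eq_one_iff g).2 h
    rw [this, orderOf_one] at hx
    omega
  have hg2 : IsScalar (g * g) := by
    have hpow := pow_orderOf_eq_one (proj g)
    rw [hx] at hpow
    rw [← proj_eq_one_iff, map_mul, ← sq]
    exact hpow
  have ht := tr_zero_of_isScalar_sq hg2 hg1
  obtain ⟨c, hc⟩ := exists_conj_of_tr_eq (x := g) (x' := wE) (by rw [ht, tr_wE]) hw4
  have h := card_psl_sol hq g
  have h2 : Nat.card {y : SL(2, F) // Solv g y} =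
      2 * (Fintype.card F * (Fintype.card F + 1)) := by
    rw [hc, card_solv_conj, card_solv_wE hns]
  rw [h2] at h
  omega

theorem card_case_three (hns : ∀ x : F, x * x ≠ -1) (hq : Fintype.card F % 2 = 1)
    (x : PSL(2, F)) (hx : orderOf x = 3) :
    2 * Nat.card {y : PSL(2, F) //
        Group.IsSolvable ↥(Subgroup.closure ({x, y} : Set PSL(2, F)))} =
      Fintype.card F * (Fintype.card F + 5) := by
  obtain ⟨g, rfl⟩ := proj_surjective x
  have hg1 : ¬ IsScalar g := by
    intro h
    have : proj g = 1 := (proj_eq_one_iff g).2 h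
    rw [this, orderOf_one] at hx
    omega
  have hg3 : IsScalar (g * g * g) := by
    have hpow := pow_orderOf_eq_one (proj g)
    rw [hx] at hpow
    rw [← proj_eq_one_iff, map_mul, map_mul, ← pow_three']
    exact hpow
  have ht := tr_sq_of_isScalar_cube hg3 hg1
  obtain ⟨c, b, hb, hcb⟩ := exists_conj_tU hg1 ht
  have key : ∃ g' : SL(2, F), proj g' = proj g ∧ g' = c * tU b * c⁻¹ := by
    rcases hcb with h | h
    · exact ⟨g, rfl, by rw [← h]; group⟩
    · refine ⟨negOne * g, proj_negOne_mul g, ?_⟩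
      have e1 : g = c * (negOne * tU b) * c⁻¹ := by rw [← h]; group
      rw [e1]
      calc negOne * (c * (negOne * tU b) * c⁻¹)
          = (negOne * negOne) * (c * tU b * c⁻¹) := by
            rw [← mul_assoc c, ← negOne_comm c]; group
        _ = c * tU b * c⁻¹ := by rw [negOne_mul_negOne, one_mul]
  obtain ⟨g', hp, hg'⟩ := key
  have h := card_psl_sol hq g'
  rw [hp] at h
  have h2 : Nat.card {y : SL(2, F) // Solv g' y} =
      Fintype.card F * (Fintype.card F - 1) + 6 * Fintype.card F := by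
    rw [hg', card_solv_conj, card_solv_tU hns hb]
  rw [h2] at h
  rw [h]
  have hq1 : 1 ≤ Fintype.card F := Fintype.card_pos
  obtain ⟨k, hk⟩ : ∃ k, Fintype.card F = k + 1 := ⟨Fintype.card F - 1, by omega⟩
  rw [hk]
  simp only [Nat.add_sub_cancel]
  ring

theorem not_tr_sq_four (hq3 : Fintype.card F % 3 = 0) {n : ℕ}
    (hn : n = Fintype.card F - 1 ∨ n = Fintype.card F + 1)
    {g : SL(2, F)} (hx1 : proj g ≠ 1) (hd : orderOf (proj g) ∣ n) : tr g * tr g ≠ 4 := by
  intro ht
  have h3 := proj_pow_three ht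
  have hdvd : orderOf (proj g) ∣ 3 := orderOf_dvd_of_pow_eq_one h3
  have hq1 : 1 ≤ Fintype.card F := Fintype.card_pos
  rcases (Nat.dvd_prime Nat.prime_three).1 hdvd with h | h
  · exact hx1 (orderOf_eq_one_iff.1 h)
  · rw [h] at hd
    rcases hn with rfl | rfl <;> omega

theorem ord_dvd_two {n : ℕ} (h1 : n ∣ Fintype.card F - 1) (h2 : n ∣ Fintype.card F + 1) :
    n ∣ 2 := by
  have hq1 : 1 ≤ Fintype.card F := Fintype.card_pos
  have := Nat.dvd_sub h2 h1
  have e : Fintype.card F + 1 - (Fintype.card F - 1) = 2 := by omega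
  rwa [e] at this

theorem card_case_split (hns : ∀ x : F, x * x ≠ -1) (hq : Fintype.card F % 2 = 1)
    (hq3 : Fintype.card F % 3 = 0)
    (x : PSL(2, F)) (hx1 : x ≠ 1) (hx2 : orderOf x ≠ 2) (hd : orderOf x ∣ Fintype.card F - 1) :
    Nat.card {y : PSL(2, F) //
        Group.IsSolvable ↥(Subgroup.closure ({x, y} : Set PSL(2, F)))} =
      Fintype.card F * (Fintype.card F - 1) := by
  obtain ⟨g, rfl⟩ := proj_surjective x
  have ht4 : tr g * tr g ≠ 4 := not_tr_sq_four hq3 (Or.inl rfl) hx1 hd
  by_cases hsp : ∃ l : F, l * l - tr g * l + 1 = 0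
  · obtain ⟨l, hl⟩ := hsp
    have hl0 : l ≠ 0 := by
      rintro rfl
      simp at hl
    have hl2 : l * l ≠ 1 := by
      intro h
      apply ht4
      have h2 : tr g * l = 2 := by linear_combination -hl + h
      calc tr g * tr g = (tr g * l) * (tr g * l) := by rw [mul_mul_mul_comm, h, mul_one]
        _ = 4 := by rw [h2]; norm_num
    have htr : tr g = tr (dg l hl0) := by
      have hl' := hl
      unfold tr at hl' ⊢
      rw [dg00, dg11]
      field_simp
      linear_combination -hl'
    obtain ⟨c, hc⟩ := exists_conj_of_tr_eq htr (by rw [← htr]; exact ht4)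
    have h := card_psl_sol hq g
    have h2 : Nat.card {y : SL(2, F) // Solv g y} =
        2 * (Fintype.card F * (Fintype.card F - 1)) := by
      rw [hc, card_solv_conj, card_solv_split hns hl0 hl2]
    rw [h2] at h
    omega
  · exfalso
    have hsp' : ∀ l : F, l * l - tr g * l + 1 ≠ 0 := fun l hl => hsp ⟨l, hl⟩
    have hc := card_centralizer_nonsplit g ht4 hsp'
    have hpow := proj_pow_card_centralizer g
    rw [hc] at hpow
    have hd2 : orderOf (proj g) ∣ Fintype.card F + 1 := orderOf_dvd_of_pow_eq_one hpow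
    rcases (Nat.dvd_prime Nat.prime_two).1 (ord_dvd_two hd hd2) with h | h
    · exact hx1 (orderOf_eq_one_iff.1 h)
    · exact hx2 h

theorem card_case_nonsplit (hns : ∀ x : F, x * x ≠ -1) (hq : Fintype.card F % 2 = 1)
    (hq3 : Fintype.card F % 3 = 0)
    (x : PSL(2, F)) (hx1 : x ≠ 1) (hx2 : orderOf x ≠ 2) (hd : orderOf x ∣ Fintype.card F + 1) :
    Nat.card {y : PSL(2, F) //
        Group.IsSolvable ↥(Subgroup.closure ({x, y} : Set PSL(2, F)))} =
      Fintype.card F + 1 := by
  obtain ⟨g, rfl⟩ := proj_surjective x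
  have ht4 : tr g * tr g ≠ 4 := not_tr_sq_four hq3 (Or.inr rfl) hx1 hd
  by_cases hsp : ∃ l : F, l * l - tr g * l + 1 = 0
  · exfalso
    obtain ⟨l, hl⟩ := hsp
    have hc := card_centralizer_split g ht4 l hl
    have hpow := proj_pow_card_centralizer g
    rw [hc] at hpow
    have hd2 : orderOf (proj g) ∣ Fintype.card F - 1 := orderOf_dvd_of_pow_eq_one hpow
    rcases (Nat.dvd_prime Nat.prime_two).1 (ord_dvd_two hd2 hd) with h | h
    · exact hx1 (orderOf_eq_one_iff.1 h)
    · exact hx2 h
  · have hsp' : ∀ l : F, l * l - tr g * l + 1 ≠ 0 := fun l hl => hsp ⟨l, hl⟩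
    have htr : tr g ≠ 0 := by
      intro h0
      have hsq := sq_of_tr_zero h0
      have h2 : (proj g) ^ 2 = 1 := by rw [sq, ← map_mul, hsq, proj_negOne]
      rcases (Nat.dvd_prime Nat.prime_two).1 (orderOf_dvd_of_pow_eq_one h2) with h | h
      · exact hx1 (orderOf_eq_one_iff.1 h)
      · exact hx2 h
    have h := card_psl_sol hq g
    rw [card_solv_nonsplit hns hsp' htr] at h
    omega

end fin

end Cfsg.Agent.Lib.Helper5_Sol3M
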