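import Mathlib
import Cfsg.Agent.Lib.Helper5_SzSolA

/-!
# Solubilizers in Suzuki groups (helper5), part E: Sylow `2`-subgroups of a subgroup
-/

set_option autoImplicit false

namespace Cfsg.Agent.Lib.Helper5_SzSolE

open Subgroup Cfsg.Agent.Lib.Helper5_SzSolA

variable {G : Type*} [Group G]

theorem factorization_two {a k : ℕ} (hk : ¬ 2 ∣ k) : (2 ^ a * k).factorization 2 = a := by
  have hk0 : k ≠ 0 := by
    rintro rfl
    exact hk (dvd_zero 2)
  rw [Nat.factorization_mul (pow_ne_zero _ (by norm_num)) hk0, Nat.Prime.factorization_pow Nat.prime_two]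
  simp [Nat.factorization_eq_zero_of_not_dvd hk]

/-- Sylow's theorems inside a subgroup `N` of order `2^a k`, `k` odd, for `2`-elements -/
theorem exists_conj_mem_two_subgroup [Finite G] {N : Subgroup G} {a k : ℕ}
    (hN : Nat.card N = 2 ^ a * k) (hk : ¬ 2 ∣ k) {x x' : G} (hx : x ∈ N) (hx' : x' ∈ N)
    (hox : ∃ i, orderOf x = 2 ^ i) (hox' : ∃ i, orderOf x' = 2 ^ i) :
    ∃ n ∈ N, ∃ S : Subgroup G, S ≤ N ∧ Nat.card S = 2 ^ a ∧ x' ∈ S ∧ n * x * n⁻¹ ∈ S := by
  haveI : Fact (Nat.Prime 2) := ⟨Nat.prime_two⟩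
  obtain ⟨i, hi⟩ := hox
  obtain ⟨i', hi'⟩ := hox'
  have h1 : IsPGroup 2 (zpowers (⟨x, hx⟩ : N)) := by
    apply IsPGroup.of_card (n := i)
    rw [Nat.card_zpowers, ← hi]
    exact Subgroup.orderOf_mk x hx
  have h2 : IsPGroup 2 (zpowers (⟨x', hx'⟩ : N)) := by
    apply IsPGroup.of_card (n := i')
    rw [Nat.card_zpowers, ← hi']
    exact Subgroup.orderOf_mk x' hx'
  obtain ⟨P, hP⟩ := h1.exists_le_sylow
  obtain ⟨Q, hQ⟩ := h2.exists_le_sylow
  obtain ⟨g, hg⟩ := MulAction.exists_smul_eq N P Q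
  have hxP : (⟨x, hx⟩ : N) ∈ P := hP (mem_zpowers _)
  have hxQ : (⟨x', hx'⟩ : N) ∈ Q := hQ (mem_zpowers _)
  have hgx : g * ⟨x, hx⟩ * g⁻¹ ∈ Q := by
    rw [← hg]
    have := Subgroup.smul_mem_pointwise_smul (⟨x, hx⟩ : N) (MulAut.conj g) (P : Subgroup N) hxP
    rw [MulAut.smul_def, MulAut.conj_apply] at this
    exact this
  refine ⟨g.1, g.2, (Q : Subgroup N).map N.subtype, ?_, ?_, ?_, ?_⟩
  · exact Subgroup.map_subtype_le _
  · rw [Subgroup.card_map_of_injective N.subtype_injective, Sylow.card_eq_multiplicity, hN,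
      factorization_two hk]
  · exact ⟨⟨x', hx'⟩, hxQ, rfl⟩
  · exact ⟨g * ⟨x, hx⟩ * g⁻¹, hgx, rfl⟩

/-- a subgroup of order `4` is abelian -/
theorem comm_of_card_four [Finite G] {S : Subgroup G} (hS : Nat.card S = 4) {a b : G}
    (ha : a ∈ S) (hb : b ∈ S) : a * b = b * a := by
  haveI : Fact (Nat.Prime 2) := ⟨Nat.prime_two⟩
  have h4 : Nat.card S = 2 ^ 2 := by rw [hS]; norm_num
  have := (IsPGroup.commutative_of_card_eq_prime_sq h4 (⟨a, ha⟩ : S) ⟨b, hb⟩)
  exact congrArg Subtype.val this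

/-- the elements of order `4` in a group of order `4` containing `x` of order `4` -/
theorem eq_or_eq_inv_of_card_four [Finite G] {S : Subgroup G} (hS : Nat.card S = 4) {x y : G}
    (hx : x ∈ S) (hy : y ∈ S) (hox : orderOf x = 4) (hoy : orderOf y = 4) : y = x ∨ y = x⁻¹ := by
  have hle : zpowers x ≤ S := by
    rw [zpowers_le]; exact hx
  have hcard : Nat.card (zpowers x) = 4 := by rw [Nat.card_zpowers, hox]
  have heq : zpowers x = S := Subgroup.eq_of_le_of_card_ge hle (by rw [hS, hcard])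
  rw [← heq] at hy
  have hx4 : x ^ 4 = 1 := by rw [← hox]; exact pow_orderOf_eq_one x
  have hy' : y ∈ Submonoid.powers x := (mem_powers_iff_mem_zpowers).2 hy
  obtain ⟨n, rfl⟩ := (Submonoid.mem_powers_iff _ _).1 hy'
  have hmod : x ^ n = x ^ (n % 4) := by
    have := pow_mod_orderOf x n
    rw [hox] at this
    exact this.symm
  rw [hmod] at hoy ⊢
  have hi : n % 4 < 4 := Nat.mod_lt _ (by norm_num)
  generalize n % 4 = i at hi hoy ⊢
  interval_cases i
  · rw [pow_zero, orderOf_one] at hoy; omega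
  · left; rw [pow_one]
  · exfalso
    have : (x ^ 2) ^ 2 = 1 := by rw [← pow_mul]; exact hx4
    have hd := orderOf_dvd_of_pow_eq_one this
    rw [hoy] at hd
    omega
  · right
    apply eq_inv_of_mul_eq_one_left
    rw [← pow_succ]; exact hx4

/-- a group of order `4` all of whose elements satisfy `g * g = 1` contains two distinct commuting
involutions -/
theorem exists_two_involutions [Finite G] {S : Subgroup G} (hS : Nat.card S = 4)
    (hno : ∀ g ∈ S, orderOf g ≠ 4) :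
    ∃ a b : G, a ∈ S ∧ b ∈ S ∧ orderOf a = 2 ∧ orderOf b = 2 ∧ a ≠ b ∧ a * b = b * a := by
  classical
  have hord : ∀ g ∈ S, g ≠ 1 → orderOf g = 2 := by
    intro g hg hg1
    have h1 : orderOf g ∣ 4 := by
      have := orderOf_dvd_natCard (⟨g, hg⟩ : S)
      rwa [Subgroup.orderOf_mk, hS] at this
    have h2 : orderOf g ∣ 2 ^ 2 := by norm_num; exact h1
    obtain ⟨j, hj, hj2⟩ := (Nat.dvd_prime_pow Nat.prime_two).1 h2
    interval_cases j
    · rw [pow_zero] at hj2; exact absurd (orderOf_eq_one_iff.1 hj2) hg1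
    · rw [hj2]; norm_num
    · exact absurd (by rw [hj2]; norm_num) (hno g hg)
  -- pick `a ≠ 1`
  have h1 : ∃ a : S, a ≠ 1 := by
    by_contra hcon
    push Not at hcon
    have : Nat.card S ≤ 1 := by
      rw [Finite.card_le_one_iff_subsingleton]
      exact ⟨fun a b => by rw [hcon a, hcon b]⟩
    omega
  obtain ⟨a, ha⟩ := h1
  have h2 : ∃ b : S, b ≠ 1 ∧ b ≠ a := by
    by_contra hcon
    push Not at hcon
    have hsub : (Set.univ : Set S) ⊆ {1, a} := by
      intro b _
      by_cases hb : b = 1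
      · left; exact hb
      · right; exact hcon b hb
    have : Nat.card S ≤ 2 := by
      rw [← Nat.card_univ (α := S), Nat.card_coe_set_eq]
      calc (Set.univ : Set S).ncard ≤ ({1, a} : Set S).ncard := Set.ncard_le_ncard hsub
        _ ≤ 2 := (Set.ncard_insert_le 1 {a}).trans (by rw [Set.ncard_singleton])
    omega
  obtain ⟨b, hb1, hba⟩ := h2
  refine ⟨a.1, b.1, a.2, b.2, hord a.1 a.2 ?_, hord b.1 b.2 ?_, ?_, comm_of_card_four hS a.2 b.2⟩
  · intro h; exact ha (Subtype.ext h)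
  · intro h; exact hb1 (Subtype.ext h)
  · intro h; exact hba (Subtype.ext h.symm)

end Cfsg.Agent.Lib.Helper5_SzSolE
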