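import Mathlib
import Cfsg.Agent.Lib.Helper5_SzSolD
import Cfsg.Agent.Lib.Helper5_SzSolE

/-!
# Solubilizers in Suzuki groups (helper5), part F: `2`-elements normalising cyclic members
-/

set_option autoImplicit false

namespace Cfsg.Agent.Lib.Helper5_SzSolF

open Subgroup Cfsg.Agent.Lib.Helper5_SzSolA Cfsg.Agent.Lib.Helper5_SzSolB
  Cfsg.Agent.Lib.Helper5_SzSolC Cfsg.Agent.Lib.Helper5_SzSolD Cfsg.Agent.Lib.Helper5_SzSolE

variable {G : Type*} [Group G] {q r : ℕ}

theorem sq_eq_one_of_orderOf_two {a : G} (ha : orderOf a = 2) : a * a = 1 := by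
  have := pow_orderOf_eq_one a
  rwa [ha, pow_two] at this

theorem ne_one_of_orderOf_two {a : G} (ha : orderOf a = 2) : a ≠ 1 := by
  rintro rfl
  rw [orderOf_one] at ha
  omega

theorem ne_one_of_orderOf_four {a : G} (ha : orderOf a = 4) : a ≠ 1 := by
  rintro rfl
  rw [orderOf_one] at ha
  omega

theorem two_dvd_of_two_or_four {x : G} (hox : orderOf x = 2 ∨ orderOf x = 4) : 2 ∣ orderOf x := by
  rcases hox with h | h <;> rw [h] <;> norm_num

theorem two_pow_of_two_or_four {x : G} (hox : orderOf x = 2 ∨ orderOf x = 4) :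
    ∃ i, orderOf x = 2 ^ i := by
  rcases hox with h | h
  · exact ⟨1, by rw [h]; norm_num⟩
  · exact ⟨2, by rw [h]; norm_num⟩

theorem ne_one_of_two_or_four {x : G} (hox : orderOf x = 2 ∨ orderOf x = 4) : x ≠ 1 := by
  rcases hox with h | h
  · exact ne_one_of_orderOf_two h
  · exact ne_one_of_orderOf_four h

/-- a group of order `2` -/
theorem eq_of_card_two [Finite G] {S : Subgroup G} (hS : Nat.card S = 2) {x y : G} (hx : x ∈ S)
    (hy : y ∈ S) (hx1 : x ≠ 1) (hy1 : y ≠ 1) : x = y := by
  have hsub : ({1, x} : Set G) ⊆ (S : Set G) := by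
    intro z hz
    rcases hz with rfl | rfl
    · exact S.one_mem
    · exact hx
  have h2 : ({1, x} : Set G).ncard = 2 := Set.ncard_pair (Ne.symm hx1)
  have heq : ({1, x} : Set G) = (S : Set G) := by
    apply Set.eq_of_subset_of_ncard_le hsub
    rw [h2, ← Nat.card_coe_set_eq]
    exact le_of_eq hS
  have : y ∈ ({1, x} : Set G) := by rw [heq]; exact hy
  rcases this with h | h
  · exact absurd h hy1
  · exact h.symm

section ax

variable (h : Ax G q r)
include h

theorem card_cyc_ge {T : Subgroup G} (hT : IsCyc q r T) : 2 ≤ Nat.card T := by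
  have h1 := h.ar.q_ge
  have h2 := h.ar.two_r_le
  have h3 := h.ar.r_ge
  obtain ⟨-, h4 | h4 | h4⟩ := hT <;> rw [h4] <;> omega

theorem exists_ne_one_of_cyc [Finite G] {T : Subgroup G} (hT : IsCyc q r T) :
    ∃ t ∈ T, t ≠ 1 := by
  have := card_cyc_ge h hT
  have hnt : Nontrivial T := Finite.one_lt_card_iff_nontrivial.1 (by omega)
  obtain ⟨t, ht⟩ := exists_ne (1 : T)
  exact ⟨t.1, t.2, fun h1 => ht (Subtype.ext h1)⟩

theorem comm_of_cyc {T : Subgroup G} (hT : IsCyc q r T) : ∀ a ∈ T, ∀ b ∈ T, a * b = b * a := by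
  intro a ha b hb
  haveI := hT.1
  have := IsCyclic.commGroup.mul_comm (⟨a, ha⟩ : T) ⟨b, hb⟩
  exact congrArg Subtype.val this

/-- an element of even order commuting with a non-identity element of a cyclic member: impossible -/
theorem not_commute_of_even [Finite G] {T : Subgroup G} (hT : IsCyc q r T) {a t : G}
    (ha : 2 ∣ orderOf a) (ht : t ∈ T) (ht1 : t ≠ 1) : a * t ≠ t * a := by
  intro hc
  have := h.cent_cyc T hT t ht ht1 a hc
  exact odd_order_of_mem_cyc h hT this ha

/-- an involution normalising a cyclic member inverts it -/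
theorem inverts [Finite G] {T : Subgroup G} (hT : IsCyc q r T) {a : G}
    (ha : a ∈ normalizer (T : Set G)) (hoa : orderOf a = 2) : ∀ t ∈ T, a * t * a⁻¹ = t⁻¹ := by
  apply inverts_of_cent_trivial (comm_of_cyc h hT) ha (sq_eq_one_of_orderOf_two hoa)
  intro t ht hc
  by_contra ht1
  exact not_commute_of_even h hT (by rw [hoa]) ht ht1 hc

/-- no Klein four-group normalises a cyclic member -/
theorem no_klein [Finite G] {T : Subgroup G} (hT : IsCyc q r T) {a b : G}
    (ha : a ∈ normalizer (T : Set G)) (hb : b ∈ normalizer (T : Set G)) (hoa : orderOf a = 2)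
    (hob : orderOf b = 2) (hab : a ≠ b) (hcomm : a * b = b * a) : False := by
  have ia := inverts h hT ha hoa
  have ib := inverts h hT hb hob
  have haa := sq_eq_one_of_orderOf_two hoa
  have hbb := sq_eq_one_of_orderOf_two hob
  obtain ⟨t, ht, ht1⟩ := exists_ne_one_of_cyc h hT
  have hab1 : a * b ≠ 1 := by
    intro h1
    apply hab
    have : a = b⁻¹ := eq_inv_of_mul_eq_one_left h1
    rw [this]
    exact inv_eq_of_mul_eq_one_left hbb
  have hsq : (a * b) * (a * b) = 1 := by
    calc (a * b) * (a * b) = a * (b * a) * b := by group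
      _ = a * (a * b) * b := by rw [hcomm]
      _ = (a * a) * (b * b) := by group
      _ = 1 := by rw [haa, hbb, one_mul]
  have ho : orderOf (a * b) = 2 := by
    apply orderOf_eq_prime
    · rw [pow_two]; exact hsq
    · exact hab1
  have hc : (a * b) * t = t * (a * b) := by
    have e1 : (a * b) * t * (a * b)⁻¹ = a * (b * t * b⁻¹) * a⁻¹ := by group
    have e2 : (a * b) * t * (a * b)⁻¹ = t := by
      rw [e1, ib t ht]
      have := ia t⁻¹ (T.inv_mem ht)
      rw [this, inv_inv]
    calc (a * b) * t = ((a * b) * t * (a * b)⁻¹) * (a * b) := by group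
      _ = t * (a * b) := by rw [e2]
  exact not_commute_of_even h hT (by rw [ho]) ht ht1 hc

/-- a subgroup of order `4` of the normaliser of a cyclic member has a unique involution -/
theorem invol_unique [Finite G] {T : Subgroup G} (hT : IsCyc q r T) {S : Subgroup G}
    (hS : Nat.card S = 4) (hSN : S ≤ normalizer (T : Set G)) {a b : G} (ha : a ∈ S) (hb : b ∈ S)
    (hoa : orderOf a = 2) (hob : orderOf b = 2) : a = b := by
  by_contra hab
  exact no_klein h hT (hSN ha) (hSN hb) hoa hob hab (comm_of_card_four hS ha hb)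

/-- a subgroup of order `4` of the normaliser of a cyclic member contains an element of order `4` -/
theorem exists_order_four [Finite G] {T : Subgroup G} (hT : IsCyc q r T) {S : Subgroup G}
    (hS : Nat.card S = 4) (hSN : S ≤ normalizer (T : Set G)) : ∃ x₀ ∈ S, orderOf x₀ = 4 := by
  by_contra hcon
  push Not at hcon
  obtain ⟨a, b, ha, hb, hoa, hob, hab, hcomm⟩ := exists_two_involutions hS hcon
  exact no_klein h hT (hSN ha) (hSN hb) hoa hob hab hcomm

/-- a `2`-element lies in a Sylow `2`-subgroup -/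
theorem exists_sylow_mem [Finite G] {x : G} (hox : orderOf x = 2 ∨ orderOf x = 4) :
    ∃ P : Sylow 2 G, x ∈ P := by
  obtain ⟨i, hi⟩ := two_pow_of_two_or_four hox
  have h1 : IsPGroup 2 (zpowers x) := by
    apply IsPGroup.of_card (n := i)
    rw [Nat.card_zpowers, hi]
  obtain ⟨P, hP⟩ := h1.exists_le_sylow
  exact ⟨P, hP (mem_zpowers x)⟩

/-- two distinct cyclic members normalised by `x`: common normalising elements lie in `P` -/
theorem mem_sylow_of_mem_two_normalizers [Finite G] {T T' : Subgroup G} (hT : IsCyc q r T)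
    (hT' : IsCyc q r T') (hne : T ≠ T') {P : Sylow 2 G} {x y : G} (hx1 : x ≠ 1) (hxP : x ∈ P)
    (hxT : x ∈ normalizer (T : Set G)) (hxT' : x ∈ normalizer (T' : Set G))
    (hyT : y ∈ normalizer (T : Set G)) (hyT' : y ∈ normalizer (T' : Set G)) : y ∈ P := by
  set H := normalizer (T : Set G) ⊓ normalizer (T' : Set G) with hH
  have hbot : H ⊓ T = ⊥ := by
    rw [eq_bot_iff]
    intro t ht
    rw [mem_bot]
    by_contra ht1
    exact hne (cyc_eq_of_mem_normalizer h hT hT' ht1 ht.2 ht.1.2)
  have hd := card_mul_dvd (H := H) (T := T) inf_le_left hbot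
  obtain ⟨c, hc, hcard⟩ := card_norm_cyc h hT
  rw [hcard] at hd
  have hTpos : 0 < Nat.card T := Nat.card_pos
  have hd' : Nat.card H ∣ c := Nat.dvd_of_mul_dvd_mul_right hTpos hd
  have hd4 : Nat.card H ∣ 2 ^ 2 := by
    rcases hc with rfl | rfl
    · exact dvd_trans hd' (by norm_num)
    · exact dvd_trans hd' (by norm_num)
  have hp : IsPGroup 2 H := IsPGroup.of_card_dvd_pow hd4
  exact two_group_le h hp hx1 ⟨hxT, hxT'⟩ hxP ⟨hyT, hyT'⟩

end ax

end Cfsg.Agent.Lib.Helper5_SzSolF
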