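import Mathlib
import Cfsg.Agent.Lib.Helper5_SzSolF

/-!
# Solubilizers in Suzuki groups (helper5), part G: intersections of normalisers
-/

set_option autoImplicit false

namespace Cfsg.Agent.Lib.Helper5_SzSolG

open Subgroup Cfsg.Agent.Lib.Helper5_SzSolA Cfsg.Agent.Lib.Helper5_SzSolB
  Cfsg.Agent.Lib.Helper5_SzSolC Cfsg.Agent.Lib.Helper5_SzSolD Cfsg.Agent.Lib.Helper5_SzSolE
  Cfsg.Agent.Lib.Helper5_SzSolF

variable {G : Type*} [Group G] {q r : ℕ}

section ax

variable (h : Ax G q r)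
include h

/-- a subgroup of order `4` containing `x` inside `N(T)`, `|T| = q ± r + 1` -/
theorem exists_four_subgroup [Finite G] {T : Subgroup G} (hTc : IsCyclic T)
    (hTk : Nat.card T = q + r + 1 ∨ Nat.card T = q - r + 1) {x : G}
    (hox : ∃ i, orderOf x = 2 ^ i) (hxT : x ∈ normalizer (T : Set G)) :
    ∃ S : Subgroup G, S ≤ normalizer (T : Set G) ∧ Nat.card S = 4 ∧ x ∈ S := by
  have hT : IsCyc q r T := ⟨hTc, Or.inr hTk⟩
  have hN : Nat.card (normalizer (T : Set G)) = 2 ^ 2 * Nat.card T := by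
    rw [h.card_norm_cyc1 T hTc hTk]; norm_num
  obtain ⟨n, -, S, hSN, hS, hxS, -⟩ :=
    exists_conj_mem_two_subgroup hN (odd_card_cyc h hT) hxT hxT hox hox
  exact ⟨S, hSN, by rw [hS]; norm_num, hxS⟩

theorem card_inf_normalizer_pm [Finite G] {T : Subgroup G} (hTc : IsCyclic T)
    (hTk : Nat.card T = q + r + 1 ∨ Nat.card T = q - r + 1) {P : Sylow 2 G} {x : G}
    (hox : orderOf x = 2 ∨ orderOf x = 4) (hxP : x ∈ P) (hxT : x ∈ normalizer (T : Set G)) :
    Nat.card (normalizer (T : Set G) ⊓ normalizer ((P : Subgroup G) : Set G) : Subgroup G) = 4 := by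
  have hT : IsCyc q r T := ⟨hTc, Or.inr hTk⟩
  have hx1 := ne_one_of_two_or_four hox
  set H := normalizer (T : Set G) ⊓ normalizer ((P : Subgroup G) : Set G) with hH
  have hbot : H ⊓ T = ⊥ := by
    rw [eq_bot_iff]
    intro t ht
    rw [mem_bot]
    by_contra ht1
    exact not_mem_normalizer_sylow h ht1 hTk (orderOf_dvd_card_of_mem ht.2) P ht.1.2
  have hd := card_mul_dvd (H := H) (T := T) inf_le_left hbot
  rw [h.card_norm_cyc1 T hTc hTk] at hd
  have hTpos : 0 < Nat.card T := Nat.card_pos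
  have hd' : Nat.card H ∣ 4 := Nat.dvd_of_mul_dvd_mul_right hTpos hd
  obtain ⟨S, hSN, hS, hxS⟩ := exists_four_subgroup h hTc hTk (two_pow_of_two_or_four hox) hxT
  have hp : IsPGroup 2 S := IsPGroup.of_card (n := 2) (by rw [hS]; norm_num)
  have hSP : S ≤ P := two_group_le h hp hx1 hxS hxP
  have hSH : S ≤ H := le_inf hSN (hSP.trans le_normalizer)
  have h4 : 4 ∣ Nat.card H := by
    rw [← hS]; exact Subgroup.card_dvd_of_le hSH
  exact Nat.dvd_antisymm hd' h4

theorem card_inf_centralizer_pm [Finite G] {T : Subgroup G} (hTc : IsCyclic T)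
    (hTk : Nat.card T = q + r + 1 ∨ Nat.card T = q - r + 1) {x : G}
    (hox : orderOf x = 2 ∨ orderOf x = 4) (hxT : x ∈ normalizer (T : Set G)) :
    Nat.card (normalizer (T : Set G) ⊓ centralizer ({x} : Set G) : Subgroup G) = 4 := by
  have hT : IsCyc q r T := ⟨hTc, Or.inr hTk⟩
  set H := normalizer (T : Set G) ⊓ centralizer ({x} : Set G) with hH
  have hbot : H ⊓ T = ⊥ := by
    rw [eq_bot_iff]
    intro t ht
    rw [mem_bot]
    by_contra ht1
    have hc := mem_centralizer_singleton_iff.1 ht.1.2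
    exact not_commute_of_even h hT (two_dvd_of_two_or_four hox) ht.2 ht1 hc.symm
  have hd := card_mul_dvd (H := H) (T := T) inf_le_left hbot
  rw [h.card_norm_cyc1 T hTc hTk] at hd
  have hTpos : 0 < Nat.card T := Nat.card_pos
  have hd' : Nat.card H ∣ 4 := Nat.dvd_of_mul_dvd_mul_right hTpos hd
  obtain ⟨S, hSN, hS, hxS⟩ := exists_four_subgroup h hTc hTk (two_pow_of_two_or_four hox) hxT
  have hSH : S ≤ H := by
    apply le_inf hSN
    intro s hs
    rw [mem_centralizer_singleton_iff]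
    exact comm_of_card_four hS hs hxS
  have h4 : 4 ∣ Nat.card H := by
    rw [← hS]; exact Subgroup.card_dvd_of_le hSH
  exact Nat.dvd_antisymm hd' h4

omit h in
theorem card_zpowers_two {x : G} (hox : orderOf x = 2) : Nat.card (zpowers x) = 2 := by
  rw [Nat.card_zpowers, hox]

theorem card_inf_normalizer_zero [Finite G] {T : Subgroup G} (hTc : IsCyclic T)
    (hTk : Nat.card T = q - 1) {P : Sylow 2 G} {x : G}
    (hox : orderOf x = 2) (hxP : x ∈ P) (hxT : x ∈ normalizer (T : Set G)) :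
    Nat.card (normalizer (T : Set G) ⊓ normalizer ((P : Subgroup G) : Set G) : Subgroup G) = 2 := by
  have hT : IsCyc q r T := ⟨hTc, Or.inl hTk⟩
  set H := normalizer (T : Set G) ⊓ normalizer ((P : Subgroup G) : Set G) with hH
  have hxH : x ∈ H := ⟨hxT, le_normalizer hxP⟩
  have hbot : H ⊓ T = ⊥ := by
    rw [eq_bot_iff]
    intro t ht
    rw [mem_bot]
    by_contra ht1
    obtain ⟨P1, P2, -, hP, hV1, hV2⟩ := h.split T hTc hTk
    have hxT' : x ∈ T := by
      rcases hP t ht.2 ht1 P ht.1.2 with rfl | rfl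
      · rw [← hV1]; exact hxH
      · rw [← hV2]; exact hxH
    exact odd_order_of_mem_cyc h hT hxT' (by rw [hox])
  have hd := card_mul_dvd (H := H) (T := T) inf_le_left hbot
  rw [h.card_norm_cyc0 T hTc hTk] at hd
  have hTpos : 0 < Nat.card T := Nat.card_pos
  have hd' : Nat.card H ∣ 2 := Nat.dvd_of_mul_dvd_mul_right hTpos hd
  have hle : zpowers x ≤ H := by rw [zpowers_le]; exact hxH
  have h2 : 2 ∣ Nat.card H := by
    rw [← card_zpowers_two hox]; exact Subgroup.card_dvd_of_le hle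
  exact Nat.dvd_antisymm hd' h2

theorem card_inf_centralizer_zero [Finite G] {T : Subgroup G} (hTc : IsCyclic T)
    (hTk : Nat.card T = q - 1) {x : G}
    (hox : orderOf x = 2) (hxT : x ∈ normalizer (T : Set G)) :
    Nat.card (normalizer (T : Set G) ⊓ centralizer ({x} : Set G) : Subgroup G) = 2 := by
  have hT : IsCyc q r T := ⟨hTc, Or.inl hTk⟩
  set H := normalizer (T : Set G) ⊓ centralizer ({x} : Set G) with hH
  have hxH : x ∈ H := ⟨hxT, mem_centralizer_singleton_iff.2 rfl⟩
  have hbot : H ⊓ T = ⊥ := by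
    rw [eq_bot_iff]
    intro t ht
    rw [mem_bot]
    by_contra ht1
    have hc := mem_centralizer_singleton_iff.1 ht.1.2
    exact not_commute_of_even h hT (by rw [hox]) ht.2 ht1 hc.symm
  have hd := card_mul_dvd (H := H) (T := T) inf_le_left hbot
  rw [h.card_norm_cyc0 T hTc hTk] at hd
  have hTpos : 0 < Nat.card T := Nat.card_pos
  have hd' : Nat.card H ∣ 2 := Nat.dvd_of_mul_dvd_mul_right hTpos hd
  have hle : zpowers x ≤ H := by rw [zpowers_le]; exact hxH
  have h2 : 2 ∣ Nat.card H := by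
    rw [← card_zpowers_two hox]; exact Subgroup.card_dvd_of_le hle
  exact Nat.dvd_antisymm hd' h2

end ax

end Cfsg.Agent.Lib.Helper5_SzSolG
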