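import Mathlib
import Cfsg.Agent.Lib.Helper5_SzSolG

/-!
# Solubilizers in Suzuki groups (helper5), part H: counting the cyclic members normalised by a `2`-element
-/

set_option autoImplicit false

namespace Cfsg.Agent.Lib.Helper5_SzSolH

open Subgroup Cfsg.Agent.Lib.Helper5_SzSolA Cfsg.Agent.Lib.Helper5_SzSolB
  Cfsg.Agent.Lib.Helper5_SzSolC Cfsg.Agent.Lib.Helper5_SzSolD Cfsg.Agent.Lib.Helper5_SzSolE
  Cfsg.Agent.Lib.Helper5_SzSolF Cfsg.Agent.Lib.Helper5_SzSolG

variable {G : Type*} [Group G] {q r : ℕ}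

theorem orderOf_conj' (g x : G) : orderOf (g * x * g⁻¹) = orderOf x := by
  have := MulEquiv.orderOf_eq (MulAut.conj g) x
  rwa [MulAut.conj_apply] at this

instance finite_subgroup [Finite G] : Finite (Subgroup G) :=
  Finite.of_injective (fun H : Subgroup G => (H : Set G)) SetLike.coe_injective

/-- the cyclic subgroups of order `k` normalised by `x` -/
def TT (k : ℕ) (x : G) : Set (Subgroup G) :=
  {T | IsCyclic T ∧ Nat.card T = k ∧ x ∈ normalizer (T : Set G)}

section ax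

variable (h : Ax G q r)
include h

/-- orbit counting -/
theorem card_TT_mul [Finite G] {k : ℕ} (hk : IsK q r k) {x : G} {T : Subgroup G}
    (hT : T ∈ TT k x)
    (hloc : ∀ g : G, g⁻¹ * x * g ∈ normalizer (T : Set G) →
      ∃ n ∈ normalizer (T : Set G), n * (g⁻¹ * x * g) * n⁻¹ = x) :
    Nat.card (TT k x) *
      Nat.card (normalizer (T : Set G) ⊓ centralizer ({x} : Set G) : Subgroup G) =
      Nat.card (centralizer ({x} : Set G)) := by
  obtain ⟨hTc, hTk, hxT⟩ := hT
  have hTcyc : IsCyc q r T := ⟨hTc, by rw [hTk]; exact hk⟩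
  have hset : TT k x = {T' | ∃ c ∈ centralizer ({x} : Set G), T' = cj c T} := by
    ext T'
    constructor
    · rintro ⟨hc', hk', hx'⟩
      have hT'cyc : IsCyc q r T' := ⟨hc', by rw [hk']; exact hk⟩
      obtain ⟨g, rfl⟩ := h.conj_cyc T T' hTcyc hT'cyc (by rw [hTk, hk'])
      rw [normalizer_cj, mem_cj] at hx'
      obtain ⟨n, hn, hnx⟩ := hloc g hx'
      refine ⟨g * n⁻¹, ?_, ?_⟩
      · rw [mem_centralizer_singleton_iff]
        calc g * n⁻¹ * x = g * n⁻¹ * (n * (g⁻¹ * x * g) * n⁻¹) := by rw [hnx]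
          _ = x * (g * n⁻¹) := by group
      · rw [cj_mul, cj_eq_self_iff.2 (inv_mem hn)]
    · rintro ⟨c, hc, rfl⟩
      haveI := hTc
      refine ⟨isCyclic_cj c T, by rw [card_cj, hTk], ?_⟩
      rw [normalizer_cj, mem_cj]
      have hcx := mem_centralizer_singleton_iff.1 hc
      have : c⁻¹ * x * c = x := by
        calc c⁻¹ * x * c = c⁻¹ * (x * c) := by group
          _ = c⁻¹ * (c * x) := by rw [hcx]
          _ = x := by group
      rw [this]
      exact hxT
  rw [hset]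
  exact card_orbit_mul (centralizer ({x} : Set G)) T

/-- local conjugacy of involutions, `|T| = q - 1` -/
theorem loc_conj_zero [Finite G] {T : Subgroup G} (hTc : IsCyclic T) (hTk : Nat.card T = q - 1)
    {x x' : G} (hx : x ∈ normalizer (T : Set G)) (hx' : x' ∈ normalizer (T : Set G))
    (hox : orderOf x = 2) (hox' : orderOf x' = 2) :
    ∃ n ∈ normalizer (T : Set G), n * x' * n⁻¹ = x := by
  have hN : Nat.card (normalizer (T : Set G)) = 2 ^ 1 * (q - 1) := by
    rw [h.card_norm_cyc0 T hTc hTk, hTk]; norm_num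
  obtain ⟨n, hn, S, -, hS, hxS, hnS⟩ :=
    exists_conj_mem_two_subgroup hN h.ar.odd0 hx' hx ⟨1, by rw [hox']; norm_num⟩
      ⟨1, by rw [hox]; norm_num⟩
  refine ⟨n, hn, ?_⟩
  apply eq_of_card_two (by rw [hS]; norm_num) hnS hxS
  · apply ne_one_of_orderOf_two
    rw [orderOf_conj', hox']
  · exact ne_one_of_orderOf_two hox

/-- local conjugacy of involutions, `|T| = q ± r + 1` -/
theorem loc_conj_pm_two [Finite G] {T : Subgroup G} (hTc : IsCyclic T)
    (hTk : Nat.card T = q + r + 1 ∨ Nat.card T = q - r + 1)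
    {x x' : G} (hx : x ∈ normalizer (T : Set G)) (hx' : x' ∈ normalizer (T : Set G))
    (hox : orderOf x = 2) (hox' : orderOf x' = 2) :
    ∃ n ∈ normalizer (T : Set G), n * x' * n⁻¹ = x := by
  have hT : IsCyc q r T := ⟨hTc, Or.inr hTk⟩
  have hN : Nat.card (normalizer (T : Set G)) = 2 ^ 2 * Nat.card T := by
    rw [h.card_norm_cyc1 T hTc hTk]; norm_num
  obtain ⟨n, hn, S, hSN, hS, hxS, hnS⟩ :=
    exists_conj_mem_two_subgroup hN (odd_card_cyc h hT) hx' hx ⟨1, by rw [hox']; norm_num⟩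
      ⟨1, by rw [hox]; norm_num⟩
  refine ⟨n, hn, ?_⟩
  apply invol_unique h hT (by rw [hS]; norm_num) hSN hnS hxS _ hox
  rw [orderOf_conj', hox']

/-- local conjugacy of elements of order `4`, `|T| = q ± r + 1` -/
theorem loc_conj_pm_four [Finite G] {T : Subgroup G} (hTc : IsCyclic T)
    (hTk : Nat.card T = q + r + 1 ∨ Nat.card T = q - r + 1)
    {x x' : G} (hx : x ∈ normalizer (T : Set G)) (hx' : x' ∈ normalizer (T : Set G))
    (hox : orderOf x = 4) (hox' : orderOf x' = 4) :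
    ∃ n ∈ normalizer (T : Set G), n * x' * n⁻¹ = x ∨ n * x' * n⁻¹ = x⁻¹ := by
  have hT : IsCyc q r T := ⟨hTc, Or.inr hTk⟩
  have hN : Nat.card (normalizer (T : Set G)) = 2 ^ 2 * Nat.card T := by
    rw [h.card_norm_cyc1 T hTc hTk]; norm_num
  obtain ⟨n, hn, S, hSN, hS, hxS, hnS⟩ :=
    exists_conj_mem_two_subgroup hN (odd_card_cyc h hT) hx' hx ⟨2, by rw [hox']; norm_num⟩
      ⟨2, by rw [hox]; norm_num⟩
  refine ⟨n, hn, ?_⟩
  apply eq_or_eq_inv_of_card_four (by rw [hS]; norm_num) hxS hnS hox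
  rw [orderOf_conj', hox']

end ax

end Cfsg.Agent.Lib.Helper5_SzSolH
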