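import Mathlib
import Cfsg.Agent.Lib.Helper5_SzSolH

/-!
# Solubilizers in Suzuki groups (helper5), part I: the numbers of cyclic members normalised by a `2`-element
-/

set_option autoImplicit false

namespace Cfsg.Agent.Lib.Helper5_SzSolI

open Subgroup Cfsg.Agent.Lib.Helper5_SzSolA Cfsg.Agent.Lib.Helper5_SzSolB
  Cfsg.Agent.Lib.Helper5_SzSolC Cfsg.Agent.Lib.Helper5_SzSolD Cfsg.Agent.Lib.Helper5_SzSolE
  Cfsg.Agent.Lib.Helper5_SzSolF Cfsg.Agent.Lib.Helper5_SzSolG Cfsg.Agent.Lib.Helper5_SzSolH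

variable {G : Type*} [Group G] {q r : ℕ}

theorem orderOf_conj'' (g x : G) : orderOf (g⁻¹ * x * g) = orderOf x := by
  have := orderOf_conj' g⁻¹ x
  rwa [inv_inv] at this

section ax

variable (h : Ax G q r)
include h

/-- every involution normalises a cyclic subgroup of each of the three orders -/
theorem exists_TT_two [Finite G] {k : ℕ} (hk : IsK q r k) {x : G} (hox : orderOf x = 2) :
    ∃ T : Subgroup G, T ∈ TT k x := by
  obtain ⟨U, hUc, hUk⟩ := h.exists_cyc k hk
  have hU : IsCyc q r U := ⟨hUc, by rw [hUk]; exact hk⟩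
  obtain ⟨c, hc, hcard⟩ := card_norm_cyc h hU
  have h2 : 2 ∣ Nat.card (normalizer (U : Set G)) := by
    rw [hcard]
    rcases hc with rfl | rfl
    · exact Dvd.intro _ rfl
    · exact ⟨2 * Nat.card U, by ring⟩
  haveI : Fact (Nat.Prime 2) := ⟨Nat.prime_two⟩
  obtain ⟨y, hy⟩ := exists_prime_orderOf_dvd_card' (G := normalizer (U : Set G)) 2 h2
  have hy' : orderOf (y : G) = 2 := by rw [Subgroup.orderOf_coe]; exact hy
  obtain ⟨g, hg⟩ := h.invol_conj (y : G) x hy' hox
  haveI := hUc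
  refine ⟨cj g U, isCyclic_cj g U, by rw [card_cj, hUk], ?_⟩
  rw [normalizer_cj, hg]
  exact conj_mem_cj y.2

/-- every element of order `4` normalises a cyclic subgroup of order `q ± r + 1` -/
theorem exists_TT_four [Finite G] {k : ℕ} (hk : k = q + r + 1 ∨ k = q - r + 1) {x : G}
    (hox : orderOf x = 4) : ∃ T : Subgroup G, T ∈ TT k x := by
  have hK : IsK q r k := by
    rcases hk with rfl | rfl
    · exact Or.inr (Or.inl rfl)
    · exact Or.inr (Or.inr rfl)
  obtain ⟨U, hUc, hUk⟩ := h.exists_cyc k hK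
  have hUk' : Nat.card U = q + r + 1 ∨ Nat.card U = q - r + 1 := by rw [hUk]; exact hk
  have hU : IsCyc q r U := ⟨hUc, Or.inr hUk'⟩
  obtain ⟨S, hSN, hS, -⟩ := exists_four_subgroup h hUc hUk' (x := 1)
    ⟨0, by rw [orderOf_one]; norm_num⟩ (one_mem _)
  obtain ⟨x₀, hx₀S, hx₀⟩ := exists_order_four h hU hS hSN
  obtain ⟨g, hg⟩ := h.four_conj x₀ x hx₀ hox
  haveI := hUc
  refine ⟨cj g U, isCyclic_cj g U, by rw [card_cj, hUk], ?_⟩
  rw [normalizer_cj]
  rcases hg with hg | hg
  · rw [hg]; exact conj_mem_cj (hSN hx₀S)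
  · rw [hg]; exact conj_mem_cj (inv_mem (hSN hx₀S))

theorem card_TT_zero_two [Finite G] {x : G} (hox : orderOf x = 2) :
    Nat.card (TT (q - 1) x) * 2 = q ^ 2 := by
  obtain ⟨T, hT⟩ := exists_TT_two h (k := q - 1) (Or.inl rfl) hox
  have := card_TT_mul h (Or.inl rfl) hT (by
    intro g hg
    exact loc_conj_zero h hT.1 hT.2.1 hT.2.2 hg hox (by rw [orderOf_conj'', hox]))
  rw [card_inf_centralizer_zero h hT.1 hT.2.1 hox hT.2.2, h.cent_invol x hox] at this
  exact this

theorem card_TT_pm_two [Finite G] {k : ℕ} (hk : k = q + r + 1 ∨ k = q - r + 1) {x : G}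
    (hox : orderOf x = 2) : Nat.card (TT k x) * 4 = q ^ 2 := by
  have hK : IsK q r k := by
    rcases hk with rfl | rfl
    · exact Or.inr (Or.inl rfl)
    · exact Or.inr (Or.inr rfl)
  obtain ⟨T, hT⟩ := exists_TT_two h hK hox
  have hTk : Nat.card T = q + r + 1 ∨ Nat.card T = q - r + 1 := by rw [hT.2.1]; exact hk
  have := card_TT_mul h hK hT (by
    intro g hg
    exact loc_conj_pm_two h hT.1 hTk hT.2.2 hg hox (by rw [orderOf_conj'', hox]))
  rw [card_inf_centralizer_pm h hT.1 hTk (Or.inl hox) hT.2.2, h.cent_invol x hox] at this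
  exact this

theorem card_TT_pm_four [Finite G] {k : ℕ} (hk : k = q + r + 1 ∨ k = q - r + 1) {x : G}
    (hox : orderOf x = 4) : Nat.card (TT k x) * 4 = 2 * q := by
  have hK : IsK q r k := by
    rcases hk with rfl | rfl
    · exact Or.inr (Or.inl rfl)
    · exact Or.inr (Or.inr rfl)
  obtain ⟨T, hT⟩ := exists_TT_four h hk hox
  have hTk : Nat.card T = q + r + 1 ∨ Nat.card T = q - r + 1 := by rw [hT.2.1]; exact hk
  have := card_TT_mul h hK hT (by
    intro g hg
    obtain ⟨n, hn, hnx | hnx⟩ :=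
      loc_conj_pm_four h hT.1 hTk hT.2.2 hg hox (by rw [orderOf_conj'', hox])
    · exact ⟨n, hn, hnx⟩
    · exfalso
      apply h.four_not_real x (n * g⁻¹) hox
      rw [← hnx]
      group)
  rw [card_inf_centralizer_pm h hT.1 hTk (Or.inr hox) hT.2.2, h.cent_four x hox] at this
  exact this

/-- no element of order `4` normalises a cyclic subgroup of order `q - 1` -/
theorem TT_zero_four_empty [Finite G] {x : G} (hox : orderOf x = 4) : TT (q - 1) x = ∅ := by
  rw [Set.eq_empty_iff_forall_notMem]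
  rintro T ⟨hTc, hTk, hxT⟩
  have h1 := orderOf_dvd_card_of_mem hxT
  rw [h.card_norm_cyc0 T hTc hTk, hTk, hox] at h1
  apply h.ar.odd0
  have : (4 : ℕ) = 2 * 2 := by norm_num
  rw [this] at h1
  exact (Nat.mul_dvd_mul_iff_left (by norm_num)).1 h1

end ax

end Cfsg.Agent.Lib.Helper5_SzSolI
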