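import Mathlib
import Cfsg.Agent.Lib.Helper5_SzSolI

/-!
# Solubilizers in Suzuki groups (helper5), part J: the solubilizer of a `2`-element
-/

set_option autoImplicit false

namespace Cfsg.Agent.Lib.Helper5_SzSolJ

open Subgroup Cfsg.Agent.Lib.Helper5_SzSolA Cfsg.Agent.Lib.Helper5_SzSolB
  Cfsg.Agent.Lib.Helper5_SzSolC Cfsg.Agent.Lib.Helper5_SzSolD Cfsg.Agent.Lib.Helper5_SzSolE
  Cfsg.Agent.Lib.Helper5_SzSolF Cfsg.Agent.Lib.Helper5_SzSolG Cfsg.Agent.Lib.Helper5_SzSolH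
  Cfsg.Agent.Lib.Helper5_SzSolI

variable {G : Type*} [Group G] {q r : ℕ}

/-- the normaliser as a set -/
def Nset (T : Subgroup G) : Set G := ((normalizer (T : Set G) : Subgroup G) : Set G)

/-- the part of the solubilizer coming from the cyclic subgroups of order `k` -/
def DD (k : ℕ) (x : G) (B : Set G) : Set G := ⋃ T : TT k x, (Nset (T : Subgroup G) \ B)

theorem mem_DD {k : ℕ} {x y : G} {B : Set G} :
    y ∈ DD k x B ↔ ∃ T : Subgroup G, T ∈ TT k x ∧ y ∈ normalizer (T : Set G) ∧ y ∉ B := by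
  unfold DD Nset
  rw [Set.mem_iUnion]
  constructor
  · rintro ⟨T, hy⟩
    exact ⟨T.1, T.2, hy.1, hy.2⟩
  · rintro ⟨T, hT, hy1, hy2⟩
    exact ⟨⟨T, hT⟩, hy1, hy2⟩

section ax

variable (h : Ax G q r)
include h

theorem sol_eq_union [Finite G] {x : G} (hox : orderOf x = 2 ∨ orderOf x = 4) {P : Sylow 2 G}
    (hxP : x ∈ P) :
    Sol x = ((Nset (P : Subgroup G) ∪ DD (q - 1) x (Nset (P : Subgroup G))) ∪
      DD (q + r + 1) x (Nset (P : Subgroup G))) ∪ DD (q - r + 1) x (Nset (P : Subgroup G)) := by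
  have hx1 := ne_one_of_two_or_four hox
  ext y
  rw [mem_sol_iff h]
  simp only [Set.mem_union, mem_DD]
  constructor
  · rintro ⟨U, hU, hxU, hyU⟩
    rcases hU with ⟨P', rfl⟩ | hU
    · obtain ⟨i, hi⟩ := two_pow_of_two_or_four hox
      have hxP' := two_elt_mem_sylow h hxU hi
      have := sylow_unique h hx1 hxP hxP'
      subst this
      exact Or.inl (Or.inl (Or.inl hyU))
    · by_cases hyB : y ∈ Nset (P : Subgroup G)
      · exact Or.inl (Or.inl (Or.inl hyB))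
      · obtain ⟨hUc, hk | hk | hk⟩ := hU
        · exact Or.inl (Or.inl (Or.inr ⟨U, ⟨hUc, hk, hxU⟩, hyU, hyB⟩))
        · exact Or.inl (Or.inr ⟨U, ⟨hUc, hk, hxU⟩, hyU, hyB⟩)
        · exact Or.inr ⟨U, ⟨hUc, hk, hxU⟩, hyU, hyB⟩
  · rintro (((hy | ⟨T, hT, hy, -⟩) | ⟨T, hT, hy, -⟩) | ⟨T, hT, hy, -⟩)
    · exact ⟨P, Or.inl ⟨P, rfl⟩, le_normalizer hxP, hy⟩
    · exact ⟨T, Or.inr ⟨hT.1, Or.inl hT.2.1⟩, hT.2.2, hy⟩
    · exact ⟨T, Or.inr ⟨hT.1, Or.inr (Or.inl hT.2.1)⟩, hT.2.2, hy⟩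
    · exact ⟨T, Or.inr ⟨hT.1, Or.inr (Or.inr hT.2.1)⟩, hT.2.2, hy⟩

theorem isCyc_of_mem_TT {k : ℕ} (hk : IsK q r k) {x : G} {T : Subgroup G} (hT : T ∈ TT k x) :
    IsCyc q r T := ⟨hT.1, by rw [hT.2.1]; exact hk⟩

/-- two distinct cyclic subgroups normalised by `x` contribute disjoint sets -/
theorem disjoint_pieces [Finite G] {x : G} (hox : orderOf x = 2 ∨ orderOf x = 4) {P : Sylow 2 G}
    (hxP : x ∈ P) {k k' : ℕ} (hk : IsK q r k) (hk' : IsK q r k') {T T' : Subgroup G}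
    (hT : T ∈ TT k x) (hT' : T' ∈ TT k' x) (hne : T ≠ T') :
    Disjoint (Nset T \ Nset (P : Subgroup G)) (Nset T' \ Nset (P : Subgroup G)) := by
  rw [Set.disjoint_left]
  rintro y ⟨hy1, hy2⟩ ⟨hy3, -⟩
  apply hy2
  have := mem_sylow_of_mem_two_normalizers h (isCyc_of_mem_TT h hk hT) (isCyc_of_mem_TT h hk' hT')
    hne (ne_one_of_two_or_four hox) hxP hT.2.2 hT'.2.2 hy1 hy3
  exact le_normalizer this

theorem disjoint_DD [Finite G] {x : G} (hox : orderOf x = 2 ∨ orderOf x = 4) {P : Sylow 2 G}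
    (hxP : x ∈ P) {k k' : ℕ} (hk : IsK q r k) (hk' : IsK q r k') (hne : k ≠ k') :
    Disjoint (DD k x (Nset (P : Subgroup G))) (DD k' x (Nset (P : Subgroup G))) := by
  unfold DD
  rw [Set.disjoint_iUnion_left]
  intro T
  rw [Set.disjoint_iUnion_right]
  intro T'
  apply disjoint_pieces h hox hxP hk hk' T.2 T'.2
  intro hTT
  apply hne
  rw [← T.2.2.1, ← T'.2.2.1, hTT]

theorem disjoint_B_DD {x : G} {B : Set G} {k : ℕ} : Disjoint B (DD k x B) := by
  rw [Set.disjoint_left]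
  intro y hy hy'
  rw [mem_DD] at hy'
  obtain ⟨T, -, -, hyB⟩ := hy'
  exact hyB hy

omit h in
theorem ncard_piece [Finite G] (T : Subgroup G) (P : Subgroup G) :
    (Nset T \ Nset P).ncard = Nat.card (normalizer (T : Set G)) -
      Nat.card (normalizer (T : Set G) ⊓ normalizer (P : Set G) : Subgroup G) := by
  unfold Nset
  rw [← Set.diff_self_inter, Set.ncard_diff Set.inter_subset_left, ← Subgroup.coe_inf,
    ← Nat.card_coe_set_eq, ← Nat.card_coe_set_eq]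
  rfl

theorem ncard_DD [Finite G] {x : G} (hox : orderOf x = 2 ∨ orderOf x = 4) {P : Sylow 2 G}
    (hxP : x ∈ P) {k : ℕ} (hk : IsK q r k) (c : ℕ)
    (hc : ∀ T : Subgroup G, T ∈ TT k x → Nat.card (normalizer (T : Set G)) -
      Nat.card (normalizer (T : Set G) ⊓ normalizer ((P : Subgroup G) : Set G) : Subgroup G) = c) :
    (DD k x (Nset (P : Subgroup G))).ncard = Nat.card (TT k x) * c := by
  unfold DD
  apply card_iUnion_const
  · intro T T' hne
    apply disjoint_pieces h hox hxP hk hk T.2 T'.2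
    intro hTT
    exact hne (Subtype.ext hTT)
  · intro T
    rw [ncard_piece]
    exact hc T.1 T.2

end ax

end Cfsg.Agent.Lib.Helper5_SzSolJ
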