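import Mathlib
import Cfsg.Agent.Lib.Helper5_SzSolJ

/-!
# Solubilizers in Suzuki groups (helper5), part K: the counts for `2`-elements
-/

set_option autoImplicit false

namespace Cfsg.Agent.Lib.Helper5_SzSolK

open Subgroup Cfsg.Agent.Lib.Helper5_SzSolA Cfsg.Agent.Lib.Helper5_SzSolB
  Cfsg.Agent.Lib.Helper5_SzSolC Cfsg.Agent.Lib.Helper5_SzSolD Cfsg.Agent.Lib.Helper5_SzSolE
  Cfsg.Agent.Lib.Helper5_SzSolF Cfsg.Agent.Lib.Helper5_SzSolG Cfsg.Agent.Lib.Helper5_SzSolH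
  Cfsg.Agent.Lib.Helper5_SzSolI Cfsg.Agent.Lib.Helper5_SzSolJ

variable {G : Type*} [Group G] {q r : ℕ}

theorem isK0 : IsK q r (q - 1) := Or.inl rfl
theorem isK1 : IsK q r (q + r + 1) := Or.inr (Or.inl rfl)
theorem isK2 : IsK q r (q - r + 1) := Or.inr (Or.inr rfl)

section ax

variable (h : Ax G q r)
include h

theorem ncard_union4 [Finite G] {x : G} (hox : orderOf x = 2 ∨ orderOf x = 4) {P : Sylow 2 G}
    (hxP : x ∈ P) :
    (((Nset (P : Subgroup G) ∪ DD (q - 1) x (Nset (P : Subgroup G))) ∪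
      DD (q + r + 1) x (Nset (P : Subgroup G))) ∪ DD (q - r + 1) x (Nset (P : Subgroup G))).ncard =
    (q - 1) * q ^ 2 + (DD (q - 1) x (Nset (P : Subgroup G))).ncard +
      (DD (q + r + 1) x (Nset (P : Subgroup G))).ncard +
      (DD (q - r + 1) x (Nset (P : Subgroup G))).ncard := by
  have h1 := h.ar.q_ge
  have h2 := h.ar.two_r_le
  have h3 := h.ar.r_ge
  have d01 : q - 1 ≠ q + r + 1 := by omega
  have d02 : q - 1 ≠ q - r + 1 := by omega
  have d12 : q + r + 1 ≠ q - r + 1 := by omega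
  have cB : (Nset (P : Subgroup G)).ncard = (q - 1) * q ^ 2 := by
    unfold Nset
    rw [← Nat.card_coe_set_eq]
    exact h.card_norm_syl P
  rw [Set.ncard_union_eq, Set.ncard_union_eq, Set.ncard_union_eq, cB]
  · exact disjoint_B_DD h
  · rw [Set.disjoint_union_left]
    exact ⟨disjoint_B_DD h, disjoint_DD h hox hxP isK0 isK1 d01⟩
  · rw [Set.disjoint_union_left, Set.disjoint_union_left]
    exact ⟨⟨disjoint_B_DD h, disjoint_DD h hox hxP isK0 isK2 d02⟩,
      disjoint_DD h hox hxP isK1 isK2 d12⟩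

/-- the solubilizer of an involution -/
theorem card_sol_two [Finite G] {x : G} (hox : orderOf x = 2) :
    Nat.card (Sol x) = q ^ 2 * (4 * q - 3) := by
  obtain ⟨P, hxP⟩ := exists_sylow_mem h (Or.inl hox)
  rw [Nat.card_coe_set_eq, sol_eq_union h (Or.inl hox) hxP, ncard_union4 h (Or.inl hox) hxP]
  have h1 := h.ar.q_ge
  have h2 := h.ar.two_r_le
  have h3 := h.ar.r_ge
  rw [ncard_DD h (Or.inl hox) hxP isK0 (2 * (q - 2)) (by
      intro T hT
      rw [h.card_norm_cyc0 T hT.1 hT.2.1, card_inf_normalizer_zero h hT.1 hT.2.1 hox hxP hT.2.2,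
        hT.2.1]
      omega),
    ncard_DD h (Or.inl hox) hxP isK1 (4 * (q + r)) (by
      intro T hT
      rw [h.card_norm_cyc1 T hT.1 (Or.inl hT.2.1),
        card_inf_normalizer_pm h hT.1 (Or.inl hT.2.1) (Or.inl hox) hxP hT.2.2, hT.2.1]
      omega),
    ncard_DD h (Or.inl hox) hxP isK2 (4 * (q - r)) (by
      intro T hT
      rw [h.card_norm_cyc1 T hT.1 (Or.inr hT.2.1),
        card_inf_normalizer_pm h hT.1 (Or.inr hT.2.1) (Or.inl hox) hxP hT.2.2, hT.2.1]
      omega)]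
  have n0 := card_TT_zero_two h hox
  have n1 := card_TT_pm_two h (k := q + r + 1) (Or.inl rfl) hox
  have n2 := card_TT_pm_two h (k := q - r + 1) (Or.inr rfl) hox
  have e0 : Nat.card (TT (q - 1) x) * (2 * (q - 2)) = q ^ 2 * (q - 2) := by
    rw [← mul_assoc, n0]
  have e1 : Nat.card (TT (q + r + 1) x) * (4 * (q + r)) = q ^ 2 * (q + r) := by
    rw [← mul_assoc, n1]
  have e2 : Nat.card (TT (q - r + 1) x) * (4 * (q - r)) = q ^ 2 * (q - r) := by
    rw [← mul_assoc, n2]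
  rw [e0, e1, e2]
  obtain ⟨j, rfl⟩ : ∃ j, q = r + j := ⟨q - r, by omega⟩
  obtain ⟨r', rfl⟩ : ∃ r', r = r' + 4 := ⟨r - 4, by omega⟩
  have a1 : r' + 4 + j - 1 = r' + 3 + j := by omega
  have a2 : r' + 4 + j - 2 = r' + 2 + j := by omega
  have a3 : r' + 4 + j - (r' + 4) = j := by omega
  have a4 : 4 * (r' + 4 + j) - 3 = 4 * r' + 13 + 4 * j := by omega
  rw [a1, a2, a3, a4]
  ring

/-- the solubilizer of an element of order `4` -/
theorem card_sol_four [Finite G] {x : G} (hox : orderOf x = 4) :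
    Nat.card (Sol x) = q ^ 2 * (q + 3) := by
  obtain ⟨P, hxP⟩ := exists_sylow_mem h (Or.inr hox)
  rw [Nat.card_coe_set_eq, sol_eq_union h (Or.inr hox) hxP, ncard_union4 h (Or.inr hox) hxP]
  have h1 := h.ar.q_ge
  have h2 := h.ar.two_r_le
  have h3 := h.ar.r_ge
  have hD0 : DD (q - 1) x (Nset (P : Subgroup G)) = ∅ := by
    rw [Set.eq_empty_iff_forall_notMem]
    intro y hy
    rw [mem_DD] at hy
    obtain ⟨T, hT, -, -⟩ := hy
    rw [TT_zero_four_empty h hox] at hT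
    exact hT
  rw [hD0, Set.ncard_empty,
    ncard_DD h (Or.inr hox) hxP isK1 (4 * (q + r)) (by
      intro T hT
      rw [h.card_norm_cyc1 T hT.1 (Or.inl hT.2.1),
        card_inf_normalizer_pm h hT.1 (Or.inl hT.2.1) (Or.inr hox) hxP hT.2.2, hT.2.1]
      omega),
    ncard_DD h (Or.inr hox) hxP isK2 (4 * (q - r)) (by
      intro T hT
      rw [h.card_norm_cyc1 T hT.1 (Or.inr hT.2.1),
        card_inf_normalizer_pm h hT.1 (Or.inr hT.2.1) (Or.inr hox) hxP hT.2.2, hT.2.1]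
      omega)]
  have n1 := card_TT_pm_four h (k := q + r + 1) (Or.inl rfl) hox
  have n2 := card_TT_pm_four h (k := q - r + 1) (Or.inr rfl) hox
  have e1 : Nat.card (TT (q + r + 1) x) * (4 * (q + r)) = 2 * q * (q + r) := by
    rw [← mul_assoc, n1]
  have e2 : Nat.card (TT (q - r + 1) x) * (4 * (q - r)) = 2 * q * (q - r) := by
    rw [← mul_assoc, n2]
  rw [e1, e2]
  obtain ⟨j, rfl⟩ : ∃ j, q = r + j := ⟨q - r, by omega⟩
  obtain ⟨r', rfl⟩ : ∃ r', r = r' + 4 := ⟨r - 4, by omega⟩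
  have a1 : r' + 4 + j - 1 = r' + 3 + j := by omega
  have a3 : r' + 4 + j - (r' + 4) = j := by omega
  rw [a1, a3]
  ring

end ax

end Cfsg.Agent.Lib.Helper5_SzSolK
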