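import Mathlib
import Cfsg.Prelude.Def_Solvable
import Cfsg.Prelude.Def_CaseTheorems
import Cfsg.Agent.Lib.Helper84_TutteDefs
import Cfsg.Agent.Lib.Helper84_TutteAPI

/-!
# S4385 package ID-5a (helper84's market `tutte_packages`): `s = 5`, `lam = 3` ⟹ `[x_0, x_3] = x_1 x_2`
(paper (3.4), first half).
-/

set_option autoImplicit false
set_option linter.unusedSimpArgs false
set_option linter.unusedVariables false

open scoped commutatorElement
open Cfsg.Agent.Lib.Helper84_TutteDefs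

namespace Cfsg.Agent.Lib.Helper5_Tutte_ID5a

variable {G : Type*} [Group G] {H : Subgroup G} {g x0 : G} {s lam : ℕ}

/-- `gcd (4, n) = 1` for odd `n`, on centralisers -/
theorem commute_of_pow_four_of_odd (u w : G) (n : ℕ) (hodd : Odd n)
    (h4 : Commute (u ^ 4) w) (hn : Commute (u ^ n) w) : Commute u w := by
  obtain ⟨k, rfl⟩ := hodd
  have e2 : u ^ 2 = (u ^ (2 * k + 1)) ^ 2 * ((u ^ 4) ^ k)⁻¹ := by
    rw [← pow_mul, ← pow_mul]
    have : (2 * k + 1) * 2 = 2 + 4 * k := by ring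
    rw [this, pow_add, mul_inv_cancel_right]
  have h2 : Commute (u ^ 2) w := by
    rw [e2]
    exact (hn.pow_left 2).mul_left ((h4.pow_left k).inv_left)
  have e1 : u = u ^ (2 * k + 1) * ((u ^ 2) ^ k)⁻¹ := by
    rw [← pow_mul, pow_succ', mul_assoc, mul_inv_cancel, mul_one]
  rw [e1]
  exact hn.mul_left ((h2.pow_left k).inv_left)

/-- case `c = x_2`: the action of `u = x_0 x_4` on `x_1` -/
theorem coreX2 (a0 a1 a2 a3 a4 : G)
    (s0 : a0 * a0 = 1) (s1 : a1 * a1 = 1) (s2 : a2 * a2 = 1) (s3 : a3 * a3 = 1) (s4 : a4 * a4 = 1)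
    (c01 : a0 * a1 = a1 * a0) (c02 : a0 * a2 = a2 * a0) (c12 : a2 * a1 = a1 * a2)
    (c13 : a3 * a1 = a1 * a3) (c23 : a3 * a2 = a2 * a3) (c24 : a4 * a2 = a2 * a4)
    (c34 : a4 * a3 = a3 * a4)
    (r03 : a0 * a3 = a2 * a3 * a0) (r41 : a4 * a1 = a1 * a3 * a4) :
    (a0 * a4) * a1 * (a0 * a4)⁻¹ = a1 * a2 * a3 ∧
    (a0 * a4) * (a1 * a2 * a3) * (a0 * a4)⁻¹ = a1 * a2 ∧
    (a0 * a4) * (a1 * a2) * (a0 * a4)⁻¹ = a1 * a3 ∧
    (a0 * a4) * (a1 * a3) * (a0 * a4)⁻¹ = a1 := by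
  have i0 : a0⁻¹ = a0 := inv_eq_of_mul_eq_one_right s0
  have i4 : a4⁻¹ = a4 := inv_eq_of_mul_eq_one_right s4
  have s0' : ∀ b, a0 * (a0 * b) = b := fun b => by rw [← mul_assoc, s0, one_mul]
  have s1' : ∀ b, a1 * (a1 * b) = b := fun b => by rw [← mul_assoc, s1, one_mul]
  have s2' : ∀ b, a2 * (a2 * b) = b := fun b => by rw [← mul_assoc, s2, one_mul]
  have s3' : ∀ b, a3 * (a3 * b) = b := fun b => by rw [← mul_assoc, s3, one_mul]
  have s4' : ∀ b, a4 * (a4 * b) = b := fun b => by rw [← mul_assoc, s4, one_mul]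
  have c01' : ∀ b, a0 * (a1 * b) = a1 * (a0 * b) := fun b => by rw [← mul_assoc, c01, mul_assoc]
  have c02' : ∀ b, a0 * (a2 * b) = a2 * (a0 * b) := fun b => by rw [← mul_assoc, c02, mul_assoc]
  have c12' : ∀ b, a2 * (a1 * b) = a1 * (a2 * b) := fun b => by rw [← mul_assoc, c12, mul_assoc]
  have c13' : ∀ b, a3 * (a1 * b) = a1 * (a3 * b) := fun b => by rw [← mul_assoc, c13, mul_assoc]
  have c23' : ∀ b, a3 * (a2 * b) = a2 * (a3 * b) := fun b => by rw [← mul_assoc, c23, mul_assoc]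
  have c24' : ∀ b, a4 * (a2 * b) = a2 * (a4 * b) := fun b => by rw [← mul_assoc, c24, mul_assoc]
  have c34' : ∀ b, a4 * (a3 * b) = a3 * (a4 * b) := fun b => by rw [← mul_assoc, c34, mul_assoc]
  have r03' : ∀ b, a0 * (a3 * b) = a2 * (a3 * (a0 * b)) := fun b => by
    rw [← mul_assoc, r03]; simp only [mul_assoc]
  have r41' : ∀ b, a4 * (a1 * b) = a1 * (a3 * (a4 * b)) := fun b => by
    rw [← mul_assoc, r41]; simp only [mul_assoc]
  have r03'' : a0 * a3 = a2 * (a3 * a0) := by rw [r03, mul_assoc]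
  have r41'' : a4 * a1 = a1 * (a3 * a4) := by rw [r41, mul_assoc]
  refine ⟨?_, ?_, ?_, ?_⟩ <;>
  · rw [mul_inv_rev, i0, i4]
    simp only [mul_assoc, s0, s1, s2, s3, s4, s0', s1', s2', s3', s4', c01, c02, c12, c13, c23, c24, c34,
      c01', c02', c12', c13', c23', c24', c34', r03', r41', r03'', r41'', mul_one, one_mul]

/-- case `c = x_1`: the action of `u = x_0 x_4` on `x_3` -/
theorem coreX1 (a0 a1 a2 a3 a4 : G)
    (s0 : a0 * a0 = 1) (s1 : a1 * a1 = 1) (s2 : a2 * a2 = 1) (s3 : a3 * a3 = 1) (s4 : a4 * a4 = 1)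
    (c01 : a0 * a1 = a1 * a0) (c02 : a0 * a2 = a2 * a0) (c12 : a2 * a1 = a1 * a2)
    (c13 : a3 * a1 = a1 * a3) (c23 : a3 * a2 = a2 * a3) (c24 : a4 * a2 = a2 * a4)
    (c34 : a4 * a3 = a3 * a4)
    (r03 : a0 * a3 = a1 * a3 * a0) (r41 : a4 * a1 = a1 * a2 * a4) :
    (a0 * a4) * a3 * (a0 * a4)⁻¹ = a1 * a3 ∧
    (a0 * a4) * (a1 * a3) * (a0 * a4)⁻¹ = a2 * a3 ∧
    (a0 * a4) * (a2 * a3) * (a0 * a4)⁻¹ = a1 * a2 * a3 ∧
    (a0 * a4) * (a1 * a2 * a3) * (a0 * a4)⁻¹ = a3 := by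
  have i0 : a0⁻¹ = a0 := inv_eq_of_mul_eq_one_right s0
  have i4 : a4⁻¹ = a4 := inv_eq_of_mul_eq_one_right s4
  have s0' : ∀ b, a0 * (a0 * b) = b := fun b => by rw [← mul_assoc, s0, one_mul]
  have s1' : ∀ b, a1 * (a1 * b) = b := fun b => by rw [← mul_assoc, s1, one_mul]
  have s2' : ∀ b, a2 * (a2 * b) = b := fun b => by rw [← mul_assoc, s2, one_mul]
  have s3' : ∀ b, a3 * (a3 * b) = b := fun b => by rw [← mul_assoc, s3, one_mul]
  have s4' : ∀ b, a4 * (a4 * b) = b := fun b => by rw [← mul_assoc, s4, one_mul]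
  have c01' : ∀ b, a0 * (a1 * b) = a1 * (a0 * b) := fun b => by rw [← mul_assoc, c01, mul_assoc]
  have c02' : ∀ b, a0 * (a2 * b) = a2 * (a0 * b) := fun b => by rw [← mul_assoc, c02, mul_assoc]
  have c12' : ∀ b, a2 * (a1 * b) = a1 * (a2 * b) := fun b => by rw [← mul_assoc, c12, mul_assoc]
  have c13' : ∀ b, a3 * (a1 * b) = a1 * (a3 * b) := fun b => by rw [← mul_assoc, c13, mul_assoc]
  have c23' : ∀ b, a3 * (a2 * b) = a2 * (a3 * b) := fun b => by rw [← mul_assoc, c23, mul_assoc]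
  have c24' : ∀ b, a4 * (a2 * b) = a2 * (a4 * b) := fun b => by rw [← mul_assoc, c24, mul_assoc]
  have c34' : ∀ b, a4 * (a3 * b) = a3 * (a4 * b) := fun b => by rw [← mul_assoc, c34, mul_assoc]
  have r03' : ∀ b, a0 * (a3 * b) = a1 * (a3 * (a0 * b)) := fun b => by
    rw [← mul_assoc, r03]; simp only [mul_assoc]
  have r41' : ∀ b, a4 * (a1 * b) = a1 * (a2 * (a4 * b)) := fun b => by
    rw [← mul_assoc, r41]; simp only [mul_assoc]
  have r03'' : a0 * a3 = a1 * (a3 * a0) := by rw [r03, mul_assoc]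
  have r41'' : a4 * a1 = a1 * (a2 * a4) := by rw [r41, mul_assoc]
  refine ⟨?_, ?_, ?_, ?_⟩ <;>
  · rw [mul_inv_rev, i0, i4]
    simp only [mul_assoc, s0, s1, s2, s3, s4, s0', s1', s2', s3', s4', c01, c02, c12, c13, c23, c24, c34,
      c01', c02', c12', c13', c23', c24', c34', r03', r41', r03'', r41'', mul_one, one_mul]

theorem conj_pow_succ (u w : G) (k : ℕ) :
    u ^ (k + 1) * w * (u ^ (k + 1))⁻¹ = u * (u ^ k * w * (u ^ k)⁻¹) * u⁻¹ := by
  rw [pow_succ']
  simp only [mul_inv_rev, mul_assoc]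

/-- four conjugation steps returning to `w` give `u ^ 4` commuting with `w` -/
theorem commute_pow_four (u w w1 w2 w3 : G) (h1 : u * w * u⁻¹ = w1) (h2 : u * w1 * u⁻¹ = w2)
    (h3 : u * w2 * u⁻¹ = w3) (h4 : u * w3 * u⁻¹ = w) : Commute (u ^ 4) w := by
  have e : u ^ (0 + 1 + 1 + 1 + 1) * w * (u ^ (0 + 1 + 1 + 1 + 1))⁻¹ = w := by
    rw [conj_pow_succ, conj_pow_succ, conj_pow_succ, conj_pow_succ, pow_zero, one_mul, inv_one, mul_one,
      h1, h2, h3, h4]
  have e' : u ^ 4 * w * (u ^ 4)⁻¹ = w := e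
  show u ^ 4 * w = w * u ^ 4
  calc u ^ 4 * w = (u ^ 4 * w * (u ^ 4)⁻¹) * u ^ 4 := by
        rw [inv_mul_cancel_right]
    _ = w * u ^ 4 := by rw [e']

/-- ID-5a (M/L), paper (3.4) first half: `c = [x_0,x_3] = x_1 x_2`. -/
theorem comm_five [Finite G] (h : TSys H g x0 5) (hl : IsLam g x0 3) (n : ℕ) (hodd : Odd n)
    (M : Subgroup G) (hKM : XX g x0 1 3 ≤ M) (hMH : M ≤ H) (hM2 : M.relIndex H = 2)
    (hMn : (XX g x0 1 3).relIndex M = n) (hKn : ∀ u ∈ H, cj u (XX g x0 1 3) = XX g x0 1 3) :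
    ⁅xs g x0 0, xs g x0 3⁆ = xs g x0 1 * xs g x0 2 := by
  -- the basic relations
  have s0 := h.xs_sq 0
  have s1 := h.xs_sq 1
  have s2 := h.xs_sq 2
  have s3 := h.xs_sq 3
  have s4 := h.xs_sq 4
  have c01 : xs g x0 0 * xs g x0 1 = xs g x0 1 * xs g x0 0 := hl.commute (by norm_num)
  have c02 : xs g x0 0 * xs g x0 2 = xs g x0 2 * xs g x0 0 := hl.commute (by norm_num)
  have c12 : xs g x0 2 * xs g x0 1 = xs g x0 1 * xs g x0 2 := hl.commute (by norm_num)
  have c13 : xs g x0 3 * xs g x0 1 = xs g x0 1 * xs g x0 3 := hl.commute (by norm_num)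
  have c23 : xs g x0 3 * xs g x0 2 = xs g x0 2 * xs g x0 3 := hl.commute (by norm_num)
  have c24 : xs g x0 4 * xs g x0 2 = xs g x0 2 * xs g x0 4 := hl.commute (by norm_num)
  have c34 : xs g x0 4 * xs g x0 3 = xs g x0 3 * xs g x0 4 := hl.commute (by norm_num)
  have i1 : (xs g x0 1)⁻¹ = xs g x0 1 := h.xs_inv 1
  have i2 : (xs g x0 2)⁻¹ = xs g x0 2 := h.xs_inv 2
  have htop : XX g x0 0 4 = H := by
    have := h.top
    norm_num at this
    exact this
  have h0H : xs g x0 0 ∈ H := by rw [← htop]; exact xs_mem_XX (by norm_num) (by norm_num)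
  have h4H : xs g x0 4 ∈ H := by rw [← htop]; exact xs_mem_XX (by norm_num) (by norm_num)
  have h1K : xs g x0 1 ∈ XX g x0 1 3 := xs_mem_XX (by norm_num) (by norm_num)
  have h3K : xs g x0 3 ∈ XX g x0 1 3 := xs_mem_XX (by norm_num) (by norm_num)
  have hKab : ∀ y z, y ∈ XX g x0 1 3 → z ∈ XX g x0 1 3 → y * z = z * y := by
    intro y z hy hz
    refine XX_comm ?_ hy hz
    intro l m hl1 hl2 hm1 hm2
    apply hl.commute
    rw [abs_lt]
    constructor <;> omega
  have h0K : xs g x0 0 ∉ XX g x0 1 3 := by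
    have := h.xs_notMem_left (i := 0) (j := 3) (by norm_num) (by norm_num)
    norm_num at this
    exact this
  have h4K : xs g x0 4 ∉ XX g x0 1 3 := by
    have := h.xs_notMem_right (i := 1) (j := 4) (by norm_num) (by norm_num)
    norm_num at this
    exact this
  -- `M / K` has order `n`
  have hnorm : ((XX g x0 1 3).subgroupOf M).Normal := by
    constructor
    intro k hk m
    rw [Subgroup.mem_subgroupOf] at hk ⊢
    have h1 := conj_mem_cj (u := (m : G)) hk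
    rw [hKn _ (hMH m.2)] at h1
    exact h1
  have hpow : ∀ m ∈ M, m ^ n ∈ XX g x0 1 3 := by
    intro m hm
    have h1 := Subgroup.pow_index_mem ((XX g x0 1 3).subgroupOf M) (⟨m, hm⟩ : ↥M)
    rw [Subgroup.mem_subgroupOf] at h1
    have h2 : ((XX g x0 1 3).subgroupOf M).index = n := hMn
    rw [h2] at h1
    exact h1
  -- involutions outside `K` are outside `M`
  have hinvol : ∀ a : G, a * a = 1 → a ∉ XX g x0 1 3 → a ∉ M := by
    intro a ha haK haM
    apply haK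
    have h1 := hpow a haM
    obtain ⟨k, rfl⟩ := hodd
    have e : a ^ (2 * k + 1) = a := by
      rw [pow_succ, pow_mul, pow_two, ha, one_pow, one_mul]
    rw [e] at h1
    exact h1
  have h0M := hinvol _ s0 h0K
  have h4M := hinvol _ s4 h4K
  have huM : xs g x0 0 * xs g x0 4 ∈ M := by
    have h2 : (M.subgroupOf H).index = 2 := hM2
    have h3 := Subgroup.mul_mem_iff_of_index_two h2 (a := (⟨_, h0H⟩ : ↥H)) (b := (⟨_, h4H⟩ : ↥H))
    rw [Subgroup.mem_subgroupOf, Subgroup.mem_subgroupOf, Subgroup.mem_subgroupOf] at h3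
    exact h3.2 ⟨fun hh => absurd hh h0M, fun hh => absurd hh h4M⟩
  have hunK := hpow _ huM
  -- the key: `u` commutes with every `w ∈ K` that returns after four steps
  have key : ∀ w w1 w2 w3 : G, w ∈ XX g x0 1 3 →
      (xs g x0 0 * xs g x0 4) * w * (xs g x0 0 * xs g x0 4)⁻¹ = w1 →
      (xs g x0 0 * xs g x0 4) * w1 * (xs g x0 0 * xs g x0 4)⁻¹ = w2 →
      (xs g x0 0 * xs g x0 4) * w2 * (xs g x0 0 * xs g x0 4)⁻¹ = w3 →
      (xs g x0 0 * xs g x0 4) * w3 * (xs g x0 0 * xs g x0 4)⁻¹ = w → w1 = w := by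
    intro w w1 w2 w3 hw e1 e2 e3 e4
    have hc4 := commute_pow_four _ w w1 w2 w3 e1 e2 e3 e4
    have hcn : Commute ((xs g x0 0 * xs g x0 4) ^ n) w := hKab _ _ hunK hw
    have hc := commute_of_pow_four_of_odd _ w n hodd hc4 hcn
    rw [← e1, hc.eq, mul_inv_cancel_right]
  -- the commutator and its shift
  have hc : ⁅xs g x0 0, xs g x0 3⁆ ∈ XX g x0 1 2 := by
    have := h.comm_mem (i := 0) (j := 3) (by norm_num) (by norm_num)
    norm_num at this
    exact this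
  have hshift : ⁅xs g x0 1, xs g x0 4⁆ = g⁻¹ * ⁅xs g x0 0, xs g x0 3⁆ * g := by
    have := comm_shift g x0 0 3 1
    norm_num at this
    exact this
  have hr03 : ∀ c : G, ⁅xs g x0 0, xs g x0 3⁆ = c → xs g x0 0 * xs g x0 3 = c * xs g x0 3 * xs g x0 0 := by
    intro c hc0
    rw [← hc0, commutatorElement_def]
    group
  have hr41 : ∀ c : G, ⁅xs g x0 1, xs g x0 4⁆ = c →
      xs g x0 4 * xs g x0 1 = xs g x0 1 * c * xs g x0 4 := by
    intro c hc0
    have e : xs g x0 4 * xs g x0 1 = (xs g x0 1)⁻¹ * ⁅xs g x0 1, xs g x0 4⁆ * xs g x0 4 *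
        (xs g x0 1 * xs g x0 1) := by
      rw [commutatorElement_def]
      group
    rw [e, hc0, s1, i1, mul_one]
  -- the four cases for `c ∈ ⟨x_1, x_2⟩`
  have hbot : XX g x0 1 0 = ⊥ := XX_eq_bot (by norm_num)
  rcases h.mem_or_mul_mem_right (i := 1) (j := 2) (by norm_num) (by norm_num) hc with hA | hA
  · norm_num at hA
    rcases h.mem_or_mul_mem_right (i := 1) (j := 1) (by norm_num) (by norm_num) hA with hB | hB
    · norm_num at hB
      rw [hbot, Subgroup.mem_bot] at hB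
      exact absurd hB hl.ne
    · norm_num at hB
      rw [hbot, Subgroup.mem_bot] at hB
      -- `c = x_1`
      exfalso
      have hc1 : ⁅xs g x0 0, xs g x0 3⁆ = xs g x0 1 := by
        rw [← i1]
        exact eq_inv_of_mul_eq_one_left hB
      have hc1' : ⁅xs g x0 1, xs g x0 4⁆ = xs g x0 2 := by
        rw [hshift, hc1, xs_conj']
        norm_num
      obtain ⟨e1, e2, e3, e4⟩ := coreX1 _ _ _ _ _ s0 s1 s2 s3 s4 c01 c02 c12 c13 c23 c24 c34
        (hr03 _ hc1) (hr41 _ hc1')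
      have := key _ _ _ _ h3K e1 e2 e3 e4
      -- `x_1 x_3 = x_3`
      have h1 : xs g x0 1 = 1 := mul_right_cancel (b := xs g x0 3) (by rw [this, one_mul])
      exact h.xs_ne_one 1 h1
  · norm_num at hA
    rcases h.mem_or_mul_mem_right (i := 1) (j := 1) (by norm_num) (by norm_num) hA with hB | hB
    · norm_num at hB
      rw [hbot, Subgroup.mem_bot] at hB
      -- `c = x_2`
      exfalso
      have hc2 : ⁅xs g x0 0, xs g x0 3⁆ = xs g x0 2 := by
        rw [← i2]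
        exact eq_inv_of_mul_eq_one_left hB
      have hc2' : ⁅xs g x0 1, xs g x0 4⁆ = xs g x0 3 := by
        rw [hshift, hc2, xs_conj']
        norm_num
      obtain ⟨e1, e2, e3, e4⟩ := coreX2 _ _ _ _ _ s0 s1 s2 s3 s4 c01 c02 c12 c13 c23 c24 c34
        (hr03 _ hc2) (hr41 _ hc2')
      have := key _ _ _ _ h1K e1 e2 e3 e4
      -- `x_1 x_2 x_3 = x_1`
      have h1 : xs g x0 2 * xs g x0 3 = 1 := by
        apply mul_left_cancel (a := xs g x0 1)
        rw [← mul_assoc, this, mul_one]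
      have h2 : xs g x0 3 = xs g x0 2 := by
        rw [← i2]
        exact eq_inv_of_mul_eq_one_right h1
      have h3 := h.xs_notMem_right (i := 1) (j := 3) (by norm_num) (by norm_num)
      norm_num at h3
      apply h3
      rw [h2]
      exact xs_mem_XX (by norm_num) (by norm_num)
    · norm_num at hB
      rw [hbot, Subgroup.mem_bot] at hB
      -- `c x_2 x_1 = 1`
      have e : ⁅xs g x0 0, xs g x0 3⁆ = (xs g x0 2 * xs g x0 1)⁻¹ := by
        apply eq_inv_of_mul_eq_one_left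
        rw [← mul_assoc]
        exact hB
      rw [e, mul_inv_rev, i1, i2]

end Cfsg.Agent.Lib.Helper5_Tutte_ID5a
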