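import Mathlib

/-!
# Two-generation of groups generated by "root subgroups": the datum-free part (helper5, for S2405)

`x : ℕ → F → Γ` is a family of additive one-parameter subgroups of a group `Γ`
(`x r t * x r u = x r (t + u)`).  For a subgroup `K` of `Γ`, `Full x K r` says that the whole
root subgroup `x r` lies in `K`.

* `full_of_torus`, `full_of_conj`, `full_of_comm` : the three ways to show `Full`.
* `schemeT_core` : Steinberg's trick.  If `K` contains `h * x r₂ 1` (a commuting product) and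
  `x r₁ 1 * n`, where `h` acts on the root subgroups `r₁`, `s₁` by scalars `c₁`, `c₁'`, `n` carries
  the root subgroup `s₁` to `r₁`, and `c₁` generates the multiplicative group of the finite field
  `F`, then `K` contains `h`, `x r₂ 1`, `n` and the whole root subgroup `r₁`.
-/

set_option autoImplicit false

namespace Cfsg.Agent.Lib.Helper5_TwoGenAbs

variable {Γ : Type*} [Group Γ] {F : Type*} [Field F]

/-- the whole root subgroup `x r` lies in `K` -/
def Full (x : ℕ → F → Γ) (K : Subgroup Γ) (r : ℕ) : Prop := ∀ t : F, x r t ∈ K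

section basic

variable {x : ℕ → F → Γ} (hadd : ∀ r t u, x r t * x r u = x r (t + u))
include hadd

theorem x_zero (r : ℕ) : x r 0 = 1 := by
  have h := hadd r 0 0
  rw [add_zero] at h
  exact mul_left_cancel (a := x r 0) (by rw [h, mul_one])

theorem x_inv (r : ℕ) (t : F) : (x r t)⁻¹ = x r (-t) := by
  rw [inv_eq_iff_mul_eq_one, hadd, add_neg_cancel, x_zero hadd]

theorem x_pow (r : ℕ) (t : F) (k : ℕ) : (x r t) ^ k = x r ((k : F) * t) := by
  induction k with
  | zero => rw [pow_zero, Nat.cast_zero, zero_mul, x_zero hadd]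
  | succ k ih => rw [pow_succ, ih, hadd, Nat.cast_succ, add_mul, one_mul]

omit hadd in
/-- conjugation by a power -/
theorem conj_pow {h : Γ} {r : ℕ} {c : F} (hconj : ∀ t, h * x r t * h⁻¹ = x r (c * t)) (j : ℕ) (t : F) :
    h ^ j * x r t * (h ^ j)⁻¹ = x r (c ^ j * t) := by
  induction j generalizing t with
  | zero => simp
  | succ j ih =>
    rw [pow_succ', mul_inv_rev]
    have : h * h ^ j * x r t * ((h ^ j)⁻¹ * h⁻¹) = h * (h ^ j * x r t * (h ^ j)⁻¹) * h⁻¹ := by group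
    rw [this, ih, hconj, pow_succ', mul_assoc]

/-- a torus element acting through a generator of `Fˣ` spreads one nontrivial element over the
whole root subgroup -/
theorem full_of_torus {K : Subgroup Γ} {h : Γ} (hh : h ∈ K) {r : ℕ} {c : F}
    (hconj : ∀ t, h * x r t * h⁻¹ = x r (c * t))
    (hgen : ∀ t : F, t ≠ 0 → ∃ j : ℕ, t = c ^ j) {d : F} (hd : d ≠ 0) (hdK : x r d ∈ K) :
    Full x K r := by
  intro t
  by_cases ht : t = 0
  · rw [ht, x_zero hadd]; exact K.one_mem
  · obtain ⟨j, hj⟩ := hgen (t / d) (div_ne_zero ht hd)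
    have e : t = c ^ j * d := by rw [← hj, div_mul_cancel₀ _ hd]
    rw [e, ← conj_pow hconj j d]
    exact K.mul_mem (K.mul_mem (K.pow_mem hh j) hdK) (K.inv_mem (K.pow_mem hh j))

omit hadd in
/-- transport of a full root subgroup by conjugation -/
theorem full_of_conj {K : Subgroup Γ} {g : Γ} (hg : g ∈ K) {r r' : ℕ} {e : F} (he : e ≠ 0)
    (hconj : ∀ t, g * x r t * g⁻¹ = x r' (e * t)) (hr : Full x K r) : Full x K r' := by
  intro t
  have : x r' t = g * x r (t / e) * g⁻¹ := by rw [hconj, mul_div_cancel₀ _ he]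
  rw [this]
  exact K.mul_mem (K.mul_mem hg (hr _)) (K.inv_mem hg)

omit hadd in
/-- a single-term commutator relation with invertible coefficient -/
theorem full_of_comm {K : Subgroup Γ} {r s k : ℕ} {c : F} (hc : c ≠ 0)
    (hcomm : ∀ t u, x s u * x r t = x r t * x s u * x k (c * t * u))
    (hr : Full x K r) (hs : Full x K s) : Full x K k := by
  intro t
  have h1 := hcomm (t / c) 1
  have : x k t = (x r (t / c) * x s 1)⁻¹ * (x s 1 * x r (t / c)) := by
    rw [h1, mul_one, mul_div_cancel₀ _ hc]; group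
  rw [this]
  exact K.mul_mem (K.inv_mem (K.mul_mem (hr _) (hs _))) (K.mul_mem (hs _) (hr _))

end basic

section schemeT

variable [Fintype F] {x : ℕ → F → Γ} (hadd : ∀ r t u, x r t * x r u = x r (t + u))
include hadd

/-- **Steinberg's trick.** -/
theorem schemeT_core {h n : Γ} {r₁ r₂ s₁ : ℕ} {c₁ c₁' η : F}
    (hq : h ^ (Fintype.card F - 1) = 1)
    (h2 : h * x r₂ 1 = x r₂ 1 * h)
    (h1 : ∀ t, h * x r₁ t * h⁻¹ = x r₁ (c₁ * t))
    (hs1 : ∀ t, h * x s₁ t * h⁻¹ = x s₁ (c₁' * t))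
    (hn : ∀ t, n * x s₁ t * n⁻¹ = x r₁ (η * t)) (hη : η ≠ 0)
    (hcomm : h * (n * h * n⁻¹) = (n * h * n⁻¹) * h)
    (hc1 : c₁ ≠ 1) (hc1' : c₁' ≠ 1) (hc1'0 : c₁' ≠ 0)
    (hgen : ∀ t : F, t ≠ 0 → ∃ j : ℕ, t = c₁ ^ j)
    (K : Subgroup Γ) (ha : h * x r₂ 1 ∈ K) (hb : x r₁ 1 * n ∈ K) :
    h ∈ K ∧ x r₂ 1 ∈ K ∧ n ∈ K ∧ Full x K r₁ := by
  -- step 1 : `h` and `x r₂ 1` are powers of `a`
  have hcard : ((Fintype.card F : ℕ) : F) = 0 := Nat.cast_card_eq_zero F
  have hpos : 1 ≤ Fintype.card F := Fintype.card_pos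
  have hx2 : x r₂ (-1) ∈ K := by
    have hp : (h * x r₂ 1) ^ (Fintype.card F - 1) = x r₂ (-1) := by
      rw [(show Commute h (x r₂ 1) from h2).mul_pow, hq, one_mul, x_pow hadd, mul_one,
        Nat.cast_sub hpos, hcard, Nat.cast_one, zero_sub]
    rw [← hp]; exact K.pow_mem ha _
  have hx2' : x r₂ 1 ∈ K := by
    have : x r₂ 1 = (x r₂ (-1))⁻¹ := by rw [x_inv hadd, neg_neg]
    rw [this]; exact K.inv_mem hx2
  have hh : h ∈ K := by
    have : h = h * x r₂ 1 * x r₂ (-1) := by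
      rw [mul_assoc, hadd, add_neg_cancel, x_zero hadd, mul_one]
    rw [this]; exact K.mul_mem ha hx2
  -- step 2 : the action of `h' = n h n⁻¹` on the root subgroup `r₁`
  set h' := n * h * n⁻¹ with hh'
  have hact : ∀ t, h' * x r₁ t * h'⁻¹ = x r₁ (c₁' * t) := by
    intro t
    have e1 : x r₁ t = n * x s₁ (t / η) * n⁻¹ := by rw [hn, mul_div_cancel₀ _ hη]
    have e2 : h' * x r₁ t * h'⁻¹ = n * (h * x s₁ (t / η) * h⁻¹) * n⁻¹ := by
      rw [e1, hh']; group
    rw [e2, hs1, hn]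
    congr 1
    field_simp
  -- step 3 : `y = b h b⁻¹ = h' x(c)`
  set b := x r₁ 1 * n with hb'
  have hy : b * h * b⁻¹ = h' * x r₁ (c₁'⁻¹ - 1) := by
    have e1 : b * h * b⁻¹ = x r₁ 1 * h' * x r₁ (-1) := by
      rw [hb', hh', ← x_inv hadd]; group
    have e2 : x r₁ 1 * h' = h' * x r₁ (c₁'⁻¹) := by
      have := hact (c₁'⁻¹)
      rw [mul_inv_cancel₀ hc1'0] at this
      rw [← this]; group
    rw [e1, e2, mul_assoc, hadd, sub_eq_add_neg]
  have hyK : h' * x r₁ (c₁'⁻¹ - 1) ∈ K := by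
    rw [← hy]; exact K.mul_mem (K.mul_mem hb hh) (K.inv_mem hb)
  -- step 4 : the commutator of `h` and `y`
  set c := c₁'⁻¹ - 1 with hc
  have hz : h * (h' * x r₁ c) * h⁻¹ * (h' * x r₁ c)⁻¹ = x r₁ (c₁' * ((c₁ - 1) * c)) := by
    have e2 : h * (h' * x r₁ c) * h⁻¹ * (h' * x r₁ c)⁻¹
        = h' * (h * x r₁ c * h⁻¹ * (x r₁ c)⁻¹) * h'⁻¹ := by
      have : h * (h' * x r₁ c) * h⁻¹ * (h' * x r₁ c)⁻¹
          = (h * h') * (x r₁ c * h⁻¹ * (x r₁ c)⁻¹) * h'⁻¹ := by group
      rw [this, hcomm]; group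
    rw [e2, h1, x_inv hadd, hadd]
    have : c₁ * c + -c = (c₁ - 1) * c := by ring
    rw [this, hact]
  have hd : c₁' * ((c₁ - 1) * c) ≠ 0 := by
    refine mul_ne_zero hc1'0 (mul_ne_zero (sub_ne_zero.mpr hc1) ?_)
    rw [hc, sub_ne_zero]
    intro e
    exact hc1' (inv_eq_one.mp e)
  have hzK : x r₁ (c₁' * ((c₁ - 1) * c)) ∈ K := by
    rw [← hz]
    exact K.mul_mem (K.mul_mem (K.mul_mem hh hyK) (K.inv_mem hh)) (K.inv_mem hyK)
  have hfull : Full x K r₁ := full_of_torus hadd hh h1 hgen hd hzK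
  refine ⟨hh, hx2', ?_, hfull⟩
  have : n = x r₁ (-1) * b := by
    rw [hb', ← mul_assoc, hadd, neg_add_cancel, x_zero hadd, one_mul]
  rw [this]
  exact K.mul_mem (hfull _) hb

end schemeT

end Cfsg.Agent.Lib.Helper5_TwoGenAbs

/-! ## The closure machine (pure bookkeeping) -/

namespace Cfsg.Agent.Lib.Helper5_TwoGenAbs

/-- one step of a closure certificate -/
inductive Step where
  /-- transport the full root `r` by the `m`-th monomial element -/
  | nconj (m r : ℕ)
  /-- from the full roots `r`, `s` with a single-term commutator get the root of that term -/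
  | comm (r s : ℕ)
  /-- (field of two elements) conjugate the root element of `r` by the element `c_s` of order three -/
  | cconj (s r : ℕ)
  /-- transport the element `c_s` by the `m`-th monomial element -/
  | cmove (m s : ℕ)
  /-- (field of two elements) the same as `cconj` for a commutator with the two terms `r + s`, `r + 2s` -/
  | cconj2 (s r : ℕ)

/-- the tables a closure certificate is checked against -/
structure Mach where
  /-- number of roots -/
  N : ℕ
  /-- `perm m r` : image of the root `r` under the `m`-th monomial element -/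
  perm : ℕ → ℕ → ℕ
  /-- index of the negative root -/
  neg : ℕ → ℕ
  /-- terms of the commutator formula -/
  T : ℕ → ℕ → List (ℕ × ℤ × ℕ × ℕ)
  /-- coefficients known to be invertible in the field -/
  coefOK : ℤ → Bool

/-- the single term `(k, c, 1, 1)` of a commutator entry, if it has this shape -/
def singleTerm : List (ℕ × ℤ × ℕ × ℕ) → Option (ℕ × ℤ)
  | [(k, c, 1, 1)] => some (k, c)
  | _ => none

theorem singleTerm_eq {L : List (ℕ × ℤ × ℕ × ℕ)} {k : ℕ} {c : ℤ} (h : singleTerm L = some (k, c)) :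
    L = [(k, c, 1, 1)] := by
  unfold singleTerm at h
  split at h
  · simp only [Option.some.injEq, Prod.mk.injEq] at h
    obtain ⟨rfl, rfl⟩ := h
    rfl
  · exact absurd h (by simp)

/-- the two terms `(k₁, c₁, 1, 1), (k₂, c₂, 1, 2)` of a commutator entry, if it has this shape -/
def twoTerm : List (ℕ × ℤ × ℕ × ℕ) → Option ((ℕ × ℤ) × (ℕ × ℤ))
  | [(k₁, c₁, 1, 1), (k₂, c₂, 1, 2)] => some ((k₁, c₁), (k₂, c₂))
  | _ => none

theorem twoTerm_eq {L : List (ℕ × ℤ × ℕ × ℕ)} {k₁ k₂ : ℕ} {c₁ c₂ : ℤ}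
    (h : twoTerm L = some ((k₁, c₁), (k₂, c₂))) : L = [(k₁, c₁, 1, 1), (k₂, c₂, 1, 2)] := by
  unfold twoTerm at h
  split at h
  · simp only [Option.some.injEq, Prod.mk.injEq] at h
    obtain ⟨⟨rfl, rfl⟩, rfl, rfl⟩ := h
    rfl
  · exact absurd h (by simp)

/-- one step; the state is (full roots, roots `s` whose `c_s` is known) -/
def Mach.step (M : Mach) (st : List ℕ × List ℕ) : Step → List ℕ × List ℕ
  | .nconj m r => if r ∈ st.1 ∧ r < M.N then (M.perm m r :: st.1, st.2) else st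
  | .comm r s =>
    if r ∈ st.1 ∧ s ∈ st.1 ∧ r < M.N ∧ s < M.N ∧ s ≠ r ∧ s ≠ M.neg r then
      match singleTerm (M.T r s) with
      | some (k, c) => if M.coefOK c = true then (k :: st.1, st.2) else st
      | none => st
    else st
  | .cconj s r =>
    if r ∈ st.1 ∧ s ∈ st.2 ∧ r < M.N ∧ s < M.N ∧ s ≠ r ∧ s ≠ M.neg r ∧
        M.neg s < M.N ∧ M.neg s ≠ r ∧ M.neg s ≠ M.neg r ∧ M.T r (M.neg s) = [] then
      match singleTerm (M.T r s) with
      | some (k, c) =>
        if (c = 1 ∨ c = -1) ∧ k < M.N ∧ s ≠ k ∧ s ≠ M.neg k ∧ M.T k s = [] then (k :: st.1, st.2) else st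
      | none => st
    else st
  | .cconj2 s r =>
    if r ∈ st.1 ∧ s ∈ st.2 ∧ r < M.N ∧ s < M.N ∧ s ≠ r ∧ s ≠ M.neg r ∧
        M.neg s < M.N ∧ M.neg s ≠ r ∧ M.neg s ≠ M.neg r ∧ M.T r (M.neg s) = [] then
      match twoTerm (M.T r s) with
      | some ((k₁, c₁), (k₂, c₂)) =>
        if (c₁ = 1 ∨ c₁ = -1) ∧ (c₂ = 1 ∨ c₂ = -1) ∧ k₂ ∈ st.1 ∧ k₁ < M.N ∧ k₂ < M.N ∧ s ≠ k₁ ∧ s ≠ M.neg k₁ ∧
            s ≠ k₂ ∧ s ≠ M.neg k₂ ∧ M.T k₂ s = [] ∧ (M.T k₁ s = [(k₂, 2, 1, 1)] ∨ M.T k₁ s = [(k₂, -2, 1, 1)])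
        then (k₁ :: st.1, st.2) else st
      | none => st
    else st
  | .cmove m s => if s ∈ st.2 ∧ s < M.N then (st.1, M.perm m s :: st.2) else st

/-- run a certificate -/
def Mach.run (M : Mach) (st : List ℕ × List ℕ) (steps : List Step) : List ℕ × List ℕ :=
  steps.foldl M.step st

/-- what has to be known about the predicates `P` (root is full) and `Q` (`c_s` is known) -/
structure Mach.Sound (M : Mach) (P Q : ℕ → Prop) : Prop where
  nconj : ∀ m r, r < M.N → P r → P (M.perm m r)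
  comm : ∀ r s k c, r < M.N → s < M.N → s ≠ r → s ≠ M.neg r → M.T r s = [(k, c, 1, 1)] →
    M.coefOK c = true → P r → P s → P k
  cconj : ∀ s r k c, r < M.N → s < M.N → s ≠ r → s ≠ M.neg r → M.neg s < M.N → M.neg s ≠ r →
    M.neg s ≠ M.neg r → M.T r (M.neg s) = [] → M.T r s = [(k, c, 1, 1)] → (c = 1 ∨ c = -1) → k < M.N →
    s ≠ k → s ≠ M.neg k → M.T k s = [] → Q s → P r → P k
  cconj2 : ∀ s r k₁ c₁ k₂ c₂, r < M.N → s < M.N → s ≠ r → s ≠ M.neg r → M.neg s < M.N → M.neg s ≠ r →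
    M.neg s ≠ M.neg r → M.T r (M.neg s) = [] → M.T r s = [(k₁, c₁, 1, 1), (k₂, c₂, 1, 2)] →
    (c₁ = 1 ∨ c₁ = -1) → (c₂ = 1 ∨ c₂ = -1) → k₁ < M.N → k₂ < M.N → s ≠ k₁ → s ≠ M.neg k₁ → s ≠ k₂ →
    s ≠ M.neg k₂ → M.T k₂ s = [] → (M.T k₁ s = [(k₂, 2, 1, 1)] ∨ M.T k₁ s = [(k₂, -2, 1, 1)]) →
    Q s → P r → P k₂ → P k₁
  cmove : ∀ m s, s < M.N → Q s → Q (M.perm m s)

theorem Mach.step_sound {M : Mach} {P Q : ℕ → Prop} (hS : M.Sound P Q) (st : List ℕ × List ℕ)
    (h1 : ∀ r ∈ st.1, P r) (h2 : ∀ s ∈ st.2, Q s) (e : Step) :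
    (∀ r ∈ (M.step st e).1, P r) ∧ (∀ s ∈ (M.step st e).2, Q s) := by
  cases e with
  | nconj m r =>
    simp only [Mach.step]
    split
    · rename_i h
      refine ⟨?_, h2⟩
      intro r' hr'
      rcases List.mem_cons.mp hr' with rfl | hr'
      · exact hS.nconj m r h.2 (h1 r h.1)
      · exact h1 r' hr'
    · exact ⟨h1, h2⟩
  | comm r s =>
    simp only [Mach.step]
    split
    · rename_i h
      obtain ⟨hr, hs, hrN, hsN, hne, hneg⟩ := h
      split
      · rename_i k c hkc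
        split
        · rename_i hc
          refine ⟨?_, h2⟩
          intro r' hr'
          rcases List.mem_cons.mp hr' with rfl | hr'
          · exact hS.comm r s _ c hrN hsN hne hneg (singleTerm_eq hkc) hc (h1 r hr) (h1 s hs)
          · exact h1 r' hr'
        · exact ⟨h1, h2⟩
      · exact ⟨h1, h2⟩
    · exact ⟨h1, h2⟩
  | cconj s r =>
    simp only [Mach.step]
    split
    · rename_i h
      obtain ⟨hr, hs, hrN, hsN, hne, hneg, hnN, hn1, hn2, hT⟩ := h
      split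
      · rename_i k c hkc
        split
        · rename_i hc
          obtain ⟨hc1, hkN, hks, hkns, hTk⟩ := hc
          refine ⟨?_, h2⟩
          intro r' hr'
          rcases List.mem_cons.mp hr' with rfl | hr'
          · exact hS.cconj s r _ c hrN hsN hne hneg hnN hn1 hn2 hT (singleTerm_eq hkc) hc1 hkN hks hkns hTk
              (h2 s hs) (h1 r hr)
          · exact h1 r' hr'
        · exact ⟨h1, h2⟩
      · exact ⟨h1, h2⟩
    · exact ⟨h1, h2⟩
  | cconj2 s r =>
    simp only [Mach.step]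
    split
    · rename_i h
      obtain ⟨hr, hs, hrN, hsN, hne, hneg, hnN, hn1, hn2, hT⟩ := h
      split
      · rename_i k₁ c₁ k₂ c₂ hkc
        split
        · rename_i hc
          obtain ⟨hc1, hc2, hk2, hk1N, hk2N, h3, h4, h5, h6, h7, h8⟩ := hc
          refine ⟨?_, h2⟩
          intro r' hr'
          rcases List.mem_cons.mp hr' with rfl | hr'
          · exact hS.cconj2 s r _ c₁ k₂ c₂ hrN hsN hne hneg hnN hn1 hn2 hT (twoTerm_eq hkc) hc1 hc2 hk1N hk2N
              h3 h4 h5 h6 h7 h8 (h2 s hs) (h1 r hr) (h1 k₂ hk2)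
          · exact h1 r' hr'
        · exact ⟨h1, h2⟩
      · exact ⟨h1, h2⟩
    · exact ⟨h1, h2⟩
  | cmove m s =>
    simp only [Mach.step]
    split
    · rename_i h
      refine ⟨h1, ?_⟩
      intro s' hs'
      rcases List.mem_cons.mp hs' with rfl | hs'
      · exact hS.cmove m s h.2 (h2 s h.1)
      · exact h2 s' hs'
    · exact ⟨h1, h2⟩

theorem Mach.run_sound {M : Mach} {P Q : ℕ → Prop} (hS : M.Sound P Q) (steps : List Step) :
    ∀ (st : List ℕ × List ℕ), (∀ r ∈ st.1, P r) → (∀ s ∈ st.2, Q s) →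
      (∀ r ∈ (M.run st steps).1, P r) ∧ (∀ s ∈ (M.run st steps).2, Q s) := by
  induction steps with
  | nil => intro st h1 h2; exact ⟨h1, h2⟩
  | cons e steps ih =>
    intro st h1 h2
    obtain ⟨h1', h2'⟩ := Mach.step_sound hS st h1 h2 e
    exact ih _ h1' h2'

/-- the final check: every root below `N` is in the list -/
def allIn (N : ℕ) (L : List ℕ) : Bool := (List.range N).all fun r => decide (r ∈ L)

theorem allIn_spec {N : ℕ} {L : List ℕ} (h : allIn N L = true) {r : ℕ} (hr : r < N) : r ∈ L := by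
  unfold allIn at h
  rw [List.all_eq_true] at h
  exact of_decide_eq_true (h r (List.mem_range.mpr hr))

end Cfsg.Agent.Lib.Helper5_TwoGenAbs
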