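import Mathlib
import Cfsg.Prelude.Def_ChevStructure
import Cfsg.Agent.Lib.Helper5_TwoGenAbs

/-!
# Two-generation of the Chevalley groups of a datum: the part that is uniform in the datum (helper5, S2405)

Everything is derived from the structure `Api D F`, whose fields are the statements of the landed rows
S1023, S1024, S1025, S1031, S1032, S1033 (and two facts on the diagonal subgroup), so that this file does
not depend on the certificate libraries.
-/

set_option autoImplicit false

namespace Cfsg.Agent.Lib.Helper5_TwoGenChev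

open Cfsg Cfsg.Lie Cfsg.Agent.Lib.Helper5_TwoGenAbs

open scoped MatrixGroups Matrix

/-- the facts about the datum `D` over the field `F` that are used -/
structure Api (D : ChevalleyDatum) (F : Type*) [Field F] : Prop where
  add : ∀ r < D.nroots, ∀ t₁ t₂ : F, D.x F r t₁ * D.x F r t₂ = D.x F r (t₁ + t₂)
  zero : ∀ r < D.nroots, D.x F r (0 : F) = 1
  comm : ∀ r s, r < D.nroots → s < D.nroots → s ≠ r → s ≠ D.neg r → ∀ t u : F,
    D.x F s u * D.x F r t = D.x F r t * D.x F s u * D.wordMat F (D.commWord F r s t u)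
  nconj : ∀ i s, i < D.rank → s < D.nroots → ∃ η : ℤ, (η = 1 ∨ η = -1) ∧
    ∀ t : F, D.nMat F (D.simple i) 1 * D.x F s t =
      D.x F (D.reflectRoot i s) ((η : F) * t) * D.nMat F (D.simple i) 1
  hconj : ∀ i s, i < D.rank → s < D.nroots → ∀ c : F, c ≠ 0 → ∀ t : F,
    D.hMat F (D.simple i) c * D.x F s t = D.x F s (c ^ (D.cartan i s) * t) * D.hMat F (D.simple i) c
  hdiag : ∀ i, i < D.rank → ∀ c : F, c ≠ 0 → D.hMat F (D.simple i) c =
    Matrix.diagonal (Sum.elim (fun _ => (1 : F)) (fun s : Fin D.nroots => c ^ (D.cartan i s)))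
  refl_lt : ∀ i < D.rank, ∀ s < D.nroots, D.reflectRoot i s < D.nroots
  simple_lt : ∀ i < D.rank, D.simple i < D.nroots
  Hcomm : ∀ g g' : GL D.Idx F, g ∈ D.diagonalSubgroup F → g' ∈ D.diagonalSubgroup F → g * g' = g' * g
  Hnormal : ∀ n ∈ D.monomialSubgroup F, ∀ g ∈ D.diagonalSubgroup F, n * g * n⁻¹ ∈ D.diagonalSubgroup F

variable {D : ChevalleyDatum} {F : Type*} [Field F]

theorem x_out (r : ℕ) (h : ¬ r < D.nroots) (t : F) : D.x F r t = 1 := by
  unfold ChevalleyDatum.x
  rw [dif_neg h]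

theorem x_in (r : ℕ) (h : r < D.nroots) (t : F) : D.x F r t = D.xMat F ⟨r, h⟩ t := by
  unfold ChevalleyDatum.x
  rw [dif_pos h]

theorem x_mul_neg (A : Api D F) (r : ℕ) (t : F) : D.x F r t * D.x F r (-t) = 1 := by
  by_cases h : r < D.nroots
  · rw [A.add r h, add_neg_cancel, A.zero r h]
  · rw [x_out r h, x_out r h, one_mul]

/-- the root elements as elements of the general linear group -/
def xg (A : Api D F) (r : ℕ) (t : F) : GL D.Idx F :=
  ⟨D.x F r t, D.x F r (-t), x_mul_neg A r t, by have := x_mul_neg A r (-t); rwa [neg_neg] at this⟩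

theorem xg_coe (A : Api D F) (r : ℕ) (t : F) : ((xg A r t : GL D.Idx F) : Matrix D.Idx D.Idx F) = D.x F r t := rfl

theorem xg_add (A : Api D F) (r : ℕ) (t u : F) : xg A r t * xg A r u = xg A r (t + u) := by
  apply Units.ext
  rw [Units.val_mul, xg_coe, xg_coe, xg_coe]
  by_cases h : r < D.nroots
  · exact A.add r h t u
  · rw [x_out r h, x_out r h, x_out r h, one_mul]

theorem eq_xg (A : Api D F) {g : GL D.Idx F} {r : ℕ} {t : F} (h : (g : Matrix D.Idx D.Idx F) = D.x F r t) :
    g = xg A r t := Units.ext h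

theorem xg_mem_group (A : Api D F) (r : ℕ) (t : F) : xg A r t ∈ D.group F := by
  by_cases h : r < D.nroots
  · apply Subgroup.subset_closure
    exact ⟨⟨r, h⟩, t, x_in r h t⟩
  · have : xg A r t = 1 := Units.ext (x_out r h t)
    rw [this]
    exact Subgroup.one_mem _

/-- the element of the general linear group of a word in root elements -/
def wordG (A : Api D F) (w : List (ℕ × F)) : GL D.Idx F := (w.map fun p => xg A p.1 p.2).prod

theorem wordG_coe (A : Api D F) (w : List (ℕ × F)) :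
    ((wordG A w : GL D.Idx F) : Matrix D.Idx D.Idx F) = D.wordMat F w := by
  induction w with
  | nil => simp [wordG, ChevalleyDatum.wordMat]
  | cons p w ih =>
    have e1 : wordG A (p :: w) = xg A p.1 p.2 * wordG A w := by simp [wordG]
    have e2 : D.wordMat F (p :: w) = D.x F p.1 p.2 * D.wordMat F w := by simp [ChevalleyDatum.wordMat]
    rw [e1, e2, Units.val_mul, ih, xg_coe]

theorem wordG_mem_group (A : Api D F) (w : List (ℕ × F)) : wordG A w ∈ D.group F := by
  unfold wordG
  apply Subgroup.list_prod_mem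
  intro g hg
  rw [List.mem_map] at hg
  obtain ⟨p, _, rfl⟩ := hg
  exact xg_mem_group A p.1 p.2

/-- `n_{p_i}` -/
def nG (A : Api D F) (i : ℕ) : GL D.Idx F := wordG A (D.nWord (D.simple i) 1)

theorem nG_coe (A : Api D F) (i : ℕ) :
    ((nG A i : GL D.Idx F) : Matrix D.Idx D.Idx F) = D.nMat F (D.simple i) 1 := wordG_coe A _

/-- `h_{p_i}(c)` -/
def hG (A : Api D F) (i : ℕ) (c : F) : GL D.Idx F := wordG A (D.hWord (D.simple i) c)

theorem hG_coe (A : Api D F) (i : ℕ) (c : F) :
    ((hG A i c : GL D.Idx F) : Matrix D.Idx D.Idx F) = D.hMat F (D.simple i) c := wordG_coe A _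

theorem nG_mem_mono (A : Api D F) (i : ℕ) (hi : i < D.rank) : nG A i ∈ D.monomialSubgroup F := by
  unfold ChevalleyDatum.monomialSubgroup
  apply Subgroup.mem_sup_right
  apply Subgroup.subset_closure
  exact ⟨D.simple i, A.simple_lt i hi, nG_coe A i⟩

theorem hG_mem_diag (A : Api D F) (i : ℕ) (hi : i < D.rank) (c : F) (hc : c ≠ 0) :
    hG A i c ∈ D.diagonalSubgroup F := by
  unfold ChevalleyDatum.diagonalSubgroup
  apply Subgroup.subset_closure
  exact ⟨D.simple i, c, A.simple_lt i hi, hc, hG_coe A i c⟩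

theorem nG_conj (A : Api D F) (i s : ℕ) (hi : i < D.rank) (hs : s < D.nroots) :
    ∃ η : F, η ≠ 0 ∧ ∀ t : F, nG A i * xg A s t * (nG A i)⁻¹ = xg A (D.reflectRoot i s) (η * t) := by
  obtain ⟨η, hη, h⟩ := A.nconj i s hi hs
  refine ⟨(η : F), ?_, ?_⟩
  · rcases hη with rfl | rfl <;> simp
  · intro t
    rw [mul_inv_eq_iff_eq_mul]
    apply Units.ext
    rw [Units.val_mul, Units.val_mul, nG_coe, xg_coe, xg_coe]
    exact h t

theorem hG_conj (A : Api D F) (i s : ℕ) (hi : i < D.rank) (hs : s < D.nroots) (c : F) (hc : c ≠ 0) (t : F) :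
    hG A i c * xg A s t * (hG A i c)⁻¹ = xg A s (c ^ (D.cartan i s) * t) := by
  rw [mul_inv_eq_iff_eq_mul]
  apply Units.ext
  rw [Units.val_mul, Units.val_mul, hG_coe, xg_coe, xg_coe]
  exact A.hconj i s hi hs c hc t

theorem hG_pow [Fintype F] (A : Api D F) (i : ℕ) (hi : i < D.rank) (c : F) (hc : c ≠ 0) :
    hG A i c ^ (Fintype.card F - 1) = 1 := by
  apply Units.ext
  rw [Units.val_pow_eq_pow_val, hG_coe, A.hdiag i hi c hc, Matrix.diagonal_pow, Units.val_one,
    ← Matrix.diagonal_one]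
  congr 1
  funext k
  rcases k with k | k
  · simp
  · simp only [Pi.pow_apply, Sum.elim_inr]
    rw [← zpow_natCast, ← zpow_mul, mul_comm, zpow_mul, zpow_natCast,
      FiniteField.pow_card_sub_one_eq_one c hc, one_zpow]

/-- the product of the `n_{p_i}` along a word -/
def wordN (A : Api D F) (word : List ℕ) : GL D.Idx F := (word.map (nG A)).prod

/-- the action of a word of fundamental reflections on the roots -/
def wAct (D : ChevalleyDatum) (word : List ℕ) (s : ℕ) : ℕ := word.foldr D.reflectRoot s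

theorem wordN_mem_mono (A : Api D F) (word : List ℕ) (hw : ∀ i ∈ word, i < D.rank) :
    wordN A word ∈ D.monomialSubgroup F := by
  unfold wordN
  apply Subgroup.list_prod_mem
  intro g hg
  rw [List.mem_map] at hg
  obtain ⟨i, hi, rfl⟩ := hg
  exact nG_mem_mono A i (hw i hi)

theorem wordN_mem_group (A : Api D F) (word : List ℕ) : wordN A word ∈ D.group F := by
  unfold wordN
  apply Subgroup.list_prod_mem
  intro g hg
  rw [List.mem_map] at hg
  obtain ⟨i, _, rfl⟩ := hg
  exact wordG_mem_group A _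

theorem wordN_conj (A : Api D F) (word : List ℕ) (hw : ∀ i ∈ word, i < D.rank) (s : ℕ) (hs : s < D.nroots) :
    wAct D word s < D.nroots ∧ ∃ η : F, η ≠ 0 ∧
      ∀ t : F, wordN A word * xg A s t * (wordN A word)⁻¹ = xg A (wAct D word s) (η * t) := by
  induction word with
  | nil =>
    refine ⟨hs, 1, one_ne_zero, fun t => ?_⟩
    simp [wordN, wAct]
  | cons i w ih =>
    obtain ⟨hlt, η, hη, h⟩ := ih (fun j hj => hw j (List.mem_cons_of_mem _ hj))
    have hi : i < D.rank := hw i List.mem_cons_self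
    obtain ⟨η', hη', h'⟩ := nG_conj A i (wAct D w s) hi hlt
    have e1 : wordN A (i :: w) = nG A i * wordN A w := by simp [wordN]
    have e2 : wAct D (i :: w) s = D.reflectRoot i (wAct D w s) := by simp [wAct]
    refine ⟨e2 ▸ A.refl_lt i hi _ hlt, η' * η, mul_ne_zero hη' hη, fun t => ?_⟩
    have e3 : nG A i * wordN A w * xg A s t * (nG A i * wordN A w)⁻¹ =
        nG A i * (wordN A w * xg A s t * (wordN A w)⁻¹) * (nG A i)⁻¹ := by group
    rw [e1, e2, e3, h, h', mul_assoc]

/-- the single-term commutator relation -/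
theorem comm_single (A : Api D F) {r s k : ℕ} {c : ℤ} (hr : r < D.nroots) (hs : s < D.nroots)
    (hne : s ≠ r) (hneg : s ≠ D.neg r) (hT : D.commTerms r s = [(k, c, 1, 1)]) (t u : F) :
    xg A s u * xg A r t = xg A r t * xg A s u * xg A k (-(c : F) * t * u) := by
  apply Units.ext
  rw [Units.val_mul, Units.val_mul, Units.val_mul, xg_coe, xg_coe, xg_coe, A.comm r s hr hs hne hneg t u]
  congr 1
  unfold ChevalleyDatum.commWord
  rw [hT]
  simp only [List.map_cons, List.map_nil, ChevalleyDatum.wordMat, List.prod_cons, List.prod_nil, mul_one,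
    pow_one]
  congr 1
  ring

/-- a subgroup containing all root elements contains the Chevalley group -/
theorem group_le (A : Api D F) (K : Subgroup (GL D.Idx F)) (h : ∀ r < D.nroots, Full (xg A) K r) :
    D.group F ≤ K := by
  unfold ChevalleyDatum.group
  rw [Subgroup.closure_le]
  rintro g ⟨r, t, hg⟩
  have : g = xg A r.1 t := eq_xg A (hg.trans (x_in r.1 r.2 t).symm)
  rw [this]
  exact h r.1 r.2 t

/-- two elements of the Chevalley group that generate, inside the general linear group, a subgroup containing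
it, generate it -/
theorem two_gen_of_le {a b : GL D.Idx F} (ha : a ∈ D.group F) (hb : b ∈ D.group F)
    (h : D.group F ≤ Subgroup.closure {a, b}) :
    ∃ a' b' : ↥(D.group F), Subgroup.closure ({a', b'} : Set ↥(D.group F)) = ⊤ := by
  refine ⟨⟨a, ha⟩, ⟨b, hb⟩, ?_⟩
  rw [eq_top_iff]
  intro g _
  have hg : (g : GL D.Idx F) ∈ Subgroup.closure {a, b} := h g.2
  have hmap : Subgroup.closure {a, b} =
      (Subgroup.closure ({⟨a, ha⟩, ⟨b, hb⟩} : Set ↥(D.group F))).map (D.group F).subtype := by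
    rw [MonoidHom.map_closure]
    congr 1
    ext y
    simp only [Set.mem_insert_iff, Set.mem_singleton_iff, Set.mem_image, Subtype.exists]
    constructor
    · rintro (rfl | rfl)
      · exact ⟨y, ha, Or.inl rfl, rfl⟩
      · exact ⟨y, hb, Or.inr rfl, rfl⟩
    · rintro ⟨z, hz, (h1 | h1), rfl⟩
      · left; exact congrArg Subtype.val h1
      · right; exact congrArg Subtype.val h1
  rw [hmap] at hg
  obtain ⟨g', hg', e⟩ := hg
  have : g' = g := Subtype.ext e
  rwa [this] at hg'


/-! ## The closure machine for a datum -/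

/-- the machine of a datum, for a list of words of fundamental reflections (monomial elements) -/
def machOf (D : ChevalleyDatum) (words : List (List ℕ)) (coefOK : ℤ → Bool) : Mach where
  N := D.nroots
  perm := fun m r => wAct D (words.getD m []) r
  neg := D.neg
  T := D.commTerms
  coefOK := coefOK

theorem getD_mem_or_nil {α : Type*} (L : List (List α)) (m : ℕ) : L.getD m [] ∈ L ∨ L.getD m [] = [] := by
  rw [List.getD_eq_getElem?_getD]
  rcases h : L[m]? with _ | w
  · right; rfl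
  · left; exact List.mem_of_getElem? h

/-- soundness of the machine, the part on the elements `c_s` left as hypotheses -/
theorem mach_sound (A : Api D F) (K : Subgroup (GL D.Idx F)) (words : List (List ℕ))
    (hwK : ∀ w ∈ words, wordN A w ∈ K) (hwr : ∀ w ∈ words, ∀ i ∈ w, i < D.rank)
    (coefOK : ℤ → Bool) (hcoef : ∀ c, coefOK c = true → ((c : ℤ) : F) ≠ 0) (Q : ℕ → Prop)
    (hcc : ∀ s r k c, r < D.nroots → s < D.nroots → s ≠ r → s ≠ D.neg r → D.neg s < D.nroots → D.neg s ≠ r →
      D.neg s ≠ D.neg r → D.commTerms r (D.neg s) = [] → D.commTerms r s = [(k, c, 1, 1)] → (c = 1 ∨ c = -1) →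
      k < D.nroots → s ≠ k → s ≠ D.neg k → D.commTerms k s = [] → Q s → Full (xg A) K r → Full (xg A) K k)
    (hcc2 : ∀ s r k₁ c₁ k₂ c₂, r < D.nroots → s < D.nroots → s ≠ r → s ≠ D.neg r → D.neg s < D.nroots →
      D.neg s ≠ r → D.neg s ≠ D.neg r → D.commTerms r (D.neg s) = [] →
      D.commTerms r s = [(k₁, c₁, 1, 1), (k₂, c₂, 1, 2)] → (c₁ = 1 ∨ c₁ = -1) → (c₂ = 1 ∨ c₂ = -1) →
      k₁ < D.nroots → k₂ < D.nroots → s ≠ k₁ → s ≠ D.neg k₁ → s ≠ k₂ → s ≠ D.neg k₂ → D.commTerms k₂ s = [] →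
      (D.commTerms k₁ s = [(k₂, 2, 1, 1)] ∨ D.commTerms k₁ s = [(k₂, -2, 1, 1)]) →
      Q s → Full (xg A) K r → Full (xg A) K k₂ → Full (xg A) K k₁)
    (hcm : ∀ w ∈ words, ∀ s, s < D.nroots → Q s → Q (wAct D w s)) :
    (machOf D words coefOK).Sound (Full (xg A) K) Q where
  nconj := by
    intro m r hr hP
    show Full (xg A) K (wAct D (words.getD m []) r)
    rcases getD_mem_or_nil words m with h | h
    · obtain ⟨_, η, hη, hc⟩ := wordN_conj A _ (hwr _ h) r hr
      exact full_of_conj (hwK _ h) hη hc hP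
    · rw [h]; exact hP
  comm := by
    intro r s k c hr hs hne hneg hT hc hPr hPs
    have hc' : -((c : ℤ) : F) ≠ 0 := neg_ne_zero.mpr (hcoef c hc)
    exact full_of_comm hc' (comm_single A hr hs hne hneg hT) hPr hPs
  cconj := hcc
  cconj2 := hcc2
  cmove := by
    intro m s hs hQ
    show Q (wAct D (words.getD m []) s)
    rcases getD_mem_or_nil words m with h | h
    · exact hcm _ h s hs hQ
    · rw [h]; exact hQ

/-! ## Scheme T : fields with at least three elements -/

/-- iterate the action of a word -/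
def wIter (D : ChevalleyDatum) (word : List ℕ) : ℕ → ℕ → ℕ
  | 0, r => r
  | j + 1, r => wAct D word (wIter D word j r)

/-- a certificate for scheme T -/
structure CertT where
  /-- the word of the monomial element `n` -/
  word : List ℕ
  /-- the torus element is `h_{p}(μ)` for the `p`-th fundamental root -/
  p : ℕ
  /-- `b = x_{r₁}(1) n` -/
  r₁ : ℕ
  /-- the root carried to `r₁` by `n` -/
  s₁ : ℕ
  /-- `a = h x_{r₂}(1)` -/
  r₂ : ℕ
  /-- after `j` applications of `n` the torus element acts on the image of `r₂` through a generator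
  (`none` : the root `r₂` is not used) -/
  j : Option ℕ
  /-- the closure certificate -/
  steps : List Step

/-- the initial list of full roots -/
def CertT.init (D : ChevalleyDatum) (C : CertT) : List ℕ :=
  match C.j with
  | some j => [C.r₁, wIter D C.word j C.r₂]
  | none => [C.r₁]

/-- the check of a certificate -/
def CertT.ok (D : ChevalleyDatum) (exps : List ℤ) (coefOK : ℤ → Bool) (C : CertT) : Bool :=
  decide (∀ i ∈ C.word, i < D.rank) && decide (C.p < D.rank) && decide (C.r₁ < D.nroots) &&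
  decide (C.s₁ < D.nroots) && decide (C.r₂ < D.nroots) && decide (wAct D C.word C.s₁ = C.r₁) &&
  decide (D.cartan C.p C.r₁ = 1 ∨ D.cartan C.p C.r₁ = -1) &&
  decide (D.cartan C.p C.s₁ = 1 ∨ D.cartan C.p C.s₁ = -1) &&
  decide (D.cartan C.p C.r₂ = 0) &&
  (match C.j with
   | some j => decide (D.cartan C.p (wIter D C.word j C.r₂) ∈ exps)
   | none => true) &&
  allIn D.nroots ((machOf D [C.word] coefOK).run (C.init D, []) C.steps).1

theorem gen_zpow_one {μ : F} (hμ : ∀ t : F, t ≠ 0 → ∃ j : ℕ, t = μ ^ j) {e : ℤ} (he : e = 1 ∨ e = -1) :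
    ∀ t : F, t ≠ 0 → ∃ j : ℕ, t = (μ ^ e) ^ j := by
  intro t ht
  rcases he with rfl | rfl
  · obtain ⟨j, hj⟩ := hμ t ht
    exact ⟨j, by rw [zpow_one]; exact hj⟩
  · obtain ⟨j, hj⟩ := hμ t⁻¹ (inv_ne_zero ht)
    refine ⟨j, ?_⟩
    rw [zpow_neg_one, inv_pow, ← hj, inv_inv]

theorem zpow_one_ne_one {μ : F} (hμ1 : μ ≠ 1) {e : ℤ} (he : e = 1 ∨ e = -1) : μ ^ e ≠ 1 := by
  rcases he with rfl | rfl
  · rwa [zpow_one]
  · rw [zpow_neg_one]
    intro h
    exact hμ1 (inv_eq_one.mp h)

/-- **Scheme T.** -/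
theorem schemeT [Fintype F] (A : Api D F) (μ : F) (hμ0 : μ ≠ 0)
    (hμ : ∀ t : F, t ≠ 0 → ∃ j : ℕ, t = μ ^ j) (hμ1 : μ ≠ 1)
    (exps : List ℤ) (hexps : ∀ e ∈ exps, ∀ t : F, t ≠ 0 → ∃ j : ℕ, t = (μ ^ e) ^ j)
    (coefOK : ℤ → Bool) (hcoef : ∀ c, coefOK c = true → ((c : ℤ) : F) ≠ 0)
    (C : CertT) (hok : C.ok D exps coefOK = true) :
    ∃ a b : ↥(D.group F), Subgroup.closure ({a, b} : Set ↥(D.group F)) = ⊤ := by
  simp only [CertT.ok, Bool.and_eq_true, decide_eq_true_eq] at hok
  obtain ⟨⟨⟨⟨⟨⟨⟨⟨⟨⟨hword, hp⟩, hr1⟩, hs1⟩, hr2⟩, hws⟩, hc1⟩, hc1'⟩, hc2⟩, hexp⟩, hall⟩ := hok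
  set h := hG A C.p μ with hh
  set n := wordN A C.word with hn
  set a := h * xg A C.r₂ 1 with ha
  set b := xg A C.r₁ 1 * n with hb
  have hadd := xg_add A
  have haG : a ∈ D.group F := Subgroup.mul_mem _ (wordG_mem_group A _) (xg_mem_group A _ _)
  have hbG : b ∈ D.group F := Subgroup.mul_mem _ (xg_mem_group A _ _) (wordN_mem_group A _)
  refine two_gen_of_le haG hbG ?_
  set K := Subgroup.closure ({a, b} : Set (GL D.Idx F)) with hK
  have haK : a ∈ K := Subgroup.subset_closure (Set.mem_insert _ _)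
  have hbK : b ∈ K := Subgroup.subset_closure (Set.mem_insert_of_mem _ rfl)
  obtain ⟨_, η, hη, hnconj⟩ := wordN_conj A C.word hword C.s₁ hs1
  rw [hws] at hnconj
  have hcomm : h * (n * h * n⁻¹) = (n * h * n⁻¹) * h :=
    A.Hcomm _ _ (hG_mem_diag A _ hp μ hμ0)
      (A.Hnormal _ (wordN_mem_mono A _ hword) _ (hG_mem_diag A _ hp μ hμ0))
  have h2 : h * xg A C.r₂ 1 = xg A C.r₂ 1 * h := by
    have := hG_conj A C.p C.r₂ hp hr2 μ hμ0 1
    rw [hc2, zpow_zero, one_mul, mul_inv_eq_iff_eq_mul] at this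
    exact this
  obtain ⟨hhK, hx2K, hnK, hfull1⟩ := schemeT_core hadd (hG_pow A C.p hp μ hμ0) h2
    (hG_conj A C.p C.r₁ hp hr1 μ hμ0) (hG_conj A C.p C.s₁ hp hs1 μ hμ0) hnconj hη hcomm
    (zpow_one_ne_one hμ1 hc1) (zpow_one_ne_one hμ1 hc1') (zpow_ne_zero _ hμ0)
    (gen_zpow_one hμ hc1) K haK hbK
  -- the image of `r₂`
  have hiter : ∀ j, wIter D C.word j C.r₂ < D.nroots ∧
      ∃ d : F, d ≠ 0 ∧ xg A (wIter D C.word j C.r₂) d ∈ K := by
    intro j
    induction j with
    | zero => exact ⟨hr2, 1, one_ne_zero, hx2K⟩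
    | succ j ih =>
      obtain ⟨hlt, d, hd, hdK⟩ := ih
      obtain ⟨hlt', η', hη', hc'⟩ := wordN_conj A C.word hword _ hlt
      refine ⟨hlt', η' * d, mul_ne_zero hη' hd, ?_⟩
      show xg A (wAct D C.word (wIter D C.word j C.r₂)) (η' * d) ∈ K
      rw [← hc']
      exact K.mul_mem (K.mul_mem hnK hdK) (K.inv_mem hnK)
  have hinit : ∀ r ∈ C.init D, Full (xg A) K r := by
    intro r hr
    unfold CertT.init at hr
    rcases hj : C.j with _ | j
    · rw [hj] at hr
      simp only [List.mem_cons, List.not_mem_nil, or_false] at hr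
      rw [hr]; exact hfull1
    · rw [hj] at hr hexp
      simp only [List.mem_cons, List.not_mem_nil, or_false] at hr
      simp only [decide_eq_true_eq] at hexp
      rcases hr with rfl | rfl
      · exact hfull1
      · obtain ⟨hlt2, d, hd, hdK⟩ := hiter j
        exact full_of_torus hadd hhK (hG_conj A C.p _ hp hlt2 μ hμ0) (hexps _ hexp) hd hdK
  -- the machine
  have hS : (machOf D [C.word] coefOK).Sound (Full (xg A) K) (fun _ => False) :=
    mach_sound A K [C.word] (by simpa using hnK) (by simpa using hword) coefOK hcoef _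
      (fun _ _ _ _ _ _ _ _ _ _ _ _ _ _ _ _ _ _ hQ _ => hQ.elim)
      (fun _ _ _ _ _ _ _ _ _ _ _ _ _ _ _ _ _ _ _ _ _ _ _ _ _ hQ _ _ => hQ.elim)
      (fun _ _ _ _ hQ => hQ.elim)
  have hrun := (Mach.run_sound hS C.steps (C.init D, []) hinit (by intro s hs; simp at hs)).1
  exact group_le A K (fun r hr => hrun r (allIn_spec hall hr))

/-! ## Scheme C : the field with two elements -/

section two

variable [Fintype F] (hF : Fintype.card F = 2)
include hF

theorem two_eq_zero : (2 : F) = 0 := by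
  have := Nat.cast_card_eq_zero F
  rw [hF] at this
  exact_mod_cast this

theorem F_cases (t : F) : t = 0 ∨ t = 1 := by
  classical
  by_contra h
  rw [not_or] at h
  have h3 : ({0, 1, t} : Finset F).card = 3 := by
    rw [Finset.card_insert_of_notMem, Finset.card_insert_of_notMem, Finset.card_singleton]
    · simp only [Finset.mem_singleton]; exact fun e => h.2 e.symm
    · simp only [Finset.mem_insert, Finset.mem_singleton, not_or]
      exact ⟨zero_ne_one, fun e => h.1 e.symm⟩
  have := Finset.card_le_univ ({0, 1, t} : Finset F)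
  omega

theorem eq_one_of_ne_zero {t : F} (ht : t ≠ 0) : t = 1 := (F_cases hF t).resolve_left ht

theorem full_of_one (A : Api D F) {K : Subgroup (GL D.Idx F)} {r : ℕ} (h : xg A r 1 ∈ K) : Full (xg A) K r := by
  intro t
  rcases F_cases hF t with rfl | rfl
  · rw [x_zero (xg_add A)]; exact K.one_mem
  · exact h

theorem xg_sq (A : Api D F) (r : ℕ) : xg A r 1 * xg A r 1 = 1 := by
  rw [xg_add, one_add_one_eq_two, two_eq_zero hF, x_zero (xg_add A)]

theorem int_odd_cast {c : ℤ} (hc : c = 1 ∨ c = -1) : ((c : ℤ) : F) = 1 := by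
  rcases hc with rfl | rfl
  · simp
  · have : (-1 : F) = 1 := by
      have h2 := two_eq_zero hF
      linear_combination -h2
    simpa using this

theorem int_even_cast {c : ℤ} (hc : c = 2 ∨ c = -2) : ((c : ℤ) : F) = 0 := by
  have h2 := two_eq_zero hF
  rcases hc with rfl | rfl
  · simpa using h2
  · simp only [Int.cast_neg, Int.cast_ofNat, neg_eq_zero]; exact h2

omit [Fintype F] hF in
/-- commuting root elements -/
theorem comm_nil (A : Api D F) {r s : ℕ} (hr : r < D.nroots) (hs : s < D.nroots)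
    (hne : s ≠ r) (hneg : s ≠ D.neg r) (hT : D.commTerms r s = []) (t u : F) :
    xg A s u * xg A r t = xg A r t * xg A s u := by
  apply Units.ext
  rw [Units.val_mul, Units.val_mul, xg_coe, xg_coe, A.comm r s hr hs hne hneg t u]
  unfold ChevalleyDatum.commWord
  rw [hT]
  simp [ChevalleyDatum.wordMat]

omit [Fintype F] hF in
/-- the two-term commutator relation -/
theorem comm_two (A : Api D F) {r s k₁ k₂ : ℕ} {c₁ c₂ : ℤ} (hr : r < D.nroots) (hs : s < D.nroots)
    (hne : s ≠ r) (hneg : s ≠ D.neg r) (hT : D.commTerms r s = [(k₁, c₁, 1, 1), (k₂, c₂, 1, 2)]) (t u : F) :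
    xg A s u * xg A r t = xg A r t * xg A s u *
      (xg A k₁ ((c₁ : F) * (-t) ^ 1 * u ^ 1) * xg A k₂ ((c₂ : F) * (-t) ^ 1 * u ^ 2)) := by
  apply Units.ext
  rw [Units.val_mul, Units.val_mul, Units.val_mul, Units.val_mul, xg_coe, xg_coe, xg_coe, xg_coe,
    A.comm r s hr hs hne hneg t u]
  congr 1
  unfold ChevalleyDatum.commWord
  rw [hT]
  simp only [List.map_cons, List.map_nil, ChevalleyDatum.wordMat, List.prod_cons, List.prod_nil, mul_one]

/-- the element of order three of the rank one subgroup of the root `s` -/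
def cs (A : Api D F) (s : ℕ) : GL D.Idx F := xg A s 1 * xg A (D.neg s) 1

omit [Fintype F] hF in
theorem cs_def (A : Api D F) (s : ℕ) : cs A s = xg A s 1 * xg A (D.neg s) 1 := rfl

theorem cs_inv (A : Api D F) (s : ℕ) : (cs A s)⁻¹ = xg A (D.neg s) 1 * xg A s 1 := by
  rw [cs_def, mul_inv_rev]
  have h1 : (xg A s 1)⁻¹ = xg A s 1 := inv_eq_of_mul_eq_one_left (xg_sq hF A s)
  have h2 : (xg A (D.neg s) 1)⁻¹ = xg A (D.neg s) 1 := inv_eq_of_mul_eq_one_left (xg_sq hF A _)
  rw [h1, h2]

theorem cconj_sound (A : Api D F) (K : Subgroup (GL D.Idx F)) (s r k : ℕ) (c : ℤ)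
    (hr : r < D.nroots) (hs : s < D.nroots) (hne : s ≠ r) (hneg : s ≠ D.neg r) (hnN : D.neg s < D.nroots)
    (hn1 : D.neg s ≠ r) (hn2 : D.neg s ≠ D.neg r) (hT : D.commTerms r (D.neg s) = [])
    (hTs : D.commTerms r s = [(k, c, 1, 1)]) (hc : c = 1 ∨ c = -1) (hkN : k < D.nroots) (hks : s ≠ k)
    (hkns : s ≠ D.neg k) (hTk : D.commTerms k s = []) (hQ : cs A s ∈ K) (hP : Full (xg A) K r) :
    Full (xg A) K k := by
  apply full_of_one hF A
  set u := xg A s 1 with hu
  set v := xg A (D.neg s) 1 with hv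
  set y := xg A r 1 with hy
  set z := xg A k 1 with hz
  have huu : u * u = 1 := xg_sq hF A s
  have hvv : v * v = 1 := xg_sq hF A _
  have hvy : v * y = y * v := comm_nil A hr hnN hn1 hn2 hT 1 1
  have huy : u * y = y * u * z := by
    have := comm_single A hr hs hne hneg hTs 1 1
    rw [mul_one, mul_one, int_odd_cast hF hc] at this
    have e : (-1 : F) = 1 := by
      have h2 := two_eq_zero hF
      linear_combination -h2
    rw [e] at this
    exact this
  have huz : u * z = z * u := comm_nil A hkN hs hks hkns hTk 1 1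
  have key : cs A s * y * (cs A s)⁻¹ = y * z := by
    rw [cs_inv hF, cs_def, ← hu, ← hv]
    calc u * v * y * (v * u) = u * (v * y) * v * u := by group
      _ = u * (y * v) * v * u := by rw [hvy]
      _ = u * y * (v * v) * u := by group
      _ = y * u * z * u := by rw [hvv, mul_one, huy]
      _ = y * (u * z) * u := by group
      _ = y * z * (u * u) := by rw [huz]; group
      _ = y * z := by rw [huu, mul_one]
  have : z = y⁻¹ * (cs A s * y * (cs A s)⁻¹) := by rw [key]; group
  rw [this]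
  exact K.mul_mem (K.inv_mem (hP 1)) (K.mul_mem (K.mul_mem hQ (hP 1)) (K.inv_mem hQ))

theorem cconj2_sound (A : Api D F) (K : Subgroup (GL D.Idx F)) (s r k₁ : ℕ) (c₁ : ℤ) (k₂ : ℕ) (c₂ : ℤ)
    (hr : r < D.nroots) (hs : s < D.nroots) (hne : s ≠ r) (hneg : s ≠ D.neg r) (hnN : D.neg s < D.nroots)
    (hn1 : D.neg s ≠ r) (hn2 : D.neg s ≠ D.neg r) (hT : D.commTerms r (D.neg s) = [])
    (hTs : D.commTerms r s = [(k₁, c₁, 1, 1), (k₂, c₂, 1, 2)]) (hc1 : c₁ = 1 ∨ c₁ = -1)
    (hc2 : c₂ = 1 ∨ c₂ = -1) (hk1N : k₁ < D.nroots) (hk2N : k₂ < D.nroots) (h3 : s ≠ k₁) (h4 : s ≠ D.neg k₁)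
    (h5 : s ≠ k₂) (h6 : s ≠ D.neg k₂) (h7 : D.commTerms k₂ s = [])
    (h8 : D.commTerms k₁ s = [(k₂, 2, 1, 1)] ∨ D.commTerms k₁ s = [(k₂, -2, 1, 1)])
    (hQ : cs A s ∈ K) (hP : Full (xg A) K r) (hP2 : Full (xg A) K k₂) : Full (xg A) K k₁ := by
  apply full_of_one hF A
  set u := xg A s 1 with hu
  set v := xg A (D.neg s) 1 with hv
  set y := xg A r 1 with hy
  set z₁ := xg A k₁ 1 with hz1
  set z₂ := xg A k₂ 1 with hz2
  have e1 : (-1 : F) = 1 := by
    have h2 := two_eq_zero hF
    linear_combination -h2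
  have huu : u * u = 1 := xg_sq hF A s
  have hvv : v * v = 1 := xg_sq hF A _
  have hvy : v * y = y * v := comm_nil A hr hnN hn1 hn2 hT 1 1
  have huy : u * y = y * u * (z₁ * z₂) := by
    have := comm_two A hr hs hne hneg hTs 1 1
    rw [int_odd_cast hF hc1, int_odd_cast hF hc2, e1] at this
    simpa using this
  have huz2 : u * z₂ = z₂ * u := comm_nil A hk2N hs h5 h6 h7 1 1
  have huz1 : u * z₁ = z₁ * u := by
    rcases h8 with h8 | h8
    · have := comm_single A hk1N hs h3 h4 h8 1 1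
      rw [int_even_cast hF (Or.inl rfl), neg_zero, zero_mul, zero_mul, x_zero (xg_add A), mul_one] at this
      exact this
    · have := comm_single A hk1N hs h3 h4 h8 1 1
      rw [int_even_cast hF (Or.inr rfl), neg_zero, zero_mul, zero_mul, x_zero (xg_add A), mul_one] at this
      exact this
  have key : cs A s * y * (cs A s)⁻¹ = y * z₁ * z₂ := by
    rw [cs_inv hF, cs_def, ← hu, ← hv]
    calc u * v * y * (v * u) = u * (v * y) * v * u := by group
      _ = u * (y * v) * v * u := by rw [hvy]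
      _ = u * y * (v * v) * u := by group
      _ = y * u * (z₁ * z₂) * u := by rw [hvv, mul_one, huy]
      _ = y * u * z₁ * (z₂ * u) := by group
      _ = y * u * z₁ * (u * z₂) := by rw [huz2]
      _ = y * (u * z₁) * u * z₂ := by group
      _ = y * (z₁ * u) * u * z₂ := by rw [huz1]
      _ = y * z₁ * (u * u) * z₂ := by group
      _ = y * z₁ * z₂ := by rw [huu, mul_one]
  have : z₁ = y⁻¹ * (cs A s * y * (cs A s)⁻¹) * z₂⁻¹ := by rw [key]; group
  rw [this]
  exact K.mul_mem (K.mul_mem (K.inv_mem (hP 1)) (K.mul_mem (K.mul_mem hQ (hP 1)) (K.inv_mem hQ)))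
    (K.inv_mem (hP2 1))

omit [Fintype F] hF in
theorem wAct_neg (A : Api D F)
    (hrn : ∀ i < D.rank, ∀ s < D.nroots, D.reflectRoot i (D.neg s) = D.neg (D.reflectRoot i s))
    (word : List ℕ) (hw : ∀ i ∈ word, i < D.rank) (s : ℕ) (hs : s < D.nroots) :
    wAct D word s < D.nroots ∧ wAct D word (D.neg s) = D.neg (wAct D word s) := by
  induction word with
  | nil => exact ⟨hs, rfl⟩
  | cons i w ih =>
    obtain ⟨hlt, h⟩ := ih (fun j hj => hw j (List.mem_cons_of_mem _ hj))
    have hi : i < D.rank := hw i List.mem_cons_self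
    have e1 : ∀ r, wAct D (i :: w) r = D.reflectRoot i (wAct D w r) := fun r => by simp [wAct]
    rw [e1, e1, h]
    exact ⟨A.refl_lt i hi _ hlt, hrn i hi _ hlt⟩

theorem cmove_sound (A : Api D F) (K : Subgroup (GL D.Idx F)) (hnl : ∀ s < D.nroots, D.neg s < D.nroots)
    (hrn : ∀ i < D.rank, ∀ s < D.nroots, D.reflectRoot i (D.neg s) = D.neg (D.reflectRoot i s))
    (w : List ℕ) (hw : ∀ i ∈ w, i < D.rank) (hwK : wordN A w ∈ K) (s : ℕ) (hs : s < D.nroots)
    (hQ : cs A s ∈ K) : cs A (wAct D w s) ∈ K := by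
  obtain ⟨_, η, hη, h1⟩ := wordN_conj A w hw s hs
  obtain ⟨_, η', hη', h2⟩ := wordN_conj A w hw (D.neg s) (hnl s hs)
  rw [(wAct_neg A hrn w hw s hs).2] at h2
  have e : cs A (wAct D w s) = wordN A w * cs A s * (wordN A w)⁻¹ := by
    have h1' := h1 1
    have h2' := h2 1
    rw [mul_one, eq_one_of_ne_zero hF hη] at h1'
    rw [mul_one, eq_one_of_ne_zero hF hη'] at h2'
    rw [cs_def, cs_def, ← h1', ← h2']
    group
  rw [e]
  exact K.mul_mem (K.mul_mem hwK hQ) (K.inv_mem hwK)

/-- a certificate for scheme C -/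
structure CertC where
  /-- the word of the monomial element `b` -/
  word : List ℕ
  /-- `a = x_{r₂}(1) c_s` -/
  r₂ : ℕ
  /-- the root of the element of order three -/
  s : ℕ
  /-- the closure certificate -/
  steps : List Step

omit [Fintype F] hF in
/-- the check of a certificate -/
def CertC.ok (D : ChevalleyDatum) (C : CertC) : Bool :=
  decide (∀ i ∈ C.word, i < D.rank) && decide (C.r₂ < D.nroots) && decide (C.s < D.nroots) &&
  decide (D.neg C.s < D.nroots) && decide (C.s ≠ C.r₂) && decide (C.s ≠ D.neg C.r₂) &&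
  decide (D.neg C.s ≠ C.r₂) && decide (D.neg C.s ≠ D.neg C.r₂) &&
  decide (D.commTerms C.r₂ C.s = []) && decide (D.commTerms C.r₂ (D.neg C.s) = []) &&
  allIn D.nroots ((machOf D [C.word] (fun c => decide (c = 1 ∨ c = -1))).run ([C.r₂], [C.s]) C.steps).1

/-- **Scheme C.** -/
theorem schemeC (A : Api D F) (hnl : ∀ s < D.nroots, D.neg s < D.nroots)
    (hrn : ∀ i < D.rank, ∀ s < D.nroots, D.reflectRoot i (D.neg s) = D.neg (D.reflectRoot i s))
    (hc3 : ∀ s < D.nroots, (xg A s 1 * xg A (D.neg s) 1) ^ 3 = 1)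
    (C : CertC) (hok : C.ok D = true) :
    ∃ a b : ↥(D.group F), Subgroup.closure ({a, b} : Set ↥(D.group F)) = ⊤ := by
  simp only [CertC.ok, Bool.and_eq_true, decide_eq_true_eq] at hok
  obtain ⟨⟨⟨⟨⟨⟨⟨⟨⟨⟨hword, hr2⟩, hs⟩, hns⟩, h1⟩, h2⟩, h3⟩, h4⟩, hT1⟩, hT2⟩, hall⟩ := hok
  set y := xg A C.r₂ 1 with hy
  set a := y * cs A C.s with ha
  set b := wordN A C.word with hb
  have hadd := xg_add A
  have haG : a ∈ D.group F :=
    Subgroup.mul_mem _ (xg_mem_group A _ _) (Subgroup.mul_mem _ (xg_mem_group A _ _) (xg_mem_group A _ _))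
  have hbG : b ∈ D.group F := wordN_mem_group A _
  refine two_gen_of_le haG hbG ?_
  set K := Subgroup.closure ({a, b} : Set (GL D.Idx F)) with hK
  have haK : a ∈ K := Subgroup.subset_closure (Set.mem_insert _ _)
  have hbK : b ∈ K := Subgroup.subset_closure (Set.mem_insert_of_mem _ rfl)
  have hcy : Commute y (cs A C.s) := by
    have e1 : xg A C.s 1 * y = y * xg A C.s 1 := comm_nil A hr2 hs h1 h2 hT1 1 1
    have e2 : xg A (D.neg C.s) 1 * y = y * xg A (D.neg C.s) 1 := comm_nil A hr2 hns h3 h4 hT2 1 1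
    show y * cs A C.s = cs A C.s * y
    rw [cs_def]
    calc y * (xg A C.s 1 * xg A (D.neg C.s) 1) = (y * xg A C.s 1) * xg A (D.neg C.s) 1 := by group
      _ = (xg A C.s 1 * y) * xg A (D.neg C.s) 1 := by rw [e1]
      _ = xg A C.s 1 * (y * xg A (D.neg C.s) 1) := by group
      _ = xg A C.s 1 * (xg A (D.neg C.s) 1 * y) := by rw [e2]
      _ = xg A C.s 1 * xg A (D.neg C.s) 1 * y := by group
  have h2F := two_eq_zero hF
  have hc3' : cs A C.s ^ 3 = 1 := hc3 C.s hs
  have ha3 : a ^ 3 = y := by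
    rw [ha, hcy.mul_pow, hc3', mul_one, hy, x_pow hadd]
    congr 1
    push_cast
    linear_combination h2F
  have ha4 : a ^ 4 = cs A C.s := by
    rw [ha, hcy.mul_pow, hy, x_pow hadd]
    have e1 : ((4 : ℕ) : F) * 1 = 0 := by
      push_cast
      linear_combination 2 * h2F
    have e2 : cs A C.s ^ 4 = cs A C.s := by
      rw [pow_succ, hc3', one_mul]
    rw [e1, x_zero hadd, one_mul, e2]
  have hyK : y ∈ K := ha3 ▸ K.pow_mem haK 3
  have hcK : cs A C.s ∈ K := ha4 ▸ K.pow_mem haK 4
  have hS : (machOf D [C.word] (fun c => decide (c = 1 ∨ c = -1))).Sound (Full (xg A) K)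
      (fun s => cs A s ∈ K) :=
    mach_sound A K [C.word] (by simpa using hbK) (by simpa using hword) _
      (by
        intro c hc
        simp only [decide_eq_true_eq] at hc
        rw [int_odd_cast hF hc]
        exact one_ne_zero) _
      (cconj_sound hF A K) (cconj2_sound hF A K)
      (by
        intro w hw s hs' hQ
        simp only [List.mem_cons, List.not_mem_nil, or_false] at hw
        subst hw
        exact cmove_sound hF A K hnl hrn C.word hword hbK s hs' hQ)
  have hrun := (Mach.run_sound hS C.steps ([C.r₂], [C.s])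
    (by
      intro r hr
      simp only [List.mem_cons, List.not_mem_nil, or_false] at hr
      rw [hr]; exact full_of_one hF A hyK)
    (by
      intro s hs'
      simp only [List.mem_cons, List.not_mem_nil, or_false] at hs'
      rw [hs']; exact hcK)).1
  exact group_le A K (fun r hr => hrun r (allIn_spec hall hr))

end two

end Cfsg.Agent.Lib.Helper5_TwoGenChev
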