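import Cfsg.Agent.S1023
import Cfsg.Agent.S1024
import Cfsg.Agent.S1025
import Cfsg.Agent.S1030
import Cfsg.Agent.S1031
import Cfsg.Agent.S1032
import Cfsg.Agent.S1033
import Cfsg.Agent.S1038
import Cfsg.Agent.Lib.Helper36_ChevTorusAll
import Cfsg.Agent.Lib.Helper5_TwoGenChev

/-!
# The facts `Api D F` for the seven tabulated Chevalley data, from the landed rows (helper5, S2405)
-/

set_option autoImplicit false

namespace Cfsg.Agent.Lib.Helper5_TwoGenApi

open Cfsg Cfsg.Lie Cfsg.Agent.Lib.Helper5_TwoGenAbs Cfsg.Agent.Lib.Helper5_TwoGenChev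

open scoped MatrixGroups Matrix

theorem api (D : ChevalleyDatum)
    (hD : D ∈ [chevG2, chevB2, chevD4, chevF4, chevE6, chevE7, chevE8]) (F : Type*) [Field F] : Api D F := by
  have hf := Cfsg.Agent.Lib.Helper36_ChevTorusAll.facts_of_mem D hD F
  refine
    { add := fun r hr t₁ t₂ => Cfsg.Agent.S1023.result D hD r hr t₁ t₂
      zero := fun r hr => (Cfsg.Agent.S1024.result D hD r hr 0).mpr rfl
      comm := fun r s hr hs hne hneg t u => Cfsg.Agent.S1025.result D hD r s hr hs hne hneg t u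
      nconj := fun i s hi hs => Cfsg.Agent.S1031.result D hD i s hi hs
      hconj := fun i s hi hs c hc t => Cfsg.Agent.S1032.result D hD i s hi hs c hc t
      hdiag := fun i hi c hc => Cfsg.Agent.S1033.result D hD i hi c hc
      refl_lt := fun i hi s hs => Cfsg.Agent.Lib.Helper36_ChevTorus.reflect_lt D hf.hrc i hi s hs
      simple_lt := fun i hi => (hf.hsimple i hi).1
      Hcomm := ?_
      Hnormal := ?_ }
  · intro g g' hg hg'
    obtain ⟨u, rfl⟩ := (hf.mem_diag g).mp hg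
    obtain ⟨v, rfl⟩ := (hf.mem_diag g').mp hg'
    rw [← Cfsg.Agent.Lib.Helper36_ChevTorus.torusGL_mul, ← Cfsg.Agent.Lib.Helper36_ChevTorus.torusGL_mul,
      mul_comm]
  · intro n hn g hg
    have hN := Cfsg.Agent.S1038.result D hD (F := F)
    have hle : D.diagonalSubgroup F ≤ D.monomialSubgroup F := by
      unfold ChevalleyDatum.monomialSubgroup
      exact le_sup_left
    have := hN.conj_mem ⟨g, hle hg⟩ (Subgroup.mem_subgroupOf.mpr hg) ⟨n, hn⟩
    exact Subgroup.mem_subgroupOf.mp this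


/-- over the field with two elements `x_s(1) x_{-s}(1)` has order dividing three -/
theorem c3 (D : ChevalleyDatum)
    (hD : D ∈ [chevG2, chevB2, chevD4, chevF4, chevE6, chevE7, chevE8]) (F : Type*) [Field F] [Fintype F]
    (hF : Fintype.card F = 2) (s : ℕ) (hs : s < D.nroots) :
    (xg (api D hD F) s 1 * xg (api D hD F) (D.neg s) 1) ^ 3 = 1 := by
  obtain ⟨φ, -, hφ⟩ := Cfsg.Agent.S1030.result (F := F) D hD s hs
  have h2 : (2 : F) = 0 := two_eq_zero hF
  have hdU : (!![1, 1; 0, 1] : Matrix (Fin 2) (Fin 2) F).det = 1 := by simp [Matrix.det_fin_two]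
  have hdL : (!![1, 0; 1, 1] : Matrix (Fin 2) (Fin 2) F).det = 1 := by simp [Matrix.det_fin_two]
  set U : Matrix.SpecialLinearGroup (Fin 2) F := ⟨!![1, 1; 0, 1], hdU⟩ with hU
  set L : Matrix.SpecialLinearGroup (Fin 2) F := ⟨!![1, 0; 1, 1], hdL⟩ with hL
  have e1 : φ U = xg (api D hD F) s 1 := Units.ext ((hφ U 1).1 rfl)
  have e2 : φ L = xg (api D hD F) (D.neg s) 1 := Units.ext ((hφ L 1).2 rfl)
  have e3 : (U * L) ^ 3 = 1 := by
    apply Subtype.ext
    have e11 : (1 : F) + 1 = 0 := by rw [one_add_one_eq_two]; exact h2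
    have hUL : ((U * L : Matrix.SpecialLinearGroup (Fin 2) F) : Matrix (Fin 2) (Fin 2) F) = !![0, 1; 1, 1] := by
      show (!![1, 1; 0, 1] : Matrix (Fin 2) (Fin 2) F) * !![1, 0; 1, 1] = !![0, 1; 1, 1]
      rw [Matrix.mul_fin_two]
      simp [e11]
    rw [Matrix.SpecialLinearGroup.coe_pow, hUL, pow_succ, pow_two, Matrix.mul_fin_two, Matrix.mul_fin_two]
    simp [e11, Matrix.one_fin_two]
  rw [← e1, ← e2, ← map_mul, ← map_pow, e3, map_one]

end Cfsg.Agent.Lib.Helper5_TwoGenApi
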