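import Cfsg.Prelude.Def_ChevD4
import Cfsg.Agent.Lib.Helper5_TwoGenChev

/-!
# Two-generation certificates for the Chevalley datum of type D4 (helper5, S2405; generated by a search script)
-/

set_option autoImplicit false
set_option maxRecDepth 1000000

namespace Cfsg.Agent.Lib.Helper5_TwoGenCertD4

open Cfsg Cfsg.Lie Cfsg.Agent.Lib.Helper5_TwoGenAbs Cfsg.Agent.Lib.Helper5_TwoGenChev

/-- certificate for scheme T -/
def certT : CertT where
  word := [0, 1, 2, 3]
  p := 0
  r₁ := 1
  s₁ := 9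
  r₂ := 10
  j := some 1
  steps := [
    .nconj 0 1, .nconj 0 21, .comm 1 21, .comm 1 18, .comm 21 15, .comm 18 15, .nconj 0 18, .nconj 0 15,
    .nconj 0 6, .nconj 0 23, .nconj 0 20, .comm 1 20, .comm 1 13, .comm 1 17, .comm 18 17, .comm 6 13,
    .nconj 0 13, .nconj 0 17, .nconj 0 16, .nconj 0 3, .nconj 0 5, .comm 1 9]

theorem certT_ok : certT.ok chevD4 [1, -1] (fun c => decide (c = 1 ∨ c = -1)) = true := by decide +kernel

/-- certificate for scheme C -/
def certC : CertC where
  word := [0, 1, 2, 3]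
  r₂ := 1
  s := 15
  steps := [
    .nconj 0 1, .cmove 0 15, .comm 1 18, .cconj 15 18, .cconj 15 6, .cconj 13 1, .cconj 13 6, .cconj 13 20,
    .nconj 0 18, .nconj 0 6, .nconj 0 20, .nconj 0 10, .nconj 0 3, .nconj 0 22, .cmove 0 13, .comm 1 21,
    .comm 20 16, .comm 20 5, .comm 3 22, .comm 3 7, .comm 22 5, .comm 7 5, .cconj 13 7, .cconj 13 2,
    .cconj 2 22]

theorem certC_ok : certC.ok chevD4 = true := by decide +kernel

theorem neg_lt : ∀ s < chevD4.nroots, chevD4.neg s < chevD4.nroots := by decide +kernel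

theorem refl_neg : ∀ i < chevD4.rank, ∀ s < chevD4.nroots,
    chevD4.reflectRoot i (chevD4.neg s) = chevD4.neg (chevD4.reflectRoot i s) := by decide +kernel

end Cfsg.Agent.Lib.Helper5_TwoGenCertD4
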