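import Cfsg.Prelude.Def_ChevE6
import Cfsg.Agent.Lib.Helper5_TwoGenChev

/-!
# Two-generation certificates for the Chevalley datum of type E6 (helper5, S2405; generated by a search script)
-/

set_option autoImplicit false
set_option maxRecDepth 1000000

namespace Cfsg.Agent.Lib.Helper5_TwoGenCertE6

open Cfsg Cfsg.Lie Cfsg.Agent.Lib.Helper5_TwoGenAbs Cfsg.Agent.Lib.Helper5_TwoGenChev

/-- certificate for scheme T -/
def certT : CertT where
  word := [0, 1, 2, 3, 4, 5]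
  p := 0
  r₁ := 5
  s₁ := 18
  r₂ := 0
  j := some 2
  steps := [
    .nconj 0 5, .nconj 0 16, .nconj 0 26, .nconj 0 30, .nconj 0 57, .nconj 0 61, .nconj 0 50, .nconj 0 67,
    .comm 5 64, .nconj 0 64, .nconj 0 71, .nconj 0 33, .comm 5 69, .comm 5 70, .comm 16 70, .nconj 0 69,
    .nconj 0 70, .nconj 0 62, .nconj 0 42, .nconj 0 43, .nconj 0 58, .comm 5 55, .comm 5 48, .comm 16 54,
    .comm 33 55, .nconj 0 54, .nconj 0 55, .nconj 0 47, .nconj 0 48, .nconj 0 51, .nconj 0 15, .nconj 0 11,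
    .nconj 0 34, .nconj 0 53, .comm 5 40, .comm 5 41, .comm 5 59, .comm 5 60, .comm 5 29, .comm 16 40,
    .comm 16 41, .comm 33 41, .comm 42 40, .comm 42 41, .comm 15 29, .nconj 0 40, .nconj 0 41, .nconj 0 59,
    .nconj 0 29, .nconj 0 35, .nconj 0 8, .nconj 0 9, .nconj 0 22, .nconj 0 2, .nconj 0 19, .nconj 0 20,
    .nconj 0 39, .nconj 0 44, .nconj 0 14, .comm 5 38, .comm 5 63, .comm 5 28, .comm 5 49, .comm 5 21,
    .comm 16 38, .comm 16 49, .comm 43 21, .comm 15 28, .comm 34 38, .comm 9 28]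

theorem certT_ok : certT.ok chevE6 [1, -1] (fun c => decide (c = 1 ∨ c = -1)) = true := by decide +kernel

/-- certificate for scheme C -/
def certC : CertC where
  word := [0, 1, 2, 3, 4, 5]
  r₂ := 0
  s := 43
  steps := [
    .nconj 0 0, .cmove 0 43, .cconj 43 1, .cconj 48 0, .cconj 48 5, .nconj 0 1, .nconj 0 5, .nconj 0 3,
    .nconj 0 11, .cmove 0 48, .cconj 43 3, .cconj 43 26, .cconj 43 18, .cconj 43 56, .cconj 48 18,
    .cconj 48 58, .cconj 60 3, .cconj 60 8, .nconj 0 16, .nconj 0 26, .nconj 0 56, .nconj 0 33, .nconj 0 58,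
    .nconj 0 64, .nconj 0 21, .nconj 0 25, .cmove 0 60, .comm 0 64, .comm 0 62, .comm 0 51, .comm 0 69,
    .comm 1 69, .comm 3 69, .comm 8 57, .comm 8 62, .comm 8 69, .comm 33 69, .comm 64 13, .comm 25 62,
    .comm 25 13, .cconj 43 13, .cconj 43 48, .cconj 48 25, .cconj 60 13, .cconj 60 48, .cconj 60 15,
    .cconj 60 53, .cconj 15 58, .cconj 15 66, .nconj 0 30, .nconj 0 57, .nconj 0 42, .nconj 0 62,
    .nconj 0 51, .nconj 0 69, .nconj 0 7, .nconj 0 13, .nconj 0 17, .nconj 0 6, .nconj 0 24, .nconj 0 32,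
    .nconj 0 37, .nconj 0 22, .nconj 0 35, .nconj 0 44, .nconj 0 67, .nconj 0 48, .nconj 0 59, .nconj 0 10,
    .nconj 0 15, .nconj 0 38, .nconj 0 45, .nconj 0 55, .cmove 0 15, .comm 8 65]

theorem certC_ok : certC.ok chevE6 = true := by decide +kernel

theorem neg_lt : ∀ s < chevE6.nroots, chevE6.neg s < chevE6.nroots := by decide +kernel

theorem refl_neg : ∀ i < chevE6.rank, ∀ s < chevE6.nroots,
    chevE6.reflectRoot i (chevE6.neg s) = chevE6.neg (chevE6.reflectRoot i s) := by decide +kernel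

end Cfsg.Agent.Lib.Helper5_TwoGenCertE6
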