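import Cfsg.Prelude.Def_ChevE7
import Cfsg.Agent.Lib.Helper5_TwoGenChev

/-!
# Two-generation certificates for the Chevalley datum of type E7 (helper5, S2405; generated by a search script)
-/

set_option autoImplicit false
set_option maxRecDepth 1000000

namespace Cfsg.Agent.Lib.Helper5_TwoGenCertE7

open Cfsg Cfsg.Lie Cfsg.Agent.Lib.Helper5_TwoGenAbs Cfsg.Agent.Lib.Helper5_TwoGenChev

/-- certificate for scheme T -/
def certT : CertT where
  word := [0, 1, 2, 3, 4, 5, 6]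
  p := 0
  r₁ := 1
  s₁ := 0
  r₂ := 3
  j := some 2
  steps := [
    .nconj 0 1, .nconj 0 34, .nconj 0 2, .nconj 0 54, .nconj 0 7, .nconj 0 57, .nconj 0 33, .nconj 0 100,
    .nconj 0 53, .nconj 0 110, .comm 1 120, .nconj 0 99, .nconj 0 120, .nconj 0 49, .comm 1 115,
    .comm 49 115, .nconj 0 109, .nconj 0 115, .nconj 0 43, .nconj 0 39, .nconj 0 103, .comm 1 119,
    .comm 1 122, .comm 1 112, .comm 34 122, .comm 39 122, .nconj 0 119, .nconj 0 122, .nconj 0 78,
    .nconj 0 56, .nconj 0 112, .nconj 0 48, .nconj 0 51, .nconj 0 36, .nconj 0 101, .nconj 0 106,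
    .comm 1 125, .comm 1 117, .comm 1 121, .comm 1 111, .comm 1 114, .comm 49 117, .comm 49 114,
    .comm 39 121, .comm 39 114, .comm 51 117, .nconj 0 125, .nconj 0 117, .nconj 0 95, .nconj 0 59,
    .nconj 0 121, .nconj 0 94, .nconj 0 45, .nconj 0 55, .nconj 0 111, .nconj 0 114, .nconj 0 93,
    .nconj 0 41, .nconj 0 50, .nconj 0 35, .nconj 0 38, .nconj 0 105, .nconj 0 102, .nconj 0 104,
    .nconj 0 97, .nconj 0 108, .comm 1 91, .comm 1 84, .comm 1 116, .comm 1 87, .comm 1 89, .comm 1 75,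
    .comm 1 74, .comm 1 113, .comm 1 86, .comm 1 77, .comm 49 77, .comm 39 91, .comm 39 84, .comm 39 89,
    .comm 39 113, .comm 39 77, .comm 48 91, .comm 48 89, .comm 51 116, .comm 51 89, .comm 51 75, .comm 51 77,
    .comm 36 77, .comm 106 89, .comm 106 77, .comm 93 77, .comm 41 91, .comm 41 86, .nconj 0 91, .nconj 0 61,
    .nconj 0 116, .nconj 0 21, .nconj 0 44, .nconj 0 75, .nconj 0 113, .nconj 0 77, .nconj 0 15, .nconj 0 40,
    .nconj 0 4, .nconj 0 37, .nconj 0 6, .nconj 0 63, .nconj 0 70, .nconj 0 96, .nconj 0 47, .nconj 0 107,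
    .nconj 0 66, .nconj 0 68, .nconj 0 46, .nconj 0 118, .nconj 0 98, .nconj 0 72, .nconj 0 65, .comm 1 123,
    .comm 1 118, .comm 1 90, .comm 1 92, .comm 2 92]

theorem certT_ok : certT.ok chevE7 [1, -1] (fun c => decide (c = 1 ∨ c = -1)) = true := by decide +kernel

/-- certificate for scheme C -/
def certC : CertC where
  word := [0, 1, 2, 3, 4, 5, 6]
  r₂ := 0
  s := 74
  steps := [
    .nconj 0 0, .cmove 0 74, .cconj 74 1, .cconj 80 3, .nconj 0 1, .nconj 0 3, .nconj 0 11, .cmove 0 80,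
    .cconj 74 8, .cconj 74 36, .cconj 80 43, .cconj 97 0, .cconj 97 11, .nconj 0 2, .nconj 0 8, .nconj 0 36,
    .nconj 0 17, .nconj 0 43, .nconj 0 60, .nconj 0 5, .nconj 0 39, .cmove 0 97, .comm 0 101, .comm 17 101,
    .cconj 74 48, .cconj 74 78, .cconj 74 101, .cconj 74 10, .cconj 74 56, .cconj 74 9, .cconj 80 5,
    .cconj 80 110, .cconj 80 19, .cconj 80 73, .cconj 80 18, .cconj 97 10, .cconj 97 19, .cconj 97 84,
    .cconj 97 27, .cconj 86 5, .cconj 86 14, .cconj 86 62, .nconj 0 7, .nconj 0 34, .nconj 0 55, .nconj 0 48,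
    .nconj 0 78, .nconj 0 101, .nconj 0 56, .nconj 0 9, .nconj 0 53, .nconj 0 57, .nconj 0 83, .nconj 0 110,
    .nconj 0 73, .nconj 0 18, .nconj 0 119, .nconj 0 84, .nconj 0 27, .nconj 0 112, .nconj 0 62, .nconj 0 22,
    .nconj 0 30, .nconj 0 85, .cmove 0 86, .comm 0 112, .comm 0 104, .comm 0 121, .comm 1 121, .comm 17 125,
    .comm 5 125, .comm 5 121, .comm 14 120, .comm 14 125, .comm 14 121, .comm 14 102, .comm 14 105,
    .comm 22 120, .comm 22 125, .comm 22 105, .comm 30 125, .comm 30 41, .comm 30 105, .cconj 74 14,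
    .cconj 74 30, .cconj 74 80, .cconj 74 106, .cconj 74 81, .cconj 74 52, .cconj 74 122, .cconj 74 16,
    .cconj 74 82, .cconj 80 25, .cconj 97 30, .cconj 97 82, .cconj 97 32, .cconj 97 89, .cconj 97 31,
    .cconj 86 71, .cconj 69 73, .cconj 69 122, .nconj 0 59, .nconj 0 79, .nconj 0 104, .nconj 0 121,
    .nconj 0 13, .nconj 0 41, .nconj 0 105, .nconj 0 12, .nconj 0 29, .nconj 0 50, .nconj 0 64, .nconj 0 81,
    .nconj 0 52, .nconj 0 65, .nconj 0 16, .nconj 0 82, .nconj 0 88, .nconj 0 69, .nconj 0 25, .nconj 0 89,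
    .nconj 0 31, .nconj 0 108, .nconj 0 117, .nconj 0 71, .nconj 0 92, .nconj 0 123, .cmove 0 69,
    .comm 0 118, .comm 60 92]

theorem certC_ok : certC.ok chevE7 = true := by decide +kernel

theorem neg_lt : ∀ s < chevE7.nroots, chevE7.neg s < chevE7.nroots := by decide +kernel

theorem refl_neg : ∀ i < chevE7.rank, ∀ s < chevE7.nroots,
    chevE7.reflectRoot i (chevE7.neg s) = chevE7.neg (chevE7.reflectRoot i s) := by decide +kernel

end Cfsg.Agent.Lib.Helper5_TwoGenCertE7
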