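import Cfsg.Prelude.Def_ChevE8
import Cfsg.Agent.Lib.Helper5_TwoGenChev

/-!
# Two-generation certificates for the Chevalley datum of type E8 (helper5, S2405; generated by a search script)
-/

set_option autoImplicit false
set_option maxRecDepth 1000000

namespace Cfsg.Agent.Lib.Helper5_TwoGenCertE8

open Cfsg Cfsg.Lie Cfsg.Agent.Lib.Helper5_TwoGenAbs Cfsg.Agent.Lib.Helper5_TwoGenChev

/-- certificate for scheme T -/
def certT : CertT where
  word := [0, 1, 2, 3, 4, 5, 6, 7]
  p := 0
  r₁ := 6
  s₁ := 20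
  r₂ := 0
  j := some 1
  steps := [
    .nconj 0 6, .nconj 0 15, .nconj 0 7, .nconj 0 21, .nconj 0 14, .nconj 0 36, .nconj 0 8, .nconj 0 78,
    .nconj 0 16, .nconj 0 105, .nconj 0 22, .nconj 0 169, .nconj 0 37, .nconj 0 184, .comm 6 204,
    .nconj 0 79, .nconj 0 204, .nconj 0 56, .comm 6 226, .comm 6 99, .nconj 0 106, .nconj 0 226, .nconj 0 99,
    .nconj 0 93, .comm 6 234, .nconj 0 110, .nconj 0 234, .nconj 0 163, .nconj 0 141, .nconj 0 135,
    .comm 6 235, .comm 6 142, .nconj 0 170, .nconj 0 235, .nconj 0 147, .nconj 0 164, .nconj 0 142,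
    .nconj 0 136, .nconj 0 9, .comm 6 236, .comm 6 174, .comm 6 143, .comm 93 143, .comm 136 143,
    .nconj 0 185, .nconj 0 236, .nconj 0 174, .nconj 0 148, .nconj 0 165, .nconj 0 143, .nconj 0 17,
    .nconj 0 137, .nconj 0 26, .nconj 0 10, .nconj 0 114, .nconj 0 152, .comm 6 205, .comm 6 237,
    .comm 6 175, .comm 6 144, .comm 6 178, .comm 93 144, .comm 136 144, .comm 136 178, .comm 9 178,
    .comm 137 144, .nconj 0 205, .nconj 0 237, .nconj 0 188, .nconj 0 175, .nconj 0 149, .nconj 0 166,
    .nconj 0 23, .nconj 0 144, .nconj 0 40, .nconj 0 18, .nconj 0 171, .nconj 0 178, .nconj 0 57,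
    .nconj 0 138, .nconj 0 27, .nconj 0 11, .nconj 0 30, .nconj 0 117, .nconj 0 153, .nconj 0 194,
    .nconj 0 46, .nconj 0 156, .comm 6 227, .comm 6 238, .comm 6 207, .comm 6 176, .comm 6 100, .comm 6 145,
    .comm 6 179, .comm 6 210, .comm 6 181, .comm 56 238, .comm 56 145, .comm 93 145, .comm 136 100,
    .comm 136 145, .comm 136 179, .comm 136 181, .comm 9 179, .comm 9 181, .comm 137 100, .comm 137 145,
    .comm 137 181, .comm 26 181, .comm 10 181, .comm 152 181, .comm 138 100, .comm 138 145, .comm 227 145,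
    .comm 227 19, .nconj 0 238, .nconj 0 207, .nconj 0 189, .nconj 0 176, .nconj 0 150, .nconj 0 38,
    .nconj 0 167, .nconj 0 81, .nconj 0 24, .nconj 0 186, .nconj 0 191, .nconj 0 145, .nconj 0 41,
    .nconj 0 19, .nconj 0 43, .nconj 0 172, .nconj 0 179, .nconj 0 210, .nconj 0 84, .nconj 0 181,
    .nconj 0 139, .nconj 0 59, .nconj 0 28, .nconj 0 12, .nconj 0 31, .nconj 0 62, .nconj 0 33, .nconj 0 119,
    .nconj 0 154, .nconj 0 195, .nconj 0 197, .nconj 0 47, .nconj 0 49, .nconj 0 157, .nconj 0 200,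
    .nconj 0 88, .nconj 0 52, .nconj 0 214, .nconj 0 159, .nconj 0 233, .comm 6 214, .comm 6 239,
    .comm 6 228, .comm 6 208, .comm 6 177, .comm 6 206, .comm 6 209, .comm 6 229, .comm 6 146, .comm 6 101,
    .comm 6 102, .comm 6 180, .comm 6 211, .comm 6 212, .comm 6 182, .comm 6 213, .comm 6 230, .comm 6 183,
    .comm 7 230, .comm 56 239, .comm 56 146, .comm 136 146, .comm 136 101, .comm 136 102, .comm 136 180,
    .comm 136 212, .comm 136 182, .comm 136 213, .comm 136 183, .comm 9 180, .comm 9 212, .comm 9 182,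
    .comm 9 213, .comm 9 183, .comm 137 146, .comm 137 101, .comm 137 182, .comm 137 213, .comm 137 183,
    .comm 26 182, .comm 26 183, .comm 10 182, .comm 10 213, .comm 10 87, .comm 10 230, .comm 10 183,
    .comm 152 182, .comm 152 213, .comm 152 183, .comm 57 183, .comm 138 146, .comm 138 102, .comm 138 183,
    .comm 27 183, .comm 11 230, .comm 11 183, .comm 30 183, .comm 153 183, .comm 194 183, .comm 46 183,
    .comm 156 183, .comm 94 146, .comm 139 146, .comm 139 102, .comm 12 230, .nconj 0 239, .nconj 0 151,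
    .nconj 0 168, .nconj 0 146, .nconj 0 140, .nconj 0 13, .nconj 0 155, .nconj 0 158, .nconj 0 160,
    .nconj 0 161, .nconj 0 124, .nconj 0 128, .comm 6 215, .comm 6 216, .comm 6 217, .comm 6 218, .comm 239 4]

theorem certT_ok : certT.ok chevE8 [1, -1] (fun c => decide (c = 1 ∨ c = -1)) = true := by decide +kernel

/-- certificate for scheme C -/
def certC : CertC where
  word := [0, 1, 2, 3, 4, 5, 6, 7]
  r₂ := 0
  s := 200
  steps := [
    .nconj 0 0, .cmove 0 200, .cconj 200 15, .cconj 213 0, .nconj 0 15, .nconj 0 84, .nconj 0 43,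
    .cmove 0 213, .cconj 200 21, .cconj 200 108, .cconj 200 83, .cconj 199 0, .cconj 199 43, .nconj 0 21,
    .nconj 0 108, .nconj 0 83, .nconj 0 93, .nconj 0 191, .nconj 0 167, .nconj 0 28, .nconj 0 124,
    .cmove 0 199, .comm 0 209, .comm 0 151, .comm 0 122, .comm 84 112, .comm 84 58, .comm 84 209,
    .comm 84 151, .comm 84 122, .comm 43 122, .comm 93 141, .comm 93 209, .comm 93 151, .comm 93 122,
    .comm 191 122, .comm 28 151, .cconj 200 36, .cconj 200 112, .cconj 200 58, .cconj 200 141,
    .cconj 200 209, .cconj 200 151, .cconj 200 42, .cconj 200 122, .cconj 200 38, .cconj 200 8, .cconj 200 2,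
    .cconj 200 45, .cconj 200 61, .cconj 158 0, .cconj 158 43, .cconj 158 28, .cconj 158 124, .cconj 158 38,
    .cconj 158 79, .cconj 158 172, .cconj 158 105, .cconj 158 186, .cconj 158 119, .nconj 0 36, .nconj 0 112,
    .nconj 0 58, .nconj 0 141, .nconj 0 209, .nconj 0 151, .nconj 0 42, .nconj 0 122, .nconj 0 38,
    .nconj 0 8, .nconj 0 2, .nconj 0 79, .nconj 0 22, .nconj 0 172, .nconj 0 109, .nconj 0 86, .nconj 0 45,
    .nconj 0 105, .nconj 0 186, .nconj 0 135, .nconj 0 95, .nconj 0 193, .nconj 0 61, .nconj 0 114,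
    .nconj 0 195, .nconj 0 137, .nconj 0 210, .nconj 0 238, .nconj 0 223, .nconj 0 126, .nconj 0 202,
    .nconj 0 119, .nconj 0 62, .nconj 0 31, .nconj 0 128, .nconj 0 139, .nconj 0 10, .nconj 0 75,
    .nconj 0 68, .nconj 0 161, .nconj 0 73, .nconj 0 116, .nconj 0 212, .nconj 0 148, .nconj 0 221,
    .nconj 0 157, .cmove 0 158, .comm 0 193, .comm 0 161, .comm 0 212, .comm 0 221, .comm 0 196, .comm 0 155,
    .comm 0 211, .comm 0 229, .comm 0 217, .comm 0 160, .comm 0 125, .comm 0 146, .comm 0 134, .comm 15 221,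
    .comm 15 155, .comm 15 134, .comm 15 198, .comm 15 215, .comm 84 221, .comm 84 196, .comm 84 130,
    .comm 84 67, .comm 84 187, .comm 84 60, .comm 84 29, .comm 84 206, .comm 84 142, .comm 84 48,
    .comm 84 239, .comm 84 217, .comm 84 160, .comm 84 125, .comm 84 146, .comm 84 134, .comm 84 198,
    .comm 84 215, .comm 43 221, .comm 43 155, .comm 43 239, .comm 43 134, .comm 21 215, .comm 108 215,
    .comm 83 157, .comm 83 215, .comm 93 206, .comm 93 142, .comm 93 72, .comm 93 155, .comm 93 211,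
    .comm 93 144, .comm 93 239, .comm 93 217, .comm 93 160, .comm 93 125, .comm 93 134, .comm 93 215,
    .comm 191 206, .comm 191 142, .comm 191 72, .comm 191 155, .comm 191 134, .comm 191 215, .comm 167 206,
    .comm 167 142, .comm 167 155, .comm 167 48, .comm 167 146, .comm 167 215, .comm 28 160, .comm 28 146,
    .comm 36 238, .comm 58 128, .comm 58 182, .comm 8 134, .comm 79 146, .comm 79 215, .comm 79 182,
    .comm 22 239, .comm 22 160, .comm 22 125, .comm 22 134, .comm 22 198, .comm 22 182, .comm 172 215,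
    .comm 109 134, .comm 109 198, .comm 86 198, .comm 86 215, .comm 105 155, .comm 105 198, .comm 105 215,
    .comm 186 215, .comm 135 134, .comm 135 215, .comm 114 155, .comm 114 229, .comm 114 239, .comm 114 217,
    .comm 114 160, .comm 114 146, .comm 114 134, .comm 195 160, .comm 195 146, .comm 137 146, .comm 137 182,
    .comm 210 155, .comm 210 134, .comm 119 67, .comm 119 60, .comm 119 72, .comm 119 155, .comm 119 48,
    .comm 119 160, .comm 119 146, .comm 119 53, .comm 119 134, .comm 62 29, .comm 62 155, .comm 62 125,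
    .comm 62 91, .comm 62 134, .comm 31 102, .comm 31 44, .comm 31 125, .comm 31 146, .comm 10 217,
    .comm 78 239, .comm 46 125, .cconj 200 101, .cconj 200 25, .cconj 200 147, .cconj 200 50, .cconj 132 189,
    .cconj 132 101, .cconj 132 25, .cconj 132 147]

theorem certC_ok : certC.ok chevE8 = true := by decide +kernel

theorem neg_lt : ∀ s < chevE8.nroots, chevE8.neg s < chevE8.nroots := by decide +kernel

theorem refl_neg : ∀ i < chevE8.rank, ∀ s < chevE8.nroots,
    chevE8.reflectRoot i (chevE8.neg s) = chevE8.neg (chevE8.reflectRoot i s) := by decide +kernel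

end Cfsg.Agent.Lib.Helper5_TwoGenCertE8
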