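import Cfsg.Prelude.Def_ChevF4
import Cfsg.Agent.Lib.Helper5_TwoGenChev

/-!
# Two-generation certificates for the Chevalley datum of type F4 (helper5, S2405; generated by a search script)
-/

set_option autoImplicit false
set_option maxRecDepth 1000000

namespace Cfsg.Agent.Lib.Helper5_TwoGenCertF4

open Cfsg Cfsg.Lie Cfsg.Agent.Lib.Helper5_TwoGenAbs Cfsg.Agent.Lib.Helper5_TwoGenChev

/-- certificate for scheme T -/
def certT : CertT where
  word := [0, 1, 2, 3]
  p := 2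
  r₁ := 1
  s₁ := 2
  r₂ := 3
  j := some 2
  steps := [
    .nconj 0 1, .nconj 0 8, .nconj 0 0, .nconj 0 18, .nconj 0 15, .nconj 0 34, .nconj 0 21, .nconj 0 37,
    .nconj 0 41, .nconj 0 44, .comm 1 45, .comm 8 40, .nconj 0 45, .nconj 0 40, .nconj 0 22, .nconj 0 27,
    .nconj 0 46, .nconj 0 39, .nconj 0 23, .nconj 0 35, .comm 1 47, .comm 8 29, .nconj 0 47, .nconj 0 29,
    .nconj 0 42, .nconj 0 38, .nconj 0 24, .nconj 0 12, .comm 1 32, .comm 1 30, .comm 8 13, .comm 8 28,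
    .comm 22 32, .comm 27 13, .nconj 0 32, .nconj 0 13, .nconj 0 30, .nconj 0 28, .nconj 0 5, .nconj 0 9,
    .nconj 0 6, .nconj 0 4, .nconj 0 3, .nconj 0 11, .nconj 0 31, .nconj 0 14]

theorem certT_ok : certT.ok chevF4 [1, -1] (fun c => decide (c = 1 ∨ c = -1)) = true := by decide +kernel

/-- certificate for scheme C -/
def certC : CertC where
  word := [0, 1, 2, 3]
  r₂ := 0
  s := 10
  steps := [
    .nconj 0 0, .cmove 0 10, .nconj 0 15, .cmove 0 3, .nconj 0 21, .cmove 0 7, .cconj2 3 41, .nconj 0 41,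
    .nconj 0 18, .cmove 0 8, .cconj 10 18, .cconj 10 34, .cconj 3 34, .nconj 0 45, .nconj 0 34, .nconj 0 19,
    .cmove 0 18, .comm 0 46, .cconj 10 11, .nconj 0 46, .nconj 0 37, .nconj 0 11, .nconj 0 23, .cmove 0 34,
    .cconj 10 44, .cconj 3 36, .nconj 0 47, .nconj 0 44, .nconj 0 33, .nconj 0 42, .nconj 0 36, .cmove 0 37,
    .comm 0 32, .comm 19 40, .comm 19 14, .comm 36 14, .cconj2 3 46, .cconj 7 28, .cconj 44 9, .nconj 0 32,
    .nconj 0 40, .nconj 0 30, .nconj 0 14, .nconj 0 5, .nconj 0 29, .cmove 0 44, .comm 0 26, .comm 0 43,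
    .comm 23 26, .nconj 0 26, .nconj 0 43, .nconj 0 17, .nconj 0 2, .nconj 0 16, .nconj 0 25, .cmove 0 40]

theorem certC_ok : certC.ok chevF4 = true := by decide +kernel

theorem neg_lt : ∀ s < chevF4.nroots, chevF4.neg s < chevF4.nroots := by decide +kernel

theorem refl_neg : ∀ i < chevF4.rank, ∀ s < chevF4.nroots,
    chevF4.reflectRoot i (chevF4.neg s) = chevF4.neg (chevF4.reflectRoot i s) := by decide +kernel

end Cfsg.Agent.Lib.Helper5_TwoGenCertF4
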