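import Cfsg.Prelude.Def_ChevG2
import Cfsg.Agent.Lib.Helper5_TwoGenChev

/-!
# Two-generation certificates for the Chevalley datum of type G2 (helper5, S2405; generated by a search script)
-/

set_option autoImplicit false
set_option maxRecDepth 1000000

namespace Cfsg.Agent.Lib.Helper5_TwoGenCertG2

open Cfsg Cfsg.Lie Cfsg.Agent.Lib.Helper5_TwoGenAbs Cfsg.Agent.Lib.Helper5_TwoGenChev

/-- certificate for scheme T -/
def certT : CertT where
  word := [0, 1]
  p := 1
  r₁ := 0
  s₁ := 1
  r₂ := 2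
  j := some 1
  steps := [
    .nconj 0 0, .nconj 0 3, .nconj 0 5, .nconj 0 7, .nconj 0 10, .nconj 0 9, .nconj 0 11, .nconj 0 8,
    .comm 0 6, .nconj 0 4]

theorem certT_ok : certT.ok chevG2 [1, -1] (fun c => decide (c = 1 ∨ c = -1)) = true := by decide +kernel

end Cfsg.Agent.Lib.Helper5_TwoGenCertG2
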