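import Cfsg.Agent.Lib.Helper5_TwoGenApi
import Cfsg.Agent.Lib.Helper5_TwoGenCertG2
import Cfsg.Agent.Lib.Helper5_TwoGenCertB2
import Cfsg.Agent.Lib.Helper5_TwoGenCertD4
import Cfsg.Agent.Lib.Helper5_TwoGenCertF4
import Cfsg.Agent.Lib.Helper5_TwoGenCertE6
import Cfsg.Agent.Lib.Helper5_TwoGenCertE7
import Cfsg.Agent.Lib.Helper5_TwoGenCertE8

/-!
# The Chevalley groups of types G₂, B₂, D₄, F₄, E₆, E₇, E₈ over finite fields are generated by two elements
(helper5, S2405)
-/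

set_option autoImplicit false

namespace Cfsg.Agent.Lib.Helper5_TwoGenMain

open Cfsg Cfsg.Lie Cfsg.Agent.Lib.Helper5_TwoGenAbs Cfsg.Agent.Lib.Helper5_TwoGenChev
  Cfsg.Agent.Lib.Helper5_TwoGenApi

open scoped MatrixGroups Matrix

variable {F : Type*} [Field F] [Fintype F]

/-- a generator of the multiplicative group of a finite field -/
theorem exists_gen : ∃ μ : F, μ ≠ 0 ∧ ∀ t : F, t ≠ 0 → ∃ j : ℕ, t = μ ^ j := by
  obtain ⟨g, hg⟩ := IsCyclic.exists_generator (α := Fˣ)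
  refine ⟨(g : F), g.ne_zero, fun t ht => ?_⟩
  have h1 : Units.mk0 t ht ∈ Subgroup.zpowers g := hg _
  rw [← mem_powers_iff_mem_zpowers] at h1
  obtain ⟨j, hj⟩ := h1
  refine ⟨j, ?_⟩
  have := congrArg (fun u : Fˣ => (u : F)) hj
  simp only [Units.val_pow_eq_pow_val, Units.val_mk0] at this
  exact this.symm

theorem gen_ne_one (h2 : Fintype.card F ≠ 2) {μ : F} (hμ : ∀ t : F, t ≠ 0 → ∃ j : ℕ, t = μ ^ j) : μ ≠ 1 := by
  classical
  intro h1
  apply h2
  have huniv : (Finset.univ : Finset F) = {0, 1} := by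
    ext t
    simp only [Finset.mem_univ, Finset.mem_insert, Finset.mem_singleton, true_iff]
    by_cases ht : t = 0
    · left; exact ht
    · right
      obtain ⟨j, hj⟩ := hμ t ht
      rw [hj, h1, one_pow]
  rw [← Finset.card_univ, huniv, Finset.card_pair zero_ne_one]

omit [Fintype F] in
theorem coef1 : ∀ c : ℤ, decide (c = 1 ∨ c = -1) = true → ((c : ℤ) : F) ≠ 0 := by
  intro c hc
  simp only [decide_eq_true_eq] at hc
  rcases hc with rfl | rfl <;> simp

omit [Fintype F] in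
theorem exps1 {μ : F} (hμ : ∀ t : F, t ≠ 0 → ∃ j : ℕ, t = μ ^ j) :
    ∀ e ∈ [(1 : ℤ), -1], ∀ t : F, t ≠ 0 → ∃ j : ℕ, t = (μ ^ e) ^ j := by
  intro e he
  simp only [List.mem_cons, List.not_mem_nil, or_false] at he
  exact gen_zpow_one hμ he

/-- in characteristic two the square of a generator is a generator -/
theorem exps2 (h2 : (2 : F) = 0) {μ : F} (hμ : ∀ t : F, t ≠ 0 → ∃ j : ℕ, t = μ ^ j) :
    ∀ e ∈ [(1 : ℤ), -1, 2, -2], ∀ t : F, t ≠ 0 → ∃ j : ℕ, t = (μ ^ e) ^ j := by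
  have : CharP F 2 := by
    have : ringChar F = 2 := by
      have hdvd : ringChar F ∣ 2 := by
        apply ringChar.dvd
        exact_mod_cast h2
      rcases (Nat.dvd_prime Nat.prime_two).mp hdvd with h | h
      · exact absurd h (CharP.ringChar_ne_one)
      · exact h
    exact this ▸ ringChar.charP F
  have hsq : ∀ t : F, t ≠ 0 → ∃ j : ℕ, t = (μ ^ 2) ^ j := by
    intro t ht
    have hsur : Function.Surjective (frobenius F 2) :=
      (Finite.injective_iff_surjective).mp (frobenius_inj F 2)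
    obtain ⟨u, hu⟩ := hsur t
    have hu0 : u ≠ 0 := by
      rintro rfl
      rw [map_zero] at hu
      exact ht hu.symm
    obtain ⟨j, hj⟩ := hμ u hu0
    refine ⟨j, ?_⟩
    rw [← hu, frobenius_def, hj, ← pow_mul, ← pow_mul, mul_comm]
  intro e he
  simp only [List.mem_cons, List.not_mem_nil, or_false] at he
  rcases he with rfl | rfl | rfl | rfl
  · exact gen_zpow_one hμ (Or.inl rfl)
  · exact gen_zpow_one hμ (Or.inr rfl)
  · intro t ht
    obtain ⟨j, hj⟩ := hsq t ht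
    exact ⟨j, by rw [hj]; norm_cast⟩
  · intro t ht
    obtain ⟨j, hj⟩ := hsq t⁻¹ (inv_ne_zero ht)
    refine ⟨j, ?_⟩
    have e : μ ^ (-2 : ℤ) = (μ ^ 2)⁻¹ := by
      rw [zpow_neg]; norm_cast
    rw [e, inv_pow, ← hj, inv_inv]

omit [Fintype F] in
theorem coef2 (h2 : (2 : F) ≠ 0) :
    ∀ c : ℤ, decide (c = 1 ∨ c = -1 ∨ c = 2 ∨ c = -2) = true → ((c : ℤ) : F) ≠ 0 := by
  intro c hc
  simp only [decide_eq_true_eq] at hc
  rcases hc with rfl | rfl | rfl | rfl
  · simp
  · simp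
  · simpa using h2
  · simpa using h2

/-- **S2405.** -/
theorem two_generated (D : ChevalleyDatum)
    (hD : D ∈ [chevG2, chevB2, chevD4, chevF4, chevE6, chevE7, chevE8])
    (hF : D ∈ [chevB2, chevG2] → ∃ x : F, x ≠ 0 ∧ x ≠ 1) :
    ∃ a b : ↥(D.group F), Subgroup.closure ({a, b} : Set ↥(D.group F)) = ⊤ := by
  by_cases h2 : Fintype.card F = 2
  · -- the field with two elements
    have hnot : D ∉ [chevB2, chevG2] := by
      intro h
      obtain ⟨x, hx0, hx1⟩ := hF h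
      rcases F_cases h2 x with h | h
      · exact hx0 h
      · exact hx1 h
    simp only [List.mem_cons, List.not_mem_nil, or_false, not_or] at hnot
    simp only [List.mem_cons, List.not_mem_nil, or_false] at hD
    rcases hD with rfl | rfl | rfl | rfl | rfl | rfl | rfl
    · exact absurd rfl hnot.2
    · exact absurd rfl hnot.1
    · exact schemeC h2 (api chevD4 (by simp) F) Helper5_TwoGenCertD4.neg_lt Helper5_TwoGenCertD4.refl_neg
        (c3 chevD4 (by simp) F h2) _ Helper5_TwoGenCertD4.certC_ok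
    · exact schemeC h2 (api chevF4 (by simp) F) Helper5_TwoGenCertF4.neg_lt Helper5_TwoGenCertF4.refl_neg
        (c3 chevF4 (by simp) F h2) _ Helper5_TwoGenCertF4.certC_ok
    · exact schemeC h2 (api chevE6 (by simp) F) Helper5_TwoGenCertE6.neg_lt Helper5_TwoGenCertE6.refl_neg
        (c3 chevE6 (by simp) F h2) _ Helper5_TwoGenCertE6.certC_ok
    · exact schemeC h2 (api chevE7 (by simp) F) Helper5_TwoGenCertE7.neg_lt Helper5_TwoGenCertE7.refl_neg
        (c3 chevE7 (by simp) F h2) _ Helper5_TwoGenCertE7.certC_ok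
    · exact schemeC h2 (api chevE8 (by simp) F) Helper5_TwoGenCertE8.neg_lt Helper5_TwoGenCertE8.refl_neg
        (c3 chevE8 (by simp) F h2) _ Helper5_TwoGenCertE8.certC_ok
  · -- at least three elements
    obtain ⟨μ, hμ0, hμ⟩ := exists_gen (F := F)
    have hμ1 : μ ≠ 1 := gen_ne_one h2 hμ
    have A := api D hD F
    simp only [List.mem_cons, List.not_mem_nil, or_false] at hD
    rcases hD with rfl | rfl | rfl | rfl | rfl | rfl | rfl
    · exact schemeT A μ hμ0 hμ hμ1 _ (exps1 hμ) _ coef1 _ Helper5_TwoGenCertG2.certT_ok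
    · by_cases h20 : (2 : F) = 0
      · exact schemeT A μ hμ0 hμ hμ1 _ (exps2 h20 hμ) _ coef1 _ Helper5_TwoGenCertB2.certEven_ok
      · exact schemeT A μ hμ0 hμ hμ1 _ (exps1 hμ) _ (coef2 h20) _ Helper5_TwoGenCertB2.certOdd_ok
    · exact schemeT A μ hμ0 hμ hμ1 _ (exps1 hμ) _ coef1 _ Helper5_TwoGenCertD4.certT_ok
    · exact schemeT A μ hμ0 hμ hμ1 _ (exps1 hμ) _ coef1 _ Helper5_TwoGenCertF4.certT_ok
    · exact schemeT A μ hμ0 hμ hμ1 _ (exps1 hμ) _ coef1 _ Helper5_TwoGenCertE6.certT_ok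
    · exact schemeT A μ hμ0 hμ hμ1 _ (exps1 hμ) _ coef1 _ Helper5_TwoGenCertE7.certT_ok
    · exact schemeT A μ hμ0 hμ hμ1 _ (exps1 hμ) _ coef1 _ Helper5_TwoGenCertE8.certT_ok

end Cfsg.Agent.Lib.Helper5_TwoGenMain
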