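import Mathlib

set_option autoImplicit false

/-!
# U3A-AR4 (S2148 abstract half, architect helper65): arithmetic leaves `arith4A`, `arith4B`
-/

namespace Cfsg.Agent.Lib.Helper5_U3A_AR4

/-- **AR4** (M; pure arithmetic). -/
theorem arith4A {q k r tt cT cT1 : ℕ} (hk : 0 < k) (hq : q = 2 ^ k) (hq2 : 2 < q)
    (hcT : cT * Nat.gcd 3 (q + 1) = q ^ 2 - 1) (hcT1 : cT1 * Nat.gcd 3 (q + 1) = q + 1)
    (htt : tt ∣ cT1) (hr8 : r ≤ 8) (hr2 : 2 ∣ r) (hrq : r ∣ q ^ 3) (hle : cT ≤ r * tt)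
    (hdvd : 2 < r → tt ∣ r / 2 - 1) : q = 8 ∧ r = 8 ∧ tt = 3 := by
  have hcT1pos : 0 < cT1 := by
    rcases Nat.eq_zero_or_pos cT1 with h | h
    · subst h; omega
    · exact h
  have htt_le : tt ≤ cT1 := Nat.le_of_dvd hcT1pos htt
  have htt0 : 0 < tt := Nat.pos_of_dvd_of_pos htt hcT1pos
  rcases Nat.lt_or_ge k 4 with hk4 | hk4
  · -- k ∈ {1,2,3}
    interval_cases k
    · -- q = 2
      omega
    · -- q = 4
      subst hq
      have hg : Nat.gcd 3 (2 ^ 2 + 1) = 1 := by decide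
      rw [hg] at hcT hcT1
      have hcT' : cT = 15 := by norm_num at hcT; exact hcT
      have hcT1' : cT1 = 5 := by norm_num at hcT1; exact hcT1
      subst hcT' hcT1'
      have htt5 : tt = 1 ∨ tt = 5 := (Nat.dvd_prime (by norm_num)).1 htt
      exfalso
      interval_cases r <;> rcases htt5 with rfl | rfl <;> omega
    · -- q = 8
      subst hq
      have hg : Nat.gcd 3 (2 ^ 3 + 1) = 3 := by decide
      rw [hg] at hcT hcT1
      have hcT' : cT = 21 := by norm_num at hcT; omega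
      have hcT1' : cT1 = 3 := by norm_num at hcT1; omega
      subst hcT' hcT1'
      have htt3 : tt = 1 ∨ tt = 3 := (Nat.dvd_prime (by norm_num)).1 htt
      refine ⟨by norm_num, ?_⟩
      interval_cases r <;> rcases htt3 with rfl | rfl <;> omega
  · -- q ≥ 16
    exfalso
    have hq16 : 16 ≤ q := by
      rw [hq]
      calc 16 = 2 ^ 4 := by norm_num
        _ ≤ 2 ^ k := Nat.pow_le_pow_right (by norm_num) hk4
    have hgpos : 0 < Nat.gcd 3 (q + 1) := Nat.gcd_pos_of_pos_left _ (by norm_num)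
    have h8 : (q - 1) * (q + 1) = q ^ 2 - 1 := by
      obtain ⟨s, hs⟩ : ∃ s, q = s + 1 := ⟨q - 1, by omega⟩
      subst hs
      have : (s + 1) ^ 2 = (s + 1 - 1) * (s + 1 + 1) + 1 := by
        simp only [Nat.add_sub_cancel]; ring
      omega
    have hcTeq : cT = (q - 1) * cT1 := by
      apply Nat.eq_of_mul_eq_mul_right hgpos
      rw [hcT, mul_assoc, hcT1, h8]
    have h15 : 15 * cT1 ≤ (q - 1) * cT1 := Nat.mul_le_mul_right _ (by omega)
    have h9 : r * tt ≤ 8 * cT1 := Nat.mul_le_mul hr8 htt_le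
    omega

/-- **AR4**.  `cT = 80`, `r ∈ {3, 9, 27}`. -/
theorem arith4B {q r tt cT : ℕ} (hq : q = 9) (hcT : cT * Nat.gcd 3 (q + 1) = q ^ 2 - 1)
    (htt : tt ∣ 20) (hr27 : r ≤ 27) (hr3 : 3 ∣ r) (hrq : r ∣ q ^ 3) (hle : cT ≤ r * tt)
    (hdvd : 3 < r → tt ∣ r / 3 - 1) : r = 27 ∧ tt = 4 := by
  subst hq
  have hg : Nat.gcd 3 (9 + 1) = 1 := by decide
  rw [hg] at hcT
  have hcT' : cT = 80 := by norm_num at hcT; exact hcT
  subst hcT'
  have htt20 : tt ≤ 20 := Nat.le_of_dvd (by norm_num) htt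
  have hr0 : 0 < r := by
    rcases Nat.eq_zero_or_pos r with h | h
    · subst h; omega
    · exact h
  have hr : r = 3 ∨ r = 9 ∨ r = 27 := by
    have h729 : r ∣ 3 ^ 6 := by
      have : (9 : ℕ) ^ 3 = 3 ^ 6 := by norm_num
      rwa [this] at hrq
    obtain ⟨i, hi6, rfl⟩ := (Nat.dvd_prime_pow Nat.prime_three).1 h729
    interval_cases i <;> simp_all
  rcases hr with rfl | rfl | rfl
  · omega
  · have h2 : tt ∣ 2 := by simpa using hdvd (by norm_num)
    have : tt ≤ 2 := Nat.le_of_dvd (by norm_num) h2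
    omega
  · have h8 : tt ∣ 8 := by simpa using hdvd (by norm_num)
    have hle8 : tt ≤ 8 := Nat.le_of_dvd (by norm_num) h8
    refine ⟨rfl, ?_⟩
    interval_cases tt <;> omega

end Cfsg.Agent.Lib.Helper5_U3A_AR4
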