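import Mathlib

set_option autoImplicit false

/-!
# U3A-AR5 (S2148 abstract half, architect helper65): arithmetic leaves `arith5a`, `arith5b`, `arith6`
-/

namespace Cfsg.Agent.Lib.Helper5_U3A_AR5

/-- **AR5**. -/
theorem arith6 {q : ℕ} (hq3 : 3 ≤ q) (hq5 : q ≠ 5)
    (hD : q - 1 ≤ 2 ∨ (q + 1) * (q - 1) = 12 ∨ (q + 1) * (q - 1) = 24 ∨
      (q + 1) * (q - 1) = 60) : q = 3 := by
  have hq8 : q ≤ 8 := by
    by_contra hcon
    have h1 : 8 ≤ q - 1 := by omega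
    have h2 : 10 ≤ q + 1 := by omega
    have h3 : 80 ≤ (q + 1) * (q - 1) := by nlinarith
    omega
  interval_cases q <;> omega

/-- **AR5**. -/
theorem arith5b {q j e : ℕ} (hq3 : 3 ≤ q) (hq5 : q ≠ 5) (hodd : Odd q) (h3 : 3 ∣ q + 1)
    (hj : j = 1 ∨ j = 2) (he : 2 * e * j = q - 1)
    (hD : e ≤ 2 ∨ (q + 1) * e = 12 ∨ (q + 1) * e = 24 ∨ (q + 1) * e = 60) :
    q = 11 ∧ j = 1 := by
  obtain ⟨m, hm⟩ := hodd
  obtain ⟨n, hn⟩ := h3
  have he0 : 0 < e := by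
    rcases Nat.eq_zero_or_pos e with h | h
    · subst h; omega
    · exact h
  rcases hD with hD | hD | hD | hD
  · have : e = 1 ∨ e = 2 := by omega
    rcases this with rfl | rfl <;> rcases hj with rfl | rfl <;> omega
  all_goals
    have hq60 : q + 1 ≤ 60 := by
      have : (q + 1) * 1 ≤ (q + 1) * e := Nat.mul_le_mul_left _ he0
      omega
    have hq59 : q ≤ 59 := by omega
    rcases hj with rfl | rfl <;> interval_cases q <;> omega

/-- **AR5** (M; pure arithmetic). -/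
theorem arith5a {p q k r tt cT : ℕ} (hp : p.Prime) (hp2 : p ≠ 2) (hk : 0 < k) (hq : q = p ^ k)
    (hcT : cT * Nat.gcd 3 (q + 1) = q ^ 2 - 1) (hr1 : 1 < r) (hrq : r ≤ q) (hrdvd : r ∣ q ^ 3)
    (hle : cT ≤ r * tt) (hdvd : tt ∣ r - 1) :
    3 ∣ q + 1 ∧ r = q ∧ ∃ j : ℕ, (j = 1 ∨ j = 2) ∧ tt * j = q - 1 := by
  have hp3 : 3 ≤ p := by
    have := hp.two_le
    omega
  have hq3 : 3 ≤ q := by
    rw [hq]
    calc 3 ≤ p := hp3
      _ = p ^ 1 := (pow_one p).symm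
      _ ≤ p ^ k := Nat.pow_le_pow_right (by omega) hk
  -- `r = p ^ i`
  have hrd : r ∣ p ^ (k * 3) := by
    rw [pow_mul, ← hq]; exact hrdvd
  obtain ⟨i, -, hri⟩ := (Nat.dvd_prime_pow hp).1 hrd
  have hik : i ≤ k := by
    rw [hri, hq] at hrq
    exact (Nat.pow_le_pow_iff_right hp.one_lt).1 hrq
  have hg : Nat.gcd 3 (q + 1) = 1 ∨ Nat.gcd 3 (q + 1) = 3 := by
    have : Nat.gcd 3 (q + 1) ∣ 3 := Nat.gcd_dvd_left _ _
    exact (Nat.dvd_prime Nat.prime_three).1 this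
  have htt_le : tt ≤ r - 1 := Nat.le_of_dvd (by omega) hdvd
  have hq2 : q ^ 2 = q * q := sq q
  have hqq : 9 ≤ q * q := by nlinarith
  -- lower bound for `cT`
  have hcT3 : q * q - 1 ≤ 3 * cT := by
    rw [← hq2]
    rcases hg with h | h <;> rw [h] at hcT <;> omega
  -- `i = k`
  have hik' : i = k := by
    by_contra hne
    have hlt : i < k := lt_of_le_of_ne hik hne
    -- `r * p ∣ q`, hence `3 * r ≤ q`
    have h3r : 3 * r ≤ q := by
      have h1 : r * p ≤ q := by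
        rw [hri, hq, ← pow_succ]
        exact Nat.pow_le_pow_right hp.pos hlt
      nlinarith
    have h2 : r * tt ≤ r * (r - 1) := Nat.mul_le_mul_left _ htt_le
    -- q*q - 1 ≤ 3 cT ≤ 3 r tt ≤ 3 r (r-1) ≤ q (r-1) ≤ q*(q-1)
    have h4 : 3 * (r * (r - 1)) ≤ q * (r - 1) := by
      have : 3 * r * (r - 1) ≤ q * (r - 1) := Nat.mul_le_mul_right _ h3r
      nlinarith
    have h5 : q * (r - 1) ≤ q * (q - 2) := Nat.mul_le_mul_left _ (by omega)
    obtain ⟨s, hs⟩ : ∃ s, q = s + 3 := ⟨q - 3, by omega⟩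
    subst hs
    have h6 : (s + 3) * (s + 3 - 2) = (s + 3) * (s + 1) := by
      congr 1
    have h7 : (s + 3) * (s + 3) - 1 = (s + 3) * (s + 1) + 2 * s + 5 := by
      have : (s + 3) * (s + 3) = (s + 3) * (s + 1) + 2 * s + 6 := by ring
      omega
    omega
  have hrq' : r = q := by rw [hri, hq, hik']
  subst hrq'
  -- gcd must be 3
  have hg3 : Nat.gcd 3 (r + 1) = 3 := by
    rcases hg with h | h
    · exfalso
      rw [h, hq2] at hcT
      have h2 : r * tt ≤ r * (r - 1) := Nat.mul_le_mul_left _ htt_le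
      obtain ⟨s, hs⟩ : ∃ s, r = s + 3 := ⟨r - 3, by omega⟩
      subst hs
      have h6 : (s + 3) * (s + 3 - 1) = (s + 3) * (s + 2) := by congr 1
      have h7 : (s + 3) * (s + 3) - 1 = (s + 3) * (s + 2) + s + 2 := by
        have : (s + 3) * (s + 3) = (s + 3) * (s + 2) + s + 3 := by ring
        omega
      omega
    · exact h
  have h3dvd : 3 ∣ r + 1 := by
    have := Nat.gcd_dvd_right 3 (r + 1)
    rwa [hg3] at this
  refine ⟨h3dvd, rfl, ?_⟩
  obtain ⟨j, hj⟩ := hdvd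
  refine ⟨j, ?_, hj.symm⟩
  -- (r^2 - 1) = 3 cT ≤ 3 r tt, and (r - 1) = tt * j
  rw [hg3] at hcT
  have htt0 : 0 < tt := by
    rcases Nat.eq_zero_or_pos tt with h | h
    · subst h; omega
    · exact h
  have hj0 : 0 < j := by
    rcases Nat.eq_zero_or_pos j with h | h
    · subst h; omega
    · exact h
  -- (r-1)(r+1) = r^2 - 1
  have h8 : (r - 1) * (r + 1) = r ^ 2 - 1 := by
    obtain ⟨s, hs⟩ : ∃ s, r = s + 1 := ⟨r - 1, by omega⟩
    subst hs
    have : (s + 1) ^ 2 = (s + 1 - 1) * (s + 1 + 1) + 1 := by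
      simp only [Nat.add_sub_cancel]; ring
    omega
  -- tt * j * (r+1) ≤ 3 * r * tt
  have h9 : tt * (j * (r + 1)) ≤ tt * (3 * r) := by
    calc tt * (j * (r + 1)) = (r - 1) * (r + 1) := by rw [hj]; ring
      _ = r ^ 2 - 1 := h8
      _ = cT * 3 := hcT.symm
      _ ≤ (r * tt) * 3 := Nat.mul_le_mul_right _ hle
      _ = tt * (3 * r) := by ring
    
  have h10 : j * (r + 1) ≤ 3 * r := Nat.le_of_mul_le_mul_left h9 htt0
  by_contra hcon
  have hj3 : 3 ≤ j := by omega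
  have : 3 * (r + 1) ≤ j * (r + 1) := Nat.mul_le_mul_right _ hj3
  omega

end Cfsg.Agent.Lib.Helper5_U3A_AR5
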