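import Mathlib
import Cfsg.Agent.Lib.Helper67_UT2Defs
import Cfsg.Agent.Lib.Helper82_T2_KR

set_option autoImplicit false
set_option linter.unusedSectionVars false
set_option linter.unusedVariables false
set_option linter.unusedSimpArgs false

/-!
# UTENS2 package FINU (helper67's market `ut2_packages`): from `1 + X ⊗ ε ε^* ∈ M` with `X21 ≠ 0` to a
transvection `ux (c • rk1h β ε)`, `c ≠ 0` (hermitian twin of `Helper67_T2_FIN`, all characteristics).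
-/

open Module
open Cfsg.Agent.Lib.Helper94_Symp Cfsg.Agent.Lib.Helper94_Herm Cfsg.Agent.Lib.Helper13_PSUSimple
  Cfsg.Agent.Lib.Helper94_FrmDefs Cfsg.Agent.Lib.Helper94_HermEich
  Cfsg.Agent.Lib.Helper67_Tens2Defs Cfsg.Agent.Lib.Helper67_UT2Defs

namespace Cfsg.Agent.Lib.Helper5_UT2_FINU

variable {F W : Type*} [Field F] [Finite F] [AddCommGroup W] [Module F W] [FiniteDimensional F W]
variable {σ : F →+* F} {β : W →ₗ[F] W →ₛₗ[σ] F}

/-- `g` acts as `1 + Y ⊗ ε φ` (`φ` a linear form) -/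
def IsXRh (φ : W →ₗ[F] F) (ε : W) (g : (W × W) ≃ₗ[F] (W × W)) (y11 y12 y21 y22 : F) : Prop :=
  ∀ u u' : W, g (u, u') =
    (u + (y11 * φ u + y12 * φ u') • ε, u' + (y21 * φ u + y22 * φ u') • ε)

theorem isXRh_congr (φ : W →ₗ[F] F) (ε : W) (g : (W × W) ≃ₗ[F] (W × W))
    {y11 y12 y21 y22 z11 z12 z21 z22 : F} (hg : IsXRh φ ε g y11 y12 y21 y22)
    (h11 : y11 = z11) (h12 : y12 = z12) (h21 : y21 = z21) (h22 : y22 = z22) :
    IsXRh φ ε g z11 z12 z21 z22 := by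
  subst h11 h12 h21 h22
  exact hg

theorem isXRh_mul (φ : W →ₗ[F] F) (ε : W) (hε : φ ε = 0)
    (g g' : (W × W) ≃ₗ[F] (W × W)) (y11 y12 y21 y22 z11 z12 z21 z22 : F)
    (hg : IsXRh φ ε g y11 y12 y21 y22) (hg' : IsXRh φ ε g' z11 z12 z21 z22) :
    IsXRh φ ε (g * g') (y11 + z11) (y12 + z12) (y21 + z21) (y22 + z22) := by
  intro u u'
  rw [LinearEquiv.mul_apply, hg', hg]
  simp only [map_add, map_smul, hε, smul_eq_mul, mul_zero, add_zero]
  ext
  · simp only []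
    rw [add_assoc, ← add_smul]
    congr 2
    ring
  · simp only []
    rw [add_assoc, ← add_smul]
    congr 2
    ring

theorem isXRh_inv (φ : W →ₗ[F] F) (ε : W) (hε : φ ε = 0)
    (g : (W × W) ≃ₗ[F] (W × W)) (y11 y12 y21 y22 : F)
    (hg : IsXRh φ ε g y11 y12 y21 y22) :
    IsXRh φ ε g⁻¹ (-y11) (-y12) (-y21) (-y22) := by
  intro u u'
  have h := hg (u + (-y11 * φ u + -y12 * φ u') • ε) (u' + (-y21 * φ u + -y22 * φ u') • ε)
  simp only [map_add, map_smul, hε, smul_eq_mul, mul_zero, add_zero] at h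
  have h' : g (u + (-y11 * φ u + -y12 * φ u') • ε, u' + (-y21 * φ u + -y22 * φ u') • ε)
      = (u, u') := by
    rw [h]
    ext
    · simp only []
      rw [add_assoc, ← add_smul]
      have : -y11 * φ u + -y12 * φ u' + (y11 * φ u + y12 * φ u') = 0 := by ring
      rw [this, zero_smul, add_zero]
    · simp only []
      rw [add_assoc, ← add_smul]
      have : -y21 * φ u + -y22 * φ u' + (y21 * φ u + y22 * φ u') = 0 := by ring
      rw [this, zero_smul, add_zero]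
  rw [← h', inv_apply_apply']

/-- conjugation by `ux (t • id)` -/
theorem isXRh_conj (φ : W →ₗ[F] F) (ε : W)
    (g : (W × W) ≃ₗ[F] (W × W)) (y11 y12 y21 y22 t : F)
    (hg : IsXRh φ ε g y11 y12 y21 y22) :
    IsXRh φ ε (ux (t • (LinearMap.id : W →ₗ[F] W)) * g * ux ((-t) • (LinearMap.id : W →ₗ[F] W)))
      (y11 + t * y21) (y12 + t * (y22 - y11) - t * t * y21) y21 (y22 - t * y21) := by
  intro u u'
  rw [LinearEquiv.mul_apply, LinearEquiv.mul_apply, ux_apply]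
  simp only [LinearMap.smul_apply, LinearMap.id_apply]
  rw [hg, ux_apply]
  simp only [LinearMap.smul_apply, LinearMap.id_apply, map_add, map_smul, LinearMap.add_apply,
    LinearMap.smul_apply, smul_eq_mul, smul_add, smul_smul, neg_smul, map_neg,
    LinearMap.neg_apply]
  ext
  · simp only []
    match_scalars <;> ring
  · simp only []
    congr 2
    ring

/-- conjugation by `hE a` -/
theorem isXRh_conj_hE (φ : W →ₗ[F] F) (ε : W)
    (g : (W × W) ≃ₗ[F] (W × W)) (y11 y12 y21 y22 : F) (a : Fˣ)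
    (hg : IsXRh φ ε g y11 y12 y21 y22) :
    IsXRh φ ε (hE a * g * (hE a)⁻¹)
      y11 ((a : F) * (a : F) * y12) (((a⁻¹ : Fˣ) : F) * ((a⁻¹ : Fˣ) : F) * y21) y22 := by
  intro u u'
  have hinv : (hE a)⁻¹ (u, u') = (((a⁻¹ : Fˣ) : F) • u, (a : F) • u') := rfl
  rw [LinearEquiv.mul_apply, LinearEquiv.mul_apply, hinv, hg, hE_apply]
  simp only [map_smul, smul_eq_mul, smul_add, smul_smul]
  have h1 : (a : F) * ((a⁻¹ : Fˣ) : F) = 1 := by
    rw [← Units.val_mul, mul_inv_cancel, Units.val_one]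
  have h2 : ((a⁻¹ : Fˣ) : F) * (a : F) = 1 := by
    rw [← Units.val_mul, inv_mul_cancel, Units.val_one]
  ext
  · simp only []
    rw [h1, one_smul]
    congr 2
    linear_combination (y11 * φ u) * h1
  · simp only []
    rw [h2, one_smul]
    congr 2
    linear_combination (y22 * φ u') * h2

/-- an element acting as `1 + [[0,c],[0,0]] ⊗ ε ε^*` is the transvection `ux (c • rk1h β ε)` -/
theorem eq_ux_of_isXRh (ε : W) (g : (W × W) ≃ₗ[F] (W × W)) (c : F)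
    (hg : IsXRh (β.flip ε) ε g 0 c 0 0) : g = ux (c • rk1h β ε) := by
  apply LinearEquiv.ext
  rintro ⟨u, u'⟩
  rw [hg u u']
  simp only [ux_apply, LinearMap.smul_apply, rk1h_apply, LinearMap.flip_apply]
  ext
  · simp only [zero_mul, zero_add, smul_smul]
  · simp only [zero_mul, zero_add, zero_smul, add_zero]

/-- FINU : from `1 + X ⊗ ε ε^*  ∈ M` with `X21 ≠ 0` to a transvection `ux (c • rk1h β ε)`, `c ≠ 0` -/
theorem finu (hσ : Invol σ) (hq : ∃ a : F, σ a = a ∧ a ≠ 0 ∧ a ≠ 1)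
    (M : Subgroup ((W × W) ≃ₗ[F] (W × W))) (hM : HypU β M)
    (ε : W) (hε : β ε ε = 0) (x11 x12 x21 x22 : F) (hx : x21 ≠ 0)
    (m : (W × W) ≃ₗ[F] (W × W)) (hm : m ∈ M)
    (hmf : ∀ u u' : W, m (u, u') =
      (u + (x11 * β u ε + x12 * β u' ε) • ε, u' + (x21 * β u ε + x22 * β u' ε) • ε)) :
    ∃ c : F, c ≠ 0 ∧ ux (c • rk1h β ε) ∈ M := by
  have hφ : (β.flip ε) ε = 0 := hε
  have h0 : IsXRh (β.flip ε) ε m x11 x12 x21 x22 := hmf
  -- a nonzero skew element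
  obtain ⟨θ, hθ⟩ := hσ.ne_id
  obtain ⟨t, htdef⟩ : ∃ t, t = θ - σ θ := ⟨_, rfl⟩
  have ht : σ t = -t := by
    rw [htdef, map_sub, hσ.invol]
    ring
  have ht0 : t ≠ 0 := by
    rw [htdef]
    exact sub_ne_zero.2 (Ne.symm hθ)
  have ht' : σ (-t) = - -t := by rw [map_neg, ht]
  have ht'' : σ (- -t) = - - -t := by rw [map_neg, ht']
  have hU1 := hM.ux_mem t ht
  have hU2 := hM.ux_mem (-t) ht'
  have hU3 := hM.ux_mem (- -t) ht''
  by_cases h2 : (2 : F) = 0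
  · -- characteristic 2
    obtain ⟨a, hfix, ha0, ha1⟩ := hq
    have haa : a * a ≠ 1 := by
      intro h
      apply ha1
      have h3 : (a - 1) * (a - 1) = 0 := by linear_combination h + (1 - a) * h2
      have h4 : a - 1 = 0 := by
        rcases mul_eq_zero.1 h3 with h5 | h5 <;> exact h5
      exact sub_eq_zero.1 h4
    have hbb : a⁻¹ * a⁻¹ ≠ 1 := by
      intro h
      apply haa
      have h3 : a * a * (a⁻¹ * a⁻¹) = 1 := by field_simp
      rw [h, mul_one] at h3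
      exact h3
    have hA : hE (Units.mk0 a ha0) ∈ M := hM.hE_mem (Units.mk0 a ha0) (by rw [Units.val_mk0]; exact hfix)
    have hv : ((Units.mk0 a ha0 : Fˣ) : F) = a := Units.val_mk0 ha0
    have hvi : (((Units.mk0 a ha0)⁻¹ : Fˣ) : F) = a⁻¹ := by
      rw [Units.val_inv_eq_inv_val, Units.val_mk0]
    -- first step
    have k1 := isXRh_conj_hE (β.flip ε) ε m x11 x12 x21 x22 (Units.mk0 a ha0) h0
    rw [hv, hvi] at k1
    have k2 := isXRh_inv (β.flip ε) ε hφ _ _ _ _ _ k1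
    have k3 := isXRh_mul (β.flip ε) ε hφ _ _ _ _ _ _ _ _ _ _ h0 k2
    have k4 := isXRh_congr (β.flip ε) ε _ k3 (z11 := 0) (z12 := x12 - a * a * x12)
      (z21 := x21 - a⁻¹ * a⁻¹ * x21) (z22 := 0) (by ring) (by ring) (by ring) (by ring)
    have m1 : m * (hE (Units.mk0 a ha0) * m * (hE (Units.mk0 a ha0))⁻¹)⁻¹ ∈ M :=
      M.mul_mem hm (M.inv_mem (M.mul_mem (M.mul_mem hA hm) (M.inv_mem hA)))
    obtain ⟨g1, hg1⟩ : ∃ g1, g1 = m * (hE (Units.mk0 a ha0) * m * (hE (Units.mk0 a ha0))⁻¹)⁻¹ :=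
      ⟨_, rfl⟩
    rw [← hg1] at k4 m1
    -- second step
    have k5 := isXRh_conj (β.flip ε) ε g1 _ _ _ _ t k4
    have k6 := isXRh_inv (β.flip ε) ε hφ _ _ _ _ _ k4
    have k7 := isXRh_mul (β.flip ε) ε hφ _ _ _ _ _ _ _ _ _ _ k5 k6
    have k8 := isXRh_congr (β.flip ε) ε _ k7 (z11 := t * (x21 - a⁻¹ * a⁻¹ * x21))
      (z12 := -(t * t * (x21 - a⁻¹ * a⁻¹ * x21))) (z21 := 0)
      (z22 := -(t * (x21 - a⁻¹ * a⁻¹ * x21))) (by ring) (by ring) (by ring) (by ring)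
    have m2 : ux (t • (LinearMap.id : W →ₗ[F] W)) * g1 * ux ((-t) • (LinearMap.id : W →ₗ[F] W)) *
        g1⁻¹ ∈ M := M.mul_mem (M.mul_mem (M.mul_mem hU1 m1) hU2) (M.inv_mem m1)
    obtain ⟨g2, hg2⟩ : ∃ g2, g2 = ux (t • (LinearMap.id : W →ₗ[F] W)) * g1 *
        ux ((-t) • (LinearMap.id : W →ₗ[F] W)) * g1⁻¹ := ⟨_, rfl⟩
    rw [← hg2] at k8 m2
    -- third step
    have k9 := isXRh_conj_hE (β.flip ε) ε g2 _ _ _ _ (Units.mk0 a ha0) k8
    rw [hv, hvi] at k9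
    have k10 := isXRh_inv (β.flip ε) ε hφ _ _ _ _ _ k9
    have k11 := isXRh_mul (β.flip ε) ε hφ _ _ _ _ _ _ _ _ _ _ k8 k10
    have k12 := isXRh_congr (β.flip ε) ε _ k11 (z11 := 0)
      (z12 := (a * a - 1) * (t * t * (x21 - a⁻¹ * a⁻¹ * x21))) (z21 := 0) (z22 := 0)
      (by ring) (by ring) (by ring) (by ring)
    have m3 : g2 * (hE (Units.mk0 a ha0) * g2 * (hE (Units.mk0 a ha0))⁻¹)⁻¹ ∈ M :=
      M.mul_mem m2 (M.inv_mem (M.mul_mem (M.mul_mem hA m2) (M.inv_mem hA)))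
    refine ⟨(a * a - 1) * (t * t * (x21 - a⁻¹ * a⁻¹ * x21)), ?_, ?_⟩
    · have e : x21 - a⁻¹ * a⁻¹ * x21 = (1 - a⁻¹ * a⁻¹) * x21 := by ring
      rw [e]
      refine mul_ne_zero (sub_ne_zero.2 haa) (mul_ne_zero (mul_ne_zero ht0 ht0)
        (mul_ne_zero (sub_ne_zero.2 (Ne.symm hbb)) hx))
    · rw [← eq_ux_of_isXRh ε _ _ k12]
      exact m3
  · -- characteristic not 2
    have k1 := isXRh_conj (β.flip ε) ε m _ _ _ _ t h0
    have k2 := isXRh_conj (β.flip ε) ε m _ _ _ _ (-t) h0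
    have ki := isXRh_inv (β.flip ε) ε hφ _ _ _ _ _ h0
    have k12 := isXRh_mul (β.flip ε) ε hφ _ _ _ _ _ _ _ _ _ _ k1 k2
    have k123 := isXRh_mul (β.flip ε) ε hφ _ _ _ _ _ _ _ _ _ _ k12 ki
    have k1234 := isXRh_mul (β.flip ε) ε hφ _ _ _ _ _ _ _ _ _ _ k123 ki
    have k5 := isXRh_congr (β.flip ε) ε _ k1234 (z11 := 0) (z12 := -2 * (t * t) * x21) (z21 := 0)
      (z22 := 0) (by ring) (by ring) (by ring) (by ring)
    have hmem : (ux (t • (LinearMap.id : W →ₗ[F] W)) * m * ux ((-t) • (LinearMap.id : W →ₗ[F] W))) *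
        (ux ((-t) • (LinearMap.id : W →ₗ[F] W)) * m * ux ((- -t) • (LinearMap.id : W →ₗ[F] W))) *
        m⁻¹ * m⁻¹ ∈ M := by
      refine M.mul_mem (M.mul_mem (M.mul_mem ?_ ?_) (M.inv_mem hm)) (M.inv_mem hm)
      · exact M.mul_mem (M.mul_mem hU1 hm) hU2
      · exact M.mul_mem (M.mul_mem hU2 hm) hU3
    refine ⟨-2 * (t * t) * x21, ?_, ?_⟩
    · exact mul_ne_zero (mul_ne_zero (neg_ne_zero.2 h2) (mul_ne_zero ht0 ht0)) hx
    · rw [← eq_ux_of_isXRh ε _ _ k5]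
      exact hmem

end Cfsg.Agent.Lib.Helper5_UT2_FINU
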