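import Mathlib
import Cfsg.Prelude.Def_Characters
import Cfsg.Prelude.Def_Blocks
import Cfsg.Agent.Lib.Helper62_A7Defs
import Cfsg.Agent.Lib.Helper80_CharBasic
import Cfsg.Agent.Lib.Helper17_Sylow
import Cfsg.Agent.Lib.Helper77_BlockBasics
import Cfsg.Agent.Lib.Helper75_SM_Base

/-!
# S0984 package L7-ASM (architect helper62): local analysis at the prime 7 in a simple group of order 2520
-/

set_option autoImplicit false
open Cfsg Cfsg.Agent.Lib.Helper80_CharBasic Cfsg.Agent.Lib.Helper62_A7Defs

namespace Cfsg.Agent.Lib.Helper60_A7_L7_ASM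

open Cfsg.Agent.Lib.Helper17_Sylow Cfsg.Agent.Lib.Helper75_SM_Base Subgroup

/-- the centralizer of an element is the centralizer of the cyclic group it generates -/
theorem centralizer_zpowers {G : Type*} [Group G] (x : G) :
    centralizer ((zpowers x : Subgroup G) : Set G) = centralizer ({x} : Set G) := by
  apply le_antisymm
  · intro g hg
    rw [Subgroup.mem_centralizer_iff] at hg ⊢
    intro y hy
    rw [Set.mem_singleton_iff] at hy
    subst hy
    exact hg y (mem_zpowers y)
  · intro g hg
    rw [Subgroup.mem_centralizer_iff] at hg ⊢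
    intro y hy
    obtain ⟨k, rfl⟩ := Subgroup.mem_zpowers_iff.mp hy
    have hc : Commute x g := hg x (Set.mem_singleton x)
    exact hc.zpow_left k

/-- generic step: a Sylow subgroup of prime order `p` whose normalizer has order `p * r` with `r` prime,
in a simple group of composite order, is self-centralizing -/
theorem self_centralizing {G : Type*} [Group G] [Finite G] [IsSimpleGroup G] {p r : ℕ}
    [hp : Fact p.Prime] (hr : r.Prime) (P : Sylow p G) (hP : Nat.card (P : Subgroup G) = p)
    (hN : Nat.card (normalizer ((P : Subgroup G) : Set G)) = p * r)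
    (hlt : p < Nat.card G) :
    centralizer ((P : Subgroup G) : Set G) = (P : Subgroup G) := by
  have hcyc : IsCyclic (P : Subgroup G) := isCyclic_of_prime_card hP
  have hPC : (P : Subgroup G) ≤ centralizer ((P : Subgroup G) : Set G) :=
    le_centralizer_of_isCyclic _
  have hCN : centralizer ((P : Subgroup G) : Set G) ≤ normalizer ((P : Subgroup G) : Set G) :=
    centralizer_le_normalizer _
  have hd1 : p ∣ Nat.card (centralizer ((P : Subgroup G) : Set G)) := by
    have := Subgroup.card_dvd_of_le hPC
    rwa [hP] at this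
  have hd2 : Nat.card (centralizer ((P : Subgroup G) : Set G)) ∣ p * r := by
    rw [← hN]; exact Subgroup.card_dvd_of_le hCN
  obtain ⟨c, hc⟩ := hd1
  rw [hc] at hd2
  have hcr : c ∣ r := Nat.dvd_of_mul_dvd_mul_left hp.out.pos hd2
  rcases (Nat.dvd_prime hr).1 hcr with h1 | h1
  · symm
    apply Subgroup.eq_of_le_of_card_ge hPC
    rw [hc, h1, mul_one, hP]
  · exfalso
    have hCN' : centralizer ((P : Subgroup G) : Set G) = normalizer ((P : Subgroup G) : Set G) := by
      apply Subgroup.eq_of_le_of_card_ge hCN
      rw [hN, hc, h1]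
    rcases sylow_eq_bot_or_top_of_normalizer_le_centralizer P (by rw [hCN']) with h | h
    · rw [h, Subgroup.card_bot] at hP
      exact hp.out.one_lt.ne hP
    · rw [h, Subgroup.card_top] at hP
      omega

theorem loc7 {G : Type*} [Group G] [Finite G] [IsSimpleGroup G] [Fact (Nat.Prime 7)]
    (hG : Nat.card G = 2520) (h15 : Nat.card (Sylow 7 G) ≠ 15) (h36 : Nat.card (Sylow 7 G) ≠ 36) :
    (∀ P : Sylow 7 G, Nat.card P = 7 ∧
      Nat.card (Subgroup.normalizer ((P : Subgroup G) : Set G)) = 21 ∧
      Subgroup.centralizer ((P : Subgroup G) : Set G) = (P : Subgroup G)) ∧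
    ∀ x : G, orderOf x = 7 → Nat.card (Subgroup.centralizer ({x} : Set G)) = 7 := by
  have hc : Nat.card G = 7 ^ 1 * 360 := by rw [hG]; norm_num
  have hm : ¬ 7 ∣ 360 := by norm_num
  have hna : ¬ IsMulCommutative G :=
    not_isMulCommutative_of_not_prime (by rw [hG]; norm_num)
  have hcand := card_sylow_mem_candidates hc hm
  have hlist : sylowCandidates 7 360 = [1, 8, 15, 36, 120] := by decide
  rw [hlist] at hcand
  have h1 : 1 < Nat.card (Sylow 7 G) := one_lt_card_sylow_of_card hc hm (by norm_num) (by norm_num)
  have h8 : Nat.card (Sylow 7 G) ≠ 8 := by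
    intro h8
    exact perm_kill hna (p := 7) (m := 360) (by norm_num) hc hm h8 315 (by rw [hG]) (by norm_num)
  have h120 : Nat.card (Sylow 7 G) = 120 := by
    simp only [List.mem_cons, List.mem_nil_iff, or_false] at hcand
    rcases hcand with h | h | h | h | h
    · omega
    · exact absurd h h8
    · exact absurd h h15
    · exact absurd h h36
    · exact h
  have hall : ∀ P : Sylow 7 G, Nat.card P = 7 ∧
      Nat.card (Subgroup.normalizer ((P : Subgroup G) : Set G)) = 21 ∧
      Subgroup.centralizer ((P : Subgroup G) : Set G) = (P : Subgroup G) := by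
    intro P
    have hP : Nat.card (P : Subgroup G) = 7 := by
      have := card_sylow_eq_pow hc hm P
      rwa [pow_one] at this
    have hN : Nat.card (normalizer ((P : Subgroup G) : Set G)) = 21 := by
      have := card_normalizer_mul_card_sylow P
      rw [h120, hG] at this
      omega
    refine ⟨hP, hN, ?_⟩
    exact self_centralizing (p := 7) (r := 3) (by norm_num) P hP (by rw [hN]) (by rw [hG]; norm_num)
  refine ⟨hall, ?_⟩
  intro x hx
  obtain ⟨P, hPx⟩ := exists_sylow_eq_zpowers (p := 7) (fun P => (hall P).1) x hx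
  have h3 := (hall P).2.2
  rw [← centralizer_zpowers, ← hPx, h3]
  exact (hall P).1

end Cfsg.Agent.Lib.Helper60_A7_L7_ASM
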